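import Mathlib
import Cfsg.Agent.H19_CA3

set_option autoImplicit false

/-!
Finite groups in which centralizers of involutions are abelian: odd order subgroups are not transitive on involutions.
-/

namespace Cfsg.Agent.H19.CA1

open Cfsg.Agent.H4.Inv Cfsg.Agent.H4.Util Cfsg.Agent.H4.SE

variable {G : Type*} [Group G] [Finite G]

theorem one_add_one_zmod2 : (1 : ZMod 2) + 1 = 0 := by decide

theorem decomp (h : Hyp G) (he : Even (Nat.card G)) {P Q : Sylow 2 G} (hPQ : P ≠ Q) {g : G} (hgP : g • P = P) :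
    ∃ d ∈ DD P Q, g * d⁻¹ ∈ CC P := by
  obtain ⟨t, htP, ht⟩ := exists_inv he P
  have hg' : orderOf (g * t * g⁻¹) = 2 := by rw [orderOf_conj]; exact ht
  have hgi : g⁻¹ • P = P := by rw [inv_smul_eq_iff]; exact hgP.symm
  have hgt : g * t * g⁻¹ ∈ (P : Subgroup G) := (fix_iff hg').1 (by
    rw [mul_smul, mul_smul, hgi, (fix_iff ht).2 htP, hgP])
  obtain ⟨d, hd, hdt⟩ := conj_inv_DD h he hPQ ht hg' htP hgt
  refine ⟨d, hd, (cent_iff h hg' hgt).1 ?_⟩
  change g * d⁻¹ * (g * t * g⁻¹) = g * t * g⁻¹ * (g * d⁻¹)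
  have : g * d⁻¹ * (g * t * g⁻¹) = g * d⁻¹ * (d * t * d⁻¹) := by rw [hdt]
  rw [this]; group

theorem no_odd_trans (h : Hyp G) (he : Even (Nat.card G)) (hTI : TI G) {P₀ Q₀ : Sylow 2 G} (hPQ₀ : P₀ ≠ Q₀) (hm₀ : 1 < mm P₀)
    (R : Subgroup G) (hR : Odd (Nat.card R))
    (htr : ∀ s t : G, orderOf s = 2 → orderOf t = 2 → ∃ r ∈ R, r * s * r⁻¹ = t) : False := by
  classical
  haveI : Fact (Nat.Prime 2) := ⟨Nat.prime_two⟩
  have hm : ∀ P : Sylow 2 G, 1 < mm P := fun P => by rw [mm_eq P P₀]; exact hm₀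
  have hex : ∀ P : Sylow 2 G, ∃ Q, P ≠ Q := by
    intro P
    by_cases hP : P = P₀
    · exact ⟨Q₀, by rw [hP]; exact hPQ₀⟩
    · exact ⟨P₀, hP⟩
  have key : ∀ P : Sylow 2 G, ∃ Q, P ≠ Q ∧ (∀ r ∈ R, r • P = P → r • Q = Q) ∧ ∃ r ∈ R, r ≠ 1 ∧ r • P = P := by
    intro P
    obtain ⟨Q', hQ'⟩ := hex P
    -- nontrivial stabilizer
    have hne : ∃ r ∈ R, r ≠ 1 ∧ r • P = P := by
      obtain ⟨⟨s, hs, hsP⟩, ⟨t, ht, htP⟩, hst⟩ := (Finite.one_lt_card_iff_nontrivial.1 (hm P) :
        Nontrivial {t : G // orderOf t = 2 ∧ t ∈ (P : Subgroup G)})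
      obtain ⟨r, hr, hrt⟩ := htr s t hs ht
      refine ⟨r, hr, ?_, ?_⟩
      · rintro rfl
        apply hst
        apply Subtype.ext
        simpa using hrt
      · apply uniq h ht _ htP
        rw [mem_smul_sylow, ← hrt]
        have e : r⁻¹ * (r * s * r⁻¹) * r = s := by group
        rw [e]; exact hsP
    have hQ : ∃ Q, P ≠ Q ∧ ∃ r ∈ R, r ≠ 1 ∧ r ∈ DD P Q := by
      by_contra hcon
      push Not at hcon
      let RP : Subgroup G := R ⊓ MulAction.stabilizer G P
      have hmem : ∀ r : G, r ∈ RP ↔ r ∈ R ∧ r • P = P := fun r => by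
        rw [Subgroup.mem_inf, MulAction.mem_stabilizer_iff]
      letI act : MulAction RP {S : Sylow 2 G // S ≠ P} :=
        { smul := fun r S => ⟨(r : G) • S.1, fun h0 => S.2 (smul_left_cancel (r : G) (h0.trans ((hmem r).1 r.2).2.symm))⟩
          one_smul := fun S => Subtype.ext (one_smul G S.1)
          mul_smul := fun a b S => Subtype.ext (mul_smul (a : G) (b : G) S.1) }
      have h4 := Cfsg.Agent.H24.FratAut.card_dvd_of_free (A := RP) (X := {S : Sylow 2 G // S ≠ P}) (by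
        intro r S hrS
        by_contra hr1
        exact hcon S.1 (Ne.symm S.2) r ((hmem r).1 r.2).1 (fun h0 => hr1 (Subtype.ext h0)) (mem_DD.2 ⟨((hmem r).1 r.2).2,
          congrArg Subtype.val hrS⟩))
      have h5 : Nat.card {S : Sylow 2 G // S ≠ P} = Nat.card (CC P) := by
        have h6 := card_omega h he hTI hQ' (hm P)
        haveI : Fintype (Sylow 2 G) := Fintype.ofFinite _
        rw [Nat.card_eq_fintype_card, Fintype.card_subtype]
        have : (Finset.univ.filter fun R : Sylow 2 G => R ≠ P) = Finset.univ.erase P := by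
          ext R; simp
        rw [this, Finset.card_erase_of_mem (Finset.mem_univ _), Finset.card_univ, ← Nat.card_eq_fintype_card]
        omega
      rw [h5] at h4
      have h6 : IsPGroup 2 (CC P) := by
        intro x
        refine ⟨1, ?_⟩
        rw [pow_one]
        exact Subtype.ext (CC_invol h he hTI hQ' (hm P) x.2)
      obtain ⟨k, hk⟩ := IsPGroup.iff_card.1 h6
      rw [hk] at h4
      have h7 : Odd (Nat.card RP) := Odd.of_dvd_nat hR (Subgroup.card_dvd_of_le inf_le_left)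
      have h8 : Nat.card RP = 1 := by
        obtain ⟨j, -, hj⟩ := (Nat.dvd_prime_pow Nat.prime_two).1 h4
        rcases Nat.eq_zero_or_pos j with h0 | h0
        · rw [hj, h0, pow_zero]
        · exfalso
          rw [hj] at h7
          exact (Nat.not_even_iff_odd.2 h7) (Nat.even_pow.2 ⟨even_two, by omega⟩)
      obtain ⟨r, hr, hr1, hrP⟩ := hne
      rw [Subgroup.card_eq_one] at h8
      have h9 : r ∈ RP := (hmem r).2 ⟨hr, hrP⟩
      rw [h8] at h9
      exact hr1 (Subgroup.mem_bot.1 h9)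
    obtain ⟨Q, hPQ, r₀, hr₀, hr₀1, hr₀D⟩ := hQ
    have hRcomm : ∀ a ∈ R, a • P = P → ∀ b ∈ R, b • P = P → a * b = b * a := by
      intro a ha haP b hb hbP
      obtain ⟨d, hd, hda⟩ := decomp h he hPQ haP
      obtain ⟨d', hd', hdb⟩ := decomp h he hPQ hbP
      have hact : ∀ (g d : G), d ∈ DD P Q → g * d⁻¹ ∈ CC P → ∀ y ∈ (P : Subgroup G), g * y * g⁻¹ = d * y * d⁻¹ ∧ d * y * d⁻¹ ∈ (P : Subgroup G) := by
        intro g d hd hg y hy
        have h1 : d * y * d⁻¹ ∈ (P : Subgroup G) := by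
          have : d * y * d⁻¹ ∈ ((d • P : Sylow 2 G) : Subgroup G) := by
            rw [mem_smul_sylow]
            have e : d⁻¹ * (d * y * d⁻¹) * d = y := by group
            rw [e]; exact hy
          rw [(mem_DD.1 hd).1] at this
          exact this
        refine ⟨?_, h1⟩
        have h2 := mem_CC.1 hg _ h1
        calc g * y * g⁻¹ = (g * d⁻¹) * (d * y * d⁻¹) * (g * d⁻¹)⁻¹ := by group
          _ = _ := by rw [← h2]; group
      have hw : (b * a)⁻¹ * (a * b) ∈ CC P := by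
        rw [mem_CC]
        intro y hy
        obtain ⟨h1, h1'⟩ := hact b d' hd' hdb y hy
        obtain ⟨h2, h2'⟩ := hact a d hd hda _ h1'
        obtain ⟨h3, h3'⟩ := hact a d hd hda y hy
        obtain ⟨h4, h4'⟩ := hact b d' hd' hdb _ h3'
        have e1 : (a * b) * y * (a * b)⁻¹ = (b * a) * y * (b * a)⁻¹ := by
          calc (a * b) * y * (a * b)⁻¹ = a * (b * y * b⁻¹) * a⁻¹ := by group
            _ = (d * d') * y * (d * d')⁻¹ := by rw [h1, h2]; group
            _ = (d' * d) * y * (d' * d)⁻¹ := by rw [DD_comm h he hTI hPQ hd hd']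
            _ = b * (a * y * a⁻¹) * b⁻¹ := by rw [h3, h4]; group
            _ = _ := by group
        calc y * ((b * a)⁻¹ * (a * b)) = (b * a)⁻¹ * ((b * a) * y * (b * a)⁻¹) * (a * b) := by group
          _ = (b * a)⁻¹ * ((a * b) * y * (a * b)⁻¹) * (a * b) := by rw [e1]
          _ = _ := by group
      have hwR : (b * a)⁻¹ * (a * b) ∈ R := mul_mem (inv_mem (mul_mem hb ha)) (mul_mem ha hb)
      have hw2 := CC_invol h he hTI hPQ (hm P) hw
      rw [pow_two] at hw2
      have := eq_one_of_sq (odd_of_mem hR hwR) hw2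
      rw [inv_mul_eq_one] at this
      exact this.symm
    refine ⟨Q, hPQ, ?_, hne⟩
    intro r hr hrP
    exact (mem_DD.1 ((fix_cent h he hTI hPQ hr₀D hr₀1).1 r (hRcomm r hr hrP r₀ hr₀ (mem_DD.1 hr₀D).1))).2
  choose σ hσ using key
  have hσσ : ∀ P, σ (σ P) = P := by
    intro P
    obtain ⟨h1, h2, r, hr, hr1, hrP⟩ := hσ P
    obtain ⟨h1', h2', -⟩ := hσ (σ P)
    have h3 := h2 r hr hrP
    have h4 := h2' r hr h3
    rcases (fix_cent h he hTI h1 (mem_DD.2 ⟨hrP, h3⟩) hr1).2 _ h4 with h5 | h5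
    · exact h5
    · exact absurd h5.symm h1'
  haveI : Fintype (Sylow 2 G) := Fintype.ofFinite _
  have h1 : ∑ _P : Sylow 2 G, (1 : ZMod 2) = 0 := by
    apply Finset.sum_ninvolution σ
    · intro a; exact one_add_one_zmod2
    · intro a _; exact (hσ a).1.symm
    · intro a; exact Finset.mem_univ _
    · exact hσσ
  rw [Finset.sum_const, Finset.card_univ, nsmul_eq_mul, mul_one, ZMod.natCast_eq_zero_iff, ← Nat.card_eq_fintype_card] at h1
  have h2 := card_sylow_modEq_one 2 G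
  unfold Nat.ModEq at h2
  omega

/-- two commuting involutions -/
def HC (G : Type*) [Group G] : Prop := ∃ s t : G, orderOf s = 2 ∧ orderOf t = 2 ∧ s ≠ t ∧ Commute s t

/-- two non-commuting involutions -/
def HN (G : Type*) [Group G] : Prop := ∃ s t : G, orderOf s = 2 ∧ orderOf t = 2 ∧ ¬ Commute s t

theorem HC.even (hc : HC G) : Even (Nat.card G) := by
  obtain ⟨s, t, hs, -⟩ := hc
  exact even_iff_two_dvd.2 (hs ▸ orderOf_dvd_natCard s)

theorem HC.mm (h : Hyp G) (hc : HC G) (P : Sylow 2 G) : 1 < mm P := by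
  obtain ⟨s, t, hs, ht, hst, hcomm⟩ := hc
  obtain ⟨R, hsR⟩ := exists_sylow_mem hs
  have htR : t ∈ (R : Subgroup G) := (fix_iff ht).1 (smul_eq_of_CC ((cent_iff h hs hsR).1 hcomm.symm))
  rw [mm_eq P R]
  haveI : Nontrivial {t : G // orderOf t = 2 ∧ t ∈ (R : Subgroup G)} :=
    ⟨⟨s, hs, hsR⟩, ⟨t, ht, htR⟩, fun h0 => hst (congrArg Subtype.val h0)⟩
  exact Finite.one_lt_card

theorem HN.ne (h : Hyp G) (hn : HN G) : ∃ P Q : Sylow 2 G, P ≠ Q := by
  obtain ⟨s, t, hs, ht, hst⟩ := hn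
  obtain ⟨P, hsP⟩ := exists_sylow_mem hs
  obtain ⟨Q, htQ⟩ := exists_sylow_mem ht
  refine ⟨P, Q, ?_⟩
  rintro rfl
  exact hst (sylow_comm h P s hsP t htQ)

omit [Finite G] in
theorem Hyp.of_injective {X : Type*} [Group X] (h : Hyp G) (f : X →* G) (hf : Function.Injective f) : Hyp X := by
  intro t ht a b ha hb
  apply hf
  rw [map_mul, map_mul]
  exact h (f t) (by rw [orderOf_injective f hf, ht]) (f a) (f b) (ha.map f) (hb.map f)

/-- TI from centralizers of exponent two -/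
theorem TI.of_exp (h : Hyp G) (he : Even (Nat.card G)) (hX : ∀ s y : G, orderOf s = 2 → Commute y s → y ^ 2 = 1) : TI G := by
  intro P x hx hx1 g hg
  obtain ⟨t, htP, ht⟩ := exists_inv he P
  have h2 := hX t x ht ((cent_iff h ht htP).2 hx)
  have hx2 : orderOf x = 2 := orderOf_eq_prime h2 hx1
  have hxP : x ∈ (P : Subgroup G) := (fix_iff hx2).1 (smul_eq_of_CC hx)
  exact smul_eq_of_CC ((cent_iff h hx2 hxP).1 hg)

end Cfsg.Agent.H19.CA1
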