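import Mathlib
import Cfsg.Agent.H19_CA4

set_option autoImplicit false

/-!
Finite groups in which centralizers of involutions are abelian: the local case.
-/

namespace Cfsg.Agent.H19.CA1

open Cfsg.Agent.H4.Inv Cfsg.Agent.H4.Util Cfsg.Agent.H4.SE

variable {G : Type*} [Group G] [Finite G]

theorem fst_inv {X A : Type*} [Group X] [Group A] [Finite A] (hA : Odd (Nat.card A)) {p : X × A} (hp : orderOf p = 2) :
    p.2 = 1 ∧ orderOf p.1 = 2 := by
  have h1 : p * p = 1 := mul_self hp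
  have h2 : p.2 * p.2 = 1 := congrArg Prod.snd h1
  have h3 : p.1 * p.1 = 1 := congrArg Prod.fst h1
  have h4 : p.2 = 1 := eq_one_of_sq (Odd.of_dvd_nat hA (orderOf_dvd_natCard _)) h2
  refine ⟨h4, orderOf_eq_two_of ?_ h3⟩
  intro h5
  exact ne_one hp (Prod.ext h5 h4)

theorem pair_inv {X A : Type*} [Group X] [Group A] {s : X} (hs : orderOf s = 2) : orderOf ((s, 1) : X × A) = 2 :=
  orderOf_eq_two_of (fun h => ne_one hs (congrArg Prod.fst h)) (Prod.ext (mul_self hs) (mul_one 1))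

theorem no_local (h : Hyp G) (hc : HC G) {P : Sylow 2 G} {x g : G} (hxP : x ∈ CC P) (hg : Commute g x)
    (hgP : g • P ≠ P) (hMt : Subgroup.centralizer ({x} : Set G) ≠ ⊤) {X A : Type*} [Group X] [Finite X] [Group A] [Finite A]
    (hA : Odd (Nat.card A)) (e : Subgroup.centralizer ({x} : Set G) ≃* X × A)
    (hX : ∀ s y : X, orderOf s = 2 → Commute y s → y ^ 2 = 1) : False := by
  classical
  haveI : Fact (Nat.Prime 2) := ⟨Nat.prime_two⟩
  have he := HC.even hc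
  set M := Subgroup.centralizer ({x} : Set G) with hM
  have hmem : ∀ y : G, y ∈ M ↔ Commute y x := fun y => Subgroup.mem_centralizer_singleton_iff
  have hCM : CC P ≤ M := fun y hy => (hmem y).2 (CC_comm h he P y hy x hxP)
  have hPM : (P : Subgroup G) ≤ M := (le_CC h P).trans hCM
  have hgM : g ∈ M := (hmem g).2 hg
  have hypM : Hyp M := h.of_injective M.subtype M.subtype_injective
  -- commuting and noncommuting involutions
  have hcM : HC M := by
    obtain ⟨⟨s, hs, hsP⟩, ⟨t, ht, htP⟩, hst⟩ := (Finite.one_lt_card_iff_nontrivial.1 (HC.mm h hc P) :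
        Nontrivial {t : G // orderOf t = 2 ∧ t ∈ (P : Subgroup G)})
    refine ⟨⟨s, hPM hsP⟩, ⟨t, hPM htP⟩, by rw [← Subgroup.orderOf_coe]; exact hs, by rw [← Subgroup.orderOf_coe]; exact ht, ?_, ?_⟩
    · intro h0; exact hst (Subtype.ext (show s = t from congrArg (fun z : M => (z : G)) h0))
    · exact Subtype.ext (sylow_comm h P s hsP t htP)
  obtain ⟨s₀, hs₀P, hs₀⟩ := exists_inv he P
  have hnM : HN M := by
    have ho : orderOf (g * s₀ * g⁻¹) = 2 := by rw [orderOf_conj]; exact hs₀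
    refine ⟨⟨s₀, hPM hs₀P⟩, ⟨g * s₀ * g⁻¹, mul_mem (mul_mem hgM (hPM hs₀P)) (inv_mem hgM)⟩,
      by rw [← Subgroup.orderOf_coe]; exact hs₀, by rw [← Subgroup.orderOf_coe]; exact ho, ?_⟩
    intro hcomm
    have h1 : Commute (g * s₀ * g⁻¹) s₀ := (congrArg Subtype.val hcomm).symm
    have h2 : g * s₀ * g⁻¹ ∈ (P : Subgroup G) := (fix_iff ho).1 (smul_eq_of_CC ((cent_iff h hs₀ hs₀P).1 h1))
    apply hgP
    apply uniq h ho _ h2
    rw [mem_smul_sylow]
    have e : g⁻¹ * (g * s₀ * g⁻¹) * g = s₀ := by group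
    rw [e]; exact hs₀P
  have heM := HC.even hcM
  obtain ⟨P', Q', hPQ'⟩ := HN.ne hypM hnM
  have hSEM := stronglyEmbedded hypM heM hPQ'
  -- all involutions of M are conjugate in M
  have hconj : ∀ s t : G, s ∈ M → t ∈ M → orderOf s = 2 → orderOf t = 2 → ∃ m ∈ M, m * s * m⁻¹ = t := by
    intro s t hs ht hs2 ht2
    obtain ⟨m, hm⟩ := isConj_iff.1 (isConj_invol hSEM (s := ⟨s, hs⟩) (t := ⟨t, ht⟩) (by rw [← Subgroup.orderOf_coe]; exact hs2)
      (by rw [← Subgroup.orderOf_coe]; exact ht2))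
    exact ⟨m, m.2, congrArg Subtype.val hm⟩
  -- M is strongly embedded
  have hSE : Cfsg.IsStronglyEmbedded M := by
    refine ⟨hMt, heM, ?_⟩
    intro b hb
    rw [← Nat.not_even_iff_odd]
    intro heven
    obtain ⟨t, ht⟩ := exists_prime_orderOf_dvd_card' (G := ↥(M ⊓ M.map (MulAut.conj b).toMonoidHom)) 2 heven.two_dvd
    have ht2 : orderOf (t : G) = 2 := by rw [Subgroup.orderOf_coe]; exact ht
    obtain ⟨h1, h2⟩ := (mem_inf_conj _ b (t : G)).mp t.2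
    have ht3 : orderOf (b⁻¹ * t * b) = 2 := by
      have := orderOf_conj b⁻¹ (t : G)
      rw [inv_inv] at this
      rw [this, ht2]
    obtain ⟨m₁, hm₁, e₁⟩ := hconj t s₀ h1 (hPM hs₀P) ht2 hs₀
    obtain ⟨m₂, hm₂, e₂⟩ := hconj _ s₀ h2 (hPM hs₀P) ht3 hs₀
    have hcom : Commute (m₂ * b⁻¹ * m₁⁻¹) s₀ := by
      change m₂ * b⁻¹ * m₁⁻¹ * s₀ = s₀ * (m₂ * b⁻¹ * m₁⁻¹)
      calc m₂ * b⁻¹ * m₁⁻¹ * s₀ = m₂ * b⁻¹ * m₁⁻¹ * (m₁ * t * m₁⁻¹) := by rw [e₁]
        _ = (m₂ * (b⁻¹ * t * b) * m₂⁻¹) * (m₂ * b⁻¹ * m₁⁻¹) := by group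
        _ = _ := by rw [e₂]
    have h3 : m₂ * b⁻¹ * m₁⁻¹ ∈ M := hCM ((cent_iff h hs₀ hs₀P).1 hcom)
    apply hb
    have h4 := mul_mem (mul_mem (inv_mem hm₂) h3) hm₁
    have e : m₂⁻¹ * (m₂ * b⁻¹ * m₁⁻¹) * m₁ = b⁻¹ := by group
    rw [e] at h4
    simpa using inv_mem h4
  obtain ⟨b, hb⟩ : ∃ b, b ∉ M := by
    by_contra hcon
    push Not at hcon
    exact hMt (eq_top_iff.2 fun y _ => hcon y)
  have hu : orderOf (b⁻¹ * s₀ * b) = 2 := by
    have := orderOf_conj b⁻¹ (s₀ : G)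
    rw [inv_inv] at this
    rw [this, hs₀]
  have huM : b⁻¹ * s₀ * b ∉ M := fun h1 => hb (mem_of_invol hSE hs₀ (hPM hs₀P) h1)
  set u := b⁻¹ * s₀ * b with hudef
  set D := M ⊓ M.map (MulAut.conj u).toMonoidHom with hD
  have hDodd : Odd (Nat.card D) := hSE.2.2 u huM
  have hxy : (QuotientGroup.mk 1 : G ⧸ M) ≠ QuotientGroup.mk u := by
    intro h0
    rw [QuotientGroup.eq] at h0
    exact huM (by simpa using h0)
  have hDtr : ∀ s t : G, s ∈ M → t ∈ M → orderOf s = 2 → orderOf t = 2 → ∃ d ∈ D, d * s * d⁻¹ = t := by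
    intro s t hs ht hs2 ht2
    obtain ⟨d, h1, h2, h3⟩ := conj_two_point hSE hxy hs2 ht2 (by rw [smul_mk_eq_iff]; simpa using hs)
      (by rw [smul_mk_eq_iff]; simpa using ht)
    rw [smul_mk_eq_iff] at h1 h2
    exact ⟨d, (mem_inf_conj M u d).2 ⟨by simpa using h1, h2⟩, h3⟩
  -- transfer to X
  let f : M →* X := (MonoidHom.fst X A).comp e.toMonoidHom
  have hf : ∀ s : M, orderOf s = 2 → e s = (f s, 1) ∧ orderOf (f s) = 2 := by
    intro s hs
    have h1 : orderOf (e s) = 2 := by rw [MulEquiv.orderOf_eq]; exact hs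
    obtain ⟨h2, h3⟩ := fst_inv hA h1
    exact ⟨Prod.ext rfl h2, h3⟩
  let ι : X →* M := e.symm.toMonoidHom.comp (MonoidHom.inl X A)
  have hι : Function.Injective ι := e.symm.injective.comp (fun a b hab => congrArg Prod.fst hab)
  have hfι : ∀ s : X, f (ι s) = s := by
    intro s
    change (e (e.symm (s, 1))).1 = s
    rw [MulEquiv.apply_symm_apply]
  have hypX : Hyp X := hypM.of_injective ι hι
  have hcX : HC X := by
    obtain ⟨s, t, hs, ht, hst, hcomm⟩ := hcM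
    obtain ⟨h1, h2⟩ := hf s hs
    obtain ⟨h3, h4⟩ := hf t ht
    refine ⟨f s, f t, h2, h4, ?_, hcomm.map f⟩
    intro h5
    apply hst
    apply e.injective
    rw [h1, h3, h5]
  have hnX : HN X := by
    obtain ⟨s, t, hs, ht, hst⟩ := hnM
    obtain ⟨h1, h2⟩ := hf s hs
    obtain ⟨h3, h4⟩ := hf t ht
    refine ⟨f s, f t, h2, h4, ?_⟩
    intro h5
    apply hst
    apply e.injective
    rw [map_mul, map_mul, h1, h3]
    exact Prod.ext h5.eq rfl
  have heX := HC.even hcX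
  obtain ⟨P₁, Q₁, hPQ₁⟩ := HN.ne hypX hnX
  refine no_odd_trans hypX heX (TI.of_exp hypX heX hX) hPQ₁ (HC.mm hypX hcX P₁) ((D.subgroupOf M).map f) ?_ ?_
  · refine Odd.of_dvd_nat ?_ (Subgroup.card_map_dvd (D.subgroupOf M) f)
    rw [Nat.card_congr (Subgroup.subgroupOfEquivOfLe (inf_le_left : D ≤ M)).toEquiv]
    exact hDodd
  · intro s t hs ht
    have h1 : orderOf ((ι s : M) : G) = 2 := by rw [Subgroup.orderOf_coe, orderOf_injective ι hι, hs]
    have h2 : orderOf ((ι t : M) : G) = 2 := by rw [Subgroup.orderOf_coe, orderOf_injective ι hι, ht]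
    obtain ⟨d, hd, hdt⟩ := hDtr _ _ (ι s).2 (ι t).2 h1 h2
    have hdM : d ∈ M := hd.1
    refine ⟨f ⟨d, hdM⟩, ⟨⟨d, hdM⟩, Subgroup.mem_subgroupOf.2 hd, rfl⟩, ?_⟩
    have h3 : (⟨d, hdM⟩ : M) * ι s * (⟨d, hdM⟩ : M)⁻¹ = ι t := Subtype.ext hdt
    rw [← hfι t, ← h3, map_mul, map_mul, map_inv, hfι]

end Cfsg.Agent.H19.CA1
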