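import Mathlib

set_option autoImplicit false

/-! The set of element orders of `PSL(2,q)`. -/

namespace Cfsg.Agent.H21.SpecPSL2

open Matrix

variable {F : Type*} [Field F]

section pow
variable {R : Type*} [CommRing R] {n : Type*} [Fintype n] [DecidableEq n]

theorem pow_formula (A : Matrix n n R) (l m : R) (hA : A * A = (l + m) • A - (l * m) • (1 : Matrix n n R)) (k : ℕ) :
    (l - m) • A ^ k = (l ^ k - m ^ k) • A - (l ^ k * m - m ^ k * l) • (1 : Matrix n n R) := by
  induction k with
  | zero =>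
    simp only [pow_zero, sub_self, zero_smul, zero_sub, one_mul]
    rw [← neg_smul]; congr 1; ring
  | succ k ih =>
    rw [pow_succ, ← smul_mul_assoc, ih, sub_mul, smul_mul_assoc, smul_mul_assoc, one_mul, hA]
    rw [smul_sub, smul_smul, smul_smul]
    have e1 : ((l ^ k - m ^ k) * (l + m)) • A - ((l ^ k - m ^ k) * (l * m)) • (1 : Matrix n n R) - (l ^ k * m - m ^ k * l) • A
      = ((l ^ k - m ^ k) * (l + m) - (l ^ k * m - m ^ k * l)) • A - ((l ^ k - m ^ k) * (l * m)) • (1 : Matrix n n R) := by
      rw [sub_smul ((l ^ k - m ^ k) * (l + m))]; abel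
    rw [e1]
    congr 2 <;> ring

end pow

theorem sq_eq (A : SpecialLinearGroup (Fin 2) F) : A.1 * A.1 = (A.1 0 0 + A.1 1 1) • A.1 - (1 : Matrix (Fin 2) (Fin 2) F) := by
  have hd : A.1 0 0 * A.1 1 1 - A.1 0 1 * A.1 1 0 = 1 := by
    rw [← Matrix.det_fin_two]; exact A.2
  ext i j
  fin_cases i <;> fin_cases j <;> simp [Matrix.mul_apply, Fin.sum_univ_two] <;> first | linear_combination -hd | ring

/-- the order in `PSL` is read off from powers that are `± 1` -/
theorem mk_pow_eq_one_iff (A : SpecialLinearGroup (Fin 2) F) (n : ℕ) :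
    (QuotientGroup.mk A : ProjectiveSpecialLinearGroup (Fin 2) F) ^ n = 1 ↔
      ∃ e : F, e ^ 2 = 1 ∧ A.1 ^ n = e • (1 : Matrix (Fin 2) (Fin 2) F) := by
  rw [← QuotientGroup.mk_pow]
  erw [QuotientGroup.eq_one_iff]
  rw [Matrix.SpecialLinearGroup.mem_center_iff]
  simp only [Fintype.card_fin]
  constructor
  · rintro ⟨r, hr, h⟩
    refine ⟨r, hr, ?_⟩
    rw [← Matrix.SpecialLinearGroup.coe_pow, ← h, Matrix.smul_one_eq_diagonal]; rfl
  · rintro ⟨r, hr, h⟩
    refine ⟨r, hr, ?_⟩
    rw [Matrix.SpecialLinearGroup.coe_pow, h, Matrix.smul_one_eq_diagonal]; rfl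


section closed

variable {O : Type*} [Field O] [Algebra F O]

/-- the order of the image in `PSL` is the order of the square of an eigenvalue, if the eigenvalues are distinct -/
theorem mk_pow_iff_of_eigen (A : SpecialLinearGroup (Fin 2) F) (l m : O) (hlm : l * m = 1) (hne : l ≠ m)
    (htr : algebraMap F O (A.1 0 0 + A.1 1 1) = l + m) (n : ℕ) :
    (QuotientGroup.mk A : ProjectiveSpecialLinearGroup (Fin 2) F) ^ n = 1 ↔ (l ^ 2) ^ n = 1 := by
  rw [mk_pow_eq_one_iff]
  set B : Matrix (Fin 2) (Fin 2) O := A.1.map (algebraMap F O) with hB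
  have hBB : B * B = (l + m) • B - (l * m) • (1 : Matrix (Fin 2) (Fin 2) O) := by
    have h := congrArg (fun M : Matrix (Fin 2) (Fin 2) F => M.map (algebraMap F O)) (sq_eq A)
    simp only [Matrix.map_mul] at h
    rw [← hB] at h
    rw [h, ← htr, hlm, one_smul]
    ext i j
    simp only [Matrix.map_apply, Matrix.sub_apply, Matrix.smul_apply, smul_eq_mul, map_sub, map_mul, hB]
    congr 1
    fin_cases i <;> fin_cases j <;> simp
  have hf := pow_formula B l m hBB n
  have hBn : B ^ n = (A.1 ^ n).map (algebraMap F O) := by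
    rw [hB]; exact ((algebraMap F O).mapMatrix.map_pow A.1 n).symm
  have hl0 : l ≠ 0 := left_ne_zero_of_mul_eq_one hlm
  constructor
  · rintro ⟨e, he, hA⟩
    -- l ^ n = e
    have hBe : B ^ n = (algebraMap F O e) • (1 : Matrix (Fin 2) (Fin 2) O) := by
      rw [hBn, hA]
      ext i j
      simp only [Matrix.map_apply, Matrix.smul_apply, smul_eq_mul, map_mul]
      congr 1
      fin_cases i <;> fin_cases j <;> simp
    have hlmn : l ^ n = m ^ n := by
      by_contra hnlm
      rw [hBe] at hf
      have h01 := congrFun (congrFun hf 0) 1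
      have h10 := congrFun (congrFun hf 1) 0
      have h00 := congrFun (congrFun hf 0) 0
      have h11 := congrFun (congrFun hf 1) 1
      simp only [Matrix.smul_apply, Matrix.sub_apply, smul_eq_mul, Matrix.one_apply_eq, mul_one,
        Matrix.one_apply_ne (show (0 : Fin 2) ≠ 1 by decide), Matrix.one_apply_ne (show (1 : Fin 2) ≠ 0 by decide), mul_zero, sub_zero] at h01 h10 h00 h11
      have hd : l ^ n - m ^ n ≠ 0 := sub_ne_zero.mpr hnlm
      have b01 : B 0 1 = 0 := (mul_eq_zero.mp h01.symm).resolve_left hd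
      have b10 : B 1 0 = 0 := (mul_eq_zero.mp h10.symm).resolve_left hd
      have b0 : (l ^ n - m ^ n) * (B 0 0 - B 1 1) = 0 := by linear_combination h11 - h00
      have b1 : B 0 0 = B 1 1 := sub_eq_zero.mp ((mul_eq_zero.mp b0).resolve_left hd)
      have ht : B 0 0 + B 1 1 = l + m := by rw [← htr, map_add]; rfl
      have hdet : B 0 0 * B 1 1 - B 0 1 * B 1 0 = 1 := by
        have h1 : A.1 0 0 * A.1 1 1 - A.1 0 1 * A.1 1 0 = 1 := by
          rw [← Matrix.det_fin_two]; exact A.2
        have h2 := congrArg (algebraMap F O) h1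
        rw [map_sub, map_mul, map_mul, map_one] at h2
        exact h2
      have h3 : (l - m) ^ 2 = 0 := by
        rw [b01, b1] at hdet
        rw [b1] at ht
        linear_combination (-(l + m) - 2 * B 1 1) * ht - 4 * hlm + 4 * hdet
      exact hne (sub_eq_zero.mp (pow_eq_zero_iff (by norm_num) |>.mp h3))
    calc (l ^ 2) ^ n = l ^ n * l ^ n := by ring
      _ = l ^ n * m ^ n := by rw [← hlmn]
      _ = (l * m) ^ n := by rw [mul_pow]
      _ = 1 := by rw [hlm, one_pow]
  · intro h
    have h1 : l ^ n * l ^ n = 1 := by rw [← h]; ring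
    have h2 : l ^ n * m ^ n = 1 := by rw [← mul_pow, hlm, one_pow]
    have hln0 : l ^ n ≠ 0 := pow_ne_zero _ hl0
    have h3 : m ^ n = l ^ n := mul_left_cancel₀ hln0 (h2.trans h1.symm)
    have hd : l - m ≠ 0 := sub_ne_zero.mpr hne
    have h4 : B ^ n = l ^ n • (1 : Matrix (Fin 2) (Fin 2) O) := by
      rw [h3, sub_self, zero_smul, zero_sub, ← neg_smul] at hf
      have e : -(l ^ n * m - l ^ n * l) = (l - m) * l ^ n := by ring
      rw [e, ← smul_smul] at hf
      exact smul_right_injective _ hd hf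
    have h5 : l ^ n = 1 ∨ l ^ n = -1 := mul_self_eq_one_iff.mp h1
    obtain ⟨e, he, hel⟩ : ∃ e : F, e ^ 2 = 1 ∧ algebraMap F O e = l ^ n := by
      rcases h5 with h5 | h5
      · exact ⟨1, by norm_num, by rw [h5, map_one]⟩
      · exact ⟨-1, by norm_num, by rw [h5, map_neg, map_one]⟩
    refine ⟨e, he, ?_⟩
    rw [hBn, ← hel] at h4
    ext i j
    have h6 := congrFun (congrFun h4 i) j
    apply (algebraMap F O).injective
    rw [Matrix.map_apply] at h6
    rw [h6]
    simp only [Matrix.smul_apply, smul_eq_mul, map_mul]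
    congr 1
    fin_cases i <;> fin_cases j <;> simp

theorem orderOf_mk_of_eigen (A : SpecialLinearGroup (Fin 2) F) (l m : O) (hlm : l * m = 1) (hne : l ≠ m)
    (htr : algebraMap F O (A.1 0 0 + A.1 1 1) = l + m) :
    orderOf (QuotientGroup.mk A : ProjectiveSpecialLinearGroup (Fin 2) F) = orderOf (l ^ 2) := by
  rw [orderOf_eq_orderOf_iff]
  exact fun n => mk_pow_iff_of_eigen A l m hlm hne htr n

end closed

section finite

variable [Fintype F]

/-- every element order divides one of the three numbers -/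
theorem order_dvd (p : ℕ) [Fact p.Prime] [CharP F p] (x : ProjectiveSpecialLinearGroup (Fin 2) F) :
    orderOf x ∣ p ∨ orderOf x ∣ (Fintype.card F - 1) / Nat.gcd 2 (Fintype.card F - 1) ∨
      orderOf x ∣ (Fintype.card F + 1) / Nat.gcd 2 (Fintype.card F - 1) := by
  obtain ⟨A, rfl⟩ := QuotientGroup.mk_surjective x
  set t := A.1 0 0 + A.1 1 1 with ht
  -- root of X^2 - t X + 1 in the algebraic closure
  obtain ⟨l, hl⟩ : ∃ l : AlgebraicClosure F, l ^ 2 - algebraMap F _ t * l + 1 = 0 := by
    obtain ⟨l, hl⟩ := IsAlgClosed.exists_root ((Polynomial.X ^ 2 - Polynomial.C (algebraMap F (AlgebraicClosure F) t) * Polynomial.X + 1 : Polynomial (AlgebraicClosure F))) (by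
      have : (Polynomial.X ^ 2 - Polynomial.C (algebraMap F (AlgebraicClosure F) t) * Polynomial.X + 1 : Polynomial (AlgebraicClosure F)).degree = 2 := by
        compute_degree!
      rw [this]; norm_num)
    refine ⟨l, ?_⟩
    simpa [Polynomial.IsRoot.def] using hl
  have hl0 : l ≠ 0 := by
    rintro rfl
    simp at hl
  set m := l⁻¹ with hm
  have hlm : l * m = 1 := mul_inv_cancel₀ hl0
  have htr : algebraMap F (AlgebraicClosure F) t = l + m := by
    have : (algebraMap F (AlgebraicClosure F) t - (l + m)) * l = 0 := by linear_combination -hl - hlm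
    exact sub_eq_zero.mp ((mul_eq_zero.mp this).resolve_right hl0)
  by_cases hne : l = m
  · -- unipotent up to sign
    left
    have hl2 : l * l = 1 := by rw [← hne] at hlm; exact hlm
    have hl1 : l = 1 ∨ l = -1 := mul_self_eq_one_iff.mp hl2
    obtain ⟨e, he, hel⟩ : ∃ e : F, e ^ 2 = 1 ∧ algebraMap F (AlgebraicClosure F) e = l := by
      rcases hl1 with h5 | h5
      · exact ⟨1, by norm_num, by rw [h5, map_one]⟩
      · exact ⟨-1, by norm_num, by rw [h5, map_neg, map_one]⟩
    have hte : t = 2 * e := by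
      apply (algebraMap F (AlgebraicClosure F)).injective
      rw [htr, ← hne, map_mul, hel, map_ofNat]; ring
    apply orderOf_dvd_of_pow_eq_one
    rw [mk_pow_eq_one_iff]
    refine ⟨e ^ p, by rw [← pow_mul, mul_comm, pow_mul, he, one_pow], ?_⟩
    -- A = e + N
    have hN : (A.1 - e • (1 : Matrix (Fin 2) (Fin 2) F)) * (A.1 - e • (1 : Matrix (Fin 2) (Fin 2) F)) = 0 := by
      rw [sub_mul, mul_sub, mul_sub, sq_eq, ← ht, hte, smul_mul_assoc, smul_mul_assoc, mul_smul_comm, mul_smul_comm, one_mul, mul_one,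
        one_mul, smul_smul]
      have e1 : e * e = 1 := by rw [← he]; ring
      rw [e1, one_smul, mul_smul, two_smul]
      abel
    have h1 : A.1 = e • (1 : Matrix (Fin 2) (Fin 2) F) + (A.1 - e • (1 : Matrix (Fin 2) (Fin 2) F)) := by abel
    have hcomm : Commute (e • (1 : Matrix (Fin 2) (Fin 2) F)) (A.1 - e • (1 : Matrix (Fin 2) (Fin 2) F)) := by
      apply Commute.smul_left
      exact Commute.one_left _
    rw [h1, add_pow_char_of_commute _ hcomm]
    have hp2 : 2 ≤ p := (Fact.out : p.Prime).two_le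
    have h2 : (A.1 - e • (1 : Matrix (Fin 2) (Fin 2) F)) ^ p = 0 := by
      obtain ⟨k, rfl⟩ := Nat.exists_eq_add_of_le hp2
      rw [pow_add, pow_two, hN, zero_mul]
    rw [h2, add_zero, smul_pow, one_pow]
  · right
    rw [orderOf_mk_of_eigen A l m hlm hne htr]
    set q := Fintype.card F with hq
    -- l ^ q is again a root
    have hfrob : algebraMap F (AlgebraicClosure F) t ^ q = algebraMap F (AlgebraicClosure F) t := by
      rw [← map_pow, FiniteField.pow_card]
    have hlq : (l ^ q - l) * (l ^ q - m) = 0 := by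
      obtain ⟨n, hp', hn⟩ := FiniteField.card F p
      haveI : CharP (AlgebraicClosure F) p := charP_of_injective_algebraMap (algebraMap F (AlgebraicClosure F)).injective p
      have h1 : (l + m) ^ q = l ^ q + m ^ q := by
        rw [hq, hn]; exact add_pow_char_pow l m p n
      have h2 : l ^ q + m ^ q = l + m := by rw [← h1, ← htr, hfrob]
      have h3 : l ^ q * m ^ q = 1 := by rw [← mul_pow, hlm, one_pow]
      linear_combination (l ^ q) * h2 - h3 + hlm
    have hq1 : 1 ≤ q := Fintype.card_pos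
    have key : ∀ M : ℕ, Nat.gcd 2 M ∣ 2 → Nat.gcd 2 M ∣ M → l ^ M = 1 → orderOf (l ^ 2) ∣ M / Nat.gcd 2 M := by
      intro M h1 h2 h3
      apply orderOf_dvd_of_pow_eq_one
      rw [← pow_mul]
      obtain ⟨a, ha⟩ := h1
      obtain ⟨b, hb⟩ := h2
      have hg : 0 < Nat.gcd 2 M := Nat.gcd_pos_of_pos_left _ (by norm_num)
      have h4 : M / Nat.gcd 2 M = b := Nat.div_eq_of_eq_mul_right hg hb
      rw [h4]
      have h5 : 2 * b = M * a := by
        calc 2 * b = (Nat.gcd 2 M * a) * b := by rw [← ha]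
          _ = (Nat.gcd 2 M * b) * a := by ring
          _ = M * a := by rw [← hb]
      rw [h5, pow_mul, h3, one_pow]
    have hg : Nat.gcd 2 (q + 1) = Nat.gcd 2 (q - 1) := by
      obtain ⟨r, hr⟩ := Nat.exists_eq_add_of_le hq1
      have e1 : q + 1 = (q - 1) + 2 := by omega
      rw [e1, Nat.gcd_add_self_right]
    rcases mul_eq_zero.mp hlq with h1 | h1
    · left
      apply key _ (Nat.gcd_dvd_left _ _) (Nat.gcd_dvd_right _ _)
      have h2 : l ^ q = l := sub_eq_zero.mp h1
      have h3 : l * l ^ (q - 1) = l * 1 := by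
        rw [← pow_succ', Nat.sub_add_cancel hq1, h2, mul_one]
      exact mul_left_cancel₀ hl0 h3
    · right
      rw [← hg]
      apply key _ (Nat.gcd_dvd_left _ _) (Nat.gcd_dvd_right _ _)
      have h2 : l ^ q = m := sub_eq_zero.mp h1
      rw [pow_succ, h2, mul_comm, hlm]

theorem mem_of_pow_card {O : Type*} [Field O] [Algebra F O] (x : O) (hx : x ^ Fintype.card F = x) : ∃ a : F, algebraMap F O a = x := by
  classical
  have h0 : (Polynomial.X ^ Fintype.card F - Polynomial.X : Polynomial O) ≠ 0 := FiniteField.X_pow_card_sub_X_ne_zero O Fintype.one_lt_card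
  have h1 : (Polynomial.X ^ Fintype.card F - Polynomial.X : Polynomial O).natDegree = Fintype.card F :=
    FiniteField.X_pow_card_sub_X_natDegree_eq O Fintype.one_lt_card
  set S : Finset O := (Polynomial.X ^ Fintype.card F - Polynomial.X : Polynomial O).roots.toFinset with hS
  have hmem : ∀ y : O, y ∈ S ↔ y ^ Fintype.card F = y := by
    intro y
    rw [hS, Multiset.mem_toFinset, Polynomial.mem_roots h0, Polynomial.IsRoot.def]
    simp [sub_eq_zero]
  have h2 : S.card ≤ Fintype.card F := by
    calc S.card ≤ Multiset.card (Polynomial.X ^ Fintype.card F - Polynomial.X : Polynomial O).roots := Multiset.toFinset_card_le _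
      _ ≤ _ := Polynomial.card_roots' _
      _ = _ := h1
  have h3 : (Finset.univ.image (algebraMap F O)) ⊆ S := by
    intro y hy
    rw [Finset.mem_image] at hy
    obtain ⟨a, _, rfl⟩ := hy
    rw [hmem, ← map_pow, FiniteField.pow_card]
  have h4 : (Finset.univ.image (algebraMap F O)) = S := by
    apply Finset.eq_of_subset_of_card_le h3
    rw [Finset.card_image_of_injective _ (algebraMap F O).injective, Finset.card_univ]
    exact h2
  have h5 := (hmem x).mpr hx
  rw [← h4, Finset.mem_image] at h5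
  obtain ⟨a, _, ha⟩ := h5
  exact ⟨a, ha⟩

theorem exists_order_torus (p : ℕ) [Fact p.Prime] [CharP F p] (M : ℕ) (h3 : 3 ≤ M)
    (hM : M = Fintype.card F - 1 ∨ M = Fintype.card F + 1) :
    ∃ x : ProjectiveSpecialLinearGroup (Fin 2) F, orderOf x = M / Nat.gcd 2 M := by
  have hq1 : 1 ≤ Fintype.card F := Fintype.card_pos
  have hMF : ((M : ℕ) : F) ≠ 0 := by
    intro h0
    have h1 : ((Fintype.card F : ℕ) : F) = 0 := FiniteField.cast_card_eq_zero F
    rcases hM with h | h
    · have : M + 1 = Fintype.card F := by omega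
      rw [← this] at h1
      push_cast at h1
      rw [h0, zero_add] at h1
      exact one_ne_zero h1
    · rw [h] at h0
      push_cast at h0
      rw [h1, zero_add] at h0
      exact one_ne_zero h0
  haveI : NeZero ((M : ℕ) : F) := ⟨hMF⟩
  obtain ⟨l, hl⟩ := HasEnoughRootsOfUnity.exists_primitiveRoot (AlgebraicClosure F) M
  have hl0 : l ≠ 0 := hl.ne_zero (by omega)
  set m := l⁻¹ with hm
  have hlm : l * m = 1 := mul_inv_cancel₀ hl0
  have hlM : l ^ M = 1 := hl.pow_eq_one
  have hne : l ≠ m := by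
    intro h
    rw [← h, ← pow_two] at hlm
    have := hl.dvd_of_pow_eq_one 2 hlm
    have := Nat.le_of_dvd (by norm_num) this
    omega
  -- the trace is in F
  have htq : (l + m) ^ Fintype.card F = l + m := by
    obtain ⟨n, hp', hn⟩ := FiniteField.card F p
    haveI : CharP (AlgebraicClosure F) p := charP_of_injective_algebraMap (algebraMap F (AlgebraicClosure F)).injective p
    have h1 : (l + m) ^ Fintype.card F = l ^ Fintype.card F + m ^ Fintype.card F := by
      rw [hn]; exact add_pow_char_pow l m p n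
    rw [h1]
    rcases hM with h | h
    · have e : Fintype.card F = M + 1 := by omega
      have h4 : m ^ M = 1 := by rw [hm, inv_pow, hlM, inv_one]
      rw [e, pow_succ, pow_succ, hlM, h4, one_mul, one_mul]
    · have h2 : l ^ Fintype.card F = m := by
        have : l ^ Fintype.card F * l = m * l := by
          rw [← pow_succ, ← h, hlM, mul_comm, hlm]
        exact mul_right_cancel₀ hl0 this
      have h3 : m ^ Fintype.card F = l := by
        rw [hm, inv_pow, h2, hm, inv_inv]
      rw [h2, h3, add_comm]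
  obtain ⟨t, ht⟩ := mem_of_pow_card (l + m) htq
  let A : SpecialLinearGroup (Fin 2) F := ⟨!![t, -1; 1, 0], by simp [Matrix.det_fin_two]⟩
  refine ⟨QuotientGroup.mk A, ?_⟩
  rw [orderOf_mk_of_eigen A l m hlm hne (by rw [← ht]; simp [A])]
  rw [orderOf_pow' l (by norm_num), ← hl.eq_orderOf, Nat.gcd_comm]

theorem exists_order_p (p : ℕ) [hp : Fact p.Prime] [CharP F p] :
    ∃ x : ProjectiveSpecialLinearGroup (Fin 2) F, orderOf x = p := by
  let A : SpecialLinearGroup (Fin 2) F := ⟨!![1, 1; 0, 1], by simp [Matrix.det_fin_two]⟩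
  have hpow : ∀ n : ℕ, A.1 ^ n = !![1, (n : F); 0, 1] := by
    intro n
    induction n with
    | zero => ext i j; fin_cases i <;> fin_cases j <;> simp
    | succ n ih =>
      rw [pow_succ, ih]
      ext i j
      fin_cases i <;> fin_cases j <;> simp [A, Matrix.mul_apply, Fin.sum_univ_two, add_comm]
  refine ⟨QuotientGroup.mk A, ?_⟩
  have h1 : orderOf (QuotientGroup.mk A : ProjectiveSpecialLinearGroup (Fin 2) F) ∣ p := by
    apply orderOf_dvd_of_pow_eq_one
    rw [mk_pow_eq_one_iff]
    refine ⟨1, by norm_num, ?_⟩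
    rw [hpow, CharP.cast_eq_zero, one_smul]
    ext i j; fin_cases i <;> fin_cases j <;> simp
  rcases (Nat.dvd_prime hp.out).mp h1 with h | h
  · exfalso
    rw [orderOf_eq_one_iff] at h
    have h2 := (mk_pow_eq_one_iff A 1).mp (by rw [pow_one]; exact h)
    obtain ⟨e, _, he⟩ := h2
    rw [pow_one] at he
    have := congrFun (congrFun he 0) 1
    simp [A] at this
  · exact h

theorem spectrum (p : ℕ) [Fact p.Prime] [CharP F p] (h4 : 4 ≤ Fintype.card F) :
    Set.range (orderOf : ProjectiveSpecialLinearGroup (Fin 2) F → ℕ) =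
      {m : ℕ | m ∣ p ∨ m ∣ (Fintype.card F - 1) / Nat.gcd 2 (Fintype.card F - 1) ∨ m ∣ (Fintype.card F + 1) / Nat.gcd 2 (Fintype.card F - 1)} := by
  have hg : Nat.gcd 2 (Fintype.card F + 1) = Nat.gcd 2 (Fintype.card F - 1) := by
    have e1 : Fintype.card F + 1 = (Fintype.card F - 1) + 2 := by omega
    rw [e1, Nat.gcd_add_self_right]
  have hsub : ∀ (x : ProjectiveSpecialLinearGroup (Fin 2) F) (m : ℕ), m ∣ orderOf x → m ∈ Set.range (orderOf : ProjectiveSpecialLinearGroup (Fin 2) F → ℕ) := by
    intro x m hm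
    have hx : 0 < orderOf x := orderOf_pos x
    obtain ⟨k, hk⟩ := hm
    have hk0 : k ≠ 0 := by rintro rfl; omega
    refine ⟨x ^ k, ?_⟩
    rw [orderOf_pow_of_dvd hk0 ⟨m, by rw [hk, mul_comm]⟩, hk, Nat.mul_div_cancel _ (Nat.pos_of_ne_zero hk0)]
  ext m
  constructor
  · rintro ⟨x, rfl⟩
    exact order_dvd p x
  · rintro (h | h | h)
    · obtain ⟨x, hx⟩ := exists_order_p (F := F) p
      exact hsub x m (by rw [hx]; exact h)
    · obtain ⟨x, hx⟩ := exists_order_torus (F := F) p (Fintype.card F - 1) (by omega) (Or.inl rfl)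
      exact hsub x m (by rw [hx]; exact h)
    · obtain ⟨x, hx⟩ := exists_order_torus (F := F) p (Fintype.card F + 1) (by omega) (Or.inr rfl)
      exact hsub x m (by rw [hx, hg]; exact h)

end finite

end Cfsg.Agent.H21.SpecPSL2
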