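import Mathlib
import Cfsg.Agent.H19_CA5
import Cfsg.Agent.H21_SL2e
import Cfsg.Agent.H21_SpecPSL2
import Cfsg.Agent.H5_Exc4
import Cfsg.Agent.H5_SL2Tor
import Cfsg.Agent.S1230

set_option autoImplicit false

/-!
Finite groups in which centralizers of involutions are abelian: main theorem.
-/

namespace Cfsg.Agent.H19.CA1

open Cfsg.Agent.H4.Inv Cfsg.Agent.H4.Util Cfsg.Agent.H4.SE

universe u

theorem sl2_exp {F : Type*} [Field F] [Fintype F] [CharP F 2] (s y : Matrix.SpecialLinearGroup (Fin 2) F) (hs : orderOf s = 2)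
    (hc : Commute y s) : y ^ 2 = 1 := by
  haveI : Fact (Nat.Prime 2) := ⟨Nat.prime_two⟩
  have key : ∀ z : Matrix.SpecialLinearGroup (Fin 2) F, z ^ 2 = 1 ∨ Odd (orderOf z) := by
    intro z
    have h1 := Cfsg.Agent.H21.SpecPSL2.order_dvd 2 (Cfsg.Agent.H21.SL2e.equivPSL z)
    rw [MulEquiv.orderOf_eq, Cfsg.Agent.H21.SL2e.card_odd, Nat.div_one, Nat.div_one] at h1
    have h2 : Even (Fintype.card F) := by
      obtain ⟨n, -, hn⟩ := FiniteField.card F 2
      rw [hn]; exact (Nat.even_pow).2 ⟨even_two, n.ne_zero⟩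
    have h3 : 0 < Fintype.card F := Fintype.card_pos
    rcases h1 with h1 | h1 | h1
    · exact Or.inl (orderOf_dvd_iff_pow_eq_one.1 h1)
    · right
      refine Odd.of_dvd_nat ?_ h1
      obtain ⟨k, hk⟩ := h2
      exact ⟨k - 1, by omega⟩
    · right
      refine Odd.of_dvd_nat ?_ h1
      exact h2.add_one
  rcases key y with h | h
  · exact h
  · have hcop : (orderOf y).Coprime (orderOf s) := by
      rw [hs]; exact (Nat.coprime_two_right).2 h
    have h1 := hc.orderOf_mul_eq_mul_orderOf_of_coprime hcop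
    rcases key (y * s) with h2 | h2
    · have h3 : orderOf (y * s) ∣ 2 := orderOf_dvd_of_pow_eq_one h2
      rw [h1, hs] at h3
      have h4 : orderOf y = 1 := by
        have := Nat.le_of_dvd (by norm_num) h3
        have := orderOf_pos y
        omega
      rw [orderOf_eq_one_iff.1 h4, one_pow]
    · rw [h1, hs] at h2
      exact absurd h2 (Nat.not_odd_iff_even.2 (even_two.mul_left _))

theorem u_inv {F : Type*} [Field F] [CharP F 2] {a : F} (ha : a ≠ 0) : orderOf (Cfsg.Agent.H5.SL2.u a) = 2 := by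
  apply orderOf_eq_two_of
  · intro h
    have := congrArg (fun g : Matrix.SpecialLinearGroup (Fin 2) F => g.1 0 1) h
    simp at this
    exact ha this
  · rw [Cfsg.Agent.H5.SL2.u_mul, CharTwo.add_self_eq_zero]
    apply Cfsg.Agent.H5.SL2.ext2 <;> simp

theorem l_inv {F : Type*} [Field F] [CharP F 2] {a : F} (ha : a ≠ 0) : orderOf (Cfsg.Agent.H5.SL2.l a) = 2 := by
  apply orderOf_eq_two_of
  · intro h
    have := congrArg (fun g : Matrix.SpecialLinearGroup (Fin 2) F => g.1 1 0) h
    simp at this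
    exact ha this
  · rw [Cfsg.Agent.H5.SL2.l_mul, CharTwo.add_self_eq_zero]
    apply Cfsg.Agent.H5.SL2.ext2 <;> simp

/-- `SL₂` in characteristic two is generated by involutions -/
theorem top_of_inv {F : Type*} [Field F] [CharP F 2] (H : Subgroup (Matrix.SpecialLinearGroup (Fin 2) F))
    (hH : ∀ s : Matrix.SpecialLinearGroup (Fin 2) F, orderOf s = 2 → s ∈ H) : H = ⊤ := by
  apply Cfsg.Agent.H5.SL2.eq_top_of_ul
  · intro x
    by_cases hx : x = 0
    · subst hx
      have : Cfsg.Agent.H5.SL2.u (0 : F) = 1 := by apply Cfsg.Agent.H5.SL2.ext2 <;> simp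
      rw [this]; exact H.one_mem
    · exact hH _ (u_inv hx)
  · intro x
    by_cases hx : x = 0
    · subst hx
      have : Cfsg.Agent.H5.SL2.l (0 : F) = 1 := by apply Cfsg.Agent.H5.SL2.ext2 <;> simp
      rw [this]; exact H.one_mem
    · exact hH _ (l_inv hx)

variable {G : Type u} [Group G] [Finite G]

theorem center_odd (hn : HN G) (h : Hyp G) : Odd (Nat.card (Subgroup.center G)) := by
  haveI : Fact (Nat.Prime 2) := ⟨Nat.prime_two⟩
  rw [← Nat.not_even_iff_odd]
  intro hev
  obtain ⟨z, hz⟩ := exists_prime_orderOf_dvd_card' (G := Subgroup.center G) 2 hev.two_dvd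
  obtain ⟨s, t, hs, ht, hst⟩ := hn
  apply hst
  exact h z (by rw [Subgroup.orderOf_coe]; exact hz) s t (Subgroup.mem_center_iff.1 z.2 s) (Subgroup.mem_center_iff.1 z.2 t)

/-- lifting involutions modulo an odd central subgroup -/
theorem lift_inv (ho : Odd (Nat.card (Subgroup.center G))) {t : G ⧸ Subgroup.center G} (ht : orderOf t = 2) :
    ∃ s : G, orderOf s = 2 ∧ (QuotientGroup.mk s : G ⧸ Subgroup.center G) = t := by
  obtain ⟨g, rfl⟩ := QuotientGroup.mk_surjective t
  have h1 : g ^ 2 ∈ Subgroup.center G := by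
    rw [← QuotientGroup.eq_one_iff, QuotientGroup.mk_pow, ← ht, pow_orderOf_eq_one]
  obtain ⟨k, hk⟩ := ho
  have h2 : (g ^ 2) ^ (2 * k + 1) = 1 := by
    have := pow_card_eq_one' (x := (⟨g ^ 2, h1⟩ : Subgroup.center G))
    rw [hk] at this
    exact congrArg Subtype.val this
  have h3 : (QuotientGroup.mk (g ^ (2 * k + 1)) : G ⧸ Subgroup.center G) = QuotientGroup.mk g := by
    rw [QuotientGroup.mk_pow, pow_succ, pow_mul]
    have : (QuotientGroup.mk g : G ⧸ Subgroup.center G) ^ 2 = 1 := by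
      conv_lhs => rw [← ht]
      exact pow_orderOf_eq_one _
    rw [this, one_pow, one_mul]
  refine ⟨g ^ (2 * k + 1), orderOf_eq_two_of ?_ ?_, h3⟩
  · intro h0
    rw [h0] at h3
    rw [← h3, QuotientGroup.mk_one, orderOf_one] at ht
    omega
  · rw [← pow_two, ← pow_mul, mul_comm, pow_mul]; exact h2

omit [Finite G] in
/-- an involution commutes modulo an odd central subgroup iff it commutes -/
theorem comm_of_mk [Finite G] (ho : Odd (Nat.card (Subgroup.center G))) {s a : G} (hs : orderOf s = 2)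
    (hc : Commute (QuotientGroup.mk a : G ⧸ Subgroup.center G) (QuotientGroup.mk s)) : Commute a s := by
  have h1 : s * a * s⁻¹ * a⁻¹ ∈ Subgroup.center G := by
    rw [← QuotientGroup.eq_one_iff]
    have h2 : (QuotientGroup.mk (s * a * s⁻¹ * a⁻¹) : G ⧸ Subgroup.center G) =
      QuotientGroup.mk s * QuotientGroup.mk a * (QuotientGroup.mk s)⁻¹ * (QuotientGroup.mk a)⁻¹ := rfl
    rw [h2, ← hc.eq]; group
  set z := s * a * s⁻¹ * a⁻¹ with hz
  have hza : s * a * s⁻¹ = z * a := by rw [hz]; group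
  have h3 : a = z * z * a := by
    calc a = (s * s) * a * (s * s)⁻¹ := by rw [mul_self hs]; group
      _ = s * (s * a * s⁻¹) * s⁻¹ := by group
      _ = s * z * a * s⁻¹ := by rw [hza]; group
      _ = z * (s * a * s⁻¹) := by rw [Subgroup.mem_center_iff.1 h1 s]; group
      _ = _ := by rw [hza]; group
  have h4 : z * z = 1 := by
    have := h3.symm
    exact mul_eq_right.1 this
  have h5 : z = 1 := by
    apply eq_one_of_sq _ h4
    have := orderOf_dvd_natCard (⟨z, h1⟩ : Subgroup.center G)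
    rw [← Subgroup.orderOf_coe] at this
    exact Odd.of_dvd_nat ho this
  rw [h5, one_mul, mul_inv_eq_iff_eq_mul] at hza
  exact hza.symm

theorem Hyp.quot (h : Hyp G) (ho : Odd (Nat.card (Subgroup.center G))) : Hyp (G ⧸ Subgroup.center G) := by
  intro t ht a b ha hb
  obtain ⟨s, hs, rfl⟩ := lift_inv ho ht
  obtain ⟨a, rfl⟩ := QuotientGroup.mk_surjective a
  obtain ⟨b, rfl⟩ := QuotientGroup.mk_surjective b
  have h1 := h s hs a b (comm_of_mk ho hs ha) (comm_of_mk ho hs hb)
  rw [← QuotientGroup.mk_mul, h1, QuotientGroup.mk_mul]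

theorem mk_inv (ho : Odd (Nat.card (Subgroup.center G))) {s : G} (hs : orderOf s = 2) :
    orderOf (QuotientGroup.mk s : G ⧸ Subgroup.center G) = 2 := by
  apply orderOf_eq_two_of
  · intro h0
    have h1 := (QuotientGroup.eq_one_iff s).1 h0
    have h2 := orderOf_dvd_natCard (⟨s, h1⟩ : Subgroup.center G)
    rw [← Subgroup.orderOf_coe] at h2
    change orderOf s ∣ _ at h2
    rw [hs] at h2
    exact (Nat.not_even_iff_odd.2 ho) (even_iff_two_dvd.2 h2)
  · rw [← QuotientGroup.mk_mul, mul_self hs, QuotientGroup.mk_one]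

theorem HC.quot (hc : HC G) (ho : Odd (Nat.card (Subgroup.center G))) : HC (G ⧸ Subgroup.center G) := by
  obtain ⟨s, t, hs, ht, hst, hcomm⟩ := hc
  refine ⟨_, _, mk_inv ho hs, mk_inv ho ht, ?_, hcomm.map (QuotientGroup.mk' (Subgroup.center G))⟩
  intro h0
  rw [QuotientGroup.eq] at h0
  have h1 : (s⁻¹ * t) * (s⁻¹ * t) = 1 := by
    rw [inv_eq hs]
    calc s * t * (s * t) = (s * t) * (t * s) := by rw [hcomm.eq]
      _ = s * (t * t) * s := by group
      _ = 1 := by rw [mul_self ht, mul_one, mul_self hs]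
  have h2 := orderOf_dvd_natCard (⟨s⁻¹ * t, h0⟩ : Subgroup.center G)
  rw [← Subgroup.orderOf_coe] at h2
  have h3 := eq_one_of_sq (Odd.of_dvd_nat ho h2) h1
  exact hst (inv_mul_eq_one.1 h3)

theorem HN.quot (hn : HN G) (ho : Odd (Nat.card (Subgroup.center G))) : HN (G ⧸ Subgroup.center G) := by
  obtain ⟨s, t, hs, ht, hst⟩ := hn
  exact ⟨_, _, mk_inv ho hs, mk_inv ho ht, fun h0 => hst (comm_of_mk ho ht h0)⟩

/-- transfer: an abelian Sylow subgroup meets `Z(G) ∩ G'` trivially -/
theorem sylow_center {ℓ : ℕ} [Fact ℓ.Prime] (S : Sylow ℓ G) (hS : ∀ a b : (S : Subgroup G), a * b = b * a) {z : G}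
    (hz : z ∈ Subgroup.center G) (hzS : z ∈ (S : Subgroup G)) (hzc : z ∈ commutator G) : z = 1 := by
  classical
  letI : CommGroup (S : Subgroup G) := { (inferInstance : Group (S : Subgroup G)) with mul_comm := hS }
  have key : ∀ (k : ℕ) (g₀ : G), g₀⁻¹ * z ^ k * g₀ ∈ (S : Subgroup G) → g₀⁻¹ * z ^ k * g₀ = z ^ k := by
    intro k g₀ _
    have h1 : z ^ k ∈ Subgroup.center G := pow_mem hz k
    have h2 := Subgroup.mem_center_iff.1 h1 g₀
    rw [mul_assoc, ← h2, inv_mul_cancel_left]
  have h1 := MonoidHom.transfer_eq_pow (MonoidHom.id (S : Subgroup G)) z key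
  have h2 : MonoidHom.transfer (MonoidHom.id (S : Subgroup G)) z = 1 := by
    have : commutator G ≤ (MonoidHom.transfer (MonoidHom.id (S : Subgroup G))).ker := by
      rw [commutator_def, Subgroup.commutator_le]
      intro a _ b _
      rw [MonoidHom.mem_ker, map_commutatorElement, commutatorElement_eq_one_iff_mul_comm]
      exact mul_comm _ _
    exact this hzc
  rw [h2] at h1
  have h3 : z ^ (S : Subgroup G).index = 1 := (congrArg Subtype.val h1).symm
  obtain ⟨k, hk⟩ := IsPGroup.iff_orderOf.1 S.isPGroup' ⟨z, hzS⟩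
  rw [← Subgroup.orderOf_coe] at hk
  change orderOf z = ℓ ^ k at hk
  have h4 : orderOf z ∣ (S : Subgroup G).index := orderOf_dvd_of_pow_eq_one h3
  rcases Nat.eq_zero_or_pos k with h0 | h0
  · rw [h0, pow_zero] at hk; exact orderOf_eq_one_iff.1 hk
  · exfalso
    apply S.not_dvd_index
    exact (dvd_pow_self ℓ h0.ne').trans (hk ▸ h4)

/-- small copies of finite commutative groups -/
theorem small_comm (A : Type u) [Group A] [Finite A] (hA : ∀ a b : A, a * b = b * a) :
    ∃ (B : Type) (_ : CommGroup B) (_ : Finite B), Nonempty (A ≃* B) := by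
  letI : CommGroup A := { (inferInstance : Group A) with mul_comm := hA }
  haveI : Small.{0} A := inferInstance
  let e : A ≃ Shrink.{0} A := equivShrink.{0, u} A
  haveI : Finite (Shrink.{0} A) := Finite.of_equiv A e
  exact ⟨Shrink.{0} A, inferInstance, inferInstance, ⟨(Shrink.mulEquiv.{0, u} (α := A)).symm⟩⟩

end Cfsg.Agent.H19.CA1
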