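import Mathlib
import Cfsg.Agent.H19_CA6
import Cfsg.Agent.H5_SmallIso

set_option autoImplicit false

/-!
Finite groups in which centralizers of involutions are abelian: main theorem.
-/

namespace Cfsg.Agent.H19.CA1

open Cfsg.Agent.H4.Inv Cfsg.Agent.H4.Util Cfsg.Agent.H4.SE

universe u

variable {G : Type u} [Group G] [Finite G]

theorem lift_center (h : Hyp G) (hc : HC G) (hn : HN G) {F : Type} [Field F] [Fintype F] [CharP F 2] {A : Type} [CommGroup A]
    [Finite A] (hA : Odd (Nat.card A)) (e : G ⧸ Subgroup.center G ≃* Matrix.SpecialLinearGroup (Fin 2) F × A) :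
    ∃ (A' : Type) (_ : CommGroup A') (_ : Finite A'), Odd (Nat.card A') ∧ Nonempty (G ≃* Matrix.SpecialLinearGroup (Fin 2) F × A') := by
  classical
  haveI : Fact (Nat.Prime 2) := ⟨Nat.prime_two⟩
  have ho := center_odd hn h
  have hcQ := hc.quot ho
  set Z := Subgroup.center G with hZ
  let p : G →* Matrix.SpecialLinearGroup (Fin 2) F := ((MonoidHom.fst _ A).comp e.toMonoidHom).comp (QuotientGroup.mk' Z)
  have hpdef : ∀ g : G, p g = (e (QuotientGroup.mk g)).1 := fun g => rfl
  have hps : Function.Surjective p := by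
    intro x
    obtain ⟨g, hg⟩ := QuotientGroup.mk_surjective (e.symm (x, 1))
    refine ⟨g, ?_⟩
    rw [hpdef, hg, MulEquiv.apply_symm_apply]
  -- lifting involutions
  have hlift : ∀ s : Matrix.SpecialLinearGroup (Fin 2) F, orderOf s = 2 → ∃ t : G, orderOf t = 2 ∧ p t = s := by
    intro s hs
    have h1 : orderOf (e.symm (s, (1 : A))) = 2 := by rw [MulEquiv.orderOf_eq]; exact pair_inv hs
    obtain ⟨t, ht, hte⟩ := lift_inv ho h1
    refine ⟨t, ht, ?_⟩
    rw [hpdef, hte, MulEquiv.apply_symm_apply]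
  -- kernel
  have hker : ∀ k : G, p k = 1 → k ∈ Z := by
    have hkc : ∀ k : G, p k = 1 → ∀ g : G, Commute (QuotientGroup.mk k : G ⧸ Z) (QuotientGroup.mk g) := by
      intro k hk g
      apply e.injective
      rw [map_mul, map_mul]
      apply Prod.ext
      · rw [Prod.fst_mul, Prod.fst_mul, ← hpdef, hk, one_mul, mul_one]
      · rw [Prod.snd_mul, Prod.snd_mul, mul_comm]
    have hkt : ∀ k : G, p k = 1 → ∀ t : G, orderOf t = 2 → Commute k t := fun k hk t ht => comm_of_mk ho ht (hkc k hk t)
    intro k hk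
    have hNt : (Subgroup.centralizer ({k} : Set G)).map p = ⊤ := by
      apply top_of_inv
      intro s hs
      obtain ⟨t, ht, hts⟩ := hlift s hs
      exact ⟨t, Subgroup.mem_centralizer_singleton_iff.2 (hkt k hk t ht).symm, hts⟩
    rw [hZ, Subgroup.mem_center_iff]
    intro g
    have h1 : p g ∈ (Subgroup.centralizer ({k} : Set G)).map p := by rw [hNt]; trivial
    obtain ⟨m, hm, hmg⟩ := h1
    have h2 : p (m⁻¹ * g) = 1 := by rw [map_mul, map_inv, hmg, inv_mul_cancel]
    obtain ⟨s, t, hs, -⟩ := hc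
    have h3 : (m⁻¹ * g) * k = k * (m⁻¹ * g) := h s hs _ _ (hkt _ h2 s hs) (hkt k hk s hs)
    have h4 : m * k = k * m := Subgroup.mem_centralizer_singleton_iff.1 hm
    calc g * k = m * ((m⁻¹ * g) * k) := by group
      _ = (m * k) * (m⁻¹ * g) := by rw [h3]; group
      _ = k * g := by rw [h4]; group
  have hZk : ∀ z ∈ Z, p z = 1 := by
    intro z hz
    rw [hpdef, (QuotientGroup.eq_one_iff z).2 hz, map_one]; rfl
  -- card F ≥ 4
  have hF4 : 4 ≤ Fintype.card F := by
    obtain ⟨s, t, hs, ht, hst, hcomm⟩ := hcQ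
    obtain ⟨s2, s1⟩ := fst_inv hA (p := e s) (by rw [MulEquiv.orderOf_eq]; exact hs)
    obtain ⟨t2, t1⟩ := fst_inv hA (p := e t) (by rw [MulEquiv.orderOf_eq]; exact ht)
    have hne : (e s).1 ≠ (e t).1 := fun h0 => hst (e.injective (Prod.ext h0 (by rw [s2, t2])))
    have hco : Commute (e s).1 (e t).1 := (hcomm.map e.toMonoidHom).map (MonoidHom.fst _ A)
    obtain ⟨n, -, hn'⟩ := FiniteField.card F 2
    by_contra hlt
    have hn1 : (n : ℕ) = 1 := by
      have h0 := n.pos
      by_contra h1
      have : 2 ^ 2 ≤ 2 ^ (n : ℕ) := Nat.pow_le_pow_right (by norm_num) (by omega)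
      omega
    have hc2 : Fintype.card F = 2 := by rw [hn', hn1]; norm_num
    obtain ⟨e3⟩ := Cfsg.Agent.H5.SmallIso.sl2_2 hc2
    have h6 : Nat.card (Matrix.SpecialLinearGroup (Fin 2) F) = 6 := by
      rw [Nat.card_congr e3.toEquiv, Nat.card_eq_fintype_card, Fintype.card_perm]; rfl
    let V : Subgroup (Matrix.SpecialLinearGroup (Fin 2) F) := Subgroup.zpowers (e s).1 ⊔ Subgroup.zpowers (e t).1
    have hV : IsPGroup 2 V := by
      apply isPGroup_sup_of_commute (zpowers_isPGroup (k := 1) (by rw [pow_one]; exact s1)) (zpowers_isPGroup (k := 1) (by rw [pow_one]; exact t1))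
      rintro a ⟨i, rfl⟩ b ⟨j, rfl⟩
      exact (hco.zpow_zpow i j)
    obtain ⟨k, hk⟩ := IsPGroup.iff_card.1 hV
    have h7 := Subgroup.card_subgroup_dvd_card V
    rw [h6, hk] at h7
    have h8 : 2 < Nat.card V := by
      let f : Fin 3 → V := ![1, ⟨(e s).1, Subgroup.mem_sup_left (Subgroup.mem_zpowers _)⟩, ⟨(e t).1, Subgroup.mem_sup_right (Subgroup.mem_zpowers _)⟩]
      have hf : Function.Injective f := by
        intro i j hij
        have hij' := congrArg Subtype.val hij
        fin_cases i <;> fin_cases j <;> first | rfl | skip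
        · exact absurd hij'.symm (ne_one s1)
        · exact absurd hij'.symm (ne_one t1)
        · exact absurd hij' (ne_one s1)
        · exact absurd hij' hne
        · exact absurd hij' (ne_one t1)
        · exact absurd hij'.symm hne
      have := Nat.card_le_card_of_injective f hf
      rw [Nat.card_eq_fintype_card, Fintype.card_fin] at this
      omega
    rw [hk] at h8
    have hk2 : 2 ≤ k := by
      by_contra h9
      have : 2 ^ k ≤ 2 ^ 1 := Nat.pow_le_pow_right (by norm_num) (by omega)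
      omega
    have h9 : 4 ∣ 6 := (pow_dvd_pow 2 hk2).trans h7
    omega
  -- G' ∩ Z = 1
  have hGZ : ∀ z ∈ Z, z ∈ commutator G → z = 1 := by
    intro z hz hzc
    by_contra hz1
    obtain ⟨ℓ, hℓ, hd⟩ := Nat.exists_prime_and_dvd (n := orderOf z) (fun h0 => hz1 (orderOf_eq_one_iff.1 h0))
    haveI : Fact ℓ.Prime := ⟨hℓ⟩
    have hzo : Odd (orderOf z) := by
      have := orderOf_dvd_natCard (⟨z, hz⟩ : Z)
      rw [← Subgroup.orderOf_coe] at this
      exact Odd.of_dvd_nat ho this
    have hℓ2 : ℓ ≠ 2 := by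
      rintro rfl
      exact (Nat.not_even_iff_odd.2 hzo) (even_iff_two_dvd.2 hd)
    obtain ⟨j, hj⟩ := hd
    have hj0 : j ≠ 0 := by rintro rfl; exact (orderOf_pos z).ne' (by omega)
    have hzj : orderOf (z ^ j) = ℓ := by
      rw [orderOf_pow_of_dvd hj0 ⟨ℓ, by rw [hj, mul_comm]⟩, hj, Nat.mul_div_cancel _ (Nat.pos_of_ne_zero hj0)]
    let S : Sylow ℓ G := default
    have hzS : z ^ j ∈ (S : Subgroup G) := mem_sylow_of_central S (k := 1) (fun g => Subgroup.mem_center_iff.1 (pow_mem hz j) g) (by rw [hzj, pow_one])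
    have hS : ∀ a b : (S : Subgroup G), a * b = b * a := by
      have hpS : IsPGroup ℓ ((S : Subgroup G).map p) := S.isPGroup'.map p
      obtain ⟨R, hR⟩ := hpS.exists_le_sylow
      haveI : IsCyclic (R : Subgroup (Matrix.SpecialLinearGroup (Fin 2) F)) := Cfsg.Agent.H5.SL2Tor.sylow_r 2 ℓ hℓ2 hℓ2 R
      let f : (S : Subgroup G) →* (R : Subgroup (Matrix.SpecialLinearGroup (Fin 2) F)) :=
        (p.comp (S : Subgroup G).subtype).codRestrict (R : Subgroup (Matrix.SpecialLinearGroup (Fin 2) F)) (fun x => hR ⟨x, x.2, rfl⟩)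
      intro a b
      apply commutative_of_cyclic_center_quotient f
      intro x hx
      have h1 : p (x : G) = 1 := congrArg Subtype.val (MonoidHom.mem_ker.1 hx)
      rw [Subgroup.mem_center_iff]
      intro y
      exact Subtype.ext (Subgroup.mem_center_iff.1 (hker _ h1) y)
    have h1 := sylow_center S hS (pow_mem hz j) hzS (pow_mem hzc j)
    rw [h1, orderOf_one] at hzj
    exact hℓ.one_lt.ne hzj
  -- commutator maps onto SL2
  have hcm : (commutator G).map p = ⊤ := by
    rw [commutator_def, Subgroup.map_commutator, ← MonoidHom.range_eq_map, MonoidHom.range_eq_top.2 hps, ← commutator_def]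
    exact Cfsg.Agent.H5.Exc.perfect_SL2 hF4
  have hZc : ∀ a b : Z, a * b = b * a := fun a b => Subtype.ext (Subgroup.mem_center_iff.1 b.2 a)
  obtain ⟨B, iB, iBf, ⟨eB⟩⟩ := small_comm Z hZc
  let φ : commutator G × Z →* G :=
    { toFun := fun q => (q.1 : G) * q.2
      map_one' := by simp
      map_mul' := by
        intro a b
        change ((a.1 : G) * b.1) * ((a.2 : G) * b.2) = (a.1 * a.2) * (b.1 * b.2)
        have h1 := Subgroup.mem_center_iff.1 a.2.2 (b.1 : G)
        calc ((a.1 : G) * b.1) * ((a.2 : G) * b.2) = a.1 * (b.1 * a.2) * b.2 := by group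
          _ = a.1 * (a.2 * b.1) * b.2 := by rw [h1]
          _ = _ := by group }
  have hφ : Function.Bijective φ := by
    constructor
    · rw [injective_iff_map_eq_one]
      intro a ha
      have h1 : (a.1 : G) * a.2 = 1 := ha
      have h2 : (a.1 : G) = (a.2 : G)⁻¹ := eq_inv_of_mul_eq_one_left h1
      have h3 : (a.2 : G) = 1 := by
        apply hGZ _ a.2.2
        have : (a.2 : G)⁻¹ ∈ commutator G := h2 ▸ a.1.2
        simpa using inv_mem this
      refine Prod.ext (Subtype.ext ?_) (Subtype.ext h3)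
      rw [h2, h3]; simp
    · intro g
      have h1 : p g ∈ (commutator G).map p := by rw [hcm]; trivial
      obtain ⟨m, hm, hmg⟩ := h1
      have h2 : m⁻¹ * g ∈ Z := hker _ (by rw [map_mul, map_inv, hmg, inv_mul_cancel])
      exact ⟨(⟨m, hm⟩, ⟨m⁻¹ * g, h2⟩), by change m * (m⁻¹ * g) = g; group⟩
  let ψ : commutator G →* Matrix.SpecialLinearGroup (Fin 2) F := p.comp (commutator G).subtype
  have hψ : Function.Bijective ψ := by
    constructor
    · rw [injective_iff_map_eq_one]
      intro a ha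
      exact Subtype.ext (hGZ a (hker a ha) a.2)
    · intro x
      have h1 : x ∈ (commutator G).map p := by rw [hcm]; trivial
      obtain ⟨m, hm, hmx⟩ := h1
      exact ⟨⟨m, hm⟩, hmx⟩
  refine ⟨B, iB, iBf, by rw [← Nat.card_congr eB.toEquiv]; exact ho, ⟨?_⟩⟩
  exact (MulEquiv.ofBijective φ hφ).symm.trans ((MulEquiv.ofBijective ψ hψ).prodCongr eB)

theorem main (n : ℕ) : ∀ (G : Type u) [Group G] [Finite G], Nat.card G = n → Hyp G → HC G → HN G →
    ∃ (F : Type) (_ : Field F) (_ : Fintype F) (A : Type) (_ : CommGroup A) (_ : Finite A), CharP F 2 ∧ Odd (Nat.card A) ∧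
      Nonempty (G ≃* Matrix.SpecialLinearGroup (Fin 2) F × A) := by
  induction n using Nat.strong_induction_on with
  | _ n ih =>
  intro G _ _ hG h hc hn
  classical
  haveI : Fact (Nat.Prime 2) := ⟨Nat.prime_two⟩
  have he := HC.even hc
  obtain ⟨P, Q, hPQ⟩ := HN.ne h hn
  by_cases hZ : Subgroup.center G = ⊥
  · by_cases hTI : TI G
    · have hm := HC.mm h hc P
      have hexp : ∀ t c : G, orderOf t = 2 → Commute c t → c ^ 2 = 1 := by
        intro t c ht hct
        obtain ⟨R, htR⟩ := exists_sylow_mem ht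
        have h1 : ∃ R', R ≠ R' := by
          by_cases h2 : R = P
          · exact ⟨Q, by rw [h2]; exact hPQ⟩
          · exact ⟨P, h2⟩
        obtain ⟨R', hR'⟩ := h1
        exact CC_invol h he hTI hR' (HC.mm h hc R) ((cent_iff h ht htR).1 hct)
      obtain ⟨F, iF, iFt, hcard, ⟨e⟩⟩ := Cfsg.Agent.S1230.result P (by
        intro hcyc
        obtain ⟨⟨s, hs, hsP⟩, ⟨t, ht, htP⟩, hst⟩ := (Finite.one_lt_card_iff_nontrivial.1 hm :
          Nontrivial {t : G // orderOf t = 2 ∧ t ∈ (P : Subgroup G)})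
        have := cyclic_unique_involution hcyc (a := (⟨s, hsP⟩ : (P : Subgroup G))) (b := ⟨t, htP⟩)
          (by rw [← Subgroup.orderOf_coe]; exact hs) (by rw [← Subgroup.orderOf_coe]; exact ht)
        exact hst (Subtype.ext (show s = t from congrArg (fun z : (P : Subgroup G) => (z : G)) this))) (by
        intro hnorm
        obtain ⟨g, hg⟩ := MulAction.exists_smul_eq G P Q
        rw [Sylow.smul_eq_of_normal] at hg
        exact hPQ hg) (by
        intro t ht
        refine ⟨⟨⟨?_⟩⟩, ?_⟩
        · intro a b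
          exact Subtype.ext (h t ht a b (Subgroup.mem_centralizer_singleton_iff.1 a.2) (Subgroup.mem_centralizer_singleton_iff.1 b.2))
        · intro c hc'
          exact hexp t c ht (Subgroup.mem_centralizer_singleton_iff.1 hc'))
      obtain ⟨k, hk⟩ := IsPGroup.iff_card.1 P.isPGroup'
      have hk' : Fintype.card F = 2 ^ k := hcard.trans hk
      haveI : CharP F 2 := charP_of_card_eq_prime_pow hk'
      refine ⟨F, iF, iFt, PUnit, inferInstance, inferInstance, inferInstance, by simp, ⟨?_⟩⟩
      exact (e.trans Cfsg.Agent.H21.SL2e.equivPSL.symm).trans (MulEquiv.prodUnique).symm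
    · exfalso
      unfold TI at hTI
      push Not at hTI
      obtain ⟨R, x, hxR, hx1, g, hg, hgR⟩ := hTI
      have hMt : Subgroup.centralizer ({x} : Set G) ≠ ⊤ := by
        intro h0
        have h1 : x ∈ Subgroup.center G := by
          rw [Subgroup.mem_center_iff]
          intro y
          have : y ∈ Subgroup.centralizer ({x} : Set G) := by rw [h0]; trivial
          exact Subgroup.mem_centralizer_singleton_iff.1 this
        rw [hZ] at h1
        exact hx1 (Subgroup.mem_bot.1 h1)
      have hlt : Nat.card (Subgroup.centralizer ({x} : Set G)) < n := by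
        rw [← hG]
        exact lt_of_le_of_ne (Subgroup.card_le_card_group _) (fun h0 => hMt (Subgroup.eq_top_of_card_eq _ h0))
      have hmem : ∀ y : G, y ∈ Subgroup.centralizer ({x} : Set G) ↔ Commute y x := fun y => Subgroup.mem_centralizer_singleton_iff
      have hCM : CC R ≤ Subgroup.centralizer ({x} : Set G) := fun y hy => (hmem y).2 (CC_comm h he R y hy x hxR)
      have hPM : (R : Subgroup G) ≤ Subgroup.centralizer ({x} : Set G) := (le_CC h R).trans hCM
      have hypM : Hyp (Subgroup.centralizer ({x} : Set G)) := h.of_injective (Subgroup.subtype _) (Subgroup.subtype_injective _)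
      have hcM : HC (Subgroup.centralizer ({x} : Set G)) := by
        obtain ⟨⟨s, hs, hsP⟩, ⟨t, ht, htP⟩, hst⟩ := (Finite.one_lt_card_iff_nontrivial.1 (HC.mm h hc R) :
            Nontrivial {t : G // orderOf t = 2 ∧ t ∈ (R : Subgroup G)})
        refine ⟨⟨s, hPM hsP⟩, ⟨t, hPM htP⟩, by rw [← Subgroup.orderOf_coe]; exact hs, by rw [← Subgroup.orderOf_coe]; exact ht, ?_, ?_⟩
        · intro h0; exact hst (Subtype.ext (show s = t from congrArg (fun z : Subgroup.centralizer ({x} : Set G) => (z : G)) h0))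
        · exact Subtype.ext (sylow_comm h R s hsP t htP)
      have hnM : HN (Subgroup.centralizer ({x} : Set G)) := by
        obtain ⟨s₀, hs₀P, hs₀⟩ := exists_inv he R
        have ho : orderOf (g * s₀ * g⁻¹) = 2 := by rw [orderOf_conj]; exact hs₀
        have hgM := (hmem g).2 hg
        refine ⟨⟨s₀, hPM hs₀P⟩, ⟨g * s₀ * g⁻¹, mul_mem (mul_mem hgM (hPM hs₀P)) (inv_mem hgM)⟩,
          by rw [← Subgroup.orderOf_coe]; exact hs₀, by rw [← Subgroup.orderOf_coe]; exact ho, ?_⟩
        intro hcomm
        have h1 : Commute (g * s₀ * g⁻¹) s₀ := (congrArg Subtype.val hcomm).symm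
        have h2 : g * s₀ * g⁻¹ ∈ (R : Subgroup G) := (fix_iff ho).1 (smul_eq_of_CC ((cent_iff h hs₀ hs₀P).1 h1))
        apply hgR
        apply uniq h ho _ h2
        rw [mem_smul_sylow]
        have e : g⁻¹ * (g * s₀ * g⁻¹) * g = s₀ := by group
        rw [e]; exact hs₀P
      obtain ⟨F, iF, iFt, A, iA, iAf, hchar, hAo, ⟨e⟩⟩ := ih _ hlt _ rfl hypM hcM hnM
      exact no_local h hc hxR hg hgR hMt hAo e (fun s y hs hy => sl2_exp s y hs hy)
  · have ho := center_odd hn h
    have hlt : Nat.card (G ⧸ Subgroup.center G) < n := by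
      rw [← hG, Subgroup.card_eq_card_quotient_mul_card_subgroup (Subgroup.center G)]
      have h1 : 1 < Nat.card (Subgroup.center G) := by
        rw [Subgroup.one_lt_card_iff_ne_bot]; exact hZ
      have h2 : 0 < Nat.card (G ⧸ Subgroup.center G) := Nat.card_pos
      nlinarith
    obtain ⟨F, iF, iFt, A, iA, iAf, hchar, hAo, ⟨e⟩⟩ := ih _ hlt _ rfl (h.quot ho) (hc.quot ho) (hn.quot ho)
    obtain ⟨A', iA', iAf', hAo', he'⟩ := lift_center h hc hn hAo e
    exact ⟨F, iF, iFt, A', iA', iAf', hchar, hAo', he'⟩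

end Cfsg.Agent.H19.CA1
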