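import Mathlib
import Cfsg.Agent.H17_XRep
import Cfsg.Agent.H2_PGroup
import Cfsg.Agent.S0126

/-! Two generating sets of a p-group of automorphisms, factorization by fixed points. -/

set_option autoImplicit false
namespace Cfsg.Agent.H19.CD
open Cfsg.Agent.H17.XRep

theorem ex_ne {P : Type*} [Group P] {K : Subgroup P} (h : K ≠ ⊥) : ∃ t ∈ K, t ≠ 1 := by
  by_contra hcon
  push Not at hcon
  apply h
  rw [eq_bot_iff]
  intro t ht
  rw [Subgroup.mem_bot]; exact hcon t ht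

open scoped commutatorElement in
/-- central, or an order `p²` normal subgroup with good generators -/
theorem pair {P : Type*} [Group P] [Finite P] {p : ℕ} [hp : Fact p.Prime] (hp2 : p ≠ 2) (hP : IsPGroup p P)
    (hab : ¬ ∀ a b : P, a * b = b * a) :
    ∃ s t : P, s ^ p = 1 ∧ t ^ p = 1 ∧ t ≠ 1 ∧ (∀ g, g * t = t * g) ∧ (∀ k : ℕ, s * t ^ k ≠ 1) ∧
      (∀ g, ∃ b : ℤ, g * s * g⁻¹ = s * t ^ b) := by
  have hnc : ¬ IsCyclic P := by
    intro h
    exact hab (fun a b => by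
      obtain ⟨g, hg⟩ := h.exists_generator
      obtain ⟨m, hm⟩ := Subgroup.mem_zpowers_iff.1 (hg a)
      obtain ⟨n, hn⟩ := Subgroup.mem_zpowers_iff.1 (hg b)
      rw [← hm, ← hn, ← zpow_add, ← zpow_add, add_comm])
  obtain ⟨A, hA, hAe, hAc⟩ := Cfsg.Agent.S0126.result hp2 hP hnc
  haveI := hA
  have hA1 : A ≠ ⊥ := by
    intro h
    rw [h, Subgroup.card_bot] at hAc
    have := hp.out.one_lt
    nlinarith
  have hord : ∀ a ∈ A, a ≠ 1 → orderOf a = p := fun a ha h1 => orderOf_eq_prime (hAe.2 a ha) h1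
  obtain ⟨t, htA, ht1, htc, htK⟩ : ∃ t ∈ A, t ≠ 1 ∧ (∀ g, g * t = t * g) ∧ ⁅A, (⊤ : Subgroup P)⁆ ≤ Subgroup.zpowers t := by
    by_cases hK : ⁅A, (⊤ : Subgroup P)⁆ = ⊥
    · obtain ⟨t, ht, ht1⟩ := ex_ne (Cfsg.Agent.H2.PGroup.inf_center_ne_bot hP hA1)
      exact ⟨t, ht.1, ht1, fun g => Subgroup.mem_center_iff.1 ht.2 g, by rw [hK]; exact bot_le⟩
    · obtain ⟨t, ht, ht1⟩ := ex_ne (Cfsg.Agent.H2.PGroup.inf_center_ne_bot hP hK)
      have hlt := Cfsg.Agent.H2.PGroup.commutator_top_lt hP hA1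
      have htA : t ∈ A := hlt.le ht.1
      refine ⟨t, htA, ht1, fun g => Subgroup.mem_center_iff.1 ht.2 g, ?_⟩
      have hle : Subgroup.zpowers t ≤ ⁅A, (⊤ : Subgroup P)⁆ := by rw [Subgroup.zpowers_le]; exact ht.1
      have hcz : Nat.card (Subgroup.zpowers t) = p := by rw [Nat.card_zpowers, hord t htA ht1]
      have hdvd : Nat.card (⁅A, (⊤ : Subgroup P)⁆ : Subgroup P) ∣ p ^ 2 := by rw [← hAc]; exact Subgroup.card_dvd_of_le hlt.le
      obtain ⟨k, hk, hke⟩ := (Nat.dvd_prime_pow hp.out).1 hdvd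
      have hne2 : k ≠ 2 := by
        rintro rfl
        have := Subgroup.eq_of_le_of_card_ge hlt.le (by rw [hke, hAc])
        exact hlt.ne this
      have hle1 : Nat.card (⁅A, (⊤ : Subgroup P)⁆ : Subgroup P) ≤ p := by
        rw [hke]
        calc p ^ k ≤ p ^ 1 := Nat.pow_le_pow_right hp.out.pos (by omega)
          _ = p := pow_one p
      exact (Subgroup.eq_of_le_of_card_ge hle (by rw [hcz]; exact hle1)).ge
  obtain ⟨s, hsA, hst⟩ : ∃ s ∈ A, s ∉ Subgroup.zpowers t := by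
    by_contra hcon
    push Not at hcon
    have h1 : A ≤ Subgroup.zpowers t := hcon
    have h2 := Subgroup.card_le_of_le h1
    rw [hAc, Nat.card_zpowers, hord t htA ht1] at h2
    have := hp.out.one_lt
    nlinarith
  refine ⟨s, t, hAe.2 s hsA, hAe.2 t htA, ht1, htc, ?_, ?_⟩
  · intro k hk
    apply hst
    have : s = (t ^ k)⁻¹ := eq_inv_of_mul_eq_one_left hk
    rw [this]
    exact inv_mem (Subgroup.pow_mem _ (Subgroup.mem_zpowers t) k)
  · intro g
    have h1 : ⁅s, g⁆ ∈ ⁅A, (⊤ : Subgroup P)⁆ := Subgroup.commutator_mem_commutator hsA (Subgroup.mem_top g)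
    obtain ⟨b, hb⟩ := Subgroup.mem_zpowers_iff.1 (htK h1)
    refine ⟨-b, ?_⟩
    have hcm : ∀ m : ℤ, s * t ^ m = t ^ m * s := fun m => ((show Commute s t from htc s).zpow_right m).eq
    have h2 : s * g * s⁻¹ * g⁻¹ = t ^ b := by rw [hb]; rfl
    have h3 : g * s * g⁻¹ = (t ^ b)⁻¹ * s := by rw [← h2]; group
    rw [h3, hcm, zpow_neg]

section
variable {V : Type*} [CommGroup V] [Finite V] {p : ℕ}

/-- the norms determine the element -/
theorem all_nrm (hp : p.Prime) (hV : (Nat.card V).Coprime p) (σ τ : MulAut V) (hσ : σ ^ p = 1)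
    (hτ : τ ^ p = 1) (hc : σ * τ = τ * σ) (hfix : ∀ v, τ v = v → v = 1) (v : V)
    (h1 : ∀ k : ℕ, k < p → nrm p (σ * τ ^ k) v = 1) : v = 1 := by
  have hc' : Commute σ τ := hc
  have h2 : ∏ k ∈ Finset.range p, nrm p (σ * τ ^ k) v = 1 :=
    Finset.prod_eq_one fun k hk => h1 k (Finset.mem_range.mp hk)
  simp only [nrm_apply] at h2
  rw [Finset.prod_comm] at h2
  have h3 : ∀ j ∈ Finset.range p, j ≠ 0 → ∏ k ∈ Finset.range p, ((σ * τ ^ k) ^ j) v = 1 := by
    intro j hj hj0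
    have hjp := Finset.mem_range.mp hj
    have h4 : ∀ k, ((σ * τ ^ k) ^ j) v = (σ ^ j) (((τ ^ j) ^ k) v) := by
      intro k
      rw [(hc'.pow_right k).mul_pow, ← pow_mul, mul_comm k j, pow_mul]
      rfl
    simp only [h4]
    rw [← map_prod]
    have h5 : ∏ k ∈ Finset.range p, ((τ ^ j) ^ k) v = nrm p (τ ^ j) v := rfl
    rw [h5]
    have h6 : (τ ^ j) ^ p = 1 := by rw [← pow_mul, mul_comm, pow_mul, hτ, one_pow]
    have h7 : Nat.Coprime j p := by
      rw [Nat.coprime_comm, Nat.Prime.coprime_iff_not_dvd hp]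
      intro hd
      exact absurd (Nat.le_of_dvd (Nat.pos_of_ne_zero hj0) hd) (by omega)
    obtain ⟨a, b, hab⟩ := Nat.isCoprime_iff_coprime.mpr h7
    have h8 : τ = (τ ^ j) ^ a := by
      rw [← zpow_natCast, ← zpow_mul]
      have h6 : (j : ℤ) * a = 1 - b * p := by linarith
      rw [h6, zpow_sub, zpow_one, mul_comm b, zpow_mul, zpow_natCast, hτ, one_zpow, inv_one, mul_one]
    rw [nrm_eq_one h6 hfix h8, map_one]
  rw [Finset.prod_eq_single 0 h3 (fun h => absurd (Finset.mem_range.mpr hp.pos) h)] at h2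
  simp only [pow_zero] at h2
  rw [Finset.prod_const, Finset.card_range] at h2
  have h4 : v ^ p = 1 := h2
  have h5 := orderOf_dvd_of_pow_eq_one h4
  have h6 := orderOf_dvd_natCard v
  have h7 := Nat.dvd_gcd h6 h5
  rw [hV] at h7
  exact orderOf_eq_one_iff.mp (Nat.dvd_one.mp h7)

theorem nrm_conj (c ρ : MulAut V) (v : V) : nrm p (c * ρ * c⁻¹) v = c (nrm p ρ (c⁻¹ v)) := by
  rw [nrm_apply, nrm_apply, map_prod]
  refine Finset.prod_congr rfl fun j _ => ?_
  have h : (c * ρ * c⁻¹) ^ j = c * ρ ^ j * c⁻¹ := by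
    have := map_pow (MulAut.conj c) ρ j
    simp only [MulAut.conj_apply] at this
    exact this.symm
  rw [h]; rfl

theorem card_U_conj (c ρ : MulAut V) : Nat.card (U (c * ρ * c⁻¹)) = Nat.card (U ρ) := by
  apply le_antisymm
  · apply Nat.card_le_card_of_injective (fun v : U (c * ρ * c⁻¹) => (⟨c⁻¹ v, by
      have h1 : c (ρ (c⁻¹ v)) = v := v.2
      rw [mem_U]
      have h2 : ρ (c⁻¹ v) = c⁻¹ (c (ρ (c⁻¹ v))) := by simp
      rw [h2, h1]⟩ : U ρ))
    intro a b hab
    have := congrArg Subtype.val hab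
    exact Subtype.ext ((c⁻¹).injective this)
  · apply Nat.card_le_card_of_injective (fun v : U ρ => (⟨c v, by
      have h1 : ρ v = v := v.2
      rw [mem_U]
      show c (ρ (c⁻¹ (c v))) = c v
      have h2 : c⁻¹ (c (v : V)) = v := by simp
      rw [h2, h1]⟩ : U (c * ρ * c⁻¹)))
    intro a b hab
    have := congrArg Subtype.val hab
    exact Subtype.ext (c.injective this)

/-- all translates are conjugate -/
theorem conj_all (hp : p.Prime) {σ τ c : MulAut V} (hτ : τ ^ p = 1) (hc : σ * τ = τ * σ) (hcτ : c * τ = τ * c)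
    {b : ℤ} (hb : c * σ * c⁻¹ = σ * τ ^ b) (hne : c * σ ≠ σ * c) (k : ℕ) : ∃ j : ℕ, c ^ j * σ * (c ^ j)⁻¹ = σ * τ ^ k := by
  haveI : Fact p.Prime := ⟨hp⟩
  have hτb : τ ^ b ≠ 1 := by
    intro h
    rw [h, mul_one] at hb
    exact hne (mul_inv_eq_iff_eq_mul.1 hb)
  have hτ1 : τ ≠ 1 := by rintro rfl; exact hτb (one_zpow b)
  have ho : orderOf τ = p := orderOf_eq_prime hτ hτ1
  have hob : orderOf (τ ^ b) = p := orderOf_eq_prime (by rw [← zpow_natCast, ← zpow_mul, mul_comm, zpow_mul, zpow_natCast, hτ, one_zpow]) hτb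
  have hz : Subgroup.zpowers (τ ^ b) = Subgroup.zpowers τ := by
    apply Subgroup.eq_of_le_of_card_ge
    · rw [Subgroup.zpowers_le]; exact Subgroup.zpow_mem _ (Subgroup.mem_zpowers τ) b
    · rw [Nat.card_zpowers, Nat.card_zpowers, ho, hob]
  have hm : τ ^ k ∈ Subgroup.zpowers (τ ^ b) := by rw [hz]; exact Subgroup.pow_mem _ (Subgroup.mem_zpowers τ) k
  have hfo : IsOfFinOrder (τ ^ b) := isOfFinOrder_of_finite _
  obtain ⟨j, hj⟩ := Submonoid.mem_powers_iff _ _ |>.1 (hfo.mem_powers_iff_mem_zpowers.2 hm)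
  refine ⟨j, ?_⟩
  rw [← hj]
  clear hj hm
  have hcτ' : Commute c (τ ^ b) := (show Commute c τ from hcτ).zpow_right b
  induction j with
  | zero => simp
  | succ j ih =>
    have e : c ^ (j + 1) * σ * (c ^ (j + 1))⁻¹ = c * (c ^ j * σ * (c ^ j)⁻¹) * c⁻¹ := by
      rw [pow_succ', mul_inv_rev]; group
    rw [e, ih]
    have e2 : c * (σ * (τ ^ b) ^ j) * c⁻¹ = (c * σ * c⁻¹) * (c * (τ ^ b) ^ j * c⁻¹) := by group
    have e3 : c * (τ ^ b) ^ j * c⁻¹ = (τ ^ b) ^ j := by
      rw [(hcτ'.pow_right j).eq, mul_inv_cancel_right]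
    rw [e2, e3, hb, pow_succ', mul_assoc]

theorem card_U_le (hp : p.Prime) (hV : (Nat.card V).Coprime p) {σ τ c : MulAut V} (hσ : σ ^ p = 1)
    (hτ : τ ^ p = 1) (hc : σ * τ = τ * σ) (hfix : ∀ v, τ v = v → v = 1) (hcτ : c * τ = τ * c)
    {b : ℤ} (hb : c * σ * c⁻¹ = σ * τ ^ b) (hne : c * σ ≠ σ * c) : Nat.card (U c) ≤ Nat.card (U σ) := by
  apply Nat.card_le_card_of_injective (fun v : U c => (⟨nrm p σ v, nrm_fix hσ _⟩ : U σ))
  intro a b' hab
  have h0 : nrm p σ (a : V) = nrm p σ b' := congrArg Subtype.val hab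
  have h1 : nrm p σ ((a : V) * (b' : V)⁻¹) = 1 := by rw [map_mul, map_inv, h0, mul_inv_cancel]
  obtain ⟨v, hv⟩ : ∃ v, v = (a : V) * (b' : V)⁻¹ := ⟨_, rfl⟩
  have hvc : v ∈ U c := by rw [hv]; exact (U c).mul_mem a.2 ((U c).inv_mem b'.2)
  have hv1 : v = 1 := by
    apply all_nrm hp hV σ τ hσ hτ hc hfix
    intro k _
    obtain ⟨j, hj⟩ := conj_all hp hτ hc hcτ hb hne k
    rw [← hj, nrm_conj]
    have h7 : c ∈ MulAction.stabilizer (MulAut V) v := hvc
    have h8 : (c ^ j)⁻¹ ∈ MulAction.stabilizer (MulAut V) v := inv_mem (Subgroup.pow_mem _ h7 j)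
    have h9 : (c ^ j)⁻¹ v = v := h8
    rw [h9, hv, h1, map_one]
  rw [hv] at hv1
  exact Subtype.ext (mul_inv_eq_one.1 hv1)

/-- the irreducible case -/
theorem core (hp : p.Prime) (hp3 : 3 ≤ p) (hV : (Nat.card V).Coprime p) (P : Subgroup (MulAut V)) (hP : IsPGroup p P)
    (C D : Set (MulAut V)) (hC : Subgroup.closure C = P) (hD : Subgroup.closure D = P)
    (hF : ∀ c ∈ C, ∀ d ∈ D, ∀ v : V, ∃ a b : V, c a = a ∧ d b = b ∧ v = a * b)
    (hirr : ∀ M : Subgroup V, (∀ g ∈ P, ∀ m ∈ M, g m ∈ M) → M = ⊥ ∨ M = ⊤) : P = ⊥ := by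
  classical
  haveI : Fact p.Prime := ⟨hp⟩
  haveI : Finite (MulAut V) := inferInstance
  have hCP : ∀ c ∈ C, c ∈ P := fun c hc => hC ▸ Subgroup.subset_closure hc
  have hDP : ∀ c ∈ D, c ∈ P := fun c hc => hD ▸ Subgroup.subset_closure hc
  have inv : ∀ z ∈ P, (∀ g ∈ P, g * z = z * g) → z ≠ 1 → ∀ v, z v = v → v = 1 := by
    intro z hz hzc hz1 v hv
    rcases hirr (U z) (by
      intro g hg m hm
      rw [mem_U] at hm ⊢
      have : (z * g) m = (g * z) m := by rw [hzc g hg]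
      calc z (g m) = (z * g) m := rfl
        _ = (g * z) m := this
        _ = g (z m) := rfl
        _ = g m := by rw [hm]) with h1 | h1
    · have : v ∈ U z := hv
      rw [h1, Subgroup.mem_bot] at this
      exact this
    · exfalso
      apply hz1
      apply MulEquiv.ext
      intro w
      have : w ∈ U z := by rw [h1]; trivial
      exact this
  by_contra hP1
  by_cases hab : ∀ a b : P, a * b = b * a
  · obtain ⟨c, hcC, hc1⟩ : ∃ c ∈ C, c ≠ 1 := by
      by_contra hcon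
      push Not at hcon
      apply hP1
      rw [← hC, Subgroup.closure_eq_bot_iff]
      intro c hc
      exact hcon c hc
    have hfix := inv c (hCP c hcC) (fun g hg => by
      have := hab ⟨g, hg⟩ ⟨c, hCP c hcC⟩
      exact congrArg Subtype.val this) hc1
    apply hP1
    rw [← hD, Subgroup.closure_eq_bot_iff]
    intro d hd
    rw [Set.mem_singleton_iff]
    apply MulEquiv.ext
    intro v
    obtain ⟨a, b, ha, hb, rfl⟩ := hF c hcC d hd v
    rw [hfix a ha, one_mul, hb]; rfl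
  · have hV1 : ¬ ∀ v : V, v = 1 := by
      intro hV1
      apply hab
      intro a b
      apply Subtype.ext
      apply MulEquiv.ext
      intro v
      rw [hV1 ((↑(a * b) : MulAut V) v), hV1 ((↑(b * a) : MulAut V) v)]
    obtain ⟨s, t, hs, ht, ht1, htc, hst, hconj⟩ := pair (by omega) hP hab
    obtain ⟨σ, hσ'⟩ : ∃ σ : MulAut V, σ = s := ⟨_, rfl⟩
    obtain ⟨τ, hτ'⟩ : ∃ τ : MulAut V, τ = t := ⟨_, rfl⟩
    have hσP : σ ∈ P := by rw [hσ']; exact s.2
    have hτP : τ ∈ P := by rw [hτ']; exact t.2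
    have hσ : σ ^ p = 1 := by rw [hσ']; exact congrArg Subtype.val hs
    have hτ : τ ^ p = 1 := by rw [hτ']; exact congrArg Subtype.val ht
    have hτ1 : τ ≠ 1 := by rw [hτ']; intro h; exact ht1 (Subtype.ext h)
    have hτc : ∀ g ∈ P, g * τ = τ * g := by
      intro g hg
      rw [hτ']
      exact congrArg Subtype.val (htc ⟨g, hg⟩)
    have hστ : ∀ k : ℕ, σ * τ ^ k ≠ 1 := by
      intro k h
      rw [hσ', hτ'] at h
      exact hst k (Subtype.ext (by simpa using h))
    have hcj : ∀ g ∈ P, ∃ b : ℤ, g * σ * g⁻¹ = σ * τ ^ b := by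
      intro g hg
      obtain ⟨b, hb⟩ := hconj ⟨g, hg⟩
      refine ⟨b, ?_⟩
      rw [hσ', hτ']
      have := congrArg Subtype.val hb
      simpa using this
    have hfix := inv τ hτP hτc hτ1
    have hc := hτc σ hσP
    have hnotc : ∀ X : Set (MulAut V), Subgroup.closure X = P → ∃ c ∈ X, c * σ ≠ σ * c := by
      intro X hX
      by_contra hcon
      push Not at hcon
      have hall : ∀ g ∈ P, g * σ = σ * g := by
        intro g hg
        rw [← hX] at hg
        have : Subgroup.closure X ≤ Subgroup.centralizer {σ} := by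
          rw [Subgroup.closure_le]
          intro c hc
          show c ∈ Subgroup.centralizer {σ}
          rw [Subgroup.mem_centralizer_singleton_iff]
          exact hcon c hc
        exact Subgroup.mem_centralizer_singleton_iff.1 (this hg)
      apply hV1
      intro v
      refine exists_fixed hp hV σ τ hσ hτ hc hfix ?_ v
      intro k
      apply inv _ (mul_mem hσP (pow_mem hτP _))
      · intro g hg
        have h1 : Commute g σ := hall g hg
        have h2 : Commute g (τ ^ (k : ℕ)) := (show Commute g τ from hτc g hg).pow_right _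
        exact (h1.mul_right h2).eq
      · exact hστ k
    obtain ⟨c, hcC, hcn⟩ := hnotc C hC
    obtain ⟨d, hdD, hdn⟩ := hnotc D hD
    obtain ⟨bc, hbc⟩ := hcj c (hCP c hcC)
    obtain ⟨bd, hbd⟩ := hcj d (hDP d hdD)
    have uc := card_U_le hp hV hσ hτ hc hfix (hτc c (hCP c hcC)) hbc hcn
    have ud := card_U_le hp hV hσ hτ hc hfix (hτc d (hDP d hdD)) hbd hdn
    obtain ⟨w, hw⟩ : ∃ w, w = Nat.card (U σ) := ⟨_, rfl⟩
    rw [← hw] at uc ud
    have hall : ∀ k : ℕ, Nat.card (U (σ * τ ^ k)) = w := by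
      intro k
      obtain ⟨j, hj⟩ := conj_all hp hτ hc (hτc c (hCP c hcC)) hbc hcn k
      rw [← hj, card_U_conj, hw]
    have hw1 : 2 ≤ w := by
      by_contra hlt
      have hpos : 0 < w := by rw [hw]; exact Nat.card_pos
      have hw1 : w = 1 := by omega
      apply hV1
      intro v
      refine exists_fixed hp hV σ τ hσ hτ hc hfix ?_ v
      intro k u hu
      have h1 := hall k
      rw [hw1] at h1
      have h2 : U (σ * τ ^ (k : ℕ)) = ⊥ := Subgroup.card_eq_one.1 h1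
      have : u ∈ U (σ * τ ^ (k : ℕ)) := hu
      rw [h2, Subgroup.mem_bot] at this
      exact this
    have hprod := prod_card_le hp hV σ τ hσ hτ hc hfix
    have hprod' : ∏ i : Fin p, Nat.card (U (σ * τ ^ (i : ℕ))) = w ^ p := by
      rw [Finset.prod_congr rfl (g := fun _ => w) (fun (i : Fin p) _ => hall (i : ℕ)), Finset.prod_const, Finset.card_univ,
        Fintype.card_fin]
    rw [hprod'] at hprod
    have hVle : Nat.card V ≤ Nat.card (U c) * Nat.card (U d) := by
      rw [← Nat.card_prod]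
      apply Nat.card_le_card_of_surjective (fun x : U c × U d => (x.1 : V) * (x.2 : V))
      intro v
      obtain ⟨a, b, ha, hb, rfl⟩ := hF c hcC d hdD v
      exact ⟨(⟨a, ha⟩, ⟨b, hb⟩), rfl⟩
    have h1 : w ^ p ≤ w * w := hprod.trans (hVle.trans (Nat.mul_le_mul uc ud))
    have h2 : w ^ 3 ≤ w ^ p := Nat.pow_le_pow_right (by omega) hp3
    have h3 : w ^ 3 ≤ w * w := h2.trans h1
    have h4 : w * w < w ^ 3 := by
      have : w ^ 3 = w * w * w := by ring
      rw [this]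
      nlinarith
    omega

end

end Cfsg.Agent.H19.CD
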