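import Mathlib
import Cfsg.Agent.H19_CD1
import Cfsg.Agent.H1_Coprime2

/-! Two generating sets of a p-group acting on a p'-group. -/

set_option autoImplicit false
namespace Cfsg.Agent.H19.CD
open Subgroup
open Cfsg.Agent.H17.XRep (U)
open scoped Pointwise commutatorElement
universe u

variable {G : Type u} [Group G] [Finite G] {p : ℕ}

/-- the hypothesis -/
structure Hyp (p : ℕ) (P Q : Subgroup G) (C D : Set G) : Prop where
  pg : IsPGroup p P
  nor : P ≤ Subgroup.normalizer (Q : Set G)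
  cop : (Nat.card Q).Coprime p
  hC : Subgroup.closure C = P
  hD : Subgroup.closure D = P
  h : ∀ x ∈ Q, ∀ c ∈ C, ∀ d ∈ D, IsPGroup p (Subgroup.closure ({x * c * x⁻¹, d} : Set G))

theorem Hyp.sub {P Q Q' : Subgroup G} {C D : Set G} (H : Hyp p P Q C D) (hQ : Q' ≤ Q)
    (hn : P ≤ Subgroup.normalizer (Q' : Set G)) : Hyp p P Q' C D :=
  ⟨H.pg, hn, Nat.Coprime.coprime_dvd_left (Subgroup.card_dvd_of_le hQ) H.cop, H.hC, H.hD,
    fun x hx => H.h x (hQ hx)⟩

theorem Hyp.coprime {P Q : Subgroup G} {C D : Set G} [hp : Fact p.Prime] (H : Hyp p P Q C D) :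
    (Nat.card P).Coprime (Nat.card Q) := by
  obtain ⟨n, hn⟩ := IsPGroup.iff_card.1 H.pg
  rw [hn]
  exact Nat.Coprime.pow_left n H.cop.symm

theorem Hyp.factor {P Q : Subgroup G} {C D : Set G} [hp : Fact p.Prime] (H : Hyp p P Q C D) {x c d : G}
    (hx : x ∈ Q) (hc : c ∈ C) (hd : d ∈ D) :
    ∃ a ∈ Q, ∃ b ∈ Q, c * a = a * c ∧ d * b = b * d ∧ x = b * a := by
  have hcop := H.coprime
  have hcP : c ∈ P := H.hC ▸ Subgroup.subset_closure hc
  have hdP : d ∈ P := H.hD ▸ Subgroup.subset_closure hd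
  have hdis : P ⊓ Q = ⊥ := Cfsg.Agent.H1.Basic.disjoint_of_coprime_card hcop
  obtain ⟨L, hL⟩ : ∃ L : Subgroup G, L = P ⊔ Q := ⟨_, rfl⟩
  have hPL : P ≤ L := by rw [hL]; exact le_sup_left
  have hQL : Q ≤ L := by rw [hL]; exact le_sup_right
  obtain ⟨K, hK⟩ : ∃ K, K = Subgroup.closure ({x * c * x⁻¹, d} : Set G) := ⟨_, rfl⟩
  have hKp := H.h x hx c hc d hd
  rw [← hK] at hKp
  have hxc : x * c * x⁻¹ ∈ K := by rw [hK]; exact Subgroup.subset_closure (by simp)
  have hdK : d ∈ K := by rw [hK]; exact Subgroup.subset_closure (by simp)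
  have hKL : K ≤ L := by
    rw [hK, Subgroup.closure_le]
    rintro u (rfl | rfl)
    · exact mul_mem (mul_mem (hQL hx) (hPL hcP)) (inv_mem (hQL hx))
    · exact hPL hdP
  obtain ⟨n, hn⟩ := IsPGroup.iff_card.1 H.pg
  have hLc : Nat.card L = p ^ n * Nat.card Q := by
    rw [hL, Cfsg.Agent.H1.Coprime.card_sup_of_le_normalizer H.nor hdis, hn]
  have hfac : (Nat.card L).factorization p = n := by
    have hQ0 : Nat.card Q ≠ 0 := Nat.card_pos.ne'
    have hpq : ¬ p ∣ Nat.card Q := by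
      intro h
      have := Nat.Coprime.eq_one_of_dvd H.cop.symm h
      exact hp.out.one_lt.ne' this
    rw [hLc, Nat.factorization_mul (pow_ne_zero _ hp.out.ne_zero) hQ0, Nat.factorization_pow]
    simp [hp.out.factorization, Nat.factorization_eq_zero_of_not_dvd hpq]
  have hK' : IsPGroup p (K.subgroupOf L) := hKp.comap_of_injective L.subtype L.subtype_injective
  obtain ⟨B, hB⟩ := hK'.exists_le_sylow
  have hBc : Nat.card ((B : Subgroup L).map L.subtype) = Nat.card P := by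
    rw [Subgroup.card_map_of_injective L.subtype_injective, B.card_eq_multiplicity, hfac, hn]
  have hsolv : Group.IsSolvable P := by
    haveI := H.pg.isNilpotent
    infer_instance
  obtain ⟨k, hk, hkB⟩ := Cfsg.Agent.H1.Coprime.sz_internal (A := P) (B := (B : Subgroup L).map L.subtype) (K := Q)
    H.nor (by rw [← hL]; exact Subgroup.map_subtype_le _) hBc hcop (Or.inl hsolv)
  have hKB : ∀ u ∈ K, k⁻¹ * u * k ∈ P := by
    intro u hu
    have : u ∈ (B : Subgroup L).map L.subtype := ⟨⟨u, hKL hu⟩, hB hu, rfl⟩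
    rw [← hkB, Cfsg.Agent.H1.Basic.mem_conj] at this
    exact this
  have e1 : k⁻¹ * d * k = d := by
    have h1 := hKB d hdK
    have h2 : k⁻¹ * d * k * d⁻¹ ∈ P ⊓ Q := by
      refine Subgroup.mem_inf.2 ⟨mul_mem h1 (inv_mem hdP), ?_⟩
      have : k⁻¹ * d * k * d⁻¹ = k⁻¹ * (d * k * d⁻¹) := by group
      rw [this]
      exact mul_mem (inv_mem hk) ((Subgroup.mem_normalizer_iff.1 (H.nor hdP) k).1 hk)
    rw [hdis, Subgroup.mem_bot] at h2
    exact mul_inv_eq_one.1 h2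
  have e2 : k⁻¹ * (x * c * x⁻¹) * k = c := by
    have h1 := hKB _ hxc
    have h2 : k⁻¹ * (x * c * x⁻¹) * k * c⁻¹ ∈ P ⊓ Q := by
      refine Subgroup.mem_inf.2 ⟨mul_mem h1 (inv_mem hcP), ?_⟩
      have : k⁻¹ * (x * c * x⁻¹) * k * c⁻¹ = (k⁻¹ * x) * (c * (x⁻¹ * k) * c⁻¹) := by group
      rw [this]
      exact mul_mem (mul_mem (inv_mem hk) hx) ((Subgroup.mem_normalizer_iff.1 (H.nor hcP) _).1 (mul_mem (inv_mem hx) hk))
    rw [hdis, Subgroup.mem_bot] at h2
    exact mul_inv_eq_one.1 h2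
  refine ⟨k⁻¹ * x, mul_mem (inv_mem hk) hx, k, hk, ?_, ?_, by group⟩
  · nth_rw 1 [← e2]; group
  · nth_rw 2 [← e1]; group

theorem preim {P : Subgroup G} {C : Set G} (hC : Subgroup.closure C = P) :
    Subgroup.closure ((↑) ⁻¹' C : Set P) = ⊤ := by
  subst hC
  exact Subgroup.closure_closure_coe_preimage

theorem core' {W : Type*} [inst : Group W] [Finite W] (hcomm : ∀ a b : W, a * b = b * a) (hp : p.Prime) (hp3 : 3 ≤ p)
    (hV : (Nat.card W).Coprime p) (P : Subgroup (MulAut W)) (hP : IsPGroup p P)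
    (C D : Set (MulAut W)) (hC : Subgroup.closure C = P) (hD : Subgroup.closure D = P)
    (hF : ∀ c ∈ C, ∀ d ∈ D, ∀ v : W, ∃ a b : W, c a = a ∧ d b = b ∧ v = a * b)
    (hirr : ∀ M : Subgroup W, (∀ g ∈ P, ∀ m ∈ M, g m ∈ M) → M = ⊥ ∨ M = ⊤) : P = ⊥ := by
  letI : CommGroup W := { inst with mul_comm := hcomm }
  exact core hp hp3 hV P hP C D hC hD hF hirr

set_option maxHeartbeats 1000000 in
theorem qcase [hp : Fact p.Prime] (hp3 : 3 ≤ p) {q : ℕ} [hq : Fact q.Prime] (n : ℕ) :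
    ∀ (P Q : Subgroup G) (C D : Set G), Nat.card Q = n → IsPGroup q Q → Hyp p P Q C D →
      P ≤ Subgroup.centralizer (Q : Set G) := by
  induction n using Nat.strong_induction_on with
  | _ n ih =>
  intro P Q C D hn hQ H
  have hcop := H.coprime
  have hsolv : Group.IsSolvable P := by
    haveI := H.pg.isNilpotent
    infer_instance
  have IH : ∀ Q' : Subgroup G, Q' < Q → P ≤ Subgroup.normalizer (Q' : Set G) → P ≤ Subgroup.centralizer (Q' : Set G) := by
    intro Q' hQ' hn'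
    refine ih (Nat.card Q') ?_ P Q' C D rfl (hQ.to_le hQ'.le) (H.sub hQ'.le hn')
    rw [← hn]
    have h1 := Subgroup.card_le_of_le hQ'.le
    rcases lt_or_eq_of_le h1 with h2 | h2
    · exact h2
    · exact absurd (Subgroup.eq_of_le_of_card_ge hQ'.le h2.ge) hQ'.ne
  by_contra hnot
  -- `[Q, P] = Q`
  have hQP : ⁅Q, P⁆ = Q := by
    by_contra hne
    have hle : ⁅Q, P⁆ ≤ Q := Cfsg.Agent.H1.Coprime.commutator_le_of_le_normalizer H.nor
    have hlt : ⁅Q, P⁆ < Q := lt_of_le_of_ne hle hne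
    have hnor : P ≤ Subgroup.normalizer ((⁅Q, P⁆ : Subgroup G) : Set G) :=
      Subgroup.normalizer_commutator_ge_right _ _
    have h1 := IH _ hlt hnor
    have h2 : ⁅⁅Q, P⁆, P⁆ = ⊥ := by
      rw [Subgroup.commutator_comm, Subgroup.commutator_eq_bot_iff_le_centralizer]; exact h1
    rw [Cfsg.Agent.H1.Coprime.commutator_commutator_eq P Q H.nor hcop (Or.inl hsolv)] at h2
    apply hnot
    rw [Subgroup.commutator_comm, Subgroup.commutator_eq_bot_iff_le_centralizer] at h2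
    exact h2
  obtain ⟨Z, hZ⟩ : ∃ Z : Subgroup G, Z = Q ⊓ Subgroup.centralizer (P : Set G) := ⟨_, rfl⟩
  have hZQ : Z ≤ Q := by rw [hZ]; exact inf_le_left
  have hZlt : Z < Q := by
    refine lt_of_le_of_ne hZQ ?_
    intro h
    apply hnot
    rw [Subgroup.le_centralizer_iff, ← h, hZ]
    exact inf_le_right
  have hinto : ∀ Q' : Subgroup G, Q' < Q → P ≤ Subgroup.normalizer (Q' : Set G) → Q' ≤ Z := by
    intro Q' h1 h2
    rw [hZ]
    refine le_inf h1.le ?_
    rw [Subgroup.le_centralizer_iff]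
    exact IH Q' h1 h2
  have hQ1 : Q ≠ ⊥ := by
    rintro rfl
    exact absurd hZlt not_lt_bot
  have hnilp : Group.IsNilpotent Q := hQ.isNilpotent
  have hQQ : ⁅Q, Q⁆ ≤ Z := by
    apply hinto
    · refine lt_of_le_of_ne (Subgroup.commutator_le_self Q) ?_
      intro h
      exact Cfsg.Agent.H1.Coprime.commutator_lt_of_nilpotent hnilp le_rfl hQ1 h.ge
    · exact Cfsg.Agent.H1.Coprime.le_normalizer_commutator_of H.nor H.nor
  obtain ⟨Z1, hZ1⟩ : ∃ Z1 : Subgroup Q, Z1 = Z.subgroupOf Q := ⟨_, rfl⟩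
  have mZ1 : ∀ x : Q, x ∈ Z1 ↔ (x : G) ∈ Z := fun x => by rw [hZ1, Subgroup.mem_subgroupOf]
  have hZ1n : Z1.Normal := by
    refine ⟨fun z hz g => ?_⟩
    rw [mZ1] at hz ⊢
    have h1 : ⁅(g : G), (z : G)⁆ ∈ Z := hQQ (Subgroup.commutator_mem_commutator g.2 z.2)
    have h2 : ((g * z * g⁻¹ : Q) : G) = ⁅(g : G), (z : G)⁆ * z := by
      rw [commutatorElement_def]; push_cast; group
    rw [h2]
    exact mul_mem h1 hz
  have hWc : ∀ a b : Q ⧸ Z1, a * b = b * a := by
    intro a b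
    obtain ⟨x, rfl⟩ := QuotientGroup.mk_surjective a
    obtain ⟨y, rfl⟩ := QuotientGroup.mk_surjective b
    show (QuotientGroup.mk (x * y) : Q ⧸ Z1) = QuotientGroup.mk (y * x)
    rw [QuotientGroup.eq, mZ1]
    have h1 : ⁅(y : G)⁻¹, (x : G)⁻¹⁆ ∈ Z :=
      hQQ (Subgroup.commutator_mem_commutator (inv_mem y.2) (inv_mem x.2))
    have h2 : (((x * y)⁻¹ * (y * x) : Q) : G) = ⁅(y : G)⁻¹, (x : G)⁻¹⁆ := by
      rw [commutatorElement_def]; push_cast; group
    rw [h2]; exact h1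
  obtain ⟨φ, hφ⟩ : ∃ φ : P → MulAut Q, ∀ g x, ((φ g x : Q) : G) = g * x * (g : G)⁻¹ :=
    ⟨fun g => Q.normalizerMonoidHom ⟨g, H.nor g.2⟩, fun g x => rfl⟩
  have hPZ : ∀ g ∈ P, ∀ z ∈ Z, g * z * g⁻¹ = z := by
    intro g hg z hz
    rw [hZ] at hz
    have := Subgroup.mem_centralizer_iff.1 hz.2 g hg
    rw [this, mul_inv_cancel_right]
  have hφZ : ∀ g, Z1.map (φ g).toMonoidHom = Z1 := by
    intro g
    ext x
    rw [Subgroup.mem_map]
    constructor
    · rintro ⟨z, hz, rfl⟩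
      rw [mZ1] at hz ⊢
      show ((φ g z : Q) : G) ∈ Z
      rw [hφ, hPZ g g.2 _ hz]; exact hz
    · intro hx
      refine ⟨x, hx, ?_⟩
      apply Subtype.ext
      show ((φ g x : Q) : G) = x
      rw [hφ, hPZ g g.2 _ ((mZ1 x).1 hx)]
  let ψ : P →* MulAut (Q ⧸ Z1) := MonoidHom.mk' (fun g => QuotientGroup.congr Z1 Z1 (φ g) (hφZ g)) (by
    intro g h
    apply MulEquiv.ext
    intro w
    obtain ⟨x, rfl⟩ := QuotientGroup.mk_surjective w
    show (QuotientGroup.mk (φ (g * h) x) : Q ⧸ Z1) = QuotientGroup.mk (φ g (φ h x))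
    congr 1
    apply Subtype.ext
    rw [hφ, hφ, hφ]
    push_cast; group)
  have hψ : ∀ g x, ψ g (QuotientGroup.mk x) = QuotientGroup.mk (φ g x) := fun g x => rfl
  have hrange : ∀ X : Set G, Subgroup.closure X = P → ∃ X' : Set (MulAut (Q ⧸ Z1)), Subgroup.closure X' = ψ.range ∧
      ∀ f ∈ X', ∃ c : P, (c : G) ∈ X ∧ ψ c = f := by
    intro X hX
    refine ⟨ψ '' (Subtype.val ⁻¹' X), ?_, ?_⟩
    · rw [← MonoidHom.map_closure, preim hX, MonoidHom.range_eq_map]
    · rintro _ ⟨c, hc, rfl⟩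
      exact ⟨c, hc, rfl⟩
  obtain ⟨C', hC1, hC2⟩ := hrange C H.hC
  obtain ⟨D', hD1, hD2⟩ := hrange D H.hD
  have hpg : IsPGroup p ψ.range := IsPGroup.of_surjective H.pg ψ.rangeRestrict ψ.rangeRestrict_surjective
  have hcopW : (Nat.card (Q ⧸ Z1)).Coprime p := by
    have h1 : Nat.card (Q ⧸ Z1) ∣ Nat.card Q := Subgroup.card_quotient_dvd_card Z1
    exact Nat.Coprime.coprime_dvd_left h1 H.cop
  have hbot := core' (W := Q ⧸ Z1) hWc hp.out hp3 hcopW ψ.range hpg C' D' hC1 hD1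
    (by
      intro c' hc' d' hd' v
      obtain ⟨c, hc, rfl⟩ := hC2 c' hc'
      obtain ⟨d, hd, rfl⟩ := hD2 d' hd'
      obtain ⟨x, rfl⟩ := QuotientGroup.mk_surjective v
      obtain ⟨a, ha, b, hb, e1, e2, e3⟩ := H.factor x.2 hc hd
      refine ⟨QuotientGroup.mk ⟨a, ha⟩, QuotientGroup.mk ⟨b, hb⟩, ?_, ?_, ?_⟩
      · rw [hψ]
        congr 1
        apply Subtype.ext
        rw [hφ]
        show (c : G) * a * (c : G)⁻¹ = a
        rw [e1, mul_inv_cancel_right]
      · rw [hψ]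
        congr 1
        apply Subtype.ext
        rw [hφ]
        show (d : G) * b * (d : G)⁻¹ = b
        rw [e2, mul_inv_cancel_right]
      · rw [hWc]
        show (QuotientGroup.mk x : Q ⧸ Z1) = QuotientGroup.mk (⟨b, hb⟩ * ⟨a, ha⟩)
        congr 1
        exact Subtype.ext e3)
    (by
      intro M hM
      by_cases hMQ : (M.comap (QuotientGroup.mk' Z1)).map Q.subtype = Q
      · right
        rw [eq_top_iff]
        intro w _
        obtain ⟨x, rfl⟩ := QuotientGroup.mk_surjective w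
        have hx : (x : G) ∈ (M.comap (QuotientGroup.mk' Z1)).map Q.subtype := by rw [hMQ]; exact x.2
        obtain ⟨y, hy, hyx⟩ := hx
        have : y = x := Subtype.ext hyx
        rw [← this]; exact hy
      · left
        have hlt : (M.comap (QuotientGroup.mk' Z1)).map Q.subtype < Q :=
          lt_of_le_of_ne (Subgroup.map_subtype_le _) hMQ
        have hmem : ∀ g ∈ P, ∀ x ∈ (M.comap (QuotientGroup.mk' Z1)).map Q.subtype,
            g * x * g⁻¹ ∈ (M.comap (QuotientGroup.mk' Z1)).map Q.subtype := by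
          rintro g hg _ ⟨y, hy, rfl⟩
          refine ⟨φ ⟨g, hg⟩ y, ?_, hφ ⟨g, hg⟩ y⟩
          have h1 := hM (ψ ⟨g, hg⟩) ⟨⟨g, hg⟩, rfl⟩ _ hy
          exact h1
        have hle := hinto _ hlt (by
          intro g hg
          rw [Subgroup.mem_normalizer_iff]
          intro x
          constructor
          · exact hmem g hg x
          · intro hx
            have := hmem g⁻¹ (inv_mem hg) _ hx
            have e : g⁻¹ * (g * x * g⁻¹) * g⁻¹⁻¹ = x := by group
            rwa [e] at this)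
        rw [eq_bot_iff]
        intro w hw
        obtain ⟨x, rfl⟩ := QuotientGroup.mk_surjective w
        have h1 : (x : G) ∈ Z := hle ⟨x, hw, rfl⟩
        rw [Subgroup.mem_bot, QuotientGroup.eq_one_iff, mZ1]
        exact h1)
  have hcomm : ⁅Q, P⁆ ≤ Z := by
    rw [Subgroup.commutator_le]
    intro x hx g hg
    have h1 : ψ ⟨g, hg⟩ = 1 := by
      have : ψ ⟨g, hg⟩ ∈ ψ.range := ⟨_, rfl⟩
      rw [hbot, Subgroup.mem_bot] at this
      exact this
    have h2 : ψ ⟨g, hg⟩ (QuotientGroup.mk (⟨x, hx⟩ : Q)) = QuotientGroup.mk (⟨x, hx⟩ : Q) := by rw [h1]; rfl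
    rw [hψ, QuotientGroup.eq, mZ1] at h2
    have h3 : (((φ ⟨g, hg⟩ ⟨x, hx⟩)⁻¹ * ⟨x, hx⟩ : Q) : G) = (g * x * g⁻¹)⁻¹ * x := by
      push_cast; rw [hφ]
    rw [h3] at h2
    -- `x g x⁻¹ g⁻¹ = x ((g x g⁻¹)⁻¹ x) x⁻¹`
    have h4 : ⁅x, g⁆ = ⁅x, (g * x * g⁻¹)⁻¹ * x⁆ * ((g * x * g⁻¹)⁻¹ * x) := by
      rw [commutatorElement_def, commutatorElement_def]; group
    rw [h4]
    exact mul_mem (hQQ (Subgroup.commutator_mem_commutator hx (hZQ h2))) h2
  rw [hQP] at hcomm
  exact absurd (lt_of_le_of_lt hcomm hZlt) (lt_irrefl _)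

theorem main [hp : Fact p.Prime] (hp3 : 3 ≤ p) {P N : Subgroup G} {C D : Set G} (H : Hyp p P N C D) :
    P ≤ Subgroup.centralizer (N : Set G) := by
  have hcop := H.coprime
  have hsolv : Group.IsSolvable P := by
    haveI := H.pg.isNilpotent
    infer_instance
  obtain ⟨Z, hZ⟩ : ∃ Z : Subgroup G, Z = N ⊓ Subgroup.centralizer (P : Set G) := ⟨_, rfl⟩
  have hZN : Z ≤ N := by rw [hZ]; exact inf_le_left
  have hdvd : Nat.card N ∣ Nat.card Z := by
    rw [← Nat.factorization_prime_le_iff_dvd Nat.card_pos.ne' Nat.card_pos.ne']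
    intro q hq
    haveI : Fact q.Prime := ⟨hq⟩
    obtain ⟨S, hS⟩ := Cfsg.Agent.H1.Coprime.invariant_sylow_exists P N H.nor hcop (Or.inl hsolv) q
    have hSN : (S : Subgroup N).map N.subtype ≤ N := Subgroup.map_subtype_le _
    have hSc : Nat.card ((S : Subgroup N).map N.subtype) = q ^ (Nat.card N).factorization q :=
      Cfsg.Agent.H1.Coprime.card_map_sylow S
    have h1 := qcase hp3 (q := q) _ P ((S : Subgroup N).map N.subtype) C D rfl (IsPGroup.of_card hSc) (H.sub hSN hS)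
    have h2 : (S : Subgroup N).map N.subtype ≤ Z := by
      rw [hZ]
      refine le_inf hSN ?_
      rw [Subgroup.le_centralizer_iff]; exact h1
    have h3 := Subgroup.card_dvd_of_le h2
    rw [hSc] at h3
    exact (hq.pow_dvd_iff_le_factorization Nat.card_pos.ne').1 h3
  have hle : N ≤ Z := by
    have := Subgroup.eq_of_le_of_card_ge hZN (Nat.le_of_dvd Nat.card_pos hdvd)
    exact this.ge
  rw [Subgroup.le_centralizer_iff]
  refine hle.trans ?_
  rw [hZ]; exact inf_le_right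

end Cfsg.Agent.H19.CD
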