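import Mathlib
import Cfsg.Agent.H19_FT1
import Cfsg.Agent.H3_Fpf

/-! Feit–Thompson, self-centralizing subgroups of order three: basic facts. -/

set_option autoImplicit false
set_option linter.unusedSectionVars false
namespace Cfsg.Agent.H19.FT2

/-- `x` has order three and is self-centralizing -/
structure SC {G : Type*} [Group G] (x : G) : Prop where
  o3 : orderOf x = 3
  cen : ∀ g : G, Commute g x → g ∈ Subgroup.zpowers x

variable {G : Type*} [Group G]

theorem cube {x : G} (h : orderOf x = 3) : x * x * x = 1 := by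
  have : x ^ 3 = 1 := by rw [← h]; exact pow_orderOf_eq_one x
  rw [← this]; simp [pow_succ]

theorem inv_eq {x : G} (h : orderOf x = 3) : x⁻¹ = x * x := by
  rw [inv_eq_iff_mul_eq_one, ← mul_assoc, cube h]

theorem ne_one {x : G} (h : orderOf x = 3) : x ≠ 1 := by
  rintro rfl; rw [orderOf_one] at h; omega

theorem ne_inv {x : G} (h : orderOf x = 3) : x ≠ x⁻¹ := by
  intro h1
  have h2 : x ^ 2 = 1 := by rw [pow_two]; nth_rw 2 [h1]; rw [mul_inv_cancel]
  have := orderOf_dvd_of_pow_eq_one h2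
  rw [h] at this; omega

theorem zp {x g : G} (h : orderOf x = 3) (hg : g ∈ Subgroup.zpowers x) : g = 1 ∨ g = x ∨ g = x⁻¹ := by
  obtain ⟨k, rfl⟩ := Subgroup.mem_zpowers_iff.1 hg
  have h1 : x ^ k = x ^ (k % 3) := by
    have := zpow_mod_orderOf x k
    rw [h] at this
    exact_mod_cast this.symm
  rw [h1]
  have h2 : k % 3 = 0 ∨ k % 3 = 1 ∨ k % 3 = 2 := by omega
  rcases h2 with h2 | h2 | h2 <;> rw [h2]
  · left; simp
  · right; left; simp
  · right; right; rw [inv_eq h]; rw [zpow_two]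

theorem o3_conj {x : G} (h : orderOf x = 3) (g : G) : orderOf (g * x * g⁻¹) = 3 := by
  rw [← h]
  exact (MulEquiv.orderOf_eq (MulAut.conj g) x)

theorem SC.conj {x : G} (h : SC x) (g : G) : SC (g * x * g⁻¹) := by
  refine ⟨o3_conj h.o3 g, fun k hk => ?_⟩
  have h1 : Commute (g⁻¹ * k * g) x := by
    have h2 : (g⁻¹ * k * g) * x = g⁻¹ * (k * (g * x * g⁻¹)) * g := by group
    rw [Commute, SemiconjBy, h2, hk.eq]; group
  obtain ⟨n, hn⟩ := Subgroup.mem_zpowers_iff.1 (h.cen _ h1)
  refine Subgroup.mem_zpowers_iff.2 ⟨n, ?_⟩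
  rw [conj_zpow, hn]; group

theorem SC.inv {x : G} (h : SC x) : SC x⁻¹ := by
  refine ⟨by rw [orderOf_inv]; exact h.o3, fun k hk => ?_⟩
  rw [Subgroup.zpowers_inv]
  exact h.cen k (by simpa using hk.inv_right)

variable [Finite G]

theorem SC.card_le {x : G} (h : SC x) {P : Subgroup G} (hP : IsPGroup 3 P) (hx : x ∈ P) : P = Subgroup.zpowers x := by
  haveI : Fact (Nat.Prime 3) := ⟨Nat.prime_three⟩
  refine le_antisymm ?_ (by rw [Subgroup.zpowers_le]; exact hx)
  haveI : Nontrivial P := ⟨⟨⟨x, hx⟩, 1, fun h' => ne_one h.o3 (congrArg Subtype.val h')⟩⟩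
  haveI := hP.center_nontrivial
  obtain ⟨⟨z, hz⟩, hz1⟩ := exists_ne (1 : Subgroup.center P)
  have hz1' : (z : G) ≠ 1 := by
    intro h'; exact hz1 (Subtype.ext (Subtype.ext h'))
  have hzc : ∀ k ∈ P, Commute (z : G) k := fun k hk =>
    congrArg Subtype.val ((Subgroup.mem_center_iff.1 hz ⟨k, hk⟩).symm)
  have h1 := h.cen _ (hzc x hx)
  intro k hk
  apply h.cen
  rcases zp h.o3 h1 with h2 | h2 | h2
  · exact absurd h2 hz1'
  · rw [← h2]; exact (hzc k hk).symm
  · have : x = (z : G)⁻¹ := by rw [h2, inv_inv]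
    rw [this]; exact ((hzc k hk).symm).inv_right

theorem card_zp {x : G} (h : orderOf x = 3) : Nat.card (Subgroup.zpowers x) = 3 := by
  rw [Nat.card_zpowers, h]

theorem isP_zp {x : G} (h : orderOf x = 3) : IsPGroup 3 (Subgroup.zpowers x) :=
  IsPGroup.of_card (n := 1) (by rw [card_zp h]; norm_num)

theorem SC.not9 {x : G} (h : SC x) : ¬ 9 ∣ Nat.card G := by
  haveI : Fact (Nat.Prime 3) := ⟨Nat.prime_three⟩
  intro h9
  obtain ⟨P, hP⟩ := (isP_zp h.o3).exists_le_sylow
  have h1 := h.card_le P.isPGroup' (hP (Subgroup.mem_zpowers x))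
  have h2 := P.card_eq_multiplicity
  rw [h1, card_zp h.o3] at h2
  have h3 : 2 ≤ (Nat.card G).factorization 3 := by
    rw [← Nat.Prime.pow_dvd_iff_le_factorization Nat.prime_three Nat.card_pos.ne']
    exact h9
  have h4 : 3 ^ 2 ≤ 3 ^ (Nat.card G).factorization 3 := Nat.pow_le_pow_right (by norm_num) h3
  omega

theorem SC.conj_or {x y : G} (h : SC x) (hy : orderOf y = 3) :
    ∃ g, g * x * g⁻¹ = y ∨ g * x * g⁻¹ = y⁻¹ := by
  haveI : Fact (Nat.Prime 3) := ⟨Nat.prime_three⟩
  obtain ⟨P, hP⟩ := (isP_zp h.o3).exists_le_sylow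
  obtain ⟨Q, hQ⟩ := (isP_zp hy).exists_le_sylow
  have h1 := h.card_le P.isPGroup' (hP (Subgroup.mem_zpowers x))
  obtain ⟨g, hg⟩ := MulAction.exists_smul_eq G P Q
  refine ⟨g, ?_⟩
  have h3 : g * x * g⁻¹ ∈ (Q : Subgroup G) := by
    rw [← hg, Sylow.smul_def, Sylow.pointwise_smul_def]
    exact ⟨x, hP (Subgroup.mem_zpowers x), rfl⟩
  have h4 := (h.conj g).card_le Q.isPGroup' h3
  have h5 : y ∈ Subgroup.zpowers (g * x * g⁻¹) := by
    rw [← h4]; exact hQ (Subgroup.mem_zpowers y)
  rcases zp (h.conj g).o3 h5 with h6 | h6 | h6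
  · exact absurd h6 (ne_one hy)
  · left; exact h6.symm
  · right; rw [h6, inv_inv]

theorem SC.of {x y : G} (h : SC x) (hy : orderOf y = 3) : SC y := by
  obtain ⟨g, hg | hg⟩ := h.conj_or hy
  · rw [← hg]; exact h.conj g
  · have := (h.conj g).inv
    rw [hg, inv_inv] at this
    exact this

/-- counting modulo three -/
theorem mod3 {Ω : Type*} [Finite Ω] (f : Ω → Ω) (hf : ∀ a, f (f (f a)) = a) :
    Nat.card Ω ≡ Nat.card {a // f a = a} [MOD 3] := by
  classical
  haveI := Fintype.ofFinite Ω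
  haveI : Fact (Nat.Prime 3) := ⟨Nat.prime_three⟩
  have h := Equiv.Perm.card_fixedPoints_modEq (f := (f : Function.End Ω)) (p := 3) (n := 1) (by
    funext a
    exact hf a)
  rw [Nat.card_eq_fintype_card, Nat.card_eq_fintype_card]
  convert h using 1
  exact Fintype.card_congr (Equiv.refl _)

/-- `K` is a `3'`-subgroup normalized by `x` -/
structure PP (x : G) (K : Subgroup G) : Prop where
  inv : ∀ k ∈ K, x * k * x⁻¹ ∈ K
  c3 : ¬ 3 ∣ Nat.card K

theorem not_o3 {K : Subgroup G} (h : ¬ 3 ∣ Nat.card K) {k : G} (hk : k ∈ K) : orderOf k ≠ 3 := by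
  intro h3
  apply h
  rw [← h3]
  exact Subgroup.orderOf_dvd_natCard K hk

theorem SC.fpf {x y : G} (h : SC x) (hy : orderOf y = 3) {K : Subgroup G} (hK : ¬ 3 ∣ Nat.card K) {k : G} (hk : k ∈ K)
    (hc : Commute k y) : k = 1 := by
  rcases zp hy ((h.of hy).cen k hc) with h1 | h1 | h1
  · exact h1
  · exact absurd (by rw [h1]; exact hy) (not_o3 hK hk)
  · exact absurd (by rw [h1, orderOf_inv]; exact hy) (not_o3 hK hk)

theorem SC.mod {x : G} (h : SC x) {y : G} (hy : orderOf y = 3) {K : Subgroup G} (hK : PP y K) : Nat.card K % 3 = 1 := by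
  have h1 := mod3 (Ω := K) (fun k => ⟨y * k * y⁻¹, hK.inv k k.2⟩) (by
    intro a
    apply Subtype.ext
    show y * (y * (y * a * y⁻¹) * y⁻¹) * y⁻¹ = a
    have e : y * (y * (y * (a : G) * y⁻¹) * y⁻¹) * y⁻¹ = (y * y * y) * a * (y * y * y)⁻¹ := by group
    rw [e, cube hy]; simp)
  have h2 : Nat.card {a : K // (⟨y * a * y⁻¹, hK.inv a a.2⟩ : K) = a} = 1 := by
    rw [Nat.card_eq_one_iff_unique]
    refine ⟨⟨fun a b => ?_⟩, ⟨⟨1, by apply Subtype.ext; simp⟩⟩⟩
    have key : ∀ a : {a : K // (⟨y * a * y⁻¹, hK.inv a a.2⟩ : K) = a}, (a.1 : G) = 1 := by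
      intro a
      apply h.fpf hy hK.c3 a.1.2
      have := congrArg Subtype.val a.2
      show (a.1 : G) * y = y * a.1
      have h3 : y * (a.1 : G) * y⁻¹ = a.1 := this
      exact (mul_inv_eq_iff_eq_mul.1 h3).symm
    exact Subtype.ext (Subtype.ext ((key a).trans (key b).symm))
  rw [h2] at h1
  exact h1

theorem SC.nilp {x y : G} (h : SC x) (hy : orderOf y = 3) {K : Subgroup G} (hK : PP y K) : Group.IsNilpotent K := by
  haveI : Fact (Nat.Prime 3) := ⟨Nat.prime_three⟩
  let σ : K → K := fun k => ⟨y * k * y⁻¹, hK.inv k k.2⟩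
  let τ : K → K := fun k => ⟨y⁻¹ * k * y, by
    have h1 := hK.inv _ (hK.inv k k.2)
    have e : y * (y * (k : G) * y⁻¹) * y⁻¹ = y⁻¹ * k * y := by
      have t1 := inv_eq hy
      have : y⁻¹ * y⁻¹ = y := by rw [← mul_inv_rev, inv_eq_iff_eq_inv, inv_eq hy]
      calc y * (y * (k : G) * y⁻¹) * y⁻¹ = (y * y) * k * (y⁻¹ * y⁻¹) := by group
        _ = _ := by rw [this, ← t1]
    rw [e] at h1
    exact h1⟩
  let φ : K ≃* K :=
    { toFun := σ
      invFun := τ
      left_inv := fun k => Subtype.ext (by show y⁻¹ * (y * k * y⁻¹) * y = k; group)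
      right_inv := fun k => Subtype.ext (by show y * (y⁻¹ * k * y) * y⁻¹ = k; group)
      map_mul' := fun a b => Subtype.ext (by show y * (a * b) * y⁻¹ = y * a * y⁻¹ * (y * b * y⁻¹); group) }
  refine Cfsg.Agent.H3.Fpf.nilpotent_of_fp 3 Nat.prime_three _ K φ rfl ⟨fun g hg => ?_, ?_⟩
  · have h1 : y * (g : G) * y⁻¹ = g := congrArg Subtype.val hg
    have := h.fpf hy hK.c3 g.2 (mul_inv_eq_iff_eq_mul.1 h1).symm
    exact Subtype.ext this
  · ext k
    show y * (y * (y * (k : G) * y⁻¹) * y⁻¹) * y⁻¹ = k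
    have e : y * (y * (y * (k : G) * y⁻¹) * y⁻¹) * y⁻¹ = (y * y * y) * k * (y * y * y)⁻¹ := by group
    rw [e, cube hy]; simp

/-- maximal elements -/
def MM (x : G) : Set (Subgroup G) := {M | Maximal (PP x) M}

theorem exists_MM {x : G} {K : Subgroup G} (hK : PP x K) : ∃ M ∈ MM x, K ≤ M := by
  haveI : Finite (Subgroup G) := inferInstance
  obtain ⟨M, hKM, hM⟩ := (Set.toFinite {K | PP x K}).exists_le_maximal hK
  exact ⟨M, hM, hKM⟩

/-- each solution lies in an invariant `3'`-subgroup -/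
theorem SC.cover {x : G} (h : SC x) {y : G} (hy : orderOf y = 3) (hz : orderOf (y⁻¹ * x) = 3) :
    ∃ M ∈ MM x, y * x ∈ M := by
  obtain ⟨u, hu⟩ : ∃ u, u = y * x := ⟨_, rfl⟩
  have hyu : y = u * x⁻¹ := by rw [hu]; group
  have hx3 := cube h.o3
  have hxi := inv_eq h.o3
  obtain ⟨v, hv⟩ : ∃ v, v = x * u * x⁻¹ := ⟨_, rfl⟩
  obtain ⟨w, hw⟩ : ∃ w, w = x * v * x⁻¹ := ⟨_, rfl⟩
  have hxw : x * w * x⁻¹ = u := by
    rw [hw, hv]
    have e : x * (x * (x * u * x⁻¹) * x⁻¹) * x⁻¹ = (x * x * x) * u * (x * x * x)⁻¹ := by group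
    rw [e, hx3]; simp
  have h1 : u * w * v = 1 := by
    have := cube hy
    rw [hyu] at this
    have hw' : w = x⁻¹ * u * x := by
      rw [← hxw]; group
    have hv' : v = x⁻¹ * x⁻¹ * u * x * x := by
      have : v = x⁻¹ * w * x := by rw [hw]; group
      rw [this, hw']; group
    have e : u * w * v = u * x⁻¹ * (u * x⁻¹) * (u * x⁻¹) * (x * x * x) := by
      rw [hw', hv']; group
    rw [e, this, hx3, one_mul]
  have h2 : w * u * v = 1 := by
    have h5 : y⁻¹ * x = x * u⁻¹ * x := by rw [hyu]; group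
    have h6 : orderOf (w * x) = 3 := by
      have hw' : w = x⁻¹ * u * x := by
        rw [← hxw]; group
      have e : w * x = (y⁻¹ * x)⁻¹ := by
        rw [h5, hw']
        have : (x * u⁻¹ * x)⁻¹ = x⁻¹ * u * x⁻¹ := by group
        rw [this, mul_assoc (x⁻¹ * u) x x, ← hxi]
      rw [e, orderOf_inv, hz]
    have := cube h6
    have e : w * u * v = w * x * (w * x) * (w * x) * (x⁻¹ * x⁻¹ * x⁻¹) := by
      have hu' : u = x * w * x⁻¹ := hxw.symm
      rw [hv]; nth_rw 2 [hu']; nth_rw 1 [hu']; group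
    rw [e, this]
    have : x⁻¹ * x⁻¹ * x⁻¹ = (x * x * x)⁻¹ := by group
    rw [this, hx3]; simp
  have h3 : u * w = w * u := by
    have a1 := eq_inv_of_mul_eq_one_left h1
    have a2 := eq_inv_of_mul_eq_one_left h2
    rw [a1, a2]
  have hvi : v = (u * w)⁻¹ := (eq_inv_of_mul_eq_one_right h1)
  have huv : u * v = v * u := by
    have : Commute u (u * w)⁻¹ := ((Commute.refl u).mul_right h3).inv_right
    rw [hvi]; exact this
  have hvw : v * w = w * v := by
    have : Commute w (u * w)⁻¹ := ((show Commute w u from h3.symm).mul_right (Commute.refl w)).inv_right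
    rw [hvi]; exact this.symm
  obtain ⟨A, hA⟩ : ∃ A : Subgroup G, A = Subgroup.closure {u, v, w} := ⟨_, rfl⟩
  have huA : u ∈ A := by rw [hA]; exact Subgroup.subset_closure (by simp)
  have hcomm : ∀ a ∈ A, ∀ b ∈ A, a * b = b * a := by
    have hc := Subgroup.isMulCommutative_closure (k := ({u, v, w} : Set G)) (by
      intro a ha b hb
      simp only [Set.mem_insert_iff, Set.mem_singleton_iff] at ha hb
      rcases ha with rfl | rfl | rfl <;> rcases hb with rfl | rfl | rfl <;>
        first | rfl | assumption | (symm; assumption))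
    intro a ha b hb
    rw [hA] at ha hb
    exact congrArg Subtype.val (hc.is_comm.comm ⟨a, ha⟩ ⟨b, hb⟩)
  have hinv : ∀ a ∈ A, x * a * x⁻¹ ∈ A := by
    intro a ha
    rw [hA] at ha ⊢
    have hle : Subgroup.closure {u, v, w} ≤ (Subgroup.closure {u, v, w}).comap (MulAut.conj x).toMonoidHom := by
      rw [Subgroup.closure_le]
      intro b hb
      simp only [Set.mem_insert_iff, Set.mem_singleton_iff] at hb
      show x * b * x⁻¹ ∈ Subgroup.closure {u, v, w}
      rcases hb with rfl | rfl | rfl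
      · rw [← hv]; exact Subgroup.subset_closure (by simp)
      · rw [← hw]; exact Subgroup.subset_closure (by simp)
      · rw [hxw]; exact Subgroup.subset_closure (by simp)
    exact hle ha
  have h3A : ¬ 3 ∣ Nat.card A := by
    intro hd
    haveI : Fact (Nat.Prime 3) := ⟨Nat.prime_three⟩
    obtain ⟨⟨a, ha⟩, hao⟩ := exists_prime_orderOf_dvd_card' 3 hd
    have hao' : orderOf a = 3 := by rw [← hao]; exact (Subgroup.orderOf_mk a ha).symm ▸ rfl
    have hSa := h.of hao'
    have hAa : ∀ b ∈ A, b ∈ Subgroup.zpowers a := fun b hb => hSa.cen b (hcomm b hb a ha)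
    have hca : x * a * x⁻¹ = a := by
      rcases zp hao' (hAa _ (hinv a ha)) with h5 | h5 | h5
      · exact absurd h5 (ne_one (o3_conj hao' x))
      · exact h5
      · exfalso
        have e : x * (x * (x * a * x⁻¹) * x⁻¹) * x⁻¹ = a := by
          have e : x * (x * (x * a * x⁻¹) * x⁻¹) * x⁻¹ = (x * x * x) * a * (x * x * x)⁻¹ := by group
          rw [e, hx3]; simp
        have e2 : x * a⁻¹ * x⁻¹ = a := by
          have : x * a⁻¹ * x⁻¹ = (x * a * x⁻¹)⁻¹ := by group
          rw [this, h5, inv_inv]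
        rw [h5, e2, h5] at e
        exact ne_inv hao' e.symm
    have hxa : x ∈ Subgroup.zpowers a := hSa.cen x (mul_inv_eq_iff_eq_mul.1 hca)
    have hux : Commute u x := by
      rcases zp hao' (hAa u huA) with h5 | h5 | h5 <;> rcases zp hao' hxa with h6 | h6 | h6 <;> rw [h5, h6] <;> simp
    have hune : u ≠ 1 := by
      intro hu1
      have : A = ⊥ := by
        rw [hA, Subgroup.closure_eq_bot_iff]
        intro b hb
        simp only [Set.mem_insert_iff, Set.mem_singleton_iff] at hb ⊢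
        rcases hb with rfl | rfl | rfl
        · exact hu1
        · rw [hv, hu1]; simp
        · rw [hw, hv, hu1]; simp
      rw [this] at hd; simp at hd
    rcases zp h.o3 (h.cen u hux) with h5 | h5 | h5
    · exact hune h5
    · apply ne_one hy; rw [hyu, h5]; simp
    · have hyx : y = x := by
        rw [hyu, h5, ← mul_inv_rev, inv_eq_iff_eq_inv, hxi]
      apply ne_one hz
      rw [hyx]; simp
  obtain ⟨M, hM, hAM⟩ := exists_MM (x := x) ⟨hinv, h3A⟩
  exact ⟨M, hM, by rw [← hu]; exact hAM huA⟩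

open Classical in
theorem SC.ineq {x : G} (h : SC x) (hr : IsConj x x⁻¹) :
    Nat.card G < 9 * ∑ M ∈ (Set.toFinite (MM x)).toFinset, Nat.card M := by
  haveI := Fintype.ofFinite G
  have h1 := FT1.count (x := x) h.o3 (by
    have : Subgroup.centralizer ({x} : Set G) = Subgroup.zpowers x := by
      apply le_antisymm
      · intro g hg
        exact h.cen g ((Subgroup.mem_centralizer_iff.1 hg x rfl).symm)
      · rw [Subgroup.zpowers_le, Subgroup.mem_centralizer_iff]
        intro y hy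
        rw [Set.mem_singleton_iff] at hy
        rw [hy]
    rw [this, card_zp h.o3]) hr
  have h2 : (Finset.univ.filter (fun y : G => IsConj x y ∧ IsConj x (y⁻¹ * x))).card ≤
      ∑ M ∈ (Set.toFinite (MM x)).toFinset, Nat.card M := by
    have h3 : (Finset.univ.filter (fun y : G => IsConj x y ∧ IsConj x (y⁻¹ * x))).card ≤
        ((Set.toFinite (MM x)).toFinset.biUnion (fun M => (Finset.univ.filter (fun g : G => g ∈ M)))).card := by
      refine Finset.card_le_card_of_injOn (fun y => y * x) ?_ (fun a _ b _ hab => mul_right_cancel hab)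
      intro y hy
      rw [Finset.mem_coe, Finset.mem_filter] at hy
      obtain ⟨-, hy1, hy2⟩ := hy
      have o1 : orderOf y = 3 := by
        obtain ⟨g, hg⟩ := isConj_iff.1 hy1
        rw [← hg]; exact o3_conj h.o3 g
      have o2 : orderOf (y⁻¹ * x) = 3 := by
        obtain ⟨g, hg⟩ := isConj_iff.1 hy2
        rw [← hg]; exact o3_conj h.o3 g
      obtain ⟨M, hM, hyM⟩ := h.cover o1 o2
      rw [Finset.mem_coe, Finset.mem_biUnion]
      exact ⟨M, (Set.Finite.mem_toFinset _).2 hM, by simpa using hyM⟩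
    refine h3.trans (Finset.card_biUnion_le.trans (Finset.sum_le_sum fun M _ => ?_))
    rw [Nat.card_eq_fintype_card, Fintype.card_subtype]
  omega

end Cfsg.Agent.H19.FT2
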