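import Mathlib
import Cfsg.Agent.H19_FT2
import Cfsg.Agent.H1_Basic

/-! Feit–Thompson, self-centralizing subgroups of order three: 2-groups. -/

set_option autoImplicit false
set_option linter.unusedSectionVars false
open scoped commutatorElement
namespace Cfsg.Agent.H19.FT3
open Cfsg.Agent.H19.FT2

variable {G : Type*} [Group G] [Finite G]

theorem eqle {H K : Subgroup G} (h : H ≤ K) (hc : Nat.card K ≤ Nat.card H) : H = K :=
  Cfsg.Agent.H1.Basic.eq_of_le_of_card_ge' h hc

/-- fixed-point-free relations -/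
theorem prod_eq {x y : G} (h : SC x) (hy : orderOf y = 3) {K : Subgroup G} (hK : PP y K) {k : G} (hk : k ∈ K) :
    k * (y * k * y⁻¹) * (y * (y * k * y⁻¹) * y⁻¹) = 1 := by
  have hy3 := cube hy
  let f : K → K := fun g => ⟨(g : G)⁻¹ * (y * g * y⁻¹), K.mul_mem (K.inv_mem g.2) (hK.inv _ g.2)⟩
  have hinj : Function.Injective f := by
    intro a b hab
    have h1 : (a : G)⁻¹ * (y * a * y⁻¹) = (b : G)⁻¹ * (y * b * y⁻¹) := congrArg Subtype.val hab
    have h2 : ((b : G) * (a : G)⁻¹) * y = y * ((b : G) * (a : G)⁻¹) := by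
      have : (b : G) * ((a : G)⁻¹ * (y * a * y⁻¹)) = y * b * y⁻¹ := by rw [h1]; group
      have h3 : (b : G) * (a : G)⁻¹ * y = (y * b * y⁻¹) * (y * (a : G)⁻¹) := by
        rw [← this]; group
      rw [h3]; group
    have h4 := h.fpf hy hK.c3 (K.mul_mem b.2 (K.inv_mem a.2)) h2
    exact Subtype.ext (mul_inv_eq_one.1 h4).symm
  obtain ⟨g, hg⟩ := Finite.surjective_of_injective hinj ⟨k, hk⟩
  have hg' : (g : G)⁻¹ * (y * g * y⁻¹) = k := congrArg Subtype.val hg
  have e : k * (y * k * y⁻¹) * (y * (y * k * y⁻¹) * y⁻¹) = (g : G)⁻¹ * ((y * y * y) * g * (y * y * y)⁻¹) := by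
    rw [← hg']; group
  rw [e, hy3]; simp

theorem PP.inv' {y : G} (hy : orderOf y = 3) {K : Subgroup G} (hK : PP y K) : PP y⁻¹ K := by
  refine ⟨fun k hk => ?_, hK.c3⟩
  have h1 := hK.inv _ (hK.inv k hk)
  have t1 := inv_eq hy
  have e : y * (y * (k : G) * y⁻¹) * y⁻¹ = y⁻¹ * k * y⁻¹⁻¹ := by
    have : y⁻¹ * y⁻¹ = y := by rw [← mul_inv_rev, inv_eq_iff_eq_inv, inv_eq hy]
    calc y * (y * (k : G) * y⁻¹) * y⁻¹ = (y * y) * k * (y⁻¹ * y⁻¹) := by group
      _ = _ := by rw [this, ← t1, inv_inv]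
  rw [e] at h1
  exact h1

theorem comm_conj {x y : G} (h : SC x) (hy : orderOf y = 3) {K : Subgroup G} (hK : PP y K) {k : G} (hk : k ∈ K) :
    Commute k (y * k * y⁻¹) := by
  obtain ⟨v, hv⟩ : ∃ v, v = y * k * y⁻¹ := ⟨_, rfl⟩
  obtain ⟨w, hw⟩ : ∃ w, w = y * v * y⁻¹ := ⟨_, rfl⟩
  have h1 := prod_eq h hy hK hk
  have hy' : orderOf y⁻¹ = 3 := by rw [orderOf_inv]; exact hy
  have hvK : v ∈ K := by rw [hv]; exact hK.inv k hk
  have h2 := prod_eq h hy' (PP.inv' hy hK) hvK
  rw [← hv, ← hw] at h1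
  have e1 : y⁻¹ * v * y⁻¹⁻¹ = k := by rw [hv]; group
  have e2 : y⁻¹ * k * y⁻¹⁻¹ = w := by
    have h3 : y * w * y⁻¹ = k := by
      rw [hw, hv]
      have e : y * (y * (y * k * y⁻¹) * y⁻¹) * y⁻¹ = (y * y * y) * k * (y * y * y)⁻¹ := by group
      rw [e, cube hy]; simp
    rw [← h3]; group
  rw [e1, e2] at h2
  rw [← hv]
  show k * v = v * k
  rw [eq_inv_of_mul_eq_one_left h1, eq_inv_of_mul_eq_one_left h2]

/-- a 2-group of type "B" -/
structure Good (S : Subgroup G) (y : G) : Prop where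
  pg : IsPGroup 2 S
  nt : S ≠ ⊥
  o3 : orderOf y = 3
  inv : ∀ s ∈ S, y * s * y⁻¹ ∈ S
  free : ∀ z : G, (∀ s ∈ S, z * s * z⁻¹ ∈ S) → z ∉ S → (∃ k, z ^ (2 ^ k) = 1) → ∀ s ∈ S, Commute s z →
    Commute s (y * z * y⁻¹) → s = 1

theorem not3 {S : Subgroup G} (h : IsPGroup 2 S) : ¬ 3 ∣ Nat.card S := by
  haveI : Fact (Nat.Prime 2) := ⟨Nat.prime_two⟩
  obtain ⟨n, hn⟩ := h.exists_card_eq
  rw [hn]
  intro h3
  have := Nat.Prime.dvd_of_dvd_pow Nat.prime_three h3
  omega

theorem Good.PP {S : Subgroup G} {y : G} (h : Good S y) : PP y S := ⟨h.inv, not3 h.pg⟩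

theorem norm2 {S T : Subgroup G} (h : S ≤ T) (c : Nat.card T = 2 * Nat.card S) :
    (∀ t ∈ T, ∀ s ∈ S, t * s * t⁻¹ ∈ S) ∧ (∀ a ∈ T, ∀ b ∈ T, a ∉ S → b ∉ S → a⁻¹ * b ∈ S) := by
  have hidx : (S.subgroupOf T).index = 2 := by
    have h1 := (S.subgroupOf T).card_mul_index
    rw [Nat.card_congr (Subgroup.subgroupOfEquivOfLe h).toEquiv, c] at h1
    have : 0 < Nat.card S := Nat.card_pos
    nlinarith
  constructor
  · intro t ht s hs
    have hn := Subgroup.normal_of_index_eq_two hidx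
    have := hn.conj_mem ⟨s, h hs⟩ (Subgroup.mem_subgroupOf.2 hs) ⟨t, ht⟩
    exact Subgroup.mem_subgroupOf.1 this
  · intro a ha b hb ha' hb'
    have := (Subgroup.mul_mem_iff_of_index_two hidx (a := ⟨a⁻¹, T.inv_mem ha⟩) (b := ⟨b, hb⟩)).2 (by
      rw [Subgroup.mem_subgroupOf, Subgroup.mem_subgroupOf]
      constructor
      · intro h1
        exact absurd (by simpa using S.inv_mem h1) ha'
      · intro h1; exact absurd h1 hb')
    exact Subgroup.mem_subgroupOf.1 this

/-- `|C_K(z)|² ≤ |K|` -/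
theorem sq_le {y z : G} {K C : Subgroup G} (hK : ∀ k ∈ K, y * k * y⁻¹ ∈ K) (hCK : C ≤ K) (hC : ∀ c ∈ C, Commute c z)
    (hf : ∀ k ∈ K, Commute k z → Commute k (y * z * y⁻¹) → k = 1) : Nat.card C * Nat.card C ≤ Nat.card K := by
  have h1 : Function.Injective (fun p : C × C => (⟨(p.1 : G) * (y * p.2 * y⁻¹),
      K.mul_mem (hCK p.1.2) (hK _ (hCK p.2.2))⟩ : K)) := by
    rintro ⟨a, b⟩ ⟨a', b'⟩ hab
    have e : (a : G) * (y * b * y⁻¹) = a' * (y * b' * y⁻¹) := congrArg Subtype.val hab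
    have e2 : (a' : G)⁻¹ * a = y * (b' * (b : G)⁻¹) * y⁻¹ := by
      have : (a' : G)⁻¹ * ((a : G) * (y * b * y⁻¹)) * (y * b * y⁻¹)⁻¹ = (a' : G)⁻¹ * (a' * (y * b' * y⁻¹)) * (y * b * y⁻¹)⁻¹ := by
        rw [e]
      have l : (a' : G)⁻¹ * ((a : G) * (y * b * y⁻¹)) * (y * b * y⁻¹)⁻¹ = (a' : G)⁻¹ * a := by group
      have r : (a' : G)⁻¹ * (a' * (y * b' * y⁻¹)) * (y * b * y⁻¹)⁻¹ = y * (b' * (b : G)⁻¹) * y⁻¹ := by group
      rw [l, r] at this
      exact this
    have hm : (a' : G)⁻¹ * a ∈ C := C.mul_mem (C.inv_mem a'.2) a.2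
    have hb : Commute (b' * (b : G)⁻¹) z := hC _ (C.mul_mem b'.2 (C.inv_mem b.2))
    have h2 : (a' : G)⁻¹ * a = 1 := by
      refine hf _ (hCK hm) (hC _ hm) ?_
      rw [e2]
      show y * (b' * (b : G)⁻¹) * y⁻¹ * (y * z * y⁻¹) = (y * z * y⁻¹) * (y * (b' * (b : G)⁻¹) * y⁻¹)
      have l : y * (b' * (b : G)⁻¹) * y⁻¹ * (y * z * y⁻¹) = y * ((b' * (b : G)⁻¹) * z) * y⁻¹ := by group
      have r : (y * z * y⁻¹) * (y * (b' * (b : G)⁻¹) * y⁻¹) = y * (z * (b' * (b : G)⁻¹)) * y⁻¹ := by group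
      rw [l, r, hb.eq]
    have h3 : (a : G) = a' := (inv_mul_eq_one.1 h2).symm
    have h4 : (b : G) = b' := by
      rw [h2] at e2
      have : (b' : G) * (b : G)⁻¹ = y⁻¹ * (y * (b' * (b : G)⁻¹) * y⁻¹) * y := by group
      rw [← e2] at this
      simp at this
      exact (mul_inv_eq_one.1 this).symm
    exact Prod.ext (Subtype.ext h3) (Subtype.ext h4)
  have := Nat.card_le_card_of_injective _ h1
  rwa [Nat.card_prod] at this

theorem two_pow {T : Subgroup G} (hT : IsPGroup 2 T) {z : G} (hz : z ∈ T) : ∃ k, z ^ (2 ^ k) = 1 := by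
  obtain ⟨k, hk⟩ := hT ⟨z, hz⟩
  exact ⟨k, congrArg Subtype.val hk⟩

theorem index2 {x : G} (h : SC x) {S S' T : Subgroup G} {y y' : G} (hS : Good S y) (hS' : Good S' y') (hT : IsPGroup 2 T)
    (h1 : S ≤ T) (h2 : S' ≤ T) (c1 : Nat.card T = 2 * Nat.card S) (c2 : Nat.card T = 2 * Nat.card S') (hne : S ≠ S') :
    Nat.card S' ≤ 4 := by
  obtain ⟨n1, m1⟩ := norm2 h1 c1
  obtain ⟨n2, m2⟩ := norm2 h2 c2
  -- D
  obtain ⟨D, hD⟩ : ∃ D, D = S ⊓ S' := ⟨_, rfl⟩
  have hcS : Nat.card S = Nat.card S' := by omega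
  obtain ⟨τ, hτ', hτ⟩ : ∃ τ ∈ S', τ ∉ S := by
    by_contra hcon
    push Not at hcon
    exact hne (eqle hcon (by omega)).symm
  have hDc : Nat.card S' ≤ 2 * Nat.card D := by
    classical
    have : Function.Injective (fun s : S' => if hs : (s : G) ∈ S then
        (Sum.inl (⟨s, by rw [hD]; exact ⟨hs, s.2⟩⟩ : D) : D ⊕ D) else
        Sum.inr (⟨τ⁻¹ * s, by rw [hD]; exact ⟨m1 τ (h2 hτ') s (h2 s.2) hτ hs, S'.mul_mem (S'.inv_mem hτ') s.2⟩⟩ : D)) := by
      intro a b hab
      simp only at hab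
      by_cases ha : (a : G) ∈ S <;> by_cases hb : (b : G) ∈ S
      · rw [dif_pos ha, dif_pos hb] at hab
        have h9 := Sum.inl.inj hab
        exact Subtype.ext (congrArg (fun q : D => (q : G)) h9)
      · rw [dif_pos ha, dif_neg hb] at hab; cases hab
      · rw [dif_neg ha, dif_pos hb] at hab; cases hab
      · rw [dif_neg ha, dif_neg hb] at hab
        have h9 := Sum.inr.inj hab
        exact Subtype.ext (mul_left_cancel (congrArg (fun q : D => (q : G)) h9))
    have := Nat.card_le_card_of_injective _ this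
    rw [Nat.card_sum] at this
    omega
  -- key step
  have key : ∀ w ∈ S, w ∈ S' → (∀ s ∈ S, Commute s w) → ∀ s ∈ S', Commute s w := by
    intro w hwS hwS' hwc
    by_contra hcon
    push Not at hcon
    obtain ⟨u0, hu0, hu0c⟩ := hcon
    have hu0S : u0 ∉ S := fun hh => hu0c (hwc u0 hh)
    have hiff : ∀ s ∈ S', (Commute s w ↔ s ∈ S) := by
      intro s hs
      refine ⟨fun hc => ?_, hwc s⟩
      by_contra hns
      have h5 := m1 s (h2 hs) u0 (h2 hu0) hns hu0S
      have h6 : Commute (s * (s⁻¹ * u0)) w := hc.mul_left (hwc _ h5)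
      rw [mul_inv_cancel_left] at h6
      exact hu0c h6
    have hPP := hS'.PP
    -- find u
    obtain ⟨u, hu, huS, d, hd, hdu⟩ : ∃ u ∈ S', u ∉ S ∧ ∃ d ∈ D, y' * d * y'⁻¹ = u := by
      by_contra hcon
      push Not at hcon
      have hDinv : ∀ d ∈ D, y' * d * y'⁻¹ ∈ D := by
        intro d hd
        have hd' : d ∈ S' := by rw [hD] at hd; exact hd.2
        have h5 : y' * d * y'⁻¹ ∈ S' := hS'.inv d hd'
        rw [hD]
        refine ⟨?_, h5⟩
        by_contra h6
        exact hcon _ h5 h6 d hd rfl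
      have hDS' : D ≤ S' := by rw [hD]; exact inf_le_right
      have hPD : PP y' D := ⟨hDinv, fun h3 => hPP.c3 (h3.trans (Subgroup.card_dvd_of_le hDS'))⟩
      have e1 := h.mod hS'.o3 hPP
      have e2 := h.mod hS'.o3 hPD
      have e3 : Nat.card D ∣ Nat.card S' := Subgroup.card_dvd_of_le hDS'
      obtain ⟨q, hq⟩ := e3
      have e4 : 0 < Nat.card D := Nat.card_pos
      have e5 : q ≤ 2 := by
        by_contra hq2
        push Not at hq2
        nlinarith
      have e6 : q = 1 ∨ q = 2 ∨ q = 0 := by omega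
      rcases e6 with rfl | rfl | rfl
      · have : D = S' := eqle hDS' (by omega)
        have : τ ∈ D := by rw [this]; exact hτ'
        rw [hD] at this
        exact hτ this.1
      · omega
      · have : 0 < Nat.card S' := Nat.card_pos
        omega
    have hdS : d ∈ S := by rw [hD] at hd; exact hd.1
    have hdS' : d ∈ S' := by rw [hD] at hd; exact hd.2
    obtain ⟨w1, hw1⟩ : ∃ w1, w1 = y' * w * y'⁻¹ := ⟨_, rfl⟩
    obtain ⟨w2, hw2⟩ : ∃ w2, w2 = y' * w1 * y'⁻¹ := ⟨_, rfl⟩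
    have hw1S' : w1 ∈ S' := by rw [hw1]; exact hS'.inv w hwS'
    have hw2S' : w2 ∈ S' := by rw [hw2]; exact hS'.inv w1 hw1S'
    have hprod : w * w1 * w2 = 1 := by
      have := prod_eq h hS'.o3 hPP hwS'
      rw [← hw1, ← hw2] at this; exact this
    have hww1 : Commute w w1 := by
      have := comm_conj h hS'.o3 hPP hwS'
      rw [← hw1] at this; exact this
    have hw1S : w1 ∈ S := (hiff w1 hw1S').1 hww1.symm
    have hw2e : w2 = (w * w1)⁻¹ := eq_inv_of_mul_eq_one_right hprod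
    have hw2S : w2 ∈ S := by rw [hw2e]; exact S.inv_mem (S.mul_mem hwS hw1S)
    have huw1 : Commute u w1 := by
      rw [← hdu, hw1]
      show y' * d * y'⁻¹ * (y' * w * y'⁻¹) = (y' * w * y'⁻¹) * (y' * d * y'⁻¹)
      have l : y' * d * y'⁻¹ * (y' * w * y'⁻¹) = y' * (d * w) * y'⁻¹ := by group
      have r : (y' * w * y'⁻¹) * (y' * d * y'⁻¹) = y' * (w * d) * y'⁻¹ := by group
      rw [l, r, (hwc d hdS).eq]
    obtain ⟨c, hc⟩ : ∃ c, c = u * w * u⁻¹ * w⁻¹ := ⟨_, rfl⟩
    have huT : u ∈ T := h2 hu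
    have hcS : c ∈ S := by rw [hc]; exact S.mul_mem (n1 u huT w hwS) (S.inv_mem hwS)
    have hcS' : c ∈ S' := by
      rw [hc]; exact S'.mul_mem (S'.mul_mem (S'.mul_mem hu hwS') (S'.inv_mem hu)) (S'.inv_mem hwS')
    have hcc : ∀ s ∈ S, Commute s c := by
      intro s hs
      have h5 : Commute s (u * w * u⁻¹) := by
        have h6 := hwc (u⁻¹ * s * u) (by
          have := n1 u⁻¹ (T.inv_mem huT) s hs
          rwa [inv_inv] at this)
        show s * (u * w * u⁻¹) = (u * w * u⁻¹) * s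
        have l : s * (u * w * u⁻¹) = u * ((u⁻¹ * s * u) * w) * u⁻¹ := by group
        have r : (u * w * u⁻¹) * s = u * (w * (u⁻¹ * s * u)) * u⁻¹ := by group
        rw [l, r, h6.eq]
      rw [hc]
      exact h5.mul_right (hwc s hs).inv_right
    have hc1 : c ≠ 1 := by
      intro h5
      rw [hc] at h5
      apply huS
      rw [← hiff u hu]
      show u * w = w * u
      exact mul_inv_eq_iff_eq_mul.1 (mul_inv_eq_one.1 h5)
    have hconj : ∀ s ∈ S', s ∉ S → s * w * s⁻¹ = c * w := by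
      intro s hs hsS
      have h5 := m1 u huT s (h2 hs) huS hsS
      have e : s * w * s⁻¹ = u * ((u⁻¹ * s) * w * (u⁻¹ * s)⁻¹) * u⁻¹ := by group
      rw [e, (hwc _ h5).eq, mul_inv_cancel_right, hc]; group
    -- action on w2
    have hphi2 : ∀ s ∈ S', s * w2 * s⁻¹ = w2 ∨ s * w2 * s⁻¹ = (y' * (y' * c * y'⁻¹) * y'⁻¹) * w2 := by
      intro s hs
      obtain ⟨s', hs'⟩ : ∃ s', s' = y' * s * y'⁻¹ := ⟨_, rfl⟩
      have hs'S : s' ∈ S' := by rw [hs']; exact hS'.inv s hs
      have hss : s = y' * (y' * s' * y'⁻¹) * y'⁻¹ := by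
        rw [hs']
        have e : y' * (y' * (y' * s * y'⁻¹) * y'⁻¹) * y'⁻¹ = (y' * y' * y') * s * (y' * y' * y')⁻¹ := by group
        rw [e, cube hS'.o3]; simp
      have e : s * w2 * s⁻¹ = y' * (y' * (s' * w * s'⁻¹) * y'⁻¹) * y'⁻¹ := by
        rw [hw2, hw1]; nth_rw 1 2 [hss]; group
      by_cases h5 : s' ∈ S
      · left
        rw [e, (hwc s' h5).eq, mul_inv_cancel_right, hw2, hw1]
      · right
        rw [e, hconj s' hs'S h5, hw2, hw1]; group
    have hu2 : u * w2 * u⁻¹ = w2 * c⁻¹ := by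
      have e1 : u * w2 * u⁻¹ = ((u * w * u⁻¹) * (u * w1 * u⁻¹))⁻¹ := by rw [hw2e]; group
      have e2 : u * w1 * u⁻¹ = w1 := by rw [huw1.eq, mul_inv_cancel_right]
      have e3 : u * w * u⁻¹ = c * w := hconj u hu huS
      rw [e1, e2, e3, hw2e]; group
    rcases hphi2 u hu with h5 | h5
    · rw [hu2] at h5
      apply hc1
      have := mul_eq_left.1 h5
      exact inv_eq_one.1 this
    · rw [hu2] at h5
      have h6 : Commute w2 c⁻¹ := (hcc w2 hw2S).inv_right
      rw [h6.eq] at h5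
      have h7 : c⁻¹ = y' * (y' * c * y'⁻¹) * y'⁻¹ := mul_right_cancel h5
      have h8 : y' * c * y'⁻¹ = c := by
        have e1 : y' * (y' * c⁻¹ * y'⁻¹) * y'⁻¹ = c := by
          have : y' * (y' * c⁻¹ * y'⁻¹) * y'⁻¹ = (y' * (y' * c * y'⁻¹) * y'⁻¹)⁻¹ := by simp [mul_assoc]
          rw [this, ← h7, inv_inv]
        rw [h7] at e1
        have e2 : y' * (y' * (y' * (y' * c * y'⁻¹) * y'⁻¹) * y'⁻¹) * y'⁻¹ =
            (y' * y' * y') * (y' * c * y'⁻¹) * (y' * y' * y')⁻¹ := by group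
        rw [e2, cube hS'.o3] at e1
        simpa using e1
      exact hc1 (h.fpf hS'.o3 hPP.c3 hcS' (mul_inv_eq_iff_eq_mul.1 h8).symm)
  -- center of S is not inside S'
  obtain ⟨z, hzS, hzc, hzS'⟩ : ∃ z ∈ S, (∀ s ∈ S, Commute s z) ∧ z ∉ S' := by
    by_contra hcon
    push Not at hcon
    haveI : Fact (Nat.Prime 2) := ⟨Nat.prime_two⟩
    haveI : Nontrivial S := (Subgroup.nontrivial_iff_ne_bot _).2 hS.nt
    haveI := hS.pg.center_nontrivial
    obtain ⟨⟨s, hs⟩, hs1⟩ := exists_ne (1 : Subgroup.center S)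
    have hs1' : (s : G) ≠ 1 := by
      intro h'; exact hs1 (Subtype.ext (Subtype.ext h'))
    have hsc : ∀ k ∈ S, Commute k (s : G) := fun k hk =>
      congrArg Subtype.val (Subgroup.mem_center_iff.1 hs ⟨k, hk⟩)
    apply hs1'
    refine hS.free τ (n1 τ (h2 hτ')) hτ (two_pow hT (h2 hτ')) s s.2 ?_ ?_
    · exact (key s s.2 (hcon s s.2 hsc) hsc τ hτ').symm
    · have hP' := PP.inv' hS.o3 hS.PP
      have h5 : y⁻¹ * s * y⁻¹⁻¹ ∈ S := hP'.inv s s.2
      rw [inv_inv] at h5
      have h6 : ∀ k ∈ S, Commute k (y⁻¹ * s * y) := by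
        intro k hk
        have h7 := hsc (y * k * y⁻¹) (hS.inv k hk)
        show k * (y⁻¹ * s * y) = (y⁻¹ * s * y) * k
        have l : k * (y⁻¹ * s * y) = y⁻¹ * ((y * k * y⁻¹) * s) * y := by group
        have r : (y⁻¹ * s * y) * k = y⁻¹ * (s * (y * k * y⁻¹)) * y := by group
        rw [l, r, h7.eq]
      have h8 := key _ h5 (hcon _ h5 h6) h6 τ hτ'
      show (s : G) * (y * τ * y⁻¹) = (y * τ * y⁻¹) * s
      have l : (s : G) * (y * τ * y⁻¹) = y * ((y⁻¹ * s * y) * τ) * y⁻¹ := by group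
      have r : (y * τ * y⁻¹) * (s : G) = y * (τ * (y⁻¹ * s * y)) * y⁻¹ := by group
      rw [l, r, h8.eq]
  have h5 := sq_le (K := S') (C := D) (z := z) (y := y') hS'.inv (by rw [hD]; exact inf_le_right)
    (fun c hc => hzc c (by rw [hD] at hc; exact hc.1))
    (fun k hk e1 e2 => hS'.free z (n2 z (h1 hzS)) hzS' (two_pow hT (h1 hzS)) k hk e1 e2)
  have h6 : 0 < Nat.card D := Nat.card_pos
  have h7 : Nat.card D ≤ 2 := by
    by_contra h7
    push Not at h7
    nlinarith
  omega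

/-- a 2-group of order at least 8 has abelianization of order at least 4 -/
theorem four_mul_commutator {T : Type*} [Group T] [Finite T] (hT : IsPGroup 2 T) (h8 : 8 ≤ Nat.card T) :
    4 * Nat.card (commutator T) ≤ Nat.card T := by
  haveI : Fact (Nat.Prime 2) := ⟨Nat.prime_two⟩
  haveI := hT.isNilpotent
  obtain ⟨D, hD⟩ : ∃ D, D = commutator T := ⟨_, rfl⟩
  rw [← hD]
  have hci := D.card_mul_index
  by_contra hcon
  push Not at hcon
  have hDpos : 0 < Nat.card D := Nat.card_pos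
  have hidx : D.index < 4 := by
    by_contra h4
    push Not at h4
    nlinarith
  have hcoat : ∀ M : Subgroup T, IsCoatom M → M = D := by
    intro M hM
    have hMn : M.Normal := Subgroup.NormalizerCondition.normal_of_coatom M Group.normalizerCondition_of_isNilpotent hM
    have hp := Cfsg.Agent.H1.Basic.index_prime_of_isCoatom_of_normal hM
    have hle : D ≤ M := by
      haveI : Fact (M.index.Prime) := ⟨hp⟩
      have hcyc : IsCyclic (T ⧸ M) := isCyclic_of_prime_card (p := M.index) (Subgroup.index_eq_card M).symm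
      letI : CommGroup (T ⧸ M) := hcyc.commGroup
      rw [hD]
      have := Abelianization.commutator_subset_ker (QuotientGroup.mk' M)
      rwa [QuotientGroup.ker_mk'] at this
    have h2 : D.index = 2 ∧ M.index = 2 := by
      have h3 := Subgroup.index_dvd_of_le hle
      have h4 := hp.two_le
      obtain ⟨k, hk⟩ := hT.index D
      have hd0 : D.index ≠ 0 := Subgroup.index_ne_zero_of_finite
      have h5 : M.index ≤ D.index := Nat.le_of_dvd (by omega) h3
      have h6 : k = 1 := by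
        have : k < 2 := by
          by_contra hk2
          push Not at hk2
          have : 2 ^ 2 ≤ 2 ^ k := Nat.pow_le_pow_right (by norm_num) hk2
          omega
        interval_cases k
        · omega
        · rfl
      rw [h6] at hk
      omega
    have e1 := M.card_mul_index
    have e2 := D.card_mul_index
    rw [h2.2] at e1; rw [h2.1] at e2
    exact (eqle hle (by omega)).symm
  have htop : D ≠ ⊤ := by
    intro h1
    haveI : Nontrivial T := by
      rw [← Finite.one_lt_card_iff_nontrivial]; omega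
    obtain ⟨M, hM, -⟩ := (eq_top_or_exists_le_coatom (⊥ : Subgroup T)).resolve_left bot_ne_top
    exact hM.1 ((hcoat M hM).trans h1)
  obtain ⟨t, ht⟩ : ∃ t, t ∉ D := by
    by_contra hc
    push Not at hc
    exact htop (eq_top_iff.2 fun t _ => hc t)
  have hz : Subgroup.zpowers t = ⊤ := by
    by_contra hz
    obtain ⟨M, hM, hle⟩ := (eq_top_or_exists_le_coatom (Subgroup.zpowers t)).resolve_left hz
    rw [hcoat M hM, Subgroup.zpowers_le] at hle
    exact ht hle
  have hDbot : D = ⊥ := by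
    haveI : IsCyclic T := ⟨t, fun y => by
      have : y ∈ Subgroup.zpowers t := by rw [hz]; trivial
      exact this⟩
    letI : CommGroup T := IsCyclic.commGroup
    rw [hD, eq_bot_iff]
    have := Abelianization.commutator_subset_ker (MonoidHom.id T)
    rwa [MonoidHom.ker_id] at this
  have : Nat.card D = 1 := by rw [hDbot]; simp
  rw [this] at hci
  omega

open Classical in
theorem v4 {T : Type*} [Group T] [Finite T] (hT : IsPGroup 2 T) (h8 : 8 ≤ Nat.card T) (w : Fin 3 → T)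
    (hw2 : ∀ i, w i * w i = 1) (hc : ∀ i, Nat.card (Subgroup.centralizer ({w i} : Set T)) ≤ 4)
    (hnc : ∀ i j, i ≠ j → ¬ IsConj (w i) (w j)) : False := by
  haveI := Fintype.ofFinite T
  obtain ⟨D, hD⟩ : ∃ D, D = commutator T := ⟨_, rfl⟩
  have h4 := four_mul_commutator hT h8
  rw [← hD] at h4
  haveI hDn : D.Normal := by rw [hD]; infer_instance
  have hsub : ∀ i, ∀ g, IsConj (w i) g → (w i)⁻¹ * g ∈ D := by
    intro i g hg
    obtain ⟨k, rfl⟩ := isConj_iff.1 hg
    have : (w i)⁻¹ * (k * w i * k⁻¹) = ⁅(w i)⁻¹, k⁆ := by rw [commutatorElement_def]; group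
    rw [this, hD]
    exact Subgroup.commutator_mem_commutator (Subgroup.mem_top _) (Subgroup.mem_top _)
  have hcard : ∀ i, Nat.card T ≤ 4 * (Finset.univ.filter (IsConj (w i))).card := by
    intro i
    rw [← Cfsg.Agent.H3.CharComplete.card_class_mul (w i)]
    exact Nat.mul_le_mul_right _ (hc i)
  have hcos : ∀ a : T, (Finset.univ.filter (fun g => a⁻¹ * g ∈ D)).card = Nat.card D := by
    intro a
    rw [Nat.card_eq_fintype_card, Fintype.card_subtype]
    refine Finset.card_bij' (fun g _ => a⁻¹ * g) (fun g _ => a * g) ?_ ?_ ?_ ?_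
    · intro g hg; simpa using hg
    · intro g hg; simpa using hg
    · intro g _; simp
    · intro g _; simp
  have hfull : ∀ i, ∀ g, (w i)⁻¹ * g ∈ D → IsConj (w i) g := by
    intro i g hg
    have h5 : (Finset.univ.filter (IsConj (w i))) = (Finset.univ.filter (fun g => (w i)⁻¹ * g ∈ D)) := by
      apply Finset.eq_of_subset_of_card_le
      · intro g hg
        rw [Finset.mem_filter] at hg ⊢
        exact ⟨hg.1, hsub i g hg.2⟩
      · rw [hcos]
        have := hcard i
        omega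
    have : g ∈ (Finset.univ.filter (IsConj (w i))) := by rw [h5]; simpa using hg
    exact (Finset.mem_filter.1 this).2
  have hw1 : ∀ i, w i ≠ 1 := by
    intro i h1
    have := hc i
    rw [h1] at this
    have e : Subgroup.centralizer ({(1 : T)} : Set T) = ⊤ := by
      rw [eq_top_iff]; intro g _
      rw [Subgroup.mem_centralizer_iff]
      intro h hh; rw [Set.mem_singleton_iff] at hh; rw [hh]; simp
    rw [e, Subgroup.card_top] at this
    omega
  have hwD : ∀ i, w i ∉ D := by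
    intro i h1
    have := hfull i 1 (by simpa using D.inv_mem h1)
    exact hw1 i (isConj_one_right.1 this.symm)
  have hidx : D.index ≤ 4 := by
    have h5 := hcard 0
    have h6 : (Finset.univ.filter (IsConj (w 0))).card ≤ Nat.card D := by
      rw [← hcos (w 0)]
      apply Finset.card_le_card
      intro g hg
      rw [Finset.mem_filter] at hg ⊢
      exact ⟨hg.1, hsub 0 g hg.2⟩
    have h7 := D.card_mul_index
    have : 0 < Nat.card D := Nat.card_pos
    nlinarith
  have hsurj : ∀ g : T, g ∈ D ∨ ∃ i, IsConj (w i) g := by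
    let f : Option (Fin 3) → T ⧸ D := fun o => match o with
      | none => 1
      | some i => (w i : T ⧸ D)
    have hinj : Function.Injective f := by
      intro a b hab
      match a, b with
      | none, none => rfl
      | none, some i => exact absurd ((QuotientGroup.eq_one_iff _).1 (show (w i : T ⧸ D) = 1 from hab.symm)) (hwD i)
      | some i, none => exact absurd ((QuotientGroup.eq_one_iff _).1 (show (w i : T ⧸ D) = 1 from hab)) (hwD i)
      | some i, some j =>
        have h5 : (w i)⁻¹ * w j ∈ D := QuotientGroup.eq.1 hab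
        by_contra hne
        exact hnc i j (fun h => hne (by rw [h])) (hfull i _ h5)
    have hbij : Function.Bijective f := by
      rw [Nat.bijective_iff_injective_and_card]
      refine ⟨hinj, le_antisymm (Nat.card_le_card_of_injective _ hinj) ?_⟩
      rw [← Subgroup.index_eq_card]
      simpa using hidx
    intro g
    obtain ⟨o, ho⟩ := hbij.2 (g : T ⧸ D)
    match o with
    | none => left; exact (QuotientGroup.eq_one_iff _).1 (show (g : T ⧸ D) = 1 from ho.symm)
    | some i => right; exact ⟨i, hfull i g (QuotientGroup.eq.1 ho)⟩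
  have hinv : ∀ g, g ∉ D → g * g = 1 := by
    intro g hg
    obtain ⟨i, hi⟩ := (hsurj g).resolve_left hg
    obtain ⟨k, rfl⟩ := isConj_iff.1 hi
    have : k * w i * k⁻¹ * (k * w i * k⁻¹) = k * (w i * w i) * k⁻¹ := by group
    rw [this, hw2]; simp
  have hab : w 0 * w 1 ∉ D := by
    intro h5
    have : (w 0)⁻¹ * w 1 ∈ D := by rwa [inv_eq_of_mul_eq_one_left (hw2 0)]
    exact hnc 0 1 (by decide) (hfull 0 _ this)
  have hact : ∀ g, g ∉ D → ∀ u ∈ D, g * u * g⁻¹ = u⁻¹ := by
    intro g hg u hu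
    have h5 : g * u ∉ D := fun h6 => hg (by
      have := D.mul_mem h6 (D.inv_mem hu)
      rwa [mul_inv_cancel_right] at this)
    have h6 := hinv _ h5
    have h7 := hinv _ hg
    have h8 : g⁻¹ = g := inv_eq_of_mul_eq_one_left h7
    rw [h8]
    exact eq_inv_of_mul_eq_one_left (by rw [← h6]; group)
  have hD2 : ∀ u ∈ D, u * u = 1 := by
    intro u hu
    have h5 := hact _ hab u hu
    have h6 := hact _ (hwD 0) (u⁻¹) (D.inv_mem hu)
    have h7 := hact _ (hwD 1) u hu
    have e : w 0 * w 1 * u * (w 0 * w 1)⁻¹ = w 0 * (w 1 * u * (w 1)⁻¹) * (w 0)⁻¹ := by group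
    rw [e, h7, h6, inv_inv] at h5
    nth_rw 1 [h5]; simp
  have hall : ∀ g : T, g * g = 1 := fun g => by
    by_cases hg : g ∈ D
    · exact hD2 g hg
    · exact hinv g hg
  have hcomm : ∀ a b : T, a * b = b * a := by
    intro a b
    have h5 := hall (a * b)
    have h6 : a⁻¹ = a := inv_eq_of_mul_eq_one_left (hall a)
    have h7 : b⁻¹ = b := inv_eq_of_mul_eq_one_left (hall b)
    have h8 := eq_inv_of_mul_eq_one_left h5
    rw [mul_inv_rev, h6, h7] at h8
    exact h8
  have := hc 0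
  have e : Subgroup.centralizer ({w 0} : Set T) = ⊤ := by
    rw [eq_top_iff]; intro g _
    rw [Subgroup.mem_centralizer_iff]
    intro h hh; exact hcomm _ _
  rw [e, Subgroup.card_top] at this
  omega

end Cfsg.Agent.H19.FT3
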