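import Mathlib
import Cfsg.Agent.H19_FT3
import Cfsg.Agent.H1_Basic

/-! Feit–Thompson, self-centralizing subgroups of order three: local analysis, I. -/

set_option autoImplicit false
set_option linter.unusedSectionVars false
namespace Cfsg.Agent.H19.FT4
open Cfsg.Agent.H19.FT2 Cfsg.Agent.H19.FT3 Cfsg.Agent.H1.Basic

universe u

/-- the conclusion of the theorem -/
def Concl (G : Type u) [Group G] : Prop :=
    (∃ (N : Subgroup G) (_ : N.Normal), Group.IsNilpotent N ∧ (Nat.card N).Coprime 3 ∧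
        (Nat.card (G ⧸ N) = 3 ∨ Nonempty (G ⧸ N ≃* Equiv.Perm (Fin 3)))) ∨
    (∃ (N : Subgroup G) (_ : N.Normal), IsMulCommutative N ∧ (∀ n ∈ N, n ^ 2 = 1) ∧
        Nonempty (G ⧸ N ≃* alternatingGroup (Fin 5))) ∨
    Nonempty (G ≃* Matrix.ProjectiveSpecialLinearGroup (Fin 2) (ZMod 7))

set_option maxRecDepth 100000 in
theorem a5_v : ∀ σ : alternatingGroup (Fin 5), σ * σ * σ = 1 → σ ≠ 1 → ∃ v : alternatingGroup (Fin 5), v ≠ 1 ∧ v * v = 1 ∧
    v * (σ * v * σ⁻¹) = (σ * v * σ⁻¹) * v := by decide +kernel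

/-- the Klein four-group generated by the conjugates of an involution -/
theorem klein {G : Type*} [Group G] {y v : G} (hy : y * y * y = 1) (hv : v * v = 1)
    (hc : v * (y * v * y⁻¹) = (y * v * y⁻¹) * v) : ∃ K : Subgroup G, v ∈ K ∧ (∀ k ∈ K, y * k * y⁻¹ ∈ K) ∧
      (∀ k ∈ K, k * k = 1) ∧ (∀ L : Subgroup G, v ∈ L → (∀ l ∈ L, y * l * y⁻¹ ∈ L) → K ≤ L) := by
  obtain ⟨a, ha⟩ : ∃ a, a = y * v * y⁻¹ := ⟨_, rfl⟩
  obtain ⟨b, hb⟩ : ∃ b, b = y * a * y⁻¹ := ⟨_, rfl⟩
  have hyb : y * b * y⁻¹ = v := by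
    rw [hb, ha]
    have e : y * (y * (y * v * y⁻¹) * y⁻¹) * y⁻¹ = (y * y * y) * v * (y * y * y)⁻¹ := by group
    rw [e, hy]; simp
  have hab : a * b = b * a := by
    rw [hb, ha]
    have l : y * v * y⁻¹ * (y * (y * v * y⁻¹) * y⁻¹) = y * (v * (y * v * y⁻¹)) * y⁻¹ := by group
    have r : y * (y * v * y⁻¹) * y⁻¹ * (y * v * y⁻¹) = y * ((y * v * y⁻¹) * v) * y⁻¹ := by group
    rw [l, r, hc]
  have hva : v * a = a * v := by rw [ha]; exact hc
  have hbv : b * v = v * b := by
    have l : b * v = y * (a * b) * y⁻¹ := by nth_rw 1 [hb]; nth_rw 1 [← hyb]; group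
    have r : v * b = y * (b * a) * y⁻¹ := by nth_rw 1 [← hyb]; nth_rw 2 [hb]; group
    rw [l, r, hab]
  have haa : a * a = 1 := by
    rw [ha]
    have : y * v * y⁻¹ * (y * v * y⁻¹) = y * (v * v) * y⁻¹ := by group
    rw [this, hv]; simp
  have hbb : b * b = 1 := by
    rw [hb]
    have : y * a * y⁻¹ * (y * a * y⁻¹) = y * (a * a) * y⁻¹ := by group
    rw [this, haa]; simp
  obtain ⟨K, hK⟩ : ∃ K : Subgroup G, K = Subgroup.closure {v, a, b} := ⟨_, rfl⟩
  have hcomm : ∀ p ∈ K, ∀ q ∈ K, p * q = q * p := by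
    have hc := Subgroup.isMulCommutative_closure (k := ({v, a, b} : Set G)) (by
      intro p hp q hq
      simp only [Set.mem_insert_iff, Set.mem_singleton_iff] at hp hq
      rcases hp with rfl | rfl | rfl <;> rcases hq with rfl | rfl | rfl <;>
        first | rfl | assumption | (symm; assumption))
    intro p hp q hq
    rw [hK] at hp hq
    exact congrArg Subtype.val (hc.is_comm.comm ⟨p, hp⟩ ⟨q, hq⟩)
  refine ⟨K, by rw [hK]; exact Subgroup.subset_closure (by simp), ?_, ?_, ?_⟩
  · intro k hk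
    rw [hK] at hk ⊢
    have hle : Subgroup.closure {v, a, b} ≤ (Subgroup.closure {v, a, b}).comap (MulAut.conj y).toMonoidHom := by
      rw [Subgroup.closure_le]
      intro p hp
      simp only [Set.mem_insert_iff, Set.mem_singleton_iff] at hp
      show y * p * y⁻¹ ∈ Subgroup.closure {v, a, b}
      rcases hp with rfl | rfl | rfl
      · rw [← ha]; exact Subgroup.subset_closure (by simp)
      · rw [← hb]; exact Subgroup.subset_closure (by simp)
      · rw [hyb]; exact Subgroup.subset_closure (by simp)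
    exact hle hk
  · intro k hk
    have hk' := hk
    rw [hK] at hk'
    induction hk' using Subgroup.closure_induction with
    | mem p hp =>
      simp only [Set.mem_insert_iff, Set.mem_singleton_iff] at hp
      rcases hp with rfl | rfl | rfl <;> assumption
    | one => simp
    | mul p q hp hq ih1 ih2 =>
      rw [← hK] at hp hq
      have e : p * q * (p * q) = p * (q * p) * q := by group
      rw [e, hcomm q hq p hp]
      have e2 : p * (p * q) * q = (p * p) * (q * q) := by group
      rw [e2, ih1 hp, ih2 hq, one_mul]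
    | inv p hp ih =>
      rw [← hK] at hp
      have := ih hp
      rw [← mul_inv_rev, this, inv_one]
  · intro L hv' hL
    rw [hK, Subgroup.closure_le]
    intro p hp
    simp only [Set.mem_insert_iff, Set.mem_singleton_iff] at hp
    have haL : a ∈ L := by rw [ha]; exact hL v hv'
    rcases hp with rfl | rfl | rfl
    · exact hv'
    · exact haL
    · rw [hb]; exact hL a haL

theorem isP2 {G : Type*} [Group G] {K : Subgroup G} (h : ∀ k ∈ K, k * k = 1) : IsPGroup 2 K := by
  intro k
  exact ⟨1, Subtype.ext (by simpa [pow_succ] using h k k.2)⟩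

variable {G : Type u} [Group G] [Finite G]

theorem PP.sup {x : G} {K L : Subgroup G} [hL : L.Normal] (hK : PP x K) (h3 : ¬ 3 ∣ Nat.card L) : PP x (L ⊔ K) := by
  constructor
  · intro k hk
    rw [Subgroup.mem_sup_of_normal_left] at hk
    obtain ⟨l, hl, k', hk', rfl⟩ := hk
    have e : x * (l * k') * x⁻¹ = (x * l * x⁻¹) * (x * k' * x⁻¹) := by group
    rw [e]
    exact Subgroup.mul_mem_sup (hL.conj_mem l hl x) (hK.inv k' hk')
  · intro hd
    have h1 := Cfsg.Agent.H1.Basic.card_sup_mul_card_inf (H := K) (K := L) (by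
      rw [Subgroup.normalizer_eq_top]; exact le_top)
    rw [sup_comm] at hd
    have h2 : 3 ∣ Nat.card L * Nat.card K := by
      rw [mul_comm, ← h1]; exact hd.mul_right _
    rcases (Nat.Prime.dvd_mul Nat.prime_three).1 h2 with h | h
    · exact h3 h
    · exact hK.c3 h

theorem PP.of_normal {x : G} {L : Subgroup G} [hL : L.Normal] (h3 : ¬ 3 ∣ Nat.card L) : PP x L :=
  ⟨fun k hk => hL.conj_mem k hk x, h3⟩

/-- an involution in any quotient isomorphic to `A₅` -/
theorem bigger {x : G} (hx : orderOf x = 3) {N : Subgroup G} [hN : N.Normal] (h3 : ¬ 3 ∣ Nat.card N)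
    (e : G ⧸ N ≃* alternatingGroup (Fin 5)) : ∃ L : Subgroup G, N < L ∧ PP x L := by
  have hxN : x ∉ N := fun h => h3 (by rw [← hx]; exact Subgroup.orderOf_dvd_natCard N h)
  obtain ⟨σ, hσ⟩ : ∃ σ, σ = e (x : G ⧸ N) := ⟨_, rfl⟩
  have hσ3 : σ * σ * σ = 1 := by
    rw [hσ, ← map_mul, ← map_mul]
    have : (x : G ⧸ N) * x * x = ((x * x * x : G) : G ⧸ N) := rfl
    rw [this, cube hx]; simp
  have hσ1 : σ ≠ 1 := by
    intro h
    rw [hσ, map_eq_one_iff e e.injective] at h
    exact hxN ((QuotientGroup.eq_one_iff x).1 h)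
  obtain ⟨v, hv1, hv2, hvc⟩ := a5_v σ hσ3 hσ1
  obtain ⟨K, hvK, hKi, hK2, -⟩ := klein hσ3 hv2 hvc
  let f : G →* alternatingGroup (Fin 5) := e.toMonoidHom.comp (QuotientGroup.mk' N)
  have hf : Function.Surjective f := e.surjective.comp (QuotientGroup.mk'_surjective N)
  have hfx : f x = σ := hσ.symm
  have hker : f.ker = N := by
    ext g
    rw [MonoidHom.mem_ker]
    show e (g : G ⧸ N) = 1 ↔ g ∈ N
    rw [map_eq_one_iff e e.injective, QuotientGroup.eq_one_iff]
  have hNL : N ≤ K.comap f := by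
    intro g hg
    rw [← hker] at hg
    rw [Subgroup.mem_comap, MonoidHom.mem_ker.1 hg]; exact K.one_mem
  refine ⟨K.comap f, lt_of_le_of_ne hNL ?_, ?_, ?_⟩
  · intro h
    obtain ⟨g, hg⟩ := hf v
    have : g ∈ N := by
      rw [h, Subgroup.mem_comap, hg]; exact hvK
    rw [← hker, MonoidHom.mem_ker, hg] at this
    exact hv1 this
  · intro g hg
    rw [Subgroup.mem_comap] at hg ⊢
    rw [map_mul, map_mul, map_inv, hfx]
    exact hKi _ hg
  · intro hd
    haveI : Fact (Nat.Prime 3) := ⟨Nat.prime_three⟩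
    obtain ⟨⟨g, hg⟩, hgo⟩ := exists_prime_orderOf_dvd_card' 3 hd
    have hgo' : orderOf g = 3 := by rw [← hgo]; exact (Subgroup.orderOf_mk g hg).symm ▸ rfl
    rw [Subgroup.mem_comap] at hg
    have h1 := hK2 _ hg
    have h2 : f g * f g * f g = 1 := by rw [← map_mul, ← map_mul, cube hgo', map_one]
    rw [h1, one_mul] at h2
    have h3' : g ∈ N := by rw [← hker]; exact MonoidHom.mem_ker.2 h2
    exact h3 (by rw [← hgo']; exact Subgroup.orderOf_dvd_natCard N h3')

theorem Cfsg_a5simple : IsSimpleGroup (alternatingGroup (Fin 5)) := alternatingGroup.isSimpleGroup (by simp)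

theorem mod_arith {n m k : ℕ} (hm : m = n * k) (hn : n % 3 = 1) (hm1 : m % 3 = 1) : k % 3 = 1 := by
  subst hm
  rw [Nat.mul_mod, hn, one_mul, Nat.mod_mod] at hm1
  exact hm1

/-- the local lemma -/
theorem loc {x : G} (h : SC x) (hC : Concl G) {M : Subgroup G} (hM : Maximal (PP x) M) {Q : Subgroup G} [hQn : Q.Normal]
    (hQM : Q ≤ M) (hQ1 : Q ≠ ⊥) {q : ℕ} [hq : Fact q.Prime] (hQp : IsPGroup q Q)
    (hQc : Nat.card Q = q ^ (Nat.card M).factorization q) :
    M.Normal ∧ (Nat.card G = 3 * Nat.card M ∨ Nat.card G = 6 * Nat.card M) := by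
  have hMm := h.mod h.o3 hM.prop
  have hle : ∀ N : Subgroup G, N.Normal → ¬ 3 ∣ Nat.card N → N ≤ M := by
    intro N hN h3
    have := hM.le_of_ge (PP.sup hM.prop h3) le_sup_right
    exact le_sup_left.trans this
  rcases hC with ⟨N, hN, -, hN3, hN6⟩ | ⟨N, hN, hNc, hN2, ⟨e⟩⟩ | ⟨⟨e⟩⟩
  · have h3 : ¬ 3 ∣ Nat.card N := fun hd => by
      have := Nat.dvd_gcd hd (dvd_refl 3)
      rw [hN3] at this; omega
    have hNM := hle N hN h3
    obtain ⟨k, hk⟩ := Subgroup.card_dvd_of_le hNM
    have hNm := h.mod h.o3 (PP.of_normal (x := x) h3)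
    have hk1 := mod_arith hk hNm hMm
    have hGN := N.card_mul_index
    have hidx : N.index = 3 ∨ N.index = 6 := by
      rw [Subgroup.index_eq_card]
      rcases hN6 with h6 | e
      · left; exact h6
      · right
        obtain ⟨e⟩ := e
        rw [Nat.card_congr e.toEquiv, Nat.card_eq_fintype_card, Fintype.card_perm]; rfl
    have hMG := M.card_mul_index
    have hNpos : 0 < Nat.card N := Nat.card_pos
    have hkd : k ∣ N.index := by
      have : Nat.card N * (k * M.index) = Nat.card N * N.index := by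
        rw [hGN, ← hMG, hk, mul_assoc]
      exact ⟨M.index, (Nat.eq_of_mul_eq_mul_left hNpos this).symm⟩
    have hk1' : k = 1 := by
      rcases hidx with h6 | h6 <;> rw [h6] at hkd
      · have := Nat.le_of_dvd (by norm_num) hkd
        interval_cases k <;> omega
      · have := Nat.le_of_dvd (by norm_num) hkd
        interval_cases k <;> omega
    have hNM' : N = M := eq_of_le_of_card_ge' hNM (by rw [hk, hk1']; omega)
    subst hNM'
    refine ⟨hN, ?_⟩
    rcases hidx with h6 | h6
    · left; rw [← hGN, h6, mul_comm]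
    · right; rw [← hGN, h6, mul_comm]
  · exfalso
    have hNp : IsPGroup 2 N := isP2 (fun n hn => by rw [← pow_two]; exact hN2 n hn)
    have h3 := not3 hNp
    have hNM := hle N hN h3
    have hc60 : Nat.card G = Nat.card N * 60 := by
      rw [← N.card_mul_index, Subgroup.index_eq_card, Nat.card_congr e.toEquiv]
      congr 1
      rw [Nat.card_eq_fintype_card]
      decide +kernel
    -- Q ≤ N
    have hsimp : ∀ L : Subgroup G, L.Normal → N ≤ L → L = N ∨ L = ⊤ := by
      intro L hL hNL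
      let f : G →* alternatingGroup (Fin 5) := e.toMonoidHom.comp (QuotientGroup.mk' N)
      have hf : Function.Surjective f := e.surjective.comp (QuotientGroup.mk'_surjective N)
      have hker : f.ker = N := by
        ext g
        rw [MonoidHom.mem_ker]
        show e (g : G ⧸ N) = 1 ↔ g ∈ N
        rw [map_eq_one_iff e e.injective, QuotientGroup.eq_one_iff]
      haveI : IsSimpleGroup (alternatingGroup (Fin 5)) := Cfsg_a5simple
      have hmn : (L.map f).Normal := hL.map f hf
      have hcm : (L.map f).comap f = L := by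
        rw [Subgroup.comap_map_eq, hker, sup_eq_left.2 hNL]
      rcases hmn.eq_bot_or_eq_top with h5 | h5
      · left; rw [← hcm, h5, ← hker]; rfl
      · right; rw [← hcm, h5]; rfl
    have hQN : Q ≤ N := by
      rcases hsimp (N ⊔ Q) inferInstance le_sup_left with h5 | h5
      · rw [← h5]; exact le_sup_right
      · exfalso
        have h6 : N ⊔ Q ≤ M := sup_le hNM hQM
        rw [h5] at h6
        exact hM.prop.c3 (by rw [← h.o3]; exact Subgroup.orderOf_dvd_natCard M (h6 (Subgroup.mem_top x)))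
    have hq2 : q = 2 := by
      obtain ⟨⟨a, ha⟩, ha1⟩ : ∃ a : Q, a ≠ 1 := by
        haveI := (Subgroup.nontrivial_iff_ne_bot Q).2 hQ1
        exact exists_ne 1
      obtain ⟨k, hk⟩ := hQp ⟨a, ha⟩
      have hk' : a ^ q ^ k = 1 := congrArg Subtype.val hk
      have ha2 := hN2 a (hQN ha)
      have ha1' : a ≠ 1 := fun h' => ha1 (Subtype.ext h')
      have ho : orderOf a = 2 := orderOf_eq_prime ha2 ha1'
      have : 2 ∣ q ^ k := by rw [← ho]; exact orderOf_dvd_of_pow_eq_one hk'
      have := Nat.Prime.dvd_of_dvd_pow Nat.prime_two this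
      exact ((Nat.prime_dvd_prime_iff_eq Nat.prime_two hq.out).1 this).symm
    subst hq2
    obtain ⟨k, hk⟩ := Subgroup.card_dvd_of_le hNM
    have hNm := h.mod h.o3 (PP.of_normal (x := x) h3)
    have hk1 := mod_arith hk hNm hMm
    have hMG := M.card_mul_index
    have hNpos : 0 < Nat.card N := Nat.card_pos
    have hkd : k ∣ 60 := by
      have : Nat.card N * (k * M.index) = Nat.card N * 60 := by
        rw [← hc60, ← hMG, hk, mul_assoc]
      exact ⟨M.index, (Nat.eq_of_mul_eq_mul_left hNpos this).symm⟩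
    obtain ⟨n, hn⟩ := hNp.exists_card_eq
    have hM0 : Nat.card M ≠ 0 := Nat.card_pos.ne'
    have hnle : 2 ^ n ≤ Nat.card Q := by
      rw [hQc]
      apply Nat.pow_le_pow_right (by norm_num)
      rw [← Nat.Prime.pow_dvd_iff_le_factorization Nat.prime_two hM0, ← hn]
      exact ⟨k, hk⟩
    have hQNe : Q = N := eq_of_le_of_card_ge' hQN (by rw [hn]; exact hnle)
    have hkodd : ¬ 2 ∣ k := by
      intro h2
      have : 2 ^ ((Nat.card M).factorization 2 + 1) ∣ Nat.card M := by
        have h5 : 2 ^ ((Nat.card M).factorization 2) ∣ Nat.card N := by rw [← hQNe, hQc]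
        have h6 := Nat.mul_dvd_mul h5 h2
        rw [← hk, ← pow_succ] at h6
        exact h6
      rw [Nat.Prime.pow_dvd_iff_le_factorization Nat.prime_two hM0] at this
      omega
    have hk1' : k = 1 := by
      have h5 : k ∣ 15 := by
        have : Nat.Coprime k 4 := by
          have : Nat.Coprime k 2 := (Nat.coprime_comm.1 ((Nat.Prime.coprime_iff_not_dvd Nat.prime_two).2 hkodd))
          exact Nat.Coprime.pow_right 2 this
        exact this.dvd_of_dvd_mul_left (show k ∣ 4 * 15 from hkd)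
      have := Nat.le_of_dvd (by norm_num) h5
      interval_cases k <;> omega
    have hNM' : N = M := eq_of_le_of_card_ge' hNM (by rw [hk, hk1']; omega)
    obtain ⟨L, hL1, hL2⟩ := bigger (x := x) h.o3 h3 e
    rw [hNM'] at hL1
    exact absurd (hM.le_of_ge hL2 hL1.le) (not_le_of_gt hL1)
  · exfalso
    haveI : Fact (Nat.Prime 7) := ⟨by norm_num⟩
    haveI : IsSimpleGroup (Matrix.ProjectiveSpecialLinearGroup (Fin 2) (ZMod 7)) :=
      Matrix.ProjectiveSpecialLinearGroup.rank_two_simple (by rw [Nat.card_zmod]; omega)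
    haveI : IsSimpleGroup G := e.isSimpleGroup
    rcases hQn.eq_bot_or_eq_top with h5 | h5
    · exact hQ1 h5
    · rw [h5] at hQM
      exact hM.prop.c3 (by rw [← h.o3]; exact Subgroup.orderOf_dvd_natCard M (hQM (Subgroup.mem_top x)))

end Cfsg.Agent.H19.FT4
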