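import Mathlib
import Cfsg.Prelude.Def_Perm
import Cfsg.Agent.H9_SylowConj

set_option autoImplicit false

namespace Cfsg.Agent.H9.PermMod

/-- A `p`-group acting linearly on a nonzero invariant subspace in characteristic `p` fixes a nonzero vector. -/
theorem exists_fixed {K : Type*} [Field K] {p : ℕ} [Fact p.Prime] [CharP K p] {P : Type*} [Group P] [Finite P]
    (hP : IsPGroup p P) {V : Type*} [AddCommGroup V] [Module K V] (ρ : Representation K P V)
    (W : Submodule K V) (hW : ∀ g : P, ∀ v ∈ W, ρ g v ∈ W) (hne : W ≠ ⊥) :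
    ∃ w ∈ W, w ≠ 0 ∧ ∀ g : P, ρ g w = w := by
  classical
  obtain ⟨v, hvW, hv0⟩ := W.ne_bot_iff.1 hne
  letI : Algebra (ZMod p) K := ZMod.algebra K p
  letI : Module (ZMod p) V := Module.compHom V (algebraMap (ZMod p) K)
  haveI : IsScalarTower (ZMod p) K V := ⟨fun a b c => by
    change (a • b) • c = (algebraMap (ZMod p) K a) • (b • c)
    rw [Algebra.smul_def, mul_smul]⟩
  let S : Set V := Set.range (fun g : P => ρ g v)
  let U : Submodule (ZMod p) V := Submodule.span (ZMod p) S
  haveI : Module.Finite (ZMod p) U := Module.Finite.span_of_finite _ (Set.finite_range _)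
  haveI : Finite U := Module.finite_of_finite (ZMod p)
  have hU : ∀ g : P, ∀ u ∈ U, ρ g u ∈ U := by
    intro g u hu
    have : U ≤ U.comap ((ρ g).restrictScalars (ZMod p)) := by
      rw [Submodule.span_le]
      rintro _ ⟨h, rfl⟩
      apply Submodule.subset_span
      refine ⟨g * h, ?_⟩
      simp
    exact this hu
  have hUW : ∀ u ∈ U, u ∈ W := by
    have : U ≤ W.restrictScalars (ZMod p) := by
      rw [Submodule.span_le]
      rintro _ ⟨h, rfl⟩
      exact hW h v hvW
    exact this
  letI : MulAction P U :=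
    { smul := fun g u => ⟨ρ g u, hU g u u.2⟩
      one_smul := fun u => Subtype.ext (by change ρ 1 (u:V) = u; simp)
      mul_smul := fun g h u => Subtype.ext (by change ρ (g * h) (u:V) = ρ g (ρ h (u:V)); simp) }
  have hcard : p ∣ Nat.card U := by
    have h1 : Nat.card U = Nat.card (ZMod p) ^ Module.finrank (ZMod p) U := by
      rw [Nat.card_eq_fintype_card (α := ZMod p)]
      letI := Fintype.ofFinite U
      rw [Nat.card_eq_fintype_card]
      exact Module.card_eq_pow_finrank
    rw [h1, Nat.card_zmod]
    apply dvd_pow_self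
    intro h0
    rw [Module.finrank_zero_iff] at h0
    have hvU : v ∈ U := Submodule.subset_span ⟨1, by simp⟩
    have := congrArg Subtype.val (Subsingleton.elim (⟨v, hvU⟩ : U) 0)
    exact hv0 this
  obtain ⟨b, hb, hb0⟩ := hP.exists_fixed_point_of_prime_dvd_card_of_fixed_point U hcard (a := (0 : U)) (by
    intro g
    apply Subtype.ext
    change ρ g ((0 : U) : V) = ((0 : U) : V)
    simp)
  refine ⟨b, hUW _ b.2, fun h => hb0 (Subtype.ext h.symm), fun g => ?_⟩
  exact congrArg Subtype.val (hb g)

theorem permRep_apply {K : Type*} [Field K] {G : Type*} [Group G] {Ω : Type*} [MulAction G Ω] (g : G)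
    (f : Ω → K) (x : Ω) : Cfsg.permRep K G Ω g f x = f (g⁻¹ • x) := rfl

/-- a Sylow `p`-subgroup of a transitive group of degree `p ^ f` is transitive -/
theorem sylow_pretransitive {G : Type*} [Group G] [Finite G] {p f : ℕ} [Fact p.Prime] {Ω : Type*} [Fintype Ω]
    [MulAction G Ω] [MulAction.IsPretransitive G Ω] (hcard : Fintype.card Ω = p ^ f) (P : Sylow p G) :
    MulAction.IsPretransitive (P : Subgroup G) Ω := by
  classical
  rcases isEmpty_or_nonempty Ω with hE | ⟨⟨a⟩⟩
  · exact ⟨fun x => (hE.false x).elim⟩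
  have h1 : Nat.card (MulAction.stabilizer G a) * p ^ f = Nat.card G := by
    rw [← hcard, ← Nat.card_eq_fintype_card, mul_comm, ← MulAction.index_stabilizer_of_transitive G a, mul_comm]
    exact Subgroup.card_mul_index _
  have h2 : Nat.card (P : Subgroup G) = p ^ (Nat.card G).factorization p := P.card_eq_multiplicity
  have hst0 : Nat.card (MulAction.stabilizer G a) ≠ 0 := Nat.card_pos.ne'
  have hp : p.Prime := Fact.out
  have h3 : (Nat.card G).factorization p = (Nat.card (MulAction.stabilizer G a)).factorization p + f := by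
    rw [← h1, Nat.factorization_mul hst0 (pow_ne_zero _ hp.ne_zero), Finsupp.add_apply,
      hp.factorization_pow, Finsupp.single_eq_same]
  have h4 : Nat.card (MulAction.stabilizer (P : Subgroup G) a) ≤ p ^ (Nat.card (MulAction.stabilizer G a)).factorization p := by
    have h5 : Nat.card (MulAction.stabilizer (P : Subgroup G) a) ∣ Nat.card (MulAction.stabilizer G a) := by
      let φ : MulAction.stabilizer (P : Subgroup G) a →* MulAction.stabilizer G a :=
        { toFun := fun x => ⟨x.1.1, x.2⟩
          map_one' := rfl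
          map_mul' := fun _ _ => rfl }
      have hφ : Function.Injective φ := by
        intro x y hxy
        apply Subtype.ext; apply Subtype.ext
        exact congrArg (fun z => z.1) hxy
      exact Subgroup.card_dvd_of_injective φ hφ
    obtain ⟨k, hk⟩ := (IsPGroup.iff_card.1 (P.2.to_subgroup (MulAction.stabilizer (P : Subgroup G) a)))
    rw [hk] at h5 ⊢
    exact Nat.pow_le_pow_right hp.pos ((hp.pow_dvd_iff_le_factorization hst0).1 h5)
  have h6 : Nat.card (MulAction.orbit (P : Subgroup G) a) * Nat.card (MulAction.stabilizer (P : Subgroup G) a) = Nat.card (P : Subgroup G) := by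
    have := Subgroup.card_mul_index (MulAction.stabilizer (P : Subgroup G) a)
    rw [MulAction.index_stabilizer] at this
    rw [mul_comm]; exact this
  rw [h2, h3, pow_add] at h6
  have h7 : p ^ f ≤ Nat.card (MulAction.orbit (P : Subgroup G) a) := by
    by_contra hlt
    push Not at hlt
    have := Nat.mul_lt_mul_of_lt_of_le hlt h4 (pow_pos hp.pos _)
    rw [h6, mul_comm] at this
    exact lt_irrefl _ this
  have h8 : MulAction.orbit (P : Subgroup G) a = Set.univ := by
    apply Set.eq_of_subset_of_ncard_le (Set.subset_univ _)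
    rw [Set.ncard_univ, Nat.card_eq_fintype_card, hcard]
    exact h7
  exact MulAction.isPretransitive_iff_orbit_eq_univ a |>.2 h8

theorem constants_le {G : Type*} [Group G] [Finite G] {K : Type*} [Field K] {p f : ℕ} [Fact p.Prime] [CharP K p]
    {Ω : Type*} [Fintype Ω] [MulAction G Ω] [MulAction.IsPretransitive G Ω] (hcard : Fintype.card Ω = p ^ f)
    (W : Submodule K (Ω → K)) (hWG : ∀ g : G, ∀ v ∈ W, Cfsg.permRep K G Ω g v ∈ W) (hW : W ≠ ⊥) :
    (Cfsg.permConstants K G Ω).toSubmodule ≤ W := by
  classical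
  obtain ⟨P⟩ : Nonempty (Sylow p G) := inferInstance
  haveI := sylow_pretransitive (f := f) hcard P
  obtain ⟨w, hwW, hw0, hw⟩ := exists_fixed P.2 ((Cfsg.permRep K G Ω).comp (P : Subgroup G).subtype) W
    (fun g v hv => hWG _ v hv) hW
  obtain ⟨a, ha⟩ : ∃ a, w a ≠ 0 := by
    by_contra hcon
    push Not at hcon
    exact hw0 (funext hcon)
  have hconst : w = w a • (fun _ => (1 : K)) := by
    funext x
    obtain ⟨g, hg⟩ := MulAction.exists_smul_eq (P : Subgroup G) a x
    have := congrFun (hw g) x
    change w ((g : G)⁻¹ • x) = w x at this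
    rw [← hg] at this ⊢
    have h2 : (g : G)⁻¹ • g • a = a := by
      change (g : G)⁻¹ • (g : G) • a = a
      rw [inv_smul_smul]
    rw [h2] at this
    rw [← this]
    simp
  change Submodule.span K {fun _ => (1 : K)} ≤ W
  rw [Submodule.span_le, Set.singleton_subset_iff]
  have : (fun _ => (1 : K)) = (w a)⁻¹ • w := by
    rw [hconst]
    funext x
    simp [ha]
  rw [this]
  exact W.smul_mem _ hwW

theorem orth_ne_bot {K : Type*} [Field K] {Ω : Type*} [Fintype Ω] (U : Submodule K (Ω → K)) (hU : U ≠ ⊤) :
    ∃ c : Ω → K, c ≠ 0 ∧ ∀ u ∈ U, ∑ x, c x * u x = 0 := by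
  classical
  obtain ⟨φ, hφ, hφU⟩ := Submodule.exists_le_ker_of_lt_top U (lt_top_iff_ne_top.2 hU)
  refine ⟨fun x => φ (Pi.single x 1), ?_, ?_⟩
  · intro h
    apply hφ
    apply LinearMap.pi_ext
    intro x c
    have : (Pi.single x c : Ω → K) = c • Pi.single x 1 := by
      rw [← Pi.single_smul]; simp
    rw [this, map_smul]
    have h2 := congrFun h x
    simp only [Pi.zero_apply] at h2
    rw [h2]; simp
  · intro u hu
    have h1 : u = ∑ x, u x • (Pi.single x (1 : K) : Ω → K) := by
      funext y
      simp [Finset.sum_apply, Pi.single_apply]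
    have h2 : φ u = 0 := hφU hu
    rw [h1, map_sum] at h2
    rw [← h2]
    apply Finset.sum_congr rfl
    intro x _
    rw [map_smul, smul_eq_mul, mul_comm]

/-- the orthogonal complement with respect to the standard form -/
def orth {K : Type*} [Field K] {Ω : Type*} [Fintype Ω] (U : Submodule K (Ω → K)) : Submodule K (Ω → K) where
  carrier := {c | ∀ u ∈ U, ∑ x, c x * u x = 0}
  add_mem' := by
    intro a b ha hb u hu
    have h1 := ha u hu
    have h2 := hb u hu
    simp only [Pi.add_apply, add_mul, Finset.sum_add_distrib]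
    rw [h1, h2, add_zero]
  zero_mem' := by intro u _; simp
  smul_mem' := by
    intro c a ha u hu
    have h1 := ha u hu
    simp only [Pi.smul_apply, smul_eq_mul, mul_assoc, ← Finset.mul_sum]
    rw [h1, mul_zero]

theorem mem_orth {K : Type*} [Field K] {Ω : Type*} [Fintype Ω] (U : Submodule K (Ω → K)) (c : Ω → K) :
    c ∈ orth U ↔ ∀ u ∈ U, ∑ x, c x * u x = 0 := Iff.rfl

theorem orth_invariant {K : Type*} [Field K] {G : Type*} [Group G] {Ω : Type*} [Fintype Ω] [MulAction G Ω]
    (U : Submodule K (Ω → K)) (hU : ∀ g : G, ∀ v ∈ U, Cfsg.permRep K G Ω g v ∈ U) :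
    ∀ g : G, ∀ v ∈ orth U, Cfsg.permRep K G Ω g v ∈ orth U := by
  intro g v hv u hu
  have h1 := hv _ (hU g⁻¹ u hu)
  rw [← h1]
  apply Fintype.sum_equiv (MulAction.toPerm g⁻¹)
  intro x
  simp [permRep_apply]

theorem finrank_orth {K : Type*} [Field K] {Ω : Type*} [Fintype Ω] (U : Submodule K (Ω → K)) :
    Module.finrank K (orth U) + Module.finrank K U = Fintype.card Ω := by
  classical
  let e : (Ω → K) ≃ₗ[K] Module.Dual K (Ω → K) := (Pi.basisFun K Ω).toDualEquiv
  have h1 : orth U = U.dualAnnihilator.comap e.toLinearMap := by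
    ext c
    rw [mem_orth, Submodule.mem_comap, Submodule.mem_dualAnnihilator]
    have h2 : ∀ u : Ω → K, (e.toLinearMap c) u = ∑ x, c x * u x := by
      intro u
      have h3 : u = ∑ x, u x • (Pi.basisFun K Ω x) := by
        funext y
        simp [Finset.sum_apply, Pi.single_apply]
      conv_lhs => rw [h3]
      rw [map_sum]
      apply Finset.sum_congr rfl
      intro x _
      rw [map_smul, smul_eq_mul, mul_comm]
      congr 1
      change (Pi.basisFun K Ω).toDual c (Pi.basisFun K Ω x) = _
      rw [Module.Basis.toDual_apply_left]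
      simp
    constructor
    · intro h w hw
      rw [h2]; exact h w hw
    · intro h w hw
      rw [← h2]; exact h w hw
  have h2 := Subspace.finrank_add_finrank_dualAnnihilator_eq U
  rw [Module.finrank_fintype_fun_eq_card] at h2
  have h3 : Module.finrank K (U.dualAnnihilator.comap e.toLinearMap) = Module.finrank K U.dualAnnihilator := by
    have h4 : U.dualAnnihilator.comap e.toLinearMap = U.dualAnnihilator.map e.symm.toLinearMap := by
      ext c
      simp only [Submodule.mem_comap, Submodule.mem_map]
      constructor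
      · intro h
        exact ⟨e c, h, by simp⟩
      · rintro ⟨d, hd, rfl⟩
        simpa using hd
    rw [h4]
    exact LinearEquiv.finrank_map_eq e.symm _
  rw [h1, h3]
  omega

theorem eq_top_of_not_le {G : Type*} [Group G] [Finite G] {K : Type*} [Field K] {p f : ℕ} [Fact p.Prime] [CharP K p]
    {Ω : Type*} [Fintype Ω] [MulAction G Ω] [MulAction.IsPretransitive G Ω] (hcard : Fintype.card Ω = p ^ f)
    (U : Submodule K (Ω → K)) (hUG : ∀ g : G, ∀ v ∈ U, Cfsg.permRep K G Ω g v ∈ U)
    (hU : ¬ U ≤ (Cfsg.permSumZero K G Ω).toSubmodule) : U = ⊤ := by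
  by_contra hne
  obtain ⟨c, hc0, hc⟩ := orth_ne_bot U hne
  have h1 : orth U ≠ ⊥ := (Submodule.ne_bot_iff _).2 ⟨c, hc, hc0⟩
  have h2 := constants_le (f := f) hcard (orth U) (orth_invariant U hUG) h1
  apply hU
  intro u hu
  have h3 := h2 (Submodule.mem_span_singleton_self _) u hu
  simp only [one_mul] at h3
  exact h3

end Cfsg.Agent.H9.PermMod
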