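import Mathlib
import Cfsg.Prelude.Def_Perm
import Cfsg.Agent.H9_PermMod

set_option autoImplicit false

open Polynomial

namespace Cfsg.Agent.H9.ZModPoly

variable {p : ℕ} [Fact p.Prime] {K : Type*} [Field K] [CharP K p]

/-- the function on `ZMod p` given by a polynomial over `K` -/
noncomputable def ev (P : K[X]) : ZMod p → K := fun j => P.eval (ZMod.cast j : K)

theorem cast_inj {i j : ZMod p} (h : (ZMod.cast i : K) = ZMod.cast j) : i = j := by
  have h1 : ZMod.castHom (dvd_refl p) K i = ZMod.castHom (dvd_refl p) K j := h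
  exact (ZMod.castHom (dvd_refl p) K).injective h1

theorem ev_inj {P : K[X]} (hP : P.degree < p) (h : (ev P : ZMod p → K) = 0) : P = 0 := by
  classical
  by_contra hne
  have h1 : (Finset.univ.image (fun j : ZMod p => (ZMod.cast j : K))).card ≤ P.roots.toFinset.card := by
    apply Finset.card_le_card
    intro x hx
    rw [Finset.mem_image] at hx
    obtain ⟨j, -, rfl⟩ := hx
    rw [Multiset.mem_toFinset, mem_roots hne]
    exact congrFun h j
  rw [Finset.card_image_of_injective _ (fun i j h => cast_inj h), Finset.card_univ, ZMod.card] at h1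
  have h2 := (Multiset.toFinset_card_le P.roots).trans (card_roots' P)
  have h3 : P.natDegree < p := by
    rwa [natDegree_lt_iff_degree_lt hne]
  omega

/-- polynomial functions of degree less than `r` -/
noncomputable def V (p : ℕ) [Fact p.Prime] (K : Type*) [Field K] [CharP K p] (r : ℕ) : Submodule K (ZMod p → K) :=
  (degreeLT K r).map
    ({ toFun := fun P => ev P
       map_add' := by intro P Q; funext j; simp [ev]
       map_smul' := by intro c P; funext j; simp [ev] } : K[X] →ₗ[K] (ZMod p → K))

theorem mem_V {r : ℕ} {f : ZMod p → K} : f ∈ V p K r ↔ ∃ P : K[X], P.degree < r ∧ ∀ j, f j = P.eval (ZMod.cast j : K) := by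
  constructor
  · rintro ⟨P, hP, rfl⟩
    exact ⟨P, mem_degreeLT.1 hP, fun j => rfl⟩
  · rintro ⟨P, hP, hP2⟩
    exact ⟨P, mem_degreeLT.2 hP, funext fun j => (hP2 j).symm⟩

theorem finrank_V {r : ℕ} (hr : r ≤ p) : Module.finrank K (V p K r) = r := by
  have h1 : Module.finrank K (degreeLT K r) = r := by
    rw [LinearEquiv.finrank_eq (degreeLTEquiv K r)]
    simp
  conv_rhs => rw [← h1]
  have h2 : V p K r = LinearMap.range (({ toFun := fun P => ev P
                                          map_add' := by intro P Q; funext j; simp [ev]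
                                          map_smul' := by intro c P; funext j; simp [ev] } : K[X] →ₗ[K] (ZMod p → K)).domRestrict (degreeLT K r)) := by
    rw [LinearMap.range_domRestrict]; rfl
  rw [h2]
  apply LinearMap.finrank_range_of_inj
  rw [← LinearMap.ker_eq_bot, LinearMap.ker_eq_bot']
  rintro ⟨P, hP⟩ hP2
  apply Subtype.ext
  apply ev_inj (p := p) _ hP2
  exact lt_of_lt_of_le (mem_degreeLT.1 hP) (by exact_mod_cast hr)

theorem diff_natDegree {P : K[X]} {d : ℕ} (hd : P.natDegree = d + 1) (hdp : d + 1 < p) :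
    (taylor (-1) P - P).natDegree = d ∧ taylor (-1) P - P ≠ 0 := by
  have hP : P ≠ 0 := by rintro rfl; simp at hd
  have h1 : (taylor (-1) P - P).degree < P.degree := by
    have := degree_sub_lt (degree_taylor P (-1)) (by rw [Ne, taylor_eq_zero]; exact hP) (leadingCoeff_taylor (-1) P)
    rwa [degree_taylor] at this
  have h2 : (taylor (-1) P - P).natDegree ≤ d := by
    by_cases h0 : taylor (-1) P - P = 0
    · rw [h0]; simp
    · have := (natDegree_lt_natDegree_iff h0).2 h1
      omega
  have h3 : (taylor (-1) P - P).coeff d = -((d + 1 : ℕ) : K) * P.leadingCoeff := by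
    rw [coeff_sub, taylor_coeff]
    have h4 : hasseDeriv d P = C (P.coeff d) + C (((d + 1 : ℕ) : K) * P.coeff (d + 1)) * X := by
      ext n
      rw [hasseDeriv_coeff]
      rcases n with _ | _ | n
      · simp
      · simp [add_comm]
      · have : P.coeff (n + 1 + 1 + d) = 0 := coeff_eq_zero_of_natDegree_lt (by omega)
        rw [this]
        simp [coeff_C_succ, coeff_one]
    rw [h4, leadingCoeff, hd]
    simp
    ring
  have h5 : (taylor (-1) P - P).coeff d ≠ 0 := by
    rw [h3]
    apply mul_ne_zero
    · rw [neg_ne_zero]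
      intro h
      rw [CharP.cast_eq_zero_iff K p] at h
      exact absurd (Nat.le_of_dvd (by omega) h) (by omega)
    · exact leadingCoeff_ne_zero.2 hP
  refine ⟨le_antisymm h2 (le_natDegree_of_ne_zero h5), fun h => h5 (by rw [h]; simp)⟩

theorem ev_taylor (P : K[X]) (j : ZMod p) : (ev (taylor (-1) P) : ZMod p → K) j = ev P (j - 1) := by
  unfold ev
  rw [taylor_eval, ZMod.cast_sub (dvd_refl p)]
  congr 1
  rw [← sub_eq_add_neg]
  congr 1
  have : (ZMod.castHom (dvd_refl p) K) 1 = 1 := map_one _
  exact this.symm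

theorem V_le_of_mem (W : Submodule K (ZMod p → K)) (hW : ∀ f ∈ W, (fun j => f (j - 1)) ∈ W) (d : ℕ) :
    ∀ P : K[X], P.natDegree = d → P ≠ 0 → d < p → (ev P : ZMod p → K) ∈ W → V p K (d + 1) ≤ W := by
  induction d with
  | zero =>
    intro P hd hP _ hPW f hf
    obtain ⟨Q, hQ, hQ2⟩ := mem_V.1 hf
    obtain ⟨c, hc⟩ := natDegree_eq_zero.1 hd
    have hc0 : c ≠ 0 := by rintro rfl; apply hP; rw [← hc]; simp
    have hQ3 : Q.natDegree = 0 := by
      by_cases hQ0 : Q = 0
      · rw [hQ0]; simp
      · have := (natDegree_lt_iff_degree_lt hQ0).2 hQ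
        omega
    obtain ⟨c', hc'⟩ := natDegree_eq_zero.1 hQ3
    have : f = (c' * c⁻¹) • (ev P : ZMod p → K) := by
      funext j
      rw [hQ2, ← hc', Pi.smul_apply]
      unfold ev
      rw [← hc]
      simp [hc0]
    rw [this]
    exact W.smul_mem _ hPW
  | succ d ih =>
    intro P hd hP hdp hPW f hf
    obtain ⟨h1, h2⟩ := diff_natDegree (p := p) hd hdp
    have h3 : (ev (taylor (-1) P - P) : ZMod p → K) ∈ W := by
      have : (ev (taylor (-1) P - P) : ZMod p → K) = (fun j => ev P (j - 1)) - ev P := by
        funext j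
        rw [Pi.sub_apply, ← ev_taylor]
        simp [ev]
      rw [this]
      exact W.sub_mem (hW _ hPW) hPW
    have h4 := ih _ h1 h2 (by omega) h3
    obtain ⟨Q, hQ, hQ2⟩ := mem_V.1 hf
    set c := Q.coeff (d + 1) / P.leadingCoeff with hc
    have h5 : (Q - C c * P).degree < (d + 1 : ℕ) := by
      rw [degree_lt_iff_coeff_zero]
      intro m hm
      rw [coeff_sub, coeff_C_mul]
      rcases Nat.eq_or_lt_of_le hm with h | h
      · rw [← h, hc, leadingCoeff, hd]
        have : P.coeff (d + 1) ≠ 0 := by
          rw [← hd]; exact leadingCoeff_ne_zero.2 hP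
        field_simp
        ring
      · rw [coeff_eq_zero_of_degree_lt (lt_of_lt_of_le hQ (by exact_mod_cast h)),
          coeff_eq_zero_of_natDegree_lt (by omega)]
        ring
    have h6 : f = (ev (Q - C c * P) : ZMod p → K) + c • ev P := by
      funext j
      rw [hQ2, Pi.add_apply, Pi.smul_apply]
      simp [ev]
    rw [h6]
    exact W.add_mem (h4 (mem_V.2 ⟨_, h5, fun _ => rfl⟩)) (W.smul_mem _ hPW)

theorem eq_V (W : Submodule K (ZMod p → K)) (hW : ∀ f ∈ W, (fun j => f (j - 1)) ∈ W) :
    ∃ r ≤ p, W = V p K r := by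
  classical
  have htop : V p K p = ⊤ := by
    apply Submodule.eq_top_of_finrank_eq
    rw [finrank_V le_rfl, Module.finrank_fintype_fun_eq_card, ZMod.card]
  have hex : ∃ r, W ≤ V p K r := ⟨p, by rw [htop]; exact le_top⟩
  refine ⟨Nat.find hex, Nat.find_min' hex (by rw [htop]; exact le_top), ?_⟩
  apply le_antisymm (Nat.find_spec hex)
  rcases hr : Nat.find hex with _ | d
  · intro f hf
    obtain ⟨Q, hQ, hQ2⟩ := mem_V.1 hf
    have : Q = 0 := by
      rw [← degree_eq_bot]
      exact Nat.WithBot.lt_zero_iff.1 (by simpa using hQ)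
    have : f = 0 := by funext j; rw [hQ2, this]; simp
    rw [this]; exact W.zero_mem
  · have hle : d + 1 ≤ p := by
      rw [← hr]; exact Nat.find_min' hex (by rw [htop]; exact le_top)
    have h1 := Nat.find_spec hex
    have h2 := Nat.find_min hex (show d < Nat.find hex by omega)
    rw [hr] at h1
    obtain ⟨f, hf, hfn⟩ := Set.not_subset.1 h2
    obtain ⟨P, hP, hP2⟩ := mem_V.1 (h1 hf)
    have hfe : (ev P : ZMod p → K) = f := funext fun j => (hP2 j).symm
    have hPd : P.natDegree = d := by
      by_contra hne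
      have : P.degree < (d : ℕ) := by
        rw [degree_lt_iff_coeff_zero]
        intro m hm
        rcases Nat.eq_or_lt_of_le hm with h | h
        · rw [← h]
          by_contra hc
          apply hne
          apply le_antisymm
          · have hP0 : P ≠ 0 := by rintro rfl; simp at hc
            have := (natDegree_lt_iff_degree_lt hP0).2 hP
            omega
          · exact le_natDegree_of_ne_zero hc
        · exact coeff_eq_zero_of_degree_lt (lt_of_lt_of_le hP (by exact_mod_cast h))
      exact hfn (mem_V.2 ⟨P, this, hP2⟩)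
    have hP0 : P ≠ 0 := by
      rintro rfl
      apply hfn
      exact mem_V.2 ⟨0, by rw [degree_zero]; exact WithBot.bot_lt_coe _, hP2⟩
    exact V_le_of_mem W hW d P hPd hP0 (by omega) (by rw [hfe]; exact hf)

end Cfsg.Agent.H9.ZModPoly
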