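import Mathlib
import Cfsg.Prelude.Def_Perm
import Cfsg.Agent.H9_PermMod
import Cfsg.Agent.H9_ZModPoly

set_option autoImplicit false

open Polynomial

namespace Cfsg.Agent.H9.PrimeDeg

/-- A transitive group of prime degree contains an element acting as `x ↦ x + 1` in suitable coordinates. -/
theorem exists_coord {α : Type*} [Fintype α] {p : ℕ} [hp : Fact p.Prime]
    (hα : Fintype.card α = p) {G : Type*} [Group G] [Finite G] [MulAction G α] [FaithfulSMul G α] [MulAction.IsPretransitive G α] :
    ∃ (σ : G) (e : ZMod p ≃ α), orderOf σ = p ∧ ∀ j, e (j + 1) = σ • (e j) := by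
  classical
  haveI : NeZero p := ⟨hp.out.ne_zero⟩
  have hne : Nonempty α := Fintype.card_pos_iff.1 (by rw [hα]; exact hp.out.pos)
  obtain ⟨a0⟩ := hne
  have hdvd : p ∣ Nat.card G := by
    have := MulAction.index_stabilizer_of_transitive G a0
    rw [← hα, ← Nat.card_eq_fintype_card, ← this]
    exact Subgroup.index_dvd_card _
  obtain ⟨σ, hσ⟩ := exists_prime_orderOf_dvd_card' (G := G) p hdvd
  have hσ1 : σ ≠ 1 := by
    rintro rfl
    rw [orderOf_one] at hσ
    exact hp.out.one_lt.ne hσ
  obtain ⟨a, ha⟩ : ∃ a : α, σ • a ≠ a := by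
    by_contra hcon
    push Not at hcon
    exact hσ1 (FaithfulSMul.eq_of_smul_eq_smul (α := α) (fun x => by rw [hcon x, one_smul]))
  have hpow : ∀ n : ℕ, ∀ b : α, σ ^ (n % p) • b = σ ^ n • b := by
    intro n b
    rw [← hσ, pow_mod_orderOf]
  let f : ZMod p → α := fun j => σ ^ j.val • a
  have hf1 : ∀ j, f (j + 1) = σ • f j := by
    intro j
    simp only [f]
    rw [ZMod.val_add, hpow, ← mul_smul, ← pow_succ', pow_add, pow_succ]
    congr 2
    rw [ZMod.val_one_eq_one_mod]
    rw [← hσ, pow_mod_orderOf, pow_one]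
  have hkey : ∀ n : ℕ, σ ^ n • a = a → p ∣ n := by
    intro n hn
    by_contra hnd
    have hcop : Nat.Coprime (orderOf σ) n := by
      rw [hσ]; exact (Nat.Prime.coprime_iff_not_dvd hp.out).2 hnd
    have h1 : σ ∈ Subgroup.zpowers (σ ^ n) := by
      obtain ⟨m, hm⟩ := exists_pow_eq_self_of_coprime hcop.symm
      exact ⟨m, by simpa using hm⟩
    obtain ⟨m, hm⟩ := h1
    apply ha
    have hst : σ ^ n ∈ MulAction.stabilizer G a := hn
    have := (MulAction.stabilizer G a).zpow_mem hst m
    have h2 : (σ ^ n) ^ m = σ := hm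
    rw [h2] at this
    exact this
  have hinj : Function.Injective f := by
    intro i j hij
    simp only [f] at hij
    wlog hle : i.val ≤ j.val generalizing i j
    · exact (this hij.symm (le_of_not_ge hle)).symm
    have h1 : σ ^ (j.val - i.val) • a = a := by
      have h2 : σ ^ j.val = σ ^ i.val * σ ^ (j.val - i.val) := by
        rw [← pow_add]; congr 1; omega
      rw [h2, mul_smul] at hij
      exact (MulAction.injective (σ ^ i.val) hij).symm
    have h2 := hkey _ h1
    have h3 : j.val < p := ZMod.val_lt j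
    have h4 : j.val - i.val = 0 := Nat.eq_zero_of_dvd_of_lt h2 (by omega)
    exact ZMod.val_injective p (by omega)
  have hbij : Function.Bijective f := (Fintype.bijective_iff_injective_and_card f).2 ⟨hinj, by rw [ZMod.card, hα]⟩
  exact ⟨σ, Equiv.ofBijective f hbij, hσ, hf1⟩

/-- permutations preserving a small space of polynomials are affine -/
theorem affine_of_comp {p : ℕ} [hp : Fact p.Prime] {K : Type*} [Field K] [CharP K p] (g : ZMod p → ZMod p)
    (r : ℕ) (hr : 2 ≤ r) (hrp : 2 * (r - 1) ≤ p - 1)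
    (h : ∀ f ∈ ZModPoly.V p K r, f ∘ g ∈ ZModPoly.V p K r) : ∃ a b : ZMod p, ∀ x, g x = a * x + b := by
  have hp1 := hp.out.one_lt
  have hX : (ZModPoly.ev X : ZMod p → K) ∈ ZModPoly.V p K r := ZModPoly.mem_V.2 ⟨X, by
    rw [degree_X]; exact_mod_cast hr, fun _ => rfl⟩
  obtain ⟨P, hP, hP2⟩ := ZModPoly.mem_V.1 (h _ hX)
  have hP3 : ∀ j, (ZMod.cast (g j) : K) = P.eval (ZMod.cast j : K) := by
    intro j
    rw [← hP2 j]
    simp [ZModPoly.ev]
  rcases Nat.lt_or_ge P.natDegree 2 with hd | hd
  · obtain ⟨a', b', hab⟩ : ∃ a' b' : K, P = C a' * X + C b' := by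
      exact exists_eq_X_add_C_of_natDegree_le_one (by omega)
    refine ⟨g 1 - g 0, g 0, fun x => ?_⟩
    apply ZModPoly.cast_inj (K := K)
    have e0 : (ZMod.cast (g 0) : K) = b' := by
      rw [hP3, hab]
      simp
    have e1 : (ZMod.cast (g 1) : K) = a' + b' := by
      rw [hP3, hab]
      have : (ZMod.cast (1 : ZMod p) : K) = 1 := map_one (ZMod.castHom (dvd_refl p) K)
      simp [this]
    have e2 : (ZMod.cast ((g 1 - g 0) * x + g 0) : K) = (ZMod.cast (g 1) - ZMod.cast (g 0)) * ZMod.cast x + ZMod.cast (g 0) := by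
      have := map_add (ZMod.castHom (dvd_refl p) K) ((g 1 - g 0) * x) (g 0)
      rw [map_mul, map_sub] at this
      exact this
    rw [e2, hP3 x, hab, e0, e1]
    simp
  · exfalso
    set d := P.natDegree with hdd
    have hP0 : P ≠ 0 := by
      rintro rfl
      simp at hdd
      omega
    have hdr : d < r := (natDegree_lt_iff_degree_lt hP0).2 hP
    set j := (r + d - 1) / d with hj
    have h1 : j * d ≤ r + d - 1 := Nat.div_mul_le_self _ _
    have h2 : r ≤ j * d := by
      have := Nat.lt_div_mul_add (a := r + d - 1) (b := d) (by omega)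
      rw [← hj] at this
      omega
    have h3 : j < r := by
      by_contra hge
      push Not at hge
      have : r * 2 ≤ j * d := Nat.mul_le_mul hge hd
      omega
    have hXj : (ZModPoly.ev (X ^ j) : ZMod p → K) ∈ ZModPoly.V p K r := ZModPoly.mem_V.2 ⟨X ^ j, by
      rw [degree_X_pow]; exact_mod_cast h3, fun _ => rfl⟩
    obtain ⟨Q, hQ, hQ2⟩ := ZModPoly.mem_V.1 (h _ hXj)
    have h4 : (ZModPoly.ev (P ^ j - Q) : ZMod p → K) = 0 := by
      funext x
      have h5 := hQ2 x
      simp only [ZModPoly.ev, Function.comp_apply, eval_pow, eval_X] at h5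
      simp only [ZModPoly.ev, eval_sub, eval_pow, Pi.zero_apply]
      rw [← hP3, h5, sub_self]
    have hrp2 : r < p := by omega
    have hdeg : (P ^ j).degree = ((j * d : ℕ) : WithBot ℕ) := by
      rw [degree_pow, degree_eq_natDegree hP0, ← hdd]
      simp
    have h5 : (P ^ j - Q).degree < p := by
      refine lt_of_le_of_lt (degree_sub_le _ _) (max_lt ?_ ?_)
      · rw [hdeg]
        exact_mod_cast (by omega : j * d < p)
      · exact lt_trans hQ (by exact_mod_cast hrp2)
    have h6 := ZModPoly.ev_inj (p := p) h5 h4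
    rw [sub_eq_zero] at h6
    rw [← h6, hdeg] at hQ
    have : j * d < r := by exact_mod_cast hQ
    omega

/-- groups all of whose elements are affine in suitable coordinates are solvable -/
theorem solvable_of_affine {α : Type*} {R : Type*} [CommRing R] {G : Type*} [Group G] [MulAction G α] [FaithfulSMul G α]
    (e : R ≃ α) (h : ∀ g : G, ∃ a b : R, ∀ x, g • (e x) = e (a * x + b)) : Group.IsSolvable G := by
  classical
  let T : Subgroup G :=
    { carrier := {g | ∃ b : R, ∀ x, g • (e x) = e (x + b)}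
      mul_mem' := by
        rintro g k ⟨b, hb⟩ ⟨c, hc⟩
        exact ⟨c + b, fun x => by rw [mul_smul, hc, hb, add_assoc]⟩
      one_mem' := ⟨0, fun x => by simp⟩
      inv_mem' := by
        rintro g ⟨b, hb⟩
        exact ⟨-b, fun x => by rw [inv_smul_eq_iff, hb]; simp⟩ }
  have hT : ∀ g : G, g ∈ T ↔ ∃ b : R, ∀ x, g • (e x) = e (x + b) := fun _ => Iff.rfl
  have hcomm : commutator G ≤ T := by
    rw [commutator_def, Subgroup.commutator_le]
    intro g _ k _
    obtain ⟨a, b, hg⟩ := h g
    obtain ⟨c, d, hk⟩ := h k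
    -- g k = k g up to translation
    refine (hT _).2 ⟨?_, ?_⟩
    · exact (a * d + b) - (c * b + d)
    · intro x
      obtain ⟨y, hy⟩ : ∃ y, k • g • e y = e x := by
        refine ⟨e.symm (g⁻¹ • k⁻¹ • e x), ?_⟩
        rw [Equiv.apply_symm_apply, smul_inv_smul, smul_inv_smul]
      rw [commutatorElement_def, mul_smul, mul_smul, mul_smul, ← hy, inv_smul_smul, inv_smul_smul, hk, hg]
      rw [hg, hk] at hy
      have hx := e.injective hy
      rw [← hx]
      congr 1
      ring
  have hTc : ∀ g ∈ T, ∀ k ∈ T, g * k = k * g := by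
    rintro g ⟨b, hb⟩ k ⟨c, hc⟩
    apply FaithfulSMul.eq_of_smul_eq_smul (α := α)
    intro y
    obtain ⟨x, rfl⟩ := e.surjective y
    rw [mul_smul, mul_smul, hb, hc, hc, hb]
    congr 1
    ring
  refine ⟨⟨2, ?_⟩⟩
  rw [eq_bot_iff, derivedSeries_succ, derivedSeries_one, Subgroup.commutator_le]
  intro g hg k hk
  rw [Subgroup.mem_bot, commutatorElement_eq_one_iff_mul_comm]
  exact hTc g (hcomm hg) k (hcomm hk)

/-- `G` is affine in suitable coordinates -/
def Aff (p : ℕ) (G : Type*) [Group G] (α : Type*) [MulAction G α] : Prop :=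
  ∃ e : ZMod p ≃ α, ∀ g : G, ∃ a b : ZMod p, ∀ x, g • (e x) = e (a * x + b)

theorem Aff.solvable {p : ℕ} {G : Type*} [Group G] {α : Type*} [MulAction G α] [FaithfulSMul G α] (h : Aff p G α) :
    Group.IsSolvable G := by
  obtain ⟨e, he⟩ := h
  exact solvable_of_affine e he

theorem aff_of_invariant {α : Type*} [Fintype α] {p : ℕ} [hp : Fact p.Prime] (hα : Fintype.card α = p)
    {G : Type*} [Group G] [Finite G] [MulAction G α] [FaithfulSMul G α] [MulAction.IsPretransitive G α]
    {K : Type*} [Field K] [CharP K p] (U : Submodule K (α → K))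
    (hU : ∀ g : G, ∀ v ∈ U, Cfsg.permRep K G α g v ∈ U) (h2 : 2 ≤ Module.finrank K U)
    (hle : 2 * (Module.finrank K U - 1) ≤ p - 1) : Aff p G α := by
  classical
  obtain ⟨σ, e, -, he⟩ := exists_coord (p := p) hα (G := G)
  let L : (ZMod p → K) ≃ₗ[K] (α → K) := LinearEquiv.funCongrLeft K K e.symm
  have hL : ∀ f x, L f x = f (e.symm x) := fun _ _ => rfl
  let U0 : Submodule K (ZMod p → K) := U.comap L.toLinearMap
  have hU0 : ∀ f, f ∈ U0 ↔ L f ∈ U := fun _ => Iff.rfl
  have hg : ∀ g : G, ∀ f ∈ U0, f ∘ (fun x => e.symm (g • e x)) ∈ U0 := by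
    intro g f hf
    rw [hU0] at hf ⊢
    have := hU g⁻¹ _ hf
    have h1 : L (f ∘ fun x => e.symm (g • e x)) = Cfsg.permRep K G α g⁻¹ (L f) := by
      funext x
      rw [hL, PermMod.permRep_apply, hL, inv_inv]
      simp
    rw [h1]; exact this
  have hσ : ∀ f ∈ U0, (fun j => f (j - 1)) ∈ U0 := by
    intro f hf
    have := hg σ⁻¹ f hf
    convert this using 1
    funext j
    simp only [Function.comp_apply]
    congr 1
    rw [Equiv.eq_symm_apply, eq_inv_smul_iff, ← he, sub_add_cancel]
  obtain ⟨r, hr, hUr⟩ := ZModPoly.eq_V U0 hσ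
  have hfr : Module.finrank K U = r := by
    have h1 := ZModPoly.finrank_V (K := K) hr
    rw [← hUr] at h1
    rw [← h1]
    have h3 : U = U0.map L.toLinearMap := by
      rw [Submodule.map_comap_eq_of_surjective L.surjective]
    rw [h3]
    exact LinearEquiv.finrank_map_eq L U0
  rw [hfr] at h2 hle
  refine ⟨e, fun g => ?_⟩
  obtain ⟨a, b, hab⟩ := affine_of_comp (K := K) (fun x => e.symm (g • e x)) r h2 hle (by
    intro f hf
    rw [← hUr] at hf ⊢
    exact hg g f hf)
  exact ⟨a, b, fun x => by rw [← hab]; simp⟩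

theorem finrank_constants {α : Type*} [Nonempty α] {K : Type*} [Field K] {G : Type*} [Group G]
    [MulAction G α] : Module.finrank K (Cfsg.permConstants K G α).toSubmodule = 1 := by
  change Module.finrank K (Submodule.span K {fun _ : α => (1 : K)}) = 1
  apply finrank_span_singleton
  intro h
  obtain ⟨a⟩ := (inferInstance : Nonempty α)
  exact one_ne_zero (congrFun h a)

theorem finrank_sumZero {α : Type*} [Nonempty α] [Fintype α] {K : Type*} [Field K] {G : Type*} [Group G]
    [MulAction G α] : Module.finrank K (Cfsg.permSumZero K G α).toSubmodule = Fintype.card α - 1 := by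
  have h1 := PermMod.finrank_orth (Cfsg.permConstants K G α).toSubmodule
  rw [finrank_constants] at h1
  have h2 : (Cfsg.permSumZero K G α).toSubmodule = PermMod.orth (Cfsg.permConstants K G α).toSubmodule := by
    ext f
    rw [PermMod.mem_orth]
    constructor
    · intro hf u hu
      obtain ⟨c, rfl⟩ := Submodule.mem_span_singleton.1 hu
      have hf2 : ∑ x, f x = 0 := hf
      simp only [Pi.smul_apply, smul_eq_mul, mul_one, ← Finset.sum_mul, hf2, zero_mul]
    · intro h
      have := h (fun _ => 1) (Submodule.mem_span_singleton_self _)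
      simp only [mul_one] at this
      exact this
  rw [h2]
  omega

theorem irreducible {α : Type*} [Fintype α] {p : ℕ} [hp : Fact p.Prime] (hα : Fintype.card α = p)
    {G : Type*} [Group G] [Finite G] [MulAction G α] [FaithfulSMul G α] [MulAction.IsPretransitive G α]
    (hG : ¬ Aff p G α)
    {K : Type*} [Field K] [CharP K p] (W : Submodule K (α → K))
    (hW : ∀ g : G, ∀ v ∈ W, Cfsg.permRep K G α g v ∈ W)
    (h₁ : (Cfsg.permConstants K G α).toSubmodule ≤ W) (h₂ : W ≤ (Cfsg.permSumZero K G α).toSubmodule) :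
    W = (Cfsg.permConstants K G α).toSubmodule ∨ W = (Cfsg.permSumZero K G α).toSubmodule := by
  haveI : Nonempty α := Fintype.card_pos_iff.1 (by rw [hα]; exact hp.out.pos)
  have hc := finrank_constants (α := α) (K := K) (G := G)
  have hs := finrank_sumZero (α := α) (K := K) (G := G)
  by_contra hcon
  rw [not_or] at hcon
  have h3 := Submodule.finrank_lt_finrank_of_lt (lt_of_le_of_ne h₁ (Ne.symm hcon.1))
  have h4 := Submodule.finrank_lt_finrank_of_lt (lt_of_le_of_ne h₂ hcon.2)
  rw [hc] at h3
  rw [hs, hα] at h4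
  by_cases h5 : 2 * (Module.finrank K W - 1) ≤ p - 1
  · exact hG (aff_of_invariant hα W hW (by omega) h5)
  · have h6 := PermMod.finrank_orth W
    rw [hα] at h6
    exact hG (aff_of_invariant hα (PermMod.orth W) (PermMod.orth_invariant W hW) (by omega) (by omega))

end Cfsg.Agent.H9.PrimeDeg
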