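import Cfsg.Statements.S0671
import Cfsg.Agent.H9_PermMod

set_option autoImplicit false
open Cfsg

namespace Cfsg.Agent.S0671

theorem key {G : Type*} [Group G] [Finite G] {K : Type*} [Field K] {p f : ℕ} [Fact p.Prime] [CharP K p] {Ω : Type*} [Fintype Ω] [MulAction G Ω] [MulAction.IsPretransitive G Ω] (hcard : Fintype.card Ω = p ^ f) (h : ∀ W W' : Subrepresentation (Cfsg.permRep K G Ω), (Cfsg.permConstants K G Ω).toSubmodule ≤ W.toSubmodule → W.toSubmodule < W'.toSubmodule → W'.toSubmodule ≤ (Cfsg.permSumZero K G Ω).toSubmodule → ∃ g : G, ∃ v ∈ W'.toSubmodule, Cfsg.permRep K G Ω g v - v ∉ W.toSubmodule)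
    (N : Ω → Ω → K) (hN : ∀ (g : G) u v, N (g • u) (g • v) = N u v) (hrow : ∀ u, ∑ v, N u v = 0) (hcol : ∀ v, ∑ u, N u v = 0) (x y z : Ω) : N x y = N x z := by
  classical
  let T : (Ω → K) →ₗ[K] (Ω → K) :=
    { toFun := fun f u => ∑ v, N u v * f v
      map_add' := by intro f f'; funext u; simp [mul_add, Finset.sum_add_distrib]
      map_smul' := by intro c f; funext u; simp [Finset.mul_sum, mul_left_comm] }
  have hT : ∀ f u, T f u = ∑ v, N u v * f v := fun _ _ => rfl
  have hequiv : ∀ (g : G) f, T (Cfsg.permRep K G Ω g f) = Cfsg.permRep K G Ω g (T f) := by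
    intro g f
    funext u
    rw [H9.PermMod.permRep_apply, hT, hT]
    apply Fintype.sum_equiv (MulAction.toPerm g⁻¹)
    intro v
    rw [H9.PermMod.permRep_apply, MulAction.toPerm_apply, hN]
  set S := (Cfsg.permSumZero K G Ω).toSubmodule with hS
  have hmemS : ∀ f : Ω → K, f ∈ S ↔ ∑ x, f x = 0 := fun _ => Iff.rfl
  let W : Subrepresentation (Cfsg.permRep K G Ω) :=
    { toSubmodule := S.map T
      apply_mem_toSubmodule := by
        rintro g _ ⟨f, hf, rfl⟩
        exact ⟨_, (Cfsg.permSumZero K G Ω).apply_mem_toSubmodule g hf, hequiv g f⟩ }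
  let W' : Subrepresentation (Cfsg.permRep K G Ω) :=
    { toSubmodule := LinearMap.range T
      apply_mem_toSubmodule := by
        rintro g _ ⟨f, rfl⟩
        exact ⟨_, hequiv g f⟩ }
  have hWbot : W.toSubmodule = ⊥ := by
    by_contra hne
    have h1 := H9.PermMod.constants_le (f := f) hcard W.toSubmodule (fun g v hv => W.apply_mem_toSubmodule g hv) hne
    have h2 : W'.toSubmodule ≤ S := by
      rintro _ ⟨f, rfl⟩
      rw [hmemS]
      simp only [hT]
      rw [Finset.sum_comm]
      apply Finset.sum_eq_zero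
      intro v _
      rw [← Finset.sum_mul, hcol, zero_mul]
    have h3 : W.toSubmodule ≤ W'.toSubmodule := LinearMap.map_le_range
    have h4 : W.toSubmodule = W'.toSubmodule := by
      by_contra hne'
      obtain ⟨g, v, ⟨f, rfl⟩, hv⟩ := h W W' h1 (lt_of_le_of_ne h3 hne') h2
      apply hv
      rw [← hequiv, ← map_sub]
      refine ⟨_, ?_, rfl⟩
      change _ ∈ S
      rw [hmemS]
      simp only [Pi.sub_apply, Finset.sum_sub_distrib]
      rw [sub_eq_zero]
      apply Fintype.sum_equiv (MulAction.toPerm g⁻¹)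
      intro x
      rfl
    -- kernel
    have h5 : ¬ LinearMap.ker T ≤ S := by
      intro hle
      have h6 : T (Pi.single x 1) ∈ W.toSubmodule := by rw [h4]; exact ⟨_, rfl⟩
      obtain ⟨s, hs, hs2⟩ := h6
      have h7 : (Pi.single x 1 : Ω → K) - s ∈ LinearMap.ker T := by
        rw [LinearMap.mem_ker, map_sub, hs2, sub_self]
      have h8 := hle h7
      rw [hmemS] at h8
      have h9 : ∑ x, s x = 0 := hs
      simp only [Pi.sub_apply, Finset.sum_sub_distrib, h9, sub_zero] at h8
      simp at h8
    have h6 := H9.PermMod.eq_top_of_not_le (f := f) hcard (LinearMap.ker T) (by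
      intro g v hv
      rw [LinearMap.mem_ker] at hv ⊢
      rw [hequiv, hv, map_zero]) h5
    apply hne
    rw [Submodule.eq_bot_iff]
    rintro _ ⟨s, hs, rfl⟩
    have : s ∈ LinearMap.ker T := by rw [h6]; trivial
    exact this
  have h1 : T (Pi.single y 1 - Pi.single z 1) ∈ W.toSubmodule := by
    refine ⟨_, ?_, rfl⟩
    change _ ∈ S
    rw [hmemS]
    simp
  rw [hWbot, Submodule.mem_bot] at h1
  have h2 := congrFun h1 x
  rw [hT] at h2
  simp only [Pi.sub_apply, mul_sub, Finset.sum_sub_distrib, Pi.single_apply, mul_ite, mul_one, mul_zero,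
    Finset.sum_ite_eq', Finset.mem_univ, if_true, Pi.zero_apply] at h2
  exact sub_eq_zero.1 h2

/-- If the heart of the permutation module in characteristic `p` of a transitive action of degree `p ^ f` has no trivial composition factor, the action is doubly transitive. The hypothesis is phrased without composition series: no invariant subspaces `W < W'` between the constants and the sum-zero functions with trivial action on the quotient. -/
theorem result {G : Type*} [Group G] [Finite G] {K : Type*} [Field K] {p f : ℕ} [Fact p.Prime] [CharP K p] {Ω : Type*} [Fintype Ω] [MulAction G Ω] [MulAction.IsPretransitive G Ω] (hf : 1 ≤ f) (hcard : Fintype.card Ω = p ^ f) (h : ∀ W W' : Subrepresentation (Cfsg.permRep K G Ω), (Cfsg.permConstants K G Ω).toSubmodule ≤ W.toSubmodule → W.toSubmodule < W'.toSubmodule → W'.toSubmodule ≤ (Cfsg.permSumZero K G Ω).toSubmodule → ∃ g : G, ∃ v ∈ W'.toSubmodule, Cfsg.permRep K G Ω g v - v ∉ W.toSubmodule) : MulAction.IsMultiplyPretransitive G Ω 2 := by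
  classical
  rw [MulAction.is_two_pretransitive_iff]
  have key2 : ∀ a b c : Ω, a ≠ b → a ≠ c → ∃ g : G, g • a = a ∧ g • b = c := by
    intro a b c hab hac
    let D : Ω → Ω → Prop := fun u v => ∃ g : G, g • a = u ∧ g • b = v
    have hD : ∀ (g : G) u v, D (g • u) (g • v) ↔ D u v := by
      intro g u v
      constructor
      · rintro ⟨k, hk1, hk2⟩
        exact ⟨g⁻¹ * k, by rw [mul_smul, hk1, inv_smul_smul], by rw [mul_smul, hk2, inv_smul_smul]⟩
      · rintro ⟨k, hk1, hk2⟩
        exact ⟨g * k, by rw [mul_smul, hk1], by rw [mul_smul, hk2]⟩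
    have hdiag : ∀ u, ¬ D u u := by
      rintro u ⟨g, hg1, hg2⟩
      exact hab (MulAction.injective g (hg1.trans hg2.symm))
    -- natural-number row/column sums
    let m : Ω → Ω → ℕ := fun u v => if D u v then 1 else 0
    have hm : ∀ (g : G) u v, m (g • u) (g • v) = m u v := by
      intro g u v; simp only [m, hD]
    have hrowc : ∀ u, ∑ v, m u v = ∑ v, m a v := by
      intro u
      obtain ⟨g, rfl⟩ := MulAction.exists_smul_eq G a u
      symm
      apply Fintype.sum_equiv (MulAction.toPerm g)
      intro v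
      rw [MulAction.toPerm_apply, hm]
    have hcolc : ∀ v, ∑ u, m u v = ∑ u, m u a := by
      intro v
      obtain ⟨g, rfl⟩ := MulAction.exists_smul_eq G a v
      symm
      apply Fintype.sum_equiv (MulAction.toPerm g)
      intro u
      rw [MulAction.toPerm_apply, hm]
    have heq : ∑ v, m a v = ∑ u, m u a := by
      have h1 : ∑ u, ∑ v, m u v = ∑ v, ∑ u, m u v := Finset.sum_comm
      simp only [hrowc, hcolc, Finset.sum_const, smul_eq_mul] at h1
      haveI : Nonempty Ω := ⟨a⟩
      exact Nat.eq_of_mul_eq_mul_left (by rw [Finset.card_univ]; exact Fintype.card_pos) h1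
    let N : Ω → Ω → K := fun u v => (m u v : K) - if u = v then ((∑ v, m a v : ℕ) : K) else 0
    have := key (f := f) hcard h N (by
      intro g u v
      simp only [N, hm, smul_left_cancel_iff]) (by
      intro u
      simp only [N, Finset.sum_sub_distrib]
      rw [← Nat.cast_sum, hrowc]
      simp) (by
      intro v
      simp only [N, Finset.sum_sub_distrib]
      rw [← Nat.cast_sum, hcolc, ← heq]
      simp) a b c
    simp only [N, hab, hac, if_false, sub_zero] at this
    have h1 : m a b = 1 := by
      simp only [m]; rw [if_pos]; exact ⟨1, by simp, by simp⟩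
    rw [h1] at this
    by_contra hcon
    have h2 : m a c = 0 := by
      simp only [m]; rw [if_neg]; exact hcon
    rw [h2] at this
    simp at this
  intro a b c d hab hcd
  obtain ⟨g, hg⟩ := MulAction.exists_smul_eq G a c
  obtain ⟨k, hk1, hk2⟩ := key2 c (g • b) d (by rw [← hg]; exact fun h => hab (MulAction.injective g h)) hcd
  exact ⟨k * g, by rw [mul_smul, hg, hk1], by rw [mul_smul, hk2]⟩

end Cfsg.Agent.S0671
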