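import Mathlib
import Cfsg.Prelude.Def_Perm
import Cfsg.Agent.S0671
import Cfsg.Agent.H9_PrimeDeg

set_option autoImplicit false

namespace Cfsg.Agent.H9.Burnside

theorem aff_of_le_three {α : Type*} [Fintype α] {p : ℕ} [hp : Fact p.Prime] (hα : Fintype.card α = p)
    {G : Type*} [Group G] [Finite G] [MulAction G α] [FaithfulSMul G α] [MulAction.IsPretransitive G α]
    (hp3 : p ≤ 3) : PrimeDeg.Aff p G α := by
  have h2 := hp.out.two_le
  have key : ∀ p : ℕ, (p = 2 ∨ p = 3) → Fintype.card α = p → PrimeDeg.Aff p G α := by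
    rintro p (rfl | rfl) hα
    · let e : α ≃ ZMod 2 := Fintype.equivOfCardEq (by rw [hα]; rfl)
      refine ⟨e.symm, fun g => ?_⟩
      have h : ∀ s : Equiv.Perm (ZMod 2), ∃ a b : ZMod 2, ∀ x, s x = a * x + b := by decide
      obtain ⟨a, b, hab⟩ := h ((e.symm.trans (MulAction.toPerm g)).trans e)
      exact ⟨a, b, fun x => by rw [← hab]; simp⟩
    · let e : α ≃ ZMod 3 := Fintype.equivOfCardEq (by rw [hα]; rfl)
      refine ⟨e.symm, fun g => ?_⟩
      have h : ∀ s : Equiv.Perm (ZMod 3), ∃ a b : ZMod 3, ∀ x, s x = a * x + b := by decide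
      obtain ⟨a, b, hab⟩ := h ((e.symm.trans (MulAction.toPerm g)).trans e)
      exact ⟨a, b, fun x => by rw [← hab]; simp⟩
  exact key p (by omega) hα

theorem burnside {α : Type*} [Fintype α] {p : ℕ} [hp : Fact p.Prime] (hα : Fintype.card α = p)
    {G : Type*} [Group G] [Finite G] [MulAction G α] [FaithfulSMul G α] [MulAction.IsPretransitive G α]
    (hG : ¬ PrimeDeg.Aff p G α) : MulAction.IsMultiplyPretransitive G α 2 := by
  classical
  have hp3 : 3 < p := by
    by_contra h
    exact hG (aff_of_le_three (p := p) hα (by omega))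
  haveI : Nonempty α := Fintype.card_pos_iff.1 (by rw [hα]; exact hp.out.pos)
  apply S0671.result (K := ZMod p) (p := p) (f := 1) le_rfl (by rw [hα, pow_one])
  intro W W' h1 h2 h3
  have hW := PrimeDeg.irreducible (p := p) hα hG W.toSubmodule (fun g v hv => W.apply_mem_toSubmodule g hv) h1 (h2.le.trans h3)
  have hW' := PrimeDeg.irreducible (p := p) hα hG W'.toSubmodule (fun g v hv => W'.apply_mem_toSubmodule g hv) (h1.trans h2.le) h3
  rcases hW' with hW' | hW'
  · exact absurd (lt_of_lt_of_eq h2 hW') (not_lt_of_ge h1)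
  rcases hW with hW | hW
  swap
  · rw [hW] at h2; exact absurd h2 (not_lt_of_ge h3)
  by_contra hcon
  push Not at hcon
  have hc := PrimeDeg.finrank_constants (α := α) (K := ZMod p) (G := G)
  have hs := PrimeDeg.finrank_sumZero (α := α) (K := ZMod p) (G := G)
  obtain ⟨v, hv, hvW⟩ := SetLike.exists_of_lt h2
  have := PrimeDeg.irreducible (p := p) hα hG (W.toSubmodule ⊔ Submodule.span (ZMod p) {v}) (by
    intro g w hw
    obtain ⟨w1, hw1, w2, hw2, rfl⟩ := Submodule.mem_sup.1 hw
    rw [map_add]
    apply Submodule.add_mem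
    · exact Submodule.mem_sup_left (W.apply_mem_toSubmodule g hw1)
    · obtain ⟨c, rfl⟩ := Submodule.mem_span_singleton.1 hw2
      rw [map_smul]
      apply Submodule.smul_mem
      have : Cfsg.permRep (ZMod p) G α g v = (Cfsg.permRep (ZMod p) G α g v - v) + v := by abel
      rw [this]
      exact Submodule.add_mem _ (Submodule.mem_sup_left (hcon g v hv)) (Submodule.mem_sup_right (Submodule.mem_span_singleton_self v)))
    (h1.trans le_sup_left) (sup_le (h2.le.trans h3) (by
      rw [Submodule.span_le, Set.singleton_subset_iff]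
      exact h3 hv))
  rcases this with h | h
  · apply hvW
    rw [hW, ← h]
    exact Submodule.mem_sup_right (Submodule.mem_span_singleton_self v)
  · have h4 := Submodule.finrank_add_le_finrank_add_finrank W.toSubmodule (Submodule.span (ZMod p) {v})
    rw [h, hs, hα, hW, hc] at h4
    have h5 := finrank_span_le_card (R := ZMod p) ({v} : Set (α → ZMod p))
    simp at h5
    omega

theorem coord_add {α : Type*} {p : ℕ} [NeZero p] {G : Type*} [Group G] [MulAction G α] {σ : G} {e : ZMod p ≃ α}
    (he : ∀ j, e (j + 1) = σ • (e j)) (n : ℕ) (j : ZMod p) : e (j + n) = σ ^ n • e j := by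
  induction n with
  | zero => simp
  | succ n ih => rw [pow_succ', mul_smul, ← ih, ← he]; push_cast; ring_nf

theorem not_sq_dvd {α : Type*} [Fintype α] {p : ℕ} [hp : Fact p.Prime] (hα : Fintype.card α = p)
    {G : Type*} [Group G] [Finite G] [MulAction G α] [FaithfulSMul G α] : ¬ p ^ 2 ∣ Nat.card G := by
  classical
  intro h
  have h1 : Nat.card G ∣ p.factorial := by
    have := Subgroup.card_dvd_of_injective (MulAction.toPermHom G α) MulAction.toPerm_injective
    rw [Nat.card_eq_fintype_card (α := Equiv.Perm α), Fintype.card_perm, hα] at this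
    exact this
  have h2 : p ^ 2 ∣ p.factorial := h.trans h1
  obtain ⟨m, hm⟩ : ∃ m, p = m + 1 := ⟨p - 1, by have := hp.out.pos; omega⟩
  have h3 : p.factorial = p * (p - 1).factorial := by
    rw [hm]; simp [Nat.factorial_succ]
  rw [h3, pow_two] at h2
  have h4 := Nat.dvd_of_mul_dvd_mul_left hp.out.pos h2
  have h5 := (hp.out.dvd_factorial).1 h4
  have := hp.out.pos
  omega

theorem sylow_card {α : Type*} [Fintype α] {p : ℕ} [hp : Fact p.Prime] (hα : Fintype.card α = p)
    {G : Type*} [Group G] [Finite G] [MulAction G α] [FaithfulSMul G α] [MulAction.IsPretransitive G α]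
    (P : Sylow p G) : Nat.card (P : Subgroup G) = p := by
  have hne : Nonempty α := Fintype.card_pos_iff.1 (by rw [hα]; exact hp.out.pos)
  obtain ⟨a0⟩ := hne
  have hdvd : p ∣ Nat.card G := by
    have := MulAction.index_stabilizer_of_transitive G a0
    rw [← hα, ← Nat.card_eq_fintype_card, ← this]
    exact Subgroup.index_dvd_card _
  have h1 := P.card_eq_multiplicity
  have h2 : (Nat.card G).factorization p = 1 := by
    apply le_antisymm
    · by_contra hlt
      push Not at hlt
      apply not_sq_dvd (p := p) hα (G := G)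
      exact (hp.out.pow_dvd_iff_le_factorization Nat.card_pos.ne').2 hlt
    · exact (hp.out.dvd_iff_one_le_factorization Nat.card_pos.ne').1 hdvd
  rw [h1, h2, pow_one]

/-- coordinates adapted to a Sylow subgroup and an involution normalising it -/
theorem exists_coord_inv {α : Type*} [Fintype α] {p : ℕ} [hp : Fact p.Prime] (hα : Fintype.card α = p) (hp2 : p ≠ 2)
    {G : Type*} [Group G] [Finite G] [MulAction G α] [FaithfulSMul G α] [MulAction.IsPretransitive G α]
    (P : Sylow p G) (heven : Even (Nat.card (Subgroup.normalizer ((P : Subgroup G) : Set G)))) :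
    ∃ (σ t : G) (e : ZMod p ≃ α), (∀ j, e (j + 1) = σ • (e j)) ∧ (∀ j, e (-j) = t • (e j)) ∧ orderOf σ = p ∧ orderOf t = 2 := by
  classical
  haveI := PermMod.sylow_pretransitive (f := 1) (by rw [hα, pow_one]) P
  obtain ⟨σ, e, hσ, he⟩ := PrimeDeg.exists_coord (p := p) hα (G := (P : Subgroup G))
  have he' : ∀ j, e (j + 1) = (σ : G) • (e j) := he
  haveI : Fact (Nat.Prime 2) := ⟨Nat.prime_two⟩
  obtain ⟨t, ht⟩ := exists_prime_orderOf_dvd_card' (G := Subgroup.normalizer ((P : Subgroup G) : Set G)) 2 heven.two_dvd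
  have ht2 : orderOf (t : G) = 2 := by rw [Subgroup.orderOf_coe]; exact ht
  have hconj : (t : G) * σ * (t : G)⁻¹ ∈ (P : Subgroup G) :=
    (Subgroup.mem_normalizer_iff.1 t.2 σ).1 σ.2
  have htop : Subgroup.zpowers σ = ⊤ := by
    apply Subgroup.eq_top_of_card_eq
    rw [Nat.card_zpowers, hσ, sylow_card (p := p) hα P]
  obtain ⟨k, hk⟩ : ∃ k : ℕ, (σ : G) ^ k = (t : G) * σ * (t : G)⁻¹ := by
    have h1 : (⟨_, hconj⟩ : (P : Subgroup G)) ∈ Subgroup.zpowers σ := by rw [htop]; trivial
    obtain ⟨k, hk⟩ := (mem_powers_iff_mem_zpowers).2 h1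
    exact ⟨k, congrArg Subtype.val hk⟩
  have htk : (t : G) * σ = (σ : G) ^ k * t := by rw [hk]; group
  -- t acts as x ↦ k x + c
  have hstep : ∀ x, e.symm ((t : G) • e (x + 1)) = e.symm ((t : G) • e x) + k := by
    intro x
    rw [Equiv.symm_apply_eq, coord_add he', Equiv.apply_symm_apply, he', ← mul_smul, htk, mul_smul]
  set c := e.symm ((t : G) • e 0) with hc
  have hform : ∀ n : ℕ, e.symm ((t : G) • e n) = k * n + c := by
    intro n
    induction n with
    | zero => simp [hc]
    | succ n ih => push_cast; rw [hstep, ih]; ring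
  have hform' : ∀ x : ZMod p, (t : G) • e x = e (k * x + c) := by
    intro x
    have := hform x.val
    rw [ZMod.natCast_zmod_val, Equiv.symm_apply_eq] at this
    exact this
  have htt : ∀ y : α, (t : G) • (t : G) • y = y := by
    intro y
    rw [← mul_smul, ← pow_two, ← ht2, pow_orderOf_eq_one, one_smul]
  have hk0 : (k : ZMod p) * c + c = 0 := by
    have := htt (e 0)
    rw [hform', hform'] at this
    have := e.injective this
    simpa using this
  have hk1 : (k : ZMod p) * k = 1 := by
    have := htt (e 1)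
    rw [hform', hform'] at this
    have := e.injective this
    rw [mul_one] at this
    linear_combination this - hk0
  have htwo : (2 : ZMod p) ≠ 0 := by
    intro h
    have h2 : ((2 : ℕ) : ZMod p) = 0 := by exact_mod_cast h
    rw [ZMod.natCast_eq_zero_iff] at h2
    exact hp2 ((Nat.prime_dvd_prime_iff_eq hp.out Nat.prime_two).1 h2)
  have hk2 : (k : ZMod p) = -1 := by
    rcases mul_self_eq_one_iff.1 hk1 with h | h
    · exfalso
      rw [h] at hk0
      have hc0 : c = 0 := by
        have : (2 : ZMod p) * c = 0 := by linear_combination hk0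
        exact (mul_eq_zero.1 this).resolve_left htwo
      have : (t : G) = 1 := by
        apply FaithfulSMul.eq_of_smul_eq_smul (α := α)
        intro y
        obtain ⟨x, rfl⟩ := e.surjective y
        rw [hform', h, hc0, one_smul]
        congr 1
        ring
      rw [this, orderOf_one] at ht2
      omega
    · exact h
  refine ⟨σ, t, (Equiv.addRight (c / 2)).trans e, ?_, ?_, by rw [Subgroup.orderOf_coe]; exact hσ, ht2⟩
  · intro j
    simp only [Equiv.trans_apply, Equiv.coe_addRight]
    rw [← he']
    congr 1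
    ring
  · intro j
    simp only [Equiv.trans_apply, Equiv.coe_addRight]
    rw [hform', hk2]
    congr 1
    field_simp
    ring

end Cfsg.Agent.H9.Burnside
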