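import Mathlib
import Cfsg.Agent.H7_Simple
import Cfsg.Agent.H9_Burnside

set_option autoImplicit false

namespace Cfsg.Agent.H9.PrimeNorm

/-- for a transitive group of prime degree `p`: `|N(P)| = p d` with `d ∣ p - 1`, and `|G| = p d n` with `n ≡ 1 mod p`. -/
theorem exists_params {α : Type*} [Fintype α] {p : ℕ} [hp : Fact p.Prime] (hα : Fintype.card α = p)
    {G : Type*} [Group G] [Finite G] [MulAction G α] [FaithfulSMul G α] [MulAction.IsPretransitive G α]
    (P : Sylow p G) : ∃ d n : ℕ, d ∣ p - 1 ∧ n ≡ 1 [MOD p] ∧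
      Nat.card (Subgroup.normalizer ((P : Subgroup G) : Set G)) = p * d ∧ Nat.card G = p * d * n ∧
      n = Nat.card (Sylow p G) := by
  haveI : Nonempty α := Fintype.card_pos_iff.1 (by rw [hα]; exact hp.out.pos)
  have hP := Burnside.sylow_card (p := p) hα P
  have h1 := H7.Simple.card_normalizer_dvd (Ω := α) p P hP (by rw [Nat.card_eq_fintype_card, hα]) (by
    intro g hg
    apply FaithfulSMul.eq_of_smul_eq_smul (α := α)
    have h2 : MulAction.fixedBy α g = Set.univ := by
      apply Set.eq_of_subset_of_ncard_le (Set.subset_univ _)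
      rw [Set.ncard_univ, Nat.card_eq_fintype_card, hα]
      exact hg
    intro x
    have : x ∈ MulAction.fixedBy α g := by rw [h2]; trivial
    rw [one_smul]; exact this)
  rw [Nat.card_eq_fintype_card (α := α), hα] at h1
  change Nat.card (Subgroup.normalizer ((P : Subgroup G) : Set G)) ∣ _ at h1
  have h2 : p ∣ Nat.card (Subgroup.normalizer ((P : Subgroup G) : Set G)) := by
    have := Subgroup.card_dvd_of_le (Subgroup.le_normalizer (H := (P : Subgroup G)))
    rw [hP] at this; exact this
  obtain ⟨d, hd⟩ := h2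
  rw [hd] at h1
  have h3 : d ∣ p - 1 := Nat.dvd_of_mul_dvd_mul_left hp.out.pos h1
  refine ⟨d, Nat.card (Sylow p G), h3, card_sylow_modEq_one p G, hd, ?_, rfl⟩
  rw [← hd, Sylow.card_eq_index_normalizer P]
  exact (Subgroup.card_mul_index _).symm

end Cfsg.Agent.H9.PrimeNorm
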