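import Mathlib
import Cfsg.Agent.H7_Simple
import Cfsg.Agent.H9_PrimeNorm
import Cfsg.Agent.H9_NormalMT

set_option autoImplicit false
open scoped Nat

namespace Cfsg.Agent.H9.PermIndex

theorem alternating_le_of_index {α : Type*} [Fintype α] [DecidableEq α] (h5 : 5 ≤ Nat.card α)
    (K : Subgroup (Equiv.Perm α)) (h : (K.index)! < (Nat.card α)!) : alternatingGroup α ≤ K := by
  classical
  have hK : K.normalCore ≠ ⊥ := by
    intro hbot
    rw [Subgroup.normalCore_eq_ker] at hbot
    have hinj := (MonoidHom.ker_eq_bot_iff _).1 hbot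
    have h1 := Nat.card_le_card_of_injective _ hinj
    rw [Nat.card_perm, Nat.card_perm] at h1
    exact absurd h1 (not_le_of_gt h)
  have := Equiv.Perm.alternatingGroup_le_of_normal h5 ((Subgroup.nontrivial_iff_ne_bot _).2 hK)
  exact this.trans (Subgroup.normalCore_le K)

theorem card_dvd_factorial {G : Type*} [Group G] [Finite G] [IsSimpleGroup G] (H : Subgroup G) (hH : H ≠ ⊤) :
    Nat.card G ∣ (H.index)! := by
  classical
  have h1 : (MulAction.toPermHom G (G ⧸ H)).ker = ⊥ := by
    rw [← Subgroup.normalCore_eq_ker]
    rcases (inferInstance : H.normalCore.Normal).eq_bot_or_eq_top with h | h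
    · exact h
    · exact absurd (top_le_iff.1 (h ▸ Subgroup.normalCore_le H)) hH
  have h2 := Subgroup.card_dvd_of_injective _ ((MonoidHom.ker_eq_bot_iff _).1 h1)
  rw [Nat.card_perm] at h2
  exact h2

theorem descFactorial_dvd {G : Type*} [Group G] [Finite G] {α : Type*} [Fintype α] [MulAction G α] {k : ℕ}
    (h : MulAction.IsMultiplyPretransitive G α k) (hk : k ≤ Fintype.card α) :
    (Fintype.card α).descFactorial k ∣ Nat.card G := by
  classical
  obtain ⟨x⟩ : Nonempty (Fin k ↪ α) := Function.Embedding.nonempty_of_card_le (by rwa [Fintype.card_fin])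
  haveI := h
  have h1 := MulAction.index_stabilizer_of_transitive G x
  have h2 : Nat.card (Fin k ↪ α) = (Fintype.card α).descFactorial k := by
    rw [Nat.card_eq_fintype_card, Fintype.card_embedding_eq, Fintype.card_fin]
  rw [← h2, ← h1]
  exact Subgroup.index_dvd_card _

theorem transitive_of_normal {α : Type*} [Fintype α] {p : ℕ} [hp : Fact p.Prime] (hα : Fintype.card α = p)
    {G : Type*} [Group G] [Finite G] [MulAction G α] [FaithfulSMul G α] [MulAction.IsPretransitive G α]
    (N : Subgroup G) [N.Normal] (hN : N ≠ ⊥) : MulAction.IsPretransitive N α := by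
  have hprim : MulAction.IsPreprimitive G α := MulAction.IsPreprimitive.of_prime_card (by
    rw [Nat.card_eq_fintype_card, hα]; exact hp.out)
  exact NormalMT.transitive_of_primitive hprim N hN

/-- `N(P) = P` forces the group to be `P` -/
theorem card_of_self_normalizing {α : Type*} [Fintype α] {p : ℕ} [hp : Fact p.Prime] (hα : Fintype.card α = p)
    {G : Type*} [Group G] [Finite G] [MulAction G α] [FaithfulSMul G α] [MulAction.IsPretransitive G α]
    (P : Sylow p G) (h : Nat.card (Subgroup.normalizer ((P : Subgroup G) : Set G)) = p) : Nat.card G = p := by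
  classical
  have hP := Burnside.sylow_card (p := p) hα P
  have hN : Subgroup.normalizer ((P : Subgroup G) : Set G) = (P : Subgroup G) :=
    (Subgroup.eq_of_le_of_card_ge Subgroup.le_normalizer (by rw [hP, h])).symm
  haveI : IsCyclic (P : Subgroup G) := isCyclic_of_prime_card hP
  have hle : Subgroup.normalizer ((P : Subgroup G) : Set G) ≤ Subgroup.centralizer ((P : Subgroup G) : Set G) := by
    rw [hN]
    intro x hx
    rw [Subgroup.mem_centralizer_iff]
    intro y hy
    letI := IsCyclic.commGroup (α := (P : Subgroup G))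
    have := mul_comm (⟨y, hy⟩ : (P : Subgroup G)) ⟨x, hx⟩
    exact congrArg Subtype.val this
  have hcompl := MonoidHom.ker_transferSylow_isComplement' P hle
  set K := (MonoidHom.transferSylow P hle).ker with hK
  have hcard := hcompl.card_mul
  by_cases hKb : K = ⊥
  · rw [hKb] at hcard
    rw [Subgroup.card_bot, one_mul] at hcard
    exact hcard.symm.trans hP
  · exfalso
    haveI := transitive_of_normal (p := p) hα K hKb
    have hne : Nonempty α := Fintype.card_pos_iff.1 (by rw [hα]; exact hp.out.pos)
    obtain ⟨a⟩ := hne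
    have h1 : p ∣ Nat.card K := by
      have := MulAction.index_stabilizer_of_transitive K a
      rw [← hα, ← Nat.card_eq_fintype_card, ← this]
      exact Subgroup.index_dvd_card _
    obtain ⟨k, hk⟩ := h1
    apply Burnside.not_sq_dvd (p := p) hα (G := G)
    have hP' : Nat.card ((P : Subgroup G)) = p := hP
    rw [← hcard, hk]
    refine ⟨k, ?_⟩
    have e1 : Nat.card ↥(P : Subgroup G) = p := hP
    calc p * k * Nat.card ↥(P : Subgroup G) = p * k * p := by rw [e1]
      _ = p ^ 2 * k := by ring

end Cfsg.Agent.H9.PermIndex
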