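import Mathlib
import Cfsg.Agent.H9_PermIndex

set_option autoImplicit false

namespace Cfsg.Agent.H9.Small

variable {G : Type*} [Group G] [Finite G]

theorem not_comm [IsSimpleGroup G] (h : ¬ (Nat.card G).Prime) : ¬ IsMulCommutative G := by
  intro hc
  letI : CommGroup G := { (inferInstance : Group G) with mul_comm := hc.is_comm.comm }
  exact h IsSimpleGroup.prime_card

/-- a nonabelian simple group acting on the cosets of a proper subgroup acts by even permutations -/
theorem range_le_alternating [IsSimpleGroup G] (hG : ¬ IsMulCommutative G) {α : Type*} [Fintype α] [DecidableEq α]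
    (φ : G →* Equiv.Perm α) : φ.range ≤ alternatingGroup α := by
  rintro _ ⟨g, rfl⟩
  rw [Equiv.Perm.mem_alternatingGroup]
  let ψ : G →* ℤˣ := Equiv.Perm.sign.comp φ
  have h1 : ψ.ker = ⊤ := by
    rcases (inferInstance : ψ.ker.Normal).eq_bot_or_eq_top with h | h
    · exfalso
      apply hG
      have hinj := (MonoidHom.ker_eq_bot_iff _).1 h
      refine ⟨⟨fun a b => hinj ?_⟩⟩
      rw [map_mul, map_mul, mul_comm]
    · exact h
  have : g ∈ ψ.ker := by rw [h1]; trivial
  exact this

theorem exists_alt [IsSimpleGroup G] (hG : ¬ IsMulCommutative G) (H : Subgroup G) (hH : H ≠ ⊤) :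
    ∃ f : G →* ↥(alternatingGroup (Fin H.index)), Function.Injective f := by
  classical
  haveI : Finite (G ⧸ H) := inferInstance
  have e : (G ⧸ H) ≃ Fin H.index := Finite.equivFin (G ⧸ H)
  let φ : G →* Equiv.Perm (Fin H.index) := (e.permCongrHom.toMonoidHom).comp (MulAction.toPermHom G (G ⧸ H))
  have h1 : (MulAction.toPermHom G (G ⧸ H)).ker = ⊥ := by
    rw [← Subgroup.normalCore_eq_ker]
    rcases (inferInstance : H.normalCore.Normal).eq_bot_or_eq_top with h | h
    · exact h
    · exact absurd (top_le_iff.1 (h ▸ Subgroup.normalCore_le H)) hH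
  have hφ : Function.Injective φ := (e.permCongrHom.injective).comp ((MonoidHom.ker_eq_bot_iff _).1 h1)
  refine ⟨φ.codRestrict (alternatingGroup (Fin H.index)) (fun g => range_le_alternating hG φ ⟨g, rfl⟩), ?_⟩
  intro a b hab
  exact hφ (congrArg Subtype.val hab)

theorem two_mul_card_dvd [IsSimpleGroup G] (hG : ¬ IsMulCommutative G) (H : Subgroup G) (hH : H ≠ ⊤) :
    2 * Nat.card G ∣ (H.index).factorial := by
  classical
  obtain ⟨f, hf⟩ := exists_alt hG H hH
  have h1 := Subgroup.card_dvd_of_injective f hf
  have h2 : H.index ≠ 1 := fun h => hH (Subgroup.index_eq_one.1 h)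
  have h0 : H.index ≠ 0 := Subgroup.index_ne_zero_of_finite
  haveI : Nontrivial (Fin H.index) := Fin.nontrivial_iff_two_le.2 (by omega)
  have h3 := two_mul_nat_card_alternatingGroup (α := Fin H.index)
  rw [Nat.card_perm, Nat.card_fin] at h3
  rw [← h3]
  exact Nat.mul_dvd_mul_left 2 h1

theorem normalizer_ne_top [IsSimpleGroup G] {p : ℕ} [hp : Fact p.Prime] (hG : ¬ IsMulCommutative G)
    (hpG : p ∣ Nat.card G) (P : Sylow p G) : Subgroup.normalizer ((P : Subgroup G) : Set G) ≠ ⊤ := by
  intro h
  have hn : (P : Subgroup G).Normal := Subgroup.normalizer_eq_top_iff.1 h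
  rcases hn.eq_bot_or_eq_top with h1 | h1
  · have h2 := P.card_eq_multiplicity
    rw [h1, Subgroup.card_bot] at h2
    have h3 := (hp.out.dvd_iff_one_le_factorization Nat.card_pos.ne').1 hpG
    have := Nat.one_lt_pow (by omega : (Nat.card G).factorization p ≠ 0) hp.out.one_lt
    omega
  · -- G is a p-group, hence has nontrivial centre
    apply hG
    have hPG : IsPGroup p G := by
      have := P.2
      rw [h1] at this
      exact (this.of_equiv Subgroup.topEquiv)
    haveI : Nontrivial G := inferInstance
    have hc := hPG.center_nontrivial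
    rcases (inferInstance : (Subgroup.center G).Normal).eq_bot_or_eq_top with h2 | h2
    · exact absurd h2 ((Subgroup.nontrivial_iff_ne_bot _).1 hc)
    · exact ⟨⟨fun a b => by
        have : b ∈ Subgroup.center G := by rw [h2]; trivial
        exact (Subgroup.mem_center_iff.1 this a)⟩⟩

/-- basic Sylow facts in a simple group -/
theorem sylow_params [IsSimpleGroup G] {p : ℕ} [hp : Fact p.Prime] (hG : ¬ IsMulCommutative G)
    (hpG : p ∣ Nat.card G) (P : Sylow p G) :
    ∃ n : ℕ, n = Nat.card (Sylow p G) ∧ n % p = 1 ∧ Nat.card (Subgroup.normalizer ((P : Subgroup G) : Set G)) * n = Nat.card G ∧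
      n = (Subgroup.normalizer ((P : Subgroup G) : Set G)).index ∧
      n ≠ 1 ∧ 2 * Nat.card G ∣ n.factorial ∧ n ∣ (P : Subgroup G).index := by
  refine ⟨Nat.card (Sylow p G), rfl, ?_, ?_, Sylow.card_eq_index_normalizer P, ?_, ?_, P.card_dvd_index⟩
  · have h1 := card_sylow_modEq_one p G
    unfold Nat.ModEq at h1
    rw [h1, Nat.mod_eq_of_lt hp.out.one_lt]
  · rw [Sylow.card_eq_index_normalizer P]
    exact Subgroup.card_mul_index _
  · rw [Sylow.card_eq_index_normalizer P]
    intro h
    exact normalizer_ne_top hG hpG P (Subgroup.index_eq_one.1 h)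
  · rw [Sylow.card_eq_index_normalizer P]
    exact two_mul_card_dvd hG _ (normalizer_ne_top hG hpG P)

/-- Burnside: in a nonabelian simple group an abelian Sylow subgroup is not central in its normaliser -/
theorem not_normalizer_le_centralizer [IsSimpleGroup G] {p : ℕ} [hp : Fact p.Prime] (hG : ¬ IsMulCommutative G)
    (hpG : p ∣ Nat.card G) (P : Sylow p G) :
    ¬ Subgroup.normalizer ((P : Subgroup G) : Set G) ≤ Subgroup.centralizer ((P : Subgroup G) : Set G) := by
  intro hle
  have hcompl := MonoidHom.ker_transferSylow_isComplement' P hle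
  rcases (inferInstance : (MonoidHom.transferSylow P hle).ker.Normal).eq_bot_or_eq_top with h1 | h1
  · have h2 := hcompl.sup_eq_top
    rw [h1, bot_sup_eq] at h2
    apply normalizer_ne_top hG hpG P
    rw [h2]
    rw [eq_top_iff]
    intro x _
    rw [Subgroup.mem_normalizer_iff]
    intro h; simp
  · have h2 := MonoidHom.not_dvd_card_ker_transferSylow P hle
    rw [h1] at h2
    apply h2
    rw [Subgroup.card_top]; exact hpG

theorem relIndex_centralizer_dvd {p : ℕ} [hp : Fact p.Prime] (P : Sylow p G) (hP : Nat.card (P : Subgroup G) = p) :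
    (Subgroup.centralizer ((P : Subgroup G) : Set G)).relIndex (Subgroup.normalizer ((P : Subgroup G) : Set G)) ∣ p - 1 := by
  haveI : IsCyclic (P : Subgroup G) := isCyclic_of_prime_card hP
  have key := Subgroup.card_dvd_of_injective _ (QuotientGroup.kerLift_injective (P : Subgroup G).normalizerMonoidHom)
  rw [Subgroup.normalizerMonoidHom_ker, ← Subgroup.index, ← Subgroup.relIndex] at key
  rw [IsCyclic.card_mulAut, hP, Nat.totient_prime hp.out] at key
  exact key

theorem relIndex_centralizer_ne_one [IsSimpleGroup G] {p : ℕ} [hp : Fact p.Prime] (hG : ¬ IsMulCommutative G)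
    (hpG : p ∣ Nat.card G) (P : Sylow p G) :
    (Subgroup.centralizer ((P : Subgroup G) : Set G)).relIndex (Subgroup.normalizer ((P : Subgroup G) : Set G)) ≠ 1 := by
  intro h
  exact not_normalizer_le_centralizer hG hpG P (Subgroup.relIndex_eq_one.1 h)

/-- `|N| = |C| * [N : C]` -/
theorem card_centralizer_mul (P : Subgroup G) :
    Nat.card (Subgroup.centralizer (P : Set G)) *
      (Subgroup.centralizer (P : Set G)).relIndex (Subgroup.normalizer (P : Set G)) =
    Nat.card (Subgroup.normalizer (P : Set G)) := by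
  have hle : Subgroup.centralizer (P : Set G) ≤ Subgroup.normalizer (P : Set G) :=
    Subgroup.centralizer_le_normalizer _
  have h1 := Subgroup.card_mul_index ((Subgroup.centralizer (P : Set G)).subgroupOf (Subgroup.normalizer (P : Set G)))
  rw [Nat.card_congr (Subgroup.subgroupOfEquivOfLe hle).toEquiv] at h1
  exact h1

end Cfsg.Agent.H9.Small
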