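import Mathlib
import Cfsg.Agent.H9_Small

set_option autoImplicit false

namespace Cfsg.Agent.H9.Small

variable {G : Type*} [Group G] [Finite G]

theorem relIndex_centralizer_dvd' {p : ℕ} [hp : Fact p.Prime] (P : Subgroup G) (hP : Nat.card P = p) :
    (Subgroup.centralizer (P : Set G)).relIndex (Subgroup.normalizer (P : Set G)) ∣ p - 1 := by
  haveI : IsCyclic P := isCyclic_of_prime_card hP
  have key := Subgroup.card_dvd_of_injective _ (QuotientGroup.kerLift_injective P.normalizerMonoidHom)
  rw [Subgroup.normalizerMonoidHom_ker, ← Subgroup.index, ← Subgroup.relIndex] at key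
  rw [IsCyclic.card_mulAut, hP, Nat.totient_prime hp.out] at key
  exact key

/-- a subgroup of prime order `p` of a permutation group of degree `≤ p+1` is self-centralising -/
theorem centralizer_le {p : ℕ} [hp : Fact p.Prime] {Ω : Type*} [Finite Ω] [MulAction G Ω] [FaithfulSMul G Ω]
    (P : Subgroup G) (hP : Nat.card P = p) (hΩ : Nat.card Ω ≤ p + 1) :
    Subgroup.centralizer (P : Set G) ≤ P := by
  classical
  have hp1 := hp.out.one_lt
  haveI hcyc : IsCyclic P := isCyclic_of_prime_card hP
  have hPcomm : ∀ x ∈ P, ∀ y ∈ P, x * y = y * x := by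
    intro x hx y hy
    letI := IsCyclic.commGroup (α := P)
    exact congrArg Subtype.val (mul_comm (⟨x, hx⟩ : P) ⟨y, hy⟩)
  obtain ⟨x, hx, hx1⟩ : ∃ x ∈ P, x ≠ 1 := by
    by_contra hcon
    push Not at hcon
    have : P = ⊥ := (Subgroup.eq_bot_iff_forall P).2 hcon
    rw [this, Subgroup.card_bot] at hP
    omega
  obtain ⟨b, hb⟩ : ∃ b : Ω, x • b ≠ b := by
    by_contra hcon
    push Not at hcon
    exact hx1 (FaithfulSMul.eq_of_smul_eq_smul (α := Ω) (fun y => by rw [hcon y, one_smul]))
  have hst : ∀ s ∈ P, s • b = b → s = 1 := by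
    intro s hs hsb
    have h1 : MulAction.stabilizer P b ≠ ⊤ := by
      intro h
      have : (⟨x, hx⟩ : P) ∈ MulAction.stabilizer P b := by rw [h]; trivial
      exact hb this
    haveI : Fact (Nat.card P).Prime := ⟨by rw [hP]; exact hp.out⟩
    rcases Subgroup.eq_bot_or_eq_top_of_prime_card (MulAction.stabilizer P b) with h2 | h2
    · have : (⟨s, hs⟩ : P) ∈ MulAction.stabilizer P b := hsb
      rw [h2, Subgroup.mem_bot] at this
      exact congrArg Subtype.val this
    · exact absurd h2 h1
  let f : P → Ω := fun s => (s : G) • b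
  have hf : Function.Injective f := by
    intro s t hst'
    have h1 : (t : G)⁻¹ * s = 1 := hst _ (P.mul_mem (P.inv_mem t.2) s.2) (by
      rw [mul_smul, inv_smul_eq_iff]; exact hst')
    exact Subtype.ext (inv_mul_eq_one.1 h1).symm
  have hO : (Set.range f).ncard = p := by
    rw [← Set.image_univ, Set.ncard_image_of_injective _ hf, Set.ncard_univ, hP]
  intro c hc
  rw [Subgroup.mem_centralizer_iff] at hc
  -- c b lies in the orbit
  have hcb : c • b ∈ Set.range f := by
    by_contra hcon
    let g : P → Ω := fun s => (s : G) • c • b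
    have hg : Function.Injective g := by
      intro s t hst'
      apply hf
      have h1 : c • ((s : G) • b) = c • ((t : G) • b) := by
        rw [← mul_smul, ← mul_smul, ← hc s s.2, ← hc t t.2, mul_smul, mul_smul]; exact hst'
      exact MulAction.injective c h1
    have hdisj : Disjoint (Set.range f) (Set.range g) := by
      rw [Set.disjoint_left]
      rintro _ ⟨s, rfl⟩ ⟨t, ht⟩
      apply hcon
      refine ⟨t⁻¹ * s, ?_⟩
      change ((t : G)⁻¹ * (s : G)) • b = c • b
      rw [mul_smul, inv_smul_eq_iff]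
      exact ht.symm
    have hO' : (Set.range g).ncard = p := by
      rw [← Set.image_univ, Set.ncard_image_of_injective _ hg, Set.ncard_univ, hP]
    have h1 := Set.ncard_union_eq hdisj (Set.toFinite _) (Set.toFinite _)
    rw [hO, hO'] at h1
    have h2 := Set.ncard_le_ncard (Set.subset_univ (Set.range f ∪ Set.range g)) (Set.toFinite _)
    rw [h1, Set.ncard_univ] at h2
    omega
  obtain ⟨u, hu⟩ := hcb
  have hu' : (u : G) • b = c • b := hu
  set d := (u : G)⁻¹ * c with hd
  have hdc : ∀ s ∈ P, s * d = d * s := by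
    intro s hs
    rw [hd, ← mul_assoc, hPcomm s hs _ (P.inv_mem u.2), mul_assoc, hc s hs, mul_assoc]
  have hdb : d • b = b := by rw [hd, mul_smul, inv_smul_eq_iff, hu']
  have hdO : ∀ y ∈ Set.range f, d • y = y := by
    rintro _ ⟨s, rfl⟩
    change d • (s : G) • b = (s : G) • b
    rw [← mul_smul, ← hdc s s.2, mul_smul, hdb]
  have hd1 : d = 1 := by
    apply FaithfulSMul.eq_of_smul_eq_smul (α := Ω)
    intro y
    rw [one_smul]
    by_cases hy : y ∈ Set.range f
    · exact hdO y hy
    · by_contra hne
      have hdy : d • y ∉ Set.range f := by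
        intro h
        have h1 := hdO _ h
        exact hne (MulAction.injective d h1)
      have h1 : ((Set.range f) ∪ {y, d • y}).ncard = p + 2 := by
        rw [Set.ncard_union_eq _ (Set.toFinite _) (Set.toFinite _), hO, Set.ncard_pair (Ne.symm hne)]
        rw [Set.disjoint_left]
        rintro z hz (rfl | rfl)
        · exact hy hz
        · exact hdy hz
      have h2 := Set.ncard_le_ncard (Set.subset_univ ((Set.range f) ∪ {y, d • y})) (Set.toFinite _)
      rw [h1, Set.ncard_univ] at h2
      omega
  have : c = u := by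
    rw [hd] at hd1
    exact (inv_mul_eq_one.1 hd1).symm
  rw [this]; exact u.2

theorem card_centralizer {p : ℕ} [hp : Fact p.Prime] {Ω : Type*} [Finite Ω] [MulAction G Ω] [FaithfulSMul G Ω]
    (P : Subgroup G) (hP : Nat.card P = p) (hΩ : Nat.card Ω ≤ p + 1) :
    Nat.card (Subgroup.centralizer (P : Set G)) = p := by
  have h1 : Subgroup.centralizer (P : Set G) = P := by
    apply le_antisymm (centralizer_le P hP hΩ)
    haveI hcyc : IsCyclic P := isCyclic_of_prime_card hP
    intro x hx
    rw [Subgroup.mem_centralizer_iff]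
    intro y hy
    letI := IsCyclic.commGroup (α := P)
    exact congrArg Subtype.val (mul_comm (⟨y, hy⟩ : P) ⟨x, hx⟩)
  rw [h1, hP]

theorem card_normalizer_dvd {p : ℕ} [hp : Fact p.Prime] {Ω : Type*} [Finite Ω] [MulAction G Ω] [FaithfulSMul G Ω]
    (P : Subgroup G) (hP : Nat.card P = p) (hΩ : Nat.card Ω ≤ p + 1) :
    Nat.card (Subgroup.normalizer (P : Set G)) ∣ p * (p - 1) := by
  rw [← card_centralizer_mul, card_centralizer P hP hΩ]
  exact Nat.mul_dvd_mul_left p (relIndex_centralizer_dvd' P hP)

/-- in the symmetric group, the normaliser of a subgroup of order `p` induces all automorphisms -/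
theorem relIndex_perm {α : Type*} [Fintype α] [DecidableEq α] {p : ℕ} [hp : Fact p.Prime]
    (hα : Fintype.card α ≤ p + 1) (P : Subgroup (Equiv.Perm α)) (hP : Nat.card P = p) :
    (Subgroup.centralizer (P : Set (Equiv.Perm α))).relIndex (Subgroup.normalizer (P : Set (Equiv.Perm α))) = p - 1 := by
  haveI hcyc : IsCyclic P := isCyclic_of_prime_card hP
  have hp1 := hp.out.one_lt
  have hct : ∀ σ : Equiv.Perm α, orderOf σ = p → σ.cycleType = {p} := by
    intro σ hσ
    obtain ⟨n, hn⟩ := Equiv.Perm.cycleType_prime_order (σ := σ) (by rw [hσ]; exact hp.out)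
    have h1 := Equiv.Perm.sum_cycleType σ
    have h2 := Finset.card_le_univ σ.support
    rw [← h1, hn, hσ, Multiset.sum_replicate, smul_eq_mul] at h2
    have hn0 : n = 0 := by
      by_contra h0
      have : 2 * p ≤ (n + 1) * p := Nat.mul_le_mul_right p (by omega)
      omega
    rw [hn, hn0, hσ]; rfl
  obtain ⟨σ, hσ⟩ := hcyc.exists_generator
  have hoσ : orderOf σ = p := by
    rw [← hP]; exact orderOf_eq_card_of_forall_mem_zpowers hσ
  have hsurj : Function.Surjective P.normalizerMonoidHom := by
    intro f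
    have hof : orderOf (f σ) = p := by rw [MulEquiv.orderOf_eq, hoσ]
    have hconj : IsConj (σ : Equiv.Perm α) (f σ : Equiv.Perm α) := by
      rw [Equiv.Perm.isConj_iff_cycleType_eq, hct _ (by rw [Subgroup.orderOf_coe]; exact hoσ),
        hct _ (by rw [Subgroup.orderOf_coe]; exact hof)]
    obtain ⟨τ, hτ⟩ := isConj_iff.1 hconj
    have hτP : ∀ x ∈ P, τ * x * τ⁻¹ ∈ P ∧ ∀ hx : x ∈ P, τ * x * τ⁻¹ = (f ⟨x, hx⟩ : Equiv.Perm α) := by
      intro x hx
      obtain ⟨k, hk⟩ := hσ ⟨x, hx⟩
      have hk' : (σ : Equiv.Perm α) ^ k = x := congrArg Subtype.val hk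
      have h1 : τ * x * τ⁻¹ = (f ⟨x, hx⟩ : Equiv.Perm α) := by
        have h2 : f ⟨x, hx⟩ = (f σ) ^ k := by rw [← map_zpow]; congr 1; exact hk.symm
        rw [h2, Subgroup.coe_zpow, ← hτ, conj_zpow, hk']
      exact ⟨by rw [h1]; exact (f ⟨x, hx⟩).2, fun _ => h1⟩
    have hmap : P.map (MulAut.conj τ).toMonoidHom = P := by
      apply Subgroup.eq_of_le_of_card_ge
      · rintro _ ⟨x, hx, rfl⟩
        exact (hτP x hx).1
      · rw [Subgroup.card_map_of_injective (MulAut.conj τ).injective]
    have hτN : τ ∈ Subgroup.normalizer (P : Set (Equiv.Perm α)) := by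
      rw [Subgroup.mem_normalizer_iff]
      intro x
      constructor
      · intro hx; exact (hτP x hx).1
      · intro hx
        have hx' : τ * x * τ⁻¹ ∈ P.map (MulAut.conj τ).toMonoidHom := by rw [hmap]; exact hx
        obtain ⟨y, hy, hyx⟩ := hx'
        have : y = x := by
          apply (MulAut.conj τ).injective
          exact hyx
        rwa [← this]
    refine ⟨⟨τ, hτN⟩, ?_⟩
    ext x
    have := (hτP x x.2).2 x.2
    change ((P.normalizerMonoidHom ⟨τ, hτN⟩ x : P) : Equiv.Perm α) _ = _
    rw [show ((P.normalizerMonoidHom ⟨τ, hτN⟩ x : P) : Equiv.Perm α) = τ * x * τ⁻¹ from rfl, this]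
  have h1 := Subgroup.index_ker P.normalizerMonoidHom
  rw [MonoidHom.range_eq_top.2 hsurj, Subgroup.card_top, IsCyclic.card_mulAut, hP, Nat.totient_prime hp.out,
    Subgroup.normalizerMonoidHom_ker] at h1
  exact h1

theorem card_normalizer_perm {α : Type*} [Fintype α] [DecidableEq α] {p : ℕ} [hp : Fact p.Prime]
    (hα : Fintype.card α ≤ p + 1) (P : Subgroup (Equiv.Perm α)) (hP : Nat.card P = p) :
    Nat.card (Subgroup.normalizer (P : Set (Equiv.Perm α))) = p * (p - 1) := by
  rw [← card_centralizer_mul, relIndex_perm hα P hP, card_centralizer (Ω := α) P hP (by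
    rw [Nat.card_eq_fintype_card]; exact hα)]

theorem factorization_factorial {p n : ℕ} [hp : Fact p.Prime] (h1 : p ≤ n) (h2 : n < 2 * p) :
    (n.factorial).factorization p = 1 := by
  rw [Nat.factorization_def _ hp.out, padicValNat_factorial (b := 2)]
  · simp only [Nat.Ico_succ_singleton, Finset.sum_singleton, pow_one]
    exact Nat.div_eq_of_lt_le (by omega) (by omega)
  · apply Nat.log_lt_of_lt_pow (by omega)
    have := hp.out.two_le
    nlinarith

theorem sylow_perm_card {α : Type*} [Fintype α] [DecidableEq α] {p : ℕ} [hp : Fact p.Prime]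
    (h1 : p ≤ Fintype.card α) (h2 : Fintype.card α < 2 * p) (P : Sylow p (Equiv.Perm α)) :
    Nat.card (P : Subgroup (Equiv.Perm α)) = p := by
  have h3 := P.card_eq_multiplicity
  rw [Nat.card_perm, Nat.card_eq_fintype_card (α := α), factorization_factorial h1 h2, pow_one] at h3
  exact h3

end Cfsg.Agent.H9.Small
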