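import Mathlib
import Cfsg.Agent.H9_Small2

set_option autoImplicit false

namespace Cfsg.Agent.H9.Small

theorem normalizer_alt {G : Type*} [Group G] [Finite G] (A : Subgroup G) [A.Normal] {p : ℕ} [Fact p.Prime] (P : Sylow p G)
    (hPA : (P : Subgroup G) ≤ A) (hA : A.index = 2) :
    2 * Nat.card ↥(Subgroup.normalizer ((P : Subgroup G) : Set G) ⊓ A) =
      Nat.card ↥(Subgroup.normalizer ((P : Subgroup G) : Set G)) := by
  have htop : Subgroup.normalizer ((P : Subgroup G) : Set G) ⊔ A = ⊤ := P.normalizer_sup_eq_top' hPA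
  set N := Subgroup.normalizer ((P : Subgroup G) : Set G) with hN
  have h1 : A.relIndex N = 2 := by
    rw [← Subgroup.relIndex_sup_right, htop, Subgroup.relIndex_top_right, hA]
  have h2 : Nat.card (A.subgroupOf N) * A.relIndex N = Nat.card N := Subgroup.card_mul_index _
  rw [h1] at h2
  rw [← h2, mul_comm]
  congr 1
  have e2 : Nat.card (A.subgroupOf N) = Nat.card (A ⊓ N : Subgroup G) := by
    rw [← Subgroup.subgroupOf_map_subtype]
    exact (Subgroup.card_map_of_injective N.subtype_injective).symm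
  rw [e2, inf_comm]

theorem mem_alt_of_odd_pow {α : Type*} [Fintype α] [DecidableEq α] {n : ℕ} (hn : Odd n) {x : Equiv.Perm α}
    (h : x ^ n = 1) : x ∈ alternatingGroup α := by
  rw [Equiv.Perm.mem_alternatingGroup]
  have h2 : (Equiv.Perm.sign x) ^ n = 1 := by rw [← map_pow, h, map_one]
  rcases Int.units_eq_one_or (Equiv.Perm.sign x) with h | h
  · exact h
  · rw [h, hn.neg_one_pow] at h2
    exact absurd h2 (by decide)

variable {G : Type*} [Group G] [Finite G]

/-- if a nonabelian simple group has a proper subgroup of index at most `p + 1` and a Sylow subgroup of odd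
prime order `p`, then `2 |N(P)|` divides `p (p - 1)` -/
theorem two_mul_card_normalizer_dvd [IsSimpleGroup G] (hG : ¬ IsMulCommutative G) {p : ℕ} [hp : Fact p.Prime]
    (hp2 : p ≠ 2) (P : Subgroup G) (hP : Nat.card P = p) (H : Subgroup G) (hH : H ≠ ⊤) (hidx : H.index ≤ p + 1) :
    2 * Nat.card (Subgroup.normalizer (P : Set G)) ∣ p * (p - 1) := by
  classical
  letI : Fintype (G ⧸ H) := Fintype.ofFinite _
  let f := MulAction.toPermHom G (G ⧸ H)
  have hf : Function.Injective f := by
    rw [← MonoidHom.ker_eq_bot_iff, ← Subgroup.normalCore_eq_ker]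
    rcases (inferInstance : H.normalCore.Normal).eq_bot_or_eq_top with h | h
    · exact h
    · exact absurd (top_le_iff.1 (h ▸ Subgroup.normalCore_le H)) hH
  have hcardq : Fintype.card (G ⧸ H) = H.index := by rw [← Nat.card_eq_fintype_card]; rfl
  set P' := P.map f with hP'
  have hP'card : Nat.card P' = p := by rw [hP', Subgroup.card_map_of_injective hf, hP]
  have hple : p ≤ Fintype.card (G ⧸ H) := by
    have h1 := Subgroup.card_subgroup_dvd_card P'
    rw [hP'card, Nat.card_perm, Nat.card_eq_fintype_card] at h1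
    exact (hp.out.dvd_factorial).1 h1
  have hp1 := hp.out.one_lt
  have hlt : Fintype.card (G ⧸ H) < 2 * p := by omega
  -- P' is a Sylow subgroup
  let S : Sylow p (Equiv.Perm (G ⧸ H)) := Sylow.ofCard P' (by
    rw [hP'card, Nat.card_perm, Nat.card_eq_fintype_card, factorization_factorial hple hlt, pow_one])
  have hS : (S : Subgroup (Equiv.Perm (G ⧸ H))) = P' := rfl
  haveI : Nontrivial (G ⧸ H) := Fintype.one_lt_card_iff_nontrivial.1 (by omega)
  have hodd : Odd p := hp.out.odd_of_ne_two hp2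
  have h1 := normalizer_alt (alternatingGroup (G ⧸ H)) S (by
    rw [hS]
    intro x hx
    apply mem_alt_of_odd_pow hodd
    have := pow_card_eq_one' (x := (⟨x, hx⟩ : P'))
    rw [hP'card] at this
    exact congrArg Subtype.val this) alternatingGroup.index_eq_two
  rw [hS, card_normalizer_perm (by omega) P' hP'card] at h1
  rw [← h1]
  apply Nat.mul_dvd_mul_left
  rw [← Subgroup.card_map_of_injective hf]
  apply Subgroup.card_dvd_of_le
  apply le_inf
  · rintro _ ⟨x, hx, rfl⟩
    rw [SetLike.mem_coe, Subgroup.mem_normalizer_iff] at hx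
    rw [Subgroup.mem_normalizer_iff]
    intro y
    constructor
    · rintro ⟨z, hz, rfl⟩
      exact ⟨x * z * x⁻¹, (hx z).1 hz, by simp⟩
    · rintro ⟨z, hz, hzy⟩
      refine ⟨x⁻¹ * z * x, ?_, ?_⟩
      · have h5 : x * (x⁻¹ * z * x) * x⁻¹ ∈ P := by
          have h6 : x * (x⁻¹ * z * x) * x⁻¹ = z := by group
          rw [h6]; exact hz
        exact (hx _).2 h5
      · rw [map_mul, map_mul, hzy, map_inv]; group
  · exact (Subgroup.map_le_range f _).trans (range_le_alternating hG f)

theorem sylow_card {p : ℕ} [hp : Fact p.Prime] (P : Sylow p G) (a m : ℕ) (h : Nat.card G = p ^ a * m) (hm : ¬ p ∣ m) :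
    Nat.card (P : Subgroup G) = p ^ a := by
  have h1 := P.card_eq_multiplicity
  have hm0 : m ≠ 0 := by rintro rfl; exact hm (dvd_zero p)
  rw [h, Nat.factorization_mul (pow_ne_zero _ hp.out.ne_zero) hm0, Finsupp.add_apply, hp.out.factorization_pow,
    Finsupp.single_eq_same, Nat.factorization_eq_zero_of_not_dvd hm, add_zero] at h1
  exact h1

/-- Sylow numerology: `|G| = p^a m`. Returns `n = n_p` and `k = |N(P)| / p^a`. -/
theorem sylow_num [IsSimpleGroup G] (hG : ¬ IsMulCommutative G) {p : ℕ} [hp : Fact p.Prime] (a m : ℕ)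
    (h : Nat.card G = p ^ a * m) (hm : ¬ p ∣ m) (ha : a ≠ 0) (P : Sylow p G) :
    ∃ n k : ℕ, n = Nat.card (Sylow p G) ∧ n ∣ m ∧ n % p = 1 ∧ n ≠ 1 ∧ n * k = m ∧
      Nat.card (P : Subgroup G) = p ^ a ∧
      Nat.card (Subgroup.normalizer ((P : Subgroup G) : Set G)) = p ^ a * k ∧
      n = (Subgroup.normalizer ((P : Subgroup G) : Set G)).index ∧
      Subgroup.normalizer ((P : Subgroup G) : Set G) ≠ ⊤ ∧
      2 * Nat.card G ∣ n.factorial := by
  have hpG : p ∣ Nat.card G := by rw [h]; exact dvd_mul_of_dvd_left (dvd_pow_self p ha) m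
  obtain ⟨n, hn0, hn1, hn2, hn3, hn4, hn5, hn6⟩ := sylow_params hG hpG P
  have hP := sylow_card P a m h hm
  have h1 : (P : Subgroup G).index = m := by
    have h2 := Subgroup.card_mul_index (P : Subgroup G)
    rw [hP, h] at h2
    exact Nat.eq_of_mul_eq_mul_left (pow_pos hp.out.pos a) h2
  rw [h1] at hn6
  obtain ⟨k, hk⟩ := hn6
  have hn0' : 0 < n := by rw [hn0]; exact Nat.card_pos
  refine ⟨n, k, hn0, ⟨k, hk⟩, hn1, hn4, hk.symm, hP, ?_, hn3, normalizer_ne_top hG hpG P, hn5⟩
  apply Nat.eq_of_mul_eq_mul_right hn0'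
  rw [hn2, h, hk]; ring

/-- a subgroup containing two distinct Sylow subgroups -/
theorem two_sylow {p : ℕ} [hp : Fact p.Prime] (a m : ℕ) (h : Nat.card G = p ^ a * m) (hm : ¬ p ∣ m)
    (M : Subgroup G) (P R : Sylow p G) (hPM : (P : Subgroup G) ≤ M) (hRM : (R : Subgroup G) ≤ M) (hne : P ≠ R) :
    ∃ n k : ℕ, n % p = 1 ∧ n ≠ 1 ∧ n = Nat.card (Sylow p M) ∧ Nat.card M = p ^ a * (n * k) ∧ n * k * M.index = m := by
  have hP := sylow_card P a m h hm
  have hd : p ^ a ∣ Nat.card M := by rw [← hP]; exact Subgroup.card_dvd_of_le hPM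
  obtain ⟨m', hm'⟩ := hd
  have h1 : m' * M.index = m := by
    have h2 := Subgroup.card_mul_index M
    rw [hm', h, mul_assoc] at h2
    exact Nat.eq_of_mul_eq_mul_left (pow_pos hp.out.pos a) h2
  have hm'p : ¬ p ∣ m' := fun h3 => hm (by rw [← h1]; exact dvd_mul_of_dvd_left h3 _)
  let S := P.subtype hPM
  have hS := sylow_card S a m' hm' hm'p
  have h2 : (S : Subgroup M).index = m' := by
    have h3 := Subgroup.card_mul_index (S : Subgroup M)
    rw [hS, hm'] at h3
    exact Nat.eq_of_mul_eq_mul_left (pow_pos hp.out.pos a) h3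
  have h3 := S.card_dvd_index
  rw [h2] at h3
  obtain ⟨k, hk⟩ := h3
  refine ⟨Nat.card (Sylow p M), k, ?_, ?_, rfl, ?_, ?_⟩
  · have h4 := card_sylow_modEq_one p M
    unfold Nat.ModEq at h4
    rw [h4, Nat.mod_eq_of_lt hp.out.one_lt]
  · intro h4
    have h5 : P.subtype hPM = R.subtype hRM := (Nat.card_eq_one_iff_unique.1 h4).1.elim _ _
    apply hne
    apply Sylow.ext
    have h6 : (P : Subgroup G).subgroupOf M = (R : Subgroup G).subgroupOf M := congrArg (fun x : Sylow p M => (x : Subgroup M)) h5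
    have h7 := congrArg (Subgroup.map M.subtype) h6
    rw [Subgroup.subgroupOf_map_subtype, Subgroup.subgroupOf_map_subtype, inf_of_le_left hPM, inf_of_le_left hRM] at h7
    exact h7
  · rw [hm', hk]
  · rw [← hk, h1]

/-- in a simple group the normaliser of a proper nontrivial subgroup is proper -/
theorem normalizer_ne_top' [IsSimpleGroup G] (D : Subgroup G) (h1 : D ≠ ⊥) (h2 : D ≠ ⊤) :
    Subgroup.normalizer (D : Set G) ≠ ⊤ := by
  intro h
  have hn : D.Normal := Subgroup.normalizer_eq_top_iff.1 h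
  rcases hn.eq_bot_or_eq_top with h3 | h3
  · exact h1 h3
  · exact h2 h3

theorem le_normalizer_of_comm (P D : Subgroup G) (hD : D ≤ P) (hP : ∀ x ∈ P, ∀ y ∈ P, x * y = y * x) :
    P ≤ Subgroup.normalizer (D : Set G) := by
  intro x hx
  rw [Subgroup.mem_normalizer_iff]
  intro y
  constructor
  · intro hy
    rw [hP x hx y (hD hy), mul_inv_cancel_right]; exact hy
  · intro hy
    have h3 := hP x hx _ (hD hy)
    have h4 : x * y * x⁻¹ = y := by
      have h5 : x * (x * y * x⁻¹) = x * y := by rw [h3]; group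
      exact mul_left_cancel h5
    rw [h4] at hy
    exact hy

end Cfsg.Agent.H9.Small
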