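import Mathlib
import Cfsg.Agent.S0493
import Cfsg.Agent.S0144
import Cfsg.Prelude

/-! Groups with trivial radical: generic lemmas. -/

namespace H7.Rad8

open Cfsg
open scoped commutatorElement

universe u v

theorem char_map_normal {G : Type u} [Group G] (K : Subgroup G) [K.Normal] (C : Subgroup K) [C.Characteristic] :
    (C.map K.subtype).Normal := by
  infer_instance

/-- a normal `p`-group is in the core -/
theorem le_pCore {G : Type u} [Group G] (p : ℕ) (N : Subgroup G) (hN : N.Normal) (hp : IsPGroup p N) : N ≤ pCore p G :=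
  le_sSup ⟨hN, hp⟩

theorem le_pPrimeCore {G : Type u} [Group G] (p : ℕ) (N : Subgroup G) (hN : N.Normal) (hp : (Nat.card N).Coprime p) :
    N ≤ pPrimeCore p G :=
  le_sSup ⟨hN, hp⟩

theorem bot_of_solvable {G : Type u} [Group G] [Finite G] (h2 : pCore 2 G = ⊥) (h2' : pPrimeCore 2 G = ⊥) :
    ∀ (n : ℕ) (K : Subgroup G), K.Normal → Group.IsSolvable K → Nat.card K = n → K = ⊥ := by
  haveI : Fact (Nat.Prime 2) := ⟨Nat.prime_two⟩
  intro n
  induction n using Nat.strong_induction_on with
  | _ n ih =>
    intro K hKn hK hc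
    by_cases hKb : K = ⊥
    · exact hKb
    -- the derived subgroup is trivial
    have hcomm : ⁅K, K⁆ = ⊥ := by
      have hlt : ⁅K, K⁆ < K := by
        have hle : ⁅K, K⁆ ≤ K := Subgroup.commutator_le_right K K
        refine lt_of_le_of_ne hle ?_
        intro h
        have hnt : Nontrivial K := (Subgroup.nontrivial_iff_ne_bot K).2 hKb
        have h1 := Group.IsSolvable.commutator_lt_top_of_nontrivial K
        apply h1.ne
        rw [commutator_def]
        apply Subgroup.map_injective K.subtype_injective
        rw [Subgroup.map_commutator, ← MonoidHom.range_eq_map, Subgroup.range_subtype, h]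
      haveI : Group.IsSolvable (⁅K, K⁆ : Subgroup G) := Group.isSolvable_of_isSolvable_injective
        (f := Subgroup.inclusion hlt.le) (Subgroup.inclusion_injective _)
      have hcard : Nat.card (⁅K, K⁆ : Subgroup G) < n := by
        rw [← hc]
        exact Set.Finite.card_lt_card (Set.toFinite _) hlt
      exact ih _ hcard _ (Subgroup.commutator_normal K K) this rfl
    have hab : ∀ a b : K, a * b = b * a := by
      intro a b
      have h1 : ⁅(a : G), (b : G)⁆ ∈ ⁅K, K⁆ := Subgroup.commutator_mem_commutator a.2 b.2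
      rw [hcomm, Subgroup.mem_bot, commutatorElement_eq_one_iff_mul_comm] at h1
      exact Subtype.ext h1
    obtain ⟨P⟩ : Nonempty (Sylow 2 K) := inferInstance
    have hPn : (P : Subgroup K).Normal := ⟨fun a ha g => by rw [hab g a, mul_inv_cancel_right]; exact ha⟩
    haveI : (P : Subgroup K).Characteristic := P.characteristic_of_normal hPn
    have hPG : ((P : Subgroup K).map K.subtype).Normal := char_map_normal K _
    have hPb : (P : Subgroup K).map K.subtype = ⊥ := by
      rw [eq_bot_iff, ← h2]
      exact le_pCore 2 _ hPG (P.isPGroup'.map _)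
    have hPb' : (P : Subgroup K) = ⊥ := by
      rw [eq_bot_iff]
      intro x hx
      have : K.subtype x ∈ (P : Subgroup K).map K.subtype := ⟨x, hx, rfl⟩
      rw [hPb, Subgroup.mem_bot] at this
      exact Subtype.ext this
    have hodd : ¬ 2 ∣ Nat.card K := by
      intro hd
      have h1 := P.dvd_card_of_dvd_card hd
      rw [hPb', Subgroup.card_bot] at h1
      omega
    rw [eq_bot_iff, ← h2']
    exact le_pPrimeCore 2 _ hKn ((Nat.Prime.coprime_iff_not_dvd Nat.prime_two).2 hodd).symm

theorem exists_factor (n : ℕ) : ∀ (G : Type u) [Group G] [Finite G], ¬ Group.IsSolvable G → Nat.card G = n →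
    ∃ (S : Type u) (_ : Group S) (_ : Finite S), IsSimpleGroup S ∧ ¬ IsCyclic S ∧ Nat.card S ∣ n := by
  induction n using Nat.strong_induction_on with
  | _ n ih =>
    intro G _ _ hG hc
    by_cases hs : IsSimpleGroup G
    · refine ⟨G, _, inferInstance, hs, ?_, by rw [hc]⟩
      intro hcyc
      apply hG
      exact Group.isSolvable_of_comm (fun a b => (IsCyclic.commGroup (α := G)).mul_comm a b)
    · have hnt : Nontrivial G := by
        by_contra h
        rw [not_nontrivial_iff_subsingleton] at h
        exact hG ((inferInstance : Group.IsSolvable G))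
      obtain ⟨N, hN, hN1, hN2⟩ : ∃ N : Subgroup G, N.Normal ∧ N ≠ ⊥ ∧ N ≠ ⊤ := by
        by_contra hcon
        push Not at hcon
        apply hs
        exact ⟨fun N hN => by
          by_cases h : N = ⊥
          · exact Or.inl h
          · exact Or.inr (hcon N hN h)⟩
      have hmul := N.card_eq_card_quotient_mul_card_subgroup
      have hN1' : 1 < Nat.card N := by
        rw [Subgroup.one_lt_card_iff_ne_bot]; exact hN1
      have hpos : 0 < Nat.card (G ⧸ N) := Nat.card_pos
      have hN2' : 1 < Nat.card (G ⧸ N) := by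
        by_contra h
        apply hN2
        rw [← Subgroup.index_eq_one]
        have : N.index = Nat.card (G ⧸ N) := rfl
        omega
      by_cases hNs : Group.IsSolvable N
      · have hQ : ¬ Group.IsSolvable (G ⧸ N) := by
          intro hq
          apply hG
          exact Group.isSolvable_of_ker_le_range N.subtype (QuotientGroup.mk' N) (by simp)
        obtain ⟨S, i1, i2, h1, h2, h3⟩ := ih (Nat.card (G ⧸ N)) (by rw [← hc, hmul]; nlinarith) (G ⧸ N) hQ rfl
        exact ⟨S, i1, i2, h1, h2, h3.trans (by rw [← hc, hmul]; exact dvd_mul_right _ _)⟩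
      · obtain ⟨S, i1, i2, h1, h2, h3⟩ := ih (Nat.card N) (by rw [← hc, hmul]; nlinarith) N hNs rfl
        exact ⟨S, i1, i2, h1, h2, h3.trans (by rw [← hc, hmul]; exact dvd_mul_left _ _)⟩

theorem sixty_dvd {G : Type u} [Group G] [Finite G] (h : ¬ Group.IsSolvable G) (hc : Nat.card G ≤ 100) : 60 ∣ Nat.card G := by
  obtain ⟨S, i1, i2, h1, h2, h3⟩ := exists_factor _ G h rfl
  have h4 := Cfsg.Agent.S0493.result (G := S) h2 ((Nat.le_of_dvd Nat.card_pos h3).trans hc)
  rwa [h4] at h3

theorem sixty_le {G : Type u} [Group G] [Finite G] (h : ¬ Group.IsSolvable G) : 60 ≤ Nat.card G := by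
  by_cases hc : Nat.card G ≤ 100
  · exact Nat.le_of_dvd Nat.card_pos (sixty_dvd h hc)
  · omega

/-- nonsolvable and all proper divisors are orders of solvable groups -/
theorem simple_of {G : Type u} [Group G] [Finite G] (h : ¬ Group.IsSolvable G)
    (hd : ∀ m, m ∣ Nat.card G → m < Nat.card G → m ≤ 100 ∧ ¬ 60 ∣ m) : IsSimpleGroup G := by
  have hnt : Nontrivial G := by
    by_contra h'
    rw [not_nontrivial_iff_subsingleton] at h'
    exact h ((inferInstance : Group.IsSolvable G))
  refine ⟨fun N hN => ?_⟩
  by_contra hcon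
  push Not at hcon
  obtain ⟨hN1, hN2⟩ := hcon
  have hmul := N.card_eq_card_quotient_mul_card_subgroup
  have hN1' : 1 < Nat.card N := by
    rw [Subgroup.one_lt_card_iff_ne_bot]; exact hN1
  have hpos : 0 < Nat.card (G ⧸ N) := Nat.card_pos
  have hN2' : 1 < Nat.card (G ⧸ N) := by
    by_contra h'
    apply hN2
    rw [← Subgroup.index_eq_one]
    have : N.index = Nat.card (G ⧸ N) := rfl
    omega
  have s1 : Group.IsSolvable N := by
    by_contra hns
    obtain ⟨a, b⟩ := hd (Nat.card N) (by rw [hmul]; exact dvd_mul_left _ _) (by rw [hmul]; nlinarith)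
    exact b (sixty_dvd hns a)
  have s2 : Group.IsSolvable (G ⧸ N) := by
    by_contra hns
    obtain ⟨a, b⟩ := hd (Nat.card (G ⧸ N)) (by rw [hmul]; exact dvd_mul_right _ _) (by rw [hmul]; nlinarith)
    exact b (sixty_dvd hns a)
  apply h
  exact Group.isSolvable_of_ker_le_range N.subtype (QuotientGroup.mk' N) (by simp)

/-- a subgroup of a simple group of small index -/
theorem card_dvd_factorial {G : Type u} [Group G] [Finite G] [IsSimpleGroup G] (A : Subgroup G) (hA : A ≠ ⊤) :
    Nat.card G ∣ (A.index).factorial := by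
  classical
  let f := MulAction.toPermHom G (G ⧸ A)
  have hk : f.ker = A.normalCore := (Subgroup.normalCore_eq_ker A).symm
  have hk' : A.normalCore = ⊥ := by
    rcases (inferInstance : A.normalCore.Normal).eq_bot_or_eq_top with h | h
    · exact h
    · exfalso; apply hA
      rw [eq_top_iff, ← h]; exact Subgroup.normalCore_le A
  have hinj : Function.Injective f := by
    rw [← MonoidHom.ker_eq_bot_iff, hk, hk']
  have := Subgroup.card_dvd_of_injective f hinj
  rw [Nat.card_perm] at this
  exact this

end H7.Rad8
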