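import Mathlib
import Cfsg.Agent.H19_FT4
import Cfsg.Agent.H7_Rad8a

/-! Feit–Thompson, self-centralizing subgroups of order three: local analysis, II. -/

set_option autoImplicit false
set_option linter.unusedSectionVars false
open Pointwise
namespace Cfsg.Agent.H19.FT5
open Cfsg.Agent.H19.FT2 Cfsg.Agent.H19.FT3 Cfsg.Agent.H19.FT4 Cfsg.Agent.H1.Basic

universe u

variable {G : Type u} [Group G] [Finite G]

/-- normalizer -/
abbrev NN (K : Subgroup G) : Subgroup G := Subgroup.normalizer (K : Set G)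

theorem mem_NN {K : Subgroup G} {g : G} (h : ∀ k ∈ K, g * k * g⁻¹ ∈ K) : g ∈ NN K := by
  rw [← conj_eq_iff_mem_normalizer]
  refine eq_of_le_of_card_ge' ?_ (by rw [card_conj])
  intro k hk
  rw [mem_conj] at hk
  have := h _ hk
  simpa [mul_assoc] using this

theorem NN_conj {K : Subgroup G} {g k : G} (h : g ∈ NN K) (hk : k ∈ K) : g * k * g⁻¹ ∈ K :=
  (Subgroup.mem_normalizer_iff.1 h k).1 hk

/-- the Sylow subgroup of a (nilpotent) subgroup -/
noncomputable def SQ (M : Subgroup G) (q : ℕ) [Fact q.Prime] : Subgroup G :=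
  ((default : Sylow q M) : Subgroup M).map M.subtype

variable {M : Subgroup G} {q : ℕ} [hq : Fact q.Prime]

theorem SQ_le : SQ M q ≤ M := by
  rintro _ ⟨m, -, rfl⟩
  exact m.2

theorem SQ_card : Nat.card (SQ M q) = q ^ (Nat.card M).factorization q := by
  rw [SQ, Nat.card_congr (Subgroup.equivMapOfInjective _ _ M.subtype_injective).symm.toEquiv]
  exact (default : Sylow q M).card_eq_multiplicity

theorem SQ_pg : IsPGroup q (SQ M q) := IsPGroup.of_card SQ_card

theorem SQ_normal (hM : Group.IsNilpotent M) : ((default : Sylow q M) : Subgroup M).Normal := by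
  have h := ((Group.isNilpotent_of_finite_tfae (G := M)).out 0 3).1 hM
  exact h q hq default

theorem SQ_char (hM : Group.IsNilpotent M) {g : G} (hg : g ∈ NN M) : g ∈ NN (SQ M q) := by
  haveI := SQ_normal (q := q) hM
  have hP : ((default : Sylow q M) : Subgroup M).Characteristic := Sylow.characteristic_of_normal _ this
  apply mem_NN
  rintro _ ⟨p, hp, rfl⟩
  have h := Subgroup.characteristic_iff_le_comap.1 hP (Subgroup.normalizerMonoidHom M ⟨g, hg⟩) hp
  exact ⟨_, h, rfl⟩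

theorem SQ_mem (hM : Group.IsNilpotent M) {m : G} (hm : m ∈ M) (hk : ∃ k, m ^ (q ^ k) = 1) : m ∈ SQ M q := by
  haveI := SQ_normal (q := q) hM
  obtain ⟨k, hk⟩ := hk
  have h1 : IsPGroup q (Subgroup.zpowers (⟨m, hm⟩ : M)) := by
    rintro ⟨z, hz⟩
    refine ⟨k, Subtype.ext ?_⟩
    obtain ⟨i, rfl⟩ := Subgroup.mem_zpowers_iff.1 hz
    have hm1 : (⟨m, hm⟩ : M) ^ (q ^ k) = 1 := Subtype.ext hk
    show ((⟨m, hm⟩ : M) ^ i) ^ q ^ k = 1
    rw [← zpow_natCast, ← zpow_mul, mul_comm, zpow_mul, zpow_natCast, hm1, one_zpow]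
  obtain ⟨P, hP⟩ := h1.exists_le_sylow
  haveI := Sylow.unique_of_normal (default : Sylow q M) this
  have h2 : P = default := Subsingleton.elim _ _
  rw [h2] at hP
  exact ⟨⟨m, hm⟩, hP (Subgroup.mem_zpowers _), rfl⟩

theorem SQ_ne_bot (hd : q ∣ Nat.card M) : SQ M q ≠ ⊥ := by
  intro h
  have h1 := SQ_card (M := M) (q := q)
  rw [h, Subgroup.card_bot] at h1
  have h2 : 1 ≤ (Nat.card M).factorization q := by
    rw [← Nat.Prime.pow_dvd_iff_le_factorization hq.out Nat.card_pos.ne', pow_one]; exact hd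
  have h3 := Nat.one_lt_pow (show (Nat.card M).factorization q ≠ 0 by omega) hq.out.one_lt
  omega

/-- the context of the simple case -/
structure Ctx (x t : G) : Prop where
  sc : SC x
  simple : IsSimpleGroup G
  ns : ¬ Group.IsSolvable G
  tx : t * x * t⁻¹ = x⁻¹
  IH : ∀ H : Subgroup G, H ≠ ⊤ → x ∈ H → Concl H

theorem sc_sub {x : G} (h : SC x) {H : Subgroup G} (hx : x ∈ H) : SC (⟨x, hx⟩ : H) := by
  refine ⟨by rw [Subgroup.orderOf_mk]; exact h.o3, fun g hg => ?_⟩
  have h1 : Commute (g : G) x := congrArg Subtype.val hg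
  obtain ⟨n, hn⟩ := Subgroup.mem_zpowers_iff.1 (h.cen _ h1)
  exact Subgroup.mem_zpowers_iff.2 ⟨n, Subtype.ext hn⟩

variable {x t : G}

theorem mem_NN_of_MM {M : Subgroup G} (hM : M ∈ MM x) : x ∈ NN M := mem_NN hM.prop.inv

theorem Ctx.local (C : Ctx x t) (hM : M ∈ MM x) (hd : q ∣ Nat.card M) :
    NN (SQ M q) = NN M ∧ (Nat.card (NN M) = 3 * Nat.card M ∨ Nat.card (NN M) = 6 * Nat.card M) := by
  have hnil := C.sc.nilp C.sc.o3 hM.prop
  haveI := C.simple
  obtain ⟨H, hH⟩ : ∃ H, H = NN (SQ M q) := ⟨_, rfl⟩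
  have hle : NN M ≤ H := by
    intro g hg; rw [hH]; exact SQ_char hnil hg
  have hMH : M ≤ H := Subgroup.le_normalizer.trans hle
  have hxM : x ∉ M := fun h => hM.prop.c3 (by rw [← C.sc.o3]; exact Subgroup.orderOf_dvd_natCard M h)
  have hxH : x ∈ H := hle (mem_NN_of_MM hM)
  have hHt : H ≠ ⊤ := by
    intro h
    rw [hH] at h
    have hn := Subgroup.normalizer_eq_top_iff.1 h
    rcases hn.eq_bot_or_eq_top with h5 | h5
    · exact SQ_ne_bot hd h5
    · apply hxM
      apply SQ_le (q := q)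
      rw [h5]; trivial
  have hmax : Maximal (PP (⟨x, hxH⟩ : H)) (M.subgroupOf H) := by
    constructor
    · refine ⟨fun k hk => ?_, ?_⟩
      · rw [Subgroup.mem_subgroupOf] at hk ⊢
        exact hM.prop.inv _ hk
      · rw [card_subgroupOf hMH]; exact hM.prop.c3
    · intro K hK hMK
      have h1 : PP x (K.map H.subtype) := by
        refine ⟨?_, ?_⟩
        · rintro _ ⟨k, hk, rfl⟩
          exact ⟨_, hK.inv k hk, rfl⟩
        · rw [Nat.card_congr (Subgroup.equivMapOfInjective _ _ H.subtype_injective).symm.toEquiv]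
          exact hK.c3
      have h2 : M ≤ K.map H.subtype := by
        intro m hm
        exact ⟨⟨m, hMH hm⟩, hMK (Subgroup.mem_subgroupOf.2 hm), rfl⟩
      have h3 := hM.le_of_ge h1 h2
      intro k hk
      rw [Subgroup.mem_subgroupOf]
      exact h3 ⟨k, hk, rfl⟩
  have hSH : SQ M q ≤ H := SQ_le.trans hMH
  haveI : ((SQ M q).subgroupOf H).Normal := by
    rw [hH]; infer_instance
  obtain ⟨l1, l2⟩ := loc (G := H) (x := ⟨x, hxH⟩) (sc_sub C.sc hxH) (C.IH H hHt hxH) hmax (Q := (SQ M q).subgroupOf H) (q := q)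
    (fun k hk => Subgroup.mem_subgroupOf.2 (SQ_le (Subgroup.mem_subgroupOf.1 hk)))
    (fun h => SQ_ne_bot hd (by
      rw [Subgroup.subgroupOf_eq_bot] at h
      rw [eq_bot_iff]
      intro k hk
      exact h.le_bot ⟨hk, hSH hk⟩))
    (IsPGroup.of_card (by rw [card_subgroupOf hSH]; exact SQ_card))
    (by rw [card_subgroupOf hSH, card_subgroupOf hMH]; exact SQ_card)
  rw [card_subgroupOf hMH] at l2
  have hHN : H = NN M := le_antisymm (by
    intro g hg
    apply mem_NN
    intro m hm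
    have := l1.conj_mem ⟨m, hMH hm⟩ (Subgroup.mem_subgroupOf.2 hm) ⟨g, hg⟩
    exact Subgroup.mem_subgroupOf.1 this) hle
  rw [← hH, hHN]
  refine ⟨rfl, ?_⟩
  rw [hHN] at l2
  exact l2

theorem prime_ne_three (hM : M ∈ MM x) (hd : q ∣ Nat.card M) : q ≠ 3 := by
  rintro rfl; exact hM.prop.c3 hd

theorem exists_prime (hM1 : M ≠ ⊥) : ∃ q, q.Prime ∧ q ∣ Nat.card M := by
  apply Nat.exists_prime_and_dvd
  intro h
  exact hM1 (Subgroup.card_eq_one.1 h)

theorem Ctx.card_NN (C : Ctx x t) (hM : M ∈ MM x) (hM1 : M ≠ ⊥) :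
    Nat.card (NN M) = 3 * Nat.card M ∨ Nat.card (NN M) = 6 * Nat.card M := by
  obtain ⟨q, hq, hd⟩ := exists_prime hM1
  haveI : Fact q.Prime := ⟨hq⟩
  exact (C.local hM hd).2

/-- being a Sylow subgroup -/
theorem sylow_of {Q : Subgroup G} {n : ℕ} (hQ : Nat.card Q = q ^ n) (h : ¬ q ^ (n + 1) ∣ Nat.card (NN Q)) :
    (Nat.card G).factorization q = n := by
  have hG0 : Nat.card G ≠ 0 := Nat.card_pos.ne'
  have h1 : n ≤ (Nat.card G).factorization q := by
    rw [← Nat.Prime.pow_dvd_iff_le_factorization hq.out hG0, ← hQ]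
    exact Subgroup.card_subgroup_dvd_card Q
  by_contra hne
  have h2 : q ^ (n + 1) ∣ Nat.card G := by
    rw [Nat.Prime.pow_dvd_iff_le_factorization hq.out hG0]; omega
  have h3 := Sylow.prime_dvd_card_quotient_normalizer h2 hQ
  apply h
  have h4 := Subgroup.card_eq_card_quotient_mul_card_subgroup (Q.subgroupOf (NN Q))
  rw [card_subgroupOf Subgroup.le_normalizer, hQ] at h4
  have h5 : q ∣ Nat.card ((NN Q) ⧸ Q.subgroupOf (NN Q)) := h3
  rw [h4, pow_succ, mul_comm]
  exact Nat.mul_dvd_mul h5 (dvd_refl _)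

theorem not_pow_dvd {n m c : ℕ} (hn : n ≠ 0) (hm : m = c * n) (hc : ¬ q ∣ c) : ¬ q ^ (n.factorization q + 1) ∣ m := by
  intro h
  have hc0 : c ≠ 0 := by rintro rfl; exact hc (dvd_zero q)
  have hm0 : m ≠ 0 := by rw [hm]; exact Nat.mul_ne_zero hc0 hn
  rw [Nat.Prime.pow_dvd_iff_le_factorization hq.out hm0, hm, Nat.factorization_mul hc0 hn] at h
  have : c.factorization q = 0 := Nat.factorization_eq_zero_of_not_dvd hc
  rw [Finsupp.add_apply, this] at h
  omega

theorem Ctx.full (C : Ctx x t) (hM : M ∈ MM x) (hd : q ∣ Nat.card M) (h : q ≠ 2 ∨ Nat.card (NN M) = 3 * Nat.card M) :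
    (Nat.card G).factorization q = (Nat.card M).factorization q := by
  obtain ⟨h1, h2⟩ := C.local hM hd
  have h3 := prime_ne_three hM hd
  apply sylow_of SQ_card
  rw [h1]
  have q3 : ¬ q ∣ 3 := fun h' => h3 ((Nat.prime_dvd_prime_iff_eq hq.out Nat.prime_three).1 h')
  rcases h2 with h2 | h2
  · exact not_pow_dvd Nat.card_pos.ne' h2 q3
  · rcases h with h | h
    · refine not_pow_dvd Nat.card_pos.ne' h2 ?_
      intro h'
      rcases (Nat.Prime.dvd_mul hq.out).1 (show q ∣ 2 * 3 from h') with h5 | h5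
      · exact h ((Nat.prime_dvd_prime_iff_eq hq.out Nat.prime_two).1 h5)
      · exact q3 h5
    · exact not_pow_dvd Nat.card_pos.ne' h q3

/-- elements normalizing `⟨x⟩` -/
theorem Ctx.nx (C : Ctx x t) {g : G} (h : g * x * g⁻¹ = x ∨ g * x * g⁻¹ = x⁻¹) :
    g ∈ Subgroup.zpowers x ∨ t⁻¹ * g ∈ Subgroup.zpowers x := by
  rcases h with h | h
  · left; exact C.sc.cen g (mul_inv_eq_iff_eq_mul.1 h)
  · right
    apply C.sc.cen
    have h1 : t⁻¹ * g * x * (t⁻¹ * g)⁻¹ = x := by
      have e : t⁻¹ * g * x * (t⁻¹ * g)⁻¹ = t⁻¹ * (g * x * g⁻¹) * t := by group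
      rw [e, h, ← C.tx]; group
    exact mul_inv_eq_iff_eq_mul.1 h1

theorem zp_le_NN (hM : M ∈ MM x) {g : G} (hg : g ∈ Subgroup.zpowers x) : g ∈ NN M := by
  have : Subgroup.zpowers x ≤ NN M := by rw [Subgroup.zpowers_le]; exact mem_NN_of_MM hM
  exact this hg

/-- conjugates of `M` normalized by `x` -/
theorem Ctx.fix (C : Ctx x t) (hM : M ∈ MM x) {g : G} (hg : g⁻¹ * x * g ∈ NN M) :
    g ∈ NN M ∨ t⁻¹ * g ∈ NN M := by
  have hx := mem_NN_of_MM hM
  have hsc := sc_sub C.sc hx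
  have ho : orderOf (⟨g⁻¹ * x * g, hg⟩ : NN M) = 3 := by
    rw [Subgroup.orderOf_mk]
    have := o3_conj C.sc.o3 g⁻¹
    rwa [inv_inv] at this
  obtain ⟨⟨n, hn⟩, hn'⟩ := hsc.conj_or ho
  have h1 : (g * n) * x * (g * n)⁻¹ = x ∨ (g * n) * x * (g * n)⁻¹ = x⁻¹ := by
    have e : (g * n) * x * (g * n)⁻¹ = g * (n * x * n⁻¹) * g⁻¹ := by group
    rcases hn' with h | h
    · left
      have h' : n * x * n⁻¹ = g⁻¹ * x * g := congrArg Subtype.val h
      rw [e, h']; group
    · right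
      have h' : n * x * n⁻¹ = (g⁻¹ * x * g)⁻¹ := congrArg Subtype.val h
      rw [e, h']; group
  rcases C.nx h1 with h2 | h2
  · left
    have := (NN M).mul_mem (zp_le_NN hM h2) ((NN M).inv_mem hn)
    rwa [mul_inv_cancel_right] at this
  · right
    have := (NN M).mul_mem (zp_le_NN hM h2) ((NN M).inv_mem hn)
    have e : t⁻¹ * (g * n) * n⁻¹ = t⁻¹ * g := by group
    rwa [e] at this

theorem NN_smul (g : G) (K : Subgroup G) : NN (MulAut.conj g • K) = MulAut.conj g • NN K := by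
  ext a
  rw [mem_conj, ← conj_eq_iff_mem_normalizer, ← conj_eq_iff_mem_normalizer, conj_conj]
  constructor
  · intro h
    have := congrArg (fun L => MulAut.conj g⁻¹ • L) h
    simp only [conj_conj] at this
    rw [inv_mul_cancel, conj_one, ← mul_assoc] at this
    exact this
  · intro h
    have := congrArg (fun L => MulAut.conj g • L) h
    simp only [conj_conj] at this
    have e : g * (g⁻¹ * a * g) = a * g := by group
    rw [e] at this
    exact this

/-- a maximal element absorbs `3'`-subgroups normalized by its normalizer -/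
theorem absorb {M L : Subgroup G} (hM : M ∈ MM x) (hL : ¬ 3 ∣ Nat.card L) (hMN : NN M ≤ NN L) : L ≤ M := by
  have hx := mem_NN_of_MM hM
  have hML : M ≤ NN L := Subgroup.le_normalizer.trans hMN
  have hP : PP x (M ⊔ L) := by
    constructor
    · intro k hk
      rw [sup_comm, mem_sup_iff_of_le_normalizer (N := L) (H := M) hML] at hk
      obtain ⟨n, hn, k', hk', rfl⟩ := hk
      have e : x * (n * k') * x⁻¹ = (x * n * x⁻¹) * (x * k' * x⁻¹) := by group
      rw [e, sup_comm]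
      exact Subgroup.mul_mem_sup (NN_conj (hMN hx) hn) (hM.prop.inv k' hk')
    · intro hd
      have h1 := card_sup_mul_card_inf (H := M) (K := L) hML
      have h2 : 3 ∣ Nat.card M * Nat.card L := by rw [← h1]; exact hd.mul_right _
      rcases (Nat.Prime.dvd_mul Nat.prime_three).1 h2 with h | h
      · exact hM.prop.c3 h
      · exact hL h
  have := hM.le_of_ge hP le_sup_left
  exact le_sup_right.trans this

end Cfsg.Agent.H19.FT5
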