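import Mathlib
import Cfsg.Agent.H19_FT5

/-! Feit–Thompson, self-centralizing subgroups of order three: local analysis, III. -/

set_option autoImplicit false
set_option linter.unusedSectionVars false
open Pointwise
namespace Cfsg.Agent.H19.FT5
open Cfsg.Agent.H19.FT2 Cfsg.Agent.H19.FT3 Cfsg.Agent.H19.FT4 Cfsg.Agent.H1.Basic

universe u

variable {G : Type u} [Group G] [Finite G] {M M' : Subgroup G} {q : ℕ} [hq : Fact q.Prime] {x t : G}

/-- conjugate Sylow subgroups come from conjugate maximal elements -/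
theorem Ctx.conjMM (C : Ctx x t) (hM : M ∈ MM x) (hM' : M' ∈ MM x) (hd : q ∣ Nat.card M) (hd' : q ∣ Nat.card M') {g : G}
    (hg : MulAut.conj g • SQ M q = SQ M' q) : M' = MulAut.conj g • M ∧ (g ∈ NN M ∨ t⁻¹ * g ∈ NN M) := by
  have h1 := (C.local hM hd).1
  have h2 := (C.local hM' hd').1
  have hN : NN M' = MulAut.conj g • NN M := by
    rw [← h1, ← h2, ← hg, NN_smul]
  have hN' : NN M = MulAut.conj g⁻¹ • NN M' := (conj_inv_eq hN.symm).symm
  have l1 : MulAut.conj g • M ≤ M' := by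
    apply absorb hM'
    · rw [card_conj]; exact hM.prop.c3
    · rw [NN_smul, hN]
  have l2 : MulAut.conj g⁻¹ • M' ≤ M := by
    apply absorb hM
    · rw [card_conj]; exact hM'.prop.c3
    · rw [NN_smul, hN']
  have l3 : M' = MulAut.conj g • M := by
    apply le_antisymm _ l1
    have := (conj_le_conj (g := g)).2 l2
    rwa [conj_conj, mul_inv_cancel, conj_one] at this
  refine ⟨l3, C.fix hM ?_⟩
  have := mem_NN_of_MM hM'
  rw [hN, mem_conj] at this
  exact this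

theorem Ctx.t_sq (C : Ctx x t) : t * t = 1 := by
  have h1 : Commute (t * t) x := by
    show t * t * x = x * (t * t)
    have e : t * t * x = t * (t * x * t⁻¹) * t⁻¹ * (t * t) := by group
    have e2 : t * x⁻¹ * t⁻¹ = x := by
      have : t * x⁻¹ * t⁻¹ = (t * x * t⁻¹)⁻¹ := by group
      rw [this, C.tx, inv_inv]
    rw [e, C.tx, e2]
  have h2 : t * (t * t) * t⁻¹ = t * t := by group
  rcases zp C.sc.o3 (C.sc.cen _ h1) with h | h | h
  · exact h
  · exfalso
    rw [h, C.tx] at h2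
    exact ne_inv C.sc.o3 h2.symm
  · exfalso
    rw [h] at h2
    have e2 : t * x⁻¹ * t⁻¹ = x := by
      have : t * x⁻¹ * t⁻¹ = (t * x * t⁻¹)⁻¹ := by group
      rw [this, C.tx, inv_inv]
    rw [e2] at h2
    exact ne_inv C.sc.o3 h2

theorem Ctx.x_notin (C : Ctx x t) (hM : M ∈ MM x) : x ∉ M :=
  fun h => hM.prop.c3 (by rw [← C.sc.o3]; exact Subgroup.orderOf_dvd_natCard M h)

/-- inside `N(M)`: the quotient -/
theorem Ctx.type (C : Ctx x t) (hM : M ∈ MM x) (hM1 : M ≠ ⊥) :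
    (t ∈ NN M ↔ Nat.card (NN M) = 6 * Nat.card M) ∧
    (∀ g ∈ NN M, g ∉ M → (∃ k, g ^ (2 ^ k) = 1) → ∃ m ∈ M, g * x * g⁻¹ = m * x⁻¹) := by
  have hx := mem_NN_of_MM hM
  have hc := C.card_NN hM hM1
  have hxM := C.x_notin hM
  -- the quotient
  let q : NN M →* (NN M) ⧸ (M.subgroupOf (NN M)) := QuotientGroup.mk' _
  have hker : ∀ g : NN M, q g = 1 ↔ (g : G) ∈ M := by
    intro g
    show (g : (NN M) ⧸ (M.subgroupOf (NN M))) = 1 ↔ _
    rw [QuotientGroup.eq_one_iff, Subgroup.mem_subgroupOf]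
  have hcardq : Nat.card ((NN M) ⧸ (M.subgroupOf (NN M))) = 3 ∨ Nat.card ((NN M) ⧸ (M.subgroupOf (NN M))) = 6 := by
    have h4 := Subgroup.card_eq_card_quotient_mul_card_subgroup (M.subgroupOf (NN M))
    rw [card_subgroupOf Subgroup.le_normalizer] at h4
    have hp : 0 < Nat.card M := Nat.card_pos
    rcases hc with h | h <;> rw [h] at h4
    · left; exact (Nat.eq_of_mul_eq_mul_right hp h4).symm
    · right; exact (Nat.eq_of_mul_eq_mul_right hp h4).symm
  obtain ⟨ξ, hξ⟩ : ∃ ξ, ξ = q ⟨x, hx⟩ := ⟨_, rfl⟩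
  have hξ3 : orderOf ξ = 3 := by
    haveI : Fact (Nat.Prime 3) := ⟨Nat.prime_three⟩
    apply orderOf_eq_prime
    · rw [hξ, ← map_pow]
      have : (⟨x, hx⟩ : NN M) ^ 3 = 1 := by
        apply Subtype.ext
        show x ^ 3 = 1
        rw [← C.sc.o3]; exact pow_orderOf_eq_one x
      rw [this, map_one]
    · rw [hξ]; intro h; exact hxM ((hker _).1 h)
  have hzc : Nat.card (Subgroup.zpowers ξ) = 3 := by rw [Nat.card_zpowers, hξ3]
  -- 2-elements are outside ⟨ξ⟩
  have h2e : ∀ g : NN M, (g : G) ∉ M → (∃ k, (g : G) ^ (2 ^ k) = 1) → q g ∉ Subgroup.zpowers ξ := by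
    intro g hg hk hz
    obtain ⟨k, hk⟩ := hk
    have h5 : (q g) ^ (2 ^ k) = 1 := by
      rw [← map_pow]
      have : g ^ (2 ^ k) = 1 := Subtype.ext hk
      rw [this, map_one]
    have h6 : orderOf (q g) ∣ 3 := by
      have := Subgroup.orderOf_dvd_natCard _ hz
      rwa [hzc] at this
    have h7 : orderOf (q g) ∣ 2 ^ k := orderOf_dvd_of_pow_eq_one h5
    have h8 : orderOf (q g) = 1 := by
      rcases (Nat.dvd_prime Nat.prime_three).1 h6 with h | h
      · exact h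
      · rw [h] at h7
        have := Nat.Prime.dvd_of_dvd_pow Nat.prime_three h7
        omega
    rw [orderOf_eq_one_iff] at h8
    exact hg ((hker g).1 h8)
  have htt : t ^ (2 ^ 1) = 1 := by rw [pow_one, pow_two]; exact C.t_sq
  have htM : t ∈ NN M → t ∉ M := by
    intro htN ht
    apply hxM
    have h5 : x * t⁻¹ * x⁻¹ ∈ M := hM.prop.inv _ (M.inv_mem ht)
    have h6 : t * (x * t⁻¹ * x⁻¹) ∈ M := M.mul_mem ht h5
    have e : t * (x * t⁻¹ * x⁻¹) = (t * x * t⁻¹) * x⁻¹ := by group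
    rw [e, C.tx, ← mul_inv_rev, ← inv_eq C.sc.o3, inv_inv] at h6
    exact h6
  -- if the quotient has order six, then `t` normalizes `M`
  have key : Nat.card ((NN M) ⧸ (M.subgroupOf (NN M))) = 6 → ∀ γ δ : (NN M) ⧸ (M.subgroupOf (NN M)),
      γ ∉ Subgroup.zpowers ξ → δ ∉ Subgroup.zpowers ξ → γ⁻¹ * δ ∈ Subgroup.zpowers ξ := by
    intro h6 γ δ hγ hδ
    have hidx : (Subgroup.zpowers ξ).index = 2 := by
      have := (Subgroup.zpowers ξ).card_mul_index
      rw [hzc, h6] at this; omega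
    rw [Subgroup.mul_mem_iff_of_index_two hidx, Subgroup.inv_mem_iff]
    exact ⟨fun h => absurd h hγ, fun h => absurd h hδ⟩
  have ht6 : t ∈ NN M → Nat.card ((NN M) ⧸ (M.subgroupOf (NN M))) = 6 := by
    intro htN
    rcases hcardq with h | h
    · exfalso
      have h5 := h2e ⟨t, htN⟩ (htM htN) ⟨1, htt⟩
      apply h5
      have : Subgroup.zpowers ξ = ⊤ := Subgroup.eq_top_of_card_eq _ (by rw [hzc, h])
      rw [this]; trivial
    · exact h
  have h6t : Nat.card (NN M) = 6 * Nat.card M → t ∈ NN M := by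
    intro h6
    -- `MX` is normal
    have hq6 : Nat.card ((NN M) ⧸ (M.subgroupOf (NN M))) = 6 := by
      have h4 := Subgroup.card_eq_card_quotient_mul_card_subgroup (M.subgroupOf (NN M))
      rw [card_subgroupOf Subgroup.le_normalizer, h6] at h4
      exact (Nat.eq_of_mul_eq_mul_right Nat.card_pos h4).symm
    have hidx : (Subgroup.zpowers ξ).index = 2 := by
      have := (Subgroup.zpowers ξ).card_mul_index
      rw [hzc, hq6] at this; omega
    have hidx' : ((Subgroup.zpowers ξ).comap q).index = 2 := by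
      rw [Subgroup.index_comap_of_surjective _ (QuotientGroup.mk'_surjective _), hidx]
    haveI hLn : ((Subgroup.zpowers ξ).comap q).Normal := Subgroup.normal_of_index_eq_two hidx'
    obtain ⟨L, hL⟩ : ∃ L, L = (Subgroup.zpowers ξ).comap q := ⟨_, rfl⟩
    rw [← hL] at hidx' hLn
    have hxL : (⟨x, hx⟩ : NN M) ∈ L := by
      rw [hL, Subgroup.mem_comap, ← hξ]; exact Subgroup.mem_zpowers ξ
    obtain ⟨n, hn⟩ : ∃ n, n ∉ L := by
      by_contra hcon
      push Not at hcon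
      have : L = ⊤ := eq_top_iff.2 fun n _ => hcon n
      rw [this, Subgroup.index_top] at hidx'; omega
    have hsc := sc_sub (sc_sub C.sc hx) hxL
    have ho : orderOf (⟨n * ⟨x, hx⟩ * n⁻¹, hLn.conj_mem _ hxL n⟩ : L) = 3 := by
      rw [Subgroup.orderOf_mk]
      exact o3_conj (sc_sub C.sc hx).o3 n
    obtain ⟨⟨m, hm⟩, hmn⟩ := hsc.conj_or ho
    have h7 : (n⁻¹ * m) * ⟨x, hx⟩ * (n⁻¹ * m)⁻¹ = ⟨x, hx⟩ ∨ (n⁻¹ * m) * ⟨x, hx⟩ * (n⁻¹ * m)⁻¹ = (⟨x, hx⟩ : NN M)⁻¹ := by
      have e : (n⁻¹ * m) * (⟨x, hx⟩ : NN M) * (n⁻¹ * m)⁻¹ = n⁻¹ * (m * ⟨x, hx⟩ * m⁻¹) * n := by group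
      rcases hmn with h | h
      · left
        have h' : m * ⟨x, hx⟩ * m⁻¹ = n * ⟨x, hx⟩ * n⁻¹ := congrArg Subtype.val h
        rw [e, h']; group
      · right
        have h' : m * ⟨x, hx⟩ * m⁻¹ = (n * ⟨x, hx⟩ * n⁻¹)⁻¹ := congrArg Subtype.val h
        rw [e, h']; group
    have h8 := C.nx (g := ((n⁻¹ * m : NN M) : G)) (by
      rcases h7 with h | h
      · left; exact congrArg Subtype.val h
      · right; exact congrArg Subtype.val h)
    rcases h8 with h8 | h8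
    · exfalso
      have h9 : n⁻¹ * m ∈ L := by
        have : Subgroup.zpowers (⟨x, hx⟩ : NN M) ≤ L := by rw [Subgroup.zpowers_le]; exact hxL
        apply this
        obtain ⟨i, hi⟩ := Subgroup.mem_zpowers_iff.1 h8
        exact Subgroup.mem_zpowers_iff.2 ⟨i, Subtype.ext hi⟩
      apply hn
      have := L.mul_mem h9 (L.inv_mem hm)
      rw [mul_inv_cancel_right] at this
      simpa using L.inv_mem this
    · have h9 := zp_le_NN hM h8
      have h10 := (NN M).mul_mem (n⁻¹ * m).2 ((NN M).inv_mem h9)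
      have e : ((n⁻¹ * m : NN M) : G) * (t⁻¹ * ((n⁻¹ * m : NN M) : G))⁻¹ = t := by group
      rw [e] at h10
      exact h10
  refine ⟨⟨fun htN => ?_, h6t⟩, ?_⟩
  · have h4 := Subgroup.card_eq_card_quotient_mul_card_subgroup (M.subgroupOf (NN M))
    rw [card_subgroupOf Subgroup.le_normalizer, ht6 htN] at h4
    exact h4
  · intro g hgN hgM hk
    have h6 : Nat.card ((NN M) ⧸ (M.subgroupOf (NN M))) = 6 := by
      rcases hcardq with h | h
      · exfalso
        apply h2e ⟨g, hgN⟩ hgM hk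
        have : Subgroup.zpowers ξ = ⊤ := Subgroup.eq_top_of_card_eq _ (by rw [hzc, h])
        rw [this]; trivial
      · exact h
    have htN : t ∈ NN M := by
      apply h6t
      have h4 := Subgroup.card_eq_card_quotient_mul_card_subgroup (M.subgroupOf (NN M))
      rw [card_subgroupOf Subgroup.le_normalizer, h6] at h4
      exact h4
    have h7 := key h6 (q ⟨t, htN⟩) (q ⟨g, hgN⟩) (h2e _ (htM htN) ⟨1, htt⟩) (h2e _ hgM hk)
    obtain ⟨i, hi⟩ := Subgroup.mem_zpowers_iff.1 h7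
    have h8 : q ⟨g, hgN⟩ = q ⟨t, htN⟩ * ξ ^ i := by rw [hi]; group
    have h9 : q ⟨g, hgN⟩ * ξ * (q ⟨g, hgN⟩)⁻¹ = ξ⁻¹ := by
      have e : q ⟨t, htN⟩ * ξ ^ i * ξ * (q ⟨t, htN⟩ * ξ ^ i)⁻¹ = q ⟨t, htN⟩ * ξ * (q ⟨t, htN⟩)⁻¹ := by group
      rw [h8, e, hξ, ← map_mul, ← map_inv, ← map_mul, ← map_inv]
      congr 1
      exact Subtype.ext C.tx
    have h10 : q (⟨g, hgN⟩ * ⟨x, hx⟩ * ⟨g, hgN⟩⁻¹ * ⟨x, hx⟩) = 1 := by
      rw [map_mul, map_mul, map_mul, map_inv, ← hξ, h9, inv_mul_cancel]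
    have h11 := (hker _).1 h10
    refine ⟨_, h11, ?_⟩
    show g * x * g⁻¹ = g * x * g⁻¹ * x * x⁻¹
    group

end Cfsg.Agent.H19.FT5
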