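import Mathlib
import Cfsg.Agent.H19_FT6

/-! Feit–Thompson, self-centralizing subgroups of order three: local analysis, IV. -/

set_option autoImplicit false
set_option linter.unusedSectionVars false
open Pointwise
namespace Cfsg.Agent.H19.FT5
open Cfsg.Agent.H19.FT2 Cfsg.Agent.H19.FT3 Cfsg.Agent.H19.FT4 Cfsg.Agent.H1.Basic

universe u

variable {G : Type u} [Group G] [Finite G] {M M' : Subgroup G} {q : ℕ} [hq : Fact q.Prime] {x t : G}

theorem Ctx.ti (C : Ctx x t) : t⁻¹ = t := inv_eq_of_mul_eq_one_left C.t_sq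

theorem card_dvd_fact (hs : IsSimpleGroup G) {N : Subgroup G} (hN : N ≠ ⊤) : Nat.card G ∣ N.index.factorial := by
  haveI := Fintype.ofFinite (G ⧸ N)
  have hker : (MulAction.toPermHom G (G ⧸ N)).ker = ⊥ := by
    rcases (inferInstance : (MulAction.toPermHom G (G ⧸ N)).ker.Normal).eq_bot_or_eq_top with h | h
    · exact h
    · exfalso
      apply hN
      rw [← Subgroup.normalCore_eq_ker] at h
      exact top_le_iff.1 (h ▸ Subgroup.normalCore_le N)
  have h1 := Subgroup.card_subgroup_dvd_card (MulAction.toPermHom G (G ⧸ N)).range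
  have h2 : Nat.card (MulAction.toPermHom G (G ⧸ N)).range = Nat.card G :=
    Nat.card_congr (MonoidHom.ofInjective ((MonoidHom.ker_eq_bot_iff _).1 hker)).symm.toEquiv
  rw [h2, Nat.card_perm, ← Subgroup.index_eq_card] at h1
  exact h1

theorem index_ge (hs : IsSimpleGroup G) (ns : ¬ Group.IsSolvable G) {N : Subgroup G} (hN : N ≠ ⊤) : 5 ≤ N.index := by
  have h1 := card_dvd_fact hs hN
  have h2 := H7.Rad8.sixty_le ns
  by_contra h
  push Not at h
  have h3 : N.index.factorial ≤ (4).factorial := Nat.factorial_le (by omega)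
  have h4 := Nat.le_of_dvd (Nat.factorial_pos _) h1
  have h5 : (4).factorial = 24 := by decide
  omega

theorem Ctx.NN_ne_top (C : Ctx x t) (hM : M ∈ MM x) (hM1 : M ≠ ⊥) : NN M ≠ ⊤ := by
  intro h
  haveI := C.simple
  have hn := Subgroup.normalizer_eq_top_iff.1 h
  rcases hn.eq_bot_or_eq_top with h5 | h5
  · exact hM1 h5
  · apply C.x_notin hM
    rw [h5]; trivial

theorem Ctx.index (C : Ctx x t) (hM : M ∈ MM x) (hM1 : M ≠ ⊥) : 5 ≤ (NN M).index ∧
    ((Nat.card (NN M) = 3 * Nat.card M ∧ t ∉ NN M ∧ (NN M).index % 3 = 2) ∨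
     (Nat.card (NN M) = 6 * Nat.card M ∧ t ∈ NN M ∧ (NN M).index % 3 = 1)) := by
  refine ⟨index_ge C.simple C.ns (C.NN_ne_top hM hM1), ?_⟩
  have hx := mem_NN_of_MM hM
  have h1 := mod3 (Ω := G ⧸ NN M) (fun a => x • a) (by
    intro a
    show x • x • x • a = a
    rw [smul_smul, smul_smul, cube C.sc.o3, one_smul])
  rw [← Subgroup.index_eq_card] at h1
  have hfix : ∀ a : G ⧸ NN M, x • a = a ↔ a = ((1 : G) : G ⧸ NN M) ∨ a = (t : G ⧸ NN M) := by
    intro a
    obtain ⟨g, rfl⟩ := QuotientGroup.mk_surjective a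
    have e : x • (g : G ⧸ NN M) = ((x * g : G) : G ⧸ NN M) := rfl
    rw [e]
    constructor
    · intro h
      have h2 : g⁻¹ * x * g ∈ NN M := by
        have := QuotientGroup.eq.1 h
        have h3 := (NN M).inv_mem this
        have e2 : ((x * g)⁻¹ * g)⁻¹ = g⁻¹ * x * g := by group
        rwa [e2] at h3
      rcases C.fix hM h2 with h3 | h3
      · left
        rw [QuotientGroup.eq]
        simpa using (NN M).inv_mem h3
      · right
        symm
        rw [QuotientGroup.eq]; exact h3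
    · rintro (h | h)
      · have h2 : g ∈ NN M := by
          have := QuotientGroup.eq.1 h
          simpa using (NN M).inv_mem this
        rw [QuotientGroup.eq]
        have e2 : (x * g)⁻¹ * g = (g⁻¹ * x * g)⁻¹ := by group
        rw [e2]
        exact (NN M).inv_mem ((NN M).mul_mem ((NN M).mul_mem ((NN M).inv_mem h2) hx) h2)
      · have h2 : g⁻¹ * t ∈ NN M := QuotientGroup.eq.1 h
        rw [QuotientGroup.eq]
        have e2 : (x * g)⁻¹ * g = ((g⁻¹ * t) * (t⁻¹ * x * t) * (g⁻¹ * t)⁻¹)⁻¹ := by group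
        have e3 : t⁻¹ * x * t = x⁻¹ := by
          have := C.tx
          rw [C.ti] at this ⊢
          exact this
        rw [e2, e3]
        exact (NN M).inv_mem ((NN M).mul_mem ((NN M).mul_mem h2 ((NN M).inv_mem hx)) ((NN M).inv_mem h2))
  have htype := (C.type hM hM1).1
  rcases C.card_NN hM hM1 with h2 | h2
  · left
    have ht : t ∉ NN M := by
      intro ht
      have h3 := htype.1 ht
      have : 0 < Nat.card M := Nat.card_pos
      omega
    refine ⟨h2, ht, ?_⟩
    have hne : ((1 : G) : G ⧸ NN M) ≠ (t : G ⧸ NN M) := by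
      intro h
      have := QuotientGroup.eq.1 h
      rw [inv_one, one_mul] at this
      exact ht this
    have h3 : Nat.card {a : G ⧸ NN M // x • a = a} = 2 := by
      have : {a : G ⧸ NN M | x • a = a} = {((1 : G) : G ⧸ NN M), (t : G ⧸ NN M)} := by
        ext a
        simp only [Set.mem_ofPred_eq, Set.mem_insert_iff, Set.mem_singleton_iff]
        exact hfix a
      have h4 : Nat.card {a : G ⧸ NN M // x • a = a} = Set.ncard {a : G ⧸ NN M | x • a = a} := rfl
      rw [h4, this, Set.ncard_pair hne]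
    rw [h3] at h1
    exact h1
  · right
    have ht := htype.2 h2
    refine ⟨h2, ht, ?_⟩
    have heq : ((1 : G) : G ⧸ NN M) = (t : G ⧸ NN M) := by
      rw [QuotientGroup.eq, inv_one, one_mul]; exact ht
    have h3 : Nat.card {a : G ⧸ NN M // x • a = a} = 1 := by
      have : {a : G ⧸ NN M | x • a = a} = {((1 : G) : G ⧸ NN M)} := by
        ext a
        simp only [Set.mem_ofPred_eq, Set.mem_singleton_iff]
        rw [hfix a, ← heq, or_self]
      have h4 : Nat.card {a : G ⧸ NN M // x • a = a} = Set.ncard {a : G ⧸ NN M | x • a = a} := rfl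
      rw [h4, this, Set.ncard_singleton]
    rw [h3] at h1
    exact h1

theorem Ctx.coset (C : Ctx x t) {K : Subgroup G} (hK : PP x K) {m : G} (hm : m ∈ K) : orderOf (m * x) = 3 := by
  haveI : Fact (Nat.Prime 3) := ⟨Nat.prime_three⟩
  have h1 := prod_eq C.sc C.sc.o3 hK hm
  apply orderOf_eq_prime
  · have e : (m * x) ^ 3 = m * (x * m * x⁻¹) * (x * (x * m * x⁻¹) * x⁻¹) * (x * x * x) := by
      simp only [pow_succ, pow_zero, one_mul]; group
    rw [e, h1, cube C.sc.o3, one_mul]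
  · intro h
    have : x ∈ K := by
      have h2 : x = m⁻¹ := (inv_eq_of_mul_eq_one_right h).symm
      rw [h2]; exact K.inv_mem hm
    exact hK.c3 (by rw [← C.sc.o3]; exact Subgroup.orderOf_dvd_natCard K this)

theorem Ctx.good (C : Ctx x t) (hM : M ∈ MM x) (hd : 2 ∣ Nat.card M) : Good (SQ M 2) x := by
  have hnil := C.sc.nilp C.sc.o3 hM.prop
  have hM1 : M ≠ ⊥ := by rintro rfl; simp at hd
  refine ⟨SQ_pg, SQ_ne_bot hd, C.sc.o3, fun s hs => NN_conj (SQ_char hnil (mem_NN_of_MM hM)) hs, ?_⟩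
  rintro z hz hzS ⟨k, hk⟩ s hs hc1 hc2
  have hzN : z ∈ NN M := by
    rw [← (C.local hM hd).1]; exact mem_NN hz
  have hzM : z ∉ M := fun h => hzS (SQ_mem hnil h ⟨k, hk⟩)
  obtain ⟨m, hm, he⟩ := (C.type hM hM1).2 z⁻¹ ((NN M).inv_mem hzN) (fun h => hzM (by simpa using M.inv_mem h))
    ⟨k, by rw [inv_pow, hk, inv_one]⟩
  have hcomm : Commute s (m * x) := by
    have e : m * x = z⁻¹ * (x * z * x⁻¹) := by
      have h5 : m = z⁻¹ * x * z⁻¹⁻¹ * x := by rw [he]; group
      rw [h5, inv_inv]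
      have : x⁻¹ = x * x := inv_eq C.sc.o3
      calc z⁻¹ * x * z * x * x = z⁻¹ * x * z * (x * x) := by group
        _ = _ := by rw [← this]; group
    rw [e]
    exact hc1.inv_right.mul_right hc2
  exact C.sc.fpf (C.coset hM.prop hm) hM.prop.c3 (SQ_le hs) hcomm

theorem Good.conj {S : Subgroup G} {y : G} (h : Good S y) (g : G) : Good (MulAut.conj g • S) (g * y * g⁻¹) := by
  haveI : Fact (Nat.Prime 2) := ⟨Nat.prime_two⟩
  refine ⟨?_, ?_, o3_conj h.o3 g, ?_, ?_⟩
  · obtain ⟨n, hn⟩ := h.pg.exists_card_eq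
    exact IsPGroup.of_card (by rw [card_conj, hn])
  · intro h1
    apply h.nt
    have := conj_inv_eq h1
    rw [← this, Subgroup.smul_bot]
  · intro s hs
    rw [mem_conj] at hs ⊢
    have := h.inv _ hs
    have e : g⁻¹ * (g * y * g⁻¹ * s * (g * y * g⁻¹)⁻¹) * g = y * (g⁻¹ * s * g) * y⁻¹ := by group
    rw [e]; exact this
  · rintro z hz hzS ⟨k, hk⟩ s hs hc1 hc2
    rw [mem_conj] at hs hzS
    have h1 : g⁻¹ * s * g = 1 := by
      refine h.free (g⁻¹ * z * g) ?_ hzS ⟨k, ?_⟩ _ hs ?_ ?_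
      · intro s' hs'
        have h5 := hz (g * s' * g⁻¹) (conj_mem_conj.2 hs')
        rw [mem_conj] at h5
        have e : g⁻¹ * (z * (g * s' * g⁻¹) * z⁻¹) * g = g⁻¹ * z * g * s' * (g⁻¹ * z * g)⁻¹ := by group
        rwa [e] at h5
      · have e : (g⁻¹ * z * g) ^ 2 ^ k = g⁻¹ * z ^ 2 ^ k * g := by
          have := conj_pow (a := g⁻¹) (b := z) (i := 2 ^ k)
          rw [inv_inv] at this
          exact this
        rw [e, hk]; group
      · show g⁻¹ * s * g * (g⁻¹ * z * g) = g⁻¹ * z * g * (g⁻¹ * s * g)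
        have l : g⁻¹ * s * g * (g⁻¹ * z * g) = g⁻¹ * (s * z) * g := by group
        have r : g⁻¹ * z * g * (g⁻¹ * s * g) = g⁻¹ * (z * s) * g := by group
        rw [l, r, hc1.eq]
      · show g⁻¹ * s * g * (y * (g⁻¹ * z * g) * y⁻¹) = y * (g⁻¹ * z * g) * y⁻¹ * (g⁻¹ * s * g)
        have l : g⁻¹ * s * g * (y * (g⁻¹ * z * g) * y⁻¹) = g⁻¹ * (s * (g * y * g⁻¹ * z * (g * y * g⁻¹)⁻¹)) * g := by group
        have r : y * (g⁻¹ * z * g) * y⁻¹ * (g⁻¹ * s * g) = g⁻¹ * ((g * y * g⁻¹ * z * (g * y * g⁻¹)⁻¹) * s) * g := by group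
        rw [l, r, hc2.eq]
    have : s = g * (g⁻¹ * s * g) * g⁻¹ := by group
    rw [this, h1]; group

theorem card_two (hd : q ∣ Nat.card M) : (Nat.card M).factorization q ≠ 0 := by
  intro h
  rw [Nat.factorization_eq_zero_iff] at h
  rcases h with h | h | h
  · exact h hq.out
  · exact h hd
  · exact Nat.card_pos.ne' h

theorem fac6 {n : ℕ} (hn : n ≠ 0) : (6 * n).factorization 2 = n.factorization 2 + 1 := by
  have h6 : (6 : ℕ).factorization 2 = 1 := by
    have : (6 : ℕ) = 2 * 3 := rfl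
    rw [this, Nat.factorization_mul (by norm_num) (by norm_num), Finsupp.add_apply,
      Nat.Prime.factorization_self Nat.prime_two, Nat.factorization_eq_zero_of_not_dvd (by norm_num)]
  rw [Nat.factorization_mul (by norm_num) hn, Finsupp.add_apply, h6, add_comm]

/-- a 2-group containing `SQ M 2` with index two -/
theorem Ctx.exists_T (C : Ctx x t) (hM : M ∈ MM x) (hd : 2 ∣ Nat.card M) (ht : t ∈ NN M) :
    ∃ T : Subgroup G, IsPGroup 2 T ∧ SQ M 2 ≤ T ∧ T ≤ NN M ∧ Nat.card T = 2 * Nat.card (SQ M 2) := by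
  have hM1 : M ≠ ⊥ := by rintro rfl; simp at hd
  have hc := (C.type hM hM1).1.1 ht
  have hSN : SQ M 2 ≤ NN M := SQ_le.trans Subgroup.le_normalizer
  have hp : IsPGroup 2 ((SQ M 2).subgroupOf (NN M)) := IsPGroup.of_card (by rw [card_subgroupOf hSN]; exact SQ_card)
  obtain ⟨T0, hT0⟩ := hp.exists_le_sylow
  refine ⟨(T0 : Subgroup (NN M)).map (NN M).subtype, T0.isPGroup'.map _, ?_, ?_, ?_⟩
  · intro s hs
    exact ⟨⟨s, hSN hs⟩, hT0 (Subgroup.mem_subgroupOf.2 hs), rfl⟩
  · rintro _ ⟨a, -, rfl⟩; exact a.2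
  · rw [Nat.card_congr (Subgroup.equivMapOfInjective _ _ (NN M).subtype_injective).symm.toEquiv]
    rw [T0.card_eq_multiplicity, hc, fac6 Nat.card_pos.ne', SQ_card, pow_succ, mul_comm]

theorem Ctx.sylow2 (C : Ctx x t) (hM : M ∈ MM x) (hd : 2 ∣ Nat.card M) (ht : t ∈ NN M)
    (h4 : 4 < Nat.card (SQ M 2)) : (Nat.card G).factorization 2 = (Nat.card M).factorization 2 + 1 := by
  have hM1 : M ≠ ⊥ := by rintro rfl; simp at hd
  have hc := (C.type hM hM1).1.1 ht
  obtain ⟨T, hT, hST, hTN, hTc⟩ := C.exists_T hM hd ht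
  have hgood := C.good hM hd
  have hNT : NN T ≤ NN M := by
    intro g hg
    have h1 : MulAut.conj g • SQ M 2 ≤ T := by
      have h2 := (conj_le_conj (g := g)).2 hST
      rwa [conj_eq_iff_mem_normalizer.2 hg] at h2
    rw [← (C.local hM hd).1, ← conj_eq_iff_mem_normalizer]
    by_contra hne
    have := index2 C.sc (Good.conj hgood g) hgood hT h1 hST (by rw [card_conj]; exact hTc) hTc hne
    omega
  have hcT : Nat.card T = 2 ^ ((Nat.card M).factorization 2 + 1) := by
    rw [hTc, SQ_card, pow_succ, mul_comm]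
  apply sylow_of hcT
  intro h
  have h2 : 2 ^ ((Nat.card M).factorization 2 + 1 + 1) ∣ Nat.card (NN M) := h.trans (Subgroup.card_dvd_of_le hNT)
  rw [Nat.Prime.pow_dvd_iff_le_factorization Nat.prime_two Nat.card_pos.ne', hc, fac6 Nat.card_pos.ne'] at h2
  omega

/-- subgroups of order the 2-part are conjugate -/
theorem conj_of_card {T T' : Subgroup G} (h : Nat.card T = q ^ (Nat.card G).factorization q)
    (h' : Nat.card T' = q ^ (Nat.card G).factorization q) : ∃ g : G, MulAut.conj g • T = T' := by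
  let P := Sylow.ofCard T h
  let P' := Sylow.ofCard T' h'
  obtain ⟨g, hg⟩ := MulAction.exists_smul_eq G P P'
  refine ⟨g, ?_⟩
  have := congrArg (fun R : Sylow q G => (R : Subgroup G)) hg
  exact this

theorem Ctx.uniqB (C : Ctx x t) (hM : M ∈ MM x) (hd : 2 ∣ Nat.card M) (ht : t ∈ NN M)
    (h4 : 4 < Nat.card (SQ M 2)) (hM' : M' ∈ MM x) (hd' : 2 ∣ Nat.card M') (ht' : t ∈ NN M')
    (h4' : 4 < Nat.card (SQ M' 2)) : M' = M := by
  have e1 := C.sylow2 hM hd ht h4
  have e2 := C.sylow2 hM' hd' ht' h4'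
  obtain ⟨T, hT, hST, hTN, hTc⟩ := C.exists_T hM hd ht
  obtain ⟨T', hT', hST', hTN', hTc'⟩ := C.exists_T hM' hd' ht'
  have hcT : Nat.card T = 2 ^ (Nat.card G).factorization 2 := by
    rw [hTc, SQ_card, e1, pow_succ, mul_comm]
  have hcT' : Nat.card T' = 2 ^ (Nat.card G).factorization 2 := by
    rw [hTc', SQ_card, e2, pow_succ, mul_comm]
  obtain ⟨g, hg⟩ := conj_of_card hcT hcT'
  have h1 : MulAut.conj g • SQ M 2 ≤ T' := by
    rw [← hg]; exact conj_le_conj.2 hST
  have h2 : MulAut.conj g • SQ M 2 = SQ M' 2 := by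
    by_contra hne
    have := index2 C.sc (Good.conj (C.good hM hd) g) (C.good hM' hd') hT' h1 hST'
      (by rw [card_conj, hcT', ← hcT, hTc]) hTc' hne
    omega
  obtain ⟨h3, h5⟩ := C.conjMM hM hM' hd hd' h2
  have hgN : g ∈ NN M := by
    rcases h5 with h5 | h5
    · exact h5
    · have := (NN M).mul_mem ht h5
      rwa [mul_inv_cancel_left] at this
  rw [h3, conj_eq_iff_mem_normalizer.2 hgN]

end Cfsg.Agent.H19.FT5
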