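import Mathlib
import Cfsg.Agent.H19_FT7

/-! Feit–Thompson, self-centralizing subgroups of order three: Klein four-groups. -/

set_option autoImplicit false
set_option linter.unusedSectionVars false
open Pointwise
namespace Cfsg.Agent.H19.FT5
open Cfsg.Agent.H19.FT2 Cfsg.Agent.H19.FT3 Cfsg.Agent.H19.FT4 Cfsg.Agent.H1.Basic

universe u

variable {G : Type u} [Group G] [Finite G] {M M' : Subgroup G} {x t : G}

theorem Good.exp {S : Subgroup G} {y : G} (hx : SC x) (h : Good S y) (hc : Nat.card S = 4) : ∀ s ∈ S, s * s = 1 := by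
  haveI : Fact (Nat.Prime 2) := ⟨Nat.prime_two⟩
  obtain ⟨⟨i, hi⟩, hio⟩ := exists_prime_orderOf_dvd_card' 2 (show 2 ∣ Nat.card S by rw [hc]; norm_num)
  have hio' : orderOf i = 2 := by rw [← hio]; exact (Subgroup.orderOf_mk i hi).symm ▸ rfl
  have hii : i * i = 1 := by rw [← pow_two, ← hio']; exact pow_orderOf_eq_one i
  have hi1 : i ≠ 1 := by rintro rfl; rw [orderOf_one] at hio'; omega
  obtain ⟨K, hiK, hKi, hK2, hmin⟩ := klein (cube h.o3) hii (comm_conj hx h.o3 h.PP hi).eq
  have hKS : K ≤ S := hmin S hi h.inv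
  have hK3 : ¬ 3 ∣ Nat.card K := not3 (isP2 hK2)
  have h1 := hx.mod h.o3 (K := K) ⟨hKi, hK3⟩
  have h2 : Nat.card K ∣ 4 := by rw [← hc]; exact Subgroup.card_dvd_of_le hKS
  have h3 : Nat.card K ≠ 1 := by
    intro h4
    rw [Subgroup.card_eq_one] at h4
    rw [h4, Subgroup.mem_bot] at hiK
    exact hi1 hiK
  have h4 : Nat.card K = 4 := by
    have := Nat.le_of_dvd (by norm_num) h2
    interval_cases (Nat.card K) <;> omega
  have h5 := eq_of_le_of_card_ge' hKS (by omega)
  intro s hs
  rw [← h5] at hs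
  exact hK2 s hs

theorem Good.self {S : Subgroup G} {y : G} (h : Good S y) {c : G} (hcS : ∀ s ∈ S, Commute s c)
    (hk : ∃ k, c ^ (2 ^ k) = 1) : c ∈ S := by
  by_contra hc
  have hP := PP.inv' h.o3 h.PP
  obtain ⟨⟨s, hs⟩, hs1⟩ : ∃ s : S, s ≠ 1 := by
    haveI := (Subgroup.nontrivial_iff_ne_bot S).2 h.nt
    exact exists_ne 1
  apply hs1
  apply Subtype.ext
  refine h.free c (fun s hs => ?_) hc hk s hs (hcS s hs) ?_
  · rw [← (hcS s hs).eq, mul_inv_cancel_right]; exact hs
  · have h5 := hcS _ (hP.inv s hs)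
    rw [inv_inv] at h5
    show s * (y * c * y⁻¹) = (y * c * y⁻¹) * s
    have l : s * (y * c * y⁻¹) = y * ((y⁻¹ * s * y) * c) * y⁻¹ := by group
    have r : (y * c * y⁻¹) * s = y * (c * (y⁻¹ * s * y)) * y⁻¹ := by group
    rw [l, r, h5.eq]

theorem Ctx.card_SQ (C : Ctx x t) (hM : M ∈ MM x) (hd : 2 ∣ Nat.card M) (h4 : Nat.card (SQ M 2) ≤ 4) :
    Nat.card (SQ M 2) = 4 := by
  have hgood := C.good hM hd
  have h1 := C.sc.mod hgood.o3 hgood.PP
  have h2 : Nat.card (SQ M 2) ≠ 1 := by
    intro h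
    exact hgood.nt (Subgroup.card_eq_one.1 h)
  have h3 : 0 < Nat.card (SQ M 2) := Nat.card_pos
  omega

/-- structure of a self-centralizing four-group in a Sylow subgroup -/
theorem four {W T : Subgroup G} {y : G} (hx : SC x) (h : Good W y) (hc : Nat.card W = 4) (hT : IsPGroup 2 T)
    (hWT : W ≤ T) (h8 : 8 ≤ Nat.card T) : ∃ w ∈ W, w * w = 1 ∧ (∀ c ∈ T, Commute c w ↔ c ∈ W) := by
  haveI : Fact (Nat.Prime 2) := ⟨Nat.prime_two⟩
  have hexp := Good.exp hx h hc
  have hself : ∀ c ∈ T, (∀ s ∈ W, Commute s c) → c ∈ W := fun c hcT hs => Good.self h hs (two_pow hT hcT)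
  obtain ⟨w, hw, τ, hτ, hwτ⟩ : ∃ w ∈ W, ∃ τ ∈ T, ¬ Commute w τ := by
    by_contra hcon
    push Not at hcon
    have : T ≤ W := fun c hcT => hself c hcT (fun s hs => hcon s hs c hcT)
    have := Nat.le_of_dvd Nat.card_pos (Subgroup.card_dvd_of_le this)
    omega
  haveI : Nontrivial T := by
    rw [← Finite.one_lt_card_iff_nontrivial]; omega
  haveI := hT.center_nontrivial
  obtain ⟨⟨z, hz⟩, hz1⟩ := exists_ne (1 : Subgroup.center T)
  have hz1' : (z : G) ≠ 1 := by
    intro h'; exact hz1 (Subtype.ext (Subtype.ext h'))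
  have hzc : ∀ k ∈ T, Commute k (z : G) := fun k hk =>
    congrArg Subtype.val (Subgroup.mem_center_iff.1 hz ⟨k, hk⟩)
  have hzW : (z : G) ∈ W := hself z z.2 (fun s hs => hzc s (hWT hs))
  have hw1 : w ≠ 1 := by rintro rfl; exact hwτ (Commute.one_left τ)
  have hwz : w ≠ z := by intro h'; apply hwτ; rw [h']; exact (hzc τ hτ).symm
  have hw2 := hexp w hw
  have hset : ({1, w, (z : G), w * z} : Set G) = (W : Set G) := by
    apply Set.eq_of_subset_of_ncard_le
    · intro a ha
      simp only [Set.mem_insert_iff, Set.mem_singleton_iff] at ha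
      rcases ha with rfl | rfl | rfl | rfl
      · exact W.one_mem
      · exact hw
      · exact hzW
      · exact W.mul_mem hw hzW
    · have e1 : (W : Set G).ncard = 4 := by
        have : Nat.card W = (W : Set G).ncard := rfl
        rw [← this, hc]
      rw [e1]
      have hwz1 : w * z ≠ 1 := by
        intro h'
        have : (z : G) = w⁻¹ := (inv_eq_of_mul_eq_one_right h').symm
        rw [inv_eq_of_mul_eq_one_left hw2] at this
        exact hwz this.symm
      rw [Set.ncard_insert_of_notMem, Set.ncard_insert_of_notMem, Set.ncard_pair]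
      · intro h'; exact hw1 (by simpa using h'.symm)
      · simp only [Set.mem_insert_iff, Set.mem_singleton_iff, not_or]
        exact ⟨hwz, fun h' => hz1' (by simpa using h'.symm)⟩
      · simp only [Set.mem_insert_iff, Set.mem_singleton_iff, not_or]
        exact ⟨hw1.symm, hz1'.symm, hwz1.symm⟩
    · exact Set.toFinite _
  have hmem : ∀ s ∈ W, s = 1 ∨ s = w ∨ s = z ∨ s = w * z := by
    intro s hs
    have : s ∈ ({1, w, (z : G), w * z} : Set G) := by rw [hset]; exact hs
    simpa only [Set.mem_insert_iff, Set.mem_singleton_iff] using this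
  refine ⟨w, hw, hw2, fun c hcT => ⟨fun hcw => hself c hcT (fun s hs => ?_), fun hcW => ?_⟩⟩
  · rcases hmem s hs with rfl | rfl | rfl | rfl
    · exact Commute.one_left c
    · exact hcw.symm
    · exact (hzc c hcT).symm
    · exact hcw.symm.mul_left (hzc c hcT).symm
  · rcases hmem c hcW with rfl | rfl | rfl | rfl
    · exact Commute.one_left w
    · exact Commute.refl _
    · exact (hzc w (hWT hw)).symm
    · exact (Commute.refl w).mul_left (hzc w (hWT hw)).symm

theorem Ctx.three (C : Ctx x t) (M : Fin 3 → Subgroup G) (hM : ∀ i, M i ∈ MM x) (hd : ∀ i, 2 ∣ Nat.card (M i))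
    (ht : ∀ i, t ∈ NN (M i)) (h4 : ∀ i, Nat.card (SQ (M i) 2) ≤ 4) (hinj : Function.Injective M) : False := by
  have hc : ∀ i, Nat.card (SQ (M i) 2) = 4 := fun i => C.card_SQ (hM i) (hd i) (h4 i)
  let T : Sylow 2 G := default
  have h8 : 8 ≤ Nat.card T := by
    obtain ⟨T1, hT1, -, -, hc1⟩ := C.exists_T (hM 0) (hd 0) (ht 0)
    rw [hc 0] at hc1
    have h1 : 2 ^ 3 ∣ Nat.card G := by
      have : 2 ^ 3 = Nat.card T1 := by rw [hc1]; norm_num
      rw [this]; exact Subgroup.card_subgroup_dvd_card T1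
    have h2 := T.card_eq_multiplicity
    rw [Nat.Prime.pow_dvd_iff_le_factorization Nat.prime_two Nat.card_pos.ne'] at h1
    have h3 : 2 ^ 3 ≤ 2 ^ (Nat.card G).factorization 2 := Nat.pow_le_pow_right (by norm_num) h1
    rw [h2]; exact h3
  have hg : ∀ i, ∃ g : G, MulAut.conj g • SQ (M i) 2 ≤ (T : Subgroup G) := by
    intro i
    obtain ⟨P, hP⟩ := (SQ_pg (M := M i) (q := 2)).exists_le_sylow
    obtain ⟨g, hg⟩ := MulAction.exists_smul_eq G P T
    refine ⟨g, ?_⟩
    have h1 := (conj_le_conj (g := g)).2 hP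
    have h2 : MulAut.conj g • (P : Subgroup G) = T := congrArg (fun R : Sylow 2 G => (R : Subgroup G)) hg
    rwa [h2] at h1
  choose g hg using hg
  have hgood := fun i => Good.conj (C.good (hM i) (hd i)) (g i)
  have hf := fun i => four C.sc (hgood i) (by rw [card_conj]; exact hc i) T.isPGroup' (hg i) h8
  choose w hwW hw2 hwc using hf
  refine v4 (T := T) T.isPGroup' h8 (fun i => ⟨w i, hg i (hwW i)⟩) (fun i => Subtype.ext (hw2 i)) ?_ ?_
  · intro i
    have hinj : Function.Injective (fun c : Subgroup.centralizer ({(⟨w i, hg i (hwW i)⟩ : T)} : Set T) =>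
        (⟨((c : T) : G), (hwc i _ (c : T).2).1 (by
          have := Subgroup.mem_centralizer_iff.1 c.2 _ rfl
          exact (congrArg Subtype.val this).symm)⟩ : (MulAut.conj (g i) • SQ (M i) 2 : Subgroup G))) := by
      intro a b hab
      have h9 : ((a : T) : G) = ((b : T) : G) :=
        congrArg (fun r : (MulAut.conj (g i) • SQ (M i) 2 : Subgroup G) => (r : G)) hab
      exact Subtype.ext (Subtype.ext h9)
    have := Nat.card_le_card_of_injective _ hinj
    rwa [card_conj, hc i] at this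
  · intro i j hij hconj
    obtain ⟨⟨τ, hτT⟩, hτ⟩ := isConj_iff.1 hconj
    have hτ' : τ * w i * τ⁻¹ = w j := congrArg Subtype.val hτ
    have h1 : MulAut.conj τ • MulAut.conj (g i) • SQ (M i) 2 = MulAut.conj (g j) • SQ (M j) 2 := by
      apply eq_of_le_of_card_ge'
      · intro s hs
        rw [mem_conj] at hs
        have hsT : s ∈ (T : Subgroup G) := by
          have h2 := hg i hs
          have h3 := (T : Subgroup G).mul_mem ((T : Subgroup G).mul_mem hτT h2) ((T : Subgroup G).inv_mem hτT)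
          have e : τ * (τ⁻¹ * s * τ) * τ⁻¹ = s := by group
          rwa [e] at h3
        rw [← hwc j s hsT, ← hτ']
        have h2 := (hwc i _ (hg i hs)).2 hs
        show s * (τ * w i * τ⁻¹) = (τ * w i * τ⁻¹) * s
        have l : s * (τ * w i * τ⁻¹) = τ * ((τ⁻¹ * s * τ) * w i) * τ⁻¹ := by group
        have r : (τ * w i * τ⁻¹) * s = τ * (w i * (τ⁻¹ * s * τ)) * τ⁻¹ := by group
        rw [l, r, h2.eq]
      · rw [card_conj, card_conj, card_conj, hc i, hc j]
    have h2 : MulAut.conj ((g j)⁻¹ * (τ * g i)) • SQ (M i) 2 = SQ (M j) 2 := by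
      rw [conj_conj] at h1
      have := conj_inv_eq h1.symm
      rwa [conj_conj] at this
    obtain ⟨h3, h5⟩ := C.conjMM (hM i) (hM j) (hd i) (hd j) h2
    have hgN : (g j)⁻¹ * (τ * g i) ∈ NN (M i) := by
      rcases h5 with h5 | h5
      · exact h5
      · have := (NN (M i)).mul_mem (ht i) h5
        rwa [mul_inv_cancel_left] at this
    rw [conj_eq_iff_mem_normalizer.2 hgN] at h3
    exact hij (hinj h3.symm)

end Cfsg.Agent.H19.FT5
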