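import Mathlib

set_option autoImplicit false

namespace Cfsg.Agent.H21.Prim

open MulAction

variable {G Ω : Type*} [Group G] [MulAction G Ω]

theorem trans_of_normal [FaithfulSMul G Ω]
    (hprim : IsPreprimitive G Ω) (N : Subgroup G) (hN : N.Normal) (hN1 : N ≠ ⊥) : IsPretransitive N Ω := by
  haveI := hprim
  haveI := hN
  refine IsQuasiPreprimitive.isPretransitive_of_normal (G := G) ?_
  intro h
  apply hN1
  rw [eq_bot_iff]
  intro n hn
  rw [Subgroup.mem_bot]
  apply FaithfulSMul.eq_of_smul_eq_smul (α := Ω)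
  intro a
  have : a ∈ fixedPoints N Ω := by rw [h]; trivial
  rw [one_smul]
  exact this ⟨n, hn⟩

/-- an element commuting with a transitive subgroup and fixing a point is trivial -/
theorem semireg [FaithfulSMul G Ω] {N : Subgroup G}
    (hN : IsPretransitive N Ω) {x : G} (hx : ∀ n ∈ N, n * x = x * n) {a : Ω} (ha : x • a = a) : x = 1 := by
  apply FaithfulSMul.eq_of_smul_eq_smul (α := Ω)
  intro b
  obtain ⟨⟨m, hm⟩, hmb⟩ := hN.exists_smul_eq a b
  have hmb' : m • a = b := hmb
  rw [one_smul, ← hmb', ← mul_smul, ← hx m hm, mul_smul, ha]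

/-- a normal subgroup contained in a point stabilizer of a transitive faithful group is trivial -/
theorem normal_le_stabilizer [FaithfulSMul G Ω] (ht : IsPretransitive G Ω) {N : Subgroup G} (hN : N.Normal) {a : Ω}
    (h : N ≤ stabilizer G a) : N = ⊥ := by
  rw [eq_bot_iff]
  intro n hn
  rw [Subgroup.mem_bot]
  apply FaithfulSMul.eq_of_smul_eq_smul (α := Ω)
  intro b
  obtain ⟨g, rfl⟩ := ht.exists_smul_eq a b
  have := h (hN.conj_mem n hn g⁻¹)
  rw [mem_stabilizer_iff, inv_inv, mul_smul, mul_smul, inv_smul_eq_iff] at this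
  rw [this, one_smul]

/-- orbit-stabilizer for transitive groups -/
theorem card_eq [Finite G] (ht : IsPretransitive G Ω) (a : Ω) :
    Nat.card G = Nat.card Ω * Nat.card (stabilizer G a) := by
  have h1 := Subgroup.card_mul_index (stabilizer G a)
  rw [index_stabilizer_of_transitive] at h1
  rw [← h1, mul_comm]

theorem card_stabilizer_eq [Finite G] [Finite Ω] (ht : IsPretransitive G Ω) (a b : Ω) :
    Nat.card (stabilizer G a) = Nat.card (stabilizer G b) := by
  haveI : Nonempty Ω := ⟨a⟩
  have h1 := card_eq ht a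
  have h2 := card_eq ht b
  rw [h1] at h2
  exact Nat.eq_of_mul_eq_mul_left Nat.card_pos h2

/-- an abelian transitive group is regular: card -/
theorem card_abelian_trans [FaithfulSMul G Ω] [Finite G] {N : Subgroup G} (hN : IsPretransitive N Ω)
    (hab : ∀ x ∈ N, ∀ y ∈ N, x * y = y * x) (a : Ω) : Nat.card N = Nat.card Ω := by
  have h1 := card_eq hN a
  have h2 : Nat.card (stabilizer N a) = 1 := by
    rw [Subgroup.card_eq_one, eq_bot_iff]
    intro n hn
    rw [Subgroup.mem_bot]
    exact Subtype.ext (semireg hN (fun m hm => hab m hm n n.2) (a := a) hn)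
  rw [h1, h2, mul_one]

theorem ne_bot_of_nontrivial [ht : IsPretransitive G Ω] [hΩ : Nontrivial Ω] : (⊤ : Subgroup G) ≠ ⊥ := by
  intro h
  obtain ⟨a, b, hab⟩ := hΩ
  obtain ⟨g, hg⟩ := exists_smul_eq G a b
  have : g ∈ (⊥ : Subgroup G) := by rw [← h]; trivial
  rw [Subgroup.mem_bot] at this
  rw [this, one_smul] at hg
  exact hab hg

/-- stabilizers in a primitive group on a nontrivial set are maximal -/
theorem isCoatom_stabilizer (hprim : IsPreprimitive G Ω) [Nontrivial Ω] (a : Ω) : IsCoatom (stabilizer G a) := by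
  haveI := hprim
  exact IsPreprimitive.isCoatom_stabilizer_of_isPreprimitive (G := G) a

theorem card_mul_relIndex {K H : Subgroup G} (h : K ≤ H) : Nat.card K * K.relIndex H = Nat.card H := by
  have h1 := Subgroup.card_mul_index (K.subgroupOf H)
  rw [Nat.card_congr (Subgroup.subgroupOfEquivOfLe h).toEquiv] at h1
  exact h1

end Cfsg.Agent.H21.Prim
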