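import Mathlib
import Cfsg.Agent.H9_Frob

set_option autoImplicit false

namespace Cfsg.Agent.H9.Sharp2

open MulAction

theorem card_eq {G α : Type*} [Group G] [Fintype α] [MulAction G α] {k : ℕ}
    (h2 : IsMultiplyPretransitive G α k) (hn : k ≤ Fintype.card α)
    (hsharp : ∀ x : Fin k ↪ α, MulAction.stabilizer G x = ⊥) : Nat.card G = (Fintype.card α).descFactorial k := by
  classical
  obtain ⟨x⟩ : Nonempty (Fin k ↪ α) := Function.Embedding.nonempty_of_card_le (by rwa [Fintype.card_fin])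
  have e : G ≃ (Fin k ↪ α) := Equiv.ofBijective (fun g : G => g • x) ⟨by
    intro g h hgh
    have : h⁻¹ * g ∈ stabilizer G x := by
      rw [mem_stabilizer_iff, mul_smul, inv_smul_eq_iff]; exact hgh
    rw [hsharp, Subgroup.mem_bot] at this
    exact (inv_mul_eq_one.1 this).symm, fun y => h2.exists_smul_eq x y⟩
  rw [Nat.card_congr e, Nat.card_eq_fintype_card, Fintype.card_embedding_eq, Fintype.card_fin]

theorem sharp_iff {G α : Type*} [Group G] [MulAction G α]
    (hsharp : ∀ x : Fin 2 ↪ α, MulAction.stabilizer G x = ⊥) (g : G) (a b : α) (hab : a ≠ b)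
    (ha : g • a = a) (hb : g • b = b) : g = 1 := by
  let x : Fin 2 ↪ α := ⟨![a, b], by
    intro i j hij
    fin_cases i <;> fin_cases j <;> first | rfl | exact absurd hij hab | exact absurd hij.symm hab⟩
  have : g ∈ stabilizer G x := by
    rw [mem_stabilizer_iff]
    ext i
    change g • x i = x i
    fin_cases i
    · exact ha
    · exact hb
  rwa [hsharp, Subgroup.mem_bot] at this

theorem main {G α : Type*} [Group G] [Fintype α] [MulAction G α] [FaithfulSMul G α]
    (hG : IsMultiplyPretransitive G α 2) (hsharp : ∀ x : Fin 2 ↪ α, MulAction.stabilizer G x = ⊥) (h2 : 2 ≤ Fintype.card α) :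
    ∃ p j : ℕ, p.Prime ∧ 1 ≤ j ∧ Fintype.card α = p ^ j ∧ ∃ K : Subgroup G, K.Normal ∧ Nat.card K = p ^ j ∧
      IsMulCommutative K ∧ (∀ x ∈ K, x ^ p = 1) ∧ IsPretransitive K α ∧ (∀ a : α, stabilizer K a = ⊥) ∧
      (∀ g : G, g ∈ K ↔ g = 1 ∨ ∀ a : α, g • a ≠ a) ∧ Nat.card G = p ^ j * (p ^ j - 1) := by
  classical
  haveI : Finite G := by
    have := card_eq hG h2 hsharp
    apply Nat.finite_of_card_ne_zero
    rw [this]
    exact (Nat.descFactorial_pos.2 h2).ne'
  haveI htr : IsPretransitive G α := isPretransitive_of_is_two_pretransitive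
  have htop : IsPretransitive (⊤ : Subgroup G) α := ⟨fun x y => by
    obtain ⟨g, hg⟩ := htr.exists_smul_eq x y
    exact ⟨⟨g, trivial⟩, hg⟩⟩
  obtain ⟨K, hKn, -, hKmem, hKt, hKreg⟩ := H9.Frob.frob_kernel hG h2 (⊤ : Subgroup G) htop
    (fun x _ a b hab ha hb => sharp_iff hsharp x a b hab ha hb)
  obtain ⟨p, j, hp, hj, hcard, hcardK, hKc, hKp⟩ := H9.Frob.regular_normal_elementary hG h2 K hKt hKreg
  refine ⟨p, j, hp, hj, hcard, K, hKn, hcardK, hKc, hKp, hKt, hKreg, ?_, ?_⟩
  · intro g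
    rw [hKmem]
    simp
  · rw [card_eq hG h2 hsharp, hcard]
    simp only [Nat.descFactorial_succ, Nat.descFactorial_zero, mul_one, Nat.sub_zero]
    ring

end Cfsg.Agent.H9.Sharp2
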