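import Mathlib
import Cfsg.Agent.H21_Prim
import Cfsg.Agent.H9_Sharp2

set_option autoImplicit false

namespace Cfsg.Agent.H21.P17

open Matrix MulAction OnePoint

instance fact17 : Fact (Nat.Prime 17) := ⟨by norm_num⟩

abbrev K := ZMod 17
abbrev X := OnePoint K

/-- Moebius transformations as permutations -/
noncomputable def mob : GL (Fin 2) K →* Equiv.Perm X := MulAction.toPermHom _ _

theorem mob_apply (g : GL (Fin 2) K) (x : X) : mob g x = g • x := rfl

/-- affine maps `x ↦ u x + b` -/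
noncomputable def affM (u : Kˣ) (b : K) : GL (Fin 2) K :=
  GeneralLinearGroup.mkOfDetNeZero !![(u : K), b; 0, 1] (by simp [Matrix.det_fin_two])

noncomputable def aff (u : Kˣ) (b : K) : Equiv.Perm X := mob (affM u b)

theorem aff_infty (u : Kˣ) (b : K) : aff u b ∞ = ∞ := by
  rw [aff, mob_apply, smul_infty_eq_self_iff]
  rfl

theorem aff_coe (u : Kˣ) (b x : K) : aff u b (x : X) = ((u * x + b : K) : X) := by
  rw [aff, mob_apply, smul_some_eq_ite]
  have h1 : (affM u b) 1 0 = 0 := rfl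
  have h2 : (affM u b) 1 1 = 1 := rfl
  have h3 : (affM u b) 0 0 = u := rfl
  have h4 : (affM u b) 0 1 = b := rfl
  rw [h1, h2, h3, h4]
  simp

theorem aff_mul (u v : Kˣ) (b c : K) : aff u b * aff v c = aff (u * v) (u * c + b) := by
  apply Equiv.ext
  intro x
  rw [Equiv.Perm.mul_apply]
  induction x using OnePoint.rec with
  | infty => rw [aff_infty, aff_infty, aff_infty]
  | coe x =>
    rw [aff_coe, aff_coe, aff_coe]
    congr 1
    push_cast
    ring

theorem aff_one : aff 1 0 = 1 := by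
  apply Equiv.ext
  intro x
  induction x using OnePoint.rec with
  | infty => rw [aff_infty]; rfl
  | coe x => rw [aff_coe]; simp

theorem aff_inj {u v : Kˣ} {b c : K} (h : aff u b = aff v c) : u = v ∧ b = c := by
  have h0 := congrArg (fun f : Equiv.Perm X => f ((0 : K) : X)) h
  have h1 := congrArg (fun f : Equiv.Perm X => f ((1 : K) : X)) h
  simp only [aff_coe, OnePoint.coe_eq_coe, mul_zero, zero_add, mul_one] at h0 h1
  refine ⟨?_, h0⟩
  rw [h0] at h1
  exact Units.ext (add_right_cancel h1)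

/-- inversion -/
noncomputable def invM : GL (Fin 2) K := GeneralLinearGroup.mkOfDetNeZero !![0, 1; 1, 0] (by simp [Matrix.det_fin_two])

noncomputable def inv : Equiv.Perm X := mob invM

theorem inv_infty : inv ∞ = ((0 : K) : X) := by
  rw [inv, mob_apply, smul_infty_eq_ite]
  have h1 : invM 1 0 = 1 := rfl
  have h2 : invM 0 0 = 0 := rfl
  rw [h1, h2]; simp

theorem inv_zero : inv ((0 : K) : X) = ∞ := by
  rw [inv, mob_apply, smul_some_eq_ite]
  have h1 : invM 1 0 = 1 := rfl
  have h2 : invM 1 1 = 0 := rfl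
  rw [h1, h2]; simp

theorem inv_coe {x : K} (hx : x ≠ 0) : inv (x : X) = ((x⁻¹ : K) : X) := by
  rw [inv, mob_apply, smul_some_eq_ite]
  have h1 : invM 1 0 = 1 := rfl
  have h2 : invM 1 1 = 0 := rfl
  have h3 : invM 0 0 = 0 := rfl
  have h4 : invM 0 1 = 1 := rfl
  rw [h1, h2, h3, h4]; simp [hx]

/-- hypotheses on the permutation group -/
structure Hyp (Γ : Subgroup (Equiv.Perm X)) : Prop where
  tr : aff 1 1 ∈ Γ
  st : ∀ g ∈ Γ, g ∞ = ∞ → ∃ (u : Kˣ) (b : K), g = aff u b
  mv : ∃ g ∈ Γ, g ∞ ≠ ∞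

variable {Γ : Subgroup (Equiv.Perm X)}

theorem Hyp.trb (h : Hyp Γ) (b : K) : aff 1 b ∈ Γ := by
  have h1 : ∀ n : ℕ, aff 1 (n : K) ∈ Γ := by
    intro n
    induction n with
    | zero => rw [Nat.cast_zero, aff_one]; exact Γ.one_mem
    | succ n ih =>
      have h2 := Γ.mul_mem ih h.tr
      rw [aff_mul, one_mul] at h2
      have e : ((1 : Kˣ) : K) * (1 : K) + (n : K) = ((n + 1 : ℕ) : K) := by
        rw [Units.val_one]; push_cast; ring
      rwa [e] at h2
  have h2 := h1 b.val
  rwa [ZMod.natCast_zmod_val] at h2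

theorem Hyp.toInfty (h : Hyp Γ) (a : X) : ∃ g ∈ Γ, g a = ∞ := by
  obtain ⟨g0, hg0, hne⟩ := h.mv
  obtain ⟨y, hy⟩ := OnePoint.ne_infty_iff_exists.mp hne
  induction a using OnePoint.rec with
  | infty => exact ⟨1, Γ.one_mem, rfl⟩
  | coe x =>
    refine ⟨g0⁻¹ * aff 1 (y - x), Γ.mul_mem (Γ.inv_mem hg0) (h.trb _), ?_⟩
    rw [Equiv.Perm.mul_apply, aff_coe, Equiv.Perm.inv_eq_iff_eq, ← hy]
    congr 1
    simp

theorem Hyp.two (h : Hyp Γ) {a b : X} (hab : a ≠ b) : ∃ g ∈ Γ, g a = ∞ ∧ g b = ((0 : K) : X) := by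
  obtain ⟨g, hg, hga⟩ := h.toInfty a
  have hb : g b ≠ ∞ := by
    intro hb; rw [← hga] at hb; exact hab (g.injective hb).symm
  obtain ⟨y, hy⟩ := OnePoint.ne_infty_iff_exists.mp hb
  refine ⟨aff 1 (-y) * g, Γ.mul_mem (h.trb _) hg, ?_, ?_⟩
  · rw [Equiv.Perm.mul_apply, hga, aff_infty]
  · rw [Equiv.Perm.mul_apply, ← hy, aff_coe]
    congr 1
    simp

theorem Hyp.two' (h : Hyp Γ) {a b c d : X} (hab : a ≠ b) (hcd : c ≠ d) : ∃ g ∈ Γ, g a = c ∧ g b = d := by
  obtain ⟨g, hg, hga, hgb⟩ := h.two hab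
  obtain ⟨k, hk, hkc, hkd⟩ := h.two hcd
  refine ⟨k⁻¹ * g, Γ.mul_mem (Γ.inv_mem hk) hg, ?_, ?_⟩
  · rw [Equiv.Perm.mul_apply, hga, Equiv.Perm.inv_eq_iff_eq, hkc]
  · rw [Equiv.Perm.mul_apply, hgb, Equiv.Perm.inv_eq_iff_eq, hkd]

theorem Hyp.trans (h : Hyp Γ) : IsPretransitive Γ X := by
  refine ⟨fun a b => ?_⟩
  obtain ⟨g, hg, hga⟩ := h.toInfty a
  obtain ⟨k, hk, hkb⟩ := h.toInfty b
  refine ⟨⟨k⁻¹ * g, Γ.mul_mem (Γ.inv_mem hk) hg⟩, ?_⟩
  change (k⁻¹ * g) a = b
  rw [Equiv.Perm.mul_apply, hga, Equiv.Perm.inv_eq_iff_eq, hkb]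

theorem Hyp.two_trans (h : Hyp Γ) : IsMultiplyPretransitive Γ X 2 := by
  rw [is_two_pretransitive_iff]
  intro a b c d hab hcd
  obtain ⟨g, hg, h1, h2⟩ := h.two' hab hcd
  exact ⟨⟨g, hg⟩, h1, h2⟩

/-- the torus -/
def T (Γ : Subgroup (Equiv.Perm X)) : Subgroup Kˣ where
  carrier := {u | aff u 0 ∈ Γ}
  mul_mem' := by
    intro u v hu hv
    have := Γ.mul_mem hu hv
    rw [aff_mul] at this
    simpa using this
  one_mem' := by
    change aff 1 0 ∈ Γ
    rw [aff_one]; exact Γ.one_mem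
  inv_mem' := by
    intro u hu
    have h1 : (aff u 0)⁻¹ = aff u⁻¹ 0 := by
      rw [inv_eq_iff_mul_eq_one, aff_mul, ← aff_one]
      congr 1
      simp
    have := Γ.inv_mem hu
    rw [h1] at this
    exact this

theorem mem_T {u : Kˣ} : u ∈ T Γ ↔ aff u 0 ∈ Γ := Iff.rfl

theorem Hyp.aff_mem (h : Hyp Γ) {u : Kˣ} {b : K} : aff u b ∈ Γ ↔ u ∈ T Γ := by
  have h1 : aff u b = aff 1 b * aff u 0 := by
    rw [aff_mul]; simp
  rw [h1, mem_T]
  constructor
  · intro h2
    have := Γ.mul_mem (Γ.inv_mem (h.trb b)) h2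
    simpa using this
  · intro h2
    exact Γ.mul_mem (h.trb b) h2

theorem card_X : Nat.card X = 18 := by
  have : Nat.card (Option K) = 18 := by
    rw [Finite.card_option, Nat.card_eq_fintype_card, ZMod.card]
  exact this

noncomputable instance : Fintype X := inferInstanceAs (Fintype (Option K))

theorem fcard_X : Fintype.card X = 18 := by
  rw [← Nat.card_eq_fintype_card]; exact card_X

theorem Hyp.card_stab (h : Hyp Γ) : Nat.card (stabilizer Γ (∞ : X)) = 17 * Nat.card (T Γ) := by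
  let f : T Γ × K → stabilizer Γ (∞ : X) := fun x =>
    ⟨⟨aff x.1 x.2, h.aff_mem.mpr x.1.2⟩, by
      rw [mem_stabilizer_iff]; exact aff_infty _ _⟩
  have hf : Function.Bijective f := by
    constructor
    · rintro ⟨⟨u, hu⟩, b⟩ ⟨⟨v, hv⟩, c⟩ hx
      have h1 : aff u b = aff v c := congrArg (fun z : stabilizer Γ (∞ : X) => ((z : Γ) : Equiv.Perm X)) hx
      obtain ⟨rfl, rfl⟩ := aff_inj h1
      rfl
    · rintro ⟨⟨g, hg⟩, hgs⟩
      obtain ⟨u, b, rfl⟩ := h.st g hg hgs
      exact ⟨⟨⟨u, h.aff_mem.mp hg⟩, b⟩, rfl⟩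
  rw [← Nat.card_congr (Equiv.ofBijective f hf), Nat.card_prod, Nat.card_eq_fintype_card (α := K), ZMod.card, mul_comm]

theorem Hyp.card (h : Hyp Γ) : Nat.card Γ = 306 * Nat.card (T Γ) := by
  rw [H21.Prim.card_eq h.trans (∞ : X), card_X, h.card_stab]
  ring

/-- fixing two points -/
theorem Hyp.card_fix (h : Hyp Γ) {a b : X} (hab : a ≠ b) :
    Nat.card {g : Γ // (g : Equiv.Perm X) a = a ∧ (g : Equiv.Perm X) b = b} ≤ Nat.card (T Γ) := by
  obtain ⟨k, hk, hka, hkb⟩ := h.two hab
  have hka' : k⁻¹ ∞ = a := by rw [Equiv.Perm.inv_eq_iff_eq, hka]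
  have hkb' : k⁻¹ ((0 : K) : X) = b := by rw [Equiv.Perm.inv_eq_iff_eq, hkb]
  have key : ∀ g : {g : Γ // (g : Equiv.Perm X) a = a ∧ (g : Equiv.Perm X) b = b},
      ∃ u : T Γ, k * g * k⁻¹ = aff u 0 := by
    rintro ⟨⟨g, hg⟩, hga, hgb⟩
    have hm : k * g * k⁻¹ ∈ Γ := Γ.mul_mem (Γ.mul_mem hk hg) (Γ.inv_mem hk)
    have hga' : g a = a := hga
    have hgb' : g b = b := hgb
    obtain ⟨u, c, hu⟩ := h.st _ hm (by
      rw [Equiv.Perm.mul_apply, Equiv.Perm.mul_apply, hka', hga', hka])
    have h0 : (k * g * k⁻¹) ((0 : K) : X) = ((0 : K) : X) := by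
      rw [Equiv.Perm.mul_apply, Equiv.Perm.mul_apply, hkb', hgb', hkb]
    rw [hu, aff_coe, OnePoint.coe_eq_coe, mul_zero, zero_add] at h0
    rw [h0] at hu
    exact ⟨⟨u, by rw [mem_T, ← hu]; exact hm⟩, hu⟩
  choose f hf using key
  apply Nat.card_le_card_of_injective f
  intro g g' hgg
  have h1 := hf g
  rw [hgg, ← hf g'] at h1
  have h2 : ((g : Γ) : Equiv.Perm X) = ((g' : Γ) : Equiv.Perm X) := by
    have := mul_right_cancel h1
    exact mul_left_cancel this
  exact Subtype.ext (Subtype.ext h2)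

theorem Hyp.card_swap (h : Hyp Γ) {a b : X} (hab : a ≠ b) :
    Nat.card {g : Γ // (g : Equiv.Perm X) a = b ∧ (g : Equiv.Perm X) b = a} ≤ Nat.card (T Γ) := by
  rcases isEmpty_or_nonempty {g : Γ // (g : Equiv.Perm X) a = b ∧ (g : Equiv.Perm X) b = a} with he | ⟨⟨g0, hg0a, hg0b⟩⟩
  · rw [Nat.card_of_isEmpty]; exact Nat.zero_le _
  · refine le_trans ?_ (h.card_fix hab)
    let f : {g : Γ // (g : Equiv.Perm X) a = b ∧ (g : Equiv.Perm X) b = a} →
        {g : Γ // (g : Equiv.Perm X) a = a ∧ (g : Equiv.Perm X) b = b} := fun g =>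
      ⟨g0⁻¹ * g.1, by
        constructor
        · change ((g0 : Equiv.Perm X)⁻¹ * (g.1 : Equiv.Perm X)) a = a
          rw [Equiv.Perm.mul_apply, g.2.1, Equiv.Perm.inv_eq_iff_eq, hg0a]
        · change ((g0 : Equiv.Perm X)⁻¹ * (g.1 : Equiv.Perm X)) b = b
          rw [Equiv.Perm.mul_apply, g.2.2, Equiv.Perm.inv_eq_iff_eq, hg0b]⟩
    apply Nat.card_le_card_of_injective f
    intro g g' hgg
    have h1 : g0⁻¹ * g.1 = g0⁻¹ * g'.1 := congrArg Subtype.val hgg
    exact Subtype.ext (mul_left_cancel h1)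

theorem neg_ne {x : K} (hx : x ≠ 0) : -x ≠ x := by
  intro h
  have h2 : (2 : K) * x = 0 := by linear_combination -h
  have h3 : (2 : K) ≠ 0 := by decide
  rcases mul_eq_zero.mp h2 with h4 | h4
  · exact h3 h4
  · exact hx h4

theorem neg_fix (x : X) : aff (-1) 0 x = x ↔ x = ∞ ∨ x = ((0 : K) : X) := by
  induction x using OnePoint.rec with
  | infty => simp [aff_infty]
  | coe x =>
    rw [aff_coe]
    simp only [OnePoint.coe_eq_coe, OnePoint.coe_ne_infty, false_or]
    constructor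
    · intro h
      by_contra hx
      apply neg_ne hx
      simpa using h
    · rintro rfl; simp

theorem neg_sq : aff (-1) 0 * aff (-1) 0 = 1 := by
  rw [aff_mul, ← aff_one]; simp

open Classical in
/-- the counting argument: even torus has order at least 8 -/
theorem Hyp.eight_le (h : Hyp Γ) (hneg : (-1 : Kˣ) ∈ T Γ) : 8 ≤ Nat.card (T Γ) := by
  haveI : Fintype Γ := Fintype.ofFinite _
  set m := Nat.card (T Γ) with hm
  set t : Γ := ⟨aff (-1) 0, hneg⟩ with ht
  let I : Finset Γ := Finset.univ.image (fun g : Γ => g * t * g⁻¹)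
  -- fibres
  have hfib : ∀ i ∈ I, (Finset.univ.filter (fun g : Γ => g * t * g⁻¹ = i)).card ≤ 2 * m := by
    intro i hi
    obtain ⟨g0, -, rfl⟩ := Finset.mem_image.mp hi
    have h0 : (∞ : X) ≠ ((0 : K) : X) := OnePoint.infty_ne_coe _
    let A : Finset Γ := Finset.univ.filter (fun g : Γ => (g : Equiv.Perm X) ∞ = ∞ ∧ (g : Equiv.Perm X) ((0 : K) : X) = ((0 : K) : X))
    let B : Finset Γ := Finset.univ.filter (fun g : Γ => (g : Equiv.Perm X) ∞ = ((0 : K) : X) ∧ (g : Equiv.Perm X) ((0 : K) : X) = ∞)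
    have hA : A.card ≤ m := by
      have := h.card_fix h0
      rw [Nat.card_eq_fintype_card, Fintype.card_subtype] at this
      exact this
    have hB : B.card ≤ m := by
      have := h.card_swap h0
      rw [Nat.card_eq_fintype_card, Fintype.card_subtype] at this
      exact this
    have hsub : (Finset.univ.filter (fun g : Γ => g * t * g⁻¹ = g0 * t * g0⁻¹)).card ≤ (A ∪ B).card := by
      apply Finset.card_le_card_of_injOn (fun g => g0⁻¹ * g)
      · intro g hg
        rw [Finset.mem_coe, Finset.mem_filter] at hg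
        have hc : (g0⁻¹ * g) * t = t * (g0⁻¹ * g) := by
          have h1 := hg.2
          calc (g0⁻¹ * g) * t = g0⁻¹ * (g * t * g⁻¹) * g := by group
            _ = g0⁻¹ * (g0 * t * g0⁻¹) * g := by rw [h1]
            _ = t * (g0⁻¹ * g) := by group
        have hcx : ∀ x : X, ((g0⁻¹ * g : Γ) : Equiv.Perm X) (aff (-1) 0 x) = aff (-1) 0 (((g0⁻¹ * g : Γ) : Equiv.Perm X) x) := by
          intro x
          have h2 := congrArg (fun z : Γ => (z : Equiv.Perm X) x) hc
          exact h2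
        have hfix : ∀ x : X, (x = ∞ ∨ x = ((0 : K) : X)) → (((g0⁻¹ * g : Γ) : Equiv.Perm X) x = ∞ ∨ ((g0⁻¹ * g : Γ) : Equiv.Perm X) x = ((0 : K) : X)) := by
          intro x hx
          rw [← neg_fix] at hx ⊢
          rw [← hcx, hx]
        have e1 := hfix ∞ (Or.inl rfl)
        have e2 := hfix ((0 : K) : X) (Or.inr rfl)
        have hne : ((g0⁻¹ * g : Γ) : Equiv.Perm X) ∞ ≠ ((g0⁻¹ * g : Γ) : Equiv.Perm X) ((0 : K) : X) :=
          fun h => h0 (Equiv.injective _ h)
        rw [Finset.mem_coe, Finset.mem_union, Finset.mem_filter, Finset.mem_filter]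
        rcases e1 with e1 | e1 <;> rcases e2 with e2 | e2
        · exact absurd (e1.trans e2.symm) hne
        · left; exact ⟨Finset.mem_univ _, e1, e2⟩
        · right; exact ⟨Finset.mem_univ _, e1, e2⟩
        · exact absurd (e1.trans e2.symm) hne
      · intro g _ g' _ hgg
        exact mul_left_cancel hgg
    have := Finset.card_union_le A B
    omega
  have h1 := Finset.card_le_mul_card_image (s := (Finset.univ : Finset Γ)) (f := fun g : Γ => g * t * g⁻¹) (2 * m) hfib
  rw [Finset.card_univ, ← Nat.card_eq_fintype_card, h.card] at h1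
  have hmpos : 0 < m := Nat.card_pos
  have hI : 153 ≤ I.card := by
    by_contra hcon
    push Not at hcon
    have h1' : 306 * m ≤ 2 * m * I.card := h1
    have : 2 * m * I.card ≤ 2 * m * 152 := Nat.mul_le_mul_left _ (by omega)
    omega
  -- double count
  let S : Finset (Γ × X) := (I ×ˢ Finset.univ).filter (fun y => (y.1 : Equiv.Perm X) y.2 ≠ y.2)
  have hS : S.card = 16 * I.card := by
    have h2 : S.card = ∑ i ∈ I, (Finset.univ.filter (fun a : X => (i : Equiv.Perm X) a ≠ a)).card := by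
      rw [Finset.card_filter, Finset.sum_product]
      apply Finset.sum_congr rfl
      intro i _
      rw [Finset.card_filter]
    rw [h2]
    have h3 : ∀ i ∈ I, (Finset.univ.filter (fun a : X => (i : Equiv.Perm X) a ≠ a)).card = 16 := by
      intro i hi
      obtain ⟨g0, -, rfl⟩ := Finset.mem_image.mp hi
      have h4 : (Finset.univ.filter (fun a : X => ((g0 * t * g0⁻¹ : Γ) : Equiv.Perm X) a ≠ a)) =
          (Finset.univ.filter (fun a : X => (aff (-1) 0) a ≠ a)).map (g0 : Equiv.Perm X).toEmbedding := by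
        ext a
        simp only [Finset.mem_filter, Finset.mem_univ, true_and, Finset.mem_map, Equiv.coe_toEmbedding]
        constructor
        · intro h5
          refine ⟨(g0 : Equiv.Perm X)⁻¹ a, ?_, ?_⟩
          · intro h6
            apply h5
            change (g0 : Equiv.Perm X) (aff (-1) 0 ((g0 : Equiv.Perm X)⁻¹ a)) = a
            rw [h6, ← Equiv.Perm.mul_apply, mul_inv_cancel, Equiv.Perm.one_apply]
          · rw [← Equiv.Perm.mul_apply, mul_inv_cancel, Equiv.Perm.one_apply]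
        · rintro ⟨b, hb, rfl⟩ h5
          apply hb
          have h6 : (g0 : Equiv.Perm X) (aff (-1) 0 ((g0 : Equiv.Perm X)⁻¹ ((g0 : Equiv.Perm X) b))) = (g0 : Equiv.Perm X) b := h5
          rw [← Equiv.Perm.mul_apply (g0 : Equiv.Perm X)⁻¹, inv_mul_cancel, Equiv.Perm.one_apply] at h6
          exact (g0 : Equiv.Perm X).injective h6
      rw [h4, Finset.card_map]
      have h5 : (Finset.univ.filter (fun a : X => (aff (-1) 0) a ≠ a)) = Finset.univ \ {(∞ : X), ((0 : K) : X)} := by
        ext a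
        simp only [Finset.mem_filter, Finset.mem_univ, true_and, Finset.mem_sdiff, Finset.mem_insert, Finset.mem_singleton]
        rw [Ne, neg_fix]
      rw [h5, Finset.card_sdiff_of_subset (Finset.subset_univ _), Finset.card_univ, fcard_X, Finset.card_pair (OnePoint.infty_ne_coe _)]
    rw [Finset.sum_congr rfl h3, Finset.sum_const, smul_eq_mul, mul_comm]
  have hS2 : S.card ≤ m * (Finset.univ : Finset X).offDiag.card := by
    apply Finset.card_le_mul_card_image_of_maps_to (f := fun y : Γ × X => (y.2, (y.1 : Equiv.Perm X) y.2))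
    · intro y hy
      rw [Finset.mem_filter] at hy
      rw [Finset.mem_offDiag]
      exact ⟨Finset.mem_univ _, Finset.mem_univ _, fun h => hy.2 h.symm⟩
    · rintro ⟨a, b⟩ hab
      rw [Finset.mem_offDiag] at hab
      have h6 := h.card_swap hab.2.2
      rw [Nat.card_eq_fintype_card, Fintype.card_subtype] at h6
      refine le_trans ?_ h6
      apply Finset.card_le_card_of_injOn (fun y : Γ × X => y.1)
      · rintro ⟨i, x⟩ hy
        rw [Finset.mem_coe, Finset.mem_filter] at hy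
        obtain ⟨hyS, hye⟩ := hy
        rw [Finset.mem_filter, Finset.mem_product] at hyS
        have hx : x = a := congrArg Prod.fst hye
        have hix : (i : Equiv.Perm X) x = b := congrArg Prod.snd hye
        subst hx
        rw [Finset.mem_coe, Finset.mem_filter]
        refine ⟨Finset.mem_univ _, hix, ?_⟩
        obtain ⟨g0, -, hg0⟩ := Finset.mem_image.mp hyS.1.1
        have hg0' : g0 * t * g0⁻¹ = i := hg0
        have hi2 : i * i = 1 := by
          rw [← hg0']
          have htt : t * t = 1 := Subtype.ext neg_sq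
          calc g0 * t * g0⁻¹ * (g0 * t * g0⁻¹) = g0 * (t * t) * g0⁻¹ := by group
            _ = 1 := by rw [htt]; group
        have h7 : ((i * i : Γ) : Equiv.Perm X) x = x := by rw [hi2]; rfl
        change (i : Equiv.Perm X) ((i : Equiv.Perm X) x) = x at h7
        rw [hix] at h7
        exact h7
      · rintro ⟨i, x⟩ hy ⟨j, y⟩ hy' hij
        rw [Finset.mem_coe, Finset.mem_filter] at hy hy'
        have e1 : x = a := congrArg Prod.fst hy.2
        have e2 : y = a := congrArg Prod.fst hy'.2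
        have e3 : i = j := hij
        rw [e1, e2, e3]
  rw [Finset.offDiag_card, Finset.card_univ, fcard_X, hS] at hS2
  omega

/-- the torus has index at most two -/
theorem Hyp.index_le (h : Hyp Γ) : (T Γ).index ≤ 2 := by
  classical
  have hK : Nat.card Kˣ = 16 := by
    rw [Nat.card_eq_fintype_card, ZMod.card_units_eq_totient]; rfl
  have hm := (T Γ).card_mul_index
  rw [hK] at hm
  by_cases h1 : Nat.card (T Γ) = 1
  · exfalso
    -- sharply 2-transitive
    have hsharp : ∀ x : Fin 2 ↪ X, MulAction.stabilizer Γ x = ⊥ := by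
      intro x
      rw [eq_bot_iff]
      rintro g hg
      rw [Subgroup.mem_bot]
      have hx : x 0 ≠ x 1 := fun h => by have := x.injective h; exact absurd this (by decide)
      have h2 := h.card_fix hx
      rw [h1] at h2
      have h3 : Subsingleton {g : Γ // (g : Equiv.Perm X) (x 0) = (x 0) ∧ (g : Equiv.Perm X) (x 1) = (x 1)} := by
        rw [← Finite.card_le_one_iff_subsingleton]; exact h2
      have hg' : ∀ i, (g : Equiv.Perm X) (x i) = x i := by
        intro i
        have := congrArg (fun z : Fin 2 ↪ X => z i) hg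
        exact this
      have h4 := @Subsingleton.elim _ h3 ⟨g, hg' 0, hg' 1⟩ ⟨1, rfl, rfl⟩
      exact congrArg Subtype.val h4
    obtain ⟨p, j, hp, hj, hcard, -⟩ := H9.Sharp2.main (G := Γ) (α := X) h.two_trans hsharp (by rw [fcard_X]; norm_num)
    rw [fcard_X] at hcard
    have e2 : 2 ∣ p ^ j := by rw [← hcard]; norm_num
    have e3 : 3 ∣ p ^ j := by rw [← hcard]; norm_num
    have f2 := (Nat.prime_dvd_prime_iff_eq Nat.prime_two hp).mp (Nat.prime_two.dvd_of_dvd_pow e2)
    have f3 := (Nat.prime_dvd_prime_iff_eq Nat.prime_three hp).mp (Nat.prime_three.dvd_of_dvd_pow e3)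
    omega
  · have h2 : 2 ∣ Nat.card (T Γ) := by
      have h3 : Nat.card (T Γ) ∣ 2 ^ 4 := ⟨_, by rw [hm]; norm_num⟩
      obtain ⟨i, -, hi⟩ := (Nat.dvd_prime_pow Nat.prime_two).mp h3
      rw [hi]
      apply dvd_pow_self
      rintro rfl
      exact h1 (by rw [hi, pow_zero])
    obtain ⟨⟨u, hu⟩, huo⟩ := exists_prime_orderOf_dvd_card' (G := T Γ) 2 h2
    have hu2 : u ^ 2 = 1 := by
      have := pow_orderOf_eq_one (⟨u, hu⟩ : T Γ)
      rw [huo] at this
      exact congrArg Subtype.val this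
    have hu1 : u ≠ 1 := by
      rintro rfl
      have : (⟨1, hu⟩ : T Γ) = 1 := rfl
      rw [this, orderOf_one] at huo
      omega
    have hneg : u = -1 := by
      have h3 : ((u : K) - 1) * ((u : K) + 1) = 0 := by
        have h4 : (u : K) ^ 2 = 1 := by rw [← Units.val_pow_eq_pow_val, hu2]; rfl
        linear_combination h4
      rcases mul_eq_zero.mp h3 with h4 | h4
      · exact absurd (Units.ext (by simpa using sub_eq_zero.mp h4)) hu1
      · apply Units.ext
        rw [Units.val_neg, Units.val_one]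
        linear_combination h4
    rw [hneg] at hu
    have h3 := h.eight_le hu
    by_contra h4
    push Not at h4
    have h5 : 8 * 3 ≤ Nat.card (T Γ) * (T Γ).index := Nat.mul_le_mul h3 h4
    omega

end Cfsg.Agent.H21.P17
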