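import Mathlib
import Cfsg.Agent.H21_P17a

set_option autoImplicit false

namespace Cfsg.Agent.H21.P17

open Matrix MulAction OnePoint

/-- candidates for the inversion -/
def W (k e x : K) : K :=
  ([0, 1, k ^ 7, e, k ^ 6, k ^ 2 * e, k ^ 7 * e, k ^ 5 * e, k ^ 5, k, k * e, k ^ 3 * e, k ^ 6 * e, k ^ 2, k ^ 4 * e,
    k ^ 3, k ^ 4] : List K).getD x.val 0

theorem W_solution : ∀ k e : K, k ^ 4 = -1 → (∀ x : K, x ≠ 0 → x ≠ -1 → W k e (W k e x + 1) + W k e (x + 1) = 1) → k = 2 ∧ e = 6 := by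
  decide +kernel

theorem W_inv : ∀ x : K, x ≠ 0 → W 2 6 x = x⁻¹ := by
  decide +kernel

variable {Γ : Subgroup (Equiv.Perm X)}

theorem apply_inv (g : Equiv.Perm X) (x : X) : g (g⁻¹ x) = x := by
  rw [← Equiv.Perm.mul_apply, mul_inv_cancel, Equiv.Perm.one_apply]

theorem inv_apply (g : Equiv.Perm X) (x : X) : g⁻¹ (g x) = x := by
  rw [← Equiv.Perm.mul_apply, inv_mul_cancel, Equiv.Perm.one_apply]

/-- elements fixing `∞` and `0` -/
theorem Hyp.fix2 (h : Hyp Γ) {g : Equiv.Perm X} (hg : g ∈ Γ) (h1 : g ∞ = ∞) (h2 : g ((0 : K) : X) = ((0 : K) : X)) :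
    ∃ u ∈ T Γ, g = aff u 0 := by
  obtain ⟨u, b, rfl⟩ := h.st g hg h1
  rw [aff_coe, OnePoint.coe_eq_coe, mul_zero, zero_add] at h2
  subst h2
  exact ⟨u, hg, rfl⟩

/-- swapping elements normalize the torus -/
theorem Hyp.conj (h : Hyp Γ) {w : Equiv.Perm X} (hw : w ∈ Γ) (h1 : w ∞ = ((0 : K) : X)) (h2 : w ((0 : K) : X) = ∞)
    {u : Kˣ} (hu : u ∈ T Γ) : ∃ v ∈ T Γ, w * aff u 0 * w⁻¹ = aff v 0 := by
  have e1 : w⁻¹ ∞ = ((0 : K) : X) := by rw [Equiv.Perm.inv_eq_iff_eq, h2]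
  have e2 : w⁻¹ ((0 : K) : X) = ∞ := by rw [Equiv.Perm.inv_eq_iff_eq, h1]
  apply h.fix2 (Γ.mul_mem (Γ.mul_mem hw hu) (Γ.inv_mem hw))
  · rw [Equiv.Perm.mul_apply, Equiv.Perm.mul_apply, e1, aff_coe]
    simp [h2]
  · rw [Equiv.Perm.mul_apply, Equiv.Perm.mul_apply, e2, aff_infty, h1]

theorem Hyp.sq_mem (h : Hyp Γ) (u : Kˣ) : u ^ 2 ∈ T Γ := by
  have h1 := h.index_le
  have h0 : (T Γ).index ≠ 0 := Subgroup.index_ne_zero_of_finite
  have h2 : (T Γ).index = 1 ∨ (T Γ).index = 2 := by omega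
  rcases h2 with h2 | h2
  · rw [Subgroup.index_eq_one] at h2
    rw [h2]; trivial
  · exact Subgroup.sq_mem_of_index_two h2 u

theorem Hyp.neg_mem (h : Hyp Γ) : (-1 : Kˣ) ∈ T Γ := by
  have h1 := h.sq_mem (ZMod.unitOfCoprime 4 (by norm_num))
  have h2 : (ZMod.unitOfCoprime 4 (by norm_num) : Kˣ) ^ 2 = -1 := by decide +kernel
  rwa [h2] at h1

theorem Hyp.neg_comm (h : Hyp Γ) {w : Equiv.Perm X} (hw : w ∈ Γ) (h1 : w ∞ = ((0 : K) : X)) (h2 : w ((0 : K) : X) = ∞)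
    (x : X) : w (aff (-1) 0 x) = aff (-1) 0 (w x) := by
  obtain ⟨v, hv, hvw⟩ := h.conj hw h1 h2 h.neg_mem
  have hv2 : v ^ 2 = 1 := by
    have e1 : (w * aff (-1) 0 * w⁻¹) * (w * aff (-1) 0 * w⁻¹) = 1 := by
      calc (w * aff (-1) 0 * w⁻¹) * (w * aff (-1) 0 * w⁻¹) = w * (aff (-1) 0 * aff (-1) 0) * w⁻¹ := by group
        _ = 1 := by rw [neg_sq]; group
    rw [hvw, aff_mul, ← aff_one] at e1
    have := (aff_inj e1).1
    rw [pow_two]; exact this
  have hv1 : v ≠ 1 := by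
    rintro rfl
    rw [aff_one] at hvw
    have : aff (-1) 0 = 1 := by
      calc aff (-1) 0 = w⁻¹ * (w * aff (-1) 0 * w⁻¹) * w := by group
        _ = 1 := by rw [hvw]; group
    rw [← aff_one] at this
    have := (aff_inj this).1
    exact absurd this (by decide)
  have hneg : v = -1 := by
    have h3 : ((v : K) - 1) * ((v : K) + 1) = 0 := by
      have h4 : (v : K) ^ 2 = 1 := by rw [← Units.val_pow_eq_pow_val, hv2]; rfl
      linear_combination h4
    rcases mul_eq_zero.mp h3 with h4 | h4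
    · exact absurd (Units.ext (by simpa using sub_eq_zero.mp h4)) hv1
    · apply Units.ext
      rw [Units.val_neg, Units.val_one]
      linear_combination h4
  rw [hneg] at hvw
  have h3 : w * aff (-1) 0 = aff (-1) 0 * w := by
    calc w * aff (-1) 0 = (w * aff (-1) 0 * w⁻¹) * w := by group
      _ = aff (-1) 0 * w := by rw [hvw]
  exact congrArg (fun g : Equiv.Perm X => g x) h3

/-- structural equation -/
theorem Hyp.struct (h : Hyp Γ) {w : Equiv.Perm X} (hw : w ∈ Γ) (h1 : w ∞ = ((0 : K) : X)) (h2 : w ((0 : K) : X) = ∞)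
    {c y : K} (hc : w ((1 : K) : X) = (c : X)) (hy : w (y : X) = ((-1 : K) : X)) :
    ∃ u ∈ T Γ, ∀ x : X, w (aff 1 1 (w (aff 1 y x))) = aff 1 c (aff u 0 (w x)) := by
  have e1 : w⁻¹ ∞ = ((0 : K) : X) := by rw [Equiv.Perm.inv_eq_iff_eq, h2]
  have e2 : w⁻¹ ((0 : K) : X) = ∞ := by rw [Equiv.Perm.inv_eq_iff_eq, h1]
  have hinv : ∀ b x, (aff 1 b)⁻¹ x = aff 1 (-b) x := by
    intro b x
    have : (aff 1 b)⁻¹ = aff 1 (-b) := by
      rw [inv_eq_iff_mul_eq_one, aff_mul, ← aff_one]; simp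
    rw [this]
  obtain ⟨u, hu, hue⟩ := h.fix2 (g := (aff 1 c)⁻¹ * w * aff 1 1 * w * aff 1 y * w⁻¹)
    (Γ.mul_mem (Γ.mul_mem (Γ.mul_mem (Γ.mul_mem (Γ.mul_mem (Γ.inv_mem (h.trb c)) hw) h.tr) hw) (h.trb y)) (Γ.inv_mem hw))
    (by
      simp only [Equiv.Perm.mul_apply]
      rw [e1, aff_coe]
      simp only [Units.val_one, mul_zero, zero_add]
      rw [hy, aff_coe]
      simp only [Units.val_one, mul_neg, mul_one, neg_add_cancel]
      rw [h2, Equiv.Perm.inv_eq_iff_eq, aff_infty])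
    (by
      simp only [Equiv.Perm.mul_apply]
      rw [e2, aff_infty, h1, aff_coe]
      simp only [Units.val_one, mul_zero, zero_add]
      rw [hc, Equiv.Perm.inv_eq_iff_eq, aff_coe]
      simp)
  refine ⟨u, hu, fun x => ?_⟩
  have h3 := congrArg (fun g : Equiv.Perm X => aff 1 c (g (w x))) hue
  simp only [Equiv.Perm.mul_apply] at h3
  rw [inv_apply, apply_inv] at h3
  exact h3

theorem Hyp.exists_w (h : Hyp Γ) : ∃ w ∈ Γ, w ∞ = ((0 : K) : X) ∧ w ((0 : K) : X) = ∞ ∧ w ((1 : K) : X) = ((1 : K) : X) := by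
  obtain ⟨w, hw, h1, h2⟩ := h.two' (a := ∞) (b := ((0 : K) : X)) (c := ((0 : K) : X)) (d := ∞)
    (OnePoint.infty_ne_coe _) (OnePoint.coe_ne_infty _)
  have hfin : ∀ x : K, x ≠ 0 → ∃ y : K, y ≠ 0 ∧ w (x : X) = (y : X) := by
    intro x hx
    have hne : w (x : X) ≠ ∞ := by
      intro h3
      rw [← h2] at h3
      exact hx (OnePoint.coe_eq_coe.mp (w.injective h3))
    obtain ⟨y, hy⟩ := OnePoint.ne_infty_iff_exists.mp hne
    refine ⟨y, ?_, hy.symm⟩
    rintro rfl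
    rw [← h1] at hy
    exact OnePoint.infty_ne_coe _ (w.injective hy)
  obtain ⟨c, hc0, hc⟩ := hfin 1 one_ne_zero
  -- y with w y = -1
  obtain ⟨y, hy⟩ : ∃ y : K, w (y : X) = ((-1 : K) : X) := by
    have hne : w⁻¹ ((-1 : K) : X) ≠ ∞ := by
      intro h3
      rw [Equiv.Perm.inv_eq_iff_eq, h1, OnePoint.coe_eq_coe] at h3
      exact absurd h3 (by decide)
    obtain ⟨y, hy⟩ := OnePoint.ne_infty_iff_exists.mp hne
    refine ⟨y, ?_⟩
    rw [hy, apply_inv]
  obtain ⟨u, hu, hs⟩ := h.struct hw h1 h2 hc hy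
  have h3 := hs ((-y : K) : X)
  have h4 : w ((-y : K) : X) = ((1 : K) : X) := by
    have h5 := h.neg_comm hw h1 h2 (y : X)
    rw [hy, aff_coe, aff_coe] at h5
    simpa using h5
  rw [h4, aff_coe, aff_coe, aff_coe] at h3
  simp only [Units.val_one, one_mul, neg_add_cancel] at h3
  rw [h2, aff_infty, h1, OnePoint.coe_eq_coe] at h3
  simp only [mul_one, add_zero] at h3
  have huc : (u : K) = -c := by linear_combination -h3
  let c' : Kˣ := Units.mk0 c hc0
  have hc'T : c' ∈ T Γ := by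
    have h5 : u = -1 * c' := by
      apply Units.ext
      rw [Units.val_mul, Units.val_neg, Units.val_one, huc]
      simp [c']
    have h6 : c' = -1 * u := by rw [h5, ← mul_assoc, neg_mul_neg, one_mul, one_mul]
    rw [h6]
    exact (T Γ).mul_mem h.neg_mem hu
  refine ⟨aff c'⁻¹ 0 * w, Γ.mul_mem ((T Γ).inv_mem hc'T) hw, ?_, ?_, ?_⟩
  · rw [Equiv.Perm.mul_apply, h1, aff_coe, mul_zero, add_zero]
  · rw [Equiv.Perm.mul_apply, h2, aff_infty]
  · rw [Equiv.Perm.mul_apply, hc, aff_coe, OnePoint.coe_eq_coe, add_zero]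
    have : ((c' : Kˣ) : K) = c := rfl
    rw [← this, ← Units.val_mul, inv_mul_cancel, Units.val_one]

theorem Hyp.inv_mem (h : Hyp Γ) : inv ∈ Γ := by
  obtain ⟨w, hw, h1, h2, h3⟩ := h.exists_w
  have hm1 : w ((-1 : K) : X) = ((-1 : K) : X) := by
    have h5 := h.neg_comm hw h1 h2 ((1 : K) : X)
    rw [h3, aff_coe] at h5
    simpa using h5
  obtain ⟨u, hu, hs⟩ := h.struct hw h1 h2 h3 hm1
  have hu1 : (u : K) = -1 := by
    have h4 := hs ((1 : K) : X)
    rw [aff_coe] at h4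
    simp only [Units.val_one, one_mul, add_neg_cancel] at h4
    rw [h2, aff_infty, h1, h3, aff_coe, aff_coe, OnePoint.coe_eq_coe] at h4
    simp only [Units.val_one, one_mul, mul_one, add_zero] at h4
    linear_combination -h4
  -- the torus element 9
  let n9 : Kˣ := (ZMod.unitOfCoprime 3 (by norm_num)) ^ 2
  have hn9 : n9 ∈ T Γ := h.sq_mem _
  have hn9v : (n9 : K) = 9 := by decide +kernel
  obtain ⟨k', hk', hkw⟩ := h.conj hw h1 h2 hn9
  set k : K := (k' : K) with hk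
  have hw9 : ∀ x y : K, w (x : X) = (y : X) → w ((9 * x : K) : X) = ((k * y : K) : X) := by
    intro x y hxy
    have h4 : w * aff n9 0 = aff k' 0 * w := by rw [← hkw]; group
    have h5 := congrArg (fun g : Equiv.Perm X => g (x : X)) h4
    simp only [Equiv.Perm.mul_apply] at h5
    rw [aff_coe, hxy, aff_coe, hn9v] at h5
    simpa using h5
  have hfin : ∀ x : K, x ≠ 0 → ∃ y : K, y ≠ 0 ∧ w (x : X) = (y : X) := by
    intro x hx
    have hne : w (x : X) ≠ ∞ := by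
      intro h3
      rw [← h2] at h3
      exact hx (OnePoint.coe_eq_coe.mp (w.injective h3))
    obtain ⟨y, hy⟩ := OnePoint.ne_infty_iff_exists.mp hne
    refine ⟨y, ?_, hy.symm⟩
    rintro rfl
    rw [← h1] at hy
    exact OnePoint.infty_ne_coe _ (w.injective hy)
  obtain ⟨e, he0, he⟩ := hfin 3 (by decide)
  have hpow : ∀ (n : ℕ) (x y : K), w (x : X) = (y : X) → w ((9 ^ n * x : K) : X) = ((k ^ n * y : K) : X) := by
    intro n
    induction n with
    | zero => intro x y hxy; simpa using hxy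
    | succ n ih =>
      intro x y hxy
      have := hw9 _ _ (ih x y hxy)
      rw [pow_succ', pow_succ', mul_assoc, mul_assoc]; exact this
  have hW : ∀ x : K, x ≠ 0 → w (x : X) = ((W k e x : K) : X) := by
    have q1 : ∀ n : ℕ, w ((9 ^ n * 1 : K) : X) = ((k ^ n * 1 : K) : X) := fun n => hpow n 1 1 h3
    have q3 : ∀ n : ℕ, w ((9 ^ n * 3 : K) : X) = ((k ^ n * e : K) : X) := fun n => hpow n 3 e he
    have cases17 : ∀ x : K, x ≠ 0 → (∃ n : Fin 8, x = 9 ^ (n : ℕ) * 1 ∧ ∀ k e : K, W k e x = k ^ (n : ℕ) * 1) ∨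
        (∃ n : Fin 8, x = 9 ^ (n : ℕ) * 3 ∧ ∀ k e : K, W k e x = k ^ (n : ℕ) * e) := by
      decide +kernel
    intro x hx
    rcases cases17 x hx with ⟨n, hn, hn'⟩ | ⟨n, hn, hn'⟩
    · rw [hn']
      conv_lhs => rw [hn]
      exact q1 n
    · rw [hn']
      conv_lhs => rw [hn]
      exact q3 n
  have hk4 : k ^ 4 = -1 := by
    have h4 := hpow 4 1 1 h3
    have h5 : (9 ^ 4 * 1 : K) = -1 := by decide +kernel
    rw [h5, hm1, OnePoint.coe_eq_coe, mul_one] at h4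
    exact h4.symm
  obtain ⟨hk2, he6⟩ := W_solution k e hk4 (by
    intro x hx hx1
    have h4 := hs ((x + 1 : K) : X)
    rw [aff_coe] at h4
    have e1 : ((1 : Kˣ) : K) * (x + 1) + -1 = x := by simp
    rw [e1, hW x hx, aff_coe] at h4
    have e2 : x + 1 ≠ 0 := fun h => hx1 (by linear_combination h)
    have e3 : W k e x + 1 ≠ 0 := by
      intro h5
      have h6 : W k e x = -1 := by linear_combination h5
      have h7 := hW x hx
      rw [h6, ← hm1] at h7
      exact hx1 (OnePoint.coe_eq_coe.mp (w.injective h7))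
    have e4 : ((1 : Kˣ) : K) * W k e x + 1 = W k e x + 1 := by simp
    rw [e4, hW _ e3, hW _ e2, aff_coe, aff_coe, OnePoint.coe_eq_coe, hu1] at h4
    rw [h4]
    simp)
  have hwinv : w = inv := by
    apply Equiv.ext
    intro x
    induction x using OnePoint.rec with
    | infty => rw [h1, inv_infty]
    | coe x =>
      by_cases hx : x = 0
      · subst hx; rw [h2, inv_zero]
      · rw [hW x hx, hk2, he6, W_inv x hx, inv_coe hx]
  rw [← hwinv]; exact hw

end Cfsg.Agent.H21.P17
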