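import Mathlib
import Cfsg.Agent.H21_P17b
import Cfsg.Agent.H5_GL

set_option autoImplicit false

namespace Cfsg.Agent.H21.P17

open Matrix MulAction OnePoint

variable {Γ : Subgroup (Equiv.Perm X)}

/-- square root of -1 -/
def u4 : Kˣ := ZMod.unitOfCoprime 4 (by norm_num)

theorem u4_sq : u4 ^ 2 = -1 := by decide +kernel

theorem mob_coe (g : GL (Fin 2) K) (x : K) (h : g 1 0 * x + g 1 1 ≠ 0) :
    mob g (x : X) = (((g 0 0 * x + g 0 1) / (g 1 0 * x + g 1 1) : K) : X) := by
  rw [mob_apply, smul_some_eq_ite, if_neg h]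

theorem mob_coe0 (g : GL (Fin 2) K) (x : K) (h : g 1 0 * x + g 1 1 = 0) :
    mob g (x : X) = ∞ := by
  rw [mob_apply, smul_some_eq_ite, if_pos h]

theorem alg_aux (a b c d x D : K) (hc : c ≠ 0) (hD : D ≠ 0) (hDd : c * x + d = D) :
    (a * x + b) / D = - (a * d - b * c) / c ^ 2 * (D / c)⁻¹ + a / c := by
  have hd : d = D - c * x := by rw [← hDd]; ring
  subst hd
  rw [inv_div]
  field_simp
  ring

/-- decomposition of Moebius transformations -/
theorem mob_decomp (g : GL (Fin 2) K) :
    (∃ (s : Kˣ) (b : K), mob g = aff (GeneralLinearGroup.det g * s ^ 2) b) ∨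
    (∃ (s : Kˣ) (b d : K), mob g = aff (GeneralLinearGroup.det g * s ^ 2) b * inv * aff 1 d) := by
  have hdet : (GeneralLinearGroup.det g : K) = g 0 0 * g 1 1 - g 0 1 * g 1 0 := by
    rw [GeneralLinearGroup.val_det_apply, Matrix.det_fin_two]
  by_cases hc : g 1 0 = 0
  · left
    have hd : g 1 1 ≠ 0 := by
      intro h
      have := (GeneralLinearGroup.det g).ne_zero
      rw [hdet, hc, h] at this
      simp at this
    refine ⟨(Units.mk0 (g 1 1) hd)⁻¹, g 0 1 / g 1 1, ?_⟩
    apply Equiv.ext
    intro x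
    induction x using OnePoint.rec with
    | infty => rw [aff_infty, mob_apply, smul_infty_eq_self_iff]; exact hc
    | coe x =>
      have h1 : ((GeneralLinearGroup.det g * ((Units.mk0 (g 1 1) hd)⁻¹) ^ 2 : Kˣ) : K) = g 0 0 / g 1 1 := by
        push_cast
        rw [hdet, hc]
        simp only [Units.val_inv_eq_inv_val, Units.val_mk0]
        field_simp
        ring
      have h2 : g 1 0 * x + g 1 1 ≠ 0 := by rw [hc, zero_mul, zero_add]; exact hd
      rw [mob_coe g x h2, aff_coe, h1, OnePoint.coe_eq_coe, hc]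
      simp only [zero_mul, zero_add]
      field_simp
  · right
    refine ⟨u4 * (Units.mk0 (g 1 0) hc)⁻¹, g 0 0 / g 1 0, g 1 1 / g 1 0, ?_⟩
    have h1 : ((GeneralLinearGroup.det g * (u4 * (Units.mk0 (g 1 0) hc)⁻¹) ^ 2 : Kˣ) : K) =
        - (g 0 0 * g 1 1 - g 0 1 * g 1 0) / (g 1 0) ^ 2 := by
      rw [mul_pow, u4_sq]
      push_cast
      rw [hdet]
      simp only [Units.val_inv_eq_inv_val, Units.val_mk0]
      field_simp
    apply Equiv.ext
    intro x
    induction x using OnePoint.rec with
    | infty =>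
      rw [Equiv.Perm.mul_apply, Equiv.Perm.mul_apply, aff_infty, inv_infty, aff_coe, mul_zero, zero_add,
        mob_apply, smul_infty_eq_ite, if_neg hc]
    | coe x =>
      rw [Equiv.Perm.mul_apply, Equiv.Perm.mul_apply, aff_coe]
      have e1 : ((1 : Kˣ) : K) * x + g 1 1 / g 1 0 = (g 1 0 * x + g 1 1) / g 1 0 := by
        rw [Units.val_one]; field_simp
      rw [e1]
      by_cases h2 : g 1 0 * x + g 1 1 = 0
      · rw [mob_coe0 g x h2, h2, zero_div, inv_zero, aff_infty]
      · rw [mob_coe g x h2, inv_coe (div_ne_zero h2 hc), aff_coe, h1, OnePoint.coe_eq_coe]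
        exact alg_aux _ _ _ _ _ _ hc h2 rfl

theorem Hyp.mob_mem (h : Hyp Γ) {g : GL (Fin 2) K} (hg : GeneralLinearGroup.det g ∈ T Γ) : mob g ∈ Γ := by
  rcases mob_decomp g with ⟨s, b, hs⟩ | ⟨s, b, d, hs⟩
  · rw [hs, h.aff_mem]
    exact (T Γ).mul_mem hg (h.sq_mem s)
  · rw [hs]
    refine Γ.mul_mem (Γ.mul_mem ?_ h.inv_mem) (h.trb d)
    rw [h.aff_mem]
    exact (T Γ).mul_mem hg (h.sq_mem s)

/-- elements commuting with translation and a map sending `∞` to `0` and `0` to `∞` are trivial -/
theorem eq_one_of_comm {g w : Equiv.Perm X} (h1 : ∀ b : K, g * aff 1 b = aff 1 b * g) (h2 : g * w = w * g)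
    (hw1 : w ∞ = ((0 : K) : X)) : g = 1 := by
  have e1 : g ∞ = ∞ := by
    have h3 := congrArg (fun f : Equiv.Perm X => f ∞) (h1 1)
    simp only [Equiv.Perm.mul_apply] at h3
    rw [aff_infty] at h3
    induction hx : g ∞ using OnePoint.rec with
    | infty => rfl
    | coe x =>
      rw [hx, aff_coe, OnePoint.coe_eq_coe, Units.val_one, one_mul] at h3
      exact absurd (left_eq_add.mp h3) one_ne_zero
  have e2 : g ((0 : K) : X) = ((0 : K) : X) := by
    have h3 := congrArg (fun f : Equiv.Perm X => f ∞) h2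
    simp only [Equiv.Perm.mul_apply] at h3
    rw [e1, hw1] at h3
    exact h3
  apply Equiv.ext
  intro x
  induction x using OnePoint.rec with
  | infty => exact e1
  | coe x =>
    have h3 := congrArg (fun f : Equiv.Perm X => f ((0 : K) : X)) (h1 x)
    simp only [Equiv.Perm.mul_apply] at h3
    rw [e2, aff_coe] at h3
    simpa using h3

/-- scalar matrices act trivially -/
theorem mob_scalar {g : GL (Fin 2) K} (h01 : g 0 1 = 0) (h10 : g 1 0 = 0) (h : g 0 0 = g 1 1) : mob g = 1 := by
  have hd : g 1 1 ≠ 0 := by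
    intro h0
    have h2 := (GeneralLinearGroup.det g).ne_zero
    rw [GeneralLinearGroup.val_det_apply, Matrix.det_fin_two, h0, h01] at h2
    simp at h2
  apply Equiv.ext
  intro x
  induction x using OnePoint.rec with
  | infty => rw [mob_apply, smul_infty_eq_self_iff.mpr h10]; rfl
  | coe x =>
    have h2 : g 1 0 * x + g 1 1 ≠ 0 := by rw [h10, zero_mul, zero_add]; exact hd
    rw [mob_coe g x h2, h01, h10, h]
    simp only [zero_mul, add_zero, zero_add]
    rw [mul_div_cancel_left₀ _ hd]; rfl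

/-- kernel of the Moebius action -/
theorem scalar_of_mob {g : GL (Fin 2) K} (h : mob g = 1) : g 0 1 = 0 ∧ g 1 0 = 0 ∧ g 0 0 = g 1 1 := by
  have h10 : g 1 0 = 0 := by
    rw [← smul_infty_eq_self_iff, ← mob_apply, h]; rfl
  have hd : g 1 1 ≠ 0 := by
    intro h0
    have h2 := (GeneralLinearGroup.det g).ne_zero
    rw [GeneralLinearGroup.val_det_apply, Matrix.det_fin_two, h0, h10] at h2
    simp at h2
  have e0 : mob g ((0 : K) : X) = ((0 : K) : X) := by rw [h]; rfl
  have e1 : mob g ((1 : K) : X) = ((1 : K) : X) := by rw [h]; rfl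
  rw [mob_coe g 0 (by rw [h10]; simpa using hd), OnePoint.coe_eq_coe, h10] at e0
  rw [mob_coe g 1 (by rw [h10]; simpa using hd), OnePoint.coe_eq_coe, h10] at e1
  simp only [mul_zero, zero_add, zero_mul, mul_one] at e0 e1
  have h01 : g 0 1 = 0 := by
    rw [div_eq_zero_iff] at e0
    exact e0.resolve_right hd
  rw [h01, add_zero, div_eq_one_iff_eq hd] at e1
  exact ⟨h01, h10, e1⟩

theorem ker_mob : mob.ker = Subgroup.center (GL (Fin 2) K) := by
  ext g
  rw [MonoidHom.mem_ker, Subgroup.mem_center_iff]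
  constructor
  · intro h x
    obtain ⟨h01, h10, h00⟩ := scalar_of_mob h
    apply Units.ext
    change (x : Matrix (Fin 2) (Fin 2) K) * g = g * (x : Matrix (Fin 2) (Fin 2) K)
    have : (g : Matrix (Fin 2) (Fin 2) K) = Matrix.scalar (Fin 2) (g 1 1) := by
      ext i j
      fin_cases i <;> fin_cases j <;> simp [h01, h10, h00]
    rw [this]
    exact (Matrix.scalar_commute _ (fun _ => Commute.all _ _) _).eq.symm
  · intro h
    apply eq_one_of_comm (w := inv)
    · intro b
      rw [aff, ← map_mul, ← map_mul, h]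
    · rw [inv, ← map_mul, ← map_mul, h]
    · exact inv_infty

/-- `SL` version -/
noncomputable def mobS : SpecialLinearGroup (Fin 2) K →* Equiv.Perm X := mob.comp SpecialLinearGroup.toGL

noncomputable def trS (b : K) : SpecialLinearGroup (Fin 2) K := ⟨!![1, b; 0, 1], by simp [Matrix.det_fin_two]⟩

theorem mobS_trS (b : K) : mobS (trS b) = aff 1 b := by
  rw [mobS, MonoidHom.comp_apply, aff]
  congr 1
  apply Units.ext
  ext i j
  fin_cases i <;> fin_cases j <;> rfl

noncomputable def wS : SpecialLinearGroup (Fin 2) K := ⟨!![0, -1; 1, 0], by simp [Matrix.det_fin_two]⟩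

theorem mobS_wS : mobS wS ∞ = ((0 : K) : X) := by
  change mob (SpecialLinearGroup.toGL wS) ∞ = _
  rw [mob_apply, smul_infty_eq_ite]
  have h1 : (SpecialLinearGroup.toGL wS) 1 0 = 1 := rfl
  have h2 : (SpecialLinearGroup.toGL wS) 0 0 = 0 := rfl
  rw [h1, h2]; simp

theorem ker_mobS : mobS.ker = Subgroup.center (SpecialLinearGroup (Fin 2) K) := by
  ext g
  rw [MonoidHom.mem_ker, Subgroup.mem_center_iff]
  constructor
  · intro h x
    obtain ⟨h01, h10, h00⟩ := scalar_of_mob h
    apply Subtype.ext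
    change (x : Matrix (Fin 2) (Fin 2) K) * g = g * (x : Matrix (Fin 2) (Fin 2) K)
    have : (g : Matrix (Fin 2) (Fin 2) K) = Matrix.scalar (Fin 2) (g.1 1 1) := by
      have h01' : g.1 0 1 = 0 := h01
      have h10' : g.1 1 0 = 0 := h10
      have h00' : g.1 0 0 = g.1 1 1 := h00
      ext i j
      fin_cases i <;> fin_cases j <;> simp [h01', h10', h00']
    rw [this]
    exact (Matrix.scalar_commute _ (fun _ => Commute.all _ _) _).eq.symm
  · intro h
    apply eq_one_of_comm (w := mobS wS)
    · intro b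
      rw [← mobS_trS, ← map_mul, ← map_mul, h]
    · rw [← map_mul, ← map_mul, h]
    · exact mobS_wS

theorem fcard_K : Fintype.card K = 17 := ZMod.card 17

theorem card_center : Nat.card (Subgroup.center (GL (Fin 2) K)) = 16 := by
  rw [H5.GL.card_center_GL (F := K) fcard_K]

theorem card_SL : Nat.card (SpecialLinearGroup (Fin 2) K) = 4896 := by
  have h := H5.GL.card_SL (F := K) fcard_K 2 (by norm_num)
  rw [Fin.prod_univ_two] at h
  have h' : 16 * Nat.card (SpecialLinearGroup (Fin 2) K) = 78336 := h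
  omega

theorem card_GL : Nat.card (GL (Fin 2) K) = 78336 := by
  have h := H5.GL.card_SL_mul (n := Fin 2) (F := K) fcard_K
  rw [card_SL] at h
  omega

theorem card_PSL : Nat.card (ProjectiveSpecialLinearGroup (Fin 2) K) = 2448 := by
  have h := H5.GL.card_PSL_mul (F := K) fcard_K 2 (by norm_num)
  rw [card_SL] at h
  have h' : 2 * Nat.card (ProjectiveSpecialLinearGroup (Fin 2) K) = 4896 := h
  omega

theorem card_T_mul : Nat.card (T Γ) * (T Γ).index = 16 := by
  rw [(T Γ).card_mul_index, Nat.card_eq_fintype_card, ZMod.card_units_eq_totient]; rfl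

/-- the classification -/
theorem Hyp.main (h : Hyp Γ) :
    (Nat.card Γ = 4896 ∧ Nonempty (Γ ≃* (GL (Fin 2) K ⧸ Subgroup.center (GL (Fin 2) K)))) ∨
    (Nat.card Γ = 2448 ∧ Nonempty (Γ ≃* ProjectiveSpecialLinearGroup (Fin 2) K)) := by
  have h1 := h.index_le
  have h0 : (T Γ).index ≠ 0 := Subgroup.index_ne_zero_of_finite
  have h2 : (T Γ).index = 1 ∨ (T Γ).index = 2 := by omega
  have hc := h.card
  have hT := card_T_mul (Γ := Γ)
  rcases h2 with h2 | h2
  · left
    rw [h2, mul_one] at hT
    rw [hT] at hc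
    refine ⟨by rw [hc], ?_⟩
    rw [Subgroup.index_eq_one] at h2
    have hle : mob.range ≤ Γ := by
      rintro _ ⟨g, rfl⟩
      exact h.mob_mem (by rw [h2]; trivial)
    have hcr : Nat.card mob.range = 4896 := by
      have h3 := Subgroup.card_mul_index mob.ker
      rw [Subgroup.index_ker, ker_mob, card_center, card_GL] at h3
      omega
    have heq : mob.range = Γ := Subgroup.eq_of_le_of_card_ge hle (by rw [hcr, hc])
    exact ⟨((MulEquiv.subgroupCongr heq.symm).trans (QuotientGroup.quotientKerEquivRange mob).symm).trans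
      (QuotientGroup.quotientMulEquivOfEq ker_mob)⟩
  · right
    rw [h2] at hT
    have hT' : Nat.card (T Γ) = 8 := by omega
    rw [hT'] at hc
    refine ⟨by rw [hc], ?_⟩
    have hle : mobS.range ≤ Γ := by
      rintro _ ⟨g, rfl⟩
      apply h.mob_mem
      have : GeneralLinearGroup.det (SpecialLinearGroup.toGL g) = 1 := by
        apply Units.ext
        rw [GeneralLinearGroup.val_det_apply]
        exact g.2
      rw [this]
      exact (T Γ).one_mem
    have e1 : (SpecialLinearGroup (Fin 2) K ⧸ mobS.ker) ≃* ProjectiveSpecialLinearGroup (Fin 2) K :=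
      QuotientGroup.quotientMulEquivOfEq ker_mobS
    have hcr : Nat.card mobS.range = 2448 := by
      rw [← card_PSL, ← Nat.card_congr e1.toEquiv]
      exact (Nat.card_congr (QuotientGroup.quotientKerEquivRange mobS).toEquiv).symm
    have heq : mobS.range = Γ := Subgroup.eq_of_le_of_card_ge hle (by rw [hcr, hc])
    exact ⟨((MulEquiv.subgroupCongr heq.symm).trans (QuotientGroup.quotientKerEquivRange mobS).symm).trans e1⟩

end Cfsg.Agent.H21.P17
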