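import Mathlib
import Cfsg.Agent.H21_P17c

set_option autoImplicit false

namespace Cfsg.Agent.H21.P17

open Matrix MulAction OnePoint

variable {Γ : Subgroup (Equiv.Perm X)}

theorem Hyp.card_T (h : Hyp Γ) : Nat.card (T Γ) = 8 ∨ Nat.card (T Γ) = 16 := by
  have h1 := h.index_le
  have h0 : (T Γ).index ≠ 0 := Subgroup.index_ne_zero_of_finite
  have h2 : (T Γ).index = 1 ∨ (T Γ).index = 2 := by omega
  have hT := card_T_mul (Γ := Γ)
  rcases h2 with h2 | h2
  · right; rw [h2] at hT; omega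
  · left; rw [h2] at hT; omega

/-- setwise stabilizer of `{∞, 0}` -/
def S (Γ : Subgroup (Equiv.Perm X)) : Subgroup Γ where
  carrier := {g | ((g : Equiv.Perm X) ∞ = ∞ ∧ (g : Equiv.Perm X) ((0 : K) : X) = ((0 : K) : X)) ∨
    ((g : Equiv.Perm X) ∞ = ((0 : K) : X) ∧ (g : Equiv.Perm X) ((0 : K) : X) = ∞)}
  mul_mem' := by
    rintro a b (⟨h1, h2⟩ | ⟨h1, h2⟩) (⟨h3, h4⟩ | ⟨h3, h4⟩)
    · left; constructor
      · change (a : Equiv.Perm X) ((b : Equiv.Perm X) ∞) = ∞; rw [h3, h1]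
      · change (a : Equiv.Perm X) ((b : Equiv.Perm X) ((0 : K) : X)) = _; rw [h4, h2]
    · right; constructor
      · change (a : Equiv.Perm X) ((b : Equiv.Perm X) ∞) = _; rw [h3, h2]
      · change (a : Equiv.Perm X) ((b : Equiv.Perm X) ((0 : K) : X)) = _; rw [h4, h1]
    · right; constructor
      · change (a : Equiv.Perm X) ((b : Equiv.Perm X) ∞) = _; rw [h3, h1]
      · change (a : Equiv.Perm X) ((b : Equiv.Perm X) ((0 : K) : X)) = _; rw [h4, h2]
    · left; constructor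
      · change (a : Equiv.Perm X) ((b : Equiv.Perm X) ∞) = _; rw [h3, h2]
      · change (a : Equiv.Perm X) ((b : Equiv.Perm X) ((0 : K) : X)) = _; rw [h4, h1]
  one_mem' := Or.inl ⟨rfl, rfl⟩
  inv_mem' := by
    rintro a (⟨h1, h2⟩ | ⟨h1, h2⟩)
    · left; constructor
      · change (a : Equiv.Perm X)⁻¹ ∞ = _; rw [Equiv.Perm.inv_eq_iff_eq, h1]
      · change (a : Equiv.Perm X)⁻¹ ((0 : K) : X) = _; rw [Equiv.Perm.inv_eq_iff_eq, h2]
    · right; constructor
      · change (a : Equiv.Perm X)⁻¹ ∞ = _; rw [Equiv.Perm.inv_eq_iff_eq, h2]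
      · change (a : Equiv.Perm X)⁻¹ ((0 : K) : X) = _; rw [Equiv.Perm.inv_eq_iff_eq, h1]

theorem mem_S {g : Γ} : g ∈ S Γ ↔ ((g : Equiv.Perm X) ∞ = ∞ ∧ (g : Equiv.Perm X) ((0 : K) : X) = ((0 : K) : X)) ∨
    ((g : Equiv.Perm X) ∞ = ((0 : K) : X) ∧ (g : Equiv.Perm X) ((0 : K) : X) = ∞) := Iff.rfl

theorem Hyp.card_S (h : Hyp Γ) : Nat.card (S Γ) = 2 * Nat.card (T Γ) := by
  let f : T Γ × Bool → S Γ := fun x => match x with
    | (u, false) => ⟨⟨aff u 0, u.2⟩, Or.inl ⟨aff_infty _ _, by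
        change aff (u : Kˣ) 0 ((0 : K) : X) = _
        rw [aff_coe, mul_zero, zero_add]⟩⟩
    | (u, true) => ⟨⟨inv * aff u 0, Γ.mul_mem h.inv_mem u.2⟩, Or.inr ⟨by
        change inv (aff (u : Kˣ) 0 ∞) = _
        rw [aff_infty, inv_infty], by
        change inv (aff (u : Kˣ) 0 ((0 : K) : X)) = _
        rw [aff_coe, mul_zero, zero_add, inv_zero]⟩⟩
  have hf : Function.Bijective f := by
    constructor
    · rintro ⟨⟨u, hu⟩, a⟩ ⟨⟨v, hv⟩, b⟩ hx
      have hx' : ((f (⟨u, hu⟩, a) : Γ) : Equiv.Perm X) = ((f (⟨v, hv⟩, b) : Γ) : Equiv.Perm X) := by rw [hx]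
      cases a <;> cases b
      · have h1 : aff u 0 = aff v 0 := hx'
        obtain ⟨rfl, -⟩ := aff_inj h1; rfl
      · have h1 : aff u 0 = inv * aff v 0 := hx'
        have h2 := congrArg (fun g : Equiv.Perm X => g ∞) h1
        simp only [Equiv.Perm.mul_apply] at h2
        rw [aff_infty, aff_infty, inv_infty] at h2
        exact absurd h2 (OnePoint.infty_ne_coe _)
      · have h1 : inv * aff u 0 = aff v 0 := hx'
        have h2 := congrArg (fun g : Equiv.Perm X => g ∞) h1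
        simp only [Equiv.Perm.mul_apply] at h2
        rw [aff_infty, aff_infty, inv_infty] at h2
        exact absurd h2 (OnePoint.coe_ne_infty _)
      · have h1 : inv * aff u 0 = inv * aff v 0 := hx'
        obtain ⟨rfl, -⟩ := aff_inj (mul_left_cancel h1); rfl
    · rintro ⟨⟨g, hg⟩, ⟨h1, h2⟩ | ⟨h1, h2⟩⟩
      · obtain ⟨u, hu, rfl⟩ := h.fix2 hg h1 h2
        exact ⟨(⟨u, hu⟩, false), rfl⟩
      · have h1' : g ∞ = ((0 : K) : X) := h1
        have h2' : g ((0 : K) : X) = ∞ := h2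
        obtain ⟨u, hu, hue⟩ := h.fix2 (g := inv⁻¹ * g) (Γ.mul_mem (Γ.inv_mem h.inv_mem) hg)
          (by rw [Equiv.Perm.mul_apply, h1', Equiv.Perm.inv_eq_iff_eq, inv_infty])
          (by rw [Equiv.Perm.mul_apply, h2', Equiv.Perm.inv_eq_iff_eq, inv_zero])
        have h3 : g = inv * aff u 0 := by rw [← hue]; group
        subst h3
        exact ⟨(⟨u, hu⟩, true), rfl⟩
  rw [← Nat.card_congr (Equiv.ofBijective f hf), Nat.card_prod, mul_comm]
  simp

theorem Hyp.normalizer_S (h : Hyp Γ) : Subgroup.normalizer ((S Γ : Subgroup Γ) : Set Γ) ≤ S Γ := by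
  intro g hg
  rw [Subgroup.mem_normalizer_iff''] at hg
  let u9 : Kˣ := (ZMod.unitOfCoprime 3 (by norm_num)) ^ 2
  have hu9 : aff u9 0 ∈ Γ := h.sq_mem _
  let s : Γ := ⟨aff u9 0, hu9⟩
  have hs : s ∈ S Γ := Or.inl ⟨aff_infty _ _, by
        change aff (u9 : Kˣ) 0 ((0 : K) : X) = _
        rw [aff_coe, mul_zero, zero_add]⟩
  have h1 : g⁻¹ * s * g ∈ S Γ := (hg s).mp hs
  have h2 : ∀ x : X, (x = ∞ ∨ x = ((0 : K) : X)) → ((g⁻¹ * s * g : Γ) : Equiv.Perm X) (((g⁻¹ * s * g : Γ) : Equiv.Perm X) x) = x := by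
    intro x hx
    rcases h1 with ⟨h3, h4⟩ | ⟨h3, h4⟩ <;> rcases hx with rfl | rfl
    · rw [h3, h3]
    · rw [h4, h4]
    · rw [h3, h4]
    · rw [h4, h3]
  have h3 : ∀ x : X, (x = ∞ ∨ x = ((0 : K) : X)) → aff u9 0 (aff u9 0 ((g : Equiv.Perm X) x)) = (g : Equiv.Perm X) x := by
    intro x hx
    have h4 := h2 x hx
    have h5 : ((g⁻¹ * s * g : Γ) : Equiv.Perm X) = (g : Equiv.Perm X)⁻¹ * aff u9 0 * g := rfl
    rw [h5] at h4
    have h6 : ((g : Equiv.Perm X)⁻¹ * aff u9 0 * g) (((g : Equiv.Perm X)⁻¹ * aff u9 0 * g) x) =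
        ((g : Equiv.Perm X)⁻¹ * (aff u9 0 * aff u9 0 * g)) x := by
      rw [← Equiv.Perm.mul_apply]; congr 1; group
    rw [h6, Equiv.Perm.mul_apply, Equiv.Perm.inv_eq_iff_eq] at h4
    exact h4
  have hfix : ∀ y : X, aff u9 0 (aff u9 0 y) = y → y = ∞ ∨ y = ((0 : K) : X) := by
    intro y hy
    induction y using OnePoint.rec with
    | infty => left; rfl
    | coe y =>
      right
      rw [aff_coe, aff_coe, OnePoint.coe_eq_coe, add_zero, add_zero] at hy
      have h5 : (u9 : K) = 9 := by decide +kernel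
      rw [h5] at hy
      rw [OnePoint.coe_eq_coe]
      have h6 : ∀ y : K, 9 * (9 * y) = y → y = 0 := by decide +kernel
      exact h6 y hy
  have e1 := hfix _ (h3 ∞ (Or.inl rfl))
  have e2 := hfix _ (h3 ((0 : K) : X) (Or.inr rfl))
  have h0 : (∞ : X) ≠ ((0 : K) : X) := OnePoint.infty_ne_coe _
  have hne : (g : Equiv.Perm X) ∞ ≠ (g : Equiv.Perm X) ((0 : K) : X) := fun h => h0 (Equiv.injective _ h)
  rw [mem_S]
  rcases e1 with e1 | e1 <;> rcases e2 with e2 | e2
  · exact absurd (e1.trans e2.symm) hne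
  · exact Or.inl ⟨e1, e2⟩
  · exact Or.inr ⟨e1, e2⟩
  · exact absurd (e1.trans e2.symm) hne

instance f2 : Fact (Nat.Prime 2) := ⟨Nat.prime_two⟩
instance f3 : Fact (Nat.Prime 3) := ⟨Nat.prime_three⟩

theorem Hyp.sylow2 (h : Hyp Γ) : 153 ≤ Nat.card (Sylow 2 Γ) := by
  have hS2 : ∃ j, Nat.card (S Γ) = 2 ^ j := by
    rw [h.card_S]
    rcases h.card_T with h1 | h1 <;> rw [h1]
    · exact ⟨4, by norm_num⟩
    · exact ⟨5, by norm_num⟩
  obtain ⟨j, hj⟩ := hS2
  have hSp : IsPGroup 2 (S Γ) := IsPGroup.of_card hj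
  obtain ⟨P, hP⟩ := hSp.exists_le_sylow
  have hcP : Nat.card P = Nat.card (S Γ) := by
    apply le_antisymm _ (Subgroup.card_le_of_le hP)
    obtain ⟨i, hi⟩ := P.2.exists_card_eq
    have h1 : Nat.card P ∣ Nat.card Γ := Subgroup.card_subgroup_dvd_card _
    have h2 : Nat.card Γ = 153 * Nat.card (S Γ) := by rw [h.card, h.card_S]; ring
    rw [h2, hi] at h1
    have h3 : (2 ^ i).Coprime 153 := Nat.Coprime.pow_left _ (by norm_num)
    have h4 := h3.dvd_of_dvd_mul_left h1
    rw [hi]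
    exact Nat.le_of_dvd Nat.card_pos h4
  have hPS : (P : Subgroup Γ) = S Γ := (Subgroup.eq_of_le_of_card_ge hP hcP.le).symm
  have hPS' : (P : Set Γ) = ((S Γ : Subgroup Γ) : Set Γ) := congrArg (fun H : Subgroup Γ => (H : Set Γ)) hPS
  rw [P.card_eq_index_normalizer, hPS']
  have h1 := Subgroup.index_mul_card (Subgroup.normalizer ((S Γ : Subgroup Γ) : Set Γ))
  have h2 := Subgroup.card_le_of_le h.normalizer_S
  have h3 : Nat.card Γ = 153 * Nat.card (S Γ) := by rw [h.card, h.card_S]; ring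
  rw [h3] at h1
  have hpos : 0 < Nat.card (S Γ) := Nat.card_pos
  by_contra hcon
  push Not at hcon
  have : (Subgroup.normalizer ((S Γ : Subgroup Γ) : Set Γ)).index * Nat.card (Subgroup.normalizer ((S Γ : Subgroup Γ) : Set Γ)) ≤
    152 * Nat.card (S Γ) := Nat.mul_le_mul (by omega) h2
  omega

/-- an element of order 9 -/
noncomputable def M9 : GL (Fin 2) K := GeneralLinearGroup.mkOfDetNeZero !![7, -1; 1, 0] (by simp [Matrix.det_fin_two])

noncomputable def g9 : Equiv.Perm X := mob M9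

theorem Hyp.g9_mem (h : Hyp Γ) : g9 ∈ Γ := by
  apply h.mob_mem
  have : GeneralLinearGroup.det M9 = 1 := by
    apply Units.ext
    rw [GeneralLinearGroup.val_det_apply]
    change (!![7, -1; 1, 0] : Matrix (Fin 2) (Fin 2) K).det = 1
    rw [Matrix.det_fin_two]; simp
  rw [this]; exact (T Γ).one_mem

theorem g9_infty : g9 ∞ = ((7 : K) : X) := by
  rw [g9, mob_apply, smul_infty_eq_ite]
  have h1 : M9 1 0 = 1 := rfl
  have h2 : M9 0 0 = 7 := rfl
  rw [h1, h2]; simp

theorem g9_seven : g9 ((7 : K) : X) = ((2 : K) : X) := by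
  have h1 : M9 1 0 = 1 := rfl
  have h2 : M9 0 0 = 7 := rfl
  have h3 : M9 0 1 = -1 := rfl
  have h4 : M9 1 1 = 0 := rfl
  rw [g9, mob_coe M9 7 (by rw [h1, h4]; decide +kernel), h1, h2, h3, h4, OnePoint.coe_eq_coe]
  decide +kernel

theorem g9_two : g9 ((2 : K) : X) ≠ ∞ := by
  have h1 : M9 1 0 = 1 := rfl
  have h4 : M9 1 1 = 0 := rfl
  rw [g9, mob_coe M9 2 (by rw [h1, h4]; decide +kernel)]
  exact OnePoint.coe_ne_infty _

theorem g9_pow : g9 ^ 9 = 1 := by
  rw [g9, ← map_pow]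
  have h : ((M9 ^ 9 : GL (Fin 2) K) : Matrix (Fin 2) (Fin 2) K) = (!![7, -1; 1, 0] : Matrix (Fin 2) (Fin 2) K) ^ 9 := by
    rw [Units.val_pow_eq_pow_val]; rfl
  apply mob_scalar
  · rw [h]; decide +kernel
  · rw [h]; decide +kernel
  · rw [h]; decide +kernel

theorem orderOf_g9 : orderOf g9 = 9 := by
  have h1 : orderOf g9 = 3 ^ (1 + 1) := by
    apply orderOf_eq_prime_pow
    · intro h2
      have h3 := congrArg (fun f : Equiv.Perm X => f ∞) h2
      simp only [pow_one, pow_succ, pow_zero, one_mul, Equiv.Perm.mul_apply] at h3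
      rw [g9_infty, g9_seven] at h3
      exact g9_two h3
    · exact g9_pow
  rw [h1]; norm_num

theorem Hyp.sylow3 (h : Hyp Γ) : 136 ≤ Nat.card (Sylow 3 Γ) := by
  classical
  let y : Γ := ⟨g9, h.g9_mem⟩
  have hy : orderOf y = 9 := by
    rw [← orderOf_g9]; exact Subgroup.orderOf_mk _ _
  have hRc : Nat.card (Subgroup.zpowers y) = 9 := by rw [Nat.card_zpowers, hy]
  have hRp : IsPGroup 3 (Subgroup.zpowers y) := IsPGroup.of_card (n := 2) (by rw [hRc]; norm_num)
  obtain ⟨P, hP⟩ := hRp.exists_le_sylow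
  have hT := h.card_T
  have hcP : Nat.card P = 9 := by
    obtain ⟨i, hi⟩ := P.2.exists_card_eq
    have h1 : Nat.card P ∣ Nat.card Γ := Subgroup.card_subgroup_dvd_card _
    have h2 : Nat.card Γ = 9 * (34 * Nat.card (T Γ)) := by rw [h.card]; ring
    have h5 : (3 ^ i).Coprime (34 * Nat.card (T Γ)) := by
      apply Nat.Coprime.pow_left
      rcases hT with h3 | h3 <;> rw [h3] <;> norm_num
    rw [h2, hi] at h1
    have h4 := h5.dvd_of_dvd_mul_right h1
    have h6 := Nat.le_of_dvd (by norm_num) h4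
    have h7 := Subgroup.card_le_of_le hP
    rw [hRc] at h7
    rw [← hi] at h6
    exact le_antisymm h6 h7
  have hPR : (P : Subgroup Γ) = Subgroup.zpowers y := (Subgroup.eq_of_le_of_card_ge hP (by
    rw [hRc]; exact hcP.le)).symm
  have hmod := card_sylow_modEq_one 3 Γ
  have hPR' : (P : Set Γ) = ((Subgroup.zpowers y : Subgroup Γ) : Set Γ) := congrArg (fun H : Subgroup Γ => (H : Set Γ)) hPR
  rw [P.card_eq_index_normalizer, hPR'] at hmod ⊢
  set R : Subgroup Γ := Subgroup.zpowers y with hR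
  set N : Subgroup Γ := Subgroup.normalizer (R : Set Γ) with hN
  have hidx := Subgroup.index_mul_card N
  -- bound on N
  have hRN : R ≤ N := Subgroup.le_normalizer
  have h9 : 9 ∣ Nat.card N := by
    rw [← hRc]; exact Subgroup.card_dvd_of_le hRN
  have horb := H21.Prim.card_mul_relIndex (G := Γ) (K := (stabilizer Γ (∞ : X)) ⊓ N) (H := N) inf_le_right
  have ho : ((stabilizer Γ (∞ : X)) ⊓ N).relIndex N ≤ 18 := by
    rw [Subgroup.inf_relIndex_right]
    have h1 : (stabilizer Γ (∞ : X)).relIndex N ≤ (stabilizer Γ (∞ : X)).index := by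
      rw [← Subgroup.relIndex_top_right]
      apply Subgroup.relIndex_le_of_le_right le_top
      rw [Subgroup.relIndex_top_right]
      exact Subgroup.index_ne_zero_of_finite
    have h2 : (stabilizer Γ (∞ : X)).index = 18 := by
      haveI := h.trans
      rw [index_stabilizer_of_transitive, card_X]
    omega
  -- N_∞
  have hs : Nat.card ((stabilizer Γ (∞ : X)) ⊓ N : Subgroup Γ) ∣ 2 := by
    have h1 : Nat.card ((stabilizer Γ (∞ : X)) ⊓ N : Subgroup Γ) ∣ 17 * Nat.card (T Γ) := by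
      rw [← h.card_stab]; exact Subgroup.card_dvd_of_le inf_le_left
    have h2 : Nat.card ((stabilizer Γ (∞ : X)) ⊓ N : Subgroup Γ) ∣ 6 := by
      let f : ((stabilizer Γ (∞ : X)) ⊓ N : Subgroup Γ) →* MulAut R :=
        (R.normalizerMonoidHom).comp (Subgroup.inclusion inf_le_right)
      have hf : Function.Injective f := by
        rw [injective_iff_map_eq_one]
        rintro ⟨n, hn1, hn2⟩ hn
        have hc : n * y = y * n := by
          have h3 := congrArg (fun φ : MulAut R => ((φ ⟨y, Subgroup.mem_zpowers y⟩ : R) : Γ)) hn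
          have h4 : n * y * n⁻¹ = y := h3
          calc n * y = (n * y * n⁻¹) * n := by group
            _ = y * n := by rw [h4]
        have hcx : ∀ x : X, (n : Equiv.Perm X) (g9 x) = g9 ((n : Equiv.Perm X) x) := by
          intro x
          exact congrArg (fun z : Γ => (z : Equiv.Perm X) x) hc
        have e0 : (n : Equiv.Perm X) ∞ = ∞ := hn1
        have e1 : (n : Equiv.Perm X) ((7 : K) : X) = ((7 : K) : X) := by
          have := hcx ∞
          rw [e0, g9_infty] at this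
          exact this
        have e2 : (n : Equiv.Perm X) ((2 : K) : X) = ((2 : K) : X) := by
          have := hcx ((7 : K) : X)
          rw [e1, g9_seven] at this
          exact this
        obtain ⟨u, b, hub⟩ := h.st _ n.2 e0
        rw [hub, aff_coe, OnePoint.coe_eq_coe] at e1 e2
        have hu : (u : K) = 1 := by
          have h5 : (5 : K) * ((u : K) - 1) = 0 := by linear_combination e1 - e2
          rcases mul_eq_zero.mp h5 with h6 | h6
          · exact absurd h6 (by decide)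
          · linear_combination h6
        have hb : b = 0 := by rw [hu] at e1; linear_combination e1
        have hu' : u = 1 := Units.ext hu
        rw [hu', hb, aff_one] at hub
        exact Subtype.ext (Subtype.ext hub)
      have h3 := Subgroup.card_dvd_of_injective f hf
      have h4 : Nat.card (MulAut R) = 6 := by
        rw [IsCyclic.card_mulAut, hRc]; rfl
      rwa [h4] at h3
    have h3 := Nat.dvd_gcd h1 h2
    rcases hT with h4 | h4
    · rw [h4] at h3; exact h3
    · rw [h4] at h3; exact h3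
  have hs2 : Nat.card ((stabilizer Γ (∞ : X)) ⊓ N : Subgroup Γ) ≤ 2 := Nat.le_of_dvd (by norm_num) hs
  have hN36 : Nat.card N ≤ 36 := by
    rw [← horb]
    calc _ ≤ 2 * 18 := Nat.mul_le_mul hs2 ho
      _ = 36 := by norm_num
  rw [h.card] at hidx
  obtain ⟨c, hc⟩ := h9
  rw [hc] at hN36 hidx
  have hc4 : c ≤ 4 := by omega
  rcases hT with h4 | h4
  · rw [h4] at hidx
    have hmod' : N.index % 3 = 1 := hmod
    interval_cases c <;> omega
  · rw [h4] at hidx
    interval_cases c <;> omega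

end Cfsg.Agent.H21.P17
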