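import Mathlib
import Cfsg.Agent.H21_P17d
import Cfsg.Agent.H2_PGroup

set_option autoImplicit false

namespace Cfsg.Agent.H21.P17

open MulAction OnePoint

section general
variable {G : Type*} [Group G] [Finite G]

theorem mem_sylow_of_fix {s : ℕ} [Fact s.Prime] {x : G} (hx : IsPGroup s (Subgroup.zpowers x)) (S : Sylow s G) (h : x • S = S) :
    x ∈ S := by
  have h1 : x ∈ Subgroup.zpowers x ⊓ Subgroup.normalizer (S : Set G) :=
    Subgroup.mem_inf.mpr ⟨Subgroup.mem_zpowers x, Sylow.smul_eq_iff_mem_normalizer.mp h⟩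
  rw [hx.inf_normalizer_sylow S] at h1
  exact (Subgroup.mem_inf.mp h1).2

theorem isPGroup_zpowers_conj {s : ℕ} {x : G} (hx : IsPGroup s (Subgroup.zpowers x)) (g : G) :
    IsPGroup s (Subgroup.zpowers (g * x * g⁻¹)) := by
  have h := hx.map (MulAut.conj g).toMonoidHom
  rw [MonoidHom.map_zpowers] at h
  exact h

/-- A normal subgroup normalizing every Sylow subgroup is trivial if the centre is trivial. -/
theorem eq_bot_of_normalizes (hZ : Subgroup.center G = ⊥) (N : Subgroup G) [hNn : N.Normal]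
    (hN : ∀ r : ℕ, r.Prime → r ∣ Nat.card G → ∀ (R : Sylow r G), ∀ x ∈ N, x • R = R) : N = ⊥ := by
  classical
  by_contra hne
  have hcard : Nat.card N ≠ 1 := fun h => hne (Subgroup.card_eq_one.mp h)
  obtain ⟨s, hs, hsd⟩ := Nat.exists_prime_and_dvd hcard
  haveI : Fact s.Prime := ⟨hs⟩
  let S : Sylow s G := default
  have hsG : s ∣ Nat.card G := hsd.trans N.card_subgroup_dvd_card
  have hSN : ∀ x ∈ N, x • S = S := hN s hs hsG S
  obtain ⟨x, hx⟩ := exists_prime_orderOf_dvd_card' (G := N) s hsd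
  have hxs : orderOf (x : G) = s := by rw [Subgroup.orderOf_coe]; exact hx
  have hxS : (x : G) ∈ S := by
    refine mem_sylow_of_fix ?_ S (hSN x x.2)
    exact IsPGroup.of_card (n := 1) (by rw [Nat.card_zpowers, hxs, pow_one])
  -- N ⊓ S nontrivial
  have hne0 : N.subgroupOf (S : Subgroup G) ≠ ⊥ := by
    intro hb
    have h1 : (⟨(x : G), hxS⟩ : (S : Subgroup G)) ∈ N.subgroupOf (S : Subgroup G) := by
      rw [Subgroup.mem_subgroupOf]; exact x.2
    rw [hb, Subgroup.mem_bot] at h1
    have h2 : (x : G) = 1 := congrArg Subtype.val h1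
    rw [h2, orderOf_one] at hxs
    exact hs.one_lt.ne hxs
  have h3 := Cfsg.Agent.H2.PGroup.inf_center_ne_bot S.isPGroup' hne0
  obtain ⟨z, hz, hz1⟩ := (Subgroup.ne_bot_iff_exists_ne_one).mp h3 |> fun ⟨z, hz⟩ => (⟨(z : (S : Subgroup G)), z.2, fun h => hz (Subtype.ext h)⟩ : ∃ z : (S : Subgroup G), z ∈ N.subgroupOf (S : Subgroup G) ⊓ Subgroup.center (S : Subgroup G) ∧ z ≠ 1)
  obtain ⟨hzN, hzc⟩ := Subgroup.mem_inf.mp hz
  rw [Subgroup.mem_subgroupOf] at hzN
  have hzs : IsPGroup s (Subgroup.zpowers (z : G)) := by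
    have h4 : Subgroup.zpowers (z : G) ≤ (S : Subgroup G) := by
      rw [Subgroup.zpowers_le]; exact z.2
    exact S.isPGroup'.to_le h4
  -- centralizer of z contains every Sylow subgroup
  have hmem : ∀ r : ℕ, r.Prime → r ∣ Nat.card G → ∃ R : Sylow r G, (R : Subgroup G) ≤ Subgroup.centralizer {(z : G)} := by
    intro r hr hrd
    haveI : Fact r.Prime := ⟨hr⟩
    by_cases hrs : r = s
    · subst hrs
      refine ⟨S, ?_⟩
      intro y hy
      rw [Subgroup.mem_centralizer_singleton_iff]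
      have h5 := Subgroup.mem_center_iff.mp hzc ⟨y, hy⟩
      have := congrArg Subtype.val h5
      simpa using this
    · refine ⟨default, ?_⟩
      intro ρ hρ
      rw [Subgroup.mem_centralizer_singleton_iff]
      set R : Sylow r G := default
      have hR : (z : G) • R = R := hN r hr hrd R z hzN
      have h6 : (z : G) * ρ * (z : G)⁻¹ ∈ R := by
        have := Sylow.smul_eq_iff_mem_normalizer.mp hR
        exact (Subgroup.mem_normalizer_iff.mp this ρ).mp hρ
      have h7 : (z : G) * ρ * (z : G)⁻¹ * ρ⁻¹ ∈ R := mul_mem h6 (inv_mem hρ)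
      have h8 : ρ * (z : G)⁻¹ * ρ⁻¹ ∈ S := by
        refine mem_sylow_of_fix ?_ S (hSN _ (hNn.conj_mem _ (N.inv_mem hzN) ρ))
        apply isPGroup_zpowers_conj
        rw [Subgroup.zpowers_inv]; exact hzs
      have h9 : (z : G) * ρ * (z : G)⁻¹ * ρ⁻¹ ∈ S := by
        have e : (z : G) * ρ * (z : G)⁻¹ * ρ⁻¹ = (z : G) * (ρ * (z : G)⁻¹ * ρ⁻¹) := by group
        rw [e]; exact mul_mem z.2 h8
      have hdis := IsPGroup.disjoint_of_ne r s hrs (R : Subgroup G) (S : Subgroup G) R.isPGroup' S.isPGroup'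
      have h10 := Subgroup.disjoint_def.mp hdis h7 h9
      have h11 : (z : G) * ρ = ρ * z := by
        have := congrArg (fun t => t * ρ * (z : G)) h10
        simpa [mul_assoc] using this
      rw [h11]
  have htop : Subgroup.centralizer {(z : G)} = ⊤ := by
    rw [← Subgroup.index_eq_one]
    by_contra hi
    obtain ⟨r, hr, hrd⟩ := Nat.exists_prime_and_dvd hi
    haveI : Fact r.Prime := ⟨hr⟩
    obtain ⟨R, hR⟩ := hmem r hr (hrd.trans (Subgroup.index_dvd_card _))
    have h12 : (Subgroup.centralizer {(z : G)}).index ∣ (R : Subgroup G).index := Subgroup.index_dvd_of_le hR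
    exact R.not_dvd_index (hrd.trans h12)
  have hzZ : (z : G) ∈ Subgroup.center G := by
    rw [Subgroup.mem_center_iff]
    intro g
    have : g ∈ Subgroup.centralizer {(z : G)} := by rw [htop]; trivial
    exact (Subgroup.mem_centralizer_singleton_iff.mp this)
  rw [hZ, Subgroup.mem_bot] at hzZ
  exact hz1 (Subtype.ext hzZ)

/-- if the number of Sylow subgroups does not go down in a quotient, the kernel normalizes every Sylow subgroup -/
theorem ker_fix {H : Type*} [Group H] [Finite H] (f : G →* H) (hf : Function.Surjective f) {r : ℕ} [Fact r.Prime]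
    (hle : Nat.card (Sylow r G) ≤ Nat.card (Sylow r H)) (R : Sylow r G) (x : G) (hx : x ∈ f.ker) : x • R = R := by
  have hs := Sylow.mapSurjective_surjective hf r
  have hb : Function.Bijective (fun P : Sylow r G => P.mapSurjective hf) :=
    (Nat.bijective_iff_surjective_and_card _).mpr ⟨hs, le_antisymm hle (Nat.card_le_card_of_surjective _ hs)⟩
  apply hb.1
  apply Sylow.ext
  change ((x • R).mapSurjective hf : Subgroup H) = (R.mapSurjective hf : Subgroup H)
  rw [Sylow.coe_mapSurjective, Sylow.coe_mapSurjective]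
  have hx' : f x = 1 := hx
  ext y
  rw [Sylow.coe_subgroup_smul, Subgroup.mem_map, Subgroup.mem_map]
  constructor
  · rintro ⟨g, hg, rfl⟩
    obtain ⟨g', hg', rfl⟩ := Subgroup.mem_smul_pointwise_iff_exists _ _ _ |>.mp hg
    refine ⟨g', hg', ?_⟩
    simp [hx']
  · rintro ⟨g, hg, rfl⟩
    refine ⟨x * g * x⁻¹, ?_, by simp [hx']⟩
    exact Subgroup.mem_smul_pointwise_iff_exists _ _ _ |>.mpr ⟨g, hg, rfl⟩

theorem card_modEq_one_of_unique_fixed {r : ℕ} [Fact r.Prime] {R : Type*} [Group R] (hR : IsPGroup r R) {α : Type*} [MulAction R α]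
    [Finite α] (O : Set α) (hinv : ∀ (g : R) (x : α), x ∈ O → g • x ∈ O) {x0 : α} (hx0 : x0 ∈ O)
    (hfix : ∀ x ∈ O, (∀ g : R, g • x = x) ↔ x = x0) : Nat.card O ≡ 1 [MOD r] := by
  let S : SubMulAction R α := ⟨O, fun g x hx => hinv g x hx⟩
  have h1 := hR.card_modEq_card_fixedPoints (S : Set α)
  have h2 : Nat.card (fixedPoints R (S : Set α)) = 1 := by
    rw [Nat.card_eq_one_iff_unique]
    refine ⟨⟨?_⟩, ⟨⟨⟨x0, hx0⟩, ?_⟩⟩⟩
    · rintro ⟨⟨a, ha⟩, ha'⟩ ⟨⟨b, hb⟩, hb'⟩
      have e1 : a = x0 := (hfix a ha).mp fun g => by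
        have := ha' g
        exact congrArg Subtype.val this
      have e2 : b = x0 := (hfix b hb).mp fun g => by
        have := hb' g
        exact congrArg Subtype.val this
      subst e1; subst e2; rfl
    · intro g
      apply Subtype.ext
      exact (hfix x0 hx0).mpr rfl g
  rw [h2] at h1
  exact h1

/-- primes 5 and 19 are excluded -/
theorem no_prime {r : ℕ} [Fact r.Prime] (N : Subgroup G) [hNn : N.Normal] (hN : ∀ x ∈ N, ∀ P : Sylow 17 G, x • P = P)
    (hr : ¬ r ∣ N.index) (h16 : ¬ r ∣ 16) (h17 : 17 ∣ Nat.card (Sylow r G)) (hlt : Nat.card (Sylow r G) < 289) : False := by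
  classical
  set R : Sylow r G := default with hRdef
  set P : Sylow 17 G := default with hPdef
  have hRN : (R : Subgroup G) ≤ N := by
    intro x hx
    rw [← QuotientGroup.eq_one_iff, ← orderOf_eq_one_iff]
    have h1 : orderOf (x : G ⧸ N) ∣ N.index := orderOf_dvd_natCard _
    obtain ⟨k, hk⟩ := R.isPGroup' ⟨x, hx⟩
    have hk' : x ^ r ^ k = 1 := congrArg Subtype.val hk
    have h2 : orderOf (x : G ⧸ N) ∣ r ^ k := by
      apply orderOf_dvd_of_pow_eq_one
      rw [← QuotientGroup.mk_pow, hk', QuotientGroup.mk_one]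
    have hcop : Nat.Coprime (r ^ k) N.index := Nat.Coprime.pow_left _ ((Nat.Prime.coprime_iff_not_dvd Fact.out).mpr hr)
    exact Nat.eq_one_of_dvd_coprimes hcop h2 h1
  -- P-orbit of R
  obtain ⟨j, hj⟩ := P.isPGroup'.card_orbit R
  have hjle : Nat.card (orbit (P : Subgroup G) R) ≤ Nat.card (Sylow r G) := Nat.card_le_card_of_injective _ Subtype.val_injective
  have hj2 : j ≤ 1 := by
    by_contra hj2
    have : 17 ^ 2 ≤ 17 ^ j := Nat.pow_le_pow_right (by norm_num) (by omega)
    omega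
  have hj0 : j ≠ 0 := by
    intro h0
    rw [h0, pow_zero, Nat.card_eq_one_iff_unique] at hj
    have hPle : (P : Subgroup G) ≤ Subgroup.normalizer (R : Set G) := by
      intro x hx
      rw [← Sylow.smul_eq_iff_mem_normalizer]
      have h3 : (⟨(⟨x, hx⟩ : (P : Subgroup G)) • R, mem_orbit _ _⟩ : orbit (P : Subgroup G) R) = ⟨R, mem_orbit_self _⟩ := hj.1.elim _ _
      exact congrArg Subtype.val h3
    have h4 := Subgroup.index_dvd_of_le hPle
    rw [R.card_eq_index_normalizer] at h17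
    exact P.not_dvd_index (h17.trans h4)
  have hj1 : j = 1 := by omega
  rw [hj1, pow_one] at hj
  have key := card_modEq_one_of_unique_fixed (r := r) R.isPGroup' (orbit (P : Subgroup G) R) (x0 := R) ?_ (mem_orbit_self _) ?_
  · rw [hj] at key
    exact h16 ((Nat.modEq_iff_dvd' (by norm_num)).mp key.symm)
  · rintro ρ x ⟨p, rfl⟩
    have hρ := hN ρ (hRN ρ.2) P
    have h5 := Sylow.smul_eq_iff_mem_normalizer.mp hρ
    have h6 : (ρ : G) * p * (ρ : G)⁻¹ ∈ P := (Subgroup.mem_normalizer_iff.mp h5 p).mp p.2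
    refine ⟨⟨_, h6⟩, ?_⟩
    change ((ρ : G) * p * (ρ : G)⁻¹) • R = (ρ : G) • ((p : G) • R)
    have h7 : (ρ : G)⁻¹ • R = R := by
      rw [Sylow.smul_eq_iff_mem_normalizer]
      exact inv_mem (Subgroup.le_normalizer ρ.2)
    rw [mul_smul, mul_smul, h7]
  · intro x _
    have h8 := R.isPGroup'.sylow_mem_fixedPoints_iff (Q := x)
    constructor
    · intro h9
      have h10 := h8.mp h9
      exact Sylow.ext (R.is_maximal' x.isPGroup' h10)
    · rintro rfl
      exact h8.mpr le_rfl

end general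

end Cfsg.Agent.H21.P17
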