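import Mathlib
import Cfsg.Agent.H1_Basic

/-!
# No finite group has exactly 15 Sylow 7-subgroups: local part
-/

set_option autoImplicit false

open scoped Pointwise

namespace Cfsg.Agent.H21.Syl15

open MulAction Subgroup

instance f7 : Fact (Nat.Prime 7) := ⟨by norm_num⟩
instance f5 : Fact (Nat.Prime 5) := ⟨by norm_num⟩

variable {G : Type*} [Group G] [Finite G]

/-- fixed points of a `p`-subgroup on the Sylow subgroups -/
theorem le_sylow_iff {p : ℕ} [Fact p.Prime] {D : Subgroup G} (hD : IsPGroup p D) (Q : Sylow p G) :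
    D ≤ Q ↔ ∀ d ∈ D, d • Q = Q := by
  constructor
  · intro h d hd
    exact Sylow.smul_eq_iff_mem_normalizer.mpr (Subgroup.le_normalizer (h hd))
  · intro h
    have h1 : D ≤ Subgroup.normalizer (Q : Set G) := fun d hd =>
      Sylow.smul_eq_iff_mem_normalizer.mp (h d hd)
    have h2 := hD.inf_normalizer_sylow Q
    rw [inf_eq_left.mpr h1] at h2
    exact inf_eq_left.mp h2.symm

theorem eq_of_le {p : ℕ} [Fact p.Prime] {P Q : Sylow p G} (h : (P : Subgroup G) ≤ Q) : P = Q := by
  apply Sylow.ext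
  apply Subgroup.eq_of_le_of_card_ge h
  rw [P.card_eq_multiplicity, Q.card_eq_multiplicity]

theorem card_sylow_eq {p : ℕ} [Fact p.Prime] (P Q : Sylow p G) :
    Nat.card (P : Subgroup G) = Nat.card (Q : Subgroup G) := by
  rw [P.card_eq_multiplicity, Q.card_eq_multiplicity]

/-- number of Sylow subgroups containing a `p`-subgroup -/
theorem card_ge_modEq {p : ℕ} [Fact p.Prime] {D : Subgroup G} (hD : IsPGroup p D) :
    Nat.card {Q : Sylow p G // D ≤ Q} ≡ Nat.card (Sylow p G) [MOD p] := by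
  have h1 := hD.card_modEq_card_fixedPoints (Sylow p G)
  have h2 : Nat.card (fixedPoints D (Sylow p G)) = Nat.card {Q : Sylow p G // D ≤ Q} := by
    apply Nat.card_congr
    apply Equiv.subtypeEquivRight
    intro Q
    rw [le_sylow_iff hD]
    constructor
    · intro h d hd; exact h ⟨d, hd⟩
    · intro h d; exact h d d.2
  rw [← h2]
  exact h1.symm

/-- orbits of a `7`-subgroup on 15 Sylow subgroups -/
theorem orbit_seven {D : Subgroup G} (hD : IsPGroup 7 D) (h15 : Nat.card (Sylow 7 G) = 15)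
    {Q : Sylow 7 G} (hQ : ¬ D ≤ Q) : Nat.card (orbit D Q) = 7 := by
  have h1 : Nat.card (orbit D Q) ∣ Nat.card D := by
    rw [Nat.card_congr (orbitEquivQuotientStabilizer D Q)]
    exact Subgroup.card_quotient_dvd_card _
  obtain ⟨n, hn⟩ := IsPGroup.iff_card.mp hD
  rw [hn] at h1
  obtain ⟨k, hk, hk'⟩ := (Nat.dvd_prime_pow (by norm_num)).mp h1
  have h2 : Nat.card (orbit D Q) ≤ 15 := by
    rw [← h15]
    exact Nat.card_le_card_of_injective _ Subtype.val_injective
  rw [hk'] at h2 ⊢
  have h3 : k < 2 := by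
    by_contra h
    have : 7 ^ 2 ≤ 7 ^ k := Nat.pow_le_pow_right (by norm_num) (by omega)
    omega
  interval_cases k
  · exfalso
    apply hQ
    rw [le_sylow_iff hD]
    intro d hd
    rw [pow_zero, Nat.card_eq_one_iff_unique] at hk'
    have := hk'.1
    have h4 : (⟨(⟨d, hd⟩ : D) • Q, mem_orbit _ _⟩ : orbit D Q) = ⟨Q, mem_orbit_self _⟩ :=
      Subsingleton.elim _ _
    exact congrArg Subtype.val h4
  · rfl

/-- the hypotheses -/
structure Hyp (G : Type*) [Group G] [Finite G] : Prop where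
  n15 : Nat.card (Sylow 7 G) = 15
  faithful : ∀ g : G, (∀ Q : Sylow 7 G, g • Q = Q) → g = 1

theorem Hyp.exists_ne (h : Hyp G) (P : Sylow 7 G) : ∃ Q : Sylow 7 G, Q ≠ P := by
  haveI : Nontrivial (Sylow 7 G) := by
    rw [← Finite.one_lt_card_iff_nontrivial, h.n15]; norm_num
  exact _root_.exists_ne P

theorem not_le_of_ne {P Q : Sylow 7 G} (hPQ : Q ≠ P) : ¬ (P : Subgroup G) ≤ Q :=
  fun hle => hPQ (eq_of_le hle).symm

theorem Hyp.orbit_card (h : Hyp G) {P Q : Sylow 7 G} (hPQ : Q ≠ P) :
    Nat.card (orbit (P : Subgroup G) Q) = 7 :=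
  orbit_seven P.2 h.n15 (not_le_of_ne hPQ)

theorem stab_eq {p : ℕ} [Fact p.Prime] {D : Subgroup G} (hD : IsPGroup p D) (Q : Sylow p G) :
    stabilizer D Q = (Q : Subgroup G).subgroupOf D := by
  ext d
  rw [mem_stabilizer_iff, Subgroup.mem_subgroupOf]
  change (d : G) • Q = Q ↔ _
  rw [Sylow.smul_eq_iff_mem_normalizer]
  have h1 := hD.inf_normalizer_sylow Q
  constructor
  · intro h
    have h2 : (d : G) ∈ D ⊓ Subgroup.normalizer (Q : Set G) := ⟨d.2, h⟩
    rw [h1] at h2
    exact h2.2
  · intro h; exact Subgroup.le_normalizer h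

theorem card_inf_of_orbit {p : ℕ} [Fact p.Prime] {D : Subgroup G} (hD : IsPGroup p D) (Q : Sylow p G) :
    Nat.card (orbit D Q) * Nat.card (D ⊓ Q : Subgroup G) = Nat.card D := by
  have h1 := MulAction.index_stabilizer D Q
  rw [stab_eq hD, ← Nat.card_coe_set_eq] at h1
  rw [← h1, mul_comm]
  have h2 : Nat.card ((Q : Subgroup G).subgroupOf D) = Nat.card (D ⊓ Q : Subgroup G) := by
    rw [← Subgroup.inf_subgroupOf_left]
    exact Nat.card_congr (Subgroup.subgroupOfEquivOfLe inf_le_left).toEquiv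
  rw [← h2]
  exact Subgroup.card_mul_index _

theorem Hyp.card_inf (h : Hyp G) {P Q : Sylow 7 G} (hPQ : Q ≠ P) :
    7 * Nat.card ((P : Subgroup G) ⊓ Q : Subgroup G) = Nat.card (P : Subgroup G) := by
  rw [← card_inf_of_orbit P.2 Q, h.orbit_card hPQ]

/-- index `p` subgroup of a `p`-group is normal -/
theorem le_normalizer_of_card {P D : Subgroup G} (hP : IsPGroup 7 P) (hDP : D ≤ P)
    (hc : Nat.card P = 7 * Nat.card D) : P ≤ Subgroup.normalizer (D : Set G) := by
  by_cases hP1 : Nat.card P = 1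
  · rw [Subgroup.card_eq_one] at hP1
    rw [hP1]; exact bot_le
  have h1 : (D.subgroupOf P).index = 7 := by
    have h2 := Subgroup.card_mul_index (D.subgroupOf P)
    rw [Nat.card_congr (Subgroup.subgroupOfEquivOfLe hDP).toEquiv, hc, mul_comm] at h2
    exact Nat.eq_of_mul_eq_mul_right Nat.card_pos h2
  have h3 : (Nat.card P).minFac = 7 := by
    obtain ⟨n, hn⟩ := IsPGroup.iff_card.mp hP
    rw [hn]
    apply Nat.Prime.pow_minFac (by norm_num)
    rintro rfl
    exact hP1 (by rw [hn]; norm_num)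
  have h4 : (D.subgroupOf P).Normal := by
    apply Subgroup.normal_of_index_eq_minFac_card
    rw [h1, h3]
  exact (Subgroup.normal_subgroupOf_iff_le_normalizer hDP).mp h4

/-- Sylow 7-subgroups have order 7. -/
theorem Hyp.card_P (h : Hyp G) (P : Sylow 7 G) : Nat.card (P : Subgroup G) = 7 := by
  classical
  obtain ⟨Q, hQ⟩ := h.exists_ne P
  by_contra hne
  set D : Subgroup G := (P : Subgroup G) ⊓ Q with hD
  have hc := h.card_inf hQ
  rw [← hD] at hc
  have hD1 : D ≠ ⊥ := by
    intro h1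
    rw [h1, Subgroup.card_bot] at hc
    exact hne (by rw [← hc])
  have hDp : IsPGroup 7 D := P.2.to_le inf_le_left
  set F : Set (Sylow 7 G) := {R | D ≤ R} with hF
  -- `|F| = 8`
  have hF8 : F.ncard = 8 := by
    have h1 := card_ge_modEq hDp
    rw [h.n15] at h1
    have h2 : Nat.card {R : Sylow 7 G // D ≤ R} = F.ncard := Nat.card_coe_set_eq F
    rw [h2] at h1
    have h3 : F.ncard ≤ 15 := by
      rw [← h.n15]; exact Set.ncard_le_card F
    have h4 : 1 < F.ncard := by
      rw [Set.one_lt_ncard]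
      exact ⟨P, (inf_le_left : D ≤ (P : Subgroup G)), Q, (inf_le_right : D ≤ (Q : Subgroup G)), hQ.symm⟩
    have h5 : F.ncard ≠ 15 := by
      intro h5
      have h6 : F = Set.univ := by
        rw [Set.eq_univ_iff_ncard, h5, h.n15]
      apply hD1
      rw [eq_bot_iff]
      intro d hd
      rw [Subgroup.mem_bot]
      apply h.faithful
      intro R
      have h7 : R ∈ F := by rw [h6]; trivial
      exact (le_sylow_iff hDp R).mp h7 d hd
    have h8 : F.ncard % 7 = 1 := h1
    omega
  -- members of `F` normalize `D`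
  have hcard : ∀ R : Sylow 7 G, Nat.card (R : Subgroup G) = 7 * Nat.card D := fun R => by
    rw [card_sylow_eq R P, hc]
  have hRN : ∀ R ∈ F, (R : Subgroup G) ≤ Subgroup.normalizer (D : Set G) := fun R hR =>
    le_normalizer_of_card R.2 hR (hcard R)
  -- a point outside `F`
  obtain ⟨C, hC⟩ : ∃ C, C ∉ F := by
    by_contra hcon
    push Not at hcon
    have h6 : F = Set.univ := Set.eq_univ_of_forall hcon
    rw [h6, Set.ncard_univ, h.n15] at hF8
    omega
  have horb : orbit D C = Fᶜ := by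
    apply Set.eq_of_subset_of_ncard_le
    · rintro _ ⟨d, rfl⟩
      intro hd
      apply hC
      change D ≤ _
      have hd' : D ≤ ((d • C : Sylow 7 G) : Subgroup G) := hd
      intro x hx
      have h1 : (d : G) * x * (d : G)⁻¹ ∈ ((d • C : Sylow 7 G) : Subgroup G) :=
        hd' (D.mul_mem (D.mul_mem d.2 hx) (D.inv_mem d.2))
      change (d : G) * x * (d : G)⁻¹ ∈ (((d : G) • C : Sylow 7 G) : Subgroup G) at h1
      rw [Sylow.coe_subgroup_smul, Subgroup.mem_smul_pointwise_iff_exists] at h1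
      obtain ⟨y, hy, hy'⟩ := h1
      have : y = x := by
        have h2 : (d : G) * y * (d : G)⁻¹ = (d : G) * x * (d : G)⁻¹ := hy'
        exact mul_left_cancel (mul_right_cancel h2)
      rw [← this]; exact hy
    · rw [Set.ncard_compl, h.n15, hF8, ← Nat.card_coe_set_eq, orbit_seven hDp h.n15 hC]
    · exact Set.toFinite _
  -- decomposition
  let L : Subgroup G := C ⊓ Subgroup.normalizer (D : Set G)
  have hLp : IsPGroup 7 L := C.2.to_le inf_le_left
  have hDL : IsPGroup 7 (L ⊔ D : Subgroup G) := IsPGroup.to_sup_of_normal_right' hLp hDp inf_le_right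
  obtain ⟨R0, hR0⟩ := hDL.exists_le_sylow
  have key : ∀ R ∈ F, R = R0 := by
    intro R hR
    apply eq_of_le
    intro r hr
    have h1 : r • C ∈ Fᶜ := by
      intro h2
      apply hC
      change D ≤ _
      have h2' : D ≤ ((r • C : Sylow 7 G) : Subgroup G) := h2
      intro x hx
      have h3 : r * x * r⁻¹ ∈ D := (Subgroup.mem_normalizer_iff.mp (hRN R hR hr) x).mp hx
      have h4 := h2' h3
      rw [Sylow.coe_subgroup_smul, Subgroup.mem_smul_pointwise_iff_exists] at h4
      obtain ⟨y, hy, hy'⟩ := h4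
      have : y = x := by
        have h5 : r * y * r⁻¹ = r * x * r⁻¹ := hy'
        exact mul_left_cancel (mul_right_cancel h5)
      rw [← this]; exact hy
    rw [← horb] at h1
    obtain ⟨d, hd⟩ := h1
    have hd' : (d : G) • C = r • C := hd
    have h3 : ((d : G)⁻¹ * r) • C = C := by
      rw [mul_smul, ← hd', inv_smul_smul]
    have hdr : (d : G)⁻¹ * r ∈ (R : Subgroup G) := (R : Subgroup G).mul_mem ((R : Subgroup G).inv_mem (hR d.2)) hr
    have h4 : (d : G)⁻¹ * r ∈ (C : Subgroup G) := by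
      have h5 : (d : G)⁻¹ * r ∈ (R : Subgroup G) ⊓ Subgroup.normalizer (C : Set G) :=
        ⟨hdr, Sylow.smul_eq_iff_mem_normalizer.mp h3⟩
      rw [R.2.inf_normalizer_sylow C] at h5
      exact h5.2
    have h5 : (d : G)⁻¹ * r ∈ L := ⟨h4, hRN R hR hdr⟩
    have h6 : r = d * ((d : G)⁻¹ * r) := by group
    rw [h6]
    exact hR0 (Subgroup.mul_mem _ (Subgroup.mem_sup_right d.2) (Subgroup.mem_sup_left h5))
  have hPF : P ∈ F := (inf_le_left : D ≤ (P : Subgroup G))
  have hQF : Q ∈ F := (inf_le_right : D ≤ (Q : Subgroup G))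
  exact hQ ((key Q hQF).trans (key P hPF).symm)

theorem Hyp.comm (h : Hyp G) (P : Sylow 7 G) : ∀ x ∈ (P : Subgroup G), ∀ y ∈ (P : Subgroup G), x * y = y * x := by
  haveI : IsCyclic (P : Subgroup G) := isCyclic_of_prime_card (p := 7) (h.card_P P)
  intro x hx y hy
  have := IsCyclic.commGroup (α := (P : Subgroup G)) |>.mul_comm ⟨x, hx⟩ ⟨y, hy⟩
  exact congrArg Subtype.val this

theorem Hyp.pow_seven (h : Hyp G) (P : Sylow 7 G) {x : G} (hx : x ∈ (P : Subgroup G)) : x ^ 7 = 1 := by
  have h1 := pow_card_eq_one' (x := (⟨x, hx⟩ : (P : Subgroup G)))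
  rw [h.card_P P] at h1
  exact congrArg Subtype.val h1

theorem Hyp.cover (h : Hyp G) {P Q R : Sylow 7 G} (hQ : Q ≠ P) (hR : R ≠ P)
    (hRQ : R ∉ orbit (P : Subgroup G) Q) (X : Sylow 7 G) :
    X = P ∨ X ∈ orbit (P : Subgroup G) Q ∨ X ∈ orbit (P : Subgroup G) R := by
  classical
  have hfix : ∀ x : (P : Subgroup G), x • P = P := fun x =>
    (le_sylow_iff P.2 P).mp le_rfl x x.2
  have hPQ : ∀ Y : Sylow 7 G, Y ≠ P → P ∉ orbit (P : Subgroup G) Y := by
    rintro Y hY ⟨x, hx⟩
    apply hY
    have hx' : x • Y = P := hx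
    exact smul_left_cancel x (hx'.trans (hfix x).symm)
  have hd : Disjoint (orbit (P : Subgroup G) Q) (orbit (P : Subgroup G) R) := by
    rcases orbit.eq_or_disjoint (G := (P : Subgroup G)) Q R with h1 | h1
    · exfalso; apply hRQ; rw [h1]; exact mem_orbit_self R
    · exact h1
  have h1 : (insert P (orbit (P : Subgroup G) Q ∪ orbit (P : Subgroup G) R)) = Set.univ := by
    rw [Set.eq_univ_iff_ncard, h.n15, Set.ncard_insert_of_notMem, Set.ncard_union_eq hd,
      ← Nat.card_coe_set_eq, ← Nat.card_coe_set_eq, h.orbit_card hQ, h.orbit_card hR]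
    rintro (h2 | h2)
    · exact hPQ Q hQ h2
    · exact hPQ R hR h2
  have h2 : X ∈ (insert P (orbit (P : Subgroup G) Q ∪ orbit (P : Subgroup G) R)) := by
    rw [h1]; trivial
  rcases h2 with h2 | h2 | h2
  · exact Or.inl h2
  · exact Or.inr (Or.inl h2)
  · exact Or.inr (Or.inr h2)

theorem cent_smul {P : Sylow 7 G} {c : G} (hc : c ∈ Subgroup.centralizer (P : Set G)) : c • P = P := by
  rw [Sylow.smul_eq_iff_mem_normalizer]
  exact Subgroup.centralizer_le_normalizer _ hc

theorem Hyp.cent_orbit (h : Hyp G) {P Q : Sylow 7 G} (hQ : Q ≠ P) {c : G}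
    (hc : c ∈ Subgroup.centralizer (P : Set G)) (hcQ : c • Q ∈ orbit (P : Subgroup G) Q) :
    c ∈ (P : Subgroup G) := by
  obtain ⟨x, hx⟩ := hcQ
  have hx : (x : G) • Q = c • Q := hx
  set c' : G := (x : G)⁻¹ * c with hc'
  have h1 : c' • Q = Q := by rw [hc', mul_smul, ← hx, inv_smul_smul]
  have hcc : ∀ y ∈ (P : Subgroup G), y * c = c * y := fun y hy => Subgroup.mem_centralizer_iff.mp hc y hy
  have hcom : ∀ y ∈ (P : Subgroup G), y * c' = c' * y := by
    intro y hy
    rw [hc', ← mul_assoc, h.comm P y hy _ ((P : Subgroup G).inv_mem x.2), mul_assoc, hcc y hy, mul_assoc]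
  have hcen : c' ∈ Subgroup.centralizer (P : Set G) := Subgroup.mem_centralizer_iff.mpr hcom
  have hcP : c' • P = P := cent_smul hcen
  have hfixO : ∀ R ∈ orbit (P : Subgroup G) Q, c' • R = R := by
    rintro _ ⟨y, rfl⟩
    change c' • ((y : G) • Q) = (y : G) • Q
    rw [← mul_smul, ← hcom y y.2, mul_smul, h1]
  have h7 : c' ^ 7 = 1 := by
    apply h.faithful
    intro R
    by_cases hRP : R = P
    · subst hRP
      have : ∀ n : ℕ, c' ^ n • R = R := by
        intro n
        induction n with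
        | zero => rw [pow_zero, one_smul]
        | succ n ih => rw [pow_succ, mul_smul, hcP, ih]
      exact this 7
    by_cases hRQ : R ∈ orbit (P : Subgroup G) Q
    · have : ∀ n : ℕ, c' ^ n • R = R := by
        intro n
        induction n with
        | zero => rw [pow_zero, one_smul]
        | succ n ih => rw [pow_succ, mul_smul, hfixO R hRQ, ih]
      exact this 7
    · rcases h.cover hQ hRP hRQ (c' • R) with h2 | h2 | h2
      · exfalso; apply hRP
        rw [← hcP] at h2
        exact smul_left_cancel c' h2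
      · exfalso; apply hRQ
        have h3 := hfixO _ h2
        have h4 : c' • R = R := smul_left_cancel c' h3
        rw [h4] at h2; exact h2
      · obtain ⟨y, hy⟩ := h2
        have hy : (y : G) • R = c' • R := hy
        have : ∀ n : ℕ, c' ^ n • R = (y : G) ^ n • R := by
          intro n
          induction n with
          | zero => rw [pow_zero, pow_zero]
          | succ n ih =>
            rw [pow_succ', mul_smul, ih, ← mul_smul]
            have hcy : c' * (y : G) ^ n = (y : G) ^ n * c' :=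
              (hcom _ ((P : Subgroup G).pow_mem y.2 n)).symm
            rw [hcy, mul_smul, ← hy, ← mul_smul, pow_succ]
        rw [this 7, h.pow_seven P y.2, one_smul]
  have hz : IsPGroup 7 (Subgroup.zpowers c') := by
    intro g
    obtain ⟨g, hg⟩ := g
    obtain ⟨k, rfl⟩ := Subgroup.mem_zpowers_iff.mp hg
    refine ⟨1, Subtype.ext ?_⟩
    rw [pow_one, Subgroup.coe_pow, ← zpow_natCast, ← zpow_mul, mul_comm, zpow_mul, zpow_natCast, h7,
      one_zpow]
    rfl
  have hzfix : ∀ R : Sylow 7 G, c' • R = R → c' ∈ (R : Subgroup G) := by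
    intro R hR
    have h2 := hz.inf_normalizer_sylow R
    have h3 : c' ∈ Subgroup.zpowers c' ⊓ Subgroup.normalizer (R : Set G) :=
      ⟨Subgroup.mem_zpowers c', Sylow.smul_eq_iff_mem_normalizer.mp hR⟩
    rw [h2] at h3
    exact h3.2
  have h8 := h.card_inf hQ
  rw [h.card_P P] at h8
  have h9 : ((P : Subgroup G) ⊓ Q : Subgroup G) = ⊥ := by
    rw [← Subgroup.card_eq_one]; omega
  have h10 : c' ∈ ((P : Subgroup G) ⊓ Q : Subgroup G) := ⟨hzfix P hcP, hzfix Q h1⟩
  rw [h9, Subgroup.mem_bot] at h10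
  have : c = x := by
    have h11 : c = x * c' := by rw [hc']; group
    rw [h11, h10, mul_one]
  rw [this]; exact x.2

theorem Hyp.cent_sq (h : Hyp G) {P : Sylow 7 G} {c : G}
    (hc : c ∈ Subgroup.centralizer (P : Set G)) : c * c ∈ (P : Subgroup G) := by
  obtain ⟨Q, hQ⟩ := h.exists_ne P
  by_cases hcQ : c • Q ∈ orbit (P : Subgroup G) Q
  · have := h.cent_orbit hQ hc hcQ
    exact (P : Subgroup G).mul_mem this this
  have hcP : c • P = P := cent_smul hc
  have hcc : ∀ y ∈ (P : Subgroup G), y * c = c * y := fun y hy => Subgroup.mem_centralizer_iff.mp hc y hy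
  have hR : c • Q ≠ P := by
    intro h1
    rw [← hcP] at h1
    exact hQ (smul_left_cancel c h1)
  apply h.cent_orbit hQ ((Subgroup.centralizer (P : Set G)).mul_mem hc hc)
  rcases h.cover hQ hR hcQ (c • c • Q) with h1 | h1 | h1
  · exfalso; apply hR
    rw [← hcP] at h1
    exact smul_left_cancel c h1
  · rw [mul_smul]; exact h1
  · exfalso
    obtain ⟨y, hy⟩ := h1
    have hy : (y : G) • c • Q = c • c • Q := hy
    apply hcQ
    refine ⟨y, ?_⟩
    change (y : G) • Q = c • Q
    rw [← mul_smul, hcc y y.2, mul_smul] at hy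
    exact smul_left_cancel c hy

theorem Hyp.cent_pow (h : Hyp G) {P : Sylow 7 G} {c : G}
    (hc : c ∈ Subgroup.centralizer (P : Set G)) : c ^ 14 = 1 := by
  have h1 := h.pow_seven P (h.cent_sq hc)
  rw [← sq, ← pow_mul] at h1
  exact h1

/-- an involution centralizing `P` has a unique fixed point -/
theorem Hyp.cent_inv (h : Hyp G) {P Q : Sylow 7 G} {t : G} (hQ : Q ≠ P)
    (ht : t ∈ Subgroup.centralizer (P : Set G)) (ht2 : t * t = 1) (ht1 : t ≠ 1) : t • Q ≠ Q := by
  intro h1
  have h2 := h.cent_orbit hQ ht (by rw [h1]; exact mem_orbit_self Q)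
  have h3 := h.pow_seven P h2
  apply ht1
  have : t ^ 7 = (t * t) ^ 3 * t := by rw [← sq, ← pow_mul, ← pow_succ]
  rw [this, ht2, one_pow, one_mul] at h3
  exact h3

end Cfsg.Agent.H21.Syl15
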