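import Mathlib
import Cfsg.Agent.H21_Syl15
import Cfsg.Agent.H21_P17e

/-!
# No finite group has exactly 15 Sylow 7-subgroups: global part
-/

set_option autoImplicit false

open scoped Pointwise

namespace Cfsg.Agent.H21.Syl15

open MulAction Subgroup

theorem card_normalizer_dvd {G : Type*} [Group G] [Finite G] (Q : Subgroup G) [hQ : IsCyclic Q] :
    Nat.card (Subgroup.normalizer (Q : Set G)) ∣
      Nat.totient (Nat.card Q) * Nat.card (Subgroup.centralizer (Q : Set G)) := by
  have key := card_dvd_of_injective _ (QuotientGroup.kerLift_injective Q.normalizerMonoidHom)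
  rw [normalizerMonoidHom_ker, ← index, ← relIndex, hQ.card_mulAut] at key
  rw [← H1.Basic.relIndex_mul_card (Subgroup.centralizer_le_normalizer _)]
  exact Nat.mul_dvd_mul key dvd_rfl

/-- groups with a Sylow subgroup in the centre of its normalizer are not simple -/
theorem not_simple_of_burnside {G : Type*} [Group G] [Finite G] {p : ℕ} [hp : Fact p.Prime]
    (P : Sylow p G) (hP : Subgroup.normalizer (P : Set G) ≤ Subgroup.centralizer (P : Set G))
    (hs : ∀ N : Subgroup G, N.Normal → N = ⊥ ∨ N = ⊤) (h1 : Nat.card (P : Subgroup G) ≠ 1)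
    (h2 : Nat.card (P : Subgroup G) ≠ Nat.card G) : False := by
  have hc := MonoidHom.ker_transferSylow_isComplement' P hP
  have hc' := hc.card_mul_card
  rcases hs _ (MonoidHom.normal_ker (MonoidHom.transferSylow P hP)) with h | h
  · rw [h, Subgroup.card_bot, one_mul] at hc'
    exact h2 hc'
  · rw [h, Subgroup.card_top] at hc'
    exact h1 (Nat.eq_of_mul_eq_mul_left Nat.card_pos (by rw [hc', mul_one]))

variable {G : Type*} [Group G] [Finite G]

theorem Hyp.card_G (h : Hyp G) (P : Sylow 7 G) :
    Nat.card G = 15 * Nat.card (Subgroup.normalizer (P : Set G)) := by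
  rw [← h.n15, Sylow.card_eq_index_normalizer P, mul_comm]
  exact (Subgroup.card_mul_index _).symm

theorem Hyp.card_N_dvd (h : Hyp G) (P : Sylow 7 G) :
    Nat.card (Subgroup.normalizer (P : Set G)) ∣ 6 * Nat.card (Subgroup.centralizer (P : Set G)) := by
  haveI : IsCyclic (P : Subgroup G) := isCyclic_of_prime_card (p := 7) (h.card_P P)
  have h1 := card_normalizer_dvd (P : Subgroup G)
  rw [h.card_P P] at h1
  have : Nat.totient 7 = 6 := by decide
  rw [this] at h1
  exact h1

theorem Hyp.not_five_dvd_cent (h : Hyp G) (P : Sylow 7 G) :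
    ¬ 5 ∣ Nat.card (Subgroup.centralizer (P : Set G)) := by
  intro h5
  obtain ⟨y, hy⟩ := exists_prime_orderOf_dvd_card' (G := Subgroup.centralizer (P : Set G)) 5 h5
  have h1 := h.cent_pow y.2
  have h2 : y ^ 14 = 1 := Subtype.ext h1
  have h3 := orderOf_dvd_of_pow_eq_one h2
  rw [hy] at h3
  norm_num at h3

theorem Hyp.not_five_dvd (h : Hyp G) (P : Sylow 7 G) :
    ¬ 5 ∣ Nat.card (Subgroup.normalizer (P : Set G)) := by
  intro h5
  have h1 := h5.trans (h.card_N_dvd P)
  rcases (Nat.Prime.dvd_mul (by norm_num)).mp h1 with h2 | h2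
  · norm_num at h2
  · exact h.not_five_dvd_cent P h2

/-- a normal subgroup of order prime to 7 is trivial -/
theorem Hyp.normal_seven (h : Hyp G) (N : Subgroup G) [hN : N.Normal] (h7 : ¬ 7 ∣ Nat.card N) :
    N = ⊥ := by
  classical
  obtain ⟨P⟩ : Nonempty (Sylow 7 G) := inferInstance
  -- orbits
  have hdvd : ∀ Q : Sylow 7 G, (orbit N Q).ncard ∣ 15 := by
    intro Q
    rw [← h.n15]
    exact (IsBlock.orbit_of_normal (G := G) (N := N) Q).ncard_dvd_card ⟨Q, mem_orbit_self Q⟩
  have hmod : ∀ Q : Sylow 7 G, (orbit N Q).ncard ≡ 1 [MOD 7] := by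
    intro Q
    rw [← Nat.card_coe_set_eq]
    refine H21.P17.card_modEq_one_of_unique_fixed (r := 7) Q.2 (orbit N Q) ?_ (mem_orbit_self Q) ?_
    · rintro g _ ⟨n, rfl⟩
      refine ⟨⟨(g : G) * n * (g : G)⁻¹, hN.conj_mem n n.2 g⟩, ?_⟩
      change ((g : G) * n * (g : G)⁻¹) • Q = (g : G) • ((n : G) • Q)
      rw [mul_smul, mul_smul]
      have : (g : G)⁻¹ • Q = Q := (le_sylow_iff Q.2 Q).mp le_rfl _ ((Q : Subgroup G).inv_mem g.2)
      rw [this]
    · intro R hR
      constructor
      · intro h1
        symm
        apply eq_of_le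
        rw [le_sylow_iff Q.2]
        intro d hd
        exact h1 ⟨d, hd⟩
      · rintro rfl
        intro g
        exact (le_sylow_iff R.2 R).mp le_rfl _ g.2
  have hone : ∀ Q : Sylow 7 G, (orbit N Q).ncard = 1 ∨ (orbit N Q).ncard = 15 := by
    intro Q
    have h1 := hdvd Q
    have h2 : (orbit N Q).ncard % 7 = 1 := hmod Q
    have h3 : (orbit N Q).ncard ≤ 15 := Nat.le_of_dvd (by norm_num) h1
    interval_cases hh : (orbit N Q).ncard <;> simp_all
  by_cases hall : ∀ Q : Sylow 7 G, (orbit N Q).ncard = 1
  · rw [eq_bot_iff]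
    intro n hn
    rw [Subgroup.mem_bot]
    apply h.faithful
    intro Q
    obtain ⟨R, hR⟩ := Set.ncard_eq_one.mp (hall Q)
    have h1 : Q ∈ orbit N Q := mem_orbit_self Q
    have h2 : (⟨n, hn⟩ : N) • Q ∈ orbit N Q := mem_orbit _ _
    rw [hR, Set.mem_singleton_iff] at h1 h2
    rw [← h1] at h2
    exact h2
  · exfalso
    push Not at hall
    obtain ⟨Q, hQ⟩ := hall
    have h15 := (hone Q).resolve_left hQ
    have h5N : 5 ∣ Nat.card N := by
      have h1 : Nat.card (orbit N Q) ∣ Nat.card N := by
        rw [Nat.card_congr (orbitEquivQuotientStabilizer N Q)]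
        exact Subgroup.card_quotient_dvd_card _
      rw [Nat.card_coe_set_eq, h15] at h1
      exact (by norm_num : 5 ∣ 15).trans h1
    -- Sylow 5-subgroup of N
    obtain ⟨R⟩ : Nonempty (Sylow 5 N) := inferInstance
    have hG25 : ¬ 25 ∣ Nat.card G := by
      rw [h.card_G P]
      intro h25
      have h1 : 5 * 5 ∣ 5 * (3 * Nat.card (Subgroup.normalizer (P : Set G))) := by
        have : 5 * (3 * Nat.card (Subgroup.normalizer (P : Set G))) =
          15 * Nat.card (Subgroup.normalizer (P : Set G)) := by ring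
        rw [this]; exact h25
      have h2 := Nat.dvd_of_mul_dvd_mul_left (by norm_num) h1
      rcases (Nat.Prime.dvd_mul (by norm_num)).mp h2 with h3 | h3
      · norm_num at h3
      · exact h.not_five_dvd P h3
    have hRcard : Nat.card (R : Subgroup N) = 5 := by
      obtain ⟨k, hk⟩ := IsPGroup.iff_card.mp R.2
      have h1 : 5 ∣ Nat.card (R : Subgroup N) := R.dvd_card_of_dvd_card h5N
      have h2 : k ≠ 0 := by
        rintro rfl
        rw [hk] at h1; norm_num at h1
      have h3 : k < 2 := by
        by_contra hk2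
        apply hG25
        have h4 : 5 ^ 2 ∣ 5 ^ k := pow_dvd_pow 5 (by omega)
        rw [← hk] at h4
        exact h4.trans ((R : Subgroup N).card_subgroup_dvd_card.trans N.card_subgroup_dvd_card)
      have h4 : k = 1 := by omega
      rw [hk, h4, pow_one]
    set Q' : Subgroup G := (R : Subgroup N).map N.subtype with hQ'
    have hQ'card : Nat.card Q' = 5 := by
      exact (Nat.card_congr ((R : Subgroup N).equivMapOfInjective _ N.subtype_injective).toEquiv).symm.trans hRcard
    have hfr : Subgroup.normalizer (Q' : Set G) ⊔ N = ⊤ := Sylow.normalizer_sup_eq_top R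
    have h7G : 7 ∣ Nat.card G := by
      have := (P : Subgroup G).card_subgroup_dvd_card
      rwa [h.card_P P] at this
    have h7H : 7 ∣ Nat.card (Subgroup.normalizer (Q' : Set G)) := by
      have h1 := H1.Basic.card_sup_mul_card_inf (H := Subgroup.normalizer (Q' : Set G)) (K := N)
        (by rw [Subgroup.normalizer_eq_top N]; exact le_top)
      rw [hfr, Subgroup.card_top] at h1
      have h2 : 7 ∣ Nat.card (Subgroup.normalizer (Q' : Set G)) * Nat.card N := by
        rw [← h1]; exact h7G.mul_right _
      exact ((Nat.Prime.dvd_mul (by norm_num)).mp h2).resolve_right h7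
    haveI : IsCyclic Q' := isCyclic_of_prime_card (p := 5) hQ'card
    have h7C : 7 ∣ Nat.card (Subgroup.centralizer (Q' : Set G)) := by
      have h1 := card_normalizer_dvd Q'
      rw [hQ'card, show Nat.totient 5 = 4 by decide] at h1
      have h2 := h7H.trans h1
      exact ((Nat.Prime.dvd_mul (by norm_num)).mp h2).resolve_left (by norm_num)
    obtain ⟨x, hx⟩ := exists_prime_orderOf_dvd_card' (G := Subgroup.centralizer (Q' : Set G)) 7 h7C
    have hx' : orderOf (x : G) = 7 := by rw [Subgroup.orderOf_coe]; exact hx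
    have hxp : IsPGroup 7 (Subgroup.zpowers (x : G)) := by
      apply IsPGroup.of_card (n := 1)
      rw [Nat.card_zpowers, hx', pow_one]
    obtain ⟨P', hP'⟩ := hxp.exists_le_sylow
    have hP'eq : (P' : Subgroup G) = Subgroup.zpowers (x : G) := by
      symm
      apply Subgroup.eq_of_le_of_card_ge hP'
      rw [h.card_P P', Nat.card_zpowers, hx']
    apply h.not_five_dvd_cent P'
    have h1 : Q' ≤ Subgroup.centralizer (P' : Set G) := by
      intro y hy
      rw [Subgroup.mem_centralizer_iff]
      intro z hz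
      have hz' : z ∈ (P' : Subgroup G) := hz
      rw [hP'eq] at hz'
      obtain ⟨k, rfl⟩ := Subgroup.mem_zpowers_iff.mp hz'
      have h2 : Commute (x : G) y := (Subgroup.mem_centralizer_iff.mp x.2 y hy).symm
      exact h2.zpow_left k
    have h2 := Subgroup.card_dvd_of_le h1
    rwa [hQ'card] at h2

/-- the unique involution argument -/
theorem Hyp.sign_inv (h : Hyp G) {P : Sylow 7 G} {t : G}
    (ht : t ∈ Subgroup.centralizer (P : Set G)) (ht2 : t * t = 1) (ht1 : t ≠ 1)
    [Fintype (Sylow 7 G)] [DecidableEq (Sylow 7 G)] :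
    Equiv.Perm.sign (MulAction.toPermHom G (Sylow 7 G) t) = -1 := by
  set σ := MulAction.toPermHom G (Sylow 7 G) t with hσ
  have hsupp : σ.support = Finset.univ.erase P := by
    ext Q
    rw [Equiv.Perm.mem_support, Finset.mem_erase]
    constructor
    · intro h1
      refine ⟨?_, Finset.mem_univ _⟩
      rintro rfl
      exact h1 (cent_smul ht)
    · rintro ⟨h1, _⟩
      exact h.cent_inv h1 ht ht2 ht1
  have hcard : σ.support.card = 14 := by
    rw [hsupp, Finset.card_erase_of_mem (Finset.mem_univ _), Finset.card_univ,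
      ← Nat.card_eq_fintype_card, h.n15]
  have h2 : ∀ c ∈ σ.cycleType, c = 2 := by
    rw [← Equiv.Perm.pow_prime_eq_one_iff, hσ, ← map_pow, sq, ht2, map_one]
  have h3 : σ.cycleType = Multiset.replicate (Multiset.card σ.cycleType) 2 :=
    Multiset.eq_replicate_card.mpr h2
  have h4 : σ.cycleType.sum = 14 := by rw [Equiv.Perm.sum_cycleType, hcard]
  have h5 : Multiset.card σ.cycleType = 7 := by
    rw [h3, Multiset.sum_replicate, smul_eq_mul] at h4
    omega
  rw [Equiv.Perm.sign_of_cycleType, h4, h5]
  decide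

theorem Hyp.not_simple (h : Hyp G) (hs : ∀ N : Subgroup G, N.Normal → N = ⊥ ∨ N = ⊤) : False := by
  classical
  haveI : Fintype (Sylow 7 G) := Fintype.ofFinite _
  obtain ⟨P⟩ : Nonempty (Sylow 7 G) := inferInstance
  have h7G : 7 ∣ Nat.card G := by
    have := (P : Subgroup G).card_subgroup_dvd_card
    rwa [h.card_P P] at this
  -- no involutions in the centralizer
  have hinv : ∀ t ∈ Subgroup.centralizer (P : Set G), t * t = 1 → t = 1 := by
    intro t ht ht2
    by_contra ht1
    have h1 := h.sign_inv ht ht2 ht1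
    let f : G →* ℤˣ := Equiv.Perm.sign.comp (MulAction.toPermHom G (Sylow 7 G))
    rcases hs f.ker (MonoidHom.normal_ker f) with h2 | h2
    · have h3 : Function.Injective f := (MonoidHom.ker_eq_bot_iff f).mp h2
      have h4 := Nat.card_le_card_of_injective f h3
      have h5 : Nat.card ℤˣ = 2 := by rw [Nat.card_eq_fintype_card]; rfl
      rw [h5] at h4
      have h6 := Nat.le_of_dvd Nat.card_pos h7G
      omega
    · have h3 : t ∈ f.ker := by rw [h2]; trivial
      rw [MonoidHom.mem_ker] at h3
      change Equiv.Perm.sign (MulAction.toPermHom G (Sylow 7 G) t) = 1 at h3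
      rw [h1] at h3
      exact absurd h3 (by decide)
  have hC : Subgroup.centralizer (P : Set G) ≤ P := by
    intro c hc
    have h1 := h.cent_pow hc
    have h2 : c ^ 7 = 1 := by
      apply hinv _ ((Subgroup.centralizer (P : Set G)).pow_mem hc 7)
      rw [← pow_add]; exact h1
    have hz : IsPGroup 7 (Subgroup.zpowers c) := by
      rintro ⟨g, hg⟩
      obtain ⟨k, rfl⟩ := Subgroup.mem_zpowers_iff.mp hg
      refine ⟨1, Subtype.ext ?_⟩
      rw [pow_one, Subgroup.coe_pow, ← zpow_natCast, ← zpow_mul, mul_comm, zpow_mul, zpow_natCast, h2,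
        one_zpow]
      rfl
    have h3 := hz.inf_normalizer_sylow P
    have h4 : c ∈ Subgroup.zpowers c ⊓ Subgroup.normalizer (P : Set G) :=
      ⟨Subgroup.mem_zpowers c, Subgroup.centralizer_le_normalizer _ hc⟩
    rw [h3] at h4
    exact h4.2
  have hCcard : Nat.card (Subgroup.centralizer (P : Set G)) ∣ 7 := by
    exact (Subgroup.card_dvd_of_le hC).trans (by rw [h.card_P P])
  have hN : Nat.card (Subgroup.normalizer (P : Set G)) ∣ 42 :=
    (h.card_N_dvd P).trans (by
      have := Nat.mul_dvd_mul (dvd_refl 6) hCcard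
      exact this)
  have hG : Nat.card G ∣ 630 := by
    rw [h.card_G P]
    exact Nat.mul_dvd_mul (dvd_refl 15) hN
  have h15G : 15 ∣ Nat.card G := by rw [h.card_G P]; exact dvd_mul_right _ _
  by_cases h2 : 2 ∣ Nat.card G
  · -- Sylow 2
    haveI : Fact (Nat.Prime 2) := ⟨Nat.prime_two⟩
    obtain ⟨R⟩ : Nonempty (Sylow 2 G) := inferInstance
    have hRcard : Nat.card (R : Subgroup G) = 2 := by
      obtain ⟨k, hk⟩ := IsPGroup.iff_card.mp R.2
      have h1 : 2 ∣ Nat.card (R : Subgroup G) := R.dvd_card_of_dvd_card h2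
      have h2 : k ≠ 0 := by
        rintro rfl
        rw [hk] at h1; norm_num at h1
      have h3 : k < 2 := by
        by_contra hk2
        have h4 : 2 ^ 2 ∣ 2 ^ k := pow_dvd_pow 2 (by omega)
        rw [← hk] at h4
        have h5 := (h4.trans ((R : Subgroup G).card_subgroup_dvd_card)).trans hG
        norm_num at h5
      have h4 : k = 1 := by omega
      rw [hk, h4, pow_one]
    haveI : IsCyclic (R : Subgroup G) := isCyclic_of_prime_card (p := 2) hRcard
    have hmin : (Nat.card G).minFac = 2 := (Nat.minFac_eq_two_iff _).mpr h2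
    refine not_simple_of_burnside R (IsCyclic.normalizer_le_centralizer hmin ‹_›) hs ?_ ?_
    · rw [hRcard]; norm_num
    · rw [hRcard]
      intro h3
      rw [← h3] at h7G
      norm_num at h7G
  · obtain ⟨R⟩ : Nonempty (Sylow 5 G) := inferInstance
    have hRcard : Nat.card (R : Subgroup G) = 5 := by
      obtain ⟨k, hk⟩ := IsPGroup.iff_card.mp R.2
      have h1 : 5 ∣ Nat.card (R : Subgroup G) :=
        R.dvd_card_of_dvd_card ((by norm_num : 5 ∣ 15).trans h15G)
      have h2 : k ≠ 0 := by
        rintro rfl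
        rw [hk] at h1; norm_num at h1
      have h3 : k < 2 := by
        by_contra hk2
        have h4 : 5 ^ 2 ∣ 5 ^ k := pow_dvd_pow 5 (by omega)
        rw [← hk] at h4
        have h5 := (h4.trans ((R : Subgroup G).card_subgroup_dvd_card)).trans hG
        norm_num at h5
      have h4 : k = 1 := by omega
      rw [hk, h4, pow_one]
    haveI : IsCyclic (R : Subgroup G) := isCyclic_of_prime_card (p := 5) hRcard
    have h1 := card_normalizer_dvd (R : Subgroup G)
    rw [hRcard, show Nat.totient 5 = 4 by decide] at h1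
    have hodd : Nat.Coprime (Nat.card (Subgroup.normalizer ((R : Subgroup G) : Set G))) 4 := by
      have h3 : ¬ 2 ∣ Nat.card (Subgroup.normalizer ((R : Subgroup G) : Set G)) := fun h4 =>
        h2 (h4.trans (Subgroup.card_subgroup_dvd_card _))
      have h4 : Nat.Coprime (Nat.card (Subgroup.normalizer ((R : Subgroup G) : Set G))) 2 :=
        ((Nat.Prime.coprime_iff_not_dvd Nat.prime_two).mpr h3).symm
      exact Nat.Coprime.pow_right 2 h4
    have h3 := hodd.dvd_of_dvd_mul_left h1
    have h4 : Subgroup.centralizer ((R : Subgroup G) : Set G) =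
        Subgroup.normalizer ((R : Subgroup G) : Set G) := by
      apply Subgroup.eq_of_le_of_card_ge (Subgroup.centralizer_le_normalizer _)
      exact Nat.le_of_dvd Nat.card_pos h3
    refine not_simple_of_burnside R (le_of_eq h4.symm) hs ?_ ?_
    · rw [hRcard]; norm_num
    · rw [hRcard]
      intro h3
      rw [← h3] at h7G
      norm_num at h7G

theorem main : ∀ (n : ℕ) (G : Type*) [Group G] [Finite G], Nat.card G = n →
    Nat.card (Sylow 7 G) ≠ 15 := by
  intro n
  induction n using Nat.strong_induction_on with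
  | _ n ih =>
  intro G _ _ hn h15
  -- faithful
  have hK : (MulAction.toPermHom G (Sylow 7 G)).ker = ⊥ := by
    by_contra hne
    set K := (MulAction.toPermHom G (Sylow 7 G)).ker with hKdef
    have hKm : ∀ k ∈ K, ∀ Q : Sylow 7 G, k • Q = Q := by
      intro k hk Q
      rw [hKdef, MonoidHom.mem_ker] at hk
      exact congrArg (fun σ : Equiv.Perm (Sylow 7 G) => σ Q) hk
    have hlt : Nat.card (G ⧸ K) < n := by
      rw [← hn, Subgroup.card_eq_card_quotient_mul_card_subgroup K]
      have h1 : 1 < Nat.card K := by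
        rw [Finite.one_lt_card_iff_nontrivial]
        exact (Subgroup.nontrivial_iff_ne_bot K).mpr hne
      exact lt_mul_of_one_lt_right Nat.card_pos h1
    apply ih _ hlt (G ⧸ K) rfl
    rw [← h15]
    symm
    apply Nat.card_congr
    refine Equiv.ofBijective (fun P => P.mapSurjective (QuotientGroup.mk'_surjective K)) ⟨?_, ?_⟩
    · intro P Q hPQ
      have h1 : ((P : Subgroup G).map (QuotientGroup.mk' K)) =
          ((Q : Subgroup G).map (QuotientGroup.mk' K)) := by
        have := congrArg (fun S : Sylow 7 (G ⧸ K) => (S : Subgroup (G ⧸ K))) hPQ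
        simpa using this
      symm
      apply eq_of_le
      rw [le_sylow_iff Q.2]
      intro q hq
      have h2 : QuotientGroup.mk' K q ∈ (Q : Subgroup G).map (QuotientGroup.mk' K) :=
        Subgroup.mem_map_of_mem _ hq
      rw [← h1] at h2
      obtain ⟨p, hp, hpq⟩ := h2
      have h3 : p⁻¹ * q ∈ K := by
        rw [← QuotientGroup.eq]
        exact hpq
      have h4 : q = p * (p⁻¹ * q) := by group
      rw [h4, mul_smul, hKm _ h3]
      exact (le_sylow_iff P.2 P).mp le_rfl p hp
    · exact Sylow.mapSurjective_surjective (QuotientGroup.mk'_surjective K) 7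
  have hy : Hyp G := by
    refine ⟨h15, fun g hg => ?_⟩
    have h1 : g ∈ (MulAction.toPermHom G (Sylow 7 G)).ker := by
      rw [MonoidHom.mem_ker]
      ext1 Q
      exact hg Q
    rw [hK] at h1
    exact Subgroup.mem_bot.mp h1
  apply hy.not_simple
  intro N hN
  by_cases h7 : 7 ∣ Nat.card N
  · right
    by_contra hne
    have hlt : Nat.card N < n := by
      rw [← hn]
      apply lt_of_le_of_ne (Subgroup.card_le_card_group N)
      intro h1
      exact hne (Subgroup.eq_top_of_card_eq N h1)
    apply ih _ hlt N rfl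
    -- all Sylow subgroups are in `N`
    have hle : ∀ P : Sylow 7 G, (P : Subgroup G) ≤ N := by
      obtain ⟨x, hx⟩ := exists_prime_orderOf_dvd_card' (G := N) 7 h7
      have hx' : orderOf (x : G) = 7 := by rw [Subgroup.orderOf_coe]; exact hx
      have hxp : IsPGroup 7 (Subgroup.zpowers (x : G)) := by
        apply IsPGroup.of_card (n := 1)
        rw [Nat.card_zpowers, hx', pow_one]
      obtain ⟨P', hP'⟩ := hxp.exists_le_sylow
      have hP'eq : (P' : Subgroup G) = Subgroup.zpowers (x : G) := by
        symm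
        apply Subgroup.eq_of_le_of_card_ge hP'
        rw [hy.card_P P', Nat.card_zpowers, hx']
      intro P
      obtain ⟨g, rfl⟩ := MulAction.exists_smul_eq G P' P
      intro z hz
      have hz' : z ∈ ((g • P' : Sylow 7 G) : Subgroup G) := hz
      rw [Sylow.coe_subgroup_smul, Subgroup.mem_smul_pointwise_iff_exists] at hz'
      obtain ⟨y, hy1, rfl⟩ := hz'
      have hy2 : y ∈ N := by
        rw [hP'eq] at hy1
        obtain ⟨k, rfl⟩ := Subgroup.mem_zpowers_iff.mp hy1
        exact N.zpow_mem x.2 k
      exact hN.conj_mem y hy2 g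
    rw [← h15]
    symm
    apply Nat.card_congr
    refine Equiv.ofBijective (fun P => P.subtype (hle P)) ⟨?_, ?_⟩
    · intro P Q hPQ
      exact Sylow.subtype_injective hPQ
    · intro R
      have hRp : IsPGroup 7 ((R : Subgroup N).map N.subtype) := R.2.map _
      obtain ⟨P, hP⟩ := hRp.exists_le_sylow
      refine ⟨P, ?_⟩
      apply Sylow.ext
      apply R.3 (P.subtype (hle P)).2
      intro r hr
      exact hP (Subgroup.mem_map_of_mem _ hr)
  · left
    exact hy.normal_seven N h7

end Cfsg.Agent.H21.Syl15
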