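import Mathlib
import Cfsg.Agent.H9_PermIndex
import Cfsg.Agent.H21_Syl15b

/-!
# Simple groups of order 168
-/

set_option autoImplicit false
open scoped Pointwise Nat

namespace Cfsg.Agent.H21.O168
open MulAction Subgroup

variable {G : Type*} [Group G] [Finite G]

theorem smul_syl_iff {p : ℕ} [Fact p.Prime] {P : Sylow p G} {g : G} :
    g • P = P ↔ g ∈ Subgroup.normalizer ((P : Subgroup G) : Set G) := Sylow.smul_eq_iff_mem_normalizer

theorem card_stab {p : ℕ} [Fact p.Prime] (P : Sylow p G) :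
    Nat.card (Sylow p G) * Nat.card (Subgroup.normalizer ((P : Subgroup G) : Set G)) = Nat.card G := by
  rw [Sylow.card_eq_index_normalizer P, mul_comm]
  exact Subgroup.card_mul_index _

variable [IsSimpleGroup G]

theorem index_ge (h : Nat.card G = 168) (H : Subgroup G) (hH : H ≠ ⊤) : 7 ≤ H.index := by
  have h1 := H9.PermIndex.card_dvd_factorial H hH
  rw [h] at h1
  by_contra h2
  have h3 : (H.index)! ∣ 6 ! := Nat.factorial_dvd_factorial (by omega)
  have h4 := h1.trans h3
  revert h4; decide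

instance : Fact (Nat.Prime 7) := ⟨by norm_num⟩

theorem card_P7 (h : Nat.card G = 168) (P : Sylow 7 G) : Nat.card (P : Subgroup G) = 7 := by
  rw [Sylow.card_eq_multiplicity, h, show (168 : ℕ).factorization 7 = 1 by decide +kernel, pow_one]

theorem card_P3 (h : Nat.card G = 168) (P : Sylow 3 G) : Nat.card (P : Subgroup G) = 3 := by
  rw [Sylow.card_eq_multiplicity, h, show (168 : ℕ).factorization 3 = 1 by decide +kernel, pow_one]

theorem card_P2 (h : Nat.card G = 168) (P : Sylow 2 G) : Nat.card (P : Subgroup G) = 8 := by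
  rw [Sylow.card_eq_multiplicity, h, show (168 : ℕ).factorization 2 = 3 by decide +kernel]; norm_num

theorem syl_ne_one {p : ℕ} [Fact p.Prime] (P : Sylow p G) (h1 : Nat.card (P : Subgroup G) ≠ 1)
    (h2 : Nat.card (P : Subgroup G) ≠ Nat.card G) : Nat.card (Sylow p G) ≠ 1 := by
  intro h
  have h3 := Sylow.card_eq_index_normalizer P
  rw [h] at h3
  have h4 : Subgroup.normalizer ((P : Subgroup G) : Set G) = ⊤ := Subgroup.index_eq_one.mp h3.symm
  have h5 : (P : Subgroup G).Normal := Subgroup.normalizer_eq_top_iff.mp h4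
  rcases h5.eq_bot_or_eq_top with h6 | h6
  · exact h1 (by rw [h6, Subgroup.card_bot])
  · exact h2 (by rw [h6, Subgroup.card_top])

theorem n7 (h : Nat.card G = 168) : Nat.card (Sylow 7 G) = 8 := by
  obtain ⟨P⟩ : Nonempty (Sylow 7 G) := inferInstance
  have hP := card_P7 h P
  have h1 := card_sylow_modEq_one 7 G
  have h2 := P.card_dvd_index
  have h3 := (P : Subgroup G).card_mul_index
  rw [hP, h] at h3
  have h4 : (P : Subgroup G).index = 24 := by omega
  rw [h4] at h2
  have h5 := syl_ne_one P (by omega) (by omega)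
  have h6 := Nat.le_of_dvd (by norm_num) h2
  unfold Nat.ModEq at h1
  generalize Nat.card (Sylow 7 G) = n at *
  interval_cases n <;> omega

theorem card_N7 (h : Nat.card G = 168) (P : Sylow 7 G) :
    Nat.card (Subgroup.normalizer ((P : Subgroup G) : Set G)) = 21 := by
  have h1 := card_stab P
  rw [n7 h, h] at h1
  omega


instance : Fact (Nat.Prime 3) := ⟨by norm_num⟩

/-- simple groups are generated by the conjugates of any nontrivial subgroup -/
theorem le_of_conj (Q M : Subgroup G) (hQ : Q ≠ ⊥)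
    (h : ∀ g : G, ∀ q ∈ Q, g * q * g⁻¹ ∈ M) : M = ⊤ := by
  have h1 : Subgroup.normalClosure (Q : Set G) = ⊤ := by
    rcases (Subgroup.normalClosure_normal (s := (Q : Set G))).eq_bot_or_eq_top with h2 | h2
    · exact absurd (le_bot_iff.mp (h2 ▸ Subgroup.subset_normalClosure (s := (Q : Set G)))) hQ
    · exact h2
  rw [← top_le_iff, ← h1, Subgroup.normalClosure, Subgroup.closure_le]
  intro x hx
  obtain ⟨a, ha, hax⟩ := Group.mem_conjugatesOfSet_iff.mp hx
  obtain ⟨g, hg⟩ := isConj_iff.mp hax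
  rw [← hg]
  exact h g a ha

theorem n3 (h : Nat.card G = 168) : Nat.card (Sylow 3 G) = 28 := by
  obtain ⟨Q⟩ : Nonempty (Sylow 3 G) := inferInstance
  have hQ := card_P3 h Q
  have h1 := card_sylow_modEq_one 3 G
  have h2 := Q.card_dvd_index
  have h3 := (Q : Subgroup G).card_mul_index
  rw [hQ, h] at h3
  have h4 : (Q : Subgroup G).index = 56 := by omega
  rw [h4] at h2
  have h5 := syl_ne_one Q (by omega) (by omega)
  have h6 : 7 ≤ Nat.card (Sylow 3 G) := by
    rw [Sylow.card_eq_index_normalizer Q]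
    apply index_ge h
    intro htop
    apply h5
    rw [Sylow.card_eq_index_normalizer Q, htop, Subgroup.index_top]
  have h7 : Nat.card (Sylow 3 G) ≠ 7 := by
    intro h7
    have hN : ∀ Q : Sylow 3 G, Nat.card (Subgroup.normalizer ((Q : Subgroup G) : Set G)) = 24 := by
      intro Q
      have := card_stab Q
      rw [h7, h] at this
      omega
    obtain ⟨P⟩ : Nonempty (Sylow 7 G) := inferInstance
    have hP := card_P7 h P
    obtain ⟨y, hy⟩ := exists_prime_orderOf_dvd_card' (G := Subgroup.normalizer ((P : Subgroup G) : Set G)) 3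
      (by rw [card_N7 h P]; norm_num)
    have hy3 : orderOf (y : G) = 3 := by rw [Subgroup.orderOf_coe, hy]
    have hpg : IsPGroup 3 (Subgroup.zpowers (y : G)) :=
      IsPGroup.of_card (n := 1) (by rw [Nat.card_zpowers, hy3, pow_one])
    obtain ⟨Q0, hQ0⟩ := hpg.exists_le_sylow
    have hQ0' : (Q0 : Subgroup G) = Subgroup.zpowers (y : G) := by
      symm
      apply Subgroup.eq_of_le_of_card_ge hQ0
      rw [Nat.card_zpowers, hy3, card_P3 h Q0]
    have hinj : Function.Injective (fun p : (P : Subgroup G) => (p : G) • Q0) := by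
      intro p p' hpp
      simp only at hpp
      have h8 : ((p' : G)⁻¹ * p) • Q0 = Q0 := by
        rw [mul_smul, hpp, inv_smul_smul]
      have h9 := smul_syl_iff.mp h8
      have h10 : ((p' : G)⁻¹ * p) ∈ (P : Subgroup G) := mul_mem (inv_mem p'.2) p.2
      have h11 : Subgroup.normalizer ((Q0 : Subgroup G) : Set G) ⊓ (P : Subgroup G) = ⊥ := by
        apply Subgroup.inf_eq_bot_of_coprime
        rw [hN, hP]; decide
      have h12 : ((p' : G)⁻¹ * p) ∈ Subgroup.normalizer ((Q0 : Subgroup G) : Set G) ⊓ (P : Subgroup G) := ⟨h9, h10⟩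
      rw [h11, Subgroup.mem_bot] at h12
      apply Subtype.ext
      rw [inv_mul_eq_one] at h12
      exact h12.symm
    have hbij : Function.Bijective (fun p : (P : Subgroup G) => (p : G) • Q0) :=
      (Nat.bijective_iff_injective_and_card _).mpr ⟨hinj, by rw [h7]; exact hP⟩
    have hall : ∀ R : Sylow 3 G, (R : Subgroup G) ≤ Subgroup.normalizer ((P : Subgroup G) : Set G) := by
      intro R
      obtain ⟨p, hp⟩ := hbij.2 R
      simp only at hp
      rw [← hp]
      rintro _ ⟨q, hq, rfl⟩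
      have hq' : q ∈ Subgroup.normalizer ((P : Subgroup G) : Set G) := by
        have : q ∈ (Q0 : Subgroup G) := hq
        rw [hQ0'] at this
        exact (Subgroup.zpowers_le.mpr y.2) this
      have hp' : (p : G) ∈ Subgroup.normalizer ((P : Subgroup G) : Set G) := Subgroup.le_normalizer p.2
      exact mul_mem (mul_mem hp' hq') (inv_mem hp')
    have htop := le_of_conj (Q0 : Subgroup G) (Subgroup.normalizer ((P : Subgroup G) : Set G)) (by
      intro hb
      have := card_P3 h Q0
      rw [hb, Subgroup.card_bot] at this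
      norm_num at this) (by
      intro g q hq
      apply hall (g • Q0)
      exact ⟨q, hq, rfl⟩)
    have := card_N7 h P
    rw [htop, Subgroup.card_top, h] at this
    norm_num at this
  have h8 := Nat.le_of_dvd (by norm_num) h2
  unfold Nat.ModEq at h1
  generalize Nat.card (Sylow 3 G) = n at *
  interval_cases n <;> omega

theorem card_N3 (h : Nat.card G = 168) (P : Sylow 3 G) :
    Nat.card (Subgroup.normalizer ((P : Subgroup G) : Set G)) = 6 := by
  have h1 := card_stab P
  rw [n3 h, h] at h1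
  omega

theorem not_cent {p : ℕ} [Fact p.Prime] (P : Sylow p G) (h1 : Nat.card (P : Subgroup G) ≠ 1)
    (h2 : Nat.card (P : Subgroup G) ≠ Nat.card G) :
    ¬ Subgroup.normalizer ((P : Subgroup G) : Set G) ≤ Subgroup.centralizer ((P : Subgroup G) : Set G) := by
  intro h3
  exact Syl15.not_simple_of_burnside P h3 (fun N hN => hN.eq_bot_or_eq_top) h1 h2

/-- the centralizer of a Sylow subgroup whose normalizer has order `p * q` -/
theorem cent_eq {p q : ℕ} [Fact p.Prime] (hq : q.Prime) (P : Sylow p G) (h1 : Nat.card (P : Subgroup G) = p)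
    (hN : Nat.card (Subgroup.normalizer ((P : Subgroup G) : Set G)) = p * q) (hG : p ≠ Nat.card G) :
    Subgroup.centralizer ((P : Subgroup G) : Set G) = P := by
  have hp : p.Prime := Fact.out
  have hle : (P : Subgroup G) ≤ Subgroup.centralizer ((P : Subgroup G) : Set G) := by
    haveI : IsCyclic (P : Subgroup G) := isCyclic_of_prime_card h1
    intro a ha
    rw [Subgroup.mem_centralizer_iff]
    intro b hb
    obtain ⟨g, hg⟩ := IsCyclic.exists_generator (α := (P : Subgroup G))
    obtain ⟨i, hi⟩ := Subgroup.mem_zpowers_iff.mp (hg ⟨a, ha⟩)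
    obtain ⟨j, hj⟩ := Subgroup.mem_zpowers_iff.mp (hg ⟨b, hb⟩)
    have h1 := congrArg Subtype.val hi
    have h2 := congrArg Subtype.val hj
    simp only [Subgroup.coe_zpow] at h1 h2
    rw [← h1, ← h2, ← zpow_add, ← zpow_add, add_comm]
  have h3 : Subgroup.centralizer ((P : Subgroup G) : Set G) ≤ Subgroup.normalizer ((P : Subgroup G) : Set G) :=
    Subgroup.centralizer_le_normalizer _
  have h4 := not_cent P (by rw [h1]; exact hp.one_lt.ne') (by rw [h1]; exact hG)
  have h5 := Subgroup.card_dvd_of_le h3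
  have h6 := Subgroup.card_dvd_of_le hle
  rw [h1] at h6
  rw [hN] at h5
  obtain ⟨k, hk⟩ := h6
  rw [hk] at h5
  have h7 : k ∣ q := Nat.dvd_of_mul_dvd_mul_left hp.pos h5
  rcases (Nat.dvd_prime hq).mp h7 with h8 | h8
  · symm
    apply Subgroup.eq_of_le_of_card_ge hle
    rw [hk, h8, mul_one, h1]
  · exfalso
    apply h4
    have : Subgroup.centralizer ((P : Subgroup G) : Set G) = Subgroup.normalizer ((P : Subgroup G) : Set G) := by
      apply Subgroup.eq_of_le_of_card_ge h3
      rw [hk, h8, hN]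
    rw [this]



theorem inf_bot {p : ℕ} [Fact p.Prime] (P R : Sylow p G) (hRP : R ≠ P) (hP : Nat.card (P : Subgroup G) = p) :
    (P : Subgroup G) ⊓ Subgroup.normalizer ((R : Subgroup G) : Set G) = ⊥ := by
  have hp : p.Prime := Fact.out
  have h0 : (P : Subgroup G) ⊓ Subgroup.normalizer ((R : Subgroup G) : Set G) = (P : Subgroup G) ⊓ (R : Subgroup G) :=
    P.2.inf_normalizer_sylow R
  rw [h0]
  have h1 : Nat.card ((P : Subgroup G) ⊓ (R : Subgroup G) : Subgroup G) ∣ p := by
    have := Subgroup.card_dvd_of_le (inf_le_left : (P : Subgroup G) ⊓ (R : Subgroup G) ≤ P)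
    rwa [hP] at this
  rcases (Nat.dvd_prime hp).mp h1 with h2 | h2
  · exact Subgroup.card_eq_one.mp h2
  · exfalso
    have h3 : (P : Subgroup G) ⊓ (R : Subgroup G) = P :=
      Subgroup.eq_of_le_of_card_ge inf_le_left (by rw [h2, hP])
    exact hRP (Syl15.eq_of_le (inf_eq_left.mp h3)).symm

/-- the parametrization of the Sylow subgroups -/
def pt (P R : Sylow 7 G) (x : G) : Option (ZMod 7) → Sylow 7 G := fun i => i.elim P (fun i => (x ^ i.val) • R)

theorem pt_bij (h : Nat.card G = 168) (P : Sylow 7 G) {x : G} (hx : orderOf x = 7) (hxP : x ∈ (P : Subgroup G))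
    {R : Sylow 7 G} (hR : R ≠ P) : Function.Bijective (pt P R x) := by
  have hinj : ∀ i j : ZMod 7, (x ^ i.val) • R = (x ^ j.val) • R → i = j := by
    intro i j hij
    have h1 : ((x ^ j.val)⁻¹ * x ^ i.val) • R = R := by
      rw [mul_smul, hij, inv_smul_smul]
    have h2 : ((x ^ j.val)⁻¹ * x ^ i.val) ∈ (P : Subgroup G) ⊓ Subgroup.normalizer ((R : Subgroup G) : Set G) :=
      ⟨mul_mem (Subgroup.inv_mem _ (pow_mem hxP _)) (Subgroup.pow_mem _ hxP _), smul_syl_iff.mp h1⟩
    rw [inf_bot P R hR (card_P7 h P), Subgroup.mem_bot, inv_mul_eq_one] at h2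
    apply ZMod.val_injective 7
    have h3 := pow_injOn_Iio_orderOf (x := x) (by rw [hx]; exact ZMod.val_lt j) (by rw [hx]; exact ZMod.val_lt i) h2
    exact h3.symm
  have hne : ∀ i : ZMod 7, (x ^ i.val) • R ≠ P := by
    intro i hi
    apply hR
    have h1 : (x ^ i.val) • P = P := smul_syl_iff.mpr (Subgroup.le_normalizer (pow_mem hxP _))
    rw [← h1] at hi
    exact smul_left_cancel _ hi
  refine (Nat.bijective_iff_injective_and_card _).mpr ⟨?_, ?_⟩
  · rintro (_ | i) (_ | j) hij
    · rfl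
    · exact absurd hij.symm (hne j)
    · exact absurd hij (hne i)
    · rw [hinj i j hij]
  · rw [n7 h, Nat.card_eq_fintype_card]; rfl

theorem exists_two (h : Nat.card G = 168) (P : Sylow 7 G) {R S : Sylow 7 G} (hR : R ≠ P) (hS : S ≠ P) :
    ∃ g ∈ (P : Subgroup G), g • R = S := by
  haveI : Nontrivial (P : Subgroup G) := Finite.one_lt_card_iff_nontrivial.mp (by rw [card_P7 h P]; norm_num)
  obtain ⟨⟨x, hxP⟩, hx⟩ := exists_ne (1 : (P : Subgroup G))
  have hx7 : orderOf x = 7 := by
    have h1 : orderOf (⟨x, hxP⟩ : (P : Subgroup G)) ∣ 7 := by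
      have := orderOf_dvd_natCard (⟨x, hxP⟩ : (P : Subgroup G))
      rwa [card_P7 h P] at this
    rcases (Nat.dvd_prime (by norm_num)).mp h1 with h2 | h2
    · exact absurd (orderOf_eq_one_iff.mp h2) hx
    · rw [← h2, ← Subgroup.orderOf_coe]
  obtain ⟨i, hi⟩ := (pt_bij h P hx7 hxP hR).2 S
  cases i with
  | none => exact absurd hi.symm hS
  | some i => exact ⟨x ^ i.val, pow_mem hxP _, hi⟩

theorem exists_swap (h : Nat.card G = 168) {P R : Sylow 7 G} (hR : R ≠ P) :
    ∃ t : G, t • P = R ∧ t • R = P := by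
  obtain ⟨g, hg⟩ := MulAction.exists_smul_eq G P R
  have h1 : g • R ≠ R := by
    intro h2; rw [← hg] at h2; exact hR (smul_left_cancel _ h2 |>.trans rfl |> fun h => by rw [← hg]; exact h)
  obtain ⟨k, hk, hk2⟩ := exists_two h R (R := g • R) (S := P) h1 hR.symm
  refine ⟨k * g, ?_, ?_⟩
  · rw [mul_smul, hg]; exact smul_syl_iff.mpr (Subgroup.le_normalizer hk)
  · rw [mul_smul, hk2]

omit [IsSimpleGroup G] in
theorem exists_pow_lt {x g : G} (hg : g ∈ Subgroup.zpowers x) : ∃ k < orderOf x, x ^ k = g := by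
  classical
  simpa using mem_zpowers_iff_mem_range_orderOf.mp hg

theorem arith7 : ∀ k < 7, k * (k * k) ≡ 1 [MOD 7] → k = 1 ∨ k = 2 ∨ k = 4 := by decide

/-- elements of order three have centralizer of order three -/
theorem comm3 (h : Nat.card G = 168) {y g : G} (hy : orderOf y = 3) (hg : g * y = y * g) : g ∈ Subgroup.zpowers y := by
  have hpg : IsPGroup 3 (Subgroup.zpowers y) :=
    IsPGroup.of_card (n := 1) (by rw [Nat.card_zpowers, hy, pow_one])
  obtain ⟨Q, hQ⟩ := hpg.exists_le_sylow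
  have hQ' : Subgroup.zpowers y = (Q : Subgroup G) := by
    apply Subgroup.eq_of_le_of_card_ge hQ
    rw [Nat.card_zpowers, hy, card_P3 h Q]
  have h1 := cent_eq (p := 3) (q := 2) Nat.prime_two Q (card_P3 h Q) (by rw [card_N3 h Q]) (by rw [h]; norm_num)
  rw [← hQ'] at h1
  rw [← h1, Subgroup.mem_centralizer_iff]
  rintro _ ⟨i, rfl⟩
  exact ((show Commute g y from hg).zpow_right i).symm

theorem comm7 (h : Nat.card G = 168) {x g : G} (hx : orderOf x = 7) (hg : g * x = x * g) : g ∈ Subgroup.zpowers x := by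
  have hpg : IsPGroup 7 (Subgroup.zpowers x) :=
    IsPGroup.of_card (n := 1) (by rw [Nat.card_zpowers, hx, pow_one])
  obtain ⟨Q, hQ⟩ := hpg.exists_le_sylow
  have hQ' : Subgroup.zpowers x = (Q : Subgroup G) := by
    apply Subgroup.eq_of_le_of_card_ge hQ
    rw [Nat.card_zpowers, hx, card_P7 h Q]
  have h1 := cent_eq (p := 7) (q := 3) Nat.prime_three Q (card_P7 h Q) (by rw [card_N7 h Q]) (by rw [h]; norm_num)
  rw [← hQ'] at h1
  rw [← h1, Subgroup.mem_centralizer_iff]
  rintro _ ⟨i, rfl⟩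
  exact ((show Commute g x from hg).zpow_right i).symm

/-- the standard generators -/
theorem exists_gens (h : Nat.card G = 168) : ∃ (P R : Sylow 7 G) (x y t : G), R ≠ P ∧ orderOf x = 7 ∧
    x ∈ (P : Subgroup G) ∧ orderOf y = 3 ∧ y • P = P ∧ y • R = R ∧ y * x * y⁻¹ = x ^ 2 ∧ t * t = 1 ∧
    t • P = R ∧ t • R = P ∧ t * y * t⁻¹ = y⁻¹ := by
  obtain ⟨P⟩ : Nonempty (Sylow 7 G) := inferInstance
  have hP := card_P7 h P
  obtain ⟨x, hx⟩ := exists_prime_orderOf_dvd_card' (G := (P : Subgroup G)) 7 (by rw [hP])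
  obtain ⟨y, hy⟩ := exists_prime_orderOf_dvd_card' (G := Subgroup.normalizer ((P : Subgroup G) : Set G)) 3
      (by rw [card_N7 h P]; norm_num)
  have hx7 : orderOf (x : G) = 7 := by rw [Subgroup.orderOf_coe, hx]
  have hy3 : orderOf (y : G) = 3 := by rw [Subgroup.orderOf_coe, hy]
  have hPx : (P : Subgroup G) = Subgroup.zpowers (x : G) := by
    symm
    apply Subgroup.eq_of_le_of_card_ge (Subgroup.zpowers_le.mpr x.2)
    rw [Nat.card_zpowers, hx7, hP]
  obtain ⟨x, hxP⟩ := x
  obtain ⟨y, hyN⟩ := y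
  simp only at hx7 hy3 hPx
  clear hx hy
  have hyP : y • P = P := smul_syl_iff.mpr hyN
  -- replace y by its inverse if necessary
  obtain ⟨y, hy3, hyN, hyx⟩ : ∃ y : G, orderOf y = 3 ∧ y ∈ Subgroup.normalizer ((P : Subgroup G) : Set G) ∧
      y * x * y⁻¹ = x ^ 2 := by
    have h1 : y * x * y⁻¹ ∈ (P : Subgroup G) := (Subgroup.mem_normalizer_iff.mp hyN x).mp hxP
    rw [hPx] at h1
    obtain ⟨k, hk7, hk⟩ := exists_pow_lt h1
    rw [hx7] at hk7
    have hpow : ∀ n : ℕ, y * x ^ n * y⁻¹ = x ^ (k * n) := by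
      intro n
      rw [pow_mul, hk, conj_pow]
    have h2 : y ^ 3 * x * (y ^ 3)⁻¹ = x ^ (k * (k * k)) := by
      calc y ^ 3 * x * (y ^ 3)⁻¹ = y * (y * (y * x * y⁻¹) * y⁻¹) * y⁻¹ := by
            simp only [pow_succ, pow_zero, one_mul, mul_inv_rev, mul_assoc]
        _ = x ^ (k * (k * k)) := by rw [← hk, hpow, hpow]
    have hy33 : y ^ 3 = 1 := by rw [← hy3]; exact pow_orderOf_eq_one y
    rw [hy33, one_mul, inv_one, mul_one] at h2
    have h3 : k * (k * k) ≡ 1 [MOD 7] := by
      rw [← hx7, ← pow_eq_pow_iff_modEq, ← h2, pow_one]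
    have hk124 : k = 1 ∨ k = 2 ∨ k = 4 := arith7 k hk7 h3
    have hk1 : k ≠ 1 := by
      rintro rfl
      rw [pow_one] at hk
      have h4 := comm7 h hx7 (g := y) (by rw [eq_mul_inv_iff_mul_eq] at hk; exact hk.symm)
      have h5 : orderOf y ∣ 7 := by rw [← hx7]; exact orderOf_dvd_of_mem_zpowers h4
      rw [hy3] at h5
      norm_num at h5
    rcases hk124 with h4 | h4 | h4
    · exact absurd h4 hk1
    · exact ⟨y, hy3, hyN, by rw [← hk, h4]⟩
    · refine ⟨y * y, ?_, mul_mem hyN hyN, ?_⟩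
      · rw [← sq, orderOf_pow, hy3]; norm_num
      · have h5 : x ^ 7 = 1 := by rw [← hx7]; exact pow_orderOf_eq_one x
        calc y * y * x * (y * y)⁻¹ = y * (y * x * y⁻¹) * y⁻¹ := by group
          _ = x ^ 16 := by rw [← hk, hpow, h4]
          _ = (x ^ 7) ^ 2 * x ^ 2 := by rw [← pow_mul, ← pow_add]
          _ = x ^ 2 := by rw [h5, one_pow, one_mul]
  have hyP : y • P = P := smul_syl_iff.mpr hyN
  -- a second fixed point
  obtain ⟨R, hRP, hyR⟩ : ∃ R : Sylow 7 G, R ≠ P ∧ y • R = R := by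
    have hpg : IsPGroup 3 (Subgroup.zpowers y) :=
      IsPGroup.of_card (n := 1) (by rw [Nat.card_zpowers, hy3, pow_one])
    have h1 := hpg.card_modEq_card_fixedPoints (Sylow 7 G)
    rw [n7 h] at h1
    have hPf : P ∈ MulAction.fixedPoints (Subgroup.zpowers y) (Sylow 7 G) := by
      rintro ⟨_, i, rfl⟩
      exact smul_syl_iff.mpr (zpow_mem hyN i)
    by_contra hcon
    push Not at hcon
    have h2 : Nat.card (MulAction.fixedPoints (Subgroup.zpowers y) (Sylow 7 G)) = 1 := by
      rw [Nat.card_eq_one_iff_unique]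
      refine ⟨⟨?_⟩, ⟨⟨P, hPf⟩⟩⟩
      have h3 : ∀ a : MulAction.fixedPoints (Subgroup.zpowers y) (Sylow 7 G), (a : Sylow 7 G) = P := by
        intro a
        by_contra h4
        exact hcon a h4 (a.2 ⟨y, Subgroup.mem_zpowers y⟩)
      intro a b
      apply Subtype.ext
      rw [h3 a, h3 b]
    rw [h2] at h1
    unfold Nat.ModEq at h1
    norm_num at h1
  -- the two point stabilizer
  have hstab : ∀ g : G, g • P = P → g • R = R → g ∈ Subgroup.zpowers y := by
    intro g hgP hgR
    have h1 : Nat.card (Subgroup.normalizer ((P : Subgroup G) : Set G) ⊓ Subgroup.normalizer ((R : Subgroup G) : Set G) : Subgroup G) = 3 := by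
      have h2 : Nat.card (Subgroup.normalizer ((P : Subgroup G) : Set G) ⊓ Subgroup.normalizer ((R : Subgroup G) : Set G) : Subgroup G) ∣ 21 := by
        rw [← card_N7 h P]; exact Subgroup.card_dvd_of_le inf_le_left
      have h3 : ¬ 7 ∣ Nat.card (Subgroup.normalizer ((P : Subgroup G) : Set G) ⊓ Subgroup.normalizer ((R : Subgroup G) : Set G) : Subgroup G) := by
        intro h4
        obtain ⟨w, hw⟩ := exists_prime_orderOf_dvd_card' 7 h4
        have hw7 : orderOf (w : G) = 7 := by rw [Subgroup.orderOf_coe, hw]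
        have hpg : IsPGroup 7 (Subgroup.zpowers (w : G)) :=
          IsPGroup.of_card (n := 1) (by rw [Nat.card_zpowers, hw7, pow_one])
        have h5 : Subgroup.zpowers (w : G) ≤ (P : Subgroup G) := by
          have := hpg.inf_normalizer_sylow P
          have h6 : Subgroup.zpowers (w : G) ≤ Subgroup.normalizer ((P : Subgroup G) : Set G) := Subgroup.zpowers_le.mpr w.2.1
          exact inf_eq_left.mp (this ▸ inf_eq_left.mpr h6)
        have h7 := inf_bot P R hRP hP
        have h8 : (w : G) ∈ (P : Subgroup G) ⊓ Subgroup.normalizer ((R : Subgroup G) : Set G) := ⟨h5 (Subgroup.mem_zpowers _), w.2.2⟩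
        rw [h7, Subgroup.mem_bot] at h8
        rw [h8, orderOf_one] at hw7
        norm_num at hw7
      have h4 : 3 ∣ Nat.card (Subgroup.normalizer ((P : Subgroup G) : Set G) ⊓ Subgroup.normalizer ((R : Subgroup G) : Set G) : Subgroup G) := by
        have := Subgroup.card_dvd_of_le (H := Subgroup.zpowers y) (K := Subgroup.normalizer ((P : Subgroup G) : Set G) ⊓ Subgroup.normalizer ((R : Subgroup G) : Set G))
          (Subgroup.zpowers_le.mpr (show y ∈ Subgroup.normalizer ((P : Subgroup G) : Set G) ⊓ Subgroup.normalizer ((R : Subgroup G) : Set G) from ⟨hyN, smul_syl_iff.mp hyR⟩))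
        rwa [Nat.card_zpowers, hy3] at this
      have h5 := Nat.le_of_dvd (by norm_num) h2
      have h6 : 0 < Nat.card (Subgroup.normalizer ((P : Subgroup G) : Set G) ⊓ Subgroup.normalizer ((R : Subgroup G) : Set G) : Subgroup G) := Nat.card_pos
      generalize Nat.card (Subgroup.normalizer ((P : Subgroup G) : Set G) ⊓ Subgroup.normalizer ((R : Subgroup G) : Set G) : Subgroup G) = n at *
      interval_cases n <;> omega
    have h2 : Subgroup.zpowers y = Subgroup.normalizer ((P : Subgroup G) : Set G) ⊓ Subgroup.normalizer ((R : Subgroup G) : Set G) := by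
      apply Subgroup.eq_of_le_of_card_ge (Subgroup.zpowers_le.mpr (show y ∈ Subgroup.normalizer ((P : Subgroup G) : Set G) ⊓ Subgroup.normalizer ((R : Subgroup G) : Set G) from ⟨hyN, smul_syl_iff.mp hyR⟩))
      rw [h1, Nat.card_zpowers, hy3]
    rw [h2]
    exact ⟨smul_syl_iff.mp hgP, smul_syl_iff.mp hgR⟩
  obtain ⟨t, htP, htR⟩ := exists_swap h hRP
  have htt : t * t ∈ Subgroup.zpowers y := hstab _ (by rw [mul_smul, htP, htR]) (by rw [mul_smul, htR, htP])
  have ht6 : (t * t) ^ 3 = 1 := by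
    have h1 : orderOf (t * t) ∣ 3 := by rw [← hy3]; exact orderOf_dvd_of_mem_zpowers htt
    exact orderOf_dvd_iff_pow_eq_one.mp h1
  have htP2 : (t * t) • P = P := by rw [mul_smul, htP, htR]
  have htR2 : (t * t) • R = R := by rw [mul_smul, htR, htP]
  refine ⟨P, R, x, y, t * t * t, hRP, hx7, hxP, hy3, hyP, hyR, hyx, ?_, ?_, ?_, ?_⟩
  · rw [← ht6]; simp only [pow_succ, pow_zero, one_mul, mul_assoc]
  · rw [mul_smul, htP, htR2]
  · rw [mul_smul, htR, htP2]
  · obtain ⟨s, hs⟩ : ∃ s, s = t * t * t := ⟨_, rfl⟩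
    have hs2 : s * s = 1 := by rw [hs, ← ht6]; simp only [pow_succ, pow_zero, one_mul, mul_assoc]
    have hsP : s • P = R := by rw [hs, mul_smul, htP, htR2]
    have hsR : s • R = P := by rw [hs, mul_smul, htR, htP2]
    have hsi : s⁻¹ = s := inv_eq_of_mul_eq_one_left hs2
    rw [← hs]
    have h1 : s * y * s⁻¹ ∈ Subgroup.zpowers y := by
      apply hstab
      · rw [hsi, mul_smul, mul_smul, hsP, hyR, hsR]
      · rw [hsi, mul_smul, mul_smul, hsR, hyP, hsP]
    obtain ⟨k, hk3, hk⟩ := exists_pow_lt h1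
    rw [hy3] at hk3
    interval_cases k
    · exfalso
      rw [pow_zero] at hk
      have : y = 1 := by
        calc y = s⁻¹ * (s * y * s⁻¹) * s := by group
          _ = 1 := by rw [← hk]; group
      rw [this, orderOf_one] at hy3
      norm_num at hy3
    · exfalso
      rw [pow_one] at hk
      have h4 := comm3 h hy3 (g := s) (by rw [eq_mul_inv_iff_mul_eq] at hk; exact hk.symm)
      obtain ⟨i, hi⟩ := h4
      apply hRP
      rw [← hsP, ← hi]
      exact smul_syl_iff.mpr (zpow_mem hyN i)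
    · rw [← hk, eq_inv_iff_mul_eq_one, ← pow_succ]
      have := pow_orderOf_eq_one y
      rwa [hy3] at this


/-! ### explicit permutations -/

abbrev Pt := Option (ZMod 7)

def X : Equiv.Perm Pt where
  toFun i := i.elim none (fun i => some (i + 1))
  invFun i := i.elim none (fun i => some (i + 6))
  left_inv := by decide +kernel
  right_inv := by decide +kernel

def Y : Equiv.Perm Pt where
  toFun i := i.elim none (fun i => some (2 * i))
  invFun i := i.elim none (fun i => some (4 * i))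
  left_inv := by decide +kernel
  right_inv := by decide +kernel

def T : Equiv.Perm Pt where
  toFun i := i.elim (some 0) (fun i => if i = 0 then none else some (6 * i ^ 5))
  invFun i := i.elim (some 0) (fun i => if i = 0 then none else some (6 * i ^ 5))
  left_inv := by decide +kernel
  right_inv := by decide +kernel

def S3 : Equiv.Perm Pt := Equiv.swap none (some 0) * Equiv.swap (some 2) (some 4) * Equiv.swap (some 5) (some 6)
def S5 : Equiv.Perm Pt := Equiv.swap none (some 0) * Equiv.swap (some 2) (some 4) * Equiv.swap (some 3) (some 5)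
def S6 : Equiv.Perm Pt := Equiv.swap none (some 0) * Equiv.swap (some 2) (some 4) * Equiv.swap (some 3) (some 6)

theorem sign_S3 : Equiv.Perm.sign S3 = -1 := by
  simp only [S3, Equiv.Perm.sign_mul]
  rw [Equiv.Perm.sign_swap (by decide), Equiv.Perm.sign_swap (by decide), Equiv.Perm.sign_swap (by decide)]; decide
theorem sign_S5 : Equiv.Perm.sign S5 = -1 := by
  simp only [S5, Equiv.Perm.sign_mul]
  rw [Equiv.Perm.sign_swap (by decide), Equiv.Perm.sign_swap (by decide), Equiv.Perm.sign_swap (by decide)]; decide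
theorem sign_S6 : Equiv.Perm.sign S6 = -1 := by
  simp only [S6, Equiv.Perm.sign_mul]
  rw [Equiv.Perm.sign_swap (by decide), Equiv.Perm.sign_swap (by decide), Equiv.Perm.sign_swap (by decide)]; decide

theorem Y3 : Y ^ 3 = 1 := by decide +kernel

theorem sign_Y : Equiv.Perm.sign Y = 1 := by
  have h1 : Equiv.Perm.sign Y ^ 3 = 1 := by rw [← map_pow, Y3, map_one]
  rcases Int.units_eq_one_or (Equiv.Perm.sign Y) with h2 | h2
  · exact h2
  · rw [h2] at h1; exact absurd h1 (by decide)

def F (a b : Pt) : Pt → Pt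
  | none => some 0
  | some i => if i = 0 then none else if i = 1 then a else if i = 2 then Y.symm a else if i = 4 then Y.symm (Y.symm a)
      else if i = 3 then b else if i = 6 then Y.symm b else Y.symm (Y.symm b)

theorem F_cases : ∀ a b : Pt, (∀ i, F a b (F a b i) = i) →
    (∃ j : Fin 3, ∀ i, F a b (Y^[(j : ℕ)] i) = T i) ∨ (∃ j : Fin 3, ∀ i, F a b (Y^[(j : ℕ)] i) = S3 i) ∨
    (∃ j : Fin 3, ∀ i, F a b (Y^[(j : ℕ)] i) = S5 i) ∨ (∃ j : Fin 3, ∀ i, F a b (Y^[(j : ℕ)] i) = S6 i) := by
  decide +kernel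

theorem perm_lemma (σ : Equiv.Perm Pt) (h0 : σ none = some 0) (h2 : σ * σ = 1) (hY : σ * Y * σ⁻¹ = Y⁻¹)
    (hs : Equiv.Perm.sign σ = 1) : ∃ j : ℕ, σ * Y ^ j = T := by
  have h1 : ∀ i, σ (σ i) = i := fun i => by
    have := congrArg (fun τ : Equiv.Perm Pt => τ i) h2
    exact this
  have h0' : σ (some 0) = none := by rw [← h0]; exact h1 none
  have h3 : ∀ i, σ (Y i) = Y.symm (σ i) := by
    intro i
    have h4 : σ * Y = Y⁻¹ * σ := by rw [← hY]; group
    exact congrArg (fun τ : Equiv.Perm Pt => τ i) h4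
  have hF : ∀ i, σ i = F (σ (some 1)) (σ (some 3)) i := by
    have e2 : (some 2 : Pt) = Y (some 1) := by decide
    have e4 : (some 4 : Pt) = Y (Y (some 1)) := by decide
    have e6 : (some 6 : Pt) = Y (some 3) := by decide
    have e5 : (some 5 : Pt) = Y (Y (some 3)) := by decide
    have hall : ∀ i : Pt, i = none ∨ i = some 0 ∨ i = some 1 ∨ i = some 2 ∨ i = some 4 ∨ i = some 3 ∨ i = some 6 ∨ i = some 5 := by
      decide
    intro i
    rcases hall i with rfl | rfl | rfl | rfl | rfl | rfl | rfl | rfl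
    · exact h0
    · exact h0'
    · rfl
    · rw [e2, h3]; rfl
    · rw [e4, h3, h3]; rfl
    · rfl
    · rw [e6, h3]; rfl
    · rw [e5, h3, h3]; rfl
  have hFF : ∀ i, F (σ (some 1)) (σ (some 3)) (F (σ (some 1)) (σ (some 3)) i) = i := by
    intro i; rw [← hF, ← hF, h1]
  have hfin : ∀ (j : Fin 3) (S : Equiv.Perm Pt), (∀ i, F (σ (some 1)) (σ (some 3)) (Y^[(j : ℕ)] i) = S i) →
      σ * Y ^ (j : ℕ) = S := by
    intro j S hS
    ext1 i
    rw [← hS i, ← hF, Equiv.Perm.mul_apply, Equiv.Perm.iterate_eq_pow]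
  have hsg : ∀ (j : Fin 3) (S : Equiv.Perm Pt), (∀ i, F (σ (some 1)) (σ (some 3)) (Y^[(j : ℕ)] i) = S i) →
      Equiv.Perm.sign S = -1 → False := by
    intro j S hS hS1
    rw [← hfin j S hS, map_mul, map_pow, sign_Y, one_pow, mul_one, hs] at hS1
    exact absurd hS1 (by decide)
  rcases F_cases _ _ hFF with ⟨j, hj⟩ | ⟨j, hj⟩ | ⟨j, hj⟩ | ⟨j, hj⟩
  · exact ⟨j, hfin j T hj⟩
  · exact (hsg j _ hj sign_S3).elim
  · exact (hsg j _ hj sign_S5).elim
  · exact (hsg j _ hj sign_S6).elim


/-- any homomorphism of a simple group of order > 2 to the units of the integers is trivial -/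
theorem hom_units (h : 2 < Nat.card G) (f : G →* ℤˣ) (g : G) : f g = 1 := by
  rcases f.normal_ker.eq_bot_or_eq_top with h1 | h1
  · have h2 := Nat.card_le_card_of_injective f ((MonoidHom.ker_eq_bot_iff f).mp h1)
    have h3 : Nat.card ℤˣ = 2 := by rw [Nat.card_eq_fintype_card]; rfl
    omega
  · exact MonoidHom.mem_ker.mp (h1 ▸ Subgroup.mem_top g)

theorem std (h : Nat.card G = 168) : ∃ (ψ : G →* Equiv.Perm Pt) (x y t : G), Function.Injective ψ ∧ ψ x = X ∧ ψ y = Y ∧ ψ t = T ∧
    Subgroup.closure {x, y, t} = ⊤ := by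
  obtain ⟨P, R, x, y, t, hRP, hx7, hxP, hy3, hyP, hyR, hyx, ht2, htP, htR, hty⟩ := exists_gens h
  obtain ⟨xx, hxx⟩ : ∃ xx : ZMod 7 → G, ∀ i, xx i = x ^ i.val := ⟨fun i => x ^ i.val, fun _ => rfl⟩
  have hmod : ∀ n : ℕ, x ^ (n % 7) = x ^ n := by
    intro n; conv_lhs => rw [← hx7]
    exact pow_mod_orderOf x n
  have hadd : ∀ a b : ZMod 7, xx (a + b) = xx a * xx b := by
    intro a b
    rw [hxx, hxx, hxx, ZMod.val_add, hmod, pow_add]
  have hx1 : xx 1 = x := by rw [hxx]; exact pow_one x
  have hx0 : xx 0 = 1 := by rw [hxx]; exact pow_zero x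
  have hyxx : ∀ i : ZMod 7, y * xx i * y⁻¹ = xx (2 * i) := by
    intro i
    rw [hxx, hxx, ZMod.val_mul, hmod, ← conj_pow, hyx, ← pow_mul]; rfl
  let e : Pt ≃ Sylow 7 G := Equiv.ofBijective (pt P R x) (pt_bij h P hx7 hxP hRP)
  have he0 : e none = P := rfl
  have he1 : ∀ i, e (some i) = xx i • R := fun i => by rw [hxx]; rfl
  let ψ : G →* Equiv.Perm Pt := (e.symm.permCongrHom.toMonoidHom).comp (MulAction.toPermHom G (Sylow 7 G))
  have hψ : ∀ g i, ψ g i = e.symm (g • e i) := fun g i => rfl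
  have hψ' : ∀ g i j, g • e i = e j → ψ g i = j := by
    intro g i j hij
    rw [hψ, hij, Equiv.symm_apply_apply]
  have hψinj : Function.Injective ψ := by
    rw [← MonoidHom.ker_eq_bot_iff]
    rcases (MonoidHom.normal_ker ψ).eq_bot_or_eq_top with h1 | h1
    · exact h1
    · exfalso
      have h2 : t ∈ ψ.ker := h1 ▸ Subgroup.mem_top t
      have h3 := hψ t none
      rw [MonoidHom.mem_ker.mp h2, he0, htP] at h3
      have h4 : e none = R := by
        have : (none : Pt) = e.symm R := h3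
        rw [this, Equiv.apply_symm_apply]
      exact hRP (h4.symm.trans he0)
  have hsign : ∀ g, Equiv.Perm.sign (ψ g) = 1 := fun g =>
    hom_units (by rw [h]; norm_num) (Equiv.Perm.sign.comp ψ) g
  have hX : ψ x = X := by
    ext1 i
    cases i with
    | none => exact hψ' _ _ _ (by rw [he0]; exact smul_syl_iff.mpr (Subgroup.le_normalizer hxP))
    | some i =>
      apply hψ'
      change x • e (some i) = e (some (i + 1))
      rw [he1, he1, add_comm, hadd, hx1, mul_smul]
  have hY : ψ y = Y := by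
    ext1 i
    cases i with
    | none => exact hψ' _ _ _ (by rw [he0]; exact hyP)
    | some i =>
      apply hψ'
      change y • e (some i) = e (some (2 * i))
      rw [he1, he1, ← hyxx, mul_smul, mul_smul, ← hyR, inv_smul_smul, hyR]
  obtain ⟨j, hj⟩ := perm_lemma (ψ t) (hψ' _ _ _ (by rw [he0, he1, hx0, one_smul, htP]))
    (by rw [← map_mul, ht2, map_one]) (by rw [← hY, ← map_mul, ← map_inv, ← map_inv, ← map_mul, hty]) (hsign t)
  refine ⟨ψ, x, y, t * y ^ j, hψinj, hX, hY, by rw [map_mul, map_pow, hY, hj], ?_⟩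
  -- generation
  obtain ⟨K, hK⟩ : ∃ K, K = Subgroup.closure {x, y, t * y ^ j} := ⟨_, rfl⟩
  rw [← hK]
  have hxK : x ∈ K := by rw [hK]; exact Subgroup.subset_closure (by simp)
  have hyK : y ∈ K := by rw [hK]; exact Subgroup.subset_closure (by simp)
  have htK : t ∈ K := by
    have : t * y ^ j ∈ K := by rw [hK]; exact Subgroup.subset_closure (by simp)
    have h2 := mul_mem this (inv_mem (pow_mem hyK j))
    rwa [mul_inv_cancel_right] at h2
  by_contra hne
  have h1 := index_ge h K hne
  have h2 := K.card_mul_index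
  rw [h] at h2
  have h3 : 7 ∣ Nat.card K := by
    rw [← hx7]; exact Subgroup.orderOf_dvd_natCard K hxK
  have h4 : 3 ∣ Nat.card K := by
    rw [← hy3]; exact Subgroup.orderOf_dvd_natCard K hyK
  have h5 : 21 ∣ Nat.card K := (by norm_num : Nat.Coprime 7 3).mul_dvd_of_dvd_of_dvd h3 h4
  -- the normalizer of P lies in K
  have hNK : Subgroup.normalizer ((P : Subgroup G) : Set G) ≤ K := by
    have h6 : 21 ∣ Nat.card (Subgroup.normalizer ((P : Subgroup G) : Set G) ⊓ K : Subgroup G) := by
      have h7 : 7 ∣ Nat.card (Subgroup.normalizer ((P : Subgroup G) : Set G) ⊓ K : Subgroup G) := by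
        have := Subgroup.orderOf_dvd_natCard (Subgroup.normalizer ((P : Subgroup G) : Set G) ⊓ K) ⟨Subgroup.le_normalizer hxP, hxK⟩
        rwa [hx7] at this
      have h8 : 3 ∣ Nat.card (Subgroup.normalizer ((P : Subgroup G) : Set G) ⊓ K : Subgroup G) := by
        have := Subgroup.orderOf_dvd_natCard (Subgroup.normalizer ((P : Subgroup G) : Set G) ⊓ K) ⟨smul_syl_iff.mp hyP, hyK⟩
        rwa [hy3] at this
      exact (by norm_num : Nat.Coprime 7 3).mul_dvd_of_dvd_of_dvd h7 h8
    have h9 : Subgroup.normalizer ((P : Subgroup G) : Set G) ⊓ K = Subgroup.normalizer ((P : Subgroup G) : Set G) := by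
      apply Subgroup.eq_of_le_of_card_ge inf_le_left
      rw [card_N7 h P]
      exact Nat.le_of_dvd Nat.card_pos h6
    exact inf_eq_left.mp h9
  have h10 : Nat.card K = 21 := by
    obtain ⟨c, hc⟩ := h5
    rw [hc] at h2
    have h11 : c * K.index = 8 := by
      have : 21 * (c * K.index) = 21 * 8 := by rw [← mul_assoc, h2]
      exact Nat.eq_of_mul_eq_mul_left (by norm_num) this
    have h12 : c ≤ 1 := by
      by_contra h13
      push Not at h13
      have : 2 * 7 ≤ c * K.index := Nat.mul_le_mul h13 h1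
      omega
    have h14 : c ≠ 0 := by rintro rfl; omega
    have : c = 1 := by omega
    rw [hc, this]
  have h15 : Subgroup.normalizer ((P : Subgroup G) : Set G) = K :=
    Subgroup.eq_of_le_of_card_ge hNK (by rw [h10, card_N7 h P])
  apply hRP
  rw [← htP]
  exact smul_syl_iff.mpr (h15 ▸ htK)

theorem std_range (h : Nat.card G = 168) : ∃ ψ : G →* Equiv.Perm Pt, Function.Injective ψ ∧
    ψ.range = Subgroup.closure {X, Y, T} := by
  obtain ⟨ψ, x, y, t, hinj, hX, hY, hT, hcl⟩ := std h
  refine ⟨ψ, hinj, ?_⟩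
  rw [MonoidHom.range_eq_map, ← hcl, MonoidHom.map_closure, Set.image_insert_eq, Set.image_insert_eq, Set.image_singleton,
    hX, hY, hT]

theorem iso_closure (h : Nat.card G = 168) : Nonempty (G ≃* (Subgroup.closure {X, Y, T} : Subgroup (Equiv.Perm Pt))) := by
  obtain ⟨ψ, hinj, hr⟩ := std_range h
  exact ⟨(MonoidHom.ofInjective hinj).trans (MulEquiv.subgroupCongr hr)⟩

/-- uniqueness of the simple group of order 168 -/
theorem unique (h : Nat.card G = 168) {H : Type*} [Group H] [Finite H] [IsSimpleGroup H] (h' : Nat.card H = 168) :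
    Nonempty (G ≃* H) := by
  obtain ⟨e⟩ := iso_closure h
  obtain ⟨f⟩ := iso_closure h'
  exact ⟨e.trans f.symm⟩

end Cfsg.Agent.H21.O168
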