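import Mathlib
import Cfsg.Prelude.Def_Characters
import Cfsg.Agent.H3_InvSum
import Cfsg.Agent.H3_Isom
import Cfsg.Agent.H3_ZGrp
import Cfsg.Agent.H19_Transfer

/-!
# Centralizer of an involution dihedral of order 8
-/

set_option autoImplicit false

open scoped ComplexConjugate

namespace Cfsg.Agent.H3.D8

open Cfsg Cfsg.Agent.H3.CharBasic Cfsg.Agent.H3.CharIrr Cfsg.Agent.H3.CharComplete
  Cfsg.Agent.H3.CharMult Cfsg.Agent.H3.CharInd Cfsg.Agent.H3.CharCalc Cfsg.Agent.H3.InvSum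

/-- arithmetic, first case -/
theorem arith1 (m k : ℤ) (hk : 0 < k) (h : m * k ^ 2 = (8 * k + 1) * (4 * k + 1)) : k = 1 := by
  have h1 : k ∣ 1 := by
    have h2 : k ∣ (8 * k + 1) * (4 * k + 1) := by rw [← h]; exact Dvd.dvd.mul_left (dvd_pow_self k two_ne_zero) m
    have h3 : (8 * k + 1) * (4 * k + 1) = k * (32 * k + 12) + 1 := by ring
    rw [h3] at h2
    exact (dvd_add_right (Dvd.intro _ rfl)).mp h2
  have := Int.le_of_dvd one_pos h1
  omega

theorem arith (m d a : ℤ) (hm : Odd m) (hm0 : 0 < m) (hd : 0 < d) (ha : 1 + a ^ 2 + (a - 3) ^ 2 ≤ 8)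
    (h : m * (d * (d + 1) + a ^ 2 * (d + 1) - (a - 3) ^ 2 * d) = 32 * (d * (d + 1))) :
    m = 45 ∨ m = 21 := by
  have ha1 : a = 1 ∨ a = 2 := by
    have h1 : 0 ≤ a := by nlinarith
    have h2 : a ≤ 3 := by nlinarith
    interval_cases a <;> simp_all
  have key : ∀ q : ℤ, (32 : ℤ) ∣ m * q ^ 2 → (8 : ℤ) ∣ q := by
    intro q hq
    have hcop : IsCoprime (32 : ℤ) m := by
      have : (32 : ℤ) = 2 ^ 5 := by norm_num
      rw [this]
      apply IsCoprime.pow_left
      obtain ⟨j, hj⟩ := hm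
      exact ⟨-j, 1, by rw [hj]; ring⟩
    have h2 : (32 : ℤ) ∣ q ^ 2 := hcop.dvd_of_dvd_mul_left hq
    have h3 : q % 8 = 0 ∨ q % 8 = 1 ∨ q % 8 = 2 ∨ q % 8 = 3 ∨ q % 8 = 4 ∨ q % 8 = 5 ∨ q % 8 = 6 ∨ q % 8 = 7 := by omega
    obtain ⟨c, hc⟩ := h2
    obtain ⟨r, s, hrs⟩ : ∃ r s : ℤ, q = 8 * s + r ∧ r = q % 8 := ⟨q % 8, q / 8, by omega, rfl⟩
    obtain ⟨h4, h5⟩ := hrs
    rw [h4] at hc
    rcases h3 with h6 | h6 | h6 | h6 | h6 | h6 | h6 | h6 <;> rw [h6] at h5 <;> subst h5
    · exact ⟨s, by omega⟩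
    all_goals (exfalso; ring_nf at hc; omega)
  rcases ha1 with rfl | rfl
  · left
    have h1 : m * (d - 1) ^ 2 = 32 * (d * (d + 1)) := by rw [← h]; ring
    obtain ⟨k, hk⟩ := key (d - 1) ⟨_, h1⟩
    have hdk : d = 8 * k + 1 := by omega
    have hk0 : 0 < k := by
      rcases lt_or_ge 0 k with h2 | h2
      · exact h2
      · exfalso
        have : k = 0 := by omega
        subst this
        rw [hdk] at h1; norm_num at h1
    have h3 : m * k ^ 2 = (8 * k + 1) * (4 * k + 1) := by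
      rw [hdk] at h1
      have : 64 * (m * k ^ 2) = 64 * ((8 * k + 1) * (4 * k + 1)) := by
        rw [show 64 * (m * k ^ 2) = m * (8 * k + 1 - 1) ^ 2 by ring, h1]; ring
      exact mul_left_cancel₀ (by norm_num) this
    have hk1 := arith1 m k hk0 h3
    subst hk1
    linarith
  · right
    have h1 : m * (d + 2) ^ 2 = 32 * (d * (d + 1)) := by rw [← h]; ring
    obtain ⟨k, hk⟩ := key (d + 2) ⟨_, h1⟩
    have hdk : d = 8 * k - 2 := by omega
    have hk0 : 0 < k := by omega
    have h3 : m * k ^ 2 = (4 * k - 1) * (8 * k - 1) := by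
      rw [hdk] at h1
      have : 64 * (m * k ^ 2) = 64 * ((4 * k - 1) * (8 * k - 1)) := by
        rw [show 64 * (m * k ^ 2) = m * (8 * k - 2 + 2) ^ 2 by ring, h1]; ring
      exact mul_left_cancel₀ (by norm_num) this
    have hk1 : k = 1 := by
      have h2 : k ∣ (4 * k - 1) * (8 * k - 1) := by rw [← h3]; exact Dvd.dvd.mul_left (dvd_pow_self k two_ne_zero) m
      have h4 : (4 * k - 1) * (8 * k - 1) = k * (32 * k - 12) + 1 := by ring
      rw [h4] at h2
      have h5 : k ∣ 1 := (dvd_add_right (Dvd.intro _ rfl)).mp h2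
      have := Int.le_of_dvd one_pos h5
      omega
    subst hk1
    linarith

section Struct

variable {G : Type*} [Group G] [Finite G] {t : G} (ht : orderOf t = 2)
  (e : Subgroup.centralizer ({t} : Set G) ≃* DihedralGroup 4)

include ht e

omit [Finite G] in
theorem struct : ∃ x : G, x ∈ Subgroup.centralizer ({t} : Set G) ∧ orderOf x = 4 ∧ x * x = t ∧
    (∀ d ∈ Subgroup.centralizer ({t} : Set G), d ∉ Subgroup.zpowers x → d * d = 1 ∧
      ∀ s ∈ Subgroup.zpowers x, d * s * d⁻¹ = s⁻¹) ∧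
    (∀ z ∈ Subgroup.centralizer ({t} : Set G), z ≠ 1 →
      (∀ d ∈ Subgroup.centralizer ({t} : Set G), d * z = z * d) → z = t) := by
  obtain ⟨f, hf, hfe⟩ : ∃ f : DihedralGroup 4 →* G, Function.Injective f ∧
      ∀ y, f y = (e.symm y : Subgroup.centralizer ({t} : Set G)) :=
    ⟨(Subgroup.centralizer ({t} : Set G)).subtype.comp e.symm.toMonoidHom,
      (Subgroup.subtype_injective _).comp e.symm.injective, fun y => rfl⟩
  have hfmem : ∀ y, f y ∈ Subgroup.centralizer ({t} : Set G) := by intro y; rw [hfe]; exact Subtype.prop _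
  have hfsurj : ∀ d ∈ Subgroup.centralizer ({t} : Set G), ∃ y, f y = d := by
    intro d hd
    refine ⟨e ⟨d, hd⟩, ?_⟩
    rw [hfe, MulEquiv.symm_apply_apply]
  have htm : t ∈ Subgroup.centralizer ({t} : Set G) := Subgroup.mem_centralizer_singleton_iff.mpr rfl
  have hcentral : ∀ z : DihedralGroup 4, z ≠ 1 → (∀ y, y * z = z * y) → z = DihedralGroup.r 2 := by decide
  have hcen : ∀ z ∈ Subgroup.centralizer ({t} : Set G), z ≠ 1 →
      (∀ d ∈ Subgroup.centralizer ({t} : Set G), d * z = z * d) → z = f (DihedralGroup.r 2) := by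
    intro z hz hz1 hzc
    obtain ⟨y, rfl⟩ := hfsurj z hz
    congr 1
    apply hcentral
    · rintro rfl; exact hz1 (map_one f)
    · intro w
      apply hf
      rw [map_mul, map_mul]
      exact hzc _ (hfmem w)
  have ht1 : t ≠ 1 := by rintro rfl; rw [orderOf_one] at ht; norm_num at ht
  have htr : t = f (DihedralGroup.r 2) := hcen t htm ht1 (fun d hd => Subgroup.mem_centralizer_singleton_iff.mp hd)
  have hpow : ∀ i : ZMod 4, f (DihedralGroup.r i) = f (DihedralGroup.r 1) ^ i.val := by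
    intro i
    rw [← map_pow, DihedralGroup.r_one_pow, ZMod.natCast_zmod_val]
  have hzp : ∀ s, s ∈ Subgroup.zpowers (f (DihedralGroup.r 1)) → ∃ j : ZMod 4, s = f (DihedralGroup.r j) := by
    rintro _ ⟨k, rfl⟩
    refine ⟨(k : ZMod 4), ?_⟩
    simp only
    rw [← map_zpow, DihedralGroup.r_one_zpow]
  refine ⟨f (DihedralGroup.r 1), hfmem _, ?_, ?_, ?_, ?_⟩
  · rw [orderOf_injective f hf, DihedralGroup.orderOf_r_one]
  · rw [htr, ← map_mul]; congr 1
  · intro d hd hdx
    obtain ⟨y, rfl⟩ := hfsurj d hd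
    cases y with
    | r i => exact absurd (by rw [hpow i]; exact Subgroup.pow_mem _ (Subgroup.mem_zpowers _) _) hdx
    | sr i =>
      refine ⟨?_, ?_⟩
      · rw [← map_mul, DihedralGroup.sr_mul_sr, sub_self]; exact map_one f
      · intro s hs
        obtain ⟨j, rfl⟩ := hzp s hs
        rw [← map_mul, ← map_inv, ← map_mul, ← map_inv]
        congr 1
        simp [DihedralGroup.inv_r, DihedralGroup.inv_sr]
  · intro z hz hz1 hzc
    rw [hcen z hz hz1 hzc, htr]

theorem card_D : Nat.card (Subgroup.centralizer ({t} : Set G)) = 8 := by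
  rw [Nat.card_congr e.toEquiv, DihedralGroup.nat_card]

/-- the order of `G` -/
theorem card_G : ∃ m : ℕ, Odd m ∧ Nat.card G = 8 * m := by
  obtain ⟨x, hx, -, -, -, hcen⟩ := struct ht e
  have hD := card_D ht e
  have h1 := (Subgroup.centralizer ({t} : Set G)).card_mul_index
  rw [hD] at h1
  refine ⟨_, ?_, h1.symm⟩
  by_contra hodd
  rw [Nat.not_odd_iff_even, even_iff_two_dvd] at hodd
  obtain ⟨k, hk⟩ := hodd
  have hp : Fact (Nat.Prime 2) := ⟨Nat.prime_two⟩
  have h2 := Sylow.prime_dvd_card_quotient_normalizer (G := G) (p := 2) (n := 3)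
    (by rw [← h1, hk]; exact ⟨k, by ring⟩) (H := Subgroup.centralizer ({t} : Set G)) (by rw [hD]; norm_num)
  -- normalizer is `D`
  have h3 : Subgroup.normalizer ((Subgroup.centralizer ({t} : Set G) : Subgroup G) : Set G) =
      Subgroup.centralizer ({t} : Set G) := by
    apply le_antisymm _ Subgroup.le_normalizer
    intro g hg
    have htm : t ∈ Subgroup.centralizer ({t} : Set G) := Subgroup.mem_centralizer_singleton_iff.mpr rfl
    have ht1 : t ≠ 1 := by rintro rfl; rw [orderOf_one] at ht; norm_num at ht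
    have h4 := hcen (g * t * g⁻¹) ((Subgroup.mem_normalizer_iff.mp hg t).mp htm) (by
      intro h
      apply ht1
      calc t = g⁻¹ * (g * t * g⁻¹) * g := by group
        _ = 1 := by rw [h]; group) (by
      intro d hd
      have h5 : g⁻¹ * d * g ∈ Subgroup.centralizer ({t} : Set G) := by
        have := (Subgroup.mem_normalizer_iff.mp (Subgroup.inv_mem _ hg) d).mp hd
        rwa [inv_inv] at this
      have h6 := Subgroup.mem_centralizer_singleton_iff.mp h5
      calc d * (g * t * g⁻¹) = g * ((g⁻¹ * d * g) * t) * g⁻¹ := by group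
        _ = g * (t * (g⁻¹ * d * g)) * g⁻¹ := by rw [h6]
        _ = g * t * g⁻¹ * d := by group)
    rw [Subgroup.mem_centralizer_singleton_iff]
    exact mul_inv_eq_iff_eq_mul.mp h4
  rw [h3] at h2
  have h7 : Nat.card (Subgroup.centralizer ({t} : Set G) ⧸ (Subgroup.centralizer ({t} : Set G)).subgroupOf (Subgroup.centralizer ({t} : Set G))) = 1 := by
    rw [Subgroup.subgroupOf_self]
    exact Subgroup.index_top
  change 2 ∣ Nat.card (Subgroup.centralizer ({t} : Set G) ⧸ (Subgroup.centralizer ({t} : Set G)).subgroupOf (Subgroup.centralizer ({t} : Set G))) at h2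
  rw [h7] at h2
  norm_num at h2

/-- all involutions are conjugate to `t` -/
theorem inv_conj (hperf : commutator G = ⊤) {u : G} (hu : orderOf u = 2) : IsConj t u := by
  obtain ⟨x, hx, hx4, hxx, hdih, hcen⟩ := struct ht e
  obtain ⟨m, hm, hG⟩ := card_G ht e
  have hD := card_D ht e
  have hp : Fact (Nat.Prime 2) := ⟨Nat.prime_two⟩
  have hidx : (Subgroup.centralizer ({t} : Set G)).index = m := by
    have h1 := (Subgroup.centralizer ({t} : Set G)).card_mul_index
    rw [hD, hG] at h1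
    omega
  -- conjugate into `D`
  have hPD : ∃ g : G, g * u * g⁻¹ ∈ Subgroup.centralizer ({t} : Set G) := by
    have h1 : IsPGroup 2 (Subgroup.zpowers u) := by
      apply IsPGroup.of_card (n := 1)
      rw [Nat.card_zpowers, hu, pow_one]
    obtain ⟨Q, hQ⟩ := h1.exists_le_sylow
    have h2 : IsPGroup 2 (Subgroup.centralizer ({t} : Set G)) := IsPGroup.of_card (n := 3) (by rw [hD]; norm_num)
    obtain ⟨P, hP⟩ := h2.exists_le_sylow
    have hPeq : (P : Subgroup G) = Subgroup.centralizer ({t} : Set G) := by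
      symm
      apply Subgroup.eq_of_le_of_card_ge hP
      have h3 : Nat.card (P : Subgroup G) ∣ 8 * m := hG ▸ (P : Subgroup G).card_subgroup_dvd_card
      obtain ⟨n, hn⟩ := IsPGroup.iff_card.mp P.2
      have hn' : Nat.card (P : Subgroup G) = 2 ^ n := hn
      rw [hn'] at h3 ⊢
      have h4 : Nat.Coprime (2 ^ n) m := Nat.Coprime.pow_left _ (Nat.coprime_two_left.mpr hm)
      rw [hD]
      exact Nat.le_of_dvd (by norm_num) (h4.dvd_of_dvd_mul_right h3)
    obtain ⟨g, hg⟩ := MulAction.exists_smul_eq G Q P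
    refine ⟨g, ?_⟩
    rw [← hPeq, ← hg, Sylow.coe_subgroup_smul]
    exact ⟨u, hQ (Subgroup.mem_zpowers u), rfl⟩
  obtain ⟨g, hg⟩ := hPD
  obtain ⟨v, hv⟩ : ∃ v, v = g * u * g⁻¹ := ⟨_, rfl⟩
  rw [← hv] at hg
  have huv : IsConj v u := by
    rw [hv]; exact (isConj_iff.mpr ⟨g, rfl⟩ : IsConj u (g * u * g⁻¹)).symm
  have hv2 : orderOf v = 2 := by
    have h5 : v = MulAut.conj g u := hv
    rw [h5, ← hu]
    exact orderOf_injective (MulAut.conj g).toMonoidHom (MulAut.conj g).injective _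
  refine IsConj.trans ?_ huv
  -- an involution in `zpowers x` is `t`
  have hXinv : ∀ w ∈ Subgroup.zpowers x, orderOf w = 2 → w = t := by
    intro w hw hw2
    have hX := hw
    apply hcen w ((Subgroup.zpowers_le.mpr hx) hw) (by rintro rfl; rw [orderOf_one] at hw2; norm_num at hw2)
    intro d hd
    by_cases hdX : d ∈ Subgroup.zpowers x
    · obtain ⟨i, rfl⟩ := hdX
      obtain ⟨j, rfl⟩ := hw
      exact (Commute.refl x).zpow_zpow i j
    · have h6 := (hdih d hd hdX).2 w hw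
      have h7 : w⁻¹ = w := inv_eq_of_mul_eq_one_left (by
        have := pow_orderOf_eq_one w; rwa [hw2, sq] at this)
      rw [h7] at h6
      exact mul_inv_eq_iff_eq_mul.mp h6
  by_contra hcon
  have hv0 : ∀ k : G, k⁻¹ * v * k ∈ Subgroup.zpowers x → False := by
    intro k hk
    apply hcon
    have h8 : orderOf (k⁻¹ * v * k) = 2 := by
      have h5 : k⁻¹ * v * k = MulAut.conj k⁻¹ v := by simp
      rw [h5, ← hv2]
      exact orderOf_injective (MulAut.conj k⁻¹).toMonoidHom (MulAut.conj k⁻¹).injective _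
    have h9 := hXinv _ hk h8
    rw [← h9]
    exact isConj_iff.mpr ⟨k, by group⟩
  have hXD : Subgroup.zpowers x ≤ Subgroup.centralizer ({t} : Set G) := Subgroup.zpowers_le.mpr hx
  have hrel : (Subgroup.zpowers x).relIndex (Subgroup.centralizer ({t} : Set G)) = 2 := by
    have h10 : Nat.card ((Subgroup.zpowers x).subgroupOf (Subgroup.centralizer ({t} : Set G))) = 4 := by
      rw [Nat.card_congr (Subgroup.subgroupOfEquivOfLe hXD).toEquiv, Nat.card_zpowers, hx4]
    have h11 := ((Subgroup.zpowers x).subgroupOf (Subgroup.centralizer ({t} : Set G))).card_mul_index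
    rw [h10, hD] at h11
    have h12 : ((Subgroup.zpowers x).subgroupOf (Subgroup.centralizer ({t} : Set G))).index = 2 := by omega
    exact h12
  obtain ⟨K, hK, hK2, hvK⟩ := H19.Transfer.thompson (G := G) (by rw [hidx]; exact hm) hrel v ⟨1, by rw [hv2, pow_one]⟩
    (fun k _ hk => hv0 k hk) (by
      intro k j _
      have h13 : v ^ (2 ^ (j + 1)) = 1 := by
        rw [pow_succ, mul_comm, pow_mul]
        have : v ^ 2 = 1 := by rw [← hv2]; exact pow_orderOf_eq_one v
        rw [this, one_pow]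
      rw [h13, mul_one, inv_mul_cancel]
      exact Subgroup.one_mem _)
  have h14 : commutator G ≤ (H19.Transfer.sgn K hK2).ker := Abelianization.commutator_subset_ker _
  rw [hperf] at h14
  have h15 : v ∈ (H19.Transfer.sgn K hK2).ker := h14 (Subgroup.mem_top v)
  rw [MonoidHom.mem_ker, H19.Transfer.sgn_eq_one_iff] at h15
  exact hvK h15

end Struct

/-- sums over a cyclic group of order four -/
theorem sum_zpowers {G : Type*} [Group G] {x : G} (hx : orderOf x = 4) [Fintype (Subgroup.zpowers x)]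
    (F : G → ℂ) : ∑ s : Subgroup.zpowers x, F s = F 1 + F x + F (x ^ 2) + F (x ^ 3) := by
  have hfin : IsOfFinOrder x := orderOf_pos_iff.mp (by rw [hx]; norm_num)
  rw [← Equiv.sum_comp (finEquivZPowers hfin)]
  have h1 : ∀ i : Fin (orderOf x), F ((finEquivZPowers hfin i : Subgroup.zpowers x) : G) = F (x ^ (i : ℕ)) := by
    intro i; rw [finEquivZPowers_apply]
  rw [Finset.sum_congr rfl fun i _ => h1 i, Fin.sum_univ_eq_sum_range (fun i => F (x ^ i)), hx]
  simp [Finset.sum_range_succ]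

theorem main {G : Type*} [Group G] [Finite G] (hperf : commutator G = ⊤) (t : G) (ht : orderOf t = 2)
    (e : Subgroup.centralizer ({t} : Set G) ≃* DihedralGroup 4) :
    Nat.card G = 168 ∨ Nat.card G = 360 := by
  classical
  have := Fintype.ofFinite G
  obtain ⟨x, hxD, hx4, hxx, hdih, hcen⟩ := struct ht e
  obtain ⟨m, hm, hG⟩ := card_G ht e
  have hcD := card_D ht e
  have hinv := fun u (hu : orderOf u = 2) => inv_conj ht e hperf hu
  obtain ⟨D, hDdef⟩ : ∃ D : Subgroup G, D = Subgroup.centralizer ({t} : Set G) := ⟨_, rfl⟩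
  obtain ⟨X, hXdef⟩ : ∃ X : Subgroup G, X = Subgroup.zpowers x := ⟨_, rfl⟩
  have hcX : Nat.card X = 4 := by rw [hXdef, Nat.card_zpowers, hx4]
  rw [← hDdef] at hxD hdih hcen hcD
  have hXD : X ≤ D := by rw [hXdef]; exact Subgroup.zpowers_le.mpr hxD
  rw [← hXdef] at hdih
  have hDm : ∀ g, g ∈ D ↔ g * t = t * g := by
    intro g; rw [hDdef]; exact Subgroup.mem_centralizer_singleton_iff
  have ht1 : t ≠ 1 := by rintro rfl; rw [orderOf_one] at ht; norm_num at ht
  have htt : t * t = 1 := by have := pow_orderOf_eq_one t; rwa [ht, sq] at this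
  have hxX : x ∈ X := by rw [hXdef]; exact Subgroup.mem_zpowers x
  have htX : t ∈ X := by rw [← hxx]; exact X.mul_mem hxX hxX
  have hx2 : x ^ 2 = t := by rw [sq]; exact hxx
  have hXcases : ∀ s ∈ X, s = 1 ∨ s = x ∨ s = t ∨ s = x ^ 3 := by
    intro s hs
    rw [hXdef, ← mem_powers_iff_mem_zpowers] at hs
    obtain ⟨n, rfl⟩ := hs
    have h1 : x ^ n = x ^ (n % 4) := by rw [← hx4, pow_mod_orderOf]
    simp only
    rw [h1]
    have h2 : n % 4 < 4 := Nat.mod_lt _ (by norm_num)
    interval_cases (n % 4)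
    · left; simp
    · right; left; simp
    · right; right; left; exact hx2
    · right; right; right; rfl
  have hx3 : x ^ 3 * x ^ 3 = t := by
    rw [← pow_add]
    have h1 : x ^ (3 + 3) = (x ^ 4) * x ^ 2 := by rw [← pow_add]
    rw [h1, ← hx4, pow_orderOf_eq_one, one_mul, hx2]
  have hXt : ∀ s ∈ X, s ≠ 1 → s = t ∨ s * s = t := by
    intro s hs hs1
    rcases hXcases s hs with h | h | h | h
    · exact absurd h hs1
    · right; rw [h, hxx]
    · left; exact h
    · right; rw [h, hx3]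
  have hXinv : ∀ w ∈ X, w * w = 1 → w ≠ 1 → w = t := by
    intro w hw hw2 hw1
    rcases hXt w hw hw1 with h | h
    · exact h
    · rw [hw2] at h; exact absurd h.symm ht1
  -- TI property
  have hTI : ∀ s ∈ X, s ≠ 1 → ∀ g : G, g⁻¹ * s * g ∈ X → g ∈ D := by
    intro s hs hs1 g hg
    have h1 : g⁻¹ * t * g ∈ X := by
      rcases hXt s hs hs1 with h | h
      · rw [← h]; exact hg
      · have : g⁻¹ * t * g = (g⁻¹ * s * g) * (g⁻¹ * s * g) := by rw [← h]; group
        rw [this]; exact X.mul_mem hg hg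
    have h2 : g⁻¹ * t * g = t := by
      apply hXinv _ h1
      · have : g⁻¹ * t * g * (g⁻¹ * t * g) = g⁻¹ * (t * t) * g := by group
        rw [this, htt]; group
      · intro h
        apply ht1
        calc t = g * (g⁻¹ * t * g) * g⁻¹ := by group
          _ = 1 := by rw [h]; group
    rw [hDm]
    calc g * t = g * (g⁻¹ * t * g) := by rw [h2]
      _ = t * g := by group
  -- the linear character
  have hcyc : IsCyclic X := by rw [hXdef]; infer_instance
  obtain ⟨ζ, hζ⟩ : ∃ ζ : X →* ℂˣ, ζ ⟨t, htX⟩ ≠ 1 := by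
    let : CommGroup X := IsCyclic.commGroup
    exact CommGroup.exists_apply_ne_one_of_hasEnoughRootsOfUnity X ℂ
      (show (⟨t, htX⟩ : X) ≠ 1 from fun h => ht1 (congrArg Subtype.val h))
  obtain ⟨w, hw⟩ : ∃ w : ℂ, w = (ζ ⟨x, hxX⟩ : ℂ) := ⟨_, rfl⟩
  have hζpow : ∀ (n : ℕ) (h : x ^ n ∈ X), (ζ ⟨x ^ n, h⟩ : ℂ) = w ^ n := by
    intro n h
    rw [hw, ← Units.val_pow_eq_pow_val, ← map_pow]
    rfl
  have hζt : (ζ ⟨t, htX⟩ : ℂ) = w ^ 2 := by
    rw [← hζpow 2 (by rw [hx2]; exact htX)]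
    congr 2
    exact Subtype.ext hx2.symm
  have hw2 : w ^ 2 = -1 := by
    have h1 : w ^ 2 ≠ 1 := by
      rw [← hζt]
      intro h
      exact hζ (Units.ext h)
    have h2 : (w ^ 2) * (w ^ 2) = 1 := by
      rw [← pow_add, ← hζpow 4 (X.pow_mem hxX 4)]
      have : (⟨x ^ 4, X.pow_mem hxX 4⟩ : X) = 1 := by
        apply Subtype.ext
        rw [← hx4]; exact pow_orderOf_eq_one x
      rw [this, map_one, Units.val_one]
    rcases mul_self_eq_one_iff.mp h2 with h | h
    · exact absurd h h1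
    · exact h
  obtain ⟨φ, hφ⟩ : ∃ φ : X → ℂ, φ = (fun _ => 1) - (fun s => (ζ s : ℂ)) := ⟨_, rfl⟩
  have hφgen : IsGeneralizedCharacter X φ := by
    rw [hφ]
    exact IsGen.sub (IsGen.of_irr isIrr_one) (IsGen.of_irr (isIrr_of_hom_units ζ))
  obtain ⟨φ', hφ'⟩ : ∃ φ' : G → ℂ, φ' = extendByZero X φ := ⟨_, rfl⟩
  have hφX : ∀ s (hs : s ∈ X), φ' s = 1 - (ζ ⟨s, hs⟩ : ℂ) := by
    intro s hs
    rw [hφ', ext_mem X φ hs, hφ]; rfl
  have hφ1 : φ' 1 = 0 := by
    rw [hφX 1 X.one_mem]
    have : (⟨1, X.one_mem⟩ : X) = 1 := rfl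
    rw [this, map_one, Units.val_one, sub_self]
  have hφx : φ' x = 1 - w := by rw [hφX x hxX, hw]
  have hφt : φ' t = 2 := by rw [hφX t htX, hζt, hw2]; norm_num
  have hφx3 : φ' (x ^ 3) = 1 + w := by
    rw [hφX _ (X.pow_mem hxX 3), hζpow, pow_succ, hw2]; ring
  have hxinv : x⁻¹ = x ^ 3 := by
    rw [inv_eq_iff_mul_eq_one, ← pow_succ']
    have h1 := pow_orderOf_eq_one x
    rw [hx4] at h1
    exact h1
  have htinv : t⁻¹ = t := inv_eq_of_mul_eq_one_left htt
  obtain ⟨θ, hθ⟩ : ∃ θ : G → ℂ, θ = indFun X φ := ⟨_, rfl⟩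
  have hθgen : IsGeneralizedCharacter G θ := by rw [hθ]; exact IsGen.ind hφgen
  have hθ1 : θ 1 = 0 := by
    rw [hθ, ind_one]
    have : φ 1 = 0 := by rw [hφ]; simp
    rw [this, mul_zero]
  have hcardX : (Finset.univ.filter fun g : G => g ∈ X).card = 4 := by
    rw [← hcX, Nat.card_eq_fintype_card, Fintype.card_subtype]
  have hcardD : (Finset.univ.filter fun g : G => g ∈ D).card = 8 := by
    rw [← hcD, Nat.card_eq_fintype_card, Fintype.card_subtype]
  have hcardDX : (Finset.univ.filter fun g : G => g ∈ D ∧ g ∉ X).card = 4 := by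
    have h1 : (Finset.univ.filter fun g : G => g ∈ D ∧ g ∉ X) =
        (Finset.univ.filter fun g : G => g ∈ D) \ (Finset.univ.filter fun g : G => g ∈ X) := by
      ext g; simp
    have h2 : (Finset.univ.filter fun g : G => g ∈ X) ⊆ (Finset.univ.filter fun g : G => g ∈ D) := by
      intro g hg
      rw [Finset.mem_filter] at *
      exact ⟨hg.1, hXD hg.2⟩
    rw [h1, Finset.card_sdiff_of_subset h2, hcardD, hcardX]
  have hθX : ∀ s ∈ X, s ≠ 1 → θ s = φ' s + φ' s⁻¹ := by
    intro s hs hs1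
    rw [hθ, indFun, ← hφ', hcX]
    have h1 : ∀ g : G, φ' (g⁻¹ * s * g) = (if g ∈ X then φ' s else 0) + (if g ∈ D ∧ g ∉ X then φ' s⁻¹ else 0) := by
      intro g
      by_cases hgX : g ∈ X
      · rw [if_pos hgX, if_neg (fun h => h.2 hgX), add_zero]
        congr 1
        have hcomm : ∀ a b : X, a * b = b * a := by
          let : CommGroup X := IsCyclic.commGroup
          exact mul_comm
        have h2 := congrArg Subtype.val (hcomm ⟨s, hs⟩ ⟨g, hgX⟩)
        simp only [Subgroup.coe_mul] at h2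
        rw [mul_assoc, h2]; group
      · rw [if_neg hgX, zero_add]
        by_cases hgD : g ∈ D
        · rw [if_pos ⟨hgD, hgX⟩]
          congr 1
          have h3 := (hdih g⁻¹ (D.inv_mem hgD) (fun h => hgX (by simpa using X.inv_mem h))).2 s hs
          rwa [inv_inv] at h3
        · rw [if_neg (fun h => hgD h.1), hφ', ext_not_mem X φ]
          intro h
          exact hgD (hTI s hs hs1 g h)
    rw [Finset.sum_congr rfl fun g _ => h1 g, Finset.sum_add_distrib, ← Finset.sum_filter, ← Finset.sum_filter,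
      Finset.sum_const, Finset.sum_const, hcardX, hcardDX, nsmul_eq_mul, nsmul_eq_mul]
    push_cast
    ring
  have hxne : x ≠ 1 := by rintro rfl; rw [orderOf_one] at hx4; norm_num at hx4
  have hx3ne : x ^ 3 ≠ 1 := by rw [← hxinv]; exact inv_ne_one.mpr hxne
  have hθx : θ x = 2 := by rw [hθX x hxX hxne, hxinv, hφx, hφx3]; ring
  have hθt : θ t = 4 := by rw [hθX t htX ht1, htinv, hφt]; norm_num
  have hθx3 : θ (x ^ 3) = 2 := by
    rw [hθX _ (X.pow_mem hxX 3) hx3ne, ← hxinv, inv_inv, hφx, hxinv, hφx3]; ring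
  -- inner products
  have := Fintype.ofFinite X
  have hsumX : ∀ F : G → ℂ, ∑ s : X, F s = F 1 + F x + F t + F (x ^ 3) := by
    intro F
    subst hXdef
    rw [sum_zpowers hx4, hx2]
  have hin1 : classInner θ (fun _ => 1) = 1 := by
    rw [hθ, frobenius X φ _ (IsChar.isClass (IsIrr.isCharacter isIrr_one)), classInner, hcX]
    have h1 : ∀ s : X, φ s * conj ((fun _ : G => (1 : ℂ)) s) = φ' s := by
      intro s; rw [map_one, mul_one, hφ', ext_coe]
    rw [Finset.sum_congr rfl fun s _ => h1 s, hsumX, hφ1, hφx, hφt, hφx3]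
    push_cast; ring
  have hin2 : classInner θ θ = 3 := by
    rw [hθ, frobenius X φ _ (ind_isClass X φ), ← hθ, classInner, hcX]
    have h1 : ∀ s : X, φ s * conj ((fun h : X => θ h) s) = φ' s * conj (θ s) := by
      intro s; rw [hφ', ext_coe]
    rw [Finset.sum_congr rfl fun s _ => h1 s, hsumX (fun s => φ' s * conj (θ s)), hφ1, hφx, hφt, hφx3, hθx, hθt, hθx3]
    simp only [zero_mul, map_ofNat]
    push_cast; ring
  -- decomposition
  have hdec : ∃ χ₁ χ₂ : G → ℂ, IsIrrCharacter G χ₁ ∧ IsIrrCharacter G χ₂ ∧ χ₁ ≠ χ₂ ∧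
      χ₁ ≠ (fun _ => 1) ∧ χ₂ ≠ (fun _ => 1) ∧ θ = (fun _ => 1) + χ₁ - χ₂ := by
    have hgen : IsGeneralizedCharacter G (θ - fun _ => 1) := IsGen.sub hθgen (IsGen.of_irr isIrr_one)
    have h11 : classInner (fun _ : G => (1 : ℂ)) (fun _ => 1) = 1 := ci_irr_self isIrr_one
    have h1θ : classInner (fun _ : G => (1 : ℂ)) θ = 1 := by
      rw [← ci_conj_symm, hin1]; simp
    have hn2 : classInner (θ - fun _ => 1) (θ - fun _ => 1) = 2 := by
      rw [ci_sub_left, ci_sub_right, ci_sub_right, hin2, hin1, h1θ, h11]; norm_num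
    have hn1 : classInner (θ - fun _ => 1) (fun _ => 1) = 0 := by
      rw [ci_sub_left, hin1, h11, sub_self]
    obtain ⟨a, b, s, r, ha, hb, hab, hs, hr, hf⟩ := Isom.isGen_norm_two hgen hn2
    have hane : a ≠ (fun _ => 1) := by
      intro h
      rw [hf, ci_add_left, ci_smul_left, ci_smul_left, ci_irr ha isIrr_one, ci_irr hb isIrr_one, if_pos h,
        if_neg (fun h' => hab (h.trans h'.symm))] at hn1
      rcases hs with rfl | rfl <;> norm_num at hn1
    have hbne : b ≠ (fun _ => 1) := by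
      intro h
      rw [hf, ci_add_left, ci_smul_left, ci_smul_left, ci_irr ha isIrr_one, ci_irr hb isIrr_one, if_neg hane,
        if_pos h] at hn1
      rcases hr with rfl | rfl <;> norm_num at hn1
    obtain ⟨da, hda, hda'⟩ := IsIrr.one_eq_nat ha
    obtain ⟨db, hdb, hdb'⟩ := IsIrr.one_eq_nat hb
    have h1 := congrFun hf 1
    simp only [Pi.sub_apply, Pi.add_apply, Pi.smul_apply, smul_eq_mul, hθ1, hda', hdb'] at h1
    have h2 : (0 : ℤ) - 1 = s * da + r * db := by exact_mod_cast h1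
    have hθe : θ = (fun _ => 1) + ((s : ℂ) • a + (r : ℂ) • b) := by
      rw [← hf]; ext g; simp
    rcases hs with rfl | rfl <;> rcases hr with rfl | rfl
    · omega
    · exact ⟨a, b, ha, hb, hab, hane, hbne, by rw [hθe]; ext g; simp; ring⟩
    · exact ⟨b, a, hb, ha, hab.symm, hbne, hane, by rw [hθe]; ext g; simp; ring⟩
    · omega
  obtain ⟨χ₁, χ₂, hχ₁, hχ₂, h12, h1n, h2n, hdec⟩ := hdec
  obtain ⟨a, d₁, ha, hd₁, -, -⟩ := char_invol (IsIrr.isCharacter hχ₁) htt
  obtain ⟨b, d₂, hb, hd₂, -, -⟩ := char_invol (IsIrr.isCharacter hχ₂) htt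
  have hdeg : (d₂ : ℤ) = d₁ + 1 := by
    have h1 := congrFun hdec 1
    simp only [Pi.sub_apply, Pi.add_apply, hθ1, hd₁, hd₂] at h1
    have h2 : (0 : ℤ) = 1 + d₁ - d₂ := by exact_mod_cast h1
    omega
  have hbt : b = a - 3 := by
    have h1 := congrFun hdec t
    simp only [Pi.sub_apply, Pi.add_apply, hθt, ha, hb] at h1
    have h2 : (4 : ℤ) = 1 + a - b := by exact_mod_cast h1
    omega
  have hd₁pos : (0 : ℤ) < d₁ := by
    have := IsIrr.one_ne_zero hχ₁
    rw [hd₁] at this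
    have h0 : d₁ ≠ 0 := by exact_mod_cast this
    omega
  -- column orthogonality
  have hcol : 1 + a ^ 2 + (a - 3) ^ 2 ≤ 8 := by
    have := Fintype.ofFinite (IrrCharacter G)
    have h1 := orth2 t t
    rw [if_pos (IsConj.refl t), ← hDdef, hcD] at h1
    have h2 : ∑ χ : IrrCharacter G, ‖(χ : G → ℂ) t‖ ^ 2 = (8 : ℝ) := by
      have h3 : ((∑ χ : IrrCharacter G, ‖(χ : G → ℂ) t‖ ^ 2 : ℝ) : ℂ) = ((8 : ℝ) : ℂ) := by
        push_cast
        rw [← show ((8 : ℕ) : ℂ) = 8 by norm_num, ← h1]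
        refine Finset.sum_congr rfl fun χ _ => ?_
        rw [Complex.mul_conj, Complex.normSq_eq_norm_sq]; push_cast; ring
      exact Complex.ofReal_injective h3
    have h4 : ∑ χ ∈ ({⟨_, isIrr_one⟩, ⟨χ₁, hχ₁⟩, ⟨χ₂, hχ₂⟩} : Finset (IrrCharacter G)), ‖(χ : G → ℂ) t‖ ^ 2 ≤ (8 : ℝ) := by
      rw [← h2]
      exact Finset.sum_le_sum_of_subset_of_nonneg (Finset.subset_univ _) (fun _ _ _ => by positivity)
    rw [Finset.sum_insert (by
        rw [Finset.mem_insert, Finset.mem_singleton, Subtype.mk.injEq, Subtype.mk.injEq]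
        push Not
        exact ⟨h1n.symm, h2n.symm⟩),
      Finset.sum_insert (by
        rw [Finset.mem_singleton, Subtype.mk.injEq]
        exact h12), Finset.sum_singleton] at h4
    simp only [ha, hb, norm_one, one_pow] at h4
    rw [Complex.norm_intCast, Complex.norm_intCast, sq_abs, sq_abs, hbt] at h4
    have h5 : ((1 + a ^ 2 + (a - 3) ^ 2 : ℤ) : ℝ) ≤ ((8 : ℤ) : ℝ) := by
      push_cast at h4 ⊢; linarith
    exact_mod_cast h5
  -- class sums
  have hconj : ∀ u, IsConj t u ↔ u * u = 1 ∧ u ≠ 1 := by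
    intro u
    constructor
    · intro h
      obtain ⟨g, rfl⟩ := isConj_iff.mp h
      refine ⟨?_, ?_⟩
      · have : g * t * g⁻¹ * (g * t * g⁻¹) = g * (t * t) * g⁻¹ := by group
        rw [this, htt]; group
      · intro h'
        apply ht1
        calc t = g⁻¹ * (g * t * g⁻¹) * g := by group
          _ = 1 := by rw [h']; group
    · rintro ⟨h1, h2⟩
      exact hinv u (orderOf_eq_prime (by rw [sq]; exact h1) h2)
  have hnum : ∀ s ∈ X, s ≠ 1 → (Finset.univ.filter (fun y : G => IsConj t y ∧ IsConj t (y⁻¹ * s))).card = 4 := by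
    intro s hs hs1
    rw [← hcardDX]
    congr 1
    ext y
    simp only [Finset.mem_filter, Finset.mem_univ, true_and]
    rw [hconj, hconj]
    constructor
    · rintro ⟨⟨hy2, hy1⟩, hys2, hys1⟩
      have hyi : y⁻¹ = y := inv_eq_of_mul_eq_one_left hy2
      have h1 : y⁻¹ * s * y = s⁻¹ := by
        rw [eq_inv_iff_mul_eq_one]
        rw [← hys2, hyi]; group
      have hyD : y ∈ D := hTI s hs hs1 y (by rw [h1]; exact X.inv_mem hs)
      refine ⟨hyD, fun hyX => ?_⟩
      have h2 := hXinv y hyX hy2 hy1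
      have h3 := hXinv (y⁻¹ * s) (X.mul_mem (X.inv_mem hyX) hs) hys2 hys1
      rw [h2, htinv] at h3
      exact hs1 (mul_left_cancel (h3.trans (mul_one t).symm))
    · rintro ⟨hyD, hyX⟩
      have hys : y⁻¹ * s ∉ X := by
        intro h
        apply hyX
        have := X.mul_mem h (X.inv_mem hs)
        rw [mul_inv_cancel_right] at this
        simpa using X.inv_mem this
      refine ⟨⟨(hdih y hyD hyX).1, fun h => hyX (by rw [h]; exact X.one_mem)⟩,
        (hdih _ (D.mul_mem (D.inv_mem hyD) (hXD hs)) hys).1, fun h => hys (by rw [h]; exact X.one_mem)⟩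
  have hTcard : (Finset.univ.filter (IsConj t)).card = m := by
    have h1 := card_class_mul t
    rw [← hDdef, hcD, hG] at h1
    omega
  have hsum1 := class_sum_ind X φ t
  rw [hcX, ← hθ] at hsum1
  have hsum2 : ∑ s : X, φ s * ((Finset.univ.filter (fun y : G => IsConj t y ∧ IsConj t (y⁻¹ * s))).card : ℂ) = 16 := by
    have h1 : ∀ s : X, φ s * ((Finset.univ.filter (fun y : G => IsConj t y ∧ IsConj t (y⁻¹ * s))).card : ℂ) = φ' s * 4 := by
      intro s
      by_cases hs1 : (s : G) = 1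
      · have h2 : s = 1 := Subtype.ext hs1
        have h3 : φ s = 0 := by rw [h2, hφ]; simp
        rw [h3, hs1, hφ1]; simp
      · rw [hnum s s.2 hs1, hφ', ext_coe]; push_cast; ring
    rw [Finset.sum_congr rfl fun s _ => h1 s, hsumX (fun s => φ' s * 4), hφ1, hφx, hφt, hφx3]
    ring
  rw [hsum2] at hsum1
  have hsum3 : ∑ y ∈ Finset.univ.filter (IsConj t), ∑ z ∈ Finset.univ.filter (IsConj t), θ (y * z) =
      (m : ℂ) ^ 2 * (1 + (a : ℂ) ^ 2 / d₁ - (b : ℂ) ^ 2 / d₂) := by
    have e1 := class_sum_irr (isIrr_one (G := G)) t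
    have e2 := class_sum_irr hχ₁ t
    have e3 := class_sum_irr hχ₂ t
    rw [hTcard] at e1 e2 e3
    rw [hd₁, ha] at e2
    rw [hd₂, hb] at e3
    rw [hdec]
    simp only [Pi.sub_apply, Pi.add_apply, Finset.sum_sub_distrib, Finset.sum_add_distrib]
    rw [e2, e3, e1]
    ring
  rw [hsum3, hG] at hsum1
  have hm0 : (m : ℂ) ≠ 0 := by
    have : m ≠ 0 := by rintro rfl; exact absurd hm (by decide)
    exact_mod_cast this
  have hd1c : (d₁ : ℂ) ≠ 0 := by
    have : d₁ ≠ 0 := by omega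
    exact_mod_cast this
  have hd2c : (d₂ : ℂ) = (d₁ : ℂ) + 1 := by exact_mod_cast hdeg
  have hd2c' : (d₁ : ℂ) + 1 ≠ 0 := by rw [← hd2c]; exact_mod_cast (by omega : d₂ ≠ 0)
  have hfin : (m : ℤ) * ((d₁ : ℤ) * (d₁ + 1) + a ^ 2 * (d₁ + 1) - (a - 3) ^ 2 * d₁) = 32 * ((d₁ : ℤ) * (d₁ + 1)) := by
    have h1 : (m : ℂ) * ((d₁ : ℂ) * (d₁ + 1) + (a : ℂ) ^ 2 * (d₁ + 1) - ((a : ℂ) - 3) ^ 2 * d₁) =
        32 * ((d₁ : ℂ) * (d₁ + 1)) := by
      rw [hd2c, hbt] at hsum1
      push_cast at hsum1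
      field_simp at hsum1
      linear_combination (1/4 : ℂ) * hsum1
    exact_mod_cast h1
  rcases arith m d₁ a (by exact_mod_cast hm) (by
    have : m ≠ 0 := by rintro rfl; exact absurd hm (by decide)
    omega) hd₁pos hcol hfin with h | h
  · right; omega
  · left; omega

end Cfsg.Agent.H3.D8
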