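import Mathlib
import Cfsg.Agent.H5_V4b

set_option autoImplicit false

/-! Anticommuting pairs in `SL_2(q)` and four-groups of `PSL_2(q)`, `q` odd. -/

namespace Cfsg.Agent.H5.V4

open Matrix SL2 SL2Quat

/-- `s² = t² = -1`, `st = -ts` -/
structure IsPair {F : Type*} [Field F] (s t : S F) : Prop where
  ss : s * s = -1
  tt : t * t = -1
  st : s * t = -(t * s)

/-- commuting distinct involutions -/
structure IsCPair {G : Type*} [Group G] (a b : G) : Prop where
  aa : a * a = 1
  bb : b * b = 1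
  ab : a * b = b * a
  a1 : a ≠ 1
  b1 : b ≠ 1
  ne : a ≠ b

section Klein
variable {G : Type*} [Group G]

/-- the subgroup `{1, a, b, ab}` -/
def klein {a b : G} (h : IsCPair a b) : Subgroup G where
  carrier := {x | x = 1 ∨ x = a ∨ x = b ∨ x = a * b}
  one_mem' := Or.inl rfl
  mul_mem' := by
    have h1 : a * (a * b) = b := by rw [← mul_assoc, h.aa, one_mul]
    have h2 : b * (a * b) = a := by rw [h.ab, ← mul_assoc, h.bb, one_mul]
    have h3 : a * b * a = b := by rw [h.ab, mul_assoc, h.aa, mul_one]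
    have h4 : a * b * b = a := by rw [mul_assoc, h.bb, mul_one]
    have h5 : a * b * (a * b) = 1 := by rw [mul_assoc, h2, h.aa]
    rintro x y (rfl | rfl | rfl | rfl) (rfl | rfl | rfl | rfl) <;>
      simp [h.aa, h.bb, h.ab.symm, h1, h2, h3, h4, h5]
  inv_mem' := by
    have hi : a⁻¹ = a := inv_eq_of_mul_eq_one_left h.aa
    have hj : b⁻¹ = b := inv_eq_of_mul_eq_one_left h.bb
    rintro x (rfl | rfl | rfl | rfl)
    · left; simp
    · right; left; exact hi
    · right; right; left; exact hj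
    · right; right; right
      rw [_root_.mul_inv_rev, hi, hj, h.ab]

theorem mem_klein {a b : G} (h : IsCPair a b) (x : G) : x ∈ klein h ↔ x = 1 ∨ x = a ∨ x = b ∨ x = a * b := Iff.rfl

theorem ab_ne_one {a b : G} (h : IsCPair a b) : a * b ≠ 1 := by
  intro h1
  apply h.ne
  calc a = a * (b * b) := by rw [h.bb, mul_one]
    _ = (a * b) * b := by group
    _ = b := by rw [h1, one_mul]

theorem card_klein {a b : G} (h : IsCPair a b) : Nat.card (klein h) = 4 := by
  have h1 : ((klein h : Subgroup G) : Set G) = {1, a, b, a * b} := by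
    ext x; rw [SetLike.mem_coe, mem_klein]; simp
  have h2 : Nat.card (klein h) = ((klein h : Subgroup G) : Set G).ncard := rfl
  rw [h2, h1]
  rw [Set.ncard_insert_of_notMem, Set.ncard_insert_of_notMem, Set.ncard_insert_of_notMem, Set.ncard_singleton]
  · rw [Set.mem_singleton_iff]
    intro h3
    apply h.a1
    exact (mul_eq_right.mp h3.symm)
  · rintro (h3 | h3)
    · exact h.ne h3
    · rw [Set.mem_singleton_iff] at h3
      apply h.b1
      exact (mul_eq_left.mp h3.symm)
  · rintro (h3 | h3 | h3)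
    · exact h.a1 h3.symm
    · exact h.b1 h3.symm
    · exact ab_ne_one h h3.symm

theorem isKleinFour_klein {a b : G} (h : IsCPair a b) : IsKleinFour (klein h) := by
  refine ⟨card_klein h, ?_⟩
  have hdvd : Monoid.exponent (klein h) ∣ 2 := by
    rw [Monoid.exponent_dvd_iff_forall_pow_eq_one]
    rintro ⟨x, hx⟩
    apply Subtype.ext
    change x ^ 2 = 1
    rw [sq]
    rcases hx with rfl | rfl | rfl | rfl
    · rw [one_mul]
    · exact h.aa
    · exact h.bb
    · calc a * b * (a * b) = a * (b * a) * b := by group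
        _ = a * (a * b) * b := by rw [h.ab]
        _ = (a * a) * (b * b) := by group
        _ = 1 := by rw [h.aa, h.bb, one_mul]
  rcases (Nat.dvd_prime Nat.prime_two).mp hdvd with h3 | h3
  · exfalso
    rw [Monoid.exp_eq_one_iff] at h3
    have := Subsingleton.elim (⟨a, Or.inr (Or.inl rfl)⟩ : klein h) 1
    exact h.a1 (congrArg Subtype.val this)
  · exact h3

theorem cpair_of_kleinFour {V : Subgroup G} (hV : IsKleinFour V) {a b : G} (ha : a ∈ V) (hb : b ∈ V)
    (ha1 : a ≠ 1) (hb1 : b ≠ 1) (hab : a ≠ b) : IsCPair a b := by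
  have h1 : ∀ x ∈ V, x * x = 1 := fun x hx => congrArg Subtype.val (IsKleinFour.mul_self (⟨x, hx⟩ : V))
  refine ⟨h1 a ha, h1 b hb, ?_, ha1, hb1, hab⟩
  have h3 := h1 (a * b) (V.mul_mem ha hb)
  have hi : a⁻¹ = a := inv_eq_of_mul_eq_one_left (h1 a ha)
  have hj : b⁻¹ = b := inv_eq_of_mul_eq_one_left (h1 b hb)
  calc a * b = (a * b)⁻¹ := (inv_eq_of_mul_eq_one_left h3).symm
    _ = b * a := by rw [_root_.mul_inv_rev, hi, hj]

theorem eq_klein [Finite G] {V : Subgroup G} (hV : IsKleinFour V) {a b : G} (ha : a ∈ V) (hb : b ∈ V)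
    (h : IsCPair a b) : V = klein h := by
  symm
  apply Subgroup.eq_of_le_of_card_ge
  · rintro x (rfl | rfl | rfl | rfl)
    · exact V.one_mem
    · exact ha
    · exact hb
    · exact V.mul_mem ha hb
  · rw [card_klein, hV.card_four]

theorem exists_cpair {V : Subgroup G} (hV : IsKleinFour V) : ∃ a b : G, a ∈ V ∧ b ∈ V ∧ IsCPair a b := by
  obtain ⟨e⟩ := IsKleinFour.nonempty_mulEquiv (G₁ := Multiplicative (ZMod 2 × ZMod 2)) (G₂ := V)
  refine ⟨e (Multiplicative.ofAdd (1, 0)), e (Multiplicative.ofAdd (0, 1)), (e _).2, (e _).2, ?_⟩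
  apply cpair_of_kleinFour hV (e _).2 (e _).2
  · intro h
    have h1 : e (Multiplicative.ofAdd (1, 0)) = 1 := Subtype.ext h
    have h2 := e.injective (h1.trans e.map_one.symm)
    revert h2; decide
  · intro h
    have h1 : e (Multiplicative.ofAdd (0, 1)) = 1 := Subtype.ext h
    have h2 := e.injective (h1.trans e.map_one.symm)
    revert h2; decide
  · intro h
    have h1 := e.injective (Subtype.ext h)
    revert h1; decide

/-- number of ordered pairs of distinct involutions in a four-group -/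
theorem card_pairs_kleinFour {V : Type*} [Group V] (hV : IsKleinFour V) :
    Nat.card {p : V × V // p.1 ≠ 1 ∧ p.2 ≠ 1 ∧ p.1 ≠ p.2} = 6 := by
  obtain ⟨e⟩ := IsKleinFour.nonempty_mulEquiv (G₁ := V) (G₂ := Multiplicative (ZMod 2 × ZMod 2))
  have : Nat.card {p : V × V // p.1 ≠ 1 ∧ p.2 ≠ 1 ∧ p.1 ≠ p.2} =
      Nat.card {p : Multiplicative (ZMod 2 × ZMod 2) × Multiplicative (ZMod 2 × ZMod 2) // p.1 ≠ 1 ∧ p.2 ≠ 1 ∧ p.1 ≠ p.2} := by
    apply Nat.card_congr
    refine (Equiv.prodCongr e.toEquiv e.toEquiv).subtypeEquiv ?_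
    rintro ⟨a, b⟩
    simp
  rw [this, Nat.card_eq_fintype_card]
  decide

theorem card_cpairs [Finite G] :
    Nat.card {p : G × G // IsCPair p.1 p.2} = 6 * Nat.card {V : Subgroup G // IsKleinFour V} := by
  classical
  have := Fintype.ofFinite {V : Subgroup G // IsKleinFour V}
  have e : Nat.card {p : G × G // IsCPair p.1 p.2} =
      Nat.card (Σ V : {V : Subgroup G // IsKleinFour V}, {p : V.1 × V.1 // p.1 ≠ 1 ∧ p.2 ≠ 1 ∧ p.1 ≠ p.2}) := by
    symm
    apply Nat.card_eq_of_bijective (fun x => (⟨(x.2.1.1, x.2.1.2), cpair_of_kleinFour x.1.2 x.2.1.1.2 x.2.1.2.2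
      (fun h => x.2.2.1 (Subtype.ext h)) (fun h => x.2.2.2.1 (Subtype.ext h)) (fun h => x.2.2.2.2 (Subtype.ext h))⟩ :
      {p : G × G // IsCPair p.1 p.2}))
    constructor
    · rintro ⟨⟨V, hV⟩, ⟨⟨⟨a, ha⟩, ⟨b, hb⟩⟩, h1, h2, h3⟩⟩ ⟨⟨W, hW⟩, ⟨⟨⟨a', ha'⟩, ⟨b', hb'⟩⟩, h1', h2', h3'⟩⟩ h
      have h4 := congrArg Subtype.val h
      simp only [Prod.mk.injEq] at h4
      obtain ⟨rfl, rfl⟩ := h4
      have hc : IsCPair a b := cpair_of_kleinFour hV ha hb (fun h => h1 (Subtype.ext h))
        (fun h => h2 (Subtype.ext h)) (fun h => h3 (Subtype.ext h))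
      have hVW : V = W := by rw [eq_klein hV ha hb hc, eq_klein hW ha' hb' hc]
      subst hVW
      rfl
    · rintro ⟨⟨a, b⟩, h⟩
      exact ⟨⟨⟨klein h, isKleinFour_klein h⟩, ⟨⟨⟨a, Or.inr (Or.inl rfl)⟩, ⟨b, Or.inr (Or.inr (Or.inl rfl))⟩⟩,
        fun h' => h.a1 (congrArg Subtype.val h'), fun h' => h.b1 (congrArg Subtype.val h'),
        fun h' => h.ne (congrArg Subtype.val h')⟩⟩, rfl⟩
  rw [e, Nat.card_sigma]
  rw [Finset.sum_congr rfl (fun V _ => card_pairs_kleinFour V.2)]
  rw [Finset.sum_const, Finset.card_univ, Nat.card_eq_fintype_card, smul_eq_mul, mul_comm]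

end Klein

variable {F : Type*} [Field F] [Fintype F]

theorem sq_of_anti_w (h2 : (2 : F) ≠ 0) {t : S F} (h : t * w 1 = -(w 1 * t)) : t * t = -1 := by
  apply sq_of_trace_zero
  have h01 := congrArg (fun g : S F => g.1 0 1) h
  simp [mul01, neg01] at h01
  rw [← h01]; ring

theorem IsPair.conj {s t : S F} (h : IsPair s t) (g : S F) : IsPair (g * s * g⁻¹) (g * t * g⁻¹) := by
  refine ⟨?_, ?_, ?_⟩
  · calc g * s * g⁻¹ * (g * s * g⁻¹) = g * (s * s) * g⁻¹ := by group
      _ = -1 := by rw [h.ss]; simp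
  · calc g * t * g⁻¹ * (g * t * g⁻¹) = g * (t * t) * g⁻¹ := by group
      _ = -1 := by rw [h.tt]; simp
  · calc g * s * g⁻¹ * (g * t * g⁻¹) = g * (s * t) * g⁻¹ := by group
      _ = g * (-(t * s)) * g⁻¹ := by rw [h.st]
      _ = -(g * (t * s) * g⁻¹) := by simp
      _ = _ := by congr 1; group

theorem card_pairs (hF : Odd (Fintype.card F)) : Nat.card {p : S F × S F // IsPair p.1 p.2} = Nat.card (S F) := by
  classical
  have h2 := two_ne_zero' hF
  have := Fintype.ofFinite {s : S F // s * s = -1}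
  have e : Nat.card {p : S F × S F // IsPair p.1 p.2} =
      Nat.card (Σ s : {s : S F // s * s = -1}, {t : S F // t * t = -1 ∧ s.1 * t = -(t * s.1)}) := by
    apply Nat.card_congr
    exact ⟨fun p => ⟨⟨p.1.1, p.2.ss⟩, ⟨p.1.2, p.2.tt, p.2.st⟩⟩, fun x => ⟨(x.1.1, x.2.1), ⟨x.1.2, x.2.2.1, x.2.2.2⟩⟩,
      fun _ => rfl, fun _ => rfl⟩
  have hfib : ∀ s : {s : S F // s * s = -1}, Nat.card {t : S F // t * t = -1 ∧ s.1 * t = -(t * s.1)} =
      Nat.card {v : F × F // v.1 ^ 2 + v.2 ^ 2 = -1} := by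
    rintro ⟨s, hs⟩
    rw [← card_anti_w]
    obtain ⟨g, hg⟩ := conj_w hF s hs
    have hww : w (1 : Fˣ) * w 1 = -1 := by
      apply ext2 <;> simp [mul00, mul01, mul10, mul11, neg00, neg01, neg10, neg11, one00, one01, one10, one11]
    apply Nat.card_congr
    refine ⟨fun t => ⟨g⁻¹ * t.1 * g, ?_⟩, fun t => ⟨g * t.1 * g⁻¹, ?_, ?_⟩, ?_, ?_⟩
    · have h3 : s * t.1 = -(t.1 * s) := t.2.2
      have h4 : t.1 * s = -(s * t.1) := by rw [h3, neg_neg]
      have hws : w 1 = g⁻¹ * s * g := by rw [hg]; group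
      calc g⁻¹ * t.1 * g * w 1 = g⁻¹ * (t.1 * s) * g := by rw [hws]; group
        _ = g⁻¹ * (-(s * t.1)) * g := by rw [h4]
        _ = -(g⁻¹ * (s * t.1) * g) := by simp
        _ = _ := by rw [hws]; congr 1; group
    · have h5 := sq_of_anti_w h2 t.2
      calc g * t.1 * g⁻¹ * (g * t.1 * g⁻¹) = g * (t.1 * t.1) * g⁻¹ := by group
        _ = -1 := by rw [h5]; simp
    · simp only
      rw [hg]
      have h6 := t.2
      have h6' : w 1 * t.1 = -(t.1 * w 1) := by rw [h6, neg_neg]
      calc g * w 1 * g⁻¹ * (g * t.1 * g⁻¹) = g * (w 1 * t.1) * g⁻¹ := by group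
        _ = g * (-(t.1 * w 1)) * g⁻¹ := by rw [h6']
        _ = -(g * (t.1 * w 1) * g⁻¹) := by simp
        _ = _ := by congr 1; group
    · intro t; apply Subtype.ext; simp; group
    · intro t; apply Subtype.ext; simp; group
  rw [e, Nat.card_sigma, Finset.sum_congr rfl (fun s _ => hfib s), Finset.sum_const, Finset.card_univ, smul_eq_mul]
  rw [card_class_mul (w (1 : Fˣ) : S F), card_cent_w, card_circle_eq hF (c := -1) (c' := 1) (by simp) one_ne_zero]
  congr 1
  rw [← Nat.card_eq_fintype_card]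
  apply Nat.card_congr
  apply Equiv.subtypeEquivRight
  intro s
  have hww : w (1 : Fˣ) * w 1 = -1 := by
    apply ext2 <;> simp [mul00, mul01, mul10, mul11, neg00, neg01, neg10, neg11, one00, one01, one10, one11]
  constructor
  · intro hs
    obtain ⟨g, hg⟩ := conj_w hF s hs
    exact ⟨g, hg.symm⟩
  · rintro ⟨g, rfl⟩
    calc g * w 1 * g⁻¹ * (g * w 1 * g⁻¹) = g * (w 1 * w 1) * g⁻¹ := by group
      _ = -1 := by rw [hww]; simp

theorem IsPair.toCPair (h2 : (2 : F) ≠ 0) {s t : S F} (h : IsPair s t) : IsCPair (π s) (π t) := by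
  have hne := neg_one_ne h2
  refine ⟨?_, ?_, ?_, π_ne_one_of_sq h2 h.ss, π_ne_one_of_sq h2 h.tt, ?_⟩
  · rw [← map_mul, h.ss]; exact π_eq_one.mpr (Or.inr rfl)
  · rw [← map_mul, h.tt]; exact π_eq_one.mpr (Or.inr rfl)
  · rw [← map_mul, ← map_mul, π_eq]; exact Or.inr h.st
  · intro h3
    rcases π_eq.mp h3 with h4 | h4
    · have := h.st
      rw [h4, h.tt] at this
      rw [neg_neg] at this
      exact hne this
    · have := h.st
      rw [h4] at this
      have h5 : (-t) * t = 1 := by rw [neg_mul, h.tt, neg_neg]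
      have h6 : t * (-t) = 1 := by rw [mul_neg, h.tt, neg_neg]
      rw [h5, h6] at this
      exact hne this.symm

theorem IsPair.of_cpair (h2 : (2 : F) ≠ 0) {s t : S F} (h : IsCPair (π s) (π t)) : IsPair s t := by
  have hs := lift_inv h2 h.a1 h.aa
  have ht := lift_inv h2 h.b1 h.bb
  refine ⟨hs, ht, ?_⟩
  have h3 := h.ab
  rw [← map_mul, ← map_mul] at h3
  rcases π_eq.mp h3 with h4 | h4
  · exfalso
    have h5 : (s * t) * (s * t) = 1 := by
      calc s * t * (s * t) = s * (t * s) * t := by group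
        _ = s * (s * t) * t := by rw [h4]
        _ = (s * s) * (t * t) := by group
        _ = 1 := by rw [hs, ht]; simp
    have h6 : s * t = 1 ∨ s * t = -1 := by
      by_cases h7 : s * t = 1
      · exact Or.inl h7
      · exact Or.inr (eq_neg_one h2 h5 h7)
    have h8 : π (s * t) = 1 := π_eq_one.mpr h6
    rw [map_mul] at h8
    exact ab_ne_one h h8
  · exact h4

theorem card_cpairs_PS (hF : Odd (Fintype.card F)) :
    Nat.card {p : S F × S F // IsPair p.1 p.2} = 4 * Nat.card {p : PS F × PS F // IsCPair p.1 p.2} := by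
  classical
  have h2 := two_ne_zero' hF
  have hne := neg_one_ne h2
  let lift : PS F → S F := fun x => (π_surj x).choose
  have hlift : ∀ x, π (lift x) = x := fun x => (π_surj x).choose_spec
  let sg : Bool → S F := fun b => if b then 1 else -1
  have hsg : ∀ b, π (sg b) = 1 := by
    intro b; cases b
    · exact π_eq_one.mpr (Or.inr rfl)
    · exact π_eq_one.mpr (Or.inl rfl)
  have hsginj : ∀ b c (x : S F), sg b * x = sg c * x → b = c := by
    intro b c x h
    have h3 := mul_right_cancel h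
    cases b <;> cases c
    · rfl
    · exact absurd h3 hne
    · exact absurd h3.symm hne
    · rfl
  have e : Nat.card ({p : PS F × PS F // IsCPair p.1 p.2} × (Bool × Bool)) = Nat.card {p : S F × S F // IsPair p.1 p.2} := by
    apply Nat.card_eq_of_bijective (fun x => (⟨(sg x.2.1 * lift x.1.1.1, sg x.2.2 * lift x.1.1.2), by
      apply IsPair.of_cpair h2
      rw [map_mul, map_mul, hsg, hsg, one_mul, one_mul, hlift, hlift]
      exact x.1.2⟩ : {p : S F × S F // IsPair p.1 p.2}))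
    constructor
    · rintro ⟨⟨⟨a, b⟩, h⟩, ⟨i, j⟩⟩ ⟨⟨⟨a', b'⟩, h'⟩, ⟨i', j'⟩⟩ heq
      have h3 := congrArg Subtype.val heq
      simp only [Prod.mk.injEq] at h3
      obtain ⟨h4, h5⟩ := h3
      have ha : a = a' := by
        have := congrArg π h4
        rwa [map_mul, map_mul, hsg, hsg, one_mul, one_mul, hlift, hlift] at this
      have hb : b = b' := by
        have := congrArg π h5
        rwa [map_mul, map_mul, hsg, hsg, one_mul, one_mul, hlift, hlift] at this
      subst ha; subst hb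
      rw [hsginj _ _ _ h4, hsginj _ _ _ h5]
    · rintro ⟨⟨s, t⟩, h⟩
      have hs : ∃ i, sg i * lift (π s) = s := by
        rcases π_eq.mp (hlift (π s)) with h3 | h3
        · exact ⟨true, by rw [h3]; exact one_mul _⟩
        · refine ⟨false, ?_⟩
          rw [h3]
          change (-1 : S F) * (-s) = s
          simp
      have ht : ∃ i, sg i * lift (π t) = t := by
        rcases π_eq.mp (hlift (π t)) with h3 | h3
        · exact ⟨true, by rw [h3]; exact one_mul _⟩
        · refine ⟨false, ?_⟩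
          rw [h3]
          change (-1 : S F) * (-t) = t
          simp
      obtain ⟨i, hi⟩ := hs
      obtain ⟨j, hj⟩ := ht
      refine ⟨⟨⟨(π s, π t), h.toCPair h2⟩, (i, j)⟩, ?_⟩
      apply Subtype.ext
      exact Prod.ext hi hj
  rw [← e, Nat.card_prod, Nat.card_prod]
  simp
  ring

theorem card_kleinFour (hF : Odd (Fintype.card F)) :
    12 * Nat.card {V : Subgroup (PS F) // IsKleinFour V} = Nat.card (PS F) := by
  have h1 := card_pairs hF
  rw [card_cpairs_PS hF, card_cpairs] at h1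
  have h3 : Nat.card (S F) = 2 * Nat.card (PS F) := by
    have h4 := GL.card_PSL_mul (F := F) rfl 2 (by norm_num)
    have hg : Nat.gcd 2 (Fintype.card F - 1) = 2 := by
      apply Nat.gcd_eq_left
      obtain ⟨k, hk⟩ := hF
      omega
    rw [hg] at h4
    exact h4.symm
  rw [h3] at h1
  omega

end Cfsg.Agent.H5.V4
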