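import Mathlib
import Cfsg.Agent.H5_V4c
import Cfsg.Agent.H5_SmallIso

set_option autoImplicit false

/-! Recognition of `A_4` and `S_4`. -/

namespace Cfsg.Agent.H5.Rec

open Cfsg.Agent.H5.V4

variable {G : Type*} [Group G]

/-- product of two subgroups, the second normalising the first -/
def prodSub (K H : Subgroup G) (hn : ∀ h ∈ H, ∀ k ∈ K, h * k * h⁻¹ ∈ K) : Subgroup G where
  carrier := {x | ∃ k ∈ K, ∃ h ∈ H, x = k * h}
  one_mem' := ⟨1, K.one_mem, 1, H.one_mem, by simp⟩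
  mul_mem' := by
    rintro _ _ ⟨k, hk, h, hh, rfl⟩ ⟨k', hk', h', hh', rfl⟩
    refine ⟨k * (h * k' * h⁻¹), K.mul_mem hk (hn h hh k' hk'), h * h', H.mul_mem hh hh', by group⟩
  inv_mem' := by
    rintro _ ⟨k, hk, h, hh, rfl⟩
    refine ⟨h⁻¹ * k⁻¹ * h⁻¹⁻¹, hn _ (H.inv_mem hh) _ (K.inv_mem hk), h⁻¹, H.inv_mem hh, by group⟩

theorem mem_prodSub {K H : Subgroup G} {hn : ∀ h ∈ H, ∀ k ∈ K, h * k * h⁻¹ ∈ K} (x : G) :
    x ∈ prodSub K H hn ↔ ∃ k ∈ K, ∃ h ∈ H, x = k * h := Iff.rfl

theorem card_prodSub {K H : Subgroup G} {hn : ∀ h ∈ H, ∀ k ∈ K, h * k * h⁻¹ ∈ K}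
    (hd : ∀ x, x ∈ K → x ∈ H → x = 1) : Nat.card (prodSub K H hn) = Nat.card K * Nat.card H := by
  rw [← Nat.card_prod]
  symm
  apply Nat.card_eq_of_bijective (fun p : K × H => (⟨p.1.1 * p.2.1, p.1.1, p.1.2, p.2.1, p.2.2, rfl⟩ : prodSub K H hn))
  constructor
  · rintro ⟨⟨k, hk⟩, ⟨h, hh⟩⟩ ⟨⟨k', hk'⟩, ⟨h', hh'⟩⟩ heq
    have h1 : k * h = k' * h' := congrArg Subtype.val heq
    have h2 : k'⁻¹ * k = h' * h⁻¹ := by
      rw [inv_mul_eq_iff_eq_mul, ← mul_assoc, ← h1, mul_inv_cancel_right]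
    have h3 := hd (k'⁻¹ * k) (K.mul_mem (K.inv_mem hk') hk) (by rw [h2]; exact H.mul_mem hh' (H.inv_mem hh))
    have h4 : k = k' := (inv_mul_eq_one.mp h3).symm
    subst h4
    have h5 : h = h' := mul_left_cancel h1
    subst h5
    rfl
  · rintro ⟨x, k, hk, h, hh, rfl⟩
    exact ⟨(⟨k, hk⟩, ⟨h, hh⟩), rfl⟩

variable {a b c : G}

theorem cab (h : IsCPair a b) (hca : c * a * c⁻¹ = b) (hcb : c * b * c⁻¹ = a * b) : c * (a * b) * c⁻¹ = a := by
  calc c * (a * b) * c⁻¹ = (c * a * c⁻¹) * (c * b * c⁻¹) := by group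
    _ = b * (a * b) := by rw [hca, hcb]
    _ = a * (b * b) := by rw [← mul_assoc, ← h.ab, mul_assoc]
    _ = a := by rw [h.bb, mul_one]

theorem orderOf_c (h : IsCPair a b) (hca : c * a * c⁻¹ = b) (hc : c * c * c = 1) : orderOf c = 3 := by
  have : Fact (Nat.Prime 3) := ⟨Nat.prime_three⟩
  apply orderOf_eq_prime
  · rw [pow_succ, sq]; exact hc
  · rintro rfl
    apply h.ne
    rw [← hca]; group

theorem zpowers_c (h : IsCPair a b) (hca : c * a * c⁻¹ = b) (hc : c * c * c = 1) {x : G} (hx : x ∈ Subgroup.zpowers c) :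
    x = 1 ∨ x = c ∨ x = c⁻¹ := by
  have ho := orderOf_c h hca hc
  obtain ⟨k, hk⟩ := hx
  have hk : c ^ k = x := hk
  rw [← zpow_mod_orderOf, ho] at hk
  have h1 : k % 3 = 0 ∨ k % 3 = 1 ∨ k % 3 = 2 := by omega
  rcases h1 with h1 | h1 | h1
  · left; rw [← hk]; push_cast; rw [h1, zpow_zero]
  · right; left; rw [← hk]; push_cast; rw [h1, zpow_one]
  · right; right; rw [← hk]; push_cast; rw [h1]
    rw [eq_inv_iff_mul_eq_one]
    have : c ^ (2 : ℤ) = c * c := zpow_two c
    rw [this]; exact hc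

/-- non-trivial elements of `⟨c⟩` do not commute with non-trivial elements of the four-group -/
theorem no_comm (h : IsCPair a b) (hca : c * a * c⁻¹ = b) (hcb : c * b * c⁻¹ = a * b) (hc : c * c * c = 1)
    {x v : G} (hx : x ∈ Subgroup.zpowers c) (hx1 : x ≠ 1) (hv : v ∈ klein h) (hv1 : v ≠ 1) (hxv : x * v = v * x) : False := by
  have hcab := cab h hca hcb
  have hcv : c * v * c⁻¹ = v := by
    rcases zpowers_c h hca hc hx with h1 | h1 | h1
    · exact absurd h1 hx1
    · rw [h1] at hxv; rw [hxv]; group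
    · rw [h1] at hxv
      calc c * v * c⁻¹ = c * (v * c⁻¹) := by group
        _ = c * (c⁻¹ * v) := by rw [hxv]
        _ = v := by group
  have ha : a ≠ a * b := fun h' => h.b1 (mul_eq_left.mp h'.symm)
  have hb : b ≠ a * b := fun h' => h.a1 (mul_eq_right.mp h'.symm)
  rcases (mem_klein h v).mp hv with rfl | rfl | rfl | rfl
  · exact hv1 rfl
  · rw [hca] at hcv; exact h.ne hcv.symm
  · rw [hcb] at hcv; exact hb hcv.symm
  · rw [hcab] at hcv; exact ha hcv

theorem klein_norm (h : IsCPair a b) (hca : c * a * c⁻¹ = b) (hcb : c * b * c⁻¹ = a * b) :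
    ∀ k ∈ klein h, c * k * c⁻¹ ∈ klein h := by
  have hcab := cab h hca hcb
  intro k hk
  rw [mem_klein] at hk ⊢
  rcases hk with rfl | rfl | rfl | rfl
  · left; group
  · right; right; left; exact hca
  · right; right; right; exact hcb
  · right; left; exact hcab

theorem klein_norm_zpowers (h : IsCPair a b) (hca : c * a * c⁻¹ = b) (hcb : c * b * c⁻¹ = a * b) (hc : c * c * c = 1) :
    ∀ x ∈ Subgroup.zpowers c, ∀ k ∈ klein h, x * k * x⁻¹ ∈ klein h := by
  intro x hx k hk
  rcases zpowers_c h hca hc hx with h1 | h1 | h1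
  · rw [h1]; simpa using hk
  · rw [h1]; exact klein_norm h hca hcb k hk
  · rw [h1]
    have h2 := klein_norm h hca hcb _ (klein_norm h hca hcb k hk)
    have hcc : c * c = c⁻¹ := eq_inv_of_mul_eq_one_left hc
    have h3 : c * (c * k * c⁻¹) * c⁻¹ = c⁻¹ * k * c⁻¹⁻¹ := by
      calc c * (c * k * c⁻¹) * c⁻¹ = (c * c) * k * (c * c)⁻¹ := by group
        _ = _ := by rw [hcc]
    rw [← h3]; exact h2

theorem klein_inf_zpowers (h : IsCPair a b) (hca : c * a * c⁻¹ = b) (hcb : c * b * c⁻¹ = a * b) (hc : c * c * c = 1)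
    (x : G) (hx : x ∈ klein h) (hx' : x ∈ Subgroup.zpowers c) : x = 1 := by
  by_contra hx1
  exact no_comm h hca hcb hc hx' hx1 hx hx1 rfl

theorem fac4 : Nat.factorial 4 = 24 := rfl

/-- recognition of `A_4`. -/
theorem a4_rec [Finite G] (hG : Nat.card G = 12) (h : IsCPair a b) (hca : c * a * c⁻¹ = b) (hcb : c * b * c⁻¹ = a * b)
    (hc : c * c * c = 1) : Nonempty (G ≃* alternatingGroup (Fin 4)) := by
  have ho := orderOf_c h hca hc
  have hP : Nat.card (Subgroup.zpowers c) = 3 := by rw [Nat.card_zpowers, ho]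
  have hX : Nat.card (G ⧸ Subgroup.zpowers c) = 4 := by
    have h1 := (Subgroup.zpowers c).card_eq_card_quotient_mul_card_subgroup
    rw [hP, hG] at h1
    omega
  apply SmallIso.alt_of_hom (by norm_num) (X := G ⧸ Subgroup.zpowers c) hX (MulAction.toPermHom G (G ⧸ Subgroup.zpowers c))
  · rw [← MonoidHom.ker_eq_bot_iff, ← Subgroup.normalCore_eq_ker, eq_bot_iff]
    intro x hx
    rw [Subgroup.mem_bot]
    by_contra hx1
    have hx2 : x ∈ Subgroup.zpowers c := Subgroup.normalCore_le _ hx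
    have hx3 : a⁻¹ * x * a⁻¹⁻¹ ∈ (Subgroup.zpowers c).normalCore := Subgroup.Normal.conj_mem inferInstance x hx a⁻¹
    have hx4 : a⁻¹ * x * a ∈ Subgroup.zpowers c := by
      have := Subgroup.normalCore_le _ hx3
      rwa [inv_inv] at this
    -- commutator in the intersection
    have h5 : a⁻¹ * x * a * x⁻¹ ∈ Subgroup.zpowers c := Subgroup.mul_mem _ hx4 (Subgroup.inv_mem _ hx2)
    have h6 : a⁻¹ * x * a * x⁻¹ ∈ klein h := by
      have h7 : x * a * x⁻¹ ∈ klein h := klein_norm_zpowers h hca hcb hc x hx2 a (Or.inr (Or.inl rfl))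
      have h8 : a⁻¹ * (x * a * x⁻¹) ∈ klein h := Subgroup.mul_mem _ (Subgroup.inv_mem _ (Or.inr (Or.inl rfl))) h7
      have : a⁻¹ * x * a * x⁻¹ = a⁻¹ * (x * a * x⁻¹) := by group
      rw [this]; exact h8
    have h9 := klein_inf_zpowers h hca hcb hc _ h6 h5
    have h10 : x * a = a * x := by
      have := mul_inv_eq_one.mp h9
      calc x * a = a * (a⁻¹ * x * a) := by group
        _ = a * x := by rw [this]
    exact no_comm h hca hcb hc hx2 hx1 (Or.inr (Or.inl rfl)) h.a1 h10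
  · rw [hG]; rfl

/-- `A_4` inside a group -/
theorem exists_a4 [Finite G] (h : IsCPair a b) (hca : c * a * c⁻¹ = b) (hcb : c * b * c⁻¹ = a * b)
    (hc : c * c * c = 1) : ∃ H : Subgroup G, a ∈ H ∧ b ∈ H ∧ c ∈ H ∧ Nat.card H = 12 ∧
      (∀ x, x ∈ H ↔ ∃ k ∈ klein h, ∃ y ∈ Subgroup.zpowers c, x = k * y) ∧ Nonempty (H ≃* alternatingGroup (Fin 4)) := by
  set H := prodSub (klein h) (Subgroup.zpowers c) (klein_norm_zpowers h hca hcb hc) with hH
  have haH : a ∈ H := ⟨a, Or.inr (Or.inl rfl), 1, Subgroup.one_mem _, by simp⟩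
  have hbH : b ∈ H := ⟨b, Or.inr (Or.inr (Or.inl rfl)), 1, Subgroup.one_mem _, by simp⟩
  have hcH : c ∈ H := ⟨1, Subgroup.one_mem _, c, Subgroup.mem_zpowers c, by simp⟩
  have hcard : Nat.card H = 12 := by
    rw [hH, card_prodSub (klein_inf_zpowers h hca hcb hc), card_klein, Nat.card_zpowers, orderOf_c h hca hc]
  refine ⟨H, haH, hbH, hcH, hcard, fun x => Iff.rfl, ?_⟩
  have h' : IsCPair (⟨a, haH⟩ : H) ⟨b, hbH⟩ :=
    ⟨Subtype.ext h.aa, Subtype.ext h.bb, Subtype.ext h.ab, fun h' => h.a1 (congrArg Subtype.val h'),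
      fun h' => h.b1 (congrArg Subtype.val h'), fun h' => h.ne (congrArg Subtype.val h')⟩
  exact a4_rec (c := ⟨c, hcH⟩) hcard h' (Subtype.ext hca) (Subtype.ext hcb) (Subtype.ext hc)

/-- recognition of `S_4`. -/
theorem s4_rec [Finite G] (hG : Nat.card G = 24) (h : IsCPair a b) (hca : c * a * c⁻¹ = b) (hcb : c * b * c⁻¹ = a * b)
    (hc : c * c * c = 1) {r : G} (hra : r * a * r⁻¹ = b) (hrb : r * b * r⁻¹ = a) : Nonempty (G ≃* Equiv.Perm (Fin 4)) := by
  classical
  have hcab := cab h hca hcb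
  have ha : a ≠ a * b := fun h' => h.b1 (mul_eq_left.mp h'.symm)
  have hb : b ≠ a * b := fun h' => h.a1 (mul_eq_right.mp h'.symm)
  have hrab : r * (a * b) * r⁻¹ = a * b := by
    calc r * (a * b) * r⁻¹ = (r * a * r⁻¹) * (r * b * r⁻¹) := by group
      _ = a * b := by rw [hra, hrb, h.ab]
  -- orbit of (a,b)
  let S : Set (G × G) := {p | ∃ g : G, (g * a * g⁻¹, g * b * g⁻¹) = p}
  have horb := card_eq_card_orbit_mul (G := ConjAct G) (X := G × G) (a, b) S (by
    intro y
    constructor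
    · rintro ⟨g, hg⟩; exact ⟨ConjAct.toConjAct g, by rw [← hg]; rfl⟩
    · rintro ⟨g, hg⟩; exact ⟨ConjAct.ofConjAct g, by rw [← hg]; rfl⟩)
  have e1 : Nat.card (ConjAct G) = 24 := hG
  have hfin : Finite (ConjAct G) := inferInstanceAs (Finite G)
  rw [e1] at horb
  -- six pairs
  let T : Set (G × G) := {(a, b), (b, a), (b, a * b), (a * b, b), (a * b, a), (a, a * b)}
  have hconj : ∀ g k : G, ∀ p : G × G, (g * a * g⁻¹, g * b * g⁻¹) = p → (k * p.1 * k⁻¹, k * p.2 * k⁻¹) ∈ S := by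
    rintro g k _ rfl
    refine ⟨k * g, ?_⟩
    simp only [Prod.mk.injEq]
    constructor <;> group
  have hTS : T ⊆ S := by
    have s1 : (a, b) ∈ S := ⟨1, by simp⟩
    have s2 : (b, a) ∈ S := ⟨r, by rw [hra, hrb]⟩
    have s3 : (b, a * b) ∈ S := ⟨c, by rw [hca, hcb]⟩
    have s4 : (a, a * b) ∈ S := by
      obtain ⟨g, hg⟩ := s3
      have := hconj g r _ hg
      simp only at this
      rwa [hrb, hrab] at this
    have s5 : (a * b, a) ∈ S := by
      obtain ⟨g, hg⟩ := s3
      have := hconj g c _ hg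
      simp only at this
      rwa [hcb, hcab] at this
    have s6 : (a * b, b) ∈ S := by
      obtain ⟨g, hg⟩ := s5
      have := hconj g r _ hg
      simp only at this
      rwa [hrab, hra] at this
    rintro p (rfl | rfl | rfl | rfl | rfl | rfl)
    · exact s1
    · exact s2
    · exact s3
    · exact s6
    · exact s5
    · exact s4
  have hTcard : T.ncard = 6 := by
    have h1 := h.ne
    have hT : T = (({(a, b), (b, a), (b, a * b), (a * b, b), (a * b, a), (a, a * b)} : Finset (G × G)) : Set (G × G)) := by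
      simp [T]
    rw [hT, Set.ncard_coe_finset]
    rw [Finset.card_insert_of_notMem, Finset.card_insert_of_notMem, Finset.card_insert_of_notMem,
      Finset.card_insert_of_notMem, Finset.card_insert_of_notMem, Finset.card_singleton] <;>
    simp [h1, h1.symm, ha, hb, ha.symm, hb.symm, h.a1, h.b1]
  have hScard : 6 ≤ Nat.card S := by
    have : Nat.card S = S.ncard := rfl
    rw [this, ← hTcard]
    exact Set.ncard_le_ncard hTS (Set.toFinite _)
  -- the stabiliser contains the four-group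
  let K := klein h
  have hKst : ∀ k ∈ K, k * a * k⁻¹ = a ∧ k * b * k⁻¹ = b := by
    intro k hk
    rcases (mem_klein h k).mp hk with rfl | rfl | rfl | rfl
    · constructor <;> group
    · exact ⟨by group, by rw [h.ab]; group⟩
    · exact ⟨by rw [← h.ab]; group, by group⟩
    · constructor
      · calc a * b * a * (a * b)⁻¹ = a * (b * a) * b⁻¹ * a⁻¹ := by group
          _ = a * (a * b) * b⁻¹ * a⁻¹ := by rw [h.ab]
          _ = a := by group
      · calc a * b * b * (a * b)⁻¹ = (a * b) * a⁻¹ := by group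
          _ = (b * a) * a⁻¹ := by rw [h.ab]
          _ = b := by group
  have hst : ∀ g : ConjAct G, g ∈ MulAction.stabilizer (ConjAct G) ((a, b) : G × G) ↔
      (ConjAct.ofConjAct g * a * (ConjAct.ofConjAct g)⁻¹ = a ∧ ConjAct.ofConjAct g * b * (ConjAct.ofConjAct g)⁻¹ = b) := by
    intro g
    rw [MulAction.mem_stabilizer_iff]
    constructor
    · intro h1; exact ⟨congrArg Prod.fst h1, congrArg Prod.snd h1⟩
    · rintro ⟨h1, h2⟩; exact Prod.ext h1 h2
  let K' : Subgroup (ConjAct G) := K.map (ConjAct.toConjAct (G := G)).toMonoidHom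
  have hK'card : Nat.card K' = 4 := by
    rw [Subgroup.card_map_of_injective (ConjAct.toConjAct (G := G)).injective]
    exact card_klein h
  have hK'le : K' ≤ MulAction.stabilizer (ConjAct G) ((a, b) : G × G) := by
    rintro _ ⟨k, hk, rfl⟩
    rw [hst]
    exact hKst k hk
  have hle4 : Nat.card (MulAction.stabilizer (ConjAct G) ((a, b) : G × G)) ≤ 4 := by
    by_contra hcon
    push Not at hcon
    have : 6 * 5 ≤ Nat.card S * Nat.card (MulAction.stabilizer (ConjAct G) ((a, b) : G × G)) := Nat.mul_le_mul hScard hcon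
    omega
  have hK'eq : K' = MulAction.stabilizer (ConjAct G) ((a, b) : G × G) :=
    Subgroup.eq_of_le_of_card_ge hK'le (by rw [hK'card]; exact hle4)
  have hcent : ∀ g : G, g * a = a * g → g * b = b * g → g ∈ K := by
    intro g h1 h2
    have : ConjAct.toConjAct g ∈ K' := by
      rw [hK'eq, hst]
      exact ⟨mul_inv_eq_iff_eq_mul.mpr h1, mul_inv_eq_iff_eq_mul.mpr h2⟩
    obtain ⟨k, hk, hk'⟩ := this
    have : k = g := ConjAct.toConjAct.injective hk'
    rw [← this]; exact hk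
  have hS6 : S = T := by
    symm
    apply Set.eq_of_subset_of_ncard_le hTS _ (Set.toFinite _)
    rw [hTcard]
    rw [← hK'eq, hK'card] at horb
    have : Nat.card S = S.ncard := rfl
    rw [this] at horb
    omega
  have hKn : ∀ g : G, ∀ k ∈ K, g * k * g⁻¹ ∈ K := by
    intro g
    have h1 : (g * a * g⁻¹, g * b * g⁻¹) ∈ T := by rw [← hS6]; exact ⟨g, rfl⟩
    have h2 : g * a * g⁻¹ ∈ K ∧ g * b * g⁻¹ ∈ K := by
      have hmem : ∀ p ∈ T, p.1 ∈ K ∧ p.2 ∈ K := by
        rintro p (rfl | rfl | rfl | rfl | rfl | rfl) <;>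
        exact ⟨by first | exact Or.inr (Or.inl rfl) | exact Or.inr (Or.inr (Or.inl rfl)) | exact Or.inr (Or.inr (Or.inr rfl)),
          by first | exact Or.inr (Or.inl rfl) | exact Or.inr (Or.inr (Or.inl rfl)) | exact Or.inr (Or.inr (Or.inr rfl))⟩
      exact hmem _ h1
    intro k hk
    rcases (mem_klein h k).mp hk with rfl | rfl | rfl | rfl
    · rw [mul_one, mul_inv_cancel]; exact K.one_mem
    · exact h2.1
    · exact h2.2
    · have : g * (a * b) * g⁻¹ = (g * a * g⁻¹) * (g * b * g⁻¹) := by group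
      rw [this]; exact K.mul_mem h2.1 h2.2
  -- Sylow 3-subgroups
  have : Fact (Nat.Prime 3) := ⟨Nat.prime_three⟩
  have ho := orderOf_c h hca hc
  have hcardP : ∀ P : Sylow 3 G, Nat.card P = 3 := by
    intro P
    rw [Sylow.card_eq_multiplicity, hG]
    have h3 : (24 : ℕ) = 2 ^ 3 * 3 := by norm_num
    rw [h3, Nat.factorization_mul (by norm_num) (by norm_num), Nat.factorization_pow]
    simp [Nat.prime_two.factorization, Nat.prime_three.factorization]
  have hPz : IsPGroup 3 (Subgroup.zpowers c) := IsPGroup.of_card (n := 1) (by rw [Nat.card_zpowers, ho]; norm_num)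
  obtain ⟨P, hP⟩ := hPz.exists_le_sylow
  have hPeq : Subgroup.zpowers c = P := Subgroup.eq_of_le_of_card_ge hP (by rw [hcardP, Nat.card_zpowers, ho])
  have hn1 : Nat.card (Sylow 3 G) ≠ 1 := by
    intro h1
    have hsub := (Nat.card_eq_one_iff_unique.mp h1).1
    have hPn : ((P : Subgroup G)).Normal := by
      have h2 : P.Normal := Sylow.normal_of_subsingleton P
      exact h2
    have hx3 : a⁻¹ * c * a⁻¹⁻¹ ∈ (P : Subgroup G) := hPn.conj_mem c (hP (Subgroup.mem_zpowers c)) a⁻¹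
    rw [← hPeq, inv_inv] at hx3
    have h5 : a⁻¹ * c * a * c⁻¹ ∈ Subgroup.zpowers c := Subgroup.mul_mem _ hx3 (Subgroup.inv_mem _ (Subgroup.mem_zpowers c))
    have h6 : a⁻¹ * c * a * c⁻¹ ∈ klein h := by
      have : a⁻¹ * c * a * c⁻¹ = a⁻¹ * (c * a * c⁻¹) := by group
      rw [this]
      exact Subgroup.mul_mem _ (Subgroup.inv_mem _ (Or.inr (Or.inl rfl))) (hKn c a (Or.inr (Or.inl rfl)))
    have h9 := klein_inf_zpowers h hca hcb hc _ h6 h5
    have h10 : c * a = a * c := by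
      have := mul_inv_eq_one.mp h9
      calc c * a = a * (a⁻¹ * c * a) := by group
        _ = a * c := by rw [this]
    have hc1 : c ≠ 1 := by rintro rfl; simp at ho
    exact no_comm h hca hcb hc (Subgroup.mem_zpowers c) hc1 (Or.inr (Or.inl rfl)) h.a1 h10
  have hn4 : Nat.card (Sylow 3 G) = 4 := by
    have h1 := card_sylow_modEq_one 3 G
    have h2 := P.card_dvd_index
    have h3 : (P : Subgroup G).index = 8 := by
      have := (P : Subgroup G).index_mul_card
      rw [hcardP, hG] at this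
      omega
    rw [h3] at h2
    have h4 : Nat.card (Sylow 3 G) ≤ 8 := Nat.le_of_dvd (by norm_num) h2
    have h5 : Nat.card (Sylow 3 G) % 3 = 1 := h1
    interval_cases (Nat.card (Sylow 3 G)) <;> omega
  apply SmallIso.perm_of_hom (X := Sylow 3 G) hn4 (MulAction.toPermHom G (Sylow 3 G))
  · rw [← MonoidHom.ker_eq_bot_iff, eq_bot_iff]
    intro m hm
    rw [Subgroup.mem_bot]
    set M := (MulAction.toPermHom G (Sylow 3 G)).ker with hM
    have hMn : ∀ m ∈ M, m * c * m⁻¹ ∈ Subgroup.zpowers c := by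
      intro m hm
      have h1 : m • P = P := by
        have := congrArg (fun f : Equiv.Perm (Sylow 3 G) => f P) (MonoidHom.mem_ker.mp hm)
        exact this
      rw [Sylow.smul_eq_iff_mem_normalizer] at h1
      have := (Subgroup.mem_normalizer_iff.mp h1 c).mp (hP (Subgroup.mem_zpowers c))
      rw [hPeq]; exact this
    have hMK : ∀ x ∈ M, x ∈ K → x = 1 := by
      intro x hxM hxK
      by_contra hx1
      have h2 := hMn x hxM
      have h5 : x * c * x⁻¹ * c⁻¹ ∈ Subgroup.zpowers c := Subgroup.mul_mem _ h2 (Subgroup.inv_mem _ (Subgroup.mem_zpowers c))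
      have h6 : x * c * x⁻¹ * c⁻¹ ∈ klein h := by
        have : x * c * x⁻¹ * c⁻¹ = x * (c * x⁻¹ * c⁻¹) := by group
        rw [this]
        exact Subgroup.mul_mem _ hxK (hKn c _ (K.inv_mem hxK))
      have h9 := klein_inf_zpowers h hca hcb hc _ h6 h5
      have h10 : c * x = x * c := by
        have := mul_inv_eq_one.mp h9
        exact (mul_inv_eq_iff_eq_mul.mp this).symm
      have hc1 : c ≠ 1 := by rintro rfl; simp at ho
      exact no_comm h hca hcb hc (Subgroup.mem_zpowers c) hc1 hxK hx1 h10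
    have hcom : ∀ k ∈ K, m * k = k * m := by
      intro k hk
      have h1 : m * k * m⁻¹ * k⁻¹ ∈ K := K.mul_mem (hKn m k hk) (K.inv_mem hk)
      have h2 : m * k * m⁻¹ * k⁻¹ ∈ M := by
        have : m * k * m⁻¹ * k⁻¹ = m * (k * m⁻¹ * k⁻¹) := by group
        rw [this]
        exact M.mul_mem hm ((MonoidHom.normal_ker _).conj_mem _ (M.inv_mem hm) k)
      have h3 := hMK _ h2 h1
      have := mul_inv_eq_one.mp h3
      exact mul_inv_eq_iff_eq_mul.mp this
    exact hMK m hm (hcent m (hcom a (Or.inr (Or.inl rfl))) (hcom b (Or.inr (Or.inr (Or.inl rfl)))))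
  · rw [hG]; rfl

end Cfsg.Agent.H5.Rec
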