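import Mathlib
import Cfsg.Agent.H21_O168
import Cfsg.Agent.H4_Dih
import Cfsg.Agent.H4_Count
import Cfsg.Agent.H3_D8
import Cfsg.Agent.H5_Rec

/-!
# Simple groups of order 168: local structure
-/

set_option autoImplicit false
open scoped Pointwise commutatorElement

namespace Cfsg.Agent.H21.O168
open MulAction Subgroup

variable {G : Type*} [Group G] [Finite G] [IsSimpleGroup G]

theorem gens2 (h : Nat.card G = 168) : ∃ a b c d : G, orderOf a = 4 ∧ b * b = 1 ∧
    b * a * b⁻¹ = a⁻¹ ∧ b ∉ Subgroup.zpowers a ∧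
    c * c * c = 1 ∧ c * (a * a) * c⁻¹ = b ∧ c * b * c⁻¹ = (a * a) * b ∧
    d * d * d = 1 ∧ d * (a * a) * d⁻¹ = a * b ∧ d * (a * b) * d⁻¹ = (a * a) * (a * b) := by
  obtain ⟨ψ, x, y, t, hinj, hX, hY, hT, -⟩ := std h
  have ha4 : orderOf (x * x * t * x) = 4 := by
    have : orderOf (x * x * t * x) = 2 ^ (1 + 1) := by
      apply orderOf_eq_prime_pow
      · intro hh
        exact absurd (congrArg ψ hh) (by simp only [map_mul, map_pow, map_one, hX, hY, hT]; decide +kernel)
      · apply hinj
        simp only [map_mul, map_pow, map_one, hX, hY, hT]; decide +kernel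
    exact this
  refine ⟨x * x * t * x, t, x * y * y * x, y * x * y * x, ha4, ?_, ?_, ?_, ?_, ?_, ?_, ?_, ?_, ?_⟩
  · apply hinj; simp only [map_mul, map_pow, map_one, map_inv, hX, hY, hT]; decide +kernel
  · apply hinj; simp only [map_mul, map_pow, map_one, map_inv, hX, hY, hT]; decide +kernel
  · intro hh
    obtain ⟨k, hk, hk2⟩ := exists_pow_lt hh
    rw [ha4] at hk
    have h1 := congrArg ψ hk2
    simp only [map_mul, map_pow, hX, hT] at h1
    revert h1
    have : ∀ k < 4, ¬ (X * X * T * X) ^ k = T := by decide +kernel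
    exact this k hk
  · apply hinj; simp only [map_mul, map_pow, map_one, map_inv, hX, hY, hT]; decide +kernel
  · apply hinj; simp only [map_mul, map_pow, map_one, map_inv, hX, hY, hT]; decide +kernel
  · apply hinj; simp only [map_mul, map_pow, map_one, map_inv, hX, hY, hT]; decide +kernel
  · apply hinj; simp only [map_mul, map_pow, map_one, map_inv, hX, hY, hT]; decide +kernel
  · apply hinj; simp only [map_mul, map_pow, map_one, map_inv, hX, hY, hT]; decide +kernel
  · apply hinj; simp only [map_mul, map_pow, map_one, map_inv, hX, hY, hT]; decide +kernel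

omit [IsSimpleGroup G] in
/-- a 3-element acting on a group of order 8 has a fixed point -/
theorem exists_fixed {S : Subgroup G} (hS : Nat.card S = 8) {y : G} (hy : orderOf y = 3)
    (hN : y ∈ Subgroup.normalizer (S : Set G)) : ∃ s ∈ S, s ≠ 1 ∧ s * y = y * s := by
  let Z := Subgroup.zpowers (⟨y, hN⟩ : Subgroup.normalizer (S : Set G))
  let act : MulAction Z S := MulAction.compHom S ((Subgroup.normalizerMonoidHom S).comp Z.subtype)
  have hZ : IsPGroup 3 Z := IsPGroup.of_card (n := 1) (by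
    rw [Nat.card_zpowers, pow_one, ← hy, ← Subgroup.orderOf_coe])
  have h1 := hZ.card_modEq_card_fixedPoints S
  rw [hS] at h1
  have hone : (1 : S) ∈ MulAction.fixedPoints Z S := fun z => map_one (Subgroup.normalizerMonoidHom S z.1)
  by_contra hcon
  push Not at hcon
  have h2 : Nat.card (MulAction.fixedPoints Z S) = 1 := by
    rw [Nat.card_eq_one_iff_unique]
    refine ⟨⟨?_⟩, ⟨⟨1, hone⟩⟩⟩
    have h3 : ∀ a : MulAction.fixedPoints Z S, (a : S) = 1 := by
      intro a
      by_contra h4
      have h5 := a.2 ⟨⟨y, hN⟩, Subgroup.mem_zpowers _⟩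
      have h6 : y * ((a : S) : G) * y⁻¹ = ((a : S) : G) := congrArg Subtype.val h5
      exact hcon _ (a : S).2 (fun h7 => h4 (Subtype.ext h7)) (by
        conv_lhs => rw [← h6]
        group)
    intro a b
    apply Subtype.ext
    rw [h3 a, h3 b]
  rw [h2] at h1
  unfold Nat.ModEq at h1
  norm_num at h1

theorem n2 (h : Nat.card G = 168) : Nat.card (Sylow 2 G) = 21 := by
  obtain ⟨Q⟩ : Nonempty (Sylow 2 G) := inferInstance
  have hQ := card_P2 h Q
  have h2 := Q.card_dvd_index
  have h3 := (Q : Subgroup G).card_mul_index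
  rw [hQ, h] at h3
  have h4 : (Q : Subgroup G).index = 21 := by omega
  rw [h4] at h2
  have h5 := syl_ne_one Q (by omega) (by omega)
  have h6 : 7 ≤ Nat.card (Sylow 2 G) := by
    rw [Sylow.card_eq_index_normalizer Q]
    apply index_ge h
    intro htop
    apply h5
    rw [Sylow.card_eq_index_normalizer Q, htop, Subgroup.index_top]
  have h7 : Nat.card (Sylow 2 G) ≠ 7 := by
    intro h7
    have h8 := card_stab Q
    rw [h7, h] at h8
    obtain ⟨y, hy⟩ := exists_prime_orderOf_dvd_card' (G := Subgroup.normalizer ((Q : Subgroup G) : Set G)) 3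
      (by omega)
    have hy3 : orderOf (y : G) = 3 := by rw [Subgroup.orderOf_coe, hy]
    obtain ⟨s, hs, hs1, hsy⟩ := exists_fixed hQ hy3 y.2
    have h9 := comm3 h hy3 hsy
    have h10 : orderOf s ∣ 3 := by rw [← hy3]; exact orderOf_dvd_of_mem_zpowers h9
    have h11 : orderOf s ∣ 8 := by rw [← hQ]; exact Subgroup.orderOf_dvd_natCard _ hs
    have h12 : orderOf s ∣ 1 := by
      have := Nat.dvd_gcd h10 h11
      simpa using this
    exact hs1 (orderOf_eq_one_iff.mp (Nat.dvd_one.mp h12))
  have h8 := Nat.le_of_dvd (by norm_num) h2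
  generalize Nat.card (Sylow 2 G) = n at *
  interval_cases n <;> omega

theorem normalizer_eq (h : Nat.card G = 168) (S : Sylow 2 G) :
    Subgroup.normalizer ((S : Subgroup G) : Set G) = S := by
  symm
  apply Subgroup.eq_of_le_of_card_ge Subgroup.le_normalizer
  have h1 := card_stab S
  rw [n2 h, h] at h1
  rw [card_P2 h S]
  omega

/-- the orders of the elements: first step -/
theorem dvd_three (h : Nat.card G = 168) {g : G} (h3 : 3 ∣ orderOf g) : orderOf g ∣ 3 := by
  obtain ⟨k, hk⟩ := h3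
  have hpos := orderOf_pos g
  have hk0 : k ≠ 0 := by rintro rfl; omega
  have h1 : orderOf (g ^ k) = 3 := by
    rw [orderOf_pow, hk, Nat.gcd_mul_left_left, Nat.mul_div_cancel _ (Nat.pos_of_ne_zero hk0)]
  have h2 := comm3 h h1 (g := g) (by rw [← pow_succ, ← pow_succ'])
  rw [← h1]
  exact orderOf_dvd_of_mem_zpowers h2

theorem dvd_seven (h : Nat.card G = 168) {g : G} (h3 : 7 ∣ orderOf g) : orderOf g ∣ 7 := by
  obtain ⟨k, hk⟩ := h3
  have hpos := orderOf_pos g
  have hk0 : k ≠ 0 := by rintro rfl; omega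
  have h1 : orderOf (g ^ k) = 7 := by
    rw [orderOf_pow, hk, Nat.gcd_mul_left_left, Nat.mul_div_cancel _ (Nat.pos_of_ne_zero hk0)]
  have h2 := comm7 h h1 (g := g) (by rw [← pow_succ, ← pow_succ'])
  rw [← h1]
  exact orderOf_dvd_of_mem_zpowers h2

theorem dvd_eight (h : Nat.card G = 168) {g : G} (h3 : ¬ 3 ∣ orderOf g) (h7 : ¬ 7 ∣ orderOf g) : orderOf g ∣ 8 := by
  have h1 : orderOf g ∣ 168 := by rw [← h]; exact orderOf_dvd_natCard g
  have h2 : Nat.Coprime (orderOf g) 21 := by
    have h4 : Nat.Coprime (orderOf g) 3 := ((Nat.Prime.coprime_iff_not_dvd (by norm_num)).mpr h3).symm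
    have h5 : Nat.Coprime (orderOf g) 7 := ((Nat.Prime.coprime_iff_not_dvd (by norm_num)).mpr h7).symm
    exact (Nat.Coprime.mul_right h4 h5)
  exact h2.dvd_of_dvd_mul_right (show orderOf g ∣ 8 * 21 by exact h1)

theorem cent_central (h : Nat.card G = 168) (S : Sylow 2 G) {z : G} (hz : z ∈ (S : Subgroup G)) (hz1 : z ≠ 1)
    (hc : ∀ s ∈ (S : Subgroup G), s * z = z * s) : Subgroup.centralizer ({z} : Set G) = S := by
  symm
  have hle : (S : Subgroup G) ≤ Subgroup.centralizer ({z} : Set G) := by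
    intro s hs
    rw [Subgroup.mem_centralizer_singleton_iff]
    exact hc s hs
  apply Subgroup.eq_of_le_of_card_ge hle
  have hz8 : orderOf z ∣ 8 := by rw [← card_P2 h S]; exact Subgroup.orderOf_dvd_natCard _ hz
  have key : ∀ p : ℕ, p.Prime → (p = 3 ∨ p = 7) → ¬ p ∣ Nat.card (Subgroup.centralizer ({z} : Set G)) := by
    intro p hp hp37 hdvd
    haveI : Fact p.Prime := ⟨hp⟩
    obtain ⟨y, hy⟩ := exists_prime_orderOf_dvd_card' p hdvd
    have hyp : orderOf (y : G) = p := by rw [Subgroup.orderOf_coe, hy]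
    have hyz := Subgroup.mem_centralizer_singleton_iff.mp y.2
    have h1 : z ∈ Subgroup.zpowers (y : G) := by
      rcases hp37 with rfl | rfl
      · exact comm3 h hyp hyz.symm
      · exact comm7 h hyp hyz.symm
    have h2 : orderOf z ∣ p := by rw [← hyp]; exact orderOf_dvd_of_mem_zpowers h1
    have h3 : orderOf z ∣ 1 := by
      have := Nat.dvd_gcd h2 hz8
      rcases hp37 with rfl | rfl <;> simpa using this
    exact hz1 (orderOf_eq_one_iff.mp (Nat.dvd_one.mp h3))
  have h1 : Nat.card (Subgroup.centralizer ({z} : Set G)) ∣ 168 := by rw [← h]; exact Subgroup.card_subgroup_dvd_card _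
  have h2 : Nat.Coprime (Nat.card (Subgroup.centralizer ({z} : Set G))) 21 := by
    have h4 := ((Nat.Prime.coprime_iff_not_dvd (by norm_num)).mpr (key 3 (by norm_num) (Or.inl rfl))).symm
    have h5 := ((Nat.Prime.coprime_iff_not_dvd (by norm_num)).mpr (key 7 (by norm_num) (Or.inr rfl))).symm
    exact (Nat.Coprime.mul_right h4 h5)
  have h3 := h2.dvd_of_dvd_mul_right (show Nat.card (Subgroup.centralizer ({z} : Set G)) ∣ 8 * 21 by exact h1)
  rw [card_P2 h S]
  exact Nat.le_of_dvd (by norm_num) h3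

theorem sylow_dih (h : Nat.card G = 168) (S : Sylow 2 G) : Nonempty ((S : Subgroup G) ≃* DihedralGroup 4) := by
  obtain ⟨a, b, c, d, ha, hb, hba, hbz, -⟩ := gens2 h
  have e := H4.Dih.dihEquiv 4 b a ha hb hba hbz
  have hcard : Nat.card (Subgroup.closure {b, a}) = 8 := by
    rw [← Nat.card_congr e.toEquiv, DihedralGroup.nat_card]
  have hpg : IsPGroup 2 (Subgroup.closure {b, a}) := IsPGroup.of_card (n := 3) (by rw [hcard]; norm_num)
  obtain ⟨Q, hQ⟩ := hpg.exists_le_sylow
  have hQe : Subgroup.closure {b, a} = (Q : Subgroup G) :=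
    Subgroup.eq_of_le_of_card_ge hQ (by rw [hcard, card_P2 h Q])
  exact ⟨(Sylow.equiv S Q).trans ((MulEquiv.subgroupCongr hQe.symm).trans e.symm)⟩

theorem pow_four (h : Nat.card G = 168) {g : G} (h3 : ¬ 3 ∣ orderOf g) (h7 : ¬ 7 ∣ orderOf g) : g ^ 4 = 1 := by
  have h1 := dvd_eight h h3 h7
  have hpg : IsPGroup 2 (Subgroup.zpowers g) := by
    obtain ⟨k, -, hk⟩ := (Nat.dvd_prime_pow Nat.prime_two).mp (show orderOf g ∣ 2 ^ 3 by exact h1)
    exact IsPGroup.of_card (n := k) (by rw [Nat.card_zpowers, hk])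
  obtain ⟨Q, hQ⟩ := hpg.exists_le_sylow
  obtain ⟨e⟩ := sylow_dih h Q
  have h2 : ∀ w : DihedralGroup 4, w ^ 4 = 1 := by decide
  have h4 : (⟨g, hQ (Subgroup.mem_zpowers g)⟩ : (Q : Subgroup G)) ^ 4 = 1 := by
    apply e.injective
    rw [map_pow, h2, map_one]
  exact congrArg Subtype.val h4

theorem orders (h : Nat.card G = 168) (g : G) :
    orderOf g = 1 ∨ orderOf g = 2 ∨ orderOf g = 3 ∨ orderOf g = 4 ∨ orderOf g = 7 := by
  by_cases h3 : 3 ∣ orderOf g
  · have := dvd_three h h3
    have := Nat.dvd_antisymm this h3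
    omega
  · by_cases h7 : 7 ∣ orderOf g
    · have := dvd_seven h h7
      have := Nat.dvd_antisymm this h7
      omega
    · have h1 := orderOf_dvd_of_pow_eq_one (pow_four h h3 h7)
      have h2 := Nat.le_of_dvd (by norm_num) h1
      have h4 := orderOf_pos g
      interval_cases orderOf g <;> omega


theorem perfect (h : Nat.card G = 168) : commutator G = ⊤ := by
  rcases (inferInstance : (commutator G).Normal).eq_bot_or_eq_top with h1 | h1
  · exfalso
    obtain ⟨a, b, c, d, ha, hb, hba, hbz, -⟩ := gens2 h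
    have h2 : b * a = a * b := by
      have h3 : ⁅b, a⁆ ∈ commutator G := Subgroup.commutator_mem_commutator (Subgroup.mem_top b) (Subgroup.mem_top a)
      rw [h1, Subgroup.mem_bot] at h3
      exact commutatorElement_eq_one_iff_mul_comm.mp h3
    rw [h2, mul_inv_cancel_right] at hba
    have h4 : a ^ 2 = 1 := by
      rw [sq]; nth_rewrite 2 [hba]; exact mul_inv_cancel a
    have h5 := orderOf_dvd_of_pow_eq_one h4
    rw [ha] at h5
    norm_num at h5
  · exact h1

theorem conj_inv (h : Nat.card G = 168) {s t : G} (hs : orderOf s = 2) (ht : orderOf t = 2) : IsConj s t := by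
  have key : ∃ z : G, orderOf z = 2 ∧ Nonempty (Subgroup.centralizer ({z} : Set G) ≃* DihedralGroup 4) := by
    obtain ⟨S⟩ : Nonempty (Sylow 2 G) := inferInstance
    obtain ⟨e⟩ := sylow_dih h S
    have hr2 : ∀ w : DihedralGroup 4, w * DihedralGroup.r 2 = DihedralGroup.r 2 * w := by decide
    have hz : orderOf ((e.symm (DihedralGroup.r 2) : (S : Subgroup G)) : G) = 2 := by
      rw [Subgroup.orderOf_coe, MulEquiv.orderOf_eq]
      exact orderOf_eq_prime (by decide) (by decide)
    refine ⟨_, hz, ?_⟩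
    have := cent_central h S (e.symm (DihedralGroup.r 2)).2 (by
      intro h1; rw [h1, orderOf_one] at hz; norm_num at hz) (by
      intro s hs
      have h2 := hr2 (e ⟨s, hs⟩)
      have h3 := congrArg e.symm h2
      rw [map_mul, map_mul, MulEquiv.symm_apply_apply] at h3
      exact congrArg Subtype.val h3)
    rw [this]
    exact ⟨e⟩
  obtain ⟨z, hz, ⟨e⟩⟩ := key
  exact (H3.D8.inv_conj hz e (perfect h) hs).symm.trans (H3.D8.inv_conj hz e (perfect h) ht)

theorem card_cent2 (h : Nat.card G = 168) {z : G} (hz : orderOf z = 2) :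
    Nat.card (Subgroup.centralizer ({z} : Set G)) = 8 := by
  obtain ⟨S⟩ : Nonempty (Sylow 2 G) := inferInstance
  obtain ⟨e⟩ := sylow_dih h S
  have hr2 : ∀ w : DihedralGroup 4, w * DihedralGroup.r 2 = DihedralGroup.r 2 * w := by decide
  obtain ⟨u, hu⟩ : ∃ u : G, u = ((e.symm (DihedralGroup.r 2) : (S : Subgroup G)) : G) := ⟨_, rfl⟩
  have hu2 : orderOf u = 2 := by
    rw [hu, Subgroup.orderOf_coe, MulEquiv.orderOf_eq]
    exact orderOf_eq_prime (by decide) (by decide)
  have h1 := cent_central h S (z := u) (by rw [hu]; exact (e.symm (DihedralGroup.r 2)).2) (by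
      intro h1; rw [h1, orderOf_one] at hu2; norm_num at hu2) (by
      intro s hs
      have h2 := hr2 (e ⟨s, hs⟩)
      have h3 := congrArg e.symm h2
      rw [map_mul, map_mul, MulEquiv.symm_apply_apply] at h3
      rw [hu]
      exact congrArg Subtype.val h3)
  obtain ⟨g, hg⟩ := isConj_iff.mp (conj_inv h hu2 hz)
  have h2 := H4.Count.class_card u
  have h3 := H4.Count.class_card z
  have h4 : Nat.card {x : G // ∃ g, g * u * g⁻¹ = x} = Nat.card {x : G // ∃ g, g * z * g⁻¹ = x} := by
    congr 1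
    apply congrArg (fun s : Set G => (s : Type _))
    ext x
    constructor
    · rintro ⟨k, rfl⟩
      exact ⟨k * g⁻¹, by rw [← hg]; group⟩
    · rintro ⟨k, rfl⟩
      exact ⟨k * g, by rw [← hg]; group⟩
  have h5 : Nat.card (Subgroup.centralizer ({u} : Set G)) = 8 := by rw [h1, card_P2 h S]
  rw [h4, h5] at h2
  rw [h2] at h3
  have h6 : 0 < Nat.card {x : G // ∃ g, g * z * g⁻¹ = x} := by
    haveI : Nonempty {x : G // ∃ g, g * z * g⁻¹ = x} := ⟨⟨z, 1, by group⟩⟩
    exact Nat.card_pos
  exact (Nat.eq_of_mul_eq_mul_right h6 h3).symm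

theorem card_class {z : G} {n m : ℕ} (h : Nat.card G = n * m) (hn : n ≠ 0)
    (hc : Nat.card (Subgroup.centralizer ({z} : Set G)) = n) : Nat.card {g : G // IsConj z g} = m := by
  have h1 := H4.Count.class_card z
  have h4 : Nat.card {x : G // ∃ g, g * z * g⁻¹ = x} = Nat.card {g : G // IsConj z g} := by
    congr 1
    apply congrArg (fun s : Set G => (s : Type _))
    ext x
    exact isConj_iff.symm
  rw [h4, hc, h] at h1
  exact (Nat.eq_of_mul_eq_mul_left (Nat.pos_of_ne_zero hn) h1).symm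

theorem card_orderOf {k n m : ℕ} (h : Nat.card G = n * m) (hn : n ≠ 0)
    (hc : ∀ z : G, orderOf z = k → Nat.card (Subgroup.centralizer ({z} : Set G)) = n)
    (hconj : ∀ s t : G, orderOf s = k → orderOf t = k → IsConj s t) (hex : ∃ z : G, orderOf z = k) :
    Nat.card {g : G // orderOf g = k} = m := by
  obtain ⟨z, hz⟩ := hex
  rw [← card_class h hn (hc z hz)]
  congr 1
  apply congrArg (fun s : Set G => (s : Type _))
  ext x
  constructor
  · intro hx; exact hconj z x hz hx
  · intro hx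
    obtain ⟨g, hg⟩ := isConj_iff.mp hx
    change orderOf x = k
    rw [← hg, ← hz]
    exact orderOf_injective (MulAut.conj g).toMonoidHom (MulAut.conj g).injective z

theorem card_inv (h : Nat.card G = 168) : Nat.card {g : G // orderOf g = 2} = 21 :=
  card_orderOf (n := 8) (by rw [h]) (by norm_num) (fun z hz => card_cent2 h hz) (fun s t hs ht => conj_inv h hs ht) (by
    obtain ⟨g, hg⟩ := exists_prime_orderOf_dvd_card' (G := G) 2 (by rw [h]; norm_num)
    exact ⟨g, hg⟩)

theorem card_cent3 (h : Nat.card G = 168) {z : G} (hz : orderOf z = 3) :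
    Nat.card (Subgroup.centralizer ({z} : Set G)) = 3 := by
  rw [← hz, ← Nat.card_zpowers]
  congr 2
  apply le_antisymm
  · intro g hg
    exact comm3 h hz (Subgroup.mem_centralizer_singleton_iff.mp hg)
  · rintro _ ⟨i, rfl⟩
    rw [Subgroup.mem_centralizer_singleton_iff]
    exact (Commute.refl z).zpow_left i

theorem card_cent7 (h : Nat.card G = 168) {z : G} (hz : orderOf z = 7) :
    Nat.card (Subgroup.centralizer ({z} : Set G)) = 7 := by
  rw [← hz, ← Nat.card_zpowers]
  congr 2
  apply le_antisymm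
  · intro g hg
    exact comm7 h hz (Subgroup.mem_centralizer_singleton_iff.mp hg)
  · rintro _ ⟨i, rfl⟩
    rw [Subgroup.mem_centralizer_singleton_iff]
    exact (Commute.refl z).zpow_left i

/-- powers of generators of Sylow subgroups of prime order -/
theorem conj_pow_of_prime {p : ℕ} [hp : Fact p.Prime] (hP : ∀ P : Sylow p G, Nat.card (P : Subgroup G) = p) {s t : G}
    (hs : orderOf s = p) (ht : orderOf t = p) : ∃ g : G, ∃ k < p, g * s * g⁻¹ = t ^ k := by
  have key : ∀ u : G, orderOf u = p → ∃ Q : Sylow p G, (Q : Subgroup G) = Subgroup.zpowers u := by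
    intro u hu
    have hpg : IsPGroup p (Subgroup.zpowers u) := IsPGroup.of_card (n := 1) (by rw [Nat.card_zpowers, hu, pow_one])
    obtain ⟨Q, hQ⟩ := hpg.exists_le_sylow
    refine ⟨Q, ?_⟩
    symm
    apply Subgroup.eq_of_le_of_card_ge hQ
    rw [Nat.card_zpowers, hu, hP Q]
  obtain ⟨Q, hQ⟩ := key s hs
  obtain ⟨R, hR⟩ := key t ht
  obtain ⟨g, hg⟩ := MulAction.exists_smul_eq G Q R
  have h1 : g * s * g⁻¹ ∈ Subgroup.zpowers t := by
    rw [← hR, ← hg]
    exact ⟨s, by rw [hQ]; exact Subgroup.mem_zpowers s, rfl⟩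
  obtain ⟨k, hk, hk2⟩ := exists_pow_lt h1
  exact ⟨g, k, by rw [← ht]; exact hk, hk2.symm⟩

theorem conj3 (h : Nat.card G = 168) {s t : G} (hs : orderOf s = 3) (ht : orderOf t = 3) : IsConj s t := by
  obtain ⟨P, R, x, y, t0, hRP, hx7, hxP, hy3, hyP, hyR, hyx, ht2, htP, htR, hty⟩ := exists_gens h
  have key : ∀ u : G, orderOf u = 3 → IsConj u y := by
    intro u hu
    obtain ⟨g, k, hk, hg⟩ := conj_pow_of_prime (card_P3 h) hu hy3
    interval_cases k
    · exfalso
      have : u = 1 := by
        calc u = g⁻¹ * (g * u * g⁻¹) * g := by group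
          _ = 1 := by rw [hg]; group
      rw [this, orderOf_one] at hu; norm_num at hu
    · exact isConj_iff.mpr ⟨g, by rw [hg, pow_one]⟩
    · refine isConj_iff.mpr ⟨t0 * g, ?_⟩
      have h3 : y ^ 3 = 1 := by rw [← hy3]; exact pow_orderOf_eq_one y
      calc t0 * g * u * (t0 * g)⁻¹ = t0 * (g * u * g⁻¹) * t0⁻¹ := by group
        _ = (t0 * y * t0⁻¹) ^ 2 := by rw [hg, conj_pow]
        _ = (y ^ 3)⁻¹ * y := by rw [hty]; group
        _ = y := by rw [h3]; group
  exact (key s hs).trans (key t ht).symm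

theorem card_three (h : Nat.card G = 168) : Nat.card {g : G // orderOf g = 3} = 56 :=
  card_orderOf (n := 3) (by rw [h]) (by norm_num) (fun z hz => card_cent3 h hz) (fun s t hs ht => conj3 h hs ht) (by
    obtain ⟨g, hg⟩ := exists_prime_orderOf_dvd_card' (G := G) 3 (by rw [h]; norm_num)
    exact ⟨g, hg⟩)


/-- the centralizer of an involution is dihedral -/
theorem cent2_dih (h : Nat.card G = 168) {z : G} (hz : orderOf z = 2) :
    Nonempty (Subgroup.centralizer ({z} : Set G) ≃* DihedralGroup 4) := by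
  have h1 := card_cent2 h hz
  have hpg : IsPGroup 2 (Subgroup.centralizer ({z} : Set G)) := IsPGroup.of_card (n := 3) (by rw [h1]; norm_num)
  obtain ⟨Q, hQ⟩ := hpg.exists_le_sylow
  have hQe : Subgroup.centralizer ({z} : Set G) = (Q : Subgroup G) :=
    Subgroup.eq_of_le_of_card_ge hQ (by rw [h1, card_P2 h Q])
  rw [hQe]
  exact sylow_dih h Q

omit [IsSimpleGroup G] in
theorem sq_order {z : G} (hz : orderOf z = 4) : orderOf (z * z) = 2 := by
  rw [← sq, orderOf_pow, hz]; norm_num

theorem card_cent4 (h : Nat.card G = 168) {z : G} (hz : orderOf z = 4) :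
    Nat.card (Subgroup.centralizer ({z} : Set G)) = 4 := by
  obtain ⟨e⟩ := cent2_dih h (sq_order hz)
  have hle : Subgroup.centralizer ({z} : Set G) ≤ Subgroup.centralizer ({z * z} : Set G) := by
    intro g hg
    rw [Subgroup.mem_centralizer_singleton_iff] at hg ⊢
    rw [← mul_assoc, hg, mul_assoc, hg, mul_assoc]
  have hzz : z ∈ Subgroup.centralizer ({z} : Set G) := Subgroup.mem_centralizer_singleton_iff.mpr rfl
  have h1 := Subgroup.card_dvd_of_le hle
  rw [card_cent2 h (sq_order hz)] at h1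
  have h2 : 4 ∣ Nat.card (Subgroup.centralizer ({z} : Set G)) := by
    have := Subgroup.orderOf_dvd_natCard _ hzz
    rwa [hz] at this
  have h3 : Nat.card (Subgroup.centralizer ({z} : Set G)) ≠ 8 := by
    intro h4
    have h5 : Subgroup.centralizer ({z} : Set G) = Subgroup.centralizer ({z * z} : Set G) :=
      Subgroup.eq_of_le_of_card_ge hle (by rw [h4, card_cent2 h (sq_order hz)])
    have h6 : ∀ w : DihedralGroup 4, (∀ v, v * w = w * v) → w * w = 1 := by decide
    have h7 := h6 (e ⟨z, hle hzz⟩) (by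
      intro v
      obtain ⟨u, rfl⟩ := e.surjective v
      rw [← map_mul, ← map_mul]
      congr 1
      have h8 : (u : G) ∈ Subgroup.centralizer ({z} : Set G) := by rw [h5]; exact u.2
      exact Subtype.ext (Subgroup.mem_centralizer_singleton_iff.mp h8))
    rw [← map_mul, ← map_one e] at h7
    have h9 : z * z = 1 := congrArg Subtype.val (e.injective h7)
    have h10 := orderOf_dvd_of_pow_eq_one (show z ^ 2 = 1 by rw [sq]; exact h9)
    rw [hz] at h10
    norm_num at h10
  have h4 := Nat.le_of_dvd (by norm_num) h1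
  have h5 : 0 < Nat.card (Subgroup.centralizer ({z} : Set G)) := Nat.card_pos
  generalize Nat.card (Subgroup.centralizer ({z} : Set G)) = n at *
  interval_cases n <;> omega

omit [Finite G] [IsSimpleGroup G] in
theorem orderOf_conj' (g z : G) : orderOf (g * z * g⁻¹) = orderOf z :=
  orderOf_injective (MulAut.conj g).toMonoidHom (MulAut.conj g).injective z

theorem conj4 (h : Nat.card G = 168) {s t : G} (hs : orderOf s = 4) (ht : orderOf t = 4) : IsConj s t := by
  obtain ⟨g, hg⟩ := isConj_iff.mp (conj_inv h (sq_order hs) (sq_order ht))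
  obtain ⟨e⟩ := cent2_dih h (sq_order ht)
  obtain ⟨s', hs'⟩ : ∃ s', s' = g * s * g⁻¹ := ⟨_, rfl⟩
  have h1 : s' * s' = t * t := by rw [hs', ← hg]; group
  have h2 : s' ∈ Subgroup.centralizer ({t * t} : Set G) := by
    rw [Subgroup.mem_centralizer_singleton_iff, ← h1, mul_assoc]
  have h3 : t ∈ Subgroup.centralizer ({t * t} : Set G) := by
    rw [Subgroup.mem_centralizer_singleton_iff, mul_assoc]
  have hs4 : orderOf s' = 4 := by rw [hs', orderOf_conj', hs]
  have key : ∀ v w : DihedralGroup 4, v * v ≠ 1 → w * w ≠ 1 → ∃ u, u * v * u⁻¹ = w := by decide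
  have hne : ∀ (u : G) (hu : u ∈ Subgroup.centralizer ({t * t} : Set G)), orderOf u = 4 → e ⟨u, hu⟩ * e ⟨u, hu⟩ ≠ 1 := by
    intro u hu hu4 h7
    rw [← map_mul, ← map_one e] at h7
    have h9 : u * u = 1 := congrArg Subtype.val (e.injective h7)
    have h10 := orderOf_dvd_of_pow_eq_one (show u ^ 2 = 1 by rw [sq]; exact h9)
    rw [hu4] at h10
    norm_num at h10
  obtain ⟨u, hu⟩ := key _ _ (hne s' h2 hs4) (hne t h3 ht)
  obtain ⟨v, rfl⟩ := e.surjective u
  rw [← map_mul, ← map_inv, ← map_mul] at hu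
  have h4 : (v : G) * s' * (v : G)⁻¹ = t := congrArg Subtype.val (e.injective hu)
  refine isConj_iff.mpr ⟨v * g, ?_⟩
  calc (v : G) * g * s * ((v : G) * g)⁻¹ = v * (g * s * g⁻¹) * (v : G)⁻¹ := by group
    _ = t := by rw [← hs']; exact h4

theorem card_four (h : Nat.card G = 168) : Nat.card {g : G // orderOf g = 4} = 42 :=
  card_orderOf (n := 4) (by rw [h]) (by norm_num) (fun z hz => card_cent4 h hz) (fun s t hs ht => conj4 h hs ht) (by
    obtain ⟨a, b, c, d, ha, -⟩ := gens2 h
    exact ⟨a, ha⟩)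

theorem card_seven (h : Nat.card G = 168) : Nat.card {g : G // orderOf g = 7} = 48 := by
  classical
  have := Fintype.ofFinite G
  have h1 := Finset.card_eq_sum_card_fiberwise (s := (Finset.univ : Finset G)) (t := ({1, 2, 3, 4, 7} : Finset ℕ)) (f := orderOf)
    (by intro g _; have := orders h g; simp only [Finset.coe_insert, Finset.coe_singleton, Set.mem_insert_iff, Set.mem_singleton_iff]; exact this)
  have h2 : ∀ k : ℕ, (Finset.univ.filter (fun g : G => orderOf g = k)).card = Nat.card {g : G // orderOf g = k} := by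
    intro k
    rw [Nat.card_eq_fintype_card, Fintype.card_subtype]
  have h3 : Nat.card {g : G // orderOf g = 1} = 1 := by
    rw [Nat.card_eq_one_iff_unique]
    refine ⟨⟨?_⟩, ⟨⟨1, orderOf_one⟩⟩⟩
    intro a b
    apply Subtype.ext
    rw [orderOf_eq_one_iff.mp a.2, orderOf_eq_one_iff.mp b.2]
  rw [Finset.card_univ, ← Nat.card_eq_fintype_card, h] at h1
  rw [Finset.sum_insert (by decide), Finset.sum_insert (by decide), Finset.sum_insert (by decide), Finset.sum_insert (by decide),
    Finset.sum_singleton, h2, h2, h2, h2, h2, h3, card_inv h, card_three h, card_four h] at h1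
  omega

theorem not_conj_inv (h : Nat.card G = 168) {x : G} (hx : orderOf x = 7) : ¬ IsConj x x⁻¹ := by
  intro hc
  obtain ⟨g, hg⟩ := isConj_iff.mp hc
  have hpg : IsPGroup 7 (Subgroup.zpowers x) := IsPGroup.of_card (n := 1) (by rw [Nat.card_zpowers, hx, pow_one])
  obtain ⟨Q, hQ⟩ := hpg.exists_le_sylow
  have hQe : Subgroup.zpowers x = (Q : Subgroup G) := by
    apply Subgroup.eq_of_le_of_card_ge hQ
    rw [Nat.card_zpowers, hx, card_P7 h Q]
  have hgN : g ∈ Subgroup.normalizer ((Q : Subgroup G) : Set G) := by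
    rw [← hQe, Subgroup.mem_normalizer_iff]
    have hg' : g⁻¹ * x⁻¹ * g = x := by rw [← hg]; group
    intro n
    constructor
    · rintro ⟨i, rfl⟩
      refine ⟨-i, ?_⟩
      change x ^ (-i) = g * x ^ i * g⁻¹
      rw [← conj_zpow, hg, inv_zpow']
    · rintro ⟨i, hi⟩
      refine ⟨-i, ?_⟩
      have h1 : x ^ i = g * n * g⁻¹ := hi
      change x ^ (-i) = n
      have h2 : n = g⁻¹ * x ^ i * g⁻¹⁻¹ := by rw [h1]; group
      rw [h2, ← conj_zpow]
      have h3 : g⁻¹ * x * g⁻¹⁻¹ = x⁻¹ := by
        rw [inv_inv]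
        calc g⁻¹ * x * g = (g⁻¹ * x⁻¹ * g)⁻¹ := by group
          _ = x⁻¹ := by rw [hg']
      rw [h3, inv_zpow']
  have h2 : g ^ 21 = 1 := by
    have := pow_card_eq_one' (x := (⟨g, hgN⟩ : Subgroup.normalizer ((Q : Subgroup G) : Set G)))
    rw [card_N7 h Q] at this
    exact congrArg Subtype.val this
  have h3 : Commute (g ^ 2) x := by
    have : g ^ 2 * x * (g ^ 2)⁻¹ = x := by
      calc g ^ 2 * x * (g ^ 2)⁻¹ = g * (g * x * g⁻¹) * g⁻¹ := by rw [sq]; group
        _ = g * x⁻¹ * g⁻¹ := by rw [hg]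
        _ = (g * x * g⁻¹)⁻¹ := by group
        _ = x := by rw [hg, inv_inv]
    exact mul_inv_eq_iff_eq_mul.mp this
  have h4 : Commute g x := by
    have h5 : g = (g ^ 2) ^ 11 := by
      rw [← pow_mul, show 2 * 11 = 21 + 1 by norm_num, pow_succ, h2, one_mul]
    rw [h5]
    exact h3.pow_left 11
  rw [h4.eq, mul_inv_cancel_right] at hg
  have h5 : x ^ 2 = 1 := by rw [sq]; nth_rewrite 2 [hg]; exact mul_inv_cancel x
  have h6 := orderOf_dvd_of_pow_eq_one h5
  rw [hx] at h6
  norm_num at h6

end Cfsg.Agent.H21.O168
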