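import Mathlib
import Cfsg.Agent.H21_O168
import Cfsg.Agent.H1_FratFit

/-!
# Simple groups of order 360
-/

set_option autoImplicit false
open scoped Pointwise

namespace Cfsg.Agent.H21.O360
open MulAction Subgroup Cfsg.Agent.H21.O168

variable {G : Type*} [Group G] [Finite G] [IsSimpleGroup G]

theorem index_ge (h : Nat.card G = 360) (H : Subgroup G) (hH : H ≠ ⊤) : 6 ≤ H.index := by
  have h1 := H9.PermIndex.card_dvd_factorial H hH
  rw [h] at h1
  by_contra h2
  have h3 : (H.index).factorial ∣ Nat.factorial 5 := Nat.factorial_dvd_factorial (by omega)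
  have h4 := h1.trans h3
  revert h4; decide

theorem card_P3 (h : Nat.card G = 360) (P : Sylow 3 G) : Nat.card (P : Subgroup G) = 9 := by
  rw [Sylow.card_eq_multiplicity, h, show (360 : ℕ).factorization 3 = 2 by decide +kernel]; norm_num

omit [IsSimpleGroup G] in
theorem comm_P (h : Nat.card G = 360) (P : Sylow 3 G) {a b : G} (ha : a ∈ (P : Subgroup G)) (hb : b ∈ (P : Subgroup G)) :
    a * b = b * a := by
  have hP : Nat.card (P : Subgroup G) = 3 ^ 2 := by
    rw [Sylow.card_eq_multiplicity, h, show (360 : ℕ).factorization 3 = 2 by decide +kernel]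
  have h1 := IsPGroup.isMulCommutative_of_card_eq_prime_sq hP
  exact congrArg Subtype.val (h1.is_comm.comm (⟨a, ha⟩ : (P : Subgroup G)) ⟨b, hb⟩)

theorem n3 (h : Nat.card G = 360) : Nat.card (Sylow 3 G) = 10 := by
  obtain ⟨Q⟩ : Nonempty (Sylow 3 G) := inferInstance
  have hQ := card_P3 h Q
  have h1 := card_sylow_modEq_one 3 G
  have h2 := Q.card_dvd_index
  have h3 := (Q : Subgroup G).card_mul_index
  rw [hQ, h] at h3
  have h4 : (Q : Subgroup G).index = 40 := by omega
  rw [h4] at h2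
  have h5 := syl_ne_one Q (by omega) (by omega)
  have h6 : 6 ≤ Nat.card (Sylow 3 G) := by
    rw [Sylow.card_eq_index_normalizer Q]
    apply index_ge h
    intro htop
    apply h5
    rw [Sylow.card_eq_index_normalizer Q, htop, Subgroup.index_top]
  have h7 : Nat.card (Sylow 3 G) ≠ 40 := by
    intro h7
    have h8 := card_stab Q
    rw [h7, h] at h8
    have h9 : Subgroup.normalizer ((Q : Subgroup G) : Set G) = Q := by
      symm
      apply Subgroup.eq_of_le_of_card_ge Subgroup.le_normalizer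
      omega
    apply not_cent Q (by omega) (by omega)
    rw [h9]
    intro a ha
    rw [Subgroup.mem_centralizer_iff]
    intro b hb
    exact comm_P h Q hb ha
  have h8 := Nat.le_of_dvd (by norm_num) h2
  unfold Nat.ModEq at h1
  generalize Nat.card (Sylow 3 G) = n at *
  interval_cases n <;> omega

theorem card_N3 (h : Nat.card G = 360) (P : Sylow 3 G) :
    Nat.card (Subgroup.normalizer ((P : Subgroup G) : Set G)) = 36 := by
  have h1 := card_stab P
  rw [n3 h, h] at h1
  omega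

/-- Sylow 3-subgroups intersect trivially -/
theorem exists_ti (h : Nat.card G = 360) (P : Sylow 3 G) : ∃ Q : Sylow 3 G, (P : Subgroup G) ⊓ (Q : Subgroup G) = ⊥ := by
  have h1 : Cfsg.pCore 3 G = ⊥ := by
    rw [eq_bot_iff]
    apply sSup_le
    rintro N ⟨hN, hN3⟩
    rcases hN.eq_bot_or_eq_top with h2 | h2
    · rw [h2]
    · exfalso
      rw [h2] at hN3
      obtain ⟨n, hn⟩ := IsPGroup.iff_card.mp hN3
      rw [Subgroup.card_top, h] at hn
      have h5 : 5 ∣ 3 ^ n := by rw [← hn]; norm_num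
      have := (Nat.Prime.dvd_of_dvd_pow (by norm_num) h5)
      norm_num at this
  have hP : Nat.card (P : Subgroup G) = 3 ^ 2 := by rw [card_P3 h P]; norm_num
  obtain ⟨g, hg⟩ := H1.FratFit.brodkey 3 P (IsPGroup.isMulCommutative_of_card_eq_prime_sq hP) h1
  exact ⟨g • P, hg⟩

theorem inj_of_ti (P R : Sylow 3 G) (hR : (P : Subgroup G) ⊓ (R : Subgroup G) = ⊥) {p q : G}
    (hp : p ∈ (P : Subgroup G)) (hq : q ∈ (P : Subgroup G)) (hpq : p • R = q • R) : p = q := by
  have h1 : (q⁻¹ * p) • R = R := by rw [mul_smul, hpq, inv_smul_smul]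
  have h0 : (P : Subgroup G) ⊓ Subgroup.normalizer ((R : Subgroup G) : Set G) = (P : Subgroup G) ⊓ (R : Subgroup G) :=
    P.2.inf_normalizer_sylow R
  have h2 : q⁻¹ * p ∈ (P : Subgroup G) ⊓ Subgroup.normalizer ((R : Subgroup G) : Set G) :=
    ⟨mul_mem (Subgroup.inv_mem _ hq) hp, smul_syl_iff.mp h1⟩
  rw [h0, hR, Subgroup.mem_bot, inv_mul_eq_one] at h2
  exact h2.symm

theorem ne_of_ti (h : Nat.card G = 360) {P R : Sylow 3 G} (hR : (P : Subgroup G) ⊓ (R : Subgroup G) = ⊥) : R ≠ P := by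
  rintro rfl
  rw [inf_idem] at hR
  have := card_P3 h R
  rw [hR, Subgroup.card_bot] at this
  norm_num at this

theorem bij_of_ti (h : Nat.card G = 360) {P R : Sylow 3 G} (hR : (P : Subgroup G) ⊓ (R : Subgroup G) = ⊥) :
    Function.Bijective (fun p : (P : Subgroup G) => (⟨(p : G) • R, by
      intro h1
      have h2 : (p : G) • P = P := smul_syl_iff.mpr (Subgroup.le_normalizer p.2)
      exact ne_of_ti h hR (smul_left_cancel _ (h1.trans h2.symm))⟩ : {S : Sylow 3 G // S ≠ P})) := by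
  refine (Nat.bijective_iff_injective_and_card _).mpr ⟨?_, ?_⟩
  · intro p q hpq
    exact Subtype.ext (inj_of_ti P R hR p.2 q.2 (congrArg Subtype.val hpq))
  · classical
    haveI := Fintype.ofFinite (Sylow 3 G)
    have h1 : Nat.card {S : Sylow 3 G // S ≠ P} = 9 := by
      rw [Nat.card_eq_fintype_card, Fintype.card_subtype_compl, Fintype.card_subtype_eq, ← Nat.card_eq_fintype_card, n3 h]
    rw [h1]; exact card_P3 h P

theorem exists_of_ti (h : Nat.card G = 360) {P R : Sylow 3 G} (hR : (P : Subgroup G) ⊓ (R : Subgroup G) = ⊥)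
    {S : Sylow 3 G} (hS : S ≠ P) : ∃ p ∈ (P : Subgroup G), p • R = S := by
  obtain ⟨p, hp⟩ := (bij_of_ti h hR).2 ⟨S, hS⟩
  exact ⟨p, p.2, congrArg Subtype.val hp⟩

theorem ti (h : Nat.card G = 360) {P R : Sylow 3 G} (hR : R ≠ P) : (P : Subgroup G) ⊓ (R : Subgroup G) = ⊥ := by
  obtain ⟨Q, hQ⟩ := exists_ti h P
  obtain ⟨p, hp, rfl⟩ := exists_of_ti h hQ hR
  rw [eq_bot_iff]
  rintro x ⟨hx, q, hq, hqx⟩
  have h1 : q = p⁻¹ * x * p := by rw [← hqx]; change q = p⁻¹ * (p * q * p⁻¹) * p; group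
  have h2 : q ∈ (P : Subgroup G) ⊓ (Q : Subgroup G) := by
    refine ⟨?_, hq⟩
    rw [h1]
    exact mul_mem (mul_mem (Subgroup.inv_mem _ hp) hx) hp
  rw [hQ, Subgroup.mem_bot] at h2
  rw [Subgroup.mem_bot, ← hqx, h2]
  exact map_one _

theorem exists_two (h : Nat.card G = 360) (P : Sylow 3 G) {R S : Sylow 3 G} (hR : R ≠ P) (hS : S ≠ P) :
    ∃ g ∈ (P : Subgroup G), g • R = S := exists_of_ti h (ti h hR) hS

theorem exists_swap (h : Nat.card G = 360) {P R : Sylow 3 G} (hR : R ≠ P) :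
    ∃ t : G, t • P = R ∧ t • R = P := by
  obtain ⟨g, hg⟩ := MulAction.exists_smul_eq G P R
  have h1 : g • R ≠ R := by
    intro h2; rw [← hg] at h2; exact hR (smul_left_cancel _ h2 |>.trans rfl |> fun h => by rw [← hg]; exact h)
  obtain ⟨k, hk, hk2⟩ := exists_two h R (R := g • R) (S := P) h1 hR.symm
  refine ⟨k * g, ?_, ?_⟩
  · rw [mul_smul, hg]; exact smul_syl_iff.mpr (Subgroup.le_normalizer hk)
  · rw [mul_smul, hk2]

/-- the two point stabilizer -/
theorem card_two (h : Nat.card G = 360) {P R : Sylow 3 G} (hR : R ≠ P) :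
    Nat.card (Subgroup.normalizer ((P : Subgroup G) : Set G) ⊓ Subgroup.normalizer ((R : Subgroup G) : Set G) : Subgroup G) = 4 := by
  obtain ⟨K, hK⟩ : ∃ K : Subgroup G, K = Subgroup.normalizer ((P : Subgroup G) : Set G) ⊓ Subgroup.normalizer ((R : Subgroup G) : Set G) := ⟨_, rfl⟩
  rw [← hK]
  have hKP : K ≤ Subgroup.normalizer ((P : Subgroup G) : Set G) := by rw [hK]; exact inf_le_left
  have hbij : Function.Bijective (fun a : ↥(P : Subgroup G) × ↥K => (⟨(a.1 : G) * a.2,
      mul_mem (Subgroup.le_normalizer a.1.2) (hKP a.2.2)⟩ : Subgroup.normalizer ((P : Subgroup G) : Set G))) := by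
    constructor
    · rintro ⟨⟨p, hp⟩, ⟨k, hk⟩⟩ ⟨⟨q, hq⟩, ⟨l, hl⟩⟩ hab
      have h1 : p * k = q * l := congrArg Subtype.val hab
      rw [hK] at hk hl
      have hk2 : k • R = R := smul_syl_iff.mpr hk.2
      have hl2 : l • R = R := smul_syl_iff.mpr hl.2
      have h2 : p • R = q • R := by
        have := congrArg (fun g : G => g • R) h1
        simp only [mul_smul, hk2, hl2] at this
        exact this
      have h3 := inj_of_ti P R (ti h hR) hp hq h2
      subst h3
      have h4 := mul_left_cancel h1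
      subst h4
      rfl
    · rintro ⟨g, hg⟩
      have hgR : g • R ≠ P := by
        intro h1
        have h2 : g • P = P := smul_syl_iff.mpr hg
        rw [← h2] at h1
        exact hR (smul_left_cancel _ h1)
      obtain ⟨p, hp, hp2⟩ := exists_two h P hR hgR
      refine ⟨⟨⟨p, hp⟩, ⟨p⁻¹ * g, ?_⟩⟩, ?_⟩
      · rw [hK]
        refine ⟨mul_mem (Subgroup.le_normalizer (Subgroup.inv_mem _ hp)) hg, smul_syl_iff.mp ?_⟩
        rw [mul_smul, ← hp2, inv_smul_smul]
      · apply Subtype.ext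
        simp
  have h1 := Nat.card_congr (Equiv.ofBijective _ hbij)
  rw [Nat.card_prod, card_P3 h P, card_N3 h P] at h1
  omega

theorem faithful (h : Nat.card G = 360) {g : G} (hg : ∀ R : Sylow 3 G, g • R = R) : g = 1 := by
  rcases (MonoidHom.normal_ker (MulAction.toPermHom G (Sylow 3 G))).eq_bot_or_eq_top with h1 | h1
  · have h2 : g ∈ (MulAction.toPermHom G (Sylow 3 G)).ker := by
      rw [MonoidHom.mem_ker]
      ext1 R
      exact hg R
    rwa [h1, Subgroup.mem_bot] at h2
  · exfalso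
    obtain ⟨P⟩ : Nonempty (Sylow 3 G) := inferInstance
    obtain ⟨Q, hQ⟩ := exists_ti h P
    obtain ⟨k, hk⟩ := MulAction.exists_smul_eq G P Q
    have h2 : k ∈ (MulAction.toPermHom G (Sylow 3 G)).ker := h1 ▸ Subgroup.mem_top k
    have h3 := congrArg (fun σ : Equiv.Perm (Sylow 3 G) => σ P) (MonoidHom.mem_ker.mp h2)
    have h4 : k • P = P := h3
    exact ne_of_ti h hQ (hk.symm.trans h4)

theorem cent_trivial (h : Nat.card G = 360) {P R : Sylow 3 G} (hR : R ≠ P) {k : G} (hkP : k • P = P) (hkR : k • R = R)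
    (hc : ∀ p ∈ (P : Subgroup G), k * p = p * k) : k = 1 := by
  apply faithful h
  intro S
  by_cases hS : S = P
  · rw [hS, hkP]
  · obtain ⟨p, hp, rfl⟩ := exists_two h P hR hS
    rw [← mul_smul, hc p hp, mul_smul, hkR]


theorem sign_one (h : Nat.card G = 360) [Fintype (Sylow 3 G)] [DecidableEq (Sylow 3 G)] (k : G) :
    Equiv.Perm.sign (MulAction.toPermHom G (Sylow 3 G) k) = 1 :=
  hom_units (by rw [h]; norm_num) (Equiv.Perm.sign.comp (MulAction.toPermHom G (Sylow 3 G))) k

theorem card_fixed (h : Nat.card G = 360) {P R : Sylow 3 G} (hR : R ≠ P) {k : G} (hkP : k • P = P) (hkR : k • R = R) :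
    Nat.card {S : Sylow 3 G // k • S = S} = Nat.card ((P : Subgroup G) ⊓ Subgroup.centralizer {k} : Subgroup G) + 1 := by
  classical
  obtain ⟨C, hC⟩ : ∃ C : Subgroup G, C = (P : Subgroup G) ⊓ Subgroup.centralizer {k} := ⟨_, rfl⟩
  rw [← hC]
  have hCP : ∀ c : C, (c : G) ∈ (P : Subgroup G) := fun c => (hC.le c.2).1
  have hCk : ∀ c : C, (c : G) * k = k * c := fun c =>
    Subgroup.mem_centralizer_singleton_iff.mp (hC.le c.2).2
  let f : Option C → {S : Sylow 3 G // k • S = S} := fun o => o.elim ⟨P, hkP⟩ (fun c => ⟨(c : G) • R, by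
    rw [← mul_smul, ← hCk, mul_smul, hkR]⟩)
  have hf0 : (f none : Sylow 3 G) = P := rfl
  have hf1 : ∀ c : C, (f (some c) : Sylow 3 G) = (c : G) • R := fun c => rfl
  have hne : ∀ c : C, (c : G) • R ≠ P := by
    intro c h1
    have h2 : (c : G) • P = P := smul_syl_iff.mpr (Subgroup.le_normalizer (hCP c))
    exact hR (smul_left_cancel _ (h1.trans h2.symm))
  have hbij : Function.Bijective f := by
    constructor
    · rintro (_ | c) (_ | d) hcd
      · rfl
      · exact absurd (congrArg Subtype.val hcd).symm (hne d)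
      · exact absurd (congrArg Subtype.val hcd) (hne c)
      · congr 1
        exact Subtype.ext (inj_of_ti P R (ti h hR) (hCP c) (hCP d) (congrArg Subtype.val hcd))
    · rintro ⟨S, hS⟩
      by_cases hSP : S = P
      · exact ⟨none, Subtype.ext hSP.symm⟩
      · obtain ⟨p, hp, hp2⟩ := exists_two h P hR hSP
        have h1 : k * p * k⁻¹ = p := by
          apply inj_of_ti P R (ti h hR) _ hp
          · rw [mul_smul, mul_smul, inv_smul_eq_iff.mpr hkR.symm, hp2, hS]
          · exact (Subgroup.mem_normalizer_iff.mp (smul_syl_iff.mp hkP) p).mp hp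
        refine ⟨some ⟨p, ?_⟩, Subtype.ext hp2⟩
        rw [hC]
        refine ⟨hp, Subgroup.mem_centralizer_singleton_iff.mpr ?_⟩
        exact (mul_inv_eq_iff_eq_mul.mp h1).symm
  rw [← Nat.card_congr (Equiv.ofBijective f hbij), Finite.card_option]

theorem inverts (h : Nat.card G = 360) {P R : Sylow 3 G} (hR : R ≠ P) {k : G} (hk2 : k * k = 1) (hk1 : k ≠ 1)
    (hkP : k • P = P) (hkR : k • R = R) {p : G} (hp : p ∈ (P : Subgroup G)) : k * p * k⁻¹ = p⁻¹ := by
  classical
  haveI := Fintype.ofFinite (Sylow 3 G)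
  have h1 := card_fixed h hR hkP hkR
  obtain ⟨C, hC⟩ : ∃ C : Subgroup G, C = (P : Subgroup G) ⊓ Subgroup.centralizer {k} := ⟨_, rfl⟩
  rw [← hC] at h1
  have h2 : Nat.card C ∣ 9 := by
    have := Subgroup.card_dvd_of_le (show C ≤ (P : Subgroup G) by rw [hC]; exact inf_le_left)
    rwa [card_P3 h P] at this
  set σ := MulAction.toPermHom G (Sylow 3 G) k with hσ
  have h3 : σ.support.card + Nat.card {S : Sylow 3 G // k • S = S} = 10 := by
    have h4 : σ.support = Finset.univ.filter (fun S => ¬ k • S = S) := by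
      ext S; simp only [Equiv.Perm.mem_support, Finset.mem_filter, Finset.mem_univ, true_and]; rfl
    rw [h4, Nat.card_eq_fintype_card, Fintype.card_subtype, add_comm, Finset.card_filter_add_card_filter_not, Finset.card_univ,
      ← Nat.card_eq_fintype_card, n3 h]
  have h4 : ∀ c ∈ σ.cycleType, c = 2 := by
    rw [← Equiv.Perm.pow_prime_eq_one_iff, hσ, ← map_pow, sq, hk2, map_one]
  have h5 : σ.cycleType = Multiset.replicate (Multiset.card σ.cycleType) 2 :=
    Multiset.eq_replicate_card.mpr h4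
  have h6 : Multiset.card σ.cycleType * 2 = σ.support.card := by
    rw [← Equiv.Perm.sum_cycleType]
    conv_rhs => rw [h5]
    rw [Multiset.sum_replicate, smul_eq_mul]
  have h7 := sign_one h k
  rw [← hσ, Equiv.Perm.sign_of_cycleType, Equiv.Perm.sum_cycleType, ← h6] at h7
  have h8 : Nat.card C = 1 := by
    obtain ⟨n, hn⟩ : ∃ n, n = Multiset.card σ.cycleType := ⟨_, rfl⟩
    rw [← hn] at h6 h7
    rw [← h6, h1] at h3
    have h9 := Nat.le_of_dvd (by norm_num) h2
    have h10 : Nat.card C ≠ 9 := by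
      intro h11
      apply hk1
      apply cent_trivial h hR hkP hkR
      intro q hq
      have h12 : C = P := Subgroup.eq_of_le_of_card_ge (by rw [hC]; exact inf_le_left) (by rw [h11, card_P3 h P])
      rw [← h12, hC] at hq
      exact (Subgroup.mem_centralizer_singleton_iff.mp hq.2).symm
    have h11 : 0 < Nat.card C := Nat.card_pos
    have h13 : Nat.card C = 3 → False := by
      intro h14
      rw [h14] at h3
      have : n = 3 := by omega
      rw [this] at h7
      exact absurd h7 (by decide)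
    clear hC h1
    generalize Nat.card C = m at *
    interval_cases m <;> first | rfl | (exfalso; omega) | (exfalso; exact h13 rfl)
  have h9 : C = ⊥ := Subgroup.card_eq_one.mp h8
  have hpk : k * p * k⁻¹ ∈ (P : Subgroup G) := (Subgroup.mem_normalizer_iff.mp (smul_syl_iff.mp hkP) p).mp hp
  have hki : k⁻¹ = k := inv_eq_of_mul_eq_one_left hk2
  have h10 : p * (k * p * k⁻¹) ∈ C := by
    rw [hC]
    refine ⟨mul_mem hp hpk, Subgroup.mem_centralizer_singleton_iff.mpr ?_⟩
    have h11 := comm_P h P hp hpk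
    have h12 : k * (p * (k * p * k⁻¹)) * k⁻¹ = p * (k * p * k⁻¹) := by
      calc k * (p * (k * p * k⁻¹)) * k⁻¹ = (k * p * k⁻¹) * ((k * k) * p * (k * k)⁻¹) := by group
        _ = p * (k * p * k⁻¹) := by rw [hk2, inv_one, mul_one, one_mul]; exact h11.symm
    exact (mul_inv_eq_iff_eq_mul.mp h12).symm
  rw [h9, Subgroup.mem_bot] at h10
  exact eq_inv_of_mul_eq_one_right h10


/-- the standard generators -/
theorem exists_gens (h : Nat.card G = 360) : ∃ (P R : Sylow 3 G) (x y k t : G), R ≠ P ∧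
    x ∈ (P : Subgroup G) ∧ y ∈ (P : Subgroup G) ∧ x ^ 3 = 1 ∧ y ^ 3 = 1 ∧ x ≠ 1 ∧ y ∉ Subgroup.zpowers x ∧
    x * y = y * x ∧ k * x * k⁻¹ = y ∧ k * y * k⁻¹ = x⁻¹ ∧ k • P = P ∧ k • R = R ∧
    (∀ g : G, g • P = P → g • R = R → ∃ j < 4, g = k ^ j) ∧ k ^ 4 = 1 ∧
    t • P = R ∧ t • R = P ∧ (t * k * t⁻¹ = k ∨ t * k * t⁻¹ = k⁻¹) := by
  obtain ⟨P⟩ : Nonempty (Sylow 3 G) := inferInstance
  obtain ⟨R, hR'⟩ := exists_ti h P
  have hR := ne_of_ti h hR'
  obtain ⟨K, hK⟩ : ∃ K : Subgroup G, K = Subgroup.normalizer ((P : Subgroup G) : Set G) ⊓ Subgroup.normalizer ((R : Subgroup G) : Set G) := ⟨_, rfl⟩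
  have hcK := card_two h hR
  rw [← hK] at hcK
  have hKP : ∀ g ∈ K, g • P = P := fun g hg => smul_syl_iff.mpr (hK.le hg).1
  have hKR : ∀ g ∈ K, g • R = R := fun g hg => smul_syl_iff.mpr (hK.le hg).2
  have hKm : ∀ g : G, g • P = P → g • R = R → g ∈ K := fun g h1 h2 => by
    rw [hK]; exact ⟨smul_syl_iff.mp h1, smul_syl_iff.mp h2⟩
  -- element of order four
  obtain ⟨k, hk, hkk⟩ : ∃ k ∈ K, k * k ≠ 1 := by
    by_contra hcon
    push Not at hcon
    haveI : Fact (Nat.Prime 2) := ⟨Nat.prime_two⟩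
    obtain ⟨a, ha⟩ := exists_prime_orderOf_dvd_card' (G := K) 2 (by rw [hcK]; norm_num)
    have ha2 : orderOf (a : G) = 2 := by rw [Subgroup.orderOf_coe, ha]
    have ha1 : (a : G) ≠ 1 := by intro h1; rw [h1, orderOf_one] at ha2; norm_num at ha2
    obtain ⟨b, hbK, hb⟩ : ∃ b ∈ K, b ∉ Subgroup.zpowers (a : G) := by
      by_contra hcon2
      push Not at hcon2
      have h1 := Subgroup.card_le_of_le (H := K) (K := Subgroup.zpowers (a : G)) hcon2
      rw [hcK, Nat.card_zpowers, ha2] at h1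
      omega
    have hb1 : b ≠ 1 := by rintro rfl; exact hb (Subgroup.one_mem _)
    have hab : (a : G) * b = 1 := by
      apply cent_trivial h hR (hKP _ (mul_mem a.2 hbK)) (hKR _ (mul_mem a.2 hbK))
      intro p hp
      have h1 := inverts h hR (hcon b hbK) hb1 (hKP b hbK) (hKR b hbK) hp
      have h2 := inverts h hR (hcon a a.2) ha1 (hKP a a.2) (hKR a a.2) (Subgroup.inv_mem _ hp)
      rw [inv_inv] at h2
      have h3 : (a : G) * b * p * ((a : G) * b)⁻¹ = p := by
        calc (a : G) * b * p * ((a : G) * b)⁻¹ = a * (b * p * b⁻¹) * (a : G)⁻¹ := by group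
          _ = p := by rw [h1, h2]
      exact mul_inv_eq_iff_eq_mul.mp h3
    apply hb
    rw [eq_inv_of_mul_eq_one_right hab]
    exact Subgroup.inv_mem _ (Subgroup.mem_zpowers _)
  have hk4 : k ^ 4 = 1 := by
    have := pow_card_eq_one' (x := (⟨k, hk⟩ : K))
    rw [hcK] at this
    exact congrArg Subtype.val this
  have hok : orderOf k = 4 := by
    have : orderOf k = 2 ^ (1 + 1) := by
      haveI : Fact (Nat.Prime 2) := ⟨Nat.prime_two⟩
      apply orderOf_eq_prime_pow
      · rw [pow_one, sq]; exact hkk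
      · exact hk4
    exact this
  have hKz : K = Subgroup.zpowers k := by
    symm
    apply Subgroup.eq_of_le_of_card_ge (Subgroup.zpowers_le.mpr hk)
    rw [hcK, Nat.card_zpowers, hok]
  have hkinv : ∀ p ∈ (P : Subgroup G), (k * k) * p * (k * k)⁻¹ = p⁻¹ := fun p hp =>
    inverts h hR (by rw [← hk4]; simp only [pow_succ, pow_zero, one_mul, mul_assoc]) hkk (hKP _ (mul_mem hk hk)) (hKR _ (mul_mem hk hk)) hp
  have hkN : ∀ p ∈ (P : Subgroup G), k * p * k⁻¹ ∈ (P : Subgroup G) := fun p hp =>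
    (Subgroup.mem_normalizer_iff.mp (smul_syl_iff.mp (hKP k hk)) p).mp hp
  have hodd : ∀ p ∈ (P : Subgroup G), p * p = 1 → p = 1 := by
    intro p hp hpp
    have h1 : orderOf p ∣ 2 := orderOf_dvd_of_pow_eq_one (by rw [sq]; exact hpp)
    have h2 : orderOf p ∣ 9 := by
      have := Subgroup.orderOf_dvd_natCard _ hp
      rwa [card_P3 h P] at this
    have h3 : orderOf p ∣ 1 := by
      have := Nat.dvd_gcd h1 h2
      simpa using this
    exact orderOf_eq_one_iff.mp (Nat.dvd_one.mp h3)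
  have hnot : ∀ p ∈ (P : Subgroup G), p ≠ 1 → k * p * k⁻¹ ∉ Subgroup.zpowers p := by
    intro p hp hp1 hmem
    obtain ⟨m, hm⟩ := Subgroup.mem_zpowers_iff.mp hmem
    have h1 : p⁻¹ = p ^ (m * m) := by
      rw [← hkinv p hp]
      calc (k * k) * p * (k * k)⁻¹ = k * (k * p * k⁻¹) * k⁻¹ := by group
        _ = p ^ (m * m) := by rw [← hm, ← conj_zpow, ← hm, ← zpow_mul]
    have h2 : p ^ (m * m + 1) = 1 := by rw [zpow_add, ← h1, zpow_one, inv_mul_cancel]
    have h3 : (orderOf p : ℤ) ∣ m * m + 1 := orderOf_dvd_iff_zpow_eq_one.mpr h2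
    have h4 : orderOf p ∣ 9 := by
      have := Subgroup.orderOf_dvd_natCard _ hp
      rwa [card_P3 h P] at this
    have h5 : 3 ∣ orderOf p := by
      obtain ⟨j, hj, hj2⟩ := (Nat.dvd_prime_pow Nat.prime_three).mp (show orderOf p ∣ 3 ^ 2 by exact h4)
      rw [hj2]
      have : j ≠ 0 := by
        rintro rfl
        rw [pow_zero] at hj2
        exact hp1 (orderOf_eq_one_iff.mp hj2)
      exact dvd_pow_self 3 this
    have h6 : (3 : ℤ) ∣ m * m + 1 := (Int.natCast_dvd_natCast.mpr h5).trans h3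
    have h7 : m % 3 = 0 ∨ m % 3 = 1 ∨ m % 3 = 2 := by omega
    obtain ⟨c, hc⟩ : ∃ c, c = m / 3 := ⟨_, rfl⟩
    obtain ⟨u, hu⟩ := h6
    rcases h7 with h8 | h8 | h8
    · have : m = 3 * c := by omega
      rw [this] at hu; ring_nf at hu; omega
    · have : m = 3 * c + 1 := by omega
      rw [this] at hu; ring_nf at hu; omega
    · have : m = 3 * c + 2 := by omega
      rw [this] at hu; ring_nf at hu; omega
  obtain ⟨x, hx⟩ := exists_prime_orderOf_dvd_card' (G := (P : Subgroup G)) 3 (by rw [card_P3 h P]; norm_num)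
  have hx3 : orderOf (x : G) = 3 := by rw [Subgroup.orderOf_coe, hx]
  have hx1 : (x : G) ≠ 1 := by intro h1; rw [h1, orderOf_one] at hx3; norm_num at hx3
  have hx33 : (x : G) ^ 3 = 1 := by have := pow_orderOf_eq_one (x : G); rwa [hx3] at this
  obtain ⟨t, htP, htR⟩ := exists_swap h hR
  refine ⟨P, R, x, k * x * k⁻¹, k, t, hR, x.2, hkN x x.2, hx33, by rw [conj_pow, hx33]; group, hx1, hnot x x.2 hx1,
    comm_P h P x.2 (hkN x x.2), rfl, ?_, hKP k hk, hKR k hk, ?_, hk4, htP, htR, ?_⟩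
  · rw [← hkinv x x.2]; group
  · intro g hgP hgR
    have h1 := hKm g hgP hgR
    rw [hKz] at h1
    obtain ⟨j, hj, hj2⟩ := exists_pow_lt h1
    exact ⟨j, by rw [← hok]; exact hj, hj2.symm⟩
  · have h1 : t * k * t⁻¹ ∈ K := by
      apply hKm
      · rw [mul_smul, mul_smul, inv_smul_eq_iff.mpr htR.symm, hKR k hk, htR]
      · rw [mul_smul, mul_smul, inv_smul_eq_iff.mpr htP.symm, hKP k hk, htP]
    rw [hKz] at h1
    obtain ⟨j, hj, hj2⟩ := exists_pow_lt h1
    rw [hok] at hj
    have h2 : orderOf (t * k * t⁻¹) = 4 := by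
      rw [← hok]; exact orderOf_injective (MulAut.conj t).toMonoidHom (MulAut.conj t).injective k
    interval_cases j
    · exfalso
      rw [pow_zero] at hj2
      rw [← hj2, orderOf_one] at h2
      norm_num at h2
    · left; rw [← hj2, pow_one]
    · exfalso
      have h3 : (k ^ 2) ^ 2 = 1 := by rw [← pow_mul]; exact hk4
      rw [← hj2] at h2
      have := orderOf_dvd_of_pow_eq_one h3
      rw [h2] at this
      norm_num at this
    · right; rw [← hj2]; exact eq_inv_of_mul_eq_one_left (by rw [← pow_succ]; exact hk4)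

end Cfsg.Agent.H21.O360
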