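import Mathlib

/-!
# Explicit permutations of 10 points
-/

set_option autoImplicit false

namespace Cfsg.Agent.H21.O360

abbrev Pt := Option (ZMod 3 × ZMod 3)

def X : Equiv.Perm Pt where
  toFun i := i.elim none (fun i => some (i.1 + 1, i.2))
  invFun i := i.elim none (fun i => some (i.1 + 2, i.2))
  left_inv := by decide +kernel
  right_inv := by decide +kernel

def Y : Equiv.Perm Pt where
  toFun i := i.elim none (fun i => some (i.1, i.2 + 1))
  invFun i := i.elim none (fun i => some (i.1, i.2 + 2))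
  left_inv := by decide +kernel
  right_inv := by decide +kernel

def K : Equiv.Perm Pt where
  toFun i := i.elim none (fun i => some (-i.2, i.1))
  invFun i := i.elim none (fun i => some (i.2, -i.1))
  left_inv := by decide +kernel
  right_inv := by decide +kernel

def T : Equiv.Perm Pt := Equiv.swap none (some (0, 0)) * Equiv.swap (some (1, 0)) (some (0, 1)) *
  Equiv.swap (some (2, 0)) (some (0, 2)) * Equiv.swap (some (1, 1)) (some (2, 2))

/-- `K` or its inverse -/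
def kap (ε : Bool) : Pt → Pt := fun i => if ε then K i else K.symm i

def F (ε : Bool) (A B : Pt) : Pt → Pt
  | none => some (0, 0)
  | some i => if i = (0, 0) then none else if i = (1, 0) then A else if i = (0, 1) then kap ε A
      else if i = (2, 0) then kap ε (kap ε A) else if i = (0, 2) then kap ε (kap ε (kap ε A))
      else if i = (1, 1) then B else if i = (2, 1) then kap ε B else if i = (2, 2) then kap ε (kap ε B)
      else kap ε (kap ε (kap ε B))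

/-- words in the generators: 0 = x, 1 = y, 2 = k, 3 = t -/
def ev (f : Pt → Pt) (w : List (Fin 4)) (i : Pt) : Pt :=
  w.foldr (fun l a => match l with
    | 0 => X a
    | 1 => Y a
    | 2 => K a
    | 3 => f a) i

def words : List (List (Fin 4)) := [[1, 3, 1, 3, 1, 3], [0, 3, 1, 3, 0, 3], [0, 3, 0, 3, 0, 3], [0, 0, 3, 1, 3, 0, 3], [0, 2, 3, 0, 3, 1, 3], [1, 3, 0, 1, 3, 0, 3], [1, 3, 0, 1, 3, 1, 3], [0, 3, 1, 1, 3, 0, 3], [0, 3, 0, 1, 3, 1, 3], [0, 3, 0, 0, 3, 0, 3], [0, 3, 0, 1, 3, 0, 3], [0, 3, 0, 1, 1, 3, 0, 3], [0, 0, 3, 0, 1, 3, 0, 3], [0, 3, 0, 1, 2, 3, 1, 3], [0, 3, 0, 1, 3, 0, 0, 3], [0, 3, 0, 0, 1, 3, 0, 3], [0, 0, 3, 0, 1, 3, 1, 3], [1, 3, 0, 0, 1, 3, 1, 3], [0, 2, 3, 0, 1, 3, 0, 3], [1, 3, 0, 1, 2, 3, 0, 3], [0, 3, 0, 1, 1, 3, 1, 3], [0, 3, 0, 1, 3, 1, 1, 3], [0, 2, 3, 0, 1, 3, 1, 3], [0, 3, 1, 3, 1, 3, 0, 3], [1, 3, 0, 1, 3, 1, 1, 3], [0, 0, 3, 0, 1, 3, 1, 1, 3], [0, 0, 3, 0, 1, 1, 3, 1,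 3]]

theorem F_cases : ∀ (ε : Bool) (A B : Pt), (∃ j : Fin 4, ∀ i, F ε A B (F ε A B i) = K^[(j : ℕ)] i) →
    (∃ j : Fin 4, ∀ i, F ε A B (K^[(j : ℕ)] i) = T i) ∨
    (∃ w ∈ words, ev (F ε A B) w none = none ∧ ev (F ε A B) w (some (0, 0)) = some (0, 0) ∧
      ∀ j : Fin 4, ∃ i, ev (F ε A B) w i ≠ K^[(j : ℕ)] i) := by
  decide +kernel

end Cfsg.Agent.H21.O360
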