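import Mathlib
import Cfsg.Agent.H21_O360
import Cfsg.Agent.H21_O360b

/-!
# Uniqueness of the simple group of order 360
-/

set_option autoImplicit false
open scoped Pointwise

namespace Cfsg.Agent.H21.O360
open MulAction Subgroup Cfsg.Agent.H21.O168

/-- words in a group -/
def wd {M : Type*} [Monoid M] (x y k t : M) (w : List (Fin 4)) : M :=
  w.foldr (fun l a => (match l with
    | 0 => x
    | 1 => y
    | 2 => k
    | 3 => t) * a) 1

theorem map_wd {M N : Type*} [Monoid M] [Monoid N] (f : M →* N) (x y k t : M) (w : List (Fin 4)) :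
    f (wd x y k t w) = wd (f x) (f y) (f k) (f t) w := by
  induction w with
  | nil => exact map_one f
  | cons l w ih =>
    change f (_ * wd x y k t w) = _ * wd (f x) (f y) (f k) (f t) w
    rw [map_mul, ih]
    congr 1
    fin_cases l <;> rfl

theorem wd_apply (f : Equiv.Perm Pt) (w : List (Fin 4)) (i : Pt) : wd X Y K f w i = ev f w i := by
  induction w with
  | nil => rfl
  | cons l w ih =>
    change (_ * wd X Y K f w) i = _
    rw [Equiv.Perm.mul_apply, ih]
    fin_cases l <;> rfl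

theorem ev_congr {f g : Pt → Pt} (h : ∀ i, f i = g i) (w : List (Fin 4)) (i : Pt) : ev f w i = ev g w i := by
  rw [funext h]

theorem K4 : K ^ 4 = 1 := by decide +kernel

theorem perm_lemma (σ : Equiv.Perm Pt) (h0 : σ none = some (0, 0)) (h0' : σ (some (0, 0)) = none)
    (h2 : ∃ j < 4, σ * σ = K ^ j)
    (hK : σ * K * σ⁻¹ = K ∨ σ * K * σ⁻¹ = K⁻¹)
    (hw : ∀ w : List (Fin 4), wd X Y K σ w none = none → wd X Y K σ w (some (0, 0)) = some (0, 0) → ∃ j < 4, wd X Y K σ w = K ^ j) :
    ∃ j : ℕ, σ * K ^ j = T := by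
  obtain ⟨ε, hε⟩ : ∃ ε : Bool, ∀ i, σ (K i) = kap ε (σ i) := by
    rcases hK with h | h
    · refine ⟨true, fun i => ?_⟩
      have h4 : σ * K = K * σ := mul_inv_eq_iff_eq_mul.mp h
      exact congrArg (fun τ : Equiv.Perm Pt => τ i) h4
    · refine ⟨false, fun i => ?_⟩
      have h4 : σ * K = K⁻¹ * σ := mul_inv_eq_iff_eq_mul.mp h
      exact congrArg (fun τ : Equiv.Perm Pt => τ i) h4
  have hF : ∀ i, σ i = F ε (σ (some (1, 0))) (σ (some (1, 1))) i := by
    have e1 : (some (0, 1) : Pt) = K (some (1, 0)) := by decide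
    have e2 : (some (2, 0) : Pt) = K (K (some (1, 0))) := by decide
    have e3 : (some (0, 2) : Pt) = K (K (K (some (1, 0)))) := by decide
    have e4 : (some (2, 1) : Pt) = K (some (1, 1)) := by decide
    have e5 : (some (2, 2) : Pt) = K (K (some (1, 1))) := by decide
    have e6 : (some (1, 2) : Pt) = K (K (K (some (1, 1)))) := by decide
    have hall : ∀ i : Pt, i = none ∨ i = some (0, 0) ∨ i = some (1, 0) ∨ i = some (0, 1) ∨ i = some (2, 0) ∨ i = some (0, 2) ∨
      i = some (1, 1) ∨ i = some (2, 1) ∨ i = some (2, 2) ∨ i = some (1, 2) := by decide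
    intro i
    rcases hall i with rfl | rfl | rfl | rfl | rfl | rfl | rfl | rfl | rfl | rfl
    · exact h0
    · exact h0'
    · rfl
    · rw [e1, hε]; rfl
    · rw [e2, hε, hε]; rfl
    · rw [e3, hε, hε, hε]; rfl
    · rfl
    · rw [e4, hε]; rfl
    · rw [e5, hε, hε]; rfl
    · rw [e6, hε, hε, hε]; rfl
  obtain ⟨j, hj, hj2⟩ := h2
  have hFF : ∃ j : Fin 4, ∀ i, F ε (σ (some (1, 0))) (σ (some (1, 1))) (F ε (σ (some (1, 0))) (σ (some (1, 1))) i) = K^[(j : ℕ)] i := by
    refine ⟨⟨j, hj⟩, fun i => ?_⟩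
    rw [← hF, ← hF]
    have := congrArg (fun τ : Equiv.Perm Pt => τ i) hj2
    simp only [Equiv.Perm.mul_apply] at this
    rw [this, Equiv.Perm.iterate_eq_pow]
  rcases F_cases ε _ _ hFF with ⟨j, hj⟩ | ⟨w, -, hw1, hw2, hw3⟩
  · refine ⟨j, ?_⟩
    ext1 i
    rw [← hj i, ← hF, Equiv.Perm.mul_apply, Equiv.Perm.iterate_eq_pow]
  · exfalso
    have hev : ∀ i, wd X Y K σ w i = ev (F ε (σ (some (1, 0))) (σ (some (1, 1)))) w i := by
      intro i
      rw [wd_apply]
      exact ev_congr hF w i
    obtain ⟨j, hj, hj2⟩ := hw w (by rw [hev, hw1]) (by rw [hev, hw2])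
    obtain ⟨i, hi⟩ := hw3 ⟨j, hj⟩
    apply hi
    rw [← hev, hj2, Equiv.Perm.iterate_eq_pow]

variable {G : Type*} [Group G] [Finite G] [IsSimpleGroup G]

theorem std (h : Nat.card G = 360) : ∃ (ψ : G →* Equiv.Perm Pt) (x y k t : G), Function.Injective ψ ∧ ψ x = X ∧ ψ y = Y ∧
    ψ k = K ∧ ψ t = T ∧ Subgroup.closure {x, y, k, t} = ⊤ := by
  obtain ⟨P, R, x, y, k, t, hRP, hxP, hyP, hx3, hy3, hx1, hyx, hxy, hkx, hky, hkP, hkR, hst, hk4, htP, htR, htk⟩ := exists_gens h
  obtain ⟨v, hv⟩ : ∃ v : ZMod 3 × ZMod 3 → G, ∀ i, v i = x ^ i.1.val * y ^ i.2.val := ⟨fun i => x ^ i.1.val * y ^ i.2.val, fun _ => rfl⟩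
  have hvP : ∀ i, v i ∈ (P : Subgroup G) := fun i => by
    rw [hv]; exact mul_mem (Subgroup.pow_mem _ hxP _) (Subgroup.pow_mem _ hyP _)
  have hox : orderOf x = 3 := by
    haveI : Fact (Nat.Prime 3) := ⟨Nat.prime_three⟩
    exact orderOf_eq_prime hx3 hx1
  have hoy : orderOf y = 3 := by
    haveI : Fact (Nat.Prime 3) := ⟨Nat.prime_three⟩
    exact orderOf_eq_prime hy3 (by rintro rfl; exact hyx (Subgroup.one_mem _))
  have hmodx : ∀ n : ℕ, x ^ (n % 3) = x ^ n := by
    intro n; conv_lhs => rw [← hox]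
    exact pow_mod_orderOf x n
  have hmody : ∀ n : ℕ, y ^ (n % 3) = y ^ n := by
    intro n; conv_lhs => rw [← hoy]
    exact pow_mod_orderOf y n
  have hcomm : ∀ m n : ℕ, y ^ m * x ^ n = x ^ n * y ^ m := fun m n =>
    ((show Commute x y from hxy).pow_pow n m).symm.eq
  have hadd : ∀ a b, v (a + b) = v a * v b := by
    intro a b
    rw [hv, hv, hv]
    simp only [Prod.fst_add, Prod.snd_add, ZMod.val_add]
    rw [hmodx, hmody, pow_add, pow_add]
    calc x ^ a.1.val * x ^ b.1.val * (y ^ a.2.val * y ^ b.2.val)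
        = x ^ a.1.val * (x ^ b.1.val * y ^ a.2.val) * y ^ b.2.val := by simp only [mul_assoc]
      _ = x ^ a.1.val * (y ^ a.2.val * x ^ b.1.val) * y ^ b.2.val := by rw [hcomm]
      _ = _ := by simp only [mul_assoc]
  have hv0 : v (0, 0) = 1 := by rw [hv]; simp
  have hvx : v (1, 0) = x := by
    rw [hv]; change x ^ 1 * y ^ 0 = x; rw [pow_one, pow_zero, mul_one]
  have hvy : v (0, 1) = y := by
    rw [hv]; change x ^ 0 * y ^ 1 = y; rw [pow_one, pow_zero, one_mul]
  have hkv : ∀ a : ZMod 3 × ZMod 3, k * v a * k⁻¹ = v (-a.2, a.1) := by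
    rintro ⟨a, b⟩
    rw [hv, hv]
    have h1 : k * (x ^ a.val * y ^ b.val) * k⁻¹ = (k * x * k⁻¹) ^ a.val * (k * y * k⁻¹) ^ b.val := by
      rw [conj_pow, conj_pow]; group
    have hxi : x⁻¹ = x ^ 2 := by
      symm; exact eq_inv_of_mul_eq_one_left (by rw [← pow_succ]; exact hx3)
    have hneg : (-b).val = (2 * b.val) % 3 := by
      have : ∀ b : ZMod 3, (-b).val = (2 * b.val) % 3 := by decide
      exact this b
    rw [h1, hkx, hky, hxi, ← pow_mul, hcomm]
    change _ = x ^ (-b).val * y ^ a.val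
    rw [hneg, hmodx]
  have hvker : ∀ c, v c = 1 → c = 0 := by
    rintro ⟨a, b⟩ hc
    rw [hv] at hc
    change x ^ a.val * y ^ b.val = 1 at hc
    have hb3 := ZMod.val_lt b
    have hb : b.val = 0 := by
      have h1 : y ^ b.val ∈ Subgroup.zpowers x := by
        rw [eq_inv_of_mul_eq_one_right hc]
        exact Subgroup.inv_mem _ (Subgroup.pow_mem _ (Subgroup.mem_zpowers x) _)
      have h2 : b.val = 0 ∨ b.val = 1 ∨ b.val = 2 := by omega
      rcases h2 with h2 | h2 | h2
      · exact h2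
      · exfalso; rw [h2, pow_one] at h1; exact hyx h1
      · exfalso
        rw [h2] at h1
        apply hyx
        have h3 := mul_mem h1 h1
        rwa [← pow_add, show 2 + 2 = 3 + 1 by norm_num, pow_succ, hy3, one_mul] at h3
    rw [hb, pow_zero, mul_one] at hc
    have ha3 := ZMod.val_lt a
    have ha : a.val = 0 := by
      have h1 := orderOf_dvd_of_pow_eq_one hc
      rw [hox] at h1
      omega
    have ha' : a = 0 := by rw [← ZMod.val_eq_zero]; exact ha
    have hb' : b = 0 := by rw [← ZMod.val_eq_zero]; exact hb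
    rw [ha', hb']; rfl
  have hvinj : ∀ a b, v a = v b → a = b := by
    intro a b hab
    have h1 : v (a - b) = 1 := by
      have := hadd (a - b) b
      rw [sub_add_cancel, hab] at this
      exact (mul_eq_right.mp this.symm)
    exact sub_eq_zero.mp (hvker _ h1)
  let f : Pt → Sylow 3 G := fun i => i.elim P (fun i => v i • R)
  have hne : ∀ i, v i • R ≠ P := by
    intro i h1
    have h2 : v i • P = P := smul_syl_iff.mpr (Subgroup.le_normalizer (hvP i))
    exact hRP (smul_left_cancel _ (h1.trans h2.symm))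
  have hfbij : Function.Bijective f := by
    refine (Nat.bijective_iff_injective_and_card _).mpr ⟨?_, ?_⟩
    · rintro (_ | i) (_ | j) hij
      · rfl
      · exact absurd hij.symm (hne j)
      · exact absurd hij (hne i)
      · rw [hvinj i j (inj_of_ti P R (ti h hRP) (hvP i) (hvP j) hij)]
    · rw [n3 h, Nat.card_eq_fintype_card]; rfl
  let e : Pt ≃ Sylow 3 G := Equiv.ofBijective f hfbij
  have he0 : e none = P := rfl
  have he1 : ∀ i, e (some i) = v i • R := fun i => rfl
  let ψ : G →* Equiv.Perm Pt := (e.symm.permCongrHom.toMonoidHom).comp (MulAction.toPermHom G (Sylow 3 G))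
  have hψ : ∀ g i, ψ g i = e.symm (g • e i) := fun g i => rfl
  have hψ' : ∀ g i j, g • e i = e j → ψ g i = j := by
    intro g i j hij
    rw [hψ, hij, Equiv.symm_apply_apply]
  have hψ'' : ∀ g i j, ψ g i = j → g • e i = e j := by
    intro g i j hij
    rw [← hij, hψ, Equiv.apply_symm_apply]
  have hψinj : Function.Injective ψ := by
    rw [injective_iff_map_eq_one]
    intro g hg
    apply faithful h
    intro S
    obtain ⟨i, rfl⟩ := e.surjective S
    exact hψ'' g i i (by rw [hg]; rfl)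
  have hX : ψ x = X := by
    ext1 i
    cases i with
    | none => exact hψ' _ _ _ (by rw [he0]; exact smul_syl_iff.mpr (Subgroup.le_normalizer hxP))
    | some i =>
      apply hψ'
      obtain ⟨a, b⟩ := i
      change x • e (some (a, b)) = e (some (a + 1, b))
      have h1 : ((a + 1, b) : ZMod 3 × ZMod 3) = (1, 0) + (a, b) := by ext <;> simp [add_comm]
      rw [he1, he1, h1, hadd, hvx, mul_smul]
  have hY : ψ y = Y := by
    ext1 i
    cases i with
    | none => exact hψ' _ _ _ (by rw [he0]; exact smul_syl_iff.mpr (Subgroup.le_normalizer hyP))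
    | some i =>
      apply hψ'
      obtain ⟨a, b⟩ := i
      change y • e (some (a, b)) = e (some (a, b + 1))
      have h1 : ((a, b + 1) : ZMod 3 × ZMod 3) = (0, 1) + (a, b) := by ext <;> simp [add_comm]
      rw [he1, he1, h1, hadd, hvy, mul_smul]
  have hK : ψ k = K := by
    ext1 i
    cases i with
    | none => exact hψ' _ _ _ (by rw [he0]; exact hkP)
    | some i =>
      apply hψ'
      change k • e (some i) = e (some (-i.2, i.1))
      rw [he1, he1, ← hkv, mul_smul, mul_smul, inv_smul_eq_iff.mpr hkR.symm]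
  have hstψ : ∀ g : G, ψ g none = none → ψ g (some (0, 0)) = some (0, 0) → ∃ j < 4, ψ g = K ^ j := by
    intro g h1 h2
    have h3 : g • P = P := hψ'' g _ _ h1
    have h4 : g • R = R := by
      have := hψ'' g _ _ h2
      rwa [he1, hv0, one_smul] at this
    obtain ⟨j, hj, hj2⟩ := hst g h3 h4
    exact ⟨j, hj, by rw [hj2, map_pow, hK]⟩
  have ht1 : ψ t none = some (0, 0) := hψ' _ _ _ (by rw [he0, he1, hv0, one_smul, htP])
  have ht2 : ψ t (some (0, 0)) = none := hψ' _ _ _ (by rw [he0, he1, hv0, one_smul, htR])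
  obtain ⟨j, hj⟩ := perm_lemma (ψ t) ht1 ht2
    (by rw [← map_mul]; exact hstψ (t * t) (by rw [map_mul, Equiv.Perm.mul_apply, ht1, ht2]) (by rw [map_mul, Equiv.Perm.mul_apply, ht2, ht1]))
    (by
      rcases htk with h1 | h1
      · left; rw [← hK, ← map_mul, ← map_inv, ← map_mul, h1]
      · right; rw [← hK, ← map_mul, ← map_inv, ← map_mul, h1, map_inv])
    (by
      intro w hw1 hw2
      rw [← hX, ← hY, ← hK, ← map_wd] at hw1 hw2 ⊢
      rw [hK]
      exact hstψ _ hw1 hw2)
  refine ⟨ψ, x, y, k, t * k ^ j, hψinj, hX, hY, hK, by rw [map_mul, map_pow, hK, hj], ?_⟩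
  -- generation
  obtain ⟨M, hM⟩ : ∃ M, M = Subgroup.closure {x, y, k, t * k ^ j} := ⟨_, rfl⟩
  rw [← hM]
  have hxM : x ∈ M := by rw [hM]; exact Subgroup.subset_closure (by simp)
  have hyM : y ∈ M := by rw [hM]; exact Subgroup.subset_closure (by simp)
  have hkM : k ∈ M := by rw [hM]; exact Subgroup.subset_closure (by simp)
  have htM : t ∈ M := by
    have : t * k ^ j ∈ M := by rw [hM]; exact Subgroup.subset_closure (by simp)
    have h2 := mul_mem this (inv_mem (pow_mem hkM j))
    rwa [mul_inv_cancel_right] at h2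
  have hvM : ∀ i, v i ∈ M := fun i => by rw [hv]; exact mul_mem (pow_mem hxM _) (pow_mem hyM _)
  have hNM : Subgroup.normalizer ((P : Subgroup G) : Set G) ≤ M := by
    intro g hg
    have h1 : g • P = P := smul_syl_iff.mpr hg
    obtain ⟨i, hi⟩ := e.surjective (g • R)
    cases i with
    | none =>
      exfalso
      rw [he0, ← h1] at hi
      exact hRP (smul_left_cancel _ hi).symm
    | some i =>
      rw [he1] at hi
      obtain ⟨j, hj, hj2⟩ := hst ((v i)⁻¹ * g) (by
        rw [mul_smul, h1]; exact smul_syl_iff.mpr (Subgroup.le_normalizer (Subgroup.inv_mem _ (hvP i)))) (by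
        rw [mul_smul, ← hi, inv_smul_smul])
      have h3 : g = v i * k ^ j := by rw [← hj2]; group
      rw [h3]
      exact mul_mem (hvM i) (pow_mem hkM j)
  by_contra hne2
  have h1 := index_ge h M hne2
  have h2 := M.card_mul_index
  rw [h] at h2
  have h3 : 36 ∣ Nat.card M := by
    have := Subgroup.card_dvd_of_le hNM
    rwa [card_N3 h P] at this
  have h4 : Nat.card M ≠ 36 := by
    intro h5
    have h6 : Subgroup.normalizer ((P : Subgroup G) : Set G) = M :=
      Subgroup.eq_of_le_of_card_ge hNM (by rw [h5, card_N3 h P])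
    apply hRP
    rw [← htP]
    exact smul_syl_iff.mpr (h6 ▸ htM)
  obtain ⟨c, hc⟩ := h3
  rw [hc] at h2 h4
  have h5 : c * M.index = 10 := by
    have : 36 * (c * M.index) = 36 * 10 := by rw [← mul_assoc, h2]
    exact Nat.eq_of_mul_eq_mul_left (by norm_num) this
  have h6 : c ≤ 1 := by
    by_contra h13
    push Not at h13
    have : 2 * 6 ≤ c * M.index := Nat.mul_le_mul h13 h1
    omega
  have h7 : c ≠ 0 := by rintro rfl; omega
  exact h4 (by omega)

theorem iso_closure (h : Nat.card G = 360) : Nonempty (G ≃* (Subgroup.closure {X, Y, K, T} : Subgroup (Equiv.Perm Pt))) := by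
  obtain ⟨ψ, x, y, k, t, hinj, hX, hY, hK, hT, hcl⟩ := std h
  have hr : ψ.range = Subgroup.closure {X, Y, K, T} := by
    rw [MonoidHom.range_eq_map, ← hcl, MonoidHom.map_closure, Set.image_insert_eq, Set.image_insert_eq, Set.image_insert_eq,
      Set.image_singleton, hX, hY, hK, hT]
  exact ⟨(MonoidHom.ofInjective hinj).trans (MulEquiv.subgroupCongr hr)⟩

/-- uniqueness of the simple group of order 360 -/
theorem unique (h : Nat.card G = 360) {H : Type*} [Group H] [Finite H] [IsSimpleGroup H] (h' : Nat.card H = 360) :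
    Nonempty (G ≃* H) := by
  obtain ⟨e⟩ := iso_closure h
  obtain ⟨f⟩ := iso_closure h'
  exact ⟨e.trans f.symm⟩

theorem iso_A6 (h : Nat.card G = 360) : Nonempty (G ≃* alternatingGroup (Fin 6)) := by
  haveI : IsSimpleGroup (alternatingGroup (Fin 6)) := alternatingGroup.isSimpleGroup (by simp)
  apply unique h
  rw [nat_card_alternatingGroup, Nat.card_eq_fintype_card, Fintype.card_fin]; rfl

end Cfsg.Agent.H21.O360
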