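import Mathlib
import Cfsg.Agent.H21_O168b
import Cfsg.Agent.H21_O360c
import Cfsg.Agent.H26_PQ
import Cfsg.Agent.H5_SmallIso
import Cfsg.Agent.H5_Dih

/-!
# Groups with an involution whose centralizer is dihedral of order 8
-/

set_option autoImplicit false
open scoped Pointwise commutatorElement

namespace Cfsg.Agent.H21.D8rec
open MulAction Subgroup Cfsg.Agent

/-- the centralizer in a subgroup -/
theorem cent_equiv {G : Type*} [Group G] (R : Subgroup G) {α : G} (hα : α ∈ R)
    (hle : Subgroup.centralizer ({α} : Set G) ≤ R) :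
    Nonempty (Subgroup.centralizer ({(⟨α, hα⟩ : R)} : Set R) ≃* Subgroup.centralizer ({α} : Set G)) := by
  have h1 : (Subgroup.centralizer ({(⟨α, hα⟩ : R)} : Set R)).map R.subtype = Subgroup.centralizer ({α} : Set G) := by
    ext g
    constructor
    · rintro ⟨c, hc, rfl⟩
      have := Subgroup.mem_centralizer_singleton_iff.mp hc
      exact Subgroup.mem_centralizer_singleton_iff.mpr (congrArg Subtype.val this)
    · intro hg
      refine ⟨⟨g, hle hg⟩, ?_, rfl⟩
      exact Subgroup.mem_centralizer_singleton_iff.mpr (Subtype.ext (Subgroup.mem_centralizer_singleton_iff.mp hg))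
  exact ⟨((Subgroup.centralizer ({(⟨α, hα⟩ : R)} : Set R)).equivMapOfInjective _ R.subtype_injective).trans
    (MulEquiv.subgroupCongr h1)⟩

section Gen

variable {G : Type*} [Group G] [Finite G] {α : G} (hα : orderOf α = 2)
  (e : Subgroup.centralizer ({α} : Set G) ≃* DihedralGroup 4)

include hα e

/-- fusion of involutions from the absence of subgroups of index two -/
theorem inv_conj (hG : ∀ H : Subgroup G, H.index ≠ 2) {u : G} (hu : orderOf u = 2) : IsConj α u := by
  obtain ⟨t, ht⟩ : ∃ t, t = α := ⟨_, rfl⟩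
  obtain ⟨x, hx, hx4, hxx, hdih, hcen⟩ := H3.D8.struct hα e
  obtain ⟨m, hm, hG'⟩ := H3.D8.card_G hα e
  have hD := H3.D8.card_D hα e
  have hp : Fact (Nat.Prime 2) := ⟨Nat.prime_two⟩
  have hidx : (Subgroup.centralizer ({α} : Set G)).index = m := by
    have h1 := (Subgroup.centralizer ({α} : Set G)).card_mul_index
    rw [hD, hG'] at h1
    omega
  -- conjugate into `D`
  have hPD : ∃ g : G, g * u * g⁻¹ ∈ Subgroup.centralizer ({α} : Set G) := by
    have h1 : IsPGroup 2 (Subgroup.zpowers u) := by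
      apply IsPGroup.of_card (n := 1)
      rw [Nat.card_zpowers, hu, pow_one]
    obtain ⟨Q, hQ⟩ := h1.exists_le_sylow
    have h2 : IsPGroup 2 (Subgroup.centralizer ({α} : Set G)) := IsPGroup.of_card (n := 3) (by rw [hD]; norm_num)
    obtain ⟨P, hP⟩ := h2.exists_le_sylow
    have hPeq : (P : Subgroup G) = Subgroup.centralizer ({α} : Set G) := by
      symm
      apply Subgroup.eq_of_le_of_card_ge hP
      have h3 : Nat.card (P : Subgroup G) ∣ 8 * m := hG' ▸ (P : Subgroup G).card_subgroup_dvd_card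
      obtain ⟨n, hn⟩ := IsPGroup.iff_card.mp P.2
      have hn' : Nat.card (P : Subgroup G) = 2 ^ n := hn
      rw [hn'] at h3 ⊢
      have h4 : Nat.Coprime (2 ^ n) m := Nat.Coprime.pow_left _ (Nat.coprime_two_left.mpr hm)
      rw [hD]
      exact Nat.le_of_dvd (by norm_num) (h4.dvd_of_dvd_mul_right h3)
    obtain ⟨g, hg⟩ := MulAction.exists_smul_eq G Q P
    refine ⟨g, ?_⟩
    rw [← hPeq, ← hg, Sylow.coe_subgroup_smul]
    exact ⟨u, hQ (Subgroup.mem_zpowers u), rfl⟩
  obtain ⟨g, hg⟩ := hPD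
  obtain ⟨v, hv⟩ : ∃ v, v = g * u * g⁻¹ := ⟨_, rfl⟩
  rw [← hv] at hg
  have huv : IsConj v u := by
    rw [hv]; exact (isConj_iff.mpr ⟨g, rfl⟩ : IsConj u (g * u * g⁻¹)).symm
  have hv2 : orderOf v = 2 := by
    have h5 : v = MulAut.conj g u := hv
    rw [h5, ← hu]
    exact orderOf_injective (MulAut.conj g).toMonoidHom (MulAut.conj g).injective _
  refine IsConj.trans ?_ huv
  -- an involution in `zpowers x` is `t`
  have hXinv : ∀ w ∈ Subgroup.zpowers x, orderOf w = 2 → w = α := by
    intro w hw hw2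
    have hX := hw
    apply hcen w ((Subgroup.zpowers_le.mpr hx) hw) (by rintro rfl; rw [orderOf_one] at hw2; norm_num at hw2)
    intro d hd
    by_cases hdX : d ∈ Subgroup.zpowers x
    · obtain ⟨i, rfl⟩ := hdX
      obtain ⟨j, rfl⟩ := hw
      exact (Commute.refl x).zpow_zpow i j
    · have h6 := (hdih d hd hdX).2 w hw
      have h7 : w⁻¹ = w := inv_eq_of_mul_eq_one_left (by
        have := pow_orderOf_eq_one w; rwa [hw2, sq] at this)
      rw [h7] at h6
      exact mul_inv_eq_iff_eq_mul.mp h6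
  by_contra hcon
  have hv0 : ∀ k : G, k⁻¹ * v * k ∈ Subgroup.zpowers x → False := by
    intro k hk
    apply hcon
    have h8 : orderOf (k⁻¹ * v * k) = 2 := by
      have h5 : k⁻¹ * v * k = MulAut.conj k⁻¹ v := by simp
      rw [h5, ← hv2]
      exact orderOf_injective (MulAut.conj k⁻¹).toMonoidHom (MulAut.conj k⁻¹).injective _
    have h9 := hXinv _ hk h8
    rw [← h9]
    exact isConj_iff.mpr ⟨k, by group⟩
  have hXD : Subgroup.zpowers x ≤ Subgroup.centralizer ({α} : Set G) := Subgroup.zpowers_le.mpr hx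
  have hrel : (Subgroup.zpowers x).relIndex (Subgroup.centralizer ({α} : Set G)) = 2 := by
    have h10 : Nat.card ((Subgroup.zpowers x).subgroupOf (Subgroup.centralizer ({α} : Set G))) = 4 := by
      rw [Nat.card_congr (Subgroup.subgroupOfEquivOfLe hXD).toEquiv, Nat.card_zpowers, hx4]
    have h11 := ((Subgroup.zpowers x).subgroupOf (Subgroup.centralizer ({α} : Set G))).card_mul_index
    rw [h10, hD] at h11
    have h12 : ((Subgroup.zpowers x).subgroupOf (Subgroup.centralizer ({α} : Set G))).index = 2 := by omega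
    exact h12
  obtain ⟨K, hK, hK2, hvK⟩ := H19.Transfer.thompson (G := G) (by rw [hidx]; exact hm) hrel v ⟨1, by rw [hv2, pow_one]⟩
    (fun k _ hk => hv0 k hk) (by
      intro k j _
      have h13 : v ^ (2 ^ (j + 1)) = 1 := by
        rw [pow_succ, mul_comm, pow_mul]
        have : v ^ 2 = 1 := by rw [← hv2]; exact pow_orderOf_eq_one v
        rw [this, one_pow]
      rw [h13, mul_one, inv_mul_cancel]
      exact Subgroup.one_mem _)
  exact hG K hK2

variable (hc : ∀ u : G, orderOf u = 2 → IsConj α u)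

omit e hα in
omit [Finite G] in
theorem pow_eight (e : Subgroup.centralizer ({α} : Set G) ≃* DihedralGroup 4) {u m : G} (hu : IsConj α u) (hm : u * m = m * u) : m ^ 8 = 1 := by
  obtain ⟨g, hg⟩ := isConj_iff.mp hu
  have h1 : g⁻¹ * m * g ∈ Subgroup.centralizer ({α} : Set G) := by
    rw [Subgroup.mem_centralizer_singleton_iff]
    have h2 : α = g⁻¹ * u * g := by rw [← hg]; group
    rw [h2]
    calc g⁻¹ * m * g * (g⁻¹ * u * g) = g⁻¹ * (m * u) * g := by group
      _ = g⁻¹ * (u * m) * g := by rw [hm]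
      _ = g⁻¹ * u * g * (g⁻¹ * m * g) := by group
  have h2 : ∀ w : DihedralGroup 4, w ^ 8 = 1 := by decide
  have h3 : (⟨_, h1⟩ : Subgroup.centralizer ({α} : Set G)) ^ 8 = 1 := by
    apply e.injective
    rw [map_pow, h2, map_one]
  have h4 : (g⁻¹ * m * g) ^ 8 = 1 := congrArg Subtype.val h3
  have h5 : g⁻¹ * m * g = g⁻¹ * m * g⁻¹⁻¹ := by group
  rw [h5, conj_pow] at h4
  calc m ^ 8 = g * (g⁻¹ * m ^ 8 * g⁻¹⁻¹) * g⁻¹ := by group
    _ = 1 := by rw [h4]; group

include hc in
/-- no normal subgroups of odd order -/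
theorem odd_trivial (M : Subgroup G) [hM : M.Normal] (hodd : Odd (Nat.card M)) : M = ⊥ := by
  obtain ⟨f, hf, hfe⟩ : ∃ f : DihedralGroup 4 →* G, Function.Injective f ∧
      ∀ y, f y = (e.symm y : Subgroup.centralizer ({α} : Set G)) :=
    ⟨(Subgroup.centralizer ({α} : Set G)).subtype.comp e.symm.toMonoidHom,
      (Subgroup.subtype_injective _).comp e.symm.injective, fun y => rfl⟩
  have hfo : ∀ y, orderOf y = 2 → orderOf (f y) = 2 := fun y hy => by rw [orderOf_injective f hf, hy]
  have ho1 : orderOf (DihedralGroup.sr 0 : DihedralGroup 4) = 2 := orderOf_eq_prime (by decide) (by decide)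
  have ho2 : orderOf (DihedralGroup.r 2 : DihedralGroup 4) = 2 := orderOf_eq_prime (by decide) (by decide)
  have ho3 : orderOf (DihedralGroup.sr 2 : DihedralGroup 4) = 2 := orderOf_eq_prime (by decide) (by decide)
  have key : ∀ u : G, orderOf u = 2 → ∀ m ∈ M, u * m * u⁻¹ = m⁻¹ := by
    intro u hu
    apply H26.PQ.inverts_of_fixedPointFree hu M
    · rw [Subgroup.normalizer_eq_top]; exact Subgroup.mem_top u
    · exact hodd
    · intro m hm hmu
      have h1 := pow_eight e (hc u hu) hmu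
      have h2 : m ^ Nat.card M = 1 := congrArg Subtype.val (pow_card_eq_one' (x := (⟨m, hm⟩ : M)))
      have h3 : orderOf m ∣ 8 := orderOf_dvd_of_pow_eq_one h1
      have h4 : orderOf m ∣ Nat.card M := orderOf_dvd_of_pow_eq_one h2
      have h5 : Nat.Coprime 8 (Nat.card M) := by
        have : Nat.Coprime 2 (Nat.card M) := Nat.coprime_two_left.mpr hodd
        exact Nat.Coprime.pow_left 3 this
      have h6 := Nat.dvd_gcd h3 h4
      rw [h5] at h6
      exact orderOf_eq_one_iff.mp (Nat.dvd_one.mp h6)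
  rw [Subgroup.eq_bot_iff_forall]
  intro m hm
  have h1 := key _ (hfo _ ho1) m hm
  have h2 := key _ (hfo _ ho2) _ (M.inv_mem hm)
  have h3 := key _ (hfo _ ho3) m hm
  rw [inv_inv] at h2
  have h4 : (DihedralGroup.sr 2 : DihedralGroup 4) = DihedralGroup.r 2 * DihedralGroup.sr 0 := by decide
  rw [h4, map_mul] at h3
  have h5 : m⁻¹ = m := by
    rw [← h3]
    conv_rhs => rw [← h2, ← h1]
    group
  have h6 : m ^ 2 = 1 := by rw [sq]; nth_rewrite 1 [← h5]; exact inv_mul_cancel m
  have h7 : orderOf m ∣ 2 := orderOf_dvd_of_pow_eq_one h6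
  have h8 : orderOf m ∣ Nat.card M := Subgroup.orderOf_dvd_natCard M hm
  have h9 := Nat.dvd_gcd h7 h8
  rw [Nat.coprime_two_left.mpr hodd] at h9
  exact orderOf_eq_one_iff.mp (Nat.dvd_one.mp h9)

include hc in
/-- nontrivial normal subgroups contain all involutions -/
theorem mem_of_ne_bot (M : Subgroup G) [hM : M.Normal] (hne : M ≠ ⊥) : α ∈ M := by
  have h1 : ¬ Odd (Nat.card M) := fun h => hne (odd_trivial hα e hc M h)
  rw [Nat.not_odd_iff_even, even_iff_two_dvd] at h1
  haveI : Fact (Nat.Prime 2) := ⟨Nat.prime_two⟩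
  obtain ⟨u, hu⟩ := exists_prime_orderOf_dvd_card' (G := M) 2 h1
  have hu2 : orderOf (u : G) = 2 := by rw [Subgroup.orderOf_coe, hu]
  obtain ⟨g, hg⟩ := isConj_iff.mp (hc u hu2)
  have h2 : α = g⁻¹ * (u : G) * g⁻¹⁻¹ := by rw [← hg]; group
  rw [h2]
  exact hM.conj_mem _ u.2 _

include hc in
theorem cent_le (M : Subgroup G) [hM : M.Normal] (hne : M ≠ ⊥) : Subgroup.centralizer ({α} : Set G) ≤ M := by
  have h1 := mem_of_ne_bot hα e hc M hne
  have h2 : ∀ u : G, orderOf u = 2 → u ∈ M := by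
    intro u hu
    obtain ⟨g, hg⟩ := isConj_iff.mp (hc u hu)
    rw [← hg]
    exact hM.conj_mem _ h1 _
  obtain ⟨f, hf, hfe⟩ : ∃ f : DihedralGroup 4 →* G, Function.Injective f ∧
      ∀ y, f y = (e.symm y : Subgroup.centralizer ({α} : Set G)) :=
    ⟨(Subgroup.centralizer ({α} : Set G)).subtype.comp e.symm.toMonoidHom,
      (Subgroup.subtype_injective _).comp e.symm.injective, fun y => rfl⟩
  have hfo : ∀ y, orderOf y = 2 → f y ∈ M := fun y hy => h2 _ (by rw [orderOf_injective f hf, hy])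
  have ho1 : orderOf (DihedralGroup.sr 0 : DihedralGroup 4) = 2 := orderOf_eq_prime (by decide) (by decide)
  have ho2 : orderOf (DihedralGroup.sr 1 : DihedralGroup 4) = 2 := orderOf_eq_prime (by decide) (by decide)
  have hgen : ∀ w : DihedralGroup 4, ∃ i : Fin 4, w = (DihedralGroup.sr 0 * DihedralGroup.sr 1) ^ (i : ℕ) ∨
      w = DihedralGroup.sr 0 * (DihedralGroup.sr 0 * DihedralGroup.sr 1) ^ (i : ℕ) := by decide
  have hall : ∀ w, f w ∈ M := by
    intro w
    obtain ⟨i, h3 | h3⟩ := hgen w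
    · rw [h3, map_pow, map_mul]
      exact pow_mem (mul_mem (hfo _ ho1) (hfo _ ho2)) _
    · rw [h3, map_mul, map_pow, map_mul]
      exact mul_mem (hfo _ ho1) (pow_mem (mul_mem (hfo _ ho1) (hfo _ ho2)) _)
  intro d hd
  have h3 := hall (e ⟨d, hd⟩)
  rw [hfe, MulEquiv.symm_apply_apply] at h3
  exact h3

theorem main (hG : ∀ H : Subgroup G, H.index ≠ 2) : IsSimpleGroup G ∧ (Nat.card G = 168 ∨ Nat.card G = 360) := by
  have hc : ∀ u : G, orderOf u = 2 → IsConj α u := fun u hu => inv_conj hα e hG hu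
  have hα1 : α ≠ 1 := by rintro rfl; rw [orderOf_one] at hα; norm_num at hα
  obtain ⟨R, hR⟩ : ∃ R : Subgroup G, R = Subgroup.normalClosure {α} := ⟨_, rfl⟩
  have hRn : R.Normal := by rw [hR]; exact Subgroup.normalClosure_normal
  have hαR : α ∈ R := by rw [hR]; exact Subgroup.subset_normalClosure rfl
  have hRne : R ≠ ⊥ := by
    intro h; rw [h, Subgroup.mem_bot] at hαR; exact hα1 hαR
  have hRmin : ∀ M : Subgroup G, M.Normal → M ≠ ⊥ → R ≤ M := by
    intro M hM hne
    rw [hR]
    haveI := hM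
    exact Subgroup.normalClosure_le_normal (Set.singleton_subset_iff.mpr (mem_of_ne_bot hα e hc M hne))
  have hDR := cent_le hα e hc R hRne
  have hperf : ⁅R, R⁆ = R := by
    apply le_antisymm (Subgroup.commutator_le_left R R)
    apply hRmin _ inferInstance
    intro h1
    -- D is not abelian
    obtain ⟨f, hf, hfe⟩ : ∃ f : DihedralGroup 4 →* G, Function.Injective f ∧
        ∀ y, f y = (e.symm y : Subgroup.centralizer ({α} : Set G)) :=
      ⟨(Subgroup.centralizer ({α} : Set G)).subtype.comp e.symm.toMonoidHom,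
        (Subgroup.subtype_injective _).comp e.symm.injective, fun y => rfl⟩
    have hfR : ∀ y, f y ∈ R := fun y => by rw [hfe]; exact hDR (e.symm y).2
    have h2 : ⁅f (DihedralGroup.sr 0), f (DihedralGroup.sr 1)⁆ ∈ ⁅R, R⁆ :=
      Subgroup.commutator_mem_commutator (hfR _) (hfR _)
    rw [h1, Subgroup.mem_bot, ← map_commutatorElement, ← map_one f] at h2
    exact absurd (hf h2) (by decide)
  have hperf' : commutator R = ⊤ := by
    apply Subgroup.map_injective R.subtype_injective
    rw [Subgroup.map_subtype_commutator, hperf, ← MonoidHom.range_eq_map, Subgroup.range_subtype]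
  obtain ⟨e2⟩ := cent_equiv R hαR hDR
  have hα' : orderOf (⟨α, hαR⟩ : R) = 2 := by rw [← Subgroup.orderOf_coe]; exact hα
  have hcard := H3.D8.main hperf' (⟨α, hαR⟩ : R) hα' (e2.trans e)
  have hRtop : R = ⊤ := by
    rw [Subgroup.eq_top_iff']
    intro g
    have h1 : g * α * g⁻¹ ∈ R := hRn.conj_mem α hαR g
    have h2 : orderOf (⟨g * α * g⁻¹, h1⟩ : R) = 2 := by
      rw [← Subgroup.orderOf_coe, ← hα]
      exact orderOf_injective (MulAut.conj g).toMonoidHom (MulAut.conj g).injective α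
    obtain ⟨n, hn⟩ := isConj_iff.mp (H3.D8.inv_conj hα' (e2.trans e) hperf' h2)
    have h3 : (n : G) * α * (n : G)⁻¹ = g * α * g⁻¹ := congrArg Subtype.val hn
    have h4 : (n : G)⁻¹ * g ∈ R := by
      apply hDR
      rw [Subgroup.mem_centralizer_singleton_iff]
      calc (n : G)⁻¹ * g * α = (n : G)⁻¹ * (g * α * g⁻¹) * g := by group
        _ = α * ((n : G)⁻¹ * g) := by rw [← h3]; group
    have h5 : g = n * ((n : G)⁻¹ * g) := by group
    rw [h5]
    exact mul_mem n.2 h4
  constructor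
  · haveI : Nontrivial G := ⟨⟨α, 1, hα1⟩⟩
    refine ⟨fun M hM => ?_⟩
    by_cases hM1 : M = ⊥
    · exact Or.inl hM1
    · right
      rw [eq_top_iff, ← hRtop]
      exact hRmin M hM hM1
  · rw [hRtop, Subgroup.card_top] at hcard
    exact hcard

end Gen

/-! ### the centralizer in A6 -/

def c : Equiv.Perm (Fin 6) := Equiv.swap 0 1 * Equiv.swap 2 3
def r : Equiv.Perm (Fin 6) := c[0, 2, 1, 3] * c[4, 5]
def s : Equiv.Perm (Fin 6) := Equiv.swap 0 1 * Equiv.swap 4 5

theorem cent_list : ∀ g : Equiv.Perm (Fin 6), g * c = c * g → Equiv.Perm.sign g = 1 →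
    ∃ i : Fin 4, g = r ^ (i : ℕ) ∨ g = s * r ^ (i : ℕ) := by
  decide +kernel

theorem sign_r : r ∈ alternatingGroup (Fin 6) := by rw [Equiv.Perm.mem_alternatingGroup]; decide +kernel
theorem sign_s : s ∈ alternatingGroup (Fin 6) := by rw [Equiv.Perm.mem_alternatingGroup]; decide +kernel
theorem sign_c : c ∈ alternatingGroup (Fin 6) := by rw [Equiv.Perm.mem_alternatingGroup]; decide +kernel

theorem cent_c : Nonempty (Subgroup.centralizer ({(⟨c, sign_c⟩ : alternatingGroup (Fin 6))} : Set (alternatingGroup (Fin 6))) ≃*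
    DihedralGroup 4) := by
  obtain ⟨C, hC⟩ : ∃ C : Subgroup (alternatingGroup (Fin 6)), C = Subgroup.centralizer ({(⟨c, sign_c⟩ : alternatingGroup (Fin 6))} : Set (alternatingGroup (Fin 6))) := ⟨_, rfl⟩
  have hmem : ∀ g : alternatingGroup (Fin 6), g ∈ C ↔ (g : Equiv.Perm (Fin 6)) * c = c * (g : Equiv.Perm (Fin 6)) := by
    intro g
    rw [hC, Subgroup.mem_centralizer_singleton_iff]
    exact ⟨fun h => congrArg Subtype.val h, fun h => Subtype.ext h⟩
  rw [← hC]
  clear hC
  let j : C →* Equiv.Perm (Fin 6) := (alternatingGroup (Fin 6)).subtype.comp C.subtype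
  have hj : Function.Injective j := (Subgroup.subtype_injective _).comp (Subgroup.subtype_injective _)
  obtain ⟨x, hx⟩ : ∃ x : C, j x = r := ⟨⟨⟨r, sign_r⟩, (hmem _).mpr (by decide +kernel)⟩, rfl⟩
  obtain ⟨y, hy⟩ : ∃ y : C, j y = s := ⟨⟨⟨s, sign_s⟩, (hmem _).mpr (by decide +kernel)⟩, rfl⟩
  have hor : orderOf r = 4 := by
    have : orderOf r = 2 ^ (1 + 1) := by
      haveI : Fact (Nat.Prime 2) := ⟨Nat.prime_two⟩
      apply orderOf_eq_prime_pow
      · decide +kernel
      · decide +kernel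
    exact this
  have hor' : orderOf x = 4 := by rw [← orderOf_injective j hj, hx, hor]
  have hsurj : ∀ g : C, ∃ i : Fin 4 × Bool, g = if i.2 then x ^ (i.1 : ℕ) else y * x ^ (i.1 : ℕ) := by
    intro g
    obtain ⟨i, hi | hi⟩ := cent_list (j g) ((hmem _).mp g.2) (Equiv.Perm.mem_alternatingGroup.mp g.1.2)
    · refine ⟨(i, true), ?_⟩
      apply hj
      rw [if_pos rfl, map_pow, hx, hi]
    · refine ⟨(i, false), ?_⟩
      apply hj
      rw [if_neg (by simp), map_mul, map_pow, hx, hy, hi]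
  clear_value j
  apply H5.Dih.nonempty_dihedral (by norm_num) x y hor'
  · apply hj; rw [map_mul, hy, map_one]; decide +kernel
  · apply hj; rw [map_mul, map_mul, map_inv, map_inv, hx, hy]; decide +kernel
  · intro h
    obtain ⟨k, hk, hk2⟩ := O168.exists_pow_lt h
    rw [hor'] at hk
    have h1 : r ^ k = s := by rw [← hx, ← hy, ← map_pow, hk2]
    revert h1
    have : ∀ k < 4, r ^ k ≠ s := by decide +kernel
    exact this k hk
  · choose f hf using hsurj
    have hinj : Function.Injective f := by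
      intro a b hab
      rw [hf a, hf b, hab]
    have := Nat.card_le_card_of_injective f hinj
    rwa [Nat.card_eq_fintype_card (α := Fin 4 × Bool), Fintype.card_prod, Fintype.card_fin, Fintype.card_bool] at this

theorem cycle_c : (c : Equiv.Perm (Fin 6)).cycleType = {2, 2} := by
  decide +kernel

theorem cent_A6 (a : alternatingGroup (Fin 6)) (ha : orderOf a = 2) (hs : (a : Equiv.Perm (Fin 6)).support.card = 4) :
    Nonempty (Subgroup.centralizer ({a} : Set (alternatingGroup (Fin 6))) ≃* DihedralGroup 4) := by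
  have ho : orderOf (a : Equiv.Perm (Fin 6)) = 2 := by rw [Subgroup.orderOf_coe]; exact ha
  have h1 : (a : Equiv.Perm (Fin 6)) ^ 2 = 1 := by rw [← ho]; exact pow_orderOf_eq_one _
  haveI : Fact (Nat.Prime 2) := ⟨Nat.prime_two⟩
  have h2 : ∀ n ∈ (a : Equiv.Perm (Fin 6)).cycleType, n = 2 := Equiv.Perm.pow_prime_eq_one_iff.mp h1
  have h3 : (a : Equiv.Perm (Fin 6)).cycleType = Multiset.replicate (Multiset.card (a : Equiv.Perm (Fin 6)).cycleType) 2 :=
    Multiset.eq_replicate_card.mpr h2
  have h4 : (a : Equiv.Perm (Fin 6)).cycleType.sum = 4 := by rw [Equiv.Perm.sum_cycleType, hs]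
  have h5 : Multiset.card (a : Equiv.Perm (Fin 6)).cycleType = 2 := by
    rw [h3, Multiset.sum_replicate, smul_eq_mul] at h4
    omega
  rw [h5] at h3
  have h6 : IsConj c (a : Equiv.Perm (Fin 6)) := by
    rw [Equiv.Perm.isConj_iff_cycleType_eq, cycle_c, h3]; rfl
  obtain ⟨g, hg⟩ := isConj_iff.mp h6
  obtain ⟨e⟩ := cent_c
  let φ : alternatingGroup (Fin 6) ≃* alternatingGroup (Fin 6) := MulAut.conjNormal g
  have hφ : φ ⟨c, sign_c⟩ = a := by
    apply Subtype.ext
    rw [MulAut.conjNormal_apply]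
    exact hg
  have h7 : (Subgroup.centralizer ({(⟨c, sign_c⟩ : alternatingGroup (Fin 6))} : Set (alternatingGroup (Fin 6)))).map φ.toMonoidHom =
      Subgroup.centralizer ({a} : Set (alternatingGroup (Fin 6))) := by
    ext x
    constructor
    · rintro ⟨y, hy, rfl⟩
      rw [Subgroup.mem_centralizer_singleton_iff, ← hφ]
      change φ y * φ _ = φ _ * φ y
      rw [← map_mul, ← map_mul, Subgroup.mem_centralizer_singleton_iff.mp hy]
    · intro hx
      refine ⟨φ.symm x, ?_, φ.apply_symm_apply x⟩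
      change φ.symm x ∈ Subgroup.centralizer _
      rw [Subgroup.mem_centralizer_singleton_iff]
      apply φ.injective
      rw [map_mul, map_mul, φ.apply_symm_apply, hφ]
      exact Subgroup.mem_centralizer_singleton_iff.mp hx
  exact ⟨((MulEquiv.subgroupCongr h7.symm).trans
    (Subgroup.equivMapOfInjective _ φ.toMonoidHom φ.injective).symm).trans e⟩

end Cfsg.Agent.H21.D8rec
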