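import Mathlib
import Cfsg.Prelude.Def_CaseTheorems
import Cfsg.Agent.H21_D8rec
import Cfsg.Agent.H11_Cores
import Cfsg.Agent.H4_Elab4
import Cfsg.Agent.H5_PSL
import Cfsg.Agent.H5_Rec
import Cfsg.Agent.H5_SmallIso
import Cfsg.Agent.H5_GL
import Cfsg.Agent.H4_Count
import Cfsg.Agent.H21_O168
import Cfsg.Agent.H21_O360c

/-!
# Groups with an involution whose centralizer is dihedral of order 8: the general case
-/

set_option autoImplicit false
open scoped Pointwise commutatorElement

namespace Cfsg.Agent.H21.D8rec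
open MulAction Subgroup Cfsg.Agent

section Gen

variable {G : Type*} [Group G] [Finite G] {α : G} (hα : orderOf α = 2)
  (e : Subgroup.centralizer ({α} : Set G) ≃* DihedralGroup 4)

include hα e

theorem cover (K : Subgroup G) [K.Normal] (hK : K.index = 2) (M : Subgroup K) [hM : M.Normal]
    (h1 : (Nat.card M).Coprime 2) (h2 : Nat.card K = 4 * Nat.card M) :
    Subgroup.centralizer ({α} : Set G) ⊔ Cfsg.oddCore G = ⊤ := by
  have hle : M ≤ Cfsg.pPrimeCore 2 K := H11.Cores.le_pPrimeCore 2 h1
  have hN : ((Cfsg.pPrimeCore 2 K).map K.subtype).Normal := H11.Cores.map_subtype_normal_of_characteristic K _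
  have hle2 : (Cfsg.pPrimeCore 2 K).map K.subtype ≤ Cfsg.oddCore G := by
    apply H11.Cores.le_pPrimeCore 2
    rw [Nat.card_congr ((Cfsg.pPrimeCore 2 K).equivMapOfInjective _ K.subtype_injective).symm.toEquiv]
    exact H11.Cores.pPrimeCore_coprime 2
  have hle3 : M.map K.subtype ≤ Cfsg.oddCore G := (Subgroup.map_mono hle).trans hle2
  have hcM : Nat.card (M.map K.subtype) = Nat.card M :=
    Nat.card_congr (M.equivMapOfInjective _ K.subtype_injective).symm.toEquiv
  have hG : Nat.card G = 8 * Nat.card M := by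
    have := K.card_mul_index
    rw [hK, h2] at this
    omega
  have h3 : Nat.card M ∣ Nat.card (Subgroup.centralizer ({α} : Set G) ⊔ Cfsg.oddCore G : Subgroup G) := by
    rw [← hcM]
    exact Subgroup.card_dvd_of_le (hle3.trans le_sup_right)
  have h4 : 8 ∣ Nat.card (Subgroup.centralizer ({α} : Set G) ⊔ Cfsg.oddCore G : Subgroup G) := by
    rw [← H3.D8.card_D hα e]
    exact Subgroup.card_dvd_of_le le_sup_left
  have h5 : Nat.Coprime 8 (Nat.card M) := by
    have : Nat.Coprime (2 ^ 3) (Nat.card M) := Nat.Coprime.pow_left 3 h1.symm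
    exact this
  apply Subgroup.eq_top_of_card_eq
  apply Nat.dvd_antisymm (Subgroup.card_subgroup_dvd_card _)
  rw [hG]
  exact h5.mul_dvd_of_dvd_of_dvd h4 h3

/-- the facts about a normal subgroup of index two -/
theorem index_two (K : Subgroup G) [K.Normal] (hK : K.index = 2) :
    α ∈ K ∧ Nat.card (K ⊓ Subgroup.centralizer ({α} : Set G) : Subgroup G) = 4 ∧
      ∃ m, Odd m ∧ Nat.card K = 4 * m := by
  obtain ⟨x, hx, hx4, hxx, hdih, hcen⟩ := H3.D8.struct hα e
  obtain ⟨m, hm, hG⟩ := H3.D8.card_G hα e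
  have hD := H3.D8.card_D hα e
  have hαK : α ∈ K := by rw [← hxx]; exact Subgroup.mul_self_mem_of_index_two hK x
  have hcK : Nat.card K = 4 * m := by
    have := K.card_mul_index
    rw [hK, hG] at this
    omega
  refine ⟨hαK, ?_, m, hm, hcK⟩
  have h1 : K.relIndex (Subgroup.centralizer ({α} : Set G)) ∣ 2 := by
    rw [← hK]; exact Subgroup.relIndex_dvd_index_of_normal K _
  have h2 := H1.Basic.relIndex_mul_card (inf_le_right : K ⊓ Subgroup.centralizer ({α} : Set G) ≤ Subgroup.centralizer ({α} : Set G))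
  rw [Subgroup.inf_relIndex_right, hD] at h2
  rcases (Nat.dvd_prime Nat.prime_two).mp h1 with h3 | h3
  · exfalso
    rw [h3, one_mul] at h2
    have h4 := Subgroup.card_dvd_of_le (inf_le_left : K ⊓ Subgroup.centralizer ({α} : Set G) ≤ K)
    rw [h2, hcK] at h4
    obtain ⟨c, hc⟩ := h4
    obtain ⟨j, hj⟩ := hm
    omega
  · rw [h3] at h2
    omega

end Gen

/-- groups with an involution whose centralizer has order 4 -/
theorem v4_case {K : Type*} [Group K] [Finite K] {z : K} (hz : orderOf z = 2) {m : ℕ} (hm : Odd m)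
    (hK : Nat.card K = 4 * m) (hcen : Nat.card (Subgroup.centralizer ({z} : Set K)) = 4) :
    (∃ M : Subgroup K, M.Normal ∧ (Nat.card M).Coprime 2 ∧ Nat.card K = 4 * Nat.card M) ∨
    (∃ (T : Sylow 2 K) (a n : K), (T : Subgroup K) = Subgroup.centralizer ({z} : Set K) ∧ n * z * n⁻¹ = a ∧ n * a * n⁻¹ = z * a ∧
      a * a = 1 ∧ a ≠ z ∧ a ≠ 1 ∧ a * z = z * a ∧ (∀ t ∈ Subgroup.centralizer ({z} : Set K), t = 1 ∨ t = z ∨ t = a ∨ t = z * a) ∧
      H4.Elab.Hyp K) := by
  haveI : Fact (Nat.Prime 2) := ⟨Nat.prime_two⟩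
  have hpg : IsPGroup 2 (Subgroup.centralizer ({z} : Set K)) := IsPGroup.of_card (n := 2) (by rw [hcen]; norm_num)
  obtain ⟨T, hT⟩ := hpg.exists_le_sylow
  have hTe : (T : Subgroup K) = Subgroup.centralizer ({z} : Set K) := by
    symm
    apply Subgroup.eq_of_le_of_card_ge hT
    have h3 : Nat.card (T : Subgroup K) ∣ 4 * m := hK ▸ (T : Subgroup K).card_subgroup_dvd_card
    obtain ⟨n, hn⟩ := IsPGroup.iff_card.mp T.2
    have hn' : Nat.card (T : Subgroup K) = 2 ^ n := hn
    rw [hn'] at h3 ⊢
    have h4 : Nat.Coprime (2 ^ n) m := Nat.Coprime.pow_left _ (Nat.coprime_two_left.mpr hm)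
    rw [hcen]
    exact Nat.le_of_dvd (by norm_num) (h4.dvd_of_dvd_mul_right h3)
  have hcT : Nat.card (T : Subgroup K) = 4 := by rw [hTe, hcen]
  have hcomm : ∀ s ∈ (T : Subgroup K), ∀ t ∈ (T : Subgroup K), s * t = t * s := by
    intro s hs t ht
    have h1 := IsPGroup.isMulCommutative_of_card_eq_prime_sq (p := 2) (G := (T : Subgroup K)) (by rw [hcT]; norm_num)
    exact congrArg Subtype.val (h1.is_comm.comm (⟨s, hs⟩ : (T : Subgroup K)) ⟨t, ht⟩)
  have hz1 : z ≠ 1 := by rintro rfl; rw [orderOf_one] at hz; norm_num at hz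
  have hzz : z * z = 1 := by rw [← sq, ← hz]; exact pow_orderOf_eq_one z
  have hzT : z ∈ (T : Subgroup K) := by rw [hTe]; exact Subgroup.mem_centralizer_singleton_iff.mpr rfl
  by_cases hN : Subgroup.normalizer ((T : Subgroup K) : Set K) ≤ Subgroup.centralizer ((T : Subgroup K) : Set K)
  · left
    have hc := MonoidHom.ker_transferSylow_isComplement' T hN
    have h1 := hc.card_mul_card
    have h2 : Nat.card (MonoidHom.transferSylow T hN).ker * 4 = Nat.card K := by rw [← hcT]; exact h1
    have h3 : Nat.card (MonoidHom.transferSylow T hN).ker = m := by rw [hK] at h2; omega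
    refine ⟨(MonoidHom.transferSylow T hN).ker, inferInstance, ?_, by rw [h3, hK]⟩
    rw [h3]; exact (Nat.coprime_two_left.mpr hm).symm
  · right
    rw [SetLike.le_def] at hN
    push Not at hN
    obtain ⟨n, hn, hn2⟩ := hN
    have hnT : n ∉ (T : Subgroup K) := by
      intro h1
      apply hn2
      rw [Subgroup.mem_centralizer_iff]
      intro t ht
      exact hcomm t ht n h1
    have hnz : n * z * n⁻¹ ≠ z := by
      intro h1
      apply hnT
      rw [hTe, Subgroup.mem_centralizer_singleton_iff]
      exact mul_inv_eq_iff_eq_mul.mp h1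
    have hconj : ∀ t ∈ (T : Subgroup K), n * t * n⁻¹ ∈ (T : Subgroup K) := fun t ht =>
      (Subgroup.mem_normalizer_iff.mp hn t).mp ht
    obtain ⟨a, ha⟩ : ∃ a, a = n * z * n⁻¹ := ⟨_, rfl⟩
    have haT : a ∈ (T : Subgroup K) := by rw [ha]; exact hconj z hzT
    have haa : a * a = 1 := by rw [ha]; calc n * z * n⁻¹ * (n * z * n⁻¹) = n * (z * z) * n⁻¹ := by group
      _ = 1 := by rw [hzz]; group
    have ha1 : a ≠ 1 := by
      intro h1; apply hz1
      calc z = n⁻¹ * (n * z * n⁻¹) * n := by group
        _ = 1 := by rw [← ha, h1]; group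
    have haz : a ≠ z := by rw [ha]; exact hnz
    have hza1 : z * a ≠ 1 := by
      intro h1; apply haz
      rw [eq_inv_of_mul_eq_one_right h1]; exact inv_eq_of_mul_eq_one_left hzz
    have hlist : ∀ t ∈ (T : Subgroup K), t = 1 ∨ t = z ∨ t = a ∨ t = z * a := by
      classical
      intro t ht
      by_contra hcon
      push Not at hcon
      obtain ⟨h1, h2, h3, h4⟩ := hcon
      haveI := Fintype.ofFinite (T : Subgroup K)
      have h5 : (({⟨1, one_mem _⟩, ⟨z, hzT⟩, ⟨a, haT⟩, ⟨z * a, mul_mem hzT haT⟩, ⟨t, ht⟩} : Finset (T : Subgroup K))).card = 5 := by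
        rw [Finset.card_insert_of_notMem, Finset.card_insert_of_notMem, Finset.card_insert_of_notMem, Finset.card_insert_of_notMem,
          Finset.card_singleton]
        · simp only [Finset.mem_singleton, Subtype.mk.injEq]; exact fun h => h4 h.symm
        · simp only [Finset.mem_insert, Finset.mem_singleton, Subtype.mk.injEq]
          push Not
          exact ⟨fun h => hz1 (mul_eq_right.mp h.symm), fun h => h3 h.symm⟩
        · simp only [Finset.mem_insert, Finset.mem_singleton, Subtype.mk.injEq]
          push Not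
          exact ⟨fun h => haz h.symm, fun h => ha1 (mul_eq_left.mp h.symm), fun h => h2 h.symm⟩
        · simp only [Finset.mem_insert, Finset.mem_singleton, Subtype.mk.injEq]
          push Not
          exact ⟨fun h => hz1 h.symm, fun h => ha1 h.symm, fun h => hza1 h.symm, fun h => h1 h.symm⟩
      have h6 := Finset.card_le_univ (({⟨1, one_mem _⟩, ⟨z, hzT⟩, ⟨a, haT⟩, ⟨z * a, mul_mem hzT haT⟩, ⟨t, ht⟩} : Finset (T : Subgroup K)))
      rw [h5, ← Nat.card_eq_fintype_card, hcT] at h6
      omega
    have hb : n * a * n⁻¹ = z * a := by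
      have h1 := hlist _ (hconj a haT)
      rcases h1 with h1 | h1 | h1 | h1
      · exfalso; apply ha1
        calc a = n⁻¹ * (n * a * n⁻¹) * n := by group
          _ = 1 := by rw [h1]; group
      · exfalso
        -- n is a 2-element
        have h2 : n * n ∈ (T : Subgroup K) := by
          rw [hTe, Subgroup.mem_centralizer_singleton_iff]
          have h3 : (n * n) * z * (n * n)⁻¹ = z := by
            calc (n * n) * z * (n * n)⁻¹ = n * (n * z * n⁻¹) * n⁻¹ := by group
              _ = z := by rw [← ha, h1]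
          exact mul_inv_eq_iff_eq_mul.mp h3
        have h4 : (n * n) ^ 4 = 1 := by
          have := pow_card_eq_one' (x := (⟨n * n, h2⟩ : (T : Subgroup K)))
          rw [hcT] at this
          exact congrArg Subtype.val this
        have h5 : orderOf n ∣ 2 ^ 3 := by
          apply orderOf_dvd_of_pow_eq_one
          rw [← h4, ← sq, ← pow_mul]; norm_num
        obtain ⟨k, -, hk⟩ := (Nat.dvd_prime_pow Nat.prime_two).mp h5
        exact hnT (H4.Elab.invol_mem T hk hn)
      · exfalso; apply haz
        have : a = z := by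
          calc a = n⁻¹ * (n * a * n⁻¹) * n := by group
            _ = n⁻¹ * (n * z * n⁻¹) * n := by rw [h1, ha]
            _ = z := by group
        exact this
      · exact h1
    have hTsq : ∀ t ∈ (T : Subgroup K), t * t = 1 := by
      intro t ht
      rcases hlist t ht with rfl | rfl | rfl | rfl
      · exact one_mul 1
      · exact hzz
      · exact haa
      · calc z * a * (z * a) = z * (a * z) * a := by group
          _ = (z * z) * (a * a) := by rw [hcomm a haT z hzT]; group
          _ = 1 := by rw [hzz, haa, one_mul]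
    have hnza : n * (z * a) * n⁻¹ = z := by
      calc n * (z * a) * n⁻¹ = (n * z * n⁻¹) * (n * a * n⁻¹) := by group
        _ = a * (z * a) := by rw [hb, ← ha]
        _ = z := by rw [← mul_assoc, hcomm a haT z hzT, mul_assoc, haa, mul_one]
    have hallconj : ∀ t : K, orderOf t = 2 → IsConj z t := by
      intro t ht
      have h1 : IsPGroup 2 (Subgroup.zpowers t) := IsPGroup.of_card (n := 1) (by rw [Nat.card_zpowers, ht, pow_one])
      obtain ⟨Q, hQ⟩ := h1.exists_le_sylow
      obtain ⟨g, hg⟩ := MulAction.exists_smul_eq K Q T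
      have h2 : g * t * g⁻¹ ∈ (T : Subgroup K) := by
        rw [← hg, Sylow.coe_subgroup_smul]
        exact ⟨t, hQ (Subgroup.mem_zpowers t), rfl⟩
      have h3 : g * t * g⁻¹ ≠ 1 := by
        intro h4
        have : t = 1 := by
          calc t = g⁻¹ * (g * t * g⁻¹) * g := by group
            _ = 1 := by rw [h4]; group
        rw [this, orderOf_one] at ht
        norm_num at ht
      have h5 : IsConj (g * t * g⁻¹) t := (isConj_iff.mpr ⟨g, rfl⟩ : IsConj t (g * t * g⁻¹)).symm
      rcases hlist _ h2 with h4 | h4 | h4 | h4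
      · exact absurd h4 h3
      · rw [h4] at h5; exact h5
      · rw [h4] at h5; exact (isConj_iff.mpr ⟨n, ha.symm⟩ : IsConj z a).trans h5
      · rw [h4] at h5; exact ((isConj_iff.mpr ⟨n, hnza⟩ : IsConj (z * a) z).symm).trans h5
    refine ⟨T, a, n, hTe, ha.symm, hb, haa, haz, ha1, hcomm a haT z hzT, fun t ht => hlist t (hTe ▸ ht), ?_⟩
    intro t ht
    obtain ⟨g, hg⟩ := isConj_iff.mp (hallconj t ht)
    have hin : ∀ c ∈ Subgroup.centralizer ({t} : Set K), g⁻¹ * c * g ∈ (T : Subgroup K) := by
      intro c hc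
      rw [hTe, Subgroup.mem_centralizer_singleton_iff]
      have h2 : z = g⁻¹ * t * g := by rw [← hg]; group
      have h3 := Subgroup.mem_centralizer_singleton_iff.mp hc
      rw [h2]
      calc g⁻¹ * c * g * (g⁻¹ * t * g) = g⁻¹ * (c * t) * g := by group
        _ = g⁻¹ * (t * c) * g := by rw [h3]
        _ = g⁻¹ * t * g * (g⁻¹ * c * g) := by group
    constructor
    · refine ⟨⟨fun c d => Subtype.ext ?_⟩⟩
      have h1 := hcomm _ (hin c c.2) _ (hin d d.2)
      change (c : K) * d = d * c
      calc (c : K) * d = g * ((g⁻¹ * c * g) * (g⁻¹ * d * g)) * g⁻¹ := by group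
        _ = g * ((g⁻¹ * d * g) * (g⁻¹ * c * g)) * g⁻¹ := by rw [h1]
        _ = d * c := by group
    · intro c hc
      have h1 := hTsq _ (hin c hc)
      rw [sq]
      calc c * c = g * ((g⁻¹ * c * g) * (g⁻¹ * c * g)) * g⁻¹ := by group
        _ = 1 := by rw [h1]; group


/-- simple groups of order 168 are `SL(3,2)` -/
theorem iso_SL32 {G : Type*} [Group G] [Finite G] [IsSimpleGroup G] (h : Nat.card G = 168) :
    Nonempty (G ≃* Matrix.SpecialLinearGroup (Fin 3) (ZMod 2)) := by
  haveI := H5.PSLn.isSimpleGroup_PSL (ι := Fin 3) (F := ZMod 2) (by simp)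
  have h2 : Fintype.card (ZMod 2) = 2 := ZMod.card 2
  have hc := H5.GL.card_SL h2 3 (by norm_num)
  have h3 : Nat.card (Matrix.SpecialLinearGroup (Fin 3) (ZMod 2)) = 168 := by
    simp only [Fin.prod_univ_three, Fin.val_zero, Fin.val_one, Fin.val_two] at hc
    norm_num at hc
    rw [Nat.card_eq_fintype_card, hc]
  have h4 := H5.GL.card_PSL_mul h2 3 (by norm_num)
  have h5 : Nat.card (Matrix.ProjectiveSpecialLinearGroup (Fin 3) (ZMod 2)) = 168 := by
    rw [h3] at h4
    simpa using h4
  obtain ⟨e⟩ := O168.unique (G := G) h h5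
  have h6 : Function.Bijective (QuotientGroup.mk' (Subgroup.center (Matrix.SpecialLinearGroup (Fin 3) (ZMod 2)))) := by
    rw [Nat.bijective_iff_surjective_and_card]
    refine ⟨QuotientGroup.mk'_surjective _, ?_⟩
    rw [h3]; exact h5.symm
  exact ⟨e.trans (MulEquiv.ofBijective _ h6).symm⟩


section Gen2

variable {G : Type*} [Group G] [Finite G] {α : G} (hα : orderOf α = 2)
  (e : Subgroup.centralizer ({α} : Set G) ≃* DihedralGroup 4)

include hα e

theorem classify : Subgroup.centralizer ({α} : Set G) ⊔ Cfsg.oddCore G = ⊤ ∨ Nonempty (G ≃* Equiv.Perm (Fin 4)) ∨ Nonempty (G ≃* Equiv.Perm (Fin 5)) ∨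
      Nonempty (G ≃* Matrix.SpecialLinearGroup (Fin 3) (ZMod 2)) ∨ Nonempty (G ≃* ↥(alternatingGroup (Fin 6))) := by
  by_cases hG : ∀ H : Subgroup G, H.index ≠ 2
  · obtain ⟨hS, h1 | h1⟩ := main hα e hG
    · exact Or.inr (Or.inr (Or.inr (Or.inl (iso_SL32 h1))))
    · exact Or.inr (Or.inr (Or.inr (Or.inr (O360.iso_A6 h1))))
  push Not at hG
  obtain ⟨K, hK⟩ := hG
  haveI hKn : K.Normal := Subgroup.normal_of_index_eq_two hK
  obtain ⟨hαK, hc4, m, hm, hcK⟩ := index_two hα e K hK
  have hGK : Nat.card G = 2 * Nat.card K := by rw [← K.card_mul_index, hK, mul_comm]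
  set z : K := ⟨α, hαK⟩ with hz
  have hz2 : orderOf z = 2 := by rw [← hα]; exact Subgroup.orderOf_mk _ _
  have hcen : Nat.card (Subgroup.centralizer ({z} : Set K)) = 4 := by
    rw [← hc4]
    have h1 : (Subgroup.centralizer ({z} : Set K)).map K.subtype = K ⊓ Subgroup.centralizer ({α} : Set G) := by
      ext x
      constructor
      · rintro ⟨y, hy, rfl⟩
        refine ⟨y.2, ?_⟩
        have := Subgroup.mem_centralizer_singleton_iff.mp hy
        exact Subgroup.mem_centralizer_singleton_iff.mpr (congrArg Subtype.val this)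
      · rintro ⟨hx, hy⟩
        refine ⟨⟨x, hx⟩, ?_, rfl⟩
        exact Subgroup.mem_centralizer_singleton_iff.mpr (Subtype.ext (Subgroup.mem_centralizer_singleton_iff.mp hy))
    rw [← h1]
    exact Nat.card_congr ((Subgroup.centralizer ({z} : Set K)).equivMapOfInjective _ K.subtype_injective).toEquiv
  rcases v4_case hz2 hm hcK hcen with ⟨M, hM, h1, h2⟩ | ⟨T, a, n, hT, hna, hnb, haa, haz, ha1, hcomm, hlist, hyp⟩
  · left
    haveI := hM
    exact cover hα e K hK M h1 h2
  right
  obtain ⟨x0, hx0, hx4, hxx, hdih, hcentral⟩ := H3.D8.struct hα e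
  have hzz : z * z = 1 := by rw [← sq, ← hz2]; exact pow_orderOf_eq_one z
  have hz1 : z ≠ 1 := by intro h; rw [h, orderOf_one] at hz2; norm_num at hz2
  have haT : a ∈ Subgroup.centralizer ({z} : Set K) := Subgroup.mem_centralizer_singleton_iff.mpr hcomm
  have hTcomm : ∀ t ∈ Subgroup.centralizer ({z} : Set K), t * a = a * t := by
    intro t ht
    rcases hlist t ht with rfl | rfl | rfl | rfl
    · group
    · exact hcomm.symm
    · rfl
    · rw [← mul_assoc, hcomm]
  -- elements outside `K` centralizing `α` do not centralize `a`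
  have hout : ∀ d : G, d ∈ Subgroup.centralizer ({α} : Set G) → d ∉ K → d * (a : G) * d⁻¹ ≠ a := by
    intro d hd hdK h1
    have h2 := hcentral (a : G) (Subgroup.mem_centralizer_singleton_iff.mpr (congrArg Subtype.val hcomm))
      (fun h => ha1 (Subtype.ext h)) (fun d' hd' => by
        by_cases hd'K : d' ∈ K
        · have h3 := hTcomm ⟨d', hd'K⟩ (Subgroup.mem_centralizer_singleton_iff.mpr (Subtype.ext (Subgroup.mem_centralizer_singleton_iff.mp hd')))
          exact congrArg Subtype.val h3
        · have h4 : d⁻¹ * d' ∈ K := Subgroup.mul_mem_iff_of_index_two hK |>.mpr (by simp [hdK, hd'K])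
          have h5 : d⁻¹ * d' ∈ Subgroup.centralizer ({α} : Set G) := mul_mem (inv_mem hd) hd'
          have h3 := congrArg Subtype.val (hTcomm ⟨d⁻¹ * d', h4⟩ (Subgroup.mem_centralizer_singleton_iff.mpr (Subtype.ext (Subgroup.mem_centralizer_singleton_iff.mp h5))))
          change d⁻¹ * d' * (a : G) = a * (d⁻¹ * d') at h3
          have h6 : d * (a : G) = a * d := mul_inv_eq_iff_eq_mul.mp h1
          calc d' * (a : G) = d * (d⁻¹ * d' * a) := by group
            _ = (d * a) * (d⁻¹ * d') := by rw [h3]; group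
            _ = a * d' := by rw [h6]; group)
    exact haz (Subtype.ext h2)
  -- `n`-action
  have hcommT : a * z = z * a := hcomm
  have hnza : n * (z * a) * n⁻¹ = z := by
    calc n * (z * a) * n⁻¹ = (n * z * n⁻¹) * (n * a * n⁻¹) := by group
      _ = a * (z * a) := by rw [hnb, hna]
      _ = z := by rw [← mul_assoc, hcomm, mul_assoc, haa, mul_one]
  have hn3 : n * n * n ∈ Subgroup.centralizer ({z} : Set K) := by
    rw [Subgroup.mem_centralizer_singleton_iff]
    apply mul_inv_eq_iff_eq_mul.mp
    calc n * n * n * z * (n * n * n)⁻¹ = n * (n * (n * z * n⁻¹) * n⁻¹) * n⁻¹ := by group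
      _ = z := by rw [hna, hnb, hnza]
  have hsq : ∀ t ∈ Subgroup.centralizer ({z} : Set K), t * t = 1 := by
    intro t ht
    rcases hlist t ht with rfl | rfl | rfl | rfl
    · exact one_mul 1
    · exact hzz
    · exact haa
    · calc z * a * (z * a) = z * (a * z) * a := by group
        _ = (z * z) * (a * a) := by rw [hcomm]; group
        _ = 1 := by rw [hzz, haa, one_mul]
  have hn3z : (n * n * n) * z * (n * n * n)⁻¹ = z := by
    rw [Subgroup.mem_centralizer_singleton_iff.mp hn3]; group
  have hn3a : (n * n * n) * a * (n * n * n)⁻¹ = a := by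
    rw [hTcomm _ hn3]; group
  have hpair : H5.V4.IsCPair z a := ⟨hzz, haa, hcomm.symm, hz1, ha1, fun h => haz h.symm⟩
  -- an element of `D` outside `K`
  obtain ⟨d, hdD, hdK⟩ : ∃ d ∈ Subgroup.centralizer ({α} : Set G), d ∉ K := by
    by_contra hcon
    push Not at hcon
    have h1 : K ⊓ Subgroup.centralizer ({α} : Set G) = Subgroup.centralizer ({α} : Set G) := inf_eq_right.mpr hcon
    rw [h1, H3.D8.card_D hα e] at hc4
    omega
  have hdz : d * α * d⁻¹ = α := by rw [Subgroup.mem_centralizer_singleton_iff.mp hdD]; group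
  have hda : d * (a : G) * d⁻¹ = α * a := by
    have h1 : d * (a : G) * d⁻¹ ∈ K := hKn.conj_mem a a.2 d
    have h2 : (⟨d * (a : G) * d⁻¹, h1⟩ : K) ∈ Subgroup.centralizer ({z} : Set K) := by
      rw [Subgroup.mem_centralizer_singleton_iff]
      apply Subtype.ext
      change d * (a : G) * d⁻¹ * α = α * (d * (a : G) * d⁻¹)
      have h3 : (a : G) * α = α * a := congrArg Subtype.val hcomm
      calc d * (a : G) * d⁻¹ * α = d * (a : G) * d⁻¹ * (d * α * d⁻¹) := by rw [hdz]
        _ = d * (a * α) * d⁻¹ := by group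
        _ = (d * α * d⁻¹) * (d * a * d⁻¹) := by rw [h3]; group
        _ = _ := by rw [hdz]
    rcases hlist _ h2 with h4 | h4 | h4 | h4
    · exfalso; apply ha1
      have h5 : d * (a : G) * d⁻¹ = 1 := congrArg Subtype.val h4
      apply Subtype.ext
      calc (a : G) = d⁻¹ * (d * a * d⁻¹) * d := by group
        _ = 1 := by rw [h5]; group
    · exfalso; apply haz
      have h5 : d * (a : G) * d⁻¹ = α := congrArg Subtype.val h4
      apply Subtype.ext
      calc (a : G) = d⁻¹ * (d * a * d⁻¹) * d := by group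
        _ = d⁻¹ * (d * α * d⁻¹) * d := by rw [h5, hdz]
        _ = α := by group
    · exact absurd (congrArg Subtype.val h4) (hout d hdD hdK)
    · exact congrArg Subtype.val h4
  by_cases hTn : (T : Subgroup K).Normal
  · left
    have hcl : Nat.card {x : K // ∃ g, g * z * g⁻¹ = x} = 3 := by
      classical
      have h1 : ∀ x : K, x ∈ ({z, a, z * a} : Finset K) ↔ ∃ g, g * z * g⁻¹ = x := by
        intro x
        simp only [Finset.mem_insert, Finset.mem_singleton]
        constructor
        · rintro (rfl | rfl | rfl)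
          · exact ⟨1, by group⟩
          · exact ⟨n, hna⟩
          · refine ⟨n * n, ?_⟩
            calc n * n * z * (n * n)⁻¹ = n * (n * z * n⁻¹) * n⁻¹ := by group
              _ = _ := by rw [hna, hnb]
        · rintro ⟨g, rfl⟩
          have h2 : g * z * g⁻¹ ∈ (T : Subgroup K) := hTn.conj_mem z (by rw [hT]; exact Subgroup.mem_centralizer_singleton_iff.mpr rfl) g
          rw [hT] at h2
          rcases hlist _ h2 with h3 | h3 | h3 | h3
          · exfalso; apply hz1
            calc z = g⁻¹ * (g * z * g⁻¹) * g := by group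
              _ = 1 := by rw [h3]; group
          · exact Or.inl h3
          · exact Or.inr (Or.inl h3)
          · exact Or.inr (Or.inr h3)
      rw [Nat.subtype_card _ h1]
      rw [Finset.card_insert_of_notMem, Finset.card_insert_of_notMem, Finset.card_singleton]
      · rw [Finset.mem_singleton]; exact fun h => hz1 (mul_eq_right.mp h.symm)
      · simp only [Finset.mem_insert, Finset.mem_singleton]
        rintro (h | h)
        · exact haz h.symm
        · exact ha1 (mul_eq_left.mp h.symm)
    have hK12 : Nat.card K = 12 := by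
      have := H4.Count.class_card z
      rw [hcen, hcl] at this
      exact this
    have hc12 : (n * n * n * n) * (n * n * n * n) * (n * n * n * n) = 1 := by
      have h1 := hsq _ hn3
      calc (n * n * n * n) * (n * n * n * n) * (n * n * n * n) = ((n * n * n) * (n * n * n)) * ((n * n * n) * (n * n * n)) := by group
        _ = 1 := by rw [h1, one_mul]
    have hG24 : Nat.card G = 24 := by rw [hGK, hK12]
    have hpairG : H5.V4.IsCPair α (a : G) := ⟨congrArg Subtype.val hzz, congrArg Subtype.val haa, (congrArg Subtype.val hcomm).symm,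
      fun h => hz1 (Subtype.ext h), fun h => ha1 (Subtype.ext h), fun h => haz (Subtype.ext h.symm)⟩
    have hca : (n * n * n * n) * z * (n * n * n * n)⁻¹ = a := by
      calc (n * n * n * n) * z * (n * n * n * n)⁻¹ = n * ((n * n * n) * z * (n * n * n)⁻¹) * n⁻¹ := by group
        _ = a := by rw [hn3z, hna]
    have hcb : (n * n * n * n) * a * (n * n * n * n)⁻¹ = z * a := by
      calc (n * n * n * n) * a * (n * n * n * n)⁻¹ = n * ((n * n * n) * a * (n * n * n)⁻¹) * n⁻¹ := by group
        _ = z * a := by rw [hn3a, hnb]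
    have hgz : (n : G) * α * (n : G)⁻¹ = a := congrArg Subtype.val hna
    have hga : (n : G) * a * (n : G)⁻¹ = α * a := congrArg Subtype.val hnb
    have hgza : (n : G) * (α * a) * (n : G)⁻¹ = α := congrArg Subtype.val hnza
    have hzz' : α * α = 1 := congrArg Subtype.val hzz
    have haa' : (a : G) * a = 1 := congrArg Subtype.val haa
    have hdza : d * (α * a) * d⁻¹ = a := by
      calc d * (α * a) * d⁻¹ = (d * α * d⁻¹) * (d * a * d⁻¹) := by group
        _ = (α * α) * a := by rw [hdz, hda]; group
        _ = a := by rw [hzz', one_mul]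
    -- inverse images
    have hi1 : (n : G)⁻¹ * a * n = α := by rw [← hgz]; group
    have hi2 : (n : G)⁻¹ * (α * a) * n = a := by rw [← hga]; group
    have hi3 : (n : G)⁻¹ * α * n = α * a := by
      calc (n : G)⁻¹ * α * n = (n : G)⁻¹ * ((n : G) * (α * a) * (n : G)⁻¹) * n := by rw [hgza]
        _ = α * a := by group
    refine H5.Rec.s4_rec hG24 hpairG (c := (n : G) * n * n * n) (congrArg Subtype.val hca) (congrArg Subtype.val hcb)
      (congrArg Subtype.val hc12) (r := (n : G) * n * d * (n : G)⁻¹ * (n : G)⁻¹) ?_ ?_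
    · calc (n : G) * n * d * (n : G)⁻¹ * (n : G)⁻¹ * α * ((n : G) * n * d * (n : G)⁻¹ * (n : G)⁻¹)⁻¹
          = n * (n * (d * ((n : G)⁻¹ * ((n : G)⁻¹ * α * n) * n) * d⁻¹) * (n : G)⁻¹) * (n : G)⁻¹ := by
            simp only [mul_inv_rev, inv_inv, mul_assoc]
        _ = a := by rw [hi3, hi2, hda, hgza, hgz]
    · calc (n : G) * n * d * (n : G)⁻¹ * (n : G)⁻¹ * a * ((n : G) * n * d * (n : G)⁻¹ * (n : G)⁻¹)⁻¹
          = n * (n * (d * ((n : G)⁻¹ * ((n : G)⁻¹ * a * n) * n) * d⁻¹) * (n : G)⁻¹) * (n : G)⁻¹ := by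
            simp only [mul_inv_rev, inv_inv, mul_assoc]
        _ = α := by rw [hi1, hi3, hdza, hga, hgza]
  · right; left
    have hcT : Nat.card (T : Subgroup K) = 4 := by rw [hT, hcen]
    have hnc : ¬ IsCyclic (T : Subgroup K) := by
      intro hcy
      obtain ⟨g, hg⟩ := IsCyclic.exists_ofOrder_eq_natCard (α := (T : Subgroup K))
      rw [hcT] at hg
      have h1 : g * g = 1 := Subtype.ext (hsq g (hT ▸ g.2))
      have h2 : orderOf g ∣ 2 := orderOf_dvd_of_pow_eq_one (by rw [sq]; exact h1)
      rw [hg] at h2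
      omega
    obtain ⟨F, hF, hF', hF4, ⟨eK⟩⟩ := H4.Elab4.main T hyp hTn hnc
    rw [hcT] at hF4
    obtain ⟨e5⟩ := H5.SmallIso.psl2_4 hF4
    have eK5 : K ≃* alternatingGroup (Fin 5) := eK.trans e5
    haveI : IsSimpleGroup (alternatingGroup (Fin 5)) := alternatingGroup.isSimpleGroup (by simp)
    haveI hKs : IsSimpleGroup K := eK5.isSimpleGroup
    have hK60 : Nat.card K = 60 := by
      rw [Nat.card_congr eK5.toEquiv, nat_card_alternatingGroup, Nat.card_eq_fintype_card, Fintype.card_fin]; rfl
    have hG120 : Nat.card G = 120 := by rw [hGK, hK60]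
    have hns : Nat.card (Sylow 2 K) = 5 := by
      have h1 := H4.Elab3.card_points T hyp hTn hnc
      rw [hcT] at h1
      rw [Sylow.card_eq_index_normalizer T]
      exact h1
    let φ : G →* Equiv.Perm (Sylow 2 K) := (MulAction.toPermHom (MulAut K) (Sylow 2 K)).comp (MulAut.conjNormal)
    refine H5.SmallIso.perm_of_hom hns φ ?_ (by rw [hG120]; rfl)
    rw [← MonoidHom.ker_eq_bot_iff, eq_bot_iff]
    have hinf : φ.ker ⊓ K = ⊥ := by
      have h1 : (φ.ker.subgroupOf K).Normal := inferInstance
      rcases h1.eq_bot_or_eq_top with h2 | h2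
      · rw [Subgroup.subgroupOf_eq_bot] at h2
        exact disjoint_iff.mp h2
      · exfalso
        rw [Subgroup.subgroupOf_eq_top] at h2
        have h3 : Subsingleton (Sylow 2 K) := by
          constructor
          intro P Q
          obtain ⟨g, hg⟩ := MulAction.exists_smul_eq K P Q
          rw [← hg]
          have h4 := MonoidHom.mem_ker.mp (h2 g.2)
          have h5 := Equiv.ext_iff.mp h4 P
          have h6 : φ (g : G) P = g • P := by
            change (MulAut.conjNormal (g : G) : MulAut K) • P = g • P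
            rw [MulAut.conjNormal_val]
            rfl
          rw [← h6]; exact h5.symm
        have h4 : Nat.card (Sylow 2 K) ≤ 1 := Finite.card_le_one_iff_subsingleton.mpr h3
        omega
    intro x hx
    have hxK : ∀ k ∈ K, x * k = k * x := by
      intro k hk
      have h1 := Subgroup.commute_of_normal_of_disjoint φ.ker K inferInstance inferInstance (disjoint_iff.mpr hinf) x k hx hk
      exact h1
    have hxD : x ∈ Subgroup.centralizer ({α} : Set G) := Subgroup.mem_centralizer_singleton_iff.mpr (hxK α hαK)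
    by_cases hxx : x ∈ K
    · rw [← hinf]; exact ⟨hx, hxx⟩
    · exfalso
      apply hout x hxD hxx
      rw [hxK _ a.2]; group

end Gen2

end Cfsg.Agent.H21.D8rec
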