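import Cfsg.Statements.S0494
import Cfsg.Agent.H21_D8rec2
import Cfsg.Agent.H9_Small3

set_option autoImplicit false
open Cfsg

namespace Cfsg.Agent.S0494



/-- A simple group of order 60 is isomorphic to the alternating group of degree 5. -/
theorem result {G : Type*} [Group G] [Finite G] [IsSimpleGroup G]
    (h : Nat.card G = 60) : Nonempty (G ≃* alternatingGroup (Fin 5)) := by
  classical
  haveI : Fact (Nat.Prime 2) := ⟨Nat.prime_two⟩
  have hG : ¬ IsMulCommutative G := Cfsg.Agent.H9.Small.not_comm (by rw [h]; norm_num)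
  -- small index subgroups
  have hidx : ∀ H : Subgroup G, H ≠ ⊤ → 5 ≤ H.index := by
    intro H hH
    by_contra hcon
    push Not at hcon
    have hinj : Function.Injective (MulAction.toPermHom G (G ⧸ H)) := by
      rw [← MonoidHom.ker_eq_bot_iff]
      rcases (inferInstance : (MulAction.toPermHom G (G ⧸ H)).ker.Normal).eq_bot_or_eq_top with h1 | h1
      · exact h1
      · exfalso
        apply hH
        rw [Subgroup.eq_top_iff']
        intro g
        have h2 : g ∈ (MulAction.toPermHom G (G ⧸ H)).ker := by rw [h1]; trivial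
        have h3 := Equiv.ext_iff.mp (MonoidHom.mem_ker.mp h2) (QuotientGroup.mk 1)
        change g • (QuotientGroup.mk 1 : G ⧸ H) = QuotientGroup.mk 1 at h3
        rw [MulAction.Quotient.smul_mk, smul_eq_mul, mul_one, eq_comm, QuotientGroup.eq, inv_one, one_mul] at h3
        exact h3
    have h4 := Nat.card_le_card_of_injective _ hinj
    rw [h, Nat.card_perm] at h4
    have h5 : Nat.card (G ⧸ H) = H.index := rfl
    rw [h5] at h4
    have h6 : H.index.factorial ≤ Nat.factorial 4 := Nat.factorial_le (by omega)
    have h7 : Nat.factorial 4 = 24 := rfl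
    omega
  have hfive : ∀ H : Subgroup G, H.index = 5 → Nonempty (G ≃* alternatingGroup (Fin 5)) := by
    intro H hH
    have hinj : Function.Injective (MulAction.toPermHom G (G ⧸ H)) := by
      rw [← MonoidHom.ker_eq_bot_iff]
      rcases (inferInstance : (MulAction.toPermHom G (G ⧸ H)).ker.Normal).eq_bot_or_eq_top with h1 | h1
      · exact h1
      · exfalso
        have h8 : H = ⊤ := by
          rw [Subgroup.eq_top_iff']
          intro g
          have h2 : g ∈ (MulAction.toPermHom G (G ⧸ H)).ker := by rw [h1]; trivial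
          have h3 := Equiv.ext_iff.mp (MonoidHom.mem_ker.mp h2) (QuotientGroup.mk 1)
          change g • (QuotientGroup.mk 1 : G ⧸ H) = QuotientGroup.mk 1 at h3
          rw [MulAction.Quotient.smul_mk, smul_eq_mul, mul_one, eq_comm, QuotientGroup.eq, inv_one, one_mul] at h3
          exact h3
        rw [h8, Subgroup.index_top] at hH
        omega
    exact Cfsg.Agent.H5.SmallIso.alt_of_hom (by norm_num) (X := G ⧸ H) hH _ hinj (by rw [h]; rfl)
  obtain ⟨z, hz⟩ := exists_prime_orderOf_dvd_card' (G := G) 2 (by rw [h]; norm_num)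
  -- the centralizer of an involution
  have hC4 : 4 ∣ Nat.card (Subgroup.centralizer ({z} : Set G)) := by
    have h1 : IsPGroup 2 (Subgroup.zpowers z) := IsPGroup.of_card (n := 1) (by rw [Nat.card_zpowers, hz, pow_one])
    obtain ⟨T, hT⟩ := h1.exists_le_sylow
    have hcT : Nat.card (T : Subgroup G) = 2 ^ 2 := by
      have h2 := (T : Subgroup G).card_mul_index
      have h3 : Odd (T : Subgroup G).index := by
        rw [← Nat.not_even_iff_odd, even_iff_two_dvd]
        exact T.not_dvd_index
      obtain ⟨n, hn⟩ := IsPGroup.iff_card.mp T.2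
      have hn' : Nat.card (T : Subgroup G) = 2 ^ n := hn
      obtain ⟨j, hj⟩ := h3
      rw [hn', h, hj] at h2
      have h4 : n < 6 := by
        by_contra h4
        push Not at h4
        have h5 : 2 ^ 6 ≤ 2 ^ n := Nat.pow_le_pow_right (by norm_num) h4
        have h6 : 2 ^ n ≤ 2 ^ n * (2 * j + 1) := Nat.le_mul_of_pos_right _ (by omega)
        rw [h2] at h6
        norm_num at h5
        omega
      rw [hn']
      interval_cases n <;> omega
    have h2 : (T : Subgroup G) ≤ Subgroup.centralizer ({z} : Set G) := by
      intro s hs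
      have h3 := IsPGroup.isMulCommutative_of_card_eq_prime_sq (p := 2) (G := (T : Subgroup G)) hcT
      rw [Subgroup.mem_centralizer_singleton_iff]
      exact congrArg Subtype.val (h3.is_comm.comm (⟨s, hs⟩ : (T : Subgroup G)) ⟨z, hT (Subgroup.mem_zpowers z)⟩)
    have h3 := Subgroup.card_dvd_of_le h2
    rwa [hcT] at h3
  have hCd : Nat.card (Subgroup.centralizer ({z} : Set G)) ∣ 60 := h ▸ Subgroup.card_subgroup_dvd_card _
  have hCtop : Subgroup.centralizer ({z} : Set G) ≠ ⊤ := by
    intro htop
    have h1 : z ∈ Subgroup.center G := by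
      rw [Subgroup.mem_center_iff]
      intro g
      have : g ∈ Subgroup.centralizer ({z} : Set G) := by rw [htop]; trivial
      exact Subgroup.mem_centralizer_singleton_iff.mp this
    rcases (inferInstance : (Subgroup.center G).Normal).eq_bot_or_eq_top with h2 | h2
    · rw [h2, Subgroup.mem_bot] at h1
      rw [h1, orderOf_one] at hz
      norm_num at hz
    · apply hG
      refine ⟨⟨fun a b => ?_⟩⟩
      have : b ∈ Subgroup.center G := by rw [h2]; trivial
      exact Subgroup.mem_center_iff.mp this a
  have hmul := (Subgroup.centralizer ({z} : Set G)).card_mul_index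
  have hge := hidx _ hCtop
  rw [h] at hmul
  obtain ⟨c, hc⟩ := hC4
  have hc3 : c ≤ 3 := by
    by_contra hcon
    push Not at hcon
    have : 16 * 5 ≤ Nat.card (Subgroup.centralizer ({z} : Set G)) * (Subgroup.centralizer ({z} : Set G)).index := Nat.mul_le_mul (by omega) hge
    omega
  have hc13 : c = 1 ∨ c = 3 := by
    rw [hc] at hmul
    interval_cases c
    · omega
    · left; rfl
    · exfalso; omega
    · right; rfl
  rcases hc13 with rfl | rfl
  · rcases Cfsg.Agent.H21.D8rec.v4_case hz (m := 15) (by decide) h (by rw [hc]) with ⟨M, hM, hMo, hM4⟩ | ⟨T, a, n, hT, -, -, -, -, -, -, -, hyp⟩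
    · exfalso
      rcases hM.eq_bot_or_eq_top with h1 | h1
      · rw [h1, Subgroup.card_bot, h] at hM4; omega
      · rw [h1, Subgroup.card_top, h] at hM4; omega
    · have hTn : ¬ (T : Subgroup G).Normal := by
        intro hn
        have hcT : Nat.card (T : Subgroup G) = 4 := by rw [hT, hc]
        rcases hn.eq_bot_or_eq_top with h1 | h1
        · rw [h1, Subgroup.card_bot] at hcT; omega
        · rw [h1, Subgroup.card_top, h] at hcT; omega
      have hcT : Nat.card (T : Subgroup G) = 4 := by rw [hT, hc]
      have hnc : ¬ IsCyclic (T : Subgroup G) := by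
        intro hcy
        obtain ⟨g, hg⟩ := IsCyclic.exists_ofOrder_eq_natCard (α := (T : Subgroup G))
        rw [hcT] at hg
        have h1 := (Cfsg.Agent.H4.Elab.sylow_facts T hyp).2 (g : G) g.2
        have h2 : orderOf g ∣ 2 := orderOf_dvd_of_pow_eq_one (by rw [sq]; exact Subtype.ext h1)
        rw [hg] at h2
        omega
      obtain ⟨F, hF, hF', hF4, ⟨eK⟩⟩ := Cfsg.Agent.H4.Elab4.main T hyp hTn hnc
      rw [hcT] at hF4
      obtain ⟨e5⟩ := Cfsg.Agent.H5.SmallIso.psl2_4 hF4
      exact ⟨eK.trans e5⟩
  · apply hfive (Subgroup.centralizer ({z} : Set G))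
    rw [hc] at hmul
    omega

end Cfsg.Agent.S0494
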