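import Cfsg.Statements.S0495
import Cfsg.Agent.H21_O168
import Cfsg.Agent.H5_SmallIso

set_option autoImplicit false
open Cfsg

namespace Cfsg.Agent.S0495



/-- A simple group of order 168 is isomorphic to the projective special linear group of dimension 2 over the field with
7 elements. -/
theorem result {G : Type*} [Group G] [Finite G] [IsSimpleGroup G]
    (h : Nat.card G = 168) {F : Type*} [Field F] [Fintype F] (hF : Fintype.card F = 7) :
    Nonempty (G ≃* Matrix.ProjectiveSpecialLinearGroup (Fin 2) F) := by
  classical
  have hc := H5.SmallIso.card_PSL2 (F := F)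
  rw [hF] at hc
  have hcard : Nat.card (Matrix.ProjectiveSpecialLinearGroup (Fin 2) F) = 168 := by
    rw [show Nat.gcd 2 (7 - 1) = 2 by decide] at hc
    omega
  have hsim : IsSimpleGroup (Matrix.ProjectiveSpecialLinearGroup (Fin 2) F) :=
    Matrix.ProjectiveSpecialLinearGroup.rank_two_simple (by rw [Nat.card_eq_fintype_card, hF]; norm_num)
  haveI : Finite (Matrix.ProjectiveSpecialLinearGroup (Fin 2) F) := Nat.finite_of_card_ne_zero (by omega)
  exact H21.O168.unique h hcard

end Cfsg.Agent.S0495
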