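import Mathlib
import Cfsg.Agent.H19_FT8
import Cfsg.Agent.S0494
import Cfsg.Agent.S0495

/-! Feit–Thompson, self-centralizing subgroups of order three: the numerical argument. -/

set_option autoImplicit false
set_option linter.unusedSectionVars false
open Pointwise
namespace Cfsg.Agent.H19.FT5
open Cfsg.Agent.H19.FT2 Cfsg.Agent.H19.FT3 Cfsg.Agent.H19.FT4 Cfsg.Agent.H1.Basic

universe u

theorem sum_prod (R : Finset ℕ) (h : ∀ a ∈ R, 7 ≤ a) (hne : R.Nonempty) :
    (∑ a ∈ R, a ≤ ∏ a ∈ R, a) ∧ (2 ≤ R.card → 7 * ∑ a ∈ R, a ≤ 2 * ∏ a ∈ R, a) ∧ 7 ≤ ∏ a ∈ R, a := by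
  induction hne using Finset.Nonempty.cons_induction with
  | singleton a => 
    simp at h ⊢
    exact h
  | cons a s ha hs ih =>
    rw [Finset.sum_cons, Finset.prod_cons, Finset.card_cons]
    obtain ⟨i1, -, i3⟩ := ih (fun b hb => h b (by simp [hb]))
    have h7 := h a (by simp)
    have e1 : 7 * (∏ a ∈ s, a) ≤ a * (∏ a ∈ s, a) := Nat.mul_le_mul_right _ h7
    have e2 : a * 7 ≤ a * (∏ a ∈ s, a) := Nat.mul_le_mul_left _ i3
    refine ⟨by omega, fun _ => by omega, by omega⟩

theorem prod_mod (R : Finset ℕ) (h : ∀ a ∈ R, a % 3 = 1) : (∏ a ∈ R, a) % 3 = 1 := by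
  induction R using Finset.induction_on with
  | empty => simp
  | insert a s ha ih =>
    rw [Finset.prod_insert ha, Nat.mul_mod, h a (by simp), ih (fun b hb => h b (by simp [hb]))]

theorem numA {μ Q c N : ℕ} (hμ : 4 ≤ μ) (hQ : 7 ≤ Q) (hc : 5 ≤ c) (hN : N = 3 * μ * Q * c)
    (h : 42 * N < 9 * (42 * (2 * μ) + 2 * N + 42 * (2 * Q))) : False := by
  have h1 : 15 * (μ * Q) ≤ N := by
    rw [hN]; nlinarith [Nat.mul_le_mul_left (3 * μ * Q) hc]
  have h2 : 7 * μ ≤ μ * Q := by nlinarith
  have h3 : 4 * Q ≤ μ * Q := by nlinarith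
  omega

theorem numA0 {μ j N : ℕ} (hN : N = 3 * μ * j) (hμ : 0 < μ) (h : 42 * N < 9 * (42 * (2 * μ) + 2 * N)) : j ≤ 10 := by
  by_contra hj
  push Not at hj
  have : 3 * μ * 11 ≤ N := by rw [hN]; exact Nat.mul_le_mul_left _ hj
  omega

theorem prod_dvd {R : Finset ℕ} {n : ℕ} (hc : ∀ a ∈ R, ∀ b ∈ R, a ≠ b → a.Coprime b) (hd : ∀ a ∈ R, a ∣ n) :
    (∏ a ∈ R, a) ∣ n := by
  induction R using Finset.induction_on with
  | empty => simp
  | insert a s ha ih =>
    rw [Finset.prod_insert ha]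
    refine Nat.Coprime.mul_dvd_of_dvd_of_dvd ?_ (hd a (by simp)) (ih (fun b hb c hc' => hc b (by simp [hb]) c (by simp [hc']))
      (fun b hb => hd b (by simp [hb])))
    exact Nat.Coprime.prod_right fun b hb => hc a (by simp) b (by simp [hb]) (fun h => ha (h ▸ hb))

variable {G : Type u} [Group G] [Finite G] {M M' : Subgroup G} {x t : G}

theorem Ctx.t_ne (C : Ctx x t) : orderOf t = 2 := by
  apply orderOf_eq_prime
  · rw [pow_two]; exact C.t_sq
  · rintro rfl
    have := C.tx
    simp at this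
    exact ne_inv C.sc.o3 this

theorem four_dvd (hs : IsSimpleGroup G) (ns : ¬ Group.IsSolvable G) {t : G} (ht : orderOf t = 2) : 4 ∣ Nat.card G := by
  by_contra h4
  haveI : Fact (Nat.Prime 2) := ⟨Nat.prime_two⟩
  have h2 : 2 ∣ Nat.card G := by rw [← ht]; exact orderOf_dvd_natCard t
  have h60 := H7.Rad8.sixty_le ns
  let P : Sylow 2 G := default
  have hP : Nat.card P = 2 := by
    rw [P.card_eq_multiplicity]
    have h1 : (Nat.card G).factorization 2 = 1 := by
      have a1 : 1 ≤ (Nat.card G).factorization 2 := by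
        rw [← Nat.Prime.pow_dvd_iff_le_factorization Nat.prime_two Nat.card_pos.ne', pow_one]; exact h2
      have a2 : ¬ 2 ≤ (Nat.card G).factorization 2 := by
        rw [← Nat.Prime.pow_dvd_iff_le_factorization Nat.prime_two Nat.card_pos.ne']; exact h4
      omega
    rw [h1, pow_one]
  haveI : IsCyclic P := isCyclic_of_prime_card hP
  have hmin : (Nat.card G).minFac = 2 := by
    rw [Nat.minFac_eq_two_iff]; exact h2
  have hc := IsCyclic.isComplement' hmin (P := P) inferInstance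
  have hcard := hc.card_mul
  rw [hP] at hcard
  rcases (MonoidHom.normal_ker (MonoidHom.transferSylow P (IsCyclic.normalizer_le_centralizer hmin inferInstance))).eq_bot_or_eq_top with h | h
  · rw [h, Subgroup.card_bot] at hcard; omega
  · rw [h, Subgroup.card_top] at hcard; omega

/-- two maximal elements sharing a full prime -/
theorem Ctx.share (C : Ctx x t) (hM : M ∈ MM x) (hM' : M' ∈ MM x) {q : ℕ} [hq : Fact q.Prime] (hd : q ∣ Nat.card M)
    (hd' : q ∣ Nat.card M') (hf : (Nat.card G).factorization q = (Nat.card M).factorization q)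
    (hf' : (Nat.card G).factorization q = (Nat.card M').factorization q) :
    Nat.card M' = Nat.card M ∧ (M' = M ∨ M' = MulAut.conj t • M) := by
  have h1 : Nat.card (SQ M q) = q ^ (Nat.card G).factorization q := by rw [SQ_card, hf]
  have h2 : Nat.card (SQ M' q) = q ^ (Nat.card G).factorization q := by rw [SQ_card, hf']
  obtain ⟨g, hg⟩ := conj_of_card h1 h2
  obtain ⟨h3, h4⟩ := C.conjMM hM hM' hd hd' hg
  refine ⟨by rw [h3, card_conj], ?_⟩
  rcases h4 with h4 | h4
  · left; rw [h3, conj_eq_iff_mem_normalizer.2 h4]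
  · right
    have e : g = t * (t⁻¹ * g) := by group
    rw [h3, e, ← conj_conj, conj_eq_iff_mem_normalizer.2 h4]

end Cfsg.Agent.H19.FT5
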