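import Mathlib
import Cfsg.Agent.H19_FT9

/-! Feit–Thompson, self-centralizing subgroups of order three: the simple case. -/

set_option autoImplicit false
set_option linter.unusedSectionVars false
open Pointwise
namespace Cfsg.Agent.H19.FT5
open Cfsg.Agent.H19.FT2 Cfsg.Agent.H19.FT3 Cfsg.Agent.H19.FT4 Cfsg.Agent.H1.Basic

universe u

variable {G : Type u} [Group G] [Finite G] {M M' : Subgroup G} {x t : G}

theorem Ctx.ne_bot (C : Ctx x t) (hM : M ∈ MM x) : M ≠ ⊥ := by
  classical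
  rintro rfl
  have hr : IsConj x x⁻¹ := isConj_iff.2 ⟨t, C.tx⟩
  have h1 := C.sc.ineq hr
  have h2 : (Set.toFinite (MM x)).toFinset = {⊥} := by
    ext K
    rw [Set.Finite.mem_toFinset, Finset.mem_singleton]
    constructor
    · intro hK
      exact le_bot_iff.1 (hM.le_of_ge hK.prop bot_le)
    · rintro rfl; exact hM
  rw [h2, Finset.sum_singleton, Subgroup.card_bot] at h1
  have := H7.Rad8.sixty_le C.ns
  omega

theorem Ctx.facts (C : Ctx x t) (hM : M ∈ MM x) : Nat.card M % 3 = 1 ∧ 4 ≤ Nat.card M ∧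
    ((t ∉ NN M ∧ Nat.card (NN M) = 3 * Nat.card M ∧ ∃ j, (NN M).index = j ∧ Nat.card G = 3 * Nat.card M * j ∧ j % 3 = 2 ∧ 5 ≤ j) ∨
     (t ∈ NN M ∧ Nat.card (NN M) = 6 * Nat.card M ∧ ∃ j, (NN M).index = j ∧ Nat.card G = 6 * Nat.card M * j ∧ j % 3 = 1 ∧ 7 ≤ j)) := by
  have hM1 := C.ne_bot hM
  have h1 := C.sc.mod C.sc.o3 hM.prop
  have h2 : Nat.card M ≠ 1 := fun h => hM1 (Subgroup.card_eq_one.1 h)
  refine ⟨h1, by omega, ?_⟩
  obtain ⟨h5, h | h⟩ := C.index hM hM1
  · left
    refine ⟨h.2.1, h.1, _, rfl, ?_, h.2.2, h5⟩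
    rw [← h.1, (NN M).card_mul_index]
  · right
    refine ⟨h.2.1, h.1, _, rfl, ?_, h.2.2, by omega⟩
    rw [← h.1, (NN M).card_mul_index]

theorem Ctx.main (C : Ctx x t) : Nat.card G = 60 ∨ Nat.card G = 168 := by
  classical
  haveI : Fact (Nat.Prime 2) := ⟨Nat.prime_two⟩
  have hr : IsConj x x⁻¹ := isConj_iff.2 ⟨t, C.tx⟩
  have hineq := C.sc.ineq hr
  obtain ⟨N, hN⟩ : ∃ N, N = Nat.card G := ⟨_, rfl⟩
  have h60 : 60 ≤ N := by rw [hN]; exact H7.Rad8.sixty_le C.ns
  have h4N : 4 ∣ N := by rw [hN]; exact four_dvd C.simple C.ns C.t_ne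
  obtain ⟨F, hF⟩ : ∃ F, F = (Set.toFinite (MM x)).toFinset := ⟨_, rfl⟩
  have hFm : ∀ M, M ∈ F ↔ M ∈ MM x := by intro M; rw [hF, Set.Finite.mem_toFinset]
  rw [← hF, ← hN] at hineq
  obtain ⟨FA, hFA⟩ : ∃ FA, FA = F.filter (fun M : Subgroup G => 2 ∣ Nat.card M ∧ t ∉ NN M) := ⟨_, rfl⟩
  obtain ⟨FB, hFB⟩ : ∃ FB, FB = F.filter (fun M : Subgroup G => 2 ∣ Nat.card M ∧ t ∈ NN M) := ⟨_, rfl⟩
  obtain ⟨FO, hFO⟩ : ∃ FO, FO = F.filter (fun M : Subgroup G => ¬ 2 ∣ Nat.card M) := ⟨_, rfl⟩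
  have mA : ∀ M, M ∈ FA ↔ M ∈ MM x ∧ 2 ∣ Nat.card M ∧ t ∉ NN M := by
    intro M; rw [hFA, Finset.mem_filter, hFm]
  have mB : ∀ M, M ∈ FB ↔ M ∈ MM x ∧ 2 ∣ Nat.card M ∧ t ∈ NN M := by
    intro M; rw [hFB, Finset.mem_filter, hFm]
  have mO : ∀ M, M ∈ FO ↔ M ∈ MM x ∧ ¬ 2 ∣ Nat.card M := by
    intro M; rw [hFO, Finset.mem_filter, hFm]
  have hsum : ∑ M ∈ F, Nat.card M = ∑ M ∈ FA, Nat.card M + ∑ M ∈ FB, Nat.card M + ∑ M ∈ FO, Nat.card M := by
    have e1 := Finset.sum_filter_add_sum_filter_not F (fun M : Subgroup G => 2 ∣ Nat.card M) (fun M : Subgroup G => Nat.card M)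
    have e2 := Finset.sum_filter_add_sum_filter_not (F.filter (fun M : Subgroup G => 2 ∣ Nat.card M)) (fun M : Subgroup G => t ∉ NN M) (fun M : Subgroup G => Nat.card M)
    rw [Finset.filter_filter, Finset.filter_filter] at e2
    simp only [not_not] at e2
    rw [hFA, hFB, hFO, e2, e1]
  -- FB
  have hB : ∀ M ∈ FB, 42 * Nat.card M ≤ N := by
    intro M hM
    obtain ⟨hM1, hM2, hM3⟩ := (mB M).1 hM
    obtain ⟨-, -, h | h⟩ := C.facts hM1
    · exact absurd hM3 h.1
    · obtain ⟨-, -, j, -, h1, -, h3⟩ := h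
      rw [hN, h1]
      nlinarith
  have hBs : 42 * ∑ M ∈ FB, Nat.card M ≤ FB.card * N := by
    rw [Finset.mul_sum, ← smul_eq_mul, ← Finset.sum_const]
    exact Finset.sum_le_sum hB
  obtain ⟨FB1, hFB1⟩ : ∃ FB1, FB1 = FB.filter (fun M : Subgroup G => 4 < Nat.card (SQ M 2)) := ⟨_, rfl⟩
  obtain ⟨FB2, hFB2⟩ : ∃ FB2, FB2 = FB.filter (fun M : Subgroup G => ¬ 4 < Nat.card (SQ M 2)) := ⟨_, rfl⟩
  have hB1 : FB1.card ≤ 1 := by
    rw [Finset.card_le_one]
    intro a ha b hb
    rw [hFB1, Finset.mem_filter, mB] at ha hb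
    exact (C.uniqB ha.1.1 ha.1.2.1 ha.1.2.2 ha.2 hb.1.1 hb.1.2.1 hb.1.2.2 hb.2).symm
  have hB2 : FB2.card ≤ 2 := by
    by_contra h
    push Not at h
    obtain ⟨a, ha, b, hb, c, hc, hab, hac, hbc⟩ := Finset.two_lt_card.1 h
    rw [hFB2, Finset.mem_filter, mB] at ha hb hc
    refine C.three ![a, b, c] ?_ ?_ ?_ ?_ ?_
    · intro i; fin_cases i
      · exact ha.1.1
      · exact hb.1.1
      · exact hc.1.1
    · intro i; fin_cases i
      · exact ha.1.2.1
      · exact hb.1.2.1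
      · exact hc.1.2.1
    · intro i; fin_cases i
      · exact ha.1.2.2
      · exact hb.1.2.2
      · exact hc.1.2.2
    · intro i; fin_cases i
      · exact not_lt.1 ha.2
      · exact not_lt.1 hb.2
      · exact not_lt.1 hc.2
    · intro i j hij
      fin_cases i <;> fin_cases j <;> first | rfl | (exfalso; simp at hij; first | exact hab hij | exact hac hij | exact hbc hij | exact hab hij.symm | exact hac hij.symm | exact hbc hij.symm)
  have hBc : FB.card = FB1.card + FB2.card := by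
    rw [hFB1, hFB2]; exact (Finset.card_filter_add_card_filter_not (s := FB) _).symm
  -- FO
  obtain ⟨R, hR⟩ : ∃ R, R = FO.image (fun M : Subgroup G => Nat.card M) := ⟨_, rfl⟩
  have mR : ∀ μ, μ ∈ R ↔ ∃ M ∈ FO, Nat.card M = μ := by intro μ; rw [hR, Finset.mem_image]
  have hR7 : ∀ μ ∈ R, 7 ≤ μ ∧ μ % 3 = 1 ∧ μ ∣ N ∧ ¬ 2 ∣ μ := by
    intro μ hμ
    obtain ⟨M, hM, rfl⟩ := (mR μ).1 hμ
    obtain ⟨hM1, hM2⟩ := (mO M).1 hM
    obtain ⟨h1, h2, -⟩ := C.facts hM1
    refine ⟨by omega, h1, by rw [hN]; exact Subgroup.card_subgroup_dvd_card M, hM2⟩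
  have hshare : ∀ M ∈ FO, ∀ M' ∈ F, ∀ q : ℕ, q.Prime → q ∣ Nat.card M → q ∣ Nat.card M' →
      Nat.card M' = Nat.card M ∧ (M' = M ∨ M' = MulAut.conj t • M) := by
    intro M hM M' hM' q hq hd hd'
    haveI : Fact q.Prime := ⟨hq⟩
    obtain ⟨hM1, hM2⟩ := (mO M).1 hM
    have hM1' := (hFm M').1 hM'
    have hq2 : q ≠ 2 := by rintro rfl; exact hM2 hd
    exact C.share hM1 hM1' hd hd' (C.full hM1 hd (Or.inl hq2)) (C.full hM1' hd' (Or.inl hq2))
  have hRcop : ∀ a ∈ R, ∀ b ∈ R, a ≠ b → a.Coprime b := by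
    intro a ha b hb hab
    obtain ⟨M, hM, rfl⟩ := (mR a).1 ha
    obtain ⟨M', hM', rfl⟩ := (mR b).1 hb
    rw [Nat.coprime_iff_gcd_eq_one]
    by_contra hg
    obtain ⟨q, hq, hqd⟩ := Nat.exists_prime_and_dvd hg
    have h1 := hshare M hM M' ((hFm M').2 ((mO M').1 hM').1) q hq (hqd.trans (Nat.gcd_dvd_left _ _)) (hqd.trans (Nat.gcd_dvd_right _ _))
    exact hab h1.1.symm
  have hOs : ∑ M ∈ FO, Nat.card M ≤ 2 * ∑ μ ∈ R, μ := by
    rw [← Finset.sum_fiberwise_of_maps_to (s := FO) (t := R) (g := fun M : Subgroup G => Nat.card M) (fun M hM => (mR _).2 ⟨M, hM, rfl⟩),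
      Finset.mul_sum]
    refine Finset.sum_le_sum fun μ hμ => ?_
    rw [Finset.sum_congr rfl (g := fun _ => μ) (fun M hM => (Finset.mem_filter.1 hM).2), Finset.sum_const, smul_eq_mul]
    apply Nat.mul_le_mul_right
    obtain ⟨M, hM, hMμ⟩ := (mR μ).1 hμ
    have hsub : FO.filter (fun M' : Subgroup G => Nat.card M' = μ) ⊆ {M, MulAut.conj t • M} := by
      intro M' hM'
      rw [Finset.mem_filter] at hM'
      obtain ⟨q, hq, hqd⟩ := exists_prime (C.ne_bot ((mO M).1 hM).1)
      have := hshare M hM M' ((hFm M').2 ((mO M').1 hM'.1).1) q hq hqd (by rw [hM'.2, ← hMμ]; exact hqd)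
      simp only [Finset.mem_insert, Finset.mem_singleton]
      exact this.2
    exact (Finset.card_le_card hsub).trans Finset.card_le_two
  have hQN : (∏ μ ∈ R, μ) ∣ N := prod_dvd hRcop (fun a ha => (hR7 a ha).2.2.1)
  have hQm := prod_mod R (fun a ha => (hR7 a ha).2.1)
  rw [hsum] at hineq
  obtain ⟨Q, hQ⟩ : ∃ Q, Q = ∏ μ ∈ R, μ := ⟨_, rfl⟩
  rw [← hQ] at hQN hQm
  have hQ2 : Nat.Coprime Q 2 := by
    rw [hQ]
    exact Nat.Coprime.prod_left fun a ha => (Nat.coprime_comm.1 ((Nat.Prime.coprime_iff_not_dvd Nat.prime_two).2 (hR7 a ha).2.2.2))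
  have hQ3 : Nat.Coprime Q 3 := by
    rw [Nat.coprime_comm, Nat.Prime.coprime_iff_not_dvd Nat.prime_three]
    omega
  by_cases hAe : FA.Nonempty
  · -- case A
    obtain ⟨M0, hM0⟩ := hAe
    obtain ⟨hM1, hM2, hM3⟩ := (mA M0).1 hM0
    obtain ⟨h1, h2, h | h⟩ := C.facts hM1
    swap
    · exact absurd h.1 hM3
    obtain ⟨-, hNN, j, hji, hj, hj3, hj5⟩ := h
    have hfull : ∀ q : ℕ, ∀ hq : q.Prime, q ∣ Nat.card M0 → (Nat.card G).factorization q = (Nat.card M0).factorization q := by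
      intro q hq hd
      haveI : Fact q.Prime := ⟨hq⟩
      exact C.full hM1 hd (Or.inr hNN)
    have hA : ∀ M ∈ FA, Nat.card M = Nat.card M0 ∧ (M = M0 ∨ M = MulAut.conj t • M0) := by
      intro M hM
      obtain ⟨hM1', hM2', hM3'⟩ := (mA M).1 hM
      obtain ⟨-, -, h' | h'⟩ := C.facts hM1'
      · exact C.share hM1 hM1' hM2 hM2' (hfull 2 Nat.prime_two hM2) (C.full hM1' hM2' (Or.inr h'.2.1))
      · exact absurd h'.1 hM3'
    have hAs : ∑ M ∈ FA, Nat.card M ≤ 2 * Nat.card M0 := by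
      rw [Finset.sum_congr rfl (g := fun _ => Nat.card M0) (fun M hM => (hA M hM).1), Finset.sum_const, smul_eq_mul]
      apply Nat.mul_le_mul_right
      have hsub : FA ⊆ {M0, MulAut.conj t • M0} := by
        intro M' hM'
        simp only [Finset.mem_insert, Finset.mem_singleton]
        exact (hA M' hM').2
      exact (Finset.card_le_card hsub).trans Finset.card_le_two
    have hjodd : ¬ 2 ∣ j := by
      intro hd
      have h3 : 2 ^ ((Nat.card M0).factorization 2 + 1) ∣ Nat.card G := by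
        rw [hj, pow_succ]
        have : 3 * Nat.card M0 * j = Nat.card M0 * j * 3 := by ring
        rw [this]
        exact (Nat.mul_dvd_mul (Nat.ordProj_dvd _ _) hd).mul_right _
      rw [Nat.Prime.pow_dvd_iff_le_factorization Nat.prime_two Nat.card_pos.ne', hfull 2 Nat.prime_two hM2] at h3
      omega
    have hFB1 : FB1.card = 0 := by
      rw [Finset.card_eq_zero, Finset.eq_empty_iff_forall_notMem]
      intro M hM
      rw [hFB1, Finset.mem_filter, mB] at hM
      have e1 := C.sylow2 hM.1.1 hM.1.2.1 hM.1.2.2 hM.2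
      have e2 := hfull 2 Nat.prime_two hM2
      have par : ∀ K ∈ MM x, 2 ∣ Nat.card K → 2 ∣ (Nat.card K).factorization 2 := by
        intro K hK hd
        have h3 := C.sc.mod (C.good hK hd).o3 (C.good hK hd).PP
        rw [SQ_card] at h3
        obtain ⟨v, hv⟩ : ∃ v, v = (Nat.card K).factorization 2 := ⟨_, rfl⟩
        rw [← hv] at h3 ⊢
        by_contra hodd
        obtain ⟨k, hk⟩ : ∃ k, v = 2 * k + 1 := ⟨v / 2, by omega⟩
        rw [hk, pow_succ, pow_mul] at h3
        have : (2 ^ 2) ^ k % 3 = 1 := by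
          rw [Nat.pow_mod]; simp
        omega
      have p1 := par M hM.1.1 hM.1.2.1
      have p2 := par M0 hM1 hM2
      omega
    have hb : FB.card ≤ 2 := by omega
    have hBs' : 42 * ∑ M ∈ FB, Nat.card M ≤ 2 * N := hBs.trans (Nat.mul_le_mul_right _ hb)
    by_cases hRe : R = ∅
    · have hO0 : ∑ M ∈ FO, Nat.card M = 0 := by
        have : 2 * ∑ μ ∈ R, μ = 0 := by rw [hRe]; simp
        omega
      have hj10 := numA0 (N := N) (by rw [hN]; exact hj) (by omega) (by omega)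
      have hj5' : j = 5 := by omega
      left
      have h3 := card_dvd_fact C.simple (C.NN_ne_top hM1 (C.ne_bot hM1))
      rw [hji, hj5', ← hN] at h3
      have h5 : (5).factorial = 120 := by decide
      rw [h5] at h3
      rw [hj5', ← hN] at hj
      rw [← hN]
      have h6 := Nat.le_of_dvd (by norm_num) h3
      omega
    · exfalso
      have hRn : R.Nonempty := Finset.nonempty_iff_ne_empty.2 hRe
      obtain ⟨s1, -, s3⟩ := sum_prod R (fun a ha => (hR7 a ha).1) hRn
      rw [← hQ] at s1 s3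
      have hcop : Nat.Coprime Q (3 * Nat.card M0) := by
        refine Nat.Coprime.mul_right hQ3 ?_
        rw [hQ]
        refine Nat.Coprime.prod_left fun a ha => ?_
        obtain ⟨M, hM, hMa⟩ := (mR a).1 ha
        rw [Nat.coprime_iff_gcd_eq_one]
        by_contra hg
        obtain ⟨q, hq, hqd⟩ := Nat.exists_prime_and_dvd hg
        have h3 := hshare M hM M0 ((hFm M0).2 hM1) q hq (by rw [hMa]; exact hqd.trans (Nat.gcd_dvd_left _ _)) (hqd.trans (Nat.gcd_dvd_right _ _))
        have := ((mO M).1 hM).2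
        rw [← h3.1] at this
        exact this hM2
      have hQj : Q ∣ j := hcop.dvd_of_dvd_mul_left (by rw [← hj, ← hN]; exact hQN)
      obtain ⟨c, hc⟩ := hQj
      have hc3 : c % 3 = 2 := by
        rw [hc, Nat.mul_mod, hQm, one_mul, Nat.mod_mod] at hj3
        exact hj3
      have hc2 : ¬ 2 ∣ c := fun h => hjodd (by rw [hc]; exact h.mul_left _)
      exact numA (μ := Nat.card M0) (Q := Q) (c := c) (N := N) h2 s3 (by omega) (by rw [hN, hj, hc]; ring) (by omega)
  · -- case B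
    have hFA0 : ∑ M ∈ FA, Nat.card M = 0 := by
      rw [Finset.not_nonempty_iff_eq_empty.1 hAe]; simp
    have hb : FB.card ≤ 3 := by omega
    have hBs3 : 42 * ∑ M ∈ FB, Nat.card M ≤ 3 * N := hBs.trans (Nat.mul_le_mul_right _ hb)
    have hRn : R.Nonempty := by
      rw [Finset.nonempty_iff_ne_empty]
      intro hRe
      have : 2 * ∑ μ ∈ R, μ = 0 := by rw [hRe]; simp
      omega
    obtain ⟨s1, s2, s3⟩ := sum_prod R (fun a ha => (hR7 a ha).1) hRn
    rw [← hQ] at s1 s2 s3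
    by_cases hR2 : 2 ≤ R.card
    · exfalso
      have s2' := s2 hR2
      by_cases hBe : FB.Nonempty
      · obtain ⟨M, hM⟩ := hBe
        obtain ⟨hM1, hM2, hM3⟩ := (mB M).1 hM
        have h8 : 8 ∣ N := by
          obtain ⟨T, hT, -, -, hTc⟩ := C.exists_T hM1 hM2 hM3
          have h3 : 4 ∣ Nat.card (SQ M 2) := by
            have hg := C.good hM1 hM2
            have h5 := C.sc.mod hg.o3 hg.PP
            rw [SQ_card] at h5 ⊢
            obtain ⟨v, hv⟩ : ∃ v, v = (Nat.card M).factorization 2 := ⟨_, rfl⟩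
            have hv0 := card_two (M := M) (q := 2) hM2
            rw [← hv] at h5 hv0 ⊢
            have hv2 : 2 ≤ v := by
              rcases (show v = 1 ∨ 2 ≤ v by omega) with h | h
              · rw [h] at h5; norm_num at h5
              · exact h
            exact pow_dvd_pow 2 hv2
          have h6 : 8 ∣ Nat.card T := by
            rw [hTc]; exact Nat.mul_dvd_mul (dvd_refl 2) h3
          rw [hN]; exact h6.trans (Subgroup.card_subgroup_dvd_card T)
        have h3N : 3 ∣ N := by rw [hN, ← C.sc.o3]; exact orderOf_dvd_natCard x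
        have h24 : 24 * Q ∣ N := by
          have e1 : 8 * 3 ∣ N := Nat.Coprime.mul_dvd_of_dvd_of_dvd (by norm_num) h8 h3N
          refine Nat.Coprime.mul_dvd_of_dvd_of_dvd ?_ e1 hQN
          have : (24 : ℕ) = 2 ^ 3 * 3 := by norm_num
          rw [this]
          exact Nat.Coprime.mul_left (Nat.Coprime.pow_left 3 hQ2.symm) hQ3.symm
        have := Nat.le_of_dvd (by omega) h24
        omega
      · have hFB0 : ∑ M ∈ FB, Nat.card M = 0 := by
          rw [Finset.not_nonempty_iff_eq_empty.1 hBe]; simp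
        have h3N : 3 ∣ N := by rw [hN, ← C.sc.o3]; exact orderOf_dvd_natCard x
        have h12 : 12 * Q ∣ N := by
          have e1 : 4 * 3 ∣ N := Nat.Coprime.mul_dvd_of_dvd_of_dvd (by norm_num) h4N h3N
          refine Nat.Coprime.mul_dvd_of_dvd_of_dvd ?_ e1 hQN
          have : (12 : ℕ) = 2 ^ 2 * 3 := by norm_num
          rw [this]
          exact Nat.Coprime.mul_left (Nat.Coprime.pow_left 2 hQ2.symm) hQ3.symm
        have := Nat.le_of_dvd (by omega) h12
        omega
    · right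
      have hR1 : R.card = 1 := by
        have := Finset.card_pos.2 hRn
        omega
      obtain ⟨μ, hμ⟩ := Finset.card_eq_one.1 hR1
      have hμR : μ ∈ R := by rw [hμ]; simp
      obtain ⟨hμ7, hμ3, hμN, hμ2⟩ := hR7 μ hμR
      have hsR : ∑ a ∈ R, a = μ := by rw [hμ]; simp
      rw [hsR] at hOs
      have hb1 : 15 * N < 756 * μ := by omega
      have hμc : Nat.Coprime μ 4 := by
        have : Nat.Coprime μ 2 := Nat.coprime_comm.1 ((Nat.Prime.coprime_iff_not_dvd Nat.prime_two).2 hμ2)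
        exact Nat.Coprime.pow_right 2 this
      obtain ⟨M, hM, hMμ⟩ := (mR μ).1 hμR
      have hM1 := ((mO M).1 hM).1
      obtain ⟨-, -, h | h⟩ := C.facts hM1
      · obtain ⟨-, -, j, hji, hj, hj3, hj5⟩ := h
        rw [hMμ, ← hN] at hj
        have h4j : 4 ∣ j := by
          have h5 : 4 ∣ (3 * μ) * j := by rw [← hj]; exact h4N
          exact (Nat.Coprime.mul_right (by norm_num) hμc.symm).dvd_of_dvd_mul_left h5
        have hj16 : j ≤ 16 := by
          by_contra hj16
          push Not at hj16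
          have : 3 * μ * 17 ≤ N := by rw [hj]; exact Nat.mul_le_mul_left _ hj16
          omega
        have hj8 : j = 8 := by omega
        have h3 := card_dvd_fact C.simple (C.NN_ne_top hM1 (C.ne_bot hM1))
        rw [hji, hj8, ← hN] at h3
        have h5 : (8).factorial = 40320 := by decide
        rw [h5, hj, hj8] at h3
        have h6 : 24 * μ ∣ 24 * 1680 := by
          have : 3 * μ * 8 = 24 * μ := by ring
          rw [this] at h3
          exact h3
        have h7 : μ ∣ 1680 := Nat.dvd_of_mul_dvd_mul_left (by norm_num) h6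
        have h9 : μ ∣ 105 := by
          have : (1680 : ℕ) = 4 * (4 * 105) := by norm_num
          rw [this] at h7
          exact hμc.dvd_of_dvd_mul_left (hμc.dvd_of_dvd_mul_left h7)
        have h10 : μ ∈ Nat.divisors 105 := Nat.mem_divisors.2 ⟨h9, by norm_num⟩
        have h11 : Nat.divisors 105 = {1, 3, 5, 7, 15, 21, 35, 105} := by decide
        rw [h11] at h10
        simp only [Finset.mem_insert, Finset.mem_singleton] at h10
        have h12 : μ = 7 := by omega
        rw [← hN, hj, hj8, h12]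
      · exfalso
        obtain ⟨-, -, j, hji, hj, hj3, hj7⟩ := h
        rw [hMμ, ← hN] at hj
        have h4j : 4 ∣ 2 * j := by
          have h5 : 4 ∣ (3 * μ) * (2 * j) := by
            have : (3 * μ) * (2 * j) = 6 * μ * j := by ring
            rw [this, ← hj]; exact h4N
          exact (Nat.Coprime.mul_right (by norm_num) hμc.symm).dvd_of_dvd_mul_left h5
        have hj8 : j ≤ 8 := by
          by_contra hj16
          push Not at hj16
          have : 6 * μ * 9 ≤ N := by rw [hj]; exact Nat.mul_le_mul_left _ hj16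
          omega
        omega

end Cfsg.Agent.H19.FT5
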