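import Mathlib
import Cfsg.Agent.H19_FT5

/-! Feit–Thompson, self-centralizing subgroups of order three: groups with a fixed-point-free
automorphism of order three have class at most two. -/

set_option autoImplicit false
set_option linter.unusedSectionVars false
namespace Cfsg.Agent.H19.FT11
open Cfsg.Agent.H19.FT2 Cfsg.Agent.H19.FT3

variable {G : Type*} [Group G] [Finite G] {x y : G} {K : Subgroup G}

theorem ky (h : SC x) (hy : orderOf y = 3) (hK : PP y K) {k : G} (hk : k ∈ K) : orderOf (k * y) = 3 ∧ PP (k * y) K := by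
  haveI : Fact (Nat.Prime 3) := ⟨Nat.prime_three⟩
  have h1 := prod_eq h hy hK hk
  constructor
  · apply orderOf_eq_prime
    · have e : (k * y) ^ 3 = k * (y * k * y⁻¹) * (y * (y * k * y⁻¹) * y⁻¹) * (y * y * y) := by
        simp only [pow_succ, pow_zero, one_mul]; group
      rw [e, h1, cube hy, one_mul]
    · intro h
      have : y ∈ K := by
        have h2 : y = k⁻¹ := (inv_eq_of_mul_eq_one_right h).symm
        rw [h2]; exact K.inv_mem hk
      exact hK.c3 (by rw [← hy]; exact Subgroup.orderOf_dvd_natCard K this)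
  · refine ⟨fun m hm => ?_, hK.c3⟩
    have e : k * y * m * (k * y)⁻¹ = k * (y * m * y⁻¹) * k⁻¹ := by group
    rw [e]
    exact K.mul_mem (K.mul_mem hk (hK.inv m hm)) (K.inv_mem hk)

/-- `a` commutes with all conjugates of `φ(a)` -/
theorem c1 (h : SC x) (hy : orderOf y = 3) (hK : PP y K) {a k : G} (ha : a ∈ K) (hk : k ∈ K) :
    Commute a (k * (y * a * y⁻¹) * k⁻¹) := by
  obtain ⟨h1, h2⟩ := ky h hy hK hk
  have := comm_conj h h1 h2 ha
  have e : k * y * a * (k * y)⁻¹ = k * (y * a * y⁻¹) * k⁻¹ := by group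
  rwa [e] at this

theorem third (h : SC x) (hy : orderOf y = 3) (hK : PP y K) {a : G} (ha : a ∈ K) :
    a = ((y * a * y⁻¹) * (y * (y * a * y⁻¹) * y⁻¹))⁻¹ := by
  have h1 := prod_eq h hy hK ha
  rw [mul_assoc] at h1
  exact eq_inv_of_mul_eq_one_left h1

/-- `a` commutes with all conjugates of `φ²(a)` -/
theorem c2 (h : SC x) (hy : orderOf y = 3) (hK : PP y K) {a k : G} (ha : a ∈ K) (hk : k ∈ K) :
    Commute a (k * (y * (y * a * y⁻¹) * y⁻¹) * k⁻¹) := by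
  have hy' : orderOf y⁻¹ = 3 := by rw [orderOf_inv]; exact hy
  have := c1 h hy' (PP.inv' hy hK) ha hk
  have e : y⁻¹ * a * y⁻¹⁻¹ = y * (y * a * y⁻¹) * y⁻¹ := by
    have e2 : y * (y * a * y⁻¹) * y⁻¹ = (y * y * y) * (y⁻¹ * a * y) * (y * y * y)⁻¹ := by group
    rw [e2, cube hy]; simp
  rwa [e] at this

/-- two-Engel -/
theorem c3 (h : SC x) (hy : orderOf y = 3) (hK : PP y K) {a k : G} (ha : a ∈ K) (hk : k ∈ K) :
    Commute a (k * a * k⁻¹) := by
  have h1 := c1 h hy hK ha hk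
  have h2 := c2 h hy hK ha hk
  have h3 := third h hy hK ha
  have e : k * a * k⁻¹ = ((k * (y * a * y⁻¹) * k⁻¹) * (k * (y * (y * a * y⁻¹) * y⁻¹) * k⁻¹))⁻¹ := by
    nth_rw 1 [h3]; group
  rw [e]
  exact (h1.mul_right h2).inv_right

/-- commutator -/
def cm (p q : G) : G := p⁻¹ * q⁻¹ * p * q

theorem cm_mem {p q : G} (hp : p ∈ K) (hq : q ∈ K) : cm p q ∈ K :=
  K.mul_mem (K.mul_mem (K.mul_mem (K.inv_mem hp) (K.inv_mem hq)) hp) hq

theorem cm_conj (g p q : G) : g * cm p q * g⁻¹ = cm (g * p * g⁻¹) (g * q * g⁻¹) := by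
  simp only [cm]; group

theorem cm_inv (p q : G) : (cm p q)⁻¹ = cm q p := by simp only [cm]; group

theorem cm3 (h : SC x) (hy : orderOf y = 3) (hK : PP y K) {a b : G} (ha : a ∈ K) (hb : b ∈ K) :
    cm (y * b * y⁻¹) a = cm b (y * a * y⁻¹) := by
  obtain ⟨c, hc⟩ : ∃ c, c = y * a * y⁻¹ := ⟨_, rfl⟩
  obtain ⟨d, hd⟩ : ∃ d, d = y * b * y⁻¹ := ⟨_, rfl⟩
  have hcK : c ∈ K := by rw [hc]; exact hK.inv a ha
  have h1 : Commute (a * b) (c * d) := by
    have := comm_conj h hy hK (K.mul_mem ha hb)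
    have e : y * (a * b) * y⁻¹ = c * d := by rw [hc, hd]; group
    rwa [e] at this
  have h2 : Commute a c := by rw [hc]; exact comm_conj h hy hK ha
  have h3 : c⁻¹ * b * c * d = a⁻¹ * d * a * b := by
    have e1 : c⁻¹ * b * c * d = (c⁻¹ * a⁻¹) * (a * b * (c * d)) := by group
    have e2 : c⁻¹ * a⁻¹ = a⁻¹ * c⁻¹ := h2.inv_inv.eq.symm
    rw [e1, e2, h1.eq]; group
  have h4 : Commute (c⁻¹ * b * c) d := by
    have := c1 h hy hK hb hcK
    rw [← hd] at this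
    show c⁻¹ * b * c * d = d * (c⁻¹ * b * c)
    have l : c⁻¹ * b * c * d = c⁻¹ * (b * (c * d * c⁻¹)) * c := by group
    have r : d * (c⁻¹ * b * c) = c⁻¹ * ((c * d * c⁻¹) * b) * c := by group
    rw [l, r, this.eq]
  have h5 : Commute b (c⁻¹ * b * c) := by
    have := c3 h hy hK hb (K.inv_mem hcK)
    rwa [inv_inv] at this
  have h6 : d * (c⁻¹ * b * c) = a⁻¹ * d * a * b := by rw [← h4.eq]; exact h3
  rw [← hc, ← hd]
  simp only [cm]
  have e1 : d⁻¹ * a⁻¹ * d * a = (c⁻¹ * b * c) * b⁻¹ := by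
    have : d⁻¹ * (d * (c⁻¹ * b * c)) * b⁻¹ = d⁻¹ * (a⁻¹ * d * a * b) * b⁻¹ := by rw [h6]
    have l : d⁻¹ * (d * (c⁻¹ * b * c)) * b⁻¹ = (c⁻¹ * b * c) * b⁻¹ := by group
    have r : d⁻¹ * (a⁻¹ * d * a * b) * b⁻¹ = d⁻¹ * a⁻¹ * d * a := by group
    rw [l, r] at this
    exact this.symm
  rw [e1, ← h5.inv_left.eq]; group

theorem cm6 (h : SC x) (hy : orderOf y = 3) (hK : PP y K) {a b : G} (ha : a ∈ K) (hb : b ∈ K) :
    cm b (y * a * y⁻¹) = y * (y * cm b a * y⁻¹) * y⁻¹ := by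
  obtain ⟨c, hc⟩ : ∃ c, c = y * a * y⁻¹ := ⟨_, rfl⟩
  obtain ⟨s, hs⟩ : ∃ s, s = y * c * y⁻¹ := ⟨_, rfl⟩
  obtain ⟨w, hw⟩ : ∃ w, w = cm b a := ⟨_, rfl⟩
  have hcK : c ∈ K := by rw [hc]; exact hK.inv a ha
  have hsK : s ∈ K := by rw [hs]; exact hK.inv c hcK
  have hwK : w ∈ K := by rw [hw]; exact cm_mem hb ha
  have h1 : s = (a * c)⁻¹ := by
    have := prod_eq h hy hK ha
    rw [← hc, ← hs] at this
    exact eq_inv_of_mul_eq_one_right this
  have h2 : Commute w c := by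
    have a1 : Commute a c := by rw [hc]; exact comm_conj h hy hK ha
    have a2 : Commute (b⁻¹ * a⁻¹ * b) c := by
      have := c1 h hy hK ha hb
      rw [← hc] at this
      show b⁻¹ * a⁻¹ * b * c = c * (b⁻¹ * a⁻¹ * b)
      have l : b⁻¹ * a⁻¹ * b * c = b⁻¹ * (a⁻¹ * (b * c * b⁻¹)) * b := by group
      have r : c * (b⁻¹ * a⁻¹ * b) = b⁻¹ * ((b * c * b⁻¹) * a⁻¹) * b := by group
      rw [l, r, this.inv_left.eq]
    rw [hw]
    exact a2.mul_left a1
  have h3 : cm b (a * c) = cm b c * w := by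
    have e : cm b (a * c) = cm b c * (c⁻¹ * w * c) := by rw [hw]; simp only [cm]; group
    have e2 : c⁻¹ * w * c = w := by
      rw [mul_assoc, h2.eq]; group
    rw [e, e2]
  have h4 : cm b s⁻¹ = (cm b s)⁻¹ := by
    have a1 : Commute s (cm b s) := by
      have := c3 h hy hK hsK (K.inv_mem hb)
      rw [inv_inv] at this
      have e : cm b s = (b⁻¹ * s * b)⁻¹ * s := by simp only [cm]; group
      rw [e]
      exact this.inv_right.mul_right (Commute.refl s)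
    have e : cm b s⁻¹ = s * (cm b s)⁻¹ * s⁻¹ := by simp only [cm]; group
    rw [e, a1.inv_right.eq, mul_inv_cancel_right]
  have h5 : cm b s = y * w * y⁻¹ := by
    have := cm3 h hy hK hcK hb
    rw [← hs] at this
    rw [← this, hw, cm_conj, ← hc]
  have h6 : s⁻¹ = a * c := by rw [h1, inv_inv]
  rw [h6, h3, h5] at h4
  have h7 := prod_eq h hy hK hwK
  have h8 : y * (y * w * y⁻¹) * y⁻¹ = (w * (y * w * y⁻¹))⁻¹ := eq_inv_of_mul_eq_one_right h7
  rw [← hc, ← hw, h8, mul_inv_rev, ← h4, mul_inv_cancel_right]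

theorem cm5 (h : SC x) (hy : orderOf y = 3) (hK : PP y K) {a b k : G} (ha : a ∈ K) (hb : b ∈ K) (hk : k ∈ K) :
    cm (k * b * k⁻¹) a = ((y * k * y⁻¹) * k) * cm b a * ((y * k * y⁻¹) * k)⁻¹ := by
  obtain ⟨h1, h2⟩ := ky h hy hK (K.inv_mem hk)
  have e1 := cm6 h h1 h2 ha hb
  have hkb : k * b * k⁻¹ ∈ K := K.mul_mem (K.mul_mem hk hb) (K.inv_mem hk)
  have e2 := cm6 h hy hK ha hkb
  have e3 : cm b (k⁻¹ * y * a * (k⁻¹ * y)⁻¹) = k⁻¹ * cm (k * b * k⁻¹) (y * a * y⁻¹) * k := by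
    have := cm_conj k⁻¹ (k * b * k⁻¹) (y * a * y⁻¹)
    rw [inv_inv] at this
    rw [this]
    congr 1 <;> group
  rw [e3, e2] at e1
  obtain ⟨u, hu⟩ : ∃ u, u = cm (k * b * k⁻¹) a := ⟨_, rfl⟩
  obtain ⟨w, hw⟩ : ∃ w, w = cm b a := ⟨_, rfl⟩
  rw [← hu, ← hw] at e1 ⊢
  -- (k⁻¹ y)² = (k⁻¹ y)⁻¹
  have h3 : (k⁻¹ * y) * (k⁻¹ * y) = (k⁻¹ * y)⁻¹ := (inv_eq h1).symm
  have h4 : y * y = y⁻¹ := (inv_eq hy).symm
  have e4 : k⁻¹ * y * (k⁻¹ * y * w * (k⁻¹ * y)⁻¹) * (k⁻¹ * y)⁻¹ = (k⁻¹ * y)⁻¹ * w * (k⁻¹ * y) := by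
    have : k⁻¹ * y * (k⁻¹ * y * w * (k⁻¹ * y)⁻¹) * (k⁻¹ * y)⁻¹ =
        ((k⁻¹ * y) * (k⁻¹ * y)) * w * ((k⁻¹ * y) * (k⁻¹ * y))⁻¹ := by group
    rw [this, h3, inv_inv]
  have e5 : y * (y * u * y⁻¹) * y⁻¹ = y⁻¹ * u * y := by
    have : y * (y * u * y⁻¹) * y⁻¹ = (y * y) * u * (y * y)⁻¹ := by group
    rw [this, h4, inv_inv]
  rw [e4, e5] at e1
  have e6 : u = y * (k * (k⁻¹ * (y⁻¹ * u * y) * k) * k⁻¹) * y⁻¹ := by group
  rw [e6, e1]; group

/-- class at most two -/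
theorem class2 (h : SC x) (hy : orderOf y = 3) (hK : PP y K) {a b k : G} (ha : a ∈ K) (hb : b ∈ K) (hk : k ∈ K) :
    Commute (cm b a) k := by
  obtain ⟨w, hw⟩ : ∃ w, w = cm b a := ⟨_, rfl⟩
  have key : ∀ k ∈ K, Commute ((y * k * y⁻¹) * (y * k * y⁻¹) * k) w := by
    intro k hk
    obtain ⟨p, hp⟩ : ∃ p, p = y * k * y⁻¹ := ⟨_, rfl⟩
    have hpk : Commute k p := by rw [hp]; exact comm_conj h hy hK hk
    have e1 := cm5 h hy hK ha hb hk
    have e2 := cm5 h hy hK hb ha hk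
    have hka : k * a * k⁻¹ ∈ K := K.mul_mem (K.mul_mem hk ha) (K.inv_mem hk)
    have e3 := cm5 h hy hK hka hb hk
    rw [← hp] at e1 e2 e3
    have e4 : cm b (k * a * k⁻¹) = (p * k) * w * (p * k)⁻¹ := by
      rw [← cm_inv, e2, ← cm_inv b a, ← hw]; group
    have e5 : k * w * k⁻¹ = (p * k) * ((p * k) * w * (p * k)⁻¹) * (p * k)⁻¹ := by
      rw [hw, cm_conj, e3, e4, hw]
    rw [← hp]
    show p * p * k * w = w * (p * p * k)
    have e6 : p * p * k = k⁻¹ * ((p * k) * (p * k)) := by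
      have : k⁻¹ * ((p * k) * (p * k)) = k⁻¹ * (k * p) * (p * k) := by rw [hpk.eq]; group
      rw [this]; group
    have e7 : w = k⁻¹ * ((p * k) * ((p * k) * w * (p * k)⁻¹) * (p * k)⁻¹) * k := by rw [← e5]; group
    rw [e6]
    nth_rw 2 [e7]; group
  rw [← hw]
  obtain ⟨p, hp⟩ : ∃ p, p = y * k * y⁻¹ := ⟨_, rfl⟩
  have hpK : p ∈ K := by rw [hp]; exact hK.inv k hk
  have hpk : Commute k p := by rw [hp]; exact comm_conj h hy hK hk
  have k1 := key k hk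
  have k2 := key p hpK
  rw [← hp] at k1
  have hpp : y * p * y⁻¹ = (k * p)⁻¹ := by
    have := prod_eq h hy hK hk
    rw [← hp] at this
    exact eq_inv_of_mul_eq_one_right this
  rw [hpp] at k2
  -- k³ commutes with w
  have k3 : Commute (k * k * k) w := by
    have e : k * k * k = (((k * p)⁻¹ * (k * p)⁻¹ * p)⁻¹ * ((k * p)⁻¹ * (k * p)⁻¹ * p)⁻¹) * (p * p * k)⁻¹ := by
      have hc := hpk.eq
      have hc' : p⁻¹ * k = k * p⁻¹ := (hpk.symm.inv_left).eq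
      have a1 : ((k * p)⁻¹ * (k * p)⁻¹ * p)⁻¹ = k * k * p := by
        have : ((k * p)⁻¹ * (k * p)⁻¹ * p)⁻¹ = (p⁻¹ * k) * p * k * p := by group
        rw [this, hc']; group
      have a2 : k * k * p * (k * k * p) = k * k * k * p * (p * k) := by
        calc k * k * p * (k * k * p) = k * k * (p * k) * k * p := by group
          _ = k * k * (k * p) * k * p := by rw [← hc]
          _ = k * k * k * p * (k * p) := by group
          _ = k * k * k * p * (p * k) := by rw [hc]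
      rw [a1, a2]; group
    rw [e]
    exact (k2.inv_left.mul_left k2.inv_left).mul_left k1.inv_left
  have h3 : ¬ 3 ∣ orderOf k := fun hd => hK.c3 (hd.trans (Subgroup.orderOf_dvd_natCard K hk))
  have hcop : Nat.Coprime (orderOf k) 3 := Nat.coprime_comm.1 ((Nat.Prime.coprime_iff_not_dvd Nat.prime_three).2 h3)
  have k4 : Commute (k ^ 3) w := by
    have : k ^ 3 = k * k * k := by simp [pow_succ]
    rw [this]; exact k3
  obtain ⟨m, hm⟩ : ∃ m : ℕ, (k ^ 3) ^ m = k := exists_pow_eq_self_of_coprime hcop.symm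
  rw [← hm]
  exact (k4.pow_left m).symm

end Cfsg.Agent.H19.FT11
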