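import Mathlib
import Cfsg.Agent.H19_FT11
import Cfsg.Agent.H19_FT5

/-! Feit–Thompson, self-centralizing subgroups of order three: quotients `A₅` and `PSL₂(7)`. -/

set_option autoImplicit false
set_option linter.unusedSectionVars false
namespace Cfsg.Agent.H19.FT12
open Cfsg.Agent.H19.FT2 Cfsg.Agent.H19.FT3 Cfsg.Agent.H19.FT4 Cfsg.Agent.H19.FT5 Cfsg.Agent.H19.FT11 Cfsg.Agent.H1.Basic

universe u

variable {G A : Type*} [Group G] [Finite G] [Group A] [Finite A] {x : G}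

theorem sc_map (f : G →* A) (hf : Function.Surjective f) (h : SC x) (h3 : ¬ 3 ∣ Nat.card f.ker) : SC (f x) := by
  haveI : Fact (Nat.Prime 3) := ⟨Nat.prime_three⟩
  have hP : PP x f.ker := PP.of_normal h3
  have hxk : x ∉ f.ker := fun hx => h3 (by rw [← h.o3]; exact Subgroup.orderOf_dvd_natCard _ hx)
  constructor
  · apply orderOf_eq_prime
    · rw [← map_pow, ← h.o3, pow_orderOf_eq_one, map_one]
    · exact hxk
  · intro a ha
    obtain ⟨g, rfl⟩ := hf a
    have hl : g * x * g⁻¹ * x⁻¹ ∈ f.ker := by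
      rw [MonoidHom.mem_ker, map_mul, map_mul, map_mul, map_inv, map_inv, ha.eq]; group
    let F : f.ker → f.ker := fun l => ⟨(l : G) * (x * (l : G)⁻¹ * x⁻¹), f.ker.mul_mem l.2 (hP.inv _ (f.ker.inv_mem l.2))⟩
    have hinj : Function.Injective F := by
      intro a b hab
      have h1 : (a : G) * (x * (a : G)⁻¹ * x⁻¹) = (b : G) * (x * (b : G)⁻¹ * x⁻¹) := congrArg Subtype.val hab
      have h2 : ((b : G)⁻¹ * (a : G)) * x = x * ((b : G)⁻¹ * (a : G)) := by
        have : (b : G)⁻¹ * ((a : G) * (x * (a : G)⁻¹ * x⁻¹)) = x * (b : G)⁻¹ * x⁻¹ := by rw [h1]; group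
        have h3 : (b : G)⁻¹ * (a : G) * x = (x * (b : G)⁻¹ * x⁻¹) * (x * (a : G)) := by
          rw [← this]; group
        rw [h3]; group
      have h4 := h.fpf h.o3 h3 (f.ker.mul_mem (f.ker.inv_mem b.2) a.2) h2
      exact Subtype.ext (inv_mul_eq_one.1 h4).symm
    obtain ⟨l, hl'⟩ := Finite.surjective_of_injective hinj ⟨_, hl⟩
    have h5 : (l : G) * (x * (l : G)⁻¹ * x⁻¹) = g * x * g⁻¹ * x⁻¹ := congrArg Subtype.val hl'
    have h6 : Commute ((l : G)⁻¹ * g) x := by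
      show (l : G)⁻¹ * g * x = x * ((l : G)⁻¹ * g)
      have e : (l : G)⁻¹ * g * x = (l : G)⁻¹ * (g * x * g⁻¹ * x⁻¹) * x * g := by group
      rw [e, ← h5]; group
    obtain ⟨n, hn⟩ := Subgroup.mem_zpowers_iff.1 (h.cen _ h6)
    have h7 : f g = f ((l : G)⁻¹ * g) := by
      rw [map_mul, map_inv, MonoidHom.mem_ker.1 l.2, inv_one, one_mul]
    rw [h7, ← hn, map_zpow]
    exact Subgroup.zpow_mem_zpowers _ _

theorem cent (f : G →* A) (hf : Function.Surjective f) (hA : IsSimpleGroup A) (h : SC x) (h3 : ¬ 3 ∣ Nat.card f.ker)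
    (D : Subgroup G) [hD : D.Normal] (hD3 : ¬ 3 ∣ Nat.card D) {r : G} (hr : r ∉ f.ker)
    (hrc : ∀ d ∈ D, Commute d r) : D = ⊥ := by
  obtain ⟨C, hC⟩ : ∃ C, C = Subgroup.centralizer (D : Set G) := ⟨_, rfl⟩
  haveI hCn : C.Normal := by rw [hC]; infer_instance
  have hrC : r ∈ C := by
    rw [hC, Subgroup.mem_centralizer_iff]; intro d hd; exact (hrc d hd).eq
  have hmn : (C.map f).Normal := hCn.map f hf
  have htop : C.map f = ⊤ := by
    rcases hmn.eq_bot_or_eq_top with h1 | h1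
    · exfalso
      apply hr
      have : f r ∈ C.map f := ⟨r, hrC, rfl⟩
      rw [h1] at this
      exact this
    · exact h1
  have hx : f x ∈ C.map f := by rw [htop]; trivial
  obtain ⟨c, hc, hcx⟩ := hx
  have he : c⁻¹ * x ∈ f.ker := by
    rw [MonoidHom.mem_ker, map_mul, map_inv, hcx, inv_mul_cancel]
  have hxC : x ∈ C := by
    have q1 : (x : G ⧸ C) = ((c⁻¹ * x : G) : G ⧸ C) := by
      rw [QuotientGroup.mk_mul, QuotientGroup.mk_inv, (QuotientGroup.eq_one_iff c).2 hc]; simp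
    have q2 : (x : G ⧸ C) ^ 3 = 1 := by
      rw [← QuotientGroup.mk_pow]
      have : x ^ 3 = 1 := by rw [← h.o3]; exact pow_orderOf_eq_one x
      rw [this]; rfl
    have q3 : (x : G ⧸ C) ^ (Nat.card f.ker) = 1 := by
      rw [q1, ← QuotientGroup.mk_pow]
      have : (c⁻¹ * x) ^ Nat.card f.ker = 1 := by
        have := pow_card_eq_one' (x := (⟨_, he⟩ : f.ker))
        exact congrArg Subtype.val this
      rw [this]; rfl
    have q4 : orderOf (x : G ⧸ C) ∣ 1 := by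
      have a1 := orderOf_dvd_of_pow_eq_one q2
      have a2 := orderOf_dvd_of_pow_eq_one q3
      have := Nat.dvd_gcd a1 a2
      rwa [(Nat.Prime.coprime_iff_not_dvd Nat.prime_three).2 h3] at this
    have q5 : (x : G ⧸ C) = 1 := by
      rw [Nat.dvd_one] at q4
      exact orderOf_eq_one_iff.1 q4
    exact (QuotientGroup.eq_one_iff x).1 q5
  rw [eq_bot_iff]
  intro d hd
  rw [hC, Subgroup.mem_centralizer_iff] at hxC
  rw [Subgroup.mem_bot]
  exact h.fpf h.o3 hD3 hd (hxC d hd)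

/-- transport of invariant subgroups -/
theorem tr {σ σ0 : A} (h : SC σ0) (hσ : orderOf σ = 3) {K : Subgroup A} (hK : PP σ K) {p : ℕ} (hp : ∀ k ∈ K, k ^ p = 1)
    (hne : K ≠ ⊥) : ∃ K' : Subgroup A, PP σ0 K' ∧ (∀ k ∈ K', k ^ p = 1) ∧ K' ≠ ⊥ := by
  open Pointwise in
  obtain ⟨g, hg⟩ := h.conj_or hσ
  have h1 : PP (g * σ0 * g⁻¹) K := by
    rcases hg with hg | hg
    · rw [hg]; exact hK
    · rw [hg]; exact PP.inv' hσ hK
  refine ⟨MulAut.conj g⁻¹ • K, ⟨?_, by rw [card_conj]; exact hK.c3⟩, ?_, ?_⟩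
  · intro k hk
    rw [mem_conj] at hk ⊢
    have := h1.inv _ hk
    have e : g⁻¹⁻¹ * (σ0 * k * σ0⁻¹) * g⁻¹ = g * σ0 * g⁻¹ * (g⁻¹⁻¹ * k * g⁻¹) * (g * σ0 * g⁻¹)⁻¹ := by group
    rw [e]; exact this
  · intro k hk
    rw [mem_conj] at hk
    have := hp _ hk
    have e : (g⁻¹⁻¹ * k * g⁻¹) ^ p = g * k ^ p * g⁻¹ := by
      rw [inv_inv]; exact conj_pow
    rw [e] at this
    have h2 : k ^ p = g⁻¹ * (g * k ^ p * g⁻¹) * g := by group
    rw [h2, this]; group
  · intro h2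
    apply hne
    have h3 := card_conj g⁻¹ K
    rw [h2, Subgroup.card_bot] at h3
    exact Subgroup.card_eq_one.1 h3.symm

/-- elementary abelian kernel -/
theorem elab_ker (f : G →* A) (hf : Function.Surjective f) (hA : IsSimpleGroup A) (h : SC x)
    (h3 : ¬ 3 ∣ Nat.card f.ker) {K : Subgroup A} (hK : PP (f x) K) (hp : ∀ k ∈ K, k ^ 2 = 1) (hne : K ≠ ⊥) :
    (∀ a ∈ f.ker, ∀ b ∈ f.ker, a * b = b * a) ∧ ∀ a ∈ f.ker, a * a = 1 := by
  obtain ⟨L, hL⟩ : ∃ L, L = K.comap f := ⟨_, rfl⟩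
  have hEL : f.ker ≤ L := by
    intro g hg
    rw [hL, Subgroup.mem_comap, MonoidHom.mem_ker.1 hg]; exact K.one_mem
  have hLsq : ∀ l ∈ L, l * l ∈ f.ker := by
    intro l hl
    rw [hL, Subgroup.mem_comap] at hl
    rw [MonoidHom.mem_ker, map_mul, ← pow_two]; exact hp _ hl
  have hPL : PP x L := by
    constructor
    · intro g hg
      rw [hL, Subgroup.mem_comap] at hg ⊢
      rw [map_mul, map_mul, map_inv]
      exact hK.inv _ hg
    · intro hd
      haveI : Fact (Nat.Prime 3) := ⟨Nat.prime_three⟩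
      obtain ⟨⟨g, hg⟩, hgo⟩ := exists_prime_orderOf_dvd_card' 3 hd
      have hgo' : orderOf g = 3 := by rw [← hgo]; exact (Subgroup.orderOf_mk g hg).symm ▸ rfl
      have h1 := hLsq g hg
      have h2 : g * g * g = 1 := cube hgo'
      have h4 : g⁻¹ ∈ f.ker := by rw [inv_eq hgo']; exact h1
      exact h3 (by rw [← hgo', ← orderOf_inv]; exact Subgroup.orderOf_dvd_natCard _ h4)
  obtain ⟨v, hvL, hvE⟩ : ∃ v ∈ L, v ∉ f.ker := by
    obtain ⟨⟨k, hk⟩, hk1⟩ : ∃ k : K, k ≠ 1 := by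
      haveI := (Subgroup.nontrivial_iff_ne_bot K).2 hne
      exact exists_ne 1
    obtain ⟨v, rfl⟩ := hf k
    refine ⟨v, by rw [hL]; exact hk, fun hv => hk1 (Subtype.ext hv)⟩
  have hker : ∀ (S : Set G), (∀ s ∈ S, s ∈ f.ker) → (∀ s ∈ S, ∀ g : G, g * s * g⁻¹ ∈ S) → (∀ s ∈ S, Commute s v) →
      ∀ s ∈ S, s = 1 := by
    intro S hS1 hS2 hS3 s hs
    haveI : (Subgroup.closure S).Normal := by
      constructor
      intro n hn g
      have hle : Subgroup.closure S ≤ (Subgroup.closure S).comap (MulAut.conj g).toMonoidHom := by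
        rw [Subgroup.closure_le]
        intro p hp
        exact Subgroup.subset_closure (hS2 p hp g)
      exact hle hn
    have hle : Subgroup.closure S ≤ f.ker := (Subgroup.closure_le _).2 hS1
    have := cent f hf hA h h3 (Subgroup.closure S) (fun hd => h3 (hd.trans (Subgroup.card_dvd_of_le hle))) hvE (by
      intro d hd
      have hle2 : Subgroup.closure S ≤ Subgroup.centralizer ({v} : Set G) := by
        rw [Subgroup.closure_le]
        intro p hp
        show p ∈ Subgroup.centralizer ({v} : Set G)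
        rw [Subgroup.mem_centralizer_iff]
        intro w hw; rw [Set.mem_singleton_iff] at hw; rw [hw]
        exact (hS3 p hp).eq.symm
      exact (Subgroup.mem_centralizer_iff.1 (hle2 hd) v rfl).symm)
    have hs' := Subgroup.subset_closure hs
    rw [this] at hs'
    exact hs'
  have hab : ∀ a ∈ f.ker, ∀ b ∈ f.ker, a * b = b * a := by
    intro a ha b hb
    have := hker {g | ∃ a ∈ f.ker, ∃ b ∈ f.ker, g = cm a b} (by
      rintro _ ⟨a, ha, b, hb, rfl⟩
      exact cm_mem ha hb) (by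
      rintro _ ⟨a, ha, b, hb, rfl⟩ g
      exact ⟨_, (inferInstance : f.ker.Normal).conj_mem a ha g, _, (inferInstance : f.ker.Normal).conj_mem b hb g,
        cm_conj g a b⟩) (by
      rintro _ ⟨a, ha, b, hb, rfl⟩
      exact class2 h h.o3 hPL (hEL hb) (hEL ha) hvL) (cm a b) ⟨a, ha, b, hb, rfl⟩
    simp only [cm] at this
    have e : a * b = b * a * (a⁻¹ * b⁻¹ * a * b) := by group
    rw [e, this, mul_one]
  refine ⟨hab, ?_⟩
  intro a ha
  refine hker {g | ∃ a ∈ f.ker, g = a * a} ?_ ?_ ?_ _ ⟨a, ha, rfl⟩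
  · rintro _ ⟨a, ha, rfl⟩
    exact f.ker.mul_mem ha ha
  · rintro _ ⟨a, ha, rfl⟩ g
    exact ⟨_, (inferInstance : f.ker.Normal).conj_mem a ha g, by group⟩
  · rintro _ ⟨e, he, rfl⟩
    obtain ⟨c, hc⟩ : ∃ c, c = cm e v := ⟨_, rfl⟩
    have hcc : ∀ l ∈ L, Commute c l := fun l hl => by
      rw [hc]; exact class2 h h.o3 hPL hvL (hEL he) hl
    have e1 : v⁻¹ * e * v = e * c := by rw [hc]; simp only [cm]; group
    have e2 : c * c = 1 := by
      have a1 : (v * v)⁻¹ * e * (v * v) = e := by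
        have := hab _ (hLsq v hvL) e he
        rw [mul_assoc, ← this]; group
      have a2 : (v * v)⁻¹ * e * (v * v) = e * c * c := by
        have : (v * v)⁻¹ * e * (v * v) = (v⁻¹ * (v⁻¹ * e * v) * v) := by group
        rw [this, e1]
        have : v⁻¹ * (e * c) * v = (v⁻¹ * e * v) * (v⁻¹ * c * v) := by group
        rw [this, e1]
        have : v⁻¹ * c * v = c := by rw [mul_assoc, (hcc v hvL).eq]; group
        rw [this]
      rw [a1, mul_assoc] at a2
      exact (mul_eq_left.1 a2.symm)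
    have e3 : v⁻¹ * (e * e) * v = e * e := by
      have : v⁻¹ * (e * e) * v = (v⁻¹ * e * v) * (v⁻¹ * e * v) := by group
      rw [this, e1]
      have : e * c * (e * c) = e * (c * e) * c := by group
      rw [this, (hcc e (hEL he)).eq]
      have : e * (e * c) * c = e * e * (c * c) := by group
      rw [this, e2, mul_one]
    show e * e * v = v * (e * e)
    have h9 : v * (v⁻¹ * (e * e) * v) = v * (e * e) := by rw [e3]
    rw [← h9]; group

/-- coprime case -/
theorem kill (f : G →* A) (hf : Function.Surjective f) (hA : IsSimpleGroup A) (h : SC x)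
    (h3 : ¬ 3 ∣ Nat.card f.ker) {p q : ℕ} [hpp : Fact p.Prime] [hqq : Fact q.Prime] (hpq : p ≠ q) (hp3 : p ≠ 3)
    {K : Subgroup A} (hK : PP (f x) K) (hp : ∀ k ∈ K, k ^ p = 1) (hne : K ≠ ⊥) : ¬ q ∣ Nat.card f.ker := by
  intro hqd
  obtain ⟨L, hL⟩ : ∃ L, L = K.comap f := ⟨_, rfl⟩
  have hEL : f.ker ≤ L := by
    intro g hg
    rw [hL, Subgroup.mem_comap, MonoidHom.mem_ker.1 hg]; exact K.one_mem
  have hLp : ∀ l ∈ L, l ^ p ∈ f.ker := by
    intro l hl
    rw [hL, Subgroup.mem_comap] at hl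
    rw [MonoidHom.mem_ker, map_pow]; exact hp _ hl
  have hPL : PP x L := by
    constructor
    · intro g hg
      rw [hL, Subgroup.mem_comap] at hg ⊢
      rw [map_mul, map_mul, map_inv]
      exact hK.inv _ hg
    · intro hd
      haveI : Fact (Nat.Prime 3) := ⟨Nat.prime_three⟩
      obtain ⟨⟨g, hg⟩, hgo⟩ := exists_prime_orderOf_dvd_card' 3 hd
      have hgo' : orderOf g = 3 := by rw [← hgo]; exact (Subgroup.orderOf_mk g hg).symm ▸ rfl
      have h1 := hLp g hg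
      have h2 : orderOf (g ^ p) = 3 := by
        rw [Nat.Coprime.orderOf_pow, hgo']
        rw [hgo']
        exact (Nat.coprime_primes Nat.prime_three hpp.out).2 (Ne.symm hp3)
      exact h3 (by rw [← h2]; exact Subgroup.orderOf_dvd_natCard _ h1)
  have hnil := h.nilp h.o3 hPL
  obtain ⟨r, hrL, hrE⟩ : ∃ v ∈ L, v ∉ f.ker := by
    obtain ⟨⟨k, hk⟩, hk1⟩ : ∃ k : K, k ≠ 1 := by
      haveI := (Subgroup.nontrivial_iff_ne_bot K).2 hne
      exact exists_ne 1
    obtain ⟨v, rfl⟩ := hf k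
    refine ⟨v, by rw [hL]; exact hk, fun hv => hk1 (Subtype.ext hv)⟩
  -- p-part of r
  obtain ⟨a, m, hm, ham⟩ := Nat.exists_eq_pow_mul_and_not_dvd (orderOf_pos r).ne' p hpp.out.ne_one
  have hr0E : r ^ m ∉ f.ker := by
    intro hin
    have hcop : Nat.Coprime m p := Nat.coprime_comm.1 ((Nat.Prime.coprime_iff_not_dvd hpp.out).2 hm)
    have h1 : (f r) ^ m = 1 := by rw [← map_pow]; exact hin
    have h2 : (f r) ^ p = 1 := by rw [← map_pow]; exact hLp r hrL
    have h4 : orderOf (f r) ∣ 1 := by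
      have := Nat.dvd_gcd (orderOf_dvd_of_pow_eq_one h1) (orderOf_dvd_of_pow_eq_one h2)
      rwa [hcop] at this
    exact hrE (orderOf_eq_one_iff.1 (Nat.dvd_one.1 h4))
  have hr0p : (r ^ m) ^ (p ^ a) = 1 := by
    rw [← pow_mul, mul_comm, ← ham]; exact pow_orderOf_eq_one r
  have hr0L : r ^ m ∈ L := L.pow_mem hrL m
  have hr0S : r ^ m ∈ SQ L p := SQ_mem hnil hr0L ⟨a, hr0p⟩
  haveI hDn : (SQ f.ker q).Normal := by
    have hnE : Group.IsNilpotent f.ker := h.nilp h.o3 (PP.of_normal h3)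
    constructor
    intro n hn g
    have : g ∈ NN f.ker := by rw [NN, Subgroup.normalizer_eq_top]; trivial
    exact NN_conj (SQ_char hnE this) hn
  have hdisj : ∀ z, z ∈ SQ L p → z ∈ SQ L q → z = 1 := by
    intro z h1 h2
    obtain ⟨k1, e1⟩ := SQ_pg (M := L) (q := p) ⟨z, h1⟩
    obtain ⟨k2, e2⟩ := SQ_pg (M := L) (q := q) ⟨z, h2⟩
    have e1' : z ^ p ^ k1 = 1 := congrArg Subtype.val e1
    have e2' : z ^ q ^ k2 = 1 := congrArg Subtype.val e2
    have hcop : Nat.Coprime (p ^ k1) (q ^ k2) := Nat.Coprime.pow _ _ ((Nat.coprime_primes hpp.out hqq.out).2 hpq)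
    have h4 : orderOf z ∣ 1 := by
      have := Nat.dvd_gcd (orderOf_dvd_of_pow_eq_one e1') (orderOf_dvd_of_pow_eq_one e2')
      rwa [hcop] at this
    exact orderOf_eq_one_iff.1 (Nat.dvd_one.1 h4)
  have hD3 : ¬ 3 ∣ Nat.card (SQ f.ker q) := fun hd => h3 (hd.trans (Subgroup.card_dvd_of_le SQ_le))
  have := cent f hf hA h h3 (SQ f.ker q) hD3 hr0E (by
    intro d hd
    have hdL : d ∈ L := hEL (SQ_le hd)
    have hdS : d ∈ SQ L q := by
      obtain ⟨k, hk⟩ := SQ_pg (M := f.ker) (q := q) ⟨d, hd⟩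
      exact SQ_mem hnil hdL ⟨k, congrArg Subtype.val hk⟩
    have n1 : ∀ l ∈ L, ∀ s ∈ SQ L p, l * s * l⁻¹ ∈ SQ L p := fun l hl s hs =>
      NN_conj (SQ_char hnil (Subgroup.le_normalizer hl)) hs
    have n2 : ∀ l ∈ L, ∀ s ∈ SQ L q, l * s * l⁻¹ ∈ SQ L q := fun l hl s hs =>
      NN_conj (SQ_char hnil (Subgroup.le_normalizer hl)) hs
    have hz := hdisj (d * r ^ m * d⁻¹ * (r ^ m)⁻¹)
      ((SQ L p).mul_mem (n1 d hdL _ hr0S) ((SQ L p).inv_mem hr0S)) (by
        have e : d * r ^ m * d⁻¹ * (r ^ m)⁻¹ = d * (r ^ m * d⁻¹ * (r ^ m)⁻¹) := by group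
        rw [e]
        exact (SQ L q).mul_mem hdS (n2 _ hr0L _ ((SQ L q).inv_mem hdS)))
    show d * r ^ m = r ^ m * d
    exact mul_inv_eq_iff_eq_mul.1 (mul_inv_eq_one.1 hz))
  exact SQ_ne_bot hqd this

end Cfsg.Agent.H19.FT12
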