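import Mathlib
import Cfsg.Agent.H19_FT12

/-! Feit–Thompson, self-centralizing subgroups of order three: `PSL₂(7)`. -/

set_option autoImplicit false
set_option linter.unusedSectionVars false
namespace Cfsg.Agent.H19.FT13
open Cfsg.Agent.H19.FT2 Cfsg.Agent.H19.FT3 Cfsg.Agent.H19.FT4 Cfsg.Agent.H19.FT5 Cfsg.Agent.H19.FT11
  Cfsg.Agent.H19.FT12 Cfsg.Agent.H1.Basic

local notation "SL" => Matrix.SpecialLinearGroup (Fin 2) (ZMod 7)
local notation "PSL" => Matrix.ProjectiveSpecialLinearGroup (Fin 2) (ZMod 7)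

def mi : SL := ⟨!![0, 1; 6, 0], by decide⟩
def ms : SL := ⟨!![4, 6; 0, 2], by decide⟩
def mu : SL := ⟨!![1, 1; 0, 1], by decide⟩
def mj : SL := ⟨!![2, 3; 3, 5], by decide⟩
def mm1 : SL := ⟨!![6, 0; 0, 6], by decide⟩

theorem mm1_center : mm1 ∈ Subgroup.center SL := by
  rw [Subgroup.mem_center_iff]
  intro g
  apply Subtype.ext
  show (g : Matrix (Fin 2) (Fin 2) (ZMod 7)) * !![6, 0; 0, 6] = !![6, 0; 0, 6] * (g : Matrix (Fin 2) (Fin 2) (ZMod 7))
  ext i j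
  fin_cases i <;> fin_cases j <;> simp [Matrix.mul_apply, Fin.sum_univ_two, mul_comm]

theorem ms3 : ms * ms * ms = 1 := by decide
theorem mi2 : mi * mi = mm1 := by decide
theorem msi : ms * mi = mj * ms := by decide
theorem mij : mi * mj = mm1 * (mj * mi) := by decide
theorem msu : ms * mu = mu * mu * ms := by decide
theorem mu7 : mu ^ 7 = 1 := by decide
theorem mi_nc : mi * mu ≠ mu * mi := by decide
theorem ms_nc : ms * mu ≠ mu * ms := by decide

def pk (g : SL) : PSL := QuotientGroup.mk g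

theorem pk_mul (a b : SL) : pk (a * b) = pk a * pk b := rfl
theorem pk_m1 : pk mm1 = 1 := (QuotientGroup.eq_one_iff _).2 mm1_center
theorem pk_one : pk 1 = 1 := rfl
theorem pk_ne {g h : SL} (hne : g * h ≠ h * g) : pk g ≠ 1 := by
  intro h1
  have := (QuotientGroup.eq_one_iff _).1 h1
  exact hne ((Subgroup.mem_center_iff.1 this h).symm)

theorem order_ps : orderOf (pk ms) = 3 := by
  haveI : Fact (Nat.Prime 3) := ⟨Nat.prime_three⟩
  apply orderOf_eq_prime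
  · have : (pk ms) ^ 3 = pk (ms * ms * ms) := by rw [pk_mul, pk_mul]; simp [pow_succ]
    rw [this, ms3]; rfl
  · exact pk_ne ms_nc

/-- the Klein four-group -/
theorem klein7 : ∃ K : Subgroup PSL, PP (pk ms) K ∧ (∀ k ∈ K, k ^ 2 = 1) ∧ K ≠ ⊥ := by
  have h1 : pk ms * pk mi * (pk ms)⁻¹ = pk mj := by
    rw [mul_inv_eq_iff_eq_mul, ← pk_mul, ← pk_mul, msi]
  have h2 : pk mi * pk mi = 1 := by rw [← pk_mul, mi2, pk_m1]
  obtain ⟨K, hK1, hK2, hK3, -⟩ := klein (y := pk ms) (v := pk mi) (cube order_ps) h2 (by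
    rw [h1, ← pk_mul, mij, pk_mul, pk_m1, one_mul, pk_mul])
  refine ⟨K, ⟨hK2, not3 (isP2 hK3)⟩, fun k hk => by rw [pow_two]; exact hK3 k hk, ?_⟩
  intro hb
  rw [hb, Subgroup.mem_bot] at hK1
  exact pk_ne mi_nc hK1

theorem seven : ∃ K : Subgroup PSL, PP (pk ms) K ∧ (∀ k ∈ K, k ^ 7 = 1) ∧ K ≠ ⊥ := by
  haveI : Fact (Nat.Prime 7) := ⟨by norm_num⟩
  have hne : pk mu ≠ 1 := pk_ne (h := mi) (fun h => mi_nc h.symm)
  have h7 : (pk mu) ^ 7 = 1 := by
    have : (pk mu) ^ 7 = pk (mu ^ 7) := rfl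
    rw [this, mu7]; rfl
  have ho : orderOf (pk mu) = 7 := orderOf_eq_prime h7 hne
  have h1 : pk ms * pk mu * (pk ms)⁻¹ = pk mu * pk mu := by
    rw [mul_inv_eq_iff_eq_mul, ← pk_mul, ← pk_mul, ← pk_mul, msu]
  refine ⟨Subgroup.zpowers (pk mu), ⟨?_, ?_⟩, ?_, ?_⟩
  · intro k hk
    obtain ⟨n, rfl⟩ := Subgroup.mem_zpowers_iff.1 hk
    rw [← conj_zpow, h1]
    exact Subgroup.zpow_mem _ (Subgroup.mul_mem _ (Subgroup.mem_zpowers _) (Subgroup.mem_zpowers _)) n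
  · rw [Nat.card_zpowers, ho]; norm_num
  · intro k hk
    obtain ⟨n, rfl⟩ := Subgroup.mem_zpowers_iff.1 hk
    rw [← zpow_natCast, ← zpow_mul, mul_comm, zpow_mul, zpow_natCast, h7, one_zpow]
  · intro hb
    rw [Subgroup.zpowers_eq_bot] at hb
    exact hne hb

theorem psl_simple : IsSimpleGroup PSL := by
  haveI : Fact (Nat.Prime 7) := ⟨by norm_num⟩
  exact Matrix.ProjectiveSpecialLinearGroup.rank_two_simple (by rw [Nat.card_zmod]; omega)

/-- no fixed-point-free extension of `PSL₂(7)` -/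
theorem psl_ker {G : Type*} [Group G] [Finite G] {x : G} (f : G →* PSL) (hf : Function.Surjective f) (h : SC x)
    (h3 : ¬ 3 ∣ Nat.card f.ker) : f.ker = ⊥ := by
  haveI : Finite PSL := Finite.of_surjective f hf
  have hs := sc_map f hf h h3
  obtain ⟨K2, p2, e2, n2⟩ := klein7
  obtain ⟨K7, p7, e7, n7⟩ := seven
  obtain ⟨L2, q2, f2, m2⟩ := tr hs order_ps p2 e2 n2
  obtain ⟨L7, q7, f7, m7⟩ := tr hs order_ps p7 e7 n7
  by_contra hne
  have h1 : Nat.card f.ker ≠ 1 := fun hc => hne (Subgroup.card_eq_one.1 hc)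
  obtain ⟨q, hq, hqd⟩ := Nat.exists_prime_and_dvd h1
  haveI : Fact q.Prime := ⟨hq⟩
  haveI : Fact (Nat.Prime 7) := ⟨by norm_num⟩
  haveI : Fact (Nat.Prime 2) := ⟨Nat.prime_two⟩
  by_cases hq7 : q = 7
  · subst hq7
    exact kill (p := 2) (q := 7) f hf psl_simple h h3 (by norm_num) (by norm_num) q2 f2 m2 hqd
  · exact kill (p := 7) (q := q) f hf psl_simple h h3 (fun e => hq7 e.symm) (by norm_num) q7 f7 m7 hqd

/-- extensions of `A₅` -/
theorem a5_ker {G : Type*} [Group G] [Finite G] {x : G} (f : G →* alternatingGroup (Fin 5)) (hf : Function.Surjective f)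
    (h : SC x) (h3 : ¬ 3 ∣ Nat.card f.ker) : (∀ a ∈ f.ker, ∀ b ∈ f.ker, a * b = b * a) ∧ ∀ a ∈ f.ker, a * a = 1 := by
  have hs := sc_map f hf h h3
  obtain ⟨v, hv1, hv2, hvc⟩ := a5_v (f x) (cube hs.o3) (ne_one hs.o3)
  obtain ⟨K, hvK, hKi, hK2, -⟩ := klein (cube hs.o3) hv2 hvc
  refine elab_ker f hf Cfsg_a5simple h h3 (K := K) ⟨hKi, not3 (isP2 hK2)⟩ (fun k hk => by rw [pow_two]; exact hK2 k hk) ?_
  intro hb
  rw [hb, Subgroup.mem_bot] at hvK
  exact hv1 hvK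

end Cfsg.Agent.H19.FT13
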