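import Mathlib
import Cfsg.Agent.H19_FT13
import Cfsg.Agent.H19_FT10

/-! Feit–Thompson, self-centralizing subgroups of order three: the theorem. -/

set_option autoImplicit false
set_option linter.unusedSectionVars false
namespace Cfsg.Agent.H19.FT14
open Cfsg.Agent.H19.FT2 Cfsg.Agent.H19.FT3 Cfsg.Agent.H19.FT4 Cfsg.Agent.H19.FT5 Cfsg.Agent.H19.FT11
  Cfsg.Agent.H19.FT12 Cfsg.Agent.H19.FT13 Cfsg.Agent.H1.Basic

universe u

theorem burnside {G : Type*} [Group G] [Finite G] {x : G} (h : SC x) (hr : ¬ IsConj x x⁻¹) :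
    ∃ K : Subgroup G, K.Normal ∧ ¬ 3 ∣ Nat.card K ∧ K.index = 3 := by
  haveI : Fact (Nat.Prime 3) := ⟨Nat.prime_three⟩
  obtain ⟨P, hP⟩ := (isP_zp h.o3).exists_le_sylow
  have h1 := h.card_le P.isPGroup' (hP (Subgroup.mem_zpowers x))
  have hN : Subgroup.normalizer ((P : Subgroup G) : Set G) ≤ Subgroup.centralizer ((P : Subgroup G) : Set G) := by
    intro g hg
    have hxP : x ∈ (P : Subgroup G) := hP (Subgroup.mem_zpowers x)
    have h2 := (Subgroup.mem_normalizer_iff.1 hg x).1 hxP
    rw [h1] at h2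
    have h3 : g * x * g⁻¹ = x := by
      rcases zp h.o3 h2 with h4 | h4 | h4
      · exact absurd h4 (ne_one (o3_conj h.o3 g))
      · exact h4
      · exact absurd (isConj_iff.2 ⟨g, h4⟩) hr
    have h4 : Commute g x := mul_inv_eq_iff_eq_mul.1 h3
    rw [Subgroup.mem_centralizer_iff]
    intro k hk
    have hk' : k ∈ Subgroup.zpowers x := by rw [← h1]; exact hk
    obtain ⟨n, rfl⟩ := Subgroup.mem_zpowers_iff.1 hk'
    exact (h4.zpow_right n).eq.symm
  have hc := MonoidHom.ker_transferSylow_isComplement' P hN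
  have hi : (MonoidHom.transferSylow P hN).ker.index = 3 := by
    rw [hc.symm.index_eq_card, h1, card_zp h.o3]
  refine ⟨(MonoidHom.transferSylow P hN).ker, inferInstance, ?_, hi⟩
  intro hd
  apply h.not9
  rw [← (MonoidHom.transferSylow P hN).ker.card_mul_index, hi]
  exact Nat.mul_dvd_mul hd (dvd_refl 3)

theorem cop3 {n : ℕ} (h : ¬ 3 ∣ n) : n.Coprime 3 :=
  Nat.coprime_comm.1 ((Nat.Prime.coprime_iff_not_dvd Nat.prime_three).2 h)

theorem concl_of_index3 {G : Type u} [Group G] [Finite G] {x : G} (h : SC x) {K : Subgroup G} (hK : K.Normal)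
    (h3 : ¬ 3 ∣ Nat.card K) (hi : K.index = 3) : Concl G := by
  left
  exact ⟨K, hK, h.nilp h.o3 (PP.of_normal h3), cop3 h3, Or.inl (by rw [← Subgroup.index_eq_card]; exact hi)⟩

theorem no3 {G : Type*} [Group G] [Finite G] {K : Subgroup G} (h : ∀ g ∈ K, orderOf g ≠ 3) : ¬ 3 ∣ Nat.card K := by
  intro hd
  haveI : Fact (Nat.Prime 3) := ⟨Nat.prime_three⟩
  obtain ⟨⟨g, hg⟩, hgo⟩ := exists_prime_orderOf_dvd_card' 3 hd
  exact h g hg (by rw [← hgo]; exact (Subgroup.orderOf_mk g hg).symm ▸ rfl)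

theorem lift_concl {G : Type u} [Group G] [Finite G] {x : G} (h : SC x) (L : Subgroup G) [hL : L.Normal] (hL1 : L ≠ ⊥)
    (h3 : ¬ 3 ∣ Nat.card L) (hC : Concl (G ⧸ L)) : Concl G := by
  have hm := QuotientGroup.mk'_surjective L
  rcases hC with ⟨N, hN, -, hN3, hN6⟩ | ⟨N, hN, hNc, hN2, ⟨e⟩⟩ | ⟨⟨e⟩⟩
  · left
    let f : G →* (G ⧸ L) ⧸ N := (QuotientGroup.mk' N).comp (QuotientGroup.mk' L)
    have hf : Function.Surjective f := (QuotientGroup.mk'_surjective N).comp hm
    let E := QuotientGroup.quotientKerEquivOfSurjective f hf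
    have hk3 : ¬ 3 ∣ Nat.card f.ker := by
      apply no3
      intro g hg ho
      have h1 : QuotientGroup.mk' L g ∈ N := (QuotientGroup.eq_one_iff _).1 hg
      have h2 : orderOf (QuotientGroup.mk' L g) ∣ 1 := by
        have a1 := orderOf_map_dvd (QuotientGroup.mk' L) g
        rw [ho] at a1
        have a2 := Subgroup.orderOf_dvd_natCard N h1
        have := Nat.dvd_gcd a2 a1
        rwa [hN3] at this
      have h4 := orderOf_eq_one_iff.1 (Nat.dvd_one.1 h2)
      have h5 : g ∈ L := (QuotientGroup.eq_one_iff g).1 h4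
      exact h3 (by rw [← ho]; exact Subgroup.orderOf_dvd_natCard L h5)
    refine ⟨f.ker, inferInstance, h.nilp h.o3 (PP.of_normal hk3), cop3 hk3, ?_⟩
    rcases hN6 with h6 | h6
    · left; rw [Nat.card_congr E.toEquiv]; exact h6
    · right
      obtain ⟨e⟩ := h6
      exact ⟨E.trans e⟩
  · right; left
    let f : G →* alternatingGroup (Fin 5) := e.toMonoidHom.comp ((QuotientGroup.mk' N).comp (QuotientGroup.mk' L))
    have hf : Function.Surjective f := e.surjective.comp ((QuotientGroup.mk'_surjective N).comp hm)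
    have hk3 : ¬ 3 ∣ Nat.card f.ker := by
      apply no3
      intro g hg ho
      have h0 : QuotientGroup.mk' N (QuotientGroup.mk' L g) = 1 := (map_eq_one_iff e e.injective).1 hg
      have h1 : QuotientGroup.mk' L g ∈ N := (QuotientGroup.eq_one_iff _).1 h0
      have h2 : orderOf (QuotientGroup.mk' L g) ∣ 1 := by
        have a1 := orderOf_map_dvd (QuotientGroup.mk' L) g
        rw [ho] at a1
        have a2 := orderOf_dvd_of_pow_eq_one (hN2 _ h1)
        have := Nat.dvd_gcd a2 a1
        exact this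
      have h4 := orderOf_eq_one_iff.1 (Nat.dvd_one.1 h2)
      have h5 : g ∈ L := (QuotientGroup.eq_one_iff g).1 h4
      exact h3 (by rw [← ho]; exact Subgroup.orderOf_dvd_natCard L h5)
    obtain ⟨a1, a2⟩ := a5_ker f hf h hk3
    exact ⟨f.ker, inferInstance, ⟨⟨fun a b => Subtype.ext (a1 a a.2 b b.2)⟩⟩, fun n hn => by rw [pow_two]; exact a2 n hn,
      ⟨QuotientGroup.quotientKerEquivOfSurjective f hf⟩⟩
  · exfalso
    let f : G →* Matrix.ProjectiveSpecialLinearGroup (Fin 2) (ZMod 7) := e.toMonoidHom.comp (QuotientGroup.mk' L)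
    have hf : Function.Surjective f := e.surjective.comp hm
    have hker : f.ker = L := by
      ext g
      rw [MonoidHom.mem_ker]
      show e (g : G ⧸ L) = 1 ↔ g ∈ L
      rw [map_eq_one_iff e e.injective, QuotientGroup.eq_one_iff]
    have := psl_ker f hf h (by rw [hker]; exact h3)
    rw [hker] at this
    exact hL1 this

theorem nx {G : Type*} [Group G] [Finite G] {x t g : G} (h : SC x) (ht : t * x * t⁻¹ = x⁻¹)
    (hg : g * x * g⁻¹ = x ∨ g * x * g⁻¹ = x⁻¹) :
    g ∈ Subgroup.zpowers x ∨ t⁻¹ * g ∈ Subgroup.zpowers x := by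
  rcases hg with hg | hg
  · left; exact h.cen g (mul_inv_eq_iff_eq_mul.1 hg)
  · right
    apply h.cen
    have h1 : t⁻¹ * g * x * (t⁻¹ * g)⁻¹ = x := by
      have e : t⁻¹ * g * x * (t⁻¹ * g)⁻¹ = t⁻¹ * (g * x * g⁻¹) * t := by group
      rw [e, hg, ← ht]; group
    exact mul_inv_eq_iff_eq_mul.1 h1

theorem tsq {G : Type*} [Group G] [Finite G] {x t : G} (h : SC x) (ht : t * x * t⁻¹ = x⁻¹) : t * t = 1 := by
  have e2 : t * x⁻¹ * t⁻¹ = x := by
    have : t * x⁻¹ * t⁻¹ = (t * x * t⁻¹)⁻¹ := by group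
    rw [this, ht, inv_inv]
  have h1 : Commute (t * t) x := by
    show t * t * x = x * (t * t)
    have e : t * t * x = t * (t * x * t⁻¹) * t⁻¹ * (t * t) := by group
    rw [e, ht, e2]
  have h2 : t * (t * t) * t⁻¹ = t * t := by group
  rcases zp h.o3 (h.cen _ h1) with h3 | h3 | h3
  · exact h3
  · exfalso
    rw [h3, ht] at h2
    exact ne_inv h.o3 h2.symm
  · exfalso
    rw [h3, e2] at h2
    exact ne_inv h.o3 h2

/-- the case of order six -/
theorem six {G : Type u} [Group G] [Finite G] {x t : G} (h : SC x) (ht : t * x * t⁻¹ = x⁻¹)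
    (hn : (Subgroup.zpowers x).Normal) : Concl G := by
  left
  have htt := tsq h ht
  have hti : t⁻¹ = t := inv_eq_of_mul_eq_one_left htt
  have htx : t ∉ Subgroup.zpowers x := by
    intro h1
    have h2 : Commute t x := by
      obtain ⟨n, hn⟩ := Subgroup.mem_zpowers_iff.1 h1
      rw [← hn]; exact (Commute.refl x).zpow_left n
    rw [h2.eq, mul_inv_cancel_right] at ht
    exact ne_inv h.o3 ht
  have hidx : (Subgroup.zpowers x).index = 2 := by
    rw [Subgroup.index_eq_two_iff]
    refine ⟨t, fun b => ?_⟩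
    by_cases hb : b ∈ Subgroup.zpowers x
    · right
      refine ⟨hb, fun h1 => htx ?_⟩
      have := (Subgroup.zpowers x).mul_mem ((Subgroup.zpowers x).inv_mem hb) h1
      rwa [inv_mul_cancel_left] at this
    · left
      refine ⟨?_, hb⟩
      have h1 : b * x * b⁻¹ = x ∨ b * x * b⁻¹ = x⁻¹ := by
        rcases zp h.o3 (hn.conj_mem x (Subgroup.mem_zpowers x) b) with h4 | h4 | h4
        · exact absurd h4 (ne_one (o3_conj h.o3 b))
        · left; exact h4
        · right; exact h4
      have h2 := (nx h ht h1).resolve_left hb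
      have h3 := hn.conj_mem _ h2 t
      have e : t * (t⁻¹ * b) * t⁻¹ = b * t := by rw [hti]; rw [← mul_assoc t t b, htt, one_mul]
      rwa [e] at h3
  have hG : Nat.card G = 6 := by
    rw [← (Subgroup.zpowers x).card_mul_index, card_zp h.o3, hidx]
  have ht1 : t ≠ 1 := by rintro rfl; exact htx (Subgroup.one_mem _)
  have hto : orderOf t = 2 := orderOf_eq_prime (by rw [pow_two]; exact htt) ht1
  have hcz : Nat.card (Subgroup.zpowers t) = 2 := by rw [Nat.card_zpowers, hto]
  have hidt : (Subgroup.zpowers t).index = 3 := by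
    have := (Subgroup.zpowers t).card_mul_index
    rw [hcz, hG] at this; omega
  have hmem : ∀ g ∈ Subgroup.zpowers t, g = 1 ∨ g = t := by
    intro g hg
    obtain ⟨n, rfl⟩ := Subgroup.mem_zpowers_iff.1 hg
    have : t ^ n = t ^ (n % 2) := by
      have := zpow_mod_orderOf t n
      rw [hto] at this
      exact_mod_cast this.symm
    rw [this]
    rcases (show n % 2 = 0 ∨ n % 2 = 1 by omega) with h1 | h1 <;> rw [h1] <;> simp
  have hcore : (Subgroup.zpowers t).normalCore = ⊥ := by
    rw [eq_bot_iff]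
    intro g hg
    rw [Subgroup.mem_bot]
    rcases hmem g (Subgroup.normalCore_le _ hg) with h1 | h1
    · exact h1
    · exfalso
      rw [h1] at hg
      have h2 := (Subgroup.normalCore_normal (Subgroup.zpowers t)).conj_mem t hg x
      rcases hmem _ (Subgroup.normalCore_le _ h2) with h3 | h3
      · apply ht1
        have : t = x⁻¹ * (x * t * x⁻¹) * x := by group
        rw [this, h3]; group
      · have h4 : Commute t x := (mul_inv_eq_iff_eq_mul.1 h3).symm
        rw [h4.eq, mul_inv_cancel_right] at ht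
        exact ne_inv h.o3 ht
  have hinj : Function.Injective (MulAction.toPermHom G (G ⧸ Subgroup.zpowers t)) := by
    rw [← MonoidHom.ker_eq_bot_iff, ← Subgroup.normalCore_eq_ker, hcore]
  have hbij : Function.Bijective (MulAction.toPermHom G (G ⧸ Subgroup.zpowers t)) := by
    rw [Nat.bijective_iff_injective_and_card]
    refine ⟨hinj, ?_⟩
    rw [Nat.card_perm, ← Subgroup.index_eq_card, hidt, hG]; rfl
  have e1 : G ≃* Equiv.Perm (G ⧸ Subgroup.zpowers t) := MulEquiv.ofBijective _ hbij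
  have e2 : (G ⧸ Subgroup.zpowers t) ≃ Fin 3 := Finite.equivFinOfCardEq (by rw [← Subgroup.index_eq_card]; exact hidt)
  refine ⟨⊥, inferInstance, ?_, by simp, Or.inr ⟨QuotientGroup.quotientBot.trans (e1.trans e2.permCongrHom)⟩⟩
  infer_instance

theorem main : ∀ (n : ℕ) (G : Type u) [Group G] [Finite G], Nat.card G = n → ∀ x : G, SC x → Concl G := by
  intro n
  induction n using Nat.strong_induction_on with
  | _ n IH =>
  intro G _ _ hn x h
  by_cases hr : IsConj x x⁻¹
  swap
  · obtain ⟨K, hK, h3, hi⟩ := burnside h hr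
    exact concl_of_index3 h hK h3 hi
  obtain ⟨t, ht⟩ := isConj_iff.1 hr
  by_cases hL : ∃ L : Subgroup G, L.Normal ∧ L ≠ ⊥ ∧ ¬ 3 ∣ Nat.card L
  · obtain ⟨L, hLn, hL1, h3⟩ := hL
    apply lift_concl h L hL1 h3
    have hk : (QuotientGroup.mk' L).ker = L := QuotientGroup.ker_mk' L
    refine IH _ ?_ (G ⧸ L) rfl _ (sc_map (QuotientGroup.mk' L) (QuotientGroup.mk'_surjective L) h (by rw [hk]; exact h3))
    rw [← hn, ← L.card_mul_index, ← Subgroup.index_eq_card]
    have h1 : 1 < Nat.card L := by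
      have : Nat.card L ≠ 1 := fun h => hL1 (Subgroup.card_eq_one.1 h)
      have : 0 < Nat.card L := Nat.card_pos
      omega
    have h2 : 0 < L.index := Nat.pos_of_ne_zero Subgroup.index_ne_zero_of_finite
    nlinarith
  push Not at hL
  by_cases hzn : (Subgroup.zpowers x).Normal
  · exact six h ht hzn
  -- G is simple
  have hall : ∀ S : Subgroup G, S.Normal → S ≠ ⊥ → S = ⊤ := by
    intro S hS hS1
    have h3S := hL S hS hS1
    haveI : Fact (Nat.Prime 3) := ⟨Nat.prime_three⟩
    obtain ⟨⟨y, hy⟩, hyo⟩ := exists_prime_orderOf_dvd_card' 3 h3S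
    have hyo' : orderOf y = 3 := by rw [← hyo]; exact (Subgroup.orderOf_mk y hy).symm ▸ rfl
    have hxS : x ∈ S := by
      obtain ⟨g, hg⟩ := (h.of hyo').conj_or h.o3
      rcases hg with hg | hg
      · rw [← hg]; exact hS.conj_mem y hy g
      · have : x = (g * y * g⁻¹)⁻¹ := by rw [hg, inv_inv]
        rw [this]; exact S.inv_mem (hS.conj_mem y hy g)
    have hzS : Subgroup.zpowers x ≤ S := by rw [Subgroup.zpowers_le]; exact hxS
    have hscS := sc_sub h hxS
    have htS : t ∈ S := by
      by_cases hrS : IsConj (⟨x, hxS⟩ : S) (⟨x, hxS⟩ : S)⁻¹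
      · obtain ⟨⟨s, hs⟩, hs'⟩ := isConj_iff.1 hrS
        have hs2 : s * x * s⁻¹ = x⁻¹ := congrArg Subtype.val hs'
        rcases nx h ht (Or.inr hs2) with h5 | h5
        · exfalso
          have h6 : Commute s x := by
            obtain ⟨n, hn⟩ := Subgroup.mem_zpowers_iff.1 h5
            rw [← hn]; exact (Commute.refl x).zpow_left n
          rw [h6.eq, mul_inv_cancel_right] at hs2
          exact ne_inv h.o3 hs2
        · have h6 := S.mul_mem hs (S.inv_mem (hzS h5))
          have e : s * (t⁻¹ * s)⁻¹ = t := by group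
          rwa [e] at h6
      · exfalso
        obtain ⟨K, hK, hK3, hKi⟩ := burnside hscS hrS
        have hKn : (K.map S.subtype).Normal := by
          constructor
          rintro _ ⟨k, hk, rfl⟩ g
          have hgS : g * (k : G) * g⁻¹ ∈ S := hS.conj_mem k k.2 g
          refine ⟨⟨_, hgS⟩, ?_, rfl⟩
          have h5 : orderOf (⟨g * (k : G) * g⁻¹, hgS⟩ : S) = orderOf k := by
            rw [Subgroup.orderOf_mk, ← Subgroup.orderOf_coe k]
            exact MulEquiv.orderOf_eq (MulAut.conj g) (k : G)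
          have h6 : orderOf (QuotientGroup.mk' K (⟨g * (k : G) * g⁻¹, hgS⟩ : S)) ∣ 1 := by
            have a1 := orderOf_map_dvd (QuotientGroup.mk' K) (⟨g * (k : G) * g⁻¹, hgS⟩ : S)
            rw [h5] at a1
            have a2 := a1.trans (Subgroup.orderOf_dvd_natCard K hk)
            have a3 : orderOf (QuotientGroup.mk' K (⟨g * (k : G) * g⁻¹, hgS⟩ : S)) ∣ 3 := by
              rw [← hKi, Subgroup.index_eq_card]; exact orderOf_dvd_natCard _
            have := Nat.dvd_gcd a2 a3
            rwa [cop3 hK3] at this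
          exact (QuotientGroup.eq_one_iff _).1 (orderOf_eq_one_iff.1 (Nat.dvd_one.1 h6))
        have hKc : Nat.card (K.map S.subtype) = Nat.card K :=
          Nat.card_congr (Subgroup.equivMapOfInjective _ _ S.subtype_injective).symm.toEquiv
        have hKb : K.map S.subtype = ⊥ := by
          by_contra hne
          exact hK3 (by rw [← hKc]; exact hL _ hKn hne)
        rw [hKb, Subgroup.card_bot] at hKc
        have hSc := K.card_mul_index
        rw [← hKc, hKi, one_mul] at hSc
        have : Subgroup.zpowers x = S := eq_of_le_of_card_ge' hzS (by rw [card_zp h.o3, ← hSc])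
        rw [this] at hzn
        exact hzn hS
    rw [eq_top_iff]
    intro g _
    have ho : orderOf (⟨g * x * g⁻¹, hS.conj_mem x hxS g⟩ : S) = 3 := by
      rw [Subgroup.orderOf_mk]; exact o3_conj h.o3 g
    obtain ⟨⟨s, hs⟩, hs'⟩ := hscS.conj_or ho
    have h1 : (s⁻¹ * g) * x * (s⁻¹ * g)⁻¹ = x ∨ (s⁻¹ * g) * x * (s⁻¹ * g)⁻¹ = x⁻¹ := by
      rcases hs' with h5 | h5
      · left
        have h6 : s * x * s⁻¹ = g * x * g⁻¹ := congrArg Subtype.val h5
        have e : (s⁻¹ * g) * x * (s⁻¹ * g)⁻¹ = s⁻¹ * (g * x * g⁻¹) * s := by group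
        rw [e, ← h6]; group
      · right
        have h6 : s * x * s⁻¹ = (g * x * g⁻¹)⁻¹ := congrArg Subtype.val h5
        have e : (s⁻¹ * g) * x * (s⁻¹ * g)⁻¹ = (s⁻¹ * (g * x * g⁻¹)⁻¹ * s)⁻¹ := by group
        rw [e, ← h6]; group
    rcases nx h ht h1 with h5 | h5
    · have := S.mul_mem hs (hzS h5)
      rwa [mul_inv_cancel_left] at this
    · have := S.mul_mem hs (S.mul_mem htS (hzS h5))
      have e : s * (t * (t⁻¹ * (s⁻¹ * g))) = g := by group
      rwa [e] at this
  haveI : Nontrivial G := ⟨⟨x, 1, ne_one h.o3⟩⟩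
  have hsimp : IsSimpleGroup G := ⟨fun S hS => by
    by_cases h1 : S = ⊥
    · left; exact h1
    · right; exact hall S hS h1⟩
  have hns : ¬ Group.IsSolvable G := by
    intro hsol
    have hcomm := (IsSimpleGroup.comm_iff_isSolvable (G := G)).2 hsol
    apply hzn
    constructor
    intro n hn g
    rw [hcomm g n, mul_inv_cancel_right]
    exact hn
  have C : Ctx x t := ⟨h, hsimp, hns, ht, fun H hH hx => IH _ (by
    rw [← hn]
    exact lt_of_le_of_ne (Subgroup.card_le_card_group H) (fun e => hH (Subgroup.eq_top_of_card_eq H e))) H rfl _ (sc_sub h hx)⟩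
  rcases C.main with h60 | h168
  · right; left
    obtain ⟨e⟩ := Cfsg.Agent.S0494.result h60
    refine ⟨⊥, inferInstance, inferInstance, fun n hn => ?_, ⟨QuotientGroup.quotientBot.trans e⟩⟩
    rw [Subgroup.mem_bot] at hn; rw [hn, one_pow]
  · right; right
    haveI : Fact (Nat.Prime 7) := ⟨by norm_num⟩
    exact Cfsg.Agent.S0495.result h168 (F := ZMod 7) (ZMod.card 7)

end Cfsg.Agent.H19.FT14
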