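import Cfsg.Agent.H2_Rank2
import Cfsg.Agent.H2_MaxClass

set_option autoImplicit false

/-! Abelian subgroups of index `p`. -/

namespace Cfsg.Agent.H19.MaxAb

open Subgroup Cfsg
open Cfsg.Agent.H2
open scoped commutatorElement

variable {P : Type*} [Group P] {p : ℕ} [hp : Fact p.Prime]

/-- central by prime order is abelian -/
theorem comm_of_relIndex {N M : Subgroup P} (hNM : N ≤ M) (hc : ∀ n ∈ N, ∀ m ∈ M, n * m = m * n)
    (hi : N.relIndex M = p) : ∀ a ∈ M, ∀ b ∈ M, a * b = b * a := by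
  haveI hn : (N.subgroupOf M).Normal := by
    constructor
    rintro ⟨n, hn⟩ hn' ⟨g, hg⟩
    show g * n * g⁻¹ ∈ N
    rw [← hc n hn' g hg, mul_inv_cancel_right]
    exact hn'
  have hcard : Nat.card (M ⧸ N.subgroupOf M) = p := hi
  haveI : IsCyclic (M ⧸ N.subgroupOf M) := isCyclic_of_prime_card hcard
  intro a ha b hb
  have h := commutative_of_cyclic_center_quotient (QuotientGroup.mk' (N.subgroupOf M)) (by
    rw [QuotientGroup.ker_mk']
    rintro ⟨n, hn⟩ hn'
    rw [mem_center_iff]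
    rintro ⟨g, hg⟩
    exact Subtype.ext (hc n hn' g hg).symm) ⟨a, ha⟩ ⟨b, hb⟩
  exact congrArg Subtype.val h

theorem exists_abelian [Finite P] (hP : Nat.card P = p ^ 4) :
    ∃ A : Subgroup P, (∀ a ∈ A, ∀ b ∈ A, a * b = b * a) ∧ A.index = p := by
  have hpg : IsPGroup p P := IsPGroup.of_card hP
  have hp2 := hp.out.two_le
  obtain ⟨L1, hL1n, -, -, hL1⟩ := Rank2.exists_normal_above hpg (N := (⊥ : Subgroup P)) (M := ⊤) inferInstance inferInstance
    (by rw [bot_lt_iff_ne_bot, ne_eq, ← Subgroup.card_eq_one, card_top, hP]; exact (Nat.one_lt_pow (by norm_num) (by omega)).ne')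
  rw [relIndex_bot_left] at hL1
  have hL1top : L1 < ⊤ := by
    rw [lt_top_iff_ne_top]
    rintro rfl
    rw [card_top, hP] at hL1
    have : p ^ 4 = p * p ^ 3 := by ring
    have h3 : 2 ≤ p ^ 3 := le_trans hp2 (Nat.le_self_pow (by norm_num) p)
    nlinarith
  obtain ⟨L2, hL2n, hL12, -, hL2⟩ := Rank2.exists_normal_above hpg hL1n (M := ⊤) inferInstance hL1top
  have hcL2 : Nat.card L2 = p * p := by
    have := Subgroup.relIndex_mul_relIndex (⊥ : Subgroup P) L1 L2 bot_le hL12
    rw [relIndex_bot_left, relIndex_bot_left, hL1, hL2] at this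
    exact this.symm
  have hlt : L1 < L2 := lt_of_le_of_ne hL12 (by
    rintro rfl
    rw [hL1] at hcL2
    nlinarith)
  obtain ⟨L', hL'n, hL1', hL'2, hL'i, hL'c⟩ := PGroup.exists_normal_relIndex hpg hlt
  have hL'eq : L' = L1 := by
    symm
    apply Subgroup.eq_of_le_of_card_ge hL1'
    have := Subgroup.relIndex_mul_relIndex (⊥ : Subgroup P) L' L2 bot_le hL'2
    rw [relIndex_bot_left, relIndex_bot_left, hL'i, hcL2] at this
    rw [hL1]
    exact (Nat.eq_of_mul_eq_mul_right hp.out.pos this).le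
  rw [hL'eq] at hL'c
  have hL1c : L1 ≤ center P := Rank2.le_center_of_card_le hpg hL1n hL1.le
  obtain ⟨n, hn2, hn1⟩ := SetLike.exists_of_lt hlt
  have hcomm2 : ∀ a ∈ L2, ∀ b ∈ L2, a * b = b * a :=
    comm_of_relIndex hL12 (fun n hn m _ => ((mem_center_iff.1 (hL1c hn)) m).symm) hL2
  -- the centralizer of `n`
  have hLn : ∀ H : Subgroup P, L1 ≤ H → n ∈ H → L2 ≤ H := by
    intro H h1 h2
    have h3 : (L1 ≤ H ⊓ L2) := le_inf h1 hL12
    have h4 : (H ⊓ L2).relIndex L2 ∣ L1.relIndex L2 := Subgroup.relIndex_dvd_of_le_left _ h3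
    rw [hL2] at h4
    have h5 := Subgroup.relIndex_mul_relIndex L1 (H ⊓ L2) L2 h3 inf_le_right
    rcases (Nat.dvd_prime hp.out).1 h4 with h6 | h6
    · have : L2 ≤ H ⊓ L2 := Subgroup.relIndex_eq_one.1 h6
      exact this.trans inf_le_left
    · exfalso
      rw [h6, hL2] at h5
      have h7 : L1.relIndex (H ⊓ L2) = 1 := Nat.eq_of_mul_eq_mul_right hp.out.pos (by rw [h5, one_mul])
      exact hn1 (Subgroup.relIndex_eq_one.1 h7 ⟨h2, hn2⟩)
  have hCn : ∀ g ∈ centralizer ({n} : Set P), ∀ m ∈ L2, m * g = g * m := by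
    intro g hg m hm
    have h1 : L2 ≤ centralizer ({g} : Set P) := by
      apply hLn
      · intro z hz
        rw [mem_centralizer_singleton_iff]
        exact ((mem_center_iff.1 (hL1c hz)) g).symm
      · rw [mem_centralizer_singleton_iff]
        exact (mem_centralizer_singleton_iff.1 hg).symm
    exact mem_centralizer_singleton_iff.1 (h1 hm)
  have hidx : (centralizer ({n} : Set P)).index ≤ p := by
    have h1 : (centralizer ({n} : Set P)).index ≤ Nat.card L1 := by
      rw [Subgroup.index]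
      refine Nat.card_le_card_of_injective (fun q : P ⧸ centralizer ({n} : Set P) => Quotient.liftOn' q
        (fun g => (⟨⁅n, g⁆, hL'c (Subgroup.commutator_mem_commutator hn2 (mem_top g))⟩ : L1)) ?_) ?_
      · intro a b hab
        have h2 : a⁻¹ * b ∈ centralizer ({n} : Set P) := QuotientGroup.leftRel_apply.1 hab
        rw [mem_centralizer_singleton_iff] at h2
        apply Subtype.ext
        show ⁅n, a⁆ = ⁅n, b⁆
        have h3 : b = a * (a⁻¹ * b) := by group
        rw [h3, commutatorElement_def, commutatorElement_def, mul_inv_rev]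
        have h4 : (a⁻¹ * b) * n⁻¹ * (a⁻¹ * b)⁻¹ = n⁻¹ := by
          rw [mul_inv_eq_iff_eq_mul, eq_inv_mul_iff_mul_eq, ← mul_assoc, ← h2, mul_inv_cancel_right]
        calc n * a * n⁻¹ * a⁻¹ = n * a * ((a⁻¹ * b) * n⁻¹ * (a⁻¹ * b)⁻¹) * a⁻¹ := by rw [h4]
          _ = _ := by group
      · intro q1 q2
        refine Quotient.inductionOn₂' q1 q2 (fun a b hab => ?_)
        have h2 : ⁅n, a⁆ = ⁅n, b⁆ := congrArg Subtype.val hab
        apply Quotient.sound'
        rw [QuotientGroup.leftRel_apply, mem_centralizer_singleton_iff]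
        rw [commutatorElement_def, commutatorElement_def] at h2
        have h3 : a * n⁻¹ * a⁻¹ = b * n⁻¹ * b⁻¹ := by
          have h4 : n * (a * n⁻¹ * a⁻¹) = n * (b * n⁻¹ * b⁻¹) := by
            simpa [mul_assoc] using h2
          exact mul_left_cancel h4
        have h5 : a * n * a⁻¹ = b * n * b⁻¹ := by
          have := congrArg (·⁻¹) h3
          simpa [mul_assoc] using this
        calc a⁻¹ * b * n = a⁻¹ * (b * n * b⁻¹) * b := by group
          _ = a⁻¹ * (a * n * a⁻¹) * b := by rw [h5]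
          _ = n * (a⁻¹ * b) := by group
    rwa [hL1] at h1
  have hidx2 : (centralizer ({n} : Set P)).index ∣ p ^ 4 := by rw [← hP]; exact Subgroup.index_dvd_card _
  obtain ⟨k, hk, hki⟩ := (Nat.dvd_prime_pow hp.out).1 hidx2
  have hk1 : k ≤ 1 := by
    rw [hki] at hidx
    by_contra hlt
    have : p ^ 2 ≤ p ^ k := Nat.pow_le_pow_right (by omega) (by omega)
    nlinarith
  have hL2le : L2 ≤ centralizer ({n} : Set P) := by
    intro m hm
    rw [mem_centralizer_singleton_iff]
    exact hcomm2 m hm n hn2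
  obtain ⟨M, hL2M, hMC, hMi⟩ : ∃ M : Subgroup P, L2 ≤ M ∧ M ≤ centralizer ({n} : Set P) ∧ M.index = p := by
    interval_cases k
    · rw [pow_zero, Subgroup.index_eq_one] at hki
      obtain ⟨M, hM1, -, hM2⟩ := PGroup.exists_index_p_of_ne_top hpg (M := L2) (by
        rintro rfl
        rw [card_top, hP, ← pow_two] at hcL2
        have := Nat.pow_right_injective hp2 hcL2
        omega)
      exact ⟨M, hM1, by rw [hki]; exact le_top, hM2⟩
    · exact ⟨_, hL2le, le_rfl, by rw [hki, pow_one]⟩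
  refine ⟨M, comm_of_relIndex (p := p) hL2M (fun m hm g hg => hCn g (hMC hg) m hm) ?_, hMi⟩
  have h1 := Subgroup.relIndex_mul_index hL2M
  have h2 := Subgroup.card_mul_index L2
  rw [hcL2, hP] at h2
  have h3 : L2.index = p * p := by
    have : p ^ 4 = p * p * (p * p) := by ring
    rw [this] at h2
    exact Nat.eq_of_mul_eq_mul_left (Nat.mul_pos hp.out.pos hp.out.pos) h2
  rw [hMi, h3] at h1
  exact Nat.eq_of_mul_eq_mul_right hp.out.pos h1

end Cfsg.Agent.H19.MaxAb
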