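import Cfsg.Statements.S0646
import Mathlib
import Cfsg.Agent.H2_MaxClass
import Cfsg.Agent.H23_PQuat

set_option autoImplicit false
open Cfsg

namespace Cfsg.Agent.S0646

open Subgroup Cfsg Cfsg.Agent.H2.Card
open scoped commutatorElement

theorem four_cases {m : ℕ} (k : ℤ) (hodd : ¬ (2 : ℤ) ∣ k) (h : (2 : ℤ) ^ (m + 2) ∣ k ^ 2 - 1) :
    (2 : ℤ) ^ (m + 2) ∣ k - 1 ∨ (2 : ℤ) ^ (m + 2) ∣ k + 1 ∨ (2 : ℤ) ^ (m + 2) ∣ k - (1 + 2 ^ (m + 1)) ∨
      (2 : ℤ) ^ (m + 2) ∣ k - (2 ^ (m + 1) - 1) := by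
  have h1 : (2 : ℤ) ^ (m + 1) ∣ k - 1 ∨ (2 : ℤ) ^ (m + 1) ∣ k + 1 := by
    have h2 : k ^ 2 - 1 = (k - 1) * (k + 1) := by ring
    rw [h2] at h
    rcases (by omega : ¬ (4 : ℤ) ∣ k - 1 ∨ ¬ (4 : ℤ) ∣ k + 1) with h3 | h3
    · right
      obtain ⟨u, hu⟩ : (2 : ℤ) ∣ k - 1 := by omega
      have hu2 : ¬ (2 : ℤ) ∣ u := by
        intro h4; apply h3; rw [hu]; obtain ⟨v, rfl⟩ := h4; exact ⟨v, by ring⟩
      rw [hu] at h
      exact Cfsg.Agent.H23.PQuat.dvd_of_two_mul hu2 h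
    · left
      obtain ⟨u, hu⟩ : (2 : ℤ) ∣ k + 1 := by omega
      have hu2 : ¬ (2 : ℤ) ∣ u := by
        intro h4; apply h3; rw [hu]; obtain ⟨v, rfl⟩ := h4; exact ⟨v, by ring⟩
      rw [mul_comm, hu] at h
      exact Cfsg.Agent.H23.PQuat.dvd_of_two_mul hu2 h
  rcases h1 with ⟨v, hv⟩ | ⟨v, hv⟩
  · rcases Int.even_or_odd' v with ⟨w, rfl | rfl⟩
    · left; exact ⟨w, by rw [hv]; ring⟩
    · right; right; left; exact ⟨w, by rw [← sub_sub, hv]; ring⟩
  · rcases Int.even_or_odd' v with ⟨w, rfl | rfl⟩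
    · right; left; exact ⟨w, by rw [hv]; ring⟩
    · right; right; right
      have : k - (2 ^ (m + 1) - 1) = k + 1 - 2 ^ (m + 1) := by ring
      exact ⟨w, by rw [this, hv]; ring⟩

/-- Classification of non-abelian 2-groups with a cyclic maximal subgroup: dihedral, generalized quaternion, and for order at least 16 the modular group and the semidihedral group, each given by generators a (of index 2) and b with the stated relations. -/
theorem result {G : Type*} [Group G] [Finite G] (n : ℕ) (hn : 3 ≤ n) (hG : Nat.card G = 2 ^ n) (C : Subgroup G) (hC : IsCyclic C) (hCi : C.index = 2) (hna : ∃ x y : G, x * y ≠ y * x) : ∃ a b : G, orderOf a = 2 ^ (n - 1) ∧ b ∉ Subgroup.zpowers a ∧ ((b ^ 2 = 1 ∧ b * a * b⁻¹ = a⁻¹) ∨ (b ^ 2 = a ^ (2 ^ (n - 2)) ∧ b * a * b⁻¹ = a⁻¹) ∨ (4 ≤ n ∧ b ^ 2 = 1 ∧ b * a * b⁻¹ = a ^ (1 + 2 ^ (n - 2))) ∨ (4 ≤ n ∧ b ^ 2 = 1 ∧ b * a * b⁻¹ = a ^ (2 ^ (n - 2) - 1))) := by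
  have h2 : Fact (Nat.Prime 2) := ⟨Nat.prime_two⟩
  obtain ⟨m, rfl⟩ : ∃ m, n = m + 3 := ⟨n - 3, by omega⟩
  have hpg : IsPGroup 2 G := IsPGroup.iff_card.2 ⟨_, hG⟩
  obtain ⟨x0, y0, hxy0⟩ := hna
  have hna : ¬ ∀ a b : G, a * b = b * a := fun h => hxy0 (h x0 y0)
  obtain ⟨⟨a, haC⟩, hag⟩ := hC.exists_generator
  have hCa : C = zpowers a := by
    apply le_antisymm
    · intro y hy
      obtain ⟨k, hk⟩ := mem_zpowers_iff.1 (hag ⟨y, hy⟩)
      exact ⟨k, congrArg Subtype.val hk⟩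
    · rwa [zpowers_le]
  have hCcard : Nat.card C = 2 ^ (m + 2) := by
    have h1 := card_mul_index C
    rw [hCi, hG] at h1
    have h2 : 2 ^ (m + 3) = 2 ^ (m + 2) * 2 := by rw [← pow_succ]
    omega
  have hao : orderOf a = 2 ^ (m + 2) := by rw [← Nat.card_zpowers, ← hCa, hCcard]
  have hCn : C.Normal := normal_of_index_eq_two hCi
  have hCcomm : ∀ a ∈ C, ∀ b ∈ C, a * b = b * a := by
    rw [hCa]
    rintro _ ⟨k, rfl⟩ _ ⟨l, rfl⟩
    exact (Commute.zpow_zpow_self a k l).eq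
  obtain ⟨x, hx⟩ : ∃ x, x ∉ C := by
    by_contra hcon
    push Not at hcon
    exact hna fun a b => hCcomm a (hcon a) b (hcon b)
  have hz : ∀ z w : ℤ, a ^ z = a ^ w ↔ (2 : ℤ) ^ (m + 2) ∣ z - w := by
    intro z w
    rw [← mul_inv_eq_one, ← zpow_neg, ← zpow_add, ← orderOf_dvd_iff_zpow_eq_one, hao, ← sub_eq_add_neg]
    push_cast
    rfl
  obtain ⟨k, hk⟩ : ∃ k : ℤ, a ^ k = x * a * x⁻¹ := by
    have h1 := hCn.conj_mem a haC x
    rw [hCa] at h1
    exact mem_zpowers_iff.1 h1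
  have hconj : ∀ i : ℤ, x * a ^ i * x⁻¹ = a ^ (k * i) := by
    intro i
    rw [zpow_mul, hk, conj_zpow]
  obtain ⟨l, hl⟩ : ∃ l : ℤ, a ^ l = x * x := by
    have h1 := Cfsg.Agent.H2.MaxClass.mul_mem_of_not_mem hCi hx hx
    rw [hCa] at h1
    exact mem_zpowers_iff.1 h1
  have hk2 : (2 : ℤ) ^ (m + 2) ∣ k ^ 2 - 1 := by
    rw [← hz, zpow_one, pow_two, ← hconj, hk]
    have h3 : x * x * a = a * (x * x) := by rw [← hl, ← zpow_add_one, ← zpow_one_add, add_comm]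
    calc x * (x * a * x⁻¹) * x⁻¹ = (x * x * a) * (x * x)⁻¹ := by group
      _ = a := by rw [h3]; group
  have hkodd : ¬ (2 : ℤ) ∣ k := by
    rintro ⟨t, rfl⟩
    have h3 : (2 : ℤ) ∣ (2 * t) ^ 2 - 1 := (dvd_pow_self _ (by omega)).trans hk2
    have h4 : (2 : ℤ) ∣ (2 * t) ^ 2 := ⟨2 * t ^ 2, by ring⟩
    have h5 := (Int.dvd_iff_dvd_of_dvd_sub h3).1 h4
    omega
  have hlk : (2 : ℤ) ^ (m + 2) ∣ k * l - l := by
    rw [← hz, ← hconj, hl]; group
  have hk1 : ¬ (2 : ℤ) ^ (m + 2) ∣ k - 1 := by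
    intro h
    rw [← hz, zpow_one] at h
    have h3 : x * a = a * x := by
      rw [hk] at h; exact mul_inv_eq_iff_eq_mul.1 h
    apply hna
    have h5 : a ∈ center G := Cfsg.Agent.H2.MaxClass.central_of hCcomm hCi hx haC h3
    have h6 : C ≤ center G := by rw [hCa, zpowers_le]; exact h5
    intro u v
    by_cases hu : u ∈ C
    · exact (mem_center_iff.1 (h6 hu) v).symm
    · have hxu : x⁻¹ * u ∈ C := Cfsg.Agent.H2.MaxClass.mul_mem_of_not_mem hCi (by rwa [inv_mem_iff]) hu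
      by_cases hv : v ∈ C
      · exact mem_center_iff.1 (h6 hv) u
      · have hxv : x⁻¹ * v ∈ C := Cfsg.Agent.H2.MaxClass.mul_mem_of_not_mem hCi (by rwa [inv_mem_iff]) hv
        have h7 := mem_center_iff.1 (h6 hxu)
        have h8 := mem_center_iff.1 (h6 hxv)
        calc u * v = (x * (x⁻¹ * u)) * (x * (x⁻¹ * v)) := by group
          _ = x * ((x⁻¹ * u) * x) * (x⁻¹ * v) := by group
          _ = x * (x * (x⁻¹ * u)) * (x⁻¹ * v) := by rw [h7 x]
          _ = x * x * ((x⁻¹ * u) * (x⁻¹ * v)) := by group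
          _ = x * x * ((x⁻¹ * v) * (x⁻¹ * u)) := by rw [h8]
          _ = x * (x * (x⁻¹ * v)) * (x⁻¹ * u) := by group
          _ = x * ((x⁻¹ * v) * x) * (x⁻¹ * u) := by rw [h8 x]
          _ = v * u := by group
  have hxi : ∀ i : ℤ, x * a ^ i ∉ C := by
    intro i h
    apply hx
    have := C.mul_mem h (C.inv_mem (C.zpow_mem haC i))
    rwa [mul_inv_cancel_right] at this
  have hbi : ∀ i : ℤ, (x * a ^ i) * a * (x * a ^ i)⁻¹ = a ^ k := by
    intro i
    rw [hk]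
    calc (x * a ^ i) * a * (x * a ^ i)⁻¹ = x * (a ^ i * a * (a ^ i)⁻¹) * x⁻¹ := by group
      _ = x * a * x⁻¹ := by rw [← zpow_add_one, ← zpow_neg, ← zpow_add]; congr 2; ring_nf; exact zpow_one a
  have hbsq : ∀ i : ℤ, (x * a ^ i) ^ 2 = a ^ (k * i + l + i) := by
    intro i
    rw [zpow_add, zpow_add, ← hconj, hl, pow_two]; group
  rw [show m + 3 - 1 = m + 2 by omega, show m + 3 - 2 = m + 1 by omega]
  have hpow : (2 : ℤ) ^ (m + 2) = 2 * 2 ^ (m + 1) := by rw [← pow_succ']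
  have hpow1 : (2 : ℤ) ^ (m + 1) = 2 * 2 ^ m := by rw [← pow_succ']
  have case2 : (2 : ℤ) ^ (m + 2) ∣ k + 1 → ∃ a b : G, orderOf a = 2 ^ (m + 2) ∧ b ∉ zpowers a ∧
      (b ^ 2 = 1 ∧ b * a * b⁻¹ = a⁻¹ ∨ b ^ 2 = a ^ 2 ^ (m + 1) ∧ b * a * b⁻¹ = a⁻¹ ∨
        4 ≤ m + 3 ∧ b ^ 2 = 1 ∧ b * a * b⁻¹ = a ^ (1 + 2 ^ (m + 1)) ∨
          4 ≤ m + 3 ∧ b ^ 2 = 1 ∧ b * a * b⁻¹ = a ^ (2 ^ (m + 1) - 1)) := by
    intro h
    refine ⟨a, x, hao, by rwa [← hCa], ?_⟩
    have h3 : x * a * x⁻¹ = a⁻¹ := by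
      rw [← hk, ← zpow_neg_one, hz]; simpa using h
    have h4 : (2 : ℤ) ^ (m + 1) ∣ l := by
      have h5 : (2 : ℤ) ^ (m + 2) ∣ 2 * l := by
        have h6 : 2 * l = (k + 1) * l - (k * l - l) := by ring
        rw [h6]
        exact dvd_sub (h.mul_right l) hlk
      rw [hpow] at h5
      exact Int.dvd_of_mul_dvd_mul_left (by norm_num) h5
    obtain ⟨t, rfl⟩ := h4
    rcases Int.even_or_odd' t with ⟨w, rfl | rfl⟩
    · left
      refine ⟨?_, h3⟩
      rw [pow_two, ← hl, ← zpow_zero a, hz]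
      exact ⟨w, by rw [hpow]; ring⟩
    · right; left
      refine ⟨?_, h3⟩
      rw [pow_two, ← hl, ← zpow_natCast, hz]
      push_cast
      exact ⟨w, by rw [hpow]; ring⟩
  rcases four_cases k hkodd hk2 with h | h | h | h
  · exact absurd h hk1
  · exact case2 h
  · rcases Nat.eq_zero_or_pos m with rfl | hm
    · apply case2
      obtain ⟨t, ht⟩ := h
      exact ⟨t + 1, by norm_num at ht ⊢; linarith⟩
    · -- modular
      have h5 : (2 : ℤ) ∣ l := by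
        obtain ⟨t, ht⟩ := h
        obtain ⟨s, hs⟩ := hlk
        have h6 : 2 ^ (m + 1) * l = 2 ^ (m + 1) * (2 * (s - t * l)) := by
          have : k = 2 ^ (m + 2) * t + (1 + 2 ^ (m + 1)) := by linarith
          rw [this, hpow] at hs
          linarith
        have h7 : l = 2 * (s - t * l) := mul_left_cancel₀ (by positivity) h6
        exact ⟨_, h7⟩
      obtain ⟨l', rfl⟩ := h5
      have hv : ¬ (2 : ℤ) ∣ 1 + 2 ^ m := by
        intro h6
        have h7 : (2 : ℤ) ∣ 2 ^ m := dvd_pow_self _ hm.ne'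
        have := (dvd_add_left h7).1 h6
        omega
      obtain ⟨i, hi⟩ := Cfsg.Agent.H23.PQuat.exists_solution (n := m + 1) (s := l') hv
      refine ⟨a, x * a ^ i, hao, by rw [← hCa]; exact hxi i, ?_⟩
      right; right; left
      refine ⟨by omega, ?_, ?_⟩
      · rw [hbsq, ← zpow_zero a, hz]
        obtain ⟨t, ht⟩ := h
        obtain ⟨s, hs⟩ := hi
        have hk' : k = 2 ^ (m + 2) * t + (1 + 2 ^ (m + 1)) := by linarith
        refine ⟨t * i + s, ?_⟩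
        rw [hk', hpow1]
        rw [hpow, hpow1]
        rw [hpow1] at hs
        linarith
      · rw [hbi, ← zpow_natCast, hz]
        push_cast
        exact h
  · rcases Nat.eq_zero_or_pos m with rfl | hm
    · exfalso
      apply hk1
      obtain ⟨t, ht⟩ := h
      exact ⟨t, by norm_num at ht ⊢; linarith⟩
    · have h5 : (2 : ℤ) ^ (m + 1) ∣ l := by
        obtain ⟨t, ht⟩ := h
        obtain ⟨s, hs⟩ := hlk
        have hk' : k = 2 ^ (m + 2) * t + (2 ^ (m + 1) - 1) := by linarith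
        have hv : ¬ (2 : ℤ) ∣ 2 ^ m - 1 := by
          intro h6
          have h7 : (2 : ℤ) ∣ 2 ^ m := dvd_pow_self _ hm.ne'
          have := (dvd_sub_right h7).1 h6
          omega
        apply Cfsg.Agent.H23.PQuat.dvd_of_two_mul (v := 2 ^ m - 1) hv
        refine ⟨s - t * l, ?_⟩
        rw [hk', hpow, hpow1] at hs
        rw [show m + 1 + 1 = m + 2 from rfl, hpow, hpow1]
        linarith
      obtain ⟨t, rfl⟩ := h5
      rcases Int.even_or_odd' t with ⟨w, rfl | rfl⟩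
      · refine ⟨a, x, hao, by rwa [← hCa], ?_⟩
        right; right; right
        refine ⟨by omega, ?_, ?_⟩
        · rw [pow_two, ← hl, ← zpow_zero a, hz]
          exact ⟨w, by rw [hpow]; ring⟩
        · rw [← hk, ← zpow_natCast, hz]
          rw [Nat.cast_sub Nat.one_le_two_pow]
          push_cast
          exact h
      · refine ⟨a, x * a ^ (1 : ℤ), hao, by rw [← hCa]; exact hxi 1, ?_⟩
        right; right; right
        refine ⟨by omega, ?_, ?_⟩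
        · rw [hbsq, ← zpow_zero a, hz]
          obtain ⟨t, ht⟩ := h
          have hk' : k = 2 ^ (m + 2) * t + (2 ^ (m + 1) - 1) := by linarith
          refine ⟨t + w + 1, ?_⟩
          rw [hk', hpow]
          ring
        · rw [hbi, ← zpow_natCast, hz]
          rw [Nat.cast_sub Nat.one_le_two_pow]
          push_cast
          exact h

end Cfsg.Agent.S0646
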