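import Mathlib
import Cfsg.Agent.H2_Card
import Cfsg.Agent.H2_PGroup
import Cfsg.Agent.H24_Tools
import Cfsg.Agent.H24_Class
import Cfsg.Agent.H23_PRank

/-! H23_MaxCl: Suzuki's criteria for maximal class. -/

set_option autoImplicit false

namespace Cfsg.Agent.H23.MaxCl
open Cfsg.Agent

open Subgroup
open scoped Pointwise commutatorElement

universe u
variable {X : Type u} [Group X] [Finite X] {p : ℕ} [hp : Fact p.Prime]

theorem comm_of_card_le {H : Subgroup X} (hX : IsPGroup p X) (h : Nat.card H ≤ p ^ 2) :
    ∀ a ∈ H, ∀ b ∈ H, a * b = b * a := by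
  obtain ⟨k, hk⟩ := IsPGroup.iff_card.1 (hX.to_subgroup H)
  rw [hk] at h
  have hk2 := (Nat.pow_le_pow_iff_right hp.out.one_lt).1 h
  intro a ha b hb
  interval_cases k
  · rw [pow_zero] at hk
    have := Subgroup.card_eq_one.1 hk
    subst this
    rw [mem_bot.1 ha, mem_bot.1 hb]
  · rw [pow_one] at hk
    haveI := isCyclic_of_prime_card hk
    letI := IsCyclic.commGroup (α := H)
    exact congrArg Subtype.val (mul_comm (⟨a, ha⟩ : H) ⟨b, hb⟩)
  · have := IsPGroup.commutative_of_card_eq_prime_sq hk (⟨a, ha⟩ : H) ⟨b, hb⟩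
    exact congrArg Subtype.val this

/-- step B -/
theorem stepB (hX : IsPGroup p X) (B : Subgroup X) (hB : Nat.card B = p ^ 3)
    (hBna : ∃ x ∈ B, ∃ y ∈ B, x * y ≠ y * x) (hC : centralizer (B : Set X) ≤ B) :
    Nat.card (center X) = p ∧ center X ≤ B ∧
      centralizer ((B.map (QuotientGroup.mk' (center X)) : Subgroup (X ⧸ center X)) : Set (X ⧸ center X)) ≤
        B.map (QuotientGroup.mk' (center X)) := by
  classical
  obtain ⟨x, hx, y, hy, hxy⟩ := hBna
  have hZB : center X ≤ B := by
    refine le_trans ?_ hC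
    intro z hz
    rw [mem_centralizer_iff]
    intro b _
    exact mem_center_iff.1 hz b
  -- B is generated by x and y
  have hgen : closure {x, y} = B := by
    have hle : closure {x, y} ≤ B := by
      rw [closure_le]
      rintro z (rfl | rfl)
      · exact hx
      · exact hy
    by_contra hne
    have hlt := lt_of_le_of_ne hle hne
    have h1 : Nat.card (closure {x, y}) ∣ p ^ 3 := hB ▸ card_dvd_of_le hle
    obtain ⟨j, hj, hj'⟩ := (Nat.dvd_prime_pow hp.out).1 h1
    have h2 := H2.Card.card_lt_of_lt hlt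
    rw [hB, hj', Nat.pow_lt_pow_iff_right hp.out.one_lt] at h2
    apply hxy
    exact comm_of_card_le hX (by rw [hj']; exact Nat.pow_le_pow_right hp.out.pos (by omega)) x
      (subset_closure (by simp)) y (subset_closure (by simp))
  have hCxy : ∀ g : X, g * x = x * g → g * y = y * g → g ∈ centralizer (B : Set X) := by
    intro g h1 h2
    rw [← hgen, centralizer_closure, mem_centralizer_iff]
    rintro z (rfl | rfl)
    · exact h1.symm
    · exact h2.symm
  -- orders
  have hCx : (B ⊓ centralizer ({x} : Set X)) < B := by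
    refine lt_of_le_of_ne inf_le_left (fun h => ?_)
    rw [← h] at hy
    exact hxy (mem_centralizer_singleton_iff.1 hy.2).symm
  have hCC : centralizer (B : Set X) < B ⊓ centralizer ({x} : Set X) := by
    refine lt_of_le_of_ne (le_inf hC (centralizer_le (by simpa using hx))) (fun h => ?_)
    have h1 : x ∈ centralizer (B : Set X) := by
      rw [h]; exact mem_inf.2 ⟨hx, mem_centralizer_singleton_iff.2 rfl⟩
    exact hxy (mem_centralizer_iff.1 h1 y hy).symm
  have hcC : Nat.card (centralizer (B : Set X)) ≤ p := by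
    obtain ⟨i, hi⟩ := IsPGroup.iff_card.1 (hX.to_subgroup (centralizer (B : Set X)))
    obtain ⟨j, hj⟩ := IsPGroup.iff_card.1 (hX.to_subgroup (B ⊓ centralizer ({x} : Set X)))
    have h1 := H2.Card.card_lt_of_lt hCC
    have h2 := H2.Card.card_lt_of_lt hCx
    rw [hi, hj, Nat.pow_lt_pow_iff_right hp.out.one_lt] at h1
    rw [hj, hB, Nat.pow_lt_pow_iff_right hp.out.one_lt] at h2
    rw [hi]
    calc p ^ i ≤ p ^ 1 := Nat.pow_le_pow_right hp.out.pos (by omega)
      _ = p := pow_one p
  have hZC : center X ≤ centralizer (B : Set X) := by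
    intro z hz
    rw [mem_centralizer_iff]
    intro b _
    exact mem_center_iff.1 hz b
  have hcZ : Nat.card (center X) = p := by
    obtain ⟨i, hi⟩ := IsPGroup.iff_card.1 (hX.to_subgroup (center X))
    have h1 : Nat.card (center X) ≤ p := (Subgroup.card_le_of_le hZC).trans hcC
    haveI : Nontrivial X := ⟨⟨x, y, fun h => hxy (by rw [h])⟩⟩
    have h2 : 1 < Nat.card (center X) := by
      have h3 := hX.bot_lt_center
      have h4 := H2.Card.card_lt_of_lt h3
      rwa [Subgroup.card_bot] at h4
    rw [hi] at h1 h2 ⊢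
    have h5 : i ≤ 1 := by
      rw [← pow_one p] at h1
      nth_rewrite 2 [pow_one] at h1
      exact (Nat.pow_le_pow_iff_right hp.out.one_lt).1 (by simpa using h1)
    interval_cases i
    · simp at h2
    · exact pow_one p
  refine ⟨hcZ, hZB, ?_⟩
  set q := QuotientGroup.mk' (center X) with hq
  have hqs := QuotientGroup.mk'_surjective (center X)
  have hcBq : Nat.card (B.map q) = p ^ 2 := by
    have h1 := H2.Card.card_mul_relIndex hZB
    have h2 : Nat.card (B.map q) = (center X).relIndex B := by
      rw [relIndex, ← MonoidHom.domRestrict_range, ← index_ker, MonoidHom.ker_domRestrict, hq, QuotientGroup.ker_mk']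
    rw [hcZ, hB, ← h2, show p ^ 3 = p * p ^ 2 by ring] at h1
    exact Nat.eq_of_mul_eq_mul_left hp.out.pos h1
  -- K
  let K : Subgroup X := (centralizer ((B.map q : Subgroup (X ⧸ center X)) : Set (X ⧸ center X))).comap q
  have hKmem : ∀ g ∈ K, ∀ b ∈ B, g * b * g⁻¹ * b⁻¹ ∈ center X := by
    intro g hg b hb
    have h1 := mem_centralizer_iff.1 hg (q b) (mem_map_of_mem q hb)
    rw [← QuotientGroup.eq_one_iff]
    change q (g * b * g⁻¹ * b⁻¹) = 1
    rw [map_mul, map_mul, map_mul, map_inv, map_inv, ← h1]; group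
  have hBK : B ≤ K := by
    intro g hg
    change q g ∈ centralizer _
    rw [mem_centralizer_iff]
    intro z hz
    exact comm_of_card_le (hX.to_quotient _) hcBq.le z hz _ (mem_map_of_mem q hg)
  have hCK : centralizer (B : Set X) ≤ K := hC.trans hBK
  have hrel : (centralizer (B : Set X)).relIndex K ≤ p ^ 2 := by
    let f : K ⧸ ((centralizer (B : Set X)).subgroupOf K) → center X × center X := fun z =>
      (⟨(z.out : X) * x * (z.out : X)⁻¹ * x⁻¹, hKmem _ z.out.2 x hx⟩, ⟨(z.out : X) * y * (z.out : X)⁻¹ * y⁻¹, hKmem _ z.out.2 y hy⟩)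
    have hf : Function.Injective f := by
      intro z w h
      have h1 : (z.out : X) * x * (z.out : X)⁻¹ * x⁻¹ = (w.out : X) * x * (w.out : X)⁻¹ * x⁻¹ :=
        congrArg Subtype.val (congrArg Prod.fst h)
      have h2 : (z.out : X) * y * (z.out : X)⁻¹ * y⁻¹ = (w.out : X) * y * (w.out : X)⁻¹ * y⁻¹ :=
        congrArg Subtype.val (congrArg Prod.snd h)
      rw [← z.out_eq, ← w.out_eq]
      apply QuotientGroup.eq.2
      rw [mem_subgroupOf]
      change (z.out : X)⁻¹ * (w.out : X) ∈ _
      have h1' := mul_right_cancel h1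
      have h2' := mul_right_cancel h2
      apply hCxy
      · calc (z.out : X)⁻¹ * (w.out : X) * x = (z.out : X)⁻¹ * ((w.out : X) * x * (w.out : X)⁻¹) * (w.out : X) := by group
          _ = (z.out : X)⁻¹ * ((z.out : X) * x * (z.out : X)⁻¹) * (w.out : X) := by rw [h1']
          _ = _ := by group
      · calc (z.out : X)⁻¹ * (w.out : X) * y = (z.out : X)⁻¹ * ((w.out : X) * y * (w.out : X)⁻¹) * (w.out : X) := by group
          _ = (z.out : X)⁻¹ * ((z.out : X) * y * (z.out : X)⁻¹) * (w.out : X) := by rw [h2']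
          _ = _ := by group
    have h3 := Nat.card_le_card_of_injective f hf
    rw [Nat.card_prod, hcZ, ← pow_two] at h3
    exact h3
  have hKB : K = B := by
    symm
    apply H2.Card.eq_of_le_of_card_eq hBK
    apply le_antisymm (Subgroup.card_le_of_le hBK)
    rw [← H2.Card.card_mul_relIndex hCK, hB, show p ^ 3 = p * p ^ 2 by ring]
    exact Nat.mul_le_mul hcC hrel
  intro z hz
  obtain ⟨g, rfl⟩ := hqs z
  have : g ∈ K := hz
  rw [hKB] at this
  exact mem_map_of_mem q this

/-- step A -/
theorem stepA (hX : IsPGroup p X) (A : Subgroup X) (hA : Nat.card A = p ^ 2) (hC : centralizer (A : Set X) ≤ A)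
    (hAt : A ≠ ⊤) : ∃ B : Subgroup X, Nat.card B = p ^ 3 ∧ (∃ x ∈ B, ∃ y ∈ B, x * y ≠ y * x) ∧ centralizer (B : Set X) ≤ B := by
  classical
  have hAc := comm_of_card_le hX hA.le
  have hAC : A = centralizer (A : Set X) := by
    apply le_antisymm _ hC
    intro a ha
    rw [mem_centralizer_iff]
    intro b hb
    exact hAc b hb a ha
  have hlt : A < normalizer (A : Set X) := by
    haveI := hX.isNilpotent
    exact Group.normalizerCondition_of_isNilpotent A (lt_top_iff_ne_top.2 hAt)
  have hZA : center X ≤ A := by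
    refine le_trans ?_ hC
    intro z hz
    rw [mem_centralizer_iff]
    intro b _
    exact mem_center_iff.1 hz b
  have hZne : center X ≠ A := by
    intro h
    apply hAt
    rw [hAC, eq_top_iff]
    intro g _
    rw [mem_centralizer_iff]
    intro a ha
    rw [← h] at ha
    exact (mem_center_iff.1 ha g).symm
  haveI : Nontrivial X := by
    obtain ⟨a, -, ha⟩ := SetLike.exists_of_lt (lt_top_iff_ne_top.2 hAt)
    exact ⟨⟨a, 1, fun h => ha (h ▸ one_mem A)⟩⟩
  obtain ⟨a, haA, haZ⟩ := SetLike.exists_of_lt (lt_of_le_of_ne hZA hZne)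
  set N := normalizer (A : Set X) with hN
  have hAN : A ≤ N := hlt.le
  -- centralizer of a in N is A
  have hCa : ∀ g : X, g * a = a * g → g ∈ A := by
    intro g hg
    apply hC
    have hpgen : A = closure {b | b = a ∨ b ∈ center X} := by
      have hle : closure {b | b = a ∨ b ∈ center X} ≤ A := by
        rw [closure_le]
        rintro b (rfl | hb)
        · exact haA
        · exact hZA hb
      symm
      by_contra hne
      have h1 := lt_of_le_of_ne hle hne
      have h2 : center X < closure {b | b = a ∨ b ∈ center X} := by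
        refine lt_of_le_of_ne (fun z hz => subset_closure (Or.inr hz)) (fun h => haZ ?_)
        rw [h]; exact subset_closure (Or.inl rfl)
      have h3 := hX.bot_lt_center
      obtain ⟨i, hi⟩ := IsPGroup.iff_card.1 (hX.to_subgroup (center X))
      obtain ⟨j, hj⟩ := IsPGroup.iff_card.1 (hX.to_subgroup (closure {b | b = a ∨ b ∈ center X}))
      have h4 := H2.Card.card_lt_of_lt h1
      have h5 := H2.Card.card_lt_of_lt h2
      have h6 := H2.Card.card_lt_of_lt h3
      rw [hj, hA, Nat.pow_lt_pow_iff_right hp.out.one_lt] at h4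
      rw [hi, hj, Nat.pow_lt_pow_iff_right hp.out.one_lt] at h5
      rw [Subgroup.card_bot, hi] at h6
      have h7 : i = 0 := by omega
      subst h7
      simp at h6
    rw [hpgen, centralizer_closure, mem_centralizer_iff]
    rintro b (rfl | hb)
    · exact hg.symm
    · exact (mem_center_iff.1 hb g).symm
  -- |N : A| ≤ p
  have hrel : A.relIndex N < p ^ 2 := by
    let f : N ⧸ (A.subgroupOf N) → A := fun z =>
      ⟨(z.out : X) * a * (z.out : X)⁻¹, (mem_normalizer_iff.1 z.out.2 a).1 haA⟩
    have hf : Function.Injective f := by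
      intro z w h
      have h1 : (z.out : X) * a * (z.out : X)⁻¹ = (w.out : X) * a * (w.out : X)⁻¹ := congrArg Subtype.val h
      rw [← z.out_eq, ← w.out_eq]
      apply QuotientGroup.eq.2
      rw [mem_subgroupOf]
      change (z.out : X)⁻¹ * (w.out : X) ∈ _
      apply hCa
      calc (z.out : X)⁻¹ * (w.out : X) * a = (z.out : X)⁻¹ * ((w.out : X) * a * (w.out : X)⁻¹) * (w.out : X) := by group
        _ = (z.out : X)⁻¹ * ((z.out : X) * a * (z.out : X)⁻¹) * (w.out : X) := by rw [h1]
        _ = _ := by group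
    have hns : ¬ Function.Surjective f := by
      intro hs
      obtain ⟨z, hz⟩ := hs 1
      have h1 : (z.out : X) * a * (z.out : X)⁻¹ = 1 := congrArg Subtype.val hz
      apply haZ
      have : a = 1 := by
        have : a = (z.out : X)⁻¹ * ((z.out : X) * a * (z.out : X)⁻¹) * (z.out : X) := by group
        rw [this, h1]; group
      rw [this]; exact one_mem _
    haveI := Fintype.ofFinite (N ⧸ (A.subgroupOf N))
    haveI := Fintype.ofFinite A
    have h3 := Fintype.card_lt_of_injective_not_surjective f hf hns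
    rw [← Nat.card_eq_fintype_card, ← Nat.card_eq_fintype_card, hA] at h3
    exact h3
  have hcN : Nat.card N = p ^ 3 := by
    obtain ⟨i, hi⟩ := IsPGroup.iff_card.1 (hX.to_subgroup N)
    have h1 := H2.Card.card_lt_of_lt hlt
    have h2 := H2.Card.card_mul_relIndex hAN
    rw [hA, hi, Nat.pow_lt_pow_iff_right hp.out.one_lt] at h1
    rw [hA, hi] at h2
    have h3 : p ^ i < p ^ 4 := by
      rw [← h2, show p ^ 4 = p ^ 2 * p ^ 2 by ring]
      exact Nat.mul_lt_mul_of_pos_left hrel (pow_pos hp.out.pos 2)
    rw [Nat.pow_lt_pow_iff_right hp.out.one_lt] at h3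
    have : i = 3 := by omega
    rw [hi, this]
  refine ⟨N, hcN, ?_, ?_⟩
  · by_contra hab
    push Not at hab
    apply hlt.ne'
    apply le_antisymm _ hAN
    refine le_trans ?_ hC
    intro g hg
    rw [mem_centralizer_iff]
    intro b hb
    exact hab b (hAN hb) g hg
  · exact (centralizer_le hAN).trans (hC.trans hAN)

theorem main (m : ℕ) : ∀ (X : Type u) [Group X] [Finite X], Nat.card X = p ^ (m + 2) → ∀ A : Subgroup X,
    Nat.card A = p ^ 2 → centralizer (A : Set X) ≤ A → Group.nilpotencyClass X = m + 1 := by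
  induction m with
  | zero =>
    intro X _ _ hX A hA hC
    have hXp : IsPGroup p X := IsPGroup.of_card hX
    have hcomm : ∀ a b : X, a * b = b * a := IsPGroup.commutative_of_card_eq_prime_sq hX
    haveI := hXp.isNilpotent
    letI : CommGroup X := { (inferInstance : Group X) with mul_comm := hcomm }
    have h1 : Group.nilpotencyClass X ≤ 1 := CommGroup.nilpotencyClass_le_one
    have h2 : Group.nilpotencyClass X ≠ 0 := by
      intro h
      have := (nilpotencyClass_zero_iff_subsingleton (G := X)).1 h
      have h3 : Nat.card X = 1 := Nat.card_of_subsingleton 1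
      rw [hX] at h3
      exact absurd h3 (Nat.one_lt_pow (by omega) hp.out.one_lt).ne'
    omega
  | succ m ih =>
    intro X _ _ hX A hA hC
    have hXp : IsPGroup p X := IsPGroup.of_card hX
    haveI := hXp.isNilpotent
    obtain ⟨B, hB, hBna, hBC⟩ := stepA hXp A hA hC (by
      rintro rfl
      rw [Subgroup.card_top, hX] at hA
      have := Nat.pow_right_injective hp.out.two_le hA
      omega)
    obtain ⟨hcZ, hZB, hCq⟩ := stepB hXp B hB hBna hBC
    haveI : Nontrivial X := by
      obtain ⟨x, -, y, -, hxy⟩ := hBna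
      exact ⟨⟨x, y, fun h => hxy (by rw [h])⟩⟩
    rw [nilpotencyClass_eq_quotient_center_plus_one, ih (X ⧸ center X) ?_ _ ?_ hCq]
    · have := (center X).card_eq_card_quotient_mul_card_subgroup
      rw [hX, hcZ, show m + 1 + 2 = (m + 2) + 1 by ring, pow_succ] at this
      exact (Nat.eq_of_mul_eq_mul_right hp.out.pos this).symm
    · have h1 := H2.Card.card_mul_relIndex hZB
      have h2 : Nat.card (B.map (QuotientGroup.mk' (center X))) = (center X).relIndex B := by
        rw [relIndex, ← MonoidHom.domRestrict_range, ← index_ker, MonoidHom.ker_domRestrict, QuotientGroup.ker_mk']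
      rw [hcZ, hB, ← h2, show p ^ 3 = p * p ^ 2 by ring] at h1
      exact Nat.eq_of_mul_eq_mul_left hp.out.pos h1

end Cfsg.Agent.H23.MaxCl
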