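import Cfsg.Agent.S0646
import Cfsg.Agent.H2_MaxClass
import Cfsg.Agent.H5_Dih
import Cfsg.Agent.H23_MaxCl

set_option autoImplicit false

/-! 2-groups of maximal class are dihedral, semidihedral, or generalized quaternion. -/

open Subgroup

namespace Cfsg.Agent.H23.Taussky

universe u

/-- the three families -/
def Shape (S : Type u) [Group S] : Prop :=
    ((∃ k : ℕ, Nonempty (S ≃* DihedralGroup (2 ^ (k + 2)))) ∨
      (∃ k : ℕ, Nat.card S = 2 ^ (k + 4) ∧ ∃ a b : S, orderOf a = 2 ^ (k + 3) ∧ orderOf b = 2 ∧ b * a * b⁻¹ = a ^ (2 ^ (k + 2) - 1)) ∨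
      (∃ k : ℕ, Nonempty (S ≃* QuaternionGroup (2 ^ (k + 1)))))

theorem shape {S : Type u} [Group S] [Finite S] {n : ℕ} (hn : 3 ≤ n) (hS : Nat.card S = 2 ^ n)
    (hcl : Group.nilpotencyClass S = n - 1) : Shape S := by
  haveI h2 : Fact (Nat.Prime 2) := ⟨Nat.prime_two⟩
  have hpg : IsPGroup 2 S := IsPGroup.iff_card.2 ⟨_, hS⟩
  haveI := hpg.isNilpotent
  obtain ⟨C, hC, hCi⟩ := H2.MaxClass.exists_cyclic n S hn hS hcl
  have hna : ∃ x y : S, x * y ≠ y * x := by
    by_contra hcon
    push Not at hcon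
    exact H2.MaxClass.not_comm_of_class (by omega) hcon
  obtain ⟨a, b, ha, hb, hcase⟩ := S0646.result n hn hS C hC hCi hna
  have hcard : Nat.card S = 2 * 2 ^ (n - 1) := by
    rw [hS, ← pow_succ']; congr 1; omega
  rcases hcase with ⟨hb2, hab⟩ | ⟨hb2, hab⟩ | ⟨h4, hb2, hab⟩ | ⟨h4, hb2, hab⟩
  · left
    refine ⟨n - 3, ?_⟩
    have e1 : n - 3 + 2 = n - 1 := by omega
    rw [e1]
    exact H5.Dih.nonempty_dihedral (by positivity) a b ha (by rw [← pow_two]; exact hb2) hab hb hcard.le
  · right; right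
    refine ⟨n - 3, ?_⟩
    have e1 : n - 3 + 1 = n - 2 := by omega
    rw [e1]
    have e2 : 2 * 2 ^ (n - 2) = 2 ^ (n - 1) := by rw [← pow_succ']; congr 1; omega
    have e3 : Nat.card S = 4 * 2 ^ (n - 2) := by rw [hcard, ← e2]; ring
    exact H5.Dih.nonempty_quaternion (by positivity) a b (by rw [ha, e2]) (by rw [← pow_two]; exact hb2) hab hb e3.le
  · exfalso
    obtain ⟨hc1, -, -⟩ := H2.MaxClass.center_of_max (p := 2) hS hn hcl
    have hgen : zpowers a ⊔ zpowers b = ⊤ := by
      have h1 : zpowers a < zpowers a ⊔ zpowers b := by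
        refine lt_of_le_of_ne le_sup_left (fun h => hb ?_)
        rw [h]; exact mem_sup_right (mem_zpowers b)
      by_contra hne
      have h3 := H2.Card.card_lt_of_lt h1
      have h4 := H2.Card.card_lt_of_lt (lt_top_iff_ne_top.2 hne)
      rw [Subgroup.card_top, hcard] at h4
      obtain ⟨m, hm⟩ := card_dvd_of_le (le_sup_left : zpowers a ≤ zpowers a ⊔ zpowers b)
      rw [Nat.card_zpowers, ha] at h3 hm
      rw [hm] at h3 h4
      have h5 : 0 < 2 ^ (n - 1) := by positivity
      have h6 : 1 < m := by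
        by_contra h6
        have : m ≤ 1 := by omega
        nlinarith
      have h7 : m < 2 := by
        by_contra h7
        have : 2 ≤ m := by omega
        nlinarith
      omega
    have ha2 : a ^ 2 ∈ center S := by
      have h1 : b * a ^ 2 * b⁻¹ = a ^ 2 := by
        have h2 : b * a ^ 2 * b⁻¹ = (b * a * b⁻¹) ^ 2 := by rw [conj_pow]
        rw [h2, hab, ← pow_mul, show (1 + 2 ^ (n - 2)) * 2 = 2 + 2 ^ (n - 1) from ?_, pow_add, ← ha, pow_orderOf_eq_one, mul_one]
        have : n - 1 = n - 2 + 1 := by omega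
        rw [this, pow_succ]; ring
      have h2 : (⊤ : Subgroup S) ≤ centralizer {a ^ 2} := by
        rw [← hgen, sup_le_iff, zpowers_le, zpowers_le, mem_centralizer_singleton_iff, mem_centralizer_singleton_iff]
        refine ⟨?_, ?_⟩
        · rw [← pow_succ, ← pow_succ']
        · rw [mul_inv_eq_iff_eq_mul] at h1
          exact h1
      rw [Subgroup.mem_center_iff]
      intro g
      exact mem_centralizer_singleton_iff.1 (h2 (mem_top g))
    have h1 : Nat.card (zpowers (a ^ 2)) ∣ Nat.card (center S) := card_dvd_of_le (zpowers_le.2 ha2)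
    rw [Nat.card_zpowers, hc1] at h1
    have h3 : a ^ 4 = 1 := by
      have := orderOf_dvd_iff_pow_eq_one.1 h1
      rw [← pow_mul] at this
      exact this
    have h5 := orderOf_dvd_of_pow_eq_one h3
    rw [ha] at h5
    have h6 := Nat.le_of_dvd (by norm_num) h5
    have h7 : 2 ^ 3 ≤ 2 ^ (n - 1) := Nat.pow_le_pow_right (by norm_num) (by omega)
    omega
  · right; left
    refine ⟨n - 4, ?_, a, b, ?_, ?_, ?_⟩
    · rw [hS]; congr 1; omega
    · rw [ha]; congr 1; omega
    · apply orderOf_eq_prime hb2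
      rintro rfl
      exact hb (one_mem _)
    · rw [hab, show n - 4 + 2 = n - 2 by omega]

/-- a self-centralizing nonabelian subgroup of order 8 (in rank 2) -/
theorem centralizer_le {S : Type u} [Group S] [Finite S] (h2 : IsPGroup 2 S) (hr : Cfsg.SectionalPRankLE 2 2 S)
    {H : Subgroup S} (hH : Nat.card H = 8) (hna : ¬ ∀ a ∈ H, ∀ b ∈ H, a * b = b * a) :
    centralizer (H : Set S) ≤ H := by
  haveI hp : Fact (Nat.Prime 2) := ⟨Nat.prime_two⟩
  by_contra hnle
  set C := centralizer (H : Set S) with hC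
  set Z := H ⊓ C with hZ
  have hZC : Z ≤ C := inf_le_right
  have hZc : ∀ z ∈ Z, ∀ g ∈ H ⊔ C, g * z = z * g := by
    intro z hz
    have h1 : H ⊔ C ≤ centralizer {z} := by
      rw [sup_le_iff]
      refine ⟨fun g hg => ?_, fun g hg => ?_⟩
      · rw [mem_centralizer_singleton_iff]
        exact (mem_centralizer_iff.1 hz.2 g hg)
      · rw [mem_centralizer_singleton_iff]
        exact (mem_centralizer_iff.1 hg z hz.1).symm
    intro g hg
    exact mem_centralizer_singleton_iff.1 (h1 hg)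
  haveI hZn : (Z.subgroupOf C).Normal := by
    constructor
    intro z hz g
    rw [mem_subgroupOf] at hz ⊢
    have h1 := hZc _ hz g (mem_sup_right g.2)
    have h2 : ((g * z * g⁻¹ : C) : S) = (z : S) := by
      push_cast
      rw [h1]; group
    rw [h2]; exact hz
  -- element x
  obtain ⟨x, hxC, hxZ, hx2⟩ : ∃ x ∈ C, x ∉ Z ∧ x ^ 2 ∈ Z := by
    have hne : Z.subgroupOf C ≠ ⊤ := by
      intro h
      rw [subgroupOf_eq_top] at h
      exact hnle (h.trans inf_le_left)
    haveI : Nontrivial (C ⧸ Z.subgroupOf C) := QuotientGroup.nontrivial_iff.2 hne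
    have hqp : IsPGroup 2 (C ⧸ Z.subgroupOf C) := (h2.to_subgroup C).to_quotient _
    have hdv : 2 ∣ Nat.card (C ⧸ Z.subgroupOf C) := by
      obtain ⟨m, hm⟩ := IsPGroup.iff_card.1 hqp
      rw [hm]
      apply dvd_pow_self
      rintro rfl
      rw [pow_zero] at hm
      exact absurd (Finite.one_lt_card (α := C ⧸ Z.subgroupOf C)) (by rw [hm]; exact lt_irrefl 1)
    obtain ⟨y, hy⟩ := exists_prime_orderOf_dvd_card' 2 hdv
    obtain ⟨x, rfl⟩ := QuotientGroup.mk'_surjective _ y
    refine ⟨x, x.2, ?_, ?_⟩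
    · intro h
      have h1 : QuotientGroup.mk' (Z.subgroupOf C) x = 1 := (QuotientGroup.eq_one_iff x).2 h
      rw [h1, orderOf_one] at hy
      omega
    · have h1 := pow_orderOf_eq_one (QuotientGroup.mk' (Z.subgroupOf C) x)
      rw [hy, ← map_pow] at h1
      exact (QuotientGroup.eq_one_iff (x ^ 2)).1 h1
  -- K = H ⟨x⟩
  set K := H ⊔ zpowers x with hK
  have hxc : ∀ g ∈ H, g * x = x * g := fun g hg => mem_centralizer_iff.1 hxC g hg
  have hHx : H ≤ normalizer ((zpowers x : Subgroup S) : Set S) := by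
    intro g hg
    rw [mem_normalizer_iff]
    intro y
    have h1 : ∀ g ∈ H, ∀ y ∈ zpowers x, g * y * g⁻¹ = y := by
      intro g hg y hy
      obtain ⟨k, rfl⟩ := mem_zpowers_iff.1 hy
      have : Commute g x := hxc g hg
      rw [(this.zpow_right k).eq]; group
    constructor
    · intro hy; rw [h1 g hg y hy]; exact hy
    · intro hy
      have := h1 g⁻¹ (inv_mem hg) _ hy
      have h3 : y = g * y * g⁻¹ := by
        rw [← this]; group
      rw [h3]; exact hy
  have hZK : Z ≤ K := inf_le_left.trans le_sup_left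
  have hKle : K ≤ H ⊔ C := sup_le_sup_left (zpowers_le.2 hxC) H
  haveI hZKn : (Z.subgroupOf K).Normal := by
    constructor
    intro z hz g
    rw [mem_subgroupOf] at hz ⊢
    have h1 := hZc _ hz g (hKle g.2)
    have h2 : ((g * z * g⁻¹ : K) : S) = (z : S) := by
      push_cast
      rw [h1]; group
    rw [h2]; exact hz
  -- H/Z is of exponent two, |Z| = 2
  obtain ⟨hZ2, hsq, hcomm⟩ : Nat.card Z = 2 ∧ (∀ g ∈ H, g ^ 2 ∈ Z) ∧ (∀ g ∈ H, ∀ h ∈ H, g * h * g⁻¹ * h⁻¹ ∈ Z) := by
    have hHp : IsPGroup 2 H := h2.to_subgroup H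
    have hZe : Z.subgroupOf H = center H := by
      ext z
      rw [mem_subgroupOf, Subgroup.mem_center_iff]
      constructor
      · intro hz g
        apply Subtype.ext
        exact mem_centralizer_iff.1 hz.2 g g.2
      · intro hz
        refine ⟨z.2, ?_⟩
        change (z : S) ∈ C
        rw [hC, mem_centralizer_iff]
        intro g hg
        exact congrArg Subtype.val (hz ⟨g, hg⟩)
    have hcZ : Nat.card (center H) = Nat.card Z := by
      rw [← hZe]
      exact Nat.card_congr (subgroupOfEquivOfLe (inf_le_left : Z ≤ H)).toEquiv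
    have hne1 : ¬ ∀ a b : H, a * b = b * a := by
      intro h
      exact hna (fun a ha b hb => congrArg Subtype.val (h ⟨a, ha⟩ ⟨b, hb⟩))
    have hcq : Nat.card (H ⧸ center H) * Nat.card (center H) = 8 := by
      rw [← (center H).card_eq_card_quotient_mul_card_subgroup, hH]
    haveI : Nontrivial H := by
      rw [← Finite.one_lt_card_iff_nontrivial, hH]; norm_num
    have h3 := hHp.bot_lt_center
    have h4 := H2.Card.card_lt_of_lt h3
    rw [Subgroup.card_bot] at h4
    have hd : Nat.card (center H) ∣ 8 := Dvd.intro_left _ hcq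
    have hnq2 : Nat.card (H ⧸ center H) ≠ 2 := fun h => H2.MaxClass.quot_not_prime (p := 2) h
    have hnq1 : Nat.card (H ⧸ center H) ≠ 1 := by
      intro h
      apply hne1
      have h5 : center H = ⊤ := by
        rw [← index_eq_one, index_eq_card, h]
      intro a b
      exact (Subgroup.mem_center_iff.1 (h5 ▸ mem_top a : a ∈ center H) b).symm
    have hc2 : Nat.card (center H) = 2 := by
      have h6 : Nat.card (center H) ≤ 8 := Nat.le_of_dvd (by norm_num) hd
      interval_cases hh : Nat.card (center H)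
      · rfl
      · omega
      · omega
      · omega
      · omega
      · omega
      · omega
    have hq4 : Nat.card (H ⧸ center H) = 4 := by
      rw [hc2] at hcq; omega
    -- exponent 2 quotient
    have hsq' : ∀ y : H ⧸ center H, y ^ 2 = 1 := by
      intro y
      by_contra hy
      have hnc : ¬ IsCyclic (H ⧸ center H) := by
        intro hcyc
        apply hne1
        intro a b
        haveI := hcyc
        exact ((QuotientGroup.mk' (center H)).isMulCommutative_of_isCyclic_of_ker_le_center (by simp)).is_comm.comm a b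
      apply hnc
      have h7 : orderOf y ∣ 2 ^ 2 := by
        have := orderOf_dvd_natCard y
        rw [hq4] at this; exact this
      obtain ⟨m, hm, hm2⟩ := (Nat.dvd_prime_pow Nat.prime_two).1 h7
      have hm3 : m = 2 := by
        by_contra hne
        have : m ≤ 1 := by omega
        apply hy
        rw [← orderOf_dvd_iff_pow_eq_one, hm2]
        exact pow_dvd_pow 2 this |>.trans (by norm_num)
      subst hm3
      exact isCyclic_of_orderOf_eq_card y (by rw [hm2, hq4]; norm_num)
    have hcomm' : ∀ a b : H ⧸ center H, a * b = b * a := H2.MaxClass.comm_of_sq hsq'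
    refine ⟨by rw [← hcZ, hc2], ?_, ?_⟩
    · intro g hg
      have h8 : QuotientGroup.mk' (center H) (⟨g, hg⟩ ^ 2) = 1 := by rw [map_pow]; exact hsq' _
      have h9 : (⟨g, hg⟩ : H) ^ 2 ∈ center H := (QuotientGroup.eq_one_iff _).1 h8
      rw [← hZe, mem_subgroupOf] at h9
      exact h9
    · intro g hg h hh
      have h8 : QuotientGroup.mk' (center H) (⟨g, hg⟩ * ⟨h, hh⟩ * (⟨g, hg⟩)⁻¹ * (⟨h, hh⟩)⁻¹) = 1 := by
        rw [map_mul, map_mul, map_mul, map_inv, map_inv, hcomm' (QuotientGroup.mk' (center H) ⟨g, hg⟩)]; group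
      have h9 : (⟨g, hg⟩ * ⟨h, hh⟩ * (⟨g, hg⟩)⁻¹ * (⟨h, hh⟩)⁻¹ : H) ∈ center H := (QuotientGroup.eq_one_iff _).1 h8
      rw [← hZe, mem_subgroupOf] at h9
      exact h9
  -- x ∉ H
  have hxH : x ∉ H := fun h => hxZ ⟨h, hxC⟩
  have hmem : ∀ g ∈ K, ∃ h ∈ H, ∃ y ∈ zpowers x, g = h * y := by
    intro g hg
    obtain ⟨h, hh, y, hy, e⟩ := H2.Card.mem_sup_iff hHx |>.1 hg
    exact ⟨h, hh, y, hy, e.symm⟩
  have hKsq : ∀ g : K ⧸ Z.subgroupOf K, g ^ 2 = 1 := by
    intro g
    obtain ⟨g, rfl⟩ := QuotientGroup.mk'_surjective _ g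
    rw [← map_pow]
    apply (QuotientGroup.eq_one_iff _).2
    rw [mem_subgroupOf]
    obtain ⟨h, hh, y, hy, e⟩ := hmem g g.2
    push_cast
    rw [e]
    obtain ⟨k, rfl⟩ := mem_zpowers_iff.1 hy
    have h1 : Commute h (x ^ k) := Commute.zpow_right (hxc h hh) k
    rw [h1.mul_pow]
    refine mul_mem (hsq h hh) ?_
    rw [← zpow_natCast, ← zpow_mul, mul_comm, zpow_mul, zpow_natCast]
    exact zpow_mem hx2 k
  have hrk := hr K (Z.subgroupOf K) ⊤ ⟨⟨by
      rintro ⟨a, _⟩ ⟨b, _⟩
      exact Subtype.ext (H2.MaxClass.comm_of_sq hKsq a b)⟩⟩ (fun a _ => hKsq a)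
  rw [Subgroup.card_top] at hrk
  have hcK : Nat.card (K ⧸ Z.subgroupOf K) * 2 = Nat.card K := by
    rw [(Z.subgroupOf K).card_eq_card_quotient_mul_card_subgroup,
      Nat.card_congr (subgroupOfEquivOfLe hZK).toEquiv, hZ2]
  have hHK : H < K := lt_of_le_of_ne le_sup_left (fun h => hxH (by rw [h]; exact mem_sup_right (mem_zpowers x)))
  have h16 : 16 ≤ Nat.card K := by
    obtain ⟨m, hm⟩ := card_dvd_of_le hHK.le
    have := H2.Card.card_lt_of_lt hHK
    rw [hH] at hm this
    have : 1 < m := by omega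
    omega
  omega

end Cfsg.Agent.H23.Taussky
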