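import Mathlib
import Cfsg.Agent.S0646
import Cfsg.Agent.S4399
import Cfsg.Agent.S0126
import Cfsg.Agent.H12_Puig
import Cfsg.Agent.H2_Rank2

/-!
p-groups all of whose normal abelian subgroups are cyclic.
-/

set_option autoImplicit false
open Cfsg

namespace Cfsg.Agent.H19.Rank1

open Subgroup

variable {G : Type*} [Group G]

theorem mem_or_of_index_two {H : Subgroup G} (h : H.index = 2) {b : G} (hb : b ∉ H) (x : G) :
    x ∈ H ∨ ∃ y ∈ H, x = y * b := by
  by_cases hx : x ∈ H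
  · exact Or.inl hx
  · right
    refine ⟨x * b⁻¹, ?_, by group⟩
    rw [Subgroup.mul_mem_iff_of_index_two h, inv_mem_iff]
    exact ⟨fun h1 => absurd h1 hx, fun h1 => absurd h1 hb⟩

/-- the modular case is impossible if all normal abelian subgroups are cyclic -/
theorem modular_false (hn : ∀ A : Subgroup G, A.Normal → IsMulCommutative A → IsCyclic A)
    (B : Subgroup G) (hB : B.Normal) {a b : G} {n : ℕ} (h4 : 4 ≤ n) (ha : orderOf a = 2 ^ (n - 1)) (haB : a ∈ B) (hbB : b ∈ B)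
    (hb : b ∉ zpowers a) (hb2 : b ^ 2 = 1) (hab : b * a * b⁻¹ = a ^ (1 + 2 ^ (n - 2)))
    (hidx : ∀ x ∈ B, x ∈ zpowers a ∨ ∃ y ∈ zpowers a, x = y * b) : False := by
  set z := a ^ (2 ^ (n - 2)) with hz
  have hz2 : z ^ 2 = 1 := by
    rw [hz, ← pow_mul, ← pow_succ, (by omega : n - 2 + 1 = n - 1), ← ha, pow_orderOf_eq_one]
  have hz1 : z ≠ 1 := by
    intro h
    have h1 : orderOf a ∣ 2 ^ (n - 2) := orderOf_dvd_of_pow_eq_one h
    rw [ha, Nat.pow_dvd_pow_iff_le_right (by norm_num)] at h1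
    omega
  have hza : Commute z a := (Commute.refl a).pow_left _
  have hbaz : b * a * b⁻¹ = a * z := by rw [hab, pow_add, pow_one]
  have hpow : ∀ i : ℤ, b * a ^ i * b⁻¹ = a ^ i * z ^ i := by
    intro i
    rw [← conj_zpow, hbaz, hza.symm.mul_zpow]
  have hbz : b * z * b⁻¹ = z := by
    have h1 := hpow ((2 ^ (n - 2) : ℕ) : ℤ)
    rw [zpow_natCast, zpow_natCast, ← hz] at h1
    rw [h1]
    have h2 : z ^ 2 ^ (n - 2) = 1 := by
      have h3 : (2 : ℕ) ^ (n - 2) = 2 * 2 ^ (n - 3) := by rw [← pow_succ']; congr 1; omega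
      rw [h3, pow_mul, hz2, one_pow]
    rw [h2, mul_one]
  have hbz' : b * z = z * b := by rw [mul_inv_eq_iff_eq_mul] at hbz; exact hbz
  have hb1 : b ≠ 1 := by rintro rfl; exact hb (one_mem _)
  have hbzne : b ≠ z := by
    rintro h
    exact hb (h ▸ ⟨((2 ^ (n - 2) : ℕ) : ℤ), by rw [hz]; exact zpow_natCast _ _⟩)
  have hzB : z ∈ B := B.pow_mem haB _
  -- involutions of the cyclic subgroup
  have hcyc : ∀ x ∈ zpowers a, x ^ 2 = 1 → x = 1 ∨ x = z := by
    rintro x ⟨i, rfl⟩ hx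
    change (a ^ i) ^ 2 = 1 at hx
    change a ^ i = 1 ∨ a ^ i = z
    rw [← zpow_natCast, ← zpow_mul] at hx
    have h1 : ((orderOf a : ℕ) : ℤ) ∣ i * ((2 : ℕ) : ℤ) := orderOf_dvd_iff_zpow_eq_one.2 hx
    rw [ha] at h1
    have h2 : (((2 ^ (n - 1) : ℕ)) : ℤ) = ((2 ^ (n - 2) : ℕ) : ℤ) * ((2 : ℕ) : ℤ) := by
      rw [← Nat.cast_mul, ← pow_succ]; congr 2; omega
    rw [h2] at h1
    have h3 := Int.dvd_of_mul_dvd_mul_right (by norm_num : ((2 : ℕ) : ℤ) ≠ 0) h1
    obtain ⟨j, hj⟩ := h3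
    rw [hj, zpow_mul, zpow_natCast, ← hz]
    rcases Int.even_or_odd' j with ⟨l, hl | hl⟩
    · left
      rw [hl, zpow_mul, zpow_ofNat, hz2, one_zpow]
    · right
      rw [hl, zpow_add, zpow_mul, zpow_ofNat, hz2, one_zpow, one_mul, zpow_one]
  have key : ∀ x ∈ B, x ^ 2 = 1 → x = 1 ∨ x = z ∨ x = b ∨ x = z * b := by
    intro x hx hx2
    rcases hidx x hx with h | ⟨y, hy, rfl⟩
    · rcases hcyc x h hx2 with h | h
      · exact Or.inl h
      · exact Or.inr (Or.inl h)
    · obtain ⟨i, rfl⟩ := hy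
      change (a ^ i * b) ^ 2 = 1 at hx2
      change a ^ i * b = 1 ∨ a ^ i * b = z ∨ a ^ i * b = b ∨ a ^ i * b = z * b
      have h1 : (a ^ i * b) ^ 2 = (a ^ i) ^ 2 * z ^ i := by
        calc (a ^ i * b) ^ 2 = a ^ i * (b * a ^ i * b⁻¹) * b ^ 2 := by rw [sq, sq]; group
          _ = a ^ i * (a ^ i * z ^ i) * 1 := by rw [hpow, hb2]
          _ = _ := by rw [mul_one, sq, mul_assoc]
      rw [h1] at hx2
      rcases Int.even_or_odd' i with ⟨l, hl | hl⟩
      · have h2 : z ^ i = 1 := by rw [hl, zpow_mul, zpow_ofNat, hz2, one_zpow]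
        rw [h2, mul_one] at hx2
        rcases hcyc (a ^ i) ⟨i, rfl⟩ hx2 with h | h
        · rw [h, one_mul]; exact Or.inr (Or.inr (Or.inl rfl))
        · rw [h]; exact Or.inr (Or.inr (Or.inr rfl))
      · exfalso
        have h2 : z ^ i = z := by rw [hl, zpow_add, zpow_mul, zpow_ofNat, hz2, one_zpow, one_mul, zpow_one]
        rw [h2] at hx2
        have h3 : ((a ^ i) ^ 2) ^ 2 = 1 := by
          have h4 : (a ^ i) ^ 2 = z⁻¹ := eq_inv_of_mul_eq_one_left hx2
          rw [h4, inv_pow, hz2, inv_one]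
        have h5 : a ^ (i * 4) = 1 := by
          rw [zpow_mul]
          have : (4 : ℤ) = ((4 : ℕ) : ℤ) := rfl
          rw [this, zpow_natCast, (by norm_num : (4 : ℕ) = 2 * 2), pow_mul, h3]
        have h6 : ((orderOf a : ℕ) : ℤ) ∣ i * 4 := orderOf_dvd_iff_zpow_eq_one.2 h5
        rw [ha] at h6
        have h7 : (8 : ℤ) ∣ i * 4 := by
          refine dvd_trans ?_ h6
          have : (8 : ℤ) = ((2 ^ 3 : ℕ) : ℤ) := by norm_num
          rw [this, Int.natCast_dvd_natCast]
          exact pow_dvd_pow 2 (by omega)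
        omega
  let K : Subgroup G :=
    { carrier := {x | x ∈ B ∧ x ^ 2 = 1}
      one_mem' := ⟨one_mem _, one_pow _⟩
      inv_mem' := by
        rintro x ⟨h1, h2⟩
        exact ⟨inv_mem h1, by rw [inv_pow, h2, inv_one]⟩
      mul_mem' := by
        rintro x y ⟨hx, hx2⟩ ⟨hy, hy2⟩
        refine ⟨mul_mem hx hy, ?_⟩
        have hc : Commute x y := by
          have hcbz : Commute b z := hbz'
          have hcbz2 : Commute b (z * b) := hcbz.mul_right (Commute.refl b)
          have hczb2 : Commute z (z * b) := (Commute.refl z).mul_right hcbz.symm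
          rcases key x hx hx2 with rfl | rfl | rfl | rfl <;> rcases key y hy hy2 with rfl | rfl | rfl | rfl <;>
            first
            | exact Commute.one_left _
            | exact Commute.one_right _
            | exact Commute.refl _
            | exact hcbz
            | exact hcbz.symm
            | exact hcbz2
            | exact hcbz2.symm
            | exact hczb2
            | exact hczb2.symm
        rw [hc.mul_pow, hx2, hy2, one_mul] }
  have hKmem : ∀ x, x ∈ K ↔ x ∈ B ∧ x ^ 2 = 1 := fun x => Iff.rfl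
  have hKn : K.Normal := by
    constructor
    intro x hx g
    rw [hKmem] at hx ⊢
    refine ⟨hB.conj_mem _ hx.1 g, ?_⟩
    rw [conj_pow, hx.2]; group
  have hKc : IsMulCommutative K := by
    refine ⟨⟨fun x y => ?_⟩⟩
    have h1 : (x * y) ^ 2 = 1 := Subtype.ext (x * y).2.2
    have h2 : x ^ 2 = 1 := Subtype.ext x.2.2
    have h3 : y ^ 2 = 1 := Subtype.ext y.2.2
    have h4 : x⁻¹ = x := inv_eq_of_mul_eq_one_left (by rw [← sq]; exact h2)
    have h5 : y⁻¹ = y := inv_eq_of_mul_eq_one_left (by rw [← sq]; exact h3)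
    have h6 : (x * y)⁻¹ = x * y := inv_eq_of_mul_eq_one_left (by rw [← sq]; exact h1)
    rw [← h6, mul_inv_rev, h4, h5]
  have hKcyc := hn K hKn hKc
  -- a cyclic group has at most one involution
  have hbK : b ∈ K := ⟨hbB, hb2⟩
  have hzK : z ∈ K := ⟨hzB, hz2⟩
  haveI : Finite K := by
    have : (K : Set G) ⊆ {1, z, b, z * b} := by
      intro x hx
      rcases key x hx.1 hx.2 with h | h | h | h <;> simp [h]
    exact Set.Finite.subset (Set.toFinite _) this
  obtain ⟨g, hg⟩ := hKcyc.exists_generator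
  have hg2 : g ^ 2 = 1 := Subtype.ext g.2.2
  have hcard : ∀ x : K, x = 1 ∨ x = g := by
    intro x
    obtain ⟨i, rfl⟩ := hg x
    change g ^ i = 1 ∨ g ^ i = g
    rcases Int.even_or_odd' i with ⟨l, hl | hl⟩
    · left; rw [hl, zpow_mul, zpow_ofNat, hg2, one_zpow]
    · right; rw [hl, zpow_add, zpow_mul, zpow_ofNat, hg2, one_zpow, one_mul, zpow_one]
  rcases hcard ⟨b, hbK⟩ with h1 | h1
  · exact hb1 (congrArg Subtype.val h1)
  · rcases hcard ⟨z, hzK⟩ with h2 | h2
    · exact hz1 (congrArg Subtype.val h2)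
    · exact hbzne (congrArg Subtype.val (h1.trans h2.symm))

/-- wrapper: a normal subgroup with a modular presentation -/
theorem modular_false' [Finite G] (hn : ∀ A : Subgroup G, A.Normal → IsMulCommutative A → IsCyclic A)
    (B : Subgroup G) (hB : B.Normal) {a b : B} {n : ℕ} (hcB : Nat.card B = 2 ^ n) (h4 : 4 ≤ n) (ha : orderOf a = 2 ^ (n - 1))
    (hb : b ∉ zpowers a) (hb2 : b ^ 2 = 1) (hab : b * a * b⁻¹ = a ^ (1 + 2 ^ (n - 2))) : False := by
  have hi : (zpowers a).index = 2 := by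
    have h1 := Subgroup.card_mul_index (zpowers a)
    rw [Nat.card_zpowers, ha, hcB] at h1
    have h2 : (2 : ℕ) ^ n = 2 ^ (n - 1) * 2 := by rw [← pow_succ]; congr 1; omega
    rw [h2] at h1
    exact Nat.eq_of_mul_eq_mul_left (by positivity) h1
  have hmem : ∀ y : B, (y : G) ∈ zpowers (a : G) ↔ y ∈ zpowers a := by
    intro y
    constructor
    · rintro ⟨i, hi⟩
      exact ⟨i, Subtype.ext hi⟩
    · rintro ⟨i, rfl⟩
      exact ⟨i, rfl⟩
  refine modular_false hn B hB (a := (a : G)) (b := (b : G)) h4 (by rw [Subgroup.orderOf_coe, ha]) a.2 b.2 ?_ ?_ ?_ ?_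
  · intro h
    exact hb ((hmem b).1 h)
  · exact congrArg Subtype.val hb2
  · exact congrArg Subtype.val hab
  · intro x hx
    rcases mem_or_of_index_two hi hb ⟨x, hx⟩ with h | ⟨y, hy, h⟩
    · left; exact (hmem ⟨x, hx⟩).2 h
    · right; exact ⟨y, (hmem y).2 hy, congrArg Subtype.val h⟩

theorem elt_cases {B : Type*} [Group B] [Finite B] {a b : B} {n : ℕ} (h3 : 3 ≤ n) (hcB : Nat.card B = 2 ^ n)
    (ha : orderOf a = 2 ^ (n - 1)) (hb : b ∉ zpowers a) {k : ℤ} (hab : b * a * b⁻¹ = a ^ k)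
    (hk : ¬ (2 : ℤ) ^ (n - 1) ∣ k - 1) {c : B} (hcc : ∀ x, Commute c x) (hk2 : ∀ i : ℤ, (2 : ℤ) ^ (n - 1) ∣ i * (k - 1) → (2 : ℤ) ^ (n - 2) ∣ i) :
    c ^ 2 = 1 := by
  have hi : (zpowers a).index = 2 := by
    have h1 := Subgroup.card_mul_index (zpowers a)
    rw [Nat.card_zpowers, ha, hcB] at h1
    have h2 : (2 : ℕ) ^ n = 2 ^ (n - 1) * 2 := by rw [← pow_succ]; congr 1; omega
    rw [h2] at h1
    exact Nat.eq_of_mul_eq_mul_left (by positivity) h1
  have hord : ∀ i : ℤ, a ^ i = 1 ↔ (2 : ℤ) ^ (n - 1) ∣ i := by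
    intro i
    rw [← orderOf_dvd_iff_zpow_eq_one, ha]
    push_cast
    rfl
  rcases mem_or_of_index_two hi hb c with ⟨i, rfl⟩ | ⟨y, ⟨i, rfl⟩, rfl⟩
  · -- c = a^i commutes with b
    change (a ^ i) ^ 2 = 1
    have h1 : b * a ^ i * b⁻¹ = a ^ i := by
      rw [mul_inv_eq_iff_eq_mul]; exact (hcc b).eq.symm
    rw [← conj_zpow, hab, ← zpow_mul] at h1
    have h2 : a ^ (i * (k - 1)) = 1 := by
      rw [(by ring : i * (k - 1) = k * i - i), zpow_sub, h1, mul_inv_cancel]
    have h4 := hk2 i ((hord _).1 h2)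
    rw [← zpow_natCast, ← zpow_mul, hord]
    obtain ⟨j, rfl⟩ := h4
    refine ⟨j, ?_⟩
    have h5 : (2 : ℤ) ^ (n - 1) = 2 ^ (n - 2) * 2 := by rw [← pow_succ]; congr 1; omega
    rw [h5]; push_cast; ring
  · exfalso
    have h1 : Commute b a := by
      have h2 := hcc a
      have h3 : Commute (a ^ i) a := (Commute.refl a).zpow_left i
      have h4 : Commute ((a ^ i)⁻¹ * (a ^ i * b)) a := h3.inv_left.mul_left h2
      rwa [inv_mul_cancel_left] at h4
    have h2 : b * a * b⁻¹ = a := by rw [mul_inv_eq_iff_eq_mul]; exact h1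
    rw [hab] at h2
    apply hk
    rw [← hord, zpow_sub, h2, zpow_one, mul_inv_cancel]

/-- 2-groups with only cyclic normal abelian subgroups are cyclic or have a cyclic subgroup of index 2 -/
theorem cyclic_or_index_two [Finite G] (hG : IsPGroup 2 G) (hn : ∀ A : Subgroup G, A.Normal → IsMulCommutative A → IsCyclic A) :
    IsCyclic G ∨ ∃ C : Subgroup G, IsCyclic C ∧ C.index = 2 ∧ centralizer (C : Set G) = C ∧ 4 ≤ Nat.card C := by
  classical
  haveI : Fact (Nat.Prime 2) := ⟨Nat.prime_two⟩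
  haveI := hG.isNilpotent
  obtain ⟨A, hAn, hAc, hAA⟩ := Cfsg.Agent.H12.Puig.exists_max_abelian_normal (G := G)
  have hcyc := hn A hAn hAc
  by_cases hAt : A = ⊤
  · left
    rw [hAt] at hcyc
    exact isCyclic_of_surjective (Subgroup.topEquiv (G := G)) (Subgroup.topEquiv (G := G)).surjective
  right
  obtain ⟨m, hm⟩ := IsPGroup.iff_card.1 (hG.to_subgroup A)
  have hm2 : 2 ≤ m := by
    by_contra hcon
    apply hAt
    have h1 : Nat.card A ≤ 2 := by
      rw [hm]
      calc 2 ^ m ≤ 2 ^ 1 := Nat.pow_le_pow_right (by norm_num) (by omega)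
        _ = 2 := rfl
    have h2 := Cfsg.Agent.H2.Rank2.le_center_of_card_le hG hAn h1
    rw [← hAA, eq_top_iff]
    intro x _
    rw [mem_centralizer_iff]
    intro y hy
    exact (mem_center_iff.1 (h2 hy) x).symm
  obtain ⟨⟨a, haA⟩, ha⟩ := hcyc.exists_generator
  have haz : zpowers a = A := by
    apply le_antisymm
    · rwa [zpowers_le]
    · intro x hx
      obtain ⟨i, hi⟩ := ha ⟨x, hx⟩
      exact ⟨i, congrArg Subtype.val hi⟩
  have hao : orderOf a = 2 ^ m := by rw [← Nat.card_zpowers, haz, hm]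
  refine ⟨A, hcyc, ?_, hAA, by rw [hm]; calc 4 = 2 ^ 2 := rfl
    _ ≤ 2 ^ m := Nat.pow_le_pow_right (by norm_num) hm2⟩
  set c := a ^ (2 ^ (m - 2)) with hc
  have hco : orderOf c = 4 := by
    rw [hc, orderOf_pow_of_dvd (by positivity) (by rw [hao]; exact pow_dvd_pow 2 (by omega)), hao,
      Nat.pow_div (by omega) (by norm_num)]
    have : m - (m - 2) = 2 := by omega
    rw [this]
  have hcA : c ∈ A := A.pow_mem haA _
  -- conjugates of c
  have hc4 : ∀ x ∈ A, x ^ 4 = 1 → x ∈ zpowers c := by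
    intro x hx hx4
    rw [← haz] at hx
    obtain ⟨i, rfl⟩ := hx
    change (a ^ i) ^ 4 = 1 at hx4
    change a ^ i ∈ zpowers c
    rw [← zpow_natCast, ← zpow_mul] at hx4
    have h1 : ((orderOf a : ℕ) : ℤ) ∣ i * ((4 : ℕ) : ℤ) := orderOf_dvd_iff_zpow_eq_one.2 hx4
    rw [hao] at h1
    have h2 : (((2 ^ m : ℕ)) : ℤ) = ((2 ^ (m - 2) : ℕ) : ℤ) * ((4 : ℕ) : ℤ) := by
      rw [← Nat.cast_mul]; congr 1
      rw [(by norm_num : (4 : ℕ) = 2 ^ 2), ← pow_add]; congr 1; omega
    rw [h2] at h1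
    obtain ⟨j, hj⟩ := Int.dvd_of_mul_dvd_mul_right (by norm_num : ((4 : ℕ) : ℤ) ≠ 0) h1
    exact ⟨j, by rw [hj, zpow_mul, zpow_natCast]⟩
  have hconj : ∀ g : G, g * c * g⁻¹ = c ∨ g * c * g⁻¹ = c⁻¹ := by
    intro g
    have h1 : g * c * g⁻¹ ∈ zpowers c := hc4 _ (hAn.conj_mem c hcA g) (by
      rw [conj_pow, ← hco, pow_orderOf_eq_one, mul_one, mul_inv_cancel])
    obtain ⟨i, hi⟩ := h1
    change c ^ i = g * c * g⁻¹ at hi
    have hmod : c ^ i = c ^ (i % 4) := by
      have : (4 : ℤ) = ((orderOf c : ℕ) : ℤ) := by rw [hco]; rfl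
      rw [this, zpow_mod_orderOf]
    have hi4 : i % 4 = 0 ∨ i % 4 = 1 ∨ i % 4 = 2 ∨ i % 4 = 3 := by omega
    rw [hmod] at hi
    have hc4' : c ^ 4 = 1 := by rw [← hco, pow_orderOf_eq_one]
    rcases hi4 with h | h | h | h
    · exfalso
      rw [h, zpow_zero] at hi
      have h2 : c = 1 := by
        have := hi.symm
        rw [mul_inv_eq_iff_eq_mul, one_mul] at this
        exact mul_eq_left.1 this
      rw [h2, orderOf_one] at hco
      omega
    · left; rw [h, zpow_one] at hi; exact hi.symm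
    · exfalso
      rw [h] at hi
      have h2 : (g * c * g⁻¹) ^ 2 = 1 := by
        rw [← hi]
        have : (c ^ (2 : ℤ)) ^ 2 = c ^ 4 := by rw [zpow_ofNat, ← pow_mul]
        rw [this, hc4']
      rw [conj_pow] at h2
      have h3 : c ^ 2 = 1 := by
        rw [mul_inv_eq_iff_eq_mul, one_mul] at h2
        exact mul_eq_left.1 h2
      have h5 := orderOf_dvd_of_pow_eq_one h3
      rw [hco] at h5
      omega
    · right
      rw [h] at hi
      rw [← hi]
      have : c ^ (3 : ℤ) = c ^ 3 := zpow_ofNat c 3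
      rw [this]
      exact eq_inv_of_mul_eq_one_left (by rw [← pow_succ, hc4'])
  let C : Subgroup G := centralizer ({c} : Set G)
  have hCmem : ∀ g, g ∈ C ↔ g * c * g⁻¹ = c := by
    intro g
    rw [mem_centralizer_singleton_iff, mul_inv_eq_iff_eq_mul]
  have hCi : C.index ∣ 2 := by
    have hor : ∀ x y : G, x ∉ C → y ∉ C → x * y ∈ C := by
      intro x y hx hy
      rw [hCmem] at hx hy ⊢
      have h1 := (hconj x).resolve_left hx
      have h2 := (hconj y).resolve_left hy
      calc x * y * c * (x * y)⁻¹ = x * (y * c * y⁻¹) * x⁻¹ := by group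
        _ = (x * c * x⁻¹)⁻¹ := by rw [h2]; group
        _ = c := by rw [h1, inv_inv]
    by_cases hCt : C = ⊤
    · rw [hCt, index_top]; exact one_dvd _
    · have h1 : ∃ x, x ∉ C := by
        by_contra hcon
        push Not at hcon
        exact hCt (eq_top_iff.2 fun x _ => hcon x)
      obtain ⟨x, hx⟩ := h1
      have h2 : C.index = 2 := by
        rw [Subgroup.index_eq_two_iff]
        refine ⟨x, fun y => ?_⟩
        by_cases hy : y ∈ C
        · right
          refine ⟨hy, fun h => hx ?_⟩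
          exact (C.mul_mem_cancel_left hy).1 h
        · left
          exact ⟨hor y x hy hx, hy⟩
      rw [h2]
  have hAC : A ≤ C := by
    intro x hx
    rw [hCmem, mul_inv_eq_iff_eq_mul]
    exact congrArg Subtype.val (hAc.is_comm.comm (⟨x, hx⟩ : A) ⟨c, hcA⟩)
  have hCn : C.Normal := by
    constructor
    intro x hx g
    rw [hCmem] at hx ⊢
    have h1 : ∀ g : G, g⁻¹ * c * g = c ∨ g⁻¹ * c * g = c⁻¹ := by
      intro g
      have := hconj g⁻¹
      rwa [inv_inv] at this
    have hxc : x * c = c * x := mul_inv_eq_iff_eq_mul.1 hx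
    have hxc' : x * c⁻¹ = c⁻¹ * x := (show Commute x c from hxc).inv_right.eq
    rcases h1 g with h | h
    · calc g * x * g⁻¹ * c * (g * x * g⁻¹)⁻¹ = g * (x * (g⁻¹ * c * g)) * x⁻¹ * g⁻¹ := by group
        _ = g * (g⁻¹ * c * g) * g⁻¹ := by rw [h, hxc]; group
        _ = c := by group
    · calc g * x * g⁻¹ * c * (g * x * g⁻¹)⁻¹ = g * (x * (g⁻¹ * c * g)) * x⁻¹ * g⁻¹ := by group
        _ = g * (g⁻¹ * c * g) * g⁻¹ := by rw [h, hxc']; group
        _ = c := by group
  by_cases hAeqC : A = C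
  · rw [← hAeqC] at hCi
    rcases (Nat.dvd_prime Nat.prime_two).1 hCi with h | h
    · exact absurd (index_eq_one.1 h) hAt
    · exact h
  exfalso
  obtain ⟨B, hBn, hAB, hBC, hrel⟩ := Cfsg.Agent.H2.Rank2.exists_normal_above hG hAn hCn (lt_of_le_of_ne hAC hAeqC)
  have hcB : Nat.card B = 2 ^ (m + 1) := by
    have h1 := relIndex_mul_relIndex _ _ _ (bot_le (a := A)) hAB
    rw [relIndex_bot_left, relIndex_bot_left, hrel, hm] at h1
    rw [← h1, pow_succ]
  obtain ⟨a', b', ha', hb', hcases⟩ := Cfsg.Agent.S0646.result (G := B) (m + 1) (by omega) hcB (A.subgroupOf B)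
    (isCyclic_of_surjective (subgroupOfEquivOfLe hAB).symm (subgroupOfEquivOfLe hAB).symm.surjective) hrel (by
      by_contra hcon
      push Not at hcon
      have h1 : B ≤ A := by
        rw [← hAA]
        intro x hx
        rw [mem_centralizer_iff]
        intro y hy
        exact (congrArg Subtype.val (hcon ⟨x, hx⟩ ⟨y, hAB hy⟩)).symm
      have h2 : A = B := le_antisymm hAB h1
      rw [h2, relIndex_self] at hrel
      omega)
  have e1 : m + 1 - 1 = m := by omega
  have e2 : m + 1 - 2 = m - 1 := by omega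
  have hcc : ∀ x : B, Commute (⟨c, hAB hcA⟩ : B) x := by
    intro x
    have h1 := (hCmem x).1 (hBC x.2)
    rw [mul_inv_eq_iff_eq_mul] at h1
    exact Subtype.ext h1.symm
  have hc2 : (⟨c, hAB hcA⟩ : B) ^ 2 ≠ 1 := by
    intro h
    have h1 : c ^ 2 = 1 := congrArg Subtype.val h
    have h5 := orderOf_dvd_of_pow_eq_one h1
    rw [hco] at h5
    omega
  have hinvcase : b' * a' * b'⁻¹ = a'⁻¹ → False := by
    intro h
    apply hc2
    refine elt_cases (by omega) hcB ha' hb' (k := -1) (by rw [h, zpow_neg_one]) ?_ hcc ?_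
    · rw [e1]
      intro h1
      have h2 : (4 : ℤ) ∣ -1 - 1 := by
        refine dvd_trans ?_ h1
        have : (4 : ℤ) = 2 ^ 2 := by norm_num
        rw [this]; exact pow_dvd_pow 2 hm2
      omega
    · intro i h1
      rw [e1] at h1
      rw [e2]
      have h2 : (2 : ℤ) ^ m = 2 ^ (m - 1) * 2 := by rw [← pow_succ]; congr 1; omega
      have h3 : i * (-1 - 1) = (-i) * 2 := by ring
      rw [h2, h3] at h1
      have h4 := Int.dvd_of_mul_dvd_mul_right (by norm_num) h1
      exact (dvd_neg).1 h4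
  rcases hcases with ⟨-, h⟩ | ⟨-, h⟩ | ⟨h4, hb2, h⟩ | ⟨h4, hb2, h⟩
  · exact hinvcase h
  · exact hinvcase h
  · exact modular_false' hn B hBn hcB h4 ha' hb' hb2 h
  · apply hc2
    have hcast : (((2 ^ (m + 1 - 2) - 1 : ℕ)) : ℤ) = 2 ^ (m - 1) - 1 := by
      rw [e2, Nat.cast_sub Nat.one_le_two_pow]; push_cast; rfl
    have hfac : (2 : ℤ) ^ (m - 1) - 1 - 1 = 2 * (2 ^ (m - 2) - 1) := by
      have : (2 : ℤ) ^ (m - 1) = 2 * 2 ^ (m - 2) := by rw [← pow_succ']; congr 1; omega
      rw [this]; ring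
    have hodd : ¬ (2 : ℤ) ∣ 2 ^ (m - 2) - 1 := by
      intro h1
      have h2 : (2 : ℤ) ∣ 2 ^ (m - 2) := dvd_pow_self 2 (by omega)
      have h3 := (dvd_sub_right h2).1 h1
      omega
    have hkey : ∀ i : ℤ, (2 : ℤ) ^ m ∣ i * ((2 : ℤ) ^ (m - 1) - 1 - 1) → (2 : ℤ) ^ (m - 1) ∣ i := by
      intro i h1
      rw [hfac] at h1
      have h2 : (2 : ℤ) ^ m = 2 ^ (m - 1) * 2 := by rw [← pow_succ]; congr 1; omega
      have h3 : i * (2 * (2 ^ (m - 2) - 1)) = (i * (2 ^ (m - 2) - 1)) * 2 := by ring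
      rw [h2, h3] at h1
      have h4 := Int.dvd_of_mul_dvd_mul_right (by norm_num) h1
      have h5 : IsCoprime ((2 : ℤ) ^ (m - 1)) (2 ^ (m - 2) - 1) := by
        apply IsCoprime.pow_left
        rw [Prime.coprime_iff_not_dvd Int.prime_two]
        exact hodd
      exact h5.dvd_of_dvd_mul_right h4
    refine elt_cases (by omega) hcB ha' hb' (k := ((2 ^ (m + 1 - 2) - 1 : ℕ) : ℤ)) (by rw [h, zpow_natCast]) ?_ hcc ?_
    · rw [hcast, e1]
      intro h1
      have h2 := hkey 1 (by rwa [one_mul])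
      have h3 : (2 : ℤ) ∣ 1 := dvd_trans (dvd_pow_self 2 (by omega)) h2
      omega
    · intro i h1
      rw [hcast, e1] at h1
      rw [e2]
      exact hkey i h1

theorem abel_four [Finite G] {n : ℕ} (h3 : 3 ≤ n) (hG : Nat.card G = 2 ^ n) {a b : G} (ha : orderOf a = 2 ^ (n - 1))
    (hb : b ∉ zpowers a) {u : ℤ} (hu : ¬ (2 : ℤ) ∣ u) (hab : b * a * b⁻¹ = a ^ (1 + 2 * u)) (hb2 : b ^ 2 ∈ zpowers (a ^ 2)) :
    Nat.card (Abelianization G) = 4 ∧ ∀ x : Abelianization G, x ^ 2 = 1 := by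
  classical
  haveI : Fact (Nat.Prime 2) := ⟨Nat.prime_two⟩
  have hi : (zpowers a).index = 2 := by
    have h1 := Subgroup.card_mul_index (zpowers a)
    rw [Nat.card_zpowers, ha, hG] at h1
    have h2 : (2 : ℕ) ^ n = 2 ^ (n - 1) * 2 := by rw [← pow_succ]; congr 1; omega
    rw [h2] at h1
    exact Nat.eq_of_mul_eq_mul_left (by positivity) h1
  -- `a² ∈ G'`
  have ha2 : a ^ 2 ∈ commutator G := by
    have h1 : (Abelianization.of a) ^ (2 * u) = 1 := by
      have h2 := congrArg (Abelianization.of (G := G)) hab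
      simp only [map_mul, map_inv, map_zpow] at h2
      rw [mul_comm (Abelianization.of b), mul_inv_cancel_right, zpow_add, zpow_one] at h2
      exact (mul_eq_left.1 h2.symm)
    have h2 : (Abelianization.of a) ^ (2 ^ (n - 1)) = 1 := by rw [← map_pow, ← ha, pow_orderOf_eq_one, map_one]
    have h4 : orderOf (Abelianization.of a) ∣ 2 ^ (n - 1) := orderOf_dvd_of_pow_eq_one h2
    obtain ⟨j, -, hj⟩ := (Nat.dvd_prime_pow Nat.prime_two).1 h4
    have h5 : ((orderOf (Abelianization.of a) : ℕ) : ℤ) ∣ 2 * u := orderOf_dvd_iff_zpow_eq_one.2 h1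
    have h6 : j ≤ 1 := by
      by_contra hcon
      push Not at hcon
      rw [hj] at h5
      have h7 : (4 : ℤ) ∣ 2 * u := by
        refine dvd_trans ?_ h5
        have : (4 : ℤ) = ((2 ^ 2 : ℕ) : ℤ) := by norm_num
        rw [this, Int.natCast_dvd_natCast]
        exact pow_dvd_pow 2 hcon
      omega
    have h7 : (Abelianization.of a) ^ 2 = 1 := by
      apply orderOf_dvd_iff_pow_eq_one.1
      rw [hj]
      calc 2 ^ j ∣ 2 ^ 1 := pow_dvd_pow 2 h6
        _ = 2 := rfl
    rw [← map_pow] at h7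
    have h8 : a ^ 2 ∈ (Abelianization.of (G := G)).ker := h7
    rwa [Abelianization.ker_of] at h8
  let N : Subgroup G := zpowers (a ^ 2)
  have hNle : N ≤ commutator G := by rwa [zpowers_le]
  have hconjN : ∀ x ∈ N, b * x * b⁻¹ ∈ N := by
    rintro x ⟨i, rfl⟩
    change b * ((a ^ 2) ^ i) * b⁻¹ ∈ N
    rw [← conj_zpow, ← conj_pow, hab]
    refine ⟨(1 + 2 * u) * i, ?_⟩
    change (a ^ 2) ^ ((1 + 2 * u) * i) = _
    rw [← zpow_natCast, ← zpow_natCast (a ^ (1 + 2 * u)), ← zpow_mul, ← zpow_mul, ← zpow_mul]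
    congr 1; push_cast; ring
  have hNn : N.Normal := by
    constructor
    intro x hx g
    have hcomm : ∀ y ∈ zpowers a, ∀ x ∈ N, y * x * y⁻¹ = x := by
      rintro y ⟨i, rfl⟩ x ⟨j, rfl⟩
      have h1 : Commute (a ^ i) ((a ^ 2) ^ j) := ((Commute.refl a).zpow_left i).pow_right 2 |>.zpow_right j
      exact mul_inv_eq_of_eq_mul h1.eq
    rcases mem_or_of_index_two hi hb g with h | ⟨y, hy, rfl⟩
    · rw [hcomm g h x hx]; exact hx
    · have h1 := hconjN x hx
      have h2 := hcomm y hy _ h1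
      have h3 : y * b * x * (y * b)⁻¹ = y * (b * x * b⁻¹) * y⁻¹ := by group
      rw [h3, h2]; exact h1
  have hsq : ∀ x : G, x ^ 2 ∈ N := by
    intro x
    rcases mem_or_of_index_two hi hb x with ⟨i, rfl⟩ | ⟨y, ⟨i, rfl⟩, rfl⟩
    · refine ⟨i, ?_⟩
      change (a ^ 2) ^ i = (a ^ i) ^ 2
      rw [← zpow_natCast, ← zpow_mul, ← zpow_natCast (a ^ i), ← zpow_mul, mul_comm]
    · change (a ^ i * b) ^ 2 ∈ N
      have h1 : (a ^ i * b) ^ 2 = a ^ i * (b * a ^ i * b⁻¹) * b ^ 2 := by rw [sq, sq]; group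
      rw [h1, ← conj_zpow, hab, ← zpow_mul, ← zpow_add]
      apply mul_mem _ hb2
      refine ⟨i * (1 + u), ?_⟩
      change (a ^ 2) ^ (i * (1 + u)) = _
      rw [← zpow_natCast, ← zpow_mul]
      congr 1; push_cast; ring
  have hle : commutator G ≤ N := by
    have h1 : ∀ x y : G ⧸ N, x * y = y * x := by
      have h2 : ∀ x : G ⧸ N, x * x = 1 := by
        intro x
        obtain ⟨g, rfl⟩ := QuotientGroup.mk_surjective x
        rw [← QuotientGroup.mk_mul, QuotientGroup.eq_one_iff, ← sq]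
        exact hsq g
      intro x y
      have e1 : x⁻¹ = x := inv_eq_of_mul_eq_one_left (h2 x)
      have e2 : y⁻¹ = y := inv_eq_of_mul_eq_one_left (h2 y)
      have e3 : (x * y)⁻¹ = x * y := inv_eq_of_mul_eq_one_left (h2 _)
      rw [← e3, mul_inv_rev, e1, e2]
    rw [_root_.commutator_def, Subgroup.commutator_le]
    intro x _ y _
    rw [← QuotientGroup.eq_one_iff, commutatorElement_def]
    simp only [QuotientGroup.mk_mul, QuotientGroup.mk_inv]
    rw [h1 (x : G ⧸ N) y]
    group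
  have heq : commutator G = N := le_antisymm hle hNle
  have hNc : Nat.card N = 2 ^ (n - 2) := by
    change Nat.card (zpowers (a ^ 2)) = _
    rw [Nat.card_zpowers, orderOf_pow_of_dvd (by norm_num) (by rw [ha]; exact dvd_pow_self 2 (by omega)), ha]
    have h2 : (2 : ℕ) ^ (n - 1) = 2 ^ (n - 2) * 2 := by rw [← pow_succ]; congr 1; omega
    rw [h2, Nat.mul_div_cancel _ (by norm_num)]
  constructor
  · have h1 := Subgroup.card_mul_index (commutator G)
    rw [heq, hNc, hG] at h1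
    have h2 : (2 : ℕ) ^ n = 2 ^ (n - 2) * 4 := by
      rw [(by norm_num : 4 = 2 ^ 2), ← pow_add]; congr 1; omega
    rw [h2] at h1
    have h3 := Nat.eq_of_mul_eq_mul_left (by positivity) h1
    rw [← heq] at h3
    exact h3
  · intro x
    obtain ⟨g, rfl⟩ := QuotientGroup.mk_surjective x
    have h1 : g ^ 2 ∈ commutator G := by rw [heq]; exact hsq g
    have h2 := (QuotientGroup.eq_one_iff (N := commutator G) (g ^ 2)).2 h1
    exact h2

/-- p-groups all of whose normal abelian subgroups are cyclic -/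
theorem classify [Finite G] {p : ℕ} [hp : Fact p.Prime] (hG : IsPGroup p G)
    (hn : ∀ A : Subgroup G, A.Normal → IsMulCommutative A → IsCyclic A) :
    IsCyclic G ∨ (p = 2 ∧ 8 ≤ Nat.card G ∧ ((∃ k : ℕ, Nonempty (G ≃* DihedralGroup (2 ^ (k + 2)))) ∨
      (∃ k : ℕ, Nat.card G = 2 ^ (k + 4) ∧ ∃ a b : G, orderOf a = 2 ^ (k + 3) ∧ orderOf b = 2 ∧ b * a * b⁻¹ = a ^ (2 ^ (k + 2) - 1)) ∨
      (∃ k : ℕ, Nonempty (G ≃* QuaternionGroup (2 ^ (k + 1)))))) := by
  classical
  by_cases hp2 : p = 2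
  · subst hp2
    rcases cyclic_or_index_two hG hn with h | ⟨C, hC, hCi, hCC, hC4⟩
    · exact Or.inl h
    · right
      obtain ⟨n, hn'⟩ := IsPGroup.iff_card.1 hG
      have hcard8 : 8 ≤ Nat.card G := by
        have := Subgroup.card_mul_index C
        rw [hCi] at this
        omega
      have hn3 : 3 ≤ n := by
        by_contra hcon
        have : 2 ^ n ≤ 2 ^ 2 := Nat.pow_le_pow_right (by norm_num) (by omega)
        rw [hn'] at hcard8
        omega
      refine ⟨rfl, hcard8, ?_⟩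
      have hna : ∃ x y : G, x * y ≠ y * x := by
        by_contra hcon
        push Not at hcon
        have h1 : C = ⊤ := by
          rw [← hCC, eq_top_iff]
          intro x _
          rw [mem_centralizer_iff]
          intro y _
          exact hcon y x
        rw [h1, index_top] at hCi
        omega
      obtain ⟨a, b, ha, hb, hcases⟩ := Cfsg.Agent.S0646.result n hn3 hn' C hC hCi hna
      have habel : Nat.card (Abelianization G) = 4 ∧ ∀ x : Abelianization G, x ^ 2 = 1 := by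
        rcases hcases with ⟨hb2, h⟩ | ⟨hb2, h⟩ | ⟨h4, hb2, h⟩ | ⟨h4, hb2, h⟩
        · exact abel_four hn3 hn' ha hb (u := -1) (by omega) (by rw [h]; group) (by rw [hb2]; exact one_mem _)
        · refine abel_four hn3 hn' ha hb (u := -1) (by omega) (by rw [h]; group) ?_
          rw [hb2]
          refine ⟨((2 ^ (n - 3) : ℕ) : ℤ), ?_⟩
          change (a ^ 2) ^ ((2 ^ (n - 3) : ℕ) : ℤ) = _
          rw [zpow_natCast, ← pow_mul, ← pow_succ']
          congr 2; omega
        · exfalso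
          have hi : (zpowers a).index = 2 := by
            have h1 := Subgroup.card_mul_index (zpowers a)
            rw [Nat.card_zpowers, ha, hn'] at h1
            have h2 : (2 : ℕ) ^ n = 2 ^ (n - 1) * 2 := by rw [← pow_succ]; congr 1; omega
            rw [h2] at h1
            exact Nat.eq_of_mul_eq_mul_left (by positivity) h1
          exact modular_false hn ⊤ inferInstance h4 ha trivial trivial hb hb2 h (fun x _ => mem_or_of_index_two hi hb x)
        · refine abel_four hn3 hn' ha hb (u := 2 ^ (n - 3) - 1) ?_ ?_ (by rw [hb2]; exact one_mem _)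
          · intro h1
            have h2 : (2 : ℤ) ∣ 2 ^ (n - 3) := dvd_pow_self 2 (by omega)
            have h3 := (dvd_sub_right h2).1 h1
            omega
          · rw [h, ← zpow_natCast]
            congr 1
            rw [Nat.cast_sub Nat.one_le_two_pow]
            push_cast
            have : (2 : ℤ) ^ (n - 2) = 2 * 2 ^ (n - 3) := by rw [← pow_succ']; congr 1; omega
            rw [this]; ring
      rcases Cfsg.Agent.S4399.result hG habel.1 habel.2 with h | h
      · omega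
      · exact h
  · left
    by_contra hnc
    obtain ⟨A, hAn, hAe, hAc⟩ := Cfsg.Agent.S0126.result hp2 hG hnc
    have hAcomm : IsMulCommutative A := hAe.1
    have h1 := hn A hAn hAcomm
    obtain ⟨g, hg⟩ := h1.exists_generator
    have h2 : orderOf g = p ^ 2 := by rw [← hAc]; exact orderOf_eq_card_of_forall_mem_zpowers hg
    have h3 : orderOf g ∣ p := orderOf_dvd_of_pow_eq_one (Subtype.ext (hAe.2 g g.2))
    rw [h2] at h3
    have h4 := Nat.le_of_dvd hp.out.pos h3
    have h5 := hp.out.one_lt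
    nlinarith

end Cfsg.Agent.H19.Rank1
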