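import Mathlib

/-! SL₂ over a finite field of odd order: involutions and elements of order four. -/

set_option autoImplicit false

namespace Cfsg.Agent.H19.SL2

open Matrix

/-- abstract version of the facts on `SL₂(q)` used below -/
structure Like (L : Type*) [Group L] (j : L) : Prop where
  jj : j * j = 1
  j1 : j ≠ 1
  inv : ∀ x : L, x * x = 1 → x = 1 ∨ x = j
  ex4 : ∃ w : L, w * w = j
  conj4 : ∀ u w : L, u * u = j → w * w = j → ∃ g : L, g * u * g⁻¹ = w
  cent4 : ∀ b : L, (∀ u : L, u * u = j → b * u = u * b) → b = 1 ∨ b = j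

theorem Like.central {L : Type*} [Group L] {j : L} (h : Like L j) (g : L) : g * j = j * g := by
  have h1 : (g * j * g⁻¹) * (g * j * g⁻¹) = 1 := by
    calc (g * j * g⁻¹) * (g * j * g⁻¹) = g * (j * j) * g⁻¹ := by group
      _ = 1 := by rw [h.jj]; group
  rcases h.inv _ h1 with h2 | h2
  · exfalso; apply h.j1
    calc j = g⁻¹ * (g * j * g⁻¹) * g := by group
      _ = 1 := by rw [h2]; group
  · calc g * j = (g * j * g⁻¹) * g := by group
      _ = j * g := by rw [h2]

theorem Like.of_equiv {L M : Type*} [Group L] [Group M] {j : L} (h : Like L j) (e : L ≃* M) : Like M (e j) where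
  jj := by rw [← map_mul, h.jj, map_one]
  j1 := fun h1 => h.j1 ((map_eq_one_iff e e.injective).1 h1)
  inv := by
    intro x hx
    obtain ⟨y, rfl⟩ := e.surjective x
    rw [← map_mul, map_eq_one_iff e e.injective] at hx
    rcases h.inv y hx with h1 | h1
    · left; rw [h1, map_one]
    · right; rw [h1]
  ex4 := by
    obtain ⟨w, hw⟩ := h.ex4
    exact ⟨e w, by rw [← map_mul, hw]⟩
  conj4 := by
    intro u w hu hw
    obtain ⟨u, rfl⟩ := e.surjective u
    obtain ⟨w, rfl⟩ := e.surjective w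
    rw [← map_mul] at hu hw
    obtain ⟨g, hg⟩ := h.conj4 u w (e.injective hu) (e.injective hw)
    exact ⟨e g, by rw [← hg, map_mul, map_mul, map_inv]⟩
  cent4 := by
    intro b hb
    obtain ⟨b, rfl⟩ := e.surjective b
    rcases h.cent4 b (by
      intro u hu
      have := hb (e u) (by rw [← map_mul, hu])
      rw [← map_mul, ← map_mul] at this
      exact e.injective this) with h1 | h1
    · left; rw [h1, map_one]
    · right; rw [h1]

variable {F : Type*} [Field F] [Fintype F]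

omit [Fintype F] in
theorem ext_iff' {A B : SpecialLinearGroup (Fin 2) F} :
    A = B ↔ A 0 0 = B 0 0 ∧ A 0 1 = B 0 1 ∧ A 1 0 = B 1 0 ∧ A 1 1 = B 1 1 := by
  constructor
  · rintro rfl; exact ⟨rfl, rfl, rfl, rfl⟩
  · rintro ⟨h1, h2, h3, h4⟩
    ext i j
    fin_cases i <;> fin_cases j <;> assumption

omit [Fintype F] in
theorem det_eq (A : SpecialLinearGroup (Fin 2) F) : A 0 0 * A 1 1 - A 0 1 * A 1 0 = 1 := by
  have := A.2
  rw [det_fin_two] at this
  exact this

omit [Fintype F] in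
theorem mul00 (A B : SpecialLinearGroup (Fin 2) F) : (A * B) 0 0 = A 0 0 * B 0 0 + A 0 1 * B 1 0 := by
  show ((A : Matrix (Fin 2) (Fin 2) F) * B) 0 0 = _
  rw [Matrix.mul_apply, Fin.sum_univ_two]
omit [Fintype F] in
theorem mul01 (A B : SpecialLinearGroup (Fin 2) F) : (A * B) 0 1 = A 0 0 * B 0 1 + A 0 1 * B 1 1 := by
  show ((A : Matrix (Fin 2) (Fin 2) F) * B) 0 1 = _
  rw [Matrix.mul_apply, Fin.sum_univ_two]
omit [Fintype F] in
theorem mul10 (A B : SpecialLinearGroup (Fin 2) F) : (A * B) 1 0 = A 1 0 * B 0 0 + A 1 1 * B 1 0 := by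
  show ((A : Matrix (Fin 2) (Fin 2) F) * B) 1 0 = _
  rw [Matrix.mul_apply, Fin.sum_univ_two]
omit [Fintype F] in
theorem mul11 (A B : SpecialLinearGroup (Fin 2) F) : (A * B) 1 1 = A 1 0 * B 0 1 + A 1 1 * B 1 1 := by
  show ((A : Matrix (Fin 2) (Fin 2) F) * B) 1 1 = _
  rw [Matrix.mul_apply, Fin.sum_univ_two]

omit [Fintype F] in
theorem neg_ap (A : SpecialLinearGroup (Fin 2) F) (i k : Fin 2) : (-A) i k = - (A i k) := rfl

def mk2 (a b c d : F) (h : a * d - b * c = 1) : SpecialLinearGroup (Fin 2) F :=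
  ⟨!![a, b; c, d], by rw [det_fin_two_of]; exact h⟩

omit [Fintype F] in
theorem one_ap00 : (1 : SpecialLinearGroup (Fin 2) F) 0 0 = 1 := rfl

omit [Fintype F] in
/-- `A² = -1` means trace zero. -/
theorem trace_zero (h2 : (2 : F) ≠ 0) {A : SpecialLinearGroup (Fin 2) F} (hA : A * A = -1) :
    A 1 1 = - A 0 0 ∧ A 0 0 * A 0 0 + A 0 1 * A 1 0 = -1 := by
  rw [ext_iff', mul00, mul01, mul10, mul11] at hA
  obtain ⟨h00, h01, h10, h11⟩ := hA
  have e0 : (-1 : SpecialLinearGroup (Fin 2) F) 0 0 = -1 := rfl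
  have e1 : (-1 : SpecialLinearGroup (Fin 2) F) 0 1 = 0 := by show -(0 : F) = 0; simp
  have e2 : (-1 : SpecialLinearGroup (Fin 2) F) 1 0 = 0 := by show -(0 : F) = 0; simp
  have e3 : (-1 : SpecialLinearGroup (Fin 2) F) 1 1 = -1 := rfl
  rw [e0] at h00; rw [e1] at h01; rw [e2] at h10; rw [e3] at h11
  have hd := det_eq A
  -- (a + d) b = 0 etc; a^2 + bc = -1, d^2 + bc = -1, ad - bc = 1
  have h3 : (A 0 0 + A 1 1) * (A 0 0 + A 1 1) = 0 := by linear_combination h00 + h11 + 2 * hd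
  have h4 : A 0 0 + A 1 1 = 0 := mul_self_eq_zero.1 h3
  exact ⟨by linear_combination h4, h00⟩


theorem two_ne_zero_of_odd (hF : Odd (Fintype.card F)) : (2 : F) ≠ 0 := by
  intro h
  have h2 : ringChar F = 2 := by
    have h3 : ringChar F ∣ 2 := (ringChar.spec F 2).1 (by exact_mod_cast h)
    rcases (Nat.dvd_prime Nat.prime_two).1 h3 with h4 | h4
    · exact absurd h4 (CharP.ringChar_ne_one (R := F))
    · exact h4
  have h5 := FiniteField.even_card_iff_char_two.1 h2
  rw [Nat.odd_iff] at hF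
  omega

omit [Fintype F] in
theorem mk2_ap (a b c d : F) (h : a * d - b * c = 1) :
    (mk2 a b c d h) 0 0 = a ∧ (mk2 a b c d h) 0 1 = b ∧ (mk2 a b c d h) 1 0 = c ∧ (mk2 a b c d h) 1 1 = d :=
  ⟨rfl, rfl, rfl, rfl⟩

/-- the standard element of order four -/
def w0 : SpecialLinearGroup (Fin 2) F := mk2 0 1 (-1) 0 (by ring)

def w2 : SpecialLinearGroup (Fin 2) F := mk2 (-1) 2 (-1) 1 (by ring)

omit [Fintype F] in
theorem neg_one_ap : (-1 : SpecialLinearGroup (Fin 2) F) 0 0 = -1 ∧ (-1 : SpecialLinearGroup (Fin 2) F) 0 1 = 0 ∧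
    (-1 : SpecialLinearGroup (Fin 2) F) 1 0 = 0 ∧ (-1 : SpecialLinearGroup (Fin 2) F) 1 1 = -1 := by
  refine ⟨rfl, ?_, ?_, rfl⟩
  · show -(0 : F) = 0; simp
  · show -(0 : F) = 0; simp

omit [Fintype F] in
theorem one_ap : (1 : SpecialLinearGroup (Fin 2) F) 0 0 = 1 ∧ (1 : SpecialLinearGroup (Fin 2) F) 0 1 = 0 ∧
    (1 : SpecialLinearGroup (Fin 2) F) 1 0 = 0 ∧ (1 : SpecialLinearGroup (Fin 2) F) 1 1 = 1 := ⟨rfl, rfl, rfl, rfl⟩

omit [Fintype F] in
theorem w0_sq : (w0 : SpecialLinearGroup (Fin 2) F) * w0 = -1 := by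
  rw [ext_iff', mul00, mul01, mul10, mul11]
  obtain ⟨h1, h2, h3, h4⟩ := neg_one_ap (F := F)
  rw [h1, h2, h3, h4]
  obtain ⟨e1, e2, e3, e4⟩ := mk2_ap (F := F) 0 1 (-1) 0 (by ring)
  show (mk2 (F := F) 0 1 (-1) 0 _) 0 0 * (mk2 (F := F) 0 1 (-1) 0 _) 0 0 + _ = _ ∧ _
  refine ⟨?_, ?_, ?_, ?_⟩ <;> simp [w0, e1, e2, e3, e4]

omit [Fintype F] in
theorem w2_sq : (w2 : SpecialLinearGroup (Fin 2) F) * w2 = -1 := by
  rw [ext_iff', mul00, mul01, mul10, mul11]
  obtain ⟨h1, h2, h3, h4⟩ := neg_one_ap (F := F)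
  rw [h1, h2, h3, h4]
  obtain ⟨e1, e2, e3, e4⟩ := mk2_ap (F := F) (-1) 2 (-1) 1 (by ring)
  refine ⟨?_, ?_, ?_, ?_⟩ <;> simp only [w2, e1, e2, e3, e4] <;> ring

theorem exists_rep (hF : Odd (Fintype.card F)) {a b c : F} (h : a * a + b * c = -1) :
    ∃ p r : F, -c * p ^ 2 + 2 * a * p * r + b * r ^ 2 = 1 := by
  have h2 := two_ne_zero_of_odd hF
  by_cases hc : c = 0
  · subst hc
    have ha : a ≠ 0 := by
      rintro rfl
      simp at h
    refine ⟨(1 - b) / (2 * a), 1, ?_⟩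
    field_simp
    ring
  · classical
    have h3 := FiniteField.exists_root_sum_quadratic (R := F)
      (f := Polynomial.C (-c) * Polynomial.X ^ 2 + Polynomial.C 0 * Polynomial.X + Polynomial.C (-1))
      (g := Polynomial.C (-c⁻¹) * Polynomial.X ^ 2 + Polynomial.C 0 * Polynomial.X + Polynomial.C 0)
      (Polynomial.degree_quadratic (neg_ne_zero.2 hc)) (Polynomial.degree_quadratic (neg_ne_zero.2 (inv_ne_zero hc)))
      (Nat.odd_iff.1 hF)
    obtain ⟨x, r, hxr⟩ := h3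
    simp only [Polynomial.eval_add, Polynomial.eval_mul, Polynomial.eval_C, Polynomial.eval_pow, Polynomial.eval_X] at hxr
    refine ⟨x + a / c * r, r, ?_⟩
    have hb : b = (-1 - a * a) / c := by field_simp; linear_combination h
    rw [hb]
    field_simp
    field_simp at hxr
    linear_combination hxr

theorem conj_w0 (hF : Odd (Fintype.card F)) {u : SpecialLinearGroup (Fin 2) F} (hu : u * u = -1) :
    ∃ g : SpecialLinearGroup (Fin 2) F, g * u * g⁻¹ = w0 := by
  have h2 := two_ne_zero_of_odd hF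
  obtain ⟨h11, hq⟩ := trace_zero h2 hu
  obtain ⟨p, r, hpr⟩ := exists_rep hF hq
  set a := u 0 0
  set b := u 0 1
  set c := u 1 0
  have hdet : p * (a * r - c * p) - (-(a * p + b * r)) * r = 1 := by linear_combination hpr
  refine ⟨(mk2 p (-(a * p + b * r)) r (a * r - c * p) hdet)⁻¹, ?_⟩
  rw [inv_inv, mul_assoc, inv_mul_eq_iff_eq_mul]
  obtain ⟨e1, e2, e3, e4⟩ := mk2_ap p (-(a * p + b * r)) r (a * r - c * p) hdet
  obtain ⟨f1, f2, f3, f4⟩ := mk2_ap (F := F) 0 1 (-1) 0 (by ring)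
  rw [ext_iff', mul00, mul01, mul10, mul11, mul00, mul01, mul10, mul11, e1, e2, e3, e4, h11]
  simp only [w0, f1, f2, f3, f4]
  refine ⟨?_, ?_, ?_, ?_⟩
  · ring
  · linear_combination -p * hq
  · ring
  · linear_combination -r * hq

theorem like (hF : Odd (Fintype.card F)) : Like (SpecialLinearGroup (Fin 2) F) (-1) where
  jj := by simp
  j1 := by
    intro h
    have h1 := (ext_iff'.1 h).1
    rw [neg_one_ap.1, one_ap.1] at h1
    exact two_ne_zero_of_odd hF (by linear_combination -h1)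
  inv := by
    intro A hA
    rw [ext_iff', mul00, mul01, mul10, mul11] at hA
    obtain ⟨e0, e1, e2, e3⟩ := one_ap (F := F)
    rw [e0, e1, e2, e3] at hA
    obtain ⟨h00, h01, h10, h11⟩ := hA
    have hd := det_eq A
    have h4 : (A 0 0 + A 1 1) * (A 0 0 + A 1 1) = 2 * 2 := by linear_combination h00 + h11 + 2 * hd
    have h2 := two_ne_zero_of_odd hF
    have h5 : A 0 0 + A 1 1 ≠ 0 := by
      intro h5
      rw [h5] at h4
      exact h2 (mul_self_eq_zero.1 (by rw [← h4]; ring))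
    have hb : A 0 1 = 0 := by
      have : A 0 1 * (A 0 0 + A 1 1) = 0 := by linear_combination h01
      exact (mul_eq_zero.1 this).resolve_right h5
    have hc : A 1 0 = 0 := by
      have : A 1 0 * (A 0 0 + A 1 1) = 0 := by linear_combination h10
      exact (mul_eq_zero.1 this).resolve_right h5
    rw [hb] at h00 hd
    have h6 : (A 0 0 - 1) * (A 0 0 + 1) = 0 := by linear_combination h00
    rcases mul_eq_zero.1 h6 with h7 | h7
    · left
      have h8 : A 0 0 = 1 := by linear_combination h7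
      have h9 : A 1 1 = 1 := by rw [h8] at hd; linear_combination hd
      rw [ext_iff', e0, e1, e2, e3]
      exact ⟨h8, hb, hc, h9⟩
    · right
      have h8 : A 0 0 = -1 := by linear_combination h7
      have h9 : A 1 1 = -1 := by rw [h8] at hd; linear_combination -hd
      obtain ⟨f0, f1, f2, f3⟩ := neg_one_ap (F := F)
      rw [ext_iff', f0, f1, f2, f3]
      exact ⟨h8, hb, hc, h9⟩
  ex4 := ⟨w0, w0_sq⟩
  conj4 := by
    intro u w hu hw
    obtain ⟨g, hg⟩ := conj_w0 hF hu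
    obtain ⟨k, hk⟩ := conj_w0 hF hw
    refine ⟨k⁻¹ * g, ?_⟩
    calc k⁻¹ * g * u * (k⁻¹ * g)⁻¹ = k⁻¹ * (g * u * g⁻¹) * k := by group
      _ = k⁻¹ * (k * w * k⁻¹) * k := by rw [hg, hk]
      _ = w := by group
  cent4 := by
    intro B hB
    have h1 := hB w0 w0_sq
    have h2 := hB w2 w2_sq
    have hd := det_eq B
    obtain ⟨f1, f2, f3, f4⟩ := mk2_ap (F := F) 0 1 (-1) 0 (by ring)
    obtain ⟨g1, g2, g3, g4⟩ := mk2_ap (F := F) (-1) 2 (-1) 1 (by ring)
    rw [ext_iff', mul00, mul01, mul10, mul11, mul00, mul01, mul10, mul11] at h1 h2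
    simp only [w0, f1, f2, f3, f4] at h1
    simp only [w2, g1, g2, g3, g4] at h2
    obtain ⟨a1, a2, a3, a4⟩ := h1
    obtain ⟨b1, b2, b3, b4⟩ := h2
    have e1 : B 1 0 = - B 0 1 := by linear_combination -a1
    have e2 : B 1 1 = B 0 0 := by linear_combination -a2
    have e3 : B 0 1 = 0 := by
      rw [e1] at b1
      linear_combination b1
    rw [e3, neg_zero] at e1
    rw [e2, e1] at hd
    have h6 : (B 0 0 - 1) * (B 0 0 + 1) = 0 := by linear_combination hd
    rcases mul_eq_zero.1 h6 with h7 | h7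
    · left
      have h8 : B 0 0 = 1 := by linear_combination h7
      obtain ⟨k0, k1, k2, k3⟩ := one_ap (F := F)
      rw [ext_iff', k0, k1, k2, k3]
      exact ⟨h8, e3, e1, by rw [e2, h8]⟩
    · right
      have h8 : B 0 0 = -1 := by linear_combination h7
      obtain ⟨k0, k1, k2, k3⟩ := neg_one_ap (F := F)
      rw [ext_iff', k0, k1, k2, k3]
      exact ⟨h8, e3, e1, by rw [e2, h8]⟩

end Cfsg.Agent.H19.SL2
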