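import Mathlib
import Cfsg.Agent.H19_SL2
import Cfsg.Agent.H13_Syl

/-! Central products of two copies of `SL₂(q)`, `q` odd. -/

set_option autoImplicit false

namespace Cfsg.Agent.H19.SL2b

open Subgroup

variable {G : Type*} [Group G]

/-- elementwise version of `Like` for a subgroup -/
structure LikeIn (L : Subgroup G) (j : G) : Prop where
  jL : j ∈ L
  jj : j * j = 1
  j1 : j ≠ 1
  inv : ∀ x ∈ L, x * x = 1 → x = 1 ∨ x = j
  ex4 : ∃ w ∈ L, w * w = j
  conj4 : ∀ u ∈ L, ∀ w ∈ L, u * u = j → w * w = j → ∃ g ∈ L, g * u * g⁻¹ = w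
  cent4 : ∀ b ∈ L, (∀ u ∈ L, u * u = j → b * u = u * b) → b = 1 ∨ b = j
  cj : ∀ g ∈ L, g * j = j * g

theorem likeIn {F : Type*} [Field F] [Fintype F] (hF : Odd (Fintype.card F)) (L : Subgroup G)
    (e : L ≃* Matrix.SpecialLinearGroup (Fin 2) F) {j : G} (hj : orderOf j = 2) (hjL : j ∈ L) : LikeIn L j := by
  have h := (SL2.like hF).of_equiv e.symm
  have hjj : j * j = 1 := by rw [← sq, ← hj]; exact pow_orderOf_eq_one j
  have hj1 : j ≠ 1 := by rintro rfl; rw [orderOf_one] at hj; omega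
  have hjeq : e.symm (-1) = ⟨j, hjL⟩ := by
    rcases h.inv ⟨j, hjL⟩ (Subtype.ext hjj) with h1 | h1
    · exact absurd (congrArg Subtype.val h1) hj1
    · exact h1.symm
  rw [hjeq] at h
  refine ⟨hjL, hjj, hj1, ?_, ?_, ?_, ?_, ?_⟩
  · intro x hx hxx
    rcases h.inv ⟨x, hx⟩ (Subtype.ext hxx) with h1 | h1
    · exact Or.inl (congrArg Subtype.val h1)
    · exact Or.inr (congrArg Subtype.val h1)
  · obtain ⟨w, hw⟩ := h.ex4
    exact ⟨w, w.2, congrArg Subtype.val hw⟩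
  · intro u hu w hw huu hww
    obtain ⟨g, hg⟩ := h.conj4 ⟨u, hu⟩ ⟨w, hw⟩ (Subtype.ext huu) (Subtype.ext hww)
    exact ⟨g, g.2, congrArg Subtype.val hg⟩
  · intro b hb hcomm
    rcases h.cent4 ⟨b, hb⟩ (fun u hu => Subtype.ext (hcomm u u.2 (congrArg Subtype.val hu))) with h1 | h1
    · exact Or.inl (congrArg Subtype.val h1)
    · exact Or.inr (congrArg Subtype.val h1)
  · intro g hg
    exact congrArg Subtype.val (h.central ⟨g, hg⟩)

/-- two commuting subgroups with intersection `{1, j}` -/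
structure Pair (L₁ L₂ : Subgroup G) (j : G) : Prop where
  l1 : LikeIn L₁ j
  l2 : LikeIn L₂ j
  comm : ∀ x ∈ L₁, ∀ y ∈ L₂, x * y = y * x
  inf : ∀ x, x ∈ L₁ → x ∈ L₂ → x = 1 ∨ x = j

theorem Pair.symm {L₁ L₂ : Subgroup G} {j : G} (h : Pair L₁ L₂ j) : Pair L₂ L₁ j :=
  ⟨h.l2, h.l1, fun x hx y hy => (h.comm y hy x hx).symm, fun x hx hy => h.inf x hy hx⟩

variable {L₁ L₂ : Subgroup G} {j : G} (h : Pair L₁ L₂ j)
include h

theorem Pair.mem_sup {x : G} : x ∈ L₁ ⊔ L₂ ↔ ∃ a ∈ L₁, ∃ b ∈ L₂, x = a * b := by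
  constructor
  · intro hx
    let S : Subgroup G :=
      { carrier := {u | ∃ a ∈ L₁, ∃ b ∈ L₂, u = a * b}
        one_mem' := ⟨1, one_mem _, 1, one_mem _, by simp⟩
        mul_mem' := by
          rintro _ _ ⟨a, ha, b, hb, rfl⟩ ⟨c, hc, d, hd, rfl⟩
          refine ⟨a * c, mul_mem ha hc, b * d, mul_mem hb hd, ?_⟩
          calc a * b * (c * d) = a * (b * c) * d := by group
            _ = a * (c * b) * d := by rw [h.comm c hc b hb]
            _ = _ := by group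
        inv_mem' := by
          rintro _ ⟨a, ha, b, hb, rfl⟩
          refine ⟨a⁻¹, inv_mem ha, b⁻¹, inv_mem hb, ?_⟩
          rw [mul_inv_rev, h.comm _ (inv_mem ha) _ (inv_mem hb)] }
    have hle : L₁ ⊔ L₂ ≤ S := by
      apply sup_le
      · intro a ha; exact ⟨a, ha, 1, one_mem _, by simp⟩
      · intro b hb; exact ⟨1, one_mem _, b, hb, by simp⟩
    exact hle hx
  · rintro ⟨a, ha, b, hb, rfl⟩
    exact mul_mem (mem_sup_left ha) (mem_sup_right hb)

theorem Pair.sq_mul {a b : G} (ha : a ∈ L₁) (hb : b ∈ L₂) : (a * b) * (a * b) = (a * a) * (b * b) := by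
  calc (a * b) * (a * b) = a * (b * a) * b := by group
    _ = a * (a * b) * b := by rw [h.comm a ha b hb]
    _ = _ := by group

/-- involutions of `L₁L₂` -/
theorem Pair.invol {y : G} (hy : y ∈ L₁ ⊔ L₂) (hyy : y * y = 1) :
    y = 1 ∨ y = j ∨ ∃ a ∈ L₁, ∃ b ∈ L₂, a * a = j ∧ b * b = j ∧ y = a * b := by
  obtain ⟨a, ha, b, hb, rfl⟩ := h.mem_sup.1 hy
  rw [h.sq_mul ha hb] at hyy
  have h1 : a * a = (b * b)⁻¹ := eq_inv_of_mul_eq_one_left hyy
  have h2 := h.inf (a * a) (mul_mem ha ha) (by rw [h1]; exact inv_mem (mul_mem hb hb))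
  rcases h2 with h2 | h2
  · rw [h2, one_mul] at hyy
    rcases h.l1.inv a ha h2 with h3 | h3 <;> rcases h.l2.inv b hb hyy with h4 | h4
    · left; rw [h3, h4, one_mul]
    · right; left; rw [h3, h4, one_mul]
    · right; left; rw [h3, h4, mul_one]
    · left; rw [h3, h4, h.l1.jj]
  · right; right
    refine ⟨a, ha, b, hb, h2, ?_, rfl⟩
    rw [h2] at hyy
    calc b * b = j⁻¹ * (j * (b * b)) := by group
      _ = j⁻¹ := by rw [hyy, mul_one]
      _ = j := inv_eq_of_mul_eq_one_left h.l1.jj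

/-- square roots of `j` in `L₁L₂` lie in `L₁` or `L₂` -/
theorem Pair.four {y : G} (hy : y ∈ L₁ ⊔ L₂) (hyy : y * y = j) : y ∈ L₁ ∨ y ∈ L₂ := by
  obtain ⟨a, ha, b, hb, rfl⟩ := h.mem_sup.1 hy
  rw [h.sq_mul ha hb] at hyy
  have h1 : a * a = j * (b * b)⁻¹ := by rw [← hyy]; group
  have h2 := h.inf (a * a) (mul_mem ha ha) (by rw [h1]; exact mul_mem h.l2.jL (inv_mem (mul_mem hb hb)))
  rcases h2 with h2 | h2
  · right
    have h3 : a ∈ L₂ := by
      rcases h.l1.inv a ha h2 with h3 | h3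
      · rw [h3]; exact one_mem _
      · rw [h3]; exact h.l2.jL
    exact mul_mem h3 hb
  · left
    rw [h2] at hyy
    have h3 : b * b = 1 := mul_eq_left.1 hyy
    have h4 : b ∈ L₁ := by
      rcases h.l2.inv b hb h3 with h3 | h3
      · rw [h3]; exact one_mem _
      · rw [h3]; exact h.l1.jL
    exact mul_mem ha h4

/-- `L₁` is the centralizer in `L₁L₂` of the elements of order four of `L₂` -/
theorem Pair.mem_left_iff {y : G} (hy : y ∈ L₁ ⊔ L₂) : y ∈ L₁ ↔ ∀ u ∈ L₂, u * u = j → y * u = u * y := by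
  constructor
  · intro h1 u hu _; exact h.comm y h1 u hu
  · intro h1
    obtain ⟨a, ha, b, hb, rfl⟩ := h.mem_sup.1 hy
    have h2 := h.l2.cent4 b hb (by
      intro u hu huu
      have h3 := h1 u hu huu
      have h4 : a * (b * u) = a * (u * b) := by
        calc a * (b * u) = a * b * u := by group
          _ = u * (a * b) := h3
          _ = (u * a) * b := by group
          _ = (a * u) * b := by rw [h.comm a ha u hu]
          _ = a * (u * b) := by group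
      exact mul_left_cancel h4)
    have h3 : b ∈ L₁ := by
      rcases h2 with h3 | h3
      · rw [h3]; exact one_mem _
      · rw [h3]; exact h.l1.jL
    exact mul_mem ha h3


theorem Pair.normal_right {g u : G} (hg : g ∈ L₁ ⊔ L₂) (hu : u ∈ L₂) : g * u * g⁻¹ ∈ L₂ := by
  obtain ⟨a, ha, b, hb, rfl⟩ := h.mem_sup.1 hg
  have h1 : b * u * b⁻¹ ∈ L₂ := mul_mem (mul_mem hb hu) (inv_mem hb)
  have e : a * b * u * (a * b)⁻¹ = b * u * b⁻¹ := by
    calc a * b * u * (a * b)⁻¹ = (a * (b * u * b⁻¹)) * a⁻¹ := by group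
      _ = ((b * u * b⁻¹) * a) * a⁻¹ := by rw [h.comm a ha _ h1]
      _ = _ := by group
  rw [e]; exact h1

omit h in
/-- key lemma -/
theorem Pair.left_eq {L₁ L₂ M₁ M₂ : Subgroup G} {j : G} (h : Pair L₁ L₂ j) (k : Pair M₁ M₂ j)
    (hHM : L₁ ⊔ L₂ = M₁ ⊔ M₂) {u₀ : G} (hL : u₀ ∈ L₂) (hM : u₀ ∈ M₂) (hu₀ : u₀ * u₀ = j) : L₁ = M₁ := by
  have h4 : ∀ u : G, u * u = j → (u ∈ L₂ ↔ u ∈ M₂) := by
    intro u hu
    constructor
    · intro h1
      obtain ⟨g, hg, rfl⟩ := h.l2.conj4 u₀ hL u h1 hu₀ hu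
      exact k.normal_right (by rw [← hHM]; exact mem_sup_right hg) hM
    · intro h1
      obtain ⟨g, hg, rfl⟩ := k.l2.conj4 u₀ hM u h1 hu₀ hu
      exact h.normal_right (by rw [hHM]; exact mem_sup_right hg) hL
  ext y
  constructor
  · intro hy
    have hyH : y ∈ L₁ ⊔ L₂ := mem_sup_left hy
    rw [k.mem_left_iff (by rw [← hHM]; exact hyH)]
    intro u hu huu
    exact h.comm y hy u ((h4 u huu).2 hu)
  · intro hy
    have hyH : y ∈ M₁ ⊔ M₂ := mem_sup_left hy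
    rw [h.mem_left_iff (by rw [hHM]; exact hyH)]
    intro u hu huu
    exact k.comm y hy u ((h4 u huu).1 hu)

omit h in
theorem Pair.eq_or_swap {L₁ L₂ M₁ M₂ : Subgroup G} {j : G} (h : Pair L₁ L₂ j) (k : Pair M₁ M₂ j)
    (hHM : L₁ ⊔ L₂ = M₁ ⊔ M₂) : (M₁ = L₁ ∧ M₂ = L₂) ∨ (M₁ = L₂ ∧ M₂ = L₁) := by
  obtain ⟨u, hu, huu⟩ := h.l2.ex4
  obtain ⟨v, hv, hvv⟩ := h.l1.ex4
  rcases k.four (by rw [← hHM]; exact mem_sup_right hu) huu with h1 | h1
  · right
    have e1 : L₁ = M₂ := h.left_eq k.symm (by rw [hHM, sup_comm]) hu h1 huu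
    have e2 : L₂ = M₁ := h.symm.left_eq k (by rw [sup_comm, hHM]) hv (e1 ▸ hv) hvv
    exact ⟨e2.symm, e1.symm⟩
  · left
    have e1 : L₁ = M₁ := h.left_eq k hHM hu h1 huu
    have e2 : L₂ = M₂ := h.symm.left_eq k.symm (by rw [sup_comm, hHM, sup_comm]) hv (e1 ▸ hv) hvv
    exact ⟨e1.symm, e2.symm⟩

omit h in
theorem LikeIn.conj {L : Subgroup G} {j : G} (h : LikeIn L j) {n : G} (hn : n * j * n⁻¹ = j) :
    LikeIn (L.map (MulAut.conj n).toMonoidHom) j := by
  have key : ∀ x, x ∈ L.map (MulAut.conj n).toMonoidHom ↔ n⁻¹ * x * n ∈ L := fun x => H13.Syl.mem_cj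
  have hn' : n⁻¹ * j * n = j := by
    calc n⁻¹ * j * n = n⁻¹ * (n * j * n⁻¹) * n := by rw [hn]
      _ = j := by group
  have hsq : ∀ x : G, (n⁻¹ * x * n) * (n⁻¹ * x * n) = n⁻¹ * (x * x) * n := by intro x; group
  refine ⟨?_, h.jj, h.j1, ?_, ?_, ?_, ?_, ?_⟩
  · rw [key, hn']; exact h.jL
  · intro x hx hxx
    rw [key] at hx
    rcases h.inv _ hx (by rw [hsq, hxx]; group) with h1 | h1
    · left
      calc x = n * (n⁻¹ * x * n) * n⁻¹ := by group
        _ = 1 := by rw [h1]; group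
    · right
      calc x = n * (n⁻¹ * x * n) * n⁻¹ := by group
        _ = j := by rw [h1, hn]
  · obtain ⟨w, hw, hww⟩ := h.ex4
    refine ⟨n * w * n⁻¹, ?_, ?_⟩
    · rw [key]; have : n⁻¹ * (n * w * n⁻¹) * n = w := by group
      rw [this]; exact hw
    · calc n * w * n⁻¹ * (n * w * n⁻¹) = n * (w * w) * n⁻¹ := by group
        _ = j := by rw [hww, hn]
  · intro u hu w hw huu hww
    rw [key] at hu hw
    obtain ⟨g, hg, hgu⟩ := h.conj4 _ hu _ hw (by rw [hsq, huu, hn']) (by rw [hsq, hww, hn'])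
    refine ⟨n * g * n⁻¹, ?_, ?_⟩
    · rw [key]; have : n⁻¹ * (n * g * n⁻¹) * n = g := by group
      rw [this]; exact hg
    · calc n * g * n⁻¹ * u * (n * g * n⁻¹)⁻¹ = n * (g * (n⁻¹ * u * n) * g⁻¹) * n⁻¹ := by group
        _ = n * (n⁻¹ * w * n) * n⁻¹ := by rw [hgu]
        _ = w := by group
  · intro b hb hbc
    rw [key] at hb
    have h2 := h.cent4 _ hb (by
      intro u hu huu
      have h3 := hbc (n * u * n⁻¹) (by rw [key]; have : n⁻¹ * (n * u * n⁻¹) * n = u := by group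
                                       rw [this]; exact hu) (by
        calc n * u * n⁻¹ * (n * u * n⁻¹) = n * (u * u) * n⁻¹ := by group
          _ = j := by rw [huu, hn])
      calc n⁻¹ * b * n * u = n⁻¹ * (b * (n * u * n⁻¹)) * n := by group
        _ = n⁻¹ * ((n * u * n⁻¹) * b) * n := by rw [h3]
        _ = _ := by group)
    rcases h2 with h1 | h1
    · left
      calc b = n * (n⁻¹ * b * n) * n⁻¹ := by group
        _ = 1 := by rw [h1]; group
    · right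
      calc b = n * (n⁻¹ * b * n) * n⁻¹ := by group
        _ = j := by rw [h1, hn]
  · intro g hg
    rw [key] at hg
    have h1 := h.cj _ hg
    calc g * j = n * ((n⁻¹ * g * n) * (n⁻¹ * j * n)) * n⁻¹ := by group
      _ = n * ((n⁻¹ * g * n) * j) * n⁻¹ := by rw [hn']
      _ = n * (j * (n⁻¹ * g * n)) * n⁻¹ := by rw [h1]
      _ = (n * j * n⁻¹) * g := by group
      _ = j * g := by rw [hn]

theorem Pair.conj {n : G} (hn : n * j * n⁻¹ = j) :
    Pair (L₁.map (MulAut.conj n).toMonoidHom) (L₂.map (MulAut.conj n).toMonoidHom) j := by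
  refine ⟨h.l1.conj hn, h.l2.conj hn, ?_, ?_⟩
  · rintro _ ⟨x, hx, rfl⟩ _ ⟨y, hy, rfl⟩
    show n * x * n⁻¹ * (n * y * n⁻¹) = n * y * n⁻¹ * (n * x * n⁻¹)
    calc n * x * n⁻¹ * (n * y * n⁻¹) = n * (x * y) * n⁻¹ := by group
      _ = n * (y * x) * n⁻¹ := by rw [h.comm x hx y hy]
      _ = _ := by group
  · rintro _ ⟨x, hx, rfl⟩ ⟨y, hy, hxy⟩
    have hxy' : y = x := (MulAut.conj n).injective hxy
    subst hxy'
    rcases h.inf y hx hy with h1 | h1
    · left; rw [h1]; exact map_one _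
    · right; rw [h1]; exact hn

end Cfsg.Agent.H19.SL2b
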