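import Cfsg.Statements.S1484
import Cfsg.Agent.H12_CN7

set_option autoImplicit false
open Cfsg

namespace Cfsg.Agent.S1484

/-- Let G be a minimal simple group of odd order in which every non-identity element has nilpotent centralizer, and M₁, …, M_k maximal subgroups, pairwise non-conjugate, such that every maximal subgroup is conjugate to some M_i. Let H_i be the largest normal nilpotent Hall subgroup of M_i. Then the orders of the H_i are pairwise coprime, their product is the order of G, and every element of G is conjugate to an element of some H_i. -/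
theorem result {G : Type*} [Group G] [Finite G] (hG : Cfsg.IsMinSimpleOddOrder G) (hCN : Cfsg.IsCNGroup G) (k : ℕ) (Mrep : Fin k → Subgroup G) (hmax : ∀ i, IsCoatom (Mrep i))
    (hnc : ∀ i j, i ≠ j → ∀ g : G, Mrep j ≠ (Mrep i).map (MulAut.conj g).toMonoidHom) (hall : ∀ M : Subgroup G, IsCoatom M → ∃ i, ∃ g : G, M = (Mrep i).map (MulAut.conj g).toMonoidHom) :
    (∀ i j, i ≠ j → (Nat.card (Cfsg.fittingHallOf (Mrep i))).Coprime (Nat.card (Cfsg.fittingHallOf (Mrep j)))) ∧
      ∏ i, Nat.card (Cfsg.fittingHallOf (Mrep i)) = Nat.card G ∧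
      ∀ x : G, ∃ i, ∃ g : G, g * x * g⁻¹ ∈ Cfsg.fittingHallOf (Mrep i) := by
  have key : ∀ H : Subgroup G, H12.CN.MaxNil H → ∃ i, ∃ g : G, H = (fittingHallOf (Mrep i)).map (MulAut.conj g).toMonoidHom := by
    intro H hH
    obtain ⟨M, E, hM, hS⟩ := H12.CN.maxNil_eq hG hCN hH
    obtain ⟨i, g, hg⟩ := hall M hM
    refine ⟨i, g, ?_⟩
    have h1 := H12.Core.conj_fittingHallOf (Mrep i) g
    rw [hS.F_eq, hg]
    exact h1.symm
  have hMN : ∀ i, H12.CN.MaxNil (fittingHallOf (Mrep i)) ∧ Subgroup.normalizer ((fittingHallOf (Mrep i) : Subgroup G) : Set G) = Mrep i := by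
    intro i
    obtain ⟨F, E, hS⟩ := H12.CN.exists_maxS hG hCN (hmax i)
    have h1 := hS.F_eq
    subst h1
    exact ⟨hS.maxNil hG (hmax i), hS.normalizer_eq hG (hmax i)⟩
  have hcop : ∀ i j, i ≠ j → (Nat.card (Cfsg.fittingHallOf (Mrep i))).Coprime (Nat.card (Cfsg.fittingHallOf (Mrep j))) := by
    intro i j hij
    rcases H12.CN.maxNil_conj_or_coprime hG hCN (hMN i).1 (hMN j).1 with ⟨g, hg⟩ | h
    · exfalso
      apply hnc i j hij g
      rw [← (hMN j).2, hg, ← H13.Syl.cj_normalizer, (hMN i).2]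
    · exact h
  refine ⟨hcop, ?_, ?_⟩
  · apply Nat.dvd_antisymm
    · apply Finset.prod_dvd_of_isRelPrime
      · intro i _ j _ hij
        exact Nat.coprime_iff_isRelPrime.1 (hcop i j hij)
      · intro i _
        exact Subgroup.card_subgroup_dvd_card _
    · rw [Nat.dvd_iff_prime_pow_dvd_dvd]
      intro p n hp hd
      have : Fact p.Prime := ⟨hp⟩
      obtain ⟨P, hP⟩ := Sylow.exists_subgroup_card_pow_prime p hd
      have hPn : Group.IsNilpotent P := (IsPGroup.of_card hP).isNilpotent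
      obtain ⟨H, hH, hPH⟩ := H12.CN.exists_maxNil_ge P hPn
      obtain ⟨i, g, hg⟩ := key H hH
      have h1 : p ^ n ∣ Nat.card (fittingHallOf (Mrep i)) := by
        rw [← hP, ← H13.Syl.card_cj g (fittingHallOf (Mrep i))]
        refine Subgroup.card_dvd_of_le ?_
        rw [hg] at hPH
        exact hPH
      exact h1.trans (Finset.dvd_prod_of_mem (fun i => Nat.card (fittingHallOf (Mrep i))) (Finset.mem_univ i))
  · intro x
    obtain ⟨H, hH, hxH⟩ := H12.CN.exists_maxNil_ge (Subgroup.zpowers x) (H12.CN.zpowers_nilpotent x)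
    obtain ⟨i, g, hg⟩ := key H hH
    refine ⟨i, g⁻¹, ?_⟩
    have h1 : x ∈ (fittingHallOf (Mrep i)).map (MulAut.conj g).toMonoidHom := hg ▸ hxH (Subgroup.mem_zpowers x)
    rw [inv_inv]
    exact H13.Syl.mem_cj.1 h1

end Cfsg.Agent.S1484
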