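import Mathlib
import Cfsg.Prelude.Def_OddOrderLocal
import Cfsg.Agent.H12_CN7
import Cfsg.Agent.S1484

/-!
# Odd CN-groups: reduction to a family of coprime Frobenius kernels
-/

set_option autoImplicit false

namespace Cfsg.Agent.H3.CNr

open Cfsg Subgroup

universe u

/-- an odd order CN-group is solvable if no minimal simple group of odd order is a CN-group -/
theorem reduce (core : ∀ (X : Type u) [Group X] [Finite X], IsMinSimpleOddOrder X → IsCNGroup X → False) (n : ℕ) :
    ∀ (G : Type u) [Group G] [Finite G], Nat.card G = n → Odd (Nat.card G) → IsCNGroup G → Group.IsSolvable G := by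
  induction n using Nat.strong_induction_on with
  | _ n ih =>
    intro G _ _ hn hodd hCN
    by_cases h : ∃ N : Subgroup G, N.Normal ∧ N ≠ ⊥ ∧ N ≠ ⊤
    · obtain ⟨N, hN, hNb, hNt⟩ := h
      have hc := N.card_mul_index
      have h1 : Nat.card N < n := by
        rw [← hn]
        exact lt_of_le_of_ne (Nat.le_of_dvd Nat.card_pos (card_subgroup_dvd_card N)) (fun h => hNt (Subgroup.card_eq_iff_eq_top N |>.mp h))
      have hNs : Group.IsSolvable N := ih _ h1 N rfl (hodd.of_dvd_nat (card_subgroup_dvd_card N)) (H12.CN.cn_subgroup hCN N)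
      have h2 : Nat.card (G ⧸ N) < n := by
        rw [← hn, ← hc]
        have h3 : Nat.card (G ⧸ N) = N.index := rfl
        have h4 : 1 < Nat.card N := by
          have := Subgroup.one_lt_card_iff_ne_bot N
          exact this.mpr hNb
        have h5 : 0 < N.index := Nat.pos_of_ne_zero N.index_ne_zero_of_finite
        rw [h3]; nlinarith
      have hQs : Group.IsSolvable (G ⧸ N) := ih _ h2 (G ⧸ N) rfl (hodd.of_dvd_nat ⟨_, by rw [← hc, mul_comm]; rfl⟩) (H12.CN.cn_quotient hCN N hNs)
      exact Group.isSolvable_of_ker_le_range N.subtype (QuotientGroup.mk' N) (by rw [QuotientGroup.ker_mk', Subgroup.range_subtype])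
    · push Not at h
      by_cases hcm : IsMulCommutative G
      · let _ : CommGroup G := { (inferInstance : Group G) with mul_comm := fun a b => hcm.1.1 a b }
        exact Group.isSolvable_of_comm fun a b => mul_comm a b
      · exfalso
        have hnt : Nontrivial G := by
          by_contra hnt
          rw [not_nontrivial_iff_subsingleton] at hnt
          exact hcm ⟨⟨fun a b => Subsingleton.elim _ _⟩⟩
        have hsimple : IsSimpleGroup G := ⟨fun N hN => by
          by_cases hNb : N = ⊥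
          · exact Or.inl hNb
          · exact Or.inr (h N hN hNb)⟩
        refine core G ⟨hodd, hsimple, hcm, fun H hH => ?_⟩ hCN
        have h1 : Nat.card H < n := by
          rw [← hn]
          exact lt_of_le_of_ne (Nat.le_of_dvd Nat.card_pos (card_subgroup_dvd_card H)) (fun h => hH (Subgroup.card_eq_iff_eq_top H |>.mp h))
        exact ih _ h1 H rfl (hodd.of_dvd_nat (card_subgroup_dvd_card H)) (H12.CN.cn_subgroup hCN H)

/-- the family of Frobenius kernels -/
structure Fam {G : Type u} [Group G] {k : ℕ} (M F : Fin k → Subgroup G) : Prop where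
  two : 2 ≤ k
  lt : ∀ i, F i < M i
  ne_bot : ∀ i, F i ≠ ⊥
  norm : ∀ i, ∀ x ∈ M i, ∀ h ∈ F i, x * h * x⁻¹ ∈ F i
  frob : ∀ i, ∀ h ∈ F i, h ≠ 1 → M i ⊓ Subgroup.centralizer ({h} : Set G) ≤ F i
  cop : ∀ i j, i ≠ j → Nat.Coprime (Nat.card (F i)) (Nat.card (F j))
  ti : ∀ i, IsTISubset (F i : Set G)
  norm_eq : ∀ i, Subgroup.normalizer (F i : Set G) = M i
  cover : ∀ g : G, g ≠ 1 → ∃ i, ∃ x : G, x * g * x⁻¹ ∈ F i
  nil : ∀ i, Group.IsNilpotent (F i)
  der : ∀ i, ⁅M i, M i⁆ ≤ F i

theorem exists_fam {G : Type u} [Group G] [Finite G] (hG : IsMinSimpleOddOrder G) (hCN : IsCNGroup G) :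
    ∃ (k : ℕ) (M F : Fin k → Subgroup G), Fam M F := by
  classical
  have : Fintype (Subgroup G) := Fintype.ofFinite _
  -- representatives of the classes of maximal subgroups
  let r : Setoid {M : Subgroup G // IsCoatom M} :=
    { r := fun A B => ∃ g : G, B.1 = A.1.map (MulAut.conj g).toMonoidHom
      iseqv := ⟨fun A => ⟨1, by rw [map_one]; exact (Subgroup.map_id A.1).symm⟩,
        fun {A B} ⟨g, hg⟩ => ⟨g⁻¹, by
          rw [hg, Subgroup.map_map]
          have : (MulAut.conj g⁻¹).toMonoidHom.comp (MulAut.conj g).toMonoidHom = MonoidHom.id G := by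
            ext x; simp [mul_assoc]
          rw [this, Subgroup.map_id]⟩,
        fun {A B C} ⟨g, hg⟩ ⟨h, hh⟩ => ⟨h * g, by
          rw [hh, hg, Subgroup.map_map]
          congr 1
          ext x; simp [mul_assoc]⟩⟩ }
  have hfin : Finite (Quotient r) := inferInstance
  obtain ⟨k, ⟨eq⟩⟩ : ∃ k, Nonempty (Quotient r ≃ Fin k) := Finite.exists_equiv_fin _
  let Mr : Fin k → Subgroup G := fun i => (eq.symm i).out.1
  have hmax : ∀ i, IsCoatom (Mr i) := fun i => (eq.symm i).out.2
  have hnc : ∀ i j, i ≠ j → ∀ g : G, Mr j ≠ (Mr i).map (MulAut.conj g).toMonoidHom := by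
    intro i j hij g hg
    apply hij
    apply eq.symm.injective
    rw [← Quotient.out_eq (eq.symm i), ← Quotient.out_eq (eq.symm j)]
    exact Quotient.sound ⟨g, hg⟩
  have hall : ∀ M : Subgroup G, IsCoatom M → ∃ i, ∃ g : G, M = (Mr i).map (MulAut.conj g).toMonoidHom := by
    intro M hM
    refine ⟨eq (Quotient.mk r ⟨M, hM⟩), ?_⟩
    have h1 : Quotient.mk r ((eq.symm (eq (Quotient.mk r ⟨M, hM⟩))).out) = Quotient.mk r ⟨M, hM⟩ := by
      rw [Quotient.out_eq, Equiv.symm_apply_apply]
    exact Quotient.exact h1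
  obtain ⟨hcop, hprod, hcov⟩ := S1484.result hG hCN k Mr hmax hnc hall
  have hS : ∀ i, ∃ E, H12.CN.MaxS (Mr i) (fittingHallOf (Mr i)) E := by
    intro i
    obtain ⟨F, E, h⟩ := H12.CN.exists_maxS hG hCN (hmax i)
    have := h.F_eq
    subst this
    exact ⟨E, h⟩
  have hlt : ∀ i, fittingHallOf (Mr i) < Mr i := by
    intro i
    obtain ⟨E, h⟩ := hS i
    refine lt_of_le_of_ne h.compl.1 ?_
    intro heq
    apply h.Eb
    have h2 := h.compl.2.2.1
    have h3 := h.compl.2.1
    rw [← heq] at h3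
    rw [eq_bot_iff, ← h2]
    exact le_inf h3 le_rfl
  refine ⟨k, Mr, fun i => fittingHallOf (Mr i), ?_, hlt, ?_, ?_, ?_, hcop, ?_, ?_, ?_, ?_, ?_⟩
  · -- at least two
    by_contra hk
    have hk' : k = 0 ∨ k = 1 := by omega
    have hGone : 1 < Nat.card G := by
      have := hG.2.1
      exact Finite.one_lt_card
    rcases hk' with h | h
    · subst h
      rw [Finset.univ_eq_empty, Finset.prod_empty] at hprod
      omega
    · subst h
      rw [Fin.prod_univ_one] at hprod
      have h1 := Subgroup.card_eq_iff_eq_top (fittingHallOf (Mr 0)) |>.mp hprod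
      have h2 := hlt 0
      rw [h1] at h2
      exact absurd h2 not_top_lt
  · intro i; obtain ⟨E, h⟩ := hS i; exact h.Fb
  · intro i x hx y hy
    obtain ⟨E, h⟩ := hS i
    exact (Subgroup.mem_normalizer_iff.1 (h.norm hx) y).1 hy
  · intro i y hy hy1 x hx
    obtain ⟨E, h⟩ := hS i
    by_contra hxF
    have h1 := h.out x (Subgroup.mem_inf.1 hx).1 hxF
    apply hy1
    have h2 : y ∈ fittingHallOf (Mr i) ⊓ centralizer ({x} : Set G) := by
      refine Subgroup.mem_inf.2 ⟨hy, ?_⟩
      have h3 := (Subgroup.mem_inf.1 hx).2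
      rw [mem_centralizer_singleton_iff] at h3 ⊢
      exact h3.symm
    rw [h1] at h2
    exact Subgroup.mem_bot.1 h2
  · intro i g hg x hx hgx
    obtain ⟨E, h⟩ := hS i
    have h1 := H12.CN.maxNil_ti' hG hCN (h.maxNil hG (hmax i)) g⁻¹ (by
      intro h2
      apply hg
      rw [← inv_inv g]
      apply Subgroup.inv_mem
      exact H22.Basic.mem_normalizer_of_cj_le (le_of_eq h2))
    have h2 : x ∈ fittingHallOf (Mr i) ⊓ H13.Syl.cj g⁻¹ (fittingHallOf (Mr i)) := by
      refine Subgroup.mem_inf.2 ⟨hx, ?_⟩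
      rw [H13.Syl.mem_cj, inv_inv]
      exact hgx
    rw [h1] at h2
    exact Subgroup.mem_bot.1 h2
  · intro i
    obtain ⟨E, h⟩ := hS i
    exact h.normalizer_eq hG (hmax i)
  · intro g hg
    exact hcov g
  · intro i; obtain ⟨E, h⟩ := hS i; exact h.nil
  · intro i; obtain ⟨E, h⟩ := hS i; exact h.der

end Cfsg.Agent.H3.CNr
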