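import Cfsg.Statements.S0183
import Cfsg.Agent.H3_CNr
import Cfsg.Agent.S1526

set_option autoImplicit false
open Cfsg

namespace Cfsg.Agent.S0183

open Cfsg.Agent.H3.CNr

/-- The CN-Theorem for odd order: a finite group of odd order in which every non-identity element has a nilpotent centralizer (a CN-group) is solvable. -/
theorem result {G : Type*} [Group G] [Finite G] (hodd : Odd (Nat.card G)) (hCN : Cfsg.IsCNGroup G) : Group.IsSolvable G := by
  refine reduce (fun X _ _ hX hXC => ?_) (Nat.card G) G rfl hodd hCN
  obtain ⟨k, M, F, h⟩ := exists_fam hX hXC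
  exact Cfsg.Agent.S1526.result hX.1 (ι := Fin k) (by rw [Fintype.card_fin]; exact h.two) M F h.lt h.ne_bot h.norm h.frob h.cop
    (fun i => ⟨h.ti i, h.norm_eq i⟩) h.cover

end Cfsg.Agent.S0183
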