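import Mathlib
import Cfsg.Agent.H19_CA6
import Cfsg.Agent.S0182

set_option autoImplicit false

/-!
Self-normalizing nonabelian subgroups of `SL₂(2ⁿ)`, `2ⁿ - 1` prime.
-/

namespace Cfsg.Agent.H19.SN

open Cfsg.Agent.H4.Inv Cfsg.Agent.H4.Util Cfsg.Agent.H4.SE Cfsg.Agent.H19.CA1

section Abstract

variable {S : Type*} [Group S] [Finite S]

/-- centralizers of nontrivial elements are abelian -/
def CAx (S : Type*) [Group S] : Prop := ∀ y : S, y ≠ 1 → ∀ a b : S, Commute a y → Commute b y → a * b = b * a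

/-- an element of odd order commuting with its conjugate -/
def Cj (S : Type*) [Group S] : Prop := ∀ y g : S, Odd (orderOf y) → Commute (g * y * g⁻¹) y → g * y * g⁻¹ = y ∨ g * y * g⁻¹ = y⁻¹

theorem odd_sub_comm (hca : CAx S) (hcj : Cj S) {K : Subgroup S} (hK : Odd (Nat.card K)) : ∀ a ∈ K, ∀ b ∈ K, a * b = b * a := by
  classical
  by_cases htriv : K = ⊥
  · rw [htriv]
    intro a ha b hb
    rw [Subgroup.mem_bot.1 ha, Subgroup.mem_bot.1 hb]
  have hsolv : Group.IsSolvable K := by
    apply Cfsg.Agent.S0182.result hK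
    intro x hx a ha b hb
    apply Subtype.ext
    exact hca x (fun h0 => hx (Subtype.ext h0)) a b
      (congrArg Subtype.val (Subgroup.mem_centralizer_singleton_iff.1 ha))
      (congrArg Subtype.val (Subgroup.mem_centralizer_singleton_iff.1 hb))
  -- last nontrivial term of the derived series
  obtain ⟨n, hn⟩ := hsolv
  have hex : ∃ n, derivedSeries K n = ⊥ := ⟨n, hn⟩
  have h0 : Nat.find hex ≠ 0 := by
    intro h1
    have h2 := Nat.find_spec hex
    rw [h1, derivedSeries_zero] at h2
    apply htriv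
    rw [eq_bot_iff]
    intro x hx
    have h3 : (⟨x, hx⟩ : K) ∈ (⊤ : Subgroup K) := trivial
    rw [h2] at h3
    exact Subgroup.mem_bot.2 (congrArg Subtype.val (Subgroup.mem_bot.1 h3))
  obtain ⟨m, hm⟩ := Nat.exists_eq_succ_of_ne_zero h0
  have hV1 : derivedSeries K m ≠ ⊥ := Nat.find_min hex (by rw [hm]; exact Nat.lt_succ_self m)
  have hV2 : derivedSeries K (m + 1) = ⊥ := by
    have := Nat.find_spec hex
    rwa [hm] at this
  have hVc : ∀ a ∈ derivedSeries K m, ∀ b ∈ derivedSeries K m, a * b = b * a := by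
    intro a ha b hb
    have h1 : a * b * a⁻¹ * b⁻¹ ∈ derivedSeries K (m + 1) := by
      rw [derivedSeries_succ]; exact Subgroup.commutator_mem_commutator ha hb
    rw [hV2, Subgroup.mem_bot, mul_inv_eq_one, mul_inv_eq_iff_eq_mul] at h1
    exact h1
  have hVn : (derivedSeries K m).Normal := derivedSeries_normal K m
  obtain ⟨v, hv⟩ := Subgroup.ne_bot_iff_exists_ne_one.1 hV1
  have hv1 : ((v : K) : S) ≠ 1 := fun h => hv (Subtype.ext (Subtype.ext h))
  have hvo : Odd (orderOf ((v : K) : S)) := odd_of_mem hK (v : K).2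
  have hall : ∀ h ∈ K, Commute h ((v : K) : S) := by
    intro h hh
    have h1 : (⟨h, hh⟩ : K) * v * (⟨h, hh⟩ : K)⁻¹ ∈ derivedSeries K m := hVn.conj_mem v v.2 ⟨h, hh⟩
    have h2 : Commute (h * ((v : K) : S) * h⁻¹) ((v : K) : S) := congrArg Subtype.val (hVc _ h1 _ v.2)
    rcases hcj _ h hvo h2 with h3 | h3
    · rw [mul_inv_eq_iff_eq_mul] at h3; exact h3
    · -- h² centralizes v
      exfalso
      have h4 : Commute (h * h) ((v : K) : S) := by
        have h5 : (h * h) * ((v : K) : S) * (h * h)⁻¹ = ((v : K) : S) := by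
          calc (h * h) * ((v : K) : S) * (h * h)⁻¹ = h * (h * ((v : K) : S) * h⁻¹) * h⁻¹ := by group
            _ = h * (((v : K) : S))⁻¹ * h⁻¹ := by rw [h3]
            _ = (h * ((v : K) : S) * h⁻¹)⁻¹ := by group
            _ = _ := by rw [h3, inv_inv]
        rw [mul_inv_eq_iff_eq_mul] at h5; exact h5
      obtain ⟨k, hk⟩ := odd_of_mem hK hh
      have h5 : h = (h * h) ^ (k + 1) := by
        rw [← pow_two, ← pow_mul, show 2 * (k + 1) = (2 * k + 1) + 1 by ring, pow_succ, ← hk, pow_orderOf_eq_one, one_mul]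
      have h6 : Commute h ((v : K) : S) := by rw [h5]; exact h4.pow_left _
      have h7 : ((v : K) : S)⁻¹ = (v : K) := by
        rw [← h3, h6.eq]; group
      apply hv1
      apply eq_one_of_sq hvo
      nth_rewrite 1 [← h7]
      exact inv_mul_cancel _
  intro a ha b hb
  exact hca _ hv1 a b (hall a ha) (hall b hb)

omit [Finite S] in
theorem cent_two (hexp : ∀ s y : S, orderOf s = 2 → Commute y s → y ^ 2 = 1) {k t : S} (ht : orderOf t = 2) (hk : Odd (orderOf k)) (hk1 : k ≠ 1) :
    ¬ Commute k t := by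
  intro hc
  have := hexp t k ht hc
  rw [pow_two] at this
  exact hk1 (eq_one_of_sq hk this)

theorem self_norm (h : Hyp S) (hc : HC S) (hexp : ∀ s y : S, orderOf s = 2 → Commute y s → y ^ 2 = 1) (hn : HN S)
    (hca : CAx S) (hcj : Cj S) (hmm : ∀ P : Sylow 2 S, (mm P).Prime) (hPc : ∀ (P : Sylow 2 S) (x : S), x ∈ CC P → x ∈ (P : Subgroup S))
    (H : Subgroup S) (hH : ¬ ∀ a ∈ H, ∀ b ∈ H, a * b = b * a) : Subgroup.normalizer (H : Set S) = H := by
  classical
  haveI : Fact (Nat.Prime 2) := ⟨Nat.prime_two⟩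
  have he := HC.even hc
  have hTI := TI.of_exp h he hexp
  apply le_antisymm _ Subgroup.le_normalizer
  have hev : Even (Nat.card H) := by
    rw [← Nat.not_odd_iff_even]
    exact fun ho => hH (odd_sub_comm hca hcj ho)
  by_cases hex : ∃ (P : Sylow 2 S) (t d : S), orderOf t = 2 ∧ t ∈ (P : Subgroup S) ∧ t ∈ H ∧ d ∈ H ∧ d • P = P ∧ d ∉ (P : Subgroup S)
  · obtain ⟨P, t, d, ht, htP, htH, hdH, hdP, hdnP⟩ := hex
    obtain ⟨Q, hPQ⟩ : ∃ Q, P ≠ Q := by
      obtain ⟨P₀, Q₀, h0⟩ := HN.ne h hn
      by_cases h1 : P = P₀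
      · exact ⟨Q₀, by rw [h1]; exact h0⟩
      · exact ⟨P₀, h1⟩
    obtain ⟨d', hd', hdd'⟩ := decomp h he hPQ hdP
    have hd'1 : d' ≠ 1 := by
      rintro rfl
      apply hdnP
      apply hPc P
      simpa using hdd'
    have hcard := card_DD h he hTI hPQ
    have hgen : ∀ e ∈ DD P Q, ∃ i : ℕ, d' ^ i = e := by
      intro e he'
      haveI : Fact (mm P).Prime := ⟨hmm P⟩
      have h1 := mem_powers_of_prime_card (G := DD P Q) (p := mm P) hcard (g := ⟨d', hd'⟩) (g' := ⟨e, he'⟩) (fun h0 => hd'1 (congrArg Subtype.val h0))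
      obtain ⟨i, hi⟩ := h1
      exact ⟨i, congrArg Subtype.val hi⟩
    -- action of d^i on P
    have hact : ∀ i : ℕ, d ^ i * (d' ^ i)⁻¹ ∈ CC P := by
      intro i
      induction i with
      | zero => simp
      | succ i ih =>
        have h1 : d ^ (i + 1) * (d' ^ (i + 1))⁻¹ = d * (d ^ i * (d' ^ i)⁻¹) * d⁻¹ * (d * d'⁻¹) := by
          rw [pow_succ' d, pow_succ d']; group
        rw [h1]
        exact mul_mem (conj_mem_CC hdP ih) hdd'
    have hPH : (P : Subgroup S) ≤ H := by
      intro s hs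
      by_cases hs1 : s = 1
      · rw [hs1]; exact H.one_mem
      have hs2 : orderOf s = 2 := orderOf_eq_prime (hexp t s ht (sylow_comm h P s hs t htP)) hs1
      obtain ⟨e, he', hes⟩ := conj_inv_DD h he hPQ ht hs2 htP hs
      obtain ⟨i, rfl⟩ := hgen e he'
      have h1 : d ^ i * t * (d ^ i)⁻¹ = s := by
        have h2 := mem_CC.1 (hact i) s hs
        calc d ^ i * t * (d ^ i)⁻¹ = (d ^ i * (d' ^ i)⁻¹) * (d' ^ i * t * (d' ^ i)⁻¹) * (d ^ i * (d' ^ i)⁻¹)⁻¹ := by group
          _ = (d ^ i * (d' ^ i)⁻¹) * s * (d ^ i * (d' ^ i)⁻¹)⁻¹ := by rw [hes]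
          _ = s := by rw [← h2]; group
      rw [← h1]
      exact mul_mem (mul_mem (pow_mem hdH i) htH) (inv_mem (pow_mem hdH i))
    have hNH : ∀ n : S, n • P = P → n ∈ H := by
      intro n hnP
      obtain ⟨e, he', hne⟩ := decomp h he hPQ hnP
      obtain ⟨i, rfl⟩ := hgen e he'
      have h1 : d' ∈ H := by
        have := mul_mem (inv_mem (hPH (hPc P _ hdd'))) hdH
        have e : (d * d'⁻¹)⁻¹ * d = d' := by group
        rwa [e] at this
      have h2 := mul_mem (hPH (hPc P _ hne)) (pow_mem h1 i)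
      have e : n * (d' ^ i)⁻¹ * d' ^ i = n := by group
      rwa [e] at h2
    by_cases hfix : ∀ k ∈ H, k • P = P
    · -- H = N(P)
      intro g hg
      apply hNH
      have hgP : ((g • P : Sylow 2 S) : Subgroup S) ≤ H := by
        intro x hx
        rw [mem_smul_sylow] at hx
        have h1 := hPH hx
        rw [Subgroup.mem_normalizer_iff] at hg
        have h2 := (hg _).1 h1
        have e : g * (g⁻¹ * x * g) * g⁻¹ = x := by group
        rwa [e] at h2
      obtain ⟨s, hs, hs2⟩ := exists_inv he (g • P)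
      exact uniq h hs2 hs ((fix_iff hs2).1 (hfix s (hgP hs)))
    · push Not at hfix
      obtain ⟨k, hkH, hkP⟩ := hfix
      have htop : H = ⊤ := by
        rw [eq_top_iff]
        intro g _
        by_cases hgP : g • P = P
        · exact hNH g hgP
        · obtain ⟨n, hn1, hn2⟩ := trans_stab h he hTI (P := P) (Q := k • P) (Q' := g • P) (Ne.symm hkP) (Ne.symm hgP) (HC.mm h hc P)
          have h1 : (g⁻¹ * n * k) • P = P := by rw [mul_smul, mul_smul, hn2, inv_smul_smul]
          have h2 := hNH _ h1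
          have h3 := mul_mem (mul_mem (hNH n hn1) hkH) (inv_mem h2)
          have e : n * k * (g⁻¹ * n * k)⁻¹ = g := by group
          rwa [e] at h3
      rw [htop]; exact le_top
  · push Not at hex
    -- normal 2-complement
    let T : Sylow 2 H := default
    have h2T : 2 ∣ Nat.card T := T.dvd_card_of_dvd_card hev.two_dvd
    obtain ⟨t₀, ht₀⟩ := exists_prime_orderOf_dvd_card' (G := (T : Subgroup H)) 2 h2T
    have ht₁ : orderOf (((t₀ : H) : S)) = 2 := by rw [Subgroup.orderOf_coe, Subgroup.orderOf_coe]; exact ht₀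
    obtain ⟨P, htP⟩ := exists_sylow_mem ht₁
    have hTP : ∀ x ∈ (T : Subgroup H), (x : S) ∈ (P : Subgroup S) := by
      obtain ⟨P', hP'⟩ := (T.isPGroup'.map H.subtype).exists_le_sylow
      have h1 : ∀ x ∈ (T : Subgroup H), (x : S) ∈ (P' : Subgroup S) := fun x hx => hP' ⟨x, hx, rfl⟩
      have h2 : P' = P := uniq h ht₁ (h1 _ t₀.2) htP
      rw [← h2]; exact h1
    have hNC : Subgroup.normalizer ((T : Subgroup H) : Set H) ≤ Subgroup.centralizer ((T : Subgroup H) : Set H) := by
      intro n hn'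
      have h1 : n * (t₀ : H) * n⁻¹ ∈ (T : Subgroup H) := (Subgroup.mem_normalizer_iff.1 hn' _).1 t₀.2
      have h2 : (n : S) * (t₀ : H) * (n : S)⁻¹ ∈ (P : Subgroup S) := hTP _ h1
      have h3 : orderOf ((n : S) * (t₀ : H) * (n : S)⁻¹) = 2 := by rw [orderOf_conj]; exact ht₁
      have h4 : (n : S) • P = P := by
        apply uniq h h3 _ h2
        rw [mem_smul_sylow]
        have e : (n : S)⁻¹ * ((n : S) * (t₀ : H) * (n : S)⁻¹) * n = ((t₀ : H) : S) := by group
        rw [e]; exact htP
      have h5 : (n : S) ∈ (P : Subgroup S) := by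
        by_contra h6
        exact h6 (by
          by_contra h7
          exact h7 (hex P _ n ht₁ htP (t₀ : H).2 n.2 h4))
      rw [Subgroup.mem_centralizer_iff]
      intro x hx
      exact Subtype.ext (sylow_comm h P x (hTP x hx) n h5)
    set K := (MonoidHom.transferSylow T hNC).ker with hK
    have hKc : K.IsComplement' (T : Subgroup H) := MonoidHom.ker_transferSylow_isComplement' T hNC
    have hKo : Odd (Nat.card K) := by
      rw [← Nat.not_even_iff_odd, even_iff_two_dvd]
      exact MonoidHom.not_dvd_card_ker_transferSylow T hNC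
    -- K consists of the elements of odd order of H
    have hKmem : ∀ x : H, x ∈ K ↔ Odd (orderOf x) := by
      intro x
      constructor
      · intro hx; exact odd_of_mem hKo hx
      · intro hx
        rw [hK, MonoidHom.mem_ker]
        have h1 : orderOf (MonoidHom.transferSylow T hNC x) ∣ orderOf x := orderOf_map_dvd _ x
        obtain ⟨j, hj⟩ := IsPGroup.iff_orderOf.1 T.isPGroup' (MonoidHom.transferSylow T hNC x)
        rcases Nat.eq_zero_or_pos j with h0 | h0
        · rw [h0, pow_zero] at hj; exact orderOf_eq_one_iff.1 hj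
        · exfalso
          have h2 : 2 ∣ orderOf x := (dvd_pow_self 2 h0.ne').trans (hj ▸ h1)
          exact (Nat.not_even_iff_odd.2 hx) (even_iff_two_dvd.2 h2)
    have hKcomm := odd_sub_comm hca hcj (K := K.map H.subtype) (by
      rw [Subgroup.card_map_of_injective H.subtype_injective]; exact hKo)
    -- K nontrivial
    obtain ⟨k, hkK, hk1⟩ : ∃ k ∈ K, k ≠ 1 := by
      by_contra hcon
      push Not at hcon
      have hKb : K = ⊥ := (Subgroup.eq_bot_iff_forall _).2 hcon
      rw [hKb] at hKc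
      have hTt := Subgroup.isComplement'_bot_left.1 hKc
      apply hH
      intro a ha b hb
      have h1 : (⟨a, ha⟩ : H) ∈ (T : Subgroup H) := by rw [hTt]; trivial
      have h2 : (⟨b, hb⟩ : H) ∈ (T : Subgroup H) := by rw [hTt]; trivial
      exact sylow_comm h P a (hTP _ h1) b (hTP _ h2)
    have hk1' : (k : S) ≠ 1 := fun h0 => hk1 (Subtype.ext h0)
    have hko : Odd (orderOf (k : S)) := by rw [Subgroup.orderOf_coe]; exact (hKmem k).1 hkK
    set t : S := ((t₀ : H) : S) with htdef
    have htH : t ∈ H := (t₀ : H).2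
    -- conjugates of k by the normalizer
    have hconj : ∀ g ∈ Subgroup.normalizer (H : Set S), g * k * g⁻¹ = k ∨ g * k * g⁻¹ = (k : S)⁻¹ := by
      intro g hg
      apply hcj _ g hko
      have h1 : g * k * g⁻¹ ∈ H := (Subgroup.mem_normalizer_iff.1 hg _).1 k.2
      have h2 : (⟨g * k * g⁻¹, h1⟩ : H) ∈ K := by
        rw [hKmem, ← Subgroup.orderOf_coe]
        change Odd (orderOf (g * k * g⁻¹))
        rw [orderOf_conj]; exact hko
      exact hKcomm _ ⟨_, h2, rfl⟩ _ ⟨k, hkK, rfl⟩
    have htk : t * k * t⁻¹ = (k : S)⁻¹ := by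
      rcases hconj t (Subgroup.le_normalizer htH) with h1 | h1
      · exfalso
        rw [mul_inv_eq_iff_eq_mul] at h1
        exact cent_two hexp ht₁ hko hk1' (show Commute (k : S) t from h1.symm)
      · exact h1
    -- elements of the normalizer centralizing k
    have hcen : ∀ g ∈ Subgroup.normalizer (H : Set S), Commute g (k : S) → g ∈ H := by
      intro g hg hgk
      by_cases hg1 : g = 1
      · rw [hg1]; exact H.one_mem
      -- g has odd order
      have hgo : Odd (orderOf g) := by
        rw [← Nat.not_even_iff_odd]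
        rintro hev'
        obtain ⟨j, hj⟩ := hev'.two_dvd
        have hj0 : j ≠ 0 := by rintro rfl; exact (orderOf_pos g).ne' (by omega)
        have h1 : orderOf (g ^ j) = 2 := by
          rw [orderOf_pow_of_dvd hj0 ⟨2, by rw [hj, mul_comm]⟩, hj, Nat.mul_div_cancel _ (Nat.pos_of_ne_zero hj0)]
        exact cent_two hexp h1 hko hk1' (hgk.symm.pow_right j)
      -- t inverts g
      have htg : t * g * t⁻¹ = g⁻¹ := by
        have h1 : Commute (t * g * t⁻¹) (k : S) := by
          have h2 : t * (k : S)⁻¹ * t⁻¹ = k := by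
            have := congrArg (fun y => y⁻¹) htk
            simpa [mul_assoc] using this
          have h3 : g * (k : S)⁻¹ = (k : S)⁻¹ * g := (hgk.inv_right).eq
          change t * g * t⁻¹ * k = k * (t * g * t⁻¹)
          calc t * g * t⁻¹ * k = t * g * t⁻¹ * (t * (k : S)⁻¹ * t⁻¹) := by rw [h2]
            _ = t * (g * (k : S)⁻¹) * t⁻¹ := by group
            _ = (t * (k : S)⁻¹ * t⁻¹) * (t * g * t⁻¹) := by rw [h3]; group
            _ = _ := by rw [h2]
        have h2 : Commute (t * g * t⁻¹) g := hca _ hk1' _ _ h1 hgk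
        rcases hcj g t hgo h2 with h3 | h3
        · exfalso
          rw [mul_inv_eq_iff_eq_mul] at h3
          exact cent_two hexp ht₁ hgo hg1 (show Commute g t from h3.symm)
        · exact h3
      have h1 : g * t * g⁻¹ ∈ H := (Subgroup.mem_normalizer_iff.1 hg _).1 htH
      have h2 : g * g ∈ H := by
        have h3 := mul_mem h1 (inv_mem htH)
        have e : g * t * g⁻¹ * t⁻¹ = g * (t * g * t⁻¹)⁻¹ := by group
        rw [e, htg, inv_inv] at h3
        exact h3
      obtain ⟨i, hi⟩ := hgo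
      have h5 : g = (g * g) ^ (i + 1) := by
        rw [← pow_two, ← pow_mul, show 2 * (i + 1) = (2 * i + 1) + 1 by ring, pow_succ, ← hi, pow_orderOf_eq_one, one_mul]
      rw [h5]; exact pow_mem h2 _
    intro g hg
    rcases hconj g hg with h1 | h1
    · rw [mul_inv_eq_iff_eq_mul] at h1
      exact hcen g hg h1
    · have h2 : Commute (g * t) (k : S) := by
        have h3 : (g * t) * k * (g * t)⁻¹ = k := by
          calc (g * t) * k * (g * t)⁻¹ = g * (t * k * t⁻¹) * g⁻¹ := by group
            _ = (g * k * g⁻¹)⁻¹ := by rw [htk]; group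
            _ = _ := by rw [h1, inv_inv]
        rw [mul_inv_eq_iff_eq_mul] at h3; exact h3
      have h4 := hcen _ (mul_mem hg (Subgroup.le_normalizer htH)) h2
      have h5 := mul_mem h4 (inv_mem htH)
      have e : g * t * t⁻¹ = g := by group
      rwa [e] at h5

end Abstract

end Cfsg.Agent.H19.SN
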