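import Mathlib
import Cfsg.Agent.H19_SN1
import Cfsg.Agent.H5_SL2
import Cfsg.Agent.H9_FieldCongr

set_option autoImplicit false

/-!
Self-normalizing nonabelian subgroups of `SL₂(2ⁿ)`, `2ⁿ - 1` prime.
-/

namespace Cfsg.Agent.H19.SN

open Cfsg.Agent.H4.Inv Cfsg.Agent.H4.Util Cfsg.Agent.H4.SE Cfsg.Agent.H19.CA1 Cfsg.Agent.H5.SL2

section Field

variable {F : Type*} [Field F] [CharP F 2]

omit [CharP F 2] in
theorem comm_rel {y a : S F} (h : Commute a y) :
    a.1 0 1 * y.1 1 0 = y.1 0 1 * a.1 1 0 ∧ y.1 0 1 * (a.1 0 0 - a.1 1 1) = (y.1 0 0 - y.1 1 1) * a.1 0 1 ∧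
    y.1 1 0 * (a.1 0 0 - a.1 1 1) = (y.1 0 0 - y.1 1 1) * a.1 1 0 := by
  have h1 : (a * y).1 = (y * a).1 := congrArg Subtype.val h.eq
  have h00 := congrFun (congrFun h1 0) 0
  have h01 := congrFun (congrFun h1 0) 1
  have h10 := congrFun (congrFun h1 1) 0
  rw [mul00, mul00] at h00
  rw [mul01, mul01] at h01
  rw [mul10, mul10] at h10
  refine ⟨by linear_combination h00, by linear_combination h01, by linear_combination - h10⟩

omit [CharP F 2] in
theorem comm_of_rel {a b : S F} (h1 : a.1 0 1 * b.1 1 0 = b.1 0 1 * a.1 1 0)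
    (h2 : b.1 0 1 * (a.1 0 0 - a.1 1 1) = (b.1 0 0 - b.1 1 1) * a.1 0 1)
    (h3 : b.1 1 0 * (a.1 0 0 - a.1 1 1) = (b.1 0 0 - b.1 1 1) * a.1 1 0) : a * b = b * a := by
  apply ext2
  · rw [mul00, mul00]; linear_combination h1
  · rw [mul01, mul01]; linear_combination h2
  · rw [mul10, mul10]; linear_combination -h3
  · rw [mul11, mul11]; linear_combination -h1

theorem scalar_one {y : S F} (h01 : y.1 0 1 = 0) (h10 : y.1 1 0 = 0) (h : y.1 0 0 - y.1 1 1 = 0) : y = 1 := by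
  have hd := det_eq y
  rw [h01, h10] at hd
  have h1 : y.1 1 1 = y.1 0 0 := (sub_eq_zero.1 h).symm
  rw [h1] at hd
  have h2 : y.1 0 0 = 1 := by
    have h3 : (y.1 0 0 - 1) * (y.1 0 0 - 1) = 0 := by
      have : (2 : F) = 0 := CharTwo.two_eq_zero
      linear_combination hd + (1 - y.1 0 0) * this
    have := mul_self_eq_zero.1 h3
    exact sub_eq_zero.1 this
  apply ext2
  · rw [h2]; rfl
  · rw [h01]; rfl
  · rw [h10]; rfl
  · rw [h1, h2]; rfl

omit [CharP F 2] in
theorem par {x1 x2 x3 a1 a2 a3 b1 b2 b3 : F} (hx : ¬ (x1 = 0 ∧ x2 = 0 ∧ x3 = 0))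
    (ha1 : a1 * x2 = x1 * a2) (ha2 : x1 * a3 = x3 * a1) (ha3 : x2 * a3 = x3 * a2)
    (hb1 : b1 * x2 = x1 * b2) (hb2 : x1 * b3 = x3 * b1) (hb3 : x2 * b3 = x3 * b2) :
    a1 * b2 = b1 * a2 ∧ b1 * a3 = b3 * a1 ∧ b2 * a3 = b3 * a2 := by
  by_cases h1 : x1 = 0
  · by_cases h2 : x2 = 0
    · by_cases h3 : x3 = 0
      · exact absurd ⟨h1, h2, h3⟩ hx
      · subst h1 h2
        have e1 : a1 = 0 := by
          have : x3 * a1 = 0 := by rw [← ha2]; ring
          exact (mul_eq_zero.1 this).resolve_left h3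
        have e2 : a2 = 0 := by
          have : x3 * a2 = 0 := by rw [← ha3]; ring
          exact (mul_eq_zero.1 this).resolve_left h3
        have e3 : b1 = 0 := by
          have : x3 * b1 = 0 := by rw [← hb2]; ring
          exact (mul_eq_zero.1 this).resolve_left h3
        have e4 : b2 = 0 := by
          have : x3 * b2 = 0 := by rw [← hb3]; ring
          exact (mul_eq_zero.1 this).resolve_left h3
        subst e1 e2 e3 e4
        refine ⟨?_, ?_, ?_⟩ <;> ring
    · have g1 : a1 * b2 = b1 * a2 := by apply mul_left_cancel₀ h2; linear_combination b2 * ha1 - a2 * hb1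
      have g3 : b2 * a3 = b3 * a2 := by apply mul_left_cancel₀ h2; linear_combination b2 * ha3 - a2 * hb3
      refine ⟨g1, ?_, g3⟩
      apply mul_left_cancel₀ h2; linear_combination a3 * hb1 - b3 * ha1 + x1 * g3
  · have g1 : a1 * b2 = b1 * a2 := by apply mul_left_cancel₀ h1; linear_combination (-a1) * hb1 + b1 * ha1
    have g2 : b1 * a3 = b3 * a1 := by apply mul_left_cancel₀ h1; linear_combination b1 * ha2 - a1 * hb2
    refine ⟨g1, g2, ?_⟩
    apply mul_left_cancel₀ h1; linear_combination x2 * g2 - a3 * hb1 + b3 * ha1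

theorem cax : CAx (S F) := by
  intro y hy a b ha hb
  have hx : ¬ (y.1 0 1 = 0 ∧ y.1 1 0 = 0 ∧ y.1 0 0 - y.1 1 1 = 0) := fun h => hy (scalar_one h.1 h.2.1 h.2.2)
  obtain ⟨a1, a2, a3⟩ := comm_rel ha
  obtain ⟨b1, b2, b3⟩ := comm_rel hb
  obtain ⟨g1, g2, g3⟩ := par hx a1 a2 a3 b1 b2 b3
  exact comm_of_rel g1 g2 g3

omit [CharP F 2] in
theorem trace_conj (g y : S F) : (g * y * g⁻¹).1 0 0 + (g * y * g⁻¹).1 1 1 = y.1 0 0 + y.1 1 1 := by
  have hd := det_eq g
  simp only [mul00, mul01, mul10, mul11, inv00, inv01, inv10, inv11]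
  linear_combination (y.1 0 0 + y.1 1 1) * hd

theorem cj : Cj (S F) := by
  intro y g hy hc
  by_cases hy1 : y = 1
  · left; rw [hy1]; group
  set z := g * y * g⁻¹ with hz
  have htr : z.1 0 0 + z.1 1 1 = y.1 0 0 + y.1 1 1 := trace_conj g y
  have hdz := det_eq z
  have hdy := det_eq y
  have two : (2 : F) = 0 := CharTwo.two_eq_zero
  have hτ : y.1 0 0 + y.1 1 1 ≠ 0 := by
    intro h0
    apply hy1
    apply eq_one_of_sq hy
    have h1 : y.1 1 1 = - y.1 0 0 := (eq_neg_of_add_eq_zero_right h0)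
    apply ext2
    · rw [mul00, one00]; rw [h1] at hdy; linear_combination - hdy - two
    · rw [mul01, one01]; linear_combination y.1 0 1 * h0
    · rw [mul10, one10]; linear_combination y.1 1 0 * h0
    · rw [mul11, one11]; rw [h1] at hdy ⊢; linear_combination - hdy - two
  obtain ⟨c1, c2, c3⟩ := comm_rel hc
  have e1 : z.1 0 1 = y.1 0 1 := by
    apply mul_left_cancel₀ hτ
    linear_combination - c2 + y.1 0 1 * htr - (y.1 0 1 * z.1 1 1 - y.1 1 1 * z.1 0 1) * two
  have e2 : z.1 1 0 = y.1 1 0 := by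
    apply mul_left_cancel₀ hτ
    linear_combination - c3 + y.1 1 0 * htr - (y.1 1 0 * z.1 1 1 - y.1 1 1 * z.1 1 0) * two
  have e3 : (z.1 0 0 - y.1 0 0) * (z.1 0 0 - y.1 1 1) = 0 := by
    rw [e1, e2] at hdz
    linear_combination hdy - hdz + z.1 0 0 * htr
  rcases mul_eq_zero.1 e3 with h | h
  · left
    have h1 := sub_eq_zero.1 h
    rw [h1] at htr
    exact ext2 h1 e1 e2 (add_left_cancel htr)
  · right
    have h1 := sub_eq_zero.1 h
    apply ext2
    · rw [inv00]; exact h1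
    · rw [inv01, e1, CharTwo.neg_eq]
    · rw [inv10, e2, CharTwo.neg_eq]
    · rw [inv11]; rw [h1] at htr; linear_combination htr

theorem sl2_hyp [Fintype F] : Hyp (S F) := by
  intro t ht a b ha hb
  have h1 := sl2_exp t a ht ha
  have h2 := sl2_exp t b ht hb
  have h3 := sl2_exp t (a * b) ht (ha.mul_left hb)
  rw [pow_two] at h1 h2 h3
  have e1 : a = a⁻¹ := eq_inv_of_mul_eq_one_left h1
  have e2 : b = b⁻¹ := eq_inv_of_mul_eq_one_left h2
  have e3 : a * b = (a * b)⁻¹ := eq_inv_of_mul_eq_one_left h3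
  rw [e3, mul_inv_rev, ← e1, ← e2]

theorem sl2_hc [Fintype F] (h : 2 < Fintype.card F) : HC (S F) := by
  classical
  obtain ⟨a, ha⟩ : ∃ a : F, a ≠ 0 ∧ a ≠ 1 := by
    by_contra hcon
    push Not at hcon
    have h1 : (Finset.univ : Finset F) ⊆ {0, 1} := by
      intro x _
      by_cases hx : x = 0
      · simp [hx]
      · simp [hcon x hx]
    have h2 := Finset.card_le_card h1
    rw [Finset.card_univ] at h2
    have h3 := Finset.card_le_two (a := (0 : F)) (b := 1)
    omega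
  refine ⟨u 1, u a, CA1.u_inv one_ne_zero, CA1.u_inv ha.1, fun h0 => ha.2 (u_inj h0).symm, ?_⟩
  change u 1 * u a = u a * u 1
  rw [u_mul, u_mul, add_comm]

theorem sl2_hn : HN (S F) := by
  refine ⟨u 1, l 1, CA1.u_inv one_ne_zero, CA1.l_inv one_ne_zero, fun h0 => ?_⟩
  have h1 : (u 1 * l 1 : S F).1 0 0 = (l 1 * u 1 : S F).1 0 0 := congrArg (fun g : S F => g.1 0 0) h0
  rw [mul00, mul00] at h1
  simp at h1

theorem sl2_CC [Fintype F] (P : Sylow 2 (S F)) (x : S F) (hx : x ∈ CC P) : x ∈ (P : Subgroup (S F)) := by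
  have he : Even (Nat.card (S F)) := by
    rw [even_iff_two_dvd, ← CA1.u_inv (F := F) one_ne_zero]; exact orderOf_dvd_natCard _
  by_cases hx1 : x = 1
  · rw [hx1]; exact one_mem _
  obtain ⟨t, htP, ht⟩ := exists_inv he P
  have h1 : x ^ 2 = 1 := sl2_exp t x ht ((mem_CC.1 hx t htP).symm)
  exact (fix_iff (orderOf_eq_prime h1 hx1)).1 (smul_eq_of_CC hx)

theorem sl2_mm [Fintype F] (P : Sylow 2 (S F)) : mm P + 1 = Fintype.card F := by
  classical
  haveI : Fact (Nat.Prime 2) := ⟨Nat.prime_two⟩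
  obtain ⟨g, hg⟩ := exists_conj (p := 2) P
  have hcard : Nat.card (P : Subgroup (S F)) = Fintype.card F := by
    rw [hg, ← card_U]
    exact Nat.card_congr (Subgroup.equivSMul (MulAut.conj g) (U F)).symm.toEquiv
  have hsq : ∀ x ∈ (P : Subgroup (S F)), x ^ 2 = 1 := by
    intro x hx
    rw [hg] at hx
    obtain ⟨y, hy, rfl⟩ := hx
    obtain ⟨c, rfl⟩ := mem_U.1 hy
    change (MulAut.conj g (u c)) ^ 2 = 1
    rw [← map_pow, pow_two, u_mul, CharTwo.add_self_eq_zero, u_zero, map_one]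
  rw [← hcard]
  have e : {t : S F // orderOf t = 2 ∧ t ∈ (P : Subgroup (S F))} ≃ {x : (P : Subgroup (S F)) // x ≠ 1} :=
    { toFun := fun t => ⟨⟨t.1, t.2.2⟩, fun h0 => by
        have h1 := congrArg Subtype.val h0
        have h2 := t.2.1
        have h3 : t.1 = 1 := h1
        rw [h3, orderOf_one] at h2
        omega⟩
      invFun := fun x => ⟨x.1.1, orderOf_eq_prime (hsq _ x.1.2) (fun h0 => x.2 (Subtype.ext h0)), x.1.2⟩
      left_inv := fun t => rfl
      right_inv := fun x => rfl }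
  unfold mm
  rw [Nat.card_congr e]
  haveI := Fintype.ofFinite (P : Subgroup (S F))
  rw [Nat.card_eq_fintype_card, Nat.card_eq_fintype_card, Fintype.card_subtype_compl, Fintype.card_subtype_eq]
  have : 0 < Fintype.card (P : Subgroup (S F)) := Fintype.card_pos
  omega

theorem sl2_self [Fintype F] (hF : 2 < Fintype.card F) (hp : (Fintype.card F - 1).Prime) (H : Subgroup (S F))
    (hH : ¬ ∀ a ∈ H, ∀ b ∈ H, a * b = b * a) : Subgroup.normalizer (H : Set (S F)) = H := by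
  apply self_norm sl2_hyp (sl2_hc hF) (fun s y hs hc => sl2_exp s y hs hc) sl2_hn cax cj _ sl2_CC H hH
  intro P
  have h1 := sl2_mm P
  have : mm P = Fintype.card F - 1 := by omega
  rw [this]; exact hp


end Field

end Cfsg.Agent.H19.SN
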