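import Mathlib
import Cfsg.Agent.H19_SN3
import Cfsg.Agent.H19_CA6
import Cfsg.Agent.H10_PPart

set_option autoImplicit false

/-!
Groups all of whose nonabelian subgroups are self-normalizing: centralizers.
-/

namespace Cfsg.Agent.H19.SN

open Pointwise

universe u

variable {G : Type u} [Group G] [Finite G]

theorem parts (p : ℕ) [Fact p.Prime] (g : G) : ∃ x ∈ Subgroup.zpowers g, ∃ y ∈ Subgroup.zpowers g, x * y = g ∧
    (∃ k : ℕ, x ^ p ^ k = 1) ∧ ¬ p ∣ orderOf y := by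
  obtain ⟨x, y, h1, -, ⟨k, h3⟩, h4⟩ := Cfsg.Agent.H10.PPart.exists_ppart (G := Subgroup.zpowers g) (p := p) ⟨g, Subgroup.mem_zpowers g⟩
  refine ⟨x, x.2, y, y.2, congrArg Subtype.val h1, ⟨k, ?_⟩, ?_⟩
  · have : x ^ p ^ k = 1 := by rw [← h3]; exact pow_orderOf_eq_one x
    exact congrArg Subtype.val this
  · rw [Subgroup.orderOf_coe]; exact h4

theorem ca (hs : SNA G) (hsyl : ∀ (p : ℕ) [Fact p.Prime] (P : Sylow p G), ∀ a ∈ (P : Subgroup G), ∀ b ∈ (P : Subgroup G), a * b = b * a)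
    (hnp : ∀ (p : ℕ) [Fact p.Prime], p ∣ Nat.card G → ¬ HasNormalPComplement p G) :
    ∀ x : G, x ≠ 1 → ∀ a b : G, Commute a x → Commute b x → a * b = b * a := by
  classical
  by_contra hcon
  push Not at hcon
  obtain ⟨x₀, hx₀, a₀, b₀, ha₀, hb₀, hab⟩ := hcon
  -- reduce to prime order
  obtain ⟨p, hpp, hpd⟩ := Nat.exists_prime_and_dvd (n := orderOf x₀) (fun h => hx₀ (orderOf_eq_one_iff.1 h))
  haveI : Fact p.Prime := ⟨hpp⟩
  obtain ⟨x, hxo, hax, hbx⟩ : ∃ x : G, orderOf x = p ∧ Commute a₀ x ∧ Commute b₀ x := by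
    refine ⟨x₀ ^ (orderOf x₀ / p), ?_, ha₀.pow_right _, hb₀.pow_right _⟩
    rw [orderOf_pow_of_dvd (Nat.div_pos (Nat.le_of_dvd (orderOf_pos x₀) hpd) hpp.pos).ne' (Nat.div_dvd_of_dvd hpd),
      Nat.div_div_self hpd (orderOf_pos x₀).ne']
  have hx1 : x ≠ 1 := by
    rintro rfl
    rw [orderOf_one] at hxo
    exact hpp.one_lt.ne hxo
  set C := Subgroup.centralizer ({x} : Set G) with hC
  have hCm : ∀ c, c ∈ C ↔ Commute c x := fun c => Subgroup.mem_centralizer_singleton_iff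
  have hxC : x ∈ C := (hCm x).2 (Commute.refl x)
  have hCn : ¬ ∀ a ∈ C, ∀ b ∈ C, a * b = b * a := fun h => hab (h a₀ ((hCm _).2 hax) b₀ ((hCm _).2 hbx))
  have hxK : ∀ K : Subgroup G, K ≤ C → (¬ ∀ a ∈ K, ∀ b ∈ K, a * b = b * a) → x ∈ K := by
    intro K hK hn
    apply hs K hn
    intro h hh
    have h1 : Commute h x := (hCm h).1 (hK hh)
    rw [← h1.eq, mul_inv_cancel_right]; exact hh
  -- the commutator subgroup
  set D := (commutator C).map C.subtype with hD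
  have hDC : D ≤ C := Subgroup.map_subtype_le _
  have hcomm : ∀ a ∈ C, ∀ b ∈ C, a * b * a⁻¹ * b⁻¹ ∈ D := by
    intro a ha b hb
    exact ⟨⟨a, ha⟩ * ⟨b, hb⟩ * ⟨a, ha⟩⁻¹ * ⟨b, hb⟩⁻¹,
      Subgroup.commutator_mem_commutator (H₁ := (⊤ : Subgroup C)) (H₂ := ⊤) (Subgroup.mem_top _) (Subgroup.mem_top _), rfl⟩
  -- no central elements of prime power order
  have hzD : ∀ (ℓ : ℕ) [Fact ℓ.Prime] (z : G) (j : ℕ), z ∈ D → (∀ c ∈ C, Commute c z) → z ^ ℓ ^ j = 1 → z = 1 := by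
    intro ℓ _ z j hz hzc hzj
    obtain ⟨z', hz', rfl⟩ := hz
    have h1 : IsPGroup ℓ (Subgroup.zpowers z') := by
      rintro ⟨y, i, rfl⟩
      refine ⟨j, ?_⟩
      apply Subtype.ext
      change (z' ^ i) ^ ℓ ^ j = 1
      have h2 : z' ^ ℓ ^ j = 1 := Subtype.ext hzj
      rw [← zpow_natCast, ← zpow_mul, mul_comm, zpow_mul, zpow_natCast, h2, one_zpow]
    obtain ⟨S, hS⟩ := h1.exists_le_sylow
    obtain ⟨S', hS'⟩ := (S.isPGroup'.map C.subtype).exists_le_sylow
    have h2 := Cfsg.Agent.H19.CA1.sylow_center S (fun a b => by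
      apply Subtype.ext
      apply Subtype.ext
      exact hsyl ℓ S' _ (hS' ⟨a, a.2, rfl⟩) _ (hS' ⟨b, b.2, rfl⟩)) (z := z')
      (by
        rw [Subgroup.mem_center_iff]
        intro g
        exact Subtype.ext (hzc g g.2)) (hS (Subgroup.mem_zpowers z')) hz'
    rw [h2]; rfl
  have hDel : ∀ z ∈ D, (∀ c ∈ C, Commute c z) → z = 1 := by
    intro z hz hzc
    by_contra hz1
    obtain ⟨ℓ, hℓ, hℓd⟩ := Nat.exists_prime_and_dvd (n := orderOf z) (fun h => hz1 (orderOf_eq_one_iff.1 h))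
    haveI : Fact ℓ.Prime := ⟨hℓ⟩
    have h1 : orderOf (z ^ (orderOf z / ℓ)) = ℓ := by
      rw [orderOf_pow_of_dvd (Nat.div_pos (Nat.le_of_dvd (orderOf_pos z) hℓd) hℓ.pos).ne' (Nat.div_dvd_of_dvd hℓd),
        Nat.div_div_self hℓd (orderOf_pos z).ne']
    have h2 := hzD ℓ (z ^ (orderOf z / ℓ)) 1 (pow_mem hz _) (fun c hc => (hzc c hc).pow_right _)
      (by rw [pow_one]; nth_rewrite 2 [← h1]; exact pow_orderOf_eq_one _)
    rw [h2, orderOf_one] at h1
    exact hℓ.one_lt.ne h1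
  have hxcen : ∀ c ∈ C, Commute c x := fun c hc => (hCm c).1 hc
  have hxp : x ^ p = 1 := by rw [← hxo]; exact pow_orderOf_eq_one x
  have hxD : x ∉ D := fun h => hx1 (hDel x h hxcen)
  have hDa : ∀ a ∈ D, ∀ b ∈ D, a * b = b * a := by
    by_contra h
    exact hxD (hxK D hDC h)
  have hgen : ∀ g ∈ C, (¬ ∀ a ∈ D ⊔ Subgroup.zpowers g, ∀ b ∈ D ⊔ Subgroup.zpowers g, a * b = b * a) → C ≤ D ⊔ Subgroup.zpowers g := by
    intro g hg hn c hc
    apply hs _ hn
    intro h hh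
    have h1 : h ∈ C := (sup_le hDC (by rwa [Subgroup.zpowers_le])) hh
    have e : c * h * c⁻¹ = (c * h * c⁻¹ * h⁻¹) * h := by group
    rw [e]
    exact mul_mem (Subgroup.mem_sup_left (hcomm c hc h h1)) hh
  have hDn : ∀ g ∈ C, ∀ d ∈ D, g * d * g⁻¹ ∈ D := by
    intro g hg d hd
    have e : g * d * g⁻¹ = (g * d * g⁻¹ * d⁻¹) * d := by group
    rw [e]
    exact mul_mem (hcomm g hg d (hDC hd)) hd
  have hmem : ∀ g ∈ C, ∀ y ∈ D ⊔ Subgroup.zpowers g, ∃ d ∈ D, ∃ i : ℤ, d * g ^ i = y := by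
    intro g hg y hy
    have h1 : Subgroup.zpowers g ≤ Subgroup.normalizer (D : Set G) := by
      rw [Subgroup.zpowers_le]; exact mem_norm_iff.2 (hDn g hg)
    have h2 : y ∈ (D : Set G) * ((Subgroup.zpowers g : Subgroup G) : Set G) := by
      rw [← Subgroup.coe_mul_of_right_le_normalizer_left _ _ h1]; exact hy
    obtain ⟨d, hd, z, ⟨i, rfl⟩, h⟩ := h2
    exact ⟨d, hd, i, h⟩
  -- abelian iff g commutes with D
  have habel : ∀ g ∈ C, (∀ d ∈ D, Commute g d) → ∀ a ∈ D ⊔ Subgroup.zpowers g, ∀ b ∈ D ⊔ Subgroup.zpowers g, a * b = b * a := by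
    intro g hg hgd a ha b hb
    obtain ⟨d, hd, i, rfl⟩ := hmem g hg a ha
    obtain ⟨d', hd', i', rfl⟩ := hmem g hg b hb
    have h1 : Commute d (g ^ i') := ((hgd d hd).symm).zpow_right i'
    have h2 : Commute (g ^ i) d' := (hgd d' hd').zpow_left i
    have h3 : Commute d d' := hDa d hd d' hd'
    have h4 : Commute (g ^ i) (g ^ i') := (Commute.refl g).zpow_zpow i i'
    exact ((h3.mul_right h1).mul_left (h2.mul_right h4)).eq
  obtain ⟨g, hg, d₁, hd₁, hgd₁⟩ : ∃ g ∈ C, ∃ d ∈ D, ¬ Commute g d := by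
    by_contra h
    push Not at h
    apply hCn
    intro a ha b hb
    have h1 := hDel _ (hcomm a ha b hb) (fun c hc => h c hc _ (hcomm a ha b hb))
    rw [mul_inv_eq_one, mul_inv_eq_iff_eq_mul] at h1
    exact h1
  have hnona : ∀ g ∈ C, (∃ d ∈ D, ¬ Commute g d) → C ≤ D ⊔ Subgroup.zpowers g := by
    rintro g hg ⟨d, hd, hgd⟩
    apply hgen g hg
    intro h
    exact hgd (h g (Subgroup.mem_sup_right (Subgroup.mem_zpowers g)) d (Subgroup.mem_sup_left hd))
  -- decomposition of g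
  obtain ⟨y, hy, z, hz, hyz, ⟨k, hyk⟩, hpz⟩ := parts p g
  have hyC : y ∈ C := (Subgroup.zpowers_le.2 hg) hy
  have hzC : z ∈ C := (Subgroup.zpowers_le.2 hg) hz
  have hzd : ∀ d ∈ D, Commute z d := by
    by_contra hcon
    push Not at hcon
    have h1 := hnona z hzC hcon
    obtain ⟨d, hd, i, hdi⟩ := hmem z hzC x (h1 hxC)
    -- x ^ orderOf z ∈ D
    have h2 : ∀ j : ℕ, ∃ d' ∈ D, d' * (z ^ i) ^ j = x ^ j := by
      intro j
      induction j with
      | zero => exact ⟨1, one_mem _, by simp⟩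
      | succ j ih =>
        obtain ⟨d', hd', h'⟩ := ih
        refine ⟨d' * ((z ^ i) ^ j * d * ((z ^ i) ^ j)⁻¹), mul_mem hd' (hDn _ (pow_mem (zpow_mem hzC i) j) d hd), ?_⟩
        rw [pow_succ x, ← h', ← hdi, pow_succ (z ^ i)]; group
    obtain ⟨d', hd', h'⟩ := h2 (orderOf z)
    have h3 : (z ^ i) ^ orderOf z = 1 := by
      rw [← zpow_natCast, ← zpow_mul, mul_comm, zpow_mul, zpow_natCast, pow_orderOf_eq_one, one_zpow]
    rw [h3, mul_one] at h'
    have h4 : x ^ orderOf z = 1 := hDel _ (h' ▸ hd') (fun c hc => (hxcen c hc).pow_right _)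
    have h5 := orderOf_dvd_of_pow_eq_one h4
    rw [hxo] at h5
    exact hpz h5
  have hyd : ∃ d ∈ D, ¬ Commute y d := by
    refine ⟨d₁, hd₁, fun h => hgd₁ ?_⟩
    rw [← hyz]; exact h.mul_left (hzd d₁ hd₁)
  have hCy := hnona y hyC hyd
  -- a Sylow p-subgroup of C
  have hyp : IsPGroup p (Subgroup.zpowers (⟨y, hyC⟩ : C)) := by
    rintro ⟨w, i, rfl⟩
    refine ⟨k, ?_⟩
    apply Subtype.ext
    apply Subtype.ext
    change (y ^ i) ^ p ^ k = 1
    rw [← zpow_natCast, ← zpow_mul, mul_comm, zpow_mul, zpow_natCast, hyk, one_zpow]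
  obtain ⟨Y, hY⟩ := hyp.exists_le_sylow
  obtain ⟨S, hYS⟩ := (Y.isPGroup'.map C.subtype).exists_le_sylow
  have hyS : y ∈ (S : Subgroup G) := hYS ⟨⟨y, hyC⟩, hY (Subgroup.mem_zpowers _), rfl⟩
  have hxY : (⟨x, hxC⟩ : C) ∈ (Y : Subgroup C) := by
    have h1 : (Subgroup.zpowers (⟨x, hxC⟩ : C)).Normal := by
      constructor
      rintro _ ⟨i, rfl⟩ c
      refine ⟨i, ?_⟩
      have h2 : Commute c (⟨x, hxC⟩ : C) := Subtype.ext (hxcen c c.2)
      have h3 := (h2.zpow_right i).eq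
      change (⟨x, hxC⟩ : C) ^ i = c * (⟨x, hxC⟩ : C) ^ i * c⁻¹
      rw [h3, mul_inv_cancel_right]
    have h2 : IsPGroup p (Subgroup.zpowers (⟨x, hxC⟩ : C)) := by
      rintro ⟨w, i, rfl⟩
      refine ⟨1, ?_⟩
      apply Subtype.ext
      apply Subtype.ext
      change (x ^ i) ^ p ^ 1 = 1
      rw [pow_one, ← zpow_natCast, ← zpow_mul, mul_comm, zpow_mul, zpow_natCast, hxp, one_zpow]
    exact h2.le_sylow_of_normal Y (Subgroup.mem_zpowers _)
  have hxS : x ∈ (S : Subgroup G) := hYS ⟨⟨x, hxC⟩, hxY, rfl⟩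
  have hSC : ∀ s ∈ (S : Subgroup G), s ∈ C := fun s hs' => (hCm s).2 (hsyl p S s hs' x hxS)
  have hSy : ∀ s ∈ (S : Subgroup G), ∃ i : ℤ, y ^ i = s := by
    intro s hs'
    obtain ⟨d, hd, i, hdi⟩ := hmem y hyC s (hCy (hSC s hs'))
    have h1 : d ∈ (S : Subgroup G) := by
      have e : d = s * (y ^ i)⁻¹ := by rw [← hdi]; group
      rw [e]; exact mul_mem hs' (inv_mem (zpow_mem hyS i))
    have h2 : Commute y d := hsyl p S y hyS d h1
    obtain ⟨j, hj⟩ := S.isPGroup' ⟨d, h1⟩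
    have h3 : d = 1 := by
      apply hzD p d j hd _ (congrArg Subtype.val hj)
      intro c hc
      obtain ⟨d', hd', i', rfl⟩ := hmem y hyC c (hCy hc)
      have h4 : Commute d' d := hDa d' hd' d hd
      exact h4.mul_left (h2.zpow_left i')
    exact ⟨i, by rw [← hdi, h3, one_mul]⟩
  -- normalizer of S
  obtain ⟨jx, hjx⟩ := hSy x hxS
  have hnC : ∀ n ∈ Subgroup.normalizer ((S : Subgroup G) : Set G), n ∈ C := by
    intro n hn
    obtain ⟨m, hm⟩ := hSy (n * y * n⁻¹) (mem_norm_iff.1 hn y hyS)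
    have h1 : n * x * n⁻¹ = x ^ m := by
      rw [← hjx, ← conj_zpow, ← hm, ← zpow_mul, ← zpow_mul, mul_comm]
    have h2 : n⁻¹ ∈ C := by
      apply hs C hCn
      intro c hc
      rw [hCm]
      have h3 : Commute c (n * x * n⁻¹) := by rw [h1]; exact (hxcen c hc).zpow_right m
      have h4 : n⁻¹ * c * n * x = x * (n⁻¹ * c * n) := by
        have h5 : c * (n * x * n⁻¹) = (n * x * n⁻¹) * c := h3
        calc n⁻¹ * c * n * x = n⁻¹ * (c * (n * x * n⁻¹)) * n := by group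
          _ = _ := by rw [h5]; group
      rw [inv_inv]; exact h4
    have := inv_mem h2
    rwa [inv_inv] at this
  have hNC : Subgroup.normalizer ((S : Subgroup G) : Set G) ≤ Subgroup.centralizer ((S : Subgroup G) : Set G) := by
    intro n hn
    suffices hny : Commute n y by
      rw [Subgroup.mem_centralizer_iff]
      intro s hs'
      obtain ⟨i, rfl⟩ := hSy s hs'
      exact ((hny.zpow_right i).eq).symm
    obtain ⟨m, hm⟩ := hSy (n * y * n⁻¹) (mem_norm_iff.1 hn y hyS)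
    have h1 : n * x * n⁻¹ = x ^ m := by
      rw [← hjx, ← conj_zpow, ← hm, ← zpow_mul, ← zpow_mul, mul_comm]
    have h2 : x = x ^ m := by
      rw [← h1, (hxcen n (hnC n hn)).eq, mul_inv_cancel_right]
    have h3 : (p : ℤ) ∣ m - 1 := by
      rw [← hxo, orderOf_dvd_iff_zpow_eq_one, zpow_sub, zpow_one, ← h2, mul_inv_cancel]
    have h4 : ((p : ℤ) ^ (k + 1)) ∣ m ^ p ^ k - 1 ^ p ^ k := dvd_sub_pow_of_dvd_sub h3 k
    have h5 : ∀ j : ℕ, n ^ j * y * (n ^ j)⁻¹ = y ^ (m ^ j) := by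
      intro j
      induction j with
      | zero => simp
      | succ j ih =>
        calc n ^ (j + 1) * y * (n ^ (j + 1))⁻¹ = n * (n ^ j * y * (n ^ j)⁻¹) * n⁻¹ := by rw [pow_succ']; group
          _ = n * y ^ (m ^ j) * n⁻¹ := by rw [ih]
          _ = (n * y * n⁻¹) ^ (m ^ j) := by rw [conj_zpow]
          _ = _ := by rw [← hm, ← zpow_mul, pow_succ']
    have h6 : Commute (n ^ p ^ k) y := by
      have h7 := h5 (p ^ k)
      have h8 : y ^ (m ^ p ^ k) = y := by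
        obtain ⟨r, hr⟩ := h4
        have h9 : m ^ p ^ k = 1 + (p ^ k : ℕ) * (p * r) := by
          rw [one_pow] at hr
          push_cast
          linear_combination hr
        rw [h9, zpow_add, zpow_one, zpow_mul, zpow_natCast, hyk, one_zpow, mul_one]
      rw [h8, mul_inv_eq_iff_eq_mul] at h7
      exact h7
    obtain ⟨u, hu, v, hv, huv, ⟨ku, hku⟩, hpv⟩ := parts p n
    have hu' : u ∈ Subgroup.normalizer ((S : Subgroup G) : Set G) := (Subgroup.zpowers_le.2 hn) hu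
    have hup : IsPGroup p (Subgroup.zpowers u) := by
      rintro ⟨w, i, rfl⟩
      refine ⟨ku, ?_⟩
      apply Subtype.ext
      change (u ^ i) ^ p ^ ku = 1
      rw [← zpow_natCast, ← zpow_mul, mul_comm, zpow_mul, zpow_natCast, hku, one_zpow]
    have huS : u ∈ (S : Subgroup G) := by
      have h7 : u ∈ Subgroup.zpowers u ⊓ Subgroup.normalizer ((S : Subgroup G) : Set G) := ⟨Subgroup.mem_zpowers u, hu'⟩
      have h9 : u ∈ Subgroup.zpowers u ⊓ (S : Subgroup G) := by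
        rw [← hup.inf_normalizer_sylow S]; exact h7
      exact h9.2
    have hvy : Commute v y := by
      obtain ⟨i, rfl⟩ := hv
      have h7 : Commute ((n ^ i) ^ p ^ k) y := by
        have e : (n ^ i) ^ p ^ k = (n ^ p ^ k) ^ i := by
          rw [← zpow_natCast, ← zpow_natCast, ← zpow_mul, ← zpow_mul, mul_comm]
        rw [e]; exact h6.zpow_left i
      have h8 : (orderOf (n ^ i)).Coprime (p ^ k) :=
        Nat.Coprime.pow_right _ ((Nat.Prime.coprime_iff_not_dvd hpp).2 hpv).symm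
      obtain ⟨t, ht⟩ := exists_pow_eq_self_of_coprime h8.symm
      change Commute (n ^ i) y
      rw [← ht]
      exact h7.pow_left t
    rw [← huv]
    exact (show Commute u y from hsyl p S u huS y hyS).mul_left hvy
  refine hnp p ?_ ⟨S, (MonoidHom.transferSylow S hNC).ker, inferInstance, MonoidHom.ker_transferSylow_isComplement' S hNC⟩
  rw [← hxo]; exact orderOf_dvd_natCard x

end Cfsg.Agent.H19.SN
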