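import Cfsg.Statements.S2202
import Mathlib
import Cfsg.Agent.H19_CA7
import Cfsg.Agent.H23_PBasic

set_option autoImplicit false
open Cfsg

namespace Cfsg.Agent.S2202


/-- Finite groups in which the centralizer of every involution is abelian. Let G be a finite group of even order in which the centralizer of every element of order 2 is abelian. Then the Sylow 2-subgroups of G are cyclic, or a Sylow 2-subgroup of G is normal, or G is isomorphic to the direct product of SL₂(F) for a finite field F of characteristic two and an abelian group of odd order. -/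
theorem result {G : Type*} [Group G] [Finite G] (heven : Even (Nat.card G)) (h : ∀ t : G, orderOf t = 2 → IsMulCommutative ↥(Subgroup.centralizer ({t} : Set G))) :
    (∀ P : Sylow 2 G, IsCyclic ↥P) ∨ (∀ P : Sylow 2 G, (P : Subgroup G).Normal) ∨
    (∃ (F : Type) (_ : Field F) (_ : Fintype F) (A : Type) (_ : CommGroup A) (_ : Finite A), CharP F 2 ∧ Odd (Nat.card A) ∧ Nonempty (G ≃* Matrix.SpecialLinearGroup (Fin 2) F × A)) := by
  classical
  haveI : Fact (Nat.Prime 2) := ⟨Nat.prime_two⟩
  have hyp : Cfsg.Agent.H19.CA1.Hyp G := by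
    intro t ht a b ha hb
    have h1 := (h t ht).1.1 ⟨a, Subgroup.mem_centralizer_singleton_iff.mpr ha.eq⟩
      ⟨b, Subgroup.mem_centralizer_singleton_iff.mpr hb.eq⟩
    exact congrArg (fun x : Subgroup.centralizer ({t} : Set G) => (x : G)) h1
  by_cases hn : Cfsg.Agent.H19.CA1.HN G
  · by_cases hc : Cfsg.Agent.H19.CA1.HC G
    · right; right
      exact Cfsg.Agent.H19.CA1.main _ G rfl hyp hc hn
    · left
      intro P
      have hPc := Cfsg.Agent.H19.CA1.sylow_comm hyp P
      refine Cfsg.Agent.H23.PBasic.cyclic_of_card_le _ (P : Subgroup G) rfl P.isPGroup' (Or.inr fun a b => Subtype.ext (hPc a a.2 b b.2)) ?_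
      have huq : ∀ x y : (P : Subgroup G), x ^ 2 = 1 → y ^ 2 = 1 → x ≠ 1 → y ≠ 1 → x = y := by
        intro x y hx hy hx1 hy1
        by_contra hxy
        apply hc
        refine ⟨x, y, ?_, ?_, fun h0 => hxy (Subtype.ext h0), hPc x x.2 y y.2⟩
        · rw [Subgroup.orderOf_coe]; exact orderOf_eq_prime hx hx1
        · rw [Subgroup.orderOf_coe]; exact orderOf_eq_prime hy hy1
      have hinj : Function.Injective (fun x : {x : (P : Subgroup G) // x ^ 2 = 1} => (if x.1 = 1 then (0 : Fin 2) else 1)) := by
        intro x y hxy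
        simp only at hxy
        by_cases hx : x.1 = 1
        · by_cases hy : y.1 = 1
          · exact Subtype.ext (hx.trans hy.symm)
          · rw [if_pos hx, if_neg hy] at hxy
            exact absurd hxy (by decide)
        · by_cases hy : y.1 = 1
          · rw [if_neg hx, if_pos hy] at hxy
            exact absurd hxy (by decide)
          · exact Subtype.ext (huq _ _ x.2 y.2 hx hy)
      have := Nat.card_le_card_of_injective _ hinj
      rwa [Nat.card_eq_fintype_card (α := Fin 2), Fintype.card_fin] at this
  · right; left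
    intro P
    have hu : ∀ g : G, g • P = P := by
      intro g
      by_contra hne
      obtain ⟨t, htP, ht⟩ := Cfsg.Agent.H19.CA1.exists_inv heven P
      obtain ⟨s, hsP, hs⟩ := Cfsg.Agent.H19.CA1.exists_inv heven (g • P)
      apply hn
      refine ⟨s, t, hs, ht, fun hst => hne ?_⟩
      have h1 : s ∈ (P : Subgroup G) := (Cfsg.Agent.H19.CA1.fix_iff hs).1
        (Cfsg.Agent.H19.CA1.smul_eq_of_CC ((Cfsg.Agent.H19.CA1.cent_iff hyp ht htP).1 hst))
      exact Cfsg.Agent.H19.CA1.uniq hyp hs hsP h1
    rw [← Subgroup.normalizer_eq_top_iff, eq_top_iff]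
    intro g _
    exact Cfsg.Agent.H19.CA1.smul_eq_iff.1 (hu g)

end Cfsg.Agent.S2202
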