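import Mathlib
import Cfsg.Agent.H19_SN2
import Cfsg.Agent.H19_SN4
import Cfsg.Agent.S2202

set_option autoImplicit false

/-!
Simple groups all of whose nonabelian subgroups are self-normalizing.
-/

namespace Cfsg.Agent.H19.SN

open Cfsg.Agent.H5.SL2

universe u

theorem SNA.equiv {G H : Type*} [Group G] [Group H] (e : G ≃* H) (h : SNA G) : SNA H := by
  intro K hK x hx
  have h1 := h (K.comap e.toMonoidHom) (fun hc => hK (by
    intro a ha b hb
    have h2 := hc (e.symm a) (by change e (e.symm a) ∈ K; rwa [e.apply_symm_apply]) (e.symm b) (by change e (e.symm b) ∈ K; rwa [e.apply_symm_apply])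
    rw [← map_mul, ← map_mul] at h2
    exact e.symm.injective h2)) (e.symm x) (by
    intro y hy
    change e (e.symm x * y * (e.symm x)⁻¹) ∈ K
    rw [map_mul, map_mul, map_inv, e.apply_symm_apply]
    exact hx _ hy)
  change e (e.symm x) ∈ K at h1
  rwa [e.apply_symm_apply] at h1

theorem sna_iff {G : Type*} [Group G] [Finite G] : SNA G ↔
    (∀ H : Subgroup G, ¬ IsMulCommutative H → Subgroup.normalizer (H : Set G) = H) := by
  have hc : ∀ H : Subgroup G, IsMulCommutative H ↔ ∀ a ∈ H, ∀ b ∈ H, a * b = b * a := by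
    intro H
    constructor
    · intro h a ha b hb
      exact congrArg Subtype.val (h.1.1 ⟨a, ha⟩ ⟨b, hb⟩)
    · intro h
      exact ⟨⟨fun a b => Subtype.ext (h a a.2 b b.2)⟩⟩
  constructor
  · intro h H hH
    apply le_antisymm _ Subgroup.le_normalizer
    intro g hg
    exact h H (fun h0 => hH ((hc H).2 h0)) g (mem_norm_iff.1 hg)
  · intro h H hH g hg
    rw [← h H (fun h0 => hH ((hc H).1 h0))]
    exact mem_norm_iff.2 hg

theorem sl2_prime {F : Type*} [Field F] [Fintype F] [CharP F 2] (h : SNA (S F)) (hF : 2 < Fintype.card F) : (Fintype.card F - 1).Prime := by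
  classical
  obtain ⟨ℓ, hℓ, hℓd⟩ := Nat.exists_prime_and_dvd (n := Fintype.card F - 1) (by omega)
  have hodd : Odd (Fintype.card F - 1) := by
    obtain ⟨n, -, hn⟩ := FiniteField.card F 2
    rw [hn]
    have : Even (2 ^ (n : ℕ)) := (Nat.even_pow).2 ⟨even_two, n.ne_zero⟩
    obtain ⟨j, hj⟩ := this
    rw [hj] at hn ⊢
    exact ⟨j - 1, by omega⟩
  let K : Subgroup (S F) :=
    { carrier := {g | g.1 1 0 = 0 ∧ g.1 0 0 ^ ℓ = 1}
      mul_mem' := by
        rintro a b ⟨ha1, ha2⟩ ⟨hb1, hb2⟩
        refine ⟨?_, ?_⟩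
        · rw [mul10, ha1, hb1]; ring
        · rw [mul00, hb1, mul_zero, add_zero, mul_pow, ha2, hb2, one_mul]
      one_mem' := ⟨one10, by rw [one00, one_pow]⟩
      inv_mem' := by
        rintro a ⟨ha1, ha2⟩
        refine ⟨by rw [inv10, ha1, neg_zero], ?_⟩
        rw [inv00]
        have h1 := det_eq a
        rw [ha1, mul_zero, sub_zero] at h1
        have h2 : a.1 0 0 ^ ℓ * a.1 1 1 ^ ℓ = 1 := by rw [← mul_pow, h1, one_pow]
        rwa [ha2, one_mul] at h2 }
  haveI : Fact ℓ.Prime := ⟨hℓ⟩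
  have hKn : ¬ ∀ a ∈ K, ∀ b ∈ K, a * b = b * a := by
    intro hc
    obtain ⟨a, ha⟩ := exists_prime_orderOf_dvd_card (G := Fˣ) ℓ (by rw [Fintype.card_units]; exact hℓd)
    have h1 := hc (u 1) ⟨by simp, by simp⟩ (d a) ⟨by simp, by
      rw [d00, ← Units.val_pow_eq_pow_val, ← ha, pow_orderOf_eq_one]; rfl⟩
    have h2 := congrArg (fun g : S F => g.1 0 1) h1
    simp only [mul01, u00, u01, u11, d00, d01, d11] at h2
    have h3 : ((a⁻¹ : Fˣ) : F) = (a : F) := by simpa using h2
    have h4 : a⁻¹ = a := Units.ext h3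
    have h5 : a ^ 2 = 1 := by
      rw [pow_two]; nth_rewrite 1 [← h4]; exact inv_mul_cancel a
    have h6 : orderOf a ∣ 2 := orderOf_dvd_of_pow_eq_one h5
    rw [ha] at h6
    have h7 : ℓ = 2 := (Nat.prime_dvd_prime_iff_eq hℓ Nat.prime_two).1 h6
    rw [h7] at hℓd
    exact (Nat.not_even_iff_odd.2 hodd) (even_iff_two_dvd.2 hℓd)
  have hall : ∀ b : Fˣ, b ^ ℓ = 1 := by
    intro b
    have h1 : d b ∈ K := by
      apply h K hKn
      rintro g ⟨hg1, hg2⟩
      refine ⟨?_, ?_⟩
      · simp only [mul00, mul01, mul10, mul11, inv00, inv01, inv10, inv11, d00, d01, d10, d11, hg1]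
        ring
      · have e : (d b * g * (d b)⁻¹).1 0 0 = g.1 0 0 := by
          simp only [mul00, mul01, mul10, mul11, inv00, inv01, inv10, inv11, d00, d01, d10, d11, hg1]
          have : (b : F) * ((b⁻¹ : Fˣ) : F) = 1 := by rw [← Units.val_mul, mul_inv_cancel]; rfl
          linear_combination (g.1 0 0) * this
        rw [e]; exact hg2
    have h2 := h1.2
    rw [d00, ← Units.val_pow_eq_pow_val] at h2
    exact Units.ext h2
  obtain ⟨b, hb⟩ := IsCyclic.exists_generator (α := Fˣ)
  have h1 := orderOf_eq_card_of_forall_mem_zpowers hb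
  rw [Nat.card_eq_fintype_card, Fintype.card_units] at h1
  have h2 : orderOf b ∣ ℓ := orderOf_dvd_of_pow_eq_one (hall b)
  rw [h1] at h2
  have h3 : Fintype.card F - 1 = ℓ := by
    rcases (Nat.dvd_prime hℓ).1 h2 with h4 | h4
    · omega
    · exact h4
  rw [h3]; exact hℓ

theorem no_npc {G : Type u} [Group G] [Finite G] [IsSimpleGroup G] (hna : ¬ ∀ a b : G, a * b = b * a) (p : ℕ) [hp : Fact p.Prime]
    (hpd : p ∣ Nat.card G) : ¬ HasNormalPComplement p G := by
  rintro ⟨P, N, hN, hc⟩
  rcases hN.eq_bot_or_eq_top with h | h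
  · rw [h] at hc
    have hP := Subgroup.isComplement'_bot_left.1 hc
    have h1 : IsPGroup p G := by
      have := P.isPGroup'
      rw [hP] at this
      exact this.of_equiv Subgroup.topEquiv
    haveI : Group.IsNilpotent G := h1.isNilpotent
    haveI : Nontrivial (Subgroup.center G) := by
      haveI : Nontrivial G := inferInstance
      exact h1.center_nontrivial
    have h2 : (Subgroup.center G).Normal := inferInstance
    rcases h2.eq_bot_or_eq_top with h3 | h3
    · exact (Subgroup.nontrivial_iff_ne_bot _).1 inferInstance h3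
    · apply hna
      intro a b
      have : b ∈ Subgroup.center G := by rw [h3]; trivial
      exact (Subgroup.mem_center_iff.1 this a)
  · rw [h] at hc
    have hP := Subgroup.isComplement'_top_left.1 hc
    have h1 := P.dvd_card_of_dvd_card hpd
    rw [show Nat.card P = Nat.card (P : Subgroup G) from rfl, hP, Subgroup.card_bot] at h1
    exact hp.out.one_lt.ne' (Nat.dvd_one.1 h1)

end Cfsg.Agent.H19.SN
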