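import Mathlib
import Cfsg.Prelude.Def_Involutions
import Cfsg.Prelude.Def_LieExceptional
import Cfsg.Agent.H4_Inv
import Cfsg.Agent.H4_Util
import Cfsg.Agent.H4_SE
import Cfsg.Agent.H4_ZCor

set_option autoImplicit false

/-!
Finite groups whose Sylow 2-subgroups have central involutions with a common centralizer,
distinct Sylow 2-subgroups having no common involution: Zassenhaus group structure.
Points are Sylow 2-subgroups.
-/

namespace Cfsg.Agent.H19.TI1

open Cfsg.Agent.H4.Inv Cfsg.Agent.H4.Util Cfsg.Agent.H4.SE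

variable {G : Type*} [Group G] [Finite G]

/-- the hypothesis -/
structure Hyp (G : Type*) [Group G] : Prop where
  cent : ∀ (P : Sylow 2 G) (t a s : G), orderOf t = 2 → t ∈ (P : Subgroup G) → Commute a t → orderOf s = 2 →
    s ∈ (P : Subgroup G) → s * a = a * s
  uq : ∀ (P Q : Sylow 2 G) (t : G), orderOf t = 2 → t ∈ (P : Subgroup G) → t ∈ (Q : Subgroup G) → P = Q

/-- common centralizer of the involutions of a Sylow 2-subgroup -/
abbrev CC (P : Sylow 2 G) : Subgroup G := Subgroup.centralizer {t : G | orderOf t = 2 ∧ t ∈ (P : Subgroup G)}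

omit [Finite G] in
theorem mem_CC {P : Sylow 2 G} {a : G} : a ∈ CC P ↔ ∀ x : G, orderOf x = 2 → x ∈ (P : Subgroup G) → x * a = a * x := by
  rw [Subgroup.mem_centralizer_iff]
  exact ⟨fun h x hx hxP => h x ⟨hx, hxP⟩, fun h x hx => h x hx.1 hx.2⟩

omit [Finite G] in
theorem mem_CC_smul {P : Sylow 2 G} {g a : G} : a ∈ CC (g • P) ↔ g⁻¹ * a * g ∈ CC P := by
  rw [mem_CC, mem_CC]
  constructor
  · intro h x hx2 hx
    have h1 := h (g * x * g⁻¹) (by rw [orderOf_conj]; exact hx2) (by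
                                   rw [mem_smul_sylow]; have e : g⁻¹ * (g * x * g⁻¹) * g = x := by group
                                   rw [e]; exact hx)
    have h2 : g⁻¹ * (g * x * g⁻¹ * a) * g = g⁻¹ * (a * (g * x * g⁻¹)) * g := by rw [h1]
    calc x * (g⁻¹ * a * g) = g⁻¹ * (g * x * g⁻¹ * a) * g := by group
      _ = _ := by rw [h2]; group
  · intro h x hx2 hx
    rw [mem_smul_sylow] at hx
    have h1 := h _ (by have := orderOf_conj g⁻¹ x; rw [inv_inv] at this; rw [this]; exact hx2) hx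
    calc x * a = g * ((g⁻¹ * x * g) * (g⁻¹ * a * g)) * g⁻¹ := by group
      _ = _ := by rw [h1]; group

omit [Finite G] in
theorem smul_eq_iff {P : Sylow 2 G} {g : G} : g • P = P ↔ g ∈ Subgroup.normalizer ((P : Subgroup G) : Set G) :=
  Sylow.smul_eq_iff_mem_normalizer

theorem exists_inv (he : Even (Nat.card G)) (P : Sylow 2 G) : ∃ t ∈ (P : Subgroup G), orderOf t = 2 := by
  haveI : Fact (Nat.Prime 2) := ⟨Nat.prime_two⟩
  have h2 : 2 ∣ Nat.card P := P.dvd_card_of_dvd_card he.two_dvd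
  obtain ⟨t, ht⟩ := exists_prime_orderOf_dvd_card' (G := (P : Subgroup G)) 2 h2
  exact ⟨t, t.2, by rw [Subgroup.orderOf_coe]; exact ht⟩

theorem sylow_comm' (h : Hyp G) (he : Even (Nat.card G)) (T : Sylow 2 G) :
    ∀ a ∈ (T : Subgroup G), ∀ b ∈ (T : Subgroup G), orderOf b = 2 → b * a = a * b := by
  obtain ⟨z, hzT, hz, hc⟩ := Cfsg.Agent.H4.ZCor.exists_central T he.two_dvd
  exact fun a ha b hb hb2 => h.cent T z a b hz hzT (hc a ha) hb2 hb

theorem sylow_comm (h : Hyp G) (T : Sylow 2 G) :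
    ∀ a ∈ (T : Subgroup G), orderOf a = 2 → ∀ b ∈ (T : Subgroup G), orderOf b = 2 → a * b = b * a := by
  intro a ha ha2 b hb hb2
  exact sylow_comm' h (even_iff_two_dvd.2 (ha2 ▸ orderOf_dvd_natCard a)) T b hb a ha ha2

theorem le_CC (h : Hyp G) (he : Even (Nat.card G)) (P : Sylow 2 G) : (P : Subgroup G) ≤ CC P := by
  intro a ha
  rw [mem_CC]
  exact fun x hx hxP => sylow_comm' h he P a ha x hxP hx

theorem cent_iff (h : Hyp G) {P : Sylow 2 G} {t a : G} (ht : orderOf t = 2) (htP : t ∈ (P : Subgroup G)) :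
    Commute a t ↔ a ∈ CC P := by
  constructor
  · intro ha
    rw [mem_CC]
    exact fun x hx hxP => h.cent P t a x ht htP ha hx hxP
  · intro ha
    exact (mem_CC.1 ha t ht htP).symm

theorem le_of_le_normalizer {P Q : Sylow 2 G} (hQ : ∀ x ∈ (Q : Subgroup G), x • P = P) : P = Q := by
  haveI : Fact (Nat.Prime 2) := ⟨Nat.prime_two⟩
  have h1 := Q.isPGroup'.inf_normalizer_sylow P
  have h2 : (Q : Subgroup G) ≤ P := by
    intro x hx
    have h3 : x ∈ (Q : Subgroup G) ⊓ Subgroup.normalizer ((P : Subgroup G) : Set G) := ⟨hx, smul_eq_iff.1 (hQ x hx)⟩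
    have h6 : x ∈ (Q : Subgroup G) ⊓ (P : Subgroup G) := h1 ▸ h3
    exact h6.2
  exact Sylow.ext (Q.is_maximal' P.isPGroup' h2)

theorem uniq (h : Hyp G) {P Q : Sylow 2 G} {t : G} (ht : orderOf t = 2) (hP : t ∈ (P : Subgroup G))
    (hQ : t ∈ (Q : Subgroup G)) : P = Q := h.uq P Q t ht hP hQ

theorem smul_eq_of_CC (h : Hyp G) (he : Even (Nat.card G)) {P : Sylow 2 G} {g : G} (hg : g ∈ CC P) : g • P = P := by
  obtain ⟨t, htP, ht⟩ := exists_inv he P
  refine uniq h ht ?_ htP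
  rw [mem_smul_sylow]
  have h1 := mem_CC.1 hg t ht htP
  have e : g⁻¹ * t * g = t := by rw [mul_assoc, h1]; group
  rw [e]; exact htP

omit [Finite G] in
theorem mem_of_fix [Finite G] {P : Sylow 2 G} {t : G} {k : ℕ} (ht : orderOf t = 2 ^ k) (hf : t • P = P) : t ∈ (P : Subgroup G) := by
  haveI : Fact (Nat.Prime 2) := ⟨Nat.prime_two⟩
  have h3 : IsPGroup 2 (Subgroup.zpowers t) := zpowers_isPGroup ht
  have h4 := h3.inf_normalizer_sylow P
  have h5 : t ∈ Subgroup.zpowers t ⊓ Subgroup.normalizer ((P : Subgroup G) : Set G) :=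
    ⟨Subgroup.mem_zpowers _, smul_eq_iff.1 hf⟩
  have h6 : t ∈ Subgroup.zpowers t ⊓ (P : Subgroup G) := h4 ▸ h5
  exact h6.2

theorem fix_iff {P : Sylow 2 G} {t : G} (ht : orderOf t = 2) : t • P = P ↔ t ∈ (P : Subgroup G) :=
  ⟨fun hf => mem_of_fix (k := 1) (by simpa using ht) hf, fun hm => smul_eq_iff.2 (Subgroup.le_normalizer hm)⟩

theorem fix_unique (h : Hyp G) {P Q : Sylow 2 G} {t : G} (ht : orderOf t = 2) (hP : t • P = P) (hQ : t • Q = Q) : P = Q :=
  uniq h ht ((fix_iff ht).1 hP) ((fix_iff ht).1 hQ)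

theorem stronglyEmbedded (h : Hyp G) (he : Even (Nat.card G)) {P Q : Sylow 2 G} (hPQ : P ≠ Q) :
    Cfsg.IsStronglyEmbedded (Subgroup.normalizer ((P : Subgroup G) : Set G)) := by
  haveI : Fact (Nat.Prime 2) := ⟨Nat.prime_two⟩
  refine ⟨?_, ?_, ?_⟩
  · intro h0
    obtain ⟨g, hg⟩ := MulAction.exists_smul_eq G P Q
    have : g • P = P := smul_eq_iff.2 (by rw [h0]; trivial)
    exact hPQ (this.symm.trans hg)
  · obtain ⟨t, htP, ht⟩ := exists_inv he P
    exact even_of_mem ht (Subgroup.le_normalizer htP)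
  · intro g hg
    rw [← Nat.not_even_iff_odd]
    intro heven
    obtain ⟨t, ht⟩ := exists_prime_orderOf_dvd_card' (G := ↥(Subgroup.normalizer ((P : Subgroup G) : Set G) ⊓
      (Subgroup.normalizer ((P : Subgroup G) : Set G)).map (MulAut.conj g).toMonoidHom)) 2 heven.two_dvd
    have ht2 : orderOf (t : G) = 2 := by rw [Subgroup.orderOf_coe]; exact ht
    obtain ⟨h1, h2⟩ := (mem_inf_conj _ g (t : G)).mp t.2
    apply hg
    rw [← smul_eq_iff]
    apply fix_unique h ht2 _ (smul_eq_iff.2 h1)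
    rw [← smul_eq_iff, mul_smul, mul_smul, inv_smul_eq_iff] at h2
    exact h2

omit [Finite G] in
theorem smul_mk {P : Sylow 2 G} (g a b : G) :
    g • (QuotientGroup.mk a : G ⧸ Subgroup.normalizer ((P : Subgroup G) : Set G)) = QuotientGroup.mk b ↔ g • (a • P) = b • P := by
  change (QuotientGroup.mk (g * a) : G ⧸ Subgroup.normalizer ((P : Subgroup G) : Set G)) = QuotientGroup.mk b ↔ _
  rw [QuotientGroup.eq, ← smul_eq_iff, mul_smul, inv_smul_eq_iff, mul_smul, eq_comm]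

/-- the number of involutions of a Sylow 2-subgroup -/
noncomputable def mm (P : Sylow 2 G) : ℕ := Nat.card {t : G // orderOf t = 2 ∧ t ∈ (P : Subgroup G)}

theorem card_swap (h : Hyp G) (he : Even (Nat.card G)) {P Q : Sylow 2 G} (hPQ : P ≠ Q) :
    Nat.card {t : G // orderOf t = 2 ∧ t • P = Q} = mm P := by
  haveI : Fact (Nat.Prime 2) := ⟨Nat.prime_two⟩
  have hSE := stronglyEmbedded h he hPQ
  obtain ⟨g, hg⟩ := MulAction.exists_smul_eq G P Q
  have h1 := card_Im hSE (QuotientGroup.mk 1) (QuotientGroup.mk g) (by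
    intro h0
    have h2 := (smul_mk (P := P) 1 1 g).1 (by rw [one_smul]; exact h0)
    rw [one_smul, one_smul, hg] at h2
    exact hPQ h2)
  have e1 : Nat.card {t : G // orderOf t = 2 ∧ t • P = Q} = Nat.card (Im (Subgroup.normalizer ((P : Subgroup G) : Set G))
      (QuotientGroup.mk 1) (QuotientGroup.mk g)) := by
    refine Nat.card_congr (Equiv.subtypeEquivRight fun t => ?_)
    rw [smul_mk, one_smul, hg]
  rw [e1, h1, mm]
  refine Nat.card_congr (Equiv.subtypeEquivRight fun t => ?_)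
  constructor
  · rintro ⟨a, b⟩; exact ⟨a, (fix_iff a).1 (smul_eq_iff.2 b)⟩
  · rintro ⟨a, b⟩; exact ⟨a, smul_eq_iff.1 ((fix_iff a).2 b)⟩

theorem mm_pos (he : Even (Nat.card G)) (P : Sylow 2 G) : 0 < mm P := by
  obtain ⟨t, htP, ht⟩ := exists_inv he P
  haveI : Nonempty {t : G // orderOf t = 2 ∧ t ∈ (P : Subgroup G)} := ⟨⟨t, ht, htP⟩⟩
  exact Nat.card_pos

omit [Finite G] in
theorem mm_smul (P : Sylow 2 G) (g : G) : mm (g • P) = mm P := by
  unfold mm
  refine Nat.card_congr ⟨fun t => ⟨g⁻¹ * t * g, ?_, ?_⟩, fun t => ⟨g * t * g⁻¹, ?_, ?_⟩, ?_, ?_⟩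
  · have := orderOf_conj g⁻¹ t.1
    rw [inv_inv] at this
    rw [this, t.2.1]
  · exact (mem_smul_sylow P g t.1).1 t.2.2
  · rw [orderOf_conj]; exact t.2.1
  · rw [mem_smul_sylow]
    have e : g⁻¹ * (g * t.1 * g⁻¹) * g = t.1 := by group
    rw [e]; exact t.2.2
  · intro t; apply Subtype.ext; simp only; group
  · intro t; apply Subtype.ext; simp only; group

theorem mm_eq (P Q : Sylow 2 G) : mm P = mm Q := by
  haveI : Fact (Nat.Prime 2) := ⟨Nat.prime_two⟩
  obtain ⟨g, hg⟩ := MulAction.exists_smul_eq G Q P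
  rw [← hg, mm_smul]

/-- two point stabilizer -/
def DD (P Q : Sylow 2 G) : Subgroup G := MulAction.stabilizer G P ⊓ MulAction.stabilizer G Q

omit [Finite G] in
theorem mem_DD {P Q : Sylow 2 G} {g : G} : g ∈ DD P Q ↔ g • P = P ∧ g • Q = Q := by
  unfold DD
  rw [Subgroup.mem_inf, MulAction.mem_stabilizer_iff, MulAction.mem_stabilizer_iff]

theorem DD_odd (h : Hyp G) {P Q : Sylow 2 G} (hPQ : P ≠ Q) : Odd (Nat.card (DD P Q)) := by
  haveI : Fact (Nat.Prime 2) := ⟨Nat.prime_two⟩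
  rw [← Nat.not_even_iff_odd]
  intro heven
  obtain ⟨t, ht⟩ := exists_prime_orderOf_dvd_card' (G := ↥(DD P Q)) 2 heven.two_dvd
  have ht2 : orderOf (t : G) = 2 := by rw [Subgroup.orderOf_coe]; exact ht
  obtain ⟨h1, h2⟩ := mem_DD.1 t.2
  exact hPQ (fix_unique h ht2 h1 h2)

theorem odd_of_mem {K : Subgroup G} (hK : Odd (Nat.card K)) {x : G} (hx : x ∈ K) : Odd (orderOf x) := by
  have h1 := orderOf_dvd_natCard (⟨x, hx⟩ : K)
  rw [← Subgroup.orderOf_coe] at h1
  exact Odd.of_dvd_nat hK h1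

omit [Finite G] in
theorem eq_one_of_sq {x : G} (ho : Odd (orderOf x)) (h2 : x * x = 1) : x = 1 := by
  have h1 : orderOf x ∣ 2 := orderOf_dvd_of_pow_eq_one (by rw [pow_two, h2])
  rcases (Nat.dvd_prime Nat.prime_two).1 h1 with h | h
  · exact orderOf_eq_one_iff.1 h
  · rw [h] at ho; exact absurd ho (by decide)

theorem conj_inv_DD (h : Hyp G) (he : Even (Nat.card G)) {P Q : Sylow 2 G} (hPQ : P ≠ Q) {s t : G} (hs : orderOf s = 2)
    (ht : orderOf t = 2) (hsP : s ∈ (P : Subgroup G)) (htP : t ∈ (P : Subgroup G)) : ∃ d ∈ DD P Q, d * s * d⁻¹ = t := by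
  haveI : Fact (Nat.Prime 2) := ⟨Nat.prime_two⟩
  have hSE := stronglyEmbedded h he hPQ
  obtain ⟨g, hg⟩ := MulAction.exists_smul_eq G P Q
  obtain ⟨d, h1, h2, h3⟩ := conj_two_point hSE (x := QuotientGroup.mk 1) (y := QuotientGroup.mk g) (by
    intro h0
    have h2 := (smul_mk (P := P) 1 1 g).1 (by rw [one_smul]; exact h0)
    rw [one_smul, one_smul, hg] at h2
    exact hPQ h2) hs ht (by rw [smul_mk, one_smul]; exact (fix_iff hs).2 hsP) (by rw [smul_mk, one_smul]; exact (fix_iff ht).2 htP)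
  rw [smul_mk, one_smul] at h1
  rw [smul_mk, hg] at h2
  exact ⟨d, mem_DD.2 ⟨h1, h2⟩, h3⟩

omit [Finite G] in
/-- orbit-stabilizer for conjugation -/
theorem orb (D : Subgroup G) (X : Set G) (t : G) (htr : ∀ s ∈ X, ∃ d ∈ D, d * t * d⁻¹ = s)
    (hinv : ∀ d ∈ D, d * t * d⁻¹ ∈ X) : Nat.card D = Nat.card X * Nat.card ↥(D ⊓ Subgroup.centralizer ({t} : Set G)) := by
  let K := (Subgroup.centralizer ({t} : Set G)).subgroupOf D
  have hK : Nat.card K = Nat.card ↥(D ⊓ Subgroup.centralizer ({t} : Set G)) := by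
    have hKe : K = (D ⊓ Subgroup.centralizer ({t} : Set G)).subgroupOf D := by
      ext x
      simp [K, Subgroup.mem_subgroupOf]
    rw [hKe]
    exact Nat.card_congr (Subgroup.subgroupOfEquivOfLe inf_le_left).toEquiv
  have key : ∀ a b : D, (a : G) * t * (a : G)⁻¹ = b * t * (b : G)⁻¹ ↔ a⁻¹ * b ∈ K := by
    intro a b
    rw [Subgroup.mem_subgroupOf, Subgroup.mem_centralizer_singleton_iff]
    simp only [Subgroup.coe_mul, Subgroup.coe_inv]
    constructor
    · intro hab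
      calc (a : G)⁻¹ * b * t = (a : G)⁻¹ * (b * t * (b : G)⁻¹) * b := by group
        _ = (a : G)⁻¹ * (a * t * (a : G)⁻¹) * b := by rw [hab]
        _ = _ := by group
    · intro hab
      calc (a : G) * t * (a : G)⁻¹ = a * (t * ((a : G)⁻¹ * b)) * (b : G)⁻¹ := by group
        _ = _ := by rw [← hab]; group
  have e : Nat.card (D ⧸ K) = Nat.card X := by
    refine Nat.card_congr (Equiv.ofBijective (fun q => Quotient.liftOn' q (fun d : D => (⟨(d : G) * t * (d : G)⁻¹, hinv d d.2⟩ : X)) ?_) ⟨?_, ?_⟩)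
    · intro a b hab
      apply Subtype.ext
      exact (key a b).2 (QuotientGroup.leftRel_apply.1 hab)
    · intro q₁ q₂
      induction q₁ using QuotientGroup.induction_on with | H a => ?_
      induction q₂ using QuotientGroup.induction_on with | H b => ?_
      intro hq
      rw [QuotientGroup.eq]
      exact (key a b).1 (congrArg Subtype.val hq)
    · rintro ⟨s, hs⟩
      obtain ⟨d, hd, hds⟩ := htr s hs
      exact ⟨QuotientGroup.mk ⟨d, hd⟩, Subtype.ext hds⟩
  rw [← hK, ← e, Subgroup.card_eq_card_quotient_mul_card_subgroup K]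

theorem card_DD₁ (h : Hyp G) (he : Even (Nat.card G)) {P Q : Sylow 2 G} (hPQ : P ≠ Q) :
    Nat.card (DD P Q) = mm P * Nat.card ↥(DD P Q ⊓ CC P) := by
  obtain ⟨t, htP, ht⟩ := exists_inv he P
  have h1 := orb (DD P Q) {s | orderOf s = 2 ∧ s ∈ (P : Subgroup G)} t (fun s hs => conj_inv_DD h he hPQ ht hs.1 htP hs.2)
    (fun d hd => ⟨by rw [orderOf_conj]; exact ht, (fix_iff (by rw [orderOf_conj]; exact ht)).1 (by
      have hd1 := (mem_DD.1 hd).1
      have hd2 : d⁻¹ • P = P := by rw [inv_smul_eq_iff]; exact hd1.symm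
      rw [mul_smul, mul_smul, hd2, (fix_iff ht).2 htP, hd1])⟩)
  have h2 : DD P Q ⊓ Subgroup.centralizer ({t} : Set G) = DD P Q ⊓ CC P := by
    ext a
    rw [Subgroup.mem_inf, Subgroup.mem_inf, Subgroup.mem_centralizer_singleton_iff]
    constructor
    · rintro ⟨h1, h2⟩; exact ⟨h1, (cent_iff h ht htP).1 h2⟩
    · rintro ⟨h1, h2⟩; exact ⟨h1, (cent_iff h ht htP).2 h2⟩
  rw [h2] at h1
  exact h1

omit [Finite G] in
theorem swap_back {P Q : Sylow 2 G} {u : G} (hu : orderOf u = 2) (huP : u • P = Q) : u • Q = P := by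
  rw [← huP, smul_smul, mul_self hu, one_smul]

theorem swap_conj (h : Hyp G) {P Q : Sylow 2 G} (hPQ : P ≠ Q) {t u : G} (ht : orderOf t = 2) (hu : orderOf u = 2)
    (htP : t • P = Q) (huP : u • P = Q) : ∃ d ∈ DD P Q, d * u * d⁻¹ = t := by
  have hx : t * u ∈ DD P Q := mem_DD.2 ⟨by rw [mul_smul, huP, swap_back ht htP], by rw [mul_smul, swap_back hu huP, htP]⟩
  obtain ⟨k, hk⟩ := odd_of_mem (DD_odd h hPQ) hx
  refine ⟨(t * u) ^ ((k : ℤ) + 1), Subgroup.zpow_mem _ hx _, ?_⟩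
  set d := (t * u) ^ ((k : ℤ) + 1) with hd
  have hdd : d * d = t * u := by
    rw [hd, ← zpow_add, show (k : ℤ) + 1 + (k + 1) = ((2 * k + 1 : ℕ) : ℤ) + 1 by push_cast; ring, zpow_add, zpow_natCast, ← hk,
      pow_orderOf_eq_one, one_mul, zpow_one]
  have h1 : t * d * t⁻¹ = d⁻¹ := conj_mul_zpow ht hu _
  have h2 : t * d⁻¹ = d * t := by
    have h3 : (t * d * t⁻¹)⁻¹ = d := by rw [h1, inv_inv]
    calc t * d⁻¹ = (t * d * t⁻¹)⁻¹ * t := by group
      _ = d * t := by rw [h3]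
  have h4 : u = t * (d * d) := by rw [hdd, ← mul_assoc, mul_self ht, one_mul]
  calc d * u * d⁻¹ = d * (t * (d * d)) * d⁻¹ := by rw [h4]
    _ = d * t * d := by group
    _ = d * (t * d⁻¹) * (d * d) := by group
    _ = (d * d) * t * (d * d) := by rw [h2]; group
    _ = t := by rw [hdd]; rw [show t * u * t * (t * u) = t * u * (t * t) * u by group, mul_self ht, mul_one, mul_assoc, mul_self hu, mul_one]

theorem card_DD₂ (h : Hyp G) (he : Even (Nat.card G)) {P Q : Sylow 2 G} (hPQ : P ≠ Q) {u : G} (hu : orderOf u = 2)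
    (huP : u • P = Q) : Nat.card (DD P Q) = mm P * Nat.card ↥(DD P Q ⊓ Subgroup.centralizer ({u} : Set G)) := by
  have h1 := orb (DD P Q) {s | orderOf s = 2 ∧ s • P = Q} u (fun s hs => swap_conj h hPQ hs.1 hu hs.2 huP)
    (fun d hd => ⟨by rw [orderOf_conj]; exact hu, by
      obtain ⟨hd1, hd3⟩ := mem_DD.1 hd
      have hd2 : d⁻¹ • P = P := by rw [inv_smul_eq_iff]; exact hd1.symm
      rw [mul_smul, mul_smul, hd2, huP, hd3]⟩)
  rw [h1, ← card_swap h he hPQ]
  rfl

/-- centralizers of nontrivial elements of `CC P` fix `P` -/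
def TI (G : Type*) [Group G] : Prop := ∀ (P : Sylow 2 G) (x : G), x ∈ CC P → x ≠ 1 → ∀ g : G, Commute g x → g • P = P

theorem CC_inf (h : Hyp G) (he : Even (Nat.card G)) (hTI : TI G) {P Q : Sylow 2 G} (hPQ : P ≠ Q) {x : G} (hP : x ∈ CC P) (hQ : x ∈ CC Q) : x = 1 := by
  by_contra hx
  obtain ⟨t, htQ, ht⟩ := exists_inv he Q
  exact hPQ (uniq h ht ((fix_iff ht).1 (hTI P x hP hx t (mem_CC.1 hQ t ht htQ))) htQ)

omit [Finite G] in
theorem conj_mem_CC {Q : Sylow 2 G} {g y : G} (hg : g • Q = Q) (hy : y ∈ CC Q) : g * y * g⁻¹ ∈ CC Q := by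
  rw [← hg, mem_CC_smul]
  have e : g⁻¹ * (g * y * g⁻¹) * g = y := by group
  rw [e]; exact hy

omit [Finite G] in
theorem conj_mem_CC' {P Q : Sylow 2 G} {g y : G} (hg : g • P = Q) (hy : y ∈ CC P) : g * y * g⁻¹ ∈ CC Q := by
  rw [← hg, mem_CC_smul]
  have e : g⁻¹ * (g * y * g⁻¹) * g = y := by group
  rw [e]; exact hy

theorem card_E_le (h : Hyp G) (he : Even (Nat.card G)) (hTI : TI G) {P Q : Sylow 2 G} (hPQ : P ≠ Q) :
    Nat.card ↥(DD P Q ⊓ CC Q) ≤ mm P := by
  obtain ⟨t, htP, ht⟩ := exists_inv he P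
  refine Nat.card_le_card_of_injective (β := {t : G // orderOf t = 2 ∧ t ∈ (P : Subgroup G)})
    (fun x : ↥(DD P Q ⊓ CC Q) => (⟨(x : G) * t * (x : G)⁻¹, by rw [orderOf_conj]; exact ht,
      (fix_iff (by rw [orderOf_conj]; exact ht)).1 (by
      have hd1 := (mem_DD.1 x.2.1).1
      have hd2 : (x : G)⁻¹ • P = P := by rw [inv_smul_eq_iff]; exact hd1.symm
      rw [mul_smul, mul_smul, hd2, (fix_iff ht).2 htP, hd1])⟩)) ?_
  intro x y hxy
  have h1 : (x : G) * t * (x : G)⁻¹ = y * t * (y : G)⁻¹ := congrArg Subtype.val hxy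
  have h2 : Commute ((y : G)⁻¹ * x) t := by
    change (y : G)⁻¹ * x * t = t * ((y : G)⁻¹ * x)
    calc (y : G)⁻¹ * x * t = (y : G)⁻¹ * (x * t * (x : G)⁻¹) * x := by group
      _ = _ := by rw [h1]; group
  have h3 : ((y : G)⁻¹ * x) = 1 := CC_inf h he hTI hPQ ((cent_iff h ht htP).1 h2) (mul_mem (inv_mem y.2.2) x.2.2)
  apply Subtype.ext
  rw [inv_mul_eq_one] at h3
  exact h3.symm

theorem E_trivial (h : Hyp G) (he : Even (Nat.card G)) (hTI : TI G) {P Q : Sylow 2 G} (hPQ : P ≠ Q) {x : G}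
    (hx : x ∈ DD P Q) (hxC : x ∈ CC P) : x = 1 := by
  classical
  by_contra hx1
  have hcomm : ∀ a ∈ DD P Q ⊓ CC P, ∀ b ∈ DD P Q ⊓ CC Q, a * b = b * a := by
    intro a ha b hb
    have h1 : a * b * a⁻¹ * b⁻¹ ∈ CC Q := mul_mem (conj_mem_CC (mem_DD.1 ha.1).2 hb.2) (inv_mem hb.2)
    have h2 : a * b * a⁻¹ * b⁻¹ ∈ CC P := by
      have := mul_mem ha.2 (conj_mem_CC (mem_DD.1 hb.1).1 (inv_mem ha.2))
      have e : a * b * a⁻¹ * b⁻¹ = a * (b * a⁻¹ * b⁻¹) := by group
      rw [e]; exact this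
    have h3 := CC_inf h he hTI hPQ h2 h1
    rw [mul_inv_eq_one, mul_inv_eq_iff_eq_mul] at h3
    exact h3
  have hsw : ∀ t : G, orderOf t = 2 → t • P = Q → ∀ a ∈ DD P Q ⊓ CC P, t * a * t⁻¹ ∈ DD P Q ⊓ CC Q := by
    intro t ht htP a ha
    obtain ⟨h1, h2⟩ := mem_DD.1 ha.1
    have e1 : t⁻¹ = t := inv_eq ht
    refine ⟨mem_DD.2 ⟨?_, ?_⟩, conj_mem_CC' htP ha.2⟩
    · rw [e1, mul_smul, mul_smul, htP, h2, swap_back ht htP]
    · rw [e1, mul_smul, mul_smul, swap_back ht htP, h1, htP]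
  let S := {t : G // orderOf t = 2 ∧ t • P = Q}
  let EP := {a : ↥(DD P Q ⊓ CC P) // a ≠ 1}
  let EQ := {a : ↥(DD P Q ⊓ CC Q) // a ≠ 1}
  have hinj : Nat.card (S × EP) ≤ Nat.card (EP × EQ) := by
    refine Nat.card_le_card_of_injective (fun p : S × EP => ((p.2, ⟨⟨p.1.1 * p.2.1.1 * (p.1.1)⁻¹, hsw _ p.1.2.1 p.1.2.2 _ p.2.1.2⟩, ?_⟩) : EP × EQ)) ?_
    · intro h0
      have h1 : p.1.1 * p.2.1.1 * (p.1.1)⁻¹ = 1 := congrArg Subtype.val h0
      apply p.2.2
      apply Subtype.ext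
      rw [mul_inv_eq_one] at h1
      exact mul_left_cancel (h1.trans (mul_one _).symm)
    · rintro ⟨⟨t, ht, htP⟩, ⟨⟨a, ha⟩, ha1⟩⟩ ⟨⟨s, hs, hsP⟩, ⟨⟨b, hb⟩, hb1⟩⟩ hp
      have hab : a = b := congrArg (fun q : EP × EQ => (q.1.1 : G)) hp
      have hts : t * a * t⁻¹ = s * b * s⁻¹ := congrArg (fun q : EP × EQ => (q.2.1 : G)) hp
      subst hab
      have ha1' : a ≠ 1 := fun h0 => ha1 (Subtype.ext h0)
      -- c commutes with t and s
      have hc : ∀ v : G, orderOf v = 2 → v • P = Q → Commute (a * (v * a * v⁻¹)) v := by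
        intro v hv hvP
        have h1 := hcomm a ha _ (hsw v hv hvP a ha)
        change a * (v * a * v⁻¹) * v = v * (a * (v * a * v⁻¹))
        have e1 : v⁻¹ = v := inv_eq hv
        calc a * (v * a * v⁻¹) * v = a * v * a := by group
          _ = (v * v) * a * v * a := by rw [mul_self hv, one_mul]
          _ = v * ((v * a * v⁻¹) * a) := by rw [e1]; group
          _ = v * (a * (v * a * v⁻¹)) := by rw [h1]
      have hct := hc t ht htP
      have hcs := hc s hs hsP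
      rw [← hts] at hcs
      have hcne : a * (t * a * t⁻¹) ≠ 1 := by
        intro h0
        have h1 : a ∈ CC Q := by
          have h2 : a = (t * a * t⁻¹)⁻¹ := eq_inv_of_mul_eq_one_left h0
          rw [h2]; exact inv_mem (hsw t ht htP a ha).2
        exact ha1' (CC_inf h he hTI hPQ ha.2 h1)
      haveI : Fact (Nat.Prime 2) := ⟨Nat.prime_two⟩
      obtain ⟨R, hR⟩ := (zpowers_isPGroup (p := 2) (k := 1) (by simpa using ht)).exists_le_sylow
      obtain ⟨R', hR'⟩ := (zpowers_isPGroup (p := 2) (k := 1) (by simpa using hs)).exists_le_sylow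
      have htR : t ∈ (R : Subgroup G) := hR (Subgroup.mem_zpowers t)
      have hsR : s ∈ (R' : Subgroup G) := hR' (Subgroup.mem_zpowers s)
      have hRR : R = R' := by
        by_contra hne
        exact hcne (CC_inf h he hTI hne ((cent_iff h ht htR).1 hct) ((cent_iff h hs hsR).1 hcs))
      subst hRR
      have hts2 : t * s ∈ DD P Q := mem_DD.2 ⟨by rw [mul_smul, hsP, swap_back ht htP], by rw [mul_smul, swap_back hs hsP, htP]⟩
      have hodd := odd_of_mem (DD_odd h hPQ) hts2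
      have hsq : (t * s) * (t * s) = 1 := by
        have := sylow_comm h R t htR ht s hsR hs
        calc (t * s) * (t * s) = (t * s) * (s * t) := by rw [this]
          _ = t * (s * s) * t := by group
          _ = 1 := by rw [mul_self hs, mul_one, mul_self ht]
      have h1 := eq_one_of_sq hodd hsq
      have h2 : t = s := by
        rw [mul_eq_one_iff_eq_inv, inv_eq hs] at h1
        exact h1
      subst h2
      rfl
  rw [Nat.card_prod, Nat.card_prod] at hinj
  have hEP : 0 < Nat.card EP := by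
    haveI : Nonempty EP := ⟨⟨⟨x, hx, hxC⟩, fun h0 => hx1 (congrArg Subtype.val h0)⟩⟩
    exact Nat.card_pos
  have hS : Nat.card S = mm P := card_swap h he hPQ
  have hEQ : Nat.card EQ + 1 ≤ mm P := by
    refine le_trans ?_ (card_E_le h he hTI hPQ)
    haveI : Fintype ↥(DD P Q ⊓ CC Q) := Fintype.ofFinite _
    haveI : Fintype EQ := Fintype.ofFinite _
    rw [Nat.card_eq_fintype_card, Nat.card_eq_fintype_card]
    exact Fintype.card_subtype_lt (x := (1 : ↥(DD P Q ⊓ CC Q))) (by simp)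
  rw [hS, mul_comm (mm P)] at hinj
  have := Nat.le_of_mul_le_mul_left hinj hEP
  omega

theorem card_DD (h : Hyp G) (he : Even (Nat.card G)) (hTI : TI G) {P Q : Sylow 2 G} (hPQ : P ≠ Q) :
    Nat.card (DD P Q) = mm P := by
  rw [card_DD₁ h he hPQ]
  have : DD P Q ⊓ CC P = ⊥ := by
    rw [eq_bot_iff]
    rintro x ⟨h1, h2⟩
    exact Subgroup.mem_bot.2 (E_trivial h he hTI hPQ h1 h2)
  rw [this, Subgroup.card_bot, mul_one]

theorem exists_swap (h : Hyp G) (he : Even (Nat.card G)) {P Q : Sylow 2 G} (hPQ : P ≠ Q) :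
    ∃ u : G, orderOf u = 2 ∧ u • P = Q := by
  have h1 := card_swap h he hPQ
  have h2 := mm_pos he P
  rw [← h1] at h2
  obtain ⟨⟨u, hu⟩⟩ := (Nat.card_pos_iff.1 h2).1
  exact ⟨u, hu⟩

theorem inverts (h : Hyp G) (he : Even (Nat.card G)) (hTI : TI G) {P Q : Sylow 2 G} (hPQ : P ≠ Q) {u : G}
    (hu : orderOf u = 2) (huP : u • P = Q) {d : G} (hd : d ∈ DD P Q) : u * d * u⁻¹ = d⁻¹ := by
  let f : {t : G // orderOf t = 2 ∧ t • P = Q} → DD P Q := fun v => ⟨u * v.1, mem_DD.2 ⟨by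
    rw [mul_smul, v.2.2, swap_back hu huP], by rw [mul_smul, swap_back v.2.1 v.2.2, huP]⟩⟩
  have hinj : Function.Injective f := by
    intro a b hab
    exact Subtype.ext (mul_left_cancel (congrArg Subtype.val hab))
  have hsurj : Function.Surjective f := ((Nat.bijective_iff_injective_and_card f).mpr ⟨hinj, by
    rw [card_swap h he hPQ, card_DD h he hTI hPQ]⟩).2
  obtain ⟨⟨v, hv, hvx⟩, hvd⟩ := hsurj ⟨d, hd⟩
  have h2 : u * v = d := congrArg Subtype.val hvd
  rw [← h2]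
  have := conj_mul_zpow hu hv 1
  simpa using this

theorem DD_comm (h : Hyp G) (he : Even (Nat.card G)) (hTI : TI G) {P Q : Sylow 2 G} (hPQ : P ≠ Q) {a b : G}
    (ha : a ∈ DD P Q) (hb : b ∈ DD P Q) : a * b = b * a := by
  obtain ⟨u, hu, huP⟩ := exists_swap h he hPQ
  have h1 := inverts h he hTI hPQ hu huP ha
  have h2 := inverts h he hTI hPQ hu huP hb
  have h3 := inverts h he hTI hPQ hu huP (mul_mem ha hb)
  have h4 : u * (a * b) * u⁻¹ = a⁻¹ * b⁻¹ := by
    calc u * (a * b) * u⁻¹ = (u * a * u⁻¹) * (u * b * u⁻¹) := by group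
      _ = _ := by rw [h1, h2]
  rw [h4] at h3
  have := congrArg (fun x => x⁻¹) h3
  simp only [mul_inv_rev, inv_inv] at this
  exact this.symm

theorem eq_one_of_two {R : Sylow 2 G} {x : G} (hx : x ∈ (R : Subgroup G)) (ho : Odd (orderOf x)) : x = 1 := by
  obtain ⟨k, hk⟩ := IsPGroup.iff_orderOf.1 R.isPGroup' ⟨x, hx⟩
  rw [← Subgroup.orderOf_coe] at hk
  change orderOf x = 2 ^ k at hk
  rcases Nat.eq_zero_or_pos k with h0 | h0
  · rw [h0, pow_zero] at hk
    exact orderOf_eq_one_iff.1 hk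
  · exfalso
    rw [hk] at ho
    exact (Nat.not_even_iff_odd.2 ho) (Nat.even_pow.2 ⟨even_two, by omega⟩)

theorem beta {R : Sylow 2 G} {u d : G} (hu : orderOf u = 2) (huR : u ∈ (R : Subgroup G)) (hd : d • R = R)
    (hinv : u * d * u⁻¹ = d⁻¹) (ho : Odd (orderOf d)) : d = 1 := by
  have h1 : d * u⁻¹ * d⁻¹ ∈ (R : Subgroup G) := by
    have : d * u⁻¹ * d⁻¹ ∈ ((d • R : Sylow 2 G) : Subgroup G) := by
      rw [mem_smul_sylow]
      have e : d⁻¹ * (d * u⁻¹ * d⁻¹) * d = u⁻¹ := by group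
      rw [e]; exact inv_mem huR
    rw [hd] at this
    exact this
  have h2 : d⁻¹ * d⁻¹ ∈ (R : Subgroup G) := by
    have := mul_mem huR h1
    have e : u * (d * u⁻¹ * d⁻¹) = d⁻¹ * d⁻¹ := by
      calc u * (d * u⁻¹ * d⁻¹) = (u * d * u⁻¹) * d⁻¹ := by group
        _ = _ := by rw [hinv]
    rwa [e] at this
  have h3 : d * d ∈ (R : Subgroup G) := by
    have := inv_mem h2
    rwa [mul_inv_rev, inv_inv] at this
  have h4 : Odd (orderOf (d * d)) := by
    rw [← pow_two]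
    exact Odd.of_dvd_nat ho (orderOf_pow_dvd 2)
  exact eq_one_of_sq ho (eq_one_of_two h3 h4)

theorem exists_sylow_mem {z : G} (hz : orderOf z = 2) : ∃ R : Sylow 2 G, z ∈ (R : Subgroup G) := by
  haveI : Fact (Nat.Prime 2) := ⟨Nat.prime_two⟩
  obtain ⟨R, hR⟩ := (zpowers_isPGroup (p := 2) (k := 1) (by simpa using hz)).exists_le_sylow
  exact ⟨R, hR (Subgroup.mem_zpowers z)⟩

/-- an odd order subgroup normalized by an involution without fixed points is inverted -/
theorem inverts_of_fpf {T : Subgroup G} {u : G} (hu : orderOf u = 2) (hn : ∀ x ∈ T, u * x * u⁻¹ ∈ T)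
    (hf : ∀ x ∈ T, Commute x u → x = 1) : ∀ x ∈ T, u * x * u⁻¹ = x⁻¹ := by
  let f : T → T := fun x => ⟨(x : G)⁻¹ * (u * x * u⁻¹), mul_mem (inv_mem x.2) (hn x x.2)⟩
  have hinj : Function.Injective f := by
    intro x y hxy
    have h1 : (x : G)⁻¹ * (u * x * u⁻¹) = (y : G)⁻¹ * (u * y * u⁻¹) := congrArg Subtype.val hxy
    have h2 : Commute ((y : G) * (x : G)⁻¹) u := by
      change (y : G) * (x : G)⁻¹ * u = u * (y * (x : G)⁻¹)
      calc (y : G) * (x : G)⁻¹ * u = y * ((x : G)⁻¹ * (u * x * u⁻¹)) * u * (x : G)⁻¹ := by group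
        _ = _ := by rw [h1]; group
    have h3 := hf _ (mul_mem y.2 (inv_mem x.2)) h2
    rw [mul_inv_eq_one] at h3
    exact Subtype.ext h3.symm
  intro z hz
  obtain ⟨⟨x, hx⟩, hxz⟩ := (Finite.injective_iff_surjective.1 hinj) ⟨z, hz⟩
  have h1 : x⁻¹ * (u * x * u⁻¹) = z := congrArg Subtype.val hxz
  have e1 : u⁻¹ = u := inv_eq hu
  rw [← h1, e1]
  calc u * (x⁻¹ * (u * x * u)) * u = u * x⁻¹ * u * x * (u * u) := by group
    _ = u * x⁻¹ * u * x := by rw [mul_self hu, mul_one]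
    _ = (x⁻¹ * (u⁻¹ * x * u⁻¹))⁻¹ := by group
    _ = _ := by rw [e1]

variable (h : Hyp G) (he : Even (Nat.card G)) (hTI : TI G)
include h he hTI

theorem fix_cent {P Q : Sylow 2 G} (hPQ : P ≠ Q) {d : G} (hd : d ∈ DD P Q) (hd1 : d ≠ 1) :
    (∀ x : G, Commute x d → x ∈ DD P Q) ∧ ∀ R : Sylow 2 G, d • R = R → R = P ∨ R = Q := by
  haveI : Fact (Nat.Prime 2) := ⟨Nat.prime_two⟩
  obtain ⟨u, hu, huP⟩ := exists_swap h he hPQ
  have hud := inverts h he hTI hPQ hu huP hd
  have hod := odd_of_mem (DD_odd h hPQ) hd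
  have e1 : u⁻¹ = u := inv_eq hu
  have huQ := swap_back hu huP
  -- alpha
  have hα : ∀ z : G, orderOf z = 2 → ¬ Commute z d := by
    intro z hz hzd
    obtain ⟨R, hzR⟩ := exists_sylow_mem hz
    have h1 : d ∈ CC R := (cent_iff h hz hzR).1 hzd.symm
    have h2 : d⁻¹ ∈ CC (u • R) := by
      rw [← hud]; exact conj_mem_CC' rfl h1
    have h3 : R = u • R := by
      by_contra hne
      exact hd1 (CC_inf h he hTI hne h1 (by simpa using inv_mem h2))
    have huR : u ∈ (R : Subgroup G) := (fix_iff hu).1 h3.symm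
    exact hd1 (beta hu huR (smul_eq_of_CC h he h1) hud hod)
  have hT : Odd (Nat.card (Subgroup.centralizer ({d} : Set G))) := by
    rw [← Nat.not_even_iff_odd]
    intro hev
    obtain ⟨z, hz⟩ := exists_prime_orderOf_dvd_card' (G := Subgroup.centralizer ({d} : Set G)) 2 hev.two_dvd
    exact hα z (by rw [Subgroup.orderOf_coe]; exact hz) (Subgroup.mem_centralizer_singleton_iff.1 z.2)
  -- gamma
  have hγ : ∀ x ∈ Subgroup.centralizer ({d} : Set G), u * x * u⁻¹ = x⁻¹ := by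
    apply inverts_of_fpf hu
    · intro x hx
      rw [Subgroup.mem_centralizer_singleton_iff] at hx ⊢
      have h1 : u * d⁻¹ * u⁻¹ = d := by
        have := congrArg (fun y => y⁻¹) hud
        simpa [mul_assoc] using this
      calc u * x * u⁻¹ * d = u * x * u⁻¹ * (u * d⁻¹ * u⁻¹) := by rw [h1]
        _ = u * (x * d⁻¹) * u⁻¹ := by group
        _ = u * (d⁻¹ * x) * u⁻¹ := by
            have : x * d⁻¹ = d⁻¹ * x := (Commute.inv_right (show Commute x d from hx)).eq
            rw [this]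
        _ = (u * d⁻¹ * u⁻¹) * (u * x * u⁻¹) := by group
        _ = _ := by rw [h1]
    · intro x hx hxu
      by_contra hx1
      rw [Subgroup.mem_centralizer_singleton_iff] at hx
      obtain ⟨R, huR⟩ := exists_sylow_mem hu
      have h1 : x ∈ CC R := (cent_iff h hu huR).1 hxu
      have h2 : d • R = R := hTI R x h1 hx1 d hx.symm
      exact hd1 (beta hu huR h2 hud hod)
  -- delta
  have hδ : ∀ x : G, Commute x d → x • P = P → x ∈ DD P Q := by
    intro x hx hxP
    refine mem_DD.2 ⟨hxP, ?_⟩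
    have h1 := hγ x (Subgroup.mem_centralizer_singleton_iff.2 hx)
    have h2 : x⁻¹ • Q = Q := by
      rw [← h1, mul_smul, mul_smul, e1, huQ, hxP, huP]
    rw [inv_smul_eq_iff] at h2
    exact h2.symm
  have hε : ∀ R : Sylow 2 G, d • R = R → R ≠ P → ∃ y : G, Commute y d ∧ R = y • Q := by
    intro R hR hRP
    obtain ⟨i, hi, hiP⟩ := exists_swap h he (Ne.symm hRP)
    have h1 := inverts h he hTI (Ne.symm hRP) hi hiP (mem_DD.2 ⟨(mem_DD.1 hd).1, hR⟩)
    refine ⟨i * u, ?_, by rw [mul_smul, huQ, hiP]⟩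
    have h3 : i * d⁻¹ * i⁻¹ = d := by
      have := congrArg (fun y => y⁻¹) h1
      simpa [mul_assoc] using this
    have h4 : (i * u) * d * (i * u)⁻¹ = d := by
      calc (i * u) * d * (i * u)⁻¹ = i * (u * d * u⁻¹) * i⁻¹ := by group
        _ = d := by rw [hud, h3]
    change i * u * d = d * (i * u)
    rw [mul_inv_eq_iff_eq_mul] at h4
    exact h4
  have hall : ∀ x : G, Commute x d → x • P = P := by
    by_contra hcon
    push Not at hcon
    obtain ⟨x, hx, hxP⟩ := hcon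
    obtain ⟨y, hy, hyQ⟩ := hε (x • P) (by rw [← mul_smul, ← hx.eq, mul_smul, (mem_DD.1 hd).1]) hxP
    have hz : Commute (y⁻¹ * x) d := (hy.inv_left).mul_left hx
    have hzP : (y⁻¹ * x) • P = Q := by rw [mul_smul, hyQ, inv_smul_smul]
    obtain ⟨k, hk⟩ := odd_of_mem hT (Subgroup.mem_centralizer_singleton_iff.2 hz)
    set w := (y⁻¹ * x) ^ (k + 1) with hw
    have hww : w * w = y⁻¹ * x := by
      rw [hw, ← pow_add, show k + 1 + (k + 1) = (2 * k + 1) + 1 by ring, pow_succ, ← hk, pow_orderOf_eq_one, one_mul]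
    have hwc : Commute w d := hz.pow_left _
    have huw := hγ w (Subgroup.mem_centralizer_singleton_iff.2 hwc)
    have hfix : u • (w • P) = w • P := by
      have h1 : u * w = w⁻¹ * u := by rw [← huw]; group
      rw [← mul_smul, h1, mul_smul, huP, ← hzP, ← hww, ← mul_smul]
      congr 1
      group
    have hdw : d • (w • P) = w • P := by rw [← mul_smul, ← hwc.eq, mul_smul, (mem_DD.1 hd).1]
    exact hd1 (beta hu ((fix_iff hu).1 hfix) hdw hud hod)
  refine ⟨fun x hx => hδ x hx (hall x hx), ?_⟩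
  intro R hR
  by_cases hRP : R = P
  · exact Or.inl hRP
  · right
    obtain ⟨y, hy, hyQ⟩ := hε R hR hRP
    rw [hyQ]
    exact (mem_DD.1 (hδ y hy (hall y hy))).2

theorem trans_stab {P Q Q' : Sylow 2 G} (hQ : P ≠ Q) (hQ' : P ≠ Q') (hm : 1 < mm P) :
    ∃ g : G, g • P = P ∧ g • Q = Q' := by
  obtain ⟨r, hr, hrm⟩ := Nat.exists_prime_and_dvd hm.ne'
  haveI : Fact r.Prime := ⟨hr⟩
  have key : ∀ R : Sylow 2 G, P ≠ R → ∃ (S : Sylow r G) (d : G), d ∈ (S : Subgroup G) ∧ d ≠ 1 ∧ (S : Subgroup G) ≤ DD P R := by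
    intro R hR
    have hc := card_DD h he hTI hR
    rw [← hc] at hrm
    obtain ⟨d, hd⟩ := exists_prime_orderOf_dvd_card' (G := DD P R) r hrm
    have hd' : orderOf (d : G) = r := by rw [Subgroup.orderOf_coe]; exact hd
    have hd1 : (d : G) ≠ 1 := by
      intro h0
      rw [h0, orderOf_one] at hd'
      exact hr.one_lt.ne hd'
    obtain ⟨S, hS⟩ := (zpowers_isPGroup (p := r) (k := 1) (by rw [hd', pow_one])).exists_le_sylow
    have hdS : (d : G) ∈ (S : Subgroup G) := hS (Subgroup.mem_zpowers _)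
    refine ⟨S, d, hdS, hd1, ?_⟩
    haveI : Nontrivial (S : Subgroup G) := ⟨⟨⟨d, hdS⟩, 1, fun h0 => hd1 (congrArg Subtype.val h0)⟩⟩
    haveI := S.isPGroup'.center_nontrivial
    obtain ⟨z, hz⟩ := exists_ne (1 : Subgroup.center (S : Subgroup G))
    have hz1 : ((z : (S : Subgroup G)) : G) ≠ 1 := fun h0 => hz (Subtype.ext (Subtype.ext h0))
    have hzc : ∀ x ∈ (S : Subgroup G), Commute x ((z : (S : Subgroup G)) : G) := by
      intro x hx
      exact congrArg Subtype.val (Subgroup.mem_center_iff.mp z.2 ⟨x, hx⟩)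
    have hzD : ((z : (S : Subgroup G)) : G) ∈ DD P R := (fix_cent h he hTI hR d.2 hd1).1 _ (hzc d hdS).symm
    intro x hx
    exact (fix_cent h he hTI hR hzD hz1).1 x (hzc x hx)
  obtain ⟨S, d, hdS, hd1, hSle⟩ := key Q hQ
  obtain ⟨S', d', hdS', hd1', hSle'⟩ := key Q' hQ'
  obtain ⟨g, hg⟩ := MulAction.exists_smul_eq G S S'
  have h1 : g * d * g⁻¹ ∈ DD P Q' := by
    apply hSle'
    rw [← hg, mem_smul_sylow]
    have e : g⁻¹ * (g * d * g⁻¹) * g = d := by group
    rw [e]; exact hdS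
  have h2 : g * d * g⁻¹ ≠ 1 := by
    intro h0
    rw [mul_inv_eq_one] at h0
    exact hd1 (mul_left_cancel (h0.trans (mul_one g).symm))
  have h3 := (fix_cent h he hTI hQ' h1 h2).2
  obtain ⟨hdP, hdQ⟩ := mem_DD.1 (hSle hdS)
  have h4 := h3 (g • P) (by rw [mul_smul, mul_smul, inv_smul_smul, hdP])
  have h5 := h3 (g • Q) (by rw [mul_smul, mul_smul, inv_smul_smul, hdQ])
  have h6 : g • P ≠ g • Q := fun h0 => hQ (smul_left_cancel g h0)
  rcases h4 with h4 | h4
  · rcases h5 with h5 | h5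
    · exact absurd (h4.trans h5.symm) h6
    · exact ⟨g, h4, h5⟩
  · rcases h5 with h5 | h5
    · obtain ⟨u, hu, huP⟩ := exists_swap h he hQ
      exact ⟨g * u, by rw [mul_smul, huP, h5], by rw [mul_smul, swap_back hu huP, h4]⟩
    · exact absurd (h4.trans h5.symm) h6

theorem zass {P Q : Sylow 2 G} (hPQ : P ≠ Q) (hm : 1 < mm P) : Cfsg.IsZassenhausGroup G (Sylow 2 G) := by
  haveI : Fact (Nat.Prime 2) := ⟨Nat.prime_two⟩
  refine ⟨⟨?_⟩, ?_, ?_, ?_, ?_⟩
  · intro g g' hgg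
    by_contra hne
    have hx : ∀ R : Sylow 2 G, (g'⁻¹ * g) • R = R := fun R => by rw [mul_smul, hgg R, inv_smul_smul]
    have hx1 : g'⁻¹ * g ≠ 1 := fun h0 => hne (inv_mul_eq_one.1 h0).symm
    obtain ⟨t, htP, ht⟩ := exists_inv he P
    have h1 := (fix_cent h he hTI hPQ (mem_DD.2 ⟨hx P, hx Q⟩) hx1).2 (t • Q) (hx _)
    rcases h1 with h1 | h1
    · have h2 : Q = t • P := by rw [← h1, smul_smul, mul_self ht, one_smul]
      rw [(fix_iff ht).2 htP] at h2
      exact hPQ h2.symm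
    · exact hPQ (fix_unique h ht ((fix_iff ht).2 htP) h1)
  · rw [MulAction.is_two_pretransitive_iff]
    intro a b c d hab hcd
    obtain ⟨g, hg⟩ := MulAction.exists_smul_eq G a c
    obtain ⟨k, hk1, hk2⟩ := trans_stab h he hTI (P := c) (Q := g • b) (Q' := d) (by
      rw [← hg]; exact fun h0 => hab (smul_left_cancel g h0)) hcd (by rw [mm_eq c P]; exact hm)
    exact ⟨k * g, by rw [mul_smul, hg, hk1], by rw [mul_smul, hk2]⟩
  · intro g a b c hab hbc hac ha hb hc
    by_contra hg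
    rcases (fix_cent h he hTI hab (mem_DD.2 ⟨ha, hb⟩) hg).2 c hc with h1 | h1
    · exact hac h1.symm
    · exact hbc h1.symm
  · rw [← card_DD h he hTI hPQ] at hm
    haveI : Nontrivial (DD P Q) := Finite.one_lt_card_iff_nontrivial.1 hm
    obtain ⟨d, hd⟩ := exists_ne (1 : DD P Q)
    exact ⟨d, fun h0 => hd (Subtype.ext h0), P, Q, hPQ, (mem_DD.1 d.2).1, (mem_DD.1 d.2).2⟩
  · intro N hN htr
    by_contra hcon
    push Not at hcon
    have hst : ∀ (R : Sylow 2 G) (x : G), x ∈ N → x • R = R → x = 1 := by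
      intro R x hx hxR
      have h1 : (⟨x, hx⟩ : N) ∈ MulAction.stabilizer N R := hxR
      rw [hcon R] at h1
      exact congrArg Subtype.val (Subgroup.mem_bot.1 h1)
    have hcN : ∀ t : G, orderOf t = 2 → t ∈ (P : Subgroup G) → ∀ x ∈ N, Commute x t → x = 1 := by
      intro t ht htP x hx hxt
      apply hst P x hx
      apply fix_unique h ht _ ((fix_iff ht).2 htP)
      rw [← mul_smul, ← hxt.eq, mul_smul, (fix_iff ht).2 htP]
    obtain ⟨⟨s, hs, hsP⟩, ⟨t, ht, htP⟩, hst'⟩ := (Finite.one_lt_card_iff_nontrivial.1 hm : Nontrivial {t : G // orderOf t = 2 ∧ t ∈ (P : Subgroup G)})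
    have hne : s ≠ t := fun h0 => hst' (Subtype.ext h0)
    have hsi := inverts_of_fpf hs (fun x hx => hN.conj_mem x hx s) (hcN s hs hsP)
    have hti := inverts_of_fpf ht (fun x hx => hN.conj_mem x hx t) (hcN t ht htP)
    have hst2 : orderOf (s * t) = 2 := by
      apply orderOf_eq_two_of
      · intro h0
        rw [mul_eq_one_iff_eq_inv, inv_eq ht] at h0
        exact hne h0
      · have := sylow_comm h P t htP ht s hsP hs
        calc (s * t) * (s * t) = s * (t * s) * t := by group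
          _ = (s * s) * (t * t) := by rw [this]; group
          _ = 1 := by rw [mul_self hs, mul_self ht, one_mul]
    have hN1 : ∀ x ∈ N, x = 1 := by
      intro x hx
      apply hcN (s * t) hst2 (mul_mem hsP htP) x hx
      have h1 : (s * t) * x * (s * t)⁻¹ = x := by
        calc (s * t) * x * (s * t)⁻¹ = s * (t * x * t⁻¹) * s⁻¹ := by group
          _ = x := by rw [hti x hx, hsi _ (inv_mem hx), inv_inv]
      rw [mul_inv_eq_iff_eq_mul] at h1
      exact h1.symm
    obtain ⟨⟨x, hx⟩, hxP⟩ := MulAction.exists_smul_eq N P Q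
    have h1 : x • P = Q := hxP
    rw [hN1 x hx, one_smul] at h1
    exact hPQ h1

theorem card_omega {P Q : Sylow 2 G} (hPQ : P ≠ Q) (hm : 1 < mm P) : Nat.card (Sylow 2 G) = Nat.card (CC P) + 1 := by
  classical
  have h1 : Nat.card (CC P) = Nat.card {R : Sylow 2 G // R ≠ P} := by
    refine Nat.card_congr (Equiv.ofBijective (fun x => ⟨(x : G) • Q, ?_⟩) ⟨?_, ?_⟩)
    · intro h0
      have h2 : (x : G)⁻¹ • P = P := by rw [inv_smul_eq_iff]; exact (smul_eq_of_CC h he x.2).symm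
      have h3 := congrArg (fun R : Sylow 2 G => (x : G)⁻¹ • R) h0
      simp only [inv_smul_smul] at h3
      exact hPQ (h3.trans h2).symm
    · intro x y hxy
      have h2 : (x : G) • Q = (y : G) • Q := congrArg Subtype.val hxy
      have h3 : (y : G)⁻¹ * x = 1 := E_trivial h he hTI hPQ (mem_DD.2 ⟨smul_eq_of_CC h he (mul_mem (inv_mem y.2) x.2),
        by rw [mul_smul, h2, inv_smul_smul]⟩) (mul_mem (inv_mem y.2) x.2)
      exact Subtype.ext (inv_mul_eq_one.1 h3).symm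
    · rintro ⟨R, hR⟩
      obtain ⟨g, hgP, hgQ⟩ := trans_stab h he hTI hPQ (Ne.symm hR) hm
      obtain ⟨t, htP, ht⟩ := exists_inv he P
      have hg' : orderOf (g * t * g⁻¹) = 2 := by rw [orderOf_conj]; exact ht
      have hgi : g⁻¹ • P = P := by rw [inv_smul_eq_iff]; exact hgP.symm
      have hgt : g * t * g⁻¹ ∈ (P : Subgroup G) := (fix_iff hg').1 (by
        rw [mul_smul, mul_smul, hgi, (fix_iff ht).2 htP, hgP])
      obtain ⟨d, hd, hdt⟩ := conj_inv_DD h he hPQ ht hg' htP hgt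
      have hx : g * d⁻¹ ∈ CC P := by
        apply (cent_iff h hg' hgt).1
        change g * d⁻¹ * (g * t * g⁻¹) = g * t * g⁻¹ * (g * d⁻¹)
        rw [← hdt]
        have e : d * t * d⁻¹ * (g * d⁻¹) = g * d⁻¹ * (d * t * d⁻¹) ↔ True := by
          rw [iff_true]
          rw [hdt]
          have : g * d⁻¹ * (g * t * g⁻¹) = g * d⁻¹ * (d * t * d⁻¹) := by rw [hdt]
          rw [this]; group
        exact (e.2 trivial).symm
      refine ⟨⟨g * d⁻¹, hx⟩, Subtype.ext ?_⟩
      have hdQ : d⁻¹ • Q = Q := by rw [inv_smul_eq_iff]; exact (mem_DD.1 hd).2.symm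
      change (g * d⁻¹) • Q = R
      rw [mul_smul, hdQ, hgQ]
  rw [h1]
  haveI : Fintype (Sylow 2 G) := Fintype.ofFinite _
  rw [Nat.card_eq_fintype_card, Nat.card_eq_fintype_card, Fintype.card_subtype]
  have : (Finset.univ.filter fun R : Sylow 2 G => R ≠ P) = Finset.univ.erase P := by
    ext R; simp
  rw [this, Finset.card_erase_of_mem (Finset.mem_univ _), Finset.card_univ]
  have : 0 < Fintype.card (Sylow 2 G) := Fintype.card_pos
  omega


end Cfsg.Agent.H19.TI1
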