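import Mathlib
import Cfsg.Agent.H9_ZT4
import Cfsg.Agent.H3_InvSum
import Cfsg.Agent.H3_FeitZ

/-!
# Zassenhaus groups with nonabelian kernel of 2-power order: characters induced from tori
-/

set_option autoImplicit false

open scoped ComplexConjugate

namespace Cfsg.Agent.H9.ZT

open Cfsg Cfsg.Agent.H9.ZassA Cfsg.Agent.H9.ZassC Cfsg.Agent.H3.Zass Cfsg.Agent.H3.Zass2
  Cfsg.Agent.H3.Zass5 Cfsg.Agent.H3.CharBasic Cfsg.Agent.H3.CharIrr Cfsg.Agent.H3.CharComplete Cfsg.Agent.H3.CharInd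
  Cfsg.Agent.H3.CharMult

variable {G Ω : Type*} [Group G] [MulAction G Ω]

/-- `1 - λ` -/
noncomputable def oml {A : Type*} [Group A] (lam : A →* ℂˣ) : A → ℂ := (fun _ => 1) - (fun y => (lam y : ℂ))

/-- the induced function -/
noncomputable def EL {G : Type*} [Group G] [Fintype G] {A : Subgroup G} (lam : A →* ℂˣ) : G → ℂ := indFun A (oml lam)

theorem oml_one {A : Type*} [Group A] (lam : A →* ℂˣ) : oml lam 1 = 0 := by simp [oml]

theorem oml_apply {A : Type*} [Group A] (lam : A →* ℂˣ) (y : A) : oml lam y = 1 - (lam y : ℂ) := rfl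

theorem ci_lam {A : Type*} [Group A] [Fintype A] (l m : A →* ℂˣ) [Decidable (l = m)] :
    classInner (fun y : A => (l y : ℂ)) (fun y => (m y : ℂ)) = if l = m then 1 else 0 := by
  split_ifs with h
  · rw [h]
    exact ci_irr_self (isIrr_of_hom_units m)
  · apply ci_irr_ne (isIrr_of_hom_units l) (isIrr_of_hom_units m)
    intro e
    apply h
    ext y
    exact congrFun e y

theorem ci_oml {A : Type*} [Group A] [Fintype A] (l m : A →* ℂˣ) (hl : l ≠ 1) (hm : m ≠ 1) [Decidable (l = m)] :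
    classInner (oml l) (oml m) = 1 + if l = m then 1 else 0 := by
  classical
  have h1 : (fun _ : A => (1 : ℂ)) = fun y => (((1 : A →* ℂˣ) y : ℂˣ) : ℂ) := by
    ext y; simp
  rw [oml, oml, ci_sub_left, ci_sub_right, ci_sub_right, h1, ci_lam, ci_lam, ci_lam, ci_lam, if_pos rfl,
    if_neg hm.symm, if_neg hl]
  ring

theorem isGen_EL [Fintype G] {A : Subgroup G} (lam : A →* ℂˣ) : IsGeneralizedCharacter G (EL lam) := by
  haveI : Fintype A := Fintype.ofFinite _
  exact IsGen.ind (IsGen.sub (IsGen.of_irr isIrr_one) (IsGen.of_irr (isIrr_of_hom_units lam)))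

theorem EL_one [Fintype G] {A : Subgroup G} (lam : A →* ℂˣ) : EL lam 1 = 0 := by
  rw [EL, ind_one, oml_one, mul_zero]

theorem EL_zero [Fintype G] {A : Subgroup G} (lam : A →* ℂˣ) {x : G} (hx : x ∉ cls A) : EL lam x = 0 := by
  by_cases hx1 : x = 1
  · rw [hx1, EL_one]
  rw [EL, indFun, Finset.sum_eq_zero, mul_zero]
  intro g _
  apply ext_not_mem
  intro hg
  exact hx (mem_cls.mpr ⟨hx1, g⁻¹, by simpa using hg⟩)

/-- conjugation on a subgroup -/
def cjn {A : Subgroup G} {x : G} (hx : x ∈ Subgroup.normalizer (A : Set G)) : A →* A where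
  toFun y := ⟨x⁻¹ * y * x, by
    have := (Subgroup.mem_normalizer_iff.mp (inv_mem hx) y).mp y.2
    simpa using this⟩
  map_one' := Subtype.ext (by simp)
  map_mul' y z := Subtype.ext (by
    change x⁻¹ * (y * z : A) * x = (x⁻¹ * y * x) * (x⁻¹ * z * x)
    push_cast
    group)

variable {a b : Ω} {U : Subgroup G}

section
variable [Fintype G] [Fintype Ω] (h : Hyp a b U)
include h

theorem Hyp.cjn_eq {A : Subgroup G} (hA : Tor Ω A) {lam : A →* ℂˣ} (hl : lam ≠ 1) {x : G}
    (hx : x ∈ Subgroup.normalizer (A : Set G)) : lam = lam.comp (cjn hx) ↔ x ∈ A := by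
  constructor
  · intro he
    by_contra hxA
    apply hl
    let f : A → A := fun y => y⁻¹ * cjn hx y
    have hc := h.tor_comm hA
    have hf : Function.Injective f := by
      intro y z hyz
      have h1 : (y : G)⁻¹ * (x⁻¹ * y * x) = (z : G)⁻¹ * (x⁻¹ * z * x) := congrArg Subtype.val hyz
      by_contra hne
      apply hxA
      have h2 : (z : G)⁻¹ * y ∈ A := mul_mem (inv_mem z.2) y.2
      have h3 : (z : G)⁻¹ * y ≠ 1 := fun e => hne (Subtype.ext (inv_mul_eq_one.mp e).symm)
      rw [← h.tor_cent hA h2 h3, Subgroup.mem_centralizer_singleton_iff]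
      have hz' : x⁻¹ * z * x ∈ A := (cjn hx z).2
      have hy' : x⁻¹ * y * x ∈ A := (cjn hx y).2
      have h4 : x⁻¹ * ((z : G)⁻¹ * y) * x = (z : G)⁻¹ * y := by
        have e1 : x⁻¹ * ((z : G)⁻¹ * y) * x = (x⁻¹ * z * x)⁻¹ * (x⁻¹ * y * x) := by group
        have e2 : x⁻¹ * y * x = y * ((z : G)⁻¹ * (x⁻¹ * z * x)) := by rw [← h1]; group
        rw [e1, e2]
        have e3 := hc _ (inv_mem hz') _ y.2
        calc (x⁻¹ * z * x)⁻¹ * (y * ((z : G)⁻¹ * (x⁻¹ * z * x))) =
            ((x⁻¹ * z * x)⁻¹ * y) * ((z : G)⁻¹ * (x⁻¹ * z * x)) := by group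
          _ = (y * (x⁻¹ * z * x)⁻¹) * ((z : G)⁻¹ * (x⁻¹ * z * x)) := by rw [e3]
          _ = y * ((x⁻¹ * z * x)⁻¹ * (z : G)⁻¹) * (x⁻¹ * z * x) := by group
          _ = y * ((z : G)⁻¹ * (x⁻¹ * z * x)⁻¹) * (x⁻¹ * z * x) := by
              rw [hc _ (inv_mem hz') _ (inv_mem z.2)]
          _ = y * (z : G)⁻¹ := by group
          _ = (z : G)⁻¹ * y := hc _ y.2 _ (inv_mem z.2)
      calc x * ((z : G)⁻¹ * y) = x * (x⁻¹ * ((z : G)⁻¹ * y) * x) := by rw [h4]
        _ = (z : G)⁻¹ * y * x := by group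
    have hs := (Finite.injective_iff_surjective).mp hf
    ext y
    obtain ⟨w, rfl⟩ := hs y
    have h5 : lam w = lam (cjn hx w) := DFunLike.congr_fun he w
    simp only [f, map_mul, map_inv, ← h5, inv_mul_cancel, MonoidHom.one_apply]
  · intro hxA
    ext y
    have : cjn hx y = y := by
      apply Subtype.ext
      change x⁻¹ * y * x = y
      rw [mul_assoc, h.tor_comm hA _ y.2 _ hxA]; group
    rw [MonoidHom.comp_apply, this]

theorem Hyp.EL_norm {A : Subgroup G} (hA : Tor Ω A) {lam : A →* ℂˣ} (hl : lam ≠ 1) {N : ℕ}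
    (hN : Nat.card (Subgroup.normalizer (A : Set G)) = Nat.card A * N) :
    classInner (EL lam) (EL lam) = N + 1 := by
  classical
  haveI : Fintype A := Fintype.ofFinite _
  have hA0 : (Nat.card A : ℂ) ≠ 0 := cardH_ne_zero A
  have key : ∀ x : G, ∑ y : A, oml lam y * conj (extendByZero A (oml lam) (x⁻¹ * y * x)) =
      if x ∈ Subgroup.normalizer (A : Set G) then (if x ∈ A then 2 * (Nat.card A : ℂ) else (Nat.card A : ℂ)) else 0 := by
    intro x
    split_ifs with hx hxA
    · have h1 : ∀ y : A, extendByZero A (oml lam) (x⁻¹ * y * x) = oml (lam.comp (cjn hx)) y := fun y =>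
        ext_mem A (oml lam) (cjn hx y).2
      have h2 := ci_oml lam (lam.comp (cjn hx)) hl (by
        rw [← (h.cjn_eq hA hl hx).mpr hxA]; exact hl)
      rw [if_pos ((h.cjn_eq hA hl hx).mpr hxA), classInner] at h2
      rw [Finset.sum_congr rfl fun y _ => by rw [h1 y]]
      field_simp at h2
      rw [h2]; ring
    · have h1 : ∀ y : A, extendByZero A (oml lam) (x⁻¹ * y * x) = oml (lam.comp (cjn hx)) y := fun y =>
        ext_mem A (oml lam) (cjn hx y).2
      have hne : lam.comp (cjn hx) ≠ 1 := by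
        intro e
        apply hl
        ext y
        have h3 : (cjn (A := A) (x := x) hx) ⟨x * y * x⁻¹, (Subgroup.mem_normalizer_iff.mp hx y).mp y.2⟩ = y := by
          apply Subtype.ext
          change x⁻¹ * (x * y * x⁻¹) * x = y
          group
        have h4 := DFunLike.congr_fun e ⟨x * y * x⁻¹, (Subgroup.mem_normalizer_iff.mp hx y).mp y.2⟩
        rw [MonoidHom.comp_apply, h3] at h4
        rw [h4]; rfl
      have h2 := ci_oml lam (lam.comp (cjn hx)) hl hne
      rw [if_neg (fun e => hxA ((h.cjn_eq hA hl hx).mp e)), classInner, add_zero] at h2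
      rw [Finset.sum_congr rfl fun y _ => by rw [h1 y]]
      field_simp at h2
      rw [h2]
    · apply Finset.sum_eq_zero
      intro y _
      by_cases hy : y = 1
      · rw [hy, oml_one, zero_mul]
      · rw [ext_not_mem, map_zero, mul_zero]
        intro hm
        apply hx
        have := h.tor_TI hA y.2 (fun e => hy (Subtype.ext e)) (g := x⁻¹) (by simpa using hm)
        simpa using inv_mem this
  rw [EL, frobenius _ _ _ (ind_isClass A _), classInner]
  have h1 : ∀ y : A, oml lam y * conj (indFun A (oml lam) y) =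
      (Nat.card A : ℂ)⁻¹ * ∑ x : G, oml lam y * conj (extendByZero A (oml lam) (x⁻¹ * y * x)) := by
    intro y
    rw [indFun, map_mul, map_sum, map_inv₀, Complex.conj_natCast, ← Finset.mul_sum]
    ring
  rw [Finset.sum_congr rfl fun y _ => h1 y, ← Finset.mul_sum, Finset.sum_comm, Finset.sum_congr rfl fun x _ => key x,
    ← Finset.sum_filter]
  have h2 : ∀ x ∈ Finset.univ.filter (fun x : G => x ∈ Subgroup.normalizer (A : Set G)),
      (if x ∈ A then 2 * (Nat.card A : ℂ) else (Nat.card A : ℂ)) =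
      (Nat.card A : ℂ) + if x ∈ A then (Nat.card A : ℂ) else 0 := by
    intro x _
    split_ifs <;> ring
  rw [Finset.sum_congr rfl h2, Finset.sum_add_distrib, Finset.sum_const, ← Finset.sum_filter, Finset.sum_const,
    Finset.filter_filter]
  have h3 : Finset.univ.filter (fun x : G => x ∈ Subgroup.normalizer (A : Set G) ∧ x ∈ A) =
      Finset.univ.filter (fun x : G => x ∈ A) := by
    ext x
    simp only [Finset.mem_filter, Finset.mem_univ, true_and]
    exact ⟨fun h => h.2, fun h => ⟨Subgroup.le_normalizer h, h⟩⟩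
  have h4 : (Finset.univ.filter (fun x : G => x ∈ A)).card = Nat.card A := by
    rw [Nat.card_eq_fintype_card, Fintype.card_subtype]
  have h5 : (Finset.univ.filter (fun x : G => x ∈ Subgroup.normalizer (A : Set G))).card = Nat.card A * N := by
    rw [← hN, Nat.card_eq_fintype_card, Fintype.card_subtype]
  rw [h3, h4, h5, nsmul_eq_mul, nsmul_eq_mul]
  push_cast
  field_simp

theorem Hyp.EL_orth {A B : Subgroup G} (hA : Tor Ω A) (hB : Tor Ω B) (hAB : ¬ Cj A B) (lam : A →* ℂˣ) (mu : B →* ℂˣ) :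
    classInner (EL lam) (EL mu) = 0 := by
  rw [classInner, Finset.sum_eq_zero, mul_zero]
  intro x _
  by_cases hx : x ∈ cls A
  · rw [EL_zero mu (fun hxB => hAB (h.cj_of_mem hA hB hx hxB)), map_zero, mul_zero]
  · rw [EL_zero lam hx, zero_mul]

/-- inner product with functions vanishing on fixed point free elements -/
theorem Hyp.EL_van {A : Subgroup G} (hA : Tor Ω A) (lam : A →* ℂˣ) {χ : G → ℂ}
    (hχ : ∀ x : G, (∀ c : Ω, x • c ≠ c) → χ x = 0) : classInner (EL lam) χ = 0 := by
  rw [classInner, Finset.sum_eq_zero, mul_zero]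
  intro x _
  by_cases hx : x ∈ cls A
  · rw [hχ x (mem_SRs.mp (h.cls_sr hA hx)).1, map_zero, mul_zero]
  · rw [EL_zero lam hx, zero_mul]

theorem Hyp.EL_triv {A : Subgroup G} (lam : A →* ℂˣ) (hl : lam ≠ 1) :
    classInner (EL lam) (fun _ => 1) = 1 := by
  classical
  haveI : Fintype A := Fintype.ofFinite _
  have h0 : (fun _ : A => (1 : ℂ)) = fun y => (((1 : A →* ℂˣ) y : ℂˣ) : ℂ) := by
    ext y; simp
  rw [EL, frobenius _ _ _ (IsIrr.isClass isIrr_one), oml, ci_sub_left, h0, ci_lam, ci_lam, if_pos rfl, if_neg hl,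
    sub_zero]

/-- class sums -/
theorem Hyp.EL_sum {A : Subgroup G} (hA : Tor Ω A) (lam : A →* ℂˣ) (hl : lam ≠ 1) [Fintype (IrrCharacter G)]
    {z : G} (hz : orderOf z = 2) :
    ∑ χ : IrrCharacter G, classInner (EL lam) (χ : G → ℂ) * ((χ : G → ℂ) z ^ 2 / (χ : G → ℂ) 1) =
      (Nat.card U : ℂ) * Nat.card A / (Nat.card (EE G a b) * (Nat.card U + 1)) := by
  classical
  haveI := h.simple
  haveI : Fintype A := Fintype.ofFinite _
  have hconj : ∀ x : G, IsConj z x ↔ orderOf x = 2 := by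
    intro x
    constructor
    · intro hx
      obtain ⟨g, rfl⟩ := isConj_iff.mp hx
      rw [← hz]
      exact orderOf_injective (MulAut.conj g).toMonoidHom (MulAut.conj g).injective z
    · intro hx
      exact inv_conj h.zass h.ab h.odd hz hx
  have hcl : (Finset.univ.filter (IsConj z)).card = Nat.card (EE G a b) * (Nat.card U + 1) := by
    rw [← h.card_inv, Nat.card_eq_fintype_card, Fintype.card_subtype]
    congr 1
    ext x
    simp only [Finset.mem_filter, Finset.mem_univ, true_and, hconj]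
  have h1 := Cfsg.Agent.H3.InvSum.class_sum_ind A (oml lam) z
  have h2 : ∀ s : A, oml lam s * ((Finset.univ.filter (fun x : G => IsConj z x ∧ IsConj z (x⁻¹ * s))).card : ℂ) =
      oml lam s * Nat.card A := by
    intro s
    by_cases hs : s = 1
    · rw [hs, oml_one, zero_mul, zero_mul]
    · have hs1 : (s : G) ≠ 1 := fun e => hs (Subtype.ext e)
      have h3 := h.nn_sr (h.tor_sr hA s.2 hs1)
      rw [h.tor_cent hA s.2 hs1, nn] at h3
      rw [← h3]
      congr 2
      congr 1
      ext x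
      simp only [Finset.mem_filter, Finset.mem_univ, true_and, hconj]
      constructor
      · rintro ⟨hx, hxs⟩
        rw [inv_eq_of_mul_eq_one_left (sq_of_order hx)] at hxs
        exact ⟨hx, hxs⟩
      · rintro ⟨hx, hxs⟩
        rw [inv_eq_of_mul_eq_one_left (sq_of_order hx)]
        exact ⟨hx, hxs⟩
  have h3 : ∑ s : A, oml lam s = Nat.card A := by
    have h4 : classInner (oml lam) (fun _ => 1) = 1 := by
      have h0 : (fun _ : A => (1 : ℂ)) = fun y => (((1 : A →* ℂˣ) y : ℂˣ) : ℂ) := by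
        ext y; simp
      rw [oml, ci_sub_left, h0, ci_lam, ci_lam, if_pos rfl, if_neg hl, sub_zero]
    rw [classInner] at h4
    simp only [map_one, mul_one] at h4
    have hA0 : (Nat.card A : ℂ) ≠ 0 := cardH_ne_zero A
    field_simp at h4
    exact h4
  rw [Finset.sum_congr rfl fun s _ => h2 s, ← Finset.sum_mul, h3] at h1
  have h4 : ∑ x ∈ Finset.univ.filter (IsConj z), ∑ y ∈ Finset.univ.filter (IsConj z), indFun A (oml lam) (x * y) =
      ((Nat.card (EE G a b) * (Nat.card U + 1) : ℕ) : ℂ) ^ 2 *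
        ∑ χ : IrrCharacter G, classInner (EL lam) (χ : G → ℂ) * ((χ : G → ℂ) z ^ 2 / (χ : G → ℂ) 1) := by
    have h5 : ∀ x y : G, indFun A (oml lam) (x * y) =
        ∑ χ : IrrCharacter G, classInner (EL lam) (χ : G → ℂ) * (χ : G → ℂ) (x * y) := fun x y =>
      expand_apply (EL lam) (ind_isClass A _) (x * y)
    simp only [h5]
    rw [Finset.sum_congr rfl fun x _ => Finset.sum_comm, Finset.sum_comm, Finset.mul_sum]
    refine Finset.sum_congr rfl fun χ _ => ?_
    have h6 := Cfsg.Agent.H3.InvSum.class_sum_irr χ.2 z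
    rw [hcl] at h6
    simp only [← Finset.mul_sum]
    rw [h6]
    ring
  rw [h4] at h1
  have hG := h.card_G
  have hA0 : (Nat.card A : ℂ) ≠ 0 := cardH_ne_zero A
  have he0 : (Nat.card (EE G a b) : ℂ) ≠ 0 := cardH_ne_zero _
  have hu0 : ((Nat.card U : ℂ) + 1) ≠ 0 := Nat.cast_add_one_ne_zero (Nat.card U)
  rw [hG] at h1
  push_cast at h1
  rw [eq_div_iff (mul_ne_zero he0 hu0)]
  have h7 : (Nat.card (EE G a b) * ((Nat.card U : ℂ) + 1)) * ((∑ χ : IrrCharacter G, classInner (EL lam) (χ : G → ℂ) * ((χ : G → ℂ) z ^ 2 / (χ : G → ℂ) 1)) *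
      (Nat.card (EE G a b) * (Nat.card U + 1))) =
      (Nat.card (EE G a b) * ((Nat.card U : ℂ) + 1)) * (Nat.card U * Nat.card A) := by
    calc _ = (Nat.card (EE G a b) * ((Nat.card U : ℂ) + 1)) ^ 2 * (∑ χ : IrrCharacter G, classInner (EL lam) (χ : G → ℂ) * ((χ : G → ℂ) z ^ 2 / (χ : G → ℂ) 1)) := by ring
      _ = _ := by rw [h1]; field_simp
  exact mul_left_cancel₀ (mul_ne_zero he0 hu0) h7

end

end Cfsg.Agent.H9.ZT
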