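import Mathlib
import Cfsg.Agent.H9_ZT5

/-!
# Zassenhaus groups with nonabelian kernel of 2-power order: the virtual characters `Δ`
-/

set_option autoImplicit false

open scoped ComplexConjugate

namespace Cfsg.Agent.H9.ZT

open Cfsg Cfsg.Agent.H9.ZassA Cfsg.Agent.H9.ZassC Cfsg.Agent.H3.Zass Cfsg.Agent.H3.Zass2
  Cfsg.Agent.H3.Zass5 Cfsg.Agent.H3.CharBasic Cfsg.Agent.H3.CharIrr Cfsg.Agent.H3.CharComplete Cfsg.Agent.H3.CharInd
  Cfsg.Agent.H3.CharMult Cfsg.Agent.H3.CharPerm2 Cfsg.Agent.H3.Feit Cfsg.Agent.H3.FeitZ Cfsg.Agent.H3.CharQuot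
  Cfsg.Agent.H3.Clifford

variable {G Ω : Type*} [Group G] [MulAction G Ω]

/-- the Steinberg character -/
noncomputable def St (G Ω : Type*) [Group G] [MulAction G Ω] : G → ℂ := fun g => perm G Ω g - 1

/-- `Δ` -/
noncomputable def DL (Ω : Type*) {G : Type*} [Group G] [MulAction G Ω] [Fintype G] {A : Subgroup G} (lam : A →* ℂˣ) :
    G → ℂ := EL lam - (fun _ => 1) + St G Ω

variable {a b : Ω} {U : Subgroup G}

section
variable [Fintype G] [Fintype Ω] (h : Hyp a b U)
include h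

theorem Hyp.lt_U : Nat.card (EE G a b) < Nat.card U - 1 := by
  have h1 := h.one_lt
  rcases h.card_U with h2 | h2
  · rw [h2]
    have : (Nat.card (EE G a b) + 1) ^ 2 = Nat.card (EE G a b) * Nat.card (EE G a b) + 2 * Nat.card (EE G a b) + 1 := by ring
    rw [this]
    have : 0 < Nat.card (EE G a b) * Nat.card (EE G a b) := by positivity
    omega
  · rw [h2]
    have h3 : (Nat.card (EE G a b) + 1) ^ 2 ≤ (Nat.card (EE G a b) + 1) ^ 3 := Nat.pow_le_pow_right (by omega) (by norm_num)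
    have : (Nat.card (EE G a b) + 1) ^ 2 = Nat.card (EE G a b) * Nat.card (EE G a b) + 2 * Nat.card (EE G a b) + 1 := by ring
    rw [this] at h3
    have : 0 < Nat.card (EE G a b) * Nat.card (EE G a b) := by positivity
    omega

theorem Hyp.fd : FD (MulAction.stabilizer G a) U (St G Ω) (Nat.card (EE G a b)) (Nat.card U) := by
  haveI := h.simple
  exact Cfsg.Agent.H3.FeitZ.fd h.zass h.ab h.card rfl h.odd h.hle h.hcard h.hfix h.lt_U

theorem Hyp.tri {χ : G → ℂ} (hχ : IsIrrCharacter G χ) (hs : sH U χ ≠ 0) :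
    χ = (fun _ => 1) ∨ χ = St G Ω ∨ (∀ g : G, (∀ c : Ω, g • c ≠ c) → χ g = 0) := by
  classical
  haveI := h.simple
  have : Fintype U := Fintype.ofFinite _
  have : Fintype (MulAction.stabilizer G a) := Fintype.ofFinite _
  have : Fintype (IrrCharacter (MulAction.stabilizer G a)) := Fintype.ofFinite _
  have hNn : (U.subgroupOf (MulAction.stabilizer G a)).Normal := by
    refine ⟨fun u hu b => ?_⟩
    rw [Subgroup.mem_subgroupOf] at *
    exact norm_H h.zass h.hle h.hcard h.hfix b b.2 u hu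
  have : Fintype (U.subgroupOf (MulAction.stabilizer G a)) := Fintype.ofFinite _
  rw [sH_eq] at hs
  have hres : ∀ x : MulAction.stabilizer G a, χ x = ∑ μ : IrrCharacter (MulAction.stabilizer G a),
      classInner (fun x : MulAction.stabilizer G a => χ x) (μ : MulAction.stabilizer G a → ℂ) *
        (μ : MulAction.stabilizer G a → ℂ) x := by
    intro x
    exact expand_apply (fun x : MulAction.stabilizer G a => χ x)
      (IsChar.isClass (IsChar.res (IsIrr.isCharacter hχ) _)) x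
  have hs2 : ∑ u : U, χ u = ∑ μ : IrrCharacter (MulAction.stabilizer G a),
      classInner (fun x : MulAction.stabilizer G a => χ x) (μ : MulAction.stabilizer G a → ℂ) *
        ∑ u : U, (μ : MulAction.stabilizer G a → ℂ) ⟨u, h.hle u.2⟩ := by
    rw [Finset.sum_congr rfl (fun (u : U) _ => hres ⟨u, h.hle u.2⟩), Finset.sum_comm]
    apply Finset.sum_congr rfl
    intro μ _
    rw [Finset.mul_sum]
  rw [hs2] at hs
  obtain ⟨μ, -, hμ⟩ := Finset.exists_ne_zero_of_sum_ne_zero hs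
  have hμ1 := left_ne_zero_of_mul hμ
  have hμ2 := right_ne_zero_of_mul hμ
  have hsum : ∑ u : U, (μ : MulAction.stabilizer G a → ℂ) ⟨u, h.hle u.2⟩ =
      ∑ x : U.subgroupOf (MulAction.stabilizer G a), (μ : MulAction.stabilizer G a → ℂ) x :=
    (Fintype.sum_equiv (Subgroup.subgroupOfEquivOfLe h.hle).toEquiv _ _ (fun x => rfl)).symm
  have hK : InKer (U.subgroupOf (MulAction.stabilizer G a)) (μ : MulAction.stabilizer G a → ℂ) := by
    rw [inKer_iff_inner hNn μ.2, classInner]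
    simp only [map_one, mul_one]
    rw [← hsum]
    exact mul_ne_zero (inv_ne_zero (by exact_mod_cast Nat.card_pos.ne')) hμ2
  have hK1 : ∀ x ∈ U.subgroupOf (MulAction.stabilizer G a), (μ : MulAction.stabilizer G a → ℂ) x =
      (μ : MulAction.stabilizer G a → ℂ) 1 := by
    intro x hx
    have := hK x hx 1
    rwa [mul_one] at this
  have hlin : (μ : MulAction.stabilizer G a → ℂ) 1 = 1 := by
    obtain ⟨μ', hμ', hμμ'⟩ := IsIrr.descend μ.2 _ hK1
    rw [← hμμ' 1]
    apply IsIrr.one_of_comm _ hμ'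
    intro x y
    induction x using QuotientGroup.induction_on with | _ x => ?_
    induction y using QuotientGroup.induction_on with | _ y => ?_
    rw [← QuotientGroup.mk_mul, ← QuotientGroup.mk_mul, QuotientGroup.eq, Subgroup.mem_subgroupOf]
    have h1 := comm_B h.zass h.ab h.card rfl h.odd h.hle h.hcard h.hfix _ ((MulAction.stabilizer G a).inv_mem y.2)
      _ ((MulAction.stabilizer G a).inv_mem x.2)
    have h2 : (((x * y)⁻¹ * (y * x) : MulAction.stabilizer G a) : G) = (y : G)⁻¹ * (x : G)⁻¹ * (y : G)⁻¹⁻¹ * (x : G)⁻¹⁻¹ := by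
      simp only [Subgroup.coe_mul, Subgroup.coe_inv]; group
    rw [h2]
    exact h1
  have hfrob : classInner (indFun (MulAction.stabilizer G a) (μ : MulAction.stabilizer G a → ℂ)) χ ≠ 0 := by
    rw [frobenius _ _ _ (IsIrr.isClass hχ), ← ci_conj_symm]
    intro h1
    exact hμ1 ((map_eq_zero _).mp h1)
  have hlt := h.lt_U
  have hcardΩ : 2 ≤ Nat.card Ω := by
    rw [Nat.card_eq_fintype_card, h.card]; omega
  by_cases hμne : (μ : MulAction.stabilizer G a → ℂ) = fun _ => 1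
  · rw [hμne] at hfrob
    rcases ind_one_eq h.zass hχ hcardΩ hfrob with h1 | h1
    · left; exact h1
    · right; left; exact h1
  · right; right
    obtain ⟨h1, h2⟩ := Cfsg.Agent.S0881.result h.zass h.ab h.odd (by
      have : Nat.card (EE G a b) < Fintype.card Ω - 2 := by rw [h.card]; omega
      exact this) U h.hle h.hcard h.hfix (μ : MulAction.stabilizer G a → ℂ)
      ⟨IsIrr.isCharacter μ.2, hlin⟩ (fun u hu => (hK1 u hu).trans hlin) hμne
    have h3 : indFun (MulAction.stabilizer G a) (μ : MulAction.stabilizer G a → ℂ) = χ := by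
      by_contra h4
      exact hfrob (ci_irr_ne h1 hχ h4)
    rw [← h3]
    intro g hg
    rw [indFun, Finset.sum_eq_zero, mul_zero]
    intro x _
    apply ext_not_mem
    intro hx
    rw [MulAction.mem_stabilizer_iff, mul_smul, mul_smul, inv_smul_eq_iff] at hx
    exact hg _ hx

theorem Hyp.isIrr_St : IsIrrCharacter G (St G Ω) := h.fd.St_irr

theorem Hyp.St_one : St G Ω 1 = Nat.card U := h.fd.St_one

theorem Hyp.St_inv {z : G} (hz : orderOf z = 2) : St G Ω z = 0 := by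
  obtain ⟨c, hc⟩ := h.exists_fix hz
  have h1 : Nat.card (MulAction.fixedBy Ω z) = 1 := by
    rw [Nat.card_eq_one_iff_unique]
    refine ⟨⟨fun x y => Subtype.ext ?_⟩, ⟨⟨c, hc⟩⟩⟩
    exact h.fix_unique hz x.2 y.2
  rw [St, perm, h1]; simp

omit h in
theorem St_fpf {g : G} (hg : ∀ c : Ω, g • c ≠ c) : St G Ω g = -1 := by
  have h1 : Nat.card (MulAction.fixedBy Ω g) = 0 := by
    rw [Nat.card_eq_zero]
    left
    exact ⟨fun x => hg x x.2⟩
  rw [St, perm, h1]; simp

theorem Hyp.St_ne : St G Ω ≠ fun _ => 1 := by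
  intro e
  have h1 := congrFun e 1
  rw [h.St_one] at h1
  have h2 : Nat.card U = 1 := by exact_mod_cast h1
  have := h.lt_U
  omega

theorem Hyp.EL_St {A : Subgroup G} (hA : Tor Ω A) (lam : A →* ℂˣ) (hl : lam ≠ 1) :
    classInner (EL lam) (St G Ω) = -1 := by
  have h1 : St G Ω = (fun g => St G Ω g + 1) - fun _ => 1 := by
    ext g; simp
  rw [h1, ci_sub_right, h.EL_triv lam hl, h.EL_van hA lam, zero_sub]
  intro x hx
  rw [St_fpf hx]; ring

theorem Hyp.isGen_DL {A : Subgroup G} (lam : A →* ℂˣ) : IsGeneralizedCharacter G (DL Ω lam) :=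
  IsGen.add (IsGen.sub (isGen_EL lam) (IsGen.of_irr isIrr_one)) (IsGen.of_irr h.isIrr_St)

theorem Hyp.DL_norm {A : Subgroup G} (hA : Tor Ω A) {lam : A →* ℂˣ} (hl : lam ≠ 1) {N : ℕ}
    (hN : Nat.card (Subgroup.normalizer (A : Set G)) = Nat.card A * N) :
    classInner (DL Ω lam) (DL Ω lam) = N - 1 := by
  have h1 := h.EL_norm hA hl hN
  have h2 := h.EL_triv lam hl
  have h3 := h.EL_St hA lam hl
  have h4 : classInner (fun _ => (1 : ℂ)) (EL lam) = 1 := by rw [← ci_conj_symm, h2, map_one]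
  have h5 : classInner (St G Ω) (EL lam) = -1 := by rw [← ci_conj_symm, h3, map_neg, map_one]
  have h6 : classInner (St G Ω) (fun _ => (1 : ℂ)) = 0 := ci_irr_ne h.isIrr_St isIrr_one h.St_ne
  have h7 : classInner (fun _ => (1 : ℂ)) (St G Ω) = 0 := ci_irr_ne isIrr_one h.isIrr_St h.St_ne.symm
  have h8 : classInner (St G Ω) (St G Ω) = 1 := ci_irr_self h.isIrr_St
  have h9 : classInner (fun _ : G => (1 : ℂ)) (fun _ => (1 : ℂ)) = 1 := ci_irr_self isIrr_one
  rw [DL, ci_add_left, ci_add_right, ci_add_right, ci_sub_left, ci_sub_right, ci_sub_right, ci_sub_left, ci_sub_right,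
    h1, h2, h3, h4, h5, h6, h7, h8, h9]
  ring

theorem Hyp.DL_orth {A B : Subgroup G} (hA : Tor Ω A) (hB : Tor Ω B) (hAB : ¬ Cj A B) {lam : A →* ℂˣ} {mu : B →* ℂˣ}
    (hl : lam ≠ 1) (hm : mu ≠ 1) : classInner (DL Ω lam) (DL Ω mu) = -2 := by
  have h1 := h.EL_orth hA hB hAB lam mu
  have h2 := h.EL_triv lam hl
  have h3 := h.EL_St hA lam hl
  have h2' := h.EL_triv mu hm
  have h3' := h.EL_St hB mu hm
  have h4 : classInner (fun _ => (1 : ℂ)) (EL mu) = 1 := by rw [← ci_conj_symm, h2', map_one]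
  have h5 : classInner (St G Ω) (EL mu) = -1 := by rw [← ci_conj_symm, h3', map_neg, map_one]
  have h6 : classInner (St G Ω) (fun _ => (1 : ℂ)) = 0 := ci_irr_ne h.isIrr_St isIrr_one h.St_ne
  have h7 : classInner (fun _ => (1 : ℂ)) (St G Ω) = 0 := ci_irr_ne isIrr_one h.isIrr_St h.St_ne.symm
  have h8 : classInner (St G Ω) (St G Ω) = 1 := ci_irr_self h.isIrr_St
  have h9 : classInner (fun _ : G => (1 : ℂ)) (fun _ => (1 : ℂ)) = 1 := ci_irr_self isIrr_one
  rw [DL, DL, ci_add_left, ci_add_right, ci_add_right, ci_sub_left, ci_sub_right, ci_sub_right, ci_sub_left, ci_sub_right,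
    h1, h2, h3, h4, h5, h6, h7, h8, h9]
  ring

theorem Hyp.DL_one {A : Subgroup G} (lam : A →* ℂˣ) : DL Ω lam 1 = Nat.card U - 1 := by
  rw [DL, Pi.add_apply, Pi.sub_apply, EL_one, h.St_one]
  ring

theorem Hyp.DL_inv {A : Subgroup G} (hA : Tor Ω A) (lam : A →* ℂˣ) {z : G} (hz : orderOf z = 2) :
    DL Ω lam z = -1 := by
  have h1 : z ∉ cls A := by
    intro hz'
    obtain ⟨c, hc⟩ := h.exists_fix hz
    exact (mem_SRs.mp (h.cls_sr hA hz')).1 c hc
  rw [DL, Pi.add_apply, Pi.sub_apply, EL_zero lam h1, h.St_inv hz]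
  ring

/-- `Δ` is cuspidal -/
theorem Hyp.DL_cusp {A : Subgroup G} (hA : Tor Ω A) {lam : A →* ℂˣ} (hl : lam ≠ 1) {χ : G → ℂ}
    (hχ : IsIrrCharacter G χ) (hs : sH U χ ≠ 0) : classInner (DL Ω lam) χ = 0 := by
  classical
  have h1 : classInner (fun _ => (1 : ℂ)) χ = if χ = (fun _ => 1) then 1 else 0 := by
    rw [ci_irr isIrr_one hχ]
    by_cases h2 : χ = fun _ => 1
    · rw [if_pos h2.symm, if_pos h2]
    · rw [if_neg (fun e => h2 e.symm), if_neg h2]
  have h2 : classInner (St G Ω) χ = if χ = St G Ω then 1 else 0 := by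
    rw [ci_irr h.isIrr_St hχ]
    by_cases h2 : χ = St G Ω
    · rw [if_pos h2.symm, if_pos h2]
    · rw [if_neg (fun e => h2 e.symm), if_neg h2]
  rw [DL, ci_add_left, ci_sub_left, h1, h2]
  rcases h.tri hχ hs with h3 | h3 | h3
  · rw [if_pos h3, if_neg (fun e => h.St_ne (by rw [← e, h3])), h3, h.EL_triv lam hl]
    ring
  · rw [if_pos h3, if_neg (fun e => h.St_ne (by rw [← h3, e])), h3, h.EL_St hA lam hl]
    ring
  · rw [h.EL_van hA lam h3]
    have h4 : χ ≠ fun _ => 1 := by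
      intro e
      obtain ⟨z, hz, hz1⟩ := h.tor_ne hA
      have h5 := h3 z (h.tor_sr hA hz hz1).1
      rw [e] at h5
      exact one_ne_zero h5
    have h5 : χ ≠ St G Ω := by
      intro e
      obtain ⟨z, hz, hz1⟩ := h.tor_ne hA
      have h5 := h3 z (h.tor_sr hA hz hz1).1
      rw [e, St_fpf (h.tor_sr hA hz hz1).1] at h5
      norm_num at h5
    rw [if_neg h4, if_neg h5]
    ring

theorem Hyp.DL_sum {A : Subgroup G} (hA : Tor Ω A) {lam : A →* ℂˣ} (hl : lam ≠ 1) [Fintype (IrrCharacter G)]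
    {z : G} (hz : orderOf z = 2) :
    ∑ χ : IrrCharacter G, classInner (DL Ω lam) (χ : G → ℂ) * ((χ : G → ℂ) z ^ 2 / (χ : G → ℂ) 1) =
      (Nat.card U : ℂ) * Nat.card A / (Nat.card (EE G a b) * (Nat.card U + 1)) - 1 := by
  classical
  have h1 : ∀ χ : IrrCharacter G, classInner (DL Ω lam) (χ : G → ℂ) * ((χ : G → ℂ) z ^ 2 / (χ : G → ℂ) 1) =
      classInner (EL lam) (χ : G → ℂ) * ((χ : G → ℂ) z ^ 2 / (χ : G → ℂ) 1) -
      (if (⟨_, isIrr_one⟩ : IrrCharacter G) = χ then (χ : G → ℂ) z ^ 2 / (χ : G → ℂ) 1 else 0) +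
      (if (⟨_, h.isIrr_St⟩ : IrrCharacter G) = χ then (χ : G → ℂ) z ^ 2 / (χ : G → ℂ) 1 else 0) := by
    intro χ
    have e1 : classInner (fun _ => (1 : ℂ)) (χ : G → ℂ) = if (⟨_, isIrr_one⟩ : IrrCharacter G) = χ then 1 else 0 := by
      rw [ci_irr isIrr_one χ.2]
      congr 1
      rw [Subtype.ext_iff]
    have e2 : classInner (St G Ω) (χ : G → ℂ) = if (⟨_, h.isIrr_St⟩ : IrrCharacter G) = χ then 1 else 0 := by
      rw [ci_irr h.isIrr_St χ.2]
      congr 1
      rw [Subtype.ext_iff]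
    rw [DL, ci_add_left, ci_sub_left, e1, e2]
    split_ifs <;> ring
  rw [Finset.sum_congr rfl fun χ _ => h1 χ, Finset.sum_add_distrib, Finset.sum_sub_distrib, h.EL_sum hA lam hl hz,
    Finset.sum_ite_eq, Finset.sum_ite_eq, if_pos (Finset.mem_univ _), if_pos (Finset.mem_univ _)]
  change _ - (1 : ℂ) ^ 2 / 1 + St G Ω z ^ 2 / St G Ω 1 = _
  rw [h.St_inv hz]
  simp

/-- degrees and values of cuspidal characters -/
theorem Hyp.cusp {χ : G → ℂ} (hχ : IsIrrCharacter G χ) (hs : sH U χ = 0) {z : G} (hz : orderOf z = 2) :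
    ∃ s l : ℕ, 0 < s ∧ χ 1 = (Nat.card (EE G a b) : ℂ) * s ∧
      χ z = ((Nat.card (EE G a b) : ℂ) + 1) * l - s := by
  classical
  haveI := h.simple
  have : Fintype U := Fintype.ofFinite _
  have : Fintype (ZU U) := Fintype.ofFinite _
  have : Fintype (MulAction.stabilizer G a) := Fintype.ofFinite _
  have : Fintype (IrrCharacter G) := Fintype.ofFinite _
  have : Fintype (IrrCharacter (MulAction.stabilizer G a)) := Fintype.ofFinite _
  obtain ⟨e, he⟩ : ∃ e, e = Nat.card (EE G a b) := ⟨_, rfl⟩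
  have he1 := h.one_lt
  have D := h.fd
  rw [← he] at he1 D ⊢
  have hO : (⟨χ, hχ⟩ : IrrCharacter G) ∈ OO U := mem_OO.mpr hs
  have he0 : (e : ℂ) ≠ 0 := by exact_mod_cast (by omega : e ≠ 0)
  -- `e ∣ χ 1`
  have hdvd : ∃ s : ℕ, χ 1 = (e : ℂ) * s := by
    have h1 := expand_apply (fun x : MulAction.stabilizer G a => χ x)
      (IsChar.isClass (IsChar.res (IsIrr.isCharacter hχ) _)) 1
    have h2 : ∀ θ : IrrCharacter (MulAction.stabilizer G a), ∃ m : ℕ,
        classInner (fun x : MulAction.stabilizer G a => χ x) (θ : MulAction.stabilizer G a → ℂ) *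
          (θ : MulAction.stabilizer G a → ℂ) 1 = (e : ℂ) * m := by
      intro θ
      rw [mm_cast (IsIrr.isCharacter hχ) (IsIrr.isCharacter θ.2)]
      by_cases hr : RelB (MulAction.stabilizer G a) U (θ : MulAction.stabilizer G a → ℂ)
      · obtain ⟨d, -, hd⟩ := hr.degree D
        refine ⟨mm χ (θ : MulAction.stabilizer G a → ℂ) * d, ?_⟩
        rw [hd]; push_cast; ring
      · refine ⟨0, ?_⟩
        have := mm_nonrel D hO θ.2 hr
        rw [this]; simp
    choose m hm using h2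
    refine ⟨∑ θ, m θ, ?_⟩
    change χ 1 = _
    have h3 : χ 1 = χ ((1 : MulAction.stabilizer G a) : G) := rfl
    rw [h3, h1, Finset.sum_congr rfl fun θ _ => hm θ, ← Finset.mul_sum]
    push_cast; rfl
  obtain ⟨s, hsχ⟩ := hdvd
  -- the restriction to `Z`
  have hZn : ∀ b' ∈ MulAction.stabilizer G a, ∀ z ∈ ZU U, b' * z * b'⁻¹ ∈ ZU U := by
    intro b' hb' z hz
    have h1 := h.mem_ZU.mp hz
    refine h.mem_ZU.mpr ⟨D.hn b' hb' z h1.1, ?_⟩
    calc b' * z * b'⁻¹ * (b' * z * b'⁻¹) = b' * (z * z) * b'⁻¹ := by group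
      _ = 1 := by rw [h1.2]; group
  obtain ⟨w, hw⟩ : ∃ w, w * Nat.card (ZU U) = Nat.card U := by
    obtain ⟨w, hw⟩ := Subgroup.card_dvd_of_le h.ZU_le
    exact ⟨w, by rw [hw, mul_comm]⟩
  have hyd := yy_dvd D h.ZU_le hZn hw (IsIrr.isCharacter hχ)
  have hyc := yy_cast (Z := ZU U) (IsIrr.isCharacter hχ)
  rw [yv] at hyc
  obtain ⟨m, hm⟩ := ci_char_nat (IsChar.res (IsIrr.isCharacter hχ) (ZU U)) (IsChar.one (G := ZU U))
  have hm2 : (Nat.card (ZU U) : ℂ)⁻¹ * ∑ z : ZU U, χ z = m := by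
    rw [← hm, classInner]; simp
  rw [hm2] at hyc
  obtain ⟨k, hk⟩ := hyd
  have hsum : ∑ z : ZU U, χ z = χ 1 + e * χ z := by
    rw [← Finset.add_sum_erase Finset.univ _ (Finset.mem_univ (1 : ZU U))]
    congr 1
    have h3 : ∀ x ∈ Finset.univ.erase (1 : ZU U), χ x = χ z := by
      intro x hx
      have hx1 : (x : G) ≠ 1 := fun e => (Finset.mem_erase.mp hx).1 (Subtype.ext e)
      have hx2 := (h.mem_ZU.mp x.2).2
      apply IsClass.eq_of_isConj (IsIrr.isClass hχ)
      exact inv_conj h.zass h.ab h.odd (order_of_sq hx2 hx1) hz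
    rw [Finset.sum_congr rfl h3, Finset.sum_const, Finset.card_erase_of_mem (Finset.mem_univ _), Finset.card_univ,
      ← Nat.card_eq_fintype_card, h.card_ZU, ← he, Nat.add_sub_cancel, nsmul_eq_mul]
  rw [hsum, h.card_ZU, ← he] at hm2
  have hq0 : ((e + 1 : ℕ) : ℂ) ≠ 0 := by exact_mod_cast Nat.succ_ne_zero e
  have hm3 : χ 1 + e * χ z = (e + 1 : ℕ) * m := by
    rw [← hm2, mul_inv_cancel_left₀ hq0]
  -- `e ∣ m`
  have hem : (e : ℤ) ∣ m := by
    rw [hk, hsχ] at hyc
    have h4 : (m : ℤ) = e * (s - k) := by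
      have : ((m : ℤ) : ℂ) = ((e * (s - k) : ℤ) : ℂ) := by
        push_cast
        push_cast at hyc
        linear_combination -hyc
      exact_mod_cast this
    rw [h4]
    exact Dvd.intro _ rfl
  obtain ⟨l, hl⟩ := Int.natCast_dvd_natCast.mp hem
  refine ⟨s, l, ?_, hsχ, ?_⟩
  · rcases Nat.eq_zero_or_pos s with h0 | h0
    · exfalso
      rw [h0] at hsχ
      exact IsIrr.one_ne_zero hχ (by rw [hsχ]; simp)
    · exact h0
  · rw [hsχ, hl] at hm3
    push_cast at hm3
    have h5 : (e : ℂ) * χ z = e * (((e : ℂ) + 1) * l - s) := by linear_combination hm3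
    exact mul_left_cancel₀ he0 h5

end

end Cfsg.Agent.H9.ZT
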