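import Mathlib
import Cfsg.Agent.H9_ZT6
import Cfsg.Agent.H3_Isom

/-!
# Zassenhaus groups with nonabelian kernel of 2-power order: `|U| = q²`
-/

set_option autoImplicit false

open scoped ComplexConjugate

namespace Cfsg.Agent.H9.ZT

open Cfsg Cfsg.Agent.H9.ZassA Cfsg.Agent.H9.ZassC Cfsg.Agent.H3.Zass Cfsg.Agent.H3.Zass2
  Cfsg.Agent.H3.Zass5 Cfsg.Agent.H3.CharBasic Cfsg.Agent.H3.CharIrr Cfsg.Agent.H3.CharComplete Cfsg.Agent.H3.CharInd
  Cfsg.Agent.H3.CharMult Cfsg.Agent.H3.CharPerm2 Cfsg.Agent.H3.Feit Cfsg.Agent.H3.FeitZ Cfsg.Agent.H3.CharQuot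
  Cfsg.Agent.H3.Clifford

variable {G Ω : Type*} [Group G] [MulAction G Ω]

/-- the arithmetic -/
theorem arith_two {q s1 s2 l1 l2 : ℕ} (hq : 4 ≤ q) (hs1 : 0 < s1) (hs2 : 0 < s2) {σ τ : ℤ}
    (hσ : σ = 1 ∨ σ = -1) (hτ : τ = 1 ∨ τ = -1) (h1 : σ * s1 + τ * s2 = 2 * (q + 1)) (h2 : σ * l1 + τ * l2 = 2)
    (h3 : (σ * l1 ^ 2 * s2 + τ * l2 ^ 2 * s1) * (q ^ 2 + 1) = 2 * (q + 1) * (s1 * s2 : ℤ)) :
    ∃ m : ℕ, 8 * q = m ^ 2 := by
  -- mixed signs
  have mixed : ∀ {s1 s2 l1 l2 : ℤ}, 0 < s1 → 0 < s2 → s1 - s2 = 2 * (q + 1) → l1 - l2 = 2 →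
      (l1 ^ 2 * s2 - l2 ^ 2 * s1) * (q ^ 2 + 1) = 2 * (q + 1) * (s1 * s2 : ℤ) → False := by
    intro s1 s2 l1 l2 hs1 hs2 h1 h2 h3
    obtain ⟨t, ht⟩ : ∃ t : ℤ, t = 2 * (q + 1) := ⟨_, rfl⟩
    have e1 : s1 = s2 + t := by rw [ht]; linarith
    have e2 : l1 = l2 + 2 := by linarith
    have ht0 : 0 < t := by rw [ht]; positivity
    rw [← ht, e1, e2] at h3
    have h4 : t * ((l2 + 2) ^ 2 * s2 - l2 ^ 2 * (s2 + t)) ≤ 4 * (s2 * (s2 + t)) := by
      nlinarith [sq_nonneg (l2 * t - 2 * s2)]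
    have h5 : t ^ 2 * (s2 * (s2 + t)) ≤ 4 * (q ^ 2 + 1) * (s2 * (s2 + t)) := by
      calc t ^ 2 * (s2 * (s2 + t)) = t * (((l2 + 2) ^ 2 * s2 - l2 ^ 2 * (s2 + t)) * (q ^ 2 + 1)) := by rw [h3]; ring
        _ = (q ^ 2 + 1) * (t * ((l2 + 2) ^ 2 * s2 - l2 ^ 2 * (s2 + t))) := by ring
        _ ≤ (q ^ 2 + 1) * (4 * (s2 * (s2 + t))) := by
            apply mul_le_mul_of_nonneg_left h4; positivity
        _ = _ := by ring
    have h6 : 0 < s2 * (s2 + t) := by positivity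
    have h7 := le_of_mul_le_mul_right h5 h6
    rw [ht] at h7
    have hq' : (4 : ℤ) ≤ q := by exact_mod_cast hq
    nlinarith
  have hs1' : (0 : ℤ) < s1 := by exact_mod_cast hs1
  have hs2' : (0 : ℤ) < s2 := by exact_mod_cast hs2
  have hq' : (4 : ℤ) ≤ q := by exact_mod_cast hq
  rcases hσ with rfl | rfl <;> rcases hτ with rfl | rfl
  · rw [one_mul, one_mul] at h1 h2
    have hl : (l1 = 0 ∧ l2 = 2) ∨ (l1 = 1 ∧ l2 = 1) ∨ (l1 = 2 ∧ l2 = 0) := by
      have h2' : l1 + l2 = 2 := by exact_mod_cast h2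
      omega
    have key : ∀ {s : ℤ}, s * (q + 1) = 2 * (q ^ 2 + 1) → False := by
      intro s hs
      have h5 : ((q : ℤ) + 1) ∣ 4 := by
        refine ⟨s - 2 * (q - 1), ?_⟩
        linear_combination (-1 : ℤ) * hs
      have h6 := Int.le_of_dvd (by norm_num) h5
      linarith
    rcases hl with ⟨rfl, rfl⟩ | ⟨rfl, rfl⟩ | ⟨rfl, rfl⟩
    · exfalso
      push_cast at h3
      apply key (s := s2)
      have h5 : (2 * s1 : ℤ) * (s2 * (q + 1)) = (2 * s1) * (2 * (q ^ 2 + 1)) := by linear_combination (-1 : ℤ) * h3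
      exact mul_left_cancel₀ (by positivity) h5
    · push_cast at h3
      have h4 : (s1 * s2 : ℤ) = q ^ 2 + 1 := by
        have h5 : (2 * ((q : ℤ) + 1)) * (s1 * s2) = (2 * (q + 1)) * (q ^ 2 + 1) := by
          rw [← h3, ← h1]; ring
        exact mul_left_cancel₀ (by positivity) h5
      have h5 : ((s1 : ℤ) - s2) ^ 2 = 8 * q := by
        have : ((s1 : ℤ) - s2) ^ 2 = (s1 + s2) ^ 2 - 4 * (s1 * s2) := by ring
        rw [this, h1, h4]; ring
      refine ⟨((s1 : ℤ) - s2).natAbs, ?_⟩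
      have h6 : ((((s1 : ℤ) - s2).natAbs : ℤ)) ^ 2 = 8 * q := by rw [Int.natAbs_sq]; exact h5
      exact_mod_cast h6.symm
    · exfalso
      push_cast at h3
      apply key (s := s1)
      have h5 : (2 * s2 : ℤ) * (s1 * (q + 1)) = (2 * s2) * (2 * (q ^ 2 + 1)) := by linear_combination (-1 : ℤ) * h3
      exact mul_left_cancel₀ (by positivity) h5
  · exfalso
    exact mixed (s1 := s1) (s2 := s2) (l1 := l1) (l2 := l2) hs1' hs2' (by linarith) (by linarith) (by linear_combination h3)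
  · exfalso
    exact mixed (s1 := s2) (s2 := s1) (l1 := l2) (l2 := l1) hs2' hs1' (by linarith) (by linarith) (by linear_combination h3)
  · exfalso
    linarith

variable {a b : Ω} {U : Subgroup G}

section
variable [Fintype G] [Fintype Ω] (h : Hyp a b U)
include h

theorem Hyp.exists_lam {A : Subgroup G} (hA : Tor Ω A) : ∃ lam : A →* ℂˣ, lam ≠ 1 := by
  letI : CommGroup A := { (inferInstance : Group A) with
    mul_comm := fun x y => Subtype.ext (h.tor_comm hA x x.2 y y.2) }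
  obtain ⟨y, hy, hy1⟩ := h.tor_ne hA
  obtain ⟨φ, hφ⟩ := CommGroup.exists_apply_ne_one_of_hasEnoughRootsOfUnity A ℂ (a := (⟨y, hy⟩ : A))
    (fun e => hy1 (congrArg Subtype.val e))
  exact ⟨φ, fun e => hφ (by rw [e]; rfl)⟩

theorem Hyp.exists_inv : ∃ z : G, orderOf z = 2 := by
  obtain ⟨t, ht, -, -⟩ := Cfsg.Agent.H3.Zass2.exists_inv h.zass h.ab h.odd
  exact ⟨t, ht⟩

/-- `|N(A) : A| ≠ 2` -/
theorem Hyp.N_ne_two {A : Subgroup G} (hA : Tor Ω A) {N : ℕ}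
    (hN : Nat.card (Subgroup.normalizer (A : Set G)) = Nat.card A * N) : N ≠ 2 := by
  rintro rfl
  classical
  have : Fintype (IrrCharacter G) := Fintype.ofFinite _
  obtain ⟨lam, hl⟩ := h.exists_lam hA
  obtain ⟨z, hz⟩ := h.exists_inv
  have h1 := h.DL_norm hA hl hN
  have hlt := h.lt_U
  have he1 := h.one_lt
  obtain ⟨u, hu⟩ : ∃ u, u = Nat.card U := ⟨_, rfl⟩
  obtain ⟨e, he⟩ : ∃ e, e = Nat.card (EE G a b) := ⟨_, rfl⟩
  have hu1 : ((u : ℂ) - 1) = ((u - 1 : ℕ) : ℂ) := by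
    rw [Nat.cast_sub (by omega)]; simp
  have h2 : IsIrrCharacter G (DL Ω lam) := by
    rcases isGen_norm_one (h.isGen_DL lam) (by rw [h1]; norm_num) with h3 | h3
    · exact h3
    · exfalso
      obtain ⟨m, hm, hm'⟩ := IsIrr.one_eq_nat h3
      rw [Pi.neg_apply, h.DL_one, ← hu, hu1] at hm'
      have h4 : ((m + (u - 1) : ℕ) : ℂ) = 0 := by
        push_cast
        rw [← hm']; ring
      have h5 : m + (u - 1) = 0 := by exact_mod_cast h4
      omega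
  have h3 := h.DL_sum hA hl hz
  have h4 : ∑ χ : IrrCharacter G, classInner (DL Ω lam) (χ : G → ℂ) * ((χ : G → ℂ) z ^ 2 / (χ : G → ℂ) 1) =
      1 / ((u : ℂ) - 1) := by
    rw [Finset.sum_eq_single (⟨_, h2⟩ : IrrCharacter G)]
    · change classInner (DL Ω lam) (DL Ω lam) * ((DL Ω lam) z ^ 2 / (DL Ω lam) 1) = _
      rw [ci_irr_self h2, h.DL_one, h.DL_inv hA lam hz, ← hu]
      norm_num
    · intro χ _ hne
      rw [ci_irr_ne h2 χ.2 (fun e => hne (Subtype.ext e.symm)), zero_mul]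
    · intro hn
      exact absurd (Finset.mem_univ _) hn
  rw [h4, ← hu, ← he] at h3
  obtain ⟨n, hn⟩ : ∃ n, n = Nat.card A := ⟨_, rfl⟩
  rw [← hn] at h3
  have e0 : (e : ℂ) ≠ 0 := by exact_mod_cast (by omega : e ≠ 0)
  have u0 : (u : ℂ) ≠ 0 := by exact_mod_cast (by omega : u ≠ 0)
  have u1 : (u : ℂ) + 1 ≠ 0 := Nat.cast_add_one_ne_zero u
  have u2 : (u : ℂ) - 1 ≠ 0 := by rw [hu1]; exact_mod_cast (by omega : u - 1 ≠ 0)
  have h5 : (n : ℂ) * (u - 1) = e * (u + 1) := by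
    field_simp at h3
    have h6 : (u : ℂ) * (n * (u - 1)) = u * (e * (u + 1)) := by linear_combination -h3
    exact mul_left_cancel₀ u0 h6
  rw [hu1] at h5
  have h6 : n * (u - 1) = e * (u + 1) := by exact_mod_cast h5
  have h7 : (u - 1) ∣ e * (u + 1) := ⟨n, by rw [← h6]; ring⟩
  have hev := h.even
  rw [← hu] at hev
  have h8 : Nat.Coprime (u - 1) (u + 1) := by
    have : u + 1 = (u - 1) + 2 := by omega
    rw [this, Nat.coprime_self_add_right, Nat.coprime_two_right]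
    rcases hev with ⟨k, hk⟩
    exact ⟨k - 1, by omega⟩
  have h9 := Nat.le_of_dvd (by omega) (h8.dvd_of_dvd_mul_right h7)
  omega

theorem Hyp.two_tori (hc : Nat.card U = (Nat.card (EE G a b) + 1) ^ 2) {A B : Subgroup G} (hA : Tor Ω A)
    (hB : Tor Ω B) (hAB : ¬ Cj A B)
    (hNA : Nat.card (Subgroup.normalizer (A : Set G)) = Nat.card A * 4)
    (hNB : Nat.card (Subgroup.normalizer (B : Set G)) = Nat.card B * 4)
    (hsum : Nat.card A + Nat.card B = 2 * (Nat.card (EE G a b) + 2)) :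
    ∃ m : ℕ, 8 * (Nat.card (EE G a b) + 1) = m ^ 2 := by
  classical
  have : Fintype (IrrCharacter G) := Fintype.ofFinite _
  obtain ⟨lam, hl⟩ := h.exists_lam hA
  obtain ⟨mu, hm⟩ := h.exists_lam hB
  obtain ⟨z, hz⟩ := h.exists_inv
  have he1 := h.one_lt
  have hqp := h.q_pow
  obtain ⟨e, he⟩ : ∃ e, e = Nat.card (EE G a b) := ⟨_, rfl⟩
  obtain ⟨f, hf⟩ : ∃ f : G → ℂ, f = DL Ω lam + DL Ω mu := ⟨_, rfl⟩
  have hfg : IsGeneralizedCharacter G f := by rw [hf]; exact IsGen.add (h.isGen_DL lam) (h.isGen_DL mu)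
  have hBA : ¬ Cj B A := by
    rintro ⟨g, hg⟩
    apply hAB
    refine ⟨g⁻¹, ?_⟩
    rw [hg, Subgroup.map_map]
    have : (MulAut.conj g⁻¹).toMonoidHom.comp (MulAut.conj g).toMonoidHom = MonoidHom.id G := by
      ext x
      change g⁻¹ * (g * x * g⁻¹) * g⁻¹⁻¹ = x
      group
    rw [this, Subgroup.map_id]
  have hn : classInner f f = 2 := by
    rw [hf, ci_add_left, ci_add_right, ci_add_right, h.DL_norm hA hl hNA, h.DL_norm hB hm hNB,
      h.DL_orth hA hB hAB hl hm, h.DL_orth hB hA hBA hm hl]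
    norm_num
  obtain ⟨x, y, s, t, hx, hy, hxy, hs, ht, hfe⟩ := Cfsg.Agent.H3.Isom.isGen_norm_two hfg hn
  have hs0 : (s : ℂ) ≠ 0 := by rcases hs with rfl | rfl <;> norm_num
  have ht0 : (t : ℂ) ≠ 0 := by rcases ht with rfl | rfl <;> norm_num
  have hfx : classInner f x = s := by
    rw [hfe, ci_add_left, ci_smul_left, ci_smul_left, ci_irr_self hx, ci_irr_ne hy hx hxy.symm]; ring
  have hfy : classInner f y = t := by
    rw [hfe, ci_add_left, ci_smul_left, ci_smul_left, ci_irr_self hy, ci_irr_ne hx hy hxy]; ring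
  have hcx : sH U x = 0 := by
    by_contra hne
    apply hs0
    rw [← hfx, hf, ci_add_left, h.DL_cusp hA hl hx hne, h.DL_cusp hB hm hx hne, add_zero]
  have hcy : sH U y = 0 := by
    by_contra hne
    apply ht0
    rw [← hfy, hf, ci_add_left, h.DL_cusp hA hl hy hne, h.DL_cusp hB hm hy hne, add_zero]
  obtain ⟨s1, l1, hs1, hx1, hxz⟩ := h.cusp hx hcx hz
  obtain ⟨s2, l2, hs2, hy1, hyz⟩ := h.cusp hy hcy hz
  have e1 := congrFun hfe 1
  have e2 := congrFun hfe z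
  rw [Pi.add_apply, Pi.smul_apply, Pi.smul_apply, hf, Pi.add_apply, h.DL_one, h.DL_one, hx1, hy1, hc] at e1
  rw [Pi.add_apply, Pi.smul_apply, Pi.smul_apply, hf, Pi.add_apply, h.DL_inv hA lam hz, h.DL_inv hB mu hz, hxz, hyz] at e2
  -- class sum
  have e3 : ∑ χ : IrrCharacter G, classInner f (χ : G → ℂ) * ((χ : G → ℂ) z ^ 2 / (χ : G → ℂ) 1) =
      s * (x z ^ 2 / x 1) + t * (y z ^ 2 / y 1) := by
    have h1 : ∀ χ : IrrCharacter G, classInner f (χ : G → ℂ) * ((χ : G → ℂ) z ^ 2 / (χ : G → ℂ) 1) =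
        (if (⟨x, hx⟩ : IrrCharacter G) = χ then s * ((χ : G → ℂ) z ^ 2 / (χ : G → ℂ) 1) else 0) +
        (if (⟨y, hy⟩ : IrrCharacter G) = χ then t * ((χ : G → ℂ) z ^ 2 / (χ : G → ℂ) 1) else 0) := by
      intro χ
      have c1 : classInner x (χ : G → ℂ) = if (⟨x, hx⟩ : IrrCharacter G) = χ then 1 else 0 := by
        rw [ci_irr hx χ.2]
        congr 1
        rw [Subtype.ext_iff]
      have c2 : classInner y (χ : G → ℂ) = if (⟨y, hy⟩ : IrrCharacter G) = χ then 1 else 0 := by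
        rw [ci_irr hy χ.2]
        congr 1
        rw [Subtype.ext_iff]
      rw [hfe, ci_add_left, ci_smul_left, ci_smul_left, c1, c2]
      split_ifs <;> ring
    rw [Finset.sum_congr rfl fun χ _ => h1 χ, Finset.sum_add_distrib, Finset.sum_ite_eq, Finset.sum_ite_eq,
      if_pos (Finset.mem_univ _), if_pos (Finset.mem_univ _)]
  have e4 : ∑ χ : IrrCharacter G, classInner f (χ : G → ℂ) * ((χ : G → ℂ) z ^ 2 / (χ : G → ℂ) 1) =
      (Nat.card U : ℂ) * (Nat.card A + Nat.card B : ℕ) / (Nat.card (EE G a b) * (Nat.card U + 1)) - 2 := by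
    rw [hf]
    simp only [ci_add_left, add_mul]
    rw [Finset.sum_add_distrib, h.DL_sum hA hl hz, h.DL_sum hB hm hz]
    push_cast
    ring
  rw [e3, hsum, hx1, hy1, hxz, hyz, hc] at e4
  rw [← he] at e1 e2 e4 he1 hqp ⊢
  push_cast at e1 e2 e4
  simp only [smul_eq_mul] at e1 e2
  have c0 : (e : ℂ) ≠ 0 := by exact_mod_cast (by omega : e ≠ 0)
  have c1 : (s1 : ℂ) ≠ 0 := by exact_mod_cast hs1.ne'
  have c2 : (s2 : ℂ) ≠ 0 := by exact_mod_cast hs2.ne'
  have c3 : ((e : ℂ) + 1) ^ 2 + 1 ≠ 0 := by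
    have : (((e + 1) ^ 2 + 1 : ℕ) : ℂ) ≠ 0 := Nat.cast_ne_zero.mpr (Nat.succ_ne_zero _)
    push_cast at this; exact this
  have c4 : (e : ℂ) + 1 ≠ 0 := Nat.cast_add_one_ne_zero e
  -- first equation
  have f1 : (s : ℂ) * s1 + t * s2 = 2 * ((e : ℂ) + 1 + 1) := by
    have : (e : ℂ) * (s * s1 + t * s2) = e * (2 * ((e : ℂ) + 1 + 1)) := by linear_combination -e1
    exact mul_left_cancel₀ c0 this
  have f2 : (s : ℂ) * l1 + t * l2 = 2 := by
    have : ((e : ℂ) + 1) * (s * l1 + t * l2) = (e + 1) * 2 := by linear_combination -e2 + f1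
    exact mul_left_cancel₀ c4 this
  have f3 : ((s : ℂ) * l1 ^ 2 * s2 + t * l2 ^ 2 * s1) * ((e + 1) ^ 2 + 1) = 2 * ((e : ℂ) + 1 + 1) * (s1 * s2) := by
    field_simp at e4
    have g1 : ((e : ℂ) + 1) ^ 2 * (((s : ℂ) * l1 ^ 2 * s2 + t * l2 ^ 2 * s1) * ((e + 1) ^ 2 + 1)) =
        (e + 1) ^ 2 * (2 * ((e : ℂ) + 1 + 1) * (s1 * s2)) := by
      linear_combination e4 + (2 * (e + 1) * s1 * s2 * ((e + 1) ^ 2 + 1)) * f2 - (s1 * s2 * ((e + 1) ^ 2 + 1)) * f1
    exact mul_left_cancel₀ (pow_ne_zero 2 c4) g1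
  have hq4 : 4 ≤ e + 1 := by
    obtain ⟨n, hn⟩ := hqp
    rcases n with _ | _ | n
    · rw [hn]; norm_num at hn; omega
    · norm_num at hn; omega
    · rw [hn]
      calc 4 = 2 ^ 2 := by norm_num
        _ ≤ 2 ^ (n + 2) := Nat.pow_le_pow_right (by norm_num) (by omega)
  apply arith_two (q := e + 1) (s1 := s1) (s2 := s2) (l1 := l1) (l2 := l2) (σ := s) (τ := t) hq4 hs1 hs2 hs ht
  · have : ((s * s1 + t * s2 : ℤ) : ℂ) = ((2 * ((e + 1 : ℕ) + 1) : ℤ) : ℂ) := by push_cast; exact f1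
    exact_mod_cast this
  · have : ((s * l1 + t * l2 : ℤ) : ℂ) = ((2 : ℤ) : ℂ) := by push_cast; exact f2
    exact_mod_cast this
  · have : (((s * l1 ^ 2 * s2 + t * l2 ^ 2 * s1) * ((e + 1 : ℕ) ^ 2 + 1) : ℤ) : ℂ) =
        ((2 * ((e + 1 : ℕ) + 1) * (s1 * s2) : ℤ) : ℂ) := by push_cast; exact f3
    exact_mod_cast this

theorem Hyp.N_four (hc : Nat.card U = (Nat.card (EE G a b) + 1) ^ 2) {A : Subgroup G} (hA : Tor Ω A) :
    Nat.card (Subgroup.normalizer (A : Set G)) = Nat.card A * 4 := by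
  obtain ⟨N, hN, -, -, h2⟩ := h.exists_N hA
  rcases h2 hc with h3 | h3
  · exact absurd h3 (h.N_ne_two hA hN)
  · rw [hN, h3]

theorem Hyp.not_mem_cls {A : Subgroup G} (hA : Tor Ω A) {y : G} (hy : SR Ω y) (hyA : y ∉ cls A) :
    ¬ Cj A (Subgroup.centralizer ({y} : Set G)) := by
  rintro ⟨g, hg⟩
  apply hyA
  haveI : Nonempty Ω := ⟨a⟩
  refine mem_cls.mpr ⟨hy.ne_one, g⁻¹, ?_⟩
  have h1 : y ∈ Subgroup.centralizer ({y} : Set G) := Subgroup.mem_centralizer_singleton_iff.mpr rfl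
  rw [hg] at h1
  obtain ⟨w, hw, hwy⟩ := h1
  have h2 : g * w * g⁻¹ = y := hwy
  rw [← h2]
  have : g⁻¹ * (g * w * g⁻¹) * g⁻¹⁻¹ = w := by group
  rw [this]
  exact hw

/-- the main result if `|U| = q²` -/
theorem Hyp.square (hc : Nat.card U = (Nat.card (EE G a b) + 1) ^ 2) :
    ∃ m : ℕ, 8 * (Nat.card (EE G a b) + 1) = m ^ 2 := by
  classical
  haveI : Nonempty Ω := ⟨a⟩
  have hG0 : 0 < Nat.card G := Nat.card_pos
  have he1 := h.one_lt
  have hS := h.sum_sr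
  have hcent : ∀ y : G, y ∈ Subgroup.centralizer ({y} : Set G) := fun y =>
    Subgroup.mem_centralizer_singleton_iff.mpr rfl
  have hself : ∀ y : G, SR Ω y → y ∈ cls (Subgroup.centralizer ({y} : Set G)) := by
    intro y hy
    exact mem_cls.mpr ⟨hy.ne_one, 1, by simpa using hcent y⟩
  obtain ⟨x, hx⟩ : (SRs G Ω).Nonempty := by
    rw [Finset.nonempty_iff_ne_empty]
    intro h0
    rw [h0, Finset.sum_empty, mul_zero] at hS
    have : 0 < Nat.card G * (Nat.card (EE G a b) + 1) := by positivity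
    omega
  obtain ⟨A, hA⟩ : ∃ A, A = Subgroup.centralizer ({x} : Set G) := ⟨_, rfl⟩
  have hAT : Tor Ω A := ⟨x, mem_SRs.mp hx, hA⟩
  have hNA := h.N_four hc hAT
  have hsA := h.sum_cls hAT hNA
  have hAd := h.card_dvd hAT
  have hA1 : 1 ≤ Nat.card A := Nat.card_pos
  have hsubA : cls A ⊆ SRs G Ω := fun y hy => h.cls_sr hAT hy
  by_cases h1 : SRs G Ω ⊆ cls A
  · exfalso
    have h2 : SRs G Ω = cls A := Finset.Subset.antisymm h1 hsubA
    rw [h2] at hS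
    have h3 : Nat.card G * (Nat.card A - 1) = Nat.card G * (2 * (Nat.card (EE G a b) + 1)) := by
      rw [← hsA]
      calc (∑ x ∈ cls A, Nat.card (Subgroup.centralizer ({x} : Set G))) * 4 =
          2 * (2 * ∑ x ∈ cls A, Nat.card (Subgroup.centralizer ({x} : Set G))) := by ring
        _ = _ := by rw [hS]; ring
    have h4 := Nat.eq_of_mul_eq_mul_left hG0 h3
    have h5 : Nat.card A = 2 * (Nat.card (EE G a b) + 1) + 1 := by omega
    rw [h5, hc] at hAd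
    obtain ⟨q, hq⟩ : ∃ q, q = Nat.card (EE G a b) + 1 := ⟨_, rfl⟩
    rw [← hq] at hAd
    obtain ⟨k, hk⟩ := hAd
    have h6 : (2 * (q : ℤ) + 1) ∣ 5 := by
      refine ⟨4 * k - (2 * q - 1), ?_⟩
      have hk' : (q : ℤ) ^ 2 + 1 = (2 * q + 1) * k := by exact_mod_cast hk
      linear_combination 4 * hk'
    have h7 := Int.le_of_dvd (by norm_num) h6
    have h8 : 2 * q + 1 ≤ 5 := by exact_mod_cast h7
    have hq3 : q = 3 ∨ 3 < q ∨ q < 3 := by omega
    omega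
  obtain ⟨y, hy, hyA⟩ := Finset.not_subset.mp h1
  obtain ⟨B, hB⟩ : ∃ B, B = Subgroup.centralizer ({y} : Set G) := ⟨_, rfl⟩
  have hBT : Tor Ω B := ⟨y, mem_SRs.mp hy, hB⟩
  have hAB : ¬ Cj A B := by rw [hB]; exact h.not_mem_cls hAT (mem_SRs.mp hy) hyA
  have hNB := h.N_four hc hBT
  have hsB := h.sum_cls hBT hNB
  have hB1 : 1 ≤ Nat.card B := Nat.card_pos
  have hsubB : cls B ⊆ SRs G Ω := fun y hy => h.cls_sr hBT hy
  have hdisj : Disjoint (cls A) (cls B) := by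
    rw [Finset.disjoint_left]
    intro w hwA hwB
    exact hAB (h.cj_of_mem hAT hBT hwA hwB)
  by_cases h2 : SRs G Ω ⊆ cls A ∪ cls B
  · apply h.two_tori hc hAT hBT hAB hNA hNB
    have h3 : SRs G Ω = cls A ∪ cls B := Finset.Subset.antisymm h2 (Finset.union_subset hsubA hsubB)
    rw [h3, Finset.sum_union hdisj] at hS
    have h4 : Nat.card G * ((Nat.card A - 1) + (Nat.card B - 1)) = Nat.card G * (2 * (Nat.card (EE G a b) + 1)) := by
      rw [mul_add, ← hsA, ← hsB]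
      calc (∑ x ∈ cls A, Nat.card (Subgroup.centralizer ({x} : Set G))) * 4 +
          (∑ x ∈ cls B, Nat.card (Subgroup.centralizer ({x} : Set G))) * 4 =
          2 * (2 * (∑ x ∈ cls A, Nat.card (Subgroup.centralizer ({x} : Set G)) +
            ∑ x ∈ cls B, Nat.card (Subgroup.centralizer ({x} : Set G)))) := by ring
        _ = _ := by rw [hS]; ring
    have h5 := Nat.eq_of_mul_eq_mul_left hG0 h4
    omega
  -- three tori
  exfalso
  obtain ⟨w, hw, hwAB⟩ := Finset.not_subset.mp h2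
  rw [Finset.notMem_union] at hwAB
  obtain ⟨C, hC⟩ : ∃ C, C = Subgroup.centralizer ({w} : Set G) := ⟨_, rfl⟩
  have hCT : Tor Ω C := ⟨w, mem_SRs.mp hw, hC⟩
  have hAC : ¬ Cj A C := by rw [hC]; exact h.not_mem_cls hAT (mem_SRs.mp hw) hwAB.1
  have hBC : ¬ Cj B C := by rw [hC]; exact h.not_mem_cls hBT (mem_SRs.mp hw) hwAB.2
  have hNC := h.N_four hc hCT
  obtain ⟨l1, hl1⟩ := h.exists_lam hAT
  obtain ⟨l2, hl2⟩ := h.exists_lam hBT
  obtain ⟨l3, hl3⟩ := h.exists_lam hCT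
  have n1 := h.DL_norm hAT hl1 hNA
  have n2 := h.DL_norm hBT hl2 hNB
  have n3 := h.DL_norm hCT hl3 hNC
  have o12 := h.DL_orth hAT hBT hAB hl1 hl2
  have o13 := h.DL_orth hAT hCT hAC hl1 hl3
  have o23 := h.DL_orth hBT hCT hBC hl2 hl3
  have o21 : classInner (DL Ω l2) (DL Ω l1) = -2 := by rw [← ci_conj_symm, o12, map_neg, map_ofNat]
  have o31 : classInner (DL Ω l3) (DL Ω l1) = -2 := by rw [← ci_conj_symm, o13, map_neg, map_ofNat]
  have o32 : classInner (DL Ω l3) (DL Ω l2) = -2 := by rw [← ci_conj_symm, o23, map_neg, map_ofNat]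
  have hf := ci_self_re_nonneg (DL Ω l1 + DL Ω l2 + DL Ω l3)
  rw [ci_add_left, ci_add_left, ci_add_right, ci_add_right, ci_add_right, ci_add_right, ci_add_right, ci_add_right,
    n1, n2, n3, o12, o13, o23, o21, o31, o32] at hf
  norm_num at hf

end

/-- the exponent is odd -/
theorem odd_of_square {q n m : ℕ} (hq : q = 2 ^ n) (hm : 8 * q = m ^ 2) : Odd n := by
  have h1 : 2 ^ (n + 3) = m ^ 2 := by rw [← hm, hq, pow_add]; ring
  have h2 : m ∣ 2 ^ (n + 3) := by rw [h1]; exact dvd_pow_self m two_ne_zero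
  obtain ⟨k, -, hk⟩ := (Nat.dvd_prime_pow Nat.prime_two).mp h2
  rw [hk, ← pow_mul] at h1
  have h3 := Nat.pow_right_injective (le_refl 2) h1
  rw [Nat.odd_iff]
  omega

end Cfsg.Agent.H9.ZT
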