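import Mathlib
import Cfsg.Agent.H9_ZT7

/-!
# Zassenhaus groups with nonabelian kernel of 2-power order: `|U| ≠ q³`
-/

set_option autoImplicit false

open scoped ComplexConjugate

namespace Cfsg.Agent.H9.ZT

open Cfsg Cfsg.Agent.H9.ZassA Cfsg.Agent.H9.ZassC Cfsg.Agent.H3.Zass Cfsg.Agent.H3.Zass2
  Cfsg.Agent.H3.Zass5 Cfsg.Agent.H3.CharBasic Cfsg.Agent.H3.CharIrr Cfsg.Agent.H3.CharComplete Cfsg.Agent.H3.CharInd
  Cfsg.Agent.H3.CharMult Cfsg.Agent.H3.CharPerm2 Cfsg.Agent.H3.Feit Cfsg.Agent.H3.FeitZ Cfsg.Agent.H3.CharQuot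
  Cfsg.Agent.H3.Clifford

variable {G Ω : Type*} [Group G] [MulAction G Ω]

theorem sum_le_prod {ι : Type*} (T : Finset ι) (f : ι → ℕ) (hf : ∀ i ∈ T, 1 ≤ f i) :
    ∑ i ∈ T, (f i - 1) + 1 ≤ ∏ i ∈ T, f i := by
  classical
  induction T using Finset.induction with
  | empty => simp
  | insert i T hi ih =>
    rw [Finset.sum_insert hi, Finset.prod_insert hi]
    have h1 := ih (fun j hj => hf j (Finset.mem_insert_of_mem hj))
    have h2 := hf i (Finset.mem_insert_self i T)
    obtain ⟨k, hk⟩ : ∃ k, f i = k + 1 := ⟨f i - 1, by omega⟩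
    rw [hk, Nat.add_sub_cancel]
    have h3 : 1 ≤ ∏ i ∈ T, f i := by omega
    nlinarith [Nat.mul_le_mul_left k h3]

/-- the final inequality -/
theorem arith_three {s x : ℤ} (hs : 1 ≤ s) (hx : 4 * (s + 1) ≤ x)
    (h : (2 * s + 1) * x ^ 2 ≤ 4 * s * (s + 1) * (2 * x + 1)) : False := by
  have hx0 : 0 < x := by linarith
  have hs0 : 0 < s := by linarith
  have h1 := mul_le_mul_of_nonneg_left hx (by positivity : 0 ≤ (2 * s + 1) * x)
  have h2 : 0 < (s + 1) * (x - s) := by
    apply mul_pos <;> linarith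
  nlinarith

variable {a b : Ω} {U : Subgroup G}

section
variable [Fintype G] [Fintype Ω] (h : Hyp a b U)
include h

/-- a set of representatives of the tori gives a large product -/
theorem Hyp.exists_prod : ∃ P : ℕ, 2 * (Nat.card (EE G a b) + 1) + 1 ≤ P ∧
    ∀ n : ℕ, (∀ A : Subgroup G, Tor Ω A → Nat.card A ∣ n) → P ∣ n := by
  classical
  haveI : Nonempty Ω := ⟨a⟩
  have hG0 : 0 < Nat.card G := Nat.card_pos
  have hS := h.sum_sr
  let Pr : Finset (Subgroup G) → Prop := fun T => (∀ A ∈ T, Tor Ω A) ∧ ∀ A ∈ T, ∀ B ∈ T, A ≠ B → ¬ Cj A B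
  obtain ⟨T, hT, hmax⟩ := Finset.exists_max_image (Finset.univ.filter Pr) Finset.card
    ⟨∅, by simp [Pr]⟩
  rw [Finset.mem_filter] at hT
  obtain ⟨-, hT1, hT2⟩ := hT
  have hcov : ∀ x ∈ SRs G Ω, ∃ A ∈ T, x ∈ cls A := by
    intro x hx
    by_contra hcon
    push Not at hcon
    obtain ⟨B, hB⟩ : ∃ B, B = Subgroup.centralizer ({x} : Set G) := ⟨_, rfl⟩
    have hxx := mem_SRs.mp hx
    have hBT : Tor Ω B := ⟨x, hxx, hB⟩
    have hxB : x ∈ cls B := by
      refine mem_cls.mpr ⟨hxx.ne_one, 1, ?_⟩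
      rw [hB]
      simpa using (Subgroup.mem_centralizer_singleton_iff.mpr rfl : x ∈ Subgroup.centralizer ({x} : Set G))
    have hBn : B ∉ T := fun hBm => hcon B hBm hxB
    have hnew : Pr (insert B T) := by
      have hcj : ∀ A ∈ T, ¬ Cj A B ∧ ¬ Cj B A := by
        intro A hA
        have h1 : ¬ Cj A B := by
          rintro ⟨g, hg⟩
          apply hcon A hA
          refine mem_cls.mpr ⟨hxx.ne_one, g⁻¹, ?_⟩
          have h1 : x ∈ B := by rw [hB]; exact Subgroup.mem_centralizer_singleton_iff.mpr rfl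
          rw [hg] at h1
          obtain ⟨w, hw, hwy⟩ := h1
          have h2 : g * w * g⁻¹ = x := hwy
          rw [← h2]
          have : g⁻¹ * (g * w * g⁻¹) * g⁻¹⁻¹ = w := by group
          rw [this]
          exact hw
        refine ⟨h1, ?_⟩
        rintro ⟨g, hg⟩
        apply h1
        refine ⟨g⁻¹, ?_⟩
        rw [hg, Subgroup.map_map]
        have : (MulAut.conj g⁻¹).toMonoidHom.comp (MulAut.conj g).toMonoidHom = MonoidHom.id G := by
          ext x
          change g⁻¹ * (g * x * g⁻¹) * g⁻¹⁻¹ = x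
          group
        rw [this, Subgroup.map_id]
      refine ⟨?_, ?_⟩
      · intro A hA
        rcases Finset.mem_insert.mp hA with rfl | hA
        · exact hBT
        · exact hT1 A hA
      · intro A hA C hC hne
        rcases Finset.mem_insert.mp hA with h1 | hA <;> rcases Finset.mem_insert.mp hC with h2 | hC
        · exact absurd (h1.trans h2.symm) hne
        · rw [h1]; exact (hcj C hC).2
        · rw [h2]; exact (hcj A hA).1
        · exact hT2 A hA C hC hne
    have h3 := hmax (insert B T) (Finset.mem_filter.mpr ⟨Finset.mem_univ _, hnew⟩)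
    rw [Finset.card_insert_of_notMem hBn] at h3
    omega
  refine ⟨∏ A ∈ T, Nat.card A, ?_, ?_⟩
  · refine le_trans ?_ (sum_le_prod T (fun A => Nat.card A) (fun A _ => Nat.card_pos))
    apply Nat.succ_le_succ
    have h1 : ∑ x ∈ SRs G Ω, Nat.card (Subgroup.centralizer ({x} : Set G)) ≤
        ∑ A ∈ T, ∑ x ∈ cls A, Nat.card (Subgroup.centralizer ({x} : Set G)) := by
      have hsub : SRs G Ω ⊆ T.biUnion cls := by
        intro x hx
        obtain ⟨A, hA, hxA⟩ := hcov x hx
        exact Finset.mem_biUnion.mpr ⟨A, hA, hxA⟩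
      refine (Finset.sum_le_sum_of_subset hsub).trans (le_of_eq ?_)
      apply Finset.sum_biUnion
      intro A hA B hB hAB
      rw [Function.onFun, Finset.disjoint_left]
      intro w hwA hwB
      exact hT2 A hA B hB hAB (h.cj_of_mem (hT1 A hA) (hT1 B hB) hwA hwB)
    have h2 : ∀ A ∈ T, 4 * ∑ x ∈ cls A, Nat.card (Subgroup.centralizer ({x} : Set G)) ≤ Nat.card G * (Nat.card A - 1) := by
      intro A hA
      obtain ⟨N, hN, -, h3, -⟩ := h.exists_N (hT1 A hA)
      have h4 := h.sum_cls (hT1 A hA) hN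
      have h5 := h.N_ne_two (hT1 A hA) hN
      rw [← h4, mul_comm]
      apply Nat.mul_le_mul_left
      omega
    have h3 : Nat.card G * (2 * (Nat.card (EE G a b) + 1)) ≤ Nat.card G * ∑ A ∈ T, (Nat.card A - 1) := by
      calc Nat.card G * (2 * (Nat.card (EE G a b) + 1)) = 2 * (Nat.card G * (Nat.card (EE G a b) + 1)) := by ring
        _ = 4 * ∑ x ∈ SRs G Ω, Nat.card (Subgroup.centralizer ({x} : Set G)) := by rw [← hS]; ring
        _ ≤ 4 * ∑ A ∈ T, ∑ x ∈ cls A, Nat.card (Subgroup.centralizer ({x} : Set G)) := Nat.mul_le_mul_left _ h1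
        _ = ∑ A ∈ T, 4 * ∑ x ∈ cls A, Nat.card (Subgroup.centralizer ({x} : Set G)) := by rw [Finset.mul_sum]
        _ ≤ ∑ A ∈ T, Nat.card G * (Nat.card A - 1) := Finset.sum_le_sum h2
        _ = _ := by rw [Finset.mul_sum]
    exact Nat.le_of_mul_le_mul_left h3 hG0
  · intro n hn
    apply Finset.prod_dvd_of_isRelPrime
    · intro A hA B hB hAB
      exact Nat.coprime_iff_isRelPrime.mp (h.coprime (hT1 A hA) (hT1 B hB) (hT2 A hA B hB hAB))
    · intro A hA
      exact hn A (hT1 A hA)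

/-- exceptional characters are orthogonal to the torus functions -/
theorem Hyp.EL_exc [Fintype (MulAction.stabilizer G a)] [Fintype U] [Fintype (IrrCharacter G)] {ι : Type*}
    [Fintype ι] [DecidableEq ι] {th : ι → MulAction.stabilizer G a → ℂ} {X : ι → IrrCharacter G}
    (S : SF (MulAction.stabilizer G a) U (Nat.card (EE G a b)) th X) {A : Subgroup G} (hA : Tor Ω A) {N : ℕ}
    (hN : Nat.card (Subgroup.normalizer (A : Set G)) = Nat.card A * N) (hlt : N < Fintype.card ι + 1)
    {lam : A →* ℂˣ} (hl : lam ≠ 1) (i : ι) : classInner (EL lam) (X i : G → ℂ) = 0 := by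
  classical
  have hind : ∀ i, classInner (EL lam) (indFun (MulAction.stabilizer G a) (th i)) = 0 := by
    intro i
    apply h.EL_van hA
    intro g hg
    rw [indFun, Finset.sum_eq_zero, mul_zero]
    intro x _
    apply ext_not_mem
    intro hx
    rw [MulAction.mem_stabilizer_iff, mul_smul, mul_smul, inv_smul_eq_iff] at hx
    exact hg _ hx
  have hb : ∀ j, classInner (EL lam) (X j : G → ℂ) = classInner (EL lam) (X i : G → ℂ) := by
    intro j
    have h1 := S.ind_eq h.fd j i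
    have h2 : classInner (EL lam) ((X j : G → ℂ) - (X i : G → ℂ)) = 0 := by
      rw [← h1, ci_sub_right, hind, hind, sub_zero]
    rw [ci_sub_right] at h2
    exact sub_eq_zero.mp h2
  have hu0 : (Nat.card U : ℂ) ≠ 0 := cardH_ne_zero U
  have hne1 : ∀ j, (X j : G → ℂ) ≠ fun _ => 1 := by
    intro j e
    have h1 := mem_OO.mp (S.mem j)
    rw [e, sH_one h.fd] at h1
    exact hu0 h1
  have hneS : ∀ j, (X j : G → ℂ) ≠ St G Ω := by
    intro j e
    have h1 := mem_OO.mp (S.mem j)
    rw [e, sH_St h.fd] at h1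
    exact hu0 h1
  have hDE : ∀ j, classInner (DL Ω lam) (X j : G → ℂ) = classInner (EL lam) (X i : G → ℂ) := by
    intro j
    rw [DL, ci_add_left, ci_sub_left, ci_irr_ne isIrr_one (X j).2 (hne1 j).symm,
      ci_irr_ne h.isIrr_St (X j).2 (hneS j).symm, hb j]
    ring
  have hint := (isGen_iff.mp (h.isGen_DL (A := A) lam)).2
  choose m hm using fun χ : IrrCharacter G => hint (χ : G → ℂ) χ.2
  have hnorm := h.DL_norm hA hl hN
  rw [ci_eq_sum _ _ (IsGen.isClass (h.isGen_DL lam))] at hnorm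
  have h1 : ∑ χ : IrrCharacter G, (m χ) ^ 2 = (N : ℤ) - 1 := by
    have : ((∑ χ : IrrCharacter G, (m χ) ^ 2 : ℤ) : ℂ) = (((N : ℤ) - 1 : ℤ) : ℂ) := by
      push_cast
      rw [← hnorm]
      refine Finset.sum_congr rfl fun χ _ => ?_
      rw [hm χ, map_intCast]; ring
    exact_mod_cast this
  obtain ⟨c, hc⟩ : ∃ c : ℤ, ∀ j, m (X j) = c := by
    refine ⟨m (X i), fun j => ?_⟩
    have h2 := hm (X j)
    have h3 := hm (X i)
    rw [hDE] at h2 h3
    rw [h2] at h3
    exact_mod_cast h3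
  have h2 : (Fintype.card ι : ℤ) * c ^ 2 ≤ (N : ℤ) - 1 := by
    rw [← h1]
    calc (Fintype.card ι : ℤ) * c ^ 2 = ∑ j : ι, m (X j) ^ 2 := by
          rw [Finset.sum_congr rfl fun j _ => by rw [hc j], Finset.sum_const, Finset.card_univ, nsmul_eq_mul]
      _ = ∑ χ ∈ Finset.univ.image X, m χ ^ 2 := by
          rw [Finset.sum_image (fun x _ y _ hxy => S.inj hxy)]
      _ ≤ ∑ χ : IrrCharacter G, m χ ^ 2 :=
          Finset.sum_le_sum_of_subset_of_nonneg (Finset.subset_univ _) (fun χ _ _ => sq_nonneg _)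
  have h3 : c = 0 := by
    by_contra hc0
    have h4 : 1 ≤ c ^ 2 := by
      have := sq_pos_of_ne_zero hc0
      omega
    have h5 : (Fintype.card ι : ℤ) ≤ Fintype.card ι * c ^ 2 := by
      nlinarith [Int.natCast_nonneg (Fintype.card ι)]
    omega
  rw [← hDE i, hm (X i), hc i, h3]
  simp

/-- the order of a torus divides the degree of an exceptional character -/
theorem Hyp.dvd_exc [Fintype (MulAction.stabilizer G a)] [Fintype U] [Fintype (IrrCharacter G)] {ι : Type*}
    [Fintype ι] [DecidableEq ι] {th : ι → MulAction.stabilizer G a → ℂ} {X : ι → IrrCharacter G}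
    (S : SF (MulAction.stabilizer G a) U (Nat.card (EE G a b)) th X) {A : Subgroup G} (hA : Tor Ω A) {N : ℕ}
    (hN : Nat.card (Subgroup.normalizer (A : Set G)) = Nat.card A * N) (hlt : N < Fintype.card ι + 1)
    (i : ι) {n : ℕ} (hn : (X i : G → ℂ) 1 = n) : Nat.card A ∣ n := by
  classical
  haveI : Fintype A := Fintype.ofFinite _
  haveI : Fintype (IrrCharacter A) := Fintype.ofFinite _
  have hcomm : ∀ x y : A, x * y = y * x := fun x y => Subtype.ext (h.tor_comm hA x x.2 y y.2)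
  have hres : IsCharacter A (fun y : A => (X i : G → ℂ) y) := IsChar.res (IsIrr.isCharacter (X i).2) A
  obtain ⟨m, hm⟩ := ci_char_nat hres (IsChar.one (G := A))
  have hall : ∀ μ : IrrCharacter A, classInner (fun y : A => (X i : G → ℂ) y) (μ : A → ℂ) = m := by
    intro μ
    have hμ1 : (μ : A → ℂ) 1 = 1 := IsIrr.one_of_comm hcomm μ.2
    obtain ⟨f, hf⟩ := IsChar.hom_units_of_one (IsIrr.isCharacter μ.2) hμ1
    by_cases hf1 : f = 1
    · have : (μ : A → ℂ) = fun _ => 1 := by
        ext y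
        rw [hf y, hf1]; simp
      rw [this]; exact hm
    · have h1 := h.EL_exc S hA hN hlt hf1 i
      rw [EL, frobenius _ _ _ (IsIrr.isClass (X i).2), oml, ci_sub_left] at h1
      have h2 : (fun y : A => ((f y : ℂˣ) : ℂ)) = (μ : A → ℂ) := by
        ext y; exact (hf y).symm
      rw [h2] at h1
      have h3 := sub_eq_zero.mp h1
      rw [← ci_conj_symm, ← h3, ci_conj_symm]
      exact hm
  have h1 := expand_apply (fun y : A => (X i : G → ℂ) y) (IsChar.isClass hres) 1
  have h2 : (X i : G → ℂ) ((1 : A) : G) = n := hn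
  rw [h2, Finset.sum_congr rfl fun μ _ => by rw [hall μ, IsIrr.one_of_comm hcomm μ.2, mul_one], Finset.sum_const,
    Finset.card_univ, nsmul_eq_mul] at h1
  have h3 : Fintype.card (IrrCharacter A) = Nat.card A := by
    have h4 := sum_sq (G := A)
    rw [Finset.sum_congr rfl fun μ _ => by rw [IsIrr.one_of_comm hcomm μ.2, one_pow], Finset.sum_const,
      Finset.card_univ, nsmul_eq_mul, mul_one] at h4
    exact_mod_cast h4
  rw [h3] at h1
  exact ⟨m, by exact_mod_cast h1⟩

theorem Hyp.comm_le_ZU : ⁅U, U⁆ ≤ ZU U := by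
  rw [Subgroup.commutator_le]
  intro u hu v hv
  have := h.comm_mem (U.inv_mem hu) (U.inv_mem hv)
  rw [inv_inv, inv_inv] at this
  exact this

/-- `|N(A) : A|` is small -/
theorem Hyp.N_lt (hc : Nat.card U = (Nat.card (EE G a b) + 1) ^ 3) {A : Subgroup G} (hA : Tor Ω A) {N : ℕ}
    (hN : Nat.card (Subgroup.normalizer (A : Set G)) = Nat.card A * N) (hd : N ∣ Nat.card A - 1)
    (hN3 : N = 2 ∨ N = 4 ∨ N = 8) : N < (Nat.card (EE G a b) + 2) + 1 := by
  by_contra hcon
  push Not at hcon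
  have he1 := h.one_lt
  have h1 : Nat.card (EE G a b) = 3 ∧ N = 8 := by
    obtain ⟨k, hk⟩ := h.q_pow
    generalize Nat.card (EE G a b) = e at hk hcon he1
    have h2 : 2 ^ k ≤ 6 := by rw [← hk]; omega
    have h3 : k ≤ 2 := by
      by_contra h4
      push Not at h4
      have : 2 ^ 3 ≤ 2 ^ k := Nat.pow_le_pow_right (by norm_num) h4
      omega
    interval_cases k <;> norm_num at hk <;> omega
  obtain ⟨h1, rfl⟩ := h1
  have hS := h.sum_sr
  have hs := h.sum_cls hA hN
  have hG0 : 0 < Nat.card G := Nat.card_pos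
  have hsub : cls A ⊆ SRs G Ω := fun y hy => h.cls_sr hA hy
  have h2 := Finset.sum_le_sum_of_subset (f := fun x => Nat.card (Subgroup.centralizer ({x} : Set G))) hsub
  have h3 : Nat.card G * (Nat.card A - 1) ≤ Nat.card G * 16 := by
    rw [← hs]
    rw [h1] at hS
    calc (∑ x ∈ cls A, Nat.card (Subgroup.centralizer ({x} : Set G))) * 8 ≤
        (∑ x ∈ SRs G Ω, Nat.card (Subgroup.centralizer ({x} : Set G))) * 8 := Nat.mul_le_mul_right _ h2
      _ = 4 * (2 * ∑ x ∈ SRs G Ω, Nat.card (Subgroup.centralizer ({x} : Set G))) := by ring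
      _ = Nat.card G * 16 := by rw [hS]; ring
  have h4 := Nat.le_of_mul_le_mul_left h3 hG0
  have h5 := h.card_dvd hA
  rw [hc, h1] at h5
  norm_num at h5
  obtain ⟨k, hk⟩ := hd
  obtain ⟨y, hy, hy1⟩ := h.tor_ne hA
  have h6 : 1 < Nat.card A := by
    rw [Subgroup.one_lt_card_iff_ne_bot]
    intro e
    rw [e, Subgroup.mem_bot] at hy
    exact hy1 hy
  have hk3 : k = 1 ∨ k = 2 := by omega
  rcases hk3 with rfl | rfl
  · have h7 : Nat.card A = 9 := by omega
    rw [h7] at h5
    revert h5; decide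
  · have h7 : Nat.card A = 17 := by omega
    rw [h7] at h5
    revert h5; decide

/-- the case `|U| = q³` does not occur -/
theorem Hyp.not_cube : Nat.card U ≠ (Nat.card (EE G a b) + 1) ^ 3 := by
  intro hc
  classical
  have : Fintype U := Fintype.ofFinite _
  have : Fintype (ZU U) := Fintype.ofFinite _
  have : Fintype (MulAction.stabilizer G a) := Fintype.ofFinite _
  have : Fintype (IrrCharacter G) := Fintype.ofFinite _
  have : Fintype (IrrCharacter (MulAction.stabilizer G a)) := Fintype.ofFinite _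
  have D := h.fd
  have he1 := h.one_lt
  have hodd := h.odd
  have hZc := h.card_ZU
  obtain ⟨P, hP1, hP2⟩ := h.exists_prod
  have hcop := coprime_card h.zass h.ab h.card h.odd
  have hNlt : ∀ {A : Subgroup G}, Tor Ω A → ∃ N, Nat.card (Subgroup.normalizer (A : Set G)) = Nat.card A * N ∧
      N < (Nat.card (EE G a b) + 2) + 1 := by
    intro A hA
    obtain ⟨N, hN, hd, hN3, -⟩ := h.exists_N hA
    exact ⟨N, hN, h.N_lt hc hA hN hd hN3⟩
  obtain ⟨s, hs⟩ := hodd
  have hs1 : 1 ≤ s := by omega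
  -- the characters of `B` of degree `e` with `Z` in the kernel
  have hZn : ∀ b' ∈ MulAction.stabilizer G a, ∀ z ∈ ZU U, b' * z * b'⁻¹ ∈ ZU U := by
    intro b' hb' z hz
    have h1 := h.mem_ZU.mp hz
    refine h.mem_ZU.mpr ⟨D.hn b' hb' z h1.1, ?_⟩
    calc b' * z * b'⁻¹ * (b' * z * b'⁻¹) = b' * (z * z) * b'⁻¹ := by group
      _ = 1 := by rw [h1.2]; group
  have hw : (Nat.card (EE G a b) + 1) ^ 2 * Nat.card (ZU U) = Nat.card U := by rw [hZc, hc]; ring
  have hcount := count_rel D h.comm_le_ZU h.ZU_le hZn hw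
  let ι := {θ : IrrCharacter (MulAction.stabilizer G a) //
      RelB (MulAction.stabilizer G a) U (θ : MulAction.stabilizer G a → ℂ) ∧
      (θ : MulAction.stabilizer G a → ℂ) 1 = Nat.card (EE G a b) ∧
      ∀ x : MulAction.stabilizer G a, (x : G) ∈ ZU U → (θ : MulAction.stabilizer G a → ℂ) x =
        (θ : MulAction.stabilizer G a → ℂ) 1}
  have : Fintype ι := Fintype.ofFinite _
  have hcι : Fintype.card ι = Nat.card (EE G a b) + 2 := by
    have h1 : Nat.card ι * Nat.card (EE G a b) + 1 = (Nat.card (EE G a b) + 1) ^ 2 := hcount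
    rw [Nat.card_eq_fintype_card (α := ι)] at h1
    have h2 : Fintype.card ι * Nat.card (EE G a b) = (Nat.card (EE G a b) + 2) * Nat.card (EE G a b) := by
      have : (Nat.card (EE G a b) + 1) ^ 2 = (Nat.card (EE G a b) + 2) * Nat.card (EE G a b) + 1 := by ring
      omega
    exact Nat.eq_of_mul_eq_mul_right (by omega) h2
  let th : ι → MulAction.stabilizer G a → ℂ := fun θ => (θ.1 : MulAction.stabilizer G a → ℂ)
  have hth : Function.Injective th := fun θ θ' e => Subtype.ext (Subtype.ext e)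
  obtain ⟨X, S⟩ := sf_of_card D (th := th) hth (fun θ => θ.2.1) (fun θ => θ.2.2.1) hs (by rw [hcι]; omega)
  obtain ⟨i₀⟩ : Nonempty ι := Fintype.card_pos_iff.mp (by rw [hcι]; omega)
  obtain ⟨n, hn, hn'⟩ := IsIrr.one_eq_nat (X i₀).2
  obtain ⟨z, hz⟩ := h.exists_inv
  obtain ⟨s₀, l, hs0, hXs, -⟩ := h.cusp (X i₀).2 (mem_OO.mp (S.mem i₀)) hz
  have hns : n = Nat.card (EE G a b) * s₀ := by
    have : (n : ℂ) = ((Nat.card (EE G a b) * s₀ : ℕ) : ℂ) := by rw [← hn', hXs]; push_cast; rfl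
    exact_mod_cast this
  -- divisibility
  have hd1 : P ∣ s₀ := by
    apply hP2
    intro A hA
    obtain ⟨N, hN, hlt⟩ := hNlt hA
    have h1 := h.dvd_exc S hA hN (by rw [hcι]; exact hlt) i₀ hn'
    rw [hns] at h1
    have h2 : Nat.Coprime (Nat.card A) (Nat.card (EE G a b)) := by
      apply Nat.Coprime.symm
      apply Nat.Coprime.coprime_dvd_right _ hcop
      exact (h.card_dvd hA).trans (Dvd.intro_left _ rfl)
    exact h2.dvd_of_dvd_mul_left h1
  have hPs := Nat.le_of_dvd hs0 hd1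
  -- the value of `yy`
  have hyy : yy (ZU U) (X i₀ : G → ℂ) = Nat.card (EE G a b) * ((s₀ : ℤ) - 1) := by
    obtain ⟨t, ht1, ht2, ht3⟩ := exists_t D h.ZU_le hZn hw
    have h1 := expand_apply (fun x : MulAction.stabilizer G a => (X i₀ : G → ℂ) x)
      (IsChar.isClass (IsChar.res (IsIrr.isCharacter (X i₀).2) _)) 1
    have h2 : ∀ θ : IrrCharacter (MulAction.stabilizer G a),
        classInner (fun x : MulAction.stabilizer G a => (X i₀ : G → ℂ) x) (θ : MulAction.stabilizer G a → ℂ) *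
          (θ : MulAction.stabilizer G a → ℂ) 1 =
        (Nat.card (EE G a b) : ℂ) * ((mm (X i₀ : G → ℂ) (θ : MulAction.stabilizer G a → ℂ) : ℂ) * t θ) +
          if i₀.1 = θ then (Nat.card (EE G a b) : ℂ) else 0 := by
      intro θ
      rw [mm_cast (IsIrr.isCharacter (X i₀).2) (IsIrr.isCharacter θ.2)]
      by_cases hr : RelB (MulAction.stabilizer G a) U (θ : MulAction.stabilizer G a → ℂ)
      · by_cases hk : ∀ x : MulAction.stabilizer G a, (x : G) ∈ ZU U → (θ : MulAction.stabilizer G a → ℂ) x =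
          (θ : MulAction.stabilizer G a → ℂ) 1
        · have hdeg : (θ : MulAction.stabilizer G a → ℂ) 1 = Nat.card (EE G a b) :=
            deg_of_ker D hr (fun x hx => hk x (h.comm_le_ZU hx))
          have ht0 : t θ = 0 := by
            by_contra hne
            exact (ht2 θ hne).2.2 (fun z hz => hk _ hz)
          have hmul := S.mul i₀ ⟨θ, hr, hdeg, hk⟩
          have hmul' : mm (X i₀ : G → ℂ) (θ : MulAction.stabilizer G a → ℂ) =
            if i₀ = (⟨θ, hr, hdeg, hk⟩ : ι) then 1 else 0 := hmul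
          rw [hmul', ht0]
          by_cases hi : i₀ = (⟨θ, hr, hdeg, hk⟩ : ι)
          · rw [if_pos hi, if_pos (by rw [hi]), hdeg]; simp
          · rw [if_neg hi, if_neg (fun e => hi (Subtype.ext e))]; simp
        · have hi : i₀.1 ≠ θ := by
            rintro rfl
            exact hk i₀.2.2.2
          rw [if_neg hi, add_zero]
          rcases tv_cases (h.ZU_le.trans D.hHB) hZn θ.2 with h3 | h3
          · exfalso
            apply hk
            intro x hx
            exact h3.1 x hx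
          · rw [ht1] at h3
            rw [← h3]; ring
      · have h3 := mm_nonrel D (S.mem i₀) θ.2 hr
        have hi : i₀.1 ≠ θ := by
          rintro rfl
          exact hr i₀.2.1
        rw [h3, if_neg hi]; simp
    have h3 : (X i₀ : G → ℂ) ((1 : MulAction.stabilizer G a) : G) = (X i₀ : G → ℂ) 1 := rfl
    rw [h3, Finset.sum_congr rfl fun θ _ => h2 θ, Finset.sum_add_distrib, Finset.sum_ite_eq,
      if_pos (Finset.mem_univ _), ← Finset.mul_sum, hXs] at h1
    rw [ht3 _ (IsIrr.isCharacter (X i₀).2)]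
    have h4 : (((Nat.card (EE G a b) : ℤ) * ∑ θ : IrrCharacter (MulAction.stabilizer G a),
        (mm (X i₀ : G → ℂ) (θ : MulAction.stabilizer G a → ℂ) : ℤ) * t θ : ℤ) : ℂ) =
        ((Nat.card (EE G a b) * ((s₀ : ℤ) - 1) : ℤ) : ℂ) := by
      push_cast
      linear_combination -h1
    exact_mod_cast h4
  have hineq := S.ineq D h.ZU_le hZn hw (fun i z hz => by
    rw [← i.2.2.1]
    exact i.2.2.2 _ hz) hs i₀ hyy
  rw [hcι, hc] at hineq
  rw [hs] at hineq hP1
  push_cast at hineq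
  have hx : (4 * ((s : ℤ) + 1)) ≤ (s₀ : ℤ) - 1 := by
    have : 2 * (2 * s + 1 + 1) + 1 ≤ s₀ := hP1.trans hPs
    omega
  apply arith_three (s := s) (x := (s₀ : ℤ) - 1) (by exact_mod_cast hs1) hx
  obtain ⟨x, hxd⟩ : ∃ x : ℤ, x = (s₀ : ℤ) - 1 := ⟨_, rfl⟩
  rw [← hxd] at hineq hx ⊢
  have hs1' : (1 : ℤ) ≤ s := by exact_mod_cast hs1
  have h6 : (2 * (s : ℤ) + 1) ^ 2 * (s + 1) * ((2 * s + 1) * x ^ 2) ≤
      (2 * (s : ℤ) + 1) ^ 2 * (s + 1) * (4 * s * (s + 1) * (2 * x + 1)) := by
    nlinarith [hineq]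
  exact le_of_mul_le_mul_left h6 (by positivity)

end

end Cfsg.Agent.H9.ZT
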