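import Mathlib
import Cfsg.Agent.H9_ZT7
import Cfsg.Agent.H9_ZT8

/-!
# Zassenhaus groups with nonabelian kernel of 2-power order: the main theorem
-/

set_option autoImplicit false

namespace Cfsg.Agent.H9.ZT

open Cfsg Cfsg.Agent.H9.ZassA Cfsg.Agent.H3.Zass Cfsg.Agent.H3.Zass2 Cfsg.Agent.H9.Suz

variable {G Ω : Type*} [Group G] [MulAction G Ω] {a b : Ω} {U : Subgroup G}

/-- **Suzuki's theorem**, order level -/
theorem Hyp.suzuki [Finite G] [Fintype Ω] (h : Hyp a b U) : ∃ n : ℕ, Odd n ∧ 1 < n ∧ Nat.card (EE G a b) + 1 = 2 ^ n ∧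
    Nat.card U = (2 ^ n) ^ 2 := by
  haveI := Fintype.ofFinite G
  have hc : Nat.card U = (Nat.card (EE G a b) + 1) ^ 2 := h.card_U.resolve_right h.not_cube
  obtain ⟨m, hm⟩ := h.square hc
  obtain ⟨n, hn⟩ := h.q_pow
  have hodd := odd_of_square hn hm
  refine ⟨n, hodd, ?_, hn, by rw [hc, hn]⟩
  have he1 := h.one_lt
  rcases Nat.lt_or_ge 1 n with h1 | h1
  · exact h1
  · exfalso
    have : 2 ^ n ≤ 2 ^ 1 := Nat.pow_le_pow_right (by norm_num) h1
    omega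

theorem Hyp.isSuzuki [Finite G] [Fintype Ω] (h : Hyp a b U) : IsSuzuki G := by
  obtain ⟨n, ⟨m, rfl⟩, hn1, hn2, hn3⟩ := h.suzuki
  haveI := Fintype.ofFinite G
  refine ⟨h.simple, m, by omega, ?_⟩
  rw [h.card_G, hn3, ← hn2, Nat.add_sub_cancel]
  ring

theorem Hyp.typeA [Finite G] [Fintype Ω] (h : Hyp a b U) :
    ∃ (F : Type) (_ : Field F) (_ : Fintype F) (φ : F ≃+* F), Fintype.card F = Nat.card (EE G a b) + 1 ∧
        Nonempty (U ≃* Cfsg.suzukiTypeA F (φ : F →+* F)) := by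
  haveI := Fintype.ofFinite G
  have hc : Nat.card U = (Nat.card (EE G a b) + 1) ^ 2 := h.card_U.resolve_right h.not_cube
  letI := h.act
  obtain ⟨F, i1, i2, φ, h1, -, -, h2⟩ := type_A h.sz h.nab' hc
  exact ⟨F, i1, i2, φ, h1, h2⟩

end Cfsg.Agent.H9.ZT
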