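import Mathlib
import Cfsg.Agent.H19_TI1
import Cfsg.Agent.H9_ZT9
import Cfsg.Agent.H9_Feit

set_option autoImplicit false

/-!
Zassenhaus structure: the kernel, and the nonabelian case in simple groups.
-/

namespace Cfsg.Agent.H19.TI1

open Cfsg.Agent.H4.Inv Cfsg.Agent.H4.Util Cfsg.Agent.H4.SE

variable {G : Type*} [Group G] [Finite G]

variable (h : Hyp G) (he : Even (Nat.card G)) (hTI : TI G)
include h he hTI

theorem exists_CC_smul {P Q R : Sylow 2 G} (hPQ : P ≠ Q) (hR : R ≠ P) (hm : 1 < mm P) : ∃ x ∈ CC P, x • Q = R := by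
  obtain ⟨g, hgP, hgQ⟩ := trans_stab h he hTI hPQ (Ne.symm hR) hm
  obtain ⟨t, htP, ht⟩ := exists_inv he P
  have hg' : orderOf (g * t * g⁻¹) = 2 := by rw [orderOf_conj]; exact ht
  have hgi : g⁻¹ • P = P := by rw [inv_smul_eq_iff]; exact hgP.symm
  have hgt : g * t * g⁻¹ ∈ (P : Subgroup G) := (fix_iff hg').1 (by
    rw [mul_smul, mul_smul, hgi, (fix_iff ht).2 htP, hgP])
  obtain ⟨d, hd, hdt⟩ := conj_inv_DD h he hPQ ht hg' htP hgt
  have hx : g * d⁻¹ ∈ CC P := by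
    apply (cent_iff h hg' hgt).1
    change g * d⁻¹ * (g * t * g⁻¹) = g * t * g⁻¹ * (g * d⁻¹)
    have : g * d⁻¹ * (g * t * g⁻¹) = g * d⁻¹ * (d * t * d⁻¹) := by rw [hdt]
    rw [this]; group
  refine ⟨g * d⁻¹, hx, ?_⟩
  have hdQ : d⁻¹ • Q = Q := by rw [inv_smul_eq_iff]; exact (mem_DD.1 hd).2.symm
  rw [mul_smul, hdQ, hgQ]

theorem ker {P : Sylow 2 G} (hm : 1 < mm P) : Cfsg.Agent.H9.ZassA.Ker (CC P) P where
  le := fun k hk => smul_eq_of_CC h he hk
  nrm := fun g hg k hk => conj_mem_CC hg hk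
  reg := fun y z hy hz => exists_CC_smul h he hTI (Ne.symm hy) hz hm
  free := fun k hk y hy hky => E_trivial h he hTI (Ne.symm hy) (mem_DD.2 ⟨smul_eq_of_CC h he hk, hky⟩) hk

theorem card_of_nonab (hs : IsSimpleGroup G) {P Q : Sylow 2 G} (hPQ : P ≠ Q) (hm : 1 < mm P)
    (hna : ¬ ∀ a ∈ CC P, ∀ b ∈ CC P, a * b = b * a) : Nat.card (CC P) = (mm P + 1) ^ 2 ∧ IsPGroup 2 (CC P) := by
  classical
  haveI : Fintype (Sylow 2 G) := Fintype.ofFinite _
  have hZ := zass h he hTI hPQ hm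
  have hK := ker h he hTI hm
  have hZG := Cfsg.Agent.H9.ZassA.ZG.of_zass hZ
  have h3 := Cfsg.Agent.H9.ZassC.three_le hZ
  have hodd : Odd (Nat.card ↥(MulAction.stabilizer G P ⊓ MulAction.stabilizer G Q)) := DD_odd h hPQ
  rcases Cfsg.Agent.H9.Feit.feit hZ hPQ hodd hK with h1 | ⟨hp, u, v, huv⟩
  · exfalso
    obtain ⟨p, f, -, -, hc, -⟩ := (Cfsg.Agent.H9.ZassC.Ker.toBig hZG hPQ hK h1 h3).elementary
    exact hna hc
  · have hH : Cfsg.Agent.H9.ZT.Hyp P Q (CC P) :=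
      ⟨hZ, hs, hPQ, hK, hp, u, u.2, v, v.2, fun e => huv (Subtype.ext e)⟩
    obtain ⟨n, -, -, h4, h5⟩ := hH.suzuki
    refine ⟨?_, hp⟩
    rw [h5, ← h4]
    have : Nat.card (Cfsg.Agent.H3.Zass2.EE G P Q) = mm P := card_DD h he hTI hPQ
    rw [this]

/-- the number of involutions -/
theorem card_inv (P : Sylow 2 G) : Nat.card {t : G // orderOf t = 2} = Nat.card (Sylow 2 G) * mm P := by
  classical
  have e : {t : G // orderOf t = 2} ≃ Σ R : Sylow 2 G, {t : G // orderOf t = 2 ∧ t ∈ (R : Subgroup G)} :=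
    { toFun := fun t => ⟨Classical.choose (exists_sylow_mem t.2), t.1, t.2, Classical.choose_spec (exists_sylow_mem t.2)⟩
      invFun := fun t => ⟨t.2.1, t.2.2.1⟩
      left_inv := fun t => rfl
      right_inv := by
        rintro ⟨R, t, ht, htR⟩
        have : Classical.choose (exists_sylow_mem ht) = R := uniq h ht (Classical.choose_spec (exists_sylow_mem ht)) htR
        apply Sigma.ext this
        simp only
        congr! }
  haveI : Fintype (Sylow 2 G) := Fintype.ofFinite _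
  rw [Nat.card_congr e, Nat.card_sigma]
  have : ∀ R : Sylow 2 G, Nat.card {t : G // orderOf t = 2 ∧ t ∈ (R : Subgroup G)} = mm P := fun R => mm_eq R P
  simp only [this]
  rw [Finset.sum_const, Finset.card_univ, smul_eq_mul, Nat.card_eq_fintype_card]

end Cfsg.Agent.H19.TI1
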