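import Mathlib
import Cfsg.Agent.H19_TI3
import Cfsg.Agent.H19_TI1
import Cfsg.Agent.H1_Nilp
import Cfsg.Agent.S0183
import Cfsg.Agent.S1473

set_option autoImplicit false

/-!
Finite groups in which all centralizers of elements are TI: nontrivial Fitting subgroup.
-/

namespace Cfsg.Agent.H19.TIC

open Cfsg

universe u

variable {G : Type u} [Group G] [Finite G]

theorem TC.isCN (h : TC G) : IsCNGroup G := fun _ hx => h.cn hx

theorem TC.conj_cent (h : TC G) {z : G} {N : Subgroup G} (hN : N.Normal) (hz : z ≠ 1) (hzN : z ∈ N)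
    (hc : ∀ n ∈ N, Commute n z) (g c : G) (hcz : Commute c z) : Commute (g * c * g⁻¹) z :=
  h z g z hz (Commute.refl z) (hc _ (hN.conj_mem z hzN g)) c hcz

theorem le_fit (h : TC G) {z : G} (hz : z ≠ 1) (hn : ∀ g c : G, Commute c z → Commute (g * c * g⁻¹) z) {c : G}
    (hc : Commute c z) : c ∈ fittingSubgroup G := by
  haveI : (Subgroup.centralizer ({z} : Set G)).Normal := ⟨fun n hn' g => Subgroup.mem_centralizer_singleton_iff.2
    (hn g n (Subgroup.mem_centralizer_singleton_iff.1 hn')).eq⟩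
  exact H11.Cores.le_fittingSubgroup (h.cn hz) (Subgroup.mem_centralizer_singleton_iff.2 hc.eq)

theorem fit_facts (h : TC G) (hF : fittingSubgroup G ≠ ⊥) : ∃ z ∈ fittingSubgroup G, z ≠ 1 ∧
    (∀ c, c ∈ fittingSubgroup G → Commute c z) ∧ (∀ c, Commute c z → c ∈ fittingSubgroup G) ∧
    ∀ x ∈ fittingSubgroup G, x ≠ 1 → (∀ g c, Commute c x → Commute (g * c * g⁻¹) x) ∧ ∀ c, Commute c x → c ∈ fittingSubgroup G := by
  haveI : Nontrivial (fittingSubgroup G) := (Subgroup.nontrivial_iff_ne_bot _).2 hF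
  obtain ⟨⟨z, hz⟩, hz1⟩ := (Subgroup.ne_bot_iff_exists_ne_one).1 (Group.IsNilpotent.center_ne_bot (G := fittingSubgroup G))
  have hz1' : (z : G) ≠ 1 := fun h0 => hz1 (Subtype.ext (Subtype.ext h0))
  have hzc : ∀ c ∈ fittingSubgroup G, Commute c (z : G) := fun c hc =>
    congrArg Subtype.val (Subgroup.mem_center_iff.1 hz ⟨c, hc⟩)
  have key : ∀ c, Commute c (z : G) → c ∈ fittingSubgroup G := fun c hc =>
    le_fit h hz1' (fun g c hc => h.conj_cent inferInstance hz1' z.2 hzc g c hc) hc
  refine ⟨z, z.2, hz1', hzc, key, fun x hx hx1 => ?_⟩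
  have hn : ∀ g c, Commute c x → Commute (g * c * g⁻¹) x := by
    intro g c hc
    refine h x g z hz1' (hzc x hx).symm ?_ c hc
    have h1 : Commute (g⁻¹ * x * g) (z : G) := by
      have := hzc (g⁻¹ * x * g⁻¹⁻¹) ((inferInstance : (fittingSubgroup G).Normal).conj_mem x hx g⁻¹)
      rwa [inv_inv] at this
    change g * z * g⁻¹ * x = x * (g * z * g⁻¹)
    calc g * z * g⁻¹ * x = g * (z * (g⁻¹ * x * g)) * g⁻¹ := by group
      _ = g * ((g⁻¹ * x * g) * z) * g⁻¹ := by rw [h1.eq]
      _ = _ := by group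
  exact ⟨hn, fun c hc => le_fit h hx1 hn hc⟩

/-- the Fitting subgroup is a Hall subgroup -/
theorem sylow_le_fit (h : TC G) (hF : fittingSubgroup G ≠ ⊥) {p : ℕ} [Fact p.Prime] (T : Sylow p G)
    (hT : (T : Subgroup G) ⊓ fittingSubgroup G ≠ ⊥) :
    ∃ w ∈ fittingSubgroup G, w ≠ 1 ∧ (∀ t ∈ (T : Subgroup G), Commute t w) := by
  haveI : Group.IsNilpotent (T : Subgroup G) := T.isPGroup'.isNilpotent
  let N : Subgroup (T : Subgroup G) := (fittingSubgroup G).subgroupOf T
  haveI : N.Normal := inferInstance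
  have hN : N ≠ ⊥ := by
    intro h0
    apply hT
    rw [eq_bot_iff]
    rintro x ⟨h1, h2⟩
    have : (⟨x, h1⟩ : (T : Subgroup G)) ∈ N := h2
    rw [h0, Subgroup.mem_bot] at this
    exact Subgroup.mem_bot.2 (congrArg Subtype.val this)
  obtain ⟨⟨w, hw⟩, hw1⟩ := (Subgroup.ne_bot_iff_exists_ne_one).1 (H1.Nilp.normal_inf_center_ne_bot N hN)
  refine ⟨w, hw.1, fun h0 => hw1 (Subtype.ext (Subtype.ext h0)), fun t ht => ?_⟩
  exact congrArg Subtype.val (Subgroup.mem_center_iff.1 hw.2 ⟨t, ht⟩)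

open Cfsg.Agent.H4.Inv Cfsg.Agent.H4.Util in
theorem solvable_of_fit (h : TC G) (hF : fittingSubgroup G ≠ ⊥) : Group.IsSolvable G := by
  haveI : Fact (Nat.Prime 2) := ⟨Nat.prime_two⟩
  obtain ⟨z, hz, hz1, hzc, hzc', hall⟩ := fit_facts h hF
  rcases Nat.even_or_odd (Nat.card G) with hev | hodd
  swap
  · exact S0183.result hodd h.isCN
  haveI hFs : Group.IsSolvable (fittingSubgroup G) := inferInstance
  have hext : Group.IsSolvable (G ⧸ fittingSubgroup G) → Group.IsSolvable G := by
    intro hq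
    exact solvable_of_ker_le_range (fittingSubgroup G).subtype (QuotientGroup.mk' (fittingSubgroup G)) (by
      rw [QuotientGroup.ker_mk', Subgroup.range_subtype])
  apply hext
  obtain ⟨T⟩ : Nonempty (Sylow 2 G) := inferInstance
  by_cases hT : (T : Subgroup G) ⊓ fittingSubgroup G = ⊥
  · -- the Fitting subgroup has odd order
    have hodd : Odd (Nat.card (fittingSubgroup G)) := by
      rw [← Nat.not_even_iff_odd]
      intro he
      obtain ⟨t, ht⟩ := exists_prime_orderOf_dvd_card' (G := fittingSubgroup G) 2 he.two_dvd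
      have ht2 : orderOf (t : G) = 2 := by rw [Subgroup.orderOf_coe]; exact ht
      obtain ⟨a, ha⟩ := exists_conj_le T _ (zpowers_isPGroup (p := 2) (k := 1) (by rw [ht2, pow_one]))
      have h1 : a * t * a⁻¹ ∈ (T : Subgroup G) ⊓ fittingSubgroup G :=
        ⟨ha _ (Subgroup.mem_zpowers _), (inferInstance : (fittingSubgroup G).Normal).conj_mem _ t.2 a⟩
      rw [hT, Subgroup.mem_bot, mul_inv_eq_one] at h1
      have : (t : G) = 1 := mul_left_cancel (h1.trans (mul_one a).symm)
      rw [this, orderOf_one] at ht2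
      exact absurd ht2 (by norm_num)
    obtain ⟨t, ht⟩ := exists_prime_orderOf_dvd_card' (G := G) 2 hev.two_dvd
    have hinv : ∀ s : G, orderOf s = 2 → ∀ x ∈ fittingSubgroup G, s * x * s⁻¹ = x⁻¹ := by
      intro s hs
      apply H19.TI1.inverts_of_fpf hs (fun x hx => (inferInstance : (fittingSubgroup G).Normal).conj_mem x hx s)
      intro x hx hxs
      by_contra hx1
      have h1 : s ∈ fittingSubgroup G := (hall x hx hx1).2 s hxs.symm
      have h2 := H19.TI1.odd_of_mem hodd h1
      rw [hs] at h2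
      exact absurd h2 (by decide)
    have hfact : ∀ g : G, ∃ u ∈ fittingSubgroup G, Commute (u⁻¹ * g) t := by
      intro g
      have hs : orderOf (g * t * g⁻¹) = 2 := by rw [orderOf_conj]; exact ht
      set s := g * t * g⁻¹ with hsdef
      have hy : t * s ∈ fittingSubgroup G := by
        apply hzc'
        have h1 : (t * s) * z * (t * s)⁻¹ = z := by
          calc (t * s) * z * (t * s)⁻¹ = t * (s * z * s⁻¹) * t⁻¹ := by group
            _ = z := by rw [hinv s hs z hz, hinv t ht _ (inv_mem hz), inv_inv]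
        rw [mul_inv_eq_iff_eq_mul] at h1
        exact h1
      obtain ⟨k, hk⟩ := H19.TI1.odd_of_mem hodd hy
      set y := t * s with hydef
      -- u ^ 2 = y⁻¹
      refine ⟨(y⁻¹) ^ (k + 1), Subgroup.pow_mem _ (inv_mem hy) _, ?_⟩
      set w := (y⁻¹) ^ (k + 1) with hw
      have hw2 : w * w = y⁻¹ := by
        rw [hw, ← pow_add, show k + 1 + (k + 1) = (2 * k + 1) + 1 by ring, pow_succ, inv_pow, ← hk, pow_orderOf_eq_one, inv_one, one_mul]
      have hwF : w ∈ fittingSubgroup G := Subgroup.pow_mem _ (inv_mem hy) _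
      have h1 := hinv t ht _ hwF
      -- w t w⁻¹ = w w t = y⁻¹ t = s
      have h2 : w * t * w⁻¹ = s := by
        have h3 : t * w⁻¹ = w * t := by
          have h4 : (t * w * t⁻¹)⁻¹ = w := by rw [h1, inv_inv]
          calc t * w⁻¹ = (t * w * t⁻¹)⁻¹ * t := by group
            _ = w * t := by rw [h4]
        calc w * t * w⁻¹ = w * (t * w⁻¹) := by group
          _ = (w * w) * t := by rw [h3]; group
          _ = y⁻¹ * t := by rw [hw2]
          _ = s⁻¹ * t⁻¹ * t := by rw [hydef, mul_inv_rev]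
          _ = s⁻¹ := by group
          _ = s := inv_eq hs
      change w⁻¹ * g * t = t * (w⁻¹ * g)
      calc w⁻¹ * g * t = w⁻¹ * (g * t * g⁻¹) * g := by group
        _ = w⁻¹ * (w * t * w⁻¹) * g := by rw [← hsdef, h2]
        _ = _ := by group
    have ht1 : t ≠ 1 := ne_one ht
    haveI := h.cn ht1
    let f : Subgroup.centralizer ({t} : Set G) →* G ⧸ fittingSubgroup G :=
      (QuotientGroup.mk' (fittingSubgroup G)).comp (Subgroup.centralizer ({t} : Set G)).subtype
    have hf : Function.Surjective f := by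
      intro q
      induction q using QuotientGroup.induction_on with | H g => ?_
      obtain ⟨u, hu, hug⟩ := hfact g
      refine ⟨⟨u⁻¹ * g, Subgroup.mem_centralizer_singleton_iff.2 hug.eq⟩, ?_⟩
      change (QuotientGroup.mk (u⁻¹ * g) : G ⧸ fittingSubgroup G) = QuotientGroup.mk g
      rw [QuotientGroup.eq]
      have e : (u⁻¹ * g)⁻¹ * g = g⁻¹ * u * g⁻¹⁻¹ := by group
      rw [e]
      exact (inferInstance : (fittingSubgroup G).Normal).conj_mem u hu g⁻¹
    haveI : Group.IsSolvable (Subgroup.centralizer ({t} : Set G)) := inferInstance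
    exact solvable_of_surjective hf
  · obtain ⟨w, hw, hw1, hwT⟩ := sylow_le_fit h hF T hT
    have hTF : (T : Subgroup G) ≤ fittingSubgroup G := fun t ht => (hall w hw hw1).2 t (hwT t ht)
    have hindex : Odd (Nat.card (G ⧸ fittingSubgroup G)) := by
      rw [← Nat.not_even_iff_odd]
      intro he
      apply T.not_dvd_index
      rw [← Subgroup.relIndex_mul_index hTF]
      exact Dvd.dvd.mul_left he.two_dvd _
    exact S0183.result hindex (S1473.result h.isCN (fittingSubgroup G) hFs)

end Cfsg.Agent.H19.TIC
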