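import Mathlib
import Cfsg.Agent.H19_TI4
import Cfsg.Agent.H19_TI2
import Cfsg.Agent.H4_ZStar
import Cfsg.Agent.H4_ZCor

set_option autoImplicit false

/-!
Finite groups in which all centralizers of elements are TI: trivial Fitting subgroup.
-/

namespace Cfsg.Agent.H19.TIC

open Cfsg Cfsg.Agent.H4.Inv Cfsg.Agent.H4.Util

universe u

variable {G : Type u} [Group G] [Finite G]

/-- `g` normalizes the centralizer of `z` -/
def NC (z g : G) : Prop := ∀ c : G, Commute c z → Commute (g * c * g⁻¹) z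

/-- uniqueness of Sylow subgroups inside a nilpotent subgroup -/
theorem sylow_unique {p : ℕ} [Fact p.Prime] {C : Subgroup G} (hC : Group.IsNilpotent C) {P Q : Sylow p G}
    (hP : (P : Subgroup G) ≤ C) (hQ : (Q : Subgroup G) ≤ C) : P = Q := by
  haveI := hC
  have h1 : (P.subtype hP : Subgroup C).Normal := inferInstance
  haveI := Sylow.unique_of_normal (P.subtype hP) h1
  have h2 : P.subtype hP = Q.subtype hQ := Subsingleton.elim _ _
  have h3 : (P.subtype hP : Subgroup C).map C.subtype = (Q.subtype hQ : Subgroup C).map C.subtype := by rw [h2]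
  rw [Sylow.coe_subtype, Sylow.coe_subtype, Subgroup.map_subgroupOf_eq_of_le hP, Subgroup.map_subgroupOf_eq_of_le hQ] at h3
  exact Sylow.ext h3

variable (h : TC G) (he : Even (Nat.card G))
include h

theorem smul_of_NC {P : Sylow 2 G} {z g : G} (hz : z ≠ 1) (hc : ∀ s ∈ (P : Subgroup G), Commute s z) (hg : NC z g) :
    g • P = P := by
  haveI : Fact (Nat.Prime 2) := ⟨Nat.prime_two⟩
  apply sylow_unique (h.cn hz)
  · intro x hx
    rw [mem_smul_sylow] at hx
    rw [Subgroup.mem_centralizer_singleton_iff]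
    have := hg _ (hc _ hx)
    have e : g * (g⁻¹ * x * g) * g⁻¹ = x := by group
    rw [e] at this
    exact this.eq
  · intro x hx
    rw [Subgroup.mem_centralizer_singleton_iff]
    exact (hc x hx).eq

theorem NC_of_comm {z g y : G} (hy : y ≠ 1) (hyz : Commute y z) (hgy : Commute g y) : NC z g := by
  refine h z g y hy hyz ?_
  have : g * y * g⁻¹ = y := by rw [hgy.eq]; group
  rw [this]; exact hyz

include he

theorem uq (P Q : Sylow 2 G) (t : G) (ht : orderOf t = 2) (htP : t ∈ (P : Subgroup G)) (htQ : t ∈ (Q : Subgroup G)) : P = Q := by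
  haveI : Fact (Nat.Prime 2) := ⟨Nat.prime_two⟩
  obtain ⟨z, hzP, hz, hzc⟩ := Cfsg.Agent.H4.ZCor.exists_central P he.two_dvd
  obtain ⟨w, hwQ, hw, hwc⟩ := Cfsg.Agent.H4.ZCor.exists_central Q he.two_dvd
  have h1 : NC z w := NC_of_comm h (ne_one ht) (hzc t htP) (hwc t htQ).symm
  have h2 : w ∈ (P : Subgroup G) := (H19.TI1.fix_iff hw).1 (smul_of_NC h (ne_one hz) hzc h1)
  apply H19.TI1.le_of_le_normalizer
  intro x hx
  exact smul_of_NC h (ne_one hz) hzc (NC_of_comm h (ne_one hw) (hzc w h2) (hwc x hx))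

theorem stronglyEmbedded' {P Q : Sylow 2 G} (hPQ : P ≠ Q) :
    Cfsg.IsStronglyEmbedded (Subgroup.normalizer ((P : Subgroup G) : Set G)) := by
  haveI : Fact (Nat.Prime 2) := ⟨Nat.prime_two⟩
  refine ⟨?_, ?_, ?_⟩
  · intro h0
    obtain ⟨g, hg⟩ := MulAction.exists_smul_eq G P Q
    have : g • P = P := H19.TI1.smul_eq_iff.2 (by rw [h0]; trivial)
    exact hPQ (this.symm.trans hg)
  · obtain ⟨t, htP, ht⟩ := H19.TI1.exists_inv he P
    exact H4.SE.even_of_mem ht (Subgroup.le_normalizer htP)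
  · intro g hg
    rw [← Nat.not_even_iff_odd]
    intro heven
    obtain ⟨t, ht⟩ := exists_prime_orderOf_dvd_card' (G := ↥(Subgroup.normalizer ((P : Subgroup G) : Set G) ⊓
      (Subgroup.normalizer ((P : Subgroup G) : Set G)).map (MulAut.conj g).toMonoidHom)) 2 heven.two_dvd
    have ht2 : orderOf (t : G) = 2 := by rw [Subgroup.orderOf_coe]; exact ht
    obtain ⟨h1, h2⟩ := (H4.SE.mem_inf_conj _ g (t : G)).mp t.2
    apply hg
    rw [← H19.TI1.smul_eq_iff]
    rw [← H19.TI1.smul_eq_iff, mul_smul, mul_smul, inv_smul_eq_iff] at h2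
    rw [← H19.TI1.smul_eq_iff] at h1
    have h3 : (t : G) ∈ (P : Subgroup G) := (H19.TI1.fix_iff ht2).1 h1
    have h4 : (t : G) ∈ ((g • P : Sylow 2 G) : Subgroup G) := (H19.TI1.fix_iff ht2).1 h2
    exact (uq h he _ _ t ht2 h4 h3)

theorem conj_inv {P Q : Sylow 2 G} (hPQ : P ≠ Q) {s t : G} (hs : orderOf s = 2) (ht : orderOf t = 2)
    (hsP : s ∈ (P : Subgroup G)) (htP : t ∈ (P : Subgroup G)) : ∃ g : G, g * s * g⁻¹ = t ∧ g • P = P := by
  obtain ⟨g, hg⟩ := isConj_iff.1 (H4.SE.isConj_invol (stronglyEmbedded' h he hPQ) hs ht)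
  refine ⟨g, hg, ?_⟩
  apply uq h he _ _ t ht _ htP
  rw [mem_smul_sylow, ← hg]
  have e : g⁻¹ * (g * s * g⁻¹) * g = s := by group
  rw [e]; exact hsP

theorem hyp {P₀ Q₀ : Sylow 2 G} (hPQ₀ : P₀ ≠ Q₀) : H19.TI1.Hyp G := by
  haveI : Fact (Nat.Prime 2) := ⟨Nat.prime_two⟩
  refine ⟨?_, uq h he⟩
  intro P t a s ht htP hat hs hsP
  obtain ⟨Q, hPQ⟩ : ∃ Q : Sylow 2 G, P ≠ Q := by
    by_cases h0 : P = P₀
    · exact ⟨Q₀, h0 ▸ hPQ₀⟩
    · exact ⟨P₀, h0⟩
  obtain ⟨z, hzP, hz, hzc⟩ := Cfsg.Agent.H4.ZCor.exists_central P he.two_dvd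
  -- the centralizer of an involution of `P` is that of `z`
  have key : ∀ r : G, orderOf r = 2 → r ∈ (P : Subgroup G) → ∀ c : G, Commute c r ↔ Commute c z := by
    intro r hr hrP c
    obtain ⟨g, hg, hgP⟩ := conj_inv h he hPQ hz hr hzP hrP
    have h1 : NC z g := h z g z (ne_one hz) (Commute.refl z) (by rw [hg]; exact hzc r hrP)
    have h2 : NC z g⁻¹ := h z g⁻¹ r (ne_one hr) (hzc r hrP) (by
      rw [← hg]
      have e : g⁻¹ * (g * z * g⁻¹) * g⁻¹⁻¹ = z := by group
      rw [e])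
    constructor
    · intro hc
      have h3 : Commute (g⁻¹ * c * g) z := by
        change g⁻¹ * c * g * z = z * (g⁻¹ * c * g)
        rw [← hg] at hc
        calc g⁻¹ * c * g * z = g⁻¹ * (c * (g * z * g⁻¹)) * g := by group
          _ = g⁻¹ * ((g * z * g⁻¹) * c) * g := by rw [hc.eq]
          _ = _ := by group
      have h4 := h1 _ h3
      have e : g * (g⁻¹ * c * g) * g⁻¹ = c := by group
      rwa [e] at h4
    · intro hc
      have h3 := h2 c hc
      rw [inv_inv] at h3
      rw [← hg]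
      change c * (g * z * g⁻¹) = g * z * g⁻¹ * c
      calc c * (g * z * g⁻¹) = g * ((g⁻¹ * c * g) * z) * g⁻¹ := by group
        _ = g * (z * (g⁻¹ * c * g)) * g⁻¹ := by rw [h3.eq]
        _ = _ := by group
  exact ((key s hs hsP a).2 ((key t ht htP a).1 hat)).eq.symm

theorem ti : H19.TI1.TI G := by
  intro P x hx hx1 g hg
  obtain ⟨z, hzP, hz, hzc⟩ := Cfsg.Agent.H4.ZCor.exists_central P he.two_dvd
  have h1 : Commute x z := (H19.TI1.mem_CC.1 hx z hz hzP).symm
  exact smul_of_NC h (ne_one hz) hzc (NC_of_comm h hx1 h1 hg)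

omit he in
theorem fit_of_normal (hF : fittingSubgroup G = ⊥) {N : Subgroup G} (hN : N.Normal) : fittingSubgroup N = ⊥ := by
  have h1 : ((fittingSubgroup N).map N.subtype).Normal := H11.Cores.map_subtype_normal_of_characteristic N _
  have h2 : Group.IsNilpotent ((fittingSubgroup N).map N.subtype) := by
    haveI : Group.IsNilpotent (fittingSubgroup N) := inferInstance
    exact Group.nilpotent_of_surjective ((Subgroup.equivMapOfInjective (fittingSubgroup N) N.subtype N.subtype_injective).toMonoidHom)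
      (MulEquiv.surjective _)
  have h3 := H11.Cores.le_fittingSubgroup (N := (fittingSubgroup N).map N.subtype) h2
  rw [hF, le_bot_iff, Subgroup.map_eq_bot_iff_of_injective _ N.subtype_injective] at h3
  exact h3

omit he in
theorem even_of_fit [Nontrivial G] (hF : fittingSubgroup G = ⊥) : Even (Nat.card G) := by
  rw [← Nat.not_odd_iff_even]
  intro hodd
  obtain ⟨A, hA, hA1, hc⟩ := exists_ab_normal (S0183.result hodd h.isCN)
  haveI := hA
  have h1 : Group.IsNilpotent A := nilpotent_of_comm (fun a b => Subtype.ext (hc a a.2 b b.2))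
  have h2 := H11.Cores.le_fittingSubgroup (N := A) h1
  rw [hF, le_bot_iff] at h2
  exact hA1 h2

omit he in
theorem even_of_normal (hF : fittingSubgroup G = ⊥) {N : Subgroup G} (hN : N.Normal) (hN1 : N ≠ ⊥) : Even (Nat.card N) := by
  haveI : Nontrivial N := (Subgroup.nontrivial_iff_ne_bot _).2 hN1
  exact even_of_fit (h.sub N) (fit_of_normal h hF hN)

theorem exists_ne (hF : fittingSubgroup G = ⊥) (P : Sylow 2 G) : ∃ Q : Sylow 2 G, P ≠ Q := by
  haveI : Fact (Nat.Prime 2) := ⟨Nat.prime_two⟩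
  by_contra hcon
  push Not at hcon
  have hn : (P : Subgroup G).Normal := by
    refine ⟨fun n hn g => ?_⟩
    have h1 := hcon (g • P)
    have : n ∈ (P : Subgroup G) := hn
    rw [h1, mem_smul_sylow]
    have e : g⁻¹ * (g * n * g⁻¹) * g = n := by group
    rw [e]; exact hn
  have h1 := H11.Cores.le_fittingSubgroup (N := (P : Subgroup G)) P.isPGroup'.isNilpotent
  rw [hF, le_bot_iff] at h1
  obtain ⟨t, htP, ht⟩ := H19.TI1.exists_inv he P
  rw [h1, Subgroup.mem_bot] at htP
  exact ne_one ht htP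

theorem one_lt_mm (hF : fittingSubgroup G = ⊥) (P : Sylow 2 G) : 1 < H19.TI1.mm P := by
  haveI : Fact (Nat.Prime 2) := ⟨Nat.prime_two⟩
  by_contra hcon
  have hpos := H19.TI1.mm_pos he P
  have h1 : H19.TI1.mm P = 1 := by omega
  obtain ⟨z, hzP, hz⟩ := H19.TI1.exists_inv he P
  have hu : ∀ t ∈ P, orderOf t = 2 → t = z := by
    intro t htP ht
    have h2 : Subsingleton {t : G // orderOf t = 2 ∧ t ∈ (P : Subgroup G)} := (Nat.card_eq_one_iff_unique.1 h1).1
    exact congrArg Subtype.val (Subsingleton.elim (⟨t, ht, htP⟩ : {t : G // orderOf t = 2 ∧ t ∈ (P : Subgroup G)}) ⟨z, hz, hzP⟩)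
  have hI := Cfsg.Agent.H4.ZCor.isolated_of_unique P hz hzP hu
  have hcore : oddCore G = ⊥ := by
    by_contra hne
    have h2 := even_of_normal h hF (N := oddCore G) inferInstance hne
    have h3 : Odd (Nat.card (oddCore G)) := Nat.coprime_two_right.mp (Cfsg.Agent.H11.Cores.pPrimeCore_coprime 2)
    exact (Nat.not_even_iff_odd.2 h3) h2
  have hzc : ∀ g : G, g * z * g⁻¹ = z := by
    intro g
    have h2 := Cfsg.Agent.H4.ZStar.zstar hI g
    rw [hcore, Subgroup.mem_bot] at h2
    have h3 : z * g = g * z := by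
      calc z * g = (z * g * z⁻¹ * g⁻¹) * g * z := by group
        _ = g * z := by rw [h2, one_mul]
    rw [← h3]; group
  haveI : (Subgroup.zpowers z).Normal := ⟨fun n hn g => by
    obtain ⟨k, rfl⟩ := Subgroup.mem_zpowers_iff.1 hn
    rw [← conj_zpow, hzc g]
    exact Subgroup.zpow_mem _ (Subgroup.mem_zpowers z) k⟩
  have h2 : Group.IsNilpotent (Subgroup.zpowers z) := nilpotent_of_comm (fun a b => by
    obtain ⟨i, hi⟩ := Subgroup.mem_zpowers_iff.1 a.2
    obtain ⟨j, hj⟩ := Subgroup.mem_zpowers_iff.1 b.2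
    apply Subtype.ext
    rw [Subgroup.coe_mul, Subgroup.coe_mul, ← hi, ← hj, ← zpow_add, ← zpow_add, add_comm])
  have h3 := H11.Cores.le_fittingSubgroup (N := Subgroup.zpowers z) h2
  rw [hF] at h3
  exact ne_one hz (Subgroup.mem_bot.1 (h3 (Subgroup.mem_zpowers z)))

end Cfsg.Agent.H19.TIC
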