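import Mathlib
import Cfsg.Agent.H19_TI5
import Cfsg.Agent.H19_CA3
import Cfsg.Agent.S1230
import Cfsg.Agent.H9_FieldCongr
import Cfsg.Agent.H24_FratAut

set_option autoImplicit false

/-!
Finite groups in which all centralizers of elements are TI, with trivial Fitting subgroup, are `PSL₂(2ⁿ)`.
-/

namespace Cfsg.Agent.H19.TIC

open Cfsg Cfsg.Agent.H4.Inv Cfsg.Agent.H4.Util

universe u

theorem arith {m w n b : ℕ} (hm : m + 1 = 2 ^ n) (hw : w = 2 ^ b) (h1 : m + 1 < w) (h2 : w < (m + 1) ^ 2) (h3 : m ∣ w - 1) : False := by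
  rw [hm, hw] at h1
  have hnb := (Nat.pow_lt_pow_iff_right (by norm_num : 1 < 2)).1 h1
  obtain ⟨c, rfl⟩ : ∃ c, b = n + c := ⟨b - n, by omega⟩
  have hc : 1 < 2 ^ c := Nat.one_lt_two_pow (by omega)
  rw [pow_add, ← hm] at hw
  rw [hw, pow_two] at h2
  have h4 : 2 ^ c < m + 1 := lt_of_mul_lt_mul_left h2 (Nat.zero_le _)
  have h5 : w - 1 = m * 2 ^ c + (2 ^ c - 1) := by
    rw [hw, Nat.add_mul]; omega
  rw [h5] at h3
  have h6 : m ∣ 2 ^ c - 1 := (Nat.dvd_add_right (Dvd.intro _ rfl)).1 h3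
  have h7 := Nat.le_of_dvd (by omega) h6
  omega

/-- involutions together with `1` embed in the common centralizer -/
theorem mm_le {G : Type u} [Group G] [Finite G] (h : H19.TI1.Hyp G) (he : Even (Nat.card G)) (P : Sylow 2 G) :
    H19.TI1.mm P + 1 ≤ Nat.card (H19.TI1.CC P) ∧ (Nat.card (H19.TI1.CC P) = H19.TI1.mm P + 1 →
      ∀ a ∈ H19.TI1.CC P, a = 1 ∨ (orderOf a = 2 ∧ a ∈ (P : Subgroup G))) := by
  classical
  let f : Option {t : G // orderOf t = 2 ∧ t ∈ (P : Subgroup G)} → H19.TI1.CC P := fun o => match o with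
    | none => 1
    | some t => ⟨t, H19.TI1.le_CC h he P t.2.2⟩
  have hf : Function.Injective f := by
    intro a b hab
    have hab' := congrArg (Subtype.val) hab
    rcases a with _ | a <;> rcases b with _ | b
    · rfl
    · exact absurd hab'.symm (ne_one b.2.1)
    · exact absurd hab' (ne_one a.2.1)
    · have : a = b := Subtype.ext hab'
      rw [this]
  have h1 := Nat.card_le_card_of_injective f hf
  rw [Finite.card_option] at h1
  refine ⟨h1, fun hc a ha => ?_⟩
  have hb := (Nat.bijective_iff_injective_and_card f).2 ⟨hf, by rw [Finite.card_option, hc]; rfl⟩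
  obtain ⟨o, ho⟩ := hb.2 ⟨a, ha⟩
  rcases o with _ | t
  · left; exact (congrArg Subtype.val ho).symm
  · right
    have : (t : G) = a := congrArg Subtype.val ho
    rw [← this]; exact t.2

theorem simple_case {G : Type u} [Group G] [Finite G] (h : TC G) (hF : fittingSubgroup G = ⊥) [Nontrivial G] (hs : IsSimpleGroup G)
    (P : Sylow 2 G) : ∀ a ∈ H19.TI1.CC P, ∀ b ∈ H19.TI1.CC P, a * b = b * a := by
  classical
  by_contra hcon
  have he := even_of_fit h hF
  obtain ⟨Q, hPQ⟩ := exists_ne h he hF P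
  have hm := one_lt_mm h he hF P
  have hH := hyp h he hPQ
  have hTI := ti h he
  obtain ⟨hc, hp⟩ := H19.TI1.card_of_nonab hH he hTI hs hPQ hm hcon
  push Not at hcon
  obtain ⟨a, ha, b, hb, hab⟩ := hcon
  let W : Subgroup G := H19.TI1.CC P ⊓ Subgroup.centralizer ({a} : Set G)
  have hW : ∀ w, w ∈ W ↔ w ∈ H19.TI1.CC P ∧ Commute w a := by
    intro w
    rw [Subgroup.mem_inf, Subgroup.mem_centralizer_singleton_iff]
    rfl
  have haW : a ∈ W := (hW a).2 ⟨ha, Commute.refl a⟩
  have hbW : b ∉ W := fun h0 => hab ((hW b).1 h0).2.eq.symm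
  -- order of W
  obtain ⟨k, hk⟩ := IsPGroup.iff_card.1 hp
  have hWp : IsPGroup 2 W := by
    intro w
    obtain ⟨j, hj⟩ := hp ⟨w, ((hW w).1 w.2).1⟩
    have hj' : (w : G) ^ 2 ^ j = 1 := congrArg Subtype.val hj
    exact ⟨j, Subtype.ext hj'⟩
  haveI : Fact (Nat.Prime 2) := ⟨Nat.prime_two⟩
  obtain ⟨e, hWe⟩ := IsPGroup.iff_card.1 hWp
  obtain ⟨n, -, hn⟩ : ∃ n ≤ k, H19.TI1.mm P + 1 = 2 ^ n := by
    apply (Nat.dvd_prime_pow Nat.prime_two).1
    rw [← hk, hc]
    exact Dvd.intro_left _ (pow_two _).symm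
  have hlt : Nat.card W < (H19.TI1.mm P + 1) ^ 2 := by
    rw [← hc]
    apply H11.Cores.card_lt_card
    rw [lt_iff_le_and_ne]
    refine ⟨inf_le_left, fun h0 => hbW ?_⟩
    rw [h0]; exact hb
  have ha2 : orderOf a ≠ 2 := by
    intro h0
    have h1 : a ∈ (P : Subgroup G) := (H19.TI1.fix_iff h0).1 (H19.TI1.smul_eq_of_CC hH he ha)
    exact hab (H19.TI1.mem_CC.1 hb a h0 h1)
  have ha1 : a ≠ 1 := by
    rintro rfl
    apply hab; rw [one_mul, mul_one]
  have hgt : H19.TI1.mm P + 1 < Nat.card W := by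
    let f : Option (Option {t : G // orderOf t = 2 ∧ t ∈ (P : Subgroup G)}) → W := fun o => match o with
      | none => 1
      | some none => ⟨a, haW⟩
      | some (some t) => ⟨t, (hW t).2 ⟨H19.TI1.le_CC hH he P t.2.2, H19.TI1.mem_CC.1 ha t t.2.1 t.2.2⟩⟩
    have hf : Function.Injective f := by
      intro x y hxy
      have hxy' := congrArg (Subtype.val) hxy
      rcases x with _ | _ | x <;> rcases y with _ | _ | y
      · rfl
      · exact absurd hxy'.symm ha1
      · exact absurd hxy'.symm (ne_one y.2.1)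
      · exact absurd hxy' ha1
      · rfl
      · exfalso
        change a = y at hxy'
        apply ha2
        rw [hxy']; exact y.2.1
      · exact absurd hxy' (ne_one x.2.1)
      · exfalso
        change (x : G) = a at hxy'
        apply ha2
        rw [← hxy']; exact x.2.1
      · have : x = y := Subtype.ext hxy'
        rw [this]
    have h1 := Nat.card_le_card_of_injective f hf
    rw [Finite.card_option, Finite.card_option] at h1
    unfold H19.TI1.mm
    omega
  -- the action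
  have hdiv : H19.TI1.mm P ∣ Nat.card W - 1 := by
    obtain ⟨t, htP, ht⟩ := H19.TI1.exists_inv he P
    have hmaps : ∀ d ∈ H19.TI1.DD P Q, ∀ w ∈ W, d * w * d⁻¹ ∈ W := by
      intro d hd w hw
      obtain ⟨hd1, hd2⟩ := H19.TI1.mem_DD.1 hd
      obtain ⟨hw1, hw2⟩ := (hW w).1 hw
      refine (hW _).2 ⟨H19.TI1.conj_mem_CC hd1 hw1, ?_⟩
      refine h a d t (ne_one ht) (H19.TI1.mem_CC.1 ha t ht htP) ?_ w hw2
      have h1 : d * t * d⁻¹ ∈ (P : Subgroup G) := by
        rw [← hd1, mem_smul_sylow]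
        have e : d⁻¹ * (d * t * d⁻¹) * d = t := by group
        rw [e]; exact htP
      exact H19.TI1.mem_CC.1 ha _ (by rw [orderOf_conj]; exact ht) h1
    letI act : MulAction (H19.TI1.DD P Q) {w : W // w ≠ 1} :=
      { smul := fun d w => ⟨⟨(d : G) * w.1 * (d : G)⁻¹, hmaps d d.2 w.1 w.1.2⟩, fun h0 => w.2 (by
          have h1 : (d : G) * w.1 * (d : G)⁻¹ = 1 := congrArg Subtype.val h0
          rw [mul_inv_eq_one] at h1
          exact Subtype.ext (mul_left_cancel (h1.trans (mul_one _).symm)))⟩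
        one_smul := fun w => by
          apply Subtype.ext; apply Subtype.ext
          change (1 : G) * w.1 * (1 : G)⁻¹ = w.1
          group
        mul_smul := fun x y w => by
          apply Subtype.ext; apply Subtype.ext
          change ((x : G) * y) * w.1 * ((x : G) * y)⁻¹ = x * (y * w.1 * (y : G)⁻¹) * (x : G)⁻¹
          group }
    have h1 := Cfsg.Agent.H24.FratAut.card_dvd_of_free (A := H19.TI1.DD P Q) (X := {w : W // w ≠ 1}) (by
      intro d w hdw
      by_contra hd1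
      have hd1' : (d : G) ≠ 1 := fun h0 => hd1 (Subtype.ext h0)
      have h2 : (d : G) * w.1 * (d : G)⁻¹ = w.1 := congrArg (fun x : {w : W // w ≠ 1} => (x.1 : G)) hdw
      have h3 : Commute (w.1 : G) (d : G) := by
        rw [mul_inv_eq_iff_eq_mul] at h2
        exact h2.symm
      have h4 := (H19.TI1.fix_cent hH he hTI hPQ d.2 hd1').1 _ h3
      exact w.2 (Subtype.ext (H19.TI1.E_trivial hH he hTI hPQ h4 ((hW _).1 w.1.2).1)))
    rw [H19.TI1.card_DD hH he hTI hPQ] at h1
    have h2 : Nat.card {w : W // w ≠ 1} = Nat.card W - 1 := by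
      haveI := Fintype.ofFinite W
      rw [Nat.card_eq_fintype_card, Nat.card_eq_fintype_card, Fintype.card_subtype_compl, Fintype.card_subtype_eq]
    rw [h2] at h1
    exact h1
  exact arith hn hWe hgt hlt hdiv

theorem ca_hyp {G : Type u} [Group G] [Finite G] (h : TC G) (he : Even (Nat.card G))
    (hc : ∀ P : Sylow 2 G, ∀ a ∈ H19.TI1.CC P, ∀ b ∈ H19.TI1.CC P, a * b = b * a) (hH : H19.TI1.Hyp G) :
    H19.CA1.Hyp G ∧ H19.CA1.TI G := by
  constructor
  · intro t ht a b ha hb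
    obtain ⟨P, htP⟩ := H19.TI1.exists_sylow_mem ht
    exact hc P a ((H19.TI1.cent_iff hH ht htP).1 ha) b ((H19.TI1.cent_iff hH ht htP).1 hb)
  · intro P x hx hx1 g hg
    refine ti h he P x ?_ hx1 g hg
    rw [H19.TI1.mem_CC]
    exact fun t _ htP => H19.CA1.mem_CC.1 hx t htP

theorem main_comm : ∀ n : ℕ, ∀ (G : Type u) [Group G] [Finite G], Nat.card G ≤ n → TC G → fittingSubgroup G = ⊥ → Nontrivial G →
    ∀ P : Sylow 2 G, ∀ a ∈ H19.TI1.CC P, ∀ b ∈ H19.TI1.CC P, a * b = b * a := by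
  intro n
  induction n with
  | zero => intro G _ _ h0; exact absurd h0 (by have : 0 < Nat.card G := Nat.card_pos; omega)
  | succ n ih =>
    intro G _ _ hcard h hF _ P
    classical
    haveI : Fact (Nat.Prime 2) := ⟨Nat.prime_two⟩
    by_cases hs : IsSimpleGroup G
    · exact simple_case h hF hs P
    obtain ⟨N, hN, hN1, hN2⟩ : ∃ N : Subgroup G, N.Normal ∧ N ≠ ⊥ ∧ N ≠ ⊤ := by
      by_contra hcon
      push Not at hcon
      exact hs ⟨fun N hN => or_iff_not_imp_left.2 (fun h1 => hcon N hN h1)⟩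
    have he := even_of_fit h hF
    obtain ⟨Q, hPQ⟩ := exists_ne h he hF P
    have hm := one_lt_mm h he hF P
    have hH := hyp h he hPQ
    have hTI := ti h he
    -- the normal subgroup
    haveI hNn : Nontrivial N := (Subgroup.nontrivial_iff_ne_bot _).2 hN1
    have hNT := h.sub N
    have hNF := fit_of_normal h hF hN
    have heN := even_of_fit hNT hNF
    have hcN : Nat.card N ≤ n := by
      have := H11.Cores.card_lt_of_lt_top (lt_top_iff_ne_top.2 hN2)
      omega
    obtain ⟨P₁⟩ : Nonempty (Sylow 2 N) := inferInstance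
    obtain ⟨Q₁, hPQ₁⟩ := exists_ne hNT heN hNF P₁
    have hm₁ := one_lt_mm hNT heN hNF P₁
    have hH₁ := hyp hNT heN hPQ₁
    obtain ⟨hA, hB⟩ := ca_hyp hNT heN (ih N hcN hNT hNF hNn) hH₁
    have hc1 := H19.CA1.card_CC hA heN hB hPQ₁ hm₁
    have hc2 := H19.CA1.card_omega hA heN hB hPQ₁ hm₁
    have hc3 := H19.TI1.card_inv hH₁ heN (ti hNT heN) P₁
    have hc4 := H19.TI1.card_inv hH he hTI P
    have hc5 := H19.TI1.card_omega hH he hTI hPQ hm
    have hc6 : Nat.card {t : G // orderOf t = 2} ≤ Nat.card {t : N // orderOf t = 2} := by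
      obtain ⟨t₀, ht₀⟩ := exists_prime_orderOf_dvd_card' (G := N) 2 heN.two_dvd
      have hin : ∀ t : G, orderOf t = 2 → t ∈ N := by
        intro t ht
        obtain ⟨g, hg⟩ := isConj_iff.1 (H4.SE.isConj_invol (stronglyEmbedded' h he hPQ)
          (show orderOf (t₀ : G) = 2 by rw [Subgroup.orderOf_coe]; exact ht₀) ht)
        rw [← hg]; exact hN.conj_mem _ t₀.2 g
      refine Nat.card_le_card_of_injective (fun t => ⟨⟨t.1, hin t.1 t.2⟩, ?_⟩) ?_
      · rw [← Subgroup.orderOf_coe]; exact t.2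
      · intro s t hst
        exact Subtype.ext (congrArg (fun x : {t : N // orderOf t = 2} => (x.1 : G)) hst)
    have hc7 : H19.TI1.mm P₁ ≤ H19.TI1.mm P := by
      have h1 : IsPGroup 2 ((P₁ : Subgroup N).map N.subtype) := P₁.isPGroup'.map _
      obtain ⟨R, hR⟩ := h1.exists_le_sylow
      rw [H19.TI1.mm_eq P R]
      refine Nat.card_le_card_of_injective (fun t : {t : N // orderOf t = 2 ∧ t ∈ (P₁ : Subgroup N)} =>
        (⟨t.1, ?_, ?_⟩ : {t : G // orderOf t = 2 ∧ t ∈ (R : Subgroup G)})) ?_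
      · rw [Subgroup.orderOf_coe]; exact t.2.1
      · exact hR ⟨t.1, t.2.2, rfl⟩
      · intro s t hst
        exact Subtype.ext (Subtype.ext (congrArg (fun x : {t : G // orderOf t = 2 ∧ t ∈ (R : Subgroup G)} => (x.1 : G)) hst))
    obtain ⟨hc8, hc9⟩ := mm_le hH he P
    have hc10 : H19.CA1.mm P₁ = H19.TI1.mm P₁ := rfl
    rw [hc10] at hc1
    rw [hc2, hc1] at hc3
    rw [hc5] at hc4
    rw [hc3, hc4] at hc6
    have hc11 : (H19.TI1.mm P₁ + 1 + 1) * H19.TI1.mm P₁ ≤ (H19.TI1.mm P + 1 + 1) * H19.TI1.mm P :=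
      Nat.mul_le_mul (by omega) hc7
    have hc12 : Nat.card (H19.TI1.CC P) + 1 ≤ H19.TI1.mm P + 1 + 1 :=
      Nat.le_of_mul_le_mul_right (hc6.trans hc11) (by omega)
    have hc13 := hc9 (by omega)
    intro a ha b hb
    rcases hc13 a ha with rfl | ⟨ha2, haP⟩
    · rw [one_mul, mul_one]
    · exact H19.TI1.mem_CC.1 hb a ha2 haP

theorem psl_of_fit {G : Type u} [Group G] [Finite G] (h : TC G) (hF : fittingSubgroup G = ⊥) [hn : Nontrivial G] :
    ∃ n : ℕ, 2 ≤ n ∧ Nonempty (G ≃* Matrix.ProjectiveSpecialLinearGroup (Fin 2) (GaloisField 2 n)) := by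
  classical
  haveI : Fact (Nat.Prime 2) := ⟨Nat.prime_two⟩
  obtain ⟨P⟩ : Nonempty (Sylow 2 G) := inferInstance
  have he := even_of_fit h hF
  obtain ⟨Q, hPQ⟩ := exists_ne h he hF P
  have hm := one_lt_mm h he hF P
  have hH := hyp h he hPQ
  obtain ⟨hA, hB⟩ := ca_hyp h he (main_comm _ G le_rfl h hF hn) hH
  have hnc : ¬ IsCyclic (P : Subgroup G) := by
    intro hcyc
    obtain ⟨⟨s, hs, hsP⟩, ⟨t, ht, htP⟩, hst'⟩ := (Finite.one_lt_card_iff_nontrivial.1 hm : Nontrivial {t : G // orderOf t = 2 ∧ t ∈ (P : Subgroup G)})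
    have := cyclic_unique_involution hcyc (a := ⟨s, hsP⟩) (b := ⟨t, htP⟩) (by rw [← Subgroup.orderOf_coe]; exact hs)
      (by rw [← Subgroup.orderOf_coe]; exact ht)
    have h0 : s = t := congrArg Subtype.val this
    exact hst' (Subtype.ext h0)
  obtain ⟨F, i1, i2, hcF, ⟨e⟩⟩ := S1230.result P hnc (by
    intro hnorm
    haveI := Sylow.unique_of_normal P hnorm
    exact hPQ (Subsingleton.elim _ _)) (by
    intro t ht
    refine ⟨⟨⟨fun a b => Subtype.ext (hA t ht a b (Subgroup.mem_centralizer_singleton_iff.1 a.2)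
      (Subgroup.mem_centralizer_singleton_iff.1 b.2))⟩⟩, fun c hc => ?_⟩
    obtain ⟨R, htR⟩ := H19.TI1.exists_sylow_mem ht
    obtain ⟨R', hRR⟩ := exists_ne h he hF R
    exact H19.CA1.CC_invol hA he hB hRR (one_lt_mm h he hF R) ((H19.CA1.cent_iff hA ht htR).1
      (Subgroup.mem_centralizer_singleton_iff.1 hc)))
  obtain ⟨n, hn2⟩ := IsPGroup.iff_card.1 P.isPGroup'
  have hn2' : Nat.card (P : Subgroup G) = 2 ^ n := hn2
  have h2n : 2 ≤ n := by
    by_contra hlt
    push Not at hlt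
    apply hnc
    interval_cases n
    · haveI : Subsingleton (P : Subgroup G) := (Nat.card_eq_one_iff_unique.1 (by rw [hn2', pow_zero])).1
      infer_instance
    · exact isCyclic_of_prime_card (p := 2) (by rw [hn2', pow_one])
  refine ⟨n, h2n, ?_⟩
  have h1 : Nat.card F = Nat.card (GaloisField 2 n) := by
    rw [GaloisField.card 2 n (by omega), Nat.card_eq_fintype_card, hcF]
    exact hn2
  haveI : Fintype (GaloisField 2 n) := Fintype.ofFinite _
  rw [Nat.card_eq_fintype_card, Nat.card_eq_fintype_card] at h1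
  obtain ⟨e2⟩ := Cfsg.Agent.H9.FieldCongr.psl (n := 2) (FiniteField.ringEquivOfCardEq h1)
  exact ⟨e.trans e2⟩

end Cfsg.Agent.H19.TIC
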