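import Mathlib
import Cfsg.Prelude.Def_OddOrderLocal
import Cfsg.Agent.H19_TP3

set_option autoImplicit false

/-!
A non-simplicity criterion.
-/

namespace Cfsg.Agent.H19.TP3

open Cfsg Cfsg.Agent.H4.Inv Cfsg.Agent.H4.Util Cfsg.Agent.H19.BW

variable {G : Type*} [Group G]

theorem arith1 {d k : ℕ} (h : (2 * d + 1) * (2 * d + 1 + 1) * (2 * d + 1 - 1) = (2 * k + 1) * (2 * k + 1 + 1) * (2 * k + 1 - 1)) : d = k := by
  rw [Nat.add_sub_cancel, Nat.add_sub_cancel] at h
  rcases lt_trichotomy d k with h1 | h1 | h1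
  · exfalso
    have : (2 * d + 1) * (2 * d + 1 + 1) * (2 * d) < (2 * k + 1) * (2 * k + 1 + 1) * (2 * k) := by gcongr
    omega
  · exact h1
  · exfalso
    have : (2 * k + 1) * (2 * k + 1 + 1) * (2 * k) < (2 * d + 1) * (2 * d + 1 + 1) * (2 * d) := by gcongr
    omega

theorem not_simple [Finite G] (hs : IsSimpleGroup G) (P : Sylow 3 G) (hab : ∀ a ∈ (P : Subgroup G), ∀ b ∈ (P : Subgroup G), a * b = b * a)
    (hN : Nat.card (Subgroup.normalizer ((P : Subgroup G) : Set G)) = 4 * Nat.card P)
    (hC : Nat.card (Subgroup.centralizer (P : Set G)) = 2 * Nat.card P)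
    (hTI : Cfsg.IsTISubset (Subgroup.centralizer (P : Set G) : Set G))
    (heven : ∀ H : Subgroup G, H ≠ ⊤ → 2 ∣ Nat.card H → Nat.card H ∣ 4 * Nat.card P) : False := by
  classical
  haveI : Fact (Nat.Prime 3) := ⟨Nat.prime_three⟩
  haveI : Fact (Nat.Prime 2) := ⟨Nat.prime_two⟩
  set n := Nat.card P with hn
  have hn0 : 0 < n := Nat.card_pos
  set K : Subgroup G := Subgroup.centralizer (P : Set G) with hK
  have hmK : ∀ x : G, x ∈ K ↔ ∀ y ∈ (P : Subgroup G), y * x = x * y := fun x => Subgroup.mem_centralizer_iff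
  have hCN : K ≤ Subgroup.normalizer ((P : Subgroup G) : Set G) := Subgroup.centralizer_le_normalizer _
  have hPK : (P : Subgroup G) ≤ K := fun x hx => (hmK x).2 (fun y hy => hab y hy x hx)
  -- nonabelian
  have hG : ∃ a b : G, a * b ≠ b * a := by
    by_contra hcon
    push Not at hcon
    have h1 : K = ⊤ := by
      rw [eq_top_iff]; intro x _; exact (hmK x).2 (fun y _ => hcon y x)
    have h2 : Subgroup.normalizer ((P : Subgroup G) : Set G) = ⊤ := by rw [eq_top_iff, ← h1]; exact hCN
    rw [h2] at hN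
    rw [h1] at hC
    omega
  have hz : ∀ x : G, x ≠ 1 → Subgroup.centralizer ({x} : Set G) ≠ ⊤ := by
    intro x hx h
    obtain ⟨a, b, hne⟩ := hG
    have h1 : x ∈ Subgroup.center G := by
      rw [Subgroup.mem_center_iff]
      intro g
      have : g ∈ Subgroup.centralizer ({x} : Set G) := by rw [h]; trivial
      exact mem_C.1 this
    rcases hs.eq_bot_or_eq_top_of_normal (Subgroup.center G) inferInstance with h2 | h2
    · rw [h2] at h1; exact hx h1
    · apply hne
      have h3 : b ∈ Subgroup.center G := by rw [h2]; trivial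
      exact Subgroup.mem_center_iff.1 h3 a
  -- odd order of P
  obtain ⟨e, he⟩ := (IsPGroup.iff_card.1 P.isPGroup')
  have hn3 : n = 3 ^ e := he
  have hnodd : Odd n := by rw [hn3]; exact Odd.pow (by decide)
  have hodd : ∀ x ∈ (P : Subgroup G), x * x = 1 → x = 1 := by
    intro x hx hxx
    have h1 : orderOf x ∣ 2 := orderOf_dvd_of_pow_eq_one (by rw [pow_two]; exact hxx)
    have h2 : orderOf x ∣ n := Subgroup.orderOf_dvd_natCard _ hx
    rcases (Nat.dvd_prime Nat.prime_two).1 h1 with h3 | h3
    · exact orderOf_eq_one_iff.1 h3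
    · rw [h3] at h2
      rw [← Nat.not_even_iff_odd, even_iff_two_dvd] at hnodd
      exact absurd h2 hnodd
  -- the involution
  obtain ⟨t', ht'⟩ := exists_prime_orderOf_dvd_card' (G := K) 2 (by rw [hC]; exact dvd_mul_right _ _)
  set t : G := (t' : G) with htdef
  have ht : orderOf t = 2 := by rw [htdef, Subgroup.orderOf_coe]; exact ht'
  have htK : t ∈ K := t'.2
  have htt := sq_of ht
  have ht1 : t ≠ 1 := by intro h; rw [h, orderOf_one] at ht; omega
  have htP : t ∉ (P : Subgroup G) := fun h => ht1 (hodd t h htt)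
  have htinv : t⁻¹ = t := inv_eq_of_mul_eq_one_left htt
  have hidx : ((P : Subgroup G).subgroupOf K).index = 2 := by
    have h1 := ((P : Subgroup G).subgroupOf K).card_mul_index
    rw [Nat.card_congr (Subgroup.subgroupOfEquivOfLe hPK).toEquiv] at h1
    have h2 : Nat.card (P : Subgroup G) = n := rfl
    rw [h2, hC] at h1
    exact Nat.eq_of_mul_eq_mul_left hn0 (by rw [h1]; ring)
  have hPt : ∀ x ∈ K, x ∈ (P : Subgroup G) ∨ t * x ∈ (P : Subgroup G) := by
    intro x hx
    by_cases h : x ∈ (P : Subgroup G)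
    · exact Or.inl h
    · right
      have h1 := Subgroup.mul_mem_iff_of_index_two hidx (a := ⟨t, htK⟩) (b := ⟨x, hx⟩)
      rw [Subgroup.mem_subgroupOf, Subgroup.mem_subgroupOf, Subgroup.mem_subgroupOf] at h1
      exact h1.2 ⟨fun h2 => absurd h2 htP, fun h2 => absurd h2 h⟩
  have htc : ∀ x ∈ K, t * x = x * t := by
    intro x hx
    rcases hPt x hx with h | h
    · exact ((hmK t).1 htK x h).symm
    · have h1 := (hmK t).1 htK _ h
      have h2 : t * (t * x) = t * x * t := h1.symm
      have h3 : t * (t * x) = t * (x * t) := by rw [h2, mul_assoc]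
      exact mul_left_cancel h3
  have hKab : ∀ a ∈ K, ∀ b ∈ K, a * b = b * a := by
    intro a ha b hb
    rcases hPt a ha with h | h
    · exact (hmK b).1 hb a h
    · have h1 := (hmK b).1 hb _ h
      have h2 : t * (a * b) = t * (b * a) := by
        calc t * (a * b) = t * a * b := by group
          _ = b * (t * a) := h1
          _ = (b * t) * a := by group
          _ = t * (b * a) := by rw [← htc b hb]; group
      exact mul_left_cancel h2
  have huniq : ∀ x ∈ K, x * x = 1 → x = 1 ∨ x = t := by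
    intro x hx hxx
    rcases hPt x hx with h | h
    · left; exact hodd x h hxx
    · right
      have h1 : t * x = 1 := by
        apply hodd _ h
        calc t * x * (t * x) = t * (x * t) * x := by group
          _ = (t * t) * (x * x) := by rw [← htc x hx]; group
          _ = 1 := by rw [htt, hxx, mul_one]
      have h2 := eq_inv_of_mul_eq_one_right h1
      rw [h2, htinv]
  -- the centralizer of t
  have hNC : Subgroup.normalizer ((P : Subgroup G) : Set G) ≤ Subgroup.centralizer ({t} : Set G) := by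
    intro g hg
    have h1 : g * t * g⁻¹ ∈ K := by
      rw [hmK]
      intro y hy
      have h2 : g⁻¹ * y * g ∈ (P : Subgroup G) := by
        have := (Subgroup.mem_normalizer_iff.1 (inv_mem hg) y).1 hy
        rwa [inv_inv] at this
      have h3 := (hmK t).1 htK _ h2
      calc y * (g * t * g⁻¹) = g * ((g⁻¹ * y * g) * t) * g⁻¹ := by group
        _ = g * (t * (g⁻¹ * y * g)) * g⁻¹ := by rw [h3]
        _ = _ := by group
    have h2 : (g * t * g⁻¹) * (g * t * g⁻¹) = 1 := by
      calc (g * t * g⁻¹) * (g * t * g⁻¹) = g * (t * t) * g⁻¹ := by group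
        _ = 1 := by rw [htt]; group
    rcases huniq _ h1 h2 with h3 | h3
    · exact absurd h3 (cj_ne ht1)
    · exact mem_C.2 (mul_inv_eq_iff_eq_mul.1 h3)
  have hCt : Subgroup.normalizer ((P : Subgroup G) : Set G) = Subgroup.centralizer ({t} : Set G) := by
    apply Subgroup.eq_of_le_of_card_ge hNC
    rw [hN]
    apply Nat.le_of_dvd (by positivity)
    apply heven _ (hz t ht1)
    have h1 : orderOf t ∣ Nat.card (Subgroup.centralizer ({t} : Set G)) := Subgroup.orderOf_dvd_natCard _ (mem_C.2 (Commute.refl t))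
    rw [ht] at h1; exact h1
  -- Sylow 2-subgroup
  have hzt : IsPGroup 2 (Subgroup.zpowers t) := zpowers_isPGroup (k := 1) (by rw [ht, pow_one])
  obtain ⟨S, hSt⟩ := hzt.exists_le_sylow
  have htS : t ∈ (S : Subgroup G) := hSt (Subgroup.mem_zpowers t)
  have h3G : n ≠ 1 := by
    intro h1
    have h2 : (P : Subgroup G) = ⊥ := Subgroup.card_eq_one.1 h1
    have h3 : K = ⊤ := by
      rw [eq_top_iff]
      intro x _
      rw [hmK]
      intro y hy
      rw [h2, Subgroup.mem_bot] at hy
      rw [hy, one_mul, mul_one]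
    have h4 : Subgroup.normalizer ((P : Subgroup G) : Set G) = ⊤ := by rw [eq_top_iff, ← h3]; exact hCN
    rw [h4] at hN
    rw [h3] at hC
    omega
  have h3n : 3 ∣ n := by
    rw [hn3]
    apply dvd_pow_self
    rintro rfl
    exact h3G (by rw [hn3, pow_zero])
  have hnG : n ∣ Nat.card G := Subgroup.card_subgroup_dvd_card (P : Subgroup G)
  obtain ⟨f, hf⟩ := (IsPGroup.iff_card.1 S.isPGroup')
  have hSne : (S : Subgroup G) ≠ ⊤ := by
    intro h
    have h1 : Nat.card (S : Subgroup G) = 2 ^ f := hf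
    rw [h, Subgroup.card_top] at h1
    have h2 : 3 ∣ 2 ^ f := by rw [← h1]; exact h3n.trans hnG
    have := Nat.Prime.dvd_of_dvd_pow Nat.prime_three h2
    omega
  have hS4 : Nat.card S = 4 := by
    have h1 : Nat.card (S : Subgroup G) = 2 ^ f := hf
    have h2S : 2 ∣ Nat.card (S : Subgroup G) := by
      have h2 : orderOf t ∣ Nat.card (S : Subgroup G) := Subgroup.orderOf_dvd_natCard _ htS
      rwa [ht] at h2
    have h2 := heven _ hSne h2S
    have h3 : Nat.card (S : Subgroup G) ∣ 4 := by
      apply Nat.Coprime.dvd_of_dvd_mul_right _ h2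
      rw [h1]
      exact Nat.Coprime.pow_left _ (Nat.coprime_two_left.2 hnodd)
    have h4 : 4 ∣ Nat.card (S : Subgroup G) := by
      have h5 : 2 ^ 2 ∣ Nat.card G := by
        have : 4 * n ∣ Nat.card G := by rw [← hN]; exact Subgroup.card_subgroup_dvd_card _
        exact (dvd_mul_right 4 n).trans this
      have := S.pow_dvd_card_of_pow_dvd_card h5
      exact this
    exact Nat.dvd_antisymm h3 h4
  have hSab : ∀ a ∈ (S : Subgroup G), ∀ b ∈ (S : Subgroup G), a * b = b * a := by
    haveI : IsMulCommutative (S : Subgroup G) := IsPGroup.isMulCommutative_of_card_eq_prime_sq (p := 2) (by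
      have : Nat.card (S : Subgroup G) = 4 := hS4
      rw [this]; norm_num)
    intro a ha b hb
    exact congrArg Subtype.val (this.is_comm.comm ⟨a, ha⟩ ⟨b, hb⟩)
  have hSinv : ∀ y ∈ (S : Subgroup G), y ≠ 1 → orderOf y = 2 := by
    intro y hy hy1
    obtain ⟨g, hg⟩ := isConj_iff.1 (fusion_four hG S hS4 htS hy ht1 hy1)
    rw [← hg, orderOf_conj]; exact ht
  have hconj : ∀ x y : G, orderOf x = 2 → orderOf y = 2 → IsConj x y := by
    have h1 : ∀ x : G, orderOf x = 2 → IsConj x t := by
      intro x hx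
      obtain ⟨a, ha⟩ := exists_conj_le S (Subgroup.zpowers x) (zpowers_isPGroup (k := 1) (by rw [hx, pow_one]))
      have h2 := ha x (Subgroup.mem_zpowers x)
      have h3 : x ≠ 1 := by intro h; rw [h, orderOf_one] at hx; omega
      exact (isConj_iff.2 ⟨a, rfl⟩).trans (fusion_four hG S hS4 h2 htS (cj_ne h3) ht1)
    intro x y hx hy
    exact (h1 x hx).trans (h1 y hy).symm
  obtain ⟨s, hsS, hst⟩ : ∃ s ∈ (S : Subgroup G), s ∉ Subgroup.zpowers t := by
    by_contra hcon
    push Not at hcon
    have h1 : Nat.card (S : Subgroup G) ∣ Nat.card (Subgroup.zpowers t) := Subgroup.card_dvd_of_le hcon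
    have h2 : Nat.card (S : Subgroup G) = 4 := hS4
    rw [h2, Nat.card_zpowers, ht] at h1
    revert h1; decide
  have hs1 : s ≠ 1 := by rintro rfl; exact hst (one_mem _)
  have hso : orderOf s = 2 := hSinv s hsS hs1
  have hss := sq_of hso
  have hsinv : s⁻¹ = s := inv_eq_of_mul_eq_one_left hss
  have hsC : s ∈ Subgroup.centralizer ({t} : Set G) := mem_C.2 (hSab s hsS t htS)
  have hsK : s ∉ K := by
    intro h
    rcases huniq s h hss with h1 | h1
    · exact hs1 h1
    · exact hst (by rw [h1]; exact Subgroup.mem_zpowers t)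
  have hKC : K ≤ Subgroup.centralizer ({t} : Set G) := by rw [← hCt]; exact hCN
  have hidx2 : (K.subgroupOf (Subgroup.centralizer ({t} : Set G))).index = 2 := by
    have h1 := (K.subgroupOf (Subgroup.centralizer ({t} : Set G))).card_mul_index
    have h1' : Nat.card (Subgroup.centralizer ({t} : Set G)) = 4 * n := by rw [← hCt]; exact hN
    rw [Nat.card_congr (Subgroup.subgroupOfEquivOfLe hKC).toEquiv, h1', hC] at h1
    have h2 : 0 < 2 * n := by omega
    exact Nat.eq_of_mul_eq_mul_left h2 (by rw [h1]; ring)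
  have hcen : ∀ g : G, Commute g t ↔ g ∈ K ∨ g * s ∈ K := by
    intro g
    constructor
    · intro hg
      by_cases h : g ∈ K
      · exact Or.inl h
      · right
        have h1 := Subgroup.mul_mem_iff_of_index_two hidx2 (a := ⟨g, mem_C.2 hg⟩) (b := ⟨s, hsC⟩)
        rw [Subgroup.mem_subgroupOf, Subgroup.mem_subgroupOf, Subgroup.mem_subgroupOf] at h1
        exact h1.2 ⟨fun h2 => absurd h2 h, fun h2 => absurd h2 hsK⟩
    · rintro (h | h)
      · exact mem_C.1 (hKC h)
      · have : g = (g * s) * s⁻¹ := by group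
        rw [this]
        exact mem_C.1 (mul_mem (hKC h) (inv_mem hsC))
  -- s inverts P
  have hsP : ∀ y ∈ (P : Subgroup G), s * y * s⁻¹ = y⁻¹ := by
    intro y hy
    have hsN : s ∈ Subgroup.normalizer ((P : Subgroup G) : Set G) := by rw [hCt]; exact hsC
    have h1 : s * y * s⁻¹ ∈ (P : Subgroup G) := (Subgroup.mem_normalizer_iff.1 hsN y).1 hy
    have h2 : y * (s * y * s⁻¹) = 1 := by
      apply center_norm hG P hab (mul_mem hy h1)
      intro m hm
      rw [hCt, mem_C, hcen] at hm
      have hKz : ∀ x ∈ K, x * (y * (s * y * s⁻¹)) = y * (s * y * s⁻¹) * x := fun x hx => ((hmK x).1 hx _ (mul_mem hy h1)).symm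
      have hsz : s * (y * (s * y * s⁻¹)) = y * (s * y * s⁻¹) * s := by
        have e1 : s * (y * (s * y * s⁻¹)) = (s * y * s⁻¹) * ((s * s) * y * s⁻¹ * s⁻¹) * s := by group
        rw [e1, hss]
        have e2 : (1 : G) * y * s⁻¹ * s⁻¹ = y := by
          calc (1 : G) * y * s⁻¹ * s⁻¹ = y * (s * s)⁻¹ := by group
            _ = y := by rw [hss]; group
        rw [e2, hab _ h1 y hy]
      rcases hm with h | h
      · exact hKz m h
      · have e : m = (m * s) * s := by rw [mul_assoc, hss, mul_one]
        rw [e]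
        calc m * s * s * (y * (s * y * s⁻¹)) = (m * s) * (s * (y * (s * y * s⁻¹))) := by group
          _ = ((m * s) * (y * (s * y * s⁻¹))) * s := by rw [hsz]; group
          _ = _ := by rw [hKz _ h]; group
    exact eq_inv_of_mul_eq_one_right h2
  have hinv : ∀ x ∈ K, s * x * s⁻¹ = x⁻¹ := by
    intro x hx
    rcases hPt x hx with h | h
    · exact hsP x h
    · have h1 := hsP _ h
      have h2 : s * t * s⁻¹ = t := mul_inv_eq_iff_eq_mul.2 (mem_C.1 hsC)
      have h3 : s * x * s⁻¹ = t * (s * (t * x) * s⁻¹) := by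
        calc s * x * s⁻¹ = s * (t * t) * x * s⁻¹ := by rw [htt, mul_one]
          _ = (s * t * s⁻¹) * (s * (t * x) * s⁻¹) := by group
          _ = _ := by rw [h2]
      rw [h3, h1, mul_inv_rev, htinv, ← mul_assoc, htc _ (inv_mem hx), mul_assoc, htt, mul_one]
  -- the configuration
  have hnorm : Subgroup.normalizer (K : Set G) = Subgroup.centralizer ({t} : Set G) := by
    apply le_antisymm
    · intro g hg
      have h1 : g * t * g⁻¹ ∈ K := (Subgroup.mem_normalizer_iff.1 hg t).1 htK
      have h2 : (g * t * g⁻¹) * (g * t * g⁻¹) = 1 := by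
        calc (g * t * g⁻¹) * (g * t * g⁻¹) = g * (t * t) * g⁻¹ := by group
          _ = 1 := by rw [htt]; group
      rcases huniq _ h1 h2 with h3 | h3
      · exact absurd h3 (cj_ne ht1)
      · exact mem_C.2 (mul_inv_eq_iff_eq_mul.1 h3)
    · intro g hg
      apply mem_normalizer_of_forall
      intro x hx
      rcases (hcen g).1 (mem_C.1 hg) with h | h
      · rw [hKab g h x hx, mul_inv_cancel_right]; exact hx
      · have e : g * x * g⁻¹ = (g * s) * (s * x * s⁻¹) * (g * s)⁻¹ := by
          rw [mul_inv_rev, hsinv]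
          calc g * x * g⁻¹ = g * 1 * x * 1 * g⁻¹ := by group
            _ = g * (s * s) * x * (s * s) * g⁻¹ := by rw [hss]
            _ = _ := by group
        rw [e, hinv x hx]
        exact mul_mem (mul_mem h (inv_mem hx)) (inv_mem h)
  have B : BSW K t s := by
    refine ⟨ht, hso, hKab, htK, hsK, hcen, hinv, huniq, ?_, fun y hy => hconj t y ht hy⟩
    intro g x hx hx1 hgx
    by_contra hg
    apply hx1
    apply hTI g _ x hx hgx
    rw [hnorm, mem_C]; exact hg
  have hk : 2 < Nat.card K := by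
    have := Nat.le_of_dvd hn0 h3n
    omega
  obtain ⟨Q, D, h1, h2, h3, h4, h5, h6, h7⟩ := bsw B
  have hnn : ∀ H : Subgroup G, H ≠ ⊥ → H ≠ ⊤ → Subgroup.normalizer (H : Set G) ≠ ⊤ := by
    intro H hb ht' hnt
    have h8 : H.Normal := Subgroup.normalizer_eq_top_iff.1 hnt
    rcases hs.eq_bot_or_eq_top_of_normal _ h8 with h9 | h9
    · exact hb h9
    · exact ht' h9
  haveI := Fintype.ofFinite G
  haveI : Fintype K := Fintype.ofFinite K
  haveI : Fintype (IrrCharacter G) := Fintype.ofFinite _
  have hD0 : 0 < Nat.card D := Nat.card_pos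
  rcases numbers B hk with ⟨hcG, -, -⟩ | ⟨hcG, -, -⟩
  · -- q = 2k+1
    have hd : Nat.card D = Nat.card K := by
      apply arith1
      rw [h4, ← h1, hcG, Nat.add_sub_cancel]; ring
    have hDne : D ≠ ⊥ := by
      rintro h; rw [h, Subgroup.card_bot] at hd; omega
    have hQne : Q ≠ ⊥ := by
      rintro h; rw [h, Subgroup.card_bot] at h4; omega
    have hQt : Q ≠ ⊤ := by
      intro h
      rw [h, top_inf_eq] at h5
      exact hDne h5
    have hNe : 2 ∣ Nat.card (Subgroup.normalizer (Q : Set G)) := by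
      have h8 : Nat.card D ∣ Nat.card (Subgroup.normalizer (Q : Set G)) := by
        rw [h6]; exact Subgroup.card_dvd_of_le le_sup_right
      rw [hd] at h8
      exact B.even_card.trans h8
    have h8 := heven _ (hnn Q hQne hQt) hNe
    have h9 : Nat.card Q ∣ 4 * n := (Subgroup.card_dvd_of_le Subgroup.le_normalizer).trans h8
    have h10 : Nat.card Q = 4 * n + 1 := by rw [← h4, hd, hC]; ring
    rw [h10] at h9
    have := Nat.le_of_dvd (by omega) h9
    omega
  · -- q = 2k-1
    have hd : Nat.card D = Nat.card K - 1 := by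
      apply arith1
      rw [h4, ← h1, hcG]
      obtain ⟨m, hm⟩ : ∃ m, Nat.card K = m + 1 := ⟨Nat.card K - 1, by omega⟩
      rw [hm]
      have e1 : 2 * (m + 1) - 1 = 2 * m + 1 := by omega
      have e2 : 2 * (m + 1) - 2 = 2 * m := by omega
      rw [e1, e2, Nat.add_sub_cancel, Nat.add_sub_cancel]; ring
    have hDne : D ≠ ⊥ := by
      rintro h; rw [h, Subgroup.card_bot] at hd; omega
    have hDt : D ≠ ⊤ := by
      intro h
      rw [h, inf_top_eq] at h5
      rw [h5, Subgroup.card_bot] at h4; omega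
    obtain ⟨-, u, hu, -, -, hND⟩ := h7 D le_rfl hDne
    have hNe : 2 ∣ Nat.card (Subgroup.normalizer (D : Set G)) := by
      have h8 : orderOf u ∣ Nat.card (Subgroup.normalizer (D : Set G)) := by
        apply Subgroup.orderOf_dvd_natCard
        rw [hND]; exact Subgroup.mem_sup_right (Subgroup.mem_zpowers u)
      rwa [hu] at h8
    have h8 := heven _ (hnn D hDne hDt) hNe
    have h9 : Nat.card D ∣ 4 * n := (Subgroup.card_dvd_of_le Subgroup.le_normalizer).trans h8
    rw [hd, hC] at h9
    -- 2n - 1 ∣ 4n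
    have h10 : 2 * n - 1 ∣ 4 * n - 2 * (2 * n - 1) := Nat.dvd_sub h9 (dvd_mul_left _ _)
    have h11 : 4 * n - 2 * (2 * n - 1) = 2 := by omega
    rw [h11] at h10
    have := Nat.le_of_dvd (by norm_num) h10
    have h12 := Nat.le_of_dvd hn0 h3n
    omega

end Cfsg.Agent.H19.TP3
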