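import Mathlib
import Cfsg.Agent.H19_U3c

/-! The automorphism group of a Sylow `2`-subgroup of `SU(3, 2ⁿ)` (helper19). -/

set_option autoImplicit false
set_option linter.unusedSectionVars false

namespace Cfsg.Agent.H19.U3

open Cfsg.Agent.H5

theorem card_ringAut {F : Type*} [Field F] [Fintype F] {f : ℕ} (h2 : (2 : F) = 0) (hF : Fintype.card F = 2 ^ f) :
    Nat.card (F ≃+* F) = f := by
  haveI : Fact (Nat.Prime 2) := ⟨Nat.prime_two⟩
  haveI : CharP F 2 := CharTwo.of_one_ne_zero_of_two_eq_zero one_ne_zero h2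
  letI : Algebra (ZMod 2) F := ZMod.algebra F 2
  have h1 : Nat.card (F ≃ₐ[ZMod 2] F) = Module.finrank (ZMod 2) F := by
    have : IsGalois (ZMod 2) F := inferInstance
    exact IsGalois.card_aut_eq_finrank (ZMod 2) F
  have h2 : Module.finrank (ZMod 2) F = f := by
    have h3 : Fintype.card F = Fintype.card (ZMod 2) ^ Module.finrank (ZMod 2) F := Module.card_eq_pow_finrank
    rw [hF, ZMod.card] at h3
    exact (Nat.pow_right_injective (le_refl 2) h3).symm
  rw [← h2, ← h1]
  refine Nat.card_congr ⟨fun σ => AlgEquiv.ofRingEquiv (f := σ) (fun x => ?_), fun σ => σ.toRingEquiv, fun σ => rfl, fun σ => rfl⟩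
  have : (σ : F →+* F).comp (algebraMap (ZMod 2) F) = algebraMap (ZMod 2) F := Subsingleton.elim _ _
  exact congrArg (fun f : ZMod 2 →+* F => f x) this

/-- a surjective map with kernel of odd order identifies Sylow `2`-subgroups -/
theorem sylow_equiv_of_surj {G H : Type*} [Group G] [Group H] [Finite G] (f : G →* H) (hf : Function.Surjective f)
    (hk : Odd (Nat.card f.ker)) (Q : Sylow 2 H) : ∃ P : Sylow 2 G, Nonempty (Q ≃* P) := by
  haveI : Fact (Nat.Prime 2) := ⟨Nat.prime_two⟩
  haveI : Finite H := Finite.of_surjective f hf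
  obtain ⟨P⟩ : Nonempty (Sylow 2 G) := inferInstance
  let R := P.mapSurjective hf
  have hR : (R : Subgroup H) = (P : Subgroup G).map f := rfl
  let g : P →* R :=
    { toFun := fun x => ⟨f x, by
        show f x ∈ (R : Subgroup H)
        rw [hR]
        exact ⟨x, x.2, rfl⟩⟩
      map_one' := Subtype.ext (map_one f)
      map_mul' := fun x y => Subtype.ext (map_mul f _ _) }
  have hg : Function.Bijective g := by
    constructor
    · rw [injective_iff_map_eq_one]
      intro x hx
      have h1 : f x = 1 := Subtype.ext_iff.1 hx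
      have h3 : ((x : G) : G) ∈ f.ker := h1
      have h4 : orderOf (x : G) ∣ Nat.card f.ker := by
        have := orderOf_dvd_natCard (⟨x, h3⟩ : f.ker)
        rwa [← Subgroup.orderOf_coe] at this
      obtain ⟨k, hk'⟩ := IsPGroup.iff_orderOf.1 P.2 x
      rw [← Subgroup.orderOf_coe] at hk'
      rw [hk'] at h4
      have h5 : k = 0 := by
        by_contra hne
        obtain ⟨m, rfl⟩ := Nat.exists_eq_succ_of_ne_zero hne
        have : 2 ∣ Nat.card f.ker := (Dvd.intro_left _ (pow_succ 2 m).symm).trans h4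
        rw [← Nat.not_even_iff_odd] at hk
        exact hk (even_iff_two_dvd.2 this)
      rw [h5, pow_zero, orderOf_eq_one_iff] at hk'
      exact Subtype.ext hk'
    · rintro ⟨y, hy⟩
      have hy' : y ∈ (R : Subgroup H) := hy
      rw [hR] at hy'
      obtain ⟨x, hx, rfl⟩ := hy'
      exact ⟨⟨x, hx⟩, Subtype.ext rfl⟩
  exact ⟨P, ⟨(Sylow.equiv Q R).trans (MulEquiv.ofBijective g hg).symm⟩⟩

namespace Coord

variable {S : Type*} [Group S] {F : Type*} [Field F] [Fintype F] {q : ℕ} (c : Coord S F q)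

/-- the action on the first coordinate -/
theorem exists_act (hF : Fintype.card F = q ^ 2) (h2 : (2 : F) = 0) :
    ∃ f : MulAut S →* Equiv.Perm F, ∀ (φ : MulAut S) (x : S), c.a (φ x) = f φ (c.a x) := by
  have hex := c.exists_a hF h2
  choose s hs using hex
  have key : ∀ (φ : MulAut S) (x : S), c.a (φ x) = c.a (φ (s (c.a x))) := by
    intro φ x
    obtain ⟨k, τ, hk, hA, -⟩ := c.aut_structure hF h2 φ
    rw [hA, hA, hs]
  refine ⟨{ toFun := fun φ => ⟨fun v => c.a (φ (s v)), fun v => c.a (φ⁻¹ (s v)), fun v => ?_, fun v => ?_⟩, map_one' := ?_, map_mul' := ?_ }, ?_⟩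
  · show c.a (φ⁻¹ (s (c.a (φ (s v))))) = v
    rw [← key φ⁻¹, MulAut.inv_apply_self, hs]
  · show c.a (φ (s (c.a (φ⁻¹ (s v))))) = v
    rw [← key φ, MulAut.apply_inv_self, hs]
  · ext v
    exact hs v
  · intro φ ψ
    ext v
    show c.a (φ (ψ (s v))) = c.a (φ (s (c.a (ψ (s v)))))
    rw [← key]
  · intro φ x
    exact key φ x

/-- the automorphism `(a, b) ↦ (k τ a, k^(q+1) τ b)` -/
theorem exists_aut (hF : Fintype.card F = q ^ 2) (k : F) (hk : k ≠ 0) (τ : F ≃+* F) :
    ∃ φ : MulAut S, (∀ x, c.a (φ x) = k * τ (c.a x)) ∧ ∀ x, c.b (φ x) = k * k ^ q * τ (c.b x) := by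
  have hex : ∀ x : S, ∃ y : S, c.a y = k * τ (c.a x) ∧ c.b y = k * k ^ q * τ (c.b x) := by
    intro x
    apply c.surj
    have h1 := congrArg τ (c.cond x)
    rw [map_add, map_mul, map_pow, map_pow] at h1
    rw [mul_pow, mul_pow, mul_pow, q_q hF]
    linear_combination k * k ^ q * h1
  choose f hfa hfb using hex
  have hmul : ∀ x y, f (x * y) = f x * f y := by
    intro x y
    apply c.inj
    · rw [hfa, c.mul_a, c.mul_a, hfa, hfa, map_add]; ring
    · rw [hfb, c.mul_b, c.mul_b, hfb, hfb, hfa, hfa, map_add, map_add, map_mul, map_pow, mul_pow]; ring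
  have hkq : k ^ q ≠ 0 := pow_ne_zero _ hk
  have hbij : Function.Bijective f := by
    constructor
    · intro x y hxy
      have h1 := hfa x
      have h3 := hfb x
      rw [hxy, hfa] at h1
      rw [hxy, hfb] at h3
      apply c.inj
      · exact τ.injective (mul_left_cancel₀ hk h1.symm)
      · exact τ.injective (mul_left_cancel₀ (mul_ne_zero hk hkq) h3.symm)
    · intro y
      obtain ⟨x, hx1, hx2⟩ := c.surj (τ.symm (c.a y / k)) (τ.symm (c.b y / (k * k ^ q))) (by
        apply τ.injective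
        rw [map_add, map_mul, map_pow, map_pow, RingEquiv.apply_symm_apply, RingEquiv.apply_symm_apply]
        have h1 := c.cond y
        rw [div_pow, div_pow, mul_pow, q_q hF]
        field_simp
        linear_combination h1)
      refine ⟨x, c.inj _ _ ?_ ?_⟩
      · rw [hfa, hx1, RingEquiv.apply_symm_apply]; field_simp
      · rw [hfb, hx2, RingEquiv.apply_symm_apply]; field_simp
  let g : S →* S := MonoidHom.mk' f hmul
  exact ⟨MulEquiv.ofBijective g hbij, hfa, hfb⟩

/-- an automorphism that is trivial on the first coordinate fixes the centre -/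
theorem fix_of_a (hF : Fintype.card F = q ^ 2) (h2 : (2 : F) = 0) {φ : MulAut S} (h : ∀ x, c.a (φ x) = c.a x) :
    ∀ x, c.a x = 0 → φ x = x := by
  obtain ⟨k, τ, hk, hA, hB⟩ := c.aut_structure hF h2 φ
  have h1 : ∀ v : F, k * τ v = v := by
    intro v
    obtain ⟨x, rfl⟩ := c.exists_a hF h2 v
    rw [← hA, h]
  have hk1 : k = 1 := by have := h1 1; rwa [map_one, mul_one] at this
  intro x hx
  apply c.inj
  · exact h x
  · have h3 := h1 (c.b x)
    rw [hk1, one_mul] at h3
    rw [hB x hx, hk1, one_pow, one_mul, one_mul, h3]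

theorem sq_of_a (hF : Fintype.card F = q ^ 2) (h2 : (2 : F) = 0) {φ : MulAut S} (h : ∀ x, c.a (φ x) = c.a x) : φ * φ = 1 := by
  ext x
  show φ (φ x) = x
  have h1 : c.a (x⁻¹ * φ x) = 0 := by rw [c.mul_a, c.inv_a, h]; ring
  have h3 := c.fix_of_a hF h2 h _ h1
  have h4 : (x⁻¹ * φ x) * (x⁻¹ * φ x) = 1 := by
    apply c.inj
    · rw [c.mul_a, h1, c.one_a, add_zero]
    · rw [c.mul_b, h1, c.one_b hF, add_self h2, zero_mul, add_zero]
  have h5 : φ (φ x) = φ x * (x⁻¹ * φ x) := by
    conv_lhs => rw [show φ x = x * (x⁻¹ * φ x) by group]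
    rw [map_mul, h3]
  rw [h5]
  calc φ x * (x⁻¹ * φ x) = x * ((x⁻¹ * φ x) * (x⁻¹ * φ x)) := by group
    _ = x := by rw [h4, mul_one]

end Coord

end Cfsg.Agent.H19.U3
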