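import Cfsg.Agent.H19_MaxAb
import Cfsg.Agent.H2_Extra3

set_option autoImplicit false

/-! `p`-groups with an extraspecial maximal subgroup. -/

namespace Cfsg.Agent.H19.XspI

open Subgroup Cfsg
open Cfsg.Agent.H2 Cfsg.Agent.H2.Extra
open scoped commutatorElement

variable {S : Type*} [Group S] [Finite S] {p : ℕ} [hp : Fact p.Prime]

/-- upper bound for abelian subgroups -/
theorem card_le {E : Type*} [Group E] [Finite E] {n : ℕ} (hE : IsExtraspecial p E) (hcard : Nat.card E = p ^ (2 * n + 1)) (A : Subgroup E)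
    (hA : ∀ a ∈ A, ∀ b ∈ A, a * b = b * a) : Nat.card A ≤ p ^ (n + 1) := by
  have h1 := es_index_centralizer hE A
  have hAA : A ≤ centralizer (A : Set E) := by
    intro a ha
    rw [mem_centralizer_iff]
    intro b hb
    exact hA b hb a ha
  have h2 : Nat.card (center E ⊓ A : Subgroup E) * (center E).relIndex A = Nat.card A := by
    rw [← Subgroup.inf_relIndex_right, ← Subgroup.relIndex_bot_left, ← Subgroup.relIndex_bot_left A]
    exact Subgroup.relIndex_mul_relIndex _ _ _ bot_le inf_le_right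
  have h3 : Nat.card (centralizer (A : Set E)) * (centralizer (A : Set E)).index = Nat.card E :=
    Subgroup.card_mul_index _
  have h4 : Nat.card A ≤ Nat.card (centralizer (A : Set E)) := Subgroup.card_le_of_le hAA
  have h5 : Nat.card (center E ⊓ A : Subgroup E) ≤ p := by
    rw [← hE.2]
    exact Subgroup.card_le_of_le inf_le_left
  rw [h1, hcard] at h3
  by_contra hlt
  push Not at hlt
  have h6 : Nat.card A * Nat.card A ≤ p * p ^ (2 * n + 1) := by
    rw [← h3]
    calc Nat.card A * Nat.card A = Nat.card A * (Nat.card (center E ⊓ A : Subgroup E) * (center E).relIndex A) := by rw [h2]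
      _ ≤ Nat.card (centralizer (A : Set E)) * (p * (center E).relIndex A) :=
        Nat.mul_le_mul h4 (Nat.mul_le_mul_right _ h5)
      _ = _ := by ring
  have h7 : p ^ (n + 1) * p ^ (n + 1) < Nat.card A * Nat.card A := Nat.mul_lt_mul'' hlt hlt
  have h8 : p ^ (n + 1) * p ^ (n + 1) = p * p ^ (2 * n + 1) := by ring
  omega

/-- the centre of `Q` inside `S` -/
theorem center_le (hS : IsPGroup p S) (Q : Subgroup S) (hQ : IsExtraspecial p ↥Q) (hQi : Q.index = p) :
    (center ↥Q).map Q.subtype ≤ center S := by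
  haveI := PGroup.normal_of_index_p hS hQi
  apply Rank2.le_center_of_card_le hS inferInstance
  rw [← Nat.card_congr ((center ↥Q).equivMapOfInjective Q.subtype Q.subtype_injective).toEquiv, hQ.2]

theorem center_inf (hS : IsPGroup p S) (Q : Subgroup S) (hQ : IsExtraspecial p ↥Q) (hQi : Q.index = p) :
    center S ⊓ Q = (center ↥Q).map Q.subtype := by
  apply le_antisymm
  · rintro x ⟨hx, hxQ⟩
    refine ⟨⟨x, hxQ⟩, ?_, rfl⟩
    rw [SetLike.mem_coe, mem_center_iff]
    intro y
    exact Subtype.ext (mem_center_iff.1 hx y)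
  · exact le_inf (center_le hS Q hQ hQi) (map_subtype_le _)

theorem card_S (Q : Subgroup S) (hQ : IsExtraspecial p ↥Q) (hQi : Q.index = p) :
    ∃ n, 1 ≤ n ∧ Nat.card Q = p ^ (2 * n + 1) ∧ Nat.card S = p ^ (2 + 2 * n) := by
  obtain ⟨n, hn, hc, -⟩ := card_eq hQ
  refine ⟨n, hn, hc, ?_⟩
  rw [← Subgroup.card_mul_index Q, hQi, hc, ← pow_succ]
  congr 1
  omega

theorem main1 (hS : IsPGroup p S) (Q : Subgroup S) (hQ : IsExtraspecial p ↥Q) (hQi : Q.index = p) :
    center S = (center ↥Q).map Q.subtype ∨ (Q ⊔ center S = ⊤ ∧ Nat.card (center S) = p ^ 2) := by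
  have hinf := center_inf hS Q hQ hQi
  by_cases h : center S ≤ Q
  · left
    rw [← hinf, inf_eq_left.2 h]
  · right
    have hco := PGroup.isCoatom_of_index hQi
    have htop : Q ⊔ center S = ⊤ := by
      apply hco.2
      refine lt_of_le_of_ne le_sup_left (fun h' => h ?_)
      rw [h']
      exact le_sup_right
    refine ⟨htop, ?_⟩
    have h1 : (center S ⊓ Q).relIndex (center S) = p := by
      rw [inf_comm, Subgroup.inf_relIndex_right]
      haveI := PGroup.normal_of_index_p hS hQi
      rw [← Subgroup.relIndex_sup_right, sup_comm, htop, Subgroup.relIndex_top_right, hQi]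
    have h2 := Subgroup.relIndex_mul_relIndex (⊥ : Subgroup S) (center S ⊓ Q) (center S) bot_le inf_le_left
    rw [relIndex_bot_left, relIndex_bot_left, h1, hinf,
      ← Nat.card_congr ((center ↥Q).equivMapOfInjective Q.subtype Q.subtype_injective).toEquiv, hQ.2] at h2
    rw [← h2]; ring

theorem main3 (hS : IsPGroup p S) (Q : Subgroup S) (hQ : IsExtraspecial p ↥Q) (hQi : Q.index = p) :
    (∃ A : Subgroup S, (∀ a ∈ A, ∀ b ∈ A, a * b = b * a) ∧ A.index = p) ↔ Nat.card S = p ^ 4 := by
  constructor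
  · rintro ⟨A, hA, hAi⟩
    obtain ⟨n, hn, hc, hcS⟩ := card_S Q hQ hQi
    have h1 : (A.subgroupOf Q).index ∣ p := by
      haveI := PGroup.normal_of_index_p hS hAi
      rw [← hAi]
      exact Subgroup.relIndex_dvd_index_of_normal A Q
    have h2 := card_le hQ hc (A.subgroupOf Q) (fun a ha b hb => Subtype.ext (hA a ha b hb))
    have h3 := Subgroup.card_mul_index (A.subgroupOf Q)
    have h4 : (A.subgroupOf Q).index ≤ p := Nat.le_of_dvd hp.out.pos h1
    rw [hc] at h3
    have h5 : p ^ (2 * n + 1) ≤ p ^ (n + 1) * p := by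
      rw [← h3]; exact Nat.mul_le_mul h2 h4
    rw [← pow_succ] at h5
    have h6 := (Nat.pow_le_pow_iff_right hp.out.one_lt).1 h5
    have h7 : n = 1 := by omega
    rw [hcS, h7]
  · intro h
    exact MaxAb.exists_abelian h

theorem main2 (hS : IsPGroup p S) (Q : Subgroup S) (hQ : IsExtraspecial p ↥Q) (hQi : Q.index = p) :
    derivedSeries S 3 = ⊥ ∧ ∀ x : S, x ^ (p ^ 3) = 1 := by
  have hco := PGroup.isCoatom_of_index hQi
  constructor
  · have h1 : derivedSeries S 1 ≤ Q := by
      rw [derivedSeries_one]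
      exact PGroup.commutator_le_coatom hS hco
    have h2 : derivedSeries S 2 ≤ (center ↥Q).map Q.subtype := by
      rw [derivedSeries_succ, Subgroup.commutator_le]
      intro a ha b hb
      have h3 := comm_mem_center hQ ⟨a, h1 ha⟩ ⟨b, h1 hb⟩
      exact ⟨_, h3, rfl⟩
    rw [derivedSeries_succ, Subgroup.commutator_eq_bot_iff_le_centralizer]
    intro a ha
    rw [mem_centralizer_iff]
    intro b hb
    exact mem_center_iff.1 (center_le hS Q hQ hQi (h2 ha)) b
  · intro x
    have h1 : x ^ p ∈ Q := PGroup.pow_mem_coatom hS hco x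
    have h2 := center_pow hQ (pow_mem_center hQ ⟨x ^ p, h1⟩)
    have h3 : ((x ^ p) ^ p) ^ p = 1 := congrArg Subtype.val h2
    rw [← pow_mul, ← pow_mul] at h3
    rw [pow_succ, pow_two]
    rw [← mul_assoc] at h3
    exact h3

end Cfsg.Agent.H19.XspI
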