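import Mathlib
import Cfsg.Agent.H17_CV
import Cfsg.Agent.H4_ZStar
import Cfsg.Agent.H1_Nilp
import Cfsg.Agent.S0205

set_option autoImplicit false
set_option linter.all false

/-! S3900, piece L4 -/

namespace Cfsg.Agent.H1.CVL4

open Subgroup Cfsg.Agent.H17.CV

universe u

variable {G : Type u} [Group G] [Finite G]

theorem not_comm (hns : ¬ Group.IsSolvable G) : ¬ ∀ a b : G ⧸ center G, a * b = b * a := by
  intro h
  apply hns
  have h1 : Group.IsSolvable (G ⧸ center G) := Group.isSolvable_of_comm h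
  have h2 : Group.IsSolvable (center G) := Group.isSolvable_of_comm (fun a b => Subtype.ext (mem_center_iff.1 b.2 a))
  exact Group.isSolvable_of_ker_le_range (center G).subtype (QuotientGroup.mk' (center G)) (by
    rw [QuotientGroup.ker_mk', Subgroup.range_subtype])

theorem even_quot (hns : ¬ Group.IsSolvable G) : 2 ∣ Nat.card (G ⧸ center G) := by
  by_contra h
  have h1 : Odd (Nat.card (G ⧸ center G)) := by
    rw [← Nat.not_even_iff_odd]
    intro he
    exact h he.two_dvd
  have h2 : Group.IsSolvable (G ⧸ center G) := Cfsg.Agent.S0205.result h1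
  apply hns
  have h3 : Group.IsSolvable (center G) := Group.isSolvable_of_comm (fun a b => Subtype.ext (mem_center_iff.1 b.2 a))
  exact Group.isSolvable_of_ker_le_range (center G).subtype (QuotientGroup.mk' (center G)) (by
    rw [QuotientGroup.ker_mk', Subgroup.range_subtype])

theorem base (hns : ¬ Group.IsSolvable G) : ∃ x : G, (∃ n, orderOf x = 2 ^ n) ∧ x ∉ center G ∧ x ^ 2 ∈ center G := by
  haveI : Fact (Nat.Prime 2) := ⟨Nat.prime_two⟩
  obtain ⟨y, hy⟩ := exists_prime_orderOf_dvd_card' (G := G ⧸ center G) 2 (even_quot hns)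
  obtain ⟨g, rfl⟩ := QuotientGroup.mk_surjective y
  obtain ⟨a, m, hm, hg⟩ := Nat.exists_eq_two_pow_mul_odd (n := orderOf g) (orderOf_pos g).ne'
  have hm0 : m ≠ 0 := by rintro rfl; exact absurd hm (by decide)
  have hy2 : (g : G ⧸ center G) ^ 2 = 1 := by rw [← hy, pow_orderOf_eq_one]
  have hgm : ((g ^ m : G) : G ⧸ center G) = (g : G ⧸ center G) := by
    obtain ⟨j, rfl⟩ := hm
    rw [QuotientGroup.mk_pow, pow_add, pow_mul, hy2, one_pow, one_mul, pow_one]
  refine ⟨g ^ m, ⟨a, ?_⟩, ?_, ?_⟩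
  · rw [orderOf_pow_of_dvd hm0 (by rw [hg]; exact dvd_mul_left _ _), hg, Nat.mul_div_cancel _ (Nat.pos_of_ne_zero hm0)]
  · intro h
    rw [← QuotientGroup.eq_one_iff, hgm] at h
    rw [h, orderOf_one] at hy
    omega
  · rw [← QuotientGroup.eq_one_iff, QuotientGroup.mk_pow, hgm, hy2]

theorem step (hz : IsSimpleGroup (G ⧸ center G)) (hns : ¬ Group.IsSolvable G) {x : G} (hx : ∃ n, orderOf x = 2 ^ n)
    (hxZ : x ∉ center G) (hx2 : x ^ 2 ∈ center G) :
    ∃ g : G, (∃ n, orderOf (x * g * x⁻¹ * g⁻¹) = 2 ^ n) ∧ x * g * x⁻¹ * g⁻¹ ∉ center G ∧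
      (x * g * x⁻¹ * g⁻¹) ^ 2 ∈ center G := by
  haveI : Fact (Nat.Prime 2) := ⟨Nat.prime_two⟩
  have hxb : orderOf (x : G ⧸ center G) = 2 := by
    apply orderOf_eq_prime
    · rw [← QuotientGroup.mk_pow, QuotientGroup.eq_one_iff]; exact hx2
    · rw [Ne, QuotientGroup.eq_one_iff]; exact hxZ
  have hxb2 : (x : G ⧸ center G) * x = 1 := by rw [← pow_two, ← hxb, pow_orderOf_eq_one]
  have hxbi : (x : G ⧸ center G)⁻¹ = x := inv_eq_of_mul_eq_one_left hxb2
  obtain ⟨y, hy1, hy2⟩ : ∃ y : G ⧸ center G, Commute (x : G ⧸ center G) (y * x * y⁻¹) ∧ y * x * y⁻¹ ≠ (x : G ⧸ center G) := by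
    by_contra hno
    push Not at hno
    have hiso : Cfsg.IsIsolatedInvolution (x : G ⧸ center G) := ⟨hxb, fun g hg => hno g hg⟩
    have h1 := Cfsg.Agent.H4.ZStar.zstar hiso
    have hn : (Cfsg.pPrimeCore 2 (G ⧸ center G)).Normal := Cfsg.Agent.H1.Nilp.pPrimeCore_normal 2
    rcases hn.eq_bot_or_eq_top with h2 | h2
    · have h3 : (x : G ⧸ center G) ∈ center (G ⧸ center G) := by
        rw [mem_center_iff]
        intro g
        have h4 : (x : G ⧸ center G) * g * (x : G ⧸ center G)⁻¹ * g⁻¹ ∈ Cfsg.pPrimeCore 2 (G ⧸ center G) := h1 g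
        rw [h2, mem_bot] at h4
        have h5 : (x : G ⧸ center G) * g = g * x := by
          calc (x : G ⧸ center G) * g = ((x : G ⧸ center G) * g * (x : G ⧸ center G)⁻¹ * g⁻¹) * (g * x) := by group
            _ = g * x := by rw [h4, one_mul]
        exact h5.symm
      rcases (inferInstance : (center (G ⧸ center G)).Normal).eq_bot_or_eq_top with h4 | h4
      · rw [h4, mem_bot] at h3
        rw [h3, orderOf_one] at hxb
        omega
      · apply not_comm hns
        intro a b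
        have : b ∈ center (G ⧸ center G) := by rw [h4]; trivial
        exact mem_center_iff.1 this a
    · have h3 := Cfsg.Agent.H1.Nilp.pPrimeCore_coprime (G := G ⧸ center G) 2
      rw [h2, Subgroup.card_top] at h3
      have h4 := even_quot hns
      have := Nat.Coprime.eq_one_of_dvd h3.symm h4
      omega
  obtain ⟨g, rfl⟩ := QuotientGroup.mk_surjective y
  have hcq : ((x * g * x⁻¹ * g⁻¹ : G) : G ⧸ center G) = (x : G ⧸ center G) * ((g : G ⧸ center G) * x * (g : G ⧸ center G)⁻¹) := by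
    have : ((x * g * x⁻¹ * g⁻¹ : G) : G ⧸ center G) = (x : G ⧸ center G) * g * (x : G ⧸ center G)⁻¹ * (g : G ⧸ center G)⁻¹ := rfl
    rw [this, hxbi]; group
  have hcj2 : ((g : G ⧸ center G) * x * (g : G ⧸ center G)⁻¹) * ((g : G ⧸ center G) * x * (g : G ⧸ center G)⁻¹) = 1 := by
    calc ((g : G ⧸ center G) * x * (g : G ⧸ center G)⁻¹) * ((g : G ⧸ center G) * x * (g : G ⧸ center G)⁻¹)
        = (g : G ⧸ center G) * (x * x) * (g : G ⧸ center G)⁻¹ := by group
      _ = 1 := by rw [hxb2]; group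
  refine ⟨g, ?_, ?_, ?_⟩
  · -- 2-element
    obtain ⟨n, hn⟩ := hx
    set w := g * x⁻¹ * g⁻¹ with hw
    have e1 : x * g * x⁻¹ * g⁻¹ = x * w := by rw [hw]; group
    have hwn : w ^ (2 ^ n) = 1 := by
      rw [hw, conj_pow, inv_pow, ← hn, pow_orderOf_eq_one]; group
    have hxn : x ^ (2 ^ n) = 1 := by rw [← hn, pow_orderOf_eq_one]
    -- x, w commute modulo the centre
    have hwq : (w : G ⧸ center G) = (g : G ⧸ center G) * x * (g : G ⧸ center G)⁻¹ := by
      have : (w : G ⧸ center G) = (g : G ⧸ center G) * (x : G ⧸ center G)⁻¹ * (g : G ⧸ center G)⁻¹ := rfl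
      rw [this, hxbi]
    have hcw : x * w * x⁻¹ * w⁻¹ ∈ center G := by
      rw [← QuotientGroup.eq_one_iff]
      have : ((x * w * x⁻¹ * w⁻¹ : G) : G ⧸ center G) = (x : G ⧸ center G) * w * (x : G ⧸ center G)⁻¹ * (w : G ⧸ center G)⁻¹ := rfl
      rw [this, hwq, hy1.eq]; group
    -- P := <x, w, c> is a 2-group: use (xw)^(2^m)
    set c := x * w * x⁻¹ * w⁻¹ with hc
    have hcc : ∀ z : G, c * z = z * c := fun z => (mem_center_iff.1 hcw z).symm
    have hxw : x * w = c * (w * x) := by rw [hc]; group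
    have hpowx : ∀ j : ℕ, x ^ j * w = c ^ j * (w * x ^ j) := by
      intro j
      induction j with
      | zero => simp
      | succ j ih =>
        have hcj : ∀ z : G, c ^ j * z = z * c ^ j := fun z => ((show Commute c z from hcc z).pow_left j).eq
        calc x ^ (j + 1) * w = x * (x ^ j * w) := by rw [pow_succ', mul_assoc]
          _ = x * (c ^ j * (w * x ^ j)) := by rw [ih]
          _ = c ^ j * ((x * w) * x ^ j) := by rw [← mul_assoc, ← hcj x]; group
          _ = c ^ j * (c * (w * x) * x ^ j) := by rw [hxw]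
          _ = c ^ (j + 1) * (w * x ^ (j + 1)) := by rw [pow_succ, pow_succ']; group
    have hcn : c ^ (2 ^ n) = 1 := by
      have := hpowx (2 ^ n)
      rw [hxn, one_mul, mul_one] at this
      exact (mul_eq_right.1 this.symm)
    have hyy : (x * w) * (x * w) = c⁻¹ * (x * x) * (w * w) := by
      have e2 : w * x = c⁻¹ * (x * w) := by rw [hxw]; group
      have hci : ∀ z : G, c⁻¹ * z = z * c⁻¹ := fun z => ((show Commute c z from hcc z).inv_left).eq
      calc (x * w) * (x * w) = x * (w * x) * w := by group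
        _ = x * (c⁻¹ * (x * w)) * w := by rw [e2]
        _ = (x * c⁻¹) * x * w * w := by group
        _ = (c⁻¹ * x) * x * w * w := by rw [hci x]
        _ = c⁻¹ * (x * x) * (w * w) := by group
    have hxxc : ∀ z : G, (x * x) * z = z * (x * x) := by
      intro z
      rw [← pow_two]
      exact (mem_center_iff.1 hx2 z).symm
    have k1 : Commute (c⁻¹ * (x * x)) (w * w) :=
      Commute.mul_left ((show Commute c (w * w) from hcc _).inv_left) (hxxc _)
    have k2 : Commute c⁻¹ (x * x) := (show Commute c (x * x) from hcc _).inv_left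
    have hpow : (x * w) ^ (2 ^ (n + 1)) = 1 := by
      have e3 : (x * w) ^ (2 ^ (n + 1)) = ((x * w) * (x * w)) ^ (2 ^ n) := by
        rw [← pow_two, ← pow_mul, pow_succ']
      have e4 : (x * x) ^ (2 ^ n) = 1 := by
        rw [← pow_two, ← pow_mul, mul_comm, pow_mul, hxn, one_pow]
      have e5 : (w * w) ^ (2 ^ n) = 1 := by
        rw [← pow_two, ← pow_mul, mul_comm, pow_mul, hwn, one_pow]
      rw [e3, hyy, k1.mul_pow, k2.mul_pow, inv_pow, hcn, e4, e5]
      simp
    rw [e1]
    obtain ⟨j, -, hj⟩ := (Nat.dvd_prime_pow Nat.prime_two).1 (orderOf_dvd_of_pow_eq_one hpow)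
    exact ⟨j, hj⟩
  · rw [← QuotientGroup.eq_one_iff, hcq]
    intro h
    apply hy2
    have h3 := eq_inv_of_mul_eq_one_right h
    rw [h3, hxbi]
  · rw [← QuotientGroup.eq_one_iff, QuotientGroup.mk_pow, hcq, hy1.mul_pow, pow_two, pow_two, hxb2, hcj2, one_mul]

theorem L4 (hz : IsSimpleGroup (G ⧸ Subgroup.center G)) (hns : ¬ Group.IsSolvable G) (k : ℕ) :
    ∃ x ∈ V G k, (∃ n, orderOf x = 2 ^ n) ∧ x ∉ center G ∧ x ^ 2 ∈ center G := by
  induction k with
  | zero =>
    obtain ⟨x, h1, h2, h3⟩ := base hns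
    exact ⟨x, trivial, h1, h2, h3⟩
  | succ k ih =>
    obtain ⟨x, hx, h1, h2, h3⟩ := ih
    obtain ⟨g, h4, h5, h6⟩ := step hz hns h1 h2 h3
    exact ⟨_, ⟨x, hx, g, rfl⟩, h4, h5, h6⟩

end Cfsg.Agent.H1.CVL4
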