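import Mathlib
import Cfsg.Agent.H2_Critical
import Cfsg.Agent.H2_Class
import Cfsg.Agent.H1_Nilp

/-! Characteristic subgroups of exponent `p` or `4` detecting coprime automorphisms. -/

set_option autoImplicit false
set_option linter.all false

namespace Cfsg.Agent.H1.CritQ

open Subgroup Cfsg.Agent.H2.Critical
open scoped commutatorElement

/-- `4` if `p = 2`, else `p` -/
def qq (p : ℕ) : ℕ := if p = 2 then 4 else p

theorem dvd_qq (p : ℕ) : p ∣ qq p := by
  unfold qq
  split_ifs with h
  · rw [h]; norm_num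
  · exact dvd_rfl

theorem qq_ne {p : ℕ} (hp : p ≠ 2) : qq p = p := by unfold qq; rw [if_neg hp]

theorem qq_two : qq 2 = 4 := by unfold qq; rw [if_pos rfl]

variable {P : Type*} [Group P]

theorem fixes' [Finite P] {p q : ℕ} [hp : Fact p.Prime] (hpq : p ∣ q) (hP : IsPGroup p P)
    (a : MulAut P) (ha : Nat.Coprime (orderOf a) p) (n : ℕ) :
    ∀ X : Subgroup P, Nat.card X ≤ n → (∀ x ∈ X, a x ∈ X) → (∀ x ∈ X, x ^ q = 1 → a x = x) →
      (∀ x ∈ X, ∀ y ∈ X, (x * y) ^ q = x ^ q * y ^ q) → ∀ x ∈ X, a x = x := by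
  induction n with
  | zero =>
    intro X hX
    exact absurd (Nat.card_pos (α := X)) (by omega)
  | succ n ih =>
    intro X hX hinv h hpow x hx
    by_cases hbot : X = ⊥
    · rw [hbot, mem_bot] at hx; rw [hx, map_one]
    let f : X →* P :=
      { toFun := fun x => (x : P) ^ q
        map_one' := by simp
        map_mul' := fun x y => hpow x x.2 y y.2 }
    have hle : f.range ≤ X := by
      rintro _ ⟨y, rfl⟩
      exact pow_mem y.2 q
    have hlt : f.range < X := by
      refine lt_of_le_of_ne hle fun heq => ?_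
      have hdvd : p ∣ Nat.card X := by
        obtain ⟨m, hm⟩ := IsPGroup.iff_card.1 (hP.to_subgroup X)
        rw [hm]
        apply dvd_pow_self
        rintro rfl
        rw [pow_zero] at hm
        exact hbot (card_eq_one.1 hm)
      obtain ⟨y, hy⟩ := exists_prime_orderOf_dvd_card' p hdvd
      have h1 : y ∈ f.ker := by
        rw [MonoidHom.mem_ker]
        have h2 : y ^ q = 1 := by
          rw [← orderOf_dvd_iff_pow_eq_one, hy]; exact hpq
        exact congrArg Subtype.val h2
      have h2 : Nat.card f.ker * Nat.card f.range = Nat.card X := by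
        rw [← index_ker, card_mul_index]
      rw [heq] at h2
      have h3 : Nat.card f.ker = 1 := by
        have := Nat.card_pos (α := X)
        exact Nat.eq_of_mul_eq_mul_right this (by rw [h2, one_mul])
      rw [card_eq_one.1 h3, mem_bot] at h1
      rw [h1, orderOf_one] at hy
      exact hp.out.one_lt.ne hy
    have hcard : Nat.card f.range < Nat.card X := by
      exact Set.ncard_lt_ncard (s := (f.range : Set P)) (t := (X : Set P)) hlt (Set.toFinite _)
    have hfix : ∀ y ∈ f.range, a y = y := by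
      apply ih f.range (by omega)
      · rintro _ ⟨y, rfl⟩
        refine ⟨⟨a y, hinv y y.2⟩, ?_⟩
        change (a (y : P)) ^ q = a ((y : P) ^ q)
        rw [map_pow]
      · intro y hy
        exact h y (hle hy)
      · intro y hy z hz
        exact hpow y (hle hy) z (hle hz)
    apply fixed_of_coprime hP a ha
    have hm : x⁻¹ * a x ∈ X := X.mul_mem (X.inv_mem hx) (hinv x hx)
    apply h _ hm
    have h1 : (x⁻¹ * a x) ^ q = (x⁻¹) ^ q * (a x) ^ q := hpow _ (inv_mem hx) _ (hinv x hx)
    rw [h1, ← map_pow, hfix (x ^ q) ⟨⟨x, hx⟩, rfl⟩, inv_pow, inv_mul_cancel]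

theorem exists_critQ [Finite P] {p : ℕ} [hp : Fact p.Prime] (hP : IsPGroup p P) :
    ∃ D : Subgroup P, D.Characteristic ∧ (∀ x ∈ D, x ^ qq p = 1) ∧
      ∀ a : MulAut P, (orderOf a).Coprime p → (∀ x ∈ D, a x = x) → a = 1 := by
  have hpp : p.Prime := hp.out
  obtain ⟨H, hH, h1, h2, h3⟩ := exists_critical hP
  have hc : ∀ a b : H, ⁅a, b⁆ ∈ center H := by
    intro a b
    have h4 : ⁅(a : P), (b : P)⁆ ∈ H ⊓ centralizer (H : Set P) :=
      h2 (commutator_mem_commutator a.2 (mem_top _))
    rw [mem_center_iff]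
    intro g
    exact Subtype.ext ((mem_centralizer_iff.1 h4.2) g g.2)
  have hq : ∀ a : H, a ^ p ∈ center H := by
    intro a
    have h4 : a ^ p ∈ frattini H := (Cfsg.Agent.H1.Nilp.commutator_le_frattini (hP.to_subgroup H)).2 a
    have h5 := h1 (mem_map_of_mem _ h4)
    rw [mem_center_iff]
    intro g
    exact Subtype.ext ((mem_centralizer_iff.1 h5) g g.2)
  have hcp : ∀ x y : H, ⁅y, x⁆ ^ p = 1 := by
    intro x y
    rw [← Cfsg.Agent.H2.Class.comm_pow_left hc, commutatorElement_eq_one_iff_mul_comm]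
    exact (mem_center_iff.1 (hq y) x).symm
  have hpow : ∀ x y : H, (x * y) ^ qq p = x ^ qq p * y ^ qq p := by
    intro x y
    by_cases h2 : p = 2
    · subst h2
      rw [qq_two, Cfsg.Agent.H2.Class.mul_pow_two hc]
      have h5 : Nat.choose 4 2 = 2 * 3 := by decide
      rw [h5, pow_mul, hcp, one_pow, mul_one]
    · rw [qq_ne h2]
      exact Cfsg.Agent.H2.Class.mul_pow_p hpp h2 hc _ _ (hcp _ _)
  let f : H →* H :=
    { toFun := fun x => x ^ qq p
      map_one' := one_pow _
      map_mul' := hpow }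
  have hD : ∀ x, x ∈ f.ker.map H.subtype ↔ x ∈ H ∧ x ^ qq p = 1 := by
    intro x
    constructor
    · rintro ⟨y, hy, rfl⟩
      exact ⟨y.2, congrArg Subtype.val (show y ^ qq p = 1 from hy)⟩
    · rintro ⟨hx, hx'⟩
      exact ⟨⟨x, hx⟩, Subtype.ext hx', rfl⟩
  have hinv : ∀ (a : MulAut P), ∀ x ∈ H, a x ∈ H := by
    intro a x hx
    have := (characteristic_iff_comap_eq.1 hH) a
    rw [← this] at hx
    exact hx
  refine ⟨f.ker.map H.subtype, ?_, fun x hx => ((hD x).1 hx).2, ?_⟩
  · rw [characteristic_iff_map_le]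
    rintro φ _ ⟨x, hx, rfl⟩
    have h5 := (hD x).1 hx
    refine (hD _).2 ⟨hinv φ x h5.1, ?_⟩
    show (φ x) ^ qq p = 1
    rw [← map_pow, h5.2, map_one]
  · intro a ha hfix
    apply aut_trivial_of_critical hP H inferInstance h3 a ha
    refine fixes' (dvd_qq p) hP a ha (Nat.card H) H le_rfl (hinv a) ?_ ?_
    · intro x hx hxq
      exact hfix x ((hD x).2 ⟨hx, hxq⟩)
    · intro x hx y hy
      exact congrArg Subtype.val (hpow ⟨x, hx⟩ ⟨y, hy⟩)

end Cfsg.Agent.H1.CritQ
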