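import Mathlib
import Cfsg.Agent.H27_FusAlp2
import Cfsg.Agent.H27_FusNorm2
import Cfsg.Agent.H27_FusSat

/-! Powers of central elements of `p`-groups of small class. -/

set_option autoImplicit false
set_option linter.all false
open Cfsg Cfsg.FusionSystem

namespace Cfsg.Agent.H1.FusW

open Cfsg.Agent.H27.Grp Cfsg.Agent.H27.Fus
open scoped commutatorElement

universe u

section poly

open Polynomial

variable {p : ℕ}

theorem poly_key (hp : p.Prime) (n : ℕ) :
    ∃ c d : ℤ[X], (p : ℤ[X]) ^ n * X = c * ((1 + X) ^ p - 1) + d * X ^ (n * (p - 1) + 1) := by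
  obtain ⟨r, hr⟩ := exists_add_pow_prime_eq hp (X : ℤ[X]) 1
  have hr0 : r.eval 0 = 1 := by
    have h1 := congrArg (fun f => (derivative f).eval 0) hr
    have hp1 : p - 1 ≠ 0 := by have := hp.two_le; omega
    simp only [derivative_pow, derivative_add, derivative_X, derivative_one, derivative_mul, derivative_natCast,
      eval_add, eval_mul, eval_pow, eval_X, eval_one, eval_natCast, map_natCast, zero_pow hp1, eval_zero, one_pow,
      add_zero, mul_one, zero_add, mul_zero, zero_mul, one_mul, eval_C] at h1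
    have hp0 : (p : ℤ) ≠ 0 := by exact_mod_cast hp.ne_zero
    have h2 : (p : ℤ) * 1 = p * r.eval 0 := by simpa using h1
    exact (mul_left_cancel₀ hp0 h2).symm
  have hX : (X : ℤ[X]) ∣ r - 1 := by
    rw [X_dvd_iff, coeff_zero_eq_eval_zero, eval_sub, hr0, eval_one, sub_self]
  obtain ⟨s, hs⟩ := hX
  set N := n * (p - 1) + 1 with hN
  have hcop : IsCoprime r (X ^ N : ℤ[X]) := by
    apply IsCoprime.pow_right
    refine ⟨1, -s, ?_⟩
    rw [one_mul, show r = 1 + X * s by rw [← hs]; ring]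
    ring
  obtain ⟨a, b, hab⟩ := hcop
  set g : ℤ[X] := (1 + X) ^ p - 1 with hg
  have hgX : (p : ℤ[X]) * X * r = g - X ^ p := by
    rw [hg, add_comm (1 : ℤ[X]) X, hr]; ring
  have h1 : (p : ℤ[X]) * X = a * (g - X ^ p) + b * (p : ℤ[X]) * X * X ^ N := by
    rw [← hgX]
    calc (p : ℤ[X]) * X = (a * r + b * X ^ N) * ((p : ℤ[X]) * X) := by rw [hab, one_mul]
      _ = _ := by ring
  have key : ∀ k ≤ n, ∃ c d : ℤ[X], (p : ℤ[X]) ^ k * X = (-a) ^ k * X ^ (k * (p - 1) + 1) + (c * g + d * X ^ N) := by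
    intro k
    induction k with
    | zero => intro _; exact ⟨0, 0, by simp⟩
    | succ k ih =>
      intro hk
      obtain ⟨c, d, hcd⟩ := ih (by omega)
      have he : X ^ ((k + 1) * (p - 1) + 1) = (X : ℤ[X]) ^ (k * (p - 1)) * X ^ p := by
        rw [← pow_add]; congr 1
        have := hp.one_le
        rw [add_mul, one_mul]; omega
      refine ⟨(-a) ^ k * X ^ (k * (p - 1)) * a + (p : ℤ[X]) * c, (-a) ^ k * X ^ (k * (p - 1)) * (b * (p : ℤ[X]) * X) + (p : ℤ[X]) * d, ?_⟩
      rw [pow_succ' (p : ℤ[X]), mul_assoc, hcd, he]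
      have h2 : (p : ℤ[X]) * ((-a) ^ k * X ^ (k * (p - 1) + 1)) = (-a) ^ k * X ^ (k * (p - 1)) * ((p : ℤ[X]) * X) := by ring
      rw [mul_add, h2, h1]
      ring
  obtain ⟨c, d, hcd⟩ := key n le_rfl
  refine ⟨c, (-a) ^ n + d, ?_⟩
  rw [hcd, hN]; ring

variable {M : Type*} [AddCommGroup M]

theorem end_key (hp : p.Prime) (n : ℕ) (δ : Module.End ℤ M) {w : M} (h1 : ((1 + δ) ^ p) w = w)
    (h2 : (δ ^ (n * (p - 1) + 1)) w = 0) : (p ^ n : ℕ) • δ w = 0 := by
  obtain ⟨c, d, hcd⟩ := poly_key hp n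
  have h3 := congrArg (fun f => (aeval δ f) w) hcd
  simp only [map_mul, map_pow, map_add, map_sub, map_one, aeval_X, map_natCast, LinearMap.add_apply, Module.End.mul_apply,
    LinearMap.sub_apply, Module.End.one_apply, h1, h2, sub_self, map_zero, add_zero] at h3
  rw [← Nat.cast_pow, Module.End.natCast_apply] at h3
  exact h3

end poly

section grp

variable {Ω : Type u} [Group Ω] {S V : Subgroup Ω} {p : ℕ}

/-- a group element whose `p`-th power centralises `w` centralises `w ^ (p ^ n)` when the class is small -/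
theorem grp_key (hp : p.Prime) (n : ℕ) (hcl : Subgroup.lowerCentralSeries S (n * (p - 1) + 1) = ⊥)
    (hab : ∀ a ∈ V, ∀ b ∈ V, a * b = b * a) (hVS : V ≤ S) {t : Ω} (ht : t ∈ S) (htV : ∀ v ∈ V, t * v * t⁻¹ ∈ V)
    {w : Ω} (hw : w ∈ V) (htw : t ^ p * w = w * t ^ p) : t * w ^ (p ^ n) = w ^ (p ^ n) * t := by
  letI : CommGroup V := { (inferInstance : Group V) with mul_comm := fun a b => Subtype.ext (hab a a.2 b b.2) }
  let τ : Additive V →+ Additive V := MonoidHom.toAdditive
    (({ toFun := fun v => ⟨t * v * t⁻¹, htV v v.2⟩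
        map_one' := by apply Subtype.ext; simp
        map_mul' := fun a b => by apply Subtype.ext; show t * ((a : Ω) * b) * t⁻¹ = t * a * t⁻¹ * (t * b * t⁻¹); group } : V →* V))
  let T : Module.End ℤ (Additive V) := τ.toIntLinearMap
  let δ : Module.End ℤ (Additive V) := T - 1
  let ι : Additive V → Ω := fun v => ((Additive.toMul v : V) : Ω)
  have hT : ∀ v : Additive V, ι (T v) = t * ι v * t⁻¹ := fun v => rfl
  have hsub : ∀ a b : Additive V, ι (a - b) = ι a * (ι b)⁻¹ := fun a b => by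
    show (((Additive.toMul a / Additive.toMul b : V)) : Ω) = _
    rw [div_eq_mul_inv]; rfl
  have hδ : ∀ v : Additive V, ι (δ v) = t * ι v * t⁻¹ * (ι v)⁻¹ := fun v => by
    show ι (T v - v) = _
    rw [hsub, hT]
  have hpow : ∀ k : ℕ, ∀ v : Additive V, ι ((T ^ k) v) = t ^ k * ι v * (t ^ k)⁻¹ := by
    intro k
    induction k with
    | zero => intro v; simp
    | succ k ih =>
      intro v
      rw [pow_succ', Module.End.mul_apply, hT, ih, pow_succ']
      group
  have hlcs : ∀ k : ℕ, ∀ v : Additive V, ι ((δ ^ k) v) ∈ Subgroup.lowerCentralSeries S k := by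
    intro k
    induction k with
    | zero => intro v; exact hVS (Additive.toMul v).2
    | succ k ih =>
      intro v
      rw [pow_succ', Module.End.mul_apply, hδ]
      have h1 : ⁅ι ((δ ^ k) v), t⁆ ∈ Subgroup.lowerCentralSeries S (k + 1) := by
        rw [Subgroup.lowerCentralSeries_succ]
        exact Subgroup.commutator_mem_commutator (ih v) ht
      have h2 := Subgroup.inv_mem _ h1
      rw [commutatorElement_inv] at h2
      exact h2
  let v : Additive V := Additive.ofMul ⟨w, hw⟩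
  have hv : ι v = w := rfl
  have hinj : ∀ a b : Additive V, ι a = ι b → a = b := fun a b h => Subtype.ext h
  have h1 : ((1 + δ) ^ p) v = v := by
    have : (1 + δ) = T := by show 1 + (T - 1) = T; abel
    rw [this]
    apply hinj
    rw [hpow, hv, htw, mul_inv_cancel_right]
  have h2 : (δ ^ (n * (p - 1) + 1)) v = 0 := by
    apply hinj
    have h3 := hlcs (n * (p - 1) + 1) v
    rw [hcl, Subgroup.mem_bot] at h3
    rw [h3]; rfl
  have h3 := end_key hp n δ h1 h2
  have h4 : ι ((p ^ n : ℕ) • δ v) = (ι (δ v)) ^ (p ^ n) := by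
    show (((Additive.toMul (δ v)) ^ (p ^ n) : V) : Ω) = _
    rw [Subgroup.coe_pow]
  rw [h3, hδ, hv] at h4
  have h5 : (t * w * t⁻¹ * w⁻¹) ^ (p ^ n) = 1 := h4.symm
  have h6 : Commute (t * w * t⁻¹) w⁻¹ := hab _ (htV w hw) _ (V.inv_mem hw)
  rw [h6.mul_pow, inv_pow, conj_pow, mul_inv_eq_one, mul_inv_eq_iff_eq_mul] at h5
  exact h5

/-- an element normalising `T₀` whose `p`-th power lies in `T₀` -/
theorem exists_step {G : Type*} [Group G] {T T₀ : Subgroup G} [Finite T] [hp : Fact p.Prime] (hT : IsPGroup p T)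
    (hle : T₀ ≤ T) (hne : T₀ ≠ T) : ∃ t ∈ T, t ∉ T₀ ∧ t ^ p ∈ T₀ := by
  have hlt : T₀.subgroupOf T < ⊤ := by
    rw [lt_top_iff_ne_top, Ne, Subgroup.subgroupOf_eq_top]
    exact fun h => hne (le_antisymm hle h)
  obtain ⟨x, hx, hx2⟩ := SetLike.exists_of_lt hlt
  have hx3 : (x : G) ∉ T₀ := fun h => hx2 (Subgroup.mem_subgroupOf.2 h)
  obtain ⟨k, hk⟩ := hT x
  have hk' : (x : G) ^ p ^ k ∈ T₀ := by
    have : (x : G) ^ p ^ k = 1 := congrArg Subtype.val hk
    rw [this]; exact T₀.one_mem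
  classical
  have hex : ∃ k, (x : G) ^ p ^ k ∈ T₀ := ⟨k, hk'⟩
  set m := Nat.find hex with hm
  have hm1 := Nat.find_spec hex
  have hm0 : m ≠ 0 := by
    intro h0
    rw [← hm, h0, pow_zero, pow_one] at hm1
    exact hx3 hm1
  obtain ⟨l, hl⟩ := Nat.exists_eq_succ_of_ne_zero hm0
  refine ⟨(x : G) ^ p ^ l, T.pow_mem x.2 _, Nat.find_min hex (by omega), ?_⟩
  rw [← pow_mul, ← pow_succ]
  have : l + 1 = m := hl.symm
  rw [this]; exact hm1

end grp

end Cfsg.Agent.H1.FusW
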