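import Mathlib
import Cfsg.Prelude.Def_PLocal
import Cfsg.Agent.H27_Grp2
import Cfsg.Agent.H1_FusW
import Cfsg.Agent.H1_Nilp

/-! Quadratic elements and powers of central elements. -/

set_option autoImplicit false
set_option linter.all false

namespace Cfsg.Agent.H1.QdA

open Cfsg Cfsg.Agent.H27.Grp
open scoped commutatorElement

variable {G : Type*} [Group G] {p : ℕ} [hp : Fact p.Prime]

/-- `t` acts quadratically on `Z` -/
def Qu (Z : Subgroup G) (t : G) : Prop := ∀ z ∈ Z, t * ⁅z, t⁆ = ⁅z, t⁆ * t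

/-- subgroup generated by the quadratic elements of `P` -/
def QX (Z P : Subgroup G) : Subgroup G := Subgroup.closure {t | t ∈ P ∧ Qu Z t}

omit hp in
theorem QX_le {Z P : Subgroup G} : QX Z P ≤ P := by
  unfold QX; rw [Subgroup.closure_le]; exact fun t ht => ht.1

omit hp in
theorem comm_pow' {a t : G} (h : t * ⁅a, t⁆ = ⁅a, t⁆ * t) (k : ℕ) : ⁅a, t ^ k⁆ = ⁅a, t⁆ ^ k := by
  induction k with
  | zero => simp
  | succ k ih =>
    have h1 : t ^ k * ⁅a, t⁆ = ⁅a, t⁆ * t ^ k := ((show Commute t ⁅a, t⁆ from h).pow_left k)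
    calc ⁅a, t ^ (k + 1)⁆ = ⁅a, t ^ k⁆ * (t ^ k * ⁅a, t⁆ * (t ^ k)⁻¹) := by
          rw [commutatorElement_def, commutatorElement_def, commutatorElement_def, pow_succ]; group
      _ = ⁅a, t⁆ ^ k * ⁅a, t⁆ := by rw [ih, h1, mul_inv_cancel_right]
      _ = _ := by rw [pow_succ]

omit hp in
theorem Qu.pow {Z : Subgroup G} {t : G} (h : Qu Z t) (k : ℕ) : Qu Z (t ^ k) := by
  intro z hz
  rw [comm_pow' (h z hz)]
  exact ((show Commute t ⁅z, t⁆ from h z hz).pow_pow k k)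

omit hp in
theorem Qu.conj {Z : Subgroup G} {t g : G} (h : Qu Z t) (hg : ∀ z ∈ Z, g⁻¹ * z * g ∈ Z) : Qu Z (g * t * g⁻¹) := by
  intro z hz
  have h1 := h _ (hg z hz)
  have h2 : ⁅z, g * t * g⁻¹⁆ = g * ⁅g⁻¹ * z * g, t⁆ * g⁻¹ := by
    rw [commutatorElement_def, commutatorElement_def]; group
  rw [h2]
  calc g * t * g⁻¹ * (g * ⁅g⁻¹ * z * g, t⁆ * g⁻¹) = g * (t * ⁅g⁻¹ * z * g, t⁆) * g⁻¹ := by group
    _ = _ := by rw [h1]; group

omit hp in
/-- the key computation -/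
theorem comm_of_quad {Z : Subgroup G} (hZ : ∀ a ∈ Z, ∀ b ∈ Z, a * b = b * a) {t w : G} (ht : Qu Z t)
    (htZ : ∀ z ∈ Z, t * z * t⁻¹ ∈ Z) (hw : w ∈ Z) (htw : t ^ p * w = w * t ^ p) : t * w ^ p = w ^ p * t := by
  have h1 : ⁅w, t ^ p⁆ = 1 := commutatorElement_eq_one_iff_mul_comm.2 htw.symm
  rw [comm_pow' (ht w hw)] at h1
  have h2 : ⁅w, t⁆ ∈ Z := by
    have : ⁅w, t⁆ = w * (t * w⁻¹ * t⁻¹) := by rw [commutatorElement_def]; group
    rw [this]; exact Z.mul_mem hw (htZ _ (Z.inv_mem hw))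
  have h3 : ∀ g : G, g = w → g * ⁅w, t⁆ = ⁅w, t⁆ * g := fun g hg => by rw [hg]; exact hZ w hw _ h2
  have h4 : ∀ k : ℕ, ⁅w ^ k, t⁆ = ⁅w, t⁆ ^ k := by
    intro k
    induction k with
    | zero => simp
    | succ k ih =>
      have h5 : w ^ k * ⁅w, t⁆ = ⁅w, t⁆ * w ^ k := (show Commute w ⁅w, t⁆ from hZ w hw _ h2).pow_left k
      calc ⁅w ^ (k + 1), t⁆ = w ^ k * ⁅w, t⁆ * (w ^ k)⁻¹ * ⁅w ^ k, t⁆ := by
            rw [commutatorElement_def, commutatorElement_def, commutatorElement_def, pow_succ]; group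
        _ = ⁅w, t⁆ * ⁅w, t⁆ ^ k := by rw [h5, mul_inv_cancel_right, ih]
        _ = _ := by rw [pow_succ']
  have h5 := h4 p
  rw [h1] at h5
  exact (commutatorElement_eq_one_iff_mul_comm.1 h5).symm

/-- **engine** -/
theorem engine {L P Z D H : Subgroup G} [Finite L] (hP : IsSyl p P L) (hZL : Z ≤ L)
    (hZn : ∀ g ∈ L, ∀ z ∈ Z, g * z * g⁻¹ ∈ Z) (hZ : ∀ a ∈ Z, ∀ b ∈ Z, a * b = b * a)
    (hPZ : ∀ x ∈ P, (∀ y ∈ P, x * y = y * x) → x ∈ Z)
    (hD : D ≤ powerClosure p 1 (P ⊓ Subgroup.centralizer (P : Set G))) (hPH : P ≤ H)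
    (hCH : ∀ g ∈ L, (∀ d ∈ D, g * d = d * g) → g ∈ H) (hne : ¬ L ≤ H) :
    ∃ g ∈ L, g ∉ H ∧ ∀ x ∈ QX Z P, g * x * g⁻¹ ∈ QX Z P := by
  classical
  have hPL := hP.le
  have hfP : Finite P := finite_of_le hPL
  obtain ⟨a₀, ha₀, ha₀B⟩ := SetLike.not_le_iff_exists.1 hne
  have hfin : {a | a ∈ L ∧ a ∉ H}.Finite := (Set.toFinite (L : Set G)).subset fun a ha => ha.1
  obtain ⟨a, ⟨ha, haH⟩, hmax⟩ := hfin.exists_maximalFor (fun a => Nat.card (P ⊓ cj a P : Subgroup G)) _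
    ⟨a₀, ha₀, ha₀B⟩
  have hmax : ∀ b, b ∈ L → b ∉ H → Nat.card (P ⊓ cj b P : Subgroup G) ≤ Nat.card (P ⊓ cj a P : Subgroup G) := by
    intro b hb hbB
    rcases le_total (Nat.card (P ⊓ cj b P : Subgroup G)) (Nat.card (P ⊓ cj a P : Subgroup G)) with h | h
    · exact h
    · exact hmax ⟨hb, hbB⟩ h
  -- elements of `D` are central in `P`
  have hZPle : P ⊓ Subgroup.centralizer (P : Set G) ≤ Z := by
    intro x hx
    exact hPZ x hx.1 fun y hy => ((Subgroup.mem_centralizer_iff.1 hx.2) y hy).symm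
  -- main claim
  have claim : ∀ b ∈ L, b ∉ H → Nat.card (P ⊓ cj a P : Subgroup G) ≤ Nat.card (P ⊓ cj b P : Subgroup G) →
      ∀ t ∈ P, Qu Z t → t ∈ cj b P := by
    intro b hb hbH hbmax t ht htq
    by_contra htb
    -- a power of `t`
    obtain ⟨k, hk⟩ := hP.isPGroup ⟨t, ht⟩
    have hk' : t ^ p ^ k ∈ cj b P := by
      have : t ^ p ^ k = 1 := congrArg Subtype.val hk
      rw [this]; exact Subgroup.one_mem _
    have hex : ∃ k, t ^ p ^ k ∈ cj b P := ⟨k, hk'⟩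
    set m := Nat.find hex with hm
    have hm1 := Nat.find_spec hex
    have hm0 : m ≠ 0 := by
      intro h0
      rw [← hm, h0, pow_zero, pow_one] at hm1
      exact htb hm1
    obtain ⟨l, hl⟩ := Nat.exists_eq_succ_of_ne_zero hm0
    set u := t ^ p ^ l with hu
    have huP : u ∈ P := P.pow_mem ht _
    have hub : u ∉ cj b P := Nat.find_min hex (by omega)
    have hup : u ^ p ∈ cj b P := by
      rw [hu, ← pow_mul, ← pow_succ]
      have : l + 1 = m := hl.symm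
      rw [this]; exact hm1
    have huq : Qu Z u := htq.pow _
    -- `u` commutes with the conjugates of `D`
    have hcent : ∀ x ∈ P ⊓ Subgroup.centralizer (P : Set G), ∀ y ∈ cj b P, y * (b * x * b⁻¹) = b * x * b⁻¹ * y := by
      rintro x hx _ ⟨y, hy, rfl⟩
      have h1 := (Subgroup.mem_centralizer_iff.1 hx.2) y hy
      show b * y * b⁻¹ * (b * x * b⁻¹) = b * x * b⁻¹ * (b * y * b⁻¹)
      calc b * y * b⁻¹ * (b * x * b⁻¹) = b * (y * x) * b⁻¹ := by group
        _ = _ := by rw [h1]; group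
    have huD : ∀ d ∈ D, u * (b * d * b⁻¹) = b * d * b⁻¹ * u := by
      intro d hd0
      have hd := hD hd0
      clear hd0
      unfold powerClosure at hd
      induction hd using Subgroup.closure_induction with
      | mem x hx =>
        obtain ⟨y, hy, rfl⟩ := hx
        have h1 : b * y * b⁻¹ ∈ Z := hZn b hb y (hZPle hy)
        have h2 := comm_of_quad (p := p) hZ huq (hZn u (hPL huP)) h1 (hcent y hy _ hup)
        rw [pow_one]
        rw [conj_pow] at h2
        exact h2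
      | one => simp
      | mul x y _ _ hx hy =>
        have e : b * (x * y) * b⁻¹ = (b * x * b⁻¹) * (b * y * b⁻¹) := by group
        rw [e]; exact (show Commute u _ from hx).mul_right hy
      | inv x _ hx =>
        have e : b * x⁻¹ * b⁻¹ = (b * x * b⁻¹)⁻¹ := by group
        rw [e]; exact (show Commute u _ from hx).inv_right
    have hDc : ∀ y ∈ cj b P, ∀ d ∈ D, y * (b * d * b⁻¹) = b * d * b⁻¹ * y := by
      intro y hy d hd
      have hd' : d ∈ P ⊓ Subgroup.centralizer (P : Set G) := by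
        have := hD hd
        unfold powerClosure at this
        refine (Subgroup.closure_le (P ⊓ Subgroup.centralizer (P : Set G))).2 ?_ this
        rintro _ ⟨x, hx, rfl⟩
        exact Subgroup.pow_mem _ hx _
      exact hcent d hd' y hy
    let Y : Subgroup G := (P ⊓ cj b P) ⊔ Subgroup.zpowers u
    have hYP : Y ≤ P := sup_le inf_le_left (Subgroup.zpowers_le.2 huP)
    let K : Subgroup G := ⨅ d ∈ D, Subgroup.centralizer {b * d * b⁻¹}
    have hYK : Y ≤ K := by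
      refine sup_le ?_ (Subgroup.zpowers_le.2 ?_)
      · intro y hy
        simp only [K, Subgroup.mem_iInf, Subgroup.mem_centralizer_singleton_iff]
        intro d hd
        exact hDc y hy.2 d hd
      · simp only [K, Subgroup.mem_iInf, Subgroup.mem_centralizer_singleton_iff]
        exact huD
    have hYH : cj b⁻¹ Y ≤ H ⊓ L := by
      rintro _ ⟨y, hy, rfl⟩
      have hyL : y ∈ L := hPL (hYP hy)
      have h1 : b⁻¹ * y * b⁻¹⁻¹ ∈ L := L.mul_mem (L.mul_mem (L.inv_mem hb) hyL) (L.inv_mem (L.inv_mem hb))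
      refine ⟨hCH _ h1 fun d hd => ?_, h1⟩
      have h2 := hYK hy
      simp only [K, Subgroup.mem_iInf, Subgroup.mem_centralizer_singleton_iff] at h2
      have h3 := h2 d hd
      show b⁻¹ * y * b⁻¹⁻¹ * d = d * (b⁻¹ * y * b⁻¹⁻¹)
      calc b⁻¹ * y * b⁻¹⁻¹ * d = b⁻¹ * (y * (b * d * b⁻¹)) * b := by group
        _ = b⁻¹ * (b * d * b⁻¹ * y) * b := by rw [h3]
        _ = _ := by group
    have hfHL : Finite (H ⊓ L : Subgroup G) := finite_of_le inf_le_right
    have hPHL : IsSyl p P (H ⊓ L) := hP.mono (le_inf hPH hPL) inf_le_right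
    obtain ⟨h, hh, hhY⟩ := hPHL.conj hYH (isPGroup_cj (isPGroup_mono hP.isPGroup hYP))
    have hbh : b * h⁻¹ ∉ H := fun h' => hbH (by
      have := H.mul_mem h' hh.1
      rwa [inv_mul_cancel_right] at this)
    have hYle : Y ≤ P ⊓ cj (b * h⁻¹) P := by
      refine le_inf hYP fun x hx => ?_
      have h1 := hhY (conj_mem_cj (g := h) (conj_mem_cj (g := b⁻¹) hx))
      have h2 := conj_mem_cj (g := b * h⁻¹) h1
      have h3 : b * h⁻¹ * (h * (b⁻¹ * x * b⁻¹⁻¹) * h⁻¹) * (b * h⁻¹)⁻¹ = x := by group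
      rwa [h3] at h2
    have h1 := hmax (b * h⁻¹) (L.mul_mem hb (L.inv_mem hh.2)) hbh
    have hfX : Finite (P ⊓ cj (b * h⁻¹) P : Subgroup G) := finite_of_le (inf_le_left : _ ≤ P)
    have hfY : Finite Y := finite_of_le hYP
    have hlt : P ⊓ cj b P < Y := by
      refine lt_of_le_of_ne le_sup_left fun h => hub ?_
      have : u ∈ Y := Subgroup.mem_sup_right (Subgroup.mem_zpowers u)
      rw [← h] at this
      exact this.2
    have h2 := card_lt_of_lt hlt
    have h3 := card_le_of_le hYle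
    omega
  -- apply the claim to `a` and `a⁻¹`
  have hinv : Nat.card (P ⊓ cj a P : Subgroup G) = Nat.card (P ⊓ cj a⁻¹ P : Subgroup G) := by
    rw [← card_cj a (P ⊓ cj a⁻¹ P : Subgroup G)]
    congr 2
    ext x
    constructor
    · rintro ⟨h1, y, hy, rfl⟩
      refine ⟨y, ⟨hy, ?_⟩, rfl⟩
      have h2 : a * y * a⁻¹ ∈ P := h1
      have := conj_mem_cj (g := a⁻¹) h2
      have e : a⁻¹ * (a * y * a⁻¹) * a⁻¹⁻¹ = y := by group
      rwa [e] at this
    · rintro ⟨y, ⟨hy1, z, hz, hzy⟩, rfl⟩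
      refine ⟨?_, conj_mem_cj hy1⟩
      have e : a * y * a⁻¹ = z := by
        rw [← hzy]; show a * (a⁻¹ * z * a⁻¹⁻¹) * a⁻¹ = z; group
      show a * y * a⁻¹ ∈ P
      rw [e]; exact hz
  refine ⟨a, ha, haH, ?_⟩
  have haH' : a⁻¹ ∉ H := fun h => haH (by simpa using H.inv_mem h)
  have hc := claim a⁻¹ (L.inv_mem ha) haH' hinv.le
  intro x hx
  unfold QX at hx ⊢
  induction hx using Subgroup.closure_induction with
  | mem t ht =>
    obtain ⟨z, hz, hzt⟩ := hc t ht.1 ht.2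
    have e : a * t * a⁻¹ = z := by
      rw [← hzt]; show a * (a⁻¹ * z * a⁻¹⁻¹) * a⁻¹ = z; group
    refine Subgroup.subset_closure ⟨by rw [e]; exact hz, ht.2.conj fun w hw => ?_⟩
    have := hZn a⁻¹ (L.inv_mem ha) w hw
    rwa [inv_inv] at this
  | one => simp [Subgroup.one_mem]
  | mul x y _ _ hx hy =>
    have e : a * (x * y) * a⁻¹ = (a * x * a⁻¹) * (a * y * a⁻¹) := by group
    rw [e]; exact Subgroup.mul_mem _ hx hy
  | inv x _ hx =>
    have e : a * x⁻¹ * a⁻¹ = (a * x * a⁻¹)⁻¹ := by group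
    rw [e]; exact Subgroup.inv_mem _ hx

end Cfsg.Agent.H1.QdA
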