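import Mathlib
import Cfsg.Agent.H1_QdA
import Cfsg.Agent.H27_LG3

/-! Central elements and quadratic action: the constrained group case. -/

set_option autoImplicit false
set_option linter.all false

universe u

namespace Cfsg.Agent.H1.QdA

open Cfsg Cfsg.Agent.H27.Grp Cfsg.Agent.H27.Fus
open scoped commutatorElement

section core

variable {G : Type*} [Group G] [Finite G] {p : ℕ} [hp : Fact p.Prime]

/-- `O_p(L)` in the ambient group -/
def OL (p : ℕ) (L : Subgroup G) : Subgroup G := (pCore p ↥L).map L.subtype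

omit [Finite G] hp in
theorem OL_le (L : Subgroup G) : OL p L ≤ L := Subgroup.map_subtype_le _

theorem OL_pgroup (L : Subgroup G) : IsPGroup p (OL p L) := (Cfsg.Agent.H1.Nilp.pCore_isPGroup p).map _

omit [Finite G] hp in
theorem OL_conj (L : Subgroup G) : ∀ g ∈ L, ∀ z ∈ OL p L, g * z * g⁻¹ ∈ OL p L := by
  rintro g hg _ ⟨z, hz, rfl⟩
  exact ⟨⟨g, hg⟩ * z * ⟨g, hg⟩⁻¹, (Cfsg.Agent.H1.Nilp.pCore_normal p).conj_mem z hz _, rfl⟩

theorem le_OL {L N : Subgroup G} (hN : N ≤ L) (hn : ∀ g ∈ L, ∀ x ∈ N, g * x * g⁻¹ ∈ N) (hNp : IsPGroup p N) :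
    N ≤ OL p L := by
  have h1 : (N.subgroupOf L).Normal := ⟨fun x hx g => by
    rw [Subgroup.mem_subgroupOf] at hx ⊢
    exact hn g g.2 x hx⟩
  have h2 : IsPGroup p (N.subgroupOf L) := hNp.comap_of_injective _ (Subgroup.subtype_injective _)
  have h3 := Cfsg.Agent.H1.Nilp.le_pCore h1 h2
  intro x hx
  exact ⟨⟨x, hN hx⟩, h3 (Subgroup.mem_subgroupOf.2 hx), rfl⟩

omit [Finite G] hp in
theorem normalizer_of {L N : Subgroup G} (hn : ∀ g ∈ L, ∀ x ∈ N, g * x * g⁻¹ ∈ N) :
    L ≤ Subgroup.normalizer (N : Set G) := by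
  intro g hg
  rw [Subgroup.mem_normalizer_iff]
  intro x
  refine ⟨hn g hg x, fun h => ?_⟩
  have := hn g⁻¹ (L.inv_mem hg) _ h
  have e : g⁻¹ * (g * x * g⁻¹) * g⁻¹⁻¹ = x := by group
  rwa [e] at this

theorem OL_le_syl {L P : Subgroup G} (hP : IsSyl p P L) : OL p L ≤ P :=
  hP.normal_le (OL_le L) (normalizer_of (OL_conj L)) (OL_pgroup L)

/-- `Z(O_p(L))` -/
def ZL (p : ℕ) (L : Subgroup G) : Subgroup G := OL p L ⊓ Subgroup.centralizer (OL p L : Set G)

omit [Finite G] hp in
theorem ZL_comm (L : Subgroup G) : ∀ a ∈ ZL p L, ∀ b ∈ ZL p L, a * b = b * a := fun a ha b hb =>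
  (Subgroup.mem_centralizer_iff.1 hb.2) a ha.1

omit [Finite G] hp in
theorem ZL_conj (L : Subgroup G) : ∀ g ∈ L, ∀ z ∈ ZL p L, g * z * g⁻¹ ∈ ZL p L := by
  intro g hg z hz
  refine ⟨OL_conj L g hg z hz.1, ?_⟩
  refine Subgroup.mem_centralizer_iff.2 fun y hy => ?_
  have h1 := OL_conj L g⁻¹ (L.inv_mem hg) y hy
  rw [inv_inv] at h1
  have h2 := (Subgroup.mem_centralizer_iff.1 hz.2) _ h1
  calc y * (g * z * g⁻¹) = g * (g⁻¹ * y * g * z) * g⁻¹ := by group
    _ = _ := by rw [h2]; group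

omit [Finite G] hp in
theorem ZL_eq (L : Subgroup G) : ZL p L = ((Subgroup.center ↥(pCore p ↥L)).map (pCore p ↥L).subtype).map L.subtype := by
  ext x
  constructor
  · rintro ⟨⟨y, hy, rfl⟩, hx⟩
    refine ⟨y, ⟨⟨y, hy⟩, ?_, rfl⟩, rfl⟩
    rw [SetLike.mem_coe, Subgroup.mem_center_iff]
    intro g
    apply Subtype.ext
    apply Subtype.ext
    exact (Subgroup.mem_centralizer_iff.1 hx) _ ⟨g, g.2, rfl⟩
  · rintro ⟨_, ⟨y, hy, rfl⟩, rfl⟩
    refine ⟨⟨y, y.2, rfl⟩, Subgroup.mem_centralizer_iff.2 ?_⟩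
    rintro _ ⟨g, hg, rfl⟩
    have := Subgroup.mem_center_iff.1 hy ⟨g, hg⟩
    exact congrArg (fun x : pCore p ↥L => ((x : L) : G)) this

end core

section main

variable {G : Type u} [Group G] [Finite G] {p : ℕ} [hp : Fact p.Prime]

theorem grp_central (W : ∀ (Q : Type u) [Group Q], Subgroup Q)
    (hW2 : ∀ (Q R : Type u) [Group Q] [Group R] [Finite Q], IsPGroup p Q → ∀ φ : Q ≃* R, (W Q).map φ.toMonoidHom = W R)
    (hq : ∀ (G : Type u) [Group G] [Finite G] (P : Sylow p G), ¬ (((W ↥(P : Subgroup G)).map (P : Subgroup G).subtype : Subgroup G)).Normal → ∃ g : G, g ∈ (P : Subgroup G) ∧ g ∉ Cfsg.pCore p G ∧ ⁅⁅Subgroup.center ↥(Cfsg.pCore p G) |>.map (Cfsg.pCore p G).subtype, Subgroup.zpowers g⁆, Subgroup.zpowers g⁆ = ⊥)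
    (P : Sylow p G) (hC : Subgroup.centralizer ((pCore p G : Subgroup G) : Set G) ≤ pCore p G) {z : G}
    (hz : z ∈ powerClosure p 1 ((P : Subgroup G) ⊓ Subgroup.centralizer ((P : Subgroup G) : Set G)))
    (hN : ∀ n : G, (∀ x ∈ (W ↥(P : Subgroup G)).map (P : Subgroup G).subtype, n * x * n⁻¹ ∈ (W ↥(P : Subgroup G)).map (P : Subgroup G).subtype) →
      n * z = z * n) : ∀ g : G, g * z = z * g := by
  set WP := (W ↥(P : Subgroup G)).map (P : Subgroup G).subtype with hWP
  have hzP : z ∈ (P : Subgroup G) ⊓ Subgroup.centralizer ((P : Subgroup G) : Set G) := by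
    unfold powerClosure at hz
    refine (Subgroup.closure_le _).2 ?_ hz
    rintro _ ⟨x, hx, rfl⟩
    exact Subgroup.pow_mem _ hx _
  have key : ∀ (n : ℕ) (L : Subgroup G), Nat.card L = n → (P : Subgroup G) ≤ L → ∀ g ∈ L, g * z = z * g := by
    intro n
    induction n using Nat.strong_induction_on with
    | _ n ih =>
    intro L hn hPL
    by_cases hWn : ∀ g ∈ L, ∀ x ∈ WP, g * x * g⁻¹ ∈ WP
    · exact fun g hg => hN g (hWn g hg)
    by_contra hcon
    have hPs : IsSyl p (P : Subgroup G) L := by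
      refine ⟨hPL, P.isPGroup', ?_⟩
      intro hd
      have h1 := P.not_dvd_index
      exact h1 (hd.trans (Subgroup.relIndex_dvd_index_of_le hPL))
    have hOP : pCore p G ≤ (P : Subgroup G) := by
      have := P.isPGroup'
      haveI := Cfsg.Agent.H1.Nilp.pCore_normal (G := G) p
      exact normal_le_sylow P (pCore p G) (Cfsg.Agent.H1.Nilp.pCore_isPGroup p)
    have hOL : pCore p G ≤ OL p L := le_OL (hOP.trans hPL)
      (fun g _ x hx => (Cfsg.Agent.H1.Nilp.pCore_normal p).conj_mem x hx g) (Cfsg.Agent.H1.Nilp.pCore_isPGroup p)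
    have hOLP : OL p L ≤ P := OL_le_syl hPs
    have hPZ : ∀ x ∈ (P : Subgroup G), (∀ y ∈ (P : Subgroup G), x * y = y * x) → x ∈ ZL p L := by
      intro x hx hxc
      refine ⟨hOL (hC (Subgroup.mem_centralizer_iff.2 fun y hy => (hxc y (hOP hy)).symm)),
        Subgroup.mem_centralizer_iff.2 fun y hy => (hxc y (hOLP hy)).symm⟩
    obtain ⟨g, hg, hgH, hgX⟩ := engine (p := p) (L := L) (P := P) (Z := ZL p L) (D := Subgroup.zpowers z)
      (H := Subgroup.centralizer {z}) hPs (inf_le_left.trans (OL_le L)) (ZL_conj L) (ZL_comm L) hPZ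
      (Subgroup.zpowers_le.2 hz) (by
        intro x hx
        rw [Subgroup.mem_centralizer_singleton_iff]
        exact (Subgroup.mem_centralizer_iff.1 hzP.2) x hx)
      (by
        intro g _ h
        rw [Subgroup.mem_centralizer_singleton_iff]
        exact h z (Subgroup.mem_zpowers z))
      (by
        intro h
        apply hcon
        intro g hg
        exact Subgroup.mem_centralizer_singleton_iff.1 (h hg))
    rw [Subgroup.mem_centralizer_singleton_iff] at hgH
    set X := QX (ZL p L) (P : Subgroup G) with hX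
    have hfX : Finite X := finite_of_le QX_le
    -- a quadratic element outside `O_p(L)`
    obtain ⟨t, htP, htO, htq⟩ : ∃ t ∈ (P : Subgroup G), t ∉ OL p L ∧ Qu (ZL p L) t := by
      obtain ⟨t, ht1, ht2, ht3⟩ := hq ↥L (P.subtype hPL) (by
        intro hnor
        apply hWn
        let φ : ↥(P : Subgroup G) ≃* ↥((P.subtype hPL : Sylow p ↥L) : Subgroup ↥L) := (Subgroup.subgroupOfEquivOfLe hPL).symm
        have h1 := hW2 _ _ P.isPGroup' φ
        have h2 : ((W ↥((P.subtype hPL : Sylow p ↥L) : Subgroup ↥L)).map ((P.subtype hPL : Sylow p ↥L) : Subgroup ↥L).subtype).map L.subtype = WP := by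
          rw [← h1, Subgroup.map_map, Subgroup.map_map, hWP]
          congr 1
        intro g hg x hx
        rw [← h2] at hx ⊢
        obtain ⟨y, hy, rfl⟩ := hx
        exact ⟨⟨g, hg⟩ * y * ⟨g, hg⟩⁻¹, hnor.conj_mem y hy _, rfl⟩)
      refine ⟨t, ht1, ?_, ?_⟩
      · rintro ⟨s, hs, hst⟩
        have : s = t := Subtype.ext hst
        exact ht2 (this ▸ hs)
      · intro w hw
        rw [ZL_eq] at hw
        obtain ⟨v, hv, rfl⟩ := hw
        have h1 : ⁅v, t⁆ ∈ ⁅Subgroup.center ↥(Cfsg.pCore p ↥L) |>.map (Cfsg.pCore p ↥L).subtype, Subgroup.zpowers t⁆ :=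
          Subgroup.commutator_mem_commutator hv (Subgroup.mem_zpowers t)
        have h2 := Subgroup.commutator_mem_commutator h1 (Subgroup.mem_zpowers t)
        rw [ht3, Subgroup.mem_bot, commutatorElement_eq_one_iff_mul_comm] at h2
        exact (congrArg Subtype.val h2).symm
    have htX : t ∈ X := Subgroup.subset_closure ⟨htP, htq⟩
    -- `P` normalises `X`
    have hPX : ∀ s ∈ (P : Subgroup G), ∀ x ∈ X, s * x * s⁻¹ ∈ X := by
      intro s hs x hx
      rw [hX] at hx ⊢
      unfold QX at hx ⊢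
      induction hx using Subgroup.closure_induction with
      | mem t ht =>
        refine Subgroup.subset_closure ⟨Subgroup.mul_mem _ (Subgroup.mul_mem _ hs ht.1) (Subgroup.inv_mem _ hs), ht.2.conj fun w hw => ?_⟩
        have := ZL_conj L s⁻¹ (L.inv_mem (hPL hs)) w hw
        rwa [inv_inv] at this
      | one => simp [Subgroup.one_mem]
      | mul x y _ _ hx hy =>
        have e : s * (x * y) * s⁻¹ = (s * x * s⁻¹) * (s * y * s⁻¹) := by group
        rw [e]; exact Subgroup.mul_mem _ hx hy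
      | inv x _ hx =>
        have e : s * x⁻¹ * s⁻¹ = (s * x * s⁻¹)⁻¹ := by group
        rw [e]; exact Subgroup.inv_mem _ hx
    have hNmem : ∀ s ∈ L, (∀ x ∈ X, s * x * s⁻¹ ∈ X) → s ∈ L ⊓ Subgroup.normalizer (X : Set G) := by
      intro s hs h
      refine ⟨hs, ?_⟩
      exact Subgroup.mem_normalizer_fintype (S := (X : Set G)) h
    by_cases hNL : L ⊓ Subgroup.normalizer (X : Set G) = L
    · apply htO
      refine le_OL (QX_le.trans hPL) ?_ (isPGroup_mono P.isPGroup' QX_le) htX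
      intro s hs x hx
      rw [← hNL] at hs
      exact (Subgroup.mem_normalizer_iff.1 hs.2 x).1 hx
    · have hlt : L ⊓ Subgroup.normalizer (X : Set G) < L := lt_of_le_of_ne inf_le_left hNL
      have h1 := ih _ (by rw [← hn]; exact card_lt_of_lt hlt) (L ⊓ Subgroup.normalizer (X : Set G)) rfl
        (fun s hs => hNmem s (hPL hs) (hPX s hs)) g (hNmem g hg hgX)
      exact hgH h1
  intro g
  exact key _ ⊤ rfl le_top g trivial

end main

end Cfsg.Agent.H1.QdA
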