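import Mathlib
import Cfsg.Agent.H27_LG3

/-! Reduction theorem with tracked subsystems. -/

universe u v w
namespace Cfsg.Agent.H27.Fus

open Cfsg Cfsg.FusionSystem Cfsg.Agent.H27.Grp

section red

variable {Ω : Type*} [Group Ω] {S T : Subgroup Ω} {F : FusionSystem S} {P Q R V : Subgroup Ω} {p : ℕ} {f g : Ω → Ω}
variable [Fact p.Prime] [Finite S]

theorem exists_SCsys' (hS : IsPGroup p S) (hF : F.IsSaturated p) (hQ : F.IsNormal Q) :
    ∃ E : FusionSystem S, E.IsSaturated p ∧ (∀ P f, Map E P f ↔ SCmap F Q P f) ∧ FKN F Q (autInducedBy S Q) ∧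
      Q ≤ NK S Q (autInducedBy S Q) ∧ S = NK S Q (autInducedBy S Q) ∧
      ∀ P f, Map E P f ↔ NKmap F Q (autInducedBy S Q) P f := by
  have hQS : Q ≤ S := (isNormal_iff.1 hQ).1
  have hn : ∀ s ∈ S, s ∈ Subgroup.normalizer (Q : Set Ω) := fun s hs => IsNormal.mem_normalizer hQ hs
  set K := autInducedBy S Q with hK
  have hNK : NK S Q K = S := by
    apply le_antisymm NK_le
    intro s hs
    exact ⟨⟨hs, hn s hs⟩, cjA Q s (hn s hs), cjA_mem _ hs, fun x => rfl⟩
  have hFKN : FKN F Q K := by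
    refine ⟨hQS, fun R f h => ?_⟩
    rw [hNK]
    exact card_le_of_le NK_le
  refine ⟨castFS hNK (NKsys F Q K hFKN.1), ?_, fun P f => ?_, hFKN, by rw [hNK]; exact hQS, hNK.symm, fun P f => ?_⟩
  · rw [castFS_saturated]
    exact NKsys_saturated hS hF hFKN
  · rw [map_castFS, map_NKsys]
    constructor
    · rintro ⟨h1, h2, g, hg, hgf, κ, hκ, hκg⟩
      obtain ⟨s, hs, hsx⟩ := mem_autInducedBy.1 hκ
      exact ⟨g, hg, hgf, s, hs, fun x hx => by rw [← hsx ⟨x, hx⟩]; exact (hκg ⟨x, hx⟩).symm⟩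
    · rintro ⟨g, hg, hgf, s, hs, hsx⟩
      refine ⟨?_, fun x hx => ?_, g, hg, hgf, cjA Q s (hn s hs), cjA_mem _ hs, fun x => (hsx x x.2).symm⟩
      · rw [hNK]; exact le_sup_left.trans hg.le
      · rw [hNK, ← hgf x hx]; exact hg.mem (le_sup_left (a := P) hx)
  · rw [map_castFS, map_NKsys]

theorem reduceK (hS : IsPGroup p S) (hF : F.IsSaturated p) {C : Subgroup Ω → (Ω → Ω) → Prop} (hC : SubCls F C)
    (W : Subgroup Ω → Subgroup Ω) (hW1 : ∀ R ≤ S, W R ≤ R) (hW2 : ∀ R f, Map F R f → W (im R f) = im (W R) f)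
    (hW3 : ∀ R ≤ S, centralizerIn S S ≤ R → R ≠ ⊥ → W R ≠ ⊥)
    (h0 : ∀ P f, Nmap F (W S) P f → C P f)
    (hb : ∀ (V : Subgroup Ω) (K : Subgroup (MulAut V)) (R : Subgroup Ω) (E : FusionSystem R), FKN F V K →
      V ≤ NK S V K → R = NK S V K → (∀ P f, Map E P f ↔ NKmap F V K P f) →
      R ≤ S → E.IsSaturated p → (∀ P f, Map E P f → Map F P f) →
      (R < S ∨ ∃ P f, Map F P f ∧ ¬ Map E P f) → centralizerIn S S ≤ R →
      (∀ P f, Nmap E (W R) P f → C P f) → ∀ P f, Map E P f → C P f)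
    (hc : F.IsCentric F.core → ∀ P f, Map F P f → C P f)
    (hd : (∀ P f, Map F P f → SCmap F F.core P f) → F.core ≠ ⊥ → ¬ F.IsCentric F.core →
      (∀ V, V ≤ S → S ≤ normalizerIn S V → ¬ V ≤ F.core → ∀ P f, Nmap F V P f → C P f) → ∀ P f, Map F P f → C P f) :
    ∀ P f, Map F P f → C P f := by
  have hnil : centralizerIn S S ≤ S := cen_le
  -- N_F(V) for V normal in S, not normal in F
  have hV : ∀ V, V ≤ S → S ≤ normalizerIn S V → ¬ F.IsNormal V → ∀ P f, Nmap F V P f → C P f := by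
    intro V hVS hVn hVF P f hf
    obtain ⟨E, hE⟩ := exists_normalizerSystem F V hVS
    have hRS : normalizerIn S V = S := le_antisymm nrm_le hVn
    have hVfn : F.IsFullyNormalized V := by
      refine ⟨hVS, fun R hR => ?_⟩
      haveI : Finite (normalizerIn S V) := fin_nrm
      exact card_le_of_le (nrm_le.trans hVn)
    have hEsat := normalizerSystem_saturated hS hF hVfn hE
    refine hb V ⊤ (normalizerIn S V) E (FKN_top hVfn) (by rw [NK_top]; exact le_nrm hVS) NK_top.symm
      (fun P f => map_of_isNormalizerSystem hE) nrm_le hEsat (fun P f h => nsys_sub hE h) (Or.inr ?_) (by rw [hRS]; exact cen_le) ?_ P f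
      ((nsys_map hE).2 hf)
    · by_contra hcon
      push Not at hcon
      apply hVF
      rw [isNormal_iff]
      refine ⟨hVS, fun P f hf => ?_⟩
      obtain ⟨-, -, g, h1, h2, h3⟩ := (nsys_map hE).1 (hcon P f hf)
      exact ⟨g, h1, h2, h3⟩
    · rintro P f ⟨e1, e2, g, e3, e4, e5⟩
      have e3' : Map F (P ⊔ W (normalizerIn S V)) g := nsys_sub hE e3
      have hWeq : W (normalizerIn S V) = W S := by rw [hRS]
      rw [hWeq] at e1 e2 e3' e5
      have hmono : normalizerIn (normalizerIn S V) (W S) ≤ normalizerIn S (W S) := inf_le_inf_right _ nrm_le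
      exact h0 P f ⟨fun x hx => hmono (e1 hx), fun x hx => hmono (e2 x hx), g, e3', e4, e5⟩
  rcases lemmaR hS hF hC W hW1 hW2 hW3 h0 (by
      intro V hVfn hVb hVF E hE hN
      refine hb V ⊤ _ E (FKN_top hVfn) (by rw [NK_top]; exact le_nrm hVfn.1) NK_top.symm
        (fun P f => map_of_isNormalizerSystem hE) nrm_le (normalizerSystem_saturated hS hF hVfn hE) (fun P f h => nsys_sub hE h) ?_
        ((cen_anti hVfn.1).trans cen_le_nrm) hN
      by_cases hRS : normalizerIn S V = S
      · right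
        by_contra hcon
        push Not at hcon
        apply hVF
        rw [isNormal_iff]
        refine ⟨hVfn.1, fun P f hf => ?_⟩
        obtain ⟨-, -, g, h1, h2, h3⟩ := (nsys_map hE).1 (hcon P f hf)
        exact ⟨g, h1, h2, h3⟩
      · left; exact lt_of_le_of_ne nrm_le hRS) with h | ⟨V₀, hV₀b, hV₀⟩
  · exact h
  have hQ := core_normal F
  have hQS : F.core ≤ S := (isNormal_iff.1 hQ).1
  have hQb : F.core ≠ ⊥ := fun h => hV₀b (by rw [eq_bot_iff, ← h]; exact le_core hV₀)
  by_cases hcen : F.IsCentric F.core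
  · exact hc hcen
  have hV' : ∀ V, V ≤ S → S ≤ normalizerIn S V → ¬ V ≤ F.core → ∀ P f, Nmap F V P f → C P f :=
    fun V h1 h2 h3 => hV V h1 h2 (fun h => h3 (le_core h))
  by_cases hsc : ∀ P f, Map F P f → SCmap F F.core P f
  · exact hd hsc hQb hcen hV'
  · push Not at hsc
    obtain ⟨E, hEsat, hE, hFKN, hQNK, hSNK, hENK⟩ := exists_SCsys' hS hF hQ
    have hsub : ∀ P f, Map E P f → Map F P f := by
      intro P f h
      obtain ⟨g, hg, hgf, -⟩ := (hE P f).1 h
      exact (hg.mono le_sup_left).congr hgf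
    have hCS : ¬ F.core ⊔ centralizerIn S F.core ≤ F.core := fun h =>
      hcen (centric_of_core (le_sup_right.trans h))
    have hVS : F.core ⊔ centralizerIn S F.core ≤ S := sup_le hQS cen_le
    have hVn : S ≤ normalizerIn S (F.core ⊔ centralizerIn S F.core) := by
      intro s hs
      refine mem_nrm_of_forall hVS hs ?_
      have hm := map_conj F hVS hs
      have hn := StronglyClosed.le_normalizer (IsNormal.strong hQ)
      apply Map.maps_sup hm
      · intro x hx
        exact (le_sup_left : F.core ≤ _) (nrm_conj_mem (hn hs) hx)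
      · intro x hx
        apply (le_sup_right : centralizerIn S F.core ≤ _)
        have h4 := hm.cen_mem le_sup_left ((le_sup_right : centralizerIn S F.core ≤ _) hx) hx
        have h5 : im F.core (fun x => s * x * s⁻¹) = F.core :=
          StronglyClosed.im_eq (IsNormal.strong hQ) (map_conj F hQS hs) le_rfl
        rwa [h5] at h4
    apply lemmaR2 hS hF hQ hC
    · exact hV' _ hVS hVn hCS
    · intro P f hf
      refine hb F.core _ S E hFKN hQNK hSNK hENK le_rfl hEsat hsub (Or.inr ?_) cen_le ?_ P f ((hE P f).2 hf)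
      · obtain ⟨P, f, h1, h2⟩ := hsc
        exact ⟨P, f, h1, fun h => h2 ((hE P f).1 h)⟩
      · rintro P f ⟨e1, e2, g, e3, e4, e5⟩
        exact h0 P f ⟨e1, e2, g, hsub _ _ e3, e4, e5⟩


end red

end Cfsg.Agent.H27.Fus
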