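import Mathlib
import Cfsg.Agent.H1_CritQ
import Cfsg.Agent.H1_QdB
import Cfsg.Agent.H27_FusEss
import Cfsg.Agent.H27_FusHyp
import Cfsg.Agent.H27_FusNK2
import Cfsg.Agent.H27_GT3

/-! Small exponent subgroups and fusion systems: tools. -/

set_option autoImplicit false
set_option linter.all false

namespace Cfsg.Agent.H1.CritF

open Cfsg Cfsg.FusionSystem Cfsg.Agent.H27.Fus Cfsg.Agent.H27.Grp Cfsg.Agent.H1.CritQ

variable {Ω : Type*} [Group Ω] {S T P Q R : Subgroup Ω} {F : FusionSystem S} {p : ℕ} [Fact p.Prime] [Finite S]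
  {f g : Ω → Ω}

omit [Fact p.Prime] in
theorem iso_inf (hT : F.StronglyClosed T) (hf : Iso F P P f) : Iso F (T ⊓ P) (T ⊓ P) f := by
  have h1 := StronglyClosed.im_inf hT hf.map
  rw [hf.im_eq] at h1
  exact (hf.map.mono inf_le_right).iso_of_im_eq h1

omit [Fact p.Prime] [Finite S] in
theorem aut_pow_apply (hQP : Q ≤ P) {α : MulAut P} (hi : Iso F Q Q (totA α)) :
    ∀ (n : ℕ) (x : Q), ((hi.aut ^ n) x : Ω) = ((α ^ n) ⟨x, hQP x.2⟩ : P) := by
  intro n
  induction n with
  | zero => intro x; rfl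
  | succ n ih =>
    intro x
    rw [pow_succ', pow_succ', MulAut.mul_apply, MulAut.mul_apply, Iso.aut_apply]
    have h1 := ih x
    rw [h1, totA_apply]

/-- the coprime condition -/
def CopT (F : FusionSystem S) (p : ℕ) (T : Subgroup Ω) : Prop :=
  ∀ P ≤ S, ∀ α ∈ F.autGroup P, (orderOf α).Coprime p → ∀ x : P, (x : Ω)⁻¹ * (α x : P) ∈ T

omit [Finite S] in
theorem copT_hyp : CopT F p (F.hyperfocalSubgroup p) := fun P hP α hα hc x => mem_hyp hP (mem_opR_of hα hc) x

omit [Finite S] in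
theorem copT_foc : CopT F p F.focalSubgroup := fun P hP α hα hc x => hyp_le_foc (p := p) (mem_hyp hP (mem_opR_of hα hc) x)

omit [Fact p.Prime] [Finite S] in
theorem foc_strong : F.StronglyClosed F.focalSubgroup := by
  rw [stronglyClosed_iff]
  refine ⟨foc_le, fun P f hf x hx hxf => ?_⟩
  have := F.focalSubgroup.mul_mem hxf (mem_foc hf hx)
  rwa [mul_inv_cancel_left] at this

/-- a subgroup of exponent `p` or `4` -/
theorem crit_sub (hS : IsPGroup p S) (hT : F.StronglyClosed T) (hTc : CopT F p T) (hP : P ≤ S) :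
    ∃ D ≤ T ⊓ P, (∀ x ∈ D, x ^ qq p = 1) ∧ (∀ f, Iso F P P f → ∀ x ∈ D, f x ∈ D) ∧
      ∀ α ∈ F.autGroup P, (orderOf α).Coprime p → (∀ x : P, (x : Ω) ∈ D → α x = x) → α = 1 := by
  have hfP : Finite P := finite_of_le hP
  have hfT : Finite (T ⊓ P : Subgroup Ω) := finite_of_le (inf_le_right : _ ≤ P)
  have hTp : IsPGroup p (T ⊓ P : Subgroup Ω) := isPGroup_mono hS (inf_le_right.trans hP)
  obtain ⟨D, hD, hDq, hDa⟩ := exists_critQ hTp
  refine ⟨D.map (T ⊓ P).subtype, Subgroup.map_subtype_le _, ?_, ?_, ?_⟩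
  · rintro _ ⟨x, hx, rfl⟩
    exact congrArg Subtype.val (hDq x hx)
  · rintro f hf _ ⟨x, hx, rfl⟩
    have hi := iso_inf hT hf
    refine ⟨hi.aut x, ?_, rfl⟩
    have h1 := Subgroup.characteristic_iff_map_le.1 hD hi.aut
    exact h1 ⟨x, hx, rfl⟩
  · intro α hα hc hfix
    have hiP := (mem_autGroup_iff hP).1 hα
    have hi := iso_inf hT hiP
    have hle : T ⊓ P ≤ P := inf_le_right
    have hpow := aut_pow_apply hle hi
    have h1 : hi.aut = 1 := by
      apply hDa
      · apply Nat.Coprime.coprime_dvd_left _ hc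
        apply orderOf_dvd_of_pow_eq_one
        ext x
        rw [hpow, pow_orderOf_eq_one]; rfl
      · intro x hx
        apply Subtype.ext
        rw [Iso.aut_apply, totA_of_mem α (hle x.2)]
        exact congrArg Subtype.val (hfix ⟨x, hle x.2⟩ ⟨x, hx, rfl⟩)
    ext x
    have h2 := H2.Critical.fixed_of_coprime (isPGroup_mono hS hP) α hc x ?_
    · rw [h2]; rfl
    · have h3 : ((x⁻¹ * α x : P) : Ω) ∈ T ⊓ P := ⟨hTc P hP α hα hc x, (x⁻¹ * α x).2⟩
      have h4 : hi.aut ⟨_, h3⟩ = ⟨_, h3⟩ := by rw [h1]; rfl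
      have h5 := congrArg Subtype.val h4
      rw [Iso.aut_apply, totA_apply] at h5
      exact Subtype.ext h5

/-- a group whose elements of order prime to `p` are trivial is a `p`-group -/
theorem pgroup_of_coprime {G : Type*} [Group G] {p : ℕ} [Fact p.Prime] {K : Subgroup G} [Finite K]
    (h : ∀ x ∈ K, (orderOf x).Coprime p → x = 1) : IsPGroup p K := by
  rintro ⟨x, hx⟩
  have hfin : IsOfFinOrder x := by
    have := isOfFinOrder_of_finite (⟨x, hx⟩ : K)
    exact MonoidHom.isOfFinOrder K.subtype this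
  have h0 : orderOf x ≠ 0 := hfin.orderOf_pos.ne'
  obtain ⟨k, m, hm, hk⟩ := Nat.exists_eq_pow_mul_and_not_dvd h0 p (Fact.out : p.Prime).ne_one
  refine ⟨k, Subtype.ext ?_⟩
  show x ^ p ^ k = 1
  apply h _ (K.pow_mem hx _)
  rw [orderOf_pow' x (pow_ne_zero _ (Fact.out : p.Prime).ne_zero), hk, Nat.gcd_eq_right (Dvd.intro _ rfl),
    Nat.mul_div_cancel_left _ (pow_pos (Fact.out : p.Prime).pos _)]
  exact ((Nat.Prime.coprime_iff_not_dvd Fact.out).2 hm).symm

theorem not_ess (hS : IsPGroup p S) (hF : F.IsSaturated p) (hess : F.IsEssential p P) (K : Subgroup (MulAut P))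
    (hK : K ≤ F.autGroup P) (hKn : F.autGroup P ≤ Subgroup.normalizer (K : Set (MulAut P)))
    (hSK : autInducedBy S P ≤ K) (hp' : ∀ α ∈ K, (orderOf α).Coprime p → α = 1) : False := by
  have hPS : P ≤ S := hess.1.1
  have hfP : Finite P := finite_of_le hPS
  have hKp : IsPGroup p K := pgroup_of_coprime hp'
  have hrad := essential_radical hS hess
  have h1 : (K.subgroupOf (F.autGroup P)).Normal := ⟨fun x hx g => by
    rw [Subgroup.mem_subgroupOf] at hx ⊢
    exact (Subgroup.mem_normalizer_iff.1 (hKn g.2) _).1 hx⟩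
  have h2 : IsPGroup p (K.subgroupOf (F.autGroup P)) := hKp.comap_of_injective _ (Subgroup.subtype_injective _)
  have h3 := Cfsg.Agent.H1.Nilp.le_pCore h1 h2
  have h4 : K ≤ Inn P := by
    rw [← hrad.2]
    intro α hα
    exact ⟨⟨α, hK hα⟩, h3 (Subgroup.mem_subgroupOf.2 hα), rfl⟩
  have hlt := essential_lt hS hF hess
  obtain ⟨x, hxS, hxP, hxN⟩ := exists_mem_normalizer_of_lt hS hlt
  have h5 := h4 (hSK (cjA_mem hxN hxS))
  obtain ⟨y, hy, hyx⟩ := mem_inn.1 h5
  apply hxP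
  have h6 : y⁻¹ * x ∈ centralizerIn S P := by
    refine mem_cen.2 ⟨S.mul_mem (S.inv_mem (hPS hy)) hxS, fun z hz => ?_⟩
    have h7 := hyx ⟨z, hz⟩
    rw [cjA_apply] at h7
    have h8 : x * z * x⁻¹ = y * z * y⁻¹ := h7
    calc z * (y⁻¹ * x) = y⁻¹ * (y * z * y⁻¹) * x := by group
      _ = y⁻¹ * (x * z * x⁻¹) * x := by rw [h8]
      _ = _ := by group
  have h9 := IsCentric.cen_le hess.1 h6
  have := P.mul_mem hy h9
  rwa [mul_inv_cancel_left] at this

/-- if there are no essential subgroups, `S` is normal -/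
theorem normal_top_of (hS : IsPGroup p S) (hF : F.IsSaturated p) (h : ∀ P, ¬ F.IsEssential p P) : F.IsNormal S := by
  apply normal_of_essential hS hF
  rintro P (rfl | hP)
  · exact ⟨le_rfl, fun f hf => hf.im_eq⟩
  · exact absurd hP (h P)

end Cfsg.Agent.H1.CritF
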