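import Mathlib
import Cfsg.Agent.H1_CritF

/-! Small exponent subgroups and fusion systems: normality of `S`, inner systems. -/

set_option autoImplicit false
set_option linter.all false

namespace Cfsg.Agent.H1.CritF

open Cfsg Cfsg.FusionSystem Cfsg.Agent.H27.Fus Cfsg.Agent.H27.Grp Cfsg.Agent.H1.CritQ
open scoped commutatorElement

section zs

variable {Ω : Type*} [Group Ω] {S T P Q R : Subgroup Ω} {F : FusionSystem S} {p : ℕ}

/-- `Z_i(S)` -/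
def Zs (S : Subgroup Ω) (i : ℕ) : Subgroup Ω := (Subgroup.upperCentralSeries S i).map S.subtype

theorem mem_Zs {i : ℕ} {x : Ω} : x ∈ Zs S i ↔ ∃ h : x ∈ S, (⟨x, h⟩ : S) ∈ Subgroup.upperCentralSeries S i := by
  constructor
  · rintro ⟨y, hy, rfl⟩; exact ⟨y.2, hy⟩
  · rintro ⟨h, h'⟩; exact ⟨⟨x, h⟩, h', rfl⟩

theorem Zs_zero : Zs S 0 = ⊥ := by
  unfold Zs; rw [Subgroup.upperCentralSeries_zero, Subgroup.map_bot]

theorem exists_Zs [Fact p.Prime] [Finite S] (hS : IsPGroup p S) : ∃ n, Zs S n = S := by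
  haveI := hS.isNilpotent
  refine ⟨Group.nilpotencyClass S, ?_⟩
  unfold Zs
  rw [Subgroup.upperCentralSeries_nilpotencyClass]
  exact top_map_subtype S

theorem Zs_conj {i : ℕ} {x s : Ω} (hx : x ∈ Zs S (i + 1)) (hs : s ∈ S) : x⁻¹ * (s * x * s⁻¹) ∈ Zs S i := by
  obtain ⟨hxS, hx'⟩ := mem_Zs.1 hx
  refine mem_Zs.2 ⟨S.mul_mem (S.inv_mem hxS) (S.mul_mem (S.mul_mem hs hxS) (S.inv_mem hs)), ?_⟩
  have h1 := (Subgroup.mem_upperCentralSeries_succ_iff.1 (Subgroup.inv_mem _ hx')) ⟨s, hs⟩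
  have h2 : (⟨x⁻¹ * (s * x * s⁻¹), S.mul_mem (S.inv_mem hxS) (S.mul_mem (S.mul_mem hs hxS) (S.inv_mem hs))⟩ : S) =
      ⁅(⟨x, hxS⟩ : S)⁻¹, ⟨s, hs⟩⁆ := by
    apply Subtype.ext
    rw [commutatorElement_def]
    simp only [Subgroup.coe_mul, Subgroup.coe_inv]
    group
  rw [h2]; exact h1

theorem Zs_aut {f : Ω → Ω} (hf : Iso F S S f) {i : ℕ} {x : Ω} (hx : x ∈ Zs S i) : f x ∈ Zs S i := by
  obtain ⟨hxS, hx'⟩ := mem_Zs.1 hx
  refine ⟨hf.aut ⟨x, hxS⟩, ?_, rfl⟩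
  have h1 := Subgroup.characteristic_iff_map_le.1 (inferInstance : (Subgroup.upperCentralSeries S i).Characteristic) hf.aut
  exact h1 ⟨_, hx', rfl⟩

end zs

variable {Ω : Type*} [Group Ω] {S T P Q R D : Subgroup Ω} {F : FusionSystem S} {p : ℕ} [Fact p.Prime] [Finite S]
  {f g : Ω → Ω}

theorem trivial_of_chain (hS : IsPGroup p S) (hP : P ≤ S) {Z : ℕ → Subgroup Ω} (h0 : Z 0 = ⊥) (hn : ∃ n, S ≤ Z n)
    {α : MulAut P} (hc : (orderOf α).Coprime p)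
    (hαD : ∀ x : P, (x : Ω) ∈ D → ((α x : P) : Ω) ∈ D)
    (hα : ∀ i, ∀ x : P, (x : Ω) ∈ D → (x : Ω) ∈ Z (i + 1) → (x : Ω)⁻¹ * (α x : P) ∈ Z i) :
    ∀ x : P, (x : Ω) ∈ D → α x = x := by
  have hfP : Finite P := finite_of_le hP
  have key : ∀ i, ∀ x : P, (x : Ω) ∈ D → (x : Ω) ∈ Z i → α x = x := by
    intro i
    induction i with
    | zero =>
      intro x _ hx
      rw [h0, Subgroup.mem_bot] at hx
      have : x = 1 := Subtype.ext hx
      rw [this, map_one]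
    | succ i ih =>
      intro x hxD hx
      apply H2.Critical.fixed_of_coprime (isPGroup_mono hS hP) α hc
      exact ih _ (D.mul_mem (D.inv_mem hxD) (hαD x hxD)) (hα i x hxD hx)
  obtain ⟨n, hn⟩ := hn
  exact fun x hx => key n x hx (hn (hP x.2))

/-- the stabiliser of a chain -/
def KC (F : FusionSystem S) (P D : Subgroup Ω) (Z : ℕ → Subgroup Ω)
    (hinv : ∀ α ∈ F.autGroup P, ∀ i, ∀ x : P, (x : Ω) ∈ D → (x : Ω) ∈ Z i → ((α x : P) : Ω) ∈ D ∧ ((α x : P) : Ω) ∈ Z i) :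
    Subgroup (MulAut P) where
  carrier := {α | α ∈ F.autGroup P ∧ ∀ i, ∀ x : P, (x : Ω) ∈ D → (x : Ω) ∈ Z (i + 1) → (x : Ω)⁻¹ * (α x : P) ∈ Z i}
  one_mem' := ⟨Subgroup.one_mem _, fun i x _ _ => by simp [(Z i).one_mem]⟩
  mul_mem' := by
    rintro α β ⟨hα, hα'⟩ ⟨hβ, hβ'⟩
    refine ⟨Subgroup.mul_mem _ hα hβ, fun i x hx hxi => ?_⟩
    have h1 := hβ' i x hx hxi
    obtain ⟨h3, h4⟩ := hinv β hβ (i + 1) x hx hxi
    have h2 := hα' i (β x) h3 h4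
    rw [MulAut.mul_apply]
    have e : (x : Ω)⁻¹ * (α (β x) : P) = ((x : Ω)⁻¹ * (β x : P)) * (((β x : P) : Ω)⁻¹ * (α (β x) : P)) := by group
    rw [e]; exact (Z i).mul_mem h1 h2
  inv_mem' := by
    rintro α ⟨hα, hα'⟩
    refine ⟨Subgroup.inv_mem _ hα, fun i x hx hxi => ?_⟩
    obtain ⟨h3, h4⟩ := hinv α⁻¹ (Subgroup.inv_mem _ hα) (i + 1) x hx hxi
    have h1 := hα' i (α⁻¹ x) h3 h4
    rw [MulAut.apply_inv_self] at h1
    have h2 := (Z i).inv_mem h1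
    rw [mul_inv_rev, inv_inv] at h2
    exact h2

omit [Fact p.Prime] [Finite S] in
theorem KC_normal {Z : ℕ → Subgroup Ω}
    (hinv : ∀ α ∈ F.autGroup P, ∀ i, ∀ x : P, (x : Ω) ∈ D → (x : Ω) ∈ Z i → ((α x : P) : Ω) ∈ D ∧ ((α x : P) : Ω) ∈ Z i) :
    F.autGroup P ≤ Subgroup.normalizer ((KC F P D Z hinv : Subgroup (MulAut P)) : Set (MulAut P)) := by
  apply Cfsg.Agent.H1.QdA.normalizer_of
  rintro γ hγ α ⟨hα, hα'⟩
  refine ⟨Subgroup.mul_mem _ (Subgroup.mul_mem _ hγ hα) (Subgroup.inv_mem _ hγ), fun i x hx hxi => ?_⟩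
  set y := γ⁻¹ x with hy
  have hxy : x = γ y := by rw [hy, MulAut.apply_inv_self]
  obtain ⟨h3, h4⟩ := hinv γ⁻¹ (Subgroup.inv_mem _ hγ) (i + 1) x hx hxi
  have h1 := hα' i y h3 h4
  have h2 : (γ * α * γ⁻¹) x = γ (α y) := by rw [MulAut.mul_apply, MulAut.mul_apply]
  have h5 := (hinv α hα (i + 1) y h3 h4).1
  have h6 : ((y⁻¹ * α y : P) : Ω) ∈ D := D.mul_mem (D.inv_mem h3) h5
  have h7 := (hinv γ hγ i (y⁻¹ * α y) h6 h1).2
  rw [h2, hxy]
  rw [map_mul, map_inv] at h7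
  exact h7

theorem no_ess (hS : IsPGroup p S) (hF : F.IsSaturated p) (hT : F.StronglyClosed T) (hTc : CopT F p T)
    (h : ∀ P f, Map F P f → ∀ x ∈ P, x ∈ T → x ^ qq p = 1 → ∃ φ, Iso F S S φ ∧ φ x = f x) :
    ∀ P, ¬ F.IsEssential p P := by
  intro P hess
  have hP : P ≤ S := hess.1.1
  obtain ⟨D, hD, hDq, hDi, hDc⟩ := crit_sub hS hT hTc hP
  have hinv : ∀ α ∈ F.autGroup P, ∀ i, ∀ x : P, (x : Ω) ∈ D → (x : Ω) ∈ Zs S i →
      ((α x : P) : Ω) ∈ D ∧ ((α x : P) : Ω) ∈ Zs S i := by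
    intro α hα i x hx hxi
    have hi := (mem_autGroup_iff hP).1 hα
    obtain ⟨φ, hφ, hφx⟩ := h P _ hi.map x x.2 (hD hx).1 (hDq _ hx)
    have h1 := Zs_aut hφ hxi
    rw [hφx, totA_apply] at h1
    have h2 := hDi _ hi x hx
    rw [totA_apply] at h2
    exact ⟨h2, h1⟩
  refine not_ess hS hF hess (KC F P D (Zs S) hinv) (fun α hα => hα.1) (KC_normal hinv) ?_ ?_
  · intro α hα
    obtain ⟨s, hs, hsx⟩ := mem_autInducedBy.1 hα
    refine ⟨autInducedBy_le_autGroup F hP hα, fun i x hx hxi => ?_⟩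
    rw [hsx]; exact Zs_conj hxi hs
  · rintro α ⟨hα, hα'⟩ hc
    apply hDc α hα hc
    obtain ⟨n, hn⟩ := exists_Zs (p := p) hS
    refine trivial_of_chain hS hP (Z := Zs S) Zs_zero ⟨n, hn.ge⟩ hc ?_ hα'
    intro x hx
    have hi := (mem_autGroup_iff hP).1 hα
    have h2 := hDi _ hi x hx
    rwa [totA_apply] at h2

theorem inner_of (hS : IsPGroup p S) (hF : F.IsSaturated p) (hT : F.StronglyClosed T) (hTc : CopT F p T)
    (h : ∀ P f, Map F P f → ∀ x ∈ P, x ∈ T → x ^ qq p = 1 → ∃ s ∈ S, f x = s * x * s⁻¹) :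
    F = innerFusionSystem S := by
  apply eq_inner_of_isPGroup hS hF
  intro P hP
  have hfP : Finite P := finite_of_le hP
  apply pgroup_of_coprime
  intro α hα hc
  obtain ⟨D, hD, hDq, hDi, hDc⟩ := crit_sub hS hT hTc hP
  have hi := (mem_autGroup_iff hP).1 hα
  apply hDc α hα hc
  obtain ⟨n, hn⟩ := exists_Zs (p := p) hS
  refine trivial_of_chain hS hP (Z := Zs S) Zs_zero ⟨n, hn.ge⟩ hc ?_ ?_
  · intro x hx
    have h2 := hDi _ hi x hx
    rwa [totA_apply] at h2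
  · intro i x hx hxi
    obtain ⟨s, hs, hsx⟩ := h P _ hi.map x x.2 (hD hx).1 (hDq _ hx)
    rw [totA_apply] at hsx
    rw [hsx]; exact Zs_conj hxi hs

theorem card_zpowers_qq {x : Ω} (hx : x ^ qq p = 1) (hx1 : x ≠ 1) :
    Nat.card (Subgroup.zpowers x) = p ∨ Nat.card (Subgroup.zpowers x) = 4 := by
  rw [Nat.card_zpowers]
  have h1 := orderOf_dvd_of_pow_eq_one hx
  have h2 : orderOf x ≠ 1 := fun h => hx1 (orderOf_eq_one_iff.1 h)
  by_cases hp : p = 2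
  · subst hp
    rw [qq_two] at h1
    have h3 : orderOf x ≤ 4 := Nat.le_of_dvd (by norm_num) h1
    interval_cases h : orderOf x
    · norm_num at h1
    · exact absurd rfl h2
    · exact Or.inl rfl
    · norm_num at h1
    · exact Or.inr rfl
  · rw [qq_ne hp] at h1
    exact Or.inl (((Fact.out : p.Prime).eq_one_or_self_of_dvd _ h1).resolve_left h2)

end Cfsg.Agent.H1.CritF
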