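import Mathlib
import Cfsg.Agent.H1_CritG
import Cfsg.Agent.H18_Replace

/-! Small exponent abelian subgroups control fusion. -/

set_option autoImplicit false
set_option linter.all false

namespace Cfsg.Agent.H1.CritF

open Cfsg Cfsg.FusionSystem Cfsg.Agent.H27.Fus Cfsg.Agent.H27.Grp Cfsg.Agent.H1.CritQ

variable {Ω : Type*} [Group Ω] {S T P Q R D : Subgroup Ω} {F : FusionSystem S} {p : ℕ} [Fact p.Prime] [Finite S]
  {f g : Ω → Ω}

theorem FKN_of_le (hS : IsPGroup p S) (hF : F.IsSaturated p) (hQ : F.IsFullyCentralized Q) {K : Subgroup (MulAut Q)}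
    (hK : K ≤ autInducedBy S Q) : FKN F Q K := by
  have hQS : Q ≤ S := hQ.1
  refine ⟨hQS, fun R f h => ?_⟩
  obtain ⟨g, hg, hgf⟩ := receptive_ext (fc_receptive hS hF hQ) h.symm
  have hle : NK S R (KT h K) ≤ ext S R (finv Q f) := by
    intro x hx
    obtain ⟨hxN, hxA⟩ := mem_NK.1 hx
    obtain ⟨κ, hκ, hκx⟩ := (actsIn_KT h).1 hxA
    obtain ⟨s, hs, hsx⟩ := mem_autInducedBy.1 (hK hκ)
    refine mem_ext.2 ⟨hxN.1, hxN.2, s, hs, fun y hy => ?_⟩
    obtain ⟨q, hq, rfl⟩ := h.surj y hy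
    have h1 := hκx ⟨q, hq⟩
    have h2 : x * f q * x⁻¹ = f (κ ⟨q, hq⟩) := h1
    rw [h2, h.finv_left (κ ⟨q, hq⟩).2, h.finv_left hq, hsx]
  have hfin : Finite ↥(NK S Q K) := finite_of_le NK_le
  refine card_le_of_map (hg.mono hle) fun x hx => ?_
  obtain ⟨hxN, hxA⟩ := mem_NK.1 hx
  obtain ⟨κ, hκ, hκx⟩ := (actsIn_KT h).1 hxA
  have hxe := hle hx
  have hRe : R ≤ ext S R (finv Q f) := h.symm.map.le_ext
  have key : ∀ q : Q, g x * q * (g x)⁻¹ = κ q := by
    intro q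
    have h1 : g (f q) = q := by rw [hgf _ (h.maps _ q.2), h.finv_left q.2]
    conv_lhs => rw [← h1]
    rw [← hg.conj hxe (hRe (h.maps _ q.2))]
    have h2 : x * f q * x⁻¹ = f (κ q) := hκx q
    rw [h2, hgf _ (h.maps _ (κ q).2), h.finv_left (κ q).2]
  refine mem_NK.2 ⟨⟨hg.mem hxe, autInducedBy_norm (K := ⊤) (α := κ) fun q => (key q).symm⟩, κ, hκ, fun q => (key q).symm⟩

omit [Fact p.Prime] in
/-- a maximal abelian normal subgroup inside `D` -/
theorem exists_max_abelian (hD : D ≤ P) [Finite P] : ∃ A ≤ D, (∀ a ∈ A, ∀ b ∈ A, a * b = b * a) ∧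
    (∀ x ∈ P, ∀ a ∈ A, x * a * x⁻¹ ∈ A) ∧ ∀ B ≤ D, (∀ a ∈ B, ∀ b ∈ B, a * b = b * a) →
      (∀ x ∈ P, ∀ a ∈ B, x * a * x⁻¹ ∈ B) → A ≤ B → A = B := by
  have hfin : {A : Subgroup Ω | A ≤ D ∧ (∀ a ∈ A, ∀ b ∈ A, a * b = b * a) ∧ (∀ x ∈ P, ∀ a ∈ A, x * a * x⁻¹ ∈ A)}.Finite :=
    (finite_subgroups_le P).subset fun A hA => hA.1.trans hD
  obtain ⟨A, hA⟩ := hfin.exists_maximal ⟨⊥, bot_le, by
    intro a ha b hb
    rw [Subgroup.mem_bot] at ha hb; rw [ha, hb], by
    intro x _ a ha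
    rw [Subgroup.mem_bot] at ha ⊢; rw [ha]; group⟩
  refine ⟨A, hA.prop.1, hA.prop.2.1, hA.prop.2.2, fun B h1 h2 h3 h4 => le_antisymm h4 (hA.2 ⟨h1, h2, h3⟩ h4)⟩

omit [Finite S] in
/-- self-centralising -/
theorem cent_max_abelian [Finite P] (hPp : IsPGroup p P) (hD : D ≤ P) (hDn : ∀ x ∈ P, ∀ d ∈ D, x * d * x⁻¹ ∈ D)
    {A : Subgroup Ω} (hA : A ≤ D) (hAc : ∀ a ∈ A, ∀ b ∈ A, a * b = b * a) (hAn : ∀ x ∈ P, ∀ a ∈ A, x * a * x⁻¹ ∈ A)
    (hmax : ∀ B ≤ D, (∀ a ∈ B, ∀ b ∈ B, a * b = b * a) → (∀ x ∈ P, ∀ a ∈ B, x * a * x⁻¹ ∈ B) → A ≤ B → A = B) :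
    ∀ d ∈ D, (∀ a ∈ A, a * d = d * a) → d ∈ A := by
  -- work in `P`
  set C : Subgroup Ω := D ⊓ Subgroup.centralizer (A : Set Ω) with hC
  have hAC : A ≤ C := fun a ha => ⟨hA ha, Subgroup.mem_centralizer_iff.2 fun b hb => hAc b hb a ha⟩
  have hCn : ∀ x ∈ P, ∀ c ∈ C, x * c * x⁻¹ ∈ C := by
    intro x hx c hc
    refine ⟨hDn x hx c hc.1, Subgroup.mem_centralizer_iff.2 fun b hb => ?_⟩
    have h1 := hAn x⁻¹ (P.inv_mem hx) b hb
    rw [inv_inv] at h1
    have h2 := (Subgroup.mem_centralizer_iff.1 hc.2) _ h1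
    calc b * (x * c * x⁻¹) = x * (x⁻¹ * b * x * c) * x⁻¹ := by group
      _ = _ := by rw [h2]; group
  by_contra hcon
  push Not at hcon
  obtain ⟨d, hd, hdA, hdn⟩ := hcon
  have hAP : A ≤ P := hA.trans hD
  -- quotient by `A`
  have hAn' : (A.subgroupOf P).Normal := ⟨fun a ha x => by
    rw [Subgroup.mem_subgroupOf] at ha ⊢
    exact hAn x x.2 a ha⟩
  let π := QuotientGroup.mk' (A.subgroupOf P)
  have hCn' : (C.subgroupOf P).Normal := ⟨fun a ha x => by
    rw [Subgroup.mem_subgroupOf] at ha ⊢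
    exact hCn x x.2 a ha⟩
  have hM : ((C.subgroupOf P).map π).Normal := hCn'.map _ (QuotientGroup.mk'_surjective _)
  have hMb : (C.subgroupOf P).map π ≠ ⊥ := by
    intro h
    apply hdn
    have h1 : π ⟨d, hD hd⟩ ∈ (C.subgroupOf P).map π := ⟨_, ⟨hd, Subgroup.mem_centralizer_iff.2 hdA⟩, rfl⟩
    rw [h, Subgroup.mem_bot] at h1
    exact (QuotientGroup.eq_one_iff (N := A.subgroupOf P) (⟨d, hD hd⟩ : P)).1 h1
  have h1 := H2.PGroup.inf_center_ne_bot (hPp.to_quotient (A.subgroupOf P)) hMb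
  obtain ⟨y, hy1⟩ := Subgroup.ne_bot_iff_exists_ne_one.1 h1
  obtain ⟨⟨c, hc, hcy⟩, hyz⟩ := y.2
  have hcC : (c : Ω) ∈ C := hc
  have hcA : (c : Ω) ∉ A := by
    intro h
    apply hy1
    apply Subtype.ext
    rw [← hcy]
    exact (QuotientGroup.eq_one_iff _).2 h
  have hcz : ∀ x ∈ P, (x * c * x⁻¹) * (c : Ω)⁻¹ ∈ A := by
    intro x hx
    have h2 := Subgroup.mem_center_iff.1 hyz (π ⟨x, hx⟩)
    rw [← hcy] at h2
    have h3 : π (⟨x, hx⟩ * c * ⟨x, hx⟩⁻¹ * c⁻¹) = 1 := by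
      rw [map_mul, map_mul, map_mul, map_inv, map_inv, h2]; group
    exact (QuotientGroup.eq_one_iff (N := A.subgroupOf P) _).1 h3
  -- `B = A ⟨c⟩`
  set B := A ⊔ Subgroup.zpowers (c : Ω) with hB
  have hcAn : ∀ a ∈ A, a * (c : Ω) = c * a := (Subgroup.mem_centralizer_iff.1 hcC.2)
  have hBc : ∀ a ∈ B, ∀ b ∈ B, a * b = b * a := by
    have h2 : IsMulCommutative ↥(A ⊔ Subgroup.zpowers (c : Ω)) := by
      refine H18.Replace.isMulCommutative_sup (H18.Replace.isMulCommutative_of hAc) inferInstance ?_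
      rintro a ha _ ⟨k, rfl⟩
      exact ((show Commute a (c : Ω) from hcAn a ha).zpow_right k)
    intro a ha b hb
    exact H18.Replace.comm_of h2 ha hb
  have hBD : B ≤ D := sup_le hA (by rw [Subgroup.zpowers_le]; exact hcC.1)
  have hBn : ∀ x ∈ P, ∀ a ∈ B, x * a * x⁻¹ ∈ B := by
    intro x hx
    have h2 : B ≤ B.comap (MulAut.conj x).toMonoidHom := by
      refine sup_le ?_ ?_
      · intro a ha
        exact Subgroup.mem_sup_left (hAn x hx a ha)
      · rw [Subgroup.zpowers_le]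
        show x * c * x⁻¹ ∈ B
        have h3 : x * c * x⁻¹ = (x * c * x⁻¹ * (c : Ω)⁻¹) * c := by group
        rw [h3]
        exact B.mul_mem (Subgroup.mem_sup_left (hcz x hx)) (Subgroup.mem_sup_right (Subgroup.mem_zpowers _))
    exact fun a ha => h2 ha
  have h2 := hmax B hBD hBc hBn le_sup_left
  apply hcA
  rw [h2]
  exact Subgroup.mem_sup_right (Subgroup.mem_zpowers _)

omit [Finite S] in
theorem trivial_on_D [Finite P] (hPp : IsPGroup p P) (hD : D ≤ P) (hDn : ∀ x ∈ P, ∀ d ∈ D, x * d * x⁻¹ ∈ D)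
    {A : Subgroup Ω} (hA : A ≤ D) (hAn : ∀ x ∈ P, ∀ a ∈ A, x * a * x⁻¹ ∈ A)
    (hself : ∀ d ∈ D, (∀ a ∈ A, a * d = d * a) → d ∈ A) {α : MulAut P} (hc : (orderOf α).Coprime p)
    (hαD : ∀ x : P, (x : Ω) ∈ D → ((α x : P) : Ω) ∈ D) (hαA : ∀ x : P, (x : Ω) ∈ A → α x = x) :
    ∀ x : P, (x : Ω) ∈ D → α x = x := by
  intro d hd
  apply H2.Critical.fixed_of_coprime hPp α hc
  apply hαA
  apply hself _ (D.mul_mem (D.inv_mem hd) (hαD d hd))
  intro a ha
  have haP : a ∈ P := hD (hA ha)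
  have h1 : α ⟨a, haP⟩ = ⟨a, haP⟩ := hαA ⟨a, haP⟩ ha
  have h2 : α (d * ⟨a, haP⟩ * d⁻¹) = d * ⟨a, haP⟩ * d⁻¹ := hαA _ (hAn d d.2 a ha)
  rw [map_mul, map_mul, map_inv, h1] at h2
  have h3 : ⟨a, haP⟩ * (d⁻¹ * α d) = d⁻¹ * α d * ⟨a, haP⟩ := by
    calc ⟨a, haP⟩ * (d⁻¹ * α d) = d⁻¹ * (d * ⟨a, haP⟩ * d⁻¹) * α d := by group
      _ = d⁻¹ * (α d * ⟨a, haP⟩ * (α d)⁻¹) * α d := by rw [h2]
      _ = _ := by group
  exact congrArg Subtype.val h3

theorem small_agree {E : FusionSystem S} (hS : IsPGroup p S) (hE : E.IsSaturated p) (hF : F.IsSaturated p)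
    (hEF : ∀ P f, Map E P f → Map F P f) (hT : F.StronglyClosed T) (hTc : CopT F p T)
    (h : ∀ A ≤ T, (∀ a ∈ A, ∀ b ∈ A, a * b = b * a) → (∀ a ∈ A, a ^ qq p = 1) → ∀ f, Map F A f → Map E A f) :
    ∀ P f, Map F P f → Map E P f := by
  have hEFi : ∀ {P Q : Subgroup Ω} {f : Ω → Ω}, Iso E P Q f → Iso F P Q f := fun hi => ⟨hEF _ _ hi.map, hi.maps, hi.surj⟩
  have key : ∀ (n : ℕ) (P : Subgroup Ω), Nat.card S - Nat.card P = n → ∀ f, Map F P f → Map E P f := by
    intro n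
    induction n using Nat.strong_induction_on with
    | _ n ih =>
    intro P hn f hf
    have hPS := hf.le
    have IH : ∀ Q : Subgroup Ω, Nat.card P < Nat.card Q → ∀ g, Map F Q g → Map E Q g := by
      intro Q hPQ g hg
      have h1 := card_le_of_le hg.le
      exact ih _ (by omega) Q rfl g hg
    have hfP : Finite P := finite_of_le hPS
    have hPp := isPGroup_mono hS hPS
    obtain ⟨D, hD, hDq, hDi, hDc⟩ := crit_sub hS hT hTc hPS
    have hDP : D ≤ P := hD.trans inf_le_right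
    have hconj : ∀ x ∈ P, Iso F P P (fun y => x * y * x⁻¹) := by
      intro x hx
      refine ⟨map_conj F hPS (hPS hx), fun y hy => P.mul_mem (P.mul_mem hx hy) (P.inv_mem hx), fun y hy => ?_⟩
      exact ⟨x⁻¹ * y * x, P.mul_mem (P.mul_mem (P.inv_mem hx) hy) hx, by group⟩
    have hDn : ∀ x ∈ P, ∀ d ∈ D, x * d * x⁻¹ ∈ D := fun x hx d hd => hDi _ (hconj x hx) d hd
    obtain ⟨A, hAD, hAc, hAn, hAmax⟩ := exists_max_abelian hDP
    have hself := cent_max_abelian hPp hDP hDn hAD hAc hAn hAmax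
    have hAq : ∀ a ∈ A, a ^ qq p = 1 := fun a ha => hDq a (hAD ha)
    have hAT : A ≤ T := fun a ha => (hD (hAD ha)).1
    have hAP : A ≤ P := hAD.trans hDP
    have hAS : A ≤ S := hAP.trans hPS
    -- a fully normalised conjugate
    obtain ⟨A', hAA', hA'F⟩ := exists_fullyNormalized F hAS
    obtain ⟨φ₀, hφ₀⟩ := isConj_iff.1 hAA'
    have hφ₀E : Iso E A A' φ₀ := ⟨h A hAT hAc hAq _ hφ₀.map, hφ₀.maps, hφ₀.surj⟩
    have hA'E : E.IsFullyNormalized A' := by
      refine ⟨hA'F.1, fun R hR => hA'F.2 R ?_⟩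
      obtain ⟨k, hk⟩ := isConj_iff.1 hR
      exact (hEFi hk).isConj
    obtain ⟨φ, hφ, hφA, hφN⟩ := fn_nrm_map hS hE hA'E hφ₀E.isConj
    have hPN : P ≤ normalizerIn S A := fun x hx => mem_nrm_of_forall hAS (hPS hx) (hAn x hx)
    have hφP : Map E P φ := hφ.mono hPN
    -- the image of `A` under `f`
    have hfA : Iso F A (im A f) f := (hf.mono hAP).iso
    set B := im A f with hB
    have hBT : B ≤ T := by
      intro y hy
      obtain ⟨x, hx, rfl⟩ := hfA.surj y hy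
      exact (stronglyClosed_iff.1 hT).2 P f hf x (hAP hx) (hAT hx)
    have hBc : ∀ a ∈ B, ∀ b ∈ B, a * b = b * a := by
      intro a ha b hb
      obtain ⟨x, hx, rfl⟩ := hfA.surj a ha
      obtain ⟨y, hy, rfl⟩ := hfA.surj b hb
      rw [← hfA.map.mul hx hy, ← hfA.map.mul hy hx, hAc x hx y hy]
    have hBq : ∀ a ∈ B, a ^ qq p = 1 := by
      intro a ha
      obtain ⟨x, hx, rfl⟩ := hfA.surj a ha
      rw [← hfA.map.pow hx, hAq x hx, hfA.map.one]
    have hχF : Iso F B A' (φ ∘ finv A f) := hfA.symm.trans (hEFi hφA)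
    have hχ : Iso E B A' (φ ∘ finv A f) := ⟨h B hBT hBc hBq _ hχF.map, hχF.maps, hχF.surj⟩
    have hfi := hf.iso
    set R := im P f with hR
    have hBR : B ≤ R := hf.im_mono hAP
    have hext : R ≤ ext S B (φ ∘ finv A f) := by
      intro y hy
      obtain ⟨x, hx, rfl⟩ := hfi.surj y hy
      have hyB : ∀ a ∈ A, f x * f a * (f x)⁻¹ = f (x * a * x⁻¹) := fun a ha => (hf.conj hx (hAP ha)).symm
      have hyn : f x ∈ normalizerIn S B := by
        refine mem_nrm_of_forall hfA.le' (hf.mem hx) fun b hb => ?_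
        obtain ⟨a, ha, rfl⟩ := hfA.surj b hb
        rw [hyB a ha]; exact hfA.maps _ (hAn x hx a ha)
      refine mem_ext.2 ⟨hf.mem hx, hyn.2, φ x, hφP.mem hx, fun b hb => ?_⟩
      obtain ⟨a, ha, rfl⟩ := hfA.surj b hb
      show φ (finv A f (f x * f a * (f x)⁻¹)) = φ x * φ (finv A f (f a)) * (φ x)⁻¹
      rw [hyB a ha, hfA.finv_left (hAn x hx a ha), hfA.finv_left ha, hφP.conj hx (hAP ha)]
    obtain ⟨ψ, hψ, hψχ⟩ := receptive_ext' (fn_receptive hS hE hA'E) hχ hext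
    have hψf : ∀ a ∈ A, ψ (f a) = φ a := by
      intro a ha
      rw [hψχ _ (hfA.maps a ha)]
      show φ (finv A f (f a)) = φ a
      rw [hfA.finv_left ha]
    have hφi := hφP.iso
    have hψi := hψ.iso
    set P₁ := im P φ with hP₁
    set P₂ := im R ψ with hP₂
    have hcard : Nat.card P₁ = Nat.card P := hφP.card_im
    have hδ : Iso F P₁ P₂ (ψ ∘ f ∘ finv P φ) := ((hEFi hφi).symm.trans hfi).trans (hEFi hψi)
    set δ := ψ ∘ f ∘ finv P φ with hδdef
    have hA'P₁ : A' ≤ P₁ := by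
      rw [← hφA.im_eq]; exact hφP.im_mono hAP
    have hδA : ∀ a ∈ A', δ a = a := by
      intro a ha
      obtain ⟨b, hb, rfl⟩ := hφA.surj a ha
      show ψ (f (finv P φ (φ b))) = φ b
      rw [hφi.finv_left (hAP hb), hψf b hb]
    have hP₁S : P₁ ≤ S := hφP.im_le
    have hP₁n : ∀ x ∈ P₁, ∀ a ∈ A', x * a * x⁻¹ ∈ A' := by
      intro x hx a ha
      obtain ⟨y, hy, rfl⟩ := hφi.surj x hx
      obtain ⟨b, hb, rfl⟩ := hφA.surj a ha
      rw [← hφP.conj hy (hAP hb)]
      exact hφA.maps _ (hAn y hy b hb)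
    have hA'S : A' ≤ S := hA'F.1
    have hP₁N : P₁ ≤ normalizerIn S A' := fun x hx => mem_nrm_of_forall hA'S (hP₁S hx) (hP₁n x hx)
    set K := autInducedBy P₁ A' with hK
    have hKS : K ≤ autInducedBy S A' := by
      intro κ hκ
      obtain ⟨s, hs, hsx⟩ := mem_autInducedBy.1 hκ
      exact mem_autInducedBy.2 ⟨s, hP₁S hs, hsx⟩
    have hFKN := FKN_of_le hS hF (fn_fc hS hF hA'F) hKS
    have hF's := NKsys_saturated hS hF hFKN
    set N' := NK S A' K with hN'
    have hN'S : N' ≤ S := NK_le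
    have hfN' : Finite ↥N' := finite_of_le hN'S
    set F' := NKsys F A' K hFKN.1 with hF'
    have hF'F : ∀ Q k, Map F' Q k → Map F Q k := by
      intro Q k hk
      obtain ⟨-, -, g, hg, hgk, -⟩ := (map_NKsys (hQ := hFKN.1)).1 hk
      exact (hg.mono le_sup_left).congr hgk
    have hP₁N' : P₁ ≤ N' := fun x hx => mem_NK.2 ⟨hP₁N hx, cjA A' x (hP₁N hx).2, cjA_mem _ hx, fun y => rfl⟩
    have hδN' : ∀ x ∈ P₁, δ x ∈ N' := by
      intro x hx
      obtain ⟨y, hy, rfl⟩ := hφi.surj x hx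
      have h1 : δ (φ y) = ψ (f y) := by
        show ψ (f (finv P φ (φ y))) = ψ (f y)
        rw [hφi.finv_left hy]
      rw [h1]
      have h2 : ∀ a ∈ A', ψ (f y) * a * (ψ (f y))⁻¹ = φ y * a * (φ y)⁻¹ := by
        intro a ha
        obtain ⟨b, hb, rfl⟩ := hφA.surj a ha
        have h3 := hfi.maps y hy
        have h4 := hfi.maps b (hAP hb)
        conv_lhs => rw [← hψf b hb]
        rw [← hψ.conj h3 h4, ← hf.conj hy (hAP hb), hψf _ (hAn y hy b hb), hφP.conj hy (hAP hb)]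
      have h5 : φ y ∈ P₁ := hφi.maps y hy
      have h6 : ψ (f y) ∈ normalizerIn S A' := mem_nrm_of_forall hA'S (hψ.mem (hfi.maps y hy)) (by
        intro a ha; rw [h2 a ha]; exact hP₁n _ h5 a ha)
      exact mem_NK.2 ⟨h6, cjA A' (φ y) (hP₁N h5).2, cjA_mem _ h5, fun a => (h2 a a.2).symm⟩
    have hδF' : Map F' P₁ δ := by
      refine (map_NKsys (hQ := hFKN.1)).2 ⟨hP₁N', hδN', δ, ?_, fun _ _ => rfl, 1, K.one_mem, fun x => (hδA x x.2).symm⟩
      rw [sup_eq_left.2 hA'P₁]; exact hδ.map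
    -- `Aut_{F'}(P₁)` is a `p`-group
    have hfP₁ : Finite P₁ := finite_of_le hP₁S
    have hfA' : Finite A' := finite_of_le hA'S
    have hauto : IsPGroup p (F'.autGroup P₁) := by
      apply pgroup_of_coprime
      intro α hα hc
      have hαi := (mem_autGroup_iff hP₁N').1 hα
      have hαF : α ∈ F.autGroup P₁ := (mem_autGroup_iff hP₁S).2 ⟨hF'F _ _ hαi.map, hαi.maps, hαi.surj⟩
      obtain ⟨-, -, g, hg, hgα, κ, hκ, hκg⟩ := (map_NKsys (hQ := hFKN.1)).1 hαi.map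
      have h1 : ∀ x : A', (κ x : Ω) = (α ⟨x, hA'P₁ x.2⟩ : P₁) := by
        intro x
        rw [hκg, hgα x (hA'P₁ x.2), totA_of_mem α (hA'P₁ x.2)]
      have h2 : ∀ n : ℕ, ∀ x : A', ((κ ^ n) x : Ω) = ((α ^ n) ⟨x, hA'P₁ x.2⟩ : P₁) := by
        intro n
        induction n with
        | zero => intro x; rfl
        | succ n ihn =>
          intro x
          rw [pow_succ', pow_succ', MulAut.mul_apply, MulAut.mul_apply, h1]
          congr 2
          exact Subtype.ext (ihn x)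
      have h3 : κ = 1 := by
        have h4 : orderOf κ ∣ orderOf α := by
          apply orderOf_dvd_of_pow_eq_one
          ext x
          rw [h2, pow_orderOf_eq_one]; rfl
        obtain ⟨m, hm⟩ := (isPGroup_autInducedBy hS (P := A')).to_le hKS ⟨κ, hκ⟩
        have h5 : orderOf κ ∣ p ^ m := orderOf_dvd_of_pow_eq_one (congrArg Subtype.val hm)
        have h6 : orderOf κ ∣ 1 := by
          rw [← (hc.pow_right m)]
          exact Nat.dvd_gcd h4 h5
        rwa [Nat.dvd_one, orderOf_eq_one_iff] at h6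
      -- transport to `P`
      have hφF := hEFi hφi
      rw [← hφF.map_autGroup] at hαF
      obtain ⟨β, hβ, rfl⟩ := hαF
      have hβc : (orderOf β).Coprime p := by
        have h7 : orderOf ((MulAut.congr hφF.equiv).toMonoidHom β) = orderOf β := orderOf_injective _ (MulAut.congr hφF.equiv).injective β
        rwa [h7] at hc
      have hβi := (mem_autGroup_iff hPS).1 hβ
      have hβA : ∀ x : P, (x : Ω) ∈ A → β x = x := by
        intro x hx
        have h8 : ((MulAut.congr hφF.equiv).toMonoidHom β) (hφF.equiv x) = hφF.equiv (β x) := congr_equiv_apply hφF β x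
        have h9 : ((hφF.equiv x : P₁) : Ω) ∈ A' := hφA.maps x hx
        have h10 := h1 ⟨_, h9⟩
        rw [h3] at h10
        have h11 : ((MulAut.congr hφF.equiv).toMonoidHom β) (hφF.equiv x) = hφF.equiv x := Subtype.ext h10.symm
        rw [h8] at h11
        exact hφF.equiv.injective h11
      have hβD : ∀ x : P, (x : Ω) ∈ D → ((β x : P) : Ω) ∈ D := by
        intro x hx
        have := hDi _ hβi x hx
        rwa [totA_apply] at this
      have h12 := hDc β hβ hβc (trivial_on_D hPp hDP hDn hAD hAn hself hβc hβD hβA)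
      rw [h12, map_one]
    have hauto' : ∀ Q, F'.IsConj P₁ Q → IsPGroup p (F'.autGroup Q) := by
      intro Q hQ
      obtain ⟨k, hk⟩ := isConj_iff.1 hQ
      rw [← hk.map_autGroup]
      exact hauto.map _
    -- Alperin in `F'`
    have hN'p : IsPGroup p N' := isPGroup_mono hS hN'S
    have hCls : SubCls F' (fun Q k => ∀ R' ≤ Q, F'.IsConj P₁ R' → Map E R' k) := by
      refine ⟨?_, ?_, ?_, ?_⟩
      · intro Q k l hk hkl R' hR' hc
        exact (hk R' hR' hc).congr fun x hx => hkl x (hR' hx)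
      · intro Q Q' k hk hQQ R' hR' hc
        exact hk R' (hR'.trans hQQ) hc
      · intro Q Q' k l hkF hlF hk hl hm R' hR' hc
        have h1 := hk R' hR' hc
        have h2 := (hkF.mono hR').iso
        have h3 := hl (im R' k) (by
          intro y hy
          obtain ⟨x, hx, rfl⟩ := h2.surj y hy
          exact hm x (hR' hx)) (isConj_trans hc h2.isConj)
        exact h3.comp h1 fun x hx => h2.maps x hx
      · intro Q Q' k hi hk R' hR' hc
        have h1 := (hi.symm.map.mono hR').iso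
        have h2 : im R' (finv Q k) ≤ Q := by
          intro y hy
          obtain ⟨x, hx, rfl⟩ := h1.surj y hy
          exact hi.finv_mem (hR' hx)
        have h3 := hk _ h2 (isConj_trans hc h1.isConj)
        have h4 : Iso E (im R' (finv Q k)) R' k := by
          refine ⟨h3, fun y hy => ?_, fun x hx => ⟨finv Q k x, h1.maps x hx, hi.finv_right (hR' hx)⟩⟩
          obtain ⟨x, hx, rfl⟩ := h1.surj y hy
          rw [hi.finv_right (hR' hx)]; exact hx
        refine h4.symm.map.congr fun x hx => ?_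
        have h5 := h1.maps x hx
        apply hi.map.inj (h2 (h4.finv_mem hx)) (hi.finv_mem (hR' hx))
        rw [h4.finv_right hx, hi.finv_right (hR' hx)]
    have hbig : ∀ Q R' : Subgroup Ω, Q ≤ S → F'.IsConj P₁ R' → R' < Q → ∀ k, Map F Q k → Map E Q k := by
      intro Q R' hQS hc hlt k hk
      apply IH Q _ k hk
      have hfQ : Finite Q := finite_of_le hQS
      rw [← hcard, isConj_card hc]
      exact card_lt_of_lt hlt
    have hall := alperin hN'p hF's hCls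
      (by
        intro k hk R' hR' hc
        rcases eq_or_lt_of_le hR' with rfl | hlt
        · have h1 := (isFullyAutomized_iff.1 (fn_automized hN'p hF's (fn_top F'))).2
          have h2 := h1.eq_of_isPGroup (hauto' _ hc)
          have h3 := hk.aut_mem
          rw [← h2] at h3
          obtain ⟨s, hs, hsx⟩ := mem_autInducedBy.1 h3
          exact (map_conj E hN'S (hN'S hs)).congr fun x hx => (hsx ⟨x, hx⟩).symm
        · exact (hbig _ _ hN'S hc hlt k (hF'F _ _ hk.map)).mono hR')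
      (by
        intro Q hQ k hk R' hR' hc
        rcases eq_or_lt_of_le hR' with rfl | hlt
        · exact absurd hQ (not_essential_of_isPGroup (hauto' _ hc))
        · exact (hbig _ _ (hQ.1.1.trans hN'S) hc hlt k (hF'F _ _ hk.map)).mono hR')
      P₁ δ hδF'
    have hδE : Map E P₁ δ := hall P₁ le_rfl (isConj_refl F' hP₁N')
    have hδE' : Iso E P₁ P₂ δ := ⟨hδE, hδ.maps, hδ.surj⟩
    have hfin := (hφi.trans hδE').trans hψi.symm
    refine hfin.map.congr fun x hx => ?_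
    show finv R ψ (ψ (f (finv P φ (φ x)))) = f x
    rw [hφi.finv_left hx, hψi.finv_left (hfi.maps x hx)]
  exact fun P f hf => key _ P rfl f hf

end Cfsg.Agent.H1.CritF
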