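import Mathlib
import Cfsg.Agent.H1_Basic
import Cfsg.Agent.H1_Frob
import Cfsg.Prelude.Def_Solvable

set_option autoImplicit false

open Pointwise
open Cfsg.Agent.H1.Basic Cfsg.Agent.H1.Frob

namespace Cfsg.Agent.H1.Frob2

section

variable {G : Type*} [Group G]

theorem card_le_two_mul [Finite G] {D : Subgroup G} (hD : Cfsg.IsFrobeniusComplement D) :
    Nat.card G ≤ 2 * Nat.card (conjUnion D) := by
  have h1 := card_conjUnion hD
  have h2 := D.card_mul_index
  have h3 : 1 < Nat.card D := D.one_lt_card_iff_ne_bot.mpr hD.1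
  nlinarith

/-- two Frobenius complements of the same group have conjugates meeting nontrivially -/
theorem exists_mem_both [Finite G] {D D' : Subgroup G} (hD : Cfsg.IsFrobeniusComplement D)
    (hD' : Cfsg.IsFrobeniusComplement D') : ∃ x, x ∈ conjUnion D ∧ x ∈ conjUnion D' := by
  by_contra hcon
  push Not at hcon
  have hdis : Disjoint (conjUnion D) (conjUnion D') := by
    rw [Set.disjoint_left]
    exact hcon
  have h1 : (conjUnion D ∪ conjUnion D').ncard = (conjUnion D).ncard + (conjUnion D').ncard :=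
    Set.ncard_union_eq hdis (Set.toFinite _) (Set.toFinite _)
  have h2 : conjUnion D ∪ conjUnion D' ⊆ ({1}ᶜ : Set G) := by
    rintro y (⟨hy, -⟩ | ⟨hy, -⟩) <;> exact hy
  have h3 := Set.ncard_le_ncard h2 (Set.toFinite _)
  have h4 := Set.ncard_add_ncard_compl ({1} : Set G)
  rw [Set.ncard_singleton] at h4
  have h5 : Nat.card (conjUnion D) = (conjUnion D).ncard := rfl
  have h6 : Nat.card (conjUnion D') = (conjUnion D').ncard := rfl
  have h7 := card_le_two_mul hD
  have h8 := card_le_two_mul hD'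
  have h9 : 0 < Nat.card G := Nat.card_pos
  omega

theorem frob_of_inf {H : Subgroup G} (hH : Cfsg.IsFrobeniusComplement H) {L : Subgroup G} {g : G}
    (hL : ¬ L ≤ MulAut.conj g • H) {x : G} (hxL : x ∈ L) (hx : x ∈ MulAut.conj g • H) (hx1 : x ≠ 1) :
    Cfsg.IsFrobeniusComplement ((MulAut.conj g • H).subgroupOf L) := by
  refine ⟨?_, ?_, ?_⟩
  · intro hb
    have h1 : (⟨x, hxL⟩ : L) ∈ (MulAut.conj g • H).subgroupOf L := Subgroup.mem_subgroupOf.mpr hx
    rw [hb, Subgroup.mem_bot] at h1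
    exact hx1 (congrArg Subtype.val h1)
  · rw [Ne, Subgroup.subgroupOf_eq_top]; exact hL
  · intro y hy
    rw [eq_bot_iff]
    rintro z ⟨hz1, hz2⟩
    rw [Subgroup.mem_bot]
    by_contra hz
    have hz2' : y⁻¹ * z * y ∈ (MulAut.conj g • H).subgroupOf L := mem_conj.mp hz2
    have hz1' : z ∈ (MulAut.conj g • H).subgroupOf L := hz1
    apply hy
    rw [Subgroup.mem_subgroupOf] at hz2' hz1' ⊢
    have h1 : (z : G) ∈ MulAut.conj ((y : G) * g) • H := by
      rw [← conj_conj, mem_conj]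
      exact hz2'
    have h2 : (z : G) ≠ 1 := fun h => hz (Subtype.ext h)
    have h3 := conj_eq_of_mem hH hz1' h1 h2
    rw [mem_conj]
    have h4 : g⁻¹ * (y : G) * g = g⁻¹ * ((y : G) * g) := by group
    rw [h4]; exact h3

theorem dichotomy [Finite G] {H : Subgroup G} (hH : Cfsg.IsFrobeniusComplement H) {L : Subgroup G}
    (hL : ∀ g : G, ¬ L ≤ MulAut.conj g • H) :
    (∀ x ∈ L, x ∉ conjUnion H) ∨ ∃ D : Subgroup L, Cfsg.IsFrobeniusComplement D ∧
      ∀ x : L, (x : G) ∈ conjUnion H ↔ x ∈ conjUnion D := by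
  by_cases hcase : ∀ x ∈ L, x ∉ conjUnion H
  · exact Or.inl hcase
  right
  push Not at hcase
  obtain ⟨x, hxL, hx1, g, hxg⟩ := hcase
  have hD := frob_of_inf hH (hL g) hxL hxg hx1
  refine ⟨_, hD, fun y => ⟨?_, ?_⟩⟩
  · rintro ⟨hy1, g', hg'⟩
    have hD' := frob_of_inf hH (hL g') y.2 hg' hy1
    obtain ⟨z, ⟨hz1, a, ha⟩, ⟨-, b, hb⟩⟩ := exists_mem_both hD hD'
    have ha' : a⁻¹ * z * a ∈ (MulAut.conj g • H).subgroupOf L := mem_conj.mp ha
    have hb' : b⁻¹ * z * b ∈ (MulAut.conj g' • H).subgroupOf L := mem_conj.mp hb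
    rw [Subgroup.mem_subgroupOf] at ha' hb'
    have h1 : (z : G) ∈ MulAut.conj ((a : G) * g) • H := by
      rw [← conj_conj, mem_conj]; exact ha'
    have h2 : (z : G) ∈ MulAut.conj ((b : G) * g') • H := by
      rw [← conj_conj, mem_conj]; exact hb'
    have h3 := conj_eq_conj_of_mem hH h1 h2 (fun h => hz1 (Subtype.ext h))
    refine ⟨fun h => hy1 (by rw [h]; rfl), b⁻¹ * a, ?_⟩
    rw [mem_conj, Subgroup.mem_subgroupOf]
    have h4 : MulAut.conj g' • H = MulAut.conj (((b⁻¹ * a : L) : G) * g) • H := by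
      have h5 := congrArg (fun Z => MulAut.conj (b : G)⁻¹ • Z) h3
      simp only [conj_conj] at h5
      rw [inv_mul_cancel_left] at h5
      rw [← h5]
      congr 2
      push_cast
      group
    rw [h4, ← conj_conj, mem_conj] at hg'
    exact hg'
  · rintro ⟨hy1, b, hb⟩
    refine ⟨fun h => hy1 (Subtype.ext h), (b : G) * g, ?_⟩
    have hb' : b⁻¹ * y * b ∈ (MulAut.conj g • H).subgroupOf L := mem_conj.mp hb
    rw [Subgroup.mem_subgroupOf] at hb'
    rw [← conj_conj, mem_conj]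
    exact hb'

/-- fixed points on `G/H` -/
theorem card_fixedBy [Finite G] {H : Subgroup G} (hH : Cfsg.IsFrobeniusComplement H) (a : G)
    (ha : a ≠ 1) [Decidable (a ∈ conjUnion H)] :
    Nat.card (MulAction.fixedBy (G ⧸ H) a) = if a ∈ conjUnion H then 1 else 0 := by
  have hmem : ∀ g : G, (QuotientGroup.mk g : G ⧸ H) ∈ MulAction.fixedBy (G ⧸ H) a ↔
      a ∈ MulAut.conj g • H := by
    intro g
    rw [MulAction.mem_fixedBy, mem_conj]
    change (QuotientGroup.mk (a * g) : G ⧸ H) = QuotientGroup.mk g ↔ _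
    rw [eq_comm, QuotientGroup.eq, mul_assoc]
  split_ifs with h
  · obtain ⟨-, g, hg⟩ := h
    rw [Nat.card_eq_one_iff_unique]
    refine ⟨⟨?_⟩, ⟨⟨QuotientGroup.mk g, (hmem g).mpr hg⟩⟩⟩
    rintro ⟨c, hc⟩ ⟨d, hd⟩
    obtain ⟨c, rfl⟩ := QuotientGroup.mk_surjective c
    obtain ⟨d, rfl⟩ := QuotientGroup.mk_surjective d
    apply Subtype.ext
    rw [QuotientGroup.eq]
    exact conj_eq_of_mem hH ((hmem c).mp hc) ((hmem d).mp hd) ha
  · rw [Nat.card_eq_zero]
    left
    constructor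
    rintro ⟨c, hc⟩
    obtain ⟨c, rfl⟩ := QuotientGroup.mk_surjective c
    exact h ⟨ha, c, (hmem c).mp hc⟩

theorem card_dvd_index_add [Finite G] {H : Subgroup G} (hH : Cfsg.IsFrobeniusComplement H)
    (L : Subgroup G) : Nat.card L ∣ H.index + Nat.card {x : L // (x : G) ∈ conjUnion H} := by
  classical
  have : Fintype L := Fintype.ofFinite L
  have : Fintype (G ⧸ H) := Fintype.ofFinite _
  have hfix : ∀ a : L, Fintype (MulAction.fixedBy (G ⧸ H) a) := fun a => Fintype.ofFinite _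
  have : Fintype (Quotient (MulAction.orbitRel L (G ⧸ H))) := Fintype.ofFinite _
  have h1 := MulAction.sum_card_fixedBy_eq_card_orbits_mul_card_group L (G ⧸ H)
  have h2 : ∑ a : L, Fintype.card (MulAction.fixedBy (G ⧸ H) a) =
      H.index + Nat.card {x : L // (x : G) ∈ conjUnion H} := by
    have h3 : ∀ a : L, Fintype.card (MulAction.fixedBy (G ⧸ H) a) =
        (if a = 1 then H.index else 0) + (if (a : G) ∈ conjUnion H then 1 else 0) := by
      intro a
      by_cases ha : a = 1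
      · subst ha
        have h4 : ((1 : L) : G) ∉ conjUnion H := fun h => h.1 rfl
        rw [if_pos rfl, if_neg h4, add_zero, Subgroup.index_eq_card, ← Nat.card_eq_fintype_card]
        have h5 : MulAction.fixedBy (G ⧸ H) (1 : L) = Set.univ := by
          ext c
          simp
        rw [h5, Nat.card_coe_set_eq, Set.ncard_univ]
      · have ha' : (a : G) ≠ 1 := fun h => ha (Subtype.ext h)
        rw [if_neg ha, zero_add, ← card_fixedBy hH (a : G) ha', ← Nat.card_eq_fintype_card]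
        rfl
    rw [Finset.sum_congr rfl (fun a _ => h3 a), Finset.sum_add_distrib]
    congr 1
    · simp
    · rw [Finset.sum_boole, Nat.cast_id, Nat.card_eq_fintype_card, Fintype.card_subtype]
  rw [← h2, h1, ← Nat.card_eq_fintype_card (α := L)]
  exact dvd_mul_left _ _

/-- S0589 -/
theorem le_conj_of_card_dvd [Finite G] {H : Subgroup G} (hH : Cfsg.IsFrobeniusComplement H)
    {L : Subgroup G} (hL : Nat.card L ∣ Nat.card H) : ∃ x : G, L ≤ MulAut.conj x • H := by
  by_contra hcon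
  push Not at hcon
  have hL1 : 1 < Nat.card L := by
    rw [Subgroup.one_lt_card_iff_ne_bot]
    rintro rfl
    exact hcon 1 bot_le
  have h1 := card_dvd_index_add hH L
  have h2 : H.index ≡ 1 [MOD Nat.card L] := Nat.ModEq.of_dvd hL (index_mod_card hH)
  have h0 : H.index + Nat.card {x : L // (x : G) ∈ conjUnion H} ≡ 0 [MOD Nat.card L] :=
    (Nat.modEq_zero_iff_dvd).mpr h1
  rcases dichotomy hH hcon with h | ⟨D, hD, hDe⟩
  · have h3 : Nat.card {x : L // (x : G) ∈ conjUnion H} = 0 := by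
      rw [Nat.card_eq_zero]
      left
      exact ⟨fun x => h x.1 x.1.2 x.2⟩
    rw [h3, add_zero] at h0
    have h4 := h2.symm.trans h0
    have h5 : 1 % Nat.card L = 0 % Nat.card L := h4
    rw [Nat.mod_eq_of_lt hL1, Nat.zero_mod] at h5
    exact absurd h5 one_ne_zero
  · have h3 : Nat.card {x : L // (x : G) ∈ conjUnion H} = Nat.card (conjUnion D) := by
      apply Nat.card_congr
      exact Equiv.subtypeEquivRight hDe
    have h4 := card_conjUnion hD
    rw [h3] at h0
    have h5 : D.index + Nat.card (conjUnion D) ≡ 0 [MOD Nat.card L] := by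
      rw [add_comm, h4]
      exact Nat.modEq_zero_iff_dvd.mpr dvd_rfl
    have h6 : H.index ≡ D.index [MOD Nat.card L] :=
      Nat.ModEq.add_right_cancel' _ (h0.trans h5.symm)
    have h7 : D.index ≡ 1 [MOD Nat.card L] := h6.symm.trans h2
    have h8 : 1 < D.index := Subgroup.one_lt_index_of_ne_top hD.2.1
    have h9 := D.card_mul_index
    have h10 : 1 < Nat.card D := D.one_lt_card_iff_ne_bot.mpr hD.1
    have h11 : D.index < Nat.card L := by nlinarith
    have h12 : D.index % Nat.card L = 1 % Nat.card L := h7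
    rw [Nat.mod_eq_of_lt h11, Nat.mod_eq_of_lt hL1] at h12
    omega

theorem conjUnion_conj {H : Subgroup G} {x g : G} :
    g * x * g⁻¹ ∈ conjUnion H ↔ x ∈ conjUnion H := by
  constructor
  · rintro ⟨h1, k, hk⟩
    refine ⟨fun h => h1 (by rw [h]; group), g⁻¹ * k, ?_⟩
    rw [mem_conj] at hk ⊢
    have : (g⁻¹ * k)⁻¹ * x * (g⁻¹ * k) = k⁻¹ * (g * x * g⁻¹) * k := by group
    rw [this]; exact hk
  · rintro ⟨h1, k, hk⟩
    refine ⟨fun h => h1 ?_, g * k, ?_⟩
    · have : x = g⁻¹ * (g * x * g⁻¹) * g := by group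
      rw [this, h]; group
    · rw [mem_conj] at hk ⊢
      have : (g * k)⁻¹ * (g * x * g⁻¹) * (g * k) = k⁻¹ * x * k := by group
      rw [this]; exact hk

theorem card_inter [Finite G] {H₀ : Subgroup G} (hH₀ : Cfsg.IsFrobeniusComplement H₀)
    (H : Subgroup G) : Nat.card ((conjUnion H₀ ∩ conjUnion H : Set G)) =
      H₀.index * Nat.card {x : H₀ // (x : G) ∈ conjUnion H} := by
  let e := sigmaEquiv hH₀
  have he : ∀ p : (G ⧸ H₀) × {h : H₀ // h ≠ 1}, ((p.2.1 : G) ∈ conjUnion H) ↔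
      ((e p : G) ∈ conjUnion H) := by
    intro p
    have h1 : ((e p : conjUnion H₀) : G) = p.1.out * (p.2.1 : G) * (p.1.out)⁻¹ := rfl
    rw [h1, conjUnion_conj]
  have e1 : {p : (G ⧸ H₀) × {h : H₀ // h ≠ 1} // (p.2.1 : G) ∈ conjUnion H} ≃
      {y : conjUnion H₀ // (y : G) ∈ conjUnion H} := e.subtypeEquiv he
  have e2 : {y : conjUnion H₀ // (y : G) ∈ conjUnion H} ≃ (conjUnion H₀ ∩ conjUnion H : Set G) :=
    { toFun := fun y => ⟨y.1.1, y.1.2, y.2⟩
      invFun := fun y => ⟨⟨y.1, y.2.1⟩, y.2.2⟩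
      left_inv := fun _ => rfl
      right_inv := fun _ => rfl }
  have e3 : {p : (G ⧸ H₀) × {h : H₀ // h ≠ 1} // (p.2.1 : G) ∈ conjUnion H} ≃
      (G ⧸ H₀) × {x : H₀ // (x : G) ∈ conjUnion H} :=
    { toFun := fun p => (p.1.1, ⟨p.1.2.1, p.2⟩)
      invFun := fun p => ⟨(p.1, ⟨p.2.1, fun h => p.2.2.1 (by rw [h]; rfl)⟩), p.2.2⟩
      left_inv := fun _ => rfl
      right_inv := fun _ => rfl }
  rw [← Nat.card_congr (e1.trans e2), Nat.card_congr e3, Nat.card_prod, ← Subgroup.index_eq_card]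

theorem arith_aux {n h h0 i i0 e d u u0 s t w v : ℕ} (c1 : u + i = n) (c2 : u0 + i0 = n)
    (c4 : h * i = n) (c5 : h0 * i0 = n) (c7 : d * e = h0) (c6 : s + e = h0) (c3 : t = i0 * s)
    (h5 : w + t = u0 + u) (h4 : 1 + v = n) (h3 : w ≤ v) (he : 1 < e) (hd : 0 < d)
    (hle : h0 ≤ h) : False := by
  have c8 : i0 * s + i0 * e = n := by
    rw [← mul_add, c6, mul_comm]; exact c5
  have h11 : 2 * d ≤ h0 := by nlinarith
  have h12 : 2 * d ≤ h := h11.trans hle
  have h13 : n = i0 * e * d := by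
    rw [← c5, ← c7]; ring
  have h14 : 2 * i ≤ i0 * e := by
    apply Nat.le_of_mul_le_mul_right _ hd
    rw [← h13, ← c4]
    calc 2 * i * d = (2 * d) * i := by ring
      _ ≤ h * i := Nat.mul_le_mul_right _ h12
  have h15 : 2 * i0 ≤ i0 * e := by nlinarith
  omega

theorem arith_aux' {n h h0 i i0 u u0 w v : ℕ} (c1 : u + i = n) (c2 : u0 + i0 = n)
    (c4 : h * i = n) (c5 : h0 * i0 = n) (h5 : w + 0 = u0 + u) (h4 : 1 + v = n) (h3 : w ≤ v)
    (b1 : 1 < h) (b2 : 1 < h0) : False := by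
  have d1 : 2 * i ≤ n := by nlinarith
  have d2 : 2 * i0 ≤ n := by nlinarith
  omega

/-- S0037 -/
theorem conj_le_of_card_le [Finite G] {H H₀ : Subgroup G} (hH : Cfsg.IsFrobeniusComplement H)
    (hH₀ : Cfsg.IsFrobeniusComplement H₀) (hle : Nat.card H₀ ≤ Nat.card H) :
    ∃ g : G, MulAut.conj g • H₀ ≤ H := by
  by_contra hcon
  push Not at hcon
  have hcon' : ∀ g : G, ¬ H₀ ≤ MulAut.conj g • H := by
    intro g hg
    apply hcon g⁻¹
    have := (conj_le_conj (g := g⁻¹)).mpr hg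
    rwa [conj_conj, inv_mul_cancel, conj_one] at this
  have c1 := card_conjUnion hH
  have c2 := card_conjUnion hH₀
  have c3 := card_inter hH₀ H
  have c4 := H.card_mul_index
  have c5 := H₀.card_mul_index
  have b1 : 1 < Nat.card H := H.one_lt_card_iff_ne_bot.mpr hH.1
  have b2 : 1 < Nat.card H₀ := H₀.one_lt_card_iff_ne_bot.mpr hH₀.1
  have h2 : conjUnion H₀ ∪ conjUnion H ⊆ ({1}ᶜ : Set G) := by
    rintro y (⟨hy, -⟩ | ⟨hy, -⟩) <;> exact hy
  have h3 := Set.ncard_le_ncard h2 (Set.toFinite _)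
  have h4 := Set.ncard_add_ncard_compl ({1} : Set G)
  rw [Set.ncard_singleton] at h4
  have h5 := Set.ncard_union_add_ncard_inter (conjUnion H₀) (conjUnion H)
  have h6 : Nat.card (conjUnion H) = (conjUnion H).ncard := rfl
  have h7 : Nat.card (conjUnion H₀) = (conjUnion H₀).ncard := rfl
  have h8 : Nat.card ((conjUnion H₀ ∩ conjUnion H : Set G)) = (conjUnion H₀ ∩ conjUnion H).ncard := rfl
  rw [h6] at c1
  rw [h7] at c2
  rw [h8] at c3
  rcases dichotomy hH hcon' with h | ⟨D, hD, hDe⟩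
  · have h9 : Nat.card {x : H₀ // (x : G) ∈ conjUnion H} = 0 := by
      rw [Nat.card_eq_zero]
      left
      exact ⟨fun x => h x.1 x.1.2 x.2⟩
    rw [h9, mul_zero] at c3
    rw [c3] at h5
    exact arith_aux' c1 c2 c4 c5 h5 h4 h3 b1 b2
  · have h9 : Nat.card {x : H₀ // (x : G) ∈ conjUnion H} = Nat.card (conjUnion D) := by
      apply Nat.card_congr
      exact Equiv.subtypeEquivRight hDe
    have c6 := card_conjUnion hD
    have c7 := D.card_mul_index
    rw [h9] at c3
    exact arith_aux c1 c2 c4 c5 c7 c6 c3 h5 h4 h3 (Subgroup.one_lt_index_of_ne_top hD.2.1)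
      Nat.card_pos hle

end

end Cfsg.Agent.H1.Frob2
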