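import Mathlib
import Cfsg.Agent.H1_Frob2
import Cfsg.Agent.H1_Fixed
import Cfsg.Agent.H1_Coprime2
import Cfsg.Agent.H1_Fpf
import Cfsg.Agent.H1_Schmidt2
import Cfsg.Agent.H9_FrobKer
import Cfsg.Agent.H24_FrobSyl

set_option autoImplicit false

open Pointwise
open scoped commutatorElement
open Cfsg.Agent.H1.Basic Cfsg.Agent.H1.Frob Cfsg.Agent.H1.Frob2 Cfsg.Agent.H1.Schmidt

namespace Cfsg.Agent.H1.Frob3

section

variable {G : Type*} [Group G]

theorem cyclic_eq_of_card_eq {C : Type*} [Group C] [Finite C] [hC : IsCyclic C] {H K : Subgroup C}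
    (h : Nat.card H = Nat.card K) : H = K := by
  classical
  let _ : Fintype C := Fintype.ofFinite C
  have key : ∀ L : Subgroup C, (Finset.univ.filter (· ∈ L)) =
      (Finset.univ.filter (fun x : C => x ^ Nat.card L = 1)) := by
    intro L
    apply Finset.eq_of_subset_of_card_le
    · intro x hx
      rw [Finset.mem_filter] at hx ⊢
      have := pow_card_eq_one' (x := (⟨x, hx.2⟩ : L))
      exact ⟨hx.1, congrArg Subtype.val this⟩
    · refine (IsCyclic.card_pow_eq_one_le (α := C) (n := Nat.card L) Nat.card_pos).trans ?_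
      rw [Nat.card_eq_fintype_card, Fintype.card_subtype]
  have h2 : (Finset.univ.filter (· ∈ H)) = (Finset.univ.filter (· ∈ K)) := by
    rw [key H, key K, h]
  ext x
  have h3 := congrArg (x ∈ ·) h2
  simpa using h3

theorem mem_zpowers_of_cyclic [Finite G] {C : Subgroup G} (hC : IsCyclic C) {a b : G} (ha : a ∈ C)
    (hb : b ∈ C) (h : orderOf a = orderOf b) : a ∈ Subgroup.zpowers b := by
  have h3 : Subgroup.zpowers (⟨a, ha⟩ : C) = Subgroup.zpowers ⟨b, hb⟩ := by
    apply cyclic_eq_of_card_eq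
    rw [Nat.card_zpowers, Nat.card_zpowers, ← Subgroup.orderOf_coe, ← Subgroup.orderOf_coe]
    exact h
  have h4 : (⟨a, ha⟩ : C) ∈ Subgroup.zpowers ⟨b, hb⟩ := h3 ▸ Subgroup.mem_zpowers _
  obtain ⟨k, hk⟩ := Subgroup.mem_zpowers_iff.mp h4
  rw [Subgroup.mem_zpowers_iff]
  exact ⟨k, congrArg Subtype.val hk⟩

theorem le_normalizer_center {A S : Subgroup G} (h : A ≤ Subgroup.normalizer (S : Set G)) :
    A ≤ Subgroup.normalizer (((Subgroup.center S).map S.subtype : Subgroup G) : Set G) := by
  have key : ∀ a ∈ Subgroup.normalizer (S : Set G), ∀ v ∈ (Subgroup.center S).map S.subtype,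
      a * v * a⁻¹ ∈ (Subgroup.center S).map S.subtype := by
    rintro a ha _ ⟨v, hv, rfl⟩
    have h2 : a * (v : G) * a⁻¹ ∈ S := (Subgroup.mem_normalizer_iff.mp ha _).mp v.2
    refine ⟨⟨_, h2⟩, ?_, rfl⟩
    refine Subgroup.mem_center_iff.mpr (fun s => Subtype.ext ?_)
    change (s : G) * (a * (v : G) * a⁻¹) = a * (v : G) * a⁻¹ * s
    have h3 : a⁻¹ * (s : G) * a ∈ S := by
      have := (Subgroup.mem_normalizer_iff.mp ((Subgroup.normalizer (S : Set G)).inv_mem ha) (s : G)).mp s.2
      rwa [inv_inv] at this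
    have h4 := Subgroup.mem_center_iff.mp hv ⟨_, h3⟩
    have h5 : a⁻¹ * (s : G) * a * (v : G) = (v : G) * (a⁻¹ * (s : G) * a) := congrArg Subtype.val h4
    calc (s : G) * (a * (v : G) * a⁻¹) = a * (a⁻¹ * (s : G) * a * (v : G)) * a⁻¹ := by group
      _ = a * ((v : G) * (a⁻¹ * (s : G) * a)) * a⁻¹ := by rw [h5]
      _ = _ := by group
  intro a ha
  have h1 := h ha
  rw [Subgroup.mem_normalizer_iff]
  intro v
  constructor
  · exact fun hv => key a h1 v hv
  · intro hv
    have := key a⁻¹ ((Subgroup.normalizer (S : Set G)).inv_mem h1) _ hv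
    have h6 : a⁻¹ * (a * v * a⁻¹) * a⁻¹⁻¹ = v := by group
    rwa [h6] at this

/-- for a coprime solvable group of operators there is an invariant nontrivial abelian subgroup -/
theorem exists_abelian_invariant [Finite G] {K A : Subgroup G} (hK : K ≠ ⊥)
    (hAK : A ≤ Subgroup.normalizer (K : Set G)) (hcop : (Nat.card A).Coprime (Nat.card K))
    (hs : Group.IsSolvable A) : ∃ V : Subgroup G, V ≤ K ∧ V ≠ ⊥ ∧ IsMulCommutative V ∧
      A ≤ Subgroup.normalizer (V : Set G) ∧ ∃ q : ℕ, q.Prime ∧ IsPGroup q V := by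
  obtain ⟨q, hq, hqK⟩ := Nat.exists_prime_and_dvd (Subgroup.one_lt_card_iff_ne_bot K |>.mpr hK).ne'
  have : Fact q.Prime := ⟨hq⟩
  obtain ⟨Q, hQ⟩ := H1.Coprime.invariant_sylow_exists A K hAK hcop (Or.inl hs) q
  set S : Subgroup G := (Q : Subgroup K).map K.subtype with hS
  have hScard : Nat.card S = Nat.card Q := Subgroup.card_map_of_injective K.subtype_injective
  have hQne : Nontrivial (Q : Subgroup K) := by
    rw [← Finite.one_lt_card_iff_nontrivial]
    exact (Subgroup.one_lt_card_iff_ne_bot _).mpr (Q.ne_bot_of_dvd_card hqK)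
  have hSne : Nontrivial S := by
    rw [← Finite.one_lt_card_iff_nontrivial, hScard]
    exact Finite.one_lt_card_iff_nontrivial.mpr hQne
  have hSp : IsPGroup q S := Q.isPGroup'.map K.subtype
  have hZ : Nontrivial (Subgroup.center S) := hSp.center_nontrivial
  refine ⟨(Subgroup.center S).map S.subtype, (Subgroup.map_subtype_le _).trans
    (Subgroup.map_subtype_le _), ?_, ?_, le_normalizer_center hQ, q, hq, ?_⟩
  · intro h
    have := (Subgroup.map_eq_bot_iff_of_injective _ S.subtype_injective).mp h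
    exact (Subgroup.nontrivial_iff_ne_bot _).mp hZ this
  · exact isMulCommutative_map _ inferInstance
  · exact (hSp.to_subgroup _).map _

/-- solvable subgroups of a fixed-point-free complement: cyclic if abelian or of order `pq` -/
theorem isCyclic_of_complement [Finite G] (K H : Subgroup G) [hKn : K.Normal] (hK : K ≠ ⊥)
    (hfpf : ∀ h ∈ H, h ≠ 1 → K ⊓ Subgroup.centralizer {h} = ⊥) (A : Subgroup G) (hAH : A ≤ H)
    (hs : Group.IsSolvable A)
    (hA : IsMulCommutative A ∨ ∃ p q : ℕ, p.Prime ∧ q.Prime ∧ Nat.card A = p * q) : IsCyclic A := by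
  have hcop := H24.FrobSyl.coprime_of_fpf K H hfpf
  obtain ⟨V, hVK, hVb, hVc, hAV, -⟩ := exists_abelian_invariant hK (A := A) (by
    rw [Subgroup.normalizer_eq_top K]; exact le_top)
    (Nat.Coprime.coprime_dvd_left (Subgroup.card_dvd_of_le hAH) hcop) hs
  refine H1.Fpf.isCyclic_of_fpf A V hVb hAV (fun a ha ha1 => ?_) hA
  rw [eq_bot_iff, ← hfpf a (hAH ha) ha1]
  exact inf_le_inf_right _ hVK

/-- a `q`-element of prime order normalizing a subgroup `W` of order `r` (with `⟨x⟩ ∩ W = 1`)
inside a fixed-point-free complement commutes with it -/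
theorem commute_of_prime [Finite G] (K H : Subgroup G) [hKn : K.Normal] (hK : K ≠ ⊥)
    (hfpf : ∀ h ∈ H, h ≠ 1 → K ⊓ Subgroup.centralizer {h} = ⊥) {x w : G} (hx : x ∈ H) (hw : w ∈ H)
    (hxp : (orderOf x).Prime) (hwp : (orderOf w).Prime)
    (hn : x * w * x⁻¹ ∈ Subgroup.zpowers w) : x * w = w * x := by
  by_cases hin : x ∈ Subgroup.zpowers w
  · obtain ⟨k, rfl⟩ := Subgroup.mem_zpowers_iff.mp hin
    exact ((Commute.refl w).zpow_left k).eq
  set A := Subgroup.zpowers x ⊔ Subgroup.zpowers w with hA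
  have hxn : Subgroup.zpowers x ≤ Subgroup.normalizer (Subgroup.zpowers w : Set G) := by
    rw [Subgroup.zpowers_le, ← conj_eq_iff_mem_normalizer]
    apply eq_of_le_of_card_ge' _ (card_conj x _).ge
    intro y hy
    rw [mem_conj] at hy
    obtain ⟨k, hk⟩ := Subgroup.mem_zpowers_iff.mp hy
    have h1 : y = (x * w * x⁻¹) ^ k := by
      rw [conj_zpow, hk]; group
    rw [h1]
    exact Subgroup.zpow_mem _ hn k
  have hinf : Subgroup.zpowers x ⊓ Subgroup.zpowers w = ⊥ := by
    by_contra hne
    obtain ⟨y, ⟨hy1, hy2⟩, hy3⟩ := (Subgroup.bot_or_exists_ne_one _).resolve_left hne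
    apply hin
    have h1 : Subgroup.zpowers y = Subgroup.zpowers x := by
      apply eq_of_le_of_card_ge' (Subgroup.zpowers_le.mpr hy1)
      have h2 : Nat.card (Subgroup.zpowers y) ∣ Nat.card (Subgroup.zpowers x) :=
        Subgroup.card_dvd_of_le (Subgroup.zpowers_le.mpr hy1)
      rw [Nat.card_zpowers, Nat.card_zpowers] at *
      rcases (Nat.dvd_prime hxp).mp h2 with h3 | h3
      · rw [orderOf_eq_one_iff] at h3; exact absurd h3 hy3
      · exact h3.ge
    have h3 : Subgroup.zpowers x ≤ Subgroup.zpowers w := by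
      rw [← h1]; exact Subgroup.zpowers_le.mpr hy2
    exact h3 (Subgroup.mem_zpowers x)
  have hcard : Nat.card A = orderOf x * orderOf w := by
    have h1 := card_sup_mul_card_inf hxn
    rw [hinf, Subgroup.card_bot, mul_one, Nat.card_zpowers, Nat.card_zpowers] at h1
    exact h1
  have hAH : A ≤ H := sup_le (Subgroup.zpowers_le.mpr hx) (Subgroup.zpowers_le.mpr hw)
  have hs : Group.IsSolvable A := by
    have hn' : ((Subgroup.zpowers w).subgroupOf A).Normal :=
      (Subgroup.normal_subgroupOf_iff_le_normalizer le_sup_right).mpr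
        (sup_le hxn Subgroup.le_normalizer)
    have h1 : IsMulCommutative ((Subgroup.zpowers w).subgroupOf A) := by
      apply isMulCommutative_of_forall
      intro a ha b hb
      exact Subtype.ext (comm_of_isMulCommutative (inferInstance : IsMulCommutative (Subgroup.zpowers w)) ha hb)
    have h2 : Group.IsSolvable ((Subgroup.zpowers w).subgroupOf A) := by
      open scoped IsMulCommutative in
      infer_instance
    have h3 : Nat.card (A ⧸ (Subgroup.zpowers w).subgroupOf A) = orderOf x := by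
      rw [← Subgroup.index_eq_card]
      have h4 := relIndex_mul_card (le_sup_right : Subgroup.zpowers w ≤ A)
      rw [hcard, Nat.card_zpowers] at h4
      exact Nat.eq_of_mul_eq_mul_right (orderOf_pos w) h4
    have h4 : IsCyclic (A ⧸ (Subgroup.zpowers w).subgroupOf A) := by
      have : Fact (orderOf x).Prime := ⟨hxp⟩
      exact isCyclic_of_prime_card h3
    have h5 : IsMulCommutative (A ⧸ (Subgroup.zpowers w).subgroupOf A) := IsCyclic.isMulCommutative
    have h6 : Group.IsSolvable (A ⧸ (Subgroup.zpowers w).subgroupOf A) := by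
      open scoped IsMulCommutative in
      infer_instance
    exact Cfsg.Agent.H1.Wiel.solvable_of_normal_quotient h2 h6
  have hcyc := isCyclic_of_complement K H hK hfpf A hAH hs (Or.inr ⟨_, _, hxp, hwp, hcard⟩)
  have hcomm : IsMulCommutative A := IsCyclic.isMulCommutative
  exact comm_of_isMulCommutative hcomm (Subgroup.mem_sup_left (Subgroup.mem_zpowers x))
    (Subgroup.mem_sup_right (Subgroup.mem_zpowers w))

/-- S0038 -/
theorem frobenius_complement_conj [Finite G] {H H₀ : Subgroup G}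
    (hH : Cfsg.IsFrobeniusComplement H) (hH₀ : Cfsg.IsFrobeniusComplement H₀)
    (hle : Nat.card H₀ ≤ Nat.card H) : ∃ g : G, MulAut.conj g • H₀ = H := by
  obtain ⟨g, hg⟩ := conj_le_of_card_le hH hH₀ hle
  refine ⟨g, ?_⟩
  by_contra hne
  -- replace `H₀` by its conjugate
  set J := MulAut.conj g • H₀ with hJ
  have hJb : J ≠ ⊥ := by
    intro h
    apply hH₀.1
    rw [← Subgroup.card_eq_one, ← card_conj g H₀, ← hJ, h, Subgroup.card_bot]
  have hJF : ∀ x : G, x ∉ J → J ⊓ MulAut.conj x • J = ⊥ := by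
    intro x hx
    rw [hJ, conj_conj]
    have h1 : g⁻¹ * (x * g) ∉ H₀ := by
      intro h
      apply hx
      rw [hJ, mem_conj, mul_assoc]; exact h
    have h2 := hH₀.2.2 _ h1
    have h3 := congrArg (fun Z => MulAut.conj g • Z) h2
    rw [Subgroup.smul_inf, conj_conj, mul_inv_cancel_left] at h3
    rw [h3]
    exact Subgroup.smul_bot _
  -- `J` is a Frobenius complement of `H`
  have hJH : Cfsg.IsFrobeniusComplement (J.subgroupOf H) := by
    refine ⟨?_, ?_, ?_⟩
    · intro h
      apply hJb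
      rw [← Subgroup.card_eq_one, ← card_subgroupOf hg, h, Subgroup.card_bot]
    · rw [Ne, Subgroup.subgroupOf_eq_top]
      intro h
      exact hne (le_antisymm hg h)
    · intro y hy
      rw [Subgroup.mem_subgroupOf] at hy
      rw [eq_bot_iff]
      rintro z ⟨hz1, hz2⟩
      have hz2' : y⁻¹ * z * y ∈ J.subgroupOf H := mem_conj.mp hz2
      have hz1' : z ∈ J.subgroupOf H := hz1
      rw [Subgroup.mem_subgroupOf] at hz1' hz2'
      have h4 : (z : G) ∈ J ⊓ MulAut.conj (y : G) • J := ⟨hz1', mem_conj.mpr hz2'⟩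
      rw [hJF _ hy, Subgroup.mem_bot] at h4
      exact Subtype.ext h4
  obtain ⟨K, -, hKn, hKc⟩ := H9.FrobKer.frobenius H hH
  have hKb : K ≠ ⊥ := by
    rintro rfl
    have h1 := hKc.card_mul_card
    rw [Subgroup.card_bot, one_mul] at h1
    exact hH.2.1 ((Subgroup.card_eq_iff_eq_top H).mp h1)
  have hfpf := (H1.Fixed.isFrobeniusComplement_iff K H hKc hKb hH.1).mp hH
  obtain ⟨N, -, hNn, hNc⟩ := H9.FrobKer.frobenius (J.subgroupOf H) hJH
  have hNb : N ≠ ⊥ := by
    rintro rfl
    have h1 := hNc.card_mul_card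
    rw [Subgroup.card_bot, one_mul] at h1
    exact hJH.2.1 ((Subgroup.card_eq_iff_eq_top _).mp h1)
  have hfpf' := (H1.Fixed.isFrobeniusComplement_iff N (J.subgroupOf H) hNc hNb hJH.1).mp hJH
  -- element of prime order in `J`
  obtain ⟨q, hq, hqJ⟩ := Nat.exists_prime_and_dvd
    (Subgroup.one_lt_card_iff_ne_bot (J.subgroupOf H) |>.mpr hJH.1).ne'
  have hqf : Fact q.Prime := ⟨hq⟩
  obtain ⟨x, hx⟩ := exists_prime_orderOf_dvd_card' (G := J.subgroupOf H) q hqJ
  have hxo : orderOf (x : H) = q := by rw [Subgroup.orderOf_coe]; exact hx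
  have hx1 : (x : H) ≠ 1 := by
    intro h; rw [h, orderOf_one] at hxo; exact hq.one_lt.ne hxo
  have hzs : Group.IsSolvable (Subgroup.zpowers (x : H)) := by
    open scoped IsMulCommutative in
    infer_instance
  have hcop := H24.FrobSyl.coprime_of_fpf N (J.subgroupOf H) hfpf'
  obtain ⟨V, hVN, hVb, hVc, hAV, r, hr, hVr⟩ := exists_abelian_invariant hNb (A := Subgroup.zpowers (x : H)) (by
    rw [Subgroup.normalizer_eq_top N]; exact le_top)
    (Nat.Coprime.coprime_dvd_left (Subgroup.card_dvd_of_le (Subgroup.zpowers_le.mpr x.2)) hcop) hzs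
  -- `V` is cyclic
  set V' := V.map H.subtype with hV'
  have hV'H : V' ≤ H := Subgroup.map_subtype_le _
  have hV'c : IsMulCommutative V' := isMulCommutative_map _ hVc
  have hV'cyc : IsCyclic V' := H24.FrobSyl.isCyclic_of_abelian K H hKb hfpf V' hV'H
  have hrf : Fact r.Prime := ⟨hr⟩
  have hrV : r ∣ Nat.card V := by
    obtain ⟨n, hn⟩ := IsPGroup.iff_card.mp hVr
    rcases Nat.eq_zero_or_pos n with h0 | h0
    · rw [h0, pow_zero] at hn
      exact absurd (Subgroup.card_eq_one.mp hn) hVb
    · rw [hn]; exact dvd_pow_self r h0.ne'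
  obtain ⟨w, hw⟩ := exists_prime_orderOf_dvd_card' (G := V) r hrV
  have hwo : orderOf (((w : H) : G)) = r := by
    rw [Subgroup.orderOf_coe, Subgroup.orderOf_coe]; exact hw
  have hxo' : orderOf (((x : H) : G)) = q := by rw [Subgroup.orderOf_coe]; exact hxo
  -- `⟨w⟩` is `x`-invariant
  have hconjV : (x : H) * (w : H) * (x : H)⁻¹ ∈ V :=
    (Subgroup.mem_normalizer_iff.mp (hAV (Subgroup.mem_zpowers _)) _).mp w.2
  have hzw : (((x : H) : G)) * (w : H) * (((x : H) : G))⁻¹ ∈ Subgroup.zpowers (((w : H) : G)) := by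
    -- in the cyclic group `V'` subgroups of the same order coincide
    have h1 : (((x : H) : G)) * (w : H) * (((x : H) : G))⁻¹ ∈ V' := ⟨_, hconjV, rfl⟩
    have h2 : (((w : H) : G)) ∈ V' := ⟨_, w.2, rfl⟩
    set a : V' := ⟨_, h1⟩ with ha
    set b : V' := ⟨_, h2⟩ with hb
    have oa : orderOf a = orderOf b := by
      rw [← Subgroup.orderOf_coe, ← Subgroup.orderOf_coe, ha, hb]
      exact (MulEquiv.orderOf_eq (MulAut.conj (((x : H) : G))) (((w : H) : G)))
    have h3 : Subgroup.zpowers a = Subgroup.zpowers b := by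
      apply cyclic_eq_of_card_eq
      rw [Nat.card_zpowers, Nat.card_zpowers, oa]
    have h4 : a ∈ Subgroup.zpowers b := h3 ▸ Subgroup.mem_zpowers a
    obtain ⟨k, hk⟩ := Subgroup.mem_zpowers_iff.mp h4
    rw [Subgroup.mem_zpowers_iff]
    exact ⟨k, congrArg Subtype.val hk⟩
  have hcomm := commute_of_prime K H hKb hfpf (x := ((x : H) : G)) (w := ((w : H) : G)) (x : H).2
    (w : H).2 (by rw [hxo']; exact hq) (by rw [hwo]; exact hr) hzw
  -- contradiction
  have h5 : (w : H) ∈ N ⊓ Subgroup.centralizer {(x : H)} := by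
    refine ⟨hVN w.2, ?_⟩
    show (w : H) ∈ Subgroup.centralizer {(x : H)}
    rw [Subgroup.mem_centralizer_singleton_iff]
    exact Subtype.ext hcomm.symm
  rw [hfpf' x x.2 hx1, Subgroup.mem_bot] at h5
  have h6 : w = 1 := Subtype.ext h5
  rw [h6, orderOf_one] at hw
  exact hr.one_lt.ne hw

theorem frobenius_complement_conj' [Finite G] {H H₀ : Subgroup G}
    (hH : Cfsg.IsFrobeniusComplement H) (hH₀ : Cfsg.IsFrobeniusComplement H₀) :
    ∃ g : G, MulAut.conj g • H₀ = H := by
  rcases le_total (Nat.card H₀) (Nat.card H) with h | h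
  · exact frobenius_complement_conj hH hH₀ h
  · obtain ⟨g, hg⟩ := frobenius_complement_conj hH₀ hH h
    exact ⟨g⁻¹, conj_inv_eq hg⟩

/-- S0069 -/
theorem center_complement_ne_bot [Finite G] (K H : Subgroup G) [hKn : K.Normal] (hK : K ≠ ⊥)
    (hH : H ≠ ⊥) (hfpf : ∀ h ∈ H, h ≠ 1 → K ⊓ Subgroup.centralizer {h} = ⊥) :
    Subgroup.center H ≠ ⊥ := by
  have hntH : Nontrivial H := (Subgroup.nontrivial_iff_ne_bot H).mpr hH
  by_cases heven : 2 ∣ Nat.card H
  · obtain ⟨⟨s, hs, hs2, huniq, -⟩, -⟩ := H1.Fixed.even_complement K H hK hfpf heven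
    intro hb
    have h1 : (⟨s, hs⟩ : H) ∈ Subgroup.center H := by
      rw [Subgroup.mem_center_iff]
      intro g
      apply Subtype.ext
      show (g : G) * s = s * g
      have h2 : (g : G) * s * (g : G)⁻¹ = s := by
        apply huniq _ (H.mul_mem (H.mul_mem g.2 hs) (H.inv_mem g.2))
        rw [← hs2]
        exact MulEquiv.orderOf_eq (MulAut.conj (g : G)) s
      rw [mul_inv_eq_iff_eq_mul] at h2
      exact h2
    rw [hb, Subgroup.mem_bot] at h1
    have h2 : s = 1 := congrArg Subtype.val h1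
    rw [h2, orderOf_one] at hs2
    exact absurd hs2 (by norm_num)
  -- odd order
  have hZG : IsZGroup H := by
    refine ⟨fun p hp P => ?_⟩
    have hpf : Fact p.Prime := ⟨hp⟩
    have e := Subgroup.equivMapOfInjective (P : Subgroup H) H.subtype H.subtype_injective
    have hpP : IsPGroup p ((P : Subgroup H).map H.subtype) := P.2.map _
    rcases H24.FrobSyl.pgroup_type K H hK hfpf _ (Subgroup.map_subtype_le _) hpP with h | ⟨h2, -⟩
    · exact isCyclic_of_surjective e.symm e.symm.surjective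
    · subst h2
      have h1 : (P : Subgroup H) = ⊥ := by
        rw [← Subgroup.card_eq_one]
        obtain ⟨n, hn⟩ := IsPGroup.iff_card.mp P.2
        rcases Nat.eq_zero_or_pos n with h0 | h0
        · rw [hn, h0, pow_zero]
        · exact absurd ((dvd_pow_self 2 h0.ne').trans (hn ▸ Subgroup.card_subgroup_dvd_card _)) heven
      rw [h1]
      infer_instance
  have hAcyc : IsCyclic (commutator H) := IsZGroup.isCyclic_commutator H
  have hcop : (Nat.card (commutator H)).Coprime (commutator H).index := IsZGroup.coprime_commutator_index H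
  have hidx : (commutator H).index ≠ 1 := by
    rw [Ne, Subgroup.index_eq_one]
    exact (IsZGroup.commutator_lt (G := H)).ne
  obtain ⟨q, hq, hqd⟩ := Nat.exists_prime_and_dvd hidx
  have hqf : Fact q.Prime := ⟨hq⟩
  have hqA : ¬ q ∣ Nat.card (commutator H) := fun h =>
    hq.one_lt.ne' (Nat.eq_one_of_dvd_coprimes hcop h hqd)
  obtain ⟨x, hx⟩ := exists_prime_orderOf_dvd_card' (G := H) q (hqd.trans (Subgroup.index_dvd_card _))
  have hAc : IsMulCommutative (commutator H) := IsCyclic.isMulCommutative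
  -- `x` centralizes the commutator subgroup
  have hxC : x ∈ Subgroup.centralizer (commutator H : Set H) := by
    have h1 := H1.Coprime.abelian_trivial_of_prime_order (Subgroup.zpowers x) (commutator H) (by
      rw [Subgroup.normalizer_eq_top (commutator H)]; exact le_top) (by
      rw [Nat.card_zpowers, hx, hq.coprime_iff_not_dvd]; exact hqA) (by
      intro v hv hvp a ha
      have h2 : x * v * x⁻¹ ∈ Subgroup.zpowers v := by
        apply mem_zpowers_of_cyclic hAcyc _ hv
        · exact MulEquiv.orderOf_eq (MulAut.conj x) v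
        · exact (inferInstance : (commutator H).Normal).conj_mem v hv x
      have h3 : (x : G) * v * (x : G)⁻¹ ∈ Subgroup.zpowers (v : G) := by
        obtain ⟨k, hk⟩ := Subgroup.mem_zpowers_iff.mp h2
        rw [Subgroup.mem_zpowers_iff]
        exact ⟨k, congrArg Subtype.val hk⟩
      have h4 := commute_of_prime K H hK hfpf (x := (x : G)) (w := (v : G)) x.2 v.2 (by
        rw [Subgroup.orderOf_coe, hx]; exact hq) (by rw [Subgroup.orderOf_coe]; exact hvp) h3
      have h5 : Commute x v := Subtype.ext h4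
      obtain ⟨k, rfl⟩ := Subgroup.mem_zpowers_iff.mp ha
      exact (h5.zpow_left k).eq)
    exact h1 (Subgroup.mem_zpowers x)
  set C := Subgroup.centralizer (commutator H : Set H) with hC
  have hCn : C.Normal := inferInstance
  have hAC : commutator H ≤ C := Subgroup.le_centralizer_iff_isMulCommutative.mpr hAc
  have hcyc : IsCyclic (Abelianization H) := inferInstance
  have hCc : ∀ a b : C, a * b = b * a := by
    let f : C →* Abelianization H := (Abelianization.of (G := H)).comp C.subtype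
    apply commutative_of_cyclic_center_quotient f
    intro c hc
    rw [Subgroup.mem_center_iff]
    intro d
    have h1 : (c : H) ∈ commutator H := by
      rw [← Abelianization.ker_of H]
      exact hc
    exact Subtype.ext ((Subgroup.mem_centralizer_iff.mp d.2 (c : H) h1).symm)
  intro hb
  have h1 : x ∈ Subgroup.center H := by
    rw [Subgroup.mem_center_iff]
    intro g
    rw [← commutatorElement_eq_one_iff_mul_comm]
    have h2 : ⁅g, x⁆ ∈ commutator H := Subgroup.commutator_mem_commutator trivial trivial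
    have h3 : ⁅g, x⁆ = (g * x * g⁻¹) * x⁻¹ := rfl
    have h4 : g * x * g⁻¹ ∈ C := hCn.conj_mem x hxC g
    have h5 : Commute (g * x * g⁻¹) x⁻¹ :=
      congrArg Subtype.val (hCc ⟨_, h4⟩ ⟨x⁻¹, C.inv_mem hxC⟩)
    have h6 : ⁅g, x⁆ ^ q = 1 := by
      rw [h3, h5.mul_pow, conj_pow, inv_pow, ← hx, pow_orderOf_eq_one]
      simp
    have h7 : orderOf ⁅g, x⁆ = 1 := by
      apply Nat.eq_one_of_dvd_coprimes ((hq.coprime_iff_not_dvd).mpr hqA) (orderOf_dvd_of_pow_eq_one h6)
      exact Subgroup.orderOf_dvd_natCard _ h2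
    exact orderOf_eq_one_iff.mp h7
  rw [hb, Subgroup.mem_bot] at h1
  rw [h1, orderOf_one] at hx
  exact hq.one_lt.ne hx

end

end Cfsg.Agent.H1.Frob3
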