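import Mathlib
import Cfsg.Agent.H5_GL
import Cfsg.Agent.H1_FusA

/-! The Heisenberg group, Sylow subgroups of `SL₃`. -/

set_option autoImplicit false
set_option linter.all false
open Cfsg Cfsg.FusionSystem

namespace Cfsg.Agent.H1.FusA

open Cfsg.Agent.H27.Grp Cfsg.Agent.H27.Fus

/-- Heisenberg type groups -/
structure HeisG (X : Type*) [Group X] : Prop where
  c1 : ∀ x y : X, x⁻¹ * (y * x * y⁻¹) ∈ Subgroup.center X
  c2 : ∀ x : X, x ∉ Subgroup.center X → ∀ a b : X, a * x = x * a → b * x = x * b → a * b = b * a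
  c3 : ∀ x : X, x ∉ Subgroup.center X → ∀ z ∈ Subgroup.center X, ∃ s, s * x * s⁻¹ = x * z

theorem mem_center_equiv {X Y : Type*} [Group X] [Group Y] (e : X ≃* Y) {x : X} :
    e x ∈ Subgroup.center Y ↔ x ∈ Subgroup.center X := by
  rw [Subgroup.mem_center_iff, Subgroup.mem_center_iff]
  constructor
  · intro h g
    apply e.injective
    rw [map_mul, map_mul]; exact h (e g)
  · intro h g
    obtain ⟨g, rfl⟩ := e.surjective g
    rw [← map_mul, ← map_mul, h g]

theorem HeisG.congr {X Y : Type*} [Group X] [Group Y] (e : X ≃* Y) (h : HeisG X) : HeisG Y where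
  c1 := fun x y => by
    obtain ⟨x, rfl⟩ := e.surjective x
    obtain ⟨y, rfl⟩ := e.surjective y
    rw [← map_inv, ← map_inv, ← map_mul, ← map_mul, ← map_mul, mem_center_equiv]
    exact h.c1 x y
  c2 := fun x hx a b ha hb => by
    obtain ⟨x, rfl⟩ := e.surjective x
    obtain ⟨a, rfl⟩ := e.surjective a
    obtain ⟨b, rfl⟩ := e.surjective b
    rw [mem_center_equiv] at hx
    rw [← map_mul, ← map_mul] at ha hb ⊢
    rw [h.c2 x hx a b (e.injective ha) (e.injective hb)]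
  c3 := fun x hx z hz => by
    obtain ⟨x, rfl⟩ := e.surjective x
    obtain ⟨z, rfl⟩ := e.surjective z
    rw [mem_center_equiv] at hx hz
    obtain ⟨s, hs⟩ := h.c3 x hx z hz
    exact ⟨e s, by rw [← map_inv, ← map_mul, ← map_mul, hs, map_mul]⟩

theorem mem_cenS {Ω : Type*} [Group Ω] {S : Subgroup Ω} {x : Ω} (hx : x ∈ S) :
    x ∈ centralizerIn S S ↔ (⟨x, hx⟩ : S) ∈ Subgroup.center S := by
  rw [mem_cen, Subgroup.mem_center_iff]
  constructor
  · intro h g
    exact Subtype.ext (h.2 g g.2)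
  · intro h
    exact ⟨hx, fun y hy => congrArg Subtype.val (h ⟨y, hy⟩)⟩

theorem HeisG.heisLike {Ω : Type*} [Group Ω] {S : Subgroup Ω} (h : HeisG S) : HeisLike S where
  c1 := fun x hx y hy => by
    have h1 := h.c1 ⟨x, hx⟩ ⟨y, hy⟩
    rw [mem_cenS (S.mul_mem (S.inv_mem hx) (S.mul_mem (S.mul_mem hy hx) (S.inv_mem hy)))]
    exact h1
  c2 := fun x hx hxZ a ha b hb h1 h2 => by
    rw [mem_cenS hx] at hxZ
    exact congrArg Subtype.val (h.c2 ⟨x, hx⟩ hxZ ⟨a, ha⟩ ⟨b, hb⟩ (Subtype.ext h1) (Subtype.ext h2))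
  c3 := fun x hx hxZ z hz => by
    rw [mem_cenS hx] at hxZ
    have hzS : z ∈ S := cen_le hz
    rw [mem_cenS hzS] at hz
    obtain ⟨s, hs⟩ := h.c3 ⟨x, hx⟩ hxZ ⟨z, hzS⟩ hz
    exact ⟨s, s.2, congrArg Subtype.val hs⟩

/-- the Heisenberg group over a field -/
@[ext] structure Hs (K : Type*) where
  a : K
  b : K
  c : K

namespace Hs
variable {K : Type*} [Field K]

instance : Mul (Hs K) := ⟨fun x y => ⟨x.a + y.a, x.b + y.b, x.c + y.c + x.a * y.b⟩⟩
instance : One (Hs K) := ⟨⟨0, 0, 0⟩⟩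
instance : Inv (Hs K) := ⟨fun x => ⟨-x.a, -x.b, -x.c + x.a * x.b⟩⟩

@[simp] theorem mul_a (x y : Hs K) : (x * y).a = x.a + y.a := rfl
@[simp] theorem mul_b (x y : Hs K) : (x * y).b = x.b + y.b := rfl
@[simp] theorem mul_c (x y : Hs K) : (x * y).c = x.c + y.c + x.a * y.b := rfl
@[simp] theorem one_a : (1 : Hs K).a = 0 := rfl
@[simp] theorem one_b : (1 : Hs K).b = 0 := rfl
@[simp] theorem one_c : (1 : Hs K).c = 0 := rfl
@[simp] theorem inv_a (x : Hs K) : (x⁻¹).a = -x.a := rfl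
@[simp] theorem inv_b (x : Hs K) : (x⁻¹).b = -x.b := rfl
@[simp] theorem inv_c (x : Hs K) : (x⁻¹).c = -x.c + x.a * x.b := rfl

instance : Group (Hs K) := Group.ofLeftAxioms
  (fun x y z => by ext <;> simp <;> ring)
  (fun x => by ext <;> simp)
  (fun x => by ext <;> simp)

theorem comm_iff {x y : Hs K} : x * y = y * x ↔ x.a * y.b = y.a * x.b := by
  constructor
  · intro h
    have := congrArg Hs.c h
    simp at this
    linear_combination this
  · intro h
    ext
    · simp [add_comm]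
    · simp [add_comm]
    · simp; linear_combination h

theorem mem_center {x : Hs K} : x ∈ Subgroup.center (Hs K) ↔ x.a = 0 ∧ x.b = 0 := by
  rw [Subgroup.mem_center_iff]
  constructor
  · intro h
    have h1 := comm_iff.1 (h ⟨1, 0, 0⟩)
    have h2 := comm_iff.1 (h ⟨0, 1, 0⟩)
    simp at h1 h2
    exact ⟨h2.symm, h1⟩
  · rintro ⟨h1, h2⟩ g
    rw [comm_iff, h1, h2]; ring

theorem heisG : HeisG (Hs K) where
  c1 := fun x y => by
    rw [mem_center]; constructor <;> simp
  c2 := fun x hx a b ha hb => by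
    rw [mem_center] at hx
    rw [comm_iff] at ha hb ⊢
    by_cases h : x.a = 0
    · have hb0 : x.b ≠ 0 := fun h' => hx ⟨h, h'⟩
      rw [h, zero_mul] at ha hb
      have h1 : a.a = 0 := by
        rcases mul_eq_zero.1 ha with h' | h'
        · exact h'
        · exact absurd h' hb0
      have h2 : b.a = 0 := by
        rcases mul_eq_zero.1 hb with h' | h'
        · exact h'
        · exact absurd h' hb0
      rw [h1, h2]; ring
    · apply mul_left_cancel₀ h
      linear_combination a.a * (-hb) + b.a * ha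
  c3 := fun x hx z hz => by
    rw [mem_center] at hx hz
    obtain ⟨hz1, hz2⟩ := hz
    by_cases h : x.a = 0
    · have hb0 : x.b ≠ 0 := fun h' => hx ⟨h, h'⟩
      refine ⟨⟨z.c / x.b, 0, 0⟩, ?_⟩
      ext
      · simp [hz1]
      · simp [hz2]
      · simp [h, hz2]; field_simp
    · refine ⟨⟨0, -(z.c / x.a), 0⟩, ?_⟩
      ext
      · simp [hz1]
      · simp [hz2]
      · simp [hz2]; field_simp

/-- the embedding into `SL₃` -/
def toSL : Hs K →* Matrix.SpecialLinearGroup (Fin 3) K where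
  toFun x := ⟨!![1, x.a, x.c; 0, 1, x.b; 0, 0, 1], by simp [Matrix.det_fin_three]⟩
  map_one' := by
    ext i j
    fin_cases i <;> fin_cases j <;> simp
  map_mul' x y := by
    apply Subtype.ext
    show !![1, (x * y).a, (x * y).c; 0, 1, (x * y).b; 0, 0, 1] =
      !![1, x.a, x.c; 0, 1, x.b; 0, 0, 1] * !![1, y.a, y.c; 0, 1, y.b; 0, 0, 1]
    ext i j
    fin_cases i <;> fin_cases j <;> simp [Matrix.mul_apply, Fin.sum_univ_three] <;> ring

theorem toSL_inj : Function.Injective (toSL : Hs K →* _) := by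
  intro x y h
  have h1 := congrArg (fun g : Matrix.SpecialLinearGroup (Fin 3) K => (g : Matrix (Fin 3) (Fin 3) K)) h
  ext
  · exact congrFun (congrFun h1 0) 1
  · exact congrFun (congrFun h1 1) 2
  · exact congrFun (congrFun h1 0) 2

theorem card [Fintype K] : Nat.card (Hs K) = Fintype.card K ^ 3 := by
  have e : Hs K ≃ K × K × K := ⟨fun x => (x.a, x.b, x.c), fun x => ⟨x.1, x.2.1, x.2.2⟩, fun _ => rfl, fun _ => rfl⟩
  rw [Nat.card_congr e, Nat.card_prod, Nat.card_prod, Nat.card_eq_fintype_card]; ring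

end Hs

/-- Sylow `p`-subgroups of `SL₃` in characteristic `p` are Heisenberg groups -/
theorem sylow_sl3 {K : Type*} [Field K] [Fintype K] {p : ℕ} [Fact p.Prime] [CharP K p]
    (T : Sylow p (Matrix.SpecialLinearGroup (Fin 3) K)) : Nonempty (Hs K ≃* ↥(T : Subgroup (Matrix.SpecialLinearGroup (Fin 3) K))) := by
  classical
  obtain ⟨n, hp, hq⟩ := FiniteField.card K p
  have hcard : Nat.card (Hs K) = p ^ ((n : ℕ) * 3) := by rw [Hs.card, hq, pow_mul]
  have e0 : Hs K ≃* (Hs.toSL (K := K)).range := MonoidHom.ofInjective Hs.toSL_inj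
  have hc : Nat.card (Hs.toSL (K := K)).range = Fintype.card K ^ 3 := by
    rw [← Nat.card_congr e0.toEquiv, Hs.card]
  have hP : IsPGroup p (Hs.toSL (K := K)).range := by
    refine IsPGroup.of_card (n := (n : ℕ) * 3) ?_
    rw [hc, hq, pow_mul]
  have h1 := Cfsg.Agent.H5.GL.card_SL (F := K) rfl 3 (by norm_num)
  rw [Fin.prod_univ_three] at h1
  have hq2 : 2 ≤ Fintype.card K := Fintype.one_lt_card
  set q := Fintype.card K with hqdef
  have h2 : Nat.card (Matrix.SpecialLinearGroup (Fin 3) K) = q ^ 3 * ((q ^ 3 - 1) * (q ^ 2 - 1)) := by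
    have h3 : (q - 1) * (q ^ 3 * ((q ^ 3 - 1) * (q ^ 2 - 1))) = (q ^ 3 - q ^ ((0 : Fin 3) : ℕ)) * (q ^ 3 - q ^ ((1 : Fin 3) : ℕ)) * (q ^ 3 - q ^ ((2 : Fin 3) : ℕ)) := by
      have e1 : q ^ 3 - q ^ ((0 : Fin 3) : ℕ) = q ^ 3 - 1 := by simp
      have e2 : q ^ 3 - q ^ ((1 : Fin 3) : ℕ) = q * (q ^ 2 - 1) := by
        rw [Nat.mul_sub]; simp; ring_nf
      have e3 : q ^ 3 - q ^ ((2 : Fin 3) : ℕ) = q ^ 2 * (q - 1) := by
        rw [Nat.mul_sub]; simp; ring_nf
      rw [e1, e2, e3]; ring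
    rw [← h3] at h1
    exact Nat.eq_of_mul_eq_mul_left (by omega) h1
  have hidx : (Hs.toSL (K := K)).range.index = (q ^ 3 - 1) * (q ^ 2 - 1) := by
    have h3 := Subgroup.card_mul_index (Hs.toSL (K := K)).range
    rw [h2, hc] at h3
    exact Nat.eq_of_mul_eq_mul_left (by positivity) h3
  have hnd : ¬ p ∣ (Hs.toSL (K := K)).range.index := by
    rw [hidx]
    have hpq : p ∣ q := by rw [hq]; exact dvd_pow_self _ n.ne_zero
    have hk : ∀ k, k ≠ 0 → ¬ p ∣ q ^ k - 1 := by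
      intro k hk hd
      have h4 : p ∣ q ^ k := hpq.trans (dvd_pow_self _ hk)
      have h5 : 1 ≤ q ^ k := Nat.one_le_pow _ _ (by omega)
      have h6 := (Nat.dvd_sub_iff_right h5 h4).1 hd
      exact hp.one_lt.ne' (Nat.dvd_one.1 h6)
    intro hd
    rcases hp.dvd_mul.1 hd with h | h
    · exact hk 3 (by norm_num) h
    · exact hk 2 (by norm_num) h
  exact ⟨e0.trans (Sylow.equiv (hP.toSylow hnd) T)⟩

end Cfsg.Agent.H1.FusA
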