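import Mathlib
import Cfsg.Agent.H1_FusZ
import Cfsg.Agent.H1_Heis
import Cfsg.Agent.H2_Class

/-! Fusion systems on `p`-groups whose centre has index `p²`. -/

set_option autoImplicit false
set_option linter.all false
open Cfsg Cfsg.FusionSystem

namespace Cfsg.Agent.H1.FusZ

open Cfsg.Agent.H27.Grp Cfsg.Agent.H27.Fus Cfsg.Agent.H1.FusA Cfsg.Agent.H1.FusT
open scoped commutatorElement

universe u

variable {Ω : Type u} [Group Ω] {S : Subgroup Ω}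
variable {F : FusionSystem S} {P Q R V D : Subgroup Ω} {f g : Ω → Ω} {p : ℕ}

theorem cenS_eq : (Subgroup.center S).map S.subtype = centralizerIn S S := by
  ext x
  constructor
  · rintro ⟨y, hy, rfl⟩
    exact (mem_cenS y.2).2 hy
  · intro hx
    exact ⟨⟨x, cen_le hx⟩, (mem_cenS (cen_le hx)).1 hx, rfl⟩

theorem relIndex_cenS : (centralizerIn S S).relIndex S = (Subgroup.center S).index := by
  have h : (centralizerIn S S).subgroupOf S = Subgroup.center S := by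
    ext x
    rw [Subgroup.mem_subgroupOf, mem_cenS x.2]
  rw [Subgroup.relIndex, h]

variable [hp : Fact p.Prime] [Finite S]

section basic

variable (hS : IsPGroup p S) (hi : (Subgroup.center S).index = p ^ 2)
include hS hi

theorem c1 {x y : Ω} (hx : x ∈ S) (hy : y ∈ S) : x⁻¹ * (y * x * y⁻¹) ∈ centralizerIn S S := by
  have h1 := comm_mem (p := p) hi (⟨x, hx⟩⁻¹ : S) ⟨y, hy⟩
  rw [mem_cenS (S.mul_mem (S.inv_mem hx) (S.mul_mem (S.mul_mem hy hx) (S.inv_mem hy)))]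
  have h2 : ⁅(⟨x, hx⟩⁻¹ : S), (⟨y, hy⟩ : S)⁆ = ⟨x⁻¹ * (y * x * y⁻¹), S.mul_mem (S.inv_mem hx) (S.mul_mem (S.mul_mem hy hx) (S.inv_mem hy))⟩ := by
    apply Subtype.ext
    show x⁻¹ * y * x⁻¹⁻¹ * y⁻¹ = x⁻¹ * (y * x * y⁻¹)
    group
  rw [← h2]; exact h1

theorem c2 {x : Ω} (hx : x ∈ S) (hxZ : x ∉ centralizerIn S S) {a : Ω} (ha : a ∈ S) (hax : a * x = x * a) :
    ∃ i : ℤ, ∃ z ∈ centralizerIn S S, a = x ^ i * z := by
  rw [mem_cenS hx] at hxZ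
  obtain ⟨i, z, hz, h⟩ := cen_form hi hxZ (x := ⟨a, ha⟩) (Subtype.ext hax)
  exact ⟨i, z, (mem_cenS z.2).2 hz, congrArg Subtype.val h⟩

theorem c4 {a b : Ω} (ha : a ∈ S) (hb : b ∈ S) (hab : a * b ≠ b * a) {x : Ω} (hx : x ∈ S) :
    ∃ j i : ℤ, ∃ z ∈ centralizerIn S S, x = b ^ j * (a ^ i * z) := by
  obtain ⟨j, i, z, hz, h⟩ := gen_form hS hi (a := ⟨a, ha⟩) (b := ⟨b, hb⟩)
    (fun h => hab (congrArg Subtype.val h)) ⟨x, hx⟩
  exact ⟨j, i, z, (mem_cenS z.2).2 hz, congrArg Subtype.val h⟩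

theorem c5 {a b : Ω} (ha : a ∈ S) (hb : b ∈ S) (hab : a * b ≠ b * a) {x y : Ω} (hx : x ∈ S) (hy : y ∈ S) :
    x⁻¹ * (y * x * y⁻¹) ∈ Subgroup.zpowers (a * b * a⁻¹ * b⁻¹) := by
  have h1 := comm_zpow hS hi (a := ⟨a, ha⟩) (b := ⟨b, hb⟩)
    (fun h => hab (congrArg Subtype.val h)) (⟨x, hx⟩⁻¹ : S) ⟨y, hy⟩
  obtain ⟨k, hk⟩ := Subgroup.mem_zpowers_iff.1 h1
  refine Subgroup.mem_zpowers_iff.2 ⟨k, ?_⟩
  have h2 : (a * b * a⁻¹ * b⁻¹) ^ k = x⁻¹ * y * x⁻¹⁻¹ * y⁻¹ := congrArg Subtype.val hk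
  rw [h2]; group

theorem c6 {a b : Ω} (ha : a ∈ S) (hb : b ∈ S) (hab : a * b ≠ b * a) :
    Nat.card (Subgroup.zpowers (a * b * a⁻¹ * b⁻¹)) = p ∧ a * b * a⁻¹ * b⁻¹ ∈ centralizerIn S S := by
  have h1 := comm_pow hS hi ⟨⟨a, ha⟩, ⟨b, hb⟩, fun h => hab (congrArg Subtype.val h)⟩ ⟨a, ha⟩ ⟨b, hb⟩
  have h2 : (a * b * a⁻¹ * b⁻¹) ^ p = 1 := congrArg Subtype.val h1
  have h3 : a * b * a⁻¹ * b⁻¹ ≠ 1 := by
    intro h
    apply hab
    rw [mul_inv_eq_one, mul_inv_eq_iff_eq_mul] at h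
    exact h
  refine ⟨by rw [Nat.card_zpowers, orderOf_eq_prime h2 h3], ?_⟩
  have h4 := comm_mem (p := p) hi (⟨a, ha⟩ : S) ⟨b, hb⟩
  exact (mem_cenS (S.mul_mem (S.mul_mem (S.mul_mem ha hb) (S.inv_mem ha)) (S.inv_mem hb))).2 h4

theorem cnorm (hZ : centralizerIn S S ≤ P) (hP : P ≤ S) {s : Ω} (hs : s ∈ S) :
    s ∈ Subgroup.normalizer (P : Set Ω) := by
  have key : ∀ s ∈ S, ∀ x ∈ P, s * x * s⁻¹ ∈ P := by
    intro s hs x hx
    have h1 := P.mul_mem hx (hZ (c1 hS hi (hP hx) hs))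
    simpa [mul_assoc] using h1
  rw [Subgroup.mem_normalizer_iff]
  intro x
  refine ⟨key s hs x, fun h => ?_⟩
  have := key s⁻¹ (S.inv_mem hs) _ h
  simpa [mul_assoc] using this

theorem cnorm_eq (hZ : centralizerIn S S ≤ P) (hP : P ≤ S) : normalizerIn S P = S :=
  le_antisymm nrm_le fun s hs => ⟨hs, cnorm hS hi hZ hP hs⟩

theorem cab (hc : F.IsCentric P) (hne : P ≠ S) : ∀ a ∈ P, ∀ b ∈ P, a * b = b * a := by
  by_contra hab
  push Not at hab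
  obtain ⟨a, ha, b, hb, hab⟩ := hab
  apply hne
  refine le_antisymm hc.1 fun x hx => ?_
  obtain ⟨j, i, z, hz, rfl⟩ := c4 hS hi (hc.1 ha) (hc.1 hb) hab hx
  exact P.mul_mem (P.zpow_mem hb _) (P.mul_mem (P.zpow_mem ha _) (zc_le hc hz))

theorem cex (hc : F.IsCentric P) (hne : P ≠ S) : ∃ x ∈ P, x ∉ centralizerIn S S := by
  by_contra h
  push Not at h
  apply hne
  refine le_antisymm hc.1 fun s hs => IsCentric.cen_le hc (mem_cen.2 ⟨hs, fun y hy => ?_⟩)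
  exact (cen_comm (h y hy) hs).symm

theorem ccen (hc : F.IsCentric P) (hne : P ≠ S) {x : Ω} (hx : x ∈ P) (hxZ : x ∉ centralizerIn S S) {a : Ω}
    (ha : a ∈ S) (hax : a * x = x * a) : a ∈ P := by
  obtain ⟨i, z, hz, rfl⟩ := c2 hS hi (hc.1 hx) hxZ ha hax
  exact P.mul_mem (P.zpow_mem hx _) (zc_le hc hz)

theorem cinter (hc : F.IsCentric P) (hne : P ≠ S) (hc' : F.IsCentric Q) (hne' : Q ≠ S) (hPQ : P ≠ Q) :
    P ⊓ Q ≤ centralizerIn S S := by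
  rintro x ⟨hxP, hxQ⟩
  have hxP : x ∈ P := hxP
  have hxQ : x ∈ Q := hxQ
  by_contra hxZ
  apply hPQ
  apply le_antisymm
  · intro a ha
    exact ccen hS hi hc' hne' hxQ hxZ (hc.1 ha) (cab hS hi hc hne a ha x hxP)
  · intro a ha
    exact ccen hS hi hc hne hxP hxZ (hc'.1 ha) (cab hS hi hc' hne' a ha x hxQ)

theorem ccard (hc : F.IsCentric P) (hne : P ≠ S) : Nat.card P = p * Nat.card (centralizerIn S S) := by
  have hZP := zc_le hc
  obtain ⟨x, hx, hxZ⟩ := cex hS hi hc hne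
  have h1 : (centralizerIn S S).relIndex P * P.relIndex S = p ^ 2 := by
    rw [Subgroup.relIndex_mul_relIndex _ _ _ hZP hc.1, relIndex_cenS, hi]
  have h2 : (centralizerIn S S).relIndex P ≠ 1 := fun h => hxZ (Subgroup.relIndex_eq_one.1 h hx)
  have h3 : P.relIndex S ≠ 1 := fun h => hne (le_antisymm hc.1 (Subgroup.relIndex_eq_one.1 h))
  have h4 : (centralizerIn S S).relIndex P = p := by
    obtain ⟨k, hk, hkc⟩ := (Nat.dvd_prime_pow hp.out).1 (⟨_, h1.symm⟩ : (centralizerIn S S).relIndex P ∣ p ^ 2)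
    interval_cases k
    · exact absurd hkc h2
    · rw [hkc, pow_one]
    · exfalso
      apply h3
      rw [hkc] at h1
      exact Nat.eq_of_mul_eq_mul_left (pow_pos hp.out.pos 2) (by rw [h1, mul_one])
  have h5 := ((centralizerIn S S).subgroupOf P).index_mul_card
  have h6 : Nat.card ((centralizerIn S S).subgroupOf P) = Nat.card (centralizerIn S S) :=
    Nat.card_congr (Subgroup.subgroupOfEquivOfLe hZP).toEquiv
  rw [h6] at h5
  rw [← h5, ← h4]; rfl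

theorem ctv (hc : F.IsCentric V) (hne : V ≠ S) {a b : Ω} (ha : a ∈ S) (hb : b ∈ S) (hab : a * b ≠ b * a) :
    Tv p (autInducedBy S V) (Subgroup.zpowers (a * b * a⁻¹ * b⁻¹)) (centralizerIn S S) where
  RZ := Subgroup.zpowers_le.2 (c6 hS hi ha hb hab).2
  ZV := zc_le hc
  fix := by
    intro τ hτ x hx
    obtain ⟨s, hs, hβs⟩ := mem_autInducedBy.1 hτ
    apply Subtype.ext
    rw [hβs, cen_comm hx hs]; group
  quo := by
    intro τ hτ x
    obtain ⟨s, hs, hβs⟩ := mem_autInducedBy.1 hτ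
    rw [hβs]
    exact c5 hS hi ha hb hab (hc.1 x.2) hs
  cR := (c6 hS hi ha hb hab).1
  cZ := ccard hS hi hc hne
  mov := by
    intro x hx
    by_contra h
    push Not at h
    apply hx
    refine mem_cen.2 ⟨hc.1 x.2, fun s hs => ?_⟩
    have h1 := congrArg Subtype.val (h _ (cjA_mem (cnorm hS hi (zc_le hc) hc.1 hs) hs))
    rw [cjA_apply] at h1
    exact mul_inv_eq_iff_eq_mul.1 h1

theorem cfn (hc : F.IsCentric V) : F.IsFullyNormalized V := by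
  refine ⟨hc.1, fun R hR => ?_⟩
  rw [cnorm_eq hS hi (zc_le hc) hc.1]
  exact card_le_of_le nrm_le

theorem csyl (hF : F.IsSaturated p) (hc : F.IsCentric V) : IsSyl p (autInducedBy S V) (F.autGroup V) :=
  (isFullyAutomized_iff.1 (fn_automized hS hF (cfn hS hi hc))).2

theorem cnn (hF : F.IsSaturated p) (hc : F.IsCentric V) (hr : F.IsRadical p V) (hne : V ≠ S) :
    ¬ F.autGroup V ≤ Subgroup.normalizer (autInducedBy S V : Set (MulAut V)) := by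
  have hsyl := csyl hS hi hF hc
  intro hn
  have h1 := rad_le hr hsyl.le hn hsyl.isPGroup
  apply hne
  refine le_antisymm hc.1 fun s hs => ?_
  have hsN := cnorm hS hi (zc_le hc) hc.1 hs
  have h2 := h1 (cjA_mem hsN hs)
  exact (cj_inn_iff (IsCentric.cen_le hc) hc.1 ⟨hs, hsN⟩ (fun x => rfl)).1 h2

end basic

/-- the fixed points of the normal closure of `Aut_S(V)` in `Aut_F(V)` -/
def Cc (F : FusionSystem S) (V : Subgroup Ω) : Subgroup Ω where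
  carrier := {x | ∃ h : x ∈ V, ∀ α ∈ F.autGroup V, ∀ τ ∈ autInducedBy S V, (α * τ * α⁻¹) ⟨x, h⟩ = ⟨x, h⟩}
  one_mem' := ⟨V.one_mem, fun α _ τ _ => map_one (α * τ * α⁻¹)⟩
  mul_mem' := by
    rintro x y ⟨hx, hx'⟩ ⟨hy, hy'⟩
    refine ⟨V.mul_mem hx hy, fun α hα τ hτ => ?_⟩
    have h1 : (⟨x * y, V.mul_mem hx hy⟩ : V) = ⟨x, hx⟩ * ⟨y, hy⟩ := rfl
    rw [h1, map_mul, hx' α hα τ hτ, hy' α hα τ hτ]
  inv_mem' := by
    rintro x ⟨hx, hx'⟩
    refine ⟨V.inv_mem hx, fun α hα τ hτ => ?_⟩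
    have h1 : (⟨x⁻¹, V.inv_mem hx⟩ : V) = ⟨x, hx⟩⁻¹ := rfl
    rw [h1, map_inv, hx' α hα τ hτ]

omit hp [Finite S] in
theorem Cc_le : Cc F V ≤ V := by rintro x ⟨h, -⟩; exact h

omit hp [Finite S] in
theorem mem_Cc {x : V} : (x : Ω) ∈ Cc F V ↔ ∀ α ∈ F.autGroup V, ∀ τ ∈ autInducedBy S V, (α * τ * α⁻¹) x = x :=
  ⟨fun ⟨_, h⟩ => h, fun h => ⟨x.2, h⟩⟩

/-- transport of `Cc` along automorphisms of `S` -/
theorem Cc_iso (hVS : V ≤ S) (hf : Iso F S S f) {x : Ω} (hx : x ∈ Cc F V) : f x ∈ Cc F (im V f) := by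
  obtain ⟨hxV, hx⟩ := hx
  have hr := hf.restrict hVS
  refine ⟨hr.maps x hxV, fun α' hα' τ' hτ' => ?_⟩
  rw [← hr.map_autGroup] at hα'
  obtain ⟨α, hα, rfl⟩ := hα'
  obtain ⟨s', hs', hτs'⟩ := mem_autInducedBy.1 hτ'
  obtain ⟨s, hs, rfl⟩ := hf.surj s' hs'
  -- `s` normalises `V`
  have hfVV : ∀ y ∈ V, s * y * s⁻¹ ∈ V := by
    intro y hy
    have h1 := (τ' ⟨f y, hr.maps y hy⟩).2
    rw [hτs'] at h1
    change f s * f y * (f s)⁻¹ ∈ im V f at h1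
    rw [← hf.map.conj hs (hVS hy)] at h1
    obtain ⟨w, hw, hwe⟩ := hr.map.mem_im.1 h1
    have : w = s * y * s⁻¹ := hf.map.inj (hVS hw) (S.mul_mem (S.mul_mem hs (hVS hy)) (S.inv_mem hs)) hwe
    rw [← this]; exact hw
  have hsN : s ∈ normalizerIn S V := mem_nrm_of_forall hVS hs hfVV
  have h1 := hx α hα _ (cjA_mem hsN.2 hs)
  -- transport
  have hτe : ∀ v : V, τ' (hr.equiv v) = hr.equiv (cjA V s hsN.2 v) := by
    intro v
    apply Subtype.ext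
    rw [hτs']
    show f s * f v * (f s)⁻¹ = f (s * v * s⁻¹)
    rw [hf.map.conj hs (hVS v.2)]
  have hαe : ∀ v : V, ((MulAut.congr hr.equiv) α) (hr.equiv v) = hr.equiv (α v) := by
    intro v
    show hr.equiv (α (hr.equiv.symm (hr.equiv v))) = _
    rw [hr.equiv.symm_apply_apply]
  have hαe' : ∀ v : V, ((MulAut.congr hr.equiv) α)⁻¹ (hr.equiv v) = hr.equiv (α⁻¹ v) := by
    intro v
    have h2 := hαe (α⁻¹ v)
    rw [MulAut.apply_inv_self] at h2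
    rw [← h2, MulAut.inv_apply_self]
  have hx' : (⟨f x, hr.maps x hxV⟩ : im V f) = hr.equiv ⟨x, hxV⟩ := rfl
  rw [hx']
  show ((MulAut.congr hr.equiv) α) (τ' (((MulAut.congr hr.equiv) α)⁻¹ (hr.equiv ⟨x, hxV⟩))) = _
  rw [hαe', hτe, hαe]
  exact congrArg _ h1

end Cfsg.Agent.H1.FusZ
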