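import Mathlib
import Cfsg.Agent.H1_FusZ2

/-! Fusion systems on `p`-groups whose centre has index `p²`, continued. -/

set_option autoImplicit false
set_option linter.all false
open Cfsg Cfsg.FusionSystem

namespace Cfsg.Agent.H1.FusZ

open Cfsg.Agent.H27.Grp Cfsg.Agent.H27.Fus Cfsg.Agent.H1.FusA Cfsg.Agent.H1.FusT
open scoped commutatorElement

universe u

section frattini

variable {G : Type*} [Group G] {p : ℕ} [hp : Fact p.Prime] {A T : Subgroup G}

/-- the subgroup generated by the `A`-conjugates of `T` -/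
def Bc (A T : Subgroup G) : Subgroup G := Subgroup.closure {x | ∃ α ∈ A, ∃ τ ∈ T, x = α * τ * α⁻¹}

omit hp in
theorem cj_le_Bc {a : G} (ha : a ∈ A) : cj a T ≤ Bc A T := by
  rintro _ ⟨τ, hτ, rfl⟩
  exact Subgroup.subset_closure ⟨a, ha, τ, hτ, rfl⟩

omit hp in
theorem Bc_le (hT : T ≤ A) : Bc A T ≤ A := by
  unfold Bc
  rw [Subgroup.closure_le]
  rintro _ ⟨α, hα, τ, hτ, rfl⟩
  exact A.mul_mem (A.mul_mem hα (hT hτ)) (A.inv_mem hα)

/-- Frattini argument -/
theorem frattini_cl [Finite A] (hT : IsSyl p T A) {a : G} (ha : a ∈ A) :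
    ∃ b ∈ Bc A T, ∃ n ∈ A, (∀ τ ∈ T, n * τ * n⁻¹ ∈ T) ∧ a = b * n := by
  have hBA := Bc_le (A := A) hT.le
  have hTB : T ≤ Bc A T := by
    have := cj_le_Bc (T := T) A.one_mem
    rwa [cj_one] at this
  have hTs : IsSyl p T (Bc A T) := hT.mono hTB hBA
  have : Finite (Bc A T) := finite_of_le hBA
  obtain ⟨b, hb, hbT⟩ := hTs.conj (cj_le_Bc (T := T) ha) (isPGroup_cj hT.isPGroup)
  refine ⟨b⁻¹, Subgroup.inv_mem _ hb, b * a, A.mul_mem (hBA hb) ha, fun τ hτ => ?_, by group⟩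
  have h1 := hbT (conj_mem_cj (g := b) (conj_mem_cj (g := a) hτ))
  have h2 : b * (a * τ * a⁻¹) * b⁻¹ = b * a * τ * (b * a)⁻¹ := by group
  rwa [h2] at h1

end frattini

variable {Ω : Type u} [Group Ω] {S : Subgroup Ω}
variable {F : FusionSystem S} {P Q R V D : Subgroup Ω} {f g : Ω → Ω} {p : ℕ}
variable [hp : Fact p.Prime] [Finite S]

omit hp in
theorem im_eq_of_forall (hf : Map F P f) (hDP : D ≤ P) (h : ∀ x ∈ D, f x ∈ D) : im D f = D := by
  have hfD : Finite D := finite_of_le (hDP.trans hf.le)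
  have h1 := hf.mono hDP
  refine eq_of_le_of_card_le ?_ (h1.card_im).ge
  rw [im_le_iff h1]; exact h

/-- elements normalising `Aut_S(V)` extend to `S` -/
theorem extend_n (hS : IsPGroup p S) (hF : F.IsSaturated p) (hV : F.IsFullyNormalized V)
    (hVn : ∀ s ∈ S, s ∈ Subgroup.normalizer (V : Set Ω)) {n : MulAut V} (hn : n ∈ F.autGroup V)
    (h : ∀ τ ∈ autInducedBy S V, n * τ * n⁻¹ ∈ autInducedBy S V) :
    ∃ g, Iso F S S g ∧ ∀ x : V, g x = n x := by
  have hVS := hV.1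
  have hi := (mem_autGroup_iff hVS).1 hn
  have hext : S ≤ ext S V (totA n) := by
    intro s hs
    refine mem_ext.2 ⟨hs, hVn s hs, ?_⟩
    obtain ⟨t, ht, htn⟩ := mem_autInducedBy.1 (h _ (cjA_mem (hVn s hs) hs))
    refine ⟨t, ht, fun x hx => ?_⟩
    have h1 := htn (n ⟨x, hx⟩)
    have h2 : (n * cjA V s (hVn s hs) * n⁻¹) (n ⟨x, hx⟩) = n (cjA V s (hVn s hs) ⟨x, hx⟩) := by
      rw [MulAut.mul_apply, MulAut.mul_apply, MulAut.inv_apply_self]
    rw [h2] at h1
    rw [totA_of_mem _ hx, ← h1]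
    have h3 : s * x * s⁻¹ ∈ V := (Subgroup.mem_normalizer_iff.1 (hVn s hs) x).1 hx
    rw [totA_of_mem _ h3]
    rfl
  obtain ⟨g, hg, hgf⟩ := receptive_ext' (fn_receptive hS hF hV) hi hext
  refine ⟨g, iso_of_card_le hg (fun x hx => hg.mem hx) le_rfl, fun x => ?_⟩
  rw [hgf x x.2, totA_apply]

section basic

variable (hS : IsPGroup p S) (hi : (Subgroup.center S).index = p ^ 2) (hF : F.IsSaturated p)
include hS hi hF

theorem normal_of_Cc (hc : F.IsCentric V) (hr : F.IsRadical p V) (hne : V ≠ S)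
    (hD : ∀ V, F.IsCentric V → F.IsRadical p V → V ≠ S → D ≤ Cc F V)
    (hinv : ∀ f, Iso F S S f → ∀ x ∈ D, f x ∈ D) : F.IsNormal D := by
  have hDS : D ≤ S := (hD V hc hr hne).trans (Cc_le.trans hc.1)
  refine normal_of_essential hS hF ?_
  rintro P (rfl | hP)
  · exact ⟨hDS, fun f hf => im_eq_of_forall hf.map hDS (hinv f hf)⟩
  · have hPc := hP.1
    have hPr := essential_radical hS hP
    have hPne := essential_ne_top hS hF hP
    have hDP := (hD P hPc hPr hPne).trans Cc_le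
    have hfP : Finite P := finite_of_le hPc.1
    have hfA : Finite (F.autGroup P) := finite_autGroup hPc.1
    refine ⟨hDP, fun f hf => im_eq_of_forall hf.map hDP fun x hx => ?_⟩
    have hVn : ∀ s ∈ S, s ∈ Subgroup.normalizer (P : Set Ω) := fun s hs => cnorm hS hi (zc_le hPc) hPc.1 hs
    obtain ⟨b, hb, n, hn, hnT, hbn⟩ := frattini_cl (csyl hS hi hF hPc) hf.aut_mem
    obtain ⟨g, hg, hgn⟩ := extend_n hS hF (cfn hS hi hPc) hVn hn hnT
    have h1 : f x = (hf.aut ⟨x, hDP hx⟩ : P) := rfl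
    have h2 : ((n ⟨x, hDP hx⟩ : P) : Ω) ∈ D := by
      rw [← hgn]; exact hinv g hg x hx
    have h3 : ∀ b ∈ Bc (F.autGroup P) (autInducedBy S P), ∀ y : P, (y : Ω) ∈ Cc F P → b y = y := by
      intro b hb
      unfold Bc at hb
      induction hb using Subgroup.closure_induction with
      | mem x hx =>
        obtain ⟨α, hα, τ, hτ, rfl⟩ := hx
        intro y hy
        exact mem_Cc.1 hy α hα τ hτ
      | one => intro y _; rfl
      | mul a b _ _ ha hb =>
        intro y hy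
        rw [MulAut.mul_apply, hb y hy, ha y hy]
      | inv a _ ha =>
        intro y hy
        calc a⁻¹ y = a⁻¹ (a y) := by rw [ha y hy]
          _ = y := MulAut.inv_apply_self _ _ _
    rw [h1, hbn, MulAut.mul_apply, h3 b hb _ (hD P hPc hPr hPne h2)]
    exact h2

omit hi hF in
theorem V_iso (hc : F.IsCentric V) (hr : F.IsRadical p V) (hne : V ≠ S) (hf : Iso F S S f) :
    F.IsCentric (im V f) ∧ F.IsRadical p (im V f) ∧ im V f ≠ S := by
  have h3 := hf.restrict hc.1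
  refine ⟨IsCentric.conj hc h3.isConj, rad_iso hS h3 hr, fun h4 => hne ?_⟩
  have h5 := h3.card
  rw [h4] at h5
  exact eq_of_le_of_card_le hc.1 h5.ge

theorem eq_one_of_Cc (hcore : F.core = ⊥) (hc : F.IsCentric V) (hr : F.IsRadical p V) (hne : V ≠ S) {x : Ω}
    (hx : ∀ V, F.IsCentric V → F.IsRadical p V → V ≠ S → x ∈ Cc F V) : x = 1 := by
  let D : Subgroup Ω := sInf {C | ∃ V, F.IsCentric V ∧ F.IsRadical p V ∧ V ≠ S ∧ C = Cc F V}
  have hD : ∀ V, F.IsCentric V → F.IsRadical p V → V ≠ S → D ≤ Cc F V := fun V h1 h2 h3 =>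
    sInf_le ⟨V, h1, h2, h3, rfl⟩
  have hDn : F.IsNormal D := by
    refine normal_of_Cc hS hi hF hc hr hne hD fun f hf y hy => ?_
    rw [Subgroup.mem_sInf] at hy ⊢
    rintro _ ⟨V, h1, h2, h3, rfl⟩
    obtain ⟨k1, k2, k3⟩ := V_iso hS h1 h2 h3 hf.symm
    have h4 := Cc_iso k1.1 hf (hy _ ⟨_, k1, k2, k3, rfl⟩)
    have h5 : im (im V (finv S f)) f = V := by
      ext w
      rw [(hf.map.mono k1.1).mem_im]
      constructor
      · rintro ⟨a, ha, rfl⟩
        obtain ⟨b, hb, rfl⟩ := (hf.symm.map.mono h1.1).mem_im.1 ha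
        rw [hf.finv_right (h1.1 hb)]; exact hb
      · intro hw
        exact ⟨finv S f w, (hf.symm.map.mono h1.1).apply_mem_im hw, hf.finv_right (h1.1 hw)⟩
    rwa [h5] at h4
  have h1 : D ≤ F.core := le_core hDn
  rw [hcore] at h1
  have h2 : x ∈ D := by
    rw [Subgroup.mem_sInf]
    rintro _ ⟨V, h1, h2, h3, rfl⟩
    exact hx V h1 h2 h3
  exact Subgroup.mem_bot.1 (h1 h2)

omit hi in
theorem exists_two (hcore : F.core = ⊥) (hi : (Subgroup.center S).index = p ^ 2) (hS1 : S ≠ ⊥) :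
    ∃ V V' : Subgroup Ω, (F.IsCentric V ∧ F.IsRadical p V ∧ V ≠ S) ∧
      (F.IsCentric V' ∧ F.IsRadical p V' ∧ V' ≠ S) ∧ V ≠ V' := by
  have h1 : ∃ V, F.IsCentric V ∧ F.IsRadical p V ∧ V ≠ S := by
    by_contra h
    push Not at h
    have h1 : F.IsNormal S := by
      refine normal_of_essential hS hF ?_
      rintro P (rfl | hP)
      · exact ⟨le_rfl, fun f hf => hf.im_eq⟩
      · have := h P hP.1 (essential_radical hS hP)
        exact absurd this (essential_ne_top hS hF hP)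
    have h2 := le_core h1
    rw [hcore] at h2
    exact hS1 (le_bot_iff.1 h2)
  obtain ⟨V, hVc, hVr, hVne⟩ := h1
  have h2 : ∃ V', F.IsCentric V' ∧ F.IsRadical p V' ∧ V' ≠ S ∧ V ≠ V' := by
    by_contra h
    push Not at h
    have h1 : F.IsNormal V := by
      refine normal_of_essential hS hF ?_
      rintro P (rfl | hP)
      · refine ⟨hVc.1, fun f hf => ?_⟩
        obtain ⟨k1, k2, k3⟩ := V_iso hS hVc hVr hVne hf
        exact (h _ k1 k2 k3).symm
      · have := h P hP.1 (essential_radical hS hP) (essential_ne_top hS hF hP)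
        subst this
        exact ⟨le_rfl, fun f hf => hf.im_eq⟩
    have h2 := le_core h1
    rw [hcore] at h2
    obtain ⟨x, hx, hxZ⟩ := cex hS hi hVc hVne
    have h3 : x = 1 := Subgroup.mem_bot.1 (h2 hx)
    exact hxZ (h3 ▸ Subgroup.one_mem _)
  obtain ⟨V', hVc', hVr', hVne', hVV'⟩ := h2
  exact ⟨V, V', ⟨hVc, hVr, hVne⟩, ⟨hVc', hVr', hVne'⟩, hVV'⟩

/-- structure of `V` from Oliver's lemma -/
theorem struct (hc : F.IsCentric V) (hr : F.IsRadical p V) (hne : V ≠ S) {a b : Ω} (ha : a ∈ S) (hb : b ∈ S)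
    (hab : a * b ≠ b * a) : ∃ W : Subgroup Ω, W ≤ V ∧ Subgroup.zpowers (a * b * a⁻¹ * b⁻¹) ≤ W ∧
      Cc F V ≤ centralizerIn S S ∧ W ⊓ Cc F V = ⊥ ∧ (∀ x ∈ V, ∃ w ∈ W, ∃ c ∈ Cc F V, w * c = x) ∧
      Nat.card W = p ^ 2 ∧ (∀ x ∈ W, x ^ p = 1) ∧
      (∀ α ∈ F.autGroup V, ∀ x : V, (x : Ω) ∈ Cc F V → ((α x : V) : Ω) ∈ Cc F V) ∧
      (∀ b ∈ Bc (F.autGroup V) (autInducedBy S V), ∀ x : V, (x : Ω)⁻¹ * (b x : V) ∈ W) ∧
      (∃ ε ∈ F.autGroup V, (∀ x : V, (x : Ω) ∈ W → ε x = x⁻¹) ∧ ∀ x : V, (x : Ω) ∈ Cc F V → ε x = x) ∧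
      W ⊓ centralizerIn S S = Subgroup.zpowers (a * b * a⁻¹ * b⁻¹) := by
  have hfV : Finite V := finite_of_le hc.1
  have hfA : Finite (F.autGroup V) := finite_autGroup hc.1
  have hV : ∃ n, ∀ x ∈ V, x ^ (p ^ n) = 1 := by
    obtain ⟨n, hn⟩ := exists_pow_card hS
    exact ⟨n, fun x hx => hn x (hc.1 hx)⟩
  have htv := ctv hS hi hc hne ha hb hab
  obtain ⟨W, C, hWV, hCV, hRW, hCZ, hWC, hdec, hcW, hWp, hWinv, hCinv, hcj, hfix, ε, hε, hε1, hε2⟩ :=
    tv_main (cab hS hi hc hne) hV (csyl hS hi hF hc) htv (cnn hS hi hF hc hr hne)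
  have hCC : C = Cc F V := by
    apply le_antisymm
    · intro x hx
      refine ⟨hCV hx, fun α hα τ hτ => (hcj α hα _ (conj_mem_cj hτ)).1 ⟨x, hCV hx⟩ hx⟩
    · rintro x ⟨hxV, hx⟩
      exact hfix ⟨x, hxV⟩ hx
  subst hCC
  refine ⟨W, hWV, hRW, hCZ, hWC, hdec, hcW, hWp, hCinv, ?_, ⟨ε, hε, hε1, hε2⟩, ?_⟩
  · intro b hb
    have hBA := Bc_le (A := F.autGroup V) (csyl hS hi hF hc).le
    unfold Bc at hb
    induction hb using Subgroup.closure_induction with
    | mem x hx =>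
      obtain ⟨α, hα, τ, hτ, rfl⟩ := hx
      exact (hcj α hα _ (conj_mem_cj hτ)).2
    | one => intro x; simp [Subgroup.one_mem]
    | mul u v hu hv ihu ihv =>
      intro x
      have h1 := W.mul_mem (ihv x) (ihu (v x))
      rw [MulAut.mul_apply]
      simpa [mul_assoc] using h1
    | inv u hu ihu =>
      intro x
      have h1 := W.inv_mem (ihu (u⁻¹ x))
      rw [MulAut.apply_inv_self] at h1
      simpa using h1
  · have hR := (c6 hS hi ha hb hab).1
    have hRle : Subgroup.zpowers (a * b * a⁻¹ * b⁻¹) ≤ W ⊓ centralizerIn S S := le_inf hRW htv.RZ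
    have hfW : Finite W := finite_of_le (hWV.trans hc.1)
    have hfWZ : Finite ↥(W ⊓ centralizerIn S S : Subgroup Ω) := finite_of_le (inf_le_left : _ ≤ W)
    refine (eq_of_le_of_card_le hRle ?_).symm
    rw [hR]
    have h1 : Nat.card ↥(W ⊓ centralizerIn S S : Subgroup Ω) ∣ p ^ 2 := by
      rw [← hcW]; exact Subgroup.card_dvd_of_le inf_le_left
    obtain ⟨k, hk, hkc⟩ := (Nat.dvd_prime_pow hp.out).1 h1
    interval_cases k
    · rw [hkc, pow_zero]; exact hp.out.one_lt.le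
    · rw [hkc, pow_one]
    · exfalso
      have h2 : W ⊓ centralizerIn S S = W := eq_of_le_of_card_le inf_le_left (by rw [hkc, hcW])
      obtain ⟨x, hx, hxZ⟩ := cex hS hi hc hne
      obtain ⟨w, hw, c, hc', rfl⟩ := hdec x hx
      exact hxZ (Subgroup.mul_mem _ ((inf_eq_left.1 h2) hw) (hCZ hc'))

end basic

/-- powers of elements of `Aut_F(S)` prime to `p` are inner -/
theorem exists_pow_inn (hS : IsPGroup p S) (hF : F.IsSaturated p) {h : MulAut S} (hh : h ∈ F.autGroup S) :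
    ∃ m, ¬ p ∣ m ∧ h ^ m ∈ autInducedBy S S := by
  have hfA : Finite (F.autGroup S) := finite_autGroup le_rfl
  have hsyl : IsSyl p (autInducedBy S S) (F.autGroup S) :=
    (isFullyAutomized_iff.1 (fn_automized hS hF (fn_top F))).2
  have hn : ((autInducedBy S S).subgroupOf (F.autGroup S)).Normal := by
    refine ⟨fun x hx g => ?_⟩
    rw [Subgroup.mem_subgroupOf] at hx ⊢
    obtain ⟨s, hs, hxs⟩ := mem_autInducedBy.1 hx
    refine mem_autInducedBy.2 ⟨(g : MulAut S) ⟨s, hs⟩, SetLike.coe_mem _, fun y => ?_⟩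
    have h1 : (x : MulAut S) ((g : MulAut S)⁻¹ y) = ⟨s, hs⟩ * (g : MulAut S)⁻¹ y * ⟨s, hs⟩⁻¹ := by
      apply Subtype.ext
      rw [hxs]; rfl
    show (((g : MulAut S) ((x : MulAut S) ((g : MulAut S)⁻¹ y)) : S) : Ω) = _
    rw [h1, map_mul, map_mul, map_inv, MulAut.apply_inv_self]
    rfl
  refine ⟨((autInducedBy S S).subgroupOf (F.autGroup S)).index, hsyl.2.2, ?_⟩
  have h1 := Subgroup.pow_index_mem ((autInducedBy S S).subgroupOf (F.autGroup S)) ⟨h, hh⟩
  rw [Subgroup.mem_subgroupOf] at h1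
  exact h1

end Cfsg.Agent.H1.FusZ
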