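import Mathlib
import Cfsg.Prelude.Def_PLocal
import Cfsg.Agent.H1_FusW
import Cfsg.Agent.H1_FusZ3

/-! Powers of central elements of `p`-groups of small class: normality. -/

set_option autoImplicit false
set_option linter.all false
open Cfsg Cfsg.FusionSystem

namespace Cfsg.Agent.H1.FusW

open Cfsg.Agent.H27.Grp Cfsg.Agent.H27.Fus Cfsg.Agent.H1.FusZ Cfsg.Agent.H1.FusA
open scoped commutatorElement

universe u

variable {Ω : Type u} [Group Ω] {S : Subgroup Ω}
variable {F : FusionSystem S} {P Q R V D : Subgroup Ω} {f g : Ω → Ω} {p : ℕ}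
variable [hp : Fact p.Prime] [Finite S]

/-- normality criterion with an induction hypothesis on larger subgroups -/
theorem normal_of_essential' (hS : IsPGroup p S) (hF : F.IsSaturated p) (hQS : Q ≤ S)
    (htop : ∀ f, Iso F S S f → im Q f = Q)
    (hess : ∀ P : Subgroup Ω, F.IsEssential p P → Q ≤ P ∧
      ((∀ R : Subgroup Ω, Nat.card P < Nat.card R → Q ≤ R → ∀ g, Map F R g → im Q g = Q) →
        ∀ f, Iso F P P f → im Q f = Q)) : F.IsNormal Q := by
  rw [isNormal_iff]
  refine ⟨hQS, ?_⟩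
  refine alperin' hS hF ?_ ?_ ?_
  · refine ⟨?_, ?_, ?_, ?_⟩
    · rintro P f g ⟨k, hk, h1, h2⟩ hfg
      exact ⟨k, hk, fun x hx => by rw [← hfg x hx]; exact h1 x hx, h2⟩
    · rintro P Q' f ⟨k, hk, h1, h2⟩ hQ'
      exact ⟨k, hk.mono (sup_le_sup_right hQ' _), fun x hx => h1 x (hQ' hx), h2⟩
    · rintro P Q' f g hf hg ⟨k, hk, h1, h2⟩ ⟨l, hl, h3, h4⟩ hm
      have hkm : ∀ x ∈ P ⊔ Q, k x ∈ Q' ⊔ Q := hk.maps_sup (fun x hx => by
        rw [h1 x hx]; exact Subgroup.mem_sup_left (hm x hx)) (fun x hx => by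
          exact Subgroup.mem_sup_right (h2.le ((hk.mono le_sup_right).apply_mem_im hx)))
      refine ⟨l ∘ k, hl.comp hk hkm, fun x hx => ?_, ?_⟩
      · show l (k x) = g (f x)
        rw [h1 x hx, h3 _ (hm x hx)]
      · have hkQ := (hk.mono le_sup_right).iso_of_im_eq h2
        have hlQ := (hl.mono le_sup_right).iso_of_im_eq h4
        exact (hkQ.trans hlQ).im_eq
    · rintro P Q' f hi ⟨k, hk, h1, h2⟩
      have him : im (P ⊔ Q) k = Q' ⊔ Q := by
        rw [hk.im_sup, h2, im_congr h1, hi.im_eq]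
      have hik := hk.iso_of_im_eq him
      refine ⟨finv (P ⊔ Q) k, hik.symm.map, fun y hy => ?_, ?_⟩
      · obtain ⟨x, hx, rfl⟩ := hi.surj y hy
        rw [hi.finv_left hx, ← h1 x hx, hik.finv_left (Subgroup.mem_sup_left hx)]
      · have h3 := hik.symm.map.mono (le_sup_right : Q ≤ Q' ⊔ Q)
        apply le_antisymm
        · rw [im_le_iff h3]
          intro x hx
          obtain ⟨y, hy, rfl⟩ := (hk.mono le_sup_right).mem_im.1 (h2.symm.le hx)
          rw [hik.finv_left (Subgroup.mem_sup_right hy)]; exact hy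
        · intro y hy
          have h4 : k y ∈ Q := h2.le ((hk.mono le_sup_right).apply_mem_im hy)
          have h5 := h3.apply_mem_im h4
          rwa [hik.finv_left (Subgroup.mem_sup_right hy)] at h5
  · intro f hf
    exact ⟨f, by rw [sup_eq_left.2 hQS]; exact hf.map, fun x _ => rfl, htop f hf⟩
  · intro P hP ih f hf
    obtain ⟨h1, h2⟩ := hess P hP
    refine ⟨f, by rw [sup_eq_left.2 h1]; exact hf.map, fun x _ => rfl, h2 ?_ f hf⟩
    intro R hR hQR g hg
    obtain ⟨k, hk, hkg, hkQ⟩ := ih R hR g hg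
    have h3 : im Q g = im Q k := im_congr fun x hx => (hkg x (hQR hx)).symm
    rw [h3, hkQ]

theorem pc_le (n : ℕ) (H : Subgroup Ω) : powerClosure p n H ≤ H := by
  unfold powerClosure
  rw [Subgroup.closure_le]
  rintro _ ⟨x, hx, rfl⟩
  exact H.pow_mem hx _

/-- invariance of the power closure -/
theorem pc_map {H : Subgroup Ω} (n : ℕ) (hf : Map F R f) (hHR : H ≤ R) (h : ∀ x ∈ H, f x ∈ H) :
    ∀ x ∈ powerClosure p n H, f x ∈ powerClosure p n H := by
  intro x hx
  have hxH := pc_le n H hx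
  unfold powerClosure at hx
  induction hx using Subgroup.closure_induction with
  | mem x hx =>
    obtain ⟨y, hy, rfl⟩ := hx
    rw [hf.pow (hHR hy)]
    exact Subgroup.subset_closure ⟨f y, h y hy, rfl⟩
  | one => rw [hf.one]; exact Subgroup.one_mem _
  | mul a b ha hb iha ihb =>
    have ha' : a ∈ H := pc_le n H ha
    have hb' : b ∈ H := pc_le n H hb
    rw [hf.mul (hHR ha') (hHR hb')]
    exact Subgroup.mul_mem _ (iha ha') (ihb hb')
  | inv a ha iha =>
    have ha' : a ∈ H := pc_le n H ha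
    rw [hf.inv (hHR ha')]
    exact Subgroup.inv_mem _ (iha ha')

theorem ess_step (hS : IsPGroup p S) (hF : F.IsSaturated p) (n : ℕ)
    (hcl : Subgroup.lowerCentralSeries S (n * (p - 1) + 1) = ⊥) (hP : F.IsEssential p P)
    (IH : ∀ R : Subgroup Ω, Nat.card P < Nat.card R → powerClosure p n (centralizerIn S S) ≤ R → ∀ g, Map F R g →
      im (powerClosure p n (centralizerIn S S)) g = powerClosure p n (centralizerIn S S))
    (hf : Iso F P P f) : im (powerClosure p n (centralizerIn S S)) f = powerClosure p n (centralizerIn S S) := by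
  set Z := centralizerIn S S with hZ
  set D := powerClosure p n Z with hD
  have hc := hP.1
  have hfn := hP.2.1
  have hPS := hc.1
  have hZP : Z ≤ P := zc_le hc
  have hDZ : D ≤ Z := pc_le n Z
  have hDP : D ≤ P := hDZ.trans hZP
  have hfP : Finite P := finite_of_le hPS
  have hfA : Finite (F.autGroup P) := finite_autGroup hPS
  have hsyl : IsSyl p (autInducedBy S P) (F.autGroup P) := (isFullyAutomized_iff.1 (fn_automized hS hF hfn)).2
  set T := autInducedBy S P with hT
  have hfT : Finite T := finite_of_le hsyl.le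
  -- the stabiliser of `D`
  let B : Subgroup (MulAut P) :=
    { carrier := {α | α ∈ F.autGroup P ∧ ∀ x : P, (x : Ω) ∈ D ↔ ((α x : P) : Ω) ∈ D}
      one_mem' := ⟨Subgroup.one_mem _, fun x => Iff.rfl⟩
      mul_mem' := by
        rintro a b ⟨ha, ha'⟩ ⟨hb, hb'⟩
        exact ⟨Subgroup.mul_mem _ ha hb, fun x => (hb' x).trans (ha' (b x))⟩
      inv_mem' := by
        rintro a ⟨ha, ha'⟩
        refine ⟨Subgroup.inv_mem _ ha, fun x => ?_⟩
        have := ha' (a⁻¹ x)
        rw [MulAut.apply_inv_self] at this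
        exact this.symm }
  have hBA : B ≤ F.autGroup P := fun α hα => hα.1
  have hfix : ∀ τ ∈ T, ∀ x : P, (x : Ω) ∈ Z → τ x = x := by
    intro τ hτ x hx
    obtain ⟨g, hg, h⟩ := mem_autInducedBy.1 hτ
    apply Subtype.ext
    rw [h x, cen_comm hx hg]
    group
  have hTB : T ≤ B := by
    intro τ hτ
    refine ⟨hsyl.le hτ, fun x => ⟨fun hx => ?_, fun hx => ?_⟩⟩
    · rw [hfix τ hτ x (hDZ hx)]; exact hx
    · have h1 := hfix τ⁻¹ (T.inv_mem hτ) (τ x) (hDZ hx)
      rw [MulAut.inv_apply_self] at h1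
      rw [h1]; exact hx
  suffices hBA' : F.autGroup P ≤ B by
    apply im_eq_of_forall hf.map hDP
    intro x hx
    have := ((hBA' hf.aut_mem).2 ⟨x, hDP hx⟩).1 hx
    rwa [Iso.aut_apply] at this
  by_contra hcon
  obtain ⟨a₀, ha₀, ha₀B⟩ := SetLike.not_le_iff_exists.1 hcon
  -- maximal intersection
  have hfin : {a | a ∈ F.autGroup P ∧ a ∉ B}.Finite := (Set.toFinite (F.autGroup P : Set (MulAut P))).subset fun a ha => ha.1
  obtain ⟨a, ⟨ha, haB⟩, hmax⟩ := hfin.exists_maximalFor (fun a => Nat.card (T ⊓ cj a T : Subgroup (MulAut P))) _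
    ⟨a₀, ha₀, ha₀B⟩
  have hmax : ∀ b, b ∈ F.autGroup P → b ∉ B →
      Nat.card (T ⊓ cj b T : Subgroup (MulAut P)) ≤ Nat.card (T ⊓ cj a T : Subgroup (MulAut P)) := by
    intro b hb hbB
    rcases le_total (Nat.card (T ⊓ cj b T : Subgroup (MulAut P))) (Nat.card (T ⊓ cj a T : Subgroup (MulAut P))) with h | h
    · exact h
    · exact hmax ⟨hb, hbB⟩ h
  set T₀ := T ⊓ cj a T with hT₀
  by_cases hTT : T₀ = T
  · -- `a` normalises `T`
    have h1 : T ≤ cj a T := by
      have : T₀ ≤ cj a T := inf_le_right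
      rwa [hTT] at this
    have hfc : Finite (cj a T) := finite_of_le (hsyl.cj_mem ha).le
    have h2 : T = cj a T := eq_of_le_of_card_le h1 (card_cj a T).le
    apply haB
    have hi := (mem_autGroup_iff hPS).1 ha
    have hext : normalizerIn S P ≤ ext S P (totA a) := by
      intro s hs
      refine mem_ext.2 ⟨hs.1, hs.2, ?_⟩
      have h3 : a * cjA P s hs.2 * a⁻¹ ∈ T := by
        rw [h2]; exact conj_mem_cj (cjA_mem hs.2 hs.1)
      obtain ⟨t, ht, htn⟩ := mem_autInducedBy.1 h3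
      refine ⟨t, ht, fun x hx => ?_⟩
      have h4 := htn (a ⟨x, hx⟩)
      have h5 : (a * cjA P s hs.2 * a⁻¹) (a ⟨x, hx⟩) = a (cjA P s hs.2 ⟨x, hx⟩) := by
        rw [MulAut.mul_apply, MulAut.mul_apply, MulAut.inv_apply_self]
      rw [h5] at h4
      rw [totA_of_mem _ hx, ← h4]
      have h6 : s * x * s⁻¹ ∈ P := (Subgroup.mem_normalizer_iff.1 hs.2 x).1 hx
      rw [totA_of_mem _ h6]
      rfl
    obtain ⟨g, hg, hgf⟩ := receptive_ext' (fn_receptive hS hF hfn) hi hext
    have hfN : Finite (normalizerIn S P) := fin_nrm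
    have hlt : Nat.card P < Nat.card (normalizerIn S P) := by
      apply card_lt_of_lt
      obtain ⟨s, hs, hsX, hsN⟩ := exists_mem_normalizer_of_lt hS (essential_lt hS hF hP)
      refine (lt_of_le_of_ne (le_nrm hPS) fun h => hsX ?_)
      rw [h]; exact ⟨hs, hsN⟩
    have h7 := IH _ hlt (hDP.trans (le_nrm hPS)) g hg
    refine ⟨ha, fun x => ?_⟩
    have h8 := hg.mono (le_nrm hPS)
    have h9 := hg.mono (hDP.trans (le_nrm hPS))
    have h10 : ((a x : P) : Ω) = g x := by rw [hgf x x.2, totA_apply]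
    rw [h10]
    constructor
    · intro hx
      have := h9.apply_mem_im hx
      rwa [h7] at this
    · intro hx
      rw [← h7] at hx
      obtain ⟨y, hy, hyx⟩ := h9.mem_im.1 hx
      rw [← h8.inj (hDP hy) x.2 hyx]; exact hy
  · obtain ⟨t, htT, htT₀, htp⟩ := exists_step hsyl.isPGroup (inf_le_left : T₀ ≤ T) hTT
    have hfixa : ∀ τ ∈ cj a T, ∀ z : P, (z : Ω) ∈ Z → τ (a z) = a z := by
      rintro _ ⟨σ, hσ, rfl⟩ z hz
      show a (σ (a⁻¹ (a z))) = a z
      rw [MulAut.inv_apply_self, hfix σ hσ z hz]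
    obtain ⟨s, hs, hst⟩ := mem_autInducedBy.1 htT
    -- elements of the centre of `P`
    have haz : ∀ z : P, (z : Ω) ∈ Z → ((a z : P) : Ω) ∈ centralizerIn P P := by
      intro z hz
      refine mem_cen.2 ⟨(a z).2, fun y hy => ?_⟩
      have h1 : (a⁻¹ ⟨y, hy⟩) * z = z * a⁻¹ ⟨y, hy⟩ := Subtype.ext (cen_comm hz (hPS (a⁻¹ ⟨y, hy⟩).2))
      have h2 := congrArg a h1
      rw [map_mul, map_mul, MulAut.apply_inv_self] at h2
      exact congrArg Subtype.val h2
    have hsP : ∀ v ∈ centralizerIn P P, s * v * s⁻¹ ∈ centralizerIn P P := by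
      intro v hv
      have h1 : ∀ x : P, s * (x : Ω) * s⁻¹ = (t x : P) := fun x => (hst x).symm
      refine mem_cen.2 ⟨by rw [h1 ⟨v, cen_le hv⟩]; exact SetLike.coe_mem _, fun y hy => ?_⟩
      have h2 : (t⁻¹ ⟨y, hy⟩) * ⟨v, cen_le hv⟩ = ⟨v, cen_le hv⟩ * t⁻¹ ⟨y, hy⟩ := Subtype.ext (cen_comm hv (t⁻¹ ⟨y, hy⟩).2)
      have h3 := congrArg t h2
      rw [map_mul, map_mul, MulAut.apply_inv_self] at h3
      rw [h1 ⟨v, cen_le hv⟩]
      exact congrArg Subtype.val h3
    have hkey : ∀ z : P, (z : Ω) ∈ Z → t ((a z) ^ (p ^ n)) = (a z) ^ (p ^ n) := by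
      intro z hz
      apply Subtype.ext
      have hpw : ∀ k : ℕ, ∀ x : P, (((t ^ k) x : P) : Ω) = s ^ k * x * (s ^ k)⁻¹ := by
        intro k
        induction k with
        | zero => intro x; simp
        | succ k ih =>
          intro x
          rw [pow_succ', MulAut.mul_apply, hst, ih, pow_succ']
          group
      have h1 : (t ^ p) (a z) = a z := hfixa _ (inf_le_right (a := T) htp) z hz
      have h2 : s ^ p * ((a z : P) : Ω) = ((a z : P) : Ω) * s ^ p := by
        have h3 := congrArg Subtype.val h1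
        rw [hpw p (a z)] at h3
        rw [mul_inv_eq_iff_eq_mul] at h3
        exact h3
      have h4 := grp_key hp.out n hcl (V := centralizerIn P P) (fun a ha b hb => (cen_comm hb (cen_le ha)))
        (cen_le.trans hPS) hs hsP (haz z hz) h2
      rw [hst, Subgroup.coe_pow, h4, mul_inv_cancel_right]
    -- `t` fixes `a D`
    have htD : ∀ x : P, (x : Ω) ∈ D → t (a x) = a x := by
      have h0 : ∀ w ∈ D, ∀ hw : w ∈ P, t (a ⟨w, hw⟩) = a ⟨w, hw⟩ := by
        intro w hwD
        rw [hD] at hwD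
        unfold powerClosure at hwD
        induction hwD using Subgroup.closure_induction with
        | mem x hx =>
          obtain ⟨y, hy, rfl⟩ := hx
          intro hw
          have h1 : (⟨y ^ p ^ n, hw⟩ : P) = (⟨y, hZP hy⟩ : P) ^ (p ^ n) := Subtype.ext rfl
          rw [h1, map_pow]
          exact hkey ⟨y, hZP hy⟩ hy
        | one =>
          intro hw
          have : (⟨1, hw⟩ : P) = 1 := rfl
          rw [this, map_one, map_one]
        | mul u v hu hv ihu ihv =>
          intro hw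
          have hu' : u ∈ P := hDP hu
          have hv' : v ∈ P := hDP hv
          have h1 : (⟨u * v, hw⟩ : P) = ⟨u, hu'⟩ * ⟨v, hv'⟩ := rfl
          rw [h1, map_mul, map_mul, ihu hu', ihv hv']
        | inv u hu ihu =>
          intro hw
          have hu' : u ∈ P := hDP hu
          have h1 : (⟨u⁻¹, hw⟩ : P) = ⟨u, hu'⟩⁻¹ := rfl
          rw [h1, map_inv, map_inv, ihu hu']
      intro x hx
      exact h0 x hx x.2
    -- the pointwise stabiliser of `a D`
    let X : Subgroup (MulAut P) := T₀ ⊔ Subgroup.zpowers t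
    have hXT : X ≤ T := sup_le inf_le_left (Subgroup.zpowers_le.2 htT)
    let Y : Subgroup (MulAut P) :=
      { carrier := {α | ∀ x : P, (x : Ω) ∈ D → α (a x) = a x}
        one_mem' := fun x _ => rfl
        mul_mem' := by
          intro u v hu hv x hx
          rw [MulAut.mul_apply, hv x hx, hu x hx]
        inv_mem' := by
          intro u hu x hx
          calc u⁻¹ (a x) = u⁻¹ (u (a x)) := by rw [hu x hx]
            _ = _ := MulAut.inv_apply_self _ _ _ }
    have hXY : X ≤ Y := by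
      refine sup_le ?_ (Subgroup.zpowers_le.2 htD)
      intro τ hτ x hx
      exact hfixa τ (inf_le_right (a := T) hτ) x (hDZ hx)
    have hXB : cj a⁻¹ X ≤ B := by
      rintro _ ⟨χ, hχ, rfl⟩
      have h1 : ∀ x : P, (x : Ω) ∈ D → (a⁻¹ * χ * a⁻¹⁻¹) x = x := by
        intro x hx
        show a⁻¹ (χ (a⁻¹⁻¹ x)) = x
        rw [inv_inv, hXY hχ x hx, MulAut.inv_apply_self]
      have h2 : ∀ x : P, (x : Ω) ∈ D → (a⁻¹ * χ * a⁻¹⁻¹)⁻¹ x = x := by
        intro x hx
        calc (a⁻¹ * χ * a⁻¹⁻¹)⁻¹ x = (a⁻¹ * χ * a⁻¹⁻¹)⁻¹ ((a⁻¹ * χ * a⁻¹⁻¹) x) := by rw [h1 x hx]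
          _ = x := MulAut.inv_apply_self _ _ _
      refine ⟨Subgroup.mul_mem _ (Subgroup.mul_mem _ (Subgroup.inv_mem _ ha) (hsyl.le (hXT hχ)))
        (Subgroup.inv_mem _ (Subgroup.inv_mem _ ha)), fun x => ⟨fun hx => ?_, fun hx => ?_⟩⟩
      · show (((a⁻¹ * χ * a⁻¹⁻¹) x : P) : Ω) ∈ D
        rw [h1 x hx]; exact hx
      · have h3 : (((a⁻¹ * χ * a⁻¹⁻¹) x : P) : Ω) ∈ D := hx
        have h4 := h2 _ h3
        rw [MulAut.inv_apply_self] at h4
        rw [h4]; exact h3
    have hfB : Finite B := finite_of_le hBA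
    have hXp : IsPGroup p (cj a⁻¹ X) := isPGroup_cj (isPGroup_mono hsyl.isPGroup hXT)
    obtain ⟨b, hb, hbX⟩ := (hsyl.mono hTB hBA).conj hXB hXp
    have hab : a * b⁻¹ ∉ B := fun h => haB (by
      have := B.mul_mem h hb
      rwa [inv_mul_cancel_right] at this)
    have hXle : X ≤ T ⊓ cj (a * b⁻¹) T := by
      refine le_inf hXT fun x hx => ?_
      have h1 := hbX (conj_mem_cj (g := b) (conj_mem_cj (g := a⁻¹) hx))
      have h2 := conj_mem_cj (g := a * b⁻¹) h1
      have h3 : a * b⁻¹ * (b * (a⁻¹ * x * a⁻¹⁻¹) * b⁻¹) * (a * b⁻¹)⁻¹ = x := by group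
      rwa [h3] at h2
    have h1 := hmax (a * b⁻¹) (Subgroup.mul_mem _ ha (Subgroup.inv_mem _ (hBA hb))) hab
    have hfX : Finite (T ⊓ cj (a * b⁻¹) T : Subgroup (MulAut P)) := finite_of_le (inf_le_left : _ ≤ T)
    have hfX' : Finite X := finite_of_le hXT
    have hlt : T₀ < X := by
      refine lt_of_le_of_ne le_sup_left fun h => htT₀ ?_
      have : t ∈ X := Subgroup.mem_sup_right (Subgroup.mem_zpowers t)
      rwa [← h] at this
    have h2 := card_lt_of_lt hlt
    have h3 := card_le_of_le hXle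
    omega

end Cfsg.Agent.H1.FusW
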