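import Mathlib
import Cfsg.Agent.H1_FusZ3
import Cfsg.Agent.H27_FusHyp

/-! Fusion systems on `p`-groups whose centre has index `p²`: conclusion. -/

set_option autoImplicit false
set_option linter.all false
open Cfsg Cfsg.FusionSystem

namespace Cfsg.Agent.H1.FusZ

open Cfsg.Agent.H27.Grp Cfsg.Agent.H27.Fus Cfsg.Agent.H1.FusA Cfsg.Agent.H1.FusT
open scoped commutatorElement

universe u

variable {Ω : Type u} [Group Ω] {S : Subgroup Ω}
variable {F : FusionSystem S} {P Q R V D : Subgroup Ω} {f g : Ω → Ω} {p : ℕ}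
variable [hp : Fact p.Prime] [Finite S]

section basic

variable (hS : IsPGroup p S) (hi : (Subgroup.center S).index = p ^ 2) (hF : F.IsSaturated p)
include hS hi hF

theorem neg_ext (hc : F.IsCentric V) (hne : V ≠ S) {W : Subgroup Ω} (hWV : W ≤ V)
    {a b : Ω} (ha : a ∈ S) (hb : b ∈ S) (hab : a * b ≠ b * a)
    (hRW : Subgroup.zpowers (a * b * a⁻¹ * b⁻¹) ≤ W) (hCZ : Cc F V ≤ centralizerIn S S)
    (hdec : ∀ x ∈ V, ∃ w ∈ W, ∃ c ∈ Cc F V, w * c = x)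
    {ε : MulAut V} (hε : ε ∈ F.autGroup V) (h1 : ∀ x : V, (x : Ω) ∈ W → ε x = x⁻¹)
    (h2 : ∀ x : V, (x : Ω) ∈ Cc F V → ε x = x) :
    ∃ g, Iso F S S g ∧ (∀ x ∈ W, g x = x⁻¹) ∧ ∀ x ∈ Cc F V, g x = x := by
  have hVn : ∀ s ∈ S, s ∈ Subgroup.normalizer (V : Set Ω) := fun s hs => cnorm hS hi (zc_le hc) hc.1 hs
  have htv := ctv hS hi hc hne ha hb hab
  have hcm : ∀ τ ∈ autInducedBy S V, ε * τ * ε⁻¹ = τ := by
    intro τ hτ
    rw [mul_inv_eq_iff_eq_mul]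
    ext x
    obtain ⟨w, hw, c, hc', hwc⟩ := hdec x x.2
    have hx : x = (⟨w, hWV hw⟩ : V) * ⟨c, Cc_le hc'⟩ := Subtype.ext hwc.symm
    have h3 : τ ⟨c, Cc_le hc'⟩ = ⟨c, Cc_le hc'⟩ := htv.fix τ hτ _ (hCZ hc')
    have h4 : ((τ ⟨w, hWV hw⟩ : V) : Ω) ∈ W := by
      have h5 := W.mul_mem hw (hRW (htv.quo τ hτ ⟨w, hWV hw⟩))
      simpa using h5
    have h6 : ε (τ x) = τ (ε x) := by
      rw [hx, map_mul τ, h3, map_mul ε, h1 _ h4, h2 ⟨c, Cc_le hc'⟩ hc', map_mul ε, h1 ⟨w, hWV hw⟩ hw,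
        h2 ⟨c, Cc_le hc'⟩ hc', map_mul τ, h3, map_inv]
    show ((ε (τ x) : V) : Ω) = (τ (ε x) : V)
    rw [h6]
  obtain ⟨g, hg, hgn⟩ := extend_n hS hF (cfn hS hi hc) hVn hε fun τ hτ => by rw [hcm τ hτ]; exact hτ
  refine ⟨g, hg, fun x hx => ?_, fun x hx => ?_⟩
  · have := hgn ⟨x, hWV hx⟩
    rw [h1 _ hx] at this
    exact this
  · have := hgn ⟨x, Cc_le hx⟩
    rw [h2 _ hx] at this
    exact this

theorem Cc_le_odd (hp2 : p ≠ 2) {V' : Subgroup Ω} (hc : F.IsCentric V) (hr : F.IsRadical p V) (hne : V ≠ S)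
    (hc' : F.IsCentric V') (hr' : F.IsRadical p V') (hne' : V' ≠ S)
    {a b : Ω} (ha : a ∈ S) (hb : b ∈ S) (hab : a * b ≠ b * a) : Cc F V ≤ Cc F V' := by
  obtain ⟨W, hWV, hRW, hCZ, hWC, hdec, hcW, hWp, hCinv, hB, ⟨ε, hε, hε1, hε2⟩, hWZ⟩ :=
    struct hS hi hF hc hr hne ha hb hab
  obtain ⟨W', hWV', hRW', hCZ', hWC', hdec', hcW', hWp', hCinv', hB', ⟨ε', hε', hε1', hε2'⟩, hWZ'⟩ :=
    struct hS hi hF hc' hr' hne' ha hb hab
  obtain ⟨g, hg, hg1, hg2⟩ := neg_ext hS hi hF hc hne hWV ha hb hab hRW hCZ hdec hε hε1 hε2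
  obtain ⟨g', hg', hg1', hg2'⟩ := neg_ext hS hi hF hc' hne' hWV' ha hb hab hRW' hCZ' hdec' hε' hε1' hε2'
  intro z hz
  have hzZ := hCZ hz
  obtain ⟨w, hw, c, hc1, hwc⟩ := hdec' z (zc_le hc' hzZ)
  have hwZ : w ∈ centralizerIn S S := by
    have : w = z * c⁻¹ := by rw [← hwc]; group
    rw [this]; exact Subgroup.mul_mem _ hzZ (Subgroup.inv_mem _ (hCZ' hc1))
  have hwR : w ∈ Subgroup.zpowers (a * b * a⁻¹ * b⁻¹) := by rw [← hWZ']; exact ⟨hw, hwZ⟩
  have hwW : w ∈ W := hRW hwR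
  suffices hw1 : w = 1 by rw [← hwc, hw1, one_mul]; exact hc1
  have hwS : w ∈ S := cen_le hwZ
  have hcS : c ∈ S := cen_le (hCZ' hc1)
  have hzS : z ∈ S := cen_le hzZ
  -- the product automorphism
  have e1 : g' z = w⁻¹ * c := by
    rw [← hwc, hg'.map.mul hwS hcS, hg1' w hw, hg2' c hc1]
  have hcw : c = w⁻¹ * z := by rw [← hwc]; group
  have e2 : g (g' z) = w * w * z := by
    rw [e1, hcw, hg.map.mul (S.inv_mem hwS) (S.mul_mem (S.inv_mem hwS) hzS), hg.map.mul (S.inv_mem hwS) hzS,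
      hg2 z hz, hg1 _ (W.inv_mem hwW), inv_inv, mul_assoc]
  have e3 : g (g' w) = w := by
    rw [hg1' w hw, hg1 _ (W.inv_mem hwW), inv_inv]
  set h : MulAut S := hg.aut * hg'.aut with hh
  have hhm : h ∈ F.autGroup S := Subgroup.mul_mem _ hg.aut_mem hg'.aut_mem
  have e4 : h ⟨z, hzS⟩ = ⟨z, hzS⟩ * (⟨w, hwS⟩ * ⟨w, hwS⟩) := by
    apply Subtype.ext
    show g (g' z) = z * (w * w)
    rw [e2, cen_comm hzZ (S.mul_mem hwS hwS)]
  have e5 : h (⟨w, hwS⟩ * ⟨w, hwS⟩) = ⟨w, hwS⟩ * ⟨w, hwS⟩ := by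
    have : h ⟨w, hwS⟩ = ⟨w, hwS⟩ := Subtype.ext e3
    rw [map_mul, this]
  obtain ⟨m, hm, hmi⟩ := exists_pow_inn hS hF hhm
  obtain ⟨s, hs, hsm⟩ := mem_autInducedBy.1 hmi
  have e6 := hsm ⟨z, hzS⟩
  rw [pow_aut e4 e5 m] at e6
  have e7 : z * (w * w) ^ m = s * z * s⁻¹ := e6
  rw [cen_comm hzZ hs] at e7
  have e8 : (w * w) ^ m = 1 := by
    have : z * (w * w) ^ m = z * 1 := by rw [e7]; group
    exact mul_left_cancel this
  rw [← sq, ← pow_mul] at e8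
  have e9 := hWp' w hw
  have e10 : orderOf w ∣ 2 * m := orderOf_dvd_of_pow_eq_one e8
  have e11 : orderOf w ∣ p := orderOf_dvd_of_pow_eq_one e9
  have e12 : Nat.Coprime (2 * m) p := by
    rw [Nat.coprime_comm, hp.out.coprime_iff_not_dvd]
    intro h
    rcases hp.out.dvd_mul.1 h with h | h
    · have h3 := Nat.le_of_dvd (by norm_num) h
      have h4 := hp.out.two_le
      omega
    · exact hm h
  have e13 := Nat.dvd_gcd e10 e11
  rw [e12] at e13
  exact orderOf_eq_one_iff.1 (Nat.dvd_one.1 e13)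

/-- conclusion when `Cc F V = ⊥` -/
theorem card_of_bot (hc : F.IsCentric V) (hr : F.IsRadical p V) (hne : V ≠ S)
    {a b : Ω} (ha : a ∈ S) (hb : b ∈ S) (hab : a * b ≠ b * a)
    (hRZ : centralizerIn S S ≤ Subgroup.zpowers (a * b * a⁻¹ * b⁻¹)) : Nat.card S = p ^ 3 := by
  have h1 : centralizerIn S S = Subgroup.zpowers (a * b * a⁻¹ * b⁻¹) :=
    le_antisymm hRZ (Subgroup.zpowers_le.2 (c6 hS hi ha hb hab).2)
  have h5 := ((centralizerIn S S).subgroupOf S).index_mul_card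
  have h6 : Nat.card ((centralizerIn S S).subgroupOf S) = Nat.card (centralizerIn S S) :=
    Nat.card_congr (Subgroup.subgroupOfEquivOfLe cen_le).toEquiv
  have h7 : ((centralizerIn S S).subgroupOf S).index = p ^ 2 := by
    rw [← hi, ← relIndex_cenS]; rfl
  rw [h6, h7, h1, (c6 hS hi ha hb hab).1] at h5
  rw [← h5]; ring

end basic

/-- odd case -/
theorem odd_case (hS : IsPGroup p S) (hi : (Subgroup.center S).index = p ^ 2) (hF : F.IsSaturated p) (hp2 : p ≠ 2)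
    (hcore : F.core = ⊥) (hS1 : S ≠ ⊥)
    {a b : Ω} (ha : a ∈ S) (hb : b ∈ S) (hab : a * b ≠ b * a) :
    Nat.card S = p ^ 3 ∧ ∀ x ∈ S, x ^ p = 1 := by
  obtain ⟨V, V', ⟨hc, hr, hne⟩, ⟨hc', hr', hne'⟩, hVV⟩ := exists_two hS hF hcore hi hS1
  have key : ∀ V : Subgroup Ω, F.IsCentric V → F.IsRadical p V → V ≠ S → ∀ x ∈ Cc F V, x = 1 := by
    intro V hc hr hne x hx
    exact eq_one_of_Cc hS hi hF hcore hc hr hne fun V' hc' hr' hne' =>
      Cc_le_odd hS hi hF hp2 hc hr hne hc' hr' hne' ha hb hab hx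
  obtain ⟨W, hWV, hRW, hCZ, hWC, hdec, hcW, hWp, hCinv, hB, -, hWZ⟩ := struct hS hi hF hc hr hne ha hb hab
  obtain ⟨W', hWV', hRW', hCZ', hWC', hdec', hcW', hWp', hCinv', hB', -, hWZ'⟩ :=
    struct hS hi hF hc' hr' hne' ha hb hab
  have hV : ∀ x ∈ V, x ∈ W := by
    intro x hx
    obtain ⟨w, hw, c, hc1, rfl⟩ := hdec x hx
    rw [key V hc hr hne c hc1, mul_one]; exact hw
  have hV' : ∀ x ∈ V', x ∈ W' := by
    intro x hx
    obtain ⟨w, hw, c, hc1, rfl⟩ := hdec' x hx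
    rw [key V' hc' hr' hne' c hc1, mul_one]; exact hw
  refine ⟨card_of_bot hS hi hF hc hr hne ha hb hab ?_, ?_⟩
  · rw [← hWZ]
    exact le_inf (fun x hx => hV x (zc_le hc hx)) le_rfl
  · intro x hx
    obtain ⟨u, hu, huZ⟩ := cex hS hi hc hne
    obtain ⟨v, hv, hvZ⟩ := cex hS hi hc' hne'
    have huv : u * v ≠ v * u := by
      intro h
      apply hvZ
      have h1 : v ∈ V := ccen hS hi hc hne hu huZ (hc'.1 hv) h.symm
      exact cinter hS hi hc hne hc' hne' hVV ⟨h1, hv⟩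
    obtain ⟨j, i, z, hz, rfl⟩ := c4 hS hi (hc.1 hu) (hc'.1 hv) huv hx
    have h1 : (v ^ j) ^ p = 1 := hWp' _ (hV' _ (V'.zpow_mem hv _))
    have h2 : (u ^ i * z) ^ p = 1 := hWp _ (hV _ (V.mul_mem (V.zpow_mem hu _) (zc_le hc hz)))
    have hvS : v ^ j ∈ S := S.zpow_mem (hc'.1 hv) _
    have huS : u ^ i * z ∈ S := S.mul_mem (S.zpow_mem (hc.1 hu) _) (cen_le hz)
    have h3 := Cfsg.Agent.H2.Class.mul_pow_p (G := S) hp.out hp2 (fun x y => comm_mem hi x y)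
      ⟨v ^ j, hvS⟩ ⟨u ^ i * z, huS⟩ (comm_pow hS hi ⟨⟨a, ha⟩, ⟨b, hb⟩, fun h => hab (congrArg Subtype.val h)⟩ _ _)
    have h4 : (v ^ j * (u ^ i * z)) ^ p = (v ^ j) ^ p * (u ^ i * z) ^ p := congrArg Subtype.val h3
    rw [h4, h1, h2, one_mul]

/-- `p = 2` case -/
theorem two_case {S : Subgroup Ω} [Finite S] {F : FusionSystem S} (hS : IsPGroup 2 S)
    (hi : (Subgroup.center S).index = 2 ^ 2) (hF : F.IsSaturated 2)
    (hcore : F.core = ⊥) (hfoc : F.focalSubgroup = S) (hS1 : S ≠ ⊥)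
    {a b : Ω} (ha : a ∈ S) (hb : b ∈ S) (hab : a * b ≠ b * a) :
    Nat.card S = 2 ^ 3 ∧ ∃ u ∈ S, ∃ v ∈ S, u ^ 2 = 1 ∧ v ^ 2 = 1 ∧ u * v ≠ v * u := by
  haveI : Fact (Nat.Prime 2) := ⟨Nat.prime_two⟩
  obtain ⟨V, V', ⟨hc, hr, hne⟩, ⟨hc', hr', hne'⟩, hVV⟩ := exists_two hS hF hcore hi hS1
  -- squares of the centre
  let Φ : Subgroup Ω :=
    { carrier := {x | ∃ z ∈ centralizerIn S S, z ^ 2 = x}
      one_mem' := ⟨1, Subgroup.one_mem _, one_pow 2⟩
      mul_mem' := by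
        rintro _ _ ⟨x, hx, rfl⟩ ⟨y, hy, rfl⟩
        have hxy : Commute x y := cen_comm hy (cen_le hx)
        exact ⟨x * y, Subgroup.mul_mem _ hx hy, hxy.mul_pow 2⟩
      inv_mem' := by
        rintro _ ⟨x, hx, rfl⟩
        exact ⟨x⁻¹, Subgroup.inv_mem _ hx, inv_pow x 2⟩ }
  have hΦZ : Φ ≤ centralizerIn S S := by
    rintro _ ⟨x, hx, rfl⟩; exact Subgroup.pow_mem _ hx 2
  have hZinv : ∀ f, Iso F S S f → ∀ x ∈ centralizerIn S S, f x ∈ centralizerIn S S := by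
    intro f hf x hx
    refine mem_cen.2 ⟨hf.map.mem (cen_le hx), fun y hy => ?_⟩
    obtain ⟨y', hy', rfl⟩ := hf.surj y hy
    rw [← hf.map.mul hy' (cen_le hx), ← hf.map.mul (cen_le hx) hy', cen_comm hx hy']
  have hΦn : F.IsNormal Φ := by
    refine normal_of_essential hS hF ?_
    rintro P (rfl | hP)
    · refine ⟨hΦZ.trans cen_le, fun f hf => im_eq_of_forall hf.map (hΦZ.trans cen_le) ?_⟩
      rintro _ ⟨x, hx, rfl⟩
      exact ⟨f x, hZinv f hf x hx, (hf.map.pow (cen_le hx) 2).symm⟩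
    · have hPc := hP.1
      have hPr := essential_radical hS hP
      have hPne := essential_ne_top hS hF hP
      refine ⟨hΦZ.trans (zc_le hPc), fun f hf => im_eq_of_forall hf.map (hΦZ.trans (zc_le hPc)) ?_⟩
      rintro _ ⟨x, hx, rfl⟩
      obtain ⟨W, hWV, hRW, hCZ, hWC, hdec, hcW, hWp, hCinv, hB, -, hWZ⟩ := struct hS hi hF hPc hPr hPne ha hb hab
      have hxP := zc_le hPc hx
      obtain ⟨w, hw, c, hcC, rfl⟩ := hdec x hxP
      have hcP : c ∈ P := Cc_le hcC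
      have h1 : (w * c) ^ 2 = c ^ 2 := by
        have h2 : Commute w c := cab hS hi hPc hPne w (hWV hw) c hcP
        rw [h2.mul_pow, hWp w hw, one_mul]
      rw [h1, hf.map.pow hcP]
      exact ⟨f c, hCZ (hCinv _ hf.aut_mem ⟨c, hcP⟩ hcC), rfl⟩
  have hZ2 : ∀ z ∈ centralizerIn S S, z ^ 2 = 1 := by
    intro z hz
    have h1 := le_core hΦn
    rw [hcore] at h1
    exact Subgroup.mem_bot.1 (h1 ⟨z, hz, rfl⟩)
  have hV2 : ∀ V : Subgroup Ω, F.IsCentric V → F.IsRadical 2 V → V ≠ S → ∀ x ∈ V, x ^ 2 = 1 := by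
    intro V hc hr hne x hx
    obtain ⟨W, hWV, hRW, hCZ, hWC, hdec, hcW, hWp, hCinv, hB, -, hWZ⟩ := struct hS hi hF hc hr hne ha hb hab
    obtain ⟨w, hw, c, hcC, rfl⟩ := hdec x hx
    have h2 : Commute w c := cab hS hi hc hne w (hWV hw) c (Cc_le hcC)
    rw [h2.mul_pow, hWp w hw, hZ2 c (hCZ hcC), one_mul]
  obtain ⟨u, hu, huZ⟩ := cex hS hi hc hne
  obtain ⟨v, hv, hvZ⟩ := cex hS hi hc' hne'
  have huS := hc.1 hu
  have hvS := hc'.1 hv
  have huv : u * v ≠ v * u := by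
    intro h
    apply hvZ
    have h1 : v ∈ V := ccen hS hi hc hne hu huZ (hc'.1 hv) h.symm
    exact cinter hS hi hc hne hc' hne' hVV ⟨h1, hv⟩
  have hu2 := hV2 V hc hr hne u hu
  have hv2 := hV2 V' hc' hr' hne' v hv
  -- only `V` and `V'`
  have hzp : ∀ (x : Ω), x ^ 2 = 1 → ∀ j : ℤ, x ^ j = 1 ∨ x ^ j = x := by
    intro x hx j
    rcases Int.even_or_odd' j with ⟨k, hk | hk⟩
    · left
      rw [hk, zpow_mul]
      have : x ^ (2 : ℤ) = 1 := by exact_mod_cast hx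
      rw [this, one_zpow]
    · right
      rw [hk, zpow_add, zpow_mul, zpow_one]
      have : x ^ (2 : ℤ) = 1 := by exact_mod_cast hx
      rw [this, one_zpow, one_mul]
  have honly : ∀ U : Subgroup Ω, F.IsCentric U → F.IsRadical 2 U → U ≠ S → U = V ∨ U = V' := by
    intro U hcU hrU hneU
    obtain ⟨x, hx, hxZ⟩ := cex hS hi hcU hneU
    by_contra hcon
    push Not at hcon
    have hxV : x ∉ V := fun h => hxZ (cinter hS hi hcU hneU hc hne hcon.1 ⟨hx, h⟩)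
    have hxV' : x ∉ V' := fun h => hxZ (cinter hS hi hcU hneU hc' hne' hcon.2 ⟨hx, h⟩)
    obtain ⟨j, i, z, hz, hxe⟩ := c4 hS hi huS hvS huv (hcU.1 hx)
    rcases hzp v hv2 j with h1 | h1
    · apply hxV
      rw [hxe, h1, one_mul]
      exact V.mul_mem (V.zpow_mem hu _) (zc_le hc hz)
    · rcases hzp u hu2 i with h2 | h2
      · apply hxV'
        rw [hxe, h1, h2, one_mul]
        exact V'.mul_mem hv (zc_le hc' hz)
      · rw [h1, h2] at hxe
        have h3 := hV2 U hcU hrU hneU x hx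
        rw [hxe] at h3
        have h4 : v * (u * z) = (v * u) * z := by group
        have h5 : Commute (v * u) z := cen_comm hz (S.mul_mem hvS huS)
        rw [h4, h5.mul_pow, hZ2 z hz, mul_one] at h3
        apply huv
        have h6 : v⁻¹ = v := inv_eq_of_mul_eq_one_left (by rw [← sq]; exact hv2)
        have h7 : u⁻¹ = u := inv_eq_of_mul_eq_one_left (by rw [← sq]; exact hu2)
        have h8 : (v * u)⁻¹ = v * u := inv_eq_of_mul_eq_one_left (by rw [← sq]; exact h3)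
        rw [mul_inv_rev, h6, h7] at h8
        exact h8
  obtain ⟨W, hWV, hRW, hCZ, hWC, hdec, hcW, hWp, hCinv, hB, -, hWZ⟩ := struct hS hi hF hc hr hne ha hb hab
  obtain ⟨W', hWV', hRW', hCZ', hWC', hdec', hcW', hWp', hCinv', hB', -, hWZ'⟩ :=
    struct hS hi hF hc' hr' hne' ha hb hab
  have hR : ∀ x ∈ Subgroup.zpowers (a * b * a⁻¹ * b⁻¹), x = 1 ∨ x = a * b * a⁻¹ * b⁻¹ := by
    have h1 : (a * b * a⁻¹ * b⁻¹) ^ 2 = 1 := hZ2 _ (c6 hS hi ha hb hab).2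
    intro x hx
    obtain ⟨k, rfl⟩ := Subgroup.mem_zpowers_iff.1 hx
    exact hzp _ h1 k
  have hRS : ∀ x ∈ Subgroup.zpowers (a * b * a⁻¹ * b⁻¹), x ∈ centralizerIn S S := fun x hx =>
    (Subgroup.zpowers_le.2 (c6 hS hi ha hb hab).2) hx
  -- automorphisms of `S` fix the generator of `R`
  have hRf : ∀ f, Iso F S S f → ∀ x ∈ Subgroup.zpowers (a * b * a⁻¹ * b⁻¹), f x = x := by
    intro f hf x hx
    have hcS : a * b * a⁻¹ * b⁻¹ ∈ S := cen_le (c6 hS hi ha hb hab).2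
    have hc1 : a * b * a⁻¹ * b⁻¹ ≠ 1 := by
      intro h
      apply hab
      rw [mul_inv_eq_one, mul_inv_eq_iff_eq_mul] at h
      exact h
    have h0 : f (a * b * a⁻¹ * b⁻¹) ∈ Subgroup.zpowers (a * b * a⁻¹ * b⁻¹) := by
      have e : f (a * b * a⁻¹ * b⁻¹) = (f a * f b * (f a)⁻¹ * (f b)⁻¹) := by
        rw [hf.map.mul (S.mul_mem (S.mul_mem ha hb) (S.inv_mem ha)) (S.inv_mem hb),
          hf.map.mul (S.mul_mem ha hb) (S.inv_mem ha), hf.map.mul ha hb, hf.map.inv ha, hf.map.inv hb]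
      have h2 := c5 hS hi ha hb hab (S.inv_mem (hf.map.mem ha)) (hf.map.mem hb)
      rw [e]
      have e2 : (f a)⁻¹⁻¹ * (f b * (f a)⁻¹ * (f b)⁻¹) = f a * f b * (f a)⁻¹ * (f b)⁻¹ := by group
      rwa [e2] at h2
    have h3 : f (a * b * a⁻¹ * b⁻¹) = a * b * a⁻¹ * b⁻¹ := by
      rcases hR _ h0 with h | h
      · exact absurd (hf.map.eq_one hcS h) hc1
      · exact h
    rcases hR x hx with h | h
    · rw [h, hf.map.one]
    · rw [h, h3]
  -- `C₁ ∩ C₂ = 1`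
  have hCC : ∀ x ∈ Cc F V, x ∈ Cc F V' → x = 1 := by
    intro x hx hx'
    refine eq_one_of_Cc hS hi hF hcore hc hr hne fun U hcU hrU hneU => ?_
    rcases honly U hcU hrU hneU with rfl | rfl
    · exact hx
    · exact hx'
  -- elements of `C₁`
  have hC1 : ∀ V V' : Subgroup Ω, F.IsCentric V → F.IsRadical 2 V → V ≠ S → F.IsCentric V' → F.IsRadical 2 V' → V' ≠ S →
      (∀ x ∈ Cc F V, x ∈ Cc F V' → x = 1) → ∀ x ∈ Cc F V, ∀ y ∈ Cc F V, x ≠ 1 → y ≠ 1 → x = y := by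
    intro V V' hc hr hne hc' hr' hne' hCC x hx y hy hx1 hy1
    obtain ⟨W, hWV, hRW, hCZ, hWC, hdec, hcW, hWp, hCinv, hB, -, hWZ⟩ := struct hS hi hF hc hr hne ha hb hab
    obtain ⟨W', hWV', hRW', hCZ', hWC', hdec', hcW', hWp', hCinv', hB', -, hWZ'⟩ :=
      struct hS hi hF hc' hr' hne' ha hb hab
    have key : ∀ x ∈ Cc F V, x ≠ 1 → ∃ c ∈ Cc F V', (a * b * a⁻¹ * b⁻¹) * c = x := by
      intro x hx hx1
      obtain ⟨w, hw, c, hcC, hwc⟩ := hdec' x (zc_le hc' (hCZ hx))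
      have hwZ : w ∈ centralizerIn S S := by
        have : w = x * c⁻¹ := by rw [← hwc]; group
        rw [this]; exact Subgroup.mul_mem _ (hCZ hx) (Subgroup.inv_mem _ (hCZ' hcC))
      have hwR : w ∈ Subgroup.zpowers (a * b * a⁻¹ * b⁻¹) := by rw [← hWZ']; exact ⟨hw, hwZ⟩
      rcases hR w hwR with h | h
      · exfalso
        apply hx1
        apply hCC x hx
        rw [← hwc, h, one_mul]; exact hcC
      · exact ⟨c, hcC, by rw [← h]; exact hwc⟩
    obtain ⟨c, hcC, hcx⟩ := key x hx hx1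
    obtain ⟨d, hdC, hdy⟩ := key y hy hy1
    have h1 : x⁻¹ * y = c⁻¹ * d := by rw [← hcx, ← hdy]; group
    have h2 : x⁻¹ * y = 1 := hCC _ (Subgroup.mul_mem _ (Subgroup.inv_mem _ hx) hy)
      (h1 ▸ Subgroup.mul_mem _ (Subgroup.inv_mem _ hcC) hdC)
    exact inv_mul_eq_one.1 h2
  -- an automorphism of `S` preserving `V` and fixing ... has fourth power one
  have hfix : ∀ f, Iso F S S f → ∀ U : Subgroup Ω, (U = V ∨ U = V') → im U f = U → ∀ x ∈ U, f (f x) = x := by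
    intro f hf U hU hUf x hx
    have hcU : F.IsCentric U ∧ F.IsRadical 2 U ∧ U ≠ S ∧ (∀ x ∈ Cc F U, ∀ y ∈ Cc F U, x ≠ 1 → y ≠ 1 → x = y) := by
      rcases hU with rfl | rfl
      · exact ⟨hc, hr, hne, hC1 _ _ hc hr hne hc' hr' hne' hCC⟩
      · exact ⟨hc', hr', hne', hC1 _ _ hc' hr' hne' hc hr hne fun x hx hx' => hCC x hx' hx⟩
    obtain ⟨k1, k2, k3, k4⟩ := hcU
    obtain ⟨W, hWV, hRW, hCZ, hWC, hdec, hcW, hWp, hCinv, hB, -, hWZ⟩ := struct hS hi hF k1 k2 k3 ha hb hab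
    have hCf : ∀ x ∈ Cc F U, f x = x := by
      intro x hx
      by_cases hx1 : x = 1
      · rw [hx1, hf.map.one]
      · have h1 := Cc_iso k1.1 hf hx
        rw [hUf] at h1
        exact k4 _ h1 _ hx (fun h => hx1 (hf.map.eq_one (k1.1 (Cc_le hx)) h)) hx1
    have hZf : ∀ z ∈ centralizerIn S S, f z = z := by
      intro z hz
      obtain ⟨w, hw, c, hcC, hwc⟩ := hdec z (zc_le k1 hz)
      have hwZ : w ∈ centralizerIn S S := by
        have : w = z * c⁻¹ := by rw [← hwc]; group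
        rw [this]; exact Subgroup.mul_mem _ hz (Subgroup.inv_mem _ (hCZ hcC))
      have hwR : w ∈ Subgroup.zpowers (a * b * a⁻¹ * b⁻¹) := by rw [← hWZ]; exact ⟨hw, hwZ⟩
      rw [← hwc, hf.map.mul (cen_le hwZ) (cen_le (hCZ hcC)), hRf f hf w hwR, hCf c hcC]
    -- `f x = x z`
    have hxS := k1.1 hx
    have hfxU : f x ∈ U := by
      rw [← hUf]; exact (hf.map.mono k1.1).apply_mem_im hx
    by_cases hxZ : x ∈ centralizerIn S S
    · rw [hZf x hxZ, hZf x hxZ]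
    · obtain ⟨i, z, hz, he⟩ := c2 hS hi hxS hxZ (hf.map.mem hxS) (cab hS hi k1 k3 _ hfxU _ hx)
      have hx2 := hV2 U k1 k2 k3 x hx
      rcases hzp x hx2 i with h | h
      · exfalso
        rw [h, one_mul] at he
        have h1 : f x = f z := by rw [he, hZf z hz]
        have h2 := hf.map.inj hxS (cen_le hz) h1
        exact hxZ (h2 ▸ hz)
      · rw [h] at he
        rw [he, hf.map.mul hxS (cen_le hz), hZf z hz, he, mul_assoc, ← sq, hZ2 z hz, mul_one]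
  -- `Aut_F(S)` is a 2-group
  have hSgen : ∀ x ∈ S, ∃ y ∈ V', ∃ w ∈ V, x = y * w := by
    intro x hx
    obtain ⟨j, i, z, hz, rfl⟩ := c4 hS hi huS hvS huv hx
    exact ⟨_, V'.zpow_mem hv _, _, V.mul_mem (V.zpow_mem hu _) (zc_le hc hz), rfl⟩
  have hAut2 : IsPGroup 2 (F.autGroup S) := by
    refine isPGroup_of_pow fun α hα => ⟨3, fun x => ?_⟩
    -- `α ^ 2` preserves `V` and `V'`
    have hα' := (mem_autGroup_iff le_rfl).1 hα
    set f := totA α with hf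
    have hff : Iso F S S (f ∘ f) := hα'.trans hα'
    have himim : ∀ U : Subgroup Ω, U ≤ S → im U (f ∘ f) = im (im U f) f := by
      intro U hU
      ext y
      rw [(hff.map.mono hU).mem_im, (hα'.map.mono ((hα'.map.mono hU).im_le)).mem_im]
      constructor
      · rintro ⟨w, hw, rfl⟩
        exact ⟨f w, (hα'.map.mono hU).apply_mem_im hw, rfl⟩
      · rintro ⟨w, hw, rfl⟩
        obtain ⟨w', hw', rfl⟩ := (hα'.map.mono hU).mem_im.1 hw
        exact ⟨w', hw', rfl⟩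
    have hinj : ∀ U U' : Subgroup Ω, U ≤ S → U' ≤ S → im U f = im U' f → U = U' := by
      have h1 : ∀ U U' : Subgroup Ω, U ≤ S → U' ≤ S → im U f = im U' f → U ≤ U' := by
        intro U U' hU hU' he w hw
        have h2 := (hα'.map.mono hU).apply_mem_im hw
        rw [he] at h2
        obtain ⟨w', hw', he'⟩ := (hα'.map.mono hU').mem_im.1 h2
        rw [← hα'.map.inj (hU' hw') (hU hw) he']; exact hw'
      exact fun U U' hU hU' he => le_antisymm (h1 U U' hU hU' he) (h1 U' U hU' hU he.symm)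
    have hperm : im V (f ∘ f) = V ∧ im V' (f ∘ f) = V' := by
      obtain ⟨k1, k2, k3⟩ := V_iso hS hc hr hne hα'
      obtain ⟨l1, l2, l3⟩ := V_iso hS hc' hr' hne' hα'
      rw [himim V hc.1, himim V' hc'.1]
      rcases honly _ k1 k2 k3 with h | h <;> rcases honly _ l1 l2 l3 with h' | h'
      · exact absurd (hinj _ _ hc.1 hc'.1 (h.trans h'.symm)) hVV
      · rw [h, h, h', h']; exact ⟨rfl, rfl⟩
      · rw [h, h', h]; exact ⟨rfl, rfl⟩
      · exact absurd (hinj _ _ hc.1 hc'.1 (h.trans h'.symm)) hVV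
    have h4 : ∀ x ∈ S, (f ∘ f) ((f ∘ f) x) = x := by
      intro x hx
      obtain ⟨y, hy, w, hw, rfl⟩ := hSgen x hx
      rw [hff.map.mul (hc'.1 hy) (hc.1 hw), hff.map.mul (hff.map.mem (hc'.1 hy)) (hff.map.mem (hc.1 hw)),
        hfix _ hff V' (Or.inr rfl) hperm.2 y hy, hfix _ hff V (Or.inl rfl) hperm.1 w hw]
    have h5 : ∀ y : S, ((α y : S) : Ω) = f y := fun y => (totA_apply α y).symm
    have h6 : ∀ y : S, α (α (α (α y))) = y := by
      intro y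
      apply Subtype.ext
      rw [h5, h5, h5, h5]
      exact h4 y y.2
    have h7 : (α ^ (2 ^ 3)) x = α (α (α (α (α (α (α (α x))))))) := rfl
    rw [h7, h6, h6]
  have hAut : F.autGroup S = autInducedBy S S := by
    have hsyl : IsSyl 2 (autInducedBy S S) (F.autGroup S) :=
      (isFullyAutomized_iff.1 (fn_automized hS hF (fn_top F))).2
    have hfA : Finite (F.autGroup S) := finite_autGroup le_rfl
    exact (hsyl.eq_of_isPGroup hAut2).symm
  -- the focal subgroup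
  have hfocle : F.focalSubgroup ≤ W ⊔ W' := by
    rw [foc_eq, Subgroup.closure_le]
    rintro _ ⟨P, f, hf, x, hx, rfl⟩
    have hsub : SubCls F (fun P f => ∀ x ∈ P, x⁻¹ * f x ∈ W ⊔ W') := by
      refine ⟨?_, ?_, ?_, ?_⟩
      · intro P f g h hfg x hx
        rw [← hfg x hx]; exact h x hx
      · intro P Q f h hQP x hx
        exact h x (hQP hx)
      · intro P Q f g hf hg h1 h2 hm x hx
        have h3 := Subgroup.mul_mem _ (h1 x hx) (h2 (f x) (hm x hx))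
        simpa [mul_assoc] using h3
      · intro P Q f hi h y hy
        have h3 := Subgroup.inv_mem _ (h _ (hi.finv_mem hy))
        rw [hi.finv_right hy] at h3
        simpa [mul_assoc] using h3
    refine alperin hS hF hsub ?_ ?_ P f hf x hx
    · intro f hf x hx
      have h1 := hf.aut_mem
      rw [hAut] at h1
      obtain ⟨s, hs, hfs⟩ := mem_autInducedBy.1 h1
      have h2 : f x = s * x * s⁻¹ := hfs ⟨x, hx⟩
      rw [h2]
      exact Subgroup.mem_sup_left (hRW (c5 hS hi ha hb hab hx hs))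
    · intro P hP f hf x hx
      have hPc := hP.1
      have hPr := essential_radical hS hP
      have hPne := essential_ne_top hS hF hP
      have hfP : Finite P := finite_of_le hPc.1
      have hfA : Finite (F.autGroup P) := finite_autGroup hPc.1
      have hVn : ∀ s ∈ S, s ∈ Subgroup.normalizer (P : Set Ω) := fun s hs => cnorm hS hi (zc_le hPc) hPc.1 hs
      obtain ⟨b', hb', n, hn, hnT, hbn⟩ := frattini_cl (csyl hS hi hF hPc) hf.aut_mem
      obtain ⟨g, hg, hgn⟩ := extend_n hS hF (cfn hS hi hPc) hVn hn hnT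
      have h1 := hg.aut_mem
      rw [hAut] at h1
      obtain ⟨s, hs, hgs⟩ := mem_autInducedBy.1 h1
      have h2 : g x = s * x * s⁻¹ := hgs ⟨x, hPc.1 hx⟩
      have h3 : x⁻¹ * ((n ⟨x, hx⟩ : P) : Ω) ∈ W ⊔ W' := by
        rw [← hgn]
        show x⁻¹ * g x ∈ _
        rw [h2]
        exact Subgroup.mem_sup_left (hRW (c5 hS hi ha hb hab (hPc.1 hx) hs))
      have h4 : ((n ⟨x, hx⟩ : P) : Ω)⁻¹ * ((b' (n ⟨x, hx⟩) : P) : Ω) ∈ W ⊔ W' := by
        rcases honly P hPc hPr hPne with rfl | rfl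
        · exact Subgroup.mem_sup_left (hB b' hb' _)
        · exact Subgroup.mem_sup_right (hB' b' hb' _)
      have h5 := Subgroup.mul_mem _ h3 h4
      have h6 : f x = ((b' (n ⟨x, hx⟩) : P) : Ω) := by
        have : f x = ((hf.aut ⟨x, hx⟩ : P) : Ω) := rfl
        rw [this, hbn]; rfl
      rw [h6]
      simpa [mul_assoc] using h5
  refine ⟨card_of_bot hS hi hF hc hr hne ha hb hab ?_, u, huS, v, hvS, hu2, hv2, huv⟩
  intro z hz
  have hzS : z ∈ W ⊔ W' := hfocle (by rw [hfoc]; exact cen_le hz)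
  have hn : W ≤ Subgroup.normalizer (W' : Set Ω) := by
    refine le_normalizer_of fun y hy w hw => ?_
    have h1 := hRW' (c5 hS hi ha hb hab (hc'.1 (hWV' hw)) (hc.1 (hWV hy)))
    have h2 := W'.mul_mem hw h1
    simpa [mul_assoc] using h2
  obtain ⟨y, hy, w, hw, rfl⟩ := mem_sup_nrm hn hzS
  have hyV' : y ∈ V' := by
    have : y = y * w * w⁻¹ := by group
    rw [this]; exact V'.mul_mem (zc_le hc' hz) (V'.inv_mem (hWV' hw))
  have hwV : w ∈ V := by
    have : w = y⁻¹ * (y * w) := by group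
    rw [this]; exact V.mul_mem (V.inv_mem (hWV hy)) (zc_le hc hz)
  have hyZ := cinter hS hi hc hne hc' hne' hVV ⟨hWV hy, hyV'⟩
  have hwZ := cinter hS hi hc hne hc' hne' hVV ⟨hwV, hWV' hw⟩
  refine Subgroup.mul_mem _ ?_ ?_
  · rw [← hWZ]; exact ⟨hy, hyZ⟩
  · rw [← hWZ']; exact ⟨hw, hwZ⟩

end Cfsg.Agent.H1.FusZ
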