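import Mathlib
import Cfsg.Agent.H1_Basic
import Cfsg.Agent.H1_Nilp
import Cfsg.Agent.H1_SZ
import Cfsg.Agent.H1_Hall
import Cfsg.Agent.H1_Wiel
import Cfsg.Agent.H1_Fpf
import Cfsg.Agent.H1_Coprime2

set_option autoImplicit false

open Pointwise
open scoped commutatorElement
open Cfsg.Agent.H1.Basic Cfsg.Agent.H1.Nilp Cfsg.Agent.H1.Hall Cfsg.Agent.H1.Factor
open Cfsg.Agent.H1.Wiel Cfsg.Agent.H1.SZ

namespace Cfsg.Agent.H1.Kegel

section

variable {G : Type*} [Group G]

theorem permute_sup {A B C : Subgroup G} (hAC : (A : Set G) * C = (C : Set G) * A)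
    (hBC : (B : Set G) * C = (C : Set G) * B) :
    ((A ⊔ B : Subgroup G) : Set G) * C = (C : Set G) * ((A ⊔ B : Subgroup G) : Set G) := by
  have key : ∀ w ∈ A ⊔ B, (∀ c ∈ C, w * c ∈ (C : Set G) * ((A ⊔ B : Subgroup G) : Set G)) ∧
      (∀ c ∈ C, w⁻¹ * c ∈ (C : Set G) * ((A ⊔ B : Subgroup G) : Set G)) := by
    intro w hw
    rw [Subgroup.sup_eq_closure] at hw
    induction hw using Subgroup.closure_induction with
    | mem x hx =>
      have h1 : ∀ D : Subgroup G, D ≤ A ⊔ B → (D : Set G) * C = (C : Set G) * D → x ∈ D →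
          (∀ c ∈ C, x * c ∈ (C : Set G) * ((A ⊔ B : Subgroup G) : Set G)) ∧
          (∀ c ∈ C, x⁻¹ * c ∈ (C : Set G) * ((A ⊔ B : Subgroup G) : Set G)) := by
        intro D hD hDC hxD
        constructor
        · intro c hc
          have h2 : x * c ∈ (C : Set G) * D := hDC ▸ Set.mul_mem_mul hxD hc
          obtain ⟨c', hc', d, hd, he⟩ := h2
          exact ⟨c', hc', d, hD hd, he⟩
        · intro c hc
          have h2 : x⁻¹ * c ∈ (C : Set G) * D := hDC ▸ Set.mul_mem_mul (D.inv_mem hxD) hc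
          obtain ⟨c', hc', d, hd, he⟩ := h2
          exact ⟨c', hc', d, hD hd, he⟩
      rcases hx with hx | hx
      · exact h1 A le_sup_left hAC hx
      · exact h1 B le_sup_right hBC hx
    | one =>
      constructor
      · intro c hc
        exact ⟨c, hc, 1, Subgroup.one_mem _, by simp⟩
      · intro c hc
        exact ⟨c, hc, 1, Subgroup.one_mem _, by simp⟩
    | mul x y hx hy ihx ihy =>
      constructor
      · intro c hc
        obtain ⟨c₁, hc₁, d₁, hd₁, h1⟩ := ihy.1 c hc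
        obtain ⟨c₂, hc₂, d₂, hd₂, h2⟩ := ihx.1 c₁ hc₁
        refine ⟨c₂, hc₂, d₂ * d₁, Subgroup.mul_mem _ hd₂ hd₁, ?_⟩
        simp only at h1 h2 ⊢
        rw [mul_assoc x, ← h1, ← mul_assoc, ← mul_assoc, h2]
      · intro c hc
        obtain ⟨c₁, hc₁, d₁, hd₁, h1⟩ := ihx.2 c hc
        obtain ⟨c₂, hc₂, d₂, hd₂, h2⟩ := ihy.2 c₁ hc₁
        refine ⟨c₂, hc₂, d₂ * d₁, Subgroup.mul_mem _ hd₂ hd₁, ?_⟩
        simp only at h1 h2 ⊢
        rw [mul_inv_rev, mul_assoc, ← h1, ← mul_assoc, ← mul_assoc, h2]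
    | inv x _ ih => exact ⟨ih.2, by rw [inv_inv]; exact ih.1⟩
  have hsub : ((A ⊔ B : Subgroup G) : Set G) * C ⊆ (C : Set G) * ((A ⊔ B : Subgroup G) : Set G) := by
    rintro _ ⟨w, hw, c, hc, rfl⟩
    exact (key w hw).1 c hc
  apply Set.Subset.antisymm hsub
  have h1 := Set.inv_subset_inv.mpr hsub
  rw [mul_inv_rev, mul_inv_rev, inv_coe_set, inv_coe_set] at h1
  exact h1

/-- `A` and `B` permute with product a proper subgroup, for every conjugate of `B`. -/
def KP (A B : Subgroup G) : Prop :=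
  ∀ x : G, ∃ S : Subgroup G, S ≠ ⊤ ∧ (S : Set G) = (A : Set G) * ((MulAut.conj x • B : Subgroup G) : Set G)

theorem smul_mul_set (x : G) (A B : Subgroup G) {S : Subgroup G} (hS : (S : Set G) = (A : Set G) * B) :
    ((MulAut.conj x • S : Subgroup G) : Set G) = ((MulAut.conj x • A : Subgroup G) : Set G) *
      ((MulAut.conj x • B : Subgroup G) : Set G) := by
  ext y
  rw [SetLike.mem_coe, mem_conj, ← SetLike.mem_coe, hS]
  constructor
  · rintro ⟨a, ha, b, hb, he⟩
    simp only at he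
    refine ⟨x * a * x⁻¹, conj_mem_conj.mpr ha, x * b * x⁻¹, conj_mem_conj.mpr hb, ?_⟩
    simp only
    have : y = x * (x⁻¹ * y * x) * x⁻¹ := by group
    rw [this, ← he]; group
  · rintro ⟨a, ha, b, hb, rfl⟩
    exact ⟨x⁻¹ * a * x, mem_conj.mp ha, x⁻¹ * b * x, mem_conj.mp hb, by simp only; group⟩

theorem kegel_aux [Finite G] {A B : Subgroup G} (h : KP A B) :
    ∃ N : Subgroup G, N.Normal ∧ N ≠ ⊤ ∧ (A ≤ N ∨ B ≤ N) := by
  let T : Set (Subgroup G) := {A' | A ≤ A' ∧ KP A' B}
  obtain ⟨C, ⟨hAC, hC⟩, hmax⟩ := Set.exists_max_image T (fun H => Nat.card H) (Set.toFinite T)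
    ⟨A, le_rfl, h⟩
  -- all conjugates of `B` normalize `C`
  have key : ∀ x : G, MulAut.conj x • B ≤ Subgroup.normalizer (C : Set G) := by
    intro x b hb
    set D : Subgroup G := C ⊔ MulAut.conj b • C with hD
    have hperm : ∀ y : G, (C : Set G) * ((MulAut.conj y • B : Subgroup G) : Set G) =
        ((MulAut.conj y • B : Subgroup G) : Set G) * C := by
      intro y
      obtain ⟨S, -, hS⟩ := hC y
      exact permute_of_coe hS
    have hperm' : ∀ y : G, ((MulAut.conj b • C : Subgroup G) : Set G) *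
        ((MulAut.conj y • B : Subgroup G) : Set G) =
        ((MulAut.conj y • B : Subgroup G) : Set G) * ((MulAut.conj b • C : Subgroup G) : Set G) := by
      intro y
      obtain ⟨S, -, hS⟩ := hC (b⁻¹ * y)
      have h1 := smul_mul_set b _ _ hS
      rw [conj_conj, mul_inv_cancel_left] at h1
      exact permute_of_coe h1
    have hDperm : ∀ y : G, (D : Set G) * ((MulAut.conj y • B : Subgroup G) : Set G) =
        ((MulAut.conj y • B : Subgroup G) : Set G) * D := fun y => permute_sup (hperm y) (hperm' y)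
    have hDT : KP D B := by
      intro y
      refine ⟨D ⊔ MulAut.conj y • B, ?_, coe_sup_of_permute (hDperm y)⟩
      intro ht
      -- then `G = D * B^x` too, contained in `C * B^x`
      have hfac : ∀ g : G, ∃ d ∈ D, ∃ c ∈ MulAut.conj y • B, g = d * c := by
        intro g
        have h1 : g ∈ ((D ⊔ MulAut.conj y • B : Subgroup G) : Set G) := by rw [ht]; trivial
        rw [coe_sup_of_permute (hDperm y)] at h1
        obtain ⟨d, hd, c, hc, he⟩ := h1
        exact ⟨d, hd, c, hc, he.symm⟩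
      obtain ⟨S, hSt, hS⟩ := hC x
      apply hSt
      rw [eq_top_iff]
      intro g _
      obtain ⟨d, hd, c, hc, he⟩ := factor_of_conj hfac 1 (x * y⁻¹) g
      rw [conj_one] at hd
      rw [conj_conj, inv_mul_cancel_right] at hc
      have hCS : C ≤ S := by
        intro z hz
        rw [← SetLike.mem_coe, hS]
        exact ⟨z, hz, 1, Subgroup.one_mem _, by simp⟩
      have hBS : MulAut.conj x • B ≤ S := by
        intro z hz
        rw [← SetLike.mem_coe, hS]
        exact ⟨1, Subgroup.one_mem _, z, hz, by simp⟩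
      have hDS : D ≤ S := sup_le hCS (conj_le_of_mem hCS (hBS hb))
      rw [he]
      exact S.mul_mem (hDS hd) (hBS hc)
    have h1 := hmax D ⟨hAC.trans le_sup_left, hDT⟩
    have h2 : C = D := eq_of_le_of_card_ge' le_sup_left h1
    rw [← conj_eq_iff_mem_normalizer]
    have h3 : MulAut.conj b • C ≤ C := by
      conv_rhs => rw [h2]
      exact le_sup_right
    exact eq_of_le_of_card_ge' h3 (card_conj b C).ge
  have hN : Subgroup.normalClosure (B : Set G) ≤ Subgroup.normalizer (C : Set G) := by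
    apply normalClosure_le_of_conj_le
    exact key
  by_cases ht : Subgroup.normalClosure (B : Set G) = ⊤
  · rw [ht, top_le_iff, Subgroup.normalizer_eq_top_iff] at hN
    refine ⟨C, hN, ?_, Or.inl hAC⟩
    intro hCt
    obtain ⟨S, hSt, hS⟩ := hC 1
    apply hSt
    rw [eq_top_iff, ← hCt]
    intro z hz
    rw [← SetLike.mem_coe, hS]
    exact ⟨z, hz, 1, Subgroup.one_mem _, by simp⟩
  · exact ⟨_, Subgroup.normalClosure_normal, ht, Or.inr Subgroup.subset_normalClosure⟩

/-- S0562 -/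
theorem factor_normalizer [Finite G] {H K A B : Subgroup G}
    (hHK : ∀ g : G, ∃ h ∈ H, ∃ k ∈ K, g = h * k) (hA : A ≤ H) (hAn : (A.subgroupOf H).Normal)
    (hB : B ≤ K) (hBn : (B.subgroupOf K).Normal) {g : G}
    (hg : g ∈ Subgroup.normalizer ((A ⊔ B : Subgroup G) : Set G)) :
    ∃ h ∈ Subgroup.normalizer ((A ⊔ B : Subgroup G) : Set G) ⊓ H,
    ∃ k ∈ Subgroup.normalizer ((A ⊔ B : Subgroup G) : Set G) ⊓ K, g = h * k := by
  rw [Subgroup.normal_subgroupOf_iff_le_normalizer hA] at hAn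
  rw [Subgroup.normal_subgroupOf_iff_le_normalizer hB] at hBn
  obtain ⟨h, hh, k, hk, rfl⟩ := hHK g
  set D := A ⊔ B with hD
  rw [← conj_eq_iff_mem_normalizer, ← conj_conj] at hg
  have e1 : MulAut.conj k • D = MulAut.conj h⁻¹ • D := by
    conv_rhs => rw [← hg]
    rw [conj_conj, inv_mul_cancel, conj_one]
  have e2 : B ≤ MulAut.conj k • D := by
    have := (conj_le_conj (g := k)).mpr (le_sup_right : B ≤ D)
    rwa [conj_eq_iff_mem_normalizer.mpr (hBn hk)] at this
  have e3 : A ≤ MulAut.conj k • D := by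
    rw [e1]
    have := (conj_le_conj (g := h⁻¹)).mpr (le_sup_left : A ≤ D)
    rwa [conj_eq_iff_mem_normalizer.mpr (hAn (H.inv_mem hh))] at this
  have e4 : D = MulAut.conj k • D := eq_of_le_of_card_ge' (sup_le e3 e2) (card_conj k D).le
  have hkn : k ∈ Subgroup.normalizer (D : Set G) := conj_eq_iff_mem_normalizer.mp e4.symm
  have hhn : h ∈ Subgroup.normalizer (D : Set G) := by
    rw [← conj_eq_iff_mem_normalizer]
    rw [← e4] at hg
    exact hg
  exact ⟨h, ⟨hhn, hh⟩, k, ⟨hkn, hk⟩, rfl⟩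

theorem coe_eq_mul_of_relIndex [Finite G] {A B T : Subgroup G} (hA : A ≤ T) (hB : B ≤ T)
    (h : B.relIndex T ≤ B.relIndex A) : (T : Set G) = (A : Set G) * B := by
  have h1 : B.relIndex A = B.relIndex T :=
    le_antisymm (Subgroup.relIndex_le_of_le_right hA (Subgroup.index_ne_zero_of_finite)) h
  ext x
  constructor
  · intro hx
    obtain ⟨a, ha, hax⟩ := Cfsg.Agent.H1.Fpf.factor_of_relIndex_eq_rel hA h1 hx
    exact ⟨a, ha, a⁻¹ * x, hax, by simp⟩
  · rintro ⟨a, ha, b, hb, rfl⟩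
    exact T.mul_mem (hA ha) (hB hb)

theorem card_factor [Finite G] {H K : Subgroup G} (hHK : ∀ g : G, ∃ h ∈ H, ∃ k ∈ K, g = h * k) :
    Nat.card G * Nat.card (H ⊓ K : Subgroup G) = Nat.card H * Nat.card K := by
  have h1 := index_eq_relIndex_of_factor hHK
  have h2 := K.index_mul_card
  have h3 := relIndex_mul_card (inf_le_left : H ⊓ K ≤ H)
  rw [Subgroup.inf_relIndex_left] at h3
  rw [← h2, ← h3, h1]
  ring

/-- S0560 -/
theorem sylow_factor [Finite G] {H K : Subgroup G} (hHK : ∀ g : G, ∃ h ∈ H, ∃ k ∈ K, g = h * k)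
    (p : ℕ) [hp : Fact p.Prime] : ∃ (P : Sylow p H) (Q : Sylow p K) (R : Sylow p G),
      ((R : Subgroup G) : Set G) = (((P : Subgroup H).map H.subtype : Subgroup G) : Set G) *
        (((Q : Subgroup K).map K.subtype : Subgroup G) : Set G) := by
  let P₀ : Sylow p H := default
  let Q₀ : Sylow p K := default
  set P₁ := (P₀ : Subgroup H).map H.subtype with hP₁
  set Q₁ := (Q₀ : Subgroup K).map K.subtype with hQ₁
  have cP₁ : Nat.card P₁ = p ^ (Nat.card H).factorization p := Coprime.card_map_sylow P₀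
  have cQ₁ : Nat.card Q₁ = p ^ (Nat.card K).factorization p := Coprime.card_map_sylow Q₀
  have hP₁p : IsPGroup p P₁ := IsPGroup.of_card cP₁
  have hQ₁p : IsPGroup p Q₁ := IsPGroup.of_card cQ₁
  obtain ⟨R₁, hR₁⟩ := hP₁p.exists_le_sylow
  obtain ⟨R₂, hR₂⟩ := hQ₁p.exists_le_sylow
  obtain ⟨x, hx⟩ := MulAction.exists_smul_eq G R₁ R₂
  have hx' : MulAut.conj x • (R₁ : Subgroup G) = R₂ := by
    rw [← hx, Sylow.coe_subgroup_smul]
  obtain ⟨k, hk, h, hh, rfl⟩ := factor_symm hHK x
  set R : Sylow p G := h • R₁ with hR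
  have hRc : (R : Subgroup G) = MulAut.conj h • (R₁ : Subgroup G) := by
    rw [hR, Sylow.coe_subgroup_smul]
  have hRc' : (R : Subgroup G) = MulAut.conj k⁻¹ • (R₂ : Subgroup G) := by
    rw [hRc, ← hx', conj_conj, inv_mul_cancel_left]
  set P := MulAut.conj h • P₁ with hP
  set Q := MulAut.conj k⁻¹ • Q₁ with hQ
  have hPR : P ≤ R := by rw [hRc]; exact conj_le_conj.mpr hR₁
  have hQR : Q ≤ R := by rw [hRc']; exact conj_le_conj.mpr hR₂
  have hPH : P ≤ H := conj_le_of_mem (Subgroup.map_subtype_le _) hh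
  have hQK : Q ≤ K := conj_le_of_mem (Subgroup.map_subtype_le _) (K.inv_mem hk)
  have cP : Nat.card P = p ^ (Nat.card H).factorization p := by rw [hP, card_conj, cP₁]
  have cQ : Nat.card Q = p ^ (Nat.card K).factorization p := by rw [hQ, card_conj, cQ₁]
  obtain ⟨P', hP'⟩ := Coprime.exists_sylow_of_card hPH cP
  obtain ⟨Q', hQ'⟩ := Coprime.exists_sylow_of_card hQK cQ
  refine ⟨P', Q', R, ?_⟩
  rw [hP', hQ']
  apply coe_eq_mul_of_relIndex hPR hQR
  have e1 := relIndex_mul_card hQR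
  have e2 := relIndex_mul_card (inf_le_left : P ⊓ Q ≤ P)
  rw [Subgroup.inf_relIndex_left] at e2
  rw [R.card_eq_multiplicity, cQ] at e1
  rw [cP] at e2
  have e3 : Nat.card (P ⊓ Q : Subgroup G) ≤ p ^ (Nat.card (H ⊓ K : Subgroup G)).factorization p := by
    have h1 : IsPGroup p (P ⊓ Q : Subgroup G) := (IsPGroup.of_card cP).to_le inf_le_left
    obtain ⟨n, hn⟩ := IsPGroup.iff_card.mp h1
    rw [hn]
    apply Nat.pow_le_pow_right hp.out.pos
    have h2 : p ^ n ∣ Nat.card (H ⊓ K : Subgroup G) := by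
      rw [← hn]; exact Subgroup.card_dvd_of_le (inf_le_inf hPH hQK)
    exact (hp.out.pow_dvd_iff_le_factorization Nat.card_pos.ne').mp h2
  have e4 : (Nat.card G).factorization p + (Nat.card (H ⊓ K : Subgroup G)).factorization p =
      (Nat.card H).factorization p + (Nat.card K).factorization p := by
    have h1 := congrArg (fun n => Nat.factorization n p) (card_factor hHK)
    rw [Nat.factorization_mul Nat.card_pos.ne' Nat.card_pos.ne',
      Nat.factorization_mul Nat.card_pos.ne' Nat.card_pos.ne'] at h1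
    simpa using h1
  have e5 : p ^ (Nat.card G).factorization p * p ^ (Nat.card (H ⊓ K : Subgroup G)).factorization p =
      p ^ (Nat.card H).factorization p * p ^ (Nat.card K).factorization p := by
    rw [← pow_add, ← pow_add, e4]
  rw [← e1, ← e2] at e5
  have hKpos : 0 < p ^ (Nat.card K).factorization p := pow_pos hp.out.pos _
  have hIpos : 0 < p ^ (Nat.card (H ⊓ K : Subgroup G)).factorization p := pow_pos hp.out.pos _
  have e6 : Q.relIndex R * p ^ (Nat.card (H ⊓ K : Subgroup G)).factorization p =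
      Q.relIndex P * Nat.card (P ⊓ Q : Subgroup G) := by
    apply Nat.eq_of_mul_eq_mul_right hKpos
    rw [← e5]; ring
  have e7 : Q.relIndex R * p ^ (Nat.card (H ⊓ K : Subgroup G)).factorization p ≤
      Q.relIndex P * p ^ (Nat.card (H ⊓ K : Subgroup G)).factorization p := by
    rw [e6]; exact Nat.mul_le_mul_left _ e3
  exact Nat.le_of_mul_le_mul_right e7 hIpos

/-- S0561, basic case -/
theorem hall_product [Finite G] [Group.IsSolvable G] {H K A B : Subgroup G}
    (hHK : ∀ g : G, ∃ h ∈ H, ∃ k ∈ K, g = h * k)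
    (hAn : H ≤ Subgroup.normalizer (A : Set G))
    (hBn : K ≤ Subgroup.normalizer (B : Set G))
    (hAh : (Nat.card A).Coprime A.index) (hBh : (Nat.card B).Coprime B.index) :
    ∃ S : Subgroup G, (S : Set G) = (A : Set G) * B := by
  obtain ⟨m, hm⟩ : ∃ m, m = Nat.lcm (Nat.card A) (Nat.card B) := ⟨_, rfl⟩
  have hAm : Nat.card A ∣ m := hm ▸ Nat.dvd_lcm_left _ _
  have hBm : Nat.card B ∣ m := hm ▸ Nat.dvd_lcm_right _ _
  have hmG : m ∣ Nat.card G := hm ▸ Nat.lcm_dvd (Subgroup.card_subgroup_dvd_card _)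
    (Subgroup.card_subgroup_dvd_card _)
  obtain ⟨n, hn⟩ := hmG
  have hside : ∀ C : Subgroup G, (Nat.card C).Coprime C.index → Nat.card C ∣ m →
      (Nat.card C).Coprime n := by
    intro C hC hCm
    obtain ⟨c, hc⟩ := hCm
    have h1 := C.card_mul_index
    rw [hn, hc, mul_assoc] at h1
    have h2 : C.index = c * n := Nat.eq_of_mul_eq_mul_left Nat.card_pos h1
    rw [h2] at hC
    exact Nat.Coprime.coprime_mul_left_right hC
  have hAn' := hside A hAh hAm
  have hBn' := hside B hBh hBm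
  have hmn : m.Coprime n := by
    rw [hm]
    apply Nat.Coprime.coprime_dvd_left (Nat.lcm_dvd_mul _ _)
    exact Nat.Coprime.mul_left hAn' hBn'
  obtain ⟨T, hT, hAT⟩ := hall_contain m n hn hmn A hAn'
  obtain ⟨T', hT', hBT'⟩ := hall_contain m n hn hmn B hBn'
  obtain ⟨g, hg⟩ := hall_conj m n hn hmn T T' hT hT'
  obtain ⟨k, hk, h, hh, rfl⟩ := factor_symm hHK g
  set S := MulAut.conj h • T with hS
  have hSc : Nat.card S = m := by rw [hS, card_conj, hT]
  have hAS : A ≤ S := by
    have := (conj_le_conj (g := h)).mpr hAT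
    rwa [conj_eq_iff_mem_normalizer.mpr (hAn hh)] at this
  have hBS : B ≤ S := by
    have h1 := (conj_le_conj (g := k⁻¹)).mpr hBT'
    rw [conj_eq_iff_mem_normalizer.mpr (hBn (K.inv_mem hk)), ← hg, conj_conj,
      inv_mul_cancel_left] at h1
    exact h1
  refine ⟨S, coe_eq_mul_of_relIndex hAS hBS ?_⟩
  have e1 := relIndex_mul_card hBS
  have e2 := relIndex_mul_card (inf_le_left : A ⊓ B ≤ A)
  rw [Subgroup.inf_relIndex_left] at e2
  have e3 : Nat.card (A ⊓ B : Subgroup G) ≤ Nat.gcd (Nat.card A) (Nat.card B) := by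
    apply Nat.le_of_dvd (Nat.gcd_pos_of_pos_left _ Nat.card_pos)
    exact Nat.dvd_gcd (Subgroup.card_dvd_of_le inf_le_left) (Subgroup.card_dvd_of_le inf_le_right)
  have e4 := Nat.gcd_mul_lcm (Nat.card A) (Nat.card B)
  rw [← hm, ← hSc, ← e1] at e4
  have hgpos : 0 < Nat.gcd (Nat.card A) (Nat.card B) := Nat.gcd_pos_of_pos_left _ Nat.card_pos
  have e5 : Nat.gcd (Nat.card A) (Nat.card B) * B.relIndex S = Nat.card A := by
    apply Nat.eq_of_mul_eq_mul_right (Nat.card_pos (α := B))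
    rw [← e4]; ring
  have e6 : B.relIndex S * Nat.gcd (Nat.card A) (Nat.card B) ≤
      B.relIndex A * Nat.gcd (Nat.card A) (Nat.card B) := by
    rw [mul_comm, e5]
    conv_lhs => rw [← e2]
    exact Nat.mul_le_mul_left _ e3
  exact Nat.le_of_mul_le_mul_right e6 hgpos

/-- S0561 -/
theorem hall_product_conj [Finite G] [Group.IsSolvable G] {H K A B : Subgroup G}
    (hHK : ∀ g : G, ∃ h ∈ H, ∃ k ∈ K, g = h * k) (hA : A ≤ H) (hAn : (A.subgroupOf H).Normal)
    (hB : B ≤ K) (hBn : (B.subgroupOf K).Normal) (hAh : (Nat.card A).Coprime A.index)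
    (hBh : (Nat.card B).Coprime B.index) (x y : G) :
    ∃ S : Subgroup G, (S : Set G) = ((MulAut.conj x • A : Subgroup G) : Set G) *
      ((MulAut.conj y • B : Subgroup G) : Set G) := by
  rw [Subgroup.normal_subgroupOf_iff_le_normalizer hA] at hAn
  rw [Subgroup.normal_subgroupOf_iff_le_normalizer hB] at hBn
  obtain ⟨S, hS⟩ := hall_product hHK hAn hBn hAh hBh
  obtain ⟨h, hh, k, hk, hxy⟩ := hHK (x⁻¹ * y)
  have h1 : MulAut.conj x • A = MulAut.conj (x * h) • A := by
    rw [← conj_conj, conj_eq_iff_mem_normalizer.mpr (hAn hh)]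
  have h2 : MulAut.conj y • B = MulAut.conj (x * h) • B := by
    have h3 : x * h = y * k⁻¹ := by
      have : y = x * (h * k) := by rw [← hxy]; group
      rw [this]; group
    rw [h3, ← conj_conj, conj_eq_iff_mem_normalizer.mpr (hBn (K.inv_mem hk))]
  refine ⟨MulAut.conj (x * h) • S, ?_⟩
  rw [h1, h2]
  exact smul_mul_set _ _ _ hS

end

end Cfsg.Agent.H1.Kegel
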