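import Mathlib
import Cfsg.Agent.H1_Schmidt2

set_option autoImplicit false

open Pointwise
open scoped commutatorElement
open Cfsg.Agent.H1.Basic Cfsg.Agent.H1.Nilp Cfsg.Agent.H1.Hall Cfsg.Agent.H1.Factor
open Cfsg.Agent.H1.Wiel Cfsg.Agent.H1.SZ Cfsg.Agent.H1.Frob Cfsg.Agent.H1.HC Cfsg.Agent.H1.Carter

namespace Cfsg.Agent.H1.Schmidt

section

variable {G : Type*} [Group G]

/-- in a nilpotent group `H`, a `q`-subgroup centralizes any `q'`-subgroup -/
theorem le_centralizer_of_nilpotent [Finite G] {H : Subgroup G} (hH : Group.IsNilpotent H) {q : ℕ}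
    [hq : Fact q.Prime] {A B : Subgroup G} (hA : IsPGroup q A) (hB : (Nat.card B).Coprime q)
    (hAH : A ≤ H) (hBH : B ≤ H) : A ≤ Subgroup.centralizer (B : Set G) := by
  rw [Subgroup.le_centralizer_iff]
  apply le_of_sylow_le
  intro r hr
  let R : Sylow r B := default
  refine ⟨R, ?_⟩
  intro x hx
  rw [Subgroup.mem_centralizer_iff]
  intro y hy
  have hRB : (R : Subgroup B).map B.subtype ≤ B := Subgroup.map_subtype_le _
  by_cases hrq : r = q
  · subst hrq
    have h1 : (R : Subgroup B).map B.subtype = ⊥ := by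
      rw [← Subgroup.card_eq_one]
      have h2 : IsPGroup r ((R : Subgroup B).map B.subtype) := R.2.map _
      obtain ⟨n, hn⟩ := IsPGroup.iff_card.mp h2
      rcases Nat.eq_zero_or_pos n with h0 | h0
      · rw [hn, h0, pow_zero]
      · exfalso
        have h3 : r ∣ Nat.card B := (dvd_pow_self r h0.ne').trans (hn ▸ Subgroup.card_dvd_of_le hRB)
        exact hr.out.one_lt.ne' (Nat.eq_one_of_dvd_coprimes hB h3 dvd_rfl)
    rw [h1, Subgroup.mem_bot] at hx
    rw [hx, mul_one, one_mul]
  · exact commute_of_nilpotent' hH (Ne.symm hrq) hA (R.2.map _) hAH (hRB.trans hBH) hy hx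

/-- S0581 -/
theorem wielandt_nilpotent_hall_aux [Finite G] {H : Subgroup G} (hH : Group.IsNilpotent H)
    (hHall : (Nat.card H).Coprime H.index) (n : ℕ) : ∀ K : Subgroup G, Nat.card K = n →
    (∀ p : ℕ, p.Prime → p ∣ Nat.card K → p ∣ Nat.card H) →
    ∃ x : G, MulAut.conj x • K ≤ H := by
  induction n using Nat.strong_induction_on with | _ n ih => ?_
  intro K hKn hK
  -- proper subgroups of `K` are nilpotent
  have hsub : ∀ M : Subgroup G, M < K → ∃ x : G, MulAut.conj x • M ≤ H := by
    intro M hM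
    refine ih (Nat.card M) ?_ M rfl ?_
    · rw [← hKn]
      have h1 := Subgroup.card_le_of_le hM.le
      rcases h1.lt_or_eq with h2 | h2
      · exact h2
      · exact absurd (eq_of_le_of_card_ge' hM.le h2.ge) hM.ne
    · intro p hp hpM
      exact hK p hp (hpM.trans (Subgroup.card_dvd_of_le hM.le))
  have hsubn : ∀ M : Subgroup K, M ≠ ⊤ → Group.IsNilpotent M := by
    intro M hM
    have h1 : M.map K.subtype < K := by
      refine lt_of_le_of_ne (Subgroup.map_subtype_le _) ?_
      intro he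
      apply hM
      rw [eq_top_iff]
      intro x _
      have hx : (x : G) ∈ M.map K.subtype := by rw [he]; exact x.2
      obtain ⟨y, hy, hxy⟩ := hx
      rwa [← Subtype.ext hxy]
    obtain ⟨x, hx⟩ := hsub _ h1
    have h2 : Group.IsNilpotent (MulAut.conj x • (M.map K.subtype) : Subgroup G) :=
      isNilpotent_of_le hx hH
    have h3 : Group.IsNilpotent (M.map K.subtype) :=
      (Group.isNilpotent_congr (Subgroup.equivSMul (MulAut.conj x) (M.map K.subtype))).mpr h2
    exact (Group.isNilpotent_congr (M.equivMapOfInjective K.subtype K.subtype_injective)).mpr h3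
  have hKs : Group.IsSolvable K := schmidt hsubn
  rcases subsingleton_or_nontrivial K with hss | hnt
  · refine ⟨1, ?_⟩
    rw [conj_one]
    have : K = ⊥ := by
      by_contra hne
      exact not_subsingleton_iff_nontrivial.mpr ((Subgroup.nontrivial_iff_ne_bot K).mpr hne) hss
    rw [this]; exact bot_le
  obtain ⟨N', hN'n, hN'i, -⟩ := exists_normal_index_prime (G := K)
  obtain ⟨q, hqe⟩ : ∃ q, N'.index = q := ⟨_, rfl⟩
  rw [hqe] at hN'i
  have hqf : Fact q.Prime := ⟨hN'i⟩
  -- reduce to the case `N ≤ H`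
  have hN'lt : N'.map K.subtype < K := by
    refine lt_of_le_of_ne (Subgroup.map_subtype_le _) ?_
    intro he
    have h1 : N' = ⊤ := by
      rw [eq_top_iff]
      intro x _
      have hx : (x : G) ∈ N'.map K.subtype := by rw [he]; exact x.2
      obtain ⟨y, hy, hxy⟩ := hx
      rwa [← Subtype.ext hxy]
    rw [h1, Subgroup.index_top] at hqe
    exact hN'i.one_lt.ne hqe
  obtain ⟨c, hc⟩ := hsub _ hN'lt
  set K₁ : Subgroup G := MulAut.conj c • K with hK₁
  set N : Subgroup G := MulAut.conj c • (N'.map K.subtype) with hNdef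
  suffices hmain : ∃ x : G, MulAut.conj x • K₁ ≤ H by
    obtain ⟨x, hx⟩ := hmain
    rw [hK₁, conj_conj] at hx
    exact ⟨_, hx⟩
  have hNK₁ : N ≤ K₁ := conj_le_conj.mpr hN'lt.le
  have hNrel : N.relIndex K₁ = q := by
    rw [hNdef, hK₁]
    have h1 : (MulAut.conj c • (N'.map K.subtype : Subgroup G)).relIndex (MulAut.conj c • K) =
        (N'.map K.subtype).relIndex K := Subgroup.relIndex_pointwise_smul (MulAut.conj c) _ _
    rw [h1]
    have h2 : (N'.map K.subtype).subgroupOf K = N' := by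
      rw [Subgroup.subgroupOf, Subgroup.comap_map_eq_self_of_injective K.subtype_injective]
    rw [Subgroup.relIndex, h2, hqe]
  have hNn : K₁ ≤ Subgroup.normalizer (N : Set G) := by
    have h0 : K ≤ Subgroup.normalizer ((N'.map K.subtype : Subgroup G) : Set G) := by
      rw [← Subgroup.normal_subgroupOf_iff_le_normalizer hN'lt.le, Subgroup.subgroupOf,
        Subgroup.comap_map_eq_self_of_injective K.subtype_injective]
      exact hN'n
    intro x hx
    have hx' : c⁻¹ * x * c ∈ K := mem_conj.mp hx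
    have h1 := conj_eq_iff_mem_normalizer.mpr (h0 hx')
    rw [← conj_eq_iff_mem_normalizer, hNdef, conj_conj]
    have h2 : x * c = c * (c⁻¹ * x * c) := by group
    rw [h2, ← conj_conj, h1]
  have hNnil : Group.IsNilpotent N := isNilpotent_of_le hc hH
  -- the Hall `q'`-subgroup of `N`
  set S : Subgroup G := (Cfsg.pPrimeCore q N).map N.subtype with hSdef
  have hS : HC q S N := hc_map_subtype (hc_pPrimeCore hN'i)
  have hSK₁ : HC q S K₁ := Cfsg.Agent.H1.Carter.HC.trans_index hN'i hS hNK₁ (k := 1) (by rw [hNrel, pow_one])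
  -- `K₁` normalizes `S`
  have hKS : K₁ ≤ Subgroup.normalizer (S : Set G) := by
    intro x hx
    rw [← conj_eq_iff_mem_normalizer]
    have h1 : MulAut.conj x • N = N := conj_eq_iff_mem_normalizer.mpr (hNn hx)
    have h2 : HC q (MulAut.conj x • S) N := by
      have := hS.conj x
      rwa [h1] at this
    have h3 := le_normalizer_of_hc hN'i hS hNnil
    obtain ⟨l, hl, hl2⟩ := HC.conj_in hN'i (inferInstance : Group.IsSolvable N) hS h2
    rw [← hl2]
    exact conj_eq_iff_mem_normalizer.mpr (h3 hl)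
  -- the Sylow `q`-subgroup of `H`
  let P : Sylow q H := default
  set P' : Subgroup G := (P : Subgroup H).map H.subtype with hP'
  have hP'p : IsPGroup q P' := P.2.map _
  have hP'H : P' ≤ H := Subgroup.map_subtype_le _
  have hPS : P' ≤ Subgroup.normalizer (S : Set G) :=
    (le_centralizer_of_nilpotent hH hP'p hS.2.1 hP'H (hS.1.trans hc)).trans
      (Subgroup.centralizer_le_normalizer _)
  have hqH : q ∣ Nat.card H := by
    apply hK q hN'i
    rw [← card_conj c K, ← relIndex_mul_card hNK₁, hNrel]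
    exact dvd_mul_right _ _
  have hqi : ¬ q ∣ H.index := by
    intro h1
    exact hN'i.one_lt.ne' (Nat.eq_one_of_dvd_coprimes hHall hqH h1)
  have hP'i : ¬ q ∣ P'.index := by
    rw [hP', Subgroup.index_map_subtype]
    intro h1
    rcases hN'i.dvd_mul.mp h1 with h2 | h2
    · exact P.not_dvd_index h2
    · exact hqi h2
  -- work in L = N_G(S)
  set L : Subgroup G := Subgroup.normalizer (S : Set G) with hL
  -- Sylow q-subgroup of K₁
  let Q : Sylow q K₁ := default
  set Q' : Subgroup G := (Q : Subgroup K₁).map K₁.subtype with hQ'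
  have hQ'p : IsPGroup q Q' := Q.2.map _
  have hQ'K : Q' ≤ K₁ := Subgroup.map_subtype_le _
  have hPi' : ¬ q ∣ (P'.subgroupOf L).index := by
    intro h1
    exact hP'i (h1.trans (Subgroup.relIndex_dvd_index_of_le hPS))
  obtain ⟨l, hl⟩ : ∃ l : L, MulAut.conj l • (Q'.subgroupOf L) ≤ P'.subgroupOf L := by
    have h1 : IsPGroup q (Q'.subgroupOf L) := hQ'p.comap_subtype
    have h2 : IsPGroup q (P'.subgroupOf L) := hP'p.comap_subtype
    let P'' : Sylow q L := h2.toSylow hPi'
    obtain ⟨T, hT⟩ := h1.exists_le_sylow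
    obtain ⟨l, hl⟩ := MulAction.exists_smul_eq L T P''
    refine ⟨l, ?_⟩
    have h3 : (P'' : Subgroup L) = P'.subgroupOf L := rfl
    rw [← h3, ← hl, Sylow.coe_subgroup_smul]
    exact conj_le_conj.mpr hT
  refine ⟨l, ?_⟩
  have h1 : MulAut.conj (l : G) • Q' ≤ P' := conj_le_of_subgroupOf (hQ'K.trans hKS) l hl
  have h2 : MulAut.conj (l : G) • S ≤ S := (conj_eq_iff_mem_normalizer.mpr l.2).le
  -- `K₁ = S ⊔ Q'`
  have h3 : K₁ ≤ S ⊔ Q' := by
    have h4 : S ⊔ Q' ≤ K₁ := sup_le hSK₁.1 hQ'K
    rw [← Subgroup.relIndex_eq_one]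
    obtain ⟨-, -, k, hk⟩ := hSK₁
    have e1 : (S ⊔ Q').relIndex K₁ ∣ q ^ k := by
      rw [← hk]
      exact Subgroup.relIndex_dvd_of_le_left K₁ le_sup_left
    have e2 : ¬ q ∣ (S ⊔ Q').relIndex K₁ := by
      intro hd
      have e3 : (S ⊔ Q').relIndex K₁ ∣ Q'.relIndex K₁ := Subgroup.relIndex_dvd_of_le_left K₁ le_sup_right
      have e4 : Q'.relIndex K₁ = (Q : Subgroup K₁).index := by
        rw [hQ', Subgroup.relIndex, Subgroup.subgroupOf,
          Subgroup.comap_map_eq_self_of_injective K₁.subtype_injective]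
      exact Q.not_dvd_index (e4 ▸ hd.trans e3)
    obtain ⟨j, -, hj⟩ := (Nat.dvd_prime_pow hN'i).mp e1
    rcases Nat.eq_zero_or_pos j with h0 | h0
    · rw [hj, h0, pow_zero]
    · exact absurd (hj ▸ dvd_pow_self q h0.ne') e2
  refine (conj_le_conj.mpr h3).trans ?_
  rw [Subgroup.smul_sup]
  exact sup_le (h2.trans (hS.1.trans hc)) (h1.trans hP'H)

/-- S0581 -/
theorem wielandt_nilpotent_hall [Finite G] {H K : Subgroup G} (hH : Group.IsNilpotent H)
    (hHall : (Nat.card H).Coprime H.index)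
    (hK : ∀ p : ℕ, p.Prime → p ∣ Nat.card K → p ∣ Nat.card H) :
    ∃ x : G, K ≤ MulAut.conj x • H := by
  obtain ⟨x, hx⟩ := wielandt_nilpotent_hall_aux hH hHall _ K rfl hK
  refine ⟨x⁻¹, ?_⟩
  have := (conj_le_conj (g := x⁻¹)).mpr hx
  rwa [conj_conj, inv_mul_cancel, conj_one] at this

end

end Cfsg.Agent.H1.Schmidt
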