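import Mathlib
import Cfsg.Agent.H1_Kegel
import Cfsg.Agent.H1_Schmidt3
import Cfsg.Agent.H2_Fusion3

set_option autoImplicit false

open Pointwise
open scoped commutatorElement
open Cfsg.Agent.H1.Basic Cfsg.Agent.H1.Nilp Cfsg.Agent.H1.Hall Cfsg.Agent.H1.Factor
open Cfsg.Agent.H1.Wiel Cfsg.Agent.H1.SZ Cfsg.Agent.H1.Schmidt

namespace Cfsg.Agent.H1.Kegel

section

variable {G : Type*} [Group G]

/-- S0558 core: a subgroup `H` which is the normalizer of each of its nontrivial Sylow subgroups, and
whose order has at least two prime divisors (or none) has a normal complement. -/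
theorem wielandt_complement [Finite G] (H : Subgroup G)
    (h2 : ∀ p : ℕ, p.Prime → p ∣ Nat.card H → ∃ q : ℕ, q.Prime ∧ q ≠ p ∧ q ∣ Nat.card H)
    (hnorm : ∀ p : ℕ, p.Prime → p ∣ Nat.card H → ∀ P : Sylow p H,
      Subgroup.normalizer (((P : Subgroup H).map H.subtype : Subgroup G) : Set G) = H) :
    ∃ N : Subgroup G, N.Normal ∧ Subgroup.IsComplement' N H := by
  classical
  -- Sylow subgroups of `H` are Sylow in `G`
  have hsyl : ∀ (p : ℕ) (_ : Fact p.Prime), p ∣ Nat.card H → ∀ P : Sylow p H,
      ∃ R : Sylow p G, (R : Subgroup G) = (P : Subgroup H).map H.subtype := by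
    intro p hp hpd P
    have h1 : IsPGroup p ((P : Subgroup H).map H.subtype) := P.2.map _
    obtain ⟨R, hR⟩ := h1.exists_le_sylow
    refine ⟨R, ?_⟩
    by_contra hne
    have hlt : (P : Subgroup H).map H.subtype < R := lt_of_le_of_ne hR (Ne.symm hne)
    have h2 := lt_inf_normalizer hlt R.2.isNilpotent
    rw [hnorm p hp.out hpd P] at h2
    -- `R ⊓ H` is a `p`-subgroup of `H` bigger than `P`
    have h3 : IsPGroup p ((R : Subgroup G) ⊓ H : Subgroup G) := R.2.to_le inf_le_left
    have h4 : IsPGroup p (((R : Subgroup G) ⊓ H : Subgroup G).subgroupOf H) := h3.comap_subtype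
    have h5 : (P : Subgroup H) ≤ ((R : Subgroup G) ⊓ H : Subgroup G).subgroupOf H := by
      intro x hx
      exact Subgroup.mem_subgroupOf.mpr (h2.le ⟨x, hx, rfl⟩)
    have h6 := P.3 h4 h5
    have h7 : ((R : Subgroup G) ⊓ H : Subgroup G) ≤ (P : Subgroup H).map H.subtype := by
      rintro x hx
      have h8 : (⟨x, hx.2⟩ : H) ∈ ((R : Subgroup G) ⊓ H : Subgroup G).subgroupOf H :=
        Subgroup.mem_subgroupOf.mpr hx
      rw [h6] at h8
      exact ⟨_, h8, rfl⟩
    exact absurd h2 (not_lt_of_ge h7)
  -- `H` is nilpotent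
  have hnil : Group.IsNilpotent H := by
    apply nilpotent_of_sylow_normal
    intro p hp P
    by_cases hpd : p ∣ Nat.card H
    · have h1 := hnorm p hp.out hpd P
      have h3 : H ≤ Subgroup.normalizer (((P : Subgroup H).map H.subtype : Subgroup G) : Set G) := h1.ge
      rw [← Subgroup.normal_subgroupOf_iff_le_normalizer (Subgroup.map_subtype_le _)] at h3
      rw [Subgroup.subgroupOf, Subgroup.comap_map_eq_self_of_injective H.subtype_injective] at h3
      exact h3
    · have h1 : (P : Subgroup H) = ⊥ := by
        rw [← Subgroup.card_eq_one]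
        obtain ⟨n, hn⟩ := IsPGroup.iff_card.mp P.2
        rcases Nat.eq_zero_or_pos n with h0 | h0
        · rw [hn, h0, pow_zero]
        · exact absurd ((dvd_pow_self p h0.ne').trans (hn ▸ Subgroup.card_subgroup_dvd_card _)) hpd
      rw [h1]; infer_instance
  -- normal complements
  have hnpc : ∀ p : ℕ, p.Prime → p ∣ Nat.card H → ∃ N : Subgroup G, N.Normal ∧
      N.index = p ^ (Nat.card H).factorization p ∧ (Nat.card H).factorization p =
        (Nat.card G).factorization p := by
    intro p hp hpd
    have hpf : Fact p.Prime := ⟨hp⟩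
    let P : Sylow p H := default
    obtain ⟨R, hR⟩ := hsyl p hpf hpd P
    obtain ⟨q, hq, hqp, hqd⟩ := h2 p hp hpd
    have hqf : Fact q.Prime := ⟨hq⟩
    let Q : Sylow q H := default
    obtain ⟨S, hS⟩ := hsyl q hqf hqd Q
    have hcard : (Nat.card H).factorization p = (Nat.card G).factorization p := by
      have e1 := Coprime.card_map_sylow P
      rw [← hR, R.card_eq_multiplicity] at e1
      exact (Nat.pow_right_injective hp.two_le e1).symm
    have hnp : Cfsg.HasNormalPComplement p G := by
      apply Cfsg.Agent.H2.Fusion3.npc_of_controls_fusion R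
      intro x hx g hgx
      set y := g * x * g⁻¹ with hy
      -- `S` centralizes `R`
      have hSR : ∀ u ∈ (S : Subgroup G), ∀ v ∈ (R : Subgroup G), u * v = v * u := by
        intro u hu v hv
        rw [hS] at hu
        rw [hR] at hv
        exact commute_of_nilpotent' hnil hqp (Q.2.map _) (P.2.map _) (Subgroup.map_subtype_le _)
          (Subgroup.map_subtype_le _) hu hv
      have hSC : (S : Subgroup G) ≤ Subgroup.centralizer {y} := by
        intro u hu
        rw [Subgroup.mem_centralizer_singleton_iff]
        exact hSR u hu y hgx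
      have hgSC : MulAut.conj g • (S : Subgroup G) ≤ Subgroup.centralizer {y} := by
        intro u hu
        rw [mem_conj] at hu
        rw [Subgroup.mem_centralizer_singleton_iff, hy]
        have h1 := hSR _ hu x hx
        have h2 : u * (g * x * g⁻¹) = g * ((g⁻¹ * u * g) * x) * g⁻¹ := by group
        rw [h2, h1]; group
      -- conjugate in the centralizer
      set C := Subgroup.centralizer {y} with hC
      have e1 : (((S.subtype hSC : Sylow q C) : Subgroup C)).map C.subtype = (S : Subgroup G) := by
        rw [Sylow.coe_subtype, Subgroup.subgroupOf_map_subtype, inf_eq_left.mpr hSC]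
      have e2 : Nat.card (S : Subgroup G) = q ^ (Nat.card C).factorization q := by
        rw [← Coprime.card_map_sylow (S.subtype hSC), e1]
      obtain ⟨c, hc, hcS⟩ := Coprime.exists_conj_of_card_eq hgSC hSC (by rw [card_conj]; exact e2) e2
      rw [conj_conj] at hcS
      have hcg : c * g ∈ H := by
        rw [← hnorm q hq hqd Q, ← hS]
        exact conj_eq_iff_mem_normalizer.mp hcS
      -- decompose `c * g` in the nilpotent group `H`
      have hHdec : ∃ z ∈ (R : Subgroup G), ∃ w ∈ H, w ∈ Subgroup.centralizer ((R : Subgroup G) : Set G) ∧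
          c * g = z * w := by
        have h3 : H ≤ (R : Subgroup G) ⊔ (H ⊓ Subgroup.centralizer ((R : Subgroup G) : Set G)) := by
          apply le_of_sylow_le
          intro r hr
          by_cases hrp : r = p
          · subst hrp
            exact ⟨P, by rw [hR]; exact le_sup_left⟩
          · let T : Sylow r H := default
            refine ⟨T, le_trans ?_ le_sup_right⟩
            refine le_inf (Subgroup.map_subtype_le _) ?_
            intro u hu
            rw [Subgroup.mem_centralizer_iff]
            intro v hv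
            rw [SetLike.mem_coe, hR] at hv
            exact commute_of_nilpotent' hnil (Ne.symm hrp) (P.2.map _) (T.2.map _)
              (Subgroup.map_subtype_le _) (Subgroup.map_subtype_le _) hv hu
        have h4 := h3 hcg
        have h5 : (H ⊓ Subgroup.centralizer ((R : Subgroup G) : Set G)) ≤
            Subgroup.normalizer ((R : Subgroup G) : Set G) :=
          inf_le_right.trans (Subgroup.centralizer_le_normalizer _)
        obtain ⟨z, hz, w, hw, he⟩ := (mem_sup_iff_of_le_normalizer h5).mp h4
        exact ⟨z, hz, w, hw.1, hw.2, he.symm⟩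
      obtain ⟨z, hz, w, hw, hwc, he⟩ := hHdec
      refine ⟨z, hz, ?_⟩
      have h3 : w * x * w⁻¹ = x := by
        have := Subgroup.mem_centralizer_iff.mp hwc x hx
        rw [← this, mul_inv_cancel_right]
      have h4 : z = (c * g) * w⁻¹ := by rw [he, mul_inv_cancel_right]
      have h5 : w⁻¹ * x * w = x := by
        have : x * w = w * x := Subgroup.mem_centralizer_iff.mp hwc x hx
        rw [mul_assoc, this, inv_mul_cancel_left]
      have h6 : z * x * z⁻¹ = c * (g * (w⁻¹ * x * w) * g⁻¹) * c⁻¹ := by rw [h4]; group
      rw [h6, h5, ← hy]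
      rw [hC, Subgroup.mem_centralizer_singleton_iff] at hc
      rw [hc, mul_inv_cancel_right]
    obtain ⟨N, hN, hcompl⟩ := (Cfsg.Agent.H2.Basic.npc_iff_sylow R).mp hnp
    refine ⟨N, hN, ?_, hcard⟩
    rw [hcompl.symm.index_eq_card, R.card_eq_multiplicity, hcard]
  -- intersect
  have key : ∀ F : Finset ℕ, F ⊆ (Nat.card H).primeFactors → ∃ N : Subgroup G, N.Normal ∧
      N.index = ∏ p ∈ F, p ^ (Nat.card H).factorization p := by
    intro F
    induction F using Finset.induction_on with
    | empty => intro _; exact ⟨⊤, inferInstance, by simp⟩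
    | insert p F hpF ih =>
      intro hF
      obtain ⟨N, hN, hNi⟩ := ih ((Finset.subset_insert _ _).trans hF)
      have hp := hF (Finset.mem_insert_self p F)
      obtain ⟨M, hM, hMi, -⟩ := hnpc p (Nat.prime_of_mem_primeFactors hp) (Nat.dvd_of_mem_primeFactors hp)
      have hcop : M.index.Coprime N.index := by
        rw [hMi, hNi]
        apply Nat.Coprime.pow_left
        apply Nat.Coprime.prod_right
        intro r hr
        apply Nat.Coprime.pow_right
        rw [Nat.coprime_primes (Nat.prime_of_mem_primeFactors hp)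
          (Nat.prime_of_mem_primeFactors (hF (Finset.mem_insert_of_mem hr)))]
        rintro rfl
        exact hpF hr
      refine ⟨M ⊓ N, inferInstance, ?_⟩
      rw [(index_inf_of_coprime M N hcop).1, hMi, hNi, Finset.prod_insert hpF]
  obtain ⟨N, hN, hNi⟩ := key _ (Finset.Subset.refl _)
  have hidx : N.index = Nat.card H := by
    rw [hNi]
    exact Nat.prod_factorization_pow_eq_self Nat.card_pos.ne'
  have hcop : (Nat.card N).Coprime N.index := by
    rw [hidx]
    apply Nat.coprime_of_dvd
    intro p hp hpN hpH
    obtain ⟨-, -, -, hfac⟩ := hnpc p hp hpH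
    have h3 : Nat.card N * Nat.card H = Nat.card G := by rw [← hidx]; exact N.card_mul_index
    have h4 := congrArg (fun n => Nat.factorization n p) h3
    rw [Nat.factorization_mul Nat.card_pos.ne' Nat.card_pos.ne'] at h4
    simp only [Finsupp.coe_add, Pi.add_apply] at h4
    have h5 : 0 < (Nat.card N).factorization p := hp.factorization_pos_of_dvd Nat.card_pos.ne' hpN
    omega
  exact ⟨N, hN, isComplement'_of_card hcop hidx.symm⟩

/-- S0558 -/
theorem wielandt_complement' [Finite G] (H : Subgroup G)
    (hnot : ∀ p : ℕ, p.Prime → ∀ P : Sylow p G, (P : Subgroup G) ≠ H)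
    (hnorm : ∀ p : ℕ, p.Prime → p ∣ Nat.card H → ∀ P : Sylow p H,
      Subgroup.normalizer (((P : Subgroup H).map H.subtype : Subgroup G) : Set G) = H) :
    ∃ N : Subgroup G, N.Normal ∧ Subgroup.IsComplement' N H := by
  apply wielandt_complement H _ hnorm
  intro p hp hpd
  by_contra hcon
  push Not at hcon
  have hpf : Fact p.Prime := ⟨hp⟩
  have h1 : Nat.card H = p ^ (Nat.card H).primeFactorsList.length :=
    Nat.eq_prime_pow_of_unique_prime_dvd Nat.card_pos.ne' (fun {q} hq hqd => by
      by_contra hne
      exact hcon q hq hne hqd)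
  have h2 : IsPGroup p H := IsPGroup.of_card h1
  obtain ⟨R, hR⟩ := h2.exists_le_sylow
  apply hnot p hp R
  -- `P = H`
  let P : Sylow p H := default
  have hP : (P : Subgroup H) = ⊤ := (P.3 (h2.to_subgroup ⊤) le_top).symm
  by_contra hne
  have hlt : H < R := lt_of_le_of_ne hR (Ne.symm hne)
  have h3 := lt_inf_normalizer hlt R.2.isNilpotent
  by_cases hHb : p ∣ Nat.card H
  · have h4 := hnorm p hp hHb P
    rw [hP, ← MonoidHom.range_eq_map, Subgroup.range_subtype] at h4
    rw [h4] at h3
    exact absurd h3 (not_lt_of_ge inf_le_right)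
  · exact hHb hpd

end

end Cfsg.Agent.H1.Kegel
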