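import Mathlib
import Cfsg.Agent.H1_Kegel
import Cfsg.Agent.H1_Kegel2
import Cfsg.Agent.H1_Schmidt3
import Cfsg.Agent.H1_Misc2
import Cfsg.Agent.H3_Burnside

set_option autoImplicit false

open Pointwise
open scoped commutatorElement
open Cfsg.Agent.H1.Basic Cfsg.Agent.H1.Nilp Cfsg.Agent.H1.Hall Cfsg.Agent.H1.Factor
open Cfsg.Agent.H1.Wiel Cfsg.Agent.H1.SZ Cfsg.Agent.H1.Schmidt Cfsg.Agent.H1.Kegel

namespace Cfsg.Agent.H1.KW

section Sy

variable {G : Type*} [Group G]

/-- the Sylow `p`-subgroup of a nilpotent subgroup `A` -/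
def Sy (A : Subgroup G) (p : ℕ) : Subgroup G := (Cfsg.pCore p A).map A.subtype

theorem sy_le (A : Subgroup G) (p : ℕ) : Sy A p ≤ A := Subgroup.map_subtype_le _

theorem sy_isPGroup [Finite G] (A : Subgroup G) (p : ℕ) [Fact p.Prime] : IsPGroup p (Sy A p) :=
  (Cfsg.Agent.H1.Nilp.pCore_isPGroup (G := A) p).map _

theorem le_sy [Finite G] {A : Subgroup G} (hA : Group.IsNilpotent A) {p : ℕ} [Fact p.Prime]
    {X : Subgroup G} (hX : X ≤ A) (hp : IsPGroup p X) : X ≤ Sy A p := by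
  have h1 : IsPGroup p (X.subgroupOf A) := hp.comap_subtype
  obtain ⟨P, hP⟩ := h1.exists_le_sylow
  have h2 : (P : Subgroup A).Normal := inferInstance
  have h3 : (P : Subgroup A) ≤ Cfsg.pCore p A := Cfsg.Agent.H1.Nilp.le_pCore h2 P.2
  intro x hx
  exact ⟨⟨x, hX hx⟩, h3 (hP (Subgroup.mem_subgroupOf.mpr hx)), rfl⟩

theorem sy_normalizer (A : Subgroup G) (p : ℕ) : A ≤ Subgroup.normalizer (Sy A p : Set G) := by
  rw [← Subgroup.normal_subgroupOf_iff_le_normalizer (sy_le A p), Sy, Subgroup.subgroupOf,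
    Subgroup.comap_map_eq_self_of_injective A.subtype_injective]
  exact Cfsg.Agent.H1.Nilp.pCore_normal p

theorem sy_ne_bot [Finite G] {A : Subgroup G} (hA : Group.IsNilpotent A) {p : ℕ} [hp : Fact p.Prime]
    (hd : p ∣ Nat.card A) : Sy A p ≠ ⊥ := by
  obtain ⟨x, hx⟩ := exists_prime_orderOf_dvd_card' (G := A) p hd
  intro hb
  have h1 : Subgroup.zpowers (x : G) ≤ Sy A p := by
    apply le_sy hA (Subgroup.zpowers_le.mpr x.2)
    apply IsPGroup.of_card (n := 1)
    rw [Nat.card_zpowers, Subgroup.orderOf_coe, hx, pow_one]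
  rw [hb, le_bot_iff, Subgroup.zpowers_eq_bot] at h1
  have h2 : x = 1 := Subtype.ext h1
  rw [h2, orderOf_one] at hx
  exact hp.out.one_lt.ne hx

theorem nilpotent_conj {A : Subgroup G} (hA : Group.IsNilpotent A) (g : G) :
    Group.IsNilpotent (MulAut.conj g • A : Subgroup G) :=
  (Group.isNilpotent_congr (Subgroup.equivSMul (MulAut.conj g) A)).mp hA

theorem isPGroup_conj {A : Subgroup G} {p : ℕ} (hA : IsPGroup p A) (g : G) :
    IsPGroup p (MulAut.conj g • A : Subgroup G) :=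
  hA.of_equiv (Subgroup.equivSMul (MulAut.conj g) A)

theorem sy_conj [Finite G] {A : Subgroup G} (hA : Group.IsNilpotent A) (p : ℕ) [Fact p.Prime]
    (g : G) : Sy (MulAut.conj g • A) p = MulAut.conj g • Sy A p := by
  apply le_antisymm
  · have h1 : MulAut.conj g⁻¹ • Sy (MulAut.conj g • A) p ≤ Sy A p := by
      apply le_sy hA
      · have := (conj_le_conj (g := g⁻¹)).mpr (sy_le (MulAut.conj g • A) p)
        rwa [conj_conj, inv_mul_cancel, conj_one] at this
      · exact isPGroup_conj (sy_isPGroup _ p) _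
    have := (conj_le_conj (g := g)).mpr h1
    rwa [conj_conj, mul_inv_cancel, conj_one] at this
  · exact le_sy (nilpotent_conj hA g) (conj_le_conj.mpr (sy_le A p))
      (isPGroup_conj (sy_isPGroup A p) g)

theorem sy_le_centralizer [Finite G] {A X : Subgroup G} (hA : Group.IsNilpotent A) {p : ℕ}
    [Fact p.Prime] (hX : X ≤ A) (hc : (Nat.card X).Coprime p) :
    Sy A p ≤ Subgroup.centralizer (X : Set G) :=
  le_centralizer_of_nilpotent hA (sy_isPGroup A p) hc (sy_le A p) hX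

theorem sy_not_dvd_index [Finite G] {A : Subgroup G} (hA : Group.IsNilpotent A) {p : ℕ}
    [hp : Fact p.Prime] (hd : ¬ p ∣ A.index) : ¬ p ∣ (Sy A p).index := by
  rw [Sy, Subgroup.index_map_subtype]
  intro h
  rcases hp.out.dvd_mul.mp h with h | h
  · let P : Sylow p A := default
    have h2 : (P : Subgroup A).Normal := inferInstance
    have h3 : (P : Subgroup A) ≤ Cfsg.pCore p A := Cfsg.Agent.H1.Nilp.le_pCore h2 P.2
    exact P.not_dvd_index (h.trans (Subgroup.index_dvd_of_le h3))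
  · exact hd h

theorem le_of_sy [Finite G] {A X : Subgroup G} (hA : Group.IsNilpotent A)
    (h : ∀ p : ℕ, ∀ _ : Fact p.Prime, Sy A p ≤ X) : A ≤ X := by
  apply le_of_sylow_le
  intro p hp
  let P : Sylow p A := default
  exact ⟨P, (le_sy hA (Subgroup.map_subtype_le _) (P.2.map _)).trans (h p hp)⟩

/-- the Sylow `p`-subgroup of a nilpotent Hall subgroup as a Sylow subgroup of `G` -/
theorem exists_sylow_eq [Finite G] {A : Subgroup G} (hA : Group.IsNilpotent A) {p : ℕ}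
    [hp : Fact p.Prime] (hd : ¬ p ∣ A.index) : ∃ P : Sylow p G, (P : Subgroup G) = Sy A p :=
  ⟨(sy_isPGroup A p).toSylow (sy_not_dvd_index hA hd), rfl⟩

/-- any `p`-subgroup is conjugate into the Sylow `p`-subgroup of `A` -/
theorem exists_conj_le_sy [Finite G] {A : Subgroup G} (hA : Group.IsNilpotent A) {p : ℕ}
    [hp : Fact p.Prime] (hd : ¬ p ∣ A.index) {X : Subgroup G} (hX : IsPGroup p X) :
    ∃ g : G, X ≤ MulAut.conj g • Sy A p := by
  obtain ⟨P, hP⟩ := exists_sylow_eq hA hd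
  obtain ⟨Q, hQ⟩ := hX.exists_le_sylow
  obtain ⟨g, hg⟩ := MulAction.exists_smul_eq G P Q
  refine ⟨g, ?_⟩
  rw [← hP, ← Sylow.coe_subgroup_smul, hg]
  exact hQ

end Sy

section Ctx

variable {G : Type*} [Group G]

/-- context: minimal counterexample to solvability -/
structure Ctx (A B : Subgroup G) : Prop where
  nA : Group.IsNilpotent A
  nB : Group.IsNilpotent B
  cop : (Nat.card A).Coprime (Nat.card B)
  fac : ∀ g : G, ∃ a ∈ A, ∃ b ∈ B, g = a * b
  simple : ∀ N : Subgroup G, N.Normal → N = ⊥ ∨ N = ⊤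
  ih : ∀ X : Subgroup G, X ≠ ⊤ → (∀ x ∈ X, ∃ a ∈ A ⊓ X, ∃ b ∈ B ⊓ X, x = a * b) →
    Group.IsSolvable X
  nns : ¬ Group.IsSolvable G

theorem Ctx.symm {A B : Subgroup G} (h : Ctx A B) : Ctx B A where
  nA := h.nB
  nB := h.nA
  cop := h.cop.symm
  fac := factor_symm h.fac
  simple := h.simple
  ih := by
    intro X hX hf
    apply h.ih X hX
    intro x hx
    obtain ⟨b, hb, a, ha, hab⟩ := hf x⁻¹ (X.inv_mem hx)
    refine ⟨a⁻¹, (A ⊓ X).inv_mem ha, b⁻¹, (B ⊓ X).inv_mem hb, ?_⟩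
    rw [← mul_inv_rev, ← hab, inv_inv]
  nns := h.nns

theorem Ctx.inf_eq_bot {A B : Subgroup G} (h : Ctx A B) : A ⊓ B = ⊥ :=
  disjoint_of_coprime_card h.cop

theorem Ctx.index_A [Finite G] {A B : Subgroup G} (h : Ctx A B) : A.index = Nat.card B := by
  have h1 := card_factor h.fac
  rw [h.inf_eq_bot, Subgroup.card_bot, mul_one, ← A.card_mul_index] at h1
  exact Nat.eq_of_mul_eq_mul_left Nat.card_pos h1

theorem Ctx.not_dvd_index [Finite G] {A B : Subgroup G} (h : Ctx A B) {p : ℕ} (hp : p.Prime)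
    (hd : p ∣ Nat.card A) : ¬ p ∣ A.index := by
  rw [h.index_A]
  intro h2
  exact hp.one_lt.ne' (Nat.eq_one_of_dvd_coprimes h.cop hd h2)

theorem Ctx.normalizer_ne_top {A B : Subgroup G} (h : Ctx A B) {X : Subgroup G} (hb : X ≠ ⊥)
    (ht : X ≠ ⊤) : Subgroup.normalizer (X : Set G) ≠ ⊤ := by
  intro hn
  rw [Subgroup.normalizer_eq_top_iff] at hn
  rcases h.simple X hn with h1 | h1
  · exact hb h1
  · exact ht h1

theorem Ctx.A_ne_top {A B : Subgroup G} (h : Ctx A B) : A ≠ ⊤ := by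
  rintro rfl
  apply h.nns
  have h1 := h.nA
  exact solvable_top inferInstance

theorem Ctx.A_ne_bot {A B : Subgroup G} (h : Ctx A B) : A ≠ ⊥ := by
  rintro rfl
  apply h.symm.A_ne_top
  rw [eq_top_iff]
  intro g _
  obtain ⟨a, ha, b, hb, rfl⟩ := h.fac g
  rw [Subgroup.mem_bot] at ha
  rw [ha, one_mul]; exact hb

/-- simultaneous conjugation -/
theorem simul_conj {A B P Q : Subgroup G} (hfac : ∀ g : G, ∃ a ∈ A, ∃ b ∈ B, g = a * b)
    (hP : A ≤ Subgroup.normalizer (P : Set G)) (hQ : B ≤ Subgroup.normalizer (Q : Set G))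
    (x y : G) : ∃ g : G, MulAut.conj x • P = MulAut.conj g • P ∧
      MulAut.conj y • Q = MulAut.conj g • Q := by
  obtain ⟨a, ha, b, hb, hab⟩ := hfac (x⁻¹ * y)
  refine ⟨x * a, ?_, ?_⟩
  · rw [← conj_conj, conj_eq_iff_mem_normalizer.mpr (hP ha)]
  · have h3 : x * a = y * b⁻¹ := by
      have : y = x * (a * b) := by rw [← hab]; group
      rw [this]; group
    rw [h3, ← conj_conj, conj_eq_iff_mem_normalizer.mpr (hQ (B.inv_mem hb))]

/-- `hall_product` inside a solvable subgroup -/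
theorem hall_product_in [Finite G] {S A B P Q : Subgroup G} (hS : Group.IsSolvable S)
    (hfac : ∀ x ∈ S, ∃ a ∈ A ⊓ S, ∃ b ∈ B ⊓ S, x = a * b)
    (hP : A ≤ Subgroup.normalizer (P : Set G)) (hQ : B ≤ Subgroup.normalizer (Q : Set G))
    (hPS : P ≤ S) (hQS : Q ≤ S) (hPh : (Nat.card P).Coprime P.index)
    (hQh : (Nat.card Q).Coprime Q.index) :
    ∃ T : Subgroup G, (T : Set G) = (P : Set G) * Q := by
  have h1 : ∀ g : S, ∃ h ∈ A.subgroupOf S, ∃ k ∈ B.subgroupOf S, g = h * k := by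
    intro g
    obtain ⟨a, ha, b, hb, hab⟩ := hfac g g.2
    exact ⟨⟨a, ha.2⟩, Subgroup.mem_subgroupOf.mpr ha.1, ⟨b, hb.2⟩,
      Subgroup.mem_subgroupOf.mpr hb.1, Subtype.ext hab⟩
  have hn : ∀ (A P : Subgroup G), A ≤ Subgroup.normalizer (P : Set G) → P ≤ S →
      A.subgroupOf S ≤ Subgroup.normalizer ((P.subgroupOf S : Subgroup S) : Set S) := by
    intro A P hP hPS
    rw [← Subgroup.subgroupOf_normalizer_eq hPS]
    exact Subgroup.comap_mono hP
  have hc : ∀ (P : Subgroup G), P ≤ S → (Nat.card P).Coprime P.index →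
      (Nat.card (P.subgroupOf S)).Coprime (P.subgroupOf S).index := by
    intro P hPS hPh
    rw [card_subgroupOf hPS]
    exact Nat.Coprime.coprime_dvd_right (Subgroup.relIndex_dvd_index_of_le hPS) hPh
  obtain ⟨T, hT⟩ := hall_product (G := S) h1 (hn A P hP hPS) (hn B Q hQ hQS) (hc P hPS hPh)
    (hc Q hQS hQh)
  refine ⟨T.map S.subtype, ?_⟩
  ext x
  constructor
  · rintro ⟨t, ht, rfl⟩
    rw [hT] at ht
    obtain ⟨a, ha, b, hb, rfl⟩ := ht
    exact ⟨a, ha, b, hb, rfl⟩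
  · rintro ⟨a, ha, b, hb, rfl⟩
    refine ⟨⟨a, hPS ha⟩ * ⟨b, hQS hb⟩, ?_, rfl⟩
    rw [hT]
    exact ⟨⟨a, hPS ha⟩, ha, ⟨b, hQS hb⟩, hb, rfl⟩

theorem Ctx.sy_hall [Finite G] {A B : Subgroup G} (h : Ctx A B) {p : ℕ} [hp : Fact p.Prime]
    (hd : p ∣ Nat.card A) : (Nat.card (Sy A p)).Coprime (Sy A p).index := by
  obtain ⟨n, hn⟩ := IsPGroup.iff_card.mp (sy_isPGroup A p)
  rw [hn]
  apply Nat.Coprime.pow_left
  rw [hp.out.coprime_iff_not_dvd]
  exact sy_not_dvd_index h.nA (h.not_dvd_index hp.out hd)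

/-- (F2) -/
theorem Ctx.sup_eq_top [Finite G] {A B : Subgroup G} (h : Ctx A B) {p q : ℕ} [hp : Fact p.Prime]
    [hq : Fact q.Prime] (hpd : p ∣ Nat.card A) (hqd : q ∣ Nat.card B) (x y : G) :
    MulAut.conj x • Sy A p ⊔ MulAut.conj y • Sy B q = ⊤ := by
  set P := Sy A p with hP
  set Q := Sy B q with hQ
  have hPb : P ≠ ⊥ := sy_ne_bot h.nA hpd
  have hQb : Q ≠ ⊥ := sy_ne_bot h.nB hqd
  have hPn : A ≤ Subgroup.normalizer (P : Set G) := sy_normalizer A p
  have hQn : B ≤ Subgroup.normalizer (Q : Set G) := sy_normalizer B q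
  have main : P ⊔ Q = ⊤ := by
    by_contra hne
    set D := P ⊔ Q with hD
    have hDb : D ≠ ⊥ := fun hb => hPb (by rw [eq_bot_iff, ← hb]; exact le_sup_left)
    have hSt := h.normalizer_ne_top hDb hne
    set S := Subgroup.normalizer (D : Set G) with hS
    have hDS : D ≤ S := Subgroup.le_normalizer
    have hSfac : ∀ x ∈ S, ∃ a ∈ A ⊓ S, ∃ b ∈ B ⊓ S, x = a * b := by
      intro x hx
      obtain ⟨a, ha, b, hb, he⟩ := factor_normalizer h.fac (sy_le A p)
        ((Subgroup.normal_subgroupOf_iff_le_normalizer (sy_le A p)).mpr hPn) (sy_le B q)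
        ((Subgroup.normal_subgroupOf_iff_le_normalizer (sy_le B q)).mpr hQn) hx
      exact ⟨a, ⟨ha.2, ha.1⟩, b, ⟨hb.2, hb.1⟩, he⟩
    have hSs := h.ih S hSt hSfac
    obtain ⟨T, hT⟩ := hall_product_in hSs hSfac hPn hQn (le_sup_left.trans hDS)
      (le_sup_right.trans hDS) (h.sy_hall hpd) (h.symm.sy_hall hqd)
    have hTD : T ≤ D := by
      intro x hx
      rw [← SetLike.mem_coe, hT] at hx
      obtain ⟨a, ha, b, hb, rfl⟩ := hx
      exact D.mul_mem (Subgroup.mem_sup_left ha) (Subgroup.mem_sup_right hb)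
    have hTt : T ≠ ⊤ := fun ht => hne (top_le_iff.mp (ht ▸ hTD))
    have hKP : KP P Q := by
      intro x
      obtain ⟨g, hg1, hg2⟩ := simul_conj h.fac hPn hQn 1 x
      rw [conj_one] at hg1
      refine ⟨MulAut.conj g • T, ?_, ?_⟩
      · intro ht
        apply hTt
        have h1 := Subgroup.card_eq_iff_eq_top (MulAut.conj g • T : Subgroup G) |>.mpr ht
        rw [card_conj] at h1
        exact (Subgroup.card_eq_iff_eq_top T).mp h1
      · rw [hg2]
        conv_rhs => rw [hg1]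
        exact smul_mul_set g P Q hT
    obtain ⟨N, hN, hNt, hle⟩ := kegel_aux hKP
    have hNb : N = ⊥ := (h.simple N hN).resolve_right hNt
    rcases hle with h1 | h1
    · exact hPb (by rw [eq_bot_iff, ← hNb]; exact h1)
    · exact hQb (by rw [eq_bot_iff, ← hNb]; exact h1)
  obtain ⟨g, hg1, hg2⟩ := simul_conj h.fac hPn hQn x y
  rw [hg1, hg2, ← Subgroup.smul_sup, main]
  exact conj_of_normal g ⊤

/-- (F3) -/
theorem Ctx.two_primes [Finite G] {A B : Subgroup G} (h : Ctx A B) (p : ℕ) (hp : p.Prime) :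
    ∃ s : ℕ, s.Prime ∧ s ≠ p ∧ s ∣ Nat.card A := by
  by_contra hcon
  push Not at hcon
  have hA : Nat.card A = p ^ (Nat.card A).primeFactorsList.length :=
    Nat.eq_prime_pow_of_unique_prime_dvd Nat.card_pos.ne' (fun {q} hq hqd => by
      by_contra hne
      exact hcon q hq hne hqd)
  have hnt : Nontrivial G := by
    by_contra hh
    rw [not_nontrivial_iff_subsingleton] at hh
    exact h.nns inferInstance
  have hsimp : IsSimpleGroup G := ⟨fun N hN => h.simple N hN⟩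
  have hBn := h.nB
  have hBnt : Nontrivial B := (Subgroup.nontrivial_iff_ne_bot B).mpr h.symm.A_ne_bot
  have hc : Nontrivial (Subgroup.center B) := by
    rw [Subgroup.nontrivial_iff_ne_bot]
    have := normal_inf_center_ne_bot (⊤ : Subgroup B) top_ne_bot
    rwa [top_inf_eq] at this
  obtain ⟨z, hz, hz1⟩ := (Subgroup.bot_or_exists_ne_one _).resolve_left
    ((Subgroup.nontrivial_iff_ne_bot _).mp hc)
  have hz1' : (z : G) ≠ 1 := fun h => hz1 (Subtype.ext h)
  have hBC : B ≤ Subgroup.centralizer {(z : G)} := by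
    intro b hb
    rw [Subgroup.mem_centralizer_singleton_iff]
    exact congrArg Subtype.val (Subgroup.mem_center_iff.mp hz ⟨b, hb⟩)
  have hdvd : (Subgroup.centralizer ({(z : G)} : Set G)).index ∣ Nat.card A := by
    rw [← h.symm.index_A]
    exact Subgroup.index_dvd_of_le hBC
  rw [hA] at hdvd
  obtain ⟨k, -, hk⟩ := (Nat.dvd_prime_pow hp).mp hdvd
  have h1 := Cfsg.Agent.H3.Burnside.class_prime_pow hp hz1' hk
  apply h.nns
  have : Fact (Nat.card G).Prime := ⟨h1⟩
  have h2 : IsCyclic G := isCyclic_of_prime_card (p := Nat.card G) rfl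
  have h3 : IsMulCommutative G := IsCyclic.isMulCommutative
  open scoped IsMulCommutative in
  infer_instance

end Ctx

end Cfsg.Agent.H1.KW
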