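import Mathlib
import Cfsg.Agent.H27_FusNorm2
import Cfsg.Agent.H27_FusEss
import Cfsg.Agent.H27_FusAlp
import Cfsg.Agent.H1_Nilp
import Cfsg.Agent.H1_FusA

set_option autoImplicit false
set_option linter.all false

/-! Small essential subgroups: basic obstructions. -/

namespace Cfsg.Agent.H1.Sm

open Cfsg Cfsg.FusionSystem Cfsg.Agent.H27.Fus Cfsg.Agent.H27.Grp Cfsg.Agent.H1.FusA
open scoped commutatorElement

section grp

variable {G : Type*} [Group G] {p : ℕ} [hp : Fact p.Prime]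

/-- fixed points of an automorphism of prime order `q ≠ p` in cosets -/
theorem exists_fix [Finite G] (hG : IsPGroup p G) {q : ℕ} [hq : Fact q.Prime] (hqp : q ≠ p) (γ : MulAut G)
    (hγ : γ ^ q = 1) (X : Subgroup (MulAut G)) (hγX : γ ∈ X) (C N : Subgroup G) (hNC : N ≤ C)
    (hN : ∀ g ∈ X, ∀ x ∈ C, x⁻¹ * g x ∈ N) (x : G) (hx : x ∈ C) : ∃ y, x⁻¹ * y ∈ N ∧ γ y = y := by
  have hX : Subgroup.zpowers γ ≤ X := Subgroup.zpowers_le.2 hγX
  let α := {y : G // x⁻¹ * y ∈ N}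
  have hyC : ∀ y : α, y.1 ∈ C := fun y => by
    have := C.mul_mem hx (hNC y.2); simpa using this
  letI : MulAction (Subgroup.zpowers γ) α :=
    { smul := fun g y => ⟨(g : MulAut G) y.1, by
        have h1 := N.mul_mem y.2 (hN _ (hX g.2) y.1 (hyC y))
        have e : x⁻¹ * (g : MulAut G) y.1 = (x⁻¹ * y.1) * (y.1⁻¹ * (g : MulAut G) y.1) := by group
        rw [e]; exact h1⟩
      one_smul := fun y => Subtype.ext rfl
      mul_smul := fun g h y => Subtype.ext rfl }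
  have hq' : IsPGroup q (Subgroup.zpowers γ) := by
    rintro ⟨_, k, rfl⟩
    refine ⟨1, Subtype.ext ?_⟩
    show (γ ^ k) ^ q ^ 1 = 1
    rw [pow_one, ← zpow_natCast, ← zpow_mul, mul_comm, zpow_mul, zpow_natCast, hγ, one_zpow]
  have hcard : Nat.card α = Nat.card N := by
    refine Nat.card_congr ⟨fun y => ⟨x⁻¹ * y.1, y.2⟩, fun n => ⟨x * n.1, by simpa using n.2⟩, ?_, ?_⟩
    · intro y; apply Subtype.ext; simp
    · intro n; apply Subtype.ext; simp
  have hnd : ¬ q ∣ Nat.card α := by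
    rw [hcard]
    obtain ⟨n, hn⟩ := IsPGroup.iff_card.1 (hG.to_subgroup N)
    rw [hn]
    intro h
    exact hqp ((Nat.prime_dvd_prime_iff_eq hq.out hp.out).1 (hq.out.dvd_of_dvd_pow h))
  obtain ⟨y, hy⟩ := hq'.nonempty_fixed_point_of_prime_not_dvd_card α hnd
  refine ⟨y.1, y.2, ?_⟩
  have h1 := hy ⟨γ, Subgroup.mem_zpowers γ⟩
  exact congrArg Subtype.val h1

/-- the stabilizer in `A` of a chain of `A`-invariant subgroups -/
def stab (A : Subgroup (MulAut G)) (C : ℕ → Subgroup G) (n : ℕ) (hinv : ∀ i ≤ n, ∀ α ∈ A, ∀ x ∈ C i, α x ∈ C i) :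
    Subgroup (MulAut G) where
  carrier := {α | α ∈ A ∧ ∀ i < n, ∀ x ∈ C (i + 1), x⁻¹ * α x ∈ C i}
  one_mem' := ⟨A.one_mem, fun i _ x _ => by simp [Subgroup.one_mem]⟩
  mul_mem' := by
    rintro a b ⟨ha, ha'⟩ ⟨hb, hb'⟩
    refine ⟨A.mul_mem ha hb, fun i hi x hx => ?_⟩
    have e : x⁻¹ * (a * b) x = (x⁻¹ * b x) * ((b x)⁻¹ * a (b x)) := by
      rw [MulAut.mul_apply]; group
    rw [e]
    exact Subgroup.mul_mem _ (hb' i hi x hx) (ha' i hi _ (hinv (i + 1) hi b hb x hx))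
  inv_mem' := by
    rintro a ⟨ha, ha'⟩
    refine ⟨A.inv_mem ha, fun i hi x hx => ?_⟩
    have h1 := Subgroup.inv_mem _ (ha' i hi (a⁻¹ x) (hinv (i + 1) hi _ (A.inv_mem ha) x hx))
    rw [MulAut.apply_inv_self] at h1
    have e : x⁻¹ * a⁻¹ x = ((a⁻¹ x)⁻¹ * x)⁻¹ := by group
    rw [e]; exact h1

theorem stab_le {A : Subgroup (MulAut G)} {C : ℕ → Subgroup G} {n : ℕ} {hinv : ∀ i ≤ n, ∀ α ∈ A, ∀ x ∈ C i, α x ∈ C i} :
    stab A C n hinv ≤ A := fun _ h => h.1

theorem stab_normal {A : Subgroup (MulAut G)} {C : ℕ → Subgroup G} {n : ℕ}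
    {hinv : ∀ i ≤ n, ∀ α ∈ A, ∀ x ∈ C i, α x ∈ C i} :
    A ≤ Subgroup.normalizer (stab A C n hinv : Set (MulAut G)) := by
  have key : ∀ α ∈ A, ∀ β ∈ stab A C n hinv, α * β * α⁻¹ ∈ stab A C n hinv := by
    rintro α hα β ⟨hβ, hβ'⟩
    refine ⟨A.mul_mem (A.mul_mem hα hβ) (A.inv_mem hα), fun i hi x hx => ?_⟩
    have h1 := hinv i hi.le α hα _ (hβ' i hi (α⁻¹ x) (hinv (i + 1) hi _ (A.inv_mem hα) x hx))
    rw [map_mul, map_inv, MulAut.apply_inv_self] at h1
    exact h1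
  intro α hα
  rw [Subgroup.mem_normalizer_iff]
  intro β
  refine ⟨fun h => key α hα β h, fun h => ?_⟩
  have h1 := key _ (A.inv_mem hα) _ h
  have e : α⁻¹ * (α * β * α⁻¹) * α⁻¹⁻¹ = β := by group
  rwa [e] at h1

/-- Burnside: a stabilizer of a chain starting inside the Frattini subgroup is a `p`-group -/
theorem stab_isPGroup [Finite G] (hG : IsPGroup p G) {A : Subgroup (MulAut G)} {C : ℕ → Subgroup G} {n : ℕ}
    {hinv : ∀ i ≤ n, ∀ α ∈ A, ∀ x ∈ C i, α x ∈ C i} (hmono : ∀ i < n, C i ≤ C (i + 1)) (h0 : C 0 ≤ frattini G)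
    (hn : C n = ⊤) : IsPGroup p (stab A C n hinv) := by
  rintro ⟨α, hα0⟩
  suffices h : ∃ k, α ^ (p ^ k) = 1 by
    obtain ⟨k, hk⟩ := h
    exact ⟨k, Subtype.ext hk⟩
  have hpos : 0 < orderOf α := orderOf_pos α
  obtain ⟨k, m, hm, hkm⟩ := Nat.exists_eq_pow_mul_and_not_dvd hpos.ne' p hp.out.ne_one
  refine ⟨k, ?_⟩
  by_contra hne
  set β := α ^ (p ^ k) with hβ
  have hβm : orderOf β ∣ m := by
    apply orderOf_dvd_of_pow_eq_one
    rw [hβ, ← pow_mul, ← hkm]
    exact pow_orderOf_eq_one α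
  have hβ1 : orderOf β ≠ 1 := fun h1 => hne (orderOf_eq_one_iff.1 h1)
  obtain ⟨q, hq, hqd⟩ := Nat.exists_prime_and_dvd hβ1
  haveI : Fact q.Prime := ⟨hq⟩
  have hqp : q ≠ p := by
    rintro rfl
    exact hm (hqd.trans hβm)
  obtain ⟨γ, hγz, hγ⟩ : ∃ γ, (∃ j : ℕ, γ = α ^ j) ∧ orderOf γ = q := by
    refine ⟨β ^ (orderOf β / q), ⟨p ^ k * (orderOf β / q), ?_⟩, ?_⟩
    · rw [hβ, pow_mul]
    · exact orderOf_pow_orderOf_div (orderOf_pos β).ne' hqd
  obtain ⟨j, hj⟩ := hγz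
  have hγX : γ ∈ stab A C n hinv := by rw [hj]; exact Subgroup.pow_mem _ hα0 j
  have hγq : γ ^ q = 1 := by rw [← hγ]; exact pow_orderOf_eq_one γ
  let D : Subgroup G :=
    { carrier := {x | γ x = x}
      one_mem' := map_one γ
      mul_mem' := by
        intro a b ha hb
        show γ (a * b) = a * b
        rw [map_mul, show γ a = a from ha, show γ b = b from hb]
      inv_mem' := by
        intro a ha
        show γ a⁻¹ = a⁻¹
        rw [map_inv, show γ a = a from ha] }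
  have hCi : ∀ i ≤ n, C i ≤ D ⊔ frattini G := by
    intro i
    induction i with
    | zero => intro _; exact h0.trans le_sup_right
    | succ i ih =>
      intro hi x hx
      obtain ⟨y, hy, hyf⟩ := exists_fix hG hqp γ hγq (stab A C n hinv) hγX (C (i + 1)) (C i) (hmono i hi)
        (fun g hg x hx => hg.2 i hi x hx) x hx
      have e : x = y * (x⁻¹ * y)⁻¹ := by group
      rw [e]
      exact Subgroup.mul_mem _ (Subgroup.mem_sup_left hyf) (Subgroup.inv_mem _ (ih (Nat.le_of_succ_le hi) hy))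
  have hD : D ⊔ frattini G = ⊤ := by
    rw [eq_top_iff, ← hn]; exact hCi n le_rfl
  have hDt : D = ⊤ := frattini_nongenerating hD
  have hγ1 : γ = 1 := by
    ext x
    have : x ∈ D := by rw [hDt]; trivial
    exact this
  rw [hγ1, orderOf_one] at hγ
  exact hq.one_lt.ne hγ

/-- a `p`-group acts trivially on normal sections of order at most `p` -/
theorem central_step {N C C' : Subgroup G} [Finite N] (hN : IsPGroup p N) (hCC : C ≤ C') (hCN : C' ≤ N)
    (hC : ∀ s ∈ N, ∀ c ∈ C, s * c * s⁻¹ ∈ C) (hC' : ∀ s ∈ N, ∀ c ∈ C', s * c * s⁻¹ ∈ C')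
    (hidx : C.relIndex C' ≤ p) : ∀ s ∈ N, ∀ y ∈ C', y⁻¹ * (s * y * s⁻¹) ∈ C := by
  by_cases hne : C = C'
  · subst hne
    intro s hs y hy
    exact C.mul_mem (C.inv_mem hy) (hC s hs y hy)
  haveI hCn : (C.subgroupOf N).Normal := ⟨fun c hc s => hC s s.2 c hc⟩
  haveI : Finite (N ⧸ C.subgroupOf N) := inferInstance
  set π := QuotientGroup.mk' (C.subgroupOf N) with hπ
  have hπk : ∀ x : N, π x = 1 ↔ (x : G) ∈ C := fun x => by
    rw [hπ, QuotientGroup.mk'_apply, QuotientGroup.eq_one_iff]; rfl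
  haveI hC'n : ((C'.subgroupOf N).map π).Normal := by
    have : (C'.subgroupOf N).Normal := ⟨fun c hc s => hC' s s.2 c hc⟩
    exact this.map π (QuotientGroup.mk'_surjective _)
  have hne' : (C'.subgroupOf N).map π ≠ ⊥ := by
    intro hb
    apply hne
    refine le_antisymm hCC fun y hy => ?_
    have h1 : π ⟨y, hCN hy⟩ ∈ (C'.subgroupOf N).map π := ⟨⟨y, hCN hy⟩, hy, rfl⟩
    rw [hb, Subgroup.mem_bot, hπk] at h1
    exact h1
  have hQp : IsPGroup p (N ⧸ C.subgroupOf N) := hN.to_quotient _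
  haveI : Group.IsNilpotent (N ⧸ C.subgroupOf N) := hQp.isNilpotent
  have hmeet := Cfsg.Agent.H1.Nilp.normal_inf_center_ne_bot _ hne'
  set Y := (C'.subgroupOf N).map π with hY
  have hYcard : Nat.card Y ≤ p := by
    rw [hY, ← Subgroup.relIndex_ker]
    have hk : π.ker = C.subgroupOf N := QuotientGroup.ker_mk' _
    rw [hk, Subgroup.relIndex_subgroupOf hCN]
    exact hidx
  have hle : Y ≤ Subgroup.center _ := by
    have h1 : p ≤ Nat.card (Y ⊓ Subgroup.center _ : Subgroup (N ⧸ C.subgroupOf N)) := by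
      obtain ⟨n, hn⟩ := IsPGroup.iff_card.1 (hQp.to_subgroup (Y ⊓ Subgroup.center _))
      rw [hn]
      rcases Nat.eq_zero_or_pos n with h0 | h0
      · exfalso; apply hmeet
        rw [h0, pow_zero] at hn
        exact Subgroup.card_eq_one.1 hn
      · exact Nat.le_self_pow h0.ne' p
    have h2 : Y ⊓ Subgroup.center _ = Y :=
      Subgroup.eq_of_le_of_card_ge inf_le_left (hYcard.trans h1)
    rw [← h2]; exact inf_le_right
  intro s hs y hy
  have h1 : π ⟨y, hCN hy⟩ ∈ Subgroup.center _ := hle ⟨⟨y, hCN hy⟩, hy, rfl⟩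
  have h2 := (Subgroup.mem_center_iff.1 h1) (π ⟨s, hs⟩)
  have h3 : π (⟨y, hCN hy⟩⁻¹ * (⟨s, hs⟩ * ⟨y, hCN hy⟩ * ⟨s, hs⟩⁻¹)) = 1 := by
    rw [map_mul, map_mul, map_mul, map_inv, map_inv, h2]; group
  rw [hπk] at h3
  exact h3

end grp

section fus

variable {Ω : Type*} [Group Ω] {S H : Subgroup Ω} [Finite S] {F : FusionSystem S} {p : ℕ} [hp : Fact p.Prime]

/-- an essential subgroup has an element of `N_S(H)` inducing an automorphism outside any given normal
`p`-subgroup of `Aut_F(H)` -/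
theorem no_stab (hS : IsPGroup p S) (hF : F.IsSaturated p) (hH : F.IsEssential p H) {X : Subgroup (MulAut H)}
    (hXA : X ≤ F.autGroup H) (hXn : F.autGroup H ≤ Subgroup.normalizer (X : Set (MulAut H))) (hXp : IsPGroup p X)
    (h : ∀ s ∈ S, ∀ hN : s ∈ Subgroup.normalizer (H : Set Ω), cjA H s hN ∈ X) : False := by
  have h1 := le_of_radical hS hH.1 (essential_radical hS hH) (le_refl S)
    (hH.1.1.trans Subgroup.le_normalizer) hXA hXn hXp h
  exact (essential_lt hS hF hH).not_ge h1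

theorem no_chain (hS : IsPGroup p S) (hF : F.IsSaturated p) (hH : F.IsEssential p H) (C : ℕ → Subgroup H) (n : ℕ)
    (hinv : ∀ i ≤ n, ∀ α ∈ F.autGroup H, ∀ x ∈ C i, α x ∈ C i) (hmono : ∀ i < n, C i ≤ C (i + 1))
    (h0 : C 0 ≤ frattini H) (hn : C n = ⊤) (hidx : ∀ i < n, (C i).relIndex (C (i + 1)) ≤ p) : False := by
  have hHS : H ≤ S := hH.1.1
  haveI : Finite H := finite_of_le hHS
  refine no_stab hS hF hH (X := stab (F.autGroup H) C n hinv) stab_le stab_normal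
    (stab_isPGroup (hS.to_le hHS) hmono h0 hn) ?_
  intro s hs hN
  refine ⟨?_, fun i hi x hx => ?_⟩
  · exact autInducedBy_le_autGroup F hHS (cjA_mem hN hs)
  · set N := normalizerIn S H with hNdef
    haveI : Finite N := finite_of_le inf_le_left
    have hstep := central_step (N := N) (C := (C i).map H.subtype) (C' := (C (i + 1)).map H.subtype)
      (hS.to_le inf_le_left) (Subgroup.map_mono (hmono i hi)) ?_ ?_ ?_ ?_ s ⟨hs, hN⟩ x ⟨x, hx, rfl⟩
    · obtain ⟨y, hy, hyx⟩ := hstep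
      have e : y = x⁻¹ * cjA H s hN x := Subtype.ext hyx
      rw [← e]; exact hy
    · rintro _ ⟨y, -, rfl⟩
      exact ⟨hHS y.2, Subgroup.le_normalizer y.2⟩
    · rintro t ⟨ht, htN⟩ _ ⟨y, hy, rfl⟩
      exact ⟨cjA H t htN y, hinv i hi.le _ (autInducedBy_le_autGroup F hHS (cjA_mem htN ht)) y hy, rfl⟩
    · rintro t ⟨ht, htN⟩ _ ⟨y, hy, rfl⟩
      exact ⟨cjA H t htN y, hinv (i + 1) hi _ (autInducedBy_le_autGroup F hHS (cjA_mem htN ht)) y hy, rfl⟩
    · have := hidx i hi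
      rwa [Subgroup.relIndex_map_map_of_injective _ _ H.subtype_injective]

end fus

/-- there is no chain of characteristic subgroups with small factors above the Frattini subgroup -/
def NoCh (p : ℕ) (G : Type*) [Group G] : Prop :=
  ∀ (C : ℕ → Subgroup G) (n : ℕ), (∀ i ≤ n, (C i).Characteristic) → (∀ i < n, C i ≤ C (i + 1)) →
    C 0 ≤ frattini G → C n = ⊤ → (∀ i < n, (C i).relIndex (C (i + 1)) ≤ p) → False

theorem char_apply {G : Type*} [Group G] {M : Subgroup G} (h : M.Characteristic) (φ : MulAut G) {x : G} (hx : x ∈ M) :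
    φ x ∈ M := by
  have h1 := (Subgroup.characteristic_iff_map_le.1 h) φ
  exact h1 ⟨x, hx, rfl⟩

theorem char_of {G : Type*} [Group G] {M : Subgroup G} (h : ∀ φ : MulAut G, ∀ x ∈ M, φ x ∈ M) : M.Characteristic := by
  rw [Subgroup.characteristic_iff_map_le]
  rintro φ _ ⟨x, hx, rfl⟩
  exact h φ x hx

section fus2

variable {Ω : Type*} [Group Ω] {S H : Subgroup Ω} [Finite S] {F : FusionSystem S} {p : ℕ} [hp : Fact p.Prime]

theorem noCh (hS : IsPGroup p S) (hF : F.IsSaturated p) (hH : F.IsEssential p H) : NoCh p H :=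
  fun C n hC hmono h0 hn hidx =>
    no_chain hS hF hH C n (fun i hi α _ x hx => char_apply (hC i hi) α hx) hmono h0 hn hidx

end fus2

end Cfsg.Agent.H1.Sm
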