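import Mathlib
import Cfsg.Agent.H1_SmA
import Cfsg.Agent.H1_Frattini
import Cfsg.Agent.H2_Class
import Cfsg.Agent.H2_Rank2
import Cfsg.Agent.H2_Hup
import Cfsg.Agent.H2_MetaAct

set_option autoImplicit false
set_option linter.all false

/-! p-groups without small characteristic chains above the Frattini subgroup. -/

namespace Cfsg.Agent.H1.Sm

open Cfsg
open scoped commutatorElement

section basic

variable {G : Type*} [Group G] [Finite G] {p : ℕ} [hp : Fact p.Prime]

theorem nc0 (hN : NoCh p G) : frattini G ≠ ⊤ := by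
  intro h
  exact hN (fun _ => ⊤) 0 (fun i _ => inferInstance) (fun i hi => absurd hi (Nat.not_lt_zero _)) (by rw [h]) rfl
    (fun i hi => absurd hi (Nat.not_lt_zero _))

theorem nc2 (hN : NoCh p G) {M : Subgroup G} (hM : M.Characteristic) (hΦ : frattini G ≤ M) (h1 : M.index ≤ p)
    (h2 : (frattini G).relIndex M ≤ p) : False := by
  refine hN (fun i => if i = 0 then frattini G else if i = 1 then M else ⊤) 2 ?_ ?_ ?_ ?_ ?_
  · intro i hi
    split_ifs
    · exact frattini_characteristic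
    · exact hM
    · infer_instance
  · intro i hi
    interval_cases i
    · simpa using hΦ
    · simp
  · simp
  · simp
  · intro i hi
    interval_cases i
    · simpa using h2
    · simpa using h1

theorem nc1 (hN : NoCh p G) (h : (frattini G).index ≤ p) : False :=
  nc2 hN frattini_characteristic le_rfl h (by rw [Subgroup.relIndex_self]; exact hp.out.one_lt.le)

theorem nc3 (hN : NoCh p G) {M L : Subgroup G} (hM : M.Characteristic) (hL : L.Characteristic) (hΦ : frattini G ≤ M)
    (hML : M ≤ L) (h1 : L.index ≤ p) (h2 : M.relIndex L ≤ p) (h3 : (frattini G).relIndex M ≤ p) : False := by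
  refine hN (fun i => if i = 0 then frattini G else if i = 1 then M else if i = 2 then L else ⊤) 3 ?_ ?_ ?_ ?_ ?_
  · intro i hi
    split_ifs
    · exact frattini_characteristic
    · exact hM
    · exact hL
    · infer_instance
  · intro i hi
    interval_cases i
    · simpa using hΦ
    · simpa using hML
    · simp
  · simp
  · simp
  · intro i hi
    interval_cases i
    · simpa using h3
    · simpa using h2
    · simpa using h1

theorem index_ge (hG : IsPGroup p G) (hN : NoCh p G) : p ^ 2 ≤ (frattini G).index := by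
  obtain ⟨k, hk⟩ := Cfsg.Agent.H2.Hup.index_pow hG (frattini G)
  rw [hk]
  refine Nat.pow_le_pow_right hp.out.pos ?_
  by_contra hlt
  refine nc1 hN ?_
  rw [hk]
  calc p ^ k ≤ p ^ 1 := Nat.pow_le_pow_right hp.out.pos (by omega)
    _ = p := pow_one p

/-- a characteristic subgroup between `Φ` and `G`, when `|G : Φ| = p²` -/
theorem mid_eq (hG : IsPGroup p G) (hN : NoCh p G) (hidx : (frattini G).index ≤ p ^ 2) {M : Subgroup G}
    (hM : M.Characteristic) (hΦ : frattini G ≤ M) (hM1 : M ≠ ⊤) : M = frattini G := by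
  obtain ⟨k, hk⟩ := Cfsg.Agent.H2.Hup.index_pow hG M
  have hk0 : k ≠ 0 := by
    rintro rfl
    rw [pow_zero] at hk
    exact hM1 (Subgroup.index_eq_one.1 hk)
  have hmul := Subgroup.relIndex_mul_index hΦ
  obtain ⟨j, hj⟩ : ∃ j, (frattini G).relIndex M = p ^ j := by
    obtain ⟨l, hl⟩ := Cfsg.Agent.H2.Hup.index_pow hG (frattini G)
    have h3 : (frattini G).relIndex M ∣ p ^ l := by rw [← hl]; exact Dvd.intro _ hmul
    obtain ⟨j, -, hj⟩ := (Nat.dvd_prime_pow hp.out).1 h3
    exact ⟨j, hj⟩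
  rw [hk, hj, ← pow_add] at hmul
  have hle : j + k ≤ 2 := by
    rw [← hmul] at hidx
    exact (Nat.pow_le_pow_iff_right hp.out.one_lt).1 hidx
  by_cases hj0 : j = 0
  · rw [hj0, pow_zero] at hj
    exact le_antisymm (Subgroup.relIndex_eq_one.1 hj) hΦ
  · exfalso
    refine nc2 hN hM hΦ ?_ ?_
    · rw [hk]
      calc p ^ k ≤ p ^ 1 := Nat.pow_le_pow_right hp.out.pos (by omega)
        _ = p := pow_one p
    · rw [hj]
      calc p ^ j ≤ p ^ 1 := Nat.pow_le_pow_right hp.out.pos (by omega)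
        _ = p := pow_one p

theorem frattini_abelian (hG : IsPGroup p G) (hc : ∀ x y : G, x * y = y * x) {x : G} (hx : x ∈ frattini G) :
    ∃ y, y ^ p = x := by
  let N : Subgroup G :=
    { carrier := {x | ∃ y, y ^ p = x}
      one_mem' := ⟨1, one_pow _⟩
      mul_mem' := by
        rintro _ _ ⟨a, rfl⟩ ⟨b, rfl⟩
        exact ⟨a * b, Commute.mul_pow (hc a b) p⟩
      inv_mem' := by
        rintro _ ⟨a, rfl⟩
        exact ⟨a⁻¹, inv_pow a p⟩ }
  have h1 : frattini G ≤ N := by
    refine Cfsg.Agent.H1.Frattini.frattini_le_of_elementary (p := p) N ?_ (fun x => ⟨x, rfl⟩)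
    rw [commutator_def, Subgroup.commutator_le]
    intro a _ b _
    rw [commutatorElement_eq_one_iff_mul_comm.2 (hc a b)]
    exact N.one_mem
  exact h1 hx

/-- homocyclic groups from generators -/
theorem homocyclic_of (hc : ∀ x y : G, x * y = y * x) {n : ℕ} {x y : G} (hn : ∀ g : G, g ^ n = 1)
    (hgen : Subgroup.closure ({x, y} : Set G) = ⊤) (hind : ∀ i j : ℤ, x ^ i * y ^ j = 1 → (n : ℤ) ∣ i ∧ (n : ℤ) ∣ j) :
    Nonempty (G ≃* Multiplicative (ZMod n × ZMod n)) := by
  letI : CommGroup G := { (inferInstance : Group G) with mul_comm := hc }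
  have hz : ∀ g : G, (zmultiplesHom (Additive G) (Additive.ofMul g)) (n : ℤ) = 0 := by
    intro g
    rw [zmultiplesHom_apply, natCast_zsmul, ← ofMul_pow, hn, ofMul_one]
  let f : ZMod n × ZMod n →+ Additive G :=
    (ZMod.lift n ⟨zmultiplesHom (Additive G) (Additive.ofMul x), hz x⟩).coprod
      (ZMod.lift n ⟨zmultiplesHom (Additive G) (Additive.ofMul y), hz y⟩)
  have hf : ∀ i j : ℤ, f ((i : ZMod n), (j : ZMod n)) = Additive.ofMul (x ^ i * y ^ j) := by
    intro i j
    rw [AddMonoidHom.coprod_apply, ZMod.lift_coe, ZMod.lift_coe, zmultiplesHom_apply, zmultiplesHom_apply, ofMul_mul,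
      ofMul_zpow, ofMul_zpow]
  have hinj : Function.Injective f := by
    rw [injective_iff_map_eq_zero]
    rintro ⟨a, b⟩ hab
    obtain ⟨i, rfl⟩ := ZMod.intCast_surjective a
    obtain ⟨j, rfl⟩ := ZMod.intCast_surjective b
    rw [hf] at hab
    obtain ⟨h1, h2⟩ := hind i j (ofMul_eq_zero.1 hab)
    rw [Prod.mk_eq_zero, ZMod.intCast_zmod_eq_zero_iff_dvd, ZMod.intCast_zmod_eq_zero_iff_dvd]
    exact ⟨h1, h2⟩
  have hsurj : Function.Surjective f := by
    let K : Subgroup G := AddSubgroup.toSubgroup' f.range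
    have hK : K = ⊤ := by
      rw [eq_top_iff, ← hgen, Subgroup.closure_le]
      rintro g (rfl | rfl)
      · refine ⟨((1 : ℤ), (0 : ℤ)), ?_⟩
        rw [hf]; simp; rfl
      · refine ⟨((0 : ℤ), (1 : ℤ)), ?_⟩
        rw [hf]; simp; rfl
    intro g
    have : (Additive.toMul g) ∈ K := by rw [hK]; trivial
    exact this
  exact ⟨(AddEquiv.toMultiplicativeLeft (AddEquiv.ofBijective f ⟨hinj, hsurj⟩)).symm⟩

/-- abelian rank two -/
theorem ab_rank2 (hG : IsPGroup p G) (hN : NoCh p G) (hc : ∀ x y : G, x * y = y * x)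
    (hidx : (frattini G).index ≤ p ^ 2) : ∃ a, (∀ x : G, x ^ (p ^ (a + 1)) = 1) ∧ (∀ x : G, x ^ (p ^ a) = 1 → x ∈ frattini G) ∧
      Nonempty (G ≃* Multiplicative (ZMod (p ^ (a + 1)) × ZMod (p ^ (a + 1)))) := by
  have hex : ∃ m, ∀ x : G, x ^ (p ^ m) = 1 := by
    obtain ⟨m, hm⟩ := IsPGroup.iff_card.1 hG
    exact ⟨m, fun x => by rw [← hm]; exact pow_card_eq_one'⟩
  classical
  have hmin := Nat.find_spec hex
  have hmin' := fun k (hk : k < Nat.find hex) => Nat.find_min hex hk
  set m := Nat.find hex with hm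
  have hm0 : m ≠ 0 := by
    intro h0
    rw [h0] at hmin
    apply nc0 hN
    rw [eq_top_iff]
    intro x _
    have := hmin x
    rw [pow_zero, pow_one] at this
    rw [this]; exact Subgroup.one_mem _
  obtain ⟨a, ha⟩ := Nat.exists_eq_succ_of_ne_zero hm0
  rw [ha] at hmin
  let M : Subgroup G :=
    { carrier := {x | x ^ (p ^ a) = 1}
      one_mem' := one_pow _
      mul_mem' := by
        intro x y hx hy
        show (x * y) ^ (p ^ a) = 1
        rw [Commute.mul_pow (hc x y), show x ^ (p ^ a) = 1 from hx, show y ^ (p ^ a) = 1 from hy, one_mul]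
      inv_mem' := by
        intro x hx
        show x⁻¹ ^ (p ^ a) = 1
        rw [inv_pow, show x ^ (p ^ a) = 1 from hx, inv_one] }
  have hMc : M.Characteristic := char_of fun φ x hx => by
    show (φ x) ^ (p ^ a) = 1
    rw [← map_pow, show x ^ (p ^ a) = 1 from hx, map_one]
  have hMΦ : frattini G ≤ M := by
    intro x hx
    obtain ⟨y, rfl⟩ := frattini_abelian hG hc hx
    show (y ^ p) ^ (p ^ a) = 1
    rw [← pow_mul, ← pow_succ']
    exact hmin y
  have hMt : M ≠ ⊤ := by
    intro h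
    refine hmin' a (by omega) fun x => ?_
    have : x ∈ M := by rw [h]; trivial
    exact this
  have hM := mid_eq hG hN hidx hMc hMΦ hMt
  have hMx : ∀ x : G, x ^ (p ^ a) = 1 → x ∈ frattini G := fun x hx => by rw [← hM]; exact hx
  refine ⟨a, hmin, hMx, ?_⟩
  obtain ⟨x, hx⟩ : ∃ x, x ∉ frattini G := by
    by_contra hcon
    push Not at hcon
    exact nc0 hN (eq_top_iff.2 fun x _ => hcon x)
  have hle : ∀ g : G, Subgroup.zpowers g ⊔ frattini G ≠ ⊤ := by
    intro g h
    refine nc1 hN ?_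
    have hz : Subgroup.zpowers g = ⊤ := frattini_nongenerating h
    have : ∀ w : G, ∃ i : ℕ, i < p ∧ (g ^ i)⁻¹ * w ∈ frattini G := by
      intro w
      have hw : w ∈ Subgroup.zpowers g := by rw [hz]; trivial
      obtain ⟨k, rfl⟩ := Subgroup.mem_zpowers_iff.1 hw
      refine ⟨(k % (p : ℤ)).toNat, ?_, ?_⟩
      · have h1 := Int.emod_lt_of_pos k (b := (p : ℤ)) (by exact_mod_cast hp.out.pos)
        have h2 := Int.emod_nonneg k (b := (p : ℤ)) (by exact_mod_cast hp.out.ne_zero)
        omega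
      · have h2 := Int.emod_nonneg k (b := (p : ℤ)) (by exact_mod_cast hp.out.ne_zero)
        rw [← zpow_natCast, Int.toNat_of_nonneg h2, ← zpow_neg, ← zpow_add]
        have e : -(k % (p : ℤ)) + k = (p : ℤ) * (k / p) := by
          have := Int.emod_add_mul_ediv k (p : ℤ); linarith
        rw [e, zpow_mul, zpow_natCast]
        exact Subgroup.zpow_mem _ (Cfsg.Agent.H2.PGroup.pow_mem_frattini hG g) _
    rw [Subgroup.index]
    calc Nat.card (G ⧸ frattini G) ≤ Nat.card (Fin p) := by
          refine Nat.card_le_card_of_surjective (fun i : Fin p => (QuotientGroup.mk (g ^ (i : ℕ)) : G ⧸ frattini G)) ?_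
          intro q
          induction q using QuotientGroup.induction_on with
          | H w =>
            obtain ⟨i, hi, hiw⟩ := this w
            exact ⟨⟨i, hi⟩, QuotientGroup.eq.2 hiw⟩
      _ = p := by simp
  obtain ⟨y, hy⟩ : ∃ y, y ∉ Subgroup.zpowers x ⊔ frattini G := by
    by_contra hcon
    push Not at hcon
    exact hle x (eq_top_iff.2 fun x _ => hcon x)
  have hgen := Cfsg.Agent.H2.MetaAct.gen_of hG hidx hx hy
  -- independence modulo the Frattini subgroup
  have hind1 : ∀ i j : ℤ, x ^ i * y ^ j ∈ frattini G → (p : ℤ) ∣ i ∧ (p : ℤ) ∣ j := by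
    intro i j hij
    have hj : (p : ℤ) ∣ j := by
      by_contra hj
      apply hy
      have hcop : IsCoprime j (p : ℤ) := by
        rw [isCoprime_comm]
        exact (Nat.prime_iff_prime_int.mp hp.out).coprime_iff_not_dvd.mpr hj
      obtain ⟨u, v, huv⟩ := hcop
      have h1 : y ^ j ∈ Subgroup.zpowers x ⊔ frattini G := by
        have e : y ^ j = (x ^ i)⁻¹ * (x ^ i * y ^ j) := by group
        rw [e]
        exact Subgroup.mul_mem _ (Subgroup.inv_mem _ (Subgroup.mem_sup_left (Subgroup.zpow_mem _ (Subgroup.mem_zpowers x) i)))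
          (Subgroup.mem_sup_right hij)
      have h2 : y = (y ^ j) ^ u * ((y ^ p) ^ v) := by
        rw [← zpow_natCast, ← zpow_mul, ← zpow_mul, ← zpow_add, show j * u + (p : ℤ) * v = 1 by linarith, zpow_one]
      rw [h2]
      exact Subgroup.mul_mem _ (Subgroup.zpow_mem _ h1 _)
        (Subgroup.zpow_mem _ (Subgroup.mem_sup_right (Cfsg.Agent.H2.PGroup.pow_mem_frattini hG y)) _)
    refine ⟨?_, hj⟩
    by_contra hi
    apply hx
    have hcop : IsCoprime i (p : ℤ) := by
      rw [isCoprime_comm]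
      exact (Nat.prime_iff_prime_int.mp hp.out).coprime_iff_not_dvd.mpr hi
    obtain ⟨u, v, huv⟩ := hcop
    obtain ⟨j', rfl⟩ := hj
    have hyj : y ^ ((p : ℤ) * j') ∈ frattini G := by
      rw [zpow_mul, zpow_natCast]
      exact Subgroup.zpow_mem _ (Cfsg.Agent.H2.PGroup.pow_mem_frattini hG y) _
    have h1 : x ^ i ∈ frattini G := by
      have e : x ^ i = (x ^ i * y ^ ((p : ℤ) * j')) * (y ^ ((p : ℤ) * j'))⁻¹ := by group
      rw [e]
      exact Subgroup.mul_mem _ hij (Subgroup.inv_mem _ hyj)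
    have h2 : x = (x ^ i) ^ u * ((x ^ p) ^ v) := by
      rw [← zpow_natCast, ← zpow_mul, ← zpow_mul, ← zpow_add, show i * u + (p : ℤ) * v = 1 by linarith, zpow_one]
    rw [h2]
    exact Subgroup.mul_mem _ (Subgroup.zpow_mem _ h1 _)
        (Subgroup.zpow_mem _ (Cfsg.Agent.H2.PGroup.pow_mem_frattini hG x) _)
  refine homocyclic_of hc hmin hgen ?_
  intro i j hij
  have key : ∀ b ≤ a + 1, ((p ^ b : ℕ) : ℤ) ∣ i ∧ ((p ^ b : ℕ) : ℤ) ∣ j := by
    intro b
    induction b with
    | zero => intro _; simp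
    | succ b ih =>
      intro hb
      obtain ⟨⟨i', hi'⟩, ⟨j', hj'⟩⟩ := ih (by omega)
      have h1 : (x ^ i' * y ^ j') ^ (p ^ b) = 1 := by
        rw [Commute.mul_pow (hc _ _), ← zpow_natCast, ← zpow_natCast, ← zpow_mul, ← zpow_mul, mul_comm i', mul_comm j',
          ← hi', ← hj', hij]
      have h2 : (x ^ i' * y ^ j') ^ (p ^ a) = 1 := by
        have e : p ^ a = p ^ b * p ^ (a - b) := by rw [← pow_add]; congr 1; omega
        rw [e, pow_mul, h1, one_pow]
      obtain ⟨⟨u, hu⟩, ⟨v, hv⟩⟩ := hind1 _ _ (hMx _ h2)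
      refine ⟨⟨u, ?_⟩, ⟨v, ?_⟩⟩
      · rw [hi', hu]; push_cast; ring
      · rw [hj', hv]; push_cast; ring
  exact key (a + 1) le_rfl

end basic

end Cfsg.Agent.H1.Sm
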