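import Mathlib
import Cfsg.Agent.H1_SmB
import Cfsg.Agent.H2_Plane

set_option autoImplicit false
set_option linter.all false

/-! SL(2,p) from automorphisms; invariant lines. -/

namespace Cfsg.Agent.H1.Sm

open Cfsg Cfsg.FusionSystem Cfsg.Agent.H27.Fus Cfsg.Agent.H27.Grp Cfsg.Agent.H1.FusA
open scoped commutatorElement

section plane

variable {H : Type*} [Group H] [Finite H] {p : ℕ} [hp : Fact p.Prime]

theorem top_of_two (hcard : Nat.card H = p ^ 2) {x y : H} (hx : x ≠ 1) (hy : y ∉ Subgroup.zpowers x) {K : Subgroup H}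
    (hxK : x ∈ K) (hyK : y ∈ K) : K = ⊤ := by
  have hz : Subgroup.zpowers x ≤ K := Subgroup.zpowers_le.2 hxK
  have hlt : Subgroup.zpowers x < K := lt_of_le_of_ne hz fun h => hy (h ▸ hyK)
  have hd1 : Nat.card (Subgroup.zpowers x) ∣ Nat.card K := Subgroup.card_dvd_of_le hz
  have hd2 : Nat.card K ∣ p ^ 2 := hcard ▸ Subgroup.card_subgroup_dvd_card K
  obtain ⟨k, hk2, hk⟩ := (Nat.dvd_prime_pow hp.out).1 hd2
  obtain ⟨j, hj2, hj⟩ := (Nat.dvd_prime_pow hp.out).1 (hk ▸ hd1)
  have hj0 : j ≠ 0 := by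
    rintro rfl
    rw [pow_zero] at hj
    exact hx (Subgroup.zpowers_eq_bot.1 (Subgroup.card_eq_one.1 hj))
  have hjk : j ≠ k := by
    rintro rfl
    exact hlt.ne (Subgroup.eq_of_le_of_card_ge hz (by rw [hj, hk]))
  have : k = 2 := by omega
  rw [this] at hk
  exact Subgroup.eq_top_of_card_eq K (by rw [hk, hcard])

theorem transvection_pow (hcard : Nat.card H = p ^ 2) (hexp : ∀ x : H, x ^ p = 1) (hc : ∀ x y : H, x * y = y * x)
    {x y : H} (hx : x ≠ 1) (hy : y ∉ Subgroup.zpowers x) {α : MulAut H} (h1 : α x = x)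
    (h2 : α y * y⁻¹ ∈ Subgroup.zpowers x) : α ^ p = 1 := by
  obtain ⟨k, hk⟩ := h2
  have hk' : α y = x ^ k * y := by rw [show x ^ k = α y * y⁻¹ from hk]; group
  have hz : ∀ j : ℤ, α (x ^ j) = x ^ j := fun j => by rw [map_zpow, h1]
  have hpow : ∀ n : ℕ, (α ^ n) x = x ∧ (α ^ n) y = x ^ (k * n) * y := by
    intro n
    induction n with
    | zero => simp
    | succ n ih =>
      refine ⟨?_, ?_⟩
      · rw [pow_succ', MulAut.mul_apply, ih.1, h1]
      · rw [pow_succ', MulAut.mul_apply, ih.2, map_mul, hz, hk', ← mul_assoc, ← zpow_add]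
        congr 2; push_cast; ring
  let K : Subgroup H :=
    { carrier := {x | (α ^ p) x = x}
      one_mem' := map_one _
      mul_mem' := by
        intro a b ha hb
        show (α ^ p) (a * b) = a * b
        rw [map_mul, show (α ^ p) a = a from ha, show (α ^ p) b = b from hb]
      inv_mem' := by
        intro a ha
        show (α ^ p) a⁻¹ = a⁻¹
        rw [map_inv, show (α ^ p) a = a from ha] }
  have hK : K = ⊤ := by
    refine top_of_two hcard hx hy (K := K) (hpow p).1 ?_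
    show (α ^ p) y = y
    rw [(hpow p).2, mul_comm, zpow_mul, zpow_natCast, hexp, one_zpow, one_mul]
  ext w
  have : w ∈ K := by rw [hK]; trivial
  exact this

/-- the group of transvections fixing `x` and `y` modulo `⟨x⟩` -/
def stabTr (x y : H) : Subgroup (MulAut H) where
  carrier := {γ | γ x = x ∧ γ y * y⁻¹ ∈ Subgroup.zpowers x}
  one_mem' := by simp [Subgroup.one_mem]
  mul_mem' := by
    rintro a b ⟨ha, ha'⟩ ⟨hb, hb'⟩
    refine ⟨by show a (b x) = x; rw [hb, ha], ?_⟩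
    show a (b y) * y⁻¹ ∈ _
    obtain ⟨k, hk⟩ := hb'
    have e : b y = x ^ k * y := by rw [show x ^ k = b y * y⁻¹ from hk]; group
    rw [e, map_mul, map_zpow, ha, mul_assoc]
    exact Subgroup.mul_mem _ (Subgroup.zpow_mem _ (Subgroup.mem_zpowers x) k) ha'
  inv_mem' := by
    rintro a ⟨ha, ha'⟩
    have h1 : a⁻¹ x = x := by
      conv_lhs => rw [← ha]
      exact MulAut.inv_apply_self H a x
    refine ⟨h1, ?_⟩
    obtain ⟨k, hk⟩ := ha'
    have e : a y = x ^ k * y := by rw [show x ^ k = a y * y⁻¹ from hk]; group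
    have e2 : y = x ^ k * a⁻¹ y := by
      have := congrArg (a⁻¹ ·) e
      simp only [MulAut.inv_apply_self, map_mul, map_zpow, h1] at this
      exact this
    refine ⟨-k, ?_⟩
    show x ^ (-k) = a⁻¹ y * y⁻¹
    have e3 : a⁻¹ y = x ^ (-k) * (x ^ k * a⁻¹ y) := by group
    rw [← e2] at e3
    rw [e3]; group

theorem sl2_aut (hcard : Nat.card H = p ^ 2) (hexp : ∀ x : H, x ^ p = 1) (hc : ∀ x y : H, x * y = y * x)
    {x y : H} (hx : x ≠ 1) (hy : y ∉ Subgroup.zpowers x) {α β : MulAut H} (hα1 : α ≠ 1) (hβ1 : β ≠ 1)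
    (hαx : α x = x) (hαy : α y * y⁻¹ ∈ Subgroup.zpowers x) (hβy : β y = y) (hβx : β x * x⁻¹ ∈ Subgroup.zpowers y) :
    Nonempty (↥(Subgroup.zpowers α ⊔ Subgroup.zpowers β) ≃* Matrix.SpecialLinearGroup (Fin 2) (ZMod p)) := by
  have hy1 : y ≠ 1 := fun h => hy (h ▸ Subgroup.one_mem _)
  have hxy : x ∉ Subgroup.zpowers y := by
    intro hxy
    have h1 : Subgroup.zpowers x ≤ Subgroup.zpowers y := Subgroup.zpowers_le.2 hxy
    have hox : orderOf x = p := orderOf_eq_prime (hexp x) hx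
    have hoy : orderOf y = p := orderOf_eq_prime (hexp y) hy1
    have h2 : Subgroup.zpowers x = Subgroup.zpowers y :=
      Subgroup.eq_of_le_of_card_ge h1 (by rw [Nat.card_zpowers, Nat.card_zpowers, hox, hoy])
    exact hy (h2 ▸ Subgroup.mem_zpowers y)
  have hαp : α ^ p = 1 := transvection_pow hcard hexp hc hx hy hαx hαy
  have hβp : β ^ p = 1 := transvection_pow hcard hexp hc hy1 hxy hβy hβx
  have hoα : orderOf α = p := orderOf_eq_prime hαp hα1
  have hoβ : orderOf β = p := orderOf_eq_prime hβp hβ1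
  let φ : MulAut H →* MulAut H := MonoidHom.id _
  haveI : Finite (H ⋊[φ] MulAut H) := Finite.of_equiv _ (SemidirectProduct.equivProd).symm
  set il : H →* H ⋊[φ] MulAut H := SemidirectProduct.inl with hil
  set ir : MulAut H →* H ⋊[φ] MulAut H := SemidirectProduct.inr with hir
  have hconj : ∀ (γ : MulAut H) (h : H), ir γ * il h * (ir γ)⁻¹ = il (γ h) := by
    intro γ h
    have h1 := SemidirectProduct.inl_aut (φ := φ) γ h
    rw [map_inv] at h1
    exact h1.symm
  have hilinj : Function.Injective il := SemidirectProduct.inl_injective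
  have hirinj : Function.Injective ir := SemidirectProduct.inr_injective
  set E := Subgroup.zpowers α ⊔ Subgroup.zpowers β with hEdef
  have hrange : ∀ w, w ∈ il.range ↔ ∃ h, il h = w := fun w => MonoidHom.mem_range
  obtain ⟨e, -⟩ := Cfsg.Agent.H2.Plane.sl2_of_transvections (p := p) (W := il.range) (E := E.map ir)
    (A := (Subgroup.zpowers α).map ir) (B := (Subgroup.zpowers β).map ir) (e₁ := il x) (e₂ := il y)
    (by
      have key : ∀ g ∈ E.map ir, ∀ w ∈ il.range, g * w * g⁻¹ ∈ il.range := by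
        rintro _ ⟨γ, -, rfl⟩ _ ⟨h, rfl⟩
        exact ⟨γ h, (hconj γ h).symm⟩
      exact le_normalizer_of key)
    (by
      refine ⟨⟨⟨?_⟩⟩, ?_⟩
      · rintro ⟨_, a, rfl⟩ ⟨_, b, rfl⟩
        apply Subtype.ext
        show il a * il b = il b * il a
        rw [← map_mul, ← map_mul, hc]
      · rintro _ ⟨a, rfl⟩
        rw [← map_pow, hexp, map_one])
    (by rw [← hcard]; exact (Nat.card_congr (MonoidHom.ofInjective hilinj).toEquiv).symm)
    (by
      rw [eq_bot_iff]
      rintro _ ⟨⟨γ, -, rfl⟩, hγ⟩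
      have hγ := Subgroup.mem_centralizer_iff.1 hγ
      have : γ = 1 := by
        ext h
        have h1 := hγ (il h) ⟨h, rfl⟩
        apply hilinj
        rw [← hconj, ← h1]; group; rfl
      rw [this, map_one]; exact Subgroup.one_mem _)
    (Subgroup.map_mono le_sup_left) (Subgroup.map_mono le_sup_right) (by rw [hEdef, Subgroup.map_sup])
    (by rw [Subgroup.card_map_of_injective hirinj, Nat.card_zpowers, hoα])
    (by rw [Subgroup.card_map_of_injective hirinj, Nat.card_zpowers, hoβ])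
    ⟨x, rfl⟩ ⟨y, rfl⟩ (fun h => hx (hilinj (by rw [h, map_one])))
    (by
      rintro ⟨k, hk⟩
      apply hy
      refine ⟨k, hilinj ?_⟩
      rw [← hk]; exact map_zpow il x k)
    (by
      have hst : Subgroup.zpowers α ≤ stabTr x y := Subgroup.zpowers_le.2 ⟨hαx, hαy⟩
      rintro _ ⟨γ, hγ, rfl⟩
      rw [hconj, (hst hγ).1])
    (by
      have hst : Subgroup.zpowers α ≤ stabTr x y := Subgroup.zpowers_le.2 ⟨hαx, hαy⟩
      rintro _ ⟨γ, hγ, rfl⟩
      obtain ⟨k, hk⟩ := (hst hγ).2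
      rw [hconj]
      exact ⟨k, by show il x ^ k = _; rw [← map_zpow, show x ^ k = γ y * y⁻¹ from hk, map_mul, map_inv]⟩)
    (by
      have hst : Subgroup.zpowers β ≤ stabTr y x := Subgroup.zpowers_le.2 ⟨hβy, hβx⟩
      rintro _ ⟨γ, hγ, rfl⟩
      rw [hconj, (hst hγ).1])
    (by
      have hst : Subgroup.zpowers β ≤ stabTr y x := Subgroup.zpowers_le.2 ⟨hβy, hβx⟩
      rintro _ ⟨γ, hγ, rfl⟩
      obtain ⟨k, hk⟩ := (hst hγ).2
      rw [hconj]
      exact ⟨k, by show il y ^ k = _; rw [← map_zpow, show y ^ k = γ x * x⁻¹ from hk, map_mul, map_inv]⟩)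
  exact ⟨(Subgroup.equivMapOfInjective E ir hirinj).trans e⟩

end plane

section line

variable {Ω : Type*} [Group Ω] {p : ℕ} [hp : Fact p.Prime]

/-- a `p`-group acting on `H` with `|H : Φ(H)| = p²` fixes a line -/
theorem exists_line {N H : Subgroup Ω} [Finite N] (hN : IsPGroup p N) (hHN : H ≤ N)
    (hNH : ∀ s ∈ N, ∀ x ∈ H, s * x * s⁻¹ ∈ H) (h0 : frattini H ≠ ⊤) (hidx : (frattini H).index ≤ p ^ 2) :
    ∃ z : H, z ∉ frattini H ∧ (∀ s ∈ N, (z : Ω)⁻¹ * (s * z * s⁻¹) ∈ (frattini H).map H.subtype) ∧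
      ∀ s ∈ N, ∀ x ∈ H, x⁻¹ * (s * x * s⁻¹) ∈ Subgroup.zpowers (z : Ω) ⊔ (frattini H).map H.subtype := by
  haveI : Finite H := finite_of_le hHN
  have hNn : ∀ s ∈ N, s ∈ Subgroup.normalizer (H : Set Ω) := le_normalizer_of hNH
  set Φ := (frattini H).map H.subtype with hΦ
  have hΦH : Φ ≤ H := Subgroup.map_subtype_le _
  have hΦN : ∀ s ∈ N, ∀ c ∈ Φ, s * c * s⁻¹ ∈ Φ := by
    rintro s hs _ ⟨y, hy, rfl⟩
    exact ⟨cjA H s (hNn s hs) y, char_apply frattini_characteristic _ hy, rfl⟩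
  haveI hCn : (Φ.subgroupOf N).Normal := ⟨fun c hc s => hΦN s s.2 c hc⟩
  set π := QuotientGroup.mk' (Φ.subgroupOf N) with hπ
  have hπk : ∀ x : N, π x = 1 ↔ (x : Ω) ∈ Φ := fun x => by
    rw [hπ, QuotientGroup.mk'_apply, QuotientGroup.eq_one_iff]; rfl
  haveI hC'n : ((H.subgroupOf N).map π).Normal := by
    have : (H.subgroupOf N).Normal := ⟨fun c hc s => hNH s s.2 c hc⟩
    exact this.map π (QuotientGroup.mk'_surjective _)
  have hne' : (H.subgroupOf N).map π ≠ ⊥ := by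
    intro hb
    apply h0
    rw [eq_top_iff]
    intro y _
    have h1 : π ⟨y, hHN y.2⟩ ∈ (H.subgroupOf N).map π := ⟨⟨y, hHN y.2⟩, y.2, rfl⟩
    rw [hb, Subgroup.mem_bot, hπk] at h1
    obtain ⟨y', hy', e⟩ := h1
    rwa [← H.subtype_injective e]
  have hQp : IsPGroup p (N ⧸ Φ.subgroupOf N) := hN.to_quotient _
  haveI : Group.IsNilpotent (N ⧸ Φ.subgroupOf N) := hQp.isNilpotent
  have hmeet := Cfsg.Agent.H1.Nilp.normal_inf_center_ne_bot _ hne'
  obtain ⟨⟨w, ⟨⟨z0, hz0H, hz0⟩, hwc⟩⟩, hw1⟩ := (Subgroup.ne_bot_iff_exists_ne_one).1 hmeet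
  obtain ⟨z0, hz0N⟩ := z0
  have hz0H' : z0 ∈ H := hz0H
  refine ⟨⟨z0, hz0H'⟩, ?_, ?_, ?_⟩
  · intro hf
    apply hw1
    apply Subtype.ext
    show w = 1
    rw [← hz0, hπk]
    exact ⟨_, hf, rfl⟩
  · intro s hs
    have h2 := (Subgroup.mem_center_iff.1 hwc) (π ⟨s, hs⟩)
    rw [← hz0] at h2
    have h3 : π (⟨z0, hz0N⟩⁻¹ * (⟨s, hs⟩ * ⟨z0, hz0N⟩ * ⟨s, hs⟩⁻¹)) = 1 := by
      rw [map_mul, map_mul, map_mul, map_inv, map_inv, h2]; group
    rw [hπk] at h3
    exact h3
  · have hzN : ∀ s ∈ N, z0⁻¹ * (s * z0 * s⁻¹) ∈ Φ := by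
      intro s hs
      have h2 := (Subgroup.mem_center_iff.1 hwc) (π ⟨s, hs⟩)
      rw [← hz0] at h2
      have h3 : π (⟨z0, hz0N⟩⁻¹ * (⟨s, hs⟩ * ⟨z0, hz0N⟩ * ⟨s, hs⟩⁻¹)) = 1 := by
        rw [map_mul, map_mul, map_mul, map_inv, map_inv, h2]; group
      rw [hπk] at h3
      exact h3
    have hnf : z0 ∉ Φ := by
      intro hf
      apply hw1
      apply Subtype.ext
      show w = 1
      rw [← hz0, hπk]
      exact hf
    set L := Subgroup.zpowers z0 ⊔ Φ with hL
    have hLH : L ≤ H := sup_le (Subgroup.zpowers_le.2 hz0H') hΦH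
    have hLN : ∀ s ∈ N, ∀ c ∈ L, s * c * s⁻¹ ∈ L := by
      intro s hs
      have : L ≤ L.comap (MulAut.conj s).toMonoidHom := by
        rw [hL]
        refine sup_le (Subgroup.zpowers_le.2 ?_) ?_
        · show s * z0 * s⁻¹ ∈ L
          have e : s * z0 * s⁻¹ = z0 * (z0⁻¹ * (s * z0 * s⁻¹)) := by group
          rw [e]
          exact Subgroup.mul_mem _ (Subgroup.mem_sup_left (Subgroup.mem_zpowers z0)) (Subgroup.mem_sup_right (hzN s hs))
        · intro c hc
          exact Subgroup.mem_sup_right (hΦN s hs c hc)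
      exact this
    refine central_step hN hLH hHN hLN hNH ?_
    -- relIndex
    have h1 : Φ.relIndex H = (frattini H).index := by
      rw [hΦ, Subgroup.relIndex, Subgroup.subgroupOf, Subgroup.comap_map_eq_self_of_injective H.subtype_injective]
    have hHp : IsPGroup p H := hN.to_le hHN
    obtain ⟨k, hk⟩ := Cfsg.Agent.H2.Hup.index_pow hHp (frattini H)
    have hΦL : Φ ≤ L := le_sup_right
    have hmul := Subgroup.relIndex_mul_relIndex Φ L H hΦL hLH
    rw [h1, hk] at hmul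
    obtain ⟨i, -, hi⟩ := (Nat.dvd_prime_pow hp.out).1 (Dvd.intro _ hmul)
    obtain ⟨j, -, hj⟩ := (Nat.dvd_prime_pow hp.out).1 (Dvd.intro_left _ hmul)
    have hi0 : i ≠ 0 := by
      rintro rfl
      rw [pow_zero] at hi
      exact hnf ((Subgroup.relIndex_eq_one.1 hi) (Subgroup.mem_sup_left (Subgroup.mem_zpowers z0)))
    rw [hi, hj, ← pow_add] at hmul
    have h5 := Nat.pow_right_injective hp.out.two_le hmul
    have h6 : k ≤ 2 := by
      rw [hk] at hidx
      exact (Nat.pow_le_pow_iff_right hp.out.one_lt).1 hidx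
    have h7 : i + j = k := h5
    rw [hj]
    calc p ^ j ≤ p ^ 1 := Nat.pow_le_pow_right hp.out.pos (by omega)
      _ = p := pow_one p

end line

section s5185

variable {Ω : Type*} [Group Ω] {S H : Subgroup Ω} [Finite S] {F : FusionSystem S} {p : ℕ} [hp : Fact p.Prime]

theorem elem_of_bot {G : Type*} [Group G] [Finite G] (hG : IsPGroup p G) (h : frattini G = ⊥) :
    (∀ x y : G, x * y = y * x) ∧ ∀ x : G, x ^ p = 1 := by
  refine ⟨fun x y => ?_, fun x => ?_⟩
  · rw [← commutatorElement_eq_one_iff_mul_comm, ← Subgroup.mem_bot, ← h]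
    refine Cfsg.Agent.H2.PGroup.commutator_le_frattini hG ?_
    rw [commutator_def]
    exact Subgroup.commutator_mem_commutator trivial trivial
  · rw [← Subgroup.mem_bot, ← h]
    exact Cfsg.Agent.H2.PGroup.pow_mem_frattini hG x

theorem line_of_essential (hS : IsPGroup p S) (hF : F.IsSaturated p) (hH : F.IsEssential p H)
    (hidx : (frattini H).index ≤ p ^ 2) :
    ∃ z : H, z ∉ frattini H ∧
      (∀ s ∈ S, ∀ hN : s ∈ Subgroup.normalizer (H : Set Ω), z⁻¹ * cjA H s hN z ∈ frattini H) ∧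
      ∀ s ∈ S, ∀ hN : s ∈ Subgroup.normalizer (H : Set Ω), ∀ x, x⁻¹ * cjA H s hN x ∈ Subgroup.zpowers z ⊔ frattini H := by
  have hHS : H ≤ S := hH.1.1
  haveI : Finite H := finite_of_le hHS
  haveI : Finite ↥(normalizerIn S H) := finite_of_le inf_le_left
  have hlift : ∀ (K : Subgroup H) (w : H), (w : Ω) ∈ K.map H.subtype → w ∈ K := by
    rintro K w ⟨w', hw', e⟩
    rwa [← H.subtype_injective e]
  obtain ⟨z, h1, h2, h3⟩ := exists_line (N := normalizerIn S H) (H := H) (hS.to_le inf_le_left)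
    (le_inf hHS Subgroup.le_normalizer) (by
      rintro s ⟨-, hs⟩ x hx
      exact (Subgroup.mem_normalizer_iff.1 hs x).1 hx) (nc0 (noCh hS hF hH)) hidx
  refine ⟨z, h1, ?_, ?_⟩
  · intro s hs hN
    exact hlift _ _ (h2 s ⟨hs, hN⟩)
  · intro s hs hN x
    apply hlift
    rw [Subgroup.map_sup, MonoidHom.map_zpowers]
    exact h3 s ⟨hs, hN⟩ x x.2

theorem s5185 (hS : IsPGroup p S) (hF : F.IsSaturated p) (hH : F.IsEssential p H) (hcard : Nat.card H = p ^ 2) :
    Cfsg.IsElementaryAbelian p H ∧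
      ∃ K : Subgroup ↥(F.autGroup H), Nonempty (↥K ≃* Matrix.SpecialLinearGroup (Fin 2) (ZMod p)) := by
  have hHS : H ≤ S := hH.1.1
  haveI : Finite H := finite_of_le hHS
  have hHp : IsPGroup p H := hS.to_le hHS
  have hnc := noCh hS hF hH
  have hΦ : frattini H = ⊥ := by
    have h1 := index_ge hHp hnc
    have h2 := (frattini H).card_mul_index
    rw [hcard] at h2
    have h3 : Nat.card (frattini H) ≤ 1 := by
      by_contra hcon
      push Not at hcon
      have h4 := Nat.mul_le_mul hcon.le h1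
      have h5 : 0 < p ^ 2 := pow_pos hp.out.pos 2
      nlinarith
    exact Subgroup.card_eq_one.1 (le_antisymm h3 Nat.card_pos)
  obtain ⟨hc, hexp⟩ := elem_of_bot hHp hΦ
  refine ⟨⟨⟨⟨hc⟩⟩, fun a ha => congrArg Subtype.val (hexp ⟨a, ha⟩)⟩, ?_⟩
  obtain ⟨z, hz1, hz2, hz3⟩ := line_of_essential hS hF hH (by
    have h2 := (frattini H).card_mul_index
    rw [hΦ, Subgroup.card_bot, one_mul] at h2
    rw [hΦ, h2, hcard])
  rw [hΦ] at hz1 hz2 hz3
  rw [Subgroup.mem_bot] at hz1
  have hz2' : ∀ s ∈ S, ∀ hN : s ∈ Subgroup.normalizer (H : Set Ω), cjA H s hN z = z := fun s hs hN => by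
    have := hz2 s hs hN
    rw [Subgroup.mem_bot, inv_mul_eq_one] at this
    exact this.symm
  rw [sup_bot_eq] at hz3
  have hoz : Nat.card (Subgroup.zpowers z) = p := by rw [Nat.card_zpowers]; exact orderOf_eq_prime (hexp z) hz1
  -- an automorphism moving the line
  obtain ⟨g, hg, hgz⟩ : ∃ g ∈ F.autGroup H, g z ∉ Subgroup.zpowers z := by
    by_contra hcon
    push Not at hcon
    refine no_chain hS hF hH (fun i => if i = 0 then ⊥ else if i = 1 then Subgroup.zpowers z else ⊤) 2 ?_ ?_ ?_ ?_ ?_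
    · intro i hi α hα x hx
      interval_cases i
      · simp only [if_pos rfl] at hx ⊢
        simp at hx ⊢
        exact hx
      · simp only [one_ne_zero, if_false, if_true] at hx ⊢
        obtain ⟨k, rfl⟩ := hx
        show α (z ^ k) ∈ _
        rw [map_zpow]
        exact Subgroup.zpow_mem _ (hcon α hα) k
      · simp
    · intro i hi
      interval_cases i <;> simp
    · simp
    · simp
    · intro i hi
      interval_cases i
      · simp [hoz]
      · have h2 := (Subgroup.zpowers z).card_mul_index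
        rw [hoz, hcard, pow_two] at h2
        have := Nat.eq_of_mul_eq_mul_left hp.out.pos h2
        simp [this]
  -- a nontrivial element of `Aut_S(H)`
  obtain ⟨s, hs, hN, hτ⟩ : ∃ s ∈ S, ∃ hN : s ∈ Subgroup.normalizer (H : Set Ω), cjA H s hN ≠ 1 := by
    by_contra hcon
    push Not at hcon
    exact no_stab hS hF hH (X := ⊥) bot_le (by
      intro a _
      rw [Subgroup.mem_normalizer_iff]
      intro b
      simp) IsPGroup.of_bot (fun s hs hN => by rw [Subgroup.mem_bot]; exact hcon s hs hN)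
  set τ := cjA H s hN with hτdef
  have hτA : τ ∈ F.autGroup H := autInducedBy_le_autGroup F hHS (cjA_mem hN hs)
  have hβ : ∀ x, (g * τ * g⁻¹) (g x) = g (τ x) := fun x => by
    show g (τ (g⁻¹ (g x))) = _
    rw [MulAut.inv_apply_self]
  obtain ⟨e⟩ := sl2_aut (p := p) hcard hexp hc (x := z) (y := g z) hz1 hgz (α := τ) (β := g * τ * g⁻¹) hτ
    (fun h => hτ (by
      have : τ = g⁻¹ * (g * τ * g⁻¹) * g := by group
      rw [this, h]; group))
    (hz2' s hs hN)
    (by
      have h1 := hz3 s hs hN (g z)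
      rw [hc] at h1
      exact h1)
    (by rw [hβ, hz2' s hs hN])
    (by
      have h1 := hz3 s hs hN (g⁻¹ z)
      obtain ⟨k, hk⟩ := h1
      have e1 : τ (g⁻¹ z) = g⁻¹ z * z ^ k := by rw [show z ^ k = (g⁻¹ z)⁻¹ * τ (g⁻¹ z) from hk]; group
      refine ⟨k, ?_⟩
      have e2 : (g * τ * g⁻¹) z = g (τ (g⁻¹ z)) := rfl
      show (g z) ^ k = _
      rw [e2, e1, map_mul, MulAut.apply_inv_self, map_zpow, hc z]; group)
  have hle : Subgroup.zpowers τ ⊔ Subgroup.zpowers (g * τ * g⁻¹) ≤ F.autGroup H :=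
    sup_le (Subgroup.zpowers_le.2 hτA) (Subgroup.zpowers_le.2 (Subgroup.mul_mem _ (Subgroup.mul_mem _ hg hτA) (Subgroup.inv_mem _ hg)))
  exact ⟨_, ⟨(Subgroup.subgroupOfEquivOfLe hle).trans e⟩⟩

end s5185

end Cfsg.Agent.H1.Sm
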