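import Mathlib
import Cfsg.Agent.H1_SmC

set_option autoImplicit false
set_option linter.all false

/-! homocyclic essential subgroups -/

namespace Cfsg.Agent.H1.Sm

open Cfsg Cfsg.FusionSystem Cfsg.Agent.H27.Fus Cfsg.Agent.H27.Grp Cfsg.Agent.H1.FusA
open scoped commutatorElement

section five

theorem eap {A : Type*} [AddCommGroup A] (f g : AddMonoid.End A) (x : A) : (f * g) x = f (g x) := rfl

theorem add_five {A : Type*} [AddCommGroup A] {p : ℕ} (hp : p.Prime) (h5 : 5 ≤ p) {a : ℕ}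
    (hexp : ∀ x : A, (p ^ (a + 1)) • x = 0) (T : AddMonoid.End A) (hT : T ^ p = 1)
    (h2 : ∀ x, ∃ y, (T - 1) ((T - 1) x) = p • y) : ∀ x, p • (T - 1) x = 0 := by
  set N := T - 1 with hN
  have hTN : T = N + 1 := by rw [hN]; abel
  -- even powers
  have hpow : ∀ j : ℕ, ∀ x, ∃ y, (N ^ (2 * j)) x = (p ^ j) • y := by
    intro j
    induction j with
    | zero => intro x; exact ⟨x, by simp⟩
    | succ j ih =>
      intro x
      obtain ⟨y, hy⟩ := ih x
      obtain ⟨y', hy'⟩ := h2 y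
      refine ⟨y', ?_⟩
      have e : N ^ (2 * (j + 1)) = N * (N * N ^ (2 * j)) := by
        rw [show 2 * (j + 1) = (2 * j + 1) + 1 by ring, pow_succ', pow_succ']
      rw [e, eap, eap, hy, map_nsmul, map_nsmul, hy', smul_smul, pow_succ]
  have hnil : IsNilpotent N := by
    refine ⟨2 * (a + 1), ?_⟩
    ext x
    obtain ⟨y, hy⟩ := hpow (a + 1) x
    rw [hy, hexp]; rfl
  have hbin := Commute.add_pow_prime_eq hp (Commute.one_right N)
  rw [← hTN, hT, one_pow, mul_one] at hbin
  set u : AddMonoid.End A := ∑ k ∈ Finset.Ioo 0 p, N ^ (k - 1) * 1 ^ (p - k - 1) * ((p.choose k / p : ℕ) : AddMonoid.End A) with hu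
  obtain ⟨v, hv, huv⟩ : ∃ v, Commute N v ∧ u = 1 + N * v := by
    refine ⟨∑ k ∈ (Finset.Ioo 0 p).erase 1, N ^ (k - 2) * ((p.choose k / p : ℕ) : AddMonoid.End A), ?_, ?_⟩
    · exact Commute.sum_right _ _ _ fun k _ => (Commute.self_pow N _).mul_right (Nat.cast_commute _ _).symm
    · have h1 : 1 ∈ Finset.Ioo 0 p := by rw [Finset.mem_Ioo]; omega
      rw [hu, ← Finset.add_sum_erase _ _ h1, Finset.mul_sum]
      congr 1
      · simp [Nat.div_self hp.pos]
      · refine Finset.sum_congr rfl fun k hk => ?_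
        rw [Finset.mem_erase, Finset.mem_Ioo] at hk
        rw [one_pow, mul_one, ← mul_assoc]
        congr 1
        rw [show k - 1 = (k - 2) + 1 by omega, pow_succ']
  have hunit : IsUnit u := by
    rw [huv]
    exact IsNilpotent.isUnit_one_add (hv.isNilpotent_mul_right hnil)
  obtain ⟨w, hw⟩ := hunit.exists_right_inv
  have hkey : ∀ x, p • N x = - (N ^ p) (w x) := by
    intro x
    have h3 : N ^ p + (p : AddMonoid.End A) * N * u = 0 := by
      have : (1 : AddMonoid.End A) = N ^ p + 1 + (p : AddMonoid.End A) * N * u := hbin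
      have h4 : (1 : AddMonoid.End A) = 1 + (N ^ p + (p : AddMonoid.End A) * N * u) := by
        conv_lhs => rw [this]
        abel
      exact (left_eq_add.1 h4)
    have h4 : (p : AddMonoid.End A) * N = - (N ^ p * w) := by
      have h5 : (p : AddMonoid.End A) * N * u * w = - N ^ p * w := by
        rw [eq_neg_of_add_eq_zero_right h3]
      rw [mul_assoc _ u w, hw, mul_one] at h5
      rw [h5, neg_mul]
    have h5 := DFunLike.congr_fun h4 x
    rw [eap, AddMonoid.End.natCast_apply] at h5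
    rw [h5]; rfl
  have hNp : ∀ x, ∃ y, (N ^ p) x = (p ^ 2) • N y := by
    intro x
    obtain ⟨y, hy⟩ := hpow 2 ((N ^ (p - 5)) x)
    refine ⟨y, ?_⟩
    have e : N ^ p = N * (N ^ (2 * 2) * N ^ (p - 5)) := by
      rw [← pow_add, ← pow_succ']; congr 1; omega
    rw [e, eap, eap, hy, map_nsmul]
  have hstep : ∀ x, ∃ y, p • N x = (p ^ 2) • N y := by
    intro x
    obtain ⟨y, hy⟩ := hNp (w x)
    exact ⟨-y, by rw [hkey, hy, map_neg, smul_neg]⟩
  have hall : ∀ j : ℕ, ∀ x, ∃ y, p • N x = (p ^ (j + 1)) • N y := by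
    intro j
    induction j with
    | zero => intro x; exact ⟨x, by simp⟩
    | succ j ih =>
      intro x
      obtain ⟨y, hy⟩ := ih x
      obtain ⟨y', hy'⟩ := hstep y
      refine ⟨y', ?_⟩
      rw [hy, pow_succ, mul_smul, hy', smul_smul]
      congr 1; ring
  intro x
  obtain ⟨y, hy⟩ := hall a x
  rw [hy, hexp]

theorem no_five {G : Type*} [Group G] [Finite G] {p : ℕ} [hp : Fact p.Prime] (hc : ∀ x y : G, x * y = y * x)
    (h5 : 5 ≤ p) {a : ℕ} (ha : 1 ≤ a)
    (hexp : ∀ x : G, x ^ (p ^ (a + 1)) = 1) (hΩ : ∀ x : G, x ^ (p ^ a) = 1 → x ∈ frattini G) (hG : IsPGroup p G)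
    (τ : MulAut G) (hτ : τ ^ p = 1)
    (L : Subgroup G) (h1 : ∀ x, x⁻¹ * τ x ∈ L) (h2 : ∀ x ∈ L, x⁻¹ * τ x ∈ frattini G) (x : G) : x⁻¹ * τ x ∈ frattini G := by
  letI : CommGroup G := { (inferInstance : Group G) with mul_comm := hc }
  let T : AddMonoid.End (Additive G) := MonoidHom.toAdditive (τ : G ≃* G).toMonoidHom
  have hTa : ∀ x : G, T (Additive.ofMul x) = Additive.ofMul (τ x) := fun x => rfl
  have hTn : ∀ (n : ℕ) (x : G), (T ^ n) (Additive.ofMul x) = Additive.ofMul ((τ ^ n) x) := by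
    intro n
    induction n with
    | zero => intro x; rfl
    | succ n ih =>
      intro x
      rw [pow_succ', eap, ih, hTa, pow_succ', MulAut.mul_apply]
  have hN : ∀ x : G, (T - 1) (Additive.ofMul x) = Additive.ofMul (x⁻¹ * τ x) := by
    intro x
    show T (Additive.ofMul x) - Additive.ofMul x = _
    rw [hTa, ← ofMul_div, div_eq_inv_mul]
  have hmain := add_five (A := Additive G) hp.out h5 (a := a) (fun y => by
      show Additive.ofMul ((Additive.toMul y) ^ (p ^ (a + 1))) = 0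
      rw [hexp]; rfl) T (by
      ext y
      exact (hTn p (Additive.toMul y)).trans (by rw [hτ]; rfl)) (by
      intro y
      obtain ⟨w, hw⟩ := frattini_abelian hG hc (h2 _ (h1 (Additive.toMul y)))
      refine ⟨Additive.ofMul w, ?_⟩
      have e1 := hN (Additive.toMul y)
      have e2 := hN ((Additive.toMul y)⁻¹ * τ (Additive.toMul y))
      rw [← ofMul_pow, hw, ← e2, ← e1]; rfl)
  apply hΩ
  have h3 := hmain (Additive.ofMul x)
  rw [hN, ← ofMul_pow] at h3
  have h4 : (x⁻¹ * τ x) ^ p = 1 := ofMul_eq_zero.1 h3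
  obtain ⟨b, rfl⟩ : ∃ b, a = b + 1 := ⟨a - 1, by omega⟩
  rw [pow_succ', pow_mul, h4, one_pow]

end five

section s5187

variable {Ω : Type*} [Group Ω] {S H : Subgroup Ω} [Finite S] {F : FusionSystem S} {p : ℕ} [hp : Fact p.Prime]

/-- automorphisms acting trivially on `H/Φ(H)` are inner -/
theorem inner_of_frattini (hS : IsPGroup p S) (hF : F.IsSaturated p) (hH : F.IsEssential p H) {α : MulAut H}
    (hα : α ∈ F.autGroup H) (h : ∀ x, x⁻¹ * α x ∈ frattini H) : α ∈ Inn H := by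
  have hHS : H ≤ S := hH.1.1
  haveI : Finite H := finite_of_le hHS
  have hinv : ∀ i ≤ 1, ∀ α ∈ F.autGroup H, ∀ x ∈ (fun i : ℕ => if i = 0 then frattini H else ⊤) i,
      α x ∈ (fun i : ℕ => if i = 0 then frattini H else ⊤) i := by
    intro i hi α hα x hx
    interval_cases i
    · simp only [if_true] at hx ⊢
      exact char_apply frattini_characteristic _ hx
    · simp
  refine rad_le (essential_radical hS hH) (X := stab (F.autGroup H) (fun i => if i = 0 then frattini H else ⊤) 1 hinv)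
    stab_le stab_normal (stab_isPGroup (hS.to_le hHS) (by intro i hi; interval_cases i; simp) (by simp) (by simp)) ?_
  refine ⟨hα, fun i hi x hx => ?_⟩
  interval_cases i
  simpa using h x

theorem s5187 (hS : IsPGroup p S) (hF : F.IsSaturated p) (hH : F.IsEssential p H) (hc : ∀ x y : H, x * y = y * x)
    (hrk : (frattini H).index ≤ p ^ 2) :
    (Cfsg.IsElementaryAbelian p H ∧ Nat.card H = p ^ 2) ∨
      (p ≤ 3 ∧ ∃ k : ℕ, Nonempty (↥H ≃* Multiplicative (ZMod (p ^ k) × ZMod (p ^ k)))) := by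
  have hHS : H ≤ S := hH.1.1
  haveI : Finite H := finite_of_le hHS
  have hHp : IsPGroup p H := hS.to_le hHS
  have hnc := noCh hS hF hH
  obtain ⟨a, hexp, hΩ, ⟨e⟩⟩ := ab_rank2 hHp hnc hc hrk
  rcases Nat.eq_zero_or_pos a with ha | ha
  · left
    subst ha
    simp only [zero_add, pow_one] at hexp e
    refine ⟨⟨⟨⟨hc⟩⟩, fun x hx => congrArg Subtype.val (hexp ⟨x, hx⟩)⟩, ?_⟩
    have h1 := Nat.card_congr e.toEquiv
    rw [h1]
    show Nat.card (ZMod (p ^ (0 + 1)) × ZMod (p ^ (0 + 1))) = p ^ 2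
    rw [Nat.card_prod, Nat.card_zmod]; ring
  by_cases h3 : p ≤ 3
  · exact Or.inr ⟨h3, a + 1, ⟨e⟩⟩
  exfalso
  have h5 : 5 ≤ p := by
    by_contra hcon
    have h4 : p = 4 := by omega
    have := hp.out
    rw [h4] at this
    exact absurd this (by norm_num)
  -- an element of order `p` of `Aut_S(H)`
  obtain ⟨s0, hs0, hN0, hτ0⟩ : ∃ s ∈ S, ∃ hN : s ∈ Subgroup.normalizer (H : Set Ω), cjA H s hN ≠ 1 := by
    by_contra hcon
    push Not at hcon
    exact no_stab hS hF hH (X := ⊥) bot_le (by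
      intro a _
      rw [Subgroup.mem_normalizer_iff]
      intro b
      simp) IsPGroup.of_bot (fun s hs hN => by rw [Subgroup.mem_bot]; exact hcon s hs hN)
  obtain ⟨s, hs, hN, hτp, hτ1⟩ : ∃ s ∈ S, ∃ hN : s ∈ Subgroup.normalizer (H : Set Ω), (cjA H s hN) ^ p = 1 ∧ cjA H s hN ≠ 1 := by
    have hpow : ∀ n : ℕ, (cjA H s0 hN0) ^ n = cjA H (s0 ^ n) (Subgroup.pow_mem _ hN0 n) := fun n =>
      (map_pow H.normalizerMonoidHom ⟨s0, hN0⟩ n).symm
    obtain ⟨e, he⟩ := exists_pow_card hS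
    have hex : ∃ m, (cjA H s0 hN0) ^ (p ^ m) = 1 := ⟨e, by
      rw [hpow]
      ext x
      rw [cjA_apply, he s0 hs0]; simp⟩
    classical
    have h1 := Nat.find_spec hex
    have h2 := fun k (hk : k < Nat.find hex) => Nat.find_min hex hk
    set m := Nat.find hex
    have hm0 : m ≠ 0 := by
      intro h0
      rw [h0, pow_zero, pow_one] at h1
      exact hτ0 h1
    obtain ⟨j, hj⟩ := Nat.exists_eq_succ_of_ne_zero hm0
    refine ⟨s0 ^ (p ^ j), Subgroup.pow_mem _ hs0 _, Subgroup.pow_mem _ hN0 _, ?_, ?_⟩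
    · rw [← hpow, ← pow_mul, ← pow_succ, ← Nat.succ_eq_add_one, ← hj]
      exact h1
    · rw [← hpow]
      exact h2 j (by omega)
  obtain ⟨z, hz1, hz2, hz3⟩ := line_of_essential hS hF hH hrk
  have hτA : cjA H s hN ∈ F.autGroup H := autInducedBy_le_autGroup F hHS (cjA_mem hN hs)
  have hK := no_five hc h5 ha hexp hΩ hHp (cjA H s hN) hτp (Subgroup.zpowers z ⊔ frattini H) (hz3 s hs hN) (by
    let D : Subgroup H :=
      { carrier := {x | x⁻¹ * cjA H s hN x ∈ frattini H}
        one_mem' := by simp [Subgroup.one_mem]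
        mul_mem' := by
          intro x y hx hy
          show (x * y)⁻¹ * cjA H s hN (x * y) ∈ frattini H
          have e : (x * y)⁻¹ * cjA H s hN (x * y) = (x⁻¹ * cjA H s hN x) * (y⁻¹ * cjA H s hN y) := by
            rw [map_mul, mul_inv_rev, hc y⁻¹ x⁻¹]
            rw [mul_assoc, mul_assoc, ← mul_assoc y⁻¹, hc y⁻¹ (cjA H s hN x), mul_assoc]
          rw [e]; exact Subgroup.mul_mem _ hx hy
        inv_mem' := by
          intro x hx
          show (x⁻¹)⁻¹ * cjA H s hN (x⁻¹) ∈ frattini H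
          have e : (x⁻¹)⁻¹ * cjA H s hN (x⁻¹) = (x⁻¹ * cjA H s hN x)⁻¹ := by
            rw [map_inv, mul_inv_rev, hc]
          rw [e]; exact Subgroup.inv_mem _ hx }
    have hle : Subgroup.zpowers z ⊔ frattini H ≤ D := by
      refine sup_le (Subgroup.zpowers_le.2 (hz2 s hs hN)) fun x hx => ?_
      exact Subgroup.mul_mem _ (Subgroup.inv_mem _ hx) (char_apply frattini_characteristic _ hx)
    exact hle)
  have hinn := inner_of_frattini hS hF hH hτA hK
  obtain ⟨w, hw⟩ := hinn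
  apply hτ1
  rw [← hw]
  ext x
  show ((w * x * w⁻¹ : H) : Ω) = x
  rw [hc w x, mul_inv_cancel_right]

end s5187

end Cfsg.Agent.H1.Sm
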