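import Mathlib
import Cfsg.Agent.H1_SmD
import Cfsg.Agent.H1_FusZ
import Cfsg.Agent.H2_Extra2
import Cfsg.Agent.S0129
import Cfsg.Agent.H4_Dih

set_option autoImplicit false
set_option linter.all false

/-! essential subgroups of order `p³` and `p⁴` -/

namespace Cfsg.Agent.H1.Sm

open Cfsg Cfsg.FusionSystem Cfsg.Agent.H27.Fus Cfsg.Agent.H27.Grp Cfsg.Agent.H1.FusA
open scoped commutatorElement

section core

variable {G : Type*} [Group G] [Finite G] {p : ℕ} [hp : Fact p.Prime]

/-- arithmetic for chains below a subgroup of index `p²` -/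
theorem mid_index (hG : IsPGroup p G) {Z M : Subgroup G} (hZ : Z.index = p ^ 2) (hZM : Z ≤ M) (h1 : Z ≠ M) (h2 : M ≠ ⊤) :
    M.index = p ∧ Z.relIndex M = p := by
  have hmul := Subgroup.relIndex_mul_index hZM
  obtain ⟨k, hk⟩ := Cfsg.Agent.H2.Hup.index_pow hG M
  have hk0 : k ≠ 0 := by
    rintro rfl
    rw [pow_zero] at hk
    exact h2 (Subgroup.index_eq_one.1 hk)
  rw [hZ] at hmul
  obtain ⟨j, -, hj⟩ := (Nat.dvd_prime_pow hp.out).1 (Dvd.intro _ hmul)
  have hj0 : j ≠ 0 := by
    rintro rfl
    rw [pow_zero] at hj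
    exact h1 (le_antisymm hZM (Subgroup.relIndex_eq_one.1 hj))
  rw [hj, hk, ← pow_add] at hmul
  have h5 : j + k = 2 := Nat.pow_right_injective hp.out.two_le hmul
  have hj1 : j = 1 := by omega
  have hk1 : k = 1 := by omega
  rw [hj, hk, hj1, hk1, pow_one]
  exact ⟨rfl, rfl⟩

theorem comm_cen (hΦZ : frattini G ≤ Subgroup.center G) (hG : IsPGroup p G) (a b : G) : ⁅a, b⁆ ∈ frattini G := by
  refine Cfsg.Agent.H2.PGroup.commutator_le_frattini hG ?_
  rw [commutator_def]
  exact Subgroup.commutator_mem_commutator trivial trivial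

/-- nonabelian groups with small Frattini subgroup and elementary abelian centre of index `p²` -/
theorem nonab_core (hG : IsPGroup p G) (hN : NoCh p G) (hnc : ∃ x y : G, x * y ≠ y * x) (hΦ : Nat.card (frattini G) = p)
    (hZi : (Subgroup.center G).index = p ^ 2) (hZe : ∀ z ∈ Subgroup.center G, z ^ p = 1)
    (hΦZ' : (frattini G).relIndex (Subgroup.center G) ≤ p) :
    (p ≠ 2 ∧ ∀ x : G, x ^ p = 1) ∨ (p = 2 ∧ ∀ x : G, x ∉ Subgroup.center G → x ^ 2 ≠ 1) := by
  have hΦZ : frattini G ≤ Subgroup.center G :=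
    Cfsg.Agent.H2.Rank2.le_center_of_card_le hG inferInstance hΦ.le
  have hcf := comm_cen hΦZ hG
  have hcc : ∀ a b : G, ⁅a, b⁆ ∈ Subgroup.center G := fun a b => hΦZ (hcf a b)
  have hpf : ∀ x : G, x ^ p ∈ frattini G := Cfsg.Agent.H2.PGroup.pow_mem_frattini hG
  have hfp : ∀ x ∈ frattini G, x ^ p = 1 := fun x hx => hZe x (hΦZ hx)
  by_cases hp2 : p = 2
  · right
    refine ⟨hp2, ?_⟩
    subst hp2
    have hprod : ∀ a ∈ frattini G, ∀ b ∈ frattini G, a ≠ 1 → b ≠ 1 → a = b := by
      intro a ha b hb h1 h2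
      have h3 := (Nat.card_eq_two_iff.1 hΦ)
      have h4 : Nat.card (frattini G) = 2 := hΦ
      obtain ⟨u, v, huv, huni⟩ := h3
      have key : ∀ w : frattini G, w = u ∨ w = v := fun w => by
        have : w ∈ ({u, v} : Set (frattini G)) := by rw [huni]; trivial
        simpa using this
      have ka := key ⟨a, ha⟩
      have kb := key ⟨b, hb⟩
      have k1 := key 1
      have na : (⟨a, ha⟩ : frattini G) ≠ 1 := fun h => h1 (congrArg Subtype.val h)
      have nb : (⟨b, hb⟩ : frattini G) ≠ 1 := fun h => h2 (congrArg Subtype.val h)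
      have : (⟨a, ha⟩ : frattini G) = ⟨b, hb⟩ := by
        rcases k1 with k1 | k1
        · have e1 : (⟨a, ha⟩ : frattini G) = v := by
            rcases ka with h | h
            · exact absurd (h.trans k1.symm) na
            · exact h
          have e2 : (⟨b, hb⟩ : frattini G) = v := by
            rcases kb with h | h
            · exact absurd (h.trans k1.symm) nb
            · exact h
          rw [e1, e2]
        · have e1 : (⟨a, ha⟩ : frattini G) = u := by
            rcases ka with h | h
            · exact h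
            · exact absurd (h.trans k1.symm) na
          have e2 : (⟨b, hb⟩ : frattini G) = u := by
            rcases kb with h | h
            · exact h
            · exact absurd (h.trans k1.symm) nb
          rw [e1, e2]
      exact congrArg Subtype.val this
    by_cases hA : ∃ w y : G, w ^ 2 ≠ 1 ∧ y ^ 2 ≠ 1 ∧ w * y ≠ y * w
    · obtain ⟨w, y, hw, hy, hwy⟩ := hA
      intro x hx hx2
      have hwy' : ⁅w, y⁆ ≠ 1 := fun h => hwy (commutatorElement_eq_one_iff_mul_comm.1 h)
      have hyw' : ⁅y, w⁆ ≠ 1 := fun h => hwy (commutatorElement_eq_one_iff_mul_comm.1 h).symm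
      set t := w ^ 2 with ht
      have htc : t ∈ Subgroup.center G := hΦZ (hpf w)
      have ht2 : t * t = 1 := by rw [← pow_two]; exact hfp _ (hpf w)
      have hy2 : y ^ 2 = t := hprod _ (hpf y) _ (hpf w) hy hw
      have hcwy : ⁅w, y⁆ = t := hprod _ (hcf w y) _ (hpf w) hwy' hw
      have hcyw : ⁅y, w⁆ = t := hprod _ (hcf y w) _ (hpf w) hyw' hw
      -- elements commuting with both `w` and `y` are central
      have hcen : ∀ u : G, ⁅u, w⁆ = 1 → ⁅u, y⁆ = 1 → u ∈ Subgroup.center G := by
        intro u h1 h2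
        set D := Subgroup.centralizer ({w, y} : Set G) with hD
        have hmD : ∀ v, v ∈ D ↔ v * w = w * v ∧ v * y = y * v := by
          intro v
          rw [hD, Subgroup.mem_centralizer_iff]
          constructor
          · intro h; exact ⟨(h w (by simp)).symm, (h y (by simp)).symm⟩
          · rintro ⟨h3, h4⟩ g (rfl | rfl)
            · exact h3.symm
            · exact h4.symm
        have hZD : Subgroup.center G ≤ D := Subgroup.center_le_centralizer _
        have huD : u ∈ D := (hmD u).2 ⟨commutatorElement_eq_one_iff_mul_comm.1 h1, commutatorElement_eq_one_iff_mul_comm.1 h2⟩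
        by_contra hu
        have hne : Subgroup.center G ≠ D := fun h => hu (h ▸ huD)
        have hwD : w ∉ D := fun h => hwy ((hmD w).1 h).2
        have hDt : D ≠ ⊤ := fun h => hwD (by rw [h]; trivial)
        have hDi := (mid_index hG hZi hZD hne hDt).1
        have hyD : y ∉ D := fun h => hwy ((hmD y).1 h).1.symm
        have hwyD : w * y ∈ D := (Subgroup.mul_mem_iff_of_index_two hDi).2 ⟨fun h => absurd h hwD, fun h => absurd h hyD⟩
        have h3 := ((hmD _).1 hwyD).2
        apply hwy
        have : w * y * y = y * w * y := by rw [h3]; group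
        exact mul_right_cancel this
      have hcf2 : ∀ u v : G, ⁅u, v⁆ = 1 ∨ ⁅u, v⁆ = t := by
        intro u v
        by_cases h : ⁅u, v⁆ = 1
        · exact Or.inl h
        · exact Or.inr (hprod _ (hcf u v) _ (hpf w) h hw)
      have hself : ∀ u : G, ⁅u, u⁆ = 1 := fun u => commutatorElement_self u
      have hsq : ∀ u v : G, (u * v) ^ 2 = u ^ 2 * v ^ 2 * ⁅v, u⁆ := by
        intro u v
        have := Cfsg.Agent.H2.Class.mul_pow_two hcc u v 2
        simpa using this
      have hL := Cfsg.Agent.H2.Class.comm_mul_left hcc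
      rcases hcf2 x w with h1 | h1 <;> rcases hcf2 x y with h2 | h2
      · exact hx (hcen x h1 h2)
      · have h3 := hcen (x * w) (by rw [hL, h1, hself, one_mul]) (by rw [hL, h2, hcwy, ht2])
        have h4 := hZe _ h3
        have h5 : ⁅w, x⁆ = 1 := by rw [← commutatorElement_inv, h1, inv_one]
        rw [hsq, hx2, h5, mul_one, one_mul] at h4
        exact hw h4
      · have h3 := hcen (x * y) (by rw [hL, h1, hcyw, ht2]) (by rw [hL, h2, hself, one_mul])
        have h4 := hZe _ h3
        have h5 : ⁅y, x⁆ = 1 := by rw [← commutatorElement_inv, h2, inv_one]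
        rw [hsq, hx2, h5, mul_one, one_mul] at h4
        exact hy h4
      · have h3 := hcen (x * (w * y)) (by rw [hL, hL, h1, hself, hcyw, one_mul, ht2])
          (by rw [hL, hL, h2, hself, hcwy, mul_one, ht2])
        have h6 : ⁅w * y, x⁆ = 1 := by
          have e1 : ⁅w, x⁆ = t := by rw [← commutatorElement_inv, h1]; exact inv_eq_of_mul_eq_one_left ht2
          have e2 : ⁅y, x⁆ = t := by rw [← commutatorElement_inv, h2]; exact inv_eq_of_mul_eq_one_left ht2
          rw [hL, e1, e2, ht2]
        have h4 := hZe _ h3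
        rw [hsq, hx2, h6, mul_one, one_mul, hsq, hy2, ← ht, hcyw, ht2, one_mul] at h4
        exact hw h4
    · exfalso
      push Not at hA
      set M := Subgroup.closure ({x : G | x ^ 2 ≠ 1} ∪ (Subgroup.center G : Set G)) with hM
      have hMc : M.Characteristic := by
        refine char_of fun φ => ?_
        have : M ≤ M.comap (φ : G ≃* G).toMonoidHom := by
          rw [hM, Subgroup.closure_le]
          rintro x (hx | hx)
          · refine Subgroup.subset_closure (Or.inl ?_)
            show (φ x) ^ 2 ≠ 1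
            rw [← map_pow]
            intro h
            exact hx (φ.injective (h.trans (map_one φ).symm))
          · exact Subgroup.subset_closure (Or.inr (char_apply inferInstance φ hx))
        exact fun x hx => this hx
      have hMab : ∀ a ∈ M, ∀ b ∈ M, a * b = b * a := by
        have hset : ∀ a ∈ ({x : G | x ^ 2 ≠ 1} ∪ (Subgroup.center G : Set G)), ∀ b ∈ ({x : G | x ^ 2 ≠ 1} ∪ (Subgroup.center G : Set G)), a * b = b * a := by
          rintro a (ha | ha) b (hb | hb)
          · exact hA a b ha hb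
          · exact Subgroup.mem_center_iff.1 hb a
          · exact (Subgroup.mem_center_iff.1 ha b).symm
          · exact Subgroup.mem_center_iff.1 hb a
        have h1 : M ≤ Subgroup.centralizer (M : Set G) := by
          have h2 : ∀ b ∈ ({x : G | x ^ 2 ≠ 1} ∪ (Subgroup.center G : Set G)), M ≤ Subgroup.centralizer {b} := by
            intro b hb
            rw [hM, Subgroup.closure_le]
            intro a ha
            rw [SetLike.mem_coe, Subgroup.mem_centralizer_iff]
            rintro c rfl
            exact (hset a ha _ hb).symm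
          intro a ha
          rw [Subgroup.mem_centralizer_iff]
          intro b hb
          have h3 : M ≤ Subgroup.centralizer {a} := by
            conv_lhs => rw [hM]
            rw [Subgroup.closure_le]
            intro c hc
            rw [SetLike.mem_coe, Subgroup.mem_centralizer_iff]
            rintro d rfl
            have := Subgroup.mem_centralizer_iff.1 (h2 c hc ha) c rfl
            exact this.symm
          have := Subgroup.mem_centralizer_iff.1 (h3 hb) a rfl
          exact this.symm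
        intro a ha b hb
        exact (Subgroup.mem_centralizer_iff.1 (h1 ha) b hb).symm
      have hZM : Subgroup.center G ≤ M := fun z hz => Subgroup.subset_closure (Or.inr hz)
      have hMt : M ≠ ⊤ := by
        intro h
        obtain ⟨x, y, hxy⟩ := hnc
        exact hxy (hMab x (by rw [h]; trivial) y (by rw [h]; trivial))
      have hMZ : Subgroup.center G ≠ M := by
        obtain ⟨x, hx⟩ : ∃ x : G, x ^ 2 ≠ 1 := by
          by_contra hcon
          push Not at hcon
          obtain ⟨x, y, hxy⟩ := hnc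
          apply hxy
          have h1 := hcon (x * y)
          have h2 := hcon x
          have h3 := hcon y
          rw [pow_two] at h1 h2 h3
          have hxi : x⁻¹ = x := inv_eq_of_mul_eq_one_left h2
          have hyi : y⁻¹ = y := inv_eq_of_mul_eq_one_left h3
          calc x * y = (x * y)⁻¹ := (inv_eq_of_mul_eq_one_left h1).symm
            _ = y⁻¹ * x⁻¹ := mul_inv_rev x y
            _ = y * x := by rw [hxi, hyi]
        intro h
        exact hx (hZe x (h ▸ Subgroup.subset_closure (Or.inl hx)))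
      have hmid := mid_index hG hZi hZM hMZ hMt
      exact nc3 hN inferInstance hMc hΦZ hZM hmid.1.le hmid.2.le hΦZ'
  · left
    refine ⟨hp2, ?_⟩
    have hmul : ∀ x y : G, (x * y) ^ p = x ^ p * y ^ p := fun x y =>
      Cfsg.Agent.H2.Class.mul_pow_p hp.out hp2 hcc x y (hfp _ (hcf y x))
    let f : G →* G := { toFun := fun x => x ^ p, map_one' := one_pow p, map_mul' := hmul }
    have hfk : ∀ x, x ∈ f.ker ↔ x ^ p = 1 := fun x => Iff.rfl
    have hfr : f.range ≤ frattini G := by
      rintro _ ⟨x, rfl⟩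
      exact hpf x
    have hchar : f.ker.Characteristic := char_of fun φ x hx => by
      rw [hfk] at hx ⊢
      rw [← map_pow, hx, map_one]
    by_contra hcon
    push Not at hcon
    obtain ⟨x, hx⟩ := hcon
    have hkt : f.ker ≠ ⊤ := fun h => hx ((hfk x).1 (by rw [h]; trivial))
    have hZk : Subgroup.center G ≤ f.ker := fun z hz => (hfk z).2 (hZe z hz)
    have hi : f.ker.index ≤ p := by
      rw [Subgroup.index_ker, ← hΦ]
      exact Subgroup.card_le_of_le hfr
    have hne : Subgroup.center G ≠ f.ker := by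
      intro h
      rw [← h, hZi] at hi
      have := hp.out.one_lt
      nlinarith
    have hmid := mid_index hG hZi hZk hne hkt
    exact nc3 hN inferInstance hchar hΦZ hZk hmid.1.le hmid.2.le hΦZ'

/-- recognition of the quaternion group -/
theorem q8_of {M : Type*} [Group M] [Finite M] (hcard : Nat.card M = 2 ^ 3) (hnc : ∃ x y : M, x * y ≠ y * x)
    (h : ∀ x : M, x ∉ Subgroup.center M → x ^ 2 ≠ 1) : Nonempty (M ≃* QuaternionGroup 2) := by
  haveI : Fact (Nat.Prime 2) := ⟨Nat.prime_two⟩
  have hE : IsExtraspecial 2 M := Cfsg.Agent.H1.FusZ.extraspecial_of_cube hcard hnc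
  obtain ⟨w, y, hwy⟩ := hnc
  have hprod : ∀ a ∈ Subgroup.center M, ∀ b ∈ Subgroup.center M, a ≠ 1 → b ≠ 1 → a = b := by
    intro a ha b hb h1 h2
    by_contra hab
    classical
    have h3 : Nat.card (Subgroup.center M) = 2 := hE.2
    haveI : Fintype (Subgroup.center M) := Fintype.ofFinite _
    rw [Nat.card_eq_fintype_card] at h3
    have h4 : ({1, ⟨a, ha⟩, ⟨b, hb⟩} : Finset (Subgroup.center M)).card ≤ 2 := h3 ▸ Finset.card_le_univ _
    rw [Finset.card_insert_of_notMem, Finset.card_insert_of_notMem, Finset.card_singleton] at h4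
    · omega
    · intro h5
      rw [Finset.mem_singleton] at h5
      exact hab (congrArg Subtype.val h5)
    · intro h5
      rw [Finset.mem_insert, Finset.mem_singleton] at h5
      rcases h5 with h5 | h5
      · exact h1 (congrArg Subtype.val h5).symm
      · exact h2 (congrArg Subtype.val h5).symm
  have hwc : w ∉ Subgroup.center M := fun hc => hwy (Subgroup.mem_center_iff.1 hc y).symm
  have hyc : y ∉ Subgroup.center M := fun hc => hwy (Subgroup.mem_center_iff.1 hc w)
  have hw2 := Cfsg.Agent.H2.Extra.pow_mem_center hE w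
  have hy2 := Cfsg.Agent.H2.Extra.pow_mem_center hE y
  have hc := Cfsg.Agent.H2.Extra.comm_mem_center hE y w
  have hcn : ⁅y, w⁆ ≠ 1 := fun h => hwy (commutatorElement_eq_one_iff_mul_comm.1 h).symm
  have e1 : y ^ 2 = w ^ 2 := hprod _ hy2 _ hw2 (h y hyc) (h w hwc)
  have e2 : ⁅y, w⁆ = w ^ 2 := hprod _ hc _ hw2 hcn (h w hwc)
  have hw4 : w ^ 4 = 1 := by
    have := Cfsg.Agent.H2.Extra.center_pow hE hw2
    rw [← pow_mul] at this
    exact this
  have hord : orderOf w = 2 * 2 := by
    have := orderOf_eq_prime_pow (p := 2) (n := 1) (x := w) (by rw [pow_one]; exact h w hwc) (by simpa using hw4)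
    simpa using this
  have hyz : y ∉ Subgroup.zpowers w := by
    rintro ⟨k, hk⟩
    apply hwy
    have hk' : w ^ k = y := hk
    rw [← hk', ← zpow_one_add, ← zpow_add_one, add_comm]
  have hxa : y * w * y⁻¹ = w⁻¹ := by
    have e3 : y * w * y⁻¹ = ⁅y, w⁆ * w := by rw [commutatorElement_def]; group
    rw [e3, e2]
    rw [eq_inv_iff_mul_eq_one]
    rw [← hw4]; group
  have e := Cfsg.Agent.H4.Dih.quatEquiv 2 y w hord (by rw [← pow_two, e1]) hxa hyz
  have hct : Subgroup.closure ({y, w} : Set M) = ⊤ := by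
    apply Subgroup.eq_top_of_card_eq
    rw [← Nat.card_congr e.toEquiv, hcard, Nat.card_eq_fintype_card]
    decide +kernel
  rw [hct] at e
  exact ⟨(e.trans Subgroup.topEquiv).symm⟩

/-- splitting off a central element of order `p` outside the Frattini subgroup -/
theorem split_off (hG : IsPGroup p G) {c : G} (hc : c ∈ Subgroup.center G) (hcp : c ^ p = 1) (hcf : c ∉ frattini G) :
    ∃ M : Subgroup G, M.index = p ∧ Nonempty (G ≃* M × Multiplicative (ZMod p)) := by
  rw [Cfsg.Agent.H1.Nilp.mem_frattini_iff] at hcf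
  push Not at hcf
  obtain ⟨M, hM, hcM⟩ := hcf
  have hc1 : c ≠ 1 := fun h => hcM (h ▸ M.one_mem)
  have hoc : orderOf c = p := orderOf_eq_prime hcp hc1
  have hCcard : Nat.card (Subgroup.zpowers c) = p := by rw [Nat.card_zpowers, hoc]
  have hdisj : M ⊓ Subgroup.zpowers c = ⊥ := by
    by_contra hne
    have h1 : Nat.card (M ⊓ Subgroup.zpowers c : Subgroup G) ∣ p := by
      rw [← hCcard]; exact Subgroup.card_dvd_of_le inf_le_right
    rcases (Nat.dvd_prime hp.out).1 h1 with h2 | h2
    · exact hne (Subgroup.card_eq_one.1 h2)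
    · have h3 : M ⊓ Subgroup.zpowers c = Subgroup.zpowers c :=
        Subgroup.eq_of_le_of_card_ge inf_le_right (by rw [h2, hCcard])
      exact hcM ((h3 ▸ inf_le_left : Subgroup.zpowers c ≤ M) (Subgroup.mem_zpowers c))
  have hcomm : ∀ (m : M) (d : Subgroup.zpowers c), Commute (M.subtype m) ((Subgroup.zpowers c).subtype d) := by
    rintro m ⟨_, k, rfl⟩
    exact ((Subgroup.mem_center_iff.1 ((Subgroup.center G).zpow_mem hc k)) m)
  let f : M × Subgroup.zpowers c →* G := MonoidHom.noncommCoprod M.subtype (Subgroup.zpowers c).subtype hcomm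
  have hfa : ∀ m d, f (m, d) = (m : G) * (d : G) := fun m d => rfl
  have hfi : Function.Injective f := by
    rw [injective_iff_map_eq_one]
    rintro ⟨m, d⟩ hmd
    rw [hfa] at hmd
    have h1 : (m : G) = (d : G)⁻¹ := eq_inv_of_mul_eq_one_left hmd
    have h2 : (m : G) ∈ M ⊓ Subgroup.zpowers c := ⟨m.2, by rw [h1]; exact Subgroup.inv_mem _ d.2⟩
    rw [hdisj, Subgroup.mem_bot] at h2
    have h3 : (d : G) = 1 := by rw [h2, one_mul] at hmd; exact hmd
    exact Prod.ext (Subtype.ext h2) (Subtype.ext h3)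
  have hfs : Function.Surjective f := by
    rw [← MonoidHom.range_eq_top]
    have h1 : M ≤ f.range := fun m hm => ⟨(⟨m, hm⟩, 1), by rw [hfa]; simp⟩
    have h2 : c ∈ f.range := ⟨(1, ⟨c, Subgroup.mem_zpowers c⟩), by rw [hfa]; simp⟩
    exact hM.2 _ (lt_of_le_of_ne h1 fun h => hcM (h ▸ h2))
  have e1 : G ≃* M × Subgroup.zpowers c := (MulEquiv.ofBijective f ⟨hfi, hfs⟩).symm
  have e2 : Subgroup.zpowers c ≃* Multiplicative (ZMod p) :=
    mulEquivOfPrimeCardEq (p := p) hCcard (by rw [Nat.card_eq_of_bijective Multiplicative.toAdd ⟨Multiplicative.toAdd.injective, Multiplicative.toAdd.surjective⟩, Nat.card_zmod])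
  refine ⟨M, ?_, ⟨e1.trans (MulEquiv.prodCongr (MulEquiv.refl M) e2)⟩⟩
  have h1 := Nat.card_congr e1.toEquiv
  rw [Nat.card_prod, hCcard] at h1
  have h2 := M.card_mul_index
  rw [h1] at h2
  exact Nat.eq_of_mul_eq_mul_left Nat.card_pos h2

theorem exists_c (hG : IsPGroup p G) (hc : ∀ x y : G, x * y = y * x) (hΦ : Nat.card (frattini G) ≤ p) (hcard : p ^ 3 ≤ Nat.card G) :
    ∃ c : G, c ∉ frattini G ∧ c ^ p = 1 := by
  let f : G →* G := { toFun := fun x => x ^ p, map_one' := one_pow p, map_mul' := fun x y => Commute.mul_pow (hc x y) p }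
  have hfr : f.range ≤ frattini G := by
    rintro _ ⟨x, rfl⟩
    exact Cfsg.Agent.H2.PGroup.pow_mem_frattini hG x
  have h1 : f.ker.index ≤ p := by
    rw [Subgroup.index_ker]
    exact (Subgroup.card_le_of_le hfr).trans hΦ
  have h2 := f.ker.card_mul_index
  have h3 : p ^ 2 ≤ Nat.card f.ker := by
    by_contra hlt
    push Not at hlt
    have : Nat.card G < p ^ 3 := by
      rw [← h2]
      calc Nat.card f.ker * f.ker.index ≤ Nat.card f.ker * p := Nat.mul_le_mul_left _ h1
        _ < p ^ 2 * p := Nat.mul_lt_mul_of_pos_right hlt hp.out.pos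
        _ = p ^ 3 := by ring
    omega
  by_contra hcon
  push Not at hcon
  have h4 : f.ker ≤ frattini G := by
    intro x hx
    by_contra hxf
    exact hcon x hxf hx
  have h5 := (Subgroup.card_le_of_le h4).trans hΦ
  have := hp.out.one_lt
  nlinarith

/-- abelian groups of order `p⁴` with Frattini subgroup of order `p` -/
theorem ab_rank3 (hG : IsPGroup p G) (hc : ∀ x y : G, x * y = y * x) (hΦ : Nat.card (frattini G) = p)
    (hcard : Nat.card G = p ^ 4) : Nonempty (G ≃* Multiplicative (ZMod (p ^ 2) × ZMod p × ZMod p)) := by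
  have hp1 := hp.out.one_lt
  obtain ⟨c, hcf, hcp⟩ := exists_c hG hc hΦ.le (by rw [hcard]; exact Nat.pow_le_pow_right hp.out.pos (by norm_num))
  obtain ⟨M, hMi, ⟨e1⟩⟩ := split_off hG (Subgroup.mem_center_iff.2 fun g => hc g c) hcp hcf
  have hMcard : Nat.card M = p ^ 3 := by
    have := M.card_mul_index
    rw [hMi, hcard, pow_succ] at this
    exact Nat.eq_of_mul_eq_mul_right hp.out.pos this
  have hMp : IsPGroup p M := hG.to_subgroup M
  have hMc : ∀ x y : M, x * y = y * x := fun x y => Subtype.ext (hc x y)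
  have hMΦ : Nat.card (frattini M) ≤ p := by
    have h1 : frattini M ≤ (frattini G).subgroupOf M := by
      refine Cfsg.Agent.H1.Frattini.frattini_le_of_elementary (p := p) _ ?_ ?_
      · rw [commutator_def, Subgroup.commutator_le]
        intro a _ b _
        rw [commutatorElement_eq_one_iff_mul_comm.2 (hMc a b)]
        exact Subgroup.one_mem _
      · intro x
        exact Cfsg.Agent.H2.PGroup.pow_mem_frattini hG (x : G)
    refine (Subgroup.card_le_of_le h1).trans ?_
    rw [← hΦ]
    exact Nat.card_le_card_of_injective (fun x => (⟨((x : M) : G), x.2⟩ : frattini G))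
      (fun a b hab => Subtype.ext (Subtype.ext (congrArg (fun z : frattini G => (z : G)) hab)))
  obtain ⟨d, hdf, hdp⟩ := exists_c hMp hMc hMΦ hMcard.ge
  obtain ⟨L, hLi, ⟨e2⟩⟩ := split_off hMp (Subgroup.mem_center_iff.2 fun g => hMc g d) hdp hdf
  have hLcard : Nat.card L = p ^ 2 := by
    have := L.card_mul_index
    rw [hLi, hMcard, pow_succ] at this
    exact Nat.eq_of_mul_eq_mul_right hp.out.pos this
  -- `L` is not of exponent `p`
  obtain ⟨l, hl⟩ : ∃ l : L, l ^ p ≠ 1 := by
    by_contra hcon
    push Not at hcon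
    have hzp : ∀ z : Multiplicative (ZMod p), z ^ p = 1 := by
      intro z
      have h1 := pow_card_eq_one' (x := z)
      rwa [Nat.card_eq_of_bijective Multiplicative.toAdd ⟨Multiplicative.toAdd.injective, Multiplicative.toAdd.surjective⟩, Nat.card_zmod] at h1
    have hall : ∀ x : G, x ^ p = 1 := by
      intro x
      apply e1.injective
      rw [map_pow, map_one]
      refine Prod.ext ?_ (hzp _)
      show (e1 x).1 ^ p = 1
      apply e2.injective
      rw [map_pow, map_one]
      exact Prod.ext (hcon _) (hzp _)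
    have hbot : frattini G ≤ ⊥ := by
      refine Cfsg.Agent.H1.Frattini.frattini_le_of_elementary (p := p) _ ?_ ?_
      · rw [commutator_def, Subgroup.commutator_le]
        intro a _ b _
        rw [commutatorElement_eq_one_iff_mul_comm.2 (hc a b)]
        exact Subgroup.one_mem _
      · intro x
        rw [hall x]; exact Subgroup.one_mem _
    rw [le_bot_iff.1 hbot, Subgroup.card_bot] at hΦ
    omega
  have hol : orderOf l = p ^ 2 := by
    have h1 : orderOf l ∣ p ^ 2 := hLcard ▸ orderOf_dvd_natCard l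
    obtain ⟨k, hk, hkc⟩ := (Nat.dvd_prime_pow hp.out).1 h1
    have : ¬ k ≤ 1 := by
      intro hk1
      apply hl
      apply orderOf_dvd_iff_pow_eq_one.1
      rw [hkc]
      calc p ^ k ∣ p ^ 1 := pow_dvd_pow p hk1
        _ = p := pow_one p
    rw [hkc]; congr 1; omega
  have hLcyc : IsCyclic L := isCyclic_of_orderOf_eq_card l (by rw [hol, hLcard])
  have e3 : L ≃* Multiplicative (ZMod (p ^ 2)) :=
    mulEquivOfCyclicCardEq (by rw [hLcard, Nat.card_eq_of_bijective Multiplicative.toAdd ⟨Multiplicative.toAdd.injective, Multiplicative.toAdd.surjective⟩, Nat.card_zmod])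
  have e4 : M ≃* Multiplicative (ZMod (p ^ 2)) × Multiplicative (ZMod p) := e2.trans (MulEquiv.prodCongr e3 (MulEquiv.refl _))
  have e5 : G ≃* (Multiplicative (ZMod (p ^ 2)) × Multiplicative (ZMod p)) × Multiplicative (ZMod p) :=
    e1.trans (MulEquiv.prodCongr e4 (MulEquiv.refl _))
  have e6 : Multiplicative (ZMod (p ^ 2) × ZMod p × ZMod p) ≃*
      Multiplicative (ZMod (p ^ 2)) × (Multiplicative (ZMod p) × Multiplicative (ZMod p)) :=
    (MulEquiv.prodMultiplicative _ _).trans (MulEquiv.prodCongr (MulEquiv.refl _) (MulEquiv.prodMultiplicative _ _))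
  exact ⟨(e5.trans MulEquiv.prodAssoc).trans e6.symm⟩

/-- no nonabelian groups of rank two and order `p⁴` -/
theorem no_rank2 (hG : IsPGroup p G) (hN : NoCh p G) (hcard : Nat.card G = p ^ 4) (hΦ : Nat.card (frattini G) = p ^ 2)
    (hnc : ∃ x y : G, x * y ≠ y * x) : False := by
  have hp1 := hp.out.one_lt
  have hidx : (frattini G).index = p ^ 2 := by
    have := (frattini G).card_mul_index
    rw [hΦ, hcard, show p ^ 4 = p ^ 2 * p ^ 2 by ring] at this
    exact Nat.eq_of_mul_eq_mul_left (pow_pos hp.out.pos 2) this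
  have hcomΦ : commutator G ≤ frattini G := Cfsg.Agent.H2.PGroup.commutator_le_frattini hG
  have hcom1 : commutator G ≠ ⊥ := by
    intro h
    obtain ⟨x, y, hxy⟩ := hnc
    apply hxy
    rw [← commutatorElement_eq_one_iff_mul_comm, ← Subgroup.mem_bot, ← h, commutator_def]
    exact Subgroup.commutator_mem_commutator trivial trivial
  obtain ⟨k, hk, hkc⟩ := (Nat.dvd_prime_pow hp.out).1 (hΦ ▸ Subgroup.card_dvd_of_le hcomΦ)
  have hk0 : k ≠ 0 := by
    rintro rfl
    rw [pow_zero] at hkc
    exact hcom1 (Subgroup.card_eq_one.1 hkc)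
  by_cases hk2 : k = 2
  · subst hk2
    have hΦc : commutator G = frattini G := Subgroup.eq_of_le_of_card_ge hcomΦ (by rw [hkc, hΦ])
    set C := Subgroup.centralizer (frattini G : Set G) with hC
    have hCi : C.index ≤ p := by
      have := Cfsg.Agent.S0129.index_centralizer_le hG 2 (frattini G) inferInstance hΦ
      simpa using this
    have hCchar : C.Characteristic := char_of fun φ x hx => by
      rw [hC, Subgroup.mem_centralizer_iff] at hx ⊢
      intro y hy
      have h1 := hx (φ⁻¹ y) (char_apply frattini_characteristic φ⁻¹ hy)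
      have h2 := congrArg φ h1
      rw [map_mul, map_mul, MulAut.apply_inv_self] at h2
      exact h2
    have hΦC : frattini G ≤ C := by
      intro x hx
      rw [hC, Subgroup.mem_centralizer_iff]
      intro y hy
      exact congrArg Subtype.val (IsPGroup.commutative_of_card_eq_prime_sq (p := p) hΦ (⟨y, hy⟩ : frattini G) ⟨x, hx⟩)
    by_cases hCt : C = ⊤
    · have hΦZ : frattini G ≤ Subgroup.center G := by
        intro x hx
        rw [Subgroup.mem_center_iff]
        intro g
        have hg : g ∈ C := by rw [hCt]; trivial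
        exact ((Subgroup.mem_centralizer_iff.1 hg) x hx).symm
      have hZi : (Subgroup.center G).index = p ^ 2 :=
        Cfsg.Agent.H1.FusZ.index_eq hG (by rw [← hidx]; exact Nat.le_of_dvd (by rw [hidx]; exact pow_pos hp.out.pos 2) (Subgroup.index_dvd_of_le hΦZ)) hnc
      obtain ⟨a, b, hab⟩ := hnc
      have h1 : commutator G ≤ Subgroup.zpowers ⁅a, b⁆ := by
        rw [commutator_def, Subgroup.commutator_le]
        intro x _ y _
        exact Cfsg.Agent.H1.FusZ.comm_zpow hG hZi hab x y
      have h2 : Nat.card (Subgroup.zpowers ⁅a, b⁆) ≤ p := by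
        rw [Nat.card_zpowers]
        exact orderOf_le_of_pow_eq_one hp.out.pos (Cfsg.Agent.H1.FusZ.comm_pow hG hZi ⟨a, b, hab⟩ a b)
      have h3 := (Subgroup.card_le_of_le h1).trans h2
      rw [hkc] at h3
      nlinarith
    · have := mid_eq hG hN hidx.le hCchar hΦC hCt
      rw [this, hidx] at hCi
      nlinarith
  · have hk1 : k = 1 := by omega
    rw [hk1, pow_one] at hkc
    let π := QuotientGroup.mk' (commutator G)
    have hπc : ∀ x y : G, π x * π y = π y * π x := by
      intro x y
      rw [← map_mul, ← map_mul]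
      apply QuotientGroup.eq.2
      have e : (x * y)⁻¹ * (y * x) = ⁅y⁻¹, x⁻¹⁆ := by rw [commutatorElement_def]; group
      rw [e, commutator_def]
      exact Subgroup.commutator_mem_commutator trivial trivial
    let f : G →* G ⧸ commutator G :=
      { toFun := fun x => π x ^ p
        map_one' := by rw [map_one, one_pow]
        map_mul' := fun x y => by rw [map_mul]; exact Commute.mul_pow (hπc x y) p }
    have hfk : ∀ x, x ∈ f.ker ↔ x ^ p ∈ commutator G := by
      intro x
      show π x ^ p = 1 ↔ _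
      rw [← map_pow]
      exact QuotientGroup.eq_one_iff _
    have hrel : (commutator G).relIndex (frattini G) = p := by
      have := Cfsg.Agent.H2.Card.card_mul_relIndex hcomΦ
      rw [hkc, hΦ, pow_two] at this
      exact Nat.eq_of_mul_eq_mul_left hp.out.pos this
    have hfr : f.range ≤ (frattini G).map π := by
      rintro _ ⟨x, rfl⟩
      exact ⟨x ^ p, Cfsg.Agent.H2.PGroup.pow_mem_frattini hG x, map_pow π x p⟩
    have hfi : f.ker.index ≤ p := by
      rw [Subgroup.index_ker]
      refine (Subgroup.card_le_of_le hfr).trans ?_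
      rw [← Subgroup.relIndex_ker, QuotientGroup.ker_mk', hrel]
    have hchar : f.ker.Characteristic := char_of fun φ x hx => by
      rw [hfk] at hx ⊢
      rw [← map_pow]
      exact char_apply inferInstance φ hx
    have hΦk : frattini G ≤ f.ker := by
      intro x hx
      rw [hfk]
      have h1 := Subgroup.pow_index_mem ((commutator G).subgroupOf (frattini G)) (⟨x, hx⟩ : frattini G)
      have h2 : ((commutator G).subgroupOf (frattini G)).index = p := hrel
      rw [h2] at h1
      exact h1
    by_cases hkt : f.ker = ⊤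
    · have h1 : frattini G ≤ commutator G :=
        Cfsg.Agent.H1.Frattini.frattini_le_of_elementary (p := p) _ le_rfl (fun x => (hfk x).1 (by rw [hkt]; trivial))
      have h2 := Subgroup.card_le_of_le h1
      rw [hΦ, hkc] at h2
      nlinarith
    · have := mid_eq hG hN hidx.le hchar hΦk hkt
      rw [this, hidx] at hfi
      nlinarith

/-- order `p³` -/
theorem cube (hG : IsPGroup p G) (hN : NoCh p G) (hcard : Nat.card G = p ^ 3) :
    ((∀ x y : G, x * y = y * x) ∧ ∀ x : G, x ^ p = 1) ∨ (Odd p ∧ IsExtraspecial p G ∧ ∀ x : G, x ^ p = 1) ∨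
      (p = 2 ∧ Nonempty (G ≃* QuaternionGroup 2)) := by
  have hp1 := hp.out.one_lt
  have hge := index_ge hG hN
  have hmul := (frattini G).card_mul_index
  rw [hcard] at hmul
  obtain ⟨k, hk, hkc⟩ := (Nat.dvd_prime_pow hp.out).1 (Dvd.intro_left _ hmul)
  have hk2 : 2 ≤ k := by
    rw [hkc] at hge
    exact (Nat.pow_le_pow_iff_right hp1).1 hge
  by_cases hk3 : k = 3
  · left
    subst hk3
    rw [hkc] at hmul
    have : Nat.card (frattini G) = 1 := Nat.eq_of_mul_eq_mul_right (pow_pos hp.out.pos 3) (by rw [hmul, one_mul])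
    exact elem_of_bot hG (Subgroup.card_eq_one.1 this)
  · have hk2' : k = 2 := by omega
    subst hk2'
    rw [hkc] at hmul
    have hΦ : Nat.card (frattini G) = p := Nat.eq_of_mul_eq_mul_right (pow_pos hp.out.pos 2) (by rw [hmul]; ring)
    by_cases hc : ∀ x y : G, x * y = y * x
    · exfalso
      obtain ⟨a, -, -, ⟨e⟩⟩ := ab_rank2 hG hN hc hkc.le
      have h1 := Nat.card_congr e.toEquiv
      rw [hcard, Nat.card_eq_of_bijective Multiplicative.toAdd ⟨Multiplicative.toAdd.injective, Multiplicative.toAdd.surjective⟩,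
        Nat.card_prod, Nat.card_zmod, ← pow_add] at h1
      have := Nat.pow_right_injective hp.out.two_le h1
      omega
    · push Not at hc
      have hE := Cfsg.Agent.H1.FusZ.extraspecial_of_cube hcard hc
      have hZc : Nat.card (Subgroup.center G) = p := hE.2
      have hΦZ : frattini G = Subgroup.center G := hE.1.2.1
      have hZi : (Subgroup.center G).index = p ^ 2 := by rw [← hΦZ, hkc]
      have hr := nonab_core hG hN hc hΦ hZi (fun z hz => Cfsg.Agent.H2.Extra.center_pow hE hz)
        (by rw [hΦZ, Subgroup.relIndex_self]; exact hp1.le)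
      rcases hr with ⟨hp2, hr⟩ | ⟨hp2, hr⟩
      · exact Or.inr (Or.inl ⟨hp.out.odd_of_ne_two hp2, hE, hr⟩)
      · subst hp2
        exact Or.inr (Or.inr ⟨rfl, q8_of hcard hc hr⟩)

/-- order `p⁴`, rank three -/
theorem four3 (hG : IsPGroup p G) (hN : NoCh p G) (hcard : Nat.card G = p ^ 4) (hΦ : Nat.card (frattini G) = p)
    (hc : ∃ x y : G, x * y ≠ y * x) :
      (Odd p ∧ ∃ (E : Type) (_ : Group E) (_ : Finite E), Cfsg.IsExtraspecial p E ∧ Nat.card E = p ^ 3 ∧
        (∀ x : E, x ^ p = 1) ∧ Nonempty (G ≃* E × Multiplicative (ZMod p))) ∨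
      (p = 2 ∧ Nonempty (G ≃* QuaternionGroup 2 × Multiplicative (ZMod 2))) ∨
      ((∀ x : G, x ^ (p ^ 2) = 1) ∧ IsCyclic ↥(Subgroup.center G) ∧
        Nat.card (Subgroup.center G) = p ^ 2) := by
  have hp1 := hp.out.one_lt
  have hΦZ : frattini G ≤ Subgroup.center G :=
    Cfsg.Agent.H2.Rank2.le_center_of_card_le hG inferInstance hΦ.le
  have hcf := comm_cen hΦZ hG
  have hcc : ∀ a b : G, ⁅a, b⁆ ∈ Subgroup.center G := fun a b => hΦZ (hcf a b)
  have hpf : ∀ x : G, x ^ p ∈ frattini G := Cfsg.Agent.H2.PGroup.pow_mem_frattini hG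
  have hfp : ∀ x ∈ frattini G, x ^ p = 1 := by
    intro x hx
    have := pow_card_eq_one' (x := (⟨x, hx⟩ : frattini G))
    rw [hΦ] at this
    exact congrArg Subtype.val this
  have hmul := (Subgroup.center G).card_mul_index
  obtain ⟨k, hk, hkc⟩ := (Nat.dvd_prime_pow hp.out).1 (hcard ▸ (Subgroup.center G).card_subgroup_dvd_card)
  have hk1 : k ≠ 0 := by
    rintro rfl
    rw [pow_zero] at hkc
    have := Subgroup.card_le_of_le hΦZ
    rw [hΦ, hkc] at this
    omega
  have hk1' : k ≠ 1 := by
    rintro rfl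
    rw [pow_one] at hkc
    obtain ⟨x, y, hxy⟩ := hc
    have hE : IsExtraspecial p G := Cfsg.Agent.H2.Extra.isExtraspecial_of hG hkc hcc (fun a => hΦZ (hpf a))
      ⟨x, y, fun h => hxy (commutatorElement_eq_one_iff_mul_comm.1 h)⟩
    obtain ⟨n, -, hn, -⟩ := Cfsg.Agent.H2.Extra.card_eq hE
    rw [hcard] at hn
    have := Nat.pow_right_injective hp.out.two_le hn
    omega
  have hk3 : ¬ 3 ≤ k := by
    intro hk3
    have h1 : (Subgroup.center G).index ≤ p := by
      rw [hkc, hcard] at hmul
      by_contra hlt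
      push Not at hlt
      have h2 : p ^ 3 ≤ p ^ k := Nat.pow_le_pow_right hp.out.pos hk3
      have h3 : p ^ 4 < p ^ 4 := by
        calc p ^ 4 = p ^ 3 * p := by ring
          _ ≤ p ^ k * p := Nat.mul_le_mul_right _ h2
          _ < p ^ k * (Subgroup.center G).index := Nat.mul_lt_mul_of_pos_left hlt (pow_pos hp.out.pos k)
          _ = p ^ 4 := hmul
      exact lt_irrefl _ h3
    have h2 := Cfsg.Agent.H1.FusZ.index_eq hG (h1.trans (by nlinarith)) hc
    rw [h2] at h1
    nlinarith
  have hk2 : k = 2 := by omega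
  subst hk2
  have hZi : (Subgroup.center G).index = p ^ 2 := by
    rw [hkc, hcard, show p ^ 4 = p ^ 2 * p ^ 2 by ring] at hmul
    exact Nat.eq_of_mul_eq_mul_left (pow_pos hp.out.pos 2) hmul
  by_cases hcyc : IsCyclic (Subgroup.center G)
  · right; right
    refine ⟨fun x => ?_, hcyc, hkc⟩
    rw [pow_two, pow_mul, hfp _ (hpf x)]
  have hZe : ∀ z ∈ Subgroup.center G, z ^ p = 1 := by
    intro z hz
    by_contra hzp
    apply hcyc
    refine isCyclic_of_orderOf_eq_card (⟨z, hz⟩ : Subgroup.center G) ?_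
    have h1 : orderOf (⟨z, hz⟩ : Subgroup.center G) ∣ p ^ 2 := hkc ▸ orderOf_dvd_natCard _
    obtain ⟨j, hj, hjc⟩ := (Nat.dvd_prime_pow hp.out).1 h1
    have : ¬ j ≤ 1 := by
      intro hj1
      apply hzp
      have h2 : (⟨z, hz⟩ : Subgroup.center G) ^ p = 1 := by
        apply orderOf_dvd_iff_pow_eq_one.1
        rw [hjc]
        calc p ^ j ∣ p ^ 1 := pow_dvd_pow p hj1
          _ = p := pow_one p
      exact congrArg Subtype.val h2
    rw [hjc, hkc]; congr 1; omega
  have hrel : (frattini G).relIndex (Subgroup.center G) ≤ p := by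
    have := Cfsg.Agent.H2.Card.card_mul_relIndex hΦZ
    rw [hΦ, hkc, pow_two] at this
    exact (Nat.eq_of_mul_eq_mul_left hp.out.pos this).le
  have hr := nonab_core hG hN hc hΦ hZi hZe hrel
  obtain ⟨c, hcZ, hcΦ⟩ : ∃ c ∈ Subgroup.center G, c ∉ frattini G := by
    by_contra hcon
    push Not at hcon
    have h1 := Subgroup.card_le_of_le (show Subgroup.center G ≤ frattini G from hcon)
    rw [hΦ, hkc] at h1
    nlinarith
  obtain ⟨M, hMi, ⟨e⟩⟩ := split_off hG hcZ (hZe c hcZ) hcΦ
  have hMcard : Nat.card M = p ^ 3 := by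
    have := M.card_mul_index
    rw [hMi, hcard, pow_succ] at this
    exact Nat.eq_of_mul_eq_mul_right hp.out.pos this
  have hMc : ∃ x y : M, x * y ≠ y * x := by
    by_contra hcon
    push Not at hcon
    obtain ⟨x, y, hxy⟩ := hc
    apply hxy
    apply e.injective
    rw [map_mul, map_mul]
    exact Prod.ext (hcon _ _) (mul_comm _ _)
  rcases hr with ⟨hp2, hr⟩ | ⟨hp2, hr⟩
  · left
    refine ⟨hp.out.odd_of_ne_two hp2, Shrink.{0} M, inferInstance, inferInstance, ?_, ?_, ?_, ?_⟩
    · have h1 : Nat.card (Shrink.{0} M) = p ^ 3 := by rw [← hMcard]; exact Nat.card_congr (equivShrink.{0} M).symm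
      refine Cfsg.Agent.H1.FusZ.extraspecial_of_cube h1 ?_
      obtain ⟨x, y, hxy⟩ := hMc
      refine ⟨Shrink.mulEquiv.symm x, Shrink.mulEquiv.symm y, fun h => hxy ?_⟩
      rw [← map_mul, ← map_mul] at h
      exact Shrink.mulEquiv.symm.injective h
    · rw [← hMcard]; exact Nat.card_congr (equivShrink.{0} M).symm
    · intro x
      apply Shrink.mulEquiv.injective
      rw [map_pow, map_one]
      exact Subtype.ext (hr _)
    · exact ⟨e.trans (MulEquiv.prodCongr Shrink.mulEquiv.symm (MulEquiv.refl _))⟩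
  · right; left
    subst hp2
    refine ⟨rfl, ?_⟩
    obtain ⟨e'⟩ := q8_of hMcard hMc (fun x hx => by
      intro h
      refine hr (x : G) ?_ (congrArg Subtype.val h)
      intro hxc
      exact hx (Subgroup.mem_center_iff.2 fun g => Subtype.ext (Subgroup.mem_center_iff.1 hxc g)))
    exact ⟨e.trans (MulEquiv.prodCongr e' (MulEquiv.refl _))⟩

end core

section final

variable {Ω : Type*} [Group Ω] {S H : Subgroup Ω} [Finite S] {F : FusionSystem S} {p : ℕ} [hp : Fact p.Prime]

theorem s5186 (hS : IsPGroup p S) (hF : F.IsSaturated p) (hH : F.IsEssential p H) (hcard : Nat.card H = p ^ 3) :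
    Cfsg.IsElementaryAbelian p H ∨ (Odd p ∧ Cfsg.IsExtraspecial p ↥H ∧ ∀ x ∈ H, x ^ p = 1) ∨
      (p = 2 ∧ Nonempty (↥H ≃* QuaternionGroup 2)) := by
  have hHS : H ≤ S := hH.1.1
  haveI : Finite H := finite_of_le hHS
  rcases cube (hS.to_le hHS) (noCh hS hF hH) hcard with ⟨h1, h2⟩ | ⟨h1, h2, h3⟩ | h
  · exact Or.inl ⟨⟨⟨h1⟩⟩, fun x hx => congrArg Subtype.val (h2 ⟨x, hx⟩)⟩
  · exact Or.inr (Or.inl ⟨h1, h2, fun x hx => congrArg Subtype.val (h3 ⟨x, hx⟩)⟩)
  · exact Or.inr (Or.inr h)

theorem s5188 (hS : IsPGroup p S) (hF : F.IsSaturated p) (hH : F.IsEssential p H) (hcard : Nat.card H = p ^ 4) :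
    Cfsg.IsElementaryAbelian p H ∨
      Nonempty (↥H ≃* Multiplicative (ZMod (p ^ 2) × ZMod p × ZMod p)) ∨
      ((p = 2 ∨ p = 3) ∧ Nonempty (↥H ≃* Multiplicative (ZMod (p ^ 2) × ZMod (p ^ 2)))) ∨
      (Odd p ∧ ∃ (E : Type) (_ : Group E) (_ : Finite E), Cfsg.IsExtraspecial p E ∧ Nat.card E = p ^ 3 ∧
        (∀ x : E, x ^ p = 1) ∧ Nonempty (↥H ≃* E × Multiplicative (ZMod p))) ∨
      (p = 2 ∧ Nonempty (↥H ≃* QuaternionGroup 2 × Multiplicative (ZMod 2))) ∨
      (¬ IsMulCommutative ↥H ∧ (∀ x ∈ H, x ^ (p ^ 2) = 1) ∧ IsCyclic ↥(Subgroup.center ↥H) ∧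
        Nat.card (Subgroup.center ↥H) = p ^ 2) := by
  have hp1 := hp.out.one_lt
  have hHS : H ≤ S := hH.1.1
  haveI : Finite H := finite_of_le hHS
  have hHp : IsPGroup p H := hS.to_le hHS
  have hN := noCh hS hF hH
  have hge := index_ge hHp hN
  have hmul := (frattini H).card_mul_index
  rw [hcard] at hmul
  obtain ⟨k, hk, hkc⟩ := (Nat.dvd_prime_pow hp.out).1 (Dvd.intro_left _ hmul)
  have hk2 : 2 ≤ k := by
    rw [hkc] at hge
    exact (Nat.pow_le_pow_iff_right hp1).1 hge
  rw [hkc] at hmul
  by_cases hk4 : k = 4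
  · left
    subst hk4
    have : Nat.card (frattini H) = 1 := Nat.eq_of_mul_eq_mul_right (pow_pos hp.out.pos 4) (by rw [hmul, one_mul])
    obtain ⟨h1, h2⟩ := elem_of_bot hHp (Subgroup.card_eq_one.1 this)
    exact ⟨⟨⟨h1⟩⟩, fun x hx => congrArg Subtype.val (h2 ⟨x, hx⟩)⟩
  by_cases hk3 : k = 3
  · subst hk3
    have hΦ : Nat.card (frattini H) = p := Nat.eq_of_mul_eq_mul_right (pow_pos hp.out.pos 3) (by rw [hmul]; ring)
    by_cases hc : ∀ x y : H, x * y = y * x
    · exact Or.inr (Or.inl (ab_rank3 hHp hc hΦ hcard))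
    · push Not at hc
      rcases four3 hHp hN hcard hΦ hc with h | h | ⟨h1, h2, h3⟩
      · exact Or.inr (Or.inr (Or.inr (Or.inl h)))
      · exact Or.inr (Or.inr (Or.inr (Or.inr (Or.inl h))))
      · refine Or.inr (Or.inr (Or.inr (Or.inr (Or.inr ⟨?_, fun x hx => congrArg Subtype.val (h1 ⟨x, hx⟩), h2, h3⟩))))
        intro hcom
        obtain ⟨x, y, hxy⟩ := hc
        exact hxy (hcom.is_comm.comm x y)
  · have hk2' : k = 2 := by omega
    subst hk2'
    have hΦ : Nat.card (frattini H) = p ^ 2 := Nat.eq_of_mul_eq_mul_right (pow_pos hp.out.pos 2) (by rw [hmul]; ring)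
    by_cases hc : ∀ x y : H, x * y = y * x
    · rcases s5187 hS hF hH hc hkc.le with ⟨-, h⟩ | ⟨h3, j, ⟨e⟩⟩
      · rw [hcard] at h
        have := Nat.pow_right_injective hp.out.two_le h
        omega
      · right; right; left
        have h1 := Nat.card_congr e.toEquiv
        rw [hcard, Nat.card_eq_of_bijective Multiplicative.toAdd ⟨Multiplicative.toAdd.injective, Multiplicative.toAdd.surjective⟩,
          Nat.card_prod, Nat.card_zmod, ← pow_add] at h1
        have h2 := Nat.pow_right_injective hp.out.two_le h1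
        have hj : j = 2 := by omega
        subst hj
        exact ⟨by omega, ⟨e⟩⟩
    · push Not at hc
      exact (no_rank2 hHp hN hcard hΦ hc).elim

end final

end Cfsg.Agent.H1.Sm
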