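import Cfsg.Statements.S4143
import Cfsg.Agent.H23_MaxCl

set_option autoImplicit false
open Cfsg

namespace Cfsg.Agent.S4143

open Subgroup

/-- Let X be a finite p-group of order p^n containing a non-abelian subgroup B of order p³ with C_X(B) ≤ B. Then X has nilpotency class n − 1 (maximal class). -/
theorem result {X : Type*} [Group X] [Finite X] {p : ℕ} [Fact p.Prime] (n : ℕ) (hX : Nat.card X = p ^ n)
    (B : Subgroup X) (hB : Nat.card B = p ^ 3) (hBna : ¬ IsMulCommutative B) (hC : Subgroup.centralizer (B : Set X) ≤ B) :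
    Group.nilpotencyClass X = n - 1 := by

  classical
  have hp := (Fact.out : p.Prime)
  have hXp : IsPGroup p X := IsPGroup.of_card hX
  haveI := hXp.isNilpotent
  have hBna' : ∃ x ∈ B, ∃ y ∈ B, x * y ≠ y * x := by
    by_contra h
    push Not at h
    exact hBna ⟨⟨fun a b => Subtype.ext (h a a.2 b b.2)⟩⟩
  obtain ⟨hcZ, hZB, hCq⟩ := H23.MaxCl.stepB hXp B hB hBna' hC
  haveI : Nontrivial X := by
    obtain ⟨x, -, y, -, hxy⟩ := hBna'
    exact ⟨⟨x, y, fun h => hxy (by rw [h])⟩⟩
  have hn : 3 ≤ n := by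
    have h1 : Nat.card B ≤ Nat.card X := Subgroup.card_le_card_group B
    rw [hB, hX] at h1
    exact (Nat.pow_le_pow_iff_right hp.one_lt).1 h1
  obtain ⟨k, rfl⟩ := Nat.exists_eq_add_of_le' hn
  rw [nilpotencyClass_eq_quotient_center_plus_one, H23.MaxCl.main (p := p) k (X ⧸ center X) ?_ _ ?_ hCq]
  · omega
  · have := (center X).card_eq_card_quotient_mul_card_subgroup
    rw [hX, hcZ, show k + 3 = (k + 2) + 1 by ring, pow_succ] at this
    exact (Nat.eq_of_mul_eq_mul_right hp.pos this).symm
  · have h1 := H2.Card.card_mul_relIndex hZB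
    have h2 : Nat.card (B.map (QuotientGroup.mk' (center X))) = (center X).relIndex B := by
      rw [relIndex, ← MonoidHom.domRestrict_range, ← index_ker, MonoidHom.ker_domRestrict, QuotientGroup.ker_mk']
    rw [hcZ, hB, ← h2, show p ^ 3 = p * p ^ 2 by ring] at h1
    exact Nat.eq_of_mul_eq_mul_left hp.pos h1


end Cfsg.Agent.S4143
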