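import Cfsg.Statements.S4398
import Cfsg.Agent.H23_Taussky
import Cfsg.Agent.S4143


set_option autoImplicit false
open Cfsg

namespace Cfsg.Agent.S4398


/-- Let S be a finite 2-group of sectional 2-rank at most 2 that contains a subgroup isomorphic to the dihedral group of order 8 or to the quaternion group of order 8. Then S is dihedral of order at least 8, semidihedral of order at least 16 (order 2^(k+4) with an element a of order 2^(k+3) and an involution b with b a b⁻¹ = a^(2^(k+2)−1)), or generalized quaternion of order at least 8. -/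
theorem result {S : Type*} [Group S] [Finite S] (h2 : IsPGroup 2 S) (hr : Cfsg.SectionalPRankLE 2 2 S)
    (hsub : ∃ H : Subgroup S, Nonempty (↥H ≃* DihedralGroup 4) ∨ Nonempty (↥H ≃* QuaternionGroup 2)) :
    ((∃ k : ℕ, Nonempty (S ≃* DihedralGroup (2 ^ (k + 2)))) ∨
      (∃ k : ℕ, Nat.card S = 2 ^ (k + 4) ∧ ∃ a b : S, orderOf a = 2 ^ (k + 3) ∧ orderOf b = 2 ∧ b * a * b⁻¹ = a ^ (2 ^ (k + 2) - 1)) ∨
      (∃ k : ℕ, Nonempty (S ≃* QuaternionGroup (2 ^ (k + 1))))) := by

  have h2' : Fact (Nat.Prime 2) := ⟨Nat.prime_two⟩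
  obtain ⟨n, hn⟩ := IsPGroup.iff_card.1 h2
  obtain ⟨H, hH8, hna⟩ : ∃ H : Subgroup S, Nat.card H = 8 ∧ ¬ ∀ a b : H, a * b = b * a := by
    obtain ⟨H, ⟨⟨e⟩⟩ | ⟨⟨e⟩⟩⟩ := hsub
    · refine ⟨H, ?_, ?_⟩
      · rw [Nat.card_congr e.toEquiv, DihedralGroup.nat_card]
      · intro h
        have h1 := h (e.symm (DihedralGroup.r 1)) (e.symm (DihedralGroup.sr 0))
        rw [← map_mul, ← map_mul] at h1
        have h2 := e.symm.injective h1
        revert h2
        decide
    · refine ⟨H, ?_, ?_⟩
      · rw [Nat.card_congr e.toEquiv, Nat.card_eq_fintype_card, QuaternionGroup.card]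
      · intro h
        have h1 := h (e.symm (QuaternionGroup.a 1)) (e.symm (QuaternionGroup.xa 0))
        rw [← map_mul, ← map_mul] at h1
        have h2 := e.symm.injective h1
        revert h2
        decide
  have hcl := S4143.result (p := 2) n hn H (by rw [hH8]; norm_num) (fun h => hna h.is_comm.comm)
    (H23.Taussky.centralizer_le h2 hr hH8 (fun h => hna (fun a b => Subtype.ext (h a a.2 b b.2))))
  have h3 : 3 ≤ n := by
    have : 8 ∣ 2 ^ n := by
      rw [← hn, ← hH8]; exact Subgroup.card_subgroup_dvd_card H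
    by_contra h
    have h4 : n ≤ 2 := by omega
    have h5 : 2 ^ n ≤ 2 ^ 2 := Nat.pow_le_pow_right (by norm_num) h4
    have := Nat.le_of_dvd (by positivity) this
    omega
  exact H23.Taussky.shape h3 hn hcl


end Cfsg.Agent.S4398
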