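import Mathlib
import Cfsg.Agent.H1_SmE
import Cfsg.Agent.S4398
import Cfsg.Agent.S1896
import Cfsg.Agent.H1_FratFit
import Cfsg.Agent.H2_MetaAct

set_option autoImplicit false
set_option linter.all false

/-! metacyclic 2-groups in fusion systems -/

universe u

namespace Cfsg.Agent.H1.Mt

open Cfsg Cfsg.FusionSystem Cfsg.Agent.H27.Fus Cfsg.Agent.H27.Grp Cfsg.Agent.H1.FusA Cfsg.Agent.H1.Sm
open scoped commutatorElement

section grp

theorem sectional {T : Type u} [Group T] [Finite T] (hm : IsMetacyclic T) : SectionalPRankLE 2 2 T := by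
  intro H N hN A hA hA2
  have h1 : IsMetacyclic H := Cfsg.Agent.H2.MetaAct.meta_subgroup hm H
  have h2 : IsMetacyclic (H ⧸ N) := Cfsg.Agent.H2.Meta2.metacyclic_of_surj (QuotientGroup.mk' N) (QuotientGroup.mk'_surjective N) h1
  have h3 : IsMetacyclic A := Cfsg.Agent.H2.MetaAct.meta_subgroup h2 A
  have h4 := Cfsg.Agent.H2.Meta2.card_le_of_exp (e := 2) h3 (fun x => Subtype.ext (hA2 x x.2)) (by norm_num)
  exact h4.trans (by norm_num)

theorem no_sub {T : Type u} [Group T] [Finite T] (h2 : IsPGroup 2 T) (hm : IsMetacyclic T)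
    (hd : ¬ ∃ m : ℕ, Nonempty (T ≃* DihedralGroup m)) (hq : ¬ ∃ m : ℕ, Nonempty (T ≃* QuaternionGroup m))
    (hsd : ¬ Cfsg.IsQuasiDihedral T) (H : Subgroup T) :
    ¬ (Nonempty (H ≃* DihedralGroup 4) ∨ Nonempty (H ≃* QuaternionGroup 2)) := by
  intro hH
  rcases Cfsg.Agent.S4398.result h2 (sectional hm) ⟨H, hH⟩ with ⟨k, h⟩ | ⟨k, hk, a, b, ha, hb, hab⟩ | ⟨k, h⟩
  · exact hd ⟨_, h⟩
  · exact hsd ⟨k + 3, by omega, hk, a, b, ha, hb, hab⟩
  · exact hq ⟨_, h⟩

end grp

section main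

variable {Ω : Type u} [Group Ω] {S T P : Subgroup Ω} [Finite S] {F : FusionSystem S}

theorem le_radical (hS : IsPGroup 2 S) (hT : F.StronglyClosed T) (hm : IsMetacyclic T)
    (hno : ∀ H : Subgroup T, ¬ (Nonempty (H ≃* DihedralGroup 4) ∨ Nonempty (H ≃* QuaternionGroup 2)))
    (hc : F.IsCentric P) (hr : F.IsRadical 2 P) : T ≤ P := by
  haveI : Fact (Nat.Prime 2) := ⟨Nat.prime_two⟩
  have hPS := hc.1
  have hTS := hT.1
  haveI : Finite P := finite_of_le hPS
  haveI : Finite T := finite_of_le hTS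
  have hPp : IsPGroup 2 P := hS.to_le hPS
  by_contra hTP
  have hPT : P ≤ Subgroup.normalizer (T : Set Ω) := fun x hx => (StronglyClosed.le_normalizer hT (hPS hx)).2
  set A := F.autGroup P with hA
  have hAinv : ∀ α ∈ A, ∀ x : P, (x : Ω) ∈ T → (α x : Ω) ∈ T := fun α hα x hx => autInv_of_strong hPS hT α hα x hx
  set T0 : Subgroup P := T.subgroupOf P with hT0
  have hT0m : ∀ x : P, x ∈ T0 ↔ (x : Ω) ∈ T := fun x => Iff.rfl
  haveI hT0n : T0.Normal := ⟨fun x hx g => by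
    rw [hT0m] at hx ⊢
    exact (Subgroup.mem_normalizer_iff.1 (hPT g.2) _).1 hx⟩
  set Φ : Subgroup P := (frattini T0).map T0.subtype with hΦ
  have hΦT : Φ ≤ T0 := Subgroup.map_subtype_le _
  have hT0inv : ∀ α ∈ A, ∀ x ∈ T0, α x ∈ T0 := fun α hα x hx => hAinv α hα x hx
  -- restriction of automorphisms
  let res : ∀ α ∈ A, MulAut T0 := fun α hα =>
    { toFun := fun x => ⟨α x, hT0inv α hα x x.2⟩
      invFun := fun x => ⟨α⁻¹ x, hT0inv α⁻¹ (A.inv_mem hα) x x.2⟩
      left_inv := fun x => Subtype.ext (MulAut.inv_apply_self P α x)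
      right_inv := fun x => Subtype.ext (MulAut.apply_inv_self P α x)
      map_mul' := fun x y => Subtype.ext (map_mul α (x : P) y) }
  have hres : ∀ α (hα : α ∈ A) (x : T0), ((res α hα x : T0) : P) = α x := fun α hα x => rfl
  have hΦinv : ∀ α ∈ A, ∀ x ∈ Φ, α x ∈ Φ := by
    rintro α hα _ ⟨y, hy, rfl⟩
    exact ⟨res α hα y, char_apply frattini_characteristic _ hy, rfl⟩
  -- conjugation by elements of `T`
  have hcT : ∀ t ∈ T, ∀ hN : t ∈ Subgroup.normalizer (P : Set Ω), ∀ x : P, x⁻¹ * cjA P t hN x ∈ T0 := by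
    intro t ht hN x
    rw [hT0m]
    show (x : Ω)⁻¹ * (t * x * t⁻¹) ∈ T
    have e : (x : Ω)⁻¹ * (t * x * t⁻¹) = ((x : Ω)⁻¹ * t * x) * t⁻¹ := by group
    rw [e]
    refine T.mul_mem ?_ (T.inv_mem ht)
    have := (Subgroup.mem_normalizer_iff.1 (hPT (P.inv_mem x.2)) t).1 ht
    rwa [inv_inv] at this
  have hcA : ∀ t ∈ T, ∀ hN : t ∈ Subgroup.normalizer (P : Set Ω), cjA P t hN ∈ A := fun t ht hN =>
    autInducedBy_le_autGroup F hPS (cjA_mem hN (hTS ht))
  -- the two chain stabilizers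
  let C2 : ℕ → Subgroup P := fun i => if i = 0 then Φ else if i = 1 then T0 else ⊤
  have hC2inv : ∀ i ≤ 2, ∀ α ∈ A, ∀ x ∈ C2 i, α x ∈ C2 i := by
    intro i hi α hα x hx
    interval_cases i
    · exact hΦinv α hα x hx
    · exact hT0inv α hα x hx
    · trivial
  set Y := stab A C2 2 hC2inv with hY
  have hYm : ∀ α, α ∈ Y ↔ α ∈ A ∧ (∀ x ∈ T0, x⁻¹ * α x ∈ Φ) ∧ ∀ x : P, x⁻¹ * α x ∈ T0 := by
    intro α
    constructor
    · rintro ⟨h1, h2⟩
      exact ⟨h1, h2 0 (by norm_num), fun x => h2 1 (by norm_num) x trivial⟩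
    · rintro ⟨h1, h2, h3⟩
      refine ⟨h1, fun i hi x hx => ?_⟩
      interval_cases i
      · exact h2 x hx
      · exact h3 x
  have hYp : IsPGroup 2 Y := stab_isPGroup hPp (by
      intro i hi
      interval_cases i
      · exact hΦT
      · exact le_top) (Cfsg.Agent.H1.FratFit.frattini_of_normal_le T0) rfl
  -- `MulAut T0` is not a 2-group
  have hnot : ¬ IsPGroup 2 (MulAut T0) := by
    intro haut
    let C1 : ℕ → Subgroup P := fun i => if i = 0 then T0 else ⊤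
    have hC1inv : ∀ i ≤ 1, ∀ α ∈ A, ∀ x ∈ C1 i, α x ∈ C1 i := by
      intro i hi α hα x hx
      interval_cases i
      · exact hT0inv α hα x hx
      · trivial
    set X := stab A C1 1 hC1inv with hX
    have hXm : ∀ α, α ∈ X ↔ α ∈ A ∧ ∀ x : P, x⁻¹ * α x ∈ T0 := by
      intro α
      constructor
      · rintro ⟨h1, h2⟩
        exact ⟨h1, fun x => h2 0 (by norm_num) x trivial⟩
      · rintro ⟨h1, h3⟩
        refine ⟨h1, fun i hi x hx => ?_⟩
        interval_cases i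
        exact h3 x
    have hXp : IsPGroup 2 X := by
      rintro ⟨α, hα⟩
      have hα' := (hXm α).1 hα
      obtain ⟨k, hk⟩ := haut (res α hα'.1)
      have hpow : ∀ n : ℕ, ∀ x : T0, (((res α hα'.1) ^ n : MulAut T0) x : P) = (α ^ n) x := by
        intro n
        induction n with
        | zero => intro x; rfl
        | succ n ih =>
          intro x
          rw [pow_succ', MulAut.mul_apply, hres α hα'.1, ih, pow_succ', MulAut.mul_apply]
      have hmem : α ^ 2 ^ k ∈ Y := by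
        refine (hYm _).2 ⟨A.pow_mem hα'.1 _, fun x hx => ?_, ((hXm _).1 (X.pow_mem hα _)).2⟩
        have := hpow (2 ^ k) ⟨x, hx⟩
        rw [hk] at this
        have h2 : (α ^ 2 ^ k) x = x := this.symm
        rw [h2, inv_mul_cancel]
        exact Φ.one_mem
      obtain ⟨j, hj⟩ := hYp ⟨_, hmem⟩
      refine ⟨k + j, Subtype.ext ?_⟩
      show α ^ 2 ^ (k + j) = 1
      rw [pow_add, pow_mul]
      exact congrArg Subtype.val hj
    exact hTP (le_of_radical hS hc hr hTS hPT stab_le stab_normal hXp (fun t ht hN =>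
      (hXm _).2 ⟨hcA t ht hN, hcT t ht hN⟩))
  have hmT0 : IsMetacyclic T0 := by
    let f : T0 →* T := { toFun := fun x => ⟨((x : P) : Ω), x.2⟩, map_one' := rfl, map_mul' := fun _ _ => rfl }
    have hf : Function.Injective f := fun a b h => Subtype.ext (Subtype.ext (congrArg (Subtype.val : T → Ω) h))
    exact Cfsg.Agent.H2.MetaAct.meta_congr (MonoidHom.ofInjective hf).symm (Cfsg.Agent.H2.MetaAct.meta_subgroup hm _)
  rcases Cfsg.Agent.S1896.result (hPp.to_subgroup T0) hmT0 hnot with ⟨⟨e⟩⟩ | ⟨n, ⟨e⟩⟩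
  · let f : T0 →* T := { toFun := fun x => ⟨((x : P) : Ω), x.2⟩, map_one' := rfl, map_mul' := fun _ _ => rfl }
    have hf : Function.Injective f := fun a b h => Subtype.ext (Subtype.ext (congrArg (Subtype.val : T → Ω) h))
    exact hno f.range (Or.inr ⟨(MonoidHom.ofInjective hf).symm.trans e⟩)
  -- homocyclic case
  have hab : ∀ x y : T0, x * y = y * x := fun x y => e.injective (by rw [map_mul, map_mul, mul_comm])
  have hexp : ∀ x : T0, x ^ (2 ^ n) = 1 := by
    intro x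
    apply e.injective
    rw [map_pow, map_one]
    have hz : ∀ z : Multiplicative (ZMod (2 ^ n)), z ^ (2 ^ n) = 1 := by
      intro z
      have h1 := pow_card_eq_one' (x := z)
      rwa [Nat.card_eq_of_bijective Multiplicative.toAdd ⟨Multiplicative.toAdd.injective, Multiplicative.toAdd.surjective⟩, Nat.card_zmod] at h1
    exact Prod.ext (hz _) (hz _)
  have hcard : Nat.card T0 = 2 ^ n * 2 ^ n := by
    rw [Nat.card_congr e.toEquiv, Nat.card_prod, Nat.card_eq_of_bijective Multiplicative.toAdd ⟨Multiplicative.toAdd.injective, Multiplicative.toAdd.surjective⟩, Nat.card_zmod]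
  have hn0 : n ≠ 0 := by
    rintro rfl
    apply hnot
    have h1 : Nat.card T0 = 1 := by rw [hcard]; norm_num
    intro α
    refine ⟨0, ?_⟩
    ext x
    have h2 : Subsingleton T0 := (Nat.card_eq_one_iff_unique.1 h1).1
    rw [h2.elim x 1, map_one, map_one]
  -- an element acting nontrivially on `T0/Φ`
  obtain ⟨t0, ht0, hN0, ht0Y⟩ : ∃ t ∈ T, ∃ hN : t ∈ Subgroup.normalizer (P : Set Ω), cjA P t hN ∉ Y := by
    by_contra hcon
    push Not at hcon
    exact hTP (le_of_radical hS hc hr hTS hPT stab_le stab_normal hYp hcon)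
  obtain ⟨t, ht, hN, htY, htY2⟩ : ∃ t ∈ T, ∃ hN : t ∈ Subgroup.normalizer (P : Set Ω), cjA P t hN ∉ Y ∧ (cjA P t hN) ^ 2 ∈ Y := by
    have hpow : ∀ n : ℕ, (cjA P t0 hN0) ^ n = cjA P (t0 ^ n) (Subgroup.pow_mem _ hN0 n) := fun n =>
      (map_pow P.normalizerMonoidHom ⟨t0, hN0⟩ n).symm
    obtain ⟨e, he⟩ := exists_pow_card hS
    have hex : ∃ m, (cjA P t0 hN0) ^ (2 ^ m) ∈ Y := ⟨e, by
      have : (cjA P t0 hN0) ^ (2 ^ e) = 1 := by
        rw [hpow]
        ext x
        rw [cjA_apply, he t0 (hTS ht0)]; simp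
      rw [this]; exact Y.one_mem⟩
    classical
    have h1 := Nat.find_spec hex
    have h2 := fun k (hk : k < Nat.find hex) => Nat.find_min hex hk
    set m := Nat.find hex
    have hm0 : m ≠ 0 := by
      intro h0
      rw [h0, pow_zero, pow_one] at h1
      exact ht0Y h1
    obtain ⟨j, hj⟩ := Nat.exists_eq_succ_of_ne_zero hm0
    refine ⟨t0 ^ (2 ^ j), Subgroup.pow_mem _ ht0 _, Subgroup.pow_mem _ hN0 _, ?_, ?_⟩
    · rw [← hpow]
      exact h2 j (by omega)
    · rw [← hpow, ← pow_mul, ← pow_succ, ← Nat.succ_eq_add_one, ← hj]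
      exact h1
  -- `t² ∈ P`
  have ht2P : t ^ 2 ∈ P := by
    have h1 : (cjA P t hN) ^ 2 ∈ Inn P := rad_le hr stab_le stab_normal hYp htY2
    obtain ⟨w, hw⟩ := h1
    have h2 : ∀ x : P, (w : Ω) * x * (w : Ω)⁻¹ = t ^ 2 * x * (t ^ 2)⁻¹ := by
      intro x
      have h3 := congrArg (fun g : MulAut P => ((g x : P) : Ω)) hw
      have h4 : (((cjA P t hN) ^ 2) x : Ω) = t ^ 2 * x * (t ^ 2)⁻¹ := by
        rw [pow_two, MulAut.mul_apply, cjA_apply, cjA_apply]; simp only [pow_two, mul_inv_rev, mul_assoc]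
      exact h3.trans h4
    have h3 : (w : Ω)⁻¹ * t ^ 2 ∈ centralizerIn S P := by
      refine ⟨S.mul_mem (S.inv_mem (hPS w.2)) (S.pow_mem (hTS ht) 2), ?_⟩
      show (w : Ω)⁻¹ * t ^ 2 ∈ Subgroup.centralizer (P : Set Ω)
      rw [Subgroup.mem_centralizer_iff]
      intro x hx
      have h5 := h2 ⟨x, hx⟩
      have h6 : (w : Ω) * x = t ^ 2 * x * (t ^ 2)⁻¹ * w := by rw [← h5]; group
      calc x * ((w : Ω)⁻¹ * t ^ 2) = (w : Ω)⁻¹ * ((w : Ω) * x) * ((w : Ω)⁻¹ * t ^ 2) := by group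
        _ = (w : Ω)⁻¹ * (t ^ 2 * x * (t ^ 2)⁻¹ * w) * ((w : Ω)⁻¹ * t ^ 2) := by rw [h6]
        _ = (w : Ω)⁻¹ * t ^ 2 * x := by group
    have h4 := IsCentric.cen_le hc h3
    have := P.mul_mem w.2 h4
    rwa [mul_inv_cancel_left] at this
  have hab' : ∀ x ∈ T ⊓ P, ∀ y ∈ T ⊓ P, x * y = y * x := by
    rintro x ⟨hxT, hxP⟩ y ⟨hyT, hyP⟩
    exact congrArg (fun z : T0 => ((z : P) : Ω)) (hab ⟨⟨x, hxP⟩, hxT⟩ ⟨⟨y, hyP⟩, hyT⟩)
  have hexp' : ∀ x ∈ T ⊓ P, x ^ (2 ^ n) = 1 := by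
    rintro x ⟨hxT, hxP⟩
    exact congrArg (fun z : T0 => ((z : P) : Ω)) (hexp ⟨⟨x, hxP⟩, hxT⟩)
  obtain ⟨e0, he0T, he0⟩ : ∃ e0 ∈ T0, e0⁻¹ * cjA P t hN e0 ∉ Φ := by
    by_contra hcon
    push Not at hcon
    exact htY ((hYm _).2 ⟨hcA t ht hN, hcon, hcT t ht hN⟩)
  set τ := res (cjA P t hN) (hcA t ht hN) with hτ
  set ee : T0 := ⟨e0, he0T⟩ with hee
  have heτ : ee⁻¹ * τ ee ∉ frattini T0 := fun h => he0 ⟨_, h, rfl⟩
  have heΦ : ee ∉ frattini T0 := by
    intro h
    exact heτ (Subgroup.mul_mem _ (Subgroup.inv_mem _ h) (char_apply frattini_characteristic _ h))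
  have hT0p : IsPGroup 2 T0 := hPp.to_subgroup T0
  have hidx : (frattini T0).index ≤ 2 ^ 2 := by
    have := Cfsg.Agent.H2.Meta2.card_le_of_exp (e := 2) (X := T0 ⧸ frattini T0)
      (Cfsg.Agent.H2.Meta2.metacyclic_of_surj (QuotientGroup.mk' _) (QuotientGroup.mk'_surjective _) hmT0) (by
        intro x
        induction x using QuotientGroup.induction_on with
        | H w =>
          rw [← QuotientGroup.mk_pow, QuotientGroup.eq_one_iff]
          exact Cfsg.Agent.H2.PGroup.pow_mem_frattini hT0p w) (by norm_num)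
    rw [Subgroup.index]
    exact this.trans (by norm_num)
  have hfn : τ ee ∉ Subgroup.zpowers ee ⊔ frattini T0 := by
    intro h
    -- τ ee = ee ^ k φ
    have hsup : ∀ w ∈ Subgroup.zpowers ee ⊔ frattini T0, w ∈ frattini T0 ∨ ee⁻¹ * w ∈ frattini T0 := by
      intro w hw
      rw [← SetLike.mem_coe, Subgroup.mul_normal] at hw
      obtain ⟨_, ⟨k, rfl⟩, φ, hφ, rfl⟩ := hw
      rcases Int.even_or_odd k with ⟨j, hj⟩ | ⟨j, hj⟩
      · left
        refine Subgroup.mul_mem _ ?_ hφ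
        show ee ^ k ∈ _
        rw [hj, ← two_mul, zpow_mul]
        exact Subgroup.zpow_mem _ (by exact_mod_cast Cfsg.Agent.H2.PGroup.pow_mem_frattini hT0p ee) j
      · right
        have e1 : ee⁻¹ * (ee ^ k * φ) = ee ^ (2 * j) * φ := by
          rw [hj, ← mul_assoc, ← zpow_neg_one, ← zpow_add]; congr 2; ring
        show ee⁻¹ * (ee ^ k * φ) ∈ _
        rw [e1]
        refine Subgroup.mul_mem _ ?_ hφ
        rw [zpow_mul]
        exact Subgroup.zpow_mem _ (by exact_mod_cast Cfsg.Agent.H2.PGroup.pow_mem_frattini hT0p ee) j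
    rcases hsup _ h with h | h
    · apply heΦ
      have := char_apply frattini_characteristic τ⁻¹ h
      rwa [MulAut.inv_apply_self] at this
    · exact heτ h
  have hgen := Cfsg.Agent.H2.MetaAct.gen_of hT0p hidx heΦ hfn
  -- move to `Ω`
  set a : Ω := (e0 : Ω) with ha
  set b : Ω := t * a * t⁻¹ with hb
  have haTP : a ∈ T ⊓ P := ⟨he0T, e0.2⟩
  have hbTP : b ∈ T ⊓ P := ⟨((τ ee : T0)).2, ((τ ee : T0) : P).2⟩
  have ht2TP : t ^ 2 ∈ T ⊓ P := ⟨T.pow_mem ht 2, ht2P⟩
  have hgen' : ∀ w ∈ T ⊓ P, ∃ i j : ℤ, w = a ^ i * b ^ j := by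
    let K : Subgroup Ω :=
      { carrier := {w | w ∈ T ⊓ P ∧ ∃ i j : ℤ, w = a ^ i * b ^ j}
        one_mem' := ⟨Subgroup.one_mem _, 0, 0, by simp⟩
        mul_mem' := by
          rintro _ _ ⟨h1, i, j, rfl⟩ ⟨h2, i', j', rfl⟩
          refine ⟨Subgroup.mul_mem _ h1 h2, i + i', j + j', ?_⟩
          have hc : b ^ j * a ^ i' = a ^ i' * b ^ j :=
            hab' _ (Subgroup.zpow_mem _ hbTP j) _ (Subgroup.zpow_mem _ haTP i')
          rw [zpow_add, zpow_add]
          calc a ^ i * b ^ j * (a ^ i' * b ^ j') = a ^ i * (b ^ j * a ^ i') * b ^ j' := by group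
            _ = a ^ i * a ^ i' * (b ^ j * b ^ j') := by rw [hc]; group
        inv_mem' := by
          rintro _ ⟨h1, i, j, rfl⟩
          refine ⟨Subgroup.inv_mem _ h1, -i, -j, ?_⟩
          have hc : b ^ (-j) * a ^ (-i) = a ^ (-i) * b ^ (-j) :=
            hab' _ (Subgroup.zpow_mem _ hbTP _) _ (Subgroup.zpow_mem _ haTP _)
          rw [mul_inv_rev, ← zpow_neg, ← zpow_neg, hc] }
    have hle : (⊤ : Subgroup T0) ≤ K.comap (P.subtype.comp T0.subtype) := by
      rw [← hgen, Subgroup.closure_le]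
      rintro w (rfl | rfl)
      · exact ⟨haTP, 1, 0, by simp [ha, hee]⟩
      · refine ⟨hbTP, 0, 1, ?_⟩
        simp only [zpow_zero, zpow_one, one_mul]
        rfl
    rintro w ⟨hwT, hwP⟩
    have := hle (show (⟨⟨w, hwP⟩, hwT⟩ : T0) ∈ ⊤ from trivial)
    exact this.2
  clear_value b
  have hcardTP : Nat.card (T ⊓ P : Subgroup Ω) = 2 ^ n * 2 ^ n := by
    rw [← hcard]
    refine Nat.card_congr ⟨fun x => ⟨⟨x.1, x.2.2⟩, x.2.1⟩, fun x => ⟨((x : P) : Ω), x.2, (x : P).2⟩, fun x => rfl, fun x => rfl⟩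
  have hoa : orderOf a ≤ 2 ^ n := orderOf_le_of_pow_eq_one (by positivity) (hexp' a haTP)
  have hob : orderOf b ≤ 2 ^ n := orderOf_le_of_pow_eq_one (by positivity) (hexp' b hbTP)
  haveI hfTP : Finite (T ⊓ P : Subgroup Ω) := finite_of_le inf_le_left
  have hoa' : IsOfFinOrder a := isOfFinOrder_iff_pow_eq_one.2 ⟨2 ^ n, by positivity, hexp' a haTP⟩
  have hob' : IsOfFinOrder b := isOfFinOrder_iff_pow_eq_one.2 ⟨2 ^ n, by positivity, hexp' b hbTP⟩
  haveI : Finite (Subgroup.zpowers a) := hoa'.finite_zpowers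
  haveI : Finite (Subgroup.zpowers b) := hob'.finite_zpowers
  let g : Subgroup.zpowers a × Subgroup.zpowers b → (T ⊓ P : Subgroup Ω) := fun x =>
    ⟨x.1 * x.2, Subgroup.mul_mem _ ((Subgroup.zpowers_le.2 haTP) x.1.2) ((Subgroup.zpowers_le.2 hbTP) x.2.2)⟩
  have hgs : Function.Surjective g := by
    rintro ⟨w, hw⟩
    obtain ⟨i, j, hij⟩ := hgen' w hw
    exact ⟨(⟨a ^ i, i, rfl⟩, ⟨b ^ j, j, rfl⟩), Subtype.ext hij.symm⟩
  have hcp : Nat.card (Subgroup.zpowers a × Subgroup.zpowers b) = orderOf a * orderOf b := by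
    rw [Nat.card_prod, Nat.card_zpowers, Nat.card_zpowers]
  have hle1 : 2 ^ n * 2 ^ n ≤ orderOf a * orderOf b := by
    rw [← hcp, ← hcardTP]; exact Nat.card_le_card_of_surjective g hgs
  have hpos : 0 < 2 ^ n := by positivity
  have hoa2 : orderOf a = 2 ^ n := by
    by_contra hne
    have h1 : orderOf a < 2 ^ n := lt_of_le_of_ne hoa hne
    have : orderOf a * orderOf b < 2 ^ n * 2 ^ n := by
      calc orderOf a * orderOf b ≤ orderOf a * 2 ^ n := Nat.mul_le_mul_left _ hob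
        _ < 2 ^ n * 2 ^ n := Nat.mul_lt_mul_of_pos_right h1 hpos
    omega
  have hob2 : orderOf b = 2 ^ n := by
    by_contra hne
    have h1 : orderOf b < 2 ^ n := lt_of_le_of_ne hob hne
    have : orderOf a * orderOf b < 2 ^ n * 2 ^ n := by
      rw [hoa2]
      exact Nat.mul_lt_mul_of_pos_left h1 hpos
    omega
  have hginj : Function.Injective g := by
    have : Function.Bijective g := hgs.bijective_of_nat_card_le (by rw [hcp, hcardTP, hoa2, hob2])
    exact this.1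
  have hind : ∀ i j : ℤ, a ^ i = b ^ j → a ^ i = 1 := by
    intro i j hij
    have h1 : g (⟨a ^ i, i, rfl⟩, 1) = g (1, ⟨b ^ j, j, rfl⟩) := by
      apply Subtype.ext
      show a ^ i * 1 = 1 * b ^ j
      rw [mul_one, one_mul, hij]
    have h2 := congrArg Prod.fst (hginj h1)
    exact congrArg Subtype.val h2
  -- `t` swaps `a` and `b`
  have htb : t * b * t⁻¹ = a := by
    rw [hb]
    have h1 : t ^ 2 * a = a * t ^ 2 := hab' _ ht2TP _ haTP
    calc t * (t * a * t⁻¹) * t⁻¹ = t ^ 2 * a * (t ^ 2)⁻¹ := by simp only [pow_two, mul_inv_rev, mul_assoc]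
      _ = a := by rw [h1]; group
  obtain ⟨i, j, hij⟩ := hgen' _ ht2TP
  have hconj : ∀ i j : ℤ, t * (a ^ i * b ^ j) * t⁻¹ = b ^ i * a ^ j := by
    intro i j
    have h1 : t * (a ^ i * b ^ j) * t⁻¹ = (t * a * t⁻¹) ^ i * (t * b * t⁻¹) ^ j := by
      have h2 : (t * a * t⁻¹) ^ i = t * a ^ i * t⁻¹ := conj_zpow
      have h3 : (t * b * t⁻¹) ^ j = t * b ^ j * t⁻¹ := conj_zpow
      rw [h2, h3]; group
    rw [h1, htb, ← hb]
  have hcomm : ∀ i j : ℤ, b ^ i * a ^ j = a ^ j * b ^ i := fun i j =>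
    hab' _ (Subgroup.zpow_mem _ hbTP i) _ (Subgroup.zpow_mem _ haTP j)
  have hij2 : a ^ (i - j) = b ^ (i - j) := by
    have h1 : t * t ^ 2 * t⁻¹ = t ^ 2 := by group
    rw [hij, hconj, hcomm] at h1
    have h2 : a ^ (i - j) = a ^ (-j) * (a ^ i * b ^ j) * b ^ (-j) := by
      rw [show i - j = -j + i by ring, zpow_add]; group
    rw [h2, ← h1, zpow_sub]; group
  have hai : a ^ i = a ^ j := by
    have := hind _ _ hij2
    rwa [zpow_sub, mul_inv_eq_one] at this
  -- the involution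
  set s : Ω := a ^ (-j) * t with hs
  have hsT : s ∈ T := T.mul_mem (T.zpow_mem haTP.1 _) ht
  have hs2 : s * s = 1 := by
    have h1 : s * s = a ^ (-j) * (t * a ^ (-j) * t⁻¹) * t ^ 2 := by rw [hs]; group
    rw [h1, hij, hai, ← conj_zpow, ← hb]
    have h2 : b ^ (-j) * a ^ j = a ^ j * b ^ (-j) := hcomm _ _
    calc a ^ (-j) * b ^ (-j) * (a ^ j * b ^ j) = a ^ (-j) * (b ^ (-j) * a ^ j) * b ^ j := by group
      _ = 1 := by rw [h2]; group
  obtain ⟨m, rfl⟩ := Nat.exists_eq_succ_of_ne_zero hn0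
  set u : Ω := a ^ (2 ^ m) with hu
  set v : Ω := b ^ (2 ^ m) with hv
  have hu1 : u ≠ 1 := by
    intro h
    have := orderOf_le_of_pow_eq_one (by positivity) h
    rw [hoa2, Nat.succ_eq_add_one, pow_succ] at this
    have : 0 < 2 ^ m := by positivity
    omega
  have hv1 : v ≠ 1 := by
    intro h
    have := orderOf_le_of_pow_eq_one (by positivity) h
    rw [hob2, Nat.succ_eq_add_one, pow_succ] at this
    have : 0 < 2 ^ m := by positivity
    omega
  have hu2 : u * u = 1 := by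
    rw [hu, ← pow_two, ← pow_mul, ← pow_succ, ← Nat.succ_eq_add_one, ← hoa2]; exact pow_orderOf_eq_one a
  have hv2 : v * v = 1 := by
    rw [hv, ← pow_two, ← pow_mul, ← pow_succ, ← Nat.succ_eq_add_one, ← hob2]; exact pow_orderOf_eq_one b
  have huT : u ∈ T ⊓ P := Subgroup.pow_mem _ haTP _
  have hvT : v ∈ T ⊓ P := Subgroup.pow_mem _ hbTP _
  have huv : u * v = v * u := hab' _ huT _ hvT
  have huvne : u * v ≠ 1 := by
    intro h
    have h1 : u = v := by
      have : u * v * v = v := by rw [h, one_mul]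
      rwa [mul_assoc, hv2, mul_one] at this
    have h2 : a ^ ((2 ^ m : ℕ) : ℤ) = b ^ ((2 ^ m : ℕ) : ℤ) := by rw [zpow_natCast, zpow_natCast]; exact h1
    have h3 := hind _ _ h2
    rw [zpow_natCast] at h3
    exact hu1 h3
  have hsu : s * u * s⁻¹ = v := by
    have h1 : s * u * s⁻¹ = a ^ (-j) * (t * u * t⁻¹) * a ^ j := by rw [hs]; group
    have h2 : t * u * t⁻¹ = v := by rw [hu, hv, hb, conj_pow]
    rw [h1, h2]
    have h3 : v * a ^ j = a ^ j * v := hab' _ hvT _ (Subgroup.zpow_mem _ haTP j)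
    rw [mul_assoc, h3]; group
  clear_value s u v
  have hsi : s⁻¹ = s := inv_eq_of_mul_eq_one_left hs2
  have hui : u⁻¹ = u := inv_eq_of_mul_eq_one_left hu2
  set r : Ω := u * s with hr'
  have hsus : s * u = v * s := by
    have := congrArg (· * s) hsu
    simpa [mul_assoc] using this
  have hrr : r * r = u * v := by
    rw [hr']
    calc u * s * (u * s) = u * (s * u) * s := by group
      _ = u * v * (s * s) := by rw [hsus]; group
      _ = u * v := by rw [hs2, mul_one]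
  have hr4 : r ^ 4 = 1 := by
    calc r ^ 4 = (r * r) * (r * r) := by simp only [pow_succ, pow_zero, one_mul, mul_assoc]
      _ = u * (v * u) * v := by rw [hrr]; group
      _ = (u * u) * (v * v) := by rw [← huv]; group
      _ = 1 := by rw [hu2, hv2, mul_one]
  have hor : orderOf r = 4 := by
    have := orderOf_eq_prime_pow (p := 2) (n := 1) (x := r) (by rw [pow_one, pow_two, hrr]; exact huvne) (by simpa using hr4)
    simpa using this
  have hsr : s * r * s⁻¹ = r⁻¹ := by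
    rw [hr', mul_inv_rev, hsi, hui]
    calc s * (u * s) * s = s * u * (s * s) := by group
      _ = s * u := by rw [hs2, mul_one]
  have hsz : s ∉ Subgroup.zpowers r := by
    rintro ⟨k, hk⟩
    have hk' : r ^ k = s := hk
    have h1 : s * r = r * s := by rw [← hk', ← zpow_one_add, ← zpow_add_one, add_comm]
    have h2 : r = r⁻¹ := by
      rw [← hsr, h1]; group
    have h3 : r * r = 1 := by
      nth_rewrite 2 [h2]
      exact mul_inv_cancel r
    exact huvne (hrr ▸ h3)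
  have hrT : r ∈ T := T.mul_mem huT.1 hsT
  have e4 := Cfsg.Agent.H4.Dih.dihEquiv (G := T) 4 ⟨s, hsT⟩ ⟨r, hrT⟩ (by rw [Subgroup.orderOf_mk]; exact hor)
    (Subtype.ext hs2) (Subtype.ext hsr) (by
      rintro ⟨k, hk⟩
      exact hsz ⟨k, congrArg Subtype.val hk⟩)
  exact hno _ (Or.inl ⟨e4.symm⟩)

theorem s5235 (hS : IsPGroup 2 S) (hF : F.IsSaturated 2) (hT : F.StronglyClosed T) (hm : IsMetacyclic T)
    (hd : ¬ ∃ m : ℕ, Nonempty (T ≃* DihedralGroup m)) (hq : ¬ ∃ m : ℕ, Nonempty (T ≃* QuaternionGroup m))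
    (hsd : ¬ Cfsg.IsQuasiDihedral T) : F.IsNormal T := by
  haveI : Fact (Nat.Prime 2) := ⟨Nat.prime_two⟩
  haveI : Finite T := finite_of_le hT.1
  exact normal_of_strong hS hF hT (fun P hc hr => le_radical hS hT hm (no_sub (hS.to_le hT.1) hm hd hq hsd) hc hr)

end main

end Cfsg.Agent.H1.Mt
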