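import Mathlib
import Cfsg.Agent.H1_MtA
import Cfsg.Agent.H27_FusAb

set_option autoImplicit false
set_option linter.all false

/-! metacyclic 2-groups: inner fusion systems -/

universe u

namespace Cfsg.Agent.H1.Mt

open Cfsg Cfsg.FusionSystem Cfsg.Agent.H27.Fus Cfsg.Agent.H27.Grp Cfsg.Agent.H1.FusA Cfsg.Agent.H1.Sm

variable {Ω : Type u} [Group Ω] {S T P : Subgroup Ω} [Finite S] {F : FusionSystem S}

theorem inner_of_normal_S {p : ℕ} [Fact p.Prime] (hS : IsPGroup p S) (hF : F.IsSaturated p) (hn : F.IsNormal S)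
    (h : IsPGroup p (F.autGroup S)) (P : Subgroup Ω) : F.Hom P = (innerFusionSystem S).Hom P := by
  have h1 := aut_eq_inn hS hF h
  refine hom_eq_of_map fun f => ⟨fun hf => ?_, fun hf => ?_⟩
  · obtain ⟨g, hg, hgf⟩ := normal_S_ext hn hf
    have h2 : hg.aut ∈ Inn S := by
      rw [← h1]; exact hg.aut_mem
    obtain ⟨w, hw⟩ := h2
    rw [map_inner]
    refine ⟨hf.le, w, w.2, fun x hx => ?_⟩
    have h3 : g x = w * x * (w : Ω)⁻¹ := by
      have := congrArg (fun β : MulAut S => ((β ⟨x, hf.le hx⟩ : S) : Ω)) hw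
      exact this.symm
    rw [← hgf x hx, h3]
  · obtain ⟨h2, s, hs, h3⟩ := map_inner.1 hf
    exact (map_conj F h2 hs).congr fun x hx => (h3 x hx).symm

theorem s5212 (hS : IsPGroup 2 S) (hF : F.IsSaturated 2) (hm : Cfsg.IsMetacyclic ↥S)
    (hh : ¬ ∃ n : ℕ, Nonempty (S ≃* Multiplicative (ZMod (2 ^ n)) × Multiplicative (ZMod (2 ^ n))))
    (hd : ¬ ∃ m : ℕ, Nonempty (↥S ≃* DihedralGroup m)) (hq : ¬ ∃ m : ℕ, Nonempty (↥S ≃* QuaternionGroup m))
    (hsd : ¬ Cfsg.IsQuasiDihedral ↥S) : ∀ P : Subgroup Ω, F.Hom P = (Cfsg.innerFusionSystem S).Hom P := by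
  haveI : Fact (Nat.Prime 2) := ⟨Nat.prime_two⟩
  have hn := s5235 hS hF (strongly_top F) hm hd hq hsd
  have haut : IsPGroup 2 (MulAut S) := by
    by_contra hcon
    rcases Cfsg.Agent.S1896.result hS hm hcon with h | ⟨n, h⟩
    · exact hq ⟨2, h⟩
    · exact hh ⟨n, h⟩
  exact inner_of_normal_S hS hF hn (haut.to_subgroup _)

end Cfsg.Agent.H1.Mt
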