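import Cfsg.Statements.S1976
import Cfsg.Agent.H13_K2

set_option autoImplicit false
open Cfsg

namespace Cfsg.Agent.S1976

/-- Let P be a finite p-group. The K-sequence of P is eventually constant on each parity: from some index on, every even-indexed term equals the lower K-infinity subgroup and every odd-indexed term equals the upper K-infinity subgroup. -/
theorem result {P : Type*} [Group P] [Finite P] {p : ℕ} [Fact p.Prime] (hP : IsPGroup p P) : ∃ n : ℕ, ∀ m : ℕ, n ≤ m → Cfsg.kSeqEven P m = Cfsg.kInfLower P ∧ Cfsg.kSeqOdd P m = Cfsg.kInfUpper P := by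
  have h1 : Monotone (Cfsg.kSeqEven P) := by
    intro a b hab
    rw [H13.K.kSeqEven_eq, H13.K.kSeqEven_eq]
    exact H13.K.KE_mono _ hab
  have h2 : Antitone (Cfsg.kSeqOdd P) := by
    intro a b hab
    rw [H13.K.kSeqOdd_eq, H13.K.kSeqOdd_eq]
    exact H13.K.KO_anti _ hab
  obtain ⟨n1, hn1⟩ := WellFoundedGT.monotone_chain_condition (α := Subgroup P) ⟨_, h1⟩
  obtain ⟨n2, hn2⟩ := WellFoundedGT.monotone_chain_condition (α := (Subgroup P)ᵒᵈ)
    ⟨fun n => OrderDual.toDual (Cfsg.kSeqOdd P n), h2⟩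
  refine ⟨max n1 n2, fun m hm => ⟨?_, ?_⟩⟩
  · have h3 : Cfsg.kSeqEven P n1 = Cfsg.kSeqEven P m := hn1 m (le_trans (le_max_left _ _) hm)
    rw [← h3]
    apply le_antisymm (le_iSup (Cfsg.kSeqEven P) n1)
    refine iSup_le fun k => ?_
    have h4 : Cfsg.kSeqEven P n1 = Cfsg.kSeqEven P (max n1 k) := hn1 _ (le_max_left _ _)
    rw [h4]
    exact h1 (le_max_right _ _)
  · have h3 : Cfsg.kSeqOdd P n2 = Cfsg.kSeqOdd P m := hn2 m (le_trans (le_max_right _ _) hm)
    rw [← h3]
    apply le_antisymm _ (iInf_le (Cfsg.kSeqOdd P) n2)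
    refine le_iInf fun k => ?_
    have h4 : Cfsg.kSeqOdd P n2 = Cfsg.kSeqOdd P (max n2 k) := hn2 _ (le_max_left _ _)
    rw [h4]
    exact h2 (le_max_right _ _)

end Cfsg.Agent.S1976
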