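import Cfsg.Statements.S1978
import Cfsg.Agent.H13_K2
import Cfsg.Agent.S1976

set_option autoImplicit false
open Cfsg

namespace Cfsg.Agent.S1978

/-- Let P be a finite p-group. Each of the two K-infinity subgroups of P contains its own centralizer in P, which in turn contains Z(P); in particular both are nontrivial when P is. -/
theorem result {P : Type*} [Group P] [Finite P] {p : ℕ} [Fact p.Prime] (hP : IsPGroup p P) : Subgroup.centralizer (Cfsg.kInfLower P : Set P) ≤ Cfsg.kInfLower P ∧ Subgroup.center P ≤ Subgroup.centralizer (Cfsg.kInfLower P : Set P) ∧ Subgroup.centralizer (Cfsg.kInfUpper P : Set P) ≤ Cfsg.kInfUpper P ∧ Subgroup.center P ≤ Subgroup.centralizer (Cfsg.kInfUpper P : Set P) := by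
  classical
  obtain ⟨n, hn⟩ := S1976.result hP
  have hnil : Group.IsNilpotent (⊤ : Subgroup P) := (hP.to_subgroup ⊤).isNilpotent
  have hL : Cfsg.kInfLower P = H13.K.KE ⊤ n := by rw [← (hn n le_rfl).1, H13.K.kSeqEven_eq]
  have hU : Cfsg.kInfUpper P = H13.K.KO ⊤ (n + 1) := by rw [← (hn (n + 1) (Nat.le_succ n)).2, H13.K.kSeqOdd_eq]
  have hfinL : (Cfsg.kLowerStarFamily (H13.K.KO (⊤ : Subgroup P) n)).Finite := Set.toFinite _
  have hfinU : (Cfsg.kUpperStarFamily (H13.K.KE (⊤ : Subgroup P) n)).Finite := Set.toFinite _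
  have hb : ⁅(⊥ : Subgroup P), ⊥⁆ = ⊥ := Subgroup.commutator_bot_left _
  have hneL : (Cfsg.kLowerStarFamily (H13.K.KO (⊤ : Subgroup P) n)).Nonempty :=
    ⟨⊥, H13.K.abelian_mem_lower hb (by rw [Subgroup.normalizer_eq_top]; exact le_top)⟩
  have hneU : (Cfsg.kUpperStarFamily (H13.K.KE (⊤ : Subgroup P) n)).Nonempty :=
    ⟨⊥, H13.K.abelian_mem_upper hb (by rw [Subgroup.normalizer_eq_top]; exact le_top)⟩
  obtain ⟨B, hB⟩ := hfinL.exists_maximal hneL
  obtain ⟨C, hC⟩ := hfinU.exists_maximal hneU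
  have h1 := H13.K.centralizer_le_of_max_lower hnil le_top le_top hB.prop
    (fun D hD _ hBD => le_antisymm (hB.le_of_ge hD hBD) hBD)
  have h2 := H13.K.centralizer_le_of_max_upper hnil le_top le_top hC.prop
    (fun D hD _ hBD => le_antisymm (hC.le_of_ge hD hBD) hBD)
  rw [top_inf_eq] at h1 h2
  have h3 : B ≤ Cfsg.kInfLower P := by
    rw [hL]; exact H13.K.le_Low le_top hB.prop
  have h4 : C ≤ Cfsg.kInfUpper P := by
    rw [hU]; exact H13.K.le_Upp le_top hC.prop
  exact ⟨((Subgroup.centralizer_le h3).trans h1).trans h3, Subgroup.center_le_centralizer _,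
    ((Subgroup.centralizer_le h4).trans h2).trans h4, Subgroup.center_le_centralizer _⟩

end Cfsg.Agent.S1978
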