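import Mathlib

/-! Finite sets with a group action are determined by their numbers of fixed points. -/

set_option autoImplicit false

namespace Cfsg.Agent.H27.Bs

open Equiv

variable {K A B : Type*} [Group K]

/-- fixed points in `U` of the subgroup `H` -/
def fx (ρ : K →* Perm A) (U : Set A) (H : Subgroup K) : Set A := {x | x ∈ U ∧ ∀ h ∈ H, ρ h x = x}

def stb (ρ : K →* Perm A) (x : A) : Subgroup K where
  carrier := {k | ρ k x = x}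
  one_mem' := by simp
  mul_mem' := by
    intro a b ha hb
    simp only [Set.mem_setOf_eq] at *
    rw [map_mul, Perm.mul_apply, hb, ha]
  inv_mem' := by
    intro a ha
    simp only [Set.mem_setOf_eq] at *
    rw [map_inv, Perm.inv_eq_iff_eq, ha]

theorem mem_stb {ρ : K →* Perm A} {x : A} {k : K} : k ∈ stb ρ x ↔ ρ k x = x := Iff.rfl

def orb (ρ : K →* Perm A) (x : A) : Set A := {y | ∃ k, ρ k x = y}

theorem mem_fx {ρ : K →* Perm A} {U : Set A} {H : Subgroup K} {x : A} :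
    x ∈ fx ρ U H ↔ x ∈ U ∧ H ≤ stb ρ x := Iff.rfl

theorem ρ_mul (ρ : K →* Perm A) (a b : K) (x : A) : ρ (a * b) x = ρ a (ρ b x) := by
  rw [map_mul, Perm.mul_apply]

theorem ρ_inv_mul (ρ : K →* Perm A) (a : K) (x : A) : ρ a⁻¹ (ρ a x) = x := by
  rw [← ρ_mul, inv_mul_cancel, map_one, Perm.one_apply]

theorem ρ_mul_inv (ρ : K →* Perm A) (a : K) (x : A) : ρ a (ρ a⁻¹ x) = x := by
  rw [← ρ_mul, mul_inv_cancel, map_one, Perm.one_apply]

/-- the map between orbits of two points with the same stabilizer -/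
theorem exists_orb_map {ρ₁ : K →* Perm A} {ρ₂ : K →* Perm B} {a : A} {b : B} (h : stb ρ₁ a = stb ρ₂ b) :
    ∃ θ : A → B, (∀ k, θ (ρ₁ k a) = ρ₂ k b) ∧ Set.BijOn θ (orb ρ₁ a) (orb ρ₂ b) := by
  classical
  have key : ∀ k l, ρ₁ k a = ρ₁ l a → ρ₂ k b = ρ₂ l b := by
    intro k l hkl
    have h1 : l⁻¹ * k ∈ stb ρ₁ a := by
      rw [mem_stb, ρ_mul, hkl, ρ_inv_mul]
    rw [h, mem_stb, ρ_mul] at h1
    calc ρ₂ k b = ρ₂ l (ρ₂ l⁻¹ (ρ₂ k b)) := (ρ_mul_inv _ _ _).symm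
      _ = ρ₂ l b := by rw [h1]
  have key' : ∀ k l, ρ₂ k b = ρ₂ l b → ρ₁ k a = ρ₁ l a := by
    intro k l hkl
    have h1 : l⁻¹ * k ∈ stb ρ₂ b := by
      rw [mem_stb, ρ_mul, hkl, ρ_inv_mul]
    rw [← h, mem_stb, ρ_mul] at h1
    calc ρ₁ k a = ρ₁ l (ρ₁ l⁻¹ (ρ₁ k a)) := (ρ_mul_inv _ _ _).symm
      _ = ρ₁ l a := by rw [h1]
  let θ : A → B := fun x => if hx : ∃ k, ρ₁ k a = x then ρ₂ hx.choose b else b
  have hθ : ∀ k, θ (ρ₁ k a) = ρ₂ k b := by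
    intro k
    have hx : ∃ l, ρ₁ l a = ρ₁ k a := ⟨k, rfl⟩
    simp only [θ, dif_pos hx]
    exact key _ _ hx.choose_spec
  refine ⟨θ, hθ, ?_, ?_, ?_⟩
  · rintro _ ⟨k, rfl⟩; rw [hθ]; exact ⟨k, rfl⟩
  · rintro _ ⟨k, rfl⟩ _ ⟨l, rfl⟩ hkl
    rw [hθ, hθ] at hkl
    exact key' _ _ hkl
  · rintro _ ⟨k, rfl⟩
    exact ⟨ρ₁ k a, ⟨k, rfl⟩, hθ k⟩

theorem fx_diff [Finite A] (ρ : K →* Perm A) (U : Set A) (hU : ∀ k x, x ∈ U → ρ k x ∈ U) {a : A} (ha : a ∈ U)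
    (H : Subgroup K) : (fx ρ (U \ orb ρ a) H).ncard + (fx ρ (orb ρ a) H).ncard = (fx ρ U H).ncard := by
  have hsub : orb ρ a ⊆ U := by rintro _ ⟨k, rfl⟩; exact hU _ _ ha
  rw [← Set.ncard_union_eq]
  · congr 1
    ext x
    constructor
    · rintro (⟨h1, h2⟩ | ⟨h1, h2⟩)
      · exact ⟨h1.1, h2⟩
      · exact ⟨hsub h1, h2⟩
    · rintro ⟨h1, h2⟩
      by_cases h : x ∈ orb ρ a
      · exact Or.inr ⟨h, h2⟩
      · exact Or.inl ⟨⟨h1, h⟩, h2⟩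
  · rw [Set.disjoint_left]
    rintro x ⟨h1, -⟩ ⟨h2, -⟩
    exact h1.2 h2

theorem fx_orb [Finite A] [Finite B] {ρ₁ : K →* Perm A} {ρ₂ : K →* Perm B} {a : A} {b : B}
    (h : stb ρ₁ a = stb ρ₂ b) (H : Subgroup K) :
    (fx ρ₁ (orb ρ₁ a) H).ncard = (fx ρ₂ (orb ρ₂ b) H).ncard := by
  obtain ⟨θ, hθ, hb⟩ := exists_orb_map h
  have hst : ∀ k l, ρ₁ l (ρ₁ k a) = ρ₁ k a ↔ ρ₂ l (ρ₂ k b) = ρ₂ k b := by
    intro k l
    have e1 : ρ₁ l (ρ₁ k a) = ρ₁ k a ↔ k⁻¹ * l * k ∈ stb ρ₁ a := by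
      rw [mem_stb, mul_assoc, ρ_mul, ρ_mul]
      constructor
      · intro h; rw [h, ρ_inv_mul]
      · intro h
        have := congrArg (ρ₁ k) h
        rwa [ρ_mul_inv] at this
    have e2 : ρ₂ l (ρ₂ k b) = ρ₂ k b ↔ k⁻¹ * l * k ∈ stb ρ₂ b := by
      rw [mem_stb, mul_assoc, ρ_mul, ρ_mul]
      constructor
      · intro h; rw [h, ρ_inv_mul]
      · intro h
        have := congrArg (ρ₂ k) h
        rwa [ρ_mul_inv] at this
    rw [e1, e2, h]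
  have hbij : Set.BijOn θ (fx ρ₁ (orb ρ₁ a) H) (fx ρ₂ (orb ρ₂ b) H) := by
    refine ⟨?_, ?_, ?_⟩
    · rintro _ ⟨⟨k, rfl⟩, h2⟩
      refine ⟨hb.1 ⟨k, rfl⟩, fun l hl => ?_⟩
      rw [hθ]
      exact (hst k l).1 (h2 l hl)
    · exact hb.2.1.mono fun x hx => hx.1
    · rintro _ ⟨⟨k, rfl⟩, h2⟩
      exact ⟨ρ₁ k a, ⟨⟨k, rfl⟩, fun l hl => (hst k l).2 (h2 l hl)⟩, hθ k⟩
  rw [← hbij.image_eq, Set.ncard_image_of_injOn hbij.2.1]

theorem exists_equiv_aux [Finite K] [Finite A] [Finite B] [Nonempty B] (ρ₁ : K →* Perm A) (ρ₂ : K →* Perm B) :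
    ∀ (n : ℕ) (U : Set A) (V : Set B), (∀ k x, x ∈ U → ρ₁ k x ∈ U) → (∀ k x, x ∈ V → ρ₂ k x ∈ V) →
      U.ncard = n → (∀ H, (fx ρ₁ U H).ncard = (fx ρ₂ V H).ncard) →
      ∃ θ : A → B, Set.BijOn θ U V ∧ ∀ k x, x ∈ U → θ (ρ₁ k x) = ρ₂ k (θ x) := by
  classical
  intro n
  induction n using Nat.strong_induction_on with
  | _ n ih =>
  intro U V hU hV hn hfx
  have hcard : ∀ (U : Set A), (fx ρ₁ U ⊥) = U := by
    intro U; ext x; constructor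
    · exact fun h => h.1
    · intro h; refine ⟨h, fun k hk => ?_⟩
      rw [Subgroup.mem_bot] at hk; rw [hk]; simp
  have hcard' : ∀ (U : Set B), (fx ρ₂ U ⊥) = U := by
    intro U; ext x; constructor
    · exact fun h => h.1
    · intro h; refine ⟨h, fun k hk => ?_⟩
      rw [Subgroup.mem_bot] at hk; rw [hk]; simp
  have hUV : U.ncard = V.ncard := by
    have := hfx ⊥
    rwa [hcard, hcard'] at this
  rcases U.eq_empty_or_nonempty with rfl | hne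
  · have hV0 : V = ∅ := by
      rw [Set.ncard_empty] at hUV
      exact (Set.ncard_eq_zero (Set.toFinite _)).1 hUV.symm
    subst hV0
    obtain ⟨b⟩ := ‹Nonempty B›
    exact ⟨fun _ => b, by simp, by simp⟩
  · obtain ⟨a, haU, hamax⟩ := Set.exists_max_image U (fun x => Nat.card (stb ρ₁ x)) (Set.toFinite _) hne
    have h1 : (fx ρ₂ V (stb ρ₁ a)).Nonempty := by
      rw [← Set.ncard_pos, ← hfx, Set.ncard_pos]
      exact ⟨a, haU, fun h hh => hh⟩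
    obtain ⟨b, hbV, hab⟩ := h1
    have hab' : stb ρ₁ a ≤ stb ρ₂ b := hab
    have h2 : (fx ρ₁ U (stb ρ₂ b)).Nonempty := by
      rw [← Set.ncard_pos, hfx, Set.ncard_pos]
      exact ⟨b, hbV, fun h hh => hh⟩
    obtain ⟨a', haU', hba'⟩ := h2
    have hst : stb ρ₁ a = stb ρ₂ b := by
      apply Subgroup.eq_of_le_of_card_ge hab'
      exact (Subgroup.card_le_of_le (show stb ρ₂ b ≤ stb ρ₁ a' from hba')).trans (hamax a' haU')
    obtain ⟨θ₀, hθ₀, hb₀⟩ := exists_orb_map hst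
    have hsubA : orb ρ₁ a ⊆ U := by rintro _ ⟨k, rfl⟩; exact hU _ _ haU
    have hsubB : orb ρ₂ b ⊆ V := by rintro _ ⟨k, rfl⟩; exact hV _ _ hbV
    have haorb : a ∈ orb ρ₁ a := ⟨1, by simp⟩
    have hlt : (U \ orb ρ₁ a).ncard < n := by
      rw [← hn]
      apply Set.ncard_lt_ncard _ (Set.toFinite _)
      refine ⟨Set.diff_subset, fun h => ?_⟩
      exact (h haU).2 haorb
    have hU' : ∀ k x, x ∈ U \ orb ρ₁ a → ρ₁ k x ∈ U \ orb ρ₁ a := by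
      rintro k x ⟨h1, h2⟩
      refine ⟨hU k x h1, ?_⟩
      rintro ⟨l, hl⟩
      exact h2 ⟨k⁻¹ * l, by rw [ρ_mul, hl, ρ_inv_mul]⟩
    have hV' : ∀ k x, x ∈ V \ orb ρ₂ b → ρ₂ k x ∈ V \ orb ρ₂ b := by
      rintro k x ⟨h1, h2⟩
      refine ⟨hV k x h1, ?_⟩
      rintro ⟨l, hl⟩
      exact h2 ⟨k⁻¹ * l, by rw [ρ_mul, hl, ρ_inv_mul]⟩
    obtain ⟨θ', hb', hθ'⟩ := ih _ hlt (U \ orb ρ₁ a) (V \ orb ρ₂ b) hU' hV' rfl (by
      intro H
      have e1 := fx_diff ρ₁ U hU haU H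
      have e2 := fx_diff ρ₂ V hV hbV H
      have e3 := fx_orb hst H
      have e4 := hfx H
      omega)
    refine ⟨fun x => if x ∈ orb ρ₁ a then θ₀ x else θ' x, ⟨?_, ?_, ?_⟩, ?_⟩
    · intro x hx
      by_cases h : x ∈ orb ρ₁ a
      · simp only [if_pos h]; exact hsubB (hb₀.1 h)
      · simp only [if_neg h]; exact (hb'.1 ⟨hx, h⟩).1
    · intro x hx y hy hxy
      by_cases h : x ∈ orb ρ₁ a <;> by_cases h' : y ∈ orb ρ₁ a
      · simp only [if_pos h, if_pos h'] at hxy; exact hb₀.2.1 h h' hxy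
      · simp only [if_pos h, if_neg h'] at hxy
        exact absurd (hxy ▸ hb₀.1 h) (hb'.1 ⟨hy, h'⟩).2
      · simp only [if_neg h, if_pos h'] at hxy
        exact absurd (hxy.symm ▸ hb₀.1 h') (hb'.1 ⟨hx, h⟩).2
      · simp only [if_neg h, if_neg h'] at hxy; exact hb'.2.1 ⟨hx, h⟩ ⟨hy, h'⟩ hxy
    · intro y hy
      by_cases h : y ∈ orb ρ₂ b
      · obtain ⟨x, hx, rfl⟩ := hb₀.2.2 h
        exact ⟨x, hsubA hx, by simp only [if_pos hx]⟩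
      · obtain ⟨x, hx, rfl⟩ := hb'.2.2 ⟨hy, h⟩
        exact ⟨x, hx.1, by simp only [if_neg hx.2]⟩
    · intro k x hx
      by_cases h : x ∈ orb ρ₁ a
      · have h' : ρ₁ k x ∈ orb ρ₁ a := by
          obtain ⟨l, rfl⟩ := h; exact ⟨k * l, ρ_mul _ _ _ _⟩
        simp only [if_pos h, if_pos h']
        obtain ⟨l, rfl⟩ := h
        rw [← ρ_mul, hθ₀, hθ₀, ρ_mul]
      · have h' : ρ₁ k x ∉ orb ρ₁ a := (hU' k x ⟨hx, h⟩).2
        simp only [if_neg h, if_neg h']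
        exact hθ' k x ⟨hx, h⟩

/-- **Burnside**: equal marks imply equivalent permutation representations. -/
theorem exists_equiv [Finite K] [Finite A] (ρ₁ ρ₂ : K →* Perm A)
    (h : ∀ H : Subgroup K, Nat.card {x // H ≤ stb ρ₁ x} = Nat.card {x // H ≤ stb ρ₂ x}) :
    ∃ θ : Perm A, ∀ k x, θ (ρ₁ k x) = ρ₂ k (θ x) := by
  rcases isEmpty_or_nonempty A with hA | hA
  · exact ⟨1, fun _ x => (hA.false x).elim⟩
  obtain ⟨θ, hb, hθ⟩ := exists_equiv_aux ρ₁ ρ₂ _ Set.univ Set.univ (fun _ _ _ => trivial) (fun _ _ _ => trivial) rfl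
    (by
      intro H
      have e : ∀ ρ : K →* Perm A, (fx ρ Set.univ H).ncard = Nat.card {x // H ≤ stb ρ x} := by
        intro ρ
        rw [← Nat.card_coe_set_eq]
        apply Nat.card_congr
        exact Equiv.subtypeEquivRight fun x => ⟨fun h => h.2, fun h => ⟨trivial, h⟩⟩
      rw [e, e, h])
  exact ⟨Equiv.ofBijective θ (Set.bijOn_univ.1 hb), fun k x => hθ k x trivial⟩

end Cfsg.Agent.H27.Bs
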