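import Mathlib
import Cfsg.Agent.H27_Bs1

/-! Marks of permutation representations; adding orbits. -/

set_option autoImplicit false

namespace Cfsg.Agent.H27.Bs

open Equiv

universe u

section
variable {Γ : Type*} [Group Γ] {X Y : Type*}

def cj (g : Γ) (A : Subgroup Γ) : Subgroup Γ := A.map (MulAut.conj g).toMonoidHom

theorem mem_cj {g x : Γ} {A : Subgroup Γ} : x ∈ cj g A ↔ g⁻¹ * x * g ∈ A := by
  constructor
  · rintro ⟨y, hy, rfl⟩
    simpa [mul_assoc] using hy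
  · intro h
    exact ⟨_, h, by simp [mul_assoc]⟩

theorem cj_one (A : Subgroup Γ) : cj 1 A = A := by ext x; simp [mem_cj]

theorem cj_mul (g h : Γ) (A : Subgroup Γ) : cj g (cj h A) = cj (g * h) A := by
  ext x; simp [mem_cj, mul_assoc]

theorem card_cj (g : Γ) (A : Subgroup Γ) : Nat.card (cj g A) = Nat.card A := by
  apply Nat.card_congr
  exact (A.equivMapOfInjective _ (MulAut.conj g).injective).symm.toEquiv

/-- the mark of `A`: the number of fixed points -/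
noncomputable def mk (ρ : Γ →* Perm X) (A : Subgroup Γ) : ℕ := Nat.card {x // A ≤ stb ρ x}

theorem stb_smul (ρ : Γ →* Perm X) (g : Γ) (x : X) : stb ρ (ρ g x) = cj g (stb ρ x) := by
  ext k
  rw [mem_cj, mem_stb, mem_stb, ρ_mul, ρ_mul]
  constructor
  · intro h; rw [h, ρ_inv_mul]
  · intro h
    have := congrArg (ρ g) h
    rwa [ρ_mul_inv] at this

theorem cj_le_cj {g : Γ} {A B : Subgroup Γ} : cj g A ≤ cj g B ↔ A ≤ B := by
  constructor
  · intro h x hx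
    have : g * x * g⁻¹ ∈ cj g A := by rw [mem_cj]; simpa [mul_assoc] using hx
    have := h this
    rw [mem_cj] at this
    simpa [mul_assoc] using this
  · intro h x hx
    rw [mem_cj] at *; exact h hx

theorem mk_cj (ρ : Γ →* Perm X) (g : Γ) (A : Subgroup Γ) : mk ρ (cj g A) = mk ρ A := by
  symm
  apply Nat.card_congr
  refine Equiv.subtypeEquiv (ρ g) fun x => ?_
  rw [stb_smul, cj_le_cj]

def co (A : Subgroup Γ) : Γ →* Perm (Γ ⧸ A) := MulAction.toPermHom Γ (Γ ⧸ A)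

theorem stb_co (A : Subgroup Γ) (g : Γ) : stb (co A) (g : Γ ⧸ A) = cj g A := by
  ext k
  rw [mem_cj, mem_stb]
  show ((k * g : Γ) : Γ ⧸ A) = g ↔ _
  rw [eq_comm, QuotientGroup.eq, mul_assoc]

theorem mk_co_zero [Finite Γ] (A H : Subgroup Γ) (hc : Nat.card A ≤ Nat.card H) (h : ∀ g, H ≠ cj g A) :
    mk (co A) H = 0 := by
  unfold mk
  haveI : IsEmpty {x // H ≤ stb (co A) x} := by
    refine ⟨?_⟩
    rintro ⟨x, hx⟩
    obtain ⟨g, rfl⟩ := QuotientGroup.mk_surjective x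
    rw [stb_co] at hx
    apply h g
    apply Subgroup.eq_of_le_of_card_ge hx
    rw [card_cj]; exact hc
  exact Nat.card_of_isEmpty

theorem card_normalizer_eq [Finite Γ] (A : Subgroup Γ) :
    Nat.card (Subgroup.normalizer (A : Set Γ)) = Nat.card A * mk (co A) A := by
  rw [mk, ← Nat.card_prod]
  apply Nat.card_congr
  refine Equiv.trans ?_ (QuotientGroup.preimageMkEquivSubgroupProdSet A {x | A ≤ stb (co A) x})
  refine Equiv.subtypeEquivRight fun g => ?_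
  show _ ↔ A ≤ stb (co A) (g : Γ ⧸ A)
  rw [stb_co]
  have e : cj g A = A ↔ g ∈ Subgroup.normalizer (A : Set Γ) := by
    rw [Subgroup.mem_normalizer_iff]
    constructor
    · intro h x
      constructor
      · intro hx
        show g * x * g⁻¹ ∈ A
        rw [← h, mem_cj]; simpa [mul_assoc] using hx
      · intro hx
        have hx' : g * x * g⁻¹ ∈ A := hx
        rw [← h, mem_cj] at hx'
        simpa [mul_assoc] using hx'
    · intro h
      ext x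
      rw [mem_cj]
      have := h (g⁻¹ * x * g)
      rw [this]; simp [mul_assoc]
  rw [← e]
  constructor
  · intro h; rw [h]
  · intro h
    exact (Subgroup.eq_of_le_of_card_ge h (card_cj g A).le).symm

theorem mk_co_pos [Finite Γ] (A : Subgroup Γ) : 0 < mk (co A) A := by
  rcases Nat.eq_zero_or_pos (mk (co A) A) with h | h
  · have := card_normalizer_eq A
    rw [h, mul_zero] at this
    exact absurd this Nat.card_pos.ne'
  · exact h

theorem mk_co_dvd [Finite Γ] (A : Subgroup Γ) : mk (co A) A ∣ Nat.card Γ :=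
  (Dvd.intro_left _ (card_normalizer_eq A).symm).trans (Subgroup.card_subgroup_dvd_card _)

def add (ρ₁ : Γ →* Perm X) (ρ₂ : Γ →* Perm Y) : Γ →* Perm (X ⊕ Y) :=
  (Perm.sumCongrHom X Y).comp (ρ₁.prod ρ₂)

theorem stb_add_inl (ρ₁ : Γ →* Perm X) (ρ₂ : Γ →* Perm Y) (x : X) : stb (add ρ₁ ρ₂) (Sum.inl x) = stb ρ₁ x := by
  ext k
  rw [mem_stb, mem_stb]
  show Sum.inl (ρ₁ k x) = Sum.inl x ↔ _
  exact Sum.inl_injective.eq_iff

theorem stb_add_inr (ρ₁ : Γ →* Perm X) (ρ₂ : Γ →* Perm Y) (x : Y) : stb (add ρ₁ ρ₂) (Sum.inr x) = stb ρ₂ x := by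
  ext k
  rw [mem_stb, mem_stb]
  show Sum.inr (ρ₂ k x) = Sum.inr x ↔ _
  exact Sum.inr_injective.eq_iff

theorem mk_add [Finite X] [Finite Y] (ρ₁ : Γ →* Perm X) (ρ₂ : Γ →* Perm Y) (H : Subgroup Γ) :
    mk (add ρ₁ ρ₂) H = mk ρ₁ H + mk ρ₂ H := by
  unfold mk
  rw [← Nat.card_sum]
  apply Nat.card_congr
  refine (Equiv.subtypeSum).trans (Equiv.sumCongr ?_ ?_)
  · exact Equiv.subtypeEquivRight fun x => by rw [stb_add_inl]
  · exact Equiv.subtypeEquivRight fun x => by rw [stb_add_inr]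

def cp (c : ℕ) (ρ : Γ →* Perm X) : Γ →* Perm (Fin c × X) where
  toFun k := Equiv.prodCongr (Equiv.refl _) (ρ k)
  map_one' := by ext ⟨i, x⟩ <;> simp
  map_mul' a b := by ext ⟨i, x⟩ <;> simp

theorem stb_cp (c : ℕ) (ρ : Γ →* Perm X) (i : Fin c) (x : X) : stb (cp c ρ) (i, x) = stb ρ x := by
  ext k
  rw [mem_stb, mem_stb]
  show (i, ρ k x) = (i, x) ↔ _
  simp

theorem mk_cp [Finite X] (c : ℕ) (ρ : Γ →* Perm X) (H : Subgroup Γ) : mk (cp c ρ) H = c * mk ρ H := by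
  unfold mk
  have : c = Nat.card (Fin c) := by simp
  conv_rhs => rw [this]
  rw [← Nat.card_prod]
  apply Nat.card_congr
  refine ⟨fun z => (z.1.1, ⟨z.1.2, by have := z.2; rwa [stb_cp c ρ z.1.1 z.1.2] at this⟩),
    fun z => ⟨(z.1, z.2.1), by rw [stb_cp]; exact z.2.2⟩, fun z => rfl, fun z => rfl⟩

end

section
variable {Γ : Type u} [Group Γ] [Finite Γ]

theorem level (𝒜 : Subgroup Γ → Prop) (hconj : ∀ g A, 𝒜 A → 𝒜 (cj g A)) (n : ℕ) (hn : 0 < n) (Kf : Subgroup Γ → ℕ)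
    (hK : ∀ g A, Kf (cj g A) = Kf A) : ∀ (N : ℕ) {X : Type u} [Finite X] (ρ : Γ →* Perm X),
    (∀ x, 𝒜 (stb ρ x)) → (∀ A, 𝒜 A → Nat.card A = n → ∃ c, mk ρ A + c * mk (co A) A = Kf A) →
    Nat.card {A : Subgroup Γ // 𝒜 A ∧ Nat.card A = n ∧ mk ρ A ≠ Kf A} = N →
    ∃ (Y : Type u) (_ : Finite Y) (ρ' : Γ →* Perm Y), (∀ y, 𝒜 (stb ρ' y)) ∧
      (∀ A, 𝒜 A → Nat.card A = n → mk ρ' A = Kf A) ∧ (∀ A : Subgroup Γ, n < Nat.card A → mk ρ' A = mk ρ A) ∧
      (∀ A : Subgroup Γ, mk ρ A ≤ mk ρ' A) ∧ (∃ k, Nat.card Y = Nat.card X + k * (Nat.card Γ / n)) := by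
  intro N
  induction N using Nat.strong_induction_on with
  | _ N ih =>
  intro X _ ρ hg hc hN
  by_cases hbad : ∃ A : Subgroup Γ, 𝒜 A ∧ Nat.card A = n ∧ mk ρ A ≠ Kf A
  · obtain ⟨A, hA, hAn, hAK⟩ := hbad
    obtain ⟨c, hcA⟩ := hc A hA hAn
    let ρ₁ : Γ →* Perm (X ⊕ (Fin c × (Γ ⧸ A))) := add ρ (cp c (co A))
    have hm : ∀ H : Subgroup Γ, mk ρ₁ H = mk ρ H + c * mk (co A) H := by
      intro H; rw [mk_add, mk_cp]
    have hm1 : ∀ g, mk ρ₁ (cj g A) = Kf (cj g A) := by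
      intro g; rw [mk_cj, hK, hm, hcA]
    have hm2 : ∀ H : Subgroup Γ, Nat.card A ≤ Nat.card H → (∀ g, H ≠ cj g A) → mk ρ₁ H = mk ρ H := by
      intro H h1 h2; rw [hm, mk_co_zero A H h1 h2, mul_zero, add_zero]
    have hg1 : ∀ x, 𝒜 (stb ρ₁ x) := by
      rintro (x | ⟨i, x⟩)
      · rw [stb_add_inl]; exact hg x
      · obtain ⟨g, rfl⟩ := QuotientGroup.mk_surjective x
        rw [stb_add_inr, stb_cp, stb_co]; exact hconj g A hA
    have hc1 : ∀ B, 𝒜 B → Nat.card B = n → ∃ c, mk ρ₁ B + c * mk (co B) B = Kf B := by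
      intro B hB hBn
      by_cases h : ∃ g, B = cj g A
      · obtain ⟨g, rfl⟩ := h
        exact ⟨0, by rw [zero_mul, add_zero]; exact hm1 g⟩
      · push Not at h
        rw [hm2 B (by omega) h]; exact hc B hB hBn
    have hlt : Nat.card {B : Subgroup Γ // 𝒜 B ∧ Nat.card B = n ∧ mk ρ₁ B ≠ Kf B} < N := by
      rw [← hN]
      have e1 : Nat.card {B : Subgroup Γ // 𝒜 B ∧ Nat.card B = n ∧ mk ρ₁ B ≠ Kf B} =
          Set.ncard {B : Subgroup Γ | 𝒜 B ∧ Nat.card B = n ∧ mk ρ₁ B ≠ Kf B} := rfl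
      have e2 : Nat.card {B : Subgroup Γ // 𝒜 B ∧ Nat.card B = n ∧ mk ρ B ≠ Kf B} =
          Set.ncard {B : Subgroup Γ | 𝒜 B ∧ Nat.card B = n ∧ mk ρ B ≠ Kf B} := rfl
      rw [e1, e2]
      apply Set.ncard_lt_ncard _ (Set.toFinite _)
      constructor
      · rintro B ⟨h1, h2, h3⟩
        refine ⟨h1, h2, fun h4 => h3 ?_⟩
        by_cases h : ∃ g, B = cj g A
        · obtain ⟨g, rfl⟩ := h
          exact hm1 g
        · push Not at h
          rw [hm2 B (by omega) h, h4]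
      · intro h
        have := (h (⟨hA, hAn, hAK⟩ : A ∈ {B : Subgroup Γ | 𝒜 B ∧ Nat.card B = n ∧ mk ρ B ≠ Kf B})).2.2
        apply this
        have := hm1 1
        rwa [cj_one] at this
    obtain ⟨Y, hY, ρ', h1, h2, h3, h4, k, hk⟩ := ih _ hlt ρ₁ hg1 hc1 rfl
    refine ⟨Y, hY, ρ', h1, h2, fun B hB => ?_, fun B => ?_, k + c, ?_⟩
    · rw [h3 B hB, hm2 B (by omega)]
      intro g hg
      rw [hg, card_cj] at hB; omega
    · refine le_trans ?_ (h4 B)
      rw [hm]; exact Nat.le_add_right _ _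
    · have hq : Nat.card (Γ ⧸ A) = Nat.card Γ / n := by
        rw [← hAn, Subgroup.card_eq_card_quotient_mul_card_subgroup A, Nat.mul_div_cancel _ (hAn ▸ hn)]
      have hf : Nat.card (Fin c) = c := by simp
      rw [hk, Nat.card_sum, Nat.card_prod, hq, hf]
      ring
  · push Not at hbad
    exact ⟨X, inferInstance, ρ, hg, hbad, fun _ _ => rfl, fun _ => le_refl _, 0, by simp⟩

theorem choice {α : Type*} [Finite α] (r : Setoid α) (f w : α → ℕ) (W : ℕ) (hW : 0 < W) (hw : ∀ a, w a ∣ W)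
    (h : ∀ a, ∃ k : ℤ, ∀ b, r a b → (w b : ℤ) ∣ (f b : ℤ) - k) :
    ∃ Kf : α → ℕ, (∀ a b, r a b → Kf a = Kf b) ∧ ∀ b, ∃ c, f b + c * w b = Kf b := by
  classical
  haveI := Fintype.ofFinite α
  have h' : ∀ q : Quotient r, ∃ k : ℤ, ∀ b, Quotient.mk r b = q → (w b : ℤ) ∣ (f b : ℤ) - k := by
    intro q
    obtain ⟨k, hk⟩ := h q.out
    refine ⟨k, fun b hb => hk b ?_⟩
    apply Quotient.exact
    rw [Quotient.out_eq, hb]
  choose k hk using h'
  let M : ℕ := ∑ a, f a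
  have hM : ∀ b, f b ≤ M := fun b => Finset.single_le_sum (f := f) (fun _ _ => Nat.zero_le _) (Finset.mem_univ b)
  let Z : Quotient r → ℤ := fun q => k q + W * (M + |k q|)
  have hZ : ∀ q, (M : ℤ) ≤ Z q := by
    intro q
    have h1 : (1 : ℤ) ≤ W := by exact_mod_cast hW
    have h2 : -|k q| ≤ k q := neg_abs_le _
    have h3 : (0 : ℤ) ≤ M + |k q| := by positivity
    have h4 : (M + |k q| : ℤ) ≤ W * (M + |k q|) := by nlinarith
    show (M : ℤ) ≤ k q + W * (M + |k q|)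
    linarith
  refine ⟨fun a => (Z (Quotient.mk r a)).toNat, fun a b hab => ?_, fun b => ?_⟩
  · show (Z (Quotient.mk r a)).toNat = (Z (Quotient.mk r b)).toNat
    rw [Quotient.sound hab]
  · have h1 : (w b : ℤ) ∣ Z (Quotient.mk r b) - f b := by
      have h2 := hk (Quotient.mk r b) b rfl
      have h3 : (w b : ℤ) ∣ W * (M + |k (Quotient.mk r b)|) := Dvd.dvd.mul_right (by exact_mod_cast hw b) _
      have h4 : Z (Quotient.mk r b) - f b = W * (M + |k (Quotient.mk r b)|) - (f b - k (Quotient.mk r b)) := by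
        show k (Quotient.mk r b) + W * (M + |k (Quotient.mk r b)|) - f b = _
        ring
      rw [h4]; exact dvd_sub h3 h2
    obtain ⟨c, hc⟩ := h1
    have h5 : (0 : ℤ) ≤ Z (Quotient.mk r b) - f b := by
      have := hZ (Quotient.mk r b)
      have := hM b
      have : (f b : ℤ) ≤ M := by exact_mod_cast this
      linarith
    rcases Nat.eq_zero_or_pos (w b) with h0 | h0
    · refine ⟨0, ?_⟩
      rw [h0] at hc
      simp only [Nat.cast_zero, zero_mul] at hc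
      have : Z (Quotient.mk r b) = f b := by linarith
      show f b + 0 * w b = (Z (Quotient.mk r b)).toNat
      rw [this]; simp
    · have hc0 : 0 ≤ c := by
        by_contra hneg
        push Not at hneg
        have h0' : (0 : ℤ) < w b := by exact_mod_cast h0
        nlinarith
      refine ⟨c.toNat, ?_⟩
      have : ((f b + c.toNat * w b : ℕ) : ℤ) = ((Z (Quotient.mk r b)).toNat : ℤ) := by
        rw [Int.toNat_of_nonneg (le_trans (by positivity) (hZ _))]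
        push_cast
        rw [Int.toNat_of_nonneg hc0]
        linarith
      exact_mod_cast this

theorem step (𝒜 : Subgroup Γ → Prop) (hconj : ∀ g A, 𝒜 A → 𝒜 (cj g A)) (n : ℕ) (hn : 0 < n)
    (r : Setoid (Subgroup Γ)) (hr : ∀ g A, r A (cj g A)) {X : Type u} [Finite X] (ρ : Γ →* Perm X)
    (hg : ∀ x, 𝒜 (stb ρ x))
    (h : ∀ A, 𝒜 A → Nat.card A = n → ∃ k : ℤ, ∀ B, 𝒜 B → Nat.card B = n → r A B →
      (mk (co B) B : ℤ) ∣ (mk ρ B : ℤ) - k) :
    ∃ (Y : Type u) (_ : Finite Y) (ρ' : Γ →* Perm Y), (∀ y, 𝒜 (stb ρ' y)) ∧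
      (∀ A B, 𝒜 A → 𝒜 B → Nat.card A = n → Nat.card B = n → r A B → mk ρ' A = mk ρ' B) ∧
      (∀ A : Subgroup Γ, n < Nat.card A → mk ρ' A = mk ρ A) ∧ (∀ A : Subgroup Γ, mk ρ A ≤ mk ρ' A) ∧
      (∃ k, Nat.card Y = Nat.card X + k * (Nat.card Γ / n)) := by
  classical
  have hconj' : ∀ g A, 𝒜 (cj g A) ↔ 𝒜 A := by
    intro g A
    refine ⟨fun h => ?_, hconj g A⟩
    have := hconj g⁻¹ _ h
    rwa [cj_mul, inv_mul_cancel, cj_one] at this
  let α := {A : Subgroup Γ // 𝒜 A ∧ Nat.card A = n}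
  let r' : Setoid α := Setoid.comap Subtype.val r
  obtain ⟨K₀, hK1, hK2⟩ := choice r' (fun a => mk ρ a.1) (fun a => mk (co a.1) a.1) (Nat.card Γ) Nat.card_pos
    (fun a => mk_co_dvd a.1) (by
      rintro ⟨A, hA, hAn⟩
      obtain ⟨k, hk⟩ := h A hA hAn
      exact ⟨k, fun ⟨B, hB, hBn⟩ hab => hk B hB hBn hab⟩)
  let Kf : Subgroup Γ → ℕ := fun A => if hA : 𝒜 A ∧ Nat.card A = n then K₀ ⟨A, hA⟩ else 0
  have hKf : ∀ A (hA : 𝒜 A ∧ Nat.card A = n), Kf A = K₀ ⟨A, hA⟩ := fun A hA => by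
    simp only [Kf, dif_pos hA]
  obtain ⟨Y, hY, ρ', h1, h2, h3, h5, h4⟩ := level 𝒜 hconj n hn Kf (by
      intro g A
      by_cases hA : 𝒜 A ∧ Nat.card A = n
      · have hA' : 𝒜 (cj g A) ∧ Nat.card (cj g A) = n := ⟨hconj g A hA.1, by rw [card_cj]; exact hA.2⟩
        rw [hKf _ hA, hKf _ hA']
        exact (hK1 ⟨A, hA⟩ ⟨cj g A, hA'⟩ (hr g A)).symm
      · have hA' : ¬ (𝒜 (cj g A) ∧ Nat.card (cj g A) = n) := by
          rw [card_cj, hconj']; exact hA
        simp only [Kf, dif_neg hA, dif_neg hA']) _ ρ hg (by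
      intro A hA hAn
      obtain ⟨c, hc⟩ := hK2 ⟨A, hA, hAn⟩
      exact ⟨c, by rw [hKf A ⟨hA, hAn⟩]; exact hc⟩) rfl
  refine ⟨Y, hY, ρ', h1, fun A B hA hB hAn hBn hAB => ?_, h3, h5, h4⟩
  rw [h2 A hA hAn, h2 B hB hBn, hKf A ⟨hA, hAn⟩, hKf B ⟨hB, hBn⟩]
  exact hK1 ⟨A, hA, hAn⟩ ⟨B, hB, hBn⟩ hAB

end

end Cfsg.Agent.H27.Bs
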