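import Mathlib
import Cfsg.Agent.H27_Bs2
import Cfsg.Agent.H27_FusBasic
import Cfsg.Agent.H27_FusNorm

/-! Bisets attached to a fusion system: the admissible subgroups and stability. -/

set_option autoImplicit false

namespace Cfsg.Agent.H27.Bs

open Equiv Cfsg.FusionSystem Cfsg.Agent.H27.Fus

universe u

section
variable {Ω : Type*} [Group Ω] {S : Subgroup Ω} {F : FusionSystem S} {P Q R : Subgroup Ω} {f g : Ω → Ω}

/-- the graph subgroups of the maps of the system -/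
def IsD (F : FusionSystem S) (A : Subgroup (↥S × ↥S)) : Prop :=
  ∃ (Q : Subgroup Ω) (g : Ω → Ω), Map F Q g ∧ ∀ z : ↥S × ↥S, z ∈ A ↔ (z.1 : Ω) ∈ Q ∧ (z.2 : Ω) = g z.1

theorem IsD.mono {A B : Subgroup (↥S × ↥S)} (hB : IsD F B) (h : A ≤ B) : IsD F A := by
  obtain ⟨Q, g, hg, hgB⟩ := hB
  refine ⟨(A.map (MonoidHom.fst _ _)).map S.subtype, g, hg.mono ?_, fun z => ?_⟩
  · rintro _ ⟨_, ⟨z, hz, rfl⟩, rfl⟩
    exact ((hgB z).1 (h hz)).1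
  · constructor
    · intro hz
      exact ⟨⟨_, ⟨z, hz, rfl⟩, rfl⟩, ((hgB z).1 (h hz)).2⟩
    · rintro ⟨⟨_, ⟨w, hw, rfl⟩, hwz⟩, hz2⟩
      have h1 : w.1 = z.1 := Subtype.ext hwz
      have h2 : w.2 = z.2 := by
        apply Subtype.ext
        rw [((hgB w).1 (h hw)).2, hz2, h1]
      rwa [show z = w from Prod.ext h1.symm h2.symm]

def Push (P : Subgroup Ω) (f : Ω → Ω) (A B : Subgroup (↥S × ↥S)) : Prop :=
  (∀ z ∈ A, (z.1 : Ω) ∈ P) ∧ ∀ w : ↥S × ↥S, w ∈ B ↔ ∃ z ∈ A, (w.1 : Ω) = f z.1 ∧ w.2 = z.2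

theorem Push.symm (hf : Map F P f) {A B : Subgroup (↥S × ↥S)} (h : Push P f A B) : Push (im P f) (finv P f) B A := by
  refine ⟨fun w hw => ?_, fun z => ⟨fun hz => ?_, ?_⟩⟩
  · obtain ⟨z, hz, h1, -⟩ := (h.2 w).1 hw
    rw [h1]; exact hf.apply_mem_im (h.1 z hz)
  · exact ⟨(⟨f z.1, hf.mem (h.1 z hz)⟩, z.2), (h.2 _).2 ⟨z, hz, rfl, rfl⟩, (hf.iso.finv_left (h.1 z hz)).symm, rfl⟩
  · rintro ⟨w, hw, h1, h2⟩
    obtain ⟨z', hz', h3, h4⟩ := (h.2 w).1 hw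
    have : z = z' := by
      refine Prod.ext (Subtype.ext ?_) (h2.trans h4)
      rw [h1, h3, hf.iso.finv_left (h.1 z' hz')]
    rwa [this]

theorem Push.isD (hf : Map F P f) {A B : Subgroup (↥S × ↥S)} (h : Push P f A B) (hA : IsD F A) : IsD F B := by
  obtain ⟨Q, g, hg, hgA⟩ := hA
  have hQP : Q ≤ P := fun x hx => by
    have h1 := (hgA (⟨x, hg.le hx⟩, ⟨g x, hg.mem hx⟩)).2 ⟨hx, rfl⟩
    exact h.1 _ h1
  have hfQ := hf.mono hQP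
  refine ⟨im Q f, g ∘ finv Q f, hg.comp hfQ.iso.symm.map fun x hx => hfQ.iso.finv_mem hx, fun w => ?_⟩
  rw [h.2]
  constructor
  · rintro ⟨z, hz, h1, h2⟩
    have hzQ := ((hgA z).1 hz).1
    refine ⟨by rw [h1]; exact hfQ.apply_mem_im hzQ, ?_⟩
    show _ = g (finv Q f w.1)
    rw [h1, hfQ.iso.finv_left hzQ, h2]
    exact ((hgA z).1 hz).2
  · rintro ⟨h1, h2⟩
    obtain ⟨x, hx, hxw⟩ := hfQ.mem_im.1 h1
    refine ⟨(⟨x, hg.le hx⟩, w.2), (hgA _).2 ⟨hx, ?_⟩, hxw.symm, rfl⟩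
    show (w.2 : Ω) = g x
    rw [h2]
    show g (finv Q f w.1) = g x
    rw [← hxw, hfQ.iso.finv_left hx]

theorem Push.isD_iff (hf : Map F P f) {A B : Subgroup (↥S × ↥S)} (h : Push P f A B) : IsD F A ↔ IsD F B :=
  ⟨h.isD hf, (h.symm hf).isD hf.iso.symm.map⟩

def p2 (A : Subgroup (↥S × ↥S)) : Subgroup ↥S := A.map (MonoidHom.snd _ _)

theorem Push.p2 {A B : Subgroup (↥S × ↥S)} (hf : Map F P f) (h : Push P f A B) : p2 B = p2 A := by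
  ext y
  constructor
  · rintro ⟨w, hw, rfl⟩
    obtain ⟨z, hz, -, h2⟩ := (h.2 w).1 hw
    exact ⟨z, hz, h2.symm⟩
  · rintro ⟨z, hz, rfl⟩
    exact ⟨(⟨f z.1, hf.mem (h.1 z hz)⟩, z.2), (h.2 _).2 ⟨z, hz, rfl, rfl⟩, rfl⟩

theorem IsD.cj {A : Subgroup (↥S × ↥S)} (hA : IsD F A) (k : ↥S × ↥S) : IsD F (cj k A) := by
  obtain ⟨Q, g, hg, hgA⟩ := hA
  let A' : Subgroup (↥S × ↥S) := Bs.cj (k.1, 1) A
  have hp : Push Q (fun x => (k.1 : Ω) * x * (k.1 : Ω)⁻¹) A A' := by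
    refine ⟨fun z hz => ((hgA z).1 hz).1, fun w => ?_⟩
    rw [mem_cj]
    constructor
    · intro hw
      refine ⟨_, hw, ?_, by simp⟩
      simp [mul_assoc]
    · rintro ⟨z, hz, h1, h2⟩
      convert hz using 1
      refine Prod.ext (Subtype.ext ?_) ?_
      · simp [h1, mul_assoc]
      · simp [h2]
  have hA' : IsD F A' := hp.isD (map_conj F hg.le k.1.2) ⟨Q, g, hg, hgA⟩
  have he : Bs.cj k A = Bs.cj (1, k.2) A' := by
    rw [cj_mul]; simp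
  rw [he]
  obtain ⟨Q', g', hg', hgA'⟩ := hA'
  refine ⟨Q', fun x => (k.2 : Ω) * g' x * (k.2 : Ω)⁻¹, ?_, fun w => ?_⟩
  · exact (map_conj F hg'.im_le k.2.2).comp hg' fun x hx => hg'.apply_mem_im hx
  · rw [mem_cj, hgA']
    constructor
    · rintro ⟨h1, h2⟩
      refine ⟨by simpa using h1, ?_⟩
      have h3 : (k.2 : Ω)⁻¹ * w.2 * k.2 = g' w.1 := by simpa using h2
      show (w.2 : Ω) = k.2 * g' w.1 * (k.2 : Ω)⁻¹
      rw [← h3]; simp [mul_assoc]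
    · rintro ⟨h1, h2⟩
      refine ⟨by simpa using h1, ?_⟩
      simp [h2, mul_assoc]

def rel : Setoid (Subgroup (↥S × ↥S)) where
  r A B := ∃ s : ↥S, p2 B = cj s (p2 A)
  iseqv := by
    refine ⟨fun A => ⟨1, (cj_one _).symm⟩, ?_, ?_⟩
    · rintro A B ⟨s, hs⟩
      exact ⟨s⁻¹, by rw [hs, cj_mul, inv_mul_cancel, cj_one]⟩
    · rintro A B C ⟨s, hs⟩ ⟨t, ht⟩
      exact ⟨t * s, by rw [ht, hs, cj_mul]⟩

theorem p2_cj (k : ↥S × ↥S) (A : Subgroup (↥S × ↥S)) : p2 (cj k A) = cj k.2 (p2 A) := by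
  ext y
  constructor
  · rintro ⟨_, ⟨z, hz, rfl⟩, rfl⟩
    exact ⟨z.2, ⟨z, hz, rfl⟩, rfl⟩
  · rintro ⟨_, ⟨z, hz, rfl⟩, rfl⟩
    exact ⟨_, ⟨z, hz, rfl⟩, rfl⟩

theorem rel_cj (k : ↥S × ↥S) (A : Subgroup (↥S × ↥S)) : rel A (cj k A) := ⟨k.2, p2_cj k A⟩

theorem IsD.card [Finite S] {A : Subgroup (↥S × ↥S)} (hA : IsD F A) : Nat.card A = Nat.card (p2 A) := by
  obtain ⟨Q, g, hg, hgA⟩ := hA
  apply Nat.card_congr
  refine Equiv.ofBijective (fun z => ⟨z.1.2, z.1, z.2, rfl⟩) ⟨?_, ?_⟩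
  · rintro ⟨z, hz⟩ ⟨w, hw⟩ h
    have h2 : z.2 = w.2 := congrArg Subtype.val h
    have hz' := (hgA z).1 hz
    have hw' := (hgA w).1 hw
    apply Subtype.ext
    refine Prod.ext (Subtype.ext ?_) h2
    apply hg.inj hz'.1 hw'.1
    rw [← hz'.2, ← hw'.2, h2]
  · rintro ⟨_, z, hz, rfl⟩
    exact ⟨⟨z, hz⟩, rfl⟩

theorem card_eq_of_rel [Finite S] {A B : Subgroup (↥S × ↥S)} (hA : IsD F A) (hB : IsD F B) (h : rel A B) :
    Nat.card A = Nat.card B := by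
  obtain ⟨s, hs⟩ := h
  rw [hA.card, hB.card, hs, card_cj]

/-- stability at all levels `≥ n` -/
def Stab (F : FusionSystem S) (n : ℕ) {X : Type*} (ρ : ↥S × ↥S →* Perm X) : Prop :=
  ∀ A B : Subgroup (↥S × ↥S), IsD F A → IsD F B → n ≤ Nat.card A → rel A B → mk ρ A = mk ρ B

def Good (F : FusionSystem S) {X : Type*} (ρ : ↥S × ↥S →* Perm X) : Prop := ∀ x, IsD F (stb ρ x)

theorem mk_zero {X : Type*} {ρ : ↥S × ↥S →* Perm X} (h : Good F ρ) {A : Subgroup (↥S × ↥S)} (hA : ¬ IsD F A) :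
    mk ρ A = 0 := by
  unfold mk
  haveI : IsEmpty {x // A ≤ stb ρ x} := ⟨fun ⟨x, hx⟩ => hA ((h x).mono hx)⟩
  exact Nat.card_of_isEmpty

theorem Stab.push [Finite S] {n : ℕ} {X : Type*} {ρ : ↥S × ↥S →* Perm X} (hs : Stab F n ρ) (hg : Good F ρ)
    (hf : Map F P f) {A B : Subgroup (↥S × ↥S)} (h : Push P f A B) (hn : n ≤ Nat.card A) : mk ρ A = mk ρ B := by
  by_cases hA : IsD F A
  · exact hs A B hA (h.isD hf hA) hn ⟨1, by rw [cj_one, h.p2 hf]⟩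
  · rw [mk_zero hg hA, mk_zero hg fun hB => hA ((h.isD_iff hf).2 hB)]

/-- the two restricted actions are equivalent -/
theorem stab_equiv [Finite S] {X : Type*} [Finite X] {ρ : ↥S × ↥S →* Perm X} (hs : Stab F 0 ρ) (hg : Good F ρ)
    (hf : Map F P f) : ∃ θ : Perm X, (∀ (b : ↥S) x, θ (ρ (1, b) x) = ρ (1, b) (θ x)) ∧
      ∀ (q : Ω) (hq : q ∈ P) x, θ (ρ (⟨q, hf.le hq⟩, 1) x) = ρ (⟨f q, hf.mem hq⟩, 1) (θ x) := by
  classical
  haveI : Finite P := Finite.of_injective (Subgroup.inclusion hf.le) (Subgroup.inclusion_injective _)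
  let j₁ : ↥P × ↥S →* ↥S × ↥S := (Subgroup.inclusion hf.le).prodMap (MonoidHom.id _)
  let φ : ↥P →* ↥S :=
    { toFun := fun q => ⟨f q, hf.mem q.2⟩
      map_one' := Subtype.ext hf.one
      map_mul' := fun a b => Subtype.ext (hf.mul a.2 b.2) }
  let j₂ : ↥P × ↥S →* ↥S × ↥S := φ.prodMap (MonoidHom.id _)
  have hm : ∀ (j : ↥P × ↥S →* ↥S × ↥S) (H : Subgroup (↥P × ↥S)), Nat.card {x // H ≤ stb (ρ.comp j) x} =
      mk ρ (H.map j) := by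
    intro j H
    apply Nat.card_congr
    refine Equiv.subtypeEquivRight fun x => ?_
    rw [Subgroup.map_le_iff_le_comap]
    exact Iff.rfl
  obtain ⟨θ, hθ⟩ := exists_equiv (ρ.comp j₁) (ρ.comp j₂) (by
    intro H
    rw [hm, hm]
    apply hs.push hg hf _ (Nat.zero_le _)
    refine ⟨?_, fun w => ?_⟩
    · rintro _ ⟨z, -, rfl⟩; exact z.1.2
    · constructor
      · rintro ⟨z, hz, rfl⟩
        exact ⟨j₁ z, ⟨z, hz, rfl⟩, rfl, rfl⟩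
      · rintro ⟨_, ⟨z, hz, rfl⟩, h1, h2⟩
        exact ⟨z, hz, Prod.ext (Subtype.ext h1.symm) h2.symm⟩)
  refine ⟨θ, fun b x => ?_, fun q hq x => ?_⟩
  · have := hθ (1, b) x
    simpa [j₁, j₂] using this
  · have := hθ (⟨q, hq⟩, 1) x
    exact this

end

end Cfsg.Agent.H27.Bs
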