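import Mathlib
import Cfsg.Agent.H27_Bs3

/-! Every fusion system is realized by a finite group (Park). -/

set_option autoImplicit false

namespace Cfsg.Agent.H27.Bs

open Equiv Cfsg.FusionSystem Cfsg.Agent.H27.Fus

universe u

section
variable {Ω : Type u} [Group Ω] {S : Subgroup Ω} {F : FusionSystem S} {P Q R : Subgroup Ω} {f g : Ω → Ω}

theorem stab_iter [Finite S] (C : ∀ {X : Type u}, (↥S × ↥S →* Perm X) → Prop)
    (hst : ∀ (n : ℕ), 0 < n → ∀ {X : Type u} [Finite X] (ρ : ↥S × ↥S →* Perm X), C ρ → Good F ρ → Stab F (n + 1) ρ →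
      ∃ (Y : Type u) (_ : Finite Y) (ρ' : ↥S × ↥S →* Perm Y), C ρ' ∧ Good F ρ' ∧ Stab F n ρ') :
    ∀ (n : ℕ) {X : Type u} [Finite X] (ρ : ↥S × ↥S →* Perm X), C ρ → Good F ρ → Stab F (n + 1) ρ →
      ∃ (Y : Type u) (_ : Finite Y) (ρ' : ↥S × ↥S →* Perm Y), C ρ' ∧ Good F ρ' ∧ Stab F 0 ρ' := by
  intro n
  induction n with
  | zero =>
    intro X _ ρ hC hG hS
    refine ⟨X, inferInstance, ρ, hC, hG, fun A B hA hB _ hr => hS A B hA hB ?_ hr⟩
    exact Nat.card_pos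
  | succ n ih =>
    intro X _ ρ hC hG hS
    obtain ⟨Y, hY, ρ', h1, h2, h3⟩ := hst (n + 1) (Nat.succ_pos _) ρ hC hG hS
    exact ih ρ' h1 h2 h3

theorem stab_step [Finite S] {n : ℕ} (hn : 0 < n) {X : Type u} [Finite X] (ρ : ↥S × ↥S →* Perm X) (hG : Good F ρ)
    (hS : Stab F (n + 1) ρ)
    (h : ∀ A, IsD F A → Nat.card A = n → ∃ k : ℤ, ∀ B, IsD F B → Nat.card B = n → rel A B →
      (mk (co B) B : ℤ) ∣ (mk ρ B : ℤ) - k) :
    ∃ (Y : Type u) (_ : Finite Y) (ρ' : ↥S × ↥S →* Perm Y), Good F ρ' ∧ Stab F n ρ' ∧ (∀ A, mk ρ A ≤ mk ρ' A) ∧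
      (∃ k, Nat.card Y = Nat.card X + k * (Nat.card (↥S × ↥S) / n)) := by
  obtain ⟨Y, hY, ρ', h1, h2, h3, h4, h5⟩ := step (IsD F) (fun g A hA => hA.cj g) n hn rel rel_cj ρ hG h
  refine ⟨Y, hY, ρ', h1, fun A B hA hB hAn hr => ?_, h4, h5⟩
  have hc := card_eq_of_rel hA hB hr
  rcases hAn.eq_or_lt with h | h
  · exact h2 A B hA hB h.symm (by omega) hr
  · rw [h3 A h, h3 B (by omega)]
    exact hS A B hA hB h hr

/-- the diagonal -/
def dg (S : Subgroup Ω) : Subgroup (↥S × ↥S) where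
  carrier := {z | z.1 = z.2}
  one_mem' := rfl
  mul_mem' := by
    intro a b ha hb
    show a.1 * b.1 = a.2 * b.2
    rw [show a.1 = a.2 from ha, show b.1 = b.2 from hb]
  inv_mem' := by
    intro a ha
    show a.1⁻¹ = a.2⁻¹
    rw [show a.1 = a.2 from ha]

theorem dg_isD : IsD F (dg S) := by
  refine ⟨S, id, map_id F le_rfl, fun z => ?_⟩
  constructor
  · intro h
    exact ⟨z.1.2, (congrArg Subtype.val (show z.1 = z.2 from h)).symm⟩
  · rintro ⟨-, h⟩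
    exact (Subtype.ext h.symm : z.1 = z.2)

theorem card_dg [Finite S] : Nat.card (dg S) = Nat.card S := by
  apply Nat.card_congr
  refine ⟨fun z => z.1.1, fun s => ⟨(s, s), rfl⟩, ?_, fun s => rfl⟩
  rintro ⟨⟨a, b⟩, h⟩
  have : a = b := h
  subst this; rfl

theorem IsD.card_le [Finite S] {A : Subgroup (↥S × ↥S)} (hA : IsD F A) : Nat.card A ≤ Nat.card S := by
  rw [hA.card]
  exact Nat.card_le_card_of_injective _ Subtype.val_injective

theorem good_co {A : Subgroup (↥S × ↥S)} (hA : IsD F A) : Good F (co A) := by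
  intro x
  obtain ⟨g, rfl⟩ := QuotientGroup.mk_surjective x
  rw [stb_co]; exact hA.cj g

theorem good_cp {X : Type*} {ρ : ↥S × ↥S →* Perm X} (h : Good F ρ) (c : ℕ) : Good F (cp c ρ) := by
  rintro ⟨i, x⟩
  rw [stb_cp]; exact h x

/-- a left-stable biset containing the regular one -/
theorem exists_stable [Finite S] (F : FusionSystem S) : ∃ (X : Type u) (_ : Finite X) (ρ : ↥S × ↥S →* Perm X),
    Good F ρ ∧ Stab F 0 ρ ∧ 0 < mk ρ (dg S) := by
  obtain ⟨Y, hY, ρ', h1, h2, h3⟩ := stab_iter (F := F) (fun ρ => 0 < mk ρ (dg S)) (by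
    intro n hn X _ ρ hC hG hS
    haveI : Finite (Fin (Nat.card (↥S × ↥S)) × X) := inferInstance
    obtain ⟨Y, hY, ρ', h1, h2, h3, -⟩ := stab_step (F := F) hn (cp (Nat.card (↥S × ↥S)) ρ) (good_cp hG _) (by
      intro A B hA hB hn hr
      rw [mk_cp, mk_cp, hS A B hA hB hn hr]) (by
      intro A hA hAn
      refine ⟨0, fun B hB hBn hr => ?_⟩
      rw [mk_cp, sub_zero]
      have : mk (co B) B ∣ Nat.card (↥S × ↥S) * mk ρ B := Dvd.dvd.mul_right (mk_co_dvd B) _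
      exact_mod_cast this)
    refine ⟨Y, hY, ρ', lt_of_lt_of_le ?_ (h3 (dg S)), h1, h2⟩
    rw [mk_cp]
    exact Nat.mul_pos Nat.card_pos hC) (Nat.card S) (co (dg S)) (mk_co_pos _) (good_co dg_isD) (by
      intro A B hA hB hn hr
      exact absurd (hA.card_le) (by omega))
  exact ⟨Y, hY, ρ', h2, h3, h1⟩

theorem exists_realizing [Finite S] (F : FusionSystem S) : ∃ (G : Type u) (_ : Group G) (_ : Finite G) (ι : ↥S →* G),
    F.IsRealizedBy ι := by
  classical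
  obtain ⟨X, hX, ρ, hG, hst, hdg⟩ := exists_stable F
  let Z : Subgroup (Perm X) := Subgroup.centralizer (Set.range fun b : ↥S => ρ (1, b))
  have hmem : ∀ θ : Perm X, θ ∈ Z ↔ ∀ (b : ↥S) x, θ (ρ (1, b) x) = ρ (1, b) (θ x) := by
    intro θ
    rw [Subgroup.mem_centralizer_iff]
    constructor
    · intro h b x
      have := h _ ⟨b, rfl⟩
      exact (congrArg (fun σ : Perm X => σ x) this).symm
    · rintro h _ ⟨b, rfl⟩
      ext x
      exact (h b x).symm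
  let ι : ↥S →* ↥Z := ((ρ.comp (MonoidHom.inl ↥S ↥S)).codRestrict Z fun a => by
    rw [hmem]
    intro b x
    show ρ (a, 1) (ρ (1, b) x) = ρ (1, b) (ρ (a, 1) x)
    rw [← ρ_mul, ← ρ_mul]; simp)
  have hι : ∀ a x, (ι a : Perm X) x = ρ (a, 1) x := fun a x => rfl
  obtain ⟨x₀, hx₀⟩ : Nonempty {x // dg S ≤ stb ρ x} := (Nat.card_pos_iff.1 hdg).1
  refine ⟨↥Z, inferInstance, inferInstance, ι, ?_, ?_⟩
  · intro a b hab
    have h1 : (a * b⁻¹, (1 : ↥S)) ∈ stb ρ x₀ := by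
      rw [mem_stb]
      have h2 := congrArg (fun σ : ↥Z => (σ : Perm X) (ρ (b⁻¹, 1) x₀)) hab
      simp only [hι] at h2
      rw [← ρ_mul, ← ρ_mul] at h2
      have e1 : ((a, 1) : ↥S × ↥S) * (b⁻¹, 1) = (a * b⁻¹, 1) := by simp
      have e2 : ((b, 1) : ↥S × ↥S) * (b⁻¹, 1) = 1 := by simp
      rw [e1, e2, map_one] at h2
      exact h2
    obtain ⟨Q, g, hg, hgA⟩ := hG x₀
    have h2 := (hgA _).1 h1
    have h3 : ((a * b⁻¹ : ↥S) : Ω) = 1 := hg.eq_one h2.1 h2.2.symm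
    have h4 : a * b⁻¹ = 1 := Subtype.ext h3
    exact mul_inv_eq_one.1 h4
  · intro P hP φ hφ
    constructor
    · intro h
      have hf := map_tot h
      obtain ⟨θ, hθ1, hθ2⟩ := stab_equiv hst hG hf
      refine ⟨⟨θ, (hmem θ).2 hθ1⟩, fun x => ?_⟩
      apply Subtype.ext
      ext y
      show ρ (⟨φ x, hφ x⟩, 1) y = θ (ρ (⟨x, hP x.2⟩, 1) (θ⁻¹ y))
      rw [hθ2 x x.2]
      congr 2
      · congr 1
        apply Subtype.ext
        exact (tot_apply φ x).symm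
      · simp
    · rintro ⟨⟨θ, hθ⟩, hg⟩
      have h1 : ∀ x : P, (⟨φ x, hφ x⟩, (⟨x, hP x.2⟩ : ↥S)) ∈ stb ρ (θ x₀) := by
        intro x
        rw [mem_stb]
        have h2 : ∀ y, ρ (⟨φ x, hφ x⟩, 1) (θ y) = θ (ρ (⟨x, hP x.2⟩, 1) y) := by
          intro y
          have := congrArg (fun σ : ↥Z => (σ : Perm X) (θ y)) (hg x)
          simp only [Subgroup.coe_mul, Perm.mul_apply, hι] at this
          rw [this]
          simp
        have h3 : ρ (⟨φ x, hφ x⟩, (⟨x, hP x.2⟩ : ↥S)) (θ x₀) =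
            ρ (1, ⟨x, hP x.2⟩) (ρ (⟨φ x, hφ x⟩, 1) (θ x₀)) := by
          rw [← ρ_mul]; simp
        rw [h3, h2, ← (hmem θ).1 hθ, ← ρ_mul]
        have h4 : ((⟨x, hP x.2⟩, ⟨x, hP x.2⟩) : ↥S × ↥S) ∈ stb ρ x₀ := hx₀ rfl
        rw [mem_stb] at h4
        simpa using congrArg θ h4
      obtain ⟨Q, g, hg', hgA⟩ := hG (θ x₀)
      have hQ : ∀ x : P, φ x ∈ Q := fun x => ((hgA _).1 (h1 x)).1
      have hgx : ∀ x : P, g (φ x) = x := fun x => ((hgA _).1 (h1 x)).2.symm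
      have hPim : P ≤ im Q g := fun x hx => by
        have := hgx ⟨x, hx⟩
        rw [show x = g (φ ⟨x, hx⟩) from this.symm]
        exact hg'.apply_mem_im (hQ _)
      refine hom_mem_of_map (hg'.iso.symm.map.mono hPim) fun x => ?_
      conv_rhs => rw [← hgx x]
      rw [hg'.iso.finv_left (hQ x)]

end

end Cfsg.Agent.H27.Bs
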