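import Mathlib
import Cfsg.Agent.H27_Bs4
import Cfsg.Agent.H27_FusSat

/-! The characteristic biset of a saturated fusion system: congruences. -/

set_option autoImplicit false

namespace Cfsg.Agent.H27.Bs

open Equiv Cfsg.FusionSystem Cfsg.Agent.H27.Fus

universe u

section
variable {G : Type*} [Group G] [Finite G] {X : Type*} [Finite X]

theorem burn1 (ρ : G →* Perm X) (A : Subgroup G) [hA : A.Normal] [Fintype G] :
    ∃ k : ℕ, ∑ g : G, mk ρ (A ⊔ Subgroup.zpowers g) = k * Nat.card G := by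
  classical
  have hst : ∀ (g : G) (y : {x // A ≤ stb ρ x}), A ≤ stb ρ (ρ g y.1) := by
    rintro g ⟨x, hx⟩ a ha
    rw [stb_smul, mem_cj]
    have := hA.conj_mem a ha g⁻¹
    rw [inv_inv] at this
    exact hx this
  letI : MulAction G {x // A ≤ stb ρ x} :=
    { smul := fun g y => ⟨ρ g y.1, hst g y⟩
      one_smul := fun y => Subtype.ext (by show ρ 1 y.1 = y.1; simp)
      mul_smul := fun a b y => Subtype.ext (by show ρ (a * b) y.1 = ρ a (ρ b y.1); simp) }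
  haveI := Fintype.ofFinite {x // A ≤ stb ρ x}
  have h := MulAction.sum_card_fixedBy_eq_card_orbits_mul_card_group G {x // A ≤ stb ρ x}
  refine ⟨_, Eq.trans (Finset.sum_congr rfl fun g _ => ?_) (h.trans (by rw [Nat.card_eq_fintype_card]))⟩
  rw [← Nat.card_eq_fintype_card]
  apply Nat.card_congr
  refine ⟨fun x => ⟨⟨x.1, le_trans le_sup_left x.2⟩, ?_⟩, fun y => ⟨y.1.1, ?_⟩, fun _ => rfl, fun _ => rfl⟩
  · apply Subtype.ext
    show ρ g x.1 = x.1
    exact x.2 (Subgroup.mem_sup_right (Subgroup.mem_zpowers g))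
  · apply sup_le y.1.2
    rw [Subgroup.zpowers_le]
    exact congrArg Subtype.val y.2

theorem burn (ρ₁ ρ₂ : G →* Perm X) (A : Subgroup G) [hA : A.Normal]
    (h : ∀ g, g ∉ A → mk ρ₁ (A ⊔ Subgroup.zpowers g) = mk ρ₂ (A ⊔ Subgroup.zpowers g)) :
    (Nat.card G : ℤ) ∣ Nat.card A * ((mk ρ₁ A : ℤ) - mk ρ₂ A) := by
  classical
  haveI := Fintype.ofFinite G
  obtain ⟨k₁, h₁⟩ := burn1 ρ₁ A
  obtain ⟨k₂, h₂⟩ := burn1 ρ₂ A
  have hsup : ∀ g ∈ A, A ⊔ Subgroup.zpowers g = A := by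
    intro g hg
    rw [sup_eq_left, Subgroup.zpowers_le]; exact hg
  have key : ∀ ρ : G →* Perm X, ∑ g : G, mk ρ (A ⊔ Subgroup.zpowers g) =
      Nat.card A * mk ρ A + ∑ g ∈ Finset.univ.filter (fun g => g ∉ A), mk ρ (A ⊔ Subgroup.zpowers g) := by
    intro ρ
    rw [← Finset.sum_filter_add_sum_filter_not Finset.univ (fun g => g ∈ A)]
    congr 1
    rw [Finset.sum_congr rfl (g := fun _ => mk ρ A), Finset.sum_const, smul_eq_mul]
    · congr 1
      rw [Nat.card_eq_fintype_card, Fintype.card_subtype]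
    · intro g hg
      rw [hsup g (Finset.mem_filter.1 hg).2]
  rw [key] at h₁ h₂
  rw [Finset.sum_congr rfl fun g hg => h g (Finset.mem_filter.1 hg).2] at h₁
  refine ⟨(k₁ : ℤ) - k₂, ?_⟩
  have h₁' : ((Nat.card A : ℤ) * mk ρ₁ A + (∑ g ∈ Finset.univ.filter (fun g => g ∉ A), mk ρ₂ (A ⊔ Subgroup.zpowers g) : ℕ)) =
      k₁ * Nat.card G := by exact_mod_cast h₁
  have h₂' : ((Nat.card A : ℤ) * mk ρ₂ A + (∑ g ∈ Finset.univ.filter (fun g => g ∉ A), mk ρ₂ (A ⊔ Subgroup.zpowers g) : ℕ)) =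
      k₂ * Nat.card G := by exact_mod_cast h₂
  linarith

theorem mk_comp {H : Type*} [Group H] (ρ : H →* Perm X) (χ : G →* H) (A : Subgroup G) :
    mk (ρ.comp χ) A = mk ρ (A.map χ) := by
  apply Nat.card_congr
  refine Equiv.subtypeEquivRight fun x => ?_
  rw [Subgroup.map_le_iff_le_comap]
  exact Iff.rfl

/-- congruence between two marks -/
theorem congr_mk {Γ : Type*} [Group Γ] [Finite Γ] (ρ : Γ →* Perm X) (B : Subgroup Γ)
    (χ : ↥(Subgroup.normalizer (B : Set Γ)) →* Γ)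
    (h : ∀ H : Subgroup ↥(Subgroup.normalizer (B : Set Γ)), Nat.card B < Nat.card H →
      mk ρ (H.map (Subgroup.normalizer (B : Set Γ)).subtype) = mk ρ (H.map χ)) :
    (mk (co B) B : ℤ) ∣ (mk ρ B : ℤ) - mk ρ ((B.subgroupOf (Subgroup.normalizer (B : Set Γ))).map χ) := by
  have hBN : B ≤ Subgroup.normalizer (B : Set Γ) := Subgroup.le_normalizer
  haveI : (B.subgroupOf (Subgroup.normalizer (B : Set Γ))).Normal := Subgroup.normal_in_normalizer
  have hc : Nat.card (B.subgroupOf (Subgroup.normalizer (B : Set Γ))) = Nat.card B :=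
    Nat.card_congr (Subgroup.subgroupOfEquivOfLe hBN).toEquiv
  have h1 := burn (ρ.comp (Subgroup.normalizer (B : Set Γ)).subtype) (ρ.comp χ)
    (B.subgroupOf (Subgroup.normalizer (B : Set Γ))) (by
      intro g hg
      rw [mk_comp, mk_comp]
      apply h
      rw [← hc]
      apply Set.ncard_lt_ncard _ (Set.toFinite _)
      refine ⟨fun x hx => Subgroup.mem_sup_left hx, fun h' => hg ?_⟩
      exact h' (Subgroup.mem_sup_right (Subgroup.mem_zpowers g)))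
  rw [mk_comp, mk_comp, Subgroup.map_subgroupOf_eq_of_le hBN, hc, card_normalizer_eq] at h1
  have hpos : (Nat.card B : ℤ) ≠ 0 := by exact_mod_cast Nat.card_pos.ne'
  rw [Nat.cast_mul] at h1
  exact (mul_dvd_mul_iff_left hpos).1 h1

theorem mk_co_cj {Γ : Type*} [Group Γ] [Finite Γ] (B : Subgroup Γ) (g : Γ) :
    mk (co (cj g B)) (cj g B) = mk (co B) B := by
  have h1 := card_normalizer_eq B
  have h2 := card_normalizer_eq (cj g B)
  have h3 : Nat.card (Subgroup.normalizer ((cj g B : Subgroup Γ) : Set Γ)) = Nat.card (Subgroup.normalizer (B : Set Γ)) := by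
    have := Subgroup.map_equiv_normalizer_eq B (MulAut.conj g)
    show Nat.card (Subgroup.normalizer ((B.map (MulAut.conj g).toMonoidHom : Subgroup Γ) : Set Γ)) = _
    have h4 := card_cj g (Subgroup.normalizer (B : Set Γ))
    rw [← h4]
    rw [← this]
    rfl
  rw [h3, h1, card_cj] at h2
  exact (Nat.eq_of_mul_eq_mul_left Nat.card_pos h2).symm

end

section
variable {Ω : Type u} [Group Ω] {S : Subgroup Ω} {F : FusionSystem S} {P Q R : Subgroup Ω} {f g : Ω → Ω}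

theorem sat_congr [Finite S] {p : ℕ} [Fact p.Prime] (hS : IsPGroup p S) (hF : F.IsSaturated p) {n : ℕ}
    {X : Type u} [Finite X] (ρ : ↥S × ↥S →* Perm X) (hG : Good F ρ) (hst : Stab F (n + 1) ρ)
    {A : Subgroup (↥S × ↥S)} (hA : IsD F A) (hAn : Nat.card A = n) :
    ∃ k : ℤ, ∀ B, IsD F B → Nat.card B = n → rel A B → (mk (co B) B : ℤ) ∣ (mk ρ B : ℤ) - k := by
  classical
  obtain ⟨Q₀, hc, hfa, hre⟩ := hF ((p2 A).map S.subtype) (Subgroup.map_subtype_le _)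
  obtain ⟨f₀, hf₀, hi₀, hn₀⟩ := exists_nrm_map hS hfa hre hc
  have hmR : ∀ r : ↥S, (r : Ω) ∈ (p2 A).map S.subtype ↔ r ∈ p2 A := by
    intro r
    constructor
    · rintro ⟨r', hr', h⟩
      rwa [← (Subtype.ext h : r' = r)]
    · intro h; exact ⟨r, h, rfl⟩
  -- first the case of equal second projections
  have hmain : ∀ B B₀ : Subgroup (↥S × ↥S), IsD F B → Nat.card B = n → p2 B = p2 A →
      (∀ w : ↥S × ↥S, w ∈ B₀ ↔ w.2 ∈ p2 A ∧ (w.1 : Ω) = f₀ w.2) → (mk (co B) B : ℤ) ∣ (mk ρ B : ℤ) - mk ρ B₀ := by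
    rintro B B₀ hB hBn hpB hB₀
    obtain ⟨Q, ψ, hψ, hQ⟩ := hB
    have hψR : ∀ q ∈ Q, ψ q ∈ (p2 A).map S.subtype := by
      intro q hq
      have h1 := (hQ (⟨q, hψ.le hq⟩, ⟨ψ q, hψ.mem hq⟩)).2 ⟨hq, rfl⟩
      rw [← hpB]
      exact ⟨_, ⟨_, h1, rfl⟩, rfl⟩
    have himψ : im Q ψ = (p2 A).map S.subtype := by
      apply le_antisymm
      · intro y hy
        obtain ⟨q, hq, rfl⟩ := hψ.mem_im.1 hy
        exact hψR q hq
      · rintro _ ⟨r, hr, rfl⟩
        rw [← hpB] at hr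
        obtain ⟨z, hz, rfl⟩ := hr
        have := (hQ z).1 hz
        show (z.2 : Ω) ∈ _
        rw [this.2]
        exact hψ.apply_mem_im this.1
    have hη : Iso F Q Q₀ (f₀ ∘ ψ) := (hψ.iso_of_im_eq himψ).trans hi₀
    obtain ⟨g, hg, hgQ⟩ := receptive_ext hre hη
    have hN : ∀ z ∈ Subgroup.normalizer (B : Set (↥S × ↥S)), (z.1 : Ω) ∈ ext S Q (f₀ ∘ ψ) ∧
        (z.2 : Ω) ∈ normalizerIn S ((p2 A).map S.subtype) := by
      intro z hz
      rw [Subgroup.mem_normalizer_iff] at hz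
      have h1 : ∀ q ∈ Q, (z.1 : Ω) * q * (z.1 : Ω)⁻¹ ∈ Q ∧ ψ ((z.1 : Ω) * q * (z.1 : Ω)⁻¹) = z.2 * ψ q * (z.2 : Ω)⁻¹ := by
        intro q hq
        have h2 := (hQ (⟨q, hψ.le hq⟩, ⟨ψ q, hψ.mem hq⟩)).2 ⟨hq, rfl⟩
        have h3 := (hQ _).1 ((hz _).1 h2)
        exact ⟨h3.1, h3.2.symm⟩
      have h1' : ∀ q ∈ Q, (z.2 : Ω) * ψ q * (z.2 : Ω)⁻¹ ∈ (p2 A).map S.subtype := by
        intro q hq
        rw [← (h1 q hq).2]; exact hψR _ (h1 q hq).1
      have h2' : (z.2 : Ω) ∈ normalizerIn S ((p2 A).map S.subtype) := by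
        apply mem_nrm_of_forall (Subgroup.map_subtype_le _) z.2.2
        intro y hy
        rw [← himψ] at hy
        obtain ⟨q, hq, rfl⟩ := hψ.mem_im.1 hy
        exact h1' q hq
      have h3' : (z.1 : Ω) ∈ normalizerIn S Q := mem_nrm_of_forall hψ.le z.1.2 fun y hy => (h1 y hy).1
      refine ⟨mem_ext.2 ⟨z.1.2, h3'.2, f₀ z.2, hf₀.mem h2', fun x hx => ?_⟩, h2'⟩
      show f₀ (ψ ((z.1 : Ω) * x * (z.1 : Ω)⁻¹)) = f₀ z.2 * f₀ (ψ x) * (f₀ z.2)⁻¹
      rw [(h1 x hx).2, hf₀.conj h2' (le_nrm (Subgroup.map_subtype_le _) (hψR x hx))]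
    let χ : ↥(Subgroup.normalizer (B : Set (↥S × ↥S))) →* ↥S × ↥S :=
      { toFun := fun z => (⟨g z.1.1, hg.mem (hN z.1 z.2).1⟩, z.1.2)
        map_one' := by
          apply Prod.ext
          · exact Subtype.ext hg.one
          · rfl
        map_mul' := by
          intro z w
          apply Prod.ext
          · exact Subtype.ext (hg.mul (hN z.1 z.2).1 (hN w.1 w.2).1)
          · rfl }
    have hc := congr_mk ρ B χ (by
      intro H hH
      apply hst.push hG hg _ _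
      · refine ⟨?_, fun w => ?_⟩
        · rintro _ ⟨z, -, rfl⟩; exact (hN z.1 z.2).1
        · constructor
          · rintro ⟨z, hz, rfl⟩
            exact ⟨z.1, ⟨z, hz, rfl⟩, rfl, rfl⟩
          · rintro ⟨_, ⟨z, hz, rfl⟩, h1, h2⟩
            exact ⟨z, hz, Prod.ext (Subtype.ext h1.symm) h2.symm⟩
      · rw [Subgroup.card_map_of_injective (Subgroup.subtype_injective _)]
        omega)
    have hBB : (B.subgroupOf (Subgroup.normalizer (B : Set (↥S × ↥S)))).map χ = B₀ := by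
      ext w
      rw [hB₀]
      constructor
      · rintro ⟨z, hz, rfl⟩
        have hz' : z.1 ∈ B := hz
        have h1 := (hQ z.1).1 hz'
        refine ⟨by rw [← hpB]; exact ⟨z.1, hz', rfl⟩, ?_⟩
        show g z.1.1 = f₀ z.1.2
        rw [hgQ _ h1.1, h1.2]; rfl
      · rintro ⟨h1, h2⟩
        rw [← hpB] at h1
        obtain ⟨z, hz, hz2⟩ := h1
        have hz2' : z.2 = w.2 := hz2
        refine ⟨⟨z, Subgroup.le_normalizer hz⟩, hz, Prod.ext (Subtype.ext ?_) hz2'⟩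
        have h3 := (hQ z).1 hz
        show g z.1 = w.1
        rw [hgQ _ h3.1, h2, ← hz2', h3.2]; rfl
    rw [hBB] at hc
    exact hc
  let B₀ : Subgroup (↥S × ↥S) :=
    { carrier := {w | w.2 ∈ p2 A ∧ (w.1 : Ω) = f₀ w.2}
      one_mem' := ⟨Subgroup.one_mem _, hf₀.one.symm⟩
      mul_mem' := by
        rintro a b ⟨ha, ha'⟩ ⟨hb, hb'⟩
        refine ⟨Subgroup.mul_mem _ ha hb, ?_⟩
        show (a.1 : Ω) * b.1 = f₀ ((a.2 : Ω) * b.2)
        rw [ha', hb', hf₀.mul (le_nrm (Subgroup.map_subtype_le _) ((hmR _).2 ha))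
          (le_nrm (Subgroup.map_subtype_le _) ((hmR _).2 hb))]
      inv_mem' := by
        rintro a ⟨ha, ha'⟩
        refine ⟨Subgroup.inv_mem _ ha, ?_⟩
        show (a.1 : Ω)⁻¹ = f₀ ((a.2 : Ω)⁻¹)
        rw [ha', hf₀.inv (le_nrm (Subgroup.map_subtype_le _) ((hmR _).2 ha))] }
  refine ⟨mk ρ B₀, fun B hB hBn hr => ?_⟩
  obtain ⟨s, hs⟩ := hr
  have h1 := hmain (cj (1, s⁻¹) B) B₀ (hB.cj _) (by rw [card_cj]; exact hBn) (by
    rw [p2_cj, hs, cj_mul]
    show cj (s⁻¹ * s) _ = _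
    rw [inv_mul_cancel, cj_one]) (fun w => Iff.rfl)
  rw [mk_co_cj, mk_cj] at h1
  exact h1

end

end Cfsg.Agent.H27.Bs
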