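import Mathlib
import Cfsg.Agent.H27_Bs5

/-! Existence of the characteristic biset. -/

set_option autoImplicit false

namespace Cfsg.Agent.H27.Bs

open Equiv Cfsg.FusionSystem Cfsg.Agent.H27.Fus

universe u

section
variable {Ω : Type u} [Group Ω] {S : Subgroup Ω} {F : FusionSystem S} {P Q R : Subgroup Ω} {f g : Ω → Ω}

theorem base [Finite S] {p : ℕ} [hp : Fact p.Prime] (hfa : F.IsFullyAutomized p S) :
    ∃ (X : Type u) (_ : Finite X) (ρ : ↥S × ↥S →* Perm X), Good F ρ ∧ Stab F (Nat.card S) ρ ∧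
      ∃ m, Nat.card X = m * Nat.card S ∧ ¬ p ∣ m := by
  classical
  have hind : autInducedBy S S = Inn S := by
    ext α
    rw [mem_autInducedBy, mem_inn]
  haveI hNn : ((Inn ↥S).subgroupOf (F.autGroup S)).Normal := by
    haveI : (Inn ↥S).Normal := inferInstance
    infer_instance
  obtain ⟨-, R, hR⟩ := hfa
  rw [hind] at hR
  have hndvd := R.not_dvd_index
  have hcop := R.card_coprime_index
  rw [hR] at hndvd hcop
  obtain ⟨H, hH⟩ := Subgroup.exists_right_complement'_of_coprime hcop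
  have hcH : Nat.card H = ((Inn ↥S).subgroupOf (F.autGroup S)).index := hH.symm.index_eq_card.symm
  let τ : ↥S × ↥S →* Function.End (↥H × ↥S) :=
    { toFun := fun z x => (x.1, ((x.1 : F.autGroup S) : MulAut ↥S)⁻¹ z.1 * x.2 * z.2⁻¹)
      map_one' := by
        funext x
        show (x.1, ((x.1 : F.autGroup S) : MulAut ↥S)⁻¹ 1 * x.2 * 1⁻¹) = x
        simp
      map_mul' := by
        intro a b
        funext x
        show (x.1, ((x.1 : F.autGroup S) : MulAut ↥S)⁻¹ (a.1 * b.1) * x.2 * (a.2 * b.2)⁻¹) =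
          (x.1, ((x.1 : F.autGroup S) : MulAut ↥S)⁻¹ a.1 *
            (((x.1 : F.autGroup S) : MulAut ↥S)⁻¹ b.1 * x.2 * b.2⁻¹) * a.2⁻¹)
        simp [mul_assoc] }
  let ρ : ↥S × ↥S →* Perm (↥H × ↥S) := MonoidHom.toHomPerm τ
  have hρ : ∀ (z : ↥S × ↥S) (k : ↥H) (s : ↥S), ρ z (k, s) = (k, ((k : F.autGroup S) : MulAut ↥S)⁻¹ z.1 * s * z.2⁻¹) :=
    fun _ _ _ => rfl
  have hst : ∀ (z : ↥S × ↥S) (k : ↥H) (s : ↥S), z ∈ stb ρ (k, s) ↔
      z.2 = s⁻¹ * ((k : F.autGroup S) : MulAut ↥S)⁻¹ z.1 * s := by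
    intro z k s
    rw [mem_stb, hρ, Prod.mk.injEq]
    constructor
    · rintro ⟨-, h⟩
      rw [mul_inv_eq_iff_eq_mul] at h
      rw [mul_assoc, h]; simp
    · intro h
      refine ⟨rfl, ?_⟩
      rw [h]; simp [mul_assoc]
  have hG : Good F ρ := by
    rintro ⟨k, s⟩
    have h1 : Map F S (totA (((k : F.autGroup S) : MulAut ↥S)⁻¹)) :=
      map_of_mem_autGroup le_rfl (Subgroup.inv_mem _ (k : F.autGroup S).2) fun x => (totA_apply _ x).symm
    have h2 : Map F S (fun x => (s : Ω)⁻¹ * x * (s : Ω)⁻¹⁻¹) := map_conj F le_rfl (Subgroup.inv_mem _ s.2)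
    refine ⟨S, _, h2.comp h1 fun x hx => h1.mem hx, fun z => ?_⟩
    rw [hst]
    constructor
    · intro h
      refine ⟨z.1.2, ?_⟩
      rw [h]
      simp [Function.comp, totA_apply]
    · rintro ⟨-, h⟩
      apply Subtype.ext
      rw [h]
      simp [Function.comp, totA_apply]
  have hmk : ∀ A, IsD F A → Nat.card S ≤ Nat.card A → mk ρ A = Nat.card (Subgroup.center ↥S) := by
    rintro A ⟨Q, g, hg, hgA⟩ hcA
    have hQS : Q = S := by
      apply Subgroup.eq_of_le_of_card_ge hg.le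
      refine hcA.trans ?_
      haveI : Finite Q := fin_of_le hg.le
      refine Nat.card_le_card_of_injective (fun z : A => (⟨(z.1.1 : Ω), ((hgA z.1).1 z.2).1⟩ : Q)) ?_
      rintro ⟨z, hz⟩ ⟨w, hw⟩ h
      have h1 : (z.1 : Ω) = w.1 := congrArg (fun y : Q => (y : Ω)) h
      apply Subtype.ext
      refine Prod.ext (Subtype.ext h1) (Subtype.ext ?_)
      show (z.2 : Ω) = w.2
      rw [((hgA z).1 hz).2, ((hgA w).1 hw).2, h1]
    subst hQS
    have hgi : Iso F Q Q g := iso_of_card_le hg (fun x hx => hg.mem hx) le_rfl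
    let α : F.autGroup Q := ⟨hgi.aut, hgi.aut_mem⟩
    obtain ⟨⟨k₀, n₀⟩, hkn⟩ := hH.symm.2 α⁻¹
    obtain ⟨s₀, hs₀⟩ : ∃ s₀ : ↥Q, MulAut.conj s₀ = ((n₀ : F.autGroup Q) : MulAut ↥Q) := by
      obtain ⟨s, hs, hs'⟩ := mem_inn.1 (n₀.2 : ((n₀ : F.autGroup Q) : MulAut ↥Q) ∈ Inn ↥Q)
      refine ⟨⟨s, hs⟩, ?_⟩
      ext x
      exact (hs' x).symm
    have hmem : ∀ (k : ↥H) (s : ↥Q), A ≤ stb ρ (k, s) ↔
        ((k : F.autGroup Q) : MulAut ↥Q) * MulAut.conj s = (α⁻¹ : F.autGroup Q) := by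
      intro k s
      have e1 : A ≤ stb ρ (k, s) ↔ ∀ a : ↥Q, hgi.aut a = s⁻¹ * ((k : F.autGroup Q) : MulAut ↥Q)⁻¹ a * s := by
        constructor
        · intro h a
          have h1 : (a, hgi.aut a) ∈ A := (hgA _).2 ⟨a.2, rfl⟩
          have h2 := h h1
          rwa [hst] at h2
        · intro h z hz
          rw [hst, ← h z.1]
          apply Subtype.ext
          exact ((hgA z).1 hz).2
      rw [e1]
      have e2 : (((α⁻¹ : F.autGroup Q)) : MulAut ↥Q) = (hgi.aut)⁻¹ := rfl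
      rw [e2]
      constructor
      · intro h
        rw [eq_inv_iff_mul_eq_one]
        ext a
        have := h a
        simp only [MulAut.mul_apply, MulAut.one_apply, MulAut.conj_apply]
        rw [this]
        simp [mul_assoc]
      · intro h a
        rw [eq_inv_iff_mul_eq_one, mul_eq_one_iff_inv_eq] at h
        rw [← h, mul_inv_rev, MulAut.mul_apply, ← map_inv, MulAut.conj_apply, inv_inv]
    rw [mk]
    symm
    have h0 : ((k₀ : F.autGroup Q) : MulAut ↥Q) * MulAut.conj s₀ = (α⁻¹ : F.autGroup Q) := by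
      rw [hs₀, ← hkn]; rfl
    have hcen : ∀ s t : ↥Q, MulAut.conj s = MulAut.conj t ↔ s⁻¹ * t ∈ Subgroup.center ↥Q := by
      intro s t
      rw [← inv_mul_eq_one, ← map_inv, ← map_mul, Subgroup.mem_center_iff]
      constructor
      · intro h a
        have := congrArg (fun σ : MulAut ↥Q => σ a) h
        simp only [MulAut.conj_apply, MulAut.one_apply] at this
        rw [mul_inv_eq_iff_eq_mul] at this
        exact this.symm
      · intro h
        ext a
        simp only [MulAut.conj_apply, MulAut.one_apply]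
        rw [← h a, mul_inv_cancel_right]
    apply Nat.card_congr
    refine Equiv.ofBijective (fun z => ⟨(k₀, s₀ * z.1), (hmem _ _).2 ?_⟩) ⟨?_, ?_⟩
    · rw [← h0]
      congr 1
      rw [hcen]
      simp
    · rintro ⟨z, hz⟩ ⟨w, hw⟩ h
      have h1 := congrArg (fun y => (Subtype.val y).2) h
      exact Subtype.ext (mul_left_cancel h1)
    · rintro ⟨⟨k, s⟩, hks⟩
      rw [hmem] at hks
      have hinn : MulAut.conj s ∈ F.autGroup Q := by
        have : (((k : F.autGroup Q) : MulAut ↥Q))⁻¹ * (α⁻¹ : F.autGroup Q) = MulAut.conj s := by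
          rw [← hks]; simp
        rw [← this]
        exact Subgroup.mul_mem _ (Subgroup.inv_mem _ (k : F.autGroup Q).2) (α⁻¹).2
      let n : ↥((Inn ↥Q).subgroupOf (F.autGroup Q)) :=
        ⟨⟨MulAut.conj s, hinn⟩, mem_inn.2 ⟨s, s.2, fun x => rfl⟩⟩
      have hu := hH.symm.1 (a₁ := (k, n)) (a₂ := (k₀, n₀)) (by
        apply Subtype.ext
        show ((k : F.autGroup Q) : MulAut ↥Q) * MulAut.conj s =
          ((k₀ : F.autGroup Q) : MulAut ↥Q) * ((n₀ : F.autGroup Q) : MulAut ↥Q)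
        rw [hks, ← h0, hs₀])
      rw [Prod.mk.injEq] at hu
      have hs : MulAut.conj s₀ = MulAut.conj s := by
        rw [hs₀, ← hu.2]
      refine ⟨⟨s₀⁻¹ * s, (hcen _ _).1 hs⟩, ?_⟩
      apply Subtype.ext
      refine Prod.ext hu.1.symm ?_
      simp
  refine ⟨↥H × ↥S, inferInstance, ρ, hG, fun A B hA hB hn hr => ?_, Nat.card H, Nat.card_prod _ _, ?_⟩
  · rw [hmk A hA hn, hmk B hB (by rw [← card_eq_of_rel hA hB hr]; exact hn)]
  · rw [hcH]; exact hndvd

/-- **The characteristic biset** of a saturated fusion system. -/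
theorem exists_char [Finite S] {p : ℕ} [hp : Fact p.Prime] (hS : IsPGroup p S) (hF : F.IsSaturated p) :
    ∃ (X : Type u) (_ : Finite X) (ρ : ↥S × ↥S →* Perm X), Good F ρ ∧ Stab F 0 ρ ∧
      ∃ m, Nat.card X = m * Nat.card S ∧ ¬ p ∣ m := by
  have hfa := fn_automized hS hF (fn_top F)
  obtain ⟨X, hX, ρ, hG, hst, hm⟩ := base hfa
  obtain ⟨N, hN⟩ := IsPGroup.iff_card.1 hS
  obtain ⟨Y, hY, ρ', h1, h2, h3⟩ := stab_iter (F := F)
    (fun {X} ρ => Stab F (Nat.card S) ρ ∧ ∃ m, Nat.card X = m * Nat.card S ∧ ¬ p ∣ m) (by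
    rintro n hn X _ ρ ⟨hC1, m, hC, hm⟩ hG hS'
    by_cases hnS : Nat.card S ≤ n
    · exact ⟨X, inferInstance, ρ, ⟨hC1, m, hC, hm⟩, hG, fun A B hA hB h hr => hC1 A B hA hB (hnS.trans h) hr⟩
    · push Not at hnS
      by_cases hA : ∃ A, IsD F A ∧ Nat.card A = n
      · obtain ⟨A₀, hA₀, hA₀n⟩ := hA
        obtain ⟨Y, hY, ρ', h1, h2, -, k, hk⟩ := stab_step hn ρ hG hS' fun A hA hAn => sat_congr hS hF ρ hG hS' hA hAn
        have hpow : ∃ j, n = p ^ j := by
          have := hA₀.card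
          have h3 : n ∣ Nat.card S := by
            rw [← hA₀n, this]; exact Subgroup.card_subgroup_dvd_card _
          rw [hN] at h3
          obtain ⟨j, -, hj⟩ := (Nat.dvd_prime_pow hp.out).1 h3
          exact ⟨j, hj⟩
        obtain ⟨j, rfl⟩ := hpow
        have hjN : j < N := by
          rw [hN] at hnS
          exact (Nat.pow_lt_pow_iff_right hp.out.one_lt).1 hnS
        have hq : Nat.card (↥S × ↥S) / p ^ j = p ^ (N - j) * Nat.card S := by
          rw [Nat.card_prod, hN]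
          apply Nat.div_eq_of_eq_mul_left (pow_pos hp.out.pos _)
          have : p ^ N = p ^ (N - j) * p ^ j := by rw [← pow_add]; congr 1; omega
          conv_lhs => rw [this]
          rw [this]; ring
        refine ⟨Y, hY, ρ', ⟨?_, m + k * p ^ (N - j), ?_, ?_⟩, h1, h2⟩
        · exact fun A B hA hB h hr => h2 A B hA hB (hnS.le.trans h) hr
        · rw [hk, hC, hq]; ring
        · intro h
          apply hm
          have h4 : p ∣ k * p ^ (N - j) := Dvd.dvd.mul_left (dvd_pow_self p (by omega)) _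
          exact (Nat.dvd_add_left h4).1 h
      · push Not at hA
        refine ⟨X, inferInstance, ρ, ⟨hC1, m, hC, hm⟩, hG, fun A B hA' hB h hr => hS' A B hA' hB ?_ hr⟩
        have := hA A hA'
        omega) (Nat.card S) ρ ⟨hst, hm⟩ hG (fun A B hA hB h hr => hst A B hA hB (by omega) hr)
  exact ⟨Y, hY, ρ', h2, h3, h1.2⟩

end

end Cfsg.Agent.H27.Bs
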