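import Mathlib
import Cfsg.Agent.H27_Bs6

/-! The characteristic biset as a cocycle. -/

set_option autoImplicit false

namespace Cfsg.Agent.H27.Bs

open Equiv Cfsg.FusionSystem Cfsg.Agent.H27.Fus

universe u

section
variable {Ω : Type u} [Group Ω] {S : Subgroup Ω} {F : FusionSystem S} {P Q R : Subgroup Ω} {f g : Ω → Ω}

/-- a stable cocycle of `S` with values in `S` -/
structure CB (F : FusionSystem S) (I : Type u) where
  act : ↥S →* Perm I
  c : ↥S → I → ↥S
  coc : ∀ a b i, c (a * b) i = c a (act b i) * c b i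
  map : ∀ i, ∃ P f, Map F P f ∧ (∀ a : ↥S, (a : Ω) ∈ P ↔ act a i = i) ∧ ∀ a : ↥S, act a i = i → (c a i : Ω) = f a
  stab : ∀ P f, Map F P f → ∃ (σ : Perm I) (d : I → ↥S), ∀ (q r : ↥S), (q : Ω) ∈ P → (r : Ω) = f q →
    ∀ i, act r (σ i) = σ (act q i) ∧ c r (σ i) * d i = d (act q i) * c q i

theorem exists_CB [Finite S] {X : Type u} [Finite X] (ρ : ↥S × ↥S →* Perm X) (hG : Good F ρ) (hst : Stab F 0 ρ) :
    ∃ (I : Type u) (_ : Finite I) (_ : CB F I), Nat.card X = Nat.card I * Nat.card S := by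
  classical
  have hfree : ∀ (b b' : ↥S) x, ρ (1, b) x = ρ (1, b') x → b = b' := by
    intro b b' x h
    have h1 : ((1, b'⁻¹ * b) : ↥S × ↥S) ∈ stb ρ x := by
      rw [mem_stb]
      have : ((1, b'⁻¹ * b) : ↥S × ↥S) = (1, b')⁻¹ * (1, b) := by simp
      rw [this, ρ_mul, h, ρ_inv_mul]
    obtain ⟨Q, g, hg, hgA⟩ := hG x
    have h2 := ((hgA _).1 h1).2
    have h3 : ((b'⁻¹ * b : ↥S) : Ω) = 1 := by
      rw [h2]; exact hg.one
    have h4 : b'⁻¹ * b = 1 := Subtype.ext h3
    exact (inv_mul_eq_one.1 h4).symm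
  have hcomm : ∀ (a b : ↥S) x, ρ (a, 1) (ρ (1, b) x) = ρ (1, b) (ρ (a, 1) x) := by
    intro a b x
    rw [← ρ_mul, ← ρ_mul]; simp
  have hmul1 : ∀ (a b : ↥S) x, ρ (a, 1) (ρ (b, 1) x) = ρ (a * b, 1) x := by
    intro a b x
    rw [← ρ_mul]; simp
  have hmul2 : ∀ (a b : ↥S) x, ρ (1, a) (ρ (1, b) x) = ρ (1, a * b) x := by
    intro a b x
    rw [← ρ_mul]; simp
  have hone : ∀ x, ρ (1, 1) x = x := by
    intro x
    have : ((1, 1) : ↥S × ↥S) = 1 := rfl
    rw [this, map_one]; rfl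
  let r : Setoid X :=
    { r := fun x y => ∃ b, ρ (1, b) x = y
      iseqv := by
        refine ⟨fun x => ⟨1, hone x⟩, ?_, ?_⟩
        · rintro x y ⟨b, rfl⟩
          exact ⟨b⁻¹, by rw [hmul2, inv_mul_cancel, hone]⟩
        · rintro x y z ⟨b, rfl⟩ ⟨b', rfl⟩
          exact ⟨b' * b, by rw [hmul2]⟩ }
  let I := Quotient r
  have hlift : ∀ θ : Perm X, (∀ (b : ↥S) x, θ (ρ (1, b) x) = ρ (1, b) (θ x)) →
      (∀ (b : ↥S) x, θ⁻¹ (ρ (1, b) x) = ρ (1, b) (θ⁻¹ x)) := by
    intro θ h b x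
    rw [Perm.inv_eq_iff_eq, h]; simp
  let lf : (θ : Perm X) → (∀ (b : ↥S) x, θ (ρ (1, b) x) = ρ (1, b) (θ x)) → Perm I := fun θ h =>
    { toFun := Quotient.map' θ (by rintro x y ⟨b, rfl⟩; exact ⟨b, (h b x).symm⟩)
      invFun := Quotient.map' (θ⁻¹ : Perm X) (by rintro x y ⟨b, rfl⟩; exact ⟨b, (hlift θ h b x).symm⟩)
      left_inv := by
        intro i
        induction i using Quotient.inductionOn with
        | _ x => show Quotient.mk r (θ⁻¹ (θ x)) = _; simp
      right_inv := by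
        intro i
        induction i using Quotient.inductionOn with
        | _ x => show Quotient.mk r (θ (θ⁻¹ x)) = _; simp }
  have hlf : ∀ θ h x, lf θ h (Quotient.mk r x) = Quotient.mk r (θ x) := fun _ _ _ => rfl
  let act : ↥S →* Perm I :=
    { toFun := fun a => lf (ρ (a, 1)) (fun b x => hcomm a b x)
      map_one' := by
        ext i
        induction i using Quotient.inductionOn with
        | _ x =>
          show Quotient.mk r (ρ (1, 1) x) = Quotient.mk r x
          rw [hone]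
      map_mul' := by
        intro a b
        ext i
        induction i using Quotient.inductionOn with
        | _ x =>
          show Quotient.mk r (ρ (a * b, 1) x) = Quotient.mk r (ρ (a, 1) (ρ (b, 1) x))
          rw [hmul1] }
  have hact : ∀ a x, act a (Quotient.mk r x) = Quotient.mk r (ρ (a, 1) x) := fun _ _ => rfl
  -- coordinates
  have hrep : ∀ x, ∃ b, ρ (1, b) x = (Quotient.mk r x).out := fun x =>
    Quotient.exact (Quotient.out_eq (Quotient.mk r x)).symm
  choose w hw using hrep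
  let o : I → X := Quotient.out
  have ho : ∀ i, Quotient.mk r (o i) = i := Quotient.out_eq
  let c : ↥S → I → ↥S := fun a i => w (ρ (a, 1) (o i))
  have hc : ∀ a i, ρ (1, c a i) (ρ (a, 1) (o i)) = o (act a i) := by
    intro a i
    show ρ (1, w (ρ (a, 1) (o i))) (ρ (a, 1) (o i)) = _
    rw [hw]
    show o (Quotient.mk r (ρ (a, 1) (o i))) = _
    rw [← hact, ho]
  have hcu : ∀ a i b, ρ (1, b) (ρ (a, 1) (o i)) = o (act a i) → c a i = b := by
    intro a i b h
    rw [← hc] at h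
    exact (hfree _ _ _ h).symm
  refine ⟨I, inferInstance, ⟨act, c, ?_, ?_, ?_⟩, ?_⟩
  · intro a b i
    apply hcu
    rw [map_mul, Perm.mul_apply, ← hc a (act b i), ← hc b i, hcomm a (c b i), hmul1, hmul2]
  · intro i
    obtain ⟨Q, g, hg, hgA⟩ := hG (o i)
    have hst : ∀ a b : ↥S, (a, b) ∈ stb ρ (o i) ↔ ρ (1, b) (ρ (a, 1) (o i)) = o i := by
      intro a b
      rw [mem_stb, ← ρ_mul]; simp
    refine ⟨Q, g, hg, fun a => ?_, fun a ha => ?_⟩
    · constructor
      · intro ha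
        have h1 : (a, (⟨g a, hg.mem ha⟩ : ↥S)) ∈ stb ρ (o i) := (hgA _).2 ⟨ha, rfl⟩
        rw [hst] at h1
        rw [← ho i, hact]
        exact Quotient.sound ⟨_, h1⟩
      · intro ha
        have h1 := hc a i
        rw [ha, ← hst] at h1
        exact ((hgA _).1 h1).1
    · have h1 := hc a i
      rw [ha, ← hst] at h1
      exact ((hgA _).1 h1).2
  · intro P f hf
    obtain ⟨θ, h1, h2⟩ := stab_equiv hst hG hf
    have hd : ∀ i, ρ (1, w (θ (o i))) (θ (o i)) = o (lf θ h1 i) := by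
      intro i
      rw [hw]
      show o (Quotient.mk r (θ (o i))) = _
      rw [← hlf θ h1, ho]
    refine ⟨lf θ h1, fun i => w (θ (o i)), fun q r' hq hr i => ?_⟩
    have hr' : r' = ⟨f q, hf.mem hq⟩ := Subtype.ext hr
    have h3 : ∀ x, θ (ρ (q, 1) x) = ρ (r', 1) (θ x) := by
      intro x; rw [hr']; exact h2 q hq x
    have h4 : act r' (lf θ h1 i) = lf θ h1 (act q i) := by
      conv_lhs => rw [← ho i, hlf θ h1, hact, ← h3, ← hlf θ h1, ← hact, ho]
    refine ⟨h4, ?_⟩
    have e1 : ρ (1, c r' (lf θ h1 i) * w (θ (o i))) (ρ (r', 1) (θ (o i))) = o (lf θ h1 (act q i)) := by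
      rw [← hmul2, ← hcomm, hd, hc, h4]
    have e2 : ρ (1, w (θ (o (act q i))) * c q i) (ρ (r', 1) (θ (o i))) = o (lf θ h1 (act q i)) := by
      rw [← hmul2, ← h3, ← h1, hc, hd]
    exact hfree _ _ _ (e1.trans e2.symm)
  · rw [← Nat.card_prod]
    apply Nat.card_congr
    symm
    refine Equiv.ofBijective (fun y => ρ (1, y.2) (o y.1)) ⟨?_, ?_⟩
    · rintro ⟨i, b⟩ ⟨j, b'⟩ h
      have h' : ρ (1, b) (o i) = ρ (1, b') (o j) := h
      have hij : i = j := by
        rw [← ho i, ← ho j]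
        apply Quotient.sound
        exact ⟨b'⁻¹ * b, by rw [← hmul2, h', hmul2, inv_mul_cancel, hone]⟩
      subst hij
      rw [hfree _ _ _ h']
    · intro x
      refine ⟨(Quotient.mk r x, (w x)⁻¹), ?_⟩
      show ρ (1, (w x)⁻¹) (Quotient.mk r x).out = x
      rw [← hw, hmul2, inv_mul_cancel, hone]

/-- **Existence of a characteristic cocycle.** -/
theorem exists_charCB [Finite S] {p : ℕ} [hp : Fact p.Prime] (hS : IsPGroup p S) (hF : F.IsSaturated p) :
    ∃ (I : Type u) (_ : Fintype I) (_ : CB F I), ¬ p ∣ Fintype.card I := by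
  obtain ⟨X, hX, ρ, h1, h2, m, h3, h4⟩ := exists_char hS hF
  obtain ⟨I, hI, b, h5⟩ := exists_CB ρ h1 h2
  haveI := Fintype.ofFinite I
  refine ⟨I, inferInstance, b, ?_⟩
  rw [← Nat.card_eq_fintype_card]
  have : Nat.card I = m := Nat.eq_of_mul_eq_mul_right (Nat.card_pos (α := ↥S)) (h5.symm.trans h3)
  rwa [this]

end

end Cfsg.Agent.H27.Bs
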