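import Mathlib
import Cfsg.Agent.H27_Bs7
import Cfsg.Agent.H27_FusHyp

/-! Transfer along the characteristic cocycle. -/

set_option autoImplicit false

namespace Cfsg.Agent.H27.Bs

open Equiv Cfsg.FusionSystem Cfsg.Agent.H27.Fus Cfsg.Agent.H27.Grp

universe u

section
variable {K I A : Type*} [Group K] [Fintype I] [CommGroup A]

/-- a cocycle with values in an abelian group that is trivial on stabilizers has product one -/
theorem cob (act : K →* Perm I) (e : K → I → A) (he : ∀ a b i, e (a * b) i = e a (act b i) * e b i)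
    (hf : ∀ b i, act b i = i → e b i = 1) (a : K) : ∏ i, e a i = 1 := by
  classical
  let r : Setoid I :=
    { r := fun i j => ∃ k, act k i = j
      iseqv := by
        refine ⟨fun i => ⟨1, by simp⟩, ?_, ?_⟩
        · rintro i j ⟨k, rfl⟩
          exact ⟨k⁻¹, by rw [map_inv]; simp⟩
        · rintro i j l ⟨k, rfl⟩ ⟨k', rfl⟩
          exact ⟨k' * k, by rw [map_mul]; rfl⟩ }
  have hrep : ∀ i, ∃ k, act k (Quotient.mk r i).out = i := fun i => Quotient.exact (Quotient.out_eq (Quotient.mk r i))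
  choose w hw using hrep
  have hwd : ∀ k l i, act k i = act l i → e k i = e l i := by
    intro k l i h
    have h1 : act (l⁻¹ * k) i = i := by
      rw [map_mul, Perm.mul_apply, h, map_inv]; simp
    have h2 := he l (l⁻¹ * k) i
    rw [mul_inv_cancel_left, h1, hf _ _ h1, mul_one] at h2
    exact h2
  let o : I → I := fun i => (Quotient.mk r i).out
  have hw' : ∀ i, act (w i) (o i) = i := hw
  have hoa : ∀ i, o (act a i) = o i := by
    intro i
    have hq : Quotient.mk r (act a i) = Quotient.mk r i := Quotient.sound (⟨a⁻¹, by rw [map_inv]; simp⟩)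
    show (Quotient.mk r (act a i)).out = (Quotient.mk r i).out
    rw [hq]
  let h : I → A := fun i => e (w i) (o i)
  have hh : ∀ i, e a i = h (act a i) * (h i)⁻¹ := by
    intro i
    rw [eq_mul_inv_iff_mul_eq]
    show e a i * e (w i) (o i) = e (w (act a i)) (o (act a i))
    rw [hoa]
    have h1 : act (w (act a i)) (o i) = act (a * w i) (o i) := by
      rw [map_mul, Perm.mul_apply, hw' i]
      conv_lhs => rw [← hoa i]
      exact hw' (act a i)
    rw [hwd _ _ _ h1, he, hw' i]
  rw [Finset.prod_congr rfl fun i _ => hh i, Finset.prod_mul_distrib, Finset.prod_inv_distrib]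
  rw [(act a).prod_comp Finset.univ h (fun _ _ => Finset.mem_univ _)]
  exact mul_inv_cancel _

end

section
variable {Ω : Type u} [Group Ω] {S : Subgroup Ω} {F : FusionSystem S} {P Q R : Subgroup Ω} {f g : Ω → Ω}
  {I : Type u} [Fintype I] {A : Type*} [CommGroup A]

theorem CB.c_one (B : CB F I) (i : I) : B.c 1 i = 1 := by
  have := B.coc 1 1 i
  rw [mul_one, map_one, Perm.one_apply] at this
  exact mul_eq_left.1 this.symm

/-- the transfer homomorphism -/
def CB.V (B : CB F I) (l : ↥S →* A) : ↥S →* A where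
  toFun a := ∏ i, l (B.c a i)
  map_one' := by simp [B.c_one]
  map_mul' a b := by
    simp only [B.coc, map_mul, Finset.prod_mul_distrib]
    congr 1
    exact (B.act b).prod_comp Finset.univ (fun i => l (B.c a i)) (fun _ _ => Finset.mem_univ _)

theorem CB.V_apply (B : CB F I) (l : ↥S →* A) (a : ↥S) : B.V l a = ∏ i, l (B.c a i) := rfl

theorem CB.V_inv (B : CB F I) (l : ↥S →* A) (hf : Map F P f) {q r : ↥S} (hq : (q : Ω) ∈ P) (hr : (r : Ω) = f q) :
    B.V l r = B.V l q := by
  obtain ⟨σ, d, h⟩ := B.stab P f hf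
  rw [B.V_apply, B.V_apply, ← σ.prod_comp Finset.univ (fun i => l (B.c r i)) (fun _ _ => Finset.mem_univ _)]
  have h1 : ∏ i, (l (B.c r (σ i)) * l (d i)) = ∏ i, (l (d (B.act q i)) * l (B.c q i)) := by
    apply Finset.prod_congr rfl
    intro i _
    rw [← map_mul, ← map_mul, (h q r hq hr i).2]
  rw [Finset.prod_mul_distrib, Finset.prod_mul_distrib,
    (B.act q).prod_comp Finset.univ (fun i => l (d i)) (fun _ _ => Finset.mem_univ _), mul_comm] at h1
  exact mul_left_cancel h1

/-- the transfer is a power on the elements whose powers are left alone -/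
theorem CB.V_pow (B : CB F I) (l : ↥S →* A) (a : ↥S)
    (h : ∀ (k : ℤ) P f, Map F P f → ((a : Ω) ^ k) ∈ P → ∀ b : ↥S, (b : Ω) = f ((a : Ω) ^ k) → l b = l (a ^ k)) :
    B.V l a = l a ^ Fintype.card I := by
  have h1 := cob (K := ↥(Subgroup.zpowers a)) (A := A) (B.act.comp (Subgroup.zpowers a).subtype)
    (fun b i => l (B.c b i) * (l b)⁻¹) (by
      intro x y i
      simp only [Subgroup.coe_mul, map_mul, B.coc, mul_inv_rev]
      simp only [MonoidHom.comp_apply, Subgroup.subtype_apply]
      rw [mul_comm (l ↑y)⁻¹ (l ↑x)⁻¹, mul_mul_mul_comm]) (by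
      rintro ⟨b, hb⟩ i hbi
      obtain ⟨k, rfl⟩ := Subgroup.mem_zpowers_iff.1 hb
      have hbi' : B.act (a ^ k) i = i := hbi
      obtain ⟨P, f, hf, h2, h3⟩ := B.map i
      have h4 := (h2 (a ^ k)).2 hbi'
      rw [mul_inv_eq_one]
      rw [Subgroup.coe_zpow] at h4
      refine h k P f hf h4 _ ?_
      rw [h3 _ hbi', Subgroup.coe_zpow]) ⟨a, Subgroup.mem_zpowers a⟩
  have h2 : ∏ i, (l (B.c a i) * (l a)⁻¹) = 1 := h1
  rw [Finset.prod_mul_distrib, Finset.prod_const, Finset.card_univ, inv_pow, mul_inv_eq_one] at h2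
  exact h2

/-- the transfer kills the focal subgroup -/
theorem CB.V_foc (B : CB F I) (l : ↥S →* A) {x : ↥S} (hx : (x : Ω) ∈ F.focalSubgroup) : B.V l x = 1 := by
  have key : F.focalSubgroup ≤ (B.V l).ker.map S.subtype := by
    rw [foc_eq, Subgroup.closure_le]
    rintro _ ⟨P, f, hf, y, hy, rfl⟩
    refine ⟨(⟨y, hf.le hy⟩ : ↥S)⁻¹ * ⟨f y, hf.mem hy⟩, ?_, rfl⟩
    show B.V l _ = 1
    rw [map_mul, map_inv, B.V_inv l hf (q := ⟨y, hf.le hy⟩) (r := ⟨f y, hf.mem hy⟩) hy rfl, inv_mul_cancel]
  obtain ⟨y, hy, hyx⟩ := key hx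
  have : y = x := Subtype.ext hyx
  rw [← this]; exact hy

end

end Cfsg.Agent.H27.Bs
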