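import Mathlib
import Cfsg.Agent.H27_Bs8
import Cfsg.Agent.H27_FusAlp
import Cfsg.Agent.H2_PGroup

/-! Tate's theorem for fusion systems. -/

set_option autoImplicit false

namespace Cfsg.Agent.H27.Bs

open Equiv Cfsg.FusionSystem Cfsg.Agent.H27.Fus Cfsg.Agent.H27.Grp

universe u

section
variable {Ω : Type u} [Group Ω] {S : Subgroup Ω} {F : FusionSystem S} {P Q R : Subgroup Ω} {f g : Ω → Ω}
  {I : Type u} [Fintype I] {A : Type*} [CommGroup A] {p : ℕ}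

theorem map_mod_hyp' [Finite S] [Fact p.Prime] (hS : IsPGroup p S) (hF : F.IsSaturated p) :
    ∀ P f, Map F P f → ∃ s ∈ S, ∀ x ∈ P, ∃ h ∈ F.hyperfocalSubgroup p, f x = s * x * s⁻¹ * h := by
  have hsub : SubCls F (fun P f => ∃ s ∈ S, ∀ x ∈ P, ∃ h ∈ F.hyperfocalSubgroup p, f x = s * x * s⁻¹ * h) := by
    refine ⟨?_, ?_, ?_, ?_⟩
    · rintro P f g ⟨s, hs, h⟩ hfg
      refine ⟨s, hs, fun x hx => ?_⟩
      rw [← hfg x hx]; exact h x hx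
    · rintro P Q f ⟨s, hs, h⟩ hQ
      exact ⟨s, hs, fun x hx => h x (hQ hx)⟩
    · rintro P Q f g hf hg ⟨s, hs, h1⟩ ⟨t, ht, h2⟩ hm
      refine ⟨t * s, S.mul_mem ht hs, fun x hx => ?_⟩
      obtain ⟨h, hh, e1⟩ := h1 x hx
      obtain ⟨k, hk, e2⟩ := h2 (f x) (hm x hx)
      refine ⟨t * h * t⁻¹ * k, Subgroup.mul_mem _ (hyp_conj_mem ht hh) hk, ?_⟩
      show g (f x) = _
      rw [e2, e1]; group
    · rintro P Q f hi ⟨s, hs, h1⟩
      refine ⟨s⁻¹, S.inv_mem hs, fun y hy => ?_⟩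
      obtain ⟨x, hx, rfl⟩ := hi.surj y hy
      obtain ⟨h, hh, e1⟩ := h1 x hx
      refine ⟨s⁻¹ * h⁻¹ * s⁻¹⁻¹, hyp_conj_mem (S.inv_mem hs) (Subgroup.inv_mem _ hh), ?_⟩
      rw [hi.finv_left hx, e1]; group
  have hautom : ∀ P : Subgroup Ω, F.IsFullyNormalized P → ∀ f, Iso F P P f →
      ∃ s ∈ S, ∀ x ∈ P, ∃ h ∈ F.hyperfocalSubgroup p, f x = s * x * s⁻¹ * h := by
    intro P hP f hf
    have hfP : Finite P := finite_of_le hf.le
    have hsyl := (isFullyAutomized_iff.1 (fn_automized hS hF hP)).2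
    obtain ⟨b, hb, t, ht, hbt⟩ := exists_opR_mul hsyl hf.aut_mem
    obtain ⟨s, hs, hst⟩ := mem_autInducedBy.1 ht
    refine ⟨s, hs, fun x hx => ⟨_, mem_hyp hf.le hb (t ⟨x, hx⟩), ?_⟩⟩
    rw [← hst ⟨x, hx⟩]
    have : f x = (hf.aut ⟨x, hx⟩ : P) := rfl
    rw [this, ← hbt, MulAut.mul_apply]; group
  exact alperin hS hF hsub (fun f hf => hautom S (fn_top F) f hf) (fun P hP f hf => hautom P hP.2.1 f hf)

/-- change of coordinates -/
def CB.twist (B : CB F I) (D : I → ↥S) : CB F I where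
  act := B.act
  c a i := D (B.act a i) * B.c a i * (D i)⁻¹
  coc a b i := by
    rw [B.coc, map_mul, Perm.mul_apply]; group
  map i := by
    obtain ⟨P, f, hf, h1, h2⟩ := B.map i
    refine ⟨P, _, (map_conj F hf.im_le (D i).2).comp hf fun x hx => hf.apply_mem_im hx, h1, fun a ha => ?_⟩
    rw [ha]
    show (D i : Ω) * B.c a i * (D i : Ω)⁻¹ = D i * f a * (D i : Ω)⁻¹
    rw [h2 a ha]
  stab P f hf := by
    obtain ⟨σ, d, h⟩ := B.stab P f hf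
    refine ⟨σ, fun i => D (σ i) * d i * (D i)⁻¹, fun q r hq hr i => ⟨(h q r hq hr i).1, ?_⟩⟩
    have h1 := (h q r hq hr i).2
    have h2 := (h q r hq hr i).1
    show D (B.act r (σ i)) * B.c r (σ i) * (D (σ i))⁻¹ * (D (σ i) * d i * (D i)⁻¹) =
      D (σ (B.act q i)) * d (B.act q i) * (D (B.act q i))⁻¹ * (D (B.act q i) * B.c q i * (D i)⁻¹)
    rw [h2]
    have e1 : D (σ (B.act q i)) * B.c r (σ i) * (D (σ i))⁻¹ * (D (σ i) * d i * (D i)⁻¹) =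
      D (σ (B.act q i)) * (B.c r (σ i) * d i) * (D i)⁻¹ := by group
    rw [e1, h1]; group

/-- coordinates adapted to a subgroup modulo which the system is inner -/
theorem CB.adapt (B : CB F I) {T : Subgroup Ω} (hTn : ∀ s ∈ S, ∀ t ∈ T, s * t * s⁻¹ ∈ T)
    (hT : ∀ P f, Map F P f → ∃ s ∈ S, ∀ x ∈ P, ∃ h ∈ T, f x = s * x * s⁻¹ * h) :
    ∃ B' : CB F I, ∀ (a : ↥S) (i : I), (B'.c a i : Ω) * (a : Ω)⁻¹ ∈ T := by
  classical
  let r : Setoid I :=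
    { r := fun i j => ∃ k, B.act k i = j
      iseqv := by
        refine ⟨fun i => ⟨1, by simp⟩, ?_, ?_⟩
        · rintro i j ⟨k, rfl⟩
          exact ⟨k⁻¹, by rw [map_inv]; simp⟩
        · rintro i j l ⟨k, rfl⟩ ⟨k', rfl⟩
          exact ⟨k' * k, by rw [map_mul]; rfl⟩ }
  have hrep : ∀ i, ∃ k, B.act k (Quotient.mk r i).out = i := fun i => Quotient.exact (Quotient.out_eq (Quotient.mk r i))
  choose w hw using hrep
  let o : I → I := fun i => (Quotient.mk r i).out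
  have hw' : ∀ i, B.act (w i) (o i) = i := hw
  have hoa : ∀ a i, o (B.act a i) = o i := by
    intro a i
    have hq : Quotient.mk r (B.act a i) = Quotient.mk r i := Quotient.sound (⟨a⁻¹, by rw [map_inv]; simp⟩)
    show (Quotient.mk r (B.act a i)).out = (Quotient.mk r i).out
    rw [hq]
  have hs : ∀ i, ∃ s : ↥S, ∀ t : ↥S, B.act t i = i → (s * B.c t i * s⁻¹ : Ω) * (t : Ω)⁻¹ ∈ T := by
    intro i
    obtain ⟨P, f, hf, h1, h2⟩ := B.map i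
    obtain ⟨s, hs, h3⟩ := hT P f hf
    refine ⟨⟨s⁻¹, S.inv_mem hs⟩, fun t ht => ?_⟩
    obtain ⟨h, hh, h4⟩ := h3 t ((h1 t).2 ht)
    rw [h2 t ht, h4]
    have h5 : s⁻¹ * (s * (t : Ω) * s⁻¹ * h) * (s⁻¹)⁻¹ * (t : Ω)⁻¹ = (t : Ω) * (s⁻¹ * h * s⁻¹⁻¹) * (t : Ω)⁻¹ := by group
    show s⁻¹ * (s * (t : Ω) * s⁻¹ * h) * (s⁻¹)⁻¹ * (t : Ω)⁻¹ ∈ T
    rw [h5]
    exact hTn _ t.2 _ (hTn _ (S.inv_mem hs) _ hh)
  choose s₀ hs₀ using hs
  let D : I → ↥S := fun i => w i * s₀ (o i) * (B.c (w i) (o i))⁻¹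
  refine ⟨B.twist D, fun b i => ?_⟩
  show ((D (B.act b i) * B.c b i * (D i)⁻¹ : ↥S) : Ω) * (b : Ω)⁻¹ ∈ T
  let t : ↥S := (w (B.act b i))⁻¹ * (b * w i)
  have ht : B.act t (o i) = o i := by
    have h1 : B.act (b * w i) (o i) = B.act b i := by
      rw [map_mul, Perm.mul_apply, hw' i]
    show B.act ((w (B.act b i))⁻¹ * (b * w i)) (o i) = o i
    rw [map_mul, Perm.mul_apply, h1, map_inv, Perm.inv_eq_iff_eq]
    conv_lhs => rw [← hw' (B.act b i), hoa]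
  have hbw : b * w i = w (B.act b i) * t := by simp [t]
  have h1 : B.c b i * B.c (w i) (o i) = B.c (w (B.act b i)) (o i) * B.c t (o i) := by
    have e1 := B.coc b (w i) (o i)
    have e2 := B.coc (w (B.act b i)) t (o i)
    rw [hw' i] at e1
    rw [ht] at e2
    rw [← e1, hbw, e2]
  have h2 : D (B.act b i) * B.c b i * (D i)⁻¹ =
      w (B.act b i) * (s₀ (o i) * B.c t (o i) * (s₀ (o i))⁻¹) * (w i)⁻¹ := by
    show w (B.act b i) * s₀ (o (B.act b i)) * (B.c (w (B.act b i)) (o (B.act b i)))⁻¹ * B.c b i *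
      (w i * s₀ (o i) * (B.c (w i) (o i))⁻¹)⁻¹ = _
    rw [hoa]
    have e3 : w (B.act b i) * s₀ (o i) * (B.c (w (B.act b i)) (o i))⁻¹ * B.c b i *
      (w i * s₀ (o i) * (B.c (w i) (o i))⁻¹)⁻¹ =
      w (B.act b i) * s₀ (o i) * (B.c (w (B.act b i)) (o i))⁻¹ * (B.c b i * B.c (w i) (o i)) * (s₀ (o i))⁻¹ * (w i)⁻¹ := by
      group
    rw [e3, h1]; group
  rw [h2]
  have h3 : (w i : Ω)⁻¹ * (b : Ω)⁻¹ = (t : Ω)⁻¹ * (w (B.act b i) : Ω)⁻¹ := by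
    rw [← mul_inv_rev, ← mul_inv_rev]
    congr 1
    exact congrArg Subtype.val hbw
  have h4 : ((w (B.act b i) * (s₀ (o i) * B.c t (o i) * (s₀ (o i))⁻¹) * (w i)⁻¹ : ↥S) : Ω) * (b : Ω)⁻¹ =
      (w (B.act b i) : Ω) * ((s₀ (o i) * B.c t (o i) * (s₀ (o i))⁻¹ : Ω) * (t : Ω)⁻¹) * (w (B.act b i) : Ω)⁻¹ := by
    push_cast
    have e4 : ∀ x y z u : Ω, x * y * z * u = x * y * (z * u) := fun x y z u => by group
    rw [e4, h3]; group
  rw [h4]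
  exact hTn _ (w (B.act b i)).2 _ (hs₀ _ t ht)

end

end Cfsg.Agent.H27.Bs
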