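import Mathlib
import Cfsg.Agent.H27_Bs9
import Cfsg.Agent.H27_FusNK
import Cfsg.Agent.H27_FusNorm
import Cfsg.Agent.H27_FusMk

/-! Witnesses in the characteristic biset and their determinants. -/

set_option autoImplicit false

namespace Cfsg.Agent.H27.Ix

open Equiv Cfsg.FusionSystem Cfsg.Agent.H27.Fus Cfsg.Agent.H27.Grp Cfsg.Agent.H27.Bs

universe u

/-- a function with trivial product along the cycles has product one -/
theorem prod_cycles {J A : Type*} [Fintype J] [CommGroup A] (σ : Perm J) (e : J → A)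
    (h : ∀ j n, (σ ^ n) j = j → ∏ k ∈ Finset.range n, e ((σ ^ k) j) = 1) : ∏ j, e j = 1 := by
  classical
  let r : Setoid J := Equiv.Perm.SameCycle.setoid σ
  let o : J → J := fun j => (Quotient.mk r j).out
  have ho : ∀ j, σ.SameCycle (o j) j := fun j => Quotient.exact (Quotient.out_eq (Quotient.mk r j))
  have hex : ∀ j, ∃ n : ℕ, (σ ^ n) (o j) = j := by
    intro j
    obtain ⟨n, _, _, hn⟩ := (ho j).exists_pow_eq
    exact ⟨n, hn⟩
  choose w hw using hex
  let H : ℕ → J → A := fun n j => ∏ k ∈ Finset.range n, e ((σ ^ k) j)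
  have hadd : ∀ n m j, H (n + m) j = H n j * H m ((σ ^ n) j) := by
    intro n m j
    show ∏ k ∈ Finset.range (n + m), e ((σ ^ k) j) = _
    rw [Finset.prod_range_add]
    congr 1
    apply Finset.prod_congr rfl
    intro k _
    rw [← Perm.mul_apply, ← pow_add, add_comm]
  have hwd : ∀ n m j, n ≤ m → (σ ^ n) j = (σ ^ m) j → H n j = H m j := by
    intro n m j hnm hj
    obtain ⟨k, rfl⟩ := Nat.exists_eq_add_of_le hnm
    have h1 : (σ ^ k) ((σ ^ n) j) = (σ ^ n) j := by
      rw [← Perm.mul_apply, ← pow_add, add_comm k n, ← hj]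
    rw [hadd, show H k ((σ ^ n) j) = 1 from h _ _ h1, mul_one]
  have hwd' : ∀ n m j, (σ ^ n) j = (σ ^ m) j → H n j = H m j := by
    intro n m j hj
    rcases le_total n m with hnm | hnm
    · exact hwd n m j hnm hj
    · exact (hwd m n j hnm hj.symm).symm
  have hos : ∀ j, o (σ j) = o j := by
    intro j
    have hq : Quotient.mk r (σ j) = Quotient.mk r j := Quotient.sound (Equiv.Perm.sameCycle_apply_left.2 (Equiv.Perm.SameCycle.refl _ _))
    show (Quotient.mk r (σ j)).out = (Quotient.mk r j).out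
    rw [hq]
  have key : ∀ j, e j = H (w (σ j)) (o (σ j)) * (H (w j) (o j))⁻¹ := by
    intro j
    rw [eq_mul_inv_iff_mul_eq, hos]
    have h1 : H (w (σ j)) (o j) = H (w j + 1) (o j) := by
      apply hwd'
      have := hw (σ j)
      rw [hos] at this
      rw [this, pow_succ', Perm.mul_apply, hw j]
    rw [h1, hadd]
    have h2 : H 1 ((σ ^ w j) (o j)) = e j := by
      show ∏ k ∈ Finset.range 1, e ((σ ^ k) ((σ ^ w j) (o j))) = e j
      rw [Finset.prod_range_one, pow_zero, Perm.one_apply, hw j]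
    rw [h2, mul_comm]
  rw [Finset.prod_congr rfl fun j _ => key j, Finset.prod_mul_distrib, Finset.prod_inv_distrib,
    σ.prod_comp Finset.univ (fun j => H (w j) (o j)) (fun _ _ => Finset.mem_univ _)]
  exact mul_inv_cancel _

/-- an invariant function with values in a group of exponent `p` may be multiplied over the fixed points only -/
theorem prod_fixed {G J A : Type*} [Group G] [Finite G] [Fintype J] [CommGroup A] {p : ℕ} [Fact p.Prime]
    (hG : IsPGroup p G) [MulAction G J] (e : J → A) (he : ∀ (g : G) j, e (g • j) = e j) (hA : ∀ a : A, a ^ p = 1)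
    [DecidablePred fun j : J => ∀ g : G, g • j = j] :
    ∏ j, e j = ∏ j, if ∀ g : G, g • j = j then e j else 1 := by
  classical
  have h1 : ∏ j ∈ Finset.univ.filter (fun j => ¬ ∀ g : G, g • j = j), e j = 1 := by
    have h2 := Finset.prod_comp (s := Finset.univ.filter (fun j => ¬ ∀ g : G, g • j = j)) (fun a : A => a) e
    rw [h2]
    apply Finset.prod_eq_one
    intro a _
    have h3 : p ∣ ((Finset.univ.filter (fun j => ¬ ∀ g : G, g • j = j)).filter (fun j => e j = a)).card := by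
      let Y : Type _ := {j : J // (¬ ∀ g : G, g • j = j) ∧ e j = a}
      letI : MulAction G Y :=
        { smul := fun g y => ⟨g • y.1, fun hh => y.2.1 (fun k => by
            have h5 : ∀ k : G, k • g • y.1 = g • y.1 := hh
            have h6 : g • y.1 = y.1 := by
              have := h5 g⁻¹
              rw [inv_smul_smul] at this
              exact this.symm
            have h7 := h5 k
            rwa [h6] at h7), by rw [he]; exact y.2.2⟩
          one_smul := fun y => Subtype.ext (one_smul _ _)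
          mul_smul := fun g k y => Subtype.ext (mul_smul _ _ _) }
      haveI : Fintype Y := Fintype.ofFinite _
      have h4 := hG.card_modEq_card_fixedPoints Y
      have h5 : Nat.card (MulAction.fixedPoints G Y) = 0 := by
        rw [Nat.card_eq_zero]
        left
        constructor
        rintro ⟨y, hy⟩
        exact y.2.1 fun g => congrArg Subtype.val (hy g)
      rw [h5] at h4
      have h6 : p ∣ Nat.card Y := (Nat.modEq_zero_iff_dvd).1 h4
      rw [Nat.card_eq_fintype_card, Fintype.card_subtype] at h6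
      rwa [Finset.filter_filter]
    obtain ⟨k, hk⟩ := h3
    rw [hk, pow_mul, hA, one_pow]
  rw [← Finset.prod_filter_mul_prod_filter_not Finset.univ (fun j => ∀ g : G, g • j = j) e, h1, mul_one,
    Finset.prod_filter]

section
variable {Ω : Type u} [Group Ω] {S : Subgroup Ω} {F : FusionSystem S} {P Q R : Subgroup Ω} {f g : Ω → Ω}
  {I : Type u} {A : Type*} [CommGroup A]

/-- witnesses of a map in the biset -/
def Wit (B : CB F I) (P : Subgroup Ω) (f : Ω → Ω) (σ : Perm I) (d : I → ↥S) : Prop :=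
  ∀ q r : ↥S, (q : Ω) ∈ P → (r : Ω) = f q → ∀ i, B.act r (σ i) = σ (B.act q i) ∧
    B.c r (σ i) * d i = d (B.act q i) * B.c q i

theorem Wit.mono {B : CB F I} {σ : Perm I} {d : I → ↥S} (h : Wit B P f σ d) (hQ : Q ≤ P) : Wit B Q f σ d :=
  fun q r hq hr => h q r (hQ hq) hr

theorem Wit.congr {B : CB F I} {σ : Perm I} {d : I → ↥S} (h : Wit B P f σ d) (hfg : ∀ x ∈ P, f x = g x) :
    Wit B P g σ d := fun q r hq hr => h q r hq (by rw [hr, hfg _ hq])

theorem Wit.comp {B : CB F I} {σ σ' : Perm I} {d d' : I → ↥S} (hf : Map F P f) (h : Wit B P f σ d)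
    (h' : Wit B Q g σ' d') (hPQ : ∀ x ∈ P, f x ∈ Q) : Wit B P (g ∘ f) (σ' * σ) (fun i => d' (σ i) * d i) := by
  intro q r hq hr i
  have h1 := h q ⟨f q, hf.mem hq⟩ hq rfl i
  have h2 := h' ⟨f q, hf.mem hq⟩ r (hPQ _ hq) hr (σ i)
  refine ⟨?_, ?_⟩
  · rw [Perm.mul_apply, h2.1, h1.1, Perm.mul_apply]
  · rw [Perm.mul_apply]
    show B.c r (σ' (σ i)) * (d' (σ i) * d i) = d' (σ (B.act q i)) * d (B.act q i) * B.c q i
    rw [← mul_assoc, h2.2, h1.1, mul_assoc, h1.2, mul_assoc]

theorem Wit.inv {B : CB F I} {σ : Perm I} {d : I → ↥S} (hf : Iso F P Q f) (h : Wit B P f σ d) :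
    Wit B Q (finv P f) σ⁻¹ (fun i => (d (σ⁻¹ i))⁻¹) := by
  intro q r hq hr i
  have hr' : (r : Ω) ∈ P := by rw [hr]; exact hf.finv_mem hq
  have h1 := h r q hr' (by rw [hr]; exact (hf.finv_right hq).symm) (σ⁻¹ i)
  have h2 : σ (σ⁻¹ i) = i := by simp
  rw [h2] at h1
  have h3 : B.act r (σ⁻¹ i) = σ⁻¹ (B.act q i) := by rw [h1.1]; simp
  refine ⟨h3, ?_⟩
  have h4 := h1.2
  rw [h3] at h4
  rw [mul_inv_eq_iff_eq_mul, mul_assoc, eq_inv_mul_iff_mul_eq]
  exact h4.symm

theorem wit_conj (B : CB F I) (s : ↥S) : Wit B P (fun x => (s : Ω) * x * (s : Ω)⁻¹) (B.act s) (B.c s) := by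
  intro q r hq hr i
  have h0 : r * s = s * q := by
    apply Subtype.ext
    show (r : Ω) * s = s * q
    rw [hr]; group
  refine ⟨?_, ?_⟩
  · rw [← Perm.mul_apply, ← map_mul, h0, map_mul, Perm.mul_apply]
  · rw [← B.coc, h0, B.coc]

variable [Fintype I]

theorem Th_comp (l : ↥S →* A) (σ : Perm I) (d d' : I → ↥S) :
    ∏ i, l (d' (σ i) * d i) = (∏ i, l (d' i)) * ∏ i, l (d i) := by
  simp only [map_mul, Finset.prod_mul_distrib]
  congr 1
  exact σ.prod_comp Finset.univ (fun i => l (d' i)) (fun _ _ => Finset.mem_univ _)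

theorem Th_inv (l : ↥S →* A) (σ : Perm I) (d : I → ↥S) :
    ∏ i, l ((d (σ⁻¹ i))⁻¹) = (∏ i, l (d i))⁻¹ := by
  simp only [map_inv, Finset.prod_inv_distrib]
  congr 1
  exact (σ⁻¹).prod_comp Finset.univ (fun i => l (d i)) (fun _ _ => Finset.mem_univ _)

/-- the accumulated product of a witness along a cycle -/
def accu (σ : Perm I) (d : I → ↥S) : ℕ → I → ↥S
  | 0, _ => 1
  | n + 1, i => d ((σ ^ n) i) * accu σ d n i

theorem map_accu (l : ↥S →* A) (σ : Perm I) (d : I → ↥S) (n : ℕ) (i : I) :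
    l (accu σ d n i) = ∏ k ∈ Finset.range n, l (d ((σ ^ k) i)) := by
  induction n with
  | zero => simp [accu]
  | succ n ih => rw [accu, map_mul, ih, Finset.prod_range_succ, mul_comm]

variable {p : ℕ} [Fact p.Prime] [Finite S]

/-- the determinant of a witness of the identity of a fully centralized subgroup -/
theorem Th_cen (hS : IsPGroup p S) (hF : F.IsSaturated p) (B : CB F I) (l : ↥S →* A) (hA : ∀ a : A, a ^ p = 1)
    (hB : ∀ a i, l (B.c a i) = l a)
    (hl : ∀ P f, Map F P f → ∀ q r : ↥S, (q : Ω) ∈ P → (r : Ω) = f q → l r = l q)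
    (hQ : F.IsFullyCentralized Q) {σ : Perm I} {d : I → ↥S} (hW : Wit B Q id σ d) :
    ∃ s : ↥S, (s : Ω) ∈ centralizerIn S Q ∧ ∏ i, l (d i) = l s := by
  classical
  have hQS : Q ≤ S := hQ.1
  let N : Subgroup A := ((centralizerIn S Q).subgroupOf S).map l
  have hN : ∀ s : ↥S, (s : Ω) ∈ centralizerIn S Q → l s ∈ N := fun s hs => ⟨s, Subgroup.mem_subgroupOf.2 hs, rfl⟩
  suffices h : ∏ i, l (d i) ∈ N by
    obtain ⟨s, hs, hs'⟩ := h
    exact ⟨s, Subgroup.mem_subgroupOf.1 hs, hs'.symm⟩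
  have hinv : ∀ (q : ↥S), (q : Ω) ∈ Q → ∀ i, l (d (B.act q i)) = l (d i) := by
    intro q hq i
    have h1 := (hW q q hq rfl i).2
    have h2 := congrArg l h1
    rw [map_mul, map_mul, hB, hB, mul_comm] at h2
    exact (mul_right_cancel h2).symm
  letI : MulAction ↥(Q.subgroupOf S) I :=
    { smul := fun q i => B.act q i
      one_smul := fun i => by show B.act (1 : ↥S) i = i; rw [map_one]; rfl
      mul_smul := fun q r i => by show B.act ((q : ↥S) * r) i = B.act q (B.act r i); rw [map_mul]; rfl }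
  have hsm : ∀ (q : ↥(Q.subgroupOf S)) i, q • i = B.act (q : ↥S) i := fun _ _ => rfl
  have hQp : IsPGroup p ↥(Q.subgroupOf S) := hS.to_subgroup _
  rw [prod_fixed hQp (fun i => l (d i)) (fun q i => hinv q (Subgroup.mem_subgroupOf.1 q.2) i) hA]
  rw [← QuotientGroup.eq_one_iff]
  have e1 : ((∏ j : I, if ∀ g : ↥(Q.subgroupOf S), g • j = j then l (d j) else 1 : A) : A ⧸ N) =
      ∏ j : I, ((if ∀ g : ↥(Q.subgroupOf S), g • j = j then l (d j) else 1 : A) : A ⧸ N) :=
    map_prod (QuotientGroup.mk' N) _ _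
  rw [e1]
  apply prod_cycles σ
  intro j n hj
  by_cases hfix : ∀ g : ↥(Q.subgroupOf S), g • j = j
  · have hfix' : ∀ q : ↥S, (q : Ω) ∈ Q → B.act q j = j := fun q hq => hfix ⟨q, Subgroup.mem_subgroupOf.2 hq⟩
    have hact : ∀ k, ∀ q : ↥S, (q : Ω) ∈ Q → B.act q ((σ ^ k) j) = (σ ^ k) j := by
      intro k
      induction k with
      | zero => intro q hq; exact hfix' q hq
      | succ k ih =>
        intro q hq
        rw [pow_succ', Perm.mul_apply, (hW q q hq rfl _).1, ih q hq]
    have hcom : ∀ k, ∀ q : ↥S, (q : Ω) ∈ Q → B.c q ((σ ^ k) j) * accu σ d k j = accu σ d k j * B.c q j := by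
      intro k
      induction k with
      | zero => intro q hq; simp [accu]
      | succ k ih =>
        intro q hq
        have h1 := (hW q q hq rfl ((σ ^ k) j)).2
        rw [hact k q hq] at h1
        show B.c q ((σ ^ (k + 1)) j) * (d ((σ ^ k) j) * accu σ d k j) = d ((σ ^ k) j) * accu σ d k j * B.c q j
        rw [pow_succ', Perm.mul_apply, ← mul_assoc, h1, mul_assoc, ih q hq, mul_assoc]
    have hall : ∀ k, (∀ g : ↥(Q.subgroupOf S), g • ((σ ^ k) j) = (σ ^ k) j) := fun k g =>
      hact k g (Subgroup.mem_subgroupOf.1 g.2)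
    have e2 : ∏ k ∈ Finset.range n, ((if ∀ g : ↥(Q.subgroupOf S), g • ((σ ^ k) j) = (σ ^ k) j then l (d ((σ ^ k) j)) else 1 : A) : A ⧸ N) =
        ((l (accu σ d n j) : A) : A ⧸ N) := by
      rw [map_accu]
      refine Eq.trans (Finset.prod_congr rfl fun k _ => by rw [if_pos (hall k)]) ?_
      exact (map_prod (QuotientGroup.mk' N) _ _).symm
    rw [e2, QuotientGroup.eq_one_iff]
    -- the accumulated element centralizes the image of `Q`
    obtain ⟨P, ψ, hψ, h1, h2⟩ := B.map j
    have hQP : Q ≤ P := fun q hq => (h1 ⟨q, hQS hq⟩).2 (hfix' _ hq)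
    have h3 : ∀ q : ↥S, (q : Ω) ∈ Q → (B.c q j : Ω) = ψ q := fun q hq => h2 q (hfix' q hq)
    have hψQ := hψ.mono hQP
    have hs : (accu σ d n j : Ω) ∈ centralizerIn S (im Q ψ) := by
      rw [mem_cen]
      refine ⟨(accu σ d n j).2, fun y hy => ?_⟩
      obtain ⟨x, hx, rfl⟩ := hψQ.mem_im.1 hy
      have h4 := hcom n ⟨x, hQS hx⟩ hx
      rw [hj] at h4
      have h5 := congrArg Subtype.val h4
      have h6 : (B.c ⟨x, hQS hx⟩ j : Ω) = ψ x := h3 _ hx
      rw [Subgroup.coe_mul, Subgroup.coe_mul, h6] at h5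
      exact h5
    -- move it into the centralizer of `Q`
    have hrec := fc_receptive hS hF hQ
    have hi := hψQ.iso.symm
    obtain ⟨χ, hχ, hχ'⟩ := receptive_ext' hrec hi (N := centralizerIn S (im Q ψ) ⊔ im Q ψ)
      (sup_le cen_le_ext hi.map.le_ext)
    have hmem : (accu σ d n j : Ω) ∈ centralizerIn S (im Q ψ) ⊔ im Q ψ := Subgroup.mem_sup_left hs
    have hi' : Iso F (im Q ψ) Q χ := hi.congr fun x hx => (hχ' x hx).symm
    have h7 : χ (accu σ d n j) ∈ centralizerIn S Q := hχ.cen_mem' hi' le_sup_right hmem hs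
    have h8 := hl _ χ hχ (accu σ d n j) ⟨_, cen_le h7⟩ hmem rfl
    rw [← h8]
    exact hN _ h7
  · apply Finset.prod_eq_one
    intro k _
    have hk : ¬ ∀ g : ↥(Q.subgroupOf S), g • ((σ ^ k) j) = (σ ^ k) j := by
      intro hall
      apply hfix
      intro g
      have h1 : ∀ m, B.act (g : ↥S) ((σ ^ m) j) = (σ ^ m) (B.act g j) := by
        intro m
        induction m with
        | zero => rfl
        | succ m ih =>
          rw [pow_succ', Perm.mul_apply, (hW g g (Subgroup.mem_subgroupOf.1 g.2) rfl _).1, ih]; rfl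
      have h2 := hall g
      rw [hsm, h1] at h2
      exact (σ ^ k).injective h2
    rw [if_neg hk]
    rfl

end

end Cfsg.Agent.H27.Ix
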