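import Mathlib
import Cfsg.Agent.H27_Ix1
import Cfsg.Agent.H27_FusInv

/-! The subsystem of index `p` over a subgroup containing the focal subgroup. -/

set_option autoImplicit false

namespace Cfsg.Agent.H27.Ix

open Equiv Cfsg.FusionSystem Cfsg.Agent.H27.Fus Cfsg.Agent.H27.Grp Cfsg.Agent.H27.Bs

universe u

theorem mem_of_pow {A : Type*} [CommGroup A] {p m : ℕ} (hp : p.Prime) (hm : ¬ p ∣ m) (hA : ∀ a : A, a ^ p = 1) {a : A}
    {N : Subgroup A} (h : a ^ m ∈ N) : a ∈ N := by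
  have hc : IsCoprime (p : ℤ) (m : ℤ) := Nat.isCoprime_iff_coprime.2 ((hp.coprime_iff_not_dvd).2 hm)
  obtain ⟨u, v, huv⟩ := hc
  have h1 : a = (a ^ p) ^ u * (a ^ m) ^ v := by
    rw [← zpow_natCast, ← zpow_natCast, ← zpow_mul, ← zpow_mul, ← zpow_add, mul_comm (p : ℤ) u, mul_comm (m : ℤ) v, huv,
      zpow_one]
  rw [h1, hA, one_zpow, one_mul]
  exact N.zpow_mem h v

theorem exists_root {A : Type*} [CommGroup A] {p m : ℕ} (hp : p.Prime) (hm : ¬ p ∣ m) (hA : ∀ a : A, a ^ p = 1) {a : A}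
    {N : Subgroup A} (h : a ∈ N) : ∃ b ∈ N, b ^ m = a := by
  have hc : IsCoprime (p : ℤ) (m : ℤ) := Nat.isCoprime_iff_coprime.2 ((hp.coprime_iff_not_dvd).2 hm)
  obtain ⟨u, v, huv⟩ := hc
  have h1 : a = (a ^ p) ^ u * (a ^ v) ^ m := by
    rw [← zpow_natCast, ← zpow_natCast, ← zpow_mul, ← zpow_mul, ← zpow_add, mul_comm (p : ℤ) u, huv, zpow_one]
  rw [hA, one_zpow, one_mul] at h1
  exact ⟨a ^ v, N.zpow_mem h v, h1.symm⟩

section
variable {Ω : Type u} [Group Ω] {S : Subgroup Ω} {F : FusionSystem S} {P Q R : Subgroup Ω} {f g : Ω → Ω}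
  {I : Type u} {A : Type*} [CommGroup A]

theorem fn_conj [Finite S] (hQ : F.IsFullyNormalized Q) {s : Ω} (hs : s ∈ S) :
    F.IsFullyNormalized (im Q (fun x => s * x * s⁻¹)) := by
  have hc := map_conj F hQ.1 hs
  refine ⟨hc.im_le, fun R hR => ?_⟩
  refine (hQ.2 R (isConj_trans hc.iso.isConj hR)).trans ?_
  have h1 := map_conj F (nrm_le (S := S) (P := Q)) hs
  have h2 := fin_nrm (S := S) (P := im Q (fun x => s * x * s⁻¹))
  exact card_le_of_map h1 fun x hx => h1.nrm_mem (le_nrm hQ.1) hx hx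

variable [Fintype I] (B : CB F I) (l : ↥S →* A) (T : Subgroup Ω)

def IxM (P : Subgroup Ω) (f : Ω → Ω) : Prop :=
  P ≤ T ∧ (∀ x ∈ P, f x ∈ T) ∧ Map F P f ∧ ∃ σ d, Wit B P f σ d ∧ ∏ i, l (d i) = 1

/-- the system of the maps with trivial determinant -/
def IxFS (hTS : T ≤ S) (hT : ∀ x : ↥S, (x : Ω) ∈ T ↔ l x = 1) (hB : ∀ a i, l (B.c a i) = l a) : FusionSystem T :=
  mkFS T (IxM B l T)
    (by
      rintro P f g ⟨h1, h2, h3, σ, d, h4, h5⟩ hfg
      exact ⟨h1, fun x hx => by rw [← hfg x hx]; exact h2 x hx, h3.congr hfg, σ, d, h4.congr hfg, h5⟩)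
    (fun P f h => ⟨h.1, h.2.1⟩)
    (fun P f h x hx y hy => h.2.2.1.inj hx hy)
    (by
      intro P s hP hs
      refine ⟨hP, fun x hx => T.mul_mem (T.mul_mem hs (hP hx)) (T.inv_mem hs), map_conj F (hP.trans hTS) (hTS hs),
        _, _, wit_conj B ⟨s, hTS hs⟩, ?_⟩
      rw [Finset.prod_congr rfl fun i _ => hB _ i, (hT ⟨s, hTS hs⟩).1 hs]
      simp)
    (by
      rintro P Q f g ⟨h1, h2, h3, σ, d, h4, h5⟩ ⟨k1, k2, k3, σ', d', k4, k5⟩ hPQ
      refine ⟨h1, fun x hx => k2 _ (hPQ x hx), k3.comp h3 hPQ, _, _, h4.comp h3 k4 hPQ, ?_⟩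
      rw [Th_comp, h5, k5, one_mul])
    (by
      rintro P f R ⟨h1, h2, h3, σ, d, h4, h5⟩ hmul hR
      have hi : Iso F P R f := h3.iso_of_im_eq (by
        ext y
        rw [h3.mem_im, hR])
      refine ⟨finv P f, ⟨?_, fun x hx => h1 (hi.finv_mem hx), hi.symm.map, _, _, h4.inv hi, ?_⟩, fun x hx => hi.finv_left hx⟩
      · intro y hy
        obtain ⟨x, hx, rfl⟩ := (hR y).1 hy
        exact h2 x hx
      · rw [Th_inv, h5, inv_one])

variable {B l T} {hTS : T ≤ S} {hT : ∀ x : ↥S, (x : Ω) ∈ T ↔ l x = 1} {hB : ∀ a i, l (B.c a i) = l a}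

theorem map_IxFS : Map (IxFS B l T hTS hT hB) P f ↔ IxM B l T P f :=
  map_mkFS fun P f h x hx y hy => h.2.2.1.mul hx hy

theorem Th_conj (hB : ∀ a i, l (B.c a i) = l a) (s : ↥S) : ∏ i, l (B.c s i) = l s ^ Fintype.card I := by
  rw [Finset.prod_congr rfl fun i _ => hB _ i]; simp

variable {p : ℕ} [hp : Fact p.Prime] [Finite S]

theorem IxFS_saturated (hS : IsPGroup p S) (hF : F.IsSaturated p) (hA : ∀ a : A, a ^ p = 1)
    (hl : ∀ P f, Map F P f → ∀ q r : ↥S, (q : Ω) ∈ P → (r : Ω) = f q → l r = l q)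
    (hsurj : Function.Surjective l) (hm : ¬ p ∣ Fintype.card I) : (IxFS B l T hTS hT hB).IsSaturated p := by
  set E := IxFS B l T hTS hT hB with hE
  have hfinT : Finite T := finite_of_le hTS
  have hstr : ∀ P f, Map F P f → ∀ x ∈ P, x ∈ T → f x ∈ T := by
    intro P f hf x hx hxT
    have h1 := hl P f hf ⟨x, hf.le hx⟩ ⟨f x, hf.mem hx⟩ hx rfl
    rw [(hT ⟨x, hf.le hx⟩).1 hxT] at h1
    exact (hT ⟨f x, hf.mem hx⟩).2 h1
  have hsub : ∀ P f, Map E P f → Map F P f := fun P f h => (map_IxFS.1 h).2.2.1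
  -- determinants of two witnesses of the same map
  have key : ∀ Q, F.IsFullyCentralized Q → ∀ P a b, Iso F P Q a → Iso F P Q b → (∀ x ∈ P, a x = b x) →
      ∀ σ d σ' d', Wit B P a σ d → Wit B P b σ' d' →
        ∃ s : ↥S, (s : Ω) ∈ centralizerIn S Q ∧ (∏ i, l (d' i)) * (∏ i, l (d i))⁻¹ = l s := by
    intro Q hQ P a b ha hb hab σ d σ' d' h1 h2
    have h3 := (h1.inv ha).comp ha.symm.map h2 (fun x hx => ha.finv_mem hx)
    have h4 := h3.congr (g := id) (fun x hx => by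
      show b (finv P a x) = x
      rw [← hab _ (ha.finv_mem hx), ha.finv_right hx])
    obtain ⟨s, hs, h5⟩ := Th_cen hS hF B l hA hB hl hQ h4
    refine ⟨s, hs, ?_⟩
    rw [← h5, Th_comp, Th_inv]
  have hgood : ∀ Q, Q ≤ T → F.IsFullyNormalized Q → E.IsFullyAutomized p Q ∧ E.IsReceptive Q := by
    intro Q hQT hQ
    have hQS := hQ.1
    have hfinQ : Finite Q := finite_of_le hQS
    have hfc := fn_fc hS hF hQ
    have hrec := fn_receptive hS hF hQ
    have hEF : E.autGroup Q ≤ F.autGroup Q := autGroup_mono_of_sub hsub hTS hQT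
    constructor
    · rw [isFullyAutomized_iff]
      refine ⟨hQT, ?_⟩
      have h1 := (isFullyAutomized_iff.1 (fn_automized hS hF hQ)).2
      have hn : F.autGroup Q ≤ Subgroup.normalizer (E.autGroup Q : Set (MulAut Q)) := by
        apply le_normalizer_of
        intro α hα ε hε
        have hα' := (mem_autGroup_iff hQS).1 hα
        obtain ⟨e1, e2, e3, σ', d', e4, e5⟩ := map_IxFS.1 ((mem_autGroup_iff hQT).1 hε).map
        obtain ⟨σ, d, (h2 : Wit B Q (totA α) σ d)⟩ := B.stab Q _ hα'.map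
        have hαs := hα'.symm
        have hε' : ∀ x ∈ Q, totA ε x ∈ Q := fun x hx => by rw [totA_of_mem _ hx]; exact (ε ⟨x, hx⟩).2
        have hαm : ∀ x ∈ Q, totA α x ∈ Q := fun x hx => by rw [totA_of_mem _ hx]; exact (α ⟨x, hx⟩).2
        have m1 : Map F Q (totA α ∘ totA ε ∘ finv Q (totA α)) :=
          hα'.map.comp (e3.comp hαs.map fun x hx => hα'.finv_mem hx) fun x hx => hε' _ (hα'.finv_mem hx)
        have w1 : Wit B Q (totA α ∘ totA ε ∘ finv Q (totA α)) _ _ :=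
          ((h2.inv hα').comp hαs.map e4 fun x hx => hα'.finv_mem hx).comp (e3.comp hαs.map fun x hx => hα'.finv_mem hx)
            h2 fun x hx => hε' _ (hα'.finv_mem hx)
        have hM : Map E Q (totA α ∘ totA ε ∘ finv Q (totA α)) := by
          rw [hE, map_IxFS]
          refine ⟨hQT, fun x hx => hQT (hαm _ (hε' _ (hα'.finv_mem hx))), m1, _, _, w1, ?_⟩
          rw [Th_comp, Th_comp, Th_inv, e5, one_mul, mul_inv_cancel]
        refine mem_autGroup_of hM fun x => ?_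
        have h3 : finv Q (totA α) x = (α⁻¹ x : Q) := by
          have h4 := hα'.finv_left (α⁻¹ x : Q).2
          have h5 : totA α (α⁻¹ x : Q) = x := by rw [totA_apply, MulAut.apply_inv_self]
          rw [h5] at h4
          exact h4
        show ((α * ε * α⁻¹) x : Ω) = totA α (totA ε (finv Q (totA α) x))
        rw [h3, totA_apply, totA_apply]; rfl
      have h2 := h1.inf hEF hn
      have h3 : autInducedBy S Q ⊓ E.autGroup Q = autInducedBy T Q := by
        apply le_antisymm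
        · rintro α ⟨hα1, hα2⟩
          obtain ⟨s, hs, hα⟩ := mem_autInducedBy.1 hα1
          obtain ⟨e1, e2, e3, σ', d', e4, e5⟩ := map_IxFS.1 ((mem_autGroup_iff hQT).1 hα2).map
          have hi := (mem_autGroup_iff hQS).1 (hEF hα2)
          have hc : ∀ x ∈ Q, totA α x = s * x * s⁻¹ := fun x hx => by rw [totA_of_mem _ hx]; exact hα ⟨x, hx⟩
          obtain ⟨t, ht, h4⟩ := key Q hfc Q _ _ hi (hi.congr hc) hc σ' d' _ _ e4 (wit_conj B ⟨s, hs⟩)
          rw [e5, inv_one, mul_one, Th_conj hB] at h4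
          have h5 : l ⟨s, hs⟩ ∈ ((centralizerIn S Q).subgroupOf S).map l :=
            mem_of_pow hp.out hm hA (by rw [h4]; exact ⟨t, Subgroup.mem_subgroupOf.2 ht, rfl⟩)
          obtain ⟨c, hc1, hc2⟩ := h5
          have hc1' : (c : Ω) ∈ centralizerIn S Q := Subgroup.mem_subgroupOf.1 hc1
          have h6 : s * (c : Ω)⁻¹ ∈ T := by
            have h7 : l (⟨s, hs⟩ * c⁻¹) = 1 := by rw [map_mul, map_inv, hc2, mul_inv_cancel]
            exact (hT _).2 h7
          refine mem_autInducedBy.2 ⟨_, h6, fun x => ?_⟩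
          rw [hα x]
          have h8 := cen_conj ((centralizerIn S Q).inv_mem hc1') x.2
          calc s * (x : Ω) * s⁻¹ = s * ((c : Ω)⁻¹ * x * ((c : Ω)⁻¹)⁻¹) * s⁻¹ := by rw [h8]
            _ = _ := by group
        · refine le_inf (autInducedBy_mono hTS) ?_
          exact autInducedBy_le_autGroup E hQT
      rwa [h3] at h2
    · rw [isReceptive_iff]
      refine ⟨hQT, fun P f hf => ?_⟩
      have hf0 := map_IxFS.1 hf.map
      obtain ⟨e1, e2, e3, σ, d, e4, e5⟩ := hf0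
      have hfF : Iso F P Q f := e3.iso_of_im_eq hf.im_eq
      have hle : ext T P f ≤ ext S P f := by
        intro x hx
        obtain ⟨h1, h2, h, h3, h4⟩ := mem_ext.1 hx
        exact mem_ext.2 ⟨hTS h1, h2, h, hTS h3, h4⟩
      obtain ⟨g, hg, hgf⟩ := receptive_ext' hrec hfF hle
      obtain ⟨σ', d', (h1 : Wit B (ext T P f) g σ' d')⟩ := B.stab _ g hg
      have hPle : P ≤ ext T P f := hf.map.le_ext
      have hgi : Iso F P Q g := hfF.congr fun x hx => (hgf x hx).symm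
      obtain ⟨t, ht, h2⟩ := key Q hfc P f g hfF hgi (fun x hx => (hgf x hx).symm) σ d σ' d' e4 (h1.mono hPle)
      rw [e5, inv_one, mul_one] at h2
      obtain ⟨b, hb, hbm⟩ := exists_root (N := ((centralizerIn S Q).subgroupOf S).map l) hp.out hm hA
        (a := (l t)⁻¹) (Subgroup.inv_mem _ ⟨t, Subgroup.mem_subgroupOf.2 ht, rfl⟩)
      obtain ⟨c, hc1, hc2⟩ := hb
      have hc1' : (c : Ω) ∈ centralizerIn S Q := Subgroup.mem_subgroupOf.1 hc1
      have hconj := map_conj F hg.im_le c.2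
      refine ⟨(fun x => (c : Ω) * x * (c : Ω)⁻¹) ∘ g, ?_, fun x hx => ?_⟩
      · rw [hE, map_IxFS]
        have m1 := hconj.comp hg fun x hx => hg.apply_mem_im hx
        refine ⟨ext_le, fun x hx => hstr _ _ m1 x hx (ext_le hx), m1, _, _,
          h1.comp hg (wit_conj (P := im (ext T P f) g) B c) fun x hx => hg.apply_mem_im hx, ?_⟩
        rw [Th_comp, Th_conj hB, h2, hc2, hbm, inv_mul_cancel]
      · show (c : Ω) * g x * (c : Ω)⁻¹ = f x
        rw [hgf x hx]
        exact cen_conj hc1' (by rw [← hfF.im_eq]; exact e3.apply_mem_im hx)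
  intro P hPT
  obtain ⟨Q, hPQ, hQ⟩ := exists_fullyNormalized F (hPT.trans hTS)
  obtain ⟨f, hf⟩ := isConj_iff.1 hPQ
  obtain ⟨σ, d, (h1 : Wit B P f σ d)⟩ := B.stab P f hf.map
  obtain ⟨b, -, hb⟩ := exists_root (N := (⊤ : Subgroup A)) hp.out hm hA (a := (∏ i, l (d i))⁻¹) trivial
  obtain ⟨s, rfl⟩ := hsurj b
  have hc := map_conj F hf.le' s.2
  have hcf := hc.comp hf.map fun x hx => by rw [← hf.im_eq]; exact hf.map.apply_mem_im hx
  have hfn := fn_conj hQ s.2
  have him : im P ((fun x => (s : Ω) * x * (s : Ω)⁻¹) ∘ f) = im Q (fun x => (s : Ω) * x * (s : Ω)⁻¹) := by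
    ext y
    rw [hcf.mem_im, hc.mem_im]
    constructor
    · rintro ⟨x, hx, rfl⟩
      exact ⟨f x, by rw [← hf.im_eq]; exact hf.map.apply_mem_im hx, rfl⟩
    · rintro ⟨x, hx, rfl⟩
      exact ⟨finv P f x, hf.finv_mem hx, by show _ * f (finv P f x) * _ = _; rw [hf.finv_right hx]⟩
  have hT' : im Q (fun x => (s : Ω) * x * (s : Ω)⁻¹) ≤ T := by
    rw [← him]
    intro y hy
    obtain ⟨x, hx, rfl⟩ := hcf.mem_im.1 hy
    exact hstr _ _ hcf x hx (hPT hx)
  have hM : Map E P ((fun x => (s : Ω) * x * (s : Ω)⁻¹) ∘ f) := by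
    rw [hE, map_IxFS]
    refine ⟨hPT, fun x hx => hstr _ _ hcf x hx (hPT hx), hcf, _, _,
      h1.comp hf.map (wit_conj (P := Q) B s) fun x hx => by rw [← hf.im_eq]; exact hf.map.apply_mem_im hx, ?_⟩
    rw [Th_comp, Th_conj hB, hb, inv_mul_cancel]
  exact ⟨_, (hM.iso_of_im_eq him).isConj, hgood _ hT' hfn⟩

theorem IxFS_index (hA : ∀ a : A, a ^ p = 1) (hTF : F.hyperfocalSubgroup p ≤ T)
    (hl : ∀ P f, Map F P f → ∀ q r : ↥S, (q : Ω) ∈ P → (r : Ω) = f q → l r = l q) :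
    (IxFS B l T hTS hT hB).HasPPowerIndexIn F p := by
  set E := IxFS B l T hTS hT hB with hE
  have hstr : ∀ P f, Map F P f → ∀ x ∈ P, x ∈ T → f x ∈ T := by
    intro P f hf x hx hxT
    have h1 := hl P f hf ⟨x, hf.le hx⟩ ⟨f x, hf.mem hx⟩ hx rfl
    rw [(hT ⟨x, hf.le hx⟩).1 hxT] at h1
    exact (hT ⟨f x, hf.mem hx⟩).2 h1
  have hsub : ∀ P f, Map E P f → Map F P f := fun P f h => (map_IxFS.1 h).2.2.1
  refine ⟨isSubsystemOf_iff.2 hsub, hTF, fun P hPT => ?_⟩
  have hPS := hPT.trans hTS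
  have hfinP : Finite P := finite_of_le hPS
  show opR p (F.autGroup P) ≤ _
  rw [opR_eq, Subgroup.closure_le]
  rintro α ⟨hα, hord⟩
  -- a `p`-th root
  have hc : IsCoprime (p : ℤ) (orderOf α : ℤ) := Nat.isCoprime_iff_coprime.2 hord.symm
  obtain ⟨u, v, huv⟩ := hc
  have hroot : (α ^ u) ^ p = α := by
    have h1 : α = (α ^ u) ^ p * (α ^ orderOf α) ^ v := by
      rw [← zpow_natCast, ← zpow_natCast, ← zpow_mul, ← zpow_mul, ← zpow_add, mul_comm (orderOf α : ℤ) v, huv, zpow_one]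
    rw [pow_orderOf_eq_one, one_zpow, mul_one] at h1
    exact h1.symm
  set β := α ^ u with hβ
  have hβF : β ∈ F.autGroup P := Subgroup.zpow_mem _ hα u
  have hβi := (mem_autGroup_iff hPS).1 hβF
  obtain ⟨σ, d, (h1 : Wit B P (totA β) σ d)⟩ := B.stab P _ hβi.map
  have hpow : ∀ k : ℕ, ∃ σ' d', Wit B P (totA (β ^ k)) σ' d' ∧ ∏ i, l (d' i) = (∏ i, l (d i)) ^ k := by
    intro k
    induction k with
    | zero =>
      refine ⟨1, fun _ => 1, ?_, by simp⟩
      intro q r hq hr i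
      have h2 : r = q := by
        apply Subtype.ext
        rw [hr, totA_of_mem _ hq]; rfl
      rw [h2]; simp
    | succ k ih =>
      obtain ⟨σ', d', h2, h3⟩ := ih
      have hki := (mem_autGroup_iff hPS).1 (Subgroup.pow_mem _ hβF k)
      refine ⟨_, _, (h2.comp hki.map h1 fun x hx => by rw [totA_of_mem _ hx]; exact ((β ^ k) ⟨x, hx⟩).2).congr
        fun x hx => ?_, ?_⟩
      · show totA β (totA (β ^ k) x) = _
        rw [totA_of_mem (β ^ k) hx, totA_apply, totA_of_mem (β ^ (k + 1)) hx, pow_succ']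
        rfl
      · rw [Th_comp, h3, pow_succ']
  obtain ⟨σ', d', h2, h3⟩ := hpow p
  rw [hroot] at h2
  rw [hA] at h3
  have hαi := (mem_autGroup_iff hPS).1 hα
  have hM : Map E P (totA α) := by
    rw [hE, map_IxFS]
    exact ⟨hPT, fun x hx => hstr _ _ hαi.map x hx (hPT hx), hαi.map, σ', d', h2, h3⟩
  exact mem_autGroup_of hM fun x => (totA_apply α x).symm

end

section
variable {Ω : Type u} [Group Ω] {S : Subgroup Ω} {F : FusionSystem S} {p : ℕ} [hp : Fact p.Prime] [Finite S]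

theorem exists_step (hS : IsPGroup p S) (hF : F.IsSaturated p) {T : Subgroup Ω} (hTS : T ≤ S)
    (hfoc : F.focalSubgroup ≤ T) (hpow : ∀ x ∈ S, x ^ p ∈ T) :
    ∃ E : FusionSystem T, E.IsSaturated p ∧ E.HasPPowerIndexIn F p := by
  classical
  have hcomm : ∀ s ∈ S, ∀ t ∈ S, s⁻¹ * t⁻¹ * s * t ∈ T := by
    intro s hs t ht
    refine hfoc (comm_le_foc ?_)
    have := Subgroup.commutator_mem_commutator (S.inv_mem hs) (S.inv_mem ht)
    rwa [commutatorElement_def, inv_inv, inv_inv] at this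
  have hTn : ∀ s ∈ S, ∀ t ∈ T, s * t * s⁻¹ ∈ T := by
    intro s hs t ht
    have h1 := hcomm s⁻¹ (S.inv_mem hs) t⁻¹ (S.inv_mem (hTS ht))
    have h2 : s * t * s⁻¹ = (s⁻¹⁻¹ * t⁻¹⁻¹ * s⁻¹ * t⁻¹) * t := by group
    rw [h2]; exact T.mul_mem h1 ht
  haveI hn : (T.subgroupOf S).Normal :=
    ⟨fun t ht s => Subgroup.mem_subgroupOf.2 (hTn s s.2 t (Subgroup.mem_subgroupOf.1 ht))⟩
  letI : CommGroup (↥S ⧸ T.subgroupOf S) :=
    { (inferInstance : Group (↥S ⧸ T.subgroupOf S)) with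
      mul_comm := by
        intro a b
        induction a using QuotientGroup.induction_on with | _ a => ?_
        induction b using QuotientGroup.induction_on with | _ b => ?_
        rw [← QuotientGroup.mk_mul, ← QuotientGroup.mk_mul, QuotientGroup.eq, Subgroup.mem_subgroupOf]
        have h1 := hcomm b b.2 a a.2
        have h2 : (((a * b)⁻¹ * (b * a) : ↥S) : Ω) = (b : Ω)⁻¹ * (a : Ω)⁻¹ * b * a := by
          push_cast; group
        rw [h2]; exact h1 }
  let l : ↥S →* (↥S ⧸ T.subgroupOf S) := QuotientGroup.mk' _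
  have hT : ∀ x : ↥S, (x : Ω) ∈ T ↔ l x = 1 := by
    intro x
    rw [← Subgroup.mem_subgroupOf, ← QuotientGroup.eq_one_iff]; rfl
  have hA : ∀ a : ↥S ⧸ T.subgroupOf S, a ^ p = 1 := by
    intro a
    induction a using QuotientGroup.induction_on with | _ a => ?_
    rw [← QuotientGroup.mk_pow, QuotientGroup.eq_one_iff, Subgroup.mem_subgroupOf]
    exact hpow a a.2
  have hl : ∀ P f, Map F P f → ∀ q r : ↥S, (q : Ω) ∈ P → (r : Ω) = f q → l r = l q := by
    intro P f hf q r hq hr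
    have h1 : l (q⁻¹ * r) = 1 := by
      rw [← hT]
      show (q : Ω)⁻¹ * (r : Ω) ∈ T
      rw [hr]; exact hfoc (mem_foc hf hq)
    rw [map_mul, map_inv, inv_mul_eq_one] at h1
    exact h1.symm
  obtain ⟨I, _, B₀, hm⟩ := exists_charCB hS hF
  obtain ⟨B, hB⟩ := B₀.adapt hTn (fun P f hf => ⟨1, S.one_mem, fun x hx => ⟨x⁻¹ * f x, hfoc (mem_foc hf hx), by group⟩⟩)
  have hB' : ∀ a i, l (B.c a i) = l a := by
    intro a i
    have h1 : l (B.c a i * a⁻¹) = 1 := (hT _).1 (hB a i)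
    rwa [map_mul, map_inv, mul_inv_eq_one] at h1
  exact ⟨IxFS B l T hTS hT hB', IxFS_saturated hS hF hA hl (QuotientGroup.mk'_surjective _) hm,
    IxFS_index hA (hyp_le_foc.trans hfoc) hl⟩

end

end Cfsg.Agent.H27.Ix
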