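import Mathlib
import Cfsg.Agent.H27_Ix2
import Cfsg.Agent.H27_FusAlp
import Cfsg.Agent.H2_PGroup

/-! Subsystems of `p`-power index: existence, uniqueness. -/

set_option autoImplicit false

namespace Cfsg.Agent.H27.Ix

open Equiv Cfsg.FusionSystem Cfsg.Agent.H27.Fus Cfsg.Agent.H27.Grp Cfsg.Agent.H27.Bs

universe u

theorem opR_opR {G : Type*} [Group G] {p : ℕ} (A : Subgroup G) : opR p (opR p A) = opR p A := by
  apply le_antisymm (opR_le _)
  conv_lhs => rw [opR_eq]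
  rw [Subgroup.closure_le]
  rintro a ⟨ha, h⟩
  exact mem_opR_of (mem_opR_of ha h) h

section
variable {Ω : Type u} [Group Ω] {S T U : Subgroup Ω} {F : FusionSystem S} {E : FusionSystem T} {D : FusionSystem U}
  {P Q R : Subgroup Ω} {f g : Ω → Ω} {p : ℕ}

theorem sub_le (h : ∀ P f, Map E P f → Map F P f) : T ≤ S := (h T id (map_id E le_rfl)).le

theorem hyp_mono' (h : ∀ P f, Map E P f → Map F P f) : E.hyperfocalSubgroup p ≤ F.hyperfocalSubgroup p := by
  have hTS := sub_le h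
  conv_lhs => rw [hyp_eq]
  rw [Subgroup.closure_le]
  rintro _ ⟨P, α, x, hP, hα, rfl⟩
  refine mem_hyp (hP.trans hTS) (opR_mono ?_ hα) x
  exact autGroup_mono_of_sub h hTS hP

theorem foc_mono' (h : ∀ P f, Map E P f → Map F P f) : E.focalSubgroup ≤ F.focalSubgroup := by
  conv_lhs => rw [foc_eq]
  rw [Subgroup.closure_le]
  rintro _ ⟨P, f, hf, x, hx, rfl⟩
  exact mem_foc (h P f hf) hx

/-- the relation of having `p`-power index, in function form -/
structure PIx (E : FusionSystem T) (F : FusionSystem S) (p : ℕ) : Prop where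
  sub : ∀ P f, Map E P f → Map F P f
  hyp : F.hyperfocalSubgroup p ≤ T
  aut : ∀ P, P ≤ T → opR p (F.autGroup P) ≤ E.autGroup P

theorem pix_iff : E.HasPPowerIndexIn F p ↔ PIx E F p := by
  constructor
  · rintro ⟨h1, h2, h3⟩
    exact ⟨isSubsystemOf_iff.1 h1, h2, h3⟩
  · rintro ⟨h1, h2, h3⟩
    exact ⟨isSubsystemOf_iff.2 h1, h2, h3⟩

theorem PIx.le (h : PIx E F p) : T ≤ S := sub_le h.sub

theorem PIx.refl (F : FusionSystem S) : PIx F F p := ⟨fun _ _ h => h, hyp_le, fun P _ => opR_le _⟩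

theorem PIx.trans (h : PIx D E p) (h' : PIx E F p) (hU : F.hyperfocalSubgroup p ≤ U) : PIx D F p := by
  refine ⟨fun P f hf => h'.sub P f (h.sub P f hf), hU, fun P hP => ?_⟩
  have h1 := h'.aut P (hP.trans h.le)
  rw [← opR_opR]
  exact (opR_mono h1).trans (h.aut P hP)

variable [Fact p.Prime] [Finite S]

theorem exists_maximal (hS : IsPGroup p S) (hTS : T < S) : ∃ M : Subgroup Ω, T ≤ M ∧ M < S ∧
    (∀ s ∈ S, ∀ t ∈ M, s * t * s⁻¹ ∈ M) ∧ (∀ x ∈ S, x ^ p ∈ M) ∧ ⁅S, S⁆ ≤ M := by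
  have h0 : T.subgroupOf S ≠ ⊤ := fun h => hTS.not_ge (Subgroup.subgroupOf_eq_top.1 h)
  rcases eq_top_or_exists_le_coatom (T.subgroupOf S) with h | ⟨M, hM, hTM⟩
  · exact absurd h h0
  haveI := Cfsg.Agent.H2.PGroup.coatom_normal hS hM
  have hi := Cfsg.Agent.H2.PGroup.coatom_index hS hM
  have hpow : ∀ x : ↥S, x ^ p ∈ M := fun x => by rw [← hi]; exact M.pow_index_mem x
  have hmem : ∀ x : ↥S, (x : Ω) ∈ M.map S.subtype ↔ x ∈ M := by
    intro x
    constructor
    · rintro ⟨y, hy, hxy⟩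
      have : y = x := Subtype.ext hxy
      rwa [← this]
    · intro hx; exact ⟨x, hx, rfl⟩
  have hle : M.map S.subtype ≤ S := Subgroup.map_subtype_le _
  have hcyc : ∀ a b : ↥S, a * b * a⁻¹ * b⁻¹ ∈ M := by
    intro a b
    have hcard : Nat.card (↥S ⧸ M) = p := hi
    haveI : IsCyclic (↥S ⧸ M) := isCyclic_of_prime_card hcard
    letI : CommGroup (↥S ⧸ M) := IsCyclic.commGroup
    rw [← QuotientGroup.eq_one_iff]
    have : ((a * b * a⁻¹ * b⁻¹ : ↥S) : ↥S ⧸ M) = (a : ↥S ⧸ M) * b * (a : ↥S ⧸ M)⁻¹ * (b : ↥S ⧸ M)⁻¹ := rfl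
    rw [this, mul_comm (a : ↥S ⧸ M) b]; group
  refine ⟨M.map S.subtype, fun x hx => ⟨⟨x, hTS.le hx⟩, hTM (Subgroup.mem_subgroupOf.2 hx), rfl⟩, ?_, ?_, ?_, ?_⟩
  · refine lt_of_le_of_ne hle fun h => hM.1 ?_
    rw [eq_top_iff]
    intro x _
    rw [← hmem, h]; exact x.2
  · rintro s hs _ ⟨t, ht, rfl⟩
    exact (hmem (⟨s, hs⟩ * t * ⟨s, hs⟩⁻¹)).2 (Subgroup.Normal.conj_mem inferInstance t ht _)
  · intro x hx
    exact (hmem (⟨x, hx⟩ ^ p)).2 (hpow _)
  · rw [Subgroup.commutator_le]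
    intro a ha b hb
    exact (hmem (⟨a, ha⟩ * ⟨b, hb⟩ * ⟨a, ha⟩⁻¹ * ⟨b, hb⟩⁻¹)).2 (hcyc _ _)

end

section
variable {Ω : Type u} [Group Ω] {p : ℕ} [Fact p.Prime]

theorem exists_pix : ∀ (n : ℕ) {S : Subgroup Ω} (_ : Finite S) (F : FusionSystem S), Nat.card S = n →
    IsPGroup p S → F.IsSaturated p → ∀ {T : Subgroup Ω}, T ≤ S → F.hyperfocalSubgroup p ≤ T →
    ∃ E : FusionSystem T, E.IsSaturated p ∧ PIx E F p := by
  intro n
  induction n using Nat.strong_induction_on with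
  | _ n ih =>
  intro S hfin F hn hS hF T hTS hhyp
  rcases eq_or_lt_of_le hTS with rfl | hlt
  · exact ⟨F, hF, PIx.refl F⟩
  obtain ⟨M, hTM, hMS, hMn, hpow, hcomm⟩ := exists_maximal hS hlt
  have hfoc : F.focalSubgroup ≤ M := by
    rw [foc_eq_hyp hS hF]
    exact sup_le (hhyp.trans hTM) hcomm
  obtain ⟨E, hE, hEi⟩ := exists_step hS hF hMS.le hfoc hpow
  have hEi' := pix_iff.1 hEi
  have hMfin : Finite M := finite_of_le hMS.le
  obtain ⟨D, hD, hDi⟩ := ih _ (by rw [← hn]; exact card_lt_of_lt hMS) hMfin E rfl (hS.to_le hMS.le) hE hTM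
    ((hyp_mono' hEi'.sub).trans hhyp)
  exact ⟨D, hD, hDi.trans hEi' hhyp⟩

variable {S T U V : Subgroup Ω} {F : FusionSystem S} {E : FusionSystem T} {D : FusionSystem U}
  {P Q R : Subgroup Ω} {f g : Ω → Ω}

/-- the residual automorphisms and the inner ones generate -/
theorem aut_le_of_res [Finite S] (hS : IsPGroup p S) (hF : F.IsSaturated p) (hP : F.IsFullyNormalized P)
    {X : Subgroup (MulAut P)} (h1 : opR p (F.autGroup P) ≤ X) (h2 : autInducedBy S P ≤ X) : F.autGroup P ≤ X := by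
  have hfin : Finite P := finite_of_le hP.1
  have hsyl := (isFullyAutomized_iff.1 (fn_automized hS hF hP)).2
  intro α hα
  obtain ⟨b, hb, t, ht, rfl⟩ := exists_opR_mul hsyl hα
  exact X.mul_mem (h1 hb) (h2 ht)

/-- a saturated system is generated by the residual automorphisms together with the inner ones -/
theorem le_of_res [Finite T] (hT : IsPGroup p T) (hE : E.IsSaturated p) {D : FusionSystem U} (hTU : T ≤ U)
    (h : ∀ P, P ≤ T → opR p (E.autGroup P) ≤ D.autGroup P) : ∀ P f, Map E P f → Map D P f := by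
  have hgen : ∀ P : Subgroup Ω, E.IsFullyNormalized P → ∀ f, Iso E P P f → Map D P f := by
    intro P hP f hf
    have h1 := aut_le_of_res hT hE hP (h P hP.1)
      ((autInducedBy_mono hTU).trans (autInducedBy_le_autGroup D (hP.1.trans hTU)))
    exact map_of_mem_autGroup (hP.1.trans hTU) (h1 hf.aut_mem) fun x => hf.aut_apply x
  refine alperin hT hE (C := fun P f => Map D P f) ⟨fun h hfg => h.congr hfg, fun h hQ => h.mono hQ,
    fun _ _ h1 h2 hm => h2.comp h1 hm, fun hi h => ?_⟩ (fun f hf => hgen T (fn_top E) f hf)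
    (fun P hP f hf => hgen P hP.2.1 f hf)
  have h1 := h.iso
  have h2 : im _ _ = _ := hi.im_eq
  rw [h2] at h1
  exact h1.symm.map

/-- every saturated subsystem lies in each subsystem of `p`-power index over a larger group -/
theorem PIx.contains [Finite S] (hS : IsPGroup p S) (h : PIx D F p) (hE : E.IsSaturated p) (hsub : ∀ P f, Map E P f → Map F P f)
    (hTU : T ≤ U) : ∀ P f, Map E P f → Map D P f := by
  have hTS := sub_le hsub
  have hfin : Finite T := finite_of_le hTS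
  refine le_of_res (hS.to_le hTS) hE hTU fun P hP => ?_
  exact (opR_mono (autGroup_mono_of_sub hsub hTS hP)).trans (h.aut P (hP.trans hTU))

theorem PIx.unique [Finite S] (hS : IsPGroup p S) {E E' : FusionSystem T} (hE : E.IsSaturated p) (hE' : E'.IsSaturated p)
    (h : PIx E F p) (h' : PIx E' F p) : E = E' := by
  apply fs_ext
  intro P
  apply hom_eq_of_map
  intro f
  exact ⟨h'.contains hS hE h.sub le_rfl P f, h.contains hS hE' h'.sub le_rfl P f⟩

theorem PIx.unique' [Finite S] (hS : IsPGroup p S) {E : FusionSystem T} {E' : FusionSystem U} (hTU : T = U)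
    (hE : E.IsSaturated p) (hE' : E'.IsSaturated p)
    (h : PIx E F p) (h' : PIx E' F p) (P : Subgroup Ω) (f : Ω → Ω) : Map E P f ↔ Map E' P f := by
  exact ⟨h'.contains hS hE h.sub hTU.le P f, h.contains hS hE' h'.sub hTU.ge P f⟩

end

end Cfsg.Agent.H27.Ix
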