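import Mathlib
import Cfsg.Prelude.Def_FusionComponents
import Cfsg.Agent.H27_FusHyp
import Cfsg.Agent.H27_FusInv3
import Cfsg.Agent.H2_Fusion

set_option autoImplicit false
set_option linter.unusedVariables false
set_option linter.unusedSectionVars false
set_option linter.style.longLine false

namespace Cfsg.Agent.H27.Grp
variable {G : Type*} [Group G] {p : ℕ} [Fact p.Prime]
open Cfsg

/-- lift of elements of order prime to `p` -/
theorem exists_pow_lift {X Y : Type*} [Group X] [Finite X] [Group Y] (f : X →* Y) (x : X) (h : (orderOf (f x)).Coprime p) :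
    ∃ k : ℕ, f (x ^ k) = f x ∧ (orderOf (x ^ k)).Coprime p := by
  have hn : 0 < orderOf x := orderOf_pos x
  obtain ⟨a, m, hm, he⟩ := Nat.exists_eq_pow_mul_and_not_dvd hn.ne' p (Nat.Prime.ne_one Fact.out)
  have hcop : Nat.Coprime (p ^ a) m := Nat.Coprime.pow_left a ((Nat.Prime.coprime_iff_not_dvd Fact.out).2 hm)
  obtain ⟨k, hk1, hk2⟩ := Nat.chineseRemainder hcop 0 1
  refine ⟨k, ?_, ?_⟩
  · have h1 : orderOf (f x) ∣ m := by
      have h2 : orderOf (f x) ∣ p ^ a * m := he ▸ orderOf_map_dvd f x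
      exact Nat.Coprime.dvd_of_dvd_mul_left (h.pow_right a) h2
    rw [map_pow]
    have h3 : k ≡ 1 [MOD orderOf (f x)] := hk2.of_dvd h1
    conv_rhs => rw [← pow_one (f x)]
    exact pow_eq_pow_iff_modEq.2 h3
  · have h1 : (x ^ k) ^ m = 1 := by
      rw [← pow_mul, ← orderOf_dvd_iff_pow_eq_one, he]
      exact Nat.mul_dvd_mul ((Nat.modEq_zero_iff_dvd).1 hk1) (dvd_refl m)
    have h2 := orderOf_dvd_of_pow_eq_one h1
    exact Nat.Coprime.coprime_dvd_left h2 ((Nat.Prime.coprime_iff_not_dvd Fact.out).2 hm).symm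

end Cfsg.Agent.H27.Grp

namespace Cfsg.Agent.H27.Fus
open Cfsg Cfsg.FusionSystem Cfsg.Agent.H27.Grp

section
variable {G : Type*} [Group G] [Finite G] {p : ℕ} [Fact p.Prime] {K T S : Subgroup G}

theorem foc_fss (hT : IsSyl p T K) : (fusionSystemOfSubgroup K T hT.le).focalSubgroup = T ⊓ ⁅K, K⁆ := by
  obtain ⟨P, hP⟩ := (isSyl_iff hT.le).1 hT
  have h1 := Subgroup.commutator_inf_eq_focalSubgroup P
  apply le_antisymm
  · rw [foc_eq, Subgroup.closure_le]
    rintro y ⟨Q, f, hf, x, hx, rfl⟩
    obtain ⟨h1, h2, g, hg, hfg⟩ := map_fss.1 hf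
    refine ⟨T.mul_mem (T.inv_mem (h1 hx)) (h2 x hx), ?_⟩
    rw [hfg x hx]
    have := Subgroup.commutator_mem_commutator (K.inv_mem (hT.le (h1 hx))) hg
    rw [commutatorElement_def, inv_inv] at this
    rwa [show x⁻¹ * (g * x * g⁻¹) = x⁻¹ * g * x * g⁻¹ by group]
  · rintro y ⟨hyT, hyK⟩
    have hyK' : y ∈ (commutator K).map K.subtype := by
      rwa [Subgroup.map_subtype_commutator]
    obtain ⟨z, hz, rfl⟩ := hyK'
    have hzP : z ∈ (P : Subgroup K) := by rw [hP]; exact hyT
    have hzf : z ∈ (P : Subgroup K).focalSubgroup := by rw [← h1]; exact ⟨hz, hzP⟩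
    have hle : (P : Subgroup K).focalSubgroup ≤ (fusionSystemOfSubgroup K T hT.le).focalSubgroup.comap K.subtype := by
      rw [Subgroup.focalSubgroup_def, Subgroup.closure_le]
      rintro g ⟨hg, x, hx, u, rfl⟩
      rw [hP] at hg hx
      have hxT : (x : G) ∈ T := hx
      have hgT : (x : G) * u * (x : G)⁻¹ * (u : G)⁻¹ ∈ T := hg
      have hm : Map (fusionSystemOfSubgroup K T hT.le) (Subgroup.zpowers (x : G)) (fun y => (u : G) * y * (u : G)⁻¹) := by
        rw [map_fss]
        refine ⟨(Subgroup.zpowers_le).2 hxT, fun y hy => ?_, u, u.2, fun y hy => rfl⟩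
        obtain ⟨m, rfl⟩ := Subgroup.mem_zpowers_iff.1 hy
        have h2 : (u : G) * x * (u : G)⁻¹ ∈ T := by
          have h3 := T.mul_mem (T.inv_mem hxT) hgT
          have h4 := T.inv_mem h3
          rwa [show ((x : G)⁻¹ * ((x : G) * u * (x : G)⁻¹ * (u : G)⁻¹))⁻¹ = (u : G) * x * (u : G)⁻¹ by group] at h4
        have h5 : (u : G) * (x : G) ^ m * (u : G)⁻¹ = ((u : G) * x * (u : G)⁻¹) ^ m := conj_zpow.symm
        show (u : G) * (x : G) ^ m * (u : G)⁻¹ ∈ T
        rw [h5]
        exact T.zpow_mem h2 m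
      have h3 := mem_foc hm (Subgroup.inv_mem _ (Subgroup.mem_zpowers (x : G)))
      rw [inv_inv] at h3
      show (x : G) * u * (x : G)⁻¹ * (u : G)⁻¹ ∈ (fusionSystemOfSubgroup K T hT.le).focalSubgroup
      rwa [show (x : G) * u * (x : G)⁻¹ * (u : G)⁻¹ = (x : G) * ((u : G) * (x : G)⁻¹ * (u : G)⁻¹) by group]
    exact hle hzf

/-- `O^p(G)` has full focal subgroup -/
theorem le_commutator_of_perfect (hT : IsSyl p T K) (hK : opR p K = K) : T ≤ ⁅K, K⁆ := by
  have hle := hT.le
  -- quotient map K → K / [K,K]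
  intro x hx
  have hxK := hle hx
  have h1 : (⟨x, hxK⟩ : K) ∈ commutator K := by
    rw [← Abelianization.ker_of K, MonoidHom.mem_ker]
    -- image has p-power order and order prime to p
    have hgen : ∀ y : Abelianization K, (orderOf y).Coprime p := by
      intro y
      obtain ⟨k, rfl⟩ : ∃ k, Abelianization.of k = y := Quotient.inductionOn' y fun k => ⟨k, rfl⟩
      have hk : (k : G) ∈ opR p K := by rw [hK]; exact k.2
      have hk2 : k ∈ pResidual p K := by
        obtain ⟨z, hz, hzk⟩ := hk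
        have : z = k := Subtype.ext hzk
        exact this ▸ hz
      have hk3 : k ∈ Subgroup.closure {g : K | Nat.Coprime (orderOf g) p} := hk2
      induction hk3 using Subgroup.closure_induction with
      | mem z hz => exact Nat.Coprime.coprime_dvd_left (orderOf_map_dvd Abelianization.of z) hz
      | one => rw [map_one, orderOf_one]; exact Nat.coprime_one_left p
      | mul a b ha hb iha ihb =>
        have ha' := iha ⟨a, ha, rfl⟩ ha
        have hb' := ihb ⟨b, hb, rfl⟩ hb
        rw [map_mul]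
        exact Nat.Coprime.coprime_dvd_left (Commute.orderOf_mul_dvd_mul_orderOf (mul_comm _ _)) (Nat.Coprime.mul_left ha' hb')
      | inv a ha iha =>
        rw [map_inv, orderOf_inv]
        exact iha ⟨a, ha, rfl⟩ ha
    obtain ⟨k, hk⟩ := hT.isPGroup ⟨x, hx⟩
    have hk0 : x ^ p ^ k = 1 := congrArg Subtype.val hk
    have hk' : (⟨x, hxK⟩ : K) ^ p ^ k = 1 := Subtype.ext hk0
    have h2 : orderOf (Abelianization.of (⟨x, hxK⟩ : K)) ∣ p ^ k :=
      orderOf_dvd_of_pow_eq_one (by rw [← map_pow, hk', map_one])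
    have h3 : (orderOf (Abelianization.of (⟨x, hxK⟩ : K))).Coprime (p ^ k) :=
      (hgen (Abelianization.of (⟨x, hxK⟩ : K))).pow_right k
    exact orderOf_eq_one_iff.1 (Nat.Coprime.eq_one_of_dvd h3 h2)
  have h2 : x ∈ (commutator K).map K.subtype := ⟨_, h1, rfl⟩
  rwa [Subgroup.map_subtype_commutator] at h2

theorem autGroup_gfs {P : Subgroup G} (hP : P ≤ S) : (groupFusionSystem S).autGroup P = autInducedBy ⊤ P := by
  rw [gfs_eq, autGroup_fss hP]

/-- elements of `O^p(Aut_K(P))` are induced by elements of `O^p(K)` -/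
theorem opR_aut_quot {P : Subgroup G} {α : MulAut P} (hα : α ∈ opR p (autInducedBy K P)) (x : P) :
    (x : G)⁻¹ * (α x : G) ∈ (pResidual p G : Subgroup G) := by
  have hn := Cfsg.Agent.H2.Fusion.pResidual_normal (G := G) p
  rw [opR_eq] at hα
  induction hα using Subgroup.closure_induction generalizing x with
  | mem α hα =>
    obtain ⟨h1, h2⟩ := hα
    obtain ⟨g, hg, hgα⟩ := mem_autInducedBy.1 h1
    have hN : g ∈ Subgroup.normalizer (P : Set G) := autInducedBy_norm (K := K) hgα
    have e1 : P.normalizerMonoidHom ⟨g, hN⟩ = α := by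
      ext y
      rw [hgα]; rfl
    obtain ⟨k, hk1, hk2⟩ := exists_pow_lift (p := p) P.normalizerMonoidHom ⟨g, hN⟩ (e1 ▸ h2)
    have hk3 : g ^ k ∈ pResidual p G := Cfsg.Agent.H2.Fusion.mem_pResidual (by
      rw [← Subgroup.orderOf_coe] at hk2
      exact hk2)
    have h3 : (α x : G) = g ^ k * x * (g ^ k)⁻¹ := by
      rw [← e1, ← hk1]; rfl
    rw [h3]
    have := hn.conj_mem _ hk3 (x : G)⁻¹
    rw [inv_inv] at this
    have h4 := mul_mem this (inv_mem hk3)
    rwa [show (x : G)⁻¹ * g ^ k * x * (g ^ k)⁻¹ = (x : G)⁻¹ * (g ^ k * x * (g ^ k)⁻¹) by group] at h4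
  | one => simp
  | mul a b _ _ iha ihb =>
    have h1 := ihb x
    have h2 := iha (b x)
    have h3 := mul_mem h1 h2
    rwa [show (x : G)⁻¹ * (b x : G) * ((b x : G)⁻¹ * (a (b x) : G)) = (x : G)⁻¹ * ((a * b) x : P) by
      rw [MulAut.mul_apply]; group] at h3
  | inv a _ iha =>
    have h1 := iha (a⁻¹ x)
    rw [MulAut.apply_inv_self] at h1
    have h2 := inv_mem h1
    rwa [mul_inv_rev, inv_inv] at h2

/-- the hyperfocal subgroup theorem (S5093) -/
theorem hyp_gfs (hS : IsSyl p S ⊤) : (groupFusionSystem S).hyperfocalSubgroup p = S ⊓ pResidual p G := by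
  set K := pResidual p G with hK
  have hKn := Cfsg.Agent.H2.Fusion.pResidual_normal (G := G) p
  have hSp := hS.isPGroup
  apply le_antisymm
  · refine le_inf hyp_le ?_
    rw [hyp_eq, Subgroup.closure_le]
    rintro y ⟨P, α, x, hP, hα, rfl⟩
    rw [autGroup_gfs hP] at hα
    exact opR_aut_quot hα x
  · set T := S ⊓ K with hTdef
    have hT : IsSyl p T K := hS.inf le_top (by rw [Subgroup.normalizer_eq_top])
    have hTfin : Finite T := inferInstance
    have hsub : ∀ P f, Map (fusionSystemOfSubgroup K T hT.le) P f → Map (groupFusionSystem S) P f := by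
      intro P f hf
      obtain ⟨h1, h2, g, -, h3⟩ := map_fss.1 hf
      exact map_gfs.2 ⟨h1.trans inf_le_left, fun x hx => (h2 x hx).1, g, h3⟩
    have hperf : opR p K = K := by
      refine le_antisymm (opR_le K) ?_
      show pResidual p G ≤ opR p K
      unfold pResidual
      rw [Subgroup.closure_le]
      intro g hg
      exact mem_opR_of (Subgroup.subset_closure hg) hg
    have h1 : T ≤ (fusionSystemOfSubgroup K T hT.le).focalSubgroup := by
      rw [foc_fss hT]
      exact le_inf le_rfl (le_commutator_of_perfect hT hperf)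
    have hsat := saturated_fss hT
    rw [foc_eq_hyp hT.isPGroup hsat] at h1
    set Hy := (fusionSystemOfSubgroup K T hT.le).hyperfocalSubgroup p with hHy
    have h2 : Hy ≤ T := hyp_le
    -- T = Hy [T,T] with Hy normal: T = Hy
    have h3 : T ≤ Hy := by
      have hnorm : T ≤ Subgroup.normalizer (Hy : Set G) := le_normalizer_of fun a ha x hx => hyp_conj_mem ha hx
      have hN : (Hy.subgroupOf T).Normal := by
        rw [Subgroup.normal_subgroupOf_iff h2]
        intro h g hh hg
        exact (Subgroup.mem_normalizer_iff.1 (hnorm hg) h).1 hh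
      have hnil : Group.IsNilpotent T := hT.isPGroup.isNilpotent
      have hnilq : Group.IsNilpotent (T ⧸ Hy.subgroupOf T) := inferInstance
      have hcomm : commutator (T ⧸ Hy.subgroupOf T) = ⊤ := by
        rw [eq_top_iff]
        intro q _
        obtain ⟨t, rfl⟩ := QuotientGroup.mk'_surjective _ q
        have hTT : ⁅T, T⁆ ≤ T := Subgroup.commutator_le.2 fun a ha b hb =>
          T.mul_mem (T.mul_mem (T.mul_mem ha hb) (T.inv_mem ha)) (T.inv_mem hb)
        obtain ⟨a, ha, b, hb, hab⟩ := mem_sup_nrm (H := ⁅T, T⁆) (N := Hy)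
          (hTT.trans hnorm) (by
            have := h1 t.2
            rwa [sup_comm] at this)
        have haT : a ∈ T := hTT ha
        have e : t = (⟨a, haT⟩ : T) * ⟨b, h2 hb⟩ := Subtype.ext hab.symm
        have e2 : QuotientGroup.mk' (Hy.subgroupOf T) ⟨b, h2 hb⟩ = 1 := (QuotientGroup.eq_one_iff _).2 hb
        rw [e, map_mul, e2, mul_one]
        have h4 : (⟨a, haT⟩ : T) ∈ commutator T := by
          have h5 : a ∈ (commutator T).map T.subtype := by rwa [Subgroup.map_subtype_commutator]
          obtain ⟨z, hz, hza⟩ := h5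
          have : z = ⟨a, haT⟩ := Subtype.ext hza
          exact this ▸ hz
        have h6 := Subgroup.mem_map_of_mem (QuotientGroup.mk' (Hy.subgroupOf T)) h4
        rw [commutator_def, Subgroup.map_commutator] at h6
        rw [commutator_def]
        exact Subgroup.commutator_mono le_top le_top h6
      have htriv : Subsingleton (T ⧸ Hy.subgroupOf T) := by
        by_contra hne
        rw [not_subsingleton_iff_nontrivial] at hne
        exact absurd hcomm (Group.IsSolvable.commutator_lt_top_of_nontrivial _).ne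
      intro t ht
      have h5 : (QuotientGroup.mk (⟨t, ht⟩ : T) : T ⧸ Hy.subgroupOf T) = 1 := Subsingleton.elim _ _
      exact (QuotientGroup.eq_one_iff (⟨t, ht⟩ : T)).1 h5
    intro x hx
    have h4 := h3 hx
    rw [hHy, hyp_eq] at h4
    refine (Subgroup.closure_le _).2 ?_ h4
    rintro y ⟨P, α, x, hP, hα, rfl⟩
    refine mem_hyp (hP.trans inf_le_left) ?_ x
    refine opR_mono ?_ hα
    exact autGroup_mono_of_sub hsub inf_le_left hP

end
end Cfsg.Agent.H27.Fus
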