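import Mathlib
import Cfsg.Agent.H27_FusReal
import Cfsg.Agent.H27_FusMk
import Cfsg.Agent.H27_Model3
import Cfsg.Agent.H27_GT6

/-! Subsystems over `S` realized by overgroups of `S` in a realizing group. -/

universe u v w
namespace Cfsg.Agent.H27.Fus

open Cfsg Cfsg.FusionSystem Cfsg.Agent.H27.Grp

section
variable {Ω : Type*} [Group Ω] {S : Subgroup Ω} {p : ℕ} {G : Type*} [Group G]

theorem exists_realFS {ι : S →* G} (hι : Function.Injective ι) (X : Subgroup G) (hX : ι.range ≤ X) :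
    ∃ E : FusionSystem S, ∀ P f, Map E P f ↔ P ≤ S ∧ (∀ x ∈ P, f x ∈ S) ∧
      (∀ x ∈ P, ∀ y ∈ P, f (x * y) = f x * f y) ∧ ∃ g ∈ X, ∀ x ∈ P, tt ι (f x) = g * tt ι x * g⁻¹ := by
  have hinj := fun {x y : Ω} (hx : x ∈ S) (hy : y ∈ S) (h : tt ι x = tt ι y) => tt_inj hι hx hy h
  let M : Subgroup Ω → (Ω → Ω) → Prop := fun P f => P ≤ S ∧ (∀ x ∈ P, f x ∈ S) ∧
      (∀ x ∈ P, ∀ y ∈ P, f (x * y) = f x * f y) ∧ ∃ g ∈ X, ∀ x ∈ P, tt ι (f x) = g * tt ι x * g⁻¹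
  refine ⟨mkFS S M ?_ ?_ ?_ ?_ ?_ ?_, fun P f => map_mkFS fun P f h => h.2.2.1⟩
  · rintro P f g ⟨h1, h2, h3, k, hk, h4⟩ hfg
    refine ⟨h1, fun x hx => by rw [← hfg x hx]; exact h2 x hx, fun x hx y hy => ?_, k, hk, fun x hx => ?_⟩
    · rw [← hfg x hx, ← hfg y hy, ← hfg _ (P.mul_mem hx hy), h3 x hx y hy]
    · rw [← hfg x hx, h4 x hx]
  · rintro P f ⟨h1, h2, -⟩
    exact ⟨h1, h2⟩
  · rintro P f ⟨h1, h2, h3, k, hk, h4⟩ x hx y hy hxy
    apply hinj (h1 hx) (h1 hy)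
    have h5 := h4 x hx
    rw [hxy, h4 y hy] at h5
    have h6 : k * tt ι y = k * tt ι x := mul_right_cancel h5
    exact (mul_left_cancel h6).symm
  · intro P g hP hg
    refine ⟨hP, fun x hx => S.mul_mem (S.mul_mem hg (hP hx)) (S.inv_mem hg), fun x _ y _ => by group,
      tt ι g, hX (mem_range_iff.2 ⟨g, hg, rfl⟩), fun x hx => tt_conj ι hg (hP hx)⟩
  · rintro P Q f g ⟨h1, h2, h3, k, hk, h4⟩ ⟨h5, h6, h7, l, hl, h8⟩ hPQ
    refine ⟨h1, fun x hx => h6 _ (hPQ x hx), fun x hx y hy => ?_, l * k, X.mul_mem hl hk, fun x hx => ?_⟩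
    · show g (f (x * y)) = g (f x) * g (f y)
      rw [h3 x hx y hy, h7 _ (hPQ x hx) _ (hPQ y hy)]
    · show tt ι (g (f x)) = _
      rw [h8 _ (hPQ x hx), h4 x hx]; group
  · rintro P f R ⟨h1, h2, h3, k, hk, h4⟩ - hR
    choose! g hgP hgf using fun y (hy : y ∈ R) => (hR y).1 hy
    have hinjf : ∀ x ∈ P, ∀ y ∈ P, f x = f y → x = y := by
      intro x hx y hy hxy
      apply hinj (h1 hx) (h1 hy)
      have h5 := h4 x hx
      rw [hxy, h4 y hy] at h5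
      have h6 : k * tt ι y = k * tt ι x := mul_right_cancel h5
      exact (mul_left_cancel h6).symm
    have hRS : R ≤ S := fun y hy => by rw [← hgf y hy]; exact h2 _ (hgP y hy)
    refine ⟨g, ⟨hRS, fun y hy => h1 (hgP y hy), fun x hx y hy => ?_, k⁻¹, X.inv_mem hk, fun y hy => ?_⟩,
      fun x hx => ?_⟩
    · apply hinjf _ (hgP _ (R.mul_mem hx hy)) _ (P.mul_mem (hgP x hx) (hgP y hy))
      rw [h3 _ (hgP x hx) _ (hgP y hy), hgf _ (R.mul_mem hx hy), hgf x hx, hgf y hy]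
    · have h5 := h4 _ (hgP y hy)
      rw [hgf y hy] at h5
      rw [h5]; group
    · have hfx : f x ∈ R := (hR _).2 ⟨x, hx, rfl⟩
      exact hinjf _ (hgP _ hfx) _ hx (hgf _ hfx)

/-- the subsystem realized by an overgroup of `S` -/
theorem exists_realFS_sat [Fact p.Prime] [Finite G] {ι : S →* G} (hι : Function.Injective ι)
    (hsyl : ∃ T : Sylow p G, (T : Subgroup G) = ι.range) (X : Subgroup G) (hX : ι.range ≤ X) :
    ∃ E : FusionSystem S, E.IsSaturated p ∧ ∀ P f, Map E P f ↔ P ≤ S ∧ (∀ x ∈ P, f x ∈ S) ∧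
      (∀ x ∈ P, ∀ y ∈ P, f (x * y) = f x * f y) ∧ ∃ g ∈ X, ∀ x ∈ P, tt ι (f x) = g * tt ι x * g⁻¹ := by
  obtain ⟨E, hE⟩ := exists_realFS hι X hX
  refine ⟨E, ?_, hE⟩
  let ι' : S →* X := ι.codRestrict X fun s => hX ⟨s, rfl⟩
  have htt : ∀ x ∈ S, ((tt ι' x : X) : G) = tt ι x := fun x hx => tt_codRestrict hx
  have hr : E.IsRealizedBy ι' := by
    refine isRealizedBy_iff.2 ⟨fun a b hab => hι (congrArg Subtype.val hab), fun P f hP hf hm => ?_⟩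
    rw [hE]
    constructor
    · rintro ⟨-, -, -, g, hg, h⟩
      refine ⟨⟨g, hg⟩, fun x hx => Subtype.ext ?_⟩
      show ((tt ι' (f x) : X) : G) = g * ((tt ι' x : X) : G) * g⁻¹
      rw [htt _ (hf x hx), htt _ (hP hx), h x hx]
    · rintro ⟨g, h⟩
      refine ⟨hP, hf, hm, g, g.2, fun x hx => ?_⟩
      have h1 := congrArg Subtype.val (h x hx)
      rw [htt _ (hf x hx)] at h1
      rw [h1, Subgroup.coe_mul, Subgroup.coe_mul, Subgroup.coe_inv, htt _ (hP hx)]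
  refine saturated_of_realized hr ?_
  obtain ⟨T, hT⟩ := hsyl
  have h1 : IsSyl p ι.range ⊤ := realized_isSyl ⟨T, hT⟩
  have hTX : (T : Subgroup G) ≤ X := hT ▸ hX
  apply realized_isSyl
  refine ⟨T.subtype hTX, ?_⟩
  ext x
  rw [Sylow.coe_subtype, Subgroup.mem_subgroupOf, hT]
  constructor
  · rintro ⟨s, hs⟩
    exact ⟨s, Subtype.ext hs⟩
  · rintro ⟨s, hs⟩
    exact ⟨s, congrArg Subtype.val hs⟩

/-- In the model of a sparse system, `S` is a maximal subgroup. -/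
theorem Sparse.maximal [Fact p.Prime] [Finite S] {E : FusionSystem S} {Q : Subgroup Ω} (hsp : Sparse p E) {ι : S →* G}
    (h : MD E p Q G ι) : ∀ X : Subgroup G, ι.range ≤ X → X = ι.range ∨ X = ⊤ := by
  intro X hX
  haveI := h.fin
  by_cases hXt : X = ⊤
  · exact Or.inr hXt
  left
  have hcQ : ∀ g : G, (∃ x ∈ X, ∀ q ∈ Q, g * tt ι q * g⁻¹ = x * tt ι q * x⁻¹) → g ∈ X := by
    rintro g ⟨x, hx, hgx⟩
    obtain ⟨q, hq, hqe⟩ := h.cen (x⁻¹ * g) (fun q hq => by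
      have := hgx q hq
      calc x⁻¹ * g * tt ι q = x⁻¹ * (g * tt ι q * g⁻¹) * g := by group
        _ = x⁻¹ * (x * tt ι q * x⁻¹) * g := by rw [this]
        _ = tt ι q * (x⁻¹ * g) := by group)
    have : g = x * tt ι q := by rw [hqe]; group
    rw [this]
    exact X.mul_mem hx (hX (mem_range_iff.2 ⟨q, h.QS hq, rfl⟩))
  obtain ⟨E', hE's, hE'⟩ := exists_realFS_sat h.inj h.syl X hX
  have hsub : ∀ P f, Map E' P f → Map E P f := by
    intro P f hf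
    obtain ⟨h1, h2, h3, g, -, h4⟩ := (hE' P f).1 hf
    exact (h.real P f h1 h2 h3).2 ⟨g, h4⟩
  have hex : ∃ P f, Map E P f ∧ ¬ Map E' P f := by
    obtain ⟨g, hg⟩ : ∃ g : G, g ∉ X := by
      by_contra hcon
      push Not at hcon
      exact hXt (eq_top_iff.2 fun g _ => hcon g)
    obtain ⟨f, hf, hfg⟩ := h.exists_map h.QS g (fun x hx => by
      obtain ⟨y, hy, hyx⟩ := h.nor g x hx
      exact ⟨y, h.QS hy, hyx⟩)
    refine ⟨Q, f, hf, fun hc => hg ?_⟩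
    obtain ⟨-, -, -, x, hx, hfx⟩ := (hE' Q f).1 hc
    exact hcQ g ⟨x, hx, fun q hq => by rw [← hfg q hq, hfx q hq]⟩
  have hin := hsp E' hE's hsub hex
  refine le_antisymm (fun g hg => ?_) hX
  obtain ⟨f, hf, hfg⟩ := h.exists_map h.QS g (fun x hx => by
    obtain ⟨y, hy, hyx⟩ := h.nor g x hx
    exact ⟨y, h.QS hy, hyx⟩)
  have hf' : Map E' Q f := (hE' Q f).2 ⟨h.QS, fun x hx => hf.mem hx, fun x hx y hy => hf.mul hx hy, g, hg, hfg⟩
  obtain ⟨-, s, hs, hsf⟩ := map_inner_iff.1 (hin Q f hf')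
  obtain ⟨q, hq, hqe⟩ := h.cen ((tt ι s)⁻¹ * g) (fun q hq => by
    have h1 := hfg q hq
    rw [hsf q hq, tt_conj ι hs (h.QS hq)] at h1
    calc (tt ι s)⁻¹ * g * tt ι q = (tt ι s)⁻¹ * (g * tt ι q * g⁻¹) * g := by group
      _ = (tt ι s)⁻¹ * (tt ι s * tt ι q * (tt ι s)⁻¹) * g := by rw [h1]
      _ = tt ι q * ((tt ι s)⁻¹ * g) := by group)
  have : g = tt ι s * tt ι q := by rw [hqe]; group
  rw [this]
  exact ι.range.mul_mem (mem_range_iff.2 ⟨s, hs, rfl⟩) (mem_range_iff.2 ⟨q, h.QS hq, rfl⟩)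

end

end Cfsg.Agent.H27.Fus
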