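import Mathlib
import Cfsg.Agent.H27_Pw3
import Cfsg.Agent.H27_GT2
import Cfsg.Agent.H27_Bs8
import Cfsg.Agent.H27_FusHypG

/-! Control of transfer by a characteristic functor. -/

set_option autoImplicit false
set_option linter.all false
universe u
open Cfsg Cfsg.FusionSystem
open scoped commutatorElement

namespace Cfsg.Agent.H27.Wt

open Cfsg.Agent.H27.Fus Cfsg.Agent.H27.Grp Cfsg.Agent.H27.Bs

section
variable {Ω : Type*} [Group Ω] {S T V : Subgroup Ω} {F : FusionSystem S} {P Q R A : Subgroup Ω} {p : ℕ} {f g : Ω → Ω}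

theorem subCls_quot (F : FusionSystem S) (A : Subgroup Ω) : SubCls F (fun P f => ∀ x ∈ P, x⁻¹ * f x ∈ A) where
  congr h hfg x hx := by rw [← hfg x hx]; exact h x hx
  restrict h hQ x hx := h x (hQ hx)
  comp _ _ h1 h2 hm x hx := by
    have h := A.mul_mem (h1 x hx) (h2 _ (hm x hx))
    rwa [mul_assoc, mul_inv_cancel_left] at h
  inv hi h y hy := by
    have h1 := A.inv_mem (h _ (hi.finv_mem hy))
    rw [hi.finv_right hy, mul_inv_rev, inv_inv] at h1
    exact h1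

theorem MD.nmap_of {G : Type*} [Group G] {ι : S →* G} (h : MD F p Q G ι) (hV : V ≤ S) (hVn : S ≤ normalizerIn S V) {n : G}
    (hn : ∀ x ∈ V, ∃ y ∈ V, tt ι y = n * tt ι x * n⁻¹) {x y : Ω} (hx : x ∈ S) (hy : y ∈ S)
    (hxy : tt ι y = n * tt ι x * n⁻¹) [Finite S] : ∃ P f, Nmap F V P f ∧ x ∈ P ∧ f x = y := by
  classical
  let P : Subgroup Ω :=
    { carrier := {z | z ∈ S ∧ ∃ w ∈ S, tt ι w = n * tt ι z * n⁻¹}
      one_mem' := ⟨S.one_mem, 1, S.one_mem, by rw [tt_one]; group⟩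
      mul_mem' := by
        rintro a b ⟨ha, a', ha', h1⟩ ⟨hb, b', hb', h2⟩
        exact ⟨S.mul_mem ha hb, a' * b', S.mul_mem ha' hb', by rw [tt_mul ι ha' hb', tt_mul ι ha hb, h1, h2]; group⟩
      inv_mem' := by
        rintro a ⟨ha, a', ha', h1⟩
        exact ⟨S.inv_mem ha, a'⁻¹, S.inv_mem ha', by rw [tt_inv ι ha', tt_inv ι ha, h1]; group⟩ }
  have hP : ∀ z ∈ P, ∃ w ∈ S, tt ι w = n * tt ι z * n⁻¹ := fun z hz => hz.2
  have hPS : P ≤ S := fun z hz => hz.1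
  choose! f hfS hf using hP
  have hm : Map F P f := by
    refine (h.real P f hPS hfS fun a ha b hb => ?_).2 ⟨n, hf⟩
    apply tt_inj h.inj (hfS _ (P.mul_mem ha hb)) (S.mul_mem (hfS a ha) (hfS b hb))
    rw [tt_mul ι (hfS a ha) (hfS b hb), hf _ (P.mul_mem ha hb), hf a ha, hf b hb, tt_mul ι (hPS ha) (hPS hb)]; group
  have hVP : V ≤ P := fun z hz => by
    obtain ⟨w, hw, h1⟩ := hn z hz
    exact ⟨hV hz, w, hV hw, h1⟩
  have hfV : ∀ z ∈ V, f z ∈ V := by
    intro z hz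
    obtain ⟨w, hw, h1⟩ := hn z hz
    have e : f z = w := tt_inj h.inj (hfS z (hVP hz)) (hV hw) (by rw [hf z (hVP hz), h1])
    rw [e]; exact hw
  have hfin := finite_of_le hV
  have hVi : Iso F V V f := iso_of_card_le (hm.mono hVP) hfV le_rfl
  have hxP : x ∈ P := ⟨hx, y, hy, hxy⟩
  refine ⟨P, f, ⟨hPS.trans hVn, fun z hz => hVn (hfS z hz), f, ?_, fun _ _ => rfl, hVi.im_eq⟩, hxP, ?_⟩
  · rw [sup_eq_left.2 hVP]; exact hm
  · exact tt_inj h.inj (hfS x hxP) hy (by rw [hf x hxP, hxy])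

end

section
variable {Ω : Type u} [Group Ω] {S : Subgroup Ω} {F : FusionSystem S} {P Q R A : Subgroup Ω} {p : ℕ} {f g : Ω → Ω}

/-- transfer: elements of `Q ∩ foc` lie in the commutator when `F` acts on `Q` through `S` -/
theorem foc_inf_of_sc [Fact p.Prime] [Finite S] (hS : IsPGroup p S) (hF : F.IsSaturated p) (hQ : F.IsNormal Q)
    (hsc : ∀ P f, Map F P f → SCmap F Q P f) {x : Ω} (hxQ : x ∈ Q) (hx : x ∈ F.focalSubgroup) : x ∈ ⁅S, S⁆ := by
  have hQS : Q ≤ S := (isNormal_iff.1 hQ).1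
  obtain ⟨I, _, B, hI⟩ := exists_charCB hS hF
  let l : ↥S →* Abelianization ↥S := Abelianization.of
  have h1 := B.V_foc l (x := ⟨x, hQS hxQ⟩) hx
  have h2 := B.V_pow l ⟨x, hQS hxQ⟩ (by
    intro k P f hf hk b hb
    obtain ⟨g, hg, hgf, s, hs, hgs⟩ := hsc P f hf
    have hkQ : (x : Ω) ^ k ∈ Q := Q.zpow_mem hxQ k
    have e : b = (⟨s, hs⟩ : S) * (⟨x, hQS hxQ⟩ : S) ^ k * (⟨s, hs⟩ : S)⁻¹ := by
      apply Subtype.ext
      rw [hb]
      show f (x ^ k) = s * x ^ k * s⁻¹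
      have hk' : x ^ k ∈ P := hk
      rw [← hgf _ hk', hgs _ hkQ]
    rw [e, map_mul, map_mul, map_inv, mul_inv_cancel_comm])
  rw [h1] at h2
  have hpg := hS ⟨x, hQS hxQ⟩
  obtain ⟨n, hn⟩ := hpg
  have h3 : l ⟨x, hQS hxQ⟩ ^ p ^ n = 1 := by rw [← map_pow, hn, map_one]
  have hc : (p ^ n).Coprime (Fintype.card I) := Nat.Coprime.pow_left n ((Nat.Prime.coprime_iff_not_dvd Fact.out).2 hI)
  have h4 : l ⟨x, hQS hxQ⟩ = 1 := by
    have h5 : orderOf (l ⟨x, hQS hxQ⟩) ∣ Nat.gcd (p ^ n) (Fintype.card I) :=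
      Nat.dvd_gcd (orderOf_dvd_of_pow_eq_one h3) (orderOf_dvd_of_pow_eq_one h2.symm)
    rw [hc] at h5
    exact orderOf_eq_one_iff.1 (Nat.dvd_one.1 h5)
  have h5 : (⟨x, hQS hxQ⟩ : S) ∈ commutator S := (QuotientGroup.eq_one_iff _).1 h4
  have h6 : x ∈ (commutator S).map S.subtype := ⟨⟨x, hQS hxQ⟩, h5, rfl⟩
  rwa [Subgroup.map_subtype_commutator] at h6

theorem aux {p : ℕ} [Fact p.Prime] (W : ∀ (Q : Type u) [Group Q], Subgroup Q)
    (hW1 : ∀ (Q : Type u) [Group Q] [Finite Q], IsPGroup p Q → Nontrivial Q → W Q ≠ ⊥)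
    (hW2 : ∀ (Q R : Type u) [Group Q] [Group R] [Finite Q], IsPGroup p Q → ∀ φ : Q ≃* R, (W Q).map φ.toMonoidHom = W R)
    (hT : ∀ (G : Type u) [Group G] [Finite G] (P : Sylow p G), Subgroup.centralizer ((Cfsg.pCore p G : Subgroup G) : Set G) ≤ Cfsg.pCore p G → Cfsg.pCore p G ⊓ commutator G = Cfsg.pCore p G ⊓ (commutator ↥(Subgroup.normalizer (((W ↥(P : Subgroup G)).map (P : Subgroup G).subtype : Subgroup G) : Set G))).map (Subgroup.normalizer (((W ↥(P : Subgroup G)).map (P : Subgroup G).subtype : Subgroup G) : Set G)).subtype) :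
    ∀ {Ω : Type u} [Group Ω] (S : Subgroup Ω) [Finite S] (F : FusionSystem S), IsPGroup p S → F.IsSaturated p →
      ∀ A : Subgroup Ω, (∀ P f, Nmap F (Wm W S) P f → ∀ x ∈ P, x⁻¹ * f x ∈ A) →
        ∀ P f, Map F P f → ∀ x ∈ P, x⁻¹ * f x ∈ A := by
  apply sat_induction
  intro Ω _ S _ F hS hF IH1 IH2 A₀ hA₀
  have hN := Wm_normal hS hW2 F
  -- reduce to `A ≤ foc`
  suffices key : ∀ A : Subgroup Ω, A ≤ F.focalSubgroup → (∀ P f, Nmap F (Wm W S) P f → ∀ x ∈ P, x⁻¹ * f x ∈ A) →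
      ∀ P f, Map F P f → ∀ x ∈ P, x⁻¹ * f x ∈ A by
    intro P f hf x hx
    exact (key (A₀ ⊓ F.focalSubgroup) inf_le_right (fun P f hf x hx => ⟨hA₀ P f hf x hx, mem_foc hf.map hx⟩) P f hf x hx).1
  intro A hAf hA
  have hAS : A ≤ S := hAf.trans foc_le
  have hb : ∀ (R : Subgroup Ω) (E : FusionSystem R), R ≤ S → E.IsSaturated p → (∀ P f, Map E P f → Map F P f) →
      (R < S ∨ ∃ P f, Map F P f ∧ ¬ Map E P f) → centralizerIn S S ≤ R →
      (∀ P f, Nmap E (Wm W R) P f → ∀ x ∈ P, x⁻¹ * f x ∈ A) → ∀ P f, Map E P f → ∀ x ∈ P, x⁻¹ * f x ∈ A := by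
    intro R E hRS hE hsub hlt hCR hEN
    haveI : Finite R := finite_of_le hRS
    rcases hlt with hlt | hlt
    · exact IH1 R E (isPGroup_mono hS hRS) hE (card_lt_of_lt hlt) A hEN
    · by_cases hRS' : R = S
      · subst hRS'
        exact IH2 E hE hsub hlt A hEN
      · exact IH1 R E (isPGroup_mono hS hRS) hE (card_lt_of_lt (lt_of_le_of_ne hRS hRS')) A hEN
  have hV : ∀ V, V ≤ S → S ≤ normalizerIn S V → ¬ F.IsNormal V → ∀ P f, Nmap F V P f → ∀ x ∈ P, x⁻¹ * f x ∈ A := by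
    intro V hVS hVn hVF P f hf
    obtain ⟨E, hE⟩ := exists_normalizerSystem F V hVS
    have hRS : normalizerIn S V = S := le_antisymm nrm_le hVn
    have hVfn : F.IsFullyNormalized V := by
      refine ⟨hVS, fun R hR => ?_⟩
      haveI : Finite (normalizerIn S V) := fin_nrm
      exact card_le_of_le (nrm_le.trans hVn)
    have hEsat := normalizerSystem_saturated hS hF hVfn hE
    refine hb (normalizerIn S V) E nrm_le hEsat (fun P f h => nsys_sub hE h) (Or.inr ?_) (by rw [hRS]; exact cen_le) ?_ P f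
      ((nsys_map hE).2 hf)
    · by_contra hcon
      push Not at hcon
      apply hVF
      rw [isNormal_iff]
      refine ⟨hVS, fun P f hf => ?_⟩
      obtain ⟨-, -, g, h1, h2, h3⟩ := (nsys_map hE).1 (hcon P f hf)
      exact ⟨g, h1, h2, h3⟩
    · rintro P f ⟨e1, e2, g, e3, e4, e5⟩
      have e3' : Map F (P ⊔ Wm W (normalizerIn S V)) g := nsys_sub hE e3
      have hWeq : Wm W (normalizerIn S V) = Wm W S := by rw [hRS]
      rw [hWeq] at e1 e2 e3' e5
      have hmono : normalizerIn (normalizerIn S V) (Wm W S) ≤ normalizerIn S (Wm W S) := inf_le_inf_right _ nrm_le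
      exact hA P f ⟨fun x hx => hmono (e1 hx), fun x hx => hmono (e2 x hx), g, e3', e4, e5⟩
  have hQ := core_normal F
  have hQs := IsNormal.strong hQ
  have hQS : F.core ≤ S := (isNormal_iff.1 hQ).1
  -- the quotient step
  have quo : F.core ≠ ⊥ → F.core ≠ S → ∀ P f, Map F P f → ∀ x ∈ P, ∃ a ∈ A, ∃ q ∈ F.core, x⁻¹ * f x = a * q := by
    intro hQb hQneS P f hf x hx
    obtain ⟨N, hNn, E, hpS', hE, hEs, hcard⟩ := exists_quo hS hF hQs hQb
    obtain ⟨hd, hm⟩ := isFactorSystem_iff.1 hE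
    set θ := QuotientGroup.mk' N with hθ
    haveI : Finite (⊤ : Subgroup (S ⧸ N)) := finite_S' hd
    have hV'n := Wm_normal (W := W) hpS' hW2 E
    have hV'S : Wm W (⊤ : Subgroup (S ⧸ N)) ≤ ⊤ := le_top
    have hV'b : ¬ FusionSystem.preimageAlong θ (Wm W (⊤ : Subgroup (S ⧸ N))) ≤ F.core := by
      intro hle
      have hnb : (⊤ : Subgroup (S ⧸ N)) ≠ ⊥ := by
        intro hb
        apply hQneS
        apply le_antisymm hQS
        intro x hx
        have h1 : tt θ x ∈ (⊤ : Subgroup (S ⧸ N)) := trivial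
        rw [hb, Subgroup.mem_bot, ← tt_one θ, hd.eq_iff hx S.one_mem] at h1
        simpa using h1
      apply Wm_ne_bot hpS' hW1 (le_refl (⊤ : Subgroup (S ⧸ N))) hnb
      rw [eq_bot_iff]
      intro y hy
      obtain ⟨x, hx, rfl⟩ := hd.pre_surj hV'S hy
      have h1 := hle hx
      rw [Subgroup.mem_bot, ← tt_one θ, hd.eq_iff (hQS h1) S.one_mem]
      simpa using h1
    have hVF := hV _ (preimageAlong_le _ _) (pre_normal hd hV'S hV'n) (fun h => hV'b (le_core h))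
    set A' : Subgroup (S ⧸ N) := imageAlong θ A with hA'
    have hIH := IH1 (⊤ : Subgroup (S ⧸ N)) E hpS' hEs hcard A' (by
      intro P' f' hf' y hy
      obtain ⟨g, hg, hgf⟩ := nmap_lift hE hQs hV'S hV'n hf'
      obtain ⟨z, hz, rfl⟩ := hd.pre_surj le_top hy
      have hzS := preimageAlong_le θ P' hz
      have hgS := hg.map.mem hz
      rw [hgf z hz, ← tt_inv θ hzS, ← tt_mul θ (S.inv_mem hzS) hgS]
      exact (mem_imageAlong θ hAS).2 ⟨_, hVF _ _ hg z hz, rfl⟩)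
    obtain ⟨g, hg, hgf, hgQ⟩ := (isNormal_iff.1 hQ).2 P f hf
    have hpre : FusionSystem.preimageAlong θ (imageAlong θ P) = P ⊔ F.core := pre_image hd hf.le
    obtain ⟨g', hg', hind⟩ := exists_ind_map hE hQs (imageAlong_le hd hf.le) (by rw [hpre]; exact hg)
    have hxS := hf.le hx
    have h1 := hIH _ _ hg' (tt θ x) ((mem_imageAlong θ hf.le).2 ⟨x, hx, rfl⟩)
    have h2 : g' (tt θ x) = tt θ (g x) := hind x (by rw [hpre]; exact Subgroup.mem_sup_left hx)
    rw [h2, hgf x hx, ← tt_inv θ hxS, ← tt_mul θ (S.inv_mem hxS) (hf.mem hx)] at h1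
    obtain ⟨a, ha, h3⟩ := (mem_imageAlong θ hAS).1 h1
    have h4 := (hd.eq_iff (S.mul_mem (S.inv_mem hxS) (hf.mem hx)) (hAS ha)).1 h3.symm
    exact ⟨a, ha, _, h4, by group⟩
  have comb : (∀ q ∈ F.core, q ∈ F.focalSubgroup → q ∈ A) → (∀ P f, Map F P f → ∀ x ∈ P, ∃ a ∈ A, ∃ q ∈ F.core, x⁻¹ * f x = a * q) →
      ∀ P f, Map F P f → ∀ x ∈ P, x⁻¹ * f x ∈ A := by
    intro h1 h2 P f hf x hx
    obtain ⟨a, ha, q, hq, e⟩ := h2 P f hf x hx
    have h3 := mem_foc hf hx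
    have h4 : q ∈ F.focalSubgroup := by
      have e2 : q = a⁻¹ * (x⁻¹ * f x) := by rw [e]; group
      rw [e2]; exact Subgroup.mul_mem _ (Subgroup.inv_mem _ (hAf ha)) h3
    rw [e]; exact A.mul_mem ha (h1 q hq h4)
  have hcomm : ⁅S, S⁆ ≤ A := by
    rw [Subgroup.commutator_le]
    intro a ha b hb
    have h1 : Nmap F (Wm W S) S (fun x => b * x * b⁻¹) := by
      have hm := map_conj F le_rfl hb
      refine ⟨hN, fun x hx => hN (hm.mem hx), _, ?_, fun _ _ => rfl, ?_⟩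
      · rw [sup_eq_left.2 (Wm_le (W := W) S)]; exact hm
      · have e0 : im S (fun x => b * x * b⁻¹) = S := StronglyClosed.im_eq (strongly_top F) hm le_rfl
        rw [← Wm_im hS hW2 hm, e0]
    have h2 := hA _ _ h1 a⁻¹ (S.inv_mem ha)
    have e : a⁻¹⁻¹ * (b * a⁻¹ * b⁻¹) = ⁅a, b⁆ := by rw [commutatorElement_def]; group
    rwa [e] at h2
  refine reduce hS hF (subCls_quot F A) (Wm W) (fun R _ => Wm_le R) (fun R f hf => Wm_im hS hW2 hf)
    (fun R hR _ hRb => Wm_ne_bot hS hW1 hR hRb) hA hb ?_ ?_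
  · -- constrained
    intro hcen
    by_cases hQneS : F.core = S
    · intro P f hf
      obtain ⟨g, hg, hgf, hgQ⟩ := (isNormal_iff.1 hQ).2 P f hf
      rw [hQneS] at hg hgQ
      have hgS : Map F S g := hg.mono le_sup_right
      refine hA P f ⟨hf.le.trans hN, fun x hx => hN (hf.mem hx), g, hg.mono (sup_le_sup_left (Wm_le S) _), hgf, ?_⟩
      rw [← Wm_im hS hW2 hgS, hgQ]
    by_cases hQb : F.core = ⊥
    · exfalso
      apply hQneS
      apply le_antisymm hQS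
      intro s hs
      apply IsCentric.cen_le hcen
      refine mem_cen.2 ⟨hs, fun y hy => ?_⟩
      rw [hQb, Subgroup.mem_bot] at hy
      rw [hy, one_mul, mul_one]
    refine comb ?_ (quo hQb hQneS)
    obtain ⟨G, _, ι, hM⟩ := exists_model hS hF hQ hcen
    have hMD := MD.of_model hS hF hQ hcen hM
    haveI := hMD.fin
    obtain ⟨T, hTr⟩ := hMD.syl
    have hWT : ∀ y, y ∈ (W ↥(T : Subgroup G)).map (T : Subgroup G).subtype ↔ ∃ x ∈ Wm W S, tt ι x = y := fun y =>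
      W_transfer hS hW2 hMD.inj hTr
    set K := Subgroup.normalizer (((W ↥(T : Subgroup G)).map (T : Subgroup G).subtype : Subgroup G) : Set G) with hKdef
    have hQp : IsPGroup p ((F.core.subgroupOf S).map ι) := (hS.to_subgroup _).map _
    haveI hQn := hMD.normal_map
    have hle : (F.core.subgroupOf S).map ι ≤ Cfsg.pCore p G := Cfsg.Agent.H1.Nilp.le_pCore hQn hQp
    have hcG : Subgroup.centralizer (Cfsg.pCore p G : Set G) ≤ Cfsg.pCore p G := by
      refine le_trans (Subgroup.centralizer_le hle) (le_trans ?_ hle)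
      intro g hg
      obtain ⟨q, hq, hqg⟩ := hMD.cen g fun q hq => by
        have := Subgroup.mem_centralizer_iff.1 hg (tt ι q) ((mem_im_sub hQS).2 ⟨q, hq, rfl⟩)
        exact this.symm
      exact (mem_im_sub hQS).2 ⟨q, hq, hqg⟩
    have hloc := hT G T hcG
    -- the focal subgroup lies in `[G, G]`
    have hfocG : ∀ q ∈ F.focalSubgroup, tt ι q ∈ commutator G := by
      intro q hq
      have hqS := foc_le hq
      rw [foc_eq] at hq
      have hle : ∀ q ∈ Subgroup.closure {y | ∃ P f, Map F P f ∧ ∃ x ∈ P, y = x⁻¹ * f x}, q ∈ S ∧ tt ι q ∈ commutator G := by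
        intro q hq
        refine Subgroup.closure_induction (p := fun q _ => q ∈ S ∧ tt ι q ∈ commutator G) ?_ ?_ ?_ ?_ hq
        · rintro _ ⟨P, f, hf, x, hx, rfl⟩
          have hxS := hf.le hx
          refine ⟨S.mul_mem (S.inv_mem hxS) (hf.mem hx), ?_⟩
          obtain ⟨g, hg⟩ := hMD.map_real hf
          rw [tt_mul ι (S.inv_mem hxS) (hf.mem hx), tt_inv ι hxS, hg x hx]
          have e : (tt ι x)⁻¹ * (g * tt ι x * g⁻¹) = ⁅(tt ι x)⁻¹, g⁆ := by rw [commutatorElement_def]; group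
          rw [e]
          exact Subgroup.commutator_mem_commutator (Subgroup.mem_top _) (Subgroup.mem_top _)
        · exact ⟨S.one_mem, by rw [tt_one]; exact Subgroup.one_mem _⟩
        · rintro a b - - ⟨h1, h2⟩ ⟨h3, h4⟩
          exact ⟨S.mul_mem h1 h3, by rw [tt_mul ι h1 h3]; exact Subgroup.mul_mem _ h2 h4⟩
        · rintro a - ⟨h1, h2⟩
          exact ⟨S.inv_mem h1, by rw [tt_inv ι h1]; exact Subgroup.inv_mem _ h2⟩
      exact (hle q hq).2
    have hTK : (T : Subgroup G) ≤ K := by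
      intro t ht
      rw [hTr] at ht
      obtain ⟨s, rfl⟩ := ht
      have hsn := (hN s.2).2
      rw [hKdef, Subgroup.mem_normalizer_iff]
      intro y
      constructor
      · intro hy
        obtain ⟨x, hx, rfl⟩ := (hWT y).1 hy
        refine (hWT _).2 ⟨s * x * (s : Ω)⁻¹, (Subgroup.mem_normalizer_iff.1 hsn x).1 hx, ?_⟩
        rw [tt_conj ι s.2 (Wm_le S hx), tt_apply]
      · intro hy
        obtain ⟨x, hx, hxe⟩ := (hWT _).1 hy
        have hsn' := (Subgroup.mem_normalizer_iff.1 (Subgroup.inv_mem _ hsn) x).1 hx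
        refine (hWT _).2 ⟨_, hsn', ?_⟩
        rw [tt_conj ι (S.inv_mem s.2) (Wm_le S hx), hxe, tt_inv ι s.2, tt_apply]; group
    have hTsyl : IsSyl p (T : Subgroup G) K := (isSyl_sylow T).mono hTK le_top
    have hfK : ∀ y ∈ (fusionSystemOfSubgroup K (T : Subgroup G) hTsyl.le).focalSubgroup, ∃ a ∈ A, tt ι a = y := by
      intro y hy
      rw [foc_eq] at hy
      refine Subgroup.closure_induction (p := fun y _ => ∃ a ∈ A, tt ι a = y) ?_ ?_ ?_ ?_ hy
      · rintro _ ⟨P', f', hf', x', hx', rfl⟩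
        obtain ⟨h1, h2, n, hn, h3⟩ := map_fss.1 hf'
        have hx1 := h1 hx'
        have hx2 := h2 x' hx'
        rw [h3 x' hx'] at hx2 ⊢
        rw [hTr] at hx1 hx2
        obtain ⟨x, rfl⟩ := hx1
        obtain ⟨y, hy⟩ := hx2
        obtain ⟨P, f, hf, hxP, hfx⟩ := MD.nmap_of hMD (V := Wm W S) (Wm_le S) hN (n := n) (by
          intro z hz
          rw [hKdef, Subgroup.mem_normalizer_iff] at hn
          exact (hWT _).1 ((hn (tt ι z)).1 ((hWT _).2 ⟨z, hz, rfl⟩))) x.2 y.2 (by rw [tt_apply, tt_apply, hy])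
        have h4 := hA P f hf x hxP
        rw [hfx] at h4
        refine ⟨_, h4, ?_⟩
        rw [tt_mul ι (S.inv_mem x.2) y.2, tt_inv ι x.2, tt_apply, tt_apply, hy]
      · exact ⟨1, A.one_mem, tt_one ι⟩
      · rintro _ _ - - ⟨a, ha, rfl⟩ ⟨b, hb, rfl⟩
        exact ⟨a * b, A.mul_mem ha hb, tt_mul ι (hAS ha) (hAS hb)⟩
      · rintro _ - ⟨a, ha, rfl⟩
        exact ⟨a⁻¹, A.inv_mem ha, tt_inv ι (hAS ha)⟩
    intro q hq hqf
    have h1 : tt ι q ∈ Cfsg.pCore p G ⊓ commutator G := ⟨hle ((mem_im_sub hQS).2 ⟨q, hq, rfl⟩), hfocG q hqf⟩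
    rw [hloc] at h1
    have h2 := h1.2
    rw [Subgroup.map_subtype_commutator] at h2
    have h3 : tt ι q ∈ (T : Subgroup G) ⊓ ⁅K, K⁆ := by
      refine ⟨?_, h2⟩
      rw [hTr, tt_of_mem ι (hQS hq)]; exact ⟨_, rfl⟩
    rw [← foc_fss hTsyl] at h3
    obtain ⟨a, ha, hae⟩ := hfK _ h3
    rw [← tt_inj hMD.inj (hAS ha) (hQS hq) hae]
    exact ha
  · intro hsc hQb hQc hV'
    refine comb (fun q hq hqf => hcomm (foc_inf_of_sc hS hF hQ hsc hq hqf)) (quo hQb ?_)
    intro h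
    apply hQc
    rw [h]; exact top_centric F

end

end Cfsg.Agent.H27.Wt
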