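import Mathlib
import Cfsg.Agent.H13_KT
import Cfsg.Agent.S5197
import Cfsg.Agent.S1978
import Cfsg.Agent.H27_NSys
import Cfsg.Agent.H27_Model4
import Cfsg.Agent.H1_MtB

set_option autoImplicit false
set_option linter.all false

/-! Lower K-infinity functor and the focal subgroup, p at least 5 -/

universe u

namespace Cfsg.Agent.H1.Kf

open Cfsg Cfsg.FusionSystem Cfsg.Agent.H27.Fus Cfsg.Agent.H27.Grp
open scoped commutatorElement

theorem local_cond {p : ℕ} [Fact p.Prime] (hp : 5 ≤ p) (G : Type u) [Group G] [Finite G] (P : Sylow p G) :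
    Cfsg.pCore p G ⊓ commutator G = Cfsg.pCore p G ⊓ (commutator ↥(Subgroup.normalizer (((kInfLower ↥(P : Subgroup G)).map (P : Subgroup G).subtype : Subgroup G) : Set G))).map (Subgroup.normalizer (((kInfLower ↥(P : Subgroup G)).map (P : Subgroup G).subtype : Subgroup G) : Set G)).subtype := by
  have h1 := H13.KT.transfer_lower hp G
  have h2 := H13.Sec.transfer_single_iff.2 h1
  have h3 := H13.CF.fam_ctr_all (by
    rintro V rfl
    exact H13.Sec.induced_isConjugacyFunctor (H13.K.isCharPFunctor_lower p)) h2 (H13.Syl.isSylIn_sylow_top P)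
  simp only [Set.mem_singleton_iff, iSup_iSup_eq_left, top_inf_eq] at h3
  have hle : (Cfsg.pCore p G : Subgroup G) ≤ P := Cfsg.Agent.H13.Bad.pCore_le_sylow P
  rw [Subgroup.map_subtype_commutator, commutator_def]
  rw [← inf_eq_left.2 hle, inf_assoc, h3, inf_assoc]
  rfl

variable {Ω : Type u} [Group Ω] {S : Subgroup Ω} [Finite S] {F : FusionSystem S}

/-- a group with a normal subgroup of index `p` controlling the fusion system has proper focal subgroup -/
theorem foc_lt_of_index {p : ℕ} [Fact p.Prime] {R : Subgroup Ω} {E : FusionSystem R} {V : Subgroup Ω} {G : Type u} [Group G]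
    {ι : R →* G} (h : MD E p V G ι) {K : Subgroup G} (hK : K.Normal) (hKi : K.index = p) : E.focalSubgroup < R := by
  haveI := h.fin
  obtain ⟨T, hT⟩ := h.syl
  have hcK : commutator G ≤ K := by
    haveI := hK
    haveI : IsCyclic (G ⧸ K) := isCyclic_of_prime_card (p := p) (by rw [← Subgroup.index_eq_card]; exact hKi)
    letI := IsCyclic.commGroup (α := G ⧸ K)
    rw [commutator_def, Subgroup.commutator_le]
    intro a _ b _
    rw [← QuotientGroup.eq_one_iff]
    show ((⁅a, b⁆ : G) : G ⧸ K) = 1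
    have : ((⁅a, b⁆ : G) : G ⧸ K) = ⁅(a : G ⧸ K), (b : G ⧸ K)⁆ := rfl
    rw [this, commutatorElement_eq_one_iff_mul_comm, mul_comm]
  have hle : E.focalSubgroup ≤ (K.comap ι).map R.subtype := by
    rw [foc_eq, Subgroup.closure_le]
    rintro _ ⟨P, f, hf, x, hx, rfl⟩
    have hxR := hf.le hx
    have hfR := hf.mem hx
    obtain ⟨g, hg⟩ := (h.real P f hf.le (fun y hy => hf.mem hy) (fun y hy z hz => hf.mul hy hz)).1 hf
    refine ⟨⟨x, hxR⟩⁻¹ * ⟨f x, hfR⟩, ?_, rfl⟩
    show ι (⟨x, hxR⟩⁻¹ * ⟨f x, hfR⟩) ∈ K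
    rw [map_mul, map_inv, ← tt_of_mem ι hxR, ← tt_of_mem ι hfR, hg x hx]
    apply hcK
    have : (tt ι x)⁻¹ * (g * tt ι x * g⁻¹) = ⁅(tt ι x)⁻¹, g⁆ := by
      rw [commutatorElement_def]; group
    rw [this]
    rw [commutator_def]
    exact Subgroup.commutator_mem_commutator (Subgroup.mem_top _) (Subgroup.mem_top _)
  refine lt_of_le_of_ne (hle.trans (Subgroup.map_subtype_le _)) fun heq => ?_
  have hTK : (T : Subgroup G) ≤ K := by
    rw [hT]
    rintro _ ⟨x, rfl⟩
    have h1 : (x : Ω) ∈ (K.comap ι).map R.subtype := hle (by rw [heq]; exact x.2)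
    obtain ⟨y, hy, hyx⟩ := h1
    have : y = x := Subtype.ext hyx
    rw [← this]; exact hy
  have h2 : K.index ∣ (T : Subgroup G).index := Subgroup.index_dvd_of_le hTK
  rw [hKi] at h2
  exact T.not_dvd_index h2

theorem s5252 {p : ℕ} [Fact p.Prime] (hS : IsPGroup p S) (hF : F.IsSaturated p) (hp : 5 ≤ p) (hS1 : S ≠ ⊥)
    (haut : IsPGroup p ↥(F.autGroup S)) : F.focalSubgroup < S := by
  classical
  set V : Subgroup Ω := (kInfLower ↥S).map S.subtype with hV
  have hVS : V ≤ S := Subgroup.map_subtype_le _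
  have hch := H13.K.isCharPFunctor_lower.{u} p
  obtain ⟨E, hE⟩ := exists_normalizerSystem F V hVS
  have hfoc : E.focalSubgroup = F.focalSubgroup :=
    Cfsg.Agent.S5197.result (fun Q _ => kInfLower Q) hch.1 hch.2 (fun G _ _ P _ => local_cond hp G P) hS F hF E hE
  -- V is normal in S
  have hnS : S ≤ normalizerIn S V := Wm_normal (W := fun Q _ => kInfLower Q) hS hch.2 F
  have hRS : normalizerIn S V = S := le_antisymm nrm_le hnS
  have hVfn : F.IsFullyNormalized V := by
    refine ⟨hVS, fun R hR => ?_⟩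
    haveI : Finite (normalizerIn S V) := fin_nrm
    exact card_le_of_le (nrm_le.trans hnS)
  haveI : Finite (normalizerIn S V) := fin_nrm
  have hEsat := normalizerSystem_saturated hS hF hVfn hE
  have hEn := nsys_normal hE hVS
  have hcV : centralizerIn S V ≤ V := by
    intro x hx
    obtain ⟨hxS, hxc⟩ := mem_cen.1 hx
    have h1 := (Cfsg.Agent.S1978.result hS).1
    have h2 : (⟨x, hxS⟩ : S) ∈ Subgroup.centralizer (Cfsg.kInfLower S : Set S) := by
      rw [Subgroup.mem_centralizer_iff]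
      intro k hk
      exact Subtype.ext (hxc k ⟨k, hk, rfl⟩)
    exact ⟨⟨x, hxS⟩, h1 h2, rfl⟩
  have hc : E.IsCentric V := by
    refine ⟨le_nrm hVS, fun Q hQ => ?_⟩
    obtain ⟨f, hf⟩ := isConj_iff.1 hQ
    have h1 : Q = V := by
      rw [← hf.im_eq]
      exact StronglyClosed.im_eq (IsNormal.strong hEn) hf.map le_rfl
    rw [h1]
    exact (inf_le_inf_right _ nrm_le).trans hcV
  haveI : Finite (normalizerIn S V) := fin_nrm
  have hRp : IsPGroup p (normalizerIn S V) := isPGroup_mono hS nrm_le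
  obtain ⟨G, _, ι, hG⟩ := exists_model hRp hEsat hEn hc
  have hMD := MD.of_model hRp hEsat hEn hc hG
  haveI := hMD.fin
  obtain ⟨T, hT⟩ := hMD.syl
  have hTb : (T : Subgroup G) ≠ ⊥ := by
    intro hb
    apply hS1
    rw [eq_bot_iff]
    intro x hx
    have h1 : tt ι x ∈ (T : Subgroup G) := by
      rw [hT, tt_of_mem ι (hnS hx)]; exact ⟨_, rfl⟩
    rw [hb, Subgroup.mem_bot, ← tt_one ι] at h1
    rw [Subgroup.mem_bot]
    exact tt_inj hMD.inj (hnS hx) (Subgroup.one_mem _) h1
  have hN : ∀ g ∈ Subgroup.normalizer ((T : Subgroup G) : Set G), (orderOf g).Coprime p →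
      g ∈ Subgroup.centralizer ((T : Subgroup G) : Set G) := by
    intro g hg hgp
    have hex : ∀ x ∈ S, ∃ y ∈ S, tt ι y = g * tt ι x * g⁻¹ := by
      intro x hx
      have h1 : tt ι x ∈ (T : Subgroup G) := by
        rw [hT, tt_of_mem ι (hnS hx)]; exact ⟨_, rfl⟩
      have h2 := (Subgroup.mem_normalizer_iff.1 hg (tt ι x)).1 h1
      rw [hT] at h2
      obtain ⟨y, hy⟩ := h2
      exact ⟨y, nrm_le y.2, by rw [tt_apply]; exact hy⟩
    choose! f hfS hf using hex
    have hm : Map E (normalizerIn S V) f := by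
      refine (hMD.real _ f le_rfl (fun x hx => hnS (hfS x (nrm_le hx))) fun a ha b hb => ?_).2
        ⟨g, fun x hx => hf x (nrm_le hx)⟩
      have haS := nrm_le ha
      have hbS := nrm_le hb
      apply tt_inj hMD.inj (hnS (hfS _ (S.mul_mem haS hbS))) (hnS (S.mul_mem (hfS a haS) (hfS b hbS)))
      rw [tt_mul ι (hnS (hfS a haS)) (hnS (hfS b hbS)), hf _ (S.mul_mem haS hbS), hf a haS, hf b hbS, tt_mul ι ha hb]
      group
    have hm2 : Map F S f := (nsys_sub hE hm).mono hnS
    have hi : Iso F S S f := iso_of_card_le hm2 hfS le_rfl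
    have hit : ∀ n : ℕ, ∀ x : S, tt ι (((hi.aut ^ n) x : S) : Ω) = g ^ n * tt ι (x : Ω) * (g ^ n)⁻¹ := by
      intro n
      induction n with
      | zero => intro x; simp
      | succ n ih =>
        intro x
        rw [pow_succ', MulAut.mul_apply]
        have : ((hi.aut ((hi.aut ^ n) x) : S) : Ω) = f (((hi.aut ^ n) x : S) : Ω) := rfl
        rw [this, hf _ (Subtype.prop _), ih x]
        group
    have h1 : hi.aut ^ (orderOf g) = 1 := by
      ext x
      apply tt_inj hMD.inj (hnS (Subtype.prop _)) (hnS (Subtype.prop _))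
      rw [hit, pow_orderOf_eq_one]; simp
    obtain ⟨n, hn⟩ := haut ⟨hi.aut, hi.aut_mem⟩
    have h2 : hi.aut ^ (p ^ n) = 1 := congrArg Subtype.val hn
    have h3 : hi.aut = 1 := by
      have h4 : orderOf hi.aut ∣ Nat.gcd (orderOf g) (p ^ n) :=
        Nat.dvd_gcd (orderOf_dvd_of_pow_eq_one h1) (orderOf_dvd_of_pow_eq_one h2)
      rw [show Nat.gcd (orderOf g) (p ^ n) = 1 from Nat.Coprime.pow_right n hgp] at h4
      exact orderOf_eq_one_iff.1 (Nat.dvd_one.1 h4)
    rw [Subgroup.mem_centralizer_iff]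
    intro t ht
    have ht' : t ∈ (T : Subgroup G) := ht
    rw [hT] at ht'
    obtain ⟨y, rfl⟩ := ht'
    have hyS : (y : Ω) ∈ S := nrm_le y.2
    have h5 := hit 1 ⟨y, hyS⟩
    rw [h3] at h5
    simp only [pow_one, MulAut.one_apply] at h5
    rw [tt_apply] at h5
    calc ι y * g = (g * ι y * g⁻¹) * g := by rw [← h5]
      _ = g * ι y := by group
  obtain ⟨K, hK, hKi⟩ := H13.KT.index_p hp (H13.Syl.isSylIn_sylow_top T) hTb hN
  have h6 := foc_lt_of_index hMD hK hKi
  rw [← hfoc]
  exact lt_of_lt_of_le h6 nrm_le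

end Cfsg.Agent.H1.Kf
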