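import Mathlib
import Cfsg.Agent.H18_QPair4

set_option autoImplicit false

/-! Two quadratic elements: the trace trick and consequences on an irreducible module. -/

namespace Cfsg.Agent.H1.Ps

universe u v w

section ring

variable {E : Type v} [Ring E]

theorem trace_form {a b : E} (ha : a * a = 0) (hb : b * b = 0) {X : Type w} [Group X] (ρ : X →* E) {x y : X}
    (hx : ρ x = 1 + a) (hy : ρ y = 1 + b) (hx' : ρ x⁻¹ = 1 - a) (hy' : ρ y⁻¹ = 1 - b) {g : X}
    (hg : g ∈ Subgroup.closure {x, y}) :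
    ∃ α₀ α₁ α₂ α₃ : E, (Commute α₀ a ∧ Commute α₀ b) ∧ (Commute α₁ a ∧ Commute α₁ b) ∧ (Commute α₂ a ∧ Commute α₂ b) ∧
      (Commute α₃ a ∧ Commute α₃ b) ∧
      ρ g = α₀ + α₁ * a + α₂ * b + α₃ * (a * b) ∧ ρ g⁻¹ = α₀ - α₁ * a - α₂ * b + α₃ * (b * a) := by
  set T := a * b + b * a with hT
  have hTa : Commute T a := by
    show (a * b + b * a) * a = a * (a * b + b * a)
    have e1 : (a * b + b * a) * a = a * b * a + b * (a * a) := by noncomm_ring
    have e2 : a * (a * b + b * a) = (a * a) * b + a * b * a := by noncomm_ring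
    rw [e1, e2, ha]; simp
  have hTb : Commute T b := by
    show (a * b + b * a) * b = b * (a * b + b * a)
    have e1 : (a * b + b * a) * b = a * (b * b) + b * a * b := by noncomm_ring
    have e2 : b * (a * b + b * a) = b * a * b + (b * b) * a := by noncomm_ring
    rw [e1, e2, hb]; simp
  have hbab : b * a * b = T * b := by
    have e1 : T * b = a * (b * b) + b * a * b := by rw [hT]; noncomm_ring
    rw [e1, hb]; simp
  have key : ∀ (c d : E) (α₀ α₁ α₂ α₃ : E), Commute α₀ c → Commute α₁ c → Commute α₂ c → Commute α₃ c →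
      (1 + c) * (α₀ + α₁ * a + α₂ * b + α₃ * (a * b)) =
        (α₀ + α₁ * a + α₂ * b + α₃ * (a * b)) + (α₀ * c + α₁ * (c * a) + α₂ * (c * b) + α₃ * (c * a * b)) := by
    intro c d α₀ α₁ α₂ α₃ h0 h1 h2 h3
    have e : (1 + c) * (α₀ + α₁ * a + α₂ * b + α₃ * (a * b)) = (α₀ + α₁ * a + α₂ * b + α₃ * (a * b)) +
      (c * α₀ + (c * α₁) * a + (c * α₂) * b + (c * α₃) * (a * b)) := by noncomm_ring
    rw [e, ← h0.eq, ← h1.eq, ← h2.eq, ← h3.eq]
    noncomm_ring
  induction hg using Subgroup.closure_induction_left with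
  | one => exact ⟨1, 0, 0, 0, ⟨Commute.one_left _, Commute.one_left _⟩, ⟨Commute.zero_left _, Commute.zero_left _⟩,
      ⟨Commute.zero_left _, Commute.zero_left _⟩, ⟨Commute.zero_left _, Commute.zero_left _⟩, by simp, by simp⟩
  | mul_left z hz g hg ih =>
    obtain ⟨α₀, α₁, α₂, α₃, ⟨h0, h0'⟩, ⟨h1, h1'⟩, ⟨h2, h2'⟩, ⟨h3, h3'⟩, e1, e2⟩ := ih
    rcases hz with rfl | hz
    · refine ⟨α₀, α₁ + α₀, α₂, α₃ + α₂, ⟨h0, h0'⟩, ⟨h1.add_left h0, h1'.add_left h0'⟩, ⟨h2, h2'⟩,
        ⟨h3.add_left h2, h3'.add_left h2'⟩, ?_, ?_⟩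
      · rw [map_mul, hx, e1, key a b _ _ _ _ h0 h1 h2 h3]
        have e : α₀ + α₁ * a + α₂ * b + α₃ * (a * b) + (α₀ * a + α₁ * (a * a) + α₂ * (a * b) + α₃ * (a * a * b)) =
          α₀ + (α₁ + α₀) * a + α₂ * b + (α₃ + α₂) * (a * b) + (α₁ * (a * a) + α₃ * (a * a * b)) := by noncomm_ring
        rw [e, ha]; simp
      · rw [mul_inv_rev, map_mul, hx', e2]
        have e : (α₀ - α₁ * a - α₂ * b + α₃ * (b * a)) * (1 - a) =
          α₀ - (α₁ + α₀) * a - α₂ * b + (α₃ + α₂) * (b * a) + (α₁ * (a * a) - α₃ * b * (a * a)) := by noncomm_ring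
        rw [e, ha]; simp
    · rw [Set.mem_singleton_iff] at hz
      subst hz
      refine ⟨α₀ + α₁ * T, α₁, α₂ + α₀ + α₃ * T, α₃ - α₁, ⟨h0.add_left (h1.mul_left hTa), h0'.add_left (h1'.mul_left hTb)⟩,
        ⟨h1, h1'⟩, ⟨(h2.add_left h0).add_left (h3.mul_left hTa), (h2'.add_left h0').add_left (h3'.mul_left hTb)⟩,
        ⟨h3.sub_left h1, h3'.sub_left h1'⟩, ?_, ?_⟩
      · rw [map_mul, hy, e1, key b a _ _ _ _ h0' h1' h2' h3', hb, hbab, hT]
        noncomm_ring
      · rw [mul_inv_rev, map_mul, hy', e2]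
        have e : (α₀ - α₁ * a - α₂ * b + α₃ * (b * a)) * (1 - b) =
          α₀ - α₁ * a - α₂ * b + α₃ * (b * a) - α₀ * b + α₁ * (a * b) + α₂ * (b * b) - α₃ * (b * a * b) := by noncomm_ring
        rw [e, hb, hbab, hT]
        noncomm_ring
  | inv_mul_cancel z hz g hg ih =>
    obtain ⟨α₀, α₁, α₂, α₃, ⟨h0, h0'⟩, ⟨h1, h1'⟩, ⟨h2, h2'⟩, ⟨h3, h3'⟩, e1, e2⟩ := ih
    rcases hz with rfl | hz
    · refine ⟨α₀, α₁ - α₀, α₂, α₃ - α₂, ⟨h0, h0'⟩, ⟨h1.sub_left h0, h1'.sub_left h0'⟩, ⟨h2, h2'⟩,
        ⟨h3.sub_left h2, h3'.sub_left h2'⟩, ?_, ?_⟩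
      · rw [map_mul, hx', sub_eq_add_neg, e1, key (-a) b _ _ _ _ h0.neg_right h1.neg_right h2.neg_right h3.neg_right]
        have e : α₀ + α₁ * a + α₂ * b + α₃ * (a * b) + (α₀ * (-a) + α₁ * ((-a) * a) + α₂ * ((-a) * b) + α₃ * ((-a) * a * b)) =
          α₀ + (α₁ - α₀) * a + α₂ * b + (α₃ - α₂) * (a * b) - (α₁ * (a * a) + α₃ * (a * a * b)) := by noncomm_ring
        rw [e, ha]; simp
      · rw [mul_inv_rev, inv_inv, map_mul, hx, e2]
        have e : (α₀ - α₁ * a - α₂ * b + α₃ * (b * a)) * (1 + a) =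
          α₀ - (α₁ - α₀) * a - α₂ * b + (α₃ - α₂) * (b * a) - (α₁ * (a * a) - α₃ * b * (a * a)) := by noncomm_ring
        rw [e, ha]; simp
    · rw [Set.mem_singleton_iff] at hz
      subst hz
      refine ⟨α₀ - α₁ * T, α₁, α₂ - α₀ - α₃ * T, α₃ + α₁, ⟨h0.sub_left (h1.mul_left hTa), h0'.sub_left (h1'.mul_left hTb)⟩,
        ⟨h1, h1'⟩, ⟨(h2.sub_left h0).sub_left (h3.mul_left hTa), (h2'.sub_left h0').sub_left (h3'.mul_left hTb)⟩,
        ⟨h3.add_left h1, h3'.add_left h1'⟩, ?_, ?_⟩
      · rw [map_mul, hy', sub_eq_add_neg, e1, key (-b) a _ _ _ _ h0'.neg_right h1'.neg_right h2'.neg_right h3'.neg_right]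
        have e : α₀ + α₁ * a + α₂ * b + α₃ * (a * b) + (α₀ * (-b) + α₁ * ((-b) * a) + α₂ * ((-b) * b) + α₃ * ((-b) * a * b)) =
          α₀ + α₁ * a + α₂ * b + α₃ * (a * b) - α₀ * b - α₁ * (b * a) - α₂ * (b * b) - α₃ * (b * a * b) := by noncomm_ring
        rw [e, hb, hbab, hT]
        noncomm_ring
      · rw [mul_inv_rev, inv_inv, map_mul, hy, e2]
        have e : (α₀ - α₁ * a - α₂ * b + α₃ * (b * a)) * (1 + b) =
          α₀ - α₁ * a - α₂ * b + α₃ * (b * a) + α₀ * b - α₁ * (a * b) - α₂ * (b * b) + α₃ * (b * a * b) := by noncomm_ring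
        rw [e, hb, hbab, hT]
        noncomm_ring

theorem invol_comm {a b : E} (ha : a * a = 0) (hb : b * b = 0) {X : Type w} [Group X] (ρ : X →* E) {x y : X}
    (hx : ρ x = 1 + a) (hy : ρ y = 1 + b) (hx' : ρ x⁻¹ = 1 - a) (hy' : ρ y⁻¹ = 1 - b) {t : X}
    (hg : t ∈ Subgroup.closure {x, y}) (ht : t * t = 1) :
    Commute (ρ t + ρ t) a ∧ Commute (ρ t + ρ t) b := by
  obtain ⟨α₀, α₁, α₂, α₃, ⟨h0, h0'⟩, ⟨h1, h1'⟩, ⟨h2, h2'⟩, ⟨h3, h3'⟩, e1, e2⟩ := trace_form ha hb ρ hx hy hx' hy' hg
  have hinv : t⁻¹ = t := inv_eq_of_mul_eq_one_left ht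
  rw [hinv] at e2
  have e3 : ρ t + ρ t = (α₀ + α₀) + α₃ * (a * b + b * a) := by
    calc ρ t + ρ t = (α₀ + α₁ * a + α₂ * b + α₃ * (a * b)) + (α₀ - α₁ * a - α₂ * b + α₃ * (b * a)) := by
          rw [← e1, ← e2]
      _ = _ := by noncomm_ring
  have hTa : Commute (a * b + b * a) a := by
    show (a * b + b * a) * a = a * (a * b + b * a)
    have e1 : (a * b + b * a) * a = a * b * a + b * (a * a) := by noncomm_ring
    have e2 : a * (a * b + b * a) = (a * a) * b + a * b * a := by noncomm_ring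
    rw [e1, e2, ha]; simp
  have hTb : Commute (a * b + b * a) b := by
    show (a * b + b * a) * b = b * (a * b + b * a)
    have e1 : (a * b + b * a) * b = a * (b * b) + b * a * b := by noncomm_ring
    have e2 : b * (a * b + b * a) = b * a * b + (b * b) * a := by noncomm_ring
    rw [e1, e2, hb]; simp
  rw [e3]
  exact ⟨(h0.add_left h0).add_left (h3.mul_left hTa), (h0'.add_left h0').add_left (h3'.mul_left hTb)⟩

end ring

section mod

variable {V : Type v} [AddCommGroup V] [Finite V] {X : Type w} [Group X] {p : ℕ} [Fact p.Prime]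

/-- Data on an irreducible module generated by two quadratic elements `x`, `y`, with an involution `t` acting nontrivially. -/
theorem irr_data (hp2 : p ≠ 2) (hV : ∀ v : V, p • v = 0) (ρ : X →* AddMonoid.End V) {x y : X}
    (hgen : Subgroup.closure {x, y} = ⊤) (hx : ∀ v, ρ x (ρ x v - v) = ρ x v - v)
    (hy : ∀ v, ρ y (ρ y v - v) = ρ y v - v)
    (hirr : ∀ U : AddSubgroup V, (∀ g, ∀ v ∈ U, ρ g v ∈ U) → U = ⊥ ∨ U = ⊤) {t : X} (ht : t * t = 1)
    (ht1 : ρ t ≠ 1) :
    (∀ v, ρ t v = - v) ∧ (∀ v, ∃ u, ρ y v - v = ρ y (ρ x u - u) - (ρ x u - u)) ∧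
      (∀ v, ∃ u, ρ x v - v = ρ x (ρ y u - u) - (ρ y u - u)) := by
  set a : AddMonoid.End V := ρ x - 1 with ha'
  set b : AddMonoid.End V := ρ y - 1 with hb'
  have hav : ∀ v, a v = ρ x v - v := fun v => rfl
  have hbv : ∀ v, b v = ρ y v - v := fun v => rfl
  have ha : a * a = 0 := by
    ext v
    show a (a v) = 0
    rw [hav, hav, hx, sub_self]
  have hb : b * b = 0 := by
    ext v
    show b (b v) = 0
    rw [hbv, hbv, hy, sub_self]
  have hx1 : ρ x = 1 + a := by rw [ha']; abel
  have hy1 : ρ y = 1 + b := by rw [hb']; abel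
  have hx' : ρ x⁻¹ = 1 - a := by
    have e1 : ρ x⁻¹ * ρ x = 1 := by rw [← map_mul, inv_mul_cancel, map_one]
    have e2 : ρ x * (1 - a) = 1 := by
      rw [hx1]
      have : (1 + a) * (1 - a) = 1 - a * a := by noncomm_ring
      rw [this, ha, sub_zero]
    calc ρ x⁻¹ = ρ x⁻¹ * (ρ x * (1 - a)) := by rw [e2, mul_one]
      _ = 1 - a := by rw [← mul_assoc, e1, one_mul]
  have hy' : ρ y⁻¹ = 1 - b := by
    have e1 : ρ y⁻¹ * ρ y = 1 := by rw [← map_mul, inv_mul_cancel, map_one]
    have e2 : ρ y * (1 - b) = 1 := by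
      rw [hy1]
      have : (1 + b) * (1 - b) = 1 - b * b := by noncomm_ring
      rw [this, hb, sub_zero]
    calc ρ y⁻¹ = ρ y⁻¹ * (ρ y * (1 - b)) := by rw [e2, mul_one]
      _ = 1 - b := by rw [← mul_assoc, e1, one_mul]
  have hmem : ∀ g : X, g ∈ Subgroup.closure ({x, y} : Set X) := fun g => by rw [hgen]; trivial
  -- invariance criterion
  have hinv : ∀ U : AddSubgroup V, (∀ v ∈ U, a v ∈ U) → (∀ v ∈ U, b v ∈ U) → ∀ g, ∀ v ∈ U, ρ g v ∈ U := by
    intro U hUa hUb g
    have hX : ∀ v ∈ U, ρ x v ∈ U := fun v hv => by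
      rw [hx1]; show v + a v ∈ U; exact U.add_mem hv (hUa v hv)
    have hY : ∀ v ∈ U, ρ y v ∈ U := fun v hv => by
      rw [hy1]; show v + b v ∈ U; exact U.add_mem hv (hUb v hv)
    have hX' : ∀ v ∈ U, ρ x⁻¹ v ∈ U := fun v hv => by
      rw [hx']; show v - a v ∈ U; exact U.sub_mem hv (hUa v hv)
    have hY' : ∀ v ∈ U, ρ y⁻¹ v ∈ U := fun v hv => by
      rw [hy']; show v - b v ∈ U; exact U.sub_mem hv (hUb v hv)
    induction hmem g using Subgroup.closure_induction_left with
    | one => intro v hv; rw [map_one]; exact hv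
    | mul_left z hz g hg ih =>
      intro v hv
      rw [map_mul]
      rcases hz with rfl | hz
      · exact hX _ (ih v hv)
      · rw [Set.mem_singleton_iff] at hz; subst hz; exact hY _ (ih v hv)
    | inv_mul_cancel z hz g hg ih =>
      intro v hv
      rw [map_mul]
      rcases hz with rfl | hz
      · exact hX' _ (ih v hv)
      · rw [Set.mem_singleton_iff] at hz; subst hz; exact hY' _ (ih v hv)
  have hdouble : ∀ v : V, v + v = 0 → v = 0 := by
    intro v hv
    have h2 : (2 : ℕ) • v = 0 := by rw [two_nsmul]; exact hv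
    have hco : Nat.Coprime 2 p := (Nat.coprime_primes Nat.prime_two (Fact.out : p.Prime)).2 (Ne.symm hp2)
    have h3 : addOrderOf v ∣ Nat.gcd 2 p := Nat.dvd_gcd (addOrderOf_dvd_of_nsmul_eq_zero h2)
      (addOrderOf_dvd_of_nsmul_eq_zero (hV v))
    rw [hco] at h3
    exact AddMonoid.addOrderOf_eq_one_iff.1 (Nat.dvd_one.1 h3)
  -- fixed points
  have hfix : ∀ v, a v = 0 → b v = 0 → v = 0 := by
    let U : AddSubgroup V := { carrier := {v | a v = 0 ∧ b v = 0}
                               add_mem' := fun {v w} h1 h2 => ⟨by rw [map_add, h1.1, h2.1, add_zero], by rw [map_add, h1.2, h2.2, add_zero]⟩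
                               zero_mem' := ⟨map_zero _, map_zero _⟩
                               neg_mem' := fun {v} h => ⟨by rw [map_neg, h.1, neg_zero], by rw [map_neg, h.2, neg_zero]⟩ }
    have hUinv := hinv U (fun v hv => by rw [hv.1]; exact U.zero_mem) (fun v hv => by rw [hv.2]; exact U.zero_mem)
    rcases hirr U hUinv with h | h
    · intro v h1 h2
      have : v ∈ U := ⟨h1, h2⟩
      rw [h] at this
      exact AddSubgroup.mem_bot.1 this
    · exfalso
      apply ht1
      have hall : ∀ v, a v = 0 ∧ b v = 0 := fun v => by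
        have : v ∈ U := by rw [h]; trivial
        exact this
      have ha0 : a = 0 := by ext v; exact (hall v).1
      have hb0 : b = 0 := by ext v; exact (hall v).2
      have hone : ∀ g, ρ g = 1 := by
        intro g
        induction hmem g using Subgroup.closure_induction_left with
        | one => exact map_one _
        | mul_left z hz g hg ih =>
          rw [map_mul, ih, mul_one]
          rcases hz with rfl | hz
          · rw [hx1, ha0, add_zero]
          · rw [Set.mem_singleton_iff] at hz; subst hz; rw [hy1, hb0, add_zero]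
        | inv_mul_cancel z hz g hg ih =>
          rw [map_mul, ih, mul_one]
          rcases hz with rfl | hz
          · rw [hx', ha0, sub_zero]
          · rw [Set.mem_singleton_iff] at hz; subst hz; rw [hy', hb0, sub_zero]
      exact hone t
  obtain ⟨hca, hcb⟩ := invol_comm ha hb ρ hx1 hy1 hx' hy' (hmem t) ht
  have hta : ∀ v, ρ t (a v) = a (ρ t v) := by
    intro v
    have h1 : (ρ t + ρ t) (a v) = a ((ρ t + ρ t) v) := congrArg (fun f : AddMonoid.End V => f v) hca.eq
    have h2 : ρ t (a v) + ρ t (a v) = a (ρ t v) + a (ρ t v) := by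
      have h3 : (ρ t + ρ t) v = ρ t v + ρ t v := rfl
      rw [h3, map_add] at h1
      exact h1
    have h3 : (ρ t (a v) - a (ρ t v)) + (ρ t (a v) - a (ρ t v)) = 0 := by
      have : (ρ t (a v) - a (ρ t v)) + (ρ t (a v) - a (ρ t v)) = (ρ t (a v) + ρ t (a v)) - (a (ρ t v) + a (ρ t v)) := by abel
      rw [this, h2, sub_self]
    exact sub_eq_zero.1 (hdouble _ h3)
  have htb : ∀ v, ρ t (b v) = b (ρ t v) := by
    intro v
    have h1 : (ρ t + ρ t) (b v) = b ((ρ t + ρ t) v) := congrArg (fun f : AddMonoid.End V => f v) hcb.eq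
    have h2 : ρ t (b v) + ρ t (b v) = b (ρ t v) + b (ρ t v) := by
      have h3 : (ρ t + ρ t) v = ρ t v + ρ t v := rfl
      rw [h3, map_add] at h1
      exact h1
    have h3 : (ρ t (b v) - b (ρ t v)) + (ρ t (b v) - b (ρ t v)) = 0 := by
      have : (ρ t (b v) - b (ρ t v)) + (ρ t (b v) - b (ρ t v)) = (ρ t (b v) + ρ t (b v)) - (b (ρ t v) + b (ρ t v)) := by abel
      rw [this, h2, sub_self]
    exact sub_eq_zero.1 (hdouble _ h3)
  have htt : ∀ v, ρ t (ρ t v) = v := fun v => by
    have : (ρ t * ρ t) v = v := by rw [← map_mul, ht, map_one]; rfl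
    exact this
  have A1 : ∀ v, ρ t v = - v := by
    let U : AddSubgroup V := { carrier := {v | ρ t v = v}
                               add_mem' := fun {v w} h1 h2 => by
                                 show ρ t (v + w) = v + w
                                 rw [map_add, show ρ t v = v from h1, show ρ t w = w from h2]
                               zero_mem' := map_zero _
                               neg_mem' := fun {v} h => by
                                 show ρ t (-v) = -v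
                                 rw [map_neg, show ρ t v = v from h] }
    have hUinv := hinv U (fun v hv => by show ρ t (a v) = a v; rw [hta, show ρ t v = v from hv])
      (fun v hv => by show ρ t (b v) = b v; rw [htb, show ρ t v = v from hv])
    rcases hirr U hUinv with h | h
    · intro v
      have : v + ρ t v ∈ U := by
        show ρ t (v + ρ t v) = v + ρ t v
        rw [map_add, htt, add_comm]
      rw [h, AddSubgroup.mem_bot] at this
      exact (neg_eq_of_add_eq_zero_right this).symm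
    · exfalso
      apply ht1
      ext v
      have : v ∈ U := by rw [h]; trivial
      exact this
  -- the central element T
  set T : AddMonoid.End V := a * b + b * a with hT
  have hTv : ∀ v, T v = a (b v) + b (a v) := fun v => rfl
  have haa : ∀ v, a (a v) = 0 := fun v => congrArg (fun f : AddMonoid.End V => f v) ha
  have hbb : ∀ v, b (b v) = 0 := fun v => congrArg (fun f : AddMonoid.End V => f v) hb
  have hinj : Function.Injective T := by
    let U : AddSubgroup V := AddMonoidHom.ker T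
    have hUinv := hinv U (fun v hv => by
        refine AddMonoidHom.mem_ker.2 ?_
        have h1 : a (b v) + b (a v) = 0 := AddMonoidHom.mem_ker.1 hv
        show a (b (a v)) + b (a (a v)) = 0
        rw [haa, map_zero, add_zero]
        have h2 := congrArg a h1
        rw [map_add, haa, zero_add, map_zero] at h2
        exact h2)
      (fun v hv => by
        refine AddMonoidHom.mem_ker.2 ?_
        have h1 : a (b v) + b (a v) = 0 := AddMonoidHom.mem_ker.1 hv
        show a (b (b v)) + b (a (b v)) = 0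
        rw [hbb, map_zero, zero_add]
        have h2 := congrArg b h1
        rw [map_add, hbb, add_zero, map_zero] at h2
        exact h2)
    rcases hirr U hUinv with h | h
    · exact (AddMonoidHom.ker_eq_bot_iff T).1 h
    · exfalso
      have hT0 : ∀ v, a (b v) + b (a v) = 0 := fun v => by
        have : v ∈ U := by rw [h]; trivial
        exact this
      have hab : ∀ v, a (b v) = 0 := by
        intro v
        apply hfix
        · exact haa _
        · have h1 := hT0 (b v)
          rw [hbb, map_zero, zero_add] at h1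
          exact h1
      have hba : ∀ v, b (a v) = 0 := by
        intro v
        have h1 := hT0 v
        rw [hab, zero_add] at h1
        exact h1
      have ha0 : ∀ v, a v = 0 := fun v => hfix _ (haa _) (hba _)
      have hb0 : ∀ v, b v = 0 := fun v => hfix _ (hab _) (hbb _)
      apply ht1
      ext v
      have := hfix v (ha0 v) (hb0 v)
      rw [this, map_zero, map_zero]
  have hsurj : Function.Surjective T := Finite.injective_iff_surjective.1 hinj
  refine ⟨A1, fun v => ?_, fun v => ?_⟩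
  · obtain ⟨u, hu⟩ := hsurj v
    refine ⟨b u, ?_⟩
    show b v = b (a (b u))
    rw [← hu, hTv, map_add, hbb, add_zero]
  · obtain ⟨u, hu⟩ := hsurj v
    refine ⟨a u, ?_⟩
    show a v = a (b (a u))
    rw [← hu, hTv, map_add, haa, zero_add]

/-- A group generated by two quadratic elements that is not a `p`-group on `V` has an involution. -/
theorem exists_invol [Finite X] (hp2 : p ≠ 2) (hV : ∀ v : V, p • v = 0) (ρ : X →* AddMonoid.End V) {x y : X}
    (hgen : Subgroup.closure {x, y} = ⊤) (hx : ∀ v, ρ x (ρ x v - v) = ρ x v - v)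
    (hy : ∀ v, ρ y (ρ y v - v) = ρ y v - v) (hnp : ∃ g, ∀ n, ρ (g ^ (p ^ n)) ≠ 1) : ∃ t : X, orderOf t = 2 := by
  obtain ⟨N, B, Y, φ, ν, hφ, -⟩ := H18.QPair.add_sl2 hp2 hV ρ hgen hx hy hnp
  have h20 : (2 : ZMod p) ≠ 0 := by
    intro h
    have h1 : ((2 : ℕ) : ZMod p) = 0 := by exact_mod_cast h
    rw [ZMod.natCast_eq_zero_iff] at h1
    exact hp2 ((Nat.prime_dvd_prime_iff_eq Fact.out Nat.prime_two).1 h1)
  have hneg : orderOf (-1 : Matrix.SpecialLinearGroup (Fin 2) (ZMod p)) = 2 := by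
    apply orderOf_eq_prime
    · rw [sq]; simp
    · intro h
      have h1 : (-1 : Matrix.SpecialLinearGroup (Fin 2) (ZMod p)).1 0 0 = (1 : Matrix.SpecialLinearGroup (Fin 2) (ZMod p)).1 0 0 := by
        rw [h]
      simp at h1
      apply h20
      have h2 : (1 : ZMod p) + 1 = 0 := by nth_rewrite 1 [← h1]; ring
      rw [← h2]; norm_num
  have : Finite (H5.SL2.S (ZMod p)) := Finite.of_surjective φ hφ
  have hdvd : 2 ∣ Nat.card (H5.SL2.S (ZMod p)) := by
    have h1 := orderOf_dvd_natCard (-1 : Matrix.SpecialLinearGroup (Fin 2) (ZMod p))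
    rw [hneg] at h1
    exact h1
  have h2 : 2 ∣ Nat.card Y := hdvd.trans (Subgroup.card_dvd_of_surjective φ hφ)
  have h3 : 2 ∣ Nat.card X := h2.trans (Subgroup.card_subgroup_dvd_card Y)
  have : Fact (Nat.Prime 2) := ⟨Nat.prime_two⟩
  exact exists_prime_orderOf_dvd_card' 2 h3

end mod

end Cfsg.Agent.H1.Ps
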