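import Mathlib
import Cfsg.Agent.H1_PsA
import Cfsg.Agent.H2_PGroup

set_option autoImplicit false

/-! Two quadratic automorphisms of a minimal group: passing to automorphisms that are quadratic on the whole group. -/

namespace Cfsg.Agent.H1.Ps

open scoped commutatorElement

universe u v w

section br

variable {R : Type u} [Group R]

theorem br_mul_left (hc : ∀ r s z : R, ⁅r, s⁆ * z = z * ⁅r, s⁆) (a b c : R) : ⁅a * b, c⁆ = ⁅a, c⁆ * ⁅b, c⁆ := by
  have h1 : ⁅a * b, c⁆ = (a * ⁅b, c⁆) * c * a⁻¹ * c⁻¹ := by simp only [commutatorElement_def]; group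
  rw [h1, ← hc b c a, ← hc b c ⁅a, c⁆]
  simp only [commutatorElement_def]; group

theorem br_mul_right (hc : ∀ r s z : R, ⁅r, s⁆ * z = z * ⁅r, s⁆) (a b c : R) : ⁅a, b * c⁆ = ⁅a, b⁆ * ⁅a, c⁆ := by
  have h1 : ⁅a, b * c⁆ = a * b * a⁻¹ * (⁅a, c⁆ * b⁻¹) := by simp only [commutatorElement_def]; group
  rw [h1, hc a c b⁻¹]
  simp only [commutatorElement_def]; group

theorem br_inv_left (hc : ∀ r s z : R, ⁅r, s⁆ * z = z * ⁅r, s⁆) (a c : R) : ⁅a⁻¹, c⁆ = ⁅a, c⁆⁻¹ := by
  have h1 := br_mul_left hc a⁻¹ a c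
  rw [inv_mul_cancel, commutatorElement_one_left] at h1
  exact eq_inv_of_mul_eq_one_left h1.symm

theorem br_inv_right (hc : ∀ r s z : R, ⁅r, s⁆ * z = z * ⁅r, s⁆) (a c : R) : ⁅a, c⁻¹⁆ = ⁅a, c⁆⁻¹ := by
  have h1 := br_mul_right hc a c⁻¹ c
  rw [inv_mul_cancel, commutatorElement_one_right] at h1
  exact eq_inv_of_mul_eq_one_left h1.symm

theorem br_quad (hc : ∀ r s z : R, ⁅r, s⁆ * z = z * ⁅r, s⁆) (u u' v v' : R) :
    ⁅u * u', v * v'⁆ * ⁅u * u'⁻¹, v * v'⁻¹⁆ = ⁅u, v⁆ * ⁅u, v⁆ * (⁅u', v'⁆ * ⁅u', v'⁆) := by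
  rw [br_mul_left hc, br_mul_right hc, br_mul_right hc, br_mul_left hc, br_mul_right hc, br_mul_right hc,
    br_inv_left hc, br_inv_left hc, br_inv_right hc, br_inv_right hc, inv_inv]
  have hA := hc u v
  have hB := hc u v'
  have hC := hc u' v
  have hD := hc u' v'
  generalize ⁅u, v⁆ = A at *
  generalize ⁅u, v'⁆ = B at *
  generalize ⁅u', v⁆ = C at *
  generalize ⁅u', v'⁆ = D at *
  calc A * B * (C * D) * (A * B⁻¹ * (C⁻¹ * D)) = A * (B * (C * D * A)) * B⁻¹ * (C⁻¹ * D) := by group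
    _ = A * ((C * D * A) * B) * B⁻¹ * (C⁻¹ * D) := by rw [hB]
    _ = A * (C * (D * A)) * C⁻¹ * D := by group
    _ = A * ((D * A) * C) * C⁻¹ * D := by rw [hC]
    _ = A * (D * A) * D := by group
    _ = A * (A * D) * D := by rw [hD]
    _ = _ := by group

end br

section misc

variable {R : Type u} [Group R] {p : ℕ} [Fact p.Prime]

theorem sq_mem [Finite R] (hp2 : p ≠ 2) (hR : IsPGroup p R) {H : Subgroup R} {f : R} (hf : f * f ∈ H) : f ∈ H := by
  obtain ⟨k, hk⟩ := hR f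
  have hodd : Odd (p ^ k) := (((Fact.out : p.Prime).eq_two_or_odd').resolve_left hp2).pow
  obtain ⟨m, hm⟩ := hodd
  have h1 : f = (f * f) ^ (m + 1) := by
    rw [← sq, ← pow_mul]
    have : 2 * (m + 1) = p ^ k + 1 := by omega
    rw [this, pow_succ, hk, one_mul]
  rw [h1]
  exact H.pow_mem hf _

theorem sq_one [Finite R] (hp2 : p ≠ 2) (hR : IsPGroup p R) {f : R} (hf : f * f = 1) : f = 1 := by
  have h := sq_mem hp2 hR (H := ⊥) (f := f) (by rw [hf]; exact Subgroup.one_mem _)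
  simpa using h

theorem pow_pk {X : Type v} [Group X] (hp2 : p ≠ 2) {t : X} (ht : t * t = 1) (k : ℕ) : t ^ (p ^ k) = t := by
  have hodd : Odd (p ^ k) := (((Fact.out : p.Prime).eq_two_or_odd').resolve_left hp2).pow
  obtain ⟨m, hm⟩ := hodd
  rw [hm, pow_succ, pow_mul, sq, ht, one_pow, one_mul]

/-- a `p`-group of automorphisms moves a nontrivial invariant `p`-subgroup properly down -/
theorem act_lt [Finite R] {X : Type v} [Group X] [MulDistribMulAction X R] (hR : IsPGroup p R) {Y : Subgroup R}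
    (hY : Y ≠ ⊥) (hYinv : ∀ g : X, ∀ z ∈ Y, g • z ∈ Y) (hpow : ∀ g : X, ∃ k, ∀ z ∈ Y, g ^ (p ^ k) • z = z) :
    Subgroup.closure {w : R | ∃ z ∈ Y, ∃ g : X, w = z⁻¹ * g • z} ≠ Y := by
  intro hcon
  letI : MulDistribMulAction X Y :=
    { smul := fun g z => ⟨g • z.1, hYinv g z.1 z.2⟩
      one_smul := fun z => Subtype.ext (one_smul X z.1)
      mul_smul := fun g h z => Subtype.ext (mul_smul g h z.1)
      smul_mul := fun g z w => Subtype.ext (smul_mul' g z.1 w.1)
      smul_one := fun g => Subtype.ext (smul_one g) }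
  have hval : ∀ (g : X) (z : Y), ((g • z : Y) : R) = g • (z : R) := fun g z => rfl
  let φ : X →* MulAut Y := MulDistribMulAction.toMulAut X Y
  have hφ : ∀ g z, φ g z = g • z := fun g z => rfl
  let A : Subgroup (MulAut Y) := φ.range
  have hA : IsPGroup p A := by
    rintro ⟨_, g, rfl⟩
    obtain ⟨k, hk⟩ := hpow g
    refine ⟨k, Subtype.ext ?_⟩
    show (φ g) ^ (p ^ k) = 1
    rw [← map_pow]
    ext z
    show ((g ^ (p ^ k) • z : Y) : R) = z
    rw [hval, hk z z.2]
  let L := Y ⋊[A.subtype] A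
  have : Finite (MulAut Y) := Finite.of_injective (fun f : MulAut Y => (f : Y → Y)) DFunLike.coe_injective
  have hfin : Finite L := Finite.of_equiv _ (SemidirectProduct.equivProd (N := Y) (G := A) (φ := A.subtype)).symm
  have hL : IsPGroup p L := by
    obtain ⟨n, hn⟩ := IsPGroup.iff_card.1 (hR.to_subgroup Y)
    obtain ⟨m, hm⟩ := IsPGroup.iff_card.1 hA
    refine IsPGroup.of_card (n := n + m) ?_
    show Nat.card (Y ⋊[A.subtype] A) = _
    rw [SemidirectProduct.card, hn, hm, pow_add]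
  have hnil : Group.IsNilpotent L := hL.isNilpotent
  let N : Subgroup L := (SemidirectProduct.inl (N := Y) (G := A) (φ := A.subtype)).range
  have hN : N.Normal := by
    show (SemidirectProduct.inl (N := Y) (G := A) (φ := A.subtype)).range.Normal
    rw [SemidirectProduct.range_inl_eq_ker_rightHom]; infer_instance
  have hNb : N ≠ ⊥ := by
    intro h
    apply hY
    rw [eq_bot_iff]
    intro z hz
    have h1 : (SemidirectProduct.inl ⟨z, hz⟩ : L) ∈ N := ⟨_, rfl⟩
    rw [h, Subgroup.mem_bot] at h1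
    have h2 := SemidirectProduct.inl_injective (h1.trans (map_one _).symm)
    exact congrArg Subtype.val h2
  have hlt := H2.PGroup.commutator_top_lt_of_nilpotent hNb
  apply hlt.not_ge
  rintro _ ⟨z, rfl⟩
  obtain ⟨z, hz⟩ := z
  have key : ∀ z ∈ Subgroup.closure {w : R | ∃ z ∈ Y, ∃ g : X, w = z⁻¹ * g • z}, ∀ hz : z ∈ Y,
      (SemidirectProduct.inl ⟨z, hz⟩ : L) ∈ ⁅N, (⊤ : Subgroup L)⁆ := by
    intro z hz
    induction hz using Subgroup.closure_induction with
    | mem w hw =>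
      obtain ⟨z, hz, g, rfl⟩ := hw
      intro hz'
      have h1 : (SemidirectProduct.inl ⟨z⁻¹ * g • z, hz'⟩ : L) =
          ⁅(SemidirectProduct.inl (⟨z, hz⟩⁻¹ : Y) : L), SemidirectProduct.inr (⟨φ g, g, rfl⟩ : A)⁆ := by
        rw [commutatorElement_def]
        have h2 : (SemidirectProduct.inr (⟨φ g, g, rfl⟩ : A) : L) * (SemidirectProduct.inl (⟨z, hz⟩⁻¹ : Y))⁻¹ *
            (SemidirectProduct.inr (⟨φ g, g, rfl⟩ : A))⁻¹ = SemidirectProduct.inl (g • (⟨z, hz⟩ : Y)) := by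
          rw [← map_inv, inv_inv, ← map_inv]
          exact (SemidirectProduct.inl_aut (φ := A.subtype) _ _).symm
        calc (SemidirectProduct.inl ⟨z⁻¹ * g • z, hz'⟩ : L) = SemidirectProduct.inl (⟨z, hz⟩⁻¹ * g • (⟨z, hz⟩ : Y)) := rfl
          _ = SemidirectProduct.inl (⟨z, hz⟩⁻¹ : Y) * SemidirectProduct.inl (g • (⟨z, hz⟩ : Y)) := map_mul _ _ _
          _ = _ := by rw [← h2]; group
      rw [h1]
      exact Subgroup.commutator_mem_commutator ⟨_, rfl⟩ trivial
    | one => intro h; exact (by rw [show (⟨1, h⟩ : Y) = 1 from rfl, map_one]; exact Subgroup.one_mem _)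
    | mul a b ha hb iha ihb =>
      intro h
      have hle : Subgroup.closure {w : R | ∃ z ∈ Y, ∃ g : X, w = z⁻¹ * g • z} ≤ Y := hcon.le
      have := Subgroup.mul_mem _ (iha (hle ha)) (ihb (hle hb))
      rw [← map_mul] at this
      exact this
    | inv a ha iha =>
      intro h
      have hle : Subgroup.closure {w : R | ∃ z ∈ Y, ∃ g : X, w = z⁻¹ * g • z} ≤ Y := hcon.le
      have := Subgroup.inv_mem _ (iha (hle ha))
      rw [← map_inv] at this
      exact this
  exact key z (by rw [hcon]; exact hz) hz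

end misc

end Cfsg.Agent.H1.Ps
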