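import Mathlib
import Cfsg.Agent.H1_PsB

set_option autoImplicit false

/-! Two quadratic automorphisms of a minimal group: passing to automorphisms that are quadratic on the whole group. -/

namespace Cfsg.Agent.H1.Ps

open scoped commutatorElement

universe u v w

section main

variable {R : Type u} [Group R] [Finite R] {X : Type v} [Group X] [MulDistribMulAction X R] {p : ℕ} [Fact p.Prime]

theorem exists_module {M : Subgroup R} [M.Normal] (hab : ∀ r s : R, ⁅r, s⁆ ∈ M) (hinv : ∀ g : X, ∀ m ∈ M, g • m ∈ M) :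
    ∃ (V : Type u) (_ : AddCommGroup V) (_ : Finite V) (π : R → V) (ρ : X →* AddMonoid.End V),
      (∀ r s, π (r * s) = π r + π s) ∧ Function.Surjective π ∧ (∀ r, π r = 0 ↔ r ∈ M) ∧
      ∀ g r, ρ g (π r) = π (g • r) := by
  let _ : CommGroup (R ⧸ M) :=
    { QuotientGroup.Quotient.group M with
      mul_comm := by
        intro a b
        induction a using QuotientGroup.induction_on with
        | H r =>
        induction b using QuotientGroup.induction_on with
        | H s =>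
        show ((r * s : R) : R ⧸ M) = ((s * r : R) : R ⧸ M)
        rw [QuotientGroup.eq]
        have h1 := hab s⁻¹ r⁻¹
        rw [commutatorElement_def] at h1
        have e : (r * s)⁻¹ * (s * r) = s⁻¹ * r⁻¹ * s⁻¹⁻¹ * r⁻¹⁻¹ := by group
        rw [e]; exact h1 }
  let f : X → (R ⧸ M →* R ⧸ M) := fun g => QuotientGroup.map M M (MulDistribMulAction.toMonoidHom R g)
    (fun m hm => hinv g m hm)
  have hf : ∀ g (r : R), f g (r : R ⧸ M) = ((g • r : R) : R ⧸ M) := fun g r => rfl
  let ρ : X →* AddMonoid.End (Additive (R ⧸ M)) :=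
    { toFun := fun g => MonoidHom.toAdditive (f g)
      map_one' := by
        apply AddMonoidHom.ext
        intro v
        show Additive.ofMul (f 1 v.toMul) = v
        obtain ⟨r, hr⟩ := QuotientGroup.mk_surjective v.toMul
        rw [← hr, hf, one_smul, hr]; rfl
      map_mul' := fun g h => by
        apply AddMonoidHom.ext
        intro v
        show Additive.ofMul (f (g * h) v.toMul) = Additive.ofMul (f g (f h v.toMul))
        obtain ⟨r, hr⟩ := QuotientGroup.mk_surjective v.toMul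
        rw [← hr, hf, hf, hf, mul_smul] }
  refine ⟨Additive (R ⧸ M), inferInstance, inferInstance, fun r => Additive.ofMul (r : R ⧸ M), ρ, fun r s => rfl, ?_, ?_, ?_⟩
  · intro v
    obtain ⟨r, hr⟩ := QuotientGroup.mk_surjective v.toMul
    exact ⟨r, hr⟩
  · intro r
    exact QuotientGroup.eq_one_iff r
  · intro g r
    rfl

theorem lemQ [Finite X] (hp2 : p ≠ 2) (hR : IsPGroup p R) {x y : X} (hgen : Subgroup.closure {x, y} = ⊤)
    (hfaith : ∀ g : X, (∀ r : R, g • r = r) → g = 1) (M : Subgroup R) [hMn : M.Normal] (hMt : M ≠ ⊤)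
    (hMinv : ∀ g : X, ∀ m ∈ M, g • m ∈ M)
    (hirr : ∀ N : Subgroup R, N.Normal → M ≤ N → (∀ g : X, ∀ r ∈ N, g • r ∈ N) → N = M ∨ N = ⊤)
    (hmin : ∀ N : Subgroup R, N ≠ ⊤ → (∀ g : X, ∀ r ∈ N, g • r ∈ N) → ∀ g : X, ∃ k, ∀ r ∈ N, g ^ (p ^ k) • r = r)
    (hqx : ∀ r : R, (r⁻¹ * x • r)⁻¹ * x • (r⁻¹ * x • r) ∈ M) (hqy : ∀ r : R, (r⁻¹ * y • r)⁻¹ * y • (r⁻¹ * y • r) ∈ M)
    (hnp : ∃ g : X, ∀ k, g ^ (p ^ k) ≠ 1) :
    ∃ (R₁ : Subgroup R) (c d : X), (∀ r ∈ R₁, c • r ∈ R₁) ∧ (∀ r ∈ R₁, d • r ∈ R₁) ∧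
      (∀ r ∈ R₁, c • (r⁻¹ * c • r) = r⁻¹ * c • r) ∧ (∀ r ∈ R₁, d • (r⁻¹ * d • r) = r⁻¹ * d • r) ∧
      ∃ h ∈ Subgroup.closure {c, d}, ∀ k, ∃ r ∈ R₁, h ^ (p ^ k) • r ≠ r := by
  classical
  have hpp : p.Prime := Fact.out
  -- the quotient is abelian
  have hab : ∀ r s : R, ⁅r, s⁆ ∈ M := by
    let N : Subgroup R := (Subgroup.center (R ⧸ M)).comap (QuotientGroup.mk' M)
    have hmem : ∀ r, r ∈ N ↔ ∀ s, ⁅r, s⁆ ∈ M := by
      intro r
      show (r : R ⧸ M) ∈ Subgroup.center (R ⧸ M) ↔ _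
      rw [Subgroup.mem_center_iff]
      constructor
      · intro h s
        have h1 := h (s : R ⧸ M)
        rw [← QuotientGroup.eq_one_iff]
        show ((r : R ⧸ M) * s * (r : R ⧸ M)⁻¹ * (s : R ⧸ M)⁻¹) = 1
        rw [← h1]; group
      · intro h s
        obtain ⟨s, rfl⟩ := QuotientGroup.mk_surjective s
        have h1 := (QuotientGroup.eq_one_iff (N := M) _).2 (h s)
        have h2 : (r : R ⧸ M) * s * (r : R ⧸ M)⁻¹ * (s : R ⧸ M)⁻¹ = 1 := h1
        have h3 : (r : R ⧸ M) * s = s * r := by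
          have h4 := mul_inv_eq_one.1 h2
          exact mul_inv_eq_iff_eq_mul.1 h4
        exact h3.symm
    have hMN : M ≤ N := by
      intro m hm
      rw [hmem]
      intro s
      rw [commutatorElement_def]
      have : m * s * m⁻¹ * s⁻¹ = m * (s * m⁻¹ * s⁻¹) := by group
      rw [this]
      exact M.mul_mem hm (hMn.conj_mem _ (M.inv_mem hm) s)
    rcases hirr N (Subgroup.Normal.comap inferInstance _) hMN (fun g r hr => by
      rw [hmem] at hr ⊢
      intro s
      have h1 := hMinv g _ (hr (g⁻¹ • s))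
      rw [commutatorElement_def, smul_mul', smul_mul', smul_mul', smul_inv', smul_inv', smul_inv_smul] at h1
      exact h1) with h | h
    · exfalso
      have : Nontrivial (R ⧸ M) := QuotientGroup.nontrivial_iff.2 hMt
      have hnt := (hR.to_quotient M).center_nontrivial
      obtain ⟨⟨z, hz⟩, hz1⟩ := exists_ne (1 : Subgroup.center (R ⧸ M))
      obtain ⟨r, rfl⟩ := QuotientGroup.mk_surjective z
      have : r ∈ N := hz
      rw [h] at this
      exact hz1 (Subtype.ext ((QuotientGroup.eq_one_iff r).2 this))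
    · intro r s
      exact (hmem r).1 (by rw [h]; trivial) s
  obtain ⟨V, _, _, π, ρ, hπm, hπs, hπM, hρ⟩ := exists_module hab hMinv
  have hπ1 : π 1 = 0 := (hπM 1).2 M.one_mem
  have hπi : ∀ r, π r⁻¹ = - π r := fun r => by
    have := hπm r⁻¹ r
    rw [inv_mul_cancel, hπ1] at this
    exact eq_neg_of_add_eq_zero_left this.symm
  have hπp : ∀ r (n : ℕ), π (r ^ n) = n • π r := by
    intro r n
    induction n with
    | zero => rw [pow_zero, zero_nsmul, hπ1]
    | succ n ih => rw [pow_succ, hπm, ih, succ_nsmul]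
  have hVirr : ∀ U : AddSubgroup V, (∀ g, ∀ v ∈ U, ρ g v ∈ U) → U = ⊥ ∨ U = ⊤ := by
    intro U hU
    let N : Subgroup R :=
      { carrier := {r | π r ∈ U}
        mul_mem' := fun {a b} ha hb => by
          show π (a * b) ∈ U
          rw [hπm]; exact U.add_mem ha hb
        one_mem' := by show π 1 ∈ U; rw [hπ1]; exact U.zero_mem
        inv_mem' := fun {a} ha => by show π a⁻¹ ∈ U; rw [hπi]; exact U.neg_mem ha }
    have hN : ∀ r, r ∈ N ↔ π r ∈ U := fun r => Iff.rfl
    rcases hirr N ⟨fun n hn g => by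
        rw [hN] at hn ⊢
        rw [hπm, hπm, hπi, add_comm (π g), add_neg_cancel_right]; exact hn⟩
      (fun m hm => by rw [hN, (hπM m).2 hm]; exact U.zero_mem)
      (fun g r hr => by rw [hN] at hr ⊢; rw [← hρ]; exact hU g _ hr) with h | h
    · left
      rw [eq_bot_iff]
      intro v hv
      obtain ⟨r, rfl⟩ := hπs v
      have : r ∈ N := hv
      rw [h] at this
      rw [AddSubgroup.mem_bot, hπM]; exact this
    · right
      rw [eq_top_iff]
      intro v _
      obtain ⟨r, rfl⟩ := hπs v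
      rw [← hN, h]; trivial
  have hVne : ∃ r : R, π r ≠ 0 := by
    by_contra hcon
    push Not at hcon
    apply hMt
    rw [eq_top_iff]
    intro r _
    exact (hπM r).1 (hcon r)
  have hexp : ∀ v : V, p • v = 0 := by
    let U : AddSubgroup V := { carrier := {v | p • v = 0}
                               add_mem' := fun {a b} ha hb => by
                                 show p • (a + b) = 0
                                 rw [smul_add, show p • a = 0 from ha, show p • b = 0 from hb, add_zero]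
                               zero_mem' := smul_zero _
                               neg_mem' := fun {a} ha => by
                                 show p • (-a) = 0
                                 rw [smul_neg, show p • a = 0 from ha, neg_zero] }
    rcases hVirr U (fun g v hv => by
      show p • (ρ g v) = 0
      rw [← map_nsmul, show p • v = 0 from hv, map_zero]) with h | h
    · exfalso
      obtain ⟨r, hr⟩ := hVne
      obtain ⟨k, hk⟩ := hR r
      have hex : ∃ k, p ^ k • π r = 0 := ⟨k, by rw [← hπp, hk, hπ1]⟩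
      have hpos : Nat.find hex ≠ 0 := by
        intro h0
        have h1 := Nat.find_spec hex
        rw [h0, pow_zero, one_nsmul] at h1
        exact hr h1
      obtain ⟨m, hm⟩ := Nat.exists_eq_succ_of_ne_zero hpos
      have h1 := Nat.find_spec hex
      rw [hm, Nat.succ_eq_add_one, pow_succ, mul_comm, mul_nsmul'] at h1
      have h2 : p ^ m • π r ∈ U := h1
      rw [h, AddSubgroup.mem_bot] at h2
      exact Nat.find_min hex (by omega : m < Nat.find hex) h2
    · intro v
      have : v ∈ U := by rw [h]; trivial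
      exact this
  have hquad : ∀ z : X, (∀ r : R, (r⁻¹ * z • r)⁻¹ * z • (r⁻¹ * z • r) ∈ M) → ∀ v, ρ z (ρ z v - v) = ρ z v - v := by
    intro z hz v
    obtain ⟨r, rfl⟩ := hπs v
    have h1 := (hπM _).2 (hz r)
    rw [hπm, hπi, ← hρ, hπm, hπi, ← hρ] at h1
    have h2 : ρ z (π r) - π r = -π r + ρ z (π r) := by abel
    rw [h2]
    exact (eq_of_sub_eq_zero (by rw [← h1]; abel))
  -- triviality criterion
  have hpow : ∀ h : X, (∀ m ∈ M, h • m = m) → (∀ v, ρ h v = v) → ∃ a, h ^ (p ^ a) = 1 := by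
    intro h h1 h2
    obtain ⟨a, ha⟩ := IsPGroup.iff_card.1 hR
    refine ⟨a, hfaith _ fun r => ?_⟩
    have h3 : r⁻¹ * h • r ∈ M := by
      rw [← hπM, hπm, hπi, ← hρ, h2, neg_add_cancel]
    have key : ∀ n : ℕ, h ^ n • r = r * (r⁻¹ * h • r) ^ n := by
      intro n
      induction n with
      | zero => simp
      | succ n ih =>
        rw [pow_succ', mul_smul, ih, smul_mul', h1 _ (M.pow_mem h3 n), pow_succ', ← mul_assoc, mul_inv_cancel_left]
    rw [key, ← ha, pow_card_eq_one', mul_one]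
  -- the involution
  have hVnp : ∃ g, ∀ n, ρ (g ^ (p ^ n)) ≠ 1 := by
    obtain ⟨g, hg⟩ := hnp
    refine ⟨g, fun n hn => ?_⟩
    obtain ⟨k, hk⟩ := hmin M hMt hMinv g
    obtain ⟨a, ha⟩ := hpow (g ^ (p ^ (n + k))) (fun m hm => by
      have h1 : ∀ j : ℕ, (g ^ p ^ k) ^ j • m = m := by
        intro j
        induction j with
        | zero => simp
        | succ j ih => rw [pow_succ, mul_smul, hk m hm, ih]
      rw [pow_add, mul_comm, pow_mul]; exact h1 _) (fun v => by
      rw [pow_add, pow_mul, map_pow, hn, one_pow]; rfl)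
    rw [← pow_mul, ← pow_add] at ha
    exact hg _ ha
  obtain ⟨t, ht2⟩ := exists_invol hp2 hexp ρ hgen (hquad x hqx) (hquad y hqy) hVnp
  have ht : t * t = 1 := by rw [← sq, ← ht2, pow_orderOf_eq_one]
  have ht1 : t ≠ 1 := by
    intro h
    rw [h, orderOf_one] at ht2
    omega
  have htriv : ∀ N : Subgroup R, N ≠ ⊤ → (∀ g : X, ∀ r ∈ N, g • r ∈ N) → ∀ r ∈ N, t • r = r := by
    intro N h1 h2 r hr
    obtain ⟨k, hk⟩ := hmin N h1 h2 t
    have h3 := hk r hr
    rwa [pow_pk hp2 ht] at h3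
  have htM := htriv M hMt hMinv
  have hρt : ρ t ≠ 1 := by
    intro h
    obtain ⟨a, ha⟩ := hpow t htM (fun v => by rw [h]; rfl)
    rw [pow_pk hp2 ht] at ha
    exact ht1 ha
  obtain ⟨A1, A2, A3⟩ := irr_data hp2 hexp ρ hgen (hquad x hqx) (hquad y hqy) hVirr ht hρt
  -- M is central
  have hcenM : ∀ m ∈ M, ∀ r : R, m * r = r * m := by
    have hCt : Subgroup.centralizer (M : Set R) = ⊤ := by
      by_contra hne
      have hCinv : ∀ g : X, ∀ r ∈ Subgroup.centralizer (M : Set R), g • r ∈ Subgroup.centralizer (M : Set R) := by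
        intro g r hr
        rw [Subgroup.mem_centralizer_iff] at hr ⊢
        intro m hm
        have h1 := hr (g⁻¹ • m) (hMinv _ _ hm)
        have h2 := congrArg (fun z => g • z) h1
        simp only [smul_mul', smul_inv_smul] at h2
        exact h2
      have htC := htriv _ hne hCinv
      apply ht1
      apply hfaith
      intro r
      have h1 : r⁻¹ * t • r ∈ Subgroup.centralizer (M : Set R) := by
        rw [Subgroup.mem_centralizer_iff]
        intro m hm
        have h2 : r * m * r⁻¹ ∈ M := hMn.conj_mem m hm r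
        have h3 := htM _ h2
        rw [smul_mul', smul_mul', smul_inv', htM m hm] at h3
        calc m * (r⁻¹ * t • r) = r⁻¹ * (r * m * r⁻¹) * t • r := by group
          _ = r⁻¹ * (t • r * m * (t • r)⁻¹) * t • r := by rw [h3]
          _ = r⁻¹ * t • r * m := by group
      have h2 := htC _ h1
      have h3 : t • (r⁻¹ * t • r) = (r⁻¹ * t • r)⁻¹ := by
        rw [smul_mul', smul_inv', ← mul_smul, ht, one_smul]; group
      rw [h3] at h2
      have h4 : (r⁻¹ * t • r) * (r⁻¹ * t • r) = 1 := by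
        nth_rewrite 1 [← h2]; group
      have h5 := sq_one hp2 hR h4
      exact (inv_mul_eq_one.1 h5).symm
    intro m hm r
    have : r ∈ Subgroup.centralizer (M : Set R) := by rw [hCt]; trivial
    exact Subgroup.mem_centralizer_iff.1 this m hm
  have hc : ∀ r s z : R, ⁅r, s⁆ * z = z * ⁅r, s⁆ := fun r s z => hcenM _ (hab r s) z
  have hbrM : ∀ a m b m' : R, m ∈ M → m' ∈ M → ⁅a * m, b * m'⁆ = ⁅a, b⁆ := by
    intro a m b m' hm hm'
    rw [br_mul_left hc, br_mul_right hc, br_mul_right hc]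
    have e1 : ∀ s : R, ⁅m, s⁆ = 1 := fun s => commutatorElement_eq_one_iff_mul_comm.2 (hcenM m hm s)
    have e2 : ∀ s : R, ⁅s, m'⁆ = 1 := fun s => commutatorElement_eq_one_iff_mul_comm.2 (hcenM m' hm' s).symm
    rw [e1, e2, e2, mul_one, mul_one, mul_one]
  have hbr : ∀ a a' b b' : R, π a = π a' → π b = π b' → ⁅a, b⁆ = ⁅a', b'⁆ := by
    intro a a' b b' h1 h2
    have e1 : a'⁻¹ * a ∈ M := by rw [← hπM, hπm, hπi, h1, neg_add_cancel]
    have e2 : b'⁻¹ * b ∈ M := by rw [← hπM, hπm, hπi, h2, neg_add_cancel]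
    have e3 := hbrM a' _ b' _ e1 e2
    rw [mul_inv_cancel_left, mul_inv_cancel_left] at e3
    exact e3
  -- elements commuting with t
  have hcomm : ∀ z : X, ∃ c : X, c * t = t * c ∧ (∀ m ∈ M, c • m = z • m) ∧ ρ c = ρ z := by
    intro z
    set w := t * z * t * z⁻¹ with hw
    have hwM : ∀ m ∈ M, w • m = m := by
      intro m hm
      rw [hw, mul_smul, mul_smul, mul_smul]
      rw [htM _ (hMinv _ _ hm), smul_inv_smul, htM m hm]
    have hwV : ∀ v, ρ w v = v := by
      intro v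
      rw [hw, map_mul, map_mul, map_mul]
      show ρ t (ρ z (ρ t (ρ z⁻¹ v))) = v
      rw [A1, A1, map_neg, neg_neg]
      have : (ρ z * ρ z⁻¹) v = v := by rw [← map_mul, mul_inv_cancel, map_one]; rfl
      exact this
    obtain ⟨a, ha⟩ := hpow w hwM hwV
    have hodd : Odd (p ^ a) := ((hpp.eq_two_or_odd').resolve_left hp2).pow
    obtain ⟨m, hm⟩ := hodd
    have htt : t⁻¹ = t := inv_eq_of_mul_eq_one_left ht
    have htw : t * w * t = w⁻¹ := by
      rw [hw]
      have e1 : t * (t * z * t * z⁻¹) * t = (t * t) * z * t * z⁻¹ * t := by group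
      rw [e1, ht, mul_inv_rev, mul_inv_rev, mul_inv_rev, inv_inv, htt]
      group
    have htw' : ∀ n : ℕ, t * w ^ n * t = (w ^ n)⁻¹ := by
      intro n
      induction n with
      | zero => simp [ht]
      | succ n ih =>
        have : t * w ^ (n + 1) * t = (t * w ^ n * t) * (t * w * t) := by
          rw [pow_succ]
          calc t * (w ^ n * w) * t = t * w ^ n * 1 * w * t := by group
            _ = t * w ^ n * (t * t) * w * t := by rw [ht]
            _ = _ := by group
        rw [this, ih, htw, ← mul_inv_rev, ← pow_succ']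
    refine ⟨w ^ (m + 1) * z, ?_, ?_, ?_⟩
    · -- c t c⁻¹ = t
      have e1 : z * t = t * w * z := by
        rw [hw]
        calc z * t = 1 * z * t := by group
          _ = (t * t) * z * t := by rw [ht]
          _ = t * (t * z * t * z⁻¹) * z := by group
      have e2 : w ^ (m + 1) * t = t * (w ^ (m + 1))⁻¹ := by
        rw [← htw' (m + 1)]
        calc w ^ (m + 1) * t = 1 * w ^ (m + 1) * t := by group
          _ = (t * t) * w ^ (m + 1) * t := by rw [ht]
          _ = _ := by group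
      have e3 : (w ^ (m + 1))⁻¹ * w = w ^ (m + 1) := by
        rw [inv_mul_eq_iff_eq_mul, ← pow_add]
        have : m + 1 + (m + 1) = p ^ a + 1 := by omega
        rw [this, pow_succ, ha, one_mul]
      calc w ^ (m + 1) * z * t = w ^ (m + 1) * (z * t) := by group
        _ = (w ^ (m + 1) * t) * w * z := by rw [e1]; group
        _ = t * ((w ^ (m + 1))⁻¹ * w) * z := by rw [e2]; group
        _ = t * (w ^ (m + 1) * z) := by rw [e3]; group
    · intro r hr
      rw [mul_smul]
      have h1 : ∀ j : ℕ, ∀ m ∈ M, w ^ j • m = m := by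
        intro j m hm
        induction j with
        | zero => simp
        | succ j ih => rw [pow_succ, mul_smul, hwM m hm, ih]
      exact h1 _ _ (hMinv _ _ hr)
    · rw [map_mul, map_pow]
      have : ρ w = 1 := by ext v; exact hwV v
      rw [this, one_pow, one_mul]
  -- commutators of [R, x] are trivial
  let D : X → R → R := fun g r => r⁻¹ * g • r
  have hD : ∀ g r, D g r = r⁻¹ * g • r := fun g r => rfl
  have hπD : ∀ g r, π (D g r) = ρ g (π r) - π r := fun g r => by
    rw [hD, hπm, hπi, ← hρ]; abel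
  have hDq : ∀ g r, D g (g • r) = g • D g r := fun g r => by rw [hD, hD, smul_mul', smul_inv']
  have hJ : (∀ r s, ⁅D x r, D x s⁆ = 1) ∧ (∀ r s, ⁅D y r, D y s⁆ = 1) := by
    let 𝒮 : Set (Subgroup R) := {Y | Y ≤ M ∧ (∀ g : X, ∀ z ∈ Y, g • z ∈ Y) ∧ (∀ r s, ⁅D x r, D x s⁆ ∈ Y) ∧
      (∀ r s, ⁅D y r, D y s⁆ ∈ Y)}
    have hne : 𝒮.Nonempty := ⟨M, le_rfl, hMinv, fun r s => hab _ _, fun r s => hab _ _⟩
    obtain ⟨Y, hYm⟩ := (Set.toFinite 𝒮).exists_minimal hne
    obtain ⟨⟨hYM, hYinv, hYx, hYy⟩, hYmin⟩ := hYm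
    set Y₁ := Subgroup.closure {w : R | ∃ z ∈ Y, ∃ g : X, w = z⁻¹ * g • z} with hY₁
    have hY₁Y : Y₁ ≤ Y := by
      rw [hY₁, Subgroup.closure_le]
      rintro _ ⟨z, hz, g, rfl⟩
      exact Y.mul_mem (Y.inv_mem hz) (hYinv g z hz)
    have hY₁inv : ∀ g : X, ∀ z ∈ Y₁, g • z ∈ Y₁ := by
      intro g z hz
      induction hz using Subgroup.closure_induction with
      | mem w hw =>
        obtain ⟨z, hz, h, rfl⟩ := hw
        refine Subgroup.subset_closure ⟨g • z, hYinv g z hz, g * h * g⁻¹, ?_⟩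
        rw [smul_mul', smul_inv', mul_smul, mul_smul, inv_smul_smul]
      | one => rw [smul_one]; exact Subgroup.one_mem _
      | mul a b _ _ ha hb => rw [smul_mul']; exact Subgroup.mul_mem _ ha hb
      | inv a _ ha => rw [smul_inv']; exact Subgroup.inv_mem _ ha
    have step : ∀ a b : X, (∀ v, ρ b (ρ b v - v) = ρ b v - v) →
        (∀ v, ∃ u, ρ b v - v = ρ b (ρ a u - u) - (ρ a u - u)) → (∀ r s, ⁅D a r, D a s⁆ ∈ Y) →
        ∀ r s, ⁅D b r, D b s⁆ ∈ Y₁ := by
      intro a b hqb hab' haY r s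
      obtain ⟨u₀, hu₀⟩ := hab' (π r)
      obtain ⟨v₀, hv₀⟩ := hab' (π s)
      obtain ⟨r', rfl⟩ := hπs u₀
      obtain ⟨s', rfl⟩ := hπs v₀
      set u := D a r' with hu
      set v := D a s' with hv
      have e1 : ⁅D b r, D b s⁆ = ⁅D b u, D b v⁆ := by
        apply hbr
        · rw [hπD, hπD, hu₀, hu, hπD]
        · rw [hπD, hπD, hv₀, hv, hπD]
      rw [e1]
      set u' := D b u with hu'
      set v' := D b v with hv'
      have hbu : b • u = u * u' := by rw [hu', hD, mul_inv_cancel_left]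
      have hbv : b • v = v * v' := by rw [hv', hD, mul_inv_cancel_left]
      have hbi : ∀ w : R, π (b⁻¹ • w) = π (w * (D b w)⁻¹) := by
        intro w
        rw [hπm, hπi, hπD, ← hρ]
        have e2 : ρ b (π w - (ρ b (π w) - π w)) = π w := by
          rw [map_sub, hqb]; abel
        have e3 : ρ b⁻¹ (ρ b (π w - (ρ b (π w) - π w))) = π w - (ρ b (π w) - π w) := by
          have : (ρ b⁻¹ * ρ b) (π w - (ρ b (π w) - π w)) = π w - (ρ b (π w) - π w) := by
            rw [← map_mul, inv_mul_cancel, map_one]; rfl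
          exact this
        rw [e2] at e3
        rw [e3]; abel
      have e := haY r' s'
      rw [← hu, ← hv] at e
      have hcs : ∀ (g : X) (a b : R), g • ⁅a, b⁆ = ⁅g • a, g • b⁆ := by
        intro g a b
        simp only [commutatorElement_def, smul_mul', smul_inv']
      have e2 : (b • ⁅u, v⁆) * (b⁻¹ • ⁅u, v⁆) = ⁅u, v⁆ * ⁅u, v⁆ * (⁅u', v'⁆ * ⁅u', v'⁆) := by
        rw [hcs, hcs, hbu, hbv, hbr (b⁻¹ • u) (u * u'⁻¹) (b⁻¹ • v) (v * v'⁻¹) (hbi u) (hbi v)]
        exact br_quad hc u u' v v'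
      have e3 : ⁅u', v'⁆ * ⁅u', v'⁆ = (⁅u, v⁆⁻¹ * b • ⁅u, v⁆) * (⁅u, v⁆⁻¹ * b⁻¹ • ⁅u, v⁆) := by
        have h1 : ⁅u, v⁆⁻¹ * (b⁻¹ • ⁅u, v⁆) = (b⁻¹ • ⁅u, v⁆) * ⁅u, v⁆⁻¹ := by
          have := hc u v (b⁻¹ • ⁅u, v⁆)
          rw [inv_mul_eq_iff_eq_mul, ← mul_assoc, this, mul_inv_cancel_right]
        calc ⁅u', v'⁆ * ⁅u', v'⁆ = (⁅u, v⁆ * ⁅u, v⁆)⁻¹ * (⁅u, v⁆ * ⁅u, v⁆ * (⁅u', v'⁆ * ⁅u', v'⁆)) := by group
          _ = (⁅u, v⁆ * ⁅u, v⁆)⁻¹ * ((b • ⁅u, v⁆) * (b⁻¹ • ⁅u, v⁆)) := by rw [e2]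
          _ = ⁅u, v⁆⁻¹ * (⁅u, v⁆⁻¹ * (b • ⁅u, v⁆ * b⁻¹ • ⁅u, v⁆)) := by group
          _ = ⁅u, v⁆⁻¹ * ((b • ⁅u, v⁆ * b⁻¹ • ⁅u, v⁆) * ⁅u, v⁆⁻¹) := by
              congr 1
              have := hc u v (b • ⁅u, v⁆ * b⁻¹ • ⁅u, v⁆)
              rw [inv_mul_eq_iff_eq_mul, ← mul_assoc, this, mul_inv_cancel_right]
          _ = (⁅u, v⁆⁻¹ * b • ⁅u, v⁆) * ((b⁻¹ • ⁅u, v⁆) * ⁅u, v⁆⁻¹) := by simp only [mul_assoc]
          _ = _ := by rw [h1]
      apply sq_mem hp2 hR
      rw [e3]
      exact Subgroup.mul_mem _ (Subgroup.subset_closure ⟨_, e, b, rfl⟩) (Subgroup.subset_closure ⟨_, e, b⁻¹, rfl⟩)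
    have hmem : Y₁ ∈ 𝒮 := ⟨hY₁Y.trans hYM, hY₁inv, step y x (hquad x hqx) A3 hYy, step x y (hquad y hqy) A2 hYx⟩
    have heq : Y₁ = Y := le_antisymm hY₁Y (hYmin hmem hY₁Y)
    have hYb : Y = ⊥ := by
      by_contra hYb
      refine act_lt hR hYb hYinv (fun g => ?_) heq
      obtain ⟨k, hk⟩ := hmin M hMt hMinv g
      exact ⟨k, fun z hz => hk z (hYM hz)⟩
    rw [hYb] at hYx hYy
    exact ⟨fun r s => Subgroup.mem_bot.1 (hYx r s), fun r s => Subgroup.mem_bot.1 (hYy r s)⟩
  -- the subgroup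
  let R₁ : Subgroup R := Subgroup.closure {r | t • r = r⁻¹}
  have hR₁ : ∀ c : X, c * t = t * c → ∀ r ∈ R₁, c • r ∈ R₁ := by
    intro c hct r hr
    induction hr using Subgroup.closure_induction with
    | mem w hw =>
      refine Subgroup.subset_closure ?_
      show t • c • w = (c • w)⁻¹
      rw [← mul_smul, ← hct, mul_smul, show t • w = w⁻¹ from hw, smul_inv']
    | one => rw [smul_one]; exact Subgroup.one_mem _
    | mul a b _ _ ha hb => rw [smul_mul']; exact Subgroup.mul_mem _ ha hb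
    | inv a _ ha => rw [smul_inv']; exact Subgroup.inv_mem _ ha
  have hquadR : ∀ z c : X, (∀ v, ρ z (ρ z v - v) = ρ z v - v) → (∀ r s, ⁅D z r, D z s⁆ = 1) → c * t = t * c →
      ρ c = ρ z → ∀ r ∈ R₁, c • (r⁻¹ * c • r) = r⁻¹ * c • r := by
    intro z c hqz hJz hct hcz
    have hJc : ∀ r s, ⁅D c r, D c s⁆ = 1 := by
      intro r s
      rw [hbr (D c r) (D z r) (D c s) (D z s) (by rw [hπD, hπD, hcz]) (by rw [hπD, hπD, hcz])]
      exact hJz r s
    have hgen1 : ∀ a : R, t • a = a⁻¹ → c • D c a = D c a := by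
      intro a ha
      set b := D c a with hb
      have hca : c • a = a * b := by rw [hb, hD, mul_inv_cancel_left]
      set q := b⁻¹ * c • b with hq
      have hqM : q ∈ M := by
        rw [← hπM, hq, hπm, hπi, ← hρ, hb, hπD, hcz, hqz, neg_add_cancel]
      have hcb : c • b = b * q := by rw [hq, mul_inv_cancel_left]
      have htb : t • b = a * b⁻¹ * a⁻¹ := by
        rw [hb, hD, smul_mul', smul_inv', ha, inv_inv, ← mul_smul, ← hct, mul_smul, ha, smul_inv', hca]
        group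
      clear_value b q
      have hv : c • c • a = a * b * (b * q) := by rw [hca, smul_mul', hca, hcb]
      have htv : t • (c • c • a) = (c • c • a)⁻¹ := by
        rw [← mul_smul, ← hct, mul_smul, ← mul_smul t c, ← hct, mul_smul, ha, smul_inv', smul_inv']
      rw [hv, smul_mul', smul_mul', smul_mul', htM q hqM, htb, ha] at htv
      have e1 : a⁻¹ * (a * b⁻¹ * a⁻¹) * ((a * b⁻¹ * a⁻¹) * q) = (b⁻¹ * b⁻¹ * a⁻¹) * q := by group
      have e2 : (a * b * (b * q))⁻¹ = q⁻¹ * (b⁻¹ * b⁻¹ * a⁻¹) := by group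
      rw [e1, e2, ← hcenM q hqM] at htv
      have e3 := mul_right_cancel htv
      have e4 : q * q = 1 := by nth_rewrite 1 [e3]; group
      have e5 := sq_one hp2 hR e4
      rw [hcb, e5, mul_one]
    intro r hr
    show c • D c r = D c r
    induction hr using Subgroup.closure_induction with
    | mem w hw => exact hgen1 w hw
    | one => rw [hD, smul_one, inv_one, one_mul, smul_one]
    | mul r s _ _ hr hs =>
      have h1 : D c (r * s) = s⁻¹ * D c r * s * D c s := by
        rw [hD, hD, hD, smul_mul']; group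
      have hcs : c • s = s * D c s := by rw [hD, mul_inv_cancel_left]
      have h2 : s⁻¹ * D c r * s = D c r * ⁅(D c r)⁻¹, s⁻¹⁆ := by
        rw [commutatorElement_def]; group
      have h3 : D c s * (s⁻¹ * D c r * s) = (s⁻¹ * D c r * s) * D c s := by
        rw [h2]
        have h4 := hcenM _ (hab (D c r)⁻¹ s⁻¹)
        have h5 := commutatorElement_eq_one_iff_mul_comm.1 (hJc r s)
        generalize ⁅(D c r)⁻¹, s⁻¹⁆ = K at h4 ⊢
        calc D c s * (D c r * K) = (D c s * D c r) * K := (mul_assoc _ _ _).symm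
          _ = (D c r * D c s) * K := by rw [h5]
          _ = D c r * (D c s * K) := mul_assoc _ _ _
          _ = D c r * (K * D c s) := by rw [h4 (D c s)]
          _ = D c r * K * D c s := (mul_assoc _ _ _).symm
      rw [h1, smul_mul', smul_mul', smul_mul', smul_inv', hr, hs, hcs]
      have h6 : (s * D c s)⁻¹ * D c r * (s * D c s) * D c s = (D c s)⁻¹ * ((s⁻¹ * D c r * s) * D c s) * D c s := by group
      rw [h6, ← h3, inv_mul_cancel_left, h3]
    | inv r _ hr =>
      have hcr : c • r = r * D c r := by rw [hD, mul_inv_cancel_left]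
      have h1 : D c r⁻¹ = r * (D c r)⁻¹ * r⁻¹ := by
        rw [hD c r⁻¹, smul_inv', hcr]; group
      rw [h1, smul_mul', smul_mul', smul_inv', smul_inv', hr, hcr]; group
  obtain ⟨c, hct, hcM, hcz⟩ := hcomm x
  obtain ⟨d, hdt, hdM, hdz⟩ := hcomm y
  refine ⟨R₁, c, d, hR₁ c hct, hR₁ d hdt, hquadR x c (hquad x hqx) hJ.1 hct hcz, hquadR y d (hquad y hqy) hJ.2 hdt hdz, ?_⟩
  have hword : ∀ g : X, ∃ h ∈ Subgroup.closure {c, d}, ρ h = ρ g := by
    intro g
    have hg : g ∈ Subgroup.closure ({x, y} : Set X) := by rw [hgen]; trivial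
    induction hg using Subgroup.closure_induction with
    | mem z hz =>
      rcases hz with rfl | hz
      · exact ⟨c, Subgroup.subset_closure (Set.mem_insert _ _), hcz⟩
      · rw [Set.mem_singleton_iff] at hz; subst hz
        exact ⟨d, Subgroup.subset_closure (Set.mem_insert_of_mem _ (Set.mem_singleton _)), hdz⟩
    | one => exact ⟨1, Subgroup.one_mem _, rfl⟩
    | mul a b _ _ ha hb =>
      obtain ⟨h1, h1m, e1⟩ := ha
      obtain ⟨h2, h2m, e2⟩ := hb
      exact ⟨h1 * h2, Subgroup.mul_mem _ h1m h2m, by rw [map_mul, map_mul, e1, e2]⟩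
    | inv a _ ha =>
      obtain ⟨h1, h1m, e1⟩ := ha
      refine ⟨h1⁻¹, Subgroup.inv_mem _ h1m, ?_⟩
      have e2 : ρ h1⁻¹ * ρ h1 = 1 := by rw [← map_mul, inv_mul_cancel, map_one]
      have e3 : ρ a * ρ a⁻¹ = 1 := by rw [← map_mul, mul_inv_cancel, map_one]
      calc ρ h1⁻¹ = ρ h1⁻¹ * (ρ a * ρ a⁻¹) := by rw [e3, mul_one]
        _ = (ρ h1⁻¹ * ρ h1) * ρ a⁻¹ := by rw [e1, mul_assoc]
        _ = ρ a⁻¹ := by rw [e2, one_mul]
  obtain ⟨h, hh, hht⟩ := hword t
  refine ⟨h, hh, fun k => ?_⟩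
  by_contra hcon
  push Not at hcon
  obtain ⟨r, hr⟩ := hVne
  have h1 : D t r ∈ R₁ := by
    refine Subgroup.subset_closure ?_
    show t • D t r = (D t r)⁻¹
    rw [hD, smul_mul', smul_inv', ← mul_smul, ht, one_smul]; group
  have h2 := hcon _ h1
  have h3 : ρ (h ^ p ^ k) = ρ t := by rw [map_pow, hht, ← map_pow, pow_pk hp2 ht]
  have h4 := congrArg π h2
  rw [← hρ, h3, A1, hπD, A1] at h4
  have h5 : (4 : ℕ) • π r = 0 := by
    have : (4 : ℕ) • π r = -(-π r - π r) - (-π r - π r) := by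
      rw [show (4 : ℕ) = 1 + 1 + 1 + 1 from rfl]
      simp only [add_smul, one_smul]; abel
    rw [this, h4, sub_self]
  have hco : Nat.Coprime 4 p := by
    have : Nat.Coprime (2 ^ 2) p := Nat.Coprime.pow_left 2 ((Nat.coprime_primes Nat.prime_two hpp).2 (Ne.symm hp2))
    exact this
  have h6 : addOrderOf (π r) ∣ Nat.gcd 4 p := Nat.dvd_gcd (addOrderOf_dvd_of_nsmul_eq_zero h5)
    (addOrderOf_dvd_of_nsmul_eq_zero (hexp _))
  rw [hco] at h6
  exact hr (AddMonoid.addOrderOf_eq_one_iff.1 (Nat.dvd_one.1 h6))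

end main

end Cfsg.Agent.H1.Ps
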