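import Mathlib
import Cfsg.Agent.H1_QdB
import Cfsg.Agent.H1_FusW2
import Cfsg.Agent.H27_LG2
import Cfsg.Agent.H27_LG3

/-! Characteristic functors with the quadratic element condition. -/

set_option autoImplicit false
set_option linter.all false
universe u

namespace Cfsg.Agent.H1.QdA

open Cfsg Cfsg.FusionSystem Cfsg.Agent.H27.Fus Cfsg.Agent.H27.Grp Cfsg.Agent.H1.FusW

theorem pc_mono {G : Type*} [Group G] {p n : ℕ} {H K : Subgroup G} (h : H ≤ K) :
    powerClosure p n H ≤ powerClosure p n K := by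
  unfold powerClosure
  apply Subgroup.closure_mono
  rintro _ ⟨x, hx, rfl⟩
  exact ⟨x, h hx, rfl⟩

theorem pc_tt {Ω : Type*} [Group Ω] {S : Subgroup Ω} {G : Type*} [Group G] (ι : S →* G) {p n : ℕ} [hp : Fact p.Prime] {H : Subgroup Ω}
    {K : Subgroup G} (hHS : H ≤ S) (h : ∀ x ∈ H, tt ι x ∈ K) : ∀ x ∈ powerClosure p n H, tt ι x ∈ powerClosure p n K := by
  intro x hx
  have hle : powerClosure p n H ≤ H := pc_le n H
  unfold powerClosure at hx
  induction hx using Subgroup.closure_induction with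
  | mem x hx =>
    obtain ⟨y, hy, rfl⟩ := hx
    have h1 : ∀ k : ℕ, tt ι (y ^ k) = (tt ι y) ^ k := by
      intro k
      induction k with
      | zero => simp [tt_one]
      | succ k ih => rw [pow_succ, tt_mul ι (S.pow_mem (hHS hy) k) (hHS hy), ih, pow_succ]
    rw [h1]
    exact Subgroup.subset_closure ⟨_, h y hy, rfl⟩
  | one => rw [tt_one]; exact Subgroup.one_mem _
  | mul a b ha hb iha ihb =>
    rw [tt_mul ι (hHS (hle ha)) (hHS (hle hb))]
    exact Subgroup.mul_mem _ iha ihb
  | inv a ha iha =>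
    rw [tt_inv ι (hHS (hle ha))]
    exact Subgroup.inv_mem _ iha

theorem functor_aux {p : ℕ} [Fact p.Prime] (W : ∀ (Q : Type u) [Group Q], Subgroup Q)
    (hW1 : ∀ (Q : Type u) [Group Q] [Finite Q], IsPGroup p Q → Nontrivial Q → W Q ≠ ⊥)
    (hW2 : ∀ (Q R : Type u) [Group Q] [Group R] [Finite Q], IsPGroup p Q → ∀ φ : Q ≃* R, (W Q).map φ.toMonoidHom = W R)
    (hWZ : ∀ (Q : Type u) [Group Q] [Finite Q], IsPGroup p Q → Subgroup.center Q ≤ W Q)
    (hq : ∀ (G : Type u) [Group G] [Finite G] (P : Sylow p G), ¬ (((W ↥(P : Subgroup G)).map (P : Subgroup G).subtype : Subgroup G)).Normal → ∃ g : G, g ∈ (P : Subgroup G) ∧ g ∉ Cfsg.pCore p G ∧ ⁅⁅Subgroup.center ↥(Cfsg.pCore p G) |>.map (Cfsg.pCore p G).subtype, Subgroup.zpowers g⁆, Subgroup.zpowers g⁆ = ⊥) :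
    ∀ {Ω : Type u} [Group Ω] (S : Subgroup Ω) [Finite S] (F : FusionSystem S), IsPGroup p S → F.IsSaturated p →
      ∀ z, z ∈ powerClosure p 1 (centralizerIn S S) → (∀ P f, Nmap F (Wm W S) P f → z ∈ P → f z = z) →
        ∀ P f, Map F P f → z ∈ P → f z = z := by
  apply sat_induction
  intro Ω _ S _ F hS hF IH1 IH2 z hzp hz
  have hzZ := pc_le 1 _ hzp
  have hzS : z ∈ S := cen_le hzZ
  have hzc : ∀ s ∈ S, s * z * s⁻¹ = z := fun s hs => by rw [cen_comm hzZ hs, mul_inv_cancel_right]
  have hmem : z ∈ Wm W S := by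
    refine mem_Wm.2 ⟨hzS, hWZ S hS ?_⟩
    rw [Subgroup.mem_center_iff]
    intro g
    apply Subtype.ext
    exact mul_inv_eq_iff_eq_mul.1 (hzc g g.2)
  have hN := Wm_normal hS hW2 F
  have key : ∀ P f, Map F P f → Cz F z P f := by
    refine reduce hS hF (subCls_Cz F z) (Wm W) (fun R _ => Wm_le R) (fun R f hf => Wm_im hS hW2 hf)
      (fun R hR _ hRb => Wm_ne_bot hS hW1 hR hRb) ?_ ?_ ?_ ?_
    · intro P f hf
      have hf' := hf
      obtain ⟨e1, e2, g, e3, e4, e5⟩ := hf
      have hle : Subgroup.zpowers z ≤ Wm W S := by rw [Subgroup.zpowers_le]; exact hmem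
      refine ⟨g, e3.mono (sup_le_sup_left hle _), e4, ?_⟩
      refine hz (P ⊔ Wm W S) g ⟨?_, fun x hx => hN (e3.mem hx), g, ?_, fun _ _ => rfl, e5⟩ ((le_sup_right : Wm W S ≤ _) hmem)
      · exact e3.le.trans hN
      · rwa [sup_assoc, sup_idem]
    · -- subsystems
      intro R E hRS hE hsub hlt hCR hEN
      have hzR : z ∈ R := hCR (mem_cen.2 ⟨hzS, fun y hy => by
        have := hzc y hy
        nth_rw 2 [← this]; group⟩)
      refine Cz_of_sys hS hRS hE hsub hzR ?_
      have hzpR : z ∈ powerClosure p 1 (centralizerIn R R) := pc_mono (fun x hx => mem_cen.2 ⟨hCR hx, fun y hy => cen_comm hx (hRS hy)⟩) hzp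
      have hcond : ∀ P f, Nmap E (Wm W R) P f → z ∈ P → f z = z := fun P f hf hzP => Cz_fix (hEN P f hf) hzP
      rcases hlt with hlt | hlt
      · haveI : Finite R := finite_of_le hRS
        exact IH1 R E (isPGroup_mono hS hRS) hE (card_lt_of_lt hlt) z hzpR hcond
      · by_cases hRS' : R = S
        · subst hRS'
          exact IH2 E hE hsub hlt z hzpR hcond
        · haveI : Finite R := finite_of_le hRS
          exact IH1 R E (isPGroup_mono hS hRS) hE (card_lt_of_lt (lt_of_le_of_ne hRS hRS')) z hzpR hcond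
    · -- constrained
      intro hcen P f hf
      have hQ := core_normal F
      have hQS : F.core ≤ S := (isNormal_iff.1 hQ).1
      obtain ⟨G, _, ι, hM⟩ := exists_model hS hF hQ hcen
      have hMD := MD.of_model hS hF hQ hcen hM
      haveI := hMD.fin
      obtain ⟨T, hT⟩ := hMD.syl
      have hzQ : z ∈ F.core := by
        apply IsCentric.cen_le hcen
        refine mem_cen.2 ⟨hzS, fun y hy => ?_⟩
        have := hzc y (hQS hy)
        nth_rw 2 [← this]; group
      have h1 : tt ι z ∈ Cfsg.pCore p G := hMD.pcore_eq hS z hzQ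
      have hWT : ∀ y, y ∈ (W ↥(T : Subgroup G)).map (T : Subgroup G).subtype ↔ ∃ x ∈ Wm W S, tt ι x = y := fun y =>
        W_transfer hS hW2 hMD.inj hT
      have hcenT : ∀ x ∈ centralizerIn S S, tt ι x ∈ (T : Subgroup G) ⊓ Subgroup.centralizer ((T : Subgroup G) : Set G) := by
        intro x hx
        refine ⟨by rw [hT]; exact mem_range_iff.2 ⟨x, cen_le hx, rfl⟩, Subgroup.mem_centralizer_iff.2 ?_⟩
        intro y hy
        rw [hT] at hy
        obtain ⟨w, hw, rfl⟩ := mem_range_iff.1 hy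
        rw [← tt_mul ι hw (cen_le hx), ← tt_mul ι (cen_le hx) hw, cen_comm hx hw]
      have hzT : tt ι z ∈ powerClosure p 1 ((T : Subgroup G) ⊓ Subgroup.centralizer ((T : Subgroup G) : Set G)) :=
        pc_tt ι cen_le hcenT z hzp
      have hCG : Subgroup.centralizer ((pCore p G : Subgroup G) : Set G) ≤ pCore p G := by
        intro g hg
        obtain ⟨q, hqQ, rfl⟩ := hMD.cen g (fun q hqQ => ((Subgroup.mem_centralizer_iff.1 hg) _ (hMD.pcore_eq hS q hqQ)).symm)
        exact hMD.pcore_eq hS q hqQ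
      have h4 : ∀ g : G, g * tt ι z = tt ι z * g := by
        refine grp_central W hW2 hq T hCG hzT fun n hn => ?_
        obtain ⟨f, hf, hfn⟩ := hMD.exists_iso (V := Wm W S) (Wm_le S) (n := n) (by
          intro x hx
          exact (hWT _).1 (hn _ ((hWT _).2 ⟨x, hx, rfl⟩)))
        have h2 := hfn z hmem
        rw [hz _ f (nmap_of_iso hf) hmem] at h2
        rw [eq_mul_inv_iff_mul_eq] at h2
        exact h2.symm
      have h5 : P ⊔ Subgroup.zpowers z ≤ S := sup_le hf.le (by rw [Subgroup.zpowers_le]; exact hzS)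
      obtain ⟨g, hg⟩ := hMD.map_real hf
      -- extend
      have hcomm : ∀ s ∈ S, s * z = z * s := fun s hs => by
        have := hzc s hs
        nth_rw 2 [← this]; group
      have hex : ∀ x ∈ P ⊔ Subgroup.zpowers z, ∃ y ∈ S, tt ι y = g * tt ι x * g⁻¹ := by
        intro x hx
        refine Subgroup.closure_induction (p := fun x _ => ∃ y ∈ S, tt ι y = g * tt ι x * g⁻¹)
          (k := (P : Set Ω) ∪ {z}) ?_ ⟨1, S.one_mem, by rw [tt_one]; group⟩ ?_ ?_
          (by
            have : P ⊔ Subgroup.zpowers z ≤ Subgroup.closure ((P : Set Ω) ∪ {z}) := by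
              apply sup_le
              · intro y hy; exact Subgroup.subset_closure (Or.inl hy)
              · rw [Subgroup.zpowers_le]; exact Subgroup.subset_closure (Or.inr rfl)
            exact this hx)
        · rintro x (hx | hx)
          · exact ⟨f x, hf.mem hx, hg x hx⟩
          · rw [Set.mem_singleton_iff] at hx
            subst hx
            exact ⟨x, hzS, by rw [h4 g]; group⟩
        · rintro x y hx hy ⟨a, ha, ha'⟩ ⟨b, hb, hb'⟩
          have hcl : Subgroup.closure ((P : Set Ω) ∪ {z}) ≤ S := by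
            rw [Subgroup.closure_le]
            rintro y (hy | hy)
            · exact hf.le hy
            · rw [Set.mem_singleton_iff] at hy; subst hy; exact hzS
          exact ⟨a * b, S.mul_mem ha hb, by
            rw [tt_mul ι ha hb, ha', hb', tt_mul ι (hcl hx) (hcl hy)]; group⟩
        · rintro x hx ⟨a, ha, ha'⟩
          have hcl : Subgroup.closure ((P : Set Ω) ∪ {z}) ≤ S := by
            rw [Subgroup.closure_le]
            rintro y (hy | hy)
            · exact hf.le hy
            · rw [Set.mem_singleton_iff] at hy; subst hy; exact hzS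
          exact ⟨a⁻¹, S.inv_mem ha, by
            rw [tt_inv ι ha, ha', tt_inv ι (hcl hx)]; group⟩
      choose! k hkS hk using hex
      refine ⟨k, (hMD.real _ k h5 hkS ?_).2 ⟨g, hk⟩, ?_, ?_⟩
      · intro x hx y hy
        apply tt_inj hMD.inj (hkS _ (Subgroup.mul_mem _ hx hy)) (S.mul_mem (hkS _ hx) (hkS _ hy))
        rw [tt_mul ι (hkS _ hx) (hkS _ hy), hk _ (Subgroup.mul_mem _ hx hy), hk _ hx, hk _ hy,
          tt_mul ι (h5 hx) (h5 hy)]; group
      · intro x hx
        have hx' : x ∈ P ⊔ Subgroup.zpowers z := (le_sup_left : P ≤ _) hx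
        apply tt_inj hMD.inj (hkS _ hx') (hf.mem hx)
        rw [hk _ hx', hg x hx]
      · have hx' : z ∈ P ⊔ Subgroup.zpowers z := Subgroup.mem_sup_right (Subgroup.mem_zpowers z)
        apply tt_inj hMD.inj (hkS _ hx') hzS
        rw [hk _ hx', h4 g]; group
    · -- quotient
      intro hsc hQb hQc hV P f hf
      have hQ := core_normal F
      have hQs := IsNormal.strong hQ
      have hQS : F.core ≤ S := (isNormal_iff.1 hQ).1
      obtain ⟨N, hNn, E, hpS', hE, hEs, hcard⟩ := exists_quo hS hF hQs hQb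
      obtain ⟨hd, hm⟩ := isFactorSystem_iff.1 hE
      set θ := QuotientGroup.mk' N with hθ
      haveI : Finite (⊤ : Subgroup (S ⧸ N)) := finite_S' hd
      have hV'n := Wm_normal (W := W) hpS' hW2 E
      have hV'S : Wm W (⊤ : Subgroup (S ⧸ N)) ≤ ⊤ := le_top
      have hQneS : F.core ≠ S := by
        intro h
        apply hQc
        rw [h]; exact top_centric F
      have hV'b : ¬ FusionSystem.preimageAlong θ (Wm W (⊤ : Subgroup (S ⧸ N))) ≤ F.core := by
        intro hle
        have hnb : (⊤ : Subgroup (S ⧸ N)) ≠ ⊥ := by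
          intro hb
          apply hQneS
          apply le_antisymm hQS
          intro x hx
          have h1 : tt θ x ∈ (⊤ : Subgroup (S ⧸ N)) := trivial
          rw [hb, Subgroup.mem_bot, ← tt_one θ, hd.eq_iff hx S.one_mem] at h1
          simpa using h1
        apply Wm_ne_bot hpS' hW1 (le_refl (⊤ : Subgroup (S ⧸ N))) hnb
        rw [eq_bot_iff]
        intro y hy
        obtain ⟨x, hx, rfl⟩ := hd.pre_surj hV'S hy
        have h1 := hle hx
        rw [Subgroup.mem_bot, ← tt_one θ, hd.eq_iff (hQS h1) S.one_mem]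
        simpa using h1
      have hVF := hV _ (preimageAlong_le _ _) (pre_normal hd hV'S hV'n) hV'b
      have hIH := IH1 (⊤ : Subgroup (S ⧸ N)) E hpS' hEs hcard (tt θ z) (pc_tt (K := centralizerIn (⊤ : Subgroup (S ⧸ N)) (⊤ : Subgroup (S ⧸ N))) θ cen_le (fun x hx => mem_cen.2 ⟨Subgroup.mem_top _, fun y hy => by
          obtain ⟨w, hw, rfl⟩ := hd.surj hy
          rw [← tt_mul θ hw (cen_le hx), ← tt_mul θ (cen_le hx) hw, cen_comm hx hw]⟩) z hzp) (by
        intro P' f' hf' hzP'
        obtain ⟨g, hg, hgf⟩ := nmap_lift hE hQs hV'S hV'n hf'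
        have hzpre : z ∈ FusionSystem.preimageAlong θ P' := (mem_preimageAlong θ).2 ⟨hzS, hzP'⟩
        rw [hgf z hzpre, Cz_fix (hVF _ _ hg) hzpre])
      have hzE : tt θ z ∈ E.center := (mem_center_iff hpS' hEs).2 ⟨trivial, hIH⟩
      have hpre := lemmaR3 hS hF hQ hsc hE (IsCentral.normal (center_central E))
      have hzQ : z ∈ F.core := le_core hpre ((mem_preimageAlong θ).2 ⟨hzS, hzE⟩)
      obtain ⟨g, hg, hgf, s, hs, hgs⟩ := hsc P f hf
      refine ⟨g, hg.mono (sup_le_sup_left (by rw [Subgroup.zpowers_le]; exact hzQ) _), hgf, ?_⟩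
      rw [hgs z hzQ, hzc s hs]
  intro P f hf hzP
  exact Cz_fix (key P f hf) hzP


end Cfsg.Agent.H1.QdA
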