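import Mathlib
import Cfsg.Agent.H1_QdB
import Cfsg.Agent.H18_Replace
import Cfsg.Agent.H12_ZJ5
import Cfsg.Agent.H2_ZJ2

/-! Generation by the centraliser of p-th powers of central elements and the normaliser of the Thompson subgroup:
the constrained group case. -/

set_option autoImplicit false
set_option linter.all false

universe u

namespace Cfsg.Agent.H1.QdA

open Cfsg Cfsg.Agent.H27.Grp Cfsg.Agent.H27.Fus Cfsg.Agent.H12.ZJ
open scoped commutatorElement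

section core

variable {G : Type*} [Group G] {p : ℕ} [hp : Fact p.Prime]

theorem J_centralizes {P Z : Subgroup G} [Finite P] (hP : IsPGroup p P) (hZP : Z ≤ P)
    (hZn : ∀ g ∈ P, ∀ z ∈ Z, g * z * g⁻¹ ∈ Z) (hZ : ∀ a ∈ Z, ∀ b ∈ Z, a * b = b * a)
    (hq : ∀ t ∈ P, Qu Z t → ∀ z ∈ Z, t * z = z * t) :
    ∀ x ∈ thompsonSubgroupAOf P, ∀ z ∈ Z, x * z = z * x := by
  classical
  set Z' := Z.subgroupOf P with hZ'
  have hZ'c : ∀ a ∈ Z', ∀ b ∈ Z', a * b = b * a := fun a ha b hb => Subtype.ext (hZ a ha b hb)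
  have key : ∀ A ∈ maxAbelianSubgroups P, ∀ a ∈ A, ∀ z ∈ Z', a * z = z * a := by
    by_contra hcon
    push Not at hcon
    obtain ⟨A₀, hA₀, a₀, ha₀, z₀, hz₀, hne₀⟩ := hcon
    have hfin : {A : Subgroup P | A ∈ maxAbelianSubgroups P ∧ ∃ a ∈ A, ∃ z ∈ Z', a * z ≠ z * a}.Finite := Set.toFinite _
    obtain ⟨A, ⟨hA, a₁, ha₁, z₁, hz₁, hne⟩, hmax⟩ := hfin.exists_maximalFor (fun A => Nat.card (A ⊓ Z' : Subgroup P)) _
      ⟨A₀, hA₀, a₀, ha₀, z₀, hz₀, hne₀⟩
    by_cases hZA : Z' ≤ Subgroup.normalizer (A : Set P)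
    · apply hne
      apply Subtype.ext
      refine hq a₁ a₁.2 ?_ z₁ hz₁
      intro z hz
      have h1 : (⟨z, hZP hz⟩ : P) ∈ Z' := hz
      have h2 : ⁅(⟨z, hZP hz⟩ : P), a₁⁆ ∈ A := by
        have h3 := (Subgroup.mem_normalizer_iff.1 (hZA h1) a₁).1 ha₁
        have h4 : ⁅(⟨z, hZP hz⟩ : P), a₁⁆ = (⟨z, hZP hz⟩ : P) * a₁ * (⟨z, hZP hz⟩ : P)⁻¹ * a₁⁻¹ := by
          rw [commutatorElement_def]
        rw [h4]
        exact A.mul_mem h3 (A.inv_mem ha₁)
      have h5 := H18.Replace.comm_of hA.1 ha₁ h2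
      exact congrArg Subtype.val h5
    · have hAZ : A ≤ Subgroup.normalizer (Z' : Set P) := by
        refine (normalizer_of (L := (⊤ : Subgroup P)) (N := Z') ?_).trans' le_top
        intro g _ x hx
        exact hZn g g.2 x hx
      obtain ⟨A', hA', hlt, hle⟩ := H18.Replace.replacement hP hA (H18.Replace.isMulCommutative_of hZ'c) hAZ hZA
      have h1 : ∀ a ∈ A', ∀ z ∈ Z', a * z = z * a := by
        by_contra h
        push Not at h
        have h2 := hmax ⟨hA', h⟩ (card_le_of_le hlt.le)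
        exact absurd (card_lt_of_lt hlt) (not_lt.2 h2)
      have h2 : Z' ≤ A' := by
        have hM : MaxEA 0 (⊤ : Subgroup P) A' := ⟨le_top, EA_zero.2 hA'.1, fun B _ hB => hA'.2 B (EA_zero.1 hB)⟩
        intro z hz
        exact hM.mem_of trivial (pow_zero _) (fun a ha => h1 a ha z hz)
      exact hZA (h2.trans hle)
  rintro _ ⟨x, hx, rfl⟩ z hz
  have h1 : thompsonSubgroupA P ≤ Subgroup.centralizer (Z' : Set P) := by
    refine sSup_le fun A hA a ha => ?_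
    rw [Subgroup.mem_centralizer_iff]
    intro w hw
    exact (key A hA a ha w hw).symm
  have h2 := (Subgroup.mem_centralizer_iff.1 (h1 hx)) ⟨z, hZP hz⟩ hz
  exact (congrArg Subtype.val h2).symm

end core

section main

variable {G : Type*} [Group G] [Finite G] {p : ℕ} [hp : Fact p.Prime]

theorem grp_gen {S V₀ Q : Subgroup G} (C : Subgroup G → G → Prop)
    (hres : ∀ P R g, C P g → R ≤ P → C R g)
    (hcomp : ∀ P R g h, P ≤ S → (∀ x ∈ P, g * x * g⁻¹ ∈ R) → R ≤ S → (∀ x ∈ R, h * x * h⁻¹ ∈ S) → C P g → C R h → C P (h * g))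
    (hV₀ : V₀ ≤ powerClosure p 1 (S ⊓ Subgroup.centralizer (S : Set G)))
    (hC : ∀ P g, P ≤ S → (∀ x ∈ P, g * x * g⁻¹ ∈ S) → (∀ v ∈ V₀, g * v = v * g) → C P g)
    (hN : ∀ P g, P ≤ S → (∀ x ∈ P, g * x * g⁻¹ ∈ S) → (∀ x ∈ thompsonSubgroupAOf S, g * x * g⁻¹ ∈ thompsonSubgroupAOf S) → C P g)
    (hS : IsSyl p S ⊤) (hQS : Q ≤ S) (hQn : ∀ g, ∀ x ∈ Q, g * x * g⁻¹ ∈ Q) (hQc : ∀ g, (∀ x ∈ Q, g * x = x * g) → g ∈ Q) :
    ∀ (n : ℕ) (L : Subgroup G), Nat.card L = n → S ≤ L → ∀ P g, P ≤ S → g ∈ L → (∀ x ∈ P, g * x * g⁻¹ ∈ S) → C P g := by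
  classical
  intro n
  induction n using Nat.strong_induction_on with
  | _ n ih =>
  intro L hn hSL P₀ g₀ hP₀ hg₀ hgP₀
  by_contra hbad₀
  have hSs : IsSyl p S L := hS.mono hSL le_top
  have hSp : IsPGroup p S := hS.isPGroup
  have hQp : IsPGroup p Q := isPGroup_mono hSp hQS
  have hOL : Q ≤ OL p L := le_OL (hQS.trans hSL) (fun g _ x hx => hQn g x hx) hQp
  have hOLS : OL p L ≤ S := OL_le_syl hSs
  set Z := ZL p L with hZdef
  have hZS : Z ≤ S := inf_le_left.trans hOLS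
  have hSZ : ∀ x ∈ S, (∀ y ∈ S, x * y = y * x) → x ∈ Z := by
    intro x hx hxc
    refine ⟨hOL (hQc x fun y hy => hxc y (hQS hy)), Subgroup.mem_centralizer_iff.2 fun y hy => (hxc y (hOLS hy)).symm⟩
  have hV₀c : V₀ ≤ S ⊓ Subgroup.centralizer (S : Set G) := by
    intro v hv
    have := hV₀ hv
    unfold powerClosure at this
    refine (Subgroup.closure_le (S ⊓ Subgroup.centralizer (S : Set G))).2 ?_ this
    rintro _ ⟨x, hx, rfl⟩
    exact Subgroup.pow_mem _ hx _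
  have hZPle : S ⊓ Subgroup.centralizer (S : Set G) ≤ Z := by
    intro x hx
    exact hSZ x hx.1 fun y hy => ((Subgroup.mem_centralizer_iff.1 hx.2) y hy).symm
  -- maximal bad
  have hfin : {x : Subgroup G × G | x.1 ≤ S ∧ x.2 ∈ L ∧ (∀ y ∈ x.1, x.2 * y * x.2⁻¹ ∈ S) ∧ ¬ C x.1 x.2}.Finite := Set.toFinite _
  obtain ⟨⟨P, b⟩, ⟨hPS, hb, hbP, hbad⟩, hmax⟩ := hfin.exists_maximalFor (fun x => Nat.card x.1) _ ⟨⟨P₀, g₀⟩, hP₀, hg₀, hgP₀, hbad₀⟩
  simp only at hPS hb hbP hbad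
  have hmax : ∀ R c, R ≤ S → c ∈ L → (∀ y ∈ R, c * y * c⁻¹ ∈ S) → Nat.card P < Nat.card R → C R c := by
    intro R c hR hc hcR hlt
    by_contra h
    have h1 := hmax (j := (R, c)) ⟨hR, hc, hcR, h⟩ hlt.le
    exact absurd hlt (not_lt.2 h1)
  have hfS : Finite S := inferInstance
  -- claim
  have claim : ∀ t ∈ S, Qu Z t → b * t * b⁻¹ ∈ S := by
    intro t ht htq
    by_contra htb
    have htb' : t ∉ cj b⁻¹ S := by
      rintro ⟨y, hy, hyt⟩
      apply htb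
      rw [← hyt]
      have : b * (b⁻¹ * y * b⁻¹⁻¹) * b⁻¹ = y := by group
      show b * (b⁻¹ * y * b⁻¹⁻¹) * b⁻¹ ∈ S
      rw [this]; exact hy
    obtain ⟨k, hk⟩ := hSp ⟨t, ht⟩
    have hk' : t ^ p ^ k ∈ cj b⁻¹ S := by
      have : t ^ p ^ k = 1 := congrArg Subtype.val hk
      rw [this]; exact Subgroup.one_mem _
    have hex : ∃ k, t ^ p ^ k ∈ cj b⁻¹ S := ⟨k, hk'⟩
    set m := Nat.find hex with hm
    have hm1 := Nat.find_spec hex
    have hm0 : m ≠ 0 := by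
      intro h0
      rw [← hm, h0, pow_zero, pow_one] at hm1
      exact htb' hm1
    obtain ⟨l, hl⟩ := Nat.exists_eq_succ_of_ne_zero hm0
    set u := t ^ p ^ l with hu
    have huP : u ∈ S := S.pow_mem ht _
    have hub : u ∉ cj b⁻¹ S := Nat.find_min hex (by omega)
    have hup : u ^ p ∈ cj b⁻¹ S := by
      rw [hu, ← pow_mul, ← pow_succ]
      have : l + 1 = m := hl.symm
      rw [this]; exact hm1
    have huq : Qu Z u := htq.pow _
    have hcent : ∀ x ∈ S ⊓ Subgroup.centralizer (S : Set G), ∀ y ∈ cj b⁻¹ S, y * (b⁻¹ * x * b⁻¹⁻¹) = b⁻¹ * x * b⁻¹⁻¹ * y := by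
      rintro x hx _ ⟨y, hy, rfl⟩
      have h1 := (Subgroup.mem_centralizer_iff.1 hx.2) y hy
      show b⁻¹ * y * b⁻¹⁻¹ * (b⁻¹ * x * b⁻¹⁻¹) = b⁻¹ * x * b⁻¹⁻¹ * (b⁻¹ * y * b⁻¹⁻¹)
      calc b⁻¹ * y * b⁻¹⁻¹ * (b⁻¹ * x * b⁻¹⁻¹) = b⁻¹ * (y * x) * b⁻¹⁻¹ := by group
        _ = _ := by rw [h1]; group
    have hbi : b⁻¹ ∈ L := L.inv_mem hb
    have huD : ∀ d ∈ V₀, u * (b⁻¹ * d * b⁻¹⁻¹) = b⁻¹ * d * b⁻¹⁻¹ * u := by
      intro d hd0
      have hd := hV₀ hd0
      clear hd0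
      unfold powerClosure at hd
      induction hd using Subgroup.closure_induction with
      | mem x hx =>
        obtain ⟨y, hy, rfl⟩ := hx
        have h1 : b⁻¹ * y * b⁻¹⁻¹ ∈ Z := ZL_conj L b⁻¹ hbi y (hZPle hy)
        have h2 := comm_of_quad (p := p) (ZL_comm L) huq (ZL_conj L u (hSL huP)) h1 (hcent y hy _ hup)
        rw [pow_one]
        rw [conj_pow] at h2
        exact h2
      | one => simp
      | mul x y _ _ hx hy =>
        have e : b⁻¹ * (x * y) * b⁻¹⁻¹ = (b⁻¹ * x * b⁻¹⁻¹) * (b⁻¹ * y * b⁻¹⁻¹) := by group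
        rw [e]; exact (show Commute u _ from hx).mul_right hy
      | inv x _ hx =>
        have e : b⁻¹ * x⁻¹ * b⁻¹⁻¹ = (b⁻¹ * x * b⁻¹⁻¹)⁻¹ := by group
        rw [e]; exact (show Commute u _ from hx).inv_right
    -- `Y`
    set Y : Subgroup G := P ⊔ Subgroup.zpowers u with hY
    have hYS : Y ≤ S := sup_le hPS (Subgroup.zpowers_le.2 huP)
    have hbY : cj b Y ≤ L ⊓ Subgroup.centralizer (V₀ : Set G) := by
      rintro _ ⟨y, hy, rfl⟩
      have hyL : b * y * b⁻¹ ∈ L := L.mul_mem (L.mul_mem hb (hSL (hYS hy))) hbi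
      refine ⟨hyL, Subgroup.mem_centralizer_iff.2 fun d hd => ?_⟩
      have h1 : y * (b⁻¹ * d * b⁻¹⁻¹) = b⁻¹ * d * b⁻¹⁻¹ * y := by
        have h2 : Y ≤ Subgroup.centralizer {b⁻¹ * d * b⁻¹⁻¹} := by
          refine sup_le ?_ (Subgroup.zpowers_le.2 ?_)
          · intro y hy
            rw [Subgroup.mem_centralizer_singleton_iff]
            refine hcent d (hV₀c hd) y ⟨b * y * b⁻¹, hbP y hy, ?_⟩
            show b⁻¹ * (b * y * b⁻¹) * b⁻¹⁻¹ = y
            group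
          · rw [Subgroup.mem_centralizer_singleton_iff]
            exact huD d hd
        exact Subgroup.mem_centralizer_singleton_iff.1 (h2 hy)
      show d * (b * y * b⁻¹) = b * y * b⁻¹ * d
      calc d * (b * y * b⁻¹) = b * (b⁻¹ * d * b⁻¹⁻¹ * y) * b⁻¹ := by group
        _ = b * (y * (b⁻¹ * d * b⁻¹⁻¹)) * b⁻¹ := by rw [h1]
        _ = _ := by group
    have hSK : IsSyl p S (L ⊓ Subgroup.centralizer (V₀ : Set G)) := by
      refine hS.mono (le_inf hSL fun s hs => Subgroup.mem_centralizer_iff.2 fun d hd => ?_) le_top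
      exact ((Subgroup.mem_centralizer_iff.1 (hV₀c hd).2) s hs).symm
    obtain ⟨k, hk, hkY⟩ := hSK.conj hbY (isPGroup_cj (isPGroup_mono hSp hYS))
    have hkc : ∀ v ∈ V₀, k * v = v * k := fun v hv => ((Subgroup.mem_centralizer_iff.1 hk.2) v hv).symm
    have hkb : ∀ y ∈ Y, (k * b) * y * (k * b)⁻¹ ∈ S := by
      intro y hy
      have h1 := hkY (conj_mem_cj (g := k) (conj_mem_cj (g := b) hy))
      have e : k * (b * y * b⁻¹) * k⁻¹ = (k * b) * y * (k * b)⁻¹ := by group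
      rwa [e] at h1
    have hlt : P < Y := by
      refine lt_of_le_of_ne le_sup_left fun h => hub ?_
      have h1 : u ∈ Y := Subgroup.mem_sup_right (Subgroup.mem_zpowers u)
      rw [← h] at h1
      refine ⟨b * u * b⁻¹, hbP u h1, ?_⟩
      show b⁻¹ * (b * u * b⁻¹) * b⁻¹⁻¹ = u
      group
    have hfY : Finite Y := finite_of_le hYS
    have h1 := hmax Y (k * b) hYS (L.mul_mem hk.1 hb) hkb (card_lt_of_lt hlt)
    have h2 := hres Y P _ h1 hlt.le
    have h3 : C (cj (k * b) P) k⁻¹ := by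
      refine hC _ _ ?_ ?_ ?_
      · rintro _ ⟨y, hy, rfl⟩
        exact hkb y (hlt.le hy)
      · rintro _ ⟨y, hy, rfl⟩
        have e : k⁻¹ * ((k * b) * y * (k * b)⁻¹) * k⁻¹⁻¹ = b * y * b⁻¹ := by group
        show k⁻¹ * ((k * b) * y * (k * b)⁻¹) * k⁻¹⁻¹ ∈ S
        rw [e]; exact hbP y hy
      · intro v hv
        have := (show Commute k v from hkc v hv).inv_left
        exact this
    have h4 := hcomp P (cj (k * b) P) (k * b) k⁻¹ hPS (fun x hx => conj_mem_cj hx) (by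
      rintro _ ⟨y, hy, rfl⟩
      exact hkb y (hlt.le hy)) (by
      rintro _ ⟨y, hy, rfl⟩
      have e : k⁻¹ * ((k * b) * y * (k * b)⁻¹) * k⁻¹⁻¹ = b * y * b⁻¹ := by group
      show k⁻¹ * ((k * b) * y * (k * b)⁻¹) * k⁻¹⁻¹ ∈ S
      rw [e]; exact hbP y hy) h2 h3
    rw [inv_mul_cancel_left] at h4
    exact hbad h4
  -- `b` normalises `X`
  set X := QX Z S with hX
  have hfX : Finite X := finite_of_le QX_le
  have hcX : ∀ s ∈ L, (∀ t ∈ S, Qu Z t → s * t * s⁻¹ ∈ S) → ∀ x ∈ X, s * x * s⁻¹ ∈ X := by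
    intro s hs hsq x hx
    rw [hX] at hx ⊢
    unfold QX at hx ⊢
    induction hx using Subgroup.closure_induction with
    | mem t ht =>
      refine Subgroup.subset_closure ⟨hsq t ht.1 ht.2, ht.2.conj fun w hw => ?_⟩
      have := ZL_conj L s⁻¹ (L.inv_mem hs) w hw
      rwa [inv_inv] at this
    | one => simp [Subgroup.one_mem]
    | mul x y _ _ hx hy =>
      have e : s * (x * y) * s⁻¹ = (s * x * s⁻¹) * (s * y * s⁻¹) := by group
      rw [e]; exact Subgroup.mul_mem _ hx hy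
    | inv x _ hx =>
      have e : s * x⁻¹ * s⁻¹ = (s * x * s⁻¹)⁻¹ := by group
      rw [e]; exact Subgroup.inv_mem _ hx
  have hNmem : ∀ s ∈ L, (∀ x ∈ X, s * x * s⁻¹ ∈ X) → s ∈ L ⊓ Subgroup.normalizer (X : Set G) := by
    intro s hs h
    exact ⟨hs, Subgroup.mem_normalizer_fintype (S := (X : Set G)) h⟩
  have hSN : S ≤ L ⊓ Subgroup.normalizer (X : Set G) := fun s hs =>
    hNmem s (hSL hs) (hcX s (hSL hs) fun t ht _ => S.mul_mem (S.mul_mem hs ht) (S.inv_mem hs))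
  have hbN := hNmem b hb (hcX b hb claim)
  by_cases hNL : L ⊓ Subgroup.normalizer (X : Set G) = L
  · have hXO : X ≤ OL p L := by
      refine le_OL (QX_le.trans hSL) ?_ (isPGroup_mono hSp QX_le)
      intro s hs x hx
      rw [← hNL] at hs
      exact (Subgroup.mem_normalizer_iff.1 hs.2 x).1 hx
    have hJ := J_centralizes (P := S) (Z := Z) hSp hZS (fun g hg => ZL_conj L g (hSL hg)) (ZL_comm L) (by
      intro t ht htq z hz
      exact (Subgroup.mem_centralizer_iff.1 hz.2) t (hXO (Subgroup.subset_closure ⟨ht, htq⟩)))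
    -- Frattini
    set M := L ⊓ Subgroup.centralizer (Z : Set G) with hM
    have hMn : ∀ g ∈ L, ∀ x ∈ M, g * x * g⁻¹ ∈ M := by
      intro g hg x hx
      refine ⟨L.mul_mem (L.mul_mem hg hx.1) (L.inv_mem hg), Subgroup.mem_centralizer_iff.2 fun z hz => ?_⟩
      have h1 := ZL_conj L g⁻¹ (L.inv_mem hg) z hz
      have h2 := (Subgroup.mem_centralizer_iff.1 hx.2) _ h1
      calc z * (g * x * g⁻¹) = g * (g⁻¹ * z * g⁻¹⁻¹ * x) * g⁻¹ := by group
        _ = _ := by rw [h2]; group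
    have hT : IsSyl p (S ⊓ M) M := hSs.inf inf_le_left (normalizer_of hMn)
    set T := S ⊓ M with hTdef
    have hJT : thompsonSubgroupAOf S ≤ T := by
      intro x hx
      have hxS : x ∈ S := Subgroup.map_subtype_le _ hx
      exact ⟨hxS, hSL hxS, Subgroup.mem_centralizer_iff.2 fun z hz => (hJ x hx z hz).symm⟩
    have hJTe : thompsonSubgroupAOf T = thompsonSubgroupAOf S := by
      rw [← JJ_zero, ← JJ_zero]
      rw [← JJ_zero] at hJT
      exact JJ_eq_of_le inf_le_left hJT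
    -- elements normalising `T` normalise `J(S)`
    have hNJ : ∀ g, (∀ x ∈ T, g * x * g⁻¹ ∈ T) → ∀ x ∈ thompsonSubgroupAOf S, g * x * g⁻¹ ∈ thompsonSubgroupAOf S := by
      intro g hg x hx
      have h1 : g ∈ Subgroup.normalizer (T : Set G) := Subgroup.mem_normalizer_fintype (S := (T : Set G)) hg
      have h2 := normalizer_le_JJ 0 T h1
      rw [← hJTe, ← JJ_zero] at hx ⊢
      exact (Subgroup.mem_normalizer_iff.1 h2 x).1 hx
    -- `b = m n`
    have hbT : cj b T ≤ M := by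
      rintro _ ⟨y, hy, rfl⟩
      exact hMn b hb y hy.2
    have hTb : IsSyl p (cj b T) M := by
      have h1 := hT.cj b
      have h2 : cj b M = M := by
        apply le_antisymm
        · rintro _ ⟨y, hy, rfl⟩
          exact hMn b hb y hy
        · intro y hy
          refine ⟨b⁻¹ * y * b, ?_, ?_⟩
          · have := hMn b⁻¹ (L.inv_mem hb) y hy
            rwa [inv_inv] at this
          · show b * (b⁻¹ * y * b) * b⁻¹ = y
            group
      rwa [h2] at h1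
    obtain ⟨m, hm, hmT⟩ := hT.conj hbT hTb.isPGroup
    -- `n = m b`
    have hnT : ∀ x ∈ T, (m * b) * x * (m * b)⁻¹ ∈ T := by
      intro x hx
      have h1 := hmT (conj_mem_cj (g := m) (conj_mem_cj (g := b) hx))
      have e : m * (b * x * b⁻¹) * m⁻¹ = (m * b) * x * (m * b)⁻¹ := by group
      rwa [e] at h1
    -- `n P n⁻¹` inside `(S M) ∩ N(T)`
    have hTn : T ≤ L := inf_le_left.trans hSL
    set B := (S ⊔ M) ⊓ Subgroup.normalizer (T : Set G) with hB
    have hSTn : S ≤ Subgroup.normalizer (T : Set G) := by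
      apply normalizer_of
      intro g hg x hx
      exact ⟨S.mul_mem (S.mul_mem hg hx.1) (S.inv_mem hg), hMn g (hSL hg) x hx.2⟩
    have hSB : IsSyl p S B := hS.mono (le_inf le_sup_left hSTn) le_top
    have hnP : cj (m * b) P ≤ B := by
      rintro _ ⟨y, hy, rfl⟩
      refine ⟨?_, ?_⟩
      · have h1 : b * y * b⁻¹ ∈ S ⊔ M := Subgroup.mem_sup_left (hbP y hy)
        have h2 : m ∈ S ⊔ M := Subgroup.mem_sup_right hm
        have e : (m * b) * y * (m * b)⁻¹ = m * (b * y * b⁻¹) * m⁻¹ := by group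
        show (m * b) * y * (m * b)⁻¹ ∈ S ⊔ M
        rw [e]
        exact Subgroup.mul_mem _ (Subgroup.mul_mem _ h2 h1) (Subgroup.inv_mem _ h2)
      · have h1 : m * b ∈ Subgroup.normalizer (T : Set G) := Subgroup.mem_normalizer_fintype (S := (T : Set G)) hnT
        exact Subgroup.mul_mem _ (Subgroup.mul_mem _ h1 (hSTn (hPS hy))) (Subgroup.inv_mem _ h1)
    obtain ⟨k, hk, hkP⟩ := hSB.conj hnP (isPGroup_cj (isPGroup_mono hSp hPS))
    -- write `k = s m'`
    obtain ⟨s, hs, m', hm', rfl⟩ : ∃ s ∈ S, ∃ m' ∈ M, s * m' = k := by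
      have h1 := hk.1
      have h2 : S ≤ Subgroup.normalizer (M : Set G) := hSL.trans (normalizer_of hMn)
      exact (H2.Card.mem_sup_iff h2).mp h1 |>.imp fun a h => by obtain ⟨h1, y, h2, h3⟩ := h; exact ⟨h1, y, h2, by rw [h3]⟩
    have hm'T : m' ∈ Subgroup.normalizer (T : Set G) := by
      have h1 := Subgroup.mul_mem _ (Subgroup.inv_mem _ (hSTn hs)) hk.2
      rwa [inv_mul_cancel_left] at h1
    have hR : ∀ x ∈ P, (m' * (m * b)) * x * (m' * (m * b))⁻¹ ∈ S := by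
      intro x hx
      have h1 := hkP (conj_mem_cj (g := s * m') (conj_mem_cj (g := m * b) hx))
      have h2 := S.mul_mem (S.mul_mem (S.inv_mem hs) h1) hs
      have e : s⁻¹ * (s * m' * ((m * b) * x * (m * b)⁻¹) * (s * m')⁻¹) * s = (m' * (m * b)) * x * (m' * (m * b))⁻¹ := by group
      rwa [e] at h2
    have hc1 : C P (m' * (m * b)) := by
      refine hN P _ hPS hR (hNJ _ ?_)
      intro x hx
      have h1 := (Subgroup.mem_normalizer_iff.1 hm'T _).1 (hnT x hx)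
      have e : m' * ((m * b) * x * (m * b)⁻¹) * m'⁻¹ = (m' * (m * b)) * x * (m' * (m * b))⁻¹ := by group
      rwa [e] at h1
    have hmm : m⁻¹ * m'⁻¹ ∈ M := M.mul_mem (M.inv_mem hm) (M.inv_mem hm')
    have hc2 : ∀ x ∈ cj (m' * (m * b)) P, m⁻¹ * m'⁻¹ * x * (m⁻¹ * m'⁻¹)⁻¹ ∈ S := by
      rintro _ ⟨y, hy, rfl⟩
      have e : m⁻¹ * m'⁻¹ * ((m' * (m * b)) * y * (m' * (m * b))⁻¹) * (m⁻¹ * m'⁻¹)⁻¹ = b * y * b⁻¹ := by group
      show m⁻¹ * m'⁻¹ * ((m' * (m * b)) * y * (m' * (m * b))⁻¹) * (m⁻¹ * m'⁻¹)⁻¹ ∈ S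
      rw [e]; exact hbP y hy
    have hRS : cj (m' * (m * b)) P ≤ S := by
      rintro _ ⟨y, hy, rfl⟩
      exact hR y hy
    have hc3 : C (cj (m' * (m * b)) P) (m⁻¹ * m'⁻¹) := by
      refine hC _ _ hRS hc2 ?_
      intro v hv
      exact ((Subgroup.mem_centralizer_iff.1 hmm.2) v (hZPle (hV₀c hv))).symm
    have h4 := hcomp P _ _ _ hPS (fun x hx => conj_mem_cj hx) hRS hc2 hc1 hc3
    have e : m⁻¹ * m'⁻¹ * (m' * (m * b)) = b := by group
    rw [e] at h4
    exact hbad h4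
  · have hlt : L ⊓ Subgroup.normalizer (X : Set G) < L := lt_of_le_of_ne inf_le_left hNL
    exact hbad (ih _ (by rw [← hn]; exact card_lt_of_lt hlt) _ rfl hSN P b hPS hbN hbP)

end main

end Cfsg.Agent.H1.QdA
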