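import Mathlib
import Cfsg.Agent.H1_QdC
import Cfsg.Agent.H1_QdD
import Cfsg.Agent.H27_GT3

/-! Generation of a fusion system by maps lifted from a quotient. -/

set_option autoImplicit false
set_option linter.all false
universe u

namespace Cfsg.Agent.H1.QdA

open Cfsg Cfsg.FusionSystem Cfsg.Agent.H27.Fus Cfsg.Agent.H27.Grp Cfsg.Agent.H1.FusW Cfsg.Agent.H12.ZJ

section quo

variable {Ω : Type*} [Group Ω] {S Q R : Subgroup Ω} {F : FusionSystem S} {p : ℕ} [Fact p.Prime] [Finite S]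

/-- the automorphisms of the system on `N` acting trivially modulo `Q` -/
def KQ (F : FusionSystem S) (N Q : Subgroup Ω) (hQ : F.IsNormal Q) (hN : N ≤ S) : Subgroup (MulAut N) where
  carrier := {α | α ∈ F.autGroup N ∧ ∀ x : N, (x : Ω)⁻¹ * (α x : N) ∈ Q}
  one_mem' := ⟨Subgroup.one_mem _, fun x => by simp [Q.one_mem]⟩
  mul_mem' := by
    rintro α β ⟨hα, hα'⟩ ⟨hβ, hβ'⟩
    refine ⟨Subgroup.mul_mem _ hα hβ, fun x => ?_⟩
    have h1 := hβ' x
    have h2 := hα' (β x)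
    rw [MulAut.mul_apply]
    have e : (x : Ω)⁻¹ * (α (β x) : N) = ((x : Ω)⁻¹ * (β x : N)) * (((β x : N) : Ω)⁻¹ * (α (β x) : N)) := by group
    rw [e]; exact Q.mul_mem h1 h2
  inv_mem' := by
    rintro α ⟨hα, hα'⟩
    refine ⟨Subgroup.inv_mem _ hα, fun x => ?_⟩
    have h1 := hα' (α⁻¹ x)
    rw [MulAut.apply_inv_self] at h1
    have h2 := Q.inv_mem h1
    rw [mul_inv_rev, inv_inv] at h2
    exact h2

omit [Fact p.Prime] in
theorem KQ_normal {N : Subgroup Ω} (hQ : F.IsNormal Q) (hN : N ≤ S) :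
    F.autGroup N ≤ Subgroup.normalizer ((KQ F N Q hQ hN : Subgroup (MulAut N)) : Set (MulAut N)) := by
  apply normalizer_of
  rintro γ hγ α ⟨hα, hα'⟩
  refine ⟨Subgroup.mul_mem _ (Subgroup.mul_mem _ hγ hα) (Subgroup.inv_mem _ hγ), fun x => ?_⟩
  have hi := (mem_autGroup_iff hN).1 hγ
  set y := γ⁻¹ x with hy
  have hx : x = γ y := by rw [hy, MulAut.apply_inv_self]
  have h1 := hα' y
  have h2 : (γ * α * γ⁻¹) x = γ (α y) := by rw [MulAut.mul_apply, MulAut.mul_apply]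
  rw [h2, hx, ← totA_apply γ, ← totA_apply γ, ← hi.map.inv y.2, ← hi.map.mul (N.inv_mem y.2) (α y).2]
  exact (stronglyClosed_iff.1 (IsNormal.strong hQ)).2 N _ hi.map _ (N.mul_mem (N.inv_mem y.2) (α y).2) h1

theorem KQ_pgroup {N : Subgroup Ω} (hS : IsPGroup p S) (hQ : F.IsNormal Q) (hN : N ≤ S) (hQN : Q ≤ N)
    (hsc : ∀ P f, Map F P f → SCmap F Q P f) : IsPGroup p (KQ F N Q hQ hN) := by
  obtain ⟨a, ha⟩ := IsPGroup.iff_card.1 hS
  have hpow : ∀ s ∈ S, s ^ p ^ a = 1 := by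
    intro s hs
    rw [← ha]
    have := pow_card_eq_one' (x := (⟨s, hs⟩ : S))
    exact congrArg Subtype.val this
  rintro ⟨α, hα, hα'⟩
  obtain ⟨g, hg, hgf, s, hs, hsx⟩ := hsc N _ ((mem_autGroup_iff hN).1 hα).map
  have h1 : ∀ n, ∀ x : N, (x : Ω) ∈ Q → (((α ^ n) x : N) : Ω) = s ^ n * x * (s ^ n)⁻¹ := by
    intro n
    induction n with
    | zero => intro x _; simp
    | succ n ih =>
      intro x hx
      have h2 := ih x hx
      have h3 : (((α ^ n) x : N) : Ω) ∈ Q := by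
        rw [h2]; exact StronglyClosed.conj_mem (IsNormal.strong hQ) (S.pow_mem hs n) hx
      rw [pow_succ', MulAut.mul_apply, ← totA_apply, ← hgf _ ((α ^ n) x).2, hsx _ h3, h2, pow_succ']
      group
  set β := α ^ p ^ a with hβ
  have hβ1 : ∀ x : N, (x : Ω) ∈ Q → β x = x := by
    intro x hx
    apply Subtype.ext
    rw [hβ, h1 _ x hx, hpow s hs]; simp
  have hαK : α ∈ KQ F N Q hQ hN := ⟨hα, hα'⟩
  have hβK : β ∈ KQ F N Q hQ hN := Subgroup.pow_mem _ hαK _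
  have h2 : ∀ n, ∀ x : N, (β ^ n) x = x * (x⁻¹ * β x) ^ n := by
    intro n
    induction n with
    | zero => intro x; simp
    | succ n ih =>
      intro x
      have h3 : ((x⁻¹ * β x : N) : Ω) ∈ Q := hβK.2 x
      have h4 : (((x⁻¹ * β x) ^ n : N) : Ω) ∈ Q := by
        rw [SubgroupClass.coe_pow]; exact Q.pow_mem h3 n
      rw [pow_succ', MulAut.mul_apply, ih x, map_mul, hβ1 _ h4, pow_succ', ← mul_assoc, mul_inv_cancel_left]
  refine ⟨a + a, Subtype.ext ?_⟩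
  show α ^ p ^ (a + a) = 1
  rw [pow_add, pow_mul, ← hβ]
  ext x
  rw [h2]
  have h5 : (x⁻¹ * β x) ^ p ^ a = 1 := Subtype.ext (by
    rw [SubgroupClass.coe_pow]; exact hpow _ (hN (x⁻¹ * β x).2))
  rw [h5, mul_one]; rfl

theorem quo_gen (hS : IsPGroup p S) (hF : F.IsSaturated p) (hQ : F.IsNormal Q)
    (hsc : ∀ P f, Map F P f → SCmap F Q P f) {Ω' : Type*} [Group Ω'] {S' : Subgroup Ω'} {θ : S →* Ω'}
    {E : FusionSystem S'} (hE : F.IsFactorSystem Q θ E) {C : Subgroup Ω → (Ω → Ω) → Prop} (hC : SubCls F C)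
    (hSC : ∀ P ≤ S, ∀ s ∈ S, C P (fun x => s * x * s⁻¹))
    (h : ∀ P' f', Map E P' f' → ∃ f, Map F (preimageAlong θ P') f ∧ C (preimageAlong θ P') f ∧
      Ind θ (preimageAlong θ P') f f') : ∀ P f, Map F P f → C P f := by
  have hQs := IsNormal.strong hQ
  obtain ⟨hd, hm⟩ := isFactorSystem_iff.1 hE
  have hQS : Q ≤ S := hQs.1
  -- step A
  have hA : ∀ R g, Q ≤ R → Map F R g → ∃ h, Iso F R (im R g) h ∧ C R h ∧ ∀ x ∈ R, (h x)⁻¹ * g x ∈ Q := by
    intro R g hQR hg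
    have hRS := hg.le
    have hR : preimageAlong θ (imageAlong θ R) = R := by rw [pre_image hd hRS, sup_eq_left.2 hQR]
    have hg' : Map F (preimageAlong θ (imageAlong θ R)) g := by rw [hR]; exact hg
    obtain ⟨g', hg', hind⟩ := exists_ind_map hE hQs (imageAlong_le hd hRS) hg'
    obtain ⟨k, hk, hkC, hki⟩ := h _ _ hg'
    rw [hR] at hk hkC hki hind
    have hx : ∀ x ∈ R, (k x)⁻¹ * g x ∈ Q := by
      intro x hx
      have h1 : tt θ (g x) = tt θ (k x) := (hind x hx).symm.trans (hki x hx)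
      exact (hd.eq_iff (hg.mem hx) (hk.mem hx)).1 h1
    have hQk : im Q k = Q := StronglyClosed.im_eq hQs hk hQR
    have hQg : im Q g = Q := StronglyClosed.im_eq hQs hg hQR
    have him : im R k = im R g := by
      apply le_antisymm
      · intro y hy
        obtain ⟨x, hxR, rfl⟩ := hk.mem_im.1 hy
        have h1 := Q.inv_mem (hx x hxR)
        rw [mul_inv_rev, inv_inv] at h1
        have h2 : k x = g x * ((g x)⁻¹ * k x) := by group
        rw [h2]
        refine Subgroup.mul_mem _ (hg.apply_mem_im hxR) ?_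
        exact (hg.im_mono hQR) (hQg.symm ▸ h1)
      · intro y hy
        obtain ⟨x, hxR, rfl⟩ := hg.mem_im.1 hy
        have h1 := hx x hxR
        have h2 : g x = k x * ((k x)⁻¹ * g x) := by group
        rw [h2]
        refine Subgroup.mul_mem _ (hk.apply_mem_im hxR) ?_
        exact (hk.im_mono hQR) (hQk.symm ▸ h1)
    exact ⟨k, hk.iso_of_im_eq him, hkC, hx⟩
  -- step B'
  have hB' : ∀ N k, F.IsFullyNormalized N → Q ≤ N → Iso F N N k → (∀ x ∈ N, x⁻¹ * k x ∈ Q) → C N k := by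
    intro N k hN hQN hk hkQ
    have hNS : N ≤ S := hN.1
    have hfN : Finite N := finite_of_le hNS
    have hsyl := (isFullyAutomized_iff.1 (fn_automized hS hF hN)).2
    have h1 : KQ F N Q hQ hNS ≤ autInducedBy S N :=
      hsyl.normal_le (fun α hα => hα.1) (KQ_normal hQ hNS) (KQ_pgroup hS hQ hNS hQN hsc)
    have h2 : hk.aut ∈ KQ F N Q hQ hNS := ⟨hk.aut_mem, fun x => hkQ x x.2⟩
    obtain ⟨s, hs, hsx⟩ := mem_autInducedBy.1 (h1 h2)
    exact hC.congr (hSC N hNS s hs) fun x hx => (hsx ⟨x, hx⟩).symm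
  -- step B
  have hB : ∀ R k, Q ≤ R → Iso F R R k → (∀ x ∈ R, x⁻¹ * k x ∈ Q) → C R k := by
    intro R k hQR hk hkQ
    obtain ⟨N, hRN, hN⟩ := exists_fullyNormalized F hk.le
    obtain ⟨φ, hφ⟩ := isConj_iff.1 hRN
    obtain ⟨h, hh, hhC, -⟩ := hA R φ hQR hφ.map
    rw [hφ.im_eq] at hh
    have hQN : Q ≤ N := by
      rw [← StronglyClosed.im_eq hQs hh.map hQR, ← hh.im_eq]
      exact hh.map.im_mono hQR
    have hk' : Iso F N N (h ∘ k ∘ finv R h) := (hh.symm.trans hk).trans hh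
    have h1 : ∀ y ∈ N, y⁻¹ * (h ∘ k ∘ finv R h) y ∈ Q := by
      intro y hy
      have hx := hh.finv_mem hy
      have h2 := hkQ _ hx
      have h3 := (stronglyClosed_iff.1 hQs).2 R _ hh.map _ (hQR h2) h2
      rw [hh.map.mul (R.inv_mem hx) (hk.maps _ hx), hh.map.inv hx, hh.finv_right hy] at h3
      exact h3
    have h2 := hB' N _ hN hQN hk' h1
    -- conjugate back
    have h3 : C R ((h ∘ k ∘ finv R h) ∘ h) := hC.comp hh.map hk'.map hhC h2 hh.maps
    have h4 : C R (finv R h ∘ ((h ∘ k ∘ finv R h) ∘ h)) :=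
      hC.comp (hk'.map.comp hh.map hh.maps) hh.symm.map h3 (hC.inv hh hhC) (fun x hx => hk'.maps _ (hh.maps x hx))
    refine hC.congr h4 fun x hx => ?_
    show finv R h (h (k (finv R h (h x)))) = k x
    rw [hh.finv_left hx, hh.finv_left (hk.maps x hx)]
  -- conclusion
  intro P f hf
  obtain ⟨g, hg, hgf, -⟩ := hsc P f hf
  have hQP : Q ≤ P ⊔ Q := le_sup_right
  obtain ⟨h, hh, hhC, hhQ⟩ := hA _ g hQP hg
  have hgi := hg.iso
  have hk : Iso F (im (P ⊔ Q) g) (im (P ⊔ Q) g) (g ∘ finv (P ⊔ Q) h) := hh.symm.trans hgi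
  have hQi : Q ≤ im (P ⊔ Q) g := by
    conv_lhs => rw [← StronglyClosed.im_eq hQs hg hQP]
    exact hg.im_mono hQP
  have hkC := hB _ _ hQi hk (by
    intro y hy
    have hx := hh.finv_mem hy
    have h1 := hhQ _ hx
    rw [hh.finv_right hy] at h1
    exact h1)
  have h1 : C (P ⊔ Q) ((g ∘ finv (P ⊔ Q) h) ∘ h) := hC.comp hh.map hk.map hhC hkC hh.maps
  have h2 : C (P ⊔ Q) g := hC.congr h1 fun x hx => by
    show g (finv (P ⊔ Q) h (h x)) = g x
    rw [hh.finv_left hx]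
  exact hC.congr (hC.restrict h2 le_sup_left) hgf

end quo

section sc

variable {Ω : Type*} [Group Ω] {S Q R V P : Subgroup Ω} {F : FusionSystem S} {p : ℕ} {f : Ω → Ω}

/-- maps extending to a map fixing `V` elementwise -/
def CV (F : FusionSystem S) (V P : Subgroup Ω) (f : Ω → Ω) : Prop :=
  ∃ g, Map F (P ⊔ V) g ∧ (∀ x ∈ P, g x = f x) ∧ ∀ v ∈ V, g v = v

/-- lift of a class along a factor system -/
def CL (F : FusionSystem S) (C : Subgroup Ω → (Ω → Ω) → Prop) {Ω' : Type*} [Group Ω'] (θ : S →* Ω') (P' : Subgroup Ω')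
    (f' : Ω' → Ω') : Prop :=
  ∃ f, Map F (preimageAlong θ P') f ∧ C (preimageAlong θ P') f ∧ Ind θ (preimageAlong θ P') f f'

variable [Fact p.Prime] [Finite S]

theorem subCls_CL (hQ : F.StronglyClosed Q) {Ω' : Type*} [Group Ω'] {S' : Subgroup Ω'} {θ : S →* Ω'}
    {E : FusionSystem S'} (hE : F.IsFactorSystem Q θ E) {C : Subgroup Ω → (Ω → Ω) → Prop} (hC : SubCls F C) :
    SubCls E (CL F C θ) := by
  obtain ⟨hd, hm⟩ := isFactorSystem_iff.1 hE
  refine ⟨?_, ?_, ?_, ?_⟩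
  · rintro P' f' g' ⟨f, hf, hfC, hi⟩ hfg
    refine ⟨f, hf, hfC, fun x hx => ?_⟩
    rw [← hfg _ ((mem_preimageAlong θ).1 hx).2]
    exact hi x hx
  · rintro P' Q' f' ⟨f, hf, hfC, hi⟩ hQP
    have hle : preimageAlong θ Q' ≤ preimageAlong θ P' := fun x hx =>
      (mem_preimageAlong θ).2 ⟨((mem_preimageAlong θ).1 hx).1, hQP ((mem_preimageAlong θ).1 hx).2⟩
    exact ⟨f, hf.mono hle, hC.restrict hfC hle, fun x hx => hi x (hle hx)⟩
  · rintro P' Q' f' g' hf' hg' ⟨f, hf, hfC, hfi⟩ ⟨g, hg, hgC, hgi⟩ hPQ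
    have hmaps : ∀ x ∈ preimageAlong θ P', f x ∈ preimageAlong θ Q' := by
      intro x hx
      refine (mem_preimageAlong θ).2 ⟨hf.mem hx, ?_⟩
      rw [← hfi x hx]
      exact hPQ _ ((mem_preimageAlong θ).1 hx).2
    refine ⟨g ∘ f, hg.comp hf hmaps, hC.comp hf hg hfC hgC hmaps, fun x hx => ?_⟩
    show g' (f' (tt θ x)) = tt θ (g (f x))
    rw [hfi x hx, hgi _ (hmaps x hx)]
  · rintro P' Q' f' hi ⟨f, hf, hfC, hfi⟩
    have hmaps : ∀ x ∈ preimageAlong θ P', f x ∈ preimageAlong θ Q' := by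
      intro x hx
      refine (mem_preimageAlong θ).2 ⟨hf.mem hx, ?_⟩
      rw [← hfi x hx]
      exact hi.maps _ ((mem_preimageAlong θ).1 hx).2
    have hQP : Q ≤ preimageAlong θ P' := hd.le_pre P'
    have hQf : im Q f = Q := StronglyClosed.im_eq hQ hf hQP
    have hiso : Iso F (preimageAlong θ P') (preimageAlong θ Q') f := by
      refine ⟨hf, hmaps, fun y hy => ?_⟩
      obtain ⟨hyS, hyQ⟩ := (mem_preimageAlong θ).1 hy
      obtain ⟨x', hx', hxy⟩ := hi.surj _ hyQ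
      obtain ⟨x, hx, rfl⟩ := hd.pre_surj hi.le hx'
      rw [hfi x hx] at hxy
      have h1 := (hd.eq_iff hyS (hf.mem hx)).1 hxy.symm
      rw [← hQf] at h1
      obtain ⟨q, hq, hqy⟩ := (hf.mono hQP).mem_im.1 h1
      refine ⟨x * q, Subgroup.mul_mem _ hx (hQP hq), ?_⟩
      rw [hf.mul hx (hQP hq), hqy, mul_inv_cancel_left]
    refine ⟨finv (preimageAlong θ P') f, hiso.symm.map, hC.inv hiso hfC, fun y hy => ?_⟩
    have hx := hiso.finv_mem hy
    have h1 := hfi _ hx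
    rw [hiso.finv_right hy] at h1
    rw [← h1]
    exact hi.finv_left ((mem_preimageAlong θ).1 hx).2

end sc

end Cfsg.Agent.H1.QdA
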