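import Mathlib
import Cfsg.Agent.H1_QdE

/-! `F = ⟨C_F(℧¹(Z(S))), N_F(J(S))⟩`. -/

set_option autoImplicit false
set_option linter.all false
universe u

namespace Cfsg.Agent.H1.QdA

open Cfsg Cfsg.FusionSystem Cfsg.Agent.H27.Fus Cfsg.Agent.H27.Grp Cfsg.Agent.H1.FusW Cfsg.Agent.H12.ZJ

section md

variable {Ω : Type*} [Group Ω] {S Q R V P : Subgroup Ω} {F : FusionSystem S} {p : ℕ} {f : Ω → Ω}

theorem md_exists_map {G : Type*} [Group G] {ι : S →* G} (h : MD F p Q G ι) (hR : R ≤ S) {g : G}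
    (hg : ∀ x ∈ R, ∃ y ∈ S, tt ι y = g * tt ι x * g⁻¹) : ∃ f, Map F R f ∧ ∀ x ∈ R, tt ι (f x) = g * tt ι x * g⁻¹ := by
  choose! k hkS hk using hg
  refine ⟨k, (h.real _ k hR hkS ?_).2 ⟨g, hk⟩, hk⟩
  intro x hx y hy
  apply tt_inj h.inj (hkS _ (Subgroup.mul_mem _ hx hy)) (S.mul_mem (hkS _ hx) (hkS _ hy))
  rw [tt_mul ι (hkS _ hx) (hkS _ hy), hk _ (Subgroup.mul_mem _ hx hy), hk _ hx, hk _ hy, tt_mul ι (hR hx) (hR hy)]
  group

theorem thompson_tt {G : Type*} [Group G] {ι : S →* G} (hι : Function.Injective ι) {y : G} :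
    y ∈ thompsonSubgroupAOf ι.range ↔ ∃ x ∈ thompsonSubgroupAOf S, tt ι x = y := by
  rw [H27.Fus.thompsonAOf_eq, H27.Fus.thompsonAOf_eq]
  have h1 : JJ 0 ι.range = (JJ 0 (⊤ : Subgroup S)).map ι := by
    rw [MonoidHom.range_eq_map]; exact H2.ZJ2.JJ_map ι hι.injOn
  have h2 : JJ 0 S = (JJ 0 (⊤ : Subgroup S)).map S.subtype := by
    conv_lhs => rw [← top_map_subtype S]
    exact H2.ZJ2.JJ_map S.subtype S.subtype_injective.injOn
  rw [h1, h2]
  constructor
  · rintro ⟨s, hs, rfl⟩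
    exact ⟨s, ⟨s, hs, rfl⟩, tt_apply ι s⟩
  · rintro ⟨_, ⟨s, hs, rfl⟩, rfl⟩
    exact ⟨s, hs, (tt_apply ι s).symm⟩

end md

section con

variable {Ω : Type*} [Group Ω] {S Q R V P : Subgroup Ω} {F : FusionSystem S} {p : ℕ} [Fact p.Prime] [Finite S] {f : Ω → Ω}

omit [Fact p.Prime] [Finite S] in
theorem J_le : thompsonSubgroupAOf S ≤ S := Subgroup.map_subtype_le _

theorem J_im {f : Ω → Ω} (hf : Map F R f) : thompsonSubgroupAOf (im R f) = im (thompsonSubgroupAOf R) f := by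
  rw [H27.Fus.thompsonAOf_eq, H27.Fus.thompsonAOf_eq]; exact JJ_im hf

theorem J_normal (F : FusionSystem S) : S ≤ normalizerIn S (thompsonSubgroupAOf S) := by
  intro s hs
  have hm := map_conj F le_rfl hs
  have h1 := J_im hm
  have h2 : im S (fun x => s * x * s⁻¹) = S := StronglyClosed.im_eq (strongly_top F) hm le_rfl
  rw [h2] at h1
  refine mem_nrm_of_forall J_le hs (fun x hx => ?_)
  rw [h1]; exact (hm.mono J_le).apply_mem_im hx

theorem con_case (hS : IsPGroup p S) {G : Type*} [Group G] {ι : S →* G} (hM : MD F p Q G ι)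
    {V₀ : Subgroup Ω} (hV₀ : V₀ ≤ powerClosure p 1 (centralizerIn S S)) {C : Subgroup Ω → (Ω → Ω) → Prop}
    (hC : SubCls F C) (hCV : ∀ P f, CV F V₀ P f → C P f) (hCJ : ∀ P f, Nmap F (thompsonSubgroupAOf S) P f → C P f) :
    ∀ P f, Map F P f → C P f := by
  have hfin := hM.fin
  obtain ⟨T, hT⟩ := hM.syl
  have hV₀c : V₀ ≤ centralizerIn S S := hV₀.trans (pc_le 1 _)
  have hV₀S : V₀ ≤ S := hV₀c.trans cen_le
  -- membership in preimages
  have hpre : ∀ {P : Subgroup G} {x : Ω}, x ∈ preimageAlong ι P ↔ x ∈ S ∧ tt ι x ∈ P := mem_preimageAlong ι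
  have hext : ∀ (P : Subgroup G) (g : G) (X : Subgroup Ω), (∀ x ∈ P, g * x * g⁻¹ ∈ ι.range) → X ≤ S →
      (∀ x ∈ X, g * tt ι x * g⁻¹ ∈ ι.range) → ∃ f, Map F (preimageAlong ι P ⊔ X) f ∧
        ∀ x ∈ preimageAlong ι P ⊔ X, tt ι (f x) = g * tt ι x * g⁻¹ := by
    intro P g X hP hXS hX
    refine md_exists_map hM (sup_le (preimageAlong_le _ _) hXS) fun x hx => ?_
    have hle : preimageAlong ι P ⊔ X ≤ preimageAlong ι (ι.range.comap (MulAut.conj g).toMonoidHom) := by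
      apply sup_le
      · intro y hy
        exact hpre.2 ⟨(hpre.1 hy).1, hP _ (hpre.1 hy).2⟩
      · intro y hy
        exact hpre.2 ⟨hXS hy, hX y hy⟩
    exact mem_range_iff.1 (hpre.1 (hle hx)).2
  let C' : Subgroup G → G → Prop := fun P g => ∃ f, Map F (preimageAlong ι P) f ∧ C (preimageAlong ι P) f ∧
    ∀ x ∈ preimageAlong ι P, tt ι (f x) = g * tt ι x * g⁻¹
  have hV₀' : ∀ v, v ∈ imageAlong ι V₀ ↔ ∃ x ∈ V₀, tt ι x = v := fun v => mem_imageAlong ι hV₀S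
  have hQ' : ∀ v, v ∈ imageAlong ι Q ↔ ∃ x ∈ Q, tt ι x = v := fun v => mem_imageAlong ι hM.QS
  have key := grp_gen (p := p) (S := ι.range) (V₀ := imageAlong ι V₀) (Q := imageAlong ι Q) C'
    (by
      rintro P R g ⟨f, hf, hfC, hfx⟩ hRP
      have hle : preimageAlong ι R ≤ preimageAlong ι P := fun x hx => hpre.2 ⟨(hpre.1 hx).1, hRP (hpre.1 hx).2⟩
      exact ⟨f, hf.mono hle, hC.restrict hfC hle, fun x hx => hfx x (hle hx)⟩)
    (by
      rintro P R g h hPS hgR hRS hhS ⟨f, hf, hfC, hfx⟩ ⟨k, hk, hkC, hkx⟩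
      have hmaps : ∀ x ∈ preimageAlong ι P, f x ∈ preimageAlong ι R := by
        intro x hx
        refine hpre.2 ⟨hf.mem hx, ?_⟩
        rw [hfx x hx]; exact hgR _ (hpre.1 hx).2
      refine ⟨k ∘ f, hk.comp hf hmaps, hC.comp hf hk hfC hkC hmaps, fun x hx => ?_⟩
      show tt ι (k (f x)) = _
      rw [hkx _ (hmaps x hx), hfx x hx]; group)
    (by
      intro v hv
      obtain ⟨x, hx, rfl⟩ := (hV₀' v).1 hv
      refine pc_tt (K := ι.range ⊓ Subgroup.centralizer (ι.range : Set G)) ι cen_le (fun x hx => ?_) x (hV₀ hx)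
      refine ⟨mem_range_iff.2 ⟨x, cen_le hx, rfl⟩, Subgroup.mem_centralizer_iff.2 ?_⟩
      intro y hy
      obtain ⟨z, hz, rfl⟩ := mem_range_iff.1 hy
      rw [← tt_mul ι hz (cen_le hx), ← tt_mul ι (cen_le hx) hz, cen_comm hx hz])
    (by
      intro P g hPS hgS hgV
      obtain ⟨f, hf, hfx⟩ := hext P g V₀ hgS hV₀S (by
        intro x hx
        rw [hgV _ ((hV₀' _).2 ⟨x, hx, rfl⟩), mul_inv_cancel_right]
        exact mem_range_iff.2 ⟨x, hV₀S hx, rfl⟩)
      have hle : preimageAlong ι P ≤ preimageAlong ι P ⊔ V₀ := le_sup_left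
      refine ⟨f, hf.mono hle, hCV _ _ ⟨f, hf, fun _ _ => rfl, fun v hv => ?_⟩, fun x hx => hfx x (hle hx)⟩
      have hv' : v ∈ preimageAlong ι P ⊔ V₀ := (le_sup_right : V₀ ≤ _) hv
      apply tt_inj hM.inj (hf.mem hv') (hV₀S hv)
      rw [hfx v hv', hgV _ ((hV₀' _).2 ⟨v, hv, rfl⟩), mul_inv_cancel_right])
    (by
      intro P g hPS hgS hgJ
      obtain ⟨f, hf, hfx⟩ := hext P g (thompsonSubgroupAOf S) hgS J_le (by
        intro x hx
        exact J_le (hgJ _ ((thompson_tt hM.inj).2 ⟨x, hx, rfl⟩)))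
      have hle : preimageAlong ι P ≤ preimageAlong ι P ⊔ thompsonSubgroupAOf S := le_sup_left
      have hle2 : thompsonSubgroupAOf S ≤ preimageAlong ι P ⊔ thompsonSubgroupAOf S := le_sup_right
      have hJn := J_normal F
      refine ⟨f, hf.mono hle, hCJ _ _ ⟨(preimageAlong_le _ _).trans hJn, fun x hx => hJn (hf.mem (hle hx)), f, hf,
        fun _ _ => rfl, ?_⟩, fun x hx => hfx x (hle hx)⟩
      have hfJ := hf.mono hle2
      have hfinJ : Finite (thompsonSubgroupAOf S) := finite_of_le J_le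
      apply eq_of_le_of_card_le
      · intro y hy
        obtain ⟨x, hx, rfl⟩ := hfJ.mem_im.1 hy
        have h1 := hgJ _ ((thompson_tt hM.inj).2 ⟨x, hx, rfl⟩)
        rw [← hfx x (hle2 hx)] at h1
        obtain ⟨z, hz, hzx⟩ := (thompson_tt hM.inj).1 h1
        rw [← tt_inj hM.inj (J_le hz) (hfJ.mem hx) hzx]; exact hz
      · rw [hfJ.card_im])
    (isSyl_top_iff.2 ⟨T, hT⟩)
    (by
      intro v hv
      obtain ⟨x, hx, rfl⟩ := (hQ' v).1 hv
      exact mem_range_iff.2 ⟨x, hM.QS hx, rfl⟩)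
    (by
      intro g v hv
      obtain ⟨x, hx, rfl⟩ := (hQ' v).1 hv
      obtain ⟨y, hy, hyx⟩ := hM.nor g x hx
      rw [← hyx]; exact (hQ' _).2 ⟨y, hy, rfl⟩)
    (by
      intro g hg
      obtain ⟨q, hq, hqg⟩ := hM.cen g (fun q hq => hg _ ((hQ' _).2 ⟨q, hq, rfl⟩))
      exact (hQ' _).2 ⟨q, hq, hqg⟩)
    (Nat.card (⊤ : Subgroup G)) ⊤ rfl le_top
  intro P f hf
  have hPS := hf.le
  obtain ⟨g, hg⟩ := hM.map_real hf
  have hP' : ∀ v, v ∈ imageAlong ι P ↔ ∃ x ∈ P, tt ι x = v := fun v => mem_imageAlong ι hPS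
  obtain ⟨k, hk, hkC, hkx⟩ := key (imageAlong ι P) g (by
      intro v hv
      obtain ⟨x, hx, rfl⟩ := (hP' v).1 hv
      exact mem_range_iff.2 ⟨x, hPS hx, rfl⟩) trivial (by
      intro v hv
      obtain ⟨x, hx, rfl⟩ := (hP' v).1 hv
      rw [← hg x hx]
      exact mem_range_iff.2 ⟨f x, hf.mem hx, rfl⟩)
  have hle : P ≤ preimageAlong ι (imageAlong ι P) := fun x hx => hpre.2 ⟨hPS hx, (hP' _).2 ⟨x, hx, rfl⟩⟩
  refine hC.congr (hC.restrict hkC hle) fun x hx => ?_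
  apply tt_inj hM.inj (hk.mem (hle hx)) (hf.mem hx)
  rw [hkx x (hle hx), hg x hx]

end con

theorem thomp_aux {p : ℕ} [Fact p.Prime] :
    ∀ {Ω : Type u} [Group Ω] (S : Subgroup Ω) [Finite S] (F : FusionSystem S), IsPGroup p S → F.IsSaturated p →
      ∀ (V₀ : Subgroup Ω), V₀ ≤ powerClosure p 1 (centralizerIn S S) → ∀ C : Subgroup Ω → (Ω → Ω) → Prop, SubCls F C →
        (∀ P f, CV F V₀ P f → C P f) → (∀ P f, Nmap F (thompsonSubgroupAOf S) P f → C P f) → ∀ P f, Map F P f → C P f := by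
  apply sat_induction
  intro Ω _ S _ F hS hF IH1 IH2 V₀ hV₀ C hC hCV hCJ
  have hV₀c : V₀ ≤ centralizerIn S S := hV₀.trans (pc_le 1 _)
  have hV₀S : V₀ ≤ S := hV₀c.trans cen_le
  have hJn := J_normal F
  refine reduce hS hF hC thompsonSubgroupAOf (fun R _ => Subgroup.map_subtype_le _) (fun R f hf => J_im hf)
      (fun R hR _ hRb => ?_) hCJ ?_ ?_ ?_
  · haveI : Finite R := finite_of_le hR
    rw [H27.Fus.thompsonAOf_eq]
    exact JJ_ne (dvd_zero p) (isPGroup_mono hS hR) hRb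
  · -- subsystems
    intro R E hRS hE hsub hlt hCR hEN
    haveI : Finite R := finite_of_le hRS
    have hcc : centralizerIn S S ≤ centralizerIn R R := fun x hx => mem_cen.2 ⟨hCR hx, fun y hy => cen_comm hx (hRS hy)⟩
    have hV₀R : V₀ ≤ powerClosure p 1 (centralizerIn R R) := hV₀.trans (pc_mono hcc)
    have hCE : SubCls E C := ⟨fun h hfg => hC.congr h hfg, fun h hQ => hC.restrict h hQ,
      fun hf hg h1 h2 hm => hC.comp (hsub _ _ hf) (hsub _ _ hg) h1 h2 hm,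
      fun hi h => hC.inv ⟨hsub _ _ hi.map, hi.maps, hi.surj⟩ h⟩
    have hCVE : ∀ P f, CV E V₀ P f → C P f := by
      rintro P f ⟨g, hg, h1, h2⟩
      exact hCV P f ⟨g, hsub _ _ hg, h1, h2⟩
    rcases hlt with hlt | hlt
    · exact IH1 R E (isPGroup_mono hS hRS) hE (card_lt_of_lt hlt) V₀ hV₀R C hCE hCVE hEN
    · by_cases hRS' : R = S
      · subst hRS'
        exact IH2 E hE hsub hlt V₀ hV₀R C hCE hCVE hEN
      · exact IH1 R E (isPGroup_mono hS hRS) hE (card_lt_of_lt (lt_of_le_of_ne hRS hRS')) V₀ hV₀R C hCE hCVE hEN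
  · -- constrained
    intro hcen
    have hQ := core_normal F
    obtain ⟨G, _, ι, hM⟩ := exists_model hS hF hQ hcen
    have hMD := MD.of_model hS hF hQ hcen hM
    exact con_case hS hMD hV₀ hC hCV hCJ
  · -- quotient
    intro hsc hQb hQc hV
    have hQ := core_normal F
    have hQs := IsNormal.strong hQ
    have hQS : F.core ≤ S := (isNormal_iff.1 hQ).1
    by_cases hV₀Q : V₀ ≤ F.core
    · intro P f hf
      obtain ⟨g, hg, hgf, s, hs, hsx⟩ := hsc P f hf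
      refine hCV P f ⟨g, hg.mono (sup_le_sup_left hV₀Q _), hgf, fun v hv => ?_⟩
      rw [hsx v (hV₀Q hv), cen_comm (hV₀c hv) hs, mul_inv_cancel_right]
    obtain ⟨N, hNn, E, hpS', hE, hEs, hcard⟩ := exists_quo hS hF hQs hQb
    obtain ⟨hd, hm⟩ := isFactorSystem_iff.1 hE
    set θ := QuotientGroup.mk' N with hθ
    haveI : Finite (⊤ : Subgroup (S ⧸ N)) := finite_S' hd
    have hSC : ∀ P ≤ S, ∀ s ∈ S, C P (fun x => s * x * s⁻¹) := by
      intro P hP s hs
      refine hCV P _ ⟨fun x => s * x * s⁻¹, map_conj F (sup_le hP hV₀S) hs, fun _ _ => rfl, fun v hv => ?_⟩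
      show s * v * s⁻¹ = v
      rw [cen_comm (hV₀c hv) hs, mul_inv_cancel_right]
    refine quo_gen hS hF hQ hsc hE hC hSC ?_
    have hJ'n := J_normal E
    have hJ'b : ¬ FusionSystem.preimageAlong θ (thompsonSubgroupAOf (⊤ : Subgroup (S ⧸ N))) ≤ F.core := by
      intro hle
      have hnb : (⊤ : Subgroup (S ⧸ N)) ≠ ⊥ := by
        intro hb
        apply hQc
        have : F.core = S := by
          apply le_antisymm hQS
          intro x hx
          have h1 : tt θ x ∈ (⊤ : Subgroup (S ⧸ N)) := trivial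
          rw [hb, Subgroup.mem_bot, ← tt_one θ, hd.eq_iff hx S.one_mem] at h1
          simpa using h1
        rw [this]; exact top_centric F
      have h0 : JJ 0 (⊤ : Subgroup (S ⧸ N)) ≠ ⊥ := JJ_ne (dvd_zero p) hpS' hnb
      rw [← H27.Fus.thompsonAOf_eq] at h0
      apply h0
      rw [eq_bot_iff]
      intro y hy
      obtain ⟨x, hx, rfl⟩ := hd.pre_surj le_top hy
      have h1 := hle hx
      rw [Subgroup.mem_bot, ← tt_one θ, hd.eq_iff (hQS h1) S.one_mem]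
      simpa using h1
    have hV₀' : ∀ v, v ∈ imageAlong θ V₀ ↔ ∃ x ∈ V₀, tt θ x = v := fun v => mem_imageAlong θ hV₀S
    have hcc : ∀ x ∈ centralizerIn S S, tt θ x ∈ centralizerIn (⊤ : Subgroup (S ⧸ N)) (⊤ : Subgroup (S ⧸ N)) := by
      intro x hx
      refine mem_cen.2 ⟨Subgroup.mem_top _, fun y hy => ?_⟩
      obtain ⟨w, hw, rfl⟩ := hd.surj hy
      rw [← tt_mul θ hw (cen_le hx), ← tt_mul θ (cen_le hx) hw, cen_comm hx hw]
    have hV₀n : (⊤ : Subgroup (S ⧸ N)) ≤ normalizerIn ⊤ (imageAlong θ V₀) := by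
      intro y hy
      refine mem_nrm_of_forall le_top hy fun v hv => ?_
      obtain ⟨x, hx, rfl⟩ := (hV₀' v).1 hv
      have := cen_comm (hcc x (hV₀c hx)) hy
      rw [this, mul_inv_cancel_right]; exact hv
    have hV₀b : ¬ preimageAlong θ (imageAlong θ V₀) ≤ F.core := by
      intro hle
      apply hV₀Q
      refine le_trans ?_ hle
      rw [pre_image hd hV₀S]; exact le_sup_left
    refine IH1 (⊤ : Subgroup (S ⧸ N)) E hpS' hEs hcard (imageAlong θ V₀) ?_ (CL F C θ) (subCls_CL hQs hE hC) ?_ ?_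
    · intro v hv
      obtain ⟨x, hx, rfl⟩ := (hV₀' v).1 hv
      exact pc_tt θ cen_le hcc x (hV₀ hx)
    · rintro P' f' ⟨g', hg', hgf, hgV⟩
      have hN : Nmap E (imageAlong θ V₀) P' f' := by
        refine ⟨le_top.trans hV₀n, fun x _ => hV₀n trivial, g', hg', hgf, ?_⟩
        have hgm := hg'.mono (le_sup_right : imageAlong θ V₀ ≤ _)
        have h1 : im (imageAlong θ V₀) g' = im (imageAlong θ V₀) id := im_congr hgV
        rw [h1]
        exact (iso_refl E le_top).im_eq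
      obtain ⟨g, hg, hgx⟩ := nmap_lift hE hQs le_top hV₀n hN
      exact ⟨g, hg.map, hV _ (preimageAlong_le _ _) (pre_normal hd le_top hV₀n) hV₀b _ _ hg, hgx⟩
    · intro P' f' hN
      obtain ⟨g, hg, hgx⟩ := nmap_lift hE hQs le_top hJ'n hN
      exact ⟨g, hg.map, hV _ (preimageAlong_le _ _) (pre_normal hd le_top hJ'n) hJ'b _ _ hg, hgx⟩

end Cfsg.Agent.H1.QdA
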