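import Mathlib
import Cfsg.Agent.H1_PsC
import Cfsg.Agent.H1_QdF
import Cfsg.Agent.H27_LG5
import Cfsg.Agent.H27_GT4
import Cfsg.Agent.H4_BaerSuzuki

set_option autoImplicit false

/-! `p`-stable fusion systems: quadratic pairs modulo a subgroup. -/

namespace Cfsg.Agent.H1.Ps

open Cfsg Cfsg.FusionSystem Cfsg.Agent.H27.Fus Cfsg.Agent.H27.Grp Cfsg.Agent.H1.QdA
open scoped commutatorElement

universe u v w

section defs

variable {Ω : Type u} [Group Ω] {S T P Q R : Subgroup Ω} {F : FusionSystem S} {p : ℕ}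

/-- quadratic automorphism (elementwise) -/
def Quad {R : Type v} [Group R] (χ : MulAut R) : Prop := ∀ a : R, χ (a⁻¹ * χ a) = a⁻¹ * χ a

theorem quad_iff {R : Type v} [Group R] {χ : MulAut R} : (∀ a : R, (χ a⁻¹) * a * (χ a⁻¹) * (χ (χ a)) = 1) ↔ Quad χ := by
  constructor
  · intro h a
    have h1 := h a
    rw [map_mul, map_inv]
    rw [map_inv] at h1
    have h2 : (χ a)⁻¹ * χ (χ a) = a⁻¹ * χ a * ((χ a)⁻¹ * a * (χ a)⁻¹ * χ (χ a)) := by group
    rw [h2, h1, mul_one]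
  · intro h a
    have h1 := h a
    rw [map_mul, map_inv] at h1
    rw [map_inv]
    have h2 : (χ a)⁻¹ * a * (χ a)⁻¹ * χ (χ a) = (χ a)⁻¹ * a * ((χ a)⁻¹ * χ (χ a)) := by group
    rw [h2, h1]; group

/-- `p`-stability of a fusion system, for all subgroups -/
def PSt (p : ℕ) (F : FusionSystem S) : Prop :=
  ∀ R ≤ S, ∀ χ : MulAut R, χ ∈ F.autGroup R → Quad χ → χ ∈ OL p (F.autGroup R)

theorem finA {R : Type v} [Group R] [Finite R] : Finite (MulAut R) :=
  Finite.of_injective (fun f : MulAut R => (f : R → R)) DFunLike.coe_injective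

theorem PSt.sub [Finite S] [Fact p.Prime] (h : PSt p F) {T : Subgroup Ω} {E : FusionSystem T} (hE : ∀ P f, Map E P f → Map F P f) :
    PSt p E := by
  intro R hR χ hχ hq
  have hRS : R ≤ S := (hE R id (map_id E hR)).le
  have : Finite R := finite_of_le hRS
  have : Finite (MulAut R) := finA
  have hle : E.autGroup R ≤ F.autGroup R := by
    intro α hα
    have h1 := (mem_autGroup_iff hR).1 hα
    exact (mem_autGroup_iff hRS).2 ⟨hE _ _ h1.map, h1.maps, h1.surj⟩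
  have h1 := h R hRS χ (hle hχ) hq
  refine le_OL (L := E.autGroup R) (N := OL p (F.autGroup R) ⊓ E.autGroup R) inf_le_right ?_ ?_ ⟨h1, hχ⟩
  · rintro g hg x ⟨hx, hx'⟩
    exact ⟨OL_conj _ g (hle hg) x hx, Subgroup.mul_mem _ (Subgroup.mul_mem _ hg hx') (Subgroup.inv_mem _ hg)⟩
  · exact (OL_pgroup (F.autGroup R)).to_le inf_le_left

theorem pst_transport [Finite S] [Fact p.Prime] {f : Ω → Ω} (hi : Iso F R Q f)
    (h : ∀ χ : MulAut Q, χ ∈ F.autGroup Q → Quad χ → χ ∈ OL p (F.autGroup Q)) :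
    ∀ χ : MulAut R, χ ∈ F.autGroup R → Quad χ → χ ∈ OL p (F.autGroup R) := by
  intro χ hχ hq
  have : Finite R := finite_of_le hi.le
  have : Finite Q := finite_of_le hi.le'
  have : Finite (MulAut R) := finA
  have : Finite (MulAut Q) := finA
  let e : R ≃* Q := hi.equiv
  let Φ : MulAut R ≃* MulAut Q := MulAut.congr e
  have hΦ : ∀ (α : MulAut R) (x : Q), Φ α x = e (α (e.symm x)) := fun α x => rfl
  have hm : (F.autGroup R).map Φ.toMonoidHom = F.autGroup Q := hi.map_autGroup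
  have h1 : Φ χ ∈ F.autGroup Q := by rw [← hm]; exact ⟨χ, hχ, rfl⟩
  have h2 : Quad (Φ χ) := by
    intro a
    rw [hΦ, hΦ]
    have := hq (e.symm a)
    rw [map_mul, map_inv, e.symm_apply_apply, this, map_mul, map_inv, e.apply_symm_apply]
  have h3 := h _ h1 h2
  have h4 : (OL p (F.autGroup Q)).comap Φ.toMonoidHom ≤ OL p (F.autGroup R) := by
    apply le_OL
    · intro α hα
      have : Φ α ∈ F.autGroup Q := OL_le _ hα
      rw [← hm] at this
      obtain ⟨β, hβ, hβα⟩ := this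
      have := Φ.injective hβα
      rw [← this]; exact hβ
    · intro g hg x hx
      show Φ (g * x * g⁻¹) ∈ OL p (F.autGroup Q)
      rw [map_mul, map_mul, map_inv]
      exact OL_conj _ _ (by rw [← hm]; exact ⟨g, hg, rfl⟩) _ hx
    · exact (OL_pgroup (F.autGroup Q)).comap_of_injective _ Φ.injective
  exact h4 h3

theorem pst_of_fn [Finite S] [Fact p.Prime]
    (h : ∀ Q : Subgroup Ω, F.IsFullyNormalized Q → ∀ χ : MulAut ↥Q, χ ∈ F.autGroup Q →
      (∀ a : ↥Q, (χ a⁻¹) * a * (χ a⁻¹) * (χ (χ a)) = 1) →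
      χ ∈ ((pCore p ↥(F.autGroup Q)).map (F.autGroup Q).subtype : Subgroup (MulAut ↥Q))) : PSt p F := by
  intro R hR
  obtain ⟨Q, hQ, hQf⟩ := exists_fullyNormalized F hR
  obtain ⟨f, hf⟩ := isConj_iff.1 hQ
  exact pst_transport hf fun χ hχ hq => h Q hQf χ hχ (quad_iff.2 hq)

theorem PSt.apply [Finite S] (h : PSt p F) {Q : Subgroup Ω} (hQ : Q ≤ S) {χ : MulAut ↥Q} (hχ : χ ∈ F.autGroup Q)
    (hq : ∀ a : ↥Q, (χ a⁻¹) * a * (χ a⁻¹) * (χ (χ a)) = 1) :
    χ ∈ ((pCore p ↥(F.autGroup Q)).map (F.autGroup Q).subtype : Subgroup (MulAut ↥Q)) := h Q hQ χ hχ (quad_iff.1 hq)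

/-- restriction relation -/
def Rst {R : Subgroup Ω} (N : Subgroup R) (g : MulAut R) (g' : MulAut ↥(N.map R.subtype)) : Prop :=
  ∀ (n : R) (hn : n ∈ N), g n ∈ N ∧ (g' ⟨n, ⟨n, hn, rfl⟩⟩ : Ω) = g n

theorem Rst.one {R : Subgroup Ω} (N : Subgroup R) : Rst N 1 1 := fun _ hn => ⟨hn, rfl⟩

theorem Rst.mul {R : Subgroup Ω} {N : Subgroup R} {g h : MulAut R} {g' h' : MulAut ↥(N.map R.subtype)} (hg : Rst N g g')
    (hh : Rst N h h') : Rst N (g * h) (g' * h') := by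
  intro n hn
  obtain ⟨h1, h2⟩ := hh n hn
  obtain ⟨h3, h4⟩ := hg (h n) h1
  refine ⟨h3, ?_⟩
  rw [MulAut.mul_apply, MulAut.mul_apply, ← h4]
  congr 2
  exact Subtype.ext h2

theorem Rst.inv {R : Subgroup Ω} {N : Subgroup R} {g : MulAut R} {g' : MulAut ↥(N.map R.subtype)} (hg : Rst N g g') :
    Rst N g⁻¹ g'⁻¹ := by
  intro n hn
  obtain ⟨m, hm⟩ := g'.surjective ⟨n, ⟨n, hn, rfl⟩⟩
  obtain ⟨k, hk, hkm⟩ := m.2
  have hmk : (⟨k, ⟨k, hk, rfl⟩⟩ : ↥(N.map R.subtype)) = m := Subtype.ext hkm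
  obtain ⟨h1, h2⟩ := hg k hk
  rw [hmk, hm] at h2
  have h3 : g k = n := Subtype.ext h2.symm
  have h4 : g⁻¹ n = k := by rw [← h3, MulAut.inv_apply_self]
  refine ⟨by rw [h4]; exact hk, ?_⟩
  have h5 : g'⁻¹ ⟨n, ⟨n, hn, rfl⟩⟩ = m := by rw [← hm, MulAut.inv_apply_self]
  rw [h5, h4]; exact hkm.symm

theorem Rst.pow {R : Subgroup Ω} {N : Subgroup R} {g : MulAut R} {g' : MulAut ↥(N.map R.subtype)} (hg : Rst N g g') (k : ℕ) :
    Rst N (g ^ k) (g' ^ k) := by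
  induction k with
  | zero => rw [pow_zero, pow_zero]; exact Rst.one N
  | succ k ih => rw [pow_succ, pow_succ]; exact ih.mul hg

theorem rst_closure {R : Subgroup Ω} {N : Subgroup R} {x y : MulAut R} {x' y' : MulAut ↥(N.map R.subtype)}
    (hx : Rst N x x') (hy : Rst N y y') {g : MulAut R} (hg : g ∈ Subgroup.closure {x, y}) :
    ∃ g' ∈ Subgroup.closure {x', y'}, Rst N g g' := by
  induction hg using Subgroup.closure_induction with
  | mem z hz =>
    rcases hz with rfl | hz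
    · exact ⟨x', Subgroup.subset_closure (Set.mem_insert _ _), hx⟩
    · rw [Set.mem_singleton_iff] at hz; subst hz
      exact ⟨y', Subgroup.subset_closure (Set.mem_insert_of_mem _ (Set.mem_singleton _)), hy⟩
  | one => exact ⟨1, Subgroup.one_mem _, Rst.one N⟩
  | mul a b _ _ ha hb =>
    obtain ⟨h1, h1m, e1⟩ := ha
    obtain ⟨h2, h2m, e2⟩ := hb
    exact ⟨h1 * h2, Subgroup.mul_mem _ h1m h2m, e1.mul e2⟩
  | inv a _ ha =>
    obtain ⟨h1, h1m, e1⟩ := ha
    exact ⟨h1⁻¹, Subgroup.inv_mem _ h1m, e1.inv⟩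

theorem exists_rst [Finite S] {R : Subgroup Ω} (hRS : R ≤ S) {N : Subgroup R} {g : MulAut R} (hg : g ∈ F.autGroup R)
    (hinv : ∀ n ∈ N, g n ∈ N) : ∃ g' ∈ F.autGroup (N.map R.subtype), Rst N g g' := by
  have : Finite R := finite_of_le hRS
  have hNR := Subgroup.map_subtype_le N
  have : Finite ↥(N.map R.subtype) := finite_of_le (hNR.trans hRS)
  have hi := (mem_autGroup_iff hRS).1 hg
  have hm : ∀ x ∈ N.map R.subtype, totA g x ∈ N.map R.subtype := by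
    rintro _ ⟨n, hn, rfl⟩
    exact ⟨g n, hinv n hn, (totA_apply g n).symm⟩
  have hi' : Iso F (N.map R.subtype) (N.map R.subtype) (totA g) := iso_of_card_le (hi.map.mono hNR) hm le_rfl
  refine ⟨hi'.aut, hi'.aut_mem, fun n hn => ⟨hinv n hn, ?_⟩⟩
  exact totA_apply g n

variable [Fact p.Prime] [Finite S]

theorem pair_pgroup (hp2 : p ≠ 2) (hS : IsPGroup p S) (hst : PSt p F) : ∀ (n : ℕ) (R : Subgroup Ω), Nat.card R = n → R ≤ S →
    ∀ x ∈ F.autGroup R, ∀ y ∈ F.autGroup R, ∀ Z : Subgroup R, Z.Normal → (∀ z ∈ Z, x z ∈ Z) → (∀ z ∈ Z, y z ∈ Z) →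
      (∀ g ∈ Subgroup.closure {x, y}, ∃ k, ∀ z ∈ Z, (g ^ (p ^ k)) z = z) →
      (∀ r : R, (r⁻¹ * x r)⁻¹ * x (r⁻¹ * x r) ∈ Z) → (∀ r : R, (r⁻¹ * y r)⁻¹ * y (r⁻¹ * y r) ∈ Z) →
      IsPGroup p (Subgroup.closure {x, y}) := by
  intro n
  induction n using Nat.strong_induction_on with
  | _ n ih =>
  intro R hRn hRS x hx y hy Z hZn hZx hZy hZp hqx hqy
  by_contra hnp
  have : Finite R := finite_of_le hRS
  have : Finite (MulAut R) := finA
  have hRp : IsPGroup p R := isPGroup_mono hS hRS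
  set X := Subgroup.closure ({x, y} : Set (MulAut R)) with hX
  have hXF : X ≤ F.autGroup R := by
    rw [hX, Subgroup.closure_le]
    rintro z (rfl | hz)
    · exact hx
    · rw [Set.mem_singleton_iff] at hz; subst hz; exact hy
  have hxX : x ∈ X := Subgroup.subset_closure (Set.mem_insert _ _)
  have hyX : y ∈ X := Subgroup.subset_closure (Set.mem_insert_of_mem _ (Set.mem_singleton _))
  -- invariance under generators
  have hinvX : ∀ N : Subgroup R, (∀ r ∈ N, x r ∈ N) → (∀ r ∈ N, y r ∈ N) → ∀ g ∈ X, ∀ r ∈ N, g r ∈ N := by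
    intro N h1 h2 g hg
    have hst : ∀ a : MulAut R, (∀ r ∈ N, a r ∈ N) → ∀ r ∈ N, a⁻¹ r ∈ N := by
      intro a ha r hr
      have hbij : Function.Bijective (fun z : N => (⟨a z, ha z z.2⟩ : N)) :=
        Finite.injective_iff_bijective.1 (fun z w h => Subtype.ext (a.injective (congrArg Subtype.val h)))
      obtain ⟨z, hz⟩ := hbij.2 ⟨r, hr⟩
      have : a z = r := congrArg Subtype.val hz
      rw [← this, MulAut.inv_apply_self]; exact z.2
    induction hg using Subgroup.closure_induction with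
    | mem z hz =>
      rcases hz with rfl | hz
      · exact h1
      · rw [Set.mem_singleton_iff] at hz; subst hz; exact h2
    | one => intro r hr; exact hr
    | mul a b _ _ ha hb => intro r hr; exact ha _ (hb _ hr)
    | inv a _ ha => exact hst a ha
  -- by induction the group acts as a p-group on proper invariant subgroups
  have hmin : ∀ N : Subgroup R, N ≠ ⊤ → (∀ g ∈ X, ∀ r ∈ N, g r ∈ N) → ∀ g ∈ X, ∃ k, ∀ r ∈ N, (g ^ (p ^ k)) r = r := by
    intro N hN hNinv g hg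
    obtain ⟨x', hx', hrx⟩ := exists_rst hRS hx (hNinv x hxX)
    obtain ⟨y', hy', hry⟩ := exists_rst hRS hy (hNinv y hyX)
    have hlt : Nat.card ↥(N.map R.subtype) < n := by
      rw [← hRn, Subgroup.card_map_of_injective R.subtype_injective]
      have h1 : N < ⊤ := lt_of_le_of_ne le_top hN
      have := card_lt_of_lt h1
      rwa [Subgroup.card_top] at this
    let Z' : Subgroup ↥(N.map R.subtype) := (Z.map R.subtype).subgroupOf (N.map R.subtype)
    have hZ' : ∀ (r : R) (hr : r ∈ N), (⟨r, ⟨r, hr, rfl⟩⟩ : ↥(N.map R.subtype)) ∈ Z' ↔ r ∈ Z := by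
      intro r hr
      rw [Subgroup.mem_subgroupOf]
      constructor
      · rintro ⟨z, hz, hzr⟩
        have : z = r := Subtype.ext hzr
        rw [← this]; exact hz
      · intro h; exact ⟨r, h, rfl⟩
    have hval : ∀ (a : MulAut R) (a' : MulAut ↥(N.map R.subtype)), Rst N a a' → ∀ (r : R) (hr : r ∈ N),
        ∃ h : a r ∈ N, a' ⟨r, ⟨r, hr, rfl⟩⟩ = ⟨a r, ⟨a r, h, rfl⟩⟩ := by
      intro a a' h r hr
      obtain ⟨h1, h2⟩ := h r hr
      exact ⟨h1, Subtype.ext h2⟩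
    have hsurj : ∀ m : ↥(N.map R.subtype), ∃ (r : R) (hr : r ∈ N), m = ⟨r, ⟨r, hr, rfl⟩⟩ := by
      intro m
      obtain ⟨r, hr, hrm⟩ := m.2
      exact ⟨r, hr, Subtype.ext hrm.symm⟩
    have hq' : ∀ (a : MulAut R) (a' : MulAut ↥(N.map R.subtype)), Rst N a a' →
        (∀ r : R, (r⁻¹ * a r)⁻¹ * a (r⁻¹ * a r) ∈ Z) → ∀ m, (m⁻¹ * a' m)⁻¹ * a' (m⁻¹ * a' m) ∈ Z' := by
      intro a a' h hq m
      obtain ⟨r, hr, rfl⟩ := hsurj m
      obtain ⟨h1, h2⟩ := hval a a' h r hr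
      rw [h2]
      have h3 : r⁻¹ * a r ∈ N := N.mul_mem (N.inv_mem hr) h1
      have h4 : (⟨r, ⟨r, hr, rfl⟩⟩ : ↥(N.map R.subtype))⁻¹ * ⟨a r, ⟨a r, h1, rfl⟩⟩ = ⟨(r⁻¹ * a r : R), ⟨_, h3, rfl⟩⟩ := rfl
      rw [h4]
      obtain ⟨h5, h6⟩ := hval a a' h _ h3
      rw [h6]
      exact (hZ' _ (N.mul_mem (N.inv_mem h3) h5)).2 (hq r)
    have hinv' : ∀ (a : MulAut R) (a' : MulAut ↥(N.map R.subtype)), Rst N a a' → (∀ z ∈ Z, a z ∈ Z) →
        ∀ z ∈ Z', a' z ∈ Z' := by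
      intro a a' h hz m hm
      obtain ⟨r, hr, rfl⟩ := hsurj m
      obtain ⟨h1, h2⟩ := hval a a' h r hr
      rw [h2]
      exact (hZ' _ h1).2 (hz _ ((hZ' r hr).1 hm))
    have hcl : ∀ g' ∈ Subgroup.closure {x', y'}, ∃ g ∈ X, Rst N g g' := by
      intro g' hg'
      induction hg' using Subgroup.closure_induction with
      | mem z hz =>
        rcases hz with rfl | hz
        · exact ⟨x, hxX, hrx⟩
        · rw [Set.mem_singleton_iff] at hz; subst hz; exact ⟨y, hyX, hry⟩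
      | one => exact ⟨1, Subgroup.one_mem _, Rst.one N⟩
      | mul a b _ _ ha hb =>
        obtain ⟨h1, h1m, e1⟩ := ha
        obtain ⟨h2, h2m, e2⟩ := hb
        exact ⟨h1 * h2, Subgroup.mul_mem _ h1m h2m, e1.mul e2⟩
      | inv a _ ha =>
        obtain ⟨h1, h1m, e1⟩ := ha
        exact ⟨h1⁻¹, Subgroup.inv_mem _ h1m, e1.inv⟩
    have hP := ih _ hlt (N.map R.subtype) rfl ((Subgroup.map_subtype_le N).trans hRS) x' hx' y' hy' Z' (by
        have : (Z.map R.subtype).subgroupOf (N.map R.subtype) = Z' := rfl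
        refine ⟨fun z hz m => ?_⟩
        obtain ⟨r, hr, rfl⟩ := hsurj z
        obtain ⟨s, hs, rfl⟩ := hsurj m
        exact (hZ' (s * r * s⁻¹) (N.mul_mem (N.mul_mem hs hr) (N.inv_mem hs))).2 (hZn.conj_mem r ((hZ' r hr).1 hz) s))
      (hinv' x x' hrx hZx) (hinv' y y' hry hZy) (by
        intro g' hg'
        obtain ⟨g, hg, hr⟩ := hcl g' hg'
        obtain ⟨k, hk⟩ := hZp g hg
        refine ⟨k, fun z hz => ?_⟩
        obtain ⟨r, hr', rfl⟩ := hsurj z
        obtain ⟨h1, h2⟩ := hval _ _ (hr.pow (p ^ k)) r hr'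
        rw [h2]
        have := hk r ((hZ' r hr').1 hz)
        exact Subtype.ext (show (((g ^ p ^ k) r : R) : Ω) = r from congrArg Subtype.val this)) (hq' x x' hrx hqx) (hq' y y' hry hqy)
    obtain ⟨g', hg', hr⟩ := rst_closure hrx hry hg
    obtain ⟨k, hk⟩ := hP ⟨g', hg'⟩
    have hk' : g' ^ (p ^ k) = 1 := congrArg Subtype.val hk
    refine ⟨k, fun r hr' => ?_⟩
    obtain ⟨h1, h2⟩ := (hr.pow (p ^ k)) r hr'
    rw [hk'] at h2
    exact Subtype.ext h2.symm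
  -- the maximal invariant normal subgroup
  have hnp' : ∃ g ∈ X, ∀ k, g ^ (p ^ k) ≠ 1 := by
    by_contra hcon
    push Not at hcon
    apply hnp
    rintro ⟨g, hg⟩
    obtain ⟨k, hk⟩ := hcon g hg
    exact ⟨k, Subtype.ext hk⟩
  let 𝒮 : Set (Subgroup R) := {N | N.Normal ∧ N ≠ ⊤ ∧ ∀ g ∈ X, ∀ r ∈ N, g r ∈ N}
  have hRnt : (⊥ : Subgroup R) ≠ ⊤ := by
    intro h
    obtain ⟨g, hg, hgk⟩ := hnp'
    apply hgk 0
    ext r
    have h1 : ∀ r : R, r = 1 := fun r => by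
      have : r ∈ (⊥ : Subgroup R) := by rw [h]; trivial
      exact Subgroup.mem_bot.1 this
    rw [h1 ((g ^ p ^ 0) r), h1 ((1 : MulAut R) r)]
  have hne : 𝒮.Nonempty := ⟨⊥, inferInstance, hRnt, fun g hg r hr => by
    rw [Subgroup.mem_bot] at hr ⊢; rw [hr, map_one]⟩
  obtain ⟨M, hMm⟩ := (Set.toFinite 𝒮).exists_maximal hne
  obtain ⟨⟨hMn, hMt, hMinv⟩, hMmax⟩ := hMm
  have hZinv := hinvX Z hZx hZy
  have hZM : Z ≤ M := by
    by_contra hZM
    have h1 : (M ⊔ Z) = ⊤ := by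
      by_contra hne2
      have hmem : (M ⊔ Z) ∈ 𝒮 := by
        refine ⟨Subgroup.sup_normal M Z, hne2, fun g hg r hr => ?_⟩
        obtain ⟨m, hm, z, hz, rfl⟩ := Subgroup.mem_sup_of_normal_left.1 hr
        rw [map_mul]
        exact Subgroup.mul_mem_sup (hMinv g hg m hm) (hZinv g hg z hz)
      exact hZM (le_sup_right.trans (hMmax hmem le_sup_left))
    obtain ⟨g, hg, hgk⟩ := hnp'
    obtain ⟨k1, hk1⟩ := hmin M hMt hMinv g hg
    obtain ⟨k2, hk2⟩ := hZp g hg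
    apply hgk (k1 + k2)
    have hpw : ∀ (a : MulAut R) (r : R), a r = r → ∀ j : ℕ, (a ^ j) r = r := by
      intro a r h j
      induction j with
      | zero => rfl
      | succ j ih => rw [pow_succ, MulAut.mul_apply, h, ih]
    ext r
    have hr : r ∈ M ⊔ Z := by rw [h1]; trivial
    obtain ⟨m, hm, z, hz, rfl⟩ := Subgroup.mem_sup_of_normal_left.1 hr
    rw [map_mul]
    have e1 : (g ^ p ^ (k1 + k2)) m = m := by rw [pow_add, pow_mul]; exact hpw _ _ (hk1 m hm) _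
    have e2 : (g ^ p ^ (k1 + k2)) z = z := by rw [pow_add, mul_comm, pow_mul]; exact hpw _ _ (hk2 z hz) _
    rw [e1, e2]; rfl
  let x₀ : X := ⟨x, hxX⟩
  let y₀ : X := ⟨y, hyX⟩
  have hgen : Subgroup.closure {x₀, y₀} = ⊤ := by
    have h1 : (Subgroup.closure {x₀, y₀}).map X.subtype = X := by
      rw [MonoidHom.map_closure, Set.image_pair]
      rfl
    apply Subgroup.map_injective X.subtype_injective
    rw [h1, ← MonoidHom.range_eq_map, Subgroup.range_subtype]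
  have hsm : ∀ (g : X) (r : R), g • r = g.1 r := fun g r => rfl
  obtain ⟨R₁, c, d, hc1, hd1, hc2, hd2, h, hh, hhk⟩ := lemQ (R := R) (X := X) (p := p) hp2 hRp hgen
    (fun g hg => Subtype.ext (by ext r; exact congrArg Subtype.val (hg r))) M (hMn := hMn) hMt (fun g m hm => hMinv g g.2 m hm)
    (fun N hN hMN hinv => by
      by_cases hNt : N = ⊤
      · exact Or.inr hNt
      · exact Or.inl (le_antisymm (hMmax ⟨hN, hNt, fun g hg r hr => hinv ⟨g, hg⟩ r hr⟩ hMN) hMN))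
    (fun N hN hinv g => by
      obtain ⟨k, hk⟩ := hmin N hN (fun g hg r hr => hinv ⟨g, hg⟩ r hr) g g.2
      exact ⟨k, hk⟩)
    (fun r => hZM (hqx r)) (fun r => hZM (hqy r)) (by
      obtain ⟨g, hg, hgk⟩ := hnp'
      exact ⟨⟨g, hg⟩, fun k hk => hgk k (congrArg Subtype.val hk)⟩)
  obtain ⟨c', hc', hrc⟩ := exists_rst hRS (hXF c.2) hc1
  obtain ⟨d', hd', hrd⟩ := exists_rst hRS (hXF d.2) hd1
  have hR1S : R₁.map R.subtype ≤ S := (Subgroup.map_subtype_le R₁).trans hRS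
  have : Finite ↥(R₁.map R.subtype) := finite_of_le hR1S
  have : Finite (MulAut ↥(R₁.map R.subtype)) := finA
  have hqd : ∀ (a : MulAut R) (a' : MulAut ↥(R₁.map R.subtype)), Rst R₁ a a' → (∀ r ∈ R₁, a (r⁻¹ * a r) = r⁻¹ * a r) →
      Quad a' := by
    intro a a' ha hq m
    obtain ⟨r, hr, hrm⟩ := m.2
    have hm : m = ⟨r, ⟨r, hr, rfl⟩⟩ := Subtype.ext hrm.symm
    subst hm
    obtain ⟨h1, h2⟩ := ha r hr
    have h3 : a' ⟨r, ⟨r, hr, rfl⟩⟩ = ⟨a r, ⟨a r, h1, rfl⟩⟩ := Subtype.ext h2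
    rw [h3]
    have h4 : r⁻¹ * a r ∈ R₁ := R₁.mul_mem (R₁.inv_mem hr) h1
    obtain ⟨h5, h6⟩ := ha _ h4
    refine Subtype.ext ?_
    refine h6.trans ?_
    rw [hq r hr]; rfl
  have hcO := hst _ hR1S c' hc' (hqd _ _ hrc hc2)
  have hdO := hst _ hR1S d' hd' (hqd _ _ hrd hd2)
  have hcl : h.1 ∈ Subgroup.closure {c.1, d.1} := by
    have h1 : (Subgroup.closure {c, d}).map X.subtype = Subgroup.closure {c.1, d.1} := by
      rw [MonoidHom.map_closure, Set.image_pair]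
      rfl
    rw [← h1]; exact ⟨h, hh, rfl⟩
  obtain ⟨h', hh', hrh⟩ := rst_closure hrc hrd hcl
  have hh'O : h' ∈ OL p (F.autGroup (R₁.map R.subtype)) := by
    refine (Subgroup.closure_le _).2 ?_ hh'
    rintro z (rfl | hz)
    · exact hcO
    · rw [Set.mem_singleton_iff] at hz; subst hz; exact hdO
  obtain ⟨k, hk⟩ := OL_pgroup (F.autGroup (R₁.map R.subtype)) ⟨h', hh'O⟩
  have hk' : h' ^ (p ^ k) = 1 := congrArg Subtype.val hk
  obtain ⟨r, hr, hrne⟩ := hhk k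
  apply hrne
  obtain ⟨h1, h2⟩ := (hrh.pow (p ^ k)) r hr
  rw [hk'] at h2
  exact Subtype.ext h2.symm

end defs

end Cfsg.Agent.H1.Ps
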