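import Mathlib
import Cfsg.Agent.H1_PsD
import Cfsg.Agent.H2_ZJ

set_option autoImplicit false

/-! `p`-stable fusion systems: quotients, the constrained case, `Z(J(S))`. -/

namespace Cfsg.Agent.H1.Ps

open Cfsg Cfsg.FusionSystem Cfsg.Agent.H27.Fus Cfsg.Agent.H27.Grp Cfsg.Agent.H1.QdA Cfsg.Agent.H12.ZJ
open scoped commutatorElement

universe u v w

section quo

theorem quad_pow {R : Type v} [Group R] [Finite R] {p : ℕ} [Fact p.Prime] (hR : IsPGroup p R) {χ : MulAut R} (hq : Quad χ) :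
    ∃ k, χ ^ (p ^ k) = 1 := by
  obtain ⟨k, hk⟩ := IsPGroup.iff_card.1 hR
  refine ⟨k, ?_⟩
  ext a
  have key : ∀ n : ℕ, (χ ^ n) a = a * (a⁻¹ * χ a) ^ n := by
    intro n
    induction n with
    | zero => simp
    | succ n ih =>
      have h1 : ∀ m : ℕ, χ ((a⁻¹ * χ a) ^ m) = (a⁻¹ * χ a) ^ m := fun m => by rw [map_pow, hq a]
      rw [pow_succ', MulAut.mul_apply, ih, map_mul, h1, pow_succ', ← mul_assoc, mul_inv_cancel_left]
  rw [key, ← hk, pow_card_eq_one', mul_one]; rfl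

theorem Quad.conj {R : Type v} [Group R] {χ : MulAut R} (h : Quad χ) (a : MulAut R) : Quad (a * χ * a⁻¹) := by
  intro r
  have h1 := h (a⁻¹ r)
  simp only [MulAut.mul_apply]
  rw [map_mul a⁻¹, map_inv a⁻¹, MulAut.inv_apply_self, h1, map_mul a, map_inv a, MulAut.apply_inv_self]

variable {Ω : Type u} [Group Ω] {S T P Q R : Subgroup Ω} {F : FusionSystem S} {p : ℕ} [Fact p.Prime] [Finite S]
variable {Ω' : Type v} [Group Ω'] {S' : Subgroup Ω'} {θ : S →* Ω'} {E : FusionSystem S'}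

theorem pst_quo (hp2 : p ≠ 2) (hS : IsPGroup p S) (hQ : F.IsNormal Q) (hsc : ∀ P f, Map F P f → SCmap F Q P f)
    (hE : F.IsFactorSystem Q θ E) (hst : PSt p F) : PSt p E := by
  intro R' hR' χ' hχ' hq
  obtain ⟨hd, hm⟩ := isFactorSystem_iff.1 hE
  have hQs := IsNormal.strong hQ
  have hQS : Q ≤ S := hQs.1
  have : Finite S' := finite_S' hd
  have hS' : IsPGroup p S' := isPGroup_S' hd hS
  have : Finite R' := finite_of_le hR'
  have : Finite (MulAut R') := finA
  set R := preimageAlong θ R' with hRdef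
  have hRS : R ≤ S := preimageAlong_le _ _
  have hQR : Q ≤ R := hd.le_pre R'
  have : Finite R := finite_of_le hRS
  have hmap := map_quoHom_autGroup hE hd hQs hR'
  -- the pair lemma downstairs
  have pair : ∀ a' ∈ E.autGroup R', IsPGroup p (Subgroup.closure {χ', a' * χ' * a'⁻¹}) := by
    intro a' ha'
    set ψ' := a' * χ' * a'⁻¹ with hψ'
    have hψE : ψ' ∈ E.autGroup R' := Subgroup.mul_mem _ (Subgroup.mul_mem _ ha' hχ') (Subgroup.inv_mem _ ha')
    have hψq : Quad ψ' := hq.conj a'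
    have hx : χ' ∈ ((F.autGroup R).subgroupOf (StA R Q)).map (quoHom hd hR') := by rw [hmap]; exact hχ'
    have hy : ψ' ∈ ((F.autGroup R).subgroupOf (StA R Q)).map (quoHom hd hR') := by rw [hmap]; exact hψE
    obtain ⟨x, hxF, hxχ⟩ := hx
    obtain ⟨y, hyF, hyψ⟩ := hy
    have hprZ : ∀ r : R, pr θ R' r = 1 → r ∈ Q.subgroupOf R := by
      intro r hr
      have h1 : tt θ r = tt θ 1 := by rw [tt_one]; exact congrArg Subtype.val hr
      rw [hd.eq_iff (hRS r.2) S.one_mem] at h1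
      rw [Subgroup.mem_subgroupOf]
      simpa using h1
    have hqz : ∀ (z : StA R Q) (χ : MulAut R'), quoHom hd hR' z = χ → Quad χ → ∀ r : R,
        (r⁻¹ * z.1 r)⁻¹ * z.1 (r⁻¹ * z.1 r) ∈ Q.subgroupOf R := by
      intro z χ hz hχq r
      apply hprZ
      have h1 : ∀ r, pr θ R' (z.1 r) = χ (pr θ R' r) := fun r => by rw [← hz, quoHom_apply]
      rw [map_mul, map_inv, h1, map_mul (pr θ R') r⁻¹, map_inv, h1, hχq, inv_mul_cancel]
    have hzinv : ∀ z : StA R Q, ∀ r ∈ Q.subgroupOf R, z.1 r ∈ Q.subgroupOf R := by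
      intro z r hr
      rw [Subgroup.mem_subgroupOf] at hr ⊢
      exact (z.2 r).2 hr
    have hZn : (Q.subgroupOf R).Normal := by
      refine ⟨fun z hz r => ?_⟩
      rw [Subgroup.mem_subgroupOf] at hz ⊢
      exact StronglyClosed.conj_mem hQs (hRS r.2) hz
    have hxF' : x.1 ∈ F.autGroup R := hxF
    have hyF' : y.1 ∈ F.autGroup R := hyF
    have hP := pair_pgroup hp2 hS hst _ R rfl hRS x.1 hxF' y.1 hyF' (Q.subgroupOf R) hZn (hzinv x) (hzinv y) (by
      intro g hg
      have hgF : g ∈ F.autGroup R := by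
        refine (Subgroup.closure_le _).2 ?_ hg
        rintro z (rfl | hz)
        · exact hxF'
        · rw [Set.mem_singleton_iff] at hz; subst hz; exact hyF'
      have hi := (mem_autGroup_iff hRS).1 hgF
      obtain ⟨g2, hg2, hg2e, s, hs, hsx⟩ := hsc R _ hi.map
      have hgs : ∀ z ∈ Q.subgroupOf R, (g z : Ω) = s * z * s⁻¹ := by
        intro z hz
        rw [Subgroup.mem_subgroupOf] at hz
        rw [← totA_apply, ← hg2e z z.2, hsx z hz]
      obtain ⟨k, hk⟩ := hS ⟨s, hs⟩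
      have hk' : s ^ (p ^ k) = 1 := congrArg Subtype.val hk
      refine ⟨k, fun z hz => ?_⟩
      have key : ∀ n : ℕ, ∀ z ∈ Q.subgroupOf R, (g ^ n) z ∈ Q.subgroupOf R ∧ ((g ^ n) z : Ω) = s ^ n * z * (s ^ n)⁻¹ := by
        intro n
        induction n with
        | zero => intro z hz; exact ⟨hz, by simp⟩
        | succ n ih =>
          intro z hz
          have hgz : g z ∈ Q.subgroupOf R := by
            rw [Subgroup.mem_subgroupOf] at hz ⊢
            rw [hgs z hz]
            exact StronglyClosed.conj_mem hQs hs hz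
          obtain ⟨h1, h2⟩ := ih _ hgz
          rw [pow_succ, MulAut.mul_apply]
          refine ⟨h1, ?_⟩
          rw [h2, hgs z hz, pow_succ]; group
      obtain ⟨-, h2⟩ := key (p ^ k) z hz
      rw [hk'] at h2
      exact Subtype.ext (by rw [h2]; simp)) (hqz x χ' hxχ hq) (hqz y ψ' hyψ hψq)
    rintro ⟨g', hg'⟩
    have hcl : ∃ g ∈ Subgroup.closure {x, y}, quoHom hd hR' g = g' := by
      have h1 : (Subgroup.closure {x, y}).map (quoHom hd hR') = Subgroup.closure {χ', ψ'} := by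
        rw [MonoidHom.map_closure, Set.image_pair, hxχ, hyψ]
      rw [← h1] at hg'
      exact hg'
    obtain ⟨g, hg, hgg⟩ := hcl
    have hg1 : g.1 ∈ Subgroup.closure {x.1, y.1} := by
      have h1 : (Subgroup.closure {x, y}).map (StA R Q).subtype = Subgroup.closure {x.1, y.1} := by
        rw [MonoidHom.map_closure, Set.image_pair]; rfl
      rw [← h1]; exact ⟨g, hg, rfl⟩
    obtain ⟨k, hk⟩ := hP ⟨g.1, hg1⟩
    have hk0 : g.1 ^ (p ^ k) = 1 := congrArg Subtype.val hk
    have hk' : g ^ (p ^ k) = 1 := Subtype.ext hk0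
    refine ⟨k, Subtype.ext ?_⟩
    show g' ^ (p ^ k) = 1
    rw [← hgg, ← map_pow, hk', map_one]
  -- Baer-Suzuki
  let A := E.autGroup R'
  let χ₀ : A := ⟨χ', hχ'⟩
  have hXp : IsPGroup p (Subgroup.zpowers χ₀) := by
    obtain ⟨k, hk⟩ := quad_pow (p := p) (isPGroup_mono hS' hR') hq
    have hk0 : χ₀ ^ (p ^ k) = 1 := Subtype.ext hk
    rintro ⟨_, j, rfl⟩
    refine ⟨k, Subtype.ext ?_⟩
    show (χ₀ ^ j) ^ (p ^ k) = 1
    rw [← zpow_natCast, ← zpow_mul, mul_comm, zpow_mul, zpow_natCast, hk0, one_zpow]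
  obtain ⟨N, hNn, hNp, hXN⟩ := Cfsg.Agent.H4.BaerSuzuki.baer_suzuki (Subgroup.zpowers χ₀) hXp (fun a => by
    have hle : Subgroup.zpowers χ₀ ⊔ (Subgroup.zpowers χ₀).map (MulAut.conj a).toMonoidHom ≤
        (Subgroup.closure {χ', a.1 * χ' * a.1⁻¹}).comap A.subtype := by
      apply sup_le
      · rw [Subgroup.zpowers_le]
        exact Subgroup.subset_closure (Set.mem_insert _ _)
      · rw [MonoidHom.map_zpowers, Subgroup.zpowers_le]
        refine Subgroup.subset_closure (Set.mem_insert_of_mem _ (Set.mem_singleton_iff.2 ?_))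
        rfl
    exact ((pair a.1 a.2).comap_of_injective A.subtype A.subtype_injective).to_le hle)
  refine ⟨χ₀, ?_, rfl⟩
  exact Cfsg.Agent.H1.Nilp.le_pCore hNn hNp (hXN (Subgroup.mem_zpowers χ₀))

end quo

section con

variable {Ω : Type u} [Group Ω] {S T P Q R : Subgroup Ω} {F : FusionSystem S} {p : ℕ} [Fact p.Prime] [Finite S]

theorem grp_ZJ {G : Type v} [Group G] [Finite G] (hp2 : p ≠ 2) (hc : Subgroup.centralizer (pCore p G : Set G) ≤ pCore p G)
    (hst : ∀ (B : Subgroup G) [B.Normal], IsPGroup p B → IsPStableOn p B) (T : Sylow p G) :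
    (centerThompsonAOf (T : Subgroup G)).Normal := by
  rw [H2.ZJ.centerThompsonAOf_eq]
  apply H2.ZJ.normal hp2 hc
  intro B hB hBp
  exact H2.ZJ.stab_of_stableOn (hst B hBp)

omit [Finite S] in
theorem normal_le_sylow {G : Type v} [Group G] [Finite G] {B : Subgroup G} (hBn : B.Normal) (hB : IsPGroup p B) (T : Sylow p G) :
    B ≤ (T : Subgroup G) := by
  obtain ⟨P, hP⟩ := hB.exists_le_sylow
  obtain ⟨g, hg⟩ := MulAction.exists_smul_eq G P T
  intro b hb
  rw [← hg, Sylow.coe_subgroup_smul, Subgroup.mem_pointwise_smul_iff_inv_smul_mem]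
  apply hP
  have := hBn.conj_mem b hb g⁻¹
  rwa [inv_inv] at this

/-- models of `p`-stable systems act `p`-stably on normal `p`-subgroups -/
theorem model_stable {G : Type v} [Group G] {ι : S →* G} (hMD : MD F p Q G ι) (hst : PSt p F) (B : Subgroup G) [hBn : B.Normal]
    (hB : IsPGroup p B) : IsPStableOn p B := by
  have := hMD.fin
  obtain ⟨T, hT⟩ := hMD.syl
  have hBT : B ≤ ι.range := by
    rw [← hT]; exact normal_le_sylow hBn hB T
  -- R corresponds to B
  let R : Subgroup Ω := (B.comap ι).map S.subtype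
  have hRS : R ≤ S := Subgroup.map_subtype_le _
  have hR : ∀ x, x ∈ R ↔ x ∈ S ∧ tt ι x ∈ B := by
    intro x
    constructor
    · rintro ⟨s, hs, rfl⟩
      exact ⟨s.2, by rw [show (S.subtype s) = (s : Ω) from rfl, tt_apply]; exact hs⟩
    · rintro ⟨h1, h2⟩
      refine ⟨⟨x, h1⟩, ?_, rfl⟩
      rw [tt_of_mem ι h1] at h2
      exact h2
  have hRB : ∀ b ∈ B, ∃ x ∈ R, tt ι x = b := by
    intro b hb
    obtain ⟨x, hx, hxb⟩ := mem_range_iff.1 (hBT hb)
    exact ⟨x, (hR x).2 ⟨hx, by rw [hxb]; exact hb⟩, hxb⟩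
  have : Finite R := finite_of_le hRS
  have : Finite (MulAut R) := finA
  let e₀ : R →* B :=
    { toFun := fun x => ⟨tt ι x, ((hR x).1 x.2).2⟩
      map_one' := Subtype.ext (tt_one ι)
      map_mul' := fun x y => Subtype.ext (tt_mul ι (hRS x.2) (hRS y.2)) }
  have he₀ : Function.Bijective e₀ := by
    constructor
    · intro x y hxy
      exact Subtype.ext (tt_inj hMD.inj (hRS x.2) (hRS y.2) (congrArg Subtype.val hxy))
    · rintro ⟨b, hb⟩
      obtain ⟨x, hx, hxb⟩ := hRB b hb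
      exact ⟨⟨x, hx⟩, Subtype.ext hxb⟩
  let e : R ≃* B := MulEquiv.ofBijective e₀ he₀
  have he : ∀ x : R, (e x : G) = tt ι x := fun x => rfl
  let ψ : G →* MulAut R := (MulAut.congr e.symm).toMonoidHom.comp MulAut.conjNormal
  have hψ : ∀ (g : G) (x : R), tt ι (ψ g x) = g * tt ι x * g⁻¹ := by
    intro g x
    have h1 : ψ g x = e.symm (MulAut.conjNormal g (e x)) := rfl
    rw [← he, h1, e.apply_symm_apply, MulAut.conjNormal_apply, he]
  have hψF : ∀ g : G, ψ g ∈ F.autGroup R := by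
    intro g
    obtain ⟨f, hf, hfx⟩ := md_exists_map hMD hRS (g := g) (fun x hx => by
      refine ⟨ψ g ⟨x, hx⟩, hRS (ψ g ⟨x, hx⟩).2, hψ g ⟨x, hx⟩⟩)
    refine mem_autGroup_of hf fun x => ?_
    apply tt_inj hMD.inj (hRS (ψ g x).2) (hf.mem x.2)
    rw [hψ, hfx x x.2]
  have hker : ∀ g : G, ψ g = 1 ↔ g ∈ Subgroup.centralizer (B : Set G) := by
    intro g
    rw [Subgroup.mem_centralizer_iff]
    constructor
    · intro h b hb
      obtain ⟨x, hx, rfl⟩ := hRB b hb
      have h1 := hψ g ⟨x, hx⟩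
      rw [h] at h1
      have h2 : tt ι x = g * tt ι x * g⁻¹ := h1
      nth_rewrite 1 [h2]; group
    · intro h
      ext x
      have h1 := hψ g x
      apply tt_inj hMD.inj (hRS (ψ g x).2) (hRS x.2)
      rw [h1, ← h _ ((hR x).1 x.2).2]; group
  intro a ha
  have hq : Quad (ψ a) := by
    intro r
    have h1 : r⁻¹ * ψ a r = e.symm ((e r)⁻¹ * MulAut.conjNormal a (e r)) := by
      rw [map_mul, map_inv, e.symm_apply_apply]; rfl
    apply Subtype.ext
    apply tt_inj hMD.inj (hRS (Subtype.prop _)) (hRS (Subtype.prop _))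
    rw [hψ]
    have h2 : tt ι (r⁻¹ * ψ a r : R) = (tt ι r)⁻¹ * (a * tt ι r * a⁻¹) := by
      rw [← hψ a r, ← tt_inv ι (hRS r.2), ← tt_mul ι (S.inv_mem (hRS r.2)) (hRS (ψ a r).2)]
      rfl
    rw [h2]
    set b := tt ι r with hb
    have hbB : b ∈ B := ((hR r).1 r.2).2
    have h3 : ⁅b⁻¹, a⁆ ∈ ⁅B, Subgroup.zpowers a⁆ :=
      Subgroup.commutator_mem_commutator (B.inv_mem hbB) (Subgroup.mem_zpowers a)
    have h4 : ⁅⁅b⁻¹, a⁆, a⁆ ∈ ⁅⁅B, Subgroup.zpowers a⁆, Subgroup.zpowers a⁆ :=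
      Subgroup.commutator_mem_commutator h3 (Subgroup.mem_zpowers a)
    rw [ha, Subgroup.mem_bot, commutatorElement_eq_one_iff_mul_comm, commutatorElement_def, inv_inv] at h4
    have h5 : b⁻¹ * (a * b * a⁻¹) = b⁻¹ * a * b * a⁻¹ := by group
    rw [h5, ← h4]; group
  have hO := hst R hRS (ψ a) (hψF a) hq
  let N : Subgroup G := (OL p (F.autGroup R)).comap ψ
  have hNn : N.Normal := by
    refine ⟨fun n hn g => ?_⟩
    show ψ (g * n * g⁻¹) ∈ OL p (F.autGroup R)
    rw [map_mul, map_mul, map_inv]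
    exact OL_conj _ _ (hψF g) _ hn
  have hN' : (N.map (QuotientGroup.mk' (Subgroup.centralizer (B : Set G)))).Normal :=
    hNn.map _ (QuotientGroup.mk'_surjective _)
  have hNp : IsPGroup p (N.map (QuotientGroup.mk' (Subgroup.centralizer (B : Set G)))) := by
    rintro ⟨_, n, hn, rfl⟩
    obtain ⟨k, hk⟩ := OL_pgroup (F.autGroup R) ⟨ψ n, hn⟩
    have hk' : ψ n ^ (p ^ k) = 1 := congrArg Subtype.val hk
    rw [← map_pow, hker] at hk'
    refine ⟨k, Subtype.ext ?_⟩
    show (QuotientGroup.mk' (Subgroup.centralizer (B : Set G)) n) ^ (p ^ k) = 1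
    rw [← map_pow]
    exact (QuotientGroup.eq_one_iff _).2 hk'
  exact Cfsg.Agent.H1.Nilp.le_pCore hN' hNp ⟨a, hO, rfl⟩

theorem con_ZJ (hp2 : p ≠ 2) {G : Type v} [Group G] {ι : S →* G} (hMD : MD F p Q G ι) (hst : PSt p F)
    (hc : Subgroup.centralizer (pCore p G : Set G) ≤ pCore p G) : F.IsNormal (ZJJ 0 S) := by
  have := hMD.fin
  obtain ⟨T, hT⟩ := hMD.syl
  have hn := grp_ZJ hp2 hc (fun B _ hB => model_stable hMD hst B hB) T
  rw [hT, H27.Fus.centerAOf_eq] at hn
  have hmem : ∀ y, y ∈ ZJJ 0 ι.range ↔ ∃ x ∈ ZJJ 0 S, tt ι x = y := by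
    intro y
    have h1 := ZJJ_tt (n := 0) hMD.inj (D := S) le_rfl (y := y)
    rw [Subgroup.subgroupOf_self, ← MonoidHom.range_eq_map] at h1
    exact h1
  refine hMD.normal_of_nor (ZJJ_le 0 S) fun g x hx => ?_
  exact (hmem _).1 (hn.conj_mem _ ((hmem _).2 ⟨x, hx, rfl⟩) g)

end con

section final

/-- In a `p`-stable saturated fusion system, `p` odd, `Z(J(S))` is normal. -/
theorem pst_normal {p : ℕ} [Fact p.Prime] (hp2 : p ≠ 2) :
    ∀ {Ω : Type u} [Group Ω] (S : Subgroup Ω) [Finite S] (F : FusionSystem S), IsPGroup p S → F.IsSaturated p →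
      PSt p F → F.IsNormal (ZJJ 0 S) := by
  apply sat_induction
  intro Ω _ S _ F hS hF IH1 IH2 hst
  have hp0 : p ∣ 0 := dvd_zero p
  have key : ∀ P f, Map F P f → ∃ g, Map F (P ⊔ ZJJ 0 S) g ∧ (∀ x ∈ P, g x = f x) ∧ im (ZJJ 0 S) g = ZJJ 0 S := by
    refine reduceK hS hF (subCls_ext F (ZJJ 0 S) (ZJJ_le 0 S)) (ZJJ 0) (fun R _ => ZJJ_le 0 R)
      (fun R f hf => ZJJ_im hf) (fun R hR _ hRb => by
        have : Finite R := finite_of_le hR
        exact ZJJ_ne hp0 (isPGroup_mono hS hR) hRb) ?_ ?_ ?_ ?_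
    · rintro P f ⟨-, -, g, h1, h2, h3⟩
      exact ⟨g, h1, h2, h3⟩
    · intro V K T E hFKN hVK hT hE hTS hEs hsub hlt hCT hN P f hf
      apply hN
      have hEf : PSt p E := hst.sub hsub
      have : Finite T := finite_of_le hTS
      have hEn : E.IsNormal (ZJJ 0 T) := by
        rcases hlt with hlt | hlt
        · exact IH1 T E (isPGroup_mono hS hTS) hEs (card_lt_of_lt hlt) hEf
        · by_cases hTS' : T = S
          · subst hTS'
            exact IH2 E hEs hsub hlt hEf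
          · exact IH1 T E (isPGroup_mono hS hTS) hEs (card_lt_of_lt (lt_of_le_of_ne hTS hTS')) hEf
      exact nmap_of_normal hEn hf
    · -- constrained
      intro hcen
      have hQ := core_normal F
      obtain ⟨G, _, ι, hM⟩ := exists_model hS hF hQ hcen
      have hMD := MD.of_model hS hF hQ hcen hM
      exact (isNormal_iff.1 (con_ZJ hp2 hMD hst hM.2.2.2)).2
    · -- quotient
      intro hsc hQb hQc hV
      exfalso
      have hQ := core_normal F
      have hQs := IsNormal.strong hQ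
      have hQS : F.core ≤ S := (isNormal_iff.1 hQ).1
      obtain ⟨N, hNn, E, hpS', hE, hEs, hcard⟩ := exists_quo hS hF hQs hQb
      obtain ⟨hd, hm⟩ := isFactorSystem_iff.1 hE
      set θ := QuotientGroup.mk' N with hθ
      have : Finite (⊤ : Subgroup (S ⧸ N)) := finite_S' hd
      have hQneS : F.core ≠ S := by
        intro h
        apply hQc
        rw [h]; exact top_centric F
      have hEf : PSt p E := pst_quo hp2 hS hQ hsc hE hst
      have hEn := IH1 (⊤ : Subgroup (S ⧸ N)) E hpS' hEs hcard hEf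
      have hpre := le_core (lemmaR3 hS hF hQ hsc hE hEn)
      have hnb : (⊤ : Subgroup (S ⧸ N)) ≠ ⊥ := by
        intro hb
        apply hQneS
        apply le_antisymm hQS
        intro x hx
        have h1 : tt θ x ∈ (⊤ : Subgroup (S ⧸ N)) := trivial
        rw [hb, Subgroup.mem_bot, ← tt_one θ, hd.eq_iff hx S.one_mem] at h1
        simpa using h1
      apply ZJJ_ne hp0 hpS' hnb
      rw [eq_bot_iff]
      intro y hy
      obtain ⟨x, hx, rfl⟩ := hd.pre_surj le_top hy
      have h1 := hpre hx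
      rw [Subgroup.mem_bot, ← tt_one θ, hd.eq_iff (hQS h1) S.one_mem]
      simpa using h1
  exact isNormal_iff.2 ⟨ZJJ_le 0 S, key⟩

end final

end Cfsg.Agent.H1.Ps
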