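import Mathlib
import Cfsg.Agent.H1_PsE
import Cfsg.Agent.H27_S4g

set_option autoImplicit false

/-! `O_p(C_F(Q))` is normal for `Q` normal; `p`-stable systems are constrained. -/

namespace Cfsg.Agent.H1.Ps

open Cfsg Cfsg.FusionSystem Cfsg.Agent.H27.Fus Cfsg.Agent.H27.Grp Cfsg.Agent.H1.QdA Cfsg.Agent.H12.ZJ
open scoped commutatorElement

universe u v w

section cen

variable {Ω : Type u} [Group Ω] {S T P Q R : Subgroup Ω} {F : FusionSystem S} {p : ℕ} [Fact p.Prime] [Finite S]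
variable {f g k : Ω → Ω}

omit [Fact p.Prime] [Finite S] in
theorem iso_cen {T : Subgroup Ω} (hg : Iso F T T g) (hQT : Q ≤ T) (hCT : centralizerIn S Q ≤ T)
    (hkQ : ∀ q ∈ Q, k q ∈ Q) (hgk : ∀ x ∈ T, g (k x) = x) : ∀ x ∈ centralizerIn S Q, g x ∈ centralizerIn S Q := by
  intro x hx
  rw [mem_cen]
  refine ⟨hg.map.mem (hCT hx), fun q hq => ?_⟩
  have h1 : q = g (k q) := (hgk q (hQT hq)).symm
  rw [h1, ← hg.map.mul (hQT (hkQ q hq)) (hCT hx), ← hg.map.mul (hCT hx) (hQT (hkQ q hq)), cen_comm hx (hkQ q hq)]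

omit [Fact p.Prime] [Finite S] in
theorem cen_conj' {E : FusionSystem (centralizerIn S Q)} (hE : F.IsCentralizerSystem Q E)
    {T : Subgroup Ω} (hg : Iso F T T g) (hk : Iso F T T k) (hT : T = Q ⊔ centralizerIn S Q)
    (hgQ : ∀ q ∈ Q, g q ∈ Q) (hkQ : ∀ q ∈ Q, k q ∈ Q) (hgk : ∀ x ∈ T, g (k x) = x) (hkg : ∀ x ∈ T, k (g x) = x)
    (hf : Map E P f) : Map E (imj P g) (g ∘ f ∘ k) := by
  have hQT : Q ≤ T := by rw [hT]; exact le_sup_left
  have hCT : centralizerIn S Q ≤ T := by rw [hT]; exact le_sup_right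
  rw [csys_map hE] at hf ⊢
  obtain ⟨hPC, hfC, f', hf', hfe, hfQ⟩ := hf
  have hPT := hPC.trans hCT
  have hPQT : P ⊔ Q ≤ T := sup_le hPT hQT
  have hgC := iso_cen hg hQT hCT hkQ hgk
  have hmP : ∀ y, y ∈ imj P g ↔ ∃ x ∈ P, g x = y := fun y => (hg.map.mono hPT).mem_im
  have hf'T : ∀ x ∈ P ⊔ Q, f' x ∈ T := by
    intro x hx
    have h1 := hf'.apply_mem_im hx
    rw [hf'.im_sup] at h1
    refine (sup_le ?_ ?_ : im P f' ⊔ im Q f' ≤ T) h1
    · intro y hy
      obtain ⟨z, hz, rfl⟩ := (hf'.mono le_sup_left).mem_im.1 hy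
      rw [hfe z hz]; exact hCT (hfC z hz)
    · intro y hy
      obtain ⟨z, hz, rfl⟩ := (hf'.mono le_sup_right).mem_im.1 hy
      rw [hfQ z hz]; exact hQT hz
  have hsub : imj P g ⊔ Q ≤ im (P ⊔ Q) g := by
    rw [(hg.map.mono hPQT).im_sup]
    refine sup_le_sup le_rfl fun q hq => ?_
    rw [← hgk q (hQT hq)]
    exact (hg.map.mono hQT).apply_mem_im (hkQ q hq)
  have hk' : Map F (imj P g ⊔ Q) k := hk.map.mono (hsub.trans (by
    intro y hy
    obtain ⟨x, hx, rfl⟩ := (hg.map.mono hPQT).mem_im.1 hy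
    exact hg.maps x (hPQT hx)))
  have hkm : ∀ y ∈ imj P g ⊔ Q, k y ∈ P ⊔ Q := by
    intro y hy
    obtain ⟨x, hx, rfl⟩ := (hg.map.mono hPQT).mem_im.1 (hsub hy)
    rw [hkg x (hPQT hx)]; exact hx
  refine ⟨?_, ?_, g ∘ f' ∘ k, ?_, ?_, ?_⟩
  · intro y hy
    obtain ⟨x, hx, rfl⟩ := (hmP y).1 hy
    exact hgC x (hPC hx)
  · intro y hy
    obtain ⟨x, hx, rfl⟩ := (hmP y).1 hy
    show g (f (k (g x))) ∈ _
    rw [hkg x (hPT hx)]
    exact hgC _ (hfC x hx)
  · exact (hg.map).comp (hf'.comp hk' hkm) (fun y hy => hf'T _ (hkm y hy))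
  · intro y hy
    obtain ⟨x, hx, rfl⟩ := (hmP y).1 hy
    show g (f' (k (g x))) = g (f (k (g x)))
    rw [hkg x (hPT hx), hfe x hx]
  · intro q hq
    show g (f' (k q)) = q
    rw [hfQ _ (hkQ q hq), hgk q (hQT hq)]

omit [Fact p.Prime] in
/-- `O_p(C_F(Q))` is invariant under the automorphisms of `Q C_S(Q)` -/
theorem core_inv {E : FusionSystem (centralizerIn S Q)} (hE : F.IsCentralizerSystem Q E) (hQS : Q ≤ S)
    (hg : Iso F (Q ⊔ centralizerIn S Q) (Q ⊔ centralizerIn S Q) g) (hgQ : ∀ q ∈ Q, g q ∈ Q) :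
    ∀ x ∈ E.core, g x ∈ E.core := by
  have : Finite (centralizerIn S Q) := fin_cen
  have : Finite Q := finite_of_le hQS
  set T := Q ⊔ centralizerIn S Q with hT
  have hQT : Q ≤ T := le_sup_left
  have hCT : centralizerIn S Q ≤ T := le_sup_right
  have hk := hg.symm
  set k := finv T g with hkdef
  have hgk : ∀ x ∈ T, g (k x) = x := fun x hx => hg.finv_right hx
  have hkg : ∀ x ∈ T, k (g x) = x := fun x hx => hg.finv_left hx
  have hQi : Iso F Q Q g := iso_of_card_le (hg.map.mono hQT) hgQ le_rfl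
  have hkQ : ∀ q ∈ Q, k q ∈ Q := by
    intro q hq
    obtain ⟨x, hx, rfl⟩ := hQi.surj q hq
    rw [hkg x (hQT hx)]; exact hx
  have hF : FIso E E g k :=
    { jm := iso_cen hg hQT hCT hkQ hgk
      km := iso_cen hk hQT hCT hgQ hkg
      kj := fun x hx => hkg x (hCT hx)
      jk := fun x hx => hgk x (hCT hx)
      mul := fun x hx y hy => hg.map.mul (hCT hx) (hCT hy)
      map := fun P f hf => cen_conj' hE hg hk hT hgQ hkQ hgk hkg hf
      map' := fun P f hf => cen_conj' hE hk hg hT hkQ hgQ hkg hgk hf }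
  have h1 := hF.normal (core_normal E)
  intro x hx
  exact le_core h1 ((hF.toGIso.mem_imj (core_normal E).1).2 ⟨x, hx, rfl⟩)

theorem core_cen_normal (hS : IsPGroup p S) (hF : F.IsSaturated p) (hQ : F.IsNormal Q)
    {E : FusionSystem (centralizerIn S Q)} (hE : F.IsCentralizerSystem Q E) : F.IsNormal E.core := by
  have hQS : Q ≤ S := (isNormal_iff.1 hQ).1
  have : Finite (centralizerIn S Q) := fin_cen
  have : Finite Q := finite_of_le hQS
  have hKC : E.core ≤ centralizerIn S Q := (core_normal E).1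
  have hKS : E.core ≤ S := hKC.trans cen_le
  have : Finite E.core := finite_of_le hKS
  set T := Q ⊔ centralizerIn S Q with hT
  have hQT : Q ≤ T := le_sup_left
  have hCT : centralizerIn S Q ≤ T := le_sup_right
  have hTS : T ≤ S := sup_le hQS cen_le
  have : Finite T := finite_of_le hTS
  refine normal_of_control hS hF hKS fun P f hPK hf => ?_
  have hPC : P ≤ centralizerIn S Q := hPK.trans hKC
  obtain ⟨f₁, hf₁, hf₁e, hf₁Q⟩ := (isNormal_iff.1 hQ).2 P f hf
  have hQi : Iso F Q Q f₁ := (hf₁.mono le_sup_right).iso_of_im_eq hf₁Q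
  have hrec := fn_receptive hS hF (normal_fn hQ)
  obtain ⟨g, hg, hge⟩ := receptive_ext' hrec hQi (N := T)
    (sup_le (hQi.map.le_ext) cen_le_ext)
  have hgQ : ∀ q ∈ Q, g q ∈ Q := fun q hq => by rw [hge q hq]; exact hQi.maps q hq
  have hgQi : Iso F Q Q g := hQi.congr fun x hx => (hge x hx).symm
  have hgT : ∀ x ∈ T, g x ∈ T := by
    intro x hx
    have h1 := hg.apply_mem_im hx
    rw [hg.im_sup] at h1
    refine (sup_le ?_ ?_ : im Q g ⊔ im (centralizerIn S Q) g ≤ T) h1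
    · intro y hy
      obtain ⟨z, hz, rfl⟩ := (hg.mono hQT).mem_im.1 hy
      exact hQT (hgQ z hz)
    · intro y hy
      obtain ⟨z, hz, rfl⟩ := (hg.mono hCT).mem_im.1 hy
      refine hCT ?_
      rw [mem_cen]
      refine ⟨hg.mem (hCT hz), fun q hq => ?_⟩
      obtain ⟨q', hq', rfl⟩ := hgQi.surj q hq
      rw [← hg.mul (hQT hq') (hCT hz), ← hg.mul (hCT hz) (hQT hq'), cen_comm hz hq']
  have hgi : Iso F T T g := iso_of_card_le hg hgT le_rfl
  have hgK := core_inv hE hQS hgi hgQ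
  -- h = f₁ ∘ g⁻¹ lies in E
  have hPQT : P ⊔ Q ≤ T := sup_le (hPC.trans hCT) hQT
  set k := finv T g with hk
  have hki := hgi.symm
  have hkg : ∀ x ∈ T, k (g x) = x := fun x hx => hgi.finv_left hx
  have hsub : im P g ⊔ Q ≤ im (P ⊔ Q) g := by
    rw [(hg.mono hPQT).im_sup]
    refine sup_le_sup le_rfl fun q hq => ?_
    obtain ⟨q', hq', rfl⟩ := hgQi.surj q hq
    exact (hg.mono hQT).apply_mem_im hq'
  have hkm : ∀ y ∈ im P g ⊔ Q, k y ∈ P ⊔ Q := by
    intro y hy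
    obtain ⟨x, hx, rfl⟩ := (hg.mono hPQT).mem_im.1 (hsub hy)
    rw [hkg x (hPQT hx)]; exact hx
  have hk' : Map F (im P g ⊔ Q) k := hki.map.mono (hsub.trans (by
    intro y hy
    obtain ⟨x, hx, rfl⟩ := (hg.mono hPQT).mem_im.1 hy
    exact hgT x (hPQT hx)))
  have hmP : ∀ y, y ∈ im P g ↔ ∃ x ∈ P, g x = y := fun y => (hg.mono (hPC.trans hCT)).mem_im
  have hPK' : im P g ≤ E.core := by
    intro y hy
    obtain ⟨x, hx, rfl⟩ := (hmP y).1 hy
    exact hgK x (hPK hx)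
  have hcomm : ∀ x ∈ P, ∀ q ∈ Q, q * f₁ x = f₁ x * q := by
    intro x hx q hq
    obtain ⟨q', hq', rfl⟩ := hQi.surj q hq
    have h1 : x ∈ P ⊔ Q := le_sup_left (a := P) hx
    have h2 : q' ∈ P ⊔ Q := le_sup_right (a := P) hq'
    rw [← hf₁.mul h2 h1, ← hf₁.mul h1 h2, cen_comm (hPC hx) hq']
  have hEm : Map E (im P g) (f₁ ∘ k) := by
    rw [csys_map hE]
    refine ⟨hPK'.trans hKC, ?_, f₁ ∘ k, hf₁.comp hk' hkm, fun _ _ => rfl, ?_⟩
    · intro y hy
      obtain ⟨x, hx, rfl⟩ := (hmP y).1 hy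
      show f₁ (k (g x)) ∈ _
      rw [hkg x (hPC.trans hCT hx), mem_cen]
      exact ⟨hf₁.mem (le_sup_left (a := P) hx), hcomm x hx⟩
    · intro q hq
      obtain ⟨q', hq', rfl⟩ := hgQi.surj q hq
      show f₁ (k (g q')) = g q'
      rw [hkg q' (hQT hq'), hge q' hq']
  obtain ⟨h, hh, hhe, hhK⟩ := (isNormal_iff.1 (core_normal E)).2 _ _ hEm
  have hhi : Iso E E.core E.core h := (hh.mono le_sup_right).iso_of_im_eq hhK
  have hEF : ∀ P f, Map E P f → Map F P f := by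
    intro P f hf
    rw [csys_map hE] at hf
    obtain ⟨-, -, f', h1, h2, -⟩ := hf
    exact (h1.mono le_sup_left).congr h2
  have hhF : Iso F E.core E.core h := ⟨hEF _ _ hhi.map, hhi.maps, hhi.surj⟩
  have hgKi : Iso F E.core E.core g := iso_of_card_le (hg.mono (hKC.trans hCT)) hgK le_rfl
  have hcomp := hgKi.trans hhF
  refine ⟨hcomp.aut, hcomp.aut_mem, fun x hx hxP => ?_⟩
  show h (g x) = f x
  have h1 : g x ∈ im P g := (hmP _).2 ⟨x, hxP, rfl⟩
  rw [hhe _ h1]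
  show f₁ (k (g x)) = f x
  rw [hkg x (hPC.trans hCT hxP), hf₁e x hxP]

end cen

section constr

variable {p : ℕ} [Fact p.Prime]

/-- `p`-stable saturated fusion systems, `p` odd, are constrained -/
theorem pst_core_centric (hp2 : p ≠ 2) {Ω : Type u} [Group Ω] (S : Subgroup Ω) [Finite S] (F : FusionSystem S)
    (hS : IsPGroup p S) (hF : F.IsSaturated p) (hst : PSt p F) : F.IsCentric F.core := by
  classical
  set Q := F.core with hQdef
  have hQ : F.IsNormal Q := core_normal F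
  have hQS : Q ≤ S := (isNormal_iff.1 hQ).1
  have : Finite Q := finite_of_le hQS
  have hQfn := normal_fn hQ
  have hQfc : F.IsFullyCentralized Q := fn_fc hS hF hQfn
  obtain ⟨E, hE⟩ := exists_centralizerSystem F Q hQS
  have hEs := centralizerSystem_saturated hS hF hQfc hE
  have hEF : ∀ P f, Map E P f → Map F P f := by
    intro P f hf
    rw [csys_map hE] at hf
    obtain ⟨-, -, f', h1, h2, -⟩ := hf
    exact (h1.mono le_sup_left).congr h2
  have : Finite (centralizerIn S Q) := fin_cen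
  have hCp : IsPGroup p (centralizerIn S Q) := isPGroup_mono hS cen_le
  have hEst := hst.sub hEF
  have hKn := core_cen_normal hS hF hQ hE
  have hKQ : E.core ≤ Q := le_core hKn
  apply centric_of_fc hS hF hQfc
  by_contra hcon
  set Z := Q ⊓ centralizerIn S Q with hZ
  -- Z is central in E
  have hZE : ∀ P f, Map E P f → ∃ g, Map E (P ⊔ Z) g ∧ (∀ x ∈ P, g x = f x) ∧ ∀ x ∈ Z, g x = x := by
    intro P f hf
    have hf0 := hf
    rw [csys_map hE] at hf
    obtain ⟨hPC, hfC, f', h1, h2, h3⟩ := hf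
    have hle : P ⊔ Z ≤ P ⊔ Q := sup_le_sup le_rfl inf_le_left
    refine ⟨f', ?_, h2, fun x hx => h3 x hx.1⟩
    rw [csys_map hE]
    refine ⟨sup_le hPC inf_le_right, ?_, f', h1.mono (sup_le hle le_sup_right), fun _ _ => rfl, h3⟩
    intro x hx
    have hx' := (h1.mono hle).apply_mem_im hx
    rw [(h1.mono hle).im_sup] at hx'
    refine (sup_le ?_ ?_ : im P f' ⊔ im Z f' ≤ centralizerIn S Q) hx'
    · intro y hy
      obtain ⟨z, hz, rfl⟩ := (h1.mono le_sup_left).mem_im.1 hy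
      rw [h2 z hz]; exact hfC z hz
    · intro y hy
      obtain ⟨z, hz, rfl⟩ := (h1.mono (inf_le_left.trans le_sup_right : Z ≤ P ⊔ Q)).mem_im.1 hy
      rw [h3 z hz.1]; exact hz.2
  have hZn : E.IsNormal Z := by
    rw [isNormal_iff]
    refine ⟨inf_le_right, fun P f hf => ?_⟩
    obtain ⟨g, h1, h2, h3⟩ := hZE P f hf
    refine ⟨g, h1, h2, ?_⟩
    ext y
    rw [(h1.mono le_sup_right).mem_im]
    constructor
    · rintro ⟨x, hx, rfl⟩; rw [h3 x hx]; exact hx
    · intro hy; exact ⟨y, hy, h3 y hy⟩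
  have hsc : ∀ P f, Map E P f → SCmap E Z P f := by
    intro P f hf
    obtain ⟨g, h1, h2, h3⟩ := hZE P f hf
    exact ⟨g, h1, h2, 1, Subgroup.one_mem _, fun x hx => by rw [h3 x hx]; simp⟩
  have hZs := IsNormal.strong hZn
  have hZC : Z ≤ centralizerIn S Q := inf_le_right
  have hp0 : p ∣ 0 := dvd_zero p
  by_cases hZb : Z = ⊥
  · -- then E itself has a nontrivial normal subgroup
    have h1 := pst_normal hp2 (centralizerIn S Q) E hCp hEs hEst
    have h2 : ZJJ 0 (centralizerIn S Q) ≤ Z := le_inf ((le_core h1).trans hKQ) (ZJJ_le 0 _)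
    rw [hZb] at h2
    refine ZJJ_ne hp0 hCp ?_ (le_bot_iff.1 h2)
    intro hb
    apply hcon
    rw [hb]; exact bot_le
  · obtain ⟨N, hNn, E', hpS', hE', hEs', hcard⟩ := exists_quo hCp hEs hZs hZb
    obtain ⟨hd, hm⟩ := isFactorSystem_iff.1 hE'
    set θ := QuotientGroup.mk' N with hθ
    have : Finite (⊤ : Subgroup ((centralizerIn S Q) ⧸ N)) := finite_S' hd
    have hE'st : PSt p E' := pst_quo hp2 hCp hZn hsc hE' hEst
    have hn' := pst_normal hp2 (⊤ : Subgroup ((centralizerIn S Q) ⧸ N)) E' hpS' hEs' hE'st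
    have hpre := le_core (lemmaR3 hCp hEs hZn hsc hE' hn')
    have hnb : (⊤ : Subgroup ((centralizerIn S Q) ⧸ N)) ≠ ⊥ := by
      intro hb
      apply hcon
      intro x hx
      have h1 : tt θ x ∈ (⊤ : Subgroup ((centralizerIn S Q) ⧸ N)) := trivial
      rw [hb, Subgroup.mem_bot, ← tt_one θ, hd.eq_iff hx (Subgroup.one_mem _)] at h1
      have h2 : x ∈ Z := by simpa using h1
      exact h2.1
    apply ZJJ_ne hp0 hpS' hnb
    rw [eq_bot_iff]
    intro y hy
    obtain ⟨x, hx, rfl⟩ := hd.pre_surj le_top hy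
    have h1 := hpre hx
    have h2 : x ∈ centralizerIn S Q := (core_normal E).1 h1
    rw [Subgroup.mem_bot, ← tt_one θ, hd.eq_iff h2 (Subgroup.one_mem _)]
    have h3 : x ∈ Z := ⟨hKQ h1, h2⟩
    simpa using h3

end constr

end Cfsg.Agent.H1.Ps
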