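import Mathlib
import Cfsg.Agent.H1_PsF
import Cfsg.Agent.H1_FusA

set_option autoImplicit false

/-! `p`-stability is detected on centric radical subgroups. -/

namespace Cfsg.Agent.H1.Ps

open Cfsg Cfsg.FusionSystem Cfsg.Agent.H27.Fus Cfsg.Agent.H27.Grp Cfsg.Agent.H1.QdA Cfsg.Agent.H12.ZJ
open scoped commutatorElement

universe u v w

section up

variable {Ω : Type u} [Group Ω] {S T P Q R : Subgroup Ω} {F : FusionSystem S} {p : ℕ} [Fact p.Prime] [Finite S]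
variable {f g k : Ω → Ω}

/-- `Q C_S(Q)` is centric when `Q` is fully centralized -/
theorem sup_cen_centric (hQ : F.IsFullyCentralized Q) : F.IsCentric (Q ⊔ centralizerIn S Q) := by
  refine ⟨sup_le hQ.1 cen_le, fun R' hR' => ?_⟩
  obtain ⟨f, hf⟩ := isConj_iff.1 hR'
  have hQR : Q ≤ Q ⊔ centralizerIn S Q := le_sup_left
  have hCR : centralizerIn S Q ≤ Q ⊔ centralizerIn S Q := le_sup_right
  have hfQ : Iso F Q (im Q f) f := hf.restrict hQR
  have hQ'S : im Q f ≤ S := hfQ.le'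
  have hcard := hQ.2 (im Q f) hfQ.isConj
  have hCi : im (centralizerIn S Q) f ≤ centralizerIn S (im Q f) := by
    intro y hy
    obtain ⟨x, hx, rfl⟩ := (hf.map.mono hCR).mem_im.1 hy
    rw [mem_cen]
    refine ⟨hf.map.mem (hCR hx), fun q hq => ?_⟩
    obtain ⟨q', hq', rfl⟩ := hfQ.surj q hq
    rw [← hf.map.mul (hQR hq') (hCR hx), ← hf.map.mul (hCR hx) (hQR hq'), cen_comm hx hq']
  have : Finite (centralizerIn S (im Q f)) := fin_cen
  have heq : im (centralizerIn S Q) f = centralizerIn S (im Q f) := by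
    apply eq_of_le_of_card_le hCi
    rw [(hf.map.mono hCR).card_im]
    exact hcard
  have hQ'R' : im Q f ≤ R' := by
    intro y hy
    obtain ⟨x, hx, rfl⟩ := (hf.map.mono hQR).mem_im.1 hy
    exact hf.maps x (hQR hx)
  intro y hy
  have h1 := cen_anti hQ'R' hy
  rw [← heq] at h1
  obtain ⟨x, hx, rfl⟩ := (hf.map.mono hCR).mem_im.1 h1
  exact hf.maps x (hCR hx)

/-- extension of automorphisms of a receptive `Q` to `Q C_S(Q)` -/
theorem ext_sup_cen (hrec : F.IsReceptive Q) (hf : Iso F Q Q f) :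
    ∃ g, Iso F (Q ⊔ centralizerIn S Q) (Q ⊔ centralizerIn S Q) g ∧ ∀ x ∈ Q, g x = f x := by
  have hQS : Q ≤ S := hf.le
  have hQT : Q ≤ Q ⊔ centralizerIn S Q := le_sup_left
  have hCT : centralizerIn S Q ≤ Q ⊔ centralizerIn S Q := le_sup_right
  have hTS : Q ⊔ centralizerIn S Q ≤ S := sup_le hQS cen_le
  have : Finite ↥(Q ⊔ centralizerIn S Q) := finite_of_le hTS
  obtain ⟨g, hg, hge⟩ := receptive_ext' hrec hf (N := Q ⊔ centralizerIn S Q)
    (sup_le (hf.map.le_ext) cen_le_ext)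
  have hgQi : Iso F Q Q g := hf.congr fun x hx => (hge x hx).symm
  refine ⟨g, iso_of_card_le hg (hg.maps_sup (fun x hx => hQT (hgQi.maps x hx)) (fun z hz => hCT ?_)) le_rfl, hge⟩
  rw [mem_cen]
  refine ⟨hg.mem (hCT hz), fun q hq => ?_⟩
  obtain ⟨q', hq', rfl⟩ := hgQi.surj q hq
  rw [← hg.mul (hQT hq') (hCT hz), ← hg.mul (hCT hz) (hQT hq'), cen_comm hz hq']

theorem OL_le_ind (hS : IsPGroup p S) (hF : F.IsSaturated p) (hR : F.IsFullyNormalized R) :
    OL p (F.autGroup R) ≤ autInducedBy S R := by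
  have hRS := hR.1
  have : Finite R := finite_of_le hRS
  have : Finite (MulAut R) := finA
  obtain ⟨T, hT⟩ := (fn_automized hS hF hR).2
  rintro _ ⟨α, hα, rfl⟩
  have h1 : pCore p (F.autGroup R) ≤ (T : Subgroup (F.autGroup R)) :=
    normal_le_sylow (Cfsg.Agent.H1.Nilp.pCore_normal p) (Cfsg.Agent.H1.Nilp.pCore_isPGroup p) T
  have h2 := h1 hα
  rw [hT] at h2
  exact h2

theorem inn_le_OL (hS : IsPGroup p S) (hRS : R ≤ S) : Inn R ≤ OL p (F.autGroup R) := by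
  have hle : Inn R ≤ F.autGroup R := (inn_le_autInducedBy hRS).trans (autInducedBy_le_autGroup F hRS)
  have h1 : outK F R ≤ pCore p (F.autGroup R) := le_pCore inferInstance (isPGroup_outK hS hRS)
  intro x hx
  exact ⟨⟨x, hle hx⟩, h1 (show _ ∈ outK F R from hx), rfl⟩

theorem step_up (hS : IsPGroup p S) (hF : F.IsSaturated p) (hR : F.IsFullyNormalized R) (hnr : ¬ F.IsRadical p R) :
    ∃ R₁, R < R₁ ∧ R₁ ≤ S ∧ ∀ f, Iso F R R f → ∃ g, Iso F R₁ R₁ g ∧ ∀ x ∈ R, g x = f x := by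
  have hRS := hR.1
  have : Finite R := finite_of_le hRS
  have : Finite (MulAut R) := finA
  set A := F.autGroup R with hA
  have hOl := OL_le_ind hS hF hR
  have hAle : OL p A ≤ A := OL_le A
  let R₁ : Subgroup Ω :=
    { carrier := {s | s ∈ S ∧ s ∈ Subgroup.normalizer (R : Set Ω) ∧ ∃ α ∈ OL p A, ∀ x : R, (α x : Ω) = s * x * s⁻¹}
      one_mem' := ⟨S.one_mem, Subgroup.one_mem _, 1, Subgroup.one_mem _, fun x => by simp⟩
      mul_mem' := by
        rintro a b ⟨ha, ha', α, hα, hαx⟩ ⟨hb, hb', β, hβ, hβx⟩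
        refine ⟨S.mul_mem ha hb, Subgroup.mul_mem _ ha' hb', α * β, Subgroup.mul_mem _ hα hβ, fun x => ?_⟩
        rw [MulAut.mul_apply, hαx, hβx]; group
      inv_mem' := by
        rintro a ⟨ha, ha', α, hα, hαx⟩
        refine ⟨S.inv_mem ha, Subgroup.inv_mem _ ha', α⁻¹, Subgroup.inv_mem _ hα, fun x => ?_⟩
        have h1 := hαx (α⁻¹ x)
        rw [MulAut.apply_inv_self] at h1
        rw [h1]; group }
  have hR₁ : ∀ s, s ∈ R₁ ↔ s ∈ S ∧ s ∈ Subgroup.normalizer (R : Set Ω) ∧ ∃ α ∈ OL p A, ∀ x : R, (α x : Ω) = s * x * s⁻¹ :=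
    fun s => Iff.rfl
  have hR₁S : R₁ ≤ S := fun s hs => hs.1
  have hRR₁ : R ≤ R₁ := by
    intro s hs
    have hsn : s ∈ Subgroup.normalizer (R : Set Ω) := Subgroup.le_normalizer hs
    refine ⟨hRS hs, hsn, cjA R s hsn, inn_le_OL hS hRS (mem_inn.2 ⟨s, hs, fun x => rfl⟩), fun x => rfl⟩
  have : Finite R₁ := finite_of_le hR₁S
  refine ⟨R₁, lt_of_le_of_ne hRR₁ ?_, hR₁S, ?_⟩
  · intro heq
    apply hnr
    refine ⟨hRS, le_antisymm ?_ (inn_le_OL hS hRS)⟩
    intro α hα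
    obtain ⟨s, hs, hsx⟩ := mem_autInducedBy.1 (hOl hα)
    have hsn := autInducedBy_norm (K := S) hsx
    have h1 : s ∈ R₁ := ⟨hs, hsn, α, hα, hsx⟩
    rw [← heq] at h1
    exact mem_inn.2 ⟨s, h1, hsx⟩
  · intro f hf
    have hrec := fn_receptive hS hF hR
    set φ := hf.aut with hφ
    have hφA : φ ∈ A := hf.aut_mem
    have hφx : ∀ x : R, (φ x : Ω) = f x := fun x => rfl
    have key : ∀ α ∈ OL p A, ∀ s, (∀ x : R, (α x : Ω) = s * x * s⁻¹) →
        ∀ x : R, ((φ * α * φ⁻¹) (φ x) : Ω) = f (s * x * s⁻¹) := by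
      intro α hα s hs x
      rw [MulAut.mul_apply, MulAut.mul_apply, MulAut.inv_apply_self, hφx, hs]
    have hN : R₁ ≤ ext S R f := by
      intro s hs
      obtain ⟨hsS, hsn, α, hα, hαx⟩ := hs
      rw [mem_ext]
      have h1 : φ * α * φ⁻¹ ∈ OL p A := OL_conj _ _ hφA _ hα
      obtain ⟨h, hh, hhx⟩ := mem_autInducedBy.1 (hOl h1)
      refine ⟨hsS, hsn, h, hh, fun x hx => ?_⟩
      rw [← key α hα s hαx ⟨x, hx⟩, hhx, hφx]
    obtain ⟨g, hg, hge⟩ := receptive_ext' hrec hf hN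
    refine ⟨g, iso_of_card_le hg (fun s hs => ?_) le_rfl, hge⟩
    obtain ⟨hsS, hsn, α, hα, hαx⟩ := (hR₁ s).1 hs
    have h1 : φ * α * φ⁻¹ ∈ OL p A := OL_conj _ _ hφA _ hα
    have hs' : s ∈ R₁ := hs
    have h2 : ∀ x : R, ((φ * α * φ⁻¹) x : Ω) = g s * x * (g s)⁻¹ := by
      intro x
      obtain ⟨y, rfl⟩ := φ.surjective x
      have hyR : (s * y * s⁻¹) ∈ R := (Subgroup.mem_normalizer_iff.1 hsn _).1 y.2
      rw [key α hα s hαx y, hφx, ← hge _ hyR, ← hge _ y.2, hg.conj hs' (hRR₁ y.2)]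
    exact ⟨hg.mem hs', autInducedBy_norm (K := S) h2, _, h1, h2⟩

theorem stab_claim (hS : IsPGroup p S) (hF : F.IsSaturated p)
    (h : ∀ R, F.IsFullyNormalized R → F.IsCentric R → F.IsRadical p R →
      ∀ N : FusionSystem (normalizerIn S R), F.IsNormalizerSystem R N → PSt p N) :
    ∀ (n : ℕ) (Q R : Subgroup Ω), Nat.card S - Nat.card R = n → Q ≤ R → F.IsCentric R →
      (∀ f, Iso F Q Q f → ∃ g, Iso F R R g ∧ ∀ x ∈ Q, g x = f x) →
      ∀ χ : MulAut Q, χ ∈ F.autGroup Q → Quad χ → χ ∈ OL p (F.autGroup Q) := by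
  intro n
  induction n using Nat.strong_induction_on with
  | _ n ih =>
  intro Q R hn hQR hRc hext
  have hRS := hRc.1
  have hQS := hQR.trans hRS
  obtain ⟨R', hRR', hR'fn⟩ := exists_fullyNormalized F hRS
  obtain ⟨f₀, hf₀⟩ := isConj_iff.1 hRR'
  have hR'S := hR'fn.1
  have hfQ : Iso F Q (im Q f₀) f₀ := hf₀.restrict hQR
  set Q' := im Q f₀ with hQ'
  have hQ'R' : Q' ≤ R' := by
    intro y hy
    obtain ⟨x, hx, rfl⟩ := hfQ.surj y hy
    exact hf₀.maps x (hQR hx)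
  have hR'c : F.IsCentric R' := IsCentric.conj hRc hRR'
  have hk := hf₀.symm
  have hkf : ∀ x ∈ R, finv R f₀ (f₀ x) = x := fun x hx => hf₀.finv_left hx
  have hfk : ∀ y ∈ R', f₀ (finv R f₀ y) = y := fun y hy => hf₀.finv_right hy
  have hkQ : Iso F Q' Q (finv R f₀) := by
    refine ⟨hk.map.mono hQ'R', fun y hy => ?_, fun x hx => ⟨f₀ x, hfQ.maps x hx, hkf x (hQR hx)⟩⟩
    obtain ⟨x, hx, rfl⟩ := hfQ.surj y hy
    rw [hkf x (hQR hx)]; exact hx
  have hext' : ∀ f, Iso F Q' Q' f → ∃ g, Iso F R' R' g ∧ ∀ x ∈ Q', g x = f x := by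
    intro f hf
    obtain ⟨g, hg, hge⟩ := hext _ ((hfQ.trans hf).trans hkQ)
    refine ⟨f₀ ∘ g ∘ finv R f₀, (hk.trans hg).trans hf₀, fun y hy => ?_⟩
    obtain ⟨x, hx, rfl⟩ := hfQ.surj y hy
    show f₀ (g (finv R f₀ (f₀ x))) = f (f₀ x)
    rw [hkf x (hQR hx), hge x hx]
    show f₀ (finv R f₀ (f (f₀ x))) = f (f₀ x)
    exact hfk _ (hQ'R' (hf.maps _ hy))
  apply pst_transport hfQ
  by_cases hrad : F.IsRadical p R'
  · obtain ⟨N, hN⟩ := exists_normalizerSystem F R' hR'S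
    have hNst := h R' hR'fn hR'c hrad N hN
    have hR'N : R' ≤ normalizerIn S R' := le_nrm hR'S
    have heq : N.autGroup Q' = F.autGroup Q' := by
      ext α
      rw [mem_autGroup_iff (hQ'R'.trans hR'N), mem_autGroup_iff (hQ'R'.trans hR'S)]
      constructor
      · intro hα
        exact ⟨nsys_sub hN hα.map, hα.maps, hα.surj⟩
      · intro hα
        obtain ⟨g, hg, hge⟩ := hext' _ hα
        have h1 := nsys_of_ge hN le_rfl hR'N hg.map hg.im_eq
        exact ⟨(h1.mono hQ'R').congr hge, hα.maps, hα.surj⟩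
    intro χ hχ hq
    have h1 := hNst Q' (hQ'R'.trans hR'N) χ (by rw [heq]; exact hχ) hq
    rwa [heq] at h1
  · obtain ⟨R₁, hlt, hR₁S, hR₁e⟩ := step_up hS hF hR'fn hrad
    have : Finite R₁ := finite_of_le hR₁S
    have h1 : Nat.card R' < Nat.card R₁ := card_lt_of_lt hlt
    have h2 : Nat.card R₁ ≤ Nat.card S := card_le_of_le hR₁S
    have h3 : Nat.card R = Nat.card R' := hf₀.card
    refine ih (Nat.card S - Nat.card R₁) (by omega) Q' R₁ rfl (hQ'R'.trans hlt.le) (IsCentric.mono hR'c hlt.le hR₁S) ?_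
    intro f hf
    obtain ⟨g, hg, hge⟩ := hext' f hf
    obtain ⟨g', hg', hge'⟩ := hR₁e g hg
    exact ⟨g', hg', fun x hx => by rw [hge' x (hQ'R' hx), hge x hx]⟩

theorem pst_of_radical (hS : IsPGroup p S) (hF : F.IsSaturated p)
    (h : ∀ R, F.IsFullyNormalized R → F.IsCentric R → F.IsRadical p R →
      ∀ N : FusionSystem (normalizerIn S R), F.IsNormalizerSystem R N → PSt p N) : PSt p F := by
  intro Q₀ hQ₀
  obtain ⟨Q, hQ, hQf⟩ := exists_fullyNormalized F hQ₀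
  obtain ⟨f, hf⟩ := isConj_iff.1 hQ
  apply pst_transport hf
  have hrec := fn_receptive hS hF hQf
  exact stab_claim hS hF h _ Q (Q ⊔ centralizerIn S Q) rfl le_sup_left (sup_cen_centric (fn_fc hS hF hQf))
    (fun f hf => ext_sup_cen hrec hf)

end up

end Cfsg.Agent.H1.Ps
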