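import Mathlib
import Cfsg.Agent.H1_SmC

set_option autoImplicit false
set_option linter.all false

/-! Planes over `F_p` in multiplicative notation: tori from two transvections. -/

namespace Cfsg.Agent.H1.Rk

open Cfsg Cfsg.Agent.H1.Sm

section plane

variable {V : Type*} [Group V] [Finite V] {p : ℕ} [hp : Fact p.Prime]

theorem zpow_eq_of_dvd (hexp : ∀ x : V, x ^ p = 1) (x : V) {i j : ℤ} (h : (p : ℤ) ∣ i - j) : x ^ i = x ^ j := by
  obtain ⟨k, hk⟩ := h
  have : i = j + p * k := by linarith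
  rw [this, zpow_add, zpow_mul, zpow_natCast, hexp, one_zpow, mul_one]

theorem dvd_of_zpow_eq {G : Type*} [Group G] {x : G} (hxp : x ^ p = 1) (hx : x ≠ 1) {i j : ℤ} (h : x ^ i = x ^ j) : (p : ℤ) ∣ i - j := by
  have h1 : orderOf x = p := orderOf_eq_prime hxp hx
  rw [← h1, orderOf_dvd_iff_zpow_eq_one, zpow_sub, h, mul_inv_cancel]

theorem exists_rep (hcard : Nat.card V = p ^ 2) (hc : ∀ x y : V, x * y = y * x) {x y : V} (hx : x ≠ 1)
    (hy : y ∉ Subgroup.zpowers x) (v : V) : ∃ i j : ℤ, v = x ^ i * y ^ j := by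
  letI : CommGroup V := { (inferInstance : Group V) with mul_comm := hc }
  have h : Subgroup.zpowers x ⊔ Subgroup.zpowers y = ⊤ :=
    top_of_two hcard hx hy (Subgroup.mem_sup_left (Subgroup.mem_zpowers x)) (Subgroup.mem_sup_right (Subgroup.mem_zpowers y))
  have h1 : v ∈ Subgroup.zpowers x ⊔ Subgroup.zpowers y := by rw [h]; trivial
  obtain ⟨a, ⟨i, rfl⟩, b, ⟨j, rfl⟩, rfl⟩ := Subgroup.mem_sup.1 h1
  exact ⟨i, j, rfl⟩

theorem aut_ext (hcard : Nat.card V = p ^ 2) {x y : V} (hx : x ≠ 1)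
    (hy : y ∉ Subgroup.zpowers x) {α β : MulAut V} (h1 : α x = β x) (h2 : α y = β y) : α = β := by
  let K : Subgroup V :=
    { carrier := {x | α x = β x}
      one_mem' := by show α 1 = β 1; rw [map_one, map_one]
      mul_mem' := by
        intro a b ha hb
        show α (a * b) = β (a * b)
        rw [map_mul, map_mul, show α a = β a from ha, show α b = β b from hb]
      inv_mem' := by
        intro a ha
        show α a⁻¹ = β a⁻¹
        rw [map_inv, map_inv, show α a = β a from ha] }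
  have hK : K = ⊤ := top_of_two hcard hx hy (K := K) h1 h2
  ext w
  have : w ∈ K := by rw [hK]; trivial
  exact this

/-- an automorphism of `p`-power order fixing `x` is a transvection -/
theorem unip (hcard : Nat.card V = p ^ 2) (hexp : ∀ x : V, x ^ p = 1) (hc : ∀ x y : V, x * y = y * x)
    {x y : V} (hx : x ≠ 1) (hy : y ∉ Subgroup.zpowers x) {α : MulAut V} (h1 : α x = x) {n : ℕ} (hn : α ^ (p ^ n) = 1) :
    α y * y⁻¹ ∈ Subgroup.zpowers x := by
  obtain ⟨i, j, hij⟩ := exists_rep hcard hc hx hy (α y)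
  have hy1 : y ≠ 1 := fun h => hy (h ▸ Subgroup.one_mem _)
  have hz : ∀ m : ℤ, α (x ^ m) = x ^ m := fun m => by rw [map_zpow, h1]
  have hcz : ∀ (a b : V) (m n : ℤ), a ^ m * b ^ n = b ^ n * a ^ m := fun a b m n => hc _ _
  have hpow : ∀ n : ℕ, ∃ m : ℤ, (α ^ n) y = x ^ m * y ^ (j ^ n) := by
    intro n
    induction n with
    | zero => exact ⟨0, by simp⟩
    | succ n ih =>
      obtain ⟨m, hm⟩ := ih
      refine ⟨m + i * j ^ n, ?_⟩
      rw [pow_succ', MulAut.mul_apply, hm, map_mul, hz, map_zpow, hij,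
        Commute.mul_zpow (show Commute (x ^ i) (y ^ j) from hc _ _), ← zpow_mul, ← zpow_mul, ← mul_assoc, ← zpow_add, pow_succ']
  obtain ⟨m, hm⟩ := hpow (p ^ n)
  rw [hn, MulAut.one_apply] at hm
  have h2 : y ^ (j ^ (p ^ n) - 1) ∈ Subgroup.zpowers x := by
    refine ⟨-m, ?_⟩
    show x ^ (-m) = _
    rw [zpow_sub, zpow_one]
    have : y ^ (j ^ p ^ n) = x ^ (-m) * y := by
      conv_rhs => rw [hm]
      group
    rw [this]; group
  have h3 : (p : ℤ) ∣ j ^ (p ^ n) - 1 := by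
    by_contra hcon
    apply hy
    have hcop : IsCoprime (p : ℤ) (j ^ (p ^ n) - 1) := (Prime.coprime_iff_not_dvd (Nat.prime_iff_prime_int.1 hp.out)).2 hcon
    obtain ⟨a, b, hab⟩ := hcop
    have : y = (y ^ (j ^ (p ^ n) - 1)) ^ b := by
      rw [← zpow_mul]
      conv_lhs => rw [← zpow_one y]
      apply zpow_eq_of_dvd hexp
      exact ⟨a, by linarith⟩
    rw [this]
    exact Subgroup.zpow_mem _ h2 b
  have h4 : (p : ℤ) ∣ j - 1 := by
    have e : ((j : ZMod p)) ^ (p ^ n) = j := ZMod.pow_card_pow _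
    have h5 : ((j ^ (p ^ n) - 1 : ℤ) : ZMod p) = 0 := (ZMod.intCast_zmod_eq_zero_iff_dvd _ _).2 h3
    have h6 : ((j - 1 : ℤ) : ZMod p) = 0 := by
      push_cast at h5 ⊢
      rw [← e]; exact h5
    exact (ZMod.intCast_zmod_eq_zero_iff_dvd _ _).1 h6
  refine ⟨i, ?_⟩
  show x ^ i = α y * y⁻¹
  rw [hij]
  have : y ^ j = y := by
    conv_rhs => rw [← zpow_one y]
    exact zpow_eq_of_dvd hexp _ h4
  rw [this]; group

theorem stabTr_all (hcard : Nat.card V = p ^ 2) (hc : ∀ x y : V, x * y = y * x) {x y : V} (hx : x ≠ 1)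
    (hy : y ∉ Subgroup.zpowers x) {α : MulAut V} (h : α ∈ stabTr x y) (v : V) : α v * v⁻¹ ∈ Subgroup.zpowers x := by
  obtain ⟨h1, h2⟩ := h
  let K : Subgroup V :=
    { carrier := {v | α v * v⁻¹ ∈ Subgroup.zpowers x}
      one_mem' := by show α 1 * 1⁻¹ ∈ Subgroup.zpowers x; rw [map_one]; simp [Subgroup.one_mem]
      mul_mem' := by
        intro a b ha hb
        show α (a * b) * (a * b)⁻¹ ∈ Subgroup.zpowers x
        have e : α (a * b) * (a * b)⁻¹ = (α a * a⁻¹) * (α b * b⁻¹) := by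
          rw [map_mul, mul_inv_rev]
          calc α a * α b * (b⁻¹ * a⁻¹) = α a * (α b * b⁻¹ * a⁻¹) := by group
            _ = α a * (a⁻¹ * (α b * b⁻¹)) := by rw [hc (α b * b⁻¹) a⁻¹]
            _ = _ := by group
        rw [e]; exact Subgroup.mul_mem _ ha hb
      inv_mem' := by
        intro a ha
        show α a⁻¹ * a⁻¹⁻¹ ∈ Subgroup.zpowers x
        have e : α a⁻¹ * a⁻¹⁻¹ = (α a * a⁻¹)⁻¹ := by
          rw [map_inv, mul_inv_rev, inv_inv, hc]
        rw [e]; exact Subgroup.inv_mem _ ha }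
  have hK : K = ⊤ := top_of_two hcard hx hy (K := K) (by show α x * x⁻¹ ∈ Subgroup.zpowers x; rw [h1]; simp [Subgroup.one_mem]) h2
  have : v ∈ K := by rw [hK]; trivial
  exact this

/-- the group of automorphisms trivial on `⟨x⟩` and modulo it is normalised by automorphisms preserving `⟨x⟩` -/
theorem stabTr_conj (hcard : Nat.card V = p ^ 2) (hc : ∀ x y : V, x * y = y * x) {x y : V} (hx : x ≠ 1)
    (hy : y ∉ Subgroup.zpowers x) {α g : MulAut V} (h : α ∈ stabTr x y) (hg : g x ∈ Subgroup.zpowers x)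
    (hg' : g⁻¹ x ∈ Subgroup.zpowers x) : g * α * g⁻¹ ∈ stabTr x y := by
  constructor
  · show g (α (g⁻¹ x)) = x
    obtain ⟨k, hk⟩ := hg'
    have hk : x ^ k = g⁻¹ x := hk
    rw [← hk, map_zpow, h.1, hk, MulAut.apply_inv_self]
  · show g (α (g⁻¹ y)) * y⁻¹ ∈ _
    have h1 := stabTr_all hcard hc hx hy h (g⁻¹ y)
    obtain ⟨k, hk⟩ := h1
    have hk : x ^ k = α (g⁻¹ y) * (g⁻¹ y)⁻¹ := hk
    have e : g (α (g⁻¹ y)) * y⁻¹ = g (α (g⁻¹ y) * (g⁻¹ y)⁻¹) := by
      rw [map_mul, map_inv, MulAut.apply_inv_self]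
    rw [e, ← hk, map_zpow]
    exact Subgroup.zpow_mem _ hg k

/-- tori from two transvections -/
theorem torus_of (hexp : ∀ x : V, x ^ p = 1) (hc : ∀ x y : V, x * y = y * x) {x y : V} {U B : MulAut V}
    (hUx : U x = x) (hUy : U y = y * x) (hBx : B x = x * y) (hBy : B y = y) {a b : ℤ} (hab : (p : ℤ) ∣ 1 - a * b) :
    ∃ h ∈ Subgroup.closure ({U, B} : Set (MulAut V)), h x = x ^ a ∧ h y = y ^ b := by
  letI : CommGroup V := { (inferInstance : Group V) with mul_comm := hc }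
  have hUk : ∀ k : ℤ, (U ^ k) x = x ∧ (U ^ k) y = y * x ^ k := by
    intro k
    induction k using Int.induction_on with
    | zero => simp
    | succ n ih =>
      rw [add_comm, zpow_add, zpow_one]
      refine ⟨by rw [MulAut.mul_apply, ih.1, hUx], ?_⟩
      rw [MulAut.mul_apply, ih.2, map_mul, map_zpow, hUx, hUy, zpow_add, zpow_one, mul_assoc]
    | pred n ih =>
      have h1 : U⁻¹ x = x := by
        conv_lhs => rw [← hUx]
        exact MulAut.inv_apply_self V U x
      have h2 : U⁻¹ y = y * x⁻¹ := by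
        have := congrArg (U⁻¹ ·) hUy
        simp only [MulAut.inv_apply_self, map_mul, h1] at this
        exact eq_mul_inv_of_mul_eq this.symm
      rw [sub_eq_add_neg, add_comm, zpow_add, zpow_neg_one]
      refine ⟨by rw [MulAut.mul_apply, ih.1, h1], ?_⟩
      rw [MulAut.mul_apply, ih.2, map_mul, map_zpow, h1, h2, zpow_add, zpow_neg_one, mul_assoc]
  have hBk : ∀ k : ℤ, (B ^ k) y = y ∧ (B ^ k) x = x * y ^ k := by
    intro k
    induction k using Int.induction_on with
    | zero => simp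
    | succ n ih =>
      rw [add_comm, zpow_add, zpow_one]
      refine ⟨by rw [MulAut.mul_apply, ih.1, hBy], ?_⟩
      rw [MulAut.mul_apply, ih.2, map_mul, map_zpow, hBy, hBx, zpow_add, zpow_one, mul_assoc]
    | pred n ih =>
      have h1 : B⁻¹ y = y := by
        conv_lhs => rw [← hBy]
        exact MulAut.inv_apply_self V B y
      have h2 : B⁻¹ x = x * y⁻¹ := by
        have := congrArg (B⁻¹ ·) hBx
        simp only [MulAut.inv_apply_self, map_mul, h1] at this
        exact eq_mul_inv_of_mul_eq this.symm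
      rw [sub_eq_add_neg, add_comm, zpow_add, zpow_neg_one]
      refine ⟨by rw [MulAut.mul_apply, ih.1, h1], ?_⟩
      rw [MulAut.mul_apply, ih.2, map_mul, map_zpow, h1, h2, zpow_add, zpow_neg_one, mul_assoc]
  have hU : U ∈ Subgroup.closure ({U, B} : Set (MulAut V)) := Subgroup.subset_closure (by simp)
  have hB : B ∈ Subgroup.closure ({U, B} : Set (MulAut V)) := Subgroup.subset_closure (by simp)
  have key : ∀ a b : ℤ, (p : ℤ) ∣ 1 - a * b → ∃ w ∈ Subgroup.closure ({U, B} : Set (MulAut V)),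
      w x = y ^ (-b) ∧ w y = x ^ a := by
    intro a b hab
    refine ⟨U ^ a * B ^ (-b) * U ^ a, Subgroup.mul_mem _ (Subgroup.mul_mem _ (Subgroup.zpow_mem _ hU _)
      (Subgroup.zpow_mem _ hB _)) (Subgroup.zpow_mem _ hU _), ?_, ?_⟩
    · rw [MulAut.mul_apply, MulAut.mul_apply, (hUk a).1, (hBk (-b)).2, map_mul, map_zpow, (hUk a).1, (hUk a).2,
        mul_zpow, ← zpow_mul]
      have : x * (y ^ (-b) * x ^ (a * -b)) = y ^ (-b) * x ^ (1 - a * b) := by
        rw [mul_left_comm, show (1 - a * b) = 1 + a * -b by ring, zpow_add, zpow_one]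
      rw [this, zpow_eq_of_dvd hexp x (i := 1 - a * b) (j := 0) (by simpa using hab), zpow_zero, mul_one]
    · rw [MulAut.mul_apply, MulAut.mul_apply, (hUk a).2, map_mul, map_zpow, (hBk (-b)).1, (hBk (-b)).2, mul_zpow,
        ← zpow_mul]
      have : y * (x ^ a * y ^ (-b * a)) = x ^ a * y ^ (1 - a * b) := by
        rw [mul_left_comm, show (1 - a * b) = 1 + -b * a by ring, zpow_add, zpow_one]
      rw [this, zpow_eq_of_dvd hexp y (i := 1 - a * b) (j := 0) (by simpa using hab), zpow_zero, mul_one, map_zpow,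
        (hUk a).1]
  obtain ⟨w1, hw1, h1, h2⟩ := key a b hab
  obtain ⟨w2, hw2, h3, h4⟩ := key (-1) (-1) (by simp)
  refine ⟨w1 * w2, Subgroup.mul_mem _ hw1 hw2, ?_, ?_⟩
  · rw [MulAut.mul_apply, h3, neg_neg, zpow_one, h2]
  · rw [MulAut.mul_apply, h4, map_zpow, h1, ← zpow_mul]; congr 1; ring

end plane

end Cfsg.Agent.H1.Rk
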