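import Mathlib
import Cfsg.Agent.H1_RkA

set_option autoImplicit false
set_option linter.all false

/-! Essential subgroups acting on planes. -/

namespace Cfsg.Agent.H1.Rk

open Cfsg Cfsg.FusionSystem Cfsg.Agent.H27.Fus Cfsg.Agent.H27.Grp Cfsg.Agent.H1.FusA Cfsg.Agent.H1.Sm

variable {Ω : Type*} [Group Ω] {S E : Subgroup Ω} [Finite S] {F : FusionSystem S} {p : ℕ} [hp : Fact p.Prime]

/-- conjugation by an element of `N_S(E)` as an element of `Aut_F(E)` -/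
noncomputable def cA (F : FusionSystem S) (hES : E ≤ S) (s : Ω) (hs : s ∈ normalizerIn S E) : F.autGroup E :=
  ⟨cjA E s hs.2, autInducedBy_le_autGroup F hES (cjA_mem hs.2 hs.1)⟩

theorem cA_apply (hES : E ≤ S) {s : Ω} (hs : s ∈ normalizerIn S E) (x : E) :
    (((cA F hES s hs : MulAut E) x : E) : Ω) = s * x * s⁻¹ := rfl

theorem cA_mul (hES : E ≤ S) {s t : Ω} (hs : s ∈ normalizerIn S E) (ht : t ∈ normalizerIn S E) :
    cA F hES (s * t) (Subgroup.mul_mem _ hs ht) = cA F hES s hs * cA F hES t ht := by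
  apply Subtype.ext
  ext x
  show s * t * x * (s * t)⁻¹ = s * (t * x * t⁻¹) * s⁻¹
  group

theorem cA_pow (hES : E ≤ S) {s : Ω} (hs : s ∈ normalizerIn S E) (n : ℕ) :
    cA F hES (s ^ n) (Subgroup.pow_mem _ hs n) = cA F hES s hs ^ n := by
  induction n with
  | zero =>
    apply Subtype.ext
    ext x
    show s ^ 0 * x * (s ^ 0)⁻¹ = x
    simp
  | succ n ih =>
    rw [pow_succ (cA F hES s hs), ← ih, ← cA_mul hES (Subgroup.pow_mem _ hs n) hs]
    apply Subtype.ext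
    ext x
    show s ^ (n + 1) * x * (s ^ (n + 1))⁻¹ = s ^ n * s * x * (s ^ n * s)⁻¹
    rw [pow_succ]

theorem cA_inv (hES : E ≤ S) {s : Ω} (hs : s ∈ normalizerIn S E) :
    cA F hES s⁻¹ (Subgroup.inv_mem _ hs) = (cA F hES s hs)⁻¹ := by
  rw [eq_inv_iff_mul_eq_one, ← cA_mul hES (Subgroup.inv_mem _ hs) hs]
  apply Subtype.ext
  ext x
  show s⁻¹ * s * x * (s⁻¹ * s)⁻¹ = x
  group

theorem pgroup_cA (hS : IsPGroup p S) (hES : E ≤ S) {s : Ω} (hs : s ∈ normalizerIn S E) : ∃ n : ℕ, cA F hES s hs ^ (p ^ n) = 1 := by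
  obtain ⟨n, hn⟩ := hS ⟨s, hs.1⟩
  refine ⟨n, ?_⟩
  have h1 : s ^ (p ^ n) = 1 := congrArg Subtype.val hn
  rw [← cA_pow]
  apply Subtype.ext
  ext x
  show s ^ (p ^ n) * x * (s ^ (p ^ n))⁻¹ = x
  rw [h1]; simp

/-- a frame for the action of `Aut_F(E)` on a plane -/
structure Frame {V : Type*} [Group V] (F : FusionSystem S) (p : ℕ) (hES : E ≤ S) (ρ : F.autGroup E →* MulAut V) (s : Ω)
    (hs : s ∈ normalizerIn S E) (x y : V) : Prop where
  x_ne : x ≠ 1
  y_nm : y ∉ Subgroup.zpowers x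
  s_x : ρ (cA F hES s hs) x = x
  s_y : ρ (cA F hES s hs) y = y * x
  st : ∀ t ht, ρ (cA F hES t ht) ∈ stabTr x y
  mv : ∃ g, ρ g x ∉ Subgroup.zpowers x
  tor : ∀ a b : ℤ, (p : ℤ) ∣ 1 - a * b → ∃ h, ρ h x = x ^ a ∧ ρ h y = y ^ b

theorem map_le_normalizer {A : Subgroup (MulAut E)} {K : Subgroup A} (hK : K.Normal) :
    A ≤ Subgroup.normalizer ((K.map A.subtype : Subgroup (MulAut E)) : Set (MulAut E)) := by
  have key : ∀ α ∈ A, ∀ β ∈ K.map A.subtype, α * β * α⁻¹ ∈ K.map A.subtype := by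
    rintro α hα _ ⟨β, hβ, rfl⟩
    exact ⟨(⟨α, hα⟩ : A) * β * (⟨α, hα⟩ : A)⁻¹, hK.conj_mem _ hβ _, rfl⟩
  intro α hα
  rw [Subgroup.mem_normalizer_iff]
  intro β
  refine ⟨fun h => key α hα β h, fun h => ?_⟩
  have h1 := key _ (A.inv_mem hα) _ h
  have e : α⁻¹ * (α * β * α⁻¹) * α⁻¹⁻¹ = β := by group
  rwa [e] at h1

theorem map_isPGroup {A : Subgroup (MulAut E)} {K : Subgroup A} (hKp : ∀ a ∈ K, ∃ k : ℕ, a ^ (p ^ k) = 1) :
    IsPGroup p (K.map A.subtype) := by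
  rintro ⟨_, β, hβ, rfl⟩
  obtain ⟨k, hk⟩ := hKp β hβ
  refine ⟨k, Subtype.ext ?_⟩
  have h1 := congrArg (Subtype.val : A → MulAut E) hk
  simpa using h1

theorem no_stab' (hS : IsPGroup p S) (hF : F.IsSaturated p) (hE : F.IsEssential p E) (K : Subgroup (F.autGroup E))
    (hK : K.Normal) (hKp : ∀ a ∈ K, ∃ k : ℕ, a ^ (p ^ k) = 1) (h : ∀ s hs, cA F hE.1.1 s hs ∈ K) : False := by
  refine no_stab hS hF hE (X := K.map (F.autGroup E).subtype) (Subgroup.map_subtype_le _) (map_le_normalizer hK)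
    (map_isPGroup hKp) fun s hs hN => ⟨cA F hE.1.1 s ⟨hs, hN⟩, h s ⟨hs, hN⟩, rfl⟩

theorem exists_frame (hS : IsPGroup p S) (hF : F.IsSaturated p) (hE : F.IsEssential p E) {V : Type*} [Group V] [Finite V]
    (hcard : Nat.card V = p ^ 2) (hexp : ∀ x : V, x ^ p = 1) (hc : ∀ x y : V, x * y = y * x)
    (ρ : F.autGroup E →* MulAut V) (hker : ∀ a, ρ a = 1 → ∃ k : ℕ, a ^ (p ^ k) = 1) :
    ∃ (s : Ω) (hs : s ∈ normalizerIn S E) (x y : V), Frame F p hE.1.1 ρ s hs x y := by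
  have hES := hE.1.1
  haveI : Finite E := finite_of_le hES
  haveI : Finite (normalizerIn S E) := fin_nrm
  -- the group induced by `N_S(E)` on `V`
  let N := normalizerIn S E
  let cN : N →* F.autGroup E :=
    { toFun := fun s => cA F hES s s.2
      map_one' := by
        apply Subtype.ext
        ext x
        show (1 : Ω) * x * (1 : Ω)⁻¹ = x
        simp
      map_mul' := fun s t => cA_mul hES s.2 t.2 }
  let Q : Subgroup (MulAut V) := (ρ.comp cN).range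
  have hNp : IsPGroup p N := isPGroup_mono hS nrm_le
  have hQp : IsPGroup p Q := by
    have : Q = (⊤ : Subgroup N).map (ρ.comp cN) := by rw [← MonoidHom.range_eq_map]
    rw [this]
    exact (hNp.to_subgroup ⊤).map _
  have hQmem : ∀ t ht, ρ (cA F hES t ht) ∈ Q := fun t ht => ⟨⟨t, ht⟩, rfl⟩
  obtain ⟨x, hx, hx1⟩ : ∃ x : V, x ∈ MulAction.fixedPoints Q V ∧ (1 : V) ≠ x := by
    refine hQp.exists_fixed_point_of_prime_dvd_card_of_fixed_point V ?_ ?_
    · rw [hcard]; exact dvd_pow_self p two_ne_zero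
    · intro q
      show (q : MulAut V) 1 = 1
      exact map_one _
  have hx1 : x ≠ 1 := fun h => hx1 h.symm
  have hxfix : ∀ t ht, ρ (cA F hES t ht) x = x := fun t ht => hx ⟨_, hQmem t ht⟩
  have hox : orderOf x = p := orderOf_eq_prime (hexp x) hx1
  obtain ⟨y₀, hy₀⟩ : ∃ y, y ∉ Subgroup.zpowers x := by
    by_contra hcon
    push Not at hcon
    have h1 : Subgroup.zpowers x = ⊤ := by rw [eq_top_iff]; intro y _; exact hcon y
    have h2 : Nat.card (Subgroup.zpowers x) = p ^ 2 := by rw [h1, Subgroup.card_top, hcard]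
    rw [Nat.card_zpowers, hox] at h2
    have h3 := hp.out.one_lt
    have : p * p = p * 1 := by rw [← pow_two, ← h2, mul_one]
    have := Nat.eq_of_mul_eq_mul_left hp.out.pos this
    omega
  have hst : ∀ t ht, ρ (cA F hES t ht) ∈ stabTr x y₀ := by
    intro t ht
    refine ⟨hxfix t ht, ?_⟩
    obtain ⟨n, hn⟩ := pgroup_cA (F := F) hS hES ht
    exact unip hcard hexp hc hx1 hy₀ (hxfix t ht) (n := n) (by rw [← map_pow, hn, map_one])
  -- an automorphism moving the line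
  obtain ⟨g, hg⟩ : ∃ g, ρ g x ∉ Subgroup.zpowers x := by
    by_contra hcon
    push Not at hcon
    refine no_stab' hS hF hE ((stabTr x y₀).comap ρ) ⟨?_⟩ ?_ hst
    · intro β hβ α
      show ρ (α * β * α⁻¹) ∈ stabTr x y₀
      rw [map_mul, map_mul, map_inv]
      exact stabTr_conj hcard hc hx1 hy₀ hβ (hcon _) (by rw [← map_inv]; exact hcon _)
    · intro β hβ
      have h1 : ρ β ^ p = 1 := transvection_pow hcard hexp hc hx1 hy₀ hβ.1 hβ.2
      obtain ⟨k, hk⟩ := hker (β ^ p) (by rw [map_pow, h1])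
      exact ⟨k + 1, by rw [pow_succ', pow_mul, hk]⟩
  -- a nontrivial element
  obtain ⟨s, hs, hsne⟩ : ∃ s, ∃ hs : s ∈ normalizerIn S E, ρ (cA F hES s hs) ≠ 1 := by
    by_contra hcon
    push Not at hcon
    exact no_stab' hS hF hE ρ.ker (MonoidHom.normal_ker ρ) hker hcon
  set u := ρ (cA F hES s hs) with hu
  have hux : u x = x := hxfix s hs
  set y := ρ g x with hy
  have hyx : y ∉ Subgroup.zpowers x := hg
  have hall : ∀ t ht, ∀ v, ρ (cA F hES t ht) v * v⁻¹ ∈ Subgroup.zpowers x := fun t ht v =>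
    stabTr_all hcard hc hx1 hy₀ (hst t ht) v
  obtain ⟨k, hk⟩ := hall s hs y
  have hk : x ^ k = u y * y⁻¹ := hk
  have huy : u y = y * x ^ k := by rw [hk, hc, mul_assoc, inv_mul_cancel, mul_one]
  have hkne : x ^ k ≠ 1 := by
    intro h
    apply hsne
    refine aut_ext hcard hx1 hyx hux ?_
    rw [MulAut.one_apply, huy, h, mul_one]
  have hpk : ¬ (p : ℤ) ∣ k := by
    intro h
    apply hkne
    rw [zpow_eq_of_dvd hexp x (i := k) (j := 0) (by simpa using h), zpow_zero]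
  have hzk : Subgroup.zpowers (x ^ k) = Subgroup.zpowers x := by
    refine Subgroup.eq_of_le_of_card_ge (Subgroup.zpowers_le.2 (Subgroup.zpow_mem _ (Subgroup.mem_zpowers x) k)) ?_
    rw [Nat.card_zpowers, Nat.card_zpowers, hox, orderOf_eq_prime (hexp _) hkne]
  set e₁ := x ^ k with he1
  have hy1 : y ≠ 1 := fun h => hyx (h ▸ Subgroup.one_mem _)
  have hye : y ∉ Subgroup.zpowers e₁ := by rw [hzk]; exact hyx
  -- the conjugate transvection
  set v := ρ g * u * (ρ g)⁻¹ with hv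
  have hvy : v y = y := by
    rw [hv, MulAut.mul_apply, MulAut.mul_apply, hy, MulAut.inv_apply_self, hux]
  have hvall : ∀ w, v w * w⁻¹ ∈ Subgroup.zpowers y := by
    intro w
    obtain ⟨j, hj⟩ := hall s hs ((ρ g)⁻¹ w)
    have hj : x ^ j = u ((ρ g)⁻¹ w) * ((ρ g)⁻¹ w)⁻¹ := hj
    refine ⟨j, ?_⟩
    show y ^ j = _
    rw [hy, ← map_zpow, hj, map_mul, map_inv, MulAut.apply_inv_self]
    rfl
  obtain ⟨c, hcc⟩ := hvall e₁
  have hcc : y ^ c = v e₁ * e₁⁻¹ := hcc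
  have hve : v e₁ = e₁ * y ^ c := by rw [hcc, hc, mul_assoc, inv_mul_cancel, mul_one]
  have hcp : ¬ (p : ℤ) ∣ c := by
    intro h
    have h1 : y ^ c = 1 := by rw [zpow_eq_of_dvd hexp y (i := c) (j := 0) (by simpa using h), zpow_zero]
    rw [h1, mul_one] at hve
    have h2 : v = 1 := aut_ext hcard hkne hye hve hvy
    apply hsne
    have h3 : u = (ρ g)⁻¹ * v * ρ g := by rw [hv]; group
    rw [h3, h2]; group
  obtain ⟨a', c', hac⟩ : IsCoprime (p : ℤ) c := (Prime.coprime_iff_not_dvd (Nat.prime_iff_prime_int.1 hp.out)).2 hcp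
  have hvn : ∀ n : ℤ, (v ^ n) y = y ∧ (v ^ n) e₁ = e₁ * y ^ (c * n) := by
    intro n
    have hfix : ∀ m : ℤ, v (y ^ m) = y ^ m := fun m => by rw [map_zpow, hvy]
    induction n using Int.induction_on with
    | zero => simp
    | succ n ih =>
      rw [add_comm, zpow_add, zpow_one]
      refine ⟨by rw [MulAut.mul_apply, ih.1, hvy], ?_⟩
      rw [MulAut.mul_apply, ih.2, map_mul, hfix, hve, mul_assoc, ← zpow_add]
      congr 2; ring
    | pred n ih =>
      have h1 : v⁻¹ y = y := by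
        conv_lhs => rw [← hvy]
        exact MulAut.inv_apply_self V v y
      have h1' : ∀ m : ℤ, v⁻¹ (y ^ m) = y ^ m := fun m => by rw [map_zpow, h1]
      have h2 : v⁻¹ e₁ = e₁ * y ^ (-c) := by
        have := congrArg (v⁻¹ ·) hve
        simp only [MulAut.inv_apply_self, map_mul, h1'] at this
        rw [zpow_neg]
        exact eq_mul_inv_of_mul_eq this.symm
      rw [sub_eq_add_neg, add_comm, zpow_add, zpow_neg_one]
      refine ⟨by rw [MulAut.mul_apply, ih.1, h1], ?_⟩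
      rw [MulAut.mul_apply, ih.2, map_mul, h1', h2, mul_assoc, ← zpow_add]
      congr 2; ring
  set B := v ^ c' with hB
  have hBy : B y = y := (hvn c').1
  have hBe : B e₁ = e₁ * y := by
    rw [hB, (hvn c').2]
    congr 1
    conv_rhs => rw [← zpow_one y]
    exact zpow_eq_of_dvd hexp y ⟨-a', by linarith⟩
  have hue : u e₁ = e₁ := by rw [he1, map_zpow, hux]
  refine ⟨s, hs, e₁, y, hkne, hye, hue, huy, ?_, ⟨g, ?_⟩, ?_⟩
  · intro t ht
    refine ⟨by rw [he1, map_zpow]; exact congrArg (· ^ k) (hxfix t ht), ?_⟩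
    rw [hzk]; exact hall t ht y
  · rw [hzk]
    intro h
    rw [he1, map_zpow] at h
    apply hyx
    -- y = (y^k)^k'
    obtain ⟨a, b, hab⟩ : IsCoprime (p : ℤ) k := (Prime.coprime_iff_not_dvd (Nat.prime_iff_prime_int.1 hp.out)).2 hpk
    have : y = (y ^ k) ^ b := by
      rw [← zpow_mul]
      conv_lhs => rw [← zpow_one y]
      exact zpow_eq_of_dvd hexp y ⟨a, by linarith⟩
    rw [this]
    exact Subgroup.zpow_mem _ h b
  · intro a b hab
    obtain ⟨h, hh, h1, h2⟩ := torus_of (p := p) hexp hc hue huy hBe hBy hab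
    have hrange : Subgroup.closure ({u, B} : Set (MulAut V)) ≤ ρ.range := by
      rw [Subgroup.closure_le]
      rintro w (rfl | rfl)
      · exact ⟨_, rfl⟩
      · have hvr : v ∈ ρ.range := ⟨g * cA F hES s hs * g⁻¹, by rw [map_mul, map_mul, map_inv]⟩
        exact Subgroup.zpow_mem _ hvr _
    obtain ⟨h', rfl⟩ := hrange hh
    exact ⟨h', h1, h2⟩

theorem ker_inn (hS : IsPGroup p S) (hE : F.IsEssential p E) {V : Type*} [Group V]
    (ρ : F.autGroup E →* MulAut V) (hker : ∀ a, ρ a = 1 → ∃ k : ℕ, a ^ (p ^ k) = 1) {a : F.autGroup E} (ha : ρ a = 1) :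
    (a : MulAut E) ∈ Inn E := by
  exact rad_le (essential_radical hS hE) (X := ρ.ker.map (F.autGroup E).subtype) (Subgroup.map_subtype_le _)
    (map_le_normalizer (MonoidHom.normal_ker ρ)) (map_isPGroup hker) ⟨a, ha, rfl⟩

/-- elements of `N_S(E)` acting trivially on the plane lie in `E` -/
theorem mem_of_trivial (hS : IsPGroup p S) (hE : F.IsEssential p E) {V : Type*} [Group V]
    (ρ : F.autGroup E →* MulAut V) (hker : ∀ a, ρ a = 1 → ∃ k : ℕ, a ^ (p ^ k) = 1) {t : Ω} (ht : t ∈ normalizerIn S E)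
    (h : ρ (cA F hE.1.1 t ht) = 1) : t ∈ E := by
  obtain ⟨g, hg, hgt⟩ := mem_inn.1 (ker_inn hS hE ρ hker h)
  have h1 : g⁻¹ * t ∈ centralizerIn S E := by
    refine mem_cen.2 ⟨S.mul_mem (S.inv_mem (hE.1.1 hg)) ht.1, fun x hx => ?_⟩
    have h2 : t * x * t⁻¹ = g * x * g⁻¹ := hgt ⟨x, hx⟩
    calc x * (g⁻¹ * t) = g⁻¹ * (g * x * g⁻¹) * t := by group
      _ = g⁻¹ * (t * x * t⁻¹) * t := by rw [h2]
      _ = g⁻¹ * t * x := by group
  have h2 := IsCentric.cen_le hE.1 h1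
  have e : t = g * (g⁻¹ * t) := by group
  rw [e]; exact E.mul_mem hg h2

section frame

variable {V : Type*} [Group V] [Finite V] {ρ : F.autGroup E →* MulAut V} {hES : E ≤ S} {s : Ω} {hs : s ∈ normalizerIn S E} {x y : V}

/-- `E` acts trivially on the plane -/
theorem Frame.triv (hcard : Nat.card V = p ^ 2) (h : Frame F p hES ρ s hs x y) {t : Ω} (ht : t ∈ E) :
    ρ (cA F hES t (le_nrm hES ht)) = 1 := by
  obtain ⟨g, hg⟩ := h.mv
  refine aut_ext hcard h.x_ne hg (h.st _ _).1 ?_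
  -- `g⁻¹ t ∈ E` fixes `x`
  let t' : E := (g : MulAut E)⁻¹ ⟨t, ht⟩
  have h1 := (h.st (t' : Ω) (le_nrm hES t'.2)).1
  have h2 : cA F hES (t' : Ω) (le_nrm hES t'.2) = g⁻¹ * cA F hES t (le_nrm hES ht) * g := by
    apply Subtype.ext
    ext z
    have e1 : (((g⁻¹ * cA F hES t (le_nrm hES ht) * g : F.autGroup E) : MulAut E) z : E) =
        (g : MulAut E)⁻¹ ((⟨t, ht⟩ : E) * (g : MulAut E) z * (⟨t, ht⟩ : E)⁻¹) := rfl
    rw [e1, map_mul, map_mul, map_inv, MulAut.inv_apply_self]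
    rfl
  rw [h2, map_mul, map_mul, map_inv, MulAut.mul_apply, MulAut.mul_apply] at h1
  rw [MulAut.one_apply]
  have h3 := congrArg (ρ g ·) h1
  simpa using h3

theorem Frame.exists_k (h : Frame F p hES ρ s hs x y) (hc : ∀ x y : V, x * y = y * x) {t : Ω} (ht : t ∈ normalizerIn S E) :
    ∃ k : ℤ, ρ (cA F hES t ht) y = y * x ^ k := by
  obtain ⟨k, hk⟩ := (h.st t ht).2
  have hk : x ^ k = ρ (cA F hES t ht) y * y⁻¹ := hk
  exact ⟨k, by rw [hk, hc, mul_assoc, inv_mul_cancel, mul_one]⟩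

theorem Frame.pow_k (h : Frame F p hES ρ s hs x y) {t : Ω} (ht : t ∈ normalizerIn S E) {k : ℤ}
    (hk : ρ (cA F hES t ht) y = y * x ^ k) (n : ℕ) :
    ρ (cA F hES (t ^ n) (Subgroup.pow_mem _ ht n)) y = y * x ^ (k * n) := by
  rw [cA_pow hES ht, map_pow]
  induction n with
  | zero => simp
  | succ n ih =>
    rw [pow_succ', MulAut.mul_apply, ih, map_mul, map_zpow, (h.st t ht).1, hk, mul_assoc, ← zpow_add]
    congr 2; push_cast; ring

theorem Frame.conj_k (hexp : ∀ x : V, x ^ p = 1) (hc : ∀ x y : V, x * y = y * x) (h : Frame F p hES ρ s hs x y)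
    {t : Ω} (ht : t ∈ normalizerIn S E) {g : F.autGroup E} {a b : ℤ} (hab : (p : ℤ) ∣ 1 - a * b)
    (hgx : ρ g x = x ^ a) (hgy : ρ g y = y ^ b) {n : ℕ} (hn : (p : ℤ) ∣ a * a - n) (hcard : Nat.card V = p ^ 2) :
    ρ (g * cA F hES t ht * g⁻¹) = ρ (cA F hES (t ^ n) (Subgroup.pow_mem _ ht n)) := by
  letI : CommGroup V := { (inferInstance : Group V) with mul_comm := hc }
  obtain ⟨k, hk⟩ := h.exists_k hc ht
  have h1 : (ρ g)⁻¹ x = x ^ b := by
    rw [MulAut.inv_apply, MulEquiv.symm_apply_eq, map_zpow, hgx, ← zpow_mul]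
    conv_lhs => rw [← zpow_one x]
    exact zpow_eq_of_dvd hexp x hab
  have h2 : (ρ g)⁻¹ y = y ^ a := by
    rw [MulAut.inv_apply, MulEquiv.symm_apply_eq, map_zpow, hgy, ← zpow_mul]
    conv_lhs => rw [← zpow_one y]
    exact zpow_eq_of_dvd hexp y (by rwa [mul_comm])
  refine aut_ext hcard h.x_ne h.y_nm ?_ ?_
  · rw [(h.st _ _).1, map_mul, map_mul, map_inv, MulAut.mul_apply, MulAut.mul_apply, h1, map_zpow, (h.st t ht).1,
      map_zpow, hgx, ← zpow_mul]
    conv_rhs => rw [← zpow_one x]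
    exact zpow_eq_of_dvd hexp x (by obtain ⟨c, hc⟩ := hab; exact ⟨-c, by linarith⟩)
  · rw [h.pow_k ht hk, map_mul, map_mul, map_inv, MulAut.mul_apply, MulAut.mul_apply, h2, map_zpow, hk, map_zpow,
      map_mul, map_zpow, hgx, hgy, mul_zpow, ← zpow_mul, ← zpow_mul, ← zpow_mul]
    congr 1
    · conv_rhs => rw [← zpow_one y]
      exact zpow_eq_of_dvd hexp y (by obtain ⟨c, hc⟩ := hab; exact ⟨-c, by linarith⟩)
    · refine zpow_eq_of_dvd hexp x ?_
      obtain ⟨c, hc⟩ := hn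
      exact ⟨k * c, by linear_combination k * hc⟩

/-- extension of a torus element to `N_S(E)` -/
theorem Frame.extend (hS : IsPGroup p S) (hF : F.IsSaturated p) (hE : F.IsEssential p E)
    (hcard : Nat.card V = p ^ 2) (hexp : ∀ x : V, x ^ p = 1) (hc : ∀ x y : V, x * y = y * x)
    (hker : ∀ a, ρ a = 1 → ∃ k : ℕ, a ^ (p ^ k) = 1) (h : Frame F p hE.1.1 ρ s hs x y)
    {g : F.autGroup E} {a b : ℤ} (hab : (p : ℤ) ∣ 1 - a * b)
    (hgx : ρ g x = x ^ a) (hgy : ρ g y = y ^ b) {n : ℕ} (hn : (p : ℤ) ∣ a * a - n) :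
    ∃ f : Ω → Ω, Map F (normalizerIn S E) f ∧ (∀ z : E, f z = ((g : MulAut E) z : E)) ∧
      ∀ t ∈ normalizerIn S E, f t ∈ normalizerIn S E ∧ f t * (t ^ n)⁻¹ ∈ E := by
  have hES := hE.1.1
  have hgi : Iso F E E (totA (g : MulAut E)) := (mem_autGroup_iff hES).1 g.2
  have hle : normalizerIn S E ≤ ext S E (totA (g : MulAut E)) := by
    intro t ht
    refine mem_ext.2 ⟨ht.1, ht.2, ?_⟩
    have h1 := h.conj_k hexp hc ht hab hgx hgy hn hcard
    have h2 : ρ ((g * cA F hES t ht * g⁻¹) * (cA F hES (t ^ n) (Subgroup.pow_mem _ ht n))⁻¹) = 1 := by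
      rw [map_mul ρ, h1, map_inv, mul_inv_cancel]
    obtain ⟨i, hi, hii⟩ := mem_inn.1 (ker_inn hS hE ρ hker h2)
    refine ⟨i * t ^ n, S.mul_mem (hES hi) (S.pow_mem ht.1 n), fun z hz => ?_⟩
    have h3 := hii (cjA E (t ^ n) (Subgroup.pow_mem _ ht n).2 ((g : MulAut E) ⟨z, hz⟩))
    have h4 : (((((g * cA F hES t ht * g⁻¹) * (cA F hES (t ^ n) (Subgroup.pow_mem _ ht n))⁻¹ : F.autGroup E) : MulAut E)
        (cjA E (t ^ n) (Subgroup.pow_mem _ ht n).2 ((g : MulAut E) ⟨z, hz⟩)) : E) : Ω) =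
        (((g : MulAut E) (cjA E t ht.2 ⟨z, hz⟩) : E) : Ω) := by
      show (((g : MulAut E) (cjA E t ht.2 ((g : MulAut E)⁻¹ ((cjA E (t ^ n) (Subgroup.pow_mem _ ht n).2)⁻¹
        (cjA E (t ^ n) (Subgroup.pow_mem _ ht n).2 ((g : MulAut E) ⟨z, hz⟩))))) : E) : Ω) = _
      rw [MulAut.inv_apply_self, MulAut.inv_apply_self]
    rw [h4] at h3
    have h5 : t * z * t⁻¹ ∈ E := (Subgroup.mem_normalizer_iff.1 ht.2 z).1 hz
    rw [totA_of_mem _ h5, totA_of_mem _ hz]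
    have h6 : (⟨t * z * t⁻¹, h5⟩ : E) = cjA E t ht.2 ⟨z, hz⟩ := rfl
    rw [h6, h3, cjA_apply]
    group
  obtain ⟨f, hf, hfg⟩ := receptive_ext' (fn_receptive hS hF hE.2.1) hgi hle
  have hfE : ∀ z : E, f z = ((g : MulAut E) z : E) := fun z => by rw [hfg z z.2, totA_of_mem _ z.2]
  refine ⟨f, hf, hfE, fun t ht => ?_⟩
  have h1 : f t ∈ normalizerIn S E := by
    have hi : Iso F E E f := hgi.congr fun z hz => (hfg z hz).symm
    exact hf.nrm_mem' hi (le_nrm hES) ht ht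
  refine ⟨h1, ?_⟩
  have h2 : f t * (t ^ n)⁻¹ ∈ normalizerIn S E := Subgroup.mul_mem _ h1 (Subgroup.inv_mem _ (Subgroup.pow_mem _ ht n))
  refine mem_of_trivial hS hE ρ hker h2 ?_
  have h3 : cA F hES (f t) h1 = g * cA F hES t ht * g⁻¹ := by
    rw [eq_mul_inv_iff_mul_eq]
    apply Subtype.ext
    ext z
    show f t * ((g : MulAut E) z : E) * (f t)⁻¹ = (((g : MulAut E) (cjA E t ht.2 z) : E) : Ω)
    rw [← hfE, ← hfE, cjA_apply]
    exact (hf.conj ht (le_nrm hES z.2)).symm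
  have h4 : cA F hES (f t * (t ^ n)⁻¹) h2 = cA F hES (f t) h1 * (cA F hES (t ^ n) (Subgroup.pow_mem _ ht n))⁻¹ := by
    rw [← cA_inv hES, ← cA_mul hES]
  rw [h4, h3, map_mul, h.conj_k hexp hc ht hab hgx hgy hn hcard, map_inv, mul_inv_cancel]

end frame

end Cfsg.Agent.H1.Rk
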