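import Mathlib
import Cfsg.Agent.H1_RkB
import Cfsg.Agent.H12_Rank2c
import Cfsg.Agent.H2_Quad

set_option autoImplicit false
set_option linter.all false

/-! Groups of `p`-rank two: essential subgroups whose critical subgroup is a plane. -/

namespace Cfsg.Agent.H1.Rk

open Cfsg Cfsg.FusionSystem Cfsg.Agent.H27.Fus Cfsg.Agent.H27.Grp Cfsg.Agent.H1.FusA Cfsg.Agent.H1.Sm
open Cfsg.Agent.H12.Rank2 (restrictChar restrictChar_apply)

section grp

variable {G : Type*} [Group G] {p : ℕ} [hp : Fact p.Prime]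

theorem rank_mem {S A : Subgroup G} [Finite S] (hr : ∀ A : Subgroup G, A ≤ S → IsElementaryAbelian p A → Nat.card A ≤ p ^ 2) (hAS : A ≤ S)
    (hA : IsElementaryAbelian p A) (hAc : Nat.card A = p ^ 2) {x : G} (hx : x ∈ S) (hxp : x ^ p = 1)
    (hc : ∀ a ∈ A, a * x = x * a) : x ∈ A := by
  have hE : IsElementaryAbelian p (Subgroup.zpowers x) := by
    refine ⟨inferInstance, ?_⟩
    rintro _ ⟨k, rfl⟩
    show (x ^ k) ^ p = 1
    rw [← zpow_natCast, ← zpow_mul, mul_comm, zpow_mul, zpow_natCast, hxp, one_zpow]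
  have h1 := Cfsg.Agent.H2.Quad.ea_sup hA hE (by
    rw [Subgroup.zpowers_le, Subgroup.mem_centralizer_iff]
    exact fun a ha => hc a ha)
  have hle : A ⊔ Subgroup.zpowers x ≤ S := sup_le hAS (Subgroup.zpowers_le.2 hx)
  have h2 := hr _ hle h1
  haveI : Finite ↥(A ⊔ Subgroup.zpowers x) := finite_of_le hle
  have h3 : A = A ⊔ Subgroup.zpowers x := Subgroup.eq_of_le_of_card_ge le_sup_left (by rw [hAc]; exact h2)
  rw [h3]
  exact Subgroup.mem_sup_right (Subgroup.mem_zpowers x)

theorem pker {H : Type*} [Group H] [Finite G] (f : G →* H) (h : ∀ a, (orderOf a).Coprime p → f a = 1 → a = 1) (a : G)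
    (ha : f a = 1) : ∃ k : ℕ, a ^ (p ^ k) = 1 := by
  have hpos : 0 < orderOf a := orderOf_pos a
  obtain ⟨k, m, hm, hkm⟩ := Nat.exists_eq_pow_mul_and_not_dvd hpos.ne' p hp.out.ne_one
  refine ⟨k, h _ ?_ (by rw [map_pow, ha, one_pow])⟩
  have h1 : orderOf (a ^ (p ^ k)) ∣ m := by
    apply orderOf_dvd_of_pow_eq_one
    rw [← pow_mul, ← hkm]
    exact pow_orderOf_eq_one a
  exact Nat.Coprime.coprime_dvd_left h1 ((Nat.Prime.coprime_iff_not_dvd hp.out).2 hm).symm

/-- binomial expansion along a commutator sequence of length four -/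
theorem binom4 (hc : ∀ x y : G, x * y = y * x) (σ : MulAut G) {g0 g1 g2 g3 : G} (h0 : σ g0 = g0 * g1)
    (h1 : σ g1 = g1 * g2) (h2 : σ g2 = g2 * g3) (h3 : σ g3 = g3) (k : ℕ) :
    (σ ^ k) g0 = g0 * g1 ^ k * g2 ^ (k.choose 2) * g3 ^ (k.choose 3) := by
  letI : CommGroup G := { (inferInstance : Group G) with mul_comm := hc }
  induction k with
  | zero => simp
  | succ k ih =>
    rw [pow_succ', MulAut.mul_apply, ih, map_mul, map_mul, map_mul, map_pow, map_pow, map_pow, h0, h1, h2, h3]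
    have e2 : (k + 1).choose 2 = k + k.choose 2 := by rw [Nat.choose_succ_succ' k 1]; simp
    have e3 : (k + 1).choose 3 = k.choose 2 + k.choose 3 := by rw [Nat.choose_succ_succ' k 2]
    rw [e2, e3, mul_pow, mul_pow, pow_succ, pow_add, pow_add]
    simp only [mul_assoc, mul_left_comm, mul_comm]

end grp

variable {Ω : Type*} [Group Ω] {S E : Subgroup Ω} [Finite S] {F : FusionSystem S} {p : ℕ} [hp : Fact p.Prime]

theorem caseA (hS : IsPGroup p S) (hF : F.IsSaturated p) (hE : F.IsEssential p E) (hp5 : 5 ≤ p)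
    (hr : ∀ A : Subgroup Ω, A ≤ S → IsElementaryAbelian p A → Nat.card A ≤ p ^ 2) {K : Subgroup E} (hK : K.Characteristic)
    (hKp : ∀ x ∈ K, x ^ p = 1) (hKc : ∀ a b : K, a * b = b * a) (hKcard : Nat.card K = p ^ 2)
    (hcrit : ∀ a : MulAut E, (orderOf a).Coprime p → restrictChar K hK a = 1 → a = 1) : K = ⊤ := by
  have hES := hE.1.1
  haveI : Finite E := finite_of_le hES
  have hEp : IsPGroup p E := hS.to_le hES
  have hexp : ∀ x : K, x ^ p = 1 := fun x => Subtype.ext (hKp x x.2)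
  set ρ : F.autGroup E →* MulAut K := (restrictChar K hK).comp (F.autGroup E).subtype with hρ
  have hρa : ∀ (a : F.autGroup E) (z : K), ((ρ a z : K) : E) = (a : MulAut E) z := fun a z => rfl
  have hker : ∀ a, ρ a = 1 → ∃ k : ℕ, a ^ (p ^ k) = 1 := pker ρ (fun a ha h1 => Subtype.ext (hcrit a (by
    rwa [Subgroup.orderOf_coe]) h1))
  obtain ⟨s, hs, x, y, hf⟩ := exists_frame hS hF hE hKcard hexp hKc ρ hker
  have hcK : ∀ e : E, ∀ z ∈ K, z * e = e * z := by
    intro e z hz
    have h1 := hf.triv hKcard e.2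
    have h2 := congrArg (fun α : MulAut K => ((α ⟨z, hz⟩ : K) : E)) h1
    have h3 : e * z * e⁻¹ = z := h2
    calc z * e = (e * z * e⁻¹) * e := by rw [h3]
      _ = e * z := by group
  -- elements of order p
  have hKE : IsElementaryAbelian p (K.map E.subtype) := by
    refine ⟨⟨⟨?_⟩⟩, ?_⟩
    · rintro ⟨_, a, ha, rfl⟩ ⟨_, b, hb, rfl⟩
      apply Subtype.ext
      have := congrArg (fun z : K => ((z : E) : Ω)) (hKc ⟨a, ha⟩ ⟨b, hb⟩)
      exact this
    · rintro _ ⟨a, ha, rfl⟩
      exact congrArg Subtype.val (hKp a ha)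
  have hKEc : Nat.card (K.map E.subtype) = p ^ 2 := by rw [Subgroup.card_map_of_injective E.subtype_injective, hKcard]
  have hΩ : ∀ e : E, e ^ p = 1 → e ∈ K := by
    intro e he
    have h1 := rank_mem hr ((Subgroup.map_subtype_le _).trans hES) hKE hKEc (hES e.2) (congrArg Subtype.val he) (by
      rintro _ ⟨z, hz, rfl⟩
      exact congrArg Subtype.val (hcK e z hz))
    obtain ⟨e', he', h2⟩ := h1
    rwa [← E.subtype_injective h2]
  -- the inverting involution
  obtain ⟨h, hhx, hhy⟩ := hf.tor (-1) (-1) (by simp)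
  have hinvK : ∀ z : K, ρ h z = z⁻¹ := by
    intro z
    obtain ⟨i, j, rfl⟩ := exists_rep hKcard hKc hf.x_ne hf.y_nm z
    rw [map_mul, map_zpow, map_zpow, hhx, hhy, mul_inv_rev, hKc]
    simp
  have hcomm : ∀ a b : E, a * b = b * a := by
    set h' : MulAut E := h.1 with hh'
    have hpos : 0 < orderOf h' := orderOf_pos h'
    obtain ⟨k, m, hm, hkm⟩ := Nat.exists_eq_pow_mul_and_not_dvd hpos.ne' 2 (by norm_num)
    have hmo : Odd m := by rw [← Nat.not_even_iff_odd, even_iff_two_dvd]; exact hm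
    have hpowK : ∀ n : ℕ, ∀ z : K, (h' ^ n) z = if Even n then (z : E) else (z : E)⁻¹ := by
      intro n
      induction n with
      | zero => intro z; simp
      | succ n ih =>
        intro z
        have hz : h' (z : E) = ((z⁻¹ : K) : E) := by
          rw [← hinvK z]; rfl
        rw [pow_succ, MulAut.mul_apply, hz, ih]
        by_cases hn : Even n
        · have : ¬ Even (n + 1) := by rw [Nat.even_add_one]; exact not_not.2 hn
          rw [if_pos hn, if_neg this]; rfl
        · have : Even (n + 1) := by rw [Nat.even_add_one]; exact hn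
          rw [if_neg hn, if_pos this]; simp
    set τ := h' ^ m with hτ
    have hτK : ∀ z : K, τ z = (z : E)⁻¹ := by
      intro z
      rw [hτ, hpowK, if_neg (Nat.not_even_iff_odd.2 hmo)]
    have hτ2 : τ ^ 2 = 1 := by
      apply hcrit
      · have h1 : orderOf (τ ^ 2) ∣ 2 ^ k := by
          apply orderOf_dvd_of_pow_eq_one
          have e : (τ ^ 2) ^ 2 ^ k = (h' ^ (2 ^ k * m)) ^ 2 := by
            rw [hτ, ← pow_mul, ← pow_mul, ← pow_mul]; congr 1; ring
          rw [e, ← hkm, pow_orderOf_eq_one, one_pow]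
        refine Nat.Coprime.coprime_dvd_left h1 (Nat.Coprime.pow_left k ?_)
        rw [Nat.coprime_primes Nat.prime_two hp.out]; omega
      · ext z
        apply congrArg Subtype.val
        show (τ ^ 2) (z : E) = z
        rw [pow_two, MulAut.mul_apply, hτK z, map_inv, hτK, inv_inv]
    have hfpf : MonoidHom.FixedPointFree (τ : E → E) := by
      intro e he
      by_contra hne
      obtain ⟨n, hn⟩ := hEp e
      -- least power killing `e`
      classical
      let P : ℕ → Prop := fun n => e ^ (p ^ n) = 1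
      have hex : ∃ n, P n := ⟨n, hn⟩
      have hfs : P (Nat.find hex) := Nat.find_spec hex
      have h0 : Nat.find hex ≠ 0 := by
        intro h0
        rw [h0] at hfs
        apply hne
        simpa [P] using hfs
      obtain ⟨j, hj⟩ := Nat.exists_eq_succ_of_ne_zero h0
      have hfm : ¬ P j := Nat.find_min hex (by omega)
      set e' := e ^ (p ^ j) with he'
      have h1 : e' ^ p = 1 := by
        rw [he', ← pow_mul, ← pow_succ]
        rw [hj] at hfs
        exact hfs
      have h2 : e' ∈ K := hΩ e' h1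
      have h3 : τ e' = e' := by rw [he', map_pow, he]
      have h4 := hτK ⟨e', h2⟩
      have h5 : e' = e'⁻¹ := by rw [← h3]; exact h4.trans (by rw [h3])
      have h6 : e' ^ 2 = 1 := by rw [pow_two]; exact eq_inv_iff_mul_eq_one.1 h5
      apply hfm
      show e' = 1
      have h7 : orderOf e' ∣ Nat.gcd 2 p := Nat.dvd_gcd (orderOf_dvd_of_pow_eq_one h6) (orderOf_dvd_of_pow_eq_one h1)
      have h8 : Nat.gcd 2 p = 1 := (Nat.coprime_primes Nat.prime_two hp.out).2 (by omega)
      rw [h8] at h7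
      exact orderOf_eq_one_iff.1 (Nat.dvd_one.1 h7)
    exact fun a b => hfpf.commute_all_of_involutive (fun e => by
      have := congrArg (fun α : MulAut E => α e) hτ2
      simpa [pow_two] using this) a b
  -- exponent `p`
  by_contra hKt
  obtain ⟨e0, he0⟩ : ∃ e, e ∉ K := by
    by_contra hcon
    push Not at hcon
    exact hKt (by rw [eq_top_iff]; intro e _; exact hcon e)
  classical
  let P : ℕ → Prop := fun n => ∀ e : E, e ^ (p ^ n) = 1
  have hex : ∃ n, P n := by
    obtain ⟨n, hn⟩ := IsPGroup.iff_card.1 hEp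
    exact ⟨n, fun e => by rw [← hn]; exact pow_card_eq_one'⟩
  have hfs : P (Nat.find hex) := Nat.find_spec hex
  have h0 : Nat.find hex ≠ 0 := by
    intro h0
    rw [h0] at hfs
    apply he0
    have := hfs e0
    rw [pow_zero, pow_one] at this
    rw [this]; exact K.one_mem
  have h1 : Nat.find hex ≠ 1 := by
    intro h1
    rw [h1] at hfs
    exact he0 (hΩ e0 (by simpa using hfs e0))
  obtain ⟨n, hn⟩ : ∃ n, Nat.find hex = n + 2 := ⟨Nat.find hex - 2, by omega⟩
  have hfm : ¬ P (n + 1) := Nat.find_min hex (by omega)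
  rw [hn] at hfs
  let L : Subgroup E :=
    { carrier := {z | ∃ w : E, w ^ (p ^ (n + 1)) = z}
      one_mem' := ⟨1, one_pow _⟩
      mul_mem' := by
        rintro _ _ ⟨a, rfl⟩ ⟨b, rfl⟩
        exact ⟨a * b, (show Commute a b from hcomm a b).mul_pow _⟩
      inv_mem' := by
        rintro _ ⟨a, rfl⟩
        exact ⟨a⁻¹, by rw [inv_pow]⟩ }
  have hLinv : ∀ (α : MulAut E), ∀ z ∈ L, α z ∈ L := by
    rintro α _ ⟨w, rfl⟩
    exact ⟨α w, by rw [map_pow]⟩
  have hLK : L ≤ K := by
    rintro _ ⟨w, rfl⟩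
    apply hΩ
    rw [← pow_mul, ← pow_succ]; exact hfs w
  let L' : Subgroup K := L.subgroupOf K
  have hL'inv : ∀ (a : F.autGroup E), ∀ z ∈ L', ρ a z ∈ L' := fun a z hz => hLinv a.1 z hz
  have hxL : x ∈ L' := by
    obtain ⟨w, hw⟩ : ∃ w : E, w ^ (p ^ (n + 1)) ≠ 1 := by
      by_contra hcon
      push Not at hcon
      exact hfm hcon
    have hzL : w ^ (p ^ (n + 1)) ∈ L := ⟨w, rfl⟩
    set z : K := ⟨w ^ (p ^ (n + 1)), hLK hzL⟩ with hz
    have hzL' : z ∈ L' := hzL
    have hz1 : z ≠ 1 := fun h => hw (congrArg Subtype.val h)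
    obtain ⟨i, j, hij⟩ := exists_rep hKcard hKc hf.x_ne hf.y_nm z
    by_cases hj : (p : ℤ) ∣ j
    · have h2 : z = x ^ i := by
        rw [hij, zpow_eq_of_dvd hexp y (i := j) (j := 0) (by simpa using hj), zpow_zero, mul_one]
      have hi : ¬ (p : ℤ) ∣ i := by
        intro hi
        apply hz1
        rw [h2, zpow_eq_of_dvd hexp x (i := i) (j := 0) (by simpa using hi), zpow_zero]
      obtain ⟨a, b, hab⟩ : IsCoprime (p : ℤ) i := (Prime.coprime_iff_not_dvd (Nat.prime_iff_prime_int.1 hp.out)).2 hi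
      have h3 : x = z ^ b := by
        rw [h2, ← zpow_mul]
        conv_lhs => rw [← zpow_one x]
        exact zpow_eq_of_dvd hexp x ⟨a, by linarith⟩
      rw [h3]; exact L'.zpow_mem hzL' b
    · have h2 : ρ (cA F hES s hs) z = z * x ^ j := by
        letI : CommGroup K := { (inferInstance : Group K) with mul_comm := hKc }
        rw [hij, map_mul, map_zpow, map_zpow, hf.s_x, hf.s_y, mul_zpow, mul_assoc]
      have h3 : x ^ j ∈ L' := by
        have h4 := L'.mul_mem (L'.inv_mem hzL') (hL'inv (cA F hES s hs) z hzL')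
        rw [h2] at h4
        simpa using h4
      obtain ⟨a, b, hab⟩ : IsCoprime (p : ℤ) j := (Prime.coprime_iff_not_dvd (Nat.prime_iff_prime_int.1 hp.out)).2 hj
      have h4 : x = (x ^ j) ^ b := by
        rw [← zpow_mul]
        conv_lhs => rw [← zpow_one x]
        exact zpow_eq_of_dvd hexp x ⟨a, by linarith⟩
      rw [h4]; exact L'.zpow_mem h3 b
  have hL'top : L' = ⊤ := by
    obtain ⟨g, hg⟩ := hf.mv
    exact top_of_two hKcard hf.x_ne hg hxL (hL'inv g x hxL)
  obtain ⟨w, hw⟩ : (y : E) ∈ L := by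
    have : y ∈ L' := by rw [hL'top]; trivial
    exact this
  set σ : MulAut E := (cA F hES s hs).1 with hσ
  set g0 := w ^ (p ^ n) with hg0
  have hg0p : g0 ^ p = y := by rw [hg0, ← pow_mul, ← pow_succ, hw]
  have hpow : ∀ a b : E, (a * b) ^ p = a ^ p * b ^ p := fun a b => (show Commute a b from hcomm a b).mul_pow _
  set g1 := g0⁻¹ * σ g0 with hg1
  have hσx : σ (x : E) = x := congrArg Subtype.val hf.s_x
  have hσy : σ (y : E) = y * x := congrArg Subtype.val hf.s_y
  have hg1p : g1 ^ p = x := by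
    rw [hg1, hpow, inv_pow, ← map_pow, hg0p, hσy]; group
  set g2 := g1⁻¹ * σ g1 with hg2
  have hg2K : g2 ∈ K := by
    apply hΩ
    rw [hg2, hpow, inv_pow, ← map_pow, hg1p, hσx]; group
  set g3 := g2⁻¹ * σ g2 with hg3
  obtain ⟨c, hc⟩ := stabTr_all hKcard hKc hf.x_ne hf.y_nm (hf.st s hs) ⟨g2, hg2K⟩
  have hc : (x : E) ^ c = σ g2 * g2⁻¹ := congrArg Subtype.val hc
  have hg3x : g3 = (x : E) ^ c := by rw [hc, hg3, hcomm]
  have hσ3 : σ g3 = g3 := by rw [hg3x, map_zpow, hσx]
  have hb := binom4 hcomm σ (g0 := g0) (g1 := g1) (g2 := g2) (g3 := g3) (by rw [hg1]; group) (by rw [hg2]; group)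
    (by rw [hg3]; group) hσ3 p
  -- `σ ^ p = 1`
  have hsp : s ^ p ∈ E := by
    refine mem_of_trivial hS hE ρ hker (Subgroup.pow_mem _ hs p) ?_
    refine aut_ext hKcard hf.x_ne hf.y_nm ?_ ?_
    · exact (hf.st _ _).1
    · have h2 := hf.pow_k hs (k := 1) (by rw [hf.s_y, zpow_one]) p
      rw [h2, MulAut.one_apply, zpow_eq_of_dvd hexp x (i := 1 * (p : ℤ)) (j := 0) (by simp), zpow_zero, mul_one]
  have hσp : σ ^ p = 1 := by
    have h2 : σ ^ p = (cA F hES (s ^ p) (Subgroup.pow_mem _ hs p)).1 := by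
      rw [cA_pow hES hs, hσ]; rfl
    rw [h2]
    ext e
    show s ^ p * e * (s ^ p)⁻¹ = e
    have h3 := congrArg Subtype.val (hcomm ⟨s ^ p, hsp⟩ e)
    have h3 : s ^ p * (e : Ω) = e * s ^ p := h3
    rw [h3]; group
  have hp2 : p ∣ p.choose 2 := hp.out.dvd_choose_self two_ne_zero (by omega)
  have hp3 : p ∣ p.choose 3 := hp.out.dvd_choose_self three_ne_zero (by omega)
  obtain ⟨c2, hc2⟩ := hp2
  obtain ⟨c3, hc3⟩ := hp3
  have hg3p : g3 ^ p = 1 := by
    rw [hg3x]
    have := congrArg Subtype.val (show (x ^ c) ^ p = 1 from hexp _)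
    exact this
  rw [hσp, MulAut.one_apply, hc2, hc3, pow_mul, pow_mul, hKp g2 hg2K, hg3p, one_pow, one_pow, mul_one, mul_one, hg1p] at hb
  have h9 : (x : E) = 1 := by
    have := hb.symm
    rwa [mul_eq_left] at this
  exact hf.x_ne (Subtype.ext h9)

end Cfsg.Agent.H1.Rk
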