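import Mathlib
import Cfsg.Agent.H1_RkC
import Cfsg.Agent.H12_PG
import Cfsg.Agent.H1_Frob3

set_option autoImplicit false
set_option linter.all false

/-! The weight argument for extraspecial essential subgroups (abstract form). -/

namespace Cfsg.Agent.H1.Rk

open Cfsg Cfsg.Agent.H1.Sm

section abs

variable {N : Type*} [Group N]

/-- conjugation as a power: `u y u⁻¹ = y a` with `u` commuting with `a` -/
theorem conj_pow_of {u y a : N} (h : u * y * u⁻¹ = y * a) (hc : Commute u a) (k : ℕ) : u ^ k * y * (u ^ k)⁻¹ = y * a ^ k := by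
  induction k with
  | zero => simp
  | succ k ih =>
    have e : u ^ (k + 1) * y * (u ^ (k + 1))⁻¹ = u * (u ^ k * y * (u ^ k)⁻¹) * u⁻¹ := by rw [pow_succ']; group
    rw [e, ih]
    have h2 : u * a ^ k * u⁻¹ = a ^ k := by rw [(hc.pow_right k).eq, mul_inv_cancel_right]
    calc u * (y * a ^ k) * u⁻¹ = (u * y * u⁻¹) * (u * a ^ k * u⁻¹) := by group
      _ = y * a * a ^ k := by rw [h, h2]
      _ = y * a ^ (k + 1) := by rw [pow_succ', mul_assoc]

variable [Finite N] {p : ℕ} [hp : Fact p.Prime]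

/-- in a cyclic `p`-group the cyclic subgroups are totally ordered -/
theorem mem_or {D : Subgroup N} (hD : IsCyclic D) (hN : IsPGroup p N) {a b : N} (ha : a ∈ D) (hb : b ∈ D) :
    a ∈ Subgroup.zpowers b ∨ b ∈ Subgroup.zpowers a := by
  have key : ∀ a b : N, a ∈ D → b ∈ D → orderOf a ∣ orderOf b → a ∈ Subgroup.zpowers b := by
    intro a b ha hb h
    have h1 : orderOf (b ^ (orderOf b / orderOf a)) = orderOf a := by
      rw [orderOf_pow_of_dvd]
      · exact Nat.div_div_self h (orderOf_pos b).ne'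
      · exact (Nat.div_pos (Nat.le_of_dvd (orderOf_pos b) h) (orderOf_pos a)).ne'
      · exact Nat.div_dvd_of_dvd h
    have h2 := Cfsg.Agent.H1.Frob3.mem_zpowers_of_cyclic hD ha (D.pow_mem hb (orderOf b / orderOf a)) h1.symm
    exact (Subgroup.zpowers_le.2 (Subgroup.pow_mem _ (Subgroup.mem_zpowers b) _)) h2
  obtain ⟨i, hi⟩ := IsPGroup.iff_orderOf.1 hN a
  obtain ⟨j, hj⟩ := IsPGroup.iff_orderOf.1 hN b
  rcases le_total i j with h | h
  · exact Or.inl (key a b ha hb (by rw [hi, hj]; exact pow_dvd_pow p h))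
  · exact Or.inr (key b a hb ha (by rw [hi, hj]; exact pow_dvd_pow p h))

/-- natural powers suffice -/
theorem exists_nat {a b : N} (h : a ∈ Subgroup.zpowers b) : ∃ k : ℕ, b ^ k = a := by
  rw [← mem_powers_iff_mem_zpowers] at h
  exact h

theorem lemC (hp5 : 5 ≤ p) (hN : IsPGroup p N)
    (hr : ∀ A : Subgroup N, IsElementaryAbelian p A → Nat.card A ≤ p ^ 2)
    (E Z : Subgroup N) (w y t₀ : N) (f : N →* N) (α α' β β' γ : ℕ)
    (hZc : ∀ z ∈ Z, ∀ u, Commute u z) (hZcard : Nat.card Z = p)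
    (hwp : w ^ p = 1) (hyp : y ^ p = 1) (hwy : ¬ Commute w y) (hwE : w ∈ E)
    (hw : ∀ u, u * w * u⁻¹ * w⁻¹ ∈ Z)
    (ht₀ : w⁻¹ * (y⁻¹ * (t₀ * y * t₀⁻¹)) ∈ Z)
    (hE : ∀ u, u ∈ E ↔ y⁻¹ * (u * y * u⁻¹) ∈ Z)
    (hfw : (w ^ α)⁻¹ * f w ∈ Z) (hfy : (y ^ β)⁻¹ * f y ∈ Z) (hα : α * α' ≡ 1 [MOD p]) (hβ : β * β' ≡ 1 [MOD p])
    (hft : ∀ t, f t * (t ^ γ)⁻¹ ∈ E) (hγ : ¬ γ ≡ α * β [MOD p]) : False := by
  have hpp := hp.out
  have hZp : ∀ z ∈ Z, z ^ p = 1 := by
    intro z hz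
    have := pow_card_eq_one' (x := (⟨z, hz⟩ : Z))
    rw [hZcard] at this
    exact congrArg Subtype.val this
  -- the basic commutator
  set c := y * w * y⁻¹ * w⁻¹ with hc
  have hcZ : c ∈ Z := hw y
  have hcw : y * w * y⁻¹ = c * w := by rw [hc]; group
  have hc1 : c ≠ 1 := by
    intro h
    apply hwy
    rw [h, one_mul] at hcw
    exact (mul_inv_eq_iff_eq_mul.1 hcw).symm
  have hoc : orderOf c = p := orderOf_eq_prime (hZp c hcZ) hc1
  have hZz : ∀ z ∈ Z, ∃ k : ℕ, c ^ k = z := by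
    intro z hz
    apply exists_nat
    have h1 : Subgroup.zpowers c = Z := by
      apply Subgroup.eq_of_le_of_card_ge (Subgroup.zpowers_le.2 hcZ)
      rw [Nat.card_zpowers, hoc, hZcard]
    rw [h1]; exact hz
  have hwZ : w ∉ Z := fun h => hwy (hZc w h y).symm
  have hyc : ∀ k : ℕ, y ^ k * w * (y ^ k)⁻¹ = c ^ k * w := by
    intro k
    induction k with
    | zero => simp
    | succ k ih =>
      have e : y ^ (k + 1) * w * (y ^ (k + 1))⁻¹ = y * (y ^ k * w * (y ^ k)⁻¹) * y⁻¹ := by rw [pow_succ']; group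
      rw [e, ih]
      have h1 : y * c ^ k = c ^ k * y := ((hZc c hcZ y).pow_right k).eq
      calc y * (c ^ k * w) * y⁻¹ = (y * c ^ k) * w * y⁻¹ := by group
        _ = c ^ k * (y * w * y⁻¹) := by rw [h1]; group
        _ = c ^ (k + 1) * w := by rw [hcw, pow_succ]; group
  -- adjust `t₀`
  obtain ⟨t, htw, z₂, hz₂, hty⟩ : ∃ t, Commute t w ∧ ∃ z₂ ∈ Z, t * y * t⁻¹ = y * (w * z₂) := by
    obtain ⟨k, hk⟩ := hZz _ (Z.inv_mem (hw t₀))
    refine ⟨y ^ k * t₀, ?_, ?_⟩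
    · have h1 : t₀ * w * t₀⁻¹ = (c ^ k)⁻¹ * w := by rw [hk]; group
      have h2 : y ^ k * (c ^ k)⁻¹ = (c ^ k)⁻¹ * y ^ k := (((hZc _ (Z.inv_mem (Z.pow_mem hcZ k)) (y ^ k)))).eq
      have h3 : (y ^ k * t₀) * w * (y ^ k * t₀)⁻¹ = w := by
        calc (y ^ k * t₀) * w * (y ^ k * t₀)⁻¹ = y ^ k * (t₀ * w * t₀⁻¹) * (y ^ k)⁻¹ := by group
          _ = (y ^ k * (c ^ k)⁻¹) * w * (y ^ k)⁻¹ := by rw [h1]; group
          _ = (c ^ k)⁻¹ * (y ^ k * w * (y ^ k)⁻¹) := by rw [h2]; group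
          _ = w := by rw [hyc, inv_mul_cancel_left]
      exact mul_inv_eq_iff_eq_mul.1 h3
    · set z₁ := w⁻¹ * (y⁻¹ * (t₀ * y * t₀⁻¹)) with hz₁
      have h1 : t₀ * y * t₀⁻¹ = y * w * z₁ := by rw [hz₁]; group
      refine ⟨c ^ k * z₁, Z.mul_mem (Z.pow_mem hcZ k) ht₀, ?_⟩
      have h2 : Commute (y ^ k)⁻¹ z₁ := hZc z₁ ht₀ _
      calc (y ^ k * t₀) * y * (y ^ k * t₀)⁻¹ = y ^ k * (t₀ * y * t₀⁻¹) * (y ^ k)⁻¹ := by group
        _ = y ^ k * y * w * (z₁ * (y ^ k)⁻¹) := by rw [h1]; group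
        _ = y ^ k * y * w * ((y ^ k)⁻¹ * z₁) := by rw [h2.eq]
        _ = y * (y ^ k * w * (y ^ k)⁻¹) * z₁ := by rw [← pow_succ, pow_succ']; group
        _ = y * (c ^ k * w) * z₁ := by rw [hyc]
        _ = y * (w * c ^ k) * z₁ := by rw [((hZc c hcZ w).pow_right k).eq]
        _ = y * (w * (c ^ k * z₁)) := by group
  have htz : Commute t z₂ := hZc z₂ hz₂ t
  have hwz : Commute w z₂ := hZc z₂ hz₂ w
  set a := w * z₂ with ha
  have hta : Commute t a := htw.mul_right htz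
  have hap : a ^ p = 1 := by rw [ha, hwz.mul_pow, hwp, hZp z₂ hz₂, one_mul]
  have haZ : a ∉ Z := fun h => hwZ (by
    have := Z.mul_mem h (Z.inv_mem hz₂)
    rwa [ha, mul_inv_cancel_right] at this)
  have htpow : ∀ k : ℕ, t ^ k * y * (t ^ k)⁻¹ = y * a ^ k := conj_pow_of hty hta
  have haZ' : ∀ k : ℕ, a ^ k ∈ Z → p ∣ k := by
    intro k hk
    by_contra hd
    apply haZ
    obtain ⟨m, -, hm⟩ := Nat.exists_mul_mod_eq_one_of_coprime ((Nat.Prime.coprime_iff_not_dvd hpp).2 hd).symm hpp.one_lt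
    have h1 : a = (a ^ k) ^ m := by
      rw [← pow_mul, ← Nat.mod_add_div (k * m) p, hm, pow_add, pow_one, pow_mul, hap, one_pow, mul_one]
    rw [h1]; exact Z.pow_mem hk m
  have htE : ∀ k : ℕ, t ^ k ∈ E → p ∣ k := by
    intro k hk
    apply haZ'
    have := (hE _).1 hk
    rwa [htpow, inv_mul_cancel_left] at this
  -- elements of order `p` commuting with `w`
  have hA : IsElementaryAbelian p (Subgroup.zpowers w ⊔ Z) := by
    refine Cfsg.Agent.H2.Quad.ea_sup ?_ ?_ ?_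
    · refine ⟨inferInstance, ?_⟩
      rintro _ ⟨k, rfl⟩
      show (w ^ k) ^ p = 1
      rw [← zpow_natCast, ← zpow_mul, mul_comm, zpow_mul, zpow_natCast, hwp, one_zpow]
    · refine ⟨⟨⟨fun a b => Subtype.ext ((hZc b b.2 a).eq)⟩⟩, hZp⟩
    · intro z hz
      rw [Subgroup.mem_centralizer_iff]
      intro u _
      exact (hZc z hz u).eq
  have hAc : Nat.card ↥(Subgroup.zpowers w ⊔ Z) = p ^ 2 := by
    have h1 : Z < Subgroup.zpowers w ⊔ Z := by
      refine lt_of_le_of_ne le_sup_right fun h => hwZ ?_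
      rw [h]; exact Subgroup.mem_sup_left (Subgroup.mem_zpowers w)
    obtain ⟨n, hn⟩ := IsPGroup.iff_card.1 (hN.to_subgroup (Subgroup.zpowers w ⊔ Z))
    have h2 := hr _ hA
    have h3 := Cfsg.Agent.H22.Basic.card_lt_of_lt h1
    rw [hn] at h2 h3 ⊢
    rw [hZcard] at h3
    have h4 : n ≤ 2 := (Nat.pow_le_pow_iff_right hpp.one_lt).1 h2
    have h5 : 1 < n := (Nat.pow_lt_pow_iff_right hpp.one_lt).1 (by rwa [pow_one])
    have : n = 2 := by omega
    rw [this]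
  have hmemA : ∀ u, u ^ p = 1 → Commute u w → u ∈ Subgroup.zpowers w ⊔ Z := by
    intro u hu huw
    refine rank_mem (S := ⊤) (fun A _ hA => hr A hA) le_top hA hAc trivial hu ?_
    intro v hv
    have : v ∈ Subgroup.centralizer ({u} : Set N) := by
      have hle : Subgroup.zpowers w ⊔ Z ≤ Subgroup.centralizer ({u} : Set N) := by
        refine sup_le (Subgroup.zpowers_le.2 ?_) ?_
        · rw [Subgroup.mem_centralizer_singleton_iff]; exact huw.symm.eq
        · intro z hz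
          rw [Subgroup.mem_centralizer_singleton_iff]; exact (hZc z hz u).symm.eq
      exact hle hv
    exact Subgroup.mem_centralizer_singleton_iff.1 this
  have hZE : Z ≤ E := by
    intro z hz
    rw [hE]
    have : z * y * z⁻¹ = y := by rw [← (hZc z hz y).eq, mul_inv_cancel_right]
    rw [this, inv_mul_cancel]; exact Z.one_mem
  have hAE : Subgroup.zpowers w ⊔ Z ≤ E := sup_le (Subgroup.zpowers_le.2 hwE) hZE
  -- the group `C`
  let C : Subgroup N := Subgroup.centralizer ({w, y} : Set N)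
  have hmC : ∀ u, u ∈ C ↔ Commute u w ∧ Commute u y := by
    intro u
    rw [Subgroup.mem_centralizer_iff]
    constructor
    · intro h
      exact ⟨(h w (by simp)).symm, (h y (by simp)).symm⟩
    · rintro ⟨h1, h2⟩ v hv
      rcases hv with rfl | hv
      · exact h1.symm.eq
      · rw [Set.mem_singleton_iff] at hv; rw [hv]; exact h2.symm.eq
  have hCE : C ≤ E := by
    intro u hu
    rw [hE]
    have : u * y * u⁻¹ = y := by rw [((hmC u).1 hu).2.eq, mul_inv_cancel_right]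
    rw [this, inv_mul_cancel]; exact Z.one_mem
  have htC : t ∈ Subgroup.normalizer (C : Set N) := by
    apply Cfsg.Agent.H22.Basic.mem_normalizer_of_cj_le
    rw [Cfsg.Agent.H13.Syl.cj_le_iff_forall]
    intro u hu
    have h1 := (hmC u).1 hu
    rw [hmC]
    have e1 : Commute (t * u * t⁻¹) (t * w * t⁻¹) := by
      show t * u * t⁻¹ * (t * w * t⁻¹) = t * w * t⁻¹ * (t * u * t⁻¹)
      calc t * u * t⁻¹ * (t * w * t⁻¹) = t * (u * w) * t⁻¹ := by group
        _ = t * (w * u) * t⁻¹ := by rw [h1.1.eq]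
        _ = _ := by group
    have e2 : Commute (t * u * t⁻¹) (t * y * t⁻¹) := by
      show t * u * t⁻¹ * (t * y * t⁻¹) = t * y * t⁻¹ * (t * u * t⁻¹)
      calc t * u * t⁻¹ * (t * y * t⁻¹) = t * (u * y) * t⁻¹ := by group
        _ = t * (y * u) * t⁻¹ := by rw [h1.2.eq]
        _ = _ := by group
    rw [htw.eq, mul_inv_cancel_right] at e1
    rw [hty] at e2
    refine ⟨e1, ?_⟩
    have h3 : Commute (t * u * t⁻¹) a := by rw [ha]; exact e1.mul_right (hZc z₂ hz₂ _)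
    have h4 := e2.mul_right h3.inv_right
    rwa [mul_inv_cancel_right] at h4
  have htpC : t ^ p ∈ C := by
    rw [hmC]
    refine ⟨htw.pow_left p, ?_⟩
    have := htpow p
    rw [hap, mul_one] at this
    exact mul_inv_eq_iff_eq_mul.1 this
  -- the cyclic group `D`
  let D : Subgroup N := C ⊔ Subgroup.zpowers t
  have hDn : Subgroup.zpowers t ≤ Subgroup.normalizer (C : Set N) := Subgroup.zpowers_le.2 htC
  have hDel : ∀ d ∈ D, ∃ u ∈ C, ∃ k : ℕ, d = u * t ^ k := by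
    intro d hd
    obtain ⟨u, hu, v, hv, rfl⟩ := (Cfsg.Agent.H22.Basic.mem_sup_of_le_normalizer hDn).1 hd
    obtain ⟨k, rfl⟩ := exists_nat hv
    exact ⟨u, hu, k, rfl⟩
  have hDw : ∀ d ∈ D, Commute d w := by
    intro d hd
    obtain ⟨u, hu, k, rfl⟩ := hDel d hd
    exact ((hmC u).1 hu).1.mul_left (htw.pow_left k)
  have hyw : ∀ k : ℕ, w ^ k * y * (w ^ k)⁻¹ = y * (c⁻¹) ^ k := by
    apply conj_pow_of
    · calc w * y * w⁻¹ = (c⁻¹ * (y * w * y⁻¹)) * y * w⁻¹ := by rw [hcw, inv_mul_cancel_left]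
        _ = c⁻¹ * y := by group
        _ = y * c⁻¹ := (hZc c⁻¹ (Z.inv_mem hcZ) y).eq.symm
    · exact (hZc c⁻¹ (Z.inv_mem hcZ) w)
  have hDZ : ∀ d ∈ D, d ^ p = 1 → d ∈ Z := by
    intro d hd hdp
    have h1 := hmemA d hdp (hDw d hd)
    rw [sup_comm] at h1
    have hn : Subgroup.zpowers w ≤ Subgroup.normalizer (Z : Set N) := by
      intro u _
      apply Cfsg.Agent.H22.Basic.mem_normalizer_of_cj_le
      rw [Cfsg.Agent.H13.Syl.cj_le_iff_forall]
      intro z hz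
      rw [(hZc z hz u).eq, mul_inv_cancel_right]; exact hz
    obtain ⟨z, hz, v, hv, hzv⟩ := (Cfsg.Agent.H22.Basic.mem_sup_of_le_normalizer hn).1 h1
    obtain ⟨j, rfl⟩ := exists_nat hv
    obtain ⟨u, hu, k, hk⟩ := hDel d hd
    have huc := (hmC u).1 hu
    -- action of `d` on `y`
    have e1 : d * y * d⁻¹ = y * (c⁻¹) ^ j := by
      rw [← hzv]
      have h2 : z * (y * (c⁻¹) ^ j) * z⁻¹ = y * (c⁻¹) ^ j := by rw [← (hZc z hz _).eq, mul_inv_cancel_right]
      calc z * w ^ j * y * (z * w ^ j)⁻¹ = z * (w ^ j * y * (w ^ j)⁻¹) * z⁻¹ := by group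
        _ = _ := by rw [hyw, h2]
    have hua : Commute u a := by rw [ha]; exact huc.1.mul_right (hZc z₂ hz₂ _)
    have e2 : d * y * d⁻¹ = y * a ^ k := by
      rw [hk]
      have h2 : u * (y * a ^ k) * u⁻¹ = y * a ^ k := by rw [(huc.2.mul_right (hua.pow_right k)).eq, mul_inv_cancel_right]
      calc u * t ^ k * y * (u * t ^ k)⁻¹ = u * (t ^ k * y * (t ^ k)⁻¹) * u⁻¹ := by group
        _ = _ := by rw [htpow, h2]
    have e3 : a ^ k = (c⁻¹) ^ j := mul_left_cancel (e2.symm.trans e1)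
    have hpk := haZ' k (by rw [e3]; exact Z.pow_mem (Z.inv_mem hcZ) j)
    obtain ⟨k', rfl⟩ := hpk
    rw [pow_mul, hap, one_pow, inv_pow] at e3
    have h4 : p ∣ j := by
      rw [← hoc]
      apply orderOf_dvd_of_pow_eq_one
      exact (inv_eq_one.1 e3.symm)
    obtain ⟨j', rfl⟩ := h4
    rw [← hzv, pow_mul, hwp, one_pow, mul_one]; exact hz
  have hDcyc : IsCyclic D := by
    refine Cfsg.Agent.H12.PG.isCyclic_of_no_rank_two_int (p := p) (by omega) (hN.to_subgroup D) ?_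
    intro A hAD _ hAp
    rw [← hZcard]
    exact Cfsg.Agent.H22.Basic.card_le_of_le fun x hx => hDZ x (hAD hx) (hAp x hx)
  have htD : t ∈ D := Subgroup.mem_sup_right (Subgroup.mem_zpowers t)
  have htC' : t ∉ C := by
    intro h
    have := htE 1 (by rw [pow_one]; exact hCE h)
    exact hpp.one_lt.ne' (Nat.dvd_one.1 this)
  have hCt : ∀ u ∈ C, ∃ k : ℕ, u = t ^ (p * k) := by
    intro u hu
    rcases mem_or hDcyc hN (Subgroup.mem_sup_left hu : u ∈ D) htD with h | h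
    · obtain ⟨k, hk⟩ := exists_nat h
      obtain ⟨k', rfl⟩ := htE k (by rw [hk]; exact hCE hu)
      exact ⟨k', hk.symm⟩
    · exact absurd ((Subgroup.zpowers_le.2 hu) h) htC'
  have htp1 : t ^ p ≠ 1 := by
    intro h
    have h1 := hDZ t htD h
    have := htE 1 (by rw [pow_one]; exact hZE h1)
    exact hpp.one_lt.ne' (Nat.dvd_one.1 this)
  -- `f` on `w`, `y`, `Z`
  obtain ⟨zw, hzw, hfw'⟩ : ∃ z ∈ Z, f w = w ^ α * z := ⟨_, hfw, by group⟩
  obtain ⟨zy, hzy, hfy'⟩ : ∃ z ∈ Z, f y = y ^ β * z := ⟨_, hfy, by group⟩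
  have hpow1 : ∀ (v : N) (n : ℕ), n ≡ 1 [MOD p] → v ^ p = 1 → v ^ n = v := by
    intro v n hn hv
    have h1 : orderOf v ∣ p := orderOf_dvd_of_pow_eq_one hv
    have h2 : n ≡ 1 [MOD orderOf v] := hn.of_dvd h1
    rw [(pow_eq_pow_iff_modEq).2 h2, pow_one]
  have hfc : f c = c ^ (β * α) := by
    have h1 : f c = f y * f w * (f y)⁻¹ * (f w)⁻¹ := by rw [hc, map_mul, map_mul, map_mul, map_inv, map_inv]
    have cy : ∀ v, Commute v zy := hZc zy hzy
    have cw : ∀ v, Commute v zw := hZc zw hzw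
    have h2 : f y * f w * (f y)⁻¹ = (y ^ β * w ^ α * (y ^ β)⁻¹) * zw := by
      rw [hfw', hfy']
      calc y ^ β * zy * (w ^ α * zw) * (y ^ β * zy)⁻¹ = y ^ β * (zy * (w ^ α * zw * zy⁻¹)) * (y ^ β)⁻¹ := by group
        _ = y ^ β * ((w ^ α * zw * zy⁻¹) * zy) * (y ^ β)⁻¹ := by rw [(cy (w ^ α * zw * zy⁻¹)).eq]
        _ = y ^ β * w ^ α * (zw * (y ^ β)⁻¹) := by group
        _ = y ^ β * w ^ α * ((y ^ β)⁻¹ * zw) := by rw [(cw (y ^ β)⁻¹).eq]
        _ = _ := by group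
    have h3 : y ^ β * w ^ α * (y ^ β)⁻¹ = c ^ (β * α) * w ^ α := by
      have h4 := hyc β
      have h5 : Commute (c ^ β) w := ((hZc c hcZ w).pow_right β).symm
      calc y ^ β * w ^ α * (y ^ β)⁻¹ = (y ^ β * w * (y ^ β)⁻¹) ^ α := conj_pow.symm
        _ = (c ^ β * w) ^ α := by rw [h4]
        _ = c ^ (β * α) * w ^ α := by rw [h5.mul_pow, ← pow_mul]
    rw [h1, h2, h3, hfw']
    group
  -- `f(t^p)` is a power of `t^p`
  have hftp : ∃ r : ℕ, f (t ^ p) = t ^ (p * r) := by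
    apply hCt
    have h1 := (hmC _).1 htpC
    rw [hmC]
    have e1 : Commute (f (t ^ p)) (f w) := h1.1.map f
    have e2 : Commute (f (t ^ p)) (f y) := h1.2.map f
    rw [hfw'] at e1
    rw [hfy'] at e2
    have e3 : Commute (f (t ^ p)) (w ^ α) := by
      have := e1.mul_right (hZc zw hzw (f (t ^ p))).inv_right
      rwa [mul_inv_cancel_right] at this
    have e4 : Commute (f (t ^ p)) (y ^ β) := by
      have := e2.mul_right (hZc zy hzy (f (t ^ p))).inv_right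
      rwa [mul_inv_cancel_right] at this
    constructor
    · have := e3.pow_right α'
      rwa [← pow_mul, hpow1 w _ hα hwp] at this
    · have := e4.pow_right β'
      rwa [← pow_mul, hpow1 y _ hβ hyp] at this
  obtain ⟨r, hr'⟩ := hftp
  -- `r ≡ 1`
  obtain ⟨m, hm⟩ := IsPGroup.iff_orderOf.1 hN (t ^ p)
  have hm0 : m ≠ 0 := by
    rintro rfl
    rw [pow_zero, orderOf_eq_one_iff] at hm
    exact htp1 hm
  obtain ⟨m, rfl⟩ := Nat.exists_eq_succ_of_ne_zero hm0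
  have hpd : p ∣ orderOf (t ^ p) := by rw [hm]; exact dvd_pow_self p (Nat.succ_ne_zero m)
  set z₀ := (t ^ p) ^ (p ^ m) with hz₀
  have hz₀p : z₀ ^ p = 1 := by rw [hz₀, ← pow_mul, ← pow_succ, ← hm, pow_orderOf_eq_one]
  have hz₀1 : z₀ ≠ 1 := by
    intro h
    have h1 : orderOf (t ^ p) ∣ p ^ m := orderOf_dvd_of_pow_eq_one h
    rw [hm] at h1
    have := (Nat.pow_dvd_pow_iff_le_right hpp.one_lt).1 h1
    omega
  have hz₀Z : z₀ ∈ Z := hDZ z₀ (D.pow_mem (D.pow_mem htD p) _) hz₀p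
  obtain ⟨k₀, hk₀⟩ := hZz z₀ hz₀Z
  have hfz₀ : f z₀ = z₀ ^ (β * α) := by rw [← hk₀, map_pow, hfc, ← pow_mul, ← pow_mul, mul_comm]
  have hfz₀' : f z₀ = z₀ ^ r := by
    rw [hz₀, map_pow, hr', ← pow_mul, ← pow_mul, ← pow_mul]
    congr 1
    ring
  have hr1 : r ≡ β * α [MOD p] := by
    rw [← orderOf_eq_prime hz₀p hz₀1, ← pow_eq_pow_iff_modEq, ← hfz₀', hfz₀]
  -- `f t`
  set e := f t * (t ^ γ)⁻¹ with he
  have heE : e ∈ E := hft t
  have hftw : Commute (f t) w := by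
    have e1 : Commute (f t) (f w) := htw.map f
    rw [hfw'] at e1
    have e3 : Commute (f t) (w ^ α) := by
      have := e1.mul_right (hZc zw hzw (f t)).inv_right
      rwa [mul_inv_cancel_right] at this
    have := e3.pow_right α'
    rwa [← pow_mul, hpow1 w _ hα hwp] at this
  have hew : Commute e w := hftw.mul_left (htw.pow_left γ).inv_left
  obtain ⟨j, hj⟩ := hZz _ (Z.inv_mem ((hE e).1 heE))
  have hj' : e * y * e⁻¹ = y * (c⁻¹) ^ j := by
    rw [inv_pow, hj]; group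
  have huC : (w ^ j)⁻¹ * e ∈ C := by
    rw [hmC]
    refine ⟨((Commute.refl w).pow_left j).inv_left.mul_left hew, ?_⟩
    have h1 : e * y * e⁻¹ = w ^ j * y * (w ^ j)⁻¹ := by rw [hj', hyw]
    show (w ^ j)⁻¹ * e * y = y * ((w ^ j)⁻¹ * e)
    calc (w ^ j)⁻¹ * e * y = (w ^ j)⁻¹ * (e * y * e⁻¹) * e := by group
      _ = (w ^ j)⁻¹ * (w ^ j * y * (w ^ j)⁻¹) * e := by rw [h1]
      _ = _ := by group
  obtain ⟨k, hk⟩ := hCt _ huC
  have hft' : f t = w ^ j * t ^ (p * k + γ) := by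
    have h1 : e = w ^ j * t ^ (p * k) := by rw [← hk]; group
    have h2 : f t = e * t ^ γ := by rw [he]; group
    rw [h2, h1, pow_add, mul_assoc]
  have h1 : f (t ^ p) = (t ^ p) ^ (p * k + γ) := by
    rw [map_pow, hft', ((htw.pow_left (p * k + γ)).pow_right j).symm.mul_pow, ← pow_mul, mul_comm j p, pow_mul, hwp, one_pow,
      one_mul, ← pow_mul, ← pow_mul, mul_comm]
  rw [hr', pow_mul, pow_eq_pow_iff_modEq] at h1
  have h2 : r ≡ p * k + γ [MOD p] := h1.of_dvd hpd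
  apply hγ
  have h4 : p * k + γ ≡ γ [MOD p] := by
    have : p * k + γ ≡ 0 + γ [MOD p] := Nat.ModEq.add_right γ ((Nat.modEq_zero_iff_dvd).2 (dvd_mul_right p k))
    rwa [zero_add] at this
  rw [mul_comm α β]
  exact (h4.symm.trans h2.symm).trans hr1

end abs

end Cfsg.Agent.H1.Rk
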