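import Mathlib
import Cfsg.Agent.H1_RkD
import Cfsg.Agent.H2_Class
import Cfsg.Agent.H2_Alperin

set_option autoImplicit false
set_option linter.all false

/-! Pearls of order `p²` (abstract form). -/

open scoped commutatorElement

namespace Cfsg.Agent.H1.Rk

open Cfsg Cfsg.Agent.H1.Sm

section abs

variable {N : Type*} [Group N] [Finite N] {p : ℕ} [hp : Fact p.Prime]

theorem dvd_of_pow_one {x : N} (hxp : x ^ p = 1) (hx : x ≠ 1) {k : ℕ} (h : x ^ k = 1) : p ∣ k := by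
  rw [← orderOf_eq_prime hxp hx]
  exact orderOf_dvd_of_pow_eq_one h

theorem lemA1 (hp5 : 5 ≤ p) (E : Subgroup N) (x y s : N) (f : N →* N)
    (hE : ∀ e ∈ E, ∃ i j : ℕ, e = x ^ i * y ^ j) (hxE : x ∈ E) (hyE : y ∈ E) (hxp : x ^ p = 1) (hyp : y ^ p = 1)
    (hx1 : x ≠ 1) (hxc : ∀ u, Commute u x) (hk : ∀ u, ∃ k : ℕ, u * y * u⁻¹ = y * x ^ k)
    (hcE : ∀ u, Commute u y → u ∈ E) (hs : s * y * s⁻¹ = y * x) (hfx : f x = x ^ 2)
    (hft : ∀ t, f t * (t ^ 4)⁻¹ ∈ E) :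
    s ^ p = 1 ∧ (∀ u, ∃ e ∈ E, ∃ k : ℕ, u = e * s ^ k) ∧ (∀ u : N, u ^ p = 1) := by
  have hpp := hp.out
  have hsk : ∀ k : ℕ, s ^ k * y * (s ^ k)⁻¹ = y * x ^ k := conj_pow_of hs (hxc s)
  have hEp : ∀ e ∈ E, e ^ p = 1 := by
    intro e he
    obtain ⟨i, j, rfl⟩ := hE e he
    rw [(((hxc (y ^ j)).pow_right i).symm).mul_pow, ← pow_mul, ← pow_mul, mul_comm i, mul_comm j, pow_mul, pow_mul, hxp, hyp,
      one_pow, one_pow, one_mul]
  have hdec : ∀ u, ∃ e ∈ E, ∃ k : ℕ, u = e * s ^ k := by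
    intro u
    obtain ⟨k, hk⟩ := hk u
    refine ⟨u * (s ^ k)⁻¹, hcE _ ?_, k, by group⟩
    have h1 : (s ^ k)⁻¹ * y * s ^ k = y * (x ^ k)⁻¹ := by
      have h2 := hsk k
      have h3 : (s ^ k)⁻¹ * x ^ k * s ^ k = x ^ k := by
        rw [mul_assoc, ((hxc (s ^ k)).pow_right k).eq.symm, inv_mul_cancel_left]
      rw [eq_mul_inv_iff_mul_eq]
      calc (s ^ k)⁻¹ * y * s ^ k * x ^ k = (s ^ k)⁻¹ * y * s ^ k * ((s ^ k)⁻¹ * x ^ k * s ^ k) := by rw [h3]
        _ = (s ^ k)⁻¹ * (y * x ^ k) * s ^ k := by group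
        _ = y := by rw [← h2]; group
    have h2 : u * (y * (x ^ k)⁻¹) * u⁻¹ = y := by
      have h3 : u * (x ^ k)⁻¹ * u⁻¹ = (x ^ k)⁻¹ := by
        rw [(((hxc u).pow_right k).inv_right).eq, mul_inv_cancel_right]
      calc u * (y * (x ^ k)⁻¹) * u⁻¹ = (u * y * u⁻¹) * (u * (x ^ k)⁻¹ * u⁻¹) := by group
        _ = y := by rw [hk, h3, mul_inv_cancel_right]
    show u * (s ^ k)⁻¹ * y = y * (u * (s ^ k)⁻¹)
    calc u * (s ^ k)⁻¹ * y = u * ((s ^ k)⁻¹ * y * s ^ k) * u⁻¹ * (u * (s ^ k)⁻¹) := by group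
      _ = _ := by rw [h1, h2]
  -- powers
  have hcomm : ∀ u, ∀ e ∈ E, ∃ l : ℕ, u * e * u⁻¹ = e * x ^ l := by
    intro u e he
    obtain ⟨i, j, rfl⟩ := hE e he
    obtain ⟨k, hk⟩ := hk u
    refine ⟨k * j, ?_⟩
    have h1 : u * x ^ i * u⁻¹ = x ^ i := by rw [((hxc u).pow_right i).eq, mul_inv_cancel_right]
    have h2 : u * y ^ j * u⁻¹ = y ^ j * x ^ (k * j) := by
      rw [← conj_pow, hk, ((hxc y).pow_right k).mul_pow, ← pow_mul]
    calc u * (x ^ i * y ^ j) * u⁻¹ = (u * x ^ i * u⁻¹) * (u * y ^ j * u⁻¹) := by group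
      _ = x ^ i * y ^ j * x ^ (k * j) := by rw [h1, h2, mul_assoc]
  have hpow : ∀ u, ∀ e ∈ E, (e * u) ^ p = u ^ p := by
    intro u e he
    obtain ⟨l, hl⟩ := hcomm u e he
    have h1 : ⁅u, e⁆ = x ^ l := by
      rw [commutatorElement_def, hl]
      have : e * x ^ l * e⁻¹ = x ^ l := by rw [((hxc e).pow_right l).eq, mul_inv_cancel_right]
      exact this
    rw [Cfsg.Agent.H2.Alperin.mul_pow_local (by rw [h1]; exact (hxc e).pow_right l) (by rw [h1]; exact (hxc u).pow_right l), hEp e he,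
      one_mul]
    obtain ⟨k, hk⟩ := Cfsg.Agent.H2.Class.dvd_choose_two hpp (by omega)
    rw [h1, hk, ← pow_mul, show l * (p * k) = p * (l * k) by ring, pow_mul, hxp, one_pow, mul_one]
  -- `s ^ p = 1`
  have hsp : s ^ p = 1 := by
    have h1 : s ^ p ∈ E := by
      apply hcE
      have := hsk p
      rw [hxp, mul_one] at this
      exact mul_inv_eq_iff_eq_mul.1 this
    obtain ⟨i, j, hij⟩ := hE _ h1
    have h2 : s * (x ^ i * y ^ j) * s⁻¹ = x ^ i * y ^ j * x ^ j := by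
      have h1 : s * x ^ i * s⁻¹ = x ^ i := by rw [((hxc s).pow_right i).eq, mul_inv_cancel_right]
      have h2 : s * y ^ j * s⁻¹ = y ^ j * x ^ j := by
        rw [← conj_pow, hs, (hxc y).mul_pow]
      calc s * (x ^ i * y ^ j) * s⁻¹ = (s * x ^ i * s⁻¹) * (s * y ^ j * s⁻¹) := by group
        _ = x ^ i * y ^ j * x ^ j := by rw [h1, h2, mul_assoc]
    have h3 : x ^ j = 1 := by
      rw [← hij] at h2
      have h4 : s * s ^ p * s⁻¹ = s ^ p := by rw [← pow_succ', pow_succ, mul_inv_cancel_right]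
      rw [h4] at h2
      exact (mul_eq_left.1 h2.symm)
    obtain ⟨j', rfl⟩ := dvd_of_pow_one hxp hx1 h3
    rw [pow_mul, hyp, one_pow, mul_one] at hij
    have h4 : f (s ^ p) = x ^ (2 * i) := by rw [hij, map_pow, hfx, ← pow_mul]
    have h5 : f (s ^ p) = x ^ (4 * i) := by
      have e1 : f s = (f s * (s ^ 4)⁻¹) * s ^ 4 := by group
      rw [map_pow, e1, hpow _ _ (hft s), ← pow_mul, mul_comm 4 p, pow_mul, hij, ← pow_mul, mul_comm]
    have h6 : x ^ (2 * i) = 1 := by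
      have h7 : x ^ (2 * i) * x ^ (2 * i) = x ^ (2 * i) := by
        rw [← pow_add, ← h4]
        rw [h5]; congr 1; ring
      exact mul_eq_left.1 h7
    have h7 := dvd_of_pow_one hxp hx1 h6
    have h8 : p ∣ i := by
      rcases (Nat.Prime.dvd_mul hpp).1 h7 with h | h
      · have := Nat.le_of_dvd (by norm_num) h; omega
      · exact h
    obtain ⟨i', rfl⟩ := h8
    rw [hij, pow_mul, hxp, one_pow]
  refine ⟨hsp, hdec, fun u => ?_⟩
  obtain ⟨e, he, k, rfl⟩ := hdec u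
  rw [hpow _ _ he, ← pow_mul, mul_comm, pow_mul, hsp, one_pow]

theorem lemA2 {M : Type*} [Group M] [Finite M] (hp5 : 5 ≤ p) (hM : IsPGroup p M)
    (hr : ∀ A : Subgroup M, IsElementaryAbelian p A → Nat.card A ≤ p ^ 2) (E Nn : Subgroup M) [hNn : Nn.Normal] (x y s : M)
    (φ : M →* M) (b : ℕ) (hNt : Nn ≠ ⊤) (hEN : E ≤ Nn) (hNE : ∀ u, (∀ e ∈ E, u * e * u⁻¹ ∈ E) → u ∈ Nn)
    (hE : ∀ e ∈ E, ∃ i j : ℕ, e = x ^ i * y ^ j) (hxE : x ∈ E) (hyE : y ∈ E) (hxp : x ^ p = 1) (hyp : y ^ p = 1)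
    (hx1 : x ≠ 1) (hNx : ∀ u ∈ Nn, Commute u x) (hcE : ∀ u, Commute u x → Commute u y → u ∈ E)
    (hsN : s ∈ Nn) (hs : s * y * s⁻¹ = y * x) (hNu : ∀ u ∈ Nn, ∃ e ∈ E, ∃ k : ℕ, u = e * s ^ k)
    (hNp : ∀ u ∈ Nn, u ^ p = 1) (hNc : Nat.card Nn = p ^ 3) (hφs : Function.Surjective φ) (hφN : ∀ u ∈ Nn, φ u ∈ Nn)
    (hb : 2 * b ≡ 1 [MOD p]) (hφx : φ x = x ^ 2) (hφy : φ y = y ^ b) (hφt : ∀ t ∈ Nn, φ t * (t ^ 4)⁻¹ ∈ E) : False := by
  have hpp := hp.out
  set Z := Subgroup.zpowers x with hZ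
  have hxy : Commute x y := (hNx y (hEN hyE)).symm
  have hZE : Z ≤ E := Subgroup.zpowers_le.2 hxE
  have hsx : Commute s x := hNx s hsN
  have hsk : ∀ k : ℕ, s ^ k * y * (s ^ k)⁻¹ = y * x ^ k := conj_pow_of hs hsx
  have hsp : s ^ p = 1 := hNp s hsN
  -- the action of `Nn` on `y`
  have hNy : ∀ u ∈ Nn, ∃ e ∈ E, ∃ k : ℕ, u = e * s ^ k ∧ u * y * u⁻¹ = y * x ^ k := by
    intro u hu
    obtain ⟨e, he, k, rfl⟩ := hNu u hu
    refine ⟨e, he, k, rfl, ?_⟩
    have hey : Commute e y := by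
      obtain ⟨i, j, rfl⟩ := hE e he
      exact (hxy.pow_left i).mul_left ((Commute.refl y).pow_left j)
    have h1 : e * (y * x ^ k) * e⁻¹ = y * x ^ k := by
      rw [(hey.mul_right ((hNx e (hEN he)).pow_right k)).eq, mul_inv_cancel_right]
    calc e * s ^ k * y * (e * s ^ k)⁻¹ = e * (s ^ k * y * (s ^ k)⁻¹) * e⁻¹ := by group
      _ = _ := by rw [hsk, h1]
  have hcNy : ∀ u ∈ Nn, Commute u y → u ∈ E := fun u hu hc => hcE u (hNx u hu) hc
  have hcNZ : ∀ u ∈ Nn, Commute u y → Commute u s → u ∈ Z := by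
    intro u hu h1 h2
    obtain ⟨i, j, rfl⟩ := hE u (hcNy u hu h1)
    have h3 : s * (x ^ i * y ^ j) * s⁻¹ = x ^ i * y ^ j * x ^ j := by
      have h1 : s * x ^ i * s⁻¹ = x ^ i := by rw [(hsx.pow_right i).eq, mul_inv_cancel_right]
      have h2 : s * y ^ j * s⁻¹ = y ^ j * x ^ j := by
        rw [← conj_pow, hs, hxy.symm.mul_pow]
      calc s * (x ^ i * y ^ j) * s⁻¹ = (s * x ^ i * s⁻¹) * (s * y ^ j * s⁻¹) := by group
        _ = x ^ i * y ^ j * x ^ j := by rw [h1, h2, mul_assoc]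
    rw [← h2.eq, mul_inv_cancel_right] at h3
    obtain ⟨j', rfl⟩ := dvd_of_pow_one hxp hx1 (mul_eq_left.1 h3.symm)
    rw [pow_mul, hyp, one_pow, mul_one]
    exact Z.pow_mem (Subgroup.mem_zpowers x) i
  -- `x` is central
  have hZn : Z.Normal := by
    refine ⟨fun z hz u => ?_⟩
    have hzN : ∀ v ∈ Nn, Commute v z := by
      intro v hv
      obtain ⟨k, rfl⟩ := exists_nat hz
      exact (hNx v hv).pow_right k
    have hc : ∀ v ∈ Nn, Commute (u * z * u⁻¹) v := by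
      intro v hv
      have h1 := hzN (u⁻¹ * v * u) (by simpa using hNn.conj_mem v hv u⁻¹)
      show u * z * u⁻¹ * v = v * (u * z * u⁻¹)
      calc u * z * u⁻¹ * v = u * (z * (u⁻¹ * v * u)) * u⁻¹ := by group
        _ = u * ((u⁻¹ * v * u) * z) * u⁻¹ := by rw [h1.eq]
        _ = _ := by group
    exact hcNZ _ (hNn.conj_mem z (hEN (hZE hz)) u) (hc y (hEN hyE)) (hc s hsN)
  have hox : orderOf x = p := orderOf_eq_prime hxp hx1
  have hZcard : Nat.card Z = p := by rw [hZ, Nat.card_zpowers, hox]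
  have hZcen : Z ≤ Subgroup.center M := Cfsg.Agent.H2.Rank2.le_center_of_card_le hM hZn hZcard.le
  have hZc : ∀ z ∈ Z, ∀ u, Commute u z := fun z hz u => (Subgroup.mem_center_iff.1 (hZcen hz) u)
  have hxc : ∀ u, Commute u x := hZc x (Subgroup.mem_zpowers x)
  haveI := hZn
  -- `Nn` in terms of the action on `y`
  have hNiff : ∀ u, u ∈ Nn ↔ y⁻¹ * (u * y * u⁻¹) ∈ Z := by
    intro u
    constructor
    · intro hu
      obtain ⟨e, he, k, -, h⟩ := hNy u hu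
      rw [h, inv_mul_cancel_left]; exact Z.pow_mem (Subgroup.mem_zpowers x) k
    · intro hu
      apply hNE
      intro e he
      obtain ⟨i, j, rfl⟩ := hE e he
      have h1 : u * x ^ i * u⁻¹ = x ^ i := by rw [((hxc u).pow_right i).eq, mul_inv_cancel_right]
      have h2 : u * y * u⁻¹ ∈ E := by
        have := E.mul_mem hyE (hZE hu)
        rwa [mul_inv_cancel_left] at this
      have e1 : u * (x ^ i * y ^ j) * u⁻¹ = (u * x ^ i * u⁻¹) * (u * y * u⁻¹) ^ j := by rw [conj_pow]; group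
      rw [e1, h1]
      exact E.mul_mem (E.pow_mem hxE i) (E.pow_mem h2 j)
  obtain ⟨m, hm⟩ : ∃ m, m ∉ Nn := by
    by_contra hcon
    push Not at hcon
    exact hNt (by rw [eq_top_iff]; intro u _; exact hcon u)
  -- an element `w`, central modulo `Z`
  have hyZ : y ∉ Z := by
    intro h
    apply hx1
    have := (hZc y h s).eq
    rw [this, mul_inv_cancel_right] at hs
    exact mul_eq_left.1 hs.symm
  set π := QuotientGroup.mk' Z with hπ
  have hπ1 : ∀ u, π u = 1 ↔ u ∈ Z := fun u => QuotientGroup.eq_one_iff u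
  obtain ⟨w, hwN, hwZ, hw⟩ : ∃ w ∈ Nn, w ∉ Z ∧ ∀ u, π u * π w = π w * π u := by
    have h1 : Nn.map π ≠ ⊥ := by
      intro h
      have h2 : π y ∈ Nn.map π := ⟨y, hEN hyE, rfl⟩
      rw [h, Subgroup.mem_bot, hπ1] at h2
      exact hyZ h2
    haveI : (Nn.map π).Normal := hNn.map π (QuotientGroup.mk'_surjective Z)
    have h2 := Cfsg.Agent.H2.PGroup.inf_center_ne_bot (hM.to_quotient Z) h1
    obtain ⟨v, hv, hv1⟩ := (Subgroup.bot_or_exists_ne_one _).resolve_left h2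
    obtain ⟨⟨w, hw, rfl⟩, hc⟩ := hv
    refine ⟨w, hw, fun h => hv1 ((hπ1 w).2 h), fun u => ?_⟩
    exact Subgroup.mem_center_iff.1 hc (π u)
  have hwZ' : ∀ u, u * w * u⁻¹ * w⁻¹ ∈ Z := by
    intro u
    rw [← hπ1, map_mul, map_mul, map_mul, map_inv, map_inv, hw u]
    group
  have hwp : w ^ p = 1 := hNp w hwN
  -- elements of `E` central modulo `Z` lie in `Z`
  have hEZ : ∀ e ∈ E, (∀ u, π u * π e = π e * π u) → e ∈ Z := by
    intro e he hc
    obtain ⟨i, j, rfl⟩ := hE e he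
    have hπe : π (x ^ i * y ^ j) = π y ^ j := by
      rw [map_mul, (hπ1 _).2 (Z.pow_mem (Subgroup.mem_zpowers x) i), one_mul, map_pow]
    by_cases hj : p ∣ j
    · obtain ⟨j', rfl⟩ := hj
      rw [pow_mul y, hyp, one_pow, mul_one]
      exact Z.pow_mem (Subgroup.mem_zpowers x) i
    · exfalso
      obtain ⟨n, -, hn⟩ := Nat.exists_mul_mod_eq_one_of_coprime ((Nat.Prime.coprime_iff_not_dvd hpp).2 hj).symm hpp.one_lt
      have h1 : π y = (π y ^ j) ^ n := by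
        rw [← pow_mul, ← Nat.mod_add_div (j * n) p, hn, pow_add, pow_one, pow_mul, ← map_pow π y p, hyp, map_one, one_pow, mul_one]
      apply hm
      rw [hNiff, ← hπ1, map_mul, map_mul, map_mul, map_inv, map_inv]
      have h2 : Commute (π m) (π y) := by
        rw [h1]
        apply Commute.pow_right
        rw [← hπe]; exact hc m
      rw [h2.eq]; group
  have hwE : w ∉ E := fun h => hwZ (hEZ w h hw)
  -- `w` and `y` do not commute
  have hwy : ¬ Commute w y := fun h => hwE (hcNy w hwN h)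
  -- the subgroup `X = ⟨w⟩ Z`
  have hZN : Z ≤ Nn := hZE.trans hEN
  have hXN : Subgroup.zpowers w ⊔ Z ≤ Nn := sup_le (Subgroup.zpowers_le.2 hwN) hZN
  have hA : IsElementaryAbelian p (Subgroup.zpowers w ⊔ Z) := by
    refine Cfsg.Agent.H2.Quad.ea_sup ?_ ?_ ?_
    · refine ⟨inferInstance, ?_⟩
      rintro _ ⟨k, rfl⟩
      show (w ^ k) ^ p = 1
      rw [← zpow_natCast, ← zpow_mul, mul_comm, zpow_mul, zpow_natCast, hwp, one_zpow]
    · refine ⟨⟨⟨fun a b => Subtype.ext ((hZc b b.2 a).eq)⟩⟩, fun z hz => hNp z (hZN hz)⟩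
    · intro z hz
      rw [Subgroup.mem_centralizer_iff]
      intro u _
      exact (hZc z hz u).eq
  have hAc : Nat.card ↥(Subgroup.zpowers w ⊔ Z) = p ^ 2 := by
    have h1 : Z < Subgroup.zpowers w ⊔ Z := by
      refine lt_of_le_of_ne le_sup_right fun h => hwZ ?_
      rw [h]; exact Subgroup.mem_sup_left (Subgroup.mem_zpowers w)
    obtain ⟨n, hn⟩ := IsPGroup.iff_card.1 (hM.to_subgroup (Subgroup.zpowers w ⊔ Z))
    have h2 := hr _ hA
    have h3 := Cfsg.Agent.H22.Basic.card_lt_of_lt h1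
    rw [hn] at h2 h3 ⊢
    rw [hZcard] at h3
    have h4 : n ≤ 2 := (Nat.pow_le_pow_iff_right hpp.one_lt).1 h2
    have h5 : 1 < n := (Nat.pow_lt_pow_iff_right hpp.one_lt).1 (by rwa [pow_one])
    have : n = 2 := by omega
    rw [this]
  have hnZ : Subgroup.zpowers w ≤ Subgroup.normalizer (Z : Set M) := by
    intro u _
    apply Cfsg.Agent.H22.Basic.mem_normalizer_of_cj_le
    rw [Cfsg.Agent.H13.Syl.cj_le_iff_forall]
    intro z hz
    rw [(hZc z hz u).eq, mul_inv_cancel_right]; exact hz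
  have hXel : ∀ u, u ∈ Subgroup.zpowers w ⊔ Z → ∃ k : ℕ, ∃ z ∈ Z, u = w ^ k * z := by
    intro u hu
    rw [sup_comm] at hu
    obtain ⟨z, hz, v, hv, rfl⟩ := (Cfsg.Agent.H22.Basic.mem_sup_of_le_normalizer hnZ).1 hu
    obtain ⟨j, rfl⟩ := exists_nat hv
    exact ⟨j, z, hz, ((hZc z hz _).eq).symm⟩
  have hXn : ∀ u ∈ (⊤ : Subgroup M), ∀ c ∈ Subgroup.zpowers w ⊔ Z, u * c * u⁻¹ ∈ Subgroup.zpowers w ⊔ Z := by
    intro u _ c hc
    obtain ⟨k, z, hz, rfl⟩ := hXel c hc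
    have h1 : u * (w ^ k * z) * u⁻¹ = (u * w * u⁻¹ * w⁻¹ * w) ^ k * z := by
      have h2 : u * w * u⁻¹ * w⁻¹ * w = u * w * u⁻¹ := by group
      have h3 : u * z * u⁻¹ = z := by rw [(hZc z hz u).eq, mul_inv_cancel_right]
      rw [h2, conj_pow]
      calc u * (w ^ k * z) * u⁻¹ = u * w ^ k * u⁻¹ * (u * z * u⁻¹) := by group
        _ = _ := by rw [h3]
    rw [h1]
    refine Subgroup.mul_mem _ (Subgroup.pow_mem _ (Subgroup.mul_mem _ (Subgroup.mem_sup_right (hwZ' u))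
      (Subgroup.mem_sup_left (Subgroup.mem_zpowers w))) k) (Subgroup.mem_sup_right hz)
  have hXi : (Subgroup.zpowers w ⊔ Z).relIndex Nn ≤ p := by
    have h1 := Subgroup.relIndex_mul_relIndex ⊥ _ _ bot_le hXN
    rw [Subgroup.relIndex_bot_left, Subgroup.relIndex_bot_left, hAc, hNc, pow_succ (p : ℕ) 2] at h1
    exact (Nat.eq_of_mul_eq_mul_left (pow_pos hpp.pos 2) h1).le
  have hstep := central_step (p := p) (N := ⊤) (hM.to_subgroup ⊤) hXN le_top hXn
    (fun u _ c hc => hNn.conj_mem c hc u) hXi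
  have hstep' : ∀ u, ∃ k : ℕ, ∃ z ∈ Z, y⁻¹ * (u * y * u⁻¹) = w ^ k * z := fun u =>
    hXel _ (hstep u (Subgroup.mem_top u) y (hEN hyE))
  obtain ⟨i, z₀, hz₀, hmi⟩ := hstep' m
  have hpi : ¬ p ∣ i := by
    rintro ⟨i', rfl⟩
    apply hm
    rw [hNiff, hmi, pow_mul, hwp, one_pow, one_mul]
    exact hz₀
  obtain ⟨n, -, hn⟩ := Nat.exists_mul_mod_eq_one_of_coprime ((Nat.Prime.coprime_iff_not_dvd hpp).2 hpi).symm hpp.one_lt
  have hwn : w = (w ^ i) ^ n := by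
    rw [← pow_mul, ← Nat.mod_add_div (i * n) p, hn, pow_add, pow_one, pow_mul, hwp, one_pow, mul_one]
  set v := w ^ i with hv
  have hvp : v ^ p = 1 := by rw [hv, ← pow_mul, mul_comm, pow_mul, hwp, one_pow]
  have hvN : v ∈ Nn := Nn.pow_mem hwN i
  have hvc : ∀ u, π u * π v = π v * π u := by
    intro u
    have h1 : Commute (π u) (π w) := hw u
    have := h1.pow_right i
    rw [← map_pow] at this
    exact this.eq
  have hvZ : v ∉ Z := fun h => hwZ (by rw [hwn]; exact Z.pow_mem h n)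
  have hvE : v ∉ E := fun h => hvZ (hEZ v h hvc)
  have hvy : ¬ Commute v y := fun h => hvE (hcNy v hvN h)
  have hvZ' : ∀ u, u * v * u⁻¹ * v⁻¹ ∈ Z := by
    intro u
    rw [← hπ1, map_mul, map_mul, map_mul, map_inv, map_inv, hvc u]
    group
  have hφZ : ∀ z ∈ Z, φ z ∈ Z := by
    intro z hz
    obtain ⟨k, rfl⟩ := exists_nat hz
    rw [map_pow, hφx, ← pow_mul]
    exact Z.pow_mem (Subgroup.mem_zpowers x) _
  -- `φ v`
  set e := φ v * (v ^ 4)⁻¹ with he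
  have heE : e ∈ E := hφt v hvN
  have heZ : e ∈ Z := by
    apply hEZ e heE
    intro u
    obtain ⟨u, rfl⟩ := hφs u
    have h1 : Commute (π (φ u)) (π (φ v)) := by
      have h2 := hφZ _ (hvZ' u)
      rw [← hπ1, map_mul, map_mul, map_mul, map_mul, map_mul, map_mul, map_inv, map_inv, map_inv, map_inv] at h2
      exact mul_inv_eq_iff_eq_mul.1 (mul_inv_eq_one.1 h2)
    have h2 : Commute (π (φ u)) (π v) := hvc (φ u)
    have h3 := h1.mul_right ((h2.pow_right 4).inv_right)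
    rw [← map_pow, ← map_inv, ← map_mul] at h3
    exact h3.eq
  have hφv : φ v = v ^ 4 * e := by
    have h1 : φ v = e * v ^ 4 := by rw [he]; group
    rw [h1, (hZc e heZ (v ^ 4)).eq]
  -- action on `y` modulo `Z`
  have hπv1 : π v ^ p = 1 := by rw [← map_pow, hvp, map_one]
  have hπv : π v ≠ 1 := fun h => hvZ ((hπ1 v).1 h)
  have hact : ∀ u, ∃ k : ℕ, π u * π y * (π u)⁻¹ = π y * π v ^ k := by
    intro u
    obtain ⟨k, z, hz, h⟩ := hstep' u
    refine ⟨n * k, ?_⟩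
    have h1 : u * y * u⁻¹ = y * (w ^ k * z) := by rw [← h]; group
    have h2 := congrArg π h1
    rw [map_mul, map_mul, map_inv, map_mul, map_mul, (hπ1 z).2 hz, mul_one, hwn, ← pow_mul, map_pow] at h2
    exact h2
  have hNiff' : ∀ u, u ∈ Nn ↔ π u * π y * (π u)⁻¹ = π y := by
    intro u
    rw [hNiff, ← hπ1, map_mul, map_mul, map_mul, map_inv, map_inv, inv_mul_eq_one]
    exact eq_comm
  have hvcy : Commute (π y) (π v) := hvc y
  have hft : ∀ t, φ t * (t ^ 8)⁻¹ ∈ Nn := by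
    intro t
    obtain ⟨k, hk⟩ := hact t
    obtain ⟨l, hl⟩ := hact (φ t)
    -- `l * b ≡ 4 * k`
    have hlb : π v ^ (l * b) = π v ^ (4 * k) := by
      have h1 : π (φ t) * π (φ y) * (π (φ t))⁻¹ = π (φ y) * π (φ v) ^ k := by
        have h2 : y⁻¹ * (t * y * t⁻¹) * (v ^ k)⁻¹ ∈ Z := by
          rw [← hπ1, map_mul, map_mul, map_mul, map_mul, map_inv, map_inv, map_inv, map_pow, hk]
          group
        have h3 := (hπ1 _).2 (hφZ _ h2)
        rw [map_mul, map_mul, map_mul, map_mul, map_inv, map_inv, map_inv, map_pow] at h3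
        rw [map_mul, map_mul, map_mul, map_mul, map_inv, map_inv, map_inv, map_pow] at h3
        rw [mul_inv_eq_one, inv_mul_eq_iff_eq_mul] at h3
        exact h3
      rw [hφy, hφv, map_mul, (hπ1 e).2 heZ, mul_one, map_pow, map_pow, ← conj_pow, hl, (hvcy.pow_right l).mul_pow] at h1
      have h4 := mul_left_cancel h1
      rwa [← pow_mul, ← pow_mul] at h4
    have hov : orderOf (π v) = p := orderOf_eq_prime hπv1 hπv
    have hmod : l ≡ 8 * k [MOD p] := by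
      rw [pow_eq_pow_iff_modEq, hov] at hlb
      have h1 : l * b * 2 ≡ 4 * k * 2 [MOD p] := hlb.mul_right 2
      have h2 : l * b * 2 ≡ l [MOD p] := by
        have h3 := hb.mul_left l
        rw [mul_one] at h3
        rwa [show l * b * 2 = l * (2 * b) by ring]
      have h3 := h2.symm.trans h1
      rwa [show 4 * k * 2 = 8 * k by ring] at h3
    rw [hNiff']
    have hvct : Commute (π t) (π v) := hvc t
    have h8 : π t ^ 8 * π y * (π t ^ 8)⁻¹ = π y * (π v ^ k) ^ 8 := conj_pow_of hk (hvct.pow_right k) 8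
    have h9 : π v ^ l = (π v ^ k) ^ 8 := by
      rw [← pow_mul, pow_eq_pow_iff_modEq, hov, mul_comm k 8]; exact hmod
    have h10 : (π t ^ 8)⁻¹ * π y * (π t ^ 8) = π y * (π v ^ l)⁻¹ := by
      have h2 : Commute ((π t ^ 8)⁻¹) (π v ^ l) := ((hvct.pow_left 8).inv_left).pow_right l
      rw [eq_mul_inv_iff_mul_eq]
      calc (π t ^ 8)⁻¹ * π y * (π t ^ 8) * π v ^ l = (π t ^ 8)⁻¹ * π y * (π t ^ 8) * (π v ^ l * (π t ^ 8)⁻¹ * (π t ^ 8)) := by group
        _ = (π t ^ 8)⁻¹ * π y * (π t ^ 8) * ((π t ^ 8)⁻¹ * π v ^ l * (π t ^ 8)) := by rw [h2.eq]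
        _ = (π t ^ 8)⁻¹ * (π y * π v ^ l) * (π t ^ 8) := by group
        _ = π y := by rw [h9, ← h8]; group
    rw [map_mul, map_inv, map_pow]
    have h11 : Commute (π (φ t)) (π v ^ l) := Commute.pow_right (hvc (φ t)) l
    calc π (φ t) * (π t ^ 8)⁻¹ * π y * (π (φ t) * (π t ^ 8)⁻¹)⁻¹ = π (φ t) * ((π t ^ 8)⁻¹ * π y * (π t ^ 8)) * (π (φ t))⁻¹ := by group
      _ = π (φ t) * π y * (π (φ t))⁻¹ * (π (φ t) * (π v ^ l)⁻¹ * (π (φ t))⁻¹) := by rw [h10]; group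
      _ = π y * π v ^ l * (π v ^ l)⁻¹ := by rw [hl, h11.inv_right.eq, mul_inv_cancel_right]
      _ = π y := by rw [mul_inv_cancel_right]
  -- the weights
  have h4b : 4 * (b * b) ≡ 1 [MOD p] := by
    have := hb.mul hb
    rwa [show 2 * b * (2 * b) = 4 * (b * b) by ring, mul_one] at this
  have h8 : ¬ 8 ≡ 4 * b [MOD p] := by
    intro h
    have h1 : 4 * b ≡ 2 [MOD p] := by
      have := hb.mul_left 2
      rwa [← mul_assoc, show 2 * 2 = 4 by norm_num, mul_one] at this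
    have h2 := h.trans h1
    have h3 : p ∣ 6 := by
      have := (Nat.modEq_iff_dvd' (by norm_num : 2 ≤ 8)).1 h2.symm
      exact this
    have h4 : p ≤ 6 := Nat.le_of_dvd (by norm_num) h3
    interval_cases p
    · omega
    · exact absurd hpp (by norm_num)
  refine lemC (p := p) hp5 hM hr Nn Z v y m φ 4 (b * b) b 2 8 hZc hZcard hvp hyp hvy hvN hvZ' ?_ hNiff ?_ ?_ h4b
    (by rw [mul_comm]; exact hb) hft h8
  · rw [hmi, inv_mul_cancel_left]; exact hz₀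
  · rw [hφv, inv_mul_cancel_left]; exact heZ
  · rw [hφy, inv_mul_cancel]; exact Z.one_mem

end abs

end Cfsg.Agent.H1.Rk
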