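import Mathlib
import Cfsg.Agent.H1_RkE

set_option autoImplicit false
set_option linter.all false

/-! Groups of `p`-rank two: essential subgroups have order `p²`. -/

namespace Cfsg.Agent.H1.Rk

open Cfsg Cfsg.FusionSystem Cfsg.Agent.H27.Fus Cfsg.Agent.H27.Grp Cfsg.Agent.H1.FusA Cfsg.Agent.H1.Sm
open Cfsg.Agent.H12.Rank2 (restrictChar restrictChar_apply quotAut quotAut_mk quotAut_eq_one_pow card_of_exp exists_crit')
open scoped commutatorElement

variable {Ω : Type*} [Group Ω] {S E : Subgroup Ω} [Finite S] {F : FusionSystem S} {p : ℕ} [hp : Fact p.Prime]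

/-- the restriction of a self-map to a homomorphism -/
noncomputable def selfHom {P : Subgroup Ω} {f : Ω → Ω} (h : Map F P f) (hm : ∀ x ∈ P, f x ∈ P) : P →* P where
  toFun x := ⟨f x, hm x x.2⟩
  map_one' := Subtype.ext h.one
  map_mul' a b := Subtype.ext (h.mul a.2 b.2)

theorem selfHom_apply {P : Subgroup Ω} {f : Ω → Ω} (h : Map F P f) (hm : ∀ x ∈ P, f x ∈ P) (x : P) :
    ((selfHom h hm x : P) : Ω) = f x := rfl

theorem exists_half (hp5 : 5 ≤ p) : ∃ b : ℕ, 2 * b = p + 1 := by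
  have h := hp.out.eq_two_or_odd'
  rcases h with h | ⟨k, hk⟩
  · omega
  · exact ⟨k + 1, by omega⟩

theorem caseC (hS : IsPGroup p S) (hF : F.IsSaturated p) (hE : F.IsEssential p E) (hp5 : 5 ≤ p)
    (hr : ∀ A : Subgroup Ω, A ≤ S → IsElementaryAbelian p A → Nat.card A ≤ p ^ 2) {K : Subgroup E} (hK : K.Characteristic)
    (hKp : ∀ x ∈ K, x ^ p = 1) (hcl : ∀ a b : K, ⁅a, b⁆ ∈ Subgroup.center K) (hne : ∃ a b : K, ⁅a, b⁆ ≠ 1)
    (hz : Nat.card (Subgroup.center K) = p) (hq : Nat.card (K ⧸ Subgroup.center K) = p ^ 2)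
    (hcrit : ∀ a : MulAut E, (orderOf a).Coprime p → restrictChar K hK a = 1 → a = 1) : False := by
  have hES := hE.1.1
  haveI : Finite E := finite_of_le hES
  haveI : Finite (F.autGroup E) := finite_autGroup hES
  have hpp := hp.out
  have hexpK : ∀ x : K, x ^ p = 1 := fun x => Subtype.ext (hKp x x.2)
  have hexp : ∀ v : K ⧸ Subgroup.center K, v ^ p = 1 := by
    intro v
    obtain ⟨k, rfl⟩ := QuotientGroup.mk_surjective v
    rw [← QuotientGroup.mk_pow, hexpK]; rfl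
  have hc : ∀ v w : K ⧸ Subgroup.center K, v * w = w * v := by
    intro v w
    obtain ⟨a, rfl⟩ := QuotientGroup.mk_surjective v
    obtain ⟨b, rfl⟩ := QuotientGroup.mk_surjective w
    rw [← QuotientGroup.mk_mul, ← QuotientGroup.mk_mul, QuotientGroup.eq]
    have := hcl b⁻¹ a⁻¹
    rw [commutatorElement_def] at this
    have e : (a * b)⁻¹ * (b * a) = b⁻¹ * a⁻¹ * b⁻¹⁻¹ * a⁻¹⁻¹ := by group
    rw [e]; exact this
  let ρ₀ : F.autGroup E →* MulAut K := (restrictChar K hK).comp (F.autGroup E).subtype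
  let ρ : F.autGroup E →* MulAut (K ⧸ Subgroup.center K) := (quotAut K).comp ρ₀
  have hρmk : ∀ a k, ρ a (QuotientGroup.mk k) = QuotientGroup.mk (ρ₀ a k) := fun a k => rfl
  have hker : ∀ a, ρ a = 1 → ∃ k : ℕ, a ^ (p ^ k) = 1 := by
    refine pker ρ (fun a ha h1 => ?_)
    have h2 : ρ₀ a ^ p = 1 := quotAut_eq_one_pow hexpK hcl hz hne (ρ₀ a) h1
    have h3 : orderOf (ρ₀ a) ∣ p := orderOf_dvd_of_pow_eq_one h2
    have h4 : (orderOf (ρ₀ a)).Coprime p := Nat.Coprime.coprime_dvd_left (orderOf_map_dvd ρ₀ a) ha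
    have h5 : ρ₀ a = 1 := orderOf_eq_one_iff.1 (Nat.Coprime.eq_one_of_dvd h4 h3)
    exact Subtype.ext (hcrit a (by rwa [Subgroup.orderOf_coe]) h5)
  obtain ⟨s, hs, x, y, hf⟩ := exists_frame hS hF hE hq hexp hc ρ hker
  obtain ⟨w₀, hw₀⟩ := QuotientGroup.mk_surjective x
  obtain ⟨y₀, hy₀⟩ := QuotientGroup.mk_surjective y
  have hEN : E ≤ normalizerIn S E := le_nrm hES
  haveI : Finite (normalizerIn S E) := fin_nrm
  have hNp : IsPGroup p (normalizerIn S E) := isPGroup_mono hS nrm_le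
  let ι : K → Ω := fun k => ((k : E) : Ω)
  have hι : ∀ k : K, ι k ∈ E := fun k => (k : E).2
  let ZΩ : Subgroup Ω := (((Subgroup.center K).map K.subtype).map E.subtype)
  have hZ : ∀ k : K, ι k ∈ ZΩ ↔ (QuotientGroup.mk k : K ⧸ Subgroup.center K) = 1 := by
    intro k
    rw [QuotientGroup.eq_one_iff]
    constructor
    · rintro ⟨_, ⟨c, hc, rfl⟩, h⟩
      have : c = k := Subtype.ext (Subtype.ext h)
      rw [← this]; exact hc
    · intro h
      exact ⟨_, ⟨k, h, rfl⟩, rfl⟩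
  have hZel : ∀ z ∈ ZΩ, ∃ c : K, z = ι c ∧ (QuotientGroup.mk c : K ⧸ Subgroup.center K) = 1 := by
    rintro _ ⟨_, ⟨c, hc, rfl⟩, rfl⟩
    exact ⟨c, rfl, (QuotientGroup.eq_one_iff c).2 hc⟩
  have hconj : ∀ t (ht : t ∈ normalizerIn S E) (k : K), t * ι k * t⁻¹ = ι (ρ₀ (cA F hES t ht) k) := fun t ht k => rfl
  have hZΩE : ZΩ ≤ E := Subgroup.map_subtype_le _
  have hZcard : Nat.card (ZΩ.subgroupOf (normalizerIn S E)) = p := by
    rw [Nat.card_congr (Subgroup.subgroupOfEquivOfLe (hZΩE.trans hEN)).toEquiv,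
      Subgroup.card_map_of_injective E.subtype_injective, Subgroup.card_map_of_injective K.subtype_injective, hz]
  have hZn : (ZΩ.subgroupOf (normalizerIn S E)).Normal := by
    refine ⟨fun z hz u => ?_⟩
    obtain ⟨c, hzc, hc1⟩ := hZel _ hz
    have hzc : (z : Ω) = ι c := hzc
    show (u : Ω) * z * (u : Ω)⁻¹ ∈ ZΩ
    rw [hzc, hconj u u.2, hZ, ← hρmk, hc1, map_one]
  have hZcen := Cfsg.Agent.H2.Rank2.le_center_of_card_le hNp hZn hZcard.le
  have hZc : ∀ z ∈ ZΩ.subgroupOf (normalizerIn S E), ∀ u, Commute u z := fun z hz u => (Subgroup.mem_center_iff.1 (hZcen hz) u)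
  -- `w` and `y` do not commute
  have hwy : w₀ * y₀ ≠ y₀ * w₀ := by
    intro h
    let C : Subgroup K := Subgroup.centralizer ({w₀} : Set K)
    have hmC : ∀ k, k ∈ C ↔ k * w₀ = w₀ * k := fun k => by
      rw [Subgroup.mem_centralizer_singleton_iff]
    have h1 : C.map (QuotientGroup.mk' (Subgroup.center K)) = ⊤ := by
      refine top_of_two hq hf.x_ne hf.y_nm ?_ ?_
      · exact ⟨w₀, (hmC w₀).2 rfl, hw₀⟩
      · exact ⟨y₀, (hmC y₀).2 h.symm, hy₀⟩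
    have h2 : w₀ ∈ Subgroup.center K := by
      rw [Subgroup.mem_center_iff]
      intro k
      have h3 : (QuotientGroup.mk' (Subgroup.center K) k) ∈ C.map (QuotientGroup.mk' (Subgroup.center K)) := by rw [h1]; trivial
      obtain ⟨c, hc, hck⟩ := h3
      have h4 : c⁻¹ * k ∈ Subgroup.center K := QuotientGroup.eq.1 hck
      have h5 := Subgroup.mem_center_iff.1 h4 w₀
      have h6 := (hmC c).1 hc
      calc k * w₀ = c * (c⁻¹ * k * w₀) := by group
        _ = c * (w₀ * (c⁻¹ * k)) := by rw [← h5]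
        _ = (c * w₀) * (c⁻¹ * k) := by group
        _ = w₀ * k := by rw [h6]; group
    exact hf.x_ne (by rw [← hw₀]; exact (QuotientGroup.eq_one_iff w₀).2 h2)
  -- the torus element
  obtain ⟨b, hb⟩ := exists_half hp5
  have hbz : (2 : ℤ) * b = p + 1 := by exact_mod_cast hb
  have hab : (p : ℤ) ∣ 1 - 2 * (b : ℤ) := ⟨-1, by rw [hbz]; ring⟩
  obtain ⟨g, hgx, hgy⟩ := hf.tor 2 b hab
  obtain ⟨f, hfm, hfE, hft⟩ := hf.extend hS hF hE hq hexp hc hker hab hgx hgy (n := 4) ⟨0, by norm_num⟩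
  have hfι : ∀ k : K, f (ι k) = ι (ρ₀ g k) := fun k => hfE k
  have hbm : 2 * b ≡ 1 [MOD p] := by
    rw [hb]
    exact Nat.add_modEq_left
  refine lemC (p := p) hp5 hNp ?_ (E.subgroupOf (normalizerIn S E)) (ZΩ.subgroupOf (normalizerIn S E))
    ⟨ι w₀, hEN (hι w₀)⟩ ⟨ι y₀, hEN (hι y₀)⟩ ⟨s, hs⟩ (selfHom hfm fun t ht => (hft t ht).1) 2 b b 2 4 hZc hZcard
    ?_ ?_ ?_ (hι w₀) ?_ ?_ ?_ ?_ ?_ hbm (by rw [mul_comm]; exact hbm) ?_ ?_
  · intro A hA
    have h1 := hr (A.map (normalizerIn S E).subtype) ((Subgroup.map_subtype_le _).trans nrm_le) (by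
      refine ⟨⟨⟨?_⟩⟩, ?_⟩
      · rintro ⟨_, a, ha, rfl⟩ ⟨_, b, hb, rfl⟩
        apply Subtype.ext
        have := congrArg (fun z : A => ((z : normalizerIn S E) : Ω)) (hA.1.is_comm.comm ⟨a, ha⟩ ⟨b, hb⟩)
        exact this
      · rintro _ ⟨a, ha, rfl⟩
        exact congrArg Subtype.val (hA.2 a ha))
    rwa [Subgroup.card_map_of_injective (normalizerIn S E).subtype_injective] at h1
  · exact Subtype.ext (congrArg (fun k : K => ((k : E) : Ω)) (hexpK w₀))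
  · exact Subtype.ext (congrArg (fun k : K => ((k : E) : Ω)) (hexpK y₀))
  · intro h
    have h1 := congrArg Subtype.val h.eq
    exact hwy (Subtype.ext (Subtype.ext h1))
  · intro u
    show (u : Ω) * ι w₀ * (u : Ω)⁻¹ * (ι w₀)⁻¹ ∈ ZΩ
    have h1 : (u : Ω) * ι w₀ * (u : Ω)⁻¹ * (ι w₀)⁻¹ = ι (ρ₀ (cA F hES u u.2) w₀ * w₀⁻¹) := rfl
    rw [h1, hZ, QuotientGroup.mk_mul, QuotientGroup.mk_inv, ← hρmk, hw₀, (hf.st u u.2).1, mul_inv_cancel]
  · show (ι w₀)⁻¹ * ((ι y₀)⁻¹ * (s * ι y₀ * s⁻¹)) ∈ ZΩ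
    have h1 : (ι w₀)⁻¹ * ((ι y₀)⁻¹ * (s * ι y₀ * s⁻¹)) = ι (w₀⁻¹ * (y₀⁻¹ * (ρ₀ (cA F hES s hs) y₀))) := rfl
    rw [h1, hZ, QuotientGroup.mk_mul, QuotientGroup.mk_mul, QuotientGroup.mk_inv, QuotientGroup.mk_inv, ← hρmk, hw₀, hy₀, hf.s_y,
      inv_mul_cancel_left, inv_mul_cancel]
  · intro u
    have h1 : (ι y₀)⁻¹ * ((u : Ω) * ι y₀ * (u : Ω)⁻¹) = ι (y₀⁻¹ * (ρ₀ (cA F hES u u.2) y₀)) := rfl
    have h2 : (ι y₀)⁻¹ * ((u : Ω) * ι y₀ * (u : Ω)⁻¹) ∈ ZΩ ↔ ρ (cA F hES u u.2) y = y := by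
      rw [h1, hZ, QuotientGroup.mk_mul, QuotientGroup.mk_inv, ← hρmk, hy₀, inv_mul_eq_one]
      exact eq_comm
    show (u : Ω) ∈ E ↔ (ι y₀)⁻¹ * ((u : Ω) * ι y₀ * (u : Ω)⁻¹) ∈ ZΩ
    rw [h2]
    constructor
    · intro hu
      have h3 := hf.triv hq hu
      rw [h3]; rfl
    · intro hu
      refine mem_of_trivial hS hE ρ hker u.2 ?_
      refine aut_ext hq hf.x_ne hf.y_nm ?_ ?_
      · exact (hf.st u u.2).1
      · exact hu
  · show ((ι w₀) ^ 2)⁻¹ * f (ι w₀) ∈ ZΩ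
    rw [hfι]
    have h1 : ((ι w₀) ^ 2)⁻¹ * ι (ρ₀ g w₀) = ι ((w₀ ^ 2)⁻¹ * ρ₀ g w₀) := rfl
    rw [h1, hZ, QuotientGroup.mk_mul, QuotientGroup.mk_inv, QuotientGroup.mk_pow, ← hρmk, hw₀, hgx, zpow_ofNat, inv_mul_cancel]
  · show ((ι y₀) ^ b)⁻¹ * f (ι y₀) ∈ ZΩ
    rw [hfι]
    have h1 : ((ι y₀) ^ b)⁻¹ * ι (ρ₀ g y₀) = ι ((y₀ ^ b)⁻¹ * ρ₀ g y₀) := rfl
    rw [h1, hZ, QuotientGroup.mk_mul, QuotientGroup.mk_inv, QuotientGroup.mk_pow, ← hρmk, hy₀, hgy, zpow_natCast, inv_mul_cancel]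
  · intro t
    exact (hft t t.2).2
  · intro h
    have h1 : 4 ≡ 1 [MOD p] := h.trans hbm
    have h3 : p ∣ 3 := (Nat.modEq_iff_dvd' (by norm_num : 1 ≤ 4)).1 h1.symm
    have := Nat.le_of_dvd (by norm_num) h3
    omega

theorem ess_card (hS : IsPGroup p S) (hF : F.IsSaturated p) (hE : F.IsEssential p E) (hp5 : 5 ≤ p)
    (hr : ∀ A : Subgroup Ω, A ≤ S → IsElementaryAbelian p A → Nat.card A ≤ p ^ 2) :
    Nat.card E = p ^ 2 ∧ (∀ x : E, x ^ p = 1) ∧ ∀ x y : E, x * y = y * x := by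
  have hES := hE.1.1
  haveI : Finite E := finite_of_le hES
  haveI : Finite (F.autGroup E) := finite_autGroup hES
  have hpp := hp.out
  obtain ⟨K, hK, hKp, hKc, hcrit⟩ := exists_crit' (p := p) (by omega) (hS.to_le hES)
  have hexpK : ∀ x : K, x ^ p = 1 := fun x => Subtype.ext (hKp x x.2)
  have hcl : ∀ a b : K, ⁅a, b⁆ ∈ Subgroup.center K := by
    intro a b
    rw [Subgroup.mem_center_iff]
    intro c
    have h1 := Subgroup.mem_centralizer_iff.1 (hKc a a.2 b) c c.2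
    exact Subtype.ext h1
  have hrK : ∀ A : Subgroup K, IsElementaryAbelian p A → Nat.card A ≤ p ^ 2 := by
    intro A hA
    have h1 := hr ((A.map K.subtype).map E.subtype) ((Subgroup.map_subtype_le _).trans hES) (by
      refine ⟨⟨⟨?_⟩⟩, ?_⟩
      · rintro ⟨_, _, ⟨a, ha, rfl⟩, rfl⟩ ⟨_, _, ⟨b, hb, rfl⟩, rfl⟩
        apply Subtype.ext
        have := congrArg (fun z : A => (((z : K) : E) : Ω)) (hA.1.is_comm.comm ⟨a, ha⟩ ⟨b, hb⟩)
        exact this
      · rintro _ ⟨_, ⟨a, ha, rfl⟩, rfl⟩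
        exact congrArg (fun z : K => ((z : E) : Ω)) (hA.2 a ha))
    rwa [Subgroup.card_map_of_injective E.subtype_injective, Subgroup.card_map_of_injective K.subtype_injective] at h1
  rcases card_of_exp hexpK hcl hrK with ⟨hab, hle⟩ | ⟨hne, -, hz, hq⟩
  · obtain ⟨n, hn⟩ := IsPGroup.iff_card.1 ((hS.to_le hES).to_subgroup K)
    rw [hn] at hle
    have hn2 : n ≤ 2 := (Nat.pow_le_pow_iff_right hpp.one_lt).1 hle
    by_cases hn1 : n = 2
    · subst hn1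
      have hKt := caseA hS hF hE hp5 hr hK hKp hab hn hcrit
      subst hKt
      refine ⟨by rw [← hn, Subgroup.card_top], fun x => hKp x trivial, fun x y => ?_⟩
      exact congrArg Subtype.val (hab ⟨x, trivial⟩ ⟨y, trivial⟩)
    · exfalso
      have hn1 : n ≤ 1 := by omega
      let ρ₀ : F.autGroup E →* MulAut K := (restrictChar K hK).comp (F.autGroup E).subtype
      have hker : ∀ a, ρ₀ a = 1 → ∃ k : ℕ, a ^ (p ^ k) = 1 := pker ρ₀ (fun a ha h1 => Subtype.ext (hcrit a (by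
        rwa [Subgroup.orderOf_coe]) h1))
      refine no_stab' hS hF hE ρ₀.ker (MonoidHom.normal_ker ρ₀) hker fun t ht => ?_
      -- `N_S(E)` centralises `K`
      haveI : Finite (normalizerIn S E) := fin_nrm
      have hNp : IsPGroup p (normalizerIn S E) := isPGroup_mono hS nrm_le
      have hEN : E ≤ normalizerIn S E := le_nrm hES
      let KΩ : Subgroup Ω := K.map E.subtype
      have hKE : KΩ ≤ E := Subgroup.map_subtype_le _
      have hcard : Nat.card (KΩ.subgroupOf (normalizerIn S E)) ≤ p := by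
        rw [Nat.card_congr (Subgroup.subgroupOfEquivOfLe (hKE.trans hEN)).toEquiv,
          Subgroup.card_map_of_injective E.subtype_injective, hn]
        calc p ^ n ≤ p ^ 1 := Nat.pow_le_pow_right hpp.pos hn1
          _ = p := pow_one p
      have hZn : (KΩ.subgroupOf (normalizerIn S E)).Normal := by
        refine ⟨fun z hz u => ?_⟩
        obtain ⟨c, hc, hzc⟩ := hz
        have hzc : (c : Ω) = z := hzc
        show (u : Ω) * z * (u : Ω)⁻¹ ∈ KΩ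
        rw [← hzc]
        exact ⟨((ρ₀ (cA F hES u u.2) ⟨c, hc⟩ : K) : E), SetLike.coe_mem _, rfl⟩
      have hZcen := Cfsg.Agent.H2.Rank2.le_center_of_card_le hNp hZn hcard
      rw [MonoidHom.mem_ker]
      ext k
      show t * ((k : E) : Ω) * t⁻¹ = ((k : E) : Ω)
      have h1 : (⟨((k : E) : Ω), hEN (k : E).2⟩ : normalizerIn S E) ∈ KΩ.subgroupOf (normalizerIn S E) := ⟨k, k.2, rfl⟩
      have h2 := congrArg Subtype.val (Subgroup.mem_center_iff.1 (hZcen h1) ⟨t, ht⟩)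
      have h3 : t * ((k : E) : Ω) = ((k : E) : Ω) * t := h2
      rw [h3, mul_inv_cancel_right]
  · exact (caseC hS hF hE hp5 hr hK hKp hcl hne hz hq hcrit).elim

end Cfsg.Agent.H1.Rk
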