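import Mathlib
import Cfsg.Agent.H1_RkF
import Cfsg.Agent.H1_FusZ3

set_option autoImplicit false
set_option linter.all false

/-! Groups of `p`-rank two are resistant for `p ≥ 5`. -/

namespace Cfsg.Agent.H1.Rk

open Cfsg Cfsg.FusionSystem Cfsg.Agent.H27.Fus Cfsg.Agent.H27.Grp Cfsg.Agent.H1.FusA Cfsg.Agent.H1.Sm

variable {Ω : Type*} [Group Ω] {S E : Subgroup Ω} [Finite S] {F : FusionSystem S} {p : ℕ} [hp : Fact p.Prime]

theorem rank_sub {N : Subgroup Ω} (hNS : N ≤ S)
    (hr : ∀ A : Subgroup Ω, A ≤ S → IsElementaryAbelian p A → Nat.card A ≤ p ^ 2) (A : Subgroup N)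
    (hA : IsElementaryAbelian p A) : Nat.card A ≤ p ^ 2 := by
  have h1 := hr (A.map N.subtype) ((Subgroup.map_subtype_le _).trans hNS) (by
    refine ⟨⟨⟨?_⟩⟩, ?_⟩
    · rintro ⟨_, a, ha, rfl⟩ ⟨_, b, hb, rfl⟩
      apply Subtype.ext
      have := congrArg (fun z : A => ((z : N) : Ω)) (hA.1.is_comm.comm ⟨a, ha⟩ ⟨b, hb⟩)
      exact this
    · rintro _ ⟨a, ha, rfl⟩
      exact congrArg Subtype.val (hA.2 a ha))
  rwa [Subgroup.card_map_of_injective N.subtype_injective] at h1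

theorem card_le_card' {P Q : Subgroup Ω} (h : P ≤ Q) [Finite Q] : Nat.card P ≤ Nat.card Q :=
  Nat.card_le_card_of_injective _ (Subgroup.inclusion_injective h)

/-- maps on subgroups of order greater than the order of all essential subgroups extend -/
theorem ext_of_card (hS : IsPGroup p S) (hF : F.IsSaturated p) {n : ℕ} (h : ∀ E, F.IsEssential p E → Nat.card E ≤ n) {P : Subgroup Ω}
    {f : Ω → Ω} (hf : Map F P f) (hP : n < Nat.card P) : ∃ g, Iso F S S g ∧ ∀ x ∈ P, g x = f x := by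
  have key : ∀ P f, Map F P f → Map F P f ∧ (n < Nat.card P → ∃ g, Iso F S S g ∧ ∀ x ∈ P, g x = f x) := by
    refine alperin hS hF ⟨?_, ?_, ?_, ?_⟩ ?_ ?_
    · rintro P f g ⟨h1, h2⟩ hfg
      refine ⟨h1.congr hfg, fun hc => ?_⟩
      obtain ⟨k, hk, hkf⟩ := h2 hc
      exact ⟨k, hk, fun x hx => (hkf x hx).trans (hfg x hx)⟩
    · rintro P Q f ⟨h1, h2⟩ hQP
      refine ⟨h1.mono hQP, fun hc => ?_⟩
      haveI : Finite P := finite_of_le h1.le
      obtain ⟨k, hk, hkf⟩ := h2 (lt_of_lt_of_le hc (card_le_card' hQP))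
      exact ⟨k, hk, fun x hx => hkf x (hQP hx)⟩
    · rintro P Q f g hf hg ⟨-, h1⟩ ⟨-, h2⟩ hm
      refine ⟨hg.comp hf hm, fun hc => ?_⟩
      obtain ⟨k, hk, hkf⟩ := h1 hc
      haveI : Finite Q := finite_of_le hg.le
      have h3 : im P f ≤ Q := (im_le_iff hf).2 hm
      obtain ⟨l, hl, hlg⟩ := h2 (lt_of_lt_of_le hc (by rw [← hf.card_im]; exact card_le_card' h3))
      refine ⟨l ∘ k, hk.trans hl, fun x hx => ?_⟩
      show l (k x) = g (f x)
      rw [hkf x hx, hlg _ (hm x hx)]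
    · rintro P Q f hi ⟨-, h1⟩
      refine ⟨hi.symm.map, fun hc => ?_⟩
      obtain ⟨k, hk, hkf⟩ := h1 (by rw [hi.card]; exact hc)
      refine ⟨finv S k, hk.symm, fun y hy => ?_⟩
      have h2 := hi.finv_mem hy
      have h3 := hkf _ h2
      rw [hi.finv_right hy] at h3
      conv_lhs => rw [← h3]
      exact hk.finv_left (hi.le h2)
    · intro f hf
      exact ⟨hf.map, fun _ => ⟨f, hf, fun _ _ => rfl⟩⟩
    · intro P hP f hf
      exact ⟨hf.map, fun hc => absurd (h P hP) (not_le.2 hc)⟩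
  exact (key P f hf).2 hP

theorem no_essential (hS : IsPGroup p S) (hF : F.IsSaturated p) (hE : F.IsEssential p E) (hp5 : 5 ≤ p)
    (hr : ∀ A : Subgroup Ω, A ≤ S → IsElementaryAbelian p A → Nat.card A ≤ p ^ 2)
    (hnotE : ¬ (Nat.card S = p ^ 3 ∧ Monoid.exponent ↥S = p)) : False := by
  have hES := hE.1.1
  haveI : Finite E := finite_of_le hES
  haveI : Finite (F.autGroup E) := finite_autGroup hES
  have hpp := hp.out
  obtain ⟨hcard, hexp, hc⟩ := ess_card hS hF hE hp5 hr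
  let ρ : F.autGroup E →* MulAut E := (F.autGroup E).subtype
  have hker : ∀ a, ρ a = 1 → ∃ k : ℕ, a ^ (p ^ k) = 1 := fun a ha => ⟨0, by
    rw [pow_zero, pow_one]; exact Subtype.ext ha⟩
  obtain ⟨s, hs, x, y, hf⟩ := exists_frame hS hF hE hcard hexp hc ρ hker
  have hEN : E ≤ normalizerIn S E := le_nrm hES
  haveI : Finite (normalizerIn S E) := fin_nrm
  have hNp : IsPGroup p (normalizerIn S E) := isPGroup_mono hS nrm_le
  have hact : ∀ t (ht : t ∈ normalizerIn S E) (e : E), t * (e : Ω) * t⁻¹ = ((ρ (cA F hES t ht) e : E) : Ω) := fun t ht e => rfl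
  -- facts
  have hxp : (x : Ω) ^ p = 1 := congrArg Subtype.val (hexp x)
  have hyp : (y : Ω) ^ p = 1 := congrArg Subtype.val (hexp y)
  have hx1 : (x : Ω) ≠ 1 := fun h => hf.x_ne (Subtype.ext h)
  have hEel : ∀ e ∈ E, ∃ i j : ℕ, e = (x : Ω) ^ i * (y : Ω) ^ j := by
    intro e he
    obtain ⟨i, j, hij⟩ := exists_rep hcard hc hf.x_ne hf.y_nm ⟨e, he⟩
    obtain ⟨i', hi'⟩ := exists_nat (Subgroup.zpow_mem _ (Subgroup.mem_zpowers x) i : x ^ i ∈ Subgroup.zpowers x)
    obtain ⟨j', hj'⟩ := exists_nat (Subgroup.zpow_mem _ (Subgroup.mem_zpowers y) j : y ^ j ∈ Subgroup.zpowers y)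
    refine ⟨i', j', ?_⟩
    rw [← hi', ← hj'] at hij
    exact congrArg Subtype.val hij
  have hxc : ∀ u ∈ normalizerIn S E, Commute u (x : Ω) := by
    intro u hu
    have h1 := hact u hu x
    rw [(hf.st u hu).1] at h1
    exact mul_inv_eq_iff_eq_mul.1 h1
  have hk : ∀ u ∈ normalizerIn S E, ∃ k : ℕ, u * (y : Ω) * u⁻¹ = y * (x : Ω) ^ k := by
    intro u hu
    obtain ⟨k, hk⟩ := hf.exists_k hc hu
    obtain ⟨k', hk'⟩ := exists_nat (Subgroup.zpow_mem _ (Subgroup.mem_zpowers x) k : x ^ k ∈ Subgroup.zpowers x)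
    refine ⟨k', ?_⟩
    rw [hact u hu y, hk, ← hk']; rfl
  have hcE : ∀ u ∈ S, Commute u (x : Ω) → Commute u (y : Ω) → u ∈ E := by
    intro u hu h1 h2
    apply IsCentric.cen_le hE.1
    rw [mem_cen]
    refine ⟨hu, fun e he => ?_⟩
    obtain ⟨i, j, rfl⟩ := hEel e he
    exact ((h1.pow_right i).mul_right (h2.pow_right j)).eq.symm
  have hsy : s * (y : Ω) * s⁻¹ = y * x := by
    rw [hact s hs y, hf.s_y]; rfl
  -- the torus element
  obtain ⟨b, hb⟩ := exists_half hp5
  have hbz : (2 : ℤ) * b = p + 1 := by exact_mod_cast hb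
  have hab : (p : ℤ) ∣ 1 - 2 * (b : ℤ) := ⟨-1, by rw [hbz]; ring⟩
  obtain ⟨g, hgx, hgy⟩ := hf.tor 2 b hab
  obtain ⟨f, hfm, hfE, hft⟩ := hf.extend hS hF hE hcard hexp hc hker hab hgx hgy (n := 4) ⟨0, by norm_num⟩
  have hfx : f x = (x : Ω) ^ 2 := by
    rw [hfE x]
    have := congrArg Subtype.val hgx
    rw [zpow_ofNat] at this
    exact this
  have hfy : f y = (y : Ω) ^ b := by
    rw [hfE y]
    have := congrArg Subtype.val hgy
    rw [zpow_natCast] at this
    exact this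
  have hbm : 2 * b ≡ 1 [MOD p] := by
    rw [hb]
    exact Nat.add_modEq_left
  -- structure of `N_S(E)`
  obtain ⟨hsp, hdec, hexpN⟩ := lemA1 (N := normalizerIn S E) (p := p) hp5 (E.subgroupOf (normalizerIn S E)) ⟨x, hEN x.2⟩ ⟨y, hEN y.2⟩
    ⟨s, hs⟩ (selfHom hfm fun t ht => (hft t ht).1) (by
      intro e he
      obtain ⟨i, j, hij⟩ := hEel e he
      exact ⟨i, j, Subtype.ext hij⟩) x.2 y.2 (Subtype.ext hxp) (Subtype.ext hyp) (fun h => hx1 (congrArg Subtype.val h))
    (fun u => Subtype.ext (hxc u u.2).eq) (by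
      intro u
      obtain ⟨k, hk⟩ := hk u u.2
      exact ⟨k, Subtype.ext hk⟩) (by
      intro u hu
      exact hcE u (nrm_le u.2) (hxc u u.2) (congrArg Subtype.val hu.eq)) (Subtype.ext hsy) (Subtype.ext hfx)
    (fun t => (hft t t.2).2)
  have hsE : s ∉ E := by
    intro h
    have h1 := congrArg Subtype.val (hc ⟨s, h⟩ y)
    have h1 : s * (y : Ω) = y * s := h1
    rw [h1, mul_inv_cancel_right] at hsy
    exact hx1 (mul_eq_left.1 hsy.symm)
  have hNc : Nat.card (normalizerIn S E) = p ^ 3 := by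
    haveI hn : (E.subgroupOf (normalizerIn S E)).Normal := ⟨fun e he u => by
      show (u : Ω) * e * (u : Ω)⁻¹ ∈ E
      exact nrm_conj_mem u.2 he⟩
    have h1 := Subgroup.card_eq_card_quotient_mul_card_subgroup (E.subgroupOf (normalizerIn S E))
    have h2 : Nat.card (E.subgroupOf (normalizerIn S E)) = p ^ 2 := by
      rw [Nat.card_congr (Subgroup.subgroupOfEquivOfLe hEN).toEquiv, hcard]
    set q : normalizerIn S E ⧸ E.subgroupOf (normalizerIn S E) := QuotientGroup.mk ⟨s, hs⟩ with hq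
    have hq1 : q ≠ 1 := fun h => by
      have h5 := (QuotientGroup.eq_one_iff (N := E.subgroupOf (normalizerIn S E)) (⟨s, hs⟩ : normalizerIn S E)).1 h
      exact hsE h5
    have hqp : q ^ p = 1 := by rw [hq, ← QuotientGroup.mk_pow, hsp]; rfl
    have h3 : Subgroup.zpowers q = ⊤ := by
      rw [eq_top_iff]
      intro v _
      obtain ⟨u, rfl⟩ := QuotientGroup.mk_surjective v
      obtain ⟨e, he, k, rfl⟩ := hdec u
      rw [QuotientGroup.mk_mul, (QuotientGroup.eq_one_iff e).2 he, one_mul, QuotientGroup.mk_pow]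
      exact Subgroup.pow_mem _ (Subgroup.mem_zpowers q) k
    have h4 : Nat.card (normalizerIn S E ⧸ E.subgroupOf (normalizerIn S E)) = p := by
      rw [← orderOf_eq_prime hqp hq1, ← Nat.card_zpowers, h3, Subgroup.card_top]
    rw [h1, h2, h4]; ring
  by_cases hNS : normalizerIn S E = S
  · apply hnotE
    refine ⟨by rw [← hNS]; exact hNc, ?_⟩
    have h1 : Monoid.exponent S ∣ p := by
      apply Monoid.exponent_dvd_of_forall_pow_eq_one
      intro u
      have hu : (u : Ω) ∈ normalizerIn S E := by rw [hNS]; exact u.2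
      have h2 := congrArg Subtype.val (hexpN ⟨u, hu⟩)
      exact Subtype.ext h2
    rcases (Nat.dvd_prime hpp).1 h1 with h2 | h2
    · exfalso
      apply hx1
      have h3 := Monoid.pow_exponent_eq_one (⟨x, hES x.2⟩ : S)
      rw [h2, pow_one] at h3
      exact congrArg Subtype.val h3
    · exact h2
  · -- extension to `S`
    have hcn : p ^ 2 < Nat.card (normalizerIn S E) := by
      rw [hNc]; exact Nat.pow_lt_pow_right hpp.one_lt (by norm_num)
    obtain ⟨k, hkS, hkf⟩ := ext_of_card hS hF (fun E' hE' => (ess_card hS hF hE' hp5 hr).1.le) hfm hcn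
    have hkN : Iso F (normalizerIn S E) (normalizerIn S E) k :=
      iso_of_card_le (hkS.map.mono nrm_le) (fun t ht => by rw [hkf t ht]; exact (hft t ht).1) le_rfl
    have hNM : normalizerIn S E ≤ normalizerIn S (normalizerIn S E) := le_nrm nrm_le
    have hkM : ∀ m ∈ normalizerIn S (normalizerIn S E), k m ∈ normalizerIn S (normalizerIn S E) := fun m hm =>
      hkS.map.nrm_mem' hkN nrm_le (nrm_le hm) hm
    haveI : Finite (normalizerIn S (normalizerIn S E)) := fin_nrm
    have hNlt : normalizerIn S E < normalizerIn S (normalizerIn S E) := by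
      obtain ⟨m, hm, hm', hmN⟩ := exists_mem_normalizer_of_lt hS (lt_of_le_of_ne nrm_le hNS)
      refine lt_of_le_of_ne hNM fun h => hm' ?_
      rw [h]
      exact ⟨hm, hmN⟩
    have hkmap : Map F (normalizerIn S (normalizerIn S E)) k := hkS.map.mono nrm_le
    have hEM : E ≤ normalizerIn S (normalizerIn S E) := hEN.trans hNM
    haveI hNn : ((normalizerIn S E).subgroupOf (normalizerIn S (normalizerIn S E))).Normal := by
      refine ⟨fun n hn m => ?_⟩
      show (m : Ω) * n * (m : Ω)⁻¹ ∈ normalizerIn S E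
      exact nrm_conj_mem m.2 hn
    refine lemA2 (p := p) (M := normalizerIn S (normalizerIn S E)) hp5 (isPGroup_mono hS nrm_le) (rank_sub nrm_le hr)
      (E.subgroupOf _) ((normalizerIn S E).subgroupOf _) ⟨x, hEM x.2⟩ ⟨y, hEM y.2⟩ ⟨s, hNM hs⟩ (selfHom hkmap hkM) b
      ?_ ?_ ?_ ?_ x.2 y.2 (Subtype.ext hxp) (Subtype.ext hyp) (fun h => hx1 (congrArg Subtype.val h)) ?_ ?_ hs (Subtype.ext hsy)
      ?_ ?_ ?_ ?_ ?_ hbm ?_ ?_ ?_
    · intro h
      refine hNlt.not_ge fun m hm => ?_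
      have : (⟨m, hm⟩ : normalizerIn S (normalizerIn S E)) ∈ (normalizerIn S E).subgroupOf _ := by rw [h]; trivial
      exact this
    · intro e he
      exact hEN he
    · intro u hu
      exact mem_nrm_of_forall hES (nrm_le u.2) fun e he => hu ⟨e, hEM he⟩ he
    · intro e he
      obtain ⟨i, j, hij⟩ := hEel e he
      exact ⟨i, j, Subtype.ext hij⟩
    · intro u hu
      exact Subtype.ext (hxc u hu).eq
    · intro u h1 h2
      exact hcE u (nrm_le u.2) (congrArg Subtype.val h1.eq) (congrArg Subtype.val h2.eq)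
    · intro u hu
      obtain ⟨e, he, k, hk⟩ := hdec ⟨u, hu⟩
      have h2 := congrArg Subtype.val hk
      exact ⟨⟨e, hNM e.2⟩, he, k, Subtype.ext h2⟩
    · intro u hu
      have h2 := congrArg Subtype.val (hexpN ⟨u, hu⟩)
      exact Subtype.ext h2
    · rw [Nat.card_congr (Subgroup.subgroupOfEquivOfLe hNM).toEquiv, hNc]
    · refine Finite.surjective_of_injective fun u v huv => ?_
      exact Subtype.ext (hkmap.inj u.2 v.2 (congrArg Subtype.val huv))
    · intro u hu
      show k u ∈ normalizerIn S E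
      rw [hkf u hu]; exact (hft u hu).1
    · apply Subtype.ext
      show k x = (x : Ω) ^ 2
      rw [hkf x (hEN x.2), hfx]
    · apply Subtype.ext
      show k y = (y : Ω) ^ b
      rw [hkf y (hEN y.2), hfy]
    · intro t ht
      show k t * ((t : Ω) ^ 4)⁻¹ ∈ E
      rw [hkf t ht]; exact (hft t ht).2

theorem resistant (hS : IsPGroup p S) (hF : F.IsSaturated p) (hp5 : 5 ≤ p)
    (hr : ∀ A : Subgroup Ω, A ≤ S → IsElementaryAbelian p A → Nat.card A ≤ p ^ 2)
    (hnotE : ¬ (Nat.card S = p ^ 3 ∧ Monoid.exponent ↥S = p)) : F.IsNormal S := by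
  refine normal_of_essential hS hF ?_
  rintro P (rfl | hP)
  · exact ⟨le_rfl, fun f hf => hf.im_eq⟩
  · exact (no_essential hS hF hP hp5 hr hnotE).elim

end Cfsg.Agent.H1.Rk
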