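import Mathlib

/-! Automorphisms of an elementary abelian group of order `p²`: two noncommuting transvections produce inversion. -/

set_option autoImplicit false

namespace Cfsg.Agent.H27.Neg

variable {V : Type*} [Group V] [Finite V] {p : ℕ} [hp : Fact p.Prime]

theorem coord (hc : ∀ x y : V, x * y = y * x) (he1 : ∀ x : V, x ^ p = 1) (hcard : Nat.card V = p ^ 2) {e f : V}
    (he : e ≠ 1) (hf : f ∉ Subgroup.zpowers e) (x : V) : ∃ i j : ℤ, x = e ^ i * f ^ j := by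
  have hce : Nat.card (Subgroup.zpowers e) = p := by
    rw [Nat.card_zpowers]; exact orderOf_eq_prime (he1 e) he
  have hlt : Subgroup.zpowers e < Subgroup.zpowers e ⊔ Subgroup.zpowers f := by
    refine lt_of_le_of_ne le_sup_left fun h => hf ?_
    rw [h]; exact Subgroup.mem_sup_right (Subgroup.mem_zpowers f)
  have hdv : Nat.card ↥(Subgroup.zpowers e ⊔ Subgroup.zpowers f) ∣ p ^ 2 := by
    rw [← hcard]; exact Subgroup.card_subgroup_dvd_card _
  have hlt' : Nat.card (Subgroup.zpowers e) < Nat.card ↥(Subgroup.zpowers e ⊔ Subgroup.zpowers f) := by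
    refine lt_of_le_of_ne (Subgroup.card_le_of_le hlt.le) fun h => hlt.ne ?_
    exact Subgroup.eq_of_le_of_card_ge hlt.le h.ge
  obtain ⟨k, hk, hk'⟩ := (Nat.dvd_prime_pow hp.out).1 hdv
  have htop : Subgroup.zpowers e ⊔ Subgroup.zpowers f = ⊤ := by
    rw [hce, hk'] at hlt'
    have h2 : k = 2 := by
      interval_cases k
      · rw [pow_zero] at hlt'
        exact absurd hlt' (not_lt.2 hp.out.one_lt.le)
      · exact absurd hlt' (by simp)
      · rfl
    apply Subgroup.eq_top_of_card_eq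
    rw [hk', hcard, h2]
  have hx : x ∈ Subgroup.zpowers e ⊔ Subgroup.zpowers f := by rw [htop]; trivial
  haveI : (Subgroup.zpowers e).Normal := ⟨fun a ha b => by
    rw [hc b a, mul_assoc, mul_inv_cancel, mul_one]; exact ha⟩
  rw [Subgroup.mem_sup_of_normal_left] at hx
  obtain ⟨y, hy, z, hz, rfl⟩ := hx
  obtain ⟨i, rfl⟩ := Subgroup.mem_zpowers_iff.1 hy
  obtain ⟨j, rfl⟩ := Subgroup.mem_zpowers_iff.1 hz
  exact ⟨i, j, rfl⟩

theorem zpow_mem_iff (he1 : ∀ x : V, x ^ p = 1) {e f : V} (hf : f ∉ Subgroup.zpowers e) {j : ℤ}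
    (hj : f ^ j ∈ Subgroup.zpowers e) : (p : ℤ) ∣ j := by
  by_contra h
  have hcop : IsCoprime j (p : ℤ) := ((Nat.prime_iff_prime_int.1 hp.out).coprime_iff_not_dvd.2 h).symm
  obtain ⟨a, b, hab⟩ := hcop
  apply hf
  have h1 : f = (f ^ j) ^ a := by
    rw [← zpow_mul]
    have h2 : j * a = 1 - b * p := by linarith [hab]
    rw [h2, zpow_sub, zpow_one, mul_comm, zpow_mul, zpow_natCast, he1, one_zpow, inv_one, mul_one]
  rw [h1]
  exact Subgroup.zpow_mem _ hj a

theorem unip (hc : ∀ x y : V, x * y = y * x) (he1 : ∀ x : V, x ^ p = 1) (hcard : Nat.card V = p ^ 2) {e f : V}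
    (he : e ≠ 1) (hf : f ∉ Subgroup.zpowers e) {γ : MulAut V} (hγe : γ e ∈ Subgroup.zpowers e) {k : ℕ}
    (hγ : γ ^ (p ^ k) = 1) : ∃ b : ℤ, γ f = e ^ b * f := by
  obtain ⟨b, a, hba⟩ := coord hc he1 hcard he hf (γ f)
  have hz : ∀ z ∈ Subgroup.zpowers e, γ z ∈ Subgroup.zpowers e := by
    intro z hz
    obtain ⟨i, rfl⟩ := Subgroup.mem_zpowers_iff.1 hz
    rw [map_zpow]; exact Subgroup.zpow_mem _ hγe i
  have hpow : ∀ n : ℕ, ∃ z ∈ Subgroup.zpowers e, (γ ^ n) f = z * f ^ (a ^ n) := by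
    intro n
    induction n with
    | zero => exact ⟨1, one_mem _, by simp⟩
    | succ n ih =>
      obtain ⟨z, hzz, hn⟩ := ih
      refine ⟨γ z * e ^ (b * a ^ n), mul_mem (hz z hzz) (Subgroup.zpow_mem _ (Subgroup.mem_zpowers e) _), ?_⟩
      rw [pow_succ', MulAut.mul_apply, hn, map_mul, map_zpow, hba,
        (show Commute (e ^ b) (f ^ a) from hc _ _).mul_zpow, ← zpow_mul, ← zpow_mul, ← mul_assoc, pow_succ, mul_comm (a ^ n) a]
  obtain ⟨z, hzz, h1⟩ := hpow (p ^ k)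
  rw [hγ, MulAut.one_apply] at h1
  have h2 : f ^ (a ^ (p ^ k) - 1) ∈ Subgroup.zpowers e := by
    have h3 : f ^ (a ^ (p ^ k) - 1) = z⁻¹ := by
      rw [zpow_sub, zpow_one]
      have : f ^ (a ^ (p ^ k)) = z⁻¹ * f := by rw [eq_inv_mul_iff_mul_eq]; exact h1.symm
      rw [this, mul_inv_cancel_right]
    rw [h3]; exact inv_mem hzz
  have h3 := zpow_mem_iff he1 hf h2
  have h4 : (p : ℤ) ∣ a - 1 := by
    rw [← ZMod.intCast_zmod_eq_zero_iff_dvd] at h3 ⊢
    push_cast at h3 ⊢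
    rwa [ZMod.pow_card_pow] at h3
  obtain ⟨c, hc'⟩ := h4
  refine ⟨b, ?_⟩
  rw [hba]
  congr 1
  have : a = 1 + p * c := by linarith
  rw [this, zpow_add, zpow_one, zpow_mul, zpow_natCast, he1, one_zpow, mul_one]

/-- powers of a transvection -/
theorem unip_pow (hc : ∀ x y : V, x * y = y * x) (he1 : ∀ x : V, x ^ p = 1) (hcard : Nat.card V = p ^ 2) {e f : V}
    (he : e ≠ 1) {γ : MulAut V} (hγe : γ e = e) {k : ℕ} (hγ : γ ^ (p ^ k) = 1)
    (hf : γ f ≠ f) (t : ℤ) : ∃ n : ℕ, (γ ^ n) e = e ∧ (γ ^ n) f = e ^ t * f := by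
  have hfe : f ∉ Subgroup.zpowers e := by
    rintro ⟨i, rfl⟩
    exact hf (by show γ (e ^ i) = e ^ i; rw [map_zpow, hγe])
  obtain ⟨b, hb⟩ := unip hc he1 hcard he hfe (by rw [hγe]; exact Subgroup.mem_zpowers e) hγ
  have hbp : ¬ (p : ℤ) ∣ b := by
    rintro ⟨c, rfl⟩
    rw [zpow_mul, zpow_natCast, he1, one_zpow, one_mul] at hb
    exact hf hb
  have hpn : ∀ n : ℕ, (γ ^ n) e = e ∧ (γ ^ n) f = e ^ (n * b : ℤ) * f := by
    intro n
    induction n with
    | zero => simp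
    | succ n ih =>
      refine ⟨by rw [pow_succ', MulAut.mul_apply, ih.1, hγe], ?_⟩
      rw [pow_succ', MulAut.mul_apply, ih.2, map_mul, map_zpow, hγe, hb, ← mul_assoc, ← zpow_add]
      congr 2
      push_cast; ring
  have hcop : IsCoprime b (p : ℤ) := ((Nat.prime_iff_prime_int.1 hp.out).coprime_iff_not_dvd.2 hbp).symm
  obtain ⟨c, d, hcd⟩ := hcop
  -- n ≡ t c mod p
  have hp0 : (p : ℤ) ≠ 0 := by exact_mod_cast hp.out.ne_zero
  obtain ⟨n, hn⟩ : ∃ n : ℕ, (n : ℤ) = (t * c) % p := ⟨((t * c) % p).toNat, Int.toNat_of_nonneg (Int.emod_nonneg _ hp0)⟩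
  refine ⟨n, (hpn n).1, ?_⟩
  rw [(hpn n).2, hn]
  congr 1
  have h1 : (t * c) % p * b = t + p * (-(t * d) - (t * c) / p * b) := by
    have h2 := Int.emod_add_mul_ediv (t * c) p
    have h3 : (t * c) % p = t * c - p * ((t * c) / p) := by linarith
    rw [h3]
    linear_combination t * hcd
  rw [h1, zpow_add, zpow_mul, zpow_natCast, he1, one_zpow, mul_one]

/-- `−1` from a transvection and an automorphism moving its axis -/
theorem exists_neg (hc : ∀ x y : V, x * y = y * x) (he1 : ∀ x : V, x ^ p = 1) (hcard : Nat.card V = p ^ 2)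
    {A : Subgroup (MulAut V)} {γ α : MulAut V} (hγA : γ ∈ A) (hαA : α ∈ A) {k : ℕ} (hγ : γ ^ (p ^ k) = 1) {e : V}
    (he : γ e = e) (hαe : γ (α e) ≠ α e) : ∃ τ ∈ A, ∀ x, τ x = x⁻¹ := by
  have he' : e ≠ 1 := by
    rintro rfl
    exact hαe (by rw [map_one, map_one])
  set f := α e with hf
  have hf' : f ≠ 1 := by
    intro h; exact hαe (by rw [h, map_one])
  have hfe : f ∉ Subgroup.zpowers e := by
    rintro ⟨i, hi⟩
    have hi' : e ^ i = f := hi
    exact hαe (by rw [← hi', map_zpow, he])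
  obtain ⟨n, hn1, hn2⟩ := unip_pow hc he1 hcard he' he hγ hαe 1
  -- the conjugate
  set γ' : MulAut V := α * γ * α⁻¹ with hγ'
  have hγ'A : γ' ∈ A := mul_mem (mul_mem hαA hγA) (inv_mem hαA)
  have hγ'f : γ' f = f := by
    rw [hγ', MulAut.mul_apply, MulAut.mul_apply, hf, MulAut.inv_apply_self, he]
  have hγ'e : γ' e ≠ e := by
    intro h
    have h1 : γ' = 1 := by
      ext x
      obtain ⟨i, j, rfl⟩ := coord hc he1 hcard he' hfe x
      rw [map_mul, map_zpow, map_zpow, h, hγ'f]; rfl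
    have h2 : γ = 1 := by
      rw [hγ'] at h1
      have : α * γ * α⁻¹ = α * 1 * α⁻¹ := by rw [h1]; group
      exact mul_left_cancel (mul_right_cancel this)
    exact hαe (by rw [h2]; rfl)
  have hγ'p : γ' ^ (p ^ k) = 1 := by
    rw [hγ', conj_pow, hγ]; group
  obtain ⟨m, hm1, hm2⟩ := unip_pow hc he1 hcard hf' hγ'f hγ'p hγ'e (-1)
  set u := γ ^ n with hu
  set v := γ' ^ m with hv
  have hwe : (u * v * u) e = f⁻¹ := by
    rw [MulAut.mul_apply, MulAut.mul_apply, hn1, hm2, map_mul, map_zpow, hn1, hn2, zpow_one, zpow_neg, zpow_one, mul_inv_rev,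
      inv_mul_cancel_right]
  have hwf : (u * v * u) f = e := by
    rw [MulAut.mul_apply, MulAut.mul_apply, hn2, map_mul, map_zpow, hm2, hm1, zpow_one, zpow_neg, zpow_one, hc f⁻¹ e,
      inv_mul_cancel_right, hn1]
  refine ⟨(u * v * u) * (u * v * u), mul_mem ?_ ?_, fun x => ?_⟩
  · exact mul_mem (mul_mem (pow_mem hγA _) (pow_mem hγ'A _)) (pow_mem hγA _)
  · exact mul_mem (mul_mem (pow_mem hγA _) (pow_mem hγ'A _)) (pow_mem hγA _)
  · obtain ⟨i, j, rfl⟩ := coord hc he1 hcard he' hfe x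
    rw [MulAut.mul_apply, map_mul, map_mul, map_zpow, map_zpow, map_zpow, map_zpow, hwe, hwf, map_inv, hwf, hwe]
    rw [mul_inv_rev, hc, inv_zpow, inv_zpow]

end Cfsg.Agent.H27.Neg
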