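import Cfsg.Agent.H27_Om2
import Cfsg.Agent.H27_Neg
import Cfsg.Agent.S0638
import Cfsg.Agent.H27_GT3

set_option autoImplicit false
open Cfsg Cfsg.FusionSystem

namespace Cfsg.Agent.H27.Fus

variable {Ω : Type*} [Group Ω] {S P Q R V : Subgroup Ω} {F : FusionSystem S} {p : ℕ} [Fact p.Prime] [Finite S]

/-- inversion of `Ω₁(P)` in `F` forces `P` abelian -/
theorem comm_of_neg (hp2 : p ≠ 2) (hS : IsPGroup p S) (hF : F.IsSaturated p) (hP : F.StronglyClosed P)
    (hV : ∀ x, x ∈ V ↔ x ∈ P ∧ x ^ p = 1) (hVs : F.StronglyClosed V) {τ : MulAut V} (hτ : τ ∈ F.autGroup V)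
    (hi : ∀ x, τ x = x⁻¹) : IsMulCommutative P := by
  have hVS := hVs.1
  have hPS := hP.1
  have hp := (Fact.out : p.Prime)
  have hn : normalizerIn S V = S := le_antisymm nrm_le (StronglyClosed.le_normalizer hVs)
  have hfn : F.IsFullyNormalized V := by
    refine ⟨hVS, fun Q hQ => ?_⟩
    rw [hn]
    exact Subgroup.card_le_of_le nrm_le
  have hrec := fn_receptive hS hF hfn
  have hiso := (mem_autGroup_iff hVS).1 hτ
  obtain ⟨g, hg, hgx⟩ := receptive_ext hrec hiso
  have hext : S ≤ ext S V (totA τ) := by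
    intro s hs
    have hsn : s ∈ normalizerIn S V := by rw [hn]; exact hs
    refine mem_ext.2 ⟨hs, hsn.2, s, hs, fun x hx => ?_⟩
    have hcx := nrm_conj_mem hsn hx
    rw [totA_of_mem _ hx, totA_of_mem _ hcx, hi, hi]
    simp [mul_assoc]
  have hgS : Map F S g := hg.mono hext
  haveI : Finite S := inferInstance
  have hgi : Iso F S S g := iso_of_card_le hgS (fun x hx => hgS.mem hx) le_rfl
  set α := hgi.aut with hα
  have hαF : α ∈ F.autGroup S := hgi.aut_mem
  have hαV : ∀ x : S, (x : Ω) ∈ V → α x = x⁻¹ := by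
    intro x hx
    apply Subtype.ext
    rw [hα, Iso.aut_apply, hgx x hx, totA_of_mem _ hx, hi]; rfl
  have hinvP : AutInv F S P := autInv_of_strong le_rfl hP
  have hinvV : AutInv F S V := autInv_of_strong le_rfl hVs
  have h2 : ∀ x : S, (x : Ω) ∈ V → (α ^ 2) x = x := by
    intro x hx
    rw [pow_two, MulAut.mul_apply, hαV x hx, map_inv, hαV x hx, inv_inv]
  obtain ⟨l, hl⟩ := aut_omega (K := P) hp2 hS (α := α ^ 2) (fun x hx => hinvP _ (pow_mem hαF 2) x hx)
    (fun x hx hxp => h2 x ((hV x).2 ⟨hx, congrArg Subtype.val hxp⟩))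
  set β := α ^ (p ^ l) with hβ
  have hβF : β ∈ F.autGroup S := pow_mem hαF _
  have hβ2 : ∀ x : S, (x : Ω) ∈ P → β (β x) = x := by
    intro x hx
    have := hl x hx
    rw [← pow_mul, mul_comm, pow_mul, pow_two] at this
    exact this
  have hodd : Odd (p ^ l) := (hp.odd_of_ne_two hp2).pow
  have hβV : ∀ x : S, (x : Ω) ∈ V → β x = x⁻¹ := by
    intro x hx
    obtain ⟨c, hc⟩ := hodd
    have key : ∀ j : ℕ, ((α ^ 2) ^ j) x = x := by
      intro j
      induction j with
      | zero => rfl
      | succ j ih => rw [pow_succ, MulAut.mul_apply, h2 x hx, ih]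
    rw [hβ, hc, pow_add, pow_one, pow_mul, MulAut.mul_apply, hαV x hx, map_inv, key]
  -- no fixed points
  have hfix : ∀ x : S, (x : Ω) ∈ P → β x = x → x = 1 := by
    intro x hx hβx
    by_contra hx1
    obtain ⟨e, he⟩ := (IsPGroup.iff_orderOf.mp hS) x
    have he0 : e ≠ 0 := by
      rintro rfl
      rw [pow_zero, orderOf_eq_one_iff] at he
      exact hx1 he
    obtain ⟨e', rfl⟩ := Nat.exists_eq_succ_of_ne_zero he0
    set y := x ^ (p ^ e') with hy
    have hyp : y ^ p = 1 := by
      rw [hy, ← pow_mul, ← pow_succ, ← he, pow_orderOf_eq_one]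
    have hy1 : y ≠ 1 := by
      intro h
      have := orderOf_dvd_of_pow_eq_one (hy ▸ h)
      rw [he] at this
      have h3 := Nat.le_of_dvd (pow_pos hp.pos _) this
      exact absurd h3 (not_le.2 (Nat.pow_lt_pow_right hp.one_lt (Nat.lt_succ_self _)))
    have hyV : (y : Ω) ∈ V := (hV y).2 ⟨by rw [hy]; exact P.pow_mem hx _, congrArg Subtype.val hyp⟩
    have h3 : β y = y := by rw [hy, map_pow, hβx]
    rw [hβV y hyV] at h3
    have h4 : y * y = 1 := by
      nth_rewrite 1 [← h3]
      exact inv_mul_cancel _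
    obtain ⟨c, hc⟩ := hp.odd_of_ne_two hp2
    apply hy1
    rw [hc, pow_add, pow_mul, pow_two, h4, one_pow, one_mul, pow_one] at hyp
    exact hyp
  -- restrict to `P`
  have hβP : ∀ x : P, ((β ⟨x, hPS x.2⟩ : S) : Ω) ∈ P := fun x => hinvP β hβF ⟨x, hPS x.2⟩ x.2
  let φ : P →* P :=
    { toFun := fun x => ⟨β ⟨x, hPS x.2⟩, hβP x⟩
      map_one' := Subtype.ext (by
        show ((β ⟨((1 : P) : Ω), _⟩ : S) : Ω) = 1
        have : (⟨((1 : P) : Ω), hPS (1 : P).2⟩ : S) = 1 := rfl
        rw [this, map_one]; rfl)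
      map_mul' := fun x y => Subtype.ext (by
        show ((β ⟨((x * y : P) : Ω), _⟩ : S) : Ω) = (β ⟨x, hPS x.2⟩ : S) * (β ⟨y, hPS y.2⟩ : S)
        have : (⟨((x * y : P) : Ω), hPS (x * y).2⟩ : S) = ⟨x, hPS x.2⟩ * ⟨y, hPS y.2⟩ := rfl
        rw [this, map_mul]; rfl) }
  have hφ : ∀ x : P, ((φ x : P) : Ω) = β ⟨x, hPS x.2⟩ := fun x => rfl
  haveI : Finite P := Finite.of_injective _ (Subgroup.inclusion_injective hPS)
  have hff : MonoidHom.FixedPointFree φ := by
    intro x hx
    have h3 := hfix ⟨x, hPS x.2⟩ x.2 (Subtype.ext (by rw [← hφ, hx]))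
    have h4 : (x : Ω) = 1 := congrArg (fun z : S => (z : Ω)) h3
    exact Subtype.ext h4
  have hinv : Function.Involutive φ := by
    intro x
    apply Subtype.ext
    rw [hφ]
    have : (⟨(φ x : Ω), hPS (φ x).2⟩ : S) = β ⟨x, hPS x.2⟩ := Subtype.ext (hφ x)
    rw [this, hβ2 _ x.2]
  exact ⟨⟨fun x y => hff.commute_all_of_involutive hinv x y⟩⟩

theorem omega_normal (hp2 : p ≠ 2) (hS : IsPGroup p S) (hF : F.IsSaturated p) (hP : F.StronglyClosed P)
    (hV : ∀ x, x ∈ V ↔ x ∈ P ∧ x ^ p = 1) (hVc : IsMulCommutative V) (hcard : Nat.card V = p ^ 2) : F.IsNormal P := by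
  have hPS := hP.1
  have hp := (Fact.out : p.Prime)
  have hVP : V ≤ P := fun x hx => ((hV x).1 hx).1
  have hVS := hVP.trans hPS
  have hVs : F.StronglyClosed V := by
    rw [stronglyClosed_iff]
    refine ⟨hVS, fun Q f hf x hx hxV => (hV _).2 ⟨(stronglyClosed_iff.1 hP).2 Q f hf x hx (hVP hxV), ?_⟩⟩
    rw [← hf.pow hx, ((hV x).1 hxV).2, hf.one]
  have hVn := abelian_normal hS hF hVs hVc
  haveI hfV : Finite V := Finite.of_injective _ (Subgroup.inclusion_injective hVS)
  haveI hfP : Finite P := Finite.of_injective _ (Subgroup.inclusion_injective hPS)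
  have hc : ∀ x y : V, x * y = y * x := fun x y => hVc.1.comm x y
  have he1 : ∀ x : V, x ^ p = 1 := fun x => Subtype.ext ((hV x).1 x.2).2
  have hPN : ∀ x ∈ P, x ∈ Subgroup.normalizer (V : Set Ω) := fun x hx => (StronglyClosed.le_normalizer hVs (hPS hx)).2
  have hpow : ∀ x (hx : x ∈ P), ∃ k, (cjA V x (hPN x hx)) ^ (p ^ k) = 1 := by
    intro x hx
    have h1 := isPGroup_autInducedBy (P := V) hS ⟨_, cjA_mem (hPN x hx) (hPS hx)⟩
    obtain ⟨k, hk⟩ := h1
    exact ⟨k, congrArg Subtype.val hk⟩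
  by_cases hcase : ∃ x, ∃ hx : x ∈ P, ∃ α ∈ F.autGroup V, ∃ e : V, cjA V x (hPN x hx) e = e ∧
      cjA V x (hPN x hx) (α e) ≠ α e
  · obtain ⟨x, hx, α, hα, e, he, hαe⟩ := hcase
    obtain ⟨k, hk⟩ := hpow x hx
    obtain ⟨τ, hτ, hi⟩ := Neg.exists_neg hc he1 hcard (A := F.autGroup V)
      (autInducedBy_le_autGroup F hVS (cjA_mem (hPN x hx) (hPS hx))) hα hk he hαe
    exact abelian_normal hS hF hP (comm_of_neg hp2 hS hF hP hV hVs hτ hi)
  · push_neg at hcase
    let Z : Subgroup Ω := V ⊓ Subgroup.centralizer (P : Set Ω)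
    have hZmem : ∀ z, z ∈ Z ↔ z ∈ V ∧ ∀ x ∈ P, x * z = z * x := fun z =>
      Iff.trans Subgroup.mem_inf (and_congr_right fun _ => Subgroup.mem_centralizer_iff)
    have hZa : ∀ α ∈ F.autGroup V, ∀ z : V, (z : Ω) ∈ Z → (α z : Ω) ∈ Z := by
      intro α hα z hz
      refine (hZmem _).2 ⟨(α z).2, fun x hx => ?_⟩
      have h1 : cjA V x (hPN x hx) z = z := Subtype.ext (by
        rw [cjA_apply, ((hZmem _).1 hz).2 x hx, mul_inv_cancel_right])
      have h2 := congrArg Subtype.val (hcase x hx α hα z h1)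
      rw [cjA_apply] at h2
      rwa [mul_inv_eq_iff_eq_mul] at h2
    have hZs : F.StronglyClosed Z := by
      rw [stronglyClosed_iff]
      refine ⟨inf_le_left.trans hVS, fun Q f hf x hx hxZ => ?_⟩
      obtain ⟨g, hg, h1, h2⟩ := (isNormal_iff.1 hVn).2 Q f hf
      have hgi := (hg.mono le_sup_right).iso_of_im_eq h2
      have h3 := hZa hgi.aut hgi.aut_mem ⟨x, hxZ.1⟩ hxZ
      rw [Iso.aut_apply] at h3
      rw [← h1 x hx]; exact h3
    by_cases hVZ : V ≤ Z
    · refine normal_of_omega hp2 hS hF hP 1 (fun i => if i = 0 then ⊥ else V) ?_ ?_ ?_ ?_ ?_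
      · intro i
        by_cases hi : i = 0 <;> simp [hi]
      · simp
      · intro i
        by_cases hi : i = 0
        · simp only [hi, if_true]; exact strongly_bot F
        · simp only [hi, if_false]; exact hVs
      · intro i x hx y hy
        have hyV : y ∈ V := by simpa using hy
        have : y⁻¹ * (x * y * x⁻¹) = 1 := by
          rw [((hZmem _).1 (hVZ hyV)).2 x hx, mul_inv_cancel_right, inv_mul_cancel]
        rw [this]; exact one_mem _
      · intro x hx hxp
        simp only [one_ne_zero, if_false]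
        exact (hV x).2 ⟨hx, hxp⟩
    · -- `Z` has order `p`
      obtain ⟨e, heZ, he⟩ : ∃ e : V, (e : Ω) ∈ Z ∧ e ≠ 1 := by
        have hVne : V ≠ ⊥ := by
          intro h
          rw [h, Subgroup.card_bot] at hcard
          exact absurd hcard.symm (Nat.one_lt_pow two_ne_zero hp.one_lt).ne'
        obtain ⟨z, hz1⟩ := Subgroup.ne_bot_iff_exists_ne_one.1 (StronglyClosed.inf_center_ne hS hVs hVne)
        have hz := Subgroup.mem_inf.1 z.2
        refine ⟨⟨z, hz.1⟩, (hZmem _).2 ⟨hz.1, fun x hx => (cen_comm hz.2 (hPS hx))⟩, fun h => hz1 ?_⟩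
        exact Subtype.ext (congrArg (fun w : V => (w : Ω)) h)
      have hZe : ∀ z : V, (z : Ω) ∈ Z → z ∈ Subgroup.zpowers e := by
        intro z hz
        by_contra hze
        apply hVZ
        intro v hv
        obtain ⟨i, j, hij⟩ := Neg.coord hc he1 hcard he hze ⟨v, hv⟩
        have h1 : v = (e : Ω) ^ i * (z : Ω) ^ j := by
          have := congrArg (fun w : V => (w : Ω)) hij
          simpa using this
        rw [h1]
        exact mul_mem (Subgroup.zpow_mem _ heZ _) (Subgroup.zpow_mem _ hz _)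
      have hcm : ∀ x ∈ P, ∀ y ∈ V, y⁻¹ * (x * y * x⁻¹) ∈ Z := by
        intro x hx y hy
        by_cases hye : (⟨y, hy⟩ : V) ∈ Subgroup.zpowers e
        · obtain ⟨i, hi⟩ := Subgroup.mem_zpowers_iff.1 hye
          have hyZ : y ∈ Z := by
            have h1 : y = (e : Ω) ^ i := by
              have := congrArg (fun w : V => (w : Ω)) hi
              simpa using this.symm
            rw [h1]; exact Subgroup.zpow_mem _ heZ _
          rw [((hZmem _).1 hyZ).2 x hx, mul_inv_cancel_right, inv_mul_cancel]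
          exact one_mem _
        · obtain ⟨k, hk⟩ := hpow x hx
          have hγe : cjA V x (hPN x hx) e = e := Subtype.ext (by
            rw [cjA_apply, ((hZmem _).1 heZ).2 x hx, mul_inv_cancel_right])
          obtain ⟨b, hb⟩ := Neg.unip hc he1 hcard he hye (by rw [hγe]; exact Subgroup.mem_zpowers e) hk
          have h1 : x * y * x⁻¹ = (e : Ω) ^ b * y := by
            have := congrArg (fun w : V => (w : Ω)) hb
            simpa using this
          have h2 : (e : Ω) ^ b * y = y * (e : Ω) ^ b := by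
            have := congrArg (fun w : V => (w : Ω)) (hc (e ^ b) ⟨y, hy⟩)
            simpa using this
          rw [h1, h2, inv_mul_cancel_left]
          exact Subgroup.zpow_mem _ heZ _
      refine normal_of_omega hp2 hS hF hP 2 (fun i => if i = 0 then ⊥ else if i = 1 then Z else V) ?_ ?_ ?_ ?_ ?_
      · intro i
        by_cases hi : i = 0
        · simp [hi]
        · by_cases hi1 : i = 1
          · simp only [hi1, if_true, one_ne_zero, if_false]
            exact inf_le_left
          · simp [hi, hi1]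
      · simp
      · intro i
        by_cases hi : i = 0
        · simp only [hi, if_true]; exact strongly_bot F
        · by_cases hi1 : i = 1
          · simp only [hi1, one_ne_zero, if_false, if_true]; exact hZs
          · simp only [hi, hi1, if_false]; exact hVs
      · intro i x hx y hy
        by_cases hi : i = 0
        · subst hi
          simp only [zero_add, one_ne_zero, if_false, if_true] at hy ⊢
          rw [((hZmem _).1 hy).2 x hx, mul_inv_cancel_right, inv_mul_cancel]
          exact one_mem _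
        · have hyV : y ∈ V := by simpa [hi] using hy
          have h1 := hcm x hx y hyV
          by_cases hi1 : i = 1
          · simp only [hi1, one_ne_zero, if_false, if_true]; exact h1
          · simp only [hi, hi1, if_false]; exact h1.1
      · intro x hx hxp
        simp only [OfNat.ofNat_ne_zero, OfNat.ofNat_ne_one, if_false]
        exact (hV x).2 ⟨hx, hxp⟩

end Cfsg.Agent.H27.Fus
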