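import Cfsg.Statements.S5234
import Mathlib
import Cfsg.Agent.H27_MetaN

set_option autoImplicit false
open Cfsg

namespace Cfsg.Agent.S5234

open Cfsg.Agent.H27.Fus

/-- Let p be an odd prime, F a saturated fusion system over a finite p-group S and P a metacyclic subgroup of S strongly closed in F. Then P is normal in F. -/
theorem result {Ω : Type*} [Group Ω] {S : Subgroup Ω} [Finite S] (p : ℕ) [Fact p.Prime] (hS : IsPGroup p S) (F : Cfsg.FusionSystem S) (hF : F.IsSaturated p) (P : Subgroup Ω) (hP : F.StronglyClosed P) (hp : p ≠ 2) (hm : Cfsg.IsMetacyclic ↥P) : F.IsNormal P := by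
    have hPS := hP.1
    haveI hfP : Finite P := Finite.of_injective _ (Subgroup.inclusion_injective hPS)
    by_cases hcyc : IsCyclic ↥P
    · exact abelian_normal hS hF hP ⟨⟨fun x y => by
        obtain ⟨g, hg⟩ := hcyc.exists_generator
        obtain ⟨i, hi⟩ := Subgroup.mem_zpowers_iff.1 (hg x)
        obtain ⟨j, hj⟩ := Subgroup.mem_zpowers_iff.1 (hg y)
        rw [← hi, ← hj, ← zpow_add, ← zpow_add, add_comm]⟩⟩
    · have hPp : IsPGroup p P := hS.to_le hPS
      obtain ⟨hE, hc⟩ := Cfsg.Agent.S0638.result hp hPp hm hcyc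
      have hmem : ∀ x : P, x ∈ Cfsg.omegaOne p (⊤ : Subgroup P) ↔ x ^ p = 1 :=
        fun x => ⟨fun hx => hE.2 x hx, fun hx => Subgroup.subset_closure ⟨trivial, hx⟩⟩
      refine omega_normal hp hS hF hP (V := (Cfsg.omegaOne p (⊤ : Subgroup P)).map P.subtype) ?_ ?_ ?_
      · intro x
        constructor
        · rintro ⟨y, hy, rfl⟩
          exact ⟨y.2, congrArg Subtype.val ((hmem y).1 hy)⟩
        · rintro ⟨hx, hxp⟩
          exact ⟨⟨x, hx⟩, (hmem _).2 (Subtype.ext hxp), rfl⟩
      · refine ⟨⟨?_⟩⟩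
        rintro ⟨_, x, hx, rfl⟩ ⟨_, y, hy, rfl⟩
        apply Subtype.ext
        have := hE.1.1.comm ⟨x, hx⟩ ⟨y, hy⟩
        have h1 := congrArg (fun z : Cfsg.omegaOne p (⊤ : Subgroup P) => ((z : P) : Ω)) this
        exact h1
      · rw [← hc]
        exact Subgroup.card_map_of_injective (Subgroup.subtype_injective P)

end Cfsg.Agent.S5234
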