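import Mathlib
import Cfsg.Agent.H1_SupF
import Cfsg.Agent.H2_MetaAct
import Cfsg.Agent.H24_FratAut
import Cfsg.Agent.H1_MtB
import Cfsg.Agent.S5234

set_option autoImplicit false
set_option linter.all false

/-! metacyclic `p`-groups of supersoluble type: the sufficiency. -/

namespace Cfsg.Agent.H1.Sup

open Cfsg Cfsg.FusionSystem Cfsg.Agent.H27.Fus Cfsg.Agent.H27.Grp Cfsg.Agent.H1.FusA Cfsg.Agent.H1.Sm Cfsg.Agent.H24.FratAut

open scoped commutatorElement

universe u

section mtx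

variable {X : Type u} [Group X] [Finite X] {p : ℕ} [hp : Fact p.Prime]

/-- `p'`-automorphisms trivial on the Frattini quotient -/
theorem frat_inj (hX : IsPGroup p X) (H : Subgroup (MulAut X)) (hH : (Nat.card H).Coprime p) {a : MulAut X} (ha : a ∈ H)
    (h1 : toQuot X a = 1) : a = 1 := by
  obtain ⟨n, hn⟩ := IsPGroup.iff_card.1 hX
  obtain ⟨r, hr⟩ := Cfsg.Agent.H2.Hup.index_pow hX (frattini X)
  have h2 := card_dvd hn hr (Subgroup.zpowers a) (by
    rintro α hα
    apply mem_ker_toQuot.1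
    have h3 : Subgroup.zpowers a ≤ (toQuot X).ker := by
      rw [Subgroup.zpowers_le]; exact h1
    exact h3 hα)
  rw [Nat.card_zpowers] at h2
  haveI : Finite H := inferInstance
  have h3 : orderOf a ∣ Nat.card H := by
    have := orderOf_dvd_natCard (⟨a, ha⟩ : H)
    rwa [Subgroup.orderOf_mk] at this
  exact orderOf_eq_one_iff.1 (Nat.Coprime.eq_one_of_dvd (Nat.Coprime.coprime_dvd_left h3 (Nat.Coprime.pow_right _ hH)) h2)

theorem no3 (hX : IsPGroup p X) (hi : (frattini X).index ≤ p ^ 2) {A B : Subgroup X} (h1 : frattini X < A) (h2 : A < B) (h3 : B < ⊤) : False := by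
  have e1 := Cfsg.Agent.H2.Hup.index_lt h1
  have e2 := Cfsg.Agent.H2.Hup.index_lt h2
  have e3 := Cfsg.Agent.H2.Hup.index_lt h3
  obtain ⟨k1, hk1⟩ := Cfsg.Agent.H2.Hup.index_pow hX (frattini X)
  obtain ⟨k2, hk2⟩ := Cfsg.Agent.H2.Hup.index_pow hX A
  obtain ⟨k3, hk3⟩ := Cfsg.Agent.H2.Hup.index_pow hX B
  rw [hk1, hk2] at e1
  rw [hk2, hk3] at e2
  rw [Subgroup.index_top, hk3] at e3
  rw [hk1] at hi
  have f1 := (Nat.pow_lt_pow_iff_right hp.out.one_lt).1 e1
  have f2 := (Nat.pow_lt_pow_iff_right hp.out.one_lt).1 e2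
  have f3 := (Nat.pow_le_pow_iff_right hp.out.one_lt).1 hi
  have f4 : k3 ≠ 0 := by
    rintro rfl
    rw [pow_zero] at e3
    exact lt_irrefl _ e3
  omega

theorem exists_M (hp2 : p ≠ 2) (hX : IsPGroup p X) (hm : IsMetacyclic X) (hna : ¬ IsMulCommutative X) :
    ∃ (M : Subgroup X) (y z : X), frattini X ≤ M ∧ M.Normal ∧ (∀ a : MulAut X, ∀ x ∈ M, a x ∈ M) ∧
      M = frattini X ⊔ Subgroup.zpowers y ∧ ⊤ = M ⊔ Subgroup.zpowers z := by
  classical
  have hi : (frattini X).index ≤ p ^ 2 :=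
    (Subgroup.index_antitone (Cfsg.Agent.H2.Hup.PC_le_frattini hX)).trans (Cfsg.Agent.H2.Hup.meta_index hm)
  have hDΦ : _root_.commutator X ≤ frattini X := Cfsg.Agent.H2.PGroup.commutator_le_frattini hX
  have hna' : _root_.commutator X ≠ ⊥ := by
    intro h
    apply hna
    refine ⟨⟨fun x y => ?_⟩⟩
    have h1 : ⁅x, y⁆ ∈ _root_.commutator X := by
      rw [_root_.commutator_def]; exact Subgroup.commutator_mem_commutator (Subgroup.mem_top _) (Subgroup.mem_top _)
    rw [h, Subgroup.mem_bot, commutatorElement_eq_one_iff_mul_comm] at h1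
    exact h1
  have hlt : ∀ {A : Subgroup X} {z : X}, z ∉ A → A < A ⊔ Subgroup.zpowers z := by
    intro A z hz
    refine lt_of_le_of_ne le_sup_left fun h => hz ?_
    rw [h]; exact (le_sup_right : Subgroup.zpowers z ≤ _) (Subgroup.mem_zpowers z)
  rcases Cfsg.Agent.H2.MetaAct.key hp2 hX hm hna' Set.univ with ⟨M0, hM0, h0⟩ | ⟨h, hh, h0⟩
  · obtain ⟨M, hM, hle⟩ := (eq_top_or_exists_le_coatom M0).resolve_left hM0
    have hΦM : frattini X ≤ M := frattini_le_coatom hM
    obtain ⟨z, hz⟩ : ∃ z, z ∉ M := by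
      by_contra hcon
      push Not at hcon
      exact hM.1 (eq_top_iff.2 fun x _ => hcon x)
    have hz2 := hM.2 _ (hlt hz)
    have hinv : ∀ a : MulAut X, ∀ x ∈ M, a x ∈ M := by
      intro a x hx
      have e : a x = (a x * x⁻¹) * x := by group
      rw [e]
      exact M.mul_mem (hle (h0 a trivial x)) hx
    by_cases hyM : M ≤ frattini X
    · refine ⟨M, 1, z, hΦM, Cfsg.Agent.H2.Hup.normal_of_comm (hDΦ.trans hΦM), hinv, ?_, hz2.symm⟩
      rw [Subgroup.zpowers_one_eq_bot, sup_bot_eq]; exact le_antisymm hyM hΦM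
    · obtain ⟨y, hyM, hyΦ⟩ := Set.not_subset.1 hyM
      refine ⟨M, y, z, hΦM, Cfsg.Agent.H2.Hup.normal_of_comm (hDΦ.trans hΦM), hinv, ?_, hz2.symm⟩
      by_contra hne
      have hle2 : frattini X ⊔ Subgroup.zpowers y ≤ M := sup_le hΦM (Subgroup.zpowers_le.2 hyM)
      exact no3 hX hi (hlt hyΦ) (lt_of_le_of_ne hle2 (Ne.symm hne)) (lt_top_iff_ne_top.2 hM.1)
  · have hinv : ∀ a : MulAut X, ∀ x ∈ frattini X ⊔ Subgroup.zpowers h, a x ∈ frattini X ⊔ Subgroup.zpowers h := by
      intro a x hx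
      have hle : frattini X ⊔ Subgroup.zpowers h ≤ (frattini X ⊔ Subgroup.zpowers h).comap a.toMonoidHom := by
        refine sup_le ?_ ?_
        · intro w hw
          have h2 : (frattini X).comap a.toMonoidHom = frattini X := frattini_characteristic.fixed a
          have h3 : w ∈ (frattini X).comap a.toMonoidHom := by rw [h2]; exact hw
          exact Subgroup.mem_sup_left h3
        · rw [Subgroup.zpowers_le]
          change a h ∈ frattini X ⊔ Subgroup.zpowers h
          have e : a h = (a h * h⁻¹) * h := by group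
          rw [e]
          exact Subgroup.mul_mem _ (Subgroup.mem_sup_left (h0 a trivial)) (Subgroup.mem_sup_right (Subgroup.mem_zpowers h))
      exact hle hx
    by_cases ht : frattini X ⊔ Subgroup.zpowers h = ⊤
    · refine ⟨_, h, 1, le_sup_left, Cfsg.Agent.H2.Hup.normal_of_comm (hDΦ.trans le_sup_left), hinv, rfl, ?_⟩
      rw [ht, top_sup_eq]
    · obtain ⟨z, hz⟩ : ∃ z, z ∉ frattini X ⊔ Subgroup.zpowers h := by
        by_contra hcon
        push Not at hcon
        exact ht (eq_top_iff.2 fun x _ => hcon x)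
      refine ⟨_, h, z, le_sup_left, Cfsg.Agent.H2.Hup.normal_of_comm (hDΦ.trans le_sup_left), hinv, rfl, ?_⟩
      by_contra hne
      exact no3 hX hi (hlt hh) (hlt hz) (lt_top_iff_ne_top.2 (Ne.symm hne))

theorem meta_coprime (hp2 : p ≠ 2) (hX : IsPGroup p X) (hm : IsMetacyclic X) (hna : ¬ IsMulCommutative X)
    (H : Subgroup (MulAut X)) (hH : (Nat.card H).Coprime p) : IsMulCommutative H ∧ ∀ a ∈ H, a ^ (p - 1) = 1 := by
  classical
  obtain ⟨M, y, z, hΦM, hMn, hMi, hM1, hM2⟩ := exists_M hp2 hX hm hna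
  haveI := hMn
  have hC : CC (H.map (toQuot X)) 2 (fun i => if i = 0 then ⊥ else if i = 1 then M.map (QuotientGroup.mk' (frattini X)) else ⊤)
      (fun i => if i = 0 then QuotientGroup.mk y else QuotientGroup.mk z) := by
    refine ⟨by simp, by simp, ?_, ?_, ?_⟩
    · intro i
      split_ifs
      · infer_instance
      · exact hMn.map _ (QuotientGroup.mk'_surjective _)
      · infer_instance
    · rintro _ ⟨a, ha, rfl⟩ i x hx
      split_ifs at hx ⊢
      · rw [Subgroup.mem_bot] at hx ⊢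
        rw [hx, map_one]
      · obtain ⟨w, hw, rfl⟩ := hx
        exact ⟨a w, hMi a w hw, rfl⟩
      · trivial
    · intro i hi
      have hi' : i = 0 ∨ i = 1 := by omega
      rcases hi' with rfl | rfl
      · show M.map (QuotientGroup.mk' (frattini X)) = ⊥ ⊔ Subgroup.zpowers (QuotientGroup.mk y)
        have e1 : M.map (QuotientGroup.mk' (frattini X)) = (frattini X ⊔ Subgroup.zpowers y).map (QuotientGroup.mk' (frattini X)) := by rw [← hM1]
        rw [e1, Subgroup.map_sup, MonoidHom.map_zpowers]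
        congr 1
        rw [Subgroup.map_eq_bot_iff, QuotientGroup.ker_mk']
      · show ⊤ = M.map (QuotientGroup.mk' (frattini X)) ⊔ Subgroup.zpowers (QuotientGroup.mk z)
        have e1 : (⊤ : Subgroup (X ⧸ frattini X)) = (⊤ : Subgroup X).map (QuotientGroup.mk' (frattini X)) := by
          rw [← MonoidHom.range_eq_map, MonoidHom.range_eq_top.2 (QuotientGroup.mk'_surjective _)]
        rw [e1, hM2, Subgroup.map_sup, MonoidHom.map_zpowers]
        rfl
  obtain ⟨h1, h2⟩ := coprime_case (hX.to_quotient _) hC (Nat.Coprime.coprime_dvd_left (Subgroup.card_map_dvd H (toQuot X)) hH)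
  refine ⟨⟨⟨fun a b => ?_⟩⟩, fun a ha => ?_⟩
  · have h3 : toQuot X a * toQuot X b = toQuot X b * toQuot X a :=
      congrArg Subtype.val (h1.is_comm.comm ⟨toQuot X a, ⟨a, a.2, rfl⟩⟩ ⟨toQuot X b, ⟨b, b.2, rfl⟩⟩)
    apply Subtype.ext
    show (a : MulAut X) * b = b * a
    rw [← mul_inv_eq_one]
    apply frat_inj hX H hH (H.mul_mem (H.mul_mem a.2 b.2) (H.inv_mem (H.mul_mem b.2 a.2)))
    rw [map_mul, map_inv, map_mul, map_mul, h3, mul_inv_cancel]
  · apply frat_inj hX H hH (H.pow_mem ha _)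
    rw [map_pow]
    exact h2 _ ⟨a, ha, rfl⟩

end mtx

section fus

variable {Ω : Type u} [Group Ω] {S : Subgroup Ω} [Finite S]

theorem odd_case {p : ℕ} [hp : Fact p.Prime] (hp2 : p ≠ 2) (hS : IsPGroup p S) (hm : IsMetacyclic S) (hna : ¬ IsMulCommutative S)
    {F : FusionSystem S} (hF : F.IsSaturated p) : SS F :=
  ss_of hS hF (Cfsg.Agent.S5234.result p hS F hF S (strongly_top F) hp2 hm) (meta_coprime hp2 hS hm hna)

theorem two_case (hS : IsPGroup 2 S) (hm : IsMetacyclic S) (hna : ¬ IsMulCommutative S)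
    (hh : ¬ ∃ n : ℕ, Nonempty (S ≃* Multiplicative (ZMod (2 ^ n)) × Multiplicative (ZMod (2 ^ n))))
    (hd : ¬ ∃ m : ℕ, 2 ≤ m ∧ Nonempty (↥S ≃* DihedralGroup m)) (hq : ¬ ∃ m : ℕ, 2 ≤ m ∧ Nonempty (↥S ≃* QuaternionGroup m))
    (hsd : ¬ Cfsg.IsQuasiDihedral ↥S) {F : FusionSystem S} (hF : F.IsSaturated 2) : SS F := by
  classical
  haveI : Fact (Nat.Prime 2) := ⟨Nat.prime_two⟩
  have hd' : ¬ ∃ m : ℕ, Nonempty (↥S ≃* DihedralGroup m) := by
    rintro ⟨m, ⟨e⟩⟩
    by_cases h2 : 2 ≤ m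
    · exact hd ⟨m, h2, ⟨e⟩⟩
    · have h3 : m = 0 ∨ m = 1 := by omega
      rcases h3 with rfl | rfl
      · haveI : Finite (DihedralGroup 0) := Finite.of_equiv _ e.toEquiv
        exact not_finite (DihedralGroup 0)
      · apply hna
        refine ⟨⟨fun a b => e.injective ?_⟩⟩
        rw [map_mul, map_mul]
        have : ∀ a b : DihedralGroup 1, a * b = b * a := by decide
        exact this _ _
  have hq' : ¬ ∃ m : ℕ, Nonempty (↥S ≃* QuaternionGroup m) := by
    rintro ⟨m, ⟨e⟩⟩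
    by_cases h2 : 2 ≤ m
    · exact hq ⟨m, h2, ⟨e⟩⟩
    · have h3 : m = 0 ∨ m = 1 := by omega
      rcases h3 with rfl | rfl
      · haveI : Finite (DihedralGroup 0) := Finite.of_equiv _ (e.trans QuaternionGroup.quaternionGroupZeroEquivDihedralGroupZero).toEquiv
        exact not_finite (DihedralGroup 0)
      · apply hna
        refine ⟨⟨fun a b => e.injective ?_⟩⟩
        rw [map_mul, map_mul]
        have : ∀ a b : QuaternionGroup 1, a * b = b * a := by decide
        exact this _ _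
  have hin := Cfsg.Agent.H1.Mt.s5212 hS hF hm hh hd' hq' hsd
  obtain ⟨m, B, y, h0, h1, h2, h3⟩ := exists_chain (X := S) hS (C := ⊥) (by
    rintro a ha b hb
    rw [Subgroup.mem_bot] at ha hb
    rw [ha, hb]) (by
    rintro a ha
    rw [Subgroup.mem_bot] at ha
    rw [ha, one_pow])
  refine ss_of_nat (m := m) (c := fun i => (B i).map S.subtype) (x := fun i => (y i : Ω)) ?_ ?_ ?_ ?_
  · show (B 0).map S.subtype = ⊥
    rw [h0, Subgroup.map_bot]
  · show (B m).map S.subtype = S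
    rw [h1, ← MonoidHom.range_eq_map, Subgroup.range_subtype]
  · intro i
    rw [stronglyClosed_iff]
    refine ⟨Subgroup.map_subtype_le _, fun P f hf x hx hxB => ?_⟩
    obtain ⟨φ, hφ, hφf⟩ := hf
    rw [hin P] at hφ
    obtain ⟨-, s, hs, hsx⟩ := map_inner_iff.1 ⟨φ, hφ, hφf⟩
    rw [hsx x hx]
    obtain ⟨w, hw, rfl⟩ := hxB
    exact ⟨⟨s, hs⟩ * w * ⟨s, hs⟩⁻¹, (h2 i).1.conj_mem w hw ⟨s, hs⟩, rfl⟩
  · intro i hi
    refine ⟨(y i).2, ?_⟩
    show (B (i + 1)).map S.subtype = (B i).map S.subtype ⊔ Subgroup.zpowers (y i : Ω)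
    rw [h3 i, Subgroup.map_sup, MonoidHom.map_zpowers]
    rfl

theorem rank_le {p : ℕ} [hp : Fact p.Prime] (hS : IsPGroup p S) (hm : IsMetacyclic S)
    (hh : ¬ ∃ n : ℕ, 0 < n ∧ Nonempty (S ≃* Multiplicative (ZMod (p ^ n)) × Multiplicative (ZMod (p ^ n)))) :
    ¬ ∃ (n : ℕ) (H : Type) (_ : CommGroup H), 0 < n ∧ Nonempty (S ≃* (Multiplicative (ZMod (p ^ n)) × Multiplicative (ZMod (p ^ n))) × H) := by
  classical
  rintro ⟨n, H, hH, hn, ⟨e⟩⟩
  haveI : NeZero (p ^ n) := ⟨(pow_pos hp.out.pos n).ne'⟩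
  haveI : Finite ((Multiplicative (ZMod (p ^ n)) × Multiplicative (ZMod (p ^ n))) × H) := Finite.of_equiv _ e.toEquiv
  haveI : Finite H := Finite.of_injective (fun h : H => ((1, h) : (Multiplicative (ZMod (p ^ n)) × Multiplicative (ZMod (p ^ n))) × H))
    (fun a b hab => congrArg Prod.snd hab)
  rcases subsingleton_or_nontrivial H with hs | hs
  · haveI : Unique H := ⟨⟨1⟩, fun a => Subsingleton.elim _ _⟩
    exact hh ⟨n, hn, ⟨e.trans MulEquiv.prodUnique⟩⟩
  · have hHp : IsPGroup p H := hS.of_injective (e.symm.toMonoidHom.comp (MonoidHom.inr _ H)) (by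
      intro a b hab
      have h1 := e.symm.injective hab
      exact congrArg Prod.snd h1)
    obtain ⟨k, hk, hkc⟩ := (IsPGroup.nontrivial_iff_card hHp).1 hs
    obtain ⟨z, hz⟩ := exists_prime_orderOf_dvd_card' (G := H) p (by rw [hkc]; exact dvd_pow_self p (by omega))
    obtain ⟨c, hc⟩ := exists_prime_orderOf_dvd_card' (G := Multiplicative (ZMod (p ^ n))) p (by
      rw [Nat.card_congr Multiplicative.toAdd, Nat.card_zmod]; exact dvd_pow_self p (by omega))
    let E : Subgroup S := (((Subgroup.zpowers c).prod (Subgroup.zpowers c)).prod (Subgroup.zpowers z)).comap e.toMonoidHom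
    have hEc : Nat.card E = p ^ 3 := by
      have h1 : Nat.card E = Nat.card (((Subgroup.zpowers c).prod (Subgroup.zpowers c)).prod (Subgroup.zpowers z)) :=
        Nat.card_congr (e.toEquiv.subtypeEquiv fun x => Iff.rfl)
      rw [h1, Nat.card_congr (Subgroup.prodEquiv _ _).toEquiv, Nat.card_prod, Nat.card_congr (Subgroup.prodEquiv _ _).toEquiv, Nat.card_prod,
        Nat.card_zpowers, Nat.card_zpowers, hz, hc]
      ring
    have h2 := Cfsg.Agent.H2.Meta2.card_le_of_exp (e := p) (Cfsg.Agent.H2.MetaAct.meta_subgroup hm E) (by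
      rintro ⟨x, ⟨⟨i, hi⟩, ⟨j, hj⟩⟩, ⟨l, hl⟩⟩
      apply Subtype.ext
      show x ^ p = 1
      apply e.injective
      rw [map_pow, map_one]
      have hi : c ^ i = (e x).1.1 := hi
      have hj : c ^ j = (e x).1.2 := hj
      have hl : z ^ l = (e x).2 := hl
      have e1 : c ^ p = 1 := orderOf_dvd_iff_pow_eq_one.1 (dvd_of_eq hc)
      have e2 : z ^ p = 1 := orderOf_dvd_iff_pow_eq_one.1 (dvd_of_eq hz)
      apply Prod.ext
      · apply Prod.ext
        · show (e x).1.1 ^ p = 1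
          rw [← hi, ← zpow_natCast, ← zpow_mul, mul_comm, zpow_mul, zpow_natCast, e1, one_zpow]
        · show (e x).1.2 ^ p = 1
          rw [← hj, ← zpow_natCast, ← zpow_mul, mul_comm, zpow_mul, zpow_natCast, e1, one_zpow]
      · show (e x).2 ^ p = 1
        rw [← hl, ← zpow_natCast, ← zpow_mul, mul_comm, zpow_mul, zpow_natCast, e2, one_zpow]) hp.out.pos
    rw [hEc, ← pow_two] at h2
    have h3 := (Nat.pow_le_pow_iff_right hp.out.one_lt).1 h2
    omega

/-- the sufficiency -/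
theorem suff {p : ℕ} [hp : Fact p.Prime] (hS : IsPGroup p S) (hm : IsMetacyclic S)
    (hno : ¬ ((∃ n : ℕ, 0 < n ∧ Nonempty (↥S ≃* Multiplicative (ZMod (p ^ n)) × Multiplicative (ZMod (p ^ n)))) ∨
      (p = 2 ∧ ((∃ n : ℕ, 2 ≤ n ∧ Nonempty (↥S ≃* DihedralGroup n)) ∨ Cfsg.IsQuasiDihedral ↥S ∨ (∃ n : ℕ, 2 ≤ n ∧ Nonempty (↥S ≃* QuaternionGroup n))))))
    {F : FusionSystem S} (hF : F.IsSaturated p) : SS F := by
  classical
  rw [not_or] at hno
  obtain ⟨hh, h2⟩ := hno
  by_cases hab : IsMulCommutative S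
  · exact (main5284 hS hab).2 (rank_le hS hm hh) F hF
  · by_cases hp2 : p = 2
    · subst hp2
      rw [not_and, not_or, not_or] at h2
      obtain ⟨hd, hsd, hq⟩ := h2 rfl
      refine two_case hS hm hab ?_ hd hq hsd hF
      rintro ⟨n, ⟨e⟩⟩
      exact hab ⟨⟨fun a b => e.injective (by rw [map_mul, map_mul, mul_comm])⟩⟩
    · exact odd_case hp2 hS hm hab hF

end fus

end Cfsg.Agent.H1.Sup
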