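import Mathlib
import Cfsg.Agent.H1_SupG

set_option autoImplicit false
set_option linter.all false

/-! `2`-groups of supersoluble type: transfer of fusion from finite groups. -/

namespace Cfsg.Agent.H1.Sup

open Cfsg Cfsg.FusionSystem Cfsg.Agent.H27.Fus Cfsg.Agent.H27.Grp Cfsg.Agent.H1.FusA Cfsg.Agent.H1.Sm

universe u

section fus

variable {Ω : Type u} [Group Ω] {S : Subgroup Ω} [Finite S]

theorem aut_two (hS : IsPGroup 2 S) (h : ∀ F : FusionSystem S, F.IsSaturated 2 → SS F) : IsPGroup 2 (MulAut S) := by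
  haveI : Fact (Nat.Prime 2) := ⟨Nat.prime_two⟩
  haveI : Finite (MulAut S) := inferInstance
  intro α
  obtain ⟨k, m, hm, hkm⟩ := Nat.exists_eq_two_pow_mul_odd (n := orderOf α) (orderOf_pos α).ne'
  refine ⟨k, ?_⟩
  have h0 : orderOf (α ^ (2 ^ k)) ∣ m := by
    apply orderOf_dvd_of_pow_eq_one
    rw [← pow_mul, ← hkm, pow_orderOf_eq_one]
  have h1 := (ss_coprime hS h (Subgroup.zpowers (α ^ (2 ^ k))) (by
    rw [Nat.card_zpowers]
    exact Nat.Coprime.coprime_dvd_left h0 (Nat.coprime_two_right.2 hm))).2 _ (Subgroup.mem_zpowers _)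
  rwa [show 2 - 1 = 1 by norm_num, pow_one] at h1

/-- conjugation in a finite group with Sylow subgroup `S` is conjugation in `S` -/
theorem fus2 (hS : IsPGroup 2 S) (h : ∀ F : FusionSystem S, F.IsSaturated 2 → SS F) {G : Type*} [Group G] [Finite G]
    (θ : S →* G) (hθ : Function.Injective θ) (hidx : ¬ 2 ∣ θ.range.index) {x y : S} {g : G} (hg : g * θ x * g⁻¹ = θ y) :
    ∃ s : S, y = s * x * s⁻¹ := by
  haveI : Fact (Nat.Prime 2) := ⟨Nat.prime_two⟩
  obtain ⟨k, hk⟩ := exists_giso θ hθ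
  have hsyl : IsSyl 2 θ.range ⊤ := ⟨le_top, hk.isPGroup hS, by rw [Subgroup.relIndex_top_right]; exact hidx⟩
  have hsat := saturated_fss hsyl
  have hfi := fiso_push hk.symm (fusionSystemOfSubgroup ⊤ θ.range hsyl.le)
  haveI : Finite θ.range := inferInstance
  have hF := hfi.saturated (p := 2) hsyl.2.1 hsat
  have hn := hfi.symm.normal (ss_normal hS hF (h _ hF))
  rw [hk.imj_top] at hn
  have haut : IsPGroup 2 (MulAut θ.range) := (aut_two hS h).of_equiv (MulAut.congr (MonoidHom.ofInjective hθ))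
  have hin := Cfsg.Agent.H1.Mt.inner_of_normal_S hsyl.2.1 hsat hn (haut.to_subgroup _) (Subgroup.zpowers (θ x))
  have hm : Map (fusionSystemOfSubgroup ⊤ θ.range hsyl.le) (Subgroup.zpowers (θ x)) (fun w => g * w * g⁻¹) := by
    rw [map_fss]
    refine ⟨Subgroup.zpowers_le.2 ⟨x, rfl⟩, ?_, g, trivial, fun _ _ => rfl⟩
    rintro _ ⟨i, rfl⟩
    have e : g * (θ x) ^ i * g⁻¹ = θ (y ^ i) := by
      rw [map_zpow, ← hg, conj_zpow]
    show g * (θ x) ^ i * g⁻¹ ∈ θ.range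
    rw [e]; exact ⟨_, rfl⟩
  obtain ⟨φ, hφ, hφf⟩ := hm
  rw [hin] at hφ
  have hm' : Map (innerFusionSystem θ.range) (Subgroup.zpowers (θ x)) (fun w => g * w * g⁻¹) := ⟨φ, hφ, hφf⟩
  obtain ⟨-, s, ⟨s', rfl⟩, hsx⟩ := map_inner_iff.1 hm'
  refine ⟨s', hθ ?_⟩
  have h1 := hsx (θ x) (Subgroup.mem_zpowers _)
  rw [map_mul, map_mul, map_inv, ← h1]
  exact hg.symm

end fus

/-- odd index from the cardinality -/
theorem odd_idx {G : Type*} [Group G] [Finite G] {H : Subgroup G} {a c : ℕ} (hc : c % 2 = 1) (h1 : Nat.card G = a * c) (h2 : Nat.card H = a) :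
    ¬ 2 ∣ H.index := by
  have h3 := H.card_mul_index
  rw [h1, h2] at h3
  have h4 : 0 < a := by rw [← h2]; exact Nat.card_pos
  have h5 := Nat.eq_of_mul_eq_mul_left h4 h3
  rw [h5]
  omega

end Cfsg.Agent.H1.Sup
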