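import Mathlib
import Cfsg.Agent.H1_SupH
import Cfsg.Agent.HL_GS2
import Cfsg.Agent.H5_SL2Quat
import Cfsg.Agent.H5_V4
import Cfsg.Agent.H5_DihPS
import Cfsg.Agent.H5_SmallIso

set_option autoImplicit false
set_option linter.all false

/-! dihedral and quaternion groups are not of supersoluble type -/

namespace Cfsg.Agent.H1.Sup

open Cfsg Cfsg.FusionSystem Cfsg.Agent.H5.V4 Cfsg.Agent.H5.SL2 Cfsg.Agent.HL.GS

universe u

theorem exists_q (j : ℕ) : ∃ q t : ℕ, q.Prime ∧ q = 1 + 2 * 2 ^ j + 4 * 2 ^ j * t := by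
  have hc : Nat.Coprime (1 + 2 * 2 ^ j) (4 * 2 ^ j) := by
    have h1 : 4 * 2 ^ j = 2 ^ (j + 2) := by ring
    rw [h1]
    apply Nat.Coprime.pow_right
    rw [Nat.coprime_two_right]
    exact ⟨2 ^ j, by ring⟩
  obtain ⟨q, hq1, hq2, hq3⟩ := Nat.forall_exists_prime_gt_and_modEq (1 + 2 * 2 ^ j) (by positivity) hc
  have h4 := (Nat.modEq_iff_dvd' hq1.le).1 hq3.symm
  obtain ⟨t, ht⟩ := h4
  exact ⟨q, t, hq2, by omega⟩

theorem par2 (A : ZMod 2) : A + A ≠ 1 := by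
  revert A
  decide

theorem pow_of_card {X : Type*} [Group X] [Finite X] (hX : IsPGroup 2 X) {n c : ℕ} (h : Nat.card X = c * n) : ∃ j, n = 2 ^ j := by
  haveI : Fact (Nat.Prime 2) := ⟨Nat.prime_two⟩
  obtain ⟨k, hk⟩ := IsPGroup.iff_card.1 hX
  obtain ⟨j, -, hj⟩ := (Nat.dvd_prime_pow Nat.prime_two (m := k) (i := n)).1 (by rw [← hk, h]; exact dvd_mul_left _ _)
  exact ⟨j, hj⟩

section fus

variable {Ω : Type u} [Group Ω] {S : Subgroup Ω} [Finite S]

theorem quat_case (hS : IsPGroup 2 S) (h : ∀ F : FusionSystem S, F.IsSaturated 2 → SS F) {n : ℕ} (hn : 2 ≤ n)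
    (e : S ≃* QuaternionGroup n) : False := by
  classical
  haveI : Fact (Nat.Prime 2) := ⟨Nat.prime_two⟩
  haveI : NeZero n := ⟨by omega⟩
  have hcS : Nat.card S = 4 * n := by
    rw [Nat.card_congr e.toEquiv, Nat.card_eq_fintype_card, QuaternionGroup.card]
  obtain ⟨j, rfl⟩ := pow_of_card hS hcS
  have hj : 1 ≤ j := by
    rcases Nat.eq_zero_or_pos j with rfl | hj
    · norm_num at hn
    · exact hj
  obtain ⟨i, rfl⟩ : ∃ i, j = i + 1 := ⟨j - 1, by omega⟩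
  obtain ⟨q, t, hq, hqt⟩ := exists_q (i + 1)
  haveI : Fact q.Prime := ⟨hq⟩
  have hp1 : 2 ^ (i + 1) = 2 * 2 ^ i := by rw [pow_succ']
  have hpos : 0 < 2 ^ i := by positivity
  have hodd : q % 2 = 1 := by
    have h0 : 1 + 2 * 2 ^ (i + 1) + 4 * 2 ^ (i + 1) * t = 1 + 2 * (2 ^ (i + 1) + 2 * 2 ^ (i + 1) * t) := by ring
    rw [hqt, h0]; omega
  have hF : Odd (Fintype.card (ZMod q)) := by rw [ZMod.card]; exact Nat.odd_iff.2 hodd
  have h2 := Cfsg.Agent.H5.SL2Quat.two_ne_zero' hF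
  have hc1 : Nat.card (Cfsg.Agent.H5.SL2.S (ZMod q)) = (4 * 2 ^ (i + 1)) * (q * (1 + 2 * t) * (1 + 2 * 2 ^ i + 2 * (2 * 2 ^ i) * t)) := by
    rw [card_SL2, ZMod.card]
    have e1 : q - 1 = 2 * 2 ^ (i + 1) * (1 + 2 * t) := by
      have : 2 * 2 ^ (i + 1) * (1 + 2 * t) = 2 * 2 ^ (i + 1) + 4 * 2 ^ (i + 1) * t := by ring
      omega
    have e2 : q + 1 = 2 * (1 + 2 * 2 ^ i + 2 * (2 * 2 ^ i) * t) := by rw [hqt, hp1]; ring
    rw [e1, e2]; ring
  have hco : (q * (1 + 2 * t) * (1 + 2 * 2 ^ i + 2 * (2 * 2 ^ i) * t)) % 2 = 1 := by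
    have e3 : (1 + 2 * 2 ^ i + 2 * (2 * 2 ^ i) * t) % 2 = 1 := by
      have : 2 * (2 * 2 ^ i) * t = 2 * (2 * 2 ^ i * t) := by ring
      rw [this]; omega
    exact om (om hodd (by omega)) e3
  obtain ⟨P⟩ : Nonempty (Sylow 2 (Cfsg.Agent.H5.SL2.S (ZMod q))) := inferInstance
  obtain ⟨k, hk1, ⟨eP⟩⟩ := Cfsg.Agent.H5.SL2Quat.sylow_two hF P
  have hPc : Nat.card (P : Subgroup (Cfsg.Agent.H5.SL2.S (ZMod q))) = 4 * 2 ^ (i + 1) := by
    rw [Sylow.card_eq_multiplicity, fac_of (a := i + 3) (by rw [hc1]; ring) hco]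
    ring
  have hki : 2 ^ k = 2 ^ (i + 1) := by
    rw [Nat.card_congr eP.toEquiv, Nat.card_eq_fintype_card, QuaternionGroup.card] at hPc
    exact Nat.eq_of_mul_eq_mul_left (by norm_num) hPc
  have hki' := Nat.pow_right_injective le_rfl hki
  subst hki'
  let θ : S →* Cfsg.Agent.H5.SL2.S (ZMod q) := (P : Subgroup _).subtype.comp ((e.trans eP.symm).toMonoidHom)
  have hθ : Function.Injective θ := (Subgroup.subtype_injective _).comp (e.trans eP.symm).injective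
  have hidx : ¬ 2 ∣ θ.range.index := odd_idx hco hc1 (by
    rw [← hcS]; exact Nat.card_congr (MonoidHom.ofInjective hθ).toEquiv.symm)
  have hne : (e.symm (QuaternionGroup.a ((2 ^ (i + 1) : ℕ) : ZMod (2 * 2 ^ (i + 1)))) : S) ≠ 1 := by
    intro h0
    rw [← map_one e.symm] at h0
    have h1 := e.symm.injective h0
    rw [QuaternionGroup.one_def] at h1
    have h3 := QuaternionGroup.a.inj h1
    rw [ZMod.natCast_eq_zero_iff] at h3
    have h4 := Nat.le_of_dvd (by positivity) h3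
    omega
  have hsq : ∀ u : ZMod (2 * 2 ^ (i + 1)), e.symm (QuaternionGroup.xa u) * e.symm (QuaternionGroup.xa u) =
      e.symm (QuaternionGroup.a ((2 ^ (i + 1) : ℕ) : ZMod (2 * 2 ^ (i + 1)))) := by
    intro u
    rw [← map_mul, QuaternionGroup.xa_mul_xa]
    congr 2
    push_cast
    ring
  have hz : θ (e.symm (QuaternionGroup.a ((2 ^ (i + 1) : ℕ) : ZMod (2 * 2 ^ (i + 1))))) = -1 := by
    apply Cfsg.Agent.H5.SL2Quat.eq_neg_one h2
    · rw [← map_mul, ← map_mul, QuaternionGroup.a_mul_a]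
      have : ((2 ^ (i + 1) : ℕ) : ZMod (2 * 2 ^ (i + 1))) + ((2 ^ (i + 1) : ℕ) : ZMod (2 * 2 ^ (i + 1))) = 0 := by
        rw [← Nat.cast_add, ← two_mul, ZMod.natCast_self]
      rw [this, ← QuaternionGroup.one_def, map_one, map_one]
    · intro h0
      rw [← map_one θ] at h0
      exact hne (hθ h0)
  obtain ⟨g, hg⟩ := conj_of_sq hF (s := θ (e.symm (QuaternionGroup.xa 0))) (t := θ (e.symm (QuaternionGroup.xa 1)))
    (by rw [← map_mul, hsq, hz]) (by rw [← map_mul, hsq, hz])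
  obtain ⟨s, hs⟩ := fus2 hS h θ hθ hidx hg.symm
  have h5 : QuaternionGroup.xa 1 * e s = e s * QuaternionGroup.xa 0 := by
    have := congrArg e hs
    rw [map_mul, map_mul, map_inv, e.apply_symm_apply, e.apply_symm_apply] at this
    rw [this, inv_mul_cancel_right]
  have hd : 2 ∣ 2 * 2 ^ (i + 1) := dvd_mul_right _ _
  have hpar : ∀ u : ZMod (2 * 2 ^ (i + 1)), u + u ≠ 1 := by
    intro u hu
    have h1 := congrArg (ZMod.castHom hd (ZMod 2)) hu
    rw [map_add, map_one] at h1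
    exact par2 _ h1
  rcases hes : e s with u | u
  · rw [hes, QuaternionGroup.xa_mul_a, QuaternionGroup.a_mul_xa] at h5
    have h6 := QuaternionGroup.xa.inj h5
    apply hpar (-u)
    linear_combination -h6
  · rw [hes, QuaternionGroup.xa_mul_xa, QuaternionGroup.xa_mul_xa] at h5
    have h6 := QuaternionGroup.a.inj h5
    apply hpar u
    linear_combination h6

theorem dih_case (hS : IsPGroup 2 S) (h : ∀ F : FusionSystem S, F.IsSaturated 2 → SS F) {n : ℕ} (hn : 2 ≤ n)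
    (e : S ≃* DihedralGroup n) : False := by
  classical
  haveI : Fact (Nat.Prime 2) := ⟨Nat.prime_two⟩
  haveI : NeZero n := ⟨by omega⟩
  have hcS : Nat.card S = 2 * n := by
    rw [Nat.card_congr e.toEquiv, DihedralGroup.nat_card]
  obtain ⟨j, rfl⟩ := pow_of_card hS hcS
  have hj : 1 ≤ j := by
    rcases Nat.eq_zero_or_pos j with rfl | hj
    · norm_num at hn
    · exact hj
  obtain ⟨i, rfl⟩ : ∃ i, j = i + 1 := ⟨j - 1, by omega⟩
  obtain ⟨q, t, hq, hqt⟩ := exists_q (i + 1)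
  haveI : Fact q.Prime := ⟨hq⟩
  have hp1 : 2 ^ (i + 1) = 2 * 2 ^ i := by rw [pow_succ']
  have hpos : 0 < 2 ^ i := by positivity
  have hodd : q % 2 = 1 := by
    have h0 : 1 + 2 * 2 ^ (i + 1) + 4 * 2 ^ (i + 1) * t = 1 + 2 * (2 ^ (i + 1) + 2 * 2 ^ (i + 1) * t) := by ring
    rw [hqt, h0]; omega
  have hF : Odd (Fintype.card (ZMod q)) := by rw [ZMod.card]; exact Nat.odd_iff.2 hodd
  have h2 := Cfsg.Agent.H5.SL2Quat.two_ne_zero' hF
  have e1 : q - 1 = 2 * 2 ^ (i + 1) * (1 + 2 * t) := by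
    have : 2 * 2 ^ (i + 1) * (1 + 2 * t) = 2 * 2 ^ (i + 1) + 4 * 2 ^ (i + 1) * t := by ring
    omega
  have e2 : q + 1 = 2 * (1 + 2 * 2 ^ i + 2 * (2 * 2 ^ i) * t) := by rw [hqt, hp1]; ring
  have hg2 : Nat.gcd 2 (q - 1) = 2 := Nat.gcd_eq_left (by rw [e1, mul_assoc]; exact dvd_mul_right _ _)
  have hc1 : Nat.card (PS (ZMod q)) = (2 * 2 ^ (i + 1)) * (q * (1 + 2 * t) * (1 + 2 * 2 ^ i + 2 * (2 * 2 ^ i) * t)) := by
    have h3 := Cfsg.Agent.H5.SmallIso.card_PSL2 (F := ZMod q)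
    rw [ZMod.card, hg2, e1, e2] at h3
    apply Nat.eq_of_mul_eq_mul_left (show 0 < 2 by norm_num)
    refine h3.trans ?_
    ring
  have hco : (q * (1 + 2 * t) * (1 + 2 * 2 ^ i + 2 * (2 * 2 ^ i) * t)) % 2 = 1 := by
    have e3 : (1 + 2 * 2 ^ i + 2 * (2 * 2 ^ i) * t) % 2 = 1 := by
      have : 2 * (2 * 2 ^ i) * t = 2 * (2 * 2 ^ i * t) := by ring
      rw [this]; omega
    exact om (om hodd (by omega)) e3
  haveI hfin : Finite (PS (ZMod q)) := inferInstance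
  obtain ⟨H, ⟨eH⟩⟩ := Cfsg.Agent.H5.DihPS.exists_dihedral_sub (F := ZMod q)
  have hm : (Fintype.card (ZMod q) - 1) / Nat.gcd 2 (Fintype.card (ZMod q) - 1) = 2 ^ (i + 1) * (1 + 2 * t) := by
    rw [ZMod.card, hg2, e1, mul_assoc, Nat.mul_div_cancel_left _ (by norm_num)]
  rw [hm] at eH
  haveI : NeZero (2 ^ (i + 1) * (1 + 2 * t)) := ⟨by positivity⟩
  -- the dihedral subgroup
  have hx : orderOf (eH.symm (DihedralGroup.r (((1 + 2 * t : ℕ)) : ZMod (2 ^ (i + 1) * (1 + 2 * t)))) : H) = 2 ^ (i + 1) := by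
    rw [MulEquiv.orderOf_eq, ← DihedralGroup.r_one_pow, orderOf_pow, DihedralGroup.orderOf_r_one, Nat.gcd_mul_left_left,
      Nat.mul_div_cancel _ (by omega)]
  have hy : (eH.symm (DihedralGroup.sr 0) : H) * eH.symm (DihedralGroup.sr 0) = 1 := by
    rw [← map_mul, DihedralGroup.sr_mul_self, map_one]
  have hxy : (eH.symm (DihedralGroup.sr 0) : H) * (eH.symm (DihedralGroup.r (((1 + 2 * t : ℕ)) : ZMod (2 ^ (i + 1) * (1 + 2 * t))))) *
      (eH.symm (DihedralGroup.sr 0) : H)⁻¹ = (eH.symm (DihedralGroup.r (((1 + 2 * t : ℕ)) : ZMod (2 ^ (i + 1) * (1 + 2 * t)))))⁻¹ := by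
    rw [← map_inv, ← map_inv, ← map_mul, ← map_mul]
    congr 1
    simp
  have hyx : (eH.symm (DihedralGroup.sr 0) : H) ∉ Subgroup.zpowers (eH.symm (DihedralGroup.r (((1 + 2 * t : ℕ)) : ZMod (2 ^ (i + 1) * (1 + 2 * t))))) := by
    rintro ⟨k, hk⟩
    have hk : (eH.symm (DihedralGroup.r (((1 + 2 * t : ℕ)) : ZMod (2 ^ (i + 1) * (1 + 2 * t))))) ^ k = eH.symm (DihedralGroup.sr 0) := hk
    rw [← map_zpow] at hk
    have h3 := eH.symm.injective hk
    rw [← DihedralGroup.r_one_pow, ← zpow_natCast, ← zpow_mul, DihedralGroup.r_one_zpow] at h3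
    exact absurd h3 (by simp)
  let θ : S →* PS (ZMod q) := H.subtype.comp ((Cfsg.Agent.H5.Dih.dihHom _ _ hx hy hxy).comp e.toMonoidHom)
  have hθ : Function.Injective θ := (Subgroup.subtype_injective _).comp ((Cfsg.Agent.H5.Dih.dihHom_injective _ _ hx hy hxy hyx).comp e.injective)
  have hidx : ¬ 2 ∣ θ.range.index := odd_idx hco hc1 (by
    rw [← hcS]; exact Nat.card_congr (MonoidHom.ofInjective hθ).toEquiv.symm)
  have hconj : ∀ s t : PS (ZMod q), s ≠ 1 → t ≠ 1 → s * s = 1 → t * t = 1 → ∃ g, t = g * s * g⁻¹ := by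
    intro s t hs ht hs2 ht2
    obtain ⟨s, rfl⟩ := π_surj s
    obtain ⟨t, rfl⟩ := π_surj t
    obtain ⟨g, hg⟩ := conj_of_sq hF (lift_inv h2 hs hs2) (lift_inv h2 ht ht2)
    exact ⟨π g, by rw [hg, map_mul, map_mul, map_inv]⟩
  have hzz : ((2 ^ i : ℕ) : ZMod (2 ^ (i + 1))) + ((2 ^ i : ℕ) : ZMod (2 ^ (i + 1))) = 0 := by
    rw [← Nat.cast_add, ← two_mul, ← pow_succ', ZMod.natCast_self]
  obtain ⟨g, hg⟩ := hconj (θ (e.symm (DihedralGroup.r ((2 ^ i : ℕ) : ZMod (2 ^ (i + 1)))))) (θ (e.symm (DihedralGroup.sr 0)))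
    (by
      intro h0
      rw [← map_one θ] at h0
      have h1 := hθ h0
      rw [← map_one e.symm] at h1
      have h1 := e.symm.injective h1
      rw [DihedralGroup.one_def] at h1
      have h3 := DihedralGroup.r.inj h1
      rw [ZMod.natCast_eq_zero_iff] at h3
      have h4 := Nat.le_of_dvd (by positivity) h3
      omega)
    (by
      intro h0
      rw [← map_one θ] at h0
      have h1 := hθ h0
      rw [← map_one e.symm] at h1
      have h1 := e.symm.injective h1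
      rw [DihedralGroup.one_def] at h1
      cases h1)
    (by rw [← map_mul, ← map_mul, DihedralGroup.r_mul_r, hzz, ← DihedralGroup.one_def, map_one, map_one])
    (by rw [← map_mul, ← map_mul, DihedralGroup.sr_mul_self, map_one, map_one])
  obtain ⟨s, hs⟩ := fus2 hS h θ hθ hidx hg.symm
  have h5 : DihedralGroup.sr 0 * e s = e s * DihedralGroup.r ((2 ^ i : ℕ) : ZMod (2 ^ (i + 1))) := by
    have := congrArg e hs
    rw [map_mul, map_mul, map_inv, e.apply_symm_apply, e.apply_symm_apply] at this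
    rw [this, inv_mul_cancel_right]
  rcases hes : e s with u | u
  · rw [hes, DihedralGroup.sr_mul_r, DihedralGroup.r_mul_r] at h5
    exact absurd h5 (by simp)
  · rw [hes, DihedralGroup.sr_mul_sr, DihedralGroup.sr_mul_r] at h5
    exact absurd h5 (by simp)

end fus

end Cfsg.Agent.H1.Sup
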