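import Mathlib
import Cfsg.Agent.H1_SupI
import Cfsg.Agent.HL_QD1

set_option autoImplicit false
set_option linter.all false

/-! quasi-dihedral groups are not of supersoluble type -/

namespace Cfsg.Agent.H1.Sup

open Cfsg Cfsg.FusionSystem Cfsg.Agent.H5.V4 Cfsg.Agent.H5.SL2 Cfsg.Agent.HL.GS Cfsg.Agent.HL.QD Matrix

universe u v

section iso

variable {A : Type u} {B : Type v} [Group A] [Group B] [Finite A] [Finite B] {n : ℕ} {x y : A} {x' y' : B}

theorem phi_bij (d : D n x y) : Function.Bijective (Sum.elim (e n x) (f n x y) : ZMod (2 ^ n) ⊕ ZMod (2 ^ n) → A) := by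
  constructor
  · rintro (a | a) (b | b) hab
    · exact congrArg Sum.inl ((e_inj d).1 hab)
    · exact (e_ne_f d hab).elim
    · exact (e_ne_f d hab.symm).elim
    · exact congrArg Sum.inr ((f_inj d).1 hab)
  · intro s
    rcases Cfsg.Agent.HL.QD.cases d s with ⟨i, rfl⟩ | ⟨i, rfl⟩
    · exact ⟨Sum.inl i, rfl⟩
    · exact ⟨Sum.inr i, rfl⟩

theorem qd_iso (d : D n x y) (d' : D n x' y') : Nonempty (A ≃* B) := by
  let E : A ≃ B := (Equiv.ofBijective _ (phi_bij d)).symm.trans (Equiv.ofBijective _ (phi_bij d'))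
  have he : ∀ i, E (e n x i) = e n x' i := by
    intro i
    show (Equiv.ofBijective _ (phi_bij d')) ((Equiv.ofBijective _ (phi_bij d)).symm (e n x i)) = _
    have : (Equiv.ofBijective _ (phi_bij d)).symm (e n x i) = Sum.inl i := by
      rw [Equiv.symm_apply_eq]; rfl
    rw [this]; rfl
  have hf : ∀ i, E (f n x y i) = f n x' y' i := by
    intro i
    show (Equiv.ofBijective _ (phi_bij d')) ((Equiv.ofBijective _ (phi_bij d)).symm (f n x y i)) = _
    have : (Equiv.ofBijective _ (phi_bij d)).symm (f n x y i) = Sum.inr i := by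
      rw [Equiv.symm_apply_eq]; rfl
    rw [this]; rfl
  refine ⟨{ E with map_mul' := ?_ }⟩
  intro a b
  show E (a * b) = E a * E b
  rcases Cfsg.Agent.HL.QD.cases d a with ⟨i, rfl⟩ | ⟨i, rfl⟩ <;> rcases Cfsg.Agent.HL.QD.cases d b with ⟨j, rfl⟩ | ⟨j, rfl⟩
  · rw [e_add d, he, he, he, e_add d']
  · rw [e_f d, he, hf, hf, e_f d']
  · rw [f_e d, he, hf, hf, f_e d']
  · rw [f_f d, he, hf, hf, f_f d']

end iso

theorem exists_q3 (i : ℕ) : ∃ q t : ℕ, q.Prime ∧ q + 1 = 4 * 2 ^ i * (1 + 2 * t) := by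
  have hpos : 0 < 2 ^ i := by positivity
  have hc : Nat.Coprime (4 * 2 ^ i - 1) (8 * 2 ^ i) := by
    have h1 : 8 * 2 ^ i = 2 ^ (i + 3) := by ring
    rw [h1]
    apply Nat.Coprime.pow_right
    rw [Nat.coprime_two_right]
    exact ⟨2 * 2 ^ i - 1, by omega⟩
  obtain ⟨q, hq1, hq2, hq3⟩ := Nat.forall_exists_prime_gt_and_modEq (4 * 2 ^ i - 1) (by positivity) hc
  have h4 := (Nat.modEq_iff_dvd' hq1.le).1 hq3.symm
  obtain ⟨t, ht⟩ := h4
  refine ⟨q, t, hq2, ?_⟩
  have h5 : 4 * 2 ^ i * (1 + 2 * t) = 4 * 2 ^ i + 8 * 2 ^ i * t := by ring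
  omega

theorem det_one {F : Type*} [Field F] (hns : ¬ IsSquare (-1 : F)) {A : GL (Fin 2) F} (hA : A * A = -1) :
    (A : Matrix (Fin 2) (Fin 2) F).det = 1 := by
  have h1 : (A : Matrix (Fin 2) (Fin 2) F) * (A : Matrix (Fin 2) (Fin 2) F) = -1 := by
    have := congrArg Units.val hA
    simpa using this
  have h00 := congrFun (congrFun h1 0) 0
  have h01 := congrFun (congrFun h1 0) 1
  rw [Matrix.mul_apply, Fin.sum_univ_two, Matrix.neg_apply, Matrix.one_apply_eq] at h00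
  rw [Matrix.mul_apply, Fin.sum_univ_two, Matrix.neg_apply, Matrix.one_apply_ne (by decide), neg_zero] at h01
  rw [Matrix.det_fin_two]
  by_cases ht : (A : Matrix (Fin 2) (Fin 2) F) 0 0 + (A : Matrix (Fin 2) (Fin 2) F) 1 1 = 0
  · linear_combination (A : Matrix (Fin 2) (Fin 2) F) 0 0 * ht - h00
  · exfalso
    have h2 : (A : Matrix (Fin 2) (Fin 2) F) 0 1 = 0 := by
      have h3 : (A : Matrix (Fin 2) (Fin 2) F) 0 1 * ((A : Matrix (Fin 2) (Fin 2) F) 0 0 + (A : Matrix (Fin 2) (Fin 2) F) 1 1) = 0 := by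
        linear_combination h01
      exact (mul_eq_zero.1 h3).resolve_right ht
    apply hns
    rw [h2, zero_mul, add_zero] at h00
    exact ⟨_, h00.symm⟩

section fus

variable {Ω : Type u} [Group Ω] {S : Subgroup Ω} [Finite S]

theorem qd_case (hS : IsPGroup 2 S) (hSS : ∀ F : FusionSystem S, F.IsSaturated 2 → SS F) (hqd : IsQuasiDihedral S) : False := by
  classical
  haveI : Fact (Nat.Prime 2) := ⟨Nat.prime_two⟩
  obtain ⟨n, x, y, d⟩ := exists_D hqd
  have hn := d.hn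
  obtain ⟨i, rfl⟩ : ∃ i, n = i + 3 := ⟨n - 3, by omega⟩
  obtain ⟨q, t, hqp, hqt⟩ := exists_q3 i
  haveI : Fact q.Prime := ⟨hqp⟩
  have hpos : 0 < 2 ^ i := by positivity
  have hpos2 : 0 < 2 ^ i * (1 + 2 * t) := by positivity
  obtain ⟨w, hw⟩ : ∃ w, w = 2 ^ i * (1 + 2 * t) := ⟨_, rfl⟩
  rw [← hw] at hpos2
  have hqw : q + 1 = 4 * w := by rw [hqt, hw]; ring
  have hq3 : q % 4 = 3 := by omega
  have hodd : q % 2 = 1 := by omega
  have hF : Odd (Fintype.card (ZMod q)) := by rw [ZMod.card]; exact Nat.odd_iff.2 hodd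
  have h2 := Cfsg.Agent.H5.SL2Quat.two_ne_zero' hF
  have hns : ¬ IsSquare (-1 : ZMod q) := by
    rw [ZMod.exists_sq_eq_neg_one_iff]
    exact not_not.2 hq3
  obtain ⟨v, hv⟩ : ∃ v, 2 * w = v + 1 := ⟨2 * w - 1, by omega⟩
  have hc1 : Nat.card (GL (Fin 2) (ZMod q)) = 2 ^ (i + 4) * (q * v ^ 2 * (1 + 2 * t)) := by
    rw [Cfsg.Agent.H5.GL2.card_GL2, ZMod.card, hqt]
    have e1 : q - 1 = 2 * v := by omega
    rw [e1]; ring
  have hco : (q * v ^ 2 * (1 + 2 * t)) % 2 = 1 := om (om hodd (os (by omega))) (by omega)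
  obtain ⟨P⟩ : Nonempty (Sylow 2 (GL (Fin 2) (ZMod q))) := inferInstance
  have hPq := gl_three P (by rw [ZMod.card]; exact hq3)
  have hPc : Nat.card (P : Subgroup (GL (Fin 2) (ZMod q))) = 2 ^ (i + 4) := by
    rw [Sylow.card_eq_multiplicity, fac_of (a := i + 4) hc1 hco]
  obtain ⟨n', x', y', d'⟩ := exists_D hPq
  have hn' : n' = i + 3 := by
    have h3 := d'.card
    rw [hPc] at h3
    have h4 := Nat.pow_right_injective le_rfl h3
    omega
  subst hn'
  obtain ⟨E⟩ := qd_iso d d'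
  let θ : S →* GL (Fin 2) (ZMod q) := (P : Subgroup _).subtype.comp E.toMonoidHom
  have hθ : Function.Injective θ := (Subgroup.subtype_injective _).comp E.injective
  have hidx : ¬ 2 ∣ θ.range.index := odd_idx hco hc1 (by
    rw [← Nat.card_congr (MonoidHom.ofInjective hθ).toEquiv, d.card])
  -- lifts
  have hlift : ∀ A : GL (Fin 2) (ZMod q), (A : Matrix (Fin 2) (Fin 2) (ZMod q)).det = 1 →
      ∃ A' : Matrix.SpecialLinearGroup (Fin 2) (ZMod q), Matrix.SpecialLinearGroup.toGL A' = A := by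
    intro A hA
    exact ⟨⟨A, hA⟩, Units.ext rfl⟩
  have hιinj : Function.Injective (Matrix.SpecialLinearGroup.toGL : Matrix.SpecialLinearGroup (Fin 2) (ZMod q) →* GL (Fin 2) (ZMod q)) := by
    intro a b hab
    exact Subtype.ext (congrArg Units.val hab)
  have hιneg : Matrix.SpecialLinearGroup.toGL (-1 : Matrix.SpecialLinearGroup (Fin 2) (ZMod q)) = -1 := by
    apply Units.ext
    show ((-1 : Matrix.SpecialLinearGroup (Fin 2) (ZMod q)) : Matrix (Fin 2) (Fin 2) (ZMod q)) = -1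
    rw [Matrix.SpecialLinearGroup.coe_neg, Matrix.SpecialLinearGroup.coe_one]
  have hzc : e (i + 3) x (h (i + 3)) = y * e (i + 3) x (-(Cfsg.Agent.HL.QD.q (i + 3))) * y⁻¹ * (e (i + 3) x (-(Cfsg.Agent.HL.QD.q (i + 3))))⁻¹ := by
    rw [y_e d, mul_inv_cancel_right, e_neg d, e_add d]
    congr 1
    rw [c]
    linear_combination hq hn - qq (by omega : 2 ≤ i + 3)
  have hdz : (θ (e (i + 3) x (h (i + 3))) : Matrix (Fin 2) (Fin 2) (ZMod q)).det = 1 := by
    have h3 : Matrix.GeneralLinearGroup.det (θ (e (i + 3) x (h (i + 3)))) = 1 := by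
      rw [hzc, map_mul, map_mul, map_mul, map_mul, map_mul, map_mul, map_inv, map_inv, map_inv, map_inv, mul_comm (Matrix.GeneralLinearGroup.det (θ y)),
        mul_inv_cancel_right, mul_inv_cancel]
    exact congrArg Units.val h3
  have hz : θ (e (i + 3) x (h (i + 3))) = -1 := by
    obtain ⟨z', hz'⟩ := hlift _ hdz
    have h3 : z' = -1 := by
      apply Cfsg.Agent.H5.SL2Quat.eq_neg_one h2
      · apply hιinj
        rw [map_mul, hz', ← map_mul, e_add d, hh (by omega : 1 ≤ i + 3), e_zero, map_one, map_one]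
      · rintro rfl
        rw [map_one, ← map_one θ] at hz'
        have h4 := hθ hz'
        exact h_ne (by omega : 1 ≤ i + 3) ((e_eq_one d).1 h4.symm)
    rw [← hz', h3, hιneg]
  have ha : θ (e (i + 3) x (Cfsg.Agent.HL.QD.q (i + 3))) * θ (e (i + 3) x (Cfsg.Agent.HL.QD.q (i + 3))) = -1 := by
    rw [← map_mul, e_add d, qq (by omega : 2 ≤ i + 3), hz]
  have hb : θ (f (i + 3) x y 1) * θ (f (i + 3) x y 1) = -1 := by
    rw [← map_mul, f_f d, c]
    have h3 : (1 : ZMod (2 ^ (i + 3))) + (h (i + 3) - 1) * 1 = h (i + 3) := by ring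
    rw [h3, hz]
  obtain ⟨a', ha'⟩ := hlift _ (det_one hns ha)
  obtain ⟨b', hb'⟩ := hlift _ (det_one hns hb)
  obtain ⟨g, hg⟩ := conj_of_sq hF (s := a') (t := b') (hιinj (by rw [map_mul, ha', ha, hιneg])) (hιinj (by rw [map_mul, hb', hb, hιneg]))
  obtain ⟨s, hs⟩ := fus2 hS hSS θ hθ hidx (x := e (i + 3) x (Cfsg.Agent.HL.QD.q (i + 3))) (y := f (i + 3) x y 1)
    (g := Matrix.SpecialLinearGroup.toGL g) (by rw [← ha', ← hb', hg, map_mul, map_mul, map_inv])
  rw [eq_mul_inv_iff_mul_eq] at hs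
  rcases Cfsg.Agent.HL.QD.cases d s with ⟨j, rfl⟩ | ⟨j, rfl⟩
  · rw [f_e d, e_add d] at hs
    exact e_ne_f d hs.symm
  · rw [f_f d, f_e d] at hs
    exact e_ne_f d hs

end fus

end Cfsg.Agent.H1.Sup
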