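import Mathlib

set_option autoImplicit false

namespace Cfsg.Agent.H20.Mat3

open Matrix Polynomial

theorem dvd_zz {R : Type*} [CommRing R] (x : R) (h3 : (3 : R) = 0) :
    x ^ 3 - (0) * x ^ 2 + (0) * x - 1 ∣ x ^ 3 - 1 :=
  ⟨(1), by linear_combination (0) * h3⟩

theorem dvd_zp {R : Type*} [CommRing R] (x : R) (h3 : (3 : R) = 0) :
    x ^ 3 - (0) * x ^ 2 + (1) * x - 1 ∣ x ^ 8 - 1 :=
  ⟨(1)*x^5 + (-1)*x^3 + (1)*x^2 + (1)*x^1 + (1), by linear_combination ((-1)*x^3) * h3⟩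

theorem dvd_zm {R : Type*} [CommRing R] (x : R) (h3 : (3 : R) = 0) :
    x ^ 3 - (0) * x ^ 2 + (-1) * x - 1 ∣ x ^ 13 - 1 :=
  ⟨(1)*x^10 + (1)*x^8 + (1)*x^7 + (1)*x^6 + (-1)*x^5 + (-1)*x^4 + (1)*x^2 + (-1)*x^1 + (1), by linear_combination ((1)*x^8 + (1)*x^7 + (-1)*x^5) * h3⟩

theorem dvd_pz {R : Type*} [CommRing R] (x : R) (h3 : (3 : R) = 0) :
    x ^ 3 - (1) * x ^ 2 + (0) * x - 1 ∣ x ^ 8 - 1 :=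
  ⟨(1)*x^5 + (1)*x^4 + (1)*x^3 + (-1)*x^2 + (1), by linear_combination ((1)*x^5) * h3⟩

theorem dvd_pp {R : Type*} [CommRing R] (x : R) (h3 : (3 : R) = 0) :
    x ^ 3 - (1) * x ^ 2 + (1) * x - 1 ∣ x ^ 4 - 1 :=
  ⟨(1)*x^1 + (1), by linear_combination (0) * h3⟩

theorem dvd_pm {R : Type*} [CommRing R] (x : R) (h3 : (3 : R) = 0) :
    x ^ 3 - (1) * x ^ 2 + (-1) * x - 1 ∣ x ^ 13 - 1 :=
  ⟨(1)*x^10 + (1)*x^9 + (-1)*x^8 + (1)*x^7 + (1)*x^6 + (1)*x^5 + (-1)*x^3 + (-1)*x^1 + (1), by linear_combination ((1)*x^11 + (1)*x^7 + (1)*x^6 + (-1)*x^3) * h3⟩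

theorem dvd_mz {R : Type*} [CommRing R] (x : R) (h3 : (3 : R) = 0) :
    x ^ 3 - (-1) * x ^ 2 + (0) * x - 1 ∣ x ^ 13 - 1 :=
  ⟨(1)*x^10 + (-1)*x^9 + (1)*x^8 + (-1)*x^6 + (-1)*x^5 + (1)*x^4 + (1)*x^3 + (1)*x^2 + (1), by linear_combination ((1)*x^8 + (-1)*x^6 + (-1)*x^5) * h3⟩

theorem dvd_mp {R : Type*} [CommRing R] (x : R) (h3 : (3 : R) = 0) :
    x ^ 3 - (-1) * x ^ 2 + (1) * x - 1 ∣ x ^ 13 - 1 :=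
  ⟨(1)*x^10 + (-1)*x^9 + (-1)*x^7 + (1)*x^5 + (1)*x^4 + (1)*x^3 + (-1)*x^2 + (1)*x^1 + (1), by linear_combination ((1)*x^10 + (-1)*x^7 + (-1)*x^6 + (-1)*x^2) * h3⟩

theorem dvd_mm {R : Type*} [CommRing R] (x : R) (h3 : (3 : R) = 0) :
    x ^ 3 - (-1) * x ^ 2 + (-1) * x - 1 ∣ x ^ 6 - 1 :=
  ⟨(1)*x^3 + (-1)*x^2 + (-1)*x^1 + (1), by linear_combination ((1)*x^4 + (-1)*x^2) * h3⟩

theorem dvd9_7 {R : Type*} [CommRing R] (x t : R) (h3 : (3 : R) = 0) (ht : t ^ 2 + t - 1 = 0) :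
    x ^ 3 - t * x ^ 2 + t ^ 3 * x - 1 ∣ x ^ 7 - 1 :=
  ⟨(1)*x^4 + (1)*x^3*t^1 + (-1)*x^2 + (-1)*x^1*t^1 + (-1)*x^1 + (1), by linear_combination ((-1)*x^5*t^1 + (2)*x^5 + (-1)*x^4*t^2 + (1)*x^4*t^1 + (-2)*x^4 + (1)*x^3*t^1 + (-2)*x^3 + (1)*x^2*t^2 + (1)*x^2 + (-1)*x^1*t^1 + (1)*x^1) * ht + ((-1)*x^5*t^1 + (1)*x^5 + (1)*x^4*t^1 + (1)*x^3*t^1 + (-1)*x^3 + (-1)*x^1*t^1) * h3⟩

theorem dvd9_12 {R : Type*} [CommRing R] (x t : R) (h3 : (3 : R) = 0) (ht : t ^ 2 - t - 1 = 0) :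
    x ^ 3 - t * x ^ 2 + t ^ 3 * x - 1 ∣ x ^ 12 - 1 :=
  ⟨(1)*x^9 + (1)*x^8*t^1 + (-1)*x^7*t^1 + (-1)*x^6*t^1 + (1)*x^6 + (1)*x^5*t^1 + (1)*x^5 + (-1)*x^4*t^1 + (-1)*x^4 + (1)*x^3*t^1 + (1)*x^2*t^1 + (-1)*x^2 + (-1)*x^1*t^1 + (1)*x^1 + (1), by linear_combination ((-1)*x^10*t^1 + (-1)*x^9*t^2 + (-1)*x^9*t^1 + (-3)*x^9 + (1)*x^8*t^2 + (1)*x^8*t^1 + (1)*x^8 + (1)*x^7*t^2 + (2)*x^7 + (-1)*x^6*t^2 + (-2)*x^6*t^1 + (-4)*x^6 + (1)*x^5*t^2 + (2)*x^5*t^1 + (4)*x^5 + (-1)*x^4*t^2 + (-1)*x^4*t^1 + (-1)*x^4 + (-1)*x^3*t^2 + (-2)*x^3 + (1)*x^2*t^2 + (1)*x^2 + (-1)*x^1*t^1 + (-1)*x^1) * ht + ((-1)*x^9*t^1 + (-1)*x^9 + (1)*x^8*t^1 + (1)*x^7*t^1 + (1)*x^7 + (-3)*x^6*t^1 + (-1)*x^6 + (2)*x^5*t^1 + (2)*x^5 + (-1)*x^4*t^1 + (-1)*x^4 + (-1)*x^3 + (1)*x^2*t^1 + (-1)*x^1*t^1) * h3⟩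

theorem dvd9_8 {R : Type*} [CommRing R] (x t : R) (h3 : (3 : R) = 0) (ht : t ^ 2 + 1 = 0) :
    x ^ 3 - t * x ^ 2 + t ^ 3 * x - 1 ∣ x ^ 8 - 1 :=
  ⟨(1)*x^5 + (1)*x^4*t^1 + (1)*x^3*t^1 + (-1)*x^3 + (-1)*x^2*t^1 + (-1)*x^2 + (-1)*x^1*t^1 + (1), by linear_combination ((-1)*x^6*t^1 + (1)*x^6 + (-1)*x^5*t^2 + (2)*x^5 + (-1)*x^4*t^2 + (1)*x^4*t^1 + (1)*x^3*t^2 + (1)*x^3*t^1 + (-2)*x^3 + (1)*x^2*t^2 + (-1)*x^2 + (-1)*x^1*t^1) * ht + (0) * h3⟩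

theorem dvd4_5 {R : Type*} [CommRing R] (x t : R) (h2 : (2 : R) = 0) (ht : t ^ 2 + t + 1 = 0) :
    x ^ 3 - t * x ^ 2 + t * x - 1 ∣ x ^ 5 - 1 :=
  ⟨(-1)*x^2 + (-1)*x^1*t^1 + (-1), by linear_combination ((-1)*x^3 + (1)*x^2) * ht + ((1)*x^5 + (1)*x^3*t^1 + (1)*x^3 + (-1)*x^2*t^1 + (-1)*x^2 + (-1)) * h2⟩


theorem cayley3 {R : Type*} [CommRing R] (M : Matrix (Fin 3) (Fin 3) R) :
    M ^ 3 - M.trace • M ^ 2 + M.adjugate.trace • M - M.det • (1 : Matrix (Fin 3) (Fin 3) R) = 0 := by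
  rw [adjugate_fin_three, det_fin_three]
  ext i j
  fin_cases i <;> fin_cases j <;>
    simp [Matrix.trace, Fin.sum_univ_three, pow_succ, Matrix.mul_apply, Matrix.one_apply] <;> ring

theorem pow_eq_one {R : Type*} [CommRing R] (M : Matrix (Fin 3) (Fin 3) R) (hdet : M.det = 1) (n : ℕ)
    (hd : (X : R[X]) ^ 3 - C M.trace * X ^ 2 + C M.adjugate.trace * X - 1 ∣ X ^ n - 1) : M ^ n = 1 := by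
  have h1 := _root_.map_dvd (aeval M) hd
  have h2 : aeval M ((X : R[X]) ^ 3 - C M.trace * X ^ 2 + C M.adjugate.trace * X - 1) = 0 := by
    have h3 := cayley3 M
    rw [hdet, one_smul] at h3
    simp only [map_sub, map_add, map_mul, map_pow, aeval_X, aeval_C, map_one]
    rw [← h3, Algebra.algebraMap_eq_smul_one, Algebra.algebraMap_eq_smul_one, smul_mul_assoc, smul_mul_assoc,
      one_mul, one_mul]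
  rw [h2, zero_dvd_iff, map_sub, map_pow, aeval_X, map_one, sub_eq_zero] at h1
  exact h1

end Cfsg.Agent.H20.Mat3
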