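import Mathlib
import Cfsg.Agent.H20_Derange

set_option autoImplicit false

namespace Cfsg.Agent.H20.Prim

open MulAction Cfsg.Agent.H20.MinNormal Cfsg.Agent.H20.Basic Cfsg.Agent.H20.Derange

variable {G : Type*} [Group G] {Ω : Type*} [MulAction G Ω]

theorem normal_transitive [FaithfulSMul G Ω] (hprim : IsPreprimitive G Ω) (N : Subgroup G) (hN : N.Normal)
    (hne : N ≠ ⊥) : ∀ x y : Ω, ∃ n ∈ N, n • x = y := by
  obtain ⟨n0, hn0, hn1⟩ : ∃ x ∈ N, x ≠ 1 := by
    by_contra h
    push Not at h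
    exact hne ((Subgroup.eq_bot_iff_forall _).2 h)
  have hfix : fixedPoints N Ω ≠ Set.univ := by
    intro h
    apply hn1
    apply FaithfulSMul.eq_of_smul_eq_smul (α := Ω)
    intro x
    have : x ∈ fixedPoints N Ω := by rw [h]; trivial
    rw [one_smul]
    exact this ⟨n0, hn0⟩
  have h1 : IsPretransitive N Ω := IsQuasiPreprimitive.isPretransitive_of_normal hfix
  intro x y
  obtain ⟨n, hn⟩ := h1.exists_smul_eq x y
  exact ⟨n, n.2, hn⟩

/-- If `C` is transitive and centralizes `m`, and `m` fixes a point, then `m = 1`. -/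
theorem eq_one_of_centralizes [FaithfulSMul G Ω] (C : Subgroup G) (hC : ∀ x y : Ω, ∃ n ∈ C, n • x = y) (m : G)
    (hm : ∀ c ∈ C, m * c = c * m) (ω : Ω) (hω : m • ω = ω) : m = 1 := by
  apply FaithfulSMul.eq_of_smul_eq_smul (α := Ω)
  intro x
  obtain ⟨c, hc, hx⟩ := hC ω x
  rw [one_smul, ← hx, ← mul_smul, hm c hc, mul_smul, hω]

theorem isSimple_of_factor [Finite G] {T : Subgroup G} (h : Factor T T) : IsSimpleGroup T := by
  have hnt : Nontrivial T := (Subgroup.nontrivial_iff_ne_bot T).2 h.ne_bot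
  refine { exists_pair_ne := hnt.exists_pair_ne, eq_bot_or_eq_top_of_normal := ?_ }
  intro K hK
  by_cases hK1 : K = ⊥
  · exact Or.inl hK1
  · right
    have h1 : K.map T.subtype = T := by
      apply h.simple _ (Subgroup.map_subtype_le _)
      · intro hh
        exact hK1 ((Subgroup.map_eq_bot_iff_of_injective _ T.subtype_injective).1 hh)
      · rintro t ht _ ⟨k, hk, rfl⟩
        exact ⟨⟨t, ht⟩ * k * ⟨t, ht⟩⁻¹, hK.conj_mem k hk _, rfl⟩
    rw [eq_top_iff]
    intro x _
    have : (x : G) ∈ K.map T.subtype := by rw [h1]; exact x.2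
    obtain ⟨y, hy, hy2⟩ := this
    have : y = x := Subtype.ext hy2
    exact this ▸ hy

def AlmostSimple (G : Type*) [Group G] : Prop :=
  ∃ T : Subgroup G, T.Normal ∧ IsSimpleGroup T ∧ ¬ IsMulCommutative T ∧ Subgroup.centralizer (T : Set G) = ⊥

theorem exists_min_normal [Finite G] [Nontrivial G] : ∃ M : Subgroup G, M.Normal ∧ M ≠ ⊥ ∧
    ∀ N : Subgroup G, N.Normal → N ≠ ⊥ → N ≤ M → N = M := by
  obtain ⟨M, hM⟩ := (Set.toFinite {N : Subgroup G | N.Normal ∧ N ≠ ⊥}).exists_minimal ⟨⊤, inferInstance, top_ne_bot⟩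
  exact ⟨M, hM.prop.1, hM.prop.2, fun N hN hN1 hle => le_antisymm hle (hM.le_of_le ⟨hN, hN1⟩ hle)⟩

/-- Trichotomy for (quasi)primitive groups. -/
theorem cases [Finite G] [Nontrivial G] [FaithfulSMul G Ω]
    (hq : ∀ N : Subgroup G, N.Normal → N ≠ ⊥ → ∀ x y : Ω, ∃ n ∈ N, n • x = y) :
    (∃ M : Subgroup G, M.Normal ∧ M ≠ ⊥ ∧ (∀ a ∈ M, ∀ b ∈ M, a * b = b * a) ∧ (∀ m ∈ M, ∀ ω : Ω, m • ω = ω → m = 1)) ∨
    AlmostSimple G ∨
    (∃ M T : Subgroup G, M.Normal ∧ M ≠ ⊥ ∧ Factor M T ∧ (T ≠ M ∨ Subgroup.centralizer (M : Set G) ≠ ⊥)) := by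
  obtain ⟨M, hM, hMne, hmin⟩ := exists_min_normal (G := G)
  by_cases hab : ∀ a ∈ M, ∀ b ∈ M, a * b = b * a
  · left
    refine ⟨M, hM, hMne, hab, fun m hm ω hω => ?_⟩
    exact eq_one_of_centralizes M (hq M hM hMne) m (fun c hc => hab m hm c hc) ω hω
  · right
    push Not at hab
    obtain ⟨T, hT⟩ := exists_factor M hM hMne hmin hab
    by_cases h : T ≠ M ∨ Subgroup.centralizer (M : Set G) ≠ ⊥
    · exact Or.inr ⟨M, T, hM, hMne, hT, h⟩
    · left
      push Not at h
      obtain ⟨h1, h2⟩ := h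
      subst h1
      refine ⟨T, hM, isSimple_of_factor hT, ?_, h2⟩
      intro hc
      obtain ⟨a, ha, b, hb, hne⟩ := hT.nonab
      exact hne (congrArg T.subtype (hc.is_comm.comm ⟨a, ha⟩ ⟨b, hb⟩))

theorem nontrivial_of_transitive (htr : ∀ x y : Ω, ∃ n : G, n • x = y) [Finite Ω] (hΩ : 2 ≤ Nat.card Ω) : Nontrivial G := by
  obtain ⟨a, b, hab⟩ := (Finite.one_lt_card_iff_nontrivial.1 (by omega : 1 < Nat.card Ω)).exists_pair_ne
  obtain ⟨g, hg⟩ := htr a b
  refine ⟨g, 1, ?_⟩
  rintro rfl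
  rw [one_smul] at hg
  exact hab hg

/-- the type of conjugacy classes of derangements -/
abbrev DC (G Ω : Type*) [Group G] [MulAction G Ω] := {c : ConjClasses G // ∃ g : G, ConjClasses.mk g = c ∧ ∀ ω : Ω, g • ω ≠ ω}

theorem three_le_card_DC [Finite G] {d0 d1 d2 : G} (h0 : Der Ω d0) (h1 : Der Ω d1) (h2 : Der Ω d2)
    (h01 : ¬ IsConj d0 d1) (h02 : ¬ IsConj d0 d2) (h12 : ¬ IsConj d1 d2) : 3 ≤ Nat.card (DC G Ω) := by
  classical
  have : Finite (ConjClasses G) := inferInstance
  have : Finite (DC G Ω) := Subtype.finite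
  let f : Fin 3 → DC G Ω := ![⟨ConjClasses.mk d0, d0, rfl, h0⟩, ⟨ConjClasses.mk d1, d1, rfl, h1⟩, ⟨ConjClasses.mk d2, d2, rfl, h2⟩]
  have e01 : ConjClasses.mk d0 ≠ ConjClasses.mk d1 := fun h => h01 (ConjClasses.mk_eq_mk_iff_isConj.1 h)
  have e02 : ConjClasses.mk d0 ≠ ConjClasses.mk d2 := fun h => h02 (ConjClasses.mk_eq_mk_iff_isConj.1 h)
  have e12 : ConjClasses.mk d1 ≠ ConjClasses.mk d2 := fun h => h12 (ConjClasses.mk_eq_mk_iff_isConj.1 h)
  have hf : Function.Injective f := by
    intro i j hij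
    have hij' := congrArg Subtype.val hij
    fin_cases i <;> fin_cases j <;> first | rfl | (exfalso; simp [f] at hij')
    · exact e01 hij'
    · exact e02 hij'
    · exact e01 hij'.symm
    · exact e12 hij'
    · exact e02 hij'.symm
    · exact e12 hij'.symm
  have := Nat.card_le_card_of_injective f hf
  simpa using this

theorem two_le_card_DC [Finite G] {d0 d1 : G} (h0 : Der Ω d0) (h1 : Der Ω d1)
    (h01 : ¬ IsConj d0 d1) : 2 ≤ Nat.card (DC G Ω) := by
  classical
  have : Finite (ConjClasses G) := inferInstance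
  have : Finite (DC G Ω) := Subtype.finite
  let f : Fin 2 → DC G Ω := ![⟨ConjClasses.mk d0, d0, rfl, h0⟩, ⟨ConjClasses.mk d1, d1, rfl, h1⟩]
  have hf : Function.Injective f := by
    intro i j hij
    have hij' := congrArg Subtype.val hij
    fin_cases i <;> fin_cases j <;> first | rfl | (exfalso; simp [f] at hij')
    · exact h01 (ConjClasses.mk_eq_mk_iff_isConj.1 hij')
    · exact h01 (ConjClasses.mk_eq_mk_iff_isConj.1 hij'.symm)
  have := Nat.card_le_card_of_injective f hf
  simpa using this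

/-- In a group with an abelian regular normal subgroup `M`: if `h ≠ 1` fixes two points then there is a derangement
outside `M`. -/
theorem exists_der_outside [Finite G] [FaithfulSMul G Ω] (M : Subgroup G) (hM : M.Normal)
    (htr : ∀ x y : Ω, ∃ n ∈ M, n • x = y)
    (hreg : ∀ m ∈ M, ∀ ω : Ω, m • ω = ω → m = 1) (h : G) (h1 : h ≠ 1) (β γ : Ω) (hβγ : β ≠ γ)
    (hβ : h • β = β) (hγ : h • γ = γ) : ∃ d : G, Der Ω d ∧ d ∉ M := by
  classical
  obtain ⟨m0, hm0, hm0γ⟩ := htr β γ
  have hcomm : h * m0 * h⁻¹ = m0 := by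
    have h2 : h * m0 * h⁻¹ ∈ M := hM.conj_mem m0 hm0 h
    have h3 : m0⁻¹ * (h * m0 * h⁻¹) = 1 := by
      apply hreg _ (M.mul_mem (M.inv_mem hm0) h2) β
      have h4 : h⁻¹ • β = β := by rw [inv_smul_eq_iff, hβ]
      rw [mul_smul, mul_smul, mul_smul, h4, hm0γ, hγ, ← hm0γ, inv_smul_smul]
    rw [inv_mul_eq_one] at h3
    exact h3.symm
  have hm01 : m0 ≠ 1 := by
    rintro rfl
    rw [one_smul] at hm0γ
    exact hβγ hm0γ
  let f : M → M := fun m => ⟨m * (h * (m : G)⁻¹ * h⁻¹), M.mul_mem m.2 (hM.conj_mem _ (M.inv_mem m.2) h)⟩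
  have hninj : ¬ Function.Injective f := by
    intro hinj
    apply hm01
    have : f ⟨m0, hm0⟩ = f 1 := by
      apply Subtype.ext
      show m0 * (h * m0⁻¹ * h⁻¹) = (1 : G) * (h * (1 : G)⁻¹ * h⁻¹)
      have e : h * m0⁻¹ * h⁻¹ = (h * m0 * h⁻¹)⁻¹ := by group
      rw [e, hcomm]; group
    exact congrArg Subtype.val (hinj this)
  have hnsurj : ¬ Function.Surjective f := fun hs => hninj (Finite.injective_iff_surjective.2 hs)
  unfold Function.Surjective at hnsurj
  push Not at hnsurj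
  obtain ⟨⟨v, hv⟩, hvf⟩ := hnsurj
  refine ⟨v * h, ?_, ?_⟩
  · intro ω hω
    obtain ⟨m, hm, hmω⟩ := htr β ω
    apply hvf ⟨m, hm⟩
    apply Subtype.ext
    show m * (h * m⁻¹ * h⁻¹) = v
    -- v (h m h⁻¹) β = m β
    have h2 : (m⁻¹ * (v * (h * m * h⁻¹))) = 1 := by
      apply hreg _ (M.mul_mem (M.inv_mem hm) (M.mul_mem hv (hM.conj_mem m hm h))) β
      have h4 : h⁻¹ • β = β := by rw [inv_smul_eq_iff, hβ]
      have e : (m⁻¹ * (v * (h * m * h⁻¹))) = m⁻¹ * (v * h) * m * h⁻¹ := by group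
      rw [e, mul_smul, h4, mul_smul, hmω, mul_smul, hω, ← hmω, inv_smul_smul]
    have h3 : v = m * (h * m * h⁻¹)⁻¹ := by
      rw [inv_mul_eq_one] at h2
      calc v = (v * (h * m * h⁻¹)) * (h * m * h⁻¹)⁻¹ := by group
        _ = _ := by rw [← h2]
    rw [h3]; group
  · intro hvh
    apply h1
    apply hreg h ?_ β hβ
    have := M.mul_mem (M.inv_mem hv) hvh
    simpa using this

/-- counting derangements when every non-identity element fixes at most one point -/
theorem card_der [Finite G] [Finite Ω] [Nonempty Ω] (htr : ∀ x y : Ω, ∃ n : G, n • x = y)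
    (hfix : ∀ g : G, g ≠ 1 → ∀ a b : Ω, g • a = a → g • b = b → a = b) :
    Nat.card {g : G // Der Ω g} + 1 = Nat.card Ω := by
  classical
  have : Fintype G := Fintype.ofFinite G
  have : Fintype Ω := Fintype.ofFinite Ω
  have htr' : IsPretransitive G Ω := ⟨htr⟩
  have hb := sum_card_fixedBy_eq_card_orbits_mul_card_group G Ω
  have h1 : Fintype.card (Quotient (orbitRel G Ω)) = 1 := by
    rw [Fintype.card_eq_one_iff_nonempty_unique]
    exact (pretransitive_iff_unique_quotient_of_nonempty G Ω).1 inferInstance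
  rw [h1, one_mul] at hb
  -- for g: card fixedBy g + [Der g] = 1 + (n-1)[g=1]
  have h2 : ∀ g : G, Fintype.card (fixedBy Ω g) + (if Der Ω g then 1 else 0) =
      1 + (if g = 1 then Fintype.card Ω - 1 else 0) := by
    intro g
    have hpos : 1 ≤ Fintype.card Ω := Fintype.card_pos
    by_cases hg : g = 1
    · subst hg
      have h3 : ¬ Der Ω (1 : G) := fun h => h (Classical.arbitrary Ω) (one_smul _ _)
      have e : Fintype.card (fixedBy Ω (1 : G)) = Fintype.card Ω :=
        Fintype.card_congr (Equiv.subtypeUnivEquiv (fun x => by simp))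
      simp only [h3, if_false, if_true, e]
      omega
    · by_cases hd : Der Ω g
      · have e : Fintype.card (fixedBy Ω g) = 0 := by
          rw [Fintype.card_eq_zero_iff]
          exact ⟨fun x => hd x.1 x.2⟩
        simp [hd, hg, e]
      · have e : Fintype.card (fixedBy Ω g) = 1 := by
          rw [Fintype.card_eq_one_iff]
          unfold Der at hd
          push Not at hd
          obtain ⟨ω, hω⟩ := hd
          exact ⟨⟨ω, hω⟩, fun y => Subtype.ext (hfix g hg y.1 ω y.2 hω)⟩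
        simp [hd, hg, e]
  have h3 := Finset.sum_congr rfl (fun g (_ : g ∈ Finset.univ) => h2 g)
  rw [Finset.sum_add_distrib, Finset.sum_add_distrib, hb] at h3
  simp only [Finset.sum_const, Finset.card_univ, smul_eq_mul, mul_one, Finset.sum_ite_eq', Finset.mem_univ, if_true] at h3
  have h4 : (∑ g : G, if Der Ω g then 1 else 0) = Nat.card {g : G // Der Ω g} := by
    rw [Nat.card_eq_fintype_card, Fintype.card_subtype, Finset.card_filter]
  have hpos : 1 ≤ Fintype.card Ω := Fintype.card_pos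
  rw [h4] at h3
  rw [Nat.card_eq_fintype_card (α := Ω)]
  omega

/-- centralizers of derangements are small when every non-identity element fixes at most one point -/
theorem card_centralizer_le [Finite G] [Finite Ω] [Nonempty Ω]
    (hfix : ∀ g : G, g ≠ 1 → ∀ a b : Ω, g • a = a → g • b = b → a = b) (d : G) (hd : Der Ω d) :
    Nat.card (Subgroup.centralizer ({d} : Set G)) ≤ Nat.card Ω := by
  obtain ⟨α⟩ : Nonempty Ω := inferInstance
  apply Nat.card_le_card_of_injective (fun c : Subgroup.centralizer ({d} : Set G) => (c : G) • α)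
  intro c c' h
  have h1 : ((c : G)⁻¹ * c') • α = α := by
    rw [mul_smul, inv_smul_eq_iff]; exact h.symm
  have h2 : (c : G)⁻¹ * c' ∈ Subgroup.centralizer ({d} : Set G) := Subgroup.mul_mem _ (Subgroup.inv_mem _ c.2) c'.2
  rw [Subgroup.mem_centralizer_singleton_iff] at h2
  by_contra hne
  have h3 : (c : G)⁻¹ * c' ≠ 1 := by
    intro h4
    apply hne
    rw [inv_mul_eq_one] at h4
    exact Subtype.ext h4
  have h4 : ((c : G)⁻¹ * c') • (d • α) = d • α := by
    rw [← mul_smul, h2, mul_smul, h1]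
  exact hd α (hfix _ h3 _ _ h4 h1)

theorem card_class_mul_card_centralizer [Finite G] (d : G) :
    Nat.card {x : G // IsConj d x} * Nat.card (Subgroup.centralizer ({d} : Set G)) = Nat.card G := by
  have e : Nat.card {x : G // IsConj d x} = Nat.card (orbit (ConjAct G) d) := by
    apply Nat.card_congr
    refine Equiv.subtypeEquivRight (fun x => ?_)
    rw [ConjAct.mem_orbit_conjAct, isConj_comm]
  have h3 := index_stabilizer (ConjAct G) d
  have h4 : Nat.card (stabilizer (ConjAct G) d) = Nat.card (Subgroup.centralizer ({d} : Set G)) := by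
    apply Nat.card_congr
    have hiff : ∀ y : ConjAct G, y ∈ stabilizer (ConjAct G) d ↔ ConjAct.ofConjAct y ∈ Subgroup.centralizer ({d} : Set G) := by
      intro y
      rw [Subgroup.mem_centralizer_singleton_iff]
      constructor
      · intro hy
        have h5 : y • d = d := hy
        rw [ConjAct.smul_def] at h5
        calc ConjAct.ofConjAct y * d = (ConjAct.ofConjAct y * d * (ConjAct.ofConjAct y)⁻¹) * ConjAct.ofConjAct y := by group
          _ = _ := by rw [h5]
      · intro hx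
        show y • d = d
        rw [ConjAct.smul_def, hx]; group
    exact Equiv.subtypeEquiv ConjAct.ofConjAct.toEquiv (fun y => hiff y)
  rw [e, ← h4]
  have h5 : Nat.card (orbit (ConjAct G) d) = (stabilizer (ConjAct G) d).index := h3.symm
  rw [h5, mul_comm]
  exact Subgroup.card_mul_index (stabilizer (ConjAct G) d)

end Cfsg.Agent.H20.Prim
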