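import Mathlib
import Cfsg.Agent.H20_Prim

set_option autoImplicit false

namespace Cfsg.Agent.H20.Affine

open MulAction Cfsg.Agent.H20.MinNormal Cfsg.Agent.H20.Basic Cfsg.Agent.H20.Derange Cfsg.Agent.H20.Prim

variable {G : Type*} [Group G] {Ω : Type*} [MulAction G Ω]

theorem finite_DC [Finite G] : Finite (DC G Ω) := Subtype.finite

/-- all non-identity elements of a regular normal abelian subgroup conjugate: 2-transitive -/
theorem two_trans (M : Subgroup G) (htr : ∀ x y : Ω, ∃ n ∈ M, n • x = y)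
    (hab : ∀ a ∈ M, ∀ b ∈ M, a * b = b * a)
    (hconj : ∀ m ∈ M, ∀ m' ∈ M, m ≠ 1 → m' ≠ 1 → IsConj m m') : IsMultiplyPretransitive G Ω 2 := by
  rw [is_two_pretransitive_iff]
  intro a b c d hab' hcd
  obtain ⟨m, hm, hmab⟩ := htr a b
  obtain ⟨m', hm', hmcd⟩ := htr c d
  have h1 : m ≠ 1 := by rintro rfl; rw [one_smul] at hmab; exact hab' hmab
  have h2 : m' ≠ 1 := by rintro rfl; rw [one_smul] at hmcd; exact hcd hmcd
  obtain ⟨g, hg⟩ := isConj_iff.1 (hconj m hm m' hm' h1 h2)
  obtain ⟨n, hn, hnc⟩ := htr (g • a) c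
  refine ⟨n * g, by rw [mul_smul, hnc], ?_⟩
  have e : n * g * m = m' * (n * g) := by
    have h3 : n * m' = m' * n := hab n hn m' hm'
    calc n * g * m = n * (g * m * g⁻¹) * g := by group
      _ = n * m' * g := by rw [hg]
      _ = m' * (n * g) := by rw [h3]; group
  rw [← hmab, ← mul_smul, e, mul_smul, mul_smul, hnc, hmcd]

theorem sharp_iff [Finite G] [Finite Ω] [FaithfulSMul G Ω] (hΩ : 2 ≤ Nat.card Ω) (hprim : IsPreprimitive G Ω)
    (hnas : ¬ AlmostSimple G) (h1 : Nat.card (DC G Ω) = 1) :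
    IsMultiplyPretransitive G Ω 2 ∧ ∀ g : G, g ≠ 1 → ∀ a b : Ω, a ≠ b → g • a = a → g • b ≠ b := by
  have hne : Nonempty Ω := Finite.card_pos_iff.1 (by omega)
  have hnt : Nontrivial G := nontrivial_of_transitive (Ω := Ω) (fun x y => hprim.exists_smul_eq x y) hΩ
  have hfin : Finite (DC G Ω) := finite_DC
  rcases cases (G := G) (Ω := Ω) (normal_transitive hprim) with ⟨M, hM, hMne, hab, hreg⟩ | h | ⟨M, T, hM, hMne, hF, h⟩
  · have htr := normal_transitive hprim M hM hMne
    have hder : ∀ m ∈ M, m ≠ 1 → Der Ω m := fun m hm hm1 ω hω => hm1 (hreg m hm ω hω)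
    obtain ⟨m0, hm0, hm01⟩ : ∃ x ∈ M, x ≠ 1 := by
      by_contra h
      push Not at h
      exact hMne ((Subgroup.eq_bot_iff_forall _).2 h)
    refine ⟨two_trans M htr hab ?_, ?_⟩
    · intro m hm m' hm' h2 h3
      by_contra hc
      have := two_le_card_DC (hder m hm h2) (hder m' hm' h3) hc
      omega
    · intro g hg a b hab' hga hgb
      obtain ⟨d, hd, hdM⟩ := exists_der_outside M hM htr hreg g hg a b hab' hga hgb
      have : ¬ IsConj d m0 := by
        intro hc
        obtain ⟨c, hc⟩ := isConj_iff.1 hc.symm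
        exact hdM (hc ▸ hM.conj_mem m0 hm0 c)
      have := two_le_card_DC hd (hder m0 hm0 hm01) this
      omega
  · exact absurd h hnas
  · exfalso
    obtain ⟨d0, d1, d2, h0, h1', h2, h3, h4, h5⟩ := three_derangements (normal_transitive hprim) M T hM hMne hF h
    have := three_le_card_DC h0 h1' h2 h3 h4 h5
    omega

theorem card_DC_eq_one [Finite G] [Finite Ω] [FaithfulSMul G Ω] (hΩ : 2 ≤ Nat.card Ω)
    (h2 : IsMultiplyPretransitive G Ω 2) (hs : ∀ g : G, g ≠ 1 → ∀ a b : Ω, a ≠ b → g • a = a → g • b ≠ b) :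
    Nat.card (DC G Ω) = 1 := by
  classical
  have hne : Nonempty Ω := Finite.card_pos_iff.1 (by omega)
  have hfin : Finite (DC G Ω) := finite_DC
  have hfix : ∀ g : G, g ≠ 1 → ∀ a b : Ω, g • a = a → g • b = b → a = b := by
    intro g hg a b ha hb
    by_contra hne
    exact hs g hg a b hne ha hb
  have htr0 : IsPretransitive G Ω := isPretransitive_of_is_two_pretransitive (h2 := h2)
  have htr : ∀ x y : Ω, ∃ n : G, n • x = y := htr0.exists_smul_eq
  have hcard := card_der (G := G) htr hfix
  -- order of G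
  obtain ⟨a, b, hab⟩ := (Finite.one_lt_card_iff_nontrivial.1 (by omega : 1 < Nat.card Ω)).exists_pair_ne
  have hG : Nat.card G = Nat.card Ω * (Nat.card Ω - 1) := by
    have h3 := card_stab_mul (⊤ : Subgroup G) (Ω := Ω) (fun x y => by
      obtain ⟨g, hg⟩ := htr x y
      exact ⟨g, trivial, hg⟩) a
    rw [top_inf_eq, Subgroup.card_top] at h3
    rw [← h3]
    congr 1
    -- stabilizer acts regularly on the complement of a
    have e : Nat.card {x : Ω // x ≠ a} = Nat.card Ω - 1 := by
      have : Fintype Ω := Fintype.ofFinite Ω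
      rw [Nat.card_eq_fintype_card, Nat.card_eq_fintype_card, Fintype.card_subtype_compl, Fintype.card_subtype_eq]
    rw [← e]
    apply Nat.card_congr
    apply Equiv.ofBijective (fun g : stabilizer G a => (⟨(g : G) • b, fun h => hab (by
      have h4 : (g : G) • a = a := g.2
      exact smul_left_cancel (g : G) (by rw [h4, h]))⟩ : {x : Ω // x ≠ a}))
    constructor
    · intro g g' hgg
      have h4 := congrArg Subtype.val hgg
      by_contra hne'
      have h5 : (g : G)⁻¹ * g' ≠ 1 := by
        intro h6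
        rw [inv_mul_eq_one] at h6
        exact hne' (Subtype.ext h6)
      apply hs _ h5 a b hab
      · rw [mul_smul, inv_smul_eq_iff, show (g' : G) • a = a from g'.2, show (g : G) • a = a from g.2]
      · rw [mul_smul, inv_smul_eq_iff]
        exact h4.symm
    · rintro ⟨x, hx⟩
      rw [is_two_pretransitive_iff] at h2
      obtain ⟨g, hg1, hg2⟩ := h2 hab (Ne.symm hx)
      exact ⟨⟨g, hg1⟩, Subtype.ext hg2⟩
  -- each class of derangements has at least n-1 elements
  have hcl : ∀ d : G, Der Ω d → ∀ x : G, Der Ω x → IsConj d x := by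
    intro d hd
    have h3 := card_class_mul_card_centralizer d
    have h4 := card_centralizer_le hfix d hd
    have h5 : Nat.card Ω - 1 ≤ Nat.card {x : G // IsConj d x} := by
      by_contra hlt
      push Not at hlt
      have h6 : Nat.card {x : G // IsConj d x} * Nat.card (Subgroup.centralizer ({d} : Set G)) < Nat.card Ω * (Nat.card Ω - 1) := by
        calc _ ≤ Nat.card {x : G // IsConj d x} * Nat.card Ω := Nat.mul_le_mul_left _ h4
          _ < (Nat.card Ω - 1) * Nat.card Ω := by
            apply Nat.mul_lt_mul_of_pos_right hlt (by omega)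
          _ = _ := by ring
      omega
    have hDd : ∀ x : G, IsConj d x → Der Ω x := by
      intro x hx ω hω
      obtain ⟨c, hc⟩ := isConj_iff.1 hx
      apply hd (c⁻¹ • ω)
      rw [← hc, mul_smul, mul_smul] at hω
      rw [eq_inv_smul_iff, hω]
    let f : {x : G // IsConj d x} → {g : G // Der Ω g} := fun x => ⟨x.1, hDd x.1 x.2⟩
    have hf : Function.Injective f := fun x y h => Subtype.ext (congrArg (fun z : {g : G // Der Ω g} => z.1) h)
    have hsurj : Function.Surjective f := by
      have h6 : Nat.card {x : G // IsConj d x} = Nat.card {g : G // Der Ω g} := by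
        have := Nat.card_le_card_of_injective f hf
        omega
      exact ((Nat.bijective_iff_injective_and_card f).2 ⟨hf, h6⟩).2
    intro x hx
    obtain ⟨y, hy⟩ := hsurj ⟨x, hx⟩
    have h7 : (y : G) = x := congrArg Subtype.val hy
    rw [← h7]
    exact y.2
  -- existence
  have hpos : 0 < Nat.card {g : G // Der Ω g} := by omega
  obtain ⟨⟨d, hd⟩⟩ := (Finite.card_pos_iff.1 hpos)
  rw [Nat.card_eq_one_iff_unique]
  refine ⟨⟨?_⟩, ⟨⟨ConjClasses.mk d, d, rfl, hd⟩⟩⟩
  rintro ⟨c, g, rfl, hg⟩ ⟨c', g', rfl, hg'⟩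
  apply Subtype.ext
  exact ConjClasses.mk_eq_mk_iff_isConj.2 (hcl g hg g' hg')

end Cfsg.Agent.H20.Affine
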