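import Cfsg.Agent.H8_Act
import Cfsg.Agent.H20_Alt6R

/-!
Permutation networks of an action on 72 points. 
-/

set_option autoImplicit false
set_option maxRecDepth 1000000

namespace Cfsg.Agent.H20.Alt6L

open Cfsg.Agent.H8.CE Cfsg.Agent.H8.Net Cfsg.Agent.H8.Act

def n1 : Nt := (.st (nat_lit 32) (nat_lit 0x27aed04d)
  (.st (nat_lit 16) (nat_lit 0x6a030000ecf5)
  (.st (nat_lit 8) (nat_lit 0x9d001d0083008d)
  (.st (nat_lit 4) (nat_lit 0xe0a0c080603040c)
  (.st (nat_lit 2) (nat_lit 0x33012330121333010)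
  (.st (nat_lit 1) (nat_lit 0x551114441411114441)
  (.st (nat_lit 2) (nat_lit 0x2000002202002200)
  (.st (nat_lit 4) (nat_lit 0xc04000608000a0e)
  (.st (nat_lit 8) (nat_lit 0x72007c00e20062)
  (.st (nat_lit 16) (nat_lit 0x110a000015fc)
  (.st (nat_lit 32) (nat_lit 0xd8510eb2)
  .nil)))))))))))

def n2 : Nt := (.st (nat_lit 64) (nat_lit 0xd800000000000000)
  (.st (nat_lit 32) (nat_lit 0xd800000000000000c8000001)
  (.st (nat_lit 16) (nat_lit 0xd8000000c32600001d99)
  (.st (nat_lit 8) (nat_lit 0x9800b4004800f7003b)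
  (.st (nat_lit 4) (nat_lit 0x40c0f020f040c010e00)
  (.st (nat_lit 2) (nat_lit 0x20201023212212012113)
  (.st (nat_lit 1) (nat_lit 0x14115404411544141404)
  (.st (nat_lit 2) (nat_lit 0x20020002222002000002)
  (.st (nat_lit 4) (nat_lit 0x402000e000800000804)
  (.st (nat_lit 8) (nat_lit 0x58001e002c00c000c8)
  (.st (nat_lit 16) (nat_lit 0xd80000002d28000018e4)
  (.st (nat_lit 32) (nat_lit 0xd800000000000000c8000002)
  (.st (nat_lit 64) (nat_lit 0xd800000000000000)
  .nil)))))))))))))

def n3 : Nt := (.st (nat_lit 64) (nat_lit 0xd800000000000000)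
  (.st (nat_lit 32) (nat_lit 0xd80000000000000059fffb7d)
  (.st (nat_lit 16) (nat_lit 0xd80000007b5600002320)
  (.st (nat_lit 8) (nat_lit 0x58003f0033001600c1)
  (.st (nat_lit 4) (nat_lit 0x4060c0d0b040b0a0105)
  (.st (nat_lit 2) (nat_lit 0x20023113301202012231)
  (.st (nat_lit 1) (nat_lit 0x14111111114005411445)
  (.st (nat_lit 2) (nat_lit 0x20202002200000202020)
  (.st (nat_lit 4) (nat_lit 0x40808020e0808000c0c)
  (.st (nat_lit 8) (nat_lit 0x98004800d400b40076)
  (.st (nat_lit 16) (nat_lit 0xd80000007ee800000364)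
  (.st (nat_lit 32) (nat_lit 0xd8000000000000007f9d7fee)
  (.st (nat_lit 64) (nat_lit 0xd800000000000000)
  .nil)))))))))))))

def n4 : Nt := (.st (nat_lit 64) (nat_lit 0xd392a08200000000)
  (.st (nat_lit 32) (nat_lit 0x40122014000000005b8ee4e0)
  (.st (nat_lit 16) (nat_lit 0x1190000040fa00001cc100005050)
  (.st (nat_lit 8) (nat_lit 0x100086000000600000008c00bc0058)
  (.st (nat_lit 4) (nat_lit 0x200030000060006010c090704040902)
  (.st (nat_lit 2) (nat_lit 0x20002100002200030122330320212200)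
  (.st (nat_lit 1) (nat_lit 0x10001000000400140440544040041404)
  (.st (nat_lit 2) (nat_lit 0x200020200000020002202)
  (.st (nat_lit 4) (nat_lit 0x2000200000c00040000000a00080c00)
  (.st (nat_lit 8) (nat_lit 0x900086000000600000009000c0005c)
  (.st (nat_lit 16) (nat_lit 0x9190000040fa00005cac00005840)
  (.st (nat_lit 32) (nat_lit 0x40122014000000005ba7aac4)
  (.st (nat_lit 64) (nat_lit 0xd392a08200000000)
  .nil)))))))))))))

def n5 : Nt := (.st (nat_lit 64) (nat_lit 0xd392a08200000000)
  (.st (nat_lit 32) (nat_lit 0x40122014000000005ba7aac4)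
  (.st (nat_lit 16) (nat_lit 0x9190000040fa0000431300005840)
  (.st (nat_lit 8) (nat_lit 0x900086000000600090004000d0005c)
  (.st (nat_lit 4) (nat_lit 0x2000d0000020001080703020008050e)
  (.st (nat_lit 2) (nat_lit 0x1000002200102310120220230320)
  (.st (nat_lit 1) (nat_lit 0x10000100004000111104144040010540)
  (.st (nat_lit 2) (nat_lit 0x20000200002000002002202020020000)
  (.st (nat_lit 4) (nat_lit 0x2000c0000080000080204040404000c)
  (.st (nat_lit 8) (nat_lit 0x10008600000060008c002000ac0058)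
  (.st (nat_lit 16) (nat_lit 0x1190000040fa0000031e00005050)
  (.st (nat_lit 32) (nat_lit 0x40122014000000005b8ee4e0)
  (.st (nat_lit 64) (nat_lit 0xd392a08200000000)
  .nil)))))))))))))

def n6 : Nt := (.st (nat_lit 64) (nat_lit 0xd392a08200000000)
  (.st (nat_lit 32) (nat_lit 0x40122014000000005b8ee4e0)
  (.st (nat_lit 16) (nat_lit 0x1190000040fa00001cc100005050)
  (.st (nat_lit 8) (nat_lit 0x100086000000600000008c00bc0058)
  (.st (nat_lit 4) (nat_lit 0x200030000060006010c090704040902)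
  (.st (nat_lit 2) (nat_lit 0x20002100002200030122330320212200)
  (.st (nat_lit 1) (nat_lit 0x10001000000400140440544040041404)
  (.st (nat_lit 2) (nat_lit 0x200020200000020002202)
  (.st (nat_lit 4) (nat_lit 0x2000200000c00040000000a00080c00)
  (.st (nat_lit 8) (nat_lit 0x900086000000600000009000c0005c)
  (.st (nat_lit 16) (nat_lit 0x9190000040fa00005cac00005840)
  (.st (nat_lit 32) (nat_lit 0x40122014000000005ba7aac4)
  (.st (nat_lit 64) (nat_lit 0xd392a08200000000)
  .nil)))))))))))))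

def n7 : Nt := (.st (nat_lit 64) (nat_lit 0xd392a08200000000)
  (.st (nat_lit 32) (nat_lit 0x40122014000000005ba7aac4)
  (.st (nat_lit 16) (nat_lit 0x9190000040fa0000431300005840)
  (.st (nat_lit 8) (nat_lit 0x900086000000600090004000d0005c)
  (.st (nat_lit 4) (nat_lit 0x2000d0000020001080703020008050e)
  (.st (nat_lit 2) (nat_lit 0x1000002200102310120220230320)
  (.st (nat_lit 1) (nat_lit 0x10000100004000111104144040010540)
  (.st (nat_lit 2) (nat_lit 0x20000200002000002002202020020000)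
  (.st (nat_lit 4) (nat_lit 0x2000c0000080000080204040404000c)
  (.st (nat_lit 8) (nat_lit 0x10008600000060008c002000ac0058)
  (.st (nat_lit 16) (nat_lit 0x1190000040fa0000031e00005050)
  (.st (nat_lit 32) (nat_lit 0x40122014000000005b8ee4e0)
  (.st (nat_lit 64) (nat_lit 0xd392a08200000000)
  .nil)))))))))))))

def L : List Nt := [.nil, n1, n2, n3, n4, n5, n6, n7]

theorem sys : sysOk L (nat_lit 72) = true := by decide +kernel

theorem inv_ok : invOk L (nat_lit 72) (nat_lit 7) Cfsg.Agent.H20.PG.ic = true := by decide +kernel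

theorem rel_ok : eqAll L (nat_lit 72) (nat_lit 7) (Cfsg.Agent.H20.Alt6R.rels.map fun w => (w, [])) = true := by decide +kernel

end Cfsg.Agent.H20.Alt6L
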