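import Cfsg.Agent.H20_LabE
import Cfsg.Agent.H20_Alt6L

/-!
Coset graph labels modulo 4. 
-/

set_option autoImplicit false
set_option maxRecDepth 1000000

namespace Cfsg.Agent.H20.Alt6L4

open Cfsg.Agent.H8.CE Cfsg.Agent.H8.Net Cfsg.Agent.H8.Act Cfsg.Agent.H20.Lab Cfsg.Agent.H20.PT
open scoped IsMulCommutative

def t1 : CT := (.nd (.lf (nat_lit 0x40c11aa302020e531c18202cb880410036450000098600100098b0418006668400000004300000985c800004c2e018106646c0000130b200000985881040cc8d000000007e00000003e00000985581060986f40000261520c10291ba040419c1800000000f00000000760818267b30000098520306058c9c1810466500018261a100000001b800004c28000000006a0418362ad0204019d7000004c27400002613800000002f00000984d000004c26400106645800000002a00000984b800004c25400000004c000000025000009849000000008c00000004400001309000000000f800004c23800000003c0000261130000198ca000000006c0000261160000000180000098448000000058000026110000013087000000008800004c21800000001e00000000d00000000600000000280000261060000130820000000028000000010000026100000000001))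
 (.lf (nat_lit 0)))

def t2 : CT := (.nd (.lf (nat_lit 0x4028a2800001030c00000817e000000047040c1b9df02040551180000081780018152c1000000022000000010800000816a00103723b00000002000020144c400000815e00080512d020c1a91980000964f400104f15400080512900000205303040606dc00000814a00000003a00001389180020946e400000814400000003800040289080000000d800000813e00000003400000204f00000000c80000000600800076a700000001700000000b000000813000000002b0000000140202015c6c00000812a000805113000000012000001024418007042c0000000200604028880102054a6800000811a00080511d000002046000000007000000003200000408a00000000b8002014424000000028000000012000002043810000403c00000810a00000000e000002042000201442c00000001000000000606000b880800000000c08106a300000000002))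
 (.lf (nat_lit 0)))

def t3 : CT := (.nd (.lf (nat_lit 0x106202040c930800300438e0000020bf00000002300000082f80010646800000020bb000000022820204910c00004536c00000004100080915e00000082c000304445c0000020ac02081911900000082a800000007a0000020a806040915b80000082980030043740000020a500000001c800000828c0030043700000020a2000001050000608a4d400300436800000209f04000139200000000cc00000006200000209b0000110d780000000b4003004356000002098000000014800000009c003004328000002092040c013cf03060c8c580000041220000000210000010478100048a6400000003a00000208d000c010ce0000008230000000034041802197060001045000000822000000002a000000013000c010c3000000004000300431c000002085000000005800000821000000001200000000700000104100000082000800643060c1812201))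
 (.lf (nat_lit 0)))

/-- the tables -/
noncomputable def tf (y : ℕ) : CT := Nat.rec (motive := fun _ => CT) t1 (fun y' _ => (Nat.rec (motive := fun _ => CT) t1 (fun y'' _ => (Nat.rec (motive := fun _ => CT) t2 (fun y''' _ => (t3)) y'')) y')) y

def PT : ℕ := (nat_lit 0x8850cdf9bf2802f89e1bb2722e05a9b21622c0979ac2562a8948a824c698929a524828c911a22404804f99f23c6744e09b2342644c19822e2544a992224244c891011e4384698d2186308588a3122208408710e6184298520861081882104400800800)

def RN : List (List ℕ) := [[1, 2, 1, 2, 1, 2, 1, 2, 1, 2],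
  [1, 2, 2, 1, 2, 2, 1, 2, 2, 1, 2, 2, 1, 2, 2],
  [2, 3],
  [2, 3]]

def RP : List (List ℕ) := [[1, 1],
  [2, 2, 2, 2]]

def pk : List ℕ := [162]

def prm : List (ℕ × ℕ) := [(162, (nat_lit 16384))]

def T : WT := (.nd (.nd (.nd (.lf 3 [2] 0)
 (.lf 1 [2, 1, 2, 1, 2, 1, 2, 1, 2] 0))
 (.nd (.lf 2 [3] 0)
 (.lf 2 [1, 2, 2, 1, 2, 2, 1, 2, 2, 1, 2, 2, 1, 2] 0)))
 (.nd (.nd (.lf 1 [1] 3)
 (.lf 2 [1, 2, 1, 2, 1, 2, 1, 2, 1] 0))
 (.nd (.lf 2 [2, 2, 2] 384)
 (.lf 1 [2, 2, 1, 2, 2, 1, 2, 2, 1, 2, 2, 1, 2, 2] 0))))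

def loops : List (ℕ × List ℕ × ℕ × ℕ) := [(0, [1, 2, 1, 2, 1, 2, 1, 2, 1, 2], (nat_lit 0), (nat_lit 49537)),
  (61, [1, 2, 1, 2, 1, 2, 1, 2, 1, 2], (nat_lit 0), (nat_lit 16771)),
  (1, [1, 2, 2, 1, 2, 2, 1, 2, 2, 1, 2, 2, 1, 2, 2], (nat_lit 0), (nat_lit 387))]

def targets : List (ℕ × List ℕ) := [((nat_lit 129), [0, 0, 1]),
  ((nat_lit 16640), [1, 0, 1]),
  ((nat_lit 256), [3, 3, 0])]

theorem kT : T.allB (leafC 4 7 14 [1, 2, 3] RN RP) = true := by decide +kernel

theorem kTree : treeK ((nat_lit 37)) ((nat_lit 0x1fffffffff)) ((nat_lit 127)) tf ((nat_lit 11)) ((nat_lit 2047)) PT ((nat_lit 72)) ((nat_lit 7)) ((nat_lit 3)) = true := by decide +kernel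

theorem kE1 : edgesK ((nat_lit 37)) ((nat_lit 0x1fffffffff)) ((nat_lit 127)) ((nat_lit 7)) ((nat_lit 31)) ((nat_lit 12)) ((nat_lit 15)) ((nat_lit 16)) tf ((nat_lit 4)) ((nat_lit 0x183060)) ((nat_lit 0x1f3e7c)) ((nat_lit 11)) ((nat_lit 2047)) PT prm T ((nat_lit 72)) ((nat_lit 7)) ((nat_lit 1)) = true := by decide +kernel

theorem kE2 : edgesK ((nat_lit 37)) ((nat_lit 0x1fffffffff)) ((nat_lit 127)) ((nat_lit 7)) ((nat_lit 31)) ((nat_lit 12)) ((nat_lit 15)) ((nat_lit 16)) tf ((nat_lit 4)) ((nat_lit 0x183060)) ((nat_lit 0x1f3e7c)) ((nat_lit 11)) ((nat_lit 2047)) PT prm T ((nat_lit 72)) ((nat_lit 7)) ((nat_lit 2)) = true := by decide +kernel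

theorem kE3 : edgesK ((nat_lit 37)) ((nat_lit 0x1fffffffff)) ((nat_lit 127)) ((nat_lit 7)) ((nat_lit 31)) ((nat_lit 12)) ((nat_lit 15)) ((nat_lit 16)) tf ((nat_lit 4)) ((nat_lit 0x183060)) ((nat_lit 0x1f3e7c)) ((nat_lit 11)) ((nat_lit 2047)) PT prm T ((nat_lit 72)) ((nat_lit 7)) ((nat_lit 3)) = true := by decide +kernel

theorem kL1 : (loops.all fun a => Nat.blt a.1 72 && leafB 4 7 RN RP (a.2.1.getD 0 0) a.2.1.tail a.2.2.1 && Nat.blt 0 a.2.1.length &&
      Nat.ble a.2.1.length (14 + 1) && Nat.blt a.2.2.2 (2 ^ (7 * 3))) = true := by decide +kernel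

theorem kL2' : (loops.all fun a => loopK ((nat_lit 37)) ((nat_lit 0x1fffffffff)) ((nat_lit 127)) ((nat_lit 7)) ((nat_lit 31)) ((nat_lit 16)) tf ((nat_lit 4)) ((nat_lit 0x183060)) ((nat_lit 0x1f3e7c)) a.1 a.2.1 a.2.2.1 a.2.2.2) = true := by decide +kernel

theorem kC : (targets.all fun a => zchk 4 ((nat_lit 0x183060)) (comb (loops.map fun b => b.2.2.2) a.2 + a.1) && Nat.beq (Nat.land a.1 ((nat_lit 0x1f3e7c))) 0 &&
      Nat.blt a.1 (2 ^ (7 * 3)) && Nat.blt ((a.2.sum + 1) * (2 ^ 2 - 1)) (2 ^ 7)) = true := by decide +kernel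

theorem nx1 : chkNx (net Alt6L.L 1) (tf 1) ((nat_lit 72)) ((nat_lit 7)) ((nat_lit 37)) ((nat_lit 0x1fffffffff)) ((nat_lit 127)) ((nat_lit 7)) = true := by decide +kernel

theorem nx2 : chkNx (net Alt6L.L 2) (tf 2) ((nat_lit 72)) ((nat_lit 7)) ((nat_lit 37)) ((nat_lit 0x1fffffffff)) ((nat_lit 127)) ((nat_lit 7)) = true := by decide +kernel

theorem nx3 : chkNx (net Alt6L.L 3) (tf 3) ((nat_lit 72)) ((nat_lit 7)) ((nat_lit 37)) ((nat_lit 0x1fffffffff)) ((nat_lit 127)) ((nat_lit 7)) = true := by decide +kernel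

/-- the conclusion of the engine -/
theorem res {Γ G : Type*} [Group Γ] [Group G] [Finite Γ] {σ : Γ →* G} {φ : G →* Equiv.Perm (Fin 72)} {X : ℕ → G}
    (hcomp : Compat φ X Alt6L.L) {o : Fin 72} (ho : (o : ℕ) = 0) {H1 : Subgroup Γ} (hC : Ctx σ φ o H1) (Y : ℕ → Γ)
    (hY : ∀ y ∈ ([1, 2, 3] : List ℕ), σ (Y y) = X y) (hm : ∀ z : Subgroup.center Γ, σ (z : Γ) = 1 → z ^ 4 = 1)
    (hRN : ∀ r ∈ RN, ev Y r = 1) (hRP : ∀ r ∈ RP, σ (ev Y r) = 1) :
    ∃ q : ℕ → Additive (Subgroup.center Γ),
      (∀ j, σ ((Additive.toMul (q j) : Subgroup.center Γ) : Γ) = 1) ∧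
      (∀ a ∈ targets, vS q 7 3 a.1 = 0) ∧
      (∀ Z0 : Subgroup (Subgroup.center Γ), (∀ z ∈ Z0, σ ((z : Subgroup.center Γ) : Γ) = 1) → (∀ j < 3, Additive.toMul (q j) ∈ Z0) →
        ∀ z : Subgroup.center Γ, σ (z : Γ) = 1 → (z : Γ) ∈ Subgroup.closure (Y '' {y | y ∈ ([1, 2, 3] : List ℕ)}) → z ∈ Z0) :=
  engine (E := 37) (EM := (nat_lit 0x1fffffffff)) (KM := 127) (kb := 7) (RM := 31) (s1 := 12) (CM := 15) (s2 := 16)
    (tf := tf) (m := 4) (HM := (nat_lit 0x183060)) (DM := (nat_lit 0x1f3e7c)) (pb := 11) (PM := 2047) (PT := PT) (prm := prm) (T := T) (kk := 7)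
    (L := 3) (w := 7) (K := 3) (h := 2) (h' := 5) (Lmax := 14) (ys := [1, 2, 3]) (RN := RN) (RP := RP) (pk := pk)
    hC ho Y (by decide) (by decide)
    (by
      intro y hy i
      have hy2 := hY y hy
      simp only [List.mem_cons, List.not_mem_nil, or_false] at hy
      rcases hy with rfl | rfl | rfl
      · exact nx_of_net Alt6L.sys (by decide) hcomp (by decide) hy2 nx1 i
      · exact nx_of_net Alt6L.sys (by decide) hcomp (by decide) hy2 nx2 i
      · exact nx_of_net Alt6L.sys (by decide) hcomp (by decide) hy2 nx3 i)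
    hm hRN hRP (by decide +kernel) (by decide +kernel) (by decide +kernel) (by decide +kernel)
    (by decide +kernel) (by decide +kernel) (by decide +kernel) (by decide) (by decide +kernel) (by decide +kernel) (by decide +kernel) (by decide)
    (by decide +kernel) (by decide) kT kTree
    (by
      intro y hy
      simp only [List.mem_cons, List.not_mem_nil, or_false] at hy
      rcases hy with rfl | rfl | rfl
      · exact kE1
      · exact kE2
      · exact kE3)
    loops kL1 (fun a ha => List.all_eq_true.1 kL2' a ha) (by decide +kernel) (fun y p => rkf_lt y p) targets kC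

end Cfsg.Agent.H20.Alt6L4
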