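import Cfsg.Agent.H20_LabE
import Cfsg.Agent.H20_Alt6L

/-!
Coset graph labels modulo 9. 
-/

set_option autoImplicit false
set_option maxRecDepth 1000000

namespace Cfsg.Agent.H20.Alt6L9

open Cfsg.Agent.H8.CE Cfsg.Agent.H8.Net Cfsg.Agent.H8.Act Cfsg.Agent.H20.Lab Cfsg.Agent.H20.PT
open scoped IsMulCommutative

def t1 : CT := (.nd (.lf (nat_lit 0x38200e6a8c020080e531c06070132e20180408364500000026180010001d8b0410000199a100000000043000000261720000004c2e0100101991b000000130b200000026162010100cc8d0000000001f8000000003e00000026156010401d86f400000098548200e0791ba038000a7060000000000f0000000001d808000567b30000002614808020098c9c1006039994000100761a10000000006e0000004c280000000001a804060362ad0081410675c0000004c274000000984e0000000002f000000261340000004c26400010199160000000002a0000002612e0000004c254000000001300000000025000000261240000000008c0000000011000000130900000000003e0000004c238000000000f00000076113000000663280000000006c0000009845800000000180000002611200000000058000000984400000013087000000000220000004c21800000000078000000000d00000000018000000000280000009841800000130820000000000a00000000010000000984000000000001))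
 (.lf (nat_lit 0)))

def t2 : CT := (.nd (.lf (nat_lit 0x400a28a0000001030c000000205f800000000470100c06e77c07038195118000000205e000060552c10000000008800000000108000000205a8000e04723b00000000080000080144c400000020578000200512d0080c06a466000380d64f40003033c55000020051290000000814c080381a06dc00000020528000000003a000000ee246000080946e40000002051000000000380000400a242000000000d8000000204f800000000340000000813c000000000c80000000018008020776a70000000005c000000000b0000000204c0000000002b0000000005007000095c6c000000204a800020051130000000004800000010244100502410b000000000200400400a22001028154a6800000020468000200511d0000000811800000000070000000000c8000000408a0000000002e00008014424000000000a000000000120000000810e0100000403c00000020428000000000e000000081080000801442c000000000400000000006040000ce2020000000000c020101a8c000000000002))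
 (.lf (nat_lit 0)))

def t3 : CT := (.nd (.lf (nat_lit 0x4188020100c930800080010e3800000020bf0000000008c000000082f800060211a0000000020bb0000000008a0703018910c00020314db00000000041000080a4578000000082c00008039117000000020ac00808064464000000082a8000000001e800000020a8040180c456e0000000829800080010dd000000020a5000000000720000000828c00080010dc000000020a200000004140000300ca4d400080010da0000000209f03820044e48000000000cc00000000188000000209b0000004435e000000000b400080010d580000002098000000000520000000009c00080010ca00000002092010000e4f3c08020108c580000001048800000000210000000411e01020148a64000000000e8000000208d0002000433800000008230000000000d004100021970400000411400000008220000000000a800000000130002000430c0000000004000080010c7000000020850000000001600000008210000000000480000000007000000041040000000820002000190c182010062201))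
 (.lf (nat_lit 0)))

/-- the tables -/
noncomputable def tf (y : ℕ) : CT := Nat.rec (motive := fun _ => CT) t1 (fun y' _ => (Nat.rec (motive := fun _ => CT) t1 (fun y'' _ => (Nat.rec (motive := fun _ => CT) t2 (fun y''' _ => (t3)) y'')) y')) y

def PT : ℕ := (nat_lit 0x8850cdf9bf2802f89e1bb2722e05a9b21622c0979ac2562a8948a824c698929a524828c911a22404804f99f23c6744e09b2342644c19822e2544a992224244c891011e4384698d2186308588a3122208408710e6184298520861081882104400800800)

def RN : List (List ℕ) := [[1, 2, 1, 2, 1, 2, 1, 2, 1, 2],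
  [1, 2, 2, 1, 2, 2, 1, 2, 2, 1, 2, 2, 1, 2, 2],
  [2, 3],
  [2, 3]]

def RP : List (List ℕ) := [[1, 1],
  [2, 2, 2, 2]]

def pk : List ℕ := [162]

def prm : List (ℕ × ℕ) := [(162, (nat_lit 262144))]

def T : WT := (.nd (.nd (.nd (.lf 3 [2] 0)
 (.lf 1 [2, 1, 2, 1, 2, 1, 2, 1, 2] 0))
 (.nd (.lf 2 [3] 0)
 (.lf 2 [1, 2, 2, 1, 2, 2, 1, 2, 2, 1, 2, 2, 1, 2] 0)))
 (.nd (.nd (.lf 1 [1] 8)
 (.lf 2 [1, 2, 1, 2, 1, 2, 1, 2, 1] 0))
 (.nd (.lf 2 [2, 2, 2] 4096)
 (.lf 1 [2, 2, 1, 2, 2, 1, 2, 2, 1, 2, 2, 1, 2, 2] 0))))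

def loops : List (ℕ × List ℕ × ℕ × ℕ) := [(0, [1, 2, 1, 2, 1, 2, 1, 2, 1, 2], (nat_lit 0), (nat_lit 0x100803)),
  (1, [1, 2, 2, 1, 2, 2, 1, 2, 2, 1, 2, 2, 1, 2, 2], (nat_lit 0), (nat_lit 2052)),
  (18, [1, 2, 2, 1, 2, 2, 1, 2, 2, 1, 2, 2, 1, 2, 2], (nat_lit 0), (nat_lit 0x100203))]

def targets : List (ℕ × List ℕ) := [((nat_lit 0x140001), [1, 8, 0]),
  ((nat_lit 0x100200), [8, 3, 0]),
  ((nat_lit 786432), [7, 0, 8])]

theorem kT : T.allB (leafC 9 9 14 [1, 2, 3] RN RP) = true := by decide +kernel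

theorem kTree : treeK ((nat_lit 43)) ((nat_lit 0x7ffffffffff)) ((nat_lit 127)) tf ((nat_lit 11)) ((nat_lit 2047)) PT ((nat_lit 72)) ((nat_lit 7)) ((nat_lit 3)) = true := by decide +kernel

theorem kE1 : edgesK ((nat_lit 43)) ((nat_lit 0x7ffffffffff)) ((nat_lit 127)) ((nat_lit 7)) ((nat_lit 31)) ((nat_lit 12)) ((nat_lit 15)) ((nat_lit 16)) tf ((nat_lit 9)) ((nat_lit 0x783c1e0)) ((nat_lit 0x7c3e1f0)) ((nat_lit 11)) ((nat_lit 2047)) PT prm T ((nat_lit 72)) ((nat_lit 7)) ((nat_lit 1)) = true := by decide +kernel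

theorem kE2 : edgesK ((nat_lit 43)) ((nat_lit 0x7ffffffffff)) ((nat_lit 127)) ((nat_lit 7)) ((nat_lit 31)) ((nat_lit 12)) ((nat_lit 15)) ((nat_lit 16)) tf ((nat_lit 9)) ((nat_lit 0x783c1e0)) ((nat_lit 0x7c3e1f0)) ((nat_lit 11)) ((nat_lit 2047)) PT prm T ((nat_lit 72)) ((nat_lit 7)) ((nat_lit 2)) = true := by decide +kernel

theorem kE3 : edgesK ((nat_lit 43)) ((nat_lit 0x7ffffffffff)) ((nat_lit 127)) ((nat_lit 7)) ((nat_lit 31)) ((nat_lit 12)) ((nat_lit 15)) ((nat_lit 16)) tf ((nat_lit 9)) ((nat_lit 0x783c1e0)) ((nat_lit 0x7c3e1f0)) ((nat_lit 11)) ((nat_lit 2047)) PT prm T ((nat_lit 72)) ((nat_lit 7)) ((nat_lit 3)) = true := by decide +kernel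

theorem kL1 : (loops.all fun a => Nat.blt a.1 72 && leafB 9 9 RN RP (a.2.1.getD 0 0) a.2.1.tail a.2.2.1 && Nat.blt 0 a.2.1.length &&
      Nat.ble a.2.1.length (14 + 1) && Nat.blt a.2.2.2 (2 ^ (9 * 3))) = true := by decide +kernel

theorem kL2' : (loops.all fun a => loopK ((nat_lit 43)) ((nat_lit 0x7ffffffffff)) ((nat_lit 127)) ((nat_lit 7)) ((nat_lit 31)) ((nat_lit 16)) tf ((nat_lit 9)) ((nat_lit 0x783c1e0)) ((nat_lit 0x7c3e1f0)) a.1 a.2.1 a.2.2.1 a.2.2.2) = true := by decide +kernel

theorem kC : (targets.all fun a => zchk 9 ((nat_lit 0x783c1e0)) (comb (loops.map fun b => b.2.2.2) a.2 + a.1) && Nat.beq (Nat.land a.1 ((nat_lit 0x7c3e1f0))) 0 &&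
      Nat.blt a.1 (2 ^ (9 * 3)) && Nat.blt ((a.2.sum + 1) * (2 ^ 4 - 1)) (2 ^ 9)) = true := by decide +kernel

theorem nx1 : chkNx (net Alt6L.L 1) (tf 1) ((nat_lit 72)) ((nat_lit 7)) ((nat_lit 43)) ((nat_lit 0x7ffffffffff)) ((nat_lit 127)) ((nat_lit 7)) = true := by decide +kernel

theorem nx2 : chkNx (net Alt6L.L 2) (tf 2) ((nat_lit 72)) ((nat_lit 7)) ((nat_lit 43)) ((nat_lit 0x7ffffffffff)) ((nat_lit 127)) ((nat_lit 7)) = true := by decide +kernel

theorem nx3 : chkNx (net Alt6L.L 3) (tf 3) ((nat_lit 72)) ((nat_lit 7)) ((nat_lit 43)) ((nat_lit 0x7ffffffffff)) ((nat_lit 127)) ((nat_lit 7)) = true := by decide +kernel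

/-- the conclusion of the engine -/
theorem res {Γ G : Type*} [Group Γ] [Group G] [Finite Γ] {σ : Γ →* G} {φ : G →* Equiv.Perm (Fin 72)} {X : ℕ → G}
    (hcomp : Compat φ X Alt6L.L) {o : Fin 72} (ho : (o : ℕ) = 0) {H1 : Subgroup Γ} (hC : Ctx σ φ o H1) (Y : ℕ → Γ)
    (hY : ∀ y ∈ ([1, 2, 3] : List ℕ), σ (Y y) = X y) (hm : ∀ z : Subgroup.center Γ, σ (z : Γ) = 1 → z ^ 9 = 1)
    (hRN : ∀ r ∈ RN, ev Y r = 1) (hRP : ∀ r ∈ RP, σ (ev Y r) = 1) :
    ∃ q : ℕ → Additive (Subgroup.center Γ),
      (∀ j, σ ((Additive.toMul (q j) : Subgroup.center Γ) : Γ) = 1) ∧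
      (∀ a ∈ targets, vS q 9 3 a.1 = 0) ∧
      (∀ Z0 : Subgroup (Subgroup.center Γ), (∀ z ∈ Z0, σ ((z : Subgroup.center Γ) : Γ) = 1) → (∀ j < 3, Additive.toMul (q j) ∈ Z0) →
        ∀ z : Subgroup.center Γ, σ (z : Γ) = 1 → (z : Γ) ∈ Subgroup.closure (Y '' {y | y ∈ ([1, 2, 3] : List ℕ)}) → z ∈ Z0) :=
  engine (E := 43) (EM := (nat_lit 0x7ffffffffff)) (KM := 127) (kb := 7) (RM := 31) (s1 := 12) (CM := 15) (s2 := 16)
    (tf := tf) (m := 9) (HM := (nat_lit 0x783c1e0)) (DM := (nat_lit 0x7c3e1f0)) (pb := 11) (PM := 2047) (PT := PT) (prm := prm) (T := T) (kk := 7)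
    (L := 3) (w := 9) (K := 3) (h := 4) (h' := 5) (Lmax := 14) (ys := [1, 2, 3]) (RN := RN) (RP := RP) (pk := pk)
    hC ho Y (by decide) (by decide)
    (by
      intro y hy i
      have hy2 := hY y hy
      simp only [List.mem_cons, List.not_mem_nil, or_false] at hy
      rcases hy with rfl | rfl | rfl
      · exact nx_of_net Alt6L.sys (by decide) hcomp (by decide) hy2 nx1 i
      · exact nx_of_net Alt6L.sys (by decide) hcomp (by decide) hy2 nx2 i
      · exact nx_of_net Alt6L.sys (by decide) hcomp (by decide) hy2 nx3 i)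
    hm hRN hRP (by decide +kernel) (by decide +kernel) (by decide +kernel) (by decide +kernel)
    (by decide +kernel) (by decide +kernel) (by decide +kernel) (by decide) (by decide +kernel) (by decide +kernel) (by decide +kernel) (by decide)
    (by decide +kernel) (by decide) kT kTree
    (by
      intro y hy
      simp only [List.mem_cons, List.not_mem_nil, or_false] at hy
      rcases hy with rfl | rfl | rfl
      · exact kE1
      · exact kE2
      · exact kE3)
    loops kL1 (fun a ha => List.all_eq_true.1 kL2' a ha) (by decide +kernel) (fun y p => rkf_lt y p) targets kC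

end Cfsg.Agent.H20.Alt6L9
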