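import Cfsg.Agent.H8_CS

set_option autoImplicit false
set_option maxRecDepth 1000000

namespace Cfsg.Agent.H20.Alt6aT

open Cfsg.Agent.H8 Cfsg.Agent.H8.CE Cfsg.Agent.H8.CS

def ic : ℕ := nat_lit 4530960

def rels : List (List ℕ) := [[nat_lit 2, nat_lit 2, nat_lit 2, nat_lit 2],
  [nat_lit 1, nat_lit 2, nat_lit 5],
  [nat_lit 4, nat_lit 4, nat_lit 4, nat_lit 4, nat_lit 4],
  [nat_lit 1, nat_lit 2, nat_lit 2, nat_lit 1, nat_lit 2, nat_lit 2, nat_lit 1, nat_lit 2, nat_lit 2, nat_lit 1, nat_lit 2, nat_lit 2, nat_lit 1, nat_lit 2, nat_lit 2]]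

def lets : Wd := (.cons (nat_lit 1) (nat_lit 0x100000) (.cons (nat_lit 2) (nat_lit 0x300000) (.cons (nat_lit 3) (nat_lit 0x200000) (.cons (nat_lit 4) (nat_lit 0x500000) (.cons (nat_lit 5) (nat_lit 0x400000) .nil)))))

def L : List ℕ := [nat_lit 4]

def rt : RS :=
 (.nd (nat_lit 14)
 (.nd (nat_lit 9)
 (.nd (nat_lit 4)
 (.nd (nat_lit 3)
 (.nd (nat_lit 2)
 (.lf (nat_lit 0) (nat_lit 0) (nat_lit 4) (nat_lit 0x400000) (.cons (nat_lit 0) (nat_lit 0) (.cons (nat_lit 4) (nat_lit 0x500000) .nil)))
 (.lf (nat_lit 0) (nat_lit 0) (nat_lit 0) (nat_lit 0) (.cons (nat_lit 5) (nat_lit 0x400000) (.cons (nat_lit 0) (nat_lit 0) (.cons (nat_lit 4) (nat_lit 0x500000) .nil)))))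
 (.lf (nat_lit 2) (nat_lit 1) (nat_lit 2) (nat_lit 0x200000) (.cons (nat_lit 1) (nat_lit 0x100000) (.cons (nat_lit 4) (nat_lit 0x500000) .nil))))
 (.nd (nat_lit 7)
 (.nd (nat_lit 6)
 (.nd (nat_lit 5)
 (.lf (nat_lit 0) (nat_lit 0) (nat_lit 1) (nat_lit 0x100000) (.cons (nat_lit 0) (nat_lit 0) (.cons (nat_lit 1) (nat_lit 0x100000) .nil)))
 (.lf (nat_lit 4) (nat_lit 14) (nat_lit 2) (nat_lit 0x200000) (.cons (nat_lit 3) (nat_lit 0x200000) (.cons (nat_lit 1) (nat_lit 0x100000) (.cons (nat_lit 3) (nat_lit 0x200000) (.cons (nat_lit 3) (nat_lit 0x200000) (.cons (nat_lit 1) (nat_lit 0x100000) (.cons (nat_lit 3) (nat_lit 0x200000) (.cons (nat_lit 3) (nat_lit 0x200000) (.cons (nat_lit 1) (nat_lit 0x100000) (.cons (nat_lit 3) (nat_lit 0x200000) (.cons (nat_lit 3) (nat_lit 0x200000) (.cons (nat_lit 1) (nat_lit 0x100000) (.cons (nat_lit 3) (nat_lit 0x200000) (.cons (nat_lit 3) (nat_lit 0x200000) (.cons (nat_lit 1) (nat_lit 0x100000) .nil))))))))))))))))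
 (.lf (nat_lit 5) (nat_lit 1) (nat_lit 3) (nat_lit 0x300000) (.cons (nat_lit 2) (nat_lit 0x300000) (.cons (nat_lit 2) (nat_lit 0x300000) (.cons (nat_lit 2) (nat_lit 0x300000) .nil)))))
 (.nd (nat_lit 8)
 (.lf (nat_lit 0) (nat_lit 0) (nat_lit 0) (nat_lit 0) (.cons (nat_lit 1) (nat_lit 0x100000) (.cons (nat_lit 0) (nat_lit 0) (.cons (nat_lit 1) (nat_lit 0x100000) .nil))))
 (.lf (nat_lit 0) (nat_lit 0) (nat_lit 5) (nat_lit 0x500000) (.cons (nat_lit 0) (nat_lit 0) (.cons (nat_lit 5) (nat_lit 0x400000) .nil))))))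
 (.nd (nat_lit 10)
 (.lf (nat_lit 2) (nat_lit 2) (nat_lit 5) (nat_lit 0x500000) (.cons (nat_lit 3) (nat_lit 0x200000) (.cons (nat_lit 1) (nat_lit 0x100000) .nil)))
 (.nd (nat_lit 13)
 (.nd (nat_lit 11)
 (.lf (nat_lit 0) (nat_lit 0) (nat_lit 0) (nat_lit 0) (.cons (nat_lit 2) (nat_lit 0x300000) (.cons (nat_lit 0) (nat_lit 0) (.cons (nat_lit 3) (nat_lit 0x200000) .nil))))
 (.nd (nat_lit 12)
 (.lf (nat_lit 4) (nat_lit 3) (nat_lit 1) (nat_lit 0x100000) (.cons (nat_lit 3) (nat_lit 0x200000) (.cons (nat_lit 3) (nat_lit 0x200000) (.cons (nat_lit 1) (nat_lit 0x100000) (.cons (nat_lit 3) (nat_lit 0x200000) (.cons (nat_lit 3) (nat_lit 0x200000) (.cons (nat_lit 1) (nat_lit 0x100000) (.cons (nat_lit 3) (nat_lit 0x200000) (.cons (nat_lit 3) (nat_lit 0x200000) (.cons (nat_lit 1) (nat_lit 0x100000) (.cons (nat_lit 3) (nat_lit 0x200000) (.cons (nat_lit 3) (nat_lit 0x200000) (.cons (nat_lit 1) (nat_lit 0x100000) (.cons (nat_lit 3) (nat_lit 0x200000) (.cons (nat_lit 3) (nat_lit 0x200000) .nil)))))))))))))))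
 (.lf (nat_lit 0) (nat_lit 0) (nat_lit 2) (nat_lit 0x200000) (.cons (nat_lit 0) (nat_lit 0) (.cons (nat_lit 2) (nat_lit 0x300000) .nil)))))
 (.lf (nat_lit 7) (nat_lit 1) (nat_lit 5) (nat_lit 0x500000) (.cons (nat_lit 4) (nat_lit 0x500000) (.cons (nat_lit 4) (nat_lit 0x500000) (.cons (nat_lit 4) (nat_lit 0x500000) (.cons (nat_lit 4) (nat_lit 0x500000) .nil))))))))
 (.nd (nat_lit 21)
 (.nd (nat_lit 20)
 (.nd (nat_lit 18)
 (.nd (nat_lit 17)
 (.nd (nat_lit 15)
 (.lf (nat_lit 0) (nat_lit 0) (nat_lit 3) (nat_lit 0x300000) (.cons (nat_lit 0) (nat_lit 0) (.cons (nat_lit 3) (nat_lit 0x200000) .nil)))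
 (.nd (nat_lit 16)
 (.lf (nat_lit 8) (nat_lit 0) (nat_lit 3) (nat_lit 0x300000) (.cons (nat_lit 1) (nat_lit 0x100000) (.cons (nat_lit 2) (nat_lit 0x300000) (.cons (nat_lit 2) (nat_lit 0x300000) (.cons (nat_lit 1) (nat_lit 0x100000) (.cons (nat_lit 2) (nat_lit 0x300000) (.cons (nat_lit 2) (nat_lit 0x300000) (.cons (nat_lit 1) (nat_lit 0x100000) (.cons (nat_lit 2) (nat_lit 0x300000) (.cons (nat_lit 2) (nat_lit 0x300000) (.cons (nat_lit 1) (nat_lit 0x100000) (.cons (nat_lit 2) (nat_lit 0x300000) (.cons (nat_lit 2) (nat_lit 0x300000) (.cons (nat_lit 1) (nat_lit 0x100000) (.cons (nat_lit 2) (nat_lit 0x300000) .nil)))))))))))))))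
 (.lf (nat_lit 8) (nat_lit 1) (nat_lit 3) (nat_lit 0x300000) (.cons (nat_lit 2) (nat_lit 0x300000) (.cons (nat_lit 1) (nat_lit 0x100000) (.cons (nat_lit 2) (nat_lit 0x300000) (.cons (nat_lit 2) (nat_lit 0x300000) (.cons (nat_lit 1) (nat_lit 0x100000) (.cons (nat_lit 2) (nat_lit 0x300000) (.cons (nat_lit 2) (nat_lit 0x300000) (.cons (nat_lit 1) (nat_lit 0x100000) (.cons (nat_lit 2) (nat_lit 0x300000) (.cons (nat_lit 2) (nat_lit 0x300000) (.cons (nat_lit 1) (nat_lit 0x100000) (.cons (nat_lit 2) (nat_lit 0x300000) (.cons (nat_lit 2) (nat_lit 0x300000) (.cons (nat_lit 1) (nat_lit 0x100000) .nil)))))))))))))))))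
 (.lf (nat_lit 6) (nat_lit 0) (nat_lit 4) (nat_lit 0x400000) (.cons (nat_lit 1) (nat_lit 0x100000) (.cons (nat_lit 2) (nat_lit 0x300000) .nil))))
 (.nd (nat_lit 19)
 (.lf (nat_lit 3) (nat_lit 1) (nat_lit 4) (nat_lit 0x400000) (.cons (nat_lit 5) (nat_lit 0x400000) (.cons (nat_lit 5) (nat_lit 0x400000) (.cons (nat_lit 5) (nat_lit 0x400000) (.cons (nat_lit 5) (nat_lit 0x400000) .nil)))))
 (.lf (nat_lit 6) (nat_lit 2) (nat_lit 1) (nat_lit 0x100000) (.cons (nat_lit 2) (nat_lit 0x300000) (.cons (nat_lit 5) (nat_lit 0x400000) .nil)))))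
 (.lf (nat_lit 6) (nat_lit 1) (nat_lit 3) (nat_lit 0x300000) (.cons (nat_lit 5) (nat_lit 0x400000) (.cons (nat_lit 1) (nat_lit 0x100000) .nil))))
 (.nd (nat_lit 26)
 (.nd (nat_lit 25)
 (.nd (nat_lit 22)
 (.lf (nat_lit 0) (nat_lit 0) (nat_lit 0) (nat_lit 0) (.cons (nat_lit 4) (nat_lit 0x500000) (.cons (nat_lit 0) (nat_lit 0) (.cons (nat_lit 5) (nat_lit 0x400000) .nil))))
 (.nd (nat_lit 24)
 (.nd (nat_lit 23)
 (.lf (nat_lit 7) (nat_lit 0) (nat_lit 0) (nat_lit 0) (.cons (nat_lit 4) (nat_lit 0x500000) (.cons (nat_lit 4) (nat_lit 0x500000) (.cons (nat_lit 4) (nat_lit 0x500000) (.cons (nat_lit 4) (nat_lit 0x500000) (.cons (nat_lit 4) (nat_lit 0x500000) .nil))))))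
 (.lf (nat_lit 0) (nat_lit 0) (nat_lit 0) (nat_lit 0) (.cons (nat_lit 3) (nat_lit 0x200000) (.cons (nat_lit 0) (nat_lit 0) (.cons (nat_lit 2) (nat_lit 0x300000) .nil)))))
 (.lf (nat_lit 5) (nat_lit 3) (nat_lit 3) (nat_lit 0x300000) (.cons (nat_lit 2) (nat_lit 0x300000) (.cons (nat_lit 2) (nat_lit 0x300000) (.cons (nat_lit 2) (nat_lit 0x300000) .nil))))))
 (.lf (nat_lit 1) (nat_lit 1) (nat_lit 2) (nat_lit 0x200000) (.cons (nat_lit 3) (nat_lit 0x200000) (.cons (nat_lit 3) (nat_lit 0x200000) (.cons (nat_lit 3) (nat_lit 0x200000) .nil)))))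
 (.lf (nat_lit 2) (nat_lit 0) (nat_lit 1) (nat_lit 0x100000) (.cons (nat_lit 4) (nat_lit 0x500000) (.cons (nat_lit 3) (nat_lit 0x200000) .nil))))))

def fc : List ℕ := [nat_lit 0x5650005900057500058000591000580005920005700059500057000582000560005850005400057100052000545000560005610004c0004b5000520005300004b0003440002a0002a300022000430000340003500002a0001a200020000205000190003e0000220003100001a000280000200003d000013000295000330003200001900040400046000401000330003f000021000490000290004a00004000041000033000510000460002d4000380003830002e0004e00002d000450000380003a200047000475000470004d00002e0005500003a0004f0000470004750004f0005510004f000552000470005430004c00054100050000535000520005230004b0005140004e0005130004100050400044000503000480004f20004d0004f5000470004e10004d0004c4000480004c3000370004b1000420004a400046000495000330004810003b0004710003a000365000300003630004600033200046000461000300004530002e0004440003c000442000370004310003e000343000420004230002b0004150003f0004110004000039400040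0004030003c0003f30003d0003e20002a0003e50003d0002c20003c0003c1000390002f30003b0003b3000270003a40002e0003a30003800039200026000395000380003750002c00037100036000352000310003420002300033300024000321000310003020002d0003050002f0002f20001f0002e10002d0002c3000290002320002b0002b50001b0002b10002a0002910001c0002830001a0001f20002700027500018000271000260002530001700024100021000235000220002310001b0002230002000021200015000215000200001f50001e0001f1000180001e30001d0001d4000160001c2000190001c5000150001430001b0001b3000120001a10001900012300018000183000140001710001600016300011000151000100001410000d0001330000b0001210000f000113000090001040000b0001030000e0000f2000080000f50000e0000d20000a0000d50000c0000c2000090000b10000a0000950000600009100008000073000040000630000500005400003000041000030000330000200002500001000012000000000040000000052200059000502000580004b3000570004830005600045200055000443000540004350005300042400052000404000510003b4000500003a20004f0003850004e0003830004d0003640004c0003450004b0003310004a0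00325000490002f5000480002e3000470002d5000460002d4000450002c1000440002a5000430002a40004200029500041000293000400002840003f0002820003e0002810003d0002650003c0002640003b0002540003a0002520003900025100038000245000370002430003600022200035000221000340002140003300020500032000203000310001e2000300001e10002f0001d50002e0001d30002d0001c40002c0001a50002b0001a30002a000195000290001940002800017500027000173000260001640002500015500024000145000230001340002200013200021000131000200001250001f0001140001e0001110001d0001020001c0000f40001b0000e50001a0000e3000190000d4000180000c5000170000c3000160000b3000150000a5000140000a4000130000850001200008400011000074000100000720000f0000710000e0000620000d0000610000c0000550000b0000530000a00004500009000043000080000340000700002400006000021000050000150000400001300003000002000020000010000100000000000]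

noncomputable def S : ℕ → ℕ := facts (nat_lit 0) (nat_lit 0) fc

theorem rt_chk : rt.chk ic (rels ++ rels.map (invw ic)) = true := by decide +kernel

theorem rels_lt : (rels.all fun w => w.all fun y => Nat.blt y 16) = true := by decide +kernel

theorem s0 : S 0 = 0 := by decide +kernel

theorem defs0 : withF (nat_lit 0) (nat_lit 0) fc (fun S => rangeS (nat_lit 90) (defC S) (nat_lit 7) (nat_lit 1)) = true := by decide +kernel

theorem defs : rangeS (nat_lit 90) (defC S) (nat_lit 7) (nat_lit 1) = true := by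
  have h := defs0
  rw [withF_eq] at h
  exact h

theorem ini0 : withF (nat_lit 0) (nat_lit 0) fc (fun S => initC S L (nat_lit 90)) = true := by decide +kernel

theorem ini : initC S L (nat_lit 90) = true := by
  have h := ini0
  rw [withF_eq] at h
  exact h

theorem lets_ok : letsOk ic (nat_lit 5) lets = true := by decide +kernel

def pc0 : List ℕ := [nat_lit 0xebe809ebea09e856b29d8f7c7476818ca7b5bf590b57bf5919e6590956bb5819c15809e35713e4c209b75613c0e2084bdf531543df0135de0e34dba9072ada950a31da0c28d90822d8a00275d692077ed33f15000021d3a20ab3d20829d24902b4d1014ad10433d0a61541d0b30251cfb415aecfbd0a46ccbe154ecc01accb0e8ec8b8079ac7550ac3c70cb9c60847c6ba17b1c6c407c5b9c5b9c516c4c309ba4d383999859c9d2f30918eac550b47ac5519b6aa5406bc5413524243530db552144e98a45112a55114ab3c3b5012b250144d9a4f19b14f094d4e1a4890b04c12964c14a84b1aae4a11337e32490d9d481a9b4713adaf09ad307b1d6c650c600a64157f833610ad912d1d71160c0d67646e2183930591461a8e45149f4411974403a1431aa78c94188a42143f2829410d40411aa39e119f8d4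0063d3f142a883e193d3e099e99267216656208610e6a1c898d0500000000000000000000000000993c1a9c878f18853b142e7a253a12383a14268439193839092c7824370d36371a3180351982340383331431321a2d7b30192f30097d2f032d2e1a892c148b81031b681a2b0d2a2b1a79291a752814867c03186617270d26271a7225147f241a221314230d77231a202214156e21192021091e11121f0d741f1a1d1e14711d11196a1c19701c09767473186d1b14191a1a736f0d6005025b015b035e08696d0f6f181416171a6c6516066b151367141a64131469121a6211140b5f0710120e101408610f190e0f090a600d190c0d09630c030a0b1a065c04090d08091a5e07140506145d051103041a025b03060102095a0103]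

theorem prog0_0 : withF (nat_lit 0) (nat_lit 0) fc (fun S => dedProg S (nat_lit 90) (nat_lit 8) (nat_lit 255) rt (nat_lit 399) (nat_lit 2048) (nat_lit 4) pc0 (nat_lit 91) (nat_lit 238)) = true := by decide +kernel

theorem prog0 : dedProg S (nat_lit 90) (nat_lit 8) (nat_lit 255) rt (nat_lit 399) (nat_lit 2048) (nat_lit 4) pc0 (nat_lit 91) (nat_lit 238) = true := by
  have h := prog0_0
  rw [withF_eq] at h
  exact h

def cc0 : List ℕ := [nat_lit 0xe9ed59eaeb01e7ec58e8eb01ece9ea57e601ede5e856e401c702e5e7c254c101e20252e3bf59e601cf0250bcbb58c101c602cc02c8024cb7b6c2e401e34b57bfb501d102d202b74856bbb201c9c9ca47b101d546aeafad01cb02bcab54aa4401df024252a7a8b501d002a4d5a340d401d302db02d802ab3c9fa39e013b509c9db2013a9b9acab10198a439999e01ce98cd9a38019737aab69601b04caf369601de024be1a894340133d793aed401d602da0290b03091ad0148909d8f2f019b2e47cd8e0146ce912d8e012c978d9f44018b2b8ca78a010000e142e02a8a01d729408d8901d9028627879c85013c3b99268501253a843938013724369383018223948c8101228280e034017e33217f8301dc7edd8020017d1f8f877c011e7d7b302f012e7a2d7b1d01782c1c7989011b8b767781012b1a2add750129dc79197501188673747c012717268472017a257116720124787f157001231477736f0113226e2120011f1274766d01111e6c711d01106b6a1c7001681b0f696d011a68196a0e0166180d676f01176616650c016b0b156e64011413670a64016309656c62011211690862010710610f0e010663600d0c010b5f0a600501090408615e015f075d035e015c06025d0501045c035b01015a5a5b020101]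

theorem clo0_0 : withF (nat_lit 0) (nat_lit 0) fc (fun S => cloProg S (nat_lit 238) (nat_lit 8) (nat_lit 255) lets (nat_lit 399) (nat_lit 2048) (nat_lit 4) cc0 (nat_lit 0) (nat_lit 0) (nat_lit 90) (nat_lit 72)) = true := by decide +kernel

theorem clo0 : cloProg S (nat_lit 238) (nat_lit 8) (nat_lit 255) lets (nat_lit 399) (nat_lit 2048) (nat_lit 4) cc0 (nat_lit 0) (nat_lit 0) (nat_lit 90) (nat_lit 72) = true := by
  have h := clo0_0
  rw [withF_eq] at h
  exact h

theorem facts_ok {G : Type*} [Group G] {x : ℕ → G} {H : Subgroup G}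
    (hic : ∀ y, y < 16 → x (il ic y) = (x y)⁻¹) (h0 : x 0 = 1) (hrels : ∀ w ∈ rels, ev x w = 1)
    (hst : ∀ g, g < (nat_lit 90) + L.length → VF H x (rho x S) (nat_lit 90) S g) :
    ∀ g, g < (nat_lit 238) → VF H x (rho x S) (nat_lit 90) S g := by
  have hv : rt.Valid x ic := RS.valid_of_chk hic h0 (relsAll_ok hic rels_lt hrels) rt rt_chk
  have hn : (nat_lit 90) ≤ 1048576 := Nat.le_of_ble_eq_true (by decide)
  have g0 : ∀ g, g < (nat_lit 91) → VF H x (rho x S) (nat_lit 90) S g := hst

  have g1 := dedProg_sound (H := H) (ρ := rho x S) hic hn hv prog0 g0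
  exact g1

theorem bound {G : Type*} [Group G] {x : ℕ → G} {H : Subgroup G}
    (hic : ∀ y, y < 16 → x (il ic y) = (x y)⁻¹) (h0 : x 0 = 1) (hrels : ∀ w ∈ rels, ev x w = 1)
    (hL : ∀ s ∈ L, x s ∈ H) :
    H.relIndex (Subgroup.closure (x '' {y | 1 ≤ y ∧ y ≤ 5})) ≤ 72 ∧
      H.relIndex (Subgroup.closure (x '' {y | 1 ≤ y ∧ y ≤ 5})) ≠ 0 :=
  bound_of (k := 5) (n := 72) (kk := 7) hic h0 hL (by decide) (by decide) (by decide) (by decide) (by decide) lets_ok
    s0 defs ini (facts_ok hic h0 hrels) clo0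


end Cfsg.Agent.H20.Alt6aT
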