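import Mathlib
set_option autoImplicit false

/-! automorphisms of the quaternion group of order 8 -/
namespace Cfsg.Agent.H20.AutQ8
open QuaternionGroup

abbrev Q : Type := QuaternionGroup 2

/-- class of an element modulo the centre -/
def cls : Q → Fin 4
  | .a i => (![0, 1, 0, 1] : Fin 4 → Fin 4) i
  | .xa i => (![2, 3, 2, 3] : Fin 4 → Fin 4) i

def rep : Fin 4 → Q := ![.a 0, .a 1, .xa 0, .xa 1]

theorem cls_rep : ∀ i, cls (rep i) = i := by decide
theorem cls_eq : ∀ x y : Q, cls x = cls y ↔ (y = x ∨ y = x * .a 2) := by decide +kernel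
theorem unique_invol : ∀ x : Q, x ≠ 1 → x * x = 1 → x = .a 2 := by decide +kernel
theorem a2_ne : (.a 2 : Q) ≠ 1 := by decide
theorem a2_sq : (.a 2 : Q) * .a 2 = 1 := by decide
theorem gen_eq : ∀ x : Q, ∃ (m n : Fin 4), x = (.a 1 : Q) ^ (m : ℕ) * (.xa 0 : Q) ^ (n : ℕ) := by decide +kernel

theorem map_a2 (φ : MulAut Q) : φ (.a 2) = .a 2 := by
  apply unique_invol
  · rw [Ne, MulEquiv.map_eq_one_iff]; exact a2_ne
  · rw [← map_mul, a2_sq, map_one]

theorem cls_map (φ : MulAut Q) {x y : Q} (h : cls x = cls y) : cls (φ x) = cls (φ y) := by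
  rw [cls_eq] at h ⊢
  rcases h with h | h
  · left; rw [h]
  · right; rw [h, map_mul, map_a2]

/-- the action on the four classes -/
def π : MulAut Q →* Equiv.Perm (Fin 4) where
  toFun φ :=
    { toFun := fun i => cls (φ (rep i))
      invFun := fun i => cls (φ⁻¹ (rep i))
      left_inv := fun i => by
        have h : cls (φ⁻¹ (rep (cls (φ (rep i))))) = cls (φ⁻¹ (φ (rep i))) := cls_map _ (cls_rep _)
        refine h.trans ?_
        rw [MulAut.inv_apply_self, cls_rep]
      right_inv := fun i => by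
        have h : cls (φ (rep (cls (φ⁻¹ (rep i))))) = cls (φ (φ⁻¹ (rep i))) := cls_map _ (cls_rep _)
        refine h.trans ?_
        rw [MulAut.apply_inv_self, cls_rep] }
  map_one' := by ext i; simp [cls_rep]
  map_mul' φ ψ := by
    ext1 i
    change cls ((φ * ψ) (rep i)) = cls (φ (rep (cls (ψ (rep i)))))
    exact (cls_map φ (cls_rep _)).symm

theorem π_apply (φ : MulAut Q) (i : Fin 4) : π φ i = cls (φ (rep i)) := rfl

theorem π_cls (φ : MulAut Q) (x : Q) : π φ (cls x) = cls (φ x) := by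
  rw [π_apply]; exact cls_map φ (cls_rep _)

theorem π_zero (φ : MulAut Q) : π φ 0 = 0 := by
  rw [π_apply]
  have : rep 0 = 1 := rfl
  rw [this, map_one]; rfl

theorem mem_ker {φ : MulAut Q} (h : φ ∈ π.ker) (x : Q) : φ x = x ∨ φ x = x * .a 2 := by
  have h1 := π_cls φ x
  rw [MonoidHom.mem_ker.mp h, Equiv.Perm.one_apply] at h1
  rwa [cls_eq] at h1

theorem ker_sq {φ : MulAut Q} (h : φ ∈ π.ker) : φ ^ 2 = 1 := by
  ext1 x
  rw [pow_two]
  change φ (φ x) = x
  rcases mem_ker h x with h1 | h1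
  · rw [h1, h1]
  · rw [h1, map_mul, map_a2, h1, mul_assoc, a2_sq, mul_one]

theorem ext_gen {φ ψ : MulAut Q} (h1 : φ (.a 1) = ψ (.a 1)) (h2 : φ (.xa 0) = ψ (.xa 0)) : φ = ψ := by
  ext1 x
  obtain ⟨m, n, rfl⟩ := gen_eq x
  rw [map_mul, map_mul, map_pow, map_pow, map_pow, map_pow, h1, h2]

instance : Finite (MulAut Q) := Finite.of_injective (fun φ : MulAut Q => (φ (.a 1), φ (.xa 0))) (by
  intro φ ψ h
  simp only [Prod.mk.injEq] at h
  exact ext_gen h.1 h.2)

theorem card_ker_le : Nat.card π.ker ≤ 4 := by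
  classical
  let f : π.ker → Bool × Bool := fun φ => (decide (φ.1 (.a 1) = .a 1), decide (φ.1 (.xa 0) = .xa 0))
  have hf : Function.Injective f := by
    intro φ ψ h
    simp only [f, Prod.mk.injEq, decide_eq_decide] at h
    apply Subtype.ext
    apply ext_gen
    · rcases mem_ker φ.2 (.a 1) with h1 | h1 <;> rcases mem_ker ψ.2 (.a 1) with h2 | h2
      · rw [h1, h2]
      · exfalso
        have := h.1.mp h1
        rw [this] at h2
        exact absurd h2 (by decide)
      · exfalso
        have := h.1.mpr h2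
        rw [this] at h1
        exact absurd h1 (by decide)
      · rw [h1, h2]
    · rcases mem_ker φ.2 (.xa 0) with h1 | h1 <;> rcases mem_ker ψ.2 (.xa 0) with h2 | h2
      · rw [h1, h2]
      · exfalso
        have := h.2.mp h1
        rw [this] at h2
        exact absurd h2 (by decide)
      · exfalso
        have := h.2.mpr h2
        rw [this] at h1
        exact absurd h1 (by decide)
      · rw [h1, h2]
  have := Nat.card_le_card_of_injective f hf
  simpa using this

theorem card_ker_dvd (K : Subgroup (MulAut Q)) (hK : K ≤ π.ker) : Nat.card K ∣ 4 := by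
  have hp : IsPGroup 2 K := by
    rintro ⟨φ, hφ⟩
    refine ⟨1, Subtype.ext ?_⟩
    rw [pow_one]
    exact ker_sq (hK hφ)
  obtain ⟨n, hn⟩ := IsPGroup.iff_card.mp hp
  have h1 : Nat.card K ≤ 4 := (Nat.card_le_card_of_injective _ (Subgroup.inclusion_injective hK)).trans card_ker_le
  rw [hn] at h1 ⊢
  have h2 : n ≤ 2 := by
    by_contra h
    push Not at h
    have : 2 ^ 3 ≤ 2 ^ n := Nat.pow_le_pow_right (by norm_num) h
    omega
  calc 2 ^ n ∣ 2 ^ 2 := pow_dvd_pow 2 h2
    _ = 4 := by norm_num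

/-- splitting the order of a group acting on `Q` -/
theorem card_dvd {G : Type*} [Group G] [Finite G] (c : G →* MulAut Q) :
    Nat.card c.range ∣ 4 * Nat.card (π.comp c).range := by
  have h1 : (π.comp c).range = c.range.map π := by rw [MonoidHom.range_eq_map, ← Subgroup.map_map, ← MonoidHom.range_eq_map]
  set L := c.range with hL
  have h2 : Nat.card L = Nat.card ((π.comp L.subtype).ker) * Nat.card (π.comp L.subtype).range := by
    rw [← (π.comp L.subtype).ker.card_mul_index, Subgroup.index_ker]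
  have h3 : (π.comp L.subtype).range = L.map π := by
    rw [MonoidHom.range_eq_map, ← Subgroup.map_map, ← MonoidHom.range_eq_map, Subgroup.range_subtype]
  have h4 : Nat.card ((π.comp L.subtype).ker) ∣ 4 := by
    have h5 : Nat.card ((π.comp L.subtype).ker) = Nat.card (((π.comp L.subtype).ker).map L.subtype) :=
      Nat.card_congr (((π.comp L.subtype).ker).equivMapOfInjective _ (Subgroup.subtype_injective _)).toEquiv
    rw [h5]
    apply card_ker_dvd
    rintro _ ⟨x, hx, rfl⟩
    exact hx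
  rw [h1, h2, h3]
  exact Nat.mul_dvd_mul h4 dvd_rfl

theorem card_stab (L : Subgroup (Equiv.Perm (Fin 4))) (hL : ∀ σ ∈ L, σ 0 = 0) : Nat.card L ∣ 6 := by
  have h1 : L ≤ MulAction.stabilizer (Equiv.Perm (Fin 4)) (0 : Fin 4) := fun σ hσ => hL σ hσ
  have h2 : Nat.card (MulAction.stabilizer (Equiv.Perm (Fin 4)) (0 : Fin 4)) = 6 := by
    have h3 : Nat.card {σ : Equiv.Perm (Fin 4) // σ 0 = 0} = 6 := by
      rw [Nat.card_eq_fintype_card]
      decide +kernel
    exact h3
  rw [← h2]
  exact Subgroup.card_dvd_of_le h1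

theorem range_dvd {G : Type*} [Group G] [Finite G] (c : G →* MulAut Q) : Nat.card c.range ∣ 24 := by
  have h1 := card_dvd c
  have h2 : Nat.card (π.comp c).range ∣ 6 := by
    apply card_stab
    rintro _ ⟨g, rfl⟩
    exact π_zero _
  calc Nat.card c.range ∣ 4 * Nat.card (π.comp c).range := h1
    _ ∣ 4 * 6 := Nat.mul_dvd_mul_left 4 h2
    _ = 24 := by norm_num

theorem even_stab : ∀ σ : Equiv.Perm (Fin 4), σ 0 = 0 → Equiv.Perm.sign σ = 1 → σ ^ 3 = 1 := by decide +kernel

theorem card_even (L : Subgroup (Equiv.Perm (Fin 4))) (hL : ∀ σ ∈ L, σ 0 = 0)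
    (hL' : ∀ σ ∈ L, Equiv.Perm.sign σ = 1) : Nat.card L ∣ 3 := by
  have h1 := card_stab L hL
  have h2 : ¬ 2 ∣ Nat.card L := by
    intro h
    have : Fact (Nat.Prime 2) := ⟨Nat.prime_two⟩
    obtain ⟨x, hx⟩ := exists_prime_orderOf_dvd_card' 2 h
    have h3 : x ^ 3 = 1 := Subtype.ext (even_stab x (hL x x.2) (hL' x x.2))
    have h4 := orderOf_dvd_of_pow_eq_one h3
    rw [hx] at h4
    norm_num at h4
  have h5 : Nat.card L ≤ 6 := Nat.le_of_dvd (by norm_num) h1
  interval_cases (Nat.card L) <;> simp_all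

theorem range_dvd_even {G : Type*} [Group G] [Finite G] (c : G →* MulAut Q)
    (h : ∀ g, Equiv.Perm.sign (π (c g)) = 1) : Nat.card c.range ∣ 4 * Nat.card (π.comp c).range ∧
      Nat.card (π.comp c).range ∣ 3 := by
  refine ⟨card_dvd c, ?_⟩
  apply card_even
  · rintro _ ⟨g, rfl⟩
    exact π_zero _
  · rintro _ ⟨g, rfl⟩
    exact h g

end Cfsg.Agent.H20.AutQ8
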