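import Mathlib
import Cfsg.Agent.H20_Prim

set_option autoImplicit false

namespace Cfsg.Agent.H20.EP

open MulAction
open scoped Pointwise

variable {G : Type*} [Group G] {Ω : Type*} [MulAction G Ω]

/-- In a primitive group an invariant equivalence relation which is not equality is universal. -/
theorem prim_cong (hprim : IsPreprimitive G Ω) (r : Ω → Ω → Prop) (hrefl : ∀ a, r a a)
    (hsymm : ∀ a b, r a b → r b a) (htrans : ∀ a b c, r a b → r b c → r a c)
    (hinv : ∀ (g : G) a b, r a b → r (g • a) (g • b)) (a b : Ω) (hab : a ≠ b) (hr : r a b) : ∀ x y, r x y := by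
  have hB : IsBlock G {x | r a x} := by
    rw [isBlock_iff_smul_eq_of_mem]
    intro g x hx hgx
    simp only [Set.mem_ofPred_eq] at hx hgx
    -- r a x, r a (g x); r (g a) (g x)
    have h1 : r a (g • a) := htrans _ _ _ hgx (hsymm _ _ (hinv g _ _ hx))
    ext y
    rw [Set.mem_smul_set]
    constructor
    · rintro ⟨z, hz, rfl⟩
      exact htrans _ _ _ h1 (hinv g _ _ hz)
    · intro hy
      refine ⟨g⁻¹ • y, ?_, smul_inv_smul g y⟩
      have h2 := hinv g⁻¹ _ _ (htrans _ _ _ (hsymm _ _ h1) hy)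
      rwa [inv_smul_smul] at h2
  rcases hprim.isTrivialBlock_of_isBlock hB with h | h
  · exact absurd (h (hrefl a) hr) hab
  · intro x y
    have hx : x ∈ {x | r a x} := h ▸ Set.mem_univ x
    have hy : y ∈ {x | r a x} := h ▸ Set.mem_univ y
    exact htrans _ _ _ (hsymm _ _ hx) hy

/-- a subgroup normalized by `H` is trivial or transitive on an orbit on which `H` is primitive. -/
theorem fix_or_trans (H N : Subgroup G) (hN : N ≤ H) (hHN : ∀ h ∈ H, ∀ n ∈ N, h * n * h⁻¹ ∈ N) (γ : Ω)
    (hp : IsPreprimitive H (orbit H γ)) :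
    (∀ n ∈ N, ∀ δ ∈ orbit H γ, n • δ = δ) ∨ (∀ δ ∈ orbit H γ, ∀ δ' ∈ orbit H γ, ∃ n ∈ N, n • δ = δ') := by
  let N' : Subgroup H := N.subgroupOf H
  have hN' : N'.Normal := ⟨fun n hn g => by
    rw [Subgroup.mem_subgroupOf] at hn ⊢
    exact hHN g g.2 n hn⟩
  by_cases hfix : fixedPoints N' (orbit H γ) = Set.univ
  · left
    intro n hn δ hδ
    have h1 : (⟨δ, hδ⟩ : orbit H γ) ∈ fixedPoints N' (orbit H γ) := by rw [hfix]; trivial
    have h2 := h1 ⟨⟨n, hN hn⟩, hn⟩
    exact congrArg Subtype.val h2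
  · right
    have h1 : IsPretransitive N' (orbit H γ) := IsQuasiPreprimitive.isPretransitive_of_normal hfix
    intro δ hδ δ' hδ'
    obtain ⟨n, hn⟩ := h1.exists_smul_eq ⟨δ, hδ⟩ ⟨δ', hδ'⟩
    exact ⟨n.1.1, n.2, congrArg Subtype.val hn⟩

/-- In a primitive group, if a subgroup properly contains a point stabilizer it is everything. -/
theorem eq_of_stab_le [Finite Ω] (hprim : IsPreprimitive G Ω) (hnt : Nontrivial Ω) (α : Ω) (K : Subgroup G)
    (h : stabilizer G α ≤ K) : K = stabilizer G α ∨ K = ⊤ := by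
  have h1 := (isCoatom_stabilizer_iff_preprimitive G α).2 hprim
  rcases h.eq_or_lt with h | h
  · exact Or.inl h.symm
  · exact Or.inr (h1.2 K h)

theorem stab_smul (g : G) (α : Ω) (x : G) : x ∈ stabilizer G α ↔ g * x * g⁻¹ ∈ stabilizer G (g • α) := by
  rw [mem_stabilizer_iff, mem_stabilizer_iff, mul_smul, inv_smul_smul, mul_smul]
  constructor
  · intro h; rw [h]
  · intro h; exact smul_left_cancel g h

/-- in a primitive group with nontrivial stabilizers, distinct points have distinct stabilizers -/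
theorem stab_inj [Finite Ω] [FaithfulSMul G Ω] (hprim : IsPreprimitive G Ω) (hH : ∀ α : Ω, stabilizer G α ≠ ⊥)
    (α β : Ω) (h : stabilizer G α = stabilizer G β) : α = β := by
  by_contra hne
  have h1 := prim_cong hprim (fun a b => stabilizer G a = stabilizer G b) (fun _ => rfl) (fun _ _ h => h.symm)
    (fun _ _ _ h h' => h.trans h') (fun g a b hab => by
      show stabilizer G (g • a) = stabilizer G (g • b)
      rw [stabilizer_smul_eq_stabilizer_map_conj, stabilizer_smul_eq_stabilizer_map_conj, hab]) α β hne h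
  apply hH α
  rw [Subgroup.eq_bot_iff_forall]
  intro x hx
  apply FaithfulSMul.eq_of_smul_eq_smul (α := Ω)
  intro γ
  rw [one_smul]
  rw [h1 α γ] at hx
  exact hx

theorem manning [Finite G] [Finite Ω] [FaithfulSMul G Ω] (hprim : IsPreprimitive G Ω) (hH : ∀ α : Ω, stabilizer G α ≠ ⊥)
    (hep : ∀ (α : Ω) (ω : Ω), IsPreprimitive (stabilizer G α) (orbit (stabilizer G α) ω))
    (α ω : Ω) (hω : ω ≠ α) (h : G) (hh : h ∈ stabilizer G α)
    (hfix : ∀ x ∈ orbit (stabilizer G α) ω, h • x = x) : h = 1 := by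
  classical
  by_contra h1
  have hnt : Nontrivial Ω := ⟨ω, α, hω⟩
  have htr : ∀ x y : Ω, ∃ g : G, g • x = y := fun x y => hprim.exists_smul_eq x y
  let R : Ω → Ω → Prop := fun β γ => ∃ k : G, k • α = β ∧ k • ω = γ
  have hR : ∀ (g : G) β γ, R β γ → R (g • β) (g • γ) := by
    rintro g β γ ⟨k, rfl, rfl⟩
    exact ⟨g * k, mul_smul _ _ _, mul_smul _ _ _⟩
  have hRne : ∀ β γ, R β γ → γ ≠ β := by
    rintro β γ ⟨k, rfl, rfl⟩ hc
    exact hω (smul_left_cancel k hc)
  let K : Ω → Subgroup G := fun β => fixingSubgroup G ({β} ∪ {γ | R β γ})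
  have hKmem : ∀ β x, x ∈ K β ↔ x • β = β ∧ ∀ γ, R β γ → x • γ = γ := by
    intro β x
    simp only [K, mem_fixingSubgroup_iff]
    constructor
    · intro hx
      exact ⟨hx β (Or.inl rfl), fun γ hγ => hx γ (Or.inr hγ)⟩
    · rintro ⟨hx1, hx2⟩ y (hy | hy)
      · rw [Set.mem_singleton_iff] at hy
        rw [hy, hx1]
      · exact hx2 y hy
  have hKle : ∀ β, K β ≤ stabilizer G β := fun β x hx => ((hKmem β x).1 hx).1
  have hKconj : ∀ (g : G) β x, x ∈ K β → g * x * g⁻¹ ∈ K (g • β) := by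
    intro g β x hx
    rw [hKmem] at hx ⊢
    refine ⟨?_, ?_⟩
    · rw [mul_smul, mul_smul, inv_smul_smul, hx.1]
    · intro γ hγ
      have h2 := hR g⁻¹ _ _ hγ
      rw [inv_smul_smul] at h2
      rw [mul_smul, mul_smul, hx.2 _ h2, smul_inv_smul]
  have hKn : ∀ β, ∀ g ∈ stabilizer G β, ∀ x ∈ K β, g * x * g⁻¹ ∈ K β := by
    intro β g hg x hx
    have := hKconj g β x hx
    rwa [show g • β = β from hg] at this
  have hKα : h ∈ K α := by
    rw [hKmem]
    refine ⟨hh, ?_⟩
    rintro γ ⟨k, hk, rfl⟩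
    exact hfix _ ⟨⟨k, hk⟩, rfl⟩
  -- fixed point relation
  let F : Ω → Ω → Prop := fun β γ => ∀ x ∈ K β, x • γ = γ
  have hFinv : ∀ (g : G) β γ, F β γ → F (g • β) (g • γ) := by
    intro g β γ hF x hx
    have h2 := hKconj g⁻¹ _ _ hx
    rw [inv_smul_smul, inv_inv] at h2
    have h3 := hF _ h2
    rw [mul_smul, mul_smul] at h3
    rw [inv_smul_eq_iff] at h3
    exact h3
  have hFinv' : ∀ (g : G) β γ, F (g • β) (g • γ) → F β γ := by
    intro g β γ hF
    have := hFinv g⁻¹ _ _ hF
    rwa [inv_smul_smul, inv_smul_smul] at this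
  have hFrefl : ∀ β, F β β := fun β x hx => hKle β hx
  have hFR : ∀ β γ, R β γ → F β γ := fun β γ hr x hx => ((hKmem β x).1 hx).2 γ hr
  have hdich : ∀ β γ, ¬ F β γ → ∀ δ ∈ orbit (stabilizer G β) γ, ∃ k ∈ K β, k • γ = δ := by
    intro β γ hF δ hδ
    rcases fix_or_trans (stabilizer G β) (K β) (hKle β) (hKn β) γ (hep β γ) with h2 | h2
    · exfalso
      exact hF fun x hx => h2 x hx γ (mem_orbit_self γ)
    · exact h2 γ (mem_orbit_self γ) δ hδ
  -- pick the maximal pair
  obtain ⟨γ1, hγ1⟩ : ∃ γ, ¬ F α γ := by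
    by_contra hc
    push Not at hc
    apply h1
    apply FaithfulSMul.eq_of_smul_eq_smul (α := Ω)
    intro x
    rw [one_smul]
    exact hc x h hKα
  obtain ⟨⟨a, y⟩, hay, hmax⟩ := Set.exists_max_image {p : Ω × Ω | ¬ F p.1 p.2}
    (fun p => Nat.card (orbit (stabilizer G p.1) p.2)) (Set.toFinite _) ⟨(α, γ1), hγ1⟩
  simp only [Set.mem_ofPred_eq] at hay hmax
  -- Δ
  have key1 : ∀ x, F a x → x ≠ a → ∀ z ∈ orbit (stabilizer G a) y, F x z := by
    intro x hx hxa z hz
    by_contra hxz
    have hle := hmax (x, z) hxz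
    have hsub : orbit (stabilizer G a) y ⊆ orbit (stabilizer G x) z := by
      intro w hw
      obtain ⟨k1, hk1, e1⟩ := hdich a y hay z hz
      obtain ⟨k2, hk2, e2⟩ := hdich a y hay w hw
      have hk : k2 * k1⁻¹ ∈ K a := (K a).mul_mem hk2 ((K a).inv_mem hk1)
      refine ⟨⟨k2 * k1⁻¹, hx _ hk⟩, ?_⟩
      show (k2 * k1⁻¹) • z = w
      rw [mul_smul, ← e1, inv_smul_smul, e2]
    have heq : orbit (stabilizer G a) y = orbit (stabilizer G x) z := by
      apply Set.eq_of_subset_of_ncard_le hsub ?_ (Set.toFinite _)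
      rw [← Nat.card_coe_set_eq, ← Nat.card_coe_set_eq]
      exact hle
    -- the setwise stabilizer
    have hs1 : stabilizer G a ≤ stabilizer G (orbit (stabilizer G a) y) := by
      intro g hg
      rw [mem_stabilizer_iff]
      exact smul_orbit (⟨g, hg⟩ : stabilizer G a) y
    have hs2 : stabilizer G x ≤ stabilizer G (orbit (stabilizer G a) y) := by
      rw [heq]
      intro g hg
      rw [mem_stabilizer_iff]
      exact smul_orbit (⟨g, hg⟩ : stabilizer G x) z
    have hnotop : stabilizer G (orbit (stabilizer G a) y) ≠ ⊤ := by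
      intro htop
      obtain ⟨g, hg⟩ := htr y a
      have : g ∈ stabilizer G (orbit (stabilizer G a) y) := htop ▸ Subgroup.mem_top g
      rw [mem_stabilizer_iff] at this
      have h3 : g • y ∈ g • orbit (stabilizer G a) y := Set.smul_mem_smul_set (mem_orbit_self y)
      rw [this, hg] at h3
      obtain ⟨u, hu⟩ := h3
      have h4 : (u : G) • y = a := hu
      have h5 : (u : G) • a = a := u.2
      have h6 : y = a := smul_left_cancel (u : G) (h4.trans h5.symm)
      exact hay (h6 ▸ hFrefl a)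
    have h3 := (eq_of_stab_le hprim hnt a _ hs1).resolve_right hnotop
    have h4 := (eq_of_stab_le hprim hnt x _ hs2).resolve_right hnotop
    exact hxa (stab_inj hprim hH x a (h4.symm.trans h3))
  -- symmetry
  have hsymm0 : ∀ x, F a x → F x a := by
    intro x hx
    by_cases hxa : x = a
    · subst hxa; exact hx
    have hs1 : stabilizer G a ≤ stabilizer G (orbit (stabilizer G a) y) := by
      intro g hg
      rw [mem_stabilizer_iff]
      exact smul_orbit (⟨g, hg⟩ : stabilizer G a) y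
    have hnotop : stabilizer G (orbit (stabilizer G a) y) ≠ ⊤ := by
      intro htop
      obtain ⟨g, hg⟩ := htr y a
      have : g ∈ stabilizer G (orbit (stabilizer G a) y) := htop ▸ Subgroup.mem_top g
      rw [mem_stabilizer_iff] at this
      have h3 : g • y ∈ g • orbit (stabilizer G a) y := Set.smul_mem_smul_set (mem_orbit_self y)
      rw [this, hg] at h3
      obtain ⟨u, hu⟩ := h3
      have h4 : (u : G) • y = a := hu
      have h5 : (u : G) • a = a := u.2
      have h6 : y = a := smul_left_cancel (u : G) (h4.trans h5.symm)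
      exact hay (h6 ▸ hFrefl a)
    have h3 := (eq_of_stab_le hprim hnt a _ hs1).resolve_right hnotop
    intro k hk
    have h4 : k ∈ stabilizer G (orbit (stabilizer G a) y) := by
      rw [mem_stabilizer_iff]
      have h5 : ∀ z ∈ orbit (stabilizer G a) y, k • z = z := fun z hz => key1 x hx hxa z hz k hk
      ext z
      rw [Set.mem_smul_set]
      constructor
      · rintro ⟨w, hw, rfl⟩
        rw [h5 w hw]; exact hw
      · intro hz
        exact ⟨z, hz, h5 z hz⟩
    rw [h3] at h4
    exact h4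
  have hsymm : ∀ b x, F b x → F x b := by
    intro b x hb
    obtain ⟨g, hg⟩ := htr a b
    have h2 : F (g • a) (g • (g⁻¹ • x)) := by rw [smul_inv_smul, hg]; exact hb
    have h3 := hsymm0 _ (hFinv' g _ _ h2)
    have h4 := hFinv g _ _ h3
    rwa [smul_inv_smul, hg] at h4
  -- a ≈ y
  let S : Ω → Set Ω := fun β => {γ | F β γ ∧ γ ≠ β}
  have hSinv : ∀ (g : G) β, S (g • β) = g • S β := by
    intro g β
    ext γ
    rw [Set.mem_smul_set_iff_inv_smul_mem]
    simp only [S, Set.mem_ofPred_eq]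
    constructor
    · rintro ⟨h2, h3⟩
      refine ⟨?_, ?_⟩
      · apply hFinv' g
        rwa [smul_inv_smul]
      · rintro rfl
        exact h3 (by rw [smul_inv_smul])
    · rintro ⟨h2, h3⟩
      refine ⟨?_, ?_⟩
      · have := hFinv g _ _ h2
        rwa [smul_inv_smul] at this
      · rintro rfl
        exact h3 (by rw [inv_smul_smul])
  have hSsub : S a ⊆ S y := by
    rintro x ⟨hx, hxa⟩
    refine ⟨hsymm _ _ (key1 x hx hxa y (mem_orbit_self y)), ?_⟩
    rintro rfl
    exact hay hx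
  have hSeq : S a = S y := by
    apply Set.eq_of_subset_of_ncard_le hSsub ?_ (Set.toFinite _)
    obtain ⟨g, hg⟩ := htr a y
    rw [← hg, hSinv, Set.ncard_smul_set]
  have hay' : a ≠ y := by
    rintro rfl
    exact hay (hFrefl a)
  have huniv := prim_cong hprim (fun b c => S b = S c) (fun _ => rfl) (fun _ _ h => h.symm)
    (fun _ _ _ h h' => h.trans h') (fun g b c hbc => by
      show S (g • b) = S (g • c)
      rw [hSinv, hSinv, hbc]) a y hay' hSeq
  have hωS : ω ∈ S α := ⟨hFR α ω ⟨1, one_smul _ _, one_smul _ _⟩, hω⟩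
  have h5 : S α = S ω := huniv α ω
  rw [h5] at hωS
  exact hωS.2 rfl

end Cfsg.Agent.H20.EP
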