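import Mathlib
import Cfsg.Prelude
import Cfsg.Agent.H20_EP
import Cfsg.Agent.H20_PrimFit
import Cfsg.Agent.H3_Grp

set_option autoImplicit false

namespace Cfsg.Agent.H20.EP

open MulAction Cfsg.Agent.H20.Prim Cfsg.Agent.H20.PrimFit

variable {G : Type*} [Group G] {Ω : Type*} [MulAction G Ω]

theorem stab_ne_bot [FaithfulSMul G Ω] (hprim : IsPreprimitive G Ω) (α : Ω) (h : stabilizer G α ≠ ⊥) (β : Ω) :
    stabilizer G β ≠ ⊥ := by
  intro hb
  apply h
  obtain ⟨g, hg⟩ := hprim.exists_smul_eq α β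
  rw [Subgroup.eq_bot_iff_forall]
  intro x hx
  have h1 := (stab_smul g α x).1 hx
  rw [hg, hb, Subgroup.mem_bot] at h1
  have h2 : x = g⁻¹ * (g * x * g⁻¹) * g := by group
  rw [h2, h1]; group

section
variable [Finite G] [Finite Ω] [FaithfulSMul G Ω] (hprim : IsPreprimitive G Ω) (hH : ∀ α : Ω, stabilizer G α ≠ ⊥)
    (hep : ∀ (α : Ω) (ω : Ω), IsPreprimitive (stabilizer G α) (orbit (stabilizer G α) ω))
include hprim hH hep

theorem faithful (α ω : Ω) (hω : ω ≠ α) : FaithfulSMul (stabilizer G α) (orbit (stabilizer G α) ω) := by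
  constructor
  intro g g' h
  have h1 : (g'⁻¹ * g : G) = 1 := by
    apply manning hprim hH hep α ω hω _ (Subgroup.mul_mem _ (Subgroup.inv_mem _ g'.2) g.2)
    intro x hx
    have h2 := congrArg Subtype.val (h ⟨x, hx⟩)
    have h3 : (g : G) • x = (g' : G) • x := h2
    rw [mul_smul, h3, inv_smul_smul]
  have h2 := eq_of_inv_mul_eq_one h1
  exact Subtype.ext h2.symm

theorem orbit_nontrivial (α ω : Ω) (hω : ω ≠ α) : Nontrivial (orbit (stabilizer G α) ω) := by
  by_contra hn
  rw [not_nontrivial_iff_subsingleton] at hn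
  apply hH α
  rw [Subgroup.eq_bot_iff_forall]
  intro x hx
  apply manning hprim hH hep α ω hω x hx
  intro y hy
  have h1 : (⟨y, hy⟩ : orbit (stabilizer G α) ω) = ⟨x • y, mem_orbit_of_mem_orbit (⟨x, hx⟩ : stabilizer G α) hy⟩ := Subsingleton.elim _ _
  exact (congrArg Subtype.val h1).symm

theorem center_bot (α : Ω) (hHp : ¬ (Nat.card (stabilizer G α)).Prime) : Subgroup.center (stabilizer G α) = ⊥ := by
  by_contra hz
  obtain ⟨h, hh, h1⟩ : ∃ x ∈ stabilizer G α, x ≠ 1 := by
    by_contra hc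
    push Not at hc
    exact hH α ((Subgroup.eq_bot_iff_forall _).2 hc)
  obtain ⟨ω, hω⟩ : ∃ ω : Ω, h • ω ≠ ω := by
    by_contra hc
    push Not at hc
    apply h1
    apply FaithfulSMul.eq_of_smul_eq_smul (α := Ω)
    intro x
    rw [one_smul]; exact hc x
  have hωα : ω ≠ α := by
    rintro rfl
    exact hω hh
  have := faithful hprim hH hep α ω hωα
  have := orbit_nontrivial hprim hH hep α ω hωα
  exact hHp (prim_center (X := orbit (stabilizer G α) ω) (hep α ω) hz)

theorem fitting_facts (α ω : Ω) (hω : ω ≠ α) (hF : Cfsg.fittingSubgroup (stabilizer G α) ≠ ⊥) :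
    (∀ a ∈ Cfsg.fittingSubgroup (stabilizer G α), ∀ b ∈ Cfsg.fittingSubgroup (stabilizer G α), a * b = b * a) ∧
    (∃ p e : ℕ, p.Prime ∧ (∀ x ∈ Cfsg.fittingSubgroup (stabilizer G α), x ^ p = 1) ∧ Nat.card (Cfsg.fittingSubgroup (stabilizer G α)) = p ^ e) ∧
    (∀ x y : orbit (stabilizer G α) ω, ∃ n ∈ Cfsg.fittingSubgroup (stabilizer G α), n • x = y) ∧
    Nat.card (Cfsg.fittingSubgroup (stabilizer G α)) = Nat.card (orbit (stabilizer G α) ω) ∧
    Subgroup.centralizer (Cfsg.fittingSubgroup (stabilizer G α) : Set (stabilizer G α)) = Cfsg.fittingSubgroup (stabilizer G α) := by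
  have := faithful hprim hH hep α ω hω
  have := orbit_nontrivial hprim hH hep α ω hω
  exact prim_fitting (X := orbit (stabilizer G α) ω) (hep α ω) hF

theorem fitting_dvd (α : Ω) (hF : Cfsg.fittingSubgroup (stabilizer G α) ≠ ⊥) :
    Nat.card (Cfsg.fittingSubgroup (stabilizer G α)) ∣ Nat.card Ω - 1 := by
  have h1 : Nat.card (SubMulAction.ofStabilizer G α) = Nat.card Ω - 1 := SubMulAction.nat_card_ofStabilizer_eq G α
  rw [← h1]
  apply H3.Grp.dvd_card_of_stabilizer (N := Cfsg.fittingSubgroup (stabilizer G α))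
  intro x
  have hx : (x : Ω) ≠ α := (SubMulAction.mem_ofStabilizer_iff G α).1 x.2
  obtain ⟨h2, h3, h4, h5, h6⟩ := fitting_facts hprim hH hep α x hx hF
  have hf := faithful hprim hH hep α x hx
  have hr := regular_of_comm (X := orbit (stabilizer G α) (x : Ω)) _ _ h4 h2
  have h7 : stabilizer (Cfsg.fittingSubgroup (stabilizer G α)) x = ⊥ := by
    rw [Subgroup.eq_bot_iff_forall]
    intro f hf'
    apply Subtype.ext
    apply hr (f : stabilizer G α) f.2 ⟨(x : Ω), mem_orbit_self _⟩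
    apply Subtype.ext
    have h8 : f • x = x := hf'
    exact congrArg (fun z : SubMulAction.ofStabilizer G α => (z : Ω)) h8
  rw [h7, Subgroup.index_bot]

end

end Cfsg.Agent.H20.EP
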