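import Cfsg.Agent.H20_J2D5
import Cfsg.Agent.H20_J2D3
import Cfsg.Agent.H20_J2D1
import Cfsg.Agent.H20_J2Lv
set_option autoImplicit false

/-! checks: the 315 involutions and the extraspecial group -/
namespace Cfsg.Agent.H20.J2L
open Cfsg.Agent.H20.J2P (cmi idp dg gL wv A1_T A2_T A3_T A4_T chkTree)

theorem qTT : (List.range 315).all (fun i => bif Nat.beq i 0 then Nat.beq (TT.getD 0 0) (gL.getD 0 0) else
  Nat.beq (TT.getD i 0) (cmi (gL.getD (pr.getD i (0, 0)).1 0) (cmi (TT.getD (pr.getD i (0, 0)).2 0) (gL.getD (pr.getD i (0, 0)).1 0)))) = true := by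
  decide +kernel

theorem qfix : (List.range 315).all (fun j => (Nat.beq ((PA.getD 0 []).getD j 0) j) == (Nat.ble j 10)) = true := by decide +kernel

def J : List ℕ := [1, 2, 3, 4, 5, 6, 7, 8, 9, 10]

theorem qpair : J.all (fun j => J.contains (prt.getD j 0) && (Nat.beq (cmi (TT.getD j 0) (TT.getD (prt.getD j 0) 0)) (TT.getD 0 0) &&
  (Nat.blt (prn.getD j 0) 5 && J.all (fun k => (Nat.beq (prn.getD j 0) (prn.getD k 0)) == (Nat.beq k j || Nat.beq k (prt.getD j 0)))))) = true := by
  decide +kernel

theorem qsurj : (List.range 5).all (fun a => J.any fun j => Nat.beq (prn.getD j 0) a) = true := by decide +kernel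

theorem qtree : chkTree TT QL qpar = true := by decide +kernel
theorem qpar_ok : qpar.all (fun c => J.contains c.1) = true := by decide +kernel
theorem qclosed : J.all (fun j => QL.all (fun q => QL.contains (cmi (TT.getD j 0) q))) = true := by decide +kernel
theorem qnodup : QL.Nodup := by decide +kernel
theorem qsq : QL.all (fun q => Nat.beq (cmi q q) idp || Nat.beq (cmi q q) (TT.getD 0 0)) = true := by decide +kernel
theorem qcen : QL.all (fun q => Nat.beq q idp || (Nat.beq q (TT.getD 0 0) || J.any (fun j =>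
  !(Nat.beq (cmi q (TT.getD j 0)) (cmi (TT.getD j 0) q))))) = true := by decide +kernel
theorem qact : J.all (fun a => J.all (fun j => Nat.beq (cmi (TT.getD a 0) (cmi (TT.getD j 0) (TT.getD a 0))) (TT.getD j 0) ||
  Nat.beq (cmi (TT.getD a 0) (cmi (TT.getD j 0) (TT.getD a 0))) (TT.getD (prt.getD j 0) 0))) = true := by decide +kernel

def TA' : List (List ℕ) := [A1_T, A2_T, A3_T, A4_T]

theorem q3 : (List.range 11).all (fun j => Nat.beq (cmi (wv TA' wd3) (TT.getD j 0)) (cmi (TT.getD (im3.getD j 0) 0) (wv TA' wd3))) = true := by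
  decide +kernel
theorem q5 : (List.range 11).all (fun j => Nat.beq (cmi (wv TA' wd5) (TT.getD j 0)) (cmi (TT.getD (im5.getD j 0) 0) (wv TA' wd5))) = true := by
  decide +kernel
theorem TTnodup : TT.Nodup := by decide +kernel

end Cfsg.Agent.H20.J2L
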