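import Mathlib
set_option autoImplicit false

/-! the outer automorphism on 100 points, conjugating words -/
namespace Cfsg.Agent.H20.J2O

/-- the transpositions of the outer involution -/
def SW : List (Fin 100 × Fin 100) := [(0, 93), (1, 58), (2, 52), (3, 10), (4, 83), (5, 53), (6, 78), (7, 18), (8, 92), (9, 89), (11, 24), (12, 68), (13, 45), (14, 42), (15, 71), (16, 91), (17, 36), (19, 75), (20, 70), (21, 33), (22, 35), (23, 59), (25, 37), (26, 81), (29, 54), (30, 77), (31, 40), (32, 72), (39, 73), (41, 69), (43, 65), (44, 56), (46, 98), (47, 61), (48, 86), (49, 84), (51, 99), (60, 94), (62, 76), (64, 88), (67, 90), (82, 96), (95, 97)]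
def TP : ℕ := 2110843749678410974199540476942824512756405742360527628212754358051865158508694599898498705409510650154126802299251280364516791769518872316950169045497168548572138079862331456527580687765698427249796570457906525
def TG : List ℕ := [0, 21, 8, 41]
def w1 : List (List ℕ) := [[], [], [], [], [], [], [], [], [], [], [], [], [], [], [], [], [], [], [], [], [], [], [], [], [], [], [], [], [], [], [], [], [], [], [], [], [], [], [], [], [], [], [], [], [], [], [], [], [], [], [], [], [], [], [], [], [], [], [], [], [], [], [], [], [], [], [], [], [], [], [], [], [], [], [], [], [], [], [], [], [], [], [], [], [], [], [], [], [], [], [], [], [], [], [], [], [], [], [], [], [], [], [], [], [], [], [], [], [], [], [], [], [], [], [], [], [], [], [], [], [], [], [], [], [], [], [], [], [], [], [], [], [], [], [], [], [], [], [], [], [], [], [], [], [], [], [], [], [], [], [], [], [], [], [], [], [], [], [], [], [], [], [], [], [], [], [], [], [], [], [], [], [], [], [], [], [], [], [], [], [], [], [], [], [], [], [], [], [], [], [], [],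 [], [], [], [], [], [], [], [], [], [], [], [], [], [], [], [], [], [], [], [], [], [], [], [], [], [], [], [], [], [], [], [], [], [], [], [], [], [], [], [], [], [], [], [], [], [], [], [], [], [], [], [], [], [], [], [], [], [], [], [0, 0, 0, 0], [0, 11, 11, 0], [0, 34, 8, 2], [0, 59, 7, 1], [0, 36, 0, 0], [0, 11, 11, 2], [0, 34, 8, 1], [0, 0, 0, 1], [0, 11, 11, 1], [0, 59, 7, 0], [0, 18, 26, 0], [0, 40, 0, 0], [0, 42, 31, 1], [0, 0, 0, 2], [0, 59, 7, 2], [0, 42, 31, 2], [0, 0, 0, 0], [0, 59, 7, 2], [0, 11, 11, 2], [0, 42, 31, 1], [0, 40, 0, 2], [0, 11, 11, 1], [0, 59, 7, 0], [0, 0, 0, 1], [0, 42, 31, 0], [0, 34, 8, 1], [0, 36, 0, 2], [0, 18, 26, 2], [0, 59, 7, 1], [0, 0, 0, 2], [0, 11, 11, 0], [0, 34, 8, 0], [0, 30, 16, 0], [0, 45, 26, 0], [0, 27, 24, 0], [0, 28, 0, 1], [0, 28, 0, 0], [0, 33, 13, 1], [0, 33, 13, 2], [0, 28, 0, 2], [0, 27, 24, 1], [0, 13, 9, 1], [0, 13, 9, 2], [0, 9, 0, 1], [0, 9, 0, 0], [0, 58, 8, 2], [0, 58, 8, 1], [0, 27, 24, 2], [0, 28, 0, 1], [0, 13, 9, 0], [0, 45, 26, 2], [0, 27, 24, 1], [0, 9, 0, 0], [0, 33, 13,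 0], [0, 28, 0, 0], [0, 58, 8, 1], [0, 9, 0, 2], [0, 27, 24, 2], [0, 28, 0, 2], [0, 13, 9, 1], [0, 58, 8, 0], [0, 30, 16, 2], [0, 27, 24, 0], [0, 33, 13, 1]]
def w2 : List (List ℕ) := [[], [], [], [], [], [], [], [], [], [], [], [0, 0, 0, 0], [0, 31, 11, 1], [77, 7, 1, 1], [], [0, 18, 26, 1], [], [], [], [], [], [], [], [], [], [], [], [26, 62, 11, 0], [], [], [], [96, 48, 27, 0], [96, 9, 7, 0], [96, 61, 23, 1], [], [], [], [97, 46, 24, 2], [], [47, 54, 29, 2], [], [47, 12, 3, 2], [47, 29, 5, 2], [], [], [], [], [], [], [], [], [], [], [], [], [], [], [], [], [5, 60, 0, 0], [5, 42, 31, 2], [5, 38, 9, 0], [], [67, 19, 1, 0], [], [], [], [], [50, 27, 9, 2], [], [], [12, 47, 13, 2], [12, 40, 6, 1], [], [12, 30, 25, 1], [], [], [], [], [], [], [], [], [], [], [], [], [], [], [], [], [], [], [], [], [], [], [], [], [], [], [], [], [], [], [], [], [], [], [], [], [], [], [], [], [], [], [], [], [], [], [], [], [], [], [], [], [], [], [], [], [], [], [], [], [], [], [], [], [], [], [], [], [], [], [], [], [], [], [], [], [], [], [], [], [], [], [],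 [], [], [], [], [], [], [], [], [], [], [], [], [], [], [], [], [], [], [], [], [], [], [], [], [], [], [], [], [], [], [], [], [], [], [], [], [], [], [], [], [], [], [], [], [], [], [], [], [], [], [], [], [], [], [], [], [], [], [], [], [], [], [], [], [], [], [], [], [], [], [], [], [], [], [], [], [], [], [], [], [], [], [], [], [], [], [], [], [], [], [], [], [], [], [], [], [], [], [], [], [], [], [], [], [], [], [], [], [], [], [], [], [], [], [], [], [], [], [], [], [], [], [], [], [], [], [], [], [], [], [], [], [], [], [], [], [], [], [], [], [], [], [], [], [], [], [], [], [], [], [], [], [], [], [], [], []]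
def w3 : List (List ℕ) := [[], [], [], [0, 0, 0, 0], [94, 18, 4, 2], [], [], [], [77, 9, 7, 2], [], [], [], [], [], [], [], [], [], [], [], [], [], [], [], [], [], [], [], [], [], [], [], [], [], [], [], [], [], [], [], [], [], [], [], [], [], [], [], [], [], [], [], [], [], [], [], [], [], [], [], [], [], [], [], [], [], [], [], [], [], [], [], [], [], [], [], [], [], [], [], [], [], [], [], [], [], [], [], [], [], [], [], [], [], [], [], [], [], [], [], [], [], [], [], [], [], [], [], [], [], [], [], [], [], [], [], [], [], [], [], [], [], [], [], [], [], [], [], [], [], [], [], [], [], [], [], [], [], [], [], [], [], [], [], [], [], [], [], [], [], [], [], [], [], [], [], [], [], [], [], [], [], [], [], [], [], [], [], [], [], [], [], [], [], [], [], [], [], [], [], [], [], [], [], [], [], [], [], [], [], [], [], [], [], [], [], [], [], [], [], [], [], [], [], [], [], [], [], [], [], [], [], [], [], [], [], [], [], [], [], [], [], [], [], [], [], [], [], [], [], [], [], [], [], [], [], [], [], [], [], [], [], [], [], [], [], [], [], [],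 [], [], [], [], [], [], [], [], [], [], [], [], [], [], [], [], [], [], [], [], [], [], [], [], [], [], [], [], [], [], [], [], [], [], [], [], [], [], [], [], [], [], [], [], [], [], [], [], [], [], [], [], [], [], [], [], [], [], [], [], [], [], [], [], [], []]

end Cfsg.Agent.H20.J2O
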