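import Cfsg.Agent.H20_J2D5
import Cfsg.Agent.H20_J2D6
import Cfsg.Agent.H20_J2D1
import Cfsg.Agent.H20_J2Lv
import Cfsg.Agent.H20_J2Chk5
set_option autoImplicit false

/-! checks for the automorphism group -/
namespace Cfsg.Agent.H20.J2O
open Cfsg.Agent.H20.J2P (cmi idp dg gL wv Rep okp)
open Cfsg.Agent.H20.J2L (TT TA')
open Equiv

/-- powers -/
def pw : ℕ → ℕ → ℕ := fun n p => Nat.rec idp (fun _ ih => cmi p ih) n

def tt (i : ℕ) : ℕ := TT.getD i 0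

def ok1 (x : ℕ) (a : ℕ) : Bool := Nat.beq (cmi a (tt 0)) (cmi (tt 0) a) &&
  (Nat.beq (cmi a (tt 251)) (cmi (tt x) a) || Nat.beq (cmi a (tt 267)) (cmi (tt x) a))

def ok2 (x : ℕ) (a : ℕ) : Bool := Nat.beq (cmi a (tt 0)) (cmi (tt 0) a) &&
  (Nat.beq (cmi a (tt 251)) (cmi (tt 251) a) && Nat.beq (cmi a (tt 11)) (cmi (tt x) a))

def ok3 (x : ℕ) (a : ℕ) : Bool := Nat.beq (cmi a (tt 0)) (cmi (tt 0) a) &&
  (Nat.beq (cmi a (tt 251)) (cmi (tt 251) a) && (Nat.beq (cmi a (tt 11)) (cmi (tt 11) a) && Nat.beq (cmi a (tt 3)) (cmi (tt x) a)))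

theorem stage1 : (List.range 315).all (fun x => Nat.beq x 0 || (!(Nat.beq (pw 5 (cmi (tt 0) (tt x))) idp) ||
  ok1 x (wv TA' (w1.getD x [])))) = true := by decide +kernel

theorem stage2 : (List.range 315).all (fun x => !(Nat.beq (pw 4 (cmi (tt 0) (tt x))) idp) ||
  (!(Nat.beq (pw 4 (cmi (tt 251) (tt x))) idp) || ok2 x (wv TA' (w2.getD x [])))) = true := by decide +kernel

theorem stage3 : (List.range 315).all (fun x => !(Nat.beq (pw 3 (cmi (tt 0) (cmi (tt 11) (tt x)))) idp) ||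
  (!(Nat.beq (pw 3 (cmi (tt 0) (cmi (tt 251) (cmi (tt 11) (cmi (tt 251) (tt x)))))) idp) || ok3 x (wv TA' (w3.getD x [])))) = true := by
  decide +kernel

theorem rels : (Nat.beq (pw 5 (cmi (tt 0) (tt 251))) idp && (Nat.beq (pw 4 (cmi (tt 0) (tt 11))) idp &&
  (Nat.beq (pw 4 (cmi (tt 251) (tt 11))) idp && (Nat.beq (pw 3 (cmi (tt 0) (cmi (tt 11) (tt 3)))) idp &&
  Nat.beq (pw 3 (cmi (tt 0) (cmi (tt 251) (cmi (tt 11) (cmi (tt 251) (tt 3)))))) idp)))) = true := by decide +kernel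

/-- `t k = t i * t j * t i` -/
def cjk (i j k : ℕ) : Bool := Nat.beq (cmi (tt i) (cmi (tt j) (tt i))) (tt k)

theorem chain : (cjk 3 11 19 && (cjk 251 3 164 && (cjk 11 164 79 && cjk 3 79 36))) = true := by decide +kernel

end Cfsg.Agent.H20.J2O
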