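import Cfsg.Agent.H20_J2D5
import Cfsg.Agent.H20_J2D6
import Cfsg.Agent.H20_J2Lv
set_option autoImplicit false

/-! checks for the outer involution -/
namespace Cfsg.Agent.H20.J2O
open Cfsg.Agent.H20.J2P (cmi idp dg wv Rep okp)
open Cfsg.Agent.H20.J2L (TT)
open Equiv

/-- the outer involution -/
def T : Perm (Fin 100) := (SW.map fun p => swap p.1 p.2).prod

theorem T_dg : ∀ i : Fin 100, dg TP i = (T i : ℕ) := by decide +kernel
theorem TP_lt : TP < 128 ^ 100 := by decide +kernel
theorem SW_ne' : SW.all (fun p => !(Nat.beq p.1.val p.2.val)) = true := by decide +kernel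
theorem SW_ne : ∀ p ∈ SW, p.1 ≠ p.2 := by
  intro p hp h
  have h1 := List.all_eq_true.1 SW_ne' p hp
  rw [h, Nat.beq_refl] at h1
  exact absurd h1 (by decide)
theorem SW_len : SW.length = 43 := by decide +kernel

theorem T_rep : Rep T TP := ⟨T_dg, TP_lt⟩

def ttt (i : ℕ) : ℕ := TT.getD i 0
def tj (i j : ℕ) : Bool := Nat.beq (cmi TP (ttt i)) (cmi (ttt j) TP)

theorem T_chk : (tj 0 0 && (tj 19 21 && (tj 3 8 && (tj 36 41 && (tj 251 267 && (tj 267 251 && Nat.beq (cmi TP TP) idp)))))) = true := by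
  decide +kernel

end Cfsg.Agent.H20.J2O
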