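import Cfsg.Prelude.Def_MonsterType
import Cfsg.Agent.H28_Basic
import Cfsg.Agent.H2_PGroup
import Cfsg.Agent.H2_Card
import Cfsg.Agent.H1_Frattini

set_option autoImplicit false
set_option linter.all false
open Cfsg
open scoped commutatorElement

namespace Cfsg.Agent.H28.Xsp

variable {G : Type*} [Group G]

/-- working form of "`Q` is an extraspecial 2-subgroup with centre `{1, z}`". -/
structure Xsp (Q : Subgroup G) (z : G) : Prop where
  mem : z ∈ Q
  ne : z ≠ 1
  sq : z * z = 1
  zc : ∀ x ∈ Q, z * x = x * z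
  comm : ∀ x ∈ Q, ∀ y ∈ Q, x * y = y * x ∨ x * y = z * (y * x)
  sqr : ∀ x ∈ Q, x * x = 1 ∨ x * x = z
  cen : ∀ x ∈ Q, (∀ y ∈ Q, x * y = y * x) → x = 1 ∨ x = z

theorem mem_zpowers_of_sq {z x : G} (hz : z * z = 1) : x ∈ Subgroup.zpowers z ↔ x = 1 ∨ x = z := by
  constructor
  · intro h
    obtain ⟨k, rfl⟩ := Subgroup.mem_zpowers_iff.mp h
    rcases Int.even_or_odd k with ⟨m, hm⟩ | ⟨m, hm⟩
    · left
      rw [hm, ← two_mul, zpow_mul, zpow_two, hz, one_zpow]
    · right
      rw [hm, zpow_add, zpow_mul, zpow_two, hz, one_zpow, one_mul, zpow_one]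
  · rintro (rfl | rfl)
    · exact one_mem _
    · exact Subgroup.mem_zpowers _

namespace Xsp

variable {Q : Subgroup G} {z : G}

theorem center_map (h : Xsp Q z) : (Subgroup.center ↥Q).map Q.subtype = Subgroup.zpowers z := by
  ext x
  rw [mem_zpowers_of_sq h.sq]
  constructor
  · rintro ⟨y, hy, rfl⟩
    apply h.cen _ y.2
    intro w hw
    have := Subgroup.mem_center_iff.mp hy ⟨w, hw⟩
    exact (congrArg Subtype.val this).symm
  · rintro (rfl | rfl)
    · exact one_mem _
    · refine ⟨⟨x, h.mem⟩, ?_, rfl⟩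
      rw [SetLike.mem_coe, Subgroup.mem_center_iff]
      intro y
      apply Subtype.ext
      exact (h.zc y y.2).symm

theorem zinv (h : Xsp Q z) : z⁻¹ = z := inv_eq_of_mul_eq_one_left h.sq

theorem orderOf_z (h : Xsp Q z) : orderOf z = 2 := by
  rw [orderOf_eq_iff (by norm_num)]
  refine ⟨by rw [pow_two]; exact h.sq, ?_⟩
  intro m hm hm0
  interval_cases m
  simpa using h.ne

theorem pow_four (h : Xsp Q z) {x : G} (hx : x ∈ Q) : x ^ 4 = 1 := by
  have : x ^ 4 = (x * x) * (x * x) := by rw [← pow_two, ← pow_two, ← pow_mul]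
  rw [this]
  rcases h.sqr x hx with h1 | h1
  · rw [h1, one_mul]
  · rw [h1, h.sq]

theorem isPGroup (h : Xsp Q z) : IsPGroup 2 Q := by
  intro x
  refine ⟨2, ?_⟩
  apply Subtype.ext
  simpa using h.pow_four x.2

theorem not_comm_mul (h : Xsp Q z) {x y y' : G} (hx : x ∈ Q) (hy : y ∈ Q) (hy' : y' ∈ Q)
    (h1 : x * y ≠ y * x) (h2 : x * y' ≠ y' * x) : x * (y * y') = (y * y') * x := by
  have h1' := (h.comm x hx y hy).resolve_left h1
  have h2' := (h.comm x hx y' hy').resolve_left h2
  calc x * (y * y') = (x * y) * y' := by rw [mul_assoc]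
    _ = z * (y * x) * y' := by rw [h1']
    _ = z * y * (x * y') := by simp only [mul_assoc]
    _ = z * y * (z * (y' * x)) := by rw [h2']
    _ = (z * y) * z * (y' * x) := by simp only [mul_assoc]
    _ = (y * z) * z * (y' * x) := by rw [h.zc y hy]
    _ = y * (z * z) * (y' * x) := by simp only [mul_assoc]
    _ = (y * y') * x := by rw [h.sq, mul_one, ← mul_assoc]

theorem exists_not_comm (h : Xsp Q z) {x : G} (hx : x ∈ Q) (h1 : x ≠ 1) (hz : x ≠ z) :
    ∃ y ∈ Q, x * y ≠ y * x := by
  by_contra hcon
  push Not at hcon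
  rcases h.cen x hx hcon with h2 | h2
  · exact h1 h2
  · exact hz h2

/-- conjugation by elements of `Q`. -/
theorem conj_eq (h : Xsp Q z) {x y : G} (hx : x ∈ Q) (hy : y ∈ Q) :
    x * y * x⁻¹ = y ∨ x * y * x⁻¹ = z * y := by
  rcases h.comm x hx y hy with h1 | h1
  · left; rw [h1, mul_inv_cancel_right]
  · right; rw [h1, ← mul_assoc, mul_inv_cancel_right]

theorem conj_eq_of_not_comm (h : Xsp Q z) {x y : G} (hx : x ∈ Q) (hy : y ∈ Q)
    (hn : x * y ≠ y * x) : x * y * x⁻¹ = z * y := by
  have h1 := (h.comm x hx y hy).resolve_left hn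
  rw [h1, ← mul_assoc, mul_inv_cancel_right]

theorem le_normalizer (h : Xsp Q z) {R : Subgroup G} (hR : R ≤ Q) (hz : z ∈ R) :
    Q ≤ Subgroup.normalizer (R : Set G) := by
  have key : ∀ x ∈ Q, ∀ y ∈ R, x * y * x⁻¹ ∈ R := by
    intro x hx y hy
    rcases h.conj_eq hx (hR hy) with h1 | h1
    · rw [h1]; exact hy
    · rw [h1]; exact R.mul_mem hz hy
  intro x hx
  rw [Subgroup.mem_normalizer_iff]
  intro y
  constructor
  · exact key x hx y
  · intro hy
    have := key x⁻¹ (Q.inv_mem hx) _ hy
    simpa [mul_assoc] using this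

theorem card_le_two_mul [Finite G] (h : Xsp Q z) {A : Subgroup G} (hA : A ≤ Q) {x : G} (hx : x ∈ Q) :
    Nat.card A ≤ 2 * Nat.card (A ⊓ Subgroup.centralizer ({x} : Set G) : Subgroup G) := by
  by_cases hc : ∀ a ∈ A, x * a = a * x
  · have : A ⊓ Subgroup.centralizer ({x} : Set G) = A := by
      apply inf_eq_left.mpr
      intro a ha
      rw [Subgroup.mem_centralizer_singleton_iff]
      exact (hc a ha).symm
    rw [this]; omega
  · push Not at hc
    obtain ⟨a, ha, hxa⟩ := hc
    have h2 : (Subgroup.centralizer ({x} : Set G)).relIndex A = 2 := by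
      rw [Subgroup.relIndex_eq_two_iff]
      refine ⟨a, ha, ?_⟩
      intro b hb
      rw [Subgroup.mem_centralizer_singleton_iff, Subgroup.mem_centralizer_singleton_iff]
      by_cases hxb : b * x = x * b
      · right
        refine ⟨hxb, ?_⟩
        intro hba
        apply hxa
        have h3 : b * (a * x) = b * (x * a) := by
          rw [← mul_assoc, hba, ← mul_assoc, ← hxb, mul_assoc]
        exact (mul_left_cancel h3).symm
      · left
        refine ⟨?_, hxb⟩
        exact (h.not_comm_mul hx (hA hb) (hA ha) (fun h => hxb h.symm) hxa).symm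
    have := H2.Card.card_inf_mul_relIndex (Subgroup.centralizer ({x} : Set G)) A
    rw [h2] at this
    rw [inf_comm]
    omega

theorem card_mono [Finite G] (h : Xsp Q z) : ∀ (n : ℕ) {R S : Subgroup G}, Nat.card S ≤ Nat.card R + n →
    R ≤ S → S ≤ Q →
    Nat.card R * Nat.card (Q ⊓ Subgroup.centralizer (R : Set G) : Subgroup G) ≤
      Nat.card S * Nat.card (Q ⊓ Subgroup.centralizer (S : Set G) : Subgroup G) := by
  intro n
  induction n with
  | zero =>
    intro R S hc hRS hSQ
    have : R = S := Subgroup.eq_of_le_of_card_ge hRS (by simpa using hc)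
    rw [this]
  | succ n ih =>
    intro R S hc hRS hSQ
    by_cases hlt : R = S
    · rw [hlt]
    obtain ⟨x, hxS, hxR⟩ := SetLike.exists_of_lt (lt_of_le_of_ne hRS hlt)
    have hxQ := hSQ hxS
    set R' := R ⊔ Subgroup.zpowers x with hR'
    have hR'S : R' ≤ S := sup_le hRS (by rw [Subgroup.zpowers_le]; exact hxS)
    have hlt' : R < R' := by
      apply lt_of_le_of_ne le_sup_left
      intro h1
      apply hxR
      rw [h1]
      exact Subgroup.mem_sup_right (Subgroup.mem_zpowers x)
    have hcard : 2 * Nat.card R ≤ Nat.card R' := by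
      have h1 := Subgroup.card_dvd_of_le hlt'.le
      obtain ⟨k, hk⟩ := h1
      have h2 := H2.Card.card_lt_of_lt hlt'
      have hpos : 0 < Nat.card R := Nat.card_pos
      have : 2 ≤ k := by
        by_contra hk'
        have : k = 0 ∨ k = 1 := by omega
        rcases this with rfl | rfl
        · simp at hk; omega
        · rw [mul_one] at hk; omega
      rw [hk]; nlinarith
    have hcent : Q ⊓ Subgroup.centralizer (R' : Set G) =
        (Q ⊓ Subgroup.centralizer (R : Set G)) ⊓ Subgroup.centralizer ({x} : Set G) := by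
      have : Subgroup.centralizer (R' : Set G) =
          Subgroup.centralizer (R : Set G) ⊓ Subgroup.centralizer ({x} : Set G) := by
        apply le_antisymm
        · apply le_inf
          · exact Subgroup.centralizer_le (by exact_mod_cast le_sup_left)
          · apply Subgroup.centralizer_le
            intro y hy
            rw [Set.mem_singleton_iff] at hy
            subst hy
            exact Subgroup.mem_sup_right (Subgroup.mem_zpowers _)
        · rw [Subgroup.le_centralizer_iff, hR', sup_le_iff]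
          constructor
          · rw [Subgroup.le_centralizer_iff]; exact inf_le_left
          · rw [Subgroup.zpowers_le, Subgroup.mem_centralizer_iff]
            intro y hy
            exact Subgroup.mem_centralizer_singleton_iff.mp (Subgroup.mem_inf.mp hy).2
      rw [this, inf_assoc]
    have h1 := h.card_le_two_mul (A := Q ⊓ Subgroup.centralizer (R : Set G)) inf_le_left hxQ
    rw [← hcent] at h1
    have h2 := ih (R := R') (S := S) (by
      have h2 := H2.Card.card_lt_of_lt hlt'
      omega) hR'S hSQ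
    calc Nat.card R * Nat.card (Q ⊓ Subgroup.centralizer (R : Set G) : Subgroup G)
        ≤ Nat.card R * (2 * Nat.card (Q ⊓ Subgroup.centralizer (R' : Set G) : Subgroup G)) :=
          Nat.mul_le_mul_left _ h1
      _ = (2 * Nat.card R) * Nat.card (Q ⊓ Subgroup.centralizer (R' : Set G) : Subgroup G) := by ring
      _ ≤ Nat.card R' * Nat.card (Q ⊓ Subgroup.centralizer (R' : Set G) : Subgroup G) :=
          Nat.mul_le_mul_right _ hcard
      _ ≤ _ := h2

theorem inf_centralizer_self (h : Xsp Q z) :
    Q ⊓ Subgroup.centralizer (Q : Set G) = Subgroup.zpowers z := by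
  ext x
  rw [mem_zpowers_of_sq h.sq, Subgroup.mem_inf, Subgroup.mem_centralizer_iff]
  constructor
  · rintro ⟨hx, h1⟩
    exact h.cen x hx (fun y hy => (h1 y hy).symm)
  · rintro (rfl | rfl)
    · exact ⟨one_mem _, fun y _ => by simp⟩
    · exact ⟨h.mem, fun y hy => (h.zc y hy).symm⟩

theorem card_zpowers (h : Xsp Q z) : Nat.card (Subgroup.zpowers z) = 2 := by
  rw [Nat.card_zpowers, h.orderOf_z]

theorem zpowers_le_of_mem (_h : Xsp Q z) {R : Subgroup G} (hz : z ∈ R) : Subgroup.zpowers z ≤ R := by
  rwa [Subgroup.zpowers_le]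

/-- duality: `|R| |C_Q(R)| = 2 |Q|` for `z ∈ R ≤ Q`. -/
theorem duality [Finite G] (h : Xsp Q z) {R : Subgroup G} (hz : z ∈ R) (hR : R ≤ Q) :
    Nat.card R * Nat.card (Q ⊓ Subgroup.centralizer (R : Set G) : Subgroup G) = 2 * Nat.card Q := by
  apply le_antisymm
  · have h1 := h.card_mono (Nat.card Q) (R := R) (S := Q) (by omega) hR le_rfl
    rw [h.inf_centralizer_self, h.card_zpowers] at h1
    omega
  · have h1 := h.card_mono (Nat.card Q) (R := Subgroup.zpowers z) (S := R) (by
      have := Nat.card_le_card_of_injective _ (Subgroup.inclusion_injective hR)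
      omega) (h.zpowers_le_of_mem hz) hR
    rw [h.card_zpowers] at h1
    have h2 : Q ⊓ Subgroup.centralizer ((Subgroup.zpowers z : Subgroup G) : Set G) = Q := by
      apply inf_eq_left.mpr
      intro x hx
      rw [Subgroup.mem_centralizer_iff]
      intro y hy
      rw [SetLike.mem_coe, mem_zpowers_of_sq h.sq] at hy
      rcases hy with rfl | rfl
      · simp
      · exact h.zc x hx
    rw [h2] at h1
    exact h1

theorem double_centralizer [Finite G] (h : Xsp Q z) {R : Subgroup G} (hz : z ∈ R) (hR : R ≤ Q) :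
    Q ⊓ Subgroup.centralizer ((Q ⊓ Subgroup.centralizer (R : Set G) : Subgroup G) : Set G) = R := by
  symm
  apply Subgroup.eq_of_le_of_card_ge
  · apply le_inf hR
    rw [Subgroup.le_centralizer_iff]
    exact inf_le_right
  · have h1 := h.duality hz hR
    have hzc : z ∈ Q ⊓ Subgroup.centralizer (R : Set G) := by
      rw [Subgroup.mem_inf, Subgroup.mem_centralizer_iff]
      exact ⟨h.mem, fun y hy => (h.zc y (hR hy)).symm⟩
    have h2 := h.duality hzc inf_le_left
    rw [mul_comm] at h1
    have hpos : 0 < Nat.card (Q ⊓ Subgroup.centralizer (R : Set G) : Subgroup G) := Nat.card_pos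
    have := Nat.eq_of_mul_eq_mul_left hpos (h1.trans h2.symm)
    exact this.ge

theorem conj (h : Xsp Q z) (g : G) : Xsp (Q.map (MulAut.conj g).toMonoidHom) (g * z * g⁻¹) where
  mem := ⟨z, h.mem, rfl⟩
  ne := by
    intro h1
    apply h.ne
    rw [mul_inv_eq_iff_eq_mul, one_mul] at h1
    exact (mul_eq_left (a := g)).mp h1
  sq := by
    calc g * z * g⁻¹ * (g * z * g⁻¹) = g * (z * z) * g⁻¹ := by group
      _ = 1 := by rw [h.sq]; group
  zc := by
    rintro _ ⟨x, hx, rfl⟩
    simp only [MulEquiv.toMonoidHom_eq_coe, MonoidHom.coe_coe, MulAut.conj_apply]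
    calc g * z * g⁻¹ * (g * x * g⁻¹) = g * (z * x) * g⁻¹ := by group
      _ = g * (x * z) * g⁻¹ := by rw [h.zc x hx]
      _ = _ := by group
  comm := by
    rintro _ ⟨x, hx, rfl⟩ _ ⟨y, hy, rfl⟩
    simp only [MulEquiv.toMonoidHom_eq_coe, MonoidHom.coe_coe, MulAut.conj_apply]
    rcases h.comm x hx y hy with h1 | h1
    · left
      calc g * x * g⁻¹ * (g * y * g⁻¹) = g * (x * y) * g⁻¹ := by group
        _ = g * (y * x) * g⁻¹ := by rw [h1]
        _ = _ := by group
    · right
      calc g * x * g⁻¹ * (g * y * g⁻¹) = g * (x * y) * g⁻¹ := by group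
        _ = g * (z * (y * x)) * g⁻¹ := by rw [h1]
        _ = _ := by group
  sqr := by
    rintro _ ⟨x, hx, rfl⟩
    simp only [MulEquiv.toMonoidHom_eq_coe, MonoidHom.coe_coe, MulAut.conj_apply]
    have : g * x * g⁻¹ * (g * x * g⁻¹) = g * (x * x) * g⁻¹ := by group
    rw [this]
    rcases h.sqr x hx with h1 | h1
    · left; rw [h1]; group
    · right; rw [h1]
  cen := by
    rintro _ ⟨x, hx, rfl⟩ hc
    simp only [MulEquiv.toMonoidHom_eq_coe, MonoidHom.coe_coe, MulAut.conj_apply] at hc ⊢
    have : x = 1 ∨ x = z := by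
      apply h.cen x hx
      intro y hy
      have h1 := hc (g * y * g⁻¹) ⟨y, hy, rfl⟩
      have h2 : g * (x * y) * g⁻¹ = g * (y * x) * g⁻¹ := by
        calc g * (x * y) * g⁻¹ = g * x * g⁻¹ * (g * y * g⁻¹) := by group
          _ = _ := h1
          _ = _ := by group
      exact mul_left_cancel (mul_right_cancel h2)
    rcases this with rfl | rfl
    · left; group
    · right; rfl

/-- build an `Xsp` from `IsExtraspecial`. -/
theorem exists_of_isExtraspecial [Finite G] {Q : Subgroup G} (hQ : IsExtraspecial 2 ↥Q) :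
    ∃ z, Xsp Q z := by
  obtain ⟨⟨hp, hfr, hco⟩, hc⟩ := hQ
  haveI : Fact (Nat.Prime 2) := ⟨Nat.prime_two⟩
  rw [Nat.card_eq_two_iff' (1 : Subgroup.center ↥Q)] at hc
  obtain ⟨z, hz1, hzu⟩ := hc
  have hcen : ∀ x : ↥Q, x ∈ Subgroup.center ↥Q → x = 1 ∨ x = (z : ↥Q) := by
    intro x hx
    by_cases h1 : x = 1
    · exact Or.inl h1
    · right
      have := hzu ⟨x, hx⟩ (by
        intro h; apply h1; exact congrArg Subtype.val h)
      exact congrArg Subtype.val this
  have hzz : (z : ↥Q) ∈ Subgroup.center ↥Q := z.2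
  have hzz' := Subgroup.mem_center_iff.mp hzz
  refine ⟨((z : ↥Q) : G), (z : ↥Q).2, ?_, ?_, ?_, ?_, ?_, ?_⟩
  · intro h
    apply hz1
    apply Subtype.ext
    apply Subtype.ext
    exact h
  · -- z*z = 1
    rcases hcen ((z : ↥Q) * z) (mul_mem hzz hzz) with h | h
    · exact congrArg Subtype.val h
    · exfalso
      apply hz1
      apply Subtype.ext
      exact (mul_eq_left (a := (z : ↥Q))).mp h
  · intro x hx
    exact (congrArg Subtype.val (hzz' ⟨x, hx⟩)).symm
  · intro x hx y hy
    have h1 : ⁅(⟨x, hx⟩ : ↥Q), (⟨y, hy⟩ : ↥Q)⁆ ∈ Subgroup.center ↥Q := by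
      rw [← hco]
      exact Subgroup.commutator_mem_commutator (Subgroup.mem_top _) (Subgroup.mem_top _)
    rcases hcen _ h1 with h2 | h2
    · left
      have h3 := congrArg Subtype.val h2
      rw [commutatorElement_def] at h3
      simp only [Subgroup.coe_mul, Subgroup.coe_inv, Subgroup.coe_one] at h3
      calc x * y = (x * y * x⁻¹ * y⁻¹) * (y * x) := by group
        _ = y * x := by rw [h3, one_mul]
    · right
      have h3 := congrArg Subtype.val h2
      rw [commutatorElement_def] at h3
      simp only [Subgroup.coe_mul, Subgroup.coe_inv] at h3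
      calc x * y = (x * y * x⁻¹ * y⁻¹) * (y * x) := by group
        _ = _ := by rw [h3]
  · intro x hx
    have h1 : (⟨x, hx⟩ : ↥Q) ^ 2 ∈ Subgroup.center ↥Q := by
      rw [← hfr]
      exact H2.PGroup.pow_mem_frattini hp _
    rcases hcen _ h1 with h2 | h2
    · left
      have h3 := congrArg Subtype.val h2
      rw [pow_two] at h3
      exact h3
    · right
      have h3 := congrArg Subtype.val h2
      rw [pow_two] at h3
      exact h3
  · intro x hx hc
    have h1 : (⟨x, hx⟩ : ↥Q) ∈ Subgroup.center ↥Q := by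
      rw [Subgroup.mem_center_iff]
      intro y
      apply Subtype.ext
      exact (hc y y.2).symm
    rcases hcen _ h1 with h2 | h2
    · left; exact congrArg Subtype.val h2
    · right; exact congrArg Subtype.val h2

theorem of_isExtraspecial [Finite G] {Q : Subgroup G} (hQ : IsExtraspecial 2 ↥Q) {z : G}
    (hz : (Subgroup.center ↥Q).map Q.subtype = Subgroup.zpowers z) : Xsp Q z := by
  obtain ⟨z', hz'⟩ := exists_of_isExtraspecial hQ
  have h1 := hz'.center_map
  rw [hz] at h1
  have h2 : z ∈ Subgroup.zpowers z' := h1 ▸ Subgroup.mem_zpowers z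
  rw [mem_zpowers_of_sq hz'.sq] at h2
  rcases h2 with rfl | rfl
  · exfalso
    rw [Subgroup.zpowers_one_eq_bot] at h1
    have : z' ∈ (⊥ : Subgroup G) := h1 ▸ Subgroup.mem_zpowers z'
    exact hz'.ne (Subgroup.mem_bot.mp this)
  · exact hz'

/-- abstract version. -/
theorem top_of_isExtraspecial {E : Type*} [Group E] [Finite E] (hQ : IsExtraspecial 2 E) :
    ∃ z, Xsp (⊤ : Subgroup E) z := by
  obtain ⟨⟨hp, hfr, hco⟩, hc⟩ := hQ
  haveI : Fact (Nat.Prime 2) := ⟨Nat.prime_two⟩
  rw [Nat.card_eq_two_iff' (1 : Subgroup.center E)] at hc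
  obtain ⟨z, hz1, hzu⟩ := hc
  have hcen : ∀ x : E, x ∈ Subgroup.center E → x = 1 ∨ x = (z : E) := by
    intro x hx
    by_cases h1 : x = 1
    · exact Or.inl h1
    · right
      have := hzu ⟨x, hx⟩ (by
        intro h; apply h1; exact congrArg Subtype.val h)
      exact congrArg Subtype.val this
  have hzz : (z : E) ∈ Subgroup.center E := z.2
  have hzz' := Subgroup.mem_center_iff.mp hzz
  refine ⟨(z : E), Subgroup.mem_top _, ?_, ?_, ?_, ?_, ?_, ?_⟩
  · intro h
    apply hz1
    apply Subtype.ext
    exact h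
  · -- z*z = 1
    rcases hcen ((z : E) * z) (mul_mem hzz hzz) with h | h
    · exact h
    · exfalso
      apply hz1
      apply Subtype.ext
      exact (mul_eq_left (a := (z : E))).mp h
  · intro x hx
    exact (hzz' x).symm
  · intro x hx y hy
    have h1 : ⁅x, y⁆ ∈ Subgroup.center E := by
      rw [← hco]
      exact Subgroup.commutator_mem_commutator (Subgroup.mem_top _) (Subgroup.mem_top _)
    rcases hcen _ h1 with h2 | h2
    · left
      rw [commutatorElement_def] at h2
      calc x * y = (x * y * x⁻¹ * y⁻¹) * (y * x) := by group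
        _ = y * x := by rw [h2, one_mul]
    · right
      rw [commutatorElement_def] at h2
      calc x * y = (x * y * x⁻¹ * y⁻¹) * (y * x) := by group
        _ = _ := by rw [h2]
  · intro x hx
    have h1 : x ^ 2 ∈ Subgroup.center E := by
      rw [← hfr]
      exact H2.PGroup.pow_mem_frattini hp _
    rw [← pow_two]
    exact hcen _ h1
  · intro x hx hc
    apply hcen
    rw [Subgroup.mem_center_iff]
    intro y
    exact (hc y (Subgroup.mem_top _)).symm

/-- transfer along an injective homomorphism. -/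
theorem map {H : Type*} [Group H] (f : H →* G) (hf : Function.Injective f) {R : Subgroup H} {w : H}
    (h : Xsp R w) : Xsp (R.map f) (f w) where
  mem := ⟨w, h.mem, rfl⟩
  ne := by
    intro h1
    exact h.ne (hf (by rw [h1, map_one]))
  sq := by rw [← map_mul, h.sq, map_one]
  zc := by
    rintro _ ⟨x, hx, rfl⟩
    rw [← map_mul, h.zc x hx, map_mul]
  comm := by
    rintro _ ⟨x, hx, rfl⟩ _ ⟨y, hy, rfl⟩
    rw [← map_mul, ← map_mul, ← map_mul]
    rcases h.comm x hx y hy with h1 | h1
    · left; rw [h1]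
    · right; rw [h1]
  sqr := by
    rintro _ ⟨x, hx, rfl⟩
    rw [← map_mul]
    rcases h.sqr x hx with h1 | h1
    · left; rw [h1, map_one]
    · right; rw [h1]
  cen := by
    rintro _ ⟨x, hx, rfl⟩ hc
    have : x = 1 ∨ x = w := by
      apply h.cen x hx
      intro y hy
      have h1 := hc (f y) ⟨y, hy, rfl⟩
      rw [← map_mul, ← map_mul] at h1
      exact hf h1
    rcases this with rfl | rfl
    · left; rw [map_one]
    · right; rfl

theorem comap_of_injective {H : Type*} [Group H] (f : H →* G) (hf : Function.Injective f)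
    {R : Subgroup H} {w : H} (h : Xsp (R.map f) (f w)) : Xsp R w where
  mem := by
    obtain ⟨x, hx, hxw⟩ := h.mem
    rw [← hf hxw]; exact hx
  ne := by
    rintro rfl
    exact h.ne (map_one f)
  sq := hf (by rw [map_mul, h.sq, map_one])
  zc := fun x hx => hf (by rw [map_mul, map_mul, h.zc (f x) ⟨x, hx, rfl⟩])
  comm := by
    intro x hx y hy
    rcases h.comm (f x) ⟨x, hx, rfl⟩ (f y) ⟨y, hy, rfl⟩ with h1 | h1
    · left; exact hf (by rw [map_mul, map_mul, h1])
    · right; exact hf (by rw [map_mul, map_mul, map_mul, h1])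
  sqr := by
    intro x hx
    rcases h.sqr (f x) ⟨x, hx, rfl⟩ with h1 | h1
    · left; exact hf (by rw [map_mul, h1, map_one])
    · right; exact hf (by rw [map_mul, h1])
  cen := by
    intro x hx hc
    rcases h.cen (f x) ⟨x, hx, rfl⟩ (by
      rintro _ ⟨y, hy, rfl⟩
      rw [← map_mul, hc y hy, map_mul]) with h1 | h1
    · left; exact hf (by rw [h1, map_one])
    · right; exact hf h1

theorem top_iff {Q : Subgroup G} {z : ↥Q} : Xsp (⊤ : Subgroup ↥Q) z ↔ Xsp Q (z : G) := by
  have h1 : (⊤ : Subgroup ↥Q).map Q.subtype = Q := by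
    rw [← MonoidHom.range_eq_map, Subgroup.range_subtype]
  constructor
  · intro h
    have := h.map Q.subtype Q.subtype_injective
    rwa [h1] at this
  · intro h
    apply comap_of_injective Q.subtype Q.subtype_injective
    rwa [h1]

/-- converse: an `Xsp` which is not commutative is extraspecial. -/
theorem isExtraspecial_top {E : Type*} [Group E] [Finite E] {z : E} (h : Xsp (⊤ : Subgroup E) z)
    (hn : ∃ x y : E, x * y ≠ y * x) : IsExtraspecial 2 E := by
  haveI : Fact (Nat.Prime 2) := ⟨Nat.prime_two⟩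
  have hp : IsPGroup 2 E := by
    intro x
    exact ⟨2, h.pow_four (Subgroup.mem_top x)⟩
  have hcen : Subgroup.center E = Subgroup.zpowers z := by
    ext x
    rw [mem_zpowers_of_sq h.sq]
    constructor
    · intro hx
      apply h.cen x (Subgroup.mem_top x)
      intro y _
      exact (Subgroup.mem_center_iff.mp hx y).symm
    · rintro (rfl | rfl)
      · exact one_mem _
      · rw [Subgroup.mem_center_iff]
        intro y
        exact (h.zc y (Subgroup.mem_top y)).symm
  have hcomm : commutator E = Subgroup.zpowers z := by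
    apply le_antisymm
    · rw [commutator_def, Subgroup.commutator_le]
      intro x _ y _
      rw [mem_zpowers_of_sq h.sq, commutatorElement_def]
      rcases h.comm x (Subgroup.mem_top x) y (Subgroup.mem_top y) with h1 | h1
      · left; rw [h1]; group
      · right; rw [h1]; group
    · obtain ⟨x, y, hxy⟩ := hn
      have h1 := (h.comm x (Subgroup.mem_top x) y (Subgroup.mem_top y)).resolve_left hxy
      rw [Subgroup.zpowers_le]
      have h2 : z = ⁅x, y⁆ := by rw [commutatorElement_def, h1]; group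
      rw [h2]
      exact Subgroup.commutator_mem_commutator (Subgroup.mem_top _) (Subgroup.mem_top _)
  refine ⟨⟨hp, ?_, ?_⟩, ?_⟩
  · apply le_antisymm
    · haveI : (Subgroup.center E).Normal := inferInstance
      apply H1.Frattini.frattini_le_of_elementary (p := 2)
      · rw [hcomm, hcen]
      · intro x
        rw [hcen, mem_zpowers_of_sq h.sq, pow_two]
        exact h.sqr x (Subgroup.mem_top x)
    · rw [hcen, ← hcomm]
      exact H2.PGroup.commutator_le_frattini hp
  · rw [hcomm, hcen]
  · rw [hcen, h.card_zpowers]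

theorem isExtraspecial {Q : Subgroup G} [Finite G] {z : G} (h : Xsp Q z)
    (hn : ∃ x ∈ Q, ∃ y ∈ Q, x * y ≠ y * x) : IsExtraspecial 2 ↥Q := by
  have h1 : Xsp (⊤ : Subgroup ↥Q) ⟨z, h.mem⟩ := top_iff.mpr h
  apply isExtraspecial_top h1
  obtain ⟨x, hx, y, hy, hxy⟩ := hn
  refine ⟨⟨x, hx⟩, ⟨y, hy⟩, ?_⟩
  intro h2
  exact hxy (congrArg Subtype.val h2)

theorem not_comm_of_isExtraspecial {Q : Subgroup G} [Finite G] (hQ : IsExtraspecial 2 ↥Q) :
    ∃ x ∈ Q, ∃ y ∈ Q, x * y ≠ y * x := by
  by_contra hcon
  push Not at hcon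
  obtain ⟨⟨hp, hfr, hco⟩, hc⟩ := hQ
  have h1 : commutator ↥Q = ⊥ := by
    rw [commutator_def, Subgroup.commutator_eq_bot_iff_le_centralizer]
    intro x _
    rw [Subgroup.mem_centralizer_iff]
    intro y _
    apply Subtype.ext
    exact hcon y y.2 x x.2
  rw [← hco, h1] at hc
  simp at hc

end Xsp

end Cfsg.Agent.H28.Xsp
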