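import Cfsg.Agent.H20_J2Chk5
import Cfsg.Agent.H20_J2Main
import Cfsg.Agent.H28_Xsp
set_option autoImplicit false

/-! the centraliser of a reflection: extraspecial of order 32 extended by `A₅` -/
namespace Cfsg.Agent.H20.J2L
open Quaternion Cfsg.Spor Z8
open Cfsg.Agent.H20.J2P (P Rep In G gL dg cmi idp wv grp)

/-- the 315 involutions -/
noncomputable def t (i : Fin 315) : G := Ψ ⟨s i, s_mem i⟩

theorem s_conj (i j : Fin 315) (f : twoJ2) (h : Φ f i = j) :
    f * ⟨s i, s_mem i⟩ * f⁻¹ = ⟨s j, s_mem j⟩ := by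
  apply Subtype.ext
  show (f : Equiv.Perm icoLeech) * s i * (f : Equiv.Perm icoLeech)⁻¹ = s j
  rw [Φ_rel f i, h]

theorem t_conj (f : twoJ2) (i : Fin 315) : Ψ f * t i * (Ψ f)⁻¹ = t (Φ f i) := by
  rw [t, t, ← s_conj i _ f rfl, map_mul, map_mul, map_inv]

theorem t_sq (i : Fin 315) : t i * t i = 1 := by
  rw [t, ← map_mul]
  have : (⟨s i, s_mem i⟩ : twoJ2) * ⟨s i, s_mem i⟩ = 1 := Subtype.ext (s_sq i)
  rw [this, map_one]

theorem t_inv (i : Fin 315) : (t i)⁻¹ = t i := by rw [inv_eq_iff_mul_eq_one, t_sq]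

theorem TT_rep (i : Fin 315) : Rep (t i : P) (TT.getD i 0) := by
  have key : ∀ n : ℕ, ∀ i : Fin 315, rk.getD i 0 = n → Rep (t i : P) (TT.getD i 0) := by
    intro n
    induction n using Nat.strong_induction_on with
    | _ n ih =>
      intro i hi
      have h := List.all_eq_true.1 chkTr i (List.mem_range.2 i.2)
      have h' := List.all_eq_true.1 qTT i (List.mem_range.2 i.2)
      simp only [Bool.or_eq_true, Bool.and_eq_true, Nat.blt_eq] at h
      by_cases hi0 : (i : ℕ) = 0
      · have h0 : i = gx 0 := Fin.ext hi0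
        rw [hi0] at h'
        have h'' : TT.getD 0 0 = gL.getD 0 0 := Nat.eq_of_beq_eq_true h'
        rw [hi0, h'', h0]
        have : (t (gx 0) : P) = gg 0 := Ψ_s 0
        rw [this]
        exact gg_rep 0
      · rcases h with h | ⟨h1, h2, h3, h4⟩
        · exact absurd (Nat.eq_of_beq_eq_true h) hi0
        replace h4 := Nat.eq_of_beq_eq_true h4
        have h5 := rel_gen ⟨_, h1⟩ ⟨_, h2⟩
        have h6 : pg ⟨_, h1⟩ ⟨_, h2⟩ = i := Fin.ext h4
        have hb : Nat.beq (i : ℕ) 0 = false := by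
          cases hb : Nat.beq (i : ℕ) 0 with
          | true => exact absurd (Nat.eq_of_beq_eq_true hb) hi0
          | false => rfl
        rw [hb, cond_false] at h'
        rw [Nat.eq_of_beq_eq_true h']
        have h7 : Φ ⟨s (gx ⟨_, h1⟩), s_mem _⟩ ⟨_, h2⟩ = i := by rw [Φ_s, h6]
        have h8 := t_conj ⟨s (gx ⟨_, h1⟩), s_mem _⟩ ⟨_, h2⟩
        rw [h7] at h8
        have h9 : (t i : P) = gg ⟨_, h1⟩ * ((t ⟨_, h2⟩ : P) * gg ⟨_, h1⟩) := by
          rw [← h8]
          have e1 : (Ψ ⟨s (gx ⟨_, h1⟩), s_mem _⟩)⁻¹ = Ψ ⟨s (gx ⟨_, h1⟩), s_mem _⟩ := t_inv (gx ⟨_, h1⟩)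
          rw [e1]
          show (Ψ ⟨s (gx ⟨_, h1⟩), s_mem _⟩ : P) * (t ⟨_, h2⟩ : P) * (Ψ ⟨s (gx ⟨_, h1⟩), s_mem _⟩ : P) = _
          rw [Ψ_s, mul_assoc]
        rw [h9]
        have h10 := ih _ (by rw [hi] at h3; exact h3) ⟨_, h2⟩ rfl
        exact (gg_rep ⟨_, h1⟩).cmi (h10.cmi (gg_rep ⟨_, h1⟩))
  exact key _ i rfl

theorem TT_len : TT.length = 315 := by decide +kernel

theorem t_inj {i j : Fin 315} (h : t i = t j) : i = j := by
  have h1 := TT_rep i
  rw [h] at h1
  have h2 := h1.eq (TT_rep j)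
  have hi : (i : ℕ) < TT.length := by rw [TT_len]; exact i.2
  have hj : (j : ℕ) < TT.length := by rw [TT_len]; exact j.2
  rw [List.getD_eq_getElem _ _ hi, List.getD_eq_getElem _ _ hj] at h2
  exact Fin.ext ((List.Nodup.getElem_inj_iff TTnodup).1 h2)

/-- the action of `G` on the lines -/
noncomputable def θ (g : G) : Equiv.Perm (Fin 315) := Φ (Ψ_surj g).choose

theorem θ_conj (g : G) (i : Fin 315) : g * t i * g⁻¹ = t (θ g i) := by
  have h := t_conj (Ψ_surj g).choose i
  rw [(Ψ_surj g).choose_spec] at h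
  exact h

theorem θ_mul (g h : G) : θ (g * h) = θ g * θ h := by
  apply Equiv.ext
  intro i
  apply t_inj
  rw [← θ_conj, Equiv.Perm.mul_apply, ← θ_conj, ← θ_conj]; group

theorem θ_one : θ 1 = 1 := by
  apply Equiv.ext
  intro i
  apply t_inj
  rw [← θ_conj]; simp

noncomputable instance actT : MulAction G (Fin 315) where
  smul g i := θ g i
  one_smul i := by show θ 1 i = i; rw [θ_one]; rfl
  mul_smul g h i := by show θ (g * h) i = θ g (θ h i); rw [θ_mul]; rfl

theorem smul_T (g : G) (i : Fin 315) : g • i = θ g i := rfl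

/-- the centraliser of the first reflection -/
abbrev CC : Subgroup G := Subgroup.centralizer {t 0}

theorem mem_CC {g : G} : g ∈ CC ↔ θ g 0 = 0 := by
  rw [Subgroup.mem_centralizer_singleton_iff]
  constructor
  · intro h
    apply t_inj
    rw [← θ_conj]
    first | rw [h] | rw [← h]
    group
  · intro h
    have := θ_conj g 0
    rw [h] at this
    rw [mul_inv_eq_iff_eq_mul] at this
    first | exact this | exact this.symm

theorem transT (i : Fin 315) : ∃ g : G, θ g 0 = i := by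
  obtain ⟨f, hf, h⟩ := conj_root i
  refine ⟨Ψ ⟨f, hf⟩, ?_⟩
  apply t_inj
  rw [← θ_conj, t_conj]
  congr 1
  apply s_inj
  rw [← Φ_rel]
  exact h

theorem card_CC : Nat.card CC = 1920 := by
  have h1 : MulAction.stabilizer G (0 : Fin 315) = CC := by
    ext g
    rw [MulAction.mem_stabilizer_iff, mem_CC]; rfl
  have h2 : MulAction.orbit G (0 : Fin 315) = Set.univ := by
    apply Set.eq_univ_of_forall
    intro i
    obtain ⟨g, hg⟩ := transT i
    exact ⟨g, hg⟩
  have h3 := Nat.card_congr (MulAction.orbitEquivQuotientStabilizer G (0 : Fin 315))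
  rw [h2, h1] at h3
  have h4 := Subgroup.card_mul_index CC
  rw [Cfsg.Agent.H20.J2P.card_G, Subgroup.index, ← h3] at h4
  have h5 : Nat.card (Set.univ : Set (Fin 315)) = 315 := by simp
  rw [h5] at h4
  exact Nat.eq_of_mul_eq_mul_right (by norm_num : 0 < 315) (h4.trans (by norm_num : 604800 = 1920 * 315))

/-! ### the extraspecial group -/

/-- generated by the ten reflections commuting with the first one -/
def Q0 : Subgroup P := Subgroup.closure {g | ∃ j ∈ J, Rep g (TT.getD j 0)}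

theorem J_lt {j : ℕ} (h : j ∈ J) : 0 < j ∧ j ≤ 10 := by
  simp only [J, List.mem_cons, List.not_mem_nil, or_false] at h
  omega

theorem rep_lt {j : ℕ} (h : j < 315) : Rep (t ⟨j, h⟩ : P) (TT.getD j 0) := TT_rep ⟨j, h⟩

theorem J_mem {j : ℕ} (h : j ∈ J) (hj : j < 315) : (t ⟨j, hj⟩ : P) ∈ Q0 := Subgroup.subset_closure ⟨j, h, rep_lt hj⟩

theorem Q0_mem {x : P} (hx : x ∈ Q0) : ∃ q ∈ QL, Rep x q := by
  have key : ∀ x ∈ Q0, ∀ y : P, (∃ q ∈ QL, Rep y q) → ∃ q ∈ QL, Rep (x * y) q := by
    intro x hx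
    induction hx using Subgroup.closure_induction with
    | mem x hx =>
      rintro y ⟨q, hq, hy⟩
      obtain ⟨j, hj, hr⟩ := hx
      have h1 := List.all_eq_true.1 (List.all_eq_true.1 qclosed j hj) q hq
      rw [List.contains_iff_mem] at h1
      exact ⟨_, h1, hr.cmi hy⟩
    | one => intro y hy; rwa [one_mul]
    | mul a b _ _ ha hb => intro y hy; rw [mul_assoc]; exact ha _ (hb y hy)
    | inv a ha' ha =>
      intro y hy
      -- powers
      have hp : ∀ n : ℕ, ∀ y : P, (∃ q ∈ QL, Rep y q) → ∃ q ∈ QL, Rep (a ^ n * y) q := by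
        intro n
        induction n with
        | zero => intro y hy; rwa [pow_zero, one_mul]
        | succ n ih => intro y hy; rw [pow_succ, mul_assoc]; exact ih _ (ha y hy)
      have : a⁻¹ = a ^ (orderOf a - 1) := by
        rw [inv_eq_iff_mul_eq_one, ← pow_succ', Nat.sub_add_cancel (orderOf_pos a), pow_orderOf_eq_one]
      rw [this]
      exact hp _ y hy
  have h1 : idp ∈ QL := by decide +kernel
  have := key x hx 1 ⟨idp, h1, Cfsg.Agent.H20.J2P.Rep.one⟩
  rwa [mul_one] at this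

theorem QL_In : ∀ q ∈ QL, In Q0 q := by
  have hS : ∀ k, k ∈ J → In Q0 (TT.getD k 0) := by
    intro k hk
    have h := J_lt hk
    exact ⟨_, J_mem hk (by omega), rep_lt (by omega)⟩
  have h := qtree
  simp only [Cfsg.Agent.H20.J2P.chkTree, Bool.and_eq_true, List.all_eq_true, List.mem_range, Nat.blt_eq] at h
  obtain ⟨h0, h1, h2⟩ := h
  replace h0 := Nat.eq_of_beq_eq_true h0
  replace h1 := Nat.eq_of_beq_eq_true h1
  have key : ∀ k < QL.length, In Q0 (QL.getD k 0) := by
    intro k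
    induction k using Nat.strong_induction_on with
    | _ k ih =>
      intro hk
      cases k with
      | zero => rw [h1]; exact Cfsg.Agent.H20.J2P.In.one _
      | succ k =>
        obtain ⟨h3, h4, h5⟩ := h2 k (by omega)
        replace h5 := Nat.eq_of_beq_eq_true h5
        rw [h5]
        refine Cfsg.Agent.H20.J2P.In.cmi ?_ (ih _ h3 (by omega))
        apply hS
        have hk' : k < qpar.length := by omega
        have h6 := List.all_eq_true.1 qpar_ok _ (List.getElem_mem hk')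
        rw [List.contains_iff_mem] at h6
        rw [List.getD_eq_getElem _ _ hk']
        exact h6
  intro p hp
  obtain ⟨n, hn, rfl⟩ := List.mem_iff_getElem.1 hp
  have := key n hn
  rwa [List.getD_eq_getElem _ _ hn] at this

theorem QL_len : QL.length = 32 := by decide +kernel

theorem card_Q0 : Nat.card Q0 = 32 := by
  have e : Nat.card (Fin 32) = 32 := by simp
  rw [← e]
  symm
  have hlt : ∀ k : Fin 32, (k : ℕ) < QL.length := fun k => by rw [QL_len]; exact k.2
  have hex : ∀ k : Fin 32, ∃ x ∈ Q0, Rep x (QL[(k : ℕ)]'(hlt k)) := fun k => QL_In _ (List.getElem_mem (hlt k))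
  choose x hx hr using hex
  refine Nat.card_congr (Equiv.ofBijective (fun k => (⟨x k, hx k⟩ : Q0)) ⟨?_, ?_⟩)
  · intro k l h
    have h1 : x k = x l := congrArg Subtype.val h
    have h2 := hr k
    rw [h1] at h2
    exact Fin.ext ((List.Nodup.getElem_inj_iff qnodup).1 (h2.eq (hr l)))
  · rintro ⟨y, hy⟩
    obtain ⟨q, hq, hyq⟩ := Q0_mem hy
    obtain ⟨n, hn, rfl⟩ := List.mem_iff_getElem.1 hq
    exact ⟨⟨n, by rw [← QL_len]; exact hn⟩, Subtype.ext ((hr _).ext hyq)⟩

theorem t0_sq' : (t 0 : P) * (t 0 : P) = 1 := congrArg Subtype.val (t_sq 0)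

theorem t0_ne : (t 0 : P) ≠ 1 := by
  intro h
  have h1 : t 0 = t 1 * t 0 * (t 1)⁻¹ := by
    have : t 0 = 1 := Subtype.ext h
    rw [this]; simp
  have h2 := TT_rep 0
  rw [h] at h2
  have h3 := h2.eq Cfsg.Agent.H20.J2P.Rep.one
  have h4 : Nat.beq (TT.getD 0 0) idp = false := by decide +kernel
  have h5 : TT.getD 0 0 = idp := h3
  rw [h5, Nat.beq_refl] at h4
  exact absurd h4 (by decide)

theorem t0_mem : (t 0 : P) ∈ Q0 := by
  have h : QL.contains (TT.getD 0 0) = true := by decide +kernel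
  rw [List.contains_iff_mem] at h
  exact (QL_In _ h).of_rep (TT_rep 0)

theorem t0_comm {x : P} (hx : x ∈ Q0) : (t 0 : P) * x = x * (t 0 : P) := by
  induction hx using Subgroup.closure_induction with
  | mem x hx =>
    obtain ⟨j, hj, hr⟩ := hx
    have h1 := List.all_eq_true.1 qpair j hj
    simp only [Bool.and_eq_true] at h1
    have h2 := J_lt hj
    have h3 := (List.contains_iff_mem).1 h1.1
    have h4 := J_lt h3
    have h5 := Nat.eq_of_beq_eq_true h1.2.1
    have h6 := hr.cmi (rep_lt (j := prt.getD j 0) (by omega))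
    rw [h5] at h6
    have h7 : (t 0 : P) = x * (t ⟨prt.getD j 0, by omega⟩ : P) := (TT_rep 0).ext h6
    have hx2 : x * x = 1 := by
      have : x = (t ⟨j, by omega⟩ : P) := hr.ext (rep_lt (by omega))
      rw [this]
      exact congrArg Subtype.val (t_sq _)
    have ht2 : (t ⟨prt.getD j 0, by omega⟩ : P) * (t ⟨prt.getD j 0, by omega⟩ : P) = 1 := congrArg Subtype.val (t_sq _)
    -- `t0 = x y`, `t0² = 1`
    have h8 : x * (t ⟨prt.getD j 0, by omega⟩ : P) = (t ⟨prt.getD j 0, by omega⟩ : P) * x := by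
      have h9 := t0_sq'
      rw [h7] at h9
      generalize (t ⟨prt.getD j 0, by omega⟩ : P) = y at *
      have e1 : x * ((x * y) * (x * y)) * y = (x * x) * (y * x) * (y * y) := by group
      rw [h9, hx2, ht2] at e1
      simpa using e1
    rw [h7, mul_assoc, ← h8, ← mul_assoc, hx2, one_mul]
  | one => rw [mul_one, one_mul]
  | mul a b _ _ ha hb => rw [← mul_assoc, ha, mul_assoc, hb, mul_assoc]
  | inv a _ ha => exact (Commute.inv_right ha : _)

end Cfsg.Agent.H20.J2L
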