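import Cfsg.Agent.H20_J2Ext
set_option autoImplicit false

/-! the centraliser of a reflection: extraspecial of order 32 extended by `A₅` -/
namespace Cfsg.Agent.H20.J2L
open Quaternion Cfsg.Spor Z8
open Cfsg.Agent.H20.J2P (P Rep In G gL dg cmi idp wv grp)

theorem Q0_le_G : Q0 ≤ G := by
  refine (Subgroup.closure_le _).2 ?_
  rintro x ⟨j, hj, hr⟩
  have := J_lt hj
  rw [hr.ext (rep_lt (j := j) (by omega))]
  exact (t _).2

theorem Q0_sq {x : P} (hx : x ∈ Q0) : x * x = 1 ∨ x * x = (t 0 : P) := by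
  obtain ⟨q, hq, hr⟩ := Q0_mem hx
  have h := List.all_eq_true.1 qsq q hq
  rw [Bool.or_eq_true] at h
  have h2 := hr.cmi hr
  rcases h with h | h
  · left
    rw [Nat.eq_of_beq_eq_true h] at h2
    exact h2.ext Cfsg.Agent.H20.J2P.Rep.one
  · right
    rw [Nat.eq_of_beq_eq_true h] at h2
    exact h2.ext (TT_rep 0)

theorem Q0_comm {x y : P} (hx : x ∈ Q0) (hy : y ∈ Q0) : x * y = y * x ∨ x * y = (t 0 : P) * (y * x) := by
  have hz := t0_sq'
  have hc : ∀ w : P, (w = 1 ∨ w = (t 0 : P)) → ∀ u ∈ Q0, w * u = u * w := by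
    rintro w (rfl | rfl) u hu
    · rw [one_mul, mul_one]
    · exact t0_comm hu
  have hsq : ∀ w : P, (w = 1 ∨ w = (t 0 : P)) → w * w = 1 := by
    rintro w (rfl | rfl)
    · rw [one_mul]
    · exact hz
  have hml : ∀ w w' : P, (w = 1 ∨ w = (t 0 : P)) → (w' = 1 ∨ w' = (t 0 : P)) → (w * w' = 1 ∨ w * w' = (t 0 : P)) := by
    rintro w w' (rfl | rfl) (rfl | rfl)
    · left; rw [one_mul]
    · right; rw [one_mul]
    · right; rw [mul_one]
    · left; exact hz
  have ha := Q0_sq hx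
  have hb := Q0_sq hy
  have hcc := Q0_sq (Q0.mul_mem hx hy)
  have hinv : ∀ w : P, w * w * (w * w) = 1 → w⁻¹ = w * (w * w) := by
    intro w hw
    rw [inv_eq_iff_mul_eq_one, ← mul_assoc]; exact hw
  have e1 : x * y = (x * y * (x * y)) * (y⁻¹ * x⁻¹) := by group
  rw [hinv x (hsq _ ha), hinv y (hsq _ hb)] at e1
  generalize x * x = a at *
  generalize y * y = b at *
  obtain ⟨c, hc'⟩ : ∃ c, c = x * y * (x * y) := ⟨_, rfl⟩
  rw [← hc'] at hcc e1
  have e2 : x * y = (c * (b * a)) * (y * x) := by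
    have h1 := hc b hb (y * x) (Q0.mul_mem hy hx)
    have h2 := hc a ha x hx
    have h3 := hc a ha (y * x) (Q0.mul_mem hy hx)
    have h4 := hc b hb x hx
    calc x * y = c * (y * b * (x * a)) := e1
      _ = c * (y * (b * x) * a) := by group
      _ = c * ((y * x) * (b * a)) := by rw [h4]; group
      _ = c * ((b * a) * (y * x)) := by rw [hc _ (hml b a hb ha) _ (Q0.mul_mem hy hx)]
      _ = _ := by group
  rcases hml c (b * a) hcc (hml b a hb ha) with h | h
  · left; rw [e2, h, one_mul]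
  · right; rw [e2, h]

theorem Q0_cen {x : P} (hx : x ∈ Q0) (h : ∀ y ∈ Q0, x * y = y * x) : x = 1 ∨ x = (t 0 : P) := by
  obtain ⟨q, hq, hr⟩ := Q0_mem hx
  have h1 := List.all_eq_true.1 qcen q hq
  simp only [Bool.or_eq_true, List.any_eq_true, Bool.not_eq_true'] at h1
  rcases h1 with h1 | h1 | ⟨j, hj, h1⟩
  · left
    rw [Nat.eq_of_beq_eq_true h1] at hr
    exact hr.ext Cfsg.Agent.H20.J2P.Rep.one
  · right
    rw [Nat.eq_of_beq_eq_true h1] at hr
    exact hr.ext (TT_rep 0)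
  · exfalso
    have h2 := J_lt hj
    have h3 := h _ (J_mem hj (by omega))
    have h4 := hr.cmi (rep_lt (j := j) (by omega))
    have h5 := (rep_lt (j := j) (by omega)).cmi hr
    rw [h3] at h4
    have h6 := h4.eq h5
    rw [h6, Nat.beq_refl] at h1
    exact absurd h1 (by decide)

theorem Q0_nc : ∃ x ∈ Q0, ∃ y ∈ Q0, x * y ≠ y * x := by
  by_contra hcon
  push Not at hcon
  have h1 : (Q0 : Set P) ⊆ {1, (t 0 : P)} := by
    intro x hx
    rcases Q0_cen hx (hcon x hx) with h | h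
    · left; exact h
    · right; exact h
  have h2 := Set.ncard_le_ncard h1 (Set.toFinite _)
  have h3 : (Q0 : Set P).ncard = 32 := by
    rw [← card_Q0, ← Nat.card_coe_set_eq]; rfl
  rw [h3] at h2
  have h4 := h2.trans (Set.ncard_insert_le _ _)
  rw [Set.ncard_singleton] at h4
  omega

/-- the subgroup of the centraliser -/
def QC : Subgroup CC := (Q0.comap G.subtype).comap CC.subtype

theorem mem_QC {c : CC} : c ∈ QC ↔ ((c : G) : P) ∈ Q0 := Iff.rfl

theorem mem_CC' {x : P} (hx : x ∈ Q0) : (⟨x, Q0_le_G hx⟩ : G) ∈ CC := by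
  rw [Subgroup.mem_centralizer_singleton_iff]
  apply Subtype.ext
  have := t0_comm hx
  first | exact this | exact this.symm

noncomputable def z0 : CC := ⟨t 0, by rw [Subgroup.mem_centralizer_singleton_iff]⟩

theorem card_QC : Nat.card QC = 32 := by
  rw [← card_Q0]
  refine Nat.card_congr (Equiv.ofBijective (fun c : QC => (⟨((c : CC) : G), c.2⟩ : Q0)) ⟨?_, ?_⟩)
  · intro a b h
    have h1 := congrArg Subtype.val h
    exact Subtype.ext (Subtype.ext (Subtype.ext h1))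
  · rintro ⟨x, hx⟩
    exact ⟨⟨⟨⟨x, Q0_le_G hx⟩, mem_CC' hx⟩, hx⟩, rfl⟩

theorem xsp_QC : H28.Xsp.Xsp QC z0 where
  mem := t0_mem
  ne := fun h => t0_ne (congrArg (fun c : CC => ((c : G) : P)) h)
  sq := Subtype.ext (t_sq 0)
  zc := fun x hx => Subtype.ext (Subtype.ext (t0_comm hx))
  comm := by
    intro x hx y hy
    rcases Q0_comm hx hy with h | h
    · left; exact Subtype.ext (Subtype.ext h)
    · right; exact Subtype.ext (Subtype.ext h)
  sqr := by
    intro x hx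
    rcases Q0_sq hx with h | h
    · left; exact Subtype.ext (Subtype.ext h)
    · right; exact Subtype.ext (Subtype.ext h)
  cen := by
    intro x hx h
    have h1 : ∀ y ∈ Q0, ((x : G) : P) * y = y * ((x : G) : P) := by
      intro y hy
      have h2 := h ⟨⟨y, Q0_le_G hy⟩, mem_CC' hy⟩ hy
      exact congrArg (fun c : CC => ((c : G) : P)) h2
    rcases Q0_cen hx h1 with h2 | h2
    · left; exact Subtype.ext (Subtype.ext h2)
    · right; exact Subtype.ext (Subtype.ext h2)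

theorem extra_QC : Cfsg.IsExtraspecial 2 QC := by
  apply xsp_QC.isExtraspecial
  obtain ⟨x, hx, y, hy, hxy⟩ := Q0_nc
  refine ⟨⟨⟨x, Q0_le_G hx⟩, mem_CC' hx⟩, hx, ⟨⟨y, Q0_le_G hy⟩, mem_CC' hy⟩, hy, ?_⟩
  intro h
  exact hxy (congrArg (fun c : CC => ((c : G) : P)) h)

/-! ### the action on the five pairs -/

theorem θ_t0 : θ (t 0) = pg 0 := by
  apply Equiv.ext
  intro i
  apply t_inj
  rw [← θ_conj]
  have h := t_conj ⟨s (gx 0), s_mem _⟩ i
  rw [Φ_s] at h
  exact h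

theorem fix_iff (j : Fin 315) : pg 0 j = j ↔ (j : ℕ) ≤ 10 := by
  have h := List.all_eq_true.1 qfix j (List.mem_range.2 j.2)
  rw [beq_iff_eq] at h
  constructor
  · intro h1
    have h2 : Nat.beq ((PA.getD 0 []).getD j 0) j = true := by
      rw [show (PA.getD 0 []).getD j 0 = j from congrArg Fin.val h1]; exact Nat.beq_refl _
    rw [h2] at h
    exact Nat.le_of_ble_eq_true h.symm
  · intro h1
    rw [Nat.ble_eq_true_of_le h1] at h
    exact Fin.ext (Nat.eq_of_beq_eq_true h)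

theorem θ_le {c : G} (hc : c ∈ CC) {j : Fin 315} (hj : (j : ℕ) ≤ 10) : (θ c j : ℕ) ≤ 10 := by
  rw [← fix_iff] at hj ⊢
  rw [← θ_t0] at hj ⊢
  rw [Subgroup.mem_centralizer_singleton_iff] at hc
  have h1 : θ (t 0) (θ c j) = θ c (θ (t 0) j) := by
    rw [← Equiv.Perm.mul_apply, ← Equiv.Perm.mul_apply, ← θ_mul, ← θ_mul]
    first | rw [hc] | rw [← hc]
  rw [h1, hj]

theorem mem_J {j : ℕ} : j ∈ J ↔ 0 < j ∧ j ≤ 10 := by
  constructor
  · exact J_lt
  · rintro ⟨h1, h2⟩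
    simp only [J, List.mem_cons, List.not_mem_nil, or_false]
    omega

theorem θ_J {c : G} (hc : c ∈ CC) {j : Fin 315} (hj : (j : ℕ) ∈ J) : (θ c j : ℕ) ∈ J := by
  rw [mem_J] at hj ⊢
  refine ⟨?_, θ_le hc hj.2⟩
  rcases Nat.eq_zero_or_pos (θ c j : ℕ) with h | h
  · exfalso
    have h1 : θ c j = 0 := Fin.ext h
    rw [← mem_CC.1 hc] at h1
    have h2 := (θ c).injective h1
    rw [h2] at hj
    exact absurd hj.1 (by decide)
  · exact h

/-- the partner of a line -/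
theorem prt_J {j : ℕ} (hj : j ∈ J) : prt.getD j 0 ∈ J := by
  have h := List.all_eq_true.1 qpair j hj
  simp only [Bool.and_eq_true] at h
  exact (List.contains_iff_mem).1 h.1

theorem J315 {j : ℕ} (hj : j ∈ J) : j < 315 := by have := J_lt hj; omega

theorem pair_mul {j : ℕ} (hj : j ∈ J) : t ⟨j, J315 hj⟩ * t ⟨prt.getD j 0, J315 (prt_J hj)⟩ = t 0 := by
  have h := List.all_eq_true.1 qpair j hj
  simp only [Bool.and_eq_true] at h
  have h1 := (rep_lt (J315 hj)).cmi (rep_lt (J315 (prt_J hj)))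
  rw [Nat.eq_of_beq_eq_true h.2.1] at h1
  exact Subtype.ext (h1.ext (TT_rep 0))

theorem prn_lt {j : ℕ} (hj : j ∈ J) : prn.getD j 0 < 5 := by
  have h := List.all_eq_true.1 qpair j hj
  simp only [Bool.and_eq_true, Nat.blt_eq] at h
  exact h.2.2.1

theorem prn_eq {j k : ℕ} (hj : j ∈ J) (hk : k ∈ J) : prn.getD j 0 = prn.getD k 0 ↔ k = j ∨ k = prt.getD j 0 := by
  have h := List.all_eq_true.1 qpair j hj
  simp only [Bool.and_eq_true] at h
  have h1 := List.all_eq_true.1 h.2.2.2 k hk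
  rw [beq_iff_eq] at h1
  rw [← Nat.beq_eq, h1, Bool.or_eq_true, Nat.beq_eq, Nat.beq_eq]

theorem wd {c : G} (hc : c ∈ CC) {j k : Fin 315} (hj : (j : ℕ) ∈ J) (hk : (k : ℕ) ∈ J) (h : prn.getD j 0 = prn.getD k 0) :
    prn.getD (θ c j) 0 = prn.getD (θ c k) 0 := by
  rw [prn_eq hj hk] at h
  rw [prn_eq (θ_J hc hj) (θ_J hc hk)]
  rcases h with h | h
  · left; rw [show k = j from Fin.ext h]
  · right
    have h1 := pair_mul hj
    have h2 := pair_mul (θ_J hc hj)
    have e1 : (⟨prt.getD j 0, J315 (prt_J hj)⟩ : Fin 315) = k := Fin.ext h.symm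
    rw [e1] at h1
    have h3 : t (θ c j) * t (θ c k) = t 0 := by
      rw [← θ_conj, ← θ_conj]
      have e2 : c * t j * c⁻¹ * (c * t k * c⁻¹) = c * (t j * t k) * c⁻¹ := by group
      rw [e2]
      have e3 : t j * t k = t 0 := h1
      rw [e3, θ_conj, mem_CC.1 hc]
    have h4 : t (θ c k) = t ⟨prt.getD (θ c j) 0, J315 (prt_J (θ_J hc hj))⟩ := by
      have h5 : t (θ c j) * t ⟨prt.getD (θ c j) 0, J315 (prt_J (θ_J hc hj))⟩ = t 0 := h2
      exact mul_left_cancel (h3.trans h5.symm)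
    exact congrArg Fin.val (t_inj h4)

def rpl : List ℕ := [1, 3, 4, 5, 6]
theorem rpl_J : ∀ a : Fin 5, rpl.getD a 0 ∈ J ∧ prn.getD (rpl.getD a 0) 0 = a := by decide
def rpJ (a : Fin 5) : Fin 315 := ⟨rpl.getD a 0, J315 (rpl_J a).1⟩

/-- the action on pairs -/
noncomputable def mf (c : CC) (a : Fin 5) : Fin 5 := ⟨prn.getD (θ c (rpJ a)) 0, prn_lt (θ_J c.2 (rpl_J a).1)⟩

theorem mf_spec (c : CC) {j : Fin 315} (hj : (j : ℕ) ∈ J) (a : Fin 5) (h : prn.getD j 0 = a) : (mf c a : ℕ) = prn.getD (θ c j) 0 :=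
  wd c.2 (rpl_J a).1 hj (by rw [h]; exact (rpl_J a).2)

theorem mf_mul (c d : CC) (a : Fin 5) : mf (c * d) a = mf c (mf d a) := by
  apply Fin.ext
  rw [mf_spec c (θ_J d.2 (rpl_J a).1) (mf d a) rfl]
  show prn.getD (θ ((c * d : CC) : G) (rpJ a)) 0 = _
  rw [show ((c * d : CC) : G) = (c : G) * d from rfl, θ_mul]; rfl

theorem mf_one (a : Fin 5) : mf 1 a = a := by
  apply Fin.ext
  show prn.getD (θ ((1 : CC) : G) (rpJ a)) 0 = _
  rw [show ((1 : CC) : G) = 1 from rfl, θ_one]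
  exact (rpl_J a).2

noncomputable def ρ : CC →* Equiv.Perm (Fin 5) where
  toFun c := ⟨mf c, mf c⁻¹, fun a => by rw [← mf_mul, inv_mul_cancel, mf_one], fun a => by rw [← mf_mul, mul_inv_cancel, mf_one]⟩
  map_one' := by apply Equiv.ext; intro a; exact mf_one a
  map_mul' := by intro c d; apply Equiv.ext; intro a; exact mf_mul c d a

theorem ρ_apply (c : CC) (a : Fin 5) : ρ c a = mf c a := rfl

theorem QC_le_ker : QC ≤ ρ.ker := by
  intro x hx
  rw [MonoidHom.mem_ker]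
  apply Equiv.ext
  intro a
  rw [ρ_apply]
  apply Fin.ext
  have hJ := (rpl_J a).1
  have h1 := Q0_comm (x := ((x : G) : P)) hx (J_mem hJ (J315 hJ))
  rw [mf_spec x (j := rpJ a) hJ a (rpl_J a).2]
  show prn.getD (θ (x : G) (rpJ a)) 0 = a
  have h2 : θ (x : G) (rpJ a) = rpJ a ∨ θ (x : G) (rpJ a) = ⟨prt.getD (rpJ a) 0, J315 (prt_J hJ)⟩ := by
    have h3 := θ_conj (x : G) (rpJ a)
    have h4 : t (rpJ a) * t ⟨prt.getD (rpJ a) 0, J315 (prt_J hJ)⟩ = t 0 := pair_mul hJ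
    rcases h1 with h1 | h1
    · left
      apply t_inj
      rw [← h3]
      have h5 : (x : G) * t (rpJ a) = t (rpJ a) * (x : G) := Subtype.ext h1
      rw [h5, mul_inv_cancel_right]
    · right
      apply t_inj
      rw [← h3]
      have h5 : (x : G) * t (rpJ a) = t 0 * (t (rpJ a) * (x : G)) := Subtype.ext h1
      rw [h5, ← mul_assoc, mul_inv_cancel_right]
      -- `t0 t_j = t_{j'}`
      have h6 : t ⟨prt.getD (rpJ a) 0, J315 (prt_J hJ)⟩ = t (rpJ a) * t 0 := by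
        rw [← h4, ← mul_assoc, t_sq, one_mul]
      have h7 : t 0 * t (rpJ a) = t (rpJ a) * t 0 := Subtype.ext (t0_comm (J_mem hJ (J315 hJ)))
      rw [h6, h7]
  rcases h2 with h2 | h2
  · rw [h2]; exact (rpl_J a).2
  · rw [h2]
    have h3 : prn.getD (rpJ a) 0 = prn.getD (prt.getD (rpJ a) 0) 0 := (prn_eq hJ (prt_J hJ)).2 (Or.inr rfl)
    rw [← h3]; exact (rpl_J a).2

end Cfsg.Agent.H20.J2L
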