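import Cfsg.Agent.H20_J2Ext2
set_option autoImplicit false

/-! the centraliser of a reflection: the quotient is `A₅` -/
namespace Cfsg.Agent.H20.J2L
open Quaternion Cfsg.Spor Z8
open Cfsg.Agent.H20.J2P (P Rep In G gL dg cmi idp wv grp)

theorem TA'_In : ∀ L ∈ TA', ∀ p ∈ L, In G p := Cfsg.Agent.H20.J2P.TA_In

/-- an element of the centraliser from a word -/
theorem exists_c {w im : List ℕ} (h : (List.range 11).all (fun j => Nat.beq (cmi (wv TA' w) (TT.getD j 0)) (cmi (TT.getD (im.getD j 0) 0) (wv TA' w))) = true)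
    (him : ∀ j < 11, im.getD j 0 < 315) (h0 : im.getD 0 0 = 0) :
    ∃ c : CC, ∀ j (hj : j < 11), (θ c ⟨j, by omega⟩ : ℕ) = im.getD j 0 := by
  obtain ⟨x, hx, hr⟩ := Cfsg.Agent.H20.J2P.wv_In TA' TA'_In w
  have key : ∀ j (hj : j < 11), θ ⟨x, hx⟩ ⟨j, by omega⟩ = ⟨im.getD j 0, him j hj⟩ := by
    intro j hj
    apply t_inj
    rw [← θ_conj, mul_inv_eq_iff_eq_mul]
    apply Subtype.ext
    have h1 := List.all_eq_true.1 h j (List.mem_range.2 hj)
    have h2 := hr.cmi (rep_lt (j := j) (by omega))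
    rw [Nat.eq_of_beq_eq_true h1] at h2
    exact h2.ext ((rep_lt (him j hj)).cmi hr)
  refine ⟨⟨⟨x, hx⟩, ?_⟩, fun j hj => congrArg Fin.val (key j hj)⟩
  rw [mem_CC]
  have h1 := key 0 (by norm_num)
  have h2 : (⟨im.getD 0 0, him 0 (by norm_num)⟩ : Fin 315) = 0 := Fin.ext h0
  rw [h2] at h1
  exact h1

def σ3 : Equiv.Perm (Fin 5) := ⟨![2, 1, 3, 0, 4], ![3, 1, 0, 2, 4], by decide, by decide⟩
def σ5 : Equiv.Perm (Fin 5) := ⟨![4, 3, 0, 2, 1], ![2, 4, 3, 1, 0], by decide, by decide⟩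

theorem σ3_mem : σ3 ∈ ρ.range := by
  obtain ⟨c, hc⟩ := exists_c q3 (by decide) (by decide)
  refine ⟨c, ?_⟩
  apply Equiv.ext
  intro a
  rw [ρ_apply]
  apply Fin.ext
  have h1 : (rpJ a : ℕ) < 11 := by have := J_lt (rpl_J a).1; exact Nat.lt_succ_of_le this.2
  rw [mf_spec c (j := rpJ a) (rpl_J a).1 a (rpl_J a).2, show (θ (c : G) (rpJ a) : ℕ) = im3.getD (rpJ a) 0 from hc _ h1]
  revert a
  decide

theorem σ5_mem : σ5 ∈ ρ.range := by
  obtain ⟨c, hc⟩ := exists_c q5 (by decide) (by decide)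
  refine ⟨c, ?_⟩
  apply Equiv.ext
  intro a
  rw [ρ_apply]
  apply Fin.ext
  have h1 : (rpJ a : ℕ) < 11 := by have := J_lt (rpl_J a).1; exact Nat.lt_succ_of_le this.2
  rw [mf_spec c (j := rpJ a) (rpl_J a).1 a (rpl_J a).2, show (θ (c : G) (rpJ a) : ℕ) = im5.getD (rpJ a) 0 from hc _ h1]
  revert a
  decide

theorem many : 31 ≤ (Finset.univ.image fun x : Fin 5 × Fin 3 × Fin 5 × Fin 3 => σ5 ^ (x.1 : ℕ) * σ3 ^ (x.2.1 : ℕ) * σ5 ^ (x.2.2.1 : ℕ) * σ3 ^ (x.2.2.2 : ℕ)).card := by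
  decide +kernel

theorem card_range : Nat.card ρ.range = 60 ∧ ρ.ker = QC := by
  classical
  haveI : Finite CC := Nat.finite_of_card_ne_zero (by rw [card_CC]; norm_num)
  have h1 : Nat.card ρ.range * Nat.card ρ.ker = 1920 := by
    rw [← card_CC, ← Subgroup.card_mul_index ρ.ker, Subgroup.index_ker, mul_comm]
  have h2 : 32 ∣ Nat.card ρ.ker := by
    rw [← card_QC]; exact Subgroup.card_dvd_of_le QC_le_ker
  obtain ⟨k, hk⟩ := h2
  have h3 : Nat.card ρ.range * k = 60 := by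
    rw [hk] at h1
    have : 32 * (Nat.card ρ.range * k) = 32 * 60 := by rw [← mul_assoc, mul_comm 32, mul_assoc]; exact h1
    exact Nat.eq_of_mul_eq_mul_left (by norm_num) this
  have h4 : 31 ≤ Nat.card ρ.range := by
    refine many.trans ?_
    have : Nat.card ρ.range = (Finset.univ.filter fun x => x ∈ ρ.range).card := by
      rw [Nat.card_eq_fintype_card, Fintype.card_subtype]
    rw [this]
    apply Finset.card_le_card
    intro x hx
    rw [Finset.mem_image] at hx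
    obtain ⟨a, _, rfl⟩ := hx
    rw [Finset.mem_filter]
    exact ⟨Finset.mem_univ _, Subgroup.mul_mem _ (Subgroup.mul_mem _ (Subgroup.mul_mem _ (Subgroup.pow_mem _ σ5_mem _)
      (Subgroup.pow_mem _ σ3_mem _)) (Subgroup.pow_mem _ σ5_mem _)) (Subgroup.pow_mem _ σ3_mem _)⟩
  have h5 : k = 1 := by
    rcases Nat.lt_or_ge k 2 with h | h
    · interval_cases k
      · omega
      · rfl
    · exfalso
      have : 31 * 2 ≤ Nat.card ρ.range * k := Nat.mul_le_mul h4 h
      omega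
  subst h5
  refine ⟨by omega, ?_⟩
  symm
  apply Subgroup.eq_of_le_of_card_ge QC_le_ker
  rw [card_QC, hk]

instance QC_normal : QC.Normal := by rw [← card_range.2]; infer_instance

theorem quot_A5 : Nonempty (CC ⧸ QC ≃* alternatingGroup (Fin 5)) := by
  have h1 : ρ.range = alternatingGroup (Fin 5) := by
    apply Equiv.Perm.eq_alternatingGroup_of_index_eq_two
    have h2 := Subgroup.card_mul_index ρ.range
    rw [card_range.1, Nat.card_perm, Nat.card_eq_fintype_card, Fintype.card_fin] at h2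
    have : Nat.factorial 5 = 60 * 2 := by decide
    rw [this] at h2
    exact Nat.eq_of_mul_eq_mul_left (by norm_num) h2
  exact ⟨(QuotientGroup.quotientMulEquivOfEq card_range.2.symm).trans
    ((QuotientGroup.quotientKerEquivRange ρ).trans (MulEquiv.subgroupCongr h1))⟩

/-- the property in question -/
def PropX (C : Type) [Group C] : Prop := ∃ (Q : Subgroup C) (_ : Q.Normal), Nat.card Q = 32 ∧ Cfsg.IsExtraspecial 2 Q ∧
  Nonempty (C ⧸ Q ≃* alternatingGroup (Fin 5))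

theorem propX_CC : PropX CC := ⟨QC, QC_normal, card_QC, extra_QC, quot_A5⟩

end Cfsg.Agent.H20.J2L
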