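import Cfsg.Agent.H20_J2Ext3
set_option autoImplicit false

/-! transport of the structure of the centraliser -/
namespace Cfsg.Agent.H20.J2L
open Quaternion Cfsg.Spor Z8
open Cfsg.Agent.H20.J2P (P Rep In G gL dg cmi idp wv grp)

def PropY (C : Type) [Group C] : Prop := ∃ (Q : Subgroup C) (_ : Q.Normal) (z : C), Nat.card Q = 32 ∧ H28.Xsp.Xsp Q z ∧
  (∃ x ∈ Q, ∃ y ∈ Q, x * y ≠ y * x) ∧ Nonempty (C ⧸ Q ≃* alternatingGroup (Fin 5))

theorem propY_CC : PropY CC := by
  refine ⟨QC, QC_normal, z0, card_QC, xsp_QC, ?_, quot_A5⟩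
  obtain ⟨x, hx, y, hy, hxy⟩ := Q0_nc
  refine ⟨⟨⟨x, Q0_le_G hx⟩, mem_CC' hx⟩, hx, ⟨⟨y, Q0_le_G hy⟩, mem_CC' hy⟩, hy, ?_⟩
  intro h
  exact hxy (congrArg (fun c : CC => ((c : G) : P)) h)

theorem propY_X {C : Type} [Group C] [Finite C] (h : PropY C) : PropX C := by
  obtain ⟨Q, hQ, z, h1, h2, h3, h4⟩ := h
  exact ⟨Q, hQ, h1, h2.isExtraspecial h3, h4⟩

theorem propY_equiv {C D : Type} [Group C] [Group D] (e : C ≃* D) (h : PropY D) : PropY C := by
  obtain ⟨Q, hQ, z, h1, h2, ⟨x, hx, y, hy, hxy⟩, ⟨q⟩⟩ := h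
  have hmap : (Q.comap e.toMonoidHom).map e.toMonoidHom = Q := Subgroup.map_comap_eq_self_of_surjective e.surjective Q
  refine ⟨Q.comap e.toMonoidHom, inferInstance, e.symm z, ?_, ?_, ⟨e.symm x, ?_, e.symm y, ?_, ?_⟩, ⟨?_⟩⟩
  · rw [← h1]
    exact Nat.card_congr ((e.subgroupMap (Q.comap e.toMonoidHom)).trans (MulEquiv.subgroupCongr hmap)).toEquiv
  · have hm : ∀ c : C, c ∈ Q.comap e.toMonoidHom ↔ e c ∈ Q := fun c => Iff.rfl
    refine ⟨?_, ?_, ?_, ?_, ?_, ?_, ?_⟩
    · rw [hm, e.apply_symm_apply]; exact h2.mem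
    · intro h
      apply h2.ne
      have := congrArg e h
      rwa [e.apply_symm_apply, map_one] at this
    · apply e.injective
      rw [map_mul, e.apply_symm_apply, h2.sq, map_one]
    · intro c hc
      apply e.injective
      rw [map_mul, map_mul, e.apply_symm_apply]; exact h2.zc _ hc
    · intro c hc d hd
      rcases h2.comm _ hc _ hd with h | h
      · left; apply e.injective; rw [map_mul, map_mul]; exact h
      · right; apply e.injective; rw [map_mul, map_mul, map_mul, e.apply_symm_apply]; exact h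
    · intro c hc
      rcases h2.sqr _ hc with h | h
      · left; apply e.injective; rw [map_mul, map_one]; exact h
      · right; apply e.injective; rw [map_mul, e.apply_symm_apply]; exact h
    · intro c hc h
      rcases h2.cen (e c) hc (fun y hy => by
        have := congrArg e (h (e.symm y) (by rw [hm, e.apply_symm_apply]; exact hy))
        rwa [map_mul, map_mul, e.apply_symm_apply] at this) with h | h
      · left; apply e.injective; rw [map_one]; exact h
      · right; apply e.injective; rw [e.apply_symm_apply]; exact h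
  · show e (e.symm x) ∈ Q
    rw [e.apply_symm_apply]; exact hx
  · show e (e.symm y) ∈ Q
    rw [e.apply_symm_apply]; exact hy
  · intro h
    apply hxy
    have := congrArg e h
    rwa [map_mul, map_mul, e.apply_symm_apply, e.apply_symm_apply] at this
  · exact (QuotientGroup.congr (Q.comap e.toMonoidHom) Q e hmap).trans q

theorem cent_equiv {A B : Type} [Group A] [Group B] (E : A ≃* B) {a : A} {b : B} (h : E a = b) :
    Nonempty (Subgroup.centralizer {a} ≃* Subgroup.centralizer {b}) := by
  have hmap : (Subgroup.centralizer {a}).map E.toMonoidHom = Subgroup.centralizer {b} := by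
    ext y
    constructor
    · rintro ⟨x, hx, rfl⟩
      rw [SetLike.mem_coe, Subgroup.mem_centralizer_singleton_iff] at hx
      rw [Subgroup.mem_centralizer_singleton_iff, ← h]
      show E x * E a = E a * E x
      rw [← map_mul, hx, map_mul]
    · intro hy
      refine ⟨E.symm y, ?_, E.apply_symm_apply y⟩
      rw [Subgroup.mem_centralizer_singleton_iff] at hy
      rw [SetLike.mem_coe, Subgroup.mem_centralizer_singleton_iff]
      apply E.injective
      rw [map_mul, map_mul, E.apply_symm_apply, h, hy]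
  exact ⟨(E.subgroupMap _).trans (MulEquiv.subgroupCongr hmap)⟩

end Cfsg.Agent.H20.J2L
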