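import Cfsg.Agent.H8_Act
import Cfsg.Agent.H20_J2R

/-!
Permutation networks of an action on 100 points. 
-/

set_option autoImplicit false
set_option maxRecDepth 1000000

namespace Cfsg.Agent.H20.J2NC

open Cfsg.Agent.H8.CE Cfsg.Agent.H8.Net Cfsg.Agent.H8.Act

def n1 : Nt := (.st (nat_lit 64) (nat_lit 0xc7f0000000000000)
  (.st (nat_lit 32) (nat_lit 0xf7e3080000000000c0084000)
  (.st (nat_lit 16) (nat_lit 0x58000000bf60000030870000cd14)
  (.st (nat_lit 8) (nat_lit 0x1300500060008000c0007900bd00bc)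
  (.st (nat_lit 4) (nat_lit 0xc00000400000808000c0f0109070a0c)
  (.st (nat_lit 2) (nat_lit 0x30000012203000022002200132230130)
  (.st (nat_lit 1) (nat_lit 0x50000004100040011005151510040001)
  (.st (nat_lit 2) (nat_lit 0x2200000022000200000000000)
  (.st (nat_lit 4) (nat_lit 0xc00000400000808000806040004000c)
  (.st (nat_lit 8) (nat_lit 0x1000500060008000c00000004200bc)
  (.st (nat_lit 16) (nat_lit 0x58000000b8000000f0800000cd14)
  (.st (nat_lit 32) (nat_lit 0xf7e3080000000000c0084000)
  (.st (nat_lit 64) (nat_lit 0xc7f0000000000000)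
  .nil)))))))))))))

def n2 : Nt := (.st (nat_lit 64) (nat_lit 0x3101d00000000000)
  (.st (nat_lit 32) (nat_lit 0x3101800a00000000a3778200)
  (.st (nat_lit 16) (nat_lit 0x100000054c400006c1200000980)
  (.st (nat_lit 8) (nat_lit 0x100051001c00c4008000fc00b800b8)
  (.st (nat_lit 4) (nat_lit 0x1000a0f0e0d0402010600020c0802)
  (.st (nat_lit 2) (nat_lit 0x330313220102022012200221)
  (.st (nat_lit 1) (nat_lit 0x50001500100004544501144040)
  (.st (nat_lit 2) (nat_lit 0x200002022002200020)
  (.st (nat_lit 4) (nat_lit 0xa000e080000000e08000c0802)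
  (.st (nat_lit 8) (nat_lit 0x100050001c00c40000001000b80088)
  (.st (nat_lit 16) (nat_lit 0x100000054c400006c1200000980)
  (.st (nat_lit 32) (nat_lit 0x3101800a00000000a3778200)
  (.st (nat_lit 64) (nat_lit 0x3101d00000000000)
  .nil)))))))))))))

def n3 : Nt := (.st (nat_lit 64) (nat_lit 0x7142448000000000)
  (.st (nat_lit 32) (nat_lit 0xf74344800000000029870010)
  (.st (nat_lit 16) (nat_lit 0x40000000ea7000003a7400003310)
  (.st (nat_lit 8) (nat_lit 0xa2004000420044002c002600640086)
  (.st (nat_lit 4) (nat_lit 0x200040900010a020d080806000200)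
  (.st (nat_lit 2) (nat_lit 0x1000003222000122002012021313023)
  (.st (nat_lit 1) (nat_lit 0x410005114000011504001110500405)
  (.st (nat_lit 2) (nat_lit 0x222000022002002020000000)
  (.st (nat_lit 4) (nat_lit 0x20004000000080204000804000200)
  (.st (nat_lit 8) (nat_lit 0xa0004000400040002c000600640086)
  (.st (nat_lit 16) (nat_lit 0x40000000ca3000003a7400003310)
  (.st (nat_lit 32) (nat_lit 0xf74344800000000029870010)
  (.st (nat_lit 64) (nat_lit 0x7142448000000000)
  .nil)))))))))))))

def n4 : Nt := (.st (nat_lit 64) (nat_lit 0x2aa3a20000000000)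
  (.st (nat_lit 32) (nat_lit 0xeb81364000000000a8db6840)
  (.st (nat_lit 16) (nat_lit 0x3700000021980000d5ae00001e84)
  (.st (nat_lit 8) (nat_lit 0xd400a2002f006e005d002c00580083)
  (.st (nat_lit 4) (nat_lit 0x80500020c0400000d0e09000004050b)
  (.st (nat_lit 2) (nat_lit 0x20130003101020021111133320300132)
  (.st (nat_lit 1) (nat_lit 0x140145104404514041411011000144)
  (.st (nat_lit 2) (nat_lit 0x20000202000022002022020000022)
  (.st (nat_lit 4) (nat_lit 0x80200020c0800000804000a00040402)
  (.st (nat_lit 8) (nat_lit 0x5400a20010006c00200074001000d0)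
  (.st (nat_lit 16) (nat_lit 0x3500000021980000ed2800001a84)
  (.st (nat_lit 32) (nat_lit 0xeb81364000000000a8db6840)
  (.st (nat_lit 64) (nat_lit 0x2aa3a20000000000)
  .nil)))))))))))))

def n5 : Nt := (.st (nat_lit 64) (nat_lit 0x90d250000000000)
  (.st (nat_lit 32) (nat_lit 0x8b402f200000000026545a42)
  (.st (nat_lit 16) (nat_lit 0x8f40000090e80000881400004e5b)
  (.st (nat_lit 8) (nat_lit 0xe002a0055002500760072009a004e)
  (.st (nat_lit 4) (nat_lit 0x80c000402000c0c000d09040b0e)
  (.st (nat_lit 2) (nat_lit 0x1301212021212300022210201)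
  (.st (nat_lit 1) (nat_lit 0x10040040404144410004445041441)
  (.st (nat_lit 2) (nat_lit 0x202022000000020022222)
  (.st (nat_lit 4) (nat_lit 0xc00040200000e000000060206)
  (.st (nat_lit 8) (nat_lit 0x2000800540024008000700002009c)
  (.st (nat_lit 16) (nat_lit 0x8e4000009060000088140000d1a0)
  (.st (nat_lit 32) (nat_lit 0x8b402f200000000066145242)
  (.st (nat_lit 64) (nat_lit 0x90d250000000000)
  .nil)))))))))))))

def L : List Nt := [.nil, n1, n2, n3, n4, n5]

theorem sys : sysOk L (nat_lit 100) = true := by decide +kernel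

theorem inv_ok : invOk L (nat_lit 100) (nat_lit 7) Cfsg.Agent.H20.PG5.ic5 = true := by decide +kernel

theorem rel_ok : eqAll L (nat_lit 100) (nat_lit 7) (Cfsg.Agent.H20.J2R.rels.map fun w => (w, [])) = true := by decide +kernel

end Cfsg.Agent.H20.J2NC
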