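import Cfsg.Agent.H20_J2Ext4
import Cfsg.Agent.H20_J2Chk6
import Cfsg.Agent.H20_J2Sim
import Cfsg.Prelude.Def_KGroupFacts
set_option autoImplicit false

/-! automorphisms of the group of order 604800 -/
namespace Cfsg.Agent.H20.J2O
open Cfsg.Agent.H20.J2P (P Rep In G gL dg cmi idp wv grp H)
open Cfsg.Agent.H20.J2L

/-- an element centralising the extraspecial group -/
theorem cen_Q {x : G} (h : ∀ y ∈ Q0, (x : P) * y = y * x) : x = 1 ∨ x = t 0 := by
  have hC : x ∈ CC := by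
    rw [Subgroup.mem_centralizer_singleton_iff]
    have := h _ t0_mem
    first | exact Subtype.ext this | exact (Subtype.ext this).symm
  have hker : (⟨x, hC⟩ : CC) ∈ ρ.ker := by
    rw [MonoidHom.mem_ker]
    apply Equiv.ext
    intro a
    rw [ρ_apply]
    apply Fin.ext
    rw [mf_spec ⟨x, hC⟩ (j := rpJ a) (rpl_J a).1 a (rpl_J a).2]
    have h1 : θ x (rpJ a) = rpJ a := by
      apply t_inj
      rw [← θ_conj]
      have h5 : x * t (rpJ a) = t (rpJ a) * x := Subtype.ext (h _ (J_mem (rpl_J a).1 (J315 (rpl_J a).1)))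
      rw [h5, mul_inv_cancel_right]
    show prn.getD (θ x (rpJ a)) 0 = _
    rw [h1]
    exact (rpl_J a).2
  rw [card_range.2] at hker
  rcases Q0_cen (x := (x : P)) hker (fun y hy => h y hy) with h1 | h1
  · left; exact Subtype.ext h1
  · right; exact Subtype.ext h1

instance finG : Finite G := Nat.finite_of_card_ne_zero (by rw [Cfsg.Agent.H20.J2P.card_G]; norm_num)

theorem fac (n m k : ℕ) (h : n = 2 ^ k * m) (hm : ¬ 2 ∣ m) : n.factorization 2 = k := by
  have hm0 : m ≠ 0 := by rintro rfl; exact hm (dvd_zero _)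
  rw [h, Nat.factorization_mul (by positivity) hm0, Nat.factorization_pow, Finsupp.add_apply, Finsupp.smul_apply,
    Nat.Prime.factorization_self Nat.prime_two, Nat.factorization_eq_zero_of_not_dvd hm]
  simp

/-- automorphisms permute the reflections -/
theorem auto_t0 (α : G ≃* G) : ∃ i, α (t 0) = t i := by
  haveI : Fact (Nat.Prime 2) := ⟨Nat.prime_two⟩
  have hp : IsPGroup 2 QC := IsPGroup.of_card (n := 5) (by rw [card_QC]; norm_num)
  obtain ⟨S, hS⟩ := hp.exists_le_sylow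
  have hcS : Nat.card S = 128 := by
    rw [S.card_eq_multiplicity, card_CC, fac 1920 15 7 (by norm_num) (by norm_num)]
    norm_num
  have hG7 : (Nat.card G).factorization 2 = 7 := by
    rw [Cfsg.Agent.H20.J2P.card_G, fac 604800 4725 7 (by norm_num) (by norm_num)]
  have hc1 : Nat.card ((S : Subgroup CC).map CC.subtype) = 128 := by
    rw [← hcS]
    exact (Nat.card_congr (((S : Subgroup CC).equivMapOfInjective CC.subtype CC.subtype_injective).toEquiv)).symm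
  let SG : Sylow 2 G := Sylow.ofCard ((S : Subgroup CC).map CC.subtype) (by rw [hc1, hG7]; norm_num)
  let SG' : Sylow 2 G := Sylow.ofCard (((S : Subgroup CC).map CC.subtype).map α.toMonoidHom) (by
    rw [hG7, ← Nat.card_congr ((((S : Subgroup CC).map CC.subtype).equivMapOfInjective α.toMonoidHom α.injective).toEquiv), hc1]
    norm_num)
  obtain ⟨g, hg⟩ := MulAction.exists_smul_eq G SG' SG
  have key : ∀ y ∈ Q0, ((g * α (t 0) * g⁻¹ : G) : P) * y = y * ((g * α (t 0) * g⁻¹ : G) : P) := by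
    intro y hy
    have hyG := Q0_le_G hy
    have h1 : (⟨y, hyG⟩ : G) ∈ (SG : Subgroup G) := by
      refine ⟨⟨⟨y, hyG⟩, mem_CC' hy⟩, hS ?_, rfl⟩
      exact hy
    rw [← hg] at h1
    have h2 : g⁻¹ * (⟨y, hyG⟩ : G) * g ∈ (SG' : Subgroup G) := by
      have h3 := (Subgroup.mem_pointwise_smul_iff_inv_smul_mem (a := MulAut.conj g)).1 h1
      rw [← map_inv, MulAut.smul_def, MulAut.conj_apply, inv_inv] at h3
      exact h3
    obtain ⟨s, hs, hs2⟩ := h2
    obtain ⟨c, hc, hc2⟩ := hs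
    have h4 : s * t 0 = t 0 * s := by
      rw [← hc2]
      have h5 := c.2
      rw [Subgroup.mem_centralizer_singleton_iff] at h5
      first | exact h5 | exact h5.symm
    have h5 : α s * α (t 0) = α (t 0) * α s := by rw [← map_mul, h4, map_mul]
    have h6 : α s = g⁻¹ * (⟨y, hyG⟩ : G) * g := hs2
    rw [h6] at h5
    have h7 : (g * α (t 0) * g⁻¹) * (⟨y, hyG⟩ : G) = (⟨y, hyG⟩ : G) * (g * α (t 0) * g⁻¹) := by
      calc (g * α (t 0) * g⁻¹) * (⟨y, hyG⟩ : G) = g * (α (t 0) * (g⁻¹ * (⟨y, hyG⟩ : G) * g)) * g⁻¹ := by group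
        _ = g * ((g⁻¹ * (⟨y, hyG⟩ : G) * g) * α (t 0)) * g⁻¹ := by rw [h5]
        _ = _ := by group
    exact congrArg Subtype.val h7
  rcases cen_Q key with h | h
  · exfalso
    have h1 : α (t 0) = 1 := by
      have : α (t 0) = g⁻¹ * (g * α (t 0) * g⁻¹) * g := by group
      rw [this, h]; group
    have h2 : t 0 = 1 := by
      apply α.injective
      rw [h1, map_one]
    exact t0_ne (congrArg Subtype.val h2)
  · refine ⟨θ g⁻¹ 0, ?_⟩
    rw [← θ_conj]
    calc α (t 0) = g⁻¹ * (g * α (t 0) * g⁻¹) * g⁻¹⁻¹ := by group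
      _ = _ := by rw [h]

theorem auto_t (α : G ≃* G) (i : Fin 315) : ∃ j, α (t i) = t j := by
  obtain ⟨g, hg⟩ := transT i
  obtain ⟨k, hk⟩ := auto_t0 α
  refine ⟨θ (α g) k, ?_⟩
  rw [← hg, ← θ_conj, map_mul, map_mul, map_inv, hk, θ_conj]

/-! ### the three stages -/

theorem pw_rep {g : P} {p : ℕ} (h : Rep g p) : ∀ n, Rep (g ^ n) (pw n p)
  | 0 => by rw [pow_zero]; exact Cfsg.Agent.H20.J2P.Rep.one
  | n + 1 => by rw [pow_succ']; exact h.cmi (pw_rep h n)

theorem pw_iff {g : P} {p : ℕ} (h : Rep g p) (n : ℕ) : g ^ n = 1 ↔ Nat.beq (pw n p) idp = true := by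
  have h1 := pw_rep h n
  constructor
  · intro h2
    rw [h2] at h1
    rw [Cfsg.Agent.H20.J2P.Rep.eq h1 Cfsg.Agent.H20.J2P.Rep.one, Nat.beq_refl]
  · intro h2
    rw [Nat.eq_of_beq_eq_true h2] at h1
    exact h1.ext Cfsg.Agent.H20.J2P.Rep.one

theorem tr (i : Fin 315) : Rep (t i : P) (tt i) := TT_rep i
theorem tr0 : Rep (t 0 : P) (tt 0) := TT_rep 0
theorem tr251 : Rep (t 251 : P) (tt 251) := TT_rep 251
theorem tr267 : Rep (t 267 : P) (tt 267) := TT_rep 267
theorem tr11 : Rep (t 11 : P) (tt 11) := TT_rep 11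
theorem tr3 : Rep (t 3 : P) (tt 3) := TT_rep 3

theorem eq_of_cmi {x y x' y' : G} {p q p' q' : ℕ} (hx : Rep (x : P) p) (hy : Rep (y : P) q) (hx' : Rep (x' : P) p')
    (hy' : Rep (y' : P) q') (h : Nat.beq (cmi p q) (cmi p' q') = true) : x * y = x' * y' := by
  have h1 := hx.cmi hy
  rw [Nat.eq_of_beq_eq_true h] at h1
  exact Subtype.ext (h1.ext (hx'.cmi hy'))

theorem exists_wv (w : List ℕ) : ∃ a : G, Rep (a : P) (wv TA' w) := by
  obtain ⟨g, hg, h⟩ := Cfsg.Agent.H20.J2P.wv_In TA' TA'_In w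
  exact ⟨⟨g, hg⟩, h⟩

theorem st1 (x : Fin 315) (hx : x ≠ 0) (h : (t 0 * t x) ^ 5 = 1) :
    ∃ a : G, a * t 0 = t 0 * a ∧ (a * t 251 = t x * a ∨ a * t 267 = t x * a) := by
  have h1 := List.all_eq_true.1 stage1 x (List.mem_range.2 x.2)
  have h2 : ((t 0 : P) * (t x : P)) ^ 5 = 1 := congrArg Subtype.val h
  rw [pw_iff (tr0.cmi (tr x))] at h2
  simp only [Bool.or_eq_true, h2, Bool.not_true, Bool.false_eq_true, false_or, ok1, Bool.and_eq_true] at h1
  rcases h1 with h1 | ⟨h1, h3⟩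
  · exact absurd (Fin.ext (Nat.eq_of_beq_eq_true h1)) hx
  · obtain ⟨a, ha⟩ := exists_wv (w1.getD x [])
    refine ⟨a, eq_of_cmi ha tr0 tr0 ha h1, ?_⟩
    rcases h3 with h3 | h3
    · left; exact eq_of_cmi ha tr251 (tr x) ha h3
    · right; exact eq_of_cmi ha tr267 (tr x) ha h3

theorem st2 (x : Fin 315) (h : (t 0 * t x) ^ 4 = 1) (h' : (t 251 * t x) ^ 4 = 1) :
    ∃ a : G, a * t 0 = t 0 * a ∧ a * t 251 = t 251 * a ∧ a * t 11 = t x * a := by
  have h1 := List.all_eq_true.1 stage2 x (List.mem_range.2 x.2)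
  have h2 : ((t 0 : P) * (t x : P)) ^ 4 = 1 := congrArg Subtype.val h
  have h2' : ((t 251 : P) * (t x : P)) ^ 4 = 1 := congrArg Subtype.val h'
  rw [pw_iff (tr0.cmi (tr x))] at h2
  rw [pw_iff (tr251.cmi (tr x))] at h2'
  simp only [Bool.or_eq_true, h2, h2', Bool.not_true, Bool.false_eq_true, false_or, ok2, Bool.and_eq_true] at h1
  obtain ⟨a, ha⟩ := exists_wv (w2.getD x [])
  exact ⟨a, eq_of_cmi ha tr0 tr0 ha h1.1, eq_of_cmi ha tr251 tr251 ha h1.2.1, eq_of_cmi ha tr11 (tr x) ha h1.2.2⟩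

theorem st3 (x : Fin 315) (h : (t 0 * (t 11 * t x)) ^ 3 = 1) (h' : (t 0 * (t 251 * (t 11 * (t 251 * t x)))) ^ 3 = 1) :
    ∃ a : G, a * t 0 = t 0 * a ∧ a * t 251 = t 251 * a ∧ a * t 11 = t 11 * a ∧ a * t 3 = t x * a := by
  have h1 := List.all_eq_true.1 stage3 x (List.mem_range.2 x.2)
  have h2 : ((t 0 : P) * ((t 11 : P) * (t x : P))) ^ 3 = 1 := congrArg Subtype.val h
  have h2' : ((t 0 : P) * ((t 251 : P) * ((t 11 : P) * ((t 251 : P) * (t x : P))))) ^ 3 = 1 := congrArg Subtype.val h'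
  rw [pw_iff (tr0.cmi (tr11.cmi (tr x)))] at h2
  rw [pw_iff (tr0.cmi (tr251.cmi (tr11.cmi (tr251.cmi (tr x)))))] at h2'
  simp only [Bool.or_eq_true, h2, h2', Bool.not_true, Bool.false_eq_true, false_or, ok3, Bool.and_eq_true] at h1
  obtain ⟨a, ha⟩ := exists_wv (w3.getD x [])
  exact ⟨a, eq_of_cmi ha tr0 tr0 ha h1.1, eq_of_cmi ha tr251 tr251 ha h1.2.1, eq_of_cmi ha tr11 tr11 ha h1.2.2.1,
    eq_of_cmi ha tr3 (tr x) ha h1.2.2.2⟩

theorem rel_all : (t 0 * t 251) ^ 5 = 1 ∧ (t 0 * t 11) ^ 4 = 1 ∧ (t 251 * t 11) ^ 4 = 1 ∧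
    (t 0 * (t 11 * t 3)) ^ 3 = 1 ∧ (t 0 * (t 251 * (t 11 * (t 251 * t 3)))) ^ 3 = 1 := by
  have h := rels
  simp only [Bool.and_eq_true] at h
  obtain ⟨h1, h2, h3, h4, h5⟩ := h
  rw [← pw_iff (tr0.cmi tr251)] at h1
  rw [← pw_iff (tr0.cmi tr11)] at h2
  rw [← pw_iff (tr251.cmi tr11)] at h3
  rw [← pw_iff (tr0.cmi (tr11.cmi tr3))] at h4
  rw [← pw_iff (tr0.cmi (tr251.cmi (tr11.cmi (tr251.cmi tr3))))] at h5
  exact ⟨Subtype.ext h1, Subtype.ext h2, Subtype.ext h3, Subtype.ext h4, Subtype.ext h5⟩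

theorem cjk_spec {i j k : Fin 315} (h : cjk i j k = true) : t k = t i * (t j * t i) := by
  have h1 := (tr i).cmi ((tr j).cmi (tr i))
  rw [Nat.eq_of_beq_eq_true h] at h1
  exact Subtype.ext ((tr k).ext h1)

/-- an automorphism fixing the four involutions is trivial -/
theorem fix_all (b : G ≃* G) (h0 : b (t 0) = t 0) (h1 : b (t 251) = t 251) (h2 : b (t 11) = t 11) (h3 : b (t 3) = t 3) :
    ∀ x, b x = x := by
  have hc := chain
  simp only [Bool.and_eq_true] at hc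
  obtain ⟨c1, c2, c3, c4⟩ := hc
  have e1 : t 19 = t 3 * (t 11 * t 3) := cjk_spec (i := 3) (j := 11) (k := 19) c1
  have e2 : t 164 = t 251 * (t 3 * t 251) := cjk_spec (i := 251) (j := 3) (k := 164) c2
  have e3 : t 79 = t 11 * (t 164 * t 11) := cjk_spec (i := 11) (j := 164) (k := 79) c3
  have e4 : t 36 = t 3 * (t 79 * t 3) := cjk_spec (i := 3) (j := 79) (k := 36) c4
  have f1 : b (t 19) = t 19 := by rw [e1, map_mul, map_mul, h3, h2]
  have f2 : b (t 164) = t 164 := by rw [e2, map_mul, map_mul, h3, h1]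
  have f3 : b (t 79) = t 79 := by rw [e3, map_mul, map_mul, h2, f2]
  have f4 : b (t 36) = t 36 := by rw [e4, map_mul, map_mul, h3, f3]
  have key : ∀ (y : P) (hy : y ∈ G), b ⟨y, hy⟩ = ⟨y, hy⟩ := by
    intro y hy
    have hy' := hy
    rw [G_eq] at hy'
    induction hy' using Subgroup.closure_induction with
    | mem z hz =>
      obtain ⟨a, rfl⟩ := hz
      have e : (⟨gg a, hy⟩ : G) = t (gx a) := Subtype.ext (Ψ_s a).symm
      rw [e]
      fin_cases a
      · exact h0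
      · exact f1
      · exact h3
      · exact f4
    | one => exact map_one b
    | mul u v hu hv ihu ihv =>
      rw [← G_eq] at hu hv
      have e : (⟨u * v, hy⟩ : G) = ⟨u, hu⟩ * ⟨v, hv⟩ := rfl
      rw [e, map_mul, ihu hu, ihv hv]
    | inv u hu ihu =>
      rw [← G_eq] at hu
      have e : (⟨u⁻¹, hy⟩ : G) = (⟨u, hu⟩)⁻¹ := rfl
      rw [e, map_inv, ihu hu]
  rintro ⟨y, hy⟩
  exact key y hy

/-- an automorphism fixing `t 0` and `t 251` is inner -/
theorem inner_of (b : MulAut G) (h0 : b (t 0) = t 0) (h1 : b (t 251) = t 251) : b ∈ Cfsg.Inn G := by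
  obtain ⟨q1, q2, q3, q4, q5⟩ := rel_all
  obtain ⟨x, hx⟩ := auto_t b 11
  obtain ⟨a, a0, a1, a2⟩ := st2 x (by rw [← h0, ← hx, ← map_mul, ← map_pow, q2, map_one])
    (by rw [← h1, ← hx, ← map_mul, ← map_pow, q3, map_one])
  obtain ⟨b', hb'⟩ : ∃ b' : MulAut G, b' = MulAut.conj a⁻¹ * b := ⟨_, rfl⟩
  have g0 : b' (t 0) = t 0 := by
    rw [hb', MulAut.mul_apply, h0, MulAut.conj_apply, inv_inv, mul_assoc, ← a0, inv_mul_cancel_left]
  have g1 : b' (t 251) = t 251 := by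
    rw [hb', MulAut.mul_apply, h1, MulAut.conj_apply, inv_inv, mul_assoc, ← a1, inv_mul_cancel_left]
  have g2 : b' (t 11) = t 11 := by
    rw [hb', MulAut.mul_apply, hx, MulAut.conj_apply, inv_inv, mul_assoc, ← a2, inv_mul_cancel_left]
  obtain ⟨y, hy⟩ := auto_t b' 3
  obtain ⟨c, c0, c1, c2, c3⟩ := st3 y
    (by
      have : b' ((t 0 * (t 11 * t 3)) ^ 3) = 1 := by rw [q4, map_one]
      rwa [map_pow, map_mul, map_mul, g0, g2, hy] at this)
    (by
      have : b' ((t 0 * (t 251 * (t 11 * (t 251 * t 3)))) ^ 3) = 1 := by rw [q5, map_one]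
      rwa [map_pow, map_mul, map_mul, map_mul, map_mul, g0, g2, g1, hy] at this)
  obtain ⟨d, hd⟩ : ∃ d : MulAut G, d = MulAut.conj c⁻¹ * b' := ⟨_, rfl⟩
  have k0 : d (t 0) = t 0 := by
    rw [hd, MulAut.mul_apply, g0, MulAut.conj_apply, inv_inv, mul_assoc, ← c0, inv_mul_cancel_left]
  have k1 : d (t 251) = t 251 := by
    rw [hd, MulAut.mul_apply, g1, MulAut.conj_apply, inv_inv, mul_assoc, ← c1, inv_mul_cancel_left]
  have k2 : d (t 11) = t 11 := by
    rw [hd, MulAut.mul_apply, g2, MulAut.conj_apply, inv_inv, mul_assoc, ← c2, inv_mul_cancel_left]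
  have k3 : d (t 3) = t 3 := by
    rw [hd, MulAut.mul_apply, hy, MulAut.conj_apply, inv_inv, mul_assoc, ← c3, inv_mul_cancel_left]
  have hd1 : d = 1 := by
    apply MulEquiv.ext
    intro z
    exact fix_all d k0 k1 k2 k3 z
  have hb : b = MulAut.conj (a * c) := by
    rw [hd1, hb'] at hd
    rw [map_mul]
    rw [map_inv, map_inv] at hd
    rw [← mul_assoc] at hd
    have := inv_eq_of_mul_eq_one_right hd.symm
    rw [← this]
    group
  exact ⟨a * c, hb.symm⟩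

/-- every automorphism can be normalised -/
theorem norm_of (b : MulAut G) : ∃ g : G, (MulAut.conj g * b) (t 0) = t 0 ∧
    ((MulAut.conj g * b) (t 251) = t 251 ∨ (MulAut.conj g * b) (t 251) = t 267) := by
  obtain ⟨q1, _⟩ := rel_all
  obtain ⟨i, hi⟩ := auto_t b 0
  obtain ⟨g, hg⟩ := transT i
  obtain ⟨b', hb'⟩ : ∃ b' : MulAut G, b' = MulAut.conj g⁻¹ * b := ⟨_, rfl⟩
  have g0 : b' (t 0) = t 0 := by
    rw [hb', MulAut.mul_apply, hi, ← hg, ← θ_conj, MulAut.conj_apply]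
    group
  obtain ⟨x, hx⟩ := auto_t b' 251
  have hx0 : x ≠ 0 := by
    rintro rfl
    rw [← g0] at hx
    exact absurd (t_inj (b'.injective hx)) (by decide)
  obtain ⟨a, a0, a1⟩ := st1 x hx0 (by rw [← g0, ← hx, ← map_mul, ← map_pow, q1, map_one])
  refine ⟨a⁻¹ * g⁻¹, ?_, ?_⟩
  · rw [map_mul, mul_assoc, ← hb', MulAut.mul_apply, g0, MulAut.conj_apply, inv_inv, mul_assoc, ← a0, inv_mul_cancel_left]
  · rw [map_mul, mul_assoc, ← hb', MulAut.mul_apply, hx, MulAut.conj_apply, inv_inv, mul_assoc]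
    rcases a1 with a1 | a1
    · left; rw [← a1, inv_mul_cancel_left]
    · right; rw [← a1, inv_mul_cancel_left]

end Cfsg.Agent.H20.J2O
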