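import Cfsg.Agent.H20_J2Out
import Cfsg.Agent.H20_J2Chk7
set_option autoImplicit false

/-! the outer automorphism, and the order of the outer automorphism group -/
namespace Cfsg.Agent.H20.J2O
open Cfsg.Agent.H20.J2P (P Rep In G gL dg cmi idp wv grp H H_le H_fix trans cover orbit_card card_o63 card_o36)
open Cfsg.Agent.H20.J2L
open Equiv MulAction

theorem tj_spec {i j : Fin 315} (h : tj i j = true) : T * (t i : P) = (t j : P) * T := by
  have h1 := T_rep.cmi (tr i)
  have h2 : cmi TP (tt i) = cmi (tt j) TP := Nat.eq_of_beq_eq_true h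
  rw [h2] at h1
  exact h1.ext ((tr j).cmi T_rep)

theorem T_sq : T * T = 1 := by
  have h := T_chk
  simp only [Bool.and_eq_true] at h
  have h1 := T_rep.cmi T_rep
  rw [Nat.eq_of_beq_eq_true h.2.2.2.2.2.2] at h1
  exact h1.ext Cfsg.Agent.H20.J2P.Rep.one

theorem T_inv : T⁻¹ = T := by rw [inv_eq_iff_mul_eq_one, T_sq]

theorem T_gen : (T * (t 0 : P) = (t 0 : P) * T) ∧ (T * (t 19 : P) = (t 21 : P) * T) ∧ (T * (t 3 : P) = (t 8 : P) * T) ∧
    (T * (t 36 : P) = (t 41 : P) * T) ∧ (T * (t 251 : P) = (t 267 : P) * T) ∧ (T * (t 267 : P) = (t 251 : P) * T) := by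
  have h := T_chk
  simp only [Bool.and_eq_true] at h
  obtain ⟨h1, h2, h3, h4, h5, h6, _⟩ := h
  exact ⟨tj_spec (i := 0) (j := 0) h1, tj_spec (i := 19) (j := 21) h2, tj_spec (i := 3) (j := 8) h3,
    tj_spec (i := 36) (j := 41) h4, tj_spec (i := 251) (j := 267) h5, tj_spec (i := 267) (j := 251) h6⟩

theorem T_norm {g : P} (hg : g ∈ G) : T * g * T ∈ G := by
  obtain ⟨h1, h2, h3, h4, _⟩ := T_gen
  have key : ∀ a, T * gg a * T ∈ G := by
    intro a
    rw [← Ψ_s a]
    show T * (t (gx a) : P) * T ∈ G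
    fin_cases a
    · show T * (t 0 : P) * T ∈ G
      rw [h1, mul_assoc, T_sq, mul_one]; exact (t 0).2
    · show T * (t 19 : P) * T ∈ G
      rw [h2, mul_assoc, T_sq, mul_one]; exact (t 21).2
    · show T * (t 3 : P) * T ∈ G
      rw [h3, mul_assoc, T_sq, mul_one]; exact (t 8).2
    · show T * (t 36 : P) * T ∈ G
      rw [h4, mul_assoc, T_sq, mul_one]; exact (t 41).2
  rw [G_eq] at hg
  induction hg using Subgroup.closure_induction with
  | mem z hz => obtain ⟨a, rfl⟩ := hz; exact key a
  | one => rw [mul_one, T_sq]; exact G.one_mem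
  | mul u v _ _ hu hv =>
    have := G.mul_mem hu hv
    have e : T * u * T * (T * v * T) = T * (u * v) * T := by
      calc T * u * T * (T * v * T) = T * u * (T * T) * v * T := by group
        _ = _ := by rw [T_sq]; group
    rwa [e] at this
  | inv u _ hu =>
    have := G.inv_mem hu
    have e : (T * u * T)⁻¹ = T * u⁻¹ * T := by
      rw [mul_inv_rev, mul_inv_rev, T_inv, mul_assoc]
    rwa [e] at this

/-- conjugation by the outer involution -/
noncomputable def τ : MulAut G where
  toFun g := ⟨T * g * T, T_norm g.2⟩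
  invFun g := ⟨T * g * T, T_norm g.2⟩
  left_inv g := by
    apply Subtype.ext
    show T * (T * (g : P) * T) * T = g
    calc T * (T * (g : P) * T) * T = (T * T) * g * (T * T) := by group
      _ = _ := by rw [T_sq]; group
  right_inv g := by
    apply Subtype.ext
    show T * (T * (g : P) * T) * T = g
    calc T * (T * (g : P) * T) * T = (T * T) * g * (T * T) := by group
      _ = _ := by rw [T_sq]; group
  map_mul' u v := by
    apply Subtype.ext
    show T * ((u : P) * v) * T = T * u * T * (T * v * T)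
    calc T * ((u : P) * v) * T = T * u * 1 * v * T := by group
      _ = _ := by rw [← T_sq]; group

theorem τ_apply (g : G) : ((τ g : G) : P) = T * g * T := rfl

theorem τ_t0 : τ (t 0) = t 0 := by
  apply Subtype.ext
  rw [τ_apply, T_gen.1, mul_assoc, T_sq, mul_one]

theorem τ_t267 : τ (t 267) = t 251 := by
  apply Subtype.ext
  rw [τ_apply, T_gen.2.2.2.2.2, mul_assoc, T_sq, mul_one]

theorem τ_sq : τ * τ = 1 := by
  apply MulEquiv.ext
  intro g
  apply Subtype.ext
  show T * (T * (g : P) * T) * T = g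
  calc T * (T * (g : P) * T) * T = (T * T) * g * (T * T) := by group
    _ = _ := by rw [T_sq]; group

/-! ### the outer involution is odd -/

theorem sign_T : Perm.sign T = -1 := by
  have h : ∀ g ∈ SW.map (fun p => swap p.1 p.2), Perm.IsSwap g := by
    intro g hg
    obtain ⟨p, hp, rfl⟩ := List.mem_map.1 hg
    exact ⟨p.1, p.2, SW_ne p hp, rfl⟩
  have h1 := Perm.sign_prod_list_swap h
  rw [List.length_map, SW_len] at h1
  rw [T, h1]
  decide

theorem sign_G {g : P} (hg : g ∈ G) : Perm.sign g = 1 := by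
  haveI := Cfsg.Agent.H20.J2P.simple
  rcases (IsSimpleGroup.eq_bot_or_eq_top_of_normal ((Perm.sign : P →* ℤˣ).comp G.subtype).ker inferInstance) with h | h
  · exfalso
    rw [MonoidHom.ker_eq_bot_iff] at h
    have h1 := Nat.card_le_card_of_injective _ h
    rw [Cfsg.Agent.H20.J2P.card_G] at h1
    have h2 : Nat.card ℤˣ = 2 := by rw [Nat.card_eq_fintype_card]; rfl
    omega
  · have h1 : (⟨g, hg⟩ : G) ∈ ((Perm.sign : P →* ℤˣ).comp G.subtype).ker := by rw [h]; trivial
    exact h1

theorem T_not_mem : T ∉ G := by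
  intro h
  have h1 := sign_G h
  rw [sign_T] at h1
  exact absurd h1 (by decide)

/-- the centraliser of `G` in the symmetric group is trivial -/
theorem cen_G {c : P} (h : ∀ g ∈ G, c * g = g * c) : c = 1 := by
  have h0 : c 0 = 0 := by
    have h1 : ∀ k ∈ H, k (c 0) = c 0 := by
      intro k hk
      have := congrArg (fun f : P => f 0) (h k (H_le hk))
      simp only [Perm.mul_apply] at this
      rw [← this, H_fix k hk]
    have h2 : orbit H (c 0) = {c 0} := by
      ext y
      constructor
      · rintro ⟨k, rfl⟩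
        exact h1 k k.2
      · intro hy
        rw [Set.mem_singleton_iff.1 hy]
        exact mem_orbit_self _
    rcases cover (c 0) with h3 | h3 | h3
    · exact h3
    · exfalso
      have h4 := orbit_eq_iff.2 h3
      have h5 := card_o63
      rw [← h4, h2, Set.ncard_singleton] at h5
      omega
    · exfalso
      have h4 := orbit_eq_iff.2 h3
      have h5 := card_o36
      rw [← h4, h2, Set.ncard_singleton] at h5
      omega
  apply Equiv.ext
  intro y
  obtain ⟨g, hg, rfl⟩ := trans y
  have := congrArg (fun f : P => f 0) (h g hg)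
  simp only [Perm.mul_apply] at this
  rw [this, h0]; rfl

theorem τ_not_inner : τ ∉ Cfsg.Inn G := by
  rintro ⟨h, hh⟩
  have h1 : ∀ g ∈ G, (h : P)⁻¹ * T * g = g * ((h : P)⁻¹ * T) := by
    intro g hg
    have h2 := congrArg (fun f : MulAut G => ((f ⟨g, hg⟩ : G) : P)) hh
    have h3 : (h : P) * g * (h : P)⁻¹ = T * g * T := h2
    calc (h : P)⁻¹ * T * g = (h : P)⁻¹ * (T * g * 1) := by group
      _ = (h : P)⁻¹ * (T * g * T) * T := by rw [← T_sq]; group
      _ = g * ((h : P)⁻¹ * T) := by rw [← h3]; group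
  have h2 := cen_G h1
  apply T_not_mem
  rw [inv_mul_eq_one] at h2
  rw [← h2]
  exact h.2

theorem index_G : (Cfsg.Inn G).index = 2 := by
  rw [Subgroup.index_eq_two_iff]
  refine ⟨τ, fun b => ?_⟩
  obtain ⟨g, h0, h1⟩ := norm_of b
  rcases h1 with h1 | h1
  · right
    have h2 := inner_of _ h0 h1
    have h3 : b ∈ Cfsg.Inn G := by
      have h4 : (MulAut.conj g : MulAut G) ∈ Cfsg.Inn G := ⟨g, rfl⟩
      exact ((Cfsg.Inn G).mul_mem_cancel_left h4).1 h2
    refine ⟨h3, fun h4 => ?_⟩
    exact τ_not_inner (((Cfsg.Inn G).mul_mem_cancel_left h3).1 h4)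
  · left
    have h2 : τ * (MulAut.conj g * b) ∈ Cfsg.Inn G := by
      apply inner_of
      · rw [MulAut.mul_apply, h0, τ_t0]
      · rw [MulAut.mul_apply, h1, τ_t267]
    have h3 : b * τ ∈ Cfsg.Inn G := by
      have h4 : MulAut.conj g * (b * τ) = τ * (τ * (MulAut.conj g * b)) * τ⁻¹ := by
        have h5 : τ⁻¹ = τ := by rw [inv_eq_iff_mul_eq_one, τ_sq]
        rw [h5, ← mul_assoc τ τ, τ_sq, one_mul, mul_assoc]
      have h6 : MulAut.conj g * (b * τ) ∈ Cfsg.Inn G := by
        rw [h4]
        exact (inferInstance : (Cfsg.Inn G).Normal).conj_mem _ h2 _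
      have h7 : (MulAut.conj g : MulAut G) ∈ Cfsg.Inn G := ⟨g, rfl⟩
      exact ((Cfsg.Inn G).mul_mem_cancel_left h7).1 h6
    refine ⟨h3, fun h4 => ?_⟩
    exact τ_not_inner (((Cfsg.Inn G).mul_mem_cancel_left h4).1 h3)

/-- transport of the outer automorphism group -/
theorem out_congr {A B : Type*} [Group A] [Group B] (e : A ≃* B) : (Cfsg.Inn A).index = (Cfsg.Inn B).index := by
  have h1 : Cfsg.Inn A = (Cfsg.Inn B).comap (MulAut.congr e).toMonoidHom := by
    ext f
    constructor
    · rintro ⟨a, rfl⟩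
      refine ⟨e a, ?_⟩
      apply MulEquiv.ext
      intro x
      show e a * x * (e a)⁻¹ = e (a * e.symm x * a⁻¹)
      simp
    · rintro ⟨b, hb⟩
      refine ⟨e.symm b, ?_⟩
      apply MulEquiv.ext
      intro x
      have h2 := congrArg (fun f : MulAut B => f (e x)) hb
      have h3 : b * e x * b⁻¹ = e (f (e.symm (e x))) := h2
      rw [MulEquiv.symm_apply_apply] at h3
      show e.symm b * x * (e.symm b)⁻¹ = f x
      apply e.injective
      rw [← h3]
      simp
  rw [h1, Subgroup.index_comap_of_surjective _ (MulAut.congr e).surjective]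

theorem card_out : Nat.card (Cfsg.Out Cfsg.Spor.J2) = 2 := by
  have h := out_congr eJ
  rw [index_G] at h
  exact h

end Cfsg.Agent.H20.J2O
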