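import Cfsg.Agent.H20_LG

/-!
List groups with the same table are isomorphic; the alternating group of degree 5 as a list group.
-/

set_option autoImplicit false
set_option maxRecDepth 100000

namespace Cfsg.Agent.H20.LG

open Cfsg.Agent.H8.CE (ev ev_nil ev_cons ev_append)

section
variable {G G' : Type*} [Group G] [Group G'] [Finite G] [Finite G'] {n m : ℕ} {T : ℕ → ℕ → ℕ} {Y : ℕ → G} {R : ℕ → G → Prop}
  {Y' : ℕ → G'} {R' : ℕ → G' → Prop} {ps : List (List ℕ)}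

/-- index of an element -/
noncomputable def ixe (h : D n m T Y R) (hp : pchk n m T ps = true) (g : cl Y m) : ℕ := (h.all hp g.2).choose

theorem ixe_lt (h : D n m T Y R) (hp : pchk n m T ps = true) (g : cl Y m) : ixe h hp g < n := (h.all hp g.2).choose_spec.1
theorem ixe_eq (h : D n m T Y R) (hp : pchk n m T ps = true) (g : cl Y m) : e Y ps (ixe h hp g) = g := (h.all hp g.2).choose_spec.2.symm

/-- the comparison map -/
noncomputable def cmp (h : D n m T Y R) (h' : D n m T Y' R') (hp : pchk n m T ps = true) : cl Y m →* cl Y' m where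
  toFun g := ⟨e Y' ps (ixe h hp g), e_mem hp (ixe_lt h hp g)⟩
  map_one' := by
    apply Subtype.ext
    show e Y' ps (ixe h hp 1) = 1
    have h1 := ixe_eq h hp 1
    have h2 : ixe h hp 1 = 0 := h.e_inj hp (ixe_lt h hp 1) h.pos (h1.trans (h.e_zero hp).symm)
    rw [h2]
    exact h'.e_zero hp
  map_mul' a b := by
    apply Subtype.ext
    show e Y' ps (ixe h hp (a * b)) = e Y' ps (ixe h hp a) * e Y' ps (ixe h hp b)
    have ha := ixe_lt h hp a
    have hb := ixe_lt h hp b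
    rw [h'.mul hp ha hb]
    congr 1
    apply h.e_inj hp (ixe_lt h hp _) (h.mi_lt hp ha hb)
    rw [ixe_eq, ← h.mul hp ha hb, ixe_eq, ixe_eq]
    rfl

theorem cmp_inj (h : D n m T Y R) (h' : D n m T Y' R') (hp : pchk n m T ps = true) : Function.Injective (cmp h h' hp) := by
  intro a b hab
  have h1 : e Y' ps (ixe h hp a) = e Y' ps (ixe h hp b) := congrArg Subtype.val hab
  have h2 := h'.e_inj hp (ixe_lt h hp a) (ixe_lt h hp b) h1
  apply Subtype.ext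
  rw [← ixe_eq h hp a, ← ixe_eq h hp b, h2]

theorem iso (h : D n m T Y R) (h' : D n m T Y' R') (hp : pchk n m T ps = true) : Nonempty (cl Y m ≃* cl Y' m) := by
  refine ⟨MulEquiv.ofBijective (cmp h h' hp) ?_⟩
  rw [Nat.bijective_iff_injective_and_card]
  exact ⟨cmp_inj h h' hp, by rw [h.card hp, h'.card hp]⟩

end

/-! ### Degree five -/

def s5a : List ℕ := [0, 2, 1, 4, 3]
def s5b : List ℕ := [1, 3, 2, 0, 4]

def pl : List (List ℕ) := [[0, 1, 2, 3, 4], [0, 2, 1, 4, 3], [1, 3, 2, 0, 4], [2, 4, 1, 0, 3], [1, 2, 3, 4, 0], [3, 0, 2, 1, 4], [2, 1, 4, 3, 0], [4, 0, 1, 2, 3], [2, 4, 3, 1, 0], [3, 2, 0, 4, 1], [1, 3, 4, 2, 0], [4, 1, 0, 3, 2], [2, 3, 4, 0, 1], [4, 1, 3, 2, 0], [2, 4, 0, 3, 1], [1, 4, 3, 0, 2], [3, 2, 4, 1, 0], [1, 3, 0, 4, 2], [3, 0, 4, 2, 1], [4, 3, 1, 0, 2], [2, 0, 4, 1, 3], [4, 3, 0, 2, 1], [4, 0, 3, 1, 2], [3, 4, 2, 0, 1], [1, 0, 3, 2, 4], [3, 4, 0, 1, 2], [0, 2, 4, 3, 1], [3, 0, 1,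 4, 2], [0, 1, 4, 2, 3], [0, 1, 3, 4, 2], [4, 0, 2, 3, 1], [0, 2, 3, 1, 4], [0, 4, 2, 1, 3], [3, 1, 0, 2, 4], [0, 4, 1, 3, 2], [1, 2, 4, 0, 3], [0, 3, 1, 2, 4], [4, 2, 0, 1, 3], [0, 3, 2, 4, 1], [2, 1, 3, 0, 4], [4, 1, 2, 0, 3], [1, 2, 0, 3, 4], [1, 4, 2, 3, 0], [3, 2, 1, 0, 4], [2, 1, 0, 4, 3], [2, 3, 1, 4, 0], [4, 2, 1, 3, 0], [1, 0, 2, 4, 3], [2, 3, 0, 1, 4], [4, 3, 2, 1, 0], [3, 1, 2, 4, 0], [2, 0, 1, 3, 4], [1, 4, 0, 2, 3], [3, 4, 1, 2, 0], [2, 0, 3, 4, 1], [4, 2, 3, 0, 1], [1, 0, 4, 3, 2], [3, 1, 4, 0, 2], [0, 4, 3, 2, 1], [0, 3, 4, 1, 2]]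

def p5a : Equiv.Perm (Fin 5) := ⟨![0, 2, 1, 4, 3], ![0, 2, 1, 4, 3], by decide, by decide⟩
def p5b : Equiv.Perm (Fin 5) := ⟨![1, 3, 2, 0, 4], ![3, 0, 2, 1, 4], by decide, by decide⟩

def Y5 (s : ℕ) : Equiv.Perm (Fin 5) := if s = 0 then p5a else p5b

/-- the element with given images -/
def R5 (i : ℕ) (g : Equiv.Perm (Fin 5)) : Prop := ∀ x : Fin 5, ((g x : Fin 5) : ℕ) = (pl.getD i []).getD x 0

/-- check for a table -/
def chk5 (T : ℕ → ℕ → ℕ) : Bool :=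
  (List.range 60).all fun i => (List.range 2).all fun s => Nat.blt (T i s) 60 &&
    (List.range 5).all fun x => (pl.getD (T i s) []).getD x 0 == (pl.getD i []).getD ((if s = 0 then s5a else s5b).getD x 0) 0

theorem pl_uniq : ∀ i < 60, ∀ j < 60, (∀ x < 5, (pl.getD i []).getD x 0 = (pl.getD j []).getD x 0) → i = j := by decide +kernel

theorem L5 {T : ℕ → ℕ → ℕ} (h : chk5 T = true) : D 60 2 T Y5 R5 where
  ext := by
    intro i g g' h1 h2
    ext x
    rw [h1 x, h2 x]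
  uniq := by
    intro i j g hi hj h1 h2
    apply pl_uniq i hi j hj
    intro x hx
    rw [← h1 ⟨x, hx⟩, ← h2 ⟨x, hx⟩]
  one := by
    intro x
    revert x
    decide
  pos := by norm_num
  lt := by
    intro i hi s hs
    have h1 := List.all_eq_true.1 (List.all_eq_true.1 h i (List.mem_range.2 hi)) s (List.mem_range.2 hs)
    rw [Bool.and_eq_true] at h1
    exact Nat.le_of_ble_eq_true h1.1
  step := by
    intro i g s hi hs hR x
    have h1 := List.all_eq_true.1 (List.all_eq_true.1 h i (List.mem_range.2 hi)) s (List.mem_range.2 hs)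
    rw [Bool.and_eq_true] at h1
    have h2 := List.all_eq_true.1 h1.2 x (List.mem_range.2 x.2)
    rw [beq_iff_eq] at h2
    have h3 : ((Y5 s x : Fin 5) : ℕ) = (if s = 0 then s5a else s5b).getD x 0 := by
      have : ∀ s < 2, ∀ x : Fin 5, ((Y5 s x : Fin 5) : ℕ) = (if s = 0 then s5a else s5b).getD x 0 := by decide
      exact this s hs x
    rw [h2, Equiv.Perm.mul_apply, hR, h3]

theorem cl5 {T : ℕ → ℕ → ℕ} (h : chk5 T = true) {ps : List (List ℕ)} (hp : pchk 60 2 T ps = true) :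
    cl Y5 2 = alternatingGroup (Fin 5) := by
  apply Equiv.Perm.eq_alternatingGroup_of_index_eq_two
  have h2 := Subgroup.card_mul_index (cl Y5 2)
  rw [(L5 h).card hp, Nat.card_perm, Nat.card_eq_fintype_card, Fintype.card_fin] at h2
  have : Nat.factorial 5 = 60 * 2 := by decide
  rw [this] at h2
  exact Nat.eq_of_mul_eq_mul_left (by norm_num) h2

/-- a group with the table of `A₅` -/
theorem isoA5 {G : Type*} [Group G] [Finite G] {T : ℕ → ℕ → ℕ} {Y : ℕ → G} {R : ℕ → G → Prop} (h : D 60 2 T Y R)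
    (h5 : chk5 T = true) {ps : List (List ℕ)} (hp : pchk 60 2 T ps = true) : Nonempty (cl Y 2 ≃* alternatingGroup (Fin 5)) := by
  obtain ⟨f⟩ := iso h (L5 h5) hp
  exact ⟨f.trans (MulEquiv.subgroupCongr (cl5 h5 hp))⟩

end Cfsg.Agent.H20.LG
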