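import Cfsg.Agent.H20_J3D
import Cfsg.Agent.H20_J3A_S0
import Cfsg.Agent.H28_Xsp
import Cfsg.Agent.H20_LG2

/-!
The involution centralizer of J3.
-/

set_option autoImplicit false
set_option maxRecDepth 100000

namespace Cfsg.Agent.H20.J3C

open Cfsg.Agent.H8.CE Cfsg.Agent.H8.CS Cfsg.Agent.H8.Net Cfsg.Agent.H8.Act Cfsg.Agent.H8.Act2
open Cfsg.Agent.H20 Cfsg.Agent.H20.PT Cfsg.Agent.H20.J3P Cfsg.Agent.H20.LG Cfsg.Agent.H20.J3D Cfsg.Agent.H20.J3M

theorem eqb_sound {u w : List ℕ} (h : eqb u w = true) : ev X u = ev X w := eq_word h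

/-- the involution -/
noncomputable def z : J := X 1

theorem ev1 : ev X [1] = z := by rw [ev_cons, ev_nil, mul_one]; rfl

noncomputable def YQ (s : ℕ) : J := ev X (gsQ.getD s [])
noncomputable def YH (s : ℕ) : J := ev X (gsH.getD s [])
noncomputable def YP (s : ℕ) : J := ev X (gsP.getD s [])

theorem LQ : LG.D 32 4 (LG.tf' TQ) YQ (fun i g => El phi bs (DQ.getD i (.mk 0 0 0)) g) :=
  LG.ofTab tc base kQ (by decide) rfl ndQ
theorem LH : LG.D 60 2 (LG.tf' TH) YH (fun i g => El phi bs (DH.getD i (.mk 0 0 0)) g) :=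
  LG.ofTab tc base kH (by decide) rfl ndH
theorem LP : LG.D 128 6 (LG.tf' TP) YP (fun i g => El phi bs (DP.getD i (.mk 0 0 0)) g) :=
  LG.ofTab tc base kP (by decide) rfl ndP

theorem ev_flat {G : Type*} [Group G] (X : ℕ → G) (gs : List (List ℕ)) (w : List ℕ) :
    ev X (w.flatMap fun s => gs.getD s []) = ev (fun s => ev X (gs.getD s [])) w := by
  induction w with
  | nil => simp
  | cons s w ih => rw [List.flatMap_cons, ev_append, ev_cons, ih]

noncomputable def eQ (i : ℕ) : J := LG.e YQ psQ i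
noncomputable def eH (i : ℕ) : J := LG.e YH psH i
noncomputable def eP (i : ℕ) : J := LG.e YP psP i

theorem eQ_fl (i : ℕ) : eQ i = ev X (fl gsQ psQ i) := (ev_flat X gsQ _).symm
theorem eP_fl (i : ℕ) : eP i = ev X (fl gsP psP i) := (ev_flat X gsP _).symm

theorem eQ_zi : eQ zi = z := by rw [eQ_fl, eqb_sound c_z, ev1]

def mQ (i j : ℕ) : ℕ := LG.mi (LG.tf' TQ) psQ i j

theorem q_sq : ∀ i < 32, mQ i i = 0 ∨ mQ i i = zi := by decide +kernel
theorem q_com : ∀ i < 32, ∀ j < 32, mQ i j = mQ j i ∨ mQ i j = mQ zi (mQ j i) := by decide +kernel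
theorem q_cen : ∀ i < 32, (∀ j < 32, mQ i j = mQ j i) → i = 0 ∨ i = zi := by decide +kernel
theorem q_zc : ∀ i < 32, mQ zi i = mQ i zi := by decide +kernel
theorem q_ea0 : ((List.range 32).all fun i => (List.range 32).all fun j =>
    !(mQ i i == 0 && mQ j j == 0 && mQ i j == mQ j i) || (i == 0 || i == zi || j == 0 || j == zi || j == i || j == mQ i zi)) = true := by
  decide +kernel
theorem q_ea {i j : ℕ} (hi : i < 32) (hj : j < 32) (h1 : mQ i i = 0) (h2 : mQ j j = 0) (h3 : mQ i j = mQ j i) :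
    i = 0 ∨ i = zi ∨ j = 0 ∨ j = zi ∨ j = i ∨ j = mQ i zi := by
  have h := List.all_eq_true.1 (List.all_eq_true.1 q_ea0 i (List.mem_range.2 hi)) j (List.mem_range.2 hj)
  simp only [Bool.or_eq_true, Bool.not_eq_true', Bool.and_eq_false_iff, beq_eq_false_iff_ne, beq_iff_eq, h1, h2, h3,
    ne_eq, not_true, false_or, or_false] at h
  tauto
theorem q_nc : mQ 1 2 ≠ mQ 2 1 := by decide +kernel
theorem zi_lt : zi < 32 := by decide

theorem eQ_mul {i j : ℕ} (hi : i < 32) (hj : j < 32) : eQ i * eQ j = eQ (mQ i j) := LQ.mul pkQ hi hj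
theorem mQ_lt {i j : ℕ} (hi : i < 32) (hj : j < 32) : mQ i j < 32 := LQ.mi_lt pkQ hi hj
theorem eQ_inj {i j : ℕ} (hi : i < 32) (hj : j < 32) (h : eQ i = eQ j) : i = j := LQ.e_inj pkQ hi hj h
theorem eQ_zero : eQ 0 = 1 := LQ.e_zero pkQ

/-- the extraspecial group -/
noncomputable def Q0 : Subgroup J := LG.cl YQ 4
/-- the complement -/
noncomputable def H0 : Subgroup J := LG.cl YH 2
/-- the Sylow 2-subgroup -/
noncomputable def P0 : Subgroup J := LG.cl YP 6

theorem card_Q0 : Nat.card Q0 = 32 := LQ.card pkQ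
theorem card_H0 : Nat.card H0 = 60 := LH.card pkH
theorem card_P0 : Nat.card P0 = 128 := LP.card pkP

theorem Q0_all {g : J} (hg : g ∈ Q0) : ∃ i, i < 32 ∧ g = eQ i := LQ.all pkQ hg
theorem eQ_mem {i : ℕ} (hi : i < 32) : eQ i ∈ Q0 := LG.e_mem pkQ hi
theorem H0_all {g : J} (hg : g ∈ H0) : ∃ i, i < 60 ∧ g = eH i := LH.all pkH hg
theorem P0_all {g : J} (hg : g ∈ P0) : ∃ i, i < 128 ∧ g = eP i := LP.all pkP hg

theorem z_mem : z ∈ Q0 := by rw [← eQ_zi]; exact eQ_mem zi_lt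

theorem zc {x : J} (hx : x ∈ Q0) : z * x = x * z := by
  obtain ⟨i, hi, rfl⟩ := Q0_all hx
  rw [← eQ_zi, eQ_mul zi_lt hi, eQ_mul hi zi_lt, q_zc i hi]

theorem z_sq : z * z = 1 := by
  have h := hic 1 (by decide)
  rw [show il J3R.ic 1 = 1 by decide] at h
  exact mul_eq_one_iff_eq_inv.2 h

theorem z_ne : z ≠ 1 := by
  rw [← eQ_zi, ← eQ_zero]
  intro h
  have := eQ_inj zi_lt (by decide) h
  revert this
  decide

theorem hz : ∀ s, s < 2 → YH s * z = z * YH s := by
  intro s hs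
  have h1 := List.all_eq_true.1 c_hz (gsH.getD s []) (by
    have : s < gsH.length := hs
    rw [List.getD_eq_getElem _ _ this]
    exact List.getElem_mem _)
  have h2 := eqb_sound h1
  rw [ev_append, ev_append, ev1] at h2
  exact h2

theorem H0_z {h : J} (hh : h ∈ H0) : h * z = z * h := by
  have h1 : H0 ≤ Subgroup.centralizer {z} := by
    unfold H0 LG.cl
    rw [Subgroup.closure_le]
    rintro _ ⟨s, hs, rfl⟩
    rw [SetLike.mem_coe, Subgroup.mem_centralizer_singleton_iff]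
    exact hz s hs
  have h2 := h1 hh
  rw [Subgroup.mem_centralizer_singleton_iff] at h2
  exact h2

theorem int_bot : Q0 ⊓ H0 = ⊥ := by
  rw [eq_bot_iff]
  rintro g ⟨h1, h2⟩
  obtain ⟨i, hi, rfl⟩ := Q0_all h1
  obtain ⟨j, hj, hij⟩ := H0_all h2
  have e1 := LQ.R_e pkQ hi
  have e2 := LH.R_e pkH hj
  have hij' : LG.e YQ psQ i = LG.e YH psH j := hij
  rw [← hij'] at e2
  have e3 := c_int i hi j hj (El.uniq e1 e2)
  subst e3
  rw [eQ_zero]
  exact one_mem _

theorem norm_gen : ∀ k, k < 2 → ∀ j, j < 4 → (YH k)⁻¹ * YQ j * YH k ∈ Q0 := by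
  intro k hk j hj
  have h1 : ∃ t ∈ norm, t.1 = k ∧ t.2.1 = j ∧ t.2.2 < 32 := by
    have : ∀ k < 2, ∀ j < 4, ∃ t ∈ norm, t.1 = k ∧ t.2.1 = j ∧ t.2.2 < 32 := by decide
    exact this k hk j hj
  obtain ⟨t, ht, rfl, rfl, h32⟩ := h1
  have h2 := eqb_sound (List.all_eq_true.1 c_norm t ht)
  rw [ev_append, ev_append, ← eQ_fl] at h2
  have h3 : (YH t.1)⁻¹ * YQ t.2.1 * YH t.1 = eQ t.2.2 := by
    have h4 : YQ t.2.1 * YH t.1 = YH t.1 * eQ t.2.2 := h2
    rw [mul_assoc, h4, inv_mul_cancel_left]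
  rw [h3]
  exact eQ_mem h32

theorem norm_of_le {G : Type*} [Group G] [Finite G] (Q : Subgroup G) (h : G) (hle : ∀ q ∈ Q, h⁻¹ * q * h ∈ Q) (q : G) :
    q ∈ Q ↔ h⁻¹ * q * h ∈ Q := by
  have h1 : Q.map (MulAut.conj h⁻¹).toMonoidHom = Q := by
    apply Subgroup.eq_of_le_of_card_ge
    · rintro _ ⟨q, hq, rfl⟩
      show h⁻¹ * q * (h⁻¹)⁻¹ ∈ Q
      rw [inv_inv]
      exact hle q hq
    · rw [Subgroup.card_map_of_injective (MulAut.conj h⁻¹).injective]
  refine ⟨hle q, fun hq => ?_⟩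
  rw [← h1] at hq
  obtain ⟨q', hq', he⟩ := hq
  have h2 : h⁻¹ * q' * (h⁻¹)⁻¹ = h⁻¹ * q * h := he
  rw [inv_inv] at h2
  have h3 : q' = q := mul_left_cancel (mul_right_cancel h2)
  rw [← h3]; exact hq'

theorem H0_norm {h : J} (hh : h ∈ H0) : ∀ q ∈ Q0, h⁻¹ * q * h ∈ Q0 := by
  let N : Subgroup J :=
    { carrier := {h | ∀ q, q ∈ Q0 ↔ h⁻¹ * q * h ∈ Q0}
      one_mem' := by intro q; simp
      mul_mem' := by
        intro a b ha hb q
        rw [ha q, hb (a⁻¹ * q * a)]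
        have : b⁻¹ * (a⁻¹ * q * a) * b = (a * b)⁻¹ * q * (a * b) := by group
        rw [this]
      inv_mem' := by
        intro a ha q
        rw [ha (a⁻¹⁻¹ * q * a⁻¹)]
        have : a⁻¹ * (a⁻¹⁻¹ * q * a⁻¹) * a = q := by group
        rw [this] }
  have h1 : H0 ≤ N := by
    unfold H0 LG.cl
    rw [Subgroup.closure_le]
    rintro _ ⟨s, hs, rfl⟩
    intro q
    refine norm_of_le Q0 (YH s) ?_ q
    intro q hq
    have hq' : q ∈ Subgroup.closure (YQ '' {s | s < 4}) := hq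
    induction hq' using Subgroup.closure_induction with
    | mem x hx => obtain ⟨j, hj, rfl⟩ := hx; exact norm_gen s hs j hj
    | one => simpa using Q0.one_mem
    | mul a b ha hb iha ihb =>
      have : (YH s)⁻¹ * (a * b) * YH s = ((YH s)⁻¹ * a * YH s) * ((YH s)⁻¹ * b * YH s) := by group
      rw [this]
      exact mul_mem (iha ha) (ihb hb)
    | inv a ha iha =>
      have : (YH s)⁻¹ * a⁻¹ * YH s = ((YH s)⁻¹ * a * YH s)⁻¹ := by group
      rw [this]
      exact inv_mem (iha ha)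
  intro q hq
  exact ((h1 hh) q).1 hq

/-! ### The order of the centralizer -/

/-- orbit-stabilizer inequality -/
theorem card_le_fix {G : Type*} [Group G] [Finite G] {n : ℕ} (φ : G →* Equiv.Perm (Fin n)) (K : Subgroup G) (i : Fin n)
    (S : Finset (Fin n)) (hS : ∀ g ∈ K, φ g i ∈ S) :
    Nat.card K ≤ S.card * Nat.card (K ⊓ (MulAction.stabilizer (Equiv.Perm (Fin n)) i).comap φ : Subgroup G) := by
  set St := (MulAction.stabilizer (Equiv.Perm (Fin n)) i).comap φ with hSt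
  have h1 : Nat.card (St.subgroupOf K) * (St.subgroupOf K).index = Nat.card K := Subgroup.card_mul_index _
  have h2 : Nat.card (St.subgroupOf K) = Nat.card (K ⊓ St : Subgroup G) := by
    rw [← Subgroup.inf_subgroupOf_left]
    exact Nat.card_congr (Subgroup.subgroupOfEquivOfLe inf_le_left).toEquiv
  have h3 : (St.subgroupOf K).index ≤ S.card := by
    rw [Subgroup.index_eq_card]
    have hf : ∀ q : K ⧸ St.subgroupOf K, ∃ s : S, ∀ g : K, (g : K ⧸ St.subgroupOf K) = q → φ (g : G) i = s := by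
      intro q
      obtain ⟨g, rfl⟩ := QuotientGroup.mk_surjective q
      refine ⟨⟨φ (g : G) i, hS g g.2⟩, fun g' hg' => ?_⟩
      have h4 : g'⁻¹ * g ∈ St.subgroupOf K := QuotientGroup.eq.1 hg'
      rw [Subgroup.mem_subgroupOf, hSt, Subgroup.mem_comap, MulAction.mem_stabilizer_iff, Subgroup.coe_mul, Subgroup.coe_inv,
        map_mul, map_inv, Equiv.Perm.smul_def, Equiv.Perm.mul_apply, Equiv.Perm.inv_eq_iff_eq] at h4
      exact h4.symm
    choose f hf using hf
    have hinj : Function.Injective f := by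
      intro q q' hqq
      obtain ⟨g, rfl⟩ := QuotientGroup.mk_surjective q
      obtain ⟨g', rfl⟩ := QuotientGroup.mk_surjective q'
      have e1 := hf _ g rfl
      have e2 := hf _ g' rfl
      rw [hqq] at e1
      rw [QuotientGroup.eq, Subgroup.mem_subgroupOf, hSt, Subgroup.mem_comap, MulAction.mem_stabilizer_iff, Subgroup.coe_mul,
        Subgroup.coe_inv, map_mul, map_inv, Equiv.Perm.smul_def, Equiv.Perm.mul_apply, Equiv.Perm.inv_eq_iff_eq, e1, e2]
    have h4 := Nat.card_le_card_of_injective f hinj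
    rwa [Nat.card_eq_fintype_card (α := S), Fintype.card_coe] at h4
  rw [← h1, h2, Nat.mul_comm]
  exact Nat.mul_le_mul_right _ h3

end Cfsg.Agent.H20.J3C
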