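import Cfsg.Agent.H20_J3C

/-!
The order of the involution centralizer of J3.
-/

set_option autoImplicit false
set_option maxRecDepth 100000

namespace Cfsg.Agent.H20.J3C

open Cfsg.Agent.H8.CE Cfsg.Agent.H8.CS Cfsg.Agent.H8.Net Cfsg.Agent.H8.Act Cfsg.Agent.H8.Act2
open Cfsg.Agent.H20 Cfsg.Agent.H20.PT Cfsg.Agent.H20.J3P Cfsg.Agent.H20.LG Cfsg.Agent.H20.J3D Cfsg.Agent.H20.J3M

/-- the point stabilizer as a group generated by letters -/
noncomputable def HL : Subgroup J := Subgroup.closure (x '' {y | y ∈ [1, 6, 7]})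

theorem HL_lower : 8160 ≤ Nat.card HL := by
  have h := sub_lower (φ := phi) (x := x) compat (L' := J3A_S0.L) [1, 6, 7] J3A_S0.sub_ok J3A_S0.sys hn (sg := J3A_S0.sg) J3A_S0.sg_ok
    (by decide +kernel) J3A_S0.chain
  rwa [J3A_S0.prodM_levs] at h

theorem HL_spec : HL.index = 6156 ∧ ∀ g, g ∈ HL ↔ phi g ⟨0, by decide⟩ = ⟨0, by decide⟩ := by
  have h1 := Subgroup.card_mul_index HL
  rw [main.1] at h1
  have h2 := HL_lower
  refine index_of_fix (H := HL) (by decide) trans0 (fix_closure J3A.sys compat (by decide) (by decide) J3A.hfix) ?_ ?_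
  · by_contra hcon
    have : 8160 * 6157 ≤ Nat.card HL * HL.index := Nat.mul_le_mul h2 (by omega)
    omega
  · intro h0
    rw [h0] at h1
    omega

theorem card_HL : Nat.card HL = 8160 := by
  have h1 := Subgroup.card_mul_index HL
  rw [main.1, HL_spec.1] at h1
  omega

/-- the stabilizer of a point -/
noncomputable def St (i : Fin 6156) : Subgroup J := (MulAction.stabilizer (Equiv.Perm (Fin 6156)) i).comap phi

theorem mem_St {i : Fin 6156} {g : J} : g ∈ St i ↔ phi g i = i := Iff.rfl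

theorem HL_eq : HL = St bs.1 := by
  ext g
  rw [HL_spec.2 g, mem_St]; rfl

theorem card_St0 : Nat.card (St bs.1) = 8160 := by rw [← HL_eq, card_HL]

theorem invIv_last : invIv J3A.L [1, 6, 7] 4116 6156 = true := by decide +kernel

/-- the last suborbit is invariant -/
theorem St0_iv {g : J} (hg : g ∈ St bs.1) (i : Fin 6156) : 4116 ≤ (i : ℕ) ↔ 4116 ≤ ((phi g i : Fin 6156) : ℕ) := by
  rw [← HL_eq] at hg
  let N : Subgroup J :=
    { carrier := {g | ∀ i : Fin 6156, 4116 ≤ (i : ℕ) ↔ 4116 ≤ ((phi g i : Fin 6156) : ℕ)}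
      one_mem' := by intro i; simp
      mul_mem' := by
        intro a b ha hb i
        rw [map_mul, Equiv.Perm.mul_apply, ← ha, ← hb]
      inv_mem' := by
        intro a ha i
        rw [ha (phi a⁻¹ i), ← Equiv.Perm.mul_apply, ← map_mul, mul_inv_cancel, map_one, Equiv.Perm.one_apply] }
  have h1 : HL ≤ N := by
    unfold HL
    rw [Subgroup.closure_le]
    rintro _ ⟨y, hy, rfl⟩
    have hN : x y ∈ N ↔ (x y)⁻¹ ∈ N := (Subgroup.inv_mem_iff N).symm
    rw [SetLike.mem_coe, hN]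
    intro i
    have h2 := invIv_sound J3A.sys (a := 4116) (b := 6156) (by decide) invIv_last y hy i
    have h3 := compat y (by simp at hy; omega) i
    rw [← map_inv] at h3
    rw [h3]
    have h4 := i.2
    have h5 := ((net_mem J3A.sys y).2 i).2 i.2
    constructor
    · intro h6; exact (h2.2 ⟨h6, h4⟩).1
    · intro h6; exact (h2.1 ⟨h6, h5⟩).1
  exact h1 hg i

theorem reach_last : reachIv J3A.L [1, 6, 7] 10 4116 4116 6156 = true := by decide +kernel

/-- transitivity on the last suborbit -/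
theorem St0_trans (i : Fin 6156) (hi : 4116 ≤ (i : ℕ)) : ∃ g ∈ St bs.1, phi g ⟨4116, by decide⟩ = i := by
  obtain ⟨g, _, h1, h2⟩ := suborb_of J3A.sys compat (ys := [1, 6, 7]) (by decide) J3A.hfix (hn0 := by decide) (by decide)
    (show 4116 < 6156 by decide) reach_last i hi i.2
  exact ⟨g, h1, h2⟩

theorem two_pt (β : Fin 6156) (hβ : 4116 ≤ (β : ℕ)) : Nat.card (St bs.1 ⊓ St β : Subgroup J) ≤ 4 := by
  classical
  have h1 := card_level phi [bs.1] β (Finset.univ.filter fun i : Fin 6156 => 4116 ≤ (i : ℕ)) (by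
    intro i hi
    rw [Finset.mem_filter] at hi
    obtain ⟨g, hg, h1⟩ := St0_trans i hi.2
    obtain ⟨g', hg', h1'⟩ := St0_trans β hβ
    have h2 := mem_St.1 hg
    have h2' := mem_St.1 hg'
    refine ⟨g * g'⁻¹, ?_, ?_⟩
    · rw [mem_stabs]
      intro b hb
      rw [List.mem_singleton] at hb
      subst hb
      exact mem_St.1 (mul_mem hg (inv_mem hg'))
    · have h3 : ((phi g')⁻¹ : Equiv.Perm (Fin 6156)) β = ⟨4116, by decide⟩ := by
        rw [Equiv.Perm.inv_eq_iff_eq]; exact h1'.symm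
      rw [map_mul, map_inv, Equiv.Perm.mul_apply, h3, h1])
  have h2 : (Finset.univ.filter fun i : Fin 6156 => 4116 ≤ (i : ℕ)).card = 2040 := by
    have : (Finset.univ.filter fun i : Fin 6156 => 4116 ≤ (i : ℕ)) = Finset.Ici (⟨4116, by decide⟩ : Fin 6156) := by
      ext i
      simp [Fin.le_def]
    rw [this, Fin.card_Ici]
    rfl
  have h3 : stabs phi [bs.1] = St bs.1 := by
    ext g
    rw [mem_stabs, mem_St]
    simp
  have h4 : stabs phi (β :: [bs.1]) = St bs.1 ⊓ St β := by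
    ext g
    rw [mem_stabs, Subgroup.mem_inf, mem_St, mem_St]
    simp [and_comm]
  rw [h2, h3, h4, card_St0] at h1
  omega

/-- the centralizer -/
noncomputable def C : Subgroup J := Subgroup.centralizer {z}

theorem mem_C {g : J} : g ∈ C ↔ g * z = z * g := Subgroup.mem_centralizer_singleton_iff

theorem fix_list (i : Fin 6156) (h : phi z i = i) : (i : ℕ) ∈ fixL := by
  have h1 := rangeS_sound (nat_lit 6156) _ (nat_lit 13) (nat_lit 0) c_fix i (Nat.zero_le _) (lt_of_lt_of_le i.2 (by decide)) i.2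
  have h2 : look (nat_lit 13) (nat_lit 8191) tA i = i := by
    have h3 := tc 1 i
    have h4 : ((phi (X 1))⁻¹ : Equiv.Perm (Fin 6156)) i = i := by
      rw [Equiv.Perm.inv_eq_iff_eq]; exact h.symm
    rw [h4] at h3
    exact h3.symm
  rw [h2, Nat.beq_refl] at h1
  exact List.contains_iff_mem.1 h1

theorem C_fix {g : J} (hg : g ∈ C) {i : Fin 6156} (h : phi z i = i) : phi z (phi g i) = phi g i := by
  rw [mem_C] at hg
  rw [← Equiv.Perm.mul_apply, ← map_mul, ← hg, map_mul, Equiv.Perm.mul_apply, h]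

/-- fixed points -/
def S1 : Finset (Fin 6156) := Finset.univ.filter fun i : Fin 6156 => (i : ℕ) ∈ fixL
def S2 : Finset (Fin 6156) := Finset.univ.filter fun i : Fin 6156 => (i : ℕ) ∈ fixL.filter fun p => 4116 ≤ p

theorem card_sub (l : List ℕ) : (Finset.univ.filter fun i : Fin 6156 => (i : ℕ) ∈ l).card ≤ l.length := by
  classical
  have h1 : (Finset.univ.filter fun i : Fin 6156 => (i : ℕ) ∈ l).card ≤ (l.toFinset).card := by
    apply Finset.card_le_card_of_injOn (fun i : Fin 6156 => (i : ℕ))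
    · intro i hi
      rw [Finset.mem_coe, Finset.mem_filter] at hi
      rw [Finset.mem_coe, List.mem_toFinset]
      exact hi.2
    · intro i _ j _ hij
      exact Fin.ext hij
  exact h1.trans (List.toFinset_card_le _)

theorem mem_S1 {i : Fin 6156} (h : (i : ℕ) ∈ fixL) : i ∈ S1 := by
  unfold S1
  rw [Finset.mem_filter]
  exact ⟨Finset.mem_univ _, h⟩
theorem mem_S2 {i : Fin 6156} (h : (i : ℕ) ∈ fixL) (h' : 4116 ≤ (i : ℕ)) : i ∈ S2 := by
  unfold S2
  rw [Finset.mem_filter, List.mem_filter]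
  exact ⟨Finset.mem_univ _, h, decide_eq_true h'⟩

theorem card_S1 : S1.card ≤ 76 := (card_sub _).trans (le_of_eq fix_len.1)
theorem card_S2 : S2.card ≤ 8 := (card_sub _).trans (le_of_eq fix_len.2)

theorem fixpt : ∀ i : Fin 6156, look (nat_lit 13) (nat_lit 8191) tA i = i → phi z i = i := by
  intro i h
  have h3 := tc 1 i
  have h4 : ((phi (X 1))⁻¹ : Equiv.Perm (Fin 6156)) i = i := Fin.ext (h3.trans h)
  rw [Equiv.Perm.inv_eq_iff_eq] at h4
  exact h4.symm

theorem z0 : phi z bs.1 = bs.1 := by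
  apply fixpt
  have : Nat.beq (look (nat_lit 13) (nat_lit 8191) tA 0) 0 = true := by decide +kernel
  exact Nat.eq_of_beq_eq_true this

theorem z1 : phi z ⟨4359, by decide⟩ = ⟨4359, by decide⟩ := by
  apply fixpt
  have : Nat.beq (look (nat_lit 13) (nat_lit 8191) tA 4359) 4359 = true := by decide +kernel
  exact Nat.eq_of_beq_eq_true this

attribute [local irreducible] S1 S2 fixL

/-- a point in the last suborbit -/
def b1 : Fin 6156 := ⟨4359, by decide⟩

theorem b1_ge : 4116 ≤ (b1 : ℕ) := by decide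

theorem card_le_fix2 (K : Subgroup J) (i : Fin 6156) (S : Finset (Fin 6156)) (m : ℕ) (hm : S.card ≤ m) (hS : ∀ g ∈ K, phi g i ∈ S) :
    Nat.card K ≤ m * Nat.card (K ⊓ St i : Subgroup J) :=
  (card_le_fix phi K i S hS).trans (Nat.mul_le_mul_right _ hm)

theorem step1 : Nat.card C ≤ 76 * Nat.card (C ⊓ St bs.1 : Subgroup J) :=
  card_le_fix2 C bs.1 S1 76 card_S1 fun g hg => mem_S1 (fix_list _ (C_fix hg z0))

theorem step2 : Nat.card (C ⊓ St bs.1 : Subgroup J) ≤ 8 * Nat.card (C ⊓ St bs.1 ⊓ St b1 : Subgroup J) :=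
  card_le_fix2 (C ⊓ St bs.1) b1 S2 8 card_S2 fun g hg => mem_S2 (fix_list _ (C_fix hg.1 z1)) ((St0_iv hg.2 b1).1 b1_ge)

theorem step3 : Nat.card (C ⊓ St bs.1 ⊓ St b1 : Subgroup J) ≤ 4 :=
  (Subgroup.card_le_of_le (inf_le_inf_right _ inf_le_right)).trans (two_pt b1 b1_ge)

theorem card_C_le : Nat.card C ≤ 2432 := by
  have h1 := step1
  have h2 := step2
  have h3 := step3
  omega

theorem Q0_le : Q0 ≤ C := fun g hg => mem_C.2 (zc hg).symm
theorem H0_le : H0 ≤ C := fun g hg => mem_C.2 (H0_z hg)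

theorem card_C : Nat.card C = 1920 := by
  have h1 : 32 ∣ Nat.card C := by rw [← card_Q0]; exact Subgroup.card_dvd_of_le Q0_le
  have h2 : 60 ∣ Nat.card C := by rw [← card_H0]; exact Subgroup.card_dvd_of_le H0_le
  have h3 : Nat.card C ∣ 50232960 := by rw [← main.1]; exact Subgroup.card_subgroup_dvd_card C
  have h4 := card_C_le
  have h5 : 1920 ≤ Nat.card C := by
    have h6 : Function.Injective (fun p : Q0 × H0 => (⟨(p.1 : J) * (p.2 : J), mul_mem (Q0_le p.1.2) (H0_le p.2.2)⟩ : C)) := by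
      rintro ⟨a, b⟩ ⟨c, d⟩ h
      have h7 : (a : J) * (b : J) = (c : J) * (d : J) := congrArg Subtype.val h
      have h8 : (c : J)⁻¹ * a = d * (b : J)⁻¹ := by
        rw [inv_mul_eq_iff_eq_mul, ← mul_assoc, ← h7, mul_inv_cancel_right]
      have h9 : (c : J)⁻¹ * a ∈ Q0 ⊓ H0 := ⟨Q0.mul_mem (Q0.inv_mem c.2) a.2, by rw [h8]; exact H0.mul_mem d.2 (H0.inv_mem b.2)⟩
      rw [int_bot, Subgroup.mem_bot] at h9
      have h10 : (a : J) = c := (inv_mul_eq_one.1 h9).symm
      rw [h9] at h8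
      have h11 : (d : J) = b := mul_inv_eq_one.1 h8.symm
      exact Prod.ext (Subtype.ext h10) (Subtype.ext h11.symm)
    have h7 := Nat.card_le_card_of_injective _ h6
    rwa [Nat.card_prod, card_Q0, card_H0] at h7
  obtain ⟨k, hk⟩ := h1
  obtain ⟨l, hl⟩ := h2
  have hk1 : 60 ≤ k := by omega
  have hk2 : k ≤ 76 := by omega
  obtain ⟨r, hr⟩ := h3
  rw [hk] at hl h4 h5 hr ⊢
  interval_cases k <;> omega

end Cfsg.Agent.H20.J3C
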