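import Cfsg.Agent.H20_J3C2

/-!
The structure of the involution centralizer of J3; all involutions are conjugate.
-/

set_option autoImplicit false
set_option maxRecDepth 100000

namespace Cfsg.Agent.H20.J3C

open Cfsg.Agent.H8.CE Cfsg.Agent.H8.CS Cfsg.Agent.H8.Net Cfsg.Agent.H8.Act Cfsg.Agent.H8.Act2
open Cfsg.Agent.H20 Cfsg.Agent.H20.PT Cfsg.Agent.H20.J3P Cfsg.Agent.H20.LG Cfsg.Agent.H20.J3D Cfsg.Agent.H20.J3M

/-! ### Fusion of involutions -/

theorem P_inv {g : J} (hg : g ∈ P0) (h2 : g * g = 1) (h1 : g ≠ 1) : ∃ c : J, g * c = c * z := by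
  obtain ⟨i, hi, rfl⟩ := P0_all hg
  have h3 : eP i * eP i = eP (LG.mi (LG.tf' TP) psP i i) := LP.mul pkP hi hi
  have h4 : LG.mi (LG.tf' TP) psP i i = 0 := by
    apply LP.e_inj pkP (LP.mi_lt pkP hi hi) (by decide)
    show eP _ = LG.e YP psP 0
    rw [← h3, h2, LP.e_zero pkP]
  have h0 : i ≠ 0 := by
    rintro rfl
    exact h1 (LP.e_zero pkP)
  have h5 := c_fus2 i hi h0 h4
  obtain ⟨t, ht, rfl⟩ := List.mem_map.1 h5
  have h6 := eqb_sound (List.all_eq_true.1 c_fus t ht)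
  rw [ev_append, ev_append, ← eP_fl, ev1] at h6
  exact ⟨_, h6⟩

theorem card_J : Nat.card J = 50232960 := main.1

instance : Fact (Nat.Prime 2) := ⟨Nat.prime_two⟩

/-- the Sylow subgroup -/
noncomputable def Sy2 : Sylow 2 J := Sylow.ofCard P0 (by
  rw [card_P0, card_J]
  have : (50232960 : ℕ).factorization 2 = 7 := by
    have h1 : (50232960 : ℕ) = 2 ^ 7 * 392445 := by norm_num
    rw [h1, Nat.factorization_mul (by norm_num) (by norm_num), Nat.factorization_pow]
    simp only [Finsupp.coe_add, Finsupp.coe_smul, Pi.add_apply, Pi.smul_apply]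
    rw [Nat.Prime.factorization_self Nat.prime_two, Nat.factorization_eq_zero_of_not_dvd (by norm_num)]
    norm_num
  rw [this]; norm_num)

theorem inv_conj {g : J} (h2 : g * g = 1) (h1 : g ≠ 1) : ∃ c : J, c * g * c⁻¹ = z := by
  have hp : IsPGroup 2 (Subgroup.zpowers g) := by
    apply IsPGroup.of_card (n := 1)
    rw [Nat.card_zpowers, pow_one]
    exact orderOf_eq_prime (by rw [pow_two]; exact h2) h1
  obtain ⟨Q, hQ⟩ := hp.exists_le_sylow
  obtain ⟨c, hc⟩ := MulAction.exists_smul_eq J Q Sy2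
  have h3 : c * g * c⁻¹ ∈ P0 := by
    have h4 : g ∈ (Q : Subgroup J) := hQ (Subgroup.mem_zpowers g)
    have h5 : c * g * c⁻¹ ∈ ((c • Q : Sylow 2 J) : Subgroup J) := by
      rw [Sylow.coe_subgroup_smul]
      exact Subgroup.smul_mem_pointwise_smul _ (MulAut.conj c) _ h4
    rw [hc] at h5
    exact h5
  obtain ⟨d, hd⟩ := P_inv h3 (by
    have : c * g * c⁻¹ * (c * g * c⁻¹) = c * (g * g) * c⁻¹ := by group
    rw [this, h2]; simp) (by
    intro h
    apply h1
    have : g = c⁻¹ * (c * g * c⁻¹) * c := by group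
    rw [this, h]; simp)
  refine ⟨d⁻¹ * c, ?_⟩
  have : d⁻¹ * c * g * (d⁻¹ * c)⁻¹ = d⁻¹ * (c * g * c⁻¹ * d) := by group
  rw [this, hd]; group

/-! ### The structure of the centralizer -/

noncomputable def QC : Subgroup C := Q0.subgroupOf C
noncomputable def HC : Subgroup C := H0.subgroupOf C

theorem card_QC : Nat.card QC = 32 := by
  rw [← card_Q0]
  exact Nat.card_congr (Subgroup.subgroupOfEquivOfLe Q0_le).toEquiv

theorem card_HC : Nat.card HC = 60 := by
  rw [← card_H0]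
  exact Nat.card_congr (Subgroup.subgroupOfEquivOfLe H0_le).toEquiv

theorem compl : HC.IsComplement' QC := by
  apply Subgroup.isComplement'_of_card_mul_and_disjoint
  · rw [card_HC, card_QC, card_C]
  · rw [disjoint_iff, eq_bot_iff]
    rintro g ⟨h1, h2⟩
    have h3 : (g : J) ∈ Q0 ⊓ H0 := ⟨h2, h1⟩
    rw [int_bot, Subgroup.mem_bot] at h3
    exact Subtype.ext h3

theorem compl' : QC.IsComplement' HC := compl.symm

instance QC_normal : QC.Normal := by
  constructor
  intro q hq g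
  obtain ⟨⟨a, b⟩, hab, -⟩ := (compl'.existsUnique g⁻¹)
  have hab' : (a : C) * (b : C) = g⁻¹ := hab
  have h1 : (b : C)⁻¹ * ((a : C)⁻¹ * q * (a : C)) * (b : C) = g * q * g⁻¹ := by
    rw [← hab']
    have : g = (b : C)⁻¹ * (a : C)⁻¹ := by rw [← mul_inv_rev, hab', inv_inv]
    rw [this]; group
  rw [← h1]
  have h2 : ((a : C)⁻¹ * q * (a : C) : C) ∈ QC := mul_mem (mul_mem (inv_mem a.2) hq) a.2
  exact H0_norm (h := ((b : C) : J)) b.2 _ h2

theorem quotA5 : Nonempty (C ⧸ QC ≃* alternatingGroup (Fin 5)) := by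
  obtain ⟨f⟩ := LG.isoA5 LH (by decide +kernel) pkH
  exact ⟨compl.QuotientMulEquiv.trans ((Subgroup.subgroupOfEquivOfLe H0_le).trans f)⟩

theorem Q0_sq {x : J} (hx : x ∈ Q0) : x * x = 1 ∨ x * x = z := by
  obtain ⟨i, hi, rfl⟩ := Q0_all hx
  rw [eQ_mul hi hi]
  rcases q_sq i hi with h | h
  · left; rw [h, eQ_zero]
  · right; rw [h, eQ_zi]

theorem Q0_comm {x y : J} (hx : x ∈ Q0) (hy : y ∈ Q0) : x * y = y * x ∨ x * y = z * (y * x) := by
  obtain ⟨i, hi, rfl⟩ := Q0_all hx
  obtain ⟨j, hj, rfl⟩ := Q0_all hy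
  rw [eQ_mul hi hj, eQ_mul hj hi, ← eQ_zi, eQ_mul zi_lt (mQ_lt hj hi)]
  rcases q_com i hi j hj with h | h
  · left; rw [h]
  · right; rw [h]

theorem Q0_cen {x : J} (hx : x ∈ Q0) (h : ∀ y ∈ Q0, x * y = y * x) : x = 1 ∨ x = z := by
  obtain ⟨i, hi, rfl⟩ := Q0_all hx
  rcases q_cen i hi (fun j hj => eQ_inj (mQ_lt hi hj) (mQ_lt hj hi) (by
    rw [← eQ_mul hi hj, ← eQ_mul hj hi]; exact h _ (eQ_mem hj))) with h | h
  · left; rw [h, eQ_zero]
  · right; rw [h, eQ_zi]

theorem Q0_ea {x y : J} (hx : x ∈ Q0) (hy : y ∈ Q0) (hx2 : x * x = 1) (hy2 : y * y = 1) (hxy : x * y = y * x) :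
    x = 1 ∨ x = z ∨ y = 1 ∨ y = z ∨ y = x ∨ y = x * z := by
  obtain ⟨i, hi, rfl⟩ := Q0_all hx
  obtain ⟨j, hj, rfl⟩ := Q0_all hy
  rw [eQ_mul hi hi, ← eQ_zero] at hx2
  rw [eQ_mul hj hj, ← eQ_zero] at hy2
  rw [eQ_mul hi hj, eQ_mul hj hi] at hxy
  have h1 := eQ_inj (mQ_lt hi hi) (by decide) hx2
  have h2 := eQ_inj (mQ_lt hj hj) (by decide) hy2
  have h3 := eQ_inj (mQ_lt hi hj) (mQ_lt hj hi) hxy
  rw [← eQ_zi, eQ_mul hi zi_lt, ← eQ_zero]
  rcases q_ea hi hj h1 h2 h3 with h | h | h | h | h | h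
  · left; rw [h]
  · right; left; rw [h]
  · right; right; left; rw [h]
  · right; right; right; left; rw [h]
  · right; right; right; right; left; rw [h]
  · right; right; right; right; right; rw [h]

theorem z_in_C : z ∈ C := mem_C.2 rfl

noncomputable def zC : C := ⟨z, z_in_C⟩

theorem xsp : H28.Xsp.Xsp QC zC where
  mem := z_mem
  ne := fun h => z_ne (congrArg (fun c : C => (c : J)) h)
  sq := Subtype.ext z_sq
  zc := fun x hx => Subtype.ext (zc hx)
  comm := by
    intro x hx y hy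
    rcases Q0_comm hx hy with h | h
    · left; exact Subtype.ext h
    · right; exact Subtype.ext h
  sqr := by
    intro x hx
    rcases Q0_sq hx with h | h
    · left; exact Subtype.ext h
    · right; exact Subtype.ext h
  cen := by
    intro x hx h
    have h1 : ∀ y ∈ Q0, (x : J) * y = y * (x : J) := by
      intro y hy
      have h2 := h ⟨y, Q0_le hy⟩ hy
      exact congrArg (fun c : C => (c : J)) h2
    rcases Q0_cen hx h1 with h2 | h2
    · left; exact Subtype.ext h2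
    · right; exact Subtype.ext h2

theorem extra : Cfsg.IsExtraspecial 2 QC := by
  apply xsp.isExtraspecial
  refine ⟨⟨eQ 1, Q0_le (eQ_mem (by decide))⟩, eQ_mem (by decide), ⟨eQ 2, Q0_le (eQ_mem (by decide))⟩, eQ_mem (by decide), ?_⟩
  intro h
  have h1 : eQ 1 * eQ 2 = eQ 2 * eQ 1 := congrArg (fun c : C => (c : J)) h
  rw [eQ_mul (by decide) (by decide), eQ_mul (by decide) (by decide)] at h1
  exact q_nc (eQ_inj (mQ_lt (by decide) (by decide)) (mQ_lt (by decide) (by decide)) h1)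

theorem ea_card (E : Subgroup QC) (hE : Cfsg.IsElementaryAbelian 2 E) : Nat.card E ≤ 2 ^ 2 := by
  classical
  obtain ⟨hc, he⟩ := hE
  have hsq : ∀ x ∈ E, ((x : C) : J) * ((x : C) : J) = 1 := by
    intro x hx
    have h1 := he x hx
    rw [pow_two] at h1
    exact congrArg (fun c : QC => ((c : C) : J)) h1
  have hcm : ∀ x ∈ E, ∀ y ∈ E, ((x : C) : J) * ((y : C) : J) = ((y : C) : J) * ((x : C) : J) := by
    intro x hx y hy
    have h1 := hc.is_comm.comm (⟨x, hx⟩ : E) ⟨y, hy⟩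
    exact congrArg (fun c : E => (((c : QC) : C) : J)) h1
  have key : ∃ w : J, ∀ x ∈ E, ((x : C) : J) ∈ ({1, z, w, w * z} : Finset J) := by
    by_cases h : ∃ w ∈ E, ((w : C) : J) ≠ 1 ∧ ((w : C) : J) ≠ z
    · obtain ⟨w, hw, hw1, hw2⟩ := h
      refine ⟨((w : C) : J), fun x hx => ?_⟩
      have hh := Q0_ea w.2 x.2 (hsq w hw) (hsq x hx) (hcm w hw x hx)
      simp only [Finset.mem_insert, Finset.mem_singleton]
      rcases hh with h | h | h | h | h | h
      · exact absurd h hw1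
      · exact absurd h hw2
      · exact Or.inl h
      · exact Or.inr (Or.inl h)
      · exact Or.inr (Or.inr (Or.inl h))
      · exact Or.inr (Or.inr (Or.inr h))
    · push Not at h
      refine ⟨1, fun x hx => ?_⟩
      simp only [Finset.mem_insert, Finset.mem_singleton]
      by_cases h1 : ((x : C) : J) = 1
      · exact Or.inl h1
      · exact Or.inr (Or.inl (h x hx h1))
  obtain ⟨w, hw⟩ := key
  have h1 : Function.Injective (fun x : E => (⟨(((x : QC) : C) : J), hw x x.2⟩ : ({1, z, w, w * z} : Finset J))) := by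
    intro x y hxy
    have h3 : (((x : QC) : C) : J) = (((y : QC) : C) : J) :=
      congrArg (fun v : ({1, z, w, w * z} : Finset J) => (v : J)) hxy
    exact Subtype.ext (Subtype.ext (Subtype.ext h3))
  have h2 := Nat.card_le_card_of_injective _ h1
  rw [Nat.card_eq_fintype_card (α := ({1, z, w, w * z} : Finset J)), Fintype.card_coe] at h2
  exact h2.trans Finset.card_le_four

end Cfsg.Agent.H20.J3C
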