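import Cfsg.Agent.H20_PT

/-!
Subgroups given by a list of elements and a multiplication table by generators.
-/

set_option autoImplicit false

namespace Cfsg.Agent.H20.LG

open Cfsg.Agent.H8.CE (ev ev_nil ev_cons ev_append)
open Cfsg.Agent.H20.PT

/-- list group data -/
structure D {G : Type*} [Group G] (n m : ℕ) (T : ℕ → ℕ → ℕ) (Y : ℕ → G) (R : ℕ → G → Prop) : Prop where
  ext : ∀ i g g', R i g → R i g' → g = g'
  uniq : ∀ i j g, i < n → j < n → R i g → R j g → i = j
  one : R 0 1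
  pos : 0 < n
  lt : ∀ i, i < n → ∀ s, s < m → T i s < n
  step : ∀ i g s, i < n → s < m → R i g → R (T i s) (g * Y s)

/-- check of the paths -/
def pchk (n m : ℕ) (T : ℕ → ℕ → ℕ) (ps : List (List ℕ)) : Bool :=
  (List.range n).all fun i => (ps.getD i []).foldl T 0 == i && (ps.getD i []).all fun s => Nat.blt s m

section
variable {G : Type*} [Group G] {n m : ℕ} {T : ℕ → ℕ → ℕ} {Y : ℕ → G} {R : ℕ → G → Prop}

theorem D.run (h : D n m T Y R) : ∀ (w : List ℕ), (∀ s ∈ w, s < m) → ∀ i g, i < n → R i g →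
    R (w.foldl T i) (g * ev Y w) ∧ w.foldl T i < n
  | [], _, i, g, hi, hR => by rw [ev_nil, mul_one]; exact ⟨hR, hi⟩
  | s :: w, hw, i, g, hi, hR => by
    rw [ev_cons, ← mul_assoc, List.foldl_cons]
    exact h.run w (fun z hz => hw z (by simp [hz])) (T i s) (g * Y s) (h.lt i hi s (hw s (by simp)))
      (h.step i g s hi (hw s (by simp)) hR)

/-- the elements -/
def e (Y : ℕ → G) (ps : List (List ℕ)) (i : ℕ) : G := ev Y (ps.getD i [])

theorem pchk_spec {ps : List (List ℕ)} (hp : pchk n m T ps = true) {i : ℕ} (hi : i < n) :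
    (ps.getD i []).foldl T 0 = i ∧ ∀ s ∈ ps.getD i [], s < m := by
  have h1 := List.all_eq_true.1 hp i (List.mem_range.2 hi)
  rw [Bool.and_eq_true, beq_iff_eq] at h1
  refine ⟨h1.1, fun s hs => ?_⟩
  exact Nat.le_of_ble_eq_true (List.all_eq_true.1 h1.2 s hs)

theorem D.R_e (h : D n m T Y R) {ps : List (List ℕ)} (hp : pchk n m T ps = true) {i : ℕ} (hi : i < n) : R i (e Y ps i) := by
  obtain ⟨h1, h2⟩ := pchk_spec hp hi
  have h3 := (h.run _ h2 0 1 h.pos h.one).1
  rw [h1, one_mul] at h3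
  exact h3

theorem D.e_mul (h : D n m T Y R) {ps : List (List ℕ)} (hp : pchk n m T ps = true) {i j : ℕ} (hi : i < n) (hj : j < n) :
    e Y ps i * e Y ps j = e Y ps ((ps.getD j []).foldl T i) ∧ (ps.getD j []).foldl T i < n := by
  obtain ⟨_, h2⟩ := pchk_spec hp hj
  obtain ⟨h3, h4⟩ := h.run _ h2 i _ hi (h.R_e hp hi)
  exact ⟨h.ext _ _ _ h3 (h.R_e hp h4), h4⟩

theorem D.e_inj (h : D n m T Y R) {ps : List (List ℕ)} (hp : pchk n m T ps = true) {i j : ℕ} (hi : i < n) (hj : j < n)
    (he : e Y ps i = e Y ps j) : i = j := by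
  have h1 := h.R_e hp hi
  rw [he] at h1
  exact h.uniq _ _ _ hi hj h1 (h.R_e hp hj)

theorem D.e_zero (h : D n m T Y R) {ps : List (List ℕ)} (hp : pchk n m T ps = true) : e Y ps 0 = 1 :=
  h.ext _ _ _ (h.R_e hp h.pos) h.one

/-- the subgroup -/
def cl (Y : ℕ → G) (m : ℕ) : Subgroup G := Subgroup.closure (Y '' {s | s < m})

theorem Y_mem {s : ℕ} (hs : s < m) : Y s ∈ cl Y m := Subgroup.subset_closure ⟨s, hs, rfl⟩

theorem e_mem {ps : List (List ℕ)} (hp : pchk n m T ps = true) {i : ℕ} (hi : i < n) : e Y ps i ∈ cl Y m := by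
  obtain ⟨_, h2⟩ := pchk_spec hp hi
  unfold e
  generalize ps.getD i [] = w at h2
  induction w with
  | nil => rw [ev_nil]; exact one_mem _
  | cons s w ih =>
    rw [ev_cons]
    exact mul_mem (Y_mem (h2 s (by simp))) (ih (fun z hz => h2 z (by simp [hz])))

theorem D.all [Finite G] (h : D n m T Y R) {ps : List (List ℕ)} (hp : pchk n m T ps = true) {g : G} (hg : g ∈ cl Y m) :
    ∃ i, i < n ∧ g = e Y ps i := by
  have key : ∃ i, i < n ∧ R i g := by
    have step : ∀ x ∈ Y '' {s | s < m}, ∀ s : G, (∃ i, i < n ∧ R i s) → ∃ i, i < n ∧ R i (s * x) := by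
      rintro x ⟨j, hj, rfl⟩ s ⟨i, hi, he⟩
      exact ⟨_, h.lt i hi j hj, h.step i s j hi hj he⟩
    unfold cl at hg
    induction hg using Subgroup.closure_induction_right with
    | one => exact ⟨0, h.pos, h.one⟩
    | mul_right a ha x hx ih => exact step x hx a ih
    | mul_inv_cancel a ha x hx ih =>
      have hp : ∀ j : ℕ, ∃ i, i < n ∧ R i (a * x ^ j) := by
        intro j
        induction j with
        | zero => rw [pow_zero, mul_one]; exact ih
        | succ j ihj => rw [pow_succ, ← mul_assoc]; exact step x hx _ ihj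
      have hx1 : x⁻¹ = x ^ (orderOf x - 1) := by
        have h1 : 0 < orderOf x := orderOf_pos x
        rw [inv_eq_iff_mul_eq_one, ← pow_succ', Nat.sub_add_cancel h1, pow_orderOf_eq_one]
      rw [hx1]
      exact hp _
  obtain ⟨i, hi, hR⟩ := key
  exact ⟨i, hi, h.ext _ _ _ hR (h.R_e hp hi)⟩

theorem D.card [Finite G] (h : D n m T Y R) {ps : List (List ℕ)} (hp : pchk n m T ps = true) : Nat.card (cl Y m) = n := by
  let F : Fin n → cl Y m := fun i => ⟨e Y ps i, e_mem hp i.2⟩
  have hF : Function.Bijective F := by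
    constructor
    · intro i j hij
      exact Fin.ext (h.e_inj hp i.2 j.2 (congrArg Subtype.val hij))
    · rintro ⟨s, hs⟩
      obtain ⟨i, hi, rfl⟩ := h.all hp hs
      exact ⟨⟨i, hi⟩, rfl⟩
  rw [← Nat.card_congr (Equiv.ofBijective F hF), Nat.card_fin]

/-- the multiplication on indices -/
def mi (T : ℕ → ℕ → ℕ) (ps : List (List ℕ)) (i j : ℕ) : ℕ := (ps.getD j []).foldl T i

theorem D.mul (h : D n m T Y R) {ps : List (List ℕ)} (hp : pchk n m T ps = true) {i j : ℕ} (hi : i < n) (hj : j < n) :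
    e Y ps i * e Y ps j = e Y ps (mi T ps i j) := (h.e_mul hp hi hj).1

theorem D.mi_lt (h : D n m T Y R) {ps : List (List ℕ)} (hp : pchk n m T ps = true) {i j : ℕ} (hi : i < n) (hj : j < n) :
    mi T ps i j < n := (h.e_mul hp hi hj).2

end

/-! ### Instances from tables -/

section
variable {G : Type*} [Group G] {N k m : ℕ} {φ : G →* Equiv.Perm (Fin N)} {X : ℕ → G} {tf : ℕ → ℕ}

/-- the table as a function -/
def tf' (T : List (List ℕ)) (i s : ℕ) : ℕ := (T.getD i []).getD s 0

theorem ofTab (h : TC φ X k m tf) {b : Fin N × Fin N × Fin N} (hb : Base φ b) {gs : List (List ℕ)} {Ds : List T3}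
    {T : List (List ℕ)} (hK : lgK k m tf gs Ds T = true) (hl : 0 < Ds.length) (h0 : Ds.getD 0 (.mk 0 0 0) = bT b) (hnd : Ds.Nodup) :
    D Ds.length gs.length (tf' T) (fun s => ev X (gs.getD s [])) (fun i g => El φ b (Ds.getD i (.mk 0 0 0)) g) where
  ext := fun _ _ _ h1 h2 => El.ext hb h1 h2
  uniq := by
    intro i j g hi hj h1 h2
    have h3 := h1.uniq h2
    rw [List.getD_eq_getElem _ _ hi, List.getD_eq_getElem _ _ hj] at h3
    exact (List.Nodup.getElem_inj_iff hnd).1 h3
  one := by rw [h0]; exact El.one b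
  pos := hl
  lt := by
    intro i hi s hs
    have h5 := List.all_eq_true.1 (List.all_eq_true.1 hK _ (List.mem_range.2 hi)) _ (List.mem_range.2 hs)
    rw [Bool.and_eq_true] at h5
    exact Nat.le_of_ble_eq_true h5.1
  step := by
    intro i g s hi hs hR
    have h5 := List.all_eq_true.1 (List.all_eq_true.1 hK _ (List.mem_range.2 hi)) _ (List.mem_range.2 hs)
    rw [Bool.and_eq_true] at h5
    exact hR.mul h h5.2

end

end Cfsg.Agent.H20.LG
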