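import Cfsg.Agent.H20_J3P
import Cfsg.Agent.H20_LG

/-!
Data for the involution centralizer of J3.
-/

set_option autoImplicit false
set_option maxRecDepth 1000000

namespace Cfsg.Agent.H20.J3D

open Cfsg.Agent.H20 Cfsg.Agent.H20.PT Cfsg.Agent.H20.J3P Cfsg.Agent.H20.LG

def gsQ : List (List ℕ) := [[2, 1, 3, 1, 2, 1, 2, 1, 2, 1, 3, 1, 2, 1, 3, 1, 2, 1, 3, 1, 3, 1, 3, 1, 2, 1, 3],
  [3, 1, 2, 1, 3, 1, 3, 1, 3, 1, 2, 1, 3, 1, 2, 1, 3, 1, 2, 1, 2, 1, 2, 1, 3, 1, 2],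
  [3, 1, 2, 1, 3, 1, 2, 1, 3, 1, 3, 1, 3, 1, 2, 1, 2, 1, 3, 1, 2, 1, 2, 1, 2, 1, 2, 1, 3, 1, 2, 1, 2, 1, 3, 1, 3, 1, 3, 1, 2, 1, 3, 1, 2, 1, 3],
  [2, 1, 3, 1, 3, 1, 2, 1, 2, 1, 2, 1, 3, 1, 3, 1, 2, 1, 2, 1, 2, 1, 3, 1, 2, 1, 3, 1, 3, 1, 3, 1, 3, 1, 2, 1, 2, 1, 2, 1, 3, 1, 3, 1, 3, 1, 2, 1, 3, 1, 3]]

def DQ : List T3 := [.mk 0 4116 1, .mk 483 2140 5276, .mk 649 1945 3435, .mk 48 2773 2363, .mk 483 2058 5024, .mk 48 2997 1509, .mk 649 1984 3759, .mk 0 5553 64, .mk 48 3126 1504, .mk 483 2037 4868, .mk 48 3259 1449, .mk 0 4117 2, .mk 649 1599 2819, .mk 649 1522 2859, .mk 649 1771 3564, .mk 0 5998 67, .mk 649 2725 3890, .mk 483 2382 5616, .mk 48 3308 2270, .mk 48 3130 2496, .mk 0 5893 82, .mk 649 2619 3973, .mk 0 5510 12, .mk 0 5353 13, .mk 48 2788 2583, .mk 483 2294 4737, .mk 483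 2271 5174, .mk 48 3094 1427, .mk 483 2222 5308, .mk 483 1989 5239, .mk 649 1801 3853, .mk 0 5401 50]

def TQ : List (List ℕ) := [[1, 2, 3, 4], [0, 5, 6, 7], [8, 0, 9, 10], [6, 9, 11, 12], [7, 10, 13, 11], [14, 1, 15, 16], [3, 15, 17, 18], [4, 16, 19, 17], [2, 17, 20, 21], [20, 3, 14, 22], [21, 4, 23, 14], [17, 14, 24, 25], [18, 22, 4, 24], [19, 23, 25, 3], [5, 11, 26, 27], [26, 6, 8, 28], [27, 7, 29, 8], [11, 8, 30, 31], [12, 28, 7, 30], [13, 29, 31, 6], [9, 30, 5, 29], [10, 31, 28, 5], [29, 12, 10, 26], [28, 13, 27, 9], [30, 26, 0, 13], [31, 27, 12, 0], [15, 24, 2, 23], [16, 25, 22, 2], [23, 18, 16, 20], [22, 19, 21, 15], [24, 20, 1, 19], [25, 21, 18, 1]]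

def psQ : List (List ℕ) := [[], [0], [1], [2], [3], [0, 1], [0, 2], [0, 3], [1, 0], [1, 2], [1, 3], [2, 2], [2, 3], [3, 2], [0, 1, 0], [0, 1, 2], [0, 1, 3], [0, 2, 2], [0, 2, 3], [0, 3, 2], [1, 0, 2], [1, 0, 3], [1, 2, 3], [1, 3, 2], [2, 2, 2], [2, 2, 3], [0, 1, 0, 2], [0, 1, 0, 3], [0, 1, 2, 3], [0, 1, 3, 2], [0, 2, 2, 2], [0, 2, 2, 3]]

theorem kQ : lgK (nat_lit 13) (nat_lit 8191) tf gsQ DQ TQ = true := by decide +kernel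

theorem ndQ : DQ.Nodup := by decide +kernel

theorem pkQ : pchk 32 4 (tf' TQ) psQ = true := by decide +kernel

def gsH : List (List ℕ) := [[3, 1, 2, 1, 2, 1, 3, 1, 3, 1, 2, 1, 2, 1, 2, 1, 2, 1, 3, 1, 3, 1, 3, 1, 3, 1, 2, 1, 2, 1, 3, 1, 3, 1, 2],
  [1, 3, 1, 2, 1, 3, 1, 2, 1, 3, 1, 2, 1, 3, 1, 2, 1, 3]]

def DH : List T3 := [.mk 0 4116 1, .mk 6144 4211 4155, .mk 15 176 2234, .mk 3229 701 4566, .mk 2743 1595 514, .mk 11 1898 1339, .mk 3847 601 3820, .mk 1442 3534 4195, .mk 203 2427 2968, .mk 3873 5066 3748, .mk 2653 1214 1569, .mk 2767 1591 960, .mk 203 3075 1498, .mk 2954 1091 5154, .mk 2634 281 3697, .mk 3012 771 5934, .mk 99 3472 1664, .mk 2460 2079 5572, .mk 2954 4291 200, .mk 150 2798 3992, .mk 2254 3379 5866, .mk 205 874 4323, .mk 1490 4438 5729, .mk 48 3126 2321, .mk 4559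 372 1366, .mk 150 1166 5855, .mk 2743 3875 4299, .mk 2767 5009 3115, .mk 4559 6059 3376, .mk 4419 426 1354, .mk 75 1838 3784, .mk 3524 6065 3031, .mk 15 1810 3124, .mk 1442 2737 4794, .mk 2460 3414 5703, .mk 3524 605 2766, .mk 4028 4278 3454, .mk 1985 411 2759, .mk 33 2381 1106, .mk 2254 1884 277, .mk 11 3933 4112, .mk 6144 5566 500, .mk 33 3345 3056, .mk 1985 1312 2819, .mk 6153 6150 533, .mk 2634 725 3220, .mk 3873 522 4806, .mk 0 5709 85, .mk 3229 5085 3173, .mk 48 3247 2118, .mk 75 181 1601, .mk 6153 5235 5820, .mk 4028 2360 942, .mk 205 3312 3892, .mk 3847 4792 3653, .mk 99 2652 2909, .mk 4419 5781 4062, .mk 1490 973 2721, .mk 2653 5279 4189, .mk 3012 4545 98]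

def TH : List (List ℕ) := [[1, 2], [0, 3], [4, 5], [6, 7], [2, 8], [9, 0], [3, 10], [11, 1], [12, 13], [5, 14], [15, 16], [7, 17], [8, 18], [19, 4], [20, 21], [10, 22], [23, 6], [24, 25], [25, 26], [13, 27], [14, 28], [22, 9], [21, 29], [16, 30], [17, 31], [18, 11], [32, 12], [33, 34], [34, 35], [36, 15], [37, 38], [38, 39], [26, 40], [27, 41], [28, 19], [42, 20], [29, 43], [30, 44], [31, 23], [45, 24], [46, 47], [47, 48], [35, 49], [50, 51], [51, 52], [39, 53], [40, 45], [41, 32], [54, 33], [55, 50], [43, 42], [44, 36], [56, 37], [57, 46], [48, 58], [49, 54], [52, 59], [53, 56], [59, 55], [58, 57]]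

def psH : List (List ℕ) := [[], [0], [1], [0, 1], [1, 0], [1, 1], [0, 1, 0], [0, 1, 1], [1, 0, 1], [1, 1, 0], [0, 1, 0, 1], [0, 1, 1, 0], [1, 0, 1, 0], [1, 0, 1, 1], [1, 1, 0, 1], [0, 1, 0, 1, 0], [0, 1, 0, 1, 1], [0, 1, 1, 0, 1], [1, 0, 1, 0, 1], [1, 0, 1, 1, 0], [1, 1, 0, 1, 0], [1, 1, 0, 1, 1], [0, 1, 0, 1, 0, 1], [0, 1, 0, 1, 1, 0], [0, 1, 1, 0, 1, 0], [0, 1, 1, 0, 1, 1], [1, 0, 1, 0, 1, 1], [1, 0, 1, 1, 0, 1], [1, 1, 0, 1, 0, 1], [0, 1, 0, 1, 0, 1, 1], [0, 1, 0, 1, 1, 0, 1], [0, 1, 1, 0, 1, 0, 1], [1, 0, 1, 0, 1, 1, 0], [1, 0, 1, 1, 0, 1, 0], [1, 0, 1, 1, 0, 1, 1], [1, 1, 0, 1, 0, 1, 1], [0, 1, 0, 1, 0, 1, 1, 0], [0, 1, 0, 1, 1, 0, 1, 0], [0, 1, 0, 1, 1, 0, 1, 1], [0, 1, 1, 0, 1, 0, 1, 1], [1, 0, 1, 0, 1, 1, 0, 1], [1, 0, 1, 1, 0, 1, 0, 1], [1, 1, 0, 1, 0, 1, 1, 0], [0,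 1, 0, 1, 0, 1, 1, 0, 1], [0, 1, 0, 1, 1, 0, 1, 0, 1], [0, 1, 1, 0, 1, 0, 1, 1, 0], [1, 0, 1, 0, 1, 1, 0, 1, 0], [1, 0, 1, 0, 1, 1, 0, 1, 1], [1, 0, 1, 1, 0, 1, 0, 1, 1], [1, 1, 0, 1, 0, 1, 1, 0, 1], [0, 1, 0, 1, 0, 1, 1, 0, 1, 0], [0, 1, 0, 1, 0, 1, 1, 0, 1, 1], [0, 1, 0, 1, 1, 0, 1, 0, 1, 1], [0, 1, 1, 0, 1, 0, 1, 1, 0, 1], [1, 0, 1, 1, 0, 1, 0, 1, 1, 0], [1, 1, 0, 1, 0, 1, 1, 0, 1, 0], [0, 1, 0, 1, 1, 0, 1, 0, 1, 1, 0], [0, 1, 1, 0, 1, 0, 1, 1, 0, 1, 0], [1, 0, 1, 1, 0, 1, 0, 1, 1, 0, 1], [0, 1, 0, 1, 1, 0, 1, 0, 1, 1, 0, 1]]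

theorem kH : lgK (nat_lit 13) (nat_lit 8191) tf gsH DH TH = true := by decide +kernel

theorem ndH : DH.Nodup := by decide +kernel

theorem pkH : pchk 60 2 (tf' TH) psH = true := by decide +kernel

def gsP : List (List ℕ) := [[2, 1, 3, 1, 2, 1, 2, 1, 2, 1, 3, 1, 2, 1, 3, 1, 2, 1, 3, 1, 3, 1, 3, 1, 2, 1, 3],
  [3, 1, 2, 1, 3, 1, 3, 1, 3, 1, 2, 1, 3, 1, 2, 1, 3, 1, 2, 1, 2, 1, 2, 1, 3, 1, 2],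
  [3, 1, 2, 1, 3, 1, 2, 1, 3, 1, 3, 1, 3, 1, 2, 1, 2, 1, 3, 1, 2, 1, 2, 1, 2, 1, 2, 1, 3, 1, 2, 1, 2, 1, 3, 1, 3, 1, 3, 1, 2, 1, 3, 1, 2, 1, 3],
  [2, 1, 3, 1, 3, 1, 2, 1, 2, 1, 2, 1, 3, 1, 3, 1, 2, 1, 2, 1, 2, 1, 3, 1, 2, 1, 3, 1, 3, 1, 3, 1, 3, 1, 2, 1, 2, 1, 2, 1, 3, 1, 3, 1, 3, 1, 2, 1, 3, 1, 3],
  [2, 1, 2, 1, 3, 1, 2, 1, 3, 1, 3, 1, 3, 1, 2, 1, 2, 1, 3, 1, 3, 1, 2, 1, 2, 1, 2, 1, 3, 1, 2, 1, 3, 1, 3],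
  [3, 1, 2, 1, 2, 1, 3, 1, 2, 1, 3, 1, 2, 1, 3, 1, 2, 1, 2, 1, 3, 1, 2, 1, 3, 1, 3, 1, 2, 1, 2, 1, 2, 1, 3, 1, 3, 1, 2]]

def DP : List T3 := [.mk 0 4116 1, .mk 483 2140 5276, .mk 649 1945 3435, .mk 48 2773 2363, .mk 483 2058 5024, .mk 3229 5085 3173, .mk 4559 372 1366, .mk 48 2997 1509, .mk 649 1984 3759, .mk 0 5553 64, .mk 4070 4295 4331, .mk 4359 535 946, .mk 48 3126 1504, .mk 483 2037 4868, .mk 48 3259 1449, .mk 3617 6091 3480, .mk 121 1294 4917, .mk 0 4117 2, .mk 649 1599 2819, .mk 3847 5314 3931, .mk 205 1602 3708, .mk 649 1522 2859, .mk 4070 1538 756, .mk 4359 472 756, .mk 3617 1343 5462, .mk 3229 4605 4815, .mk 3229 1677 882, .mk 3847 1191 5251, .mk 1985 1312 2819, .mk 4559 5082 5124, .mk 121 1345 5462, .mk 205 2452 3279, .mk 4559 5202 4449, .mk 649 1771 3564, .mk 0 5998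 67, .mk 649 2725 3890, .mk 3847 5095 4493, .mk 205 888 6012, .mk 483 2382 5616, .mk 48 3308 2270, .mk 3617 5132 5448, .mk 121 1431 3916, .mk 48 3130 2496, .mk 3229 778 4121, .mk 4559 231 1262, .mk 3847 2666 1262, .mk 4070 5961 3688, .mk 4070 1233 6124, .mk 3617 2052 1366, .mk 1895 2320 13, .mk 4359 4992 5448, .mk 205 1064 4128, .mk 121 2513 3173, .mk 4359 4391 4363, .mk 0 5893 82, .mk 649 2619 3973, .mk 3847 4792 4363, .mk 205 874 6124, .mk 0 5510 12, .mk 4070 6009 3916, .mk 0 5353 13, .mk 3847 2615 1137, .mk 4070 1108 6012, .mk 2677 1929 2496, .mk 121 1458 3688, .mk 4559 220 1137, .mk 4359 4533 4493, .mk 48 2788 2583, .mk 483 2294 4737, .mk 3229 4782 3367, .mk 4559 449 1321, .mk 3229 751 4128, .mk 2743 2442 2583, .mk 205 1053 4121, .mk 3617 1850 1321, .mk 121 2549 3367, .mk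 1895 3361 5024, .mk 3617 5480 5096, .mk 2677 1197 3890, .mk 1985 2122 82, .mk 1985 3474 5616, .mk 2743 991 3564, .mk 2677 1853 2270, .mk 1895 2506 12, .mk 1985 1932 67, .mk 4359 4714 5096, .mk 2677 1256 3973, .mk 483 2271 5174, .mk 48 3094 1427, .mk 3617 5926 3279, .mk 121 1186 5251, .mk 483 2222 5308, .mk 3229 4841 5124, .mk 483 1989 5239, .mk 3617 1338 5774, .mk 3229 1820 946, .mk 2743 3802 5239, .mk 205 1524 3931, .mk 4359 534 738, .mk 4559 5549 4331, .mk 649 1801 3853, .mk 0 5401 50, .mk 4070 4398 4449, .mk 4359 442 882, .mk 4070 1620 738, .mk 2677 4084 4868, .mk 121 1264 5774, .mk 3847 1136 4917, .mk 205 2642 3480, .mk 1985 2708 1427, .mk 3847 5248 3708, .mk 2743 2740 64, .mk 1895 1009 3853, .mk 1895 1885 1504, .mk 2677 1902 1, .mk 2743 3875 5308, .mk 1985 1210 2859, .mk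 1895 1122 3759, .mk 4559 5434 4815, .mk 2743 2742 50, .mk 1895 1828 1509, .mk 2677 4021 5174, .mk 1985 2736 1449, .mk 2677 2115 2, .mk 1985 3260 5276, .mk 2743 2638 2363, .mk 1895 3168 4737, .mk 2743 1104 3435]

def TP : List (List ℕ) := [[1, 2, 3, 4, 5, 6], [0, 7, 8, 9, 10, 11], [12, 0, 13, 14, 15, 16], [8, 13, 17, 18, 19, 20], [9, 14, 21, 17, 22, 23], [24, 25, 26, 27, 0, 28], [29, 30, 31, 32, 28, 0], [33, 1, 34, 35, 36, 37], [3, 34, 38, 39, 40, 41], [4, 35, 42, 38, 43, 44], [45, 46, 47, 48, 1, 49], [50, 51, 52, 53, 49, 1], [2, 38, 54, 55, 56, 57], [54, 3, 33, 58, 59, 50], [55, 4, 60, 33, 61, 51], [43, 40, 48, 62, 2, 63], [64, 65, 66, 52, 63, 2], [38, 33, 67, 68, 69, 70], [39, 58, 4, 67, 48, 52], [62, 36, 45, 71, 3, 72], [57, 53, 65, 73, 72, 3], [42, 60, 68, 3, 74, 75], [36,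 47, 59, 40, 4, 76], [66, 57, 41, 50, 76, 4], [5, 48, 77, 59, 55, 78], [74, 5, 43, 45, 54, 79], [77, 43, 69, 36, 58, 80], [59, 45, 56, 69, 39, 81], [82, 83, 76, 72, 6, 5], [6, 75, 51, 65, 84, 34], [52, 6, 85, 41, 86, 35], [51, 85, 70, 57, 81, 39], [65, 41, 37, 70, 80, 58], [7, 17, 87, 88, 89, 90], [87, 8, 12, 91, 92, 29], [88, 9, 93, 12, 94, 30], [22, 19, 27, 95, 7, 96], [97, 98, 99, 31, 96, 7], [17, 12, 100, 101, 102, 103], [18, 91, 9, 100, 27, 31], [95, 15, 24, 104, 8, 105], [90, 32, 98, 106, 105, 8], [21, 93, 101, 8, 107, 108], [15, 26, 92, 19, 9, 109], [99, 90, 20, 29, 109, 9], [10, 27, 110, 92, 88, 111], [107, 10, 22, 24, 87, 112], [110, 22, 102, 15, 91, 113], [92, 24, 89, 102, 18, 114], [115, 116, 109, 105, 11, 10], [11, 108, 30, 98, 117, 13], [31, 11, 118, 20, 119, 14],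 [30, 118, 103, 90, 114, 18], [98, 20, 16, 103, 113, 91], [13, 100, 7, 93, 25, 118], [14, 101, 91, 7, 24, 106], [104, 110, 107, 26, 12, 115], [20, 23, 32, 108, 115, 12], [93, 18, 14, 87, 26, 32], [27, 102, 104, 94, 13, 117], [91, 21, 88, 13, 95, 99], [102, 107, 19, 25, 14, 119], [19, 104, 10, 89, 93, 120], [116, 96, 119, 117, 16, 15], [16, 99, 23, 30, 121, 100], [32, 16, 97, 118, 122, 101], [23, 97, 90, 11, 120, 93], [100, 87, 0, 21, 110, 97], [101, 88, 18, 0, 104, 98], [94, 92, 95, 107, 17, 116], [118, 106, 108, 99, 116, 17], [89, 95, 25, 110, 101, 122], [112, 121, 114, 116, 20, 19], [108, 103, 29, 97, 111, 88], [25, 94, 15, 10, 21, 123], [106, 29, 11, 16, 123, 21], [111, 122, 116, 123, 23, 22], [26, 89, 94, 22, 100, 121], [109, 111, 96, 113, 106, 24], [105, 112, 120, 96, 118,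 25], [123, 113, 112, 119, 32, 26], [120, 123, 121, 109, 31, 27], [28, 115, 111, 112, 90, 89], [96, 28, 122, 121, 103, 102], [121, 117, 113, 115, 29, 92], [103, 31, 106, 23, 112, 87], [122, 119, 115, 120, 30, 94], [34, 67, 2, 60, 46, 85], [35, 68, 58, 2, 45, 73], [71, 77, 74, 47, 33, 82], [41, 44, 53, 75, 82, 33], [60, 39, 35, 54, 47, 53], [48, 69, 71, 61, 34, 84], [58, 42, 55, 34, 62, 66], [69, 74, 40, 46, 35, 86], [40, 71, 5, 56, 60, 124], [83, 63, 86, 84, 37, 36], [37, 66, 44, 51, 125, 67], [53, 37, 64, 85, 126, 68], [44, 64, 57, 6, 124, 60], [67, 54, 1, 42, 77, 64], [68, 55, 39, 1, 71, 65], [61, 59, 62, 74, 38, 83], [85, 73, 75, 66, 83, 38], [56, 62, 46, 77, 68, 126], [79, 125, 81, 83, 41, 40], [75, 70, 50, 64, 78, 55], [46, 61, 36, 5, 42, 127], [73, 50, 6, 37, 127, 42], [78,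 126, 83, 127, 44, 43], [47, 56, 61, 43, 67, 125], [76, 78, 63, 80, 73, 45], [72, 79, 124, 63, 85, 46], [127, 80, 79, 86, 53, 47], [124, 127, 125, 76, 52, 48], [49, 82, 78, 79, 57, 56], [63, 49, 126, 125, 70, 69], [125, 84, 80, 82, 50, 59], [70, 52, 73, 44, 79, 54], [126, 86, 82, 124, 51, 61], [81, 124, 84, 78, 66, 62], [84, 72, 127, 49, 64, 77], [86, 76, 49, 81, 65, 71], [80, 81, 72, 126, 75, 74], [114, 120, 117, 111, 99, 95], [117, 105, 123, 28, 97, 110], [119, 109, 28, 114, 98, 104], [113, 114, 105, 122, 108, 107]]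

def psP : List (List ℕ) := [[], [0], [1], [2], [3], [4], [5], [0, 1], [0, 2], [0, 3], [0, 4], [0, 5], [1, 0], [1, 2], [1, 3], [1, 4], [1, 5], [2, 2], [2, 3], [2, 4], [2, 5], [3, 2], [3, 4], [3, 5], [4, 0], [4, 1], [4, 2], [4, 3], [4, 5], [5, 0], [5, 1], [5, 2], [5, 3], [0, 1, 0], [0, 1, 2], [0, 1, 3], [0, 1, 4], [0, 1, 5], [0, 2, 2], [0, 2, 3], [0, 2, 4], [0, 2, 5], [0, 3, 2], [0, 3, 4], [0, 3, 5], [0, 4, 0], [0, 4, 1], [0, 4, 2], [0, 4, 3], [0, 4, 5], [0, 5, 0], [0, 5, 1], [0, 5, 2], [0, 5, 3], [1, 0, 2], [1, 0, 3], [1, 0, 4], [1, 0, 5], [1, 2, 3], [1, 2, 4], [1, 3, 2], [1, 3, 4], [1, 4, 3], [1, 4, 5], [1, 5, 0], [1, 5, 1], [1, 5, 2], [2, 2, 2], [2, 2, 3], [2, 2, 4], [2, 2, 5], [2, 4, 3], [2, 4, 5], [2, 5, 3], [3, 2, 4], [3, 2, 5], [3, 4, 5], [4, 0, 2], [4, 0, 5], [4, 1, 5],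 [4, 2, 5], [4, 3, 5], [4, 5, 0], [4, 5, 1], [5, 0, 4], [5, 1, 2], [5, 1, 4], [0, 1, 0, 2], [0, 1, 0, 3], [0, 1, 0, 4], [0, 1, 0, 5], [0, 1, 2, 3], [0, 1, 2, 4], [0, 1, 3, 2], [0, 1, 3, 4], [0, 1, 4, 3], [0, 1, 4, 5], [0, 1, 5, 0], [0, 1, 5, 1], [0, 1, 5, 2], [0, 2, 2, 2], [0, 2, 2, 3], [0, 2, 2, 4], [0, 2, 2, 5], [0, 2, 4, 3], [0, 2, 4, 5], [0, 2, 5, 3], [0, 3, 2, 4], [0, 3, 2, 5], [0, 3, 4, 5], [0, 4, 0, 2], [0, 4, 0, 5], [0, 4, 1, 5], [0, 4, 2, 5], [0, 4, 3, 5], [0, 4, 5, 0], [0, 4, 5, 1], [0, 5, 0, 4], [0, 5, 1, 2], [0, 5, 1, 4], [1, 4, 3, 5], [1, 5, 0, 4], [1, 5, 1, 4], [3, 2, 4, 5], [0, 1, 4, 3, 5], [0, 1, 5, 0, 4], [0, 1, 5, 1, 4], [0, 3, 2, 4, 5]]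

theorem kP : lgK (nat_lit 13) (nat_lit 8191) tf gsP DP TP = true := by decide +kernel

theorem ndP : DP.Nodup := by decide +kernel

theorem pkP : pchk 128 6 (tf' TP) psP = true := by decide +kernel

def zi : ℕ := 11

def norm : List (ℕ × ℕ × ℕ) := [(0, 0, 28), (0, 1, 2), (0, 2, 26), (0, 3, 10), (1, 0, 21), (1, 1, 17), (1, 2, 18), (1, 3, 4)]

def fus : List (ℕ × List ℕ) := [(1, [2, 1, 2, 1, 2, 1, 3, 1, 3, 1, 3, 1, 3, 1, 2, 1, 3, 1, 2, 1, 2, 1, 3, 1, 3, 1, 2, 1, 3, 1, 3, 1, 2, 1, 3, 1, 2, 1, 3, 1, 3, 1, 3, 1]),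
  (2, [1, 2, 1, 3, 1, 2, 1, 2, 1, 2, 1, 2, 1, 3, 1, 2, 1, 2, 1, 3, 1, 2, 1, 3, 1, 2, 1, 2, 1, 3, 1, 3, 1, 3, 1, 3, 1, 3, 1, 2]),
  (5, [2, 1, 2, 1, 3, 1, 2, 1, 2, 1, 3, 1, 2, 1, 2, 1, 3, 1, 2, 1, 2, 1, 3, 1, 3, 1, 2, 1, 2, 1, 3, 1, 3]),
  (6, [2, 1, 3, 1, 2, 1, 2, 1, 3, 1, 2, 1, 2, 1, 2, 1, 3, 1, 2, 1, 3, 1, 2, 1, 2, 1, 2, 1, 3, 1, 2, 1, 2, 1, 2, 1, 3, 1, 2, 1, 3, 1, 2]),
  (17, []),
  (28, [3, 1, 3, 1, 3, 1, 2, 1, 2, 1, 3, 1, 2, 1, 3, 1, 2, 1, 3, 1, 2, 1, 3, 1, 3, 1, 2, 1, 2, 1, 3, 1, 2, 1, 3, 1, 3, 1, 2, 1, 3, 1, 3]),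
  (33, [2, 1, 3, 1, 2, 1, 2, 1, 3, 1, 3, 1, 2, 1, 3, 1, 2, 1, 3, 1, 3, 1, 2, 1, 2, 1, 3, 1, 3, 1, 2, 1, 3, 1, 3]),
  (34, [1, 2, 1, 2, 1, 3, 1, 2, 1, 3, 1, 2, 1, 2, 1, 3, 1, 2, 1, 3, 1, 3, 1, 2, 1, 2, 1, 3, 1, 2, 1, 2, 1, 2, 1, 2, 1, 3, 1, 3, 1, 2]),
  (35, [3, 1, 3, 1, 2, 1, 3, 1, 2, 1, 2, 1, 2, 1, 3, 1, 3, 1, 2, 1, 3, 1, 2, 1, 2, 1, 2, 1, 3, 1, 2, 1, 3, 1, 3, 1]),
  (38, [2, 1, 3, 1, 2, 1, 3, 1, 3, 1, 2, 1, 2, 1, 2, 1, 2, 1, 2, 1, 3, 1, 3, 1, 3, 1, 2, 1, 3, 1, 2, 1, 3, 1, 3, 1, 2, 1, 3, 1, 3, 1]),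
  (40, [2, 1, 3, 1, 3, 1, 3, 1, 2, 1, 3, 1, 3, 1, 2, 1, 2, 1, 2, 1, 2, 1, 2, 1, 2, 1, 3, 1, 2, 1, 3, 1, 3, 1, 2, 1, 3, 1, 3, 1]),
  (44, [1, 2, 1, 3, 1, 3, 1, 2, 1, 2, 1, 3, 1, 3, 1, 3, 1, 3, 1, 3, 1, 3, 1, 3, 1, 2, 1, 3, 1, 3, 1, 2, 1, 2, 1, 3, 1, 3, 1, 3, 1, 3, 1, 3, 1]),
  (45, [1, 3, 1, 2, 1, 2, 1, 2, 1, 2, 1, 3, 1, 2, 1, 3, 1, 2, 1, 3, 1, 3, 1, 2, 1, 3, 1, 2, 1, 2, 1, 2, 1, 2, 1, 3, 1, 2]),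
  (47, [3, 1, 3, 1, 3, 1, 3, 1, 2, 1, 2, 1, 2, 1, 3, 1, 2, 1, 3, 1, 3, 1, 2, 1, 2, 1, 3, 1, 2, 1, 2, 1, 3, 1, 2, 1, 3, 1, 2]),
  (50, [1, 3, 1, 2, 1, 2, 1, 2, 1, 2, 1, 3, 1, 2, 1, 2, 1, 2, 1, 3, 1, 3, 1, 2, 1, 3, 1, 3, 1, 3, 1, 2, 1, 2, 1, 2, 1, 3, 1, 3]),
  (53, [3, 1, 3, 1, 2, 1, 3, 1, 3, 1, 3, 1, 2, 1, 2, 1, 2, 1, 3, 1, 2, 1, 2, 1, 3, 1, 3, 1, 3, 1, 3, 1, 2, 1, 3, 1, 3]),
  (54, [1, 2, 1, 2, 1, 3, 1, 2, 1, 2, 1, 3, 1, 3, 1, 3, 1, 3, 1, 3, 1, 2, 1, 2, 1, 3, 1, 3, 1, 3, 1, 2, 1, 2, 1, 2, 1, 3, 1, 3, 1, 2]),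
  (55, [3, 1, 3, 1, 2, 1, 3, 1, 3, 1, 3, 1, 2, 1, 3, 1, 3, 1, 3, 1, 3, 1, 2, 1, 3, 1, 3, 1, 3, 1, 3]),
  (61, [3, 1, 2, 1, 3, 1, 2, 1, 3, 1, 2, 1, 2, 1, 3, 1, 3, 1, 2, 1, 3, 1, 3, 1, 3, 1, 3, 1, 2, 1, 2, 1, 2, 1, 3, 1, 2, 1, 2]),
  (62, [3, 1, 2, 1, 3, 1, 3, 1, 3, 1, 3, 1, 3, 1, 2, 1, 3, 1, 2, 1, 2, 1, 3, 1, 3, 1, 3, 1, 2, 1, 2, 1, 3, 1, 2, 1, 3, 1, 3, 1]),
  (65, [2, 1, 3, 1, 3, 1, 3, 1, 2, 1, 2, 1, 3, 1, 2, 1, 2, 1, 3, 1, 2, 1, 2, 1, 3, 1, 3, 1, 3, 1, 2]),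
  (66, [3, 1, 2, 1, 3, 1, 2, 1, 3, 1, 3, 1, 2, 1, 2, 1, 2, 1, 3, 1, 2, 1, 3, 1, 2, 1, 3, 1, 3, 1, 2, 1, 2, 1, 3, 1, 3, 1, 3, 1]),
  (69, [3, 1, 3, 1, 3, 1, 3, 1, 2, 1, 2, 1, 3, 1, 2, 1, 2, 1, 2, 1, 3, 1, 2, 1, 3, 1, 3, 1, 2, 1, 2, 1, 3, 1, 3, 1, 2, 1, 2, 1]),
  (70, [1, 3, 1, 2, 1, 2, 1, 3, 1, 3, 1, 2, 1, 2, 1, 3, 1, 3, 1, 2, 1, 2, 1, 2, 1, 2, 1, 2, 1, 2, 1, 3, 1, 2, 1, 3, 1, 3, 1, 2, 1, 3, 1, 3]),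
  (77, [3, 1, 3, 1, 2, 1, 3, 1, 2, 1, 2, 1, 2, 1, 3, 1, 3, 1, 3, 1, 2, 1, 3, 1, 2, 1, 2, 1, 3, 1, 2, 1, 3, 1, 2, 1]),
  (85, [2, 1, 2, 1, 2, 1, 3, 1, 3, 1, 3, 1, 3, 1, 2, 1, 2, 1, 3, 1, 3, 1, 2, 1, 3, 1, 2, 1, 2, 1, 3, 1, 3, 1, 3, 1, 2, 1, 2]),
  (91, [2, 1, 2, 1, 3, 1, 3, 1, 3, 1, 3, 1, 2, 1, 2, 1, 3, 1, 2, 1, 2, 1, 2, 1, 3, 1, 3, 1, 2, 1, 3]),
  (93, [2, 1, 2, 1, 2, 1, 2, 1, 2, 1, 2, 1, 2, 1, 3, 1, 3, 1, 3, 1, 2, 1, 2, 1, 3, 1, 3, 1, 3, 1, 3, 1, 3, 1, 2, 1, 2, 1, 3, 1, 2, 1]),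
  (96, [3, 1, 2, 1, 2, 1, 2, 1, 3, 1, 3, 1, 2, 1, 3, 1, 2, 1, 3, 1, 3, 1, 3, 1, 2, 1, 3, 1, 3, 1, 2, 1, 3, 1, 3, 1, 3, 1, 3, 1, 2, 1]),
  (113, [3, 1, 2, 1, 2, 1, 3, 1, 3, 1, 3, 1, 2, 1, 2, 1, 3, 1, 2, 1, 3, 1, 2, 1, 3, 1, 2, 1, 2, 1, 2, 1, 2, 1, 2, 1]),
  (114, [3, 1, 3, 1, 2, 1, 3, 1, 2, 1, 2, 1, 2, 1, 3, 1, 3, 1, 3, 1, 2, 1, 3, 1, 2, 1, 2, 1, 2, 1, 3, 1, 2, 1, 3]),
  (115, [1, 3, 1, 3, 1, 2, 1, 2, 1, 3, 1, 3, 1, 2, 1, 2, 1, 2, 1, 3, 1, 2, 1, 2, 1, 3, 1, 2, 1, 3, 1, 3]),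
  (116, [1, 2, 1, 2, 1, 2, 1, 3, 1, 3, 1, 2, 1, 3, 1, 3, 1, 3, 1, 2, 1, 3, 1, 2, 1, 3, 1, 3, 1, 2, 1, 2, 1, 2, 1, 3, 1, 3, 1, 2, 1, 3, 1, 3]),
  (120, [2, 1, 2, 1, 2, 1, 3, 1, 3, 1, 3, 1, 3, 1, 3, 1, 2, 1, 3, 1, 2, 1, 3, 1, 3, 1, 2, 1, 2, 1, 2, 1, 3, 1, 3, 1]),
  (123, [3, 1, 2, 1, 2, 1, 3, 1, 2, 1, 2, 1, 3, 1, 2, 1, 2, 1, 2, 1, 2, 1, 2, 1, 3, 1, 2, 1, 3, 1, 2, 1, 3])]

/-- flattened word of an element -/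
def fl (gs ps : List (List ℕ)) (i : ℕ) : List ℕ := (ps.getD i []).flatMap fun s => gs.getD s []

/-- equality check -/
noncomputable def eqb (u w : List ℕ) : Bool := eqP (nat_lit 13) (nat_lit 8191) tf (.mk (nat_lit 0) (nat_lit 4116) (nat_lit 1)) u w

theorem c_z : eqb (fl gsQ psQ zi) [1] = true := by decide +kernel
theorem c_hz : (gsH.all fun h => eqb (h ++ [1]) ([1] ++ h)) = true := by decide +kernel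
theorem c_h1 : eqb (gsH.getD 0 [] ++ gsH.getD 0 []) [] = true := by decide +kernel
theorem c_h2 : eqb (gsH.getD 1 [] ++ (gsH.getD 1 [] ++ gsH.getD 1 [])) [] = true := by decide +kernel
theorem c_h12 : eqb (Cfsg.Agent.H8.Act.powW (gsH.getD 0 [] ++ gsH.getD 1 []) 5) [] = true := by decide +kernel
theorem c_norm : (norm.all fun t => eqb (gsQ.getD t.2.1 [] ++ gsH.getD t.1 []) (gsH.getD t.1 [] ++ fl gsQ psQ t.2.2)) = true := by decide +kernel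
theorem c_fus : (fus.all fun t => eqb (fl gsP psP t.1 ++ t.2) (t.2 ++ [1])) = true := by decide +kernel
theorem c_fus2 : ∀ i < 128, i ≠ 0 → mi (tf' TP) psP i i = 0 → i ∈ fus.map Prod.fst := by decide +kernel
theorem c_int : ∀ i < 32, ∀ j < 60, DQ.getD i (.mk 0 0 0) = DH.getD j (.mk 0 0 0) → i = 0 := by decide +kernel

/-- fixed points of `a` -/
def fixL : List ℕ := [0, 11, 15, 33, 48, 75, 99, 121, 127, 150, 152, 173, 203, 205, 209, 226, 400, 483, 515, 540, 545, 556, 649, 651, 669, 687, 709, 712, 831, 902, 1160, 1248, 1271, 1308, 1349, 1381, 1442, 1490, 1813, 1895, 1985, 2043, 2254, 2311, 2460, 2541, 2634, 2636, 2653, 2677, 2724, 2743, 2767, 2954, 2976, 3012, 3151, 3229, 3353, 3524, 3617, 3834, 3847, 3873, 3907, 4028, 4070, 4104, 4359, 4419, 4470, 4559, 5619, 5766, 6144, 6153]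

/-- check of the fixed points -/
theorem c_fix : Cfsg.Agent.H8.CS.rangeS (nat_lit 6156) (fun p => Bool.rec true (fixL.contains p) (Nat.beq (look (nat_lit 13) (nat_lit 8191) tA p) p))
    (nat_lit 13) (nat_lit 0) = true := by decide +kernel

theorem fix_len : fixL.length = 76 ∧ (fixL.filter fun p => 4116 ≤ p).length = 8 := by decide +kernel

end Cfsg.Agent.H20.J3D
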