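import Cfsg.Agent.H20_J3C3

/-!
Transport of the structure of the involution centralizer of J3.
-/

set_option autoImplicit false

namespace Cfsg.Agent.H20.J3C

open Cfsg.Agent.H20.J3M

/-- the structure -/
def PropY (C : Type*) [Group C] : Prop :=
  ∃ (Q : Subgroup C) (_ : Q.Normal) (z : C), Nat.card Q = 32 ∧ H28.Xsp.Xsp Q z ∧
  (∃ x ∈ Q, ∃ y ∈ Q, x * y ≠ y * x) ∧ (∀ E : Subgroup Q, Cfsg.IsElementaryAbelian 2 E → Nat.card E ≤ 2 ^ 2) ∧
  (∃ H : Subgroup C, Q.IsComplement' H) ∧ Nonempty (C ⧸ Q ≃* alternatingGroup (Fin 5))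

/-- the structure, target form -/
def PropX (C : Type*) [Group C] : Prop :=
  ∃ (Q : Subgroup C) (_ : Q.Normal), Cfsg.IsExtraspecial 2 Q ∧ Nat.card Q = 32 ∧
  (∀ E : Subgroup Q, Cfsg.IsElementaryAbelian 2 E → Nat.card E ≤ 2 ^ 2) ∧
  (∃ H : Subgroup C, Q.IsComplement' H) ∧ Nonempty (C ⧸ Q ≃* alternatingGroup (Fin 5))

theorem propY_X {C : Type*} [Group C] [Finite C] (h : PropY C) : PropX C := by
  obtain ⟨Q, hQ, z, h1, h2, h3, h4, h5, h6⟩ := h
  exact ⟨Q, hQ, h2.isExtraspecial h3, h1, h4, h5, h6⟩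

theorem ea_transport {A B : Type*} [Group A] [Group B] (e : A ≃* B) {n : ℕ}
    (h : ∀ E : Subgroup B, Cfsg.IsElementaryAbelian 2 E → Nat.card E ≤ n) :
    ∀ E : Subgroup A, Cfsg.IsElementaryAbelian 2 E → Nat.card E ≤ n := by
  intro E hE
  obtain ⟨h1, h2⟩ := hE
  have h3 : Nat.card (E.map e.toMonoidHom) = Nat.card E :=
    (Nat.card_congr (e.subgroupMap E).toEquiv).symm
  rw [← h3]
  apply h
  refine ⟨⟨⟨?_⟩⟩, ?_⟩
  · rintro ⟨_, a, ha, rfl⟩ ⟨_, b, hb, rfl⟩
    have h4 : a * b = b * a := congrArg (fun x : E => (x : A)) (h1.is_comm.comm (⟨a, ha⟩ : E) ⟨b, hb⟩)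
    apply Subtype.ext
    show e a * e b = e b * e a
    rw [← map_mul, h4, map_mul]
  · rintro _ ⟨a, ha, rfl⟩
    show e a ^ 2 = 1
    rw [← map_pow, h2 a ha, map_one]

theorem propY_equiv {C D : Type*} [Group C] [Group D] (e : C ≃* D) (h : PropY D) : PropY C := by
  obtain ⟨Q, hQ, z, h1, h2, ⟨x, hx, y, hy, hxy⟩, hE, ⟨H, hH⟩, ⟨q⟩⟩ := h
  have hmap : (Q.comap e.toMonoidHom).map e.toMonoidHom = Q := Subgroup.map_comap_eq_self_of_surjective e.surjective Q
  have hmapH : (H.comap e.toMonoidHom).map e.toMonoidHom = H := Subgroup.map_comap_eq_self_of_surjective e.surjective H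
  refine ⟨Q.comap e.toMonoidHom, inferInstance, e.symm z, ?_, ?_, ⟨e.symm x, ?_, e.symm y, ?_, ?_⟩, ?_, ?_, ⟨?_⟩⟩
  · rw [← h1]
    exact Nat.card_congr ((e.subgroupMap (Q.comap e.toMonoidHom)).trans (MulEquiv.subgroupCongr hmap)).toEquiv
  · have hm : ∀ c : C, c ∈ Q.comap e.toMonoidHom ↔ e c ∈ Q := fun c => Iff.rfl
    refine ⟨?_, ?_, ?_, ?_, ?_, ?_, ?_⟩
    · rw [hm, e.apply_symm_apply]; exact h2.mem
    · intro h
      apply h2.ne
      have := congrArg e h
      rwa [e.apply_symm_apply, map_one] at this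
    · apply e.injective
      rw [map_mul, e.apply_symm_apply, h2.sq, map_one]
    · intro c hc
      apply e.injective
      rw [map_mul, map_mul, e.apply_symm_apply]; exact h2.zc _ hc
    · intro c hc d hd
      rcases h2.comm _ hc _ hd with h | h
      · left; apply e.injective; rw [map_mul, map_mul]; exact h
      · right; apply e.injective; rw [map_mul, map_mul, map_mul, e.apply_symm_apply]; exact h
    · intro c hc
      rcases h2.sqr _ hc with h | h
      · left; apply e.injective; rw [map_mul, map_one]; exact h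
      · right; apply e.injective; rw [map_mul, e.apply_symm_apply]; exact h
    · intro c hc h
      have h3 : ∀ d ∈ Q, e c * d = d * e c := by
        intro d hd
        have h4 := h (e.symm d) (by rw [hm, e.apply_symm_apply]; exact hd)
        have h5 := congrArg e h4
        rwa [map_mul, map_mul, e.apply_symm_apply] at h5
      rcases h2.cen _ hc h3 with h | h
      · left; apply e.injective; rw [map_one]; exact h
      · right; apply e.injective; rw [e.apply_symm_apply]; exact h
  · show e (e.symm x) ∈ Q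
    rw [e.apply_symm_apply]; exact hx
  · show e (e.symm y) ∈ Q
    rw [e.apply_symm_apply]; exact hy
  · intro h
    apply hxy
    have := congrArg e h
    rwa [map_mul, map_mul, e.apply_symm_apply, e.apply_symm_apply] at this
  · exact ea_transport ((e.subgroupMap (Q.comap e.toMonoidHom)).trans (MulEquiv.subgroupCongr hmap)) hE
  · refine ⟨H.comap e.toMonoidHom, ?_⟩
    rw [Subgroup.isComplement'_def, Subgroup.isComplement_iff_existsUnique] at hH ⊢
    intro c
    obtain ⟨⟨a, b⟩, hab, huniq⟩ := hH (e c)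
    have hab' : (a : D) * (b : D) = e c := hab
    refine ⟨⟨⟨e.symm a, ?_⟩, ⟨e.symm b, ?_⟩⟩, ?_, ?_⟩
    · show e (e.symm a) ∈ Q
      rw [e.apply_symm_apply]; exact a.2
    · show e (e.symm b) ∈ H
      rw [e.apply_symm_apply]; exact b.2
    · show e.symm a * e.symm b = c
      rw [← map_mul, hab', e.symm_apply_apply]
    · rintro ⟨⟨u, hu⟩, ⟨v, hv⟩⟩ huv
      have huv' : u * v = c := huv
      have h7 := huniq ⟨⟨e u, hu⟩, ⟨e v, hv⟩⟩ (by
        show e u * e v = e c
        rw [← map_mul, huv'])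
      have h8 : e u = (a : D) := congrArg (fun t => (t.1 : D)) h7
      have h9 : e v = (b : D) := congrArg (fun t => (t.2 : D)) h7
      refine Prod.ext (Subtype.ext ?_) (Subtype.ext ?_)
      · show u = e.symm a
        rw [← h8, e.symm_apply_apply]
      · show v = e.symm b
        rw [← h9, e.symm_apply_apply]
  · exact (QuotientGroup.congr _ _ e hmap).trans q

theorem propY_C : PropY C := by
  refine ⟨QC, QC_normal, zC, card_QC, xsp, ?_, ea_card, ⟨HC, compl'⟩, quotA5⟩
  refine ⟨⟨eQ 1, Q0_le (eQ_mem (by decide))⟩, eQ_mem (by decide), ⟨eQ 2, Q0_le (eQ_mem (by decide))⟩, eQ_mem (by decide), ?_⟩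
  intro h
  have h1 : eQ 1 * eQ 2 = eQ 2 * eQ 1 := congrArg (fun c : C => (c : J)) h
  rw [eQ_mul (by decide) (by decide), eQ_mul (by decide) (by decide)] at h1
  exact q_nc (eQ_inj (mQ_lt (by decide) (by decide)) (mQ_lt (by decide) (by decide)) h1)

theorem cent_equiv {A B : Type*} [Group A] [Group B] (E : A ≃* B) {a : A} {b : B} (h : E a = b) :
    Nonempty (Subgroup.centralizer {a} ≃* Subgroup.centralizer {b}) := by
  have hmap : (Subgroup.centralizer {a}).map E.toMonoidHom = Subgroup.centralizer {b} := by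
    ext y
    constructor
    · rintro ⟨x, hx, rfl⟩
      rw [SetLike.mem_coe, Subgroup.mem_centralizer_singleton_iff] at hx
      rw [Subgroup.mem_centralizer_singleton_iff, ← h]
      show E x * E a = E a * E x
      rw [← map_mul, hx, map_mul]
    · intro hy
      refine ⟨E.symm y, ?_, E.apply_symm_apply y⟩
      rw [Subgroup.mem_centralizer_singleton_iff] at hy
      rw [SetLike.mem_coe, Subgroup.mem_centralizer_singleton_iff]
      apply E.injective
      rw [map_mul, map_mul, E.apply_symm_apply, h, hy]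
  exact ⟨(E.subgroupMap _).trans (MulEquiv.subgroupCongr hmap)⟩

theorem ord_z : orderOf z = 2 := orderOf_eq_prime (by rw [pow_two]; exact z_sq) z_ne

/-- Everything, for a group isomorphic to `J` -/
theorem final {K : Type*} [Group K] [Finite K] (E : J ≃* K) :
    (∀ x y : K, orderOf x = 2 → orderOf y = 2 → IsConj x y) ∧ ∃ t : K, orderOf t = 2 ∧ PropX (Subgroup.centralizer ({t} : Set K)) := by
  have hz : ∀ x : K, orderOf x = 2 → IsConj x (E z) := by
    intro x hx
    have hx2 : x * x = 1 := by rw [← pow_two, ← hx]; exact pow_orderOf_eq_one x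
    have hx1 : x ≠ 1 := by
      rintro rfl
      rw [orderOf_one] at hx
      exact absurd hx (by norm_num)
    obtain ⟨c, hc⟩ := inv_conj (g := E.symm x) (by rw [← map_mul, hx2, map_one]) (by
      intro h
      apply hx1
      have := congrArg E h
      rwa [E.apply_symm_apply, map_one] at this)
    rw [isConj_iff]
    refine ⟨E c, ?_⟩
    rw [← hc, map_mul, map_mul, map_inv, E.apply_symm_apply]
  refine ⟨fun x y hx hy => (hz x hx).trans (hz y hy).symm, E z, ?_, ?_⟩
  · have h := ord_z
    rw [← MulEquiv.orderOf_eq E z] at h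
    exact h
  · obtain ⟨e⟩ := cent_equiv E.symm (a := E z) (b := z) (E.symm_apply_apply z)
    exact propY_X (propY_equiv e propY_C)

end Cfsg.Agent.H20.J3C
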