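import Cfsg.Agent.H8_Cox

/-!
Further consequences of network actions: lower bounds for subgroups, indices, orbits on cosets.
-/

set_option autoImplicit false

namespace Cfsg.Agent.H8.Act2

open CE Net Act Cox

section
variable {L : List Nt} {n k : ℕ} {G : Type*} [Group G] {x : ℕ → G} {φ : G →* Equiv.Perm (Fin n)}

/-- lower bound for the order of a subgroup generated by some letters -/
theorem sub_lower [Finite G] (hc : Compat φ x L) {L' : List Nt} (l : List ℕ)
    (hsub : ∀ y, y < 16 → (y ∈ l ∧ net L' y = net L y) ∨ net L' y = .nil) (hs' : sysOk L' n = true)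
    (hn : n ≤ 2 ^ k) {sg : List (List ℕ)} (hsg : sgB L' n k sg 16 = true)
    (hlen : Nat.ble L'.length (16 + sg.length) = true) {levs : List Lev}
    (hch : chainB L' n k levs [] = true) :
    prodM levs ≤ Nat.card (Subgroup.closure (x '' {y | y ∈ l})) := by
  classical
  let K := Subgroup.closure (x '' {y | y ∈ l})
  let x' : ℕ → K := fun y => if h : y ∈ l ∧ net L' y = net L y then
    ⟨x y, Subgroup.subset_closure ⟨y, h.1, rfl⟩⟩ else 1
  let φ' : K →* Equiv.Perm (Fin n) := φ.comp K.subtype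
  have hc' : Compat φ' x' L' := by
    intro y hy i
    by_cases h : y ∈ l ∧ net L' y = net L y
    · have h1 : x' y = ⟨x y, Subgroup.subset_closure ⟨y, h.1, rfl⟩⟩ := dif_pos h
      rw [h1]
      have h2 := hc y hy i
      rw [← h.2] at h2
      exact h2
    · have h1 : x' y = 1 := dif_neg h
      have h2 : net L' y = .nil := by
        rcases hsub y hy with h3 | h3
        · exact absurd h3 h
        · exact h3
      rw [h1, h2, map_one, inv_one]
      rfl
  obtain ⟨bs, hbs⟩ := chain_sound (φ := φ') hs' (exists_g hs' hn hc' hsg hlen) levs [] [] rfl hch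
  have h1 : Nat.card (stabs φ' ([] : List (Fin n))) = Nat.card K := by
    rw [stabs, Subgroup.card_top]
  rw [h1] at hbs
  have hpos : 0 < Nat.card (stabs φ' bs) := Nat.card_pos
  exact (Nat.le_mul_of_pos_right _ hpos).trans hbs

/-- elements of the closure of letters fixing a point fix it -/
theorem fix_closure (hs : sysOk L n = true) (hc : Compat φ x L) {l : List ℕ} (hl : ∀ y ∈ l, y < 16)
    (hn0 : 0 < n) (hfix : fixP L l [nat_lit 0] = true) :
    ∀ g ∈ Subgroup.closure (x '' {y | y ∈ l}), φ g ⟨0, hn0⟩ = ⟨0, hn0⟩ := by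
  intro g hg
  have h1 : Subgroup.closure (x '' {y | y ∈ l}) ≤
      (MulAction.stabilizer (Equiv.Perm (Fin n)) (⟨0, hn0⟩ : Fin n)).comap φ := by
    rw [Subgroup.closure_le]
    rintro _ ⟨y, hy, rfl⟩
    have h1 := fixP_sound hs hfix 0 (by simp) y hy
    have h2 := hc y (hl y hy) ⟨0, hn0⟩
    rw [h1] at h2
    have h3 : ((φ (x y))⁻¹ : Equiv.Perm (Fin n)) ⟨0, hn0⟩ = ⟨0, hn0⟩ := Fin.ext h2
    rw [Equiv.Perm.inv_eq_iff_eq] at h3
    exact h3.symm
  exact h1 hg

/-- a subgroup of index at most `n` fixing a point of a transitive action on `n` points is the stabilizer -/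
theorem index_of_fix {H : Subgroup G} (hn0 : 0 < n) (htr : ∀ i : Fin n, ∃ g, φ g ⟨0, hn0⟩ = i)
    (hH : ∀ g ∈ H, φ g ⟨0, hn0⟩ = ⟨0, hn0⟩) (hi : H.index ≤ n) (hi0 : H.index ≠ 0) :
    H.index = n ∧ ∀ g, g ∈ H ↔ φ g ⟨0, hn0⟩ = ⟨0, hn0⟩ := by
  let z : Fin n := ⟨0, hn0⟩
  let F : G ⧸ H → Fin n := Quotient.lift (fun g => φ g z) (by
    intro a b hab
    have h1 : a⁻¹ * b ∈ H := QuotientGroup.leftRel_apply.1 hab
    have h2 := hH _ h1
    rw [map_mul, map_inv, Equiv.Perm.mul_apply, Equiv.Perm.inv_eq_iff_eq] at h2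
    exact h2.symm)
  have hsurj : Function.Surjective F := by
    intro i
    obtain ⟨g, hg⟩ := htr i
    exact ⟨(g : G ⧸ H), hg⟩
  have : Finite (G ⧸ H) := Nat.finite_of_card_ne_zero (by rw [← Subgroup.index_eq_card]; exact hi0)
  have h1 : n ≤ H.index := by
    have := Nat.card_le_card_of_surjective F hsurj
    rwa [Nat.card_fin] at this
  have h2 : H.index = n := le_antisymm hi h1
  refine ⟨h2, fun g => ⟨hH g, fun hg => ?_⟩⟩
  have hbij : Function.Bijective F := by
    rw [Nat.bijective_iff_surjective_and_card]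
    exact ⟨hsurj, by rw [Nat.card_fin, ← Subgroup.index_eq_card, h2]⟩
  have h3 : F (g : G ⧸ H) = F ((1 : G) : G ⧸ H) := by
    show φ g z = φ 1 z
    rw [map_one]; exact hg
  have h4 := hbij.1 h3
  rw [eq_comm, QuotientGroup.eq] at h4
  simpa using h4

/-- the orbit of `H` on its cosets corresponding to an interval of points -/
theorem orbit_ncard (hs : sysOk L n = true) (hc : Compat φ x L) {l : List ℕ} (hl : ∀ y ∈ l, y < 16)
    (hn0 : 0 < n) (htr : ∀ i : Fin n, ∃ g, φ g ⟨0, hn0⟩ = i)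
    (hfix : fixP L l [nat_lit 0] = true)
    (hst : ∀ g, g ∈ Subgroup.closure (x '' {y | y ∈ l}) ↔ φ g ⟨0, hn0⟩ = ⟨0, hn0⟩)
    {r c a b : ℕ} (hac : a ≤ c) (hcb : c < b) (hbn : b ≤ n)
    (hr : reachIv L l r c a b = true) (hi : invIv L l a b = true) :
    ∃ q : G ⧸ Subgroup.closure (x '' {y | y ∈ l}),
      (MulAction.orbit (Subgroup.closure (x '' {y | y ∈ l})) q).ncard = b - a := by
  classical
  set H := Subgroup.closure (x '' {y | y ∈ l}) with hH
  have hcn : c < n := by omega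
  let z : Fin n := ⟨0, hn0⟩
  let F : G ⧸ H → Fin n := Quotient.lift (fun g => φ g z) (by
    intro a b hab
    have h1 : a⁻¹ * b ∈ H := QuotientGroup.leftRel_apply.1 hab
    have h2 := (hst _).1 h1
    rw [map_mul, map_inv, Equiv.Perm.mul_apply, Equiv.Perm.inv_eq_iff_eq] at h2
    exact h2.symm)
  have hFinj : Function.Injective F := by
    intro q q' h
    obtain ⟨g, rfl⟩ := QuotientGroup.mk_surjective q
    obtain ⟨g', rfl⟩ := QuotientGroup.mk_surjective q'
    have h1 : φ g z = φ g' z := h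
    rw [QuotientGroup.eq, hst, map_mul, map_inv, Equiv.Perm.mul_apply, Equiv.Perm.inv_eq_iff_eq]
    exact h1.symm
  have hFs : ∀ (h : H) (q : G ⧸ H), F (h • q) = φ (h : G) (F q) := by
    intro h q
    obtain ⟨g, rfl⟩ := QuotientGroup.mk_surjective q
    show φ ((h : G) * g) z = φ (h : G) (φ g z)
    rw [map_mul]; rfl
  obtain ⟨g0, hg0⟩ := htr ⟨c, hcn⟩
  refine ⟨(g0 : G ⧸ H), ?_⟩
  have himg : F '' (MulAction.orbit H (g0 : G ⧸ H)) = {i : Fin n | a ≤ (i : ℕ) ∧ (i : ℕ) < b} := by
    ext i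
    constructor
    · rintro ⟨_, ⟨h, rfl⟩, rfl⟩
      show a ≤ ((F (h • (g0 : G ⧸ H)) : Fin n) : ℕ) ∧ ((F (h • (g0 : G ⧸ H)) : Fin n) : ℕ) < b
      rw [hFs]
      have e : F (g0 : G ⧸ H) = ⟨c, hcn⟩ := hg0
      rw [e]
      -- invariance of the interval
      have key : ∀ g ∈ H, ∀ i : Fin n, (a ≤ ((φ g i : Fin n) : ℕ) ∧ ((φ g i : Fin n) : ℕ) < b) ↔ (a ≤ (i : ℕ) ∧ (i : ℕ) < b) := by
        intro g hg
        rw [hH] at hg
        induction hg using Subgroup.closure_induction with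
        | mem g hg =>
          obtain ⟨y, hy, rfl⟩ := hg
          intro i
          have h1 := invIv_sound hs (by omega) hi y hy (φ (x y) i)
          have h2 := hc y (hl y hy) (φ (x y) i)
          rw [← h2] at h1
          have h3 : ((φ (x y))⁻¹ : Equiv.Perm (Fin n)) (φ (x y) i) = i := by
            rw [Equiv.Perm.inv_eq_iff_eq]
          rw [h3] at h1
          exact h1.symm
        | one => intro i; simp
        | mul g g' _ _ ih ih' =>
          intro i
          rw [map_mul, Equiv.Perm.mul_apply, ih, ih']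
        | inv g _ ih =>
          intro i
          have h1 := ih (φ g⁻¹ i)
          have h3 : φ g (φ g⁻¹ i) = i := by
            rw [← Equiv.Perm.mul_apply, ← map_mul]; simp
          rw [h3] at h1
          exact h1.symm
      exact (key (h : G) h.2 ⟨c, hcn⟩).2 ⟨hac, hcb⟩
    · rintro ⟨h1, h2⟩
      obtain ⟨g, hg, _, hgc⟩ := suborb_of hs hc hl hfix hn0 (by omega : a ≤ b) hcn hr i h1 h2
      refine ⟨(⟨g, hg⟩ : H) • (g0 : G ⧸ H), ⟨⟨g, hg⟩, rfl⟩, ?_⟩
      rw [hFs]
      have e : F (g0 : G ⧸ H) = ⟨c, hcn⟩ := hg0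
      rw [e]
      exact hgc
  have h1 : (F '' (MulAction.orbit H (g0 : G ⧸ H))).ncard = (MulAction.orbit H (g0 : G ⧸ H)).ncard :=
    Set.ncard_image_of_injective _ hFinj
  rw [← h1, himg]
  have h5 : {i : Fin n | a ≤ (i : ℕ) ∧ (i : ℕ) < b} =
      ((Finset.univ.filter fun i : Fin n => a ≤ (i : ℕ) ∧ (i : ℕ) < b : Finset (Fin n)) :
        Set (Fin n)) := by
    ext i; simp
  rw [h5, Set.ncard_coe_finset]
  have h6 : (Finset.univ.filter fun i : Fin n => a ≤ (i : ℕ) ∧ (i : ℕ) < b).map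
      Fin.valEmbedding = Finset.Ico a b := by
    ext j
    simp only [Finset.mem_map, Finset.mem_filter, Finset.mem_univ, true_and, Fin.valEmbedding_apply,
      Finset.mem_Ico]
    constructor
    · rintro ⟨i, h7, rfl⟩; exact h7
    · intro h7; exact ⟨⟨j, by omega⟩, h7, rfl⟩
  rw [← Finset.card_map Fin.valEmbedding, h6, Nat.card_Ico]

end

/-! ### Renumbering letters -/

/-- letters renumbered by a list -/
def ren {G : Type*} (x : ℕ → G) (σ : List ℕ) (y : ℕ) : G := x (σ.getD y 0)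

/-- check of a renumbering -/
def renOk (ic ic' : ℕ) (σ : List ℕ) : Bool :=
  (List.range 16).all fun y => Nat.blt (σ.getD y 0) 16 && (σ.getD (il ic' y) 0 == il ic (σ.getD y 0))

section
variable {G : Type*} [Group G] {x : ℕ → G}

theorem ev_ren (σ : List ℕ) (w : List ℕ) : ev (ren x σ) w = ev x (w.map fun y => σ.getD y 0) := by
  induction w with
  | nil => rfl
  | cons y w ih => rw [List.map_cons, ev_cons, ev_cons, ih]; rfl

theorem ren_hic {ic ic' : ℕ} (hic : ∀ y, y < 16 → x (il ic y) = (x y)⁻¹) {σ : List ℕ}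
    (h : renOk ic ic' σ = true) (y : ℕ) (hy : y < 16) : ren x σ (il ic' y) = (ren x σ y)⁻¹ := by
  unfold renOk at h
  rw [List.all_eq_true] at h
  have h1 := h y (List.mem_range.2 hy)
  simp only [Bool.and_eq_true, beq_iff_eq] at h1
  unfold ren
  rw [h1.2]
  exact hic _ (blt_eq.1 h1.1)

theorem ren_rels {rels rels' : List (List ℕ)} (hrels : ∀ w ∈ rels, ev x w = 1) {σ : List ℕ}
    (h : (rels'.all fun w => rels.contains (w.map fun y => σ.getD y 0)) = true) :
    ∀ w ∈ rels', ev (ren x σ) w = 1 := by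
  intro w hw
  rw [ev_ren]
  rw [List.all_eq_true] at h
  have := h w hw
  rw [List.contains_iff_mem] at this
  exact hrels _ this

omit [Group G] in
theorem ren_image (σ : List ℕ) (k : ℕ) (l : List ℕ)
    (h1 : ((List.range k).all fun i => l.contains (σ.getD (i + 1) 0)) = true)
    (h2 : (l.all fun y => (List.range k).any fun i => σ.getD (i + 1) 0 == y) = true) :
    ren x σ '' {y | 1 ≤ y ∧ y ≤ k} = x '' {y | y ∈ l} := by
  rw [List.all_eq_true] at h1 h2
  ext g
  constructor
  · rintro ⟨y, ⟨hy1, hy2⟩, rfl⟩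
    have h3 := h1 (y - 1) (List.mem_range.2 (by omega))
    rw [List.contains_iff_mem] at h3
    have e : y - 1 + 1 = y := by omega
    rw [e] at h3
    exact ⟨_, h3, rfl⟩
  · rintro ⟨y, hy, rfl⟩
    have h3 := h2 y hy
    rw [List.any_eq_true] at h3
    obtain ⟨i, hi, h4⟩ := h3
    rw [List.mem_range] at hi
    rw [beq_iff_eq] at h4
    exact ⟨i + 1, ⟨by omega, by omega⟩, by unfold ren; rw [h4]⟩

end

end Cfsg.Agent.H8.Act2
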