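import Cfsg.Agent.H20_J3A
import Cfsg.Agent.H20_J3aT
import Cfsg.Agent.H20_J3bT
import Cfsg.Agent.H20_J3cT
import Cfsg.Agent.H8_Act2
import Cfsg.Prelude.Def_Sporadic

/-!
The presented group: order 50232960, simplicity, action on 6156 points.
-/

set_option autoImplicit false
set_option maxRecDepth 100000

namespace Cfsg.Agent.H20.J3M

open Cfsg.Agent.H8 Cfsg.Agent.H8.CE Cfsg.Agent.H8.Net Cfsg.Agent.H8.Act Cfsg.Agent.H8.Cox Cfsg.Agent.H8.Act2
open Cfsg.Agent.H20 Cfsg.Agent.H20.J3R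

/-- the presented group -/
abbrev J : Type := PresentedGroup RR

/-- the letters in the presented group -/
noncomputable abbrev x : ℕ → J := xG RR lm

theorem hic : ∀ y, y < 16 → x (il ic y) = (x y)⁻¹ := by
  have h := (words _ (lift_of_rel RR)).1
  rw [← xG_eq] at h
  exact h

theorem hrels : ∀ w ∈ rels, ev x w = 1 := by
  have h := (words _ (lift_of_rel RR)).2
  rw [← xG_eq] at h
  exact h

theorem h0 : x 0 = 1 := by
  unfold x xG
  simp [lm]

theorem sub_rels {rs : List (List ℕ)} (h : (rs.all fun w => rels.contains w) = true) : ∀ w ∈ rs, ev x w = 1 := by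
  intro w hw
  rw [List.all_eq_true] at h
  have := h w hw
  rw [List.contains_iff_mem] at this
  exact hrels w this

/-- subgroups generated by lists of letters -/
noncomputable def Hl (l : List ℕ) : Subgroup J := Subgroup.closure (x '' {y | y ∈ l})

theorem Hl_mono {l l' : List ℕ} (h : (l.all fun y => l'.contains y) = true) : Hl l ≤ Hl l' := by
  apply Subgroup.closure_mono
  apply Set.image_mono
  intro y hy
  rw [List.all_eq_true] at h
  have := h y hy
  rwa [List.contains_iff_mem] at this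

theorem mem_Hl {l : List ℕ} {y : ℕ} (h : l.contains y = true) : x y ∈ Hl l :=
  Subgroup.subset_closure ⟨y, by rwa [List.contains_iff_mem] at h, rfl⟩

theorem Hl_top : Hl [1, 2, 3, 4, 5] = ⊤ := by
  apply closure_top
  intro a
  cases a
  exacts [⟨1, by decide, rfl⟩, ⟨2, by decide, rfl⟩]

theorem b1 : (Hl [1, 4, 5]).relIndex (Hl [1, 2, 3, 4, 5]) ≤ 12312 ∧
    (Hl [1, 4, 5]).relIndex (Hl [1, 2, 3, 4, 5]) ≠ 0 := by
  have h := J3aT.bound (x := x) (H := (Hl [1, 4, 5]))
    hic h0 (sub_rels (by decide +kernel)) (by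
      intro s hs
      simp only [J3aT.L, List.mem_cons, List.not_mem_nil, or_false] at hs
      rcases hs with rfl | rfl <;> exact mem_Hl (by decide))
  have e : (x '' {y | 1 ≤ y ∧ y ≤ 5}) = x '' {y | y ∈ ([1, 2, 3, 4, 5] : List ℕ)} := by
    congr 1
    ext y
    simp only [Set.mem_ofPred_eq, List.mem_cons, List.not_mem_nil, or_false]
    omega
  rw [e] at h
  exact h

theorem b2 : (Hl [4, 5]).relIndex (Hl [1, 4, 5]) ≤ 240 ∧
    (Hl [4, 5]).relIndex (Hl [1, 4, 5]) ≠ 0 := by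
  have h := J3bT.bound (x := ren x [0, 1, 4, 5]) (H := (Hl [4, 5]))
    (ren_hic hic (by decide +kernel)) h0 (ren_rels hrels (by decide +kernel)) (by
      intro s hs
      simp only [J3bT.L, List.mem_cons, List.not_mem_nil, or_false] at hs
      rcases hs with rfl <;> exact mem_Hl (by decide))
  rw [ren_image [0, 1, 4, 5] 3 [1, 4, 5] (by decide) (by decide)] at h
  exact h

theorem b3 : (⊥ : Subgroup J).relIndex (Hl [4, 5]) ≤ 17 ∧
    (⊥ : Subgroup J).relIndex (Hl [4, 5]) ≠ 0 := by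
  have h := J3cT.bound (x := ren x [0, 4, 5]) (H := (⊥ : Subgroup J))
    (ren_hic hic (by decide +kernel)) h0 (ren_rels hrels (by decide +kernel)) (by
      intro s hs
      simp [J3cT.L] at hs)
  rw [ren_image [0, 4, 5] 2 [4, 5] (by decide) (by decide)] at h
  exact h

theorem c3 : Nat.card (Hl [4, 5]) ≤ 17 ∧ Nat.card (Hl [4, 5]) ≠ 0 := by
  have h := b3
  rwa [Subgroup.relIndex_bot_left] at h

theorem c2 : Nat.card (Hl [1, 4, 5]) ≤ 240 * 17 ∧ Nat.card (Hl [1, 4, 5]) ≠ 0 :=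
  card_le_of_relIndex (Hl_mono (by decide)) b2 c3

theorem c1 : Nat.card (Hl [1, 2, 3, 4, 5]) ≤ 12312 * (240 * 17) ∧ Nat.card (Hl [1, 2, 3, 4, 5]) ≠ 0 :=
  card_le_of_relIndex (Hl_mono (by decide)) b1 c2

theorem card_le : Nat.card J ≤ 50232960 := by
  have h := c1.1
  rw [Hl_top, Subgroup.card_top] at h
  exact h

instance instFinite : Finite J := by
  have h := c1.2
  rw [Hl_top, Subgroup.card_top] at h
  exact Nat.finite_of_card_ne_zero h

/-! ### The action on 6156 points -/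

theorem hn : 6156 ≤ 2 ^ 13 := by decide

/-- images of the generators -/
noncomputable def fP : Gen → Equiv.Perm (Fin 6156)
  | .a => xP J3A.sys hn J3A.inv_ok 1
  | .b => xP J3A.sys hn J3A.inv_ok 2

theorem relP : ∀ w ∈ rels, ev (xP J3A.sys hn J3A.inv_ok) w = 1 :=
  relP_of J3A.sys hn J3A.inv_ok J3A.rel_ok (by decide +kernel)

theorem fP_x (y : ℕ) (hy : y < 16) : xF fP lm y = xP J3A.sys hn J3A.inv_ok y := by
  have e1 : xF fP lm 1 = xP J3A.sys hn J3A.inv_ok 1 := by rw [x1]; rfl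
  have e2 : xF fP lm 2 = xP J3A.sys hn J3A.inv_ok 2 := by rw [x2]; rfl
  have i2 : xP J3A.sys hn J3A.inv_ok 3 = (xP J3A.sys hn J3A.inv_ok 2)⁻¹ := by
    have := xP_il J3A.sys hn J3A.inv_ok 2 (by decide)
    rwa [show il ic 2 = 3 by decide] at this
  have i4 : xP J3A.sys hn J3A.inv_ok 5 = (xP J3A.sys hn J3A.inv_ok 4)⁻¹ := by
    have := xP_il J3A.sys hn J3A.inv_ok 4 (by decide)
    rwa [show il ic 4 = 5 by decide] at this
  have i6 : xP J3A.sys hn J3A.inv_ok 7 = (xP J3A.sys hn J3A.inv_ok 6)⁻¹ := by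
    have := xP_il J3A.sys hn J3A.inv_ok 6 (by decide)
    rwa [show il ic 6 = 7 by decide] at this
  have e3 : xF fP lm 3 = xP J3A.sys hn J3A.inv_ok 3 := by
    rw [i2, ← e2]; simp [xF, lm]
  have e4 : xF fP lm 4 = xP J3A.sys hn J3A.inv_ok 4 := by
    have h := relP [1, 2, 1, 2, 1, 3, 5] (by decide +kernel)
    simp only [ev_cons, ev_nil, mul_one, i2, i4] at h
    have h2 : xF fP lm 4 = xF fP lm 1 * (xF fP lm 2 * (xF fP lm 1 * (xF fP lm 2 * (xF fP lm 1 * (xF fP lm 2)⁻¹)))) := by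
      simp [xF, lm, c, a, b, mul_assoc]
    rw [h2, e1, e2]
    simp only [← mul_assoc] at h ⊢
    exact mul_inv_eq_one.1 h
  have e5 : xF fP lm 5 = xP J3A.sys hn J3A.inv_ok 5 := by
    rw [i4, ← e4]; simp [xF, lm]
  have e6 : xF fP lm 6 = xP J3A.sys hn J3A.inv_ok 6 := by
    have h := relP [1, 2, 1, 2, 1, 3, 1, 2, 1, 2, 1, 2, 1, 2, 1, 2, 7] (by decide +kernel)
    simp only [ev_cons, ev_nil, mul_one, i2, i6] at h
    have h2 : xF fP lm 6 = ev (xF fP lm) [1, 2, 1, 2, 1, 3, 1, 2, 1, 2, 1, 2, 1, 2, 1, 2] := by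
      simp [xF, lm, e, a, b, mul_assoc]
    rw [h2]
    simp only [ev_cons, ev_nil, mul_one, e1, e2, e3, i2]
    simp only [← mul_assoc] at h ⊢
    exact mul_inv_eq_one.1 h
  have e7 : xF fP lm 7 = xP J3A.sys hn J3A.inv_ok 7 := by
    rw [i6, ← e6]; simp [xF, lm]
  interval_cases y
  · rw [xP_eq_one _ _ _ _ rfl]; simp [xF, lm]
  · exact e1
  · exact e2
  · exact e3
  · exact e4
  · exact e5
  · exact e6
  · exact e7
  all_goals rw [xP_eq_one _ _ _ _ rfl]; simp [xF, lm]

theorem exists_phi : ∃ φ : J →* Equiv.Perm (Fin 6156), Compat φ x J3A.L :=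
  exists_action RR lm J3A.sys hn J3A.inv_ok J3A.rel_ok (by decide +kernel) fP fP_x (fun _ => lifts fP)

/-- the action -/
noncomputable def phi : J →* Equiv.Perm (Fin 6156) := exists_phi.choose

theorem compat : Compat phi x J3A.L := exists_phi.choose_spec

theorem main : Nat.card J = 50232960 ∧ Function.Injective phi := by
  have h := order_eq (φ := phi) J3A.sys
    (exists_g J3A.sys hn compat J3A.sg_ok (by decide +kernel)) J3A.levs J3A.chain
    (by rw [J3A.prodM_levs]; exact card_le)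
  rwa [J3A.prodM_levs] at h

theorem simple : IsSimpleGroup J := by
  refine simple_of_data (p := 19) (e := 1) J3A.sys hn compat main.2 hic (by decide) (by decide) (by decide) J3A.trans
    J3A.hfix J3A.orbs (by decide) (by decide) (by decide) (by decide) ?_ J3A.pw_ok ?_
  · rw [main.1]; decide
  · apply closure_top
    intro a
    cases a
    exacts [⟨1, by decide, rfl⟩, ⟨2, by decide, rfl⟩]

theorem isJ3 : Cfsg.IsJ3 J := ⟨simple, main.1⟩

theorem trans0 (i : Fin 6156) : ∃ g, phi g ⟨0, by decide⟩ = i :=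
  trans_of J3A.sys compat (fun y hy => by
    have : y ∈ ([1, 2, 3, 4, 5, 6, 7] : List ℕ) := hy
    simp only [List.mem_cons, List.not_mem_nil, or_false] at this
    omega) (by decide) J3A.trans i

end Cfsg.Agent.H20.J3M
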