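import Cfsg.Agent.H20_J3C3

/-!
Data for the outer automorphism group of J3.
-/

set_option autoImplicit false
set_option maxRecDepth 1000000

namespace Cfsg.Agent.H20.J3O

open Cfsg.Agent.H8.CE Cfsg.Agent.H8.CS Cfsg.Agent.H8.Net Cfsg.Agent.H8.Act Cfsg.Agent.H8.Act2
open Cfsg.Agent.H20 Cfsg.Agent.H20.PT Cfsg.Agent.H20.J3P Cfsg.Agent.H20.LG Cfsg.Agent.H20.J3D Cfsg.Agent.H20.J3M Cfsg.Agent.H20.J3C

/-- an element of order 17 -/
def cw : List ℕ := [2, 1, 3, 1, 3, 1, 2, 1, 2, 1, 3, 1, 2, 1, 3, 1, 2, 1, 3, 1, 3, 1, 2, 1, 2, 1, 3, 1]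

/-- an element normalizing it -/
def nw : List ℕ := [2, 1, 3, 1, 3, 1, 2, 1, 3, 1, 2, 1, 2, 1, 3, 1, 3, 1, 2, 1, 2, 1, 3, 1, 2, 1, 2, 1, 2, 1, 2, 1, 3, 1, 2, 1, 2, 1, 2]

/-- an element of the stabilizer -/
def ew : List ℕ := [1, 2, 1, 2, 1, 3, 1, 2, 1, 2, 1, 2, 1, 2, 1, 2]

/-- image of the second generator -/
def b2w : List ℕ := [2, 1, 3, 1, 3, 1, 2, 1, 2, 1, 3, 1, 2, 1, 2, 1, 3, 1, 2, 1, 2, 1, 3, 1, 3, 1, 3, 1, 3, 1, 2, 1, 3, 1, 3, 1, 3, 1, 2, 1, 3, 1, 2]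

/-- its inverse -/
def b2i : List ℕ := [3, 1, 2, 1, 3, 1, 2, 1, 2, 1, 2, 1, 3, 1, 2, 1, 2, 1, 2, 1, 2, 1, 3, 1, 3, 1, 2, 1, 3, 1, 3, 1, 2, 1, 3, 1, 3, 1, 2, 1, 2, 1, 3]

/-- involution words -/
def uw : List ℕ := [2, 1, 2, 1, 3, 1, 2, 1, 2, 1, 2, 1, 3, 1, 2, 1, 2, 1, 2, 1, 2, 1, 2, 1, 3, 1, 2, 1, 2, 1, 2, 1, 3, 1, 2, 1, 2, 1, 2, 1, 3, 1, 3, 1, 3, 1, 3, 1, 3, 1, 3, 1, 3, 1, 3, 1, 3]

def vw : List ℕ := [1, 2, 1, 2, 1, 3, 1, 2, 1, 2, 1, 2, 1, 3, 1, 2, 1, 2, 1, 2, 1, 2, 1, 2, 1, 3, 1, 2, 1, 2, 1, 2, 1, 3, 1, 2, 1, 2, 1, 2, 1, 3, 1, 3, 1, 3, 1, 3, 1, 3, 1, 3, 1, 3, 1, 3, 1, 3]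

/-- the second generator as a word -/
def bwl : List ℕ := [3, 1, 3, 1, 3, 0, 0, 3, 0, 3, 0, 0, 3, 0, 3, 1, 3, 1, 1]

/-- indices of noncentral involutions -/
def cands : List ℕ := [1, 2, 14, 15, 16, 17, 20, 21, 28, 29]

/-- the generators in the last word -/
def gw : ℕ → List ℕ
  | 0 => cw
  | 1 => 1 :: (cw ++ [1])
  | 2 => [1]
  | _ => fl gsQ psQ 16

/-- substitution for the outer automorphism -/
def sb : ℕ → List ℕ
  | 1 => [1]
  | 2 => b2w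
  | _ => b2i

/-- substitution in the relators -/
def sr : ℕ → List ℕ
  | 0 => []
  | 1 => [1]
  | 2 => b2w
  | 3 => b2i
  | 4 => [1] ++ b2w ++ [1] ++ b2w ++ [1] ++ b2i
  | 5 => b2w ++ [1] ++ b2i ++ [1] ++ b2i ++ [1]
  | 6 => [1] ++ b2w ++ [1] ++ b2w ++ [1] ++ b2i ++ [1] ++ b2w ++ [1] ++ b2w ++ [1] ++ b2w ++ [1] ++ b2w ++ [1] ++ b2w
  | 7 => b2i ++ [1] ++ b2i ++ [1] ++ b2i ++ [1] ++ b2i ++ [1] ++ b2i ++ [1] ++ b2w ++ [1] ++ b2i ++ [1] ++ b2i ++ [1]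
  | _ => []

theorem k_c17 : eqb (powW cw 17) [] = true := by decide +kernel
theorem k_c1 : eqb cw [] = false := by decide +kernel
theorem k_ca : eqb (cw ++ (1 :: cw)) [1] = true := by decide +kernel
theorem k_cn : eqb (cw ++ nw) (nw ++ (cw ++ cw)) = true := by decide +kernel
theorem k_ce : ((List.range 17).all fun k => !eqb (cw ++ ew) (ew ++ powW cw k)) = true := by decide +kernel
theorem k_c0 : ptK (nat_lit 13) (nat_lit 8191) tf cw 0 0 = true := by decide +kernel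
theorem k_e0 : ptK (nat_lit 13) (nat_lit 8191) tf ew 0 0 = true := by decide +kernel
theorem k_fixc : rangeS (nat_lit 6156) (fun p => Bool.rec (Bool.rec (Bool.rec true false (ptK (nat_lit 13) (nat_lit 8191) tf cw p p)) true (Nat.beq p 152)) true (Nat.beq p 0))
    (nat_lit 13) (nat_lit 0) = true := by decide +kernel
theorem k_cands0 : ((List.range 32).all fun i => i == 0 || (i == zi || (!(mQ i i == 0) || cands.contains i))) = true := by decide +kernel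
theorem k_cands {i : ℕ} (hi : i < 32) (h0 : i ≠ 0) (h1 : i ≠ zi) (h2 : mQ i i = 0) : i ∈ cands := by
  have h := List.all_eq_true.1 k_cands0 i (List.mem_range.2 hi)
  simp only [Bool.or_eq_true, beq_iff_eq, Bool.not_eq_true', beq_eq_false_iff_ne, h0, h1, h2, false_or, ne_eq, not_true] at h
  exact List.contains_iff_mem.1 h
theorem k_c3 : (cands.all fun i => !eqb (powW (cw ++ (cw ++ (cw ++ fl gsQ psQ i))) 10) []) = true := by decide +kernel
theorem k_c1c : (cands.all fun i => i == 16 || (i == 21 || !eqb (powW (cw ++ fl gsQ psQ i) 10) [])) = true := by decide +kernel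
theorem k_10 : eqb (powW (cw ++ fl gsQ psQ 16) 10) [] = true := by decide +kernel
theorem k_b : eqb (bwl.flatMap gw) [2] = true := by decide +kernel
theorem k_1621 : eqb (fl gsQ psQ 16) (fl gsQ psQ 21) = false := by decide +kernel
theorem k_16z : eqb (fl gsQ psQ 16) [1] = false := by decide +kernel
theorem k_160 : eqb (fl gsQ psQ 16) [] = false := by decide +kernel
theorem k_16 : eqb (fl gsQ psQ 16 ++ fl gsQ psQ 16) [] = true := by decide +kernel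
theorem k_u : eqb (fl gsQ psQ 16) uw = true := by decide +kernel
theorem k_v : eqb (fl gsQ psQ 21) vw = true := by decide +kernel
theorem k_inv : eqb (b2w ++ b2i) [] = true := by decide +kernel
theorem k_rel : (J3R.rels.all fun w => eqb (w.flatMap sr) []) = true := by decide +kernel
theorem k_tc : eqb (cw.flatMap sb) cw = true := by decide +kernel
theorem k_tu : eqb (uw.flatMap sb) vw = true := by decide +kernel
theorem k_tv : eqb (vw.flatMap sb) uw = true := by decide +kernel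

end Cfsg.Agent.H20.J3O
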