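import Cfsg.Prelude.Def_KGroupFacts

/-!
Transport of the outer automorphism group along an isomorphism.
-/

set_option autoImplicit false

namespace Cfsg.Agent.H20.OutC

/-- transport of the outer automorphism group -/
theorem out_congr {A B : Type*} [Group A] [Group B] (e : A ≃* B) : (Cfsg.Inn A).index = (Cfsg.Inn B).index := by
  have h1 : Cfsg.Inn A = (Cfsg.Inn B).comap (MulAut.congr e).toMonoidHom := by
    ext f
    constructor
    · rintro ⟨a, rfl⟩
      refine ⟨e a, ?_⟩
      apply MulEquiv.ext
      intro x
      show e a * x * (e a)⁻¹ = e (a * e.symm x * a⁻¹)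
      simp
    · rintro ⟨b, hb⟩
      refine ⟨e.symm b, ?_⟩
      apply MulEquiv.ext
      intro x
      have h2 := congrArg (fun f : MulAut B => f (e x)) hb
      have h3 : b * e x * b⁻¹ = e (f (e.symm (e x))) := h2
      rw [MulEquiv.symm_apply_apply] at h3
      show e.symm b * x * (e.symm b)⁻¹ = f x
      apply e.injective
      rw [← h3]
      simp
  rw [h1, Subgroup.index_comap_of_surjective _ (MulAut.congr e).surjective]

end Cfsg.Agent.H20.OutC
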