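import Cfsg.Agent.H20_J3O
import Cfsg.Agent.H20_OutC

/-!
The outer automorphism group of J3.
-/

set_option autoImplicit false
set_option maxRecDepth 100000

namespace Cfsg.Agent.H20.J3O

open Cfsg.Agent.H8.CE Cfsg.Agent.H8.CS Cfsg.Agent.H8.Net Cfsg.Agent.H8.Act Cfsg.Agent.H8.Act2 Cfsg.Agent.H8.Cox
open Cfsg.Agent.H20 Cfsg.Agent.H20.PT Cfsg.Agent.H20.J3P Cfsg.Agent.H20.LG Cfsg.Agent.H20.J3D Cfsg.Agent.H20.J3M Cfsg.Agent.H20.J3C

attribute [local irreducible] cw nw ew b2w b2i uw vw bwl cands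

theorem eqb_complete {u w : List ℕ} (h : ev X u = ev X w) : eqb u w = true := by
  have s : ∀ (w : List ℕ) (i : Fin 6156), ((((phi (ev X w))⁻¹ : Equiv.Perm (Fin 6156)) i : Fin 6156) : ℕ) = trP 13 8191 tf w i := by
    intro w i
    have := trP_spec tc w 1 i (i : ℕ) (by rw [map_one, inv_one]; rfl)
    rwa [one_mul] at this
  have e : ∀ i : Fin 6156, trP 13 8191 tf u i = trP 13 8191 tf w i := fun i => by rw [← s, ← s, h]
  have e1 := e ⟨0, by decide⟩
  have e2 := e ⟨4116, by decide⟩
  have e3 := e ⟨1, by decide⟩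
  show (trK 13 8191 tf u 0 fun a => trK 13 8191 tf w 0 fun a' => Bool.rec false (
    trK 13 8191 tf u 4116 fun b => trK 13 8191 tf w 4116 fun b' => Bool.rec false (
    trK 13 8191 tf u 1 fun c => trK 13 8191 tf w 1 fun c' => Nat.beq c c') (Nat.beq b b')) (Nat.beq a a')) = true
  simp only [trK_eq]
  have e1' : trP 13 8191 tf u 0 = trP 13 8191 tf w 0 := e1
  have e2' : trP 13 8191 tf u 4116 = trP 13 8191 tf w 4116 := e2
  have e3' : trP 13 8191 tf u 1 = trP 13 8191 tf w 1 := e3
  rw [e1', e2', e3', Nat.beq_refl, Nat.beq_refl, Nat.beq_refl]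

theorem ne_of_eqb {u w : List ℕ} (h : eqb u w = false) : ev X u ≠ ev X w := by
  intro he
  rw [eqb_complete he] at h
  exact absurd h (by simp)

noncomputable def c : J := ev X cw
noncomputable def nn : J := ev X nw

theorem c17 : c ^ 17 = 1 := by
  have := eqb_sound k_c17
  rw [ev_powW, ev_nil] at this
  exact this

theorem c_ne : c ≠ 1 := by
  have := ne_of_eqb k_c1
  rwa [ev_nil] at this

instance : Fact (Nat.Prime 17) := ⟨by norm_num⟩

theorem c_ord : orderOf c = 17 := orderOf_eq_prime c17 c_ne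

theorem ca : c * z * c = z := by
  have := eqb_sound k_ca
  rw [ev_append, ev_cons, ev1] at this
  rw [mul_assoc]
  exact this

theorem za : z * c * z = c⁻¹ := by
  have h := ca
  have h2 := z_sq
  have : z * c * z * c = 1 := by
    calc z * c * z * c = z * (c * z * c) := by group
      _ = 1 := by rw [h, h2]
  exact eq_inv_of_mul_eq_one_left this

theorem cn : c * nn = nn * (c * c) := by
  have := eqb_sound k_cn
  rw [ev_append, ev_append, ev_append] at this
  exact this

theorem nc : nn⁻¹ * c * nn = c ^ 2 := by rw [mul_assoc, cn, inv_mul_cancel_left, pow_two]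

/-! ### Fixed points of c -/

theorem fix_of_pt {w : List ℕ} {i : Fin 6156} (h : ptK (nat_lit 13) (nat_lit 8191) tf w i i = true) : phi (ev X w) i = i := by
  have h1 := trP_spec tc w 1 i (i : ℕ) (by rw [map_one, inv_one]; rfl)
  rw [one_mul] at h1
  have h2 := ptK_iff.1 h
  have h3 : ((phi (ev X w))⁻¹ : Equiv.Perm (Fin 6156)) i = i := Fin.ext (h1.trans h2)
  rw [Equiv.Perm.inv_eq_iff_eq] at h3
  exact h3.symm

theorem pt_of_fix {w : List ℕ} {i : Fin 6156} (h : phi (ev X w) i = i) : ptK (nat_lit 13) (nat_lit 8191) tf w i i = true := by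
  have h1 := trP_spec tc w 1 i (i : ℕ) (by rw [map_one, inv_one]; rfl)
  rw [one_mul] at h1
  have h3 : ((phi (ev X w))⁻¹ : Equiv.Perm (Fin 6156)) i = i := by rw [Equiv.Perm.inv_eq_iff_eq]; exact h.symm
  rw [h3] at h1
  exact ptK_iff.2 h1.symm

theorem c_St : c ∈ St bs.1 := fix_of_pt (i := bs.1) k_c0
theorem e_St : ev X ew ∈ St bs.1 := fix_of_pt (i := bs.1) k_e0

theorem fix_c {i : Fin 6156} (h : phi c i = i) : (i : ℕ) = 0 ∨ (i : ℕ) = 152 := by
  have h1 := rangeS_sound (nat_lit 6156) _ (nat_lit 13) (nat_lit 0) k_fixc i (Nat.zero_le _) (lt_of_lt_of_le i.2 (by decide)) i.2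
  rw [pt_of_fix h] at h1
  cases h2 : Nat.beq i 0
  · rw [h2] at h1
    cases h3 : Nat.beq i 152
    · rw [h3] at h1; exact absurd h1 (by simp)
    · right; exact Nat.eq_of_beq_eq_true h3
  · left; exact Nat.eq_of_beq_eq_true h2

/-! ### The centralizer of c -/

theorem e_not : ∀ k : ℕ, c * ev X ew ≠ ev X ew * c ^ k := by
  intro k h
  have h1 : c ^ k = c ^ (k % 17) := by
    rw [← c_ord, pow_mod_orderOf]
  rw [h1] at h
  have h2 := List.all_eq_true.1 k_ce (k % 17) (List.mem_range.2 (Nat.mod_lt _ (by norm_num)))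
  rw [Bool.not_eq_true'] at h2
  apply ne_of_eqb h2
  rw [ev_append, ev_append, ev_powW]
  exact h

/-- the Sylow subgroup in the stabilizer -/
noncomputable def PS : Sylow 17 (St bs.1) := Sylow.ofCard (Subgroup.zpowers ⟨c, c_St⟩) (by
  rw [Nat.card_zpowers, card_St0, Subgroup.orderOf_mk, c_ord]
  have : (8160 : ℕ).factorization 17 = 1 := by
    have h1 : (8160 : ℕ) = 17 * 480 := by norm_num
    rw [h1, Nat.factorization_mul (by norm_num) (by norm_num), Finsupp.add_apply,
      Nat.Prime.factorization_self (by norm_num), Nat.factorization_eq_zero_of_not_dvd (by norm_num)]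
  rw [this, pow_one])

theorem PS_coe : (PS : Subgroup (St bs.1)) = Subgroup.zpowers ⟨c, c_St⟩ := rfl

theorem card_N : Nat.card (Subgroup.normalizer ((PS : Subgroup (St bs.1)) : Set (St bs.1))) ≤ 68 := by
  have h1 := card_sylow_modEq_one 17 (St bs.1)
  have h2 : Nat.card (Sylow 17 (St bs.1)) = (Subgroup.normalizer ((PS : Subgroup (St bs.1)) : Set (St bs.1))).index :=
    Sylow.card_eq_index_normalizer PS
  have h3 := Sylow.card_dvd_index PS
  have h4 := Subgroup.card_mul_index (PS : Subgroup (St bs.1))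
  have h5 : Nat.card (PS : Subgroup (St bs.1)) = 17 := by
    rw [PS_coe, Nat.card_zpowers, Subgroup.orderOf_mk, c_ord]
  rw [h5, card_St0] at h4
  have h6 : (PS : Subgroup (St bs.1)).index = 480 := by omega
  rw [h6] at h3
  have h7 : Nat.card (Sylow 17 (St bs.1)) ≠ 1 := by
    intro h8
    haveI : Subsingleton (Sylow 17 (St bs.1)) := (Nat.card_eq_one_iff_unique.1 h8).1
    have h9 : (PS : Subgroup (St bs.1)).Normal := inferInstance
    have h10 := h9.conj_mem ⟨c, c_St⟩ (Subgroup.mem_zpowers _) (⟨ev X ew, e_St⟩⁻¹)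
    rw [PS_coe, Subgroup.mem_zpowers_iff] at h10
    obtain ⟨k, hk⟩ := h10
    have h11 : c ^ k = (ev X ew)⁻¹ * c * (ev X ew) := by
      have := congrArg (fun g : St bs.1 => (g : J)) hk
      simpa using this
    have h12 : c ^ k = c ^ (k % 17).toNat := by
      have h13 : ((k % 17).toNat : ℤ) = k % 17 := Int.toNat_of_nonneg (Int.emod_nonneg _ (by norm_num))
      rw [← zpow_natCast, h13]
      have := (zpow_mod_orderOf c k)
      rw [c_ord] at this
      exact this.symm
    apply e_not (k % 17).toNat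
    rw [← h12, h11]; group
  have h8 : Nat.card (Sylow 17 (St bs.1)) = 120 := by
    generalize Nat.card (Sylow 17 (St bs.1)) = m at *
    have h9 : m ≤ 480 := Nat.le_of_dvd (by norm_num) h3
    have h10 : m % 17 = 1 := h1
    obtain ⟨k, hk⟩ := h3
    have key : ∀ m < 481, m % 17 = 1 → 480 % m = 0 → m ≠ 1 → m = 120 := by decide +kernel
    exact key m (by omega) h10 (by rw [hk]; exact Nat.mul_mod_right _ _) h7
  rw [h8] at h2
  have h9 := Subgroup.card_mul_index (Subgroup.normalizer ((PS : Subgroup (St bs.1)) : Set (St bs.1)))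
  rw [card_St0, ← h2] at h9
  omega

/-- the normalizer of the group generated by c -/
noncomputable def K : Subgroup J := Subgroup.normalizer ((Subgroup.zpowers c : Subgroup J) : Set J)

theorem mem_K {g : J} : g ∈ K ↔ ∀ h, h ∈ Subgroup.zpowers c ↔ g * h * g⁻¹ ∈ Subgroup.zpowers c := Subgroup.mem_normalizer_iff

theorem mem_PS {h : St bs.1} : h ∈ (PS : Subgroup (St bs.1)) ↔ (h : J) ∈ Subgroup.zpowers c := by
  rw [PS_coe, Subgroup.mem_zpowers_iff, Subgroup.mem_zpowers_iff]
  constructor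
  · rintro ⟨k, hk⟩
    exact ⟨k, by rw [← hk]; rfl⟩
  · rintro ⟨k, hk⟩
    exact ⟨k, Subtype.ext (by rw [← hk]; rfl)⟩

theorem card_K0 : Nat.card (K ⊓ St bs.1 : Subgroup J) ≤ 68 := by
  refine le_trans ?_ card_N
  have h1 : ∀ g : (K ⊓ St bs.1 : Subgroup J), (⟨(g : J), g.2.2⟩ : St bs.1) ∈ Subgroup.normalizer ((PS : Subgroup (St bs.1)) : Set (St bs.1)) := by
    intro g
    rw [Subgroup.mem_normalizer_iff]
    intro h
    have h2 := mem_K.1 g.2.1 (h : J)
    have h4 : (⟨(g : J), g.2.2⟩ * h * (⟨(g : J), g.2.2⟩)⁻¹ : St bs.1) ∈ (PS : Subgroup (St bs.1)) ↔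
      (g : J) * (h : J) * (g : J)⁻¹ ∈ Subgroup.zpowers c := mem_PS
    exact mem_PS.trans (h2.trans h4.symm)
  refine Nat.card_le_card_of_injective (fun g : (K ⊓ St bs.1 : Subgroup J) => (⟨⟨(g : J), g.2.2⟩, h1 g⟩ :
    Subgroup.normalizer ((PS : Subgroup (St bs.1)) : Set (St bs.1)))) ?_
  intro g g' h
  have h5 := congrArg (fun x : Subgroup.normalizer ((PS : Subgroup (St bs.1)) : Set (St bs.1)) => ((x : St bs.1) : J)) h
  exact Subtype.ext h5

/-- the fixed points of c -/
def SF : Finset (Fin 6156) := {⟨0, by decide⟩, ⟨152, by decide⟩}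

theorem card_K : Nat.card K ≤ 136 := by
  have h1 : Nat.card K ≤ 2 * Nat.card (K ⊓ St bs.1 : Subgroup J) := by
    refine card_le_fix2 K bs.1 SF 2 (by unfold SF; exact Finset.card_le_two) ?_
    intro g hg
    have h2 : g⁻¹ * c * g ∈ Subgroup.zpowers c := by
      have h3 := (mem_K.1 (inv_mem hg) c).1 (Subgroup.mem_zpowers c)
      rwa [inv_inv] at h3
    have h3 : g⁻¹ * c * g ∈ St bs.1 := by
      have h4 : Subgroup.zpowers c ≤ St bs.1 := by
        rw [Subgroup.zpowers_le]; exact c_St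
      exact h4 h2
    have h4 : phi c (phi g bs.1) = phi g bs.1 := by
      have h5 : phi (g⁻¹ * c * g) bs.1 = bs.1 := h3
      rw [map_mul, map_mul, map_inv, Equiv.Perm.mul_apply, Equiv.Perm.mul_apply, Equiv.Perm.inv_eq_iff_eq] at h5
      exact h5
    unfold SF
    rw [Finset.mem_insert, Finset.mem_singleton]
    rcases fix_c h4 with h | h
    · left; exact Fin.ext h
    · right; exact Fin.ext h
  have h2 := card_K0
  omega

theorem nK : nn ∈ K := by
  have h1 : ∀ h ∈ Subgroup.zpowers c, nn⁻¹ * h * nn ∈ Subgroup.zpowers c := by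
    intro h hh
    rw [Subgroup.mem_zpowers_iff] at hh
    obtain ⟨k, rfl⟩ := hh
    have : nn⁻¹ * c ^ k * nn = (nn⁻¹ * c * nn) ^ k := by
      have h3 := (MulAut.conj nn⁻¹).toMonoidHom.map_zpow c k
      simpa using h3
    rw [this, nc]
    exact Subgroup.zpow_mem _ (Subgroup.pow_mem _ (Subgroup.mem_zpowers c) 2) k
  have h2 : (Subgroup.zpowers c).map (MulAut.conj nn⁻¹).toMonoidHom = Subgroup.zpowers c := by
    haveI : Finite (Subgroup.zpowers c) := inferInstance
    apply Subgroup.eq_of_le_of_card_ge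
    · rintro _ ⟨h, hh, rfl⟩
      have := h1 h hh
      simpa using this
    · rw [Subgroup.card_map_of_injective (MulAut.conj nn⁻¹).injective]
  rw [← inv_mem_iff, mem_K]
  intro h
  rw [inv_inv]
  constructor
  · exact h1 h
  · intro h3
    rw [← h2] at h3
    obtain ⟨h', hh', he⟩ := h3
    have h4 : nn⁻¹ * h' * nn = nn⁻¹ * h * nn := by simpa using he
    have h5 : h' = h := by
      have := mul_right_cancel h4
      exact mul_left_cancel this
    rw [← h5]; exact hh'

theorem n_pow (i : ℕ) : (nn ^ i)⁻¹ * c * nn ^ i = c ^ 2 ^ i := by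
  induction i with
  | zero => simp
  | succ i ih =>
    have h1 : (nn ^ (i + 1))⁻¹ * c * nn ^ (i + 1) = nn⁻¹ * ((nn ^ i)⁻¹ * c * nn ^ i) * nn := by
      rw [pow_succ]; group
    have h2 : nn⁻¹ * c ^ 2 ^ i * nn = (nn⁻¹ * c * nn) ^ 2 ^ i := by
      have h3 := (MulAut.conj nn⁻¹).toMonoidHom.map_pow c (2 ^ i)
      simpa using h3
    rw [h1, ih, h2, nc, ← pow_mul, pow_succ, mul_comm]

theorem card_cen : Nat.card (Subgroup.centralizer ({c} : Set J)) ≤ 17 := by
  have h1 : Function.Injective (fun p : (Subgroup.centralizer ({c} : Set J)) × Fin 8 =>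
      (⟨(p.1 : J) * nn ^ (p.2 : ℕ), mul_mem (by
        have h := Subgroup.mem_centralizer_singleton_iff.1 p.1.2
        rw [mem_K]
        intro x
        constructor
        · intro hx
          rw [Subgroup.mem_zpowers_iff] at hx
          obtain ⟨k, rfl⟩ := hx
          have h2 : Commute (p.1 : J) (c ^ k) := Commute.zpow_right h k
          rw [h2.eq, mul_inv_cancel_right]
          exact Subgroup.zpow_mem _ (Subgroup.mem_zpowers c) k
        · intro hx
          rw [Subgroup.mem_zpowers_iff] at hx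
          obtain ⟨k, hk⟩ := hx
          have h2 : Commute (p.1 : J) (c ^ k) := Commute.zpow_right h k
          have h3 : x = (p.1 : J)⁻¹ * c ^ k * (p.1 : J) := by rw [hk]; group
          rw [h3, mul_assoc, ← h2.eq, inv_mul_cancel_left]
          exact Subgroup.zpow_mem _ (Subgroup.mem_zpowers c) k) (pow_mem nK _)⟩ : K)) := by
    rintro ⟨g, i⟩ ⟨g', j⟩ h
    have h2 : (g : J) * nn ^ (i : ℕ) = (g' : J) * nn ^ (j : ℕ) := congrArg (fun x : K => (x : J)) h
    have h3 : ∀ (g : Subgroup.centralizer ({c} : Set J)) (i : ℕ), ((g : J) * nn ^ i)⁻¹ * c * ((g : J) * nn ^ i) = c ^ 2 ^ i := by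
      intro g i
      have h4 := Subgroup.mem_centralizer_singleton_iff.1 g.2
      rw [← n_pow, mul_inv_rev]
      have h5 : (nn ^ i)⁻¹ * (g : J)⁻¹ * c * ((g : J) * nn ^ i) = (nn ^ i)⁻¹ * ((g : J)⁻¹ * (c * (g : J))) * nn ^ i := by group
      rw [h5, ← h4, inv_mul_cancel_left]
    have h4 : c ^ 2 ^ (i : ℕ) = c ^ 2 ^ (j : ℕ) := by rw [← h3 g, ← h3 g', h2]
    have h5 := pow_eq_pow_iff_modEq.1 h4
    rw [c_ord] at h5
    have key : ∀ i j : Fin 8, 2 ^ (i : ℕ) % 17 = 2 ^ (j : ℕ) % 17 → i = j := by decide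
    have h6 := key i j h5
    subst h6
    have h7 : (g : J) = g' := mul_right_cancel h2
    exact Prod.ext (Subtype.ext h7) rfl
  have h2 := Nat.card_le_card_of_injective _ h1
  rw [Nat.card_prod, Nat.card_fin] at h2
  have h3 := card_K
  omega

theorem cen_c {g : J} (h : g * c = c * g) : g ∈ Subgroup.zpowers c := by
  have h1 : Subgroup.zpowers c = Subgroup.centralizer ({c} : Set J) := by
    apply Subgroup.eq_of_le_of_card_ge
    · rw [Subgroup.zpowers_le, Subgroup.mem_centralizer_singleton_iff]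
    · rw [Nat.card_zpowers, c_ord]; exact card_cen
  rw [h1, Subgroup.mem_centralizer_singleton_iff]
  exact h

end Cfsg.Agent.H20.J3O
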