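import Cfsg.Agent.H20_J3O2

/-!
The outer automorphism group of J3, second part.
-/

set_option autoImplicit false
set_option maxRecDepth 100000

namespace Cfsg.Agent.H20.J3O

open Cfsg.Agent.H8.CE Cfsg.Agent.H8.CS Cfsg.Agent.H8.Net Cfsg.Agent.H8.Act Cfsg.Agent.H8.Act2 Cfsg.Agent.H8.Cox
open Cfsg.Agent.H20 Cfsg.Agent.H20.PT Cfsg.Agent.H20.J3P Cfsg.Agent.H20.LG Cfsg.Agent.H20.J3D Cfsg.Agent.H20.J3M Cfsg.Agent.H20.J3C

attribute [local irreducible] cw nw ew b2w b2i uw vw bwl cands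

/-- the sixteenth element -/
noncomputable def u : J := eQ 16
noncomputable def v : J := eQ 21

theorem u_fl : u = ev X (fl gsQ psQ 16) := eQ_fl 16
theorem v_fl : v = ev X (fl gsQ psQ 21) := eQ_fl 21
theorem u_w : u = ev X uw := u_fl.trans (eqb_sound k_u)
theorem v_w : v = ev X vw := v_fl.trans (eqb_sound k_v)
theorem u_ne_v : u ≠ v := by rw [u_fl, v_fl]; exact ne_of_eqb k_1621
theorem u_ne_z : u ≠ z := by rw [u_fl, ← ev1]; exact ne_of_eqb k_16z
theorem u_ne_one : u ≠ 1 := by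
  have := ne_of_eqb k_160
  rwa [← u_fl, ev_nil] at this
theorem u_sq : u * u = 1 := by
  have := eqb_sound k_16
  rwa [ev_append, ← u_fl, ev_nil] at this
theorem cu10 : (c * u) ^ 10 = 1 := by
  have := eqb_sound k_10
  rwa [ev_powW, ev_append, ← u_fl, ev_nil] at this

/-! ### Automorphisms fixing everything -/

theorem x2_word : X 2 = (bwl.map fun i => ev X (gw i)).prod := by
  have h1 := eqb_sound k_b
  have h2 : ∀ l : List ℕ, ev X (l.flatMap gw) = (l.map fun i => ev X (gw i)).prod := by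
    intro l
    induction l with
    | nil => simp
    | cons i l ih => rw [List.flatMap_cons, ev_append, ih, List.map_cons, List.prod_cons]
  rw [h2] at h1
  have h3 : ev X [2] = X 2 := by rw [ev_cons, ev_nil, mul_one]
  rw [← h3, ← h1]

theorem gw_fix {β : J →* J} (hc : β c = c) (hz : β z = z) (hu : β u = u) (i : ℕ) : β (ev X (gw i)) = ev X (gw i) := by
  rcases i with _ | _ | _ | i
  · exact hc
  · have h1 : ev X (gw 1) = z * (c * z) := by
      show ev X (1 :: (cw ++ [1])) = _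
      rw [ev_cons, ev_append, ev1]; rfl
    show β (ev X (gw 1)) = ev X (gw 1)
    rw [h1, map_mul, map_mul, hc, hz]
  · have h1 : ev X (gw 2) = z := ev1
    show β (ev X (gw 2)) = ev X (gw 2)
    rw [h1, hz]
  · have h1 : ev X (gw (i + 3)) = u := u_fl.symm
    show β (ev X (gw (i + 3))) = ev X (gw (i + 3))
    rw [h1, hu]

theorem fix_all {β : J →* J} (hc : β c = c) (hz : β z = z) (hu : β u = u) : β = MonoidHom.id J := by
  have h2 : β (X 2) = X 2 := by
    rw [x2_word, map_list_prod, List.map_map]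
    congr 1
    apply List.map_congr_left
    intro i _
    exact gw_fix hc hz hu i
  apply PresentedGroup.ext
  intro g
  cases g
  · exact hz
  · exact h2

/-! ### The outer automorphism -/

/-- images of generators -/
noncomputable def fT : J3R.Gen → J
  | .a => z
  | .b => ev X b2w

theorem bi : ev X b2i = (ev X b2w)⁻¹ := by
  have h := eqb_sound k_inv
  rw [ev_append, ev_nil] at h
  exact eq_inv_of_mul_eq_one_right h

theorem z_inv : z⁻¹ = z := inv_eq_of_mul_eq_one_left z_sq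

theorem fT_sr (y : ℕ) (hy : y < 8) : xF fT J3R.lm y = ev X (sr y) := by
  have e1 : ev X [1] = z := ev1
  interval_cases y
  · simp [xF, J3R.lm, sr]
  · simp only [xF, J3R.lm, sr, J3R.a, List.getD_cons_succ, List.getD_cons_zero, FreeGroup.lift_apply_of, e1, fT]
  · simp only [xF, J3R.lm, sr, J3R.b, List.getD_cons_succ, List.getD_cons_zero, FreeGroup.lift_apply_of, fT]
  · simp only [xF, J3R.lm, sr, J3R.b, List.getD_cons_succ, List.getD_cons_zero, map_inv, FreeGroup.lift_apply_of, fT, bi]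
  · simp only [xF, J3R.lm, sr, J3R.a, J3R.b, J3R.c, List.getD_cons_succ, List.getD_cons_zero, map_inv, map_mul, FreeGroup.lift_apply_of, fT,
      ev_append, bi, e1]
    try simp only [mul_assoc]
  · simp only [xF, J3R.lm, sr, J3R.a, J3R.b, J3R.c, List.getD_cons_succ, List.getD_cons_zero, map_inv, map_mul, FreeGroup.lift_apply_of, fT,
      ev_append, bi, e1, mul_inv_rev, inv_inv, z_inv]
    try simp only [mul_assoc]
  · simp only [xF, J3R.lm, sr, J3R.a, J3R.b, J3R.e, List.getD_cons_succ, List.getD_cons_zero, map_inv, map_mul, FreeGroup.lift_apply_of, fT,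
      ev_append, bi, e1]
    try simp only [mul_assoc]
  · simp only [xF, J3R.lm, sr, J3R.a, J3R.b, J3R.e, List.getD_cons_succ, List.getD_cons_zero, map_inv, map_mul, FreeGroup.lift_apply_of, fT,
      ev_append, bi, e1, mul_inv_rev, inv_inv, z_inv]
    try simp only [mul_assoc]

theorem fT_rels : ∀ w ∈ J3R.rels, ev (xF fT J3R.lm) w = 1 := by
  intro w hw
  have h1 := eqb_sound (List.all_eq_true.1 k_rel w hw)
  have h2 : (J3R.rels.all fun w => w.all fun y => y < 8) = true := by decide +kernel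
  have h3 := List.all_eq_true.1 (List.all_eq_true.1 h2 w hw)
  have h4 : ∀ l : List ℕ, (∀ y ∈ l, y < 8) → ev (xF fT J3R.lm) l = ev X (l.flatMap sr) := by
    intro l
    induction l with
    | nil => intro _; rfl
    | cons y l ih =>
      intro h
      rw [ev_cons, List.flatMap_cons, ev_append, ih fun y hy => h y (List.mem_cons_of_mem _ hy), fT_sr y (h y List.mem_cons_self)]
  rw [h4 w (fun y hy => by simpa using h3 y hy), h1, ev_nil]

/-- the endomorphism -/
noncomputable def τh : J →* J := PresentedGroup.toGroup (f := fT) (J3R.lifts fT fT_rels)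

theorem τ_X (y : ℕ) : τh (X y) = ev X (sb y) := by
  have e1 : τh (X 1) = ev X (sb 1) := by
    show τh (PresentedGroup.of J3R.Gen.a) = ev X [1]
    rw [ev1]
    exact PresentedGroup.toGroup.of _
  have e2 : τh (X 2) = ev X (sb 2) := by
    show τh (PresentedGroup.of J3R.Gen.b) = ev X b2w
    exact PresentedGroup.toGroup.of _
  have e3 : ∀ y, X (y + 3) = (X 2)⁻¹ := by
    intro y
    show x 3 = (x 2)⁻¹
    have := hic 2 (by decide)
    rwa [show il J3R.ic 2 = 3 by decide] at this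
  have e0 : X 0 = (X 2)⁻¹ := e3 0
  rcases y with _ | _ | _ | y
  · show τh (X 0) = ev X b2i
    rw [e0, map_inv, e2, bi]; rfl
  · exact e1
  · exact e2
  · show τh (X (y + 3)) = ev X b2i
    rw [e3, map_inv, e2, bi]; rfl

theorem τ_ev (w : List ℕ) : τh (ev X w) = ev X (w.flatMap sb) := by
  induction w with
  | nil => simp
  | cons y w ih => rw [ev_cons, map_mul, ih, List.flatMap_cons, ev_append, τ_X]

theorem τh_c : τh c = c := (τ_ev cw).trans (eqb_sound k_tc)
theorem τh_z : τh z = z := (τ_X 1).trans ev1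
theorem τh_u : τh u = v := by rw [u_w, v_w, τ_ev]; exact eqb_sound k_tu
theorem τh_v : τh v = u := by rw [u_w, v_w, τ_ev]; exact eqb_sound k_tv

theorem τh_sq : τh.comp τh = MonoidHom.id J := fix_all
  (by rw [MonoidHom.comp_apply, τh_c, τh_c]) (by rw [MonoidHom.comp_apply, τh_z, τh_z]) (by rw [MonoidHom.comp_apply, τh_u, τh_v])

/-- the outer automorphism -/
noncomputable def τ : MulAut J := MonoidHom.toMulEquiv τh τh τh_sq τh_sq

theorem τ_c : τ c = c := τh_c
theorem τ_z : τ z = z := τh_z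
theorem τ_u : τ u = v := τh_u
theorem τ_v : τ v = u := τh_v
theorem τ_sq : τ * τ = 1 := by
  apply MulEquiv.ext
  intro g
  exact DFunLike.congr_fun τh_sq g

theorem c_zpow_eq {k : ℤ} : c ^ k = 1 ↔ k % 17 = 0 := by
  rw [← orderOf_dvd_iff_zpow_eq_one, c_ord]
  exact ⟨fun h => Int.emod_eq_zero_of_dvd h, fun h => Int.dvd_of_emod_eq_zero h⟩

theorem z_conj_zpow (k : ℤ) : z * c ^ k * z = c ^ (-k) := by
  have h1 : z * c ^ k * z = (z * c * z⁻¹) ^ k := by
    have h3 := (MulAut.conj z).toMonoidHom.map_zpow c k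
    have h4 : z * c ^ k * z⁻¹ = (z * c * z⁻¹) ^ k := by simpa using h3
    rw [← h4, z_inv]
  rw [h1, z_inv, za, inv_zpow, zpow_neg]

theorem τ_not_inner : τ ∉ Cfsg.Inn J := by
  rintro ⟨g, hg⟩
  have h1 : ∀ x, g * x * g⁻¹ = τ x := fun x => DFunLike.congr_fun hg x
  have hc : g * c = c * g := by
    have := h1 c
    rw [τ_c] at this
    exact mul_inv_eq_iff_eq_mul.1 this
  have hz : g * z = z * g := by
    have := h1 z
    rw [τ_z] at this
    exact mul_inv_eq_iff_eq_mul.1 this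
  obtain ⟨k, rfl⟩ := Subgroup.mem_zpowers_iff.1 (cen_c hc)
  have h2 : c ^ k = c ^ (-k) := by
    rw [← z_conj_zpow, ← hz, mul_assoc, z_sq, mul_one]
  have h3 : c ^ (2 * k) = 1 := by
    rw [two_mul, zpow_add]
    nth_rewrite 2 [h2]
    rw [zpow_neg, mul_inv_cancel]
  rw [c_zpow_eq] at h3
  have h4 : c ^ k = 1 := by rw [c_zpow_eq]; omega
  have h5 := h1 u
  rw [h4, one_mul, inv_one, mul_one, τ_u] at h5
  exact u_ne_v h5

/-! ### Normalisation -/

theorem zpowers_J : ∃ P : Sylow 17 J, (P : Subgroup J) = Subgroup.zpowers c := ⟨Sylow.ofCard (Subgroup.zpowers c) (by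
  rw [Nat.card_zpowers, card_J, c_ord]
  have : (50232960 : ℕ).factorization 17 = 1 := by
    have h1 : (50232960 : ℕ) = 17 * 2954880 := by norm_num
    rw [h1, Nat.factorization_mul (by norm_num) (by norm_num), Finsupp.add_apply,
      Nat.Prime.factorization_self (by norm_num), Nat.factorization_eq_zero_of_not_dvd (by norm_num)]
  rw [this, pow_one]), rfl⟩

theorem norm1 (σ : MulAut J) : ∃ g : J, ∃ k : ℕ, k < 17 ∧ k ≠ 0 ∧ (MulAut.conj g * σ) c = c ^ k := by
  classical
  obtain ⟨P, hP⟩ := zpowers_J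
  have h1 : orderOf (σ c) = 17 := by rw [MulEquiv.orderOf_eq, c_ord]
  have h2 : IsPGroup 17 (Subgroup.zpowers (σ c)) := IsPGroup.of_card (n := 1) (by rw [Nat.card_zpowers, h1, pow_one])
  obtain ⟨Q, hQ⟩ := h2.exists_le_sylow
  obtain ⟨g, hg⟩ := MulAction.exists_smul_eq J Q P
  have h3 : g * σ c * g⁻¹ ∈ (P : Subgroup J) := by
    rw [← hg, Sylow.coe_subgroup_smul]
    exact Subgroup.smul_mem_pointwise_smul _ (MulAut.conj g) _ (hQ (Subgroup.mem_zpowers _))
  rw [hP, mem_zpowers_iff_mem_range_orderOf, c_ord, Finset.mem_image] at h3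
  obtain ⟨k, hk, he⟩ := h3
  refine ⟨g, k, Finset.mem_range.1 hk, ?_, ?_⟩
  · rintro rfl
    rw [pow_zero] at he
    have h4 : σ c = 1 := by
      have : σ c = g⁻¹ * (g * σ c * g⁻¹) * g := by group
      rw [this, ← he]; group
    have h5 : c = 1 := σ.injective (by rw [h4, map_one])
    exact c_ne h5
  · exact he.symm

theorem conj_n (j k : ℕ) : MulAut.conj (nn ^ j)⁻¹ (c ^ k) = c ^ (k * 2 ^ j) := by
  rw [map_pow, MulAut.conj_apply, inv_inv, n_pow, ← pow_mul, mul_comm]

theorem norm2 (σ : MulAut J) : ∃ g : J, (MulAut.conj g * σ) c = c ∨ (MulAut.conj g * σ) c = c ^ 3 := by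
  obtain ⟨g, k, hk, hk0, h1⟩ := norm1 σ
  have key : ∀ k < 17, k ≠ 0 → ∃ j < 8, k * 2 ^ j % 17 = 1 ∨ k * 2 ^ j % 17 = 3 := by decide
  obtain ⟨j, hj, h2⟩ := key k hk hk0
  refine ⟨(nn ^ j)⁻¹ * g, ?_⟩
  have h3 : (MulAut.conj ((nn ^ j)⁻¹ * g) * σ) c = c ^ (k * 2 ^ j) := by
    rw [map_mul, mul_assoc, MulAut.mul_apply, h1, conj_n]
  rw [h3, ← pow_mod_orderOf, c_ord]
  rcases h2 with h2 | h2
  · left; rw [h2, pow_one]
  · right; rw [h2]

theorem norm3 (σ : MulAut J) : ∃ g : J, (MulAut.conj g * σ) z = z ∧ ((MulAut.conj g * σ) c = c ∨ (MulAut.conj g * σ) c = c ^ 3) := by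
  obtain ⟨g, h1⟩ := norm2 σ
  obtain ⟨β, hβ⟩ : ∃ β : MulAut J, β = MulAut.conj g * σ := ⟨_, rfl⟩
  rw [← hβ] at h1
  have h2 : β z * β c * β z = (β c)⁻¹ := by rw [← map_mul, ← map_mul, za, map_inv]
  have h3 : β z * β z = 1 := by rw [← map_mul, z_sq, map_one]
  have h3' : (β z)⁻¹ = β z := inv_eq_of_mul_eq_one_left h3
  have h4 : β z * c * β z = c⁻¹ := by
    rcases h1 with h1 | h1
    · rwa [h1] at h2
    · rw [h1] at h2
      have h5 : c = (c ^ 3) ^ 6 := by
        rw [← pow_mul, ← pow_mod_orderOf, c_ord]; norm_num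
      have h6 : β z * (c ^ 3) ^ 6 * β z = (β z * c ^ 3 * (β z)⁻¹) ^ 6 := by
        have h7 := (MulAut.conj (β z)).toMonoidHom.map_pow (c ^ 3) 6
        have h8 : β z * (c ^ 3) ^ 6 * (β z)⁻¹ = (β z * (c ^ 3) * (β z)⁻¹) ^ 6 := by simpa using h7
        rw [← h8, h3']
      calc β z * c * β z = β z * (c ^ 3) ^ 6 * β z := by rw [← h5]
        _ = c⁻¹ := by rw [h6, h3', h2, inv_pow, ← h5]
  have h5 : β z * z * c = c * (β z * z) := by
    have h6 : z * c = c⁻¹ * z := by rw [← za, mul_assoc, z_sq, mul_one]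
    have h7 : β z * c⁻¹ = c * β z := by
      have : (β z * c * β z)⁻¹ = c := by rw [h4, inv_inv]
      rw [mul_inv_rev, mul_inv_rev, h3', ← mul_assoc] at this
      nth_rewrite 2 [← this]
      rw [mul_assoc, h3, mul_one]
    rw [mul_assoc, h6, ← mul_assoc, h7, mul_assoc]
  obtain ⟨m, hm⟩ := Subgroup.mem_zpowers_iff.1 (cen_c h5)
  have h6 : β z = c ^ m * z := by rw [hm, mul_assoc, z_sq, mul_one]
  refine ⟨c ^ (8 * m) * g, ?_, ?_⟩
  · rw [map_mul, mul_assoc, ← hβ, MulAut.mul_apply, h6, MulAut.conj_apply]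
    have h7 : z * (c ^ (8 * m))⁻¹ = c ^ (8 * m) * z := by
      have := z_conj_zpow (-(8 * m))
      rw [neg_neg, zpow_neg] at this
      calc z * (c ^ (8 * m))⁻¹ = (z * (c ^ (8 * m))⁻¹ * z) * z := by rw [mul_assoc _ z z, z_sq, mul_one]
        _ = c ^ (8 * m) * z := by rw [this]
    rw [mul_assoc, mul_assoc, h7, ← mul_assoc, ← mul_assoc, ← zpow_add, ← zpow_add]
    have h8 : c ^ (8 * m + m + 8 * m) = 1 := by rw [c_zpow_eq]; omega
    rw [h8, one_mul]
  · rw [map_mul, mul_assoc, ← hβ, MulAut.mul_apply]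
    rcases h1 with h1 | h1
    · left
      rw [h1, MulAut.conj_apply, (Commute.zpow_left (Commute.refl c) (8 * m)).eq, mul_inv_cancel_right]
    · right
      rw [h1, MulAut.conj_apply, ((Commute.refl c).zpow_left (8 * m) |>.pow_right 3).eq, mul_inv_cancel_right]

end Cfsg.Agent.H20.J3O
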