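import Cfsg.Agent.H20_J3O3

/-!
The outer automorphism group of J3, last part.
-/

set_option autoImplicit false
set_option maxRecDepth 100000

namespace Cfsg.Agent.H20.J3O

open Cfsg.Agent.H8.CE Cfsg.Agent.H8.CS Cfsg.Agent.H8.Net Cfsg.Agent.H8.Act Cfsg.Agent.H8.Act2 Cfsg.Agent.H8.Cox
open Cfsg.Agent.H20 Cfsg.Agent.H20.PT Cfsg.Agent.H20.J3P Cfsg.Agent.H20.LG Cfsg.Agent.H20.J3D Cfsg.Agent.H20.J3M Cfsg.Agent.H20.J3C

attribute [local irreducible] cw nw ew b2w b2i uw vw bwl cands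

/-- the extraspecial group is invariant -/
theorem Q0_inv (β : MulAut J) (hz : β z = z) {x : J} (hx : x ∈ Q0) : β x ∈ Q0 := by
  have hC : ∀ g, g ∈ C → β g ∈ C := by
    intro g hg
    rw [mem_C] at hg ⊢
    nth_rewrite 1 [← hz]
    nth_rewrite 2 [← hz]
    rw [← map_mul, hg, map_mul]
  have hC' : ∀ g, β g ∈ C → g ∈ C := by
    intro g hg
    rw [mem_C] at hg ⊢
    apply β.injective
    rw [map_mul, map_mul, hz, hg]
  obtain ⟨f⟩ := quotA5
  let θ : C →* C :=
    { toFun := fun g => ⟨β g, hC g g.2⟩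
      map_one' := Subtype.ext (map_one β)
      map_mul' := fun a b => Subtype.ext (map_mul β (a : J) (b : J)) }
  have hθ : Function.Surjective θ := by
    rintro ⟨g, hg⟩
    obtain ⟨y, rfl⟩ := β.surjective g
    exact ⟨⟨y, hC' y hg⟩, rfl⟩
  let q : C →* alternatingGroup (Fin 5) := f.toMonoidHom.comp (QuotientGroup.mk' QC)
  have hq : Function.Surjective q := f.surjective.comp (QuotientGroup.mk'_surjective QC)
  let Q1 : Subgroup (alternatingGroup (Fin 5)) := (QC.map θ).map q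
  haveI : (QC.map θ).Normal := QC_normal.map θ hθ
  haveI hn : Q1.Normal := Subgroup.Normal.map inferInstance q hq
  haveI := alternatingGroup.isSimpleGroup_five
  have h1 : Nat.card Q1 ≤ 32 := by
    have h2 : Nat.card Q1 ≤ Nat.card (QC.map θ) := Nat.card_le_card_of_surjective _ (q.subgroupMap_surjective (QC.map θ))
    have h3 : Nat.card (QC.map θ) ≤ Nat.card QC := Nat.card_le_card_of_surjective _ (θ.subgroupMap_surjective QC)
    rw [card_QC] at h3
    omega
  rcases hn.eq_bot_or_eq_top with h2 | h2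
  · have h3 : q (θ ⟨x, Q0_le hx⟩) ∈ Q1 := ⟨θ ⟨x, Q0_le hx⟩, ⟨⟨x, Q0_le hx⟩, hx, rfl⟩, rfl⟩
    rw [h2, Subgroup.mem_bot] at h3
    have h4 : f (QuotientGroup.mk' QC (θ ⟨x, Q0_le hx⟩)) = f 1 := h3.trans (map_one f).symm
    have h5 := f.injective h4
    have h6 : θ ⟨x, Q0_le hx⟩ ∈ QC := (QuotientGroup.eq_one_iff _).1 h5
    exact h6
  · rw [h2, Subgroup.card_top] at h1
    have h3 : Nat.card (alternatingGroup (Fin 5)) = 60 := by
      rw [Nat.card_eq_fintype_card]
      have := two_mul_card_alternatingGroup (α := Fin 5)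
      rw [Fintype.card_perm, Fintype.card_fin] at this
      have h5 : Nat.factorial 5 = 120 := by decide
      omega
    omega

theorem u_mem : u ∈ Q0 := eQ_mem (by decide)

theorem norm4 (σ : MulAut J) : ∃ g : J, (MulAut.conj g * σ) z = z ∧ (MulAut.conj g * σ) c = c ∧
    ((MulAut.conj g * σ) u = u ∨ (MulAut.conj g * σ) u = v) := by
  obtain ⟨g, hz, hc⟩ := norm3 σ
  refine ⟨g, hz, ?_⟩
  obtain ⟨β, hβ⟩ : ∃ β : MulAut J, β = MulAut.conj g * σ := ⟨_, rfl⟩
  rw [← hβ] at hz hc ⊢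
  obtain ⟨i, hi, hiu⟩ := Q0_all (Q0_inv β hz u_mem)
  have h1 : i ≠ 0 := by
    rintro rfl
    rw [eQ_zero] at hiu
    exact u_ne_one (β.injective (hiu.trans (map_one β).symm))
  have h2 : i ≠ zi := by
    rintro rfl
    rw [eQ_zi] at hiu
    exact u_ne_z (β.injective (hiu.trans hz.symm))
  have h3 : mQ i i = 0 := by
    apply eQ_inj (mQ_lt hi hi) (by decide)
    rw [← eQ_mul hi hi, ← hiu, ← map_mul, u_sq, map_one, eQ_zero]
  have h4 := k_cands hi h1 h2 h3
  have h5 : (β c * eQ i) ^ 10 = 1 := by rw [← hiu, ← map_mul, ← map_pow, cu10, map_one]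
  rcases hc with hc | hc
  · refine ⟨hc, ?_⟩
    rw [hc] at h5
    have h6 := List.all_eq_true.1 k_c1c i h4
    rw [Bool.or_eq_true, Bool.or_eq_true, beq_iff_eq, beq_iff_eq, Bool.not_eq_true'] at h6
    rcases h6 with rfl | rfl | h6
    · left; exact hiu
    · right; exact hiu
    · exfalso
      apply ne_of_eqb h6
      rw [ev_powW, ev_append, ← eQ_fl, ev_nil]
      exact h5
  · exfalso
    rw [hc] at h5
    have h6 := List.all_eq_true.1 k_c3 i h4
    rw [Bool.not_eq_true'] at h6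
    apply ne_of_eqb h6
    rw [ev_powW, ev_append, ev_append, ev_append, ← eQ_fl, ev_nil]
    have h7 : c ^ 3 * eQ i = c * (c * (c * eQ i)) := by
      rw [pow_succ, pow_two]; simp only [mul_assoc]
    rw [h7] at h5
    exact h5

theorem fix_one {β : MulAut J} (hc : β c = c) (hz : β z = z) (hu : β u = u) : β = 1 := by
  have h := fix_all (β := β.toMonoidHom) hc hz hu
  apply MulEquiv.ext
  intro g
  exact DFunLike.congr_fun h g

theorem index_J : (Cfsg.Inn J).index = 2 := by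
  rw [Subgroup.index_eq_two_iff]
  refine ⟨τ, fun b => ?_⟩
  obtain ⟨g, hz, hc, hu⟩ := norm4 b
  rcases hu with hu | hu
  · right
    have h2 := fix_one hc hz hu
    have h3 : b ∈ Cfsg.Inn J := by
      have h4 : (MulAut.conj g : MulAut J) ∈ Cfsg.Inn J := ⟨g, rfl⟩
      have h5 : MulAut.conj g * b ∈ Cfsg.Inn J := by rw [h2]; exact one_mem _
      exact ((Cfsg.Inn J).mul_mem_cancel_left h4).1 h5
    refine ⟨h3, fun h4 => ?_⟩
    exact τ_not_inner (((Cfsg.Inn J).mul_mem_cancel_left h3).1 h4)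
  · left
    have h2 : τ * (MulAut.conj g * b) = 1 := by
      apply fix_one
      · rw [MulAut.mul_apply, hc, τ_c]
      · rw [MulAut.mul_apply, hz, τ_z]
      · rw [MulAut.mul_apply, hu, τ_v]
    have h3 : b * τ ∈ Cfsg.Inn J := by
      have h4 : MulAut.conj g * (b * τ) = τ * (τ * (MulAut.conj g * b)) * τ⁻¹ := by
        have h5 : τ⁻¹ = τ := by rw [inv_eq_iff_mul_eq_one, τ_sq]
        rw [h5, ← mul_assoc τ τ, τ_sq, one_mul, mul_assoc]
      have h6 : MulAut.conj g * (b * τ) ∈ Cfsg.Inn J := by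
        rw [h4, h2, mul_one, mul_inv_cancel]; exact one_mem _
      have h7 : (MulAut.conj g : MulAut J) ∈ Cfsg.Inn J := ⟨g, rfl⟩
      exact ((Cfsg.Inn J).mul_mem_cancel_left h7).1 h6
    refine ⟨h3, fun h4 => ?_⟩
    exact τ_not_inner (((Cfsg.Inn J).mul_mem_cancel_left h4).1 h3)

theorem card_out {K : Type*} [Group K] (e : J ≃* K) : Nat.card (Cfsg.Out K) = 2 := by
  have h := OutC.out_congr e
  rw [index_J] at h
  exact h.symm

end Cfsg.Agent.H20.J3O
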