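import Cfsg.Agent.H8_Cox

/-!
A presentation of the Janko group J3 on its standard generators `a` (an involution) and `b` (order 3), in the letter
format of the coset enumeration library.
-/

set_option autoImplicit false
set_option maxRecDepth 100000

namespace Cfsg.Agent.H20.J3R

open Cfsg.Agent.H8 Cfsg.Agent.H8.CE Cfsg.Agent.H8.Net Cfsg.Agent.H8.Act Cfsg.Agent.H8.Cox

/-- the generators -/
inductive Gen : Type
  | a | b

/-- inverse letters -/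
def ic : ℕ := 1732584208

def a : FreeGroup Gen := FreeGroup.of .a
def b : FreeGroup Gen := FreeGroup.of .b
def c : FreeGroup Gen := a * b * a * b * a * b⁻¹
def e : FreeGroup Gen := a * b * a * b * a * b⁻¹ * a * b * a * b * a * b * a * b * a * b

/-- letters -/
def lm : List (FreeGroup Gen) := [1, a, b, b⁻¹, c, c⁻¹, e, e⁻¹]

/-- relators -/
def rels : List (List ℕ) := [
  [1, 1],
  [2, 2, 2],
  [1, 2, 1, 2, 1, 2, 1, 2, 1, 2, 1, 2, 1, 2, 1, 2, 1, 2, 1, 2, 1, 2, 1, 2, 1, 2, 1, 2, 1, 2, 1, 2, 1, 2, 1, 2, 1, 2],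
  [1, 3, 1, 2, 1, 3, 1, 2, 1, 3, 1, 2, 1, 3, 1, 2, 1, 3, 1, 2, 1, 3, 1, 2, 1, 3, 1, 2, 1, 3, 1, 2, 1, 3, 1, 2],
  [1, 2, 1, 2, 1, 2, 1, 2, 1, 2, 1, 2, 1, 3, 1, 3, 1, 3, 1, 3, 1, 3, 1, 2, 1, 2, 1, 2, 1, 2, 1, 2, 1, 2, 1, 3, 1, 3, 1, 3, 1, 3, 1, 3],
  [1, 2, 1, 2, 1, 3, 1, 2, 1, 2, 1, 3, 1, 2, 1, 3, 1, 3, 1, 2, 1, 3, 1, 2, 1, 2, 1, 3, 1, 2, 1, 2, 1, 3, 1, 2, 1, 3, 1, 3, 1, 2, 1, 3],
  [1, 2, 1, 2, 1, 2, 1, 3, 1, 2, 1, 3, 1, 2, 1, 3, 1, 2, 1, 2, 1, 2, 1, 3, 1, 2, 1, 3, 1, 2, 1, 3, 1, 2, 1, 3, 1, 3, 1, 2, 1, 3, 1, 2, 1, 3, 1, 2, 1, 3],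
  [1, 2, 1, 2, 1, 3, 5],
  [4, 4, 4, 4, 4, 4, 4, 4, 4, 4, 4, 4, 4, 4, 4, 4, 4],
  [1, 4, 1, 4, 1, 4],
  [1, 4, 4, 4, 4, 1, 5, 5, 5, 5, 5, 5, 1, 4, 4, 4, 4, 1, 5, 5, 5, 5, 5, 5],
  [1, 2, 1, 2, 1, 3, 1, 2, 1, 2, 1, 2, 1, 2, 1, 2, 7]]

/-- the letters in the free group -/
def fl (y : ℕ) : FreeGroup Gen := lm.getD y 1

/-- the relators as elements of the free group -/
def RR : Set (FreeGroup Gen) := {r | ∃ w ∈ rels, r = ev fl w}

section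
variable {K : Type} [Group K] (f : Gen → K)

theorem ev_xF (w : List ℕ) : ev (xF f lm) w = FreeGroup.lift f (ev fl w) := by
  induction w with
  | nil => simp
  | cons y w ih => rw [ev_cons, ev_cons, map_mul, ih]; rfl

theorem x1 : xF f lm 1 = f .a := by simp [xF, lm, a]
theorem x2 : xF f lm 2 = f .b := by simp [xF, lm, b]

theorem words (h : ∀ r ∈ RR, FreeGroup.lift f r = 1) :
    (∀ y, y < 16 → xF f lm (il ic y) = (xF f lm y)⁻¹) ∧ ∀ w ∈ rels, ev (xF f lm) w = 1 := by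
  have h2 : ∀ w ∈ rels, ev (xF f lm) w = 1 := by
    intro w hw
    rw [ev_xF]
    exact h _ ⟨w, hw, rfl⟩
  refine ⟨?_, h2⟩
  have ha := h2 [1, 1] (by decide +kernel)
  rw [ev_cons, ev_cons, ev_nil, mul_one] at ha
  intro y hy
  interval_cases y
  · rw [show il ic 0 = 0 by decide]; simp [xF, lm]
  · rw [show il ic 1 = 1 by decide]; exact eq_inv_of_mul_eq_one_left ha
  · rw [show il ic 2 = 3 by decide]; simp [xF, lm]
  · rw [show il ic 3 = 2 by decide]; simp [xF, lm]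
  · rw [show il ic 4 = 5 by decide]; simp [xF, lm]
  · rw [show il ic 5 = 4 by decide]; simp [xF, lm]
  · rw [show il ic 6 = 7 by decide]; simp [xF, lm]
  · rw [show il ic 7 = 6 by decide]; simp [xF, lm]
  · rw [show il ic 8 = 0 by decide]; simp [xF, lm]
  · rw [show il ic 9 = 0 by decide]; simp [xF, lm]
  · rw [show il ic 10 = 0 by decide]; simp [xF, lm]
  · rw [show il ic 11 = 0 by decide]; simp [xF, lm]
  · rw [show il ic 12 = 0 by decide]; simp [xF, lm]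
  · rw [show il ic 13 = 0 by decide]; simp [xF, lm]
  · rw [show il ic 14 = 0 by decide]; simp [xF, lm]
  · rw [show il ic 15 = 0 by decide]; simp [xF, lm]

theorem lifts (hrels : ∀ w ∈ rels, ev (xF f lm) w = 1) :
    ∀ r ∈ RR, FreeGroup.lift f r = 1 := by
  rintro r ⟨w, hw, rfl⟩
  rw [← ev_xF]
  exact hrels w hw

end

end Cfsg.Agent.H20.J3R
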