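import Cfsg.Agent.H20_J3Z

/-!
`J3 F ω` is isomorphic to the presented group; the centre of the triple cover.
-/

set_option autoImplicit false
set_option maxRecDepth 100000

namespace Cfsg.Agent.H20.J3W

open Cfsg.Agent.H8.CE Cfsg.Agent.H8.Act Cfsg.Agent.H20.J3X Cfsg.Agent.H20.J3Y Cfsg.Agent.H20.J3R Cfsg.Agent.H20.J3Z Cfsg.Spor Matrix
open Cfsg.Agent.H20.J3M (J)
open scoped MatrixGroups

theorem FH_of {F : Type*} [Field F] [Fintype F] {ω : F} (hF : Fintype.card F = 4) (hω : ω ^ 2 + ω + 1 = 0) : FH ω := by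
  refine ⟨?_, hω⟩
  have h1 : ((Fintype.card F : ℕ) : F) = 0 := Nat.cast_card_eq_zero F
  rw [hF] at h1
  have h2 : (2 : F) * 2 = 0 := by
    have : ((4 : ℕ) : F) = 2 * 2 := by norm_num
    rw [← this]; exact h1
  rcases mul_eq_zero.1 h2 with h | h <;> exact h

section
variable {F : Type*} [Field F] {ω : F}

theorem al_mem (h : FH ω) : al h ∈ threeJ3 F ω := by
  rw [T_eq h]; exact Subgroup.subset_closure (by simp)
theorem be_mem (h : FH ω) : be h ∈ threeJ3 F ω := by
  rw [T_eq h]; exact Subgroup.subset_closure (by simp)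

/-- the generators in the triple cover -/
def fT (h : FH ω) : Gen → threeJ3 F ω
  | .a => ⟨al h, al_mem h⟩
  | .b => ⟨be h, be_mem h⟩

theorem fT_val (h : FH ω) (r : FreeGroup Gen) : ((FreeGroup.lift (fT h) r : threeJ3 F ω) : GL F9 F) = FreeGroup.lift (f0 h) r := by
  have : (Subgroup.subtype (threeJ3 F ω)).comp (FreeGroup.lift (fT h)) = FreeGroup.lift (f0 h) := by
    apply FreeGroup.ext_hom
    intro x
    simp only [MonoidHom.comp_apply, FreeGroup.lift_apply_of]
    cases x <;> rfl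
  rw [← this]; rfl

theorem yT_val (h : FH ω) (w : List ℕ) (hw : ∀ y ∈ w, y < 8) :
    ((ev (fun y => FreeGroup.lift (fT h) (fl y)) w : threeJ3 F ω) : GL F9 F) = ev (yG h) w := by
  induction w with
  | nil => simp
  | cons y w ih =>
    rw [ev_cons, ev_cons, Subgroup.coe_mul, ih (fun z hz => hw z (by simp [hz])), fT_val, yG_lift h y (hw y (by simp))]

theorem central_of_smul {t : threeJ3 F ω} (c : F) (ht : ((t : GL F9 F) : Matrix F9 F9 F) = c • (1 : Matrix F9 F9 F)) :
    t ∈ Subgroup.center (threeJ3 F ω) := by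
  rw [Subgroup.mem_center_iff]
  intro g
  apply Subtype.ext
  apply Units.ext
  show ((g : GL F9 F) : Matrix F9 F9 F) * ((t : GL F9 F) : Matrix F9 F9 F) = ((t : GL F9 F) : Matrix F9 F9 F) * ((g : GL F9 F) : Matrix F9 F9 F)
  rw [ht]
  simp

theorem rels_lt : ∀ w ∈ rels, ∀ y ∈ w, y < 8 := by
  have h : (rels.all fun w => w.all fun y => Nat.blt y 8) = true := by decide +kernel
  intro w hw y hy
  rw [List.all_eq_true] at h
  have h2 := h w hw
  rw [List.all_eq_true] at h2
  exact Nat.le_of_ble_eq_true (h2 y hy)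

theorem rel_central (h : FH ω) (w : List ℕ) (hw : w ∈ rels) :
    ev (fun y => FreeGroup.lift (fT h) (fl y)) w ∈ Subgroup.center (threeJ3 F ω) := by
  have h1 := crel
  rw [List.all_eq_true] at h1
  have h2 := h1 w hw
  simp only [Bool.or_eq_true, beq_iff_eq] at h2
  have h3 : (((ev (fun y => FreeGroup.lift (fT h) (fl y)) w : threeJ3 F ω) : GL F9 F) : Matrix F9 F9 F) = toM ω (evM tab w) := by
    rw [yT_val h w (rels_lt w hw), ev_yG h w (fun y hy => lt_trans (rels_lt w hw y hy) (by decide))]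
  rcases h2 with (h2 | h2) | h2
  · rw [h2, toM_id] at h3
    exact central_of_smul 1 (by rw [h3, one_smul])
  · rw [h2, toM8 h] at h3
    exact central_of_smul _ h3
  · rw [h2, toM9 h] at h3
    exact central_of_smul _ h3

/-- the generators in `J3` -/
def fJ (h : FH ω) (x : Gen) : J3 F ω := QuotientGroup.mk (fT h x)

theorem fJ_lift (h : FH ω) (r : FreeGroup Gen) : FreeGroup.lift (fJ h) r = QuotientGroup.mk (FreeGroup.lift (fT h) r) := by
  have : (QuotientGroup.mk' (Subgroup.center (threeJ3 F ω))).comp (FreeGroup.lift (fT h)) = FreeGroup.lift (fJ h) := by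
    apply FreeGroup.ext_hom
    intro x
    simp only [MonoidHom.comp_apply, FreeGroup.lift_apply_of]
    rfl
  rw [← this]; rfl

theorem fJ_rel (h : FH ω) : ∀ r ∈ RR, FreeGroup.lift (fJ h) r = 1 := by
  rintro r ⟨w, hw, rfl⟩
  rw [fJ_lift, ← ev_lift, QuotientGroup.eq_one_iff]
  exact rel_central h w hw

/-- the homomorphism from the presented group -/
def phiJ (h : FH ω) : J →* J3 F ω := PresentedGroup.toGroup (fJ_rel h)

theorem phiJ_mk (h : FH ω) (r : FreeGroup Gen) : phiJ h (PresentedGroup.mk RR r) = QuotientGroup.mk (FreeGroup.lift (fT h) r) := by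
  rw [← fJ_lift]; rfl

theorem phiJ_surj (h : FH ω) : Function.Surjective (phiJ h) := by
  intro q
  obtain ⟨t, rfl⟩ := QuotientGroup.mk_surjective q
  obtain ⟨g, hg⟩ := t
  have h1 : g ∈ Subgroup.closure ({al h, be h} : Set (GL F9 F)) := by rw [← T_eq h]; exact hg
  have h2 : g ∈ (FreeGroup.lift (f0 h)).range := by
    have h3 : Subgroup.closure ({al h, be h} : Set (GL F9 F)) ≤ (FreeGroup.lift (f0 h)).range := by
      rw [Subgroup.closure_le]
      rintro _ (rfl | rfl)
      · exact ⟨FreeGroup.of .a, by rw [FreeGroup.lift_apply_of]; rfl⟩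
      · exact ⟨FreeGroup.of .b, by rw [FreeGroup.lift_apply_of]; rfl⟩
    exact h3 h1
  obtain ⟨r, hr⟩ := h2
  refine ⟨PresentedGroup.mk RR r, ?_⟩
  rw [phiJ_mk]
  congr 1
  apply Subtype.ext
  rw [fT_val]
  exact hr

/-! ### The centre -/

theorem tb_ne (h : FH ω) {u v : Bool} (huv : (u, v) ≠ (false, false)) : tb ω u v ≠ 0 := by
  have h0 := h.ne0
  have h1 := h.ne1
  cases u <;> cases v
  · exact absurd rfl huv
  · simpa [tb] using h0
  · simp [tb]
  · simp only [tb, cond_true]
    rw [← h.sq]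
    exact pow_ne_zero 2 h0

theorem omega_inj (h : FH ω) {m n : ZMod 3} (hmn : omegaPow F ω m = omegaPow F ω n) : m = n := by
  have h0 := h.ne0
  have h1 := h.ne1
  have h2 := h.sq
  have h3 : ∀ k : ZMod 3, k = 0 ∨ k = 1 ∨ k = 2 := by decide
  have e0 : omegaPow F ω 0 = 1 := by simp [omegaPow]
  have e1 : omegaPow F ω 1 = ω := by
    have : (1 : ZMod 3).val = 1 := rfl
    simp [omegaPow, this]
  have e2 : omegaPow F ω 2 = ω ^ 2 := by
    have : (2 : ZMod 3).val = 2 := rfl
    simp [omegaPow, this]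
  rcases h3 m with rfl | rfl | rfl <;> rcases h3 n with rfl | rfl | rfl
  · rfl
  · rw [e0, e1] at hmn; exact absurd hmn.symm h1
  · rw [e0, e2, h2] at hmn
    exact absurd (by linear_combination -hmn) h0
  · rw [e0, e1] at hmn; exact absurd hmn h1
  · rfl
  · rw [e1, e2, h2] at hmn
    have : (1 : F) = 0 := by linear_combination -hmn
    exact absurd this one_ne_zero
  · rw [e0, e2, h2] at hmn
    exact absurd (by linear_combination hmn) h0
  · rw [e1, e2, h2] at hmn
    have : (1 : F) = 0 := by linear_combination hmn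
    exact absurd this one_ne_zero
  · rfl

theorem center_scalar (h : FH ω) (t : threeJ3 F ω) (ht : t ∈ Subgroup.center (threeJ3 F ω)) :
    ∃ c : F, c ≠ 0 ∧ ((t : GL F9 F) : Matrix F9 F9 F) = c • (1 : Matrix F9 F9 F) := by
  rw [Subgroup.mem_center_iff] at ht
  set M := ((t : GL F9 F) : Matrix F9 F9 F) with hM
  have hcomm : ∀ g : GL F9 F, g ∈ threeJ3 F ω → (g : Matrix F9 F9 F) * M = M * (g : Matrix F9 F9 F) := by
    intro g hg
    have := congrArg (fun s : threeJ3 F ω => ((s : GL F9 F) : Matrix F9 F9 F)) (ht ⟨g, hg⟩)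
    exact this
  have hA : ∀ Z : F9, j3A F ω Z * M = M * j3A F ω Z := by
    intro Z
    rw [← famA h Z]
    exact hcomm _ (Subgroup.subset_closure (Or.inl (Or.inl (Or.inl (Or.inl ⟨Z, (famA h Z).symm⟩)))))
  have hD : ∀ Z : F9, j3D F ω Z * M = M * j3D F ω Z := by
    intro Z
    rw [← famD h Z]
    exact hcomm _ (Subgroup.subset_closure (Or.inl (Or.inl (Or.inr ⟨Z, (famD h Z).symm⟩))))
  have hoff : ∀ w z : F9, w ≠ z → M w z = 0 := by
    intro w z hwz
    have h1 : ∀ w z : F9, w ≠ z → ∃ Z : F9, Z.1 * w.1 + Z.2 * w.2 ≠ Z.1 * z.1 + Z.2 * z.2 := by decide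
    obtain ⟨Z, hZ⟩ := h1 w z hwz
    have h2 := congrFun (congrFun (hA Z) w) z
    rw [j3A, Matrix.diagonal_mul, Matrix.mul_diagonal] at h2
    by_contra hne
    apply hZ
    apply omega_inj h
    have h3 : (omegaPow F ω (Z.1 * w.1 + Z.2 * w.2) - omegaPow F ω (Z.1 * z.1 + Z.2 * z.2)) * M w z = 0 := by
      linear_combination h2
    rcases mul_eq_zero.1 h3 with h4 | h4
    · exact sub_eq_zero.1 h4
    · exact absurd h4 hne
  have hdiag : M = Matrix.diagonal fun z => M z z := by
    ext w z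
    rw [Matrix.diagonal_apply]
    split_ifs with hwz
    · rw [hwz]
    · exact hoff w z hwz
  have hconst : ∀ Z : F9, M Z Z = M 0 0 := by
    intro Z
    have h2 := congrFun (congrFun (hD Z) Z) 0
    rw [hdiag, Matrix.mul_diagonal, Matrix.diagonal_mul] at h2
    have h3 : j3D F ω Z Z 0 = 1 := by
      simp [j3D, j3Lam]
    rw [h3, one_mul, mul_one] at h2
    exact h2.symm
  refine ⟨M 0 0, ?_, ?_⟩
  · intro h0
    have h1 : M = 0 := by
      rw [hdiag]
      ext w z
      rw [Matrix.diagonal_apply]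
      split_ifs
      · rw [hconst, h0]; rfl
      · rfl
    have h2 : M * ((t⁻¹ : threeJ3 F ω) : GL F9 F) = 1 := by
      rw [hM]
      have := congrArg (fun s : threeJ3 F ω => ((s : GL F9 F) : Matrix F9 F9 F)) (mul_inv_cancel t)
      exact this
    rw [h1, zero_mul] at h2
    have h3 := congrFun (congrFun h2 0) 0
    simp at h3
  · rw [hdiag]
    ext w z
    rw [Matrix.diagonal_apply, Matrix.smul_apply, Matrix.one_apply]
    split_ifs with hwz
    · rw [hconst]; simp
    · simp

theorem al_not_central (h : FH ω) : (fT h .a) ∉ Subgroup.center (threeJ3 F ω) := by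
  intro hc
  obtain ⟨c, -, hc⟩ := center_scalar h _ hc
  have h1 := congrFun (congrFun hc (0, 2)) (0, 0)
  have h2 : (((fT h .a : threeJ3 F ω) : GL F9 F) : Matrix F9 F9 F) (0, 2) (0, 0) = tb ω (bt (tab.getD 1 idM) (0, 2) (0, 0)).1 (bt (tab.getD 1 idM) (0, 2) (0, 0)).2 := rfl
  rw [h2, Matrix.smul_apply, Matrix.one_apply, if_neg (by decide), smul_zero] at h1
  exact tb_ne h (by decide) h1

theorem phiJ_inj (h : FH ω) : Function.Injective (phiJ h) := by
  haveI := J3M.simple
  rw [injective_iff_map_eq_one]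
  rcases IsSimpleGroup.eq_bot_or_eq_top_of_normal (phiJ h).ker inferInstance with h1 | h1
  · intro g hg
    have : g ∈ (phiJ h).ker := hg
    rw [h1, Subgroup.mem_bot] at this
    exact this
  · exfalso
    have h2 : PresentedGroup.mk RR (FreeGroup.of .a) ∈ (phiJ h).ker := by rw [h1]; trivial
    rw [MonoidHom.mem_ker, phiJ_mk, FreeGroup.lift_apply_of, QuotientGroup.eq_one_iff] at h2
    exact al_not_central h h2

/-- the isomorphism -/
noncomputable def eJ (h : FH ω) : J ≃* J3 F ω := MulEquiv.ofBijective (phiJ h) ⟨phiJ_inj h, phiJ_surj h⟩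

theorem card_J3 (h : FH ω) : Nat.card (J3 F ω) = 50232960 := by
  rw [← Nat.card_congr (eJ h).toEquiv]; exact J3M.main.1

theorem simple_J3 (h : FH ω) : IsSimpleGroup (J3 F ω) := by
  haveI := J3M.simple
  exact (MulEquiv.isSimpleGroup_congr (eJ h)).1 inferInstance

/-- the central generator -/
def sg (h : FH ω) : threeJ3 F ω := (fT h .a * fT h .b) ^ 19

theorem sg_val (h : FH ω) : ((sg h : GL F9 F) : Matrix F9 F9 F) = ω • (1 : Matrix F9 F9 F) := by
  rw [← toM8 h, ← v8 h]; rfl

theorem four [Fintype F] (hF : Fintype.card F = 4) (h : FH ω) (c : F) (hc : c ≠ 0) : c = 1 ∨ c = ω ∨ c = ω ^ 2 := by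
  have h1 : c ^ 3 = 1 := by
    have := FiniteField.pow_card_sub_one_eq_one c hc
    rwa [hF] at this
  have h2 : (c - 1) * ((c - ω) * (c - ω ^ 2)) = 0 := by
    linear_combination h1 - h.cube - (c ^ 2 - ω * c) * h.hw + (- ω * c) * 0 + (c * (1 - 1)) * h.hw
  rcases mul_eq_zero.1 h2 with h3 | h3
  · exact Or.inl (sub_eq_zero.1 h3)
  · rcases mul_eq_zero.1 h3 with h3 | h3
    · exact Or.inr (Or.inl (sub_eq_zero.1 h3))
    · exact Or.inr (Or.inr (sub_eq_zero.1 h3))

theorem center_eq [Fintype F] (hF : Fintype.card F = 4) (h : FH ω) :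
    Subgroup.center (threeJ3 F ω) = Subgroup.zpowers (sg h) := by
  apply le_antisymm
  · intro t ht
    obtain ⟨c, hc0, hc⟩ := center_scalar h t ht
    have key : ∀ n : ℕ, (((sg h) ^ n : threeJ3 F ω) : GL F9 F).val = ω ^ n • (1 : Matrix F9 F9 F) := by
      intro n
      rw [Subgroup.coe_pow, Units.val_pow_eq_pow_val, sg_val, smul_pow, one_pow]
    rcases four hF h c hc0 with rfl | rfl | rfl
    · refine ⟨(0 : ℤ), ?_⟩
      apply Subtype.ext
      apply Units.ext
      rw [hc]
      simp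
    · refine ⟨(1 : ℤ), ?_⟩
      apply Subtype.ext
      apply Units.ext
      rw [hc]
      simpa using key 1
    · refine ⟨((2 : ℕ) : ℤ), ?_⟩
      apply Subtype.ext
      apply Units.ext
      rw [hc]
      simpa using key 2
  · rw [Subgroup.zpowers_le]
    exact central_of_smul ω (sg_val h)

theorem card_center [Fintype F] (hF : Fintype.card F = 4) (h : FH ω) :
    Nat.card (Subgroup.center (threeJ3 F ω)) = 3 := by
  rw [center_eq hF h, Nat.card_zpowers]
  apply orderOf_eq_prime
  · apply Subtype.ext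
    apply Units.ext
    rw [Subgroup.coe_pow, Units.val_pow_eq_pow_val, sg_val, smul_pow, one_pow, h.cube, one_smul]
    rfl
  · intro hs
    have h1 := sg_val h
    rw [hs] at h1
    have h2 := congrFun (congrFun h1 0) 0
    rw [Matrix.smul_apply, Matrix.one_apply_eq, smul_eq_mul, mul_one] at h2
    have h3 : (1 : F) = ω := by
      rw [← h2]; simp
    exact h.ne1 h3.symm

theorem card_T [Fintype F] (hF : Fintype.card F = 4) (h : FH ω) : Nat.card (threeJ3 F ω) = 150698880 := by
  have h1 := Subgroup.card_eq_card_quotient_mul_card_subgroup (Subgroup.center (threeJ3 F ω))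
  have h2 : Nat.card (threeJ3 F ω ⧸ Subgroup.center (threeJ3 F ω)) = 50232960 := card_J3 h
  rw [h1, h2, card_center hF h]

end

end Cfsg.Agent.H20.J3W
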