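import Mathlib

/-!
Kernel-checkable coset enumeration certificates (dynamic version).

Letters are natural numbers `< 16`; letter `0` is the identity letter.  A state is a binary trie `Tr`
storing facts `(v, y) ↦ w + 1` meaning `ρ v * x y ≡ ρ w` modulo the subgroup `H`.
All checkers are written with explicit recursors so that the kernel evaluates them quickly.
-/

set_option autoImplicit false

namespace Cfsg.Agent.H8.CE

/-- force evaluation of a natural number -/
noncomputable def N {β : Type} (x : ℕ) (f : ℕ → β) : β := Nat.rec (f 0) (fun m _ => f (Nat.succ m)) x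

theorem N_eq {β : Type} (x : ℕ) (f : ℕ → β) : N x f = f x := by
  cases x <;> rfl

/-- binary tries -/
inductive Tr : Type
  | lf (k v : ℕ) : Tr
  | nd (m : ℕ) (l r : Tr) : Tr

/-- look up (0 if absent) -/
noncomputable def get (t : Tr) (p : ℕ) : ℕ :=
  Tr.rec (motive := fun _ => ℕ) (fun k v => Bool.rec 0 v (Nat.beq p k))
    (fun m _ _ il ir => Bool.rec ir il (Nat.beq (Nat.land p m) 0)) t

/-- pure insertion -/
def set (t : Tr) (p x : ℕ) : Tr :=
  match t with
  | .lf _ _ => .lf p x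
  | .nd m l r => bif Nat.beq (Nat.land p m) 0 then .nd m (set l p x) r else .nd m l (set r p x)

/-- insertion in continuation style -/
noncomputable def setK (t : Tr) (p x : ℕ) (k : Tr → Bool) : Bool :=
  Tr.rec (motive := fun _ => (Tr → Bool) → Bool) (fun _ _ k => k (Tr.lf p x))
    (fun m l r il ir k => Bool.rec (ir (fun r' => k (Tr.nd m l r'))) (il (fun l' => k (Tr.nd m l' r)))
      (Nat.beq (Nat.land p m) 0)) t k

theorem setK_eq (t : Tr) (p x : ℕ) (k : Tr → Bool) : setK t p x k = k (set t p x) := by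
  induction t generalizing k with
  | lf a b => rfl
  | nd m l r il ir =>
    have h1 : setK (.nd m l r) p x k = Bool.rec (setK r p x (fun r' => k (Tr.nd m l r')))
      (setK l p x (fun l' => k (Tr.nd m l' r))) (Nat.beq (Nat.land p m) 0) := rfl
    rw [h1, set]
    cases Nat.beq (Nat.land p m) 0
    · simp [ir]
    · simp [il]

theorem get_lf (k v p : ℕ) : get (.lf k v) p = if p = k then v else 0 := by
  have : get (.lf k v) p = Bool.rec 0 v (Nat.beq p k) := rfl
  rw [this]
  by_cases h : p = k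
  · subst h; simp
  · have : Nat.beq p k = false := by
      rw [Bool.eq_false_iff]; intro hh; exact h (Nat.eq_of_beq_eq_true hh)
    rw [this, if_neg h]

theorem get_nd (m : ℕ) (l r : Tr) (p : ℕ) :
    get (.nd m l r) p = bif Nat.beq (Nat.land p m) 0 then get l p else get r p := by
  have : get (.nd m l r) p = Bool.rec (get r p) (get l p) (Nat.beq (Nat.land p m) 0) := rfl
  rw [this]; cases Nat.beq (Nat.land p m) 0 <;> rfl

theorem get_set (t : Tr) (p x q : ℕ) :
    get (set t p x) q = 0 ∨ (q = p ∧ get (set t p x) q = x) ∨ get (set t p x) q = get t q := by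
  induction t with
  | lf a b =>
    rw [set, get_lf]
    by_cases h : q = p
    · right; left; exact ⟨h, by simp [h]⟩
    · left; simp [h]
  | nd m l r il ir =>
    rw [set, get_nd m l r q]
    by_cases h1 : Nat.beq (Nat.land p m) 0 = true
    · rw [h1]; simp only [cond_true]; rw [get_nd]
      by_cases h2 : Nat.beq (Nat.land q m) 0 = true
      · rw [h2]; simpa using il
      · rw [Bool.not_eq_true] at h2; rw [h2]; simp
    · rw [Bool.not_eq_true] at h1
      rw [h1]; simp only [cond_false]; rw [get_nd]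
      by_cases h2 : Nat.beq (Nat.land q m) 0 = true
      · rw [h2]; simp
      · rw [Bool.not_eq_true] at h2; rw [h2]; simpa using ir

/-- position of the entry for node `c`, letter `y` -/
noncomputable def traceK (t : Tr) (w : List ℕ) (c : ℕ) (k : ℕ → Bool) : Bool :=
  List.rec (motive := fun _ => ℕ → Bool) k
    (fun y _ ih c => N (Nat.add (Nat.mul c 16) y) fun p => Nat.rec false (fun d _ => ih d) (get t p)) w c

theorem traceK_cons (t : Tr) (y : ℕ) (w : List ℕ) (c : ℕ) (k : ℕ → Bool)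
    (h : traceK t (y :: w) c k = true) :
    ∃ d, get t (c * 16 + y) = d + 1 ∧ traceK t w d k = true := by
  have h1 : traceK t (y :: w) c k = N (Nat.add (Nat.mul c 16) y)
    fun p => Nat.rec false (fun d _ => traceK t w d k) (get t p) := rfl
  rw [h1, N_eq] at h
  have h2 : Nat.add (Nat.mul c 16) y = c * 16 + y := rfl
  rw [h2] at h
  cases hg : get t (c * 16 + y) with
  | zero => rw [hg] at h; exact absurd h (by simp)
  | succ d => rw [hg] at h; exact ⟨d, rfl, h⟩

/-! ### Semantics -/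

section
variable {G : Type*} [Group G] (H : Subgroup G) (x : ℕ → G)

/-- value of a word -/
def ev (w : List ℕ) : G := (w.map x).prod

@[simp] theorem ev_nil : ev x [] = 1 := rfl
@[simp] theorem ev_cons (y : ℕ) (w : List ℕ) : ev x (y :: w) = x y * ev x w := by simp [ev]
@[simp] theorem ev_append (u v : List ℕ) : ev x (u ++ v) = ev x u * ev x v := by simp [ev]

/-- equality of right cosets -/
def R (a b : G) : Prop := a * b⁻¹ ∈ H

variable {H}

theorem R.refl (a : G) : R H a a := by simp [R]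
theorem R.of_eq {a b : G} (h : a = b) : R H a b := by subst h; exact R.refl a
theorem R.symm {a b : G} (h : R H a b) : R H b a := by
  have := H.inv_mem h; simpa [R] using this
theorem R.trans {a b c : G} (h : R H a b) (h' : R H b c) : R H a c := by
  have := H.mul_mem h h'; simpa [R] using this
theorem R.mul_right {a b : G} (h : R H a b) (g : G) : R H (a * g) (b * g) := by
  simpa [R] using h
theorem R.mul_right_cancel {a b : G} (g : G) (h : R H (a * g) (b * g)) : R H a b := by
  simpa [R] using h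

variable (H)
/-- the state invariant -/
def Inv (ρ : ℕ → G) (t : Tr) (nx : ℕ) : Prop :=
  ∀ p d, get t p = d + 1 → R H (ρ (p / 16) * x (p % 16)) (ρ d) ∧ p / 16 < nx ∧ d < nx

variable {H x}

theorem Inv.entry {ρ : ℕ → G} {t : Tr} {nx : ℕ} (h : Inv H x ρ t nx) {c y d : ℕ} (hy : y < 16)
    (hg : get t (c * 16 + y) = d + 1) : R H (ρ c * x y) (ρ d) ∧ c < nx ∧ d < nx := by
  have h1 := h _ _ hg
  have h2 : (c * 16 + y) / 16 = c := by omega
  have h3 : (c * 16 + y) % 16 = y := by omega
  rw [h2, h3] at h1; exact h1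

theorem traceK_sound {ρ : ℕ → G} {t : Tr} {nx : ℕ} (h : Inv H x ρ t nx) (w : List ℕ)
    (hw : ∀ y ∈ w, y < 16) (c : ℕ) (k : ℕ → Bool) (hk : traceK t w c k = true) :
    ∃ d, k d = true ∧ R H (ρ c * ev x w) (ρ d) ∧ (w = [] ∧ d = c ∨ w ≠ [] ∧ c < nx ∧ d < nx) := by
  induction w generalizing c with
  | nil => exact ⟨c, hk, by simpa using R.refl _, Or.inl ⟨rfl, rfl⟩⟩
  | cons y w ih =>
    obtain ⟨e, he, hk'⟩ := traceK_cons t y w c k hk
    obtain ⟨h1, h2, h3⟩ := h.entry (hw y (by simp)) he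
    obtain ⟨d, hd, hR, hb⟩ := ih (fun z hz => hw z (by simp [hz])) e hk'
    refine ⟨d, hd, ?_, Or.inr ⟨by simp, h2, ?_⟩⟩
    · rw [ev_cons, ← mul_assoc]
      exact (h1.mul_right _).trans hR
    · rcases hb with ⟨_, rfl⟩ | ⟨_, _, hb⟩
      · exact h3
      · exact hb

theorem Inv.set {ρ : ℕ → G} {t : Tr} {nx : ℕ} (h : Inv H x ρ t nx) {c y d : ℕ} (hy : y < 16)
    (hR : R H (ρ c * x y) (ρ d)) (hc : c < nx) (hd : d < nx) :
    Inv H x ρ (CE.set t (c * 16 + y) (d + 1)) nx := by
  intro p e hp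
  rcases get_set t (c * 16 + y) (d + 1) p with h0 | ⟨h1, h2⟩ | h3
  · rw [h0] at hp; omega
  · subst h1
    have h2' : (c * 16 + y) / 16 = c := by omega
    have h3' : (c * 16 + y) % 16 = y := by omega
    rw [h2] at hp
    have : d = e := by omega
    subst this
    rw [h2', h3']
    exact ⟨hR, hc, hd⟩
  · rw [h3] at hp; exact h p e hp

end

/-! ### Rules -/

/-- rule tables -/
inductive RT : Type
  | lf (hi hr : ℕ) (U1 : List ℕ) (y y' : ℕ) (U2 : List ℕ) : RT
  | nd (m : ℕ) (l r : RT) : RT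

/-- validity of all the rules in a table -/
def RT.Valid {G : Type*} [Group G] (x : ℕ → G) : RT → Prop
  | .lf _ _ U1 y y' U2 => ev x U1 * x y = ev x U2 ∧ x y' = (x y)⁻¹ ∧ y < 16 ∧ y' < 16 ∧
      (∀ z ∈ U1, z < 16) ∧ (∀ z ∈ U2, z < 16) ∧ U2 ≠ []
  | .nd _ l r => l.Valid x ∧ r.Valid x

noncomputable def selK (rt : RT) (i : ℕ) (k : List ℕ → ℕ → ℕ → List ℕ → Bool) : Bool :=
  RT.rec (motive := fun _ => Bool) (fun _ _ U1 y y' U2 => k U1 y y' U2)
    (fun m _ _ il ir => Bool.rec ir il (Nat.beq (Nat.land i m) 0)) rt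

theorem selK_sound {G : Type*} [Group G] (x : ℕ → G) (rt : RT) (hv : rt.Valid x) (i : ℕ)
    (k : List ℕ → ℕ → ℕ → List ℕ → Bool) (h : selK rt i k = true) :
    ∃ U1 y y' U2, (RT.lf 0 0 U1 y y' U2).Valid x ∧ k U1 y y' U2 = true := by
  induction rt with
  | lf _ _ U1 y y' U2 => exact ⟨U1, y, y', U2, hv, h⟩
  | nd m l r il ir =>
    have h1 : selK (.nd m l r) i k = Bool.rec (selK r i k) (selK l i k) (Nat.beq (Nat.land i m) 0) := rfl
    rw [h1] at h
    cases hb : Nat.beq (Nat.land i m) 0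
    · rw [hb] at h; exact ir hv.2 h
    · rw [hb] at h; exact il hv.1 h

/-! ### Operations -/

/-- deduction at node `c` by rule `r` -/
noncomputable def dedK (rt : RT) (t : Tr) (c r : ℕ) (k : Tr → Bool) : Bool :=
  selK rt r fun U1 y y' U2 => traceK t U1 c fun v => traceK t U2 c fun w =>
    N (Nat.add (Nat.mul v 16) y) fun p => N (Nat.succ w) fun w1 => setK t p w1 fun t =>
      N (Nat.add (Nat.mul w 16) y') fun p' => N (Nat.succ v) fun v1 => setK t p' v1 k

/-- definition of a new node `nx` as `v * y` -/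
noncomputable def defK (ic : ℕ) (t : Tr) (nx v y : ℕ) (k : Tr → Bool) : Bool :=
  Bool.rec false
    (N (Nat.add (Nat.mul v 16) y) fun p => N (Nat.succ nx) fun w1 => setK t p w1 fun t =>
      N (Nat.add (Nat.mul nx 16) (Nat.land (Nat.shiftRight ic (Nat.mul 4 y)) 15)) fun p' =>
        N (Nat.succ v) fun v1 => setK t p' v1 k) (Nat.blt v nx)

/-- one operation: bit 0 the type, bits 1-20 the node, bits 21-31 the letter or rule -/
noncomputable def stepK (ic : ℕ) (rt : RT) (op : ℕ) (t : Tr) (nx : ℕ) (k : Tr → ℕ → Bool) : Bool :=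
  Nat.rec (motive := fun _ => Bool)
    (N (Nat.land (Nat.shiftRight op 1) 1048575) fun v => N (Nat.land (Nat.shiftRight op 21) 15) fun y =>
      defK ic t nx v y fun t' => N (Nat.succ nx) fun nx' => k t' nx')
    (fun _ _ => N (Nat.land (Nat.shiftRight op 1) 1048575) fun c => N (Nat.shiftRight op 21) fun r =>
      dedK rt t c r fun t' => k t' nx)
    (Nat.land op 1)

/-- run `cnt` operations stored in `chunk` (from the highest index down) -/
noncomputable def chunkK (ic : ℕ) (rt : RT) (chunk cnt : ℕ) (t : Tr) (nx : ℕ) (k : Tr → ℕ → Bool) : Bool :=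
  Nat.rec (motive := fun _ => Tr → ℕ → Bool) k
    (fun j ih t nx => N (Nat.land (Nat.shiftRight chunk (Nat.mul 32 j)) 4294967295) fun op =>
      stepK ic rt op t nx ih) cnt t nx

/-- run a list of chunks, each of 256 operations -/
noncomputable def progK (ic : ℕ) (rt : RT) (prog : List ℕ) (t : Tr) (nx : ℕ) (k : Tr → ℕ → Bool) : Bool :=
  List.rec (motive := fun _ => Tr → ℕ → Bool) k
    (fun c _ ih t nx => chunkK ic rt c 256 t nx ih) prog t nx

section
variable {G : Type*} [Group G] {H : Subgroup G} {x : ℕ → G}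

theorem dedK_sound {ρ : ℕ → G} {t : Tr} {nx : ℕ} (h : Inv H x ρ t nx) {rt : RT} (hv : rt.Valid x)
    (c r : ℕ) (k : Tr → Bool) (hk : dedK rt t c r k = true) :
    ∃ t', Inv H x ρ t' nx ∧ k t' = true := by
  obtain ⟨U1, y, y', U2, ⟨hr, hi, hy, hy', hU1, hU2, hne⟩, h1⟩ := selK_sound x rt hv r _ hk
  obtain ⟨v, h2, hRv, hbv⟩ := traceK_sound h U1 hU1 c _ h1
  obtain ⟨w, h3, hRw, hbw⟩ := traceK_sound h U2 hU2 c _ h2
  rw [N_eq, N_eq, setK_eq, N_eq, N_eq, setK_eq] at h3
  have hcw : c < nx ∧ w < nx := by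
    rcases hbw with ⟨h0, _⟩ | ⟨_, a, b⟩
    · exact absurd h0 hne
    · exact ⟨a, b⟩
  have hv' : v < nx := by
    rcases hbv with ⟨_, h0⟩ | ⟨_, _, b⟩
    · rw [h0]; exact hcw.1
    · exact b
  have hR : R H (ρ v * x y) (ρ w) := by
    have h4 := (hRv.symm.mul_right (x y))
    rw [mul_assoc, hr] at h4
    exact h4.trans hRw
  have hR' : R H (ρ w * x y') (ρ v) := by
    have h4 := hR.symm.mul_right (x y')
    rw [hi, mul_assoc, mul_inv_cancel, mul_one] at h4
    rw [hi]; exact h4
  exact ⟨_, (h.set hy hR hv' hcw.2).set hy' hR' hcw.2 hv', h3⟩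

/-- inverse code: letter `digit ic y` is inverse to the letter `y` -/
def InvCode (x : ℕ → G) (ic : ℕ) : Prop :=
  ∀ y, y < 16 → x (Nat.land (Nat.shiftRight ic (Nat.mul 4 y)) 15) = (x y)⁻¹

theorem land15 (a : ℕ) : Nat.land a 15 < 16 := by
  have : Nat.land a 15 = a &&& 15 := rfl
  rw [this]
  have := Nat.and_le_right (n := a) (m := 15)
  omega

theorem defK_sound {ρ : ℕ → G} {t : Tr} {nx : ℕ} (h : Inv H x ρ t nx) {ic : ℕ} (hic : InvCode x ic)
    (hnx : 0 < nx) (v y : ℕ) (hy : y < 16) (k : Tr → Bool) (hk : defK ic t nx v y k = true) :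
    ∃ ρ' t', ρ' 0 = ρ 0 ∧ Inv H x ρ' t' (nx + 1) ∧ k t' = true := by
  unfold defK at hk
  cases hb : Nat.blt v nx
  · rw [hb] at hk; exact absurd hk (by simp)
  rw [hb] at hk
  have hvn : v < nx := by
    have : Nat.ble (v + 1) nx = true := hb
    exact Nat.le_of_ble_eq_true this
  rw [N_eq, N_eq, setK_eq, N_eq, N_eq, setK_eq] at hk
  set y' := Nat.land (Nat.shiftRight ic (Nat.mul 4 y)) 15 with hy'
  have hy16 : y' < 16 := land15 _
  let ρ' : ℕ → G := Function.update ρ nx (ρ v * x y)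
  have hρ : ∀ i, i < nx → ρ' i = ρ i := fun i hi => Function.update_of_ne (by omega) _ _
  have hρn : ρ' nx = ρ v * x y := Function.update_self _ _ _
  have hI : Inv H x ρ' t (nx + 1) := by
    intro p d hp
    obtain ⟨h1, h2, h3⟩ := h p d hp
    rw [hρ _ h2, hρ _ h3]
    exact ⟨h1, by omega, by omega⟩
  refine ⟨ρ', _, hρ 0 hnx, ?_, hk⟩
  refine (hI.set hy (d := nx) ?_ (by omega) (by omega)).set hy16 (d := v) ?_ (by omega) (by omega)
  · rw [hρn, hρ v hvn]; exact R.refl _
  · rw [hρn, hρ v hvn, hic y hy, mul_assoc, mul_inv_cancel, mul_one]; exact R.refl _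

theorem stepK_sound {ρ : ℕ → G} {t : Tr} {nx : ℕ} (h : Inv H x ρ t nx) {ic : ℕ} (hic : InvCode x ic)
    {rt : RT} (hv : rt.Valid x) (hnx : 0 < nx) (op : ℕ) (k : Tr → ℕ → Bool)
    (hk : stepK ic rt op t nx k = true) :
    ∃ ρ' t' nx', ρ' 0 = ρ 0 ∧ 0 < nx' ∧ Inv H x ρ' t' nx' ∧ k t' nx' = true := by
  unfold stepK at hk
  cases hb : Nat.land op 1 with
  | zero =>
    rw [hb] at hk
    have hk' := hk
    simp only [N_eq] at hk'
    obtain ⟨ρ', t', h0, h1, h2⟩ := defK_sound h hic hnx _ _ (land15 _) _ hk'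
    exact ⟨ρ', t', nx + 1, h0, by omega, h1, h2⟩
  | succ m =>
    rw [hb] at hk
    have hk' := hk
    simp only [N_eq] at hk'
    obtain ⟨t', h1, h2⟩ := dedK_sound h hv _ _ _ hk'
    exact ⟨ρ, t', nx, rfl, hnx, h1, h2⟩

theorem chunkK_sound {ic : ℕ} (hic : InvCode x ic) {rt : RT} (hv : rt.Valid x) (chunk cnt : ℕ)
    (k : Tr → ℕ → Bool) : ∀ {ρ : ℕ → G} {t : Tr} {nx : ℕ} (_ : Inv H x ρ t nx) (_ : 0 < nx)
    (_ : chunkK ic rt chunk cnt t nx k = true),
    ∃ ρ' t' nx', ρ' 0 = ρ 0 ∧ 0 < nx' ∧ Inv H x ρ' t' nx' ∧ k t' nx' = true := by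
  induction cnt with
  | zero => intro ρ t nx h hnx hk; exact ⟨ρ, t, nx, rfl, hnx, h, hk⟩
  | succ j ih =>
    intro ρ t nx h hnx hk
    have h1 : chunkK ic rt chunk (j + 1) t nx k =
      N (Nat.land (Nat.shiftRight chunk (Nat.mul 32 j)) 4294967295) fun op =>
        stepK ic rt op t nx (fun t nx => chunkK ic rt chunk j t nx k) := rfl
    rw [h1, N_eq] at hk
    obtain ⟨ρ', t', nx', h0, hn, hI, hk'⟩ := stepK_sound h hic hv hnx _ _ hk
    obtain ⟨ρ'', t'', nx'', h0', hn', hI', hk''⟩ := ih hI hn hk'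
    exact ⟨ρ'', t'', nx'', h0'.trans h0, hn', hI', hk''⟩

theorem progK_sound {ic : ℕ} (hic : InvCode x ic) {rt : RT} (hv : rt.Valid x) (prog : List ℕ)
    (k : Tr → ℕ → Bool) : ∀ {ρ : ℕ → G} {t : Tr} {nx : ℕ} (_ : Inv H x ρ t nx) (_ : 0 < nx)
    (_ : progK ic rt prog t nx k = true),
    ∃ ρ' t' nx', ρ' 0 = ρ 0 ∧ 0 < nx' ∧ Inv H x ρ' t' nx' ∧ k t' nx' = true := by
  induction prog with
  | nil => intro ρ t nx h hnx hk; exact ⟨ρ, t, nx, rfl, hnx, h, hk⟩
  | cons c prog ih =>
    intro ρ t nx h hnx hk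
    have h1 : progK ic rt (c :: prog) t nx k =
      chunkK ic rt c 256 t nx (fun t nx => progK ic rt prog t nx k) := rfl
    rw [h1] at hk
    obtain ⟨ρ', t', nx', h0, hn, hI, hk'⟩ := chunkK_sound hic hv _ _ _ h hnx hk
    obtain ⟨ρ'', t'', nx'', h0', hn', hI', hk''⟩ := ih hI hn hk'
    exact ⟨ρ'', t'', nx'', h0'.trans h0, hn', hI', hk''⟩

end

/-! ### Initial states -/

/-- the empty trie of depth `d` (masks `2^(d-1), …, 1`), in continuation style -/
noncomputable def mkK (d : ℕ) (k : Tr → Bool) : Bool :=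
  Nat.rec (motive := fun _ => (Tr → Bool) → Bool) (fun k => k (.lf 0 0))
    (fun j ih k => ih fun t => N (Nat.pow 2 j) fun m => k (.nd m t t)) d k

theorem mkK_sound (d : ℕ) : ∀ (k : Tr → Bool), mkK d k = true → ∃ t, (∀ p, get t p = 0) ∧ k t = true := by
  induction d with
  | zero =>
    intro k h
    refine ⟨.lf 0 0, ?_, h⟩
    intro p; rw [get_lf]; simp
  | succ j ih =>
    intro k h
    have h1 : mkK (j + 1) k = mkK j (fun t => N (Nat.pow 2 j) fun m => k (.nd m t t)) := rfl
    rw [h1] at h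
    obtain ⟨t, ht, hk⟩ := ih _ h
    rw [N_eq] at hk
    refine ⟨_, ?_, hk⟩
    intro p; rw [get_nd]; simp [ht]

/-- install the initial facts `(0, s) ↦ 0` for the letters `s` in the list -/
noncomputable def initK (L : List ℕ) (t : Tr) (k : Tr → Bool) : Bool :=
  List.rec (motive := fun _ => Tr → Bool) k (fun s _ ih t => setK t s 1 ih) L t

section
variable {G : Type*} [Group G] {H : Subgroup G} {x : ℕ → G}

theorem initK_sound (L : List ℕ) (hL : ∀ s ∈ L, s < 16 ∧ x s ∈ H) (k : Tr → Bool) :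
    ∀ {t : Tr} (_ : Inv H x (fun _ => 1) t 1) (_ : initK L t k = true),
    ∃ t', Inv H x (fun _ => (1 : G)) t' 1 ∧ k t' = true := by
  induction L with
  | nil => intro t h hk; exact ⟨t, h, hk⟩
  | cons s L ih =>
    intro t h hk
    have h1 : initK (s :: L) t k = setK t s 1 (fun t => initK L t k) := rfl
    rw [h1, setK_eq] at hk
    refine ih (fun z hz => hL z (by simp [hz])) ?_ hk
    have h2 := h.set (c := 0) (d := 0) (y := s) (hL s (by simp)).1 (by simpa [R] using (hL s (by simp)).2)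
      (by omega) (by omega)
    simpa using h2

/-- the whole run -/
noncomputable def runK (depth ic : ℕ) (L : List ℕ) (rt : RT) (prog : List ℕ) (k : Tr → ℕ → Bool) : Bool :=
  mkK depth fun t => initK L t fun t => progK ic rt prog t 1 k

theorem runK_sound {depth ic : ℕ} {L : List ℕ} {rt : RT} {prog : List ℕ} {k : Tr → ℕ → Bool}
    (hic : InvCode x ic) (hL : ∀ s ∈ L, s < 16 ∧ x s ∈ H) (hv : rt.Valid x)
    (h : runK depth ic L rt prog k = true) :
    ∃ (ρ : ℕ → G) (t : Tr) (nx : ℕ), ρ 0 = 1 ∧ Inv H x ρ t nx ∧ k t nx = true := by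
  obtain ⟨t, ht, h1⟩ := mkK_sound depth _ h
  have hI : Inv H x (fun _ => (1 : G)) t 1 := by
    intro p d hp; rw [ht] at hp; omega
  obtain ⟨t', hI', h2⟩ := initK_sound L hL _ hI h1
  obtain ⟨ρ, t'', nx, h3, _, h4, h5⟩ := progK_sound hic hv prog k hI' (by omega) h2
  exact ⟨ρ, t'', nx, h3, h4, h5⟩

/-! ### Reading off a word -/

theorem word_sound {depth ic : ℕ} {L : List ℕ} {rt : RT} {prog : List ℕ} (w : List ℕ)
    (hic : InvCode x ic) (hL : ∀ s ∈ L, s < 16 ∧ x s ∈ H) (hv : rt.Valid x) (hw : ∀ y ∈ w, y < 16)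
    (h : runK depth ic L rt prog (fun t _ => traceK t w 0 fun d => Nat.beq d 0) = true) :
    ev x w ∈ H := by
  obtain ⟨ρ, t, nx, h0, hI, hk⟩ := runK_sound hic hL hv h
  obtain ⟨d, hd, hR, -⟩ := traceK_sound hI w hw 0 _ hk
  have : d = 0 := Nat.eq_of_beq_eq_true hd
  subst this
  have := hR
  rw [h0] at this
  simpa [R, h0] using this

/-! ### Final tables -/

/-- packed table lookup, 20-bit entries -/
noncomputable def look (P i : ℕ) : ℕ := Nat.land (Nat.shiftRight P (Nat.mul i 20)) 1048575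

/-- check one letter: for all `i < n`: `get t (F i, y) = F (T i) + 1` -/
noncomputable def finRowK (t : Tr) (F P y : ℕ) (n : ℕ) : ℕ → Bool :=
  fun i => N (look F i) fun v => N (Nat.add (Nat.mul v 16) y) fun p => N (look P i) fun j =>
    Bool.rec false (Nat.beq (get t p) (Nat.succ (look F j))) (Nat.blt j n)

/-- `f i` for all `lo ≤ i < lo + 2 ^ k`, `i < n` -/
noncomputable def rangeK (n : ℕ) (f : ℕ → Bool) (k : ℕ) : ℕ → Bool :=
  Nat.rec (motive := fun _ => ℕ → Bool) (fun lo => N lo fun lo => Bool.rec true (f lo) (Nat.blt lo n))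
    (fun k ih lo => Bool.rec false (ih (Nat.add lo (Nat.pow 2 k))) (ih lo)) k

theorem blt_eq {a b : ℕ} : Nat.blt a b = true ↔ a < b := by
  unfold Nat.blt
  exact ⟨fun h => Nat.le_of_ble_eq_true h, fun h => Nat.ble_eq_true_of_le h⟩

theorem rangeK_sound (n : ℕ) (f : ℕ → Bool) (k : ℕ) : ∀ lo, rangeK n f k lo = true →
    ∀ i, lo ≤ i → i < lo + 2 ^ k → i < n → f i = true := by
  induction k with
  | zero =>
    intro lo h i h1 h2 h3
    have : i = lo := by
      have : 2 ^ 0 = 1 := rfl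
      omega
    subst this
    have h4 : rangeK n f 0 i = N i fun lo => Bool.rec true (f lo) (Nat.blt lo n) := rfl
    rw [h4, N_eq, blt_eq.2 h3] at h
    exact h
  | succ k ih =>
    intro lo h i h1 h2 h3
    have h4 : rangeK n f (k + 1) lo =
      Bool.rec false (rangeK n f k (Nat.add lo (Nat.pow 2 k))) (rangeK n f k lo) := rfl
    rw [h4] at h
    cases hb : rangeK n f k lo
    · rw [hb] at h; exact absurd h (by simp)
    · rw [hb] at h
      have h5 : rangeK n f k (lo + 2 ^ k) = true := h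
      by_cases hi : i < lo + 2 ^ k
      · exact ih lo hb i h1 hi h3
      · exact ih _ h5 i (by omega) (by rw [pow_succ] at h2; omega) h3

/-- the statement that `T` describes (the reachable part of) the action on right cosets of `H`:
there are coset representatives `r i` with `H r_i x_y = H r_{T y i}` -/
def HasTable (H : Subgroup G) (x : ℕ → G) (k n : ℕ) (T : ℕ → ℕ → ℕ) : Prop :=
  ∃ r : ℕ → G, r 0 = 1 ∧ ∀ i, i < n → ∀ y, 1 ≤ y → y ≤ k → T y i < n ∧ R H (r i * x y) (r (T y i))

/-- check all the letters -/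
noncomputable def finK (t : Tr) (F : ℕ) (n lg : ℕ) (Ps : List ℕ) : ℕ → Bool :=
  List.rec (motive := fun _ => ℕ → Bool) (fun _ => true)
    (fun P _ ih y => Bool.rec false (N (Nat.succ y) ih) (rangeK n (finRowK t F P y n) lg 0)) Ps

theorem finK_sound {t : Tr} {F n lg : ℕ} {Ps : List ℕ} (y0 : ℕ) (h : finK t F n lg Ps y0 = true)
    (hlg : n ≤ 2 ^ lg) (j : ℕ) (hj : j < Ps.length) (i : ℕ) (hi : i < n) :
    look (Ps.getD j 0) i < n ∧
      get t (look F i * 16 + (y0 + j)) = look F (look (Ps.getD j 0) i) + 1 := by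
  induction Ps generalizing y0 j with
  | nil => simp at hj
  | cons P Ps ih =>
    have h1 : finK t F n lg (P :: Ps) y0 =
      Bool.rec false (N (Nat.succ y0) (finK t F n lg Ps)) (rangeK n (finRowK t F P y0 n) lg 0) := rfl
    rw [h1] at h
    cases hb : rangeK n (finRowK t F P y0 n) lg 0
    · rw [hb] at h; exact absurd h (by simp)
    rw [hb] at h
    have h2 : finK t F n lg Ps (y0 + 1) = true := by
      have : N (Nat.succ y0) (finK t F n lg Ps) = true := h
      rw [N_eq] at this; exact this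
    cases j with
    | zero =>
      have h3 := rangeK_sound n _ lg 0 hb i (by omega) (by omega) hi
      unfold finRowK at h3
      rw [N_eq, N_eq, N_eq] at h3
      cases hb2 : Nat.blt (look P i) n
      · rw [hb2] at h3; exact absurd h3 (by simp)
      · rw [hb2] at h3
        refine ⟨by simpa using blt_eq.1 hb2, ?_⟩
        simpa using Nat.eq_of_beq_eq_true h3
    | succ j =>
      have := ih (y0 + 1) h2 j (by simpa using hj)
      have e : y0 + 1 + j = y0 + (j + 1) := by omega
      rw [e] at this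
      simpa using this

/-- the table function given by a list of packed tables for the letters `1, 2, …` -/
noncomputable def tabOf (Ps : List ℕ) (y i : ℕ) : ℕ := look (Ps.getD (y - 1) 0) i

theorem table_sound {depth ic : ℕ} {L : List ℕ} {rt : RT} {prog : List ℕ} (F n lg : ℕ) (Ps : List ℕ)
    (hic : InvCode x ic) (hL : ∀ s ∈ L, s < 16 ∧ x s ∈ H) (hv : rt.Valid x)
    (hlg : n ≤ 2 ^ lg) (hF : look F 0 = 0) (hPs : Ps.length < 16)
    (h : runK depth ic L rt prog (fun t _ => finK t F n lg Ps 1) = true) :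
    HasTable H x Ps.length n (tabOf Ps) := by
  obtain ⟨ρ, t, nx, h0, hI, hk⟩ := runK_sound hic hL hv h
  refine ⟨fun i => ρ (look F i), by simp [hF, h0], ?_⟩
  intro i hi y hy1 hy2
  obtain ⟨h1, h2⟩ := finK_sound 1 hk hlg (y - 1) (by omega) i hi
  have e : 1 + (y - 1) = y := by omega
  rw [e] at h2
  exact ⟨h1, (hI.entry (by omega) h2).1⟩

end

/-! ### Validity of rule tables -/

/-- the inverse letter -/
def il (ic y : ℕ) : ℕ := Nat.land (Nat.shiftRight ic (Nat.mul 4 y)) 15

/-- push a letter with free reduction -/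
def push (ic y : ℕ) (w : List ℕ) : List ℕ :=
  if y = 0 then w else match w with
    | [] => [y]
    | z :: w' => if z = il ic y then w' else y :: z :: w'

/-- free reduction -/
def red (ic : ℕ) (w : List ℕ) : List ℕ := w.foldr (push ic) []

/-- formal inverse -/
def invw (ic : ℕ) (w : List ℕ) : List ℕ := (w.map (il ic)).reverse

/-- checks one rule: either it is a free identity or the corresponding word is a rotation of relator number `hi` -/
def chkLeaf (ic : ℕ) (rels : List (List ℕ)) (hi hr : ℕ) (U1 : List ℕ) (y y' : ℕ) (U2 : List ℕ) : Bool :=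
  (y' == il ic y) && Nat.blt y 16 && U1.all (fun z => Nat.blt z 16) && U2.all (fun z => Nat.blt z 16) &&
    !U2.isEmpty && (bif hi == 0 then (red ic (U1 ++ y :: invw ic U2)).isEmpty else
      (red ic (U1 ++ y :: invw ic U2)) == ((rels.getD (hi - 1) []).drop hr ++ (rels.getD (hi - 1) []).take hr))

/-- checks a rule table -/
def RT.chk (ic : ℕ) (rels : List (List ℕ)) : RT → Bool
  | .lf hi hr U1 y y' U2 => chkLeaf ic rels hi hr U1 y y' U2
  | .nd _ l r => l.chk ic rels && r.chk ic rels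

section
variable {G : Type*} [Group G] {x : ℕ → G}

theorem ev_push {ic : ℕ} (hic : ∀ y, y < 16 → x (il ic y) = (x y)⁻¹) (h0 : x 0 = 1) (y : ℕ) (hy : y < 16)
    (w : List ℕ) : ev x (push ic y w) = x y * ev x w := by
  unfold push
  split_ifs with h
  · subst h; simp [h0]
  · cases w with
    | nil => simp
    | cons z w =>
      simp only
      split_ifs with h2
      · subst h2; rw [ev_cons, hic y hy]; simp
      · simp

theorem il_lt (ic y : ℕ) : il ic y < 16 := by
  have : il ic y = (ic >>> (4 * y)) &&& 15 := rfl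
  rw [this]
  have := Nat.and_le_right (n := ic >>> (4 * y)) (m := 15)
  omega

theorem ev_red {ic : ℕ} (hic : ∀ y, y < 16 → x (il ic y) = (x y)⁻¹) (h0 : x 0 = 1) (w : List ℕ)
    (hw : ∀ y ∈ w, y < 16) : ev x (red ic w) = ev x w := by
  induction w with
  | nil => rfl
  | cons y w ih =>
    have : red ic (y :: w) = push ic y (red ic w) := rfl
    rw [this, ev_push hic h0 y (hw y (by simp)), ih (fun z hz => hw z (by simp [hz])), ev_cons]

theorem ev_invw {ic : ℕ} (hic : ∀ y, y < 16 → x (il ic y) = (x y)⁻¹) (w : List ℕ)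
    (hw : ∀ y ∈ w, y < 16) : ev x (invw ic w) = (ev x w)⁻¹ := by
  induction w with
  | nil => simp [invw]
  | cons y w ih =>
    have h1 : invw ic (y :: w) = invw ic w ++ [il ic y] := by simp [invw]
    rw [h1, ev_append, ih (fun z hz => hw z (by simp [hz])), ev_cons, ev_cons, ev_nil, mul_one,
      hic y (hw y (by simp)), mul_inv_rev]

theorem invw_lt (ic : ℕ) (w : List ℕ) : ∀ y ∈ invw ic w, y < 16 := by
  intro y hy
  simp only [invw, List.mem_reverse, List.mem_map] at hy
  obtain ⟨z, _, rfl⟩ := hy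
  exact il_lt _ _

theorem ev_rot (w : List ℕ) (r : ℕ) (h : ev x w = 1) : ev x (w.drop r ++ w.take r) = 1 := by
  have h1 : ev x (w.take r ++ w.drop r) = 1 := by rw [List.take_append_drop]; exact h
  rw [ev_append] at h1 ⊢
  exact mul_eq_one_iff_eq_inv.2 (by rw [eq_comm, inv_eq_iff_mul_eq_one]; exact h1)

theorem RT.valid_of_chk {ic : ℕ} {rels : List (List ℕ)} (hic : ∀ y, y < 16 → x (il ic y) = (x y)⁻¹)
    (h0 : x 0 = 1) (hrels : ∀ w ∈ rels, ev x w = 1) (rt : RT) (h : rt.chk ic rels = true) :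
    rt.Valid x := by
  induction rt with
  | nd m l r il ir =>
    simp only [RT.chk, Bool.and_eq_true] at h
    exact ⟨il h.1, ir h.2⟩
  | lf hi hr U1 y y' U2 =>
    simp only [RT.chk, chkLeaf, Bool.and_eq_true, beq_iff_eq, Bool.not_eq_true',
      List.all_eq_true] at h
    obtain ⟨⟨⟨⟨⟨h1, h2⟩, h3⟩, h4⟩, h5⟩, h6⟩ := h
    have hU1 : ∀ z ∈ U1, z < 16 := fun z hz => blt_eq.1 (h3 z hz)
    have hU2 : ∀ z ∈ U2, z < 16 := fun z hz => blt_eq.1 (h4 z hz)
    have hy : y < 16 := blt_eq.1 h2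
    have hne : U2 ≠ [] := by
      rintro rfl; simp at h5
    have hwlt : ∀ z ∈ U1 ++ y :: invw ic U2, z < 16 := by
      intro z hz
      rw [List.mem_append, List.mem_cons] at hz
      rcases hz with hz | rfl | hz
      · exact hU1 z hz
      · exact hy
      · exact invw_lt _ _ z hz
    have key : ev x (U1 ++ y :: invw ic U2) = 1 := by
      rw [← ev_red hic h0 _ hwlt]
      cases hh : (hi == 0)
      · rw [hh] at h6
        simp only [cond_false, beq_iff_eq] at h6
        rw [h6]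
        apply ev_rot
        by_cases hlt : hi - 1 < rels.length
        · apply hrels
          rw [List.getD_eq_getElem _ _ hlt]
          exact List.getElem_mem _
        · rw [List.getD_eq_default _ _ (by omega)]; rfl
      · rw [hh] at h6
        simp only [cond_true] at h6
        rw [List.isEmpty_iff] at h6
        rw [h6]; rfl
    rw [ev_append, ev_cons, ev_invw hic U2 hU2, ← mul_assoc, mul_inv_eq_one] at key
    exact ⟨key, by rw [h1]; exact hic y hy, hy, by rw [h1]; exact il_lt _ _, hU1, hU2, hne⟩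

end

/-! ### Index bounds from tables -/

section
variable {G : Type*} [Group G] {H : Subgroup G} {x : ℕ → G}

theorem HasTable.cover {k n : ℕ} {T : ℕ → ℕ → ℕ} (h : HasTable H x k n T) (hn : 0 < n)
    (hgen : Submonoid.closure (x '' {y | 1 ≤ y ∧ y ≤ k}) = ⊤) :
    ∃ r : ℕ → G, r 0 = 1 ∧ (∀ i, i < n → ∀ y, 1 ≤ y → y ≤ k → T y i < n ∧ R H (r i * x y) (r (T y i))) ∧
      ∀ g : G, ∃ i, i < n ∧ R H g (r i) := by
  obtain ⟨r, h0, h1⟩ := h
  refine ⟨r, h0, h1, ?_⟩
  intro g
  have hg : g ∈ Submonoid.closure (x '' {y | 1 ≤ y ∧ y ≤ k}) := by rw [hgen]; trivial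
  induction hg using Submonoid.closure_induction_right with
  | one => exact ⟨0, hn, by rw [h0]; exact R.refl _⟩
  | mul_right a _ b hb ih =>
    obtain ⟨i, hi, hR⟩ := ih
    obtain ⟨y, ⟨hy1, hy2⟩, rfl⟩ := hb
    obtain ⟨h2, h3⟩ := h1 i hi y hy1 hy2
    exact ⟨_, h2, (hR.mul_right _).trans h3⟩

theorem index_le_of_cover {n : ℕ} (r : ℕ → G) (h : ∀ g : G, ∃ i, i < n ∧ R H g (r i)) :
    H.index ≤ n ∧ H.index ≠ 0 := by
  have hs : Function.Surjective (fun i : Fin n => (((r i)⁻¹ : G) : G ⧸ H)) := by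
    intro q
    obtain ⟨g, rfl⟩ := QuotientGroup.mk_surjective q
    obtain ⟨i, hi, hR⟩ := h g⁻¹
    refine ⟨⟨i, hi⟩, ?_⟩
    exact (QuotientGroup.eq.2 hR).symm
  have : Finite (G ⧸ H) := Finite.of_surjective _ hs
  constructor
  · have h1 := Nat.card_le_card_of_surjective _ hs
    rw [Nat.card_fin] at h1
    exact h1
  · exact Subgroup.index_ne_zero_of_finite

end

end Cfsg.Agent.H8.CE
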