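import Cfsg.Prelude.Def_Spor_J3
import Cfsg.Agent.H8_CE

/-!
Kernel arithmetic with 9 × 9 matrices over a field with 4 elements.
A vector is a natural number with 18 bits: entry `i` is `bit i + bit (9 + i) * ω`.
-/

set_option autoImplicit false

namespace Cfsg.Agent.H20.J3X

open Cfsg.Spor Matrix

/-- multiplication by `ω` -/
def om (c : ℕ) : ℕ := ((c >>> 9) &&& 511) ^^^ (((c ^^^ (c >>> 9)) &&& 511) <<< 9)

/-- matrix (list of columns) times vector -/
def mulV : List ℕ → ℕ → ℕ
  | [], _ => 0
  | c :: cs, n => (((n &&& 1) * c) ^^^ (((n >>> 9) &&& 1) * om c)) ^^^ mulV cs (n >>> 1)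

def mulM (M N : List ℕ) : List ℕ := N.map (mulV M)

def idM : List ℕ := [1, 2, 4, 8, 16, 32, 64, 128, 256]

/-- product of a word in a table of matrices -/
def evM (L : List (List ℕ)) : List ℕ → List ℕ
  | [] => idM
  | y :: w => mulM (L.getD y idM) (evM L w)

/-- index of an element of the field with 9 elements -/
def ix (z : F9) : ℕ := 3 * z.1.val + z.2.val

section
variable {F : Type*} [Field F] (ω : F)

/-- value of two bits -/
def tb (u v : Bool) : F := (bif u then 1 else 0) + (bif v then ω else 0)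

/-- entry `i` of a vector -/
def tv (n i : ℕ) : F := tb ω (n.testBit i) (n.testBit (9 + i))

/-- the matrix -/
def toM (M : List ℕ) : Matrix F9 F9 F := Matrix.of fun w z => tv ω (M.getD (ix z) 0) (ix w)

theorem bx (x : F) (hx : x + x = 0) (u u' : Bool) :
    (bif (u ^^ u') then x else 0) = (bif u then x else 0) + (bif u' then x else 0) := by
  cases u <;> cases u' <;> simp [hx]

/-- the hypotheses on the field -/
structure FH : Prop where
  h2 : (2 : F) = 0
  hw : ω ^ 2 + ω + 1 = 0

variable {ω}

theorem FH.ww (h : FH ω) : ω + ω = 0 := by linear_combination ω * h.h2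
theorem FH.oo (h : FH ω) : (1 : F) + 1 = 0 := by linear_combination h.h2
theorem FH.sq (h : FH ω) : ω ^ 2 = 1 + ω := by linear_combination h.hw - (1 + ω) * h.h2
theorem FH.cube (h : FH ω) : ω ^ 3 = 1 := by linear_combination (ω - 1) * h.hw
theorem FH.ne0 (h : FH ω) : ω ≠ 0 := by
  rintro rfl
  have := h.hw
  simp at this
theorem FH.ne1 (h : FH ω) : ω ≠ 1 := by
  rintro rfl
  have := h.hw
  have h2 := h.h2
  have : (1 : F) = 0 := by linear_combination this - h2
  exact one_ne_zero this

theorem tb_xor (h : FH ω) (u v u' v' : Bool) : tb ω (u ^^ u') (v ^^ v') = tb ω u v + tb ω u' v' := by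
  unfold tb
  rw [bx 1 h.oo, bx ω h.ww]
  ring

theorem tv_xor (h : FH ω) (a b i : ℕ) : tv ω (a ^^^ b) i = tv ω a i + tv ω b i := by
  unfold tv
  rw [Nat.testBit_xor, Nat.testBit_xor, tb_xor h]

theorem tv_zero (i : ℕ) : tv ω 0 i = 0 := by
  simp [tv, tb]

theorem tb_om (h : FH ω) (u v : Bool) : tb ω v (u ^^ v) = ω * tb ω u v := by
  unfold tb
  have hs := h.sq
  rw [bx ω h.ww]
  cases u <;> cases v
  · simp
  · simp only [cond_true, cond_false]
    linear_combination - hs
  · simp
  · simp only [cond_true, cond_false]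
    linear_combination - hs

theorem testBit_om (c i : ℕ) (hi : i < 9) : (om c).testBit i = c.testBit (9 + i) ∧
    (om c).testBit (9 + i) = (c.testBit i ^^ c.testBit (9 + i)) := by
  have h511 : ∀ j, (511 : ℕ).testBit j = decide (j < 9) := by
    intro j
    exact Nat.testBit_two_pow_sub_one 9 j
  constructor
  · unfold om
    rw [Nat.testBit_xor, Nat.testBit_and, Nat.testBit_shiftRight, Nat.testBit_shiftLeft, h511]
    have : ¬ 9 ≤ i := by omega
    simp [this, hi]
  · unfold om
    rw [Nat.testBit_xor, Nat.testBit_and, Nat.testBit_shiftRight, Nat.testBit_shiftLeft, h511, Nat.testBit_and, h511,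
      Nat.testBit_xor, Nat.testBit_shiftRight]
    have h1 : ¬ 9 + i < 9 := by omega
    have h2 : 9 + i - 9 = i := by omega
    simp [h1, h2, hi]

theorem tv_om (h : FH ω) (c i : ℕ) (hi : i < 9) : tv ω (om c) i = ω * tv ω c i := by
  unfold tv
  obtain ⟨h1, h2⟩ := testBit_om c i hi
  rw [h1, h2, tb_om h]

theorem tv_bit (b : Bool) (c i : ℕ) : tv ω (b.toNat * c) i = (bif b then 1 else 0) * tv ω c i := by
  cases b
  · simp [tv_zero]
  · simp

theorem and_one (n j : ℕ) : (n >>> j) &&& 1 = (n.testBit j).toNat := by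
  rw [Nat.and_one_is_mod, Nat.testBit_eq_decide_div_mod_eq, Nat.shiftRight_eq_div_pow]
  rcases Nat.mod_two_eq_zero_or_one (n / 2 ^ j) with h | h <;> simp [h]

theorem tv_mulV (h : FH ω) (cs : List ℕ) : ∀ (n i : ℕ), i < 9 →
    tv ω (mulV cs n) i = ∑ j ∈ Finset.range cs.length, tv ω (cs.getD j 0) i * tv ω n j := by
  induction cs with
  | nil => intro n i _; simp [mulV, tv_zero]
  | cons c cs ih =>
    intro n i hi
    have e0 : n &&& 1 = (n.testBit 0).toNat := by
      have := and_one n 0
      rwa [Nat.shiftRight_zero] at this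
    rw [mulV, tv_xor h, tv_xor h, e0, and_one, tv_bit, tv_bit, tv_om h _ _ hi, ih (n >>> 1) i hi, List.length_cons,
      Finset.sum_range_succ']
    have e1 : ∀ j, tv ω (n >>> 1) j = tv ω n (j + 1) := by
      intro j
      unfold tv
      rw [Nat.testBit_shiftRight, Nat.testBit_shiftRight, show 1 + j = j + 1 by ring, show 1 + (9 + j) = 9 + (j + 1) by ring]
    have e2 : ∀ j, (c :: cs).getD (j + 1) 0 = cs.getD j 0 := fun j => rfl
    have e3 : (c :: cs).getD 0 0 = c := rfl
    simp only [e1, e2, e3]
    have e4 : tv ω n 0 = (bif n.testBit 0 then 1 else 0) + (bif n.testBit 9 then 1 else 0) * ω := by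
      unfold tv tb
      cases n.testBit 9 <;> simp [*]
    rw [e4]
    ring

theorem mulV_zero (M : List ℕ) : mulV M 0 = 0 := by
  induction M with
  | nil => rfl
  | cons c cs ih => rw [mulV]; simp [ih]

theorem sum_ix {A : Type*} [AddCommMonoid A] (f : ℕ → A) : ∑ z : F9, f (ix z) = ∑ j ∈ Finset.range 9, f j := by
  have h1 : Finset.range 9 = (Finset.univ : Finset F9).image ix := by decide
  rw [h1, Finset.sum_image]
  intro a _ b _ hab
  revert a b
  decide

theorem ix_lt (z : F9) : ix z < 9 := by
  revert z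
  decide

theorem toM_mul (h : FH ω) {M N : List ℕ} (hM : M.length = 9) : toM ω (mulM M N) = toM ω M * toM ω N := by
  ext w z
  rw [Matrix.mul_apply]
  unfold toM mulM
  simp only [Matrix.of_apply]
  have e := List.getD_map (f := mulV M) (l := N) (n := ix z) (d := 0)
  rw [mulV_zero] at e
  rw [e, tv_mulV h M _ _ (ix_lt w), hM, sum_ix (fun j => tv ω (M.getD j 0) (ix w) * tv ω (N.getD (ix z) 0) j)]

theorem toM_id : toM ω idM = 1 := by
  have h1 : ∀ w z : F9, (idM.getD (ix z) 0).testBit (ix w) = decide (w = z) ∧ (idM.getD (ix z) 0).testBit (9 + ix w) = false := by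
    decide
  ext w z
  obtain ⟨h2, h3⟩ := h1 w z
  unfold toM tv
  rw [Matrix.of_apply, h2, h3, Matrix.one_apply]
  by_cases hwz : w = z <;> simp [tb, hwz]

theorem mulM_length (M N : List ℕ) : (mulM M N).length = N.length := by simp [mulM]

theorem evM_length (L : List (List ℕ)) (w : List ℕ) : (evM L w).length = 9 := by
  induction w with
  | nil => rfl
  | cons y w ih => rw [evM, mulM_length, ih]

end

end Cfsg.Agent.H20.J3X
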