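import Cfsg.Agent.H20_J3X
import Cfsg.Agent.H20_J3R

/-!
The matrices of the triple cover of J3 as words in the standard generators.
-/

set_option autoImplicit false
set_option maxRecDepth 100000

namespace Cfsg.Agent.H20.J3Y

open Cfsg.Agent.H8.CE Cfsg.Agent.H8.Act Cfsg.Agent.H20.J3X Cfsg.Spor Matrix


/-- matrices of the letters: `1, a, b, b⁻¹, c, c⁻¹, e, e⁻¹, ω, ω²` -/
def tab : List (List ℕ) := [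
  [1, 2, 4, 8, 16, 32, 64, 128, 256],
  [12460, 133324, 214269, 221918, 201701, 6393, 131518, 145635, 114062],
  [1, 1024, 2048, 4096, 8208, 16416, 32768, 65664, 131328],
  [1, 1026, 2052, 4104, 8192, 16384, 32832, 65536, 131072],
  [152943, 180485, 4793, 234537, 254323, 84047, 120701, 206776, 225277],
  [231611, 234488, 147523, 39840, 204868, 190126, 46379, 258172, 210504],
  [216493, 63296, 37699, 121978, 16052, 99074, 225759, 246889, 207202],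
  [27891, 79863, 144200, 48279, 173322, 104274, 89440, 250808, 230054],
  [512, 1024, 2048, 4096, 8192, 16384, 32768, 65536, 131072],
  [513, 1026, 2052, 4104, 8208, 16416, 32832, 65664, 131328]]

theorem c11 : mulM (tab.getD 1 idM) (tab.getD 1 idM) = idM := by decide +kernel
theorem c23 : mulM (tab.getD 2 idM) (tab.getD 3 idM) = idM := by decide +kernel
theorem c32 : mulM (tab.getD 3 idM) (tab.getD 2 idM) = idM := by decide +kernel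
theorem c4 : evM tab [1, 2, 1, 2, 1, 3] = tab.getD 4 idM := by decide +kernel
theorem c45 : mulM (tab.getD 4 idM) (tab.getD 5 idM) = idM := by decide +kernel
theorem c6 : evM tab [1, 2, 1, 2, 1, 3, 1, 2, 1, 2, 1, 2, 1, 2, 1, 2] = tab.getD 6 idM := by decide +kernel
theorem c67 : mulM (tab.getD 6 idM) (tab.getD 7 idM) = idM := by decide +kernel
theorem c8 : evM tab (powW [1, 2] 19) = tab.getD 8 idM := by decide +kernel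
theorem c89 : mulM (tab.getD 8 idM) (tab.getD 9 idM) = idM := by decide +kernel
theorem crel : (J3R.rels.all fun w => evM tab w == idM || evM tab w == tab.getD 8 idM || evM tab w == tab.getD 9 idM) = true := by decide +kernel

def matA : List (List ℕ) := [
  [1, 2, 4, 8, 16, 32, 64, 128, 256],
  [1, 1024, 2052, 8, 8192, 16416, 64, 65536, 131328],
  [1, 1026, 2048, 8, 8208, 16384, 64, 65664, 131072],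
  [1, 2, 4, 4096, 8192, 16384, 32832, 65664, 131328],
  [1, 1024, 2052, 4096, 8208, 32, 32832, 128, 131072],
  [1, 1026, 2048, 4096, 16, 16416, 32832, 65536, 256],
  [1, 2, 4, 4104, 8208, 16416, 32768, 65536, 131072],
  [1, 1024, 2052, 4104, 16, 16384, 32768, 65664, 256],
  [1, 1026, 2048, 4104, 8192, 32, 32768, 128, 131328]]

def wdA : List (List ℕ) := [
  [],
  [9, 1, 2, 1, 2, 1, 2, 1, 3, 1, 2, 1, 3, 1, 3, 1, 3, 1, 3, 1, 3, 1, 2, 1, 3, 1, 3, 1, 2, 1, 3, 1, 2, 1, 2, 1, 2, 1, 2, 1, 2, 1, 3, 1, 2, 1, 3, 1, 3, 1, 3, 1, 3],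
  [8, 1, 2, 1, 3, 1, 2, 1, 3, 1, 2, 1, 2, 1, 3, 1, 2, 1, 2, 1, 3, 1, 3, 1, 3, 1, 2, 1, 3, 1, 3, 1, 3, 1, 2, 1, 2, 1, 2, 1, 3, 1, 2, 1, 3, 1, 3, 1, 3, 1, 3, 1, 2],
  [8, 1, 3, 1, 3, 1, 2, 1, 3, 1, 2, 1, 2, 1, 3, 1, 2, 1, 3, 1, 3, 1, 3, 1, 2, 1, 3, 1, 2, 1, 3, 1, 3, 1, 2, 1, 2, 1, 2, 1, 2, 1, 3, 1, 3, 1, 3, 1],
  [9, 1, 2, 1, 2, 1, 2, 1, 2, 1, 3, 1, 3, 1, 3, 1, 2, 1, 3, 1, 3, 1, 2, 1, 3, 1, 2, 1, 2, 1, 2, 1, 2, 1, 3, 1, 2, 1, 3, 1, 3, 1, 3, 1, 3, 1, 2],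
  [8, 1, 2, 1, 2, 1, 3, 1, 3, 1, 3, 1, 2, 1, 2, 1, 2, 1, 3, 1, 3, 1, 2, 1, 2, 1, 3, 1, 2, 1, 3, 1, 2, 1, 3, 1, 3, 1, 3, 1, 2, 1, 2, 1, 2, 1, 2, 1],
  [9, 1, 2, 1, 2, 1, 2, 1, 3, 1, 3, 1, 3, 1, 3, 1, 2, 1, 2, 1, 3, 1, 2, 1, 3, 1, 2, 1, 2, 1, 2, 1, 3, 1, 2, 1, 3, 1, 3, 1, 2, 1, 3, 1, 2, 1, 2, 1],
  [9, 1, 3, 1, 3, 1, 3, 1, 3, 1, 2, 1, 2, 1, 2, 1, 3, 1, 2, 1, 3, 1, 2, 1, 3, 1, 3, 1, 2, 1, 2, 1, 3, 1, 3, 1, 3, 1, 2, 1, 2, 1, 2, 1, 3, 1, 3, 1],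
  [8, 1, 2, 1, 2, 1, 2, 1, 2, 1, 3, 1, 2, 1, 3, 1, 3, 1, 3, 1, 3, 1, 2, 1, 3, 1, 2, 1, 2, 1, 3, 1, 2, 1, 2, 1, 2, 1, 3, 1, 3, 1, 3, 1, 3, 1, 3]]

theorem ckA : ∀ i < 9, evM tab (wdA.getD i []) = matA.getD i idM := by decide +kernel

def matE : List (List ℕ) := [
  [1, 1024, 2048, 4096, 8208, 16416, 32768, 65664, 131328],
  [512, 2, 2048, 4104, 8192, 16416, 32832, 65536, 131328],
  [512, 1024, 4, 4104, 8208, 16384, 32832, 65664, 131072],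
  [512, 1026, 2052, 8, 8192, 16384, 32768, 65664, 131328],
  [513, 1024, 2052, 4096, 16, 16384, 32832, 65536, 131328],
  [513, 1026, 2048, 4096, 8192, 32, 32832, 65664, 131072],
  [512, 1026, 2052, 4096, 8208, 16416, 64, 65536, 131072],
  [513, 1024, 2052, 4104, 8192, 16416, 32768, 128, 131072],
  [513, 1026, 2048, 4104, 8208, 16384, 32768, 65536, 256]]

def wdE : List (List ℕ) := [
  [2],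
  [1, 2, 1, 2, 1, 2, 1, 3, 1, 2, 1, 3, 1, 3, 1, 3, 1, 3, 1, 3, 1, 2, 1, 3, 1, 3, 1, 2, 1, 3, 1, 2, 1, 2, 1, 2, 1, 2, 1, 2, 1, 3, 1, 2, 1, 3, 1, 3, 1, 3, 1],
  [9, 1, 2, 1, 3, 1, 2, 1, 3, 1, 2, 1, 2, 1, 3, 1, 2, 1, 2, 1, 3, 1, 3, 1, 3, 1, 2, 1, 3, 1, 3, 1, 3, 1, 2, 1, 2, 1, 2, 1, 3, 1, 2, 1, 3, 1, 3, 1, 3, 1, 3, 1, 3],
  [9, 1, 2, 1, 2, 1, 3, 1, 2, 1, 3, 1, 3, 1, 2, 1, 3, 1, 2, 1, 2, 1, 2, 1, 2, 1, 3, 1, 2, 1, 3, 1, 3, 1, 2, 1, 2, 1, 2, 1, 2, 1, 3, 1, 3, 1, 3, 1],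
  [8, 1, 2, 1, 2, 1, 2, 1, 2, 1, 3, 1, 3, 1, 3, 1, 2, 1, 3, 1, 3, 1, 2, 1, 3, 1, 2, 1, 2, 1, 2, 1, 2, 1, 3, 1, 2, 1, 3, 1, 3, 1, 3, 1, 3, 1, 3],
  [1, 2, 1, 2, 1, 3, 1, 3, 1, 3, 1, 2, 1, 2, 1, 2, 1, 3, 1, 3, 1, 2, 1, 2, 1, 3, 1, 2, 1, 3, 1, 2, 1, 3, 1, 3, 1, 3, 1, 2, 1, 2, 1, 2, 1, 2, 1, 2],
  [1, 2, 1, 2, 1, 2, 1, 3, 1, 3, 1, 3, 1, 3, 1, 2, 1, 2, 1, 3, 1, 2, 1, 3, 1, 2, 1, 2, 1, 2, 1, 3, 1, 2, 1, 3, 1, 3, 1, 2, 1, 3, 1, 2, 1, 2, 1, 2],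
  [8, 1, 3, 1, 3, 1, 3, 1, 3, 1, 2, 1, 2, 1, 2, 1, 3, 1, 2, 1, 3, 1, 2, 1, 3, 1, 3, 1, 2, 1, 2, 1, 3, 1, 3, 1, 3, 1, 2, 1, 2, 1, 2, 1, 3, 1, 3, 1, 2],
  [1, 2, 1, 2, 1, 2, 1, 2, 1, 3, 1, 2, 1, 3, 1, 3, 1, 3, 1, 3, 1, 2, 1, 3, 1, 2, 1, 2, 1, 3, 1, 2, 1, 2, 1, 2, 1, 3, 1, 3, 1, 3, 1, 3, 1]]

theorem ckE : ∀ i < 9, evM tab (wdE.getD i []) = matE.getD i idM := by decide +kernel

def matD : List (List ℕ) := [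
  [1, 2, 4, 8, 16, 32, 64, 128, 256],
  [2, 4, 1, 16, 16416, 8, 128, 131072, 64],
  [4, 1, 2, 32, 8, 8192, 256, 64, 65664],
  [8, 16, 32, 64, 65536, 131328, 1, 2, 4],
  [16, 32, 4096, 128, 256, 64, 1026, 4, 1],
  [32, 4104, 16, 256, 64, 128, 2048, 1, 2],
  [64, 128, 256, 1, 2, 4, 8, 8208, 16384],
  [128, 256, 32832, 1024, 4, 1, 16, 32, 8],
  [256, 32768, 128, 2052, 1, 2, 32, 8, 16]]

def wdD : List (List ℕ) := [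
  [],
  [9, 3, 1, 3, 1, 3, 1, 3, 1, 2, 1, 2, 1, 3, 1, 3, 1, 3, 1, 2, 1, 3, 1, 2, 1, 3, 1, 2, 1, 2, 1, 3, 1, 3, 1, 3, 1, 2, 1, 3, 1, 3, 1, 2, 1, 2, 1, 3, 1, 3, 1, 2],
  [8, 3, 1, 2, 1, 2, 1, 3, 1, 3, 1, 2, 1, 2, 1, 3, 1, 2, 1, 2, 1, 2, 1, 3, 1, 3, 1, 2, 1, 3, 1, 2, 1, 3, 1, 2, 1, 2, 1, 2, 1, 3, 1, 3, 1, 2, 1, 2, 1, 2, 1, 2],
  [8, 1, 2, 1, 2, 1, 2, 1, 2, 1, 2, 1, 2, 1, 3, 1, 3, 1, 2, 1, 3, 1, 2, 1, 3, 1, 3, 1, 2, 1, 3, 1, 3, 1, 3, 1, 3, 1, 3, 1, 3, 1, 3, 1, 2, 1],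
  [8, 2, 1, 2, 1, 3, 1, 2, 1, 2, 1, 2, 1, 3, 1, 2, 1, 3, 1, 3, 1, 3, 1, 2, 1, 3, 1, 2, 1, 3, 1, 3, 1, 2, 1, 2, 1, 3, 1, 3, 1, 2, 1, 2, 1, 2, 1, 3],
  [1, 2, 1, 2, 1, 2, 1, 2, 1, 2, 1, 2, 1, 2, 1, 3, 1, 3, 1, 2, 1, 3, 1, 3, 1, 2, 1, 2, 1, 2, 1, 2, 1, 3, 1, 3, 1, 2, 1, 3],
  [9, 1, 3, 1, 2, 1, 2, 1, 2, 1, 2, 1, 2, 1, 2, 1, 2, 1, 3, 1, 2, 1, 2, 1, 3, 1, 2, 1, 3, 1, 2, 1, 2, 1, 3, 1, 3, 1, 3, 1, 3, 1, 3, 1, 3, 1],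
  [2, 1, 3, 1, 2, 1, 2, 1, 3, 1, 3, 1, 3, 1, 3, 1, 2, 1, 2, 1, 3, 1, 2, 1, 2, 1, 3, 1, 3, 1, 3, 1, 3, 1, 3, 1, 3, 1, 3, 1],
  [9, 2, 1, 3, 1, 3, 1, 3, 1, 2, 1, 2, 1, 3, 1, 3, 1, 2, 1, 2, 1, 3, 1, 2, 1, 3, 1, 2, 1, 2, 1, 2, 1, 3, 1, 2, 1, 3, 1, 3, 1, 3, 1, 2, 1, 3, 1, 3]]

theorem ckD : ∀ i < 9, evM tab (wdD.getD i []) = matD.getD i idM := by decide +kernel

def matB : List (List ℕ) := [
  [1, 2, 4, 8, 16, 32, 64, 128, 256],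
  [1, 64, 8, 2, 128, 16, 4, 256, 32],
  [1, 8, 64, 4, 32, 256, 2, 16, 128],
  [1, 2, 4, 8, 16, 32, 64, 128, 256],
  [1, 128, 32, 16, 4, 64, 256, 8, 2],
  [1, 16, 256, 32, 64, 2, 128, 4, 8],
  [1, 4, 2, 64, 256, 128, 8, 32, 16],
  [1, 256, 16, 128, 8, 4, 32, 2, 64],
  [1, 32, 128, 256, 2, 8, 16, 64, 4]]

def wdB : List (List ℕ) := [
  [],
  [8, 1, 2, 1, 3, 1, 2, 1, 2, 1, 3, 1, 3, 1, 2, 1, 3, 1, 2, 1, 2, 1, 3, 1, 3, 1, 3, 1, 3, 1, 3, 1, 2, 1, 3, 1, 2, 1, 2, 1, 3, 1, 3, 1, 3, 1, 2, 1, 2, 1, 2],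
  [9, 1, 3, 1, 3, 1, 2, 1, 2, 1, 2, 1, 3, 1, 3, 1, 2, 1, 3, 1, 2, 1, 2, 1, 2, 1, 2, 1, 2, 1, 3, 1, 3, 1, 2, 1, 3, 1, 2, 1, 2, 1, 3, 1, 3, 1, 2, 1, 3, 1, 3],
  [],
  [1, 3, 1, 3, 1, 2, 1, 3, 1, 2, 1, 3, 1, 3, 1, 3, 1, 3, 1, 2, 1, 3, 1, 2, 1, 2, 1, 2, 1, 3, 1, 2, 1, 2, 1, 2, 1, 2, 1, 2, 1, 2, 1, 3, 1, 2, 1, 2, 1, 3, 1, 2, 1],
  [9, 1, 2, 1, 3, 1, 3, 1, 2, 1, 2, 1, 2, 1, 3, 1, 2, 1, 3, 1, 3, 1, 3, 1, 2, 1, 3, 1, 2, 1, 3, 1, 2, 1, 2, 1, 3, 1, 2, 1, 2, 1, 2, 1, 2, 1, 3],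
  [1, 3, 1, 2, 1, 3, 1, 3, 1, 3, 1, 2, 1, 2, 1, 2, 1, 3, 1, 3, 1, 2, 1, 2, 1, 2, 1, 3, 1, 3, 1, 2, 1, 3, 1, 2, 1, 3, 1, 2, 1, 2, 1, 3, 1, 3, 1, 3, 1, 3, 1],
  [1, 3, 1, 2, 1, 3, 1, 3, 1, 2, 1, 3, 1, 3, 1, 3, 1, 3, 1, 3, 1, 3, 1, 2, 1, 3, 1, 3, 1, 3, 1, 2, 1, 3, 1, 2, 1, 2, 1, 2, 1, 2, 1, 3, 1, 2, 1, 3, 1, 2, 1, 2, 1],
  [8, 1, 3, 1, 3, 1, 3, 1, 3, 1, 2, 1, 3, 1, 3, 1, 2, 1, 3, 1, 2, 1, 3, 1, 2, 1, 2, 1, 2, 1, 3, 1, 2, 1, 3, 1, 3, 1, 3, 1, 2, 1, 2, 1, 3, 1, 3]]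

theorem ckB : ∀ i < 9, evM tab (wdB.getD i []) = matB.getD i idM := by decide +kernel

def matC : List (List ℕ) := [
  [1, 2, 4, 8, 16, 32, 64, 128, 256],
  [1, 70, 14, 76, 176, 400, 74, 304, 416],
  [1, 14, 70, 74, 416, 304, 76, 400, 176],
  [1, 74, 76, 70, 304, 176, 14, 416, 400],
  [1, 400, 304, 416, 70, 76, 176, 74, 14],
  [1, 176, 416, 400, 74, 70, 304, 14, 76],
  [1, 76, 74, 14, 400, 416, 70, 176, 304],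
  [1, 416, 176, 304, 76, 14, 400, 70, 74],
  [1, 304, 400, 176, 14, 74, 416, 76, 70]]

def wdC : List (List ℕ) := [
  [],
  [9, 1, 3, 1, 2, 1, 3, 1, 3, 1, 3, 1, 2, 1, 2, 1, 3, 1, 3, 1, 3, 1, 3, 1, 2, 1, 2, 1, 3, 1, 3, 1, 2, 1, 2, 1, 3, 1, 2, 1, 2, 1, 2, 1, 3, 1, 2, 1, 3, 1, 3],
  [8, 1, 3, 1, 3, 1, 2, 1, 3, 1, 3, 1, 2, 1, 2, 1, 2, 1, 3, 1, 2, 1, 2, 1, 3, 1, 3, 1, 3, 1, 3, 1, 3, 1, 3, 1, 2, 1, 3, 1, 2, 1, 2, 1, 3, 1, 2, 1, 2, 1, 2, 1, 3, 1],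
  [8, 1, 3, 1, 3, 1, 3, 1, 2, 1, 3, 1, 3, 1, 3, 1, 2, 1, 2, 1, 3, 1, 2, 1, 2, 1, 3, 1, 3, 1, 2, 1, 2, 1, 2, 1, 2, 1, 3, 1, 3, 1, 2, 1, 2, 1, 3, 1, 3, 1, 3, 1, 2, 1, 2],
  [1, 3, 1, 2, 1, 2, 1, 3, 1, 2, 1, 3, 1, 3, 1, 2, 1, 3, 1, 3, 1, 3, 1, 2, 1, 2, 1, 2, 1, 3, 1, 3, 1, 3, 1, 2, 1, 2, 1, 3, 1, 3, 1, 2, 1, 3, 1, 3, 1, 2],
  [1, 3, 1, 2, 1, 3, 1, 2, 1, 3, 1, 3, 1, 3, 1, 3, 1, 3, 1, 3, 1, 3, 1, 3, 1, 2, 1, 3, 1, 2, 1, 3, 1, 2, 1, 3, 1, 2, 1, 2, 1, 2, 1, 2, 1, 2, 1, 2, 1, 3, 1],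
  [1, 3, 1, 2, 1, 3, 1, 3, 1, 2, 1, 3, 1, 2, 1, 3, 1, 3, 1, 3, 1, 2, 1, 3, 1, 3, 1, 2, 1, 2, 1, 3, 1, 2, 1, 2, 1, 3, 1, 3, 1, 2, 1, 3],
  [1, 3, 1, 3, 1, 3, 1, 3, 1, 2, 1, 3, 1, 2, 1, 3, 1, 3, 1, 2, 1, 2, 1, 3, 1, 2, 1, 3, 1, 3, 1, 2, 1, 3, 1, 3, 1, 3, 1, 3, 1, 2, 1, 3, 1, 2, 1, 2, 1, 2, 1, 2, 1, 3],
  [1, 2, 1, 3, 1, 3, 1, 2, 1, 2, 1, 3, 1, 2, 1, 2, 1, 3, 1, 3, 1, 2, 1, 3, 1, 3, 1, 2, 1, 2, 1, 3, 1, 3]]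

theorem ckC : ∀ i < 9, evM tab (wdC.getD i []) = matC.getD i idM := by decide +kernel

theorem cl : ((wdA ++ wdE ++ wdD ++ wdB ++ wdC).all fun w => w.all fun y => Nat.blt y 10) = true := by decide +kernel

theorem cP : mulM (mulM (mulM (matD.getD 3 idM) (matC.getD 8 idM)) (matD.getD 7 idM)) (tab.getD 1 idM) =
    mulM (matC.getD 1 idM) (mulM (mulM (matD.getD 3 idM) (matC.getD 8 idM)) (matD.getD 7 idM)) := by decide +kernel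

theorem cE : matE.getD 0 idM = tab.getD 2 idM := by decide +kernel


/-- two bits -/
def bt (M : List ℕ) (w z : F9) : Bool × Bool := ((M.getD (ix z) 0).testBit (ix w), (M.getD (ix z) 0).testBit (9 + ix w))

/-- code of a power of `ω` -/
def en (n : ZMod 3) : Bool × Bool := if n = 0 then (true, false) else if n = 1 then (false, true) else (true, true)

/-- code of `λ` -/
def lamC (Z z : F9) : Bool × Bool :=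
  if z = 0 then (true, false)
  else if F9.div Z z = F9.I - F9.one then (false, true)
  else if F9.div Z z = -F9.I - F9.one then (true, true)
  else (true, false)

theorem eA : ∀ Z w z : F9, bt (matA.getD (ix Z) idM) w z = if w = z then en (Z.1 * w.1 + Z.2 * w.2) else (false, false) := by
  decide +kernel
theorem eE : ∀ Z w z : F9, bt (matE.getD (ix Z) idM) w z = if w = z then en ((Z.1 - w.1) ^ 2 + (Z.2 - w.2) ^ 2) else (false, false) := by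
  decide +kernel
theorem eD : ∀ Z w z : F9, bt (matD.getD (ix Z) idM) w z = if w = z + Z then lamC Z z else (false, false) := by
  decide +kernel
theorem eB : ∀ Z w z : F9, Z ≠ 0 → bt (matB.getD (ix Z) idM) w z = if w = F9.mul Z z then (true, false) else (false, false) := by
  decide +kernel
theorem eC : ∀ Z w z : F9, Z ≠ 0 → bt (matC.getD (ix Z) idM) w z = if z = 0 then (if w = 0 then (true, false) else (false, false))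
    else if w = -F9.div Z z ∨ w = F9.mul F9.I (F9.div Z z) ∨ w = -F9.mul F9.I (F9.div Z z) then (true, false) else (false, false) := by
  decide +kernel

section
variable {F : Type*} [Field F] {ω : F}

theorem toM_apply (M : List ℕ) (w z : F9) : toM ω M w z = tb ω (bt M w z).1 (bt M w z).2 := rfl

theorem tb_en (h : FH ω) (n : ZMod 3) : tb ω (en n).1 (en n).2 = omegaPow F ω n := by
  have h1 : n = 0 ∨ n = 1 ∨ n = 2 := by revert n; decide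
  rcases h1 with rfl | rfl | rfl
  · simp [en, omegaPow, tb]
  · have : (1 : ZMod 3).val = 1 := rfl
    have h3 : ¬ (1 : ZMod 3) = 0 := by decide
    simp [en, omegaPow, tb, h3, this]
  · have : (2 : ZMod 3).val = 2 := rfl
    have h3 : ¬ (2 : ZMod 3) = 0 := by decide
    have h4 : ¬ (2 : ZMod 3) = 1 := by decide
    simp only [en, omegaPow, tb, h3, h4, this, if_false, cond_true]
    rw [h.sq]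

theorem tb_lam (h : FH ω) (Z z : F9) : tb ω (lamC Z z).1 (lamC Z z).2 = j3Lam F ω Z z := by
  unfold lamC j3Lam
  split_ifs
  · simp [tb]
  · simp [tb]
  · rw [h.sq]; simp [tb]
  · simp [tb]

theorem mA (h : FH ω) (Z : F9) : toM ω (matA.getD (ix Z) idM) = j3A F ω Z := by
  ext w z
  rw [toM_apply, eA, j3A, Matrix.diagonal_apply]
  split_ifs with hwz
  · rw [tb_en h]
  · simp [tb]

theorem mE (h : FH ω) (Z : F9) : toM ω (matE.getD (ix Z) idM) = j3E F ω Z := by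
  ext w z
  rw [toM_apply, eE, j3E, Matrix.diagonal_apply]
  split_ifs with hwz
  · rw [tb_en h]
  · simp [tb]

theorem mD (h : FH ω) (Z : F9) : toM ω (matD.getD (ix Z) idM) = j3D F ω Z := by
  ext w z
  rw [toM_apply, eD, j3D, Matrix.of_apply]
  split_ifs with hwz
  · rw [tb_lam h]
  · simp [tb]

theorem mB (Z : F9) (hZ : Z ≠ 0) : toM ω (matB.getD (ix Z) idM) = j3B F Z := by
  ext w z
  rw [toM_apply, eB Z w z hZ, j3B, Matrix.of_apply]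
  split_ifs <;> simp [tb]

theorem mC (Z : F9) (hZ : Z ≠ 0) : toM ω (matC.getD (ix Z) idM) = j3C F Z := by
  ext w z
  rw [toM_apply, eC Z w z hZ, j3C, Matrix.of_apply]
  split_ifs <;> simp [tb]

end

end Cfsg.Agent.H20.J3Y
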