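import Cfsg.Agent.H20_J3Y
import Cfsg.Agent.H20_J3M

/-!
The triple cover of J3 and the presented group.
-/

set_option autoImplicit false
set_option maxRecDepth 100000

namespace Cfsg.Agent.H20.J3Z

open Cfsg.Agent.H8.CE Cfsg.Agent.H8.Act Cfsg.Agent.H20.J3X Cfsg.Agent.H20.J3Y Cfsg.Agent.H20.J3R Cfsg.Spor Matrix
open Cfsg.Agent.H20.J3M (J)
open scoped MatrixGroups

theorem tab_len (y : ℕ) : (tab.getD y idM).length = 9 := by
  by_cases hy : y < 10
  · revert y; decide
  · rw [List.getD_eq_default _ _ (by show 10 ≤ y; omega)]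
    rfl

section
variable {F : Type*} [Field F] {ω : F}

theorem mat_mul (h : FH ω) (y y' : ℕ) (he : mulM (tab.getD y idM) (tab.getD y' idM) = idM) :
    toM ω (tab.getD y idM) * toM ω (tab.getD y' idM) = 1 := by
  rw [← toM_mul h (tab_len y), he, toM_id]

/-- the first generator -/
def al (h : FH ω) : GL F9 F := ⟨toM ω (tab.getD 1 idM), toM ω (tab.getD 1 idM), mat_mul h 1 1 c11, mat_mul h 1 1 c11⟩

/-- the second generator -/
def be (h : FH ω) : GL F9 F := ⟨toM ω (tab.getD 2 idM), toM ω (tab.getD 3 idM), mat_mul h 2 3 c23, mat_mul h 3 2 c32⟩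

def f0 (h : FH ω) : Gen → GL F9 F
  | .a => al h
  | .b => be h

/-- letters -/
def yG (h : FH ω) (y : ℕ) : GL F9 F :=
  if y = 8 then (al h * be h) ^ 19 else if y = 9 then ((al h * be h) ^ 19)⁻¹ else FreeGroup.lift (f0 h) (fl y)

theorem ev_val (h : FH ω) (Y : ℕ → GL F9 F) (w : List ℕ) (hY : ∀ y ∈ w, (Y y : Matrix F9 F9 F) = toM ω (tab.getD y idM)) :
    ((ev Y w : GL F9 F) : Matrix F9 F9 F) = toM ω (evM tab w) := by
  induction w with
  | nil => rw [ev_nil, evM, toM_id]; rfl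
  | cons y w ih =>
    rw [ev_cons, evM, toM_mul h (tab_len y), Units.val_mul, hY y (by simp), ih (fun z hz => hY z (by simp [hz]))]

theorem ev_lift {K : Type*} [Group K] (f : Gen → K) (w : List ℕ) :
    ev (fun y => FreeGroup.lift f (fl y)) w = FreeGroup.lift f (ev fl w) := by
  induction w with
  | nil => simp
  | cons y w ih => rw [ev_cons, ev_cons, map_mul, ih]

theorem inv_val (h : FH ω) (g : GL F9 F) (y y' : ℕ) (hg : (g : Matrix F9 F9 F) = toM ω (tab.getD y idM))
    (he : mulM (tab.getD y idM) (tab.getD y' idM) = idM) :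
    ((g⁻¹ : GL F9 F) : Matrix F9 F9 F) = toM ω (tab.getD y' idM) := by
  apply Units.inv_eq_of_mul_eq_one_right
  rw [hg]
  exact mat_mul h y y' he

theorem v0 (h : FH ω) : (yG h 0 : Matrix F9 F9 F) = toM ω (tab.getD 0 idM) := by
  have : tab.getD 0 idM = idM := rfl
  rw [this, toM_id]
  simp [yG, fl, lm]
theorem v1 (h : FH ω) : (yG h 1 : Matrix F9 F9 F) = toM ω (tab.getD 1 idM) := by
  simp only [yG, fl, lm, J3R.a]
  simp only [show ¬ (1 = 8) by decide, show ¬ (1 = 9) by decide, if_false]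
  have : ([1, FreeGroup.of Gen.a, J3R.b, J3R.b⁻¹, J3R.c, J3R.c⁻¹, J3R.e, J3R.e⁻¹] : List (FreeGroup Gen)).getD 1 1 = FreeGroup.of Gen.a := rfl
  rw [this, FreeGroup.lift_apply_of]
  rfl
theorem v2 (h : FH ω) : (yG h 2 : Matrix F9 F9 F) = toM ω (tab.getD 2 idM) := by
  have e : yG h 2 = be h := by
    have : fl 2 = FreeGroup.of Gen.b := rfl
    simp only [yG, show ¬ (2 = 8) by decide, show ¬ (2 = 9) by decide, if_false]
    rw [this, FreeGroup.lift_apply_of]
    rfl
  rw [e]; rfl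
theorem v3 (h : FH ω) : (yG h 3 : Matrix F9 F9 F) = toM ω (tab.getD 3 idM) := by
  have e : yG h 3 = (be h)⁻¹ := by
    have : fl 3 = (FreeGroup.of Gen.b)⁻¹ := rfl
    simp only [yG, show ¬ (3 = 8) by decide, show ¬ (3 = 9) by decide, if_false]
    rw [this, map_inv, FreeGroup.lift_apply_of]
    rfl
  rw [e]; rfl

theorem yG_lift (h : FH ω) (y : ℕ) (hy : y < 8) : yG h y = FreeGroup.lift (f0 h) (fl y) := by
  have h1 : ¬ y = 8 := by omega
  have h2 : ¬ y = 9 := by omega
  simp only [yG, h1, h2, if_false]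

theorem v123 (h : FH ω) (y : ℕ) (hy : y = 1 ∨ y = 2 ∨ y = 3) : (yG h y : Matrix F9 F9 F) = toM ω (tab.getD y idM) := by
  rcases hy with rfl | rfl | rfl
  exacts [v1 h, v2 h, v3 h]

theorem v4 (h : FH ω) : (yG h 4 : Matrix F9 F9 F) = toM ω (tab.getD 4 idM) := by
  have e : yG h 4 = ev (yG h) [1, 2, 1, 2, 1, 3] := by
    simp only [ev_cons, ev_nil, mul_one, yG_lift h 1 (by decide), yG_lift h 2 (by decide), yG_lift h 3 (by decide),
      yG_lift h 4 (by decide), ← map_mul]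
    congr 1
  rw [e, ev_val h _ _ (fun y hy => v123 h y (by revert y; decide)), c4]
theorem v6 (h : FH ω) : (yG h 6 : Matrix F9 F9 F) = toM ω (tab.getD 6 idM) := by
  have e : yG h 6 = ev (yG h) [1, 2, 1, 2, 1, 3, 1, 2, 1, 2, 1, 2, 1, 2, 1, 2] := by
    simp only [ev_cons, ev_nil, mul_one, yG_lift h 1 (by decide), yG_lift h 2 (by decide), yG_lift h 3 (by decide),
      yG_lift h 6 (by decide), ← map_mul]
    congr 1
  rw [e, ev_val h _ _ (fun y hy => v123 h y (by revert y; decide)), c6]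
theorem v5 (h : FH ω) : (yG h 5 : Matrix F9 F9 F) = toM ω (tab.getD 5 idM) := by
  have e : yG h 5 = (yG h 4)⁻¹ := by
    rw [yG_lift h 5 (by decide), yG_lift h 4 (by decide), ← map_inv]
    rfl
  rw [e]
  exact inv_val h _ 4 5 (v4 h) c45
theorem v7 (h : FH ω) : (yG h 7 : Matrix F9 F9 F) = toM ω (tab.getD 7 idM) := by
  have e : yG h 7 = (yG h 6)⁻¹ := by
    rw [yG_lift h 7 (by decide), yG_lift h 6 (by decide), ← map_inv]
    rfl
  rw [e]
  exact inv_val h _ 6 7 (v6 h) c67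
theorem y1 (h : FH ω) : yG h 1 = al h := by
  rw [yG_lift h 1 (by decide)]
  have : fl 1 = FreeGroup.of Gen.a := rfl
  rw [this, FreeGroup.lift_apply_of]; rfl
theorem y2 (h : FH ω) : yG h 2 = be h := by
  rw [yG_lift h 2 (by decide)]
  have : fl 2 = FreeGroup.of Gen.b := rfl
  rw [this, FreeGroup.lift_apply_of]; rfl
theorem v8 (h : FH ω) : (yG h 8 : Matrix F9 F9 F) = toM ω (tab.getD 8 idM) := by
  have e : yG h 8 = ev (yG h) (powW [1, 2] 19) := by
    rw [ev_powW]
    simp only [ev_cons, ev_nil, mul_one, y1, y2]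
    rfl
  rw [e, ev_val h _ _ (fun y hy => v123 h y (by revert y; decide)), c8]
theorem v9 (h : FH ω) : (yG h 9 : Matrix F9 F9 F) = toM ω (tab.getD 9 idM) := by
  have e : yG h 9 = (yG h 8)⁻¹ := rfl
  rw [e]
  exact inv_val h _ 8 9 (v8 h) c89

theorem val (h : FH ω) (y : ℕ) (hy : y < 10) : (yG h y : Matrix F9 F9 F) = toM ω (tab.getD y idM) := by
  interval_cases y
  exacts [v0 h, v1 h, v2 h, v3 h, v4 h, v5 h, v6 h, v7 h, v8 h, v9 h]

theorem ev_yG (h : FH ω) (w : List ℕ) (hw : ∀ y ∈ w, y < 10) : ((ev (yG h) w : GL F9 F) : Matrix F9 F9 F) = toM ω (evM tab w) :=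
  ev_val h _ w fun y hy => val h y (hw y hy)

theorem toM8 (h : FH ω) : toM ω (tab.getD 8 idM) = ω • (1 : Matrix F9 F9 F) := by
  have h1 : ∀ w z : F9, bt (tab.getD 8 idM) w z = (false, decide (w = z)) := by decide
  ext w z
  rw [toM_apply, h1, Matrix.smul_apply, Matrix.one_apply]
  by_cases hwz : w = z <;> simp [tb, hwz]
theorem toM9 (h : FH ω) : toM ω (tab.getD 9 idM) = (ω ^ 2) • (1 : Matrix F9 F9 F) := by
  have h1 : ∀ w z : F9, bt (tab.getD 9 idM) w z = (decide (w = z), decide (w = z)) := by decide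
  ext w z
  rw [toM_apply, h1, Matrix.smul_apply, Matrix.one_apply, h.sq]
  by_cases hwz : w = z <;> simp [tb, hwz]

/-! ### The group -/

theorem mem_cl (h : FH ω) (y : ℕ) : yG h y ∈ Subgroup.closure ({al h, be h} : Set (GL F9 F)) := by
  have ha : al h ∈ Subgroup.closure ({al h, be h} : Set (GL F9 F)) := Subgroup.subset_closure (by simp)
  have hb : be h ∈ Subgroup.closure ({al h, be h} : Set (GL F9 F)) := Subgroup.subset_closure (by simp)
  unfold yG
  split_ifs
  · exact Subgroup.pow_mem _ (Subgroup.mul_mem _ ha hb) _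
  · exact Subgroup.inv_mem _ (Subgroup.pow_mem _ (Subgroup.mul_mem _ ha hb) _)
  · have h1 : (FreeGroup.lift (f0 h)).range ≤ Subgroup.closure ({al h, be h} : Set (GL F9 F)) := by
      rw [FreeGroup.range_lift_eq_closure, Subgroup.closure_le]
      rintro _ ⟨x, rfl⟩
      cases x
      · exact ha
      · exact hb
    exact h1 ⟨_, rfl⟩

theorem ev_mem_cl (h : FH ω) (w : List ℕ) : ev (yG h) w ∈ Subgroup.closure ({al h, be h} : Set (GL F9 F)) := by
  induction w with
  | nil => rw [ev_nil]; exact Subgroup.one_mem _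
  | cons y w ih => rw [ev_cons]; exact Subgroup.mul_mem _ (mem_cl h y) ih

/-- words of the generators -/
theorem wlt (L : List (List ℕ)) (hL : L = wdA ∨ L = wdE ∨ L = wdD ∨ L = wdB ∨ L = wdC) (i : ℕ) (hi : i < 9) :
    ∀ y ∈ L.getD i [], y < 10 := by
  have h1 := cl
  rw [List.all_eq_true] at h1
  have h9 : L.length = 9 := by rcases hL with rfl | rfl | rfl | rfl | rfl <;> rfl
  have hm : L.getD i [] ∈ L := by
    rw [List.getD_eq_getElem _ _ (by omega)]
    exact List.getElem_mem _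
  have h2 := h1 (L.getD i []) (by
    simp only [List.mem_append]
    rcases hL with rfl | rfl | rfl | rfl | rfl <;> tauto)
  rw [List.all_eq_true] at h2
  intro y hy
  have h3 := h2 y hy
  exact Nat.le_of_ble_eq_true h3

theorem famA (h : FH ω) (Z : F9) : ((ev (yG h) (wdA.getD (ix Z) []) : GL F9 F) : Matrix F9 F9 F) = j3A F ω Z := by
  rw [ev_yG h _ (wlt wdA (by simp) _ (ix_lt Z)), ckA _ (ix_lt Z), mA h]
theorem famE (h : FH ω) (Z : F9) : ((ev (yG h) (wdE.getD (ix Z) []) : GL F9 F) : Matrix F9 F9 F) = j3E F ω Z := by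
  rw [ev_yG h _ (wlt wdE (by simp) _ (ix_lt Z)), ckE _ (ix_lt Z), mE h]
theorem famD (h : FH ω) (Z : F9) : ((ev (yG h) (wdD.getD (ix Z) []) : GL F9 F) : Matrix F9 F9 F) = j3D F ω Z := by
  rw [ev_yG h _ (wlt wdD (by simp) _ (ix_lt Z)), ckD _ (ix_lt Z), mD h]
theorem famB (h : FH ω) (Z : F9) (hZ : Z ≠ 0) : ((ev (yG h) (wdB.getD (ix Z) []) : GL F9 F) : Matrix F9 F9 F) = j3B F Z := by
  rw [ev_yG h _ (wlt wdB (by simp) _ (ix_lt Z)), ckB _ (ix_lt Z), mB Z hZ]
theorem famC (h : FH ω) (Z : F9) (hZ : Z ≠ 0) : ((ev (yG h) (wdC.getD (ix Z) []) : GL F9 F) : Matrix F9 F9 F) = j3C F Z := by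
  rw [ev_yG h _ (wlt wdC (by simp) _ (ix_lt Z)), ckC _ (ix_lt Z), mC Z hZ]

theorem T_eq (h : FH ω) : threeJ3 F ω = Subgroup.closure ({al h, be h} : Set (GL F9 F)) := by
  apply le_antisymm
  · unfold threeJ3
    rw [Subgroup.closure_le]
    intro g hg
    have key : ∀ w : List ℕ, ((ev (yG h) w : GL F9 F) : Matrix F9 F9 F) = (g : Matrix F9 F9 F) →
        g ∈ Subgroup.closure ({al h, be h} : Set (GL F9 F)) := by
      intro w hw
      rw [← Units.ext hw]
      exact ev_mem_cl h w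
    rcases hg with (((⟨Z, hZ⟩ | ⟨Z, hZ⟩) | ⟨Z, hZ⟩) | ⟨Z, hZ0, hZ⟩) | ⟨Z, hZ0, hZ⟩
    · exact key _ ((famA h Z).trans hZ)
    · exact key _ ((famE h Z).trans hZ)
    · exact key _ ((famD h Z).trans hZ)
    · exact key _ ((famB h Z hZ0).trans hZ.symm)
    · exact key _ ((famC h Z hZ0).trans hZ.symm)
  · rw [Subgroup.closure_le]
    have hD : ∀ Z : F9, ev (yG h) (wdD.getD (ix Z) []) ∈ threeJ3 F ω := fun Z =>
      Subgroup.subset_closure (Or.inl (Or.inl (Or.inr ⟨Z, (famD h Z).symm⟩)))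
    have hC : ∀ Z : F9, Z ≠ 0 → ev (yG h) (wdC.getD (ix Z) []) ∈ threeJ3 F ω := fun Z hZ =>
      Subgroup.subset_closure (Or.inr ⟨Z, hZ, famC h Z hZ⟩)
    rintro g (rfl | rfl)
    · have h3 := hD (1, 0)
      have h7 := hD (2, 1)
      have h8 := hC (2, 2) (by decide)
      have h1 := hC (0, 1) (by decide)
      rw [show ix ((1, 0) : F9) = 3 from rfl] at h3
      rw [show ix ((2, 1) : F9) = 7 from rfl] at h7
      rw [show ix ((2, 2) : F9) = 8 from rfl] at h8
      rw [show ix ((0, 1) : F9) = 1 from rfl] at h1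
      set d3 := ev (yG h) (wdD.getD 3 []) with hd3
      set d7 := ev (yG h) (wdD.getD 7 []) with hd7
      set c8 := ev (yG h) (wdC.getD 8 []) with hc8
      set c1 := ev (yG h) (wdC.getD 1 []) with hc1
      have e3 : (d3 : Matrix F9 F9 F) = toM ω (matD.getD 3 idM) := by
        rw [hd3, ev_yG h _ (wlt wdD (by simp) _ (by decide)), ckD _ (by decide)]
      have e7 : (d7 : Matrix F9 F9 F) = toM ω (matD.getD 7 idM) := by
        rw [hd7, ev_yG h _ (wlt wdD (by simp) _ (by decide)), ckD _ (by decide)]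
      have e8 : (c8 : Matrix F9 F9 F) = toM ω (matC.getD 8 idM) := by
        rw [hc8, ev_yG h _ (wlt wdC (by simp) _ (by decide)), ckC _ (by decide)]
      have e1 : (c1 : Matrix F9 F9 F) = toM ω (matC.getD 1 idM) := by
        rw [hc1, ev_yG h _ (wlt wdC (by simp) _ (by decide)), ckC _ (by decide)]
      have ea : (al h : Matrix F9 F9 F) = toM ω (tab.getD 1 idM) := rfl
      have key : d3 * c8 * d7 * al h = c1 * (d3 * c8 * d7) := by
        apply Units.ext
        simp only [Units.val_mul]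
        rw [e3, e7, e8, e1, ea, ← toM_mul h (by decide), ← toM_mul h (by decide), ← toM_mul h (by decide), cP,
          toM_mul h (by decide)]
      have : al h = (d3 * c8 * d7)⁻¹ * (c1 * (d3 * c8 * d7)) := by rw [← key]; group
      rw [SetLike.mem_coe, this]
      have hp := (threeJ3 F ω).mul_mem ((threeJ3 F ω).mul_mem h3 h8) h7
      exact (threeJ3 F ω).mul_mem ((threeJ3 F ω).inv_mem hp) ((threeJ3 F ω).mul_mem h1 hp)
    · apply Subgroup.subset_closure
      refine Or.inl (Or.inl (Or.inl (Or.inr ⟨0, ?_⟩)))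
      rw [← mE h, show ix (0 : F9) = 0 from rfl, cE]
      rfl

end

end Cfsg.Agent.H20.J3Z
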