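import Cfsg.Agent.H8_Act
import Cfsg.Agent.H20_L27R

/-!
Permutation networks of an action on 24 points. 
-/

set_option autoImplicit false
set_option maxRecDepth 1000000

namespace Cfsg.Agent.H20.L27L

open Cfsg.Agent.H8.CE Cfsg.Agent.H8.Net Cfsg.Agent.H8.Act

def n1 : Nt := (.st (nat_lit 4) (nat_lit 0xf00)
  (.st (nat_lit 2) (nat_lit 0x30030)
  (.st (nat_lit 1) (nat_lit 0x500005)
  .nil)))

def n2 : Nt := (.st (nat_lit 16) (nat_lit 0xf000)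
  (.st (nat_lit 8) (nat_lit 0xfc00c0)
  (.st (nat_lit 4) (nat_lit 0xc030c08)
  (.st (nat_lit 2) (nat_lit 0x10300103)
  (.st (nat_lit 1) (nat_lit 0x14504114)
  (.st (nat_lit 2) (nat_lit 0x22)
  (.st (nat_lit 4) (nat_lit 0x4000408)
  (.st (nat_lit 8) (nat_lit 0xfc00c0)
  (.st (nat_lit 16) (nat_lit 0xf000)
  .nil)))))))))

def n3 : Nt := (.st (nat_lit 16) (nat_lit 0xf000)
  (.st (nat_lit 8) (nat_lit 0xfc00c0)
  (.st (nat_lit 4) (nat_lit 0x40f0408)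
  (.st (nat_lit 2) (nat_lit 0x30030321)
  (.st (nat_lit 1) (nat_lit 0x44054411)
  (.st (nat_lit 2) (nat_lit 0x20000200)
  (.st (nat_lit 4) (nat_lit 0xc0c0c08)
  (.st (nat_lit 8) (nat_lit 0xfc00c0)
  (.st (nat_lit 16) (nat_lit 0xf000)
  .nil)))))))))

def n4 : Nt := (.st (nat_lit 16) (nat_lit 0x5a02)
  (.st (nat_lit 8) (nat_lit 0x60018)
  (.st (nat_lit 4) (nat_lit 0x40b0b00)
  (.st (nat_lit 2) (nat_lit 0x10100322)
  (.st (nat_lit 1) (nat_lit 0x4500144)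
  (.st (nat_lit 2) (nat_lit 0x2000022)
  (.st (nat_lit 4) (nat_lit 0x40a0200)
  (.st (nat_lit 8) (nat_lit 0x1c00bc)
  (.st (nat_lit 16) (nat_lit 0x5a08)
  .nil)))))))))

def n5 : Nt := (.st (nat_lit 16) (nat_lit 0xfff2)
  (.st (nat_lit 8) (nat_lit 0x390000)
  (.st (nat_lit 4) (nat_lit 0xb040004)
  (.st (nat_lit 2) (nat_lit 0x22330012)
  (.st (nat_lit 1) (nat_lit 0x44450004)
  (.st (nat_lit 2) (nat_lit 0x2200000)
  (.st (nat_lit 4) (nat_lit 0x80a0004)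
  (.st (nat_lit 8) (nat_lit 0x920000)
  (.st (nat_lit 16) (nat_lit 0xffec)
  .nil)))))))))

def n6 : Nt := (.st (nat_lit 16) (nat_lit 0x5a02)
  (.st (nat_lit 8) (nat_lit 0x60018)
  (.st (nat_lit 4) (nat_lit 0x40b0b00)
  (.st (nat_lit 2) (nat_lit 0x10100322)
  (.st (nat_lit 1) (nat_lit 0x4500144)
  (.st (nat_lit 2) (nat_lit 0x2000022)
  (.st (nat_lit 4) (nat_lit 0x40a0200)
  (.st (nat_lit 8) (nat_lit 0x1c00bc)
  (.st (nat_lit 16) (nat_lit 0x5a08)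
  .nil)))))))))

def n7 : Nt := (.st (nat_lit 16) (nat_lit 0xfff2)
  (.st (nat_lit 8) (nat_lit 0x390000)
  (.st (nat_lit 4) (nat_lit 0xb040004)
  (.st (nat_lit 2) (nat_lit 0x22330012)
  (.st (nat_lit 1) (nat_lit 0x44450004)
  (.st (nat_lit 2) (nat_lit 0x2200000)
  (.st (nat_lit 4) (nat_lit 0x80a0004)
  (.st (nat_lit 8) (nat_lit 0x920000)
  (.st (nat_lit 16) (nat_lit 0xffec)
  .nil)))))))))

def L : List Nt := [.nil, n1, n2, n3, n4, n5, n6, n7]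

theorem sys : sysOk L (nat_lit 24) = true := by decide +kernel

theorem inv_ok : invOk L (nat_lit 24) (nat_lit 5) Cfsg.Agent.H20.PG.ic = true := by decide +kernel

theorem rel_ok : eqAll L (nat_lit 24) (nat_lit 5) (Cfsg.Agent.H20.L27R.rels.map fun w => (w, [])) = true := by decide +kernel

end Cfsg.Agent.H20.L27L
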