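import Cfsg.Agent.H20_LabE
import Cfsg.Agent.H20_L27L

/-!
Coset graph labels modulo 4. 
-/

set_option autoImplicit false
set_option maxRecDepth 1000000

namespace Cfsg.Agent.H20.L27L4

open Cfsg.Agent.H8.CE Cfsg.Agent.H8.Net Cfsg.Agent.H8.Act Cfsg.Agent.H20.Lab Cfsg.Agent.H20.PT
open scoped IsMulCommutative

def t1 : CT := (.nd (.lf (nat_lit 0x40c195b02020a25c1810256804180895000009188000048c00000002600000012000009158000048a80000245200001228000000078000000380000001a0000000c000009128000048900000000e000000060000091100000000c0000244000000001))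
 (.lf (nat_lit 0)))

def t2 : CT := (.nd (.lf (nat_lit 0x21980000155c00000864000005550000000b0000000500000085a0000042c020002b802060d5c410102e9c0c00064f0000021380000152c0000084c000005490000000500000002000000846000005450000000201000040418000a4000000002))
 (.lf (nat_lit 0)))

def t3 : CT := (.nd (.lf (nat_lit 0x1bb000000ccc000006e8000003320000000b8000000541010271c0c00038f020001b602060cdb40000002200000010000001b5000000c9c000006d00000032600000005800000024000006c80000032300000002800000c801800064404000341))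
 (.lf (nat_lit 0)))

/-- the tables -/
noncomputable def tf (y : ℕ) : CT := Nat.rec (motive := fun _ => CT) t1 (fun y' _ => (Nat.rec (motive := fun _ => CT) t1 (fun y'' _ => (Nat.rec (motive := fun _ => CT) t2 (fun y''' _ => (t3)) y'')) y')) y

def PT : ℕ := (nat_lit 0x99cca472288c05a6c358a852281399c8c662289046632108080200)

def RN : List (List ℕ) := [[2, 2, 2],
  [1, 2, 1, 2, 1, 2, 1, 2, 1, 2, 1, 2, 1, 2],
  [2, 3],
  [2, 3]]

def RP : List (List ℕ) := [[1, 1],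
  [1, 2, 1, 3, 1, 2, 1, 3, 1, 2, 1, 3, 1, 2, 1, 3]]

def pk : List ℕ := [34]

def prm : List (ℕ × ℕ) := [(34, (nat_lit 16384))]

def T : WT := (.nd (.nd (.nd (.lf 1 [1] 3)
 (.lf 2 [1, 2, 1, 2, 1, 2, 1, 2, 1, 2, 1, 2, 1] 0))
 (.nd (.lf 2 [3] 0)
 (.lf 1 [2, 1, 2, 1, 2, 1, 2, 1, 2, 1, 2, 1, 2] 0)))
 (.nd (.nd (.lf 3 [2] 0)
 (.lf 2 [1, 3, 1, 2, 1, 3, 1, 2, 1, 3, 1, 2, 1, 3, 1] 384))
 (.nd (.lf 2 [2, 2] 0)
 (.lf 1 [1] 3))))

def loops : List (ℕ × List ℕ × ℕ × ℕ) := [(1, [1, 2, 1, 3, 1, 2, 1, 3, 1, 2, 1, 3, 1, 2, 1, 3], (nat_lit 384), (nat_lit 256)),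
  (4, [1, 2, 1, 3, 1, 2, 1, 3, 1, 2, 1, 3, 1, 2, 1, 3], (nat_lit 384), (nat_lit 49537)),
  (8, [1, 2, 1, 3, 1, 2, 1, 3, 1, 2, 1, 3, 1, 2, 1, 3], (nat_lit 384), (nat_lit 49152))]

def targets : List (ℕ × List ℕ) := [((nat_lit 385), [0, 3, 1]),
  ((nat_lit 16384), [0, 0, 1]),
  ((nat_lit 256), [3, 0, 0])]

theorem kT : T.allB (leafC 4 7 15 [1, 2, 3] RN RP) = true := by decide +kernel

theorem kTree : treeK ((nat_lit 33)) ((nat_lit 0x1ffffffff)) ((nat_lit 31)) tf ((nat_lit 9)) ((nat_lit 511)) PT ((nat_lit 24)) ((nat_lit 5)) ((nat_lit 3)) = true := by decide +kernel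

theorem kE1 : edgesK ((nat_lit 33)) ((nat_lit 0x1ffffffff)) ((nat_lit 31)) ((nat_lit 5)) ((nat_lit 7)) ((nat_lit 8)) ((nat_lit 15)) ((nat_lit 12)) tf ((nat_lit 4)) ((nat_lit 0x183060)) ((nat_lit 0x1f3e7c)) ((nat_lit 9)) ((nat_lit 511)) PT prm T ((nat_lit 24)) ((nat_lit 5)) ((nat_lit 1)) = true := by decide +kernel

theorem kE2 : edgesK ((nat_lit 33)) ((nat_lit 0x1ffffffff)) ((nat_lit 31)) ((nat_lit 5)) ((nat_lit 7)) ((nat_lit 8)) ((nat_lit 15)) ((nat_lit 12)) tf ((nat_lit 4)) ((nat_lit 0x183060)) ((nat_lit 0x1f3e7c)) ((nat_lit 9)) ((nat_lit 511)) PT prm T ((nat_lit 24)) ((nat_lit 5)) ((nat_lit 2)) = true := by decide +kernel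

theorem kE3 : edgesK ((nat_lit 33)) ((nat_lit 0x1ffffffff)) ((nat_lit 31)) ((nat_lit 5)) ((nat_lit 7)) ((nat_lit 8)) ((nat_lit 15)) ((nat_lit 12)) tf ((nat_lit 4)) ((nat_lit 0x183060)) ((nat_lit 0x1f3e7c)) ((nat_lit 9)) ((nat_lit 511)) PT prm T ((nat_lit 24)) ((nat_lit 5)) ((nat_lit 3)) = true := by decide +kernel

theorem kL1 : (loops.all fun a => Nat.blt a.1 24 && leafB 4 7 RN RP (a.2.1.getD 0 0) a.2.1.tail a.2.2.1 && Nat.blt 0 a.2.1.length &&
      Nat.ble a.2.1.length (15 + 1) && Nat.blt a.2.2.2 (2 ^ (7 * 3))) = true := by decide +kernel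

theorem kL2' : (loops.all fun a => loopK ((nat_lit 33)) ((nat_lit 0x1ffffffff)) ((nat_lit 31)) ((nat_lit 5)) ((nat_lit 7)) ((nat_lit 12)) tf ((nat_lit 4)) ((nat_lit 0x183060)) ((nat_lit 0x1f3e7c)) a.1 a.2.1 a.2.2.1 a.2.2.2) = true := by decide +kernel

theorem kC : (targets.all fun a => zchk 4 ((nat_lit 0x183060)) (comb (loops.map fun b => b.2.2.2) a.2 + a.1) && Nat.beq (Nat.land a.1 ((nat_lit 0x1f3e7c))) 0 &&
      Nat.blt a.1 (2 ^ (7 * 3)) && Nat.blt ((a.2.sum + 1) * (2 ^ 2 - 1)) (2 ^ 7)) = true := by decide +kernel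

theorem nx1 : chkNx (net L27L.L 1) (tf 1) ((nat_lit 24)) ((nat_lit 5)) ((nat_lit 33)) ((nat_lit 0x1ffffffff)) ((nat_lit 31)) ((nat_lit 5)) = true := by decide +kernel

theorem nx2 : chkNx (net L27L.L 2) (tf 2) ((nat_lit 24)) ((nat_lit 5)) ((nat_lit 33)) ((nat_lit 0x1ffffffff)) ((nat_lit 31)) ((nat_lit 5)) = true := by decide +kernel

theorem nx3 : chkNx (net L27L.L 3) (tf 3) ((nat_lit 24)) ((nat_lit 5)) ((nat_lit 33)) ((nat_lit 0x1ffffffff)) ((nat_lit 31)) ((nat_lit 5)) = true := by decide +kernel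

/-- the conclusion of the engine -/
theorem res {Γ G : Type*} [Group Γ] [Group G] [Finite Γ] {σ : Γ →* G} {φ : G →* Equiv.Perm (Fin 24)} {X : ℕ → G}
    (hcomp : Compat φ X L27L.L) {o : Fin 24} (ho : (o : ℕ) = 0) {H1 : Subgroup Γ} (hC : Ctx σ φ o H1) (Y : ℕ → Γ)
    (hY : ∀ y ∈ ([1, 2, 3] : List ℕ), σ (Y y) = X y) (hm : ∀ z : Subgroup.center Γ, σ (z : Γ) = 1 → z ^ 4 = 1)
    (hRN : ∀ r ∈ RN, ev Y r = 1) (hRP : ∀ r ∈ RP, σ (ev Y r) = 1) :
    ∃ q : ℕ → Additive (Subgroup.center Γ),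
      (∀ j, σ ((Additive.toMul (q j) : Subgroup.center Γ) : Γ) = 1) ∧
      (∀ a ∈ targets, vS q 7 3 a.1 = 0) ∧
      (∀ Z0 : Subgroup (Subgroup.center Γ), (∀ z ∈ Z0, σ ((z : Subgroup.center Γ) : Γ) = 1) → (∀ j < 3, Additive.toMul (q j) ∈ Z0) →
        ∀ z : Subgroup.center Γ, σ (z : Γ) = 1 → (z : Γ) ∈ Subgroup.closure (Y '' {y | y ∈ ([1, 2, 3] : List ℕ)}) → z ∈ Z0) :=
  engine (E := 33) (EM := (nat_lit 0x1ffffffff)) (KM := 31) (kb := 5) (RM := 7) (s1 := 8) (CM := 15) (s2 := 12)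
    (tf := tf) (m := 4) (HM := (nat_lit 0x183060)) (DM := (nat_lit 0x1f3e7c)) (pb := 9) (PM := 511) (PT := PT) (prm := prm) (T := T) (kk := 5)
    (L := 3) (w := 7) (K := 3) (h := 2) (h' := 5) (Lmax := 15) (ys := [1, 2, 3]) (RN := RN) (RP := RP) (pk := pk)
    hC ho Y (by decide) (by decide)
    (by
      intro y hy i
      have hy2 := hY y hy
      simp only [List.mem_cons, List.not_mem_nil, or_false] at hy
      rcases hy with rfl | rfl | rfl
      · exact nx_of_net L27L.sys (by decide) hcomp (by decide) hy2 nx1 i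
      · exact nx_of_net L27L.sys (by decide) hcomp (by decide) hy2 nx2 i
      · exact nx_of_net L27L.sys (by decide) hcomp (by decide) hy2 nx3 i)
    hm hRN hRP (by decide +kernel) (by decide +kernel) (by decide +kernel) (by decide +kernel)
    (by decide +kernel) (by decide +kernel) (by decide +kernel) (by decide) (by decide +kernel) (by decide +kernel) (by decide +kernel) (by decide)
    (by decide +kernel) (by decide) kT kTree
    (by
      intro y hy
      simp only [List.mem_cons, List.not_mem_nil, or_false] at hy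
      rcases hy with rfl | rfl | rfl
      · exact kE1
      · exact kE2
      · exact kE3)
    loops kL1 (fun a ha => List.all_eq_true.1 kL2' a ha) (by decide +kernel) (fun y p => rkf_lt y p) targets kC

end Cfsg.Agent.H20.L27L4
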