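import Cfsg.Agent.H20_Low2

/-!
A monomial representation on 48 points.
-/

set_option autoImplicit false
set_option maxRecDepth 1000000

namespace Cfsg.Agent.H20.L27W

open Cfsg.Agent.H8.CE Cfsg.Agent.H8.Net Cfsg.Agent.H8.Act

def n1 : Nt := (.st (nat_lit 8) (nat_lit 0xff0000)
  (.st (nat_lit 4) (nat_lit 0xf00000f00)
  (.st (nat_lit 2) (nat_lit 0x330000000033)
  (.st (nat_lit 1) (nat_lit 0x115055005044)
  .nil))))

def n2 : Nt := (.st (nat_lit 32) (nat_lit 0xff000000)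
  (.st (nat_lit 16) (nat_lit 0xfff00000f000)
  (.st (nat_lit 8) (nat_lit 0xf0000f00f000c0)
  (.st (nat_lit 4) (nat_lit 0x3000f000003000f)
  (.st (nat_lit 2) (nat_lit 0x330330030030330)
  (.st (nat_lit 4) (nat_lit 0xc0c)
  (.st (nat_lit 8) (nat_lit 0x300000003000c0)
  (.st (nat_lit 16) (nat_lit 0xfff00000f000)
  (.st (nat_lit 32) (nat_lit 0xff000000)
  .nil)))))))))

def n3 : Nt := (.st (nat_lit 32) (nat_lit 0xff000000)
  (.st (nat_lit 16) (nat_lit 0xfff00000f000)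
  (.st (nat_lit 8) (nat_lit 0x3000ff003000c0)
  (.st (nat_lit 4) (nat_lit 0xf00000f000f0c03)
  (.st (nat_lit 2) (nat_lit 0x3030003330300303)
  (.st (nat_lit 4) (nat_lit 0xc000000000c0000)
  (.st (nat_lit 8) (nat_lit 0xf000f000f000c0)
  (.st (nat_lit 16) (nat_lit 0xfff00000f000)
  (.st (nat_lit 32) (nat_lit 0xff000000)
  .nil)))))))))

def n4 : Nt := (.st (nat_lit 32) (nat_lit 0x33cc000c)
  (.st (nat_lit 16) (nat_lit 0x3c000003c0)
  (.st (nat_lit 8) (nat_lit 0x3000cf00cf0000)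
  (.st (nat_lit 4) (nat_lit 0x3000300000f0c0c)
  (.st (nat_lit 2) (nat_lit 0x30330000033030)
  (.st (nat_lit 1) (nat_lit 0x1114110040405440)
  (.st (nat_lit 4) (nat_lit 0xc000000000c0c)
  (.st (nat_lit 8) (nat_lit 0x3000cc000c0000)
  (.st (nat_lit 16) (nat_lit 0x3f00000cff0)
  (.st (nat_lit 32) (nat_lit 0x33cc00c0)
  .nil))))))))))

def n5 : Nt := (.st (nat_lit 32) (nat_lit 0xffffff0c)
  (.st (nat_lit 16) (nat_lit 0xfc300000000)
  (.st (nat_lit 8) (nat_lit 0xcf003000000030)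
  (.st (nat_lit 4) (nat_lit 0xc0c0f0f0000030c)
  (.st (nat_lit 2) (nat_lit 0x3030303300000030)
  (.st (nat_lit 1) (nat_lit 0x4404551400001044)
  (.st (nat_lit 4) (nat_lit 0xc0c0000000000)
  (.st (nat_lit 8) (nat_lit 0xc000cc00000030)
  (.st (nat_lit 16) (nat_lit 0xc30c00000000)
  (.st (nat_lit 32) (nat_lit 0xfffffcf0)
  .nil))))))))))

def n6 : Nt := (.st (nat_lit 32) (nat_lit 0x33cc000c)
  (.st (nat_lit 16) (nat_lit 0x3c000003c0)
  (.st (nat_lit 8) (nat_lit 0x3000cf00cf0000)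
  (.st (nat_lit 4) (nat_lit 0x3000300000f0c0c)
  (.st (nat_lit 2) (nat_lit 0x30330000033030)
  (.st (nat_lit 1) (nat_lit 0x1114110040405440)
  (.st (nat_lit 4) (nat_lit 0xc000000000c0c)
  (.st (nat_lit 8) (nat_lit 0x3000cc000c0000)
  (.st (nat_lit 16) (nat_lit 0x3f00000cff0)
  (.st (nat_lit 32) (nat_lit 0x33cc00c0)
  .nil))))))))))

def n7 : Nt := (.st (nat_lit 32) (nat_lit 0xffffff0c)
  (.st (nat_lit 16) (nat_lit 0xfc300000000)
  (.st (nat_lit 8) (nat_lit 0xcf003000000030)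
  (.st (nat_lit 4) (nat_lit 0xc0c0f0f0000030c)
  (.st (nat_lit 2) (nat_lit 0x3030303300000030)
  (.st (nat_lit 1) (nat_lit 0x4404551400001044)
  (.st (nat_lit 4) (nat_lit 0xc0c0000000000)
  (.st (nat_lit 8) (nat_lit 0xc000cc00000030)
  (.st (nat_lit 16) (nat_lit 0xc30c00000000)
  (.st (nat_lit 32) (nat_lit 0xfffffcf0)
  .nil))))))))))

def n8 : Nt := (.st (nat_lit 1) (nat_lit 0x555555555555)
  .nil)

def n9 : Nt := (.st (nat_lit 1) (nat_lit 0x555555555555)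
  .nil)

def n10 : Nt := (.st (nat_lit 8) (nat_lit 0xff0000)
  (.st (nat_lit 4) (nat_lit 0xf00000f00)
  (.st (nat_lit 2) (nat_lit 0x330000000033)
  (.st (nat_lit 1) (nat_lit 0x440500550511)
  .nil))))

def L : List Nt := [.nil, n1, n2, n3, n4, n5, n6, n7, n8, n9, n10]

theorem sys : sysOk L (nat_lit 48) = true := by decide +kernel

theorem hn : 48 ≤ 2 ^ 6 := by decide

theorem inv_ok : invOk L (nat_lit 48) (nat_lit 6) Cfsg.Agent.H20.Low2.icL = true := by decide +kernel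

def es : List ℕ := [1, 0, 0, 0, 1, 0]

def w : List ℕ := [1, 2, 1, 3, 1, 2, 1, 3, 1, 2, 1, 3, 1, 2, 1, 3]

def E : List (List ℕ × List ℕ) := [([1, 1], [8]),
  ([2, 2, 2], []),
  ([1, 2, 5], []),
  ([4, 4, 4, 4, 4, 4, 4], []),
  ([1, 2, 1, 3, 1, 2, 1, 3, 1, 2, 1, 3, 1, 2, 1, 3], [8]),
  ([1, 2, 7], []),
  ([8, 1], [1, 8]),
  ([8, 2], [2, 8]),
  ([1, 2], [4]),
  ([1, 2], [6]),
  ([1, 2, 1, 3, 1, 2, 1, 3, 1, 2, 1, 3, 1, 2, 1, 3, 10, 10, 10, 10, 10, 10, 10, 10, 3, 3, 3, 3, 2, 2, 2, 2], [8]),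
  ([8, 8], [])]

theorem E_ok : eqAll L (nat_lit 48) (nat_lit 6) E = true := by decide +kernel

end Cfsg.Agent.H20.L27W
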