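import Cfsg.Agent.H8_CS

set_option autoImplicit false
set_option maxRecDepth 1000000

namespace Cfsg.Agent.H20.L27aT

open Cfsg.Agent.H8 Cfsg.Agent.H8.CE Cfsg.Agent.H8.CS

def ic : ℕ := nat_lit 4530960

def rels : List (List ℕ) := [[nat_lit 2, nat_lit 2, nat_lit 2],
  [nat_lit 1, nat_lit 2, nat_lit 5],
  [nat_lit 4, nat_lit 4, nat_lit 4, nat_lit 4, nat_lit 4, nat_lit 4, nat_lit 4],
  [nat_lit 1, nat_lit 2, nat_lit 1, nat_lit 3, nat_lit 1, nat_lit 2, nat_lit 1, nat_lit 3, nat_lit 1, nat_lit 2, nat_lit 1, nat_lit 3, nat_lit 1, nat_lit 2, nat_lit 1, nat_lit 3]]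

def lets : Wd := (.cons (nat_lit 1) (nat_lit 0x100000) (.cons (nat_lit 2) (nat_lit 0x300000) (.cons (nat_lit 3) (nat_lit 0x200000) (.cons (nat_lit 4) (nat_lit 0x500000) (.cons (nat_lit 5) (nat_lit 0x400000) .nil)))))

def L : List ℕ := [nat_lit 4]

def rt : RS :=
 (.nd (nat_lit 6)
 (.nd (nat_lit 2)
 (.lf (nat_lit 6) (nat_lit 1) (nat_lit 3) (nat_lit 0x300000) (.cons (nat_lit 5) (nat_lit 0x400000) (.cons (nat_lit 1) (nat_lit 0x100000) .nil)))
 (.nd (nat_lit 4)
 (.nd (nat_lit 3)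
 (.lf (nat_lit 2) (nat_lit 1) (nat_lit 2) (nat_lit 0x200000) (.cons (nat_lit 1) (nat_lit 0x100000) (.cons (nat_lit 4) (nat_lit 0x500000) .nil)))
 (.lf (nat_lit 5) (nat_lit 2) (nat_lit 3) (nat_lit 0x300000) (.cons (nat_lit 2) (nat_lit 0x300000) (.cons (nat_lit 2) (nat_lit 0x300000) .nil))))
 (.nd (nat_lit 5)
 (.lf (nat_lit 3) (nat_lit 1) (nat_lit 4) (nat_lit 0x400000) (.cons (nat_lit 5) (nat_lit 0x400000) (.cons (nat_lit 5) (nat_lit 0x400000) (.cons (nat_lit 5) (nat_lit 0x400000) (.cons (nat_lit 5) (nat_lit 0x400000) (.cons (nat_lit 5) (nat_lit 0x400000) (.cons (nat_lit 5) (nat_lit 0x400000) .nil)))))))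
 (.lf (nat_lit 6) (nat_lit 2) (nat_lit 1) (nat_lit 0x100000) (.cons (nat_lit 2) (nat_lit 0x300000) (.cons (nat_lit 5) (nat_lit 0x400000) .nil))))))
 (.nd (nat_lit 11)
 (.nd (nat_lit 10)
 (.nd (nat_lit 8)
 (.nd (nat_lit 7)
 (.lf (nat_lit 1) (nat_lit 1) (nat_lit 2) (nat_lit 0x200000) (.cons (nat_lit 3) (nat_lit 0x200000) (.cons (nat_lit 3) (nat_lit 0x200000) .nil)))
 (.lf (nat_lit 2) (nat_lit 2) (nat_lit 5) (nat_lit 0x500000) (.cons (nat_lit 3) (nat_lit 0x200000) (.cons (nat_lit 1) (nat_lit 0x100000) .nil))))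
 (.nd (nat_lit 9)
 (.lf (nat_lit 7) (nat_lit 1) (nat_lit 5) (nat_lit 0x500000) (.cons (nat_lit 4) (nat_lit 0x500000) (.cons (nat_lit 4) (nat_lit 0x500000) (.cons (nat_lit 4) (nat_lit 0x500000) (.cons (nat_lit 4) (nat_lit 0x500000) (.cons (nat_lit 4) (nat_lit 0x500000) (.cons (nat_lit 4) (nat_lit 0x500000) .nil)))))))
 (.lf (nat_lit 4) (nat_lit 3) (nat_lit 3) (nat_lit 0x300000) (.cons (nat_lit 1) (nat_lit 0x100000) (.cons (nat_lit 3) (nat_lit 0x200000) (.cons (nat_lit 1) (nat_lit 0x100000) (.cons (nat_lit 2) (nat_lit 0x300000) (.cons (nat_lit 1) (nat_lit 0x100000) (.cons (nat_lit 3) (nat_lit 0x200000) (.cons (nat_lit 1) (nat_lit 0x100000) (.cons (nat_lit 2) (nat_lit 0x300000) (.cons (nat_lit 1) (nat_lit 0x100000) (.cons (nat_lit 3) (nat_lit 0x200000) (.cons (nat_lit 1) (nat_lit 0x100000) (.cons (nat_lit 2) (nat_lit 0x300000) (.cons (nat_lit 1) (nat_lit 0x100000) (.cons (nat_lit 3) (nat_lit 0x200000) (.cons (nat_lit 1) (nat_lit 0x100000) .nil))))))))))))))))))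
 (.lf (nat_lit 5) (nat_lit 1) (nat_lit 3) (nat_lit 0x300000) (.cons (nat_lit 2) (nat_lit 0x300000) (.cons (nat_lit 2) (nat_lit 0x300000) .nil))))
 (.nd (nat_lit 12)
 (.lf (nat_lit 2) (nat_lit 0) (nat_lit 1) (nat_lit 0x100000) (.cons (nat_lit 4) (nat_lit 0x500000) (.cons (nat_lit 3) (nat_lit 0x200000) .nil)))
 (.lf (nat_lit 6) (nat_lit 0) (nat_lit 4) (nat_lit 0x400000) (.cons (nat_lit 1) (nat_lit 0x100000) (.cons (nat_lit 2) (nat_lit 0x300000) .nil))))))

def fc : List ℕ := [nat_lit 0x1740001700017100015000173000150001640001600016100014000163000140001540001300015300013000144000120001430001200013100011000121000100000e3000110001130000b0000d3000100001030000f0000c40000f0000f30000d0000f40000a0000e40000c0000e20000b0000d10000c0000c3000080000b5000080000b10000a0000a3000090000930000600008300007000074000050000610000500005300004000043000030000310000200002500001000022000010000120000000000400000000133000170001230001600011400015000104000140000e5000130000d5000120000a400011000094000100000910000f0000810000e0000750000d0000730000c0000650000b0000630000a00005400009000044000080000410000700003500006000033000050000240000400001500003000002000020000010000100000000000]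

noncomputable def S : ℕ → ℕ := facts (nat_lit 0) (nat_lit 0) fc

theorem rt_chk : rt.chk ic (rels ++ rels.map (invw ic)) = true := by decide +kernel

theorem rels_lt : (rels.all fun w => w.all fun y => Nat.blt y 16) = true := by decide +kernel

theorem s0 : S 0 = 0 := by decide +kernel

theorem defs0 : withF (nat_lit 0) (nat_lit 0) fc (fun S => rangeS (nat_lit 24) (defC S) (nat_lit 5) (nat_lit 1)) = true := by decide +kernel

theorem defs : rangeS (nat_lit 24) (defC S) (nat_lit 5) (nat_lit 1) = true := by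
  have h := defs0
  rw [withF_eq] at h
  exact h

theorem ini0 : withF (nat_lit 0) (nat_lit 0) fc (fun S => initC S L (nat_lit 24)) = true := by decide +kernel

theorem ini : initC S L (nat_lit 24) = true := by
  have h := ini0
  rw [withF_eq] at h
  exact h

theorem lets_ok : letsOk ic (nat_lit 5) lets = true := by decide +kernel

def pc0 : List ℕ := [nat_lit 0x3aeccd971755cadf8334585cd6293a6ca91544c95052360250504c540704cbb922efa0391106dac33d006b9cc9cc1dd71a0590427057e23c98cf32638c94e08c34b84c28811b0c62c828b2e228a7c904720178730518b74529c1016832c1087642198042]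

theorem prog0_0 : withF (nat_lit 0) (nat_lit 0) fc (fun S => dedProg S (nat_lit 24) (nat_lit 6) (nat_lit 63) rt (nat_lit 399) (nat_lit 2048) (nat_lit 4) pc0 (nat_lit 25) (nat_lit 61)) = true := by decide +kernel

theorem prog0 : dedProg S (nat_lit 24) (nat_lit 6) (nat_lit 63) rt (nat_lit 399) (nat_lit 2048) (nat_lit 4) pc0 (nat_lit 25) (nat_lit 61) = true := by
  have h := prog0_0
  rw [withF_eq] at h
  exact h

def cc0 : List ℕ := [nat_lit 0xf3ce97ec1e79dd6e01576d7aec1534cf7e01d935f5c81d125b3c41455bf0c81414b6ec41b2aaed3c14e9c2838148dbab9c1a6c98c9c194ba2f901a918ca9012508a33c12258663813603211c12c62a27c18097857c110875e1c118315d7016c409a7010db699041618642041]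

theorem clo0_0 : withF (nat_lit 0) (nat_lit 0) fc (fun S => cloProg S (nat_lit 61) (nat_lit 6) (nat_lit 63) lets (nat_lit 399) (nat_lit 2048) (nat_lit 4) cc0 (nat_lit 0) (nat_lit 0) (nat_lit 24) (nat_lit 24)) = true := by decide +kernel

theorem clo0 : cloProg S (nat_lit 61) (nat_lit 6) (nat_lit 63) lets (nat_lit 399) (nat_lit 2048) (nat_lit 4) cc0 (nat_lit 0) (nat_lit 0) (nat_lit 24) (nat_lit 24) = true := by
  have h := clo0_0
  rw [withF_eq] at h
  exact h

theorem facts_ok {G : Type*} [Group G] {x : ℕ → G} {H : Subgroup G}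
    (hic : ∀ y, y < 16 → x (il ic y) = (x y)⁻¹) (h0 : x 0 = 1) (hrels : ∀ w ∈ rels, ev x w = 1)
    (hst : ∀ g, g < (nat_lit 24) + L.length → VF H x (rho x S) (nat_lit 24) S g) :
    ∀ g, g < (nat_lit 61) → VF H x (rho x S) (nat_lit 24) S g := by
  have hv : rt.Valid x ic := RS.valid_of_chk hic h0 (relsAll_ok hic rels_lt hrels) rt rt_chk
  have hn : (nat_lit 24) ≤ 1048576 := Nat.le_of_ble_eq_true (by decide)
  have g0 : ∀ g, g < (nat_lit 25) → VF H x (rho x S) (nat_lit 24) S g := hst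

  have g1 := dedProg_sound (H := H) (ρ := rho x S) hic hn hv prog0 g0
  exact g1

theorem bound {G : Type*} [Group G] {x : ℕ → G} {H : Subgroup G}
    (hic : ∀ y, y < 16 → x (il ic y) = (x y)⁻¹) (h0 : x 0 = 1) (hrels : ∀ w ∈ rels, ev x w = 1)
    (hL : ∀ s ∈ L, x s ∈ H) :
    H.relIndex (Subgroup.closure (x '' {y | 1 ≤ y ∧ y ≤ 5})) ≤ 24 ∧
      H.relIndex (Subgroup.closure (x '' {y | 1 ≤ y ∧ y ≤ 5})) ≠ 0 :=
  bound_of (k := 5) (n := 24) (kk := 5) hic h0 hL (by decide) (by decide) (by decide) (by decide) (by decide) lets_ok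
    s0 defs ini (facts_ok hic h0 hrels) clo0


end Cfsg.Agent.H20.L27aT
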