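import Cfsg.Agent.H20_Low2

/-!
A monomial representation on 24 points.
-/

set_option autoImplicit false
set_option maxRecDepth 1000000

namespace Cfsg.Agent.H20.M12W

open Cfsg.Agent.H8.CE Cfsg.Agent.H8.Net Cfsg.Agent.H8.Act

def n1 : Nt := (.st (nat_lit 16) (nat_lit 0xc000)
  (.st (nat_lit 8) (nat_lit 0xc000fc)
  (.st (nat_lit 4) (nat_lit 0xc0f0c)
  (.st (nat_lit 2) (nat_lit 0x30)
  (.st (nat_lit 1) (nat_lit 0x40110001)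
  (.st (nat_lit 4) (nat_lit 0xc)
  (.st (nat_lit 8) (nat_lit 0xc000fc)
  (.st (nat_lit 16) (nat_lit 0xc000)
  .nil))))))))

def n2 : Nt := (.st (nat_lit 16) (nat_lit 0xc300)
  (.st (nat_lit 8) (nat_lit 0x300c0)
  (.st (nat_lit 4) (nat_lit 0xc000003)
  (.st (nat_lit 2) (nat_lit 0x3303003)
  (.st (nat_lit 4) (nat_lit 0xc0c0c00)
  (.st (nat_lit 8) (nat_lit 0xc0)
  (.st (nat_lit 16) (nat_lit 0xc300)
  .nil)))))))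

def n3 : Nt := (.st (nat_lit 16) (nat_lit 0xc300)
  (.st (nat_lit 8) (nat_lit 0xff00c0)
  (.st (nat_lit 4) (nat_lit 0xc0c0c0f)
  (.st (nat_lit 2) (nat_lit 0x30033030)
  (.st (nat_lit 4) (nat_lit 0xc000c)
  (.st (nat_lit 8) (nat_lit 0xfc00c0)
  (.st (nat_lit 16) (nat_lit 0xc300)
  .nil)))))))

def n4 : Nt := (.st (nat_lit 16) (nat_lit 0xcfc3)
  (.st (nat_lit 8) (nat_lit 0xcf0000)
  (.st (nat_lit 4) (nat_lit 0xc000000)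
  (.st (nat_lit 2) (nat_lit 0x300033)
  (.st (nat_lit 1) (nat_lit 0x40010011)
  (.st (nat_lit 8) (nat_lit 0xc00000)
  (.st (nat_lit 16) (nat_lit 0xcf3c)
  .nil)))))))

def n5 : Nt := (.st (nat_lit 16) (nat_lit 0xc3)
  (.st (nat_lit 8) (nat_lit 0x3f)
  (.st (nat_lit 4) (nat_lit 0xc)
  (.st (nat_lit 2) (nat_lit 0x333000)
  (.st (nat_lit 1) (nat_lit 0x440104)
  (.st (nat_lit 8) (nat_lit 0x30)
  (.st (nat_lit 16) (nat_lit 0x3c)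
  .nil)))))))

def n6 : Nt := (.st (nat_lit 16) (nat_lit 0xf0)
  (.st (nat_lit 8) (nat_lit 0x30)
  (.st (nat_lit 4) (nat_lit 0x30c)
  (.st (nat_lit 2) (nat_lit 0x33303)
  (.st (nat_lit 1) (nat_lit 0x511451)
  (.st (nat_lit 4) (nat_lit 0xc000c)
  (.st (nat_lit 8) (nat_lit 0x30)
  .nil)))))))

def n7 : Nt := (.st (nat_lit 16) (nat_lit 0xcf30)
  (.st (nat_lit 8) (nat_lit 0xc0000)
  (.st (nat_lit 4) (nat_lit 0xc0c000c)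
  (.st (nat_lit 2) (nat_lit 0x3330003)
  (.st (nat_lit 1) (nat_lit 0x40541054)
  (.st (nat_lit 4) (nat_lit 0xc)
  (.st (nat_lit 8) (nat_lit 0xc00000)
  (.st (nat_lit 16) (nat_lit 0xcfc0)
  .nil))))))))

def n8 : Nt := (.st (nat_lit 1) (nat_lit 0x555555)
  .nil)

def n9 : Nt := (.st (nat_lit 1) (nat_lit 0x555555)
  .nil)

def n10 : Nt := (.st (nat_lit 16) (nat_lit 0xc000)
  (.st (nat_lit 8) (nat_lit 0xc000fc)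
  (.st (nat_lit 4) (nat_lit 0xc0f0c)
  (.st (nat_lit 2) (nat_lit 0x30)
  (.st (nat_lit 1) (nat_lit 0x40110001)
  (.st (nat_lit 4) (nat_lit 0xc)
  (.st (nat_lit 8) (nat_lit 0xc000fc)
  (.st (nat_lit 16) (nat_lit 0xc000)
  .nil))))))))

def L : List Nt := [.nil, n1, n2, n3, n4, n5, n6, n7, n8, n9, n10]

theorem sys : sysOk L (nat_lit 24) = true := by decide +kernel

theorem hn : 24 ≤ 2 ^ 5 := by decide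

theorem inv_ok : invOk L (nat_lit 24) (nat_lit 5) Cfsg.Agent.H20.Low2.icL = true := by decide +kernel

def es : List ℕ := [0, 0, 0, 0, 0, 1, 1, 0, 0, 1, 0]

def w : List ℕ := [1, 2, 1, 2, 1, 3, 1, 2, 1, 2, 1, 3, 1, 2, 1, 2, 1, 3, 1, 2, 1, 2, 1, 3, 1, 2, 1, 2, 1, 3, 1, 2, 1, 2, 1, 3]

def E : List (List ℕ × List ℕ) := [([1, 1], []),
  ([2, 2, 2], []),
  ([1, 2, 5], []),
  ([4, 4, 4, 4, 4, 4, 4, 4, 4, 4, 4], []),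
  ([1, 3, 1, 2, 1, 3, 1, 2, 1, 3, 1, 2, 1, 3, 1, 2, 1, 3, 1, 2, 1, 3, 1, 2], []),
  ([1, 2, 1, 2, 1, 3, 1, 2, 1, 2, 1, 3, 1, 2, 1, 2, 1, 3, 1, 2, 1, 2, 1, 3, 1, 2, 1, 2, 1, 3, 1, 2, 1, 2, 1, 3], [8]),
  ([6, 6, 6, 6, 6], [8]),
  ([7, 4, 6, 5, 5, 5, 5, 5], []),
  ([2, 1, 2, 1, 2, 1, 2, 1, 3, 1, 3, 1, 2, 1, 3, 1, 2, 1, 2, 1, 3, 1, 2, 1, 2, 1, 2, 1, 2, 1, 3, 7], []),
  ([2, 7, 2, 7, 2, 7], [8]),
  ([1, 3, 1, 3, 1, 2, 1, 2, 1, 3, 1, 3, 1, 2, 1, 2, 1, 3, 1, 3, 1, 2, 1, 2, 1, 3, 1, 3, 1, 2, 1, 2, 1, 3, 1, 3, 1, 2, 1, 2], []),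
  ([8, 1], [1, 8]),
  ([8, 2], [2, 8]),
  ([1, 2], [4]),
  ([2, 1, 2, 1, 2, 1, 2, 1, 3, 1, 3, 1, 2, 1, 3, 1, 2, 1, 2, 1, 3, 1, 2, 1, 2, 1, 2, 1, 2, 1, 3], [6]),
  ([1, 2, 1, 2, 1, 3, 1, 2, 1, 2, 1, 3, 1, 2, 1, 2, 1, 3, 1, 2, 1, 2, 1, 3, 1, 2, 1, 2, 1, 3, 1, 2, 1, 2, 1, 3, 10, 10, 10, 10, 10, 10, 10, 10, 10, 10, 10, 10, 10, 10, 10, 10, 10, 10, 3, 3, 3, 3, 3, 3, 3, 3, 3, 3, 3, 3, 2, 2, 2, 2, 2, 2], [8]),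
  ([8, 8], [])]

theorem E_ok : eqAll L (nat_lit 24) (nat_lit 5) E = true := by decide +kernel

end Cfsg.Agent.H20.M12W
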