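import Cfsg.Agent.H8_CS

set_option autoImplicit false
set_option maxRecDepth 1000000

namespace Cfsg.Agent.H20.M22bT

open Cfsg.Agent.H8 Cfsg.Agent.H8.CE Cfsg.Agent.H8.CS

def ic : ℕ := nat_lit 213280

def rels : List (List ℕ) := [[nat_lit 1, nat_lit 1, nat_lit 1, nat_lit 1, nat_lit 1, nat_lit 1, nat_lit 1, nat_lit 1, nat_lit 1, nat_lit 1, nat_lit 1],
  [nat_lit 3, nat_lit 3, nat_lit 3, nat_lit 3, nat_lit 3],
  [nat_lit 4, nat_lit 1, nat_lit 3, nat_lit 2, nat_lit 2, nat_lit 2, nat_lit 2]]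

def lets : Wd := (.cons (nat_lit 1) (nat_lit 0x200000) (.cons (nat_lit 2) (nat_lit 0x100000) (.cons (nat_lit 3) (nat_lit 0x400000) (.cons (nat_lit 4) (nat_lit 0x300000) .nil))))

def L : List ℕ := [nat_lit 1]

def rt : RS :=
 (.nd (nat_lit 2)
 (.lf (nat_lit 3) (nat_lit 1) (nat_lit 1) (nat_lit 0x100000) (.cons (nat_lit 3) (nat_lit 0x400000) (.cons (nat_lit 1) (nat_lit 0x200000) (.cons (nat_lit 1) (nat_lit 0x200000) (.cons (nat_lit 1) (nat_lit 0x200000) (.cons (nat_lit 1) (nat_lit 0x200000) (.cons (nat_lit 4) (nat_lit 0x300000) .nil)))))))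
 (.nd (nat_lit 4)
 (.nd (nat_lit 3)
 (.lf (nat_lit 5) (nat_lit 1) (nat_lit 4) (nat_lit 0x400000) (.cons (nat_lit 3) (nat_lit 0x400000) (.cons (nat_lit 3) (nat_lit 0x400000) (.cons (nat_lit 3) (nat_lit 0x400000) (.cons (nat_lit 3) (nat_lit 0x400000) .nil)))))
 (.lf (nat_lit 6) (nat_lit 6) (nat_lit 0) (nat_lit 0) (.cons (nat_lit 1) (nat_lit 0x200000) (.cons (nat_lit 3) (nat_lit 0x400000) (.cons (nat_lit 2) (nat_lit 0x100000) (.cons (nat_lit 2) (nat_lit 0x100000) (.cons (nat_lit 2) (nat_lit 0x100000) (.cons (nat_lit 2) (nat_lit 0x100000) (.cons (nat_lit 4) (nat_lit 0x300000) .nil)))))))))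
 (.nd (nat_lit 5)
 (.lf (nat_lit 0) (nat_lit 0) (nat_lit 0) (nat_lit 0) (.cons (nat_lit 2) (nat_lit 0x100000) (.cons (nat_lit 0) (nat_lit 0) (.cons (nat_lit 1) (nat_lit 0x200000) .nil))))
 (.lf (nat_lit 0) (nat_lit 0) (nat_lit 2) (nat_lit 0x200000) (.cons (nat_lit 0) (nat_lit 0) (.cons (nat_lit 2) (nat_lit 0x100000) .nil))))))

def fc : List ℕ := [nat_lit 0x12000010000300000100004000001000051000050000610000600006400005000021000020000010000000002400006000013000050000120000400001100003000004000020000030000100000000000]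

noncomputable def S : ℕ → ℕ := facts (nat_lit 0) (nat_lit 0) fc

theorem rt_chk : rt.chk ic (rels ++ rels.map (invw ic)) = true := by decide +kernel

theorem rels_lt : (rels.all fun w => w.all fun y => Nat.blt y 16) = true := by decide +kernel

theorem s0 : S 0 = 0 := by decide +kernel

theorem defs0 : withF (nat_lit 0) (nat_lit 0) fc (fun S => rangeS (nat_lit 7) (defC S) (nat_lit 3) (nat_lit 1)) = true := by decide +kernel

theorem defs : rangeS (nat_lit 7) (defC S) (nat_lit 3) (nat_lit 1) = true := by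
  have h := defs0
  rw [withF_eq] at h
  exact h

theorem ini0 : withF (nat_lit 0) (nat_lit 0) fc (fun S => initC S L (nat_lit 7)) = true := by decide +kernel

theorem ini : initC S L (nat_lit 7) = true := by
  have h := ini0
  rw [withF_eq] at h
  exact h

theorem lets_ok : letsOk ic (nat_lit 4) lets = true := by decide +kernel

def pc0 : List ℕ := [nat_lit 0x3d54c345bbbb5439aaaa916888861512622777721]

theorem prog0_0 : withF (nat_lit 0) (nat_lit 0) fc (fun S => dedProg S (nat_lit 7) (nat_lit 4) (nat_lit 15) rt (nat_lit 399) (nat_lit 2048) (nat_lit 4) pc0 (nat_lit 8) (nat_lit 15)) = true := by decide +kernel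

theorem prog0 : dedProg S (nat_lit 7) (nat_lit 4) (nat_lit 15) rt (nat_lit 399) (nat_lit 2048) (nat_lit 4) pc0 (nat_lit 8) (nat_lit 15) = true := by
  have h := prog0_0
  rw [withF_eq] at h
  exact h

def cc0 : List ℕ := [nat_lit 0x96aa159bb1c2d26288115ee121771]

theorem clo0_0 : withF (nat_lit 0) (nat_lit 0) fc (fun S => cloProg S (nat_lit 15) (nat_lit 4) (nat_lit 15) lets (nat_lit 399) (nat_lit 2048) (nat_lit 4) cc0 (nat_lit 0) (nat_lit 0) (nat_lit 7) (nat_lit 5)) = true := by decide +kernel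

theorem clo0 : cloProg S (nat_lit 15) (nat_lit 4) (nat_lit 15) lets (nat_lit 399) (nat_lit 2048) (nat_lit 4) cc0 (nat_lit 0) (nat_lit 0) (nat_lit 7) (nat_lit 5) = true := by
  have h := clo0_0
  rw [withF_eq] at h
  exact h

theorem facts_ok {G : Type*} [Group G] {x : ℕ → G} {H : Subgroup G}
    (hic : ∀ y, y < 16 → x (il ic y) = (x y)⁻¹) (h0 : x 0 = 1) (hrels : ∀ w ∈ rels, ev x w = 1)
    (hst : ∀ g, g < (nat_lit 7) + L.length → VF H x (rho x S) (nat_lit 7) S g) :
    ∀ g, g < (nat_lit 15) → VF H x (rho x S) (nat_lit 7) S g := by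
  have hv : rt.Valid x ic := RS.valid_of_chk hic h0 (relsAll_ok hic rels_lt hrels) rt rt_chk
  have hn : (nat_lit 7) ≤ 1048576 := Nat.le_of_ble_eq_true (by decide)
  have g0 : ∀ g, g < (nat_lit 8) → VF H x (rho x S) (nat_lit 7) S g := hst

  have g1 := dedProg_sound (H := H) (ρ := rho x S) hic hn hv prog0 g0
  exact g1

theorem bound {G : Type*} [Group G] {x : ℕ → G} {H : Subgroup G}
    (hic : ∀ y, y < 16 → x (il ic y) = (x y)⁻¹) (h0 : x 0 = 1) (hrels : ∀ w ∈ rels, ev x w = 1)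
    (hL : ∀ s ∈ L, x s ∈ H) :
    H.relIndex (Subgroup.closure (x '' {y | 1 ≤ y ∧ y ≤ 4})) ≤ 5 ∧
      H.relIndex (Subgroup.closure (x '' {y | 1 ≤ y ∧ y ≤ 4})) ≠ 0 :=
  bound_of (k := 4) (n := 5) (kk := 3) hic h0 hL (by decide) (by decide) (by decide) (by decide) (by decide) lets_ok
    s0 defs ini (facts_ok hic h0 hrels) clo0


end Cfsg.Agent.H20.M22bT
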