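import Cfsg.Agent.H23_PQuat
set_option autoImplicit false

/-! maximal normal abelian subgroups of solvable groups whose abelian subgroups are cyclic -/
namespace Cfsg.Agent.H20.MaxAb
open scoped commutatorElement

variable {G : Type*} [Group G] [Finite G]

def Com (B : Subgroup G) : Prop := ∀ a ∈ B, ∀ b ∈ B, a * b = b * a

structure IsMax (A : Subgroup G) : Prop where
  norm : A.Normal
  com : Com A
  max : ∀ B : Subgroup G, B.Normal → Com B → A ≤ B → B = A

theorem exists_isMax : ∃ A : Subgroup G, IsMax A := by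
  obtain ⟨A, hA⟩ := (Set.toFinite {B : Subgroup G | B.Normal ∧ Com B}).exists_maximal
    ⟨⊥, inferInstance, fun a ha b hb => by
      rw [Subgroup.mem_bot] at ha hb; rw [ha, hb]⟩
  exact ⟨A, hA.prop.1, hA.prop.2, fun B h1 h2 h3 => le_antisymm (hA.le_of_ge ⟨h1, h2⟩ h3) h3⟩

/-- existence of a class two section -/
theorem exists_N (hsol : Group.IsSolvable G) {A D : Subgroup G} [hAn : A.Normal] (hDn : D.Normal) (hAD : A ≤ D)
    (hne : D ≠ A) : ∃ (p : ℕ) (N : Subgroup G), p.Prime ∧ N.Normal ∧ A ≤ N ∧ N ≤ D ∧ N ≠ A ∧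
      (∀ x ∈ N, x ^ p ∈ A) ∧ (⁅N, N⁆ ≤ A) := by
  classical
  obtain ⟨n, hn⟩ := hsol.solvable
  have hex : ∃ k, D ⊓ derivedSeries G k ≤ A := ⟨n, by rw [hn, inf_bot_eq]; exact bot_le⟩
  set k := Nat.find hex with hk
  have hk0 : k ≠ 0 := by
    intro h0
    have h1 := Nat.find_spec hex
    rw [← hk, h0, derivedSeries_zero, inf_top_eq] at h1
    exact hne (le_antisymm h1 hAD)
  obtain ⟨j, hj⟩ : ∃ j, k = j + 1 := ⟨k - 1, by omega⟩
  set M := D ⊓ derivedSeries G j with hM
  have hMA : ¬ M ≤ A := Nat.find_min hex (by omega)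
  have hMM : ⁅M, M⁆ ≤ A := by
    have h1 := Nat.find_spec hex
    rw [← hk, hj] at h1
    refine le_trans (le_inf ?_ ?_) h1
    · exact (Subgroup.commutator_mono inf_le_left inf_le_left).trans (Subgroup.commutator_le_left D D)
    · rw [derivedSeries_succ]
      exact Subgroup.commutator_mono inf_le_right inf_le_right
  have hMn : M.Normal := inferInstance
  set π := QuotientGroup.mk' A with hπ
  set Mb := M.map π with hMb
  have hMbn : Mb.Normal := hMn.map π (QuotientGroup.mk'_surjective A)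
  have hcom : ∀ x ∈ Mb, ∀ y ∈ Mb, x * y = y * x := by
    rintro _ ⟨x, hx, rfl⟩ _ ⟨y, hy, rfl⟩
    have h1 : ⁅x, y⁆ ∈ A := hMM (Subgroup.commutator_mem_commutator hx hy)
    have h2 : π ⁅x, y⁆ = 1 := by
      rw [hπ, QuotientGroup.mk'_apply, QuotientGroup.eq_one_iff]; exact h1
    rw [map_commutatorElement, commutatorElement_eq_one_iff_mul_comm] at h2
    exact h2
  obtain ⟨x0, hx0, hx0A⟩ := Set.not_subset.mp hMA
  have hy0 : π x0 ≠ 1 := by
    rw [hπ, QuotientGroup.mk'_apply, Ne, QuotientGroup.eq_one_iff]; exact hx0A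
  set o := orderOf (π x0) with ho
  have ho1 : o ≠ 1 := by rw [ho, Ne, orderOf_eq_one_iff]; exact hy0
  set p := o.minFac with hp
  have hpp : p.Prime := Nat.minFac_prime ho1
  have hpo : p ∣ o := Nat.minFac_dvd o
  have hopos : 0 < o := orderOf_pos _
  let T : Subgroup (G ⧸ A) :=
    { carrier := {x | x ∈ Mb ∧ x ^ p = 1}
      one_mem' := ⟨one_mem _, one_pow p⟩
      mul_mem' := by
        rintro a b ⟨ha, ha'⟩ ⟨hb, hb'⟩
        refine ⟨mul_mem ha hb, ?_⟩
        rw [(show Commute a b from hcom a ha b hb).mul_pow, ha', hb', one_mul]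
      inv_mem' := by
        rintro a ⟨ha, ha'⟩
        exact ⟨inv_mem ha, by rw [inv_pow, ha', inv_one]⟩ }
  have hTn : T.Normal := by
    refine ⟨fun x hx g => ⟨hMbn.conj_mem x hx.1 g, ?_⟩⟩
    rw [conj_pow, hx.2]; group
  refine ⟨p, T.comap π, hpp, hTn.comap π, ?_, ?_, ?_, ?_, ?_⟩
  · intro a ha
    have : π a = 1 := by rw [hπ, QuotientGroup.mk'_apply, QuotientGroup.eq_one_iff]; exact ha
    rw [Subgroup.mem_comap, this]; exact one_mem _
  · intro x hx
    obtain ⟨m, hm, hmx⟩ := (Subgroup.mem_comap.mp hx).1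
    have h1 : m⁻¹ * x ∈ A := by
      rw [← QuotientGroup.eq_one_iff]
      change π (m⁻¹ * x) = 1
      rw [map_mul, map_inv, hmx, inv_mul_cancel]
    have h2 : x = m * (m⁻¹ * x) := by group
    rw [h2]; exact mul_mem hm.1 (hAD h1)
  · intro h
    have h1 : x0 ^ (o / p) ∈ T.comap π := by
      rw [Subgroup.mem_comap]
      refine ⟨?_, ?_⟩
      · rw [map_pow]; exact pow_mem (Subgroup.mem_map_of_mem π hx0) _
      · rw [map_pow, ← pow_mul, Nat.div_mul_cancel hpo]; exact pow_orderOf_eq_one _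
    rw [h] at h1
    have h2 : π x0 ^ (o / p) = 1 := by
      rw [← map_pow, hπ, QuotientGroup.mk'_apply, QuotientGroup.eq_one_iff]; exact h1
    have h3 := orderOf_dvd_of_pow_eq_one h2
    have h4 : o / p < o := Nat.div_lt_self hopos hpp.one_lt
    have h5 : 0 < o / p := Nat.div_pos (Nat.le_of_dvd hopos hpo) hpp.pos
    exact absurd (Nat.le_of_dvd h5 h3) (by omega)
  · intro x hx
    have h1 := (Subgroup.mem_comap.mp hx).2
    rw [← map_pow, hπ, QuotientGroup.mk'_apply, QuotientGroup.eq_one_iff] at h1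
    exact h1
  · rw [Subgroup.commutator_le]
    intro x hx y hy
    rw [← QuotientGroup.eq_one_iff]
    change π ⁅x, y⁆ = 1
    rw [map_commutatorElement, commutatorElement_eq_one_iff_mul_comm]
    exact hcom _ (Subgroup.mem_comap.mp hx).1 _ (Subgroup.mem_comap.mp hy).1

theorem q1_comm : ∀ x y : QuaternionGroup 1, x * y = y * x := by decide +kernel

theorem exists_Q8 (hsol : Group.IsSolvable G) (hcyc : ∀ B : Subgroup G, Com B → IsCyclic B)
    {A D : Subgroup G} (hA : IsMax A) (hDn : D.Normal) (hAD : A ≤ D)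
    (hne : D ≠ A) (hDC : ∀ d ∈ D, ∀ a ∈ A, d * a = a * d) :
    ∃ P : Subgroup G, P.Normal ∧ P ≤ D ∧ Nonempty (P ≃* QuaternionGroup 2) := by
  have := hA.norm
  obtain ⟨p, N, hp, hNn, hAN, hND, hNA, hpow, hNN⟩ := exists_N hsol hDn hAD hne
  have : Fact p.Prime := ⟨hp⟩
  have hnil : Group.IsNilpotent N := by
    rw [Subgroup.isNilpotent_iff_lowerCentralSeries]
    refine ⟨2, ?_⟩
    change ⁅⁅N, N⁆, N⁆ = ⊥
    rw [eq_bot_iff, Subgroup.commutator_le]
    intro a ha d hd
    rw [Subgroup.mem_bot, commutatorElement_eq_one_iff_mul_comm]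
    exact (hDC d (hND hd) a (hNN ha)).symm
  obtain ⟨P0⟩ : Nonempty (Sylow p N) := inferInstance
  have hP0n : (P0 : Subgroup N).Normal := inferInstance
  have hP0c : (P0 : Subgroup N).Characteristic := Sylow.characteristic_of_normal P0 hP0n
  set P : Subgroup G := (P0 : Subgroup N).map N.subtype with hP
  have hPn : P.Normal := ConjAct.normal_of_characteristic_of_normal
  have hPp : IsPGroup p P := P0.isPGroup'.map _
  have hPN : P ≤ N := by
    rintro _ ⟨x, -, rfl⟩; exact x.2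
  -- p-elements of N are in P
  have hpel : ∀ x ∈ N, ∀ k : ℕ, x ^ (p ^ k) = 1 → x ∈ P := by
    intro x hx k hk
    have h1 : IsPGroup p (Subgroup.zpowers (⟨x, hx⟩ : N)) := by
      rintro ⟨y, hy⟩
      obtain ⟨m, rfl⟩ := Subgroup.mem_zpowers_iff.mp hy
      refine ⟨k, Subtype.ext ?_⟩
      change ((⟨x, hx⟩ : N) ^ m) ^ (p ^ k) = 1
      rw [← zpow_natCast, ← zpow_mul, mul_comm, zpow_mul]
      have : (⟨x, hx⟩ : N) ^ ((p ^ k : ℕ) : ℤ) = 1 := by
        rw [zpow_natCast]; exact Subtype.ext hk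
      rw [this, one_zpow]
    obtain ⟨Q, hQ⟩ := h1.exists_le_sylow
    have hu : Q = P0 := by
      have := Sylow.unique_of_normal P0 hP0n
      exact Subsingleton.elim _ _
    rw [hu] at hQ
    exact ⟨⟨x, hx⟩, hQ (Subgroup.mem_zpowers _), rfl⟩
  -- N = P A
  have hNPA : ∀ x ∈ N, ∃ y ∈ P, ∃ a ∈ A, x = y * a := by
    intro x hx
    obtain ⟨k, m, hm, ho⟩ := Nat.exists_eq_pow_mul_and_not_dvd (orderOf_pos x).ne' p hp.ne_one
    have hcop : Nat.Coprime (p ^ (k + 1)) m := Nat.Coprime.pow_left _ ((Nat.Prime.coprime_iff_not_dvd hp).mpr hm)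
    have hb := Nat.gcd_eq_gcd_ab (p ^ (k + 1)) m
    rw [Nat.Coprime.gcd_eq_one hcop] at hb
    set u := (p ^ (k + 1)).gcdA m
    set v := (p ^ (k + 1)).gcdB m
    refine ⟨(x ^ m) ^ v, ?_, (x ^ (p ^ (k + 1))) ^ u, ?_, ?_⟩
    · apply zpow_mem
      apply hpel _ (pow_mem hx m) k
      rw [← pow_mul, mul_comm, ← ho]; exact pow_orderOf_eq_one x
    · apply zpow_mem
      rw [pow_succ', pow_mul]
      exact pow_mem (hpow x hx) _
    · rw [← zpow_natCast, ← zpow_natCast, ← zpow_mul, ← zpow_mul, ← zpow_add, add_comm]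
      have : ((p ^ (k + 1) : ℕ) : ℤ) * u + (m : ℤ) * v = 1 := by rw [← hb]; rfl
      rw [this, zpow_one]
  have hPnc : ¬ Com P := by
    intro hc
    apply hNA
    apply hA.max N hNn ?_ hAN
    intro x hx y hy
    obtain ⟨x1, hx1, a, ha, rfl⟩ := hNPA x hx
    obtain ⟨y1, hy1, b, hb, rfl⟩ := hNPA y hy
    have e1 : a * y1 = y1 * a := (hDC y1 (hND (hPN hy1)) a ha).symm
    have e2 : b * x1 = x1 * b := (hDC x1 (hND (hPN hx1)) b hb).symm
    calc x1 * a * (y1 * b) = x1 * (a * y1) * b := by group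
      _ = x1 * y1 * (a * b) := by rw [e1]; group
      _ = y1 * x1 * (b * a) := by rw [hc x1 hx1 y1 hy1, hA.com a ha b hb]
      _ = y1 * (x1 * b) * a := by group
      _ = y1 * b * (x1 * a) := by rw [← e2]; group
  have hcq := Cfsg.Agent.H23.PQuat.cyclic_or_quaternion_of_abelian (p := p) hPp (by
    intro B hB _
    have h1 : Com (B.map P.subtype) := by
      rintro _ ⟨a, ha, rfl⟩ _ ⟨b, hb, rfl⟩
      have := congrArg (fun z : B => ((z : P) : G)) (hB.is_comm.comm ⟨a, ha⟩ ⟨b, hb⟩)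
      exact this
    have h2 := hcyc _ h1
    exact isCyclic_of_surjective (B.equivMapOfInjective _ (Subgroup.subtype_injective _)).symm
      (MulEquiv.surjective _))
  rcases hcq with hc | ⟨rfl, n, ⟨e⟩⟩
  · exfalso
    apply hPnc
    intro a ha b hb
    have hcomm := hc.commutative
    have := congrArg Subtype.val (hcomm.is_comm.comm (⟨a, ha⟩ : P) ⟨b, hb⟩)
    exact this
  · -- n = 1
    have hsq : ∀ x y : P, x * x * y = y * (x * x) := by
      intro x y
      have h1 : ((x : G) ^ 2) ∈ A := hpow x (hPN x.2)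
      have h2 := hDC y (hND (hPN y.2)) _ h1
      apply Subtype.ext
      rw [pow_two] at h2
      exact h2.symm
    have hsq' : ∀ x y : QuaternionGroup (2 ^ n), x * x * y = y * (x * x) := by
      intro x y
      have := congrArg e (hsq (e.symm x) (e.symm y))
      simpa using this
    have h4 := hsq' (.a 1) (.xa 0)
    simp only [QuaternionGroup.a_mul_a, QuaternionGroup.a_mul_xa, QuaternionGroup.xa_mul_a,
      QuaternionGroup.xa.injEq] at h4
    have h5 : ((4 : ℕ) : ZMod (2 * 2 ^ n)) = 0 := by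
      push_cast
      linear_combination -h4
    have h6 := (ZMod.natCast_eq_zero_iff 4 (2 * 2 ^ n)).mp h5
    have h7 : n ≤ 1 := by
      by_contra hcon
      push Not at hcon
      have h8 := Nat.le_of_dvd (by norm_num) h6
      have : 2 ^ 2 ≤ 2 ^ n := Nat.pow_le_pow_right (by norm_num) hcon
      omega
    rcases (by omega : n = 0 ∨ n = 1) with rfl | rfl
    · exfalso
      apply hPnc
      intro a ha b hb
      have h8 := q1_comm (e ⟨a, ha⟩) (e ⟨b, hb⟩)
      rw [← map_mul, ← map_mul] at h8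
      exact congrArg Subtype.val (e.injective h8)
    · exact ⟨P, hPn, hPN.trans hND, ⟨e⟩⟩

end Cfsg.Agent.H20.MaxAb
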