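import Cfsg.Agent.H20_MaxAb
import Cfsg.Agent.H20_AutQ8
set_option autoImplicit false

/-! the dichotomy -/
namespace Cfsg.Agent.H20.MaxAb

variable {G : Type*} [Group G] [Finite G]

theorem invol_unique (hcyc : ∀ B : Subgroup G, Com B → IsCyclic B) {z w : G} (hz : z * z = 1) (hw : w * w = 1)
    (hz1 : z ≠ 1) (hw1 : w ≠ 1) (h : z * w = w * z) : z = w := by
  classical
  by_contra hne
  set B := Subgroup.closure ({z, w} : Set G) with hB
  have hcom : Com B := by
    have h1 := Subgroup.isMulCommutative_closure (k := ({z, w} : Set G)) (by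
      rintro x (rfl | rfl) y (rfl | rfl)
      · rfl
      · exact h
      · exact h.symm
      · rfl)
    intro a ha b hb
    exact congrArg Subtype.val (h1.is_comm.comm (⟨a, ha⟩ : B) ⟨b, hb⟩)
  have hcy := hcyc B hcom
  have hzB : z ∈ B := Subgroup.subset_closure (by simp)
  have hwB : w ∈ B := Subgroup.subset_closure (by simp)
  letI : Fintype B := Fintype.ofFinite _
  have h3 := IsCyclic.card_pow_eq_one_le (α := B) (n := 2) (by norm_num)
  have h4 : ({1, ⟨z, hzB⟩, ⟨w, hwB⟩} : Finset B) ⊆ Finset.univ.filter (fun a : B => a ^ 2 = 1) := by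
    intro x hx
    simp only [Finset.mem_insert, Finset.mem_singleton] at hx
    rw [Finset.mem_filter]
    refine ⟨Finset.mem_univ _, ?_⟩
    rcases hx with rfl | rfl | rfl
    · exact one_pow 2
    · rw [pow_two]; exact Subtype.ext hz
    · rw [pow_two]; exact Subtype.ext hw
  have h5 : ({1, ⟨z, hzB⟩, ⟨w, hwB⟩} : Finset B).card = 3 := by
    rw [Finset.card_eq_three]
    refine ⟨1, ⟨z, hzB⟩, ⟨w, hwB⟩, ?_, ?_, ?_, rfl⟩
    · intro h; exact hz1 (congrArg Subtype.val h).symm
    · intro h; exact hw1 (congrArg Subtype.val h).symm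
    · intro h; exact hne (congrArg Subtype.val h)
  have h6 := Finset.card_le_card h4
  omega

theorem key (hcyc : ∀ B : Subgroup G, Com B → IsCyclic B) {P : Subgroup G} (e : P ≃* QuaternionGroup 2)
    {a : G} (ha : ∀ x ∈ P, a * x = x * a) (h4 : a ^ 4 = 1) : a ^ 2 = 1 := by
  by_contra h2
  set i : P := e.symm (.a 1) with hi
  set j : P := e.symm (.xa 0) with hj
  have hi4 : i ^ 4 = 1 := by
    apply e.injective; rw [map_pow, hi, e.apply_symm_apply, map_one]; decide
  have hi2 : i ^ 2 ≠ 1 := by
    intro h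
    have := congrArg e h
    rw [map_pow, hi, e.apply_symm_apply, map_one] at this
    exact absurd this (by decide)
  have hij : i ^ 3 * j ≠ j * i ^ 3 := by
    intro h
    have := congrArg e h
    rw [map_mul, map_mul, map_pow, hi, hj, e.apply_symm_apply, e.apply_symm_apply] at this
    exact absurd this (by decide)
  have hG4 : (i : G) ^ 4 = 1 := congrArg Subtype.val hi4
  have hG2 : (i : G) ^ 2 ≠ 1 := fun h => hi2 (Subtype.ext h)
  have hai : Commute a (i : G) := ha i i.2
  have hinv : (a ^ 2) = (i : G) ^ 2 := by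
    apply invol_unique hcyc
    · rw [← pow_add]; exact h4
    · rw [← pow_add]; exact hG4
    · exact h2
    · exact hG2
    · exact hai.pow_pow 2 2
  have hy2 : (a * (i : G) ^ 3) * (a * (i : G) ^ 3) = 1 := by
    have h1 : (a * (i : G) ^ 3) * (a * (i : G) ^ 3) = a ^ 2 * (i : G) ^ 6 := by
      rw [← pow_two, (hai.pow_right 3).mul_pow, ← pow_mul]
    rw [h1, hinv, ← pow_add]
    calc (i : G) ^ 8 = ((i : G) ^ 4) ^ 2 := by rw [← pow_mul]
      _ = 1 := by rw [hG4, one_pow]
  have hcase : a * (i : G) ^ 3 = 1 ∨ a * (i : G) ^ 3 = (i : G) ^ 2 := by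
    by_cases h : a * (i : G) ^ 3 = 1
    · exact Or.inl h
    · right
      apply invol_unique hcyc hy2 (by rw [← pow_add]; exact hG4) h hG2
      exact (hai.mul_left ((Commute.refl (i : G)).pow_left 3)).pow_right 2
  have haj := ha j j.2
  have hcj : ∀ k : ℕ, a = (i : G) ^ k → (i : P) ^ k * j = j * i ^ k := by
    intro k hk
    apply Subtype.ext
    change (i : G) ^ k * (j : G) = j * (i : G) ^ k
    rw [← hk]; exact haj
  rcases hcase with h | h
  · have e1 : a = (i : G) ^ 1 := by
      calc a = (a * (i : G) ^ 3) * (i : G) ^ 1 := by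
            rw [mul_assoc, ← pow_add, hG4, mul_one]
        _ = _ := by rw [h, one_mul]
    have h5 := hcj 1 e1
    apply hij
    have h6 : Commute (i ^ 1) j := h5
    have h7 := h6.pow_left 3
    rw [← pow_mul, one_mul] at h7
    exact h7
  · have e1 : a = (i : G) ^ 3 := by
      calc a = (a * (i : G) ^ 3) * (i : G) ^ 1 := by
            rw [mul_assoc, ← pow_add, hG4, mul_one]
        _ = _ := by rw [h, ← pow_add]
    exact hij (hcj 3 e1)

theorem dich (hsol : Group.IsSolvable G) (hcyc : ∀ B : Subgroup G, Com B → IsCyclic B)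
    {A : Subgroup G} (hA : IsMax A) : Subgroup.centralizer (A : Set G) = A ∨
      ∃ P : Subgroup G, P.Normal ∧ P ≤ Subgroup.centralizer (A : Set G) ∧ Nonempty (P ≃* QuaternionGroup 2) ∧
        Subgroup.centralizer (A : Set G) ⊓ Subgroup.centralizer (P : Set G) = A := by
  have := hA.norm
  by_cases hC : Subgroup.centralizer (A : Set G) = A
  · exact Or.inl hC
  right
  have hAC : A ≤ Subgroup.centralizer (A : Set G) := fun a ha => by
    rw [Subgroup.mem_centralizer_iff]; intro b hb; exact hA.com b hb a ha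
  have hCn : (Subgroup.centralizer (A : Set G)).Normal := inferInstance
  obtain ⟨P, hPn, hPC, ⟨e⟩⟩ := exists_Q8 hsol hcyc hA hCn hAC hC (by
    intro d hd a ha
    exact (Subgroup.mem_centralizer_iff.mp hd a ha).symm)
  refine ⟨P, hPn, hPC, ⟨e⟩, ?_⟩
  by_contra hne
  have hCP : (Subgroup.centralizer (P : Set G)).Normal := inferInstance
  have hAD : A ≤ Subgroup.centralizer (A : Set G) ⊓ Subgroup.centralizer (P : Set G) := by
    refine le_inf hAC ?_
    intro a ha
    rw [Subgroup.mem_centralizer_iff]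
    intro x hx
    exact (Subgroup.mem_centralizer_iff.mp (hPC hx) a ha).symm
  obtain ⟨P', hPn', hPC', ⟨e'⟩⟩ := exists_Q8 hsol hcyc hA (D := Subgroup.centralizer (A : Set G) ⊓ Subgroup.centralizer (P : Set G))
    inferInstance hAD hne (by
      intro d hd a ha
      exact (Subgroup.mem_centralizer_iff.mp hd.1 a ha).symm)
  have hi4 : (e'.symm (.a 1)) ^ 4 = 1 := by
    apply e'.injective; rw [map_pow, e'.apply_symm_apply, map_one]; decide
  have hi2 : (e'.symm (.a 1)) ^ 2 ≠ 1 := by
    intro h
    have := congrArg e' h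
    rw [map_pow, e'.apply_symm_apply, map_one] at this
    exact absurd this (by decide)
  apply hi2
  apply Subtype.ext
  apply key hcyc e
  · intro x hx
    exact (Subgroup.mem_centralizer_iff.mp (hPC' (e'.symm (.a 1)).2).2 x hx).symm
  · exact congrArg Subtype.val hi4

/-- the conjugation action on `P`, as automorphisms of `Q8` -/
noncomputable def cQ {P : Subgroup G} (hP : P.Normal) (e : P ≃* QuaternionGroup 2) : G →* MulAut (QuaternionGroup 2) :=
  (MulAut.congr e).toMonoidHom.comp (MulAut.conjNormal (H := P))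

omit [Finite G] in
theorem cQ_apply {P : Subgroup G} (hP : P.Normal) (e : P ≃* QuaternionGroup 2) (g : G) (x : P) :
    cQ hP e g (e x) = e ⟨g * x * g⁻¹, hP.conj_mem x x.2 g⟩ := by
  change e (MulAut.conjNormal g (e.symm (e x))) = _
  rw [e.symm_apply_apply]
  rfl

omit [Finite G] in
theorem cQ_ker {P : Subgroup G} (hP : P.Normal) (e : P ≃* QuaternionGroup 2) :
    (cQ hP e).ker = Subgroup.centralizer (P : Set G) := by
  ext g
  rw [MonoidHom.mem_ker, Subgroup.mem_centralizer_iff]
  constructor
  · intro h x hx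
    have h1 := cQ_apply hP e g ⟨x, hx⟩
    rw [h] at h1
    have h2 := congrArg Subtype.val (e.injective h1)
    change x = g * x * g⁻¹ at h2
    conv_lhs => rw [h2]
    group
  · intro h
    ext1 y
    obtain ⟨x, rfl⟩ := e.surjective y
    rw [cQ_apply]
    change _ = e x
    congr 1
    apply Subtype.ext
    change g * (x : G) * g⁻¹ = x
    rw [← h x x.2]; group

end Cfsg.Agent.H20.MaxAb
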