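import Cfsg.Agent.H8_CE

/-!
Static coset enumeration certificates.

A certificate is a list of facts `f ↦ (v, y, w)` (meaning `ρ v * x y ≡ ρ w` modulo `H`), numbered so that every
fact is a definition of a new node, an initial fact, or follows from earlier facts by one rule.
The facts are stored in a function `S : ℕ → ℕ` (`S f = v * 2^24 + y * 2^20 + w`).
-/

set_option autoImplicit false

namespace Cfsg.Agent.H8.CS

open CE

/-! ### Lookup trees as functions -/

/-- inner node: the first index on the right is `m` -/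
noncomputable def nodeF (m : ℕ) (l r : ℕ → ℕ) (p : ℕ) : ℕ := Bool.rec (l p) (r p) (Nat.ble m p)

/-- leaf with 1024 records of 44 bits -/
noncomputable def leafF (v : ℕ) (p : ℕ) : ℕ :=
  Nat.land (Nat.shiftRight v (Nat.mul (Nat.land p (nat_lit 1023)) (nat_lit 44))) (nat_lit 17592186044415)

/-- number of bits of a subtree with `2^d` leaves -/
noncomputable def szB (d : ℕ) : ℕ := Nat.mul (nat_lit 45056) (Nat.pow (nat_lit 2) d)

/-- first index of the right half -/
noncomputable def midF (d base : ℕ) : ℕ := Nat.add base (Nat.pow (nat_lit 2) (Nat.add d (nat_lit 10)))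

/-- split a chunk into a tree with `2^d` leaves -/
noncomputable def splP (d : ℕ) : ℕ → ℕ → ℕ → ℕ :=
  Nat.rec (motive := fun _ => ℕ → ℕ → ℕ → ℕ) (fun _ c => leafF c)
    (fun d ih base c => nodeF (midF d base)
      (ih base (Nat.land c (Nat.sub (Nat.pow (nat_lit 2) (szB d)) (nat_lit 1))))
      (ih (midF d base) (Nat.shiftRight c (szB d)))) d

noncomputable def splK (d : ℕ) : ℕ → ℕ → ((ℕ → ℕ) → Bool) → Bool :=
  Nat.rec (motive := fun _ => ℕ → ℕ → ((ℕ → ℕ) → Bool) → Bool) (fun _ c k => k (leafF c))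
    (fun d ih base c k =>
      N (Nat.land c (Nat.sub (Nat.pow (nat_lit 2) (szB d)) (nat_lit 1))) fun lo => ih base lo fun l =>
      N (Nat.shiftRight c (szB d)) fun hi => N (midF d base) fun m => ih m hi fun r => k (nodeF m l r)) d

theorem splK_eq (d : ℕ) : ∀ (base c : ℕ) (k : (ℕ → ℕ) → Bool), splK d base c k = k (splP d base c) := by
  induction d with
  | zero => intro base c k; rfl
  | succ d ih =>
    intro base c k
    have h1 : splK (d + 1) base c k =
      N (Nat.land c (Nat.sub (Nat.pow (nat_lit 2) (szB d)) (nat_lit 1))) fun lo => splK d base lo fun l =>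
      N (Nat.shiftRight c (szB d)) fun hi => N (midF d base) fun m => splK d m hi fun r =>
      k (nodeF m l r) := rfl
    rw [h1, N_eq, ih, N_eq, N_eq, ih]
    rfl

/-- a tree with `2^d` chunks from a list, each with `2^d0` leaves -/
noncomputable def topP (d0 d : ℕ) : ℕ → List ℕ → (ℕ → ℕ) × List ℕ :=
  Nat.rec (motive := fun _ => ℕ → List ℕ → (ℕ → ℕ) × List ℕ)
    (fun base cs => List.rec (motive := fun _ => (ℕ → ℕ) × List ℕ) (leafF (nat_lit 0), [])
      (fun c cs _ => (splP d0 base c, cs)) cs)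
    (fun d ih base cs => (nodeF (midF (Nat.add d d0) base) (ih base cs).1
      (ih (midF (Nat.add d d0) base) (ih base cs).2).1, (ih (midF (Nat.add d d0) base) (ih base cs).2).2)) d

noncomputable def topK (d0 d : ℕ) : ℕ → List ℕ → ((ℕ → ℕ) → List ℕ → Bool) → Bool :=
  Nat.rec (motive := fun _ => ℕ → List ℕ → ((ℕ → ℕ) → List ℕ → Bool) → Bool)
    (fun base cs => List.rec (motive := fun _ => ((ℕ → ℕ) → List ℕ → Bool) → Bool)
      (fun k => k (leafF (nat_lit 0)) [])
      (fun c cs _ k => splK d0 base c fun t => k t cs) cs)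
    (fun d ih base cs k => ih base cs fun l cs1 => N (midF (Nat.add d d0) base) fun m => ih m cs1 fun r cs2 =>
      k (nodeF m l r) cs2) d

theorem topK_eq (d0 d : ℕ) : ∀ (base : ℕ) (cs : List ℕ) (k : (ℕ → ℕ) → List ℕ → Bool),
    topK d0 d base cs k = k (topP d0 d base cs).1 (topP d0 d base cs).2 := by
  induction d with
  | zero =>
    intro base cs k
    cases cs with
    | nil => rfl
    | cons c cs =>
      have h1 : topK d0 0 base (c :: cs) k = splK d0 base c fun t => k t cs := rfl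
      rw [h1, splK_eq]
      rfl
  | succ d ih =>
    intro base cs k
    have h1 : topK d0 (d + 1) base cs k = topK d0 d base cs fun l cs1 =>
      N (midF (Nat.add d d0) base) fun m => topK d0 d m cs1 fun r cs2 =>
      k (nodeF m l r) cs2 := rfl
    rw [h1, ih, N_eq, ih]
    rfl

/-- the fact function -/
noncomputable def facts (d0 d : ℕ) (cs : List ℕ) : ℕ → ℕ := (topP d0 d (nat_lit 0) cs).1

/-- evaluate with the fact function -/
noncomputable def withF (d0 d : ℕ) (cs : List ℕ) (k : (ℕ → ℕ) → Bool) : Bool :=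
  topK d0 d (nat_lit 0) cs fun t _ => k t

theorem withF_eq (d0 d : ℕ) (cs : List ℕ) (k : (ℕ → ℕ) → Bool) : withF d0 d cs k = k (facts d0 d cs) :=
  topK_eq d0 d _ cs _

/-! ### Records -/

theorem land20 (a : ℕ) : Nat.land a (nat_lit 1048575) = a % 1048576 := Nat.and_two_pow_sub_one_eq_mod a 20
theorem land24 (a : ℕ) : Nat.land a (nat_lit 16777215) = a % 16777216 := Nat.and_two_pow_sub_one_eq_mod a 24
theorem shr20 (a : ℕ) : Nat.shiftRight a (nat_lit 20) = a / 1048576 := Nat.shiftRight_eq_div_pow a 20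
theorem shr24 (a : ℕ) : Nat.shiftRight a (nat_lit 24) = a / 16777216 := Nat.shiftRight_eq_div_pow a 24

/-- words, with codes for the inverse letters -/
inductive Wd : Type
  | nil : Wd
  | cons (y b : ℕ) (t : Wd) : Wd

/-- the letters of a word -/
def Wd.lets : Wd → List ℕ
  | .nil => []
  | .cons y _ t => y :: t.lets

/-- validity of the codes -/
def Wd.Ok (ic : ℕ) : Wd → Prop
  | .nil => True
  | .cons y b t => y < 16 ∧ b = il ic y * 1048576 ∧ t.Ok ic

/-- type of compiled words: arguments `J cur P acc k` -/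
abbrev WF : Type := ℕ → ℕ → ℕ → ℕ → (ℕ → ℕ → ℕ → Bool) → Bool

/-- error term of one use of a fact -/
noncomputable def errF (y b J cur a rec : ℕ) : ℕ :=
  Nat.add (Nat.sub (Nat.succ a) J) (Nat.mul
    (Nat.xor (Nat.add (Nat.mul cur (nat_lit 16)) y) (Nat.shiftRight rec (nat_lit 20)))
    (Nat.xor (Nat.add b cur) (Nat.land rec (nat_lit 16777215))))

noncomputable def stepH (y b : ℕ) (nx : WF) (J cur a rec P' acc : ℕ) (k : ℕ → ℕ → ℕ → Bool) : Bool :=
  nx J (Nat.sub (Nat.add (Nat.shiftRight rec (nat_lit 24)) (Nat.land rec (nat_lit 1048575))) cur) P'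
    (Nat.add acc (Nat.add (Nat.sub (Nat.succ a) J) (Nat.mul
    (Nat.xor (Nat.add (Nat.mul cur (nat_lit 16)) y) (Nat.shiftRight rec (nat_lit 20)))
    (Nat.xor (Nat.add b cur) (Nat.land rec (nat_lit 16777215)))))) k

noncomputable def stepG (y b : ℕ) (nx : WF) (J cur a : ℕ) (S : ℕ → ℕ) (P' acc : ℕ) (k : ℕ → ℕ → ℕ → Bool) : Bool :=
  stepH y b nx J cur a (S a) P' acc k

/-- one letter of a compiled word -/
noncomputable def stepF (S : ℕ → ℕ) (W MW y b : ℕ) (nx : WF) (J cur P acc : ℕ) (k : ℕ → ℕ → ℕ → Bool) : Bool :=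
  stepG y b nx J cur (Nat.land P MW) S (Nat.shiftRight P W) acc k

/-- one letter of a compiled star (the current node does not move) -/
noncomputable def starH (y b : ℕ) (nx : WF) (J cur a rec P' acc : ℕ) (k : ℕ → ℕ → ℕ → Bool) : Bool :=
  nx J cur P'
    (Nat.add acc (Nat.add (Nat.sub (Nat.succ a) J) (Nat.mul
    (Nat.xor (Nat.add (Nat.mul cur (nat_lit 16)) y) (Nat.shiftRight rec (nat_lit 20)))
    (Nat.xor (Nat.add b cur) (Nat.land rec (nat_lit 16777215)))))) k

noncomputable def starG (y b : ℕ) (nx : WF) (J cur a : ℕ) (S : ℕ → ℕ) (P' acc : ℕ) (k : ℕ → ℕ → ℕ → Bool) : Bool :=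
  starH y b nx J cur a (S a) P' acc k

noncomputable def starF (S : ℕ → ℕ) (W MW y b : ℕ) (nx : WF) (J cur P acc : ℕ) (k : ℕ → ℕ → ℕ → Bool) : Bool :=
  starG y b nx J cur (Nat.land P MW) S (Nat.shiftRight P W) acc k

noncomputable def nilF (_J cur P acc : ℕ) (k : ℕ → ℕ → ℕ → Bool) : Bool := k cur P acc

/-- compiled words -/
noncomputable def wdP (S : ℕ → ℕ) (W MW : ℕ) (u : Wd) : WF :=
  Wd.rec (motive := fun _ => WF) nilF (fun y b _ ih => stepF S W MW y b ih) u

noncomputable def wdK (S : ℕ → ℕ) (W MW : ℕ) (u : Wd) : (WF → Bool) → Bool :=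
  Wd.rec (motive := fun _ => (WF → Bool) → Bool) (fun k => k nilF)
    (fun y b _ ih k => ih fun nx => k (stepF S W MW y b nx)) u

theorem wdK_eq (S : ℕ → ℕ) (W MW : ℕ) (u : Wd) : ∀ k, wdK S W MW u k = k (wdP S W MW u) := by
  induction u with
  | nil => intro k; rfl
  | cons y b t ih =>
    intro k
    have h1 : wdK S W MW (.cons y b t) k = wdK S W MW t fun nx => k (stepF S W MW y b nx) := rfl
    rw [h1, ih]; rfl

noncomputable def stP (S : ℕ → ℕ) (W MW : ℕ) (u : Wd) : WF :=
  Wd.rec (motive := fun _ => WF) nilF (fun y b _ ih => starF S W MW y b ih) u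

noncomputable def stK (S : ℕ → ℕ) (W MW : ℕ) (u : Wd) : (WF → Bool) → Bool :=
  Wd.rec (motive := fun _ => (WF → Bool) → Bool) (fun k => k nilF)
    (fun y b _ ih k => ih fun nx => k (starF S W MW y b nx)) u

theorem stK_eq (S : ℕ → ℕ) (W MW : ℕ) (u : Wd) : ∀ k, stK S W MW u k = k (stP S W MW u) := by
  induction u with
  | nil => intro k; rfl
  | cons y b t ih =>
    intro k
    have h1 : stK S W MW (.cons y b t) k = stK S W MW t fun nx => k (starF S W MW y b nx) := rfl
    rw [h1, ih]; rfl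

section
variable {G : Type*} [Group G] (H : Subgroup G) (x : ℕ → G) (ρ : ℕ → G) (nN : ℕ) (S : ℕ → ℕ)

/-- validity of fact number `f` -/
def VF (f : ℕ) : Prop :=
  S f / 16777216 < nN ∧ S f % 1048576 < nN ∧
    R H (ρ (S f / 16777216) * x (S f / 1048576 % 16)) (ρ (S f % 1048576))

variable {H x ρ nN S}

/-- a vanishing error term means that the fact applies -/
theorem errF_sound {ic : ℕ} (hic : ∀ y, y < 16 → x (il ic y) = (x y)⁻¹) {y b J a cur : ℕ}
    (hy : y < 16) (hb : b = il ic y * 1048576) (hf : ∀ g, g < J → VF H x ρ nN S g) (hcur : cur < 1048576)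
    (h : errF y b J cur a (S a) = 0) :
    ∃ c, c = S a / 16777216 + S a % 1048576 - cur ∧ c < nN ∧ cur < nN ∧ R H (ρ cur * x y) (ρ c) := by
  have h' : (a + 1 - J) + ((cur * 16 + y) ^^^ Nat.shiftRight (S a) (nat_lit 20)) *
      ((b + cur) ^^^ Nat.land (S a) (nat_lit 16777215)) = 0 := h
  rw [shr20, land24] at h'
  have hfJ : a < J := by omega
  obtain ⟨h1, h2, h3⟩ := hf a hfJ
  have h4 : ((cur * 16 + y) ^^^ (S a / 1048576)) * ((b + cur) ^^^ (S a % 16777216)) = 0 := by omega
  rcases Nat.mul_eq_zero.1 h4 with h5 | h5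
  · have h6 := Nat.xor_eq_zero_iff.1 h5
    have e1 : S a / 16777216 = cur := by omega
    have e2 : S a / 1048576 % 16 = y := by omega
    rw [e1, e2] at h3
    refine ⟨S a % 1048576, by omega, h2, by omega, h3⟩
  · have h6 := Nat.xor_eq_zero_iff.1 h5
    have hil := il_lt ic y
    rw [hb] at h6
    have e1 : S a % 1048576 = cur := by omega
    have e2 : S a / 1048576 % 16 = il ic y := by omega
    rw [e1, e2, hic y hy] at h3
    refine ⟨S a / 16777216, by omega, h1, by omega, ?_⟩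
    have h7 := h3.symm.mul_right (x y)
    simpa using h7

theorem wdP_sound {ic : ℕ} (hic : ∀ y, y < 16 → x (il ic y) = (x y)⁻¹) {W MW : ℕ}
    (hnN : nN ≤ 1048576) (u : Wd) (hu : u.Ok ic) :
    ∀ (J cur P acc : ℕ) (k : ℕ → ℕ → ℕ → Bool), wdP S W MW u J cur P acc k = true →
    ∃ c P' acc', k c P' acc' = true ∧ acc ≤ acc' ∧ (acc' = 0 → cur < 1048576 →
      (∀ g, g < J → VF H x ρ nN S g) → R H (ρ cur * ev x u.lets) (ρ c) ∧
        (u.lets = [] ∧ c = cur ∨ c < nN ∧ cur < nN)) := by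
  induction u with
  | nil =>
    intro J cur P acc k h
    exact ⟨cur, P, acc, h, le_rfl, fun _ _ _ => ⟨by simpa [Wd.lets] using R.refl _, Or.inl ⟨rfl, rfl⟩⟩⟩
  | cons y b t ih =>
    intro J cur P acc k h
    have h1 : wdP S W MW (.cons y b t) J cur P acc k = wdP S W MW t J
      (Nat.sub (Nat.add (Nat.shiftRight (S (Nat.land P MW)) (nat_lit 24))
        (Nat.land (S (Nat.land P MW)) (nat_lit 1048575))) cur)
      (Nat.shiftRight P W) (acc + errF y b J cur (Nat.land P MW) (S (Nat.land P MW))) k := rfl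
    rw [h1] at h
    obtain ⟨c, P', acc', hk, hacc, hs⟩ := ih hu.2.2 _ _ _ _ _ h
    refine ⟨c, P', acc', hk, by omega, ?_⟩
    intro h0 hcur hf
    obtain ⟨c1, hc1, hc1N, hcN, hR⟩ := errF_sound hic hu.1 hu.2.1 hf hcur (by omega :
      errF y b J cur (Nat.land P MW) (S (Nat.land P MW)) = 0)
    have e : Nat.sub (Nat.add (Nat.shiftRight (S (Nat.land P MW)) (nat_lit 24))
        (Nat.land (S (Nat.land P MW)) (nat_lit 1048575))) cur = c1 := by
      rw [hc1, shr24, land20]; rfl
    rw [e] at hs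
    obtain ⟨hR', hb⟩ := hs h0 (by omega) hf
    refine ⟨?_, Or.inr ⟨?_, hcN⟩⟩
    · rw [Wd.lets, ev_cons, ← mul_assoc]
      exact (hR.mul_right _).trans hR'
    · rcases hb with ⟨_, rfl⟩ | ⟨hb, _⟩
      · exact hc1N
      · exact hb

theorem stP_sound {ic : ℕ} (hic : ∀ y, y < 16 → x (il ic y) = (x y)⁻¹) {W MW : ℕ}
    (u : Wd) (hu : u.Ok ic) :
    ∀ (J cur P acc : ℕ) (k : ℕ → ℕ → ℕ → Bool), stP S W MW u J cur P acc k = true →
    ∃ P' acc', k cur P' acc' = true ∧ acc ≤ acc' ∧ (acc' = 0 → cur < 1048576 →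
      (∀ g, g < J → VF H x ρ nN S g) → ∀ y ∈ u.lets, ∃ w, w < nN ∧ R H (ρ cur * x y) (ρ w)) := by
  induction u with
  | nil => intro J cur P acc k h; exact ⟨P, acc, h, le_rfl, by simp [Wd.lets]⟩
  | cons y b t ih =>
    intro J cur P acc k h
    have h1 : stP S W MW (.cons y b t) J cur P acc k = stP S W MW t J cur
      (Nat.shiftRight P W) (acc + errF y b J cur (Nat.land P MW) (S (Nat.land P MW))) k := rfl
    rw [h1] at h
    obtain ⟨P', acc', hk, hacc, hs⟩ := ih hu.2.2 _ _ _ _ _ h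
    refine ⟨P', acc', hk, by omega, ?_⟩
    intro h0 hcur hf
    obtain ⟨c1, hc1, hc1N, hcN, hR⟩ := errF_sound hic hu.1 hu.2.1 hf hcur (by omega :
      errF y b J cur (Nat.land P MW) (S (Nat.land P MW)) = 0)
    intro z hz
    rw [Wd.lets, List.mem_cons] at hz
    rcases hz with rfl | hz
    · exact ⟨c1, hc1N, hR⟩
    · exact hs h0 hcur hf z hz

end

/-! ### Rule trees -/

/-- rule trees; the leaf `(y, u)` says `x y = ev x u` -/
inductive RS : Type
  | lf (hi hr y yb : ℕ) (u : Wd) : RS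
  | nd (m : ℕ) (l r : RS) : RS

/-- validity of rules -/
def RS.Valid {G : Type*} [Group G] (x : ℕ → G) (ic : ℕ) : RS → Prop
  | .lf _ _ y yb u => x y = ev x u.lets ∧ y < 16 ∧ yb = y * 1048576 ∧ u.Ok ic
  | .nd _ l r => l.Valid x ic ∧ r.Valid x ic

/-- compiled rule trees -/
abbrev RF : Type := ℕ → (ℕ → WF → Bool) → Bool

noncomputable def leafR (yb : ℕ) (w : WF) (_i : ℕ) (k : ℕ → WF → Bool) : Bool := k yb w
noncomputable def nodeR (m : ℕ) (l r : RF) (i : ℕ) (k : ℕ → WF → Bool) : Bool :=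
  Bool.rec (l i k) (r i k) (Nat.ble m i)

noncomputable def rsP (S : ℕ → ℕ) (W MW : ℕ) (rt : RS) : RF :=
  RS.rec (motive := fun _ => RF) (fun _ _ _ yb u => leafR yb (wdP S W MW u))
    (fun m _ _ il ir => nodeR m il ir) rt

noncomputable def rsK (S : ℕ → ℕ) (W MW : ℕ) (rt : RS) : (RF → Bool) → Bool :=
  RS.rec (motive := fun _ => (RF → Bool) → Bool) (fun _ _ _ yb u k => wdK S W MW u fun w => k (leafR yb w))
    (fun m _ _ il ir k => il fun l => ir fun r => k (nodeR m l r)) rt

theorem rsK_eq (S : ℕ → ℕ) (W MW : ℕ) (rt : RS) : ∀ k, rsK S W MW rt k = k (rsP S W MW rt) := by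
  induction rt with
  | lf hi hr y yb u =>
    intro k
    have h1 : rsK S W MW (.lf hi hr y yb u) k = wdK S W MW u fun w => k (leafR yb w) := rfl
    rw [h1, wdK_eq]; rfl
  | nd m l r il ir =>
    intro k
    have h1 : rsK S W MW (.nd m l r) k = rsK S W MW l fun l => rsK S W MW r fun r => k (nodeR m l r) := rfl
    rw [h1, il, ir]; rfl

theorem rsP_sound {G : Type*} [Group G] {x : ℕ → G} {ic : ℕ} {S : ℕ → ℕ} {W MW : ℕ}
    (rt : RS) (hv : rt.Valid x ic) (i : ℕ)
    (k : ℕ → WF → Bool) (h : rsP S W MW rt i k = true) :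
    ∃ y yb u, (RS.lf 0 0 y yb u).Valid x ic ∧ k yb (wdP S W MW u) = true := by
  induction rt with
  | lf _ _ y yb u => exact ⟨y, yb, u, hv, h⟩
  | nd m l r il ir =>
    have h1 : rsP S W MW (.nd m l r) i k = Bool.rec (rsP S W MW l i k) (rsP S W MW r i k) (Nat.ble m i) := rfl
    rw [h1] at h
    cases hb : Nat.ble m i
    · rw [hb] at h; exact il hv.1 h
    · rw [hb] at h; exact ir hv.2 h

/-- check the codes of a word -/
def Wd.chk (ic : ℕ) : Wd → Bool
  | .nil => true
  | .cons y b t => Nat.blt y 16 && (b == il ic y * 1048576) && t.chk ic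

theorem Wd.ok_of_chk {ic : ℕ} : ∀ {u : Wd}, u.chk ic = true → u.Ok ic
  | .nil, _ => trivial
  | .cons y b t, h => by
    simp only [Wd.chk, Bool.and_eq_true, beq_iff_eq] at h
    exact ⟨blt_eq.1 h.1.1, h.1.2, Wd.ok_of_chk h.2⟩

/-- check the rules against a list of relators -/
def RS.chk (ic : ℕ) (rels : List (List ℕ)) : RS → Bool
  | .lf hi hr y yb u => Nat.blt y 16 && (yb == y * 1048576) && u.chk ic &&
      (bif hi == 0 then (red ic (y :: invw ic u.lets)).isEmpty else
        (red ic (y :: invw ic u.lets)) ==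
          ((rels.getD (hi - 1) []).drop hr ++ (rels.getD (hi - 1) []).take hr))
  | .nd _ l r => l.chk ic rels && r.chk ic rels

theorem Wd.lets_lt {ic : ℕ} : ∀ {u : Wd}, u.Ok ic → ∀ z ∈ u.lets, z < 16
  | .nil, _, z, hz => by simp [Wd.lets] at hz
  | .cons y b t, h, z, hz => by
    rw [Wd.lets, List.mem_cons] at hz
    rcases hz with rfl | hz
    · exact h.1
    · exact Wd.lets_lt h.2.2 z hz

theorem RS.valid_of_chk {G : Type*} [Group G] {x : ℕ → G} {ic : ℕ} {rels : List (List ℕ)}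
    (hic : ∀ y, y < 16 → x (il ic y) = (x y)⁻¹)
    (h0 : x 0 = 1) (hrels : ∀ w ∈ rels, ev x w = 1) (rt : RS) (h : rt.chk ic rels = true) :
    rt.Valid x ic := by
  induction rt with
  | nd m l r il ir =>
    simp only [RS.chk, Bool.and_eq_true] at h
    exact ⟨il h.1, ir h.2⟩
  | lf hi hr y yb u =>
    simp only [RS.chk, Bool.and_eq_true, beq_iff_eq] at h
    obtain ⟨⟨⟨h1, h2⟩, h3⟩, h4⟩ := h
    have hy : y < 16 := blt_eq.1 h1
    have hu := Wd.ok_of_chk h3
    have hul := Wd.lets_lt hu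
    have hwlt : ∀ z ∈ y :: invw ic u.lets, z < 16 := by
      intro z hz
      rw [List.mem_cons] at hz
      rcases hz with rfl | hz
      · exact hy
      · exact invw_lt _ _ z hz
    have key : ev x (y :: invw ic u.lets) = 1 := by
      rw [← ev_red hic h0 _ hwlt]
      cases hh : (hi == 0)
      · rw [hh] at h4
        simp only [cond_false, beq_iff_eq] at h4
        rw [h4]
        apply ev_rot
        by_cases hlt : hi - 1 < rels.length
        · apply hrels
          rw [List.getD_eq_getElem _ _ hlt]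
          exact List.getElem_mem _
        · rw [List.getD_eq_default _ _ (by omega)]; rfl
      · rw [hh] at h4
        simp only [cond_true] at h4
        rw [List.isEmpty_iff] at h4
        rw [h4]; rfl
    rw [ev_cons, ev_invw hic _ hul, mul_inv_eq_one] at key
    exact ⟨key, hy, h2, hu⟩

/-! ### Token streams -/

/-- steps: arguments `r P a b ih` -/
abbrev StepT : Type := ℕ → ℕ → ℕ → ℕ → (ℕ → ℕ → Bool) → Bool

noncomputable def slotS (W : ℕ) (step : StepT) (k : ℕ → ℕ → Bool) (r P a b : ℕ) (ih : ℕ → ℕ → Bool) : Bool :=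
  Bool.rec (step r (Nat.shiftRight P W) a b ih) (k a b) (Nat.beq r (nat_lit 0))

/-- process a slot: read a token; if it is zero stop, else do a step -/
noncomputable def slotK (W MW : ℕ) (step : StepT) (k : ℕ → ℕ → Bool) (base fuel : ℕ) : ℕ → ℕ → Bool :=
  Nat.rec (motive := fun _ => ℕ → ℕ → Bool) (fun _ _ => false)
    (fun n ih P b => slotS W step k (Nat.land P MW) P (Nat.sub base n) b ih) fuel

noncomputable def slot0 (W MW : ℕ) (step : StepT) (fm c a b : ℕ) (k : ℕ → ℕ → Bool) : Bool :=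
  N (Nat.add a fm) fun base => N b fun b' => slotK W MW step k base (Nat.succ fm) c b'

/-- process `2^d` slots of `B` bits -/
noncomputable def chunkS (W MW : ℕ) (step : StepT) (fm B d : ℕ) : ℕ → ℕ → ℕ → (ℕ → ℕ → Bool) → Bool :=
  Nat.rec (motive := fun _ => ℕ → ℕ → ℕ → (ℕ → ℕ → Bool) → Bool)
    (fun c a b k => slot0 W MW step fm c a b k)
    (fun d ih c a b k => N (Nat.land c (Nat.sub (Nat.pow (nat_lit 2) (Nat.mul B (Nat.pow (nat_lit 2) d))) (nat_lit 1)))
      fun lo => ih lo a b fun a' b' => N (Nat.shiftRight c (Nat.mul B (Nat.pow (nat_lit 2) d))) fun hi =>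
        ih hi a' b' k) d

/-- process a list of chunks -/
noncomputable def progS (W MW : ℕ) (step : StepT) (fm B d : ℕ) (cs : List ℕ) (a b : ℕ)
    (k : ℕ → ℕ → Bool) : Bool :=
  List.rec (motive := fun _ => ℕ → ℕ → Bool) k (fun c _ ih a b => chunkS W MW step fm B d c a b ih) cs a b

/-- soundness of a step -/
def SoundStep (step : StepT) (Good : ℕ → ℕ → Prop) : Prop :=
  ∀ r P a b ih, Good a b → step r P a b ih = true → ∃ P' b', Good (a + 1) b' ∧ ih P' b' = true

theorem slotK_sound {W MW : ℕ} {step : StepT}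
    {Good : ℕ → ℕ → Prop} (hs : SoundStep step Good) (k : ℕ → ℕ → Bool) (base fuel : ℕ) :
    ∀ P b, fuel ≤ base + 1 → Good (base + 1 - fuel) b → slotK W MW step k base fuel P b = true →
    ∃ a' b', Good a' b' ∧ k a' b' = true := by
  induction fuel with
  | zero => intro P b _ _ h; exact absurd h (by simp [slotK])
  | succ n ih =>
    intro P b hle hg h
    have h1 : slotK W MW step k base (n + 1) P b = Bool.rec
      (step (Nat.land P MW) (Nat.shiftRight P W) (base - n) b (slotK W MW step k base n))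
      (k (base - n) b) (Nat.beq (Nat.land P MW) (nat_lit 0)) := rfl
    rw [h1] at h
    have e : base + 1 - (n + 1) = base - n := by omega
    rw [e] at hg
    cases hr : Nat.beq (Nat.land P MW) (nat_lit 0) with
    | true => rw [hr] at h; exact ⟨_, b, hg, h⟩
    | false =>
      rw [hr] at h
      obtain ⟨P', b', hg', h3⟩ := hs _ _ _ _ _ hg h
      have e2 : base - n + 1 = base + 1 - n := by omega
      rw [e2] at hg'
      exact ih _ _ (by omega) hg' h3

theorem chunkS_sound {W MW : ℕ} {step : StepT}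
    {Good : ℕ → ℕ → Prop} (hs : SoundStep step Good) (fm B d : ℕ) :
    ∀ c a b k, Good a b → chunkS W MW step fm B d c a b k = true → ∃ a' b', Good a' b' ∧ k a' b' = true := by
  induction d with
  | zero =>
    intro c a b k hg h
    have h1 : chunkS W MW step fm B 0 c a b k =
      N (Nat.add a fm) fun base => N b fun b' => slotK W MW step k base (Nat.succ fm) c b' := rfl
    rw [h1, N_eq, N_eq] at h
    have e0 : Nat.add a fm = a + fm := rfl
    rw [e0] at h
    refine slotK_sound hs k (a + fm) (Nat.succ fm) c b (by omega) ?_ h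
    have e : a + fm + 1 - Nat.succ fm = a := by omega
    rw [e]; exact hg
  | succ d ih =>
    intro c a b k hg h
    have h1 : chunkS W MW step fm B (d + 1) c a b k =
      N (Nat.land c (Nat.sub (Nat.pow (nat_lit 2) (Nat.mul B (Nat.pow (nat_lit 2) d))) (nat_lit 1)))
      fun lo => chunkS W MW step fm B d lo a b fun a' b' =>
        N (Nat.shiftRight c (Nat.mul B (Nat.pow (nat_lit 2) d))) fun hi =>
        chunkS W MW step fm B d hi a' b' k := rfl
    rw [h1, N_eq] at h
    obtain ⟨a', b', hg', h2⟩ := ih _ _ _ _ hg h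
    rw [N_eq] at h2
    exact ih _ _ _ _ hg' h2

theorem progS_sound {W MW : ℕ} {step : StepT}
    {Good : ℕ → ℕ → Prop} (hs : SoundStep step Good) (fm B d : ℕ) (cs : List ℕ) :
    ∀ a b k, Good a b → progS W MW step fm B d cs a b k = true → ∃ a' b', Good a' b' ∧ k a' b' = true := by
  induction cs with
  | nil => intro a b k hg h; exact ⟨a, b, hg, h⟩
  | cons c cs ih =>
    intro a b k hg h
    have h1 : progS W MW step fm B d (c :: cs) a b k =
      chunkS W MW step fm B d c a b (fun a b => progS W MW step fm B d cs a b k) := rfl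
    rw [h1] at h
    obtain ⟨a', b', hg', h2⟩ := chunkS_sound hs fm B d _ _ _ _ hg h
    exact ih _ _ _ hg' h2

/-! ### The deduction step -/

noncomputable def dedT (nN b : ℕ) (ih : ℕ → ℕ → Bool) (yb v rj cur P' acc : ℕ) : Bool :=
  Bool.rec false (ih P' b) (Nat.beq (Nat.add acc (Nat.add (Nat.sub (Nat.succ v) nN)
    (Nat.xor (Nat.add yb cur) (Nat.land rj (nat_lit 16777215))))) (nat_lit 0))

noncomputable def dedR (nN P j b : ℕ) (ih : ℕ → ℕ → Bool) (rj yb : ℕ) (w : WF) : Bool :=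
  w j (Nat.shiftRight rj (nat_lit 24)) P (nat_lit 0) (dedT nN b ih yb (Nat.shiftRight rj (nat_lit 24)) rj)

/-- deduce fact number `j` -/
noncomputable def dedS (S : ℕ → ℕ) (nN : ℕ) (rf : RF) (r P j b : ℕ) (ih : ℕ → ℕ → Bool) : Bool :=
  rf r (dedR nN P j b ih (S j))

/-- the program -/
noncomputable def dedProg (S : ℕ → ℕ) (nN W MW : ℕ) (rt : RS) (fm B d : ℕ) (cs : List ℕ) (j j' : ℕ) : Bool :=
  rsK S W MW rt fun rf => progS W MW (dedS S nN rf) fm B d cs j (nat_lit 0) fun a _ => Nat.beq a j'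

noncomputable def cloT (v b : ℕ) (ih : ℕ → ℕ → Bool) (c P' acc : ℕ) : Bool :=
  Bool.rec false (ih P' b) (Nat.beq (Nat.add acc (Nat.sub (Nat.succ c) v)) (nat_lit 0))

noncomputable def cloU (b : ℕ) (ih : ℕ → ℕ → Bool) (_c P' acc : ℕ) : Bool :=
  Bool.rec false (ih P' (Nat.succ b)) (Nat.beq acc (nat_lit 0))

/-- the closure step: nodes are processed in order, `cnt` live nodes so far -/
noncomputable def cloS (tot : ℕ) (wa ws : WF) (r P v cnt : ℕ) (ih : ℕ → ℕ → Bool) : Bool :=
  Bool.rec (wa tot v P (nat_lit 0) (cloT v cnt ih)) (ws tot v P (nat_lit 0) (cloU cnt ih)) (Nat.beq r (nat_lit 1))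

/-- the alias word -/
def aliasWd : Wd := .cons (nat_lit 0) (nat_lit 0) .nil

/-- the closure program -/
noncomputable def cloProg (S : ℕ → ℕ) (tot W MW : ℕ) (lets : Wd) (fm B d : ℕ) (cs : List ℕ)
    (v cnt v' cnt' : ℕ) : Bool :=
  wdK S W MW aliasWd fun wa => stK S W MW lets fun ws =>
    progS W MW (cloS tot wa ws) fm B d cs v cnt fun a b => Bool.rec false (Nat.beq b cnt') (Nat.beq a v')

section
variable {G : Type*} [Group G] {H : Subgroup G} {x : ℕ → G} {ρ : ℕ → G} {nN : ℕ} {S : ℕ → ℕ}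

theorem dedS_sound {ic : ℕ} (hic : ∀ y, y < 16 → x (il ic y) = (x y)⁻¹) {W MW : ℕ}
    (hnN : nN ≤ 1048576) {rt : RS} (hv : rt.Valid x ic) :
    SoundStep (dedS S nN (rsP S W MW rt)) (fun j _ => ∀ g, g < j → VF H x ρ nN S g) := by
  intro r P j b ih hg h
  obtain ⟨y, yb, u, ⟨hr, hy, hyb, hu⟩, h1⟩ := rsP_sound rt hv r _ h
  have h1' : wdP S W MW u j (Nat.shiftRight (S j) (nat_lit 24)) P (nat_lit 0)
    (dedT nN b ih yb (Nat.shiftRight (S j) (nat_lit 24)) (S j)) = true := h1
  obtain ⟨c, P', acc', hk, -, hs⟩ := wdP_sound (H := H) (ρ := ρ) hic hnN u hu _ _ _ _ _ h1'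
  unfold dedT at hk
  cases hb : Nat.beq (Nat.add acc' (Nat.add (Nat.sub (Nat.succ (Nat.shiftRight (S j) (nat_lit 24))) nN)
    (Nat.xor (Nat.add yb c) (Nat.land (S j) (nat_lit 16777215))))) (nat_lit 0)
  · rw [hb] at hk; exact absurd hk (by simp)
  rw [hb] at hk
  have h3 := Nat.eq_of_beq_eq_true hb
  rw [shr24, land24] at h3
  have h4 : acc' + ((S j / 16777216 + 1 - nN) + ((yb + c) ^^^ (S j % 16777216))) = 0 := h3
  have h5 : (yb + c) ^^^ (S j % 16777216) = 0 := by omega
  have h6 := Nat.xor_eq_zero_iff.1 h5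
  rw [shr24] at hs
  have hvlt : S j / 16777216 < nN := by omega
  obtain ⟨hR, hb2⟩ := hs (by omega) (by omega) hg
  refine ⟨P', b, ?_, hk⟩
  intro g hgj
  rcases Nat.lt_succ_iff_lt_or_eq.1 hgj with hlt | rfl
  · exact hg g hlt
  have hc : c < nN := by
    rcases hb2 with ⟨_, rfl⟩ | ⟨hb2, _⟩
    · exact hvlt
    · exact hb2
  rw [hyb] at h6
  have e1 : S g % 1048576 = c := by omega
  have e2 : S g / 1048576 % 16 = y := by omega
  refine ⟨hvlt, by rw [e1]; exact hc, ?_⟩
  rw [e1, e2, hr]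
  exact hR

theorem dedProg_sound {ic : ℕ} (hic : ∀ y, y < 16 → x (il ic y) = (x y)⁻¹) {W MW : ℕ}
    (hnN : nN ≤ 1048576) {rt : RS} (hv : rt.Valid x ic) {fm B d : ℕ} {cs : List ℕ} {j j' : ℕ}
    (h : dedProg S nN W MW rt fm B d cs j j' = true) (hg : ∀ g, g < j → VF H x ρ nN S g) :
    ∀ g, g < j' → VF H x ρ nN S g := by
  unfold dedProg at h
  rw [rsK_eq] at h
  obtain ⟨a, b, h1, h2⟩ := progS_sound (dedS_sound (ρ := ρ) (H := H) hic hnN hv) fm B d cs j _ _ hg h
  have := Nat.eq_of_beq_eq_true h2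
  subst this
  exact h1

/-- the invariant of the closure check -/
def Clo (H : Subgroup G) (x ρ : ℕ → G) (nN k : ℕ) (v cnt : ℕ) : Prop :=
  v ≤ 1048576 → ∃ L : List ℕ, L.length ≤ cnt ∧ ∀ u, u < v → (∃ w, w < u ∧ R H (ρ u) (ρ w)) ∨
    (u ∈ L ∧ ∀ y, 1 ≤ y → y ≤ k → ∃ w, w < nN ∧ R H (ρ u * x y) (ρ w))

theorem cloS_sound {ic : ℕ} (hic : ∀ y, y < 16 → x (il ic y) = (x y)⁻¹) (h0 : x 0 = 1) (hic0 : il ic 0 = 0)
    {W MW tot : ℕ} (hnN : nN ≤ 1048576) (hf : ∀ g, g < tot → VF H x ρ nN S g) {lets : Wd} (hl : lets.Ok ic)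
    {k : ℕ} (hk : ∀ y, 1 ≤ y → y ≤ k → y ∈ lets.lets) :
    SoundStep (cloS tot (wdP S W MW aliasWd) (stP S W MW lets)) (Clo H x ρ nN k) := by
  intro r P v cnt ih hg h
  unfold cloS at h
  cases hb : Nat.beq r (nat_lit 1)
  · rw [hb] at h
    have h' : wdP S W MW aliasWd tot v P (nat_lit 0) (cloT v cnt ih) = true := h
    obtain ⟨c, P', acc', hk', -, hs⟩ := wdP_sound (H := H) (ρ := ρ) (x := x) (nN := nN) hic hnN aliasWd
      (show (0 : ℕ) < 16 ∧ (nat_lit 0) = il ic 0 * 1048576 ∧ True from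
        ⟨by decide, by rw [hic0], trivial⟩) _ _ _ _ _ h'
    unfold cloT at hk'
    cases hb2 : Nat.beq (Nat.add acc' (Nat.sub (Nat.succ c) v)) (nat_lit 0)
    · rw [hb2] at hk'; exact absurd hk' (by simp)
    rw [hb2] at hk'
    have h3 := Nat.eq_of_beq_eq_true hb2
    have h4 : acc' + (c + 1 - v) = 0 := h3
    refine ⟨P', cnt, ?_, hk'⟩
    intro hle
    obtain ⟨L, hL, hLp⟩ := hg (by omega)
    refine ⟨L, hL, ?_⟩
    intro u hu
    rcases Nat.lt_succ_iff_lt_or_eq.1 hu with hlt | rfl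
    · exact hLp u hlt
    · left
      refine ⟨c, by omega, ?_⟩
      obtain ⟨hR, -⟩ := hs (by omega) (by omega) hf
      have e : ev x aliasWd.lets = 1 := by
        show ev x [0] = 1
        rw [ev_cons, ev_nil, mul_one]; exact h0
      rw [e, mul_one] at hR
      exact hR
  · rw [hb] at h
    have h' : stP S W MW lets tot v P (nat_lit 0) (cloU cnt ih) = true := h
    obtain ⟨P', acc', hk', -, hs⟩ := stP_sound (H := H) (ρ := ρ) (x := x) (nN := nN) hic lets hl _ _ _ _ _ h'
    unfold cloU at hk'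
    cases hb2 : Nat.beq acc' (nat_lit 0)
    · rw [hb2] at hk'; exact absurd hk' (by simp)
    rw [hb2] at hk'
    have h3 : acc' = 0 := Nat.eq_of_beq_eq_true hb2
    refine ⟨P', cnt + 1, ?_, hk'⟩
    intro hle
    obtain ⟨L, hL, hLp⟩ := hg (by omega)
    refine ⟨v :: L, by simpa using hL, ?_⟩
    intro u hu
    rcases Nat.lt_succ_iff_lt_or_eq.1 hu with hlt | rfl
    · rcases hLp u hlt with h4 | ⟨h4, h5⟩
      · exact Or.inl h4
      · exact Or.inr ⟨by simp [h4], h5⟩
    · right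
      exact ⟨by simp, fun y hy1 hy2 => hs h3 (by omega) hf y (hk y hy1 hy2)⟩

theorem cloProg_sound {ic : ℕ} (hic : ∀ y, y < 16 → x (il ic y) = (x y)⁻¹) (h0 : x 0 = 1) (hic0 : il ic 0 = 0)
    {W MW tot : ℕ} (hnN : nN ≤ 1048576) (hf : ∀ g, g < tot → VF H x ρ nN S g) {lets : Wd} (hl : lets.Ok ic)
    {k : ℕ} (hk : ∀ y, 1 ≤ y → y ≤ k → y ∈ lets.lets) {fm B d : ℕ} {cs : List ℕ} {v cnt v' cnt' : ℕ}
    (h : cloProg S tot W MW lets fm B d cs v cnt v' cnt' = true) (hg : Clo H x ρ nN k v cnt) :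
    Clo H x ρ nN k v' cnt' := by
  unfold cloProg at h
  rw [wdK_eq, stK_eq] at h
  obtain ⟨a, b, h1, h2⟩ := progS_sound (cloS_sound (ρ := ρ) (H := H) hic h0 hic0 hnN hf hl hk) fm B d cs
    v cnt _ hg h
  cases hb : Nat.beq a v'
  · rw [hb] at h2; exact absurd h2 (by simp)
  rw [hb] at h2
  have e1 := Nat.eq_of_beq_eq_true hb
  have e2 : b = cnt' := Nat.eq_of_beq_eq_true h2
  subst e1; subst e2
  exact h1

/-- a finite set of nodes covers the subgroup generated by the letters `1, …, k` -/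
theorem cover_of_clo {k n : ℕ} (h1 : ρ 0 = 1) (hnN0 : 0 < nN) (hnN : nN ≤ 1048576) (h : Clo H x ρ nN k nN n)
    (hinv : ∀ y, 1 ≤ y → y ≤ k → ∃ z, 1 ≤ z ∧ z ≤ k ∧ x z = (x y)⁻¹) :
    ∃ L : List ℕ, L.length ≤ n ∧
      ∀ g ∈ Subgroup.closure (x '' {y | 1 ≤ y ∧ y ≤ k}), ∃ u ∈ L, R H g (ρ u) := by
  obtain ⟨L, hL, hLp⟩ := h hnN
  refine ⟨L, hL, ?_⟩
  -- every node is equivalent to one in L
  have hrep : ∀ u, u < nN → ∃ u' ∈ L, R H (ρ u) (ρ u') ∧ ∀ y, 1 ≤ y → y ≤ k →
      ∃ w, w < nN ∧ R H (ρ u' * x y) (ρ w) := by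
    intro u
    induction u using Nat.strong_induction_on with
    | _ u ih =>
      intro hu
      rcases hLp u hu with ⟨w, hw, hR⟩ | ⟨h2, h3⟩
      · obtain ⟨u', hu', hR', h4⟩ := ih w hw (by omega)
        exact ⟨u', hu', hR.trans hR', h4⟩
      · exact ⟨u, h2, R.refl _, h3⟩
  intro g hg
  have key : ∃ u, u < nN ∧ R H g (ρ u) := by
    induction hg using Subgroup.closure_induction_right with
    | one => exact ⟨0, hnN0, by rw [h1]; exact R.refl _⟩
    | mul_right a ha b hb ih =>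
      obtain ⟨u, hu, hR⟩ := ih
      obtain ⟨y, ⟨hy1, hy2⟩, rfl⟩ := hb
      obtain ⟨u', _, hR', h4⟩ := hrep u hu
      obtain ⟨w, hw, hRw⟩ := h4 y hy1 hy2
      exact ⟨w, hw, ((hR.trans hR').mul_right _).trans hRw⟩
    | mul_inv_cancel a ha b hb ih =>
      obtain ⟨u, hu, hR⟩ := ih
      obtain ⟨y, ⟨hy1, hy2⟩, rfl⟩ := hb
      obtain ⟨z, hz1, hz2, hz⟩ := hinv y hy1 hy2
      obtain ⟨u', _, hR', h4⟩ := hrep u hu
      obtain ⟨w, hw, hRw⟩ := h4 z hz1 hz2
      rw [hz] at hRw
      exact ⟨w, hw, ((hR.trans hR').mul_right _).trans hRw⟩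
  obtain ⟨u, hu, hR⟩ := key
  obtain ⟨u', hu', hR', -⟩ := hrep u hu
  exact ⟨u', hu', hR.trans hR'⟩

theorem relIndex_le_of_cover {K : Subgroup G} {n : ℕ} (L : List ℕ) (hL : L.length ≤ n)
    (h : ∀ g ∈ K, ∃ u ∈ L, R H g (ρ u)) : H.relIndex K ≤ n ∧ H.relIndex K ≠ 0 := by
  classical
  have hs : ∀ q : K ⧸ H.subgroupOf K, ∃ u : Fin L.length, ∀ g : K, (g : K ⧸ H.subgroupOf K) = q →
      R H ((g : G)⁻¹) (ρ (L.get u)) := by
    intro q
    obtain ⟨g, rfl⟩ := QuotientGroup.mk_surjective q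
    obtain ⟨u, hu, hR⟩ := h (g : G)⁻¹ (K.inv_mem g.2)
    obtain ⟨i, hi⟩ := List.mem_iff_get.1 hu
    refine ⟨i, ?_⟩
    intro g' hg'
    rw [hi]
    have h1 : g'⁻¹ * g ∈ H.subgroupOf K := QuotientGroup.eq.1 hg'
    rw [Subgroup.mem_subgroupOf] at h1
    have h2 : R H ((g' : G)⁻¹) ((g : G)⁻¹) := by
      unfold R
      simpa using h1
    exact h2.trans hR
  choose f hf using hs
  have hinj : Function.Injective f := by
    intro q q' hqq
    obtain ⟨g, rfl⟩ := QuotientGroup.mk_surjective q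
    obtain ⟨g', rfl⟩ := QuotientGroup.mk_surjective q'
    have h1 := hf _ g rfl
    have h2 := hf _ g' rfl
    rw [hqq] at h1
    have h3 := h1.trans h2.symm
    refine QuotientGroup.eq.2 ?_
    rw [Subgroup.mem_subgroupOf]
    unfold R at h3
    simpa using h3
  have : Finite (K ⧸ H.subgroupOf K) := Finite.of_injective f hinj
  constructor
  · have h1 := Nat.card_le_card_of_injective f hinj
    rw [Nat.card_fin] at h1
    exact h1.trans hL
  · exact Subgroup.index_ne_zero_of_finite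

end

/-! ### Definitions and initial facts -/

/-- check the definition of node `w` -/
noncomputable def defC (S : ℕ → ℕ) (w : ℕ) : Bool :=
  Nat.beq (Nat.add (Nat.sub (Nat.succ (Nat.shiftRight (S w) (nat_lit 24))) w)
    (Nat.xor (Nat.land (S w) (nat_lit 1048575)) w)) (nat_lit 0)

/-- `f i` for all `lo ≤ i < lo + 2 ^ k`, `i < n` -/
noncomputable def rangeS (n : ℕ) (f : ℕ → Bool) (k : ℕ) : ℕ → Bool :=
  Nat.rec (motive := fun _ => ℕ → Bool) (fun lo => N lo fun lo => Bool.rec true (f lo) (Nat.blt lo n))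
    (fun k ih lo => Bool.rec true
      (Bool.rec false (ih (Nat.add lo (Nat.pow (nat_lit 2) k))) (ih lo)) (Nat.blt lo n)) k

theorem rangeS_sound (n : ℕ) (f : ℕ → Bool) (k : ℕ) : ∀ lo, rangeS n f k lo = true →
    ∀ i, lo ≤ i → i < lo + 2 ^ k → i < n → f i = true := by
  induction k with
  | zero =>
    intro lo h i h1 h2 h3
    have : i = lo := by
      have : 2 ^ 0 = 1 := rfl
      omega
    subst this
    have h4 : rangeS n f 0 i = N i fun lo => Bool.rec true (f lo) (Nat.blt lo n) := rfl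
    rw [h4, N_eq, blt_eq.2 h3] at h
    exact h
  | succ k ih =>
    intro lo h i h1 h2 h3
    have h4 : rangeS n f (k + 1) lo = Bool.rec true
      (Bool.rec false (rangeS n f k (Nat.add lo (Nat.pow (nat_lit 2) k))) (rangeS n f k lo)) (Nat.blt lo n) := rfl
    have h5 : Nat.blt lo n = true := blt_eq.2 (by omega)
    rw [h4, h5] at h
    have h6 : (Bool.rec false (rangeS n f k (Nat.add lo (Nat.pow (nat_lit 2) k))) (rangeS n f k lo) : Bool) = true := h
    cases hb : rangeS n f k lo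
    · rw [hb] at h6; exact absurd h6 (by simp)
    · rw [hb] at h6
      have h7 : rangeS n f k (lo + 2 ^ k) = true := h6
      by_cases hi : i < lo + 2 ^ k
      · exact ih lo hb i h1 hi h3
      · exact ih _ h7 i (by omega) (by rw [pow_succ] at h2; omega) h3

/-- initial facts numbered from `j` -/
noncomputable def initC (S : ℕ → ℕ) (L : List ℕ) (j : ℕ) : Bool :=
  List.rec (motive := fun _ => ℕ → Bool) (fun _ => true)
    (fun s _ ih j => Bool.rec false (N (Nat.succ j) ih) (Nat.beq (S j) (Nat.mul s (nat_lit 1048576)))) L j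

/-- coset representatives for the nodes -/
noncomputable def rho {G : Type*} [Group G] (x : ℕ → G) (S : ℕ → ℕ) (w : ℕ) : G :=
  Nat.strongRec (motive := fun _ => G) (fun w ih => if h : S w / 16777216 < w then
    ih (S w / 16777216) h * x (S w / 1048576 % 16) else 1) w

section
variable {G : Type*} [Group G] {H : Subgroup G} {x : ℕ → G} {nN : ℕ} {S : ℕ → ℕ}

theorem rho_eq (w : ℕ) : rho x S w = if S w / 16777216 < w then
    rho x S (S w / 16777216) * x (S w / 1048576 % 16) else 1 := by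
  unfold rho
  rw [Nat.strongRec_eq]
  split_ifs <;> rfl

theorem rho_zero : rho x S 0 = 1 := by rw [rho_eq]; simp

theorem defs_sound {n k : ℕ} (h : rangeS n (defC S) k (nat_lit 1) = true) (hk : n ≤ 1 + 2 ^ k)
    (hn : n ≤ nN) (w : ℕ) (hw : 1 ≤ w) (hwn : w < n) : VF H x (rho x S) nN S w := by
  have h1 := rangeS_sound n _ k _ h w hw (by have : (nat_lit 1 : ℕ) = 1 := rfl
                                             omega) hwn
  have h2 := Nat.eq_of_beq_eq_true h1
  rw [shr24, land20] at h2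
  have h3 : (S w / 16777216 + 1 - w) + ((S w % 1048576) ^^^ w) = 0 := h2
  have h4 : (S w % 1048576) ^^^ w = 0 := by omega
  have h5 := Nat.xor_eq_zero_iff.1 h4
  refine ⟨by omega, by omega, ?_⟩
  rw [h5, rho_eq w, if_pos (by omega)]
  exact R.refl _

theorem initC_sound {L : List ℕ} (hL : ∀ s ∈ L, s < 16 ∧ x s ∈ H) (hnN : 0 < nN) :
    ∀ (j : ℕ), initC S L j = true → ∀ i, j ≤ i → i < j + L.length → VF H x (rho x S) nN S i := by
  induction L with
  | nil => intro j _ i h1 h2; simp at h2; omega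
  | cons s L ih =>
    intro j h i h1 h2
    have h3 : initC S (s :: L) j = Bool.rec false (N (Nat.succ j) (initC S L))
      (Nat.beq (S j) (Nat.mul s (nat_lit 1048576))) := rfl
    rw [h3] at h
    cases hb : Nat.beq (S j) (Nat.mul s (nat_lit 1048576))
    · rw [hb] at h; exact absurd h (by simp)
    rw [hb] at h
    have h4 : N (Nat.succ j) (initC S L) = true := h
    rw [N_eq] at h4
    by_cases hij : i = j
    · subst hij
      have h5 := Nat.eq_of_beq_eq_true hb
      have h6 : Nat.mul s (nat_lit 1048576) = s * 1048576 := rfl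
      rw [h6] at h5
      obtain ⟨hs, hsH⟩ := hL s (by simp)
      have e1 : S i / 16777216 = 0 := by omega
      have e2 : S i % 1048576 = 0 := by omega
      have e3 : S i / 1048576 % 16 = s := by omega
      refine ⟨by omega, by omega, ?_⟩
      rw [e1, e2, e3, rho_zero]
      unfold R
      simpa using hsH
    · exact ih (fun z hz => hL z (by simp [hz])) (j + 1) h4 i (by omega) (by simp at h2; omega)

/-- all the facts up to the end of the initial ones are valid (fact `0` must be trivial) -/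
theorem start_sound {L : List ℕ} {kk : ℕ} (hL : ∀ s ∈ L, s < 16 ∧ x s ∈ H) (h0 : x 0 = 1) (hnN : 0 < nN)
    (hS0 : S 0 = 0) (hd : rangeS nN (defC S) kk (nat_lit 1) = true) (hk : nN ≤ 1 + 2 ^ kk)
    (hi : initC S L nN = true) :
    ∀ g, g < nN + L.length → VF H x (rho x S) nN S g := by
  intro g hg
  by_cases h : g < nN
  · by_cases h1 : g = 0
    · subst h1
      refine ⟨by rw [hS0]; simpa using hnN, by rw [hS0]; simpa using hnN, ?_⟩
      rw [hS0]
      simp only [Nat.zero_div, Nat.zero_mod, h0, mul_one]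
      exact R.refl _
    · exact defs_sound hd hk le_rfl g (by omega) h
  · exact initC_sound hL hnN nN hi g (by omega) hg

end

/-! ### The final statement -/

section
variable {G : Type*} [Group G] {x : ℕ → G}

theorem relsAll_ok {ic : ℕ} (hic : ∀ y, y < 16 → x (il ic y) = (x y)⁻¹) {rels : List (List ℕ)}
    (hlt : (rels.all fun w => w.all fun y => Nat.blt y 16) = true) (h : ∀ w ∈ rels, ev x w = 1) :
    ∀ w ∈ rels ++ rels.map (invw ic), ev x w = 1 := by
  intro w hw
  rw [List.mem_append, List.mem_map] at hw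
  rcases hw with hw | ⟨u, hu, rfl⟩
  · exact h w hw
  · rw [ev_invw hic u, h u hu, inv_one]
    intro y hy
    rw [List.all_eq_true] at hlt
    have := hlt u hu
    rw [List.all_eq_true] at this
    exact blt_eq.1 (this y hy)

/-- boolean version of the hypotheses on the letters -/
def letsOk (ic k : ℕ) (lets : Wd) : Bool :=
  lets.chk ic && (lets.lets == (List.range k).map (· + 1)) && (il ic 0 == 0) &&
    (List.range k).all fun i => Nat.blt 0 (il ic (i + 1)) && Nat.ble (il ic (i + 1)) k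

theorem bound_of {H : Subgroup G} {S : ℕ → ℕ} {ic nN n k tot W MW kk fuel B d : ℕ} {L : List ℕ}
    {cs : List ℕ} {lets : Wd}
    (hic : ∀ y, y < 16 → x (il ic y) = (x y)⁻¹) (h0 : x 0 = 1) (hL : ∀ s ∈ L, x s ∈ H)
    (hL16 : (L.all fun s => Nat.blt s 16) = true) (hnN0 : Nat.blt 0 nN = true)
    (hnN : Nat.ble nN 1048576 = true) (hk : Nat.ble nN (1 + 2 ^ kk) = true) (hk16 : Nat.blt k 16 = true)
    (hlets : letsOk ic k lets = true)
    (hS0 : S 0 = 0) (hd : rangeS nN (defC S) kk (nat_lit 1) = true)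
    (hi : initC S L nN = true)
    (hprog : (∀ g, g < nN + L.length → VF H x (rho x S) nN S g) → ∀ g, g < tot → VF H x (rho x S) nN S g)
    (hclo : cloProg S tot W MW lets fuel B d cs 0 0 nN n = true) :
    H.relIndex (Subgroup.closure (x '' {y | 1 ≤ y ∧ y ≤ k})) ≤ n ∧
      H.relIndex (Subgroup.closure (x '' {y | 1 ≤ y ∧ y ≤ k})) ≠ 0 := by
  have hnN' : nN ≤ 1048576 := Nat.le_of_ble_eq_true hnN
  have hnN0' : 0 < nN := blt_eq.1 hnN0
  simp only [letsOk, Bool.and_eq_true, beq_iff_eq, List.all_eq_true] at hlets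
  obtain ⟨⟨⟨h1, h2⟩, h3⟩, h4⟩ := hlets
  rw [List.all_eq_true] at hL16
  have hst := start_sound (H := H) (x := x) (S := S) (nN := nN) (L := L) (kk := kk)
    (fun s hs => ⟨blt_eq.1 (hL16 s hs), hL s hs⟩) h0 hnN0' hS0 hd (Nat.le_of_ble_eq_true hk) hi
  have hf := hprog hst
  have hc := cloProg_sound (H := H) (ρ := rho x S) (k := k) hic h0 h3 hnN' hf (Wd.ok_of_chk h1)
    (fun y hy1 hy2 => by
      rw [h2, List.mem_map]
      exact ⟨y - 1, by rw [List.mem_range]; omega, by omega⟩) hclo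
    (fun _ => ⟨[], by simp, fun u hu => absurd hu (by omega)⟩)
  obtain ⟨L', hL', hcov⟩ := cover_of_clo rho_zero hnN0' hnN' hc (fun y hy1 hy2 => by
    have h5 := h4 (y - 1) (by rw [List.mem_range]; omega)
    have e : y - 1 + 1 = y := by omega
    rw [e] at h5
    exact ⟨il ic y, blt_eq.1 h5.1, Nat.le_of_ble_eq_true h5.2,
      hic y (lt_of_le_of_lt hy2 (blt_eq.1 hk16))⟩)
  exact relIndex_le_of_cover L' hL' hcov

/-- read a word at node `0` -/
noncomputable def wordProg (S : ℕ → ℕ) (tot W MW : ℕ) (u : Wd) (P : ℕ) : Bool :=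
  wdK S W MW u fun w => w tot (nat_lit 0) P (nat_lit 0) fun c _ acc => Nat.beq (Nat.add c acc) (nat_lit 0)

/-- reading a word: the word lies in `H` -/
theorem word_of {H : Subgroup G} {S : ℕ → ℕ} {ic nN tot W MW kk P : ℕ} {L : List ℕ} {u : Wd}
    (hic : ∀ y, y < 16 → x (il ic y) = (x y)⁻¹) (h0 : x 0 = 1) (hL : ∀ s ∈ L, x s ∈ H)
    (hL16 : (L.all fun s => Nat.blt s 16) = true) (hnN0 : Nat.blt 0 nN = true)
    (hnN : Nat.ble nN 1048576 = true) (hk : Nat.ble nN (1 + 2 ^ kk) = true)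
    (hS0 : S 0 = 0) (hd : rangeS nN (defC S) kk (nat_lit 1) = true)
    (hi : initC S L nN = true)
    (hprog : (∀ g, g < nN + L.length → VF H x (rho x S) nN S g) → ∀ g, g < tot → VF H x (rho x S) nN S g)
    (hu : u.chk ic = true)
    (h : wordProg S tot W MW u P = true) : ev x u.lets ∈ H := by
  have hnN' : nN ≤ 1048576 := Nat.le_of_ble_eq_true hnN
  have hnN0' : 0 < nN := blt_eq.1 hnN0
  rw [List.all_eq_true] at hL16
  have hst := start_sound (H := H) (x := x) (S := S) (nN := nN) (L := L) (kk := kk)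
    (fun s hs => ⟨blt_eq.1 (hL16 s hs), hL s hs⟩) h0 hnN0' hS0 hd (Nat.le_of_ble_eq_true hk) hi
  unfold wordProg at h
  rw [wdK_eq] at h
  obtain ⟨c, P', acc', hk', -, hs⟩ := wdP_sound (H := H) (ρ := rho x S) hic hnN' u (Wd.ok_of_chk hu) _ _ _ _ _ h
  have h2 : c + acc' = 0 := Nat.eq_of_beq_eq_true hk'
  obtain ⟨hR, -⟩ := hs (by omega) (by decide) (hprog hst)
  have hc : c = 0 := by omega
  subst hc
  have e : rho x S (nat_lit 0) = 1 := rho_zero
  rw [e, one_mul] at hR
  unfold R at hR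
  simpa using hR

end

end Cfsg.Agent.H8.CS
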