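import Cfsg.Agent.H8_Act
import Cfsg.Agent.H8_CS

/-!
Packed permutation tables: tracing words at points; elements of a permutation group are represented by the images of a
base of three points.
-/

set_option autoImplicit false

namespace Cfsg.Agent.H20.PT

open Cfsg.Agent.H8.CE Cfsg.Agent.H8.CS Cfsg.Agent.H8.Net Cfsg.Agent.H8.Act

/-- lookup in a packed table -/
noncomputable def look (k m t p : ℕ) : ℕ := Nat.land (Nat.shiftRight t (Nat.mul k p)) m

/-! ### Tables from networks -/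

/-- add one bit -/
noncomputable def bitK (W p acc : ℕ) : ℕ := Nat.add (Nat.add acc acc) (Nat.land (Nat.shiftRight W p) (nat_lit 1))

noncomputable def compK (p : ℕ) (Ws : List ℕ) : ℕ → (ℕ → Bool) → Bool :=
  List.rec (motive := fun _ => ℕ → (ℕ → Bool) → Bool) (fun acc c => c acc)
    (fun W _ ih acc c => N (bitK W p acc) fun a => ih a c) Ws

noncomputable def compP (p : ℕ) : List ℕ → ℕ → ℕ
  | [], acc => acc
  | W :: Ws, acc => compP p Ws (bitK W p acc)

theorem compK_eq (p : ℕ) (Ws : List ℕ) : ∀ (acc : ℕ) (c : ℕ → Bool), compK p Ws acc c = c (compP p Ws acc) := by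
  induction Ws with
  | nil => intro acc c; rfl
  | cons W Ws ih =>
    intro acc c
    have h1 : compK p (W :: Ws) acc c = N (bitK W p acc) fun a => compK p Ws a c := rfl
    rw [h1, N_eq, ih]; rfl

/-- the planes of a network, low bits first in the recursion, top bit first in the list -/
noncomputable def plK (nt : Nt) (n k : ℕ) (j : ℕ) : List ℕ → (List ℕ → Bool) → Bool :=
  Nat.rec (motive := fun _ => List ℕ → (List ℕ → Bool) → Bool) (fun l c => c l)
    (fun b ih l c => ih l fun l' => N (nt.ap (lab n k b)) fun W => c (W :: l')) j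

noncomputable def plP (nt : Nt) (n k : ℕ) : ℕ → List ℕ
  | 0 => []
  | b + 1 => nt.ap (lab n k b) :: plP nt n k b

theorem plK_eq (nt : Nt) (n k : ℕ) (j : ℕ) : ∀ (c : List ℕ → Bool), plK nt n k j [] c = c (plP nt n k j) := by
  induction j with
  | zero => intro c; rfl
  | succ b ih =>
    intro c
    have h1 : plK nt n k (b + 1) [] c = plK nt n k b [] fun l' => N (nt.ap (lab n k b)) fun W => c (W :: l') := rfl
    rw [h1, ih, N_eq]; rfl

/-- check of a table -/
noncomputable def chkTab (nt : Nt) (t n k m kk : ℕ) : Bool :=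
  plK nt n k k [] fun Ws => rangeS n (fun p => compK p Ws (nat_lit 0) fun v => Nat.beq v (look k m t p)) kk (nat_lit 0)

theorem compP_spec {nt : Nt} (hok : nt.Ok) {n k : ℕ} (hn : n ≤ 2 ^ k) (p : ℕ) (hp : nt.pos p < n) (j : ℕ) :
    ∀ acc, compP p (plP nt n k j) acc = acc * 2 ^ j + nt.pos p % 2 ^ j := by
  induction j with
  | zero => intro acc; simp [plP, compP, Nat.mod_one]
  | succ b ih =>
    intro acc
    rw [plP, compP, ih]
    have h1 : bitK (nt.ap (lab n k b)) p acc = acc + acc + ((nt.pos p).testBit b).toNat := by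
      have h2 : ((nt.ap (lab n k b)) >>> p) &&& 1 = ((nt.ap (lab n k b)).testBit p).toNat := by
        rw [Nat.and_one_is_mod, Nat.testBit_eq_decide_div_mod_eq, Nat.shiftRight_eq_div_pow]
        rcases Nat.mod_two_eq_zero_or_one ((nt.ap (lab n k b)) / 2 ^ p) with h | h <;> simp [h]
      have h3 : bitK (nt.ap (lab n k b)) p acc = acc + acc + (((nt.ap (lab n k b)) >>> p) &&& 1) := rfl
      rw [h3, h2, Nt.ap_testBit hok, lab_testBit hn]
      simp [hp]
    rw [h1]
    have h4 : nt.pos p % 2 ^ (b + 1) = nt.pos p % 2 ^ b + 2 ^ b * (((nt.pos p).testBit b).toNat) := by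
      rw [Nat.mod_pow_succ, Nat.testBit_eq_decide_div_mod_eq]
      rcases Nat.mod_two_eq_zero_or_one (nt.pos p / 2 ^ b) with h | h <;> simp [h]
    rw [h4, pow_succ]
    ring

theorem chkTab_sound {nt : Nt} (hok : nt.Ok) {t n k m kk : ℕ} (hn : n ≤ 2 ^ k) (hpos : ∀ p, p < n → nt.pos p < n)
    (hkk : n ≤ 2 ^ kk) (h : chkTab nt t n k m kk = true) (p : ℕ) (hp : p < n) : look k m t p = nt.pos p := by
  unfold chkTab at h
  rw [plK_eq] at h
  have h1 := rangeS_sound n _ kk _ h p (Nat.zero_le _) (by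
    have : (nat_lit 0 : ℕ) = 0 := rfl
    omega) hp
  rw [compK_eq] at h1
  have h2 := Nat.eq_of_beq_eq_true h1
  rw [compP_spec hok hn p (hpos p hp)] at h2
  have h3 : nt.pos p % 2 ^ k = nt.pos p := Nat.mod_eq_of_lt (lt_of_lt_of_le (hpos p hp) hn)
  rw [h3] at h2
  have h4 : (nat_lit 0 : ℕ) * 2 ^ k + nt.pos p = nt.pos p := by
    have : (nat_lit 0 : ℕ) = 0 := rfl
    rw [this]; ring
  rw [← h2, h4]

/-! ### Tracing -/

noncomputable def trK (k m : ℕ) (tf : ℕ → ℕ) (w : List ℕ) : ℕ → (ℕ → Bool) → Bool :=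
  List.rec (motive := fun _ => ℕ → (ℕ → Bool) → Bool) (fun p c => c p)
    (fun y _ ih p c => N (look k m (tf y) p) fun q => ih q c) w

noncomputable def trP (k m : ℕ) (tf : ℕ → ℕ) : List ℕ → ℕ → ℕ
  | [], p => p
  | y :: w, p => trP k m tf w (look k m (tf y) p)

theorem trK_eq (k m : ℕ) (tf : ℕ → ℕ) (w : List ℕ) : ∀ (p : ℕ) (c : ℕ → Bool), trK k m tf w p c = c (trP k m tf w p) := by
  induction w with
  | nil => intro p c; rfl
  | cons y w ih =>
    intro p c
    have h1 : trK k m tf (y :: w) p c = N (look k m (tf y) p) fun q => trK k m tf w q c := rfl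
    rw [h1, N_eq, ih]; rfl

/-- triples of points -/
inductive T3 : Type
  | mk (p q r : ℕ) : T3

def T3.a : T3 → ℕ
  | .mk p _ _ => p
def T3.b : T3 → ℕ
  | .mk _ q _ => q
def T3.c : T3 → ℕ
  | .mk _ _ r => r

/-- the word maps the first triple to the second -/
noncomputable def eq3 (k m : ℕ) (tf : ℕ → ℕ) (w : List ℕ) (D E : T3) : Bool :=
  T3.rec (motive := fun _ => Bool) (fun p q r => T3.rec (motive := fun _ => Bool) (fun p' q' r' =>
    trK k m tf w p fun a => Bool.rec false (trK k m tf w q fun b => Bool.rec false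
      (trK k m tf w r fun c => Nat.beq c r') (Nat.beq b q')) (Nat.beq a p')) E) D

theorem eq3_sound {k m : ℕ} {tf : ℕ → ℕ} {w : List ℕ} {D E : T3} (h : eq3 k m tf w D E = true) :
    trP k m tf w D.a = E.a ∧ trP k m tf w D.b = E.b ∧ trP k m tf w D.c = E.c := by
  cases D with | mk p q r =>
  cases E with | mk p' q' r' =>
  have h1 : (trK k m tf w p fun a => Bool.rec false (trK k m tf w q fun b => Bool.rec false
      (trK k m tf w r fun c => Nat.beq c r') (Nat.beq b q')) (Nat.beq a p')) = true := h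
  rw [trK_eq] at h1
  cases hb : Nat.beq (trP k m tf w p) p'
  · rw [hb] at h1; exact absurd h1 (by simp)
  rw [hb] at h1
  have h2 : (trK k m tf w q fun b => Bool.rec false
      (trK k m tf w r fun c => Nat.beq c r') (Nat.beq b q')) = true := h1
  rw [trK_eq] at h2
  cases hb2 : Nat.beq (trP k m tf w q) q'
  · rw [hb2] at h2; exact absurd h2 (by simp)
  rw [hb2] at h2
  have h3 : (trK k m tf w r fun c => Nat.beq c r') = true := h2
  rw [trK_eq] at h3
  exact ⟨Nat.eq_of_beq_eq_true hb, Nat.eq_of_beq_eq_true hb2, Nat.eq_of_beq_eq_true h3⟩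

/-- the word moves the point `p` to `q` -/
noncomputable def ptK (k m : ℕ) (tf : ℕ → ℕ) (w : List ℕ) (p q : ℕ) : Bool := trK k m tf w p fun a => Nat.beq a q

theorem ptK_iff {k m : ℕ} {tf : ℕ → ℕ} {w : List ℕ} {p q : ℕ} : ptK k m tf w p q = true ↔ trP k m tf w p = q := by
  unfold ptK
  rw [trK_eq]
  exact ⟨fun h => Nat.eq_of_beq_eq_true h, fun h => by rw [h]; exact Nat.beq_refl q⟩

section
variable {G : Type*} [Group G] {n k m : ℕ} {φ : G →* Equiv.Perm (Fin n)} {X : ℕ → G} {tf : ℕ → ℕ}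

/-- compatibility of tables with a homomorphism -/
def TC (φ : G →* Equiv.Perm (Fin n)) (X : ℕ → G) (k m : ℕ) (tf : ℕ → ℕ) : Prop :=
  ∀ y, ∀ i : Fin n, ((((φ (X y))⁻¹ : Equiv.Perm (Fin n)) i : Fin n) : ℕ) = look k m (tf y) i

theorem trP_spec (h : TC φ X k m tf) : ∀ (w : List ℕ) (g : G) (i : Fin n) (p : ℕ),
    ((((φ g)⁻¹ : Equiv.Perm (Fin n)) i : Fin n) : ℕ) = p →
    ((((φ (g * ev X w))⁻¹ : Equiv.Perm (Fin n)) i : Fin n) : ℕ) = trP k m tf w p
  | [], g, i, p, hp => by rw [ev_nil, mul_one]; exact hp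
  | y :: w, g, i, p, hp => by
    rw [ev_cons, ← mul_assoc]
    refine trP_spec h w (g * X y) i _ ?_
    have e : ((φ (g * X y))⁻¹ : Equiv.Perm (Fin n)) i = ((φ (X y))⁻¹ : Equiv.Perm (Fin n)) (((φ g)⁻¹ : Equiv.Perm (Fin n)) i) := by
      rw [map_mul, mul_inv_rev]; rfl
    rw [e, h y, hp]

variable (φ) in
/-- the element `g` is represented by the triple `D` -/
def El (b : Fin n × Fin n × Fin n) (D : T3) (g : G) : Prop :=
  ((((φ g)⁻¹ : Equiv.Perm (Fin n)) b.1 : Fin n) : ℕ) = D.a ∧ ((((φ g)⁻¹ : Equiv.Perm (Fin n)) b.2.1 : Fin n) : ℕ) = D.b ∧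
    ((((φ g)⁻¹ : Equiv.Perm (Fin n)) b.2.2 : Fin n) : ℕ) = D.c

variable (φ) in
/-- three points form a base -/
def Base (b : Fin n × Fin n × Fin n) : Prop := ∀ g : G, φ g b.1 = b.1 → φ g b.2.1 = b.2.1 → φ g b.2.2 = b.2.2 → g = 1

/-- the triple of the base -/
def bT (b : Fin n × Fin n × Fin n) : T3 := .mk b.1 b.2.1 b.2.2

theorem El.one (b : Fin n × Fin n × Fin n) : El φ b (bT b) 1 := by
  unfold El
  rw [map_one, inv_one]
  exact ⟨rfl, rfl, rfl⟩

theorem El.mul (h : TC φ X k m tf) {b : Fin n × Fin n × Fin n} {D E : T3} {g : G} (hg : El φ b D g) {w : List ℕ}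
    (he : eq3 k m tf w D E = true) : El φ b E (g * ev X w) := by
  obtain ⟨h1, h2, h3⟩ := eq3_sound he
  exact ⟨(trP_spec h w g _ _ hg.1).trans h1, (trP_spec h w g _ _ hg.2.1).trans h2, (trP_spec h w g _ _ hg.2.2).trans h3⟩

theorem El.word (h : TC φ X k m tf) {b : Fin n × Fin n × Fin n} {E : T3} {w : List ℕ}
    (he : eq3 k m tf w (bT b) E = true) : El φ b E (ev X w) := by
  have := (El.one (φ := φ) b).mul h he
  rwa [one_mul] at this

theorem El.ext {b : Fin n × Fin n × Fin n} (hb : Base φ b) {D : T3} {g g' : G} (hg : El φ b D g) (hg' : El φ b D g') : g = g' := by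
  have key : ∀ i : Fin n, ((((φ g)⁻¹ : Equiv.Perm (Fin n)) i : Fin n) : ℕ) = ((((φ g')⁻¹ : Equiv.Perm (Fin n)) i : Fin n) : ℕ) →
      φ (g' * g⁻¹) i = i := by
    intro i hi
    have h1 := Fin.ext hi
    rw [map_mul, map_inv, Equiv.Perm.mul_apply, h1]
    exact (φ g').apply_symm_apply i
  have h2 := hb (g' * g⁻¹) (key _ (hg.1.trans hg'.1.symm)) (key _ (hg.2.1.trans hg'.2.1.symm)) (key _ (hg.2.2.trans hg'.2.2.symm))
  exact (mul_inv_eq_one.1 h2).symm

theorem El.uniq {b : Fin n × Fin n × Fin n} {D E : T3} {g : G} (hg : El φ b D g) (hg' : El φ b E g) : D = E := by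
  cases D with | mk p q r =>
  cases E with | mk p' q' r' =>
  obtain ⟨h1, h2, h3⟩ := hg
  obtain ⟨h1', h2', h3'⟩ := hg'
  have e1 : p = p' := h1.symm.trans h1'
  have e2 : q = q' := h2.symm.trans h2'
  have e3 : r = r' := h3.symm.trans h3'
  rw [e1, e2, e3]

/-- equality of two words -/
noncomputable def eqP (k m : ℕ) (tf : ℕ → ℕ) (b : T3) (u w : List ℕ) : Bool :=
  T3.rec (motive := fun _ => Bool) (fun p q r =>
    trK k m tf u p fun a => trK k m tf w p fun a' => Bool.rec false (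
    trK k m tf u q fun b => trK k m tf w q fun b' => Bool.rec false (
    trK k m tf u r fun c => trK k m tf w r fun c' => Nat.beq c c') (Nat.beq b b')) (Nat.beq a a')) b

theorem eqP_sound (h : TC φ X k m tf) {b : Fin n × Fin n × Fin n} (hb : Base φ b) {u w : List ℕ}
    (he : eqP k m tf (bT b) u w = true) : ev X u = ev X w := by
  have h1 : (trK k m tf u b.1 fun a => trK k m tf w b.1 fun a' => Bool.rec false (
    trK k m tf u b.2.1 fun d => trK k m tf w b.2.1 fun d' => Bool.rec false (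
    trK k m tf u b.2.2 fun c => trK k m tf w b.2.2 fun c' => Nat.beq c c') (Nat.beq d d')) (Nat.beq a a')) = true := he
  simp only [trK_eq] at h1
  cases hb1 : Nat.beq (trP k m tf u b.1) (trP k m tf w b.1)
  · rw [hb1] at h1; exact absurd h1 (by simp)
  rw [hb1] at h1
  have h2 : (Bool.rec false (Nat.beq (trP k m tf u b.2.2) (trP k m tf w b.2.2))
    (Nat.beq (trP k m tf u b.2.1) (trP k m tf w b.2.1)) : Bool) = true := h1
  cases hb2 : Nat.beq (trP k m tf u b.2.1) (trP k m tf w b.2.1)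
  · rw [hb2] at h2; exact absurd h2 (by simp)
  rw [hb2] at h2
  have h3 : Nat.beq (trP k m tf u b.2.2) (trP k m tf w b.2.2) = true := h2
  have e1 := Nat.eq_of_beq_eq_true hb1
  have e2 := Nat.eq_of_beq_eq_true hb2
  have e3 := Nat.eq_of_beq_eq_true h3
  have o : ∀ i : Fin n, ((((φ (1 : G))⁻¹ : Equiv.Perm (Fin n)) i : Fin n) : ℕ) = i := by
    intro i; rw [map_one, inv_one]; rfl
  have s : ∀ (w : List ℕ) (i : Fin n), ((((φ (ev X w))⁻¹ : Equiv.Perm (Fin n)) i : Fin n) : ℕ) = trP k m tf w i := by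
    intro w i
    have := trP_spec h w 1 i _ (o i)
    rwa [one_mul] at this
  exact El.ext hb (D := .mk (trP k m tf w b.1) (trP k m tf w b.2.1) (trP k m tf w b.2.2))
    ⟨(s u _).trans e1, (s u _).trans e2, (s u _).trans e3⟩ ⟨s w _, s w _, s w _⟩

/-- a word that moves a point is not trivial -/
theorem ne_one_of_pt (h : TC φ X k m tf) {w : List ℕ} (i : Fin n) (hi : ptK k m tf w i i = false) : ev X w ≠ 1 := by
  intro he
  have o : ((((φ (1 : G))⁻¹ : Equiv.Perm (Fin n)) i : Fin n) : ℕ) = i := by rw [map_one, inv_one]; rfl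
  have h1 := trP_spec h w 1 i _ o
  rw [one_mul, he] at h1
  rw [o] at h1
  have h2 : ptK k m tf w i i = true := ptK_iff.2 h1.symm
  rw [hi] at h2
  exact absurd h2 (by simp)

/-! ### Groups given by lists -/

/-- check of a list group: `Ds` elements, `gs` generators, `T` multiplication by the generators -/
noncomputable def lgK (k m : ℕ) (tf : ℕ → ℕ) (gs : List (List ℕ)) (Ds : List T3) (T : List (List ℕ)) : Bool :=
  (List.range Ds.length).all fun i => (List.range gs.length).all fun g =>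
    Nat.blt ((T.getD i []).getD g 0) Ds.length &&
      eq3 k m tf (gs.getD g []) (Ds.getD i (.mk 0 0 0)) (Ds.getD ((T.getD i []).getD g 0) (.mk 0 0 0))

/-- spanning tree: `par` lists (parent, generator) -/
def lgP (gs : List (List ℕ)) (Ds : List T3) (T : List (List ℕ)) (par : List (ℕ × ℕ)) : Bool :=
  (List.range Ds.length).all fun i => i == 0 || (Nat.blt (par.getD i (0, 0)).1 i && Nat.blt (par.getD i (0, 0)).2 gs.length &&
    (T.getD (par.getD i (0, 0)).1 []).getD (par.getD i (0, 0)).2 0 == i)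

deriving instance DecidableEq for T3

/-- subgroup generated by words -/
def clw (X : ℕ → G) (gs : List (List ℕ)) : Subgroup G := Subgroup.closure {x | ∃ g ∈ gs, x = ev X g}

theorem lg_mem (h : TC φ X k m tf) {b : Fin n × Fin n × Fin n} {gs : List (List ℕ)} {Ds : List T3}
    {T : List (List ℕ)} {par : List (ℕ × ℕ)} (hK : lgK k m tf gs Ds T = true) (hP : lgP gs Ds T par = true)
    (h0 : Ds.getD 0 (.mk 0 0 0) = bT b) : ∀ i, i < Ds.length → ∃ s ∈ clw X gs, El φ b (Ds.getD i (.mk 0 0 0)) s := by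
  intro i
  induction i using Nat.strong_induction_on with
  | _ i ih =>
    intro hi
    have h1 := List.all_eq_true.1 hP i (List.mem_range.2 hi)
    simp only [Bool.or_eq_true, beq_iff_eq, Bool.and_eq_true] at h1
    rcases h1 with rfl | ⟨⟨h2, h3⟩, h4⟩
    · exact ⟨1, one_mem _, by rw [h0]; exact El.one b⟩
    · have h2' : (par.getD i (0, 0)).1 < i := blt_eq.1 h2
      have h3' : (par.getD i (0, 0)).2 < gs.length := blt_eq.1 h3
      obtain ⟨s, hs, he⟩ := ih _ h2' (by omega)
      have h5 := List.all_eq_true.1 (List.all_eq_true.1 hK _ (List.mem_range.2 (show (par.getD i (0, 0)).1 < Ds.length by omega))) _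
        (List.mem_range.2 h3')
      rw [Bool.and_eq_true, h4] at h5
      refine ⟨s * ev X (gs.getD (par.getD i (0, 0)).2 []), mul_mem hs (Subgroup.subset_closure ⟨_, ?_, rfl⟩), he.mul h h5.2⟩
      rw [List.getD_eq_getElem _ _ h3']
      exact List.getElem_mem _

theorem lg_all [Finite G] (h : TC φ X k m tf) {b : Fin n × Fin n × Fin n} {gs : List (List ℕ)} {Ds : List T3}
    {T : List (List ℕ)} (hK : lgK k m tf gs Ds T = true) (hl : 0 < Ds.length)
    (h0 : Ds.getD 0 (.mk 0 0 0) = bT b) : ∀ s ∈ clw X gs, ∃ i, i < Ds.length ∧ El φ b (Ds.getD i (.mk 0 0 0)) s := by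
  have step : ∀ x, (∃ g ∈ gs, x = ev X g) → ∀ s, (∃ i, i < Ds.length ∧ El φ b (Ds.getD i (.mk 0 0 0)) s) →
      ∃ i, i < Ds.length ∧ El φ b (Ds.getD i (.mk 0 0 0)) (s * x) := by
    rintro x ⟨g, hg, rfl⟩ s ⟨i, hi, he⟩
    obtain ⟨j, hj, rfl⟩ := List.mem_iff_getElem.1 hg
    have h5 := List.all_eq_true.1 (List.all_eq_true.1 hK _ (List.mem_range.2 hi)) _ (List.mem_range.2 hj)
    rw [Bool.and_eq_true, List.getD_eq_getElem gs _ hj] at h5
    exact ⟨_, blt_eq.1 h5.1, he.mul h h5.2⟩
  intro s hs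
  unfold clw at hs
  induction hs using Subgroup.closure_induction_right with
  | one => exact ⟨0, hl, by rw [h0]; exact El.one b⟩
  | mul_right a ha x hx ih => exact step x hx a ih
  | mul_inv_cancel a ha x hx ih =>
    have hp : ∀ j : ℕ, ∃ i, i < Ds.length ∧ El φ b (Ds.getD i (.mk 0 0 0)) (a * x ^ j) := by
      intro j
      induction j with
      | zero => rw [pow_zero, mul_one]; exact ih
      | succ j ihj => rw [pow_succ, ← mul_assoc]; exact step x hx _ ihj
    have hx1 : x⁻¹ = x ^ (orderOf x - 1) := by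
      have h1 : 0 < orderOf x := orderOf_pos x
      rw [inv_eq_iff_mul_eq_one, ← pow_succ', Nat.sub_add_cancel h1, pow_orderOf_eq_one]
    rw [hx1]
    exact hp _

theorem lg_card [Finite G] (h : TC φ X k m tf) {b : Fin n × Fin n × Fin n} (hb : Base φ b) {gs : List (List ℕ)} {Ds : List T3}
    {T : List (List ℕ)} {par : List (ℕ × ℕ)} (hK : lgK k m tf gs Ds T = true) (hP : lgP gs Ds T par = true)
    (hl : 0 < Ds.length) (h0 : Ds.getD 0 (.mk 0 0 0) = bT b) (hnd : Ds.Nodup) : Nat.card (clw X gs) = Ds.length := by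
  have h1 := lg_mem h hK hP h0
  have h2 := lg_all h (b := b) hK hl h0
  choose f hf hfe using h1
  let F : Fin Ds.length → clw X gs := fun i => ⟨f i i.2, hf i i.2⟩
  have hF : Function.Bijective F := by
    constructor
    · intro i j hij
      have h3 : f i i.2 = f j j.2 := congrArg Subtype.val hij
      have h4 := hfe i i.2
      rw [h3] at h4
      have h5 := h4.uniq (hfe j j.2)
      rw [List.getD_eq_getElem _ _ i.2, List.getD_eq_getElem _ _ j.2] at h5
      exact Fin.ext ((List.Nodup.getElem_inj_iff hnd).1 h5)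
    · rintro ⟨s, hs⟩
      obtain ⟨i, hi, he⟩ := h2 s hs
      exact ⟨⟨i, hi⟩, Subtype.ext (El.ext hb (hfe i hi) he)⟩
  rw [← Nat.card_congr (Equiv.ofBijective F hF), Nat.card_fin]

end

/-! ### Stabilizer chains with explicit base -/

theorem chain_base {G : Type*} [Group G] [Finite G] {n k : ℕ} {L : List Nt} {φ : G →* Equiv.Perm (Fin n)}
    (hs : sysOk L n = true)
    (hL : ∀ y, ∃ g : G, ∀ i : Fin n, ((((φ g)⁻¹ : Equiv.Perm (Fin n)) i : Fin n) : ℕ) = (net L y).pos i)
    (ls : List Lev) : ∀ (bs : List ℕ) (bs' : List (Fin n)), bs'.map Fin.val = bs →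
    chainB L n k ls bs = true → ∃ bs'' : List (Fin n), bs''.map Fin.val = (ls.map Lev.b).reverse ++ bs ∧
      prodM ls * Nat.card (stabs φ bs'') ≤ Nat.card (stabs φ bs') := by
  induction ls with
  | nil => intro bs bs' hb _; exact ⟨bs', by simpa using hb, by simp [prodM]⟩
  | cons l ls ih =>
    intro bs bs' hbs h
    have h1 : chainB L n k (l :: ls) bs = Bool.rec false (Bool.rec false (Bool.rec false
      (chainB L n k ls (l.b :: bs)) (reachN L l.ys l.r l.b k l.m)) (fixP L l.ys bs)) (Nat.blt l.b n) := rfl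
    rw [h1] at h
    cases hb1 : Nat.blt l.b n
    · rw [hb1] at h; exact absurd h (by simp)
    rw [hb1] at h
    have h : (Bool.rec false (Bool.rec false
      (chainB L n k ls (l.b :: bs)) (reachN L l.ys l.r l.b k l.m)) (fixP L l.ys bs) : Bool) = true := h
    cases hb2 : fixP L l.ys bs
    · rw [hb2] at h; exact absurd h (by simp)
    rw [hb2] at h
    have h : (Bool.rec false
      (chainB L n k ls (l.b :: bs)) (reachN L l.ys l.r l.b k l.m) : Bool) = true := h
    cases hb3 : reachN L l.ys l.r l.b k l.m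
    · rw [hb3] at h; exact absurd h (by simp)
    rw [hb3] at h
    have h : chainB L n k ls (l.b :: bs) = true := h
    have hbn : l.b < n := blt_eq.1 hb1
    let β : Fin n := ⟨l.b, hbn⟩
    obtain ⟨bs'', hbl, hbs''⟩ := ih (l.b :: bs) (β :: bs') (by rw [List.map_cons, hbs]) h
    refine ⟨bs'', by rw [hbl]; simp, ?_⟩
    have hfix := fixP_sound hs hb2
    have hlet : ∀ y ∈ l.ys, ∃ g ∈ stabs φ bs', ∀ i : Fin n,
        ((((φ g)⁻¹ : Equiv.Perm (Fin n)) i : Fin n) : ℕ) = (net L y).pos i := by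
      intro y hy
      obtain ⟨g, hg⟩ := hL y
      refine ⟨g, ?_, hg⟩
      rw [mem_stabs]
      intro b hb
      have h2 : (b : ℕ) ∈ bs := by rw [← hbs]; exact List.mem_map_of_mem hb
      have h3 := hg b
      rw [hfix (b : ℕ) h2 y hy] at h3
      have h4 : ((φ g)⁻¹ : Equiv.Perm (Fin n)) b = b := Fin.ext h3
      rw [Equiv.Perm.inv_eq_iff_eq] at h4
      exact h4.symm
    obtain ⟨F, hF1, hF2⟩ := reachN_sound hs hb3
      (P := fun i => ∃ hi : i < n, ∃ g ∈ stabs φ bs', φ g β = ⟨i, hi⟩)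
      ⟨hbn, 1, one_mem _, by simp [β]⟩ (by
        intro y hy i hP
        obtain ⟨hi, g, hg, hgb⟩ := hP
        obtain ⟨z, hz, hzi⟩ := hlet y hy
        have hin : i < n := ((net_mem hs y).2 i).1 hi
        refine ⟨hin, z * g, mul_mem hz hg, ?_⟩
        rw [map_mul, Equiv.Perm.mul_apply, hgb]
        have h3 := hzi ⟨i, hin⟩
        have h4 : ((φ z)⁻¹ : Equiv.Perm (Fin n)) ⟨i, hin⟩ = ⟨(net L y).pos i, hi⟩ := Fin.ext h3
        rw [Equiv.Perm.inv_eq_iff_eq] at h4
        exact h4.symm)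
    classical
    let F' : Finset (Fin n) := F.attach.map ⟨fun i => ⟨i.1, (hF2 i.1 i.2).1⟩, fun a b hab =>
      Subtype.ext (congrArg Fin.val hab)⟩
    have hF' : F'.card = F.card := by simp [F']
    have h5 := card_level φ bs' β F' (by
      intro i hi
      obtain ⟨j, _, rfl⟩ := Finset.mem_map.1 hi
      obtain ⟨hj, g, hg, hgb⟩ := hF2 j.1 j.2
      exact ⟨g, hg, hgb⟩)
    rw [hF'] at h5
    have h6 : prodM (l :: ls) = l.m * prodM ls := by simp [prodM]
    rw [h6]
    calc l.m * prodM ls * Nat.card (stabs φ bs'') = l.m * (prodM ls * Nat.card (stabs φ bs'')) := by ring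
      _ ≤ l.m * Nat.card (stabs φ (β :: bs')) := Nat.mul_le_mul_left _ hbs''
      _ ≤ F.card * Nat.card (stabs φ (β :: bs')) := Nat.mul_le_mul_right _ hF1
      _ ≤ Nat.card (stabs φ bs') := h5

end Cfsg.Agent.H20.PT
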