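import Mathlib

set_option autoImplicit false

namespace Cfsg.Agent.H20.SelfNorm

variable {T : Type*} [Group T] [Finite T]

theorem burnside_simple (hs : IsSimpleGroup T) (hna : ∃ a b : T, a * b ≠ b * a) {p : ℕ} [Fact p.Prime] (P : Sylow p T)
    (hP : (P : Subgroup T) ≠ ⊥)
    (h : Subgroup.normalizer ((P : Subgroup T) : Set T) ≤ Subgroup.centralizer ((P : Subgroup T) : Set T)) : False := by
  have hc := MonoidHom.ker_transferSylow_isComplement' P h
  rcases hs.eq_bot_or_eq_top_of_normal (MonoidHom.transferSylow P h).ker inferInstance with hk | hk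
  · rw [hk] at hc
    have hPt : (P : Subgroup T) = ⊤ := Subgroup.isComplement'_bot_left.1 hc
    obtain ⟨a, b, hab⟩ := hna
    apply hab
    have h1 : ∀ x : T, x ∈ Subgroup.centralizer ((P : Subgroup T) : Set T) := by
      intro x
      apply h
      have hx : x ∈ (P : Subgroup T) := by rw [hPt]; trivial
      exact Subgroup.le_normalizer hx
    have h2 : a ∈ (P : Subgroup T) := by rw [hPt]; trivial
    exact Subgroup.mem_centralizer_iff.1 (h1 b) a h2
  · rw [hk] at hc
    exact hP (Subgroup.isComplement'_top_left.1 hc)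

omit [Finite T] in
theorem center_bot (hs : IsSimpleGroup T) (hna : ∃ a b : T, a * b ≠ b * a) : Subgroup.center T = ⊥ := by
  rcases hs.eq_bot_or_eq_top_of_normal (Subgroup.center T) inferInstance with hk | hk
  · exact hk
  · exfalso
    obtain ⟨a, b, hab⟩ := hna
    apply hab
    have : a ∈ Subgroup.center T := hk ▸ Subgroup.mem_top a
    exact (Subgroup.mem_center_iff.1 this b).symm

theorem sylow_of_normalizer {q : ℕ} [hq : Fact q.Prime] (Q C : Subgroup T) (hQC : Q ≤ C) (hQ : IsPGroup q Q)
    (hi : ¬ q ∣ Q.relIndex C) (hN : Subgroup.normalizer (Q : Set T) ≤ C) : ∃ P : Sylow q T, (P : Subgroup T) = Q := by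
  obtain ⟨P, hP⟩ := hQ.exists_le_sylow
  refine ⟨P, ?_⟩
  by_contra hne
  have hnil : Group.IsNilpotent (P : Subgroup T) := P.isPGroup'.isNilpotent
  have h1 : Q.subgroupOf P < ⊤ := by
    rw [lt_top_iff_ne_top]
    intro h
    rw [Subgroup.subgroupOf_eq_top] at h
    exact absurd (le_antisymm h hP) hne
  have h2 := Group.normalizerCondition_of_isNilpotent (G := (P : Subgroup T)) (Q.subgroupOf P) h1
  obtain ⟨x, hx1, hx2⟩ := SetLike.exists_of_lt h2
  have hxN : (x : T) ∈ Subgroup.normalizer (Q : Set T) := by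
    rw [Subgroup.mem_normalizer_iff] at hx1 ⊢
    intro y
    constructor
    · intro hy
      exact (hx1 ⟨y, hP hy⟩).1 hy
    · intro hy
      have hyP : y ∈ (P : Subgroup T) := by
        have h3 := (P : Subgroup T).mul_mem ((P : Subgroup T).mul_mem ((P : Subgroup T).inv_mem x.2) (hP hy)) x.2
        have e : (x : T)⁻¹ * ((x : T) * y * (x : T)⁻¹) * (x : T) = y := by group
        rwa [e] at h3
      exact (hx1 ⟨y, hyP⟩).2 hy
  set K := (P : Subgroup T) ⊓ Subgroup.normalizer (Q : Set T) with hK
  have hKp : IsPGroup q K := P.isPGroup'.to_le inf_le_left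
  have hQK : Q ≤ K := le_inf hP Subgroup.le_normalizer
  have hKC : K ≤ C := inf_le_right.trans hN
  have h3 : Q.relIndex K ≠ 1 := by
    intro h
    rw [Subgroup.relIndex_eq_one] at h
    exact hx2 (h ⟨x.2, hxN⟩)
  have h4 : q ∣ Q.relIndex K := by
    obtain ⟨n, hn⟩ := IsPGroup.iff_card.1 hKp
    have h5 : Q.relIndex K ∣ q ^ n := by
      rw [← hn]
      exact Subgroup.relIndex_dvd_card Q K
    obtain ⟨m, -, hm⟩ := (Nat.dvd_prime_pow hq.out).1 h5
    rw [hm] at h3 ⊢
    apply dvd_pow_self
    rintro rfl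
    exact h3 (pow_zero _)
  apply hi
  rw [← Subgroup.relIndex_mul_relIndex Q K C hQK hKC]
  exact Dvd.dvd.mul_right h4 _

theorem card_center_mul_le {p : ℕ} [hp : Fact p.Prime] {P : Type*} [Group P] [Finite P] (hP : IsPGroup p P)
    (hna : ∃ a b : P, a * b ≠ b * a) : p ^ 2 * Nat.card (Subgroup.center P) ≤ Nat.card P := by
  have h1 := (Subgroup.center P).card_mul_index
  obtain ⟨n, hn⟩ := IsPGroup.iff_card.1 hP
  have h2 : (Subgroup.center P).index ∣ p ^ n := by
    rw [← hn]; exact Subgroup.index_dvd_card _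
  obtain ⟨k, -, hk⟩ := (Nat.dvd_prime_pow hp.out).1 h2
  have hcyc : ¬ IsCyclic (P ⧸ Subgroup.center P) := by
    intro hc
    obtain ⟨a, b, hab⟩ := hna
    exact hab (commutative_of_cyclic_center_quotient (QuotientGroup.mk' (Subgroup.center P)) (QuotientGroup.ker_mk' _).le a b)
  have hk2 : 2 ≤ k := by
    by_contra hlt
    apply hcyc
    have hcard : Nat.card (P ⧸ Subgroup.center P) = p ^ k := by
      rw [← hk]; rfl
    have : k = 0 ∨ k = 1 := by omega
    rcases this with rfl | rfl
    · rw [pow_zero] at hcard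
      have := (Nat.card_eq_one_iff_unique.1 hcard).1
      exact isCyclic_of_subsingleton
    · rw [pow_one] at hcard
      exact isCyclic_of_prime_card hcard
  rw [← h1, hk, mul_comm]
  exact Nat.mul_le_mul_left _ (Nat.pow_le_pow_right hp.out.pos hk2)

theorem sum_inv_sq (n : ℕ) : ∑ k ∈ Finset.Icc 2 (n + 1), (1 : ℚ) / (k : ℚ) ^ 2 ≤ 1 - 1 / ((n : ℚ) + 1) := by
  induction n with
  | zero => simp
  | succ n ih =>
    rw [Finset.sum_Icc_succ_top (by omega)]
    have h1 : (1 : ℚ) / ((n + 1 + 1 : ℕ) : ℚ) ^ 2 ≤ 1 / ((n : ℚ) + 1) - 1 / (((n + 1 : ℕ) : ℚ) + 1) := by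
      push_cast
      have hn : (0 : ℚ) ≤ n := Nat.cast_nonneg n
      rw [div_sub_div _ _ (by positivity) (by positivity), div_le_div_iff₀ (by positivity) (by positivity)]
      ring_nf
      nlinarith
    linarith

theorem sum_primes_lt (n : ℕ) : ∑ p ∈ n.primeFactors, (1 : ℚ) / (p : ℚ) ^ 2 < 1 := by
  have h1 : n.primeFactors ⊆ Finset.Icc 2 (n + 1) := by
    intro p hp
    rw [Nat.mem_primeFactors] at hp
    rw [Finset.mem_Icc]
    exact ⟨hp.1.two_le, (Nat.le_of_dvd (Nat.pos_of_ne_zero hp.2.2) hp.2.1).trans (Nat.le_succ n)⟩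
  have h2 : ∑ p ∈ n.primeFactors, (1 : ℚ) / (p : ℚ) ^ 2 ≤ ∑ k ∈ Finset.Icc 2 (n + 1), (1 : ℚ) / (k : ℚ) ^ 2 :=
    Finset.sum_le_sum_of_subset_of_nonneg h1 (fun _ _ _ => by positivity)
  have h3 := sum_inv_sq n
  have h4 : (0 : ℚ) < 1 / ((n : ℚ) + 1) := by positivity
  linarith

theorem no_group (hs : IsSimpleGroup T) (hna : ∃ a b : T, a * b ≠ b * a)
    (hA : ∀ (t : T) (k : ℕ), t ^ k ≠ 1 → Subgroup.centralizer ({t ^ k} : Set T) = Subgroup.centralizer ({t} : Set T))
    (hB : ∀ t : T, t ≠ 1 → Subgroup.normalizer ((Subgroup.centralizer ({t} : Set T) : Subgroup T) : Set T) = Subgroup.centralizer ({t} : Set T)) : False := by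
  classical
  have : Fintype T := Fintype.ofFinite T
  let C : T → Subgroup T := fun t => Subgroup.centralizer ({t} : Set T)
  have hC : ∀ t x, x ∈ C t ↔ x * t = t * x := fun t x => Subgroup.mem_centralizer_singleton_iff
  have hself : ∀ t, t ∈ C t := fun t => (hC t t).2 rfl
  have hconj : ∀ x t y, y ∈ C (x * t * x⁻¹) ↔ x⁻¹ * y * x ∈ C t := by
    intro x t y
    rw [hC, hC]
    constructor
    · intro h
      calc x⁻¹ * y * x * t = x⁻¹ * (y * (x * t * x⁻¹)) * x := by group
        _ = x⁻¹ * ((x * t * x⁻¹) * y) * x := by rw [h]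
        _ = t * (x⁻¹ * y * x) := by group
    · intro h
      calc y * (x * t * x⁻¹) = x * ((x⁻¹ * y * x) * t) * x⁻¹ := by group
        _ = x * (t * (x⁻¹ * y * x)) * x⁻¹ := by rw [h]
        _ = x * t * x⁻¹ * y := by group
  -- if C (x t x⁻¹) = C t then x ∈ C t
  have hnormC : ∀ x t, t ≠ 1 → C (x * t * x⁻¹) = C t → x ∈ C t := by
    intro x t ht h
    have h1 : x ∈ Subgroup.normalizer ((C t : Subgroup T) : Set T) := by
      rw [Subgroup.mem_normalizer_iff]
      intro y
      have h3 : x * y * x⁻¹ ∈ C (x * t * x⁻¹) ↔ y ∈ C t := by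
        rw [hconj]
        have e : x⁻¹ * (x * y * x⁻¹) * x = y := by group
        rw [e]
      rw [← h3, h]
    rw [show Subgroup.normalizer ((C t : Subgroup T) : Set T) = C t from hB t ht] at h1
    exact h1
  -- coprime commuting
  have hcop : ∀ t u, t ≠ 1 → u ≠ 1 → t * u = u * t → (orderOf t).Coprime (orderOf u) → C t = C u := by
    have key : ∀ t u, t ≠ 1 → t * u = u * t → (orderOf t).Coprime (orderOf u) → C (t * u) = C t := by
      intro t u ht hc hco
      have h1 : (t * u) ^ (orderOf u) = t ^ (orderOf u) := by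
        rw [(show Commute t u from hc).mul_pow, pow_orderOf_eq_one, mul_one]
      have h2 : t ^ (orderOf u) ≠ 1 := by
        intro h
        have h3 := orderOf_dvd_of_pow_eq_one h
        have h4 := Nat.dvd_gcd dvd_rfl h3
        rw [hco] at h4
        exact ht (orderOf_eq_one_iff.1 (Nat.dvd_one.1 h4))
      have h3 := hA (t * u) (orderOf u) (by rw [h1]; exact h2)
      rw [h1, hA t _ h2] at h3
      exact h3.symm
    intro t u ht hu hc hco
    rw [← key t u ht hc hco, hc, key u t hu hc.symm hco.symm]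
  -- centralizers are p-groups
  have hCp : ∀ t, t ≠ 1 → ∃ p : ℕ, p.Prime ∧ IsPGroup p (C t) := by
    have key : ∀ (t : T) (p : ℕ), p.Prime → orderOf t = p → IsPGroup p (C t) := by
      intro t p hp ht
      have ht1 : t ≠ 1 := by
        rintro rfl
        rw [orderOf_one] at ht
        exact hp.one_lt.ne ht
      by_contra hnp
      obtain ⟨q, hq, hqd, hqp⟩ : ∃ q : ℕ, q.Prime ∧ q ∣ Nat.card (C t) ∧ q ≠ p := by
        by_contra hcon
        push Not at hcon
        apply hnp
        have h5 : Nat.card (C t) = p ^ (Nat.card (C t)).primeFactorsList.length :=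
          Nat.eq_prime_pow_of_unique_prime_dvd Nat.card_pos.ne' (fun {d} hd hdd => hcon d hd hdd)
        exact IsPGroup.of_card h5
      have hqf : Fact q.Prime := ⟨hq⟩
      obtain ⟨Q0⟩ : Nonempty (Sylow q (C t)) := inferInstance
      set Q := (Q0 : Subgroup (C t)).map (C t).subtype with hQ
      have hQle : Q ≤ C t := Subgroup.map_subtype_le _
      have hQp : IsPGroup q Q := Q0.isPGroup'.map _
      have hQi : ¬ q ∣ Q.relIndex (C t) := by
        have : Q.relIndex (C t) = (Q0 : Subgroup (C t)).index := by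
          rw [Subgroup.relIndex]
          congr 1
          exact Subgroup.comap_map_eq_self_of_injective (C t).subtype_injective _
        rw [this]
        exact Q0.not_dvd_index
      have hQne : Q ≠ ⊥ := by
        intro h
        have h2 := (Subgroup.map_eq_bot_iff_of_injective _ (C t).subtype_injective).1 h
        have h3 := Q0.card_eq_multiplicity
        rw [h2, Subgroup.card_bot] at h3
        have h4 : 0 < (Nat.card (C t)).factorization q := hq.factorization_pos_of_dvd Nat.card_pos.ne' hqd
        have h5 : 1 < q ^ (Nat.card (C t)).factorization q := Nat.one_lt_pow h4.ne' hq.one_lt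
        omega
      have hCQ : ∀ u ∈ Q, u ≠ 1 → C u = C t := by
        intro u hu hu1
        apply hcop u t hu1 ht1 ((hC t u).1 (hQle hu))
        obtain ⟨n, hn⟩ := IsPGroup.iff_orderOf.1 hQp ⟨u, hu⟩
        rw [Subgroup.orderOf_mk] at hn
        rw [hn, ht]
        exact Nat.Coprime.pow_left n ((Nat.coprime_primes hq hp).2 hqp)
      obtain ⟨u, hu, hu1⟩ : ∃ u ∈ Q, u ≠ 1 := by
        by_contra hcon
        push Not at hcon
        exact hQne ((Subgroup.eq_bot_iff_forall _).2 hcon)
      have hN : Subgroup.normalizer (Q : Set T) ≤ C t := by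
        intro x hx
        have h1 : x * u * x⁻¹ ∈ Q := (Subgroup.mem_normalizer_iff.1 hx u).1 hu
        have h2 : x * u * x⁻¹ ≠ 1 := by
          intro h
          rw [mul_inv_eq_one] at h
          exact hu1 (mul_eq_left.1 h)
        have h3 := hnormC x u hu1 (by rw [hCQ _ h1 h2, hCQ u hu hu1])
        rw [hCQ u hu hu1] at h3
        exact h3
      obtain ⟨P, hP⟩ := sylow_of_normalizer Q (C t) hQle hQp hQi hN
      apply burnside_simple hs hna P (by rw [hP]; exact hQne)
      rw [hP]
      intro x hx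
      rw [Subgroup.mem_centralizer_iff]
      intro v hv
      by_cases hv1 : v = 1
      · rw [hv1]; simp
      · have h1 := hN hx
        rw [← hCQ v hv hv1, hC] at h1
        exact h1.symm
    intro t ht
    have h1 : orderOf t ≠ 1 := fun h => ht (orderOf_eq_one_iff.1 h)
    obtain ⟨p, hp, hpd⟩ := Nat.exists_prime_and_dvd h1
    refine ⟨p, hp, ?_⟩
    have h2 : orderOf (t ^ (orderOf t / p)) = p := by
      rw [orderOf_pow_of_dvd (Nat.div_pos (Nat.le_of_dvd (orderOf_pos t) hpd) hp.pos).ne' (Nat.div_dvd_of_dvd hpd),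
        Nat.div_div_self hpd (orderOf_pos t).ne']
    have h3 : t ^ (orderOf t / p) ≠ 1 := by
      intro h
      rw [h, orderOf_one] at h2
      exact hp.one_lt.ne h2
    have h4 := key _ p hp h2
    rw [show C (t ^ (orderOf t / p)) = C t from hA t _ h3] at h4
    exact h4
  -- centralizers are Sylow
  have hCsyl : ∀ t, t ≠ 1 → ∀ p : ℕ, ∀ _ : Fact p.Prime, IsPGroup p (C t) → ∃ P : Sylow p T, (P : Subgroup T) = C t := by
    intro t ht p hp h
    apply sylow_of_normalizer (C t) (C t) le_rfl h
    · rw [Subgroup.relIndex_self]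
      exact hp.out.not_dvd_one
    · exact (hB t ht).le
  have hCne : ∀ t, t ≠ 1 → C t ≠ ⊥ := by
    intro t ht h
    have := hself t
    rw [h, Subgroup.mem_bot] at this
    exact ht this
  have hCna : ∀ t, t ≠ 1 → ∀ p : ℕ, ∀ _ : Fact p.Prime, IsPGroup p (C t) → ∃ a b : C t, a * b ≠ b * a := by
    intro t ht p hp h
    by_contra hcon
    push Not at hcon
    obtain ⟨P, hP⟩ := hCsyl t ht p hp h
    apply burnside_simple hs hna P (by rw [hP]; exact hCne t ht)
    rw [hP, show Subgroup.normalizer ((C t : Subgroup T) : Set T) = C t from hB t ht]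
    intro x hx
    rw [Subgroup.mem_centralizer_iff]
    intro y hy
    exact congrArg Subtype.val (hcon ⟨y, hy⟩ ⟨x, hx⟩)
  -- counting
  let S : ℕ → Finset T := fun p => Finset.univ.filter (fun t => t ≠ 1 ∧ IsPGroup p (C t))
  have hcount : ∀ p : ℕ, p.Prime → (S p).Nonempty → p ^ 2 * ((S p).card + 1) ≤ Nat.card T := by
    intro p hp hne
    have hpf : Fact p.Prime := ⟨hp⟩
    obtain ⟨t0, ht0⟩ := hne
    simp only [S, Finset.mem_filter, Finset.mem_univ, true_and] at ht0
    obtain ⟨P0, hP0⟩ := hCsyl t0 ht0.1 p hpf ht0.2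
    have hsyl : ∀ t : T, ∃ P : Sylow p T, t ≠ 1 → IsPGroup p (C t) → (P : Subgroup T) = C t := by
      intro t
      by_cases h : t ≠ 1 ∧ IsPGroup p (C t)
      · obtain ⟨P, hP⟩ := hCsyl t h.1 p hpf h.2
        exact ⟨P, fun _ _ => hP⟩
      · exact ⟨P0, fun h1 h2 => absurd ⟨h1, h2⟩ h⟩
    choose f hf using hsyl
    have : Fintype (Sylow p T) := Fintype.ofFinite _
    -- number of Sylow subgroups
    have hnum : Fintype.card (Sylow p T) * Nat.card (P0 : Subgroup T) = Nat.card T := by
      have h1 := P0.card_eq_index_normalizer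
      have h2 : Subgroup.normalizer ((P0 : Subgroup T) : Set T) = P0 := by
        rw [hP0]; exact hB t0 ht0.1
      rw [Nat.card_eq_fintype_card] at h1
      have h3 : (Subgroup.normalizer ((P0 : Subgroup T) : Set T)).index = (P0 : Subgroup T).index := by rw [h2]
      have h4 : Fintype.card (Sylow p T) = (P0 : Subgroup T).index := h1.trans h3
      rw [h4, mul_comm]
      exact Subgroup.card_mul_index _
    -- every fibre is small
    have hfib : ∀ b ∈ (Finset.univ : Finset (Sylow p T)), ((S p).filter (fun a => f a = b)).card ≤ Nat.card (P0 : Subgroup T) / p ^ 2 - 1 := by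
      intro b _
      by_cases hbe : ((S p).filter (fun a => f a = b)) = ∅
      · rw [hbe]; simp
      · obtain ⟨a, ha⟩ := Finset.nonempty_iff_ne_empty.2 hbe
        simp only [S, Finset.mem_filter, Finset.mem_univ, true_and] at ha
        have hba : (b : Subgroup T) = C a := by
          rw [← ha.2]; exact hf a ha.1.1 ha.1.2
        have hcb : Nat.card (P0 : Subgroup T) = Nat.card (C a) := by
          rw [← hba, P0.card_eq_multiplicity, b.card_eq_multiplicity]
        have h1 := card_center_mul_le ha.1.2 (hCna a ha.1.1 p hpf ha.1.2)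
        have h2 : Nat.card (Subgroup.center (C a)) ≤ Nat.card (P0 : Subgroup T) / p ^ 2 := by
          rw [Nat.le_div_iff_mul_le (pow_pos hp.pos 2), hcb, mul_comm]
          exact h1
        have h3 : ((S p).filter (fun a => f a = b)).card ≤ Nat.card (Subgroup.center (C a)) - 1 := by
          have hz : Nat.card {z : Subgroup.center (C a) // z ≠ 1} = Nat.card (Subgroup.center (C a)) - 1 := by
            have : Fintype (Subgroup.center (C a)) := Fintype.ofFinite _
            rw [Nat.card_eq_fintype_card, Nat.card_eq_fintype_card, Fintype.card_subtype_compl, Fintype.card_subtype_eq]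
          rw [← hz]
          have hcen : ∀ x ∈ (S p).filter (fun a => f a = b), ∃ z : {z : Subgroup.center (C a) // z ≠ 1}, ((z.1 : C a) : T) = x := by
            intro x hx
            simp only [S, Finset.mem_filter, Finset.mem_univ, true_and] at hx
            have hbx : C a = C x := by
              rw [← hba, ← hx.2]
              exact hf x hx.1.1 hx.1.2
            have hxa : x ∈ C a := by rw [hbx]; exact hself x
            refine ⟨⟨⟨⟨x, hxa⟩, ?_⟩, ?_⟩, rfl⟩
            · rw [Subgroup.mem_center_iff]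
              intro y
              apply Subtype.ext
              have hy : (y : T) ∈ C x := by rw [← hbx]; exact y.2
              exact (hC x y).1 hy
            · intro h
              apply hx.1.1
              exact congrArg (fun z : Subgroup.center (C a) => ((z : C a) : T)) h
          choose g hg using hcen
          rw [← Nat.card_eq_finsetCard]
          apply Nat.card_le_card_of_injective (fun x : (S p).filter (fun a => f a = b) => g x.1 x.2)
          intro x y hxy
          apply Subtype.ext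
          rw [← hg x.1 x.2, ← hg y.1 y.2]
          simp only at hxy
          rw [hxy]
        omega
    have hle := Finset.card_le_mul_card_image_of_maps_to (s := S p) (t := Finset.univ) (f := f) (fun a _ => Finset.mem_univ _) _ hfib
    rw [Finset.card_univ] at hle
    have hm1 : 1 ≤ Nat.card (P0 : Subgroup T) / p ^ 2 := by
      have h1 := card_center_mul_le ht0.2 (hCna t0 ht0.1 p hpf ht0.2)
      have h2 : 0 < Nat.card (Subgroup.center (C t0)) := Nat.card_pos
      rw [Nat.le_div_iff_mul_le (pow_pos hp.pos 2), hP0, one_mul]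
      calc p ^ 2 = p ^ 2 * 1 := (mul_one _).symm
        _ ≤ p ^ 2 * Nat.card (Subgroup.center (C t0)) := Nat.mul_le_mul_left _ h2
        _ ≤ _ := h1
    have hm2 : Nat.card (P0 : Subgroup T) / p ^ 2 * p ^ 2 ≤ Nat.card (P0 : Subgroup T) := Nat.div_mul_le_self _ _
    have hn1 : 1 ≤ Fintype.card (Sylow p T) := Fintype.card_pos
    obtain ⟨m, hm⟩ : ∃ m, Nat.card (P0 : Subgroup T) / p ^ 2 = m + 1 := ⟨_, (Nat.sub_add_cancel hm1).symm⟩
    rw [hm] at hle hm2
    rw [Nat.add_sub_cancel] at hle
    rw [← hnum]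
    calc p ^ 2 * ((S p).card + 1) ≤ p ^ 2 * (m * Fintype.card (Sylow p T) + Fintype.card (Sylow p T)) := by
          apply Nat.mul_le_mul_left
          omega
      _ = Fintype.card (Sylow p T) * ((m + 1) * p ^ 2) := by ring
      _ ≤ _ := Nat.mul_le_mul_left _ hm2
  -- final contradiction
  have hnt : Nontrivial T := hs.toNontrivial
  obtain ⟨t0, ht0⟩ := exists_ne (1 : T)
  have hmemPF : ∀ t : T, t ≠ 1 → ∀ p : ℕ, p.Prime → IsPGroup p (C t) → p ∈ (Nat.card T).primeFactors := by
    intro t ht p hp h
    have hpf : Fact p.Prime := ⟨hp⟩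
    rw [Nat.mem_primeFactors]
    refine ⟨hp, ?_, Nat.card_pos.ne'⟩
    obtain ⟨n, hn⟩ := IsPGroup.iff_card.1 h
    have hn0 : n ≠ 0 := by
      rintro rfl
      rw [pow_zero] at hn
      exact hCne t ht (Subgroup.card_eq_one.1 hn)
    calc p ∣ p ^ n := dvd_pow_self p hn0
      _ = Nat.card (C t) := hn.symm
      _ ∣ Nat.card T := Subgroup.card_subgroup_dvd_card _
  obtain ⟨p0, hp0, hp0'⟩ := hCp t0 ht0
  have hcov : (Finset.univ.filter (fun t : T => t ≠ 1)).card ≤ ∑ p ∈ (Nat.card T).primeFactors, (S p).card := by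
    calc (Finset.univ.filter (fun t : T => t ≠ 1)).card ≤ ((Nat.card T).primeFactors.biUnion S).card := by
          apply Finset.card_le_card
          intro t ht
          simp only [Finset.mem_filter, Finset.mem_univ, true_and] at ht
          obtain ⟨p, hp, hp'⟩ := hCp t ht
          rw [Finset.mem_biUnion]
          refine ⟨p, hmemPF t ht p hp hp', ?_⟩
          simp only [S, Finset.mem_filter, Finset.mem_univ, true_and]
          exact ⟨ht, hp'⟩
      _ ≤ _ := Finset.card_biUnion_le
  have hcT : (Finset.univ.filter (fun t : T => t ≠ 1)).card + 1 = Nat.card T := by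
    have h1 := Finset.card_filter_add_card_filter_not (s := (Finset.univ : Finset T)) (fun t => t ≠ 1)
    have h2 : (Finset.univ.filter (fun t : T => ¬ (t ≠ 1))) = {1} := by
      ext t
      simp
    rw [h2, Finset.card_singleton, Finset.card_univ, ← Nat.card_eq_fintype_card] at h1
    exact h1
  have hTpos : (0 : ℚ) < Nat.card T := by exact_mod_cast Nat.card_pos
  have hbound : ∀ p ∈ (Nat.card T).primeFactors, ((S p).card : ℚ) + (if p = p0 then 1 else 0) ≤ (Nat.card T : ℚ) * (1 / (p : ℚ) ^ 2) := by
    intro p hp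
    have hpp := Nat.prime_of_mem_primeFactors hp
    have hp2 : (0 : ℚ) < (p : ℚ) ^ 2 := by
      have : (0 : ℚ) < p := by exact_mod_cast hpp.pos
      positivity
    by_cases hne : (S p).Nonempty
    · have h1 := hcount p hpp hne
      have h2 : (p : ℚ) ^ 2 * ((S p).card + 1) ≤ Nat.card T := by exact_mod_cast h1
      have h3 : ((S p).card : ℚ) + 1 ≤ (Nat.card T : ℚ) * (1 / (p : ℚ) ^ 2) := by
        rw [mul_one_div, le_div_iff₀ hp2, mul_comm]
        exact h2
      split_ifs
      · exact h3
      · linarith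
    · rw [Finset.not_nonempty_iff_eq_empty] at hne
      have hpp0 : p ≠ p0 := by
        rintro rfl
        have : t0 ∈ S p := by
          simp only [S, Finset.mem_filter, Finset.mem_univ, true_and]
          exact ⟨ht0, hp0'⟩
        rw [hne] at this
        exact absurd this (Finset.notMem_empty _)
      rw [hne, if_neg hpp0]
      simp only [Finset.card_empty, Nat.cast_zero, add_zero]
      positivity
  have hsum := Finset.sum_le_sum hbound
  rw [Finset.sum_add_distrib, Finset.sum_ite_eq' , if_pos (hmemPF t0 ht0 p0 hp0 hp0'), ← Finset.mul_sum] at hsum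
  have h1 : (Nat.card T : ℚ) ≤ ∑ p ∈ (Nat.card T).primeFactors, ((S p).card : ℚ) + 1 := by
    have : Nat.card T ≤ (∑ p ∈ (Nat.card T).primeFactors, (S p).card) + 1 := by omega
    exact_mod_cast this
  have h2 := sum_primes_lt (Nat.card T)
  have h3 : (Nat.card T : ℚ) * ∑ p ∈ (Nat.card T).primeFactors, (1 : ℚ) / (p : ℚ) ^ 2 < Nat.card T * 1 :=
    mul_lt_mul_of_pos_left h2 hTpos
  linarith

end Cfsg.Agent.H20.SelfNorm
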