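import Mathlib
set_option autoImplicit false

/-! small coset enumeration certificates -/
namespace Cfsg.Agent.H20.TC

/-- letters: `2i` for the generator `i`, `2i+1` for its inverse -/
def iv (y : ℕ) : ℕ := if y % 2 = 0 then y + 1 else y - 1

def invw (w : List ℕ) : List ℕ := (w.map iv).reverse

def look (F : List (ℕ × ℕ × ℕ)) (c y : ℕ) : Option ℕ :=
  match F with
  | [] => none
  | f :: F => if Nat.beq f.1 c && Nat.beq f.2.1 y then some f.2.2 else look F c y

def trace (F : List (ℕ × ℕ × ℕ)) : List ℕ → ℕ → Option ℕ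
  | [], c => some c
  | y :: w, c => match look F c y with
    | none => none
    | some d => trace F w d

/-- steps: coset, relator number, position -/
def step (rels sub : List (List ℕ)) (F : List (ℕ × ℕ × ℕ)) (s : ℕ × ℕ × ℕ) : List (ℕ × ℕ × ℕ) :=
  let w := if s.2.1 < rels.length then rels.getD s.2.1 [] else
    (if s.1 = 0 then sub.getD (s.2.1 - rels.length) [] else [])
  if s.2.2 < w.length then
    match trace F (w.take s.2.2) s.1, trace F (invw (w.drop (s.2.2 + 1))) s.1 with
    | some a, some b => (a, w.getD s.2.2 0, b) :: (b, iv (w.getD s.2.2 0), a) :: F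
    | _, _ => F
  else F

/-- definitions: node `i + 1` is `v * y` -/
def defsW : List (ℕ × ℕ) → List (List ℕ) → List (List ℕ)
  | [], R => R
  | (v, y) :: D, R => defsW D (R ++ [R.getD v [] ++ [y]])

def defsF : List (ℕ × ℕ) → ℕ → List (ℕ × ℕ × ℕ)
  | [], _ => []
  | (v, y) :: D, i => (v, y, i) :: (i, iv y, v) :: defsF D (i + 1)

def check (k : ℕ) (rels sub : List (List ℕ)) (D : List (ℕ × ℕ)) (S : List (ℕ × ℕ × ℕ)) : Bool :=
  let F := S.foldl (step rels sub) (defsF D 1)
  (List.range (D.length + 1)).all fun i => (List.range (2 * k)).all fun y =>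
    match look F i y with
    | none => false
    | some j => Nat.blt j (D.length + 1)

variable {G : Type*} [Group G]

def lx (g : ℕ → G) (y : ℕ) : G := if y % 2 = 0 then g (y / 2) else (g (y / 2))⁻¹

def ev (g : ℕ → G) : List ℕ → G
  | [] => 1
  | y :: w => lx g y * ev g w

variable (g : ℕ → G)

theorem ev_append (u v : List ℕ) : ev g (u ++ v) = ev g u * ev g v := by
  induction u with
  | nil => simp [ev]
  | cons y u ih => simp [ev, ih, mul_assoc]

theorem lx_iv (y : ℕ) : lx g (iv y) = (lx g y)⁻¹ := by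
  unfold iv lx
  by_cases h : y % 2 = 0
  · rw [if_pos h, if_pos h, if_neg (by omega)]
    congr 2; omega
  · rw [if_neg h, if_neg h, if_pos (by omega), inv_inv]
    congr 1; omega

theorem ev_invw (w : List ℕ) : ev g (invw w) = (ev g w)⁻¹ := by
  induction w with
  | nil => simp [invw, ev]
  | cons y w ih =>
    have : invw (y :: w) = invw w ++ [iv y] := by simp [invw]
    rw [this, ev_append, ih]
    simp [ev, lx_iv]

variable (H : Subgroup G) (r : ℕ → G)

def Valid (F : List (ℕ × ℕ × ℕ)) : Prop := ∀ f ∈ F, r f.1 * lx g f.2.1 * (r f.2.2)⁻¹ ∈ H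

theorem look_sound {F : List (ℕ × ℕ × ℕ)} (hF : Valid g H r F) {c y d : ℕ} (h : look F c y = some d) :
    r c * lx g y * (r d)⁻¹ ∈ H := by
  induction F with
  | nil => simp [look] at h
  | cons f F ih =>
    rw [look] at h
    split at h
    · rename_i h1
      rw [Bool.and_eq_true] at h1
      have h2 := Nat.eq_of_beq_eq_true h1.1
      have h3 := Nat.eq_of_beq_eq_true h1.2
      have h4 := hF f (by simp)
      rw [h2, h3] at h4
      simp only [Option.some.injEq] at h
      rwa [h] at h4
    · exact ih (fun f' hf' => hF f' (by simp [hf'])) h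

theorem trace_sound {F : List (ℕ × ℕ × ℕ)} (hF : Valid g H r F) (w : List ℕ) {c d : ℕ} (h : trace F w c = some d) :
    r c * ev g w * (r d)⁻¹ ∈ H := by
  induction w generalizing c with
  | nil =>
    simp only [trace, Option.some.injEq] at h
    rw [h]; simp [ev, one_mem]
  | cons y w ih =>
    rw [trace] at h
    split at h
    · simp at h
    · rename_i e he
      have h1 := look_sound g H r hF he
      have h2 := ih h
      have : r c * ev g (y :: w) * (r d)⁻¹ = (r c * lx g y * (r e)⁻¹) * (r e * ev g w * (r d)⁻¹) := by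
        simp only [ev]; group
      rw [this]
      exact mul_mem h1 h2

theorem ded_sound {F : List (ℕ × ℕ × ℕ)} (hF : Valid g H r F) (w : List ℕ) (c p : ℕ)
    (hw : r c * ev g w * (r c)⁻¹ ∈ H) (hp : p < w.length) {a b : ℕ}
    (ha : trace F (w.take p) c = some a) (hb : trace F (invw (w.drop (p + 1))) c = some b) :
    Valid g H r ((a, w.getD p 0, b) :: (b, iv (w.getD p 0), a) :: F) := by
  have h1 := trace_sound g H r hF _ ha
  have h2 := trace_sound g H r hF _ hb
  rw [ev_invw] at h2
  have hsplit : w = w.take p ++ ([w.getD p 0] ++ w.drop (p + 1)) := by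
    rw [List.getD_eq_getElem _ _ hp]
    rw [List.singleton_append, ← List.drop_eq_getElem_cons hp, List.take_append_drop]
  have h3 : ev g w = ev g (w.take p) * (lx g (w.getD p 0) * ev g (w.drop (p + 1))) := by
    conv_lhs => rw [hsplit, ev_append, ev_append]
    simp [ev]
  have key : r a * lx g (w.getD p 0) * (r b)⁻¹ ∈ H := by
    have h4 : r a * lx g (w.getD p 0) * (r b)⁻¹ =
        (r c * ev g (w.take p) * (r a)⁻¹)⁻¹ * (r c * ev g w * (r c)⁻¹) *
          (r c * (ev g (w.drop (p + 1)))⁻¹ * (r b)⁻¹) := by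
      rw [h3]; group
    rw [h4]
    exact mul_mem (mul_mem (inv_mem h1) hw) h2
  intro f hf
  simp only [List.mem_cons] at hf
  rcases hf with rfl | rfl | hf
  · exact key
  · simp only [lx_iv]
    have : r b * (lx g (w.getD p 0))⁻¹ * (r a)⁻¹ = (r a * lx g (w.getD p 0) * (r b)⁻¹)⁻¹ := by group
    rw [this]; exact inv_mem key
  · exact hF f hf

theorem step_sound {rels sub : List (List ℕ)} (hrel : ∀ w ∈ rels, ev g w = 1) (hsub : ∀ w ∈ sub, ev g w ∈ H)
    (h0 : r 0 = 1) {F : List (ℕ × ℕ × ℕ)} (hF : Valid g H r F) (s : ℕ × ℕ × ℕ) :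
    Valid g H r (step rels sub F s) := by
  unfold step
  simp only
  set w := (if s.2.1 < rels.length then rels.getD s.2.1 [] else
    (if s.1 = 0 then sub.getD (s.2.1 - rels.length) [] else [])) with hw
  have hwH : r s.1 * ev g w * (r s.1)⁻¹ ∈ H := by
    rw [hw]
    split
    · rename_i h
      rw [List.getD_eq_getElem _ _ h, hrel _ (List.getElem_mem _)]
      simp [one_mem]
    · split
      · rename_i h
        rw [h, h0]
        by_cases h5 : s.2.1 - rels.length < sub.length
        · rw [List.getD_eq_getElem _ _ h5]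
          simpa using hsub _ (List.getElem_mem _)
        · rw [List.getD_eq_default _ _ (by omega)]
          simp [ev, one_mem]
      · simp [ev, one_mem]
  split
  · rename_i hlt
    split
    · rename_i a b ha hb
      exact ded_sound g H r hF w s.1 s.2.2 hwH hlt ha hb
    · exact hF
  · exact hF

theorem foldl_sound {rels sub : List (List ℕ)} (hrel : ∀ w ∈ rels, ev g w = 1) (hsub : ∀ w ∈ sub, ev g w ∈ H)
    (h0 : r 0 = 1) (S : List (ℕ × ℕ × ℕ)) : ∀ {F : List (ℕ × ℕ × ℕ)} (_ : Valid g H r F),
    Valid g H r (S.foldl (step rels sub) F) := by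
  induction S with
  | nil => intro F hF; exact hF
  | cons s S ih => intro F hF; exact ih (step_sound g H r hrel hsub h0 hF s)

/-- representatives -/
def repW (D : List (ℕ × ℕ)) : List (List ℕ) := defsW D [[]]

theorem defsW_length (D : List (ℕ × ℕ)) : ∀ R : List (List ℕ), (defsW D R).length = R.length + D.length := by
  induction D with
  | nil => intro R; simp [defsW]
  | cons d D ih => intro R; obtain ⟨v, y⟩ := d; rw [defsW, ih]; simp; omega

theorem defsW_getD (D : List (ℕ × ℕ)) : ∀ (R : List (List ℕ)) (i : ℕ), i < R.length →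
    (defsW D R).getD i [] = R.getD i [] := by
  induction D with
  | nil => intro R i _; rfl
  | cons d D ih =>
    intro R i hi
    obtain ⟨v, y⟩ := d
    rw [defsW, ih _ _ (by simp; omega), List.getD_append _ _ _ _ hi]

theorem defs_sound (D : List (ℕ × ℕ)) : ∀ (R : List (List ℕ)) (i : ℕ), R.length = i →
    (∀ j (h : j < D.length), (D[j]).1 < i + j) →
    Valid g H (fun j => ev g ((defsW D R).getD j [])) (defsF D i) := by
  induction D with
  | nil => intro R i _ _ f hf; simp [defsF] at hf
  | cons d D ih =>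
    intro R i hR hlt
    obtain ⟨v, y⟩ := d
    have hv : v < i := by
      have := hlt 0 (by simp)
      simpa only [List.getElem_cons_zero, Nat.add_zero] using this
    have hRR : defsW ((v, y) :: D) R = defsW D (R ++ [R.getD v [] ++ [y]]) := rfl
    have hv' : (defsW D (R ++ [R.getD v [] ++ [y]])).getD v [] = R.getD v [] := by
      rw [defsW_getD _ _ _ (by simp; omega), List.getD_append _ _ _ _ (by omega)]
    have hi' : (defsW D (R ++ [R.getD v [] ++ [y]])).getD i [] = R.getD v [] ++ [y] := by
      rw [defsW_getD _ _ _ (by simp; omega), List.getD_append_right _ _ _ _ (by omega)]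
      simp [hR]
    have hrest := ih (R ++ [R.getD v [] ++ [y]]) (i + 1) (by simp [hR]) (by
      intro j hj
      have := hlt (j + 1) (by simp; omega)
      simp only [List.getElem_cons_succ] at this
      omega)
    intro f hf
    simp only [defsF, List.mem_cons] at hf
    rcases hf with rfl | rfl | hf
    · simp only [hRR, hv', hi', ev_append, ev]
      simp [one_mem]
    · simp only [hRR, hv', hi', ev_append, ev, lx_iv]
      simp [one_mem]
    · exact hrest f hf

/-- all definitions refer to earlier nodes -/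
def okD : List (ℕ × ℕ) → ℕ → Bool
  | [], _ => true
  | d :: D, i => Nat.blt d.1 i && okD D (i + 1)

theorem okD_spec (D : List (ℕ × ℕ)) : ∀ i, okD D i = true → ∀ j (h : j < D.length), (D[j]).1 < i + j := by
  induction D with
  | nil => intro i _ j h; simp at h
  | cons d D ih =>
    intro i h j hj
    rw [okD, Bool.and_eq_true] at h
    cases j with
    | zero => exact Nat.le_of_ble_eq_true h.1
    | succ j =>
      have := ih (i + 1) h.2 j (by simpa using hj)
      simp only [List.getElem_cons_succ]
      omega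

theorem cover {k : ℕ} {rels sub : List (List ℕ)} {D : List (ℕ × ℕ)} {S : List (ℕ × ℕ × ℕ)}
    (hrel : ∀ w ∈ rels, ev g w = 1) (hsub : ∀ w ∈ sub, ev g w ∈ H) (hD : okD D 1 = true)
    (h : check k rels sub D S = true) (hgen : Subgroup.closure (g '' {i | i < k}) = ⊤) :
    ∃ r : ℕ → G, r 0 = 1 ∧ ∀ x : G, ∃ i < D.length + 1, x * (r i)⁻¹ ∈ H := by
  let r : ℕ → G := fun j => ev g ((repW D).getD j [])
  have h0 : r 0 = 1 := by
    have : (repW D).getD 0 [] = [] := by
      rw [repW, defsW_getD _ _ _ (by simp)]; rfl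
    change ev g ((repW D).getD 0 []) = 1
    rw [this]; rfl
  have hF : Valid g H r (S.foldl (step rels sub) (defsF D 1)) :=
    foldl_sound g H r hrel hsub h0 S (defs_sound g H D [[]] 1 rfl (okD_spec D 1 hD))
  refine ⟨r, h0, ?_⟩
  have hmul : ∀ i < D.length + 1, ∀ y < 2 * k, ∃ j < D.length + 1, r i * lx g y * (r j)⁻¹ ∈ H := by
    intro i hi y hy
    simp only [check, List.all_eq_true, List.mem_range] at h
    have h1 := h i hi y hy
    split at h1
    · simp at h1
    · rename_i j hj
      exact ⟨j, Nat.le_of_ble_eq_true h1, look_sound g H r hF hj⟩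
  intro x
  have hx : x ∈ Subgroup.closure (g '' {i | i < k}) := by rw [hgen]; trivial
  induction hx using Subgroup.closure_induction_right with
  | one => exact ⟨0, by omega, by rw [h0]; simp [one_mem]⟩
  | mul_right x y _ hy ih =>
    obtain ⟨i, hi, hx⟩ := ih
    obtain ⟨m, hm, rfl⟩ := hy
    obtain ⟨j, hj, h2⟩ := hmul i hi (2 * m) (by have : m < k := hm; omega)
    refine ⟨j, hj, ?_⟩
    have e : lx g (2 * m) = g m := by
      unfold lx; rw [if_pos (by omega)]; congr 1; omega
    rw [e] at h2
    have : x * g m * (r j)⁻¹ = (x * (r i)⁻¹) * (r i * g m * (r j)⁻¹) := by group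
    rw [this]; exact mul_mem hx h2
  | mul_inv_cancel x y _ hy ih =>
    obtain ⟨i, hi, hx⟩ := ih
    obtain ⟨m, hm, rfl⟩ := hy
    obtain ⟨j, hj, h2⟩ := hmul i hi (2 * m + 1) (by have : m < k := hm; omega)
    refine ⟨j, hj, ?_⟩
    have e : lx g (2 * m + 1) = (g m)⁻¹ := by
      unfold lx; rw [if_neg (by omega)]; congr 2; omega
    rw [e] at h2
    have : x * (g m)⁻¹ * (r j)⁻¹ = (x * (r i)⁻¹) * (r i * (g m)⁻¹ * (r j)⁻¹) := by group
    rw [this]; exact mul_mem hx h2

theorem card_le {k : ℕ} {rels sub : List (List ℕ)} {D : List (ℕ × ℕ)} {S : List (ℕ × ℕ × ℕ)}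
    (hrel : ∀ w ∈ rels, ev g w = 1) (hsub : ∀ w ∈ sub, ev g w ∈ H) (hD : okD D 1 = true)
    (h : check k rels sub D S = true) (hgen : Subgroup.closure (g '' {i | i < k}) = ⊤) [Finite H] :
    Finite G ∧ Nat.card G ≤ Nat.card H * (D.length + 1) := by
  obtain ⟨r, -, hr⟩ := cover g H hrel hsub hD h hgen
  choose f hf1 hf2 using hr
  let φ : G → H × Fin (D.length + 1) := fun x => (⟨x * (r (f x))⁻¹, hf2 x⟩, ⟨f x, hf1 x⟩)
  have hφ : Function.Injective φ := by
    intro x y hxy
    have h1 := congrArg (fun z => ((z.1 : H) : G)) hxy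
    have h2 := congrArg (fun z => (z.2 : ℕ)) hxy
    simp only [φ] at h1 h2
    rw [h2] at h1
    exact mul_right_cancel h1
  have : Finite G := Finite.of_injective φ hφ
  refine ⟨this, ?_⟩
  have h1 := Nat.card_le_card_of_injective φ hφ
  rwa [Nat.card_prod, Nat.card_eq_fintype_card (α := Fin (D.length + 1)), Fintype.card_fin] at h1

end Cfsg.Agent.H20.TC
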