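import Cfsg.Agent.H20_TC
set_option autoImplicit false

/-! glue: presented groups -/
namespace Cfsg.Agent.H20.TC

variable {k : ℕ} (R : Set (FreeGroup (Fin k)))

/-- the generators of a presented group, as a sequence -/
def gP (i : ℕ) : PresentedGroup R := if h : i < k then PresentedGroup.of ⟨i, h⟩ else 1

theorem gP_eq (i : Fin k) : gP R i = PresentedGroup.of i := by
  unfold gP; rw [dif_pos i.2]

theorem closure_gP : Subgroup.closure (gP R '' {i | i < k}) = ⊤ := by
  rw [eq_top_iff, ← PresentedGroup.closure_range_of, Subgroup.closure_le]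
  rintro _ ⟨i, rfl⟩
  apply Subgroup.subset_closure
  exact ⟨i, i.2, gP_eq R i⟩

theorem equiv_of_surj {P Q : Type*} [Group P] [Group Q] [Finite Q] (hP : Finite P) (f : P →* Q)
    (hf : Function.Surjective f) (hc : Nat.card P ≤ Nat.card Q) : Nonempty (P ≃* Q) := by
  have hb : Function.Bijective f := by
    apply (Nat.bijective_iff_surjective_and_card f).mpr
    exact ⟨hf, le_antisymm hc (Nat.card_le_card_of_surjective f hf)⟩
  exact ⟨MulEquiv.ofBijective f hb⟩

end Cfsg.Agent.H20.TC
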