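import Mathlib
set_option autoImplicit false

/-! the 63 non-isotropic points of the unitary plane over the field of 9 elements -/
namespace Cfsg.Agent.H20.U3D

abbrev Z2 := ℤ × ℤ
/-- vectors (index `0` unused) -/
def VP : List (Z2 × Z2 × Z2) := [((0, 0), (0, 0), (0, 0)), ((1, 0), (0, 0), (1, 0)), ((1, 0), (1, 0), (0, 0)), ((1, 0), (2, 2), (0, 1)), ((1, 0), (0, 1), (0, 0)), ((1, 0), (1, 1), (2, 1)), ((1, 0), (2, 1), (0, 1)), ((1, 0), (0, 1), (1, 1)), ((0, 0), (1, 0), (2, 0)), ((1, 0), (0, 1), (1, 2)), ((1, 0), (1, 0), (1, 1)), ((1, 0), (2, 1), (2, 2)), ((1, 0), (1, 2), (0, 1)), ((0, 0), (1, 0), (0, 1)), ((1, 0), (2, 2), (0, 2)), ((0, 0), (1, 0), (1, 0)), ((1, 0), (1, 1), (2, 2)), ((1, 0), (2, 0), (0, 0)), ((1, 0), (1, 2), (2, 2)), ((1, 0), (1, 2), (0, 2)), ((1, 0), (2, 2), (2, 2)), ((1, 0), (1, 2), (2, 1)),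 ((1, 0), (1, 1), (0, 2)), ((1, 0), (0, 2), (1, 1)), ((1, 0), (2, 2), (2, 1)), ((1, 0), (2, 0), (1, 2)), ((1, 0), (2, 1), (0, 2)), ((1, 0), (2, 0), (1, 1)), ((1, 0), (2, 1), (2, 1)), ((1, 0), (1, 0), (1, 2)), ((1, 0), (0, 2), (1, 2)), ((1, 0), (1, 1), (0, 1)), ((1, 0), (0, 2), (0, 0)), ((0, 0), (1, 0), (0, 2)), ((1, 0), (1, 1), (2, 0)), ((1, 0), (2, 2), (2, 0)), ((1, 0), (1, 2), (2, 0)), ((1, 0), (0, 0), (2, 0)), ((1, 0), (2, 1), (2, 0)), ((0, 0), (1, 0), (0, 0)), ((1, 0), (2, 2), (1, 2)), ((1, 0), (2, 2), (1, 1)), ((1, 0), (2, 1), (1, 1)), ((1, 0), (0, 2), (2, 1)), ((1, 0), (0, 1), (2, 2)), ((1, 0), (2, 1), (1, 2)), ((1, 0), (0, 1), (2, 1)), ((1, 0), (1, 0), (2, 2)), ((1, 0), (1, 1), (1, 1)), ((1, 0), (0, 0), (0, 1)), ((1, 0), (2, 0), (2, 1)), ((1, 0), (0, 0), (0, 2)), ((1, 0), (1, 0), (2, 1)), ((1, 0),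 (0, 2), (2, 2)), ((1, 0), (1, 2), (1, 0)), ((1, 0), (1, 2), (1, 2)), ((1, 0), (1, 1), (1, 0)), ((1, 0), (1, 1), (1, 2)), ((1, 0), (2, 1), (1, 0)), ((1, 0), (2, 0), (2, 2)), ((0, 0), (0, 0), (1, 0)), ((1, 0), (2, 2), (1, 0)), ((1, 0), (0, 0), (0, 0)), ((1, 0), (1, 2), (1, 1))]
/-- scalars -/
def sc1 : List Z2 := [(0, 0), (0, 2), (2, 0), (1, 0), (0, 2), (1, 1), (1, 0), (1, 2), (0, 1), (2, 2), (1, 2), (2, 1), (1, 0), (1, 0), (2, 0), (0, 2), (2, 1), (1, 0), (2, 1), (2, 0), (2, 1), (1, 1), (2, 0), (1, 2), (1, 1), (2, 2), (2, 0), (1, 2), (1, 1), (2, 2), (2, 2), (1, 0), (0, 1), (2, 0), (0, 1), (0, 1), (0, 1), (0, 1), (0, 1), (2, 0), (2, 2), (1, 2), (1, 2), (1, 1), (2, 1), (2, 2), (1, 1), (2, 1), (1, 2), (1, 0), (1, 1), (2, 0), (1, 1), (2, 1), (0, 2), (2, 2), (0, 2), (2, 2), (0, 2), (2, 1), (0, 2), (0, 2), (0,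 1), (1, 2)]
/-- matrix -/
def mt1 : List (List Z2) := [[(0, 0), (0, 0), (0, 2)], [(0, 0), (2, 0), (0, 0)], [(0, 1), (0, 0), (0, 0)]]
/-- scalars -/
def sc2 : List Z2 := [(0, 0), (1, 1), (1, 1), (2, 2), (2, 1), (1, 2), (0, 1), (2, 0), (1, 2), (1, 1), (1, 0), (1, 1), (1, 1), (0, 2), (1, 0), (2, 2), (2, 0), (2, 2), (2, 1), (0, 2), (0, 2), (0, 1), (1, 1), (1, 1), (1, 1), (1, 2), (2, 2), (2, 1), (2, 0), (0, 1), (0, 2), (2, 0), (1, 2), (2, 0), (2, 1), (2, 0), (1, 2), (2, 2), (0, 2), (1, 1), (2, 1), (1, 0), (1, 2), (2, 2), (2, 2), (0, 2), (0, 1), (1, 2), (0, 1), (2, 1), (0, 2), (1, 2), (2, 1), (1, 0), (0, 1), (1, 0), (1, 0), (2, 2), (2, 1), (2, 0), (1, 1), (1, 2), (1, 0), (2, 2)]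
/-- matrix -/
def mt2 : List (List Z2) := [[(0, 0), (1, 1), (1, 1)], [(0, 0), (2, 1), (1, 2)], [(1, 0), (0, 0), (0, 0)]]

end Cfsg.Agent.H20.U3D
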