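import Mathlib
import Cfsg.Agent.H18_Alt

/-!
# Automorphisms of alternating groups preserving the 3-cycles
-/

set_option autoImplicit false

namespace Cfsg.Agent.H21.AltAut

open Equiv Equiv.Perm Cfsg.Agent.H18.Alt

variable {α : Type*} [DecidableEq α]

/-- two 3-cycles whose product is an involution share a directed edge -/
theorem share [Fintype α] {u v : Perm α} (hu : u.IsThreeCycle) (hv : v.IsThreeCycle) (h1 : u * v ≠ 1)
    (h2 : ∀ x, u (v (u (v x))) = x) :
    ∃ a b x y : α, a ≠ b ∧ a ≠ x ∧ b ≠ x ∧ a ≠ y ∧ b ≠ y ∧ x ≠ y ∧ u = cyc a b x ∧ v = cyc a b y := by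
  -- a common point
  have key : ∀ a b c : α, a ≠ b → a ≠ c → b ≠ c → u = cyc a b c → v a ≠ a →
      ∃ a b x y : α, a ≠ b ∧ a ≠ x ∧ b ≠ x ∧ a ≠ y ∧ b ≠ y ∧ x ≠ y ∧ u = cyc a b x ∧ v = cyc a b y := by
    intro a b c hab hac hbc hu1 hva
    obtain ⟨y, z, hay, haz, hyz, hv1⟩ := exists_cyc hv hva
    have ua : u a = b := by rw [hu1]; exact cyc_apply1 hab hac
    have ub : u b = c := by rw [hu1]; exact cyc_apply2 hbc hac
    have uc : u c = a := by rw [hu1]; exact cyc_apply3
    have un : ∀ x, x ≠ a → x ≠ b → x ≠ c → u x = x := fun x h1 h2 h3 => by rw [hu1]; exact cyc_apply_ne h1 h2 h3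
    have va : v a = y := by rw [hv1]; exact cyc_apply1 hay haz
    have vy : v y = z := by rw [hv1]; exact cyc_apply2 hyz haz
    have vz : v z = a := by rw [hv1]; exact cyc_apply3
    have vn : ∀ x, x ≠ a → x ≠ y → x ≠ z → v x = x := fun x h1 h2 h3 => by rw [hv1]; exact cyc_apply_ne h1 h2 h3
    by_cases hyb : y = b
    · subst hyb
      by_cases hzc : z = c
      · subst hzc
        exfalso
        have := h2 a
        rw [va, ub, vz, ua] at this
        exact hab this.symm
      · exact ⟨a, y, c, z, hab, hac, hbc, haz, hyz, Ne.symm hzc, hu1, hv1⟩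
    by_cases hyc : y = c
    · subst hyc
      by_cases hzb : z = b
      · subst hzb
        exfalso
        apply h1
        rw [hu1, hv1, cyc_rot hay haz, ← cyc_inv, inv_mul_cancel]
      · exfalso
        have := h2 y
        rw [vy, un z haz.symm hzb hyz.symm, vz, ua] at this
        exact hbc this
    by_cases hzb : z = b
    · subst hzb
      exfalso
      have := h2 a
      rw [va, un y hay.symm hyb hyc, vy, ub] at this
      exact hac this.symm
    by_cases hzc : z = c
    · subst hzc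
      refine ⟨z, a, b, y, haz.symm, hbc.symm, hab, hyz.symm, hay, Ne.symm hyb, ?_, ?_⟩
      · rw [hu1, cyc_rot hab hac, cyc_rot hbc hab.symm]
      · rw [hv1, cyc_rot hay haz, cyc_rot hyz hay.symm]
    · exfalso
      have := h2 z
      rw [vz, ua, vn b hab.symm (Ne.symm hyb) (Ne.symm hzb), ub] at this
      exact hzc this.symm
  obtain ⟨a, b, c, hab, hac, hbc, hu1⟩ := exists_cyc' hu
  by_cases hva : v a = a
  · by_cases hvb : v b = b
    · by_cases hvc : v c = c
      · exfalso
        have := h2 a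
        rw [hva] at this
        rw [hu1, cyc_apply1 hab hac, hvb, cyc_apply2 hbc hac] at this
        exact hac this.symm
      · exact key c a b hac.symm hbc.symm hab (by rw [hu1, cyc_rot hab hac, cyc_rot hbc hab.symm]) hvc
    · exact key b c a hbc hab.symm hac.symm (by rw [hu1, cyc_rot hab hac]) hvb
  · exact key a b c hab hac hbc hu1 hva

theorem support_cyc [Fintype α] {a b c : α} (hab : a ≠ b) (hac : a ≠ c) (hbc : b ≠ c) {x : α} :
    cyc a b c x ≠ x ↔ x = a ∨ x = b ∨ x = c := by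
  constructor
  · intro h
    by_contra hne
    push Not at hne
    exact h (cyc_apply_ne hne.1 hne.2.1 hne.2.2)
  · rintro (rfl | rfl | rfl)
    · rw [cyc_apply1 hab hac]; exact hab.symm
    · rw [cyc_apply2 hbc hac]; exact hbc.symm
    · rw [cyc_apply3]; exact hac

/-- a 3-cycle moves only three points -/
theorem four [Fintype α] {u : Perm α} (hu : u.IsThreeCycle) {a b c d : α} (ha : u a ≠ a) (hb : u b ≠ b) (hc : u c ≠ c)
    (hd : u d ≠ d) (hab : a ≠ b) (hac : a ≠ c) (had : a ≠ d) (hbc : b ≠ c) (hbd : b ≠ d) (hcd : c ≠ d) : False := by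
  have h1 := hu.card_support
  have h2 : ({a, b, c, d} : Finset α) ⊆ u.support := by
    intro x hx
    simp only [Finset.mem_insert, Finset.mem_singleton] at hx
    rw [mem_support]
    rcases hx with rfl | rfl | rfl | rfl <;> assumption
  have h3 := Finset.card_le_card h2
  rw [h1, Finset.card_insert_of_notMem, Finset.card_insert_of_notMem, Finset.card_insert_of_notMem, Finset.card_singleton] at h3
  · omega
  · rw [Finset.mem_singleton]; exact hcd
  · simp only [Finset.mem_insert, Finset.mem_singleton, not_or]; exact ⟨hbc, hbd⟩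
  · simp only [Finset.mem_insert, Finset.mem_singleton, not_or]; exact ⟨hab, hac, had⟩

variable [Fintype α]

theorem cyc_sq_id {p q i j : α} (hpq : p ≠ q) (hpi : p ≠ i) (hqi : q ≠ i) (hpj : p ≠ j) (hqj : q ≠ j) (hij : i ≠ j) (x : α) :
    cyc p q i (cyc p q j (cyc p q i (cyc p q j x))) = x := by
  by_cases h1 : x = p
  · subst h1
    rw [cyc_apply1 hpq hpj, cyc_apply2 hqi hpi, cyc_apply_ne hpi.symm hqi.symm hij, cyc_apply3]
  by_cases h2 : x = q
  · subst h2
    rw [cyc_apply2 hqj hpj, cyc_apply_ne hpj.symm hqj.symm hij.symm, cyc_apply3, cyc_apply1 hpq hpi]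
  by_cases h3 : x = i
  · subst h3
    rw [cyc_apply_ne h1 h2 hij, cyc_apply3, cyc_apply1 hpq hpj, cyc_apply2 hqi hpi]
  by_cases h4 : x = j
  · subst h4
    rw [cyc_apply3, cyc_apply1 hpq hpi, cyc_apply2 hqj hpj, cyc_apply_ne h1 h2 h3]
  · rw [cyc_apply_ne h1 h2 h4, cyc_apply_ne h1 h2 h3, cyc_apply_ne h1 h2 h4, cyc_apply_ne h1 h2 h3]

theorem cyc_mem {a b c : α} (hab : a ≠ b) (hac : a ≠ c) (hbc : b ≠ c) : cyc a b c ∈ alternatingGroup α :=
  mem_alternatingGroup.mpr (cyc_isThreeCycle hab hac hbc).sign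

/-- automorphisms preserving the 3-cycles are induced by permutations -/
theorem of_three (h4 : 4 ≤ Fintype.card α) (τ : MulAut (alternatingGroup α))
    (hτ : ∀ c : alternatingGroup α, (c : Perm α).IsThreeCycle → (τ c : Perm α).IsThreeCycle) :
    ∃ σ : Perm α, τ = MulAut.conjNormal σ := by
  obtain ⟨p, q, hpq⟩ : ∃ p q : α, p ≠ q := Fintype.exists_pair_of_one_lt_card (by omega)
  -- two further points
  obtain ⟨i0, j0, hpi, hqi, hpj, hqj, hij⟩ : ∃ i j : α, p ≠ i ∧ q ≠ i ∧ p ≠ j ∧ q ≠ j ∧ i ≠ j := by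
    have h1 : 1 < (({p, q} : Finset α)ᶜ).card := by
      rw [Finset.card_compl, Finset.card_pair hpq]; omega
    obtain ⟨i, hi, j, hj, hij⟩ := Finset.one_lt_card.mp h1
    simp only [Finset.mem_compl, Finset.mem_insert, Finset.mem_singleton, not_or] at hi hj
    exact ⟨i, j, Ne.symm hi.1, Ne.symm hi.2, Ne.symm hj.1, Ne.symm hj.2, hij⟩
  -- images
  let Y : α → Perm α := fun i => if h : p ≠ i ∧ q ≠ i then (τ ⟨cyc p q i, cyc_mem hpq h.1 h.2⟩ : Perm α) else 1
  have hY : ∀ i (h1 : p ≠ i) (h2 : q ≠ i), Y i = (τ ⟨cyc p q i, cyc_mem hpq h1 h2⟩ : Perm α) := by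
    intro i h1 h2
    exact dif_pos ⟨h1, h2⟩
  have hY3 : ∀ i, p ≠ i → q ≠ i → (Y i).IsThreeCycle := by
    intro i h1 h2
    rw [hY i h1 h2]
    exact hτ _ (cyc_isThreeCycle hpq h1 h2)
  have hsq : ∀ i j, p ≠ i → q ≠ i → p ≠ j → q ≠ j → i ≠ j → ∀ x, Y i (Y j (Y i (Y j x))) = x := by
    intro i j h1 h2 h3 h4 h5 x
    have h6 : (⟨cyc p q i, cyc_mem hpq h1 h2⟩ : alternatingGroup α) * ⟨cyc p q j, cyc_mem hpq h3 h4⟩ *
        (⟨cyc p q i, cyc_mem hpq h1 h2⟩ * ⟨cyc p q j, cyc_mem hpq h3 h4⟩) = 1 := by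
      apply Subtype.ext
      apply Equiv.ext
      intro x
      exact cyc_sq_id hpq h1 h2 h3 h4 h5 x
    have h7 := congrArg (fun w => (τ w : Perm α) x) h6
    simp only [map_mul, map_one, Subgroup.coe_mul, Perm.mul_apply, Subgroup.coe_one, Perm.one_apply] at h7
    rw [hY i h1 h2, hY j h3 h4]
    exact h7
  have hne : ∀ i j, p ≠ i → q ≠ i → p ≠ j → q ≠ j → Y i = Y j → i = j := by
    intro i j h1 h2 h3 h4 h5
    rw [hY i h1 h2, hY j h3 h4] at h5
    have h6 := τ.injective (Subtype.ext h5)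
    have h7 : cyc p q i = cyc p q j := congrArg Subtype.val h6
    have h8 := congrArg (fun w : Perm α => w q) h7
    simp only [cyc_apply2 h2 h1, cyc_apply2 h4 h3] at h8
    exact h8
  have hne1 : ∀ i j, p ≠ i → q ≠ i → p ≠ j → q ≠ j → Y i * Y j ≠ 1 := by
    intro i j h1 h2 h3 h4 h5
    rw [hY i h1 h2, hY j h3 h4, ← Subgroup.coe_mul, ← map_mul] at h5
    have h6 : τ (⟨cyc p q i, cyc_mem hpq h1 h2⟩ * ⟨cyc p q j, cyc_mem hpq h3 h4⟩) = τ 1 := by
      rw [map_one]; exact Subtype.ext h5
    have h7 : cyc p q i * cyc p q j = 1 := congrArg Subtype.val (τ.injective h6)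
    have h8 := congrArg (fun w : Perm α => w p) h7
    simp only [Perm.mul_apply, Perm.one_apply, cyc_apply1 hpq h3, cyc_apply2 h2 h1] at h8
    exact h1 h8.symm
  obtain ⟨a, b, z, w, hab, haz, hbz, haw, hbw, hzw, hYi, hYj⟩ := share (hY3 i0 hpi hqi) (hY3 j0 hpj hqj)
    (hne1 i0 j0 hpi hqi hpj hqj) (hsq i0 j0 hpi hqi hpj hqj hij)
  -- all share the edge
  have hedge : ∀ i, p ≠ i → q ≠ i → Y i a = b := by
    intro i h1 h2
    by_cases h3 : i = i0
    · rw [h3, hYi]; exact cyc_apply1 hab haz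
    by_cases h4 : i = j0
    · rw [h4, hYj]; exact cyc_apply1 hab haw
    have h3c := hY3 i h1 h2
    obtain ⟨e, f, x, y, hef, hex, hfx, hey, hfy, hxy, he1, he2⟩ := share h3c (hY3 i0 hpi hqi)
      (hne1 i i0 h1 h2 hpi hqi) (hsq i i0 h1 h2 hpi hqi h3)
    obtain ⟨e', f', x', y', hef', hex', hfx', hey', hfy', hxy', he1', he2'⟩ := share h3c (hY3 j0 hpj hqj)
      (hne1 i j0 h1 h2 hpj hqj) (hsq i j0 h1 h2 hpj hqj h4)
    have ge : Y i e = Y i0 e ∧ Y i0 e ≠ e := by
      rw [he1, he2, cyc_apply1 hef hex, cyc_apply1 hef hey]; exact ⟨rfl, hef.symm⟩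
    have ge' : Y i e' = Y j0 e' ∧ Y j0 e' ≠ e' := by
      rw [he1', he2', cyc_apply1 hef' hex', cyc_apply1 hef' hey']; exact ⟨rfl, hef'.symm⟩
    rw [hYi] at ge
    rw [hYj] at ge'
    have me := (support_cyc hab haz hbz).mp ge.2
    have me' := (support_cyc hab haw hbw).mp ge'.2
    have ia : cyc a b z a = b := cyc_apply1 hab haz
    have ib : cyc a b z b = z := cyc_apply2 hbz haz
    have iz : cyc a b z z = a := cyc_apply3
    have ja : cyc a b w a = b := cyc_apply1 hab haw
    have jb : cyc a b w b = w := cyc_apply2 hbw haw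
    have jw : cyc a b w w = a := cyc_apply3
    -- moved images are moved
    have hmv : ∀ s t : α, Y i s = t → t ≠ s → Y i t ≠ t := by
      intro s t h5 h6 h7
      apply h6
      apply (Y i).injective
      rw [h5, h7]
    rcases me with rfl | rfl | rfl
    · rw [ge.1, ia]
    · rw [ib] at ge
      rcases me' with rfl | rfl | rfl
      · rw [ge'.1, ja]
      · exfalso
        rw [jb] at ge'
        exact hzw (ge.1.symm.trans ge'.1)
      · exfalso
        rw [jw] at ge'
        refine four h3c (a := a) (b := e) (c := z) (d := e') (hmv _ _ ge'.1 ge'.2) ?_ (hmv _ _ ge.1 ge.2) ?_ hab haz haw hbz hbw hzw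
        · rw [ge.1]; exact ge.2
        · rw [ge'.1]; exact ge'.2
    · rw [iz] at ge
      rcases me' with rfl | rfl | rfl
      · rw [ge'.1, ja]
      · exfalso
        rw [jb] at ge'
        refine four h3c (a := a) (b := e') (c := e) (d := w) (hmv _ _ ge.1 ge.2) ?_ ?_ (hmv _ _ ge'.1 ge'.2) hab haz haw hbz hbw hzw
        · rw [ge'.1]; exact ge'.2
        · rw [ge.1]; exact ge.2
      · exfalso
        rw [jw] at ge'
        apply hzw
        apply (Y i).injective
        rw [ge.1, ge'.1]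
  -- description of the images
  have hform : ∀ i, p ≠ i → q ≠ i → a ≠ Y i b ∧ b ≠ Y i b ∧ Y i = cyc a b (Y i b) := by
    intro i h1 h2
    have h3 : Y i a ≠ a := by rw [hedge i h1 h2]; exact hab.symm
    obtain ⟨b', c', hab', hac', hbc', h5⟩ := exists_cyc (hY3 i h1 h2) h3
    have h6 : b' = b := by
      have h7 := hedge i h1 h2
      rw [h5, cyc_apply1 hab' hac'] at h7
      exact h7
    subst h6
    have h8 : Y i b' = c' := by rw [h5]; exact cyc_apply2 hbc' hac'
    rw [h8]
    exact ⟨hac', hbc', h5⟩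
  let s : α → α := fun i => if i = p then a else if i = q then b else Y i b
  have sp : s p = a := if_pos rfl
  have sq' : s q = b := by
    change (if q = p then a else if q = q then b else Y q b) = b
    rw [if_neg hpq.symm, if_pos rfl]
  have sn : ∀ i, p ≠ i → q ≠ i → s i = Y i b := by
    intro i h1 h2
    change (if i = p then a else if i = q then b else Y i b) = Y i b
    rw [if_neg h1.symm, if_neg h2.symm]
  have hs : Function.Injective s := by
    intro i j h
    by_cases h1 : i = p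
    · rw [h1, sp] at h
      by_cases h2 : j = p
      · rw [h1, h2]
      by_cases h3 : j = q
      · exfalso; rw [h3, sq'] at h; exact hab h
      · exfalso
        rw [sn j (Ne.symm h2) (Ne.symm h3)] at h
        exact (hform j (Ne.symm h2) (Ne.symm h3)).1 h
    by_cases h1' : i = q
    · rw [h1', sq'] at h
      by_cases h2 : j = p
      · exfalso; rw [h2, sp] at h; exact hab h.symm
      by_cases h3 : j = q
      · rw [h1', h3]
      · exfalso
        rw [sn j (Ne.symm h2) (Ne.symm h3)] at h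
        exact (hform j (Ne.symm h2) (Ne.symm h3)).2.1 h
    · rw [sn i (Ne.symm h1) (Ne.symm h1')] at h
      by_cases h2 : j = p
      · exfalso
        rw [h2, sp] at h
        exact (hform i (Ne.symm h1) (Ne.symm h1')).1 h.symm
      by_cases h3 : j = q
      · exfalso
        rw [h3, sq'] at h
        exact (hform i (Ne.symm h1) (Ne.symm h1')).2.1 h.symm
      · rw [sn j (Ne.symm h2) (Ne.symm h3)] at h
        apply hne i j (Ne.symm h1) (Ne.symm h1') (Ne.symm h2) (Ne.symm h3)
        rw [(hform i (Ne.symm h1) (Ne.symm h1')).2.2, (hform j (Ne.symm h2) (Ne.symm h3)).2.2, h]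
  let σ : Perm α := Equiv.ofBijective s (Finite.injective_iff_bijective.mp hs)
  have hσ : ∀ i, σ i = s i := fun i => rfl
  refine ⟨σ, ?_⟩
  -- the subgroup on which they agree
  let H : Subgroup (alternatingGroup α) := (τ.toMonoidHom).eqLocus (MulAut.conjNormal σ : MulAut (alternatingGroup α)).toMonoidHom
  have hgen : ∀ i (h1 : p ≠ i) (h2 : q ≠ i), (⟨cyc p q i, cyc_mem hpq h1 h2⟩ : alternatingGroup α) ∈ H := by
    intro i h1 h2
    change τ ⟨cyc p q i, cyc_mem hpq h1 h2⟩ = (MulAut.conjNormal σ : MulAut (alternatingGroup α)) ⟨cyc p q i, cyc_mem hpq h1 h2⟩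
    apply Subtype.ext
    rw [← hY i h1 h2, MulAut.conjNormal_apply]
    change Y i = σ * cyc p q i * σ⁻¹
    rw [cyc_conj, hσ, hσ, hσ, sp, sq', sn i h1 h2]
    exact (hform i h1 h2).2.2
  have hmem : ∀ i, p ≠ i → q ≠ i → cyc p q i ∈ H.map (alternatingGroup α).subtype :=
    fun i h1 h2 => ⟨_, hgen i h1 h2, rfl⟩
  have hcls : cls (H.map (alternatingGroup α).subtype) p = Finset.univ := by
    rw [Finset.eq_univ_iff_forall]
    intro i
    rw [mem_cls]
    by_cases h1 : i = p
    · exact Or.inl h1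
    right
    by_cases h2 : i = q
    · subst h2
      exact ⟨hpq, i0, hpi.symm, hqi.symm, hmem i0 hpi hqi⟩
    · refine ⟨Ne.symm h1, q, hpq.symm, Ne.symm h2, ?_⟩
      have h3 := (H.map (alternatingGroup α).subtype).inv_mem (hmem i (Ne.symm h1) (Ne.symm h2))
      rw [cyc_inv, cyc_rot h2 h1, cyc_rot hpq.symm (Ne.symm h2)] at h3
      exact h3
  have htop : ∀ x : alternatingGroup α, x ∈ H := by
    intro x
    have h1 : (x : Perm α) ∈ alt (cls (H.map (alternatingGroup α).subtype) p) := by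
      rw [hcls, mem_alt]
      exact ⟨mem_alternatingGroup.mp x.2, Finset.subset_univ _⟩
    obtain ⟨y, hy, hyx⟩ := alt_cls_le h1
    have : y = x := Subtype.ext hyx
    rw [← this]; exact hy
  apply MulEquiv.ext
  intro x
  exact htop x

end Cfsg.Agent.H21.AltAut
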