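import Mathlib

set_option autoImplicit false

namespace Cfsg.Agent.H21.Derange

open MulAction

/-- the subgroup generated by the derangements -/
abbrev D (G Ω : Type*) [Group G] [MulAction G Ω] : Subgroup G :=
  Subgroup.closure {g : G | ∀ ω : Ω, g • ω ≠ ω}

variable {G Ω : Type*} [Group G] [MulAction G Ω]

theorem burnside_nat [Finite G] [Finite Ω] [Fintype G] :
    ∑ g : G, Nat.card (fixedBy Ω g) = Nat.card (orbitRel.Quotient G Ω) * Nat.card G := by
  classical
  haveI : Fintype Ω := Fintype.ofFinite Ω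
  haveI : ∀ g : G, Fintype (fixedBy Ω g) := fun g => Fintype.ofFinite _
  haveI : Fintype (orbitRel.Quotient G Ω) := Fintype.ofFinite _
  have := sum_card_fixedBy_eq_card_orbits_mul_card_group G Ω
  simp only [Nat.card_eq_fintype_card]
  exact this

theorem exists_fixed_of_notMem {g : G} (hg : g ∉ D G Ω) : ∃ ω : Ω, g • ω = ω := by
  by_contra h
  push Not at h
  exact hg (Subgroup.subset_closure h)

theorem card_fixedBy_pos_of_notMem [Finite Ω] {g : G} (hg : g ∉ D G Ω) : 1 ≤ Nat.card (fixedBy Ω g) := by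
  obtain ⟨ω, hω⟩ := exists_fixed_of_notMem (Ω := Ω) hg
  haveI : Nonempty (fixedBy Ω g) := ⟨⟨ω, hω⟩⟩
  exact Nat.card_pos

/-- Number of orbits of `D` is at most one, and elements outside fix exactly one point. -/
theorem main [Finite G] [Finite Ω] [Nonempty Ω] [IsPretransitive G Ω] :
    Nat.card (orbitRel.Quotient (D G Ω) Ω) = 1 ∧ ∀ g : G, g ∉ D G Ω → Nat.card (fixedBy Ω g) = 1 := by
  classical
  haveI : Fintype G := Fintype.ofFinite G
  haveI : Fintype (D G Ω) := Fintype.ofFinite _
  have h1 : ∑ g : G, Nat.card (fixedBy Ω g) = Nat.card G := by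
    rw [burnside_nat]
    have : Nat.card (orbitRel.Quotient G Ω) = 1 := by
      haveI := (pretransitive_iff_subsingleton_quotient G Ω).mp inferInstance
      haveI : Nonempty (orbitRel.Quotient G Ω) := ⟨Quotient.mk'' (Classical.arbitrary Ω)⟩
      exact Nat.card_unique
    rw [this, one_mul]
  have h2 : ∑ g : D G Ω, Nat.card (fixedBy Ω (g : G)) = Nat.card (orbitRel.Quotient (D G Ω) Ω) * Nat.card (D G Ω) := by
    rw [← burnside_nat (G := D G Ω) (Ω := Ω)]
    rfl
  have h2' : ∑ g ∈ Finset.univ.filter (fun g : G => g ∈ D G Ω), Nat.card (fixedBy Ω g) =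
      Nat.card (orbitRel.Quotient (D G Ω) Ω) * Nat.card (D G Ω) := by
    rw [← h2]
    symm
    apply Finset.sum_bij (fun (g : D G Ω) _ => (g : G))
    · intro a _; simp
    · intro a _ b _ h; exact Subtype.ext h
    · intro b hb; simp only [Finset.mem_filter, Finset.mem_univ, true_and] at hb
      exact ⟨⟨b, hb⟩, Finset.mem_univ _, rfl⟩
    · intro a _; rfl
  have hcD : (Finset.univ.filter (fun g : G => g ∈ D G Ω)).card = Nat.card (D G Ω) := by
    rw [Nat.card_eq_fintype_card, Fintype.card_subtype]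
  have h3 : Nat.card G = (Finset.univ.filter (fun g : G => g ∈ D G Ω)).card + (Finset.univ.filter (fun g : G => g ∉ D G Ω)).card := by
    rw [Finset.card_filter_add_card_filter_not, Nat.card_eq_fintype_card, Finset.card_univ]
  have h4 := Finset.sum_filter_add_sum_filter_not Finset.univ (fun g : G => g ∈ D G Ω) (fun g => Nat.card (fixedBy Ω g))
  have hDpos : 0 < Nat.card (D G Ω) := Nat.card_pos
  have h5 : (Finset.univ.filter (fun g : G => g ∉ D G Ω)).card ≤ ∑ g ∈ Finset.univ.filter (fun g : G => g ∉ D G Ω), Nat.card (fixedBy Ω g) := by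
    rw [Finset.card_eq_sum_ones]
    apply Finset.sum_le_sum
    intro g hg
    simp only [Finset.mem_filter, Finset.mem_univ, true_and] at hg
    exact card_fixedBy_pos_of_notMem hg
  have hQ : 1 ≤ Nat.card (orbitRel.Quotient (D G Ω) Ω) := by
    haveI : Nonempty (orbitRel.Quotient (D G Ω) Ω) := ⟨Quotient.mk'' (Classical.arbitrary Ω)⟩
    exact Nat.card_pos
  have hQ1 : Nat.card (orbitRel.Quotient (D G Ω) Ω) = 1 := by
    rw [h1, h2', h3, hcD] at h4
    have : Nat.card (orbitRel.Quotient (D G Ω) Ω) * Nat.card (D G Ω) ≤ 1 * Nat.card (D G Ω) := by omega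
    have := Nat.le_of_mul_le_mul_right this hDpos
    omega
  refine ⟨hQ1, ?_⟩
  have hsum : ∑ g ∈ Finset.univ.filter (fun g : G => g ∉ D G Ω), Nat.card (fixedBy Ω g) = ∑ g ∈ Finset.univ.filter (fun g : G => g ∉ D G Ω), 1 := by
    rw [h1, h2', h3, hcD, hQ1] at h4
    rw [Finset.card_eq_sum_ones] at h4
    omega
  intro g hg
  have := (Finset.sum_eq_sum_iff_of_le (f := fun _ : G => 1) (g := fun g : G => Nat.card (fixedBy Ω g)) (s := Finset.univ.filter (fun g : G => g ∉ D G Ω)) (by
    intro g hg
    simp only [Finset.mem_filter, Finset.mem_univ, true_and] at hg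
    exact card_fixedBy_pos_of_notMem hg)).mp hsum.symm g (by simpa using hg)
  exact this.symm

theorem D_top_of_isEmpty [IsEmpty Ω] : D G Ω = ⊤ := by
  rw [eq_top_iff]
  intro g _
  exact Subgroup.subset_closure (fun ω => isEmptyElim ω)

theorem D_pretransitive [Finite G] [Finite Ω] [IsPretransitive G Ω] : IsPretransitive (D G Ω) Ω := by
  rcases isEmpty_or_nonempty Ω with h | h
  · exact ⟨fun x => isEmptyElim x⟩
  · rw [pretransitive_iff_subsingleton_quotient]
    have := (main (G := G) (Ω := Ω)).1
    exact (Nat.card_eq_one_iff_unique.mp this).1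

instance D_normal : (D G Ω).Normal := by
  constructor
  intro n hn g
  induction hn using Subgroup.closure_induction with
  | mem x hx =>
    apply Subgroup.subset_closure
    intro ω h
    apply hx (g⁻¹ • ω)
    rw [mul_smul, mul_smul] at h
    nth_rewrite 2 [← h]
    simp
  | one => simp
  | mul x y _ _ hx hy =>
    have : g * (x * y) * g⁻¹ = (g * x * g⁻¹) * (g * y * g⁻¹) := by group
    rw [this]; exact Subgroup.mul_mem _ hx hy
  | inv x _ hx =>
    have : g * x⁻¹ * g⁻¹ = (g * x * g⁻¹)⁻¹ := by group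
    rw [this]; exact Subgroup.inv_mem _ hx

/-- orbits with stabilizers contained in `K` have length divisible by the index of `K`. -/
theorem index_dvd_card {H X : Type*} [Group H] [MulAction H X] [Finite H] [Finite X] (K : Subgroup H)
    (hK : ∀ x : X, stabilizer H x ≤ K) : K.index ∣ Nat.card X := by
  classical
  have e := selfEquivSigmaOrbits H X
  rw [Nat.card_congr e]
  haveI : Fintype (Quotient (orbitRel H X)) := Fintype.ofFinite _
  rw [Nat.card_sigma]
  apply Finset.dvd_sum
  intro ω _
  have h1 : Nat.card (orbit H (Quotient.out ω)) = (stabilizer H (Quotient.out ω)).index := by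
    rw [index_stabilizer]; rfl
  rw [h1]
  exact Subgroup.index_dvd_of_le (hK _)

theorem index_dvd_card_sub_one [Finite G] [Finite Ω] [Nonempty Ω] [IsPretransitive G Ω] :
    (D G Ω).index ∣ Nat.card Ω - 1 := by
  classical
  obtain ⟨a⟩ := ‹Nonempty Ω›
  haveI : Nonempty Ω := ⟨a⟩
  haveI := D_pretransitive (G := G) (Ω := Ω)
  have hidx : ((D G Ω).subgroupOf (stabilizer G a)).index = (D G Ω).index := by
    have hsup : stabilizer G a ⊔ D G Ω = ⊤ := by
      rw [eq_top_iff]
      intro g _
      obtain ⟨d, hd⟩ := exists_smul_eq (D G Ω) a (g • a)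
      have hd' : (d : G) • a = g • a := hd
      have h1 : (d : G)⁻¹ * g ∈ stabilizer G a := by
        rw [mem_stabilizer_iff, mul_smul, ← hd', inv_smul_smul]
      have : g = (d : G) * ((d : G)⁻¹ * g) := by group
      rw [this]
      exact Subgroup.mul_mem _ (Subgroup.mem_sup_right d.2) (Subgroup.mem_sup_left h1)
    have := Subgroup.relIndex_sup_right (stabilizer G a) (D G Ω)
    rw [hsup, Subgroup.relIndex_top_right] at this
    exact this.symm
  have h := index_dvd_card (H := stabilizer G a) (X := SubMulAction.ofStabilizer G a) ((D G Ω).subgroupOf (stabilizer G a)) (by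
    rintro ⟨x, hx⟩ ⟨g, hg⟩ hgx
    rw [Subgroup.mem_subgroupOf]
    by_contra hgD
    have h1 := (main (G := G) (Ω := Ω)).2 g hgD
    have hxa : x ≠ a := hx
    have hx1 : g • x = x := congrArg Subtype.val hgx
    have ha1 : g • a = a := hg
    obtain ⟨hs, _⟩ := Nat.card_eq_one_iff_unique.mp h1
    have := hs.elim (⟨x, hx1⟩ : fixedBy Ω g) ⟨a, ha1⟩
    exact hxa (congrArg Subtype.val this))
  rw [hidx] at h
  have hc := SubMulAction.nat_card_ofStabilizer_add_one_eq G a
  have : Nat.card (SubMulAction.ofStabilizer G a) = Nat.card Ω - 1 := by omega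
  rwa [this] at h

end Cfsg.Agent.H21.Derange
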