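import Mathlib

set_option autoImplicit false

/-! Frobenius groups `E ⋊ ⟨c⟩`, `E` a finite field, `c` a unit of `E`. -/

namespace Cfsg.Agent.H21.FrobGrp

variable {E : Type*} [Field E]

/-- multiplication action of `⟨c⟩` on the additive group of `E` -/
def act (c : Eˣ) : Subgroup.zpowers c →* MulAut (Multiplicative E) where
  toFun a :=
    { toFun := fun v => Multiplicative.ofAdd (((a : Eˣ) : E) * v.toAdd)
      invFun := fun v => Multiplicative.ofAdd ((((a⁻¹ : Subgroup.zpowers c) : Eˣ) : E) * v.toAdd)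
      left_inv := fun v => by
        apply Multiplicative.toAdd.injective
        simp [← mul_assoc]
      right_inv := fun v => by
        apply Multiplicative.toAdd.injective
        simp [← mul_assoc]
      map_mul' := fun v w => by
        apply Multiplicative.toAdd.injective
        simp [mul_add] }
  map_one' := by
    ext v
    apply Multiplicative.toAdd.injective
    simp
  map_mul' a b := by
    ext v
    apply Multiplicative.toAdd.injective
    simp [mul_assoc]

/-- the group `E ⋊ ⟨c⟩` -/
abbrev Grp (c : Eˣ) : Type _ := Multiplicative E ⋊[act c] Subgroup.zpowers c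

theorem act_apply (c : Eˣ) (a : Subgroup.zpowers c) (v : Multiplicative E) :
    act c a v = Multiplicative.ofAdd (((a : Eˣ) : E) * v.toAdd) := rfl

theorem pow_left (c : Eˣ) (x : Grp c) (k : ℕ) :
    ((x ^ k).left).toAdd = (∑ i ∈ Finset.range k, ((x.right : Eˣ) : E) ^ i) * x.left.toAdd := by
  induction k with
  | zero => simp
  | succ k ih =>
    rw [pow_succ, SemidirectProduct.mul_left, toAdd_mul, ih, act_apply, Finset.sum_range_succ, add_mul]
    congr 1
    have : (x ^ k).right = x.right ^ k := by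
      exact map_pow (SemidirectProduct.rightHom : Grp c →* _) x k
    rw [this]
    simp

theorem pow_right (c : Eˣ) (x : Grp c) (k : ℕ) : (x ^ k).right = x.right ^ k :=
  map_pow (SemidirectProduct.rightHom : Grp c →* _) x k

theorem orderOf_of_right_ne (c : Eˣ) (x : Grp c) (h : x.right ≠ 1) : orderOf x = orderOf x.right := by
  have key : ∀ k : ℕ, x ^ k = 1 ↔ x.right ^ k = 1 := by
    intro k
    constructor
    · intro hk
      rw [← pow_right, hk]; rfl
    · intro hk
      have h1 : (x.right : Eˣ) ≠ 1 := fun h' => h (Subtype.ext h')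
      have h2 : ((x.right : Eˣ) : E) ≠ 1 := fun h' => h1 (Units.ext h')
      have h3 : ((x.right : Eˣ) : E) ^ k = 1 := by
        have := congrArg (fun z : Subgroup.zpowers c => ((z : Eˣ) : E)) hk
        simpa using this
      have h4 : (∑ i ∈ Finset.range k, ((x.right : Eˣ) : E) ^ i) = 0 := by
        rw [geom_sum_eq h2, h3, sub_self, zero_div]
      apply SemidirectProduct.ext
      · apply Multiplicative.toAdd.injective
        rw [pow_left, h4, zero_mul]; rfl
      · rw [pow_right, hk]; rfl
  rw [orderOf_eq_orderOf_iff]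
  exact key

theorem orderOf_of_right_eq (c : Eˣ) (p : ℕ) [Fact p.Prime] [CharP E p] (x : Grp c) (h : x.right = 1) : orderOf x ∣ p := by
  apply orderOf_dvd_of_pow_eq_one
  apply SemidirectProduct.ext
  · apply Multiplicative.toAdd.injective
    rw [pow_left, h]
    simp
  · rw [pow_right, h, one_pow]; rfl

theorem exists_p (c : Eˣ) (p : ℕ) [hp : Fact p.Prime] [CharP E p] : ∃ x : Grp c, orderOf x = p := by
  refine ⟨⟨Multiplicative.ofAdd 1, 1⟩, ?_⟩
  rcases (Nat.dvd_prime hp.out).mp (orderOf_of_right_eq c p ⟨Multiplicative.ofAdd 1, 1⟩ rfl) with h | h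
  · exfalso
    rw [orderOf_eq_one_iff] at h
    have := congrArg (fun z : Grp c => z.left.toAdd) h
    simp at this
  · exact h

theorem exists_dvd {G : Type*} [Group G] (x : G) (hx : 0 < orderOf x) {m : ℕ} (hm : m ∣ orderOf x) :
    m ∈ Set.range (orderOf : G → ℕ) := by
  obtain ⟨k, hk⟩ := hm
  have hk0 : k ≠ 0 := by rintro rfl; omega
  refine ⟨x ^ k, ?_⟩
  rw [orderOf_pow_of_dvd hk0 ⟨m, by rw [hk, mul_comm]⟩, hk, Nat.mul_div_cancel _ (Nat.pos_of_ne_zero hk0)]

instance finite_Grp [Finite E] (c : Eˣ) : Finite (Grp c) := Finite.of_equiv _ (SemidirectProduct.equivProd).symm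

theorem spectrum [Finite E] (c : Eˣ) (p : ℕ) [hp : Fact p.Prime] [CharP E p] :
    Set.range (orderOf : Grp c → ℕ) = {m | m ∣ p ∨ m ∣ orderOf c} := by
  ext m
  constructor
  · rintro ⟨x, rfl⟩
    by_cases h : x.right = 1
    · left; exact orderOf_of_right_eq c p x h
    · right
      rw [orderOf_of_right_ne c x h, ← Subgroup.orderOf_coe]
      obtain ⟨k, hk⟩ := Subgroup.mem_zpowers_iff.mp x.right.2
      rw [← hk]
      exact orderOf_dvd_of_pow_eq_one (by rw [← zpow_natCast, zpow_comm, zpow_natCast, pow_orderOf_eq_one, one_zpow])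
  · rintro (h | h)
    · obtain ⟨x, hx⟩ := exists_p (E := E) c p
      exact exists_dvd x (orderOf_pos x) (by rw [hx]; exact h)
    · have h1 : orderOf (⟨1, ⟨c, Subgroup.mem_zpowers c⟩⟩ : Grp c) = orderOf c := by
        by_cases hc : c = 1
        · subst hc
          rw [orderOf_one]
          have : (⟨1, ⟨1, Subgroup.mem_zpowers 1⟩⟩ : Grp (1 : Eˣ)) = 1 := rfl
          rw [this, orderOf_one]
        · rw [orderOf_of_right_ne c _ (fun h => hc (congrArg Subtype.val h)), ← Subgroup.orderOf_coe]
      exact exists_dvd _ (orderOf_pos _) (by rw [h1]; exact h)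

theorem solvable (c : Eˣ) : Group.IsSolvable (Grp c) := by
  have : Group.IsSolvable (Multiplicative E) := inferInstance
  have h2 : Group.IsSolvable (Subgroup.zpowers c) := Group.isSolvable_of_comm (fun a b => mul_comm a b)
  exact Group.isSolvable_of_ker_le_range (SemidirectProduct.inl : Multiplicative E →* Grp c) SemidirectProduct.rightHom
    (by rw [SemidirectProduct.range_inl_eq_ker_rightHom])

theorem card_Grp (c : Eˣ) : Nat.card (Grp c) = Nat.card E * orderOf c := by
  rw [SemidirectProduct.card, Nat.card_zpowers]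
  rfl

theorem exists_unit [Finite E] {n : ℕ} (h : n ∣ Nat.card E - 1) : ∃ c : Eˣ, orderOf c = n := by
  have h1 : Nat.card Eˣ = Nat.card E - 1 := Nat.card_units E
  obtain ⟨g, hg⟩ := IsCyclic.exists_ofOrder_eq_natCard (α := Eˣ)
  have h2 : n ∣ orderOf g := by rw [hg, h1]; exact h
  exact exists_dvd g (orderOf_pos g) h2

theorem range_prod {G H : Type*} [Group G] [Group H] :
    Set.range (orderOf : G × H → ℕ) = {m | ∃ a ∈ Set.range (orderOf : G → ℕ), ∃ b ∈ Set.range (orderOf : H → ℕ), m = Nat.lcm a b} := by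
  ext m
  constructor
  · rintro ⟨⟨x, y⟩, rfl⟩
    exact ⟨_, ⟨x, rfl⟩, _, ⟨y, rfl⟩, Prod.orderOf_mk⟩
  · rintro ⟨_, ⟨x, rfl⟩, _, ⟨y, rfl⟩, rfl⟩
    exact ⟨(x, y), Prod.orderOf_mk⟩

end Cfsg.Agent.H21.FrobGrp
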