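import Mathlib
import Cfsg.Agent.H21_GLo2

/-!
# Element orders of linear groups through commutative algebras, V: direct powers of `PSL_n(q)`
-/

set_option autoImplicit false
open Matrix Polynomial

namespace Cfsg.Agent.H21.GLo

/-! ### commuting idempotents -/

section idem

variable {F : Type*} [Field F] {R : Type*} [Ring R] [Algebra F R]

/-- the combination `c e + d (1 - e)` -/
noncomputable def comb (e : R) (x : F × F) : R := x.1 • e + x.2 • (1 - e)

theorem comb_mul {e : R} (he : e * e = e) (x y : F × F) : comb e x * comb e y = comb e (x * y) := by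
  have h1 : e * (1 - e) = 0 := by rw [mul_sub, mul_one, he, sub_self]
  have h2 : (1 - e) * e = 0 := by rw [sub_mul, one_mul, he, sub_self]
  have h3 : (1 - e) * (1 - e) = 1 - e := by rw [mul_sub, mul_one, h2, sub_zero]
  simp only [comb, add_mul, mul_add, smul_mul_smul_comm, he, h1, h2, h3, smul_zero, add_zero, zero_add, Prod.fst_mul, Prod.snd_mul]

theorem comb_one (e : R) : comb e (1 : F × F) = 1 := by
  simp only [comb, Prod.fst_one, Prod.snd_one, one_smul, add_sub_cancel]

theorem comb_pow {e : R} (he : e * e = e) (x : F × F) (s : ℕ) : comb e x ^ s = comb e (x ^ s) := by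
  induction s with
  | zero => rw [pow_zero, pow_zero, comb_one]
  | succ s ih => rw [pow_succ, ih, comb_mul he, pow_succ]

theorem comb_diag (e : R) (c : F) : comb e (c, c) = algebraMap F R c := by
  simp only [comb]
  rw [← smul_add, add_sub_cancel, Algebra.algebraMap_eq_smul_one]

theorem comb_inj {e : R} (he : e * e = e) (he0 : e ≠ 0) (he1 : e ≠ 1) {x y : F × F} (h : comb e x = comb e y) : x = y := by
  have h1 : e * (1 - e) = 0 := by rw [mul_sub, mul_one, he, sub_self]
  have h2 : (1 - e) * e = 0 := by rw [sub_mul, one_mul, he, sub_self]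
  have h3 : (1 - e) * (1 - e) = 1 - e := by rw [mul_sub, mul_one, h2, sub_zero]
  have he1' : 1 - e ≠ 0 := sub_ne_zero.mpr he1.symm
  apply Prod.ext
  · have h4 := congrArg (· * e) h
    simp only [comb, add_mul, smul_mul_assoc, he, h2, smul_zero, add_zero] at h4
    rw [← sub_eq_zero, ← sub_smul] at h4
    by_contra hne
    apply he0
    have h5 := congrArg (fun z => (x.1 - y.1)⁻¹ • z) h4
    simp only [smul_smul, inv_mul_cancel₀ (sub_ne_zero.mpr hne), one_smul, smul_zero] at h5
    exact h5
  · have h4 := congrArg (· * (1 - e)) h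
    simp only [comb, add_mul, smul_mul_assoc, h1, h3, smul_zero, zero_add] at h4
    rw [← sub_eq_zero, ← sub_smul] at h4
    by_contra hne
    apply he1'
    have h5 := congrArg (fun z => (x.2 - y.2)⁻¹ • z) h4
    simp only [smul_smul, inv_mul_cancel₀ (sub_ne_zero.mpr hne), one_smul, smul_zero] at h5
    exact h5

theorem comb_commute {e X : R} (hc : Commute e X) (x : F × F) : Commute (comb e x) X := by
  unfold comb
  exact (hc.smul_left _).add_left (((Commute.one_left X).sub_left hc).smul_left _)

end idem

/-- a commuting idempotent gives a commuting element of order `r` -/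
theorem exists_comm_of_idem {F : Type*} [Field F] [Fintype F] {n r : ℕ} (hr : r.Prime) (hrq : r ∣ Fintype.card F - 1) (hrn : ¬ r ∣ n)
    (X : SpecialLinearGroup (Fin n) F) (e : Matrix (Fin n) (Fin n) F) (he : e * e = e) (he0 : e ≠ 0) (he1 : e ≠ 1)
    (hc : Commute e (X : Matrix (Fin n) (Fin n) F)) :
    ∃ Z : SpecialLinearGroup (Fin n) F, Commute Z X ∧ orderOf (QuotientGroup.mk Z : ProjectiveSpecialLinearGroup (Fin n) F) = r := by
  classical
  obtain ⟨ζ, hζ⟩ := exists_order (E := F) (m := r) (by rwa [Nat.card_eq_fintype_card])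
  have hprim : IsPrimitiveRoot ζ r := by rw [← hζ]; exact IsPrimitiveRoot.orderOf ζ
  have hcard := hprim.card_nthRootsFinset
  set S := Polynomial.nthRootsFinset r (1 : F) with hS
  have hmem : ∀ x : F, x ∈ S ↔ x ^ r = 1 := fun x => Polynomial.mem_nthRootsFinset hr.pos 1
  have hlt : S.card < (S ×ˢ S).card := by
    rw [Finset.card_product, hcard]
    have := hr.one_lt
    nlinarith
  obtain ⟨x, hx, y, hy, hxy, hdet⟩ := Finset.exists_ne_map_eq_of_card_lt_of_maps_to hlt
    (f := fun x => Matrix.det (comb e x)) (by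
      intro x hx
      rw [Finset.mem_coe, Finset.mem_product, hmem, hmem] at hx
      rw [Finset.mem_coe, hmem]
      change (Matrix.det (comb e x)) ^ r = 1
      rw [← Matrix.det_pow, comb_pow he]
      have : x ^ r = 1 := Prod.ext hx.1 hx.2
      rw [this, comb_one, Matrix.det_one])
  rw [Finset.mem_product, hmem, hmem] at hx hy
  have hy1 : y.1 ≠ 0 := by rintro h; rw [h, zero_pow hr.ne_zero] at hy; exact zero_ne_one hy.1
  have hy2 : y.2 ≠ 0 := by rintro h; rw [h, zero_pow hr.ne_zero] at hy; exact zero_ne_one hy.2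
  have hx1 : x.1 ≠ 0 := by rintro h; rw [h, zero_pow hr.ne_zero] at hx; exact zero_ne_one hx.1
  have hx2 : x.2 ≠ 0 := by rintro h; rw [h, zero_pow hr.ne_zero] at hx; exact zero_ne_one hx.2
  set z : F × F := (x.1 / y.1, x.2 / y.2) with hz
  have hzy : z * y = x := Prod.ext (div_mul_cancel₀ _ hy1) (div_mul_cancel₀ _ hy2)
  have hzr : z ^ r = 1 := by
    apply Prod.ext
    · change (x.1 / y.1) ^ r = 1
      rw [div_pow, hx.1, hy.1, div_one]
    · change (x.2 / y.2) ^ r = 1
      rw [div_pow, hx.2, hy.2, div_one]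
  have hzne : z ≠ 1 := by
    intro h
    rw [h, one_mul] at hzy
    exact hxy hzy.symm
  have hdz : Matrix.det (comb e z) = 1 := by
    have h1 : Matrix.det (comb e z) * Matrix.det (comb e y) = Matrix.det (comb e x) := by
      rw [← Matrix.det_mul, comb_mul he, hzy]
    have h2 : Matrix.det (comb e y) ≠ 0 := by
      intro h0
      have h3 : (Matrix.det (comb e y)) ^ r = 1 := by
        rw [← Matrix.det_pow, comb_pow he]
        have : y ^ r = 1 := Prod.ext hy.1 hy.2
        rw [this, comb_one, Matrix.det_one]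
      rw [h0, zero_pow hr.ne_zero] at h3
      exact zero_ne_one h3
    have h3 : Matrix.det (comb e x) = Matrix.det (comb e y) := hdet
    rw [h3] at h1
    exact mul_right_cancel₀ h2 (h1.trans (one_mul _).symm)
  obtain ⟨Z, hZ⟩ : ∃ Z : SpecialLinearGroup (Fin n) F, (Z : Matrix (Fin n) (Fin n) F) = comb e z := ⟨⟨comb e z, hdz⟩, rfl⟩
  refine ⟨Z, ?_, ?_⟩
  · apply Subtype.ext
    change (Z : Matrix (Fin n) (Fin n) F) * (X : Matrix (Fin n) (Fin n) F) = (X : Matrix (Fin n) (Fin n) F) * (Z : Matrix (Fin n) (Fin n) F)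
    rw [hZ]
    exact (comb_commute hc z).eq
  · haveI : Fact r.Prime := ⟨hr⟩
    apply orderOf_eq_prime
    · rw [mk_pow_iff]
      refine ⟨1, ?_⟩
      rw [hZ, comb_pow he, hzr, comb_one, map_one]
    · intro h1
      rw [← pow_one (QuotientGroup.mk Z : ProjectiveSpecialLinearGroup (Fin n) F), mk_pow_iff] at h1
      obtain ⟨c, hc1⟩ := h1
      rw [pow_one, hZ, ← comb_diag e] at hc1
      have h2 := comb_inj he he0 he1 hc1
      have h3 : c ^ n = 1 := by
        rw [h2, comb_diag, Algebra.algebraMap_eq_smul_one, Matrix.det_smul, Matrix.det_one, mul_one, Fintype.card_fin] at hdz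
        exact hdz
      have h4 : c ^ r = 1 := by
        have := congrArg Prod.fst hzr
        rw [h2] at this
        exact this
      have h5 := Nat.dvd_gcd (orderOf_dvd_of_pow_eq_one h3) (orderOf_dvd_of_pow_eq_one h4)
      have h6 : Nat.gcd n r = 1 := ((Nat.Prime.coprime_iff_not_dvd hr).mpr hrn).symm
      rw [h6] at h5
      have h7 := orderOf_eq_one_iff.mp (Nat.dvd_one.mp h5)
      apply hzne
      rw [h2, h7]; rfl

/-! ### the local case -/

/-- an element of a finite extension fixed by the Frobenius is in the base field -/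
theorem mem_base {F K : Type*} [Field F] [Fintype F] [Field K] [Algebra F K] {a : K} (ha : a ^ Fintype.card F = a) :
    ∃ c : F, a = algebraMap F K c := by
  classical
  by_contra hcon
  push Not at hcon
  have h1 : (X ^ Fintype.card F - X : K[X]) ≠ 0 := FiniteField.X_pow_card_sub_X_ne_zero K Fintype.one_lt_card
  have h2 : insert a (Finset.univ.image (algebraMap F K)) ⊆ (X ^ Fintype.card F - X : K[X]).roots.toFinset := by
    intro b hb
    rw [Multiset.mem_toFinset, Polynomial.mem_roots h1, Polynomial.IsRoot.def, Polynomial.eval_sub, Polynomial.eval_pow, Polynomial.eval_X, sub_eq_zero]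
    rw [Finset.mem_insert, Finset.mem_image] at hb
    rcases hb with rfl | ⟨c, -, rfl⟩
    · exact ha
    · rw [← map_pow, FiniteField.pow_card]
  have h3 := Finset.card_le_card h2
  rw [Finset.card_insert_of_notMem (by
    rw [Finset.mem_image]; rintro ⟨c, -, hc⟩; exact hcon c hc.symm), Finset.card_image_of_injective _ (algebraMap F K).injective, Finset.card_univ] at h3
  have h4 := Multiset.toFinset_card_le (X ^ Fintype.card F - X : K[X]).roots
  have h5 := Polynomial.card_roots' (X ^ Fintype.card F - X : K[X])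
  rw [FiniteField.X_pow_card_sub_X_natDegree_eq K Fintype.one_lt_card] at h5
  omega

/-- the sum `1 + q + ... + q^(n-1)` modulo `q - 1` -/
theorem gcd_geom (q n : ℕ) (hq : 1 ≤ q) : Nat.gcd (∑ i ∈ Finset.range n, q ^ i) (q - 1) = Nat.gcd n (q - 1) := by
  have h1 : q ≡ 1 [MOD q - 1] := by
    have : q = (q - 1) + 1 := by omega
    conv_lhs => rw [this]
    simp [Nat.ModEq]
  have h2 : (∑ i ∈ Finset.range n, q ^ i) ≡ n [MOD q - 1] := by
    induction n with
    | zero => rfl
    | succ n ih =>
      rw [Finset.sum_range_succ]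
      apply ih.add
      have := h1.pow n
      rwa [one_pow] at this
  exact h2.gcd_eq

theorem geom_mul (q d k : ℕ) : (∑ i ∈ Finset.range (d * k), q ^ i) = (∑ i ∈ Finset.range d, q ^ i) * ∑ j ∈ Finset.range k, (q ^ d) ^ j := by
  induction k with
  | zero => simp
  | succ k ih =>
    rw [Nat.mul_succ, Finset.sum_range_add, ih, Finset.sum_range_succ (n := k), mul_add]
    congr 1
    rw [Finset.sum_mul]
    apply Finset.sum_congr rfl
    intro i _
    rw [← pow_mul, pow_add]
    ring

end Cfsg.Agent.H21.GLo
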