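import Mathlib
import Cfsg.Agent.H21_GLo5

/-!
# Element orders of linear groups through commutative algebras, VI: direct powers of `PSL_n(q)`
-/

set_option autoImplicit false
open Matrix Polynomial

namespace Cfsg.Agent.H21.GLo

section loc

variable {F : Type*} [Field F] [Fintype F]

theorem irred_of_no_idem {n : ℕ} (hn : n ≠ 0) (Y : Matrix (Fin n) (Fin n) F) {N : ℕ} (hN : N ≠ 0)
    (hY : Y ^ (Fintype.card F ^ N) = Y) (hno : ∀ e : Matrix (Fin n) (Fin n) F, e * e = e → (∃ f : F[X], e = aeval Y f) → e = 0 ∨ e = 1) :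
    Irreducible (minpoly F Y) := by
  haveI := nontrivial_AX hn Y
  let ψ : AX Y →ₐ[F] AX Y := (FiniteField.frobeniusAlgHom F (AX Y)) ^ N
  have hψ : ∀ (m : ℕ) (a : AX Y), ((FiniteField.frobeniusAlgHom F (AX Y)) ^ m) a = a ^ (Fintype.card F ^ m) := by
    intro m a
    induction m with
    | zero => simp
    | succ m ih =>
      rw [pow_succ', AlgHom.mul_apply, ih]
      change (a ^ Fintype.card F ^ m) ^ Fintype.card F = _
      rw [← pow_mul, pow_succ]
  have hrt : (rt Y) ^ (Fintype.card F ^ N) = rt Y := by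
    apply ev_injective
    rw [map_pow, ev_rt, hY]
  have hid : ψ = AlgHom.id F (AX Y) := by
    apply AdjoinRoot.algHom_ext
    exact (hψ N (rt Y)).trans hrt
  have hpow : ∀ a : AX Y, a ^ (Fintype.card F ^ N) = a := by
    intro a
    rw [← hψ N a]
    change ψ a = a
    rw [hid]; rfl
  have hq : 1 < Fintype.card F ^ N := Nat.one_lt_pow hN Fintype.one_lt_card
  haveI : NoZeroDivisors (AX Y) := by
    refine ⟨fun {a b} hab => ?_⟩
    by_contra hcon
    push Not at hcon
    obtain ⟨ha, hb⟩ := hcon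
    set e := a ^ (Fintype.card F ^ N - 1) with he
    have hee : e * e = e := by
      rw [he, ← pow_add]
      have : Fintype.card F ^ N - 1 + (Fintype.card F ^ N - 1) = Fintype.card F ^ N + (Fintype.card F ^ N - 2) := by omega
      rw [this, pow_add, hpow, ← pow_succ']
      congr 1; omega
    have hea : e * a = a := by
      rw [he, ← pow_succ, Nat.sub_add_cancel hq.le, hpow]
    rcases hno (ev Y e) (by rw [← map_mul, hee]) (by
      obtain ⟨f, hf⟩ := AdjoinRoot.mk_surjective e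
      exact ⟨f, by rw [← hf, ev_mk]⟩) with h | h
    · have : e = 0 := ev_injective Y (h.trans (map_zero _).symm)
      rw [this, zero_mul] at hea
      exact ha hea.symm
    · have h1 : e = 1 := ev_injective Y (h.trans (map_one _).symm)
      have h2 : a ^ (Fintype.card F ^ N - 2) * a = 1 := by
        rw [← pow_succ, ← h1, he]
        congr 1; omega
      apply hb
      calc b = (a ^ (Fintype.card F ^ N - 2) * a) * b := by rw [h2, one_mul]
        _ = a ^ (Fintype.card F ^ N - 2) * (a * b) := by ring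
        _ = 0 := by rw [hab, mul_zero]
  haveI : IsDomain (AX Y) := NoZeroDivisors.to_isDomain _
  have h1 : Irreducible (minpoly F (rt Y)) := minpoly.irreducible (Algebra.IsIntegral.isIntegral (rt Y))
  have h2 : minpoly F (ev Y (rt Y)) = minpoly F (rt Y) := minpoly.algHom_eq (ev Y) (ev_injective Y) (rt Y)
  rw [ev_rt] at h2
  rw [h2]; exact h1

/-- the determinant as a power of a norm -/
theorem det_eq_norm_pow {n : ℕ} (Y : Matrix (Fin n) (Fin n) F) (hirr : Irreducible (minpoly F Y)) :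
    ∃ k : ℕ, Module.finrank F (AX Y) * k = n ∧ Y.det = (Algebra.norm F (rt Y)) ^ k := by
  haveI : Fact (Irreducible (minpoly F Y)) := ⟨hirr⟩
  let φ : AX Y →+* Module.End F (Fin n → F) := (Matrix.toLinAlgEquiv' : Matrix (Fin n) (Fin n) F ≃ₐ[F] _).toAlgHom.toRingHom.comp (ev Y).toRingHom
  letI : Module (AX Y) (Fin n → F) := Module.compHom _ φ
  have hsmul : ∀ (a : AX Y) (v : Fin n → F), a • v = (ev Y a) *ᵥ v := fun a v => rfl
  haveI : IsScalarTower F (AX Y) (Fin n → F) := by
    refine ⟨fun c a v => ?_⟩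
    rw [hsmul, hsmul, map_smul, Matrix.smul_mulVec]
  refine ⟨Module.finrank (AX Y) (Fin n → F), ?_, ?_⟩
  · rw [Module.finrank_mul_finrank, Module.finrank_fin_fun]
  · have h1 := LinearMap.det_restrictScalars (R := F) (S := AX Y) (A := Fin n → F) (f := (rt Y) • LinearMap.id)
    rw [LinearMap.det_smul, LinearMap.det_id, mul_one, map_pow] at h1
    rw [← h1, ← LinearMap.det_toLin']
    congr 1
    apply LinearMap.ext
    intro v
    change Y *ᵥ v = (rt Y) • v
    rw [hsmul, ev_rt]

theorem local_aux {n : ℕ} (hn : n ≠ 0) (Y : Matrix (Fin n) (Fin n) F) (hdet : Y.det = 1) (hirr : Irreducible (minpoly F Y)) :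
    ∃ c : F, Y ^ ((∑ i ∈ Finset.range n, Fintype.card F ^ i) / Nat.gcd n (Fintype.card F - 1)) = algebraMap F _ c := by
  haveI : Fact (Irreducible (minpoly F Y)) := ⟨hirr⟩
  haveI : Finite (AX Y) := Module.finite_of_finite F
  obtain ⟨k, hk, hN⟩ := det_eq_norm_pow Y hirr
  rw [hdet] at hN
  set q := Fintype.card F with hq
  set d := Module.finrank F (AX Y) with hd
  have hq1 : 1 < q := Fintype.one_lt_card
  have h1 : algebraMap F (AX Y) (Algebra.norm F (rt Y)) = (rt Y) ^ ∑ i ∈ Finset.range d, q ^ i := by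
    rw [FiniteField.algebraMap_norm_eq_pow_sum, Nat.card_eq_fintype_card]
  have h2 : (rt Y) ^ (∑ i ∈ Finset.range n, q ^ i) = 1 := by
    have hg : ∑ i ∈ Finset.range n, q ^ i = (∑ i ∈ Finset.range d, q ^ i) * ∑ j ∈ Finset.range k, (q ^ d) ^ j := by
      have := geom_mul q d k
      rw [hk] at this
      exact this
    rw [hg, pow_mul, ← h1, ← map_pow]
    have h3 : (Algebra.norm F (rt Y)) ^ (∑ j ∈ Finset.range k, (q ^ d) ^ j) = (Algebra.norm F (rt Y)) ^ k := by
      rw [← Finset.prod_pow_eq_pow_sum]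
      rw [Finset.prod_congr rfl (g := fun _ => Algebra.norm F (rt Y)) (by
        intro j _
        rw [← pow_mul]
        exact FiniteField.pow_card_pow (d * j) (Algebra.norm F (rt Y)))]
      rw [Finset.prod_const, Finset.card_range]
    rw [h3, ← hN, map_one]
  set S := ∑ i ∈ Finset.range n, q ^ i with hS
  have hδ : Nat.gcd n (q - 1) ∣ S := by
    rw [← gcd_geom q n hq1.le]
    exact Nat.gcd_dvd_left _ _
  obtain ⟨M, hM⟩ := hδ
  obtain ⟨u, hu⟩ := Nat.gcd_dvd_right n (q - 1)
  have hδpos : 0 < Nat.gcd n (q - 1) := Nat.gcd_pos_of_pos_left _ (Nat.pos_of_ne_zero hn)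
  have hdiv : S / Nat.gcd n (q - 1) = M := by
    rw [hM]; exact Nat.mul_div_cancel_left _ hδpos
  rw [hdiv]
  have h4 : ((rt Y) ^ M) ^ q = (rt Y) ^ M := by
    have h5 : ((rt Y) ^ M) ^ (q - 1) = 1 := by
      have : M * (q - 1) = S * u := by
        rw [hM]; nlinarith [hu]
      rw [← pow_mul, this, pow_mul, h2, one_pow]
    calc ((rt Y) ^ M) ^ q = ((rt Y) ^ M) ^ (q - 1 + 1) := by rw [Nat.sub_add_cancel hq1.le]
      _ = _ := by rw [pow_succ, h5, one_mul]
  obtain ⟨c, hc⟩ := mem_base h4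
  exact (rt_pow_iff Y M).mpr ⟨c, hc⟩

/-- the local case -/
theorem local_case (p : ℕ) [hp : Fact p.Prime] [CharP F p] {n : ℕ} (hn : n ≠ 0) (X : SpecialLinearGroup (Fin n) F)
    (hno : ∀ e : Matrix (Fin n) (Fin n) F, e * e = e → Commute e (X : Matrix (Fin n) (Fin n) F) → e = 0 ∨ e = 1) :
    ∃ T : ℕ, orderOf (QuotientGroup.mk X : ProjectiveSpecialLinearGroup (Fin n) F) ∣
      p ^ T * ((∑ i ∈ Finset.range n, Fintype.card F ^ i) / Nat.gcd n (Fintype.card F - 1)) := by
  haveI : Finite (SpecialLinearGroup (Fin n) F) := inferInstance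
  obtain ⟨T, w, hw, ho⟩ := Nat.exists_eq_pow_mul_and_not_dvd (orderOf_pos X).ne' p hp.out.ne_one
  refine ⟨T, ?_⟩
  obtain ⟨a, ha⟩ := FiniteField.card F p
  have hwpos : w ≠ 0 := by
    rintro rfl
    exact hw (dvd_zero _)
  set Y : SpecialLinearGroup (Fin n) F := X ^ (p ^ T) with hY
  have hYw : Y ^ w = 1 := by rw [hY, ← pow_mul, ← ho, pow_orderOf_eq_one]
  have hcop : Nat.Coprime (Fintype.card F) w := by
    rw [ha.2]
    exact Nat.Coprime.pow_left _ ((Nat.Prime.coprime_iff_not_dvd hp.out).mpr hw)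
  have hmod := Nat.ModEq.pow_totient hcop
  have hN0 : Nat.totient w ≠ 0 := (Nat.totient_pos.mpr (Nat.pos_of_ne_zero hwpos)).ne'
  have hYN : Y ^ (Fintype.card F ^ Nat.totient w) = Y := by
    have h1 : Fintype.card F ^ Nat.totient w ≡ 1 [MOD orderOf Y] := hmod.of_dvd (orderOf_dvd_of_pow_eq_one hYw)
    have h2 := pow_eq_pow_iff_modEq.mpr h1
    rw [h2, pow_one]
  have hYmat : (Y : Matrix (Fin n) (Fin n) F) = (X : Matrix (Fin n) (Fin n) F) ^ (p ^ T) := Matrix.SpecialLinearGroup.coe_pow X _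
  have hirr : Irreducible (minpoly F (Y : Matrix (Fin n) (Fin n) F)) := by
    apply irred_of_no_idem hn _ hN0
    · rw [← Matrix.SpecialLinearGroup.coe_pow, hYN]
    · rintro e he ⟨f, hf⟩
      apply hno e he
      rw [hf, hYmat]
      have h1 : aeval ((X : Matrix (Fin n) (Fin n) F) ^ (p ^ T)) f = aeval (X : Matrix (Fin n) (Fin n) F) (f.comp (Polynomial.X ^ (p ^ T))) := by
        rw [Polynomial.aeval_comp, map_pow, Polynomial.aeval_X]
      have h2 : (X : Matrix (Fin n) (Fin n) F) = aeval (X : Matrix (Fin n) (Fin n) F) (Polynomial.X : F[X]) := (Polynomial.aeval_X _).symm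
      rw [h1]
      conv_rhs => rw [h2]
      exact (Commute.all _ _).map (aeval (X : Matrix (Fin n) (Fin n) F))
  obtain ⟨c, hc⟩ := local_aux hn (Y : Matrix (Fin n) (Fin n) F) Y.2 hirr
  apply orderOf_dvd_of_pow_eq_one
  rw [mk_pow_iff]
  exact ⟨c, by rw [pow_mul, ← hYmat, hc]⟩

end loc

end Cfsg.Agent.H21.GLo
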