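import Mathlib
import Cfsg.Agent.H21_GLo6
import Cfsg.Agent.H5_FrmOrth

/-!
# Isometries of forms over finite fields: semisimple elements, I (endomorphisms)
-/

set_option autoImplicit false
open Polynomial

namespace Cfsg.Agent.H21.GLf

section endo

variable {F : Type*} [Field F] {V : Type*} [AddCommGroup V] [Module F V] [Module.Finite F V]

/-- the algebra generated by an endomorphism -/
abbrev AE (Y : Module.End F V) : Type _ := AdjoinRoot (minpoly F Y)

theorem isInt (Y : Module.End F V) : IsIntegral F Y := Algebra.IsIntegral.isIntegral Y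

instance (Y : Module.End F V) : Module.Finite F (AE Y) :=
  (minpoly.monic (isInt Y)).finite_adjoinRoot

/-- evaluation -/
noncomputable def evE (Y : Module.End F V) : AE Y →ₐ[F] Module.End F V :=
  Ideal.Quotient.liftₐ (Ideal.span {minpoly F Y}) (Polynomial.aeval Y) (by
    intro a ha
    obtain ⟨b, rfl⟩ := Ideal.mem_span_singleton'.mp ha
    rw [map_mul, minpoly.aeval, mul_zero])

/-- the generator -/
noncomputable def rtE (Y : Module.End F V) : AE Y := AdjoinRoot.root (minpoly F Y)

theorem evE_mk (Y : Module.End F V) (f : F[X]) : evE Y (AdjoinRoot.mk (minpoly F Y) f) = Polynomial.aeval Y f :=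
  rfl

theorem evE_rt (Y : Module.End F V) : evE Y (rtE Y) = Y := by
  have h := evE_mk Y X
  rw [Polynomial.aeval_X] at h
  exact h

theorem evE_injective (Y : Module.End F V) : Function.Injective (evE Y) := by
  rw [injective_iff_map_eq_zero]
  intro a ha
  obtain ⟨f, rfl⟩ := AdjoinRoot.mk_surjective a
  rw [evE_mk] at ha
  rw [AdjoinRoot.mk_eq_zero]
  exact minpoly.dvd F Y ha

variable [Fintype F]

theorem irred_end [Nontrivial V] (Y : Module.End F V) {N : ℕ} (hN : N ≠ 0)
    (hY : Y ^ (Fintype.card F ^ N) = Y) (hno : ∀ e : Module.End F V, e * e = e → (∃ f : F[X], e = aeval Y f) → e = 0 ∨ e = 1) :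
    Irreducible (minpoly F Y) := by
  haveI : Nontrivial (AE Y) := by
    refine ⟨⟨0, 1, fun h => ?_⟩⟩
    have h1 := congrArg (evE Y) h
    rw [map_zero, map_one] at h1
    exact zero_ne_one h1
  have hψ : ∀ (m : ℕ) (a : AE Y), ((FiniteField.frobeniusAlgHom F (AE Y)) ^ m) a = a ^ (Fintype.card F ^ m) := by
    intro m a
    induction m with
    | zero => simp
    | succ m ih =>
      rw [pow_succ', AlgHom.mul_apply, ih]
      change (a ^ Fintype.card F ^ m) ^ Fintype.card F = _
      rw [← pow_mul, pow_succ]
  have hrt : (rtE Y) ^ (Fintype.card F ^ N) = rtE Y := by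
    apply evE_injective
    rw [map_pow, evE_rt, hY]
  have hid : (FiniteField.frobeniusAlgHom F (AE Y)) ^ N = AlgHom.id F (AE Y) := by
    apply AdjoinRoot.algHom_ext
    exact (hψ N (rtE Y)).trans hrt
  have hpow : ∀ a : AE Y, a ^ (Fintype.card F ^ N) = a := by
    intro a
    rw [← hψ N a, hid]; rfl
  have hq : 1 < Fintype.card F ^ N := Nat.one_lt_pow hN Fintype.one_lt_card
  haveI : NoZeroDivisors (AE Y) := by
    refine ⟨fun {a b} hab => ?_⟩
    by_contra hcon
    push Not at hcon
    obtain ⟨ha, hb⟩ := hcon
    set e := a ^ (Fintype.card F ^ N - 1) with he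
    have hee : e * e = e := by
      rw [he, ← pow_add]
      have : Fintype.card F ^ N - 1 + (Fintype.card F ^ N - 1) = Fintype.card F ^ N + (Fintype.card F ^ N - 2) := by omega
      rw [this, pow_add, hpow, ← pow_succ']
      congr 1; omega
    have hea : e * a = a := by
      rw [he, ← pow_succ, Nat.sub_add_cancel hq.le, hpow]
    rcases hno (evE Y e) (by rw [← map_mul, hee]) (by
      obtain ⟨f, hf⟩ := AdjoinRoot.mk_surjective e
      exact ⟨f, by rw [← hf, evE_mk]⟩) with h | h
    · have : e = 0 := evE_injective Y (h.trans (map_zero _).symm)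
      rw [this, zero_mul] at hea
      exact ha hea.symm
    · have h1 : e = 1 := evE_injective Y (h.trans (map_one _).symm)
      have h2 : a ^ (Fintype.card F ^ N - 2) * a = 1 := by
        rw [← pow_succ, ← h1, he]
        congr 1; omega
      apply hb
      calc b = (a ^ (Fintype.card F ^ N - 2) * a) * b := by rw [h2, one_mul]
        _ = a ^ (Fintype.card F ^ N - 2) * (a * b) := by ring
        _ = 0 := by rw [hab, mul_zero]
  haveI : IsDomain (AE Y) := NoZeroDivisors.to_isDomain _
  have h1 : Irreducible (minpoly F (rtE Y)) := minpoly.irreducible (Algebra.IsIntegral.isIntegral (rtE Y))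
  have h2 : minpoly F (evE Y (rtE Y)) = minpoly F (rtE Y) := minpoly.algHom_eq (evE Y) (evE_injective Y) (rtE Y)
  rw [evE_rt] at h2
  rw [h2]; exact h1

omit [Fintype F] in
/-- the space as a vector space over the field generated by `Y` -/
theorem field_end (Y : Module.End F V) (hirr : Irreducible (minpoly F Y)) :
    ∃ k : ℕ, Module.finrank F (AE Y) * k = Module.finrank F V ∧ (∀ a : AE Y, LinearMap.det (evE Y a) = (Algebra.norm F a) ^ k) ∧
      ∀ M : Module.End F V, Commute M Y → IsNilpotent M → M ^ k = 0 := by
  haveI : Fact (Irreducible (minpoly F Y)) := ⟨hirr⟩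
  letI : Module (AE Y) V := Module.compHom V (evE Y).toRingHom
  have hsmul : ∀ (a : AE Y) (v : V), a • v = (evE Y a) v := fun a v => rfl
  haveI : IsScalarTower F (AE Y) V := by
    refine ⟨fun c a v => ?_⟩
    rw [hsmul, hsmul, map_smul, LinearMap.smul_apply]
  haveI : Module.Finite (AE Y) V := Module.Finite.of_restrictScalars_finite F (AE Y) V
  refine ⟨Module.finrank (AE Y) V, ?_, ?_, ?_⟩
  · rw [Module.finrank_mul_finrank]
  · intro a
    have h1 := LinearMap.det_restrictScalars (R := F) (S := AE Y) (A := V) (f := a • LinearMap.id)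
    rw [LinearMap.det_smul, LinearMap.det_id, mul_one, map_pow] at h1
    rw [← h1]
    congr 1
  · rintro M hM hnil
    have hcomm : ∀ a : AE Y, Commute M (evE Y a) := by
      intro a
      obtain ⟨f, rfl⟩ := AdjoinRoot.mk_surjective a
      rw [evE_mk]
      induction f using Polynomial.induction_on with
      | C c => rw [aeval_C]; exact (Algebra.commutes c M).symm
      | add f g hf hg => rw [map_add]; exact hf.add_right hg
      | monomial n c _ => rw [map_mul, map_pow, aeval_C, aeval_X]; exact (show Commute M (algebraMap F _ c) from (Algebra.commutes c M).symm).mul_right (hM.pow_right _)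
    let M' : Module.End (AE Y) V :=
      { toFun := M
        map_add' := M.map_add
        map_smul' := by
          intro a v
          rw [RingHom.id_apply, hsmul, hsmul]
          exact LinearMap.congr_fun (hcomm a).eq v }
    have hpow : ∀ (j : ℕ) (v : V), (M' ^ j) v = (M ^ j) v := by
      intro j
      induction j with
      | zero => intro v; rfl
      | succ j ih =>
        intro v
        rw [pow_succ, pow_succ, Module.End.mul_apply, Module.End.mul_apply, ih]; rfl
    have hnil' : IsNilpotent M' := by
      obtain ⟨N, hN⟩ := hnil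
      refine ⟨N, LinearMap.ext fun v => ?_⟩
      rw [hpow, hN]; rfl
    rw [LinearMap.isNilpotent_iff_charpoly] at hnil'
    have h4 := LinearMap.aeval_self_charpoly M'
    rw [hnil', map_pow, Polynomial.aeval_X] at h4
    apply LinearMap.ext
    intro v
    rw [← hpow, h4]; rfl

end endo

end Cfsg.Agent.H21.GLf
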