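import Mathlib
import Cfsg.Agent.H21_GLf1

/-!
# Isometries of forms over finite fields: semisimple elements, II (adjoints and idempotents)
-/

set_option autoImplicit false
open Polynomial

namespace Cfsg.Agent.H21.GLf

open Cfsg.Agent.H5

variable {F : Type*} [Field F] {σ : F →+* F} {ε : F} {t : F →+ F} {V : Type*} [AddCommGroup V] [Module F V]

/-- adjoint pairs -/
def Adj (A : Frm F σ ε t V) (P P' : Module.End F V) : Prop := ∀ u v, A.B (P u) v = A.B u (P' v)

theorem Adj.symm {A : Frm F σ ε t V} {P P' : Module.End F V} (h : Adj A P P') : Adj A P' P := by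
  intro u v
  rw [A.symm v (P' u), ← h, ← A.symm]

theorem Adj.mul {A : Frm F σ ε t V} {P P' R R' : Module.End F V} (h : Adj A P P') (h' : Adj A R R') : Adj A (P * R) (R' * P') := by
  intro u v
  rw [Module.End.mul_apply, Module.End.mul_apply, h, h']

theorem Adj.add {A : Frm F σ ε t V} {P P' R R' : Module.End F V} (h : Adj A P P') (h' : Adj A R R') : Adj A (P + R) (P' + R') := by
  intro u v
  rw [LinearMap.add_apply, LinearMap.add_apply, map_add, map_add, LinearMap.add_apply, h, h']

theorem Adj.one (A : Frm F σ ε t V) : Adj A 1 1 := fun _ _ => rfl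

theorem Adj.scalar (A : Frm F σ ε t V) (c : F) : Adj A (algebraMap F _ c) (algebraMap F _ (σ c)) := by
  intro u v
  rw [Module.algebraMap_end_apply, Module.algebraMap_end_apply, LinearMap.map_smulₛₗ₂, map_smul]

theorem Adj.pow {A : Frm F σ ε t V} {P P' : Module.End F V} (h : Adj A P P') (n : ℕ) : Adj A (P ^ n) (P' ^ n) := by
  induction n with
  | zero => exact Adj.one A
  | succ n ih => rw [pow_succ, pow_succ']; exact ih.mul h

theorem Adj.unique {A : Frm F σ ε t V} (hA : A.Nondeg) {P P' P'' : Module.End F V} (h : Adj A P P') (h' : Adj A P P'') : P' = P'' := by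
  apply LinearMap.ext
  intro v
  rw [← sub_eq_zero]
  apply hA.right
  intro u
  rw [map_sub, ← h, ← h', sub_self]

theorem Adj.unique' {A : Frm F σ ε t V} (hA : A.Nondeg) {P P' P'' : Module.End F V} (h : Adj A P' P) (h' : Adj A P'' P) : P' = P'' :=
  Adj.unique hA h.symm h'.symm

theorem Adj.zero (A : Frm F σ ε t V) : Adj A 0 0 := by
  intro u v
  rw [LinearMap.zero_apply, LinearMap.zero_apply, map_zero, map_zero, LinearMap.zero_apply]

theorem Adj.aeval {A : Frm F σ ε t V} {P P' : Module.End F V} (h : Adj A P P') (f : F[X]) :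
    Adj A (Polynomial.aeval P f) (Polynomial.aeval P' (f.map σ)) := by
  induction f using Polynomial.induction_on with
  | C c => rw [aeval_C, map_C, aeval_C]; exact Adj.scalar A c
  | add f g hf hg => rw [map_add, Polynomial.map_add, map_add]; exact hf.add hg
  | monomial n c _ =>
    rw [map_mul, map_pow, aeval_C, aeval_X, Polynomial.map_mul, Polynomial.map_pow, map_C, map_X, map_mul, map_pow, aeval_C, aeval_X]
    have h1 := (Adj.scalar A c).mul (h.pow (n + 1))
    rwa [← Algebra.commutes] at h1

/-- isometries and inverses -/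
theorem adj_of_isometry {A : Frm F σ ε t V} {Y : Module.End F V} (hY : ∀ u v, A.B (Y u) (Y v) = A.B u v) {w : ℕ} (hw : Y ^ (w + 1) = 1) :
    Adj A Y (Y ^ w) := by
  intro u v
  have : v = Y ((Y ^ w) v) := by
    rw [← Module.End.mul_apply, ← pow_succ', hw]; rfl
  conv_lhs => rw [this]
  rw [hY]

theorem isometry_of_adj {A : Frm F σ ε t V} {Y Y' : Module.End F V} (h : Adj A Y Y') (h' : Y' * Y = 1) :
    ∀ u v, A.B (Y u) (Y v) = A.B u v := by
  intro u v
  rw [h, ← Module.End.mul_apply, h']; rfl

/-- the set of idempotents in `F[Y]` -/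
def Idem (Y e : Module.End F V) : Prop := e * e = e ∧ ∃ f : F[X], e = Polynomial.aeval Y f

theorem Idem.comm {Y e e' : Module.End F V} (h : Idem Y e) (h' : Idem Y e') : e * e' = e' * e := by
  obtain ⟨-, f, rfl⟩ := h
  obtain ⟨-, g, rfl⟩ := h'
  rw [← map_mul, ← map_mul, mul_comm]

theorem Idem.mul {Y e e' : Module.End F V} (h : Idem Y e) (h' : Idem Y e') : Idem Y (e * e') := by
  refine ⟨?_, ?_⟩
  · calc e * e' * (e * e') = e * (e' * e) * e' := by simp only [mul_assoc]
      _ = (e * e) * (e' * e') := by rw [← h.comm h']; simp only [mul_assoc]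
      _ = e * e' := by rw [h.1, h'.1]
  · obtain ⟨-, f, rfl⟩ := h
    obtain ⟨-, g, rfl⟩ := h'
    exact ⟨f * g, by rw [map_mul]⟩

theorem Idem.add {Y e e' : Module.End F V} (h : Idem Y e) (h' : Idem Y e') (h0 : e * e' = 0) : Idem Y (e + e') := by
  refine ⟨?_, ?_⟩
  · have h1 : e' * e = 0 := by rw [h'.comm h, h0]
    rw [add_mul, mul_add, mul_add, h.1, h'.1, h0, h1, zero_add, add_zero]
  · obtain ⟨-, f, rfl⟩ := h
    obtain ⟨-, g, rfl⟩ := h'
    exact ⟨f + g, by rw [map_add]⟩

theorem Idem.adj {A : Frm F σ ε t V} (hA : A.Nondeg) {Y e : Module.End F V} (hY : ∀ u v, A.B (Y u) (Y v) = A.B u v) {w : ℕ}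
    (hw : Y ^ (w + 1) = 1) (h : Idem Y e) : ∃ e', Idem Y e' ∧ Adj A e e' := by
  obtain ⟨h1, f, rfl⟩ := h
  have h2 := (adj_of_isometry hY hw).aeval f
  refine ⟨_, ⟨?_, ⟨(f.map σ).comp (X ^ w), ?_⟩⟩, h2⟩
  · have h3 := h2.mul h2
    rw [h1] at h3
    exact Adj.unique hA h3 h2
  · rw [Polynomial.aeval_comp, map_pow, Polynomial.aeval_X]

variable [Module.Finite F V]

/-- an idempotent of full rank below another one is equal to it -/
theorem idem_eq_of_rank {e g : Module.End F V} (he : e * e = e) (hg : g * g = g) (hge : e * g = g) (hcomm : e * g = g * e)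
    (hr : Module.finrank F (LinearMap.range e) ≤ Module.finrank F (LinearMap.range g)) : g = e := by
  have h1 : LinearMap.range g ≤ LinearMap.range e := by
    rintro _ ⟨v, rfl⟩
    exact ⟨g v, by rw [← Module.End.mul_apply, hge]⟩
  have h2 := Submodule.eq_of_le_of_finrank_le h1 hr
  apply LinearMap.ext
  intro v
  have h3 : e v ∈ LinearMap.range g := by rw [h2]; exact ⟨v, rfl⟩
  obtain ⟨z, hz⟩ := h3
  have h4 : g (e v) = e v := by rw [← hz, ← Module.End.mul_apply, hg]
  rw [← h4, ← Module.End.mul_apply, ← hcomm, hge]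

/-- the dichotomy for semisimple isometries without self-adjoint idempotents -/
theorem dichot [Nontrivial V] {A : Frm F σ ε t V} (hA : A.Nondeg) {Y : Module.End F V} (hY : ∀ u v, A.B (Y u) (Y v) = A.B u v) {w : ℕ}
    (hw : Y ^ (w + 1) = 1) (hno : ∀ e : Module.End F V, Idem Y e → Adj A e e → e = 0 ∨ e = 1) :
    (∀ e : Module.End F V, Idem Y e → e = 0 ∨ e = 1) ∨
    ∃ e e' : Module.End F V, Idem Y e ∧ Idem Y e' ∧ e * e' = 0 ∧ e + e' = 1 ∧ Adj A e e' ∧
      ∀ g : Module.End F V, Idem Y g → e * g = g → g = 0 ∨ g = e := by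
  classical
  -- a primitive idempotent
  have hex : ∃ n : ℕ, ∃ e : Module.End F V, Idem Y e ∧ e ≠ 0 ∧ Module.finrank F (LinearMap.range e) = n :=
    ⟨_, 1, ⟨mul_one 1, 1, by rw [map_one]⟩, one_ne_zero, rfl⟩
  obtain ⟨e, he, he0, hen⟩ := Nat.find_spec hex
  have hmin : ∀ g : Module.End F V, Idem Y g → g ≠ 0 → Module.finrank F (LinearMap.range e) ≤ Module.finrank F (LinearMap.range g) := by
    intro g hg hg0
    rw [hen]
    exact Nat.find_min' hex ⟨g, hg, hg0, rfl⟩
  have hprim : ∀ g : Module.End F V, Idem Y g → e * g = g → g = 0 ∨ g = e := by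
    intro g hg hge
    by_cases hg0 : g = 0
    · left; exact hg0
    · right
      exact idem_eq_of_rank he.1 hg.1 hge (he.comm hg) (hmin g hg hg0)
  obtain ⟨e', he', hadj⟩ := he.adj hA hY hw
  by_cases h0 : e * e' = 0
  · right
    have h1 : Idem Y (e + e') := he.add he' h0
    have h2 : Adj A (e + e') (e + e') := by
      have := hadj.add hadj.symm
      rwa [add_comm e' e] at this
    rcases hno _ h1 h2 with h3 | h3
    · exfalso
      have h4 := congrArg (e * ·) h3
      simp only [mul_add, he.1, h0, mul_zero, add_zero] at h4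
      exact he0 h4
    · exact ⟨e, e', he, he', h0, h3, hadj, hprim⟩
  · left
    have h1 := hprim (e * e') (he.mul he') (by rw [← mul_assoc, he.1])
    have h2 := h1.resolve_left h0
    have h3 : Adj A e e := by
      have h4 : Adj A (e * e') (e * e') := hadj.mul hadj.symm
      rwa [h2] at h4
    have h4 := (hno e he h3).resolve_left he0
    intro g hg
    rw [h4] at hprim
    exact hprim g hg (one_mul g)

/-- in the second case both halves have the same dimension -/
theorem half {A : Frm F σ ε t V} (hA : A.Nondeg) {e e' : Module.End F V} (h0 : e * e' = 0) (h0' : e' * e = 0) (h1 : e + e' = 1) (hadj : Adj A e e')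
    (he : e * e = e) (he' : e' * e' = e') : 2 * Module.finrank F (LinearMap.range e) = Module.finrank F V := by
  have key : ∀ g g' : Module.End F V, Adj A g g' → g' * g = 0 → 2 * Module.finrank F (LinearMap.range g) ≤ Module.finrank F V := by
    intro g g' hgg hg0
    have h2 : LinearMap.range g ≤ A.orth (LinearMap.range g) := by
      rintro _ ⟨v, rfl⟩
      rw [A.mem_orth]
      rintro _ ⟨u, rfl⟩
      rw [hgg, ← Module.End.mul_apply, hg0, LinearMap.zero_apply, map_zero]
    have h3 := Submodule.finrank_mono h2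
    have h4 := Frm.finrank_orth hA (LinearMap.range g)
    omega
  have k1 := key e e' hadj h0'
  have k2 := key e' e hadj.symm h0
  have k3 : LinearMap.range e ⊔ LinearMap.range e' = ⊤ := by
    rw [eq_top_iff]
    intro v _
    have : v = e v + e' v := by
      rw [← LinearMap.add_apply, h1]; rfl
    rw [this]
    exact Submodule.add_mem_sup ⟨v, rfl⟩ ⟨v, rfl⟩
  have k4 := Submodule.finrank_add_le_finrank_add_finrank (LinearMap.range e) (LinearMap.range e')
  rw [k3, finrank_top] at k4
  omega

end Cfsg.Agent.H21.GLf
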