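import Mathlib
import Cfsg.Agent.H21_GLf2

/-!
# Isometries of forms over finite fields: semisimple elements, III (the symplectic structure theorem)
-/

set_option autoImplicit false
open Polynomial

namespace Cfsg.Agent.H21.GLf

open Cfsg.Agent.H5

section rho

variable {F : Type*} [Field F] {V : Type*} [AddCommGroup V] [Module F V]

/-- restriction to the range of an idempotent -/
noncomputable def rho (e P : Module.End F V) : Module.End F (LinearMap.range e) :=
  e.rangeRestrict ∘ₗ P ∘ₗ (LinearMap.range e).subtype

theorem apply_range {e : Module.End F V} (he : e * e = e) (x : LinearMap.range e) : e (x : V) = x := by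
  obtain ⟨_, v, rfl⟩ := x
  exact LinearMap.congr_fun he v

theorem rho_val {e P : Module.End F V} (he : e * e = e) (hc : Commute e P) (x : LinearMap.range e) : ((rho e P x : LinearMap.range e) : V) = P x := by
  change e (P (x : V)) = P x
  rw [← Module.End.mul_apply, hc.eq, Module.End.mul_apply, apply_range he]

theorem rho_mul {e P Q : Module.End F V} (he : e * e = e) (hP : Commute e P) (hQ : Commute e Q) : rho e (P * Q) = rho e P * rho e Q := by
  apply LinearMap.ext
  intro x
  apply Subtype.ext
  rw [rho_val he (hP.mul_right hQ), Module.End.mul_apply, Module.End.mul_apply, rho_val he hP, rho_val he hQ]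

theorem rho_add (e P Q : Module.End F V) : rho e (P + Q) = rho e P + rho e Q := by
  apply LinearMap.ext
  intro x
  apply Subtype.ext
  change e ((P + Q) (x : V)) = e (P x) + e (Q x)
  rw [LinearMap.add_apply, map_add]

theorem rho_one {e : Module.End F V} (he : e * e = e) : rho e 1 = 1 := by
  apply LinearMap.ext
  intro x
  apply Subtype.ext
  rw [rho_val he (Commute.one_right e)]; rfl

theorem rho_pow {e P : Module.End F V} (he : e * e = e) (hP : Commute e P) (n : ℕ) : rho e (P ^ n) = rho e P ^ n := by
  induction n with
  | zero => rw [pow_zero, pow_zero, rho_one he]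
  | succ n ih => rw [pow_succ, pow_succ, rho_mul he (hP.pow_right n) hP, ih]

theorem rho_algebraMap {e : Module.End F V} (he : e * e = e) (c : F) : rho e (algebraMap F _ c) = algebraMap F _ c := by
  apply LinearMap.ext
  intro x
  apply Subtype.ext
  rw [rho_val he (Algebra.commutes c e).symm]; rfl

theorem comm_aeval {e P : Module.End F V} (hP : Commute e P) (f : F[X]) : Commute e (aeval P f) := by
  induction f using Polynomial.induction_on with
  | C c => rw [aeval_C]; exact (Algebra.commutes c e).symm
  | add f g hf hg => rw [map_add]; exact hf.add_right hg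
  | monomial n c _ => rw [map_mul, map_pow, aeval_C, aeval_X]; exact (show Commute e (algebraMap F _ c) from (Algebra.commutes c e).symm).mul_right (hP.pow_right _)

theorem rho_aeval {e P : Module.End F V} (he : e * e = e) (hP : Commute e P) (f : F[X]) : rho e (aeval P f) = aeval (rho e P) f := by
  induction f using Polynomial.induction_on with
  | C c => rw [aeval_C, aeval_C, rho_algebraMap he]
  | add f g hf hg => rw [map_add, map_add, rho_add, hf, hg]
  | monomial n c _ =>
    rw [map_mul, map_pow, aeval_C, aeval_X, map_mul, map_pow, aeval_C, aeval_X, rho_mul he (Algebra.commutes c e).symm (hP.pow_right _),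
      rho_algebraMap he, rho_pow he hP]

theorem eq_zero_of_rho {e P : Module.End F V} (he : e * e = e) (hP : Commute e P) (h : rho e P = 0) : P * e = 0 := by
  apply LinearMap.ext
  intro v
  rw [Module.End.mul_apply]
  have h1 := rho_val he hP ⟨e v, v, rfl⟩
  rw [h] at h1
  exact h1.symm

theorem mul_eq_of_rho {e P Q : Module.End F V} (he : e * e = e) (hP : Commute e P) (hQ : Commute e Q) (h : rho e P = rho e Q) : P * e = Q * e := by
  apply LinearMap.ext
  intro v
  rw [Module.End.mul_apply, Module.End.mul_apply]
  have h1 := rho_val he hP ⟨e v, v, rfl⟩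
  have h2 := rho_val he hQ ⟨e v, v, rfl⟩
  rw [h] at h1
  exact h1.symm.trans h2

theorem rho_self {e : Module.End F V} (he : e * e = e) : rho e e = 1 := by
  apply LinearMap.ext
  intro x
  apply Subtype.ext
  rw [rho_val he (Commute.refl e), apply_range he]; rfl

theorem Idem.commute {Y e : Module.End F V} (h : Idem Y e) {P : Module.End F V} (hP : Commute Y P) : Commute e P := by
  obtain ⟨-, f, rfl⟩ := h
  exact (comm_aeval hP.symm f).symm

variable [Module.Finite F V] [Fintype F]

/-- a primitive idempotent: the restriction of `Y` generates a field -/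
theorem irred_rho {Y e : Module.End F V} (he : Idem Y e) (he0 : e ≠ 0) {N : ℕ} (hN : N ≠ 0)
    (hY : Y ^ (Fintype.card F ^ N) = Y) (hprim : ∀ g : Module.End F V, Idem Y g → e * g = g → g = 0 ∨ g = e) :
    Irreducible (minpoly F (rho e Y)) := by
  have hc : Commute e Y := he.commute (Commute.refl Y)
  haveI : Nontrivial (LinearMap.range e) := by
    rw [Submodule.nontrivial_iff_ne_bot, Ne, LinearMap.range_eq_bot]
    exact he0
  apply irred_end _ hN
  · rw [← rho_pow he.1 hc, hY]
  · rintro g hg ⟨f, rfl⟩
    have hcf := comm_aeval hc f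
    have h1 : Idem Y (e * aeval Y f) := by
      refine ⟨?_, ?_⟩
      · have h2 : aeval Y f * aeval Y f * e = aeval Y f * e := by
          apply mul_eq_of_rho he.1 (hcf.mul_right hcf) hcf
          rw [rho_mul he.1 hcf hcf, rho_aeval he.1 hc, hg]
        calc e * aeval Y f * (e * aeval Y f) = e * (aeval Y f * e) * aeval Y f := by simp only [mul_assoc]
          _ = e * e * (aeval Y f * aeval Y f) := by rw [← hcf.eq]; simp only [mul_assoc]
          _ = e * (aeval Y f * aeval Y f) := by rw [he.1]
          _ = (aeval Y f * aeval Y f) * e := (hcf.mul_right hcf).eq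
          _ = e * aeval Y f := by rw [h2, hcf.eq]
      · obtain ⟨-, f', hf'⟩ := he
        exact ⟨f' * f, by rw [map_mul, ← hf']⟩
    rcases hprim _ h1 (by rw [← mul_assoc, he.1]) with h3 | h3
    · left
      rw [← rho_aeval he.1 hc]
      have h4 : rho e (e * aeval Y f) = rho e (aeval Y f) := by rw [rho_mul he.1 (Commute.refl e) hcf, rho_self he.1, one_mul]
      rw [← h4, h3]
      apply LinearMap.ext
      intro x
      apply Subtype.ext
      rw [rho_val he.1 (Commute.zero_right e)]; rfl
    · right
      rw [← rho_aeval he.1 hc]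
      have h4 : rho e (e * aeval Y f) = rho e (aeval Y f) := by rw [rho_mul he.1 (Commute.refl e) hcf, rho_self he.1, one_mul]
      rw [← h4, h3, rho_self he.1]

end rho

section frob

variable {F : Type*} [Field F] [Fintype F] {K : Type*} [Field K] [Algebra F K] [Module.Finite F K]

theorem frob_pow_apply (m : ℕ) (a : K) : ((FiniteField.frobeniusAlgHom F K) ^ m) a = a ^ (Fintype.card F ^ m) := by
  induction m with
  | zero => simp
  | succ m ih =>
    rw [pow_succ', AlgHom.mul_apply, ih]
    change (a ^ Fintype.card F ^ m) ^ Fintype.card F = _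
    rw [← pow_mul, pow_succ]

end frob

/-- conjugate roots in the field generated by `Y` -/
theorem exists_frob {F : Type*} [Field F] [Fintype F] (f : F[X]) (hf : Irreducible f) (hm : f.Monic) (z : AdjoinRoot f) (hz : aeval z f = 0) :
    ∃ i, i < f.natDegree ∧ z = (AdjoinRoot.root f) ^ (Fintype.card F ^ i) := by
  haveI : Fact (Irreducible f) := ⟨hf⟩
  haveI : Module.Finite F (AdjoinRoot f) := hm.finite_adjoinRoot
  haveI : Finite (AdjoinRoot f) := Module.finite_of_finite F
  let τ : AdjoinRoot f →ₐ[F] AdjoinRoot f := Ideal.Quotient.liftₐ (Ideal.span {f}) (Polynomial.aeval z) (by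
    intro a ha
    obtain ⟨b, rfl⟩ := Ideal.mem_span_singleton'.mp ha
    rw [map_mul, hz, mul_zero])
  have hτ : τ (AdjoinRoot.root f) = z := by
    have h1 : τ (AdjoinRoot.mk f X) = aeval z (X : F[X]) := rfl
    rwa [AdjoinRoot.mk_X, aeval_X] at h1
  obtain ⟨i, hi⟩ := (FiniteField.bijective_frobeniusAlgHom_pow F (AdjoinRoot f)).2 τ
  have hfin : Module.finrank F (AdjoinRoot f) = f.natDegree := by
    rw [(AdjoinRoot.powerBasis' hm).finrank, AdjoinRoot.powerBasis'_dim]
  refine ⟨i, by rw [← hfin]; exact i.2, ?_⟩
  rw [← hτ, ← hi]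
  exact frob_pow_apply _ _

/-- degrees and Frobenius fixed points -/
theorem dvd_of_frob {F : Type*} [Field F] [Fintype F] (f : F[X]) (hf : Irreducible f) (hm : f.Monic) (j : ℕ)
    (h : (AdjoinRoot.root f) ^ (Fintype.card F ^ j) = AdjoinRoot.root f) : f.natDegree ∣ j := by
  haveI : Fact (Irreducible f) := ⟨hf⟩
  haveI : Module.Finite F (AdjoinRoot f) := hm.finite_adjoinRoot
  haveI : Finite (AdjoinRoot f) := Module.finite_of_finite F
  have hfin : Module.finrank F (AdjoinRoot f) = f.natDegree := by
    rw [(AdjoinRoot.powerBasis' hm).finrank, AdjoinRoot.powerBasis'_dim]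
  rw [← hfin, ← FiniteField.orderOf_frobeniusAlgHom F (AdjoinRoot f)]
  apply orderOf_dvd_of_pow_eq_one
  apply AdjoinRoot.algHom_ext
  rw [frob_pow_apply, h]; rfl

end Cfsg.Agent.H21.GLf
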