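import Mathlib
import Cfsg.Agent.H21_GLf3

/-!
# Isometries of forms over finite fields: semisimple elements, IV (the symplectic structure theorem)
-/

set_option autoImplicit false
open Polynomial

namespace Cfsg.Agent.H21.GLf

open Cfsg.Agent.H5

theorem sp_struct {F : Type*} [Field F] [Fintype F] (p : ℕ) [hp : Fact p.Prime] [CharP F p] {V : Type*} [AddCommGroup V] [Module F V]
    [Module.Finite F V] [Nontrivial V] {ε : F} {t : F →+ F} {A : Frm F (RingHom.id F) ε t V} (hA : A.Nondeg) {Y : Module.End F V}
    (hY : ∀ u v, A.B (Y u) (Y v) = A.B u v) {w : ℕ} (hw : Y ^ w = 1) (hodd : Odd w) (hwp : ¬ p ∣ w)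
    (hno : ∀ e : Module.End F V, Idem Y e → Adj A e e → e = 0 ∨ e = 1) :
    Y = 1 ∨ ∃ d k : ℕ, 1 ≤ d ∧ 1 ≤ k ∧ 2 * (d * k) = Module.finrank F V ∧ (Y ^ (Fintype.card F ^ d + 1) = 1 ∨ Y ^ (Fintype.card F ^ d - 1) = 1) ∧
      ∀ U : Module.End F V, (∀ u v, A.B (U u) (U v) = A.B u v) → Commute U Y → (∃ T, U ^ (p ^ T) = 1) → (U - 1) ^ k = 0 := by
  obtain ⟨w', rfl⟩ : ∃ w', w = w' + 1 := ⟨w - 1, by obtain ⟨c, hc⟩ := hodd; omega⟩
  obtain ⟨a, ha⟩ := FiniteField.card F p
  have hq1 : 1 < Fintype.card F := Fintype.one_lt_card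
  haveI : CharP (Module.End F V) p := charP_of_injective_algebraMap (algebraMap F (Module.End F V)).injective p
  have hcop : Nat.Coprime (Fintype.card F) (w' + 1) := by
    rw [ha.2]
    exact Nat.Coprime.pow_left _ ((Nat.Prime.coprime_iff_not_dvd hp.out).mpr hwp)
  have hmod := Nat.ModEq.pow_totient hcop
  have hN0 : Nat.totient (w' + 1) ≠ 0 := (Nat.totient_pos.mpr (Nat.succ_pos _)).ne'
  have hYN : Y ^ (Fintype.card F ^ Nat.totient (w' + 1)) = Y := by
    obtain ⟨c, hc⟩ := (Nat.modEq_iff_dvd' (Nat.one_le_pow _ _ (by omega))).mp hmod.symm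
    have h1 : Fintype.card F ^ Nat.totient (w' + 1) = (w' + 1) * c + 1 := by
      have := Nat.one_le_pow (Nat.totient (w' + 1)) (Fintype.card F) (by omega)
      omega
    rw [h1, pow_succ, pow_mul, hw, one_pow, one_mul]
  have hadjY := adj_of_isometry hY hw
  have hVpos : 0 < Module.finrank F V := Module.finrank_pos
  have hnil : ∀ U : Module.End F V, (∃ T, U ^ (p ^ T) = 1) → IsNilpotent (U - 1) := by
    rintro U ⟨T, hT⟩
    refine ⟨p ^ T, ?_⟩
    rw [sub_pow_char_pow_of_commute _ _ (Commute.one_right U), hT, one_pow, sub_self]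
  rcases dichot hA hY hw hno with h1 | ⟨e, e', he, he', hee, h1, hadj, hprim⟩
  · -- first case
    have hirr : Irreducible (minpoly F Y) := irred_end Y hN0 hYN (fun e h2 h3 => h1 e ⟨h2, h3⟩)
    haveI : Fact (Irreducible (minpoly F Y)) := ⟨hirr⟩
    have hm : (minpoly F Y).Monic := minpoly.monic (isInt Y)
    set y : AE Y := rtE Y with hy
    have hyw : y ^ (w' + 1) = 1 := by
      apply evE_injective
      rw [map_pow, evE_rt, hw, map_one]
    have hy0 : y ≠ 0 := by
      intro h0
      rw [h0, zero_pow (Nat.succ_ne_zero _)] at hyw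
      exact zero_ne_one hyw
    have hyinv : y ^ w' = y⁻¹ := by
      apply eq_inv_of_mul_eq_one_left
      rw [← pow_succ, hyw]
    have hz : aeval (y ^ w') (minpoly F Y) = 0 := by
      apply evE_injective
      rw [map_zero, ← Polynomial.aeval_algHom_apply, map_pow, evE_rt]
      have h2 := hadjY.aeval (minpoly F Y)
      rw [minpoly.aeval, Polynomial.map_id] at h2
      exact Adj.unique hA h2 (Adj.zero A)
    obtain ⟨i, hi, hyi⟩ := exists_frob (minpoly F Y) hirr hm (y ^ w') hz
    change y ^ w' = y ^ (Fintype.card F ^ i) at hyi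
    rw [hyinv] at hyi
    have h2i : y ^ (Fintype.card F ^ (2 * i)) = y := by
      rw [two_mul, pow_add, pow_mul, ← hyi, inv_pow, ← hyi, inv_inv]
    have hdvd := dvd_of_frob (minpoly F Y) hirr hm (2 * i) h2i
    obtain ⟨k, hk, -, hknil⟩ := field_end Y hirr
    have hfin : Module.finrank F (AE Y) = (minpoly F Y).natDegree := by
      rw [(AdjoinRoot.powerBasis' hm).finrank, AdjoinRoot.powerBasis'_dim]
    rcases Nat.eq_zero_or_pos i with hi0 | hi0
    · left
      subst hi0
      rw [pow_zero, pow_one] at hyi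
      have h3 : y ^ 2 = 1 := by
        rw [sq]
        nth_rewrite 2 [← hyi]
        exact mul_inv_cancel₀ hy0
      obtain ⟨c, hc⟩ := hodd
      rw [hc, pow_succ, pow_mul, h3, one_pow, one_mul] at hyw
      have h4 := congrArg (evE Y) hyw
      rwa [evE_rt, map_one] at h4
    · right
      have h2i' : 2 * i = (minpoly F Y).natDegree := by
        obtain ⟨c, hc⟩ := hdvd
        have hc1 : c = 1 := by
          rcases Nat.lt_or_ge c 1 with h | h
          · have : c = 0 := by omega
            subst this; omega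
          · rcases Nat.lt_or_ge 1 c with h' | h'
            · have : (minpoly F Y).natDegree * 2 ≤ (minpoly F Y).natDegree * c := Nat.mul_le_mul_left _ h'
              omega
            · omega
        rw [hc1, mul_one] at hc
        exact hc
      refine ⟨i, k, hi0, ?_, ?_, ?_, ?_⟩
      · rcases Nat.eq_zero_or_pos k with h | h
        · rw [h, mul_zero] at hk; omega
        · exact h
      · rw [← hk, hfin, ← h2i']; ring
      · left
        have h3 : y ^ (Fintype.card F ^ i + 1) = 1 := by rw [pow_succ, ← hyi, inv_mul_cancel₀ hy0]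
        have h4 := congrArg (evE Y) h3
        rwa [map_pow, evE_rt, map_one] at h4
      · intro U _ hUY hU
        exact hknil (U - 1) (hUY.sub_left (Commute.one_left Y)) (hnil U hU)
  · -- second case
    right
    have hee' : e' * e = 0 := by rw [he'.comm he, hee]
    have hhalf := half hA hee hee' h1 hadj he.1 he'.1
    have he0 : e ≠ 0 := by
      rintro rfl
      rw [LinearMap.range_zero, finrank_bot] at hhalf
      omega
    have hcY : Commute e Y := he.commute (Commute.refl Y)
    have hirr := irred_rho he he0 hN0 hYN hprim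
    haveI : Fact (Irreducible (minpoly F (rho e Y))) := ⟨hirr⟩
    haveI : Finite (AE (rho e Y)) := Module.finite_of_finite F
    haveI := Fintype.ofFinite (AE (rho e Y))
    obtain ⟨k, hk, -, hknil⟩ := field_end (rho e Y) hirr
    set D := Module.finrank F (AE (rho e Y)) with hD
    have hDpos : 0 < D := Module.finrank_pos
    have hWpos : 0 < Module.finrank F (LinearMap.range e) := by omega
    set y : AE (rho e Y) := rtE (rho e Y) with hy
    have hyw : y ^ (w' + 1) = 1 := by
      apply evE_injective
      rw [map_pow, evE_rt, map_one, ← rho_pow he.1 hcY, hw, rho_one he.1]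
    have hy0 : y ≠ 0 := by
      intro h0
      rw [h0, zero_pow (Nat.succ_ne_zero _)] at hyw
      exact zero_ne_one hyw
    have hyq : y ^ (Fintype.card F ^ D - 1) = 1 := by
      have h2 : Fintype.card (AE (rho e Y)) = Fintype.card F ^ D := Module.card_eq_pow_finrank
      rw [← h2]
      exact FiniteField.pow_card_sub_one_eq_one y hy0
    refine ⟨D, k, hDpos, ?_, ?_, ?_, ?_⟩
    · rcases Nat.eq_zero_or_pos k with h | h
      · rw [h, mul_zero] at hk; omega
      · exact h
    · rw [hk, hhalf]
    · right
      set M := Fintype.card F ^ D - 1 with hM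
      have h2 : Y ^ M * e = e := by
        have h3 : rho e (Y ^ M) = rho e 1 := by
          rw [rho_pow he.1 hcY, rho_one he.1]
          have h4 := congrArg (evE (rho e Y)) hyq
          rwa [map_pow, evE_rt, map_one] at h4
        rw [mul_eq_of_rho he.1 (hcY.pow_right M) (Commute.one_right e) h3, one_mul]
      have h3 : Adj A (Y ^ M * e) (e' * (Y ^ w') ^ M) := (hadjY.pow M).mul hadj
      rw [h2] at h3
      have h4 := Adj.unique hA h3 hadj
      have h5 : (Y ^ w') ^ M * Y ^ M = 1 := by rw [← ((Commute.refl Y).pow_left w').mul_pow, ← pow_succ, hw, one_pow]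
      have h6 : e' * Y ^ M = e' := by
        rw [← h4, mul_assoc, h5, mul_one, h4]
      have hcY' : Commute e' Y := he'.commute (Commute.refl Y)
      calc Y ^ M = Y ^ M * (e + e') := by rw [h1, mul_one]
        _ = Y ^ M * e + Y ^ M * e' := mul_add _ _ _
        _ = e + e' := by rw [h2, ← (hcY'.pow_right M).eq, h6]
        _ = 1 := h1
    · rintro U hU hUY ⟨T, hT⟩
      have hcU : Commute e U := he.commute hUY.symm
      have hcU' : Commute e' U := he'.commute hUY.symm
      have hcU1 : Commute e (U - 1) := hcU.sub_right (Commute.one_right e)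
      have hcU1' : Commute e' (U - 1) := hcU'.sub_right (Commute.one_right e')
      obtain ⟨s, hs⟩ : ∃ s, p ^ T = s + 1 := ⟨p ^ T - 1, by have := pow_pos hp.out.pos T; omega⟩
      have hadjU := adj_of_isometry hU (hs ▸ hT)
      have h2 : (U - 1) ^ k * e = 0 := by
        apply eq_zero_of_rho he.1 (hcU1.pow_right k)
        rw [rho_pow he.1 hcU1]
        apply hknil
        · change rho e (U - 1) * rho e Y = rho e Y * rho e (U - 1)
          rw [← rho_mul he.1 hcU1 hcY, ← rho_mul he.1 hcY hcU1, (hUY.sub_left (Commute.one_left Y)).eq]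
        · obtain ⟨N, hN⟩ := hnil U ⟨T, hT⟩
          refine ⟨N, ?_⟩
          rw [← rho_pow he.1 hcU1, hN]
          apply LinearMap.ext
          intro x
          apply Subtype.ext
          rw [rho_val he.1 (Commute.zero_right e)]; rfl
      have h3 : Adj A (U - 1) (U ^ s - 1) := by
        intro u v
        rw [LinearMap.sub_apply, LinearMap.sub_apply, map_sub, map_sub, LinearMap.sub_apply, hadjU]; rfl
      have h4 : Adj A ((U - 1) ^ k * e) (e' * (U ^ s - 1) ^ k) := (h3.pow k).mul hadj
      rw [h2] at h4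
      have h5 : e' * (U ^ s - 1) ^ k = 0 := Adj.unique hA h4 (Adj.zero A)
      have h6 : (U - 1) ^ k = (U ^ s - 1) ^ k * (-U) ^ k := by
        have h7 : U - 1 = (U ^ s - 1) * (-U) := by
          rw [sub_mul, mul_neg, ← pow_succ, ← hs, hT, one_mul]; abel
        have h8 : Commute (U ^ s - 1) (-U) := (((Commute.refl U).pow_left s).sub_left (Commute.one_left U)).neg_right
        conv_lhs => rw [h7]
        exact h8.mul_pow k
      calc (U - 1) ^ k = (e + e') * (U - 1) ^ k := by rw [h1, one_mul]
        _ = e * (U - 1) ^ k + e' * (U - 1) ^ k := add_mul _ _ _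
        _ = 0 := by rw [(hcU1.pow_right k).eq, h2, h6, ← mul_assoc, h5, zero_mul, add_zero]

end Cfsg.Agent.H21.GLf
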