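import Mathlib
import Cfsg.Agent.H21_GLf4
import Cfsg.Agent.H16_PSp3
import Cfsg.Agent.H5_Concrete

/-!
# Isometries of forms over finite fields, V: realisation in `PSp`
-/

set_option autoImplicit false
open Polynomial Matrix

namespace Cfsg.Agent.H21.GLf

open Cfsg.Agent.H5

/-! ### the centre of the symplectic group -/

section center

variable {m : ℕ} {F : Type*} [Field F]

theorem upper_mem {B : Matrix (Fin m) (Fin m) F} (hB : Bᵀ = B) : Matrix.fromBlocks 1 B 0 1 ∈ Matrix.symplecticGroup (Fin m) F := by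
  rw [SymplecticGroup.mem_iff, Matrix.J, Matrix.fromBlocks_transpose, Matrix.fromBlocks_multiply, Matrix.fromBlocks_multiply]
  simp [hB]

theorem lower_mem {B : Matrix (Fin m) (Fin m) F} (hB : Bᵀ = B) : Matrix.fromBlocks 1 0 B 1 ∈ Matrix.symplecticGroup (Fin m) F := by
  rw [SymplecticGroup.mem_iff, Matrix.J, Matrix.fromBlocks_transpose, Matrix.fromBlocks_multiply, Matrix.fromBlocks_multiply]
  simp [hB]

theorem center_scalar (X : Matrix.symplecticGroup (Fin m) F) (hX : X ∈ Subgroup.center (Matrix.symplecticGroup (Fin m) F)) :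
    ∃ c : F, (X : Matrix (Fin m ⊕ Fin m) (Fin m ⊕ Fin m) F) = algebraMap F _ c := by
  rw [Subgroup.mem_center_iff] at hX
  set M := (X : Matrix (Fin m ⊕ Fin m) (Fin m ⊕ Fin m) F) with hM
  have hcomm : ∀ T : Matrix (Fin m ⊕ Fin m) (Fin m ⊕ Fin m) F, T ∈ Matrix.symplecticGroup (Fin m) F → T * M = M * T := by
    intro T hT
    exact congrArg Subtype.val (hX ⟨T, hT⟩)
  obtain ⟨P, Q, R, S, hPQ⟩ : ∃ P Q R S, M = Matrix.fromBlocks P Q R S := ⟨_, _, _, _, (Matrix.fromBlocks_toBlocks M).symm⟩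
  have h1 : ∀ B : Matrix (Fin m) (Fin m) F, Bᵀ = B → B * R = 0 ∧ B * S = P * B := by
    intro B hB
    have h2 := hcomm _ (upper_mem hB)
    rw [hPQ, Matrix.fromBlocks_multiply, Matrix.fromBlocks_multiply, Matrix.fromBlocks_inj] at h2
    simp only [Matrix.one_mul, Matrix.zero_mul, Matrix.mul_one, Matrix.mul_zero, add_zero, zero_add] at h2
    refine ⟨?_, ?_⟩
    · have := h2.1
      simpa using this
    · have := h2.2.1
      rw [add_comm] at this
      exact add_right_cancel this
  have h2 : R = 0 ∧ S = P := by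
    have := h1 1 (Matrix.transpose_one)
    rwa [Matrix.one_mul, Matrix.one_mul, Matrix.mul_one] at this
  obtain ⟨rfl, rfl⟩ := h2
  have h3 : Q = 0 := by
    have h2 := hcomm _ (lower_mem (Matrix.transpose_one (n := Fin m)))
    rw [hPQ, Matrix.fromBlocks_multiply, Matrix.fromBlocks_multiply, Matrix.fromBlocks_inj] at h2
    simp only [Matrix.one_mul, Matrix.zero_mul, Matrix.mul_one, Matrix.mul_zero, add_zero, zero_add] at h2
    have := h2.1
    simpa using this
  subst h3
  have h4 : S ∈ Set.range (Matrix.scalar (Fin m)) := by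
    rw [Matrix.mem_range_scalar_iff_commute_single']
    intro i j
    have hii : ∀ i, Commute (Matrix.single i i (1 : F)) S := fun i => (h1 _ (by rw [Matrix.transpose_single])).2
    by_cases hij : i = j
    · subst hij; exact hii i
    · have h5 : Commute (Matrix.single i j (1 : F) + Matrix.single j i (1 : F)) S := by
        apply (h1 _ _).2
        rw [Matrix.transpose_add, Matrix.transpose_single, Matrix.transpose_single, add_comm]
      have h6 := (hii i).mul_left h5
      rw [mul_add, Matrix.single_mul_single_same, Matrix.single_mul_single_of_ne (h := hij), add_zero, one_mul] at h6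
      exact h6
  obtain ⟨c, hc⟩ := h4
  refine ⟨c, ?_⟩
  rw [hPQ, ← hc]
  ext i j
  rcases i with i | i <;> rcases j with j | j <;> simp [Matrix.scalar_apply, Matrix.diagonal_apply, Matrix.algebraMap_matrix_apply]

theorem sp_mk_pow_iff (X : Matrix.symplecticGroup (Fin m) F) (s : ℕ) :
    (QuotientGroup.mk X : Cfsg.PSp m F) ^ s = 1 ↔ ∃ c : F, (X : Matrix (Fin m ⊕ Fin m) (Fin m ⊕ Fin m) F) ^ s = algebraMap F _ c := by
  rw [← QuotientGroup.mk_pow, QuotientGroup.eq_one_iff]
  constructor
  · intro h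
    exact center_scalar _ h
  · rintro ⟨c, hc⟩
    rw [Subgroup.mem_center_iff]
    intro T
    apply Subtype.ext
    change (T : Matrix (Fin m ⊕ Fin m) (Fin m ⊕ Fin m) F) * (X : Matrix (Fin m ⊕ Fin m) (Fin m ⊕ Fin m) F) ^ s =
      (X : Matrix (Fin m ⊕ Fin m) (Fin m ⊕ Fin m) F) ^ s * (T : Matrix (Fin m ⊕ Fin m) (Fin m ⊕ Fin m) F)
    rw [hc]
    exact (Algebra.commutes c _).symm

end center

/-- realising isometries of alternating forms in `PSp` -/
theorem realize_sp {F : Type*} [Field F] {V : Type*} [AddCommGroup V] [Module F V] [Module.Finite F V] {m : ℕ}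
    (hV : Module.finrank F V = 2 * m) (B : LinearMap.BilinForm F V) (hB : B.IsAlt) (hn : ∀ x, (∀ y, B x y = 0) → x = 0)
    (f : Module.End F V) (hf : ∀ u v, B (f u) (f v) = B u v) :
    ∃ g : Cfsg.PSp m F, ∀ s : ℕ, g ^ s = 1 ↔ ∃ c : F, f ^ s = algebraMap F _ c := by
  let L : V ≃ₗ[F] (Fin m ⊕ Fin m → F) := LinearEquiv.ofFinrankEq _ _ (by
    rw [hV, Module.finrank_fintype_fun_eq_card, Fintype.card_sum, Fintype.card_fin]; ring)
  obtain ⟨g, hg⟩ := H16.PSp.exists_gl_alt (B.compl₁₂ (L.symm : (Fin m ⊕ Fin m → F) →ₗ[F] V) (L.symm : (Fin m ⊕ Fin m → F) →ₗ[F] V))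
    (fun x => hB _) (fun x hx => by
      have := hn (L.symm x) (fun y => by
        have := hx (L y)
        rwa [LinearMap.compl₁₂_apply, LinearEquiv.coe_coe, LinearEquiv.symm_apply_apply] at this)
      rwa [LinearEquiv.map_eq_zero_iff] at this)
  -- the isometry
  let G : (Fin m ⊕ Fin m → F) ≃ₗ[F] (Fin m ⊕ Fin m → F) := Matrix.GeneralLinearGroup.toLin g |> LinearMap.GeneralLinearGroup.generalLinearEquiv F _
  have hG : ∀ x, G x = (g : Matrix (Fin m ⊕ Fin m) (Fin m ⊕ Fin m) F) *ᵥ x := fun x => rfl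
  let E : (Fin m ⊕ Fin m → F) ≃ₗ[F] V := G.trans L.symm
  have hE : ∀ x y, B (E x) (E y) = Cfsg.sympForm m F x y := fun x y => hg x y
  let f' : Module.End F (Fin m ⊕ Fin m → F) := E.symm.conj f
  have hf' : ∀ x, f' x = E.symm (f (E x)) := fun x => rfl
  have hmem : LinearMap.toMatrix' f' ∈ Matrix.symplecticGroup (Fin m) F := by
    rw [Conc.mem_symplecticGroup_iff]
    intro u v
    rw [LinearMap.toMatrix'_mulVec, LinearMap.toMatrix'_mulVec, ← hE, hf', hf', LinearEquiv.apply_symm_apply, LinearEquiv.apply_symm_apply, hf, hE]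
  refine ⟨QuotientGroup.mk ⟨_, hmem⟩, fun s => ?_⟩
  obtain ⟨X, hX⟩ : ∃ X : Matrix.symplecticGroup (Fin m) F, (X : Matrix (Fin m ⊕ Fin m) (Fin m ⊕ Fin m) F) = LinearMap.toMatrix' f' := ⟨⟨_, hmem⟩, rfl⟩
  have hX' : X = ⟨_, hmem⟩ := Subtype.ext hX
  rw [← hX', sp_mk_pow_iff, hX]
  have hpow : (LinearMap.toMatrix' f') ^ s = LinearMap.toMatrix' (E.symm.conj (f ^ s)) := by
    have h1 : E.symm.conj (f ^ s) = f' ^ s := by
      induction s with
      | zero => rw [pow_zero, pow_zero]; exact LinearEquiv.conj_id _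
      | succ s ih => rw [pow_succ, pow_succ, Module.End.mul_eq_comp, LinearEquiv.conj_comp, ih]; rfl
    rw [h1]
    exact (map_pow (LinearMap.toMatrixAlgEquiv' (R := F) (n := Fin m ⊕ Fin m)) f' s).symm
  rw [hpow]
  constructor
  · rintro ⟨c, hc⟩
    refine ⟨c, ?_⟩
    have h2 : LinearMap.toMatrix' (E.symm.conj (f ^ s)) = LinearMap.toMatrix' (E.symm.conj (algebraMap F (Module.End F V) c)) := by
      rw [hc]
      have h3 : E.symm.conj (algebraMap F (Module.End F V) c) = algebraMap F (Module.End F (Fin m ⊕ Fin m → F)) c := by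
        apply LinearMap.ext
        intro x
        change E.symm (c • E x) = c • x
        rw [map_smul, LinearEquiv.symm_apply_apply]
      rw [h3]
      exact ((LinearMap.toMatrixAlgEquiv' (R := F) (n := Fin m ⊕ Fin m)).commutes c).symm
    exact E.symm.conj.injective (LinearMap.toMatrix'.injective h2)
  · rintro ⟨c, hc⟩
    refine ⟨c, ?_⟩
    rw [hc]
    have h3 : E.symm.conj (algebraMap F (Module.End F V) c) = algebraMap F (Module.End F (Fin m ⊕ Fin m → F)) c := by
      apply LinearMap.ext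
      intro x
      change E.symm (c • E x) = c • x
      rw [map_smul, LinearEquiv.symm_apply_apply]
    rw [h3]
    exact (LinearMap.toMatrixAlgEquiv' (R := F) (n := Fin m ⊕ Fin m)).commutes c

end Cfsg.Agent.H21.GLf
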