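import Mathlib
import Cfsg.Agent.H21_GLf5

/-!
# Isometries of forms over finite fields, VI: symplectic blocks
-/

set_option autoImplicit false
open Polynomial Matrix

namespace Cfsg.Agent.H21.GLf

open Cfsg.Agent.H5 Cfsg.Agent.H21.GLo

universe u v w

/-- an isometry of a non-degenerate alternating space of dimension `2m` -/
structure Blk (F : Type u) [Field F] (m : ℕ) where
  V : Type v
  grp : AddCommGroup V
  mod : Module F V
  fin : Module.Finite F V
  B : LinearMap.BilinForm F V
  alt : B.IsAlt
  nd : ∀ x, (∀ y, B x y = 0) → x = 0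
  f : Module.End F V
  iso : ∀ u v, B (f u) (f v) = B u v
  dim : Module.finrank F V = 2 * m

attribute [instance] Blk.grp Blk.mod Blk.fin

namespace Blk

variable {F : Type u} [Field F]

/-- orthogonal sums -/
noncomputable def sum {m n : ℕ} (b : Blk.{u, v} F m) (c : Blk.{u, w} F n) : Blk.{u, max v w} F (m + n) where
  V := b.V × c.V
  grp := inferInstance
  mod := inferInstance
  fin := inferInstance
  B := b.B.compl₁₂ (LinearMap.fst F b.V c.V) (LinearMap.fst F b.V c.V) + c.B.compl₁₂ (LinearMap.snd F b.V c.V) (LinearMap.snd F b.V c.V)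
  alt := by
    intro x
    change b.B x.1 x.1 + c.B x.2 x.2 = 0
    rw [b.alt, c.alt, add_zero]
  nd := by
    intro x hx
    have h1 : ∀ y z, b.B x.1 y + c.B x.2 z = 0 := fun y z => hx (y, z)
    apply Prod.ext
    · apply b.nd
      intro y
      have := h1 y 0
      rwa [map_zero, add_zero] at this
    · apply c.nd
      intro z
      have := h1 0 z
      rwa [map_zero, zero_add] at this
  f := b.f.prodMap c.f
  iso := by
    intro u v
    change b.B (b.f u.1) (b.f v.1) + c.B (c.f u.2) (c.f v.2) = b.B u.1 v.1 + c.B u.2 v.2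
    rw [b.iso, c.iso]
  dim := by rw [Module.finrank_prod, b.dim, c.dim]; ring

theorem sum_pow {m n : ℕ} (b : Blk.{u, v} F m) (c : Blk.{u, w} F n) (s : ℕ) : (b.sum c).f ^ s = (b.f ^ s).prodMap (c.f ^ s) := by
  induction s with
  | zero => rfl
  | succ s ih => rw [pow_succ, ih, pow_succ, pow_succ]; rfl

theorem sum_scalar {m n : ℕ} (b : Blk.{u, v} F m) (c : Blk.{u, w} F n) {s : ℕ} {a : F} (h : (b.sum c).f ^ s = algebraMap F _ a) :
    b.f ^ s = algebraMap F _ a ∧ c.f ^ s = algebraMap F _ a := by
  rw [sum_pow] at h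
  constructor
  · apply LinearMap.ext
    intro x
    exact congrArg Prod.fst (LinearMap.congr_fun h (x, 0))
  · apply LinearMap.ext
    intro x
    exact congrArg Prod.snd (LinearMap.congr_fun h (0, x))

/-- the negative -/
noncomputable def neg {m : ℕ} (b : Blk.{u, v} F m) : Blk.{u, v} F m where
  V := b.V
  grp := b.grp
  mod := b.mod
  fin := b.fin
  B := b.B
  alt := b.alt
  nd := b.nd
  f := -b.f
  iso := by
    intro u v
    rw [LinearMap.neg_apply, LinearMap.neg_apply, map_neg, map_neg, LinearMap.neg_apply, neg_neg, b.iso]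
  dim := b.dim

theorem scalar_sq {m : ℕ} (hm : 1 ≤ m) (b : Blk.{u, v} F m) {s : ℕ} {a : F} (h : b.f ^ s = algebraMap F _ a) : a ^ 2 = 1 := by
  have hiso : ∀ (s : ℕ) (u v : b.V), b.B ((b.f ^ s) u) ((b.f ^ s) v) = b.B u v := by
    intro s
    induction s with
    | zero => intro u v; rfl
    | succ s ih => intro u v; rw [pow_succ', Module.End.mul_apply, Module.End.mul_apply, b.iso, ih]
  haveI : Nontrivial b.V := Module.nontrivial_of_finrank_pos (R := F) (by rw [b.dim]; omega)
  obtain ⟨x, hx⟩ := exists_ne (0 : b.V)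
  obtain ⟨y, hy⟩ : ∃ y, b.B x y ≠ 0 := by
    by_contra hcon
    push Not at hcon
    exact hx (b.nd x hcon)
  have h1 := hiso s x y
  rw [h, Module.algebraMap_end_apply, Module.algebraMap_end_apply, map_smul, map_smul, LinearMap.smul_apply, smul_smul, smul_eq_mul, ← sq] at h1
  exact mul_right_cancel₀ hy (h1.trans (one_mul _).symm)

theorem exists_psp {m : ℕ} (b : Blk.{u, v} F m) : ∃ g : Cfsg.PSp m F, ∀ s : ℕ, g ^ s = 1 ↔ ∃ c : F, b.f ^ s = algebraMap F _ c :=
  realize_sp b.dim b.B b.alt b.nd b.f b.iso

/-- the identity block -/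
theorem exists_id (F : Type u) [Field F] (m : ℕ) : ∃ b : Blk.{u, u} F m, b.f = 1 := by
  refine ⟨Blk.mk (Fin m ⊕ Fin m → F) inferInstance inferInstance inferInstance (Conc.sympB m F)
    (Conc.sympB_alt m F) (Conc.sympFrm_nondeg m F) 1 (fun _ _ => rfl)
    (by rw [Module.finrank_fintype_fun_eq_card, Fintype.card_sum, Fintype.card_fin]; ring), rfl⟩

end Blk

/-- blocks from `SL_2` of an extension field -/
theorem exists_sl2 {F : Type u} [Field F] [Fintype F] {E : Type v} [Field E] [Algebra F E] [Module.Finite F E] {j : ℕ} (hE : Module.finrank F E = j)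
    (M : Matrix (Fin 2) (Fin 2) E) (hM : M.det = 1) : ∃ b : Blk.{u, v} F j, ∀ s : ℕ, (b.f ^ s = 1 ↔ M ^ s = 1) := by
  haveI : Finite E := Module.finite_of_finite F
  have hdet : M 0 0 * M 1 1 - M 0 1 * M 1 0 = 1 := by rw [← Matrix.det_fin_two]; exact hM
  let D : LinearMap.BilinForm F (Fin 2 → E) := LinearMap.mk₂ F (fun u v => Algebra.trace F E (u 0 * v 1 - u 1 * v 0))
    (by intro x y z; rw [← map_add]; congr 1; simp only [Pi.add_apply]; ring)
    (by intro c x y; rw [← map_smul]; congr 1; simp only [Pi.smul_apply, smul_sub, smul_mul_assoc])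
    (by intro x y z; rw [← map_add]; congr 1; simp only [Pi.add_apply]; ring)
    (by intro c x y; rw [← map_smul]; congr 1; simp only [Pi.smul_apply, smul_sub, mul_smul_comm])
  have hD : ∀ u v, D u v = Algebra.trace F E (u 0 * v 1 - u 1 * v 0) := fun u v => rfl
  let f : Module.End F (Fin 2 → E) := (Matrix.toLin' M).restrictScalars F
  have hf : ∀ u, f u = M *ᵥ u := fun u => rfl
  refine ⟨Blk.mk (Fin 2 → E) inferInstance inferInstance inferInstance D ?_ ?_ f ?_ ?_, ?_⟩
  · intro x
    rw [hD, mul_comm, sub_self, map_zero]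
  · intro x hx
    have key : ∀ a : E, (∀ b : E, Algebra.trace F E (a * b) = 0) → a = 0 := by
      intro a ha
      have := (traceForm_nondegenerate F E).1 a (fun b => by rw [Algebra.traceForm_apply]; exact ha b)
      exact this
    have h0 : x 0 = 0 := by
      apply key
      intro b
      have := hx (fun i => if i = 0 then 0 else b)
      rw [hD] at this
      simpa using this
    have h1 : x 1 = 0 := by
      apply key
      intro b
      have := hx (fun i => if i = 0 then b else 0)
      rw [hD] at this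
      simpa using this
    funext i
    fin_cases i
    · exact h0
    · exact h1
  · intro u v
    rw [hf, hf, hD, hD]
    congr 1
    simp only [Matrix.mulVec, dotProduct, Fin.sum_univ_two]
    linear_combination (u 0 * v 1 - u 1 * v 0) * hdet
  · rw [← Module.finrank_mul_finrank F E (Fin 2 → E), hE, Module.finrank_fin_fun]; ring
  · intro s
    have hpow : ∀ u, (f ^ s) u = (M ^ s) *ᵥ u := by
      induction s with
      | zero => intro u; rw [pow_zero, pow_zero, Matrix.one_mulVec]; rfl
      | succ s ih => intro u; rw [pow_succ, pow_succ, Module.End.mul_apply, ih, hf, Matrix.mulVec_mulVec]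
    change f ^ s = 1 ↔ M ^ s = 1
    constructor
    · intro h
      apply Matrix.toLin'.injective
      apply LinearMap.ext
      intro u
      rw [Matrix.toLin'_apply, Matrix.toLin'_apply, ← hpow, h, Matrix.one_mulVec]; rfl
    · intro h
      apply LinearMap.ext
      intro u
      rw [hpow, h, Matrix.one_mulVec]; rfl

theorem order_of_pow_iff {G H : Type*} [Monoid G] [Monoid H] {x : G} {y : H} (h : ∀ s : ℕ, x ^ s = 1 ↔ y ^ s = 1) : orderOf x = orderOf y := by
  rw [orderOf_eq_orderOf_iff]; exact h

end Cfsg.Agent.H21.GLf
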