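import Mathlib
import Cfsg.Agent.H21_GLo3
import Cfsg.Agent.H5_GL

/-!
# Element orders of linear groups through commutative algebras, IV: prime graph of `PSL_n(q)`
-/

set_option autoImplicit false
open Matrix Polynomial

namespace Cfsg.Agent.H21.GLo

section

variable {F : Type*} [Field F] [Fintype F] {A : Type*} [CommRing A] [Nontrivial A] [Algebra F A] [Module.Finite F A]

theorem eq_one_of_coprime {c : F} {m : ℕ} (hm0 : m ≠ 0) (hc : c ^ m = 1) (hm : Nat.Coprime m (Fintype.card F - 1)) : c = 1 := by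
  have hc0 : c ≠ 0 := by
    rintro rfl
    rw [zero_pow hm0] at hc
    exact zero_ne_one hc
  have h1 := orderOf_dvd_of_pow_eq_one hc
  have h2 := orderOf_dvd_of_pow_eq_one (FiniteField.pow_card_sub_one_eq_one c hc0)
  have h3 := Nat.dvd_gcd h1 h2
  rw [hm] at h3
  exact orderOf_eq_one_iff.mp (Nat.dvd_one.mp h3)

/-- elements of order coprime to `q - 1` -/
theorem realize_coprime {n : ℕ} (hn : Module.finrank F A = n) {x : A} (hx : orderOf x ≠ 0)
    (hm : Nat.Coprime (orderOf x) (Fintype.card F - 1)) :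
    orderOf x ∈ Set.range (orderOf : ProjectiveSpecialLinearGroup (Fin n) F → ℕ) := by
  have h1 : Algebra.norm F x = 1 := by
    apply eq_one_of_coprime hx _ hm
    rw [← map_pow, pow_orderOf_eq_one, map_one]
  obtain ⟨g, hg⟩ := realize hn x h1
  refine ⟨g, ?_⟩
  rw [orderOf_eq_orderOf_iff]
  intro s
  rw [hg]
  constructor
  · rintro ⟨c, hc⟩
    have h2 : c = 1 := by
      apply eq_one_of_coprime hx _ hm
      apply (algebraMap F A).injective
      rw [map_pow, ← hc, ← pow_mul, mul_comm, pow_mul, pow_orderOf_eq_one, one_pow, map_one]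
    rw [hc, h2, map_one]
  · intro h
    exact ⟨1, by rw [h, map_one]⟩

/-- orders of the elements of residue fields -/
theorem order_dvd_finrank {r : ℕ} [Fact r.Prime] {I : Ideal A} (hI : I.IsMaximal) {x : A} (hx : x ^ r = 1) (hne : Ideal.Quotient.mk I x ≠ 1) :
    orderOf ((Fintype.card F : ℕ) : ZMod r) ∣ Module.finrank F (A ⧸ I) := by
  haveI : Nontrivial (A ⧸ I) := Ideal.Quotient.nontrivial_iff.mpr hI.ne_top
  have h1 : (Ideal.Quotient.mk I x) ^ r = 1 := by rw [← map_pow, hx, map_one]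
  have h2 : orderOf (Ideal.Quotient.mk I x) = r := orderOf_eq_prime h1 hne
  have h0 : Ideal.Quotient.mk I x ≠ 0 := by
    intro h
    rw [h, zero_pow (Fact.out : r.Prime).ne_zero] at h1
    exact zero_ne_one h1
  have h3 := orderOf_dvd_of_pow_eq_one (pow_quot_eq_one (F := F) hI h0)
  rw [h2] at h3
  apply orderOf_dvd_of_pow_eq_one
  have h4 : ((Fintype.card F ^ Module.finrank F (A ⧸ I) - 1 : ℕ) : ZMod r) = 0 := (ZMod.natCast_eq_zero_iff _ _).mpr h3
  rw [Nat.cast_sub (Nat.one_le_pow _ _ Fintype.card_pos), Nat.cast_pow, Nat.cast_one, sub_eq_zero] at h4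
  exact h4

end

/-- `r` divides `q ^ k - 1` -/
theorem dvd_of_order_zmod {q r d : ℕ} [Fact r.Prime] (hq : 1 ≤ q) (h : orderOf (q : ZMod r) ∣ d) : r ∣ q ^ d - 1 := by
  rw [← ZMod.natCast_eq_zero_iff, Nat.cast_sub (Nat.one_le_pow _ _ hq), Nat.cast_pow, Nat.cast_one, sub_eq_zero]
  exact orderOf_dvd_iff_pow_eq_one.mp h

theorem order_zmod_dvd {q r d : ℕ} [Fact r.Prime] (hq : 1 ≤ q) (h : r ∣ q ^ d - 1) : orderOf (q : ZMod r) ∣ d := by
  rw [← ZMod.natCast_eq_zero_iff, Nat.cast_sub (Nat.one_le_pow _ _ hq), Nat.cast_pow, Nat.cast_one, sub_eq_zero] at h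
  exact orderOf_dvd_iff_pow_eq_one.mpr h

/-- primes dividing the order of `PSL_n(q)` -/
theorem order_le {F : Type*} [Field F] [Fintype F] (p : ℕ) [Fact p.Prime] [CharP F p] {n s : ℕ} (hn : 1 ≤ n) [Fact s.Prime] (hsp : s ≠ p)
    (h : s ∣ Nat.card (ProjectiveSpecialLinearGroup (Fin n) F)) : orderOf ((Fintype.card F : ℕ) : ZMod s) ≤ n := by
  have h1 := H5.GL.card_PSL_mul (F := F) rfl n hn
  have h2 := H5.GL.card_SL (F := F) rfl n hn
  have h3 : s ∣ ∏ i : Fin n, (Fintype.card F ^ n - Fintype.card F ^ (i : ℕ)) := by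
    rw [← h2, ← h1]
    exact (h.mul_left _).mul_left _
  have hs : s.Prime := Fact.out
  rw [Prime.dvd_finset_prod_iff hs.prime] at h3
  obtain ⟨i, -, hi⟩ := h3
  have h4 : Fintype.card F ^ n - Fintype.card F ^ (i : ℕ) = Fintype.card F ^ (i : ℕ) * (Fintype.card F ^ (n - i) - 1) := by
    rw [Nat.mul_sub, mul_one, ← pow_add, Nat.add_sub_cancel' i.2.le]
  rw [h4, hs.dvd_mul] at hi
  rcases hi with hi | hi
  · exfalso
    have h5 := hs.dvd_of_dvd_pow hi
    obtain ⟨m, hm⟩ := FiniteField.card F p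
    rw [hm.2] at h5
    exact hsp ((Nat.prime_dvd_prime_iff_eq hs Fact.out).mp (hs.dvd_of_dvd_pow h5))
  · have h5 := order_zmod_dvd (q := Fintype.card F) Fintype.card_pos hi
    exact (Nat.le_of_dvd (by have := i.2; omega) h5).trans (Nat.sub_le _ _)

/-- elements of prime order in the algebra of a lift -/
theorem exists_prime_elt {F : Type*} [Field F] [Fintype F] {n : ℕ} (X : SpecialLinearGroup (Fin n) F) {r : ℕ} (hr : r.Prime)
    (h : r ∣ orderOf (QuotientGroup.mk X : ProjectiveSpecialLinearGroup (Fin n) F)) :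
    ∃ x : AX (X : Matrix (Fin n) (Fin n) F), orderOf x = r := by
  have h1 : (rt (X : Matrix (Fin n) (Fin n) F)) ^ orderOf X = 1 := by
    apply ev_injective
    rw [map_pow, ev_rt, map_one, ← Matrix.SpecialLinearGroup.coe_pow, pow_orderOf_eq_one]; rfl
  have hpos : 0 < orderOf (rt (X : Matrix (Fin n) (Fin n) F)) := orderOf_pos_iff.mpr (isOfFinOrder_iff_pow_eq_one.mpr ⟨_, orderOf_pos X, h1⟩)
  have h2 : r ∣ orderOf (rt (X : Matrix (Fin n) (Fin n) F)) := by
    apply h.trans
    apply orderOf_dvd_of_pow_eq_one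
    rw [mk_pow_iff, rt_pow_iff]
    exact ⟨1, by rw [pow_orderOf_eq_one, map_one]⟩
  obtain ⟨c, hc⟩ := h2
  have hc0 : c ≠ 0 := by rintro rfl; rw [mul_zero] at hc; omega
  refine ⟨(rt (X : Matrix (Fin n) (Fin n) F)) ^ c, ?_⟩
  rw [orderOf_pow' _ hc0, hc, Nat.gcd_eq_right (Dvd.intro_left _ rfl)]
  exact Nat.mul_div_cancel _ (Nat.pos_of_ne_zero hc0)

theorem prime_graph {F : Type*} [Field F] [Fintype F] (p : ℕ) [hp : Fact p.Prime] [CharP F p] (n : ℕ) (hn : 2 ≤ n)
    (r s : ℕ) (hr : r.Prime) (hs : s.Prime) (hrp : r ≠ p) (hsp : s ≠ p) (hrs : r ≠ s)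
    (hsG : s ∣ Nat.card (ProjectiveSpecialLinearGroup (Fin n) F))
    (k l : ℕ) (hk : k = orderOf ((Fintype.card F : ℕ) : ZMod r)) (hl : l = orderOf ((Fintype.card F : ℕ) : ZMod s))
    (h2k : 2 ≤ k) (hkl : k ≤ l) :
    (r * s ∉ Set.range (orderOf : ProjectiveSpecialLinearGroup (Fin n) F → ℕ)) ↔ (n < k + l ∧ ¬ k ∣ l) := by
  haveI : Fact r.Prime := ⟨hr⟩
  haveI : Fact s.Prime := ⟨hs⟩
  haveI : Finite (ProjectiveSpecialLinearGroup (Fin n) F) := inferInstance
  have hq1 : 1 ≤ Fintype.card F := Fintype.card_pos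
  have hrk : r ∣ Fintype.card F ^ k - 1 := dvd_of_order_zmod hq1 (by rw [hk])
  have hsl : s ∣ Fintype.card F ^ l - 1 := dvd_of_order_zmod hq1 (by rw [hl])
  have hln : l ≤ n := by rw [hl]; exact order_le p (by omega) hsp hsG
  have hcr : Nat.Coprime r (Fintype.card F - 1) := by
    rw [Nat.Prime.coprime_iff_not_dvd hr]
    intro h
    have := order_zmod_dvd (q := Fintype.card F) (r := r) (d := 1) hq1 (by rwa [pow_one])
    rw [← hk] at this
    have := Nat.le_of_dvd one_pos this
    omega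
  have hcs : Nat.Coprime s (Fintype.card F - 1) := by
    rw [Nat.Prime.coprime_iff_not_dvd hs]
    intro h
    have := order_zmod_dvd (q := Fintype.card F) (r := s) (d := 1) hq1 (by rwa [pow_one])
    rw [← hl] at this
    have := Nat.le_of_dvd one_pos this
    omega
  have hcop : Nat.Coprime (r * s) (Fintype.card F - 1) := Nat.Coprime.mul_left hcr hcs
  have hrs' : Nat.Coprime r s := (Nat.coprime_primes hr hs).mpr hrs
  constructor
  · intro hno
    by_contra hcon
    apply hno
    rw [not_and_or, not_lt, not_not] at hcon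
    rcases hcon with hcon | hcon
    · -- `E_k × E_l × F^(n-k-l)`
      obtain ⟨E, _, _, _, _, hE, hcE⟩ := exists_ext F k (by omega)
      obtain ⟨E', _, _, _, _, hE', hcE'⟩ := exists_ext F l (by omega)
      obtain ⟨y, hy⟩ := exists_order (E := E) (m := r) (by rw [hcE]; exact hrk)
      obtain ⟨z, hz⟩ := exists_order (E := E') (m := s) (by rw [hcE']; exact hsl)
      have hfin : Module.finrank F (E × E' × (Fin (n - k - l) → F)) = n := by
        rw [Module.finrank_prod, Module.finrank_prod, hE, hE', Module.finrank_fin_fun]; omega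
      have hord : orderOf ((y, z, 1) : E × E' × (Fin (n - k - l) → F)) = r * s := by
        rw [Prod.orderOf, Prod.orderOf, hy, hz, orderOf_one, Nat.lcm_one_right, hrs'.lcm_eq_mul]
      have := realize_coprime hfin (x := (y, z, 1)) (by rw [hord]; exact (Nat.mul_pos hr.pos hs.pos).ne') (by rw [hord]; exact hcop)
      rwa [hord] at this
    · obtain ⟨E', _, _, _, _, hE', hcE'⟩ := exists_ext F l (by omega)
      obtain ⟨z, hz⟩ := exists_order (E := E') (m := r * s) (by
        rw [hcE']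
        apply hrs'.mul_dvd_of_dvd_of_dvd _ hsl
        apply dvd_of_order_zmod hq1
        rw [← hk]; exact hcon)
      have hfin : Module.finrank F (E' × (Fin (n - l) → F)) = n := by
        rw [Module.finrank_prod, hE', Module.finrank_fin_fun]; omega
      have hord : orderOf ((z, 1) : E' × (Fin (n - l) → F)) = r * s := by
        rw [Prod.orderOf, hz, orderOf_one, Nat.lcm_one_right]
      have := realize_coprime hfin (x := (z, 1)) (by rw [hord]; exact (Nat.mul_pos hr.pos hs.pos).ne') (by rw [hord]; exact hcop)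
      rwa [hord] at this
  · rintro ⟨h1, h2⟩ ⟨g, hg⟩
    obtain ⟨X, rfl⟩ := QuotientGroup.mk_surjective g
    haveI := nontrivial_AX (by omega : n ≠ 0) (X : Matrix (Fin n) (Fin n) F)
    obtain ⟨x, hx⟩ := exists_prime_elt X hr (by rw [hg]; exact Dvd.intro _ rfl)
    obtain ⟨y, hy⟩ := exists_prime_elt X hs (by rw [hg]; exact Dvd.intro_left _ rfl)
    have hx1 : x ^ r = 1 := by rw [← hx]; exact pow_orderOf_eq_one x
    have hy1 : y ^ s = 1 := by rw [← hy]; exact pow_orderOf_eq_one y
    have hxne : x ^ 1 ≠ 1 := by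
      rw [pow_one]; intro h; rw [h, orderOf_one] at hx; exact hr.one_lt.ne hx
    have hyne : y ^ 1 ≠ 1 := by
      rw [pow_one]; intro h; rw [h, orderOf_one] at hy; exact hs.one_lt.ne hy
    have hpr : ¬ p ∣ r := fun h => hrp ((Nat.prime_dvd_prime_iff_eq hp.out hr).mp h).symm
    have hps : ¬ p ∣ s := fun h => hsp ((Nat.prime_dvd_prime_iff_eq hp.out hs).mp h).symm
    obtain ⟨I, hI, hIx⟩ := exists_max (F := F) p hx1 hpr hxne
    obtain ⟨J, hJ, hJy⟩ := exists_max (F := F) p hy1 hps hyne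
    rw [pow_one] at hIx hJy
    have hkI := order_dvd_finrank (F := F) hI hx1 hIx
    have hlJ := order_dvd_finrank (F := F) hJ hy1 hJy
    rw [← hk] at hkI
    rw [← hl] at hlJ
    have hIle := Nat.le_of_dvd (finrank_quot_pos hI) hkI
    have hJle := Nat.le_of_dvd (finrank_quot_pos hJ) hlJ
    have hA := finrank_AX (X : Matrix (Fin n) (Fin n) F)
    by_cases hIJ : I = J
    · subst hIJ
      obtain ⟨c, hc⟩ := hlJ
      have h3 := (finrank_quot_le (F := F) I).trans hA
      have hc1 : c ≠ 1 := by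
        rintro rfl
        rw [mul_one] at hc
        rw [hc] at hkI
        exact h2 hkI
      have hc0 : c ≠ 0 := by
        rintro rfl
        have := finrank_quot_pos (F := F) hI
        omega
      have h4 : l * 2 ≤ l * c := Nat.mul_le_mul_left _ (by omega)
      omega
    · have h3 := finrank_quot_add_le (F := F) hI hJ hIJ
      omega

end Cfsg.Agent.H21.GLo
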