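import Mathlib
import Cfsg.Agent.H21_GLo4
import Cfsg.Agent.H21_GLo6

/-!
# Element orders of linear groups through commutative algebras, VII: direct powers of `PSL_n(q)`
-/

set_option autoImplicit false
open Matrix Polynomial

namespace Cfsg.Agent.H21.GLo

section slots

variable {F : Type*} [Field F] [Fintype F]

/-- Singer slot -/
theorem singer {n : ℕ} (hn : n ≠ 0) :
    (∑ i ∈ Finset.range n, Fintype.card F ^ i) / Nat.gcd n (Fintype.card F - 1) ∈ Set.range (orderOf : ProjectiveSpecialLinearGroup (Fin n) F → ℕ) := by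
  haveI : Finite (ProjectiveSpecialLinearGroup (Fin n) F) := inferInstance
  have hq1 : 1 < Fintype.card F := Fintype.one_lt_card
  obtain ⟨E, _, _, _, _, hE, hcE⟩ := exists_ext F n hn
  set q := Fintype.card F with hq
  set S := ∑ i ∈ Finset.range n, q ^ i with hS
  have hSq : S * (q - 1) = q ^ n - 1 := by
    rw [hS, Nat.geomSum_eq hq1, Nat.div_mul_cancel]
    have := Nat.sub_dvd_pow_sub_pow q 1 n
    rwa [one_pow] at this
  obtain ⟨y, hy⟩ := exists_order (E := E) (m := S) (by rw [hcE, ← hSq]; exact Dvd.intro _ rfl)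
  have hN : Algebra.norm F y = 1 := by
    apply (algebraMap F E).injective
    rw [FiniteField.algebraMap_norm_eq_pow_sum, Nat.card_eq_fintype_card, hE, map_one, ← hq, ← hS, ← hy, pow_orderOf_eq_one]
  obtain ⟨g, hg⟩ := realize hE y hN
  obtain ⟨c, hc⟩ := (hg (orderOf g)).mp (pow_orderOf_eq_one g)
  have hSpos : 0 < S := by
    rw [hS]
    exact Finset.sum_pos (fun i _ => pow_pos (by omega) _) ⟨0, Finset.mem_range.mpr (Nat.pos_of_ne_zero hn)⟩
  have hy0 : y ≠ 0 := by
    rintro rfl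
    rw [orderOf_zero] at hy
    omega
  have hc0 : c ≠ 0 := by
    rintro rfl
    rw [map_zero] at hc
    exact pow_ne_zero _ hy0 hc
  have h1 : y ^ (orderOf g * (q - 1)) = 1 := by
    rw [pow_mul, hc, ← map_pow, FiniteField.pow_card_sub_one_eq_one c hc0, map_one]
  have h2 := orderOf_dvd_of_pow_eq_one h1
  rw [hy] at h2
  apply mem_range_of_dvd (m := orderOf g) ⟨g, rfl⟩
  have hgcd := gcd_geom q n hq1.le
  rw [← hS] at hgcd
  have hδ : 0 < Nat.gcd S (q - 1) := Nat.gcd_pos_of_pos_left _ hSpos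
  have hcop := Nat.coprime_div_gcd_div_gcd hδ
  rw [← hgcd]
  obtain ⟨M, hM⟩ := Nat.gcd_dvd_left S (q - 1)
  obtain ⟨u, hu⟩ := Nat.gcd_dvd_right S (q - 1)
  set δ := Nat.gcd S (q - 1) with hδdef
  have h3 : S / δ = M := by rw [hM]; exact Nat.mul_div_cancel_left _ hδ
  have h4 : (q - 1) / δ = u := by rw [hu]; exact Nat.mul_div_cancel_left _ hδ
  rw [h3, h4] at hcop
  rw [h3]
  apply hcop.dvd_of_dvd_mul_right
  apply Nat.dvd_of_mul_dvd_mul_left hδ
  rw [← hM]
  calc S ∣ orderOf g * (q - 1) := h2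
    _ = δ * (orderOf g * u) := by rw [hu]; ring

/-- orders of `p`-elements -/
theorem p_bound (p : ℕ) [hp : Fact p.Prime] [CharP F p] {n s : ℕ} (g : ProjectiveSpecialLinearGroup (Fin n) F)
    (h : p ^ (s + 1) ∣ orderOf g) : p ^ s < n := by
  haveI : Finite (ProjectiveSpecialLinearGroup (Fin n) F) := inferInstance
  by_contra hcon
  push Not at hcon
  obtain ⟨c, hc⟩ := h
  have hpos := orderOf_pos g
  have hc0 : c ≠ 0 := by rintro rfl; rw [mul_zero] at hc; omega
  have h1 : orderOf (g ^ c) = p ^ (s + 1) := by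
    rw [orderOf_pow' _ hc0, hc, Nat.gcd_eq_right (Dvd.intro_left _ rfl)]
    exact Nat.mul_div_cancel _ (Nat.pos_of_ne_zero hc0)
  obtain ⟨X, hX⟩ := QuotientGroup.mk_surjective (g ^ c)
  rw [← hX] at h1
  obtain ⟨l, hl⟩ := (mk_pow_iff X _).mp (pow_orderOf_eq_one (QuotientGroup.mk X : ProjectiveSpecialLinearGroup (Fin n) F))
  rw [h1] at hl
  obtain ⟨a, ha⟩ := FiniteField.card F p
  -- a root of `l`
  obtain ⟨μ, hμ⟩ : ∃ μ : F, μ ^ (p ^ (s + 1)) = l := by
    refine ⟨l ^ ((p ^ ((a : ℕ) - 1)) ^ (s + 1)), ?_⟩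
    have ha1 : (a : ℕ) - 1 + 1 = a := Nat.sub_add_cancel a.pos
    rw [← pow_mul, ← mul_pow, ← pow_succ, ha1, ← ha.2]
    exact FiniteField.pow_card_pow (s + 1) l
  rcases Nat.eq_zero_or_pos n with rfl | hn
  · have : g = 1 := by
      haveI : Subsingleton (SpecialLinearGroup (Fin 0) F) := ⟨fun a b => Subtype.ext (Subsingleton.elim _ _)⟩
      obtain ⟨Y, rfl⟩ := QuotientGroup.mk_surjective g
      rw [Subsingleton.elim Y 1]; rfl
    rw [this, orderOf_one] at hc
    have h2 : p ∣ 1 := by rw [hc, pow_succ, mul_assoc]; exact (Dvd.intro _ rfl : p ∣ p * c).mul_left _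
    exact hp.out.one_lt.ne' (Nat.dvd_one.mp h2)
  haveI : NeZero n := ⟨hn.ne'⟩
  set M := (X : Matrix (Fin n) (Fin n) F) - algebraMap F _ μ with hM
  have hcomm : Commute (X : Matrix (Fin n) (Fin n) F) (algebraMap F _ μ) := (Algebra.commutes μ _).symm
  have hnil : M ^ (p ^ (s + 1)) = 0 := by
    rw [hM, sub_pow_char_pow_of_commute _ _ hcomm, hl, ← map_pow, hμ, sub_self]
  have hnil2 : M ^ n = 0 := by
    have h3 : IsNilpotent (Matrix.toLinAlgEquiv' M) := ⟨p ^ (s + 1), by rw [← map_pow, hnil, map_zero]⟩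
    rw [LinearMap.isNilpotent_iff_charpoly] at h3
    have h4 := LinearMap.aeval_self_charpoly (Matrix.toLinAlgEquiv' M)
    rw [h3, map_pow, Polynomial.aeval_X, Module.finrank_fin_fun, ← map_pow] at h4
    exact Matrix.toLinAlgEquiv'.injective (h4.trans (map_zero _).symm)
  have hnil3 : M ^ (p ^ s) = 0 := by
    obtain ⟨d, hd⟩ := Nat.exists_eq_add_of_le hcon
    rw [hd, pow_add, hnil2, zero_mul]
  rw [hM, sub_pow_char_pow_of_commute _ _ hcomm, ← map_pow, sub_eq_zero] at hnil3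
  have h5 : (QuotientGroup.mk X : ProjectiveSpecialLinearGroup (Fin n) F) ^ (p ^ s) = 1 := (mk_pow_iff X _).mpr ⟨_, hnil3⟩
  have h6 := orderOf_dvd_of_pow_eq_one h5
  rw [h1, Nat.pow_dvd_pow_iff_le_right hp.out.one_lt] at h6
  omega

/-- the mixed slot -/
theorem mixed (p : ℕ) [hp : Fact p.Prime] [CharP F p] {n s r : ℕ} (hr : r.Prime) (hrq : r ∣ Fintype.card F - 1) (hrn : ¬ r ∣ n)
    (hs : p ^ s < n - 1) : p ^ (s + 1) * r ∈ Set.range (orderOf : ProjectiveSpecialLinearGroup (Fin n) F → ℕ) := by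
  haveI : Finite (ProjectiveSpecialLinearGroup (Fin n) F) := inferInstance
  have hq1 : 1 < Fintype.card F := Fintype.one_lt_card
  have hmonic : ((X : F[X]) ^ (n - 1)).Monic := monic_X_pow _
  let B := AdjoinRoot ((X : F[X]) ^ (n - 1))
  haveI : Module.Finite F B := hmonic.finite_adjoinRoot
  have hB : Module.finrank F B = n - 1 := by
    have := (AdjoinRoot.powerBasis (hmonic.ne_zero)).finrank
    rw [AdjoinRoot.powerBasis_dim, natDegree_X_pow] at this
    exact this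
  haveI : Nontrivial B := Module.nontrivial_of_finrank_pos (R := F) (by rw [hB]; exact lt_of_le_of_lt (Nat.zero_le _) hs)
  haveI : CharP B p := charP_of_injective_algebraMap (algebraMap F B).injective p
  let ε : B := AdjoinRoot.root _
  have hε : ∀ j, ε ^ j = AdjoinRoot.mk _ (X ^ j) := by
    intro j
    rw [map_pow, AdjoinRoot.mk_X]
  have hεn : ε ^ (n - 1) = 0 := by
    rw [hε, AdjoinRoot.mk_eq_zero]
  have hεs : ε ^ (p ^ s) ≠ 0 := by
    rw [hε, Ne, AdjoinRoot.mk_eq_zero, pow_dvd_pow_iff X_ne_zero not_isUnit_X]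
    omega
  let u : B := 1 + ε
  obtain ⟨T, hT⟩ : ∃ T, n - 1 ≤ p ^ T := ⟨n - 1, (Nat.lt_pow_self hp.out.one_lt).le⟩
  have huT : u ^ (p ^ T) = 1 := by
    change (1 + ε) ^ (p ^ T) = 1
    rw [add_pow_char_pow, one_pow]
    obtain ⟨d, hd⟩ := Nat.exists_eq_add_of_le hT
    rw [hd, pow_add, hεn, zero_mul, add_zero]
  have hus : u ^ (p ^ s) ≠ 1 := by
    change (1 + ε) ^ (p ^ s) ≠ 1
    rw [add_pow_char_pow, one_pow]
    intro h
    exact hεs (by simpa using h)
  obtain ⟨ζ, hζ⟩ := exists_order (E := F) (m := r) (by rwa [Nat.card_eq_fintype_card])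
  have hζ0 : ζ ≠ 0 := by
    rintro rfl
    rw [orderOf_zero] at hζ
    exact hr.ne_zero hζ.symm
  have hpq : Nat.Coprime p (Fintype.card F - 1) := by
    rw [Nat.Prime.coprime_iff_not_dvd hp.out]
    intro h
    obtain ⟨a, ha⟩ := FiniteField.card F p
    have h1 : p ∣ Fintype.card F := by rw [ha.2]; exact dvd_pow_self p a.ne_zero
    have h2 := Nat.dvd_sub h1 h
    rw [Nat.sub_sub_self hq1.le] at h2
    exact hp.out.one_lt.ne' (Nat.dvd_one.mp h2)
  have hrp : Nat.Coprime (p ^ (s + 1)) r := Nat.Coprime.pow_left _ (hpq.coprime_dvd_right hrq)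
  have hNu : Algebra.norm F u = 1 := by
    apply eq_one_of_coprime (m := p ^ T) (pow_ne_zero _ hp.out.ne_zero) _ (Nat.Coprime.pow_left _ hpq)
    rw [← map_pow, huT, map_one]
  let x : B × F := (algebraMap F B ζ * u, (ζ ^ (n - 1))⁻¹)
  have hfin : Module.finrank F (B × F) = n := by
    rw [Module.finrank_prod, hB, Module.finrank_self]
    have : 0 < n - 1 := lt_of_le_of_lt (Nat.zero_le _) hs
    omega
  have hNx : Algebra.norm F x = 1 := by
    rw [norm_prod]
    change Algebra.norm F (algebraMap F B ζ * u) * Algebra.norm F ((ζ ^ (n - 1))⁻¹) = 1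
    rw [map_mul, hNu, mul_one, Algebra.norm_algebraMap, hB, Algebra.norm_self, MonoidHom.id_apply, mul_inv_cancel₀ (pow_ne_zero _ hζ0)]
  obtain ⟨g, hg⟩ := realize hfin x hNx
  apply mem_range_of_dvd (m := orderOf g) ⟨g, rfl⟩
  obtain ⟨c, hc⟩ := (hg (orderOf g)).mp (pow_orderOf_eq_one g)
  set o := orderOf g with ho
  have hc1 : (algebraMap F B ζ * u) ^ o = algebraMap F B c := congrArg Prod.fst hc
  have hc2 : ((ζ ^ (n - 1))⁻¹) ^ o = c := congrArg Prod.snd hc
  have hu1 : u ^ o = algebraMap F B ((ζ ^ o)⁻¹ * c) := by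
    rw [map_mul, ← hc1, mul_pow, ← map_pow, ← mul_assoc, ← map_mul, inv_mul_cancel₀ (pow_ne_zero _ hζ0), map_one, one_mul]
  have hc3 : (ζ ^ o)⁻¹ * c = 1 := by
    apply eq_one_of_coprime (m := p ^ T) (pow_ne_zero _ hp.out.ne_zero) _ (Nat.Coprime.pow_left _ hpq)
    apply (algebraMap F B).injective
    rw [map_pow, ← hu1, ← pow_mul, mul_comm, pow_mul, huT, one_pow, map_one]
  rw [hc3, map_one] at hu1
  apply hrp.mul_dvd_of_dvd_of_dvd
  · obtain ⟨t, ht, ht2⟩ := (Nat.dvd_prime_pow hp.out).mp (orderOf_dvd_of_pow_eq_one huT)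
    have h1 : s + 1 ≤ t := by
      by_contra hlt
      push Not at hlt
      apply hus
      rw [← orderOf_dvd_iff_pow_eq_one, ht2]
      exact pow_dvd_pow _ (by omega)
    exact (pow_dvd_pow p h1).trans (ht2 ▸ orderOf_dvd_of_pow_eq_one hu1)
  · have h1 : ζ ^ (n * o) = 1 := by
      have h2 : c = ζ ^ o := by
        have := congrArg (ζ ^ o * ·) hc3
        simp only [mul_one] at this
        rw [← mul_assoc, mul_inv_cancel₀ (pow_ne_zero _ hζ0), one_mul] at this
        exact this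
      rw [h2, inv_pow] at hc2
      have h3 := congrArg (((ζ ^ (n - 1)) ^ o) * ·) hc2
      rw [mul_inv_cancel₀ (pow_ne_zero _ (pow_ne_zero _ hζ0)), ← pow_mul, ← pow_add] at h3
      rw [h3]
      congr 1
      have : n = (n - 1) + 1 := by
        have : 0 < n - 1 := lt_of_le_of_lt (Nat.zero_le _) hs
        omega
      conv_lhs => rw [this]
      ring
    have h2 := orderOf_dvd_of_pow_eq_one h1
    rw [hζ, hr.dvd_mul] at h2
    exact h2.resolve_left hrn

/-- the dichotomy -/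
theorem dichotomy (p : ℕ) [hp : Fact p.Prime] [CharP F p] {n r : ℕ} (hn : n ≠ 0) (hr : r.Prime) (hrq : r ∣ Fintype.card F - 1) (hrn : ¬ r ∣ n)
    {o : ℕ} (ho : o ∈ Set.range (orderOf : ProjectiveSpecialLinearGroup (Fin n) F → ℕ)) (hro : ¬ r ∣ o) :
    r * o ∈ Set.range (orderOf : ProjectiveSpecialLinearGroup (Fin n) F → ℕ) ∨
      ∃ T : ℕ, o ∣ p ^ T * ((∑ i ∈ Finset.range n, Fintype.card F ^ i) / Nat.gcd n (Fintype.card F - 1)) := by
  obtain ⟨g, rfl⟩ := ho
  obtain ⟨X, rfl⟩ := QuotientGroup.mk_surjective g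
  by_cases h : ∀ e : Matrix (Fin n) (Fin n) F, e * e = e → Commute e (X : Matrix (Fin n) (Fin n) F) → e = 0 ∨ e = 1
  · right
    exact local_case p hn X h
  · left
    push Not at h
    obtain ⟨e, he, hc, he0, he1⟩ := h
    obtain ⟨Z, hZ, hZr⟩ := exists_comm_of_idem hr hrq hrn X e he he0 he1 hc
    refine ⟨(QuotientGroup.mk Z : ProjectiveSpecialLinearGroup (Fin n) F) * QuotientGroup.mk X, ?_⟩
    have h1 : Commute (QuotientGroup.mk Z : ProjectiveSpecialLinearGroup (Fin n) F) (QuotientGroup.mk X) :=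
      hZ.map (QuotientGroup.mk' _)
    rw [h1.orderOf_mul_eq_mul_orderOf_of_coprime (by rw [hZr]; exact (Nat.Prime.coprime_iff_not_dvd hr).mpr hro), hZr]

theorem r_mem {n r : ℕ} (hn : 2 ≤ n) (hr : r.Prime) (hrq : r ∣ Fintype.card F - 1) (hrn : ¬ r ∣ n) :
    r ∈ Set.range (orderOf : ProjectiveSpecialLinearGroup (Fin n) F → ℕ) := by
  obtain ⟨Z, -, hZ⟩ := exists_comm_of_idem hr hrq hrn (1 : SpecialLinearGroup (Fin n) F)
    (Matrix.diagonal (fun i => if i = ⟨0, by omega⟩ then 1 else 0)) (by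
      rw [Matrix.diagonal_mul_diagonal]
      congr 1
      funext i
      split_ifs <;> simp) (by
      intro h
      have := congrFun (congrFun h ⟨0, by omega⟩) ⟨0, by omega⟩
      simp at this) (by
      intro h
      have := congrFun (congrFun h ⟨1, by omega⟩) ⟨1, by omega⟩
      simp at this) (Commute.one_right _)
  exact ⟨_, hZ⟩

end slots

theorem prime_pow_dvd_lcm' {l e a b : ℕ} (hl : l.Prime) (ha : a ≠ 0) (hb : b ≠ 0) (h : l ^ e ∣ Nat.lcm a b) : l ^ e ∣ a ∨ l ^ e ∣ b := by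
  rw [hl.pow_dvd_iff_le_factorization (Nat.lcm_ne_zero ha hb), Nat.factorization_lcm ha hb, Finsupp.sup_apply] at h
  rw [hl.pow_dvd_iff_le_factorization ha, hl.pow_dvd_iff_le_factorization hb]
  exact le_sup_iff.mp h

theorem mem_range_prod {G H : Type*} [Group G] [Group H] (m : ℕ) :
    m ∈ Set.range (orderOf : G × H → ℕ) ↔ ∃ a ∈ Set.range (orderOf : G → ℕ), ∃ b ∈ Set.range (orderOf : H → ℕ), m = Nat.lcm a b := by
  constructor
  · rintro ⟨⟨g, h⟩, rfl⟩
    exact ⟨_, ⟨g, rfl⟩, _, ⟨h, rfl⟩, Prod.orderOf _⟩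
  · rintro ⟨_, ⟨g, rfl⟩, _, ⟨h, rfl⟩, rfl⟩
    exact ⟨(g, h), Prod.orderOf _⟩

theorem psl_powers {F : Type*} [Field F] [Fintype F] (p n r m : ℕ) [hp : Fact p.Prime] [CharP F p]
    (hn : 2 ≤ n) (hr : r.Prime) (hrq : r ∣ Fintype.card F - 1) (hrn : ¬ r ∣ n) :
    Set.range (orderOf : ProjectiveSpecialLinearGroup (Fin n) F × ProjectiveSpecialLinearGroup (Fin n) F × ProjectiveSpecialLinearGroup (Fin n) F × Multiplicative (Fin m → ZMod r) → ℕ) =
      Set.range (orderOf : ProjectiveSpecialLinearGroup (Fin n) F × ProjectiveSpecialLinearGroup (Fin n) F × ProjectiveSpecialLinearGroup (Fin n) F → ℕ) ∧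
    ((¬ ∃ j : ℕ, n - 1 = p ^ j) →
      Set.range (orderOf : ProjectiveSpecialLinearGroup (Fin n) F × ProjectiveSpecialLinearGroup (Fin n) F × Multiplicative (Fin m → ZMod r) → ℕ) =
        Set.range (orderOf : ProjectiveSpecialLinearGroup (Fin n) F × ProjectiveSpecialLinearGroup (Fin n) F → ℕ)) := by
  haveI : Finite (ProjectiveSpecialLinearGroup (Fin n) F) := inferInstance
  set O := Set.range (orderOf : ProjectiveSpecialLinearGroup (Fin n) F → ℕ) with hO
  have hone : 1 ∈ O := ⟨1, orderOf_one⟩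
  have hr1 : r ∈ O := r_mem hn hr hrq hrn
  have hpos : ∀ a ∈ O, a ≠ 0 := by rintro _ ⟨g, rfl⟩; exact (orderOf_pos g).ne'
  have hdvd : ∀ a ∈ O, ∀ b, b ∣ a → b ∈ O := fun a ha b hb => mem_range_of_dvd ha hb
  have hdich : ∀ a ∈ O, ¬ r ∣ a → r * a ∈ O ∨ ∃ T : ℕ, a ∣ p ^ T * ((∑ i ∈ Finset.range n, Fintype.card F ^ i) / Nat.gcd n (Fintype.card F - 1)) :=
    fun a ha hra => dichotomy p (by omega) hr hrq hrn ha hra
  have hsing := singer (F := F) (n := n) (by omega)
  rw [← hO] at hsing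
  set M := ((∑ i ∈ Finset.range n, Fintype.card F ^ i) / Nat.gcd n (Fintype.card F - 1)) with hM
  have hZ : ∀ t ∈ Set.range (orderOf : Multiplicative (Fin m → ZMod r) → ℕ), t = 1 ∨ t = r := by
    rintro _ ⟨z, rfl⟩
    have h1 : z ^ r = 1 := by
      apply Multiplicative.toAdd.injective
      funext i
      change r • (Multiplicative.toAdd z i) = 0
      rw [nsmul_eq_mul, CharP.cast_eq_zero, zero_mul]
    exact (Nat.dvd_prime hr).mp (orderOf_dvd_of_pow_eq_one h1)
  have hZ1 : 1 ∈ Set.range (orderOf : Multiplicative (Fin m → ZMod r) → ℕ) := ⟨1, orderOf_one⟩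
  have hrmul : ∀ a, ¬ r ∣ a → r * a = Nat.lcm r a := fun a ha => (Nat.Coprime.lcm_eq_mul ((Nat.Prime.coprime_iff_not_dvd hr).mpr ha)).symm
  -- the local situation
  have hloc : ∀ m0 : ℕ, m0 ≠ 0 → (∃ T, m0 ∣ p ^ T * M) → ∃ s w, m0 = Nat.lcm (p ^ s) w ∧ w ∈ O := by
    rintro m0 hm0 ⟨T, hT⟩
    obtain ⟨s, w, hw, hm⟩ := Nat.exists_eq_pow_mul_and_not_dvd hm0 p hp.out.ne_one
    have hcop : Nat.Coprime p w := (Nat.Prime.coprime_iff_not_dvd hp.out).mpr hw
    refine ⟨s, w, ?_, hdvd M hsing w ?_⟩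
    · rw [hm, (Nat.Coprime.pow_left s hcop).lcm_eq_mul]
    · apply (Nat.Coprime.pow_left T hcop).symm.dvd_of_dvd_mul_left
      exact (Dvd.intro_left _ hm.symm).trans hT
  constructor
  · ext k
    rw [mem_range_prod, mem_range_prod]
    simp only [mem_range_prod]
    constructor
    · rintro ⟨a, ha, _, ⟨b, hb, _, ⟨c, hc, t, ht, rfl⟩, rfl⟩, rfl⟩
      rw [← hO] at ha hb hc
      rcases hZ t ht with rfl | rfl
      · exact ⟨a, ha, _, ⟨b, hb, c, hc, rfl⟩, by rw [Nat.lcm_one_right]⟩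
      · have ht : Nat.lcm a (Nat.lcm b (Nat.lcm c t)) = Nat.lcm (Nat.lcm a (Nat.lcm b c)) t := by
          rw [Nat.lcm_assoc, Nat.lcm_assoc]
        rw [ht]
        by_cases hra : t ∣ Nat.lcm a (Nat.lcm b c)
        · refine ⟨a, ha, _, ⟨b, hb, c, hc, rfl⟩, ?_⟩
          exact Nat.lcm_eq_left hra
        · have h1 : ¬ t ∣ a := fun h => hra (h.trans (Nat.dvd_lcm_left _ _))
          have h2 : ¬ t ∣ b := fun h => hra ((h.trans (Nat.dvd_lcm_left _ _)).trans (Nat.dvd_lcm_right _ _))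
          have h3 : ¬ t ∣ c := fun h => hra ((h.trans (Nat.dvd_lcm_right _ _)).trans (Nat.dvd_lcm_right _ _))
          rcases hdich a ha h1 with hPa | ⟨Ta, hTa⟩
          · refine ⟨t * a, hPa, _, ⟨b, hb, c, hc, rfl⟩, ?_⟩
            rw [hrmul a h1, Nat.lcm_comm, Nat.lcm_assoc]
          rcases hdich b hb h2 with hPb | ⟨Tb, hTb⟩
          · refine ⟨a, ha, _, ⟨t * b, hPb, c, hc, rfl⟩, ?_⟩
            rw [hrmul b h2, Nat.lcm_assoc, Nat.lcm_comm (Nat.lcm b c) t, Nat.lcm_assoc t b c]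
          rcases hdich c hc h3 with hPc | ⟨Tc, hTc⟩
          · refine ⟨a, ha, _, ⟨b, hb, t * c, hPc, rfl⟩, ?_⟩
            rw [hrmul c h3, Nat.lcm_assoc, Nat.lcm_assoc, Nat.lcm_comm c t]
          · have hall : Nat.lcm a (Nat.lcm b c) ∣ p ^ (Ta + Tb + Tc) * M := by
              apply Nat.lcm_dvd (hTa.trans (Nat.mul_dvd_mul_right (pow_dvd_pow p (by omega)) M))
              apply Nat.lcm_dvd (hTb.trans (Nat.mul_dvd_mul_right (pow_dvd_pow p (by omega)) M))
              exact (hTc.trans (Nat.mul_dvd_mul_right (pow_dvd_pow p (by omega)) M))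
            have hbc0 := Nat.lcm_ne_zero (hpos b hb) (hpos c hc)
            have habc0 := Nat.lcm_ne_zero (hpos a ha) hbc0
            obtain ⟨s, w, hsw, hw⟩ := hloc _ habc0 ⟨_, hall⟩
            have hps : p ^ s ∈ O := by
              have h4 : p ^ s ∣ Nat.lcm a (Nat.lcm b c) := by rw [hsw]; exact Nat.dvd_lcm_left _ _
              rcases prime_pow_dvd_lcm' hp.out (hpos a ha) hbc0 h4 with h5 | h5
              · exact hdvd a ha _ h5
              · rcases prime_pow_dvd_lcm' hp.out (hpos b hb) (hpos c hc) h5 with h6 | h6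
                · exact hdvd b hb _ h6
                · exact hdvd c hc _ h6
            refine ⟨p ^ s, hps, _, ⟨w, hw, t, hr1, rfl⟩, ?_⟩
            rw [hsw, Nat.lcm_assoc]
    · rintro ⟨a, ha, _, ⟨b, hb, c, hc, rfl⟩, rfl⟩
      exact ⟨a, ha, _, ⟨b, hb, _, ⟨c, hc, 1, hZ1, rfl⟩, rfl⟩, by rw [Nat.lcm_one_right]⟩
  · intro hnp
    ext k
    rw [mem_range_prod, mem_range_prod]
    simp only [mem_range_prod]
    constructor
    · rintro ⟨a, ha, _, ⟨b, hb, t, ht, rfl⟩, rfl⟩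
      rw [← hO] at ha hb
      rcases hZ t ht with rfl | rfl
      · exact ⟨a, ha, b, hb, by rw [Nat.lcm_one_right]⟩
      · have ht : Nat.lcm a (Nat.lcm b t) = Nat.lcm (Nat.lcm a b) t := by
          rw [Nat.lcm_assoc]
        rw [ht]
        by_cases hra : t ∣ Nat.lcm a b
        · exact ⟨a, ha, b, hb, Nat.lcm_eq_left hra⟩
        · have h1 : ¬ t ∣ a := fun h => hra (h.trans (Nat.dvd_lcm_left _ _))
          have h2 : ¬ t ∣ b := fun h => hra (h.trans (Nat.dvd_lcm_right _ _))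
          rcases hdich a ha h1 with hPa | ⟨Ta, hTa⟩
          · refine ⟨t * a, hPa, b, hb, ?_⟩
            rw [hrmul a h1, Nat.lcm_comm, Nat.lcm_assoc]
          rcases hdich b hb h2 with hPb | ⟨Tb, hTb⟩
          · refine ⟨a, ha, t * b, hPb, ?_⟩
            rw [hrmul b h2, Nat.lcm_assoc, Nat.lcm_comm b t]
          · have hall : Nat.lcm a b ∣ p ^ (Ta + Tb) * M := by
              apply Nat.lcm_dvd (hTa.trans (Nat.mul_dvd_mul_right (pow_dvd_pow p (by omega)) M))
              exact (hTb.trans (Nat.mul_dvd_mul_right (pow_dvd_pow p (by omega)) M))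
            have hab0 := Nat.lcm_ne_zero (hpos a ha) (hpos b hb)
            obtain ⟨s, w, hsw, hw⟩ := hloc _ hab0 ⟨_, hall⟩
            have hps : p ^ s * t ∈ O := by
              rcases Nat.eq_zero_or_pos s with rfl | hs
              · rw [pow_zero, one_mul]; exact hr1
              obtain ⟨s, rfl⟩ : ∃ s', s = s' + 1 := ⟨s - 1, by omega⟩
              have h4 : p ^ (s + 1) ∣ Nat.lcm a b := by rw [hsw]; exact Nat.dvd_lcm_left _ _
              have h5 : ∃ g : ProjectiveSpecialLinearGroup (Fin n) F, p ^ (s + 1) ∣ orderOf g := by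
                rcases prime_pow_dvd_lcm' hp.out (hpos a ha) (hpos b hb) h4 with h5 | h5
                · obtain ⟨g, hg⟩ := ha
                  exact ⟨g, by rw [hg]; exact h5⟩
                · obtain ⟨g, hg⟩ := hb
                  exact ⟨g, by rw [hg]; exact h5⟩
              obtain ⟨g, hg⟩ := h5
              have h6 := p_bound p g hg
              have h7 : n - 1 ≠ p ^ s := fun h => hnp ⟨s, h⟩
              exact mixed p hr hrq hrn (by omega)
            have hlcm : p ^ s * t = Nat.lcm (p ^ s) t := by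
              have : ¬ t ∣ p ^ s := fun h => hra (by rw [hsw]; exact h.trans (Nat.dvd_lcm_left _ _))
              rw [mul_comm, hrmul _ this, Nat.lcm_comm]
            refine ⟨p ^ s * t, hps, w, hw, ?_⟩
            rw [hsw, hlcm, Nat.lcm_assoc, Nat.lcm_assoc, Nat.lcm_comm w t]
    · rintro ⟨a, ha, b, hb, rfl⟩
      exact ⟨a, ha, _, ⟨b, hb, 1, hZ1, rfl⟩, by rw [Nat.lcm_one_right]⟩

end Cfsg.Agent.H21.GLo
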