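import Mathlib
import Cfsg.Agent.H21_GLo7

/-!
# Element orders of linear groups through commutative algebras, VIII: `PSL_3(q)`
-/

set_option autoImplicit false
open Matrix Polynomial

namespace Cfsg.Agent.H21.GLo

/-- truncated polynomial algebras: unipotent elements -/
theorem exists_unip.{u} (F : Type u) [Field F] [Fintype F] (p : ℕ) [hp : Fact p.Prime] [CharP F p] {m s : ℕ} (hs : p ^ s < m) :
    ∃ (B : Type u) (_ : CommRing B) (_ : Nontrivial B) (_ : Algebra F B) (_ : Module.Finite F B) (u : B) (T : ℕ),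
      Module.finrank F B = m ∧ u ^ (p ^ T) = 1 ∧ p ^ (s + 1) ∣ orderOf u ∧ Algebra.norm F u = 1 := by
  have hq1 : 1 < Fintype.card F := Fintype.one_lt_card
  have hmonic : ((X : F[X]) ^ m).Monic := monic_X_pow _
  let B := AdjoinRoot ((X : F[X]) ^ m)
  haveI : Module.Finite F B := hmonic.finite_adjoinRoot
  have hB : Module.finrank F B = m := by
    have := (AdjoinRoot.powerBasis (hmonic.ne_zero)).finrank
    rw [AdjoinRoot.powerBasis_dim, natDegree_X_pow] at this
    exact this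
  haveI : Nontrivial B := Module.nontrivial_of_finrank_pos (R := F) (by rw [hB]; exact lt_of_le_of_lt (Nat.zero_le _) hs)
  haveI : CharP B p := charP_of_injective_algebraMap (algebraMap F B).injective p
  let ε : B := AdjoinRoot.root _
  have hε : ∀ j, ε ^ j = AdjoinRoot.mk _ (X ^ j) := by
    intro j
    rw [map_pow, AdjoinRoot.mk_X]
  have hεn : ε ^ m = 0 := by
    rw [hε, AdjoinRoot.mk_eq_zero]
  have hεs : ε ^ (p ^ s) ≠ 0 := by
    rw [hε, Ne, AdjoinRoot.mk_eq_zero, pow_dvd_pow_iff X_ne_zero not_isUnit_X]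
    omega
  let u : B := 1 + ε
  obtain ⟨T, hT⟩ : ∃ T, m ≤ p ^ T := ⟨m, (Nat.lt_pow_self hp.out.one_lt).le⟩
  have huT : u ^ (p ^ T) = 1 := by
    change (1 + ε) ^ (p ^ T) = 1
    rw [add_pow_char_pow, one_pow]
    obtain ⟨d, hd⟩ := Nat.exists_eq_add_of_le hT
    rw [hd, pow_add, hεn, zero_mul, add_zero]
  have hus : u ^ (p ^ s) ≠ 1 := by
    change (1 + ε) ^ (p ^ s) ≠ 1
    rw [add_pow_char_pow, one_pow]
    intro h
    exact hεs (by simpa using h)
  have hpq : Nat.Coprime p (Fintype.card F - 1) := by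
    rw [Nat.Prime.coprime_iff_not_dvd hp.out]
    intro h
    obtain ⟨a, ha⟩ := FiniteField.card F p
    have h1 : p ∣ Fintype.card F := by rw [ha.2]; exact dvd_pow_self p a.ne_zero
    have h2 := Nat.dvd_sub h1 h
    rw [Nat.sub_sub_self hq1.le] at h2
    exact hp.out.one_lt.ne' (Nat.dvd_one.mp h2)
  have hNu : Algebra.norm F u = 1 := by
    apply eq_one_of_coprime (m := p ^ T) (pow_ne_zero _ hp.out.ne_zero) _ (Nat.Coprime.pow_left _ hpq)
    rw [← map_pow, huT, map_one]
  refine ⟨B, inferInstance, inferInstance, inferInstance, inferInstance, u, T, hB, huT, ?_, hNu⟩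
  obtain ⟨t, ht, ht2⟩ := (Nat.dvd_prime_pow hp.out).mp (orderOf_dvd_of_pow_eq_one huT)
  rw [ht2]
  apply pow_dvd_pow
  by_contra hlt
  push Not at hlt
  apply hus
  rw [← orderOf_dvd_iff_pow_eq_one, ht2]
  exact pow_dvd_pow _ (by omega)

section three

variable {F : Type*} [Field F] [Fintype F]

theorem coprime_p (p : ℕ) [hp : Fact p.Prime] [CharP F p] : Nat.Coprime p (Fintype.card F - 1) := by
  have hq1 : 1 < Fintype.card F := Fintype.one_lt_card
  rw [Nat.Prime.coprime_iff_not_dvd hp.out]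
  intro h
  obtain ⟨a, ha⟩ := FiniteField.card F p
  have h1 : p ∣ Fintype.card F := by rw [ha.2]; exact dvd_pow_self p a.ne_zero
  have h2 := Nat.dvd_sub h1 h
  rw [Nat.sub_sub_self hq1.le] at h2
  exact hp.out.one_lt.ne' (Nat.dvd_one.mp h2)

/-- scalars among powers of unipotent elements are trivial -/
theorem unip_pow_eq_one (p : ℕ) [hp : Fact p.Prime] [CharP F p] {B : Type*} [CommRing B] [Nontrivial B] [Algebra F B] {u : B} {T : ℕ}
    (huT : u ^ (p ^ T) = 1) {o : ℕ} {c : F} (h : u ^ o = algebraMap F B c) : c = 1 := by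
  apply eq_one_of_coprime (m := p ^ T) (pow_ne_zero _ hp.out.ne_zero) _ (Nat.Coprime.pow_left _ (coprime_p p))
  apply (algebraMap F B).injective
  rw [map_pow, ← h, ← pow_mul, mul_comm, pow_mul, huT, one_pow, map_one]

theorem three_mem_a : (Fintype.card F ^ 2 + Fintype.card F + 1) / Nat.gcd 3 (Fintype.card F - 1) ∈
    Set.range (orderOf : ProjectiveSpecialLinearGroup (Fin 3) F → ℕ) := by
  have := singer (F := F) (n := 3) (by norm_num)
  rw [show ∑ i ∈ Finset.range 3, Fintype.card F ^ i = Fintype.card F ^ 2 + Fintype.card F + 1 by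
    simp [Finset.sum_range_succ]; ring] at this
  exact this

theorem three_mem_b : (Fintype.card F ^ 2 - 1) / Nat.gcd 3 (Fintype.card F - 1) ∈
    Set.range (orderOf : ProjectiveSpecialLinearGroup (Fin 3) F → ℕ) := by
  have hq1 : 1 < Fintype.card F := Fintype.one_lt_card
  set q := Fintype.card F with hq
  obtain ⟨E, _, _, _, _, hE, hcE⟩ := exists_ext F 2 (by norm_num)
  rw [← hq] at hcE
  have hqq : q ^ 2 - 1 = (q - 1) * (q + 1) := by
    obtain ⟨k, hk⟩ : ∃ k, q = k + 1 := ⟨q - 1, by omega⟩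
    rw [hk]
    have : (k + 1) ^ 2 = k * (k + 2) + 1 := by ring
    rw [this, Nat.add_sub_cancel, Nat.add_sub_cancel]
  obtain ⟨y, hy⟩ := exists_order (E := E) (m := q ^ 2 - 1) (by rw [hcE])
  have hy0 : y ≠ 0 := by
    rintro rfl
    rw [orderOf_zero, hqq] at hy
    have : 0 < (q - 1) * (q + 1) := Nat.mul_pos (by omega) (by omega)
    omega
  have hNy : Algebra.norm F y ≠ 0 := by
    rw [Ne, Algebra.norm_eq_zero_iff]; exact hy0
  have hNy2 : algebraMap F E (Algebra.norm F y) = y ^ (q + 1) := by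
    rw [FiniteField.algebraMap_norm_eq_pow_sum, Nat.card_eq_fintype_card, hE, ← hq]
    congr 1
    simp [Finset.sum_range_succ]; ring
  have hfin : Module.finrank F (E × F) = 3 := by rw [Module.finrank_prod, hE, Module.finrank_self]
  obtain ⟨g, hg⟩ := realize hfin ((y, (Algebra.norm F y)⁻¹) : E × F) (by
    rw [norm_prod]
    change Algebra.norm F y * Algebra.norm F ((Algebra.norm F y)⁻¹) = 1
    rw [Algebra.norm_self, MonoidHom.id_apply, mul_inv_cancel₀ hNy])
  apply mem_range_of_dvd (m := orderOf g) ⟨g, rfl⟩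
  obtain ⟨c, hc⟩ := (hg (orderOf g)).mp (pow_orderOf_eq_one g)
  set s := orderOf g with hs
  have hc1 : y ^ s = algebraMap F E c := congrArg Prod.fst hc
  have hc2 : ((Algebra.norm F y)⁻¹) ^ s = c := congrArg Prod.snd hc
  have hc0 : c ≠ 0 := by rw [← hc2]; exact pow_ne_zero _ (inv_ne_zero hNy)
  have h1 : y ^ (s * (q - 1)) = 1 := by
    rw [pow_mul, hc1, ← map_pow, FiniteField.pow_card_sub_one_eq_one c hc0, map_one]
  have h2 := orderOf_dvd_of_pow_eq_one h1
  rw [hy, hqq, mul_comm s] at h2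
  have h3 : q + 1 ∣ s := Nat.dvd_of_mul_dvd_mul_left (by omega) h2
  have h4 : y ^ (s * (q + 2)) = 1 := by
    have h5 : algebraMap F E (Algebra.norm F y ^ s) * algebraMap F E c = 1 := by
      rw [← map_mul, ← hc2, inv_pow, mul_inv_cancel₀ (pow_ne_zero _ hNy), map_one]
    rw [map_pow, hNy2, ← hc1, ← pow_mul, ← pow_add] at h5
    rw [← h5]; congr 1; ring
  have h5 := orderOf_dvd_of_pow_eq_one h4
  rw [hy, hqq] at h5
  obtain ⟨t, ht⟩ := h3
  have h6 : q - 1 ∣ t * (q + 2) := by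
    apply Nat.dvd_of_mul_dvd_mul_left (show 0 < q + 1 by omega)
    calc (q + 1) * (q - 1) = (q - 1) * (q + 1) := by ring
      _ ∣ s * (q + 2) := h5
      _ = (q + 1) * (t * (q + 2)) := by rw [ht]; ring
  have h7 : Nat.gcd 3 (q - 1) = Nat.gcd (q - 1) (q + 2) := by
    have : q + 2 = 3 + (q - 1) := by omega
    rw [this, Nat.gcd_add_self_right, Nat.gcd_comm]
  have hδ : 0 < Nat.gcd (q - 1) (q + 2) := Nat.gcd_pos_of_pos_left _ (by omega)
  have hcop := Nat.coprime_div_gcd_div_gcd hδ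
  rw [h7]
  set δ := Nat.gcd (q - 1) (q + 2) with hδdef
  obtain ⟨a, ha⟩ := Nat.gcd_dvd_left (q - 1) (q + 2)
  obtain ⟨b, hb⟩ := Nat.gcd_dvd_right (q - 1) (q + 2)
  rw [← hδdef] at ha hb
  have ha' : (q - 1) / δ = a := by rw [ha]; exact Nat.mul_div_cancel_left _ hδ
  have hb' : (q + 2) / δ = b := by rw [hb]; exact Nat.mul_div_cancel_left _ hδ
  rw [ha', hb'] at hcop
  have h8 : a ∣ t := by
    apply hcop.dvd_of_dvd_mul_right
    apply Nat.dvd_of_mul_dvd_mul_left hδ
    calc δ * a = q - 1 := ha.symm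
      _ ∣ t * (q + 2) := h6
      _ = δ * (t * b) := by rw [hb]; ring
  have h9 : (q ^ 2 - 1) / δ = (q + 1) * a := by
    rw [hqq, ha, mul_assoc, Nat.mul_div_cancel_left _ hδ, mul_comm]
  rw [h9, ht]
  exact Nat.mul_dvd_mul_left _ h8

theorem three_mem_c : Fintype.card F - 1 ∈ Set.range (orderOf : ProjectiveSpecialLinearGroup (Fin 3) F → ℕ) := by
  have hq1 : 1 < Fintype.card F := Fintype.one_lt_card
  obtain ⟨w, hw⟩ := exists_order (E := F) (m := Fintype.card F - 1) (by rw [Nat.card_eq_fintype_card])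
  have hw0 : w ≠ 0 := by
    rintro rfl
    rw [orderOf_zero] at hw
    omega
  have hfin : Module.finrank F (F × F × F) = 3 := by rw [Module.finrank_prod, Module.finrank_prod, Module.finrank_self]
  obtain ⟨g, hg⟩ := realize hfin ((w, w⁻¹, 1) : F × F × F) (by
    rw [norm_prod, norm_prod]
    change Algebra.norm F w * (Algebra.norm F (w⁻¹) * Algebra.norm F (1 : F)) = 1
    rw [Algebra.norm_self, MonoidHom.id_apply, MonoidHom.id_apply, MonoidHom.id_apply, mul_one, mul_inv_cancel₀ hw0])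
  apply mem_range_of_dvd (m := orderOf g) ⟨g, rfl⟩
  obtain ⟨c, hc⟩ := (hg (orderOf g)).mp (pow_orderOf_eq_one g)
  have hc1 : w ^ orderOf g = c := congrArg Prod.fst hc
  have hc3 : (1 : F) ^ orderOf g = c := congrArg (fun z => z.2.2) hc
  rw [one_pow] at hc3
  rw [← hc3] at hc1
  rw [← hw]
  exact orderOf_dvd_of_pow_eq_one hc1

theorem three_mem_d (p : ℕ) [hp : Fact p.Prime] [CharP F p] : p * (Fintype.card F - 1) / Nat.gcd 3 (Fintype.card F - 1) ∈
    Set.range (orderOf : ProjectiveSpecialLinearGroup (Fin 3) F → ℕ) := by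
  have hq1 : 1 < Fintype.card F := Fintype.one_lt_card
  have hcp := coprime_p (F := F) p
  set q := Fintype.card F with hq
  obtain ⟨w, hw⟩ := exists_order (E := F) (m := q - 1) (by rw [Nat.card_eq_fintype_card])
  have hw0 : w ≠ 0 := by
    rintro rfl
    rw [orderOf_zero] at hw
    omega
  obtain ⟨B, _, _, _, _, u, T, hB, huT, hpu, hNu⟩ := exists_unip F p (m := 2) (s := 0) (by norm_num)
  have hfin : Module.finrank F (B × F) = 3 := by rw [Module.finrank_prod, hB, Module.finrank_self]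
  obtain ⟨g, hg⟩ := realize hfin ((algebraMap F B w * u, (w ^ 2)⁻¹) : B × F) (by
    rw [norm_prod]
    change Algebra.norm F (algebraMap F B w * u) * Algebra.norm F ((w ^ 2)⁻¹) = 1
    rw [map_mul, hNu, mul_one, Algebra.norm_algebraMap, hB, Algebra.norm_self, MonoidHom.id_apply, mul_inv_cancel₀ (pow_ne_zero _ hw0)])
  apply mem_range_of_dvd (m := orderOf g) ⟨g, rfl⟩
  obtain ⟨c, hc⟩ := (hg (orderOf g)).mp (pow_orderOf_eq_one g)
  set o := orderOf g with ho
  have hc1 : (algebraMap F B w * u) ^ o = algebraMap F B c := congrArg Prod.fst hc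
  have hc2 : ((w ^ 2)⁻¹) ^ o = c := congrArg Prod.snd hc
  have hu1 : u ^ o = algebraMap F B ((w ^ o)⁻¹ * c) := by
    rw [map_mul, ← hc1, mul_pow, ← map_pow, ← mul_assoc, ← map_mul, inv_mul_cancel₀ (pow_ne_zero _ hw0), map_one, one_mul]
  have hc3 := unip_pow_eq_one p huT hu1
  rw [hc3, map_one] at hu1
  have h2 : c = w ^ o := by
    have := congrArg (w ^ o * ·) hc3
    simp only [mul_one] at this
    rw [← mul_assoc, mul_inv_cancel₀ (pow_ne_zero _ hw0), one_mul] at this
    exact this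
  have h3 : w ^ (o * 3) = 1 := by
    rw [h2, inv_pow] at hc2
    have h3 := congrArg (((w ^ 2) ^ o) * ·) hc2
    rw [mul_inv_cancel₀ (pow_ne_zero _ (pow_ne_zero _ hw0)), ← pow_mul, ← pow_add] at h3
    rw [h3]
    congr 1
    ring
  have h4 := orderOf_dvd_of_pow_eq_one h3
  rw [hw] at h4
  have hδ : 0 < Nat.gcd 3 (q - 1) := Nat.gcd_pos_of_pos_left _ (by norm_num)
  have hcop := Nat.coprime_div_gcd_div_gcd hδ
  set δ := Nat.gcd 3 (q - 1) with hδdef
  obtain ⟨a, ha⟩ := Nat.gcd_dvd_left 3 (q - 1)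
  obtain ⟨b, hb⟩ := Nat.gcd_dvd_right 3 (q - 1)
  rw [← hδdef] at ha hb
  have ha' : 3 / δ = a := by rw [ha]; exact Nat.mul_div_cancel_left _ hδ
  have hb' : (q - 1) / δ = b := by rw [hb]; exact Nat.mul_div_cancel_left _ hδ
  rw [ha', hb'] at hcop
  have h5 : b ∣ o := by
    apply hcop.symm.dvd_of_dvd_mul_right
    apply Nat.dvd_of_mul_dvd_mul_left hδ
    calc δ * b = q - 1 := hb.symm
      _ ∣ o * 3 := h4
      _ = δ * (o * a) := by nth_rewrite 1 [ha]; ring
  have h6 : p ∣ o := by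
    have := hpu.trans (orderOf_dvd_of_pow_eq_one hu1)
    rwa [zero_add, pow_one] at this
  have h7 : p * (q - 1) / δ = p * b := by
    rw [hb, show p * (δ * b) = δ * (p * b) by ring, Nat.mul_div_cancel_left _ hδ]
  rw [h7]
  apply Nat.Coprime.mul_dvd_of_dvd_of_dvd _ h6 h5
  exact Nat.Coprime.coprime_dvd_right ⟨δ, by rw [hb]; ring⟩ hcp

theorem three_mem_e [CharP F 2] : 4 ∈ Set.range (orderOf : ProjectiveSpecialLinearGroup (Fin 3) F → ℕ) := by
  haveI : Fact (Nat.Prime 2) := ⟨Nat.prime_two⟩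
  obtain ⟨B, _, _, _, _, u, T, hB, huT, hpu, hNu⟩ := exists_unip F 2 (m := 3) (s := 1) (by norm_num)
  obtain ⟨g, hg⟩ := realize hB u hNu
  apply mem_range_of_dvd (m := orderOf g) ⟨g, rfl⟩
  obtain ⟨c, hc⟩ := (hg (orderOf g)).mp (pow_orderOf_eq_one g)
  have h1 := unip_pow_eq_one 2 huT hc
  rw [h1, map_one] at hc
  exact hpu.trans (orderOf_dvd_of_pow_eq_one hc)

end three

end Cfsg.Agent.H21.GLo
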