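import Mathlib
import Cfsg.Agent.H21_GLf6
import Cfsg.Agent.H21_GLo8

/-!
# Isometries of forms over finite fields, VII: tori and unipotent blocks
-/

set_option autoImplicit false
open Polynomial Matrix

namespace Cfsg.Agent.H21.GLf

open Cfsg.Agent.H5 Cfsg.Agent.H21.GLo

universe u v w

/-- torus blocks -/
theorem exists_torus {F : Type u} [Field F] [Fintype F] {j w : ℕ} (hj : j ≠ 0) (hw : w ∣ Fintype.card F ^ j - 1 ∨ w ∣ Fintype.card F ^ j + 1) :
    ∃ b : Blk.{u, 0} F j, orderOf b.f = w := by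
  obtain ⟨E, _, _, _, _, hE, hcE⟩ := exists_ext F j hj
  haveI := Fintype.ofFinite E
  have hcE' : Fintype.card E = Fintype.card F ^ j := by rw [← Nat.card_eq_fintype_card, hcE]
  rcases hw with hw | hw
  · obtain ⟨y, hy⟩ := exists_order (E := E) (m := w) (by rw [hcE]; exact hw)
    have hq1 : 1 < Fintype.card F := Fintype.one_lt_card
    have hpos : 0 < Fintype.card F ^ j - 1 := by
      have := Nat.one_lt_pow hj hq1
      omega
    have hy0 : y ≠ 0 := by
      rintro rfl
      rw [orderOf_zero] at hy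
      rw [← hy] at hw
      have := Nat.eq_zero_of_zero_dvd hw
      omega
    obtain ⟨b, hb⟩ := exists_sl2 (F := F) hE (Matrix.diagonal ![y, y⁻¹]) (by
      rw [Matrix.det_diagonal, Fin.prod_univ_two]
      exact mul_inv_cancel₀ hy0)
    refine ⟨b, ?_⟩
    rw [← hy]
    apply order_of_pow_iff
    intro s
    rw [hb, Matrix.diagonal_pow]
    constructor
    · intro h
      have := congrFun (congrFun h 0) 0
      simpa using this
    · intro h
      rw [← Matrix.diagonal_one]
      congr 1
      funext i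
      fin_cases i
      · exact h
      · change (y⁻¹) ^ s = 1
        rw [inv_pow, h, inv_one]
  · obtain ⟨K, _, _, _, _, hK, hcK⟩ := exists_ext E 2 (by norm_num)
    have hK1 : Nat.card K - 1 = (Fintype.card F ^ j - 1) * (Fintype.card F ^ j + 1) := by
      rw [hcK, hcE']
      obtain ⟨c, hc⟩ : ∃ c, Fintype.card F ^ j = c + 1 := ⟨Fintype.card F ^ j - 1, by
        have := Nat.one_le_pow j (Fintype.card F) Fintype.card_pos
        omega⟩
      rw [hc]
      have : (c + 1) ^ 2 = c * (c + 2) + 1 := by ring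
      rw [this, Nat.add_sub_cancel, Nat.add_sub_cancel]
    obtain ⟨y, hy⟩ := exists_order (E := K) (m := w) (by rw [hK1]; exact hw.mul_left _)
    have hN : Algebra.norm E y = 1 := by
      apply (algebraMap E K).injective
      rw [FiniteField.algebraMap_norm_eq_pow_sum, Nat.card_eq_fintype_card, hK, map_one, hcE']
      rw [Finset.sum_range_succ, Finset.sum_range_one, pow_zero, pow_one, add_comm]
      rw [← orderOf_dvd_iff_pow_eq_one, hy]
      exact hw
    let B : Module.Basis (Fin 2) E K := Module.finBasisOfFinrankEq E K hK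
    obtain ⟨b, hb⟩ := exists_sl2 (F := F) hE (Algebra.leftMulMatrix B y) (by rw [← Algebra.norm_eq_matrix_det B y, hN])
    refine ⟨b, ?_⟩
    rw [← hy]
    apply order_of_pow_iff
    intro s
    rw [hb, ← map_pow]
    constructor
    · intro h
      apply Algebra.leftMulMatrix_injective B
      rw [h, map_one]
    · intro h
      rw [h, map_one]

/-- truncated polynomial algebras with an involution -/
theorem exists_unip_form (F : Type u) [Field F] [Fintype F] (p : ℕ) [hp : Fact p.Prime] [CharP F p] (σ : F →+* F) (hσσ : ∀ a, σ (σ a) = a)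
    (η : F) (hη : η = 1 ∨ η = -1) {m s : ℕ} (hs : p ^ s < m) (hθ : ∃ θ : F, θ + η * (-1) ^ (m - 1) * σ θ ≠ 0) :
    ∃ (B : Type u) (_ : CommRing B) (_ : Nontrivial B) (_ : Algebra F B) (_ : Module.Finite F B) (u : B) (bar : B →+* B) (l : B →ₗ[F] F) (T : ℕ),
      Module.finrank F B = m ∧ u ^ (p ^ T) = 1 ∧ p ^ (s + 1) ∣ orderOf u ∧ Algebra.norm F u = 1 ∧ (∀ a, bar (bar a) = a) ∧
      (∀ c, bar (algebraMap F B c) = algebraMap F B (σ c)) ∧ u * bar u = 1 ∧ (∀ a, l (bar a) = η * σ (l a)) ∧
      (∀ a, (∀ b, l (a * b) = 0) → a = 0) := by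
  have hq1 : 1 < Fintype.card F := Fintype.one_lt_card
  have hm0 : 0 < m := lt_of_le_of_lt (Nat.zero_le _) hs
  have hmonic : ((X : F[X]) ^ m).Monic := monic_X_pow _
  let B := AdjoinRoot ((X : F[X]) ^ m)
  haveI : Module.Finite F B := hmonic.finite_adjoinRoot
  have hB : Module.finrank F B = m := by
    have := (AdjoinRoot.powerBasis (hmonic.ne_zero)).finrank
    rw [AdjoinRoot.powerBasis_dim, natDegree_X_pow] at this
    exact this
  haveI : Nontrivial B := Module.nontrivial_of_finrank_pos (R := F) (by rw [hB]; exact hm0)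
  haveI : CharP B p := charP_of_injective_algebraMap (algebraMap F B).injective p
  let ε : B := AdjoinRoot.root _
  have hε : ∀ j, ε ^ j = AdjoinRoot.mk _ (X ^ j) := by
    intro j
    rw [map_pow, AdjoinRoot.mk_X]
  have hεn : ε ^ m = 0 := by
    rw [hε, AdjoinRoot.mk_eq_zero]
  have hεs : ε ^ (p ^ s) ≠ 0 := by
    rw [hε, Ne, AdjoinRoot.mk_eq_zero, pow_dvd_pow_iff X_ne_zero not_isUnit_X]
    omega
  have hs0 : ε ^ (m - 1) ≠ 0 := by
    rw [hε, Ne, AdjoinRoot.mk_eq_zero, pow_dvd_pow_iff X_ne_zero not_isUnit_X]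
    omega
  let u : B := 1 + ε
  obtain ⟨T, hT⟩ : ∃ T, m ≤ p ^ T := ⟨m, (Nat.lt_pow_self hp.out.one_lt).le⟩
  have huT : u ^ (p ^ T) = 1 := by
    change (1 + ε) ^ (p ^ T) = 1
    rw [add_pow_char_pow, one_pow]
    obtain ⟨d, hd⟩ := Nat.exists_eq_add_of_le hT
    rw [hd, pow_add, hεn, zero_mul, add_zero]
  have hus : u ^ (p ^ s) ≠ 1 := by
    change (1 + ε) ^ (p ^ s) ≠ 1
    rw [add_pow_char_pow, one_pow]
    intro h
    exact hεs (by simpa using h)
  have hNu : Algebra.norm F u = 1 := by
    apply eq_one_of_coprime (m := p ^ T) (pow_ne_zero _ hp.out.ne_zero) _ (Nat.Coprime.pow_left _ (coprime_p p))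
    rw [← map_pow, huT, map_one]
  have hord : p ^ (s + 1) ∣ orderOf u := by
    obtain ⟨t, ht, ht2⟩ := (Nat.dvd_prime_pow hp.out).mp (orderOf_dvd_of_pow_eq_one huT)
    rw [ht2]
    apply pow_dvd_pow
    by_contra hlt
    push Not at hlt
    apply hus
    rw [← orderOf_dvd_iff_pow_eq_one, ht2]
    exact pow_dvd_pow _ (by omega)
  -- the inverse
  obtain ⟨v, huv⟩ : ∃ v : B, u * v = 1 := by
    refine ⟨u ^ (p ^ T - 1), ?_⟩
    rw [← pow_succ', Nat.sub_add_cancel (Nat.one_le_pow _ _ hp.out.pos), huT]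
  have hv : v - 1 = -v * ε := by
    have : (1 + ε) * v = 1 := huv
    linear_combination this
  have hvm : (v - 1) ^ m = 0 := by rw [hv, mul_pow, hεn, mul_zero]
  let bar : B →+* B := AdjoinRoot.lift ((algebraMap F B).comp σ) (v - 1) (by rw [eval₂_X_pow, hvm])
  have hbarε : bar ε = v - 1 := AdjoinRoot.lift_root _
  have hbarc : ∀ c, bar (algebraMap F B c) = algebraMap F B (σ c) := fun c => AdjoinRoot.lift_of _
  have hbaru : bar u = v := by
    change bar (1 + ε) = v
    rw [map_add, map_one, hbarε, add_sub_cancel]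
  have hbarv : bar v = u := by
    have h1 := congrArg bar huv
    rw [map_mul, map_one, hbaru] at h1
    calc bar v = (u * v) * bar v := by rw [huv, one_mul]
      _ = u * (v * bar v) := mul_assoc _ _ _
      _ = u := by rw [h1, mul_one]
  have hbb : ∀ a, bar (bar a) = a := by
    intro a
    obtain ⟨f, rfl⟩ := AdjoinRoot.mk_surjective a
    induction f using Polynomial.induction_on with
    | C c =>
      have h1 : AdjoinRoot.mk (X ^ m : F[X]) (C c) = algebraMap F B c := rfl
      rw [h1, hbarc, hbarc, hσσ]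
    | add f g hf hg => rw [map_add, map_add, map_add, hf, hg]
    | monomial n c _ =>
      have h1 : AdjoinRoot.mk (X ^ m : F[X]) (C c * X ^ (n + 1)) = algebraMap F B c * ε ^ (n + 1) := by
        rw [map_mul, hε]; rfl
      have h2 : bar (bar ε) = ε := by
        rw [hbarε, map_sub, map_one, hbarv]
        change 1 + ε - 1 = ε
        ring
      rw [h1, map_mul, map_mul, map_pow, map_pow, hbarc, hbarc, hσσ, h2]
  -- the socle
  have hvs : v * ε ^ (m - 1) = ε ^ (m - 1) := by
    have h1 : ε * ε ^ (m - 1) = 0 := by rw [← pow_succ', Nat.sub_add_cancel hm0, hεn]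
    have h2 : (v - 1) * ε ^ (m - 1) = 0 := by rw [hv, mul_assoc, h1, mul_zero]
    linear_combination h2
  have hbars : bar (ε ^ (m - 1)) = (-1) ^ (m - 1) * ε ^ (m - 1) := by
    rw [map_pow, hbarε, hv]
    have h1 : ∀ k : ℕ, v ^ k * ε ^ (m - 1) = ε ^ (m - 1) := by
      intro k
      induction k with
      | zero => rw [pow_zero, one_mul]
      | succ k ih => rw [pow_succ, mul_assoc, hvs, ih]
    rw [neg_mul, neg_pow, mul_pow, h1]
  -- the functional
  obtain ⟨l1, hl1⟩ : ∃ l1 : B →ₗ[F] F, l1 (ε ^ (m - 1)) ≠ 0 := by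
    by_contra hcon
    push Not at hcon
    exact hs0 ((Module.forall_dual_apply_eq_zero_iff F (ε ^ (m - 1))).mp hcon)
  obtain ⟨θ, hθ⟩ := hθ
  let l0 : B →ₗ[F] F := (θ / l1 (ε ^ (m - 1))) • l1
  have hl0 : l0 (ε ^ (m - 1)) = θ := div_mul_cancel₀ θ hl1
  have hηη : η * η = 1 := by rcases hη with rfl | rfl <;> ring
  have hση : σ η = η := by rcases hη with rfl | rfl <;> simp
  have hbsm : ∀ (c : F) (a : B), bar (c • a) = σ c • bar a := by
    intro c a
    rw [Algebra.smul_def, map_mul, hbarc, ← Algebra.smul_def]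
  let l : B →ₗ[F] F :=
    { toFun := fun a => l0 a + η * σ (l0 (bar a))
      map_add' := by intro a b; rw [map_add, map_add, map_add, map_add]; ring
      map_smul' := by
        intro c a
        rw [hbsm, map_smul, map_smul, smul_eq_mul, smul_eq_mul, map_mul, hσσ, RingHom.id_apply, smul_eq_mul]
        ring }
  have hl : ∀ a, l a = l0 a + η * σ (l0 (bar a)) := fun a => rfl
  refine ⟨B, inferInstance, inferInstance, inferInstance, inferInstance, u, bar, l, T, hB, huT, hord, hNu, hbb, hbarc, by rw [hbaru, huv], ?_, ?_⟩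
  · intro a
    rw [hl, hl, hbb, map_add, map_mul, hσσ, hση]
    linear_combination (-(l0 (bar a))) * hηη
  · intro a ha
    by_contra ha0
    obtain ⟨f, rfl⟩ := AdjoinRoot.mk_surjective a
    have hf0 : f ≠ 0 := by rintro rfl; exact ha0 (map_zero _)
    obtain ⟨g, hg, hgd⟩ := Polynomial.exists_eq_pow_rootMultiplicity_mul_and_not_dvd f hf0 0
    rw [C_0, sub_zero] at hg hgd
    set i := f.rootMultiplicity 0 with hi
    have him : i < m := by
      by_contra hcon
      push Not at hcon
      apply ha0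
      rw [AdjoinRoot.mk_eq_zero, hg]
      exact (pow_dvd_pow X hcon).trans (Dvd.intro _ rfl)
    have hcop : IsCoprime (X ^ m) g := IsCoprime.pow_left ((Polynomial.irreducible_X.coprime_iff_not_dvd).mpr hgd)
    obtain ⟨r1, r2, hr⟩ := hcop
    have h1 : AdjoinRoot.mk (X ^ m : F[X]) r2 * AdjoinRoot.mk (X ^ m : F[X]) g = 1 := by
      rw [← map_mul, ← map_one (AdjoinRoot.mk (X ^ m : F[X])), ← hr, map_add, map_mul _ r1, AdjoinRoot.mk_self, mul_zero, zero_add]
    have h2 := ha (AdjoinRoot.mk (X ^ m : F[X]) r2 * ε ^ (m - 1 - i))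
    have h3 : AdjoinRoot.mk (X ^ m : F[X]) f * (AdjoinRoot.mk (X ^ m : F[X]) r2 * ε ^ (m - 1 - i)) = ε ^ (m - 1) := by
      have h4 : AdjoinRoot.mk (X ^ m : F[X]) f = ε ^ i * AdjoinRoot.mk (X ^ m : F[X]) g := by
        rw [hε, ← map_mul, ← hg]
      rw [h4]
      calc ε ^ i * AdjoinRoot.mk (X ^ m : F[X]) g * (AdjoinRoot.mk (X ^ m : F[X]) r2 * ε ^ (m - 1 - i))
          = (AdjoinRoot.mk (X ^ m : F[X]) r2 * AdjoinRoot.mk (X ^ m : F[X]) g) * (ε ^ i * ε ^ (m - 1 - i)) := by ring
        _ = ε ^ (m - 1) := by rw [h1, one_mul, ← pow_add]; congr 1; omega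
    rw [h3, hl, hbars, hl0] at h2
    have h5 : l0 ((-1) ^ (m - 1) * ε ^ (m - 1)) = (-1) ^ (m - 1) * θ := by
      have h6 : ((-1) ^ (m - 1) * ε ^ (m - 1) : B) = ((-1 : F) ^ (m - 1)) • ε ^ (m - 1) := by
        rw [Algebra.smul_def, map_pow, map_neg, map_one]
      rw [h6, map_smul, hl0, smul_eq_mul]
    rw [h5, map_mul, map_pow, map_neg, map_one] at h2
    apply hθ
    rw [← h2]; ring

/-- unipotent symplectic blocks in odd characteristic -/
theorem exists_unip_blk (F : Type u) [Field F] [Fintype F] (p : ℕ) [hp : Fact p.Prime] [CharP F p] (hp2 : p ≠ 2) {j s : ℕ} (hs : p ^ s < 2 * j) :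
    ∃ b : Blk.{u, u} F j, (∃ T, b.f ^ (p ^ T) = 1) ∧ p ^ (s + 1) ∣ orderOf b.f := by
  have h2 : (2 : F) ≠ 0 := by
    intro h
    have h1 : ((2 : ℕ) : F) = 0 := by exact_mod_cast h
    rw [CharP.cast_eq_zero_iff F p] at h1
    exact hp2 ((Nat.prime_dvd_prime_iff_eq hp.out Nat.prime_two).mp h1)
  have hj : 0 < j := by
    rcases Nat.eq_zero_or_pos j with rfl | h
    · simp at hs
    · exact h
  obtain ⟨B, _, _, _, _, u, bar, l, T, hB, huT, hord, -, hbb, hbarc, hbaru, hl, hnd⟩ := exists_unip_form F p (RingHom.id F) (fun _ => rfl) (-1) (Or.inr rfl) hs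
    ⟨1, by
      have : (-1 : F) ^ (2 * j - 1) = -1 := Odd.neg_one_pow ⟨j - 1, by omega⟩
      rw [this, RingHom.id_apply]
      intro h
      apply h2
      linear_combination h⟩
  let D : LinearMap.BilinForm F B := LinearMap.mk₂ F (fun a b => l (bar a * b))
    (by intro x y z; rw [map_add, add_mul, map_add])
    (by
      intro c x y
      have h1 : bar (c • x) = c • bar x := by rw [Algebra.smul_def, map_mul bar, hbarc, RingHom.id_apply, ← Algebra.smul_def]
      rw [h1, smul_mul_assoc, map_smul])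
    (by intro x y z; rw [mul_add, map_add])
    (by intro c x y; rw [mul_smul_comm, map_smul])
  have hD : ∀ a b, D a b = l (bar a * b) := fun a b => rfl
  refine ⟨Blk.mk B inferInstance inferInstance inferInstance D ?_ ?_ (LinearMap.mulLeft F u) ?_ hB, ⟨T, ?_⟩, ?_⟩
  · intro x
    rw [hD]
    have h1 := hl (bar x * x)
    rw [map_mul, hbb, RingHom.id_apply, mul_comm x] at h1
    have h3 : (2 : F) * l (bar x * x) = 0 := by linear_combination h1
    exact (mul_eq_zero.mp h3).resolve_left h2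
  · intro x hx
    have h1 := hnd (bar x) (fun b => hx b)
    rw [← hbb x, h1, map_zero]
  · intro x y
    rw [hD, hD, LinearMap.mulLeft_apply, LinearMap.mulLeft_apply, map_mul bar]
    congr 1
    linear_combination (bar x * y) * hbaru
  · change (LinearMap.mulLeft F u) ^ (p ^ T) = 1
    rw [LinearMap.pow_mulLeft, huT, LinearMap.mulLeft_one]; rfl
  · change p ^ (s + 1) ∣ orderOf (LinearMap.mulLeft F u)
    have h1 : orderOf (LinearMap.mulLeft F u) = orderOf u := by
      apply order_of_pow_iff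
      intro k
      rw [LinearMap.pow_mulLeft]
      constructor
      · intro h
        have := LinearMap.congr_fun h 1
        rwa [LinearMap.mulLeft_apply, mul_one] at this
      · intro h
        rw [h, LinearMap.mulLeft_one]; rfl
    rw [h1]; exact hord

end Cfsg.Agent.H21.GLf
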