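import Mathlib
import Cfsg.Agent.H21_GLf7

/-!
# Isometries of forms over finite fields, VIII: odd orders in `PSp`
-/

set_option autoImplicit false
open Polynomial Matrix

namespace Cfsg.Agent.H21.GLf

open Cfsg.Agent.H5 Cfsg.Agent.H21.GLo

universe u v w

section sp

variable {F : Type u} [Field F]

theorem sq_one_odd {c : F} (h2 : c ^ 2 = 1) {w : ℕ} (hw : Odd w) (h : c ^ w = 1) : c = 1 := by
  obtain ⟨i, rfl⟩ := hw
  rwa [pow_succ, pow_mul, h2, one_pow, one_mul] at h

theorem neg_pow_smul {V : Type*} [AddCommGroup V] [Module F V] (f : Module.End F V) (s : ℕ) : (-f) ^ s = ((-1 : F) ^ s) • f ^ s := by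
  induction s with
  | zero => rw [pow_zero, pow_zero, pow_zero, one_smul]
  | succ s ih =>
    apply LinearMap.ext
    intro v
    rw [pow_succ, ih, pow_succ, pow_succ]
    change ((-1 : F) ^ s) • (f ^ s) (-(f v)) = ((-1 : F) ^ s * -1) • (f ^ s) (f v)
    rw [map_neg, mul_neg_one, neg_smul, smul_neg]

/-- lifts of odd order -/
theorem exists_lift_odd {n : ℕ} (hn : 1 ≤ n) (g : Cfsg.PSp n F) (hodd : Odd (orderOf g)) :
    ∃ f : Module.End F (Fin n ⊕ Fin n → F), (∀ u v, (Conc.sympFrm n F).B (f u) (f v) = (Conc.sympFrm n F).B u v) ∧ orderOf f = orderOf g := by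
  obtain ⟨X, rfl⟩ := QuotientGroup.mk_surjective g
  set o := orderOf (QuotientGroup.mk X : Cfsg.PSp n F) with ho
  let f0 : Module.End F (Fin n ⊕ Fin n → F) := Matrix.toLin' (X : Matrix (Fin n ⊕ Fin n) (Fin n ⊕ Fin n) F)
  have hf0 : ∀ u v, (Conc.sympFrm n F).B (f0 u) (f0 v) = (Conc.sympFrm n F).B u v := by
    intro u v
    rw [Conc.sympFrm_B, Conc.sympFrm_B, Matrix.toLin'_apply, Matrix.toLin'_apply]
    exact (Conc.mem_symplecticGroup_iff _).mp X.2 u v
  have hpow : ∀ s, f0 ^ s = Matrix.toLin' ((X : Matrix (Fin n ⊕ Fin n) (Fin n ⊕ Fin n) F) ^ s) := by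
    intro s
    exact (map_pow (Matrix.toLinAlgEquiv' (R := F) (n := Fin n ⊕ Fin n)) _ s).symm
  have hsc : ∀ (s : ℕ) (c : F), f0 ^ s = algebraMap F _ c → (X : Matrix (Fin n ⊕ Fin n) (Fin n ⊕ Fin n) F) ^ s = algebraMap F _ c := by
    intro s c h
    apply (Matrix.toLinAlgEquiv' (R := F) (n := Fin n ⊕ Fin n)).injective
    rw [AlgEquiv.commutes, ← h, hpow]; rfl
  obtain ⟨c, hc⟩ := (sp_mk_pow_iff X o).mp (pow_orderOf_eq_one _)
  have hfc : f0 ^ o = algebraMap F _ c := by
    rw [hpow, hc]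
    exact (Matrix.toLinAlgEquiv' (R := F) (n := Fin n ⊕ Fin n)).commutes c
  let b : Blk F n := Blk.mk (Fin n ⊕ Fin n → F) inferInstance inferInstance inferInstance (Conc.sympB n F)
    (Conc.sympB_alt n F) (Conc.sympFrm_nondeg n F) f0 hf0
    (by rw [Module.finrank_fintype_fun_eq_card, Fintype.card_sum, Fintype.card_fin]; ring)
  have hc2 : c ^ 2 = 1 := Blk.scalar_sq hn b hfc
  have key : ∀ (f : Module.End F (Fin n ⊕ Fin n → F)), (∀ s, ∃ e : F, e ≠ 0 ∧ f ^ s = e • f0 ^ s) → f ^ o = 1 → orderOf f = o := by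
    intro f hf hfo
    apply Nat.dvd_antisymm (orderOf_dvd_of_pow_eq_one hfo)
    obtain ⟨e, he0, he⟩ := hf (orderOf f)
    rw [pow_orderOf_eq_one] at he
    rw [ho]
    apply orderOf_dvd_of_pow_eq_one
    rw [sp_mk_pow_iff]
    refine ⟨e⁻¹, hsc _ _ ?_⟩
    rw [Algebra.algebraMap_eq_smul_one, he, smul_smul, inv_mul_cancel₀ he0, one_smul]
  rcases sq_eq_one_iff.mp hc2 with rfl | rfl
  · refine ⟨f0, hf0, key f0 (fun s => ⟨1, one_ne_zero, by rw [one_smul]⟩) ?_⟩
    rw [hfc, map_one]
  · refine ⟨-f0, ?_, key (-f0) (fun s => ⟨(-1) ^ s, pow_ne_zero _ (neg_ne_zero.mpr one_ne_zero), ?_⟩) ?_⟩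
    · intro u v
      rw [LinearMap.neg_apply, LinearMap.neg_apply, map_neg, map_neg, LinearMap.neg_apply, neg_neg, hf0]
    · exact neg_pow_smul f0 s
    · rw [neg_pow_smul, hodd.neg_one_pow, hfc, Algebra.algebraMap_eq_smul_one, smul_smul, neg_mul_neg, one_mul, one_smul]

variable [Fintype F] (p : ℕ) [hp : Fact p.Prime] [CharP F p]

/-- unipotent blocks, allowing the trivial one -/
theorem exists_unip_blk' (hp2 : p ≠ 2) {j t : ℕ} (hs : t = 0 ∨ p ^ (t - 1) < 2 * j) :
    ∃ b : Blk.{u, u} F j, (∃ T, b.f ^ (p ^ T) = 1) ∧ p ^ t ∣ orderOf b.f := by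
  rcases Nat.eq_zero_or_pos t with rfl | ht
  · obtain ⟨b, hb⟩ := Blk.exists_id F j
    exact ⟨b, ⟨0, by rw [hb, one_pow]⟩, by rw [pow_zero]; exact one_dvd _⟩
  · obtain ⟨s, rfl⟩ : ∃ s, t = s + 1 := ⟨t - 1, by omega⟩
    have hs' : p ^ s < 2 * j := by simpa using hs
    exact exists_unip_blk F p hp2 hs'

/-- elements `(S, -U)` -/
theorem mixed_sp (hp2 : p ≠ 2) {d e w t : ℕ} (hd : 1 ≤ d) (he : 1 ≤ e) (hw : Odd w)
    (hwd : w ∣ Fintype.card F ^ d - 1 ∨ w ∣ Fintype.card F ^ d + 1) (hwp : ¬ p ∣ w) (ht : t = 0 ∨ p ^ (t - 1) < 2 * e) :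
    2 * (w * p ^ t) ∈ Set.range (orderOf : Cfsg.PSp (d + e) F → ℕ) := by
  haveI : Finite (Cfsg.PSp (d + e) F) := inferInstance
  have hpodd : Odd p := hp.out.odd_of_ne_two hp2
  obtain ⟨b, hb⟩ := exists_torus (F := F) (j := d) (by omega) hwd
  obtain ⟨c, ⟨T, hT⟩, hc⟩ := exists_unip_blk' (F := F) p hp2 ht
  obtain ⟨g, hg⟩ := (b.sum c.neg).exists_psp
  apply mem_range_of_dvd (m := orderOf g) ⟨g, rfl⟩
  obtain ⟨a, ha⟩ := (hg (orderOf g)).mp (pow_orderOf_eq_one g)
  set s := orderOf g with hs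
  have ha2 : a ^ 2 = 1 := Blk.scalar_sq (by omega) _ ha
  obtain ⟨h1, h2⟩ := Blk.sum_scalar _ _ ha
  haveI : Nontrivial b.V := Module.nontrivial_of_finrank_pos (R := F) (by rw [b.dim]; omega)
  haveI : Nontrivial c.V := Module.nontrivial_of_finrank_pos (R := F) (by rw [c.dim]; omega)
  have haw : a ^ w = 1 := by
    apply (algebraMap F (Module.End F b.V)).injective
    rw [map_pow, ← h1, ← pow_mul, mul_comm, pow_mul, ← hb, pow_orderOf_eq_one, one_pow, map_one]
  have ha1 := sq_one_odd ha2 hw haw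
  rw [ha1, map_one] at h1 h2
  change (-c.f) ^ s = 1 at h2
  have hws : w ∣ s := by rw [← hb]; exact orderOf_dvd_of_pow_eq_one h1
  have hseven : Even s := by
    by_contra hso
    rw [Nat.not_even_iff_odd] at hso
    rw [hso.neg_pow] at h2
    have h3 : (-(c.f ^ s)) ^ (p ^ T) = 1 := by rw [h2, one_pow]
    rw [(hpodd.pow).neg_pow, ← pow_mul, mul_comm, pow_mul, hT, one_pow] at h3
    have h4 : (-1 : F) = 1 := by
      apply (algebraMap F (Module.End F c.V)).injective
      rw [map_neg, map_one]; exact h3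
    have h5 : ((2 : ℕ) : F) = 0 := by
      push_cast
      linear_combination -h4
    rw [CharP.cast_eq_zero_iff F p] at h5
    exact hp2 ((Nat.prime_dvd_prime_iff_eq hp.out Nat.prime_two).mp h5)
  rw [hseven.neg_pow] at h2
  have hps : p ^ t ∣ s := hc.trans (orderOf_dvd_of_pow_eq_one h2)
  have hwpt : Nat.Coprime w (p ^ t) := (Nat.Coprime.pow_left t ((Nat.Prime.coprime_iff_not_dvd hp.out).mpr hwp)).symm
  have h2w : Nat.Coprime 2 (w * p ^ t) := by
    rw [Nat.coprime_two_left]
    exact hw.mul hpodd.pow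
  exact h2w.mul_dvd_of_dvd_of_dvd hseven.two_dvd (hwpt.mul_dvd_of_dvd_of_dvd hws hps)

/-- torus elements -/
theorem torus_mem {n w : ℕ} (hn : 1 ≤ n) (hw : Odd w) (hwd : w ∣ Fintype.card F ^ n - 1 ∨ w ∣ Fintype.card F ^ n + 1) :
    w ∈ Set.range (orderOf : Cfsg.PSp n F → ℕ) := by
  haveI : Finite (Cfsg.PSp n F) := inferInstance
  obtain ⟨b, hb⟩ := exists_torus (F := F) (j := n) (by omega) hwd
  obtain ⟨g, hg⟩ := b.exists_psp
  apply mem_range_of_dvd (m := orderOf g) ⟨g, rfl⟩
  obtain ⟨a, ha⟩ := (hg (orderOf g)).mp (pow_orderOf_eq_one g)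
  have ha2 : a ^ 2 = 1 := Blk.scalar_sq (by omega) _ ha
  haveI : Nontrivial b.V := Module.nontrivial_of_finrank_pos (R := F) (by rw [b.dim]; omega)
  have haw : a ^ w = 1 := by
    apply (algebraMap F (Module.End F b.V)).injective
    rw [map_pow, ← ha, ← pow_mul, mul_comm, pow_mul, ← hb, pow_orderOf_eq_one, one_pow, map_one]
  rw [sq_one_odd ha2 hw haw, map_one] at ha
  rw [← hb]
  exact orderOf_dvd_of_pow_eq_one ha

theorem torus_mem_two {n w : ℕ} (hn : 1 ≤ n) (hw : Odd w) (hwd : (w ∣ Fintype.card F ^ n - 1 ∧ 4 ∣ Fintype.card F ^ n - 1) ∨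
    (w ∣ Fintype.card F ^ n + 1 ∧ 4 ∣ Fintype.card F ^ n + 1)) :
    2 * w ∈ Set.range (orderOf : Cfsg.PSp n F → ℕ) := by
  haveI : Finite (Cfsg.PSp n F) := inferInstance
  have h4w : Nat.Coprime 4 w := by
    have : Nat.Coprime (2 ^ 2) w := Nat.Coprime.pow_left 2 (Nat.coprime_two_left.mpr hw)
    simpa using this
  obtain ⟨b, hb⟩ := exists_torus (F := F) (j := n) (w := 4 * w) (by omega) (by
    rcases hwd with h | h
    · left; exact h4w.mul_dvd_of_dvd_of_dvd h.2 h.1
    · right; exact h4w.mul_dvd_of_dvd_of_dvd h.2 h.1)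
  obtain ⟨g, hg⟩ := b.exists_psp
  apply mem_range_of_dvd (m := orderOf g) ⟨g, rfl⟩
  obtain ⟨a, ha⟩ := (hg (orderOf g)).mp (pow_orderOf_eq_one g)
  have ha2 : a ^ 2 = 1 := Blk.scalar_sq (by omega) _ ha
  have h1 : b.f ^ (orderOf g * 2) = 1 := by
    rw [pow_mul, ha, ← map_pow, ha2, map_one]
  have h2 := orderOf_dvd_of_pow_eq_one h1
  rw [hb] at h2
  obtain ⟨c, hc⟩ := h2
  exact ⟨c, by nlinarith⟩

theorem sp_cases (hp2 : p ≠ 2) {n : ℕ} (hn : 2 ≤ n) {o : ℕ} (ho : o ∈ Set.range (orderOf : Cfsg.PSp n F → ℕ)) (hodd : Odd o) :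
    2 * o ∈ Set.range (orderOf : Cfsg.PSp n F → ℕ) ∨ (o ∣ Fintype.card F ^ n + 1 ∧ ¬ 4 ∣ Fintype.card F ^ n + 1) ∨
      (o ∣ Fintype.card F ^ n - 1 ∧ ¬ 4 ∣ Fintype.card F ^ n - 1) ∨ (∃ t, o = p ^ (t + 1) ∧ 2 * n - 1 = p ^ t) := by
  haveI : Finite (Cfsg.PSp n F) := inferInstance
  obtain ⟨g, rfl⟩ := ho
  obtain ⟨f, hf, hfo⟩ := exists_lift_odd (by omega) g hodd
  set o := orderOf g with ho
  have hopos : 0 < o := orderOf_pos g
  obtain ⟨t, w, hwp, how⟩ := Nat.exists_eq_pow_mul_and_not_dvd hopos.ne' p hp.out.ne_one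
  have hpodd : Odd p := hp.out.odd_of_ne_two hp2
  have hwodd : Odd w := by
    rw [how, Nat.odd_mul] at hodd
    exact hodd.2
  have hwpos : 0 < w := hwodd.pos
  have h2F : (2 : F) ≠ 0 := by
    intro h
    have h1 : ((2 : ℕ) : F) = 0 := by exact_mod_cast h
    rw [CharP.cast_eq_zero_iff F p] at h1
    exact hp2 ((Nat.prime_dvd_prime_iff_eq hp.out Nat.prime_two).mp h1)
  have hVdim : Module.finrank F (Fin n ⊕ Fin n → F) = 2 * n := by
    rw [Module.finrank_fintype_fun_eq_card, Fintype.card_sum, Fintype.card_fin]; ring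
  haveI : Nontrivial (Fin n ⊕ Fin n → F) := Module.nontrivial_of_finrank_pos (R := F) (by rw [hVdim]; omega)
  haveI : CharP (Module.End F (Fin n ⊕ Fin n → F)) p := charP_of_injective_algebraMap (algebraMap F _).injective p
  have hfpow : ∀ (s : ℕ) (u v), (Conc.sympFrm n F).B ((f ^ s) u) ((f ^ s) v) = (Conc.sympFrm n F).B u v := by
    intro s
    induction s with
    | zero => intro u v; rfl
    | succ s ih => intro u v; rw [pow_succ', Module.End.mul_apply, Module.End.mul_apply, hf, ih]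
  have hYw : (f ^ (p ^ t)) ^ w = 1 := by rw [← pow_mul, ← how, ← hfo, pow_orderOf_eq_one]
  have hUw : (f ^ w) ^ (p ^ t) = 1 := by rw [← pow_mul, mul_comm, ← how, ← hfo, pow_orderOf_eq_one]
  have hcommYU : Commute (f ^ w) (f ^ (p ^ t)) := (Commute.refl f).pow_pow _ _
  by_cases hno : ∀ e, Idem (f ^ (p ^ t)) e → Adj (Conc.sympFrm n F) e e → e = 0 ∨ e = 1
  · rcases sp_struct p (Conc.sympFrm_nondeg n F) (hfpow (p ^ t)) hYw hwodd hwp hno with hY1 | ⟨d, k, hd, hk, hdk, hYd, hUk⟩
    · -- `Y = 1`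
      have hw1 : w = 1 := by
        have h1 := orderOf_dvd_of_pow_eq_one hY1
        rw [hfo, how] at h1
        have h2 := Nat.le_of_dvd (pow_pos hp.out.pos t) h1
        have h3 : p ^ t * w ≤ p ^ t * 1 := by rw [mul_one]; exact h2
        have h4 := Nat.le_of_mul_le_mul_left h3 (pow_pos hp.out.pos t)
        omega
      rw [hw1, mul_one] at how
      by_cases hbad : t = 0 ∨ p ^ (t - 1) < 2 * (n - 1)
      · left
        have h1 := mixed_sp (F := F) p hp2 (d := 1) (e := n - 1) (w := 1) (t := t) (by omega) (by omega) odd_one (Or.inl (one_dvd _))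
          (by intro h; exact hp.out.one_lt.ne' (Nat.dvd_one.mp h)) hbad
        have h2 : 1 + (n - 1) = n := by omega
        rw [h2, one_mul, ← how] at h1
        exact h1
      · right; right; right
        push Not at hbad
        obtain ⟨ht0, hbad⟩ := hbad
        obtain ⟨t, rfl⟩ : ∃ t', t = t' + 1 := ⟨t - 1, by omega⟩
        rw [Nat.add_sub_cancel] at hbad
        refine ⟨t, how, ?_⟩
        -- nilpotent
        have hf1 : f ^ (p ^ (t + 1)) = 1 := hY1
        have hnil : IsNilpotent (f - 1) := ⟨p ^ (t + 1), by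
          rw [sub_pow_char_pow_of_commute _ _ (Commute.one_right f), hf1, one_pow, sub_self]⟩
        have hnil2 : (f - 1) ^ (2 * n) = 0 := by
          rw [LinearMap.isNilpotent_iff_charpoly] at hnil
          have h4 := LinearMap.aeval_self_charpoly (f - 1)
          rwa [hnil, map_pow, Polynomial.aeval_X, hVdim] at h4
        have hlt : p ^ t < 2 * n := by
          by_contra hcon
          push Not at hcon
          have h5 : (f - 1) ^ (p ^ t) = 0 := by
            obtain ⟨c, hc⟩ := Nat.exists_eq_add_of_le hcon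
            rw [hc, pow_add, hnil2, zero_mul]
          rw [sub_pow_char_pow_of_commute _ _ (Commute.one_right f), one_pow, sub_eq_zero] at h5
          have h6 := orderOf_dvd_of_pow_eq_one h5
          rw [hfo, how, Nat.pow_dvd_pow_iff_le_right hp.out.one_lt] at h6
          omega
        obtain ⟨c, hc⟩ : Odd (p ^ t) := hpodd.pow
        omega
    · have hdkn : d * k = n := by omega
      -- `w` divides
      have hordY : orderOf (f ^ (p ^ t)) = w := by
        rw [orderOf_pow' _ (pow_pos hp.out.pos t).ne', hfo, how, Nat.gcd_eq_right (Dvd.intro _ rfl), Nat.mul_div_cancel_left _ (pow_pos hp.out.pos t)]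
      have hwd : w ∣ Fintype.card F ^ d - 1 ∨ w ∣ Fintype.card F ^ d + 1 := by
        rcases hYd with h | h
        · right; rw [← hordY]; exact orderOf_dvd_of_pow_eq_one h
        · left; rw [← hordY]; exact orderOf_dvd_of_pow_eq_one h
      have hU0 := hUk (f ^ w) (hfpow w) hcommYU ⟨t, hUw⟩
      have hordU : orderOf (f ^ w) = p ^ t := by
        rw [orderOf_pow' _ hwpos.ne', hfo, how, Nat.gcd_eq_right (Dvd.intro_left _ rfl), Nat.mul_div_cancel _ hwpos]
      rcases Nat.lt_or_ge 1 k with hk1 | hk1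
      · left
        have hde : d + d * (k - 1) = n := by
          obtain ⟨k', rfl⟩ : ∃ k', k = k' + 1 := ⟨k - 1, by omega⟩
          rw [Nat.add_sub_cancel, ← hdkn]; ring
        have hpos' : 1 ≤ d * (k - 1) := Nat.mul_pos hd (by omega)
        have hbig : k ≤ 2 * (d * (k - 1)) := by
          have : k - 1 ≤ d * (k - 1) := Nat.le_mul_of_pos_left _ hd
          omega
        have h1 := mixed_sp (F := F) p hp2 (d := d) (e := d * (k - 1)) (w := w) (t := t) hd hpos' hwodd hwd hwp (by
          by_contra hcon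
          push Not at hcon
          obtain ⟨ht0, hcon⟩ := hcon
          obtain ⟨t, rfl⟩ : ∃ t', t = t' + 1 := ⟨t - 1, by omega⟩
          rw [Nat.add_sub_cancel] at hcon
          have h5 : (f ^ w - 1) ^ (p ^ t) = 0 := by
            obtain ⟨c, hc⟩ := Nat.exists_eq_add_of_le (hbig.trans hcon)
            rw [hc, pow_add, hU0, zero_mul]
          rw [sub_pow_char_pow_of_commute _ _ (Commute.one_right _), one_pow, sub_eq_zero] at h5
          have h6 := orderOf_dvd_of_pow_eq_one h5
          rw [hordU, Nat.pow_dvd_pow_iff_le_right hp.out.one_lt] at h6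
          omega)
        rw [hde] at h1
        rw [how, mul_comm (p ^ t) w]
        exact h1
      · have hk1' : k = 1 := by omega
        rw [hk1', pow_one, sub_eq_zero] at hU0
        rw [hk1', mul_one] at hdkn
        rw [hU0, orderOf_one] at hordU
        rw [← hordU, one_mul] at how
        rw [← how, hdkn] at hwd
        rcases hwd with hwd | hwd
        · by_cases h4 : 4 ∣ Fintype.card F ^ n - 1
          · left
            exact torus_mem_two (F := F) (by omega) hodd (Or.inl ⟨hwd, h4⟩)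
          · right; right; left; exact ⟨hwd, h4⟩
        · by_cases h4 : 4 ∣ Fintype.card F ^ n + 1
          · left
            exact torus_mem_two (F := F) (by omega) hodd (Or.inr ⟨hwd, h4⟩)
          · right; left; exact ⟨hwd, h4⟩
  · -- a commuting involution
    left
    push Not at hno
    obtain ⟨e, he, hee, he0, he1⟩ := hno
    have hef : Commute e f := he.commute ((Commute.refl f).pow_left _)
    set Z : Module.End F (Fin n ⊕ Fin n → F) := 1 - (2 : F) • e with hZ
    have hZ2 : Z * Z = 1 := by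
      rw [hZ]
      simp only [sub_mul, mul_sub, one_mul, mul_one, smul_mul_smul_comm, he.1]
      have : ((2 : F) * 2) • e = (2 : F) • e + (2 : F) • e := by rw [← add_smul]; congr 1; ring
      rw [this]; abel
    have hZf : Commute Z f := (Commute.one_left f).sub_left (hef.smul_left _)
    have hZadj : Adj (Conc.sympFrm n F) Z Z := by
      intro u v
      rw [hZ, LinearMap.sub_apply, LinearMap.sub_apply, LinearMap.smul_apply, LinearMap.smul_apply, map_sub, map_sub, LinearMap.sub_apply,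
        LinearMap.map_smulₛₗ₂, map_smul, hee]; rfl
    let b : Blk F n := Blk.mk (Fin n ⊕ Fin n → F) inferInstance inferInstance inferInstance (Conc.sympB n F)
      (Conc.sympB_alt n F) (Conc.sympFrm_nondeg n F) (Z * f) (by
        intro u v
        rw [Module.End.mul_apply, Module.End.mul_apply]
        have h1 := isometry_of_adj hZadj hZ2 (f u) (f v)
        exact h1.trans (hf u v)) hVdim
    obtain ⟨g', hg'⟩ := b.exists_psp
    apply mem_range_of_dvd (m := orderOf g') ⟨g', rfl⟩
    obtain ⟨a, ha⟩ := (hg' (orderOf g')).mp (pow_orderOf_eq_one g')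
    set s := orderOf g' with hs
    have ha2 : a ^ 2 = 1 := Blk.scalar_sq (by omega) _ ha
    change (Z * f) ^ s = _ at ha
    have h1 : f ^ (s * 2) = 1 := by
      have h2 : (Z * f) ^ (s * 2) = 1 := by rw [pow_mul, ha, ← map_pow, ha2, map_one]
      rw [hZf.mul_pow, mul_comm s 2, pow_mul Z, sq, hZ2, one_pow, one_mul] at h2
      rw [mul_comm]; exact h2
    have h2 := orderOf_dvd_of_pow_eq_one h1
    rw [hfo] at h2
    have h3 : o ∣ s := (Nat.coprime_two_right.mpr hodd).dvd_of_dvd_mul_right h2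
    have hfs : f ^ s = 1 := by rw [← orderOf_dvd_iff_pow_eq_one, hfo]; exact h3
    have hseven : Even s := by
      by_contra hso
      rw [Nat.not_even_iff_odd] at hso
      obtain ⟨i, hi⟩ := hso
      rw [hZf.mul_pow, hfs, mul_one, hi, pow_succ, pow_mul, sq, hZ2, one_pow, one_mul, hZ] at ha
      obtain ⟨v, hv⟩ : ∃ v, e v ≠ 0 := by
        by_contra hcon
        push Not at hcon
        exact he0 (LinearMap.ext hcon)
      have hap : ∀ x, x - (2 : F) • e x = a • x := fun x => LinearMap.congr_fun ha x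
      have h4 := hap (e v)
      have h4' : e (e v) = e v := LinearMap.congr_fun he.1 v
      rw [h4'] at h4
      have h5 : (-1 - a) • e v = 0 := by
        have h51 : (-1 - a) • e v = (e v - (2 : F) • e v) - a • e v := by
          rw [sub_smul, neg_smul, one_smul, two_smul]; abel
        rw [h51, h4, sub_self]
      have h6 : a = -1 := by
        have := (smul_eq_zero.mp h5).resolve_right hv
        linear_combination -this
      apply he1
      apply LinearMap.ext
      intro x
      have h7 := hap x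
      rw [h6, neg_smul, one_smul] at h7
      have h8 : (2 : F) • (x - e x) = 0 := by
        rw [smul_sub, two_smul F x, add_sub_assoc, h7, add_neg_cancel]
      exact (sub_eq_zero.mp ((smul_eq_zero.mp h8).resolve_left h2F)).symm
    exact (Nat.coprime_two_left.mpr hodd).mul_dvd_of_dvd_of_dvd hseven.two_dvd h3

end sp

end Cfsg.Agent.H21.GLf
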