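import Mathlib
import Cfsg.Agent.H21_GLf8

/-!
# Isometries of forms over finite fields, X: splitting along self-adjoint idempotents
-/

set_option autoImplicit false
open Polynomial Matrix

namespace Cfsg.Agent.H21.GLf

open Cfsg.Agent.H5 Cfsg.Agent.H21.GLo

section split

variable {F : Type*} [Field F] {σ : F →+* F} {ε : F} {t : F →+ F} {V : Type*} [AddCommGroup V] [Module F V]

theorem nondeg_range {A : Frm F σ ε t V} (hA : A.Nondeg) {e : Module.End F V} (he : e * e = e) (hee : Adj A e e) :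
    (A.restrict (LinearMap.range e)).Nondeg := by
  intro x hx
  apply Subtype.ext
  apply hA
  intro y
  have h1 := hx ⟨e y, y, rfl⟩
  rw [Frm.restrict_B] at h1
  change A.B (x : V) (e y) = 0 at h1
  rw [← hee, apply_range he] at h1
  exact h1

theorem iso_range {A : Frm F σ ε t V} {e Y : Module.End F V} (he : e * e = e) (hc : Commute e Y) (hY : ∀ u v, A.B (Y u) (Y v) = A.B u v) :
    ∀ u v, (A.restrict (LinearMap.range e)).B (rho e Y u) (rho e Y v) = (A.restrict (LinearMap.range e)).B u v := by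
  intro u v
  rw [Frm.restrict_B, Frm.restrict_B, rho_val he hc, rho_val he hc, hY]

theorem one_sub_idem {Y e : Module.End F V} (he : Idem Y e) : Idem Y (1 - e) := by
  refine ⟨?_, ?_⟩
  · rw [sub_mul, mul_sub, mul_sub, one_mul, one_mul, mul_one, he.1]; abel
  · obtain ⟨-, f, rfl⟩ := he
    exact ⟨1 - f, by rw [map_sub, map_one]⟩

theorem one_sub_adj {A : Frm F σ ε t V} {e : Module.End F V} (hee : Adj A e e) : Adj A (1 - e) (1 - e) := by
  intro u v
  rw [LinearMap.sub_apply, LinearMap.sub_apply, map_sub, map_sub, LinearMap.sub_apply, hee]; rfl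

theorem pow_eq_one_of_parts {e Y : Module.End F V} (he : e * e = e) (hc : Commute e Y) {s : ℕ} (h1 : rho e Y ^ s = 1)
    (h2 : rho (1 - e) Y ^ s = 1) : Y ^ s = 1 := by
  have he' : (1 - e) * (1 - e) = 1 - e := by
    rw [sub_mul, mul_sub, mul_sub, one_mul, one_mul, mul_one, he]; abel
  have hc' : Commute (1 - e) Y := (Commute.one_left Y).sub_left hc
  have k1 : Y ^ s * e = 1 * e := mul_eq_of_rho he (hc.pow_right s) (Commute.one_right e) (by rw [rho_pow he hc, h1, rho_one he])
  have k2 : Y ^ s * (1 - e) = 1 * (1 - e) := mul_eq_of_rho he' (hc'.pow_right s) (Commute.one_right _) (by rw [rho_pow he' hc', h2, rho_one he'])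
  calc Y ^ s = Y ^ s * e + Y ^ s * (1 - e) := by rw [← mul_add, add_sub_cancel, mul_one]
    _ = 1 := by rw [k1, k2, one_mul, one_mul, add_sub_cancel]

theorem order_parts {e Y : Module.End F V} (he : e * e = e) (hc : Commute e Y) {r : ℕ} (hr : r.Prime) (h : r ∣ orderOf Y)
    (hfin : 0 < orderOf Y) : r ∣ orderOf (rho e Y) ∨ r ∣ orderOf (rho (1 - e) Y) := by
  have h1 : orderOf Y ∣ orderOf (rho e Y) * orderOf (rho (1 - e) Y) := by
    apply orderOf_dvd_of_pow_eq_one
    apply pow_eq_one_of_parts he hc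
    · rw [pow_mul, pow_orderOf_eq_one, one_pow]
    · rw [mul_comm, pow_mul, pow_orderOf_eq_one, one_pow]
  exact hr.dvd_mul.mp (h.trans h1)

variable [Module.Finite F V]

theorem finrank_parts {e : Module.End F V} (he : e * e = e) (he0 : e ≠ 0) (he1 : e ≠ 1) :
    Module.finrank F (LinearMap.range e) + Module.finrank F (LinearMap.range (1 - e)) = Module.finrank F V ∧
      0 < Module.finrank F (LinearMap.range e) ∧ 0 < Module.finrank F (LinearMap.range (1 - e)) := by
  have h1 : LinearMap.range (1 - e) = LinearMap.ker e := by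
    ext v
    rw [LinearMap.mem_ker]
    constructor
    · rintro ⟨w, rfl⟩
      rw [← Module.End.mul_apply, mul_sub, mul_one, he, sub_self]; rfl
    · intro h
      exact ⟨v, by rw [LinearMap.sub_apply, h, sub_zero]; rfl⟩
  refine ⟨?_, ?_, ?_⟩
  · rw [h1]; exact LinearMap.finrank_range_add_finrank_ker e
  · haveI : Nontrivial (LinearMap.range e) := by
      rw [Submodule.nontrivial_iff_ne_bot, Ne, LinearMap.range_eq_bot]
      exact he0
    exact Module.finrank_pos
  · haveI : Nontrivial (LinearMap.range (1 - e)) := by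
      rw [Submodule.nontrivial_iff_ne_bot, Ne, LinearMap.range_eq_bot, sub_eq_zero]
      exact fun h => he1 h.symm
    exact Module.finrank_pos

theorem rho_pow_one {e Y : Module.End F V} (he : e * e = e) (hc : Commute e Y) {s : ℕ} (h : Y ^ s = 1) : rho e Y ^ s = 1 := by
  rw [← rho_pow he hc, h, rho_one he]

end split

/-! ### the numbers `η` -/

theorem eta_le {q r k η d : ℕ} [hr : Fact r.Prime] (hr2 : r ≠ 2) (hq : 1 ≤ q) (hk : k = orderOf (q : ZMod r))
    (hη : (Odd k ∧ η = k) ∨ (Even k ∧ 2 * η = k)) (hd : 1 ≤ d) (h : r ∣ q ^ d - 1 ∨ r ∣ q ^ d + 1) : η ≤ d := by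
  rcases h with h | h
  · have h1 := order_zmod_dvd hq h
    rw [← hk] at h1
    have h2 := Nat.le_of_dvd hd h1
    rcases hη with ⟨-, h3⟩ | ⟨-, h3⟩ <;> omega
  · have h1 : r ∣ q ^ (2 * d) - 1 := by
      have : q ^ (2 * d) - 1 = (q ^ d - 1) * (q ^ d + 1) := by
        obtain ⟨c, hc⟩ : ∃ c, q ^ d = c + 1 := ⟨q ^ d - 1, by have := Nat.one_le_pow d q (by omega); omega⟩
        rw [mul_comm 2 d, pow_mul, hc]
        have : (c + 1) ^ 2 = c * (c + 2) + 1 := by ring
        rw [this, Nat.add_sub_cancel, Nat.add_sub_cancel]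
      rw [this]; exact h.mul_left _
    have h2 := order_zmod_dvd hq h1
    rw [← hk] at h2
    have h3 := Nat.le_of_dvd (by omega) h2
    rcases hη with ⟨hodd, h4⟩ | ⟨-, h4⟩
    · have h5 : k ∣ d := (Nat.coprime_two_right.mpr hodd).dvd_of_dvd_mul_left h2
      have := Nat.le_of_dvd hd h5
      omega
    · omega

theorem eta_dvd {q r k η : ℕ} [hr : Fact r.Prime] (hq : 1 ≤ q) (hk0 : k ≠ 0) (hk : k = orderOf (q : ZMod r))
    (hη : (Odd k ∧ η = k) ∨ (Even k ∧ 2 * η = k)) : (Odd k ∧ r ∣ q ^ η - 1) ∨ (Even k ∧ r ∣ q ^ η + 1) := by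
  rcases hη with ⟨h1, rfl⟩ | ⟨h1, h2⟩
  · left
    exact ⟨h1, dvd_of_order_zmod hq (by rw [hk])⟩
  · right
    refine ⟨h1, ?_⟩
    have h3 : r ∣ q ^ k - 1 := dvd_of_order_zmod hq (by rw [hk])
    have h4 : q ^ k - 1 = (q ^ η - 1) * (q ^ η + 1) := by
      obtain ⟨c, hc⟩ : ∃ c, q ^ η = c + 1 := ⟨q ^ η - 1, by have := Nat.one_le_pow η q (by omega); omega⟩
      rw [← h2, mul_comm 2 η, pow_mul, hc]
      have : (c + 1) ^ 2 = c * (c + 2) + 1 := by ring
      rw [this, Nat.add_sub_cancel, Nat.add_sub_cancel]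
    rw [h4] at h3
    rcases hr.out.dvd_mul.mp h3 with h5 | h5
    · exfalso
      have h6 := order_zmod_dvd hq h5
      rw [← hk] at h6
      have h7 := Nat.le_of_dvd (by omega) h6
      omega
    · exact h5

theorem order_pos_of_pow {G : Type*} [Monoid G] {y : G} {w : ℕ} (hw : 0 < w) (h : y ^ w = 1) : 0 < orderOf y :=
  orderOf_pos_iff.mpr (isOfFinOrder_iff_pow_eq_one.mpr ⟨w, hw, h⟩)

theorem sp_dim {F : Type*} [Field F] [Fintype F] (p : ℕ) [hp : Fact p.Prime] [CharP F p] {ε : F} {t : F →+ F} {r k η : ℕ} [hr : Fact r.Prime] (hr2 : r ≠ 2)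
    (hk : k = orderOf ((Fintype.card F : ℕ) : ZMod r)) (hη : (Odd k ∧ η = k) ∨ (Even k ∧ 2 * η = k)) {w : ℕ} (hodd : Odd w) (hwp : ¬ p ∣ w) :
    ∀ (n : ℕ) {V : Type*} [AddCommGroup V] [Module F V] [Module.Finite F V] (A : Frm F (RingHom.id F) ε t V) (_ : A.Nondeg) (Y : Module.End F V)
      (_ : ∀ u v, A.B (Y u) (Y v) = A.B u v) (_ : Y ^ w = 1) (_ : r ∣ orderOf Y) (_ : Module.finrank F V = n), 2 * η ≤ n := by
  intro n
  induction n using Nat.strong_induction_on with
  | _ n ih =>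
  intro V _ _ _ A hA Y hY hYw hrY hn
  have hYpos : 0 < orderOf Y := order_pos_of_pow hodd.pos hYw
  have hY1 : Y ≠ 1 := by
    rintro rfl
    rw [orderOf_one] at hrY
    exact hr.out.one_lt.ne' (Nat.dvd_one.mp hrY)
  haveI : Nontrivial V := by
    by_contra hcon
    rw [not_nontrivial_iff_subsingleton] at hcon
    exact hY1 (LinearMap.ext fun x => Subsingleton.elim _ _)
  by_cases hno : ∀ e : Module.End F V, Idem Y e → Adj A e e → e = 0 ∨ e = 1
  · rcases sp_struct p hA hY hYw hodd hwp hno with h1 | ⟨d, k', hd, hk', hdk, hYd, -⟩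
    · exact absurd h1 hY1
    · have h2 : r ∣ Fintype.card F ^ d - 1 ∨ r ∣ Fintype.card F ^ d + 1 := by
        rcases hYd with h | h
        · right; exact hrY.trans (orderOf_dvd_of_pow_eq_one h)
        · left; exact hrY.trans (orderOf_dvd_of_pow_eq_one h)
      have h3 := eta_le hr2 Fintype.card_pos hk hη hd h2
      have h4 : d ≤ d * k' := Nat.le_mul_of_pos_right d hk'
      omega
  · push Not at hno
    obtain ⟨e, he, hee, he0, he1⟩ := hno
    have hc : Commute e Y := he.commute (Commute.refl Y)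
    have he' := one_sub_idem he
    have hee' := one_sub_adj hee
    have hc' : Commute (1 - e) Y := he'.commute (Commute.refl Y)
    obtain ⟨hsum, hp1, hp2⟩ := finrank_parts he.1 he0 he1
    rcases order_parts he.1 hc hr.out hrY hYpos with h | h
    · have := ih _ (by omega) _ (nondeg_range hA he.1 hee) (rho e Y) (iso_range he.1 hc hY) (rho_pow_one he.1 hc hYw) h rfl
      omega
    · have := ih _ (by omega) _ (nondeg_range hA he'.1 hee') (rho (1 - e) Y) (iso_range he'.1 hc' hY) (rho_pow_one he'.1 hc' hYw) h rfl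
      omega

theorem sp_two {F : Type*} [Field F] [Fintype F] (p : ℕ) [hp : Fact p.Prime] [CharP F p] {ε : F} {t : F →+ F} {r k η s l θ : ℕ}
    [hr : Fact r.Prime] [hs : Fact s.Prime] (hr2 : r ≠ 2) (hs2 : s ≠ 2) (hrs : r ≠ s)
    (hk : k = orderOf ((Fintype.card F : ℕ) : ZMod r)) (hη : (Odd k ∧ η = k) ∨ (Even k ∧ 2 * η = k))
    (hl : l = orderOf ((Fintype.card F : ℕ) : ZMod s)) (hθ : (Odd l ∧ θ = l) ∨ (Even l ∧ 2 * θ = l)) {w : ℕ} (hodd : Odd w) (hwp : ¬ p ∣ w) :
    ∀ (n : ℕ) {V : Type*} [AddCommGroup V] [Module F V] [Module.Finite F V] (A : Frm F (RingHom.id F) ε t V) (_ : A.Nondeg) (Y : Module.End F V)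
      (_ : ∀ u v, A.B (Y u) (Y v) = A.B u v) (_ : Y ^ w = 1) (_ : r ∣ orderOf Y) (_ : s ∣ orderOf Y) (_ : Module.finrank F V = n),
      2 * (η + θ) ≤ n ∨ ∃ d, 1 ≤ d ∧ 2 * d ≤ n ∧ (r * s ∣ Fintype.card F ^ d - 1 ∨ r * s ∣ Fintype.card F ^ d + 1) := by
  intro n
  induction n using Nat.strong_induction_on with
  | _ n ih =>
  intro V _ _ _ A hA Y hY hYw hrY hsY hn
  have hYpos : 0 < orderOf Y := order_pos_of_pow hodd.pos hYw
  have hY1 : Y ≠ 1 := by
    rintro rfl
    rw [orderOf_one] at hrY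
    exact hr.out.one_lt.ne' (Nat.dvd_one.mp hrY)
  haveI : Nontrivial V := by
    by_contra hcon
    rw [not_nontrivial_iff_subsingleton] at hcon
    exact hY1 (LinearMap.ext fun x => Subsingleton.elim _ _)
  by_cases hno : ∀ e : Module.End F V, Idem Y e → Adj A e e → e = 0 ∨ e = 1
  · rcases sp_struct p hA hY hYw hodd hwp hno with h1 | ⟨d, k', hd, hk', hdk, hYd, -⟩
    · exact absurd h1 hY1
    · right
      have hrsY : r * s ∣ orderOf Y := ((Nat.coprime_primes hr.out hs.out).mpr hrs).mul_dvd_of_dvd_of_dvd hrY hsY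
      refine ⟨d, hd, ?_, ?_⟩
      · have h4 : d ≤ d * k' := Nat.le_mul_of_pos_right d hk'
        omega
      · rcases hYd with h | h
        · right; exact hrsY.trans (orderOf_dvd_of_pow_eq_one h)
        · left; exact hrsY.trans (orderOf_dvd_of_pow_eq_one h)
  · push Not at hno
    obtain ⟨e, he, hee, he0, he1⟩ := hno
    have hc : Commute e Y := he.commute (Commute.refl Y)
    have he' := one_sub_idem he
    have hee' := one_sub_adj hee
    have hc' : Commute (1 - e) Y := he'.commute (Commute.refl Y)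
    obtain ⟨hsum, hp1, hp2⟩ := finrank_parts he.1 he0 he1
    have n1 := nondeg_range hA he.1 hee
    have n2 := nondeg_range hA he'.1 hee'
    have i1 := iso_range he.1 hc hY
    have i2 := iso_range he'.1 hc' hY
    have w1 := rho_pow_one he.1 hc hYw
    have w2 := rho_pow_one he'.1 hc' hYw
    rcases order_parts he.1 hc hr.out hrY hYpos with h1 | h1 <;> rcases order_parts he.1 hc hs.out hsY hYpos with h2 | h2
    · rcases ih _ (by omega) _ n1 (rho e Y) i1 w1 h1 h2 rfl with h3 | ⟨d, hd, hd2, h3⟩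
      · left; omega
      · right; exact ⟨d, hd, by omega, h3⟩
    · left
      have k1 := sp_dim p hr2 hk hη hodd hwp _ _ n1 (rho e Y) i1 w1 h1 rfl
      have k2 := sp_dim p hs2 hl hθ hodd hwp _ _ n2 (rho (1 - e) Y) i2 w2 h2 rfl
      omega
    · left
      have k1 := sp_dim p hr2 hk hη hodd hwp _ _ n2 (rho (1 - e) Y) i2 w2 h1 rfl
      have k2 := sp_dim p hs2 hl hθ hodd hwp _ _ n1 (rho e Y) i1 w1 h2 rfl
      omega
    · rcases ih _ (by omega) _ n2 (rho (1 - e) Y) i2 w2 h1 h2 rfl with h3 | ⟨d, hd, hd2, h3⟩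
      · left; omega
      · right; exact ⟨d, hd, by omega, h3⟩

end Cfsg.Agent.H21.GLf
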