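import Mathlib
import Cfsg.Agent.H21_GLf10

/-!
# Isometries of forms over finite fields, XI: the prime graph of `PSp`
-/

set_option autoImplicit false
open Polynomial Matrix

namespace Cfsg.Agent.H21.GLf

open Cfsg.Agent.H5 Cfsg.Agent.H21.GLo

universe u v w

section

variable {F : Type u} [Field F]

/-- orders of `PSp` elements coming from odd order constraints -/
theorem mem_of_blk {n : ℕ} (hn : 1 ≤ n) (b : Blk.{u, v} F n) {w m : ℕ} (hw : Odd w)
    (hsc : ∀ (s : ℕ) (a : F), b.f ^ s = algebraMap F _ a → a ^ w = 1) (hm : m ∣ orderOf b.f) [Finite (Cfsg.PSp n F)] :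
    m ∈ Set.range (orderOf : Cfsg.PSp n F → ℕ) := by
  obtain ⟨g, hg⟩ := b.exists_psp
  apply mem_range_of_dvd (m := orderOf g) ⟨g, rfl⟩
  obtain ⟨a, ha⟩ := (hg (orderOf g)).mp (pow_orderOf_eq_one g)
  have ha2 : a ^ 2 = 1 := Blk.scalar_sq hn _ ha
  rw [sq_one_odd ha2 hw (hsc _ _ ha), map_one] at ha
  exact hm.trans (orderOf_dvd_of_pow_eq_one ha)

theorem sum_order {m n : ℕ} (b : Blk.{u, v} F m) (c : Blk.{u, w} F n) : orderOf b.f ∣ orderOf (b.sum c).f ∧ orderOf c.f ∣ orderOf (b.sum c).f := by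
  have h : (b.sum c).f ^ (orderOf (b.sum c).f) = algebraMap F _ 1 := by rw [pow_orderOf_eq_one, map_one]
  obtain ⟨h1, h2⟩ := Blk.sum_scalar _ _ h
  rw [map_one] at h1 h2
  exact ⟨orderOf_dvd_of_pow_eq_one h1, orderOf_dvd_of_pow_eq_one h2⟩

theorem sc_of_order {m : ℕ} (hm : 1 ≤ m) (b : Blk.{u, v} F m) {w : ℕ} (hb : b.f ^ w = 1) {s : ℕ} {a : F} (h : b.f ^ s = algebraMap F _ a) : a ^ w = 1 := by
  haveI : Nontrivial b.V := Module.nontrivial_of_finrank_pos (R := F) (by rw [b.dim]; omega)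
  apply (algebraMap F (Module.End F b.V)).injective
  rw [map_pow, ← h, ← pow_mul, mul_comm, pow_mul, hb, one_pow, map_one]

variable [Fintype F]

theorem torus_mem' {n d w : ℕ} (hd : 1 ≤ d) (hdn : d ≤ n) (hw : Odd w) (hwd : w ∣ Fintype.card F ^ d - 1 ∨ w ∣ Fintype.card F ^ d + 1) :
    w ∈ Set.range (orderOf : Cfsg.PSp n F → ℕ) := by
  obtain ⟨e, rfl⟩ := Nat.exists_eq_add_of_le hdn
  haveI : Finite (Cfsg.PSp (d + e) F) := inferInstance
  obtain ⟨b, hb⟩ := exists_torus (F := F) (j := d) (by omega) hwd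
  obtain ⟨c, hc⟩ := Blk.exists_id F e
  refine mem_of_blk (by omega) (b.sum c) hw ?_ ?_
  · intro s a h
    exact sc_of_order hd b (by rw [← hb, pow_orderOf_eq_one]) (Blk.sum_scalar _ _ h).1
  · rw [← hb]; exact (sum_order b c).1

/-- a block of order `p` -/
theorem exists_trans_blk (F : Type u) [Field F] [Fintype F] (p : ℕ) [hp : Fact p.Prime] [CharP F p] {j : ℕ} (hj : 1 ≤ j) :
    ∃ b : Blk.{u, u} F j, p ∣ orderOf b.f := by
  obtain ⟨b, hb⟩ := exists_sl2 (F := F) (E := F) (j := 1) (Module.finrank_self F) !![1, 1; 0, 1] (by simp [Matrix.det_fin_two])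
  have hpow : ∀ k : ℕ, (!![1, 1; 0, 1] : Matrix (Fin 2) (Fin 2) F) ^ k = !![1, (k : F); 0, 1] := by
    intro k
    induction k with
    | zero => ext i j; fin_cases i <;> fin_cases j <;> simp
    | succ k ih =>
      rw [pow_succ, ih]
      ext i j
      fin_cases i <;> fin_cases j <;> simp [Matrix.mul_apply, Fin.sum_univ_two, add_comm]
  have hbp : p ∣ orderOf b.f := by
    have h1 := (hb (orderOf b.f)).mp (pow_orderOf_eq_one _)
    rw [hpow] at h1
    have h2 := congrFun (congrFun h1 0) 1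
    simp at h2
    exact (CharP.cast_eq_zero_iff F p _).mp h2
  obtain ⟨e, rfl⟩ := Nat.exists_eq_add_of_le hj
  obtain ⟨c, hc⟩ := Blk.exists_id F e
  exact ⟨b.sum c, hbp.trans (sum_order b c).1⟩

theorem ord_ne_zero (p : ℕ) [hp : Fact p.Prime] [CharP F p] {r : ℕ} [hr : Fact r.Prime] (hrp : r ≠ p) :
    orderOf ((Fintype.card F : ℕ) : ZMod r) ≠ 0 := by
  obtain ⟨a, ha⟩ := FiniteField.card F p
  have hrF : ¬ r ∣ Fintype.card F := by
    intro h
    rw [ha.2] at h
    exact hrp ((Nat.prime_dvd_prime_iff_eq hr.out hp.out).mp (hr.out.dvd_of_dvd_pow h))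
  have h1 : ((Fintype.card F : ℕ) : ZMod r) ≠ 0 := by rwa [Ne, ZMod.natCast_eq_zero_iff]
  apply (orderOf_pos_iff.mpr _).ne'
  rw [isOfFinOrder_iff_pow_eq_one]
  exact ⟨r - 1, by have := hr.out.two_le; omega, ZMod.pow_card_sub_one_eq_one h1⟩

theorem sq_sub_one (q d : ℕ) (hq : 1 ≤ q) : q ^ (2 * d) - 1 = (q ^ d - 1) * (q ^ d + 1) := by
  obtain ⟨c, hc⟩ : ∃ c, q ^ d = c + 1 := ⟨q ^ d - 1, by have := Nat.one_le_pow d q (by omega); omega⟩
  rw [mul_comm 2 d, pow_mul, hc]
  have : (c + 1) ^ 2 = c * (c + 2) + 1 := by ring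
  rw [this, Nat.add_sub_cancel, Nat.add_sub_cancel]

/-- lifts of prime-order type elements -/
theorem lift_data {n : ℕ} (hn : 1 ≤ n) (g : Cfsg.PSp n F) (hodd : Odd (orderOf g)) :
    ∃ f : Module.End F (Fin n ⊕ Fin n → F), (∀ s u v, (Conc.sympFrm n F).B ((f ^ s) u) ((f ^ s) v) = (Conc.sympFrm n F).B u v) ∧ orderOf f = orderOf g := by
  obtain ⟨f, hf, hfo⟩ := exists_lift_odd hn g hodd
  refine ⟨f, ?_, hfo⟩
  intro s
  induction s with
  | zero => intro u v; rfl
  | succ s ih => intro u v; rw [pow_succ', Module.End.mul_apply, Module.End.mul_apply, hf, ih]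

theorem vdim (n : ℕ) (F : Type u) [Field F] : Module.finrank F (Fin n ⊕ Fin n → F) = 2 * n := by
  rw [Module.finrank_fintype_fun_eq_card, Fintype.card_sum, Fintype.card_fin]; ring

theorem psp_graph (p : ℕ) [hp : Fact p.Prime] [CharP F p] (n : ℕ) (hn : 2 ≤ n)
    (r s : ℕ) (hr : r.Prime) (hs : s.Prime) (hr2 : r ≠ 2) (hs2 : s ≠ 2) (hrp : r ≠ p) (hsp : s ≠ p) (hrs : r ≠ s)
    (hsG : s ∣ Nat.card (Cfsg.PSp n F))
    (k l ηk ηl : ℕ) (hk : k = orderOf ((Fintype.card F : ℕ) : ZMod r)) (hl : l = orderOf ((Fintype.card F : ℕ) : ZMod s))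
    (hηk : (Odd k ∧ ηk = k) ∨ (Even k ∧ 2 * ηk = k)) (hηl : (Odd l ∧ ηl = l) ∨ (Even l ∧ 2 * ηl = l)) (hkl : ηk ≤ ηl) :
    (r * s ∉ Set.range (orderOf : Cfsg.PSp n F → ℕ)) ↔ (n < ηk + ηl ∧ ¬ ∃ t : ℕ, Odd t ∧ l = k * t) := by
  haveI : Fact r.Prime := ⟨hr⟩
  haveI : Fact s.Prime := ⟨hs⟩
  haveI : Finite (Cfsg.PSp n F) := inferInstance
  have hq1 : 1 ≤ Fintype.card F := Fintype.card_pos
  have hk0 : k ≠ 0 := by rw [hk]; exact ord_ne_zero p hrp
  have hl0 : l ≠ 0 := by rw [hl]; exact ord_ne_zero p hsp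
  have hrodd : Odd r := hr.odd_of_ne_two hr2
  have hsodd : Odd s := hs.odd_of_ne_two hs2
  have hrs' : Nat.Coprime r s := (Nat.coprime_primes hr hs).mpr hrs
  have hpr : ¬ p ∣ r := fun h => hrp ((Nat.prime_dvd_prime_iff_eq hp.out hr).mp h).symm
  have hps : ¬ p ∣ s := fun h => hsp ((Nat.prime_dvd_prime_iff_eq hp.out hs).mp h).symm
  have hηk1 : 1 ≤ ηk := by rcases hηk with ⟨-, h⟩ | ⟨-, h⟩ <;> omega
  have hηl1 : 1 ≤ ηl := by rcases hηl with ⟨-, h⟩ | ⟨-, h⟩ <;> omega
  have hrk := eta_dvd (r := r) hq1 hk0 hk hηk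
  have hsl := eta_dvd (r := s) hq1 hl0 hl hηl
  have hηln : ηl ≤ n := by
    obtain ⟨g, hg⟩ := exists_prime_orderOf_dvd_card' s hsG
    obtain ⟨f, hf, hfo⟩ := lift_data (by omega) g (by rw [hg]; exact hsodd)
    rw [hg] at hfo
    have h1 := sp_dim p hs2 hl hηl hsodd hps _ _ (Conc.sympFrm_nondeg n F) f (fun u v => by simpa using hf 1 u v)
      (by rw [← hfo, pow_orderOf_eq_one]) (by rw [hfo]) (vdim n F)
    omega
  constructor
  · intro hno
    by_contra hcon
    apply hno
    rw [not_and_or, not_lt, not_not] at hcon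
    rcases hcon with hcon | ⟨t, ht, hlt⟩
    · obtain ⟨e, rfl⟩ := Nat.exists_eq_add_of_le hcon
      obtain ⟨b, hb⟩ := exists_torus (F := F) (j := ηk) (w := r) (by omega) (by rcases hrk with ⟨-, h⟩ | ⟨-, h⟩; exact Or.inl h; exact Or.inr h)
      obtain ⟨c, hc⟩ := exists_torus (F := F) (j := ηl) (w := s) (by omega) (by rcases hsl with ⟨-, h⟩ | ⟨-, h⟩; exact Or.inl h; exact Or.inr h)
      obtain ⟨d, hd⟩ := Blk.exists_id F e
      refine mem_of_blk (by omega) ((b.sum c).sum d) hrodd ?_ ?_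
      · intro s' a h
        exact sc_of_order hηk1 b (by rw [← hb, pow_orderOf_eq_one]) (Blk.sum_scalar _ _ (Blk.sum_scalar _ _ h).1).1
      · apply hrs'.mul_dvd_of_dvd_of_dvd
        · rw [← hb]; exact (sum_order b c).1.trans (sum_order _ d).1
        · rw [← hc]; exact (sum_order b c).2.trans (sum_order _ d).1
    · apply torus_mem' hηl1 hηln (hrodd.mul hsodd)
      rcases hrk with ⟨hkodd, hrk⟩ | ⟨hkev, hrk⟩
      · left
        have hlodd : Odd l := by rw [hlt]; exact hkodd.mul ht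
        have h1 : ηl = l := by
          rcases hηl with ⟨-, h⟩ | ⟨h, -⟩
          · exact h
          · exact absurd hlodd (Nat.not_odd_iff_even.mpr h)
        have h2 : ηk = k := by
          rcases hηk with ⟨-, h⟩ | ⟨h, -⟩
          · exact h
          · exact absurd hkodd (Nat.not_odd_iff_even.mpr h)
        apply hrs'.mul_dvd_of_dvd_of_dvd
        · rw [h2] at hrk
          apply hrk.trans
          rw [h1, hlt, pow_mul]
          have := Nat.sub_dvd_pow_sub_pow (Fintype.card F ^ k) 1 t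
          rwa [one_pow] at this
        · rcases hsl with ⟨-, h⟩ | ⟨h, -⟩
          · exact h
          · exact absurd hlodd (Nat.not_odd_iff_even.mpr h)
      · right
        have hlev : Even l := by rw [hlt]; exact hkev.mul_right t
        have h1 : 2 * ηl = l := by
          rcases hηl with ⟨h, -⟩ | ⟨-, h⟩
          · exact absurd hlev (Nat.not_even_iff_odd.mpr h)
          · exact h
        have h2 : 2 * ηk = k := by
          rcases hηk with ⟨h, -⟩ | ⟨-, h⟩
          · exact absurd hkev (Nat.not_even_iff_odd.mpr h)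
          · exact h
        have h3 : ηl = ηk * t := by
          have : 2 * ηl = 2 * (ηk * t) := by rw [h1, hlt, ← h2]; ring
          omega
        apply hrs'.mul_dvd_of_dvd_of_dvd
        · apply hrk.trans
          rw [h3, pow_mul]
          have := ht.nat_add_dvd_pow_add_pow (Fintype.card F ^ ηk) 1
          rwa [one_pow] at this
        · rcases hsl with ⟨h, -⟩ | ⟨-, h⟩
          · exact absurd hlev (Nat.not_even_iff_odd.mpr h)
          · exact h
  · rintro ⟨h1, h2⟩ ⟨g, hg⟩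
    obtain ⟨f, hf, hfo⟩ := lift_data (by omega) g (by rw [hg]; exact hrodd.mul hsodd)
    rw [hg] at hfo
    have hprs : ¬ p ∣ r * s := by
      intro h
      rcases hp.out.dvd_mul.mp h with h | h
      · exact hpr h
      · exact hps h
    rcases sp_two p hr2 hs2 hrs hk hηk hl hηl (hrodd.mul hsodd) hprs _ _ (Conc.sympFrm_nondeg n F) f (fun u v => by simpa using hf 1 u v)
      (by rw [← hfo, pow_orderOf_eq_one]) (by rw [hfo]; exact Dvd.intro _ rfl) (by rw [hfo]; exact Dvd.intro_left _ rfl) (vdim n F)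
      with h3 | ⟨d, hd, hdn, h3 | h3⟩
    · omega
    · have hkd : k ∣ d := by rw [hk]; exact order_zmod_dvd hq1 ((Dvd.intro _ rfl : r ∣ r * s).trans h3)
      have hld : l ∣ d := by rw [hl]; exact order_zmod_dvd hq1 ((Dvd.intro_left _ rfl : s ∣ r * s).trans h3)
      have hle := Nat.le_of_dvd hd hld
      rcases hηl with ⟨hlodd, h4⟩ | ⟨hlev, h4⟩
      · have hdl : d = l := by
          obtain ⟨c, hc⟩ := hld
          have hc1 : c = 1 := by
            rcases Nat.lt_or_ge 1 c with h5 | h5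
            · have : l * 2 ≤ l * c := Nat.mul_le_mul_left _ h5
              omega
            · rcases Nat.eq_zero_or_pos c with h6 | h6
              · rw [h6, mul_zero] at hc; omega
              · omega
          rw [hc, hc1, mul_one]
        rw [hdl] at hkd
        obtain ⟨t, ht⟩ := hkd
        apply h2
        refine ⟨t, ?_, ht⟩
        rw [ht, Nat.odd_mul] at hlodd
        exact hlodd.2
      · omega
    · have hs2' : ¬ s ∣ 2 := fun h => hs2 ((Nat.prime_dvd_prime_iff_eq hs Nat.prime_two).mp h)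
      have hr2' : ¬ r ∣ 2 := fun h => hr2 ((Nat.prime_dvd_prime_iff_eq hr Nat.prime_two).mp h)
      have key : ∀ (x m η : ℕ), x.Prime → ¬ x ∣ 2 → (hx : m = orderOf ((Fintype.card F : ℕ) : ZMod x)) → m ≠ 0 →
          ((Odd m ∧ η = m) ∨ (Even m ∧ 2 * η = m)) → x ∣ r * s → ∃ c, Odd c ∧ 2 * η = m ∧ d = η * c := by
        intro x m η hx hx2 hm hm0 hη hxrs
        haveI : Fact x.Prime := ⟨hx⟩
        have h5 : x ∣ Fintype.card F ^ d + 1 := hxrs.trans h3
        have h6 : m ∣ 2 * d := by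
          rw [hm]
          apply order_zmod_dvd hq1
          rw [sq_sub_one _ _ hq1]
          exact h5.mul_left _
        have h7 : ¬ m ∣ d := by
          rw [hm]
          intro h
          have h8 := dvd_of_order_zmod (r := x) hq1 h
          apply hx2
          have h9 := Nat.dvd_sub h5 h8
          have h10 : Fintype.card F ^ d + 1 - (Fintype.card F ^ d - 1) = 2 := by
            have := Nat.one_le_pow d (Fintype.card F) hq1
            omega
          rwa [h10] at h9
        rcases hη with ⟨hodd, -⟩ | ⟨hev, h8⟩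
        · exact absurd ((Nat.coprime_two_right.mpr hodd).dvd_of_dvd_mul_left h6) h7
        · obtain ⟨c, hc⟩ := h6
          have h9 : d = η * c := by
            have : 2 * d = 2 * (η * c) := by rw [hc, ← h8]; ring
            omega
          refine ⟨c, ?_, h8, h9⟩
          by_contra hcev
          rw [Nat.not_odd_iff_even] at hcev
          obtain ⟨c', hc'⟩ := hcev
          apply h7
          exact ⟨c', by rw [h9, hc', ← h8]; ring⟩
      obtain ⟨c, hc, hc2, hc3⟩ := key s l ηl hs hs2' hl hl0 hηl (Dvd.intro_left _ rfl)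
      obtain ⟨c', hc', hc2', hc3'⟩ := key r k ηk hr hr2' hk hk0 hηk (Dvd.intro _ rfl)
      have hc1 : c = 1 := by
        rcases Nat.lt_or_ge 1 c with h5 | h5
        · have : ηl * 2 ≤ ηl * c := Nat.mul_le_mul_left _ h5
          omega
        · have := hc.pos
          omega
      rw [hc1, mul_one] at hc3
      apply h2
      refine ⟨c', hc', ?_⟩
      rw [← hc2, ← hc2', ← hc3, hc3']; ring

end

end Cfsg.Agent.H21.GLf
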