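import Mathlib
import Cfsg.Agent.H21_GLf11

/-!
# Isometries of forms over finite fields, XII: the prime graph of `PSp` (characteristic)
-/

set_option autoImplicit false
open Polynomial Matrix

namespace Cfsg.Agent.H21.GLf

open Cfsg.Agent.H5 Cfsg.Agent.H21.GLo

universe u v w

section

variable {F : Type u} [Field F]

/-- lifts in characteristic two -/
theorem exists_lift_two {n : ℕ} (hn : 1 ≤ n) (h2 : (2 : F) = 0) (g : Cfsg.PSp n F) :
    ∃ f : Module.End F (Fin n ⊕ Fin n → F), (∀ u v, (Conc.sympFrm n F).B (f u) (f v) = (Conc.sympFrm n F).B u v) ∧ orderOf f = orderOf g := by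
  obtain ⟨X, rfl⟩ := QuotientGroup.mk_surjective g
  set o := orderOf (QuotientGroup.mk X : Cfsg.PSp n F) with ho
  let f0 : Module.End F (Fin n ⊕ Fin n → F) := Matrix.toLin' (X : Matrix (Fin n ⊕ Fin n) (Fin n ⊕ Fin n) F)
  have hf0 : ∀ u v, (Conc.sympFrm n F).B (f0 u) (f0 v) = (Conc.sympFrm n F).B u v := by
    intro u v
    rw [Conc.sympFrm_B, Conc.sympFrm_B, Matrix.toLin'_apply, Matrix.toLin'_apply]
    exact (Conc.mem_symplecticGroup_iff _).mp X.2 u v
  have hpow : ∀ s, f0 ^ s = Matrix.toLin' ((X : Matrix (Fin n ⊕ Fin n) (Fin n ⊕ Fin n) F) ^ s) := by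
    intro s
    exact (map_pow (Matrix.toLinAlgEquiv' (R := F) (n := Fin n ⊕ Fin n)) _ s).symm
  have hsc : ∀ (s : ℕ) (c : F), f0 ^ s = algebraMap F _ c → (X : Matrix (Fin n ⊕ Fin n) (Fin n ⊕ Fin n) F) ^ s = algebraMap F _ c := by
    intro s c h
    apply (Matrix.toLinAlgEquiv' (R := F) (n := Fin n ⊕ Fin n)).injective
    rw [AlgEquiv.commutes, ← h, hpow]; rfl
  obtain ⟨c, hc⟩ := (sp_mk_pow_iff X o).mp (pow_orderOf_eq_one _)
  have hfc : f0 ^ o = algebraMap F _ c := by
    rw [hpow, hc]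
    exact (Matrix.toLinAlgEquiv' (R := F) (n := Fin n ⊕ Fin n)).commutes c
  let b : Blk F n := Blk.mk (Fin n ⊕ Fin n → F) inferInstance inferInstance inferInstance (Conc.sympB n F)
    (Conc.sympB_alt n F) (Conc.sympFrm_nondeg n F) f0 hf0 (vdim n F)
  have hc2 : c ^ 2 = 1 := Blk.scalar_sq hn b hfc
  have hc1 : c = 1 := by
    rcases sq_eq_one_iff.mp hc2 with h | h
    · exact h
    · rw [h]; linear_combination -h2
  refine ⟨f0, hf0, ?_⟩
  apply Nat.dvd_antisymm
  · apply orderOf_dvd_of_pow_eq_one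
    rw [hfc, hc1, map_one]
  · rw [ho]
    apply orderOf_dvd_of_pow_eq_one
    rw [sp_mk_pow_iff]
    exact ⟨1, hsc _ _ (by rw [pow_orderOf_eq_one, map_one])⟩

variable [Fintype F]

theorem psp_rp (p : ℕ) [hp : Fact p.Prime] [CharP F p] (n : ℕ) (hn : 2 ≤ n)
    (r : ℕ) (hr : r.Prime) (hr2 : r ≠ 2) (hrp : r ≠ p)
    (k ηk : ℕ) (hk : k = orderOf ((Fintype.card F : ℕ) : ZMod r)) (hηk : (Odd k ∧ ηk = k) ∨ (Even k ∧ 2 * ηk = k)) :
    (r * p ∉ Set.range (orderOf : Cfsg.PSp n F → ℕ)) ↔ n - 1 < ηk := by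
  haveI : Fact r.Prime := ⟨hr⟩
  haveI : Finite (Cfsg.PSp n F) := inferInstance
  have hq1 : 1 ≤ Fintype.card F := Fintype.card_pos
  have hk0 : k ≠ 0 := by rw [hk]; exact ord_ne_zero p hrp
  have hrodd : Odd r := hr.odd_of_ne_two hr2
  have hrp' : Nat.Coprime r p := (Nat.coprime_primes hr hp.out).mpr hrp
  have hpr : ¬ p ∣ r := fun h => hrp ((Nat.prime_dvd_prime_iff_eq hp.out hr).mp h).symm
  have hηk1 : 1 ≤ ηk := by rcases hηk with ⟨-, h⟩ | ⟨-, h⟩ <;> omega
  have hrk := eta_dvd (r := r) hq1 hk0 hk hηk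
  constructor
  · intro hno
    by_contra hcon
    apply hno
    push Not at hcon
    obtain ⟨e, he⟩ := Nat.exists_eq_add_of_le (show ηk + 1 ≤ n by omega)
    obtain ⟨b, hb⟩ := exists_torus (F := F) (j := ηk) (w := r) (by omega) (by rcases hrk with ⟨-, h⟩ | ⟨-, h⟩; exact Or.inl h; exact Or.inr h)
    obtain ⟨c, hc⟩ := exists_trans_blk F p (j := 1 + e) (by omega)
    have hne : n = ηk + (1 + e) := by omega
    subst hne
    refine mem_of_blk (by omega) (b.sum c) hrodd ?_ ?_
    · intro s' a h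
      exact sc_of_order hηk1 b (by rw [← hb, pow_orderOf_eq_one]) (Blk.sum_scalar _ _ h).1
    · apply hrp'.mul_dvd_of_dvd_of_dvd
      · rw [← hb]; exact (sum_order b c).1
      · exact hc.trans (sum_order b c).2
  · rintro hlt ⟨g, hg⟩
    obtain ⟨f, hf1, hfo⟩ : ∃ f : Module.End F (Fin n ⊕ Fin n → F), (∀ u v, (Conc.sympFrm n F).B (f u) (f v) = (Conc.sympFrm n F).B u v) ∧ orderOf f = orderOf g := by
      by_cases hp2 : p = 2
      · apply exists_lift_two (by omega)
        have h1 : ((2 : ℕ) : F) = 0 := by rw [CharP.cast_eq_zero_iff F p, hp2]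
        exact_mod_cast h1
      · exact exists_lift_odd (by omega) g (by rw [hg]; exact hrodd.mul (hp.out.odd_of_ne_two hp2))
    rw [hg] at hfo
    have hf : ∀ s u v, (Conc.sympFrm n F).B ((f ^ s) u) ((f ^ s) v) = (Conc.sympFrm n F).B u v := by
      intro s
      induction s with
      | zero => intro u v; rfl
      | succ s ih => intro u v; rw [pow_succ', Module.End.mul_apply, Module.End.mul_apply, hf1, ih]
    have hordY : orderOf (f ^ p) = r := by
      rw [orderOf_pow' _ hp.out.ne_zero, hfo, Nat.gcd_eq_right (Dvd.intro_left _ rfl), Nat.mul_div_cancel _ hp.out.pos]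
    have hordU : orderOf (f ^ r) = p := by
      rw [orderOf_pow' _ hr.ne_zero, hfo, Nat.gcd_eq_right (Dvd.intro _ rfl), Nat.mul_div_cancel_left _ hr.pos]
    have hYw : (f ^ p) ^ r = 1 := by rw [← hordY, pow_orderOf_eq_one]
    haveI : Nontrivial (Fin n ⊕ Fin n → F) := Module.nontrivial_of_finrank_pos (R := F) (by rw [vdim]; omega)
    by_cases hno : ∀ e, Idem (f ^ p) e → Adj (Conc.sympFrm n F) e e → e = 0 ∨ e = 1
    · rcases sp_struct p (Conc.sympFrm_nondeg n F) (hf p) hYw hrodd hpr hno with h1 | ⟨d, k', hd, hk', hdk, hYd, hU⟩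
      · rw [h1, orderOf_one] at hordY
        exact hr.one_lt.ne hordY
      · rw [vdim] at hdk
        have h2 : r ∣ Fintype.card F ^ d - 1 ∨ r ∣ Fintype.card F ^ d + 1 := by
          rcases hYd with h | h
          · right; rw [← hordY]; exact orderOf_dvd_of_pow_eq_one h
          · left; rw [← hordY]; exact orderOf_dvd_of_pow_eq_one h
        have h3 := eta_le hr2 hq1 hk hηk hd h2
        have h4 : d * k' = n := by omega
        have h5 : k' = 1 := by
          rcases Nat.lt_or_ge 1 k' with h6 | h6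
          · have : d * 2 ≤ d * k' := Nat.mul_le_mul_left _ h6
            omega
          · omega
        have hUp : (f ^ r) ^ p = 1 := by
          rw [← orderOf_dvd_iff_pow_eq_one, hordU]
        have h6 := hU (f ^ r) (hf r) ((Commute.refl f).pow_pow _ _) ⟨1, by rw [pow_one]; exact hUp⟩
        rw [h5, pow_one, sub_eq_zero] at h6
        rw [h6, orderOf_one] at hordU
        exact hp.out.one_lt.ne hordU
    · push Not at hno
      obtain ⟨e, he, hee, he0, he1⟩ := hno
      have hc : Commute e (f ^ p) := he.commute (Commute.refl _)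
      have he' := one_sub_idem he
      have hee' := one_sub_adj hee
      have hc' : Commute (1 - e) (f ^ p) := he'.commute (Commute.refl _)
      obtain ⟨hsum, hp1, hp2⟩ := finrank_parts he.1 he0 he1
      rw [vdim] at hsum
      have hA := Conc.sympFrm_nondeg n F
      rcases order_parts he.1 hc hr (by rw [hordY]) (by rw [hordY]; exact hr.pos) with h | h
      · have := sp_dim p hr2 hk hηk hrodd hpr _ _ (nondeg_range hA he.1 hee) (rho e (f ^ p)) (iso_range he.1 hc (hf p)) (rho_pow_one he.1 hc hYw) h rfl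
        omega
      · have := sp_dim p hr2 hk hηk hrodd hpr _ _ (nondeg_range hA he'.1 hee') (rho (1 - e) (f ^ p)) (iso_range he'.1 hc' (hf p)) (rho_pow_one he'.1 hc' hYw) h rfl
        omega

end

end Cfsg.Agent.H21.GLf
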