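import Mathlib
import Cfsg.Agent.H21_GLo8

/-!
# Element orders of linear groups through commutative algebras, IX: the spectrum of `PSL_3(q)`
-/

set_option autoImplicit false
open Matrix Polynomial

namespace Cfsg.Agent.H21.GLo

section three

variable {F : Type*} [Field F]

theorem pow_scalar_of_dvd {n : ℕ} (M : Matrix (Fin n) (Fin n) F) {s : ℕ} {c : F} (h : M.charpoly ∣ (X ^ s - C c)) :
    M ^ s = algebraMap F _ c := by
  obtain ⟨g, hg⟩ := h
  have := congrArg (aeval M) hg
  rw [map_mul, Matrix.aeval_self_charpoly, zero_mul, map_sub, map_pow, aeval_X, aeval_C, sub_eq_zero] at this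
  exact this

theorem X_sub_dvd (a : F) (s : ℕ) : (X - C a : F[X]) ∣ X ^ s - C (a ^ s) := by
  rw [C_pow]
  exact sub_dvd_pow_sub_pow _ _ _

variable [Fintype F]

theorem two_eq (p : ℕ) [hp : Fact p.Prime] [CharP F p] {a b : F} (hab : a ≠ b) (h : a ^ 2 * b = 1) {d u : ℕ} (hd : d * u = Fintype.card F - 1)
    (hd3 : d ∣ 3) : (X - C a) ^ 2 * (X - C b) ∣ (X ^ (p * u) - C (a ^ (p * u)) : F[X]) := by
  have ha0 : a ≠ 0 := by rintro rfl; simp at h
  obtain ⟨e, he⟩ := hd3
  have h1 : a ^ (3 * u) = 1 := by
    rw [he, show d * e * u = (d * u) * e by ring, hd, pow_mul, FiniteField.pow_card_sub_one_eq_one a ha0, one_pow]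
  have h2 : b ^ u = a ^ u := by
    have h3 : a ^ (2 * u) * b ^ u = 1 := by rw [pow_mul, ← mul_pow, h, one_pow]
    have h4 : a ^ (2 * u) * a ^ u = 1 := by rw [← pow_add, ← h1]; congr 1; ring
    exact mul_left_cancel₀ (pow_ne_zero _ ha0) (h3.trans h4.symm)
  have h3 : (X ^ (p * u) - C (a ^ (p * u)) : F[X]) = (X ^ u - C (a ^ u)) ^ p := by
    rw [sub_pow_char, ← pow_mul, ← C_pow, ← pow_mul, mul_comm u p]
  rw [h3]
  apply IsCoprime.mul_dvd
  · apply IsCoprime.pow_left
    apply isCoprime_X_sub_C_of_isUnit_sub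
    exact (sub_ne_zero.mpr hab).isUnit
  · exact (pow_dvd_pow _ hp.out.two_le).trans (pow_dvd_pow_of_dvd (X_sub_dvd a u) p)
  · have h4 := X_sub_dvd b u
    rw [h2] at h4
    exact h4.trans (dvd_pow_self _ hp.out.ne_zero)

theorem three_upper (p : ℕ) [hp : Fact p.Prime] [CharP F p] (M : SpecialLinearGroup (Fin 3) F) {m : ℕ}
    (hm : m = orderOf (QuotientGroup.mk M : ProjectiveSpecialLinearGroup (Fin 3) F)) :
    m ∣ (Fintype.card F ^ 2 + Fintype.card F + 1) / Nat.gcd 3 (Fintype.card F - 1) ∨
      m ∣ (Fintype.card F ^ 2 - 1) / Nat.gcd 3 (Fintype.card F - 1) ∨ m ∣ Fintype.card F - 1 ∨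
      m ∣ p * (Fintype.card F - 1) / Nat.gcd 3 (Fintype.card F - 1) ∨ (p = 2 ∧ m ∣ 4) := by
  have hq1 : 1 < Fintype.card F := Fintype.one_lt_card
  set q := Fintype.card F with hq
  set d := Nat.gcd 3 (q - 1) with hd
  have hδ : 0 < d := Nat.gcd_pos_of_pos_left _ (by norm_num)
  have hd3 : d ∣ 3 := Nat.gcd_dvd_left _ _
  obtain ⟨u, hu⟩ : d ∣ q - 1 := Nat.gcd_dvd_right _ _
  have hqq : q ^ 2 - 1 = (q - 1) * (q + 1) := by
    obtain ⟨k, hk⟩ : ∃ k, q = k + 1 := ⟨q - 1, by omega⟩
    rw [hk]
    have : (k + 1) ^ 2 = k * (k + 2) + 1 := by ring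
    rw [this, Nat.add_sub_cancel, Nat.add_sub_cancel]
  have e1 : (q ^ 2 - 1) / d = u * (q + 1) := by
    rw [hqq, hu, mul_assoc, Nat.mul_div_cancel_left _ hδ]
  have e2 : p * (q - 1) / d = p * u := by
    rw [hu, show p * (d * u) = d * (p * u) by ring, Nat.mul_div_cancel_left _ hδ]
  rw [e1, e2]
  have key : ∀ (s : ℕ) (c : F), (M : Matrix (Fin 3) (Fin 3) F).charpoly ∣ (X ^ s - C c) → m ∣ s := by
    intro s c h
    rw [hm]
    apply orderOf_dvd_of_pow_eq_one
    rw [mk_pow_iff]
    exact ⟨c, pow_scalar_of_dvd _ h⟩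
  set P := (M : Matrix (Fin 3) (Fin 3) F).charpoly with hP
  have hPm : P.Monic := Matrix.charpoly_monic _
  have hPd : P.natDegree = 3 := by
    rw [hP, Matrix.charpoly_natDegree_eq_dim, Fintype.card_fin]
  have hP0 : P.coeff 0 = -1 := by
    have h1 := Matrix.det_eq_sign_charpoly_coeff (M : Matrix (Fin 3) (Fin 3) F)
    rw [M.2, Fintype.card_fin, ← hP] at h1
    linear_combination h1
  by_cases hroot : P.roots = 0
  · left
    have hirr : Irreducible P := (hPm.irreducible_iff_roots_eq_zero_of_degree_le_three (by omega) (by omega)).mpr hroot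
    have h1 : P = minpoly F (M : Matrix (Fin 3) (Fin 3) F) := minpoly.eq_of_irreducible_of_monic hirr (Matrix.aeval_self_charpoly _) hPm
    rw [h1] at hirr
    obtain ⟨c, hc⟩ := local_aux (by norm_num) (M : Matrix (Fin 3) (Fin 3) F) M.2 hirr
    rw [hm]
    apply orderOf_dvd_of_pow_eq_one
    rw [mk_pow_iff]
    refine ⟨c, ?_⟩
    rw [show ∑ i ∈ Finset.range 3, Fintype.card F ^ i = q ^ 2 + q + 1 by
      simp [Finset.sum_range_succ]; ring] at hc
    exact hc
  · right
    obtain ⟨a, ha⟩ := Multiset.exists_mem_of_ne_zero hroot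
    rw [Polynomial.mem_roots hPm.ne_zero, ← dvd_iff_isRoot] at ha
    obtain ⟨g, hg⟩ := ha
    have hgm : g.Monic := Polynomial.Monic.of_mul_monic_left (monic_X_sub_C a) (by rw [← hg]; exact hPm)
    have hgd : g.natDegree = 2 := by
      have h1 := (monic_X_sub_C a).natDegree_mul hgm
      rw [← hg, hPd, natDegree_X_sub_C] at h1
      omega
    have hg0 : a * g.coeff 0 = 1 := by
      have h1 := congrArg (fun f => f.coeff 0) hg
      simp only [mul_coeff_zero, coeff_sub, coeff_X_zero, coeff_C_zero] at h1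
      rw [hP0] at h1
      linear_combination h1
    have ha0 : a ≠ 0 := by rintro rfl; rw [zero_mul] at hg0; exact zero_ne_one hg0
    by_cases hroot2 : g.roots = 0
    · left
      have hirr : Irreducible g := (hgm.irreducible_iff_roots_eq_zero_of_degree_le_three (by omega) (by omega)).mpr hroot2
      haveI : Fact (Irreducible g) := ⟨hirr⟩
      haveI : Module.Finite F (AdjoinRoot g) := hgm.finite_adjoinRoot
      haveI : Finite (AdjoinRoot g) := Module.finite_of_finite F
      have hmin : g = minpoly F (AdjoinRoot.root g) := by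
        apply minpoly.eq_of_irreducible_of_monic hirr _ hgm
        rw [AdjoinRoot.aeval_eq, AdjoinRoot.mk_self]
      have hfin : Module.finrank F (AdjoinRoot g) = 2 := by
        rw [(AdjoinRoot.powerBasis' hgm).finrank, AdjoinRoot.powerBasis'_dim, hgd]
      have hnorm : Algebra.norm F (AdjoinRoot.root g) = g.coeff 0 := by
        have hpb := Algebra.PowerBasis.norm_gen_eq_coeff_zero_minpoly (AdjoinRoot.powerBasis' hgm)
        rw [AdjoinRoot.powerBasis'_gen, AdjoinRoot.powerBasis'_dim, hgd, ← hmin] at hpb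
        rw [hpb]; ring
      have hμ : (AdjoinRoot.root g) ^ (q + 1) = algebraMap F (AdjoinRoot g) (g.coeff 0) := by
        rw [← hnorm, FiniteField.algebraMap_norm_eq_pow_sum, Nat.card_eq_fintype_card, hfin, ← hq]
        congr 1
        simp [Finset.sum_range_succ]; ring
      have hkey2 : g.coeff 0 ^ u = a ^ (u * (q + 1)) := by
        have h1 : a ^ u * g.coeff 0 ^ u = 1 := by rw [← mul_pow, hg0, one_pow]
        have h2 : a ^ u * a ^ (u * (q + 1)) = 1 := by
          rw [← pow_add]
          obtain ⟨e, he⟩ := hd3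
          have h3 : u + u * (q + 1) = (q - 1) * (e + u) := by
            have h4 : q + 2 = d * (e + u) := by rw [mul_add, ← he, ← hu]; omega
            rw [hu, show u + u * (q + 1) = u * (q + 2) by ring, h4]; ring
          rw [h3, pow_mul, FiniteField.pow_card_sub_one_eq_one a ha0, one_pow]
        exact mul_left_cancel₀ (pow_ne_zero _ ha0) (h1.trans h2.symm)
      refine key (u * (q + 1)) (a ^ (u * (q + 1))) ?_
      rw [hg]
      apply IsCoprime.mul_dvd _ (X_sub_dvd a _)
      · rw [← AdjoinRoot.mk_eq_zero, map_sub, map_pow, AdjoinRoot.mk_X, AdjoinRoot.mk_C, sub_eq_zero, mul_comm u, pow_mul, hμ, ← map_pow, hkey2, mul_comm]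
        rfl
      · rw [(Polynomial.irreducible_X_sub_C a).coprime_iff_not_dvd, dvd_iff_isRoot]
        intro h1
        have h2 := (Polynomial.mem_roots hgm.ne_zero).mpr h1
        rw [hroot2] at h2
        exact absurd h2 (Multiset.notMem_zero a)
    · right
      obtain ⟨b, hb⟩ := Multiset.exists_mem_of_ne_zero hroot2
      rw [Polynomial.mem_roots hgm.ne_zero, ← dvd_iff_isRoot] at hb
      obtain ⟨h, hh⟩ := hb
      have hhm : h.Monic := Polynomial.Monic.of_mul_monic_left (monic_X_sub_C b) (by rw [← hh]; exact hgm)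
      have hhd : h.natDegree = 1 := by
        have h1 := (monic_X_sub_C b).natDegree_mul hhm
        rw [← hh, hgd, natDegree_X_sub_C] at h1
        omega
      obtain ⟨c, hc⟩ : ∃ c : F, h = X - C c := by
        refine ⟨-h.coeff 0, ?_⟩
        rw [C_neg, sub_neg_eq_add]
        exact hhm.eq_X_add_C hhd
      have habc : a * b * c = 1 := by
        rw [hh, hc] at hg0
        simp only [mul_coeff_zero, coeff_sub, coeff_X_zero, coeff_C_zero] at hg0
        linear_combination hg0
      have hPabc : P = (X - C a) * ((X - C b) * (X - C c)) := by rw [hg, hh, hc]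
      have hb0 : b ≠ 0 := by rintro rfl; simp at habc
      have hc0 : c ≠ 0 := by rintro rfl; simp at habc
      have hone : ∀ z : F, z ≠ 0 → (X - C z : F[X]) ∣ X ^ (q - 1) - C 1 := by
        intro z hz
        have := X_sub_dvd z (q - 1)
        rwa [FiniteField.pow_card_sub_one_eq_one z hz] at this
      by_cases hab : a = b
      · by_cases hac : a = c
        · -- all equal
          rw [← hab, ← hac] at hPabc
          rcases Nat.lt_or_ge p 3 with hp3 | hp3
          · right; right
            have hp2 : p = 2 := by have := hp.out.two_le; omega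
            subst hp2
            refine ⟨rfl, key 4 (a ^ 4) ?_⟩
            rw [hPabc]
            have h4 : (X ^ 4 - C (a ^ 4) : F[X]) = (X - C a) ^ (2 ^ 2) := by
              rw [sub_pow_char_pow, C_pow]; rfl
            rw [h4]
            exact ⟨X - C a, by ring⟩
          · right; left
            refine (key p (a ^ p) ?_).trans (Dvd.intro _ rfl)
            rw [hPabc]
            have h4 : (X ^ p - C (a ^ p) : F[X]) = (X - C a) ^ p := by
              rw [sub_pow_char, C_pow]
            rw [h4, show (X - C a) * ((X - C a) * (X - C a)) = (X - C a) ^ 3 by ring]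
            exact pow_dvd_pow _ hp3
        · right; left
          refine key (p * u) (a ^ (p * u)) ?_
          rw [hPabc, ← hab, ← mul_assoc, ← sq]
          apply two_eq p hac _ hu.symm hd3
          rw [← hab] at habc
          rw [sq]; exact habc
      · by_cases hac : a = c
        · right; left
          refine key (p * u) (a ^ (p * u)) ?_
          rw [hPabc, ← hac, show (X - C a) * ((X - C b) * (X - C a)) = (X - C a) ^ 2 * (X - C b) by ring]
          apply two_eq p hab _ hu.symm hd3
          rw [← hac] at habc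
          rw [← habc]; ring
        · by_cases hbc : b = c
          · right; left
            refine key (p * u) (b ^ (p * u)) ?_
            rw [hPabc, ← hbc, show (X - C a) * ((X - C b) * (X - C b)) = (X - C b) ^ 2 * (X - C a) by ring]
            apply two_eq p (Ne.symm hab) _ hu.symm hd3
            rw [← hbc] at habc
            rw [← habc]; ring
          · left
            refine key (q - 1) 1 ?_
            rw [hPabc]
            have k1 : IsCoprime (X - C a) (X - C b) := isCoprime_X_sub_C_of_isUnit_sub (sub_ne_zero.mpr hab).isUnit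
            have k2 : IsCoprime (X - C a) (X - C c) := isCoprime_X_sub_C_of_isUnit_sub (sub_ne_zero.mpr hac).isUnit
            have k3 : IsCoprime (X - C b) (X - C c) := isCoprime_X_sub_C_of_isUnit_sub (sub_ne_zero.mpr hbc).isUnit
            exact (k1.mul_right k2).mul_dvd (hone a ha0) (k3.mul_dvd (hone b hb0) (hone c hc0))

theorem three_spec (p : ℕ) [hp : Fact p.Prime] [CharP F p] :
    Set.range (orderOf : ProjectiveSpecialLinearGroup (Fin 3) F → ℕ) =
      {m : ℕ | m ∣ (Fintype.card F ^ 2 + Fintype.card F + 1) / Nat.gcd 3 (Fintype.card F - 1) ∨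
        m ∣ (Fintype.card F ^ 2 - 1) / Nat.gcd 3 (Fintype.card F - 1) ∨ m ∣ Fintype.card F - 1 ∨
        m ∣ p * (Fintype.card F - 1) / Nat.gcd 3 (Fintype.card F - 1) ∨ (p = 2 ∧ m ∣ 4)} := by
  haveI : Finite (ProjectiveSpecialLinearGroup (Fin 3) F) := inferInstance
  ext m
  constructor
  · rintro ⟨g, rfl⟩
    obtain ⟨M, rfl⟩ := QuotientGroup.mk_surjective g
    exact three_upper p M rfl
  · rintro (h | h | h | h | ⟨rfl, h⟩)
    · exact mem_range_of_dvd three_mem_a h
    · exact mem_range_of_dvd three_mem_b h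
    · exact mem_range_of_dvd three_mem_c h
    · exact mem_range_of_dvd (three_mem_d p) h
    · exact mem_range_of_dvd three_mem_e h

end three

end Cfsg.Agent.H21.GLo
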