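import Mathlib
import Cfsg.Agent.H21_GLo9
import Cfsg.Agent.H21_SpecPSL2

/-!
# Element orders of linear groups through commutative algebras, X: order `r p` in `PSL_n(q)`
-/

set_option autoImplicit false
open Matrix Polynomial

namespace Cfsg.Agent.H21.GLo

section Alg

variable {F : Type*} [Field F] {A : Type*} [CommRing A] [Algebra F A] [Module.Finite F A]

theorem finrank_ge_of_nilp {I : Ideal A} (hI : I.IsMaximal) {ν : A} (hν : IsNilpotent ν) (hν0 : ν ≠ 0)
    (hk : 2 ≤ Module.finrank F (A ⧸ I)) : Module.finrank F (A ⧸ I) + 2 ≤ Module.finrank F A := by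
  let μ : A →ₗ[F] A := LinearMap.mulRight F ν
  let ann : Ideal A := (Ideal.span {ν}).annihilator
  have hann : ∀ a, a ∈ ann ↔ a * ν = 0 := by
    intro a
    change a ∈ (Ideal.span {ν}).annihilator ↔ _
    rw [Ideal.span, Submodule.mem_annihilator_span_singleton, smul_eq_mul]
  have hann1 : ann ≠ ⊤ := by
    rw [Ne, Ideal.eq_top_iff_one, hann, one_mul]
    exact hν0
  obtain ⟨J, hJ, hJann⟩ := Ideal.exists_le_maximal ann hann1
  -- the range of `μ`
  have hnil : ∀ K : Ideal A, K.IsMaximal → ∀ a ∈ LinearMap.range μ, a ∈ K := by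
    rintro K hK _ ⟨b, rfl⟩
    change b * ν ∈ K
    apply K.mul_mem_left
    obtain ⟨N, hN⟩ := hν
    exact hK.isPrime.mem_of_pow_mem N (by rw [hN]; exact K.zero_mem)
  have hker : Module.finrank F (A ⧸ J) ≤ Module.finrank F (LinearMap.range μ) := by
    have h1 := LinearMap.finrank_range_add_finrank_ker μ
    have h2 : Module.finrank F (LinearMap.ker μ) ≤ Module.finrank F (J.restrictScalars F) := by
      apply Submodule.finrank_mono
      intro a ha
      apply hJann
      rw [hann]; exact ha
    have h3 := Submodule.finrank_quotient_add_finrank (J.restrictScalars F)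
    have h4 : Module.finrank F (A ⧸ J) = Module.finrank F (A ⧸ (J.restrictScalars F)) := rfl
    omega
  haveI : Nontrivial (A ⧸ J) := Ideal.Quotient.nontrivial_iff.mpr hJ.ne_top
  have hJpos : 0 < Module.finrank F (A ⧸ J) := Module.finrank_pos
  by_cases hIJ : I = J
  · subst hIJ
    have h1 : Module.finrank F (LinearMap.range μ) ≤ Module.finrank F (I.restrictScalars F) :=
      Submodule.finrank_mono (fun a ha => hnil I hI a ha)
    have h3 := Submodule.finrank_quotient_add_finrank (I.restrictScalars F)
    have h4 : Module.finrank F (A ⧸ I) = Module.finrank F (A ⧸ (I.restrictScalars F)) := rfl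
    omega
  · have hcop : IsCoprime I J := Ideal.isCoprime_iff_sup_eq.mpr (hI.coprime_of_ne hJ hIJ)
    let φ : A →ₗ[F] (A ⧸ I) × (A ⧸ J) := (Ideal.Quotient.mkₐ F I).toLinearMap.prod (Ideal.Quotient.mkₐ F J).toLinearMap
    have hφ : Function.Surjective φ := by
      rintro ⟨a, b⟩
      obtain ⟨a, rfl⟩ := Ideal.Quotient.mk_surjective a
      obtain ⟨b, rfl⟩ := Ideal.Quotient.mk_surjective b
      obtain ⟨i, hi, j, hj, hij⟩ := Ideal.isCoprime_iff_exists.mp hcop
      refine ⟨a * j + b * i, ?_⟩
      apply Prod.ext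
      · change Ideal.Quotient.mk I (a * j + b * i) = Ideal.Quotient.mk I a
        rw [Ideal.Quotient.eq]
        have : a * j + b * i - a = (b - a) * i := by linear_combination a * hij
        rw [this]
        exact I.mul_mem_left _ hi
      · change Ideal.Quotient.mk J (a * j + b * i) = Ideal.Quotient.mk J b
        rw [Ideal.Quotient.eq]
        have : a * j + b * i - b = (a - b) * j := by linear_combination b * hij
        rw [this]
        exact J.mul_mem_left _ hj
    have h1 := LinearMap.finrank_range_add_finrank_ker φ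
    rw [LinearMap.range_eq_top.mpr hφ, finrank_top, Module.finrank_prod] at h1
    have h2 : Module.finrank F (LinearMap.range μ) ≤ Module.finrank F (LinearMap.ker φ) := by
      apply Submodule.finrank_mono
      intro a ha
      rw [LinearMap.mem_ker]
      apply Prod.ext
      · change Ideal.Quotient.mk I a = 0
        rw [Ideal.Quotient.eq_zero_iff_mem]; exact hnil I hI a ha
      · change Ideal.Quotient.mk J a = 0
        rw [Ideal.Quotient.eq_zero_iff_mem]; exact hnil J hJ a ha
    omega

end Alg

theorem psl_rp {F : Type*} [Field F] [Fintype F] (p : ℕ) [hp : Fact p.Prime] [CharP F p] (n : ℕ) (hn : 2 ≤ n)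
    (r : ℕ) (hr : r.Prime) (hr2 : r ≠ 2) (hrp : r ≠ p)
    (k : ℕ) (hk : k = orderOf ((Fintype.card F : ℕ) : ZMod r)) :
    (r * p ∉ Set.range (orderOf : Matrix.ProjectiveSpecialLinearGroup (Fin n) F → ℕ)) ↔
      (n - 2 < k ∨ (n = 3 ∧ r = 3 ∧ 3 ∣ Fintype.card F - 1 ∧ ¬ 9 ∣ Fintype.card F - 1)) := by
  haveI : Fact r.Prime := ⟨hr⟩
  haveI : Finite (ProjectiveSpecialLinearGroup (Fin n) F) := inferInstance
  have hq1 : 1 < Fintype.card F := Fintype.one_lt_card
  obtain ⟨a, ha⟩ := FiniteField.card F p
  have hpF : p ∣ Fintype.card F := by rw [ha.2]; exact dvd_pow_self p a.ne_zero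
  have hrF : ¬ r ∣ Fintype.card F := by
    intro h
    rw [ha.2] at h
    exact hrp ((Nat.prime_dvd_prime_iff_eq hr hp.out).mp (hr.dvd_of_dvd_pow h))
  have hcp := coprime_p (F := F) p
  have hk0 : k ≠ 0 := by
    rw [hk]
    have h1 : ((Fintype.card F : ℕ) : ZMod r) ≠ 0 := by rwa [Ne, ZMod.natCast_eq_zero_iff]
    apply (orderOf_pos_iff.mpr _).ne'
    rw [isOfFinOrder_iff_pow_eq_one]
    exact ⟨r - 1, by have := hr.two_le; omega, ZMod.pow_card_sub_one_eq_one h1⟩
  have hrk : r ∣ Fintype.card F ^ k - 1 := dvd_of_order_zmod hq1.le (by rw [hk])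
  have hcop_rp : Nat.Coprime r p := (Nat.coprime_primes hr hp.out).mpr hrp
  constructor
  · -- existence
    intro hno
    by_contra hcon
    push Not at hcon
    obtain ⟨hkn, hexc⟩ := hcon
    apply hno
    by_cases hk1 : k = 1
    · rw [hk1, pow_one] at hrk
      by_cases hn3 : n = 3
      · subst hn3
        apply mem_range_of_dvd (three_mem_d p)
        have hδ : 0 < Nat.gcd 3 (Fintype.card F - 1) := Nat.gcd_pos_of_pos_left _ (by norm_num)
        obtain ⟨b, hb⟩ := Nat.gcd_dvd_right 3 (Fintype.card F - 1)
        have hδ3 := Nat.gcd_dvd_left 3 (Fintype.card F - 1)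
        set δ := Nat.gcd 3 (Fintype.card F - 1) with hδdef
        have h7 : p * (Fintype.card F - 1) / δ = p * b := by
          rw [hb, show p * (δ * b) = δ * (p * b) by ring, Nat.mul_div_cancel_left _ hδ]
        rw [h7, mul_comm]
        apply Nat.mul_dvd_mul_left
        by_cases hr3 : r = 3
        · subst hr3
          have h8 := hexc rfl rfl hrk
          have h9 : δ = 3 := Nat.gcd_eq_left hrk
          rw [h9] at hb
          rw [hb] at h8
          obtain ⟨t, ht⟩ := h8
          exact ⟨t, by omega⟩
        · rw [hb] at hrk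
          rcases hr.dvd_mul.mp hrk with h | h
          · exact absurd ((Nat.prime_dvd_prime_iff_eq hr Nat.prime_three).mp (h.trans hδ3)) hr3
          · exact h
      · -- n ≥ 4
        obtain ⟨w, hw⟩ := exists_order (E := F) (m := r) (by rwa [Nat.card_eq_fintype_card])
        have hw0 : w ≠ 0 := by
          rintro rfl
          rw [orderOf_zero] at hw
          exact hr.ne_zero hw.symm
        obtain ⟨B, _, _, _, _, u, T, hB, huT, hpu, hNu⟩ := exists_unip F p (m := 2) (s := 0) (by norm_num)
        have hfin : Module.finrank F (B × F × (Fin (n - 3) → F)) = n := by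
          rw [Module.finrank_prod, Module.finrank_prod, hB, Module.finrank_self, Module.finrank_fin_fun]; omega
        obtain ⟨g, hg⟩ := realize hfin ((algebraMap F B w * u, (w ^ 2)⁻¹, 1) : B × F × (Fin (n - 3) → F)) (by
          rw [norm_prod, norm_prod]
          change Algebra.norm F (algebraMap F B w * u) * (Algebra.norm F ((w ^ 2)⁻¹) * Algebra.norm F (1 : Fin (n - 3) → F)) = 1
          rw [map_mul, hNu, mul_one, map_one, mul_one, Algebra.norm_algebraMap, hB, Algebra.norm_self, MonoidHom.id_apply, mul_inv_cancel₀ (pow_ne_zero _ hw0)])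
        apply mem_range_of_dvd (m := orderOf g) ⟨g, rfl⟩
        obtain ⟨c, hc⟩ := (hg (orderOf g)).mp (pow_orderOf_eq_one g)
        set o := orderOf g with ho
        have hc1 : (algebraMap F B w * u) ^ o = algebraMap F B c := congrArg Prod.fst hc
        have hc2 : ((w ^ 2)⁻¹) ^ o = c := congrArg (fun z => z.2.1) hc
        have hc3 : (1 : Fin (n - 3) → F) ^ o = algebraMap F _ c := congrArg (fun z => z.2.2) hc
        have hc4 : c = 1 := by
          rw [one_pow] at hc3
          exact (congrFun hc3 ⟨0, by omega⟩).symm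
        rw [hc4, inv_pow, inv_eq_one, ← pow_mul] at hc2
        have h1 := orderOf_dvd_of_pow_eq_one hc2
        rw [hw] at h1
        have h2 : r ∣ o := by
          rcases hr.dvd_mul.mp h1 with h | h
          · exact absurd ((Nat.prime_dvd_prime_iff_eq hr Nat.prime_two).mp h) hr2
          · exact h
        have hwo : w ^ o = 1 := by rw [← orderOf_dvd_iff_pow_eq_one, hw]; exact h2
        rw [mul_pow, ← map_pow, hwo, map_one, one_mul, hc4, map_one] at hc1
        have h3 : p ∣ o := by
          have := hpu.trans (orderOf_dvd_of_pow_eq_one hc1)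
          rwa [zero_add, pow_one] at this
        exact hcop_rp.mul_dvd_of_dvd_of_dvd h2 h3
    · -- k ≥ 2
      have hcr : Nat.Coprime r (Fintype.card F - 1) := by
        rw [Nat.Prime.coprime_iff_not_dvd hr]
        intro h
        have := order_zmod_dvd (q := Fintype.card F) (r := r) (d := 1) hq1.le (by rwa [pow_one])
        rw [← hk] at this
        have := Nat.le_of_dvd one_pos this
        omega
      obtain ⟨E, _, _, _, _, hE, hcE⟩ := exists_ext F k hk0
      obtain ⟨y, hy⟩ := exists_order (E := E) (m := r) (by rw [hcE]; exact hrk)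
      obtain ⟨B, _, _, _, _, u, T, hB, huT, hpu, hNu⟩ := exists_unip F p (m := 2) (s := 0) (by norm_num)
      have hfin : Module.finrank F (E × B × (Fin (n - k - 2) → F)) = n := by
        rw [Module.finrank_prod, Module.finrank_prod, hE, hB, Module.finrank_fin_fun]; omega
      obtain ⟨t, ht, ht2⟩ := (Nat.dvd_prime_pow hp.out).mp (orderOf_dvd_of_pow_eq_one huT)
      have hord : orderOf ((y, u, 1) : E × B × (Fin (n - k - 2) → F)) = r * p ^ t := by
        rw [Prod.orderOf, Prod.orderOf, hy, ht2, orderOf_one, Nat.lcm_one_right]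
        exact (Nat.Coprime.pow_right t hcop_rp).lcm_eq_mul
      have := realize_coprime hfin (x := (y, u, 1)) (by rw [hord]; exact (Nat.mul_pos hr.pos (pow_pos hp.out.pos _)).ne')
        (by rw [hord]; exact Nat.Coprime.mul_left hcr (Nat.Coprime.pow_left _ hcp))
      rw [hord] at this
      apply mem_range_of_dvd this
      apply Nat.mul_dvd_mul_left
      rw [ht2] at hpu
      rwa [zero_add, pow_one] at hpu
  · rintro hcase ⟨g, hg⟩
    rcases hcase with hkn | ⟨rfl, rfl, h3, h9⟩
    · rcases Nat.lt_or_ge n 3 with hn3 | hn3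
      · -- n = 2
        have hn2 : n = 2 := by omega
        subst hn2
        have hpnd : ∀ m, m ∣ Fintype.card F - 1 ∨ m ∣ Fintype.card F + 1 → ¬ r * p ∣ m := by
          intro m hm h
          have hpm : p ∣ m := (Dvd.intro_left _ rfl : p ∣ r * p).trans h
          have hp1 : ¬ p ∣ 1 := fun h => hp.out.one_lt.ne' (Nat.dvd_one.mp h)
          rcases hm with hm | hm
          · have := hpm.trans hm
            have h2 := Nat.dvd_sub hpF this
            rw [Nat.sub_sub_self hq1.le] at h2
            exact hp1 h2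
          · have := hpm.trans hm
            exact hp1 ((Nat.dvd_add_right hpF).mp this)
        rcases H21.SpecPSL2.order_dvd p g with h | h | h
        · rw [hg] at h
          have := Nat.le_of_dvd hp.out.pos h
          have h5 : 2 * p ≤ r * p := Nat.mul_le_mul_right _ hr.two_le
          have := hp.out.pos
          omega
        · rw [hg] at h
          exact hpnd _ (Or.inl (Nat.div_dvd_of_dvd (Nat.gcd_dvd_right _ _))) h
        · rw [hg] at h
          have e1 : Fintype.card F + 1 = (Fintype.card F - 1) + 2 := by omega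
          have h2 : Nat.gcd 2 (Fintype.card F - 1) ∣ Fintype.card F + 1 := by
            rw [e1]
            exact dvd_add (Nat.gcd_dvd_right _ _) (Nat.gcd_dvd_left _ _)
          exact hpnd _ (Or.inr (Nat.div_dvd_of_dvd h2)) h
      · have hk2 : 2 ≤ k := by omega
        obtain ⟨X, rfl⟩ := QuotientGroup.mk_surjective g
        haveI := nontrivial_AX (by omega : n ≠ 0) (X : Matrix (Fin n) (Fin n) F)
        haveI : CharP (AX (X : Matrix (Fin n) (Fin n) F)) p := charP_of_injective_algebraMap (algebraMap F _).injective p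
        obtain ⟨x, hx⟩ := exists_prime_elt X hr (by rw [hg]; exact Dvd.intro _ rfl)
        obtain ⟨y, hy⟩ := exists_prime_elt X hp.out (by rw [hg]; exact Dvd.intro_left _ rfl)
        have hx1 : x ^ r = 1 := by rw [← hx]; exact pow_orderOf_eq_one x
        have hy1 : y ^ p = 1 := by rw [← hy]; exact pow_orderOf_eq_one y
        have hxne : x ^ 1 ≠ 1 := by
          rw [pow_one]; intro h; rw [h, orderOf_one] at hx; exact hr.one_lt.ne hx
        have hyne : y - 1 ≠ 0 := by
          intro h; rw [sub_eq_zero] at h; rw [h, orderOf_one] at hy; exact hp.out.one_lt.ne hy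
        have hpr : ¬ p ∣ r := fun h => hrp ((Nat.prime_dvd_prime_iff_eq hp.out hr).mp h).symm
        obtain ⟨I, hI, hIx⟩ := exists_max (F := F) p hx1 hpr hxne
        rw [pow_one] at hIx
        have hkI := order_dvd_finrank (F := F) hI hx1 hIx
        rw [← hk] at hkI
        have hkle := Nat.le_of_dvd (finrank_quot_pos hI) hkI
        have hnil : IsNilpotent (y - 1) := ⟨p, by rw [sub_pow_char, hy1, one_pow, sub_self]⟩
        have h5 := finrank_ge_of_nilp (F := F) hI hnil hyne (by omega)
        have h6 := finrank_AX (X : Matrix (Fin n) (Fin n) F)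
        omega
    · -- n = 3, r = 3
      have hmem : 3 * p ∈ Set.range (orderOf : Matrix.ProjectiveSpecialLinearGroup (Fin 3) F → ℕ) := ⟨g, hg⟩
      rw [three_spec p] at hmem
      have hδ : Nat.gcd 3 (Fintype.card F - 1) = 3 := Nat.gcd_eq_left h3
      rw [Set.mem_setOf_eq, hδ] at hmem
      obtain ⟨b, hb⟩ := h3
      have hpnd : ¬ p ∣ 1 := fun h => hp.out.one_lt.ne' (Nat.dvd_one.mp h)
      have hp3 : p ∣ 3 * p := Dvd.intro_left _ rfl
      have hqq : Fintype.card F ^ 2 - 1 = (Fintype.card F - 1) * (Fintype.card F + 1) := by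
        obtain ⟨k, hk⟩ : ∃ k, Fintype.card F = k + 1 := ⟨Fintype.card F - 1, by omega⟩
        rw [hk]
        have : (k + 1) ^ 2 = k * (k + 2) + 1 := by ring
        rw [this, Nat.add_sub_cancel, Nat.add_sub_cancel]
      have hpq1 : ¬ p ∣ Fintype.card F - 1 := (Nat.Prime.coprime_iff_not_dvd hp.out).mp hcp
      rcases hmem with h | h | h | h | ⟨rfl, h⟩
      · have h1 : 3 ∣ Fintype.card F ^ 2 + Fintype.card F + 1 := by
          have : Fintype.card F = 3 * b + 1 := by omega
          rw [this]
          exact ⟨3 * b ^ 2 + 3 * b + 1, by ring⟩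
        have h2 := (hp3.trans h).trans (Nat.div_dvd_of_dvd h1)
        have h4 : p ∣ Fintype.card F ^ 2 + Fintype.card F := dvd_add (hpF.trans (dvd_pow_self _ two_ne_zero)) hpF
        exact hpnd ((Nat.dvd_add_right h4).mp h2)
      · have h1 : 3 ∣ Fintype.card F ^ 2 - 1 := by rw [hqq, hb]; exact Dvd.intro _ (mul_assoc _ _ _).symm
        have h2 := (hp3.trans h).trans (Nat.div_dvd_of_dvd h1)
        have h4 : p ∣ Fintype.card F ^ 2 := hpF.trans (dvd_pow_self _ two_ne_zero)
        have h5 := Nat.dvd_sub h4 h2
        rw [Nat.sub_sub_self (Nat.one_le_pow _ _ (by omega))] at h5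
        exact hpnd h5
      · exact hpq1 (hp3.trans h)
      · have h1 : p * (Fintype.card F - 1) / 3 = p * b := by
          rw [hb, show p * (3 * b) = 3 * (p * b) by ring, Nat.mul_div_cancel_left _ (by norm_num)]
        rw [h1, mul_comm] at h
        have h2 := Nat.dvd_of_mul_dvd_mul_left hp.out.pos h
        apply h9
        obtain ⟨c, hc⟩ := h2
        exact ⟨c, by rw [hb, hc]; ring⟩
      · have := (Dvd.intro _ rfl : (3 : ℕ) ∣ 3 * 2).trans h
        omega

end Cfsg.Agent.H21.GLo
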