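import Mathlib
import Cfsg.Agent.H21_GLu8
import Cfsg.Agent.S2904

/-!
# Unitary groups, IX: large tori
-/

set_option autoImplicit false
open Polynomial
open scoped Matrix

namespace Cfsg.Agent.H21.GLu

open Cfsg.Agent.H5 Cfsg.Agent.H21.GLo Cfsg.Agent.H21.GLf

universe u v w

theorem gcd_two_dvd {m Q : ℕ} (hm : m ≠ 0) (hQ : Q ≠ 0) : Nat.gcd (2 * m) Q ∣ Nat.gcd m Q ↔ padicValNat 2 Q < padicValNat 2 (2 * m) := by
  have h2m : padicValNat 2 (2 * m) = padicValNat 2 m + 1 := by
    rw [padicValNat.mul (by norm_num) hm, padicValNat_self, add_comm]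
  rw [h2m, Nat.lt_succ_iff]
  constructor
  · intro h
    by_contra hcon
    push Not at hcon
    have h1 : 2 ^ (padicValNat 2 m + 1) ∣ Nat.gcd (2 * m) Q := by
      apply Nat.dvd_gcd
      · rw [← h2m]; exact pow_padicValNat_dvd
      · exact (pow_dvd_pow 2 hcon).trans pow_padicValNat_dvd
    have h2 : 2 ^ (padicValNat 2 m + 1) ∣ m := h1.trans (h.trans (Nat.gcd_dvd_left _ _))
    exact pow_succ_padicValNat_not_dvd hm h2
  · intro h
    apply Nat.dvd_gcd _ (Nat.gcd_dvd_right _ _)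
    have hg0 : Nat.gcd (2 * m) Q ≠ 0 := Nat.gcd_ne_zero_right hQ
    rw [← Nat.factorization_le_iff_dvd hg0 hm]
    intro l
    by_cases hl : l.Prime
    · rw [Nat.factorization_gcd (by omega) hQ, Finsupp.inf_apply]
      by_cases hl2 : l = 2
      · subst hl2
        apply inf_le_of_right_le
        rw [Nat.factorization_def _ hl, Nat.factorization_def _ hl]
        exact h
      · apply inf_le_of_left_le
        rw [Nat.factorization_mul (by norm_num) hm, Finsupp.add_apply]
        have : Nat.factorization 2 l = 0 := by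
          apply Nat.factorization_eq_zero_of_not_dvd
          intro h1
          exact hl2 ((Nat.prime_dvd_prime_iff_eq hl Nat.prime_two).mp h1)
        rw [this, zero_add]
    · rw [Nat.factorization_eq_zero_of_not_prime _ hl]; exact Nat.zero_le _

theorem Sn_two_mul {q m : ℕ} (hq : 2 ≤ q) (hm : 1 ≤ m) : Sn q (2 * m) = (if Even m then q ^ m + 1 else q ^ m - 1) * Sn q m := by
  have h1 := Sn_mul_int q (2 * m) (by omega)
  have h2 := Sn_mul_int q m (by omega)
  have h3 : (((if Even m then q ^ m + 1 else q ^ m - 1 : ℕ)) : ℤ) = (q : ℤ) ^ m + (-1) ^ m := by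
    split_ifs with he
    · rw [he.neg_one_pow]; push_cast; ring
    · rw [Nat.not_even_iff_odd] at he
      rw [he.neg_one_pow]
      have : 1 ≤ q ^ m := Nat.one_le_pow _ _ (by omega)
      push_cast [this]; ring
  have h5 : ((q : ℤ) + 1) ≠ 0 := by positivity
  have h4 : ((Sn q (2 * m) : ℕ) : ℤ) = (((if Even m then q ^ m + 1 else q ^ m - 1) * Sn q m : ℕ) : ℤ) := by
    rw [Nat.cast_mul, h3]
    apply mul_right_cancel₀ h5
    rw [h1, mul_assoc, h2]
    have h6 : (q : ℤ) ^ (2 * m) = (q : ℤ) ^ m * (q : ℤ) ^ m := by rw [← pow_add]; congr 1; omega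
    have h7 : ((-1 : ℤ)) ^ (2 * m) = (-1) ^ m * (-1) ^ m := by rw [← pow_add]; congr 1; omega
    rw [h6, h7]; ring
  exact_mod_cast h4

theorem dvd_M0_iff {q m : ℕ} (hq : 2 ≤ q) (hm : 1 ≤ m) :
    (if Even m then q ^ m + 1 else q ^ m - 1) ∣ M0 q (2 * m) ↔ padicValNat 2 (q + 1) < padicValNat 2 (2 * m) := by
  rw [← gcd_two_dvd (by omega) (by omega), M0, Sn_two_mul hq hm]
  set o := (if Even m then q ^ m + 1 else q ^ m - 1) with ho
  have hopos : 0 < o := by
    rw [ho]
    have : 1 < q ^ m := Nat.one_lt_pow (by omega) (by omega)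
    split_ifs <;> omega
  have hg0 : 0 < Nat.gcd (2 * m) (q + 1) := Nat.gcd_pos_of_pos_left _ (by omega)
  have hgS : Nat.gcd (2 * m) (q + 1) ∣ o * Sn q m := by
    rw [← Sn_two_mul hq hm, ← gcd_Sn q (2 * m) (by omega)]
    exact Nat.gcd_dvd_left _ _
  have h1 : Nat.gcd (2 * m) (q + 1) ∣ Nat.gcd m (q + 1) ↔ Nat.gcd (2 * m) (q + 1) ∣ Sn q m := by
    rw [← gcd_Sn q m (by omega)]
    exact ⟨fun h => h.trans (Nat.gcd_dvd_left _ _), fun h => Nat.dvd_gcd h (Nat.gcd_dvd_right _ _)⟩
  rw [h1]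
  obtain ⟨t, ht⟩ := hgS
  rw [ht, Nat.mul_div_cancel_left _ hg0]
  constructor
  · rintro ⟨s, hs⟩
    refine ⟨s, ?_⟩
    apply Nat.eq_of_mul_eq_mul_left hopos
    rw [ht, hs]; ring
  · rintro ⟨s, hs⟩
    refine ⟨s, ?_⟩
    apply Nat.eq_of_mul_eq_mul_left hg0
    rw [← ht, hs]; ring

/-- primitive prime divisors -/
theorem exists_kappa {q m : ℕ} (hq : 3 ≤ q) (hodd : Odd q) (hm : 2 ≤ m) :
    ∃ r : ℕ, r.Prime ∧ ¬ r ∣ q ∧ r ∣ (if Even m then q ^ m + 1 else q ^ m - 1) ∧ ∀ _ : Fact r.Prime, orderOf (-(q : ZMod r)) = 2 * m := by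
  have hq0 : ∀ (r n : ℕ), r.Prime → 0 < n → r ∣ q ^ n - 1 → ¬ r ∣ q := by
    intro r n hr hn h1 h2
    have h3 : r ∣ q ^ n := h2.trans (dvd_pow_self q hn.ne')
    have h4 : q ^ n - (q ^ n - 1) = 1 := by
      have := Nat.one_le_pow n q (by omega)
      omega
    have h5 := Nat.dvd_sub h3 h1
    rw [h4] at h5
    exact hr.one_lt.ne' (Nat.dvd_one.mp h5)
  have hordn : ∀ (r n : ℕ) (_ : Fact r.Prime), 0 < n → r ∣ q ^ n - 1 → (∀ k, 0 < k → k < n → ¬ r ∣ q ^ k - 1) → orderOf (q : ZMod r) = n := by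
    intro r n hr hn h1 h2
    have h3 := order_zmod_dvd (q := q) (r := r) (by omega) h1
    have h4 := Nat.le_of_dvd hn h3
    by_contra hne
    have h5 : 0 < orderOf (q : ZMod r) := Nat.pos_of_dvd_of_pos h3 hn
    exact h2 _ h5 (by omega) (dvd_of_order_zmod (by omega) (dvd_refl _))
  rcases Nat.even_or_odd m with he | ho
  · obtain ⟨r, hr, hr1, hr2⟩ := Cfsg.Agent.S2904.result q (2 * m) (by omega) (by omega) (by rintro ⟨rfl, -⟩; omega) (by rintro ⟨h, -⟩; omega)
    refine ⟨r, hr, hq0 r _ hr (by omega) hr1, ?_, ?_⟩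
    · rw [if_pos he]
      have h3 : q ^ (2 * m) - 1 = (q ^ m - 1) * (q ^ m + 1) := by
        obtain ⟨c, hc⟩ : ∃ c, q ^ m = c + 1 := ⟨q ^ m - 1, by have := Nat.one_le_pow m q (by omega); omega⟩
        rw [mul_comm 2 m, pow_mul, hc]
        have : (c + 1) ^ 2 = c * (c + 2) + 1 := by ring
        rw [this, Nat.add_sub_cancel, Nat.add_sub_cancel]
      rw [h3] at hr1
      exact (hr.dvd_mul.mp hr1).resolve_left (hr2 m (by omega) (by omega))
    · intro hrf
      have ho := hordn r (2 * m) hrf (by omega) hr1 hr2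
      apply Nat.dvd_antisymm
      · apply orderOf_dvd_of_pow_eq_one
        rw [(even_two_mul m).neg_pow, ← ho, pow_orderOf_eq_one]
      · set κ := orderOf (-(q : ZMod r)) with hκ
        have h4 : (-(q : ZMod r)) ^ κ = 1 := pow_orderOf_eq_one _
        rcases Nat.even_or_odd κ with hk | hk
        · rw [hk.neg_pow] at h4
          rw [← ho]; exact orderOf_dvd_of_pow_eq_one h4
        · exfalso
          have h5 : (q : ZMod r) ^ (2 * κ) = 1 := by
            rw [mul_comm, pow_mul, ← (even_two).neg_pow, ← hk.neg_pow, h4, one_pow]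
          have h6 := orderOf_dvd_of_pow_eq_one h5
          rw [ho] at h6
          have h7 : m ∣ κ := Nat.dvd_of_mul_dvd_mul_left (by norm_num) h6
          obtain ⟨j, hj⟩ := he
          obtain ⟨i, hi⟩ := h7
          obtain ⟨l, hl⟩ := hk
          have : κ = 2 * (j * i) := by rw [hi, hj]; ring
          omega
  · have hm3 : 3 ≤ m := by obtain ⟨j, hj⟩ := ho; omega
    obtain ⟨r, hr, hr1, hr2⟩ := Cfsg.Agent.S2904.result q m (by omega) (by omega) (by rintro ⟨rfl, -⟩; omega) (by rintro ⟨h, -⟩; omega)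
    have hne : ¬ Even m := Nat.not_even_iff_odd.mpr ho
    refine ⟨r, hr, hq0 r _ hr (by omega) hr1, ?_, ?_⟩
    · rw [if_neg hne]; exact hr1
    · intro hrf
      have hoq := hordn r m hrf (by omega) hr1 hr2
      have hr22 : r ≠ 2 := by
        rintro rfl
        apply hr2 1 one_pos (by omega)
        rw [pow_one]
        obtain ⟨j, hj⟩ := hodd
        exact ⟨j, by omega⟩
      apply Nat.dvd_antisymm
      · apply orderOf_dvd_of_pow_eq_one
        rw [(even_two_mul m).neg_pow, mul_comm, pow_mul, ← hoq, pow_orderOf_eq_one, one_pow]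
      · set κ := orderOf (-(q : ZMod r)) with hκ
        have h4 : (-(q : ZMod r)) ^ κ = 1 := pow_orderOf_eq_one _
        rcases Nat.even_or_odd κ with hk | hk
        · rw [hk.neg_pow] at h4
          have h5 := orderOf_dvd_of_pow_eq_one h4
          rw [hoq] at h5
          exact Nat.Coprime.mul_dvd_of_dvd_of_dvd (Nat.coprime_two_left.mpr ho) hk.two_dvd h5
        · exfalso
          have h5 : (q : ZMod r) ^ (2 * κ) = 1 := by
            rw [mul_comm, pow_mul, ← (even_two).neg_pow, ← hk.neg_pow, h4, one_pow]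
          have h6 := orderOf_dvd_of_pow_eq_one h5
          rw [hoq] at h6
          have h7 : m ∣ κ := (Nat.coprime_two_right.mpr ho).dvd_of_dvd_mul_left h6
          have h8 : (q : ZMod r) ^ κ = 1 := orderOf_dvd_iff_pow_eq_one.mp (by rw [hoq]; exact h7)
          rw [hk.neg_pow, h8] at h4
          have h9 : ((2 : ℕ) : ZMod r) = 0 := by push_cast; linear_combination -h4
          rw [ZMod.natCast_eq_zero_iff] at h9
          exact hr22 ((Nat.prime_dvd_prime_iff_eq hr Nat.prime_two).mp h9)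

/-- elements with a primitive prime divisor -/
theorem dvd_M0_of_kappa (p : ℕ) [hp : Fact p.Prime] {F : Type*} [Field F] [Fintype F] [CharP F p] {q n r : ℕ} (hF : Fintype.card F = q ^ 2) (hn : 2 ≤ n)
    (hne : Even n) (hr : r.Prime) (hrp : ¬ r ∣ q) (hκ : ∀ _ : Fact r.Prime, orderOf (-(q : ZMod r)) = n) (g : Cfsg.PSU n F q) (hrg : r ∣ orderOf g) :
    orderOf g ∣ M0 q n := by
  haveI : Fact r.Prime := ⟨hr⟩
  have hκ := hκ ⟨hr⟩
  have hq2 : 2 ≤ q := Fld.one_lt_q hF
  haveI : Finite (Cfsg.SU n F q) := inferInstance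
  obtain ⟨k, hk, hqk⟩ := Fld.exists_prime_pow hF p
  have hrp' : ¬ r ∣ p := fun h => hrp (by rw [hqk]; exact h.trans (dvd_pow_self p hk.ne'))
  obtain ⟨X, rfl⟩ := QuotientGroup.mk_surjective g
  obtain ⟨T, w, hw, ho⟩ := Nat.exists_eq_pow_mul_and_not_dvd (orderOf_pos X).ne' p hp.out.ne_one
  set f : Module.End F (Fin n → F) := Matrix.toLin' (Unit.mat X) with hf
  have hpow : ∀ s : ℕ, f ^ s = Matrix.toLin' (Unit.mat X ^ s) := fun s => (map_pow (Matrix.toLinAlgEquiv' (R := F) (n := Fin n)) (Unit.mat X) s).symm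
  have hinj : ∀ s : ℕ, f ^ s = 1 → X ^ s = 1 := by
    intro s hs
    apply Unit.SU_ext
    intro v
    rw [hpow] at hs
    have := LinearMap.congr_fun hs v
    rw [Matrix.toLin'_apply] at this
    rw [mat_pow, this]
    change v = (1 : Matrix (Fin n) (Fin n) F) *ᵥ v
    rw [Matrix.one_mulVec]
  have hXo : Unit.mat X ^ (orderOf X) = 1 := by
    rw [← mat_pow, pow_orderOf_eq_one]; rfl
  have hfo : f ^ (p ^ T * w) = 1 := by
    rw [← ho, hpow, hXo]
    exact Matrix.toLin'_one
  obtain ⟨m, m', hfd, hY, hU⟩ := exists_dec hfo (Nat.Coprime.pow_left T ((Nat.Prime.coprime_iff_not_dvd hp.out).mpr hw))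
  have hiso : ∀ (s : ℕ) (u v : Fin n → F), (Conc.hermFrm hF n).B ((f ^ s) u) ((f ^ s) v) = (Conc.hermFrm hF n).B u v := by
    intro s
    induction s with
    | zero => intro u v; rfl
    | succ s ih => intro u v; rw [pow_succ', Module.End.mul_apply, Module.End.mul_apply, hf, su_end hF X, ← hf, ih]
  have hdet : LinearMap.det f = 1 := by
    rw [hf, LinearMap.det_toLin', X.1.2]
  obtain ⟨Y, hYd⟩ : ∃ Y, Y = f ^ m := ⟨_, rfl⟩
  obtain ⟨U, hUd⟩ : ∃ U, U = f ^ m' := ⟨_, rfl⟩
  rw [← hYd, ← hUd] at hfd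
  rw [← hYd] at hY
  rw [← hUd] at hU
  have hYU : Commute U Y := by rw [hYd, hUd]; exact (Commute.refl f).pow_pow _ _
  have hYi : ∀ u v, (Conc.hermFrm hF n).B (Y u) (Y v) = (Conc.hermFrm hF n).B u v := by rw [hYd]; exact hiso m
  have hUi : ∀ u v, (Conc.hermFrm hF n).B (U u) (U v) = (Conc.hermFrm hF n).B u v := by rw [hUd]; exact hiso m'
  have hdU : LinearMap.det U = 1 := by
    apply eq_one_of_coprime (m := p ^ T) (pow_ne_zero _ hp.out.ne_zero) _ (Nat.Coprime.pow_left _ (coprime_p p))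
    rw [← map_pow, hU, map_one]
  have hdY : LinearMap.det Y = 1 := by
    rw [← hfd, map_mul, hdU, mul_one] at hdet
    exact hdet
  have hw0 : 0 < w := by
    rcases Nat.eq_zero_or_pos w with h | h
    · rw [h] at hw; exact absurd (dvd_zero p) hw
    · exact h
  have hYpos : 0 < orderOf Y := order_pos_of_pow hw0 hY
  have hrY : r ∣ orderOf Y := by
    have h1 : f ^ (p ^ T * orderOf Y) = 1 := by
      rw [← hfd, hYU.symm.mul_pow, pow_mul U, hU, one_pow, mul_one, mul_comm, pow_mul, pow_orderOf_eq_one, one_pow]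
    have h2 := orderOf_dvd_of_pow_eq_one (hinj _ h1)
    have h3 : r ∣ orderOf X := hrg.trans (orderOf_dvd_of_pow_eq_one (by rw [← QuotientGroup.mk_pow, pow_orderOf_eq_one]; rfl))
    rcases hr.dvd_mul.mp (h3.trans h2) with h4 | h4
    · exact absurd (hr.dvd_of_dvd_pow h4) hrp'
    · exact h4
  haveI : Nontrivial (Fin n → F) := Module.nontrivial_of_finrank_pos (R := F) (by rw [Module.finrank_fin_fun]; omega)
  have hA := Conc.hermFrm_nondeg hF n
  have hh : Herm.IsHerm hF (Conc.hermFrm hF n) := fun v => rfl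
  have hno : ∀ e : Module.End F (Fin n → F), Idem Y e → Adj (Conc.hermFrm hF n) e e → e = 0 ∨ e = 1 := by
    intro e he hee
    by_contra hcon
    push Not at hcon
    obtain ⟨he0, he1⟩ := hcon
    have hc : Commute e Y := he.commute (Commute.refl Y)
    have he' := one_sub_idem he
    have hee' := one_sub_adj hee
    have hc' : Commute (1 - e) Y := he'.commute (Commute.refl Y)
    obtain ⟨hsum, hp1, hp2⟩ := finrank_parts he.1 he0 he1
    rw [Module.finrank_fin_fun] at hsum
    rcases order_parts he.1 hc hr hrY hYpos with h | h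
    · have := su_dim p hF hw _ _ (nondeg_range hA he.1 hee) (hh.restrict _) (rho e Y) (iso_range he.1 hc hYi) (rho_pow_one he.1 hc hY) h rfl
      omega
    · have := su_dim p hF hw _ _ (nondeg_range hA he'.1 hee') (hh.restrict _) (rho (1 - e) Y) (iso_range he'.1 hc' hYi) (rho_pow_one he'.1 hc' hY) h rfl
      omega
  have hU1 : U = 1 := by
    rcases su_struct p hF hA hh hYi hY hw hno with ⟨D, k, hD, hk, hDk, hYD, -⟩ | ⟨D, k, e, e', hD, hk, hDk, -, -, -, -, -, -, hYD, -, -, -, hnil⟩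
    · exfalso
      rw [Module.finrank_fin_fun] at hDk
      have h1 := kappa_odd hD (hrY.trans (orderOf_dvd_of_pow_eq_one hYD))
      rw [hκ] at h1
      obtain ⟨a, ha⟩ := h1
      obtain ⟨b, hb⟩ := hne
      obtain ⟨c, hc⟩ := hD
      have : D = 2 * (b * a) := by rw [ha, hb]; ring
      omega
    · rw [Module.finrank_fin_fun] at hDk
      have h1 := kappa_even (by omega) (hrY.trans (orderOf_dvd_of_pow_eq_one hYD))
      rw [hκ] at h1
      have h2 := Nat.le_of_dvd (by omega) h1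
      have h3 : k = 1 := by
        by_contra hne1
        have h4 : D * 2 ≤ D * k := Nat.mul_le_mul_left D (by omega)
        omega
      have h5 := hnil U hUi hYU ⟨T, hU⟩
      rw [h3, pow_one, sub_eq_zero] at h5
      exact h5
  have hfY : f = Y := by rw [← hfd, hU1, mul_one]
  obtain ⟨-, a, ha⟩ := su_pow p hF hA hh hYi hY hw hno hdY (Module.finrank_fin_fun F)
  apply orderOf_dvd_of_pow_eq_one
  rw [su_mk_pow_iff hF hn]
  refine ⟨a, ?_⟩
  rw [← hfY, hpow] at ha
  apply (Matrix.toLinAlgEquiv' (R := F) (n := Fin n)).injective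
  rw [AlgEquiv.commutes]
  exact ha

theorem psu_half {F : Type*} [Field F] [Fintype F] {q : ℕ} (hF : Fintype.card F = q ^ 2) (hodd : Odd q)
    {n : ℕ} (hn : 4 ≤ n) (heven : Even n) :
    (∃ g : Cfsg.PSU n F q, orderOf g = if Even (n / 2) then q ^ (n / 2) + 1 else q ^ (n / 2) - 1) ↔
      padicValNat 2 (q + 1) < padicValNat 2 n := by
  obtain ⟨p, hp⟩ := CharP.exists F
  haveI : Fact p.Prime := ⟨CharP.char_is_prime F p⟩
  have hq2 : 2 ≤ q := Fld.one_lt_q hF
  haveI : Finite (Cfsg.PSU n F q) := inferInstance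
  obtain ⟨m, hm⟩ := heven
  have hnm : n = 2 * m := by omega
  have hn2 : n / 2 = m := by omega
  rw [hn2]
  rw [show padicValNat 2 n = padicValNat 2 (2 * m) by rw [hnm], ← dvd_M0_iff hq2 (by omega), ← hnm]
  constructor
  · rintro ⟨g, hg⟩
    obtain ⟨r, hr, hrq, hr1, hκ⟩ := exists_kappa (q := q) (m := m) (by obtain ⟨j, hj⟩ := hodd; omega) hodd (by omega)
    rw [← hg]
    exact dvd_M0_of_kappa p hF (by omega) ⟨m, hm⟩ hr hrq (by rw [hnm]; exact hκ) g (by rw [hg]; exact hr1)
  · intro h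
    exact mem_range_of_dvd (torus hF (by omega)) h

end Cfsg.Agent.H21.GLu
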