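import Mathlib
import Cfsg.Agent.H21_GLo7
import Cfsg.Agent.H21_GLu9

/-!
# Element orders of linear groups through commutative algebras, XI: large tori
-/

set_option autoImplicit false
open Matrix Polynomial

namespace Cfsg.Agent.H21.GLo

open Cfsg.Agent.H21.GLf

theorem dvd_of_end {F : Type*} [Field F] [Fintype F] {V : Type*} [AddCommGroup V] [Module F V] [Module.Finite F V] {Y : Module.End F V} {N r : ℕ}
    (hN : 0 < N) (hY : Y ^ N = 1) (hr : r.Prime) (h : r ∣ orderOf Y) :
    r ∣ Fintype.card F ∨ ∃ i, 1 ≤ i ∧ i ≤ Module.finrank F V ∧ r ∣ Fintype.card F ^ i - 1 := by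
  classical
  set d := Module.finrank F V with hd
  let b := Module.finBasis F V
  let Φ := LinearMap.toMatrixAlgEquiv b
  have h1 : orderOf (Φ Y) = orderOf Y := orderOf_injective (Φ : Module.End F V →* Matrix (Fin d) (Fin d) F) Φ.injective Y
  have h2 : (Φ Y) ^ N = 1 := by rw [← map_pow, hY, map_one]
  obtain ⟨u, hu⟩ : IsUnit (Φ Y) := IsUnit.of_pow_eq_one h2 hN.ne'
  have h3 : orderOf u = orderOf Y := by rw [← h1, ← hu, orderOf_units]
  haveI : Finite (GL (Fin d) F) := inferInstance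
  have h4 : orderOf u ∣ Nat.card (GL (Fin d) F) := orderOf_dvd_natCard u
  rw [Matrix.card_GL_field, h3] at h4
  obtain ⟨i, -, hi⟩ := (Prime.dvd_finsetProd_iff hr.prime _).mp (h.trans h4)
  have h5 : Fintype.card F ^ d - Fintype.card F ^ (i : ℕ) = Fintype.card F ^ (i : ℕ) * (Fintype.card F ^ (d - i) - 1) := by
    rw [Nat.mul_sub, ← pow_add, mul_one]
    congr 2
    have := i.2
    omega
  rw [h5, hr.dvd_mul] at hi
  rcases hi with hi | hi
  · left; exact hr.dvd_of_dvd_pow hi
  · right; exact ⟨d - i, by have := i.2; omega, Nat.sub_le _ _, hi⟩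

theorem psl_half {F : Type*} [Field F] [Fintype F] {q : ℕ} (hF : Fintype.card F = q) (hodd : Odd q)
    {n : ℕ} (hn : 4 ≤ n) (heven : Even n) :
    (∃ g : Matrix.ProjectiveSpecialLinearGroup (Fin n) F, orderOf g = q ^ (n / 2) + 1) ↔
      padicValNat 2 (q - 1) < padicValNat 2 n := by
  obtain ⟨p, hp⟩ := CharP.exists F
  haveI : Fact p.Prime := ⟨CharP.char_is_prime F p⟩
  haveI : Finite (SpecialLinearGroup (Fin n) F) := inferInstance
  have hq1 : 1 < q := by rw [← hF]; exact Fintype.one_lt_card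
  have hq3 : 3 ≤ q := by obtain ⟨j, hj⟩ := hodd; omega
  obtain ⟨m, hm⟩ := heven
  have hnm : n = 2 * m := by omega
  have hn2 : n / 2 = m := by omega
  rw [hn2]
  -- numerics
  have hS : (∑ i ∈ Finset.range n, q ^ i) = (q ^ m + 1) * ∑ i ∈ Finset.range m, q ^ i := by
    rw [hm, Finset.sum_range_add, add_mul, one_mul, add_comm, Finset.mul_sum]
    congr 1
    apply Finset.sum_congr rfl
    intro i _
    rw [pow_add]
  have hg0 : 0 < Nat.gcd n (q - 1) := Nat.gcd_pos_of_pos_left _ (by omega)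
  have key : (q ^ m + 1) ∣ (∑ i ∈ Finset.range n, q ^ i) / Nat.gcd n (q - 1) ↔ padicValNat 2 (q - 1) < padicValNat 2 n := by
    rw [show padicValNat 2 n = padicValNat 2 (2 * m) by rw [hnm], ← GLu.gcd_two_dvd (by omega) (by omega), hS, ← hnm]
    have hgS : Nat.gcd n (q - 1) ∣ (q ^ m + 1) * ∑ i ∈ Finset.range m, q ^ i := by
      rw [← hS, ← gcd_geom q n (by omega)]
      exact Nat.gcd_dvd_left _ _
    have h1 : Nat.gcd n (q - 1) ∣ Nat.gcd m (q - 1) ↔ Nat.gcd n (q - 1) ∣ ∑ i ∈ Finset.range m, q ^ i := by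
      rw [← gcd_geom q m (by omega)]
      exact ⟨fun h => h.trans (Nat.gcd_dvd_left _ _), fun h => Nat.dvd_gcd h (Nat.gcd_dvd_right _ _)⟩
    rw [h1]
    obtain ⟨t, ht⟩ := hgS
    rw [ht, Nat.mul_div_cancel_left _ hg0]
    constructor
    · rintro ⟨s, hs⟩
      refine ⟨s, ?_⟩
      apply Nat.eq_of_mul_eq_mul_left (show 0 < q ^ m + 1 by omega)
      rw [ht, hs]; ring
    · rintro ⟨s, hs⟩
      refine ⟨s, ?_⟩
      apply Nat.eq_of_mul_eq_mul_left hg0
      rw [← ht, hs]; ring
  rw [← key]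
  constructor
  · rintro ⟨g, hg⟩
    obtain ⟨r, hr, hr1, hr2⟩ := Cfsg.Agent.S2904.result q n (by omega) (by omega) (by rintro ⟨rfl, -⟩; omega) (by rintro ⟨h, -⟩; omega)
    have hrq : ¬ r ∣ q := by
      intro h2
      have h3 : r ∣ q ^ n := h2.trans (dvd_pow_self q (by omega))
      have h4 : q ^ n - (q ^ n - 1) = 1 := by
        have := Nat.one_le_pow n q (by omega)
        omega
      have h5 := Nat.dvd_sub h3 hr1
      rw [h4] at h5
      exact hr.one_lt.ne' (Nat.dvd_one.mp h5)
    have hr3 : r ∣ q ^ m + 1 := by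
      have h3 : q ^ n - 1 = (q ^ m - 1) * (q ^ m + 1) := by
        obtain ⟨c, hc⟩ : ∃ c, q ^ m = c + 1 := ⟨q ^ m - 1, by have := Nat.one_le_pow m q (by omega); omega⟩
        rw [hnm, mul_comm 2 m, pow_mul, hc]
        have : (c + 1) ^ 2 = c * (c + 2) + 1 := by ring
        rw [this, Nat.add_sub_cancel, Nat.add_sub_cancel]
      rw [h3] at hr1
      exact (hr.dvd_mul.mp hr1).resolve_left (hr2 m (by omega) (by omega))
    obtain ⟨X, rfl⟩ := QuotientGroup.mk_surjective g
    have hrX : r ∣ orderOf X := (hr3.trans (Dvd.intro 1 (by rw [← hg, mul_one]))).trans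
      (orderOf_dvd_of_pow_eq_one (by rw [← QuotientGroup.mk_pow, pow_orderOf_eq_one]; rfl))
    obtain ⟨T, hT⟩ := local_case p (n := n) (by omega) X (by
      intro e he hc
      by_contra hcon
      push Not at hcon
      obtain ⟨he0, he1⟩ := hcon
      let Ψ := (Matrix.toLinAlgEquiv' (R := F) (n := Fin n))
      obtain ⟨f, hf⟩ : ∃ f, f = Ψ (X : Matrix (Fin n) (Fin n) F) := ⟨_, rfl⟩
      obtain ⟨E, hE⟩ : ∃ E, E = Ψ e := ⟨_, rfl⟩
      have hEE : E * E = E := by rw [hE, ← map_mul, he]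
      have hcE : Commute E f := by rw [hE, hf]; exact hc.map Ψ
      have hE0 : E ≠ 0 := by rw [hE]; intro h; exact he0 (Ψ.injective (h.trans (map_zero Ψ).symm))
      have hE1 : E ≠ 1 := by rw [hE]; intro h; exact he1 (Ψ.injective (h.trans (map_one Ψ).symm))
      have hfo : orderOf f = orderOf X := by
        rw [hf]
        have h1 : orderOf (Ψ (X : Matrix (Fin n) (Fin n) F)) = orderOf (X : Matrix (Fin n) (Fin n) F) :=
          orderOf_injective (Ψ : Matrix (Fin n) (Fin n) F →* Module.End F (Fin n → F)) Ψ.injective _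
        rw [h1]
        apply order_of_pow_iff
        intro s
        rw [← Matrix.SpecialLinearGroup.coe_pow]
        constructor
        · intro h; exact Subtype.ext h
        · intro h; rw [h]; rfl
      have hfpos : 0 < orderOf f := by rw [hfo]; exact orderOf_pos X
      have hEE' : (1 - E) * (1 - E) = 1 - E := by
        rw [sub_mul, mul_sub, mul_sub, one_mul, one_mul, mul_one, hEE]; abel
      have hcE' : Commute (1 - E) f := (Commute.one_left f).sub_left hcE
      obtain ⟨hsum, hp1, hp2⟩ := finrank_parts hEE hE0 hE1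
      rw [Module.finrank_fin_fun] at hsum
      have hfin : ∀ i, 1 ≤ i → i < n → ¬ r ∣ Fintype.card F ^ i - 1 := by
        intro i hi1 hi2
        rw [hF]; exact hr2 i (by omega) hi2
      rcases order_parts hEE hcE hr (by rw [hfo]; exact hrX) hfpos with h | h
      · rcases dvd_of_end hfpos (rho_pow_one hEE hcE (pow_orderOf_eq_one f)) hr h with h1 | ⟨i, hi1, hi2, hi3⟩
        · rw [hF] at h1; exact hrq h1
        · exact hfin i hi1 (by omega) hi3
      · rcases dvd_of_end hfpos (rho_pow_one hEE' hcE' (pow_orderOf_eq_one f)) hr h with h1 | ⟨i, hi1, hi2, hi3⟩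
        · rw [hF] at h1; exact hrq h1
        · exact hfin i hi1 (by omega) hi3)
    rw [hg, hF] at hT
    refine Nat.Coprime.dvd_of_dvd_mul_left (Nat.Coprime.pow_right T ?_) hT
    obtain ⟨a, ha⟩ := FiniteField.card F p
    rw [Nat.coprime_comm, Nat.Prime.coprime_iff_not_dvd ha.1]
    intro h
    have h2 : p ∣ q ^ m := by
      rw [← hF, ha.2, ← pow_mul]
      exact dvd_pow_self p (Nat.mul_ne_zero a.ne_zero (by omega))
    have h3 := (Nat.dvd_add_right h2).mp h
    exact ha.1.one_lt.ne' (Nat.dvd_one.mp h3)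
  · intro h
    exact mem_range_of_dvd (by rw [← hF]; exact singer (by omega)) h

end Cfsg.Agent.H21.GLo
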