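import Mathlib
import Cfsg.Agent.H21_GLf7
import Cfsg.Agent.H5_HermBasis
import Cfsg.Agent.H5_Unit

/-!
# Unitary groups, I: realisation in `PSU`
-/

set_option autoImplicit false
open Polynomial Matrix

namespace Cfsg.Agent.H21.GLu

open Cfsg.Agent.H5 Cfsg.Agent.H21.GLo Cfsg.Agent.H21.GLf

universe u v w

theorem su_mk_pow_iff {F : Type*} [Field F] [Fintype F] {q n : ℕ} (hF : Fintype.card F = q ^ 2) (hn : 2 ≤ n) (X : Cfsg.SU n F q) (s : ℕ) :
    (QuotientGroup.mk X : Cfsg.PSU n F q) ^ s = 1 ↔ ∃ c : F, (Unit.mat X) ^ s = algebraMap F _ c := by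
  rw [← QuotientGroup.mk_pow, QuotientGroup.eq_one_iff]
  have hmat : Unit.mat (X ^ s) = (Unit.mat X) ^ s := rfl
  constructor
  · intro h
    obtain ⟨c, hc⟩ := Unit.center_scalar hF hn _ h
    exact ⟨c, by rw [← hmat, hc, Algebra.algebraMap_eq_smul_one]⟩
  · rintro ⟨c, hc⟩
    rw [Subgroup.mem_center_iff]
    intro T
    apply Subtype.ext
    apply Subtype.ext
    change Unit.mat T * Unit.mat (X ^ s) = Unit.mat (X ^ s) * Unit.mat T
    rw [hmat, hc]
    exact (Algebra.commutes c _).symm

/-- an isometry of a non-degenerate hermitian space of dimension `n` -/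
structure UBlk (F : Type u) [Field F] (σ : F →+* F) (n : ℕ) where
  V : Type v
  grp : AddCommGroup V
  mod : Module F V
  fin : Module.Finite F V
  h : V → V → F
  add : ∀ x y z, h x (y + z) = h x y + h x z
  smul : ∀ (c : F) x y, h x (c • y) = c * h x y
  symm : ∀ x y, h y x = σ (h x y)
  nd : ∀ x, (∀ y, h x y = 0) → x = 0
  f : Module.End F V
  iso : ∀ u v, h (f u) (f v) = h u v
  dim : Module.finrank F V = n

attribute [instance] UBlk.grp UBlk.mod UBlk.fin

namespace UBlk

variable {F : Type u} [Field F] {σ : F →+* F}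

/-- orthogonal sums -/
noncomputable def sum {m n : ℕ} (b : UBlk.{u, v} F σ m) (c : UBlk.{u, w} F σ n) : UBlk.{u, max v w} F σ (m + n) where
  V := b.V × c.V
  grp := inferInstance
  mod := inferInstance
  fin := inferInstance
  h := fun x y => b.h x.1 y.1 + c.h x.2 y.2
  add := by
    intro x y z
    rw [Prod.fst_add, Prod.snd_add, b.add, c.add]; ring
  smul := by
    intro a x y
    rw [Prod.smul_fst, Prod.smul_snd, b.smul, c.smul]; ring
  symm := by
    intro x y
    rw [b.symm, c.symm, map_add]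
  nd := by
    intro x hx
    have hz : ∀ y, c.h y 0 = 0 := by
      intro y
      have := c.smul 0 y 0
      rwa [zero_smul, zero_mul] at this
    have hz' : ∀ y, b.h y 0 = 0 := by
      intro y
      have := b.smul 0 y 0
      rwa [zero_smul, zero_mul] at this
    apply Prod.ext
    · apply b.nd
      intro y
      have := hx (y, 0)
      rwa [hz, add_zero] at this
    · apply c.nd
      intro z
      have := hx (0, z)
      rwa [hz', zero_add] at this
  f := b.f.prodMap c.f
  iso := by
    intro u v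
    change b.h (b.f u.1) (b.f v.1) + c.h (c.f u.2) (c.f v.2) = b.h u.1 v.1 + c.h u.2 v.2
    rw [b.iso, c.iso]
  dim := by rw [Module.finrank_prod, b.dim, c.dim]

theorem sum_pow {m n : ℕ} (b : UBlk.{u, v} F σ m) (c : UBlk.{u, w} F σ n) (s : ℕ) : (b.sum c).f ^ s = (b.f ^ s).prodMap (c.f ^ s) := by
  induction s with
  | zero => rfl
  | succ s ih => rw [pow_succ, ih, pow_succ, pow_succ]; rfl

theorem sum_scalar {m n : ℕ} (b : UBlk.{u, v} F σ m) (c : UBlk.{u, w} F σ n) {s : ℕ} {a : F} (h : (b.sum c).f ^ s = algebraMap F _ a) :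
    b.f ^ s = algebraMap F _ a ∧ c.f ^ s = algebraMap F _ a := by
  rw [sum_pow] at h
  constructor
  · apply LinearMap.ext
    intro x
    exact congrArg Prod.fst (LinearMap.congr_fun h (x, 0))
  · apply LinearMap.ext
    intro x
    exact congrArg Prod.snd (LinearMap.congr_fun h (0, x))

theorem sum_det {m n : ℕ} (b : UBlk.{u, v} F σ m) (c : UBlk.{u, w} F σ n) :
    LinearMap.det (b.sum c).f = LinearMap.det b.f * LinearMap.det c.f := LinearMap.det_prodMap b.f c.f

theorem smul_left {m : ℕ} (b : UBlk.{u, v} F σ m) (c : F) (x y : b.V) : b.h (c • x) y = σ c * b.h x y := by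
  rw [b.symm y (c • x), b.smul, map_mul, ← b.symm]

theorem add_left {m : ℕ} (b : UBlk.{u, v} F σ m) (x y z : b.V) : b.h (x + y) z = b.h x z + b.h y z := by
  rw [b.symm z (x + y), b.add, map_add, ← b.symm, ← b.symm]

/-- multiplication by a scalar of norm one -/
noncomputable def scale {m : ℕ} (b : UBlk.{u, v} F σ m) (a : F) (ha : σ a * a = 1) : UBlk.{u, v} F σ m where
  V := b.V
  grp := b.grp
  mod := b.mod
  fin := b.fin
  h := b.h
  add := b.add
  smul := b.smul
  symm := b.symm
  nd := b.nd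
  f := a • b.f
  iso := by
    intro u v
    rw [LinearMap.smul_apply, LinearMap.smul_apply, b.smul, b.smul_left, b.iso]
    linear_combination (b.h u v) * ha
  dim := b.dim

theorem scale_pow {m : ℕ} (b : UBlk.{u, v} F σ m) (a : F) (ha : σ a * a = 1) (s : ℕ) : (b.scale a ha).f ^ s = a ^ s • b.f ^ s :=
  smul_pow a b.f s

theorem scale_det {m : ℕ} (b : UBlk.{u, v} F σ m) (a : F) (ha : σ a * a = 1) : LinearMap.det (b.scale a ha).f = a ^ m * LinearMap.det b.f := by
  change LinearMap.det (a • b.f) = _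
  rw [LinearMap.det_smul, b.dim]

/-- the semilinear form -/
noncomputable def B {m : ℕ} (b : UBlk.{u, v} F σ m) : b.V →ₛₗ[σ] b.V →ₗ[F] F :=
  LinearMap.mk₂'ₛₗ σ (RingHom.id F) b.h b.add_left (fun c x y => by rw [b.smul_left, smul_eq_mul]) b.add
    (fun c x y => by rw [b.smul, smul_eq_mul, RingHom.id_apply])

theorem B_apply {m : ℕ} (b : UBlk.{u, v} F σ m) (x y : b.V) : b.B x y = b.h x y := rfl

/-- the line -/
noncomputable def line (F : Type u) [Field F] (σ : F →+* F) (hσ : ∀ a, σ (σ a) = a) (a : F) (ha : σ a * a = 1) : UBlk.{u, u} F σ 1 where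
  V := F
  grp := inferInstance
  mod := inferInstance
  fin := inferInstance
  h := fun x y => σ x * y
  add := fun x y z => mul_add _ _ _
  smul := fun c x y => by rw [smul_eq_mul]; ring
  symm := fun x y => by rw [map_mul, hσ, mul_comm]
  nd := fun x hx => by
    have h1 := hx 1
    rw [mul_one] at h1
    rw [← hσ x, h1, map_zero]
  f := LinearMap.mulLeft F a
  iso := fun u v => by
    rw [LinearMap.mulLeft_apply, LinearMap.mulLeft_apply, map_mul]
    linear_combination (σ u * v) * ha
  dim := Module.finrank_self F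

theorem line_pow (hσ : ∀ a, σ (σ a) = a) (a : F) (ha : σ a * a = 1) (s : ℕ) : (line F σ hσ a ha).f ^ s = algebraMap F _ (a ^ s) := by
  change (LinearMap.mulLeft F a) ^ s = _
  rw [LinearMap.pow_mulLeft]
  apply LinearMap.ext
  intro x
  rfl

theorem line_det (hσ : ∀ a, σ (σ a) = a) (a : F) (ha : σ a * a = 1) : LinearMap.det (line F σ hσ a ha).f = a := by
  change LinearMap.det (LinearMap.mulLeft F a) = a
  have : LinearMap.mulLeft F a = a • (LinearMap.id : F →ₗ[F] F) := by
    apply LinearMap.ext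
    intro x
    rfl
  rw [this, LinearMap.det_smul, LinearMap.det_id, Module.finrank_self, pow_one, mul_one]

variable [Fintype F] {q : ℕ}

theorem exists_psu (hF : Fintype.card F = q ^ 2) {n : ℕ} (hn : 2 ≤ n) (b : UBlk.{u, v} F (Fld.frob hF) n) (hdet : LinearMap.det b.f = 1) :
    ∃ g : Cfsg.PSU n F q, ∀ s : ℕ, g ^ s = 1 ↔ ∃ c : F, b.f ^ s = algebraMap F _ c := by
  classical
  have hS : b.B.IsSymm := ⟨fun x y => (b.symm x y).symm⟩
  let A := Frm.ofHerm (Fld.frob_ne_id hF) (Fld.frob_frob hF) b.B hS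
  obtain ⟨e, he⟩ := Herm.orthonormal hF n A (fun v => rfl) (fun x hx => b.nd x hx) b.dim
  have hform : ∀ u v : Fin n → F, Cfsg.hermForm n F q u v = b.h (e.equivFun.symm v) (e.equivFun.symm u) := by
    intro u v
    have h1 : b.h (e.equivFun.symm v) (e.equivFun.symm u) = b.B (∑ i, v i • e i) (∑ j, u j • e j) := by
      rw [B_apply, e.equivFun_symm_apply, e.equivFun_symm_apply]
    rw [h1, LinearMap.map_sum₂, Cfsg.hermForm]
    apply Finset.sum_congr rfl
    intro i _
    rw [map_sum, Finset.sum_eq_single i]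
    · rw [LinearMap.map_smulₛₗ₂, map_smul, smul_eq_mul, smul_eq_mul, Fld.frob_apply]
      have h2 : b.B (e i) (e i) = 1 := by
        have := he i i
        rwa [if_pos rfl] at this
      rw [h2]; ring
    · intro j _ hj
      rw [LinearMap.map_smulₛₗ₂, map_smul]
      have h2 : b.B (e i) (e j) = 0 := by
        have := he i j
        rwa [if_neg (Ne.symm hj)] at this
      rw [h2, smul_zero, smul_zero]
    · intro h; exact absurd (Finset.mem_univ _) h
  set M : Matrix (Fin n) (Fin n) F := LinearMap.toMatrix e e b.f with hM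
  have hMd : M.det = 1 := by rw [hM, LinearMap.det_toMatrix, hdet]
  have hMv : ∀ u, e.equivFun.symm (M *ᵥ u) = b.f (e.equivFun.symm u) := by
    intro u
    apply e.equivFun.injective
    rw [LinearEquiv.apply_symm_apply, hM]
    have := LinearMap.toMatrix_mulVec_repr e e b.f (e.equivFun.symm u)
    have h3 : (e.repr (e.equivFun.symm u) : Fin n → F) = u := by
      have := e.equivFun.apply_symm_apply u
      rwa [e.equivFun_apply] at this
    rw [h3] at this
    rw [this, e.equivFun_apply]
  obtain ⟨X, hX⟩ : ∃ X : Cfsg.SU n F q, Unit.mat X = M := ⟨⟨⟨M, hMd⟩, fun u v => by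
    change Cfsg.hermForm n F q (M *ᵥ u) (M *ᵥ v) = _
    rw [hform, hform, hMv, hMv, b.iso]⟩, rfl⟩
  refine ⟨QuotientGroup.mk X, fun s => ?_⟩
  rw [su_mk_pow_iff hF hn, hX, hM]
  have hpow : LinearMap.toMatrix e e b.f ^ s = LinearMap.toMatrix e e (b.f ^ s) := (map_pow (LinearMap.toMatrixAlgEquiv e) b.f s).symm
  rw [hpow]
  constructor
  · rintro ⟨c, hc⟩
    refine ⟨c, (LinearMap.toMatrixAlgEquiv e).injective ?_⟩
    rw [AlgEquiv.commutes]
    exact hc
  · rintro ⟨c, hc⟩
    refine ⟨c, ?_⟩
    rw [hc]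
    exact (LinearMap.toMatrixAlgEquiv e).commutes c

end UBlk

end Cfsg.Agent.H21.GLu
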