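import Mathlib
import Cfsg.Agent.H21_GLu1
import Cfsg.Agent.H21_GLo7

/-!
# Unitary groups, II: tori
-/

set_option autoImplicit false
open Polynomial Matrix

namespace Cfsg.Agent.H21.GLu

open Cfsg.Agent.H5 Cfsg.Agent.H21.GLo Cfsg.Agent.H21.GLf

universe u v w

/-! ### numerics -/

/-- `(q^n - (-1)^n) / (q + 1)` -/
def Sn (q n : ℕ) : ℕ := (if Odd n then q ^ n + 1 else q ^ n - 1) / (q + 1)

/-- the order of the largest torus without fixed points, modulo scalars -/
def M0 (q n : ℕ) : ℕ := Sn q n / Nat.gcd n (q + 1)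

theorem Sn_int (q n : ℕ) (hq : 1 ≤ q) : (Sn q n : ℤ) = (-1) ^ (n + 1) * ∑ i ∈ Finset.range n, (-(q : ℤ)) ^ i := by
  have h1 : (∑ i ∈ Finset.range n, (-(q : ℤ)) ^ i) * ((q : ℤ) + 1) = 1 - (-(q : ℤ)) ^ n := by
    have := geom_sum_mul (-(q : ℤ)) n
    linear_combination -this
  have h2 : (0 : ℤ) < (q : ℤ) + 1 := by positivity
  rcases Nat.even_or_odd n with hn | hn
  · have hn' : ¬ Odd n := Nat.not_odd_iff_even.mpr hn
    have h3 : ((-1 : ℤ)) ^ (n + 1) = -1 := Odd.neg_one_pow hn.add_one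
    rw [hn.neg_pow] at h1
    rw [h3, Sn, if_neg hn']
    have h4 : 1 ≤ q ^ n := Nat.one_le_pow _ _ hq
    push_cast [h4]
    apply Int.ediv_eq_of_eq_mul_left h2.ne'
    linear_combination h1
  · have h3 : ((-1 : ℤ)) ^ (n + 1) = 1 := Even.neg_one_pow hn.add_one
    rw [hn.neg_pow] at h1
    rw [h3, Sn, if_pos hn]
    push_cast
    apply Int.ediv_eq_of_eq_mul_left h2.ne'
    linear_combination -h1

theorem Sn_mul_int (q n : ℕ) (hq : 1 ≤ q) : (Sn q n : ℤ) * ((q : ℤ) + 1) = (q : ℤ) ^ n - (-1) ^ n := by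
  have h1 : (∑ i ∈ Finset.range n, (-(q : ℤ)) ^ i) * ((q : ℤ) + 1) = 1 - (-(q : ℤ)) ^ n := by
    have := geom_sum_mul (-(q : ℤ)) n
    linear_combination -this
  rw [Sn_int q n hq]
  have h2 : (-(q : ℤ)) ^ n = (-1) ^ n * q ^ n := by rw [← mul_pow]; ring
  rw [h2] at h1
  have h3 : ((-1 : ℤ) ^ n) * (-1) ^ n = 1 := by rw [← mul_pow]; norm_num
  rw [pow_succ]
  linear_combination (-(-1 : ℤ) ^ n) * h1 + (q : ℤ) ^ n * h3

theorem Sn_mul_odd {q n : ℕ} (hq : 1 ≤ q) (hn : Odd n) : Sn q n * (q + 1) = q ^ n + 1 := by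
  have := Sn_mul_int q n hq
  rw [hn.neg_one_pow] at this
  have h : ((Sn q n * (q + 1) : ℕ) : ℤ) = ((q ^ n + 1 : ℕ) : ℤ) := by push_cast; linear_combination this
  exact_mod_cast h

theorem Sn_mul_even {q n : ℕ} (hq : 1 ≤ q) (hn : Even n) : Sn q n * (q + 1) = q ^ n - 1 := by
  have := Sn_mul_int q n hq
  rw [hn.neg_one_pow] at this
  have h4 : 1 ≤ q ^ n := Nat.one_le_pow _ _ hq
  have h : ((Sn q n * (q + 1) : ℕ) : ℤ) = ((q ^ n - 1 : ℕ) : ℤ) := by push_cast [h4]; linear_combination this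
  exact_mod_cast h

theorem gcd_Sn (q n : ℕ) (hq : 1 ≤ q) : Nat.gcd (Sn q n) (q + 1) = Nat.gcd n (q + 1) := by
  have h1 : (-(q : ℤ)) ≡ 1 [ZMOD ((q + 1 : ℕ) : ℤ)] := by
    rw [Int.modEq_iff_dvd]
    exact ⟨1, by push_cast; ring⟩
  have h2 : (∑ i ∈ Finset.range n, (-(q : ℤ)) ^ i) ≡ n [ZMOD ((q + 1 : ℕ) : ℤ)] := by
    induction n with
    | zero => rfl
    | succ n ih =>
      rw [Finset.sum_range_succ]
      push_cast
      apply ih.add
      have := h1.pow n
      rwa [one_pow] at this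
  have h3 : Int.gcd (Sn q n : ℤ) ((q + 1 : ℕ) : ℤ) = Int.gcd (n : ℤ) ((q + 1 : ℕ) : ℤ) := by
    have h4 : Int.gcd (∑ i ∈ Finset.range n, (-(q : ℤ)) ^ i) ((q + 1 : ℕ) : ℤ) = Int.gcd (n : ℤ) ((q + 1 : ℕ) : ℤ) := by
      rw [← Int.gcd_emod, h2, Int.gcd_emod]
    rw [Sn_int q n hq, ← h4]
    rcases neg_one_pow_eq_or ℤ (n + 1) with h | h
    · rw [h, one_mul]
    · rw [h, neg_one_mul, Int.neg_gcd]
  exact_mod_cast h3

theorem Sn_pos {q n : ℕ} (hq : 2 ≤ q) (hn : n ≠ 0) : 0 < Sn q n := by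
  rcases Nat.eq_zero_or_pos (Sn q n) with h | h
  · exfalso
    have h1 := Sn_mul_int q n (by omega)
    rw [h] at h1
    have h2 : (1 : ℤ) < (q : ℤ) ^ n := by
      have := Nat.one_lt_pow hn (show 1 < q by omega)
      exact_mod_cast this
    rw [Nat.cast_zero, zero_mul] at h1
    rcases neg_one_pow_eq_or ℤ n with h3 | h3 <;> rw [h3] at h1 <;> linarith
  · exact h

/-! ### blocks from extension fields -/

section blocks

variable {F : Type u} [Field F] [Fintype F] {σ : F →+* F} {E : Type v} [Field E] [Finite E] [Algebra F E] [Module.Finite F E]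

omit [Module.Finite F E] in
theorem trace_map (τ : E →+* E) (hτ : ∀ c, τ (algebraMap F E c) = algebraMap F E (σ c)) (a : E) :
    Algebra.trace F E (τ a) = σ (Algebra.trace F E a) := by
  apply (algebraMap F E).injective
  rw [← hτ, FiniteField.algebraMap_trace_eq_sum_pow, FiniteField.algebraMap_trace_eq_sum_pow, map_sum]
  apply Finset.sum_congr rfl
  intro i _
  rw [map_pow]

omit [Fintype F] in
theorem trace_nd {a : E} (ha : ∀ b : E, Algebra.trace F E (a * b) = 0) : a = 0 := by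
  haveI : Algebra.IsSeparable F E := by
    haveI : Finite F := Finite.of_injective (algebraMap F E) (algebraMap F E).injective
    infer_instance
  exact (traceForm_nondegenerate F E).1 a (fun b => by rw [Algebra.traceForm_apply]; exact ha b)

/-- the block of an extension field with an involution -/
noncomputable def invBlk (τ : E →+* E) (hττ : ∀ a, τ (τ a) = a) (hτ : ∀ c, τ (algebraMap F E c) = algebraMap F E (σ c))
    (y : E) (hy : τ y * y = 1) : UBlk.{u, v} F σ (Module.finrank F E) where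
  V := E
  grp := inferInstance
  mod := inferInstance
  fin := inferInstance
  h := fun a b => Algebra.trace F E (τ a * b)
  add := fun x y z => by rw [mul_add, map_add]
  smul := fun c x y => by rw [mul_smul_comm, map_smul, smul_eq_mul]
  symm := fun x y => by rw [← trace_map τ hτ, map_mul τ, hττ, mul_comm]
  nd := fun x hx => by
    have := trace_nd hx
    rw [← hττ x, this, map_zero]
  f := LinearMap.mulLeft F y
  iso := fun u v => by
    rw [LinearMap.mulLeft_apply, LinearMap.mulLeft_apply, map_mul τ]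
    congr 1
    linear_combination (τ u * v) * hy
  dim := rfl

/-- the block of a pair -/
noncomputable def pairBlk (hσ : ∀ a, σ (σ a) = a) (τ : E →+* E) (hτ : ∀ c, τ (algebraMap F E c) = algebraMap F E (σ c))
    (y z : E) (hy : τ y * z = 1) : UBlk.{u, v} F σ (Module.finrank F E + Module.finrank F E) where
  V := E × E
  grp := inferInstance
  mod := inferInstance
  fin := inferInstance
  h := fun a b => Algebra.trace F E (τ a.1 * b.2) + σ (Algebra.trace F E (τ b.1 * a.2))
  add := fun x y z => by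
    rw [Prod.snd_add, mul_add, map_add, Prod.fst_add, map_add, add_mul, map_add, map_add]; ring
  smul := fun c x y => by
    have h1 : τ (c • y.1) * x.2 = (σ c) • (τ y.1 * x.2) := by
      rw [Algebra.smul_def, map_mul τ, hτ, Algebra.smul_def, mul_assoc]
    rw [Prod.smul_snd, Prod.smul_fst, h1, mul_smul_comm, map_smul, smul_eq_mul, map_smul, smul_eq_mul, map_mul σ, hσ]; ring
  symm := fun x y => by rw [map_add, hσ]; ring
  nd := fun x hx => by
    have h1 : τ x.1 = 0 := by
      apply trace_nd (F := F)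
      intro b
      have := hx (0, b)
      simpa using this
    have h2 : x.2 = 0 := by
      apply trace_nd (F := F)
      intro b
      have hsurj : Function.Surjective τ := Finite.injective_iff_surjective.mp τ.injective
      obtain ⟨b', rfl⟩ := hsurj b
      have h3 := hx (b', 0)
      simp only [mul_zero, map_zero, zero_add] at h3
      have h4 := congrArg σ h3
      rw [hσ, map_zero, mul_comm] at h4
      exact h4
    exact Prod.ext ((map_eq_zero_iff τ τ.injective).mp h1) h2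
  f := (LinearMap.mulLeft F y).prodMap (LinearMap.mulLeft F z)
  iso := fun u v => by
    have h1 : τ (y * u.1) * (z * v.2) = τ u.1 * v.2 := by
      rw [map_mul τ]; linear_combination (τ u.1 * v.2) * hy
    have h2 : τ (y * v.1) * (z * u.2) = τ v.1 * u.2 := by
      rw [map_mul τ]; linear_combination (τ v.1 * u.2) * hy
    change Algebra.trace F E (τ (y * u.1) * (z * v.2)) + σ (Algebra.trace F E (τ (y * v.1) * (z * u.2))) = _
    rw [h1, h2]
  dim := Module.finrank_prod

omit [Finite E] [Module.Finite F E] in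
omit [Fintype F] in
theorem mulLeft_det (y : E) : LinearMap.det (LinearMap.mulLeft F y) = Algebra.norm F y := rfl

theorem invBlk_det (τ : E →+* E) (hττ : ∀ a, τ (τ a) = a) (hτ : ∀ c, τ (algebraMap F E c) = algebraMap F E (σ c))
    (y : E) (hy : τ y * y = 1) : LinearMap.det (invBlk τ hττ hτ y hy).f = Algebra.norm F y := rfl

theorem pairBlk_det (hσ : ∀ a, σ (σ a) = a) (τ : E →+* E) (hτ : ∀ c, τ (algebraMap F E c) = algebraMap F E (σ c))
    (y z : E) (hy : τ y * z = 1) : LinearMap.det (pairBlk hσ τ hτ y z hy).f = Algebra.norm F y * Algebra.norm F z :=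
  LinearMap.det_prodMap _ _

theorem invBlk_pow (τ : E →+* E) (hττ : ∀ a, τ (τ a) = a) (hτ : ∀ c, τ (algebraMap F E c) = algebraMap F E (σ c))
    (y : E) (hy : τ y * y = 1) (s : ℕ) {c : F} (h : (invBlk τ hττ hτ y hy).f ^ s = algebraMap F _ c) : y ^ s = algebraMap F E c := by
  have h1 : (LinearMap.mulLeft F y) ^ s = algebraMap F (Module.End F E) c := h
  rw [LinearMap.pow_mulLeft] at h1
  have h2 := LinearMap.congr_fun h1 1
  rw [LinearMap.mulLeft_apply, mul_one, Module.algebraMap_end_apply, Algebra.smul_def, mul_one] at h2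
  exact h2

theorem pairBlk_pow (hσ : ∀ a, σ (σ a) = a) (τ : E →+* E) (hτ : ∀ c, τ (algebraMap F E c) = algebraMap F E (σ c))
    (y z : E) (hy : τ y * z = 1) (s : ℕ) {c : F} (h : (pairBlk hσ τ hτ y z hy).f ^ s = algebraMap F _ c) :
    y ^ s = algebraMap F E c ∧ z ^ s = algebraMap F E c := by
  have hpow : ∀ s : ℕ, ((LinearMap.mulLeft F y).prodMap (LinearMap.mulLeft F z)) ^ s = (LinearMap.mulLeft F (y ^ s)).prodMap (LinearMap.mulLeft F (z ^ s)) := by
    intro s
    induction s with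
    | zero => rw [pow_zero, pow_zero, pow_zero, LinearMap.mulLeft_one]; rfl
    | succ s ih =>
      rw [pow_succ, ih, pow_succ, pow_succ, LinearMap.mulLeft_mul, LinearMap.mulLeft_mul]
      rfl
  have h1 : ((LinearMap.mulLeft F y).prodMap (LinearMap.mulLeft F z)) ^ s = algebraMap F (Module.End F (E × E)) c := h
  rw [hpow] at h1
  have h2 := LinearMap.congr_fun h1 (1, 1)
  rw [Module.algebraMap_end_apply] at h2
  have h3 : y ^ s * 1 = c • (1 : E) := congrArg Prod.fst h2
  have h4 : z ^ s * 1 = c • (1 : E) := congrArg Prod.snd h2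
  rw [mul_one, Algebra.smul_def, mul_one] at h3 h4
  exact ⟨h3, h4⟩

end blocks

/-! ### the torus slot -/

section slot

variable {F : Type u} [Field F] [Fintype F] {q : ℕ}

theorem M0_dvd {n : ℕ} (hq : 2 ≤ q) (hn : n ≠ 0) {o : ℕ} (h : Sn q n ∣ o * (q + 1)) : M0 q n ∣ o := by
  have hδ : 0 < Nat.gcd (Sn q n) (q + 1) := Nat.gcd_pos_of_pos_left _ (Sn_pos hq hn)
  have hcop := Nat.coprime_div_gcd_div_gcd hδ
  rw [M0, ← gcd_Sn q n (by omega)]
  obtain ⟨M, hM⟩ := Nat.gcd_dvd_left (Sn q n) (q + 1)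
  obtain ⟨u, hu⟩ := Nat.gcd_dvd_right (Sn q n) (q + 1)
  set δ := Nat.gcd (Sn q n) (q + 1) with hδdef
  have h3 : Sn q n / δ = M := by rw [hM]; exact Nat.mul_div_cancel_left _ hδ
  have h4 : (q + 1) / δ = u := by rw [hu]; exact Nat.mul_div_cancel_left _ hδ
  rw [h3, h4] at hcop
  rw [h3]
  apply hcop.dvd_of_dvd_mul_right
  apply Nat.dvd_of_mul_dvd_mul_left hδ
  rw [← hM]
  calc Sn q n ∣ o * (q + 1) := h
    _ = δ * (o * u) := by rw [hu]; ring

theorem M0_mul {n : ℕ} (hq : 1 ≤ q) (hn : n ≠ 0) : ∃ u, M0 q n * (q + 1) = Sn q n * u := by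
  obtain ⟨M, hM⟩ := Nat.gcd_dvd_left (Sn q n) (q + 1)
  obtain ⟨u, hu⟩ := Nat.gcd_dvd_right (Sn q n) (q + 1)
  have hg := gcd_Sn q n hq
  have hδ : 0 < Nat.gcd (Sn q n) (q + 1) := Nat.gcd_pos_of_pos_right _ (by omega)
  refine ⟨u, ?_⟩
  rw [M0, ← hg]
  have h3 : Sn q n / Nat.gcd (Sn q n) (q + 1) = M := by
    nth_rewrite 1 [hM]; exact Nat.mul_div_cancel_left _ hδ
  rw [h3]
  set δ := Nat.gcd (Sn q n) (q + 1) with hδdef
  calc M * (q + 1) = M * (δ * u) := by rw [← hu]
    _ = (δ * M) * u := by ring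
    _ = Sn q n * u := by rw [← hM]

theorem pow_odd_frob (hF : Fintype.card F = q ^ 2) (c : F) (j : ℕ) : c ^ (q ^ (2 * j + 1)) = c ^ q := by
  rw [pow_succ, pow_mul, pow_mul, ← hF]
  rw [FiniteField.pow_card_pow]

theorem torus (hF : Fintype.card F = q ^ 2) {n : ℕ} (hn : 2 ≤ n) : M0 q n ∈ Set.range (orderOf : Cfsg.PSU n F q → ℕ) := by
  have hq2 : 2 ≤ q := Fld.one_lt_q hF
  haveI : Finite (Cfsg.PSU n F q) := inferInstance
  have hσσ := Fld.frob_frob hF
  have hσ := Fld.frob_apply hF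
  have main : ∀ (E : Type) (_ : Field E) (_ : Algebra F E) (y : E), orderOf y = Sn q n → ∀ b : UBlk.{u, 0} F (Fld.frob hF) n, LinearMap.det b.f = 1 →
      (∀ (s : ℕ) (c : F), b.f ^ s = algebraMap F _ c → y ^ s = algebraMap F E c ∧ c ^ q * c = 1) → M0 q n ∈ Set.range (orderOf : Cfsg.PSU n F q → ℕ) := by
    intro E _ _ y hy b hb h
    obtain ⟨g, hg⟩ := b.exists_psu hF hn hb
    obtain ⟨c, hc⟩ := (hg (orderOf g)).mp (pow_orderOf_eq_one g)
    obtain ⟨h1, h2⟩ := h _ _ hc
    apply mem_range_of_dvd (m := orderOf g) ⟨g, rfl⟩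
    apply M0_dvd hq2 (by omega)
    rw [← hy]
    apply orderOf_dvd_of_pow_eq_one
    rw [pow_mul, h1, ← map_pow, pow_succ, h2, map_one]
  rcases Nat.even_or_odd n with hev | hodd
  · -- even
    obtain ⟨m, hm⟩ := hev
    obtain ⟨E, _, _, _, _, hE, hcE⟩ := exists_ext F m (by omega)
    obtain ⟨p, hp⟩ := CharP.exists F
    haveI : Fact p.Prime := ⟨CharP.char_is_prime F p⟩
    haveI : CharP E p := charP_of_injective_algebraMap (algebraMap F E).injective p
    obtain ⟨k, hk, hqk⟩ := Fld.exists_prime_pow hF p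
    let τ : E →+* E := iterateFrobenius E p k
    have hτ1 : ∀ a, τ a = a ^ q := fun a => by
      change iterateFrobenius E p k a = a ^ q
      rw [iterateFrobenius_def, ← hqk]
    have hτ : ∀ c, τ (algebraMap F E c) = algebraMap F E (Fld.frob hF c) := fun c => by rw [hτ1, hσ, map_pow]
    have hS := Sn_mul_even (n := n) (show 1 ≤ q by omega) ⟨m, hm⟩
    have hcE' : Nat.card E = q ^ n := by rw [hcE, hF, ← pow_mul]; congr 1; omega
    obtain ⟨y, hy⟩ := exists_order (E := E) (m := Sn q n) (by rw [hcE', ← hS]; exact Dvd.intro _ rfl)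
    have hSpos := Sn_pos (n := n) hq2 (by omega)
    have hy0 : y ≠ 0 := by
      rintro rfl
      rw [orderOf_zero] at hy
      omega
    have hyz : τ y * (y⁻¹) ^ q = 1 := by rw [hτ1, ← mul_pow, mul_inv_cancel₀ hy0, one_pow]
    obtain ⟨j, hj⟩ : ∃ j, (q - 1) * (∑ i ∈ Finset.range m, Fintype.card F ^ i) = Sn q n * j := by
      refine ⟨1, ?_⟩
      have h1 : (∑ i ∈ Finset.range m, Fintype.card F ^ i) * (Fintype.card F - 1) = q ^ n - 1 := by
        rw [Nat.geomSum_eq Fintype.one_lt_card, Nat.div_mul_cancel, hF, ← pow_mul]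
        · congr 2; omega
        · have := Nat.sub_dvd_pow_sub_pow (Fintype.card F) 1 m
          rwa [one_pow] at this
      have h2 : Fintype.card F - 1 = (q - 1) * (q + 1) := by
        rw [hF]
        obtain ⟨t, rfl⟩ : ∃ t, q = t + 1 := ⟨q - 1, by omega⟩
        have : (t + 1) ^ 2 = t * (t + 1 + 1) + 1 := by ring
        rw [this, Nat.add_sub_cancel, Nat.add_sub_cancel]
      rw [h2, ← hS] at h1
      have h3 : 0 < q + 1 := by omega
      apply Nat.eq_of_mul_eq_mul_right h3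
      rw [mul_one, ← h1]; ring
    have hNy : (Algebra.norm F y) ^ (q - 1) = 1 := by
      apply (algebraMap F E).injective
      rw [map_pow, FiniteField.algebraMap_norm_eq_pow_sum, Nat.card_eq_fintype_card, hE, map_one, ← pow_mul, mul_comm, hj, pow_mul, ← hy, pow_orderOf_eq_one,
        one_pow]
    have hNy0 : Algebra.norm F y ≠ 0 := Algebra.norm_ne_zero_iff.mpr hy0
    have hdim : Module.finrank F E + Module.finrank F E = n := by rw [hE, hm]
    have hN : Algebra.norm F y * Algebra.norm F ((y⁻¹) ^ q) = 1 := by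
      have h1 : (Algebra.norm F y) ^ q = Algebra.norm F y := by
        have : q = (q - 1) + 1 := by omega
        rw [this, pow_succ, hNy, one_mul]
      calc Algebra.norm F y * Algebra.norm F ((y⁻¹) ^ q) = (Algebra.norm F y) ^ q * (Algebra.norm F (y⁻¹)) ^ q := by rw [h1, map_pow]
        _ = (Algebra.norm F (y * y⁻¹)) ^ q := by rw [map_mul, mul_pow]
        _ = 1 := by rw [mul_inv_cancel₀ hy0, map_one, one_pow]
    subst hdim
    apply main E _ _ y hy (pairBlk hσσ τ hτ y ((y⁻¹) ^ q) hyz) (by rw [pairBlk_det, hN])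
    intro s c hc
    obtain ⟨h1, h2⟩ := pairBlk_pow hσσ τ hτ y ((y⁻¹) ^ q) hyz s hc
    refine ⟨h1, ?_⟩
    apply (algebraMap F E).injective
    have h3 : τ (y ^ s) * ((y⁻¹) ^ q) ^ s = 1 := by rw [map_pow, ← mul_pow, hyz, one_pow]
    rw [h1, h2, hτ, hσ, ← map_mul] at h3
    rw [h3, map_one]
  · -- odd
    obtain ⟨E, _, _, _, _, hE, hcE⟩ := exists_ext F n (by omega)
    haveI := Fintype.ofFinite E
    have hcE' : Fintype.card E = (q ^ n) ^ 2 := by rw [← Nat.card_eq_fintype_card, hcE, hF, ← pow_mul, ← pow_mul, mul_comm]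
    let τ : E →+* E := Fld.frob hcE'
    have hτ1 : ∀ a, τ a = a ^ (q ^ n) := Fld.frob_apply hcE'
    have hττ : ∀ a, τ (τ a) = a := Fld.frob_frob hcE'
    obtain ⟨j, hj⟩ := hodd
    have hτ : ∀ c, τ (algebraMap F E c) = algebraMap F E (Fld.frob hF c) := fun c => by
      rw [hτ1, hσ, ← map_pow, hj, pow_odd_frob hF]
    have hS := Sn_mul_odd (n := n) (show 1 ≤ q by omega) ⟨j, hj⟩
    have hcE1 : Nat.card E - 1 = (q ^ n - 1) * (q ^ n + 1) := by
      rw [Nat.card_eq_fintype_card, hcE']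
      obtain ⟨t, ht⟩ : ∃ t, q ^ n = t + 1 := ⟨q ^ n - 1, by
        have := Nat.one_le_pow n q (by omega)
        omega⟩
      rw [ht]
      have : (t + 1) ^ 2 = t * (t + 1 + 1) + 1 := by ring
      rw [this, Nat.add_sub_cancel, Nat.add_sub_cancel]
    obtain ⟨y, hy⟩ := exists_order (E := E) (m := Sn q n) (by rw [hcE1, ← hS]; exact (Dvd.intro _ rfl : Sn q n ∣ Sn q n * (q + 1)).mul_left _)
    have hy1 : τ y * y = 1 := by
      rw [hτ1, ← pow_succ, ← hS, pow_mul, ← hy, pow_orderOf_eq_one, one_pow]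
    have hN : Algebra.norm F y = 1 := by
      apply (algebraMap F E).injective
      rw [FiniteField.algebraMap_norm_eq_pow_sum, Nat.card_eq_fintype_card, hE, map_one]
      rw [← orderOf_dvd_iff_pow_eq_one, hy]
      have h1 : (∑ i ∈ Finset.range n, Fintype.card F ^ i) * ((q - 1) * (q + 1)) = (q ^ n - 1) * (Sn q n * (q + 1)) := by
        have h2 : Fintype.card F - 1 = (q - 1) * (q + 1) := by
          rw [hF]
          obtain ⟨t, rfl⟩ : ∃ t, q = t + 1 := ⟨q - 1, by omega⟩
          have : (t + 1) ^ 2 = t * (t + 1 + 1) + 1 := by ring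
          rw [this, Nat.add_sub_cancel, Nat.add_sub_cancel]
        rw [← h2, Nat.geomSum_eq Fintype.one_lt_card, Nat.div_mul_cancel, hS, ← hcE1, hcE]
        have := Nat.sub_dvd_pow_sub_pow (Fintype.card F) 1 n
        rwa [one_pow] at this
      obtain ⟨t, ht⟩ : (q - 1) ∣ (q ^ n - 1) := by
        have := Nat.sub_dvd_pow_sub_pow q 1 n
        rwa [one_pow] at this
      refine ⟨t, ?_⟩
      have h3 : 0 < (q - 1) * (q + 1) := Nat.mul_pos (by omega) (by omega)
      apply Nat.eq_of_mul_eq_mul_right h3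
      rw [h1, ht]; ring
    subst hE
    apply main E _ _ y hy (invBlk τ hττ hτ y hy1) (by rw [invBlk_det, hN])
    intro s c hc
    have h1 := invBlk_pow τ hττ hτ y hy1 s hc
    refine ⟨h1, ?_⟩
    apply (algebraMap F E).injective
    have h3 : τ (y ^ s) * y ^ s = 1 := by rw [map_pow, ← mul_pow, hy1, one_pow]
    rw [h1, hτ, hσ, ← map_mul] at h3
    rw [h3, map_one]

end slot

end Cfsg.Agent.H21.GLu
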