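import Mathlib
import Cfsg.Agent.H21_GLf10
import Cfsg.Agent.H21_GLu2

/-!
# Unitary groups, III: the structure theorem for semisimple elements
-/

set_option autoImplicit false
open Polynomial
open scoped Matrix

namespace Cfsg.Agent.H21.GLu

open Cfsg.Agent.H5 Cfsg.Agent.H21.GLo Cfsg.Agent.H21.GLf

section det

variable {F : Type*} [Field F] {V : Type*} [AddCommGroup V] [Module F V] [Module.Finite F V]

theorem det_idem {e P : Module.End F V} (he : e * e = e) (hc : Commute e P) :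
    LinearMap.det (P * e + (1 - e)) = LinearMap.det (rho e P) := by
  have h1 : ∀ x : LinearMap.range e, (P * e + (1 - e)) (x : V) = P x := by
    intro x
    rw [LinearMap.add_apply, LinearMap.sub_apply, Module.End.mul_apply, apply_range he, Module.End.one_apply, sub_self, add_zero]
  have hW : LinearMap.range e ≤ (LinearMap.range e).comap (P * e + (1 - e)) := by
    intro x hx
    rw [Submodule.mem_comap, h1 ⟨x, hx⟩]
    change P x ∈ _
    rw [← rho_val he hc ⟨x, hx⟩]
    exact (rho e P ⟨x, hx⟩).2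
  rw [LinearMap.det_eq_det_mul_det (LinearMap.range e) _ hW]
  have h2 : (LinearMap.range e).mapQ (LinearMap.range e) (P * e + (1 - e)) hW = LinearMap.id := by
    apply Submodule.linearMap_qext
    apply LinearMap.ext
    intro v
    change Submodule.Quotient.mk ((P * e + (1 - e)) v) = Submodule.Quotient.mk v
    rw [Submodule.Quotient.eq]
    have : (P * e + (1 - e)) v - v = e (P v - v) := by
      rw [LinearMap.add_apply, LinearMap.sub_apply, Module.End.one_apply, ← hc.eq, Module.End.mul_apply, map_sub]; abel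
    rw [this]
    exact ⟨_, rfl⟩
  rw [h2, LinearMap.det_id, mul_one]
  congr 1
  apply LinearMap.ext
  intro x
  apply Subtype.ext
  rw [rho_val he hc, LinearMap.restrict_coe_apply, h1]

theorem det_split {e P : Module.End F V} (he : e * e = e) (hc : Commute e P) :
    LinearMap.det P = LinearMap.det (rho e P) * LinearMap.det (rho (1 - e) P) := by
  have he' : (1 - e) * (1 - e) = 1 - e := by
    rw [sub_mul, one_mul, mul_sub, mul_one, he, sub_self, sub_zero]
  have hc' : Commute (1 - e) P := (Commute.one_left P).sub_left hc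
  rw [← det_idem he hc, ← det_idem he' hc', ← map_mul]
  congr 1
  have h1 : e * (1 - e) = 0 := by rw [mul_sub, mul_one, he, sub_self]
  have h2 : (1 - e) * e = 0 := by rw [sub_mul, one_mul, he, sub_self]
  have h3 : P = P * e + P * (1 - e) := by rw [← mul_add]; simp
  have h4 : 1 - (1 - e) = e := by abel
  rw [h4, add_mul, mul_add, mul_add]
  have k1 : P * e * (P * (1 - e)) = 0 := by
    rw [← hc'.eq, mul_assoc P e, ← mul_assoc e (1 - e), h1, zero_mul, mul_zero]
  have k2 : P * e * e = P * e := by rw [mul_assoc, he]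
  have k3 : (1 - e) * (P * (1 - e)) = P * (1 - e) := by rw [← mul_assoc, hc'.eq, mul_assoc, he']
  rw [k1, k2, k3, h2]
  conv_lhs => rw [h3]
  abel

variable [Fintype F] {q : ℕ}

theorem det_adj (hF : Fintype.card F = q ^ 2) {A : Frm F (Fld.frob hF) 1 (Herm.tr hF) V} (hA : A.Nondeg) (hh : Herm.IsHerm hF A)
    {P P' : Module.End F V} (h : Adj A P P') : LinearMap.det P' = (LinearMap.det P) ^ q := by
  classical
  obtain ⟨b, hb⟩ := Herm.orthonormal hF (Module.finrank F V) A hh hA rfl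
  have hrepr : ∀ i v, A.B (b i) v = b.repr v i := by
    intro i v
    conv_lhs => rw [← b.sum_repr v]
    rw [map_sum, Finset.sum_eq_single i]
    · rw [map_smul, hb, if_pos rfl, smul_eq_mul, mul_one]
    · intro j _ hj
      rw [map_smul, hb, if_neg (Ne.symm hj), smul_zero]
    · intro h; exact absurd (Finset.mem_univ _) h
  have hM : LinearMap.toMatrix b b P' = ((LinearMap.toMatrix b b P).map (Fld.frob hF))ᵀ := by
    ext i j
    rw [LinearMap.toMatrix_apply, Matrix.transpose_apply, Matrix.map_apply, LinearMap.toMatrix_apply, ← hrepr, ← hrepr, ← h, A.symm, one_mul]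
  rw [← LinearMap.det_toMatrix b, hM, Matrix.det_transpose, ← RingHom.mapMatrix_apply, ← RingHom.map_det, LinearMap.det_toMatrix, Fld.frob_apply]

end det

/-! ### numerics -/

theorem geom_odd (q j : ℕ) : ∃ t, ∑ i ∈ Finset.range (2 * j + 1), q ^ i = 1 + (q + 1) * t := by
  induction j with
  | zero => exact ⟨0, by simp⟩
  | succ j ih =>
    obtain ⟨t, ht⟩ := ih
    refine ⟨t + q ^ (2 * j + 1), ?_⟩
    rw [show 2 * (j + 1) + 1 = 2 * j + 1 + 1 + 1 by ring, Finset.sum_range_succ, Finset.sum_range_succ, ht]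
    ring

theorem norm_exp {q D : ℕ} (hq : 2 ≤ q) (hD : Odd D) : ∃ t, ∑ i ∈ Finset.range D, (q ^ 2) ^ i = Sn q D + (q ^ D + 1) * t := by
  obtain ⟨j, hj⟩ := hD
  obtain ⟨t, ht⟩ := geom_odd q j
  refine ⟨t, ?_⟩
  rw [← hj] at ht
  have hS := Sn_mul_odd (q := q) (n := D) (by omega) ⟨j, hj⟩
  have h1 : ∑ i ∈ Finset.range D, (q ^ 2) ^ i = Sn q D * ∑ i ∈ Finset.range D, q ^ i := by
    have h2 := geom_sum_mul ((q : ℤ) ^ 2) D
    have h3 := geom_sum_mul (q : ℤ) D
    have h4 : ((Sn q D * (q + 1) : ℕ) : ℤ) = ((q ^ D + 1 : ℕ) : ℤ) := by rw [hS]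
    push_cast at h4
    have h5 : ((q : ℤ) ^ 2 - 1) ≠ 0 := by
      have : (2 : ℤ) ≤ q := by exact_mod_cast hq
      nlinarith
    have h6 : ((∑ i ∈ Finset.range D, (q ^ 2) ^ i : ℕ) : ℤ) = ((Sn q D * ∑ i ∈ Finset.range D, q ^ i : ℕ) : ℤ) := by
      push_cast
      apply mul_right_cancel₀ h5
      rw [h2]
      have h7 : ((q : ℤ) ^ 2) ^ D = (q : ℤ) ^ D * (q : ℤ) ^ D := by rw [← pow_mul, ← pow_add]; congr 1; omega
      rw [h7]
      linear_combination (-(Sn q D : ℤ) * ((q : ℤ) + 1)) * h3 - ((q : ℤ) ^ D - 1) * h4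
    exact_mod_cast h6
  rw [h1, ht, ← hS]; ring

theorem Sn_mul_Sn {q D k : ℕ} (hq : 2 ≤ q) (hD : Odd D) : ∃ t : ℕ, Sn q (D * k) = Sn q D * t ∧ Nat.gcd k (q + 1) ∣ t := by
  have hD0 : D ≠ 0 := by rintro rfl; exact Nat.not_odd_zero hD
  have hpos := Sn_pos (q := q) hq hD0
  set x : ℤ := -(q : ℤ) with hx
  have h1 : ∑ i ∈ Finset.range (D * k), x ^ i = (∑ i ∈ Finset.range D, x ^ i) * ∑ j ∈ Finset.range k, (x ^ D) ^ j := by
    clear hpos
    induction k with
    | zero => simp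
    | succ k ih =>
      rw [Nat.mul_succ, Finset.sum_range_add, ih, Finset.sum_range_succ (n := k), mul_add]
      congr 1
      rw [Finset.sum_mul]
      apply Finset.sum_congr rfl
      intro i _
      rw [← pow_mul, pow_add]
      ring
  have h2 := Sn_int q (D * k) (by omega)
  have h3 := Sn_int q D (by omega)
  rw [Even.neg_one_pow hD.add_one, one_mul] at h3
  rw [← hx] at h2 h3
  set T : ℤ := (-1) ^ (D * k + 1) * ∑ j ∈ Finset.range k, (x ^ D) ^ j with hT
  have h4 : (Sn q (D * k) : ℤ) = (Sn q D : ℤ) * T := by rw [h2, h1, h3, hT]; ring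
  have hT0 : 0 ≤ T := by
    by_contra hcon
    push Not at hcon
    have h5 : (0 : ℤ) < (Sn q D : ℤ) := by exact_mod_cast hpos
    have h6 : (0 : ℤ) ≤ (Sn q (D * k) : ℤ) := by positivity
    rw [h4] at h6
    nlinarith
  obtain ⟨t, ht⟩ := Int.eq_ofNat_of_zero_le hT0
  refine ⟨t, ?_, ?_⟩
  · rw [ht] at h4
    exact_mod_cast h4
  · have hg1 : ((Nat.gcd k (q + 1) : ℕ) : ℤ) ∣ (q : ℤ) + 1 := by
      have := Nat.gcd_dvd_right k (q + 1)
      exact_mod_cast this
    have hg2 : ((Nat.gcd k (q + 1) : ℕ) : ℤ) ∣ (k : ℤ) := by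
      have := Nat.gcd_dvd_left k (q + 1)
      exact_mod_cast this
    have h5 : x ≡ 1 [ZMOD ((Nat.gcd k (q + 1) : ℕ) : ℤ)] := by
      rw [Int.modEq_iff_dvd]
      have : (1 : ℤ) - x = (q : ℤ) + 1 := by rw [hx]; ring
      rw [this]; exact hg1
    have h6 : ∑ j ∈ Finset.range k, (x ^ D) ^ j ≡ 0 [ZMOD ((Nat.gcd k (q + 1) : ℕ) : ℤ)] := by
      have h7 : ∀ m : ℕ, ∑ j ∈ Finset.range m, (x ^ D) ^ j ≡ (m : ℤ) [ZMOD ((Nat.gcd k (q + 1) : ℕ) : ℤ)] := by
        intro m
        induction m with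
        | zero => rfl
        | succ m ih =>
          rw [Finset.sum_range_succ]
          push_cast
          apply ih.add
          have := (h5.pow D).pow m
          rwa [one_pow, one_pow] at this
      exact (h7 k).trans (Int.modEq_zero_iff_dvd.mpr hg2)
    have h8 : T ≡ 0 [ZMOD ((Nat.gcd k (q + 1) : ℕ) : ℤ)] := by
      rw [hT]
      have := h6.mul_left ((-1) ^ (D * k + 1))
      rwa [mul_zero] at this
    rw [Int.modEq_zero_iff_dvd, ht] at h8
    exact_mod_cast h8

theorem Sn_even_eq {q D k : ℕ} (hq : 2 ≤ q) (n : ℕ) (hn : 2 * (D * k) = n) :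
    Sn q n = (∑ i ∈ Finset.range D, (q ^ 2) ^ i) * ((q - 1) * ∑ j ∈ Finset.range k, ((q ^ 2) ^ D) ^ j) := by
  subst hn
  have hS := Sn_mul_even (q := q) (n := 2 * (D * k)) (by omega) ⟨D * k, by ring⟩
  have h2 := geom_sum_mul ((q : ℤ) ^ 2) D
  have h3 := geom_sum_mul (((q : ℤ) ^ 2) ^ D) k
  have h1q : 1 ≤ q ^ (2 * (D * k)) := Nat.one_le_pow _ _ (by omega)
  have h4 : ((Sn q (2 * (D * k)) * (q + 1) : ℕ) : ℤ) = ((q ^ (2 * (D * k)) - 1 : ℕ) : ℤ) := by rw [hS]
  push_cast [h1q] at h4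
  have h5 : ((q : ℤ) + 1) ≠ 0 := by positivity
  have h6 : ((Sn q (2 * (D * k)) : ℕ) : ℤ) = (((∑ i ∈ Finset.range D, (q ^ 2) ^ i) * ((q - 1) * ∑ j ∈ Finset.range k, ((q ^ 2) ^ D) ^ j) : ℕ) : ℤ) := by
    push_cast [show 1 ≤ q by omega]
    apply mul_right_cancel₀ h5
    rw [h4]
    have h7 : (q : ℤ) ^ (2 * (D * k)) = (((q : ℤ) ^ 2) ^ D) ^ k := by rw [← pow_mul, ← pow_mul]
    rw [h7]
    linear_combination -h3 - (∑ j ∈ Finset.range k, (((q : ℤ) ^ 2) ^ D) ^ j) * h2
  exact_mod_cast h6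

end Cfsg.Agent.H21.GLu
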