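import Mathlib
import Cfsg.Agent.H21_GLu3

/-!
# Unitary groups, IV: the structure theorem for semisimple elements
-/

set_option autoImplicit false
open Polynomial
open scoped Matrix

namespace Cfsg.Agent.H21.GLu

open Cfsg.Agent.H5 Cfsg.Agent.H21.GLo Cfsg.Agent.H21.GLf

theorem su_struct {F : Type*} [Field F] [Fintype F] (p : ℕ) [hp : Fact p.Prime] [CharP F p] {q : ℕ} (hF : Fintype.card F = q ^ 2)
    {V : Type*} [AddCommGroup V] [Module F V]
    [Module.Finite F V] [Nontrivial V] {A : Frm F (Fld.frob hF) 1 (Herm.tr hF) V} (hA : A.Nondeg) (hh : Herm.IsHerm hF A) {Y : Module.End F V}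
    (hY : ∀ u v, A.B (Y u) (Y v) = A.B u v) {w : ℕ} (hw : Y ^ w = 1) (hwp : ¬ p ∣ w)
    (hno : ∀ e : Module.End F V, Idem Y e → Adj A e e → e = 0 ∨ e = 1) :
    (∃ D k : ℕ, Odd D ∧ 1 ≤ k ∧ D * k = Module.finrank F V ∧ Y ^ (q ^ D + 1) = 1 ∧
      (∃ c : F, c ^ (q + 1) = 1 ∧ Y ^ (Sn q D) = algebraMap F _ c ∧ LinearMap.det Y = c ^ k) ∧
      (∀ N : ℕ, Y ^ (N * (q + 1)) = 1 → ∃ a : F, Y ^ N = algebraMap F _ a) ∧
      (∀ U : Module.End F V, Commute U Y → (∃ T, U ^ (p ^ T) = 1) → (U - 1) ^ k = 0)) ∨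
    (∃ (D k : ℕ) (e e' : Module.End F V), 1 ≤ D ∧ 1 ≤ k ∧ 2 * (D * k) = Module.finrank F V ∧ Idem Y e ∧ Idem Y e' ∧ e * e' = 0 ∧ e' * e = 0 ∧
      e + e' = 1 ∧ Adj A e e' ∧ Y ^ (q ^ (2 * D) - 1) = 1 ∧
      (∃ c : F, c ≠ 0 ∧ Y ^ (∑ i ∈ Finset.range D, (q ^ 2) ^ i) * e = c • e ∧ LinearMap.det Y * (c ^ k) ^ q = c ^ k) ∧
      (∀ (N : ℕ) (a : F), a ^ (q + 1) = 1 → Y ^ N * e = a • e → Y ^ N = algebraMap F _ a) ∧
      (∀ N : ℕ, Y ^ (N * (q + 1)) = 1 → ∃ a : F, Y ^ N = algebraMap F _ a) ∧
      (∀ U : Module.End F V, (∀ u v, A.B (U u) (U v) = A.B u v) → Commute U Y → (∃ T, U ^ (p ^ T) = 1) → (U - 1) ^ k = 0)) := by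
  have hw0 : w ≠ 0 := by rintro rfl; exact hwp (dvd_zero _)
  obtain ⟨w', rfl⟩ : ∃ w', w = w' + 1 := ⟨w - 1, by omega⟩
  have hq2 : 2 ≤ q := Fld.one_lt_q hF
  obtain ⟨a, ha⟩ := FiniteField.card F p
  have hq1 : 1 < Fintype.card F := Fintype.one_lt_card
  haveI : CharP (Module.End F V) p := charP_of_injective_algebraMap (algebraMap F (Module.End F V)).injective p
  have hcop : Nat.Coprime (Fintype.card F) (w' + 1) := by
    rw [ha.2]
    exact Nat.Coprime.pow_left _ ((Nat.Prime.coprime_iff_not_dvd hp.out).mpr hwp)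
  have hmod := Nat.ModEq.pow_totient hcop
  have hN0 : Nat.totient (w' + 1) ≠ 0 := (Nat.totient_pos.mpr (Nat.succ_pos _)).ne'
  have hYN : Y ^ (Fintype.card F ^ Nat.totient (w' + 1)) = Y := by
    obtain ⟨c, hc⟩ := (Nat.modEq_iff_dvd' (Nat.one_le_pow _ _ (by omega))).mp hmod.symm
    have h1 : Fintype.card F ^ Nat.totient (w' + 1) = (w' + 1) * c + 1 := by
      have := Nat.one_le_pow (Nat.totient (w' + 1)) (Fintype.card F) (by omega)
      omega
    rw [h1, pow_succ, pow_mul, hw, one_pow, one_mul]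
  have hadjY := adj_of_isometry hY hw
  have hVpos : 0 < Module.finrank F V := Module.finrank_pos
  have hnil : ∀ U : Module.End F V, (∃ T, U ^ (p ^ T) = 1) → IsNilpotent (U - 1) := by
    rintro U ⟨T, hT⟩
    refine ⟨p ^ T, ?_⟩
    rw [sub_pow_char_pow_of_commute _ _ (Commute.one_right U), hT, one_pow, sub_self]
  have hqq : q ^ 2 - 1 = (q + 1) * (q - 1) := by
    obtain ⟨t, rfl⟩ : ∃ t, q = t + 1 := ⟨q - 1, by omega⟩
    have : (t + 1) ^ 2 = (t + 1 + 1) * t + 1 := by ring
    rw [this, Nat.add_sub_cancel, Nat.add_sub_cancel]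
  -- elements of norm one are in the base field
  have hbase : ∀ (K : Type _) [Field K] [Algebra F K] (z : K), z ^ (q + 1) = 1 → ∃ c : F, z = algebraMap F K c ∧ c ^ (q + 1) = 1 := by
    intro K _ _ z hz
    obtain ⟨c, hc⟩ := mem_base (F := F) (a := z) (by
      have h1 : Fintype.card F = (q + 1) * (q - 1) + 1 := by
        rw [hF, ← hqq, Nat.sub_add_cancel (Nat.one_le_pow _ _ (by omega))]
      rw [h1, pow_succ, pow_mul, hz, one_pow, one_mul])
    refine ⟨c, hc, ?_⟩
    apply (algebraMap F K).injective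
    rw [map_pow, ← hc, hz, map_one]
  rcases dichot hA hY hw hno with h1 | ⟨e, e', he, he', hee, h1, hadj, hprim⟩
  · -- first case
    left
    have hirr : Irreducible (minpoly F Y) := irred_end Y hN0 hYN (fun e h2 h3 => h1 e ⟨h2, h3⟩)
    haveI : Fact (Irreducible (minpoly F Y)) := ⟨hirr⟩
    haveI : Finite (AE Y) := Module.finite_of_finite F
    haveI := Fintype.ofFinite (AE Y)
    have hm : (minpoly F Y).Monic := minpoly.monic (isInt Y)
    set y : AE Y := rtE Y with hy
    have hyw : y ^ (w' + 1) = 1 := by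
      apply evE_injective
      rw [map_pow, evE_rt, hw, map_one]
    have hy0 : y ≠ 0 := by
      intro h0
      rw [h0, zero_pow (Nat.succ_ne_zero _)] at hyw
      exact zero_ne_one hyw
    have hyinv : y ^ w' = y⁻¹ := by
      apply eq_inv_of_mul_eq_one_left
      rw [← pow_succ, hyw]
    have hz : aeval (y ^ w') ((minpoly F Y).map (Fld.frob hF)) = 0 := by
      apply evE_injective
      rw [map_zero, ← Polynomial.aeval_algHom_apply, map_pow, evE_rt]
      have h2 := hadjY.aeval (minpoly F Y)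
      rw [minpoly.aeval] at h2
      exact Adj.unique hA h2 (Adj.zero A)
    let bar : AE Y →+* AE Y := AdjoinRoot.lift ((algebraMap F (AE Y)).comp (Fld.frob hF)) (y ^ w') (by
      rw [← Polynomial.eval₂_map]
      exact hz)
    have hbarc : ∀ c, bar (algebraMap F (AE Y) c) = algebraMap F (AE Y) (Fld.frob hF c) := fun c => AdjoinRoot.lift_of _
    have hbary : bar y = y⁻¹ := by
      rw [← hyinv]
      exact AdjoinRoot.lift_root _
    have hbb : ∀ a, bar (bar a) = a := by
      intro a
      obtain ⟨f, rfl⟩ := AdjoinRoot.mk_surjective a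
      induction f using Polynomial.induction_on with
      | C c =>
        have h1 : AdjoinRoot.mk (minpoly F Y) (C c) = algebraMap F (AE Y) c := rfl
        rw [h1, hbarc, hbarc, Fld.frob_frob]
      | add f g hf hg => rw [map_add, map_add, map_add, hf, hg]
      | monomial n c _ =>
        have h1 : AdjoinRoot.mk (minpoly F Y) (C c * X ^ (n + 1)) = algebraMap F (AE Y) c * y ^ (n + 1) := by
          rw [map_mul, map_pow, AdjoinRoot.mk_X]; rfl
        rw [h1, map_mul, map_mul, map_pow, map_pow, hbarc, hbarc, Fld.frob_frob, hbary, map_inv₀, hbary, inv_inv]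
    have hbne : bar ≠ RingHom.id _ := by
      intro h
      apply Fld.frob_ne_id hF
      ext c
      apply (algebraMap F (AE Y)).injective
      rw [← hbarc, h]; rfl
    obtain ⟨q', hq', hbar⟩ := Herm.sigma_eq bar hbne hbb
    obtain ⟨k, hk, hkdet, hknil⟩ := field_end Y hirr
    set D := Module.finrank F (AE Y) with hD
    have hcard : Fintype.card (AE Y) = Fintype.card F ^ D := Module.card_eq_pow_finrank
    have hqD : q' = q ^ D := by
      have h2 : q' ^ 2 = (q ^ D) ^ 2 := by rw [← hq', hcard, hF, ← pow_mul, ← pow_mul, mul_comm]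
      exact Nat.pow_left_injective (by norm_num : (2 : ℕ) ≠ 0) h2
    have hDodd : Odd D := by
      by_contra hcon
      rw [Nat.not_odd_iff_even] at hcon
      obtain ⟨j, hj⟩ := hcon
      apply Fld.frob_ne_id hF
      ext c
      apply (algebraMap F (AE Y)).injective
      rw [← hbarc, hbar, hqD, ← map_pow, hj, ← two_mul, pow_mul, ← hF, FiniteField.pow_card_pow]; rfl
    have hk1 : 1 ≤ k := by
      rcases Nat.eq_zero_or_pos k with h | h
      · rw [h, mul_zero] at hk; omega
      · exact h
    have hyD : y ^ (q ^ D + 1) = 1 := by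
      rw [pow_succ, ← hqD, ← hbar, hbary, inv_mul_cancel₀ hy0]
    have hN : algebraMap F (AE Y) (Algebra.norm F y) = y ^ (Sn q D) := by
      obtain ⟨t, ht⟩ := norm_exp hq2 hDodd
      rw [FiniteField.algebraMap_norm_eq_pow_sum, Nat.card_eq_fintype_card, ← hD, hF, ht, pow_add, pow_mul, hyD, one_pow, mul_one]
    refine ⟨D, k, hDodd, hk1, hk, ?_, ⟨Algebra.norm F y, ?_, ?_, ?_⟩, ?_, ?_⟩
    · have h4 := congrArg (evE Y) hyD
      rwa [map_pow, evE_rt, map_one] at h4
    · apply (algebraMap F (AE Y)).injective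
      have h2 : bar (algebraMap F (AE Y) (Algebra.norm F y)) = (y⁻¹) ^ (Sn q D) := by rw [hN, map_pow, hbary]
      rw [hbarc, Fld.frob_apply] at h2
      rw [pow_succ, map_mul, h2, hN, ← mul_pow, inv_mul_cancel₀ hy0, one_pow, map_one]
    · have h4 := congrArg (evE Y) hN
      rw [map_pow, evE_rt, AlgHom.commutes] at h4
      exact h4.symm
    · rw [← hkdet y, evE_rt]
    · intro N hN
      have h2 : (y ^ N) ^ (q + 1) = 1 := by
        apply evE_injective
        rw [← pow_mul, map_pow, evE_rt, hN, map_one]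
      obtain ⟨a, ha, -⟩ := hbase _ _ h2
      refine ⟨a, ?_⟩
      have h4 := congrArg (evE Y) ha
      rwa [map_pow, evE_rt, AlgHom.commutes] at h4
    · intro U hUY hU
      exact hknil (U - 1) (hUY.sub_left (Commute.one_left Y)) (hnil U hU)
  · -- second case
    right
    have hee' : e' * e = 0 := by rw [he'.comm he, hee]
    have hhalf := half hA hee hee' h1 hadj he.1 he'.1
    have he0 : e ≠ 0 := by
      rintro rfl
      rw [LinearMap.range_zero, finrank_bot] at hhalf
      omega
    have hcY : Commute e Y := he.commute (Commute.refl Y)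
    have hcY' : Commute e' Y := he'.commute (Commute.refl Y)
    have hirr := irred_rho he he0 hN0 hYN hprim
    haveI : Fact (Irreducible (minpoly F (rho e Y))) := ⟨hirr⟩
    haveI : Finite (AE (rho e Y)) := Module.finite_of_finite F
    haveI := Fintype.ofFinite (AE (rho e Y))
    obtain ⟨k, hk, hkdet, hknil⟩ := field_end (rho e Y) hirr
    set D := Module.finrank F (AE (rho e Y)) with hD
    have hDpos : 0 < D := Module.finrank_pos
    have hWpos : 0 < Module.finrank F (LinearMap.range e) := by omega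
    set y : AE (rho e Y) := rtE (rho e Y) with hy
    have hyw : y ^ (w' + 1) = 1 := by
      apply evE_injective
      rw [map_pow, evE_rt, map_one, ← rho_pow he.1 hcY, hw, rho_one he.1]
    have hy0 : y ≠ 0 := by
      intro h0
      rw [h0, zero_pow (Nat.succ_ne_zero _)] at hyw
      exact zero_ne_one hyw
    have hyq : y ^ (q ^ (2 * D) - 1) = 1 := by
      have h2 : Fintype.card (AE (rho e Y)) = q ^ (2 * D) := by rw [Module.card_eq_pow_finrank (K := F), hF, ← pow_mul]
      rw [← h2]
      exact FiniteField.pow_card_sub_one_eq_one y hy0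
    have hN : algebraMap F (AE (rho e Y)) (Algebra.norm F y) = y ^ (∑ i ∈ Finset.range D, (q ^ 2) ^ i) := by
      rw [FiniteField.algebraMap_norm_eq_pow_sum, Nat.card_eq_fintype_card, ← hD, hF]
    have hk1 : 1 ≤ k := by
      rcases Nat.eq_zero_or_pos k with h | h
      · rw [h, mul_zero] at hk; omega
      · exact h
    have hYinv : ∀ N : ℕ, (Y ^ w') ^ N * Y ^ N = 1 := fun N => by
      rw [← ((Commute.refl Y).pow_left w').mul_pow, ← pow_succ, hw, one_pow]
    -- scalars on one half
    have hsc : ∀ (N : ℕ) (a : F), a ^ (q + 1) = 1 → Y ^ N * e = a • e → Y ^ N = algebraMap F _ a := by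
      intro N a ha h2
      have h3 : Adj A (Y ^ N * e) (e' * (Y ^ w') ^ N) := (hadjY.pow N).mul hadj
      have h4 : Adj A (algebraMap F (Module.End F V) a * e) (e' * algebraMap F (Module.End F V) (Fld.frob hF a)) := (Adj.scalar A a).mul hadj
      have h5 : Y ^ N * e = algebraMap F (Module.End F V) a * e := by rw [h2, Algebra.smul_def]
      rw [h5] at h3
      have h6 := Adj.unique hA h3 h4
      have h7 : e' * Y ^ N = algebraMap F (Module.End F V) a * e' := by
        have h8 : e' * (Y ^ w') ^ N * Y ^ N = e' := by rw [mul_assoc, hYinv, mul_one]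
        rw [h6] at h8
        have h9 : algebraMap F (Module.End F V) a * algebraMap F (Module.End F V) (Fld.frob hF a) = 1 := by
          rw [← map_mul, Fld.frob_apply, ← pow_succ', ha, map_one]
        calc e' * Y ^ N = (algebraMap F (Module.End F V) a * algebraMap F (Module.End F V) (Fld.frob hF a)) * (e' * Y ^ N) := by rw [h9, one_mul]
          _ = algebraMap F (Module.End F V) a * (e' * algebraMap F (Module.End F V) (Fld.frob hF a) * Y ^ N) := by
            rw [mul_assoc, ← mul_assoc _ e', Algebra.commutes (Fld.frob hF a) e']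
          _ = algebraMap F (Module.End F V) a * e' := by rw [h8]
      calc Y ^ N = Y ^ N * (e + e') := by rw [h1, mul_one]
        _ = Y ^ N * e + Y ^ N * e' := mul_add _ _ _
        _ = algebraMap F (Module.End F V) a * e + algebraMap F (Module.End F V) a * e' := by rw [h5, ← (hcY'.pow_right N).eq, h7]
        _ = algebraMap F _ a := by rw [← mul_add, h1, mul_one]
    refine ⟨D, k, e, e', hDpos, hk1, by rw [hk, hhalf], he, he', hee, hee', h1, hadj, ?_, ⟨Algebra.norm F y, ?_, ?_, ?_⟩, hsc, ?_, ?_⟩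
    · have h2 : Y ^ (q ^ (2 * D) - 1) * e = (1 : F) • e := by
        have h3 : rho e (Y ^ (q ^ (2 * D) - 1)) = rho e 1 := by
          rw [rho_pow he.1 hcY, rho_one he.1]
          have h4 := congrArg (evE (rho e Y)) hyq
          rwa [map_pow, evE_rt, map_one] at h4
        rw [mul_eq_of_rho he.1 (hcY.pow_right _) (Commute.one_right e) h3, one_mul, one_smul]
      have h3 := hsc _ 1 (one_pow _) h2
      rwa [map_one] at h3
    · exact Algebra.norm_ne_zero_iff.mpr hy0
    · have h3 : rho e (Y ^ (∑ i ∈ Finset.range D, (q ^ 2) ^ i)) = rho e (algebraMap F _ (Algebra.norm F y)) := by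
        rw [rho_pow he.1 hcY, rho_algebraMap he.1]
        have h4 := congrArg (evE (rho e Y)) hN
        rw [map_pow, evE_rt, AlgHom.commutes] at h4
        exact h4.symm
      rw [mul_eq_of_rho he.1 (hcY.pow_right _) (Algebra.commutes _ e).symm h3, Algebra.smul_def]
    · have he1 : 1 - e = e' := by rw [← h1]; abel
      have h3 : LinearMap.det (Y * e + e') = (Algebra.norm F y) ^ k := by
        rw [← he1, det_idem he.1 hcY, ← hkdet y, evE_rt]
      have h4 : Adj A (Y * e + e') (e' * Y ^ w' + e) := (hadjY.mul hadj).add hadj.symm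
      have h5 := det_adj hF hA hh h4
      rw [h3] at h5
      rw [← h5, ← map_mul, ← h3]
      congr 1
      rw [mul_add, ← mul_assoc, ← hcY'.eq, mul_assoc, ← pow_succ', hw, mul_one, add_comm]
    · intro N hN
      have h2 : (y ^ N) ^ (q + 1) = 1 := by
        apply evE_injective
        rw [← pow_mul, map_pow, evE_rt, ← rho_pow he.1 hcY, hN, map_one, rho_one he.1]
      obtain ⟨a, ha, ha1⟩ := hbase _ _ h2
      refine ⟨a, hsc N a ha1 ?_⟩
      have h3 : rho e (Y ^ N) = rho e (algebraMap F _ a) := by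
        rw [rho_pow he.1 hcY, rho_algebraMap he.1]
        have h4 := congrArg (evE (rho e Y)) ha
        rwa [map_pow, evE_rt, AlgHom.commutes] at h4
      rw [mul_eq_of_rho he.1 (hcY.pow_right _) (Algebra.commutes _ e).symm h3, Algebra.smul_def]
    · rintro U hU hUY ⟨T, hT⟩
      have hcU : Commute e U := he.commute hUY.symm
      have hcU' : Commute e' U := he'.commute hUY.symm
      have hcU1 : Commute e (U - 1) := hcU.sub_right (Commute.one_right e)
      have hcU1' : Commute e' (U - 1) := hcU'.sub_right (Commute.one_right e')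
      obtain ⟨s, hs⟩ : ∃ s, p ^ T = s + 1 := ⟨p ^ T - 1, by have := pow_pos hp.out.pos T; omega⟩
      have hadjU := adj_of_isometry hU (hs ▸ hT)
      have h2 : (U - 1) ^ k * e = 0 := by
        apply eq_zero_of_rho he.1 (hcU1.pow_right k)
        rw [rho_pow he.1 hcU1]
        apply hknil
        · change rho e (U - 1) * rho e Y = rho e Y * rho e (U - 1)
          rw [← rho_mul he.1 hcU1 hcY, ← rho_mul he.1 hcY hcU1, (hUY.sub_left (Commute.one_left Y)).eq]
        · obtain ⟨N, hN⟩ := hnil U ⟨T, hT⟩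
          refine ⟨N, ?_⟩
          rw [← rho_pow he.1 hcU1, hN]
          apply LinearMap.ext
          intro x
          apply Subtype.ext
          rw [rho_val he.1 (Commute.zero_right e)]; rfl
      have h3 : Adj A (U - 1) (U ^ s - 1) := by
        intro u v
        rw [LinearMap.sub_apply, LinearMap.sub_apply, map_sub, map_sub, LinearMap.sub_apply, hadjU]; rfl
      have h4 : Adj A ((U - 1) ^ k * e) (e' * (U ^ s - 1) ^ k) := (h3.pow k).mul hadj
      rw [h2] at h4
      have h5 : e' * (U ^ s - 1) ^ k = 0 := Adj.unique hA h4 (Adj.zero A)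
      have h6 : (U - 1) ^ k = (U ^ s - 1) ^ k * (-U) ^ k := by
        have h7 : U - 1 = (U ^ s - 1) * (-U) := by
          rw [sub_mul, mul_neg, ← pow_succ, ← hs, hT, one_mul]; abel
        have h8 : Commute (U ^ s - 1) (-U) := (((Commute.refl U).pow_left s).sub_left (Commute.one_left U)).neg_right
        conv_lhs => rw [h7]
        exact h8.mul_pow k
      calc (U - 1) ^ k = (e + e') * (U - 1) ^ k := by rw [h1, one_mul]
        _ = e * (U - 1) ^ k + e' * (U - 1) ^ k := add_mul _ _ _
        _ = 0 := by rw [(hcU1.pow_right k).eq, h2, h6, ← mul_assoc, h5, zero_mul, add_zero]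

end Cfsg.Agent.H21.GLu
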