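import Mathlib
import Cfsg.Agent.H21_GLu4

/-!
# Unitary groups, V: the dichotomy and the mixed slot
-/

set_option autoImplicit false
open Polynomial
open scoped Matrix

namespace Cfsg.Agent.H21.GLu

open Cfsg.Agent.H5 Cfsg.Agent.H21.GLo Cfsg.Agent.H21.GLf

universe u v w

theorem su_pow {F : Type*} [Field F] [Fintype F] (p : ℕ) [hp : Fact p.Prime] [CharP F p] {q : ℕ} (hF : Fintype.card F = q ^ 2)
    {V : Type*} [AddCommGroup V] [Module F V]
    [Module.Finite F V] [Nontrivial V] {A : Frm F (Fld.frob hF) 1 (Herm.tr hF) V} (hA : A.Nondeg) (hh : Herm.IsHerm hF A) {Y : Module.End F V}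
    (hY : ∀ u v, A.B (Y u) (Y v) = A.B u v) {w : ℕ} (hw : Y ^ w = 1) (hwp : ¬ p ∣ w)
    (hno : ∀ e : Module.End F V, Idem Y e → Adj A e e → e = 0 ∨ e = 1) (hdet : LinearMap.det Y = 1) {n : ℕ} (hn : Module.finrank F V = n) :
    Y ^ (Sn q n) = 1 ∧ ∃ a : F, Y ^ (M0 q n) = algebraMap F _ a := by
  have hq2 : 2 ≤ q := Fld.one_lt_q hF
  have hn0 : n ≠ 0 := by rw [← hn]; exact Module.finrank_pos.ne'
  have hred : (∀ N : ℕ, Y ^ (N * (q + 1)) = 1 → ∃ a : F, Y ^ N = algebraMap F _ a) → Y ^ (Sn q n) = 1 → ∃ a : F, Y ^ (M0 q n) = algebraMap F _ a := by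
    intro h1 h2
    obtain ⟨u, hu⟩ := M0_mul (q := q) (n := n) (by omega) hn0
    exact h1 _ (by rw [hu, pow_mul, h2, one_pow])
  rcases su_struct p hF hA hh hY hw hwp hno with ⟨D, k, hD, hk, hDk, hYD, ⟨c, hc, hYc, hdc⟩, hS, -⟩ | ⟨D, k, e, e', hD, hk, hDk, he, he', hee, hee', h1, hadj, hYD, ⟨c, hc, hYc, hdc⟩, hsc, hS, -⟩
  · have key : Y ^ (Sn q n) = 1 := by
      obtain ⟨t, ht, htd⟩ := Sn_mul_Sn (q := q) (k := k) hq2 hD
      rw [← hn, ← hDk, ht, pow_mul, hYc, ← map_pow]
      have h2 : c ^ t = 1 := by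
        rw [← orderOf_dvd_iff_pow_eq_one]
        refine (Nat.dvd_gcd (orderOf_dvd_of_pow_eq_one ?_) (orderOf_dvd_of_pow_eq_one hc)).trans htd
        rw [← hdc, hdet]
      rw [h2, map_one]
    exact ⟨key, hred hS key⟩
  · have key : Y ^ (Sn q n) = 1 := by
      have h2 := Sn_even_eq (q := q) (D := D) (k := k) hq2 n (by rw [hDk, hn])
      rw [hdet, one_mul] at hdc
      have hpowe : ∀ m : ℕ, Y ^ ((∑ i ∈ Finset.range D, (q ^ 2) ^ i) * m) * e = c ^ m • e := by
        intro m
        induction m with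
        | zero => rw [mul_zero, pow_zero, pow_zero, one_mul, one_smul]
        | succ m ih =>
          have hcY : Commute e Y := he.commute (Commute.refl Y)
          rw [mul_add, mul_one, pow_add, mul_assoc, hYc, mul_smul_comm, ih, smul_smul, pow_succ']
      have h3 : Y ^ (Sn q n) * e = (1 : F) • e := by
        rw [h2, hpowe]
        congr 1
        have h4 : c ^ (∑ j ∈ Finset.range k, ((q ^ 2) ^ D) ^ j) = c ^ k := by
          rw [← Finset.prod_pow_eq_pow_sum]
          rw [Finset.prod_congr rfl (g := fun _ => c) (by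
            intro j _
            rw [← pow_mul, ← hF]
            exact FiniteField.pow_card_pow (D * j) c)]
          rw [Finset.prod_const, Finset.card_range]
        rw [mul_comm, pow_mul, h4]
        have h5 : (c ^ k) ^ (q - 1) * c ^ k = 1 * c ^ k := by
          rw [← pow_succ, Nat.sub_add_cancel (by omega), hdc, one_mul]
        exact mul_right_cancel₀ (pow_ne_zero _ hc) h5
      have h4 := hsc _ 1 (one_pow _) h3
      rwa [map_one] at h4
    exact ⟨key, hred hS key⟩

/-- commuting self-adjoint idempotents give commuting elements of order `r` -/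
theorem exists_comm_of_idem {F : Type*} [Field F] [Fintype F] {q n r : ℕ} (hF : Fintype.card F = q ^ 2) (hn : 2 ≤ n)
    (hr : r.Prime) (hrq : r ∣ q + 1) (hrn : ¬ r ∣ n)
    (X : Cfsg.SU n F q) (e : Matrix (Fin n) (Fin n) F) (he : e * e = e) (he0 : e ≠ 0) (he1 : e ≠ 1)
    (hc : Commute e (Unit.mat X)) (hee : ∀ u v, Cfsg.hermForm n F q (e *ᵥ u) v = Cfsg.hermForm n F q u (e *ᵥ v)) :
    ∃ Z : Cfsg.SU n F q, Commute Z X ∧ orderOf (QuotientGroup.mk Z : Cfsg.PSU n F q) = r := by
  classical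
  have hq2 : 2 ≤ q := Fld.one_lt_q hF
  obtain ⟨ζ, hζ⟩ := exists_order (E := F) (m := r) (by
    rw [Nat.card_eq_fintype_card, hF]
    obtain ⟨t, rfl⟩ : ∃ t, q = t + 1 := ⟨q - 1, by omega⟩
    have : (t + 1) ^ 2 = (t + 1 + 1) * t + 1 := by ring
    rw [this, Nat.add_sub_cancel]
    exact hrq.mul_right t)
  have hprim : IsPrimitiveRoot ζ r := by rw [← hζ]; exact IsPrimitiveRoot.orderOf ζ
  have hcard := hprim.card_nthRootsFinset
  set S := Polynomial.nthRootsFinset r (1 : F) with hS
  have hmem : ∀ x : F, x ∈ S ↔ x ^ r = 1 := fun x => Polynomial.mem_nthRootsFinset hr.pos 1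
  have hlt : S.card < (S ×ˢ S).card := by
    rw [Finset.card_product, hcard]
    have := hr.one_lt
    nlinarith
  obtain ⟨x, hx, y, hy, hxy, hdet⟩ := Finset.exists_ne_map_eq_of_card_lt_of_maps_to hlt
    (f := fun x => Matrix.det (comb e x)) (by
      intro x hx
      rw [Finset.mem_coe, Finset.mem_product, hmem, hmem] at hx
      rw [Finset.mem_coe, hmem]
      change (Matrix.det (comb e x)) ^ r = 1
      rw [← Matrix.det_pow, comb_pow he]
      have : x ^ r = 1 := Prod.ext hx.1 hx.2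
      rw [this, comb_one, Matrix.det_one])
  rw [Finset.mem_product, hmem, hmem] at hx hy
  have hy1 : y.1 ≠ 0 := by rintro h; rw [h, zero_pow hr.ne_zero] at hy; exact zero_ne_one hy.1
  have hy2 : y.2 ≠ 0 := by rintro h; rw [h, zero_pow hr.ne_zero] at hy; exact zero_ne_one hy.2
  have hx1 : x.1 ≠ 0 := by rintro h; rw [h, zero_pow hr.ne_zero] at hx; exact zero_ne_one hx.1
  have hx2 : x.2 ≠ 0 := by rintro h; rw [h, zero_pow hr.ne_zero] at hx; exact zero_ne_one hx.2
  set z : F × F := (x.1 / y.1, x.2 / y.2) with hz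
  have hzy : z * y = x := Prod.ext (div_mul_cancel₀ _ hy1) (div_mul_cancel₀ _ hy2)
  have hzr : z ^ r = 1 := by
    apply Prod.ext
    · change (x.1 / y.1) ^ r = 1
      rw [div_pow, hx.1, hy.1, div_one]
    · change (x.2 / y.2) ^ r = 1
      rw [div_pow, hx.2, hy.2, div_one]
  have hzne : z ≠ 1 := by
    intro h
    rw [h, one_mul] at hzy
    exact hxy hzy.symm
  have hdz : Matrix.det (comb e z) = 1 := by
    have h1 : Matrix.det (comb e z) * Matrix.det (comb e y) = Matrix.det (comb e x) := by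
      rw [← Matrix.det_mul, comb_mul he, hzy]
    have h2 : Matrix.det (comb e y) ≠ 0 := by
      intro h0
      have h3 : (Matrix.det (comb e y)) ^ r = 1 := by
        rw [← Matrix.det_pow, comb_pow he]
        have : y ^ r = 1 := Prod.ext hy.1 hy.2
        rw [this, comb_one, Matrix.det_one]
      rw [h0, zero_pow hr.ne_zero] at h3
      exact zero_ne_one h3
    have h3 : Matrix.det (comb e x) = Matrix.det (comb e y) := hdet
    rw [h3] at h1
    exact mul_right_cancel₀ h2 (h1.trans (one_mul _).symm)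
  have hzq : z.1 ^ q * z.1 = 1 ∧ z.2 ^ q * z.2 = 1 := by
    obtain ⟨t, ht⟩ := hrq
    rw [← pow_succ, ← pow_succ, ht, pow_mul, pow_mul]
    have k1 : z.1 ^ r = 1 := congrArg Prod.fst hzr
    have k2 : z.2 ^ r = 1 := congrArg Prod.snd hzr
    rw [k1, k2, one_pow]
    exact ⟨rfl, rfl⟩
  have hiso : ∀ u v, Cfsg.hermForm n F q (comb e z *ᵥ u) (comb e z *ᵥ v) = Cfsg.hermForm n F q u v := by
    intro u v
    have h0 : ∀ u, comb e z *ᵥ u = z.1 • (e *ᵥ u) + z.2 • (u - e *ᵥ u) := by
      intro u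
      simp only [comb, Matrix.add_mulVec, Matrix.smul_mulVec, Matrix.sub_mulVec, Matrix.one_mulVec]
    have hE : ∀ u, e *ᵥ (e *ᵥ u) = e *ᵥ u := by intro u; rw [Matrix.mulVec_mulVec, he]
    have hsub : ∀ x y z : Fin n → F, Cfsg.hermForm n F q (x - y) z = Cfsg.hermForm n F q x z - Cfsg.hermForm n F q y z := by
      intro x y z
      have := Unit.herm_add_left (q := q) (x - y) y z
      rw [sub_add_cancel] at this
      rw [this]; ring
    have hsub' : ∀ x y z : Fin n → F, Cfsg.hermForm n F q x (y - z) = Cfsg.hermForm n F q x y - Cfsg.hermForm n F q x z := by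
      intro x y z
      have := Unit.herm_add_right hF x (y - z) z
      rw [sub_add_cancel] at this
      rw [this]; ring
    set a := Cfsg.hermForm n F q u v with ha
    set b := Cfsg.hermForm n F q (e *ᵥ u) v with hb
    have k1 : Cfsg.hermForm n F q u (e *ᵥ v) = b := (hee u v).symm
    have k2 : Cfsg.hermForm n F q (e *ᵥ u) (e *ᵥ v) = b := by rw [hee, hE, k1]
    rw [h0, h0, Unit.herm_add_left, Unit.herm_add_right hF, Unit.herm_add_right hF]
    simp only [Unit.herm_smul_left, Unit.herm_smul_right, hsub, hsub']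
    rw [k1, k2, ← ha]
    rw [← hb]
    linear_combination b * hzq.1 + (a - b) * hzq.2
  obtain ⟨Z, hZ⟩ : ∃ Z : Cfsg.SU n F q, Unit.mat Z = comb e z := ⟨⟨⟨comb e z, hdz⟩, hiso⟩, rfl⟩
  refine ⟨Z, ?_, ?_⟩
  · apply Subtype.ext
    apply Subtype.ext
    change Unit.mat Z * Unit.mat X = Unit.mat X * Unit.mat Z
    rw [hZ]
    exact (comb_commute hc z).eq
  · haveI : Fact r.Prime := ⟨hr⟩
    apply orderOf_eq_prime
    · rw [su_mk_pow_iff hF hn]
      refine ⟨1, ?_⟩
      rw [hZ, comb_pow he, hzr, comb_one, map_one]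
    · intro h1
      rw [← pow_one (QuotientGroup.mk Z : Cfsg.PSU n F q), su_mk_pow_iff hF hn] at h1
      obtain ⟨c, hc1⟩ := h1
      rw [pow_one, hZ, ← comb_diag e] at hc1
      have h2 := comb_inj he he0 he1 hc1
      have h3 : c ^ n = 1 := by
        rw [h2, comb_diag, Algebra.algebraMap_eq_smul_one, Matrix.det_smul, Matrix.det_one, mul_one, Fintype.card_fin] at hdz
        exact hdz
      have h4 : c ^ r = 1 := by
        have := congrArg Prod.fst hzr
        rw [h2] at this
        exact this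
      have h5 := Nat.dvd_gcd (orderOf_dvd_of_pow_eq_one h3) (orderOf_dvd_of_pow_eq_one h4)
      have h6 : Nat.gcd n r = 1 := ((Nat.Prime.coprime_iff_not_dvd hr).mpr hrn).symm
      rw [h6] at h5
      have h7 := orderOf_eq_one_iff.mp (Nat.dvd_one.mp h5)
      apply hzne
      rw [h2, h7]; rfl

/-- elements of `SU_n` as isometries -/
theorem su_end {F : Type*} [Field F] [Fintype F] {q n : ℕ} (hF : Fintype.card F = q ^ 2) (X : Cfsg.SU n F q) :
    ∀ u v, (Conc.hermFrm hF n).B (Matrix.toLin' (Unit.mat X) u) (Matrix.toLin' (Unit.mat X) v) = (Conc.hermFrm hF n).B u v := by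
  intro u v
  rw [Conc.hermFrm_B, Conc.hermFrm_B, Matrix.toLin'_apply, Matrix.toLin'_apply]
  exact Unit.SU_herm X v u

/-- the dichotomy -/
theorem dichotomy (p : ℕ) [hp : Fact p.Prime] {F : Type*} [Field F] [Fintype F] [CharP F p] {q n r : ℕ} (hF : Fintype.card F = q ^ 2) (hn : 2 ≤ n)
    (hr : r.Prime) (hrq : r ∣ q + 1) (hrn : ¬ r ∣ n)
    {o : ℕ} (ho : o ∈ Set.range (orderOf : Cfsg.PSU n F q → ℕ)) (hro : ¬ r ∣ o) :
    r * o ∈ Set.range (orderOf : Cfsg.PSU n F q → ℕ) ∨ ∃ T : ℕ, o ∣ p ^ T * M0 q n := by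
  obtain ⟨g, rfl⟩ := ho
  obtain ⟨X, rfl⟩ := QuotientGroup.mk_surjective g
  haveI : Finite (Cfsg.SU n F q) := inferInstance
  by_cases h : ∀ e : Matrix (Fin n) (Fin n) F, e * e = e → Commute e (Unit.mat X) →
      (∀ u v, Cfsg.hermForm n F q (e *ᵥ u) v = Cfsg.hermForm n F q u (e *ᵥ v)) → e = 0 ∨ e = 1
  · right
    obtain ⟨T, w, hw, ho⟩ := Nat.exists_eq_pow_mul_and_not_dvd (orderOf_pos X).ne' p hp.out.ne_one
    refine ⟨T, ?_⟩
    set f : Module.End F (Fin n → F) := Matrix.toLin' (Unit.mat X) with hf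
    have hpow : ∀ s : ℕ, f ^ s = Matrix.toLin' (Unit.mat X ^ s) := fun s => (map_pow (Matrix.toLinAlgEquiv' (R := F) (n := Fin n)) (Unit.mat X) s).symm
    set Y : Module.End F (Fin n → F) := f ^ (p ^ T) with hY
    have hXo : Unit.mat X ^ (orderOf X) = 1 := by
      have : Unit.mat (X ^ orderOf X) = (Unit.mat X) ^ (orderOf X) := rfl
      rw [← this, pow_orderOf_eq_one]; rfl
    have hYw : Y ^ w = 1 := by
      rw [hY, ← pow_mul, ← ho, hpow, hXo]
      exact Matrix.toLin'_one
    haveI : Nontrivial (Fin n → F) := Module.nontrivial_of_finrank_pos (R := F) (by rw [Module.finrank_fin_fun]; omega)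
    have hiso : ∀ (s : ℕ) (u v : Fin n → F), (Conc.hermFrm hF n).B ((f ^ s) u) ((f ^ s) v) = (Conc.hermFrm hF n).B u v := by
      intro s
      induction s with
      | zero => intro u v; rfl
      | succ s ih => intro u v; rw [pow_succ', Module.End.mul_apply, Module.End.mul_apply, hf, su_end hF X, ← hf, ih]
    have hdet : LinearMap.det Y = 1 := by
      rw [hY, map_pow, hf, LinearMap.det_toLin', X.1.2, one_pow]
    obtain ⟨-, a, ha⟩ := su_pow p hF (Conc.hermFrm_nondeg hF n) (fun v => rfl) (hiso (p ^ T)) hYw hw (by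
      intro e he hee
      have h1 := h (LinearMap.toMatrix' e) (by
          rw [← LinearMap.toMatrix'_mul, he.1]) (by
          have h2 : Commute e f := he.commute ((Commute.refl f).pow_left _)
          have h3 := h2.map (LinearMap.toMatrixAlgEquiv' (R := F) (n := Fin n))
          have h4 : LinearMap.toMatrixAlgEquiv' f = Unit.mat X := LinearMap.toMatrixAlgEquiv'_toLinAlgEquiv' _
          rw [h4] at h3
          exact h3) (by
          intro u v
          rw [LinearMap.toMatrix'_mulVec, LinearMap.toMatrix'_mulVec]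
          have := hee v u
          rw [Conc.hermFrm_B, Conc.hermFrm_B] at this
          exact this.symm)
      rcases h1 with h1 | h1
      · left
        exact LinearMap.toMatrix'.injective (h1.trans (map_zero _).symm)
      · right
        exact LinearMap.toMatrix'.injective (h1.trans LinearMap.toMatrix'_one.symm)) hdet (Module.finrank_fin_fun F)
    apply orderOf_dvd_of_pow_eq_one
    rw [su_mk_pow_iff hF hn]
    refine ⟨a, ?_⟩
    rw [← pow_mul, hpow] at ha
    apply (Matrix.toLinAlgEquiv' (R := F) (n := Fin n)).injective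
    rw [AlgEquiv.commutes]
    exact ha
  · left
    push Not at h
    obtain ⟨e, he, hc, hee, he0, he1⟩ := h
    obtain ⟨Z, hZ, hZr⟩ := exists_comm_of_idem hF hn hr hrq hrn X e he he0 he1 hc hee
    refine ⟨(QuotientGroup.mk Z : Cfsg.PSU n F q) * QuotientGroup.mk X, ?_⟩
    have h1 : Commute (QuotientGroup.mk Z : Cfsg.PSU n F q) (QuotientGroup.mk X) :=
      hZ.map (QuotientGroup.mk' _)
    rw [h1.orderOf_mul_eq_mul_orderOf_of_coprime (by rw [hZr]; exact (Nat.Prime.coprime_iff_not_dvd hr).mpr hro), hZr]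

theorem r_mem {F : Type*} [Field F] [Fintype F] {q n r : ℕ} (hF : Fintype.card F = q ^ 2) (hn : 2 ≤ n) (hr : r.Prime) (hrq : r ∣ q + 1) (hrn : ¬ r ∣ n) :
    r ∈ Set.range (orderOf : Cfsg.PSU n F q → ℕ) := by
  obtain ⟨Z, -, hZ⟩ := exists_comm_of_idem hF hn hr hrq hrn (1 : Cfsg.SU n F q)
    (Matrix.diagonal (fun i => if i = ⟨0, by omega⟩ then 1 else 0)) (by
      rw [Matrix.diagonal_mul_diagonal]
      congr 1
      funext i
      split_ifs <;> simp) (by
      intro h
      have := congrFun (congrFun h ⟨0, by omega⟩) ⟨0, by omega⟩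
      simp at this) (by
      intro h
      have := congrFun (congrFun h ⟨1, by omega⟩) ⟨1, by omega⟩
      simp at this) (Commute.one_right _) (by
      intro u v
      simp only [Cfsg.hermForm, Matrix.mulVec_diagonal]
      apply Finset.sum_congr rfl
      intro i _
      split_ifs with hi
      · ring
      · have hq2 : 2 ≤ q := Fld.one_lt_q hF
        rw [zero_mul, zero_mul, zero_mul, zero_pow (by omega), mul_zero])
  exact ⟨_, hZ⟩

end Cfsg.Agent.H21.GLu
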