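import Mathlib
import Cfsg.Agent.H21_GLu5

/-!
# Unitary groups, VI: direct powers of `PSU_n(q)`
-/

set_option autoImplicit false
open Polynomial
open scoped Matrix

namespace Cfsg.Agent.H21.GLu

open Cfsg.Agent.H5 Cfsg.Agent.H21.GLo Cfsg.Agent.H21.GLf

universe u v w

/-- orders of `p`-elements -/
theorem p_bound (p : ℕ) [hp : Fact p.Prime] {F : Type*} [Field F] [Fintype F] [CharP F p] {q n s : ℕ} (hF : Fintype.card F = q ^ 2) (hn : 2 ≤ n)
    (g : Cfsg.PSU n F q) (h : p ^ (s + 1) ∣ orderOf g) : p ^ s < n := by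
  haveI : Finite (Cfsg.PSU n F q) := inferInstance
  by_contra hcon
  push Not at hcon
  obtain ⟨c, hc⟩ := h
  have hpos := orderOf_pos g
  have hc0 : c ≠ 0 := by rintro rfl; rw [mul_zero] at hc; omega
  have h1 : orderOf (g ^ c) = p ^ (s + 1) := by
    rw [orderOf_pow' _ hc0, hc, Nat.gcd_eq_right (Dvd.intro_left _ rfl)]
    exact Nat.mul_div_cancel _ (Nat.pos_of_ne_zero hc0)
  obtain ⟨X, hX⟩ := QuotientGroup.mk_surjective (g ^ c)
  rw [← hX] at h1
  obtain ⟨l, hl⟩ := (su_mk_pow_iff hF hn X _).mp (pow_orderOf_eq_one (QuotientGroup.mk X : Cfsg.PSU n F q))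
  rw [h1] at hl
  obtain ⟨a, ha⟩ := FiniteField.card F p
  -- a root of `l`
  obtain ⟨μ, hμ⟩ : ∃ μ : F, μ ^ (p ^ (s + 1)) = l := by
    refine ⟨l ^ ((p ^ ((a : ℕ) - 1)) ^ (s + 1)), ?_⟩
    have ha1 : (a : ℕ) - 1 + 1 = a := Nat.sub_add_cancel a.pos
    rw [← pow_mul, ← mul_pow, ← pow_succ, ha1, ← ha.2]
    exact FiniteField.pow_card_pow (s + 1) l
  haveI : NeZero n := ⟨by omega⟩
  set M := Unit.mat X - algebraMap F _ μ with hM
  have hcomm : Commute (Unit.mat X) (algebraMap F _ μ) := (Algebra.commutes μ _).symm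
  have hnil : M ^ (p ^ (s + 1)) = 0 := by
    rw [hM, sub_pow_char_pow_of_commute _ _ hcomm, hl, ← map_pow, hμ, sub_self]
  have hnil2 : M ^ n = 0 := by
    have h3 : IsNilpotent (Matrix.toLinAlgEquiv' M) := ⟨p ^ (s + 1), by rw [← map_pow, hnil, map_zero]⟩
    rw [LinearMap.isNilpotent_iff_charpoly] at h3
    have h4 := LinearMap.aeval_self_charpoly (Matrix.toLinAlgEquiv' M)
    rw [h3, map_pow, Polynomial.aeval_X, Module.finrank_fin_fun, ← map_pow] at h4
    exact Matrix.toLinAlgEquiv'.injective (h4.trans (map_zero _).symm)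
  have hnil3 : M ^ (p ^ s) = 0 := by
    obtain ⟨d, hd⟩ := Nat.exists_eq_add_of_le hcon
    rw [hd, pow_add, hnil2, zero_mul]
  rw [hM, sub_pow_char_pow_of_commute _ _ hcomm, ← map_pow, sub_eq_zero] at hnil3
  have h5 : (QuotientGroup.mk X : Cfsg.PSU n F q) ^ (p ^ s) = 1 := (su_mk_pow_iff hF hn X _).mpr ⟨_, hnil3⟩
  have h6 := orderOf_dvd_of_pow_eq_one h5
  rw [h1, Nat.pow_dvd_pow_iff_le_right hp.out.one_lt] at h6
  omega

/-- unipotent blocks -/
theorem exists_unip_ublk (F : Type u) [Field F] [Fintype F] (p : ℕ) [hp : Fact p.Prime] [CharP F p] {q : ℕ} (hF : Fintype.card F = q ^ 2)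
    {m s : ℕ} (hs : p ^ s < m) :
    ∃ b : UBlk.{u, u} F (Fld.frob hF) m, LinearMap.det b.f = 1 ∧ (∃ T, b.f ^ (p ^ T) = 1) ∧ p ^ (s + 1) ∣ orderOf b.f := by
  have hθ : ∃ θ : F, θ + 1 * (-1) ^ (m - 1) * (Fld.frob hF) θ ≠ 0 := by
    by_contra hcon
    push Not at hcon
    have h1 := hcon 1
    rw [map_one] at h1
    apply Fld.frob_ne_id hF
    ext θ
    have h2 := hcon θ
    have h3 : (1 : F) * (-1) ^ (m - 1) = -1 := by linear_combination h1
    rw [h3] at h2
    rw [RingHom.id_apply]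
    linear_combination -h2
  obtain ⟨B, _, _, _, _, u, bar, l, T, hB, huT, hord, hNu, hbb, hbarc, hbaru, hl, hnd⟩ := exists_unip_form F p (Fld.frob hF) (Fld.frob_frob hF) 1 (Or.inl rfl) hs hθ
  refine ⟨UBlk.mk B inferInstance inferInstance inferInstance (fun a b => l (bar a * b)) ?_ ?_ ?_ ?_ (LinearMap.mulLeft F u) ?_ hB, ?_, ⟨T, ?_⟩, ?_⟩
  · intro x y z; rw [mul_add, map_add]
  · intro c x y; rw [mul_smul_comm, map_smul, smul_eq_mul]
  · intro x y
    rw [← one_mul (Fld.frob hF _), ← hl, map_mul bar, hbb, mul_comm]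
  · intro x hx
    have h1 := hnd (bar x) (fun b => hx b)
    rw [← hbb x, h1, map_zero]
  · intro x y
    rw [LinearMap.mulLeft_apply, LinearMap.mulLeft_apply, map_mul bar]
    congr 1
    linear_combination (bar x * y) * hbaru
  · exact hNu
  · change (LinearMap.mulLeft F u) ^ (p ^ T) = 1
    rw [LinearMap.pow_mulLeft, huT, LinearMap.mulLeft_one]; rfl
  · change p ^ (s + 1) ∣ orderOf (LinearMap.mulLeft F u)
    have h1 : orderOf (LinearMap.mulLeft F u) = orderOf u := by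
      apply order_of_pow_iff
      intro k
      rw [LinearMap.pow_mulLeft]
      constructor
      · intro h
        have := LinearMap.congr_fun h 1
        rwa [LinearMap.mulLeft_apply, mul_one] at this
      · intro h
        rw [h, LinearMap.mulLeft_one]; rfl
    rw [h1]; exact hord

/-- unipotent powers that are scalars -/
theorem unip_scalar {F : Type*} [Field F] [Fintype F] (p : ℕ) [hp : Fact p.Prime] [CharP F p] {V : Type*} [AddCommGroup V] [Module F V] [Nontrivial V]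
    {u : Module.End F V} {T o : ℕ} (huT : u ^ (p ^ T) = 1) {a : F} (h : u ^ o = algebraMap F _ a) : a = 1 := by
  apply eq_one_of_coprime (m := p ^ T) (pow_ne_zero _ hp.out.ne_zero) _ (Nat.Coprime.pow_left _ (coprime_p p))
  apply (algebraMap F (Module.End F V)).injective
  rw [map_pow, ← h, ← pow_mul, mul_comm, pow_mul, huT, one_pow, map_one]

/-- mixed slot: `p`-elements times elements of order dividing `q + 1` in `U_1 × J_{n-1}` -/
theorem mixed_gen (p : ℕ) [hp : Fact p.Prime] {F : Type u} [Field F] [Fintype F] [CharP F p] {q n s t : ℕ} (hF : Fintype.card F = q ^ 2)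
    (hn : 2 ≤ n) (ht : t ∣ q + 1) (hs : p ^ s < n - 1) :
    ∃ g : Cfsg.PSU n F q, p ^ (s + 1) ∣ orderOf g ∧ t ∣ n * orderOf g := by
  have hq2 : 2 ≤ q := Fld.one_lt_q hF
  haveI : Finite (Cfsg.PSU n F q) := inferInstance
  obtain ⟨b, hbd, ⟨T, hbT⟩, hbo⟩ := exists_unip_ublk F p hF hs
  obtain ⟨ζ, hζ⟩ := exists_order (E := F) (m := t) (by
    rw [Nat.card_eq_fintype_card, hF]
    obtain ⟨x, rfl⟩ : ∃ x, q = x + 1 := ⟨q - 1, by omega⟩
    have : (x + 1) ^ 2 = (x + 1 + 1) * x + 1 := by ring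
    rw [this, Nat.add_sub_cancel]
    exact ht.mul_right x)
  have ht0 : t ≠ 0 := by rintro rfl; have := Nat.eq_zero_of_zero_dvd ht; omega
  have hζt : ζ ^ t = 1 := by rw [← hζ, pow_orderOf_eq_one]
  have hζ0 : ζ ≠ 0 := by
    rintro rfl
    rw [zero_pow ht0] at hζt
    exact zero_ne_one hζt
  have hζq : ζ ^ (q + 1) = 1 := by obtain ⟨c, hc⟩ := ht; rw [hc, pow_mul, hζt, one_pow]
  have ha1 : Fld.frob hF ζ * ζ = 1 := by rw [Fld.frob_apply, ← pow_succ, hζq]
  have ha2 : Fld.frob hF ((ζ ^ (n - 1))⁻¹) * (ζ ^ (n - 1))⁻¹ = 1 := by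
    rw [Fld.frob_apply, ← pow_succ, inv_pow, ← pow_mul, mul_comm, pow_mul, hζq, one_pow, inv_one]
  haveI : Nontrivial b.V := Module.nontrivial_of_finrank_pos (R := F) (by rw [b.dim]; exact lt_of_le_of_lt (Nat.zero_le _) hs)
  obtain ⟨c, hc⟩ : ∃ c : UBlk.{u, u} F (Fld.frob hF) (n - 1 + 1), c = (b.scale ζ ha1).sum (UBlk.line F (Fld.frob hF) (Fld.frob_frob hF) _ ha2) := ⟨_, rfl⟩
  have hcd : LinearMap.det c.f = 1 := by
    rw [hc, UBlk.sum_det, UBlk.scale_det, UBlk.line_det, hbd, mul_one, mul_inv_cancel₀ (pow_ne_zero _ hζ0)]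
  have hcs : ∀ (o : ℕ) (a : F), c.f ^ o = algebraMap F _ a → b.f ^ o = algebraMap F _ ((ζ ^ o)⁻¹ * a) ∧ ((ζ ^ (n - 1))⁻¹) ^ o = a := by
    intro o a h
    subst hc
    obtain ⟨h1, h2⟩ := UBlk.sum_scalar _ _ h
    rw [UBlk.scale_pow] at h1
    rw [UBlk.line_pow] at h2
    refine ⟨?_, (algebraMap F (Module.End F F)).injective h2⟩
    have h3 : b.f ^ o = (ζ ^ o)⁻¹ • (ζ ^ o • b.f ^ o) := by rw [smul_smul, inv_mul_cancel₀ (pow_ne_zero _ hζ0), one_smul]
    have h4 : (ζ ^ o • b.f ^ o : Module.End F b.V) = algebraMap F (Module.End F b.V) a := h1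
    rw [h3, h4, map_mul, Algebra.smul_def]
  have hn1 : n - 1 + 1 = n := by omega
  obtain ⟨g, hg⟩ : ∃ g : Cfsg.PSU n F q, ∀ s : ℕ, g ^ s = 1 ↔ ∃ a : F, c.f ^ s = algebraMap F _ a := by
    clear hcs hc
    revert c
    rw [hn1]
    intro c hcd
    exact c.exists_psu hF hn hcd
  obtain ⟨a, ha⟩ := (hg (orderOf g)).mp (pow_orderOf_eq_one g)
  obtain ⟨h1, h2⟩ := hcs _ _ ha
  have h3 := unip_scalar p hbT h1
  rw [h3, map_one] at h1
  refine ⟨g, hbo.trans (orderOf_dvd_of_pow_eq_one h1), ?_⟩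
  have h4 : a = ζ ^ orderOf g := by
    have := congrArg (ζ ^ orderOf g * ·) h3
    simp only [mul_one] at this
    rwa [← mul_assoc, mul_inv_cancel₀ (pow_ne_zero _ hζ0), one_mul] at this
  rw [h4, inv_pow] at h2
  have h5 := congrArg (((ζ ^ (n - 1)) ^ orderOf g) * ·) h2
  rw [mul_inv_cancel₀ (pow_ne_zero _ (pow_ne_zero _ hζ0)), ← pow_mul, ← pow_add] at h5
  rw [← hζ]
  apply orderOf_dvd_of_pow_eq_one
  rw [h5]
  congr 1
  generalize orderOf g = o
  have : n = (n - 1) + 1 := hn1.symm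
  conv_lhs => rw [this]
  ring

theorem mixed (p : ℕ) [hp : Fact p.Prime] {F : Type*} [Field F] [Fintype F] [CharP F p] {q n s r : ℕ} (hF : Fintype.card F = q ^ 2)
    (hn : 2 ≤ n) (hr : r.Prime) (hrq : r ∣ q + 1) (hrn : ¬ r ∣ n) (hs : p ^ s < n - 1) :
    p ^ (s + 1) * r ∈ Set.range (orderOf : Cfsg.PSU n F q → ℕ) := by
  haveI : Finite (Cfsg.PSU n F q) := inferInstance
  obtain ⟨g, hg1, hg2⟩ := mixed_gen p hF hn hrq hs
  apply mem_range_of_dvd (m := orderOf g) ⟨g, rfl⟩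
  have hg3 : r ∣ orderOf g := ((hr.dvd_mul).mp hg2).resolve_left hrn
  refine Nat.Coprime.mul_dvd_of_dvd_of_dvd (Nat.Coprime.pow_left _ ?_) hg1 hg3
  obtain ⟨k, hk, hqk⟩ := Fld.exists_prime_pow hF p
  have h1 : Nat.Coprime p (q + 1) := by
    rw [Nat.Prime.coprime_iff_not_dvd hp.out]
    intro h
    have h2 : p ∣ q := by rw [hqk]; exact dvd_pow_self p hk.ne'
    have h3 := (Nat.dvd_add_right h2).mp h
    exact hp.out.one_lt.ne' (Nat.dvd_one.mp h3)
  exact h1.coprime_dvd_right hrq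

theorem psu_powers {F : Type*} [Field F] [Fintype F] (p a n q r m : ℕ) (hp : p.Prime) (ha : 1 ≤ a) (hq : q = p ^ a) (hF : Fintype.card F = q ^ 2)
    (hn : 3 ≤ n) (hr : r.Prime) (hrq : r ∣ q + 1) (hrn : ¬ r ∣ n) :
    Set.range (orderOf : Cfsg.PSU n F q × Cfsg.PSU n F q × Cfsg.PSU n F q × Multiplicative (Fin m → ZMod r) → ℕ) = Set.range (orderOf : Cfsg.PSU n F q × Cfsg.PSU n F q × Cfsg.PSU n F q → ℕ) ∧
    ((¬ ∃ j : ℕ, n - 1 = p ^ j) →
      Set.range (orderOf : Cfsg.PSU n F q × Cfsg.PSU n F q × Multiplicative (Fin m → ZMod r) → ℕ) = Set.range (orderOf : Cfsg.PSU n F q × Cfsg.PSU n F q → ℕ)) := by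
  haveI : Fact p.Prime := ⟨hp⟩
  haveI : CharP F p := by
    obtain ⟨p', hp'⟩ := CharP.exists F
    haveI : Fact p'.Prime := ⟨CharP.char_is_prime F p'⟩
    obtain ⟨b, hb⟩ := FiniteField.card F p'
    rw [hF, hq, ← pow_mul] at hb
    have h1 : p' ∣ p ^ (a * 2) := by rw [hb.2]; exact dvd_pow_self p' b.ne_zero
    have h2 := (Nat.prime_dvd_prime_iff_eq hb.1 hp).mp (hb.1.dvd_of_dvd_pow h1)
    rw [← h2]; exact hp'
  have hn2 : 2 ≤ n := by omega
  haveI : Finite (Cfsg.PSU n F q) := inferInstance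
  set O := Set.range (orderOf : Cfsg.PSU n F q → ℕ) with hO
  have hone : 1 ∈ O := ⟨1, orderOf_one⟩
  have hr1 : r ∈ O := r_mem hF hn2 hr hrq hrn
  have hpos : ∀ a ∈ O, a ≠ 0 := by rintro _ ⟨g, rfl⟩; exact (orderOf_pos g).ne'
  have hdvd : ∀ a ∈ O, ∀ b, b ∣ a → b ∈ O := fun a ha b hb => mem_range_of_dvd ha hb
  have hdich : ∀ a ∈ O, ¬ r ∣ a → r * a ∈ O ∨ ∃ T : ℕ, a ∣ p ^ T * M0 q n :=
    fun a ha hra => dichotomy p hF hn2 hr hrq hrn ha hra
  have hsing := torus (F := F) (n := n) hF hn2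
  rw [← hO] at hsing
  set M := M0 q n with hM
  have hZ : ∀ t ∈ Set.range (orderOf : Multiplicative (Fin m → ZMod r) → ℕ), t = 1 ∨ t = r := by
    rintro _ ⟨z, rfl⟩
    have h1 : z ^ r = 1 := by
      apply Multiplicative.toAdd.injective
      funext i
      change r • (Multiplicative.toAdd z i) = 0
      rw [nsmul_eq_mul, CharP.cast_eq_zero, zero_mul]
    exact (Nat.dvd_prime hr).mp (orderOf_dvd_of_pow_eq_one h1)
  have hZ1 : 1 ∈ Set.range (orderOf : Multiplicative (Fin m → ZMod r) → ℕ) := ⟨1, orderOf_one⟩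
  have hrmul : ∀ a, ¬ r ∣ a → r * a = Nat.lcm r a := fun a ha => (Nat.Coprime.lcm_eq_mul ((Nat.Prime.coprime_iff_not_dvd hr).mpr ha)).symm
  -- the local situation
  have hloc : ∀ m0 : ℕ, m0 ≠ 0 → (∃ T, m0 ∣ p ^ T * M) → ∃ s w, m0 = Nat.lcm (p ^ s) w ∧ w ∈ O := by
    rintro m0 hm0 ⟨T, hT⟩
    obtain ⟨s, w, hw, hm⟩ := Nat.exists_eq_pow_mul_and_not_dvd hm0 p hp.ne_one
    have hcop : Nat.Coprime p w := (Nat.Prime.coprime_iff_not_dvd hp).mpr hw
    refine ⟨s, w, ?_, hdvd M hsing w ?_⟩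
    · rw [hm, (Nat.Coprime.pow_left s hcop).lcm_eq_mul]
    · apply (Nat.Coprime.pow_left T hcop).symm.dvd_of_dvd_mul_left
      exact (Dvd.intro_left _ hm.symm).trans hT
  constructor
  · ext k
    rw [mem_range_prod, mem_range_prod]
    simp only [mem_range_prod]
    constructor
    · rintro ⟨a, ha, _, ⟨b, hb, _, ⟨c, hc, t, ht, rfl⟩, rfl⟩, rfl⟩
      rw [← hO] at ha hb hc
      rcases hZ t ht with rfl | rfl
      · exact ⟨a, ha, _, ⟨b, hb, c, hc, rfl⟩, by rw [Nat.lcm_one_right]⟩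
      · have ht : Nat.lcm a (Nat.lcm b (Nat.lcm c t)) = Nat.lcm (Nat.lcm a (Nat.lcm b c)) t := by
          rw [Nat.lcm_assoc, Nat.lcm_assoc]
        rw [ht]
        by_cases hra : t ∣ Nat.lcm a (Nat.lcm b c)
        · refine ⟨a, ha, _, ⟨b, hb, c, hc, rfl⟩, ?_⟩
          exact Nat.lcm_eq_left hra
        · have h1 : ¬ t ∣ a := fun h => hra (h.trans (Nat.dvd_lcm_left _ _))
          have h2 : ¬ t ∣ b := fun h => hra ((h.trans (Nat.dvd_lcm_left _ _)).trans (Nat.dvd_lcm_right _ _))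
          have h3 : ¬ t ∣ c := fun h => hra ((h.trans (Nat.dvd_lcm_right _ _)).trans (Nat.dvd_lcm_right _ _))
          rcases hdich a ha h1 with hPa | ⟨Ta, hTa⟩
          · refine ⟨t * a, hPa, _, ⟨b, hb, c, hc, rfl⟩, ?_⟩
            rw [hrmul a h1, Nat.lcm_comm, Nat.lcm_assoc]
          rcases hdich b hb h2 with hPb | ⟨Tb, hTb⟩
          · refine ⟨a, ha, _, ⟨t * b, hPb, c, hc, rfl⟩, ?_⟩
            rw [hrmul b h2, Nat.lcm_assoc, Nat.lcm_comm (Nat.lcm b c) t, Nat.lcm_assoc t b c]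
          rcases hdich c hc h3 with hPc | ⟨Tc, hTc⟩
          · refine ⟨a, ha, _, ⟨b, hb, t * c, hPc, rfl⟩, ?_⟩
            rw [hrmul c h3, Nat.lcm_assoc, Nat.lcm_assoc, Nat.lcm_comm c t]
          · have hall : Nat.lcm a (Nat.lcm b c) ∣ p ^ (Ta + Tb + Tc) * M := by
              apply Nat.lcm_dvd (hTa.trans (Nat.mul_dvd_mul_right (pow_dvd_pow p (by omega)) M))
              apply Nat.lcm_dvd (hTb.trans (Nat.mul_dvd_mul_right (pow_dvd_pow p (by omega)) M))
              exact (hTc.trans (Nat.mul_dvd_mul_right (pow_dvd_pow p (by omega)) M))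
            have hbc0 := Nat.lcm_ne_zero (hpos b hb) (hpos c hc)
            have habc0 := Nat.lcm_ne_zero (hpos a ha) hbc0
            obtain ⟨s, w, hsw, hw⟩ := hloc _ habc0 ⟨_, hall⟩
            have hps : p ^ s ∈ O := by
              have h4 : p ^ s ∣ Nat.lcm a (Nat.lcm b c) := by rw [hsw]; exact Nat.dvd_lcm_left _ _
              rcases prime_pow_dvd_lcm' hp (hpos a ha) hbc0 h4 with h5 | h5
              · exact hdvd a ha _ h5
              · rcases prime_pow_dvd_lcm' hp (hpos b hb) (hpos c hc) h5 with h6 | h6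
                · exact hdvd b hb _ h6
                · exact hdvd c hc _ h6
            refine ⟨p ^ s, hps, _, ⟨w, hw, t, hr1, rfl⟩, ?_⟩
            rw [hsw, Nat.lcm_assoc]
    · rintro ⟨a, ha, _, ⟨b, hb, c, hc, rfl⟩, rfl⟩
      exact ⟨a, ha, _, ⟨b, hb, _, ⟨c, hc, 1, hZ1, rfl⟩, rfl⟩, by rw [Nat.lcm_one_right]⟩
  · intro hnp
    ext k
    rw [mem_range_prod, mem_range_prod]
    simp only [mem_range_prod]
    constructor
    · rintro ⟨a, ha, _, ⟨b, hb, t, ht, rfl⟩, rfl⟩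
      rw [← hO] at ha hb
      rcases hZ t ht with rfl | rfl
      · exact ⟨a, ha, b, hb, by rw [Nat.lcm_one_right]⟩
      · have ht : Nat.lcm a (Nat.lcm b t) = Nat.lcm (Nat.lcm a b) t := by
          rw [Nat.lcm_assoc]
        rw [ht]
        by_cases hra : t ∣ Nat.lcm a b
        · exact ⟨a, ha, b, hb, Nat.lcm_eq_left hra⟩
        · have h1 : ¬ t ∣ a := fun h => hra (h.trans (Nat.dvd_lcm_left _ _))
          have h2 : ¬ t ∣ b := fun h => hra (h.trans (Nat.dvd_lcm_right _ _))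
          rcases hdich a ha h1 with hPa | ⟨Ta, hTa⟩
          · refine ⟨t * a, hPa, b, hb, ?_⟩
            rw [hrmul a h1, Nat.lcm_comm, Nat.lcm_assoc]
          rcases hdich b hb h2 with hPb | ⟨Tb, hTb⟩
          · refine ⟨a, ha, t * b, hPb, ?_⟩
            rw [hrmul b h2, Nat.lcm_assoc, Nat.lcm_comm b t]
          · have hall : Nat.lcm a b ∣ p ^ (Ta + Tb) * M := by
              apply Nat.lcm_dvd (hTa.trans (Nat.mul_dvd_mul_right (pow_dvd_pow p (by omega)) M))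
              exact (hTb.trans (Nat.mul_dvd_mul_right (pow_dvd_pow p (by omega)) M))
            have hab0 := Nat.lcm_ne_zero (hpos a ha) (hpos b hb)
            obtain ⟨s, w, hsw, hw⟩ := hloc _ hab0 ⟨_, hall⟩
            have hps : p ^ s * t ∈ O := by
              rcases Nat.eq_zero_or_pos s with rfl | hs
              · rw [pow_zero, one_mul]; exact hr1
              obtain ⟨s, rfl⟩ : ∃ s', s = s' + 1 := ⟨s - 1, by omega⟩
              have h4 : p ^ (s + 1) ∣ Nat.lcm a b := by rw [hsw]; exact Nat.dvd_lcm_left _ _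
              have h5 : ∃ g : Cfsg.PSU n F q, p ^ (s + 1) ∣ orderOf g := by
                rcases prime_pow_dvd_lcm' hp (hpos a ha) (hpos b hb) h4 with h5 | h5
                · obtain ⟨g, hg⟩ := ha
                  exact ⟨g, by rw [hg]; exact h5⟩
                · obtain ⟨g, hg⟩ := hb
                  exact ⟨g, by rw [hg]; exact h5⟩
              obtain ⟨g, hg⟩ := h5
              have h6 := p_bound p hF hn2 g hg
              have h7 : n - 1 ≠ p ^ s := fun h => hnp ⟨s, h⟩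
              exact mixed p hF hn2 hr hrq hrn (by omega)
            have hlcm : p ^ s * t = Nat.lcm (p ^ s) t := by
              have : ¬ t ∣ p ^ s := fun h => hra (by rw [hsw]; exact h.trans (Nat.dvd_lcm_left _ _))
              rw [mul_comm, hrmul _ this, Nat.lcm_comm]
            refine ⟨p ^ s * t, hps, w, hw, ?_⟩
            rw [hsw, hlcm, Nat.lcm_assoc, Nat.lcm_assoc, Nat.lcm_comm w t]
    · rintro ⟨a, ha, b, hb, rfl⟩
      exact ⟨a, ha, _, ⟨b, hb, 1, hZ1, rfl⟩, by rw [Nat.lcm_one_right]⟩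

end Cfsg.Agent.H21.GLu
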