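import Mathlib
import Cfsg.Prelude.Def_TwoFusion
import Cfsg.Agent.H21_D8rec
import Cfsg.Agent.H21_O360c
import Cfsg.Agent.H21_AltAut
import Cfsg.Agent.H19_Transfer
import Cfsg.Agent.H4_ZStar
import Cfsg.Agent.H4_Count
import Cfsg.Agent.H11_Cores
import Cfsg.Agent.H26_PQ

/-!
# Groups with an involution whose centralizer is `Z₂ × S₄`
-/

set_option autoImplicit false
open scoped Pointwise commutatorElement

namespace Cfsg.Agent.H21.S6rec
open MulAction Subgroup Equiv Cfsg.Agent

abbrev P := Multiplicative (ZMod 2) × Perm (Fin 4)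

def τ1 : Multiplicative (ZMod 2) := Multiplicative.ofAdd 1
def r0 : Perm (Fin 4) := c[0, 1, 2, 3]
def z0 : Perm (Fin 4) := swap 0 2 * swap 1 3
def d0 : Perm (Fin 4) := swap 0 2
def v0 : Perm (Fin 4) := swap 0 1 * swap 2 3

/-- the twist -/
def sg (σ : Perm (Fin 4)) : Multiplicative (ZMod 2) := if Perm.sign σ = 1 then 1 else τ1

theorem r0_sq : r0 * r0 = z0 := by decide +kernel

/-- conjugacy in `P` -/
def Cj (y y' : P) : Prop := ∃ w : P, w * y * w⁻¹ = y'
instance (y y' : P) : Decidable (Cj y y') := inferInstanceAs (Decidable (∃ w : P, w * y * w⁻¹ = y'))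

theorem involutions : ∀ y : P, y * y = 1 → y ≠ 1 → y ≠ (τ1, 1) →
    Cj y (1, z0) ∨ Cj y (τ1, z0) ∨ Cj y (1, d0) ∨ Cj y (τ1, d0) := by
  decide +kernel

theorem comm_z : ∀ y y' : P, y * (1, z0) = (1, z0) * y → y' * (1, z0) = (1, z0) * y' → y * y' * y⁻¹ * y'⁻¹ = 1 ∨
    y * y' * y⁻¹ * y'⁻¹ = (1, z0) := by
  decide +kernel


theorem comm_dv : (1, d0) * (1, v0) * (1, d0)⁻¹ * (1, v0)⁻¹ = ((1, z0) : P) := by decide +kernel

theorem comm_dz : ((1, d0) : P) * (1, z0) = (1, z0) * (1, d0) := by decide +kernel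
theorem comm_vz : ((1, v0) : P) * (1, z0) = (1, z0) * (1, v0) := by decide +kernel

theorem card_cz : Fintype.card {y : P // y * (1, z0) = (1, z0) * y} = 16 := by decide +kernel

theorem card_P : Fintype.card P = 48 := by decide +kernel

theorem tau_comm (y : P) : y * (τ1, 1) = (τ1, 1) * y := by
  apply Prod.ext
  · exact mul_comm _ _
  · change y.2 * 1 = 1 * y.2
    rw [mul_one, one_mul]

/-- the data -/
structure Dat {G : Type*} [Group G] (t : G) (F : P →* G) : Prop where
  inj : Function.Injective F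
  cent : ∀ g, g * t = t * g → ∃ y, F y = g
  ft : F (τ1, 1) = t
  centz : ∀ g, g * F (1, z0) = F (1, z0) * g → ∃ y : P, y * (1, z0) = (1, z0) * y ∧ F y = g
  idx : Odd (Subgroup.centralizer ({F (1, z0)} : Set G)).index

section

variable {G : Type*} [Group G]

theorem card_centralizer_conj [Finite G] {x y : G} (h : IsConj x y) :
    Nat.card (Subgroup.centralizer ({x} : Set G)) = Nat.card (Subgroup.centralizer ({y} : Set G)) := by
  have h1 := H4.Count.class_card x
  have h2 := H4.Count.class_card y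
  have h3 : Nat.card {z : G // ∃ g, g * x * g⁻¹ = z} = Nat.card {z : G // ∃ g, g * y * g⁻¹ = z} := by
    apply Nat.card_congr
    apply Equiv.subtypeEquivRight
    intro z
    constructor
    · intro hz; exact isConj_iff.mp (h.symm.trans (isConj_iff.mpr hz))
    · intro hz; exact isConj_iff.mp (h.trans (isConj_iff.mpr hz))
  rw [h3] at h1
  have h4 : 0 < Nat.card {z : G // ∃ g, g * y * g⁻¹ = z} := by
    haveI : Nonempty {z : G // ∃ g, g * y * g⁻¹ = z} := ⟨⟨y, 1, by group⟩⟩
    exact Nat.card_pos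
  exact Nat.eq_of_mul_eq_mul_right h4 (h1.symm.trans h2)

variable {t : G} {F : P →* G} (D : Dat t F)

include D

theorem Dat.comm_t (y : P) : F y * t = t * F y := by
  rw [← D.ft, ← map_mul, tau_comm, map_mul]

theorem Dat.card_t : Nat.card (Subgroup.centralizer ({t} : Set G)) = 48 := by
  have h1 : Function.Bijective (fun y : P => (⟨F y, Subgroup.mem_centralizer_singleton_iff.mpr (D.comm_t y)⟩ :
      Subgroup.centralizer ({t} : Set G))) := by
    constructor
    · intro a b h
      exact D.inj (congrArg Subtype.val h)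
    · rintro ⟨g, hg⟩
      obtain ⟨y, hy⟩ := D.cent g (Subgroup.mem_centralizer_singleton_iff.mp hg)
      exact ⟨y, Subtype.ext hy⟩
  rw [← Nat.card_congr (Equiv.ofBijective _ h1), Nat.card_eq_fintype_card, card_P]

theorem Dat.card_z : Nat.card (Subgroup.centralizer ({F (1, z0)} : Set G)) = 16 := by
  have h1 : Function.Bijective (fun y : {y : P // y * (1, z0) = (1, z0) * y} => (⟨F y.1, Subgroup.mem_centralizer_singleton_iff.mpr
      (by rw [← map_mul, y.2, map_mul])⟩ : Subgroup.centralizer ({F (1, z0)} : Set G))) := by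
    constructor
    · intro a b h
      exact Subtype.ext (D.inj (congrArg Subtype.val h))
    · rintro ⟨g, hg⟩
      obtain ⟨y, hy1, hy⟩ := D.centz g (Subgroup.mem_centralizer_singleton_iff.mp hg)
      exact ⟨⟨y, hy1⟩, Subtype.ext hy⟩
  rw [← Nat.card_congr (Equiv.ofBijective _ h1), Nat.card_eq_fintype_card, card_cz]

theorem Dat.not_conj_z [Finite G] : ¬ IsConj t (F (1, z0)) := by
  intro h
  have := card_centralizer_conj h
  rw [D.card_t, D.card_z] at this
  omega

theorem Dat.syl : ∃ S : Sylow 2 G, (S : Subgroup G) = Subgroup.centralizer ({F (1, z0)} : Set G) := by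
  haveI : Fact (Nat.Prime 2) := ⟨Nat.prime_two⟩
  have h1 : IsPGroup 2 (Subgroup.centralizer ({F (1, z0)} : Set G)) :=
    IsPGroup.of_card (n := 4) (by rw [D.card_z]; norm_num)
  exact ⟨h1.toSylow (fun h => by
    have := D.idx
    rw [← Nat.not_even_iff_odd] at this
    exact this (even_iff_two_dvd.mpr h)), rfl⟩

/-- the normalizer of the Sylow subgroup -/
theorem Dat.norm {n : G} (hn : n ∈ Subgroup.normalizer ((Subgroup.centralizer ({F (1, z0)} : Set G) : Subgroup G) : Set G)) :
    n * F (1, z0) = F (1, z0) * n := by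
  have hd : F (1, d0) ∈ Subgroup.centralizer ({F (1, z0)} : Set G) := by
    rw [Subgroup.mem_centralizer_singleton_iff, ← map_mul, ← map_mul, comm_dz]
  have hv : F (1, v0) ∈ Subgroup.centralizer ({F (1, z0)} : Set G) := by
    rw [Subgroup.mem_centralizer_singleton_iff, ← map_mul, ← map_mul, comm_vz]
  have h1 := (Subgroup.mem_normalizer_iff.mp hn _).mp hd
  have h2 := (Subgroup.mem_normalizer_iff.mp hn _).mp hv
  obtain ⟨y1, hy1, e1⟩ := D.centz _ (Subgroup.mem_centralizer_singleton_iff.mp h1)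
  obtain ⟨y2, hy2, e2⟩ := D.centz _ (Subgroup.mem_centralizer_singleton_iff.mp h2)
  have h3 : n * F (1, z0) * n⁻¹ = F (y1 * y2 * y1⁻¹ * y2⁻¹) := by
    rw [← comm_dv]
    simp only [map_mul, map_inv]
    rw [e1, e2]; group
  rcases comm_z y1 y2 hy1 hy2 with h4 | h4
  · exfalso
    rw [h4, map_one] at h3
    have h5 : F (1, z0) = 1 := by
      calc F (1, z0) = n⁻¹ * (n * F (1, z0) * n⁻¹) * n := by group
        _ = 1 := by rw [h3]; group
    rw [← map_one F] at h5
    exact absurd (D.inj h5) (by decide)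
  · rw [h4] at h3
    exact mul_inv_eq_iff_eq_mul.mp h3

/-- elements of the centre of the Sylow subgroup are not fused -/
theorem Dat.burnside [Finite G] {x y : P} (hx : ∀ w : P, w * (1, z0) = (1, z0) * w → w * x = x * w)
    (hy : ∀ w : P, w * (1, z0) = (1, z0) * w → w * y = y * w) (h : IsConj (F x) (F y)) : x = y := by
  haveI : Fact (Nat.Prime 2) := ⟨Nat.prime_two⟩
  obtain ⟨S, hS⟩ := D.syl
  obtain ⟨g, hg⟩ := isConj_iff.mp h
  have hmem : ∀ u : P, (∀ w : P, w * (1, z0) = (1, z0) * w → w * u = u * w) → F u ∈ Subgroup.centralizer ((S : Subgroup G) : Set G) := by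
    intro u hu
    rw [Subgroup.mem_centralizer_iff]
    intro s hs
    rw [hS] at hs
    obtain ⟨w, hw, rfl⟩ := D.centz s (Subgroup.mem_centralizer_singleton_iff.mp hs)
    rw [← map_mul, hu w hw, map_mul]
  obtain ⟨n, hn, hn2⟩ := Sylow.conj_eq_normalizer_conj_of_mem_centralizer S (F x) g⁻¹ (hmem x hx)
    (by rw [inv_inv, hg]; exact hmem y hy)
  have hn' : n ∈ Subgroup.normalizer ((S : Subgroup G) : Set G) := hn
  rw [hS] at hn'
  obtain ⟨w, hw, rfl⟩ := D.centz n (D.norm hn')
  rw [inv_inv, hg] at hn2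
  have h1 : F y = F x := by
    rw [hn2, mul_assoc, ← map_mul, ← hx w hw, map_mul, ← mul_assoc, inv_mul_cancel, one_mul] 
  exact (D.inj h1).symm

end

end Cfsg.Agent.H21.S6rec
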