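import Mathlib
import Cfsg.Agent.H21_S6rec

/-!
# Groups with an involution whose centralizer is `Z₂ × S₄`, II
-/

set_option autoImplicit false
open scoped Pointwise commutatorElement

namespace Cfsg.Agent.H21.S6rec
open MulAction Subgroup Equiv Cfsg.Agent

theorem ctr1 : ∀ w : P, w * (1, z0) = (1, z0) * w → w * (τ1, z0) = (τ1, z0) * w := by decide +kernel
theorem ctr2 : ∀ w : P, w * (1, z0) = (1, z0) * w → w * (1, z0) = (1, z0) * w := fun _ h => h
theorem ctr3 : ∀ w : P, w * (1, z0) = (1, z0) * w → w * (τ1, 1) = (τ1, 1) * w := fun w _ => tau_comm w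
theorem cj1 : Cj (1, z0) (1, v0) := by decide +kernel
theorem cj2 : Cj (1, z0) (1, z0 * v0) := by decide +kernel
theorem cj3 : Cj (τ1, z0) (τ1, v0) := by decide +kernel
theorem cj4 : Cj (τ1, z0) (τ1, z0 * v0) := by decide +kernel
theorem cj5 : Cj (1, d0) (1, z0 * d0) := by decide +kernel
theorem cj6 : Cj (τ1, d0) (τ1, z0 * d0) := by decide +kernel

section

variable {G : Type*} [Group G] {t : G} {F : P →* G}

theorem cj_map (F : P →* G) {x y : P} (h : Cj x y) : IsConj (F x) (F y) := by
  obtain ⟨w, hw⟩ := h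
  rw [← hw]
  exact isConj_iff.mpr ⟨F w, by simp⟩

variable (D : Dat t F)

include D

theorem Dat.ne_one : t ≠ 1 := by
  intro h
  rw [← D.ft, ← map_one F] at h
  exact absurd (D.inj h) (by decide)

theorem Dat.order : orderOf t = 2 := by
  apply orderOf_eq_prime
  · rw [← D.ft, ← map_pow, ← map_one F]; congr 1
  · exact D.ne_one

theorem Dat.order_z : orderOf (F (1, z0)) = 2 := by
  rw [orderOf_injective F D.inj]
  exact orderOf_eq_prime (by decide +kernel) (by decide +kernel)

theorem Dat.not_conj_tz [Finite G] : ¬ IsConj t (F (τ1, z0)) := by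
  intro h
  rw [← D.ft] at h
  exact absurd (D.burnside ctr3 ctr1 h) (by decide)

theorem Dat.not_conj_z_tz [Finite G] : ¬ IsConj (F (1, z0)) (F (τ1, z0)) := by
  intro h
  exact absurd (D.burnside ctr2 ctr1 h) (by decide)

theorem Dat.isolated [Finite G] (h1 : ¬ IsConj t (F (1, d0))) (h2 : ¬ IsConj t (F (τ1, d0))) :
    Cfsg.IsIsolatedInvolution t := by
  refine ⟨D.order, fun g hg => ?_⟩
  obtain ⟨y, hy⟩ := D.cent _ hg.eq.symm
  by_contra hne
  have hc : IsConj t (F y) := by rw [hy]; exact isConj_iff.mpr ⟨g, rfl⟩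
  have htt : t * t = 1 := by rw [← sq, ← D.order]; exact pow_orderOf_eq_one t
  have hyy : y * y = 1 := by
    apply D.inj
    rw [map_mul, map_one, hy]
    calc g * t * g⁻¹ * (g * t * g⁻¹) = g * (t * t) * g⁻¹ := by group
      _ = 1 := by rw [htt]; group
  have hy1 : y ≠ 1 := by
    rintro rfl
    rw [map_one] at hc
    exact D.ne_one (isConj_one_left.mp hc)
  have hyt : y ≠ (τ1, 1) := by
    rintro rfl
    apply hne
    rw [← hy, D.ft]
  rcases involutions y hyy hy1 hyt with h | h | h | h
  · exact D.not_conj_z (hc.trans (cj_map F h))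
  · exact D.not_conj_tz (hc.trans (cj_map F h))
  · exact h1 (hc.trans (cj_map F h))
  · exact h2 (hc.trans (cj_map F h))

theorem Dat.odd_trivial [Finite G] (M : Subgroup G) [hM : M.Normal] (hodd : Odd (Nat.card M)) : M = ⊥ := by
  have key : ∀ u : G, IsConj (F (1, z0)) u → ∀ m ∈ M, u * m * u⁻¹ = m⁻¹ := by
    intro u hu
    have huo : orderOf u = 2 := by
      obtain ⟨g, hg⟩ := isConj_iff.mp hu
      have h0 : orderOf (g * F (1, z0) * g⁻¹) = orderOf (F (1, z0)) :=
        orderOf_injective (MulAut.conj g).toMonoidHom (MulAut.conj g).injective _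
      rw [← hg, h0]; exact D.order_z
    apply H26.PQ.inverts_of_fixedPointFree huo M
    · rw [Subgroup.normalizer_eq_top]; exact Subgroup.mem_top u
    · exact hodd
    · intro m hm hmu
      have h1 : m ∈ Subgroup.centralizer ({u} : Set G) := Subgroup.mem_centralizer_singleton_iff.mpr hmu.symm
      have h3 : orderOf m ∣ 16 := by
        rw [← D.card_z, card_centralizer_conj hu]
        exact Subgroup.orderOf_dvd_natCard _ h1
      have h4 : orderOf m ∣ Nat.card M := Subgroup.orderOf_dvd_natCard M hm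
      have h5 : Nat.Coprime 16 (Nat.card M) := by
        have : Nat.Coprime 2 (Nat.card M) := Nat.coprime_two_left.mpr hodd
        exact Nat.Coprime.pow_left 4 this
      have h6 := Nat.dvd_gcd h3 h4
      rw [h5] at h6
      exact orderOf_eq_one_iff.mp (Nat.dvd_one.mp h6)
  rw [Subgroup.eq_bot_iff_forall]
  intro m hm
  have h1 := key _ (cj_map F cj1) m hm
  have h2 := key _ (IsConj.refl _) _ (M.inv_mem hm)
  have h3 := key _ (cj_map F cj2) m hm
  rw [inv_inv] at h2
  have h4 : ((1, z0 * v0) : P) = (1, z0) * (1, v0) := by decide +kernel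
  rw [h4, map_mul] at h3
  have h5 : m⁻¹ = m := by
    rw [← h3]
    conv_rhs => rw [← h2, ← h1]
    group
  have h6 : m ^ 2 = 1 := by rw [sq]; nth_rewrite 1 [← h5]; exact inv_mul_cancel m
  have h7 : orderOf m ∣ 2 := orderOf_dvd_of_pow_eq_one h6
  have h8 : orderOf m ∣ Nat.card M := Subgroup.orderOf_dvd_natCard M hm
  have h9 := Nat.dvd_gcd h7 h8
  rw [Nat.coprime_two_left.mpr hodd] at h9
  exact orderOf_eq_one_iff.mp (Nat.dvd_one.mp h9)

/-- the case in which `t` is isolated -/
theorem Dat.caseA [Finite G] (h1 : ¬ IsConj t (F (1, d0))) (h2 : ¬ IsConj t (F (τ1, d0))) :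
    Subgroup.centralizer ({t} : Set G) = ⊤ := by
  have hO : Cfsg.oddCore G = ⊥ := by
    haveI : (Cfsg.oddCore G).Normal := inferInstanceAs (Cfsg.pPrimeCore 2 G).Normal
    apply D.odd_trivial
    exact Nat.coprime_two_right.mp (H11.Cores.pPrimeCore_coprime 2)
  rw [Subgroup.eq_top_iff']
  intro g
  have h3 := H4.ZStar.zstar (D.isolated h1 h2) g
  rw [hO, Subgroup.mem_bot] at h3
  rw [Subgroup.mem_centralizer_singleton_iff]
  calc g * t = (t * g * t⁻¹ * g⁻¹)⁻¹ * (t * g) := by group
    _ = t * g := by rw [h3]; group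

end

end Cfsg.Agent.H21.S6rec
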