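import Mathlib
import Cfsg.Agent.H21_S6rec2

/-!
# Groups with an involution whose centralizer is `Z₂ × S₄`, III
-/

set_option autoImplicit false
open scoped Pointwise commutatorElement

namespace Cfsg.Agent.H21.S6rec
open MulAction Subgroup Equiv Cfsg.Agent

theorem card_E : Fintype.card {y : P // y * (1, z0) = (1, z0) * y ∧ y * (τ1, d0) = (τ1, d0) * y} = 8 := by decide +kernel

theorem list_E : ∀ y : P, y * (1, z0) = (1, z0) * y → y * (τ1, d0) = (τ1, d0) * y →
    y = 1 ∨ y = (1, z0) ∨ y = (τ1, 1) ∨ y = (τ1, z0) ∨ y = (1, d0) ∨ y = (1, z0 * d0) ∨ y = (τ1, d0) ∨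
      y = (τ1, z0 * d0) := by decide +kernel

theorem z_ne : ((1, z0) : P) ≠ 1 := by decide

theorem comm_ztd : ((1, z0) : P) * (τ1, d0) = (τ1, d0) * (1, z0) := by decide +kernel

theorem inv_S4 : ∀ σ : Perm (Fin 4), σ * σ = 1 → σ ≠ 1 → Cj (1, σ) (1, z0) ∨ Cj (1, σ) (1, d0) := by decide +kernel

theorem sq_S4 : ∀ σ : Perm (Fin 4), (∃ ρ, σ = ρ * ρ) ∨ (∃ ρ, σ = d0 * (ρ * ρ)) := by decide +kernel

theorem card_cz4 : Fintype.card {σ : Perm (Fin 4) // σ * z0 = z0 * σ} = 8 := by decide +kernel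

section

variable {G : Type*} [Group G] [Finite G] {t : G} {F : P →* G} (D : Dat t F) (ht : IsConj t (F (τ1, d0)))

include D ht

/-- fusion of `z` and `d` -/
theorem Dat.conj_zd : IsConj (F (1, z0)) (F (1, d0)) := by
  haveI : Fact (Nat.Prime 2) := ⟨Nat.prime_two⟩
  have hCs : Nat.card (Subgroup.centralizer ({F (τ1, d0)} : Set G)) = 48 := by
    rw [← card_centralizer_conj ht, D.card_t]
  obtain ⟨A, hA⟩ : ∃ A, A = (Subgroup.centralizer ({F (1, z0)} : Set G)).subgroupOf (Subgroup.centralizer ({F (τ1, d0)} : Set G)) := ⟨_, rfl⟩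
  have hmemA : ∀ x : Subgroup.centralizer ({F (τ1, d0)} : Set G), x ∈ A ↔ (x : G) * F (1, z0) = F (1, z0) * x := by
    intro x
    rw [hA, Subgroup.mem_subgroupOf, Subgroup.mem_centralizer_singleton_iff]
  have hcA : Nat.card A = 2 ^ 3 := by
    have h1 : Function.Bijective (fun y : {y : P // y * (1, z0) = (1, z0) * y ∧ y * (τ1, d0) = (τ1, d0) * y} =>
        (⟨⟨F y.1, Subgroup.mem_centralizer_singleton_iff.mpr (by rw [← map_mul, y.2.2, map_mul])⟩,
          (hmemA _).mpr (by change F y.1 * F (1, z0) = F (1, z0) * F y.1; rw [← map_mul, y.2.1, map_mul])⟩ : A)) := by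
      constructor
      · intro a b h
        exact Subtype.ext (D.inj (congrArg (fun w : A => ((w : Subgroup.centralizer ({F (τ1, d0)} : Set G)) : G)) h))
      · rintro ⟨⟨g, hg⟩, hg2⟩
        obtain ⟨y, hy1, hy⟩ := D.centz g ((hmemA _).mp hg2)
        have h2 := Subgroup.mem_centralizer_singleton_iff.mp hg
        rw [← hy, ← map_mul, ← map_mul] at h2
        exact ⟨⟨y, hy1, D.inj h2⟩, Subtype.ext (Subtype.ext hy)⟩
    rw [← Nat.card_congr (Equiv.ofBijective _ h1), Nat.card_eq_fintype_card, card_E]; norm_num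
  obtain ⟨K, hK, hAK⟩ := Sylow.exists_subgroup_card_pow_succ (G := Subgroup.centralizer ({F (τ1, d0)} : Set G)) (p := 2) (n := 3)
    (by rw [hCs]; norm_num) hcA
  obtain ⟨q, hqK, hqA⟩ : ∃ q ∈ K, q ∉ A := by
    by_contra hcon
    push Not at hcon
    have h1 := Subgroup.card_le_of_le (show K ≤ A from hcon)
    rw [hK, hcA] at h1
    norm_num at h1
  have hrel : A.relIndex K = 2 := by
    have := H1.Basic.relIndex_mul_card hAK
    rw [hK, hcA] at this
    omega
  have hnorm : (A.subgroupOf K).Normal := Subgroup.normal_of_index_eq_two hrel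
  have hzA : (⟨F (1, z0), Subgroup.mem_centralizer_singleton_iff.mpr (by rw [← map_mul, comm_ztd, map_mul])⟩ :
      Subgroup.centralizer ({F (τ1, d0)} : Set G)) ∈ A := (hmemA _).mpr rfl
  have h1 := hnorm.conj_mem ⟨_, hAK hzA⟩ (Subgroup.mem_subgroupOf.mpr hzA) ⟨q, hqK⟩
  rw [Subgroup.mem_subgroupOf] at h1
  have h2 := (hmemA _).mp h1
  change (q : G) * F (1, z0) * (q : G)⁻¹ * F (1, z0) = F (1, z0) * ((q : G) * F (1, z0) * (q : G)⁻¹) at h2
  obtain ⟨y, hy1, hy⟩ := D.centz _ h2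
  have hq2 := Subgroup.mem_centralizer_singleton_iff.mp q.2
  have h3 : y * (τ1, d0) = (τ1, d0) * y := by
    apply D.inj
    rw [map_mul, map_mul, hy]
    have h4 : F (1, z0) * F (τ1, d0) = F (τ1, d0) * F (1, z0) := by rw [← map_mul, comm_ztd, map_mul]
    have h5 : (q : G)⁻¹ * F (τ1, d0) = F (τ1, d0) * (q : G)⁻¹ := by
      rw [inv_mul_eq_iff_eq_mul, ← mul_assoc, hq2, mul_assoc, mul_inv_cancel, mul_one]
    calc (q : G) * F (1, z0) * (q : G)⁻¹ * F (τ1, d0) = (q : G) * F (1, z0) * ((q : G)⁻¹ * F (τ1, d0)) := by group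
      _ = (q : G) * (F (1, z0) * F (τ1, d0)) * (q : G)⁻¹ := by rw [h5]; group
      _ = ((q : G) * F (τ1, d0)) * F (1, z0) * (q : G)⁻¹ := by rw [h4]; group
      _ = _ := by rw [hq2]; group
  have hc : IsConj (F (1, z0)) (F y) := by rw [hy]; exact isConj_iff.mpr ⟨q, rfl⟩
  rcases list_E y hy1 h3 with rfl | rfl | rfl | rfl | rfl | rfl | rfl | rfl
  · exfalso
    rw [map_one] at hc
    have := isConj_one_left.mp hc
    rw [← map_one F] at this
    exact z_ne (D.inj this)
  · exfalso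
    apply hqA
    rw [hmemA]
    exact (mul_inv_eq_iff_eq_mul.mp hy.symm)
  · exfalso
    rw [D.ft] at hc
    exact D.not_conj_z hc.symm
  · exact absurd hc D.not_conj_z_tz
  · exact hc
  · exact hc.trans (cj_map F cj5).symm
  · exact absurd (ht.trans hc.symm) D.not_conj_z
  · exact absurd (ht.trans ((cj_map F cj6).trans hc.symm)) D.not_conj_z

theorem Dat.not_conj_S4 (σ : Perm (Fin 4)) : ¬ IsConj t (F (1, σ)) := by
  intro h
  obtain ⟨g, hg⟩ := isConj_iff.mp h
  have htt : t * t = 1 := by rw [← sq, ← D.order]; exact pow_orderOf_eq_one t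
  have h1 : σ * σ = 1 := by
    have h2 : ((1, σ) : P) * (1, σ) = 1 := by
      apply D.inj
      rw [map_mul, map_one, ← hg]
      calc g * t * g⁻¹ * (g * t * g⁻¹) = g * (t * t) * g⁻¹ := by group
        _ = 1 := by rw [htt]; group
    exact congrArg Prod.snd h2
  have h2 : σ ≠ 1 := by
    rintro rfl
    have h3 : F (1, 1) = 1 := map_one F
    rw [h3] at h
    exact D.ne_one (isConj_one_left.mp h)
  rcases inv_S4 σ h1 h2 with h3 | h3
  · exact D.not_conj_z (h.trans (cj_map F h3))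
  · exact D.not_conj_z ((h.trans (cj_map F h3)).trans (D.conj_zd ht).symm)

theorem Dat.exists_K : ∃ K : Subgroup G, K.Normal ∧ K.index = 2 ∧ t ∉ K := by
  have hcz : Nat.card (Subgroup.centralizer ({F (1, z0)} : Set G)) = 16 := D.card_z
  obtain ⟨M, hM⟩ : ∃ M, M = (F.comp (MonoidHom.inr (Multiplicative (ZMod 2)) (Perm (Fin 4)))).range := ⟨_, rfl⟩
  have hMmem : ∀ g, g ∈ M ↔ ∃ σ, F (1, σ) = g := by intro g; rw [hM]; rfl
  have hcard : Nat.card (M ⊓ Subgroup.centralizer ({F (1, z0)} : Set G) : Subgroup G) = 8 := by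
    have h1 : Function.Bijective (fun σ : {σ : Perm (Fin 4) // σ * z0 = z0 * σ} =>
        (⟨F (1, σ.1), (hMmem _).mpr ⟨σ.1, rfl⟩, Subgroup.mem_centralizer_singleton_iff.mpr (by
          rw [← map_mul, ← map_mul]; congr 1; exact Prod.ext rfl σ.2)⟩ :
          (M ⊓ Subgroup.centralizer ({F (1, z0)} : Set G) : Subgroup G))) := by
      constructor
      · intro a b h
        have h2 := D.inj (congrArg Subtype.val h)
        exact Subtype.ext (congrArg Prod.snd h2)
      · rintro ⟨g, hg1, hg2⟩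
        obtain ⟨σ, rfl⟩ := (hMmem _).mp hg1
        have h3 := Subgroup.mem_centralizer_singleton_iff.mp hg2
        rw [← map_mul, ← map_mul] at h3
        exact ⟨⟨σ, congrArg Prod.snd (D.inj h3)⟩, rfl⟩
    rw [← Nat.card_congr (Equiv.ofBijective _ h1), Nat.card_eq_fintype_card, card_cz4]
  have hrel : M.relIndex (Subgroup.centralizer ({F (1, z0)} : Set G)) = 2 := by
    have h2 := H1.Basic.relIndex_mul_card (inf_le_right : M ⊓ Subgroup.centralizer ({F (1, z0)} : Set G) ≤ Subgroup.centralizer ({F (1, z0)} : Set G))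
    rw [Subgroup.inf_relIndex_right, hcard, hcz] at h2
    omega
  refine H19.Transfer.thompson D.idx hrel t ⟨1, by rw [D.order, pow_one]⟩ ?_ ?_
  · intro g _ hg
    obtain ⟨σ, hσ⟩ := (hMmem _).mp hg
    apply D.not_conj_S4 ht σ
    rw [hσ]
    exact isConj_iff.mpr ⟨g⁻¹, by group⟩
  · intro g j _
    have h1 : t ^ (2 ^ (j + 1)) = 1 := by
      rw [pow_succ', pow_mul, ← D.order, pow_orderOf_eq_one, one_pow]
    rw [h1, mul_one, inv_mul_cancel]
    exact one_mem M

theorem Dat.mem_K {K : Subgroup G} [hKn : K.Normal] (hK : K.index = 2) (σ : Perm (Fin 4)) : F (1, σ) ∈ K := by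
  have hsq : ∀ ρ : Perm (Fin 4), F (1, ρ * ρ) ∈ K := by
    intro ρ
    have h1 : F (1, ρ * ρ) = F (1, ρ) * F (1, ρ) := by rw [← map_mul]; rfl
    rw [h1]; exact Subgroup.mul_self_mem_of_index_two hK _
  have hz : F (1, z0) ∈ K := by rw [← r0_sq]; exact hsq r0
  have hd : F (1, d0) ∈ K := by
    obtain ⟨g, hg⟩ := isConj_iff.mp (D.conj_zd ht)
    rw [← hg]; exact hKn.conj_mem _ hz _
  rcases sq_S4 σ with ⟨ρ, rfl⟩ | ⟨ρ, rfl⟩
  · exact hsq ρ
  · have h1 : F (1, d0 * (ρ * ρ)) = F (1, d0) * F (1, ρ * ρ) := by rw [← map_mul]; rfl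
    rw [h1]; exact mul_mem hd (hsq ρ)

theorem Dat.mem_K_iff {K : Subgroup G} [hKn : K.Normal] (hK : K.index = 2) (htK : t ∉ K) (a : Multiplicative (ZMod 2)) (σ : Perm (Fin 4)) :
    F (a, σ) ∈ K ↔ a = 1 := by
  constructor
  · intro h
    by_contra ha
    have h1 : a = τ1 := by
      have : ∀ a : Multiplicative (ZMod 2), a ≠ 1 → a = τ1 := by decide
      exact this a ha
    subst h1
    apply htK
    have h2 : t = F (τ1, σ) * (F (1, σ))⁻¹ := by
      rw [← D.ft, ← map_inv, ← map_mul]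
      congr 1
      apply Prod.ext
      · change τ1 = τ1 * 1⁻¹; rw [inv_one, mul_one]
      · change 1 = σ * σ⁻¹; rw [mul_inv_cancel]
    rw [h2]
    exact mul_mem h (inv_mem (D.mem_K ht hK σ))
  · rintro rfl; exact D.mem_K ht hK σ

end

end Cfsg.Agent.H21.S6rec
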