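import Mathlib
import Cfsg.Agent.H21_AltAut

/-!
# Extensions of `A₆` by automorphisms fixing an element of order three
-/

set_option autoImplicit false
open scoped Pointwise commutatorElement

namespace Cfsg.Agent.H21.S6rec
open MulAction Subgroup Equiv Cfsg.Agent

def x6 : Perm (Fin 6) := c[0, 1, 2] * c[3, 4, 5]
def w6 : Perm (Fin 6) := swap 0 3 * swap 1 4 * swap 2 5

theorem x6w6 : w6 * x6 = x6 * w6 := by decide +kernel
theorem sign_w6 : Perm.sign w6 = -1 := by decide +kernel
theorem cycle_x6 : x6.cycleType = {3, 3} := by decide +kernel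

theorem cycle3 {x : Perm (Fin 6)} (h : orderOf x = 3) : x.IsThreeCycle ∨ x.cycleType = {3, 3} := by
  obtain ⟨n, hn⟩ := Equiv.Perm.cycleType_prime_order (by rw [h]; exact Nat.prime_three)
  rw [h] at hn
  have h1 : x.cycleType.sum ≤ 6 := by
    rw [Equiv.Perm.sum_cycleType]
    exact (Finset.card_le_univ _).trans (by simp)
  rw [hn, Multiset.sum_replicate, smul_eq_mul] at h1
  have h2 : n = 0 ∨ n = 1 := by omega
  rcases h2 with rfl | rfl
  · left; rw [Perm.IsThreeCycle, hn]; rfl
  · right; rw [hn]; rfl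

/-- elements of type `3²` are conjugate in `A₆` -/
theorem conj33 {x y : alternatingGroup (Fin 6)} (hx : (x : Perm (Fin 6)).cycleType = {3, 3})
    (hy : (y : Perm (Fin 6)).cycleType = {3, 3}) : IsConj x y := by
  have h1 : IsConj x6 (x : Perm (Fin 6)) := by rw [Perm.isConj_iff_cycleType_eq, cycle_x6, hx]
  have h2 : IsConj (x : Perm (Fin 6)) (y : Perm (Fin 6)) := by rw [Perm.isConj_iff_cycleType_eq, hx, hy]
  obtain ⟨h, hh⟩ := isConj_iff.mp h1
  obtain ⟨g, hg⟩ := isConj_iff.mp h2
  rcases Int.units_eq_one_or (Perm.sign g) with hs | hs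
  · exact isConj_iff.mpr ⟨⟨g, Perm.mem_alternatingGroup.mpr hs⟩, Subtype.ext hg⟩
  · refine isConj_iff.mpr ⟨⟨g * (h * w6 * h⁻¹), Perm.mem_alternatingGroup.mpr ?_⟩, Subtype.ext ?_⟩
    · rw [map_mul, map_mul, map_mul, hs, sign_w6, map_inv]
      rcases Int.units_eq_one_or (Perm.sign h) with h3 | h3 <;> rw [h3] <;> rfl
    · change g * (h * w6 * h⁻¹) * x * (g * (h * w6 * h⁻¹))⁻¹ = y
      rw [← hg, ← hh]
      have h4 : w6 * x6 * w6⁻¹ = x6 := by rw [x6w6]; group
      calc g * (h * w6 * h⁻¹) * (h * x6 * h⁻¹) * (g * (h * w6 * h⁻¹))⁻¹ = g * (h * (w6 * x6 * w6⁻¹) * h⁻¹) * g⁻¹ := by group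
        _ = _ := by rw [h4]

/-- an automorphism of `A₆` fixing an element of order three preserves the 3-cycles -/
theorem preserves {τ : MulAut (alternatingGroup (Fin 6))} {c : alternatingGroup (Fin 6)} (hc : orderOf c = 3)
    (hτ : τ c = c) (x : alternatingGroup (Fin 6)) (hx : (x : Perm (Fin 6)).IsThreeCycle) :
    (τ x : Perm (Fin 6)).IsThreeCycle := by
  have hc' : orderOf (c : Perm (Fin 6)) = 3 := by rw [Subgroup.orderOf_coe, hc]
  have hx' : orderOf (x : Perm (Fin 6)) = 3 := hx.orderOf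
  have hτx : orderOf (τ x : Perm (Fin 6)) = 3 := by
    have h0 : orderOf (τ x) = orderOf x := orderOf_injective τ.toMonoidHom τ.injective x
    rw [Subgroup.orderOf_coe, h0, ← Subgroup.orderOf_coe, hx']
  rcases cycle3 hc' with h1 | h1
  · obtain ⟨a, ha⟩ := isConj_iff.mp (alternatingGroup.isThreeCycle_isConj (by simp) h1 hx)
    have h2 : τ x = τ a * c * (τ a)⁻¹ := by rw [← ha, map_mul, map_mul, map_inv, hτ]
    rw [h2]
    change Perm.IsThreeCycle ((τ a : Perm (Fin 6)) * (c : Perm (Fin 6)) * (τ a : Perm (Fin 6))⁻¹)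
    rw [Perm.IsThreeCycle, Perm.cycleType_conj]
    exact h1
  · rcases cycle3 hτx with h2 | h2
    · exact h2
    · exfalso
      obtain ⟨a, ha⟩ := isConj_iff.mp (conj33 h1 h2)
      have h3 : x = τ.symm a * c * (τ.symm a)⁻¹ := by
        apply τ.injective
        rw [map_mul, map_mul, map_inv, hτ, ← ha, MulEquiv.apply_symm_apply]
      have h4 : (x : Perm (Fin 6)).cycleType = (c : Perm (Fin 6)).cycleType := by
        rw [h3]
        exact Perm.cycleType_conj
      rw [hx.cycleType, h1] at h4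
      exact absurd h4 (by decide)

/-- injectivity of conjugation on alternating groups -/
theorem conjNormal_injective {α : Type*} [Fintype α] [DecidableEq α] (h4 : 4 ≤ Fintype.card α) :
    Function.Injective (MulAut.conjNormal : Perm α →* MulAut (alternatingGroup α)) := by
  open Cfsg.Agent.H18.Alt in
  rw [injective_iff_map_eq_one]
  intro σ hσ
  by_contra hne
  obtain ⟨p, hp⟩ : ∃ p, σ p ≠ p := by
    by_contra hcon
    push Not at hcon
    exact hne (Equiv.ext hcon)
  -- a third and a fourth point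
  obtain ⟨i, j, hpi, hqi, hpj, hqj, hij⟩ : ∃ i j : α, p ≠ i ∧ σ p ≠ i ∧ p ≠ j ∧ σ p ≠ j ∧ i ≠ j := by
    have h1 : 1 < (({p, σ p} : Finset α)ᶜ).card := by
      rw [Finset.card_compl, Finset.card_pair hp.symm]; omega
    obtain ⟨i, hi, j, hj, hij⟩ := Finset.one_lt_card.mp h1
    simp only [Finset.mem_compl, Finset.mem_insert, Finset.mem_singleton, not_or] at hi hj
    exact ⟨i, j, Ne.symm hi.1, Ne.symm hi.2, Ne.symm hj.1, Ne.symm hj.2, hij⟩
  have h1 : (MulAut.conjNormal σ : MulAut (alternatingGroup α)) ⟨cyc p i j, AltAut.cyc_mem hpi hpj hij⟩ =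
      ⟨cyc p i j, AltAut.cyc_mem hpi hpj hij⟩ := by rw [hσ]; rfl
  have h2 := congrArg Subtype.val h1
  rw [MulAut.conjNormal_apply] at h2
  change σ * cyc p i j * σ⁻¹ = cyc p i j at h2
  rw [cyc_conj] at h2
  have h3 : cyc (σ p) (σ i) (σ j) (σ p) = σ i := cyc_apply1 (σ.injective.ne hpi) (σ.injective.ne hpj)
  rw [h2, cyc_apply_ne hp hqi hqj] at h3
  exact hpi (σ.injective h3)

section

variable {G : Type*} [Group G] [Finite G]

/-- two groups embedded in a third with the same order, one image in the other -/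
theorem equiv_of_le {A B : Type*} [Group A] [Group B] [Finite A] (φ : G →* B) (hφ : Function.Injective φ)
    (ψ : A →* B) (hψ : Function.Injective ψ) (h : ∀ g, ∃ a, ψ a = φ g) (hc : Nat.card G = Nat.card A) :
    Nonempty (G ≃* A) := by
  let e := MonoidHom.ofInjective hψ
  let φ' : G →* ψ.range := φ.codRestrict ψ.range (fun g => by obtain ⟨a, ha⟩ := h g; exact ⟨a, ha⟩)
  have h1 : Function.Injective (e.symm.toMonoidHom.comp φ') := by
    intro a b hab
    have h2 : φ' a = φ' b := e.symm.injective hab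
    exact hφ (congrArg Subtype.val h2)
  have h2 : Function.Bijective (e.symm.toMonoidHom.comp φ') := by
    rw [Nat.bijective_iff_injective_and_card]
    exact ⟨h1, hc⟩
  exact ⟨MulEquiv.ofBijective _ h2⟩

theorem S6_of {K : Subgroup G} [hKn : K.Normal] (hK : K.index = 2) (f : K ≃* alternatingGroup (Fin 6)) {t : G}
    (htK : t ∉ K) {c : K} (hc : orderOf c = 3) (htc : t * c * t⁻¹ = c) (hC : ∀ x : G, (∀ k ∈ K, x * k = k * x) → x = 1) :
    Nonempty (G ≃* Perm (Fin 6)) := by
  let φ : G →* MulAut (alternatingGroup (Fin 6)) := (MulAut.congr f).toMonoidHom.comp MulAut.conjNormal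
  have hφ1 : ∀ g x, φ g x = f ((MulAut.conjNormal g : MulAut K) (f.symm x)) := fun g x => rfl
  have hφ : Function.Injective φ := by
    rw [injective_iff_map_eq_one]
    intro g hg
    apply hC
    intro k hk
    have h1 : φ g (f ⟨k, hk⟩) = f ⟨k, hk⟩ := by rw [hg]; rfl
    rw [hφ1, MulEquiv.symm_apply_apply] at h1
    have h2 := congrArg Subtype.val (f.injective h1)
    rw [MulAut.conjNormal_apply] at h2
    exact mul_inv_eq_iff_eq_mul.mp h2
  have hcK : Nat.card K = 360 := by
    rw [Nat.card_congr f.toEquiv, nat_card_alternatingGroup, Nat.card_eq_fintype_card, Fintype.card_fin]; rfl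
  have hcG : Nat.card G = Nat.card (Perm (Fin 6)) := by
    rw [← K.card_mul_index, hK, hcK, Nat.card_perm, Nat.card_eq_fintype_card, Fintype.card_fin]; rfl
  refine equiv_of_le φ hφ MulAut.conjNormal (conjNormal_injective (by simp)) ?_ hcG
  -- elements of `K`
  have hKin : ∀ g ∈ K, ∃ a : Perm (Fin 6), (MulAut.conjNormal a : MulAut (alternatingGroup (Fin 6))) = φ g := by
    intro g hg
    refine ⟨f ⟨g, hg⟩, ?_⟩
    apply MulEquiv.ext
    intro x
    apply Subtype.ext
    rw [hφ1, MulAut.conjNormal_apply]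
    have h1 : (MulAut.conjNormal g : MulAut K) (f.symm x) = ⟨g, hg⟩ * f.symm x * ⟨g, hg⟩⁻¹ := by
      apply Subtype.ext
      rw [MulAut.conjNormal_apply]; rfl
    rw [h1, map_mul, map_mul, map_inv, MulEquiv.apply_symm_apply]
    rfl
  have hφt : φ t (f c) = f c := by
    rw [hφ1, MulEquiv.symm_apply_apply]
    congr 1
    apply Subtype.ext
    rw [MulAut.conjNormal_apply]
    exact htc
  have hfc : orderOf (f c) = 3 := by rw [← hc]; exact orderOf_injective f.toMonoidHom f.injective c
  obtain ⟨a, ha⟩ := AltAut.of_three (by simp) (φ t) (fun x hx => preserves hfc hφt x hx)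
  intro g
  by_cases hg : g ∈ K
  · exact hKin g hg
  · have h1 : t⁻¹ * g ∈ K := (Subgroup.mul_mem_iff_of_index_two hK).mpr (by simp [htK, hg])
    obtain ⟨b, hb⟩ := hKin _ h1
    refine ⟨a * b, ?_⟩
    rw [map_mul, ← ha, hb, ← map_mul, mul_inv_cancel_left]

end

end Cfsg.Agent.H21.S6rec
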