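import Mathlib
import Cfsg.Agent.H21_S6rec3
import Cfsg.Agent.H21_S6rec4

/-!
# Groups with an involution whose centralizer is `Z₂ × S₄`, IV
-/

set_option autoImplicit false
open scoped Pointwise commutatorElement

namespace Cfsg.Agent.H21.S6rec
open MulAction Subgroup Equiv Cfsg.Agent

def c4 : Perm (Fin 4) := c[0, 1, 2]

theorem r0_z : r0 * z0 = z0 * r0 := by decide +kernel
theorem v0_z : v0 * z0 = z0 * v0 := by decide +kernel
theorem v0_sq : v0 * v0 = 1 := by decide +kernel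
theorem v0_r0 : v0 * r0 * v0⁻¹ = r0⁻¹ := by decide +kernel
theorem r0_ne : r0 ^ 2 ≠ 1 := by decide +kernel
theorem r0_four : r0 ^ 4 = 1 := by decide +kernel
theorem r0_pow_ne : ∀ k < 4, r0 ^ k ≠ v0 := by decide +kernel
theorem c4_ord : c4 ^ 3 = 1 := by decide +kernel
theorem c4_ne : c4 ≠ 1 := by decide +kernel
theorem center4 : ∀ σ : Perm (Fin 4), (∀ ρ, σ * ρ = ρ * σ) → σ = 1 := by decide +kernel
theorem gen_cz : ∀ σ : Perm (Fin 4), σ * z0 = z0 * σ → ∃ a b : Perm (Fin 4), σ = a * b ∧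
    (a = 1 ∨ Cj (1, a) (1, z0) ∨ Cj (1, a) (1, d0)) ∧ (b = 1 ∨ Cj (1, b) (1, z0) ∨ Cj (1, b) (1, d0)) := by decide +kernel
theorem card_cls : Fintype.card {y : P // y = (τ1, 1) ∨ Cj (τ1, d0) y} = 7 := by decide +kernel

theorem card_cz4' : Nat.card {σ : Perm (Fin 4) // σ * z0 = z0 * σ} = 8 := by
  rw [Nat.card_eq_fintype_card, card_cz4]

section

variable {G : Type*} [Group G] [Finite G] {t : G} {F : P →* G} (D : Dat t F) (ht : IsConj t (F (τ1, d0)))
  {K : Subgroup G} [hKn : K.Normal] (hK : K.index = 2) (htK : t ∉ K)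

include D ht hK

theorem Dat.card_K : ∃ m, Odd m ∧ Nat.card K = 8 * m := by
  have h1 := (Subgroup.centralizer ({F (1, z0)} : Set G)).card_mul_index
  have h2 := K.card_mul_index
  rw [D.card_z] at h1
  rw [hK] at h2
  exact ⟨_, D.idx, by omega⟩

include htK

/-- the centralizer of `z` in `K` -/
theorem Dat.cent_K (hz : F (1, z0) ∈ K) :
    Nonempty (Subgroup.centralizer ({(⟨F (1, z0), hz⟩ : K)} : Set K) ≃* DihedralGroup 4) := by
  obtain ⟨C, hC⟩ : ∃ C : Subgroup K, C = Subgroup.centralizer ({(⟨F (1, z0), hz⟩ : K)} : Set K) := ⟨_, rfl⟩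
  have hmem : ∀ g : K, g ∈ C ↔ (g : G) * F (1, z0) = F (1, z0) * (g : G) := by
    intro g
    rw [hC, Subgroup.mem_centralizer_singleton_iff]
    exact ⟨fun h => congrArg Subtype.val h, fun h => Subtype.ext h⟩
  rw [← hC]
  clear hC
  have hF : ∀ σ : Perm (Fin 4), σ * z0 = z0 * σ → F (1, σ) * F (1, z0) = F (1, z0) * F (1, σ) := by
    intro σ hσ
    rw [← map_mul, ← map_mul]
    congr 1
    exact Prod.ext rfl hσ
  let j : C →* G := K.subtype.comp C.subtype
  have hj : Function.Injective j := (Subgroup.subtype_injective _).comp (Subgroup.subtype_injective _)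
  obtain ⟨x, hx⟩ : ∃ x : C, j x = F (1, r0) := ⟨⟨⟨F (1, r0), D.mem_K ht hK _⟩, (hmem _).mpr (hF _ r0_z)⟩, rfl⟩
  obtain ⟨y, hy⟩ : ∃ y : C, j y = F (1, v0) := ⟨⟨⟨F (1, v0), D.mem_K ht hK _⟩, (hmem _).mpr (hF _ v0_z)⟩, rfl⟩
  let F1 : Perm (Fin 4) →* G := F.comp (MonoidHom.inr _ _)
  have hF1 : ∀ σ, F1 σ = F (1, σ) := fun σ => rfl
  have hF1i : Function.Injective F1 := by
    intro a b hab
    exact congrArg Prod.snd (D.inj hab)
  have hor : orderOf r0 = 4 := by
    have : orderOf r0 = 2 ^ (1 + 1) := by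
      haveI : Fact (Nat.Prime 2) := ⟨Nat.prime_two⟩
      apply orderOf_eq_prime_pow
      · exact r0_ne
      · exact r0_four
    exact this
  have hor' : orderOf x = 4 := by rw [← orderOf_injective j hj, hx, ← hF1, orderOf_injective F1 hF1i, hor]
  have hsurj : ∀ g : C, ∃ σ : {σ : Perm (Fin 4) // σ * z0 = z0 * σ}, j g = F1 σ.1 := by
    intro g
    obtain ⟨⟨a, σ⟩, hy1, hy2⟩ := D.centz (j g) ((hmem _).mp g.2)
    have h1 : F (a, σ) ∈ K := by rw [hy2]; exact g.1.2
    have h2 := (D.mem_K_iff ht hK htK a σ).mp h1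
    subst h2
    exact ⟨⟨σ, congrArg Prod.snd hy1⟩, hy2.symm⟩
  clear_value j
  apply H5.Dih.nonempty_dihedral (by norm_num) x y hor'
  · apply hj; rw [map_mul, hy, map_one, ← hF1, ← map_mul, v0_sq, map_one]
  · apply hj; rw [map_mul, map_mul, map_inv, map_inv, hx, hy, ← hF1, ← hF1, ← map_inv, ← map_inv, ← map_mul, ← map_mul, v0_r0]
  · intro h
    obtain ⟨k, hk, hk2⟩ := O168.exists_pow_lt h
    rw [hor'] at hk
    have h1 : r0 ^ k = v0 := by
      apply hF1i
      rw [hF1 v0, map_pow, hF1, ← hx, ← hy, ← map_pow, hk2]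
    exact r0_pow_ne k hk h1
  · choose f hf using hsurj
    have hinj : Function.Injective f := by
      intro a b hab
      apply hj
      rw [hf a, hf b, hab]
    have := Nat.card_le_card_of_injective f hinj
    rw [card_cz4'] at this
    exact this

theorem Dat.no_two : ∀ L : Subgroup K, L.index ≠ 2 := by
  intro L hL
  have hLn : L.Normal := Subgroup.normal_of_index_eq_two hL
  have hz : F (1, z0) ∈ K := D.mem_K ht hK _
  have hzL : (⟨F (1, z0), hz⟩ : K) ∈ L := by
    have h1 : (⟨F (1, z0), hz⟩ : K) = ⟨F (1, r0), D.mem_K ht hK _⟩ * ⟨F (1, r0), D.mem_K ht hK _⟩ := by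
      apply Subtype.ext
      change F (1, z0) = F (1, r0) * F (1, r0)
      rw [← map_mul, ← r0_sq]; rfl
    rw [h1]; exact Subgroup.mul_self_mem_of_index_two hL _
  have hconj : ∀ x (hx : x ∈ K), IsConj (F (1, z0)) x → (⟨x, hx⟩ : K) ∈ L := by
    intro x hx hc
    obtain ⟨g, hg⟩ := isConj_iff.mp hc
    have key : ∀ k (hk : k ∈ K), k * F (1, z0) * k⁻¹ = x → (⟨x, hx⟩ : K) ∈ L := by
      intro k hk h
      have h1 : (⟨x, hx⟩ : K) = ⟨k, hk⟩ * ⟨F (1, z0), hz⟩ * ⟨k, hk⟩⁻¹ := Subtype.ext h.symm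
      rw [h1]; exact hLn.conj_mem _ hzL _
    by_cases hgK : g ∈ K
    · exact key g hgK hg
    · have h1 : g * t ∈ K := (Subgroup.mul_mem_iff_of_index_two hK).mpr (by simp [htK, hgK])
      apply key _ h1
      have h2 := D.comm_t (1, z0)
      rw [← hg]
      calc g * t * F (1, z0) * (g * t)⁻¹ = g * (t * F (1, z0)) * t⁻¹ * g⁻¹ := by group
        _ = _ := by rw [← h2]; group
  have hM : ∀ σ : Perm (Fin 4), σ * z0 = z0 * σ → (⟨F (1, σ), D.mem_K ht hK σ⟩ : K) ∈ L := by
    intro σ hσ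
    obtain ⟨a, b, rfl, ha, hb⟩ := gen_cz σ hσ
    have key : ∀ a : Perm (Fin 4), (a = 1 ∨ Cj (1, a) (1, z0) ∨ Cj (1, a) (1, d0)) → (⟨F (1, a), D.mem_K ht hK a⟩ : K) ∈ L := by
      intro a ha
      rcases ha with rfl | h | h
      · have : (⟨F (1, 1), D.mem_K ht hK 1⟩ : K) = 1 := Subtype.ext (map_one F)
        rw [this]; exact one_mem L
      · exact hconj _ _ (cj_map F h).symm
      · exact hconj _ _ ((D.conj_zd ht).trans (cj_map F h).symm)
    have h1 : (⟨F (1, a * b), D.mem_K ht hK (a * b)⟩ : K) = ⟨F (1, a), D.mem_K ht hK a⟩ * ⟨F (1, b), D.mem_K ht hK b⟩ := by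
      apply Subtype.ext
      change F (1, a * b) = F (1, a) * F (1, b)
      rw [← map_mul]; rfl
    rw [h1]; exact mul_mem (key a ha) (key b hb)
  have hle : Subgroup.centralizer ({(⟨F (1, z0), hz⟩ : K)} : Set K) ≤ L := by
    rintro ⟨g, hg⟩ hgC
    have h1 : g * F (1, z0) = F (1, z0) * g := congrArg Subtype.val (Subgroup.mem_centralizer_singleton_iff.mp hgC)
    obtain ⟨⟨a, σ⟩, hy1, hy2⟩ := D.centz g h1
    have h2 : F (a, σ) ∈ K := by rw [hy2]; exact hg
    have h3 := (D.mem_K_iff ht hK htK a σ).mp h2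
    subst h3
    have h4 := hM σ (congrArg Prod.snd hy1)
    have h5 : (⟨F (1, σ), D.mem_K ht hK σ⟩ : K) = ⟨g, hg⟩ := Subtype.ext hy2
    rwa [h5] at h4
  obtain ⟨e⟩ := D.cent_K ht hK htK hz
  have h8 : 8 ∣ Nat.card L := by
    have := Subgroup.card_dvd_of_le hle
    rwa [Nat.card_congr e.toEquiv, DihedralGroup.nat_card] at this
  obtain ⟨m, hm, hcK⟩ := D.card_K ht hK
  have h1 := L.card_mul_index
  rw [hL, hcK] at h1
  obtain ⟨k, hk⟩ := h8
  obtain ⟨j, hj⟩ := hm
  omega

theorem Dat.simple : IsSimpleGroup K ∧ (Nat.card K = 168 ∨ Nat.card K = 360) := by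
  have hz : F (1, z0) ∈ K := D.mem_K ht hK _
  obtain ⟨e⟩ := D.cent_K ht hK htK hz
  have ho : orderOf (⟨F (1, z0), hz⟩ : K) = 2 := by
    rw [Subgroup.orderOf_mk]; exact D.order_z
  exact D8rec.main ho e (D.no_two ht hK htK)

theorem Dat.not168 [IsSimpleGroup K] : Nat.card K ≠ 168 := by
  intro h168
  have hG : Nat.card G = 336 := by rw [← K.card_mul_index, hK, h168]
  have hcl := H4.Count.class_card t
  rw [D.card_t, hG] at hcl
  have hcl7 : Nat.card {x : G // ∃ g, g * t * g⁻¹ = x} = 7 := by omega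
  -- all conjugates of `t` lie in `C(t)`
  have hall : ∀ x, (∃ g, g * t * g⁻¹ = x) → x * t = t * x := by
    let φ : {y : P // y = (τ1, 1) ∨ Cj (τ1, d0) y} → {x : G // ∃ g, g * t * g⁻¹ = x} := fun y => ⟨F y.1, by
      rcases y.2 with h | h
      · rw [h, D.ft]; exact ⟨1, by group⟩
      · exact isConj_iff.mp (ht.trans (cj_map F h))⟩
    have hφ : Function.Injective φ := by
      intro a b hab
      exact Subtype.ext (D.inj (congrArg Subtype.val hab))
    have hb : Function.Bijective φ := by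
      rw [Nat.bijective_iff_injective_and_card]
      refine ⟨hφ, ?_⟩
      rw [hcl7, Nat.card_eq_fintype_card, card_cls]
    intro x hx
    obtain ⟨y, hy⟩ := hb.2 ⟨x, hx⟩
    have h1 : F y.1 = x := congrArg Subtype.val hy
    rw [← h1]; exact D.comm_t _
  obtain ⟨N, hN⟩ : ∃ N, N = Subgroup.normalClosure ({t} : Set G) := ⟨_, rfl⟩
  haveI hNn : N.Normal := by rw [hN]; exact Subgroup.normalClosure_normal
  have hNt : ∀ x, IsConj t x → x ∈ N := by
    intro x hx
    obtain ⟨g, rfl⟩ := isConj_iff.mp hx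
    apply hNn.conj_mem
    rw [hN]; exact Subgroup.subset_normalClosure rfl
  have hN1 : ∀ g : G, ∀ x ∈ N, x * (g * t * g⁻¹) = (g * t * g⁻¹) * x := by
    intro g
    have h1 : N ≤ Subgroup.centralizer ({g * t * g⁻¹} : Set G) := by
      rw [hN, Subgroup.normalClosure, Subgroup.closure_le]
      intro x hx
      rw [Group.mem_conjugatesOfSet_iff] at hx
      obtain ⟨a, ha, hax⟩ := hx
      rw [Set.mem_singleton_iff.mp ha] at hax
      obtain ⟨h, hh⟩ := isConj_iff.mp hax
      rw [SetLike.mem_coe, Subgroup.mem_centralizer_singleton_iff]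
      have h2 := hall (g⁻¹ * x * g) ⟨g⁻¹ * h, by rw [← hh]; group⟩
      calc x * (g * t * g⁻¹) = g * ((g⁻¹ * x * g) * t) * g⁻¹ := by group
        _ = _ := by rw [h2]; group
    intro x hx
    exact Subgroup.mem_centralizer_singleton_iff.mp (h1 hx)
  have hN2 : ∀ x ∈ N, ∀ y ∈ N, x * y = y * x := by
    intro x hx y hy
    have h1 : N ≤ Subgroup.centralizer ({x} : Set G) := by
      rw [hN, Subgroup.normalClosure, Subgroup.closure_le]
      intro w hw
      rw [Group.mem_conjugatesOfSet_iff] at hw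
      obtain ⟨a, ha, haw⟩ := hw
      rw [Set.mem_singleton_iff.mp ha] at haw
      obtain ⟨h, hh⟩ := isConj_iff.mp haw
      rw [SetLike.mem_coe, Subgroup.mem_centralizer_singleton_iff, ← hh]
      exact (hN1 h x hx).symm
    exact (Subgroup.mem_centralizer_singleton_iff.mp (h1 hy)).symm
  have hdN : F (1, d0) ∈ N := by
    have h1 : F (1, d0) = t * F (τ1, d0) := by
      rw [← D.ft, ← map_mul]; congr 1
    rw [h1]
    exact mul_mem (hNt t (IsConj.refl t)) (hNt _ ht)
  have hNK : K ≤ N := by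
    have h1 : (N.subgroupOf K).Normal := inferInstance
    rcases h1.eq_bot_or_eq_top with h2 | h2
    · exfalso
      have h3 : (⟨F (1, d0), D.mem_K ht hK d0⟩ : K) ∈ N.subgroupOf K := hdN
      rw [h2, Subgroup.mem_bot] at h3
      have h4 : F (1, d0) = 1 := congrArg Subtype.val h3
      rw [← map_one F] at h4
      exact absurd (D.inj h4) (by decide)
    · exact Subgroup.subgroupOf_eq_top.mp h2
  have h1 := hN2 _ (hNK (D.mem_K ht hK d0)) _ (hNK (D.mem_K ht hK v0))
  rw [← map_mul, ← map_mul] at h1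
  exact absurd (D.inj h1) (by decide)

omit htK in
theorem Dat.centK (x : G) (hx : ∀ k ∈ K, x * k = k * x) (hcK : 48 < Nat.card K) : x = 1 := by
  obtain ⟨⟨a, σ⟩, hy1, hy2⟩ := D.centz x (hx _ (D.mem_K ht hK z0))
  have h1 : σ = 1 := by
    apply center4
    intro ρ
    have h2 := hx _ (D.mem_K ht hK ρ)
    rw [← hy2, ← map_mul, ← map_mul] at h2
    exact congrArg Prod.snd (D.inj h2)
  subst h1
  by_cases ha : a = 1
  · subst ha; rw [← hy2]; exact map_one F
  · exfalso
    have h2 : a = τ1 := by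
      have : ∀ a : Multiplicative (ZMod 2), a ≠ 1 → a = τ1 := by decide
      exact this a ha
    subst h2
    rw [D.ft] at hy2
    subst hy2
    have h3 : K ≤ Subgroup.centralizer ({t} : Set G) := by
      intro k hk
      rw [Subgroup.mem_centralizer_singleton_iff]; exact (hx k hk).symm
    have h4 := Subgroup.card_le_of_le h3
    rw [D.card_t] at h4
    omega

omit hKn hK htK in
theorem Dat.caseB : Nonempty (G ≃* Perm (Fin 6)) := by
  obtain ⟨K, hKn, hK, htK⟩ := D.exists_K ht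
  obtain ⟨hs, h1 | h1⟩ := D.simple ht hK htK
  · exact absurd h1 (D.not168 ht hK htK)
  · obtain ⟨f⟩ := O360.iso_A6 (G := K) h1
    refine S6_of hK f htK (c := ⟨F (1, c4), D.mem_K ht hK c4⟩) ?_ ?_ (fun x hx => D.centK ht hK x hx (by omega))
    · rw [Subgroup.orderOf_mk, orderOf_injective F D.inj]
      haveI : Fact (Nat.Prime 3) := ⟨Nat.prime_three⟩
      apply orderOf_eq_prime
      · apply Prod.ext
        · exact one_pow 3
        · exact c4_ord
      · intro h; exact c4_ne (congrArg Prod.snd h)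
    · change t * F (1, c4) * t⁻¹ = F (1, c4)
      rw [← D.comm_t]; group

end

end Cfsg.Agent.H21.S6rec
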