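import Mathlib
import Cfsg.Agent.H21_S6rec5

/-!
# Groups with an involution whose centralizer is `Z₂ × S₄`, V
-/

set_option autoImplicit false
open scoped Pointwise commutatorElement

namespace Cfsg.Agent.H21.S6rec
open MulAction Subgroup Equiv Cfsg.Agent

theorem sg_mul : ∀ σ ρ : Perm (Fin 4), sg (σ * ρ) = sg σ * sg ρ := by decide +kernel

/-- the twist -/
def tw : P →* P where
  toFun y := (y.1 * sg y.2, y.2)
  map_one' := by decide
  map_mul' := by
    intro a b
    apply Prod.ext
    · change a.1 * b.1 * sg (a.2 * b.2) = a.1 * sg a.2 * (b.1 * sg b.2)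
      rw [sg_mul, mul_mul_mul_comm]
    · rfl

theorem tw_tw (y : P) : tw (tw y) = y := by
  apply Prod.ext
  · change y.1 * sg y.2 * sg y.2 = y.1
    have : ∀ a : Multiplicative (ZMod 2), a * a = 1 := by decide
    rw [mul_assoc, this, mul_one]
  · rfl

theorem tw_inj : Function.Injective tw := by
  intro a b h
  rw [← tw_tw a, h, tw_tw]

theorem tw_t : tw (τ1, 1) = (τ1, 1) := by decide
theorem tw_z : tw (1, z0) = (1, z0) := by decide +kernel
theorem tw_d : tw (τ1, d0) = (1, d0) := by decide +kernel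
theorem central_P : ∀ y : P, y ≠ 1 → (∀ w, w * y = y * w) → y = (τ1, 1) := by decide +kernel

section

variable {G : Type*} [Group G] {t : G} {F : P →* G}

theorem Dat.twist (D : Dat t F) : Dat t (F.comp tw) := by
  have hz : (F.comp tw) (1, z0) = F (1, z0) := by
    change F (tw (1, z0)) = _
    rw [tw_z]
  refine ⟨D.inj.comp tw_inj, ?_, ?_, ?_, ?_⟩
  · intro g hg
    obtain ⟨y, hy⟩ := D.cent g hg
    refine ⟨tw y, ?_⟩
    change F (tw (tw y)) = g
    rw [tw_tw, hy]
  · change F (tw (τ1, 1)) = t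
    rw [tw_t, D.ft]
  · intro g hg
    rw [hz] at hg
    obtain ⟨y, hy1, hy⟩ := D.centz g hg
    refine ⟨tw y, ?_, ?_⟩
    · apply tw_inj
      rw [map_mul, map_mul, tw_tw, tw_z]
      exact hy1
    · change F (tw (tw y)) = g
      rw [tw_tw, hy]
  · rw [hz]; exact D.idx

theorem Dat.final [Finite G] (D : Dat t F) : Subgroup.centralizer ({t} : Set G) = ⊤ ∨ Nonempty (G ≃* Perm (Fin 6)) := by
  by_cases h2 : IsConj t (F (τ1, d0))
  · exact Or.inr (D.caseB h2)
  by_cases h1 : IsConj t (F (1, d0))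
  · right
    apply D.twist.caseB
    change IsConj t (F (tw (τ1, d0)))
    rw [tw_d]; exact h1
  · exact Or.inl (D.caseA h1 h2)

theorem exists_dat [Finite G] (ht : orderOf t = 2) (T : Sylow 2 G) (htc : ∀ s ∈ (T : Subgroup G), s * t = t * s)
    (e : ↥(Subgroup.centralizer ({t} : Set G)) ≃* P)
    (h2 : ∀ S : Sylow 2 G, Subgroup.centralizer ((⁅(S : Subgroup G), (S : Subgroup G)⁆ : Subgroup G) : Set G) = (S : Subgroup G)) :
    ∃ F : P →* G, Dat t F := by
  haveI : Fact (Nat.Prime 2) := ⟨Nat.prime_two⟩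
  obtain ⟨F, hF, hFe⟩ : ∃ F : P →* G, Function.Injective F ∧
      ∀ y, F y = (e.symm y : Subgroup.centralizer ({t} : Set G)) :=
    ⟨(Subgroup.centralizer ({t} : Set G)).subtype.comp e.symm.toMonoidHom,
      (Subgroup.subtype_injective _).comp e.symm.injective, fun y => rfl⟩
  have hsurj : ∀ g, g * t = t * g → ∃ y, F y = g := by
    intro g hg
    refine ⟨e ⟨g, Subgroup.mem_centralizer_singleton_iff.mpr hg⟩, ?_⟩
    rw [hFe, MulEquiv.symm_apply_apply]
  have hFt : ∀ y, F y * t = t * F y := by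
    intro y
    rw [hFe]; exact Subgroup.mem_centralizer_singleton_iff.mp (Subtype.prop _)
  have ht1 : t ≠ 1 := by rintro rfl; rw [orderOf_one] at ht; norm_num at ht
  have hft : F (τ1, 1) = t := by
    obtain ⟨y, hy⟩ := hsurj t rfl
    have h1 : y = (τ1, 1) := by
      apply central_P
      · rintro rfl; rw [map_one] at hy; exact ht1 hy.symm
      · intro w
        apply hF
        rw [map_mul, map_mul, hy]; exact hFt w
    rw [← h1, hy]
  -- the Sylow subgroup
  obtain ⟨T₀, hT₀⟩ : ∃ T₀ : Subgroup G, T₀ = (Subgroup.centralizer ({((1, z0) : P)} : Set P)).map F := ⟨_, rfl⟩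
  have hmem : ∀ g, g ∈ T₀ ↔ ∃ y : P, y * (1, z0) = (1, z0) * y ∧ F y = g := by
    intro g
    rw [hT₀]
    constructor
    · rintro ⟨y, hy, rfl⟩; exact ⟨y, Subgroup.mem_centralizer_singleton_iff.mp hy, rfl⟩
    · rintro ⟨y, hy, rfl⟩; exact ⟨y, Subgroup.mem_centralizer_singleton_iff.mpr hy, rfl⟩
  have hc0 : Nat.card T₀ = 16 := by
    have h1 : Function.Bijective (fun y : {y : P // y * (1, z0) = (1, z0) * y} => (⟨F y.1, (hmem _).mpr ⟨y.1, y.2, rfl⟩⟩ : T₀)) := by
      constructor
      · intro a b h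
        exact Subtype.ext (hF (congrArg Subtype.val h))
      · rintro ⟨g, hg⟩
        obtain ⟨y, hy1, hy⟩ := (hmem _).mp hg
        exact ⟨⟨y, hy1⟩, Subtype.ext hy⟩
    rw [← Nat.card_congr (Equiv.ofBijective _ h1), Nat.card_eq_fintype_card, card_cz]
  have hcC : Nat.card (Subgroup.centralizer ({t} : Set G)) = 48 := by
    rw [Nat.card_congr e.toEquiv, Nat.card_eq_fintype_card, card_P]
  have hcT : Nat.card (T : Subgroup G) = 16 := by
    have h1 : (T : Subgroup G) ≤ Subgroup.centralizer ({t} : Set G) := fun s hs =>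
      Subgroup.mem_centralizer_singleton_iff.mpr (htc s hs)
    have h2 := Subgroup.card_dvd_of_le h1
    rw [hcC] at h2
    have hp0 : IsPGroup 2 T₀ := IsPGroup.of_card (n := 4) (by rw [hc0]; norm_num)
    obtain ⟨S, hS⟩ := hp0.exists_le_sylow
    have h3 := Subgroup.card_dvd_of_le hS
    rw [hc0] at h3
    have h4 : Nat.card (S : Subgroup G) = Nat.card (T : Subgroup G) := by
      obtain ⟨g, hg⟩ := MulAction.exists_smul_eq G S T
      rw [← hg]
      exact Nat.card_congr (Subgroup.equivSMul (MulAut.conj g) (S : Subgroup G)).toEquiv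
    obtain ⟨n, hn⟩ := IsPGroup.iff_card.mp T.2
    have hn' : Nat.card (T : Subgroup G) = 2 ^ n := hn
    rw [h4, hn'] at h3
    rw [hn'] at h2 ⊢
    have h5 : 4 ≤ n := by
      have : 2 ^ 4 ∣ 2 ^ n := by simpa using h3
      exact (Nat.pow_dvd_pow_iff_le_right (by norm_num)).mp this
    have h6 : n < 5 := by
      by_contra h7
      push Not at h7
      have h8 : 2 ^ 5 ∣ 48 := (pow_dvd_pow 2 h7).trans h2
      revert h8; decide
    interval_cases n
    rfl
  have hidx : Odd T₀.index := by
    have h1 := (T : Subgroup G).card_mul_index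
    have h2 := T₀.card_mul_index
    rw [hcT] at h1
    rw [hc0] at h2
    have h3 : T₀.index = (T : Subgroup G).index := by omega
    rw [h3, ← Nat.not_even_iff_odd, even_iff_two_dvd]
    exact T.not_dvd_index
  have hcz : ∀ g, g * F (1, z0) = F (1, z0) * g → g ∈ T₀ := by
    intro g hg
    have hp0 : IsPGroup 2 T₀ := IsPGroup.of_card (n := 4) (by rw [hc0]; norm_num)
    let S : Sylow 2 G := hp0.toSylow (fun h => by
      rw [← Nat.not_even_iff_odd] at hidx
      exact hidx (even_iff_two_dvd.mpr h))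
    have hS : (S : Subgroup G) = T₀ := rfl
    have h3 := h2 S
    rw [hS] at h3
    rw [← h3]
    have h4 : ⁅T₀, T₀⁆ ≤ Subgroup.centralizer ({g} : Set G) := by
      rw [Subgroup.commutator_le]
      intro a ha b hb
      obtain ⟨y, hy, rfl⟩ := (hmem _).mp ha
      obtain ⟨y', hy', rfl⟩ := (hmem _).mp hb
      rw [← map_commutatorElement, Subgroup.mem_centralizer_singleton_iff, commutatorElement_def]
      rcases comm_z y y' hy hy' with h5 | h5
      · rw [h5, map_one, one_mul, mul_one]
      · rw [h5]; exact hg.symm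
    rw [Subgroup.mem_centralizer_iff]
    intro c hc
    exact Subgroup.mem_centralizer_singleton_iff.mp (h4 hc)
  refine ⟨F, hF, hsurj, hft, fun g hg => (hmem g).mp (hcz g hg), ?_⟩
  have h5 : Subgroup.centralizer ({F (1, z0)} : Set G) = T₀ := by
    ext g
    rw [Subgroup.mem_centralizer_singleton_iff]
    constructor
    · exact hcz g
    · intro hg
      obtain ⟨y, hy, rfl⟩ := (hmem _).mp hg
      rw [← map_mul, hy, map_mul]
  rw [h5]; exact hidx

end

end Cfsg.Agent.H21.S6rec
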