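import Mathlib
import Cfsg.Agent.H1_Hall
import Cfsg.Agent.H22_FPF
import Cfsg.Agent.H3_Fpf

/-!
Automorphisms of prime order with few fixed points: counting lemmas; derived length lemmas.
-/

set_option autoImplicit false
set_option linter.unusedSectionVars false

namespace Cfsg.Agent.H22.Alp

open Subgroup
open scoped commutatorElement

section

variable {G : Type*} [Group G]

/-- fixed points -/
def Fx (α : MulAut G) : Subgroup G where
  carrier := {g | α g = g}
  one_mem' := map_one α
  mul_mem' := by
    intro a b ha hb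
    show α (a * b) = a * b
    rw [map_mul, ha, hb]
  inv_mem' := by
    intro a ha
    show α a⁻¹ = a⁻¹
    rw [map_inv, ha]

theorem mem_Fx {α : MulAut G} {g : G} : g ∈ Fx α ↔ α g = g := Iff.rfl

theorem card_Fx_quot [Finite G] (α : MulAut G) (N : Subgroup G) [N.Normal] (h : N.map α.toMonoidHom = N) :
    Nat.card (Fx (G := G ⧸ N) (QuotientGroup.congr N N α h)) ≤ Nat.card (Fx α) := by
  classical
  set β : MulAut (G ⧸ N) := QuotientGroup.congr N N α h with hβ
  set F := (Fx β).comap (QuotientGroup.mk' N) with hF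
  have h1 : Nat.card F = Nat.card (Fx β) * Nat.card N := H1.Hall.card_comap_mk N (Fx β)
  have hFm : ∀ g ∈ F, g⁻¹ * α g ∈ N := by
    intro g hg
    rw [hF, Subgroup.mem_comap, mem_Fx] at hg
    have h2 : β (QuotientGroup.mk' N g) = QuotientGroup.mk (α g) := rfl
    rw [h2] at hg
    exact QuotientGroup.eq.mp hg.symm
  let s : N → G := fun n => if h : ∃ x, x⁻¹ * α x = n then h.choose else 1
  have hs : ∀ n : N, (∃ x, x⁻¹ * α x = n) → (s n)⁻¹ * α (s n) = n := by
    intro n hn
    show (dite _ _ _)⁻¹ * α (dite _ _ _) = _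
    rw [dif_pos hn]
    exact hn.choose_spec
  have hmem : ∀ g : F, (g : G) * (s ⟨(g : G)⁻¹ * α g, hFm g g.2⟩)⁻¹ ∈ Fx α := by
    intro g
    have h2 := hs ⟨(g : G)⁻¹ * α g, hFm g g.2⟩ ⟨g, rfl⟩
    set y := s ⟨(g : G)⁻¹ * α g, hFm g g.2⟩ with hy
    have h3 : y⁻¹ * α y = (g : G)⁻¹ * α g := h2
    rw [mem_Fx, map_mul, map_inv]
    have h4 : α y = y * ((g : G)⁻¹ * α g) := by rw [← h3]; group
    rw [h4]
    group
  let f : F → N × Fx α := fun g => (⟨(g : G)⁻¹ * α g, hFm g g.2⟩, ⟨_, hmem g⟩)
  have hf : Function.Injective f := by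
    intro a b hab
    have h2 : (a : G)⁻¹ * α a = (b : G)⁻¹ * α b := congrArg (fun x => ((x.1 : N) : G)) hab
    have h3 : (a : G) * (s ⟨(a : G)⁻¹ * α a, hFm a a.2⟩)⁻¹ = (b : G) * (s ⟨(b : G)⁻¹ * α b, hFm b b.2⟩)⁻¹ :=
      congrArg (fun x => ((x.2 : Fx α) : G)) hab
    have h4 : (⟨(a : G)⁻¹ * α a, hFm a a.2⟩ : N) = ⟨(b : G)⁻¹ * α b, hFm b b.2⟩ := Subtype.ext h2
    rw [h4] at h3
    exact Subtype.ext (mul_right_cancel h3)
  have h5 := Nat.card_le_card_of_injective f hf
  rw [Nat.card_prod, h1, mul_comm] at h5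
  exact Nat.le_of_mul_le_mul_left h5 Nat.card_pos

theorem card_Fx_restr [Finite G] (α : MulAut G) (N : Subgroup G) (h : N.map α.toMonoidHom = N) :
    Nat.card (Fx (H3.Fpf.restr α N h)) ≤ Nat.card (Fx α) := by
  refine Nat.card_le_card_of_injective
    (fun x => (⟨((x : N) : G), ?_⟩ : Fx α)) ?_
  · have h1 := x.2
    rw [mem_Fx] at h1 ⊢
    rw [← H3.Fpf.restr_coe α N h, h1]
  · intro a b hab
    have h2 := congrArg (fun z : Fx α => (z : G)) hab
    exact Subtype.ext (Subtype.ext h2)

end

section

variable {A : Type*} [AddCommGroup A] [Finite A]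

theorem card_ker_mul (f g : AddMonoid.End A) : Nat.card {x : A // (f * g) x = 0} ≤
    Nat.card {x : A // f x = 0} * Nat.card {x : A // g x = 0} := by
  classical
  let s : A → A := fun y => if h : ∃ x, g x = y then h.choose else 0
  have hs : ∀ y, (∃ x, g x = y) → g (s y) = y := by
    intro y hy
    show g (dite _ _ _) = _
    rw [dif_pos hy]
    exact hy.choose_spec
  rw [← Nat.card_prod]
  refine Nat.card_le_card_of_injective
    (fun x : {x : A // (f * g) x = 0} => ((⟨g x.1, x.2⟩ : {x : A // f x = 0}),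
      (⟨x.1 - s (g x.1), by rw [map_sub, hs _ ⟨x.1, rfl⟩, sub_self]⟩ : {x : A // g x = 0}))) ?_
  intro a b hab
  have h1 : g a.1 = g b.1 := congrArg (fun x => x.1.1) hab
  have h2 : a.1 - s (g a.1) = b.1 - s (g b.1) := congrArg (fun x => x.2.1) hab
  rw [h1] at h2
  exact Subtype.ext (sub_left_injective h2)

theorem card_ker_pow (f : AddMonoid.End A) (j : ℕ) : Nat.card {x : A // (f ^ j) x = 0} ≤
    (Nat.card {x : A // f x = 0}) ^ j := by
  induction j with
  | zero =>
    rw [pow_zero, pow_zero]
    have : Subsingleton {x : A // (1 : AddMonoid.End A) x = 0} :=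
      ⟨fun a b => Subtype.ext ((show a.1 = 0 from a.2).trans (show b.1 = 0 from b.2).symm)⟩
    exact Finite.card_le_one_iff_subsingleton.mpr this
  | succ j ih =>
    rw [pow_succ, pow_succ]
    exact (card_ker_mul _ _).trans (Nat.mul_le_mul_right _ ih)

theorem card_le_of_end {p : ℕ} (hp : p.Prime) (α : AddMonoid.End A) (hα : α ^ p = 1) {c : ℕ}
    (hfix : Nat.card {x : A // α x = x} ≤ c) (e : ℕ) (he : ∀ x : A, p ^ e • x = 0) : Nat.card A ≤ (c ^ p) ^ e := by
  have hδ : Nat.card {x : A // (α - 1) x = 0} ≤ c := by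
    refine le_trans (Nat.card_le_card_of_injective (fun x => (⟨x.1, ?_⟩ : {x : A // α x = x})) ?_) hfix
    · have h1 : α x.1 - x.1 = 0 := x.2
      exact sub_eq_zero.mp h1
    · intro a b hab
      exact Subtype.ext (congrArg (fun x => x.1) hab)
  -- `(α - 1)^p` is a multiple of `p`
  obtain ⟨r, hr⟩ : ∃ r : AddMonoid.End A, (α - 1) ^ p = r * p := by
    obtain ⟨r, hr⟩ := ((Commute.one_right α).neg_right).exists_add_pow_prime_eq hp
    rw [← sub_eq_add_neg, hα] at hr
    have hcast : ∀ (m : ℕ) (x : AddMonoid.End A), (m : AddMonoid.End A) * x = x * m := fun m x => (Nat.cast_commute m x).eq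
    rcases hp.eq_two_or_odd' with rfl | hodd
    · refine ⟨1 + α * (-1) * r, ?_⟩
      rw [hr, ← hcast]
      simp only [neg_one_sq, mul_assoc, mul_add, mul_one]
      norm_num
    · refine ⟨α * (-1) * r, ?_⟩
      rw [hr, ← hcast, hodd.neg_one_pow]
      simp only [mul_assoc, add_neg_cancel, zero_add]
  have h1 : Nat.card {x : A // (p : AddMonoid.End A) x = 0} ≤ c ^ p := by
    refine le_trans (Nat.card_le_card_of_injective
      (fun x => (⟨x.1, ?_⟩ : {x : A // ((α - 1) ^ p) x = 0})) ?_) ((card_ker_pow _ p).trans (Nat.pow_le_pow_left hδ p))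
    · rw [hr]
      show r ((p : AddMonoid.End A) x.1) = 0
      rw [x.2, map_zero]
    · intro a b hab
      exact Subtype.ext (congrArg (fun x => x.1) hab)
  refine le_trans (Nat.card_le_card_of_injective
      (fun x : A => (⟨x, ?_⟩ : {x : A // ((p : AddMonoid.End A) ^ e) x = 0})) ?_)
      ((card_ker_pow _ e).trans (Nat.pow_le_pow_left h1 e))
  · rw [← Nat.cast_pow]
    exact (AddMonoid.End.natCast_apply _ _).trans (he x)
  · intro a b hab
    exact congrArg (fun x => x.1) hab

end

section

variable {G : Type*} [Group G]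

/-- additive version -/
def toEnd {A : Type*} [CommGroup A] (α : MulAut A) : AddMonoid.End (Additive A) := MonoidHom.toAdditive α.toMonoidHom

theorem pow_toAdditive {A : Type*} [CommGroup A] (α : MulAut A) (k : ℕ) (x : A) :
    (((toEnd α) ^ k) (Additive.ofMul x)) = Additive.ofMul ((α ^ k) x) := by
  induction k generalizing x with
  | zero => rfl
  | succ k ih =>
    rw [pow_succ, pow_succ, MulAut.mul_apply]
    exact ih (α x)

theorem card_le_comm {A : Type*} [CommGroup A] [Finite A] {p : ℕ} (hp : p.Prime) (α : MulAut A) (hα : α ^ p = 1)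
    {c : ℕ} (hc : Nat.card (Fx α) ≤ c) (e : ℕ) (he : ∀ x : A, x ^ (p ^ e) = 1) : Nat.card A ≤ (c ^ p) ^ e := by
  refine card_le_of_end (A := Additive A) hp (toEnd α) ?_ (c := c) ?_ e ?_
  · apply AddMonoidHom.ext
    intro x
    have h1 := pow_toAdditive α p (Additive.toMul x)
    rw [hα] at h1
    exact h1
  · exact hc
  · intro x
    exact he (Additive.toMul x)

theorem card_abelian_le [Finite G] {p : ℕ} (hp : p.Prime) (α : MulAut G) (hα : α ^ p = 1) (A : Subgroup G)
    (hA : IsMulCommutative A) (hinv : A.map α.toMonoidHom = A) {c : ℕ} (hc : Nat.card (Fx α) ≤ c) (e : ℕ)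
    (he : ∀ x ∈ A, x ^ (p ^ e) = 1) : Nat.card A ≤ (c ^ p) ^ e := by
  have h0 := (card_Fx_restr α A hinv).trans hc
  have h1 : (H3.Fpf.restr α A hinv) ^ p = 1 := by
    apply MulEquiv.ext
    intro x
    apply Subtype.ext
    rw [H3.Fpf.restr_pow, hα]
    rfl
  let inst : CommGroup A := { (inferInstance : Group A) with mul_comm := hA.is_comm.comm }
  exact card_le_comm (A := A) hp (H3.Fpf.restr α A hinv) h1 h0 e (fun x => Subtype.ext (by
    rw [SubmonoidClass.coe_pow]
    exact he _ x.2))

/-- derived length is bounded by the order -/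
theorem derivedSeries_card [Finite G] [Group.IsSolvable G] {m : ℕ} (h : Nat.card G ≤ m) : derivedSeries G m = ⊥ := by
  have key : ∀ i, derivedSeries G i = ⊥ ∨ Nat.card (derivedSeries G i) + i ≤ m := by
    intro i
    induction i with
    | zero => right; rw [add_zero]; exact (Subgroup.card_le_card_group _).trans h
    | succ i ih =>
      rcases ih with ih | ih
      · left
        rw [derivedSeries_succ, ih, Subgroup.commutator_bot_left]
      · by_cases hb : derivedSeries G i = ⊥
        · left
          rw [derivedSeries_succ, hb, Subgroup.commutator_bot_left]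
        · right
          have hlt : derivedSeries G (i + 1) < derivedSeries G i := by
            rw [derivedSeries_succ]
            exact Group.IsSolvable.commutator_lt_of_ne_bot hb
          have := Set.ncard_lt_ncard (SetLike.coe_ssubset_coe.mpr hlt) (Set.toFinite _)
          have h3 : Nat.card (derivedSeries G (i + 1)) < Nat.card (derivedSeries G i) := this
          omega
  rcases key m with h1 | h1
  · exact h1
  · have : 0 < Nat.card (derivedSeries G m) := Nat.card_pos
    omega

theorem derivedSeries_le_centralizer [Finite G] [Group.IsSolvable G] (A : Subgroup G) [A.Normal] {b : ℕ}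
    (hA : Nat.card A ≤ b) : derivedSeries G b.factorial ≤ centralizer (A : Set G) := by
  let f : G →* MulAut A := MulAut.conjNormal
  have h1 : Nat.card f.range ≤ b.factorial := by
    calc Nat.card f.range ≤ Nat.card (MulAut A) := Subgroup.card_le_card_group _
      _ ≤ Nat.card (Equiv.Perm A) := Nat.card_le_card_of_injective MulEquiv.toEquiv MulEquiv.toEquiv_injective
      _ = (Nat.card A).factorial := Nat.card_perm
      _ ≤ b.factorial := Nat.factorial_le hA
  have h3 : Group.IsSolvable f.range := Group.isSolvable_of_surjective f.rangeRestrict_surjective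
  have h4 := derivedSeries_card h1
  have h5 := map_derivedSeries_le_derivedSeries f.rangeRestrict b.factorial
  rw [h4, le_bot_iff, Subgroup.map_eq_bot_iff, MonoidHom.ker_rangeRestrict] at h5
  intro g hg
  have h6 : f g = 1 := h5 hg
  rw [mem_centralizer_iff]
  intro a ha
  have h7 : ((f g ⟨a, ha⟩ : A) : G) = g * a * g⁻¹ := MulAut.conjNormal_apply g ⟨a, ha⟩
  rw [h6] at h7
  have h8 : a = g * a * g⁻¹ := h7
  calc a * g = (g * a * g⁻¹) * g := by rw [← h8]
    _ = g * a := by group

theorem derivedSeries_le_lcs (V : Subgroup G) (a : ℕ) (h : derivedSeries G a ≤ V) (j : ℕ) :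
    derivedSeries G (a + j) ≤ V.lowerCentralSeries j := by
  induction j with
  | zero => exact h
  | succ j ih =>
    rw [← add_assoc, derivedSeries_succ]
    exact Subgroup.commutator_mono ih ((derivedSeries_antitone G (by omega)).trans h)

theorem derivedSeries_le_map (V : Subgroup G) (a : ℕ) (h : derivedSeries G a ≤ V) (j : ℕ) :
    derivedSeries G (a + j) ≤ (derivedSeries V j).map V.subtype := by
  induction j with
  | zero =>
    rw [derivedSeries_zero, ← MonoidHom.range_eq_map, Subgroup.range_subtype]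
    exact h
  | succ j ih =>
    rw [← add_assoc, derivedSeries_succ, derivedSeries_succ, Subgroup.map_commutator]
    exact Subgroup.commutator_mono ih ih

end

end Cfsg.Agent.H22.Alp
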