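import Cfsg.Statements.S3781
import Cfsg.Agent.H22_Basic

set_option autoImplicit false
open Cfsg

namespace Cfsg.Agent.S3781

open Subgroup
open scoped commutatorElement

variable {G : Type*} [Group G]

theorem map_le_bot_iff (A N : Subgroup G) [N.Normal] : A.map (QuotientGroup.mk' N) = ⊥ ↔ A ≤ N := by
  rw [Subgroup.map_eq_bot_iff, QuotientGroup.ker_mk']

theorem three_le (A B C N : Subgroup G) [N.Normal] (h1 : ⁅⁅B, C⁆, A⁆ ≤ N) (h2 : ⁅⁅C, A⁆, B⁆ ≤ N) : ⁅⁅A, B⁆, C⁆ ≤ N := by
  rw [← map_le_bot_iff, Subgroup.map_commutator, Subgroup.map_commutator] at h1 h2 ⊢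
  exact commutator_commutator_eq_bot_of_rotate h1 h2

/-- `[X, G, …, G]` -/
def it (X : Subgroup G) : ℕ → Subgroup G
  | 0 => X
  | n + 1 => ⁅it X n, ⊤⁆

instance it_normal (X : Subgroup G) [X.Normal] (n : ℕ) : (it X n).Normal := by
  induction n with
  | zero => exact ‹X.Normal›
  | succ n ih => exact Subgroup.commutator_normal _ _

theorem it_comm (X : Subgroup G) (n : ℕ) : it ⁅X, ⊤⁆ n = it X (n + 1) := by
  induction n with
  | zero => rfl
  | succ n ih => show ⁅it ⁅X, ⊤⁆ n, ⊤⁆ = ⁅it X (n + 1), ⊤⁆; rw [ih]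

theorem comm_lcs_le (n : ℕ) : ∀ (X : Subgroup G) [X.Normal], ⁅X, (⊤ : Subgroup G).lowerCentralSeries n⁆ ≤ it X (n + 1) := by
  induction n with
  | zero => intro X _; exact le_refl _
  | succ n ih =>
    intro X _
    rw [Subgroup.lowerCentralSeries_succ, Subgroup.commutator_comm]
    apply three_le
    · rw [Subgroup.commutator_comm ⊤ X]
      refine (ih ⁅X, ⊤⁆).trans ?_
      rw [it_comm]
    · exact Subgroup.commutator_mono (ih X) le_rfl

theorem lt_of_ne_bot [Finite G] (hnil : Group.IsNilpotent G) (Y : Subgroup G) (hY : Y ≠ ⊥) : ⁅Y, (⊤ : Subgroup G)⁆ ≠ Y := by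
  intro h
  apply hY
  obtain ⟨c, hc⟩ := Subgroup.nilpotent_iff_lowerCentralSeries.mp hnil
  have h1 : ∀ k, Y ≤ (⊤ : Subgroup G).lowerCentralSeries k := by
    intro k
    induction k with
    | zero => exact le_top
    | succ k ih =>
      calc Y = ⁅Y, ⊤⁆ := h.symm
        _ ≤ _ := Subgroup.commutator_mono ih le_rfl
  rw [eq_bot_iff, ← hc]; exact h1 c

theorem index_chain [Finite G] {p : ℕ} [hp : Fact p.Prime] (hG : IsPGroup p G) (X Y : Subgroup G) [X.Normal] [hYn : Y.Normal] (hYX : Y ≤ X)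
    (k : ℕ) (h : ¬ it X k ≤ Y) : ∀ j, j ≤ k → p ^ (j + 1) ≤ Y.relIndex (it X (k - j) ⊔ Y) := by
  have hrel : ∀ {A B : Subgroup G}, A ≤ B → A ≠ B → p ≤ A.relIndex B := by
    intro A B hAB hne
    obtain ⟨k, hk⟩ : ∃ k, A.relIndex B = p ^ k := by
      obtain ⟨m, hm⟩ := (hG.to_subgroup B).exists_card_eq
      have h4 : A.relIndex B ∣ p ^ m := by
        rw [← hm]; exact Subgroup.relIndex_dvd_card _ _
      obtain ⟨k, _, hk⟩ := (Nat.dvd_prime_pow hp.out).mp h4
      exact ⟨k, hk⟩
    rw [hk]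
    apply Nat.le_self_pow
    rintro rfl
    rw [pow_zero] at hk
    exact hne (le_antisymm hAB (Subgroup.relIndex_eq_one.mp hk))
  intro j
  induction j with
  | zero =>
    intro _
    rw [zero_add, pow_one]
    apply hrel le_sup_right
    intro h2
    apply h
    rw [h2]; exact le_sup_left
  | succ j ih =>
    intro hj
    have ih' := ih (by omega)
    have hstep : it X (k - j) = ⁅it X (k - (j + 1)), ⊤⁆ := by
      rw [show k - j = (k - (j + 1)) + 1 by omega]; rfl
    set A := it X (k - (j + 1)) with hA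
    have hAn : A.Normal := it_normal X _
    have hle : it X (k - j) ⊔ Y ≤ A ⊔ Y := by
      apply sup_le_sup_right
      rw [hstep]
      exact Subgroup.commutator_le_left _ _
    have hne : it X (k - j) ⊔ Y ≠ A ⊔ Y := by
      intro h2
      -- A ≤ [A,G] Y
      have hQ : Group.IsNilpotent (G ⧸ Y) := (hG.to_quotient Y).isNilpotent
      have h3 : A.map (QuotientGroup.mk' Y) = ⊥ := by
        by_contra hcon
        apply lt_of_ne_bot hQ _ hcon
        have h4 : (⊤ : Subgroup (G ⧸ Y)) = (⊤ : Subgroup G).map (QuotientGroup.mk' Y) := by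
          rw [← MonoidHom.range_eq_map, MonoidHom.range_eq_top.mpr (QuotientGroup.mk'_surjective Y)]
        rw [h4, ← Subgroup.map_commutator, ← hstep]
        have h5 : ∀ B : Subgroup G, B.map (QuotientGroup.mk' Y) = (B ⊔ Y).map (QuotientGroup.mk' Y) := by
          intro B
          rw [Subgroup.map_sup]
          have : Y.map (QuotientGroup.mk' Y) = ⊥ := (map_le_bot_iff Y Y).mpr le_rfl
          rw [this, sup_bot_eq]
        rw [h5, h2, ← h5]
      have h4 := (map_le_bot_iff A Y).mp h3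
      have h5 : ∀ i, it A i ≤ Y := by
        intro i
        induction i with
        | zero => exact h4
        | succ i ihi => exact (Subgroup.commutator_mono ihi le_rfl).trans (Subgroup.commutator_le_left _ _)
      have h6 : ∀ i m, it (it X m) i = it X (m + i) := by
        intro i m
        induction i with
        | zero => rfl
        | succ i ihi => show ⁅it (it X m) i, ⊤⁆ = ⁅it X (m + i), ⊤⁆; rw [ihi]
      apply h
      have := h5 (j + 1)
      rw [hA, h6, show k - (j + 1) + (j + 1) = k by omega] at this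
      exact this
    have h1 : Y.relIndex (it X (k - j) ⊔ Y) * (it X (k - j) ⊔ Y).relIndex (A ⊔ Y) = Y.relIndex (A ⊔ Y) :=
      Subgroup.relIndex_mul_relIndex _ _ _ le_sup_right hle
    rw [← h1, pow_succ]
    exact Nat.mul_le_mul ih' (hrel hle hne)

/-- If N is a normal subgroup of a finite p-group G contained in the n-th lower central term, and the (i+1)-st lower central term of N is nontrivial, i > 1, then #(γ_i(N) : γ_{i+1}(N)) ≥ p^n. -/
theorem result {G : Type*} [Group G] [Finite G] {p : ℕ} [Fact p.Prime] (hG : IsPGroup p G) (n : ℕ) (hn : 1 ≤ n) (N : Subgroup G) [N.Normal] (hN : N ≤ (⊤ : Subgroup G).lowerCentralSeries (n - 1)) (i : ℕ) (hi : 1 < i) (hne : N.lowerCentralSeries i ≠ ⊥) : p ^ n ≤ (N.lowerCentralSeries i).relIndex (N.lowerCentralSeries (i - 1)) := by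
  by_contra hcon
  have hlcs : ∀ k, (N.lowerCentralSeries k).Normal := by
    intro k
    induction k with
    | zero => exact ‹N.Normal›
    | succ k ih => rw [Subgroup.lowerCentralSeries_succ]; exact Subgroup.commutator_normal _ _
  set X := N.lowerCentralSeries (i - 1) with hX
  set Y := N.lowerCentralSeries i with hY
  have hXn : X.Normal := hlcs _
  have hYn : Y.Normal := hlcs _
  have hYX : Y ≤ X := N.lowerCentralSeries_antitone (by omega)
  have h1 : it X (n - 1) ≤ Y := by
    by_contra h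
    have h2 := index_chain hG X Y hYX (n - 1) h (n - 1) le_rfl
    rw [Nat.sub_self, show n - 1 + 1 = n by omega] at h2
    have h3 : it X 0 ⊔ Y = X := sup_eq_left.mpr hYX
    rw [h3] at h2
    exact hcon h2
  have h2 : it X n ≤ ⁅Y, ⊤⁆ := by
    have : it X n = ⁅it X (n - 1), ⊤⁆ := by
      obtain ⟨m, rfl⟩ : ∃ m, n = m + 1 := ⟨n - 1, by omega⟩
      rfl
    rw [this]
    exact Subgroup.commutator_mono h1 le_rfl
  have h3 : Y ≤ ⁅Y, ⊤⁆ := by
    have h4 : Y = ⁅X, N⁆ := by
      rw [hY, hX]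
      obtain ⟨m, rfl⟩ : ∃ m, i = m + 1 := ⟨i - 1, by omega⟩
      rfl
    calc Y = ⁅X, N⁆ := h4
      _ ≤ ⁅X, (⊤ : Subgroup G).lowerCentralSeries (n - 1)⁆ := Subgroup.commutator_mono le_rfl hN
      _ ≤ it X (n - 1 + 1) := comm_lcs_le _ X
      _ = it X n := by rw [show n - 1 + 1 = n by omega]
      _ ≤ _ := h2
  exact lt_of_ne_bot hG.isNilpotent Y hne (le_antisymm (Subgroup.commutator_le_left _ _) h3)

end Cfsg.Agent.S3781
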