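import Cfsg.Agent.H22_Alp1
import Cfsg.Agent.S3781

/-!
`p`-groups with an automorphism of order `p` with few fixed points: the subgroup `V`.
-/

set_option autoImplicit false
set_option linter.unusedSectionVars false

namespace Cfsg.Agent.H22.Alp

open Subgroup
open scoped commutatorElement

section

variable {G : Type*} [Group G]

theorem map_commutator_inv {α : MulAut G} {A B : Subgroup G} (hA : A.map α.toMonoidHom = A)
    (hB : B.map α.toMonoidHom = B) : (⁅A, B⁆ : Subgroup G).map α.toMonoidHom = ⁅A, B⁆ := by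
  rw [Subgroup.map_commutator, hA, hB]

theorem map_char_inv (α : MulAut G) (A : Subgroup G) [A.Characteristic] : A.map α.toMonoidHom = A :=
  Subgroup.characteristic_iff_map_eq.mp inferInstance α

theorem quot_apply {α : MulAut G} {N : Subgroup G} [N.Normal] (h : N.map α.toMonoidHom = N) (k : ℕ) (g : G) :
    (((QuotientGroup.congr N N α h : MulAut (G ⧸ N)) ^ k) (QuotientGroup.mk g)) = QuotientGroup.mk ((α ^ k) g) := by
  induction k generalizing g with
  | zero => rfl
  | succ k ih =>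
    rw [pow_succ, pow_succ, MulAut.mul_apply, MulAut.mul_apply]
    exact ih (α g)

theorem quot_pow {α : MulAut G} {N : Subgroup G} [N.Normal] (h : N.map α.toMonoidHom = N) {k : ℕ} (hk : α ^ k = 1) :
    (QuotientGroup.congr N N α h : MulAut (G ⧸ N)) ^ k = 1 := by
  apply MulEquiv.ext
  intro x
  induction x using QuotientGroup.induction_on with
  | H g =>
  have h1 := quot_apply h k g
  rw [hk] at h1
  exact h1

theorem map_quot_inv {α : MulAut G} {N : Subgroup G} [N.Normal] (h : N.map α.toMonoidHom = N) {A : Subgroup G}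
    (hA : A.map α.toMonoidHom = A) :
    (A.map (QuotientGroup.mk' N)).map (QuotientGroup.congr N N α h : MulAut (G ⧸ N)).toMonoidHom =
      A.map (QuotientGroup.mk' N) := by
  conv_rhs => rw [← hA]
  rw [Subgroup.map_map, Subgroup.map_map]
  congr 1

theorem commutator_lt [Finite G] [Group.IsNilpotent G] {N : Subgroup G} [N.Normal] (hN : N ≠ ⊥) :
    ⁅N, (⊤ : Subgroup G)⁆ < N :=
  lt_of_le_of_ne (Subgroup.commutator_le_left _ _) (S3781.lt_of_ne_bot inferInstance N hN)

/-- the bound -/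
def Bd (p k c : ℕ) : ℕ := (((c ^ p) ^ k) * ((c ^ p) ^ k)).factorial

theorem centV [Finite G] {p k c : ℕ} (hp : p.Prime) (hP : IsPGroup p G) (α : MulAut G) (hα : α ^ p = 1)
    (hc : Nat.card (Fx α) ≤ c) : ∀ (m : ℕ) (N : Subgroup G), N.Normal → N.map α.toMonoidHom = N →
      N ≤ derivedSeries G (Bd p k c) → (∀ x ∈ N, x ^ (p ^ k) = 1) → Nat.card N = m →
      ⁅N, derivedSeries G (Bd p k c)⁆ = ⊥ := by
  have : Fact p.Prime := ⟨hp⟩
  have hnil : Group.IsNilpotent G := hP.isNilpotent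
  intro m
  induction m using Nat.strong_induction_on with
  | _ m ih =>
  intro N hN hinv hle hexp hm
  by_cases hb : N = ⊥
  · rw [hb, Subgroup.commutator_bot_left]
  set V := derivedSeries G (Bd p k c) with hV
  have hMn : (⁅N, V⁆ : Subgroup G).Normal := Subgroup.commutator_normal _ _
  have hMN : ⁅N, V⁆ < N := lt_of_le_of_lt (Subgroup.commutator_mono le_rfl le_top) (commutator_lt hb)
  have hMinv : (⁅N, V⁆ : Subgroup G).map α.toMonoidHom = ⁅N, V⁆ := map_commutator_inv hinv (map_char_inv α V)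
  have hcard : Nat.card (⁅N, V⁆ : Subgroup G) < m := by
    rw [← hm]
    exact Set.ncard_lt_ncard (SetLike.coe_ssubset_coe.mpr hMN) (Set.toFinite _)
  have h1 := ih _ hcard ⁅N, V⁆ hMn hMinv (hMN.le.trans hle) (fun x hx => hexp x (hMN.le hx)) rfl
  -- `N'` is central in `N`
  have hNNM : ⁅N, N⁆ ≤ ⁅N, V⁆ := Subgroup.commutator_mono le_rfl hle
  have hNN : ⁅⁅N, N⁆, N⁆ = ⊥ := le_bot_iff.mp ((Subgroup.commutator_mono hNNM hle).trans h1.le)
  have hN'le : ⁅N, N⁆ ≤ N := Subgroup.commutator_le_left _ _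
  have hN'c : IsMulCommutative (⁅N, N⁆ : Subgroup G) := by
    refine ⟨⟨fun a b => Subtype.ext ?_⟩⟩
    have h2 := Subgroup.commutator_eq_bot_iff_le_centralizer.mp hNN
    have h3 := h2 a.2
    exact ((mem_centralizer_iff.mp h3) b (hN'le b.2)).symm
  have hN'inv : (⁅N, N⁆ : Subgroup G).map α.toMonoidHom = ⁅N, N⁆ := map_commutator_inv hinv hinv
  have b1 : Nat.card (⁅N, N⁆ : Subgroup G) ≤ (c ^ p) ^ k :=
    card_abelian_le hp α hα _ hN'c hN'inv hc k (fun x hx => hexp x (hN'le hx))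
  -- the quotient
  have hN'n : (⁅N, N⁆ : Subgroup G).Normal := Subgroup.commutator_normal _ _
  have hq := card_Fx_quot α ⁅N, N⁆ hN'inv
  have b2 : Nat.card (N.map (QuotientGroup.mk' ⁅N, N⁆)) ≤ (c ^ p) ^ k := by
    refine card_abelian_le hp (QuotientGroup.congr _ _ α hN'inv) (quot_pow hN'inv hα) _ ?_ (map_quot_inv hN'inv hinv)
      (hq.trans hc) k ?_
    · refine ⟨⟨fun a b => Subtype.ext ?_⟩⟩
      obtain ⟨x, hx, hxa⟩ := a.2
      obtain ⟨y, hy, hyb⟩ := b.2
      show (a : G ⧸ ⁅N, N⁆) * b = b * a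
      rw [← hxa, ← hyb, ← map_mul, ← map_mul]
      apply QuotientGroup.eq.mpr
      have h4 : (x * y)⁻¹ * (y * x) = ⁅y⁻¹, x⁻¹⁆ := by
        rw [commutatorElement_def]; group
      rw [h4]
      exact Subgroup.commutator_mem_commutator (inv_mem hy) (inv_mem hx)
    · rintro _ ⟨x, hx, rfl⟩
      rw [← map_pow, hexp x hx, map_one]
  have b3 : Nat.card N ≤ ((c ^ p) ^ k) * ((c ^ p) ^ k) := by
    have h4 := H1.Hall.card_comap_mk ⁅N, N⁆ (N.map (QuotientGroup.mk' ⁅N, N⁆))
    rw [Subgroup.comap_map_eq, QuotientGroup.ker_mk', sup_eq_left.mpr hN'le] at h4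
    rw [h4]
    exact Nat.mul_le_mul b2 b1
  have h5 : V ≤ centralizer (N : Set G) := derivedSeries_le_centralizer N b3
  rw [Subgroup.commutator_comm]
  exact Subgroup.commutator_eq_bot_iff_le_centralizer.mpr h5

theorem centV' [Finite G] {p k c : ℕ} (hp : p.Prime) (hP : IsPGroup p G) (α : MulAut G) (hα : α ^ p = 1)
    (hc : Nat.card (Fx α) ≤ c) (N K : Subgroup G) [N.Normal] [K.Normal] (hN : N.map α.toMonoidHom = N)
    (hK : K.map α.toMonoidHom = K) (hle : N ≤ derivedSeries G (Bd p k c)) (hexp : ∀ x ∈ N, x ^ (p ^ k) ∈ K) :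
    ⁅N, derivedSeries G (Bd p k c)⁆ ≤ K := by
  have hq := card_Fx_quot α K hK
  have hsurj := QuotientGroup.mk'_surjective K
  have h1 := centV (k := k) hp (hP.of_surjective _ hsurj) (QuotientGroup.congr K K α hK) (quot_pow hK hα) (hq.trans hc) _
    (N.map (QuotientGroup.mk' K)) (Subgroup.Normal.map inferInstance _ hsurj) (map_quot_inv hK hN)
    (by rw [← map_derivedSeries_eq hsurj]; exact Subgroup.map_mono hle)
    (by
      rintro _ ⟨x, hx, rfl⟩
      rw [← map_pow]
      exact (QuotientGroup.eq_one_iff _).mpr (hexp x hx)) rfl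
  rw [← map_derivedSeries_eq hsurj, ← Subgroup.map_commutator] at h1
  exact (S3781.map_le_bot_iff _ _).mp h1

/-- subgroup generated by `m`-th powers -/
def pw (N : Subgroup G) (m : ℕ) : Subgroup G := Subgroup.closure {y | ∃ x ∈ N, x ^ m = y}

theorem pow_mem_pw {N : Subgroup G} {m : ℕ} {x : G} (hx : x ∈ N) : x ^ m ∈ pw N m := Subgroup.subset_closure ⟨x, hx, rfl⟩

theorem pw_le {N K : Subgroup G} {m : ℕ} (h : ∀ x ∈ N, x ^ m ∈ K) : pw N m ≤ K := by
  unfold pw
  rw [Subgroup.closure_le]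
  rintro _ ⟨x, hx, rfl⟩
  exact h x hx

theorem pw_map {H : Type*} [Group H] (f : G →* H) (N : Subgroup G) (m : ℕ) : (pw N m).map f = pw (N.map f) m := by
  unfold pw
  rw [MonoidHom.map_closure]
  congr 1
  ext y
  constructor
  · rintro ⟨_, ⟨x, hx, rfl⟩, rfl⟩
    exact ⟨f x, ⟨x, hx, rfl⟩, (map_pow f x m).symm⟩
  · rintro ⟨_, ⟨x, hx, rfl⟩, rfl⟩
    exact ⟨x ^ m, ⟨x, hx, rfl⟩, map_pow f x m⟩

instance pw_normal (N : Subgroup G) [hN : N.Normal] (m : ℕ) : (pw N m).Normal := by
  constructor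
  intro x hx g
  have h1 : (pw N m).map (MulAut.conj g).toMonoidHom = pw N m := by
    rw [pw_map]
    congr 1
    apply Subgroup.ext
    intro y
    constructor
    · rintro ⟨z, hz, rfl⟩
      exact hN.conj_mem z hz g
    · intro hy
      refine ⟨g⁻¹ * y * g, by have := hN.conj_mem y hy g⁻¹; rwa [inv_inv] at this, ?_⟩
      show g * (g⁻¹ * y * g) * g⁻¹ = y
      group
  rw [← h1]
  exact ⟨x, hx, rfl⟩

theorem pw_inv {α : MulAut G} {N : Subgroup G} (h : N.map α.toMonoidHom = N) (m : ℕ) :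
    (pw N m).map α.toMonoidHom = pw N m := by
  rw [pw_map, h]

theorem eq_bot_of_le_pw [Finite G] {p : ℕ} (hp : p.Prime) {X : Subgroup G} (hX : IsPGroup p X) (h : X ≤ pw X p) :
    X = ⊥ := by
  have : Fact p.Prime := ⟨hp⟩
  by_contra hb
  obtain ⟨n, hn⟩ := IsPGroup.iff_card.mp hX
  have hn0 : n ≠ 0 := by
    rintro rfl
    rw [pow_zero] at hn
    exact hb (Subgroup.card_eq_one.mp hn)
  obtain ⟨j, rfl⟩ := Nat.exists_eq_succ_of_ne_zero hn0
  obtain ⟨M, hM⟩ := Sylow.exists_subgroup_card_pow_prime (G := X) p (n := j) (by rw [hn]; exact pow_dvd_pow p (Nat.le_succ j))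
  have hidx : M.index = p := by
    have h1 := M.card_mul_index
    rw [hM, hn, Nat.succ_eq_add_one, pow_succ] at h1
    exact Nat.eq_of_mul_eq_mul_left (pow_pos hp.pos j) h1
  have hMn : M.Normal := by
    apply Subgroup.normal_of_index_eq_minFac_card
    rw [hidx, hn, Nat.Prime.pow_minFac hp (Nat.succ_ne_zero j)]
  have h2 : pw X p ≤ M.map X.subtype := by
    apply pw_le
    intro x hx
    refine ⟨⟨x, hx⟩ ^ p, ?_, rfl⟩
    have h3 := M.pow_index_mem ⟨x, hx⟩
    rwa [hidx] at h3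
  have h4 : M = ⊤ := by
    rw [eq_top_iff]
    intro x _
    obtain ⟨y, hy, hyx⟩ := h2 (h x.2)
    have : y = x := Subtype.ext hyx
    rwa [← this]
  rw [h4, Subgroup.index_top] at hidx
  exact hp.one_lt.ne hidx

/-- the combination: from the Lie ring information to nilpotency -/
theorem class_le [Finite G] {p c N' : ℕ} (hp : p.Prime) (hP : IsPGroup p G) (α : MulAut G) (hα : α ^ p = 1)
    (hc : Nat.card (Fx α) ≤ c) (m : ℕ)
    (h : ∀ x ∈ (derivedSeries G (Bd p (N' + 1) c)).lowerCentralSeries m,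
      x ^ (p ^ N') ∈ (derivedSeries G (Bd p (N' + 1) c)).lowerCentralSeries (m + 1)) :
    (derivedSeries G (Bd p (N' + 1) c)).lowerCentralSeries (m + 1) = ⊥ := by
  set V := derivedSeries G (Bd p (N' + 1) c) with hV
  set A := V.lowerCentralSeries m with hA
  have hAn : A.Normal := inferInstance
  have hAinv : A.map α.toMonoidHom = A := map_char_inv α A
  have hAV : A ≤ V := Subgroup.lowerCentralSeries_le_self _ _
  have h1 : V.lowerCentralSeries (m + 1) ≤ pw A (p ^ (N' + 1)) := by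
    rw [Subgroup.lowerCentralSeries_succ]
    exact centV' hp hP α hα hc A (pw A (p ^ (N' + 1))) hAinv (pw_inv hAinv _) hAV (fun x hx => pow_mem_pw hx)
  have h2 : pw A (p ^ N') ≤ V.lowerCentralSeries (m + 1) := pw_le h
  have h3 : pw A (p ^ (N' + 1)) ≤ pw (pw A (p ^ N')) p := by
    apply pw_le
    intro x hx
    rw [pow_succ, pow_mul]
    exact pow_mem_pw (pow_mem_pw hx)
  have h4 : pw A (p ^ N') = ⊥ := eq_bot_of_le_pw hp (hP.to_subgroup _) (h2.trans (h1.trans h3))
  rw [h4] at h3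
  rw [eq_bot_iff]
  refine h1.trans (h3.trans (pw_le ?_))
  intro x hx
  rw [Subgroup.mem_bot.mp hx, one_pow]
  exact one_mem _

end

end Cfsg.Agent.H22.Alp
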