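import Cfsg.Statements.S3779
import Cfsg.Agent.H22_LieGr3
import Cfsg.Agent.H22_LieGr4
import Cfsg.Agent.H3_Fpf

set_option autoImplicit false
open Cfsg

namespace Cfsg.Agent.S3779

open Cfsg.Agent.H22.AssocLie Cfsg.Agent.H22.LieGr
open scoped commutatorElement

variable {G : Type*} [Group G]

theorem c_mem_C (n : ℕ) : ∀ g ∈ Lc G n, (c n g : LG G) ∈ C (LG G) n := by
  induction n with
  | zero => intro g _; exact AddSubgroup.mem_top _
  | succ n ih =>
    intro g hg
    have hg' : g ∈ Subgroup.closure { x | ∃ p ∈ Lc G n, ∃ q ∈ (⊤ : Subgroup G), ⁅p, q⁆ = x } := hg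
    have key : ∀ g (_ : g ∈ Subgroup.closure { x | ∃ p ∈ Lc G n, ∃ q ∈ (⊤ : Subgroup G), ⁅p, q⁆ = x }),
        (c (n + 1) g : LG G) ∈ C (LG G) (n + 1) := by
      intro g hg
      induction hg using Subgroup.closure_induction with
      | mem x hx =>
        obtain ⟨p, hp, q, _, rfl⟩ := hx
        have h1 : (⁅(c n p : LG G), (c 0 q : LG G)⁆ : LG G) = c (n + 1) ⁅p, q⁆ := lie_c hp (Subgroup.mem_top q)
        rw [← h1]
        exact AddSubgroup.subset_closure ⟨_, ih p hp, _, rfl⟩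
      | one => rw [c_one]; exact zero_mem _
      | mul x y hx hy h1 h2 =>
        have hx' : x ∈ Lc G (n + 1) := hx
        have hy' : y ∈ Lc G (n + 1) := hy
        rw [c_mul hx' hy']; exact add_mem h1 h2
      | inv x hx h1 =>
        have hx' : x ∈ Lc G (n + 1) := hx
        rw [c_inv hx']; exact neg_mem h1
    exact key g hg'

section

variable (α : MulAut G)

theorem α_mem {n : ℕ} {g : G} (hg : g ∈ Lc G n) : α g ∈ Lc G n := by
  have h : (Lc G n).map α.toMonoidHom = Lc G n := Subgroup.characteristic_iff_map_eq.mp inferInstance α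
  rw [← h]
  exact ⟨g, hg, rfl⟩

theorem cl_α_congr {n : ℕ} {g g' : G} (hg : g ∈ Lc G n) (hg' : g' ∈ Lc G n) (h : cl n g = cl n g') :
    cl n (α g) = cl n (α g') := by
  rw [cl_eq hg hg'] at h
  rw [cl_eq (α_mem α hg) (α_mem α hg'), ← map_inv, ← map_mul]
  exact α_mem α h

/-- action on a graded piece -/
noncomputable def φn (n : ℕ) : A G n →+ A G n :=
  AddMonoidHom.mk' (fun a => cl n (α (rep a))) (by
    intro a b
    rw [← cl_mul (α_mem α (rep_mem a)) (α_mem α (rep_mem b)), ← map_mul]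
    refine cl_α_congr α (rep_mem _) (mul_mem (rep_mem a) (rep_mem b)) ?_
    rw [cl_rep, cl_mul (rep_mem a) (rep_mem b), cl_rep, cl_rep])

theorem φn_cl {n : ℕ} {g : G} (hg : g ∈ Lc G n) : φn α n (cl n g) = cl n (α g) :=
  cl_α_congr α (rep_mem _) hg (cl_rep _)

/-- action on the Lie ring, additive -/
noncomputable def φa : LG G →+ LG G := lift fun n => (ι n).comp (φn α n)

theorem φa_c {n : ℕ} {g : G} (hg : g ∈ Lc G n) : φa α (c n g) = c n (α g) := by
  unfold φa c
  rw [lift_ι, AddMonoidHom.comp_apply, φn_cl α hg]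

theorem φa_lie (x y : LG G) : φa α ⁅x, y⁆ = ⁅φa α x, φa α y⁆ := by
  induction x using ind with
  | h0 => rw [zero_lie, map_zero, zero_lie]
  | h2 x x' hx hx' => rw [add_lie, map_add, hx, hx', map_add, add_lie]
  | h1 m g hg =>
  induction y using ind with
  | h0 => rw [lie_zero, map_zero, lie_zero]
  | h2 x x' hx hx' => rw [lie_add, map_add, hx, hx', map_add, lie_add]
  | h1 n h hh =>
  rw [lie_c hg hh, φa_c α (comm_mem hg hh), φa_c α hg, φa_c α hh, lie_c (α_mem α hg) (α_mem α hh),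
    map_commutatorElement]

/-- action on the Lie ring -/
noncomputable def φ : LG G →ₗ⁅ℤ⁆ LG G :=
  { (φa α).toIntLinearMap with
    map_lie' := by intro x y; exact φa_lie α x y }

theorem φ_apply (x : LG G) : φ α x = φa α x := rfl

theorem φ_iter_c {n : ℕ} {g : G} (hg : g ∈ Lc G n) (k : ℕ) : (φ α)^[k] (c n g) = c n ((α ^ k) g) ∧ (α ^ k) g ∈ Lc G n := by
  induction k with
  | zero => exact ⟨rfl, hg⟩
  | succ k ih =>
    rw [Function.iterate_succ_apply', ih.1, pow_succ', MulAut.mul_apply, φ_apply, φa_c α ih.2]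
    exact ⟨rfl, α_mem α ih.2⟩

theorem φ_iter_add (k : ℕ) (x y : LG G) : (φ α)^[k] (x + y) = (φ α)^[k] x + (φ α)^[k] y := by
  induction k with
  | zero => rfl
  | succ k ih => rw [Function.iterate_succ_apply', Function.iterate_succ_apply', Function.iterate_succ_apply', ih, map_add]

theorem φ_iter_zero (k : ℕ) : (φ α)^[k] 0 = 0 := by
  induction k with
  | zero => rfl
  | succ k ih => rw [Function.iterate_succ_apply', ih, map_zero]

theorem φ_p {p : ℕ} (h : α ^ p = 1) (x : LG G) : (φ α)^[p] x = x := by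
  induction x using ind with
  | h0 => exact φ_iter_zero α p
  | h2 x y hx hy => rw [φ_iter_add, hx, hy]
  | h1 n g hg => rw [(φ_iter_c α hg p).1, h, MulAut.one_apply]

theorem sum_zero [Finite G] {p : ℕ} (h : α ^ p = 1) (hfpf : ∀ g : G, α g = g → g = 1) (x : LG G) :
    ∑ k ∈ Finset.range p, (φ α)^[k] x = 0 := by
  induction x using ind with
  | h0 => simp only [φ_iter_zero]; exact Finset.sum_const_zero
  | h2 x y hx hy => simp only [φ_iter_add, Finset.sum_add_distrib, hx, hy, add_zero]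
  | h1 n g hg =>
  have hinj : Function.Injective (fun h : G => h⁻¹ * α h) := by
    intro a b hab
    have hab' : a⁻¹ * α a = b⁻¹ * α b := hab
    have h1 : α (a * b⁻¹) = a * b⁻¹ := by
      rw [map_mul, map_inv]
      have h2 : α a = a * (b⁻¹ * α b) := by rw [← hab']; group
      rw [h2]; group
    have h2 := hfpf _ h1
    exact mul_inv_eq_one.mp h2
  obtain ⟨h', hh'⟩ := Finite.surjective_of_injective hinj g
  have hh : h'⁻¹ * α h' = g := hh'
  have key : ∀ m, h'⁻¹ * (α ^ m) h' ∈ Lc G n ∧ ∑ k ∈ Finset.range m, (φ α)^[k] (c n g) = c n (h'⁻¹ * (α ^ m) h') := by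
    intro m
    induction m with
    | zero =>
      rw [pow_zero, MulAut.one_apply, inv_mul_cancel]
      refine ⟨one_mem _, ?_⟩
      rw [Finset.range_zero, Finset.sum_empty, c_one]
    | succ m ih =>
      have e : h'⁻¹ * (α ^ (m + 1)) h' = (h'⁻¹ * (α ^ m) h') * (α ^ m) g := by
        rw [← hh, map_mul, map_inv, pow_succ, MulAut.mul_apply]
        group
      have h2 := φ_iter_c α hg m
      rw [e]
      refine ⟨mul_mem ih.1 h2.2, ?_⟩
      rw [Finset.sum_range_succ, ih.2, h2.1, c_mul ih.1 h2.2]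
  rw [(key p).2, h, MulAut.one_apply, inv_mul_cancel, c_one]

end

theorem main [Finite G] {p : ℕ} (hp : p.Prime) (α : MulAut G) (hα : orderOf α = p) (hfpf : ∀ g : G, α g = g → g = 1)
    (m : ℕ) (hm : ∀ M : Fam (TensorProduct ℤ (Rω p) (LG G)) p, Gr M → M 0 = ⊥ → Γ m M = ⊥) :
    (⊤ : Subgroup G).lowerCentralSeries m = ⊥ := by
  have hαp : α ^ p = 1 := by rw [← hα]; exact pow_orderOf_eq_one α
  -- order of `G` prime to `p`
  have hcop : (Nat.card G).Coprime p := by
    have : Fact p.Prime := ⟨hp⟩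
    refine Nat.Coprime.symm ((Nat.Prime.coprime_iff_not_dvd hp).mpr fun hd => ?_)
    have hpg : IsPGroup p (Subgroup.zpowers α) := IsPGroup.of_card (n := 1) (by rw [Nat.card_zpowers, hα, pow_one])
    obtain ⟨b, hb, hb1⟩ := hpg.exists_fixed_point_of_prime_dvd_card_of_fixed_point G hd (a := (1 : G)) (by
      intro a
      exact smul_one a)
    exact hb1 (hfpf b (hb ⟨α, Subgroup.mem_zpowers α⟩)).symm
  have hnil : Group.IsNilpotent G := H3.Fpf.nilpotent_of_fp p hp _ G α rfl ⟨hfpf, hαp⟩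
  have key : Lc G m ≤ Lc G (m + 1) := by
    intro g hg
    have h1 := C_torsion (φ α) hp (φ_p α hαp) (sum_zero α hαp hfpf) m hm (c m g) (c_mem_C m g hg)
    rw [← c_pow hg] at h1
    have h2 := c_eq_zero (pow_mem hg _) h1
    have h3 : ((p ^ 2) ^ (m + 1)).Coprime (orderOf g) :=
      (((hcop.pow_right 2).pow_right (m + 1)).coprime_dvd_left (orderOf_dvd_natCard g)).symm
    obtain ⟨k, hk⟩ := exists_pow_eq_self_of_coprime h3
    rw [← hk]
    exact pow_mem h2 k
  have h5 : ∀ k, Lc G m ≤ Lc G (m + k) := by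
    intro k
    induction k with
    | zero => exact le_rfl
    | succ k ih =>
      refine key.trans ?_
      show ⁅Lc G m, ⊤⁆ ≤ ⁅Lc G (m + k), ⊤⁆
      exact Subgroup.commutator_mono ih le_rfl
  obtain ⟨n, hn⟩ := Subgroup.nilpotent_iff_lowerCentralSeries.mp hnil
  rw [eq_bot_iff, ← hn]
  exact (h5 n).trans (Lc_anti (by omega))

theorem result {G : Type*} [Group G] [Finite G] {p : ℕ} (hp : p.Prime) (α : MulAut G) (hα : orderOf α = p) (hfpf : ∀ g : G, α g = g → g = 1) : (p = 2 → (⊤ : Subgroup G).lowerCentralSeries 1 = ⊥) ∧ (p = 3 → (⊤ : Subgroup G).lowerCentralSeries 2 = ⊥) ∧ (⊤ : Subgroup G).lowerCentralSeries (Finset.sum (Finset.range (2 ^ (p - 1) - 1)) (fun i => (p - 1) ^ i)) = ⊥ := by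
  refine ⟨?_, ?_, ?_⟩
  · rintro rfl
    exact main hp α hα hfpf 1 (fun M h1 h2 => bound_two h1 h2)
  · rintro rfl
    exact main hp α hα hfpf 2 (fun M h1 h2 => bound_three h1 h2)
  · exact main hp α hα hfpf _ (fun M h1 h2 => hkk_bound hp h1 h2)

end Cfsg.Agent.S3779
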