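import Cfsg.Agent.H22_LieGr3
import Cfsg.Agent.S3779
import Cfsg.Agent.H22_Alp2

/-!
The Lie ring of a `p`-group with an automorphism of order `p` with few fixed points.
-/

set_option autoImplicit false
set_option linter.unusedSectionVars false

namespace Cfsg.Agent.H22.LieGr

open TensorProduct Polynomial

section

variable {p : ℕ} {L : Type*} [LieRing L] (φ : L →ₗ⁅ℤ⁆ L)

/-- multiples of `t` -/
noncomputable def Mt (t p : ℕ) (φ : L →ₗ⁅ℤ⁆ L) : Fam (Rω p ⊗[ℤ] L) p := fun i =>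
  (E p φ i).map (nsmulAddMonoidHom t)

theorem mem_Mt {t : ℕ} {i : ZMod p} {x : Rω p ⊗[ℤ] L} : x ∈ Mt t p φ i ↔ ∃ y ∈ E p φ i, t • y = x := by
  unfold Mt
  rw [AddSubgroup.mem_map]
  rfl

theorem gr_Mt (t : ℕ) (hp : p.Prime) : Gr (Mt t p φ) := by
  intro i j x hx y hy
  rw [mem_Mt] at *
  obtain ⟨u, hu, rfl⟩ := hx
  obtain ⟨v, hv, rfl⟩ := hy
  refine ⟨t • ⁅u, v⁆, nsmul_mem (gr_E φ hp i j u hu v hv) t, ?_⟩
  rw [nsmul_lie, lie_nsmul]

theorem Mt_zero {t : ℕ} (hsum : ∀ x : L, t • ∑ k ∈ Finset.range p, φ^[k] x = 0) : Mt (t * p) p φ 0 = ⊥ := by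
  rw [eq_bot_iff]
  intro z hz
  rw [mem_Mt] at hz
  obtain ⟨x, hx, rfl⟩ := hz
  rw [mem_E, T_zero, one_smul] at hx
  have h1 : ∀ y : Rω p ⊗[ℤ] L, t • ∑ k ∈ Finset.range p, (Φ p φ ^ k) y = 0 := by
    intro y
    induction y using TensorProduct.induction_on with
    | zero => simp
    | add u v hu hv => simp only [map_add, Finset.sum_add_distrib, smul_add, hu, hv, add_zero]
    | tmul a u =>
      simp only [Φ_pow_tmul]
      rw [← TensorProduct.tmul_sum, ← TensorProduct.tmul_smul, hsum, TensorProduct.tmul_zero]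
  have h2 : ∀ k, (Φ p φ ^ k) x = x := by
    intro k
    induction k with
    | zero => rfl
    | succ k ih => rw [pow_succ', Module.End.mul_apply, ih, hx]
  have h3 := h1 x
  simp only [h2] at h3
  rw [Finset.sum_const, Finset.card_range, smul_smul] at h3
  rw [AddSubgroup.mem_bot]
  exact h3

theorem psmul_memt (t : ℕ) (hp : p.Prime) (hφp : ∀ x, φ^[p] x = x) (x : Rω p ⊗[ℤ] L) :
    (t * p) • x ∈ ⨆ i, Mt t p φ i := by
  have h1 := psmul_mem φ hp hφp x
  rw [mul_smul]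
  refine AddSubgroup.iSup_induction (E p φ) (C := fun y => t • y ∈ ⨆ k, Mt t p φ k) h1 ?_ ?_ ?_
  · intro i y hy
    exact AddSubgroup.mem_iSup_of_mem i ((mem_Mt φ).mpr ⟨y, hy, rfl⟩)
  · rw [smul_zero]; exact zero_mem _
  · intro u v hu hv
    rw [smul_add]; exact add_mem hu hv

theorem C_memt (t : ℕ) (hp : p.Prime) (hφp : ∀ x, φ^[p] x = x) (m : ℕ) : ∀ x ∈ C L m,
    ((t * p) ^ (m + 1)) • ((1 : Rω p) ⊗ₜ[ℤ] x) ∈ ⨆ i, Γ m (Mt t p φ) i := by
  induction m with
  | zero =>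
    intro x _
    rw [zero_add, pow_one]
    exact psmul_memt φ t hp hφp _
  | succ m ih =>
    intro x hx
    rw [C] at hx
    induction hx using AddSubgroup.closure_induction with
    | mem z hz =>
      obtain ⟨u, hu, v, rfl⟩ := hz
      have h1 := ih u hu
      have h2 := psmul_memt φ t hp hφp ((1 : Rω p) ⊗ₜ[ℤ] v)
      have h3 := bracket_iSup h1 h2
      rw [nsmul_lie, lie_nsmul, LieAlgebra.ExtendScalars.bracket_tmul, one_mul, smul_smul, ← pow_succ] at h3
      simp only [Γ_succ]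
      exact h3
    | zero => rw [TensorProduct.tmul_zero, smul_zero]; exact zero_mem _
    | add u v _ _ hu hv => rw [TensorProduct.tmul_add, smul_add]; exact add_mem hu hv
    | neg u _ hu => rw [TensorProduct.tmul_neg, smul_neg]; exact neg_mem hu

/-- the conclusion -/
theorem C_torsiont {t : ℕ} (hp : p.Prime) (hφp : ∀ x, φ^[p] x = x)
    (hsum : ∀ x : L, t • ∑ k ∈ Finset.range p, φ^[k] x = 0)
    (c : ℕ) (hc : ∀ M : Fam (Rω p ⊗[ℤ] L) p, Gr M → M 0 = ⊥ → Γ c M = ⊥) (x : L) (hx : x ∈ C L c) :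
    ((t * p * p) ^ (c + 1)) • x = 0 := by
  have h1 := C_memt φ (t * p) hp hφp c x hx
  rw [hc _ (gr_Mt φ (t * p) hp) (Mt_zero φ hsum)] at h1
  have h2 : ⨆ i : ZMod p, (⊥ : Fam (Rω p ⊗[ℤ] L) p) i = ⊥ := by
    simp
  rw [h2, AddSubgroup.mem_bot] at h1
  apply one_tmul_injective hp
  rw [TensorProduct.tmul_smul]
  exact h1

theorem C_anti (L : Type*) [LieRing L] {m n : ℕ} (h : m ≤ n) : C L n ≤ C L m := by
  have key : ∀ k, C L (k + 1) ≤ C L k := by
    intro k
    induction k with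
    | zero => exact le_top
    | succ k ih =>
      show AddSubgroup.closure _ ≤ AddSubgroup.closure _
      apply AddSubgroup.closure_mono
      rintro z ⟨x, hx, y, rfl⟩
      exact ⟨x, ih hx, y, rfl⟩
  induction h with
  | refl => exact le_rfl
  | step _ ih => exact (key _).trans ih

end

end Cfsg.Agent.H22.LieGr

namespace Cfsg.Agent.H22.Alp

open Cfsg.Agent.H22.AssocLie Cfsg.Agent.H22.LieGr Cfsg.Agent.S3779
open scoped commutatorElement

section

variable {G : Type*} [Group G]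

/-- the class bound of Higman, Kreknin and Kostrikin -/
def ξ (p : ℕ) : ℕ := ∑ i ∈ Finset.range (2 ^ (p - 1) - 1), (p - 1) ^ i

theorem sum_fixed [Finite G] {p n : ℕ} (hp : p.Prime) (hG : IsPGroup p G) (α : MulAut G) (h : α ^ p = 1)
    (hc : Nat.card (Fx α) ≤ p ^ n) (x : LG G) :
    p ^ n • ∑ k ∈ Finset.range p, (S3779.φ α)^[k] x = 0 := by
  have : Fact p.Prime := ⟨hp⟩
  induction x using ind with
  | h0 => simp only [φ_iter_zero]; rw [Finset.sum_const_zero, smul_zero]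
  | h2 x y hx hy => simp only [φ_iter_add, Finset.sum_add_distrib, smul_add, hx, hy, add_zero]
  | h1 m g hg =>
  -- the sum is the class of an element
  have key : ∀ j, ∃ y ∈ Lc G m, ∑ k ∈ Finset.range j, (S3779.φ α)^[k] (c m g) = c m y ∧
      g * α y = y * (α ^ j) g := by
    intro j
    induction j with
    | zero =>
      refine ⟨1, one_mem _, ?_, ?_⟩
      · rw [Finset.range_zero, Finset.sum_empty, c_one]
      · rw [map_one, mul_one, one_mul, pow_zero, MulAut.one_apply]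
    | succ j ih =>
      obtain ⟨y, hy, h1, h2⟩ := ih
      have h3 := φ_iter_c α hg j
      refine ⟨y * (α ^ j) g, mul_mem hy h3.2, ?_, ?_⟩
      · rw [Finset.sum_range_succ, h1, h3.1, c_mul hy h3.2]
      · rw [map_mul, ← mul_assoc, h2, pow_succ', MulAut.mul_apply]
  obtain ⟨y, hy, h1, h2⟩ := key p
  rw [h, MulAut.one_apply] at h2
  rw [h1, ← c_pow hy]
  apply c_zero_of_mem
  -- fixed modulo the next term
  have hinv : (Lc G (m + 1)).map α.toMonoidHom = Lc G (m + 1) := map_char_inv α _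
  have h3 := card_Fx_quot α (Lc G (m + 1)) hinv
  set β : MulAut (G ⧸ Lc G (m + 1)) := QuotientGroup.congr _ _ α hinv with hβ
  have h4 : (QuotientGroup.mk y : G ⧸ Lc G (m + 1)) ∈ Fx β := by
    show (QuotientGroup.mk (α y) : G ⧸ Lc G (m + 1)) = QuotientGroup.mk y
    apply QuotientGroup.eq.mpr
    have h5 : (α y)⁻¹ * y = ⁅y⁻¹, g⁻¹⁆⁻¹ := by
      have h6 : α y = g⁻¹ * (y * g) := by rw [← h2]; group
      rw [h6, commutatorElement_def]
      group
    rw [h5]
    have h7 : ⁅y⁻¹, g⁻¹⁆ ∈ Lc G (m + 1) := comm_mem (m := m) (n := 0) (inv_mem hy) (Subgroup.mem_top g⁻¹)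
    exact inv_mem h7
  have h5 : IsPGroup p (Fx β) := (hG.of_surjective _ (QuotientGroup.mk'_surjective (Lc G (m + 1)))).to_subgroup _
  obtain ⟨j, hj⟩ := IsPGroup.iff_card.mp h5
  have hjn : j ≤ n := by
    rw [hj] at h3
    exact (Nat.pow_le_pow_iff_right hp.one_lt).mp (h3.trans hc)
  have h6 : (⟨_, h4⟩ : Fx β) ^ (p ^ n) = 1 := by
    rw [← Nat.sub_add_cancel hjn, pow_add, mul_comm, pow_mul, ← hj, pow_card_eq_one', one_pow]
  have h7 : (QuotientGroup.mk y : G ⧸ Lc G (m + 1)) ^ (p ^ n) = 1 := congrArg (fun z : Fx β => (z : G ⧸ Lc G (m + 1))) h6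
  exact (QuotientGroup.eq_one_iff _).mp h7

theorem pow_mem_next [Finite G] {p n : ℕ} (hp : p.Prime) (hG : IsPGroup p G) (α : MulAut G) (h : α ^ p = 1)
    (hc : Nat.card (Fx α) ≤ p ^ n) {m : ℕ} (hm : ξ p ≤ m) (g : G) (hg : g ∈ Lc G m) :
    g ^ (p ^ ((n + 2) * (ξ p + 1))) ∈ Lc G (m + 1) := by
  have h1 := C_torsiont (S3779.φ α) hp (φ_p α h) (sum_fixed hp hG α h hc) (ξ p) (fun M h1 h2 => hkk_bound hp h1 h2) (c m g)
    (C_anti _ hm (c_mem_C m g hg))
  rw [← c_pow hg] at h1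
  have h2 := c_eq_zero (pow_mem hg _) h1
  have h3 : (p ^ n * p * p) ^ (ξ p + 1) = p ^ ((n + 2) * (ξ p + 1)) := by
    rw [pow_mul]; ring
  rwa [h3] at h2

/-- **Alperin's theorem for p-groups** -/
theorem alperin_pgroup [Finite G] {p n : ℕ} (hp : p.Prime) (hG : IsPGroup p G) (α : MulAut G) (h : α ^ p = 1)
    (hc : Nat.card (Fx α) ≤ p ^ n) :
    derivedSeries G (Bd p ((n + 2) * (ξ p + 1) + 1) (p ^ n) + (ξ p + 1)) = ⊥ := by
  set N' := (n + 2) * (ξ p + 1) with hN'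
  set V := derivedSeries G (Bd p (N' + 1) (p ^ n)) with hV
  have hVinv : V.map α.toMonoidHom = V := map_char_inv α V
  have h1 : V.lowerCentralSeries (ξ p + 1) = ⊥ := by
    apply class_le hp hG α h hc
    intro x hx
    rw [← Subgroup.top_subtype_lowerCentralSeries] at hx
    obtain ⟨y, hy, rfl⟩ := hx
    have h2 : (H3.Fpf.restr α V hVinv) ^ p = 1 := by
      apply MulEquiv.ext
      intro z
      apply Subtype.ext
      rw [H3.Fpf.restr_pow, h]
      rfl
    have h3 := pow_mem_next hp (hG.to_subgroup V) (H3.Fpf.restr α V hVinv) h2 ((card_Fx_restr α V hVinv).trans hc)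
      le_rfl y hy
    rw [← Subgroup.top_subtype_lowerCentralSeries]
    exact ⟨_, h3, map_pow _ _ _⟩
  rw [eq_bot_iff, ← h1]
  exact derivedSeries_le_lcs V _ le_rfl _

end

end Cfsg.Agent.H22.Alp
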