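import Mathlib
import Cfsg.Prelude.Def_Transfer

set_option autoImplicit false

namespace Cfsg.Agent.H22.ClassCount

open Subgroup

/-- fixed points of an automorphism as a subgroup -/
theorem card_fixed_le {P : Type*} [Group P] [Finite P] {p : ℕ} [Fact p.Prime] (hP : IsPGroup p P)
    (a : MulAut P) (ha : a ≠ 1) : p * Nat.card {x : P // a x = x} ≤ Nat.card P := by
  let F : Subgroup P := (a.toMonoidHom).eqLocus (MonoidHom.id P)
  have hF : Nat.card F = Nat.card {x : P // a x = x} := rfl
  have hne : F ≠ ⊤ := by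
    intro h
    apply ha
    ext x
    have hx : x ∈ F := by rw [h]; trivial
    exact hx
  have h1 : F.index ≠ 1 := fun h => hne (Subgroup.index_eq_one.mp h)
  obtain ⟨n, hn⟩ := (hP.index F)
  have hpi : p ≤ F.index := by
    rw [hn] at h1 ⊢
    have : n ≠ 0 := by rintro rfl; simp at h1
    exact Nat.le_self_pow this p
  rw [← hF, ← F.card_mul_index, mul_comm]
  exact Nat.mul_le_mul_left _ hpi

theorem orbit_bound {M P : Type*} [Group M] [Finite M] [Group P] [Finite P] {p : ℕ} [Fact p.Prime]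
    (hP : IsPGroup p P) (φ : M →* MulAut P) (hφ : φ ≠ 1) [MulAction M P]
    (hact : ∀ (m : M) (x : P), m • x = φ m x) :
    2 * p * Nat.card (Quotient (MulAction.orbitRel M P)) ≤ (p + 1) * Nat.card P := by
  classical
  have : Fintype M := Fintype.ofFinite M
  have : Fintype P := Fintype.ofFinite P
  have hB := MulAction.sum_card_fixedBy_eq_card_orbits_mul_card_group M P
  rw [← Nat.card_eq_fintype_card, ← Nat.card_eq_fintype_card] at hB
  have hker : 2 * Nat.card φ.ker ≤ Nat.card M := by
    have h1 : φ.ker.index ≠ 1 := by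
      intro h
      apply hφ
      rw [Subgroup.index_eq_one] at h
      ext m x
      have : m ∈ φ.ker := by rw [h]; trivial
      rw [MonoidHom.mem_ker] at this
      rw [this]; rfl
    have h2 : φ.ker.index ≠ 0 := Subgroup.index_ne_zero_of_finite
    rw [← φ.ker.card_mul_index, mul_comm]
    exact Nat.mul_le_mul_left _ (by omega)
  have hcard : Nat.card φ.ker = (Finset.univ.filter (fun m : M => m ∈ φ.ker)).card := by
    rw [Nat.card_eq_fintype_card, Fintype.card_subtype]
  have hsum : ∑ m : M, p * Fintype.card (MulAction.fixedBy P m) ≤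
      ∑ m : M, ((if m ∈ φ.ker then (p - 1) * Nat.card P else 0) + Nat.card P) := by
    apply Finset.sum_le_sum
    intro m _
    have hp1 : 1 ≤ p := (Fact.out : p.Prime).one_lt.le
    by_cases hm : m ∈ φ.ker
    · rw [if_pos hm]
      have h1 : Fintype.card (MulAction.fixedBy P m) ≤ Nat.card P := by
        rw [Nat.card_eq_fintype_card]; exact set_fintype_card_le_univ _
      calc p * Fintype.card (MulAction.fixedBy P m) ≤ p * Nat.card P := Nat.mul_le_mul_left _ h1
        _ = (p - 1) * Nat.card P + Nat.card P := by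
          obtain ⟨q, rfl⟩ : ∃ q, p = q + 1 := ⟨p - 1, by omega⟩
          simp; ring
    · rw [if_neg hm, zero_add]
      have h2 : Fintype.card (MulAction.fixedBy P m) = Nat.card {x : P // φ m x = x} := by
        rw [← Nat.card_eq_fintype_card]
        apply Nat.card_congr
        exact Equiv.subtypeEquivRight (fun x => by rw [MulAction.mem_fixedBy, hact])
      rw [h2]
      exact card_fixed_le hP (φ m) hm
  rw [← Finset.mul_sum, hB, Finset.sum_add_distrib, ← Finset.sum_filter, Finset.sum_const,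
    Finset.sum_const, ← hcard, Finset.card_univ, ← Nat.card_eq_fintype_card] at hsum
  simp only [smul_eq_mul] at hsum
  have hM : 0 < Nat.card M := Nat.card_pos
  set n := Nat.card (Quotient (MulAction.orbitRel M P)) with hn
  have hp1 : 1 ≤ p := (Fact.out : p.Prime).one_lt.le
  obtain ⟨q, hq⟩ : ∃ q, p = q + 1 := ⟨p - 1, by omega⟩
  have hq' : p - 1 = q := by omega
  rw [hq'] at hsum
  rw [Nat.card_eq_fintype_card (α := M)] at *
  have key : (2 * p * n) * Fintype.card M ≤ ((p + 1) * Nat.card P) * Fintype.card M := by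
    calc (2 * p * n) * Fintype.card M = 2 * (p * (n * Fintype.card M)) := by ring
      _ ≤ 2 * (Nat.card φ.ker * (q * Nat.card P) + Fintype.card M * Nat.card P) := by
          apply Nat.mul_le_mul_left
          convert hsum using 1
      _ = (2 * Nat.card φ.ker) * (q * Nat.card P) + 2 * (Fintype.card M * Nat.card P) := by ring
      _ ≤ (Fintype.card M) * (q * Nat.card P) + 2 * (Fintype.card M * Nat.card P) := by
          gcongr
      _ = ((p + 1) * Nat.card P) * Fintype.card M := by rw [hq]; ring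
  exact Nat.le_of_mul_le_mul_right key (by rw [← Nat.card_eq_fintype_card]; exact Nat.card_pos)

/-- every `p`-element is conjugate into a given Sylow `p`-subgroup -/
theorem exists_conj_mem_sylow {G : Type*} [Group G] [Finite G] {p : ℕ} [Fact p.Prime]
    (P : Sylow p G) (x : G) (hx : ∃ k : ℕ, orderOf x = p ^ k) : ∃ g : G, g * x * g⁻¹ ∈ (P : Subgroup G) := by
  obtain ⟨k, hk⟩ := hx
  have h1 : IsPGroup p (zpowers x) := IsPGroup.of_card (by rw [Nat.card_zpowers, hk])
  obtain ⟨Q, hQ⟩ := h1.exists_le_sylow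
  obtain ⟨g, hg⟩ := MulAction.exists_smul_eq G Q P
  refine ⟨g, ?_⟩
  rw [← hg]
  have : x ∈ Q := hQ (mem_zpowers x)
  exact ⟨x, this, rfl⟩

theorem orderOf_pow_of_mem_pgroup {G : Type*} [Group G] [Finite G] {p : ℕ} [Fact p.Prime]
    {P : Subgroup G} (hP : IsPGroup p P) {x : G} (hx : x ∈ P) : ∃ k : ℕ, orderOf x = p ^ k := by
  obtain ⟨k, hk⟩ := IsPGroup.iff_orderOf.mp hP ⟨x, hx⟩
  exact ⟨k, by rw [← hk, Subgroup.orderOf_mk]⟩

/-- number of classes of `p`-elements -/
theorem card_pClasses_le {G : Type*} [Group G] [Finite G] {p : ℕ} [Fact p.Prime]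
    (P : Sylow p G) (h : ¬ normalizer ((P : Subgroup G) : Set G) ≤ centralizer ((P : Subgroup G) : Set G)) :
    2 * p * Nat.card {c : ConjClasses G // ∀ x ∈ c.carrier, ∃ k : ℕ, orderOf x = p ^ k} ≤
      (p + 1) * Nat.card (P : Subgroup G) := by
  classical
  letI act : MulAction (normalizer ((P : Subgroup G) : Set G)) (P : Subgroup G) :=
    MulAction.compHom _ (P : Subgroup G).normalizerMonoidHom
  have hB := orbit_bound (M := normalizer ((P : Subgroup G) : Set G)) P.2
    (P : Subgroup G).normalizerMonoidHom (by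
      intro h1
      apply h
      have h2 := (P : Subgroup G).normalizerMonoidHom_ker
      rw [h1] at h2
      intro x hx
      have h3 : (⟨x, hx⟩ : normalizer ((P : Subgroup G) : Set G)) ∈
        ((1 : normalizer ((P : Subgroup G) : Set G) →* MulAut (P : Subgroup G))).ker := by
          simp [MonoidHom.mem_ker]
      rw [h2] at h3
      exact h3) (fun m x => rfl)
  refine le_trans (Nat.mul_le_mul_left _ ?_) hB
  have hex : ∀ c : {c : ConjClasses G // ∀ x ∈ c.carrier, ∃ k : ℕ, orderOf x = p ^ k},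
      ∃ x : (P : Subgroup G), ConjClasses.mk (x : G) = c.1 := by
    rintro ⟨c, hc⟩
    obtain ⟨x, rfl⟩ := ConjClasses.exists_rep c
    obtain ⟨g, hg⟩ := exists_conj_mem_sylow P x (hc x ConjClasses.mem_carrier_mk)
    refine ⟨⟨_, hg⟩, ?_⟩
    rw [ConjClasses.mk_eq_mk_iff_isConj]
    exact (isConj_iff.mpr ⟨g, rfl⟩).symm
  choose f hf using hex
  apply Nat.card_le_card_of_injective
    (fun c => (Quotient.mk (MulAction.orbitRel (normalizer ((P : Subgroup G) : Set G)) (P : Subgroup G)) (f c)))
  intro c d hcd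
  have h1 := Quotient.exact hcd
  obtain ⟨n, hn⟩ := h1
  apply Subtype.ext
  rw [← hf c, ← hf d, ConjClasses.mk_eq_mk_iff_isConj]
  rw [← hn]
  exact (isConj_iff.mpr ⟨(n : G), rfl⟩).symm

theorem normalComplement_of_card {G : Type*} [Group G] [Finite G] {p : ℕ} [Fact p.Prime]
    (P : Sylow p G)
    (h : (p + 1) * Nat.card (P : Subgroup G) <
      2 * p * Nat.card {c : ConjClasses G // ∀ x ∈ c.carrier, ∃ k : ℕ, orderOf x = p ^ k}) :
    IsMulCommutative (P : Subgroup G) ∧ ∃ N : Subgroup G, N.Normal ∧ N.IsComplement' (P : Subgroup G) := by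
  have h1 : normalizer ((P : Subgroup G) : Set G) ≤ centralizer ((P : Subgroup G) : Set G) := by
    by_contra h2
    exact absurd (card_pClasses_le P h2) (not_le.mpr h)
  refine ⟨⟨⟨fun a b => Subtype.ext (h1 (le_normalizer b.2) a a.2)⟩⟩, ?_⟩
  exact ⟨_, inferInstance, MonoidHom.ker_transferSylow_isComplement' P h1⟩

/-- for a normal complement to an abelian subgroup, the commutator subgroup is inside -/
theorem commutator_le_of_complement {G : Type*} [Group G] (N H : Subgroup G) [N.Normal]
    (hNH : N.IsComplement' H) (hH : IsMulCommutative H) : commutator G ≤ N := by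
  rw [commutator_def, Subgroup.commutator_le]
  have key : ∀ g : G, ∃ n ∈ N, ∃ h ∈ H, g = n * h := by
    intro g
    obtain ⟨⟨n, h⟩, hh⟩ := hNH.surjective g
    exact ⟨n, n.2, h, h.2, hh.symm⟩
  intro g₁ _ g₂ _
  obtain ⟨n₁, hn₁, h₁, hh₁, rfl⟩ := key g₁
  obtain ⟨n₂, hn₂, h₂, hh₂, rfl⟩ := key g₂
  rw [← QuotientGroup.eq_one_iff]
  have e1 : ((n₁ * h₁ : G) : G ⧸ N) = (h₁ : G ⧸ N) := by
    rw [QuotientGroup.mk_mul, (QuotientGroup.eq_one_iff n₁).mpr hn₁, one_mul]
  have e2 : ((n₂ * h₂ : G) : G ⧸ N) = (h₂ : G ⧸ N) := by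
    rw [QuotientGroup.mk_mul, (QuotientGroup.eq_one_iff n₂).mpr hn₂, one_mul]
  have e3 : h₁ * h₂ = h₂ * h₁ := by
    have := hH.is_comm.comm ⟨h₁, hh₁⟩ ⟨h₂, hh₂⟩
    exact congrArg Subtype.val this
  rw [commutatorElement_def]
  simp only [QuotientGroup.mk_mul, QuotientGroup.mk_inv] at e1 e2 ⊢
  rw [e1, e2]
  have e4 : (h₁ : G ⧸ N) * (h₂ : G ⧸ N) = (h₂ : G ⧸ N) * (h₁ : G ⧸ N) := by
    rw [← QuotientGroup.mk_mul, e3, QuotientGroup.mk_mul]
  rw [e4]; group

end Cfsg.Agent.H22.ClassCount
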