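import Mathlib
import Cfsg.Agent.S3781

/-!
Minimal covers of groups by proper subgroups.
-/

set_option autoImplicit false

namespace Cfsg.Agent.H22.Cover

open Subgroup

/-- in a minimal cover, a proper subgroup contains at most one member -/
theorem unique_le {G : Type*} [Group G] {𝓐 : Finset (Subgroup G)}
    (h1 : ∀ A ∈ 𝓐, A ≠ ⊤) (h2 : ∀ g : G, ∃ A ∈ 𝓐, g ∈ A)
    (hmin : ∀ 𝓑 : Finset (Subgroup G), (∀ A ∈ 𝓑, A ≠ ⊤) ∧ (∀ g : G, ∃ A ∈ 𝓑, g ∈ A) → 𝓐.card ≤ 𝓑.card)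
    {M : Subgroup G} (hM : M ≠ ⊤) {A B : Subgroup G} (hA : A ∈ 𝓐) (hB : B ∈ 𝓐) (hAM : A ≤ M) (hBM : B ≤ M) :
    A = B := by
  classical
  by_contra hne
  have hB' : B ∈ 𝓐.erase A := Finset.mem_erase.mpr ⟨fun h => hne h.symm, hB⟩
  have h3 := hmin (insert M ((𝓐.erase A).erase B)) ⟨?_, ?_⟩
  · have h4 : (insert M ((𝓐.erase A).erase B)).card ≤ ((𝓐.erase A).erase B).card + 1 := Finset.card_insert_le _ _
    rw [Finset.card_erase_of_mem hB', Finset.card_erase_of_mem hA] at h4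
    have h5 : 0 < (𝓐.erase A).card := Finset.card_pos.mpr ⟨B, hB'⟩
    rw [Finset.card_erase_of_mem hA] at h5
    omega
  · intro C hC
    rcases Finset.mem_insert.mp hC with rfl | hC
    · exact hM
    · exact h1 C (Finset.mem_of_mem_erase (Finset.mem_of_mem_erase hC))
  · intro g
    obtain ⟨C, hC, hgC⟩ := h2 g
    by_cases hCA : C = A
    · exact ⟨M, Finset.mem_insert_self _ _, hAM (hCA ▸ hgC)⟩
    · by_cases hCB : C = B
      · exact ⟨M, Finset.mem_insert_self _ _, hBM (hCB ▸ hgC)⟩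
      · exact ⟨C, Finset.mem_insert_of_mem (Finset.mem_erase.mpr ⟨hCB, Finset.mem_erase.mpr ⟨hCA, hC⟩⟩), hgC⟩

theorem no_nilpotent_cover {G : Type*} [Group G] (M : Subgroup G) (hM : M ≠ ⊤) (c c' : G)
    (hc : ∀ N : Subgroup G, Group.IsNilpotent N → c ∈ N → N ≤ M)
    (hc' : ∀ N : Subgroup G, Group.IsNilpotent N → c' ∈ N → N ≤ M)
    (hcc : ∀ N : Subgroup G, Group.IsNilpotent N → c ∈ N → c' ∈ N → False) :
    ¬ ∃ 𝓐 : Finset (Subgroup G), ((∀ A ∈ 𝓐, A ≠ ⊤) ∧ (∀ g : G, ∃ A ∈ 𝓐, g ∈ A)) ∧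
      (∀ 𝓑 : Finset (Subgroup G), (∀ A ∈ 𝓑, A ≠ ⊤) ∧ (∀ g : G, ∃ A ∈ 𝓑, g ∈ A) → 𝓐.card ≤ 𝓑.card) ∧
      (∀ A ∈ 𝓐, Group.IsNilpotent ↥A) := by
  rintro ⟨𝓐, ⟨h1, h2⟩, hmin, hnil⟩
  obtain ⟨A, hA, hcA⟩ := h2 c
  obtain ⟨B, hB, hcB⟩ := h2 c'
  have h3 := unique_le h1 h2 hmin hM hA hB (hc A (hnil A hA) hcA) (hc' B (hnil B hB) hcB)
  subst h3
  exact hcc A (hnil A hA) hcA hcB

/-- if `q²` does not divide `|G|`, elements of order `q` are central in nilpotent subgroups -/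
theorem le_centralizer_of_nilpotent {G : Type*} [Group G] [Finite G] {q : ℕ} (hq : q.Prime)
    (hqG : ¬ q ^ 2 ∣ Nat.card G) {c : G} (hc : orderOf c = q) {N : Subgroup G} (hN : Group.IsNilpotent N)
    (hcN : c ∈ N) : N ≤ centralizer ({c} : Set G) := by
  have : Fact q.Prime := ⟨hq⟩
  have h1 : IsPGroup q (zpowers (⟨c, hcN⟩ : N)) := IsPGroup.of_card (n := 1) (by
    rw [Nat.card_zpowers, Subgroup.orderOf_mk, hc, pow_one])
  obtain ⟨P, hP⟩ := h1.exists_le_sylow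
  have hPcard : Nat.card (P : Subgroup N) = q := by
    obtain ⟨k, hk⟩ := P.2.exists_card_eq
    have h2 : q ∣ Nat.card (P : Subgroup N) := by
      have := Subgroup.orderOf_dvd_natCard (P : Subgroup N) (hP (mem_zpowers _))
      rwa [Subgroup.orderOf_mk, hc] at this
    have h3 : Nat.card (P : Subgroup N) ∣ Nat.card G :=
      (Subgroup.card_subgroup_dvd_card _).trans (Subgroup.card_subgroup_dvd_card N)
    rcases Nat.lt_or_ge k 2 with h4 | h4
    · have h5 : k ≠ 0 := by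
        rintro rfl
        rw [hk, pow_zero] at h2
        exact hq.one_lt.ne' (Nat.dvd_one.mp h2)
      rw [hk, show k = 1 by omega, pow_one]
    · exfalso
      apply hqG
      refine (pow_dvd_pow q h4).trans ?_
      rw [← hk]; exact h3
  have hPn : (P : Subgroup N).Normal := inferInstance
  have h2 : ⁅(P : Subgroup N), (⊤ : Subgroup N)⁆ ≠ (P : Subgroup N) := by
    apply S3781.lt_of_ne_bot hN
    intro h
    rw [h, Subgroup.card_bot] at hPcard
    exact hq.one_lt.ne hPcard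
  have h3 : ⁅(P : Subgroup N), (⊤ : Subgroup N)⁆ ≤ (P : Subgroup N) := Subgroup.commutator_le_left _ _
  have h4 : ⁅(P : Subgroup N), (⊤ : Subgroup N)⁆ = ⊥ := by
    have h5 := Subgroup.card_dvd_of_le h3
    rw [hPcard] at h5
    rcases (Nat.dvd_prime hq).mp h5 with h6 | h6
    · exact Subgroup.card_eq_one.mp h6
    · exact absurd (H22.Basic.eq_of_le_of_card_le h3 (by rw [h6, hPcard])) h2
  rw [Subgroup.commutator_eq_bot_iff_le_centralizer] at h4
  intro g hg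
  rw [mem_centralizer_singleton_iff]
  have h5 := mem_centralizer_iff.mp (h4 (hP (mem_zpowers _))) ⟨g, hg⟩ (mem_top _)
  exact congrArg Subtype.val h5

end Cfsg.Agent.H22.Cover
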