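import Cfsg.Prelude
import Cfsg.Agent.H22_Basic
import Cfsg.Agent.H1_Subn
import Cfsg.Agent.H24_Sub
import Cfsg.Agent.H1_Nilp

set_option autoImplicit false

namespace Cfsg.Agent.H22.Prim

open Subgroup H22.Basic

variable {G : Type*} [Group G] [Finite G]

/-- primitive subgroups in the sense of Kurzweil–Stellmacher -/
def IsPrim (M : Subgroup G) : Prop :=
  ∀ N : Subgroup G, N ≤ M → M ≤ Subgroup.normalizer (N : Set G) → N ≠ ⊥ →
    Subgroup.normalizer (N : Set G) = M

theorem subnormal_le_eq_bot {M : Subgroup G} (hM : M ≠ ⊤) (hprim : IsPrim M) (L : Subgroup G)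
    (hL : L.IsSubnormal) (hLM : L ≤ M) : L = ⊥ := by
  let N : Subgroup G := sSup {U : Subgroup G | U.IsSubnormal ∧ U ≤ M}
  have hNs : N.IsSubnormal := H1.Subn.sSup_subnormal _ fun U hU => hU.1
  have hNM : N ≤ M := sSup_le fun U hU => hU.2
  have hLN : L ≤ N := le_sSup ⟨hL, hLM⟩
  by_contra hne
  have hN0 : N ≠ ⊥ := fun h => hne (le_bot_iff.mp (h ▸ hLN))
  have hMN : M ≤ normalizer (N : Set G) := by
    intro m hm
    apply mem_normalizer_of_cj_le
    have h1 : cj m N ≤ M := by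
      rw [← cj_eq_of_mem hm]
      exact cj_mono hNM
    exact le_sSup ⟨H1.Subn.subnormal_conj hNs m, h1⟩
  have h2 := hprim N hNM hMN hN0
  rcases Subgroup.IsSubnormal.iff_eq_top_or_exists.mp hNs with h3 | ⟨K, hNK, hK, hn⟩
  · exact hM (top_le_iff.mp (h3 ▸ hNM))
  · have h4 : K ≤ normalizer (N : Set G) :=
      (normal_subgroupOf_iff_le_normalizer hNK.le).mp hn
    rw [h2] at h4
    have h5 : K ≤ N := le_sSup ⟨hK, h4⟩
    exact absurd hNK (not_lt_of_ge h5)

theorem inf_fitting_eq_bot {M : Subgroup G} (hM : M ≠ ⊤) (hprim : IsPrim M) :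
    M ⊓ Cfsg.fittingSubgroup G = ⊥ := by
  apply subnormal_le_eq_bot hM hprim _ _ inf_le_left
  have hFn : (Cfsg.fittingSubgroup G).Normal := H1.Nilp.fitting_normal
  have h1 : ((M ⊓ Cfsg.fittingSubgroup G).subgroupOf (Cfsg.fittingSubgroup G)).IsSubnormal :=
    H24.Sub.isSubnormal_of_nilpotent H1.Nilp.fitting_nilpotent _
  exact Subgroup.IsSubnormal.trans inf_le_right h1 hFn.isSubnormal

/-- a `p`-group normalizing a group of order divisible by `p` has a nontrivial fixed point -/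
theorem exists_fixed_of_dvd {p : ℕ} [hp : Fact p.Prime] {P N : Subgroup G} (hP : IsPGroup p P)
    (hPN : P ≤ normalizer (N : Set G)) (hd : p ∣ Nat.card N) :
    N ⊓ centralizer (P : Set G) ≠ ⊥ := by
  let act : MulAction P N :=
    { smul := fun a v => ⟨a * v * (a : G)⁻¹, (mem_normalizer_iff.mp (hPN a.2) v).mp v.2⟩
      one_smul := fun v => Subtype.ext (by show (1 : G) * v * (1 : G)⁻¹ = v; group)
      mul_smul := fun a b v => Subtype.ext (by
        show ((a * b : P) : G) * v * ((a * b : P) : G)⁻¹ = a * (b * v * (b : G)⁻¹) * (a : G)⁻¹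
        push_cast; group) }
  obtain ⟨w, hw, hw1⟩ := hP.exists_fixed_point_of_prime_dvd_card_of_fixed_point N hd
    (a := (1 : N)) (by
      intro a
      apply Subtype.ext
      show (a : G) * 1 * (a : G)⁻¹ = 1
      group)
  intro h
  have h1 : (w : G) ∈ N ⊓ centralizer (P : Set G) := by
    refine ⟨w.2, mem_centralizer_iff.mpr fun a ha => ?_⟩
    have h2 : a * (w : G) * a⁻¹ = w := congrArg Subtype.val (hw ⟨a, ha⟩)
    exact mul_inv_eq_iff_eq_mul.mp h2
  rw [h, mem_bot] at h1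
  exact hw1 (Subtype.ext h1.symm)

end Cfsg.Agent.H22.Prim
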