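import Cfsg.Agent.H22_Inv2
import Cfsg.Agent.H1_Coprime2
import Cfsg.Agent.H22_Prim
import Cfsg.Agent.H3_Fpf

/-!
The final configuration in the proof that a solvable group with more than one involution, all of them conjugate,
has 2-length one.
-/

set_option autoImplicit false
set_option linter.unusedSectionVars false

namespace Cfsg.Agent.H22.Inv

open Subgroup
open scoped commutatorElement

variable {G : Type*} [Group G] [Finite G]

/-- the configuration -/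
structure Cfg (E D R S J : Subgroup G) : Prop where
  En : E.Normal
  e2 : ∀ e ∈ E, e ^ 2 = 1
  inv : ∀ x : G, x ^ 2 = 1 → x ∈ E
  big : 2 < Nat.card E
  ED : E ≤ D
  Dc : D ≤ centralizer (E : Set G)
  Dp : IsPGroup 2 D
  Dsq : ∀ v ∈ D, v ^ 2 ∈ E
  Dne : D ≠ E
  RD : R ≤ normalizer (D : Set G)
  SD : S ≤ normalizer (D : Set G)
  JD : J ≤ normalizer (D : Set G)
  Rodd : (Nat.card R).Coprime 2
  RE : R ≤ centralizer (E : Set G)
  DR : ⁅D, R⁆ = D
  Sp : IsPGroup 2 S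
  SE : S ≤ centralizer (E : Set G)
  SR : S ≤ normalizer (R : Set G)
  RS : ⁅R, S⁆ = R
  JS : J ≤ normalizer (S : Set G)
  Jodd : (Nat.card J).Coprime (Nat.card S)
  Jt : ∀ e ∈ E, ∀ e' ∈ E, e ≠ 1 → e' ≠ 1 → ∃ j ∈ J, j * e * j⁻¹ = e'

theorem nm {X D : Subgroup G} (h : X ≤ normalizer (D : Set G)) {x v : G} (hx : x ∈ X) (hv : v ∈ D) :
    x * v * x⁻¹ ∈ D := (mem_normalizer_iff.mp (h hx) v).mp hv

namespace Cfg

variable {E D R S J : Subgroup G} (c : Cfg E D R S J)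

include c

theorem ce {X : Subgroup G} (hX : X ≤ centralizer (E : Set G)) {x e : G} (hx : x ∈ X) (he : e ∈ E) : e * x = x * e :=
  mem_centralizer_iff.mp (hX hx) e he

/-- elements of `D` are determined modulo `E` by ... -/
theorem coprimeRD : (Nat.card R).Coprime (Nat.card D) := by
  have h2 : Fact (Nat.Prime 2) := ⟨Nat.prime_two⟩
  obtain ⟨n, hn⟩ := IsPGroup.iff_card.mp c.Dp
  rw [hn]
  exact c.Rodd.pow_right n

theorem comm_DE {v w : G} (hv : v ∈ D) (hw : w ∈ D) : ⁅v, w⁆ ∈ E := by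
  have h : ⁅v, w⁆ = (v⁻¹ ^ 2)⁻¹ * (v⁻¹ * w) ^ 2 * (w ^ 2)⁻¹ := by
    rw [commutatorElement_def]
    simp only [pow_two]
    group
  rw [h]
  exact mul_mem (mul_mem (inv_mem (c.Dsq _ (inv_mem hv))) (c.Dsq _ (mul_mem (inv_mem hv) hw)))
    (inv_mem (c.Dsq _ hw))

/-- (i) -/
theorem fixR {v : G} (hv : v ∈ D) (h : ∀ r ∈ R, ⁅v, r⁆ ∈ E) : v ∈ E := by
  have hEn := c.En
  have hab : IsMulCommutative (D.map (QuotientGroup.mk' E)) := by
    refine ⟨⟨fun a b => Subtype.ext ?_⟩⟩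
    obtain ⟨x, hx, hxa⟩ := a.2
    obtain ⟨y, hy, hyb⟩ := b.2
    show (a : G ⧸ E) * b = b * a
    rw [← hxa, ← hyb, ← map_mul, ← map_mul]
    apply QuotientGroup.eq.mpr
    have h4 : (x * y)⁻¹ * (y * x) = ⁅y⁻¹, x⁻¹⁆ := by
      rw [commutatorElement_def]; group
    rw [h4]
    exact c.comm_DE (inv_mem hy) (inv_mem hx)
  have hn : R.map (QuotientGroup.mk' E) ≤ normalizer ((D.map (QuotientGroup.mk' E) : Subgroup (G ⧸ E)) : Set (G ⧸ E)) := by
    rintro _ ⟨r, hr, rfl⟩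
    rw [mem_normalizer_iff]
    have key : ∀ r : G, r ∈ R → ∀ x, x ∈ D.map (QuotientGroup.mk' E) →
        (QuotientGroup.mk' E) r * x * ((QuotientGroup.mk' E) r)⁻¹ ∈ D.map (QuotientGroup.mk' E) := by
      rintro r hr _ ⟨x, hx, rfl⟩
      rw [← map_inv, ← map_mul, ← map_mul]
      exact ⟨_, nm c.RD hr hx, rfl⟩
    intro x
    refine ⟨key r hr x, fun hx => ?_⟩
    have h1 := key r⁻¹ (inv_mem hr) _ hx
    rw [map_inv] at h1
    have h2 : ((QuotientGroup.mk' E) r)⁻¹ * ((QuotientGroup.mk' E) r * x * ((QuotientGroup.mk' E) r)⁻¹) * ((QuotientGroup.mk' E) r)⁻¹⁻¹ = x := by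
      group
    rwa [h2] at h1
  have hcop : (Nat.card (R.map (QuotientGroup.mk' E))).Coprime (Nat.card (D.map (QuotientGroup.mk' E))) :=
    (c.coprimeRD.coprime_dvd_left (Subgroup.card_map_dvd _ _)).coprime_dvd_right (Subgroup.card_map_dvd _ _)
  have h1 := H1.Coprime.inf_commutator_eq_bot_of_abelian (R.map (QuotientGroup.mk' E)) (D.map (QuotientGroup.mk' E)) hn hcop
  rw [← Subgroup.map_commutator, c.DR] at h1
  have h3 : QuotientGroup.mk' E v ∈ centralizer ((R.map (QuotientGroup.mk' E) : Subgroup (G ⧸ E)) : Set (G ⧸ E)) := by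
    rw [mem_centralizer_iff]
    rintro _ ⟨r, hr, rfl⟩
    rw [← map_mul, ← map_mul]
    apply QuotientGroup.eq.mpr
    have h4 : (r * v)⁻¹ * (v * r) = ⁅v⁻¹, r⁻¹⁆ := by
      rw [commutatorElement_def]; group
    rw [h4]
    have h5 := h r⁻¹ (inv_mem hr)
    have h6 : ⁅v⁻¹, r⁻¹⁆ = v⁻¹ * ⁅v, r⁻¹⁆⁻¹ * v⁻¹⁻¹ := by
      simp only [commutatorElement_def]; group
    rw [h6]
    exact hEn.conj_mem _ (inv_mem h5) _
  have h2 : QuotientGroup.mk' E v ∈ (⊥ : Subgroup (G ⧸ E)) := by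
    rw [← h1]
    exact ⟨⟨⟨v, hv, rfl⟩, h3⟩, ⟨v, hv, rfl⟩⟩
  exact (QuotientGroup.eq_one_iff v).mp (Subgroup.mem_bot.mp h2)

/-- (ii) -/
theorem h6 {M : Subgroup G} (hME : M ≤ E) {v : G} (hv : v ∈ D) (h : ∀ w ∈ D, ⁅v, w⁆ ∈ M) :
    v ^ 2 ∈ M := by
  have hcomm : ∀ a b e : G, a ∈ D → e ∈ E → a * e = e * a := fun a b e ha he => (c.ce c.Dc ha he).symm
  -- `K = {v ∈ D | [v, D] ≤ M, v² ∈ M}`
  let DM : Subgroup G :=
    { carrier := {u | u ∈ D ∧ ∀ w ∈ D, ⁅u, w⁆ ∈ M}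
      one_mem' := ⟨one_mem D, fun w _ => by rw [commutatorElement_one_left]; exact one_mem M⟩
      mul_mem' := by
        rintro a b ⟨ha, ha'⟩ ⟨hb, hb'⟩
        refine ⟨mul_mem ha hb, fun w hw => ?_⟩
        have h1 : ⁅a * b, w⁆ = (a * ⁅b, w⁆ * a⁻¹) * ⁅a, w⁆ := by
          simp only [commutatorElement_def]
          group
        rw [h1, ← c.ce c.Dc ha (hME (hb' w hw)), mul_inv_cancel_right]
        exact mul_mem (hb' w hw) (ha' w hw)
      inv_mem' := by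
        rintro a ⟨ha, ha'⟩
        refine ⟨inv_mem ha, fun w hw => ?_⟩
        have h1 : ⁅a⁻¹, w⁆ = a⁻¹ * ⁅a, w⁆⁻¹ * a⁻¹⁻¹ := by
          simp only [commutatorElement_def]
          group
        rw [h1, ← c.ce c.Dc (inv_mem ha) (hME (inv_mem (ha' w hw))), mul_inv_cancel_right]
        exact inv_mem (ha' w hw) }
  let K : Subgroup G :=
    { carrier := {u | u ∈ DM ∧ u ^ 2 ∈ M}
      one_mem' := ⟨one_mem DM, by rw [one_pow]; exact one_mem M⟩
      mul_mem' := by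
        rintro a b ⟨ha, ha'⟩ ⟨hb, hb'⟩
        refine ⟨mul_mem ha hb, ?_⟩
        have h1 : (a * b) ^ 2 = a ^ 2 * (⁅a⁻¹, b⁆ * b ^ 2) := by
          rw [commutatorElement_def]
          simp only [pow_two]
          group
        rw [h1]
        exact mul_mem ha' (mul_mem ((inv_mem ha : a⁻¹ ∈ DM).2 b hb.1) hb')
      inv_mem' := by
        rintro a ⟨ha, ha'⟩
        refine ⟨inv_mem ha, ?_⟩
        rw [inv_pow]
        exact inv_mem ha' }
  have hDMD : DM ≤ D := fun x hx => hx.1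
  have hED : E ≤ DM := by
    intro e he
    refine ⟨c.ED he, fun w hw => ?_⟩
    rw [commutatorElement_eq_one_iff_mul_comm.mpr (c.ce c.Dc hw he)]
    exact one_mem M
  have hEK : E ≤ K := fun e he => ⟨hED he, by rw [c.e2 e he]; exact one_mem M⟩
  have hRM : ∀ r ∈ R, ∀ m ∈ M, r * m * r⁻¹ = m := by
    intro r hr m hm
    rw [← c.ce c.RE hr (hME hm), mul_inv_cancel_right]
  have hRDM : R ≤ normalizer (DM : Set G) := by
    have key : ∀ r ∈ R, ∀ x ∈ DM, r * x * r⁻¹ ∈ DM := by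
      rintro r hr x ⟨hx, hx'⟩
      refine ⟨nm c.RD hr hx, fun w hw => ?_⟩
      have h1 : r⁻¹ * w * r⁻¹⁻¹ ∈ D := nm c.RD (inv_mem hr) hw
      have h2 := hx' _ h1
      have h3 : ⁅r * x * r⁻¹, w⁆ = r * ⁅x, r⁻¹ * w * r⁻¹⁻¹⁆ * r⁻¹ := by
        simp only [commutatorElement_def]; group
      rw [h3, hRM r hr _ h2]
      exact h2
    intro r hr
    rw [mem_normalizer_iff]
    intro x
    refine ⟨key r hr x, fun hx => ?_⟩
    have h1 := key r⁻¹ (inv_mem hr) _ hx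
    have h2 : r⁻¹ * (r * x * r⁻¹) * r⁻¹⁻¹ = x := by group
    rwa [h2] at h1
  have hRK : ⁅DM, R⁆ ≤ K := by
    rw [Subgroup.commutator_le]
    intro x hx r hr
    have h1 : ⁅x, r⁆ = x * (r * x⁻¹ * r⁻¹) := by
      rw [commutatorElement_def]; group
    have h2 : r * x⁻¹ * r⁻¹ ∈ DM := nm hRDM hr (inv_mem hx)
    rw [h1]
    refine ⟨mul_mem hx h2, ?_⟩
    have h3 : (x * (r * x⁻¹ * r⁻¹)) ^ 2 = x ^ 2 * (⁅x⁻¹, (r * x⁻¹ * r⁻¹)⁆ * (r * x⁻¹ * r⁻¹) ^ 2) := by
      rw [commutatorElement_def]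
      simp only [pow_two]
      group
    have h4 : (r * x⁻¹ * r⁻¹) ^ 2 = (x ^ 2)⁻¹ := by
      have h5 : (r * x⁻¹ * r⁻¹) ^ 2 = r * (x ^ 2)⁻¹ * r⁻¹ := by simp only [pow_two]; group
      rw [h5, ← c.ce c.RE hr (inv_mem (c.Dsq x hx.1)), mul_inv_cancel_right]
    have hcE : ⁅x⁻¹, (r * x⁻¹ * r⁻¹)⁆ ∈ M := (inv_mem hx : x⁻¹ ∈ DM).2 _ h2.1
    rw [h3, h4, ← mul_assoc, ← c.ce c.Dc (c.ED (c.Dsq x hx.1)) (hME hcE), mul_inv_cancel_right]
    exact hcE
  have hvDM : v ∈ DM := ⟨hv, h⟩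
  have hcop : (Nat.card R).Coprime (Nat.card DM) := c.coprimeRD.coprime_dvd_right (Subgroup.card_dvd_of_le hDMD)
  have hDMs : Group.IsSolvable DM := by
    have h2 : Fact (Nat.Prime 2) := ⟨Nat.prime_two⟩
    have := (c.Dp.to_le hDMD).isNilpotent
    infer_instance
  obtain ⟨x, hx, b, hb, hxb⟩ := H1.Coprime.exists_mul_of_coprime hRDM hcop (Or.inr hDMs) hvDM
  have hbE : b ∈ E := by
    apply c.fixR (hDMD hb.1)
    intro r hr
    rw [commutatorElement_eq_one_iff_mul_comm.mpr (mem_centralizer_iff.mp hb.2 r hr).symm]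
    exact one_mem E
  have : v ∈ K := by
    rw [hxb]
    exact mul_mem (hRK hx) (hEK hbE)
  exact this.2

/-- (v) -/
theorem cent_of_triv {s : G} (hs : s ∈ S) (h : ∀ v ∈ D, ⁅s, v⁆ ∈ E) : s ∈ centralizer (D : Set G) := by
  have hDs : Group.IsSolvable D := by
    have h2 : Fact (Nat.Prime 2) := ⟨Nat.prime_two⟩
    have := c.Dp.isNilpotent
    infer_instance
  -- elements of `R` acting trivially on `D/E` centralize `D`
  have hk : ∀ k ∈ R, (∀ v ∈ D, ⁅k, v⁆ ∈ E) → k ∈ centralizer (D : Set G) := by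
    intro k hk h
    have hzR : zpowers k ≤ R := zpowers_le.mpr hk
    have hzD : zpowers k ≤ normalizer (D : Set G) := hzR.trans c.RD
    have hcop : (Nat.card (zpowers k)).Coprime (Nat.card D) := c.coprimeRD.coprime_dvd_left (Subgroup.card_dvd_of_le hzR)
    have h1 := H1.Coprime.commutator_commutator_eq (zpowers k) D hzD hcop (Or.inr hDs)
    have h2 : ⁅D, zpowers k⁆ ≤ E := by
      rw [Subgroup.commutator_comm, Subgroup.commutator_le]
      intro a ha v hv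
      have h3 : ∀ n : ℤ, ∀ v ∈ D, ⁅k ^ n, v⁆ ∈ E := by
        have hEn := c.En
        have h4 : ∀ n : ℕ, ∀ v ∈ D, ⁅k ^ n, v⁆ ∈ E := by
          intro n
          induction n with
          | zero => intro v _; rw [pow_zero, commutatorElement_one_left]; exact one_mem E
          | succ n ih =>
            intro v hv
            have h5 : ⁅k ^ (n + 1), v⁆ = (k ^ n * ⁅k, v⁆ * (k ^ n)⁻¹) * ⁅k ^ n, v⁆ := by
              simp only [commutatorElement_def, pow_succ]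
              group
            rw [h5]
            exact mul_mem (hEn.conj_mem _ (h v hv) _) (ih v hv)
        intro n v hv
        rcases Int.eq_nat_or_neg n with ⟨m, rfl | rfl⟩
        · rw [zpow_natCast]; exact h4 m v hv
        · rw [zpow_neg, zpow_natCast]
          have h5 : ⁅(k ^ m)⁻¹, v⁆ = (k ^ m)⁻¹ * ⁅k ^ m, v⁆⁻¹ * (k ^ m)⁻¹⁻¹ := by
            simp only [commutatorElement_def]; group
          rw [h5]
          exact hEn.conj_mem _ (inv_mem (h4 m v hv)) _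
      obtain ⟨n, rfl⟩ := mem_zpowers_iff.mp ha
      exact h3 n v hv
    have h3 : ⁅D, zpowers k⁆ = ⊥ := by
      rw [← h1, Subgroup.commutator_eq_bot_iff_le_centralizer]
      refine h2.trans ?_
      intro e he
      rw [mem_centralizer_iff]
      intro a ha
      exact (c.ce c.RE (hzR ha) he).symm
    rw [Subgroup.commutator_comm, Subgroup.commutator_eq_bot_iff_le_centralizer] at h3
    exact h3 (mem_zpowers k)
  -- invariance of `v ↦ ⁅s, v⁆`
  have hinvar : ∀ y ∈ R, ∀ v ∈ D, ⁅s, y * v * y⁻¹⁆ = ⁅s, v⁆ := by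
    intro y hy v hv
    have e1 : ⁅y * s * y⁻¹, y * v * y⁻¹⁆ = ⁅s, v⁆ := by
      have e2 : ⁅y * s * y⁻¹, y * v * y⁻¹⁆ = y * ⁅s, v⁆ * y⁻¹ := by
        simp only [commutatorElement_def]; group
      rw [e2, ← c.ce c.RE hy (h v hv), mul_inv_cancel_right]
    set k := s⁻¹ * (y * s * y⁻¹) with hkdef
    have hkR : k ∈ R := by
      have h1 : k = (s⁻¹ * y * s⁻¹⁻¹) * y⁻¹ := by rw [hkdef]; group
      rw [h1]
      exact mul_mem (nm c.SR (inv_mem hs) hy) (inv_mem hy)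
    have hEn := c.En
    have hkt : ∀ w ∈ D, ⁅k, w⁆ ∈ E := by
      intro w hw
      have h1 : ⁅k, w⁆ = (s⁻¹ * ⁅y * s * y⁻¹, w⁆ * s⁻¹⁻¹) * ⁅s⁻¹, w⁆ := by
        rw [hkdef]; simp only [commutatorElement_def]; group
      rw [h1]
      apply mul_mem
      · apply hEn.conj_mem
        have h2 : ⁅y * s * y⁻¹, w⁆ = y * ⁅s, y⁻¹ * w * y⁻¹⁻¹⁆ * y⁻¹ := by
          simp only [commutatorElement_def]; group
        rw [h2]
        exact hEn.conj_mem _ (h _ (nm c.RD (inv_mem hy) hw)) _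
      · have h2 : ⁅s⁻¹, w⁆ = s⁻¹ * ⁅s, w⁆⁻¹ * s⁻¹⁻¹ := by
          simp only [commutatorElement_def]; group
        rw [h2]
        exact hEn.conj_mem _ (inv_mem (h w hw)) _
    have hkc := hk k hkR hkt
    have e3 : ∀ w ∈ D, ⁅y * s * y⁻¹, w⁆ = ⁅s, w⁆ := by
      intro w hw
      have h1 : y * s * y⁻¹ = s * k := by rw [hkdef]; group
      have h2 : w * k = k * w := mem_centralizer_iff.mp hkc w hw
      rw [h1, commutatorElement_def, commutatorElement_def]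
      have h3 : s * k * w * (s * k)⁻¹ * w⁻¹ = s * (k * w) * k⁻¹ * s⁻¹ * w⁻¹ := by group
      rw [h3, ← h2]
      group
    rw [← e3 _ (nm c.RD hy hv), e1]
  have h1 : D ≤ centralizer ({s} : Set G) := by
    rw [← c.DR, Subgroup.commutator_comm, Subgroup.commutator_le]
    intro y hy v hv
    rw [mem_centralizer_singleton_iff]
    have h2 := hinvar y hy v hv
    -- `⁅s, y v y⁻¹ * v⁻¹⁆ = 1`
    have h3 : y * v * y⁻¹ ∈ D := nm c.RD hy hv
    rw [commutatorElement_def, commutatorElement_def] at h2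
    have h4 : s * (y * v * y⁻¹) * s⁻¹ = s * v * s⁻¹ * v⁻¹ * (y * v * y⁻¹) := by
      have : s * (y * v * y⁻¹) * s⁻¹ = s * (y * v * y⁻¹) * s⁻¹ * (y * v * y⁻¹)⁻¹ * (y * v * y⁻¹) := by group
      rw [this, h2]
    have hE1 : s * v * s⁻¹ * v⁻¹ ∈ E := by
      have := h v hv
      rwa [commutatorElement_def] at this
    have h5 : s * (⁅y, v⁆) * s⁻¹ = ⁅y, v⁆ := by
      have h6 : s * ⁅y, v⁆ * s⁻¹ = (s * (y * v * y⁻¹) * s⁻¹) * (s * v * s⁻¹)⁻¹ := by
        rw [commutatorElement_def]; group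
      have h8 : s * v * s⁻¹ = (s * v * s⁻¹ * v⁻¹) * v := by group
      rw [h6, h4, h8]
      generalize s * v * s⁻¹ * v⁻¹ = e at hE1
      have h7 : e * (y * v * y⁻¹) = (y * v * y⁻¹) * e := c.ce c.Dc h3 hE1
      have h9 : e * v = v * e := c.ce c.Dc hv hE1
      rw [mul_inv_cancel_right, h7, commutatorElement_def, h9]
      group
    calc ⁅y, v⁆ * s = (s * ⁅y, v⁆ * s⁻¹) * s := by rw [h5]
      _ = s * ⁅y, v⁆ := by group
  rw [mem_centralizer_iff]
  intro v hv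
  exact mem_centralizer_singleton_iff.mp (h1 hv)

end Cfg

end Cfsg.Agent.H22.Inv
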