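import Cfsg.Agent.H22_Inv3

set_option autoImplicit false
set_option linter.unusedSectionVars false

namespace Cfsg.Agent.H22.Inv

open Subgroup
open scoped commutatorElement

variable {G : Type*} [Group G] [Finite G]

/-- conjugation on `D` -/
noncomputable def conjD {D : Subgroup G} {z : G} (hz : z ∈ normalizer (D : Set G)) : MulAut D :=
  H3.Fpf.restr (MulAut.conj z) D (by
    apply H22.FPF.map_eq_of_forall_mem
    intro x hx
    exact (mem_normalizer_iff.mp hz x).mp hx)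

theorem conjD_coe {D : Subgroup G} {z : G} (hz : z ∈ normalizer (D : Set G)) (v : D) :
    ((conjD hz v : D) : G) = z * v * z⁻¹ := rfl

namespace Cfg

variable {E D R S J : Subgroup G} (c : Cfg E D R S J)

include c

theorem t_cen : ∀ e ∈ E.subgroupOf D, ∀ v : D, e * v = v * e := fun _ he v =>
  Subtype.ext (c.ce c.Dc v.2 (mem_subgroupOf.mp he))

theorem t_sq : ∀ v : D, v ^ 2 ∈ E.subgroupOf D := fun v => mem_subgroupOf.mpr (by
  rw [SubmonoidClass.coe_pow]; exact c.Dsq v v.2)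

theorem t_e2 : ∀ e ∈ E.subgroupOf D, e ^ 2 = 1 := fun e he => Subtype.ext (by
  rw [SubmonoidClass.coe_pow]; exact c.e2 _ (mem_subgroupOf.mp he))

theorem t_inv : ∀ v : D, v ^ 2 = 1 → v ∈ E.subgroupOf D := fun v hv => mem_subgroupOf.mpr (c.inv v (by
  have := congrArg (fun x : D => (x : G)) hv
  exact this))

theorem struct : ∃ k : ℕ, Nat.card (E.subgroupOf D) = 2 ^ k ∧ Nat.card D = 2 ^ (k + 2 * k) ∧
    ∀ v : D, v ∉ E.subgroupOf D → Nat.card (centralizer ({v} : Set D)) ≤ 2 ^ (2 * k) := by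
  classical
  have h2 : Fact (Nat.Prime 2) := ⟨Nat.prime_two⟩
  have hE'p : IsPGroup 2 (E.subgroupOf D) := c.Dp.to_subgroup _
  obtain ⟨k, hk⟩ := IsPGroup.iff_card.mp hE'p
  obtain ⟨a, ha⟩ := IsPGroup.iff_card.mp c.Dp
  have hcE : Nat.card (E.subgroupOf D) = Nat.card E := Nat.card_congr (Subgroup.subgroupOfEquivOfLe c.ED).toEquiv
  have hk1 : 1 ≤ k := by
    rcases Nat.eq_zero_or_pos k with rfl | h
    · exfalso
      have := c.big
      rw [← hcE, hk, pow_zero] at this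
      omega
    · exact h
  have hlt : Nat.card E < Nat.card D :=
    Set.ncard_lt_ncard (SetLike.coe_ssubset_coe.mpr (lt_of_le_of_ne c.ED (fun h => c.Dne h.symm))) (Set.toFinite _)
  rw [← hcE, hk, ha] at hlt
  have hka : k < a := (Nat.pow_lt_pow_iff_right (by norm_num)).mp hlt
  obtain ⟨m, rfl⟩ := Nat.exists_eq_add_of_lt hka
  have ha' : Nat.card D = 2 ^ (k + (m + 1)) := ha
  -- constant fibres
  obtain ⟨e0, he0, he01⟩ : ∃ e0 ∈ E, e0 ≠ 1 := by
    by_contra hcon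
    push Not at hcon
    have : E = ⊥ := by
      rw [eq_bot_iff]
      intro e he
      exact Subgroup.mem_bot.mpr (hcon e he)
    have hb := c.big
    rw [this, Subgroup.card_bot] at hb
    omega
  have hN : ∀ e ∈ E.subgroupOf D, e ≠ 1 →
      Nat.card {v : D // v ^ 2 = e} = Nat.card {v : D // v ^ 2 = ⟨e0, c.ED he0⟩} := by
    intro e he hne
    obtain ⟨j, hj, hje⟩ := c.Jt e0 he0 e (mem_subgroupOf.mp he) he01 (fun h => hne (Subtype.ext h))
    symm
    refine Nat.card_congr ⟨fun v => ⟨⟨j * v.1 * j⁻¹, nm c.JD hj v.1.2⟩, ?_⟩,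
      fun v => ⟨⟨j⁻¹ * v.1 * j⁻¹⁻¹, nm c.JD (inv_mem hj) v.1.2⟩, ?_⟩, ?_, ?_⟩
    · have h1 : ((v.1 : D) : G) ^ 2 = e0 := congrArg (fun x : D => (x : G)) v.2
      apply Subtype.ext
      show (j * (v.1 : G) * j⁻¹) ^ 2 = e
      have h3 : (j * (v.1 : G) * j⁻¹) ^ 2 = j * (v.1 : G) ^ 2 * j⁻¹ := by simp only [pow_two]; group
      rw [h3, h1, hje]
    · have h1 : ((v.1 : D) : G) ^ 2 = e := congrArg (fun x : D => (x : G)) v.2
      apply Subtype.ext
      show (j⁻¹ * (v.1 : G) * j⁻¹⁻¹) ^ 2 = e0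
      have h3 : (j⁻¹ * (v.1 : G) * j⁻¹⁻¹) ^ 2 = j⁻¹ * (v.1 : G) ^ 2 * j := by simp only [pow_two]; group
      rw [h3, h1, ← hje]
      group
    · intro v
      apply Subtype.ext
      apply Subtype.ext
      show j⁻¹ * (j * (v.1 : G) * j⁻¹) * j⁻¹⁻¹ = v.1
      group
    · intro v
      apply Subtype.ext
      apply Subtype.ext
      show j * (j⁻¹ * (v.1 : G) * j⁻¹⁻¹) * j⁻¹ = v.1
      group
  have key : ∀ M : Subgroup D, M ≤ E.subgroupOf D → M.relIndex (E.subgroupOf D) = 2 →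
      m + 1 = 2 * k ∧ ∀ v : D, (∀ w, ⁅v, w⁆ ∈ M) → v ∈ E.subgroupOf D := by
    intro M hM hM2
    refine countA (E.subgroupOf D) hk1 (by omega) hk ha' c.t_cen c.t_sq c.t_e2 c.t_inv hN M hM hM2 ?_
    intro v hv
    have h3 := c.h6 (M := M.map D.subtype) (by
      rintro _ ⟨x, hx, rfl⟩
      exact mem_subgroupOf.mp (hM hx)) v.2 (by
      intro w hw
      exact ⟨⁅v, (⟨w, hw⟩ : D)⁆, hv _, rfl⟩)
    obtain ⟨x, hx, hxv⟩ := h3
    have : x = v ^ 2 := Subtype.ext hxv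
    rwa [← this]
  have hbot : (⊥ : Subgroup D) ≠ E.subgroupOf D := by
    intro h
    rw [← h, Subgroup.card_bot] at hk
    have : 2 ≤ 2 ^ k := by
      calc 2 = 2 ^ 1 := rfl
        _ ≤ _ := Nat.pow_le_pow_right (by norm_num) hk1
    omega
  obtain ⟨M0, -, hM0, hM02⟩ := exists_index_two hE'p bot_le hbot
  have hm := (key M0 hM0 hM02).1
  rw [hm] at ha'
  exact ⟨k, hk, ha', card_centralizer_le hk ha' c.t_cen c.t_sq (fun M hM hM2 => (key M hM hM2).2)⟩

/-- (viii) two elements -/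
theorem two {z w : G} (hz : z ∈ S) (hw : w ∈ S) (hzc : z ∉ centralizer (D : Set G)) (hwc : w ∉ centralizer (D : Set G))
    (hz2 : z ^ 2 ∈ centralizer (D : Set G)) (hw2 : w ^ 2 ∈ centralizer (D : Set G))
    (hzw : ⁅z, w⁆ ∈ centralizer (D : Set G)) {u : G} (hu : u ∈ D) (huE : u ∉ E)
    (huz : ⁅u, z⁆ ∈ E) (huw : ⁅u, w⁆ ∈ E) : z * w ∈ centralizer (D : Set G) := by
  obtain ⟨k, hk, hD, hcent⟩ := c.struct
  have hEn := c.En
  have hzD := c.SD hz
  have hwD := c.SD hw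
  have hfixE : ∀ {x : G} (hx : x ∈ S), ∀ e ∈ E.subgroupOf D, conjD (c.SD hx) e = e := by
    intro x hx e he
    apply Subtype.ext
    rw [conjD_coe, ← c.ce c.SE hx (mem_subgroupOf.mp he), mul_inv_cancel_right]
  have hsq : ∀ {x : G} (hx : x ∈ S), x ^ 2 ∈ centralizer (D : Set G) →
      ∀ v, conjD (c.SD hx) (conjD (c.SD hx) v) = v := by
    intro x hx hx2 v
    apply Subtype.ext
    rw [conjD_coe, conjD_coe]
    have h1 : (v : G) * x ^ 2 = x ^ 2 * v := mem_centralizer_iff.mp hx2 v v.2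
    have h2 : x * (x * (v : G) * x⁻¹) * x⁻¹ = x ^ 2 * v * (x ^ 2)⁻¹ := by
      simp only [pow_two]; group
    rw [h2, ← h1, mul_inv_cancel_right]
  have hnt : ∀ {x : G} (hx : x ∈ S), x ∉ centralizer (D : Set G) →
      ∃ v : D, v⁻¹ * conjD (c.SD hx) v ∉ E.subgroupOf D := by
    intro x hx hxc
    by_contra hcon
    push Not at hcon
    apply hxc
    apply c.cent_of_triv hx
    intro v hv
    have h1 := mem_subgroupOf.mp (hcon ⟨v, hv⟩)
    have h2 : ⁅x, v⁆ = v * (v⁻¹ * (x * v * x⁻¹)) * v⁻¹ := by rw [commutatorElement_def]; group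
    rw [h2]
    exact hEn.conj_mem _ h1 _
  have huu : ∀ {x : G} (hx : x ∈ S), ⁅u, x⁆ ∈ E →
      (⟨u, hu⟩ : D)⁻¹ * conjD (c.SD hx) ⟨u, hu⟩ ∈ E.subgroupOf D := by
    intro x hx h
    rw [mem_subgroupOf]
    show u⁻¹ * (x * u * x⁻¹) ∈ E
    have h1 : u⁻¹ * (x * u * x⁻¹) = u⁻¹ * ⁅u, x⁆⁻¹ * u⁻¹⁻¹ := by rw [commutatorElement_def]; group
    rw [h1]
    exact hEn.conj_mem _ (inv_mem h) _
  have h1 := invC hk hD c.t_cen c.t_sq c.t_e2 c.t_inv hcent (conjD hzD) (conjD hwD) (hfixE hz) (hfixE hw)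
    (hsq hz hz2) (hsq hw hw2) (by
      intro v
      apply Subtype.ext
      rw [conjD_coe, conjD_coe, conjD_coe, conjD_coe]
      -- use that `⁅z, w⁆` centralizes `D`
      have h3 : z * (w * (v : G) * w⁻¹) * z⁻¹ = ⁅z, w⁆ * (w * (z * v * z⁻¹) * w⁻¹) * ⁅z, w⁆⁻¹ := by
        rw [commutatorElement_def]; group
      have h4 : w * (z * (v : G) * z⁻¹) * w⁻¹ ∈ D := nm c.SD hw (nm c.SD hz v.2)
      rw [h3, ← mem_centralizer_iff.mp hzw _ h4, mul_inv_cancel_right])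
    (hnt hz hzc) (hnt hw hwc) ⟨u, hu⟩ (fun h => huE (mem_subgroupOf.mp h)) (huu hz huz) (huu hw huw)
  apply c.cent_of_triv (mul_mem hz hw)
  intro v hv
  have h2 := mem_subgroupOf.mp (h1 ⟨v, hv⟩)
  have h3 : v⁻¹ * (z * (w * v * w⁻¹) * z⁻¹) ∈ E := h2
  have h4 : ⁅z * w, v⁆ = v * (v⁻¹ * (z * (w * v * w⁻¹) * z⁻¹)) * v⁻¹ := by rw [commutatorElement_def]; group
  rw [h4]
  exact hEn.conj_mem _ h3 _

/-- (vii) -/
theorem exists_u : ∃ u ∈ D, u ∉ E ∧ ∀ s ∈ S, ⁅u, s⁆ ∈ E := by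
  have h2 : Fact (Nat.Prime 2) := ⟨Nat.prime_two⟩
  have hEn := c.En
  have hn : S.map (QuotientGroup.mk' E) ≤ normalizer ((D.map (QuotientGroup.mk' E) : Subgroup (G ⧸ E)) : Set (G ⧸ E)) := by
    rintro _ ⟨r, hr, rfl⟩
    rw [mem_normalizer_iff]
    have key : ∀ r : G, r ∈ S → ∀ x, x ∈ D.map (QuotientGroup.mk' E) →
        (QuotientGroup.mk' E) r * x * ((QuotientGroup.mk' E) r)⁻¹ ∈ D.map (QuotientGroup.mk' E) := by
      rintro r hr _ ⟨x, hx, rfl⟩
      rw [← map_inv, ← map_mul, ← map_mul]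
      exact ⟨_, nm c.SD hr hx, rfl⟩
    intro x
    refine ⟨key r hr x, fun hx => ?_⟩
    have h1 := key r⁻¹ (inv_mem hr) _ hx
    rw [map_inv] at h1
    have h2 : ((QuotientGroup.mk' E) r)⁻¹ * ((QuotientGroup.mk' E) r * x * ((QuotientGroup.mk' E) r)⁻¹) * ((QuotientGroup.mk' E) r)⁻¹⁻¹ = x := by
      group
    rwa [h2] at h1
  have hd : 2 ∣ Nat.card (D.map (QuotientGroup.mk' E)) := by
    have h1 : IsPGroup 2 (D.map (QuotientGroup.mk' E)) := c.Dp.map _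
    obtain ⟨n, hn⟩ := IsPGroup.iff_card.mp h1
    rcases Nat.eq_zero_or_pos n with rfl | hn0
    · exfalso
      rw [pow_zero, Subgroup.card_eq_one, Subgroup.map_eq_bot_iff, QuotientGroup.ker_mk'] at hn
      exact c.Dne (le_antisymm hn c.ED)
    · rw [hn]; exact dvd_pow_self 2 hn0.ne'
  have h1 := H22.Prim.exists_fixed_of_dvd (c.Sp.map (QuotientGroup.mk' E)) hn hd
  rw [Ne, Subgroup.eq_bot_iff_forall] at h1
  push Not at h1
  obtain ⟨x, hx, hx1⟩ := h1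
  obtain ⟨⟨u, hu, rfl⟩, hxc⟩ := hx
  have hxc' : (QuotientGroup.mk' E) u ∈ centralizer ((S.map (QuotientGroup.mk' E) : Subgroup (G ⧸ E)) : Set (G ⧸ E)) := hxc
  refine ⟨u, hu, fun h => hx1 ((QuotientGroup.eq_one_iff u).mpr h), ?_⟩
  intro s hs
  have h3 := mem_centralizer_iff.mp hxc' _ ⟨s, hs, rfl⟩
  rw [← map_mul, ← map_mul] at h3
  have h4 := QuotientGroup.eq.mp h3
  have h5 : ⁅u, s⁆ = (u * s) * ((s * u)⁻¹ * (u * s)) * (u * s)⁻¹ := by rw [commutatorElement_def]; group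
  rw [h5]
  exact hEn.conj_mem _ h4 _

/-- (vi) -/
theorem exists_z : ∃ z ∈ S, z ∉ centralizer (D : Set G) ∧ z ^ 2 ∈ centralizer (D : Set G) ∧
    ∀ s ∈ S, ⁅z, s⁆ ∈ centralizer (D : Set G) := by
  have h2 : Fact (Nat.Prime 2) := ⟨Nat.prime_two⟩
  -- `S` does not centralize `D`
  have hSc : ¬ S ≤ centralizer (D : Set G) := by
    intro h
    have h1 : ⁅S, D⁆ = ⊥ := Subgroup.commutator_eq_bot_iff_le_centralizer.mpr h
    have hDR : ⁅D, R⁆ ≤ D := c.DR.le
    have h3 : ⁅⁅S, D⁆, R⁆ = ⊥ := by rw [h1, Subgroup.commutator_bot_left]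
    have h4 : ⁅⁅D, R⁆, S⁆ = ⊥ := by rw [c.DR, Subgroup.commutator_comm, h1]
    have h5 := Subgroup.commutator_commutator_eq_bot_of_rotate h3 h4
    rw [c.RS, Subgroup.commutator_comm, c.DR] at h5
    have hb := c.big
    have : E = ⊥ := le_bot_iff.mp (c.ED.trans h5.le)
    rw [this, Subgroup.card_bot] at hb
    omega
  have hCn : ((centralizer (D : Set G)).subgroupOf S).Normal := by
    constructor
    intro x hx s
    rw [mem_subgroupOf] at hx ⊢
    rw [mem_centralizer_iff] at hx ⊢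
    intro v hv
    have h3 : (s : G)⁻¹ * v * (s : G)⁻¹⁻¹ ∈ D := nm c.SD (inv_mem s.2) hv
    have h4 := hx _ h3
    show v * ((s : G) * x * (s : G)⁻¹) = ((s : G) * x * (s : G)⁻¹) * v
    calc v * ((s : G) * x * (s : G)⁻¹) = (s : G) * (((s : G)⁻¹ * v * (s : G)⁻¹⁻¹) * x) * (s : G)⁻¹ := by group
      _ = (s : G) * (x * ((s : G)⁻¹ * v * (s : G)⁻¹⁻¹)) * (s : G)⁻¹ := by rw [h4]
      _ = _ := by group
  set C := (centralizer (D : Set G)).subgroupOf S with hC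
  have hQp : IsPGroup 2 (S ⧸ C) := c.Sp.to_quotient C
  have hQn : Nontrivial (S ⧸ C) := by
    rw [← not_subsingleton_iff_nontrivial]
    intro hs
    apply hSc
    have h3 : C = ⊤ := QuotientGroup.subsingleton_iff.mp hs
    intro x hx
    have h4 : (⟨x, hx⟩ : S) ∈ C := by rw [h3]; exact mem_top _
    exact mem_subgroupOf.mp h4
  have hcn := hQp.center_nontrivial
  have hcp : IsPGroup 2 (center (S ⧸ C)) := hQp.to_subgroup _
  have hd : 2 ∣ Nat.card (center (S ⧸ C)) := by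
    obtain ⟨n, hn⟩ := IsPGroup.iff_card.mp hcp
    rcases Nat.eq_zero_or_pos n with rfl | hn0
    · exfalso
      rw [pow_zero] at hn
      exact (Finite.one_lt_card_iff_nontrivial.mpr hcn).ne' hn
    · rw [hn]; exact dvd_pow_self 2 hn0.ne'
  obtain ⟨q, hq⟩ := exists_prime_orderOf_dvd_card' (G := center (S ⧸ C)) 2 hd
  obtain ⟨z, hz⟩ := QuotientGroup.mk_surjective (q : S ⧸ C)
  have hq2 : (q : S ⧸ C) ^ 2 = 1 := by
    have h3 : q ^ 2 = 1 := by rw [← hq]; exact pow_orderOf_eq_one q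
    exact congrArg (fun x : center (S ⧸ C) => (x : S ⧸ C)) h3
  refine ⟨z, z.2, ?_, ?_, ?_⟩
  · intro h
    have h3 : (QuotientGroup.mk z : S ⧸ C) = 1 := (QuotientGroup.eq_one_iff z).mpr (mem_subgroupOf.mpr h)
    rw [hz] at h3
    have h4 : q = 1 := Subtype.ext h3
    rw [h4, orderOf_one] at hq
    omega
  · rw [← hz, ← QuotientGroup.mk_pow, QuotientGroup.eq_one_iff, hC, mem_subgroupOf] at hq2
    exact hq2
  · intro s hs
    have h3 := mem_center_iff.mp q.2 (QuotientGroup.mk ⟨s, hs⟩)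
    rw [← hz, ← QuotientGroup.mk_mul, ← QuotientGroup.mk_mul] at h3
    have h4 := QuotientGroup.eq.mp h3
    have h5 : ((⟨s, hs⟩ * z)⁻¹ * (z * ⟨s, hs⟩) : S) ∈ C := h4
    have h6 := hCn.conj_mem _ h5 (z * ⟨s, hs⟩)
    have h7 := mem_subgroupOf.mp h6
    have h8 : ((z * ⟨s, hs⟩ * ((⟨s, hs⟩ * z)⁻¹ * (z * ⟨s, hs⟩)) * (z * ⟨s, hs⟩)⁻¹ : S) : G) = ⁅(z : G), s⁆ := by
      show ((z : G) * s) * (((s * z)⁻¹) * ((z : G) * s)) * ((z : G) * s)⁻¹ = _
      rw [commutatorElement_def]; group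
    rwa [h8] at h7

/-- **the contradiction** -/
theorem false : False := by
  have h2 : Fact (Nat.Prime 2) := ⟨Nat.prime_two⟩
  obtain ⟨z, hz, hzc, hz2, hzs⟩ := c.exists_z
  obtain ⟨u, hu, huE, hus⟩ := c.exists_u
  have hSD := c.SD
  have hSs : Group.IsSolvable S := by
    have := c.Sp.isNilpotent
    infer_instance
  -- `C = S ∩ C(D)`
  set C := S ⊓ centralizer (D : Set G) with hC
  have hJC : ∀ j ∈ J, ∀ x ∈ centralizer (D : Set G), j * x * j⁻¹ ∈ centralizer (D : Set G) := by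
    intro j hj x hx
    rw [mem_centralizer_iff] at hx ⊢
    intro v hv
    have h4 := hx _ (nm c.JD (inv_mem hj) hv)
    calc v * (j * x * j⁻¹) = j * ((j⁻¹ * v * j⁻¹⁻¹) * x) * j⁻¹ := by group
      _ = j * (x * (j⁻¹ * v * j⁻¹⁻¹)) * j⁻¹ := by rw [h4]
      _ = _ := by group
  have hSC : ∀ s ∈ S, ∀ x ∈ centralizer (D : Set G), s * x * s⁻¹ ∈ centralizer (D : Set G) := by
    intro j hj x hx
    rw [mem_centralizer_iff] at hx ⊢
    intro v hv
    have h4 := hx _ (nm c.SD (inv_mem hj) hv)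
    calc v * (j * x * j⁻¹) = j * ((j⁻¹ * v * j⁻¹⁻¹) * x) * j⁻¹ := by group
      _ = j * (x * (j⁻¹ * v * j⁻¹⁻¹)) * j⁻¹ := by rw [h4]
      _ = _ := by group
  have nmz : ∀ {X : Subgroup G} (hX : ∀ j ∈ X, ∀ x ∈ C, j * x * j⁻¹ ∈ C), X ≤ normalizer (C : Set G) := by
    intro X hX j hj
    rw [mem_normalizer_iff]
    intro x
    refine ⟨hX j hj x, fun hx => ?_⟩
    have h1 := hX j⁻¹ (inv_mem hj) _ hx
    have h3 : j⁻¹ * (j * x * j⁻¹) * j⁻¹⁻¹ = x := by group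
    rwa [h3] at h1
  have hJn : J ≤ normalizer (C : Set G) := nmz (fun j hj x hx => mem_inf.mpr ⟨nm c.JS hj (mem_inf.mp hx).1, hJC j hj x (mem_inf.mp hx).2⟩)
  have hSn : S ≤ normalizer (C : Set G) := nmz (fun j hj x hx => mem_inf.mpr ⟨mul_mem (mul_mem hj (mem_inf.mp hx).1) (inv_mem hj), hSC j hj x (mem_inf.mp hx).2⟩)
  -- `z` is fixed by `J` modulo `C`
  have hfix : ∀ j ∈ J, j * z * j⁻¹ * z⁻¹ ∈ C := by
    intro j hj
    set w := j * z * j⁻¹ with hw
    have hwS : w ∈ S := nm c.JS hj hz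
    have hwc : w ∉ centralizer (D : Set G) := by
      intro h
      apply hzc
      have h1 := hJC j⁻¹ (inv_mem hj) _ h
      have h3 : j⁻¹ * w * j⁻¹⁻¹ = z := by rw [hw]; group
      rwa [h3] at h1
    have hw2 : w ^ 2 ∈ centralizer (D : Set G) := by
      have h1 : w ^ 2 = j * z ^ 2 * j⁻¹ := by rw [hw]; simp only [pow_two]; group
      rw [h1]
      exact hJC j hj _ hz2
    have h1 := c.two hwS hz hwc hzc hw2 hz2 (by
      have h3 : ⁅w, z⁆ = ⁅z, w⁆⁻¹ := (commutatorElement_inv z w).symm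
      rw [h3]
      exact inv_mem (hzs w hwS)) hu huE (hus w hwS) (hus z hz)
    refine mem_inf.mpr ⟨mul_mem hwS (inv_mem hz), ?_⟩
    have h3 : w * z⁻¹ = w * z * (z ^ 2)⁻¹ := by simp only [pow_two]; group
    rw [h3]
    exact mul_mem h1 (inv_mem hz2)
  obtain ⟨x, hx, hxz⟩ := H1.Coprime.fixed_points_quotient J S c.JS c.Jodd (Or.inr hSs) C inf_le_left hSn hJn z hz hfix
  have hx1 : x ≠ 1 := by
    rintro rfl
    apply hzc
    rw [mul_one] at hxz
    have := inv_mem (mem_inf.mp hxz).2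
    rwa [inv_inv] at this
  -- an involution fixed by `J`
  have hxJ : ∀ j ∈ J, j * x * j⁻¹ = x := by
    intro j hj
    have h1 : j * x = x * j := mem_centralizer_iff.mp hx.2 j hj
    rw [h1, mul_inv_cancel_right]
  obtain ⟨n, hn⟩ := IsPGroup.iff_orderOf.mp c.Sp ⟨x, hx.1⟩
  have hn' : orderOf x = 2 ^ n := by rw [← Subgroup.orderOf_coe] at hn; exact hn
  have hn0 : n ≠ 0 := by
    rintro rfl
    rw [pow_zero] at hn'
    exact hx1 (orderOf_eq_one_iff.mp hn')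
  obtain ⟨n', rfl⟩ := Nat.exists_eq_succ_of_ne_zero hn0
  set e := x ^ (2 ^ n') with he
  have he2 : e ^ 2 = 1 := by
    rw [he, ← pow_mul, ← pow_succ]
    show x ^ (2 ^ (n'.succ)) = 1
    rw [← hn']
    exact pow_orderOf_eq_one x
  have he1 : e ≠ 1 := by
    intro h
    have h1 := orderOf_dvd_of_pow_eq_one (he ▸ h)
    rw [hn'] at h1
    have h3 := (Nat.pow_dvd_pow_iff_le_right (by norm_num : 1 < 2)).mp h1
    omega
  have heE := c.inv e he2
  have heJ : ∀ j ∈ J, j * e * j⁻¹ = e := by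
    intro j hj
    rw [he, ← conj_pow, hxJ j hj]
  have hcard : Nat.card E ≤ 2 := by
    have h1 : ∀ y ∈ E, y = 1 ∨ y = e := by
      intro y hy
      by_cases hy1 : y = 1
      · exact Or.inl hy1
      · obtain ⟨j, hj, hje⟩ := c.Jt e heE y hy he1 hy1
        right
        rw [← hje, heJ j hj]
    have h3 : (E : Set G) ⊆ {1, e} := by
      intro y hy
      rcases h1 y hy with h | h
      · left; exact h
      · right; exact h
    calc Nat.card E = (E : Set G).ncard := rfl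
      _ ≤ ({1, e} : Set G).ncard := Set.ncard_le_ncard h3 (Set.toFinite _)
      _ ≤ 2 := (Set.ncard_insert_le 1 {e}).trans (by rw [Set.ncard_singleton])
  have := c.big
  omega

end Cfg

end Cfsg.Agent.H22.Inv
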