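import Cfsg.Agent.H22_Inv4
import Cfsg.Agent.H22_Alp2

set_option autoImplicit false
set_option linter.unusedSectionVars false

namespace Cfsg.Agent.H22.Inv

open Subgroup
open scoped commutatorElement Pointwise

variable {G : Type*} [Group G] [Finite G]

theorem fix_of_quot {E D R : Subgroup G} (hEn : E.Normal) (hDE : ⁅D, D⁆ ≤ E) (hRD : R ≤ normalizer (D : Set G))
    (hcopRD : (Nat.card R).Coprime (Nat.card D)) (hDR : ⁅D, R⁆ = D) {v : G} (hv : v ∈ D) (h : ∀ r ∈ R, ⁅v, r⁆ ∈ E) :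
    v ∈ E := by
  have hab : IsMulCommutative (D.map (QuotientGroup.mk' E)) := by
    refine ⟨⟨fun a b => Subtype.ext ?_⟩⟩
    obtain ⟨x, hx, hxa⟩ := a.2
    obtain ⟨y, hy, hyb⟩ := b.2
    show (a : G ⧸ E) * b = b * a
    rw [← hxa, ← hyb, ← map_mul, ← map_mul]
    apply QuotientGroup.eq.mpr
    have h4 : (x * y)⁻¹ * (y * x) = ⁅y⁻¹, x⁻¹⁆ := by
      rw [commutatorElement_def]; group
    rw [h4]
    exact hDE (Subgroup.commutator_mem_commutator (inv_mem hy) (inv_mem hx))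
  have hn : R.map (QuotientGroup.mk' E) ≤ normalizer ((D.map (QuotientGroup.mk' E) : Subgroup (G ⧸ E)) : Set (G ⧸ E)) := by
    rintro _ ⟨r, hr, rfl⟩
    rw [mem_normalizer_iff]
    have key : ∀ r : G, r ∈ R → ∀ x, x ∈ D.map (QuotientGroup.mk' E) →
        (QuotientGroup.mk' E) r * x * ((QuotientGroup.mk' E) r)⁻¹ ∈ D.map (QuotientGroup.mk' E) := by
      rintro r hr _ ⟨x, hx, rfl⟩
      rw [← map_inv, ← map_mul, ← map_mul]
      exact ⟨_, nm hRD hr hx, rfl⟩
    intro x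
    refine ⟨key r hr x, fun hx => ?_⟩
    have h1 := key r⁻¹ (inv_mem hr) _ hx
    rw [map_inv] at h1
    have h2 : ((QuotientGroup.mk' E) r)⁻¹ * ((QuotientGroup.mk' E) r * x * ((QuotientGroup.mk' E) r)⁻¹) * ((QuotientGroup.mk' E) r)⁻¹⁻¹ = x := by
      group
    rwa [h2] at h1
  have hcop : (Nat.card (R.map (QuotientGroup.mk' E))).Coprime (Nat.card (D.map (QuotientGroup.mk' E))) :=
    (hcopRD.coprime_dvd_left (Subgroup.card_map_dvd _ _)).coprime_dvd_right (Subgroup.card_map_dvd _ _)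
  have h1 := H1.Coprime.inf_commutator_eq_bot_of_abelian (R.map (QuotientGroup.mk' E)) (D.map (QuotientGroup.mk' E)) hn hcop
  rw [← Subgroup.map_commutator, hDR] at h1
  have h3 : QuotientGroup.mk' E v ∈ centralizer ((R.map (QuotientGroup.mk' E) : Subgroup (G ⧸ E)) : Set (G ⧸ E)) := by
    rw [mem_centralizer_iff]
    rintro _ ⟨r, hr, rfl⟩
    rw [← map_mul, ← map_mul]
    apply QuotientGroup.eq.mpr
    have h4 : (r * v)⁻¹ * (v * r) = ⁅v⁻¹, r⁻¹⁆ := by
      rw [commutatorElement_def]; group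
    rw [h4]
    have h5 := h r⁻¹ (inv_mem hr)
    have h6 : ⁅v⁻¹, r⁻¹⁆ = v⁻¹ * ⁅v, r⁻¹⁆⁻¹ * v⁻¹⁻¹ := by
      simp only [commutatorElement_def]; group
    rw [h6]
    exact hEn.conj_mem _ (inv_mem h5) _
  have h2 : QuotientGroup.mk' E v ∈ (⊥ : Subgroup (G ⧸ E)) := by
    rw [← h1]
    exact ⟨⟨⟨v, hv, rfl⟩, h3⟩, ⟨v, hv, rfl⟩⟩
  exact (QuotientGroup.eq_one_iff v).mp (Subgroup.mem_bot.mp h2)

theorem nm_of {X D : Subgroup G} (h : ∀ x ∈ X, ∀ v ∈ D, x * v * x⁻¹ ∈ D) : X ≤ normalizer (D : Set G) := by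
  intro j hj
  rw [mem_normalizer_iff]
  intro x
  refine ⟨h j hj x, fun hx => ?_⟩
  have h1 := h j⁻¹ (inv_mem hj) _ hx
  have h3 : j⁻¹ * (j * x * j⁻¹) * j⁻¹⁻¹ = x := by group
  rwa [h3] at h1

theorem nm_pw {X D : Subgroup G} (h : X ≤ normalizer (D : Set G)) (m : ℕ) : X ≤ normalizer ((Alp.pw D m : Subgroup G) : Set G) := by
  apply nm_of
  intro x hx
  have h1 : Alp.pw D m ≤ (Alp.pw D m).comap (MulAut.conj x).toMonoidHom := by
    apply Alp.pw_le
    intro v hv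
    show x * v ^ m * x⁻¹ ∈ Alp.pw D m
    rw [← conj_pow]
    exact Alp.pow_mem_pw (nm h hx hv)
  exact fun v hv => h1 hv

/-- a nontrivial 2-subgroup contains an involution -/
theorem exists_inv_of_ne_bot {X : Subgroup G} (hX : IsPGroup 2 X) (hne : X ≠ ⊥) : ∃ x ∈ X, x ≠ 1 ∧ x ^ 2 = 1 := by
  have h2 : Fact (Nat.Prime 2) := ⟨Nat.prime_two⟩
  obtain ⟨n, hn⟩ := IsPGroup.iff_card.mp hX
  have hn0 : n ≠ 0 := by
    rintro rfl
    rw [pow_zero, Subgroup.card_eq_one] at hn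
    exact hne hn
  obtain ⟨q, hq⟩ := exists_prime_orderOf_dvd_card' (G := X) 2 (by rw [hn]; exact dvd_pow_self 2 hn0)
  refine ⟨q, q.2, ?_, ?_⟩
  · intro h
    have h1 : q = 1 := Subtype.ext h
    rw [h1, orderOf_one] at hq
    omega
  · have h3 : q ^ 2 = 1 := by rw [← hq]; exact pow_orderOf_eq_one q
    exact congrArg (fun x : X => (x : G)) h3

theorem exists_D {E N R H : Subgroup G} (hEn : E.Normal) (hinv : ∀ x : G, x ^ 2 = 1 → x ∈ E)
    (hNp : IsPGroup 2 N) (hNn : N.Normal)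
    (hHR : H ≤ normalizer (R : Set G)) (hRodd : (Nat.card R).Coprime 2) (hRE : R ≤ centralizer (E : Set G))
    (hRN : ⁅N, R⁆ ≠ ⊥) (hRH : R ≤ H)
    (htr : ∀ e ∈ E, ∀ e' ∈ E, e ≠ 1 → e' ≠ 1 → ∃ h ∈ H, h * e * h⁻¹ = e') :
    ∃ D ≤ N, E ≤ D ∧ H ≤ normalizer (D : Set G) ∧ (∀ v ∈ D, v ^ 2 ∈ E) ∧ D ≠ E ∧ ⁅D, R⁆ = D := by
  classical
  have h2 : Fact (Nat.Prime 2) := ⟨Nat.prime_two⟩
  have hfin : {X : Subgroup G | X ≤ N ∧ H ≤ normalizer (X : Set G) ∧ ⁅X, R⁆ ≠ ⊥}.Finite := Set.toFinite _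
  obtain ⟨D, ⟨hDN, hHD, hDR⟩, hmin⟩ := hfin.exists_minimal ⟨N, le_rfl, Subgroup.le_normalizer_of_normal, hRN⟩
  have hRD : R ≤ normalizer (D : Set G) := hRH.trans hHD
  have hDp : IsPGroup 2 D := hNp.to_le hDN
  have hDs : Group.IsSolvable D := by
    have := hDp.isNilpotent
    infer_instance
  have hcop : (Nat.card R).Coprime (Nat.card D) := by
    obtain ⟨n, hn⟩ := IsPGroup.iff_card.mp hDp
    rw [hn]
    exact hRodd.pow_right n
  have hlt : ∀ X : Subgroup G, X ≤ D → X ≠ D → H ≤ normalizer (X : Set G) → ⁅X, R⁆ = ⊥ := by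
    intro X hXD hne hHX
    by_contra hcon
    exact hne (le_antisymm hXD (hmin ⟨hXD.trans hDN, hHX, hcon⟩ hXD))
  -- (a)
  have ha : ⁅D, R⁆ = D := by
    by_contra hne
    have h1 := hlt ⁅D, R⁆ (H1.Coprime.commutator_le_of_le_normalizer hRD) hne
      (H1.Coprime.le_normalizer_commutator_of hHD hHR)
    rw [H1.Coprime.commutator_commutator_eq R D hRD hcop (Or.inr hDs)] at h1
    exact hDR h1
  have hDbot : D ≠ ⊥ := by
    rintro rfl
    exact hDR (Subgroup.commutator_bot_left _)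
  -- (c)
  have hc : ∀ X : Subgroup G, X ≤ D → X ≠ D → H ≤ normalizer (X : Set G) → D ≤ normalizer (X : Set G) → ⁅X, D⁆ = ⊥ := by
    intro X hXD hne hHX hDX
    have h1 := hlt X hXD hne hHX
    have h3 : ⁅⁅X, D⁆, R⁆ = ⊥ := by
      rw [eq_bot_iff]
      refine (Subgroup.commutator_mono (H1.Coprime.commutator_le_of_le_normalizer hDX) le_rfl).trans h1.le
    have h4 : ⁅⁅R, X⁆, D⁆ = ⊥ := by rw [Subgroup.commutator_comm R X, h1, Subgroup.commutator_bot_left]
    -- `[D, R, X] = 1`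
    have h5 : ⁅⁅D, R⁆, X⁆ = ⊥ := Subgroup.commutator_commutator_eq_bot_of_rotate h4 h3
    rw [ha, Subgroup.commutator_comm] at h5
    exact h5
  -- the subgroup `F`
  set F := Alp.pw D 2 with hF
  have hFD : F ≤ D := Alp.pw_le (fun x hx => pow_mem hx 2)
  have hFne : F ≠ D := fun h => hDbot (Alp.eq_bot_of_le_pw Nat.prime_two hDp h.ge)
  have hHF : H ≤ normalizer (F : Set G) := nm_pw hHD 2
  have hDF : D ≤ normalizer (F : Set G) := nm_pw Subgroup.le_normalizer 2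
  have hFR := hlt F hFD hFne hHF
  have hFDc := hc F hFD hFne hHF hDF
  have hsqF : ∀ v ∈ D, v ^ 2 ∈ F := fun v hv => Alp.pow_mem_pw hv
  have hcommF : ∀ v ∈ D, ∀ w ∈ D, ⁅v, w⁆ ∈ F := by
    intro v hv w hw
    have h : ⁅v, w⁆ = (v⁻¹ ^ 2)⁻¹ * (v⁻¹ * w) ^ 2 * (w ^ 2)⁻¹ := by
      rw [commutatorElement_def]
      simp only [pow_two]
      group
    rw [h]
    exact mul_mem (mul_mem (inv_mem (hsqF _ (inv_mem hv))) (hsqF _ (mul_mem (inv_mem hv) hw))) (inv_mem (hsqF _ hw))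
  have hFc : ∀ f ∈ F, ∀ w ∈ D, f * w = w * f := by
    intro f hf w hw
    have h1 := Subgroup.commutator_eq_bot_iff_le_centralizer.mp hFDc hf
    exact (mem_centralizer_iff.mp h1 w hw).symm
  have hcommE : ∀ v ∈ D, ∀ w ∈ D, ⁅v, w⁆ ∈ E := by
    intro v hv w hw
    apply hinv
    have h1 := hFc _ (hcommF v hv w hw) v hv
    have h3 : ⁅v, w⁆ ^ 2 = ⁅v ^ 2, w⁆ := by
      have h4 : ⁅v ^ 2, w⁆ = v * ⁅v, w⁆ * v⁻¹ * ⁅v, w⁆ := by
        simp only [commutatorElement_def, pow_two]; group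
      rw [h4, ← h1, mul_inv_cancel_right, pow_two]
    rw [h3, commutatorElement_eq_one_iff_mul_comm]
    exact hFc _ (hsqF v hv) w hw
  have hD'E : ⁅D, D⁆ ≤ E := Subgroup.commutator_le.mpr hcommE
  -- `D` is not abelian
  have hna : ⁅D, D⁆ ≠ ⊥ := by
    intro h
    have hab : IsMulCommutative D := by
      refine ⟨⟨fun a b => Subtype.ext ?_⟩⟩
      have h1 := Subgroup.commutator_eq_bot_iff_le_centralizer.mp h a.2
      exact (mem_centralizer_iff.mp h1 b b.2).symm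
    have h1 := H1.Coprime.inf_commutator_eq_bot_of_abelian R D hRD hcop
    rw [ha] at h1
    obtain ⟨x, hx, hx1, hx2⟩ := exists_inv_of_ne_bot hDp hDbot
    have hxc : x ∈ centralizer (R : Set G) := by
      rw [mem_centralizer_iff]
      intro r hr
      exact (mem_centralizer_iff.mp (hRE hr) x (hinv x hx2)).symm
    have h3 : x ∈ D ⊓ centralizer (R : Set G) ⊓ D := mem_inf.mpr ⟨mem_inf.mpr ⟨hx, hxc⟩, hx⟩
    rw [h1] at h3
    exact hx1 (mem_bot.mp h3)
  have hHD' : H ≤ normalizer ((⁅D, D⁆ : Subgroup G) : Set G) := H1.Coprime.le_normalizer_commutator_of hHD hHD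
  have hED' : E ≤ ⁅D, D⁆ := by
    intro e' he'
    by_cases he1 : e' = 1
    · rw [he1]; exact one_mem _
    obtain ⟨x, hx, hx1, hx2⟩ := exists_inv_of_ne_bot (hDp.to_le (H1.Coprime.commutator_le_of_le_normalizer Subgroup.le_normalizer)) hna
    obtain ⟨h, hh, hhx⟩ := htr x (hD'E hx) e' he' hx1 he1
    rw [← hhx]
    exact nm hHD' hh hx
  have hED : E ≤ D := hED'.trans (H1.Coprime.commutator_le_of_le_normalizer Subgroup.le_normalizer)
  have hFE : F ≤ E := by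
    intro f hf
    apply fix_of_quot hEn hD'E hRD hcop ha (hFD hf)
    intro r hr
    have h1 := Subgroup.commutator_eq_bot_iff_le_centralizer.mp hFR hf
    rw [commutatorElement_eq_one_iff_mul_comm.mpr (mem_centralizer_iff.mp h1 r hr).symm]
    exact one_mem E
  refine ⟨D, hDN, hED, hHD, fun v hv => hFE (hsqF v hv), ?_, ha⟩
  intro h
  apply hDR
  rw [h, Subgroup.commutator_comm, Subgroup.commutator_eq_bot_iff_le_centralizer]
  exact hRE

/-- the end of the proof -/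
theorem finish {E N R H T : Subgroup G} (hEn : E.Normal) (hE2 : ∀ e ∈ E, e ^ 2 = 1)
    (hinv : ∀ x : G, x ^ 2 = 1 → x ∈ E) (hbig : 2 < Nat.card E)
    (hNp : IsPGroup 2 N) (hNn : N.Normal) (hEN : E ≤ N) (hEc : N ≤ centralizer (E : Set G))
    (hHR : H ≤ normalizer (R : Set G)) (hRH : R ≤ H) (hRodd : (Nat.card R).Coprime 2)
    (hRE : R ≤ centralizer (E : Set G)) (hRN : R ⊓ N = ⊥) (hNH : N ⊔ H = ⊤) (hCN : centralizer (N : Set G) ≤ N)
    (hCR : ∀ S : Subgroup G, IsPGroup 2 S → S ≤ centralizer (R : Set G) → S ≤ N) (hRs : Group.IsSolvable R)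
    (hidx : 2 ∣ N.index)
    (htr : ∀ e ∈ E, ∀ e' ∈ E, e ≠ 1 → e' ≠ 1 → ∃ h ∈ H, h * e * h⁻¹ = e')
    (hRT : R ≤ T) (hTH : T ≤ H) (hHT : H ≤ normalizer (T : Set G)) (hRTi : ∃ a, R.relIndex T = 2 ^ a)
    (hTHi : ¬ 2 ∣ T.relIndex H) : False := by
  have h2 : Fact (Nat.Prime 2) := ⟨Nat.prime_two⟩
  obtain ⟨a, ha⟩ := hRTi
  have hcopRT : (Nat.card R).Coprime (R.relIndex T) := by rw [ha]; exact hRodd.pow_right a
  obtain ⟨S, hST, hScard, hSR, hSRT⟩ := H1.Coprime.sz_exists hRT (hTH.trans hHR) hcopRT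
  have hSp : IsPGroup 2 S := IsPGroup.of_card (hScard.trans ha)
  have hSH : S ≤ H := hST.trans hTH
  have hSnR : S ≤ normalizer (R : Set G) := hSH.trans hHR
  have hcopSR : (Nat.card S).Coprime (Nat.card R) := by rw [hScard]; exact hcopRT.symm
  have hSRi : S.relIndex T = Nat.card R := by
    have h1 := H1.Basic.relIndex_mul_card hST
    have h3 := H1.Basic.relIndex_mul_card hRT
    rw [← hScard] at h3
    rw [← h3, mul_comm] at h1
    exact Nat.eq_of_mul_eq_mul_left Nat.card_pos h1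
  have hSHi : ¬ 2 ∣ S.relIndex H := by
    rw [← Subgroup.relIndex_mul_relIndex S T H hST hTH, hSRi]
    intro h
    rcases (Nat.Prime.dvd_mul Nat.prime_two).mp h with h | h
    · exact (Nat.Prime.coprime_iff_not_dvd Nat.prime_two).mp hRodd.symm h
    · exact hTHi h
  -- `S` is not contained in `N`
  have hSN : ¬ S ≤ N := by
    intro hSN
    have h1 : N.index = (N ⊓ H).relIndex H := by
      rw [Subgroup.inf_relIndex_right, ← Subgroup.relIndex_top_right, ← hNH, sup_comm, Subgroup.relIndex_sup_right]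
    rw [h1] at hidx
    apply hSHi
    rw [← Subgroup.relIndex_mul_relIndex S (N ⊓ H) H (le_inf hSN hSH) inf_le_right]
    exact hidx.mul_left _
  -- `S` centralizes `E`
  have hEp : IsPGroup 2 E := hNp.to_le hEN
  have hTE : T ≤ centralizer (E : Set G) := by
    have hd : 2 ∣ Nat.card E := by
      obtain ⟨n, hn⟩ := IsPGroup.iff_card.mp hEp
      rcases Nat.eq_zero_or_pos n with rfl | hn0
      · rw [hn, pow_zero] at hbig; omega
      · rw [hn]; exact dvd_pow_self 2 hn0.ne'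
    have h1 := H22.Prim.exists_fixed_of_dvd hSp (Subgroup.le_normalizer_of_normal : S ≤ normalizer (E : Set G)) hd
    rw [Ne, Subgroup.eq_bot_iff_forall] at h1
    push Not at h1
    obtain ⟨e, he, he1⟩ := h1
    have heT : e ∈ centralizer (T : Set G) := by
      have h3 : T ≤ centralizer ({e} : Set G) := by
        rw [← hSRT, sup_le_iff]
        constructor
        · intro s hs
          exact mem_centralizer_singleton_iff.mpr (mem_centralizer_iff.mp (mem_inf.mp he).2 s hs)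
        · intro r hr
          exact mem_centralizer_singleton_iff.mpr (mem_centralizer_iff.mp (hRE hr) e (mem_inf.mp he).1).symm
      rw [mem_centralizer_iff]
      intro t ht
      exact mem_centralizer_singleton_iff.mp (h3 ht)
    intro t ht
    rw [mem_centralizer_iff]
    intro e' he'
    by_cases he'1 : e' = 1
    · rw [he'1, one_mul, mul_one]
    obtain ⟨h, hh, hhe⟩ := htr e (mem_inf.mp he).1 e' he' he1 he'1
    have h3 : h⁻¹ * t * h⁻¹⁻¹ ∈ T := nm hHT (inv_mem hh) ht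
    have h4 := mem_centralizer_iff.mp heT _ h3
    rw [← hhe]
    calc h * e * h⁻¹ * t = h * (e * (h⁻¹ * t * h⁻¹⁻¹)) * h⁻¹ := by group
      _ = h * ((h⁻¹ * t * h⁻¹⁻¹) * e) * h⁻¹ := by rw [h4]
      _ = _ := by group
  -- the normalizer of `S`
  set J' := H ⊓ normalizer (S : Set G) with hJ'
  have hHRJ : ∀ h ∈ H, ∃ r ∈ R, ∃ j ∈ J', h = r * j := by
    intro h hh
    have h1 : MulAut.conj h • S ≤ S ⊔ R := by
      rw [hSRT]
      intro x hx
      rw [H1.Basic.mem_conj] at hx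
      have h3 := nm hHT hh (hST hx)
      have h4 : h * (h⁻¹ * x * h) * h⁻¹ = x := by group
      rwa [h4] at h3
    obtain ⟨k, hk, hkS⟩ := H1.Coprime.sz_internal hSnR h1 (H1.Basic.card_conj h S) hcopSR (Or.inr hRs)
    refine ⟨k, hk, k⁻¹ * h, mem_inf.mpr ⟨mul_mem (inv_mem (hRH hk)) hh, ?_⟩, by group⟩
    rw [← H1.Basic.conj_eq_iff_mem_normalizer, ← H1.Basic.conj_conj, ← hkS, H1.Basic.conj_conj, inv_mul_cancel,
      H1.Basic.conj_one]
  have hSJ' : S ≤ J' := le_inf hSH Subgroup.le_normalizer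
  have hcopSJ : (Nat.card S).Coprime (S.relIndex J') := by
    rw [hScard, ha]
    apply Nat.Coprime.pow_left
    rw [Nat.Prime.coprime_iff_not_dvd Nat.prime_two]
    intro h
    apply hSHi
    rw [← Subgroup.relIndex_mul_relIndex S J' H hSJ' inf_le_left]
    exact h.mul_right _
  obtain ⟨J, hJJ', hJcard, hJS, hJSJ'⟩ := H1.Coprime.sz_exists hSJ' inf_le_right hcopSJ
  have hJH : J ≤ H := hJJ'.trans inf_le_left
  have hJnS : J ≤ normalizer (S : Set G) := hJJ'.trans inf_le_right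
  -- `J` is transitive
  have hJt : ∀ e ∈ E, ∀ e' ∈ E, e ≠ 1 → e' ≠ 1 → ∃ j ∈ J, j * e * j⁻¹ = e' := by
    intro e he e' he' he1 he'1
    obtain ⟨h, hh, hhe⟩ := htr e he e' he' he1 he'1
    obtain ⟨r, hr, j', hj', rfl⟩ := hHRJ h hh
    rw [← hJSJ', sup_comm, H1.Basic.mem_sup_iff_of_le_normalizer hJnS] at hj'
    obtain ⟨s, hs, j, hj, rfl⟩ := hj'
    refine ⟨j, hj, ?_⟩
    have h3 : j * e * j⁻¹ ∈ E := hEn.conj_mem e he j
    have h4 : (r * s) ∈ centralizer (E : Set G) := mul_mem (hRE hr) (hTE (hST hs))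
    have h5 : j * e * j⁻¹ * (r * s) = (r * s) * (j * e * j⁻¹) := mem_centralizer_iff.mp h4 _ h3
    rw [← hhe]
    calc j * e * j⁻¹ = (j * e * j⁻¹ * (r * s)) * (r * s)⁻¹ := by group
      _ = ((r * s) * (j * e * j⁻¹)) * (r * s)⁻¹ := by rw [h5]
      _ = _ := by group
  -- `R₁ = [R, S]`
  have hR1R : ⁅R, S⁆ ≤ R := H1.Coprime.commutator_le_of_le_normalizer hSnR
  have hR1S : ⁅⁅R, S⁆, S⁆ = ⁅R, S⁆ := H1.Coprime.commutator_commutator_eq S R hSnR hcopSR (Or.inr hRs)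
  have hHR1 : H ≤ normalizer ((⁅R, S⁆ : Subgroup G) : Set G) := by
    intro h hh
    obtain ⟨r, hr, j, hj, rfl⟩ := hHRJ h hh
    apply mul_mem
    · exact Subgroup.normalizer_commutator_ge_left _ _ hr
    · exact H1.Coprime.le_normalizer_commutator_of (inf_le_left.trans hHR) inf_le_right hj
  have hR1ne : ⁅N, ⁅R, S⁆⁆ ≠ ⊥ := by
    intro h
    rw [Subgroup.commutator_comm, Subgroup.commutator_eq_bot_iff_le_centralizer] at h
    have h1 : ⁅R, S⁆ ≤ R ⊓ N := le_inf hR1R (h.trans hCN)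
    rw [hRN, le_bot_iff, Subgroup.commutator_comm, Subgroup.commutator_eq_bot_iff_le_centralizer] at h1
    exact hSN (hCR S hSp h1)
  obtain ⟨D, hDN, hED, hHD, hDsq, hDE, hDR⟩ := exists_D hEn hinv hNp hNn hHR1
    (hRodd.coprime_dvd_left (Subgroup.card_dvd_of_le hR1R)) (hR1R.trans hRE) hR1ne (hR1R.trans hRH) htr
  have c : Cfg E D ⁅R, S⁆ S J :=
    { En := hEn
      e2 := hE2
      inv := hinv
      big := hbig
      ED := hED
      Dc := hDN.trans hEc
      Dp := hNp.to_le hDN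
      Dsq := hDsq
      Dne := hDE
      RD := (hR1R.trans hRH).trans hHD
      SD := hSH.trans hHD
      JD := hJH.trans hHD
      Rodd := hRodd.coprime_dvd_left (Subgroup.card_dvd_of_le hR1R)
      RE := hR1R.trans hRE
      DR := hDR
      Sp := hSp
      SE := hST.trans hTE
      SR := hSH.trans hHR1
      RS := hR1S
      JS := hJnS
      Jodd := by rw [hJcard]; exact hcopSJ.symm
      Jt := hJt }
  exact c.false

end Cfsg.Agent.H22.Inv
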