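import Mathlib
import Cfsg.Prelude
import Cfsg.Agent.H2_MaxClass
import Cfsg.Agent.S0129

set_option autoImplicit false

open Subgroup Cfsg
open scoped Pointwise commutatorElement

namespace Cfsg.Agent.H2.MaxClass

universe u

open Cfsg.Agent.H2.Card

/-- self-centralizing subgroups of order p² -/
theorem class_of_self_centralizing {p : ℕ} [hp : Fact p.Prime] (n : ℕ) : ∀ (X : Type u) [Group X] [Finite X],
    Nat.card X = p ^ n → ∀ A : Subgroup X, Nat.card A = p ^ 2 → centralizer (A : Set X) = A →
    Group.nilpotencyClass X = n - 1 := by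
  induction n with
  | zero =>
    intro X _ _ hX A hA _
    exfalso
    have h1 := card_subgroup_dvd_card A
    rw [hX, hA, pow_zero] at h1
    exact (Nat.one_lt_pow (by norm_num) hp.out.one_lt).ne' (Nat.dvd_one.1 h1)
  | succ n ih =>
    intro X _ _ hX A hA hC
    have hpg : IsPGroup p X := IsPGroup.iff_card.2 ⟨_, hX⟩
    have hnil := hpg.isNilpotent
    have hnt : Nontrivial X := by
      rw [← Finite.one_lt_card_iff_nontrivial, hX]
      exact Nat.one_lt_pow (by omega) hp.out.one_lt
    have hAcomm : ∀ a ∈ A, ∀ b ∈ A, a * b = b * a := by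
      intro a ha b hb
      have : a ∈ centralizer (A : Set X) := by rw [hC]; exact ha
      exact ((mem_centralizer_iff.1 this) b hb).symm
    have hZA : center X ≤ A := by
      rw [← hC]; exact center_le_centralizer _
    by_cases hAtop : A = ⊤
    · have hn1 : n + 1 = 2 := by
        apply Nat.pow_right_injective hp.out.two_le
        change p ^ (n + 1) = p ^ 2
        rw [← hX, ← hA, hAtop, card_top]
      have h1 : Group.nilpotencyClass X ≤ 1 := Group.IsNilpotent.nilpotencyClass_le_one_iff.2
        ⟨⟨fun a b => hAcomm a (by rw [hAtop]; exact mem_top _) b (by rw [hAtop]; exact mem_top _)⟩⟩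
      have h2 : Group.nilpotencyClass X ≠ 0 := by
        intro h
        rw [Group.nilpotencyClass_zero_iff_subsingleton] at h
        exact not_subsingleton X h
      omega
    · have hZne : center X ≠ ⊥ := by
        have := Cfsg.Agent.H2.PGroup.inf_center_ne_bot hpg (M := (⊤ : Subgroup X)) (by
          rw [ne_eq, ← Subgroup.card_eq_one, card_top, hX]
          exact (Nat.one_lt_pow (by omega) hp.out.one_lt).ne')
        rwa [top_inf_eq] at this
      have hZltA : center X ≠ A := by
        intro h
        apply hAtop
        rw [← hC, ← h, eq_top_iff]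
        intro x _
        rw [mem_centralizer_iff]
        intro z hz
        exact (mem_center_iff.1 hz x).symm
      have hZcard : Nat.card (center X) = p := by
        have h1 : Nat.card (center X) ∣ p ^ 2 := by rw [← hA]; exact card_dvd_of_le hZA
        obtain ⟨k, hk, hk'⟩ := (Nat.dvd_prime_pow hp.out).1 h1
        have hk0 : k ≠ 0 := by
          rintro rfl; rw [pow_zero] at hk'; exact hZne (card_eq_one.1 hk')
        have hk2 : k ≠ 2 := by
          rintro rfl; exact hZltA (eq_of_le_of_card_eq hZA (hk'.trans hA.symm))
        have : k = 1 := by omega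
        rw [hk', this, pow_one]
      set N := normalizer (A : Set X) with hN
      have hAN : A ≤ N := le_normalizer
      have hANlt : A < N := by
        exact normalizerCondition_of_isNilpotent A (lt_top_iff_ne_top.2 hAtop)
      have hNcard : Nat.card N = p ^ 3 := by
        have h1 : (A.subgroupOf N).Normal := normal_subgroupOf_of_le_normalizer le_rfl
        have h2 := Cfsg.Agent.S0129.index_centralizer_le (hpg.to_subgroup N) 2 (A.subgroupOf N) h1
          (by rw [card_subgroupOf_of_le hAN, hA])
        have h3 : centralizer ((A.subgroupOf N : Subgroup N) : Set N) ≤ A.subgroupOf N := by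
          intro x hx
          rw [mem_subgroupOf, ← hC, mem_centralizer_iff]
          intro a ha
          have := (mem_centralizer_iff.1 hx) ⟨a, hAN ha⟩ ha
          exact congrArg Subtype.val this
        have h4 : A.relIndex N ≤ p := by
          have h5 := index_dvd_of_le h3
          have h6 := Nat.le_of_dvd (Nat.pos_of_ne_zero index_ne_zero_of_finite) h5
          refine (h6.trans h2).trans ?_
          norm_num
        obtain ⟨k, hk⟩ := IsPGroup.iff_card.1 (hpg.to_subgroup N)
        have h7 := card_mul_relIndex hAN
        rw [hA, hk] at h7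
        have h8 := card_lt_of_lt hANlt
        rw [hA, hk] at h8
        have h9 : 2 < k := (Nat.pow_lt_pow_iff_right hp.out.one_lt).1 h8
        have h10 : p ^ k ≤ p ^ 3 := by
          rw [← h7]
          calc p ^ 2 * A.relIndex N ≤ p ^ 2 * p := Nat.mul_le_mul_left _ h4
            _ = p ^ 3 := by ring
        have h11 := (Nat.pow_le_pow_iff_right hp.out.one_lt).1 h10
        have : k = 3 := by omega
        rw [hk, this]
      have hZN : center X ≤ N := hZA.trans hAN
      set q := QuotientGroup.mk' (center X) with hq
      have hNq : Nat.card (N.map q) = p ^ 2 := by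
        have h4 := index_ker (q.comp N.subtype)
        rw [← MonoidHom.comap_ker, QuotientGroup.ker_mk', MonoidHom.range_comp, range_subtype] at h4
        have h5 := card_mul_relIndex hZN
        rw [hZcard, hNcard] at h5
        have h6 : (center X).relIndex N = p ^ 2 := by
          apply Nat.eq_of_mul_eq_mul_left hp.out.pos
          rw [h5]; ring
        rw [← h4]; exact h6
      have hQcard : Nat.card (X ⧸ center X) = p ^ n := by
        have h3 := (center X).card_mul_index
        rw [index_eq_card, hX, hZcard, pow_succ'] at h3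
        exact Nat.eq_of_mul_eq_mul_left hp.out.pos h3
      have hcent : centralizer ((N.map q : Subgroup (X ⧸ center X)) : Set (X ⧸ center X)) = N.map q := by
        apply le_antisymm
        · intro x hx
          obtain ⟨x, rfl⟩ := QuotientGroup.mk'_surjective (center X) x
          refine ⟨x, ?_, rfl⟩
          rw [hN]
          apply mem_normalizer_fintype
          intro a ha
          have h5 := (mem_centralizer_iff.1 hx) (q a) ⟨a, hAN ha, rfl⟩
          have h6 : q (x * a * x⁻¹ * a⁻¹) = 1 := by
            rw [map_mul, map_mul, map_mul, map_inv, map_inv]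
            change q a * q x = q x * q a at h5
            rw [← h5]; group
          rw [← MonoidHom.mem_ker, QuotientGroup.ker_mk'] at h6
          have h7 := A.mul_mem (hZA h6) ha
          simpa using h7
        · have h5 : IsMulCommutative (N.map q) := IsPGroup.isMulCommutative_of_card_eq_prime_sq hNq
          intro x hx
          rw [mem_centralizer_iff]
          intro y hy
          exact congrArg Subtype.val (h5.is_comm.comm (⟨y, hy⟩ : N.map q) ⟨x, hx⟩)
      have h6 := ih (X ⧸ center X) hQcard (N.map q) hNq hcent
      rw [Group.nilpotencyClass_eq_quotient_center_plus_one, h6]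
      have h7 : 3 ≤ n + 1 := by
        have h8 := card_subgroup_dvd_card N
        rw [hNcard, hX] at h8
        exact Nat.pow_dvd_pow_iff_le_right hp.out.one_lt |>.1 h8
      omega

theorem dihedral_of_max {n : ℕ} {X : Type u} [Group X] [Finite X] (hn : 3 ≤ n) (hX : Nat.card X = 2 ^ n)
    (hc : Group.nilpotencyClass X = n - 1) : Nonempty (X ⧸ center X ≃* DihedralGroup (2 ^ (n - 2))) := by
  have h2 : Fact (Nat.Prime 2) := ⟨Nat.prime_two⟩
  have hpg : IsPGroup 2 X := IsPGroup.iff_card.2 ⟨_, hX⟩
  have hnil := hpg.isNilpotent
  have hna := not_comm_of_class (X := X) (by omega)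
  obtain ⟨hZ, hQ, hQc⟩ := center_of_max (p := 2) hX hn hc
  obtain ⟨C, hCc, hCi⟩ := exists_cyclic n X hn hX hc
  have hCn : C.Normal := normal_of_index_eq_two hCi
  obtain ⟨⟨c, hcC⟩, hcg⟩ := hCc.exists_generator
  have hCz : C = zpowers c := by
    apply le_antisymm
    · intro y hy
      obtain ⟨k, hk⟩ := mem_zpowers_iff.1 (hcg ⟨y, hy⟩)
      exact ⟨k, congrArg Subtype.val hk⟩
    · rwa [zpowers_le]
  have hCcomm : ∀ a ∈ C, ∀ b ∈ C, a * b = b * a := by
    rw [hCz]
    rintro _ ⟨k, rfl⟩ _ ⟨l, rfl⟩
    exact (Commute.zpow_zpow_self c k l).eq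
  have hZC : center X ≤ C := center_le (p := 2) hCcomm hCi hna
  obtain ⟨x, hx⟩ : ∃ x, x ∉ C := by
    by_contra hcon
    push Not at hcon
    exact hna fun a b => hCcomm a (hcon a) b (hcon b)
  set q := QuotientGroup.mk' (center X) with hq
  have hker : ∀ g ∈ center X, q g = 1 := fun g hg => by
    rwa [← MonoidHom.mem_ker, QuotientGroup.ker_mk']
  have hord : orderOf (q c) = 2 ^ (n - 2) := by
    rw [← Nat.card_zpowers, ← MonoidHom.map_zpowers, ← hCz]
    have h4 := index_ker (q.comp C.subtype)
    rw [← MonoidHom.comap_ker, QuotientGroup.ker_mk', MonoidHom.range_comp, range_subtype] at h4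
    have h5 := card_mul_relIndex hZC
    have h6 := card_mul_index C
    rw [hCi, hX, ← h5, hZ] at h6
    rw [← h4]
    change (center X).relIndex C = _
    have h7 : 2 ^ n = 4 * 2 ^ (n - 2) := by
      rw [show (4 : ℕ) = 2 ^ 2 by norm_num, ← pow_add]; congr 1; omega
    omega
  apply Cfsg.Agent.H5.Dih.nonempty_dihedral (pow_ne_zero _ (by norm_num)) (q c) (q x) hord
  · rw [← map_mul]; exact hker _ (sq_central hCcomm hCi hx)
  · have h8 := hker _ (norm_central hCcomm hCi hx hcC)
    rw [map_mul, map_mul, map_mul, map_inv] at h8
    exact eq_inv_of_mul_eq_one_left h8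
  · rintro ⟨k, hk⟩
    change (q c) ^ k = q x at hk
    have h9 : q (x * (c ^ k)⁻¹) = 1 := by
      rw [map_mul, map_inv, map_zpow, hk, mul_inv_cancel]
    rw [← MonoidHom.mem_ker, QuotientGroup.ker_mk'] at h9
    have h10 := C.mul_mem (hZC h9) (zpow_mem hcC k)
    rw [inv_mul_cancel_right] at h10
    exact hx h10
  · rw [hQ]
    have h7 : 2 ^ (n - 1) = 2 * 2 ^ (n - 2) := by
      rw [← pow_succ']; congr 1; omega
    rw [h7]

end Cfsg.Agent.H2.MaxClass
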