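import Cfsg.Statements.S0662
import Mathlib
import Cfsg.Agent.H2_MaxClass2

set_option autoImplicit false
open Cfsg

namespace Cfsg.Agent.S0662

open Subgroup Cfsg Cfsg.Agent.H2.Card

theorem count_aux {Q : Type*} [Group Q] [Finite Q] {p : ℕ} [hp : Fact p.Prime] (hc : Nat.card Q = p ^ 2)
    (he : ∀ x : Q, x ^ p = 1) : Nat.card {H : Subgroup Q // Nat.card H = p} = p + 1 := by
  classical
  have := Fintype.ofFinite Q
  have h1 : Nat.card {x : Q // x ≠ 1} = p ^ 2 - 1 := by
    rw [Nat.card_eq_fintype_card, Fintype.card_subtype_compl, ← hc, Nat.card_eq_fintype_card]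
    rw [Fintype.card_subtype_eq (1 : Q)]
  have hord : ∀ x : Q, x ≠ 1 → Nat.card (zpowers x) = p := by
    intro x hx
    rw [Nat.card_zpowers]
    exact orderOf_eq_prime (he x) hx
  let e : {x : Q // x ≠ 1} ≃ Σ H : {H : Subgroup Q // Nat.card H = p}, {x : H.1 // x ≠ 1} :=
    { toFun := fun x => ⟨⟨zpowers x.1, hord x.1 x.2⟩, ⟨⟨x.1, mem_zpowers x.1⟩, fun h => x.2 (congrArg Subtype.val h)⟩⟩
      invFun := fun y => ⟨y.2.1.1, fun h => y.2.2 (Subtype.ext h)⟩
      left_inv := fun x => rfl
      right_inv := by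
        rintro ⟨⟨H, hH⟩, ⟨⟨x, hxH⟩, hx⟩⟩
        have hx1 : x ≠ 1 := fun h => hx (Subtype.ext h)
        have : zpowers x = H := by
          apply eq_of_le_of_card_eq
          · rwa [zpowers_le]
          · rw [hord x hx1, hH]
        subst this
        rfl }
  have h2 := Nat.card_congr e
  rw [Nat.card_sigma, h1] at h2
  have h3 : ∀ H : {H : Subgroup Q // Nat.card H = p}, Nat.card {x : H.1 // x ≠ 1} = p - 1 := by
    intro H
    have := Fintype.ofFinite H.1
    have h4 := H.2
    rw [Nat.card_eq_fintype_card] at h4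
    rw [Nat.card_eq_fintype_card, Fintype.card_subtype_compl, h4, Fintype.card_subtype_eq (1 : H.1)]
  rw [Finset.sum_congr rfl (fun H _ => h3 H), Finset.sum_const, smul_eq_mul, Finset.card_univ,
    ← Nat.card_eq_fintype_card] at h2
  have h4 := hp.out.two_le
  obtain ⟨r, rfl⟩ : ∃ r, p = r + 1 := ⟨p - 1, by omega⟩
  have h5 : (r + 1) ^ 2 - 1 = (r + 1 + 1) * r := by
    rw [show (r + 1) ^ 2 = (r + 1 + 1) * r + 1 by ring, Nat.add_sub_cancel]
  rw [h5, Nat.add_sub_cancel] at h2
  exact (Nat.eq_of_mul_eq_mul_right (by omega) h2).symm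

theorem comm_of_cyclic_ab {G : Type*} [Group G] [Finite G] {p : ℕ} [hp : Fact p.Prime] (hpg : IsPGroup p G)
    (h1 : IsCyclic (G ⧸ commutator G)) : ∀ x y : G, x * y = y * x := by
  obtain ⟨g, hg⟩ := h1.exists_generator
  obtain ⟨g, rfl⟩ := QuotientGroup.mk'_surjective _ g
  have h2 : commutator G ⊔ zpowers g = ⊤ := by
    rw [eq_top_iff]
    intro x _
    obtain ⟨k, hk⟩ := mem_zpowers_iff.1 (hg (QuotientGroup.mk' _ x))
    have h3 : QuotientGroup.mk' (commutator G) (x * (g ^ k)⁻¹) = 1 := by
      rw [map_mul, map_inv, map_zpow, hk, mul_inv_cancel]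
    rw [← MonoidHom.mem_ker, QuotientGroup.ker_mk'] at h3
    have : x = (x * (g ^ k)⁻¹) * g ^ k := by group
    rw [this]
    exact mul_mem (mem_sup_left h3) (mem_sup_right (zpow_mem_zpowers g k))
  have h4 : zpowers g = ⊤ := by
    by_contra h5
    obtain h6 | ⟨M, hM, hMle⟩ := eq_top_or_exists_le_coatom (zpowers g)
    · exact h5 h6
    · have h7 := Cfsg.Agent.H2.PGroup.commutator_le_coatom hpg hM
      apply hM.1
      rw [eq_top_iff, ← h2]
      exact sup_le h7 hMle
  intro x y
  obtain ⟨k, rfl⟩ := mem_zpowers_iff.1 (by rw [h4]; exact mem_top x : x ∈ zpowers g)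
  obtain ⟨l, rfl⟩ := mem_zpowers_iff.1 (by rw [h4]; exact mem_top y : y ∈ zpowers g)
  exact (Commute.zpow_zpow_self g k l).eq

/-- In a p-group of maximal class of order at least p³ the normal subgroups of index at least p² are exactly the terms of the lower central series, and there are exactly p + 1 normal subgroups of index p. -/
theorem result {G : Type*} [Group G] [Finite G] {p : ℕ} [Fact p.Prime] (n : ℕ) (hG : Nat.card G = p ^ n) (hcl : Group.nilpotencyClass G = n - 1) (hn : 3 ≤ n) : (∀ (N : Subgroup G) [N.Normal] (r : ℕ), 2 ≤ r → N.index = p ^ r → N = (⊤ : Subgroup G).lowerCentralSeries (r - 1)) ∧ Nat.card {N : Subgroup G // N.Normal ∧ N.index = p} = p + 1 := by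
  have hpp : p.Prime := Fact.out
  have hpg : IsPGroup p G := IsPGroup.iff_card.2 ⟨_, hG⟩
  have hnil := hpg.isNilpotent
  set γ := (⊤ : Subgroup G).lowerCentralSeries with hγ
  have hanti : ∀ k, γ (k + 1) ≤ γ k := fun k => by
    rw [hγ]; exact Subgroup.lowerCentralSeries_antitone _ (Nat.le_succ k)
  have hbot : γ (n - 1) = ⊥ := by
    rw [hγ, ← hcl]; exact Subgroup.lowerCentralSeries_nilpotencyClass
  have hlt : ∀ k, k < n - 1 → γ (k + 1) < γ k := by
    intro k hk
    refine lt_of_le_of_ne (hanti k) ?_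
    intro h
    have h0 : γ k ≠ ⊥ := by
      intro h0
      have := Subgroup.lowerCentralSeries_eq_bot_iff_nilpotencyClass_le.1 h0
      omega
    have h1 := Cfsg.Agent.H2.PGroup.commutator_top_lt hpg h0
    apply h1.ne
    exact h
  obtain ⟨a, ha⟩ : ∃ a : ℕ → ℕ, ∀ k, Nat.card (γ k) = p ^ a k := by
    choose a ha using fun k => IsPGroup.iff_card.1 (hpg.to_subgroup (γ k))
    exact ⟨a, ha⟩
  have halt : ∀ k, k < n - 1 → a (k + 1) < a k := by
    intro k hk
    have := card_lt_of_lt (hlt k hk)
    rw [ha, ha] at this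
    exact (Nat.pow_lt_pow_iff_right hpp.one_lt).1 this
  have ha0 : a 0 = n := by
    apply Nat.pow_right_injective hpp.two_le
    change p ^ a 0 = p ^ n
    rw [← ha, ← hG, hγ]
    exact card_top
  have hγ1 : γ 1 = commutator G := by rw [hγ]; exact Subgroup.lowerCentralSeries_one
  have hna : ¬ ∀ x y : G, x * y = y * x := Cfsg.Agent.H2.MaxClass.not_comm_of_class (by omega)
  have hidx : (commutator G).index ≠ p := by
    intro h
    exact hna (comm_of_cyclic_ab hpg (isCyclic_of_prime_card (p := p) (by rw [← index_eq_card]; exact h)))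
  have ha1 : a 1 ≤ n - 2 := by
    by_contra hcon
    have h1 : a 1 < a 0 := halt 0 (by omega)
    rw [ha0] at h1
    have h2 : a 1 = n - 1 := by omega
    apply hidx
    have h3 := card_mul_index (commutator G)
    rw [← hγ1, ha, h2, hG] at h3
    have h4 : p ^ n = p ^ (n - 1) * p := by rw [← pow_succ]; congr 1; omega
    rw [h4] at h3
    rw [← hγ1]
    exact Nat.eq_of_mul_eq_mul_left (pow_pos hpp.pos _) h3
  have hub : ∀ k, 1 ≤ k → k ≤ n - 1 → a k ≤ n - 1 - k := by
    intro k hk1 hk
    induction k, hk1 using Nat.le_induction with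
    | base => omega
    | succ k hk1 ih =>
      have h1 := ih (by omega)
      have h2 := halt k (by omega)
      omega
  have hlb : ∀ j, j ≤ n - 1 → j ≤ a (n - 1 - j) := by
    intro j hj
    induction j with
    | zero => omega
    | succ j ih =>
      have h1 := ih (by omega)
      have h2 := halt (n - 1 - (j + 1)) (by omega)
      have h3 : n - 1 - (j + 1) + 1 = n - 1 - j := by omega
      rw [h3] at h2
      omega
  have hak : ∀ k, 1 ≤ k → k ≤ n - 1 → a k = n - 1 - k := by
    intro k hk1 hk
    have h1 := hub k hk1 hk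
    have h2 := hlb (n - 1 - k) (by omega)
    have h3 : n - 1 - (n - 1 - k) = k := by omega
    rw [h3] at h2
    omega
  constructor
  · intro N hN r hr hNi
    have hrn : r ≤ n := by
      have h1 := index_dvd_card N
      rw [hNi, hG] at h1
      exact (Nat.pow_dvd_pow_iff_le_right hpp.one_lt).1 h1
    have h1 : Group.nilpotencyClass (G ⧸ N) ≤ r - 1 :=
      Cfsg.Agent.H2.MaxClass.class_le (p := p) r (G ⧸ N) (by rw [← index_eq_card]; exact hNi) hr
    have hnq : Group.IsNilpotent (G ⧸ N) := inferInstance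
    have h2 : (⊤ : Subgroup (G ⧸ N)).lowerCentralSeries (r - 1) = ⊥ :=
      Subgroup.lowerCentralSeries_eq_bot_iff_nilpotencyClass_le.2 h1
    have h3 : γ (r - 1) ≤ N := by
      have h4 : (γ (r - 1)).map (QuotientGroup.mk' N) = (⊤ : Subgroup (G ⧸ N)).lowerCentralSeries (r - 1) := by
        rw [hγ, map_lowerCentralSeries, ← MonoidHom.range_eq_map,
          MonoidHom.range_eq_top.2 (QuotientGroup.mk'_surjective N)]
      rw [h2, Subgroup.map_eq_bot_iff, QuotientGroup.ker_mk'] at h4
      exact h4
    symm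
    apply eq_of_le_of_card_eq h3
    rw [ha]
    have h5 := card_mul_index N
    rw [hNi, hG] at h5
    by_cases hr1 : r - 1 ≤ n - 1
    · rw [hak (r - 1) (by omega) hr1]
      have h6 : p ^ n = p ^ (n - 1 - (r - 1)) * p ^ r := by rw [← pow_add]; congr 1; omega
      rw [h6] at h5
      exact (Nat.eq_of_mul_eq_mul_right (pow_pos hpp.pos _) h5).symm
    · omega
  · have hidx2 : (commutator G).index = p ^ 2 := by
      have h3 := card_mul_index (commutator G)
      rw [← hγ1, ha, hak 1 le_rfl (by omega), hG] at h3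
      have h4 : p ^ n = p ^ (n - 1 - 1) * p ^ 2 := by rw [← pow_add]; congr 1; omega
      rw [h4] at h3
      rw [← hγ1]
      exact Nat.eq_of_mul_eq_mul_left (pow_pos hpp.pos _) h3
    have hexp : ∀ x : G ⧸ commutator G, x ^ p = 1 := by
      intro x
      by_contra hx
      have h1 : orderOf x ∣ p ^ 2 := by
        rw [← hidx2, index_eq_card]; exact orderOf_dvd_natCard x
      obtain ⟨k, hk, hk'⟩ := (Nat.dvd_prime_pow hpp).1 h1
      have hk2 : k = 2 := by
        by_contra hk2
        apply hx
        rw [← orderOf_dvd_iff_pow_eq_one, hk']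
        calc p ^ k ∣ p ^ 1 := pow_dvd_pow _ (by omega)
          _ = p := pow_one p
      subst hk2
      have h2 : IsCyclic (G ⧸ commutator G) := isCyclic_of_orderOf_eq_card x (by
        rw [hk', ← hidx2, index_eq_card])
      exact hna (comm_of_cyclic_ab hpg h2)
    rw [← count_aux (Q := G ⧸ commutator G) (p := p) (by rw [← index_eq_card]; exact hidx2) hexp]
    have hle : ∀ N : Subgroup G, N.Normal → N.index = p → commutator G ≤ N := fun N _ hi =>
      Cfsg.Agent.H2.PGroup.commutator_le_coatom hpg (Cfsg.Agent.H2.PGroup.isCoatom_of_index hi)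
    have hker : (QuotientGroup.mk' (commutator G)).ker = commutator G := QuotientGroup.ker_mk' _
    have hcomap : ∀ H : Subgroup (G ⧸ commutator G), Nat.card H = p ↔ (H.comap (QuotientGroup.mk' (commutator G))).index = p := by
      intro H
      rw [index_comap_of_surjective _ (QuotientGroup.mk'_surjective _)]
      have h1 := card_mul_index H
      rw [← index_eq_card, hidx2, pow_two] at h1
      constructor
      · intro h; rw [h] at h1; exact Nat.eq_of_mul_eq_mul_left hpp.pos h1
      · intro h; rw [h] at h1; exact Nat.eq_of_mul_eq_mul_right hpp.pos h1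
    have hback : ∀ N : Subgroup G, N.Normal → N.index = p →
        (N.map (QuotientGroup.mk' (commutator G))).comap (QuotientGroup.mk' (commutator G)) = N := by
      intro N hN hi
      rw [comap_map_eq, hker, sup_eq_left]
      exact hle N hN hi
    apply Nat.card_congr
    refine
      { toFun := fun N => ⟨N.1.map (QuotientGroup.mk' _), ?_⟩
        invFun := fun H => ⟨H.1.comap (QuotientGroup.mk' _), ?_, ?_⟩
        left_inv := ?_
        right_inv := ?_ }
    · rw [hcomap, hback N.1 N.2.1 N.2.2]; exact N.2.2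
    · apply Cfsg.Agent.H1.Basic.normal_of_commutator_le
      intro x hx
      rw [mem_comap]
      have : QuotientGroup.mk' (commutator G) x = 1 := by
        rwa [← MonoidHom.mem_ker, hker]
      rw [this]; exact one_mem _
    · exact (hcomap H.1).1 H.2
    · intro N
      exact Subtype.ext (hback N.1 N.2.1 N.2.2)
    · intro H
      exact Subtype.ext (map_comap_eq_self_of_surjective (QuotientGroup.mk'_surjective _) H.1)

end Cfsg.Agent.S0662
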