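import Mathlib
import Cfsg.Agent.H2_Reg2
import Cfsg.Agent.S0662

/-!
Groups of maximal class: chains, two-step centralisers, p-th powers.
-/

set_option autoImplicit false
set_option linter.unusedSectionVars false

namespace Cfsg.Agent.H22.MX

open Subgroup Cfsg
open scoped commutatorElement

universe u

/-- the lower central series of a group of maximal class, as an abstract chain -/
structure MC (p m : ℕ) {G : Type u} [Group G] (L : ℕ → Subgroup G) : Prop where
  zero : L 0 = ⊤
  norm : ∀ j, (L j).Normal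
  anti : ∀ j, L (j + 1) ≤ L j
  comm : ∀ i j, ∀ x ∈ L i, ∀ y ∈ L j, ⁅x, y⁆ ∈ L (i + j + 1)
  succ : ∀ j, L (j + 1) = ⁅L j, ⊤⁆
  card : ∀ j, 1 ≤ j → j ≤ m - 1 → Nat.card (L j) = p ^ (m - 1 - j)
  cardG : Nat.card G = p ^ m

variable {p : ℕ} [hp : Fact p.Prime]

theorem eq_of_prime {G : Type u} [Group G] [Finite G] {A C B : Subgroup G} (hAC : A ≤ C) (hCB : C ≤ B)
    (hcard : Nat.card B = p * Nat.card A) {x : G} (hx : x ∈ C) (hxA : x ∉ A) : C = B := by
  obtain ⟨a, ha⟩ := Subgroup.card_dvd_of_le hAC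
  obtain ⟨b, hb⟩ := Subgroup.card_dvd_of_le hCB
  have hpos : 0 < Nat.card A := Nat.card_pos
  have h1 : p = a * b := by
    apply Nat.eq_of_mul_eq_mul_right hpos
    rw [← hcard, hb, ha]; ring
  have h2 : a ≠ 1 := by
    rintro rfl
    have : A = C := Subgroup.eq_of_le_of_card_ge hAC (by rw [ha]; omega)
    exact hxA (this ▸ hx)
  have h3 : b = 1 := by
    rcases (Nat.dvd_prime hp.out).mp (Dvd.intro b h1.symm) with h | h
    · exact absurd h h2
    · rw [h] at h1
      have := hp.out.pos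
      exact Nat.eq_of_mul_eq_mul_left this (by rw [← h1, mul_one])
  exact Subgroup.eq_of_le_of_card_ge hCB (by rw [hb, h3, mul_one])

/-- a p-group is not covered by p proper subgroups -/
theorem exists_not_mem {G : Type u} [Group G] [Finite G] {m : ℕ} (hG : Nat.card G = p ^ m) (F : ℕ → Subgroup G) (s : Finset ℕ)
    (hs : s.card ≤ p) (hF : ∀ i ∈ s, F i ≠ ⊤) : ∃ x : G, ∀ i ∈ s, x ∉ F i := by
  classical
  haveI : Fintype G := Fintype.ofFinite G
  by_contra hcon
  push Not at hcon
  have h1 : ∀ i ∈ s, p * Nat.card (F i) ≤ Nat.card G := by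
    intro i hi
    have h2 := Subgroup.card_mul_index (F i)
    have h3 : (F i).index ∣ p ^ m := by rw [← hG]; exact Subgroup.index_dvd_card _
    obtain ⟨k, hk, hk'⟩ := (Nat.dvd_prime_pow hp.out).mp h3
    have h4 : k ≠ 0 := by
      rintro rfl
      rw [pow_zero] at hk'
      exact hF i hi (Subgroup.index_eq_one.mp hk')
    have h5 : p ≤ (F i).index := by
      rw [hk']
      exact Nat.le_self_pow h4 p
    calc p * Nat.card (F i) ≤ (F i).index * Nat.card (F i) := Nat.mul_le_mul_right _ h5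
      _ = Nat.card G := by rw [mul_comm, h2]
  have h2 : (Finset.univ : Finset G).erase 1 ⊆ s.biUnion (fun i => (Finset.univ.filter (fun x => x ∈ F i)).erase 1) := by
    intro x hx
    rw [Finset.mem_erase] at hx
    obtain ⟨i, hi, hxi⟩ := hcon x
    rw [Finset.mem_biUnion]
    exact ⟨i, hi, Finset.mem_erase.mpr ⟨hx.1, Finset.mem_filter.mpr ⟨Finset.mem_univ _, hxi⟩⟩⟩
  have h3 := (Finset.card_le_card h2).trans Finset.card_biUnion_le
  rw [Finset.card_erase_of_mem (Finset.mem_univ _), Finset.card_univ, ← Nat.card_eq_fintype_card] at h3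
  have h4 : ∀ i ∈ s, ((Finset.univ.filter (fun x => x ∈ F i)).erase 1).card = Nat.card (F i) - 1 := by
    intro i _
    rw [Finset.card_erase_of_mem (Finset.mem_filter.mpr ⟨Finset.mem_univ _, one_mem _⟩)]
    congr 1
    rw [Nat.card_eq_fintype_card]
    symm
    apply Fintype.card_of_subtype
    intro x
    simp
  rw [Finset.sum_congr rfl h4] at h3
  have h5 : p * ∑ i ∈ s, (Nat.card (F i) - 1) ≤ p * (Nat.card G - p) := by
    rw [Finset.mul_sum]
    calc ∑ i ∈ s, p * (Nat.card (F i) - 1) ≤ ∑ _i ∈ s, (Nat.card G - p) := by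
          apply Finset.sum_le_sum
          intro i hi
          rw [Nat.mul_sub_one]
          have := h1 i hi
          omega
      _ = s.card * (Nat.card G - p) := by rw [Finset.sum_const, smul_eq_mul]
      _ ≤ p * (Nat.card G - p) := Nat.mul_le_mul_right _ hs
  have h6 := Nat.le_of_mul_le_mul_left h5 hp.out.pos
  have h7 := hp.out.two_le
  have h8 : p ≤ Nat.card G := by
    by_cases hm : m = 0
    · exfalso
      rw [hm, pow_zero] at hG
      -- trivial group: no proper subgroups
      rcases s.eq_empty_or_nonempty with hse | ⟨i, hi⟩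
      · obtain ⟨i, hi, _⟩ := hcon 1
        rw [hse] at hi
        exact absurd hi (Finset.notMem_empty i)
      · apply hF i hi
        apply Subgroup.eq_top_of_card_eq
        have : Nat.card (F i) ∣ Nat.card G := Subgroup.card_subgroup_dvd_card _
        rw [hG, Nat.dvd_one] at this
        rw [this, hG]
    · rw [hG]
      exact Nat.le_self_pow hm p
  omega

variable {G : Type u} [Group G] {m : ℕ} {L : ℕ → Subgroup G}

/-- two-step centraliser -/
def M (L : ℕ → Subgroup G) (hn : ∀ j, (L j).Normal) (j : ℕ) : Subgroup G where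
  carrier := {g | ∀ y ∈ L j, ⁅y, g⁆ ∈ L (j + 2)}
  one_mem' := by
    intro y _
    rw [commutatorElement_one_right]
    exact one_mem _
  mul_mem' := by
    intro a b ha hb y hy
    have h1 : ⁅y, a * b⁆ = ⁅y, a⁆ * (a * ⁅y, b⁆ * a⁻¹) := by
      simp only [commutatorElement_def]; group
    rw [h1]
    exact mul_mem (ha y hy) ((hn _).conj_mem _ (hb y hy) a)
  inv_mem' := by
    intro a ha y hy
    have h1 : ⁅y, a⁻¹⁆ = a⁻¹ * ⁅y, a⁆⁻¹ * a⁻¹⁻¹ := by
      simp only [commutatorElement_def]; group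
    rw [h1]
    exact (hn _).conj_mem _ (inv_mem (ha y hy)) a⁻¹

theorem MC.le (h : MC p m L) {i j : ℕ} (hij : i ≤ j) : L j ≤ L i := by
  obtain ⟨d, rfl⟩ := Nat.exists_eq_add_of_le hij
  clear hij
  induction d with
  | zero => exact le_rfl
  | succ d ih => exact (h.anti _).trans ih

theorem MC.bot [Finite G] (h : MC p m L) (hm : 2 ≤ m) : L (m - 1) = ⊥ := by
  rw [← Subgroup.card_eq_one, h.card (m - 1) (by omega) le_rfl, Nat.sub_self, pow_zero]

theorem MC.M_ne_top [Finite G] (h : MC p m L) {j : ℕ} (hj : 1 ≤ j) (hjm : j + 2 ≤ m - 1) : M L h.norm j ≠ ⊤ := by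
  intro htop
  have h1 : L (j + 1) ≤ L (j + 2) := by
    rw [h.succ j, commutator_le]
    intro y hy g _
    have : g ∈ M L h.norm j := by rw [htop]; trivial
    exact this y hy
  have h2 := Subgroup.card_le_of_le h1
  rw [h.card (j + 1) (by omega) (by omega), h.card (j + 2) (by omega) (by omega)] at h2
  have h3 := (Nat.pow_le_pow_iff_right hp.out.one_lt).mp h2
  omega

theorem MC.uni [Finite G] (h : MC p m L) {j : ℕ} (hj : 1 ≤ j) (hjm : j + 2 ≤ m - 1) {s : G} (hs : s ∉ M L h.norm j) {y : G}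
    (hy : y ∈ L j) (hys : ⁅y, s⁆ ∈ L (j + 2)) : y ∈ L (j + 1) := by
  by_contra hcon
  let C : Subgroup G :=
    { carrier := {y | y ∈ L j ∧ ⁅y, s⁆ ∈ L (j + 2)}
      one_mem' := ⟨one_mem _, by rw [commutatorElement_one_left]; exact one_mem _⟩
      mul_mem' := by
        rintro a b ⟨ha, ha'⟩ ⟨hb, hb'⟩
        refine ⟨mul_mem ha hb, ?_⟩
        have h1 : ⁅a * b, s⁆ = (a * ⁅b, s⁆ * a⁻¹) * ⁅a, s⁆ := by
          simp only [commutatorElement_def]; group
        rw [h1]
        exact mul_mem ((h.norm _).conj_mem _ hb' a) ha'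
      inv_mem' := by
        rintro a ⟨ha, ha'⟩
        refine ⟨inv_mem ha, ?_⟩
        have h1 : ⁅a⁻¹, s⁆ = a⁻¹ * ⁅a, s⁆⁻¹ * a⁻¹⁻¹ := by
          simp only [commutatorElement_def]; group
        rw [h1]
        exact (h.norm _).conj_mem _ (inv_mem ha') a⁻¹ }
  have h1 : L (j + 1) ≤ C := by
    intro z hz
    refine ⟨h.anti j hz, ?_⟩
    have := h.comm (j + 1) 0 z hz s (by rw [h.zero]; trivial)
    exact this
  have h2 : C ≤ L j := fun z hz => hz.1
  have h3 : Nat.card (L j) = p * Nat.card (L (j + 1)) := by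
    rw [h.card j hj (by omega), h.card (j + 1) (by omega) (by omega), ← pow_succ']
    congr 1
    omega
  have h4 := eq_of_prime h1 h2 h3 (show y ∈ C from ⟨hy, hys⟩) hcon
  apply hs
  intro z hz
  have : z ∈ C := by rw [h4]; exact hz
  exact this.2

/-- elements of `L a` commuting with `s` lie in the last term -/
theorem MC.cent [Finite G] (h : MC p m L) {a : ℕ} (ha : 1 ≤ a) {s : G} (hs : ∀ j, a ≤ j → j + 2 ≤ m - 1 → s ∉ M L h.norm j) {y : G}
    (hy : y ∈ L a) (hys : ⁅y, s⁆ = 1) : ∀ j, a ≤ j → j ≤ m - 2 → y ∈ L j := by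
  intro j haj
  obtain ⟨d, rfl⟩ := Nat.exists_eq_add_of_le haj
  clear haj
  induction d with
  | zero => intro _; exact hy
  | succ d ih =>
    intro hjm
    exact h.uni (j := a + d) (by omega) (by omega) (hs (a + d) (by omega) (by omega)) (ih (by omega)) (by rw [hys]; exact one_mem _)

end Cfsg.Agent.H22.MX
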