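import Mathlib
import Cfsg.Agent.H22_MX1

/-!
Groups of maximal class of order at most `p ^ p`: p-th powers are central.
-/

set_option autoImplicit false
set_option linter.unusedSectionVars false

namespace Cfsg.Agent.H22.MX

open Subgroup Cfsg
open scoped commutatorElement
open Cfsg.Agent.H2.Reg

universe u

variable {p : ℕ} [hp : Fact p.Prime] {G : Type u} [Group G] {m : ℕ} {L : ℕ → Subgroup G}

theorem MC.lcs (h : MC p m L) (j : ℕ) : (⊤ : Subgroup G).lowerCentralSeries j = L j := by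
  induction j with
  | zero => rw [h.zero]; rfl
  | succ j ih => rw [Subgroup.lowerCentralSeries_succ, ih, h.succ]

theorem MC.commutator_eq (h : MC p m L) : commutator G = L 1 := by
  rw [← h.lcs 1, Subgroup.top_lowerCentralSeries_one]

theorem MC.pgroup (h : MC p m L) : IsPGroup p G := IsPGroup.of_card h.cardG

theorem MC.not_comm [Finite G] (h : MC p m L) (hm : 3 ≤ m) : ¬ ∀ x y : G, x * y = y * x := by
  intro hc
  have h1 : L 1 = ⊥ := by
    rw [h.succ 0, h.zero, eq_bot_iff, commutator_le]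
    intro x _ y _
    rw [mem_bot, commutatorElement_eq_one_iff_mul_comm]
    exact hc x y
  have h2 := h.card 1 le_rfl (by omega)
  rw [h1, card_bot] at h2
  have := Nat.one_lt_pow (show m - 1 - 1 ≠ 0 by omega) hp.out.one_lt
  omega

/-- `zpowers s ⊔ L 1` is proper -/
theorem MC.sup_ne_top [Finite G] (h : MC p m L) (hm : 3 ≤ m) (s : G) : zpowers s ⊔ L 1 ≠ ⊤ := by
  intro htop
  apply h.not_comm hm
  apply Cfsg.Agent.S0662.comm_of_cyclic_ab h.pgroup
  refine ⟨⟨QuotientGroup.mk' _ s, ?_⟩⟩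
  intro y
  obtain ⟨x, rfl⟩ := QuotientGroup.mk'_surjective _ y
  have hx : x ∈ zpowers s ⊔ L 1 := by rw [htop]; trivial
  haveI := h.norm 1
  rw [mem_sup_of_normal_right] at hx
  obtain ⟨a, ⟨i, rfl⟩, b, hb, rfl⟩ := hx
  refine ⟨i, ?_⟩
  have hb' : QuotientGroup.mk' (commutator G) b = 1 := by
    rw [QuotientGroup.mk'_apply, QuotientGroup.eq_one_iff, h.commutator_eq]
    exact hb
  rw [map_mul, hb', mul_one]
  simp

theorem MC.pow_mem_one [Finite G] (h : MC p m L) (hm : 3 ≤ m) (x : G) : x ^ p ∈ L 1 := by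
  by_contra hx
  haveI := h.norm 1
  have hcQ : Nat.card (G ⧸ L 1) = p ^ 2 := by
    have h1 := Subgroup.card_eq_card_quotient_mul_card_subgroup (L 1)
    rw [h.cardG, h.card 1 le_rfl (by omega)] at h1
    apply Nat.eq_of_mul_eq_mul_right (pow_pos hp.out.pos (m - 1 - 1))
    rw [← h1, ← pow_add]
    congr 1
    omega
  have h2 : orderOf (QuotientGroup.mk' (L 1) x) ∣ p ^ 2 := by rw [← hcQ]; exact orderOf_dvd_natCard _
  obtain ⟨i, hi, hi'⟩ := (Nat.dvd_prime_pow hp.out).mp h2
  have h3 : ¬ i ≤ 1 := by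
    intro h3
    apply hx
    rw [← QuotientGroup.eq_one_iff]
    have h4 : (QuotientGroup.mk' (L 1) x) ^ p = 1 := by
      rw [← orderOf_dvd_iff_pow_eq_one, hi']
      calc p ^ i ∣ p ^ 1 := pow_dvd_pow p h3
        _ = p := pow_one p
    exact h4
  have h4 : i = 2 := by omega
  apply h.sup_ne_top hm x
  rw [eq_top_iff]
  rintro y -
  have h5 : zpowers (QuotientGroup.mk' (L 1) x) = ⊤ := by
    apply Subgroup.eq_top_of_card_eq
    rw [Nat.card_zpowers, hi', h4, hcQ]
  have h6 : QuotientGroup.mk' (L 1) y ∈ zpowers (QuotientGroup.mk' (L 1) x) := by rw [h5]; trivial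
  obtain ⟨k, hk⟩ := h6
  have h7 : (x ^ k)⁻¹ * y ∈ L 1 := by
    rw [← QuotientGroup.eq_one_iff]
    have : QuotientGroup.mk' (L 1) ((x ^ k)⁻¹ * y) = 1 := by
      rw [map_mul, map_inv, map_zpow]
      simp only at hk
      rw [hk, inv_mul_cancel]
    exact this
  have h8 : y = x ^ k * ((x ^ k)⁻¹ * y) := by group
  rw [h8]
  exact mul_mem (mem_sup_left (zpow_mem_zpowers x k)) (mem_sup_right h7)

/-- in small groups of maximal class all p-th powers lie in the last term -/
theorem MC.pow_central [Finite G] (h : MC p m L) (hm : 3 ≤ m) (hmp : m ≤ p) (x : G) : x ^ p ∈ L (m - 2) := by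
  by_cases hm3 : m = 3
  · subst hm3
    exact h.pow_mem_one hm x
  have hR : R p G := by
    apply R_of_class
    rw [h.lcs, eq_bot_iff, ← h.bot (by omega)]
    exact h.le (by omega)
  -- uniserial elements
  have hU : ∀ s : G, (∀ j, 1 ≤ j → j + 2 ≤ m - 1 → s ∉ M L h.norm j) → s ^ p ∈ L (m - 2) := by
    intro s hs
    have h1 : ⁅s ^ p, s⁆ = 1 := by
      rw [commutatorElement_eq_one_iff_mul_comm]
      exact ((Commute.refl s).pow_left p)
    exact h.cent le_rfl hs (h.pow_mem_one hm s) h1 (m - 2) (by omega) le_rfl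
  have hUx : ∀ s : G, (∀ j, 1 ≤ j → j + 2 ≤ m - 1 → s ∉ M L h.norm j) → ∀ x ∈ L 1,
      (∀ j, 1 ≤ j → j + 2 ≤ m - 1 → s * x ∉ M L h.norm j) := by
    intro s hs x hx j hj hjm hmem
    apply hs j hj hjm
    have hxM : x ∈ M L h.norm j := by
      intro y hy
      exact h.comm j 1 y hy x hx
    have := mul_mem hmem (inv_mem hxM)
    rwa [mul_inv_cancel_right] at this
  obtain ⟨s, hs⟩ := exists_not_mem h.cardG (fun j => M L h.norm j) (Finset.Icc 1 (m - 3)) (by rw [Nat.card_Icc]; omega) (by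
    intro j hj
    rw [Finset.mem_Icc] at hj
    exact h.M_ne_top hj.1 (by omega))
  have hs' : ∀ j, 1 ≤ j → j + 2 ≤ m - 1 → s ∉ M L h.norm j := fun j h1 h2 => hs j (Finset.mem_Icc.mpr ⟨h1, by omega⟩)
  have hPC : ∀ j, (∀ z ∈ L j, z ^ p ∈ L (m - 2)) → PC p (L j) ≤ L (m - 2) := by
    intro j hj
    rw [PC, closure_le]
    rintro _ ⟨z, hz, rfl⟩
    exact hj z hz
  have hmain : ∀ d j, 1 ≤ j → m - 1 ≤ j + d → ∀ z ∈ L j, z ^ p ∈ L (m - 2) := by
    intro d
    induction d with
    | zero =>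
      intro j hj hjm z hz
      have h1 : z ∈ L (m - 1) := h.le (by omega) hz
      rw [h.bot (by omega), mem_bot] at h1
      rw [h1, one_pow]
      exact one_mem _
    | succ d ih =>
      intro j hj hjm z hz
      have h1 := ih (j + 1) (by omega) (by omega)
      obtain ⟨c, hc, hcz⟩ := hR s z
      have h2 : ⁅Pr s z, Pr s z⁆ ≤ L (j + 1) := by
        apply comm_pr_le
        · haveI := h.norm (j + 1)
          rw [normalizer_eq_top]
          exact le_top
        · have h3 := h.comm 0 j s (by rw [h.zero]; trivial) z hz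
          rwa [zero_add] at h3
      have h3 : c ∈ L (m - 2) := hPC (j + 1) h1 (PC_mono h2 hc)
      have h4 := hU _ (hUx s hs' z (h.le hj hz))
      rw [hcz] at h4
      have h5 := hU s hs'
      have h6 : z ^ p = (s ^ p)⁻¹ * (s ^ p * z ^ p * c) * c⁻¹ := by group
      rw [h6]
      exact mul_mem (mul_mem (inv_mem h5) h4) (inv_mem h3)
  have hL1 : ∀ z ∈ L 1, z ^ p ∈ L (m - 2) := hmain (m - 1) 1 le_rfl (by omega)
  let Q : Subgroup G :=
    { carrier := {x | x ^ p ∈ L (m - 2)}
      one_mem' := by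
        show (1 : G) ^ p ∈ L (m - 2)
        rw [one_pow]; exact one_mem _
      mul_mem' := by
        intro a b ha hb
        obtain ⟨c, hc, hcz⟩ := hR a b
        have h2 : ⁅Pr a b, Pr a b⁆ ≤ L 1 := by
          rw [h.succ 0, h.zero]
          exact commutator_mono le_top le_top
        show (a * b) ^ p ∈ L (m - 2)
        rw [hcz]
        exact mul_mem (mul_mem ha hb) (hPC 1 hL1 (PC_mono h2 hc))
      inv_mem' := by
        intro a ha
        show (a⁻¹) ^ p ∈ L (m - 2)
        rw [inv_pow]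
        exact inv_mem ha }
  obtain ⟨t, ht⟩ := exists_not_mem h.cardG (fun j => if j = 0 then zpowers s ⊔ L 1 else M L h.norm j) (Finset.Icc 0 (m - 3))
    (by rw [Nat.card_Icc]; omega) (by
      intro j hj
      rw [Finset.mem_Icc] at hj
      by_cases hj0 : j = 0
      · simp only [hj0, if_true]
        exact h.sup_ne_top hm s
      · simp only [hj0, if_false]
        exact h.M_ne_top (by omega) (by omega))
  have ht0 : t ∉ zpowers s ⊔ L 1 := by
    have := ht 0 (Finset.mem_Icc.mpr ⟨le_rfl, by omega⟩)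
    simpa using this
  have ht' : ∀ j, 1 ≤ j → j + 2 ≤ m - 1 → t ∉ M L h.norm j := by
    intro j h1 h2
    have := ht j (Finset.mem_Icc.mpr ⟨by omega, by omega⟩)
    simpa [show j ≠ 0 by omega] using this
  have hsQ : zpowers s ⊔ L 1 ≤ Q := sup_le (zpowers_le.mpr (hU s hs')) hL1
  have hs1 : s ∉ L 1 := by
    intro hs1
    exact hs' 1 le_rfl (by omega) (fun y hy => h.comm 1 1 y hy s hs1)
  have hQt : Q = ⊤ := by
    have hlt1 : L 1 < zpowers s ⊔ L 1 := by
      refine lt_of_le_of_ne le_sup_right ?_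
      intro h3
      apply hs1
      rw [h3]
      exact mem_sup_left (mem_zpowers s)
    have hlt2 : zpowers s ⊔ L 1 < Q := by
      refine lt_of_le_of_ne hsQ ?_
      intro h3
      apply ht0
      rw [h3]
      exact hU t ht'
    obtain ⟨a, _, ha⟩ := (Nat.dvd_prime_pow hp.out).mp (h.cardG ▸ Subgroup.card_subgroup_dvd_card (zpowers s ⊔ L 1))
    obtain ⟨b, hb, hb'⟩ := (Nat.dvd_prime_pow hp.out).mp (h.cardG ▸ Subgroup.card_subgroup_dvd_card Q)
    have h3 : p ^ (m - 1 - 1) < p ^ a := by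
      rw [← h.card 1 le_rfl (by omega), ← ha]
      by_contra hcon
      push Not at hcon
      exact hlt1.ne (Subgroup.eq_of_le_of_card_ge hlt1.le hcon)
    have h4 : p ^ a < p ^ b := by
      rw [← ha, ← hb']
      by_contra hcon
      push Not at hcon
      exact hlt2.ne (Subgroup.eq_of_le_of_card_ge hlt2.le hcon)
    have h5 := (Nat.pow_lt_pow_iff_right hp.out.one_lt).mp h3
    have h6 := (Nat.pow_lt_pow_iff_right hp.out.one_lt).mp h4
    apply Subgroup.eq_top_of_card_eq
    rw [hb', h.cardG]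
    congr 1
    omega
  have : x ∈ Q := by rw [hQt]; trivial
  exact this

end Cfsg.Agent.H22.MX
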