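import Mathlib
import Cfsg.Agent.H22_MX2

/-!
Groups of maximal class: large elementary abelian sections.
-/

set_option autoImplicit false
set_option linter.unusedSectionVars false

namespace Cfsg.Agent.H22.MX

open Subgroup Cfsg
open scoped commutatorElement
open Cfsg.Agent.H2.Reg Cfsg.Agent.H2

universe u

variable {p : ℕ} [hp : Fact p.Prime] {G : Type u} [Group G] {m : ℕ} {L : ℕ → Subgroup G}

/-- quotients of the chain -/
theorem MC.quot [Finite G] (h : MC p m L) {r : ℕ} (hr : 1 ≤ r) (hrm : r ≤ m - 1) [(L r).Normal] :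
    MC p (r + 1) (fun j => (L j).map (QuotientGroup.mk' (L r))) := by
  refine ⟨?_, ?_, ?_, ?_, ?_, ?_, ?_⟩
  · show (L 0).map _ = ⊤
    rw [h.zero]
    exact Subgroup.map_top_of_surjective _ (QuotientGroup.mk'_surjective _)
  · intro j
    exact (h.norm j).map _ (QuotientGroup.mk'_surjective _)
  · intro j
    exact Subgroup.map_mono (h.anti j)
  · rintro i j _ ⟨x, hx, rfl⟩ _ ⟨y, hy, rfl⟩
    rw [← map_commutatorElement]
    exact ⟨_, h.comm i j x hx y hy, rfl⟩
  · intro j
    show (L (j + 1)).map _ = ⁅(L j).map _, ⊤⁆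
    rw [h.succ, map_commutator, Subgroup.map_top_of_surjective _ (QuotientGroup.mk'_surjective _)]
  · intro j hj hjr
    have hjr' : j ≤ r := by omega
    have h1 : Nat.card ((L j).map (QuotientGroup.mk' (L r))) * Nat.card (L r) = Nat.card (L j) := by
      have h2 := Subgroup.card_mul_index ((QuotientGroup.mk' (L r)).subgroupMap (L j)).ker
      rw [Subgroup.index_ker, MonoidHom.range_eq_top.mpr ((QuotientGroup.mk' (L r)).subgroupMap_surjective (L j)), Subgroup.card_top] at h2
      have h3 : ((QuotientGroup.mk' (L r)).subgroupMap (L j)).ker = (L r).subgroupOf (L j) := by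
        ext x
        rw [MonoidHom.mem_ker, mem_subgroupOf, ← QuotientGroup.eq_one_iff]
        exact ⟨fun h => congrArg Subtype.val h, fun h => Subtype.ext h⟩
      rw [h3, Nat.card_congr (subgroupOfEquivOfLe (h.le hjr')).toEquiv] at h2
      rw [mul_comm]
      exact h2
    rw [h.card r hr hrm, h.card j hj (by omega)] at h1
    apply Nat.eq_of_mul_eq_mul_right (pow_pos hp.out.pos (m - 1 - r))
    rw [h1, ← pow_add]
    congr 1
    omega
  · have h1 := Subgroup.card_eq_card_quotient_mul_card_subgroup (L r)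
    rw [h.cardG, h.card r hr hrm] at h1
    apply Nat.eq_of_mul_eq_mul_right (pow_pos hp.out.pos (m - 1 - r))
    rw [← h1, ← pow_add]
    congr 1
    omega

/-- surjectivity of `y ↦ s⁻¹ y⁻¹ s y` -/
theorem conj_surj [Finite G] {A B : Subgroup G} {s : G} (hBA : ∀ y ∈ B, s⁻¹ * (y⁻¹ * s * y) ∈ A)
    (hcard : Nat.card A * Nat.card ↥(B ⊓ centralizer {s}) ≤ Nat.card B) {x : G} (hx : x ∈ A) :
    ∃ y ∈ B, y⁻¹ * s * y = s * x := by
  classical
  -- the map from cosets
  let C := B ⊓ centralizer ({s} : Set G)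
  let f : B → A := fun y => ⟨s⁻¹ * ((y : G)⁻¹ * s * y), hBA y y.2⟩
  have hf : ∀ y z : B, f y = f z ↔ (y : G) * (z : G)⁻¹ ∈ centralizer ({s} : Set G) := by
    intro y z
    rw [mem_centralizer_singleton_iff]
    constructor
    · intro h
      have h1 : s⁻¹ * ((y : G)⁻¹ * s * y) = s⁻¹ * ((z : G)⁻¹ * s * z) := congrArg Subtype.val h
      have h2 := mul_left_cancel h1
      calc (y : G) * (z : G)⁻¹ * s = y * ((z : G)⁻¹ * s * z) * (z : G)⁻¹ := by group
        _ = y * ((y : G)⁻¹ * s * y) * (z : G)⁻¹ := by rw [h2]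
        _ = s * (y * (z : G)⁻¹) := by group
    · intro h
      apply Subtype.ext
      show s⁻¹ * ((y : G)⁻¹ * s * y) = s⁻¹ * ((z : G)⁻¹ * s * z)
      congr 1
      calc (y : G)⁻¹ * s * y = (y : G)⁻¹ * (s * (y * (z : G)⁻¹)) * z := by group
        _ = (y : G)⁻¹ * (y * (z : G)⁻¹ * s) * z := by rw [h]
        _ = (z : G)⁻¹ * s * z := by group
  have hsurj : Function.Surjective f := by
    -- fibres have at most |C| elements
    haveI : Fintype B := Fintype.ofFinite B
    haveI : Fintype A := Fintype.ofFinite A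
    have hfib : ∀ a ∈ (Finset.univ.image f : Finset A), (Finset.univ.filter (fun y : B => f y = a)).card ≤ Nat.card C := by
      intro a ha
      obtain ⟨z, _, rfl⟩ := Finset.mem_image.mp ha
      haveI : Fintype C := Fintype.ofFinite C
      rw [Nat.card_eq_fintype_card, ← Finset.card_univ]
      apply Finset.card_le_card_of_injOn (fun y : B => if hy : (y : G) * (z : G)⁻¹ ∈ C then (⟨(y : G) * (z : G)⁻¹, hy⟩ : C) else 1)
      · intro y _; exact Finset.mem_coe.mpr (Finset.mem_univ _)
      · intro y hy y' hy' he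
        simp only [Finset.coe_filter, Finset.mem_univ, true_and] at hy hy'
        have h1 : (y : G) * (z : G)⁻¹ ∈ C := mem_inf.mpr ⟨mul_mem y.2 (inv_mem z.2), (hf y z).mp hy⟩
        have h2 : (y' : G) * (z : G)⁻¹ ∈ C := mem_inf.mpr ⟨mul_mem y'.2 (inv_mem z.2), (hf y' z).mp hy'⟩
        simp only [h1, h2, dif_pos] at he
        apply Subtype.ext
        exact mul_right_cancel (congrArg Subtype.val he)
    have h1 := Finset.card_le_mul_card_image (f := f) (s := Finset.univ) (Nat.card C) hfib
    rw [Finset.card_univ, ← Nat.card_eq_fintype_card] at h1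
    have hCpos : 0 < Nat.card C := Nat.card_pos
    have h2 : Nat.card C * Nat.card A ≤ Nat.card C * (Finset.univ.image f).card := by
      rw [mul_comm]
      exact hcard.trans h1
    have h3 := Nat.le_of_mul_le_mul_left h2 hCpos
    rw [Nat.card_eq_fintype_card] at h3
    have h4 : (Finset.univ.image f) = Finset.univ := Finset.eq_univ_of_card _ (le_antisymm (Finset.card_le_univ _) h3)
    intro a
    have : a ∈ Finset.univ.image f := by rw [h4]; exact Finset.mem_univ _
    obtain ⟨y, _, hy⟩ := Finset.mem_image.mp this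
    exact ⟨y, hy⟩
  obtain ⟨y, hy⟩ := hsurj ⟨x, hx⟩
  refine ⟨y, y.2, ?_⟩
  have h1 : s⁻¹ * ((y : G)⁻¹ * s * y) = x := congrArg Subtype.val hy
  rw [← h1]; group

/-- one step of the power argument -/
theorem pow_step [Finite G] {A : ℕ → Subgroup G} (hn : ∀ j, (A j).Normal) (hanti : ∀ j, A (j + 1) ≤ A j)
    (hcomm : ∀ j, ∀ x ∈ A j, ∀ g : G, ⁅x, g⁆ ∈ A (j + 1)) (hab : ∀ x ∈ A 0, ∀ y ∈ A 0, x * y = y * x)
    (hbot : A (p - 1) = ⊥) {s : G} (hs : ∀ x ∈ A 0, (s * x) ^ p = s ^ p) (h1 : ∀ z ∈ A 1, z ^ p = 1) {x : G} (hx : x ∈ A 0) :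
    x ^ p = 1 := by
  have hle : ∀ i j, i ≤ j → A j ≤ A i := by
    intro i j hij
    obtain ⟨d, rfl⟩ := Nat.exists_eq_add_of_le hij
    clear hij
    induction d with
    | zero => exact le_rfl
    | succ d ih => exact (hanti _).trans ih
  set K := zpowers s ⊔ A 0 with hK
  have hcomm' : ∀ j, ∀ x ∈ A j, ∀ g : G, ⁅g, x⁆ ∈ A (j + 1) := by
    intro j x hx g
    rw [← commutatorElement_inv]
    exact inv_mem (hcomm j x hx g)
  have hKK : ∀ x ∈ K, ∀ y ∈ K, ⁅x, y⁆ ∈ A 1 := by
    intro x hx y hy
    haveI := hn 0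
    haveI := hn 1
    rw [hK, mem_sup_of_normal_right] at hx hy
    obtain ⟨_, ⟨i, rfl⟩, a, ha, rfl⟩ := hx
    obtain ⟨_, ⟨j, rfl⟩, b, hb, rfl⟩ := hy
    rw [← QuotientGroup.eq_one_iff, ← QuotientGroup.mk'_apply, map_commutatorElement, commutatorElement_eq_one_iff_mul_comm]
    have key : ∀ a ∈ A 0, ∀ g : G, Commute (QuotientGroup.mk' (A 1) a) (QuotientGroup.mk' (A 1) g) := by
      intro a ha g
      have := hcomm 0 a ha g
      rw [← QuotientGroup.eq_one_iff, ← QuotientGroup.mk'_apply, map_commutatorElement, commutatorElement_eq_one_iff_mul_comm] at this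
      exact this
    have hss : Commute (QuotientGroup.mk' (A 1) (s ^ i)) (QuotientGroup.mk' (A 1) (s ^ j)) := by
      rw [map_zpow, map_zpow]
      exact ((Commute.refl _).zpow_left i).zpow_right j
    rw [map_mul, map_mul]
    exact (hss.mul_right (key b hb (s ^ i)).symm).mul_left ((key a ha (s ^ j)).mul_right (key a ha b))
  let F : ℕ → Subgroup G := fun i => if i ≤ 1 then K else A (i - 1)
  have hF0 : ∀ i, i ≤ 1 → F i = K := fun i hi => if_pos hi
  have hF1 : ∀ i, 2 ≤ i → F i = A (i - 1) := fun i hi => if_neg (by omega)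
  have hA1K : A 1 ≤ K := (hanti 0).trans le_sup_right
  have hF : HallP.Filt F := by
    constructor
    · intro i
      by_cases hi : i + 1 ≤ 1
      · rw [hF0 _ hi, hF0 i (by omega)]
      · by_cases hi1 : i ≤ 1
        · rw [hF1 _ (by omega), hF0 i hi1]
          have : i + 1 - 1 = 1 := by omega
          rw [this]
          exact hA1K
        · rw [hF1 _ (by omega), hF1 i (by omega)]
          exact hle _ _ (by omega)
    · intro i j x hx y hy
      rcases Nat.lt_or_ge i 2 with hi | hi
      · rw [hF0 i (by omega)] at hx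
        rcases Nat.lt_or_ge j 2 with hj | hj
        · rw [hF0 j (by omega)] at hy
          have h3 := hKK x hx y hy
          rcases Nat.lt_or_ge (i + j) 2 with h4 | h4
          · rw [hF0 _ (by omega)]
            exact hA1K h3
          · have : i + j = 2 := by omega
            rw [hF1 _ h4, this]
            exact h3
        · rw [hF1 j hj] at hy
          rw [hF1 _ (by omega)]
          have h3 := hcomm' _ y hy x
          exact hle _ _ (by omega) h3
      · rw [hF1 i hi] at hx
        rcases Nat.lt_or_ge j 2 with hj | hj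
        · rw [hF0 j (by omega)] at hy
          rw [hF1 _ (by omega)]
          exact hle _ _ (by omega) (hcomm _ x hx y)
        · rw [hF1 j hj] at hy
          have h3 : ⁅x, y⁆ = 1 := by
            rw [commutatorElement_eq_one_iff_mul_comm]
            exact hab x (hle 0 _ (Nat.zero_le _) hx) y (hle 0 _ (Nat.zero_le _) hy)
          rw [h3]
          exact one_mem _
  obtain ⟨c, hc, c0, c1, hz⟩ := HallP.hall_petrescu hF (a := s) (b := x) (by
    rw [hF0 1 le_rfl]
    exact mem_sup_left (mem_zpowers s)) (by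
    rw [hF0 1 le_rfl]
    exact mem_sup_right hx) p
  have h2 := hz p le_rfl
  have hprod : ((List.range (p + 2)).map (fun i => c i ^ (p.choose i))).prod = 1 := by
    apply List.prod_eq_one
    intro y hy
    rw [List.mem_map] at hy
    obtain ⟨i, hi, rfl⟩ := hy
    rw [List.mem_range] at hi
    have hpp := hp.out.two_le
    rcases Nat.lt_or_ge i 2 with h3 | h3
    · have : i = 0 ∨ i = 1 := by omega
      rcases this with rfl | rfl
      · rw [c0, one_pow]
      · rw [c1, one_pow]
    · have hci := hc i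
      rw [hF1 i h3] at hci
      rcases Nat.lt_or_ge i p with h4 | h4
      · obtain ⟨d, hd⟩ := hp.out.dvd_choose_self (by omega : i ≠ 0) h4
        rw [hd, pow_mul, h1 _ (hle 1 _ (by omega) hci), one_pow]
      · rcases Nat.eq_or_lt_of_le h4 with h5 | h5
        · rw [← h5] at hci
          rw [hbot, mem_bot] at hci
          rw [← h5, hci, one_pow]
        · rw [Nat.choose_eq_zero_of_lt h5, pow_zero]
  rw [hprod, mul_one, hs x hx] at h2
  exact left_eq_mul.mp h2

end Cfsg.Agent.H22.MX
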