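import Mathlib
import Cfsg.Agent.H22_MX3
import Cfsg.Agent.H1_Basic

/-!
Groups of maximal class: the k-th term is elementary abelian modulo the (2k+1)-st term.
-/

set_option autoImplicit false
set_option linter.unusedSectionVars false

namespace Cfsg.Agent.H22.MX

open Subgroup Cfsg
open scoped commutatorElement
open Cfsg.Agent.H2.Reg Cfsg.Agent.H2

universe u

variable {p : ℕ} [hp : Fact p.Prime] {G : Type u} [Group G] {m : ℕ} {L : ℕ → Subgroup G}

theorem MC.main [Finite G] {k : ℕ} (h : MC p (2 * k + 1) L) (hk : 2 ≤ k) (hkp : k + 2 ≤ p) :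
    (∀ x ∈ L (k - 1), ∀ y ∈ L (k - 1), x * y = y * x) ∧ (∀ x ∈ L (k - 1), x ^ p = 1) := by
  have hbot : L (2 * k) = ⊥ := h.bot (by omega)
  have hcA : ∀ x ∈ L (k - 1), ∀ y ∈ L k, x * y = y * x := by
    intro x hx y hy
    rw [← commutatorElement_eq_one_iff_mul_comm, ← mem_bot, ← hbot]
    have := h.comm (k - 1) k x hx y hy
    rwa [show k - 1 + k + 1 = 2 * k by omega] at this
  have hcard1 : Nat.card (L (k - 1)) = p ^ (k + 1) := by
    rw [h.card (k - 1) (by omega) (by omega)]
    congr 1
    omega
  have hcard2 : Nat.card (L k) = p ^ k := by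
    rw [h.card k (by omega) (by omega)]
    congr 1
    omega
  have hkk : L k ≤ L (k - 1) := h.le (by omega)
  have hab : ∀ x ∈ L (k - 1), ∀ y ∈ L (k - 1), x * y = y * x := by
    intro x hx y hy
    by_cases hxk : x ∈ L k
    · exact (hcA y hy x hxk).symm
    · have h1 : L k ≤ L (k - 1) ⊓ centralizer {x} := by
        intro z hz
        refine mem_inf.mpr ⟨hkk hz, ?_⟩
        rw [mem_centralizer_singleton_iff]
        exact (hcA x hx z hz).symm
      have h2 : L (k - 1) ⊓ centralizer {x} = L (k - 1) := by
        apply eq_of_prime (p := p) h1 inf_le_left (by rw [hcard1, hcard2, pow_succ']) (x := x) _ hxk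
        refine mem_inf.mpr ⟨hx, ?_⟩
        rw [mem_centralizer_singleton_iff]
      have h3 : y ∈ L (k - 1) ⊓ centralizer {x} := by rw [h2]; exact hy
      have h4 := (mem_inf.mp h3).2
      rw [mem_centralizer_singleton_iff] at h4
      exact h4.symm
  refine ⟨hab, ?_⟩
  -- the element `s`
  obtain ⟨s, hs⟩ := exists_not_mem h.cardG (fun j => M L h.norm j) (Finset.Icc (max 1 (k - 2)) (2 * k - 2)) (by
      rw [Nat.card_Icc]
      rcases Nat.lt_or_ge k 3 with h3 | h3
      · have : k = 2 := by omega
        subst this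
        simp
        omega
      · rw [max_eq_right (by omega)]
        omega) (by
    intro j hj
    rw [Finset.mem_Icc] at hj
    exact h.M_ne_top (le_trans (le_max_left _ _) hj.1) (by omega))
  have hs' : ∀ j, max 1 (k - 2) ≤ j → j + 2 ≤ 2 * k + 1 - 1 → s ∉ M L h.norm j :=
    fun j h1 h2 => hs j (Finset.mem_Icc.mpr ⟨h1, by omega⟩)
  have hsp : s ^ p ∈ L (max 1 (k - 2)) := by
    rcases Nat.lt_or_ge k 3 with h3 | h3
    · have : k = 2 := by omega
      subst this
      exact h.pow_mem_one (by omega) s
    · rw [max_eq_right (by omega)]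
      haveI := h.norm (k - 1)
      have hq := h.quot (r := k - 1) (by omega) (by omega)
      rw [show k - 1 + 1 = k by omega] at hq
      have h4 := hq.pow_central h3 (by omega) (QuotientGroup.mk' (L (k - 1)) s)
      rw [← map_pow] at h4
      obtain ⟨y, hy, hys⟩ := h4
      have h5 : y⁻¹ * s ^ p ∈ L (k - 1) := by
        rw [← QuotientGroup.eq_one_iff]
        show QuotientGroup.mk' (L (k - 1)) (y⁻¹ * s ^ p) = 1
        rw [map_mul, map_inv, hys, inv_mul_cancel]
      have h6 : s ^ p = y * (y⁻¹ * s ^ p) := by group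
      rw [h6]
      exact mul_mem hy (h.le (by omega) h5)
  have hss : ⁅s ^ p, s⁆ = 1 := by
    rw [commutatorElement_eq_one_iff_mul_comm]
    exact (Commute.refl s).pow_left p
  have hspc : s ^ p ∈ L (2 * k - 1) := by
    have := h.cent (le_max_left _ _) hs' hsp hss (2 * k - 1) (by
      rcases Nat.lt_or_ge k 3 with h3 | h3
      · have : k = 2 := by omega
        subst this
        simp
      · rw [max_eq_right (by omega)]
        omega) (by omega)
    exact this
  have hcen : ∀ z ∈ L (2 * k - 1), ∀ g : G, z * g = g * z := by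
    intro z hz g
    rw [← commutatorElement_eq_one_iff_mul_comm, ← mem_bot, ← hbot]
    have := h.comm (2 * k - 1) 0 z hz g (by rw [h.zero]; trivial)
    rwa [show 2 * k - 1 + 0 + 1 = 2 * k by omega] at this
  have hcl : Nat.card (L (2 * k - 1)) = p := by
    rw [h.card (2 * k - 1) (by omega) (by omega), show 2 * k + 1 - 1 - (2 * k - 1) = 1 by omega, pow_one]
  have hBA : ∀ y ∈ L (k - 2), s⁻¹ * (y⁻¹ * s * y) ∈ L (k - 1) := by
    intro y hy
    have h1 : s⁻¹ * (y⁻¹ * s * y) = ⁅s⁻¹, y⁻¹⁆ := by
      simp only [commutatorElement_def]; group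
    rw [h1]
    have := h.comm 0 (k - 2) s⁻¹ (by rw [h.zero]; trivial) y⁻¹ (inv_mem hy)
    rwa [show 0 + (k - 2) + 1 = k - 1 by omega] at this
  have hcard : Nat.card (L (k - 1)) * Nat.card ↥(L (k - 2) ⊓ centralizer {s}) ≤ Nat.card (L (k - 2)) := by
    rcases Nat.lt_or_ge k 3 with h3 | h3
    · have : k = 2 := by omega
      subst this
      have h0 : L (2 - 2) = ⊤ := h.zero
      rw [h0, top_inf_eq, Subgroup.card_top, h.cardG, hcard1]
      set C := centralizer ({s} : Set G) with hC
      have hn1 : (L 1).Normal := h.norm 1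
      have h4 := H1.Basic.card_sup_mul_card_inf (H := C) (K := L 1) (by rw [normalizer_eq_top]; exact le_top)
      have h5 : C ⊓ L 1 ≤ L (2 * 2 - 1) := by
        intro y hy
        rw [mem_inf, hC, mem_centralizer_singleton_iff] at hy
        refine h.cent le_rfl (fun j h6 h7 => hs' j (by simpa using h6) h7) hy.2 ?_ (2 * 2 - 1) (by omega) (by omega)
        rw [commutatorElement_eq_one_iff_mul_comm]
        exact hy.1
      have h6 : Nat.card ↥(C ⊓ L 1) ≤ p := by rw [← hcl]; exact Subgroup.card_le_of_le h5
      have h7 : C ⊔ L 1 ≠ ⊤ := by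
        intro htop
        have h8 : C = ⊤ := by
          have e : ⁅(⊤ : Subgroup G), ⊤⁆ = L 1 := by rw [h.succ 0, h.zero]
          apply frat h.pgroup le_top
          rw [e, htop]
        apply hs' 1 (by simp) (by omega)
        intro y _
        have : y ∈ C := by rw [h8]; trivial
        rw [hC, mem_centralizer_singleton_iff] at this
        rw [(commutatorElement_eq_one_iff_mul_comm).mpr this]
        exact one_mem _
      have h8 : Nat.card ↥(C ⊔ L 1) ≤ p ^ 4 := by
        obtain ⟨a, ha, ha'⟩ := (Nat.dvd_prime_pow hp.out).mp (h.cardG ▸ Subgroup.card_subgroup_dvd_card (C ⊔ L 1))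
        rw [ha']
        apply Nat.pow_le_pow_right hp.out.pos
        by_contra hcon
        apply h7
        apply Subgroup.eq_top_of_card_eq
        rw [ha', h.cardG]
        congr 1
        omega
      have h9 : Nat.card C * Nat.card (L 1) ≤ p ^ 4 * p := by
        rw [← h4]
        exact Nat.mul_le_mul h8 h6
      calc p ^ (2 + 1) * Nat.card C = Nat.card C * Nat.card (L 1) := by rw [show (1 : ℕ) = 2 - 1 from rfl, hcard1, mul_comm]
        _ ≤ p ^ 4 * p := h9
        _ = p ^ (2 * 2 + 1) := by ring
    · have h4 : L (k - 2) ⊓ centralizer {s} ≤ L (2 * k - 1) := by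
        intro y hy
        rw [mem_inf, mem_centralizer_singleton_iff] at hy
        refine h.cent (a := k - 2) (by omega) (fun j h6 h7 => hs' j (by rw [max_eq_right (by omega)]; exact h6) h7) hy.1 ?_ (2 * k - 1) (by omega) (by omega)
        rw [commutatorElement_eq_one_iff_mul_comm]
        exact hy.2
      have h5 := Subgroup.card_le_of_le h4
      rw [hcl] at h5
      rw [hcard1, h.card (k - 2) (by omega) (by omega)]
      calc p ^ (k + 1) * Nat.card ↥(L (k - 2) ⊓ centralizer {s}) ≤ p ^ (k + 1) * p := Nat.mul_le_mul_left _ h5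
        _ = p ^ (2 * k + 1 - 1 - (k - 2)) := by
          rw [← pow_succ]
          congr 1
          omega
  have hconj : ∀ x ∈ L (k - 1), (s * x) ^ p = s ^ p := by
    intro x hx
    obtain ⟨y, _, hy⟩ := conj_surj hBA hcard hx
    have h1 : (s * x) ^ p = y⁻¹ * s ^ p * y := by
      rw [← hy]
      have := conj_pow (i := p) (a := y⁻¹) (b := s)
      rw [inv_inv] at this
      exact this
    rw [h1, mul_assoc, hcen _ hspc y, inv_mul_cancel_left]
  -- descending induction
  have key : ∀ d i, k - 1 ≤ i → 2 * k ≤ i + d → ∀ x ∈ L i, x ^ p = 1 := by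
    intro d
    induction d with
    | zero =>
      intro i hi hi2 x hx
      have : x ∈ L (2 * k) := h.le (by omega) hx
      rw [hbot, mem_bot] at this
      rw [this, one_pow]
    | succ d ih =>
      intro i hi hi2 x hx
      refine pow_step (A := fun j => L (i + j)) (fun j => h.norm _) (fun j => h.anti _) ?_ ?_ ?_ (s := s) ?_ ?_ hx
      · intro j y hy g
        have := h.comm (i + j) 0 y hy g (by rw [h.zero]; trivial)
        exact this
      · intro y hy z hz
        exact hab y (h.le (by omega) hy) z (h.le (by omega) hz)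
      · show L (i + (p - 1)) = ⊥
        rw [eq_bot_iff, ← hbot]
        exact h.le (by omega)
      · intro y hy
        exact hconj y (h.le (by omega) hy)
      · intro z hz
        exact ih (i + 1) (by omega) (by omega) z hz
  exact fun x hx => key (2 * k) (k - 1) le_rfl (by omega) x hx

end Cfsg.Agent.H22.MX
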