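import Mathlib
import Cfsg.Agent.H22_MX4

/-!
Groups of maximal class: the lower central series is a chain of type `MC`.
-/

set_option autoImplicit false
set_option linter.unusedSectionVars false

namespace Cfsg.Agent.H22.MX

open Subgroup Cfsg
open scoped commutatorElement
open Cfsg.Agent.H2.Reg Cfsg.Agent.H2 Cfsg.Agent.H2.Card

universe u

variable {p : ℕ} [hp : Fact p.Prime] {G : Type u} [Group G]

theorem MC_of_class [Finite G] (n : ℕ) (hG : Nat.card G = p ^ n) (hcl : Group.nilpotencyClass G = n - 1) (hn : 3 ≤ n) :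
    MC p n (fun j => (⊤ : Subgroup G).lowerCentralSeries j) := by
  have hpp : p.Prime := Fact.out
  have hpg : IsPGroup p G := IsPGroup.iff_card.2 ⟨_, hG⟩
  have hnil := hpg.isNilpotent
  set γ := (⊤ : Subgroup G).lowerCentralSeries with hγ
  have hanti : ∀ k, γ (k + 1) ≤ γ k := fun k => by
    rw [hγ]; exact Subgroup.lowerCentralSeries_antitone _ (Nat.le_succ k)
  have hbot : γ (n - 1) = ⊥ := by
    rw [hγ, ← hcl]; exact Subgroup.lowerCentralSeries_nilpotencyClass
  have hlt : ∀ k, k < n - 1 → γ (k + 1) < γ k := by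
    intro k hk
    refine lt_of_le_of_ne (hanti k) ?_
    intro h
    have h0 : γ k ≠ ⊥ := by
      intro h0
      have := Subgroup.lowerCentralSeries_eq_bot_iff_nilpotencyClass_le.1 h0
      omega
    have h1 := Cfsg.Agent.H2.PGroup.commutator_top_lt hpg h0
    apply h1.ne
    exact h
  obtain ⟨a, ha⟩ : ∃ a : ℕ → ℕ, ∀ k, Nat.card (γ k) = p ^ a k := by
    choose a ha using fun k => IsPGroup.iff_card.1 (hpg.to_subgroup (γ k))
    exact ⟨a, ha⟩
  have halt : ∀ k, k < n - 1 → a (k + 1) < a k := by
    intro k hk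
    have := card_lt_of_lt (hlt k hk)
    rw [ha, ha] at this
    exact (Nat.pow_lt_pow_iff_right hpp.one_lt).1 this
  have ha0 : a 0 = n := by
    apply Nat.pow_right_injective hpp.two_le
    change p ^ a 0 = p ^ n
    rw [← ha, ← hG, hγ]
    exact card_top
  have hγ1 : γ 1 = commutator G := by rw [hγ]; exact Subgroup.lowerCentralSeries_one
  have hna : ¬ ∀ x y : G, x * y = y * x := Cfsg.Agent.H2.MaxClass.not_comm_of_class (by omega)
  have hidx : (commutator G).index ≠ p := by
    intro h
    exact hna (Cfsg.Agent.S0662.comm_of_cyclic_ab hpg (isCyclic_of_prime_card (p := p) (by rw [← index_eq_card]; exact h)))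
  have ha1 : a 1 ≤ n - 2 := by
    by_contra hcon
    have h1 : a 1 < a 0 := halt 0 (by omega)
    rw [ha0] at h1
    have h2 : a 1 = n - 1 := by omega
    apply hidx
    have h3 := card_mul_index (commutator G)
    rw [← hγ1, ha, h2, hG] at h3
    have h4 : p ^ n = p ^ (n - 1) * p := by rw [← pow_succ]; congr 1; omega
    rw [h4] at h3
    rw [← hγ1]
    exact Nat.eq_of_mul_eq_mul_left (pow_pos hpp.pos _) h3
  have hub : ∀ k, 1 ≤ k → k ≤ n - 1 → a k ≤ n - 1 - k := by
    intro k hk1 hk
    induction k, hk1 using Nat.le_induction with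
    | base => omega
    | succ k hk1 ih =>
      have h1 := ih (by omega)
      have h2 := halt k (by omega)
      omega
  have hlb : ∀ j, j ≤ n - 1 → j ≤ a (n - 1 - j) := by
    intro j hj
    induction j with
    | zero => omega
    | succ j ih =>
      have h1 := ih (by omega)
      have h2 := halt (n - 1 - (j + 1)) (by omega)
      have h3 : n - 1 - (j + 1) + 1 = n - 1 - j := by omega
      rw [h3] at h2
      omega
  have hak : ∀ k, 1 ≤ k → k ≤ n - 1 → a k = n - 1 - k := by
    intro k hk1 hk
    have h1 := hub k hk1 hk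
    have h2 := hlb (n - 1 - k) (by omega)
    have h3 : n - 1 - (n - 1 - k) = k := by omega
    rw [h3] at h2
    omega
  refine ⟨rfl, ?_, hanti, ?_, ?_, ?_, hG⟩
  · intro j
    rw [hγ]
    infer_instance
  · intro i j x hx y hy
    have h := (LF_filt G).2 (i + 1) (j + 1) x hx y hy
    have e : i + 1 + (j + 1) = (i + j + 1) + 1 := by omega
    rw [e] at h
    exact h
  · intro j
    rw [hγ]
    exact Subgroup.lowerCentralSeries_succ _ _
  · intro j h1 h2
    show Nat.card (γ j) = _
    rw [ha, hak j h1 h2]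

/-- order bound for groups of maximal class of small sectional rank -/
theorem MC.bound [Finite G] {n : ℕ} {L : ℕ → Subgroup G} (h : MC p n L) (k : ℕ) (hk : 1 ≤ k) (hkn : 2 * k + 1 ≤ n) (hkp : k + 2 ≤ p) :
    ∃ (N : Subgroup G) (_ : N.Normal), ¬ PRankLE p k (G ⧸ N) := by
  rcases Nat.lt_or_ge k 2 with hk2 | hk2
  · have hk1 : k = 1 := by omega
    subst hk1
    refine ⟨L 1, h.norm 1, ?_⟩
    haveI := h.norm 1
    intro hr
    have hcQ : Nat.card (G ⧸ L 1) = p ^ 2 := by
      have h1 := Subgroup.card_eq_card_quotient_mul_card_subgroup (L 1)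
      rw [h.cardG, h.card 1 le_rfl (by omega)] at h1
      apply Nat.eq_of_mul_eq_mul_right (pow_pos hp.out.pos (n - 1 - 1))
      rw [← h1, ← pow_add]
      congr 1
      omega
    have h2 := hr ⊤ (by
      constructor
      constructor
      rintro ⟨a, _⟩ ⟨b, _⟩
      apply Subtype.ext
      show a * b = b * a
      obtain ⟨x, rfl⟩ := QuotientGroup.mk'_surjective _ a
      obtain ⟨y, rfl⟩ := QuotientGroup.mk'_surjective _ b
      rw [← commutatorElement_eq_one_iff_mul_comm, ← map_commutatorElement, QuotientGroup.mk'_apply, QuotientGroup.eq_one_iff]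
      exact h.comm 0 0 x (by rw [h.zero]; trivial) y (by rw [h.zero]; trivial)) (by
      intro a _
      obtain ⟨x, rfl⟩ := QuotientGroup.mk'_surjective _ a
      rw [← map_pow, QuotientGroup.mk'_apply, QuotientGroup.eq_one_iff]
      exact h.pow_mem_one (by omega) x)
    rw [Subgroup.card_top, hcQ] at h2
    have := (Nat.pow_le_pow_iff_right hp.out.one_lt).mp h2
    omega
  · haveI := h.norm (2 * k)
    refine ⟨L (2 * k), h.norm _, ?_⟩
    intro hr
    have hq := h.quot (r := 2 * k) (by omega) (by omega)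
    obtain ⟨h1, h2⟩ := hq.main hk2 hkp
    have h3 := hr _ (by
      constructor
      constructor
      rintro ⟨a, ha⟩ ⟨b, hb⟩
      apply Subtype.ext
      exact h1 a ha b hb) h2
    rw [hq.card (k - 1) (by omega) (by omega)] at h3
    have := (Nat.pow_le_pow_iff_right hp.out.one_lt).mp h3
    omega

end Cfsg.Agent.H22.MX
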