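import Cfsg.Agent.H22_Basic

/-!
H22_Maschke: Maschke's theorem for commutative groups of exponent p (multiplicative notation), relative form.
-/

set_option autoImplicit false
open Cfsg

namespace Cfsg.Agent.H22.Maschke

open Subgroup

/-- a retraction onto a subgroup of an elementary abelian group -/
theorem exists_retraction {V : Type*} [CommGroup V] {p : ℕ} [hp : Fact p.Prime] (hV : ∀ v : V, v ^ p = 1) (W : Subgroup V) :
    ∃ π : V →* V, (∀ v, π v ∈ W) ∧ ∀ w ∈ W, π w = w := by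
  have mV : Module (ZMod p) (Additive V) := AddCommGroup.zmodModule (n := p) (fun x => hV x.toMul)
  let W' : Submodule (ZMod p) (Additive V) := AddSubgroup.toZModSubmodule p (Subgroup.toAddSubgroup W)
  obtain ⟨g, hg⟩ := LinearMap.exists_leftInverse_of_injective W'.subtype (by rw [Submodule.ker_subtype])
  refine ⟨(MonoidHom.toAdditive (α := V) (β := V)).symm ((W'.subtype ∘ₗ g).toAddMonoidHom), ?_, ?_⟩
  · intro v
    exact (g (Additive.ofMul v)).2
  · intro w hw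
    have h1 := LinearMap.congr_fun hg ⟨Additive.ofMul w, hw⟩
    exact congrArg Subtype.val h1

theorem maschke {V H : Type*} [CommGroup V] [Finite V] [Group H] [Finite H] {p : ℕ} [hp : Fact p.Prime] (hV : ∀ v : V, v ^ p = 1)
    (ρ : H →* MulAut V) (hH : (Nat.card H).Coprime p) (W : Subgroup V) (hW : ∀ h, ∀ w ∈ W, ρ h w ∈ W) :
    ∃ U : Subgroup V, (∀ h, ∀ u ∈ U, ρ h u ∈ U) ∧ U ⊓ W = ⊥ ∧ U ⊔ W = ⊤ := by
  classical
  have := Fintype.ofFinite H
  obtain ⟨π₀, h1, h2⟩ := exists_retraction hV W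
  obtain ⟨m, hm⟩ : ∃ m : ℕ, ∀ v : V, (v ^ Nat.card H) ^ m = v := by
    obtain ⟨m, hm⟩ := Nat.exists_mul_mod_eq_one_of_coprime hH hp.out.one_lt
    refine ⟨m, fun v => ?_⟩
    rw [← pow_mul, ← Nat.div_add_mod (Nat.card H * m) p, hm.2, pow_add, pow_mul, hV, one_pow, one_mul, pow_one]
  let τ : V →* V :=
    { toFun := fun v => ∏ h : H, ρ h (π₀ (ρ h⁻¹ v))
      map_one' := by simp
      map_mul' := fun a b => by
        rw [← Finset.prod_mul_distrib]
        apply Finset.prod_congr rfl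
        intro h _
        rw [map_mul, map_mul, map_mul] }
  let π : V →* V := (powMonoidHom m).comp τ
  have hπW : ∀ v, π v ∈ W := by
    intro v
    refine pow_mem ?_ m
    exact Subgroup.prod_mem _ (fun h _ => hW h _ (h1 _))
  have hπid : ∀ w ∈ W, π w = w := by
    intro w hw
    have h3 : τ w = w ^ Nat.card H := by
      show ∏ h : H, ρ h (π₀ (ρ h⁻¹ w)) = _
      have : ∀ h ∈ (Finset.univ : Finset H), ρ h (π₀ (ρ h⁻¹ w)) = w := by
        intro h _
        rw [h2 _ (hW h⁻¹ w hw), ← MulAut.mul_apply, ← map_mul, mul_inv_cancel, map_one, MulAut.one_apply]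
      rw [Finset.prod_congr rfl this, Finset.prod_const, Finset.card_univ, Nat.card_eq_fintype_card]
    show (τ w) ^ m = w
    rw [h3, hm]
  have hπeq : ∀ g v, π (ρ g v) = ρ g (π v) := by
    intro g v
    show (τ (ρ g v)) ^ m = ρ g ((τ v) ^ m)
    rw [map_pow]
    congr 1
    show ∏ h : H, ρ h (π₀ (ρ h⁻¹ (ρ g v))) = ρ g (∏ h : H, ρ h (π₀ (ρ h⁻¹ v)))
    rw [map_prod]
    have h3 := Equiv.prod_comp (Equiv.mulLeft g) (fun h : H => ρ h (π₀ (ρ h⁻¹ (ρ g v))))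
    rw [← h3]
    apply Finset.prod_congr rfl
    intro h _
    have h4 : ρ g⁻¹ (ρ g v) = v := by rw [← MulAut.mul_apply, ← map_mul, inv_mul_cancel, map_one, MulAut.one_apply]
    rw [Equiv.coe_mulLeft, mul_inv_rev, map_mul, map_mul, MulAut.mul_apply, MulAut.mul_apply, h4]
  refine ⟨π.ker, ?_, ?_, ?_⟩
  · intro h u hu
    rw [MonoidHom.mem_ker] at hu ⊢
    rw [hπeq, hu, map_one]
  · rw [eq_bot_iff]
    rintro u ⟨hu, huW⟩
    have h3 : π u = 1 := hu
    rw [hπid u huW] at h3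
    exact Subgroup.mem_bot.mpr h3
  · rw [eq_top_iff]
    intro v _
    have h3 : v = (v * (π v)⁻¹) * π v := by group
    rw [h3]
    refine mul_mem (mem_sup_left ?_) (mem_sup_right (hπW v))
    rw [MonoidHom.mem_ker, map_mul, map_inv, hπid _ (hπW v), mul_inv_cancel]

variable {B H : Type*} [CommGroup B] [Group H]

/-- restriction of an action to an invariant subgroup -/
def restr (ρ : H →* MulAut B) (R : Subgroup B) (hR : ∀ h, ∀ r ∈ R, ρ h r ∈ R) : H →* MulAut R where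
  toFun h :=
    { toFun := fun r => ⟨ρ h r, hR h r r.2⟩
      invFun := fun r => ⟨ρ h⁻¹ r, hR h⁻¹ r r.2⟩
      left_inv := fun r => Subtype.ext (by
        show ρ h⁻¹ (ρ h r) = r
        rw [← MulAut.mul_apply, ← map_mul, inv_mul_cancel, map_one, MulAut.one_apply])
      right_inv := fun r => Subtype.ext (by
        show ρ h (ρ h⁻¹ r) = r
        rw [← MulAut.mul_apply, ← map_mul, mul_inv_cancel, map_one, MulAut.one_apply])
      map_mul' := fun a b => Subtype.ext (by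
        show ρ h (a * b) = ρ h a * ρ h b
        rw [map_mul]) }
  map_one' := by
    ext r
    show ρ 1 r = r
    rw [map_one, MulAut.one_apply]
  map_mul' a b := by
    ext r
    show ρ (a * b) r = ρ a (ρ b r)
    rw [map_mul, MulAut.mul_apply]

theorem map_eq_of_inv (ρ : H →* MulAut B) (P : Subgroup B) (hP : ∀ h, ∀ r ∈ P, ρ h r ∈ P) (h : H) :
    P.map (ρ h).toMonoidHom = P := by
  apply le_antisymm
  · rintro _ ⟨r, hr, rfl⟩
    exact hP h r hr
  · intro r hr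
    refine ⟨ρ h⁻¹ r, hP _ r hr, ?_⟩
    show ρ h (ρ h⁻¹ r) = r
    rw [← MulAut.mul_apply, ← map_mul, mul_inv_cancel, map_one, MulAut.one_apply]

/-- quotient action -/
def quot (ρ : H →* MulAut B) (P : Subgroup B) (hP : ∀ h, ∀ r ∈ P, ρ h r ∈ P) : H →* MulAut (B ⧸ P) where
  toFun h := QuotientGroup.congr P P (ρ h) (map_eq_of_inv ρ P hP h)
  map_one' := by
    refine MulEquiv.ext (fun r => ?_)
    obtain ⟨r, rfl⟩ := QuotientGroup.mk_surjective r
    show ((ρ 1 r : B) : B ⧸ P) = r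
    rw [map_one, MulAut.one_apply]
  map_mul' a b := by
    refine MulEquiv.ext (fun r => ?_)
    obtain ⟨r, rfl⟩ := QuotientGroup.mk_surjective r
    show ((ρ (a * b) r : B) : B ⧸ P) = ((ρ a (ρ b r) : B) : B ⧸ P)
    rw [map_mul, MulAut.mul_apply]

/-- relative Maschke -/
theorem exists_compl [Finite B] [Finite H] {p : ℕ} [hp : Fact p.Prime] (ρ : H →* MulAut B) (hH : (Nat.card H).Coprime p)
    (P Q R : Subgroup B) (hPQ : P ≤ Q) (hQR : Q ≤ R) (hP : ∀ h, ∀ r ∈ P, ρ h r ∈ P) (hQ : ∀ h, ∀ r ∈ Q, ρ h r ∈ Q)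
    (hR : ∀ h, ∀ r ∈ R, ρ h r ∈ R) (hel : ∀ r ∈ R, r ^ p ∈ P) :
    ∃ S : Subgroup B, (∀ h, ∀ s ∈ S, ρ h s ∈ S) ∧ P ≤ S ∧ S ≤ R ∧ S ⊓ Q = P ∧ S ⊔ Q = R := by
  let ρR := restr ρ R hR
  have hPR : ∀ h, ∀ r ∈ P.subgroupOf R, ρR h r ∈ P.subgroupOf R := fun h r hr => hP h r hr
  let σ := quot ρR (P.subgroupOf R) hPR
  let W : Subgroup (R ⧸ P.subgroupOf R) := (Q.subgroupOf R).map (QuotientGroup.mk' _)
  obtain ⟨U, hU1, hU2, hU3⟩ := maschke (p := p) (V := R ⧸ P.subgroupOf R) (by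
    intro v
    obtain ⟨r, rfl⟩ := QuotientGroup.mk_surjective v
    rw [← QuotientGroup.mk_pow, QuotientGroup.eq_one_iff]
    exact hel r r.2) σ hH W (by
    rintro h _ ⟨r, hr, rfl⟩
    exact ⟨ρR h r, hQ h r hr, rfl⟩)
  let S' : Subgroup R := U.comap (QuotientGroup.mk' _)
  have hmemS : ∀ r : R, r ∈ S' ↔ ((r : R) : R ⧸ P.subgroupOf R) ∈ U := fun r => Iff.rfl
  refine ⟨S'.map R.subtype, ?_, ?_, ?_, ?_, ?_⟩
  · rintro h _ ⟨r, hr, rfl⟩
    exact ⟨ρR h r, hU1 h _ hr, rfl⟩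
  · intro x hx
    refine ⟨⟨x, hQR (hPQ hx)⟩, ?_, rfl⟩
    show ((⟨x, hQR (hPQ hx)⟩ : R) : R ⧸ P.subgroupOf R) ∈ U
    rw [(QuotientGroup.eq_one_iff _).mpr (show (⟨x, hQR (hPQ hx)⟩ : R) ∈ P.subgroupOf R from hx)]
    exact one_mem _
  · rintro _ ⟨r, _, rfl⟩; exact r.2
  · apply le_antisymm
    · rintro _ ⟨⟨r, hr, rfl⟩, hrQ⟩
      have h1 : ((r : R) : R ⧸ P.subgroupOf R) ∈ U ⊓ W := ⟨hr, ⟨r, hrQ, rfl⟩⟩
      rw [hU2, Subgroup.mem_bot, QuotientGroup.eq_one_iff] at h1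
      exact h1
    · intro x hx
      refine ⟨⟨⟨x, hQR (hPQ hx)⟩, ?_, rfl⟩, hPQ hx⟩
      show ((⟨x, hQR (hPQ hx)⟩ : R) : R ⧸ P.subgroupOf R) ∈ U
      rw [(QuotientGroup.eq_one_iff _).mpr (show (⟨x, hQR (hPQ hx)⟩ : R) ∈ P.subgroupOf R from hx)]
      exact one_mem _
  · apply le_antisymm
    · refine sup_le ?_ hQR
      rintro _ ⟨r, _, rfl⟩; exact r.2
    · intro x hx
      have h1 : ((⟨x, hx⟩ : R) : R ⧸ P.subgroupOf R) ∈ U ⊔ W := by rw [hU3]; trivial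
      obtain ⟨u, hu, w, ⟨q, hq, rfl⟩, huw⟩ := Subgroup.mem_sup.mp h1
      obtain ⟨s, rfl⟩ := QuotientGroup.mk_surjective u
      have h2 : ((s * q : R) : R ⧸ P.subgroupOf R) = ((⟨x, hx⟩ : R) : R ⧸ P.subgroupOf R) := huw
      rw [QuotientGroup.eq] at h2
      have h3 : ((s * q : R) : B)⁻¹ * x ∈ P := h2
      have h4 : x = (s : B) * ((q : B) * (((s * q : R) : B)⁻¹ * x)) := by
        rw [Subgroup.coe_mul]; group
      rw [h4]
      exact mul_mem (mem_sup_left ⟨s, hu, rfl⟩) (mem_sup_right (mul_mem hq (hPQ h3)))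

end Cfsg.Agent.H22.Maschke
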