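import Mathlib

/-! geometric sums modulo powers of an odd prime -/

set_option autoImplicit false

namespace Cfsg.Agent.H22.MetaNum

open Finset

/-- `1 + q + ... + q^(t-1)` -/
def gs (q t : ℕ) : ℕ := ∑ i ∈ range t, q ^ i

theorem gs_zero (q : ℕ) : gs q 0 = 0 := by simp [gs]
theorem gs_one (q : ℕ) : gs q 1 = 1 := by simp [gs]
theorem gs_succ (q t : ℕ) : gs q (t + 1) = gs q t + q ^ t := by simp [gs, sum_range_succ]

theorem gs_add (q i k : ℕ) : gs q (i + k) = gs q i * q ^ k + gs q k := by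
  induction i with
  | zero => simp [gs_zero]
  | succ i ih =>
    have : i + 1 + k = (i + k) + 1 := by ring
    rw [this, gs_succ, ih, gs_succ]; ring

theorem gs_mul (q i t : ℕ) : gs q (i * t) = gs q i * gs (q ^ i) t := by
  induction t with
  | zero => simp [gs_zero]
  | succ t ih =>
    rw [Nat.mul_succ, Nat.add_comm (i * t) i, gs_add, ih, gs_succ, pow_mul]; ring

theorem pow_eq (d k : ℕ) : (1 + d) ^ k = 1 + d * gs (1 + d) k := by
  induction k with
  | zero => simp [gs_zero]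
  | succ k ih =>
    rw [gs_succ, mul_add, ← add_assoc, ← ih]; ring

theorem pow_expand (x i : ℕ) : ∃ y, (1 + x) ^ i = 1 + i * x + x ^ 2 * y := by
  induction i with
  | zero => exact ⟨0, by simp⟩
  | succ i ih =>
    obtain ⟨y, hy⟩ := ih
    refine ⟨y + i + x * y, ?_⟩
    rw [pow_succ, hy]; ring

theorem gs_expand (x t : ℕ) : ∃ y, gs (1 + x) t = t + x * (∑ i ∈ range t, i) + x ^ 2 * y := by
  induction t with
  | zero => exact ⟨0, by simp [gs_zero]⟩
  | succ t ih =>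
    obtain ⟨y, hy⟩ := ih
    obtain ⟨z, hz⟩ := pow_expand x t
    refine ⟨y + z, ?_⟩
    rw [gs_succ, hy, hz, sum_range_succ]; ring

variable {p : ℕ} [hp : Fact p.Prime]

theorem gs_prime (hp2 : p ≠ 2) {c : ℕ} (hc : 1 ≤ c) (u : ℕ) :
    ∃ y, gs (1 + p ^ c * u) p = p + p ^ (1 + c) * y := by
  obtain ⟨y, hy⟩ := gs_expand (p ^ c * u) p
  have hodd : Odd p := hp.out.odd_of_ne_two hp2
  obtain ⟨k, hk⟩ := hodd
  have h1 : ∑ i ∈ range p, i = p * k := by
    have := Finset.sum_range_id_mul_two p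
    have h2 : p - 1 = 2 * k := by omega
    rw [h2] at this
    have h3 : (∑ i ∈ range p, i) * 2 = (p * k) * 2 := by rw [this]; ring
    exact Nat.eq_of_mul_eq_mul_right (by norm_num) h3
  obtain ⟨c', rfl⟩ : ∃ c', c = 1 + c' := ⟨c - 1, by omega⟩
  refine ⟨u * k + p ^ c' * u ^ 2 * y, ?_⟩
  rw [hy, h1]; ring

theorem gs_prime_pow (hp2 : p ≠ 2) {c : ℕ} (hc : 1 ≤ c) (u k : ℕ) :
    ∃ y, gs (1 + p ^ c * u) (p ^ k) = p ^ k + p ^ (k + c) * y := by
  induction k with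
  | zero => exact ⟨0, by simp [gs_one]⟩
  | succ k ih =>
    obtain ⟨y, hy⟩ := ih
    rw [pow_succ, gs_mul, pow_eq, mul_assoc (p ^ c) u]
    obtain ⟨z, hz⟩ := gs_prime hp2 hc (u * gs (1 + p ^ c * u) (p ^ k))
    rw [hz, hy]
    refine ⟨z + y + p ^ c * y * z, ?_⟩
    ring

theorem gs_mod (d t : ℕ) : ∃ y, gs (1 + d) t = t + d * y := by
  obtain ⟨y, hy⟩ := gs_expand d t
  exact ⟨(∑ i ∈ range t, i) + d * y, by rw [hy]; ring⟩

theorem pow_dvd_gs_iff (hp2 : p ≠ 2) {c : ℕ} (hc : 1 ≤ c) (u k t : ℕ) :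
    p ^ k ∣ gs (1 + p ^ c * u) t ↔ p ^ k ∣ t := by
  constructor
  · intro h
    rcases Nat.eq_zero_or_pos t with rfl | ht
    · exact dvd_zero _
    obtain ⟨j, t', ht', rfl⟩ := Nat.exists_eq_pow_mul_and_not_dvd ht.ne' p hp.out.ne_one
    rw [gs_mul, pow_eq, mul_assoc (p ^ c) u] at h
    set w := u * gs (1 + p ^ c * u) (p ^ j) with hw
    have h1 : ¬ p ∣ gs (1 + p ^ c * w) t' := by
      obtain ⟨y, hy⟩ := gs_mod (p ^ c * w) t'
      rw [hy]
      intro hd
      apply ht'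
      have h2 : p ∣ p ^ c * w * y := ((dvd_pow_self p (by omega : c ≠ 0)).mul_right w).mul_right y
      exact (Nat.dvd_add_left h2).mp hd
    have h2 : p ^ k ∣ gs (1 + p ^ c * u) (p ^ j) :=
      Nat.Coprime.dvd_of_dvd_mul_right (((hp.out.coprime_iff_not_dvd).mpr h1).pow_left k) h
    obtain ⟨y, hy⟩ := gs_prime_pow hp2 hc u j
    have h3 : p ^ j + p ^ (j + c) * y = p ^ j * (1 + p ^ c * y) := by ring
    rw [hy, h3] at h2
    have h4 : (p ^ k).Coprime (1 + p ^ c * y) := by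
      apply Nat.Coprime.pow_left
      rw [hp.out.coprime_iff_not_dvd]
      intro hd
      have h5 : p ∣ p ^ c * y := (dvd_pow_self p (by omega : c ≠ 0)).mul_right y
      have h6 := (Nat.dvd_add_left h5).mp hd
      exact hp.out.one_lt.ne' (Nat.dvd_one.mp h6)
    have h5 : p ^ k ∣ p ^ j := h4.dvd_of_dvd_mul_right h2
    exact h5.mul_right t'
  · rintro ⟨t', rfl⟩
    rw [gs_mul]
    obtain ⟨y, hy⟩ := gs_prime_pow hp2 hc u k
    have h3 : p ^ k + p ^ (k + c) * y = p ^ k * (1 + p ^ c * y) := by ring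
    rw [hy, h3, mul_assoc]
    exact dvd_mul_right _ _

end Cfsg.Agent.H22.MetaNum
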