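import Cfsg.Prelude.Def_OddOrderLocal
import Cfsg.Agent.H22_MetaNum
import Cfsg.Agent.H22_Basic

/-! metacyclic `p`-groups, `p` odd -/

set_option autoImplicit false
set_option linter.unusedSectionVars false

namespace Cfsg.Agent.H22.Meta

open Subgroup H22.MetaNum

structure Data (p : ℕ) (G : Type*) [Group G] where
  (a b : G)
  (c n u : ℕ)
  hc : n ≠ 0 → 1 ≤ c
  hu : n ≠ 0 → u.Coprime p
  orda : orderOf a = p ^ (c + n)
  conj : b⁻¹ * a * b = a ^ (1 + p ^ c * u)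
  gen : ∀ x : G, ∃ i j : ℕ, x = b ^ i * a ^ j

theorem exists_data {G : Type*} [Group G] [Finite G] {p : ℕ} [hp : Fact p.Prime]
    (hG : IsPGroup p G) (hmc : Cfsg.IsMetacyclic G) : Nonempty (Data p G) := by
  obtain ⟨N, hN, hNc, hQ⟩ := hmc
  obtain ⟨⟨a, haN⟩, ha⟩ := hNc.exists_generator
  obtain ⟨bq, hbq⟩ := hQ.exists_generator
  obtain ⟨b, rfl⟩ := QuotientGroup.mk_surjective bq
  have hmemN : ∀ x ∈ N, ∃ j : ℕ, x = a ^ j := by
    intro x hx
    have h1 := ha ⟨x, hx⟩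
    rw [← mem_powers_iff_mem_zpowers] at h1
    obtain ⟨j, hj⟩ := h1
    exact ⟨j, (congrArg Subtype.val hj).symm⟩
  have hgen : ∀ x : G, ∃ i j : ℕ, x = b ^ i * a ^ j := by
    intro x
    have h1 := hbq (QuotientGroup.mk x)
    rw [← mem_powers_iff_mem_zpowers] at h1
    obtain ⟨i, hi⟩ := h1
    have h2 : (b ^ i)⁻¹ * x ∈ N := by
      rw [← QuotientGroup.eq]
      exact hi
    obtain ⟨j, hj⟩ := hmemN _ h2
    exact ⟨i, j, by rw [← hj]; group⟩
  obtain ⟨m, hm⟩ := (IsPGroup.iff_orderOf.mp hG) a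
  obtain ⟨s₀, hs₀⟩ := hmemN (b⁻¹ * a * b) (by simpa using hN.conj_mem a haN b⁻¹)
  by_cases hcomm : b⁻¹ * a * b = a
  · exact ⟨{ a := a, b := b, c := m, n := 0, u := 0
             hc := fun h => absurd rfl h, hu := fun h => absurd rfl h
             orda := by rw [hm, add_zero], conj := by rw [hcomm]; simp
             gen := hgen }⟩
  -- non commuting case
  have hpow : ∀ k : ℕ, (b ^ k)⁻¹ * a * b ^ k = a ^ (s₀ ^ k) := by
    intro k
    induction k with
    | zero => simp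
    | succ k ih =>
      have h1 : (b ^ (k + 1))⁻¹ * a * b ^ (k + 1) = b⁻¹ * ((b ^ k)⁻¹ * a * b ^ k) * b := by
        rw [pow_succ]; group
      have h2 : b⁻¹ * (a ^ s₀ ^ k) * b = (b⁻¹ * a * b) ^ (s₀ ^ k) := by
        have := conj_pow (i := s₀ ^ k) (a := b⁻¹) (b := a)
        rw [inv_inv] at this
        exact this.symm
      rw [h1, ih, h2, hs₀, ← pow_mul, pow_succ, mul_comm]
  obtain ⟨e, he⟩ := (IsPGroup.iff_orderOf.mp hG) b
  have h1 : a ^ (s₀ ^ (p ^ e)) = a := by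
    rw [← hpow, ← he, pow_orderOf_eq_one]; simp
  have hm0 : m ≠ 0 := by
    rintro rfl
    rw [pow_zero, orderOf_eq_one_iff] at hm
    rw [hm] at hcomm
    exact hcomm (by simp)
  -- `s₀ ≡ 1 mod p`
  have h2 : s₀ ^ (p ^ e) ≡ 1 [MOD p ^ m] := by
    rw [← hm, ← pow_eq_pow_iff_modEq, pow_one, h1]
  have h3 : s₀ ^ (p ^ e) ≡ 1 [MOD p] := h2.of_dvd (dvd_pow_self p hm0)
  have h4 : s₀ ≡ 1 [MOD p] := by
    rw [← ZMod.natCast_eq_natCast_iff] at h3 ⊢
    push_cast at h3 ⊢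
    rwa [ZMod.pow_card_pow] at h3
  have hs1 : 1 ≤ s₀ := by
    rcases Nat.eq_zero_or_pos s₀ with h | h
    · exfalso
      rw [h] at h4
      have := (Nat.modEq_iff_dvd' (Nat.zero_le 1)).mp h4
      exact hp.out.one_lt.ne' (Nat.dvd_one.mp this)
    · exact h
  obtain ⟨d, rfl⟩ : ∃ d, s₀ = 1 + d := ⟨s₀ - 1, by omega⟩
  have hd0 : d ≠ 0 := by
    rintro rfl
    apply hcomm
    rw [hs₀]; simp
  obtain ⟨c, u, hu, rfl⟩ := Nat.exists_eq_pow_mul_and_not_dvd hd0 p hp.out.ne_one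
  have hcm : c < m := by
    by_contra h
    push Not at h
    apply hcomm
    rw [hs₀, pow_add, pow_one]
    have : a ^ (p ^ c * u) = 1 := by
      rw [← orderOf_dvd_iff_pow_eq_one, hm]
      exact (pow_dvd_pow p h).mul_right u
    rw [this, mul_one]
  have hc1 : 1 ≤ c := by
    by_contra h
    have hc0 : c = 0 := by omega
    subst hc0
    have h5 := (Nat.modEq_iff_dvd' (by omega : 1 ≤ 1 + p ^ 0 * u)).mp h4.symm
    apply hu
    simpa using h5
  exact ⟨{ a := a, b := b, c := c, n := m - c, u := u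
           hc := fun _ => hc1
           hu := fun _ => ((hp.out.coprime_iff_not_dvd).mpr hu).symm
           orda := by rw [hm]; congr 1; omega
           conj := hs₀
           gen := hgen }⟩

variable {G : Type*} [Group G] {p : ℕ} (D : Data p G)

namespace Data

/-- the exponent `s` -/
def s : ℕ := 1 + p ^ D.c * D.u

theorem conj_a : D.b⁻¹ * D.a * D.b = D.a ^ D.s := D.conj

theorem a_pow_mul_b (j : ℕ) : D.a ^ j * D.b = D.b * D.a ^ (D.s * j) := by
  rw [pow_mul, ← D.conj_a]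
  have := conj_pow (i := j) (a := D.b⁻¹) (b := D.a)
  rw [inv_inv] at this
  rw [this]; group

theorem a_pow_mul_b_pow (j k : ℕ) : D.a ^ j * D.b ^ k = D.b ^ k * D.a ^ (j * D.s ^ k) := by
  induction k with
  | zero => simp
  | succ k ih =>
    rw [pow_succ, ← mul_assoc, ih, mul_assoc, a_pow_mul_b, mul_assoc]
    congr 3
    rw [pow_succ]; ring

theorem mul_mk (i j k l : ℕ) : (D.b ^ i * D.a ^ j) * (D.b ^ k * D.a ^ l) =
    D.b ^ (i + k) * D.a ^ (j * D.s ^ k + l) := by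
  calc (D.b ^ i * D.a ^ j) * (D.b ^ k * D.a ^ l) = D.b ^ i * (D.a ^ j * D.b ^ k) * D.a ^ l := by group
    _ = D.b ^ i * (D.b ^ k * D.a ^ (j * D.s ^ k)) * D.a ^ l := by rw [a_pow_mul_b_pow]
    _ = D.b ^ (i + k) * D.a ^ (j * D.s ^ k + l) := by rw [pow_add, pow_add]; group

theorem s_pow (k : ℕ) : D.s ^ k = 1 + p ^ D.c * D.u * gs D.s k := pow_eq _ _

theorem pow_mk (i j t : ℕ) : (D.b ^ i * D.a ^ j) ^ t = D.b ^ (i * t) * D.a ^ (j * gs (D.s ^ i) t) := by
  induction t with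
  | zero => simp [gs_zero]
  | succ t ih =>
    rw [pow_succ', ih, mul_mk]
    congr 2
    · ring
    · rw [gs_succ, pow_mul]; ring

variable [hp : Fact p.Prime]

instance : NeZero (p ^ D.n) := ⟨pow_ne_zero _ hp.out.ne_zero⟩

theorem isUnit_u : IsUnit ((D.u : ℕ) : ZMod (p ^ D.n)) := by
  by_cases hn : D.n = 0
  · have : Subsingleton (ZMod (p ^ D.n)) := by rw [hn, pow_zero]; infer_instance
    exact isUnit_of_subsingleton _
  · rw [ZMod.isUnit_iff_coprime]
    exact (D.hu hn).pow_right _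

theorem natCast_zmod_zero_iff (x : ℕ) : ((x : ℕ) : ZMod (p ^ D.n)) = 0 ↔ p ^ D.n ∣ x :=
  ZMod.natCast_eq_zero_iff _ _

/-- `a ^ x = a ^ y` for exponents multiples of `p^c` -/
theorem a_pow_eq_iff (x z w : ℕ) : D.a ^ (x + p ^ D.c * z) = D.a ^ (x + p ^ D.c * w) ↔
    ((z : ℕ) : ZMod (p ^ D.n)) = w := by
  rw [pow_eq_pow_iff_modEq, D.orda, ZMod.natCast_eq_natCast_iff, pow_add]
  constructor
  · intro h
    have h1 := Nat.ModEq.add_left_cancel' x h
    exact Nat.ModEq.mul_left_cancel' (pow_ne_zero _ hp.out.ne_zero) h1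
  · intro h
    exact (Nat.ModEq.mul_left' _ h).add_left x

theorem commute_mk_iff (i j k l : ℕ) :
    (D.b ^ i * D.a ^ j) * (D.b ^ k * D.a ^ l) = (D.b ^ k * D.a ^ l) * (D.b ^ i * D.a ^ j) ↔
    (j : ZMod (p ^ D.n)) * gs D.s k = l * gs D.s i := by
  rw [mul_mk, mul_mk, Nat.add_comm k i, mul_right_inj]
  have h1 : j * D.s ^ k + l = (j + l) + p ^ D.c * (D.u * j * gs D.s k) := by rw [s_pow]; ring
  have h2 : l * D.s ^ i + j = (j + l) + p ^ D.c * (D.u * l * gs D.s i) := by rw [s_pow]; ring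
  rw [h1, h2, a_pow_eq_iff D (j + l)]
  push_cast
  rw [mul_assoc, mul_assoc, D.isUnit_u.mul_right_inj]

theorem gs_eq_zero_iff (hp2 : p ≠ 2) (k : ℕ) :
    ((gs D.s k : ℕ) : ZMod (p ^ D.n)) = 0 ↔ ((k : ℕ) : ZMod (p ^ D.n)) = 0 := by
  by_cases hn : D.n = 0
  · have : Subsingleton (ZMod (p ^ D.n)) := by rw [hn, pow_zero]; infer_instance
    exact ⟨fun _ => Subsingleton.elim _ _, fun _ => Subsingleton.elim _ _⟩
  · rw [natCast_zmod_zero_iff, natCast_zmod_zero_iff]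
    exact pow_dvd_gs_iff hp2 (D.hc hn) D.u D.n k

theorem s_pow_cast (k : ℕ) : (D.s : ZMod (p ^ D.n)) ^ k =
    1 + (p ^ D.c * D.u : ℕ) * (gs D.s k : ZMod (p ^ D.n)) := by
  have := congrArg (Nat.cast : ℕ → ZMod (p ^ D.n)) (D.s_pow k)
  push_cast at this ⊢
  exact this

theorem wd_aux (i j k l : ℕ) (hik : i ≤ k) (h : D.b ^ i * D.a ^ j = D.b ^ k * D.a ^ l) :
    ((gs D.s i : ℕ) : ZMod (p ^ D.n)) = gs D.s k ∧ (j : ZMod (p ^ D.n)) = l := by
  obtain ⟨t, rfl⟩ := Nat.exists_eq_add_of_le hik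
  have h1 : D.a ^ j = D.b ^ t * D.a ^ l := by
    rw [pow_add, mul_assoc] at h
    exact mul_left_cancel h
  constructor
  · have h2 := (D.commute_mk_iff t l 0 1).mp (by
      rw [← h1, pow_zero, one_mul, pow_one]
      exact (pow_mul_comm' D.a j))
    rw [gs_zero] at h2
    simp only [Nat.cast_zero, mul_zero, Nat.cast_one, one_mul] at h2
    rw [gs_add]
    push_cast
    rw [s_pow_cast, ← h2]; ring
  · have h3 : D.a ^ (D.s * j) = D.b ^ t * D.a ^ (D.s * l) := by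
      have h4 : D.b * D.a ^ (D.s * j) = D.b * (D.b ^ t * D.a ^ (D.s * l)) := by
        rw [← a_pow_mul_b, h1, mul_assoc, a_pow_mul_b, ← mul_assoc, ← mul_assoc, ← pow_succ, ← pow_succ']
      exact mul_left_cancel h4
    have e1 : D.s * j = j + p ^ D.c * (D.u * j) := by unfold Data.s; ring
    have e2 : D.s * l = l + p ^ D.c * (D.u * l) := by unfold Data.s; ring
    rw [e1, e2, pow_add D.a l (p ^ D.c * (D.u * l)), ← mul_assoc (D.b ^ t), ← h1, ← pow_add,
      a_pow_eq_iff] at h3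
    push_cast at h3
    exact D.isUnit_u.mul_left_cancel h3

theorem wd (i j k l : ℕ) (h : D.b ^ i * D.a ^ j = D.b ^ k * D.a ^ l) :
    ((gs D.s i : ℕ) : ZMod (p ^ D.n)) = gs D.s k ∧ (j : ZMod (p ^ D.n)) = l := by
  rcases le_total i k with hik | hik
  · exact D.wd_aux i j k l hik h
  · obtain ⟨h1, h2⟩ := D.wd_aux k l i j hik h.symm
    exact ⟨h1.symm, h2.symm⟩

/-- the target module -/
abbrev V : Type := ZMod (p ^ D.n) × ZMod (p ^ D.n)

/-- the crossed homomorphism -/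
noncomputable def φ (x : G) : D.V :=
  (((gs D.s (D.gen x).choose : ℕ) : ZMod (p ^ D.n)), (((D.gen x).choose_spec.choose : ℕ) : ZMod (p ^ D.n)))

theorem φ_mk (i j : ℕ) : D.φ (D.b ^ i * D.a ^ j) =
    (((gs D.s i : ℕ) : ZMod (p ^ D.n)), ((j : ℕ) : ZMod (p ^ D.n))) := by
  have h := (D.gen (D.b ^ i * D.a ^ j)).choose_spec.choose_spec
  obtain ⟨h1, h2⟩ := D.wd _ _ _ _ h
  unfold φ
  rw [← h1, ← h2]

/-- the multiplier -/
noncomputable def χ (x : G) : ZMod (p ^ D.n) := 1 + (p ^ D.c * D.u : ℕ) * (D.φ x).1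

theorem χ_mk (i j : ℕ) : D.χ (D.b ^ i * D.a ^ j) = (D.s : ZMod (p ^ D.n)) ^ i := by
  unfold χ
  rw [φ_mk, s_pow_cast]

theorem φ_mul (x y : G) : D.φ (x * y) = D.χ y • D.φ x + D.φ y := by
  obtain ⟨i, j, rfl⟩ := D.gen x
  obtain ⟨k, l, rfl⟩ := D.gen y
  rw [mul_mk, φ_mk, φ_mk, φ_mk, χ_mk, gs_add]
  ext
  · simp; ring
  · simp; ring

theorem isUnit_χ (x : G) : IsUnit (D.χ x) := by
  obtain ⟨i, j, rfl⟩ := D.gen x
  rw [χ_mk]
  apply IsUnit.pow
  by_cases hn : D.n = 0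
  · have : Subsingleton (ZMod (p ^ D.n)) := by rw [hn, pow_zero]; infer_instance
    exact isUnit_of_subsingleton _
  · rw [ZMod.isUnit_iff_coprime]
    apply Nat.Coprime.pow_right
    apply Nat.Coprime.symm
    rw [hp.out.coprime_iff_not_dvd]
    intro hd
    have h1 : p ∣ p ^ D.c * D.u := (dvd_pow_self p (by have := D.hc hn; omega)).mul_right _
    have h2 := (Nat.dvd_add_left h1).mp hd
    exact hp.out.one_lt.ne' (Nat.dvd_one.mp h2)

/-- the alternating form -/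
def det (v w : D.V) : ZMod (p ^ D.n) := v.2 * w.1 - w.2 * v.1

theorem commute_iff (x y : G) : x * y = y * x ↔ D.det (D.φ x) (D.φ y) = 0 := by
  obtain ⟨i, j, rfl⟩ := D.gen x
  obtain ⟨k, l, rfl⟩ := D.gen y
  rw [commute_mk_iff, φ_mk, φ_mk, det, sub_eq_zero]

theorem φ_b : D.φ D.b = (1, 0) := by
  have := D.φ_mk 1 0
  rw [pow_one, pow_zero, mul_one, gs_one] at this
  rw [this]; simp

theorem φ_a : D.φ D.a = (0, 1) := by
  have := D.φ_mk 0 1
  rw [pow_one, pow_zero, one_mul, gs_zero] at this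
  rw [this]; simp

theorem φ_one : D.φ 1 = 0 := by
  have := D.φ_mk 0 0
  rw [pow_zero, pow_zero, one_mul, gs_zero] at this
  rw [this]; simp

theorem mem_center_iff (x : G) : x ∈ center G ↔ D.φ x = 0 := by
  rw [Subgroup.mem_center_iff]
  constructor
  · intro h
    have h1 := (D.commute_iff D.a x).mp (h D.a)
    have h2 := (D.commute_iff D.b x).mp (h D.b)
    rw [φ_a] at h1
    rw [φ_b] at h2
    simp only [det, one_mul, mul_zero, sub_zero, zero_mul, mul_one, zero_sub, neg_eq_zero] at h1 h2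
    exact Prod.ext h1 h2
  · intro h y
    rw [D.commute_iff, h]
    simp [det]

theorem φ_eq_iff (x y : G) : D.φ x = D.φ y ↔ x * y⁻¹ ∈ center G := by
  have h := D.φ_mul (x * y⁻¹) y
  rw [inv_mul_cancel_right] at h
  rw [mem_center_iff D]
  constructor
  · intro h1
    rw [h1] at h
    have h2 : D.χ y • D.φ (x * y⁻¹) = 0 := by
      have := h.symm
      rwa [add_eq_right] at this
    exact (D.isUnit_χ y).smul_eq_zero.mp h2
  · intro h1
    rw [h, h1]; simp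

end Data

end Cfsg.Agent.H22.Meta
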