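import Cfsg.Agent.H22_Meta

/-! metacyclic `p`-groups, `p` odd: duality -/

set_option autoImplicit false
set_option linter.unusedSectionVars false

namespace Cfsg.Agent.H22.Meta

open Subgroup H22.MetaNum
open scoped commutatorElement

theorem card_hom_le {A : Type*} [AddCommGroup A] [Finite A] (N : ℕ) [NeZero N] :
    Nat.card (A →+ ZMod N) ≤ Nat.card A ∧ Finite (A →+ ZMod N) := by
  have := Fintype.ofFinite A
  let f : (A →+ ZMod N) → AddChar A ℂ := fun g => (ZMod.stdAddChar (N := N)).compAddMonoidHom g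
  have hf : Function.Injective f := by
    intro g h hgh
    ext x
    have := congrFun (congrArg DFunLike.coe hgh) x
    exact ZMod.injective_stdAddChar this
  have hfin : Finite (AddChar A ℂ) := inferInstance
  refine ⟨?_, Finite.of_injective f hf⟩
  have h1 := Nat.card_le_card_of_injective f hf
  rwa [Nat.card_eq_fintype_card (α := AddChar A ℂ), AddChar.card_eq, ← Nat.card_eq_fintype_card] at h1

variable {G : Type*} [Group G] {p : ℕ} (D : Data p G) [hp : Fact p.Prime]

namespace Data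

theorem det_add_left (v v' w : D.V) : D.det (v + v') w = D.det v w + D.det v' w := by
  simp [det]; ring

theorem det_add_right (v w w' : D.V) : D.det v (w + w') = D.det v w + D.det v w' := by
  simp [det]; ring

theorem det_smul_left (z : ZMod (p ^ D.n)) (v w : D.V) : D.det (z • v) w = z * D.det v w := by
  simp [det]; ring

theorem det_smul_right (z : ZMod (p ^ D.n)) (v w : D.V) : D.det v (z • w) = z * D.det v w := by
  simp [det]; ring

theorem det_self (v : D.V) : D.det v v = 0 := by simp [det]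

theorem det_comm (v w : D.V) : D.det v w = - D.det w v := by simp [det]

theorem det_zero_left (w : D.V) : D.det 0 w = 0 := by simp [det]
theorem det_zero_right (w : D.V) : D.det w 0 = 0 := by simp [det]

theorem eq_zero_of_det (v : D.V) (h : ∀ w, D.det v w = 0) : v = 0 := by
  have h1 := h (1, 0)
  have h2 := h (0, 1)
  simp only [det, mul_one, zero_mul, sub_zero, mul_zero, one_mul, zero_sub, neg_eq_zero] at h1 h2
  exact Prod.ext h2 h1

/-- `det v` as a homomorphism -/
def detHom (v : D.V) : D.V →+ ZMod (p ^ D.n) where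
  toFun := fun w => D.det v w
  map_zero' := D.det_zero_right v
  map_add' := D.det_add_right v

/-- orthogonal complement -/
def perp (W : AddSubgroup D.V) : AddSubgroup D.V where
  carrier := {v | ∀ w ∈ W, D.det v w = 0}
  zero_mem' := fun w _ => D.det_zero_left w
  add_mem' := fun {a b} ha hb w hw => by rw [det_add_left, ha w hw, hb w hw, add_zero]
  neg_mem' := fun {a} ha w hw => by
    have := ha w hw
    show D.det (-a) w = 0
    have h : D.det (-a) w = - D.det a w := by simp [det]; ring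
    rw [h, this, neg_zero]

theorem mem_perp {W : AddSubgroup D.V} {v : D.V} : v ∈ D.perp W ↔ ∀ w ∈ W, D.det v w = 0 := Iff.rfl

instance : Finite D.V := by
  have : NeZero (p ^ D.n) := inferInstance
  infer_instance

theorem card_V : Nat.card D.V = p ^ (2 * D.n) := by
  unfold V
  rw [Nat.card_prod, Nat.card_zmod]; ring

theorem card_perp (W : AddSubgroup D.V) : Nat.card W * Nat.card (D.perp W) = Nat.card D.V := by
  have h0 : Nat.card (D.V ⧸ D.perp W) * Nat.card (D.perp W) = Nat.card D.V :=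
    (AddSubgroup.card_eq_card_quotient_mul_card_addSubgroup (D.perp W)).symm
  -- the two homs
  let f : D.V →+ (W →+ ZMod (p ^ D.n)) :=
    { toFun := fun v => (D.detHom v).comp W.subtype
      map_zero' := by ext w; exact D.det_zero_left _
      map_add' := fun a b => by ext w; exact D.det_add_left _ _ _ }
  have hfker : f.ker = D.perp W := by
    ext v
    rw [AddMonoidHom.mem_ker, mem_perp]
    constructor
    · intro h w hw
      have := DFunLike.congr_fun h (⟨w, hw⟩ : W)
      exact this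
    · intro h
      ext w
      exact h w w.2
  have h1 : Nat.card (D.V ⧸ D.perp W) ≤ Nat.card W := by
    rw [← hfker, Nat.card_congr (QuotientAddGroup.quotientKerEquivRange f).toEquiv]
    obtain ⟨hle, hfin⟩ := card_hom_le (A := W) (p ^ D.n)
    exact (Nat.card_le_card_of_injective _ (AddSubgroup.subtype_injective f.range)).trans hle
  let g : W → ((D.V ⧸ D.perp W) →+ ZMod (p ^ D.n)) := fun w =>
    QuotientAddGroup.lift (D.perp W) (D.detHom w) (by
      intro v hv
      show D.det w v = 0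
      rw [det_comm, hv w w.2, neg_zero])
  have hg : Function.Injective g := by
    intro w w' h
    apply Subtype.ext
    rw [← sub_eq_zero]
    apply D.eq_zero_of_det
    intro v
    have h2 : g w (QuotientAddGroup.mk v) = g w' (QuotientAddGroup.mk v) := by rw [h]
    have h3 : D.det w v = D.det w' v := h2
    have h4 : D.det ((w : D.V) - w') v = D.det w v - D.det w' v := by simp [det]; ring
    rw [h4, h3, sub_self]
  have h2 : Nat.card W ≤ Nat.card (D.V ⧸ D.perp W) := by
    obtain ⟨hle, hfin⟩ := card_hom_le (A := (D.V ⧸ D.perp W)) (p ^ D.n)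
    exact (Nat.card_le_card_of_injective g hg).trans hle
  rw [← h0, le_antisymm h2 h1]

theorem gs_surj (hp2 : p ≠ 2) (w : ℕ) (z : ZMod (p ^ D.n)) :
    ∃ t : ℕ, ((gs (1 + p ^ D.c * w) t : ℕ) : ZMod (p ^ D.n)) = z := by
  by_cases hn : D.n = 0
  · have : Subsingleton (ZMod (p ^ D.n)) := by rw [hn, pow_zero]; infer_instance
    exact ⟨0, Subsingleton.elim _ _⟩
  let f : Fin (p ^ D.n) → ZMod (p ^ D.n) := fun t => ((gs (1 + p ^ D.c * w) t : ℕ) : ZMod (p ^ D.n))
  have hcop : (1 + p ^ D.c * w).Coprime (p ^ D.n) := by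
    apply Nat.Coprime.pow_right
    apply Nat.Coprime.symm
    rw [hp.out.coprime_iff_not_dvd]
    intro hd
    have h1 : p ∣ p ^ D.c * w := (dvd_pow_self p (by have := D.hc hn; omega)).mul_right _
    have h2 := (Nat.dvd_add_left h1).mp hd
    exact hp.out.one_lt.ne' (Nat.dvd_one.mp h2)
  have key : ∀ a b : Fin (p ^ D.n), (a : ℕ) ≤ b → f a = f b → a = b := by
    intro a b hab h
    obtain ⟨t, ht⟩ := Nat.exists_eq_add_of_le' hab
    have h1 : ((gs (1 + p ^ D.c * w) t * (1 + p ^ D.c * w) ^ (a : ℕ) : ℕ) : ZMod (p ^ D.n)) = 0 := by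
      have h2 : f b = ((gs (1 + p ^ D.c * w) t * (1 + p ^ D.c * w) ^ (a : ℕ) : ℕ) : ZMod (p ^ D.n)) + f a := by
        show ((gs (1 + p ^ D.c * w) b : ℕ) : ZMod (p ^ D.n)) = _
        rw [ht, gs_add]; push_cast; rfl
      rw [h] at h2
      exact (right_eq_add.mp h2)
    rw [ZMod.natCast_eq_zero_iff] at h1
    have h3 := (Nat.Coprime.pow_left (a : ℕ) hcop).symm.dvd_of_dvd_mul_right h1
    rw [pow_dvd_gs_iff hp2 (D.hc hn)] at h3
    have h4 : t < p ^ D.n := by have := b.2; omega
    have h5 : t = 0 := Nat.eq_zero_of_dvd_of_lt h3 h4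
    apply Fin.ext; omega
  have hinj : Function.Injective f := by
    intro a b h
    rcases le_total (a : ℕ) b with hab | hab
    · exact key a b hab h
    · exact (key b a hab h.symm).symm
  have hbij : Function.Bijective f := by
    rw [Fintype.bijective_iff_injective_and_card]
    exact ⟨hinj, by rw [Fintype.card_fin, ZMod.card]⟩
  obtain ⟨t, ht⟩ := hbij.2 z
  exact ⟨t, ht⟩

theorem φ_surjective (hp2 : p ≠ 2) : Function.Surjective D.φ := by
  rintro ⟨z, w⟩
  obtain ⟨i, hi⟩ := D.gs_surj hp2 D.u z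
  refine ⟨D.b ^ i * D.a ^ (w.val), ?_⟩
  rw [φ_mk]
  ext
  · exact hi
  · simp

theorem φ_pow (x : G) : ∃ w : ℕ, (∀ t : ℕ, D.φ (x ^ t) =
    ((gs (1 + p ^ D.c * w) t : ℕ) : ZMod (p ^ D.n)) • D.φ x) := by
  obtain ⟨i, j, rfl⟩ := D.gen x
  refine ⟨D.u * gs D.s i, fun t => ?_⟩
  have h1 : 1 + p ^ D.c * (D.u * gs D.s i) = D.s ^ i := by rw [s_pow]; ring
  rw [h1, pow_mk, φ_mk, φ_mk, gs_mul]
  ext
  · simp; ring
  · simp; ring

theorem exists_φ_pow (hp2 : p ≠ 2) (x : G) (z : ZMod (p ^ D.n)) : ∃ t : ℕ, D.φ (x ^ t) = z • D.φ x := by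
  obtain ⟨w, hw⟩ := D.φ_pow x
  obtain ⟨t, ht⟩ := D.gs_surj hp2 w z
  exact ⟨t, by rw [hw, ht]⟩

/-- the image of a subgroup -/
def W (hp2 : p ≠ 2) (H : Subgroup G) : AddSubgroup D.V where
  carrier := D.φ '' H
  zero_mem' := ⟨1, H.one_mem, D.φ_one⟩
  add_mem' := by
    rintro _ _ ⟨x, hx, rfl⟩ ⟨y, hy, rfl⟩
    obtain ⟨t, ht⟩ := D.exists_φ_pow hp2 x (↑(D.isUnit_χ y).unit⁻¹ : ZMod (p ^ D.n))
    refine ⟨x ^ t * y, H.mul_mem (H.pow_mem hx t) hy, ?_⟩
    rw [φ_mul, ht, ← mul_smul]
    simp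
  neg_mem' := by
    rintro _ ⟨x, hx, rfl⟩
    obtain ⟨t, ht⟩ := D.exists_φ_pow hp2 x (-1)
    exact ⟨x ^ t, H.pow_mem hx t, by rw [ht]; simp⟩

theorem mem_W {hp2 : p ≠ 2} {H : Subgroup G} {v : D.V} : v ∈ D.W hp2 H ↔ ∃ x ∈ H, D.φ x = v := Iff.rfl

variable [Finite G]

theorem card_eq (hp2 : p ≠ 2) (H : Subgroup G) :
    Nat.card H = Nat.card (D.W hp2 H) * Nat.card (H ⊓ center G : Subgroup G) := by
  let K : Subgroup H := (center G).subgroupOf H
  have hK : Nat.card K = Nat.card (H ⊓ center G : Subgroup G) := by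
    have h1 : (H ⊓ center G).subgroupOf H = K := by
      ext x
      simp [K, mem_subgroupOf]
    rw [← h1, H22.Basic.card_subgroupOf_eq inf_le_left]
  have hrel : ∀ x y : H, D.φ x = D.φ y ↔ x⁻¹ * y ∈ K := by
    intro x y
    rw [eq_comm, φ_eq_iff]
    show (y : G) * (x : G)⁻¹ ∈ center G ↔ ((x⁻¹ * y : H) : G) ∈ center G
    push_cast
    constructor
    · intro h
      have := (inferInstance : (center G).Normal).conj_mem _ h (x : G)⁻¹
      simpa [mul_assoc] using this
    · intro h
      have := (inferInstance : (center G).Normal).conj_mem _ h (x : G)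
      simpa [mul_assoc] using this
  let f : H ⧸ K → D.W hp2 H := Quotient.lift (fun x : H => (⟨D.φ x, x, x.2, rfl⟩ : D.W hp2 H)) (by
    intro x y hxy
    apply Subtype.ext
    show D.φ x = D.φ y
    rw [hrel]
    exact (QuotientGroup.leftRel_apply.mp hxy))
  have hf : Function.Bijective f := by
    constructor
    · intro x y
      induction x using QuotientGroup.induction_on with | H x => ?_
      induction y using QuotientGroup.induction_on with | H y => ?_
      intro h
      have h1 : D.φ x = D.φ y := congrArg Subtype.val h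
      rw [QuotientGroup.eq]
      exact (hrel x y).mp h1
    · rintro ⟨_, x, hx, rfl⟩
      exact ⟨QuotientGroup.mk ⟨x, hx⟩, rfl⟩
  rw [Subgroup.card_eq_card_quotient_mul_card_subgroup K, hK, Nat.card_congr (Equiv.ofBijective f hf)]

theorem W_top (hp2 : p ≠ 2) : D.W hp2 ⊤ = ⊤ := by
  rw [eq_top_iff]
  intro v _
  obtain ⟨x, hx⟩ := D.φ_surjective hp2 v
  exact ⟨x, mem_top x, hx⟩

theorem card_G (hp2 : p ≠ 2) : Nat.card G = p ^ (2 * D.n) * Nat.card (center G) := by
  have h := D.card_eq hp2 ⊤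
  rw [W_top, top_inf_eq, Subgroup.card_top, AddSubgroup.card_top, card_V] at h
  exact h

theorem index_center (hp2 : p ≠ 2) : (center G).index = p ^ (2 * D.n) := by
  have h1 := (center G).card_mul_index
  have h2 := D.card_G hp2
  rw [h2, mul_comm] at h1
  exact Nat.eq_of_mul_eq_mul_right Nat.card_pos h1

theorem mem_centralizer (H : Subgroup G) (hp2 : p ≠ 2) (x : G) :
    x ∈ centralizer (H : Set G) ↔ D.φ x ∈ D.perp (D.W hp2 H) := by
  rw [mem_centralizer_iff, mem_perp]
  constructor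
  · rintro h _ ⟨y, hy, rfl⟩
    exact (D.commute_iff x y).mp (h y hy).symm
  · intro h y hy
    exact ((D.commute_iff x y).mpr (h _ ⟨y, hy, rfl⟩)).symm

theorem W_centralizer (hp2 : p ≠ 2) (H : Subgroup G) :
    D.W hp2 (centralizer (H : Set G)) = D.perp (D.W hp2 H) := by
  ext v
  constructor
  · rintro ⟨x, hx, rfl⟩
    exact (D.mem_centralizer H hp2 x).mp hx
  · intro hv
    obtain ⟨x, rfl⟩ := D.φ_surjective hp2 v
    exact ⟨x, (D.mem_centralizer H hp2 x).mpr hv, rfl⟩

include D in
/-- the duality -/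
theorem duality (hp2 : p ≠ 2) (H : Subgroup G) :
    Nat.card H * Nat.card (centralizer (H : Set G)) =
      Nat.card G * Nat.card (H ⊓ center G : Subgroup G) := by
  have h1 := D.card_eq hp2 H
  have h2 := D.card_eq hp2 (centralizer (H : Set G))
  have h3 : centralizer (H : Set G) ⊓ center G = center G := inf_eq_right.mpr (center_le_centralizer _)
  rw [W_centralizer, h3] at h2
  rw [h1, h2, D.card_G hp2, ← D.card_V, ← D.card_perp (D.W hp2 H)]
  ring

theorem commutator_le : commutator G ≤ zpowers (D.a ^ p ^ D.c) := by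
  rw [_root_.commutator_def, Subgroup.commutator_le]
  intro x _ y _
  have key : ∀ x y : G, (y * x)⁻¹ * (x * y) ∈ zpowers (D.a ^ p ^ D.c) := by
    intro x y
    obtain ⟨i, j, rfl⟩ := D.gen x
    obtain ⟨k, l, rfl⟩ := D.gen y
    rw [mul_mk, mul_mk, Nat.add_comm k i]
    have h1 : j * D.s ^ k + l = p ^ D.c * (D.u * j * gs D.s k) + (j + l) := by rw [s_pow]; ring
    have h2 : l * D.s ^ i + j = p ^ D.c * (D.u * l * gs D.s i) + (j + l) := by rw [s_pow]; ring
    rw [h1, h2]
    generalize D.u * j * gs D.s k = X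
    generalize D.u * l * gs D.s i = Y
    rw [mem_zpowers_iff]
    refine ⟨(X : ℤ) - Y, ?_⟩
    have h3 : (D.b ^ (i + k) * D.a ^ (p ^ D.c * Y + (j + l)))⁻¹ *
        (D.b ^ (i + k) * D.a ^ (p ^ D.c * X + (j + l))) =
        (D.a ^ (p ^ D.c * Y + (j + l)))⁻¹ * D.a ^ (p ^ D.c * X + (j + l)) := by group
    rw [h3, ← zpow_natCast, ← zpow_natCast, ← zpow_natCast, ← zpow_neg, ← zpow_add, ← zpow_mul]
    congr 1
    push_cast
    ring
  have h := key x⁻¹ y⁻¹
  have e : (y⁻¹ * x⁻¹)⁻¹ * (x⁻¹ * y⁻¹) = ⁅x, y⁆ := by rw [commutatorElement_def]; group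
  rwa [e] at h

theorem commutator_eq : commutator G = zpowers (D.a ^ p ^ D.c) := by
  apply le_antisymm D.commutator_le
  rw [zpowers_le]
  have h1 : D.a ^ (p ^ D.c * D.u) ∈ commutator G := by
    have h2 : D.a ^ (p ^ D.c * D.u) = ⁅D.a⁻¹, D.b⁻¹⁆ := by
      have h3 : D.b⁻¹ * D.a * D.b = D.a * D.a ^ (p ^ D.c * D.u) := by
        rw [D.conj_a]; unfold Data.s; rw [pow_add, pow_one]
      calc D.a ^ (p ^ D.c * D.u) = D.a⁻¹ * (D.a * D.a ^ (p ^ D.c * D.u)) := by group
        _ = D.a⁻¹ * (D.b⁻¹ * D.a * D.b) := by rw [h3]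
        _ = ⁅D.a⁻¹, D.b⁻¹⁆ := by rw [commutatorElement_def]; group
    rw [h2, _root_.commutator_def]
    exact commutator_mem_commutator (mem_top _) (mem_top _)
  obtain ⟨v, hv⟩ := D.isUnit_u.exists_right_inv
  have h2 : D.a ^ p ^ D.c = (D.a ^ (p ^ D.c * D.u)) ^ v.val := by
    have h3 := (D.a_pow_eq_iff 0 1 (D.u * v.val)).mpr (by
      push_cast
      rw [ZMod.natCast_val, ZMod.cast_id', id, hv])
    rw [zero_add, zero_add, mul_one] at h3
    rw [h3, ← pow_mul, mul_assoc]
  rw [h2]
  exact pow_mem h1 _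

theorem card_commutator : Nat.card (commutator G) = p ^ D.n := by
  rw [commutator_eq D, Nat.card_zpowers]
  have h := orderOf_pow_of_dvd (x := D.a) (n := p ^ D.c) (pow_ne_zero _ hp.out.ne_zero)
    (by rw [D.orda]; exact pow_dvd_pow p (Nat.le_add_right _ _))
  rw [h, D.orda, pow_add, Nat.mul_div_cancel_left _ (pow_pos hp.out.pos _)]

end Data

end Cfsg.Agent.H22.Meta
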