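import Cfsg.Agent.H22_Meta2
import Cfsg.Agent.H1_Nilp

/-! metacyclic `p`-groups, `p` odd: consequences -/

set_option autoImplicit false
set_option linter.unusedSectionVars false

namespace Cfsg.Agent.H22.Meta

open Subgroup H22.MetaNum
open scoped commutatorElement

theorem isMetacyclic_subgroup {G : Type*} [Group G] (h : Cfsg.IsMetacyclic G) (K : Subgroup G) :
    Cfsg.IsMetacyclic K := by
  obtain ⟨N, hN, hNc, hQ⟩ := h
  refine ⟨N.subgroupOf K, inferInstance, ?_, ?_⟩
  · exact isCyclic_of_injective (K.subtype.subgroupComap N) (by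
      intro x y hxy
      apply Subtype.ext
      apply Subtype.ext
      exact congrArg (fun z : N => (z : G)) hxy)
  · refine isCyclic_of_injective (QuotientGroup.map (N.subgroupOf K) N K.subtype le_rfl) ?_
    rw [injective_iff_map_eq_one]
    intro x
    induction x using QuotientGroup.induction_on with | H x => ?_
    intro hx
    have h1 : (QuotientGroup.mk (x : G) : G ⧸ N) = 1 := hx
    rw [QuotientGroup.eq_one_iff] at h1
    rw [QuotientGroup.eq_one_iff]
    exact h1

variable {G : Type*} [Group G] [Finite G] {p : ℕ} [hp : Fact p.Prime]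

theorem pow_mem_of_isCoatom (hG : IsPGroup p G) {M : Subgroup G} (hM : IsCoatom M) (x : G) :
    x ^ p ∈ M := by
  obtain ⟨hn, hi⟩ := H1.Nilp.index_eq_of_isCoatom_pgroup hG hM
  rw [← hi]
  exact pow_index_mem M x

/-- in a nonabelian metacyclic `p`-group a central element is in every maximal subgroup -/
theorem center_le_of_isCoatom (hG : IsPGroup p G) (hmc : Cfsg.IsMetacyclic G)
    (hna : ¬ IsMulCommutative G) {M : Subgroup G} (hM : IsCoatom M) : center G ≤ M := by
  obtain ⟨D⟩ := exists_data hG hmc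
  intro x hx
  obtain ⟨i, j, rfl⟩ := D.gen x
  have hcen := mem_center_iff.mp hx
  -- if `a`, `b` commute then abelian
  have habc : D.a * D.b = D.b * D.a → False := by
    intro h
    apply hna
    refine ⟨⟨fun x y => ?_⟩⟩
    obtain ⟨i, j, rfl⟩ := D.gen x
    obtain ⟨k, l, rfl⟩ := D.gen y
    have hc : Commute D.a D.b := h
    have h1 : Commute (D.b ^ i) (D.b ^ k * D.a ^ l) :=
      (Commute.refl D.b).pow_pow _ _ |>.mul_right (hc.symm.pow_pow _ _)
    have h2 : Commute (D.a ^ j) (D.b ^ k * D.a ^ l) :=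
      (hc.pow_pow _ _).mul_right ((Commute.refl D.a).pow_pow _ _)
    exact (h1.mul_left h2).eq
  -- coprime power trick
  have hcop : ∀ (g h : G) (k : ℕ), ¬ p ∣ k → g ^ k * h = h * g ^ k → g * h = h * g := by
    intro g h k hk hc
    obtain ⟨e, he⟩ := (IsPGroup.iff_orderOf.mp hG) g
    have hco : (orderOf g).Coprime k := by
      rw [he]; exact ((hp.out.coprime_iff_not_dvd).mpr hk).pow_left e
    obtain ⟨m, hm⟩ := exists_pow_eq_self_of_coprime hco.symm
    have h1 : Commute (g ^ k) h := hc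
    have h2 := h1.pow_left m
    rw [hm] at h2
    exact h2.eq
  have hj : p ∣ j := by
    by_contra hj
    apply habc
    apply hcop D.a D.b j hj
    have h1 := hcen D.b
    have h2 : D.b ^ i * (D.b * D.a ^ j) = D.b ^ i * (D.a ^ j * D.b) := by
      calc D.b ^ i * (D.b * D.a ^ j) = D.b * (D.b ^ i * D.a ^ j) := by group
        _ = D.b ^ i * (D.a ^ j * D.b) := by rw [h1]; group
    exact (mul_left_cancel h2).symm
  have hi : p ∣ i := by
    by_contra hi
    apply habc
    apply Eq.symm
    apply hcop D.b D.a i hi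
    have h1 := hcen D.a
    have h2 : (D.a * D.b ^ i) * D.a ^ j = (D.b ^ i * D.a) * D.a ^ j := by
      calc (D.a * D.b ^ i) * D.a ^ j = D.a * (D.b ^ i * D.a ^ j) := by group
        _ = D.b ^ i * (D.a ^ j * D.a) := by rw [h1]; group
        _ = D.b ^ i * (D.a * D.a ^ j) := by rw [← pow_succ, ← pow_succ']
        _ = (D.b ^ i * D.a) * D.a ^ j := by group
    exact (mul_right_cancel h2).symm
  obtain ⟨i', rfl⟩ := hi
  obtain ⟨j', rfl⟩ := hj
  rw [mul_comm p i', mul_comm p j', pow_mul, pow_mul]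
  exact M.mul_mem (pow_mem_of_isCoatom hG hM _) (pow_mem_of_isCoatom hG hM _)

/-- nonabelian subgroups contain their centralizers -/
theorem centralizer_le (hG : IsPGroup p G) (hmc : Cfsg.IsMetacyclic G) (H : Subgroup G)
    (hna : ¬ IsMulCommutative H) : centralizer (H : Set G) ≤ H := by
  intro x hx
  by_contra hxH
  set K : Subgroup G := H ⊔ zpowers x with hK
  have hHK : H ≤ K := le_sup_left
  have hxK : x ∈ K := (le_sup_right : zpowers x ≤ K) (mem_zpowers x)
  have hlt : H.subgroupOf K < ⊤ := by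
    rw [lt_top_iff_ne_top]
    intro h
    rw [subgroupOf_eq_top] at h
    exact hxH (h hxK)
  obtain ⟨M, hM, hle⟩ := (eq_top_or_exists_le_coatom (H.subgroupOf K)).resolve_left hlt.ne
  have hKna : ¬ IsMulCommutative K := by
    intro h
    apply hna
    refine ⟨⟨fun a b => ?_⟩⟩
    have := h.is_comm.comm ⟨a, hHK a.2⟩ ⟨b, hHK b.2⟩
    have h1 := congrArg Subtype.val this
    exact Subtype.ext h1
  have hxc : (⟨x, hxK⟩ : K) ∈ center K := by
    rw [mem_center_iff]
    rintro ⟨y, hy⟩
    apply Subtype.ext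
    show y * x = x * y
    have hle2 : K ≤ centralizer ({x} : Set G) := by
      apply sup_le
      · intro h hh
        rw [mem_centralizer_iff]
        rintro _ rfl
        exact (mem_centralizer_iff.mp hx h hh).symm
      · rw [zpowers_le, mem_centralizer_iff]
        rintro _ rfl
        rfl
    exact (mem_centralizer_iff.mp (hle2 hy) x rfl).symm
  have hxM := center_le_of_isCoatom (hG.to_subgroup K) (isMetacyclic_subgroup hmc K) hKna hM hxc
  apply hM.1
  rw [eq_top_iff]
  have h1 : K ≤ M.map K.subtype := by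
    apply sup_le
    · intro h hh
      exact ⟨⟨h, hHK hh⟩, hle hh, rfl⟩
    · rw [zpowers_le]
      exact ⟨_, hxM, rfl⟩
  intro y _
  obtain ⟨z, hz, hzy⟩ := h1 y.2
  have : z = y := Subtype.ext hzy
  exact this ▸ hz

theorem center_le (hG : IsPGroup p G) (hmc : Cfsg.IsMetacyclic G) (H : Subgroup G)
    (hna : ¬ IsMulCommutative H) : center G ≤ H :=
  (center_le_centralizer _).trans (centralizer_le hG hmc H hna)

/-- `|G : G'| = |Z| p^n` and so on -/
theorem index_commutator (hp2 : p ≠ 2) (D : Data p G) :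
    (commutator G).index = Nat.card (center G) * p ^ D.n := by
  have h1 := (commutator G).card_mul_index
  rw [D.card_commutator, D.card_G hp2] at h1
  have h2 : p ^ D.n * (commutator G).index = p ^ D.n * (Nat.card (center G) * p ^ D.n) := by
    rw [h1, two_mul, pow_add]; ring
  exact Nat.eq_of_mul_eq_mul_left (pow_pos hp.out.pos _) h2

theorem index_sq (hp2 : p ≠ 2) (D : Data p G) :
    (commutator G).index ^ 2 = Nat.card G * Nat.card (center G) := by
  rw [index_commutator hp2, D.card_G hp2, two_mul, pow_add]; ring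

theorem le_centralizer_self {L : Subgroup G} (h : IsMulCommutative L) : L ≤ centralizer (L : Set G) := by
  intro x hx
  rw [mem_centralizer_iff]
  intro y hy
  exact congrArg Subtype.val (h.is_comm.comm ⟨y, hy⟩ ⟨x, hx⟩)

/-- abelian subgroups have order at most `|G:G'|` -/
theorem card_le_of_abelian (hp2 : p ≠ 2) (D : Data p G) {L : Subgroup G} (h : IsMulCommutative L) :
    Nat.card L ≤ (commutator G).index := by
  have h1 := D.duality hp2 L
  have h2 : Nat.card L ≤ Nat.card (centralizer (L : Set G)) := H22.Basic.card_le_of_le (le_centralizer_self h)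
  have h3 : Nat.card (L ⊓ center G : Subgroup G) ≤ Nat.card (center G) := H22.Basic.card_le_of_le inf_le_right
  have h4 := index_sq hp2 D
  have h5 : Nat.card L ^ 2 ≤ (commutator G).index ^ 2 := by
    rw [h4, sq]
    calc Nat.card L * Nat.card L ≤ Nat.card L * Nat.card (centralizer (L : Set G)) :=
          Nat.mul_le_mul_left _ h2
      _ = Nat.card G * Nat.card (L ⊓ center G : Subgroup G) := h1
      _ ≤ _ := Nat.mul_le_mul_left _ h3
  exact (Nat.pow_le_pow_iff_left (by norm_num)).mp h5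

/-- nonabelian subgroups are large -/
theorem lt_card_of_nonabelian (hp2 : p ≠ 2) (hG : IsPGroup p G) (hmc : Cfsg.IsMetacyclic G)
    (D : Data p G) {L : Subgroup G} (h : ¬ IsMulCommutative L) :
    (commutator G).index < Nat.card L ∧
      Nat.card L * Nat.card (centralizer (L : Set G)) = (commutator G).index ^ 2 := by
  have h1 := D.duality hp2 L
  have hc := centralizer_le hG hmc L h
  have hz := center_le hG hmc L h
  rw [inf_eq_right.mpr hz] at h1
  rw [← index_sq hp2 D] at h1
  refine ⟨?_, h1⟩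
  have h2 : Nat.card (centralizer (L : Set G)) < Nat.card L := by
    apply H22.Basic.card_lt_of_lt
    refine lt_of_le_of_ne hc fun h3 => h ?_
    refine ⟨⟨fun a b => ?_⟩⟩
    apply Subtype.ext
    have h4 : (b : G) ∈ centralizer (L : Set G) := h3.ge b.2
    exact mem_centralizer_iff.mp h4 a a.2
  have h3 : (commutator G).index ^ 2 < Nat.card L ^ 2 := by
    rw [← h1, sq (Nat.card L)]
    exact Nat.mul_lt_mul_of_pos_left h2 Nat.card_pos
  exact (Nat.pow_lt_pow_iff_left (by norm_num)).mp h3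

theorem abelian_iff (hp2 : p ≠ 2) (hG : IsPGroup p G) (hmc : Cfsg.IsMetacyclic G)
    (L : Subgroup G) : IsMulCommutative L ↔ Nat.card L ≤ (commutator G).index := by
  obtain ⟨D⟩ := exists_data hG hmc
  constructor
  · exact card_le_of_abelian hp2 D
  · intro h
    by_contra hna
    exact absurd h (not_le_of_gt (lt_card_of_nonabelian hp2 hG hmc D hna).1)

theorem maximal_abelian_iff (hp2 : p ≠ 2) (hG : IsPGroup p G) (hmc : Cfsg.IsMetacyclic G)
    (L : Subgroup G) : Maximal (fun K : Subgroup G => IsMulCommutative K) L ↔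
      Nat.card L = (commutator G).index := by
  obtain ⟨D⟩ := exists_data hG hmc
  constructor
  · rintro ⟨hL, hmax⟩
    have hcl : centralizer (L : Set G) ≤ L := by
      intro x hx
      have h1 : IsMulCommutative (L ⊔ zpowers x : Subgroup G) := by
        have hle1 : L ≤ centralizer ((L ⊔ zpowers x : Subgroup G) : Set G) := by
          rw [Subgroup.le_centralizer_iff]
          apply sup_le (le_centralizer_self hL)
          rw [zpowers_le]; exact hx
        have hle2 : zpowers x ≤ centralizer ((L ⊔ zpowers x : Subgroup G) : Set G) := by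
          rw [Subgroup.le_centralizer_iff]
          apply sup_le
          · rw [Subgroup.le_centralizer_iff, zpowers_le]; exact hx
          · exact le_centralizer_self inferInstance
        have hle := sup_le hle1 hle2
        refine ⟨⟨fun a b => ?_⟩⟩
        apply Subtype.ext
        exact mem_centralizer_iff.mp (hle b.2) a a.2
      exact hmax h1 le_sup_left (mem_sup_right (mem_zpowers x))
    have hce : centralizer (L : Set G) = L := le_antisymm hcl (le_centralizer_self hL)
    have hz : center G ≤ L := (center_le_centralizer _).trans hcl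
    have h1 := D.duality hp2 L
    rw [hce, inf_eq_right.mpr hz, ← index_sq hp2 D, ← sq] at h1
    exact (Nat.pow_left_injective (by norm_num : 2 ≠ 0)) h1
  · intro h
    refine ⟨(abelian_iff hp2 hG hmc L).mpr h.le, fun K hK hLK => ?_⟩
    have h1 := card_le_of_abelian hp2 D hK
    rw [← h] at h1
    exact (H22.Basic.eq_of_le_of_card_le hLK h1).ge

namespace Data

variable (D : Data p G)

theorem W_zpowers (hp2 : p ≠ 2) (g : G) : D.W hp2 (zpowers g) = AddSubgroup.zmultiples (D.φ g) := by
  apply le_antisymm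
  · rintro _ ⟨x, hx, rfl⟩
    rw [SetLike.mem_coe, ← mem_powers_iff_mem_zpowers] at hx
    obtain ⟨t, rfl⟩ := hx
    obtain ⟨w, hw⟩ := D.φ_pow g
    show D.φ (g ^ t) ∈ _
    rw [hw]
    rw [AddSubgroup.mem_zmultiples_iff]
    refine ⟨(gs (1 + p ^ D.c * w) t : ℕ), ?_⟩
    rw [natCast_zsmul, ← Nat.cast_smul_eq_nsmul (ZMod (p ^ D.n))]
  · rw [AddSubgroup.zmultiples_le]
    exact ⟨g, mem_zpowers g, rfl⟩

theorem index_centralizer (hp2 : p ≠ 2) (g : G) :
    (centralizer ({g} : Set G)).index = addOrderOf (D.φ g) := by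
  have h1 := D.duality hp2 (zpowers g)
  have h2 := D.card_eq hp2 (zpowers g)
  rw [W_zpowers, Nat.card_zmultiples] at h2
  rw [h2, mul_assoc, mul_comm (Nat.card (zpowers g ⊓ center G : Subgroup G)), ← mul_assoc] at h1
  have h3 := Nat.eq_of_mul_eq_mul_right Nat.card_pos h1
  have h5 : centralizer ((zpowers g : Subgroup G) : Set G) = centralizer ({g} : Set G) := by
    rw [zpowers_eq_closure, centralizer_closure]
  rw [h5] at h3
  have h4 := (centralizer ({g} : Set G)).card_mul_index
  rw [← h3, mul_comm (addOrderOf _)] at h4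
  exact Nat.eq_of_mul_eq_mul_left Nat.card_pos h4

theorem pn_smul (v : D.V) : p ^ D.n • v = 0 := by
  rw [← Nat.cast_smul_eq_nsmul (ZMod (p ^ D.n)), ZMod.natCast_self, zero_smul]

theorem addOrderOf_le_iff (v : D.V) (k : ℕ) : addOrderOf v ≤ p ^ k ↔ p ^ k • v = 0 := by
  constructor
  · intro h
    have h1 : addOrderOf v ∣ p ^ D.n := addOrderOf_dvd_of_nsmul_eq_zero (D.pn_smul v)
    obtain ⟨j, -, hj⟩ := (Nat.dvd_prime_pow hp.out).mp h1
    rw [hj] at h
    have h2 : j ≤ k := (Nat.pow_le_pow_iff_right hp.out.one_lt).mp h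
    rw [← addOrderOf_dvd_iff_nsmul_eq_zero, hj]
    exact pow_dvd_pow p h2
  · intro h
    exact Nat.le_of_dvd (pow_pos hp.out.pos _) (addOrderOf_dvd_of_nsmul_eq_zero h)

theorem nsmul_φ_eq_zero_iff (hp2 : p ≠ 2) (i j s : ℕ) (hs : s ≤ D.n) :
    p ^ (D.n - s) • D.φ (D.b ^ i * D.a ^ j) = 0 ↔ p ^ s ∣ i ∧ p ^ s ∣ j := by
  have key : ∀ x : ℕ, p ^ (D.n - s) • ((x : ℕ) : ZMod (p ^ D.n)) = 0 ↔ p ^ s ∣ x := by
    intro x
    rw [nsmul_eq_mul, ← Nat.cast_mul, ZMod.natCast_eq_zero_iff]
    have h1 : p ^ D.n = p ^ (D.n - s) * p ^ s := by rw [← pow_add]; congr 1; omega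
    rw [h1]
    exact Nat.mul_dvd_mul_iff_left (pow_pos hp.out.pos _)
  rw [φ_mk, Prod.ext_iff]
  show p ^ (D.n - s) • ((gs D.s i : ℕ) : ZMod (p ^ D.n)) = 0 ∧
    p ^ (D.n - s) • ((j : ℕ) : ZMod (p ^ D.n)) = 0 ↔ _
  rw [key, key]
  have h2 : p ^ s ∣ gs D.s i ↔ p ^ s ∣ i := by
    by_cases hn : D.n = 0
    · have : s = 0 := by omega
      subst this; simp
    · exact pow_dvd_gs_iff hp2 (D.hc hn) D.u s i
  rw [h2]

/-- the subgroup of elements with `p^k φ = 0` -/
def K (k : ℕ) : Subgroup G where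
  carrier := {x | p ^ k • D.φ x = 0}
  one_mem' := by
    show p ^ k • D.φ 1 = 0
    rw [φ_one, smul_zero]
  mul_mem' := by
    intro x y hx hy
    show p ^ k • D.φ (x * y) = 0
    rw [φ_mul, smul_add, smul_comm, hx, hy, smul_zero, add_zero]
  inv_mem' := by
    intro x hx
    show p ^ k • D.φ x⁻¹ = 0
    have h := D.φ_mul x⁻¹ x
    rw [inv_mul_cancel, φ_one] at h
    have h1 : D.χ x • (p ^ k • D.φ x⁻¹) = 0 := by
      have h2 : p ^ k • (D.χ x • D.φ x⁻¹ + D.φ x) = 0 := by rw [← h, smul_zero]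
      rw [smul_add, hx, add_zero, smul_comm] at h2
      exact h2
    exact (D.isUnit_χ x).smul_eq_zero.mp h1

theorem mem_K {k : ℕ} {x : G} : x ∈ D.K k ↔ p ^ k • D.φ x = 0 := Iff.rfl

theorem closure_pow (hp2 : p ≠ 2) (s : ℕ) (hs : s ≤ D.n) :
    closure {x : G | ∃ y : G, y ^ p ^ s = x} = D.K (D.n - s) := by
  apply le_antisymm
  · rw [closure_le]
    rintro _ ⟨y, rfl⟩
    obtain ⟨i, j, rfl⟩ := D.gen y
    show _ ∈ D.K (D.n - s)
    rw [mem_K, pow_mk, D.nsmul_φ_eq_zero_iff hp2 _ _ s hs]
    refine ⟨dvd_mul_left _ _, ?_⟩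
    by_cases hn : D.n = 0
    · have : s = 0 := by omega
      subst this; simp
    · have h1 : D.s ^ i = 1 + p ^ D.c * (D.u * gs D.s i) := by rw [s_pow]; ring
      rw [h1]
      exact ((pow_dvd_gs_iff hp2 (D.hc hn) _ s (p ^ s)).mpr dvd_rfl).mul_left j
  · intro x hx
    rw [mem_K] at hx
    obtain ⟨i, j, rfl⟩ := D.gen x
    rw [D.nsmul_φ_eq_zero_iff hp2 _ _ s hs] at hx
    obtain ⟨⟨i', rfl⟩, ⟨j', rfl⟩⟩ := hx
    apply mul_mem
    · apply Subgroup.subset_closure
      exact ⟨D.b ^ i', by rw [← pow_mul, mul_comm]⟩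
    · apply Subgroup.subset_closure
      exact ⟨D.a ^ j', by rw [← pow_mul, mul_comm]⟩

theorem card_torsion (k : ℕ) (hk : k ≤ D.n) :
    Nat.card {z : ZMod (p ^ D.n) // p ^ k • z = 0} = p ^ k := by
  have h := IsAddCyclic.card_nsmulAddMonoidHom_ker (G := ZMod (p ^ D.n)) (p ^ k)
  rw [Nat.card_zmod, Nat.gcd_eq_right (pow_dvd_pow p hk)] at h
  exact h

theorem center_le_K (k : ℕ) : center G ≤ D.K k := by
  intro x hx
  rw [mem_K, (D.mem_center_iff x).mp hx, smul_zero]

theorem card_K (hp2 : p ≠ 2) (k : ℕ) (hk : k ≤ D.n) :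
    Nat.card (D.K k) = p ^ (2 * k) * Nat.card (center G) := by
  rw [D.card_eq hp2 (D.K k), inf_eq_right.mpr (D.center_le_K k)]
  congr 1
  have e : D.W hp2 (D.K k) ≃ {z : ZMod (p ^ D.n) // p ^ k • z = 0} × {z : ZMod (p ^ D.n) // p ^ k • z = 0} :=
    { toFun := fun v => (⟨v.1.1, by
        obtain ⟨x, hx, hv⟩ := v.2
        rw [← hv]
        exact congrArg Prod.fst (D.mem_K.mp hx)⟩, ⟨v.1.2, by
        obtain ⟨x, hx, hv⟩ := v.2
        rw [← hv]
        exact congrArg Prod.snd (D.mem_K.mp hx)⟩)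
      invFun := fun w => ⟨(w.1.1, w.2.1), by
        obtain ⟨x, hx⟩ := D.φ_surjective hp2 (w.1.1, w.2.1)
        refine ⟨x, ?_, hx⟩
        show p ^ k • D.φ x = 0
        rw [hx]
        exact Prod.ext w.1.2 w.2.2⟩
      left_inv := fun v => rfl
      right_inv := fun w => rfl }
  rw [Nat.card_congr e, Nat.card_prod, D.card_torsion k hk, two_mul, pow_add]

end Data

end Cfsg.Agent.H22.Meta
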