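import Mathlib
import Cfsg.Prelude.Def_LocalStructure
import Cfsg.Prelude.Def_Transfer
import Cfsg.Agent.H22_Basic
import Cfsg.Agent.H1_Basic
import Cfsg.Agent.H1_Hall
import Cfsg.Agent.H1_Coprime2
import Cfsg.Agent.H3_IrrMod

/-!
Minimal non-`p`-closed groups.
* `card_eq` : irreducible faithful action of a group of order `p` on an elementary abelian `q`-group `A`: `|A| = q ^ ord_p(q)`.
* `core` : structure of `P N` when all proper subgroups are `p`-closed.
-/

set_option autoImplicit false

namespace Cfsg.Agent.H22.MinPCl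

open Subgroup
open scoped commutatorElement

theorem orderOf_ne_zero {p q : ℕ} (hp : p.Prime) (hq : q.Prime) (hpq : q ≠ p) : orderOf (q : ZMod p) ≠ 0 := by
  have hf : Fact p.Prime := ⟨hp⟩
  have h1 : (q : ZMod p) ≠ 0 := by
    intro h
    rw [ZMod.natCast_eq_zero_iff] at h
    rcases (Nat.dvd_prime hq).mp h with h | h
    · exact hp.one_lt.ne' h
    · exact hpq h.symm
  intro h
  rw [orderOf_eq_zero_iff] at h
  apply h
  rw [isOfFinOrder_iff_pow_eq_one]
  exact ⟨p - 1, by have := hp.two_le; omega, ZMod.pow_card_sub_one_eq_one h1⟩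

theorem card_eq {G : Type*} [Group G] [Finite G] {p q : ℕ} (hp : p.Prime) (hq : q.Prime) (hpq : q ≠ p)
    {B A : Subgroup G} (hB : Nat.card B = p) (hA : Cfsg.IsElementaryAbelian q A) (hBA : B ≤ normalizer (A : Set G))
    (hirr : ∀ U : Subgroup G, U ≤ A → B ≤ normalizer (U : Set G) → U = ⊥ ∨ U = A)
    (hnc : ¬ B ≤ centralizer (A : Set G)) : Nat.card A = q ^ orderOf (q : ZMod p) := by
  have hfp : Fact p.Prime := ⟨hp⟩
  have hfq : Fact q.Prime := ⟨hq⟩
  set k := orderOf (q : ZMod p) with hk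
  have hk0 : k ≠ 0 := orderOf_ne_zero hp hq hpq
  have hqk : ((q ^ k : ℕ) : ZMod p) = 1 := by
    push_cast
    exact pow_orderOf_eq_one _
  have hcomm : ∀ x ∈ A, ∀ y ∈ A, x * y = y * x := by
    intro x hx y hy
    exact congrArg Subtype.val (hA.1.is_comm.comm ⟨x, hx⟩ ⟨y, hy⟩)
  have hA1 : A ≠ ⊥ := by
    rintro rfl
    apply hnc
    intro b _
    rw [mem_centralizer_iff]
    intro h hh
    rw [SetLike.mem_coe, mem_bot] at hh
    rw [hh]; simp
  have hBc : IsCyclic B := isCyclic_of_prime_card hB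
  have hBcomm : ∀ a ∈ B, ∀ b ∈ B, a * b = b * a := by
    intro a ha b hb
    have h := IsCyclic.commGroup (α := B)
    exact congrArg Subtype.val (hBc.isMulCommutative.is_comm.comm ⟨a, ha⟩ ⟨b, hb⟩)
  have hbp : ∀ b ∈ B, b ^ p = 1 := by
    intro b hb
    have h := pow_card_eq_one' (G := B) (x := ⟨b, hb⟩)
    rw [hB] at h
    exact congrArg Subtype.val h
  -- upper bound
  have hub : Nat.card A ≤ q ^ k := by
    refine H3.IrrMod.card_min_le (B := B) (Z := A) ?_ hcomm hq hA.2 hA1 ?_ ?_ hk0 ?_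
    · intro b hb z hz
      exact (mem_normalizer_iff.mp (hBA hb) z).mp hz
    · intro U hU hUB
      apply hirr U hU
      intro b hb
      apply H22.Basic.mem_normalizer_of_cj_le
      rintro _ ⟨u, hu, rfl⟩
      exact hUB b hb u hu
    · intro a ha b hb z hz
      rw [hBcomm a ha b hb]
    · intro b hb z hz
      have h1 : 1 ≤ q ^ k := Nat.one_le_iff_ne_zero.mpr (pow_ne_zero _ hq.ne_zero)
      have h2 : p ∣ q ^ k - 1 := by
        rw [← ZMod.natCast_eq_zero_iff, Nat.cast_sub h1, hqk]; simp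
      obtain ⟨t, ht⟩ := h2
      have h3 : q ^ k = 1 + p * t := by omega
      have h4 : b ^ (q ^ k) = b := by
        rw [h3, pow_add, pow_one, pow_mul, hbp b hb, one_pow, mul_one]
      rw [h4]
  -- fixed points
  have hfix : A ⊓ centralizer (B : Set G) = ⊥ := by
    rcases hirr (A ⊓ centralizer (B : Set G)) inf_le_left (by
      intro b hb
      apply H22.Basic.mem_normalizer_of_cj_le
      rintro _ ⟨u, hu, rfl⟩
      have h1 := mem_centralizer_iff.mp hu.2 b hb
      have h2 : b * u * b⁻¹ = u := by rw [h1]; group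
      show b * u * b⁻¹ ∈ _
      rw [h2]; exact hu) with h | h
    · exact h
    · exfalso
      apply hnc
      rw [le_centralizer_iff]
      rw [← h]; exact inf_le_right
  have hAp : IsPGroup q A := by
    intro a
    exact ⟨1, by rw [pow_one]; exact Subtype.ext (hA.2 a a.2)⟩
  obtain ⟨n, hn⟩ := IsPGroup.iff_card.mp hAp
  have hmod : Nat.card A ≡ 1 [MOD p] := by
    let _ : MulAction B A :=
      { smul := fun b x => ⟨(b : G) * x * (b : G)⁻¹, (mem_normalizer_iff.mp (hBA b.2) x).mp x.2⟩
        one_smul := fun x => Subtype.ext (by show ((1 : B) : G) * x * ((1 : B) : G)⁻¹ = x; simp)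
        mul_smul := fun a b x => Subtype.ext (by
          show ((a * b : B) : G) * x * ((a * b : B) : G)⁻¹ = a * (b * x * (b : G)⁻¹) * (a : G)⁻¹
          rw [Subgroup.coe_mul]; group) }
    have hBp : IsPGroup p B := IsPGroup.of_card (n := 1) (by rw [hB, pow_one])
    have h1 := hBp.card_modEq_card_fixedPoints A
    have h2 : Nat.card (MulAction.fixedPoints B A) = 1 := by
      rw [Nat.card_eq_one_iff_unique]
      refine ⟨⟨?_⟩, ⟨⟨1, ?_⟩⟩⟩
      · have key : ∀ x : MulAction.fixedPoints B A, ((x : A) : G) = 1 := by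
          intro x
          have h3 : ((x : A) : G) ∈ A ⊓ centralizer (B : Set G) := by
            refine ⟨(x : A).2, ?_⟩
            show ((x : A) : G) ∈ centralizer (B : Set G)
            rw [mem_centralizer_iff]
            intro b hb
            have h4 : b * ((x : A) : G) * b⁻¹ = ((x : A) : G) := congrArg Subtype.val (x.2 ⟨b, hb⟩)
            calc b * ((x : A) : G) = (b * ((x : A) : G) * b⁻¹) * b := by group
              _ = ((x : A) : G) * b := by rw [h4]
          rwa [hfix, mem_bot] at h3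
        intro x y
        apply Subtype.ext
        apply Subtype.ext
        rw [key x, key y]
      · intro b
        apply Subtype.ext
        show (b : G) * ((1 : A) : G) * (b : G)⁻¹ = ((1 : A) : G)
        simp
    rwa [h2] at h1
  have hkn : k ∣ n := by
    rw [hk]
    apply orderOf_dvd_of_pow_eq_one
    rw [hn] at hmod
    have := (ZMod.natCast_eq_natCast_iff _ _ _).mpr hmod
    push_cast at this
    exact this
  have hn0 : n ≠ 0 := by
    rintro rfl
    rw [pow_zero, card_eq_one] at hn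
    exact hA1 hn
  have hle : n ≤ k := by
    rw [hn] at hub
    exact (Nat.pow_le_pow_iff_right hq.one_lt).mp hub
  have : n = k := le_antisymm hle (Nat.le_of_dvd (Nat.pos_of_ne_zero hn0) hkn)
  rw [hn, this]

variable {G : Type*} [Group G] [Finite G] {p : ℕ} [hp : Fact p.Prime]

/-- a `p`-subgroup of a `p`-closed group centralizes the normalized `p'`-subgroups -/
theorem le_centralizer_of_pclosed {H P0 K : Subgroup G} (hH : Cfsg.IsPClosed p H) (hP0H : P0 ≤ H) (hKH : K ≤ H)
    (hP0 : IsPGroup p P0) (hK : (Nat.card K).Coprime p) (hn : P0 ≤ normalizer (K : Set G)) :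
    P0 ≤ centralizer (K : Set G) := by
  have h1 : IsPGroup p (P0.subgroupOf H) := hP0.comap_of_injective H.subtype H.subtype_injective
  obtain ⟨S, hS⟩ := h1.exists_le_sylow
  have hSn : (S : Subgroup H).Normal := hH S
  intro x hx
  rw [mem_centralizer_iff]
  intro y hy
  have hxS : (⟨x, hP0H hx⟩ : H) ∈ (S : Subgroup H) := hS (by rw [mem_subgroupOf]; exact hx)
  have h2 := hSn.conj_mem _ (inv_mem hxS) ⟨y, hKH hy⟩
  have h3 := mul_mem hxS h2
  have h4 : x * y * x⁻¹ * y⁻¹ ∈ K := mul_mem ((mem_normalizer_iff.mp (hn hx) y).mp hy) (inv_mem hy)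
  have h5 : x * y * x⁻¹ * y⁻¹ ∈ (S : Subgroup H).map H.subtype := by
    refine ⟨_, h3, ?_⟩
    simp only [coe_subtype, Subgroup.coe_mul, Subgroup.coe_inv]
    group
  have h6 : (S : Subgroup H).map H.subtype ⊓ K = ⊥ := by
    apply H22.Basic.inf_eq_bot_of_coprime
    obtain ⟨n, hn⟩ := IsPGroup.iff_card.mp (S.isPGroup'.map H.subtype)
    rw [hn]
    exact Nat.Coprime.pow_left _ hK.symm
  have h7 : x * y * x⁻¹ * y⁻¹ ∈ (S : Subgroup H).map H.subtype ⊓ K := ⟨h5, h4⟩
  rw [h6, mem_bot] at h7
  calc y * x = (x * y * x⁻¹ * y⁻¹)⁻¹ * (x * y) := by group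
    _ = x * y := by rw [h7]; simp

/-- if the Sylow `p`-subgroup `P` lies in a `p`-closed normal subgroup, it is normal -/
theorem normal_of_le_pclosed {M P : Subgroup G} [hM : M.Normal] (hPM : P ≤ M) (h : Cfsg.IsPClosed p M)
    (hP : Nat.card P = p ^ (Nat.card G).factorization p) : P.Normal := by
  have h1 : Nat.card (P.subgroupOf M) = p ^ (Nat.card M).factorization p := by
    have h2 : Nat.card (P.subgroupOf M) = Nat.card P := Nat.card_congr (subgroupOfEquivOfLe hPM).toEquiv
    rw [h2, hP]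
    congr 1
    apply le_antisymm
    · have h3 : p ^ (Nat.card G).factorization p ∣ Nat.card M := by
        rw [← hP]; exact card_dvd_of_le hPM
      exact (hp.out.pow_dvd_iff_le_factorization Nat.card_pos.ne').mp h3
    · exact (Nat.factorization_le_iff_dvd Nat.card_pos.ne' Nat.card_pos.ne').mpr (card_subgroup_dvd_card M) p
  let S : Sylow p M := Sylow.ofCard (P.subgroupOf M) h1
  have hS : (S : Subgroup M) = P.subgroupOf M := rfl
  have hSn : (S : Subgroup M).Normal := h S
  have hSc : (S : Subgroup M).Characteristic := S.characteristic_of_normal hSn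
  have h2 : ((S : Subgroup M).map M.subtype).Normal := ConjAct.normal_of_characteristic_of_normal
  rw [hS, subgroupOf_map_subtype, inf_eq_left.mpr hPM] at h2
  exact h2

theorem core (N P : Subgroup G) [hN : N.Normal] (hNb : N ≠ ⊥)
    (hmin : ∀ B : Subgroup G, B.Normal → B ≤ N → B = ⊥ ∨ B = N) (hNp : (Nat.card N).Coprime p)
    (hP : IsPGroup p P) (hPN : P ⊔ N = ⊤) (hPn : ¬ P.Normal)
    (hsub : ∀ H : Subgroup G, H ≠ ⊤ → Cfsg.IsPClosed p H) :
    (∃ q : ℕ, q.Prime ∧ q ≠ p ∧ Cfsg.IsElementaryAbelian q N) ∧ (∀ P0 : Subgroup G, P0 < P → P0 ≤ centralizer (N : Set G)) ∧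
      (∃ x ∈ P, x ∉ centralizer (N : Set G) ∧ zpowers x = P) := by
  obtain ⟨n, hn⟩ := IsPGroup.iff_card.mp hP
  have hcop : (Nat.card P).Coprime (Nat.card N) := by rw [hn]; exact Nat.Coprime.pow_left _ hNp.symm
  have hPNn : P ≤ normalizer (N : Set G) := by rw [normalizer_eq_top N]; exact le_top
  have hcard : ∀ P0 K : Subgroup G, P0 ≤ P → K ≤ N → P0 ≤ normalizer (K : Set G) →
      Nat.card (P0 ⊔ K : Subgroup G) = Nat.card P0 * Nat.card K := by
    intro P0 K h0 hK hn0
    apply H1.Coprime.card_sup_of_le_normalizer hn0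
    apply le_bot_iff.mp
    calc P0 ⊓ K ≤ P ⊓ N := inf_le_inf h0 hK
      _ = ⊥ := H22.Basic.inf_eq_bot_of_coprime hcop
  have hcardG : Nat.card G = Nat.card P * Nat.card N := by
    rw [← hcard P N le_rfl le_rfl hPNn, hPN, card_top]
  have hsolP : Group.IsSolvable P := by
    have := hP.isNilpotent
    infer_instance
  have hkey : ∀ P0 K : Subgroup G, P0 ≤ P → K ≤ N → P0 ≤ normalizer (K : Set G) →
      (P0 ⊔ K : Subgroup G) ≠ ⊤ → P0 ≤ centralizer (K : Set G) := by
    intro P0 K h0 hK hn0 hne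
    apply le_centralizer_of_pclosed (p := p) (hsub _ hne) le_sup_left le_sup_right (hP.to_le h0) _ hn0
    exact Nat.Coprime.coprime_dvd_left (card_dvd_of_le hK) hNp
  have hPc : ¬ P ≤ centralizer (N : Set G) := by
    intro h
    apply hPn
    rw [← normalizer_eq_top_iff, eq_top_iff, ← hPN]
    refine sup_le le_normalizer ?_
    refine le_trans ?_ (centralizer_le_normalizer (P : Set G))
    rwa [le_centralizer_iff]
  have hPb : P ≠ ⊥ := by
    rintro rfl
    exact hPn inferInstance
  -- N is a q-group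
  obtain ⟨q, hq, hqN⟩ : ∃ q : ℕ, q.Prime ∧ IsPGroup q N := by
    by_contra hcon
    push Not at hcon
    apply hPc
    rw [le_centralizer_iff]
    have h1 : Nat.card N ∣ Nat.card (N ⊓ centralizer (P : Set G) : Subgroup G) := by
      rw [← Nat.factorization_prime_le_iff_dvd Nat.card_pos.ne' Nat.card_pos.ne']
      intro q hq
      have hfq : Fact q.Prime := ⟨hq⟩
      obtain ⟨Q, hQ⟩ := H1.Coprime.invariant_sylow_exists P N hPNn hcop (Or.inl hsolP) q
      set Q' := (Q : Subgroup N).map N.subtype with hQ'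
      have hQ'N : Q' ≤ N := map_subtype_le _
      have hQ'c : Nat.card Q' = q ^ (Nat.card N).factorization q := H1.Coprime.card_map_sylow Q
      have hne : (P ⊔ Q' : Subgroup G) ≠ ⊤ := by
        intro h
        have h2 := hcard P Q' le_rfl hQ'N hQ
        rw [h, card_top, hcardG] at h2
        have h3 : Nat.card N = Nat.card Q' := Nat.eq_of_mul_eq_mul_left Nat.card_pos h2
        exact hcon q hq (IsPGroup.of_card (n := (Nat.card N).factorization q) (h3.trans hQ'c))
      have h3 := hkey P Q' le_rfl hQ'N hQ hne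
      rw [le_centralizer_iff] at h3
      have h4 : Q' ≤ N ⊓ centralizer (P : Set G) := le_inf hQ'N h3
      have h5 := card_dvd_of_le h4
      rw [hQ'c] at h5
      exact (hq.pow_dvd_iff_le_factorization Nat.card_pos.ne').mp h5
    have h2 : N ⊓ centralizer (P : Set G) = N :=
      H22.Basic.eq_of_le_of_card_le inf_le_left (Nat.le_of_dvd Nat.card_pos h1)
    rw [← h2]; exact inf_le_right
  have hfq : Fact q.Prime := ⟨hq⟩
  obtain ⟨m, hm⟩ := IsPGroup.iff_card.mp hqN
  have hm0 : m ≠ 0 := by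
    rintro rfl
    rw [pow_zero, card_eq_one] at hm
    exact hNb hm
  have hqp : q ≠ p := by
    rintro rfl
    rw [hm, Nat.coprime_pow_left_iff (Nat.pos_of_ne_zero hm0)] at hNp
    exact hq.one_lt.ne' ((Nat.coprime_self q).mp hNp)
  have hsolN : Group.IsSolvable N := by
    have := hqN.isNilpotent
    infer_instance
  have hsolG : Group.IsSolvable G := by
    have hquo : Group.IsSolvable (G ⧸ N) := by
      have h1 : IsPGroup p (G ⧸ N) := by
        apply IsPGroup.of_card (n := n)
        have h2 := N.card_mul_index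
        rw [hcardG, hn, mul_comm] at h2
        exact Nat.eq_of_mul_eq_mul_right Nat.card_pos h2
      have := h1.isNilpotent
      infer_instance
    refine Group.isSolvable_of_ker_le_range N.subtype (QuotientGroup.mk' N) ?_
    rw [QuotientGroup.ker_mk', range_subtype]
  obtain ⟨hc, r, hr, hrN⟩ := H1.Hall.minimal_normal_elementary N hNb hmin
  have hrq : r = q := by
    obtain ⟨y, hy, hy1⟩ := (bot_or_exists_ne_one N).resolve_left hNb
    have h1 : orderOf y ∣ r := orderOf_dvd_of_pow_eq_one (hrN y hy)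
    obtain ⟨k, hk⟩ := hqN ⟨y, hy⟩
    have h2 : orderOf y ∣ q ^ k := orderOf_dvd_of_pow_eq_one (congrArg Subtype.val hk)
    rcases (Nat.dvd_prime hr).mp h1 with h | h
    · exact absurd (orderOf_eq_one_iff.mp h) hy1
    · rw [h] at h2
      exact (Nat.prime_dvd_prime_iff_eq hr hq).mp (hr.dvd_of_dvd_pow h2)
  rw [hrq] at hrN
  have hsub0 : ∀ P0 : Subgroup G, P0 < P → P0 ≤ centralizer (N : Set G) := by
    intro P0 h0
    have hn0 : P0 ≤ normalizer (N : Set G) := h0.le.trans hPNn
    apply hkey P0 N h0.le le_rfl hn0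
    intro h
    have h1 := hcard P0 N h0.le le_rfl hn0
    rw [h, card_top, hcardG] at h1
    have h2 := H22.Basic.card_lt_of_lt h0
    have h3 : Nat.card P = Nat.card P0 := Nat.eq_of_mul_eq_mul_right Nat.card_pos h1
    omega
  refine ⟨⟨q, hq, hqp, hc, hrN⟩, hsub0, ?_⟩
  obtain ⟨x, hx, hxc⟩ := SetLike.not_le_iff_exists.mp hPc
  refine ⟨x, hx, hxc, ?_⟩
  by_contra hne
  exact hxc (hsub0 _ (lt_of_le_of_ne (by rwa [zpowers_le]) hne) (mem_zpowers x))

/-- the order in the situation of `core`, when `|P| = p` -/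
theorem core_card (N P : Subgroup G) [hN : N.Normal] 
    (hmin : ∀ B : Subgroup G, B.Normal → B ≤ N → B = ⊥ ∨ B = N)
    (hP : Nat.card P = p) (hPN : P ⊔ N = ⊤) {q : ℕ} (hq : q.Prime) (hqp : q ≠ p) (hNq : Cfsg.IsElementaryAbelian q N)
    (hPc : ¬ P ≤ centralizer (N : Set G)) :
    Nat.card N = q ^ orderOf (q : ZMod p) ∧ Nat.card G = p * q ^ orderOf (q : ZMod p) := by
  have hPNn : P ≤ normalizer (N : Set G) := by rw [normalizer_eq_top N]; exact le_top
  have hNab : ∀ U : Subgroup G, U ≤ N → N ≤ normalizer (U : Set G) := by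
    intro U hU y hy
    apply H22.Basic.mem_normalizer_of_cj_le
    rintro _ ⟨u, hu, rfl⟩
    have h1 : y * u = u * y := congrArg Subtype.val (hNq.1.is_comm.comm ⟨y, hy⟩ ⟨u, hU hu⟩)
    show y * u * y⁻¹ ∈ U
    rw [h1]; simpa using hu
  have h1 : Nat.card N = q ^ orderOf (q : ZMod p) := by
    refine card_eq hp.out hq hqp hP hNq hPNn ?_ hPc
    intro U hU hPU
    refine hmin U ?_ hU
    rw [← normalizer_eq_top_iff, eq_top_iff, ← hPN]
    exact sup_le hPU (hNab U hU)
  refine ⟨h1, ?_⟩
  have hcop : (Nat.card P).Coprime (Nat.card N) := by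
    rw [hP, h1]
    exact Nat.Coprime.pow_right _ ((Nat.coprime_primes hp.out hq).mpr hqp.symm)
  have h2 := H1.Coprime.card_sup_of_le_normalizer hPNn (H22.Basic.inf_eq_bot_of_coprime hcop)
  rw [hPN, card_top, hP, h1] at h2
  exact h2

end Cfsg.Agent.H22.MinPCl
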