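import Cfsg.Agent.H22_QQ6

/-!
Coprime action: all proper `A`-invariant subgroups nilpotent.  Solvability.
-/

set_option autoImplicit false
set_option linter.unusedSectionVars false

namespace Cfsg.Agent.H22.NM

open Subgroup Cfsg
open scoped commutatorElement Pointwise
open Cfsg.Agent.H22.Ward (coprime_of_le)
open Cfsg.Agent.H22.Basic (cj)
open Cfsg.Agent.H12.Core (PiNum)

universe u

variable {X : Type u} [Group X] [Finite X]
variable {K A : Subgroup X}

/-- characteristic subgroups of an invariant subgroup are invariant -/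
theorem char_normalizer {P : Subgroup K} (hP : A ≤ normalizer ((P.map K.subtype : Subgroup X) : Set X)) {KK : Subgroup P}
    (hKK : KK.Characteristic) : A ≤ normalizer ((((KK.map P.subtype).map K.subtype : Subgroup X)) : Set X) := by
  intro a ha
  have haS : a ∈ normalizer ((P.map K.subtype : Subgroup X) : Set X) := hP ha
  have hmem : ∀ z : P, a * ((z : K) : X) * a⁻¹ ∈ P.map K.subtype := fun z =>
    (Subgroup.mem_normalizer_iff.mp haS _).mp ⟨z, z.2, rfl⟩
  have hmem' : ∀ z : P, a⁻¹ * ((z : K) : X) * a ∈ P.map K.subtype := fun z =>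
    (Subgroup.mem_normalizer_iff''.mp haS _).mp ⟨z, z.2, rfl⟩
  have hlift : ∀ x : X, x ∈ P.map K.subtype → ∃ w : P, ((w : K) : X) = x := by
    intro x hx
    obtain ⟨w, hw, hwx⟩ := hx
    exact ⟨⟨w, hw⟩, hwx⟩
  choose f hf using fun z : P => hlift _ (hmem z)
  choose g hg using fun z : P => hlift _ (hmem' z)
  let σ : MulAut P :=
    { toFun := f
      invFun := g
      left_inv := by
        intro z
        apply Subtype.ext; apply Subtype.ext
        rw [hg, hf]; group
      right_inv := by
        intro z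
        apply Subtype.ext; apply Subtype.ext
        rw [hf, hg]; group
      map_mul' := by
        intro z w
        apply Subtype.ext; apply Subtype.ext
        rw [hf, Subgroup.coe_mul, Subgroup.coe_mul, Subgroup.coe_mul, Subgroup.coe_mul, hf, hf]; group }
  apply Basic.mem_normalizer_of_cj_le
  intro y hy
  rw [Basic.mem_cj] at hy
  obtain ⟨z', ⟨z, hz, rfl⟩, hzy⟩ := hy
  refine ⟨((σ z : P) : K), ⟨σ z, ?_, rfl⟩, ?_⟩
  · have h3 := Subgroup.characteristic_iff_map_eq.mp hKK σ
    show σ z ∈ KK
    rw [← h3]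
    exact ⟨z, hz, rfl⟩
  · have h4 : ((z : K) : X) = a⁻¹ * y * a := hzy
    show ((f z : K) : X) = y
    rw [hf, h4]; group

/-- in an `A`-simple group, a normal `p`-complement forces a `p`-group or a `p'`-group -/
theorem npc_simple {p : ℕ} (hp : p.Prime) (hn : A ≤ normalizer (K : Set X))
    (hsimp : ∀ N ≤ K, K ≤ normalizer (N : Set X) → A ≤ normalizer (N : Set X) → N = ⊥ ∨ N = K)
    (hdvd : p ∣ Nat.card K) (h : HasNormalPComplement p K) : IsPGroup p K := by
  have hpf : Fact p.Prime := ⟨hp⟩
  obtain ⟨N, hN, hNc, hNq⟩ := H18.NPC.npc_data h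
  set Y := piCoreOf ({p}ᶜ) K with hY
  have hYK : Y ≤ K := H12.Core.piCoreOf_le _ K
  have hNY : N.map K.subtype ≤ Y := by
    apply Subgroup.map_mono
    exact H12.Core.le_piCore hN ((H12.Core.piNum_singleton_compl hp).mpr hNc)
  rcases hsimp Y hYK (H12.Core.le_normalizer_piCoreOf _ K) (hn.trans (H12.Core.normalizer_le_normalizer_piCoreOf _ K)) with h1 | h1
  · have h2 : N = ⊥ := by
      rw [h1, le_bot_iff] at hNY
      exact (Subgroup.map_eq_bot_iff_of_injective _ K.subtype_injective).mp hNY
    subst h2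
    exact hNq.of_equiv (QuotientGroup.quotientBot)
  · exfalso
    have h2 : PiNum ({p}ᶜ) (Nat.card K) := by
      have := H12.Core.piCoreOf_piNum ({p}ᶜ) K
      rwa [← hY, h1] at this
    exact h2 p hp hdvd rfl

/-- the `A`-simple case, `p` odd: if all proper invariant subgroups of order divisible by `p` are nilpotent, then `K`
is a `p`-group -/
theorem simple_odd {p : ℕ} (hp : p.Prime) (hp2 : p ≠ 2) (hn : A ≤ normalizer (K : Set X))
    (hcop : (Nat.card A).Coprime (Nat.card K)) (hs : Group.IsSolvable A ∨ Group.IsSolvable K)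
    (hsimp : ∀ N ≤ K, K ≤ normalizer (N : Set X) → A ≤ normalizer (N : Set X) → N = ⊥ ∨ N = K)
    (hdvd : p ∣ Nat.card K)
    (hnil : ∀ H ≤ K, A ≤ normalizer (H : Set X) → H ≠ K → p ∣ Nat.card H → Group.IsNilpotent H) :
    IsPGroup p K := by
  have hpf : Fact p.Prime := ⟨hp⟩
  obtain ⟨P, hP⟩ := H1.Coprime.invariant_sylow_exists A K hn hcop hs p
  obtain ⟨KK, hKK, hKKc, hmain⟩ := S3073.result p hp2 (P : Subgroup K) P.2
  have hmain' := hmain K P (MulEquiv.refl _)
  set Y₁ : Subgroup K := ((KK.comap ((MulEquiv.refl (P : Subgroup K)) : (P : Subgroup K) →* (P : Subgroup K))).map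
    (P : Subgroup K).subtype) with hY₁
  have hY₁' : Y₁ = KK.map (P : Subgroup K).subtype := rfl
  set Y := Y₁.map K.subtype with hY
  have hYK : Y ≤ K := Subgroup.map_subtype_le _
  have hAY : A ≤ normalizer (Y : Set X) := char_normalizer hP hKK
  have hYp : IsPGroup p Y := by
    rw [hY, hY₁']
    exact ((P.2.to_subgroup KK).map _).map _
  set N := K ⊓ normalizer (Y : Set X) with hN
  have hAN : A ≤ normalizer (N : Set X) := Basic.le_normalizer_inf hn (Basic.le_normalizer_normalizer hAY)
  by_cases hNK : N = K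
  · have hKY : K ≤ normalizer (Y : Set X) := by rw [← hNK]; exact inf_le_right
    rcases hsimp Y hYK hKY hAY with h1 | h1
    · apply npc_simple hp hn hsimp hdvd
      rw [hmain']
      intro g hg _
      have h2 : Y₁ = ⊥ := (Subgroup.map_eq_bot_iff_of_injective _ K.subtype_injective).mp h1
      rw [h2]
      rw [mem_centralizer_iff]
      intro y hy
      rw [Subgroup.mem_bot.mp hy, one_mul, mul_one]
    · rw [← h1]; exact hYp
  · -- `P` lies in `N`
    have hPN : (P : Subgroup K).map K.subtype ≤ N := by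
      refine le_inf (Subgroup.map_subtype_le _) ?_
      have h1 : KK.Normal := by
        haveI := hKK
        infer_instance
      rintro _ ⟨g, hg, rfl⟩
      apply Basic.mem_normalizer_of_cj_le
      intro y hy
      rw [Basic.mem_cj] at hy
      obtain ⟨z', ⟨z, hz, rfl⟩, hzy⟩ := hy
      refine ⟨g * z * g⁻¹, ⟨⟨g, hg⟩ * z * ⟨g, hg⟩⁻¹, h1.conj_mem z hz ⟨g, hg⟩, rfl⟩, ?_⟩
      have h4 : ((z : K) : X) = (g : X)⁻¹ * y * g := hzy
      show (g : X) * ((z : K) : X) * (g : X)⁻¹ = y
      rw [h4]; group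
    have hpN : p ∣ Nat.card N := by
      have h1 : p ∣ Nat.card ((P : Subgroup K).map K.subtype) := by
        rw [H1.Coprime.card_map_sylow, ← P.card_eq_multiplicity]
        exact P.dvd_card_of_dvd_card hdvd
      exact h1.trans (Subgroup.card_dvd_of_le hPN)
    have hNn := hnil N inf_le_left hAN hNK hpN
    have hYN : Y ≤ N := le_inf hYK Subgroup.le_normalizer
    apply npc_simple hp hn hsimp hdvd
    rw [hmain']
    intro g hg hgo
    have hgY : (g : X) ∈ normalizer (Y : Set X) := by
      apply Basic.mem_normalizer_of_cj_le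
      intro y hy
      rw [Basic.mem_cj] at hy
      obtain ⟨z, hz, hzy⟩ := hy
      refine ⟨g * z * g⁻¹, (Subgroup.mem_normalizer_iff.mp hg z).mp hz, ?_⟩
      show (g : X) * (z : X) * (g : X)⁻¹ = y
      have h4 : (z : X) = (g : X)⁻¹ * y * g := hzy
      rw [h4]; group
    have hgN : (g : X) ∈ N := ⟨g.2, hgY⟩
    have hzg : zpowers (g : X) ≤ N := by rwa [Subgroup.zpowers_le]
    have hcg : (Nat.card (zpowers (g : X))).Coprime (Nat.card Y) := by
      rw [Nat.card_zpowers, Subgroup.orderOf_coe]
      obtain ⟨j, hj⟩ := IsPGroup.iff_card.mp hYp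
      rw [hj]
      exact Nat.Coprime.pow_right j hgo
    have hc : zpowers (g : X) ≤ centralizer (Y : Set X) := by
      apply H12.Core.commutator_eq_bot_of_nilpotent_coprime (N := N) (A := Y) (B := zpowers (g : X)) hNn hYN hzg
        (by rwa [Subgroup.zpowers_le]) hcg
    have hgC' : (g : X) ∈ centralizer (Y : Set X) := hc (mem_zpowers _)
    rw [mem_centralizer_iff]
    intro y hy
    apply Subtype.ext
    exact mem_centralizer_iff.mp hgC' (y : X) ⟨y, hy, rfl⟩

theorem quot_hyp {N : Subgroup X} (hK : K.Normal) (htop : K ⊔ A = ⊤) (hcop : (Nat.card A).Coprime (Nat.card K))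
    (hN : N.Normal) (hNK : N ≤ K) :
    (K.map (QuotientGroup.mk' N)).Normal ∧
      K.map (QuotientGroup.mk' N) ⊔ A.map (QuotientGroup.mk' N) = ⊤ ∧
      (Nat.card (A.map (QuotientGroup.mk' N))).Coprime (Nat.card (K.map (QuotientGroup.mk' N))) := by
  refine ⟨hK.map _ (QuotientGroup.mk'_surjective N), ?_, ?_⟩
  · rw [← Subgroup.map_sup, htop, ← MonoidHom.range_eq_map, MonoidHom.range_eq_top]
    exact QuotientGroup.mk'_surjective N
  · exact Nat.Coprime.coprime_dvd_right (Subgroup.card_map_dvd _ _)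
      (Nat.Coprime.coprime_dvd_left (Subgroup.card_map_dvd _ _) hcop)

/-- invariant subgroups of the quotient lift -/
theorem lift_inv {N : Subgroup X} (hN : N.Normal) (hNK : N ≤ K) {H : Subgroup (X ⧸ N)}
    (hH : H ≤ K.map (QuotientGroup.mk' N)) (hA : A.map (QuotientGroup.mk' N) ≤ normalizer (H : Set (X ⧸ N))) :
    H.comap (QuotientGroup.mk' N) ≤ K ∧ A ≤ normalizer ((H.comap (QuotientGroup.mk' N) : Subgroup X) : Set X) ∧
      (H.comap (QuotientGroup.mk' N)).map (QuotientGroup.mk' N) = H := by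
  refine ⟨?_, ?_, Subgroup.map_comap_eq_self_of_surjective (QuotientGroup.mk'_surjective N) H⟩
  · have h1 : H.comap (QuotientGroup.mk' N) ≤ (K.map (QuotientGroup.mk' N)).comap (QuotientGroup.mk' N) :=
      Subgroup.comap_mono hH
    rwa [Subgroup.comap_map_eq, QuotientGroup.ker_mk', sup_eq_left.mpr hNK] at h1
  · intro a ha
    have h1 := hA (Subgroup.mem_map_of_mem (QuotientGroup.mk' N) ha)
    rw [Subgroup.mem_normalizer_iff] at h1 ⊢
    intro x
    have h2 := h1 (QuotientGroup.mk' N x)
    rw [← map_mul, ← map_inv, ← map_mul] at h2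
    exact h2

theorem solvable_of_quot {N : Subgroup X} (hN : N.Normal) (hNK : N ≤ K) (h1 : Group.IsSolvable N)
    (h2 : Group.IsSolvable (K.map (QuotientGroup.mk' N))) : Group.IsSolvable K := by
  refine Group.isSolvable_of_ker_le_range (Subgroup.inclusion hNK) ((QuotientGroup.mk' N).subgroupMap K) ?_
  intro x hx
  rw [MonoidHom.mem_ker] at hx
  have h8 : QuotientGroup.mk' N (x : X) = 1 := congrArg Subtype.val hx
  have h9 : (x : X) ∈ N := (QuotientGroup.eq_one_iff _).mp h8
  exact ⟨⟨x, h9⟩, Subtype.ext rfl⟩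

theorem card_quot_lt {N : Subgroup X} (hN : N.Normal) (hNK : N ≤ K) (hne : N ≠ ⊥) :
    Nat.card (K.map (QuotientGroup.mk' N)) < Nat.card K := by
  have hcomap : (K.map (QuotientGroup.mk' N)).comap (QuotientGroup.mk' N) = K := by
    rw [Subgroup.comap_map_eq, QuotientGroup.ker_mk', sup_eq_left.mpr hNK]
  have hcard : Nat.card K = Nat.card (K.map (QuotientGroup.mk' N)) * Nat.card N := by
    conv_lhs => rw [← hcomap]
    exact H1.Hall.card_comap_mk N _
  rw [hcard]
  have h1 : 1 < Nat.card N := Subgroup.one_lt_card_iff_ne_bot N |>.mpr hne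
  have h2 : 0 < Nat.card (K.map (QuotientGroup.mk' N)) := Nat.card_pos
  nlinarith

/-- all proper invariant subgroups nilpotent, `A` solvable: `K` is solvable -/
theorem solv : ∀ (n : ℕ) (X : Type u) [Group X] [Finite X] (K A : Subgroup X),
    K.Normal → K ⊔ A = ⊤ → (Nat.card A).Coprime (Nat.card K) → Group.IsSolvable A →
    (∀ H ≤ K, A ≤ normalizer (H : Set X) → H ≠ K → Group.IsNilpotent H) → Nat.card K = n → Group.IsSolvable K := by
  intro n
  induction n using Nat.strong_induction_on with
  | _ n ih =>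
  intro X _ _ K A hK htop hcop hsA hnil hn
  subst hn
  by_contra hns
  have hnK : A ≤ normalizer (K : Set X) := by
    rw [Subgroup.normalizer_eq_top]; exact le_top
  have hsimp : ∀ N ≤ K, K ≤ normalizer (N : Set X) → A ≤ normalizer (N : Set X) → N = ⊥ ∨ N = K := by
    intro N hNK hKN hANN
    by_contra hne
    push Not at hne
    have hN : N.Normal := by
      rw [← Subgroup.normalizer_eq_top_iff, eq_top_iff, ← htop]
      exact sup_le hKN hANN
    obtain ⟨h1, h2, h3⟩ := quot_hyp hK htop hcop hN hNK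
    have h4 : Group.IsSolvable (A.map (QuotientGroup.mk' N)) :=
      Group.isSolvable_of_surjective ((QuotientGroup.mk' N).subgroupMap_surjective A)
    have h5 := ih _ (card_quot_lt hN hNK hne.1) (X ⧸ N) (K.map (QuotientGroup.mk' N)) (A.map (QuotientGroup.mk' N)) h1 h2 h3 h4 (by
      intro H hH hAH hHne
      obtain ⟨h6, h7, h8⟩ := lift_inv hN hNK hH hAH
      have h9 := hnil _ h6 h7 (by
        intro h10
        apply hHne
        rw [← h8, h10])
      rw [← h8]
      exact Group.nilpotent_of_surjective _ ((QuotientGroup.mk' N).subgroupMap_surjective _)) rfl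
    have h6 := hnil N hNK hANN hne.2
    exact hns (solvable_of_quot hN hNK inferInstance h5)
  by_cases h2 : ∃ p : ℕ, p.Prime ∧ p ≠ 2 ∧ p ∣ Nat.card K
  · obtain ⟨p, hp, hp2, hdvd⟩ := h2
    have hpf : Fact p.Prime := ⟨hp⟩
    have h3 := simple_odd hp hp2 hnK hcop (Or.inl hsA) hsimp hdvd (fun H h1 h2 h3 _ => hnil H h1 h2 h3)
    have := h3.isNilpotent
    exact hns inferInstance
  · push Not at h2
    have h5 : ∀ {d : ℕ}, d.Prime → d ∣ Nat.card K → d = 2 := by
      intro d hd hdd
      by_contra hne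
      exact h2 d hd hne hdd
    have h4 := Nat.eq_prime_pow_of_unique_prime_dvd Nat.card_pos.ne' h5
    have h6 : IsPGroup 2 K := IsPGroup.of_card h4
    have := h6.isNilpotent
    exact hns inferInstance

end Cfsg.Agent.H22.NM
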