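import Cfsg.Agent.H22_NM1

/-!
Coprime action: all proper `A`-invariant subgroups nilpotent.  Structure.
-/

set_option autoImplicit false
set_option linter.unusedSectionVars false

namespace Cfsg.Agent.H22.NM

open Subgroup Cfsg
open scoped commutatorElement Pointwise
open Cfsg.Agent.H22.Ward (coprime_of_le)
open Cfsg.Agent.H22.Basic (cj)
open Cfsg.Agent.H12.Core (PiNum)

universe u

variable {X : Type u} [Group X] [Finite X]
variable {K A : Subgroup X}

theorem le_normalizer_of_commutator_le {M : Subgroup X} (hM : M ≤ K) (h : ⁅K, K⁆ ≤ M) : K ≤ normalizer (M : Set X) := by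
  intro g hg
  apply Basic.mem_normalizer_of_cj_le
  intro y hy
  rw [Basic.mem_cj] at hy
  have h1 : ⁅g, g⁻¹ * y * g⁆ ∈ M := h (Subgroup.commutator_mem_commutator hg (hM hy))
  have h2 := M.mul_mem h1 hy
  have h3 : ⁅g, g⁻¹ * y * g⁆ * (g⁻¹ * y * g) = y := by
    rw [commutatorElement_def]; group
  rwa [h3] at h2

/-- the Sylow subgroup of a nilpotent group as a core -/
theorem not_dvd_relIndex_core {N : Subgroup X} (hN : Group.IsNilpotent N) {s : ℕ} (hs : s.Prime) :
    ¬ s ∣ (piCoreOf {s} N).relIndex N := by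
  have hsf : Fact s.Prime := ⟨hs⟩
  obtain ⟨P⟩ : Nonempty (Sylow s N) := inferInstance
  have h1 : (P : Subgroup N).Normal := (Group.isNilpotent_of_finite_tfae.out 0 3 rfl rfl).mp hN s hsf P
  have h2 : (P : Subgroup N) ≤ piCore {s} N :=
    H12.Core.le_piCore h1 ((H12.Core.isPGroup_iff_piNum hs).mp P.2)
  have h3 : (piCoreOf {s} N).relIndex N = (piCore {s} N).index := H12.Core.relIndex_map_subtype_self _
  rw [h3]
  intro h4
  exact P.not_dvd_index (h4.trans (Subgroup.index_dvd_of_le h2))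

theorem struct (hn : A ≤ normalizer (K : Set X)) (hcop : (Nat.card A).Coprime (Nat.card K)) (hK : Group.IsSolvable K)
    (hnil : ∀ H ≤ K, A ≤ normalizer (H : Set X) → H ≠ K → Group.IsNilpotent H) (hnn : ¬ Group.IsNilpotent K) :
    ∃ (s r : ℕ) (S R : Subgroup X), s.Prime ∧ r.Prime ∧ s ≠ r ∧ S ≤ K ∧ R ≤ K ∧ K ≤ normalizer (S : Set X) ∧
      A ≤ normalizer (S : Set X) ∧ IsPGroup s S ∧ IsPGroup r R ∧ S ⊔ R = K ∧ S ≠ ⊥ := by
  -- a maximal invariant normal subgroup
  have hbK : (⊥ : Subgroup X) ≠ K := by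
    rintro rfl
    exact hnn inferInstance
  have hnb : ∀ L : Subgroup X, L ≤ normalizer ((⊥ : Subgroup X) : Set X) := by
    intro L; rw [Subgroup.normalizer_eq_top]; exact le_top
  obtain ⟨N, _, hN⟩ := Finite.exists_le_maximal (p := fun N : Subgroup X => N ≤ K ∧ N ≠ K ∧ K ≤ normalizer (N : Set X) ∧
    A ≤ normalizer (N : Set X)) (a := ⊥) ⟨bot_le, hbK, hnb K, hnb A⟩
  obtain ⟨⟨hNK, hNne, hKN, hAN⟩, hmax⟩ := hN
  have hmax' : ∀ M : Subgroup X, N ≤ M → M ≤ K → K ≤ normalizer (M : Set X) → A ≤ normalizer (M : Set X) →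
      M = N ∨ M = K := by
    intro M h1 h2 h3 h4
    by_cases h5 : M = K
    · exact Or.inr h5
    · exact Or.inl (le_antisymm (hmax ⟨h2, h5, h3, h4⟩ h1) h1)
  -- `K / N` is abelian
  have hcomm : ⁅K, K⁆ ≤ N := by
    have h1 : ⁅K, K⁆ ≤ K := Basic.commutator_le_left Subgroup.le_normalizer
    have hA1 : A ≤ normalizer ((⁅K, K⁆ : Subgroup X) : Set X) := Basic.le_normalizer_commutator hn hn
    have hK1 : K ≤ normalizer ((⁅K, K⁆ : Subgroup X) : Set X) := le_normalizer_of_commutator_le h1 le_rfl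
    rcases hmax' (⁅K, K⁆ ⊔ N) le_sup_right (sup_le h1 hNK) (Basic.le_normalizer_sup hK1 hKN)
      (Basic.le_normalizer_sup hA1 hAN) with h2 | h2
    · rw [← h2]; exact le_sup_left
    · exfalso
      have hNn : (N.subgroupOf K).Normal := H12.Core.normal_subgroupOf_of_le hKN
      have hntr : Nontrivial (K ⧸ N.subgroupOf K) := by
        rw [QuotientGroup.nontrivial_iff, Ne, Subgroup.subgroupOf_eq_top]
        intro h3
        exact hNne (le_antisymm hNK h3)
      have h3 : Group.IsSolvable (K ⧸ N.subgroupOf K) :=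
        Group.isSolvable_of_surjective (QuotientGroup.mk'_surjective (N.subgroupOf K))
      have h4 := Group.IsSolvable.commutator_lt_top_of_nontrivial (K ⧸ N.subgroupOf K)
      apply h4.ne
      have h5 : commutator K ⊔ N.subgroupOf K = ⊤ := by
        apply Subgroup.map_injective K.subtype_injective
        rw [Subgroup.map_sup, Basic.map_subtype_subgroupOf hNK, Subgroup.map_subtype_commutator, h2,
          ← MonoidHom.range_eq_map, Subgroup.range_subtype]
      have h6 : commutator (K ⧸ N.subgroupOf K) = (commutator K).map (QuotientGroup.mk' (N.subgroupOf K)) := by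
        rw [commutator_def, commutator_def, Subgroup.map_commutator, ← MonoidHom.range_eq_map,
          MonoidHom.range_eq_top.mpr (QuotientGroup.mk'_surjective (N.subgroupOf K))]
      have h7 := congrArg (Subgroup.map (QuotientGroup.mk' (N.subgroupOf K))) h5
      rw [Subgroup.map_sup, QuotientGroup.map_mk'_self, sup_bot_eq, ← MonoidHom.range_eq_map,
        MonoidHom.range_eq_top.mpr (QuotientGroup.mk'_surjective (N.subgroupOf K))] at h7
      rw [h6, h7]
  have hNne1 : N.relIndex K ≠ 1 := by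
    rw [Ne, Subgroup.relIndex_eq_one]
    intro h1
    exact hNne (le_antisymm hNK h1)
  obtain ⟨r, hr, hrd⟩ := Nat.exists_prime_and_dvd hNne1
  have hrf : Fact r.Prime := ⟨hr⟩
  obtain ⟨P, hP⟩ := H1.Coprime.invariant_sylow_exists A K hn hcop (Or.inr hK) r
  set R := (P : Subgroup K).map K.subtype with hR
  have hRK : R ≤ K := Subgroup.map_subtype_le _
  have hRi : ¬ r ∣ R.relIndex K := Ward.sylow_relIndex P
  have hRp : IsPGroup r R := P.2.map _
  have hNR : N ⊔ R = K := by
    have h1 : ⁅K, K⁆ ≤ N ⊔ R := hcomm.trans le_sup_left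
    rcases hmax' (N ⊔ R) le_sup_left (sup_le hNK hRK) (le_normalizer_of_commutator_le (sup_le hNK hRK) h1)
      (Basic.le_normalizer_sup hAN hP) with h2 | h2
    · exfalso
      apply hRi
      refine hrd.trans (Subgroup.relIndex_dvd_of_le_left K ?_)
      rw [← h2]; exact le_sup_right
    · exact h2
  have hNnil := hnil N hNK hAN hNne
  have hSK : ∀ s : ℕ, K ≤ normalizer ((piCoreOf {s} N : Subgroup X) : Set X) := fun s =>
    hKN.trans (H12.Core.normalizer_le_normalizer_piCoreOf _ N)
  have hSA : ∀ s : ℕ, A ≤ normalizer ((piCoreOf {s} N : Subgroup X) : Set X) := fun s =>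
    hAN.trans (H12.Core.normalizer_le_normalizer_piCoreOf _ N)
  have hSle : ∀ s : ℕ, piCoreOf {s} N ≤ K := fun s => (H12.Core.piCoreOf_le _ N).trans hNK
  have hSp : ∀ s : ℕ, s.Prime → IsPGroup s (piCoreOf {s} N) := fun s hs =>
    (H12.Core.isPGroup_iff_piNum hs).mpr (H12.Core.piCoreOf_piNum {s} N)
  have hSi : ∀ s : ℕ, s.Prime → s ≠ r → ¬ s ∣ (piCoreOf {s} N).relIndex K := by
    intro s hs hsr h1
    rw [← Subgroup.relIndex_mul_relIndex _ N K (H12.Core.piCoreOf_le _ N) hNK] at h1
    rcases hs.dvd_mul.mp h1 with h2 | h2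
    · exact not_dvd_relIndex_core hNnil hs h2
    · have h3 : N.relIndex K ∣ Nat.card R := by
        have h4 := H12.Core.card_sup_dvd (A := R) (B := N) (hRK.trans hKN)
        rw [sup_comm, hNR, ← Basic.card_mul_relIndex hNK, mul_comm] at h4
        exact Nat.dvd_of_mul_dvd_mul_right Nat.card_pos h4
      obtain ⟨j, hj⟩ := IsPGroup.iff_card.mp hRp
      rw [hj] at h3
      exact hsr ((Nat.prime_dvd_prime_iff_eq hs hr).mp (hs.dvd_of_dvd_pow (h2.trans h3)))
  by_contra hcon
  have hne : ∀ s : ℕ, s.Prime → s ≠ r → piCoreOf {s} N ⊔ R ≠ K := by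
    intro s hs hsr h1
    apply hcon
    refine ⟨s, r, piCoreOf {s} N, R, hs, hr, hsr, hSle s, hRK, hSK s, hSA s, hSp s hs, hRp, h1, ?_⟩
    intro h2
    rw [h2, bot_sup_eq] at h1
    apply hnn
    rw [← h1]
    exact hRp.isNilpotent
  have hcent : ∀ s : ℕ, s.Prime → s ≠ r → piCoreOf {s} N ≤ normalizer (R : Set X) := by
    intro s hs hsr
    have h1 := hnil (piCoreOf {s} N ⊔ R) (sup_le (hSle s) hRK) (Basic.le_normalizer_sup (hSA s) hP) (hne s hs hsr)
    have hc : (Nat.card R).Coprime (Nat.card (piCoreOf {s} N : Subgroup X)) :=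
      QQ.cop_of_pgroup hr hs (fun h => hsr h.symm) hRp (hSp s hs)
    have h2 : R ≤ centralizer ((piCoreOf {s} N : Subgroup X) : Set X) :=
      H12.Core.commutator_eq_bot_of_nilpotent_coprime h1 le_sup_left le_sup_right (hRK.trans (hSK s)) hc
    exact H1.Coprime.le_normalizer_of_le_centralizer ((Subgroup.le_centralizer_iff).mp h2)
  have hKR : K ≤ normalizer (R : Set X) := by
    have h1 : K ≤ K ⊓ normalizer (R : Set X) := by
      rw [← Subgroup.relIndex_eq_one]
      by_contra hne1
      obtain ⟨d, hd, hdd⟩ := Nat.exists_prime_and_dvd hne1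
      by_cases hdr : d = r
      · subst hdr
        exact hRi (hdd.trans (Subgroup.relIndex_dvd_of_le_left K (le_inf hRK Subgroup.le_normalizer)))
      · exact hSi d hd hdr (hdd.trans (Subgroup.relIndex_dvd_of_le_left K (le_inf (hSle d) (hcent d hd hdr))))
    exact h1.trans inf_le_right
  apply hnn
  have h1 : (N.subgroupOf K).Normal := H12.Core.normal_subgroupOf_of_le hKN
  have h2 : (R.subgroupOf K).Normal := H12.Core.normal_subgroupOf_of_le hKR
  have h3 : Group.IsNilpotent (N.subgroupOf K) := H12.Core.isNilpotent_subgroupOf hNK hNnil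
  have h4 : Group.IsNilpotent (R.subgroupOf K) := H12.Core.isNilpotent_subgroupOf hRK hRp.isNilpotent
  have h5 := H12.Core.nilpotent_sup h1 h2 h3 h4
  have h6 : N.subgroupOf K ⊔ R.subgroupOf K = ⊤ := by
    apply Subgroup.map_injective K.subtype_injective
    rw [Subgroup.map_sup, Basic.map_subtype_subgroupOf hNK, Basic.map_subtype_subgroupOf hRK, hNR,
      ← MonoidHom.range_eq_map, Subgroup.range_subtype]
  rw [h6] at h5
  exact Group.nilpotent_of_mulEquiv Subgroup.topEquiv

end Cfsg.Agent.H22.NM
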