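import Cfsg.Agent.H22_NM2

/-!
Coprime action: transfer from an action to the semidirect product.
-/

set_option autoImplicit false
set_option linter.unusedSectionVars false

namespace Cfsg.Agent.H22.NM

open Subgroup Cfsg
open scoped commutatorElement Pointwise

universe u v

variable {A : Type u} {G : Type v} [Group A] [Group G] [MulDistribMulAction A G]

/-- the semidirect product -/
abbrev SP (A : Type u) (G : Type v) [Group A] [Group G] [MulDistribMulAction A G] :=
  G ⋊[MulDistribMulAction.toMulAut A G] A

/-- the kernel -/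
def KK (A : Type u) (G : Type v) [Group A] [Group G] [MulDistribMulAction A G] : Subgroup (SP A G) :=
  (SemidirectProduct.inl : G →* SP A G).range

/-- the acting group -/
def AA (A : Type u) (G : Type v) [Group A] [Group G] [MulDistribMulAction A G] : Subgroup (SP A G) :=
  (SemidirectProduct.inr : A →* SP A G).range

instance [Finite A] [Finite G] : Finite (SP A G) :=
  Finite.of_equiv _ (SemidirectProduct.equivProd (φ := MulDistribMulAction.toMulAut A G)).symm

theorem KK_normal : (KK A G).Normal := by
  have h1 : KK A G = (SemidirectProduct.rightHom : SP A G →* A).ker := SemidirectProduct.range_inl_eq_ker_rightHom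
  rw [h1]; infer_instance

theorem card_KK : Nat.card (KK A G) = Nat.card G :=
  (Nat.card_congr (MonoidHom.ofInjective (SemidirectProduct.inl_injective
    (φ := MulDistribMulAction.toMulAut A G))).toEquiv).symm

theorem card_AA : Nat.card (AA A G) = Nat.card A :=
  (Nat.card_congr (MonoidHom.ofInjective (SemidirectProduct.inr_injective
    (φ := MulDistribMulAction.toMulAut A G))).toEquiv).symm

theorem KK_sup : KK A G ⊔ AA A G = ⊤ := by
  rw [eq_top_iff]
  rintro x -
  rw [← SemidirectProduct.inl_left_mul_inr_right x]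
  exact Subgroup.mul_mem_sup ⟨_, rfl⟩ ⟨_, rfl⟩

theorem AA_solvable (h : Group.IsSolvable A) : Group.IsSolvable (AA A G) :=
  Group.isSolvable_of_surjective (SemidirectProduct.inr : A →* SP A G).rangeRestrict_surjective

theorem KK_solvable (h : Group.IsSolvable G) : Group.IsSolvable (KK A G) :=
  Group.isSolvable_of_surjective (SemidirectProduct.inl : G →* SP A G).rangeRestrict_surjective

theorem solvable_of_KK (h : Group.IsSolvable (KK A G)) : Group.IsSolvable G :=
  haveI : Group.IsSolvable (SemidirectProduct.inl : G →* SP A G).range := h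
  Group.isSolvable_of_isSolvable_injective
    (f := (MonoidHom.ofInjective (SemidirectProduct.inl_injective (φ := MulDistribMulAction.toMulAut A G))).toMonoidHom)
    (MonoidHom.ofInjective (SemidirectProduct.inl_injective (φ := MulDistribMulAction.toMulAut A G))).injective

theorem nilpotent_of_KK (h : Group.IsNilpotent (KK A G)) : Group.IsNilpotent G :=
  haveI : Group.IsNilpotent (SemidirectProduct.inl : G →* SP A G).range := h
  Group.nilpotent_of_mulEquiv
    (MonoidHom.ofInjective (SemidirectProduct.inl_injective (φ := MulDistribMulAction.toMulAut A G))).symm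

/-- invariance -/
def Inv (A : Type u) {G : Type v} [Group A] [Group G] [MulDistribMulAction A G] (H : Subgroup G) : Prop :=
  ∀ a : A, ∀ x ∈ H, a • x ∈ H

theorem inl_smul (a : A) (x : G) :
    (SemidirectProduct.inl (a • x) : SP A G) = SemidirectProduct.inr a * SemidirectProduct.inl x * (SemidirectProduct.inr a)⁻¹ := by
  have h1 := SemidirectProduct.inl_aut (φ := MulDistribMulAction.toMulAut A G) a x
  rw [map_inv] at h1
  exact h1

theorem inv_comap {H : Subgroup (SP A G)} (hA : AA A G ≤ normalizer (H : Set (SP A G))) :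
    Inv A (H.comap (SemidirectProduct.inl : G →* SP A G)) := by
  intro a x hx
  rw [Subgroup.mem_comap, inl_smul]
  have h1 : (SemidirectProduct.inr a : SP A G) ∈ normalizer (H : Set (SP A G)) := hA ⟨a, rfl⟩
  exact (Subgroup.mem_normalizer_iff.mp h1 _).mp hx

theorem inv_map [Finite A] [Finite G] {H : Subgroup G} (hA : Inv A H) :
    AA A G ≤ normalizer ((H.map (SemidirectProduct.inl : G →* SP A G) : Subgroup (SP A G)) : Set (SP A G)) := by
  rintro _ ⟨a, rfl⟩
  apply Basic.mem_normalizer_of_cj_le
  intro y hy
  rw [Basic.mem_cj] at hy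
  obtain ⟨z, hz, hzy⟩ := hy
  refine ⟨a • z, hA a z hz, ?_⟩
  rw [inl_smul, hzy]; group

theorem comap_map {H : Subgroup G} : (H.map (SemidirectProduct.inl : G →* SP A G)).comap (SemidirectProduct.inl : G →* SP A G) = H :=
  Subgroup.comap_map_eq_self_of_injective SemidirectProduct.inl_injective H

theorem map_comap {H : Subgroup (SP A G)} (hH : H ≤ KK A G) :
    (H.comap (SemidirectProduct.inl : G →* SP A G)).map (SemidirectProduct.inl : G →* SP A G) = H :=
  Subgroup.map_comap_eq_self hH

/-- every proper invariant subgroup lies in a maximal one -/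
theorem exists_max [Finite G] {H : Subgroup G} (hH : H ≠ ⊤) (hA : Inv A H) :
    ∃ M : Subgroup G, H ≤ M ∧ M ≠ ⊤ ∧ Inv A M ∧ ∀ K : Subgroup G, M < K → Inv A K → K = ⊤ := by
  obtain ⟨M, hHM, hM⟩ := Finite.exists_le_maximal (p := fun N : Subgroup G => N ≠ ⊤ ∧ Inv A N) (a := H) ⟨hH, hA⟩
  obtain ⟨⟨h1, h2⟩, h3⟩ := hM
  refine ⟨M, hHM, h1, h2, ?_⟩
  intro K hMK hK
  by_contra hne
  exact absurd (h3 ⟨hne, hK⟩ hMK.le) (not_le_of_gt hMK)

/-- the hypothesis for maximal invariant subgroups gives all proper invariant subgroups -/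
theorem nil_of_max [Finite A] [Finite G] {p : ℕ}
    (hmax : ∀ H : Subgroup G, H ≠ ⊤ → (∀ a : A, ∀ x ∈ H, a • x ∈ H) →
      (∀ K : Subgroup G, H < K → (∀ a : A, ∀ x ∈ K, a • x ∈ K) → K = ⊤) → p ∣ Nat.card H → Group.IsNilpotent H)
    {H : Subgroup (SP A G)} (hH : H ≤ KK A G) (hA : AA A G ≤ normalizer (H : Set (SP A G))) (hne : H ≠ KK A G)
    (hp : p ∣ Nat.card H) : Group.IsNilpotent H := by
  have h0 : H.comap (SemidirectProduct.inl : G →* SP A G) ≠ ⊤ := by
    intro h1
    apply hne
    rw [← map_comap hH, h1, ← MonoidHom.range_eq_map]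
    rfl
  obtain ⟨M, hHM, h1, h2, h3⟩ := exists_max h0 (inv_comap hA)
  have hc : Nat.card (H.comap (SemidirectProduct.inl : G →* SP A G)) = Nat.card H := by
    conv_rhs => rw [← map_comap hH]
    exact (Subgroup.card_map_of_injective SemidirectProduct.inl_injective).symm
  have h4 := hmax M h1 h2 h3 ((hc ▸ hp : p ∣ Nat.card (H.comap (SemidirectProduct.inl : G →* SP A G))).trans
    (Subgroup.card_dvd_of_le hHM))
  have h5 := H1.Nilp.isNilpotent_of_le hHM h4
  rw [← map_comap hH]
  exact Group.nilpotent_of_surjective _ ((SemidirectProduct.inl : G →* SP A G).subgroupMap_surjective _)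

end Cfsg.Agent.H22.NM
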