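import Cfsg.Agent.H22_NM3

/-!
Coprime action: all maximal `A`-invariant subgroups nilpotent (modulo solvability of one of the groups).
-/

set_option autoImplicit false
set_option linter.unusedSectionVars false

namespace Cfsg.Agent.H22.NM

open Subgroup Cfsg
open scoped commutatorElement Pointwise

universe u v

theorem main {A : Type u} {G : Type v} [Group A] [Group G] [Finite A] [Finite G] [MulDistribMulAction A G]
    (hcop : (Nat.card A).Coprime (Nat.card G)) (hs : Group.IsSolvable A ∨ Group.IsSolvable G)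
    (hmax : ∀ H : Subgroup G, H ≠ ⊤ → (∀ a : A, ∀ x ∈ H, a • x ∈ H) →
      (∀ K : Subgroup G, H < K → (∀ a : A, ∀ x ∈ K, a • x ∈ K) → K = ⊤) → Group.IsNilpotent H)
    (hG : ¬ Group.IsNilpotent G) :
    Group.IsSolvable G ∧
      (∃ p q a b : ℕ, p.Prime ∧ q.Prime ∧ p ≠ q ∧ Nat.card G = p ^ a * q ^ b) ∧
      ∃ (p : ℕ) (P : Sylow p G), p.Prime ∧ p ∣ Nat.card G ∧ (P : Subgroup G).Normal ∧ (∀ a : A, ∀ x ∈ (P : Subgroup G), a • x ∈ (P : Subgroup G)) := by
  set K := KK A G with hK
  set A' := AA A G with hA'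
  have hKn : K.Normal := KK_normal
  have hn : A' ≤ normalizer (K : Set (SP A G)) := by
    rw [Subgroup.normalizer_eq_top]; exact le_top
  have hcop' : (Nat.card A').Coprime (Nat.card K) := by rw [hK, hA', card_KK, card_AA]; exact hcop
  have hnil : ∀ H ≤ K, A' ≤ normalizer (H : Set (SP A G)) → H ≠ K → Group.IsNilpotent H := by
    intro H h1 h2 h3
    exact nil_of_max (p := 1) (fun M h4 h5 h6 _ => hmax M h4 h5 h6) h1 h2 h3 (one_dvd _)
  have hnn : ¬ Group.IsNilpotent K := fun h => hG (nilpotent_of_KK h)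
  have hsol : Group.IsSolvable K := by
    rcases hs with h | h
    · exact solv _ _ K A' hKn KK_sup hcop' (AA_solvable h) hnil rfl
    · exact KK_solvable h
  obtain ⟨s, r, S, R, hs', hr, hsr, hSK, hRK, hKS, hAS, hSp, hRp, hSR, hSb⟩ := struct hn hcop' hsol hnil hnn
  have hsf : Fact s.Prime := ⟨hs'⟩
  have hrf : Fact r.Prime := ⟨hr⟩
  have hc : (Nat.card S).Coprime (Nat.card R) := QQ.cop_of_pgroup hs' hr hsr hSp hRp
  have hcard : Nat.card G = Nat.card S * Nat.card R := by
    rw [← card_KK (A := A), ← hK, ← hSR, Basic.card_sup_of_coprime (hRK.trans hKS) hc]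
  obtain ⟨a, ha⟩ := IsPGroup.iff_card.mp hSp
  obtain ⟨b, hb⟩ := IsPGroup.iff_card.mp hRp
  refine ⟨solvable_of_KK hsol, ⟨s, r, a, b, hs', hr, hsr, by rw [hcard, ha, hb]⟩, ?_⟩
  set S₀ := S.comap (SemidirectProduct.inl : G →* SP A G) with hS₀
  have hS₀c : Nat.card S₀ = Nat.card S := by
    conv_rhs => rw [← map_comap hSK]
    exact (Subgroup.card_map_of_injective SemidirectProduct.inl_injective).symm
  have hS₀p : IsPGroup s S₀ := IsPGroup.of_card (n := a) (by rw [hS₀c, ha])
  have hidx : S₀.index = Nat.card R := by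
    have h1 := S₀.card_mul_index
    rw [hS₀c, hcard] at h1
    exact Nat.eq_of_mul_eq_mul_left Nat.card_pos h1
  have hnd : ¬ s ∣ S₀.index := by
    rw [hidx, hb]
    intro h1
    exact hsr ((Nat.prime_dvd_prime_iff_eq hs' hr).mp (hs'.dvd_of_dvd_pow h1))
  refine ⟨s, hS₀p.toSylow hnd, hs', ?_, ?_, ?_⟩
  · rw [hcard, ha]
    apply Dvd.dvd.mul_right
    apply dvd_pow_self
    rintro rfl
    apply hSb
    apply Subgroup.card_eq_one.mp
    rw [ha, pow_zero]
  · show S₀.Normal
    refine ⟨?_⟩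
    intro n hn' g
    rw [hS₀, Subgroup.mem_comap, map_mul, map_mul, map_inv]
    have h1 : (SemidirectProduct.inl g : SP A G) ∈ normalizer (S : Set (SP A G)) := hKS ⟨g, rfl⟩
    exact (Subgroup.mem_normalizer_iff.mp h1 _).mp hn'
  · exact inv_comap hAS

end Cfsg.Agent.H22.NM
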