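import Mathlib
import Cfsg.Agent.H22_Cover

/-!
Nilpotent subgroups of projective linear groups containing regular unipotent elements.
-/

set_option autoImplicit false

namespace Cfsg.Agent.H22.PGL

open Subgroup Matrix

section nil

variable (F : Type*) [Field F] (n : ℕ)

/-- the nilpotent Jordan block -/
def NJ : Matrix (Fin n) (Fin n) F := fun i j => if i.1 + 1 = j.1 then 1 else 0

variable {F} {n}

theorem NJ_mulVec {v : Fin n → F} (h : NJ F n *ᵥ v = 0) (j : Fin n) (hj : 0 < j.1) : v j = 0 := by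
  have h1 := congrFun h ⟨j.1 - 1, by omega⟩
  rw [Matrix.mulVec, dotProduct, Finset.sum_eq_single j] at h1
  · simp only [NJ] at h1
    rw [if_pos (show j.1 - 1 + 1 = j.1 by omega), one_mul] at h1
    exact h1
  · intro b _ hb
    simp only [NJ]
    rw [if_neg, zero_mul]
    intro h2
    apply hb
    apply Fin.ext
    omega
  · intro h2; exact absurd (Finset.mem_univ _) h2

theorem NJ_vecMul {v : Fin n → F} (h : v ᵥ* NJ F n = 0) (j : Fin n) (hj : j.1 + 1 < n) : v j = 0 := by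
  have h1 := congrFun h ⟨j.1 + 1, hj⟩
  rw [Matrix.vecMul, dotProduct, Finset.sum_eq_single j] at h1
  · simp only [NJ] at h1
    rw [if_pos trivial, mul_one] at h1
    exact h1
  · intro b _ hb
    simp only [NJ]
    rw [if_neg, mul_zero]
    intro h2
    apply hb
    apply Fin.ext
    omega
  · intro h2; exact absurd (Finset.mem_univ _) h2

theorem NJ_pow (k : ℕ) : ∀ i j : Fin n, (NJ F n ^ k) i j ≠ 0 → i.1 + k ≤ j.1 := by
  induction k with
  | zero =>
    intro i j h
    rw [pow_zero, Matrix.one_apply] at h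
    have : i = j := by by_contra hne; exact h (if_neg hne)
    rw [this]; simp
  | succ k ih =>
    intro i j h
    rw [pow_succ, Matrix.mul_apply] at h
    obtain ⟨l, -, hl⟩ := Finset.exists_ne_zero_of_sum_ne_zero h
    have h1 := ih i l (left_ne_zero_of_mul hl)
    have h2 : l.1 + 1 = j.1 := by
      by_contra hne
      apply right_ne_zero_of_mul hl
      simp only [NJ]
      exact if_neg hne
    omega

theorem NJ_pow_eq_zero {k : ℕ} (hk : n ≤ k) : NJ F n ^ k = 0 := by
  ext i j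
  by_contra h
  have := NJ_pow k i j h
  omega

theorem det_one_add_NJ : (1 + NJ F n).det = 1 := by
  rw [Matrix.det_of_isUpperTriangular]
  · apply Finset.prod_eq_one
    intro i _
    rw [Matrix.add_apply, Matrix.one_apply_eq]
    simp [NJ]
  · intro i j hij
    have hij' : j < i := hij
    rw [Matrix.add_apply, Matrix.one_apply_ne hij'.ne', zero_add]
    simp only [NJ]
    exact if_neg (by have := Fin.lt_def.mp hij'; omega)

/-- regular unipotent elements -/
def cJ (σ : Equiv.Perm (Fin n)) : SpecialLinearGroup (Fin n) F :=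
  ⟨1 + (NJ F n).submatrix σ σ, by
    have h1 : (1 : Matrix (Fin n) (Fin n) F) + (NJ F n).submatrix σ σ = (1 + NJ F n).submatrix σ σ := by
      ext i j
      simp [Matrix.one_apply, σ.injective.eq_iff]
    rw [h1, Matrix.det_submatrix_equiv_self, det_one_add_NJ]⟩

theorem cJ_pow {p : ℕ} [Fact p.Prime] [CharP F p] [Nonempty (Fin n)] (σ : Equiv.Perm (Fin n)) :
    ∃ k : ℕ, (cJ (F := F) σ) ^ (p ^ k) = 1 := by
  refine ⟨n, ?_⟩
  apply Subtype.ext
  show (1 + (NJ F n).submatrix σ σ) ^ (p ^ n) = 1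
  have hsub : ∀ k : ℕ, ((NJ F n).submatrix σ σ) ^ k = (NJ F n ^ k).submatrix σ σ := by
    intro k
    induction k with
    | zero => rw [pow_zero, pow_zero, Matrix.submatrix_one_equiv]
    | succ k ih => rw [pow_succ, pow_succ, ih, Matrix.submatrix_mul_equiv]
  have hchar : CharP (Matrix (Fin n) (Fin n) F) p := inferInstance
  rw [add_pow_char_pow_of_commute p (h := Commute.one_left _), one_pow, hsub, NJ_pow_eq_zero
    (Nat.lt_pow_self (Fact.out : p.Prime).one_lt).le]
  simp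

theorem cJ_mulVec (σ : Equiv.Perm (Fin n)) {v : Fin n → F} (h : (cJ (F := F) σ).1 *ᵥ v = v) (j : Fin n)
    (hj : 0 < (σ j).1) : v j = 0 := by
  have h1 : (1 + (NJ F n).submatrix σ σ) *ᵥ v = v := h
  rw [Matrix.add_mulVec, Matrix.one_mulVec, add_eq_left] at h1
  have h2 : NJ F n *ᵥ (v ∘ σ.symm) = 0 := by
    ext i
    have h3 := congrFun h1 (σ.symm i)
    rw [Matrix.submatrix_mulVec_equiv] at h3
    simpa using h3
  have h3 := NJ_mulVec h2 (σ j) hj
  simpa using h3

theorem cJ_vecMul (σ : Equiv.Perm (Fin n)) {v : Fin n → F} (h : v ᵥ* (cJ (F := F) σ).1 = v) (j : Fin n)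
    (hj : (σ j).1 + 1 < n) : v j = 0 := by
  have h1 : v ᵥ* (1 + (NJ F n).submatrix σ σ) = v := h
  rw [Matrix.vecMul_add, Matrix.vecMul_one, add_eq_left] at h1
  have h2 : (v ∘ σ.symm) ᵥ* NJ F n = 0 := by
    ext i
    have h3 := congrFun h1 (σ.symm i)
    rw [Matrix.submatrix_vecMul_equiv] at h3
    simpa using h3
  have h3 := NJ_vecMul h2 (σ j) hj
  simpa using h3

end nil

section fixed

variable {F : Type*} [Field F] [Finite F] {n : ℕ} {p : ℕ} [hp : Fact p.Prime] [CharP F p]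

theorem exists_fixed {P : Type*} [Group P] (hP : IsPGroup p P) (hn : 0 < n)
    [MulAction P (Fin n → F)] (h0 : ∀ g : P, g • (0 : Fin n → F) = 0) :
    ∃ v : Fin n → F, v ≠ 0 ∧ ∀ g : P, g • v = v := by
  have h1 : p ∣ Nat.card (Fin n → F) := by
    rw [Nat.card_fun, Nat.card_fin]
    apply dvd_pow _ (by omega)
    have : Fintype F := Fintype.ofFinite F
    rw [Nat.card_eq_fintype_card, ← CharP.cast_eq_zero_iff F p, Nat.cast_card_eq_zero]
  obtain ⟨b, hb, hb2⟩ := hP.exists_fixed_point_of_prime_dvd_card_of_fixed_point (Fin n → F) h1 (a := 0)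
    (fun g => h0 g)
  exact ⟨b, fun h => hb2 h.symm, fun g => hb g⟩

theorem exists_fixed_col (S : Subgroup (GL (Fin n) F)) (hS : IsPGroup p S) (hn : 0 < n) :
    ∃ v : Fin n → F, v ≠ 0 ∧ ∀ g ∈ S, (g : Matrix (Fin n) (Fin n) F) *ᵥ v = v := by
  let act : MulAction S (Fin n → F) :=
    { smul := fun g v => ((g : GL (Fin n) F) : Matrix (Fin n) (Fin n) F) *ᵥ v
      one_smul := fun v => by
        show (((1 : S) : GL (Fin n) F) : Matrix (Fin n) (Fin n) F) *ᵥ v = v
        rw [Subgroup.coe_one, Units.val_one, Matrix.one_mulVec]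
      mul_smul := fun g h v => by
        show (((g * h : S) : GL (Fin n) F) : Matrix (Fin n) (Fin n) F) *ᵥ v =
          ((g : GL (Fin n) F) : Matrix (Fin n) (Fin n) F) *ᵥ (((h : GL (Fin n) F) : Matrix (Fin n) (Fin n) F) *ᵥ v)
        rw [Subgroup.coe_mul, Units.val_mul, Matrix.mulVec_mulVec] }
  obtain ⟨v, hv, h⟩ := exists_fixed (F := F) (n := n) hS hn (fun g => Matrix.mulVec_zero _)
  exact ⟨v, hv, fun g hg => h ⟨g, hg⟩⟩

theorem exists_fixed_row (S : Subgroup (GL (Fin n) F)) (hS : IsPGroup p S) (hn : 0 < n) :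
    ∃ v : Fin n → F, v ≠ 0 ∧ ∀ g ∈ S, v ᵥ* (g : Matrix (Fin n) (Fin n) F) = v := by
  let act : MulAction S (Fin n → F) :=
    { smul := fun g v => v ᵥ* (((g⁻¹ : S) : GL (Fin n) F) : Matrix (Fin n) (Fin n) F)
      one_smul := fun v => by
        show v ᵥ* (((1⁻¹ : S) : GL (Fin n) F) : Matrix (Fin n) (Fin n) F) = v
        rw [inv_one, Subgroup.coe_one, Units.val_one, Matrix.vecMul_one]
      mul_smul := fun g h v => by
        show v ᵥ* ((((g * h)⁻¹ : S) : GL (Fin n) F) : Matrix (Fin n) (Fin n) F) =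
          (v ᵥ* (((h⁻¹ : S) : GL (Fin n) F) : Matrix (Fin n) (Fin n) F)) ᵥ* (((g⁻¹ : S) : GL (Fin n) F) : Matrix (Fin n) (Fin n) F)
        rw [_root_.mul_inv_rev, Subgroup.coe_mul, Units.val_mul, Matrix.vecMul_vecMul] }
  obtain ⟨v, hv, h⟩ := exists_fixed (F := F) (n := n) hS hn (fun g => Matrix.zero_vecMul _)
  refine ⟨v, hv, fun g hg => ?_⟩
  have h1 : v ᵥ* ((((⟨g, hg⟩⁻¹ : S)⁻¹ : S) : GL (Fin n) F) : Matrix (Fin n) (Fin n) F) = v := h (⟨g, hg⟩⁻¹ : S)
  rwa [inv_inv] at h1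

end fixed

/-- the Sylow `p`-subgroup of the preimage of a nilpotent subgroup in a central quotient -/
theorem exists_sylow {X : Type*} [Group X] [Finite X] {p : ℕ} [hp : Fact p.Prime] (Z : Subgroup X) [Z.Normal]
    (hZ : Z ≤ center X) (A : Subgroup (X ⧸ Z)) (hA : Group.IsNilpotent A) :
    ∃ S : Subgroup X, IsPGroup p S ∧
      (∀ x : X, QuotientGroup.mk' Z x ∈ A → ∀ s ∈ S, x * s * x⁻¹ ∈ S) ∧
      (∀ x : X, QuotientGroup.mk' Z x ∈ A → (∃ k : ℕ, x ^ (p ^ k) = 1) → x ∈ S) := by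
  set π := QuotientGroup.mk' Z with hπ
  set B := A.comap π with hB
  have hBnil : Group.IsNilpotent B := by
    let f : B →* A := π.subgroupComap A
    apply Subgroup.isNilpotent_of_ker_le_center f
    intro x hx
    rw [MonoidHom.mem_ker] at hx
    have h1 : π (x : X) = 1 := congrArg Subtype.val hx
    rw [← MonoidHom.mem_ker, hπ, QuotientGroup.ker_mk'] at h1
    rw [Subgroup.mem_center_iff]
    intro g
    exact Subtype.ext (Subgroup.mem_center_iff.mp (hZ h1) g)
  obtain ⟨S⟩ : Nonempty (Sylow p B) := inferInstance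
  have hSn : (S : Subgroup B).Normal := inferInstance
  refine ⟨(S : Subgroup B).map B.subtype, S.2.map _, ?_, ?_⟩
  · rintro x hx _ ⟨s, hs, rfl⟩
    exact ⟨⟨x, hx⟩ * s * ⟨x, hx⟩⁻¹, hSn.conj_mem _ hs _, rfl⟩
  · rintro x hx ⟨k, hk⟩
    have h2 : orderOf (⟨x, hx⟩ : B) ∣ p ^ k := by
      rw [orderOf_dvd_iff_pow_eq_one]
      exact Subtype.ext hk
    obtain ⟨j, -, hj⟩ := (Nat.dvd_prime_pow hp.out).mp h2
    have h1 : IsPGroup p (zpowers (⟨x, hx⟩ : B)) := IsPGroup.of_card (n := j) (by rw [Nat.card_zpowers, hj])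
    have h2 : (zpowers (⟨x, hx⟩ : B)) ≤ S := by
      have h3 : IsPGroup p ((S : Subgroup B) ⊔ zpowers (⟨x, hx⟩ : B) : Subgroup B) :=
        S.isPGroup'.to_sup_of_normal_left h1
      have h4 := S.is_maximal' h3 le_sup_left
      rw [← h4]; exact le_sup_right
    exact ⟨⟨x, hx⟩, h2 (mem_zpowers _), rfl⟩

end Cfsg.Agent.H22.PGL
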