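import Cfsg.Agent.H22_PGLCover

/-!
Nilpotent covers of projective linear groups of degree at least three.
-/

set_option autoImplicit false

namespace Cfsg.Agent.H22.PGL

open Subgroup Matrix

variable {F : Type*} [Field F] {n : ℕ}

theorem center_mulVec {z : GL (Fin n) F} (hz : z ∈ Subgroup.center (GL (Fin n) F)) :
    ∃ a : F, ∀ v : Fin n → F, (z : Matrix (Fin n) (Fin n) F) *ᵥ v = a • v := by
  obtain ⟨a, ha⟩ := Matrix.GeneralLinearGroup.mem_center_iff_val_mem_range_scalar.mp hz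
  refine ⟨a, fun v => ?_⟩
  rw [← ha]
  ext i
  simp [Matrix.scalar_apply, Matrix.mulVec_diagonal]

/-- the subgroup fixing a line -/
def L (v : Fin n → F) : Subgroup (GL (Fin n) F) where
  carrier := {x | ∃ μ : F, (x : Matrix (Fin n) (Fin n) F) *ᵥ v = μ • v}
  one_mem' := ⟨1, by rw [Units.val_one, Matrix.one_mulVec, one_smul]⟩
  mul_mem' := by
    rintro x y ⟨a, ha⟩ ⟨b, hb⟩
    refine ⟨b * a, ?_⟩
    rw [Units.val_mul, ← Matrix.mulVec_mulVec, hb, Matrix.mulVec_smul, ha, smul_smul]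
  inv_mem' := by
    rintro x ⟨a, ha⟩
    by_cases ha0 : a = 0
    · have hv : v = 0 := by
        have h1 : ((x⁻¹ : GL (Fin n) F) : Matrix (Fin n) (Fin n) F) *ᵥ ((x : Matrix (Fin n) (Fin n) F) *ᵥ v) = v := by
          rw [Matrix.mulVec_mulVec, ← Units.val_mul, inv_mul_cancel, Units.val_one, Matrix.one_mulVec]
        rw [ha, ha0, zero_smul, Matrix.mulVec_zero] at h1
        exact h1.symm
      exact ⟨0, by rw [hv, Matrix.mulVec_zero, smul_zero]⟩
    · refine ⟨a⁻¹, ?_⟩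
      have h1 : ((x⁻¹ : GL (Fin n) F) : Matrix (Fin n) (Fin n) F) *ᵥ ((x : Matrix (Fin n) (Fin n) F) *ᵥ v) = v := by
        rw [Matrix.mulVec_mulVec, ← Units.val_mul, inv_mul_cancel, Units.val_one, Matrix.one_mulVec]
      rw [ha, Matrix.mulVec_smul] at h1
      rw [eq_comm, ← smul_right_inj (M := Fin n → F) ha0, smul_smul, mul_inv_cancel₀ ha0, one_smul, h1]

theorem mem_L {v : Fin n → F} {x : GL (Fin n) F} : x ∈ L v ↔ ∃ μ : F, (x : Matrix (Fin n) (Fin n) F) *ᵥ v = μ • v := Iff.rfl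

theorem center_le_L (v : Fin n → F) : Subgroup.center (GL (Fin n) F) ≤ L v := by
  intro z hz
  obtain ⟨a, ha⟩ := center_mulVec hz
  exact ⟨a, ha v⟩

theorem mem_map_L {v : Fin n → F} {x : GL (Fin n) F} :
    QuotientGroup.mk' (Subgroup.center (GL (Fin n) F)) x ∈ (L v).map (QuotientGroup.mk' (Subgroup.center (GL (Fin n) F))) ↔ x ∈ L v := by
  rw [← Subgroup.mem_comap, Subgroup.comap_map_eq, QuotientGroup.ker_mk', sup_eq_left.mpr (center_le_L v)]

/-- element of `G` from `SL_n` -/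
theorem mem_of_SL {G : Subgroup (GL (Fin n) F ⧸ Subgroup.center (GL (Fin n) F))}
    (hG : ((Matrix.SpecialLinearGroup.toGL : Matrix.SpecialLinearGroup (Fin n) F →* GL (Fin n) F).range).map
      (QuotientGroup.mk' (Subgroup.center (GL (Fin n) F))) ≤ G) (c : SpecialLinearGroup (Fin n) F) :
    QuotientGroup.mk' (Subgroup.center (GL (Fin n) F)) (SpecialLinearGroup.toGL c) ∈ G :=
  hG ⟨_, ⟨c, rfl⟩, rfl⟩

variable [Finite F] {p : ℕ} [hp : Fact p.Prime] [CharP F p]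

theorem line_fixed (hn : 0 < n) (A : Subgroup (GL (Fin n) F ⧸ Subgroup.center (GL (Fin n) F))) (hA : Group.IsNilpotent A)
    (c : GL (Fin n) F) (hcA : QuotientGroup.mk' _ c ∈ A) (hcp : ∃ k : ℕ, c ^ (p ^ k) = 1) (e : Fin n → F)
    (hc : ∀ v : Fin n → F, (c : Matrix (Fin n) (Fin n) F) *ᵥ v = v → ∃ μ : F, v = μ • e)
    (x : GL (Fin n) F) (hx : QuotientGroup.mk' _ x ∈ A) : x ∈ L e := by
  obtain ⟨S, hS, hconj, hmem⟩ := exists_sylow (p := p) (Subgroup.center (GL (Fin n) F)) le_rfl A hA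
  obtain ⟨v, hv, hfix⟩ := exists_fixed_col S hS hn
  obtain ⟨μ, rfl⟩ := hc v (hfix c (hmem c hcA hcp))
  have hμ : μ ≠ 0 := by
    rintro rfl
    rw [zero_smul] at hv; exact hv rfl
  have hfixe : ∀ g ∈ S, (g : Matrix (Fin n) (Fin n) F) *ᵥ e = e := by
    intro g hg
    have := hfix g hg
    rw [Matrix.mulVec_smul] at this
    exact (smul_right_inj hμ).mp this
  have h1 : (c : Matrix (Fin n) (Fin n) F) *ᵥ ((x : Matrix (Fin n) (Fin n) F) *ᵥ e) = (x : Matrix (Fin n) (Fin n) F) *ᵥ e := by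
    have h2 : x⁻¹ * c * x ∈ S := by
      have h3 := hconj x⁻¹ (by rw [map_inv]; exact A.inv_mem hx) c (hmem c hcA hcp)
      rwa [inv_inv] at h3
    have h3 := hfixe _ h2
    have h4 : c * x = x * (x⁻¹ * c * x) := by group
    rw [Matrix.mulVec_mulVec, ← Units.val_mul, h4, Units.val_mul, ← Matrix.mulVec_mulVec, h3]
  obtain ⟨μ', hμ'⟩ := hc _ h1
  exact ⟨μ', hμ'⟩

theorem row_contra (hn : 0 < n) (A : Subgroup (GL (Fin n) F ⧸ Subgroup.center (GL (Fin n) F))) (hA : Group.IsNilpotent A)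
    (c d : GL (Fin n) F) (hcA : QuotientGroup.mk' _ c ∈ A) (hcp : ∃ k : ℕ, c ^ (p ^ k) = 1)
    (hdA : QuotientGroup.mk' _ d ∈ A) (hdp : ∃ k : ℕ, d ^ (p ^ k) = 1)
    (h : ∀ v : Fin n → F, v ᵥ* (c : Matrix (Fin n) (Fin n) F) = v → v ᵥ* (d : Matrix (Fin n) (Fin n) F) = v → v = 0) : False := by
  obtain ⟨S, hS, hconj, hmem⟩ := exists_sylow (p := p) (Subgroup.center (GL (Fin n) F)) le_rfl A hA
  obtain ⟨v, hv, hfix⟩ := exists_fixed_row S hS hn
  exact hv (h v (hfix c (hmem c hcA hcp)) (hfix d (hmem d hdA hdp)))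

theorem ge_three (p : ℕ) [Fact p.Prime] [CharP F p] (hn : 3 ≤ n) (G : Subgroup (GL (Fin n) F ⧸ Subgroup.center (GL (Fin n) F)))
    (hG : ((Matrix.SpecialLinearGroup.toGL : Matrix.SpecialLinearGroup (Fin n) F →* GL (Fin n) F).range).map
      (QuotientGroup.mk' (Subgroup.center (GL (Fin n) F))) ≤ G) :
    ¬ ∃ 𝓐 : Finset (Subgroup ↥G), ((∀ A ∈ 𝓐, A ≠ ⊤) ∧ (∀ g : ↥G, ∃ A ∈ 𝓐, g ∈ A)) ∧ (∀ 𝓑 : Finset (Subgroup ↥G), (∀ A ∈ 𝓑, A ≠ ⊤) ∧ (∀ g : ↥G, ∃ A ∈ 𝓑, g ∈ A) → 𝓐.card ≤ 𝓑.card) ∧ (∀ A ∈ 𝓐, Group.IsNilpotent ↥A) := by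
  classical
  have hne : Nonempty (Fin n) := ⟨⟨0, by omega⟩⟩
  set i0 : Fin n := ⟨0, by omega⟩ with hi0
  set i1 : Fin n := ⟨n - 1, by omega⟩ with hi1
  set i2 : Fin n := ⟨n - 2, by omega⟩ with hi2
  have h12 : i1 ≠ i2 := by intro h; have := congrArg Fin.val h; simp only [hi1, hi2] at this; omega
  have h02 : i0 ≠ i2 := by intro h; have := congrArg Fin.val h; simp only [hi0, hi2] at this; omega
  have h01 : i0 ≠ i1 := by intro h; have := congrArg Fin.val h; simp only [hi0, hi1] at this; omega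
  set e : Fin n → F := Pi.single i0 1 with he
  set τ : Equiv.Perm (Fin n) := Equiv.swap i1 i2 with hτ
  have hτ0 : τ i0 = i0 := Equiv.swap_apply_of_ne_of_ne h01 h02
  set c := SpecialLinearGroup.toGL (cJ (F := F) (1 : Equiv.Perm (Fin n))) with hcdef
  set d := SpecialLinearGroup.toGL (cJ (F := F) τ) with hddef
  have hpow : ∀ σ : Equiv.Perm (Fin n), ∃ k : ℕ, (SpecialLinearGroup.toGL (cJ (F := F) σ)) ^ (p ^ k) = 1 := by
    intro σ
    obtain ⟨k, hk⟩ := cJ_pow (F := F) (p := p) σ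
    exact ⟨k, by rw [← map_pow, hk, map_one]⟩
  have hline : ∀ σ : Equiv.Perm (Fin n), σ i0 = i0 → ∀ v : Fin n → F,
      ((SpecialLinearGroup.toGL (cJ (F := F) σ) : GL (Fin n) F) : Matrix (Fin n) (Fin n) F) *ᵥ v = v → ∃ μ : F, v = μ • e := by
    intro σ hσ v hv
    refine ⟨v i0, ?_⟩
    ext j
    by_cases hj : j = i0
    · rw [hj, he]; simp
    · rw [he, Pi.smul_apply, Pi.single_eq_of_ne hj, smul_zero]
      apply cJ_mulVec σ hv j
      rw [Nat.pos_iff_ne_zero]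
      intro h0
      apply hj
      apply σ.injective
      rw [hσ]
      exact Fin.ext h0
  -- transfer to the big group
  have hmapnil : ∀ N : Subgroup G, Group.IsNilpotent N → Group.IsNilpotent (N.map G.subtype) := by
    intro N hN
    exact Group.nilpotent_of_mulEquiv (N.equivMapOfInjective G.subtype G.subtype_injective)
  let M : Subgroup G := ((L e).map (QuotientGroup.mk' (Subgroup.center (GL (Fin n) F)))).subgroupOf G
  have hM : M ≠ ⊤ := by
    intro htop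
    have hdet : (Matrix.transvection i1 i0 (1 : F)).det = 1 := Matrix.det_transvection_of_ne _ _ h01.symm _
    set w : SpecialLinearGroup (Fin n) F := ⟨Matrix.transvection i1 i0 (1 : F), hdet⟩ with hw
    have h1 : (⟨_, mem_of_SL hG w⟩ : G) ∈ M := by rw [htop]; trivial
    have h2 : SpecialLinearGroup.toGL w ∈ L e := mem_map_L.mp h1
    obtain ⟨μ, hμ⟩ := h2
    have h3 := congrFun hμ i1
    have h4 : ((SpecialLinearGroup.toGL w : GL (Fin n) F) : Matrix (Fin n) (Fin n) F) = Matrix.transvection i1 i0 (1 : F) := rfl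
    rw [h4, he, Matrix.mulVec_single_one, Pi.smul_apply, Pi.single_eq_of_ne h01.symm, smul_zero] at h3
    simp [Matrix.transvection, h01.symm] at h3
  have hle : ∀ σ : Equiv.Perm (Fin n), σ i0 = i0 → ∀ N : Subgroup G, Group.IsNilpotent N →
      (⟨_, mem_of_SL hG (cJ (F := F) σ)⟩ : G) ∈ N → N ≤ M := by
    intro σ hσ N hN hcN g hg
    obtain ⟨x, hx⟩ := QuotientGroup.mk'_surjective (Subgroup.center (GL (Fin n) F)) (g : GL (Fin n) F ⧸ Subgroup.center (GL (Fin n) F))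
    have h1 : QuotientGroup.mk' (Subgroup.center (GL (Fin n) F)) x ∈ N.map G.subtype := ⟨g, hg, hx.symm⟩
    have h2 := line_fixed (p := p) (by omega) (N.map G.subtype) (hmapnil N hN) (SpecialLinearGroup.toGL (cJ (F := F) σ))
      ⟨_, hcN, rfl⟩ (hpow σ) e (hline σ hσ) x h1
    show (g : GL (Fin n) F ⧸ Subgroup.center (GL (Fin n) F)) ∈ (L e).map (QuotientGroup.mk' (Subgroup.center (GL (Fin n) F)))
    rw [← hx]
    exact mem_map_L.mpr h2
  apply H22.Cover.no_nilpotent_cover M hM (⟨_, mem_of_SL hG (cJ (F := F) 1)⟩ : G) (⟨_, mem_of_SL hG (cJ (F := F) τ)⟩ : G)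
    (hle 1 rfl) (hle τ hτ0)
  intro N hN hcN hdN
  refine row_contra (p := p) (by omega) (N.map G.subtype) (hmapnil N hN) (SpecialLinearGroup.toGL (cJ (F := F) 1))
    (SpecialLinearGroup.toGL (cJ (F := F) τ)) ⟨_, hcN, rfl⟩ (hpow 1) ⟨_, hdN, rfl⟩ (hpow τ) ?_
  intro v hv1 hv2
  ext j
  by_cases hj : j = i1
  · have h1 : (τ j).1 + 1 < n := by
      rw [hj, hτ, Equiv.swap_apply_left, hi2]
      simp only
      omega
    exact cJ_vecMul τ hv2 j h1
  · have h1 : ((1 : Equiv.Perm (Fin n)) j).1 + 1 < n := by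
      show j.1 + 1 < n
      by_contra hcon
      apply hj
      apply Fin.ext
      show j.1 = n - 1
      omega
    exact cJ_vecMul 1 hv1 j h1

end Cfsg.Agent.H22.PGL
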