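import Cfsg.Agent.H22_PGLCover2
import Cfsg.Agent.H12_Core

/-!
Two by two matrices: centralizers, elliptic elements, unipotent elements.
-/

set_option autoImplicit false

namespace Cfsg.Agent.H22.PGL

open Subgroup Matrix

section mat

variable {F : Type*} [Field F]

/-- scalar matrices -/
def Sc (t : Matrix (Fin 2) (Fin 2) F) : Prop := ∃ a : F, t = a • (1 : Matrix (Fin 2) (Fin 2) F)

theorem ext2 {s t : Matrix (Fin 2) (Fin 2) F} (h00 : s 0 0 = t 0 0) (h01 : s 0 1 = t 0 1) (h10 : s 1 0 = t 1 0)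
    (h11 : s 1 1 = t 1 1) : s = t := by
  ext i j
  fin_cases i <;> fin_cases j <;> assumption

theorem sc_iff {t : Matrix (Fin 2) (Fin 2) F} : Sc t ↔ t 0 1 = 0 ∧ t 1 0 = 0 ∧ t 0 0 = t 1 1 := by
  constructor
  · rintro ⟨a, rfl⟩
    simp
  · rintro ⟨h1, h2, h3⟩
    refine ⟨t 0 0, ext2 ?_ ?_ ?_ ?_⟩ <;> simp [h1, h2, h3]

theorem comm_form {t x : Matrix (Fin 2) (Fin 2) F} (ht : ¬ Sc t) (h : x * t = t * x) :
    ∃ α β : F, x = α • (1 : Matrix (Fin 2) (Fin 2) F) + β • t := by
  have e00 := congrFun (congrFun h 0) 0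
  have e01 := congrFun (congrFun h 0) 1
  have e10 := congrFun (congrFun h 1) 0
  simp only [Matrix.mul_apply, Fin.sum_univ_two] at e00 e01 e10
  rw [sc_iff] at ht
  by_cases h01 : t 0 1 = 0
  · by_cases h10 : t 1 0 = 0
    · have hne : t 0 0 - t 1 1 ≠ 0 := by
        intro h3
        exact ht ⟨h01, h10, sub_eq_zero.mp h3⟩
      have hx01 : x 0 1 = 0 := by
        have : x 0 1 * (t 0 0 - t 1 1) = 0 := by rw [h01] at e01; linear_combination -e01
        exact (mul_eq_zero.mp this).resolve_right hne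
      have hx10 : x 1 0 = 0 := by
        have : x 1 0 * (t 0 0 - t 1 1) = 0 := by rw [h10] at e10; linear_combination e10
        exact (mul_eq_zero.mp this).resolve_right hne
      refine ⟨x 0 0 - (x 0 0 - x 1 1) / (t 0 0 - t 1 1) * t 0 0, (x 0 0 - x 1 1) / (t 0 0 - t 1 1), ?_⟩
      apply ext2
      · simp
      · simp [h01, hx01]
      · simp [h10, hx10]
      · simp only [Matrix.add_apply, Matrix.smul_apply, Matrix.one_apply_eq, smul_eq_mul, mul_one]
        field_simp
        ring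
    · refine ⟨x 0 0 - x 1 0 / t 1 0 * t 0 0, x 1 0 / t 1 0, ?_⟩
      apply ext2
      · simp
      · simp only [Matrix.add_apply, Matrix.smul_apply, smul_eq_mul]
        rw [Matrix.one_apply_ne (by decide), mul_zero, zero_add]
        field_simp
        linear_combination e00
      · simp only [Matrix.add_apply, Matrix.smul_apply, smul_eq_mul]
        rw [Matrix.one_apply_ne (by decide), mul_zero, zero_add]
        field_simp
      · simp only [Matrix.add_apply, Matrix.smul_apply, Matrix.one_apply_eq, smul_eq_mul, mul_one]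
        field_simp
        linear_combination e10
  · refine ⟨x 0 0 - x 0 1 / t 0 1 * t 0 0, x 0 1 / t 0 1, ?_⟩
    apply ext2
    · simp
    · simp only [Matrix.add_apply, Matrix.smul_apply, smul_eq_mul]
      rw [Matrix.one_apply_ne (by decide), mul_zero, zero_add]
      field_simp
    · simp only [Matrix.add_apply, Matrix.smul_apply, smul_eq_mul]
      rw [Matrix.one_apply_ne (by decide), mul_zero, zero_add]
      field_simp
      linear_combination -e00
    · simp only [Matrix.add_apply, Matrix.smul_apply, Matrix.one_apply_eq, smul_eq_mul, mul_one]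
      field_simp
      linear_combination -e01

theorem comm_comm {t x y : Matrix (Fin 2) (Fin 2) F} (ht : ¬ Sc t) (hx : x * t = t * x) (hy : y * t = t * y) :
    x * y = y * x := by
  obtain ⟨α, β, rfl⟩ := comm_form ht hx
  rw [add_mul, mul_add, smul_mul_assoc, smul_mul_assoc, mul_smul_comm, mul_smul_comm, one_mul, mul_one, hy]

/-- no eigenvector -/
def Ell (t : Matrix (Fin 2) (Fin 2) F) : Prop := ∀ v : Fin 2 → F, v ≠ 0 → ∀ μ : F, t *ᵥ v ≠ μ • v

theorem Ell.not_sc {t : Matrix (Fin 2) (Fin 2) F} (h : Ell t) : ¬ Sc t := by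
  rintro ⟨a, rfl⟩
  apply h (Pi.single 0 1) (by intro h0; have := congrFun h0 0; simp at this) a
  rw [Matrix.smul_mulVec, Matrix.one_mulVec]

theorem Ell.of_comm {t z : Matrix (Fin 2) (Fin 2) F} (h : Ell t) (hz : z * t = t * z) (hzs : ¬ Sc z) : Ell z := by
  obtain ⟨α, β, rfl⟩ := comm_form h.not_sc hz
  intro v hv μ hμ
  have hβ : β ≠ 0 := by
    rintro rfl
    exact hzs ⟨α, by rw [zero_smul, add_zero]⟩
  apply h v hv (β⁻¹ * (μ - α))
  rw [Matrix.add_mulVec, Matrix.smul_mulVec, Matrix.smul_mulVec, Matrix.one_mulVec] at hμ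
  have h1 : β • (t *ᵥ v) = (μ - α) • v := by
    rw [sub_smul, ← hμ]; abel
  rw [mul_smul, ← h1, smul_smul, inv_mul_cancel₀ hβ, one_smul]

theorem Ell.det_ne {t : Matrix (Fin 2) (Fin 2) F} (h : Ell t) (a b : F) (hb : b ≠ 0) : (a • (1 : Matrix (Fin 2) (Fin 2) F) + b • t).det ≠ 0 := by
  intro hd
  obtain ⟨v, hv, hv2⟩ := Matrix.exists_mulVec_eq_zero_iff.mpr hd
  rw [Matrix.add_mulVec, Matrix.smul_mulVec, Matrix.smul_mulVec, Matrix.one_mulVec] at hv2
  apply h v hv (b⁻¹ * (-a))
  have h1 : b • (t *ᵥ v) = (-a) • v := by rw [neg_smul]; exact (neg_eq_of_add_eq_zero_right hv2).symm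
  rw [mul_smul, ← h1, smul_smul, inv_mul_cancel₀ hb, one_smul]

theorem sq_eq (t : Matrix (Fin 2) (Fin 2) F) : t * t = (-(t 0 0 * t 1 1 - t 0 1 * t 1 0)) • (1 : Matrix (Fin 2) (Fin 2) F) + (t 0 0 + t 1 1) • t := by
  apply ext2 <;> simp [Matrix.mul_apply, Fin.sum_univ_two] <;> ring

/-- `s` in `SL₂` commuting with an elliptic `t`, `s²` not scalar -/
theorem exists_s [Fintype F] (hF : 4 ≤ Fintype.card F) {t : Matrix (Fin 2) (Fin 2) F} (ht : Ell t) :
    ∃ s : SpecialLinearGroup (Fin 2) F, s.1 * t = t * s.1 ∧ ¬ Sc (s.1 * s.1) := by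
  set τ := t 0 0 + t 1 1 with hτ
  set δ := t 0 0 * t 1 1 - t 0 1 * t 1 0 with hδ
  have ht2 : t * t = (-δ) • (1 : Matrix (Fin 2) (Fin 2) F) + τ • t := sq_eq t
  -- choice of a
  have hex : ∃ a : F, (2 * a + τ) * (2 * a ^ 2 + 2 * a * τ + τ ^ 2 - 2 * δ) ≠ 0 := by
    by_cases h2 : (2 : F) = 0
    · -- characteristic two
      refine ⟨0, ?_⟩
      have hτ0 : τ ≠ 0 := by
        intro h0
        have hchar : CharP F 2 := by
          haveI := CharTwo.of_one_ne_zero_of_two_eq_zero (one_ne_zero (α := F)) h2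
          infer_instance
        obtain ⟨ε, hε⟩ : ∃ ε : F, ε ^ 2 = δ := by
          have : Function.Surjective (frobenius F 2) := surjective_frobenius F 2
          obtain ⟨ε, hε⟩ := this δ
          exact ⟨ε, hε⟩
        have h3 : (ε • (1 : Matrix (Fin 2) (Fin 2) F) + (1 : F) • t).det = 0 := by
          rw [Matrix.det_fin_two]
          simp only [Matrix.add_apply, Matrix.smul_apply, Matrix.one_apply_eq, smul_eq_mul, mul_one, one_mul]
          rw [Matrix.one_apply_ne (by decide : (0 : Fin 2) ≠ 1), Matrix.one_apply_ne (by decide : (1 : Fin 2) ≠ 0)]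
          have e1 : t 1 1 = - t 0 0 := by linear_combination h0
          rw [hδ, e1] at hε
          rw [e1]
          linear_combination hε + (- t 0 0 * t 0 0 - t 0 1 * t 1 0) * h2
        exact ht.det_ne ε 1 one_ne_zero h3
      have : (2 * (0 : F) + τ) * (2 * 0 ^ 2 + 2 * 0 * τ + τ ^ 2 - 2 * δ) = τ ^ 3 - τ * δ * 2 := by ring
      rw [this, h2, mul_zero, sub_zero]
      exact pow_ne_zero 3 hτ0
    · let P : Polynomial F := (Polynomial.C 2 * Polynomial.X + Polynomial.C τ) *
        (Polynomial.C 2 * Polynomial.X ^ 2 + Polynomial.C (2 * τ) * Polynomial.X + Polynomial.C (τ ^ 2 - 2 * δ))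
      have h1 : (Polynomial.C 2 * Polynomial.X + Polynomial.C τ : Polynomial F).natDegree = 1 :=
        Polynomial.natDegree_linear h2
      have h3 : (Polynomial.C 2 * Polynomial.X ^ 2 + Polynomial.C (2 * τ) * Polynomial.X + Polynomial.C (τ ^ 2 - 2 * δ) : Polynomial F).natDegree = 2 :=
        Polynomial.natDegree_quadratic h2
      have h1' : (Polynomial.C 2 * Polynomial.X + Polynomial.C τ : Polynomial F) ≠ 0 := by
        intro h0; rw [h0, Polynomial.natDegree_zero] at h1; exact absurd h1 (by norm_num)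
      have h3' : (Polynomial.C 2 * Polynomial.X ^ 2 + Polynomial.C (2 * τ) * Polynomial.X + Polynomial.C (τ ^ 2 - 2 * δ) : Polynomial F) ≠ 0 := by
        intro h0; rw [h0, Polynomial.natDegree_zero] at h3; exact absurd h3 (by norm_num)
      have hP : P ≠ 0 := mul_ne_zero h1' h3'
      have hdeg : P.natDegree = 3 := by
        rw [Polynomial.natDegree_mul h1' h3', h1, h3]
      by_contra hcon
      push Not at hcon
      have h4 : P = 0 := by
        apply Polynomial.eq_zero_of_natDegree_lt_card_of_eval_eq_zero (f := fun a : F => a) P Function.injective_id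
        · intro a
          have := hcon a
          show P.eval a = 0
          simp only [P, Polynomial.eval_mul, Polynomial.eval_add, Polynomial.eval_C, Polynomial.eval_X, Polynomial.eval_pow]
          rw [← this]; ring
        · rw [hdeg]; omega
      exact hP h4
  obtain ⟨a, ha⟩ := hex
  set s0 : Matrix (Fin 2) (Fin 2) F := a • (1 : Matrix (Fin 2) (Fin 2) F) + (1 : F) • t with hs0
  have hd : s0.det ≠ 0 := ht.det_ne a 1 one_ne_zero
  set D := s0.det with hD
  have hss : s0 * s0 = (a ^ 2 - δ) • (1 : Matrix (Fin 2) (Fin 2) F) + (2 * a + τ) • t := by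
    rw [hs0, one_smul, add_mul, mul_add, mul_add, ht2, smul_mul_assoc, mul_smul_comm, smul_mul_assoc, mul_smul_comm, one_mul,
      mul_one, one_mul, smul_smul]
    module
  have hdetss : (s0 * s0).det = D * D := by rw [Matrix.det_mul]
  refine ⟨⟨D⁻¹ • (s0 * s0), ?_⟩, ?_, ?_⟩
  · rw [Matrix.det_smul, hdetss, Fintype.card_fin]
    field_simp
  · show (D⁻¹ • (s0 * s0)) * t = t * (D⁻¹ • (s0 * s0))
    rw [smul_mul_assoc, mul_smul_comm, hss, add_mul, mul_add, smul_mul_assoc, smul_mul_assoc, mul_smul_comm, mul_smul_comm,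
      one_mul, mul_one]
  · show ¬ Sc ((D⁻¹ • (s0 * s0)) * (D⁻¹ • (s0 * s0)))
    intro hsc
    apply ht.not_sc
    have h4 : (s0 * s0) * (s0 * s0) = ((a ^ 2 - δ) ^ 2 - (2 * a + τ) ^ 2 * δ) • (1 : Matrix (Fin 2) (Fin 2) F) +
        ((2 * a + τ) * (2 * a ^ 2 + 2 * a * τ + τ ^ 2 - 2 * δ)) • t := by
      rw [hss, add_mul, mul_add, mul_add, smul_mul_assoc, smul_mul_assoc, smul_mul_assoc, mul_smul_comm, mul_smul_comm, mul_smul_comm,
        smul_mul_assoc, mul_smul_comm, one_mul, mul_one, one_mul, ht2]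
      module
    rw [smul_mul_assoc, mul_smul_comm, h4] at hsc
    obtain ⟨b, hb⟩ := hsc
    set B := (2 * a + τ) * (2 * a ^ 2 + 2 * a * τ + τ ^ 2 - 2 * δ) with hB
    refine ⟨B⁻¹ * (D * D * b - ((a ^ 2 - δ) ^ 2 - (2 * a + τ) ^ 2 * δ)), ?_⟩
    have h5 : B • t = (D * D * b - ((a ^ 2 - δ) ^ 2 - (2 * a + τ) ^ 2 * δ)) • (1 : Matrix (Fin 2) (Fin 2) F) := by
      have h6 : (D * D) • (D⁻¹ • D⁻¹ • (((a ^ 2 - δ) ^ 2 - (2 * a + τ) ^ 2 * δ) • (1 : Matrix (Fin 2) (Fin 2) F) + B • t)) =
          (D * D) • (b • (1 : Matrix (Fin 2) (Fin 2) F)) := by rw [hb]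
      rw [smul_smul, smul_smul, smul_smul] at h6
      have h7 : D * D * D⁻¹ * D⁻¹ = 1 := by field_simp
      rw [h7] at h6
      rw [one_smul] at h6
      rw [sub_smul, ← h6]; abel
    rw [mul_smul, ← h5, smul_smul, inv_mul_cancel₀ ha, one_smul]

end mat

end Cfsg.Agent.H22.PGL
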