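import Cfsg.Agent.H22_PGLCover3

/-!
Nilpotent covers of groups between `PSL₂` and `PGL₂`.
-/

set_option autoImplicit false

namespace Cfsg.Agent.H22.PGL

open Subgroup Matrix

theorem no_cover_of_rel {G : Type*} [Group G] [Finite G] {ι : Type*} (r : ι → G) (M : ι → Subgroup G)
    (hM : ∀ i, M i ≠ ⊤) (hcov : ∀ g : G, ∃ i, g ∈ M i)
    (hinj : ∀ A : Subgroup G, Group.IsNilpotent A → ∀ i j, r i ∈ A → r j ∈ A → M i = M j)
    (d : G) (hd : ∀ A : Subgroup G, Group.IsNilpotent A → d ∈ A → ∀ i, r i ∉ A) :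
    ¬ ∃ 𝓐 : Finset (Subgroup G), ((∀ A ∈ 𝓐, A ≠ ⊤) ∧ (∀ g : G, ∃ A ∈ 𝓐, g ∈ A)) ∧
      (∀ 𝓑 : Finset (Subgroup G), (∀ A ∈ 𝓑, A ≠ ⊤) ∧ (∀ g : G, ∃ A ∈ 𝓑, g ∈ A) → 𝓐.card ≤ 𝓑.card) ∧
      (∀ A ∈ 𝓐, Group.IsNilpotent ↥A) := by
  classical
  rintro ⟨𝓐, ⟨h1, h2⟩, hmin, hnil⟩
  set 𝓑 : Finset (Subgroup G) := (Set.toFinite (Set.range M)).toFinset with h𝓑
  have hmem : ∀ B, B ∈ 𝓑 ↔ ∃ i, M i = B := by intro B; rw [h𝓑, Set.Finite.mem_toFinset]; rfl
  have h3 := hmin 𝓑 ⟨fun B hB => by obtain ⟨i, rfl⟩ := (hmem B).mp hB; exact hM i,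
    fun g => by obtain ⟨i, hi⟩ := hcov g; exact ⟨M i, (hmem _).mpr ⟨i, rfl⟩, hi⟩⟩
  obtain ⟨D, hD, hdD⟩ := h2 d
  have hex : ∀ B : Subgroup G, ∃ A : Subgroup G, B ∈ 𝓑 → A ∈ 𝓐 ∧ ∃ i, M i = B ∧ r i ∈ A := by
    intro B
    by_cases hB : B ∈ 𝓑
    · obtain ⟨i, hi⟩ := (hmem B).mp hB
      obtain ⟨A, hA, hrA⟩ := h2 (r i)
      exact ⟨A, fun _ => ⟨hA, i, hi, hrA⟩⟩
    · exact ⟨⊥, fun h => absurd h hB⟩
  choose f hf using hex
  have h4 : 𝓑.card ≤ (𝓐.erase D).card := by
    apply Finset.card_le_card_of_injOn f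
    · intro B hB
      obtain ⟨h5, i, _, h6⟩ := hf B hB
      refine Finset.mem_coe.mpr (Finset.mem_erase.mpr ⟨?_, h5⟩)
      intro h7
      exact hd D (hnil D hD) hdD i (h7 ▸ h6)
    · intro B hB B' hB' h7
      obtain ⟨h5, i, hi, h6⟩ := hf B hB
      obtain ⟨h5', j, hj, h6'⟩ := hf B' hB'
      rw [← hi, ← hj]
      exact hinj (f B) (hnil _ h5) i j h6 (by rw [h7]; exact h6')
  rw [Finset.card_erase_of_mem hD] at h4
  have h5 : 0 < 𝓐.card := Finset.card_pos.mpr ⟨D, hD⟩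
  omega

section two

variable {F : Type*} [Field F]

theorem mem_center_iff_sc {z : GL (Fin 2) F} : z ∈ Subgroup.center (GL (Fin 2) F) ↔ Sc (z : Matrix (Fin 2) (Fin 2) F) := by
  rw [Matrix.GeneralLinearGroup.mem_center_iff_val_mem_range_scalar]
  constructor
  · rintro ⟨a, ha⟩
    refine ⟨a, ?_⟩
    rw [← ha]
    ext i j
    simp [Matrix.scalar_apply, Matrix.diagonal_apply, Matrix.one_apply]
  · rintro ⟨a, ha⟩
    refine ⟨a, ?_⟩
    rw [ha]
    ext i j
    simp [Matrix.scalar_apply, Matrix.diagonal_apply, Matrix.one_apply]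

theorem pcomm {x z : GL (Fin 2) F} (h : QuotientGroup.mk' (Subgroup.center (GL (Fin 2) F)) x * QuotientGroup.mk' (Subgroup.center (GL (Fin 2) F)) z =
      QuotientGroup.mk' (Subgroup.center (GL (Fin 2) F)) z * QuotientGroup.mk' (Subgroup.center (GL (Fin 2) F)) x) :
    ∃ a : F, a * a = 1 ∧ (x : Matrix (Fin 2) (Fin 2) F) * z = a • ((z : Matrix (Fin 2) (Fin 2) F) * x) := by
  rw [← map_mul, ← map_mul] at h
  have h1 : (z * x)⁻¹ * (x * z) ∈ Subgroup.center (GL (Fin 2) F) := by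
    have h2 : QuotientGroup.mk' (Subgroup.center (GL (Fin 2) F)) (z * x) = QuotientGroup.mk' (Subgroup.center (GL (Fin 2) F)) (x * z) := h.symm
    exact QuotientGroup.eq.mp h2
  obtain ⟨a, ha⟩ := mem_center_iff_sc.mp h1
  have h2 : (x : Matrix (Fin 2) (Fin 2) F) * z = a • ((z : Matrix (Fin 2) (Fin 2) F) * x) := by
    have h3 : x * z = (z * x) * ((z * x)⁻¹ * (x * z)) := by group
    have h4 := congrArg Units.val h3
    rw [Units.val_mul, Units.val_mul, ha, Units.val_mul] at h4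
    rw [h4, mul_smul_comm, mul_one]
  refine ⟨a, ?_, h2⟩
  have h3 := congrArg Matrix.det h2
  rw [Matrix.det_smul, Matrix.det_mul, Matrix.det_mul, Fintype.card_fin] at h3
  have hx : (x : Matrix (Fin 2) (Fin 2) F).det ≠ 0 := by
    have := (Matrix.isUnit_iff_isUnit_det _).mp x.isUnit
    exact this.ne_zero
  have hz : (z : Matrix (Fin 2) (Fin 2) F).det ≠ 0 := by
    have := (Matrix.isUnit_iff_isUnit_det _).mp z.isUnit
    exact this.ne_zero
  have h4 : (a * a - 1) * ((x : Matrix (Fin 2) (Fin 2) F).det * (z : Matrix (Fin 2) (Fin 2) F).det) = 0 := by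
    linear_combination -h3
  exact sub_eq_zero.mp ((mul_eq_zero.mp h4).resolve_right (mul_ne_zero hx hz))

/-- commutes with the square -/
theorem pcomm_sq {x z : GL (Fin 2) F} (h : QuotientGroup.mk' (Subgroup.center (GL (Fin 2) F)) x * QuotientGroup.mk' (Subgroup.center (GL (Fin 2) F)) z =
      QuotientGroup.mk' (Subgroup.center (GL (Fin 2) F)) z * QuotientGroup.mk' (Subgroup.center (GL (Fin 2) F)) x) :
    (x : Matrix (Fin 2) (Fin 2) F) * ((z : Matrix (Fin 2) (Fin 2) F) * z) = ((z : Matrix (Fin 2) (Fin 2) F) * z) * x := by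
  obtain ⟨a, ha, h1⟩ := pcomm h
  rw [← mul_assoc, h1, smul_mul_assoc, mul_assoc, h1, mul_smul_comm, smul_smul, ha, one_smul, mul_assoc]

theorem cent_eq {r z : GL (Fin 2) F} (hr : ¬ Sc (r : Matrix (Fin 2) (Fin 2) F)) (hz : ¬ Sc (z : Matrix (Fin 2) (Fin 2) F))
    (h : (r : Matrix (Fin 2) (Fin 2) F) * z = z * r) : centralizer ({r} : Set (GL (Fin 2) F)) = centralizer {z} := by
  ext x
  rw [mem_centralizer_singleton_iff, mem_centralizer_singleton_iff]
  constructor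
  · intro h1
    apply Units.ext
    rw [Units.val_mul, Units.val_mul]
    exact comm_comm hr (by rw [← Units.val_mul, h1, Units.val_mul]) h.symm
  · intro h1
    apply Units.ext
    rw [Units.val_mul, Units.val_mul]
    exact comm_comm hz (by rw [← Units.val_mul, h1, Units.val_mul]) h

/-- nonscalar elements, whose centralizer modulo scalars is their centralizer, and which are not diagonal -/
structure Good [Fintype F] (r : SpecialLinearGroup (Fin 2) F) : Prop where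
  ns : ¬ Sc r.1
  pc : ∀ z : GL (Fin 2) F, (∃ a : F, a * a = 1 ∧ (z : Matrix (Fin 2) (Fin 2) F) * r.1 = a • (r.1 * (z : Matrix (Fin 2) (Fin 2) F))) →
    (z : Matrix (Fin 2) (Fin 2) F) * r.1 = r.1 * z
  nd : ¬ (r.1 0 1 = 0 ∧ r.1 1 0 = 0)
  five : Fintype.card F = 5 → Sc (r.1 ^ 15)

/-- the normalizer of the centralizer -/
def NC (r : GL (Fin 2) F) : Subgroup (GL (Fin 2) F) := normalizer (centralizer ({r} : Set (GL (Fin 2) F)) : Set (GL (Fin 2) F))

theorem mem_NC {r : GL (Fin 2) F} {x : GL (Fin 2) F} : x ∈ NC r ↔ ∀ y, y ∈ centralizer ({r} : Set (GL (Fin 2) F)) ↔ x * y * x⁻¹ ∈ centralizer ({r} : Set (GL (Fin 2) F)) :=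
  Subgroup.mem_normalizer_iff

theorem center_le_NC (r : GL (Fin 2) F) : Subgroup.center (GL (Fin 2) F) ≤ NC r := by
  intro z hz
  rw [mem_NC]
  intro y
  rw [Subgroup.mem_center_iff] at hz
  rw [← hz y, mul_inv_cancel_right]

theorem mem_map_NC {r x : GL (Fin 2) F} :
    QuotientGroup.mk' (Subgroup.center (GL (Fin 2) F)) x ∈ (NC r).map (QuotientGroup.mk' (Subgroup.center (GL (Fin 2) F))) ↔ x ∈ NC r := by
  rw [← Subgroup.mem_comap, Subgroup.comap_map_eq, QuotientGroup.ker_mk', sup_eq_left.mpr (center_le_NC r)]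

/-- proper -/
theorem NC_proper [Fintype F] (hF : 4 ≤ Fintype.card F) (r : GL (Fin 2) F) (hr : ¬ Sc (r : Matrix (Fin 2) (Fin 2) F)) :
    ¬ ∀ w : SpecialLinearGroup (Fin 2) F, SpecialLinearGroup.toGL w ∈ NC r := by
  classical
  intro hall
  set R : Matrix (Fin 2) (Fin 2) F := (r : Matrix (Fin 2) (Fin 2) F) with hR
  have key : ∀ w : SpecialLinearGroup (Fin 2) F, (w.1 * R * (w⁻¹).1) * R = R * (w.1 * R * (w⁻¹).1) := by
    intro w
    have h1 := (mem_NC.mp (hall w) r).mp (by rw [mem_centralizer_singleton_iff])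
    rw [mem_centralizer_singleton_iff] at h1
    have h2 := congrArg Units.val h1
    rw [Units.val_mul, Units.val_mul, Units.val_mul, Units.val_mul, ← map_inv] at h2
    exact h2
  have hup : ∀ x : F, R 1 0 * (x * (R 1 1 - R 0 0) - x ^ 2 * R 1 0) = 0 ∧ (R 1 0 = 0 → x * (R 1 1 - R 0 0) ^ 2 = 0) := by
    intro x
    have hdet : (!![1, x; 0, 1] : Matrix (Fin 2) (Fin 2) F).det = 1 := by simp [Matrix.det_fin_two]
    obtain ⟨w, hw⟩ : ∃ w : SpecialLinearGroup (Fin 2) F, w.1 = !![1, x; 0, 1] := ⟨⟨!![1, x; 0, 1], hdet⟩, rfl⟩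
    have h1 := key w
    have h2 : (w⁻¹).1 = !![1, -x; 0, 1] := by
      rw [Matrix.SpecialLinearGroup.coe_inv, hw]
      simp [Matrix.adjugate_fin_two]
    rw [h2, hw] at h1
    rw [Matrix.eta_fin_two R] at h1
    simp only [Matrix.mul_fin_two] at h1
    have e00 := congrFun (congrFun h1 0) 0
    have e01 := congrFun (congrFun h1 0) 1
    simp only [Matrix.of_apply, Matrix.cons_val', Matrix.cons_val_zero, Matrix.cons_val_one, Matrix.cons_val_fin_one] at e00 e01
    constructor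
    · linear_combination e00
    · intro h0
      rw [h0] at e01
      linear_combination e01
  have hlo : ∀ x : F, R 0 1 * (x * (R 0 0 - R 1 1) - x ^ 2 * R 0 1) = 0 := by
    intro x
    have hdet : (!![1, 0; x, 1] : Matrix (Fin 2) (Fin 2) F).det = 1 := by simp [Matrix.det_fin_two]
    obtain ⟨w, hw⟩ : ∃ w : SpecialLinearGroup (Fin 2) F, w.1 = !![1, 0; x, 1] := ⟨⟨!![1, 0; x, 1], hdet⟩, rfl⟩
    have h1 := key w
    have h2 : (w⁻¹).1 = !![1, 0; -x, 1] := by
      rw [Matrix.SpecialLinearGroup.coe_inv, hw]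
      simp [Matrix.adjugate_fin_two]
    rw [h2, hw] at h1
    rw [Matrix.eta_fin_two R] at h1
    simp only [Matrix.mul_fin_two] at h1
    have e11 := congrFun (congrFun h1 1) 1
    simp only [Matrix.of_apply, Matrix.cons_val', Matrix.cons_val_zero, Matrix.cons_val_one, Matrix.cons_val_fin_one] at e11
    linear_combination e11
  have aux : ∀ b c : F, (∀ x : F, b * (x * c - x ^ 2 * b) = 0) → b = 0 := by
    intro b c h
    by_contra hb
    obtain ⟨x, hx⟩ : ∃ x : F, x ∉ ({0, c / b} : Finset F) := by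
      by_contra hcon
      push Not at hcon
      have h1 : (Finset.univ : Finset F) ⊆ {0, c / b} := fun x _ => hcon x
      have h2 := Finset.card_le_card h1
      rw [Finset.card_univ] at h2
      have h3 : ({0, c / b} : Finset F).card ≤ 2 := Finset.card_le_two
      omega
    rw [Finset.mem_insert, Finset.mem_singleton, not_or] at hx
    have h1 := (mul_eq_zero.mp (h x)).resolve_left hb
    have h2 : x * (c - x * b) = 0 := by linear_combination h1
    have h3 := (mul_eq_zero.mp h2).resolve_left hx.1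
    apply hx.2
    rw [eq_div_iff hb]
    linear_combination -h3
  have h10 : R 1 0 = 0 := aux _ _ (fun x => (hup x).1)
  have h01 : R 0 1 = 0 := aux _ _ (fun x => hlo x)
  apply hr
  rw [sc_iff]
  refine ⟨h01, h10, ?_⟩
  have h2 := (hup 1).2 h10
  rw [one_mul] at h2
  have h3 := pow_eq_zero_iff (two_ne_zero) |>.mp h2
  exact (sub_eq_zero.mp h3).symm

end two

end Cfsg.Agent.H22.PGL
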