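import Cfsg.Agent.H22_PGLCover4

/-!
Nilpotent covers of groups between `PSL₂` and `PGL₂`, the final argument.
-/

set_option autoImplicit false

namespace Cfsg.Agent.H22.PGL

open Subgroup Matrix

theorem comm_of_nil {A : Type*} [Group A] [Finite A] (hA : Group.IsNilpotent A) {x y : A} (hx : x ^ 15 = 1)
    (hy : y ^ 2 = 1) : x * y = y * x := by
  have : Fact (Nat.Prime 2) := ⟨Nat.prime_two⟩
  have h1 : IsPGroup 2 (zpowers y) := by
    rw [IsPGroup.iff_orderOf]
    intro g
    have h2 : orderOf g ∣ Nat.card (zpowers y) := _root_.orderOf_dvd_natCard g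
    rw [Nat.card_zpowers] at h2
    have h3 : orderOf g ∣ 2 ^ 1 := h2.trans (by rw [pow_one]; exact orderOf_dvd_of_pow_eq_one hy)
    obtain ⟨k, _, hk⟩ := (Nat.dvd_prime_pow Nat.prime_two).mp h3
    exact ⟨k, hk⟩
  obtain ⟨P, hP⟩ := h1.exists_le_sylow
  have hPn : (P : Subgroup A).Normal := inferInstance
  have hN : Group.IsNilpotent (⊤ : Subgroup A) := Group.nilpotent_of_mulEquiv (Subgroup.topEquiv (G := A)).symm
  have h2 := H12.Core.commutator_eq_bot_of_nilpotent_coprime (N := ⊤) (A := (P : Subgroup A)) (B := zpowers x) hN le_top le_top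
    (by rw [Subgroup.normalizer_eq_top]; exact le_top) (by
      obtain ⟨k, hk⟩ := P.2.exists_card_eq
      rw [hk, Nat.card_zpowers]
      apply Nat.Coprime.pow_right
      apply Nat.Coprime.coprime_dvd_left (orderOf_dvd_of_pow_eq_one hx)
      norm_num)
  have h3 := mem_centralizer_iff.mp (h2 (mem_zpowers x)) y (hP (mem_zpowers y))
  exact h3.symm

section two

variable {F : Type*} [Field F]

theorem good_unipotent [Fintype F] (v : Fin 2 → F) (hv : v ≠ 0) :
    ∃ r : SpecialLinearGroup (Fin 2) F, r.1 = !![1 - v 0 * v 1, v 0 ^ 2; - v 1 ^ 2, 1 + v 0 * v 1] ∧ Good r := by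
  have hdet : (!![1 - v 0 * v 1, v 0 ^ 2; - v 1 ^ 2, 1 + v 0 * v 1] : Matrix (Fin 2) (Fin 2) F).det = 1 := by
    rw [Matrix.det_fin_two_of]; ring
  obtain ⟨r, hr⟩ : ∃ r : SpecialLinearGroup (Fin 2) F, r.1 = !![1 - v 0 * v 1, v 0 ^ 2; - v 1 ^ 2, 1 + v 0 * v 1] := ⟨⟨_, hdet⟩, rfl⟩
  have hnd : ¬ (r.1 0 1 = 0 ∧ r.1 1 0 = 0) := by
    rintro ⟨h1, h2⟩
    rw [hr] at h1 h2
    simp at h1 h2
    apply hv
    ext i
    fin_cases i
    · exact h1
    · exact h2
  refine ⟨r, hr, ?_, ?_, hnd, ?_⟩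
  · rw [sc_iff]
    rintro ⟨h1, h2, -⟩
    exact hnd ⟨h1, h2⟩
  · rintro z ⟨a, ha, h1⟩
    have h2 : (z : Matrix (Fin 2) (Fin 2) F) * r.1 * ((z⁻¹ : GL (Fin 2) F) : Matrix (Fin 2) (Fin 2) F) = a • r.1 := by
      rw [h1, smul_mul_assoc, mul_assoc, ← Units.val_mul, mul_inv_cancel, Units.val_one, mul_one]
    have h3 := congrArg Matrix.trace h2
    rw [Matrix.trace_mul_comm, ← mul_assoc, ← Units.val_mul, inv_mul_cancel, Units.val_one, one_mul, Matrix.trace_smul, hr,
      Matrix.trace_fin_two] at h3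
    simp only [Matrix.of_apply, Matrix.cons_val', Matrix.cons_val_zero, Matrix.cons_val_one, Matrix.cons_val_fin_one, smul_eq_mul] at h3
    have h4 : (2 : F) * (a - 1) = 0 := by linear_combination -h3
    have h5 : a = 1 := by
      rcases mul_eq_zero.mp h4 with h6 | h6
      · have h7 : (a - 1) * (a - 1) = 0 := by linear_combination ha + (1 - a) * h6
        exact sub_eq_zero.mp (mul_self_eq_zero.mp h7)
      · exact sub_eq_zero.mp h6
    rw [h1, h5, one_smul]
  · intro h5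
    have h6 : (5 : F) = 0 := by
      have := Nat.cast_card_eq_zero F
      rw [h5] at this
      exact_mod_cast this
    have h7 : r.1 * r.1 = (-1 : F) • (1 : Matrix (Fin 2) (Fin 2) F) + (2 : F) • r.1 := by
      rw [hr]
      apply ext2 <;> simp [Matrix.mul_apply, Fin.sum_univ_two] <;> ring
    have hpow : ∀ k : ℕ, r.1 ^ k = (1 - (k : F)) • (1 : Matrix (Fin 2) (Fin 2) F) + (k : F) • r.1 := by
      intro k
      induction k with
      | zero => rw [pow_zero, Nat.cast_zero, sub_zero, one_smul, zero_smul, add_zero]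
      | succ k ih =>
        rw [pow_succ, ih, add_mul, smul_mul_assoc, smul_mul_assoc, one_mul, h7]
        push_cast
        module
    refine ⟨1, ?_⟩
    rw [hpow 15]
    have h8 : ((15 : ℕ) : F) = 0 := by
      push_cast
      linear_combination 3 * h6
    rw [h8, sub_zero, zero_smul, add_zero]

theorem good_elliptic [Fintype F] (hF : 4 ≤ Fintype.card F) {t : Matrix (Fin 2) (Fin 2) F} (ht : Ell t) :
    ∃ r : SpecialLinearGroup (Fin 2) F, r.1 * t = t * r.1 ∧ Good r := by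
  obtain ⟨s, hs, hs2⟩ := exists_s hF ht
  have hns : ¬ Sc s.1 := by
    rintro ⟨a, ha⟩
    apply hs2
    refine ⟨a * a, ?_⟩
    rw [ha, smul_mul_assoc, mul_smul_comm, one_mul, smul_smul]
  have hell : Ell s.1 := ht.of_comm hs hns
  refine ⟨s, hs, hns, ?_, ?_, ?_⟩
  · rintro z ⟨a, ha, h1⟩
    have h2 : (z : Matrix (Fin 2) (Fin 2) F) * (s.1 * s.1) = (s.1 * s.1) * z := by
      rw [← mul_assoc, h1, smul_mul_assoc, mul_assoc, h1, mul_smul_comm, smul_smul, ha, one_smul, mul_assoc]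
    exact comm_comm hs2 h2 (by rw [mul_assoc])
  · rintro ⟨h1, h2⟩
    apply hell (Pi.single 0 1) (by intro h0; have := congrFun h0 0; simp at this) (s.1 0 0)
    rw [Matrix.mulVec_single_one]
    ext i
    fin_cases i
    · simp
    · simp [h2]
  · intro h5
    have h6 : (5 : F) = 0 := by
      have := Nat.cast_card_eq_zero F
      rw [h5] at this
      exact_mod_cast this
    set τ := s.1 0 0 + s.1 1 1 with hτ
    have hdet : s.1 0 0 * s.1 1 1 - s.1 0 1 * s.1 1 0 = 1 := by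
      have := s.2
      rwa [Matrix.det_fin_two] at this
    have hroot : ∀ x : F, x ^ 2 - τ * x + 1 ≠ 0 := by
      intro x hx
      apply hell.det_ne (-x) 1 one_ne_zero
      rw [Matrix.det_fin_two]
      simp only [Matrix.add_apply, Matrix.smul_apply, Matrix.one_apply_eq, smul_eq_mul, mul_one, one_mul]
      rw [Matrix.one_apply_ne (by decide : (0 : Fin 2) ≠ 1), Matrix.one_apply_ne (by decide : (1 : Fin 2) ≠ 0)]
      linear_combination hx + hdet
    have hτ5 : τ ^ 5 = τ := by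
      have := FiniteField.pow_card τ
      rwa [h5] at this
    have h7 : τ * ((τ ^ 2 - 1) * (τ ^ 2 + 1)) = 0 := by linear_combination hτ5
    have hτ0 : τ ≠ 0 := by
      intro h0
      apply hroot 2
      rw [h0]
      linear_combination h6
    have h8 : τ ^ 2 + 1 ≠ 0 := by
      intro h0
      apply hroot (3 * τ)
      linear_combination h0 + τ ^ 2 * h6
    have h9 : τ ^ 2 - 1 = 0 := by
      rcases mul_eq_zero.mp h7 with h | h
      · exact absurd h hτ0
      · exact (mul_eq_zero.mp h).resolve_right h8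
    have h10 : s.1 * s.1 = (-1 : F) • (1 : Matrix (Fin 2) (Fin 2) F) + τ • s.1 := by
      rw [sq_eq s.1, hdet]
    have h11 : s.1 ^ 3 = (-τ) • (1 : Matrix (Fin 2) (Fin 2) F) := by
      rw [pow_succ, pow_two, h10, add_mul, smul_mul_assoc, smul_mul_assoc, one_mul, h10]
      have h12 : (-1 : F) • s.1 + τ • ((-1 : F) • (1 : Matrix (Fin 2) (Fin 2) F) + τ • s.1) = (τ ^ 2 - 1) • s.1 + (-τ) • (1 : Matrix (Fin 2) (Fin 2) F) := by
        module
      rw [h12, h9, zero_smul, zero_add]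
    refine ⟨(-τ) ^ 5, ?_⟩
    rw [show (15 : ℕ) = 3 * 5 by norm_num, pow_mul, h11, smul_pow, one_pow]

theorem mem_NC_of_conj {r g : GL (Fin 2) F} (hr : ¬ Sc (r : Matrix (Fin 2) (Fin 2) F))
    (h : (r : Matrix (Fin 2) (Fin 2) F) * ((g * r * g⁻¹ : GL (Fin 2) F) : Matrix (Fin 2) (Fin 2) F) = ((g * r * g⁻¹ : GL (Fin 2) F) : Matrix (Fin 2) (Fin 2) F) * r) :
    g ∈ NC r := by
  have hns : ¬ Sc ((g * r * g⁻¹ : GL (Fin 2) F) : Matrix (Fin 2) (Fin 2) F) := by
    intro h1
    have h2 := mem_center_iff_sc.mpr h1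
    apply hr
    apply mem_center_iff_sc.mp
    have h3 : r = g⁻¹ * (g * r * g⁻¹) * g := by group
    rw [h3]
    rw [Subgroup.mem_center_iff] at h2
    rw [h2 g⁻¹, inv_mul_cancel_right]
    rw [Subgroup.mem_center_iff]
    exact h2
  have h1 := cent_eq hr hns h
  rw [mem_NC]
  intro y
  conv_rhs => rw [h1]
  rw [mem_centralizer_singleton_iff, mem_centralizer_singleton_iff]
  constructor
  · intro h2
    calc g * y * g⁻¹ * (g * r * g⁻¹) = g * (y * r) * g⁻¹ := by group
      _ = g * (r * y) * g⁻¹ := by rw [h2]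
      _ = g * r * g⁻¹ * (g * y * g⁻¹) := by group
  · intro h2
    have h3 : g * (y * r) * g⁻¹ = g * (r * y) * g⁻¹ := by
      calc g * (y * r) * g⁻¹ = g * y * g⁻¹ * (g * r * g⁻¹) := by group
        _ = g * r * g⁻¹ * (g * y * g⁻¹) := h2
        _ = g * (r * y) * g⁻¹ := by group
    exact mul_left_cancel (mul_right_cancel h3)

theorem cover [Fintype F] (hF : 4 ≤ Fintype.card F) (g : GL (Fin 2) F) :
    ∃ r : SpecialLinearGroup (Fin 2) F, Good r ∧ g ∈ NC (SpecialLinearGroup.toGL r) := by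
  by_cases hell : Ell (g : Matrix (Fin 2) (Fin 2) F)
  · obtain ⟨r, hrg, hr⟩ := good_elliptic hF hell
    refine ⟨r, hr, ?_⟩
    apply Subgroup.le_normalizer
    rw [mem_centralizer_singleton_iff]
    apply Units.ext
    rw [Units.val_mul, Units.val_mul]
    exact hrg.symm
  · unfold Ell at hell
    push Not at hell
    obtain ⟨v, hv, μ, hμ⟩ := hell
    obtain ⟨r, hr, hgood⟩ := good_unipotent v hv
    refine ⟨r, hgood, mem_NC_of_conj hgood.ns ?_⟩
    set N : Matrix (Fin 2) (Fin 2) F := !![- (v 0 * v 1), v 0 ^ 2; - v 1 ^ 2, v 0 * v 1] with hN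
    have hrN : ((SpecialLinearGroup.toGL r : GL (Fin 2) F) : Matrix (Fin 2) (Fin 2) F) = 1 + N := by
      show r.1 = 1 + N
      rw [hr, hN]
      apply ext2 <;> simp
      ring
    set A : Matrix (Fin 2) (Fin 2) F := (g : Matrix (Fin 2) (Fin 2) F) with hA
    have hdet : A.det ≠ 0 := by
      have := (Matrix.isUnit_iff_isUnit_det _).mp g.isUnit
      exact this.ne_zero
    have e0 : A 0 0 * v 0 + A 0 1 * v 1 = μ * v 0 := by
      have := congrFun hμ 0
      simpa [Matrix.mulVec, dotProduct, Fin.sum_univ_two] using this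
    have e1 : A 1 0 * v 0 + A 1 1 * v 1 = μ * v 1 := by
      have := congrFun hμ 1
      simpa [Matrix.mulVec, dotProduct, Fin.sum_univ_two] using this
    have hdet2 : A.det = A 0 0 * A 1 1 - A 0 1 * A 1 0 := Matrix.det_fin_two A
    have s0 : μ * (A 1 0 * v 0 - A 0 0 * v 1) = - (A.det * v 1) := by
      rw [hdet2]; linear_combination -A 1 0 * e0 + A 0 0 * e1
    have s1 : μ * (A 1 1 * v 0 - A 0 1 * v 1) = A.det * v 0 := by
      rw [hdet2]; linear_combination -A 1 1 * e0 + A 0 1 * e1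
    have hAN : A.det • (A * N) = (μ ^ 2) • (N * A) := by
      have h00 : A.det * (A 0 0 * (-(v 0 * v 1)) + A 0 1 * (- v 1 ^ 2)) = μ ^ 2 * (-(v 0 * v 1) * A 0 0 + v 0 ^ 2 * A 1 0) := by
        linear_combination (- A.det * v 1) * e0 - μ * v 0 * s0
      have h01 : A.det * (A 0 0 * v 0 ^ 2 + A 0 1 * (v 0 * v 1)) = μ ^ 2 * (-(v 0 * v 1) * A 0 1 + v 0 ^ 2 * A 1 1) := by
        linear_combination (A.det * v 0) * e0 - μ * v 0 * s1
      have h10 : A.det * (A 1 0 * (-(v 0 * v 1)) + A 1 1 * (- v 1 ^ 2)) = μ ^ 2 * (- v 1 ^ 2 * A 0 0 + v 0 * v 1 * A 1 0) := by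
        linear_combination (- A.det * v 1) * e1 - μ * v 1 * s0
      have h11 : A.det * (A 1 0 * v 0 ^ 2 + A 1 1 * (v 0 * v 1)) = μ ^ 2 * (- v 1 ^ 2 * A 0 1 + v 0 * v 1 * A 1 1) := by
        linear_combination (A.det * v 0) * e1 - μ * v 1 * s1
      rw [hN, Matrix.eta_fin_two A]
      simp only [Matrix.mul_fin_two]
      rw [← Matrix.eta_fin_two A]
      apply ext2
      · simpa using h00
      · simpa using h01
      · simpa using h10
      · simpa using h11
    have hconj : (((g * SpecialLinearGroup.toGL r * g⁻¹ : GL (Fin 2) F)) : Matrix (Fin 2) (Fin 2) F) = 1 + (A.det⁻¹ * μ ^ 2) • N := by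
      have h1 : A * N = (A.det⁻¹ * μ ^ 2) • (N * A) := by
        rw [mul_smul, ← hAN, smul_smul, inv_mul_cancel₀ hdet, one_smul]
      rw [Units.val_mul, Units.val_mul, hrN, ← hA, mul_add, mul_one, h1, add_mul, smul_mul_assoc, mul_assoc, hA, ← Units.val_mul,
        mul_inv_cancel, Units.val_one, mul_one]
    rw [hconj, hrN]
    simp only [mul_add, add_mul, mul_smul_comm, smul_mul_assoc, mul_one, one_mul, smul_add]
    abel

/-- centre of a nilpotent subgroup containing a good element -/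
theorem exists_z [Fintype F] {A : Subgroup (GL (Fin 2) F ⧸ Subgroup.center (GL (Fin 2) F))} (hA : Group.IsNilpotent A)
    {r : SpecialLinearGroup (Fin 2) F} (hr : Good r)
    (hrA : QuotientGroup.mk' (Subgroup.center (GL (Fin 2) F)) (SpecialLinearGroup.toGL r) ∈ A) :
    ∃ z : GL (Fin 2) F, ¬ Sc (z : Matrix (Fin 2) (Fin 2) F) ∧ ∀ x : GL (Fin 2) F, QuotientGroup.mk' (Subgroup.center (GL (Fin 2) F)) x ∈ A →
      QuotientGroup.mk' (Subgroup.center (GL (Fin 2) F)) z * QuotientGroup.mk' (Subgroup.center (GL (Fin 2) F)) x =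
      QuotientGroup.mk' (Subgroup.center (GL (Fin 2) F)) x * QuotientGroup.mk' (Subgroup.center (GL (Fin 2) F)) z := by
  have hnt : Nontrivial A := by
    refine ⟨⟨⟨_, hrA⟩, 1, ?_⟩⟩
    intro h
    have h1 := congrArg Subtype.val h
    have h2 : (SpecialLinearGroup.toGL r : GL (Fin 2) F) ∈ Subgroup.center (GL (Fin 2) F) := (QuotientGroup.eq_one_iff _).mp h1
    exact hr.ns (mem_center_iff_sc.mp h2)
  have h1 : Subgroup.center A ≠ ⊥ := Group.IsNilpotent.center_ne_bot A
  obtain ⟨⟨ζ, hζ⟩, hζc, hζ1⟩ := (Subgroup.ne_bot_iff_exists_ne_one.mp h1 |> fun ⟨a, ha⟩ => (⟨a.1, a.2, fun h => ha (Subtype.ext h)⟩ : ∃ a : A, a ∈ Subgroup.center A ∧ a ≠ 1))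
  obtain ⟨z, rfl⟩ := QuotientGroup.mk'_surjective (Subgroup.center (GL (Fin 2) F)) ζ
  refine ⟨z, ?_, ?_⟩
  · intro hsc
    apply hζ1
    apply Subtype.ext
    exact (QuotientGroup.eq_one_iff _).mpr (mem_center_iff_sc.mpr hsc)
  · intro x hx
    rw [Subgroup.mem_center_iff] at hζc
    exact (congrArg Subtype.val (hζc ⟨_, hx⟩)).symm

theorem two [Fintype F] (hF : 4 ≤ Fintype.card F)
    (G : Subgroup (GL (Fin 2) F ⧸ Subgroup.center (GL (Fin 2) F)))
    (hG : ((Matrix.SpecialLinearGroup.toGL : Matrix.SpecialLinearGroup (Fin 2) F →* GL (Fin 2) F).range).map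
      (QuotientGroup.mk' (Subgroup.center (GL (Fin 2) F))) ≤ G) :
    ¬ ∃ 𝓐 : Finset (Subgroup ↥G), ((∀ A ∈ 𝓐, A ≠ ⊤) ∧ (∀ g : ↥G, ∃ A ∈ 𝓐, g ∈ A)) ∧ (∀ 𝓑 : Finset (Subgroup ↥G), (∀ A ∈ 𝓑, A ≠ ⊤) ∧ (∀ g : ↥G, ∃ A ∈ 𝓑, g ∈ A) → 𝓐.card ≤ 𝓑.card) ∧ (∀ A ∈ 𝓐, Group.IsNilpotent ↥A) := by
  classical
  have hmapnil : ∀ N : Subgroup G, Group.IsNilpotent N → Group.IsNilpotent (N.map G.subtype) := by
    intro N hN
    exact Group.nilpotent_of_mulEquiv (N.equivMapOfInjective G.subtype G.subtype_injective)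
  -- the element `a`
  obtain ⟨a, ha0, ha2, ha4⟩ : ∃ a : F, a ≠ 0 ∧ a ^ 2 ≠ 1 ∧ (a ^ 4 ≠ 1 ∨ Fintype.card F = 5) := by
    by_cases h5 : Fintype.card F = 5
    · have h6 : (5 : F) = 0 := by
        have := Nat.cast_card_eq_zero F
        rw [h5] at this
        exact_mod_cast this
      have h1 : (1 : F) ≠ 0 := one_ne_zero
      refine ⟨2, ?_, ?_, Or.inr h5⟩
      · intro h2
        apply h1
        linear_combination h6 - 2 * h2
      · intro h2
        apply h1
        linear_combination 2 * h6 - 3 * h2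
    · by_contra hcon
      push Not at hcon
      have h1 : ∀ x : F, x ≠ 0 → x ^ 4 = 1 := by
        intro x hx
        by_cases h2 : x ^ 2 = 1
        · calc x ^ 4 = (x ^ 2) ^ 2 := by ring
            _ = 1 := by rw [h2, one_pow]
        · exact (hcon x hx h2).1
      obtain ⟨ζ, hζ⟩ := IsCyclic.exists_generator (α := Fˣ)
      have h2 : orderOf ζ = Fintype.card F - 1 := by
        rw [orderOf_eq_card_of_forall_mem_zpowers hζ, Nat.card_units, Nat.card_eq_fintype_card]
      have h3 : orderOf ζ ∣ 4 := by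
        apply orderOf_dvd_of_pow_eq_one
        apply Units.ext
        rw [Units.val_pow_eq_pow_val, Units.val_one]
        exact h1 _ ζ.ne_zero
      rw [h2] at h3
      have h4 : Fintype.card F - 1 ≤ 4 := Nat.le_of_dvd (by norm_num) h3
      have h5' : Fintype.card F - 1 = 3 := by
        have : Fintype.card F - 1 ≠ 4 := by omega
        omega
      rw [h5'] at h3
      norm_num at h3
  have hdet : (!![a, 0; 0, a⁻¹] : Matrix (Fin 2) (Fin 2) F).det = 1 := by
    rw [Matrix.det_fin_two_of, mul_inv_cancel₀ ha0]; ring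
  obtain ⟨d, hd⟩ : ∃ d : SpecialLinearGroup (Fin 2) F, d.1 = !![a, 0; 0, a⁻¹] := ⟨⟨_, hdet⟩, rfl⟩
  -- diagonal elements
  have hdiag : ∀ b c : F, b ≠ c → ∀ r : SpecialLinearGroup (Fin 2) F, Good r → !![b, 0; 0, c] * r.1 = r.1 * !![b, 0; 0, c] → False := by
    intro b c hbc r hr h
    apply hr.nd
    rw [Matrix.eta_fin_two r.1] at h
    simp only [Matrix.mul_fin_two] at h
    have e01 := congrFun (congrFun h 0) 1
    have e10 := congrFun (congrFun h 1) 0
    simp only [Matrix.of_apply, Matrix.cons_val', Matrix.cons_val_zero, Matrix.cons_val_one, Matrix.cons_val_fin_one] at e01 e10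
    have hbc' : b - c ≠ 0 := sub_ne_zero.mpr hbc
    constructor
    · have : (b - c) * r.1 0 1 = 0 := by linear_combination e01
      exact (mul_eq_zero.mp this).resolve_left hbc'
    · have : (b - c) * r.1 1 0 = 0 := by linear_combination -e10
      exact (mul_eq_zero.mp this).resolve_left hbc'
  apply no_cover_of_rel (ι := {r : SpecialLinearGroup (Fin 2) F // Good r}) (fun r => (⟨_, mem_of_SL hG r.1⟩ : G))
    (fun r => ((NC (SpecialLinearGroup.toGL r.1)).map (QuotientGroup.mk' (Subgroup.center (GL (Fin 2) F)))).subgroupOf G)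
    ?_ ?_ ?_ (⟨_, mem_of_SL hG d⟩ : G) ?_
  · intro r htop
    apply NC_proper hF (SpecialLinearGroup.toGL r.1) r.2.ns
    intro w
    have h1 : (⟨_, mem_of_SL hG w⟩ : G) ∈ ((NC (SpecialLinearGroup.toGL r.1)).map (QuotientGroup.mk' (Subgroup.center (GL (Fin 2) F)))).subgroupOf G := by
      rw [htop]; trivial
    exact mem_map_NC.mp h1
  · rintro ⟨g, hg⟩
    obtain ⟨x, rfl⟩ := QuotientGroup.mk'_surjective (Subgroup.center (GL (Fin 2) F)) g
    obtain ⟨r, hr, hx⟩ := cover hF x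
    exact ⟨⟨r, hr⟩, mem_map_NC.mpr hx⟩
  · intro A hA i j hi hj
    obtain ⟨z, hz, hcomm⟩ := exists_z (hmapnil A hA) i.2 (⟨_, hi, rfl⟩)
    have key : ∀ k : {r : SpecialLinearGroup (Fin 2) F // Good r}, (⟨_, mem_of_SL hG k.1⟩ : G) ∈ A →
        centralizer ({z} : Set (GL (Fin 2) F)) = centralizer {SpecialLinearGroup.toGL k.1} := by
      intro k hk
      have h1 := hcomm (SpecialLinearGroup.toGL k.1) ⟨_, hk, rfl⟩
      have h2 := k.2.pc z (pcomm h1)
      exact cent_eq hz k.2.ns h2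
    show ((NC (SpecialLinearGroup.toGL i.1)).map (QuotientGroup.mk' (Subgroup.center (GL (Fin 2) F)))).subgroupOf G =
      ((NC (SpecialLinearGroup.toGL j.1)).map (QuotientGroup.mk' (Subgroup.center (GL (Fin 2) F)))).subgroupOf G
    unfold NC
    rw [← key i hi, ← key j hj]
  · intro A hA hdA i hiA
    obtain ⟨z, hz, hcomm⟩ := exists_z (hmapnil A hA) i.2 (⟨_, hiA, rfl⟩)
    have hzr : (z : Matrix (Fin 2) (Fin 2) F) * i.1.1 = i.1.1 * z := i.2.pc z (pcomm (hcomm (SpecialLinearGroup.toGL i.1) ⟨_, hiA, rfl⟩))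
    rcases ha4 with ha4 | h5
    · have h1 := pcomm_sq (hcomm (SpecialLinearGroup.toGL d) ⟨_, hdA, rfl⟩)
      have h2 : ((SpecialLinearGroup.toGL d : GL (Fin 2) F) : Matrix (Fin 2) (Fin 2) F) * (SpecialLinearGroup.toGL d : GL (Fin 2) F) = !![a ^ 2, 0; 0, (a⁻¹) ^ 2] := by
        show d.1 * d.1 = _
        rw [hd]
        simp only [Matrix.mul_fin_two]
        simp [pow_two]
      rw [h2] at h1
      refine hdiag (a ^ 2) ((a⁻¹) ^ 2) ?_ i.1 i.2 (comm_comm hz h1.symm hzr.symm)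
      intro h3
      apply ha4
      have h4 : a * a⁻¹ = 1 := mul_inv_cancel₀ ha0
      calc a ^ 4 = a ^ 2 * a ^ 2 := by ring
        _ = a ^ 2 * (a⁻¹) ^ 2 := by rw [← h3]
        _ = (a * a⁻¹) ^ 2 := by ring
        _ = 1 := by rw [h4, one_pow]
    · by_cases ha4 : a ^ 4 = 1
      · have haa : a ^ 2 = (a⁻¹) ^ 2 := by
          have h4 : a * a⁻¹ = 1 := mul_inv_cancel₀ ha0
          calc a ^ 2 = a ^ 2 * (a * a⁻¹) ^ 2 := by rw [h4, one_pow, mul_one]
            _ = a ^ 4 * (a⁻¹) ^ 2 := by ring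
            _ = (a⁻¹) ^ 2 := by rw [ha4, one_mul]
        have hcommA := comm_of_nil hA (x := ⟨_, hiA⟩) (y := ⟨_, hdA⟩) (by
          apply Subtype.ext
          apply Subtype.ext
          show (QuotientGroup.mk' (Subgroup.center (GL (Fin 2) F)) (SpecialLinearGroup.toGL i.1)) ^ 15 = 1
          rw [← map_pow, ← map_pow]
          refine (QuotientGroup.eq_one_iff _).mpr (mem_center_iff_sc.mpr ?_)
          obtain ⟨b, hb⟩ := i.2.five h5
          exact ⟨b, hb⟩) (by
          apply Subtype.ext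
          apply Subtype.ext
          show (QuotientGroup.mk' (Subgroup.center (GL (Fin 2) F)) (SpecialLinearGroup.toGL d)) ^ 2 = 1
          rw [← map_pow, ← map_pow]
          refine (QuotientGroup.eq_one_iff _).mpr (mem_center_iff_sc.mpr ⟨a ^ 2, ?_⟩)
          show d.1 ^ 2 = _
          rw [hd, pow_two]
          simp only [Matrix.mul_fin_two]
          apply ext2
          · simp [pow_two]
          · simp
          · simp
          · simp only [mul_zero, zero_mul, zero_add, add_zero]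
            simp [haa, pow_two])
        have h1 := congrArg (Subtype.val ∘ Subtype.val) hcommA
        have h2 : (SpecialLinearGroup.toGL d : GL (Fin 2) F).1 * i.1.1 = i.1.1 * (SpecialLinearGroup.toGL d : GL (Fin 2) F).1 :=
          i.2.pc (SpecialLinearGroup.toGL d) (pcomm (x := SpecialLinearGroup.toGL d) (z := SpecialLinearGroup.toGL i.1) h1.symm)
        have h3 : (SpecialLinearGroup.toGL d : GL (Fin 2) F).1 = !![a, 0; 0, a⁻¹] := hd
        rw [h3] at h2
        refine hdiag a a⁻¹ ?_ i.1 i.2 h2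
        intro h4
        apply ha2
        rw [pow_two]
        nth_rw 2 [h4]
        exact mul_inv_cancel₀ ha0
      · have h1 := pcomm_sq (hcomm (SpecialLinearGroup.toGL d) ⟨_, hdA, rfl⟩)
        have h2 : ((SpecialLinearGroup.toGL d : GL (Fin 2) F) : Matrix (Fin 2) (Fin 2) F) * (SpecialLinearGroup.toGL d : GL (Fin 2) F) = !![a ^ 2, 0; 0, (a⁻¹) ^ 2] := by
          show d.1 * d.1 = _
          rw [hd]
          simp only [Matrix.mul_fin_two]
          simp [pow_two]
        rw [h2] at h1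
        refine hdiag (a ^ 2) ((a⁻¹) ^ 2) ?_ i.1 i.2 (comm_comm hz h1.symm hzr.symm)
        intro h3
        apply ha4
        have h4 : a * a⁻¹ = 1 := mul_inv_cancel₀ ha0
        calc a ^ 4 = a ^ 2 * a ^ 2 := by ring
          _ = a ^ 2 * (a⁻¹) ^ 2 := by rw [← h3]
          _ = (a * a⁻¹) ^ 2 := by ring
          _ = 1 := by rw [h4, one_pow]

end two

end Cfsg.Agent.H22.PGL
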