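import Cfsg.Agent.H22_ClassCount

set_option autoImplicit false

namespace Cfsg.Agent.H22.PiClasses

open Subgroup Cfsg.Agent.H22.ClassCount

/-- splitting an element into `r`-part and `r'`-part, as powers -/
theorem exists_rpart {H : Type*} [Group H] [Finite H] (r : ℕ) (hr : r.Prime) (g : H) :
    ∃ i j : ℤ, g ^ i * g ^ j = g ∧ (∃ k : ℕ, orderOf (g ^ i) = r ^ k) ∧
      ¬ r ∣ orderOf (g ^ j) ∧ orderOf (g ^ j) ∣ orderOf g := by
  obtain ⟨a, m, hm, hn⟩ := Nat.exists_eq_pow_mul_and_not_dvd (orderOf_pos g).ne' r hr.ne_one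
  have hcop : IsCoprime ((r ^ a : ℕ) : ℤ) (m : ℤ) := by
    rw [Nat.isCoprime_iff_coprime]
    exact Nat.Coprime.pow_left a ((hr.coprime_iff_not_dvd).mpr hm)
  obtain ⟨s, t, hst⟩ := hcop
  refine ⟨t * m, s * (r ^ a : ℕ), ?_, ?_, ?_, ?_⟩
  · rw [← zpow_add, add_comm, hst, zpow_one]
  · have h1 : (g ^ (t * (m : ℤ))) ^ (r ^ a) = 1 := by
      rw [← zpow_natCast, ← zpow_mul]
      have : t * (m : ℤ) * ((r ^ a : ℕ) : ℤ) = ((orderOf g : ℕ) : ℤ) * t := by
        rw [hn]; push_cast; ring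
      rw [this, zpow_mul, zpow_natCast, pow_orderOf_eq_one, one_zpow]
    have h2 := orderOf_dvd_of_pow_eq_one h1
    obtain ⟨k, _, hk⟩ := (Nat.dvd_prime_pow hr).mp h2
    exact ⟨k, hk⟩
  · have h1 : (g ^ (s * ((r ^ a : ℕ) : ℤ))) ^ m = 1 := by
      rw [← zpow_natCast, ← zpow_mul]
      have : s * ((r ^ a : ℕ) : ℤ) * (m : ℤ) = ((orderOf g : ℕ) : ℤ) * s := by
        rw [hn]; push_cast; ring
      rw [this, zpow_mul, zpow_natCast, pow_orderOf_eq_one, one_zpow]
    intro h
    exact hm (h.trans (orderOf_dvd_of_pow_eq_one h1))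
  · rw [orderOf_dvd_iff_pow_eq_one, ← zpow_natCast, ← zpow_mul, mul_comm, zpow_mul, zpow_natCast,
      pow_orderOf_eq_one, one_zpow]

theorem orderOf_conj' {H : Type*} [Group H] (g x : H) : orderOf (g * x * g⁻¹) = orderOf x :=
  orderOf_injective (MulAut.conj g).toMonoidHom (MulAut.conj g).injective x

theorem orderOf_eq_of_mem_carrier {H : Type*} [Group H] {x y : H}
    (h : y ∈ (ConjClasses.mk x).carrier) : orderOf y = orderOf x := by
  rw [ConjClasses.mem_carrier_iff_mk_eq, ConjClasses.mk_eq_mk_iff_isConj] at h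
  obtain ⟨g, hg⟩ := isConj_iff.mp h
  rw [← hg, orderOf_conj']

theorem card_step {H : Type*} [Group H] [Finite H] (π : Finset ℕ) (r : ℕ) (hr : r.Prime)
    (B : ℕ)
    (hB : ∀ x : H, Nat.card {c : ConjClasses (centralizer ({x} : Set H)) //
      ∀ x ∈ c.carrier, ∀ s : ℕ, s.Prime → s ∣ orderOf x → s ∈ π.erase r} ≤ B) :
    Nat.card {c : ConjClasses H // ∀ x ∈ c.carrier, ∀ s : ℕ, s.Prime → s ∣ orderOf x → s ∈ π} ≤
      Nat.card {c : ConjClasses H // ∀ x ∈ c.carrier, ∃ k : ℕ, orderOf x = r ^ k} * B := by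
  classical
  set rCl := {c : ConjClasses H // ∀ x ∈ c.carrier, ∃ k : ℕ, orderOf x = r ^ k}
  have hrep : ∀ C : rCl, ∃ x : H, ConjClasses.mk x = C.1 := fun C => ConjClasses.exists_rep C.1
  choose rep hrep using hrep
  let T : rCl → Type _ := fun C => {c : ConjClasses (centralizer ({rep C} : Set H)) //
      ∀ x ∈ c.carrier, ∀ s : ℕ, s.Prime → s ∣ orderOf x → s ∈ π.erase r}
  have hTfin : ∀ C, Finite (T C) := fun C => inferInstance
  have hrepD : ∀ (C : rCl) (D : T C), ∃ x : centralizer ({rep C} : Set H), ConjClasses.mk x = D.1 :=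
    fun C D => ConjClasses.exists_rep D.1
  choose repD hrepD using hrepD
  let F : (Σ C : rCl, T C) → ConjClasses H := fun z => ConjClasses.mk (rep z.1 * (repD z.1 z.2 : H))
  have key : ∀ c : {c : ConjClasses H // ∀ x ∈ c.carrier, ∀ s : ℕ, s.Prime → s ∣ orderOf x → s ∈ π},
      ∃ z, F z = c.1 := by
    rintro ⟨c, hc⟩
    obtain ⟨g, rfl⟩ := ConjClasses.exists_rep c
    obtain ⟨i, j, hij, hi, hj, hj2⟩ := exists_rpart r hr g
    let C : rCl := ⟨ConjClasses.mk (g ^ i), fun x hx => by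
      rw [orderOf_eq_of_mem_carrier hx]; exact hi⟩
    have h1 : IsConj (g ^ i) (rep C) := by
      rw [← ConjClasses.mk_eq_mk_iff_isConj, hrep C]
    obtain ⟨h, hh⟩ := isConj_iff.mp h1
    have hcomm : Commute (rep C) (h * g ^ j * h⁻¹) := by
      rw [← hh]
      have : Commute (g ^ i) (g ^ j) := (Commute.refl g).zpow_zpow i j
      show h * g ^ i * h⁻¹ * (h * g ^ j * h⁻¹) = h * g ^ j * h⁻¹ * (h * g ^ i * h⁻¹)
      calc h * g ^ i * h⁻¹ * (h * g ^ j * h⁻¹) = h * (g ^ i * g ^ j) * h⁻¹ := by group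
        _ = h * (g ^ j * g ^ i) * h⁻¹ := by rw [this.eq]
        _ = _ := by group
    have hmem : h * g ^ j * h⁻¹ ∈ centralizer ({rep C} : Set H) := by
      rw [mem_centralizer_singleton_iff]
      exact hcomm.eq.symm
    let D : T C := ⟨ConjClasses.mk (⟨_, hmem⟩ : centralizer ({rep C} : Set H)), by
      intro x hx s hs hsx
      rw [orderOf_eq_of_mem_carrier hx, Subgroup.orderOf_mk, orderOf_conj'] at hsx
      rw [Finset.mem_erase]
      refine ⟨?_, hc g ConjClasses.mem_carrier_mk s hs (hsx.trans hj2)⟩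
      rintro rfl
      exact hj hsx⟩
    refine ⟨⟨C, D⟩, ?_⟩
    show ConjClasses.mk (rep C * (repD C D : H)) = ConjClasses.mk g
    have h2 : IsConj (⟨_, hmem⟩ : centralizer ({rep C} : Set H)) (repD C D) := by
      rw [← ConjClasses.mk_eq_mk_iff_isConj, hrepD C D]
    obtain ⟨k, hk⟩ := isConj_iff.mp h2
    have hk' : (k : H) * (h * g ^ j * h⁻¹) * (k : H)⁻¹ = (repD C D : H) := congrArg Subtype.val hk
    have hkc : (k : H) * rep C = rep C * k := mem_centralizer_singleton_iff.mp k.2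
    rw [ConjClasses.mk_eq_mk_iff_isConj]
    apply IsConj.symm
    rw [isConj_iff]
    refine ⟨k * h, ?_⟩
    calc (k : H) * h * g * (k * h)⁻¹ = k * h * (g ^ i * g ^ j) * (k * h)⁻¹ := by rw [hij]
      _ = (k * (h * g ^ i * h⁻¹)) * (h * g ^ j * h⁻¹) * (k : H)⁻¹ := by group
      _ = (k * rep C) * (h * g ^ j * h⁻¹) * (k : H)⁻¹ := by rw [hh]
      _ = rep C * (k * (h * g ^ j * h⁻¹) * (k : H)⁻¹) := by rw [hkc]; group
      _ = _ := by rw [hk']
  choose f hf using key
  have hinj : Function.Injective f := by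
    intro c d hcd
    apply Subtype.ext
    rw [← hf c, ← hf d, hcd]
  have : Fintype rCl := Fintype.ofFinite _
  calc Nat.card {c : ConjClasses H // ∀ x ∈ c.carrier, ∀ s : ℕ, s.Prime → s ∣ orderOf x → s ∈ π}
      ≤ Nat.card (Σ C : rCl, T C) := Nat.card_le_card_of_injective f hinj
    _ = ∑ C : rCl, Nat.card (T C) := by
        rw [Nat.card_sigma]
    _ ≤ ∑ C : rCl, B := Finset.sum_le_sum fun C _ => hB (rep C)
    _ = _ := by rw [Finset.sum_const, Finset.card_univ, smul_eq_mul, Nat.card_eq_fintype_card]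

theorem card_rClasses_le {H : Type*} [Group H] [Finite H] (r : ℕ) (hr : r.Prime) :
    Nat.card {c : ConjClasses H // ∀ x ∈ c.carrier, ∃ k : ℕ, orderOf x = r ^ k} ≤
      r ^ (Nat.card H).factorization r := by
  have : Fact r.Prime := ⟨hr⟩
  let P : Sylow r H := default
  rw [← P.card_eq_multiplicity]
  have hex : ∀ c : {c : ConjClasses H // ∀ x ∈ c.carrier, ∃ k : ℕ, orderOf x = r ^ k},
      ∃ x : (P : Subgroup H), ConjClasses.mk (x : H) = c.1 := by
    rintro ⟨c, hc⟩
    obtain ⟨x, rfl⟩ := ConjClasses.exists_rep c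
    obtain ⟨g, hg⟩ := exists_conj_mem_sylow P x (hc x ConjClasses.mem_carrier_mk)
    refine ⟨⟨_, hg⟩, ?_⟩
    rw [ConjClasses.mk_eq_mk_iff_isConj]
    exact (isConj_iff.mpr ⟨g, rfl⟩).symm
  choose f hf using hex
  apply Nat.card_le_card_of_injective f
  intro c d hcd
  apply Subtype.ext
  rw [← hf c, ← hf d, hcd]

theorem factorization_mono {a b : ℕ} (h : a ∣ b) (hb : b ≠ 0) (r : ℕ) :
    a.factorization r ≤ b.factorization r :=
  (Nat.factorization_le_iff_dvd (ne_zero_of_dvd_ne_zero hb h) hb).mpr h r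

theorem card_piClasses_le (n : ℕ) : ∀ (π : Finset ℕ), π.card = n → (∀ r ∈ π, r.Prime) →
    ∀ (H : Type _) [Group H] [Finite H],
    Nat.card {c : ConjClasses H // ∀ x ∈ c.carrier, ∀ s : ℕ, s.Prime → s ∣ orderOf x → s ∈ π} ≤
      π.prod (fun r => r ^ (Nat.card H).factorization r) := by
  induction n with
  | zero =>
    intro π hπ _ H _ _
    rw [Finset.card_eq_zero] at hπ
    subst hπ
    rw [Finset.prod_empty]
    have : Subsingleton {c : ConjClasses H // ∀ x ∈ c.carrier, ∀ s : ℕ, s.Prime → s ∣ orderOf x → s ∈ (∅ : Finset ℕ)} := by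
      constructor
      rintro ⟨c, hc⟩ ⟨d, hd⟩
      apply Subtype.ext
      obtain ⟨x, rfl⟩ := ConjClasses.exists_rep c
      obtain ⟨y, rfl⟩ := ConjClasses.exists_rep d
      have h1 : orderOf x = 1 := by
        by_contra h
        obtain ⟨s, hs, hsx⟩ := Nat.exists_prime_and_dvd h
        exact absurd (hc x ConjClasses.mem_carrier_mk s hs hsx) (Finset.notMem_empty s)
      have h2 : orderOf y = 1 := by
        by_contra h
        obtain ⟨s, hs, hsx⟩ := Nat.exists_prime_and_dvd h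
        exact absurd (hd y ConjClasses.mem_carrier_mk s hs hsx) (Finset.notMem_empty s)
      rw [orderOf_eq_one_iff] at h1 h2
      show ConjClasses.mk x = ConjClasses.mk y
      rw [h1, h2]
    exact Finite.card_le_one_iff_subsingleton.mpr this
  | succ n ih =>
    intro π hπ hprime H _ _
    have hne : π.Nonempty := by rw [← Finset.card_pos, hπ]; omega
    obtain ⟨r, hr⟩ := hne
    have h1 : (π.erase r).card = n := by rw [Finset.card_erase_of_mem hr, hπ]; omega
    have h2 : ∀ s ∈ π.erase r, s.Prime := fun s hs => hprime s (Finset.mem_of_mem_erase hs)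
    rw [← Finset.mul_prod_erase π _ hr]
    refine le_trans (card_step π r (hprime r hr) _ (fun x => ?_))
      (Nat.mul_le_mul_right _ (card_rClasses_le r (hprime r hr)))
    refine le_trans (ih _ h1 h2 _) (Finset.prod_le_prod' fun s hs => ?_)
    apply Nat.pow_le_pow_right (h2 s hs).pos
    exact factorization_mono (Subgroup.card_subgroup_dvd_card _) Nat.card_pos.ne' s

theorem card_piClasses_le_mul {H : Type*} [Group H] [Finite H] (π : Finset ℕ) (hπ : ∀ r ∈ π, r.Prime)
    (r : ℕ) (hr : r ∈ π) :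
    Nat.card {c : ConjClasses H // ∀ x ∈ c.carrier, ∀ s : ℕ, s.Prime → s ∣ orderOf x → s ∈ π} ≤
      Nat.card {c : ConjClasses H // ∀ x ∈ c.carrier, ∃ k : ℕ, orderOf x = r ^ k} *
        (π.erase r).prod (fun r => r ^ (Nat.card H).factorization r) := by
  refine card_step π r (hπ r hr) _ (fun x => ?_)
  have h2 : ∀ s ∈ π.erase r, s.Prime := fun s hs => hπ s (Finset.mem_of_mem_erase hs)
  refine le_trans (card_piClasses_le _ _ rfl h2 _) (Finset.prod_le_prod' fun s hs => ?_)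
  apply Nat.pow_le_pow_right (h2 s hs).pos
  exact factorization_mono (Subgroup.card_subgroup_dvd_card _) Nat.card_pos.ne' s

open scoped commutatorElement in
theorem isMulCommutative_of_inf_eq_bot {G : Type*} [Group G] {H K : Subgroup G}
    (hK : _root_.commutator G ≤ K) (hHK : K ⊓ H = ⊥) : IsMulCommutative H := by
  refine ⟨⟨fun a b => Subtype.ext ?_⟩⟩
  have h1 : ⁅(a : G), (b : G)⁆ ∈ K := hK (by
    rw [_root_.commutator_def]; exact Subgroup.commutator_mem_commutator (mem_top _) (mem_top _))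
  have h3 : ⁅(a : G), (b : G)⁆ ∈ H := by
    rw [commutatorElement_def]
    exact H.mul_mem (H.mul_mem (H.mul_mem a.2 b.2) (H.inv_mem a.2)) (H.inv_mem b.2)
  have h4 : ⁅(a : G), (b : G)⁆ ∈ K ⊓ H := ⟨h1, h3⟩
  rw [hHK, mem_bot, commutatorElement_eq_one_iff_mul_comm] at h4
  exact h4

end Cfsg.Agent.H22.PiClasses
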