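import Cfsg.Agent.H22_Ward6
import Cfsg.Agent.H22_Hall
import Cfsg.Agent.H12_Core
import Cfsg.Agent.H1_Nilp

/-!
Fixed-point-free action of an elementary abelian group of order `q²` with abelian centralizers: basic facts.
-/

set_option autoImplicit false
set_option linter.unusedSectionVars false

namespace Cfsg.Agent.H22.QQ

open Subgroup Cfsg
open scoped commutatorElement Pointwise
open Cfsg.Agent.H22.Ward (EA coprime_of_le)
open Cfsg.Agent.H12.Core (PiNum)

universe u

variable {X : Type u} [Group X] [Finite X] {q : ℕ} [hq : Fact q.Prime]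

/-- Ward's theorem for an invariant solvable subgroup -/
theorem ward_sub {M A : Subgroup X} (hA : EA q A) (hn : A ≤ normalizer (M : Set X)) (hM : Group.IsSolvable M)
    (hf : M ⊓ centralizer (A : Set X) = ⊥) :
    ∃ k l : ℕ, (M.lowerCentralSeries k).lowerCentralSeries l = ⊥ := by
  set L := M ⊔ A with hL
  have hML : M ≤ L := le_sup_left
  have hAL : A ≤ L := le_sup_right
  have hLn : L ≤ normalizer (M : Set X) := sup_le Subgroup.le_normalizer hn
  set K' := M.subgroupOf L with hK'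
  set A' := A.subgroupOf L with hA'
  have hK'n : K'.Normal := H12.Core.normal_subgroupOf_of_le hLn
  have hK's : Group.IsSolvable K' :=
    Group.isSolvable_of_isSolvable_injective (f := (Subgroup.subgroupOfEquivOfLe hML).toMonoidHom)
      (Subgroup.subgroupOfEquivOfLe hML).injective
  have hEA : EA q A' := by
    refine ⟨?_, ?_, ?_⟩
    · intro a ha b hb
      exact Subtype.ext (hA.comm a ha b hb)
    · intro a ha
      exact Subtype.ext (hA.pow a ha)
    · rw [hA', Basic.card_subgroupOf_eq hAL, hA.card]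
  have hfix : K' ⊓ centralizer (A' : Set L) = ⊥ := by
    rw [eq_bot_iff]
    rintro x ⟨hx, hxc⟩
    have h1 : (x : X) ∈ M ⊓ centralizer (A : Set X) := by
      refine ⟨hx, mem_centralizer_iff.mpr (fun a ha => ?_)⟩
      exact congrArg Subtype.val (mem_centralizer_iff.mp hxc ⟨a, hAL ha⟩ ha)
    rw [hf] at h1
    exact Subgroup.mem_bot.mpr (Subtype.ext (Subgroup.mem_bot.mp h1))
  have htop : K' ⊔ A' = ⊤ := by
    apply Subgroup.map_injective L.subtype_injective
    rw [Subgroup.map_sup, hK', hA', Basic.map_subtype_subgroupOf hML, Basic.map_subtype_subgroupOf hAL,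
      ← MonoidHom.range_eq_map, Subgroup.range_subtype]
  obtain ⟨k, l, hkl⟩ := Ward.main q (Nat.card K') L K' A' hK'n hK's hEA hfix htop rfl
  refine ⟨k, l, ?_⟩
  have h1 := congrArg (Subgroup.map L.subtype) hkl
  rw [Subgroup.map_lowerCentralSeries, Subgroup.map_lowerCentralSeries, hK', Basic.map_subtype_subgroupOf hML,
    Subgroup.map_bot] at h1
  exact h1

/-- in a group `M` whose `k`-th lower central term is nilpotent, `P O_r` is normal -/
theorem sup_normal {M : Type*} [Group M] [Finite M] {p r : ℕ} [hp : Fact p.Prime] [hr : Fact r.Prime]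
    (hpr : PiNum {p, r} (Nat.card M)) {k : ℕ} (hN : Group.IsNilpotent ((⊤ : Subgroup M).lowerCentralSeries k))
    (P : Sylow p M) : ((P : Subgroup M) ⊔ pCore r M).Normal := by
  set N := (⊤ : Subgroup M).lowerCentralSeries k with hNdef
  have hNn : N.Normal := inferInstance
  have hquot : Group.IsNilpotent (M ⧸ N) := by
    suffices h0 : Group.IsNilpotent (⊤ : Subgroup (M ⧸ N)) from Group.nilpotent_of_mulEquiv Subgroup.topEquiv
    rw [Subgroup.isNilpotent_iff_lowerCentralSeries]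
    refine ⟨k, ?_⟩
    have h1 : (⊤ : Subgroup (M ⧸ N)) = (⊤ : Subgroup M).map (QuotientGroup.mk' N) := by
      rw [← MonoidHom.range_eq_map, MonoidHom.range_eq_top.mpr (QuotientGroup.mk'_surjective N)]
    rw [h1, ← Subgroup.map_lowerCentralSeries, Subgroup.map_eq_bot_iff, QuotientGroup.ker_mk']
  set π := QuotientGroup.mk' N with hπ
  have hπs : Function.Surjective π := QuotientGroup.mk'_surjective N
  have h1 : ((P : Subgroup M) ⊔ N).Normal := by
    have h2 : (P.mapSurjective hπs : Subgroup (M ⧸ N)).Normal :=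
      (Group.isNilpotent_of_finite_tfae.out 0 3 rfl rfl).mp hquot p hp _
    have h3 : ((P : Subgroup M).map π).Normal := h2
    have h4 : (((P : Subgroup M).map π).comap π).Normal := inferInstance
    rwa [Subgroup.comap_map_eq, QuotientGroup.ker_mk'] at h4
  have h2 : N ≤ (P : Subgroup M) ⊔ pCore r M := by
    refine (H1.Nilp.le_iSup_pCore_of_nilpotent hNn hN).trans (iSup_le ?_)
    rintro ⟨s, hs⟩
    have hsf : Fact s.Prime := ⟨hs⟩
    by_cases h3 : s ∣ Nat.card M
    · rcases hpr s hs h3 with h4 | h4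
      · subst h4
        refine le_trans ?_ le_sup_left
        show Cfsg.pCore s M ≤ (P : Subgroup M)
        rw [H1.Nilp.pCore_eq_iInf]
        exact iInf_le _ P
      · have h5 : s = r := h4
        subst h5
        exact le_sup_right
    · have h4 : Cfsg.pCore s M = ⊥ := by
        apply Subgroup.card_eq_one.mp
        obtain ⟨j, hj⟩ := IsPGroup.iff_card.mp (H1.Nilp.pCore_isPGroup (G := M) s)
        rcases Nat.eq_zero_or_pos j with h5 | h5
        · rw [hj, h5, pow_zero]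
        · exfalso
          apply h3
          refine dvd_trans ?_ (Subgroup.card_subgroup_dvd_card (Cfsg.pCore s M))
          rw [hj]
          exact dvd_pow_self s h5.ne'
      show Cfsg.pCore s M ≤ _
      rw [h4]; exact bot_le
  have h3 : (P : Subgroup M) ⊔ pCore r M = ((P : Subgroup M) ⊔ N) ⊔ pCore r M := by
    apply le_antisymm
    · exact sup_le_sup_right le_sup_left _
    · exact sup_le (sup_le le_sup_left h2) le_sup_right
  rw [h3]
  have h4 : (pCore r M).Normal := H1.Nilp.pCore_normal r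
  exact Subgroup.sup_normal _ _

/-- the configuration -/
structure Cfg (q : ℕ) (K A : Subgroup X) (S : ℕ → Subgroup X) : Prop where
  ea : EA q A
  nK : A ≤ normalizer (K : Set X)
  cop : (Nat.card A).Coprime (Nat.card K)
  fix : K ⊓ centralizer (A : Set X) = ⊥
  ab : ∀ a ∈ A, a ≠ 1 → ∀ x ∈ K, ∀ y ∈ K, x * a = a * x → y * a = a * y → x * y = y * x
  sol : ∀ H ≤ K, A ≤ normalizer (H : Set X) → H ≠ K → Group.IsSolvable H
  simp : ∀ N ≤ K, K ≤ normalizer (N : Set X) → A ≤ normalizer (N : Set X) → N = ⊥ ∨ N = K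
  nsol : ¬ Group.IsSolvable K
  SK : ∀ p : ℕ, p.Prime → S p ≤ K
  SA : ∀ p : ℕ, p.Prime → A ≤ normalizer (S p : Set X)
  Sp : ∀ p : ℕ, p.Prime → IsPGroup p (S p)
  Si : ∀ p : ℕ, p.Prime → ¬ p ∣ (S p).relIndex K
  Sle : ∀ p : ℕ, p.Prime → ∀ U ≤ K, A ≤ normalizer (U : Set X) → IsPGroup p U → U ≤ S p

/-- the invariant Sylow subgroups -/
theorem exists_S {K A : Subgroup X} (hA : EA q A) (hn : A ≤ normalizer (K : Set X))
    (hcop : (Nat.card A).Coprime (Nat.card K)) (hf : K ⊓ centralizer (A : Set X) = ⊥) :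
    ∃ S : ℕ → Subgroup X, ∀ p : ℕ, p.Prime → S p ≤ K ∧ A ≤ normalizer (S p : Set X) ∧ IsPGroup p (S p) ∧
      ¬ p ∣ (S p).relIndex K ∧ ∀ U ≤ K, A ≤ normalizer (U : Set X) → IsPGroup p U → U ≤ S p := by
  have hsA : Group.IsSolvable A := Group.isSolvable_of_comm (fun a b => Subtype.ext (hA.comm a a.2 b b.2))
  have h1 : ∀ p : ℕ, ∃ T : Subgroup X, p.Prime → (T ≤ K ∧ A ≤ normalizer (T : Set X) ∧ IsPGroup p T ∧
      ¬ p ∣ T.relIndex K ∧ ∀ U ≤ K, A ≤ normalizer (U : Set X) → IsPGroup p U → U ≤ T) := by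
    intro p
    by_cases hp : p.Prime
    · have hpf : Fact p.Prime := ⟨hp⟩
      obtain ⟨P, hP⟩ := H1.Coprime.invariant_sylow_exists A K hn hcop (Or.inl hsA) p
      refine ⟨(P : Subgroup K).map K.subtype, fun _ => ⟨Subgroup.map_subtype_le _, hP, P.2.map _,
        Ward.sylow_relIndex P, ?_⟩⟩
      intro U hUK hAU hU
      obtain ⟨Q, hUQ, hQA⟩ := H1.Coprime.invariant_psubgroup_le A K hn hcop (Or.inl hsA) p U hUK hU hAU
      obtain ⟨c, hc, hcQ⟩ := H1.Coprime.invariant_sylow_conj A K hn hcop (Or.inl hsA) p P Q hP hQA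
      have h2 : (c : X) ∈ K ⊓ centralizer (A : Set X) := ⟨c.2, hc⟩
      rw [hf] at h2
      have h3 : c = 1 := Subtype.ext (Subgroup.mem_bot.mp h2)
      rw [h3, map_one, one_smul] at hcQ
      rw [hcQ]
      exact hUQ
    · exact ⟨⊥, fun h => absurd h hp⟩
  choose S hS using h1
  exact ⟨S, hS⟩

variable {K A : Subgroup X} {S : ℕ → Subgroup X}

theorem Cfg.solA (h : Cfg q K A S) : Group.IsSolvable A :=
  Group.isSolvable_of_comm (fun a b => Subtype.ext (h.ea.comm a a.2 b b.2))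

theorem Cfg.inf_relIndex (h : Cfg q K A S) {M : Subgroup X} (hM : M ≤ K) (hAM : A ≤ normalizer (M : Set X))
    {p : ℕ} (hp : p.Prime) : ¬ p ∣ (M ⊓ S p).relIndex M := by
  have hpf : Fact p.Prime := ⟨hp⟩
  obtain ⟨P, hP⟩ := H1.Coprime.invariant_sylow_exists A M hAM (coprime_of_le hM h.cop) (Or.inl h.solA) p
  have h1 : (P : Subgroup M).map M.subtype ≤ M ⊓ S p :=
    le_inf (Subgroup.map_subtype_le _) (h.Sle p hp _ ((Subgroup.map_subtype_le _).trans hM) hP (P.2.map _))
  intro h2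
  exact Ward.sylow_relIndex P (h2.trans (Subgroup.relIndex_dvd_of_le_left M h1))

theorem Cfg.le_of_parts (h : Cfg q K A S) {M L : Subgroup X} (hM : M ≤ K) (hAM : A ≤ normalizer (M : Set X))
    (hs : ∀ p : ℕ, p.Prime → p ∣ Nat.card M → M ⊓ S p ≤ L) : M ≤ L := by
  rw [← Subgroup.relIndex_eq_one]
  by_contra hne
  obtain ⟨p, hp, hdvd⟩ := Nat.exists_prime_and_dvd hne
  have h1 : p ∣ Nat.card M := hdvd.trans (Subgroup.relIndex_dvd_card _ _)
  exact h.inf_relIndex hM hAM hp (hdvd.trans (Subgroup.relIndex_dvd_of_le_left M (hs p hp h1)))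

theorem Cfg.exists_hall (h : Cfg q K A S) {N : Subgroup X} (hN : N ≤ K) (hAN : A ≤ normalizer (N : Set X))
    (hNs : Group.IsSolvable N) (π : Set ℕ) :
    ∃ H ≤ N, A ≤ normalizer (H : Set X) ∧ PiNum π (Nat.card H) ∧ ∀ s ∈ π, s.Prime → N ⊓ S s ≤ H := by
  obtain ⟨H₀, hH₀⟩ := Hall.exists_piHall hNs π
  obtain ⟨k, hk, hkA⟩ := H1.Coprime.exists_invariant_conj hAN (coprime_of_le hN h.cop) (Or.inl h.solA) H₀ (by
    intro a ha
    obtain ⟨l, hl, hle⟩ := Hall.piHall_conj hNs hH₀ (Hall.piHall_of_conj hH₀ (hAN ha))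
    exact ⟨l, hl, hle.symm⟩)
  have hH := Hall.piHall_of_conj hH₀ (Subgroup.le_normalizer hk)
  set H := MulAut.conj k • H₀ with hHdef
  obtain ⟨hHN, hH1, hH2⟩ := hH
  refine ⟨H, hHN, hkA, hH1, ?_⟩
  intro s hs hsp
  have hsf : Fact s.Prime := ⟨hsp⟩
  have h1 : H ⊓ S s ≤ N ⊓ S s := inf_le_inf_right _ hHN
  have h2 : ¬ s ∣ (H ⊓ S s).relIndex N := by
    rw [← Subgroup.relIndex_mul_relIndex (H ⊓ S s) H N inf_le_left hHN]
    intro h3
    rcases hsp.dvd_mul.mp h3 with h4 | h4
    · exact h.inf_relIndex (hHN.trans hN) hkA hsp h4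
    · exact hH2 s hsp hs h4
  have h3 : (H ⊓ S s).relIndex (N ⊓ S s) = 1 := by
    have h4 : (H ⊓ S s).relIndex (N ⊓ S s) ∣ (H ⊓ S s).relIndex N := by
      rw [← Subgroup.relIndex_mul_relIndex (H ⊓ S s) (N ⊓ S s) N h1 inf_le_left]
      exact Dvd.intro _ rfl
    have h5 : (H ⊓ S s).relIndex (N ⊓ S s) ∣ Nat.card (N ⊓ S s : Subgroup X) := Subgroup.relIndex_dvd_card _ _
    obtain ⟨j, hj⟩ := IsPGroup.iff_card.mp ((h.Sp s hsp).to_le (inf_le_right : N ⊓ S s ≤ S s))
    rw [hj] at h5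
    obtain ⟨i, _, hi⟩ := (Nat.dvd_prime_pow hsp).mp h5
    rcases Nat.eq_zero_or_pos i with h6 | h6
    · rw [hi, h6, pow_zero]
    · exfalso
      apply h2
      refine dvd_trans ?_ h4
      rw [hi]
      exact dvd_pow_self s h6.ne'
  rw [Subgroup.relIndex_eq_one] at h3
  exact h3.trans inf_le_left

theorem Cfg.gen (h : Cfg q K A S) {H L : Subgroup X} (hH : H ≤ K) (hAH : A ≤ normalizer (H : Set X))
    (hL : ∀ b ∈ A, b ≠ 1 → H ⊓ centralizer ({b} : Set X) ≤ L) : H ≤ L :=
  h.ea.gen hAH (coprime_of_le hH h.cop) hL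

theorem Cfg.nC (h : Cfg q K A S) {b : X} (hb : b ∈ A) : A ≤ normalizer (centralizer ({b} : Set X) : Set X) :=
  Ward.le_normalizer_centralizer_singleton h.ea.comm hb

/-- fixed-point-free for another element -/
theorem Cfg.other (h : Cfg q K A S) {a b : X} (ha : a ∈ A) (ha1 : a ≠ 1) (hb : b ∈ A) (hba : b ∉ zpowers a)
    {T : Subgroup X} (hT : T ≤ K) (hTa : T ≤ centralizer ({a} : Set X)) : T ⊓ centralizer ({b} : Set X) = ⊥ := by
  rw [eq_bot_iff]
  rintro x ⟨hx, hxb⟩
  have h1 : x ∈ K ⊓ centralizer (A : Set X) :=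
    ⟨hT hx, h.ea.comm_all ha hb ha1 hba (mem_centralizer_singleton_iff.mp (hTa hx)) (mem_centralizer_singleton_iff.mp hxb)⟩
  rwa [h.fix] at h1

/-- the basic commuting argument -/
theorem Cfg.fpf_comm (h : Cfg q K A S) {V T : Subgroup X} (hV : V ≤ K) (hT : T ≤ K)
    (hAV : A ≤ normalizer (V : Set X)) (hAT : A ≤ normalizer (T : Set X)) (hTV : T ≤ normalizer (V : Set X))
    (hc : (Nat.card V).Coprime (Nat.card T)) {b : X} (hb : b ∈ A)
    (hVb : V ⊓ centralizer ({b} : Set X) = ⊥) (hTb : T ⊓ centralizer ({b} : Set X) = ⊥) :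
    T ≤ centralizer (V : Set X) := by
  set W := V ⊔ T with hW
  have hWK : W ≤ K := sup_le hV hT
  have hAW : A ≤ normalizer (W : Set X) := Basic.le_normalizer_sup hAV hAT
  have hbW : b ∈ normalizer (W : Set X) := hAW hb
  let σ : MulAut W := W.normalizerMonoidHom ⟨b, hbW⟩
  have hσ : ∀ g : W, ((σ g : W) : X) = b * g * b⁻¹ := fun g => rfl
  have hzb : zpowers b ≤ A := by rwa [Subgroup.zpowers_le]
  have hnil : Group.IsNilpotent W := by
    apply H3.Fpf.nilpotent_of_fp q hq.out _ W σ rfl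
    refine ⟨?_, ?_⟩
    · intro g hg
      have h1 := congrArg Subtype.val hg
      rw [hσ] at h1
      have h2 : (g : X) ∈ W ⊓ centralizer (zpowers b : Set X) := by
        refine ⟨g.2, mem_centralizer_iff.mpr (fun a ha => ?_)⟩
        have h3 : (g : X) * b = b * g := (mul_inv_eq_iff_eq_mul.mp h1).symm
        exact (Ward.comm_of_zpowers h3 ha).symm
      have hzs : Group.IsSolvable (zpowers b) := Group.isSolvable_of_comm (fun x y => Subtype.ext (h.ea.comm x (hzb x.2) y (hzb y.2)))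
      obtain ⟨x, ⟨hx, hxb⟩, y, ⟨hy, hyb⟩, hxy⟩ := H1.Coprime.centralizer_of_product (zpowers b) W
        (Nat.Coprime.coprime_dvd_left (Subgroup.card_dvd_of_le hzb) (coprime_of_le hWK h.cop)) (Or.inl hzs)
        V T le_sup_left (hzb.trans hAV) (hzb.trans hAT) (by
          intro k hk
          obtain ⟨n, hn, t, ht, hnt⟩ := (Basic.mem_sup_of_le_normalizer hTV).mp hk
          exact ⟨n, hn, t, ht, hnt.symm⟩) g h2
      have hx1 : x ∈ V ⊓ centralizer ({b} : Set X) :=
        ⟨hx, mem_centralizer_singleton_iff.mpr (mem_centralizer_iff.mp hxb b (mem_zpowers b)).symm⟩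
      have hy1 : y ∈ T ⊓ centralizer ({b} : Set X) :=
        ⟨hy, mem_centralizer_singleton_iff.mpr (mem_centralizer_iff.mp hyb b (mem_zpowers b)).symm⟩
      rw [hVb] at hx1
      rw [hTb] at hy1
      rw [Subgroup.mem_bot.mp hx1, Subgroup.mem_bot.mp hy1, one_mul] at hxy
      exact Subtype.ext hxy
    · show (W.normalizerMonoidHom ⟨b, hbW⟩) ^ q = 1
      rw [← map_pow]
      have : (⟨b, hbW⟩ : normalizer (W : Set X)) ^ q = 1 := Subtype.ext (h.ea.pow b hb)
      rw [this, map_one]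
  exact H12.Core.commutator_eq_bot_of_nilpotent_coprime (N := W) (A := V) (B := T) hnil le_sup_left le_sup_right hTV hc.symm

end Cfsg.Agent.H22.QQ
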