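import Cfsg.Agent.H22_QQ1
import Cfsg.Agent.H22_DL2

/-!
Fixed-point-free action of an elementary abelian group of order `q²`: relative commuting argument.
-/

set_option autoImplicit false
set_option linter.unusedSectionVars false

namespace Cfsg.Agent.H22.QQ

open Subgroup Cfsg
open scoped commutatorElement Pointwise
open Cfsg.Agent.H22.Ward (EA coprime_of_le)
open Cfsg.Agent.H12.Core (PiNum)

universe u

variable {X : Type u} [Group X] [Finite X] {q : ℕ} [hq : Fact q.Prime]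

omit [Finite X] in
theorem pow_mem' {D : Subgroup X} {b x : X} (hb : b ∈ normalizer (D : Set X)) (hx : x⁻¹ * (b * x * b⁻¹) ∈ D) :
    ∀ i : ℕ, x⁻¹ * (b ^ i * x * (b ^ i)⁻¹) ∈ D := by
  intro i
  induction i with
  | zero => simp
  | succ i ih =>
    have h1 : x⁻¹ * (b ^ (i + 1) * x * (b ^ (i + 1))⁻¹)
        = (x⁻¹ * (b * x * b⁻¹)) * (b * (x⁻¹ * (b ^ i * x * (b ^ i)⁻¹)) * b⁻¹) := by
      rw [pow_succ']; group
    rw [h1]
    exact D.mul_mem hx ((Subgroup.mem_normalizer_iff.mp hb _).mp ih)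

variable {K A : Subgroup X} {S : ℕ → Subgroup X}

theorem Cfg.fpf_rel (h : Cfg q K A S) {V T V₀ : Subgroup X} (hV : V ≤ K) (hT : T ≤ K)
    (hAV : A ≤ normalizer (V : Set X)) (hAT : A ≤ normalizer (T : Set X)) (hTV : T ≤ normalizer (V : Set X))
    (hV₀ : V₀ ≤ V) (hAV₀ : A ≤ normalizer (V₀ : Set X)) (hVV₀ : V ≤ normalizer (V₀ : Set X))
    (hTV₀ : T ≤ normalizer (V₀ : Set X))
    (hc : (Nat.card V).Coprime (Nat.card T)) {b : X} (hb : b ∈ A)
    (hVb : V ⊓ centralizer ({b} : Set X) ≤ V₀) (hTb : T ⊓ centralizer ({b} : Set X) = ⊥) :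
    ∀ v ∈ V, ∀ t ∈ T, v * t * v⁻¹ * t⁻¹ ∈ V₀ := by
  set W := V ⊔ T with hW
  have hVW : V ≤ W := le_sup_left
  have hTW : T ≤ W := le_sup_right
  have hWK : W ≤ K := sup_le hV hT
  have hAW : A ≤ normalizer (W : Set X) := Basic.le_normalizer_sup hAV hAT
  have hbW : b ∈ normalizer (W : Set X) := hAW hb
  let σ : MulAut W := W.normalizerMonoidHom ⟨b, hbW⟩
  have hσ : ∀ g : W, ((σ g : W) : X) = b * g * b⁻¹ := fun g => rfl
  have hzb : zpowers b ≤ A := by rwa [Subgroup.zpowers_le]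
  set N : Subgroup W := V₀.subgroupOf W with hN
  have hNn : N.Normal := H12.Core.normal_subgroupOf_of_le (sup_le hVV₀ hTV₀)
  have hσN : ∀ z ∈ N, σ z ∈ N := by
    intro z hz
    show ((σ z : W) : X) ∈ V₀
    rw [hσ]
    exact (Subgroup.mem_normalizer_iff.mp (hAV₀ hb) _).mp hz
  let τ : MulAut (W ⧸ N) := DL2.qaut σ hσN
  have hτ : ∀ (i : ℕ) (g : W), (τ ^ i) (g : W ⧸ N) = (((σ ^ i) g : W) : W ⧸ N) := by
    intro i
    induction i with
    | zero => intro g; rfl
    | succ i ih =>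
      intro g
      rw [pow_succ', MulAut.mul_apply, ih, pow_succ', MulAut.mul_apply]
      rfl
  have hσq : σ ^ q = 1 := by
    show (W.normalizerMonoidHom ⟨b, hbW⟩) ^ q = 1
    rw [← map_pow]
    have : (⟨b, hbW⟩ : normalizer (W : Set X)) ^ q = 1 := Subtype.ext (h.ea.pow b hb)
    rw [this, map_one]
  have hnil : Group.IsNilpotent (W ⧸ N) := by
    apply H3.Fpf.nilpotent_of_fp q hq.out _ (W ⧸ N) τ rfl
    refine ⟨?_, ?_⟩
    · intro g hg
      obtain ⟨g, rfl⟩ := QuotientGroup.mk_surjective g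
      have h1 : ((σ g : W) : W ⧸ N) = (g : W ⧸ N) := hg
      have h2 : g⁻¹ * σ g ∈ N := QuotientGroup.eq.mp h1.symm
      have h3 : (g : X)⁻¹ * (b * g * b⁻¹) ∈ V₀ := h2
      have hzs : Group.IsSolvable (zpowers b) := Group.isSolvable_of_comm (fun x y => Subtype.ext (h.ea.comm x (hzb x.2) y (hzb y.2)))
      have hcz : ∀ Y : Subgroup X, Y ≤ K → (Nat.card (zpowers b)).Coprime (Nat.card Y) := fun Y hY =>
        Nat.Coprime.coprime_dvd_left (Subgroup.card_dvd_of_le hzb) (coprime_of_le hY h.cop)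
      obtain ⟨d, hd, hgd⟩ := H1.Coprime.exists_mul_mem_centralizer (A := zpowers b) (D := V₀) (hzb.trans hAV₀)
        (hcz V₀ (hV₀.trans hV)) (Or.inl hzs) (g : X) (by
          intro a ha
          obtain ⟨i, rfl⟩ := (mem_powers_iff_mem_zpowers.mpr ha : a ∈ Submonoid.powers b)
          exact pow_mem' (hAV₀ hb) h3 i)
      have h4 : (g : X) * d ∈ W ⊓ centralizer (zpowers b : Set X) := ⟨W.mul_mem g.2 (hVW (hV₀ hd)), hgd⟩
      obtain ⟨x, ⟨hx, hxb⟩, y, ⟨hy, hyb⟩, hxy⟩ := H1.Coprime.centralizer_of_product (zpowers b) W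
        (hcz W hWK) (Or.inl hzs)
        V T le_sup_left (hzb.trans hAV) (hzb.trans hAT) (by
          intro k hk
          obtain ⟨n, hn, t, ht, hnt⟩ := (Basic.mem_sup_of_le_normalizer hTV).mp hk
          exact ⟨n, hn, t, ht, hnt.symm⟩) _ h4
      have hx1 : x ∈ V₀ := hVb
        ⟨hx, mem_centralizer_singleton_iff.mpr (mem_centralizer_iff.mp hxb b (mem_zpowers b)).symm⟩
      have hy1 : y ∈ T ⊓ centralizer ({b} : Set X) :=
        ⟨hy, mem_centralizer_singleton_iff.mpr (mem_centralizer_iff.mp hyb b (mem_zpowers b)).symm⟩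
      rw [hTb] at hy1
      rw [Subgroup.mem_bot.mp hy1, mul_one] at hxy
      rw [QuotientGroup.eq_one_iff]
      show (g : X) ∈ V₀
      have h5 : (g : X) = x * d⁻¹ := by rw [← hxy, mul_inv_cancel_right]
      rw [h5]
      exact V₀.mul_mem hx1 (V₀.inv_mem hd)
    · ext g
      obtain ⟨g, rfl⟩ := QuotientGroup.mk_surjective g
      have h1 := hτ q g
      rw [hσq] at h1
      exact h1
  have hcent := H12.Core.commutator_eq_bot_of_nilpotent_coprime (G := W ⧸ N) (N := ⊤)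
    (A := (V.subgroupOf W).map (QuotientGroup.mk' N)) (B := (T.subgroupOf W).map (QuotientGroup.mk' N))
    (Group.nilpotent_of_mulEquiv Subgroup.topEquiv.symm) le_top le_top (by
      rintro _ ⟨t, ht, rfl⟩
      apply Basic.mem_normalizer_of_cj_le
      intro y hy
      rw [Basic.mem_cj] at hy
      obtain ⟨z, hz, hzy⟩ := hy
      refine ⟨t * z * t⁻¹, ?_, ?_⟩
      · exact (Subgroup.mem_normalizer_iff.mp (hTV ht) _).mp hz
      · rw [map_mul, map_mul, map_inv, hzy]; group) (by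
      have h1 : Nat.card ((T.subgroupOf W).map (QuotientGroup.mk' N)) ∣ Nat.card T := by
        rw [← Basic.card_subgroupOf_eq hTW]
        exact Subgroup.card_map_dvd _ _
      have h2 : Nat.card ((V.subgroupOf W).map (QuotientGroup.mk' N)) ∣ Nat.card V := by
        rw [← Basic.card_subgroupOf_eq hVW]
        exact Subgroup.card_map_dvd _ _
      exact (Nat.Coprime.coprime_dvd_left h1 (Nat.Coprime.coprime_dvd_right h2 hc.symm)))
  intro v hv t ht
  have h1 := mem_centralizer_iff.mp (hcent (⟨(⟨t, hTW ht⟩ : W), ht, rfl⟩ :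
    QuotientGroup.mk' N (⟨t, hTW ht⟩ : W) ∈ (T.subgroupOf W).map (QuotientGroup.mk' N)))
    (QuotientGroup.mk' N (⟨v, hVW hv⟩ : W)) ⟨(⟨v, hVW hv⟩ : W), hv, rfl⟩
  rw [← map_mul, ← map_mul] at h1
  have h2 : (⟨v, hVW hv⟩ : W) * ⟨t, hTW ht⟩ * (⟨v, hVW hv⟩ : W)⁻¹ * (⟨t, hTW ht⟩ : W)⁻¹ ∈ N := by
    rw [← QuotientGroup.ker_mk' N, MonoidHom.mem_ker, map_mul, map_mul, h1, map_inv, map_inv, map_mul]
    group
  exact h2

/-- if the fixed points of `b` are centralized by `T` then everything is -/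
theorem Cfg.lemE (h : Cfg q K A S) {V T : Subgroup X} (hV : V ≤ K) (hT : T ≤ K)
    (hAV : A ≤ normalizer (V : Set X)) (hAT : A ≤ normalizer (T : Set X)) (hTV : T ≤ normalizer (V : Set X))
    (hVn : Group.IsNilpotent V) (hVs : Group.IsSolvable V)
    (hc : (Nat.card V).Coprime (Nat.card T)) {b : X} (hb : b ∈ A)
    (hVb : V ⊓ centralizer ({b} : Set X) ≤ centralizer (T : Set X)) (hTb : T ⊓ centralizer ({b} : Set X) = ⊥) :
    T ≤ centralizer (V : Set X) := by
  set V₀ := V ⊓ centralizer (T : Set X) with hV₀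
  have hTV₀ : T ≤ centralizer (V₀ : Set X) := by
    rw [Subgroup.le_centralizer_iff]; exact inf_le_right
  by_contra hne
  have hlt : V₀ < V := by
    refine lt_of_le_of_ne inf_le_left (fun h1 => hne ?_)
    rwa [h1] at hTV₀
  have hAC : A ≤ normalizer (centralizer (T : Set X) : Set X) := Basic.le_normalizer_centralizer hAT
  have hAV₀ : A ≤ normalizer (V₀ : Set X) := Basic.le_normalizer_inf hAV hAC
  set V₁ := V ⊓ normalizer (V₀ : Set X) with hV₁
  have hlt1 : V₀ < V₁ := by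
    have h1 : NormalizerCondition V := Group.normalizerCondition_of_isNilpotent
    have h2 : V₀.subgroupOf V < ⊤ := by
      rw [lt_top_iff_ne_top]
      intro h3
      exact hlt.not_ge (Subgroup.subgroupOf_eq_top.mp h3)
    have h3 := h1 (V₀.subgroupOf V) h2
    have h4 : normalizer ((V₀.subgroupOf V : Subgroup V) : Set V) = (normalizer (V₀ : Set X)).subgroupOf V := by
      exact (Subgroup.subgroupOf_normalizer_eq hlt.le).symm
    rw [h4] at h3
    refine lt_of_le_of_ne (le_inf hlt.le Subgroup.le_normalizer) ?_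
    intro h5
    apply h3.not_ge
    intro x hx
    show (x : X) ∈ V₀
    rw [h5]
    exact ⟨x.2, hx⟩
  have hT1 : T ≤ normalizer (V₀ : Set X) := H1.Coprime.le_normalizer_of_le_centralizer hTV₀
  have hTV₁ : T ≤ normalizer (V₁ : Set X) := Basic.le_normalizer_inf hTV (Basic.le_normalizer_normalizer hT1)
  have hV₁V : V₁ ≤ V := inf_le_left
  have hc1 : (Nat.card V₁).Coprime (Nat.card T) := Nat.Coprime.coprime_dvd_left (Subgroup.card_dvd_of_le hV₁V) hc
  have h1 := h.fpf_rel (V := V₁) (T := T) (V₀ := V₀) (hV₁V.trans hV) hT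
    (Basic.le_normalizer_inf hAV (Basic.le_normalizer_normalizer hAV₀)) hAT hTV₁ hlt1.le hAV₀ inf_le_right hT1 hc1 hb
    (by
      intro x hx
      exact ⟨hV₁V hx.1, hVb ⟨hV₁V hx.1, hx.2⟩⟩) hTb
  have h2 : ⁅V₁, T⁆ ≤ V₀ := by
    rw [Subgroup.commutator_le]
    intro v hv t ht
    exact h1 v hv t ht
  have h3 : Group.IsSolvable V₁ := Group.isSolvable_of_isSolvable_injective (Subgroup.inclusion_injective hV₁V)
  have h4 := H1.Coprime.commutator_commutator_eq T V₁ hTV₁ hc1.symm (Or.inr h3)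
  have h5 : ⁅V₁, T⁆ = ⊥ := by
    rw [← h4, eq_bot_iff]
    refine (Subgroup.commutator_mono h2 le_rfl).trans ?_
    rw [le_bot_iff, Subgroup.commutator_eq_bot_iff_le_centralizer]
    exact inf_le_right
  rw [Subgroup.commutator_eq_bot_iff_le_centralizer] at h5
  exact hlt1.not_ge (le_inf hV₁V h5)

end Cfsg.Agent.H22.QQ
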