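import Cfsg.Agent.H22_QQ2

/-!
Fixed-point-free action of an elementary abelian group of order `q²`: `{p,r}`-subgroups.
-/

set_option autoImplicit false
set_option linter.unusedSectionVars false

namespace Cfsg.Agent.H22.QQ

open Subgroup Cfsg
open scoped commutatorElement Pointwise
open Cfsg.Agent.H22.Ward (EA coprime_of_le)
open Cfsg.Agent.H12.Core (PiNum)

universe u

variable {X : Type u} [Group X] [Finite X] {q : ℕ} [hq : Fact q.Prime]
variable {K A : Subgroup X} {S : ℕ → Subgroup X}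

/-- an invariant `{p,r}`-subgroup -/
structure PR (K A : Subgroup X) (p r : ℕ) (H : Subgroup X) : Prop where
  le : H ≤ K
  inv : A ≤ normalizer (H : Set X)
  pi : PiNum {p, r} (Nat.card H)

theorem PR.symm {p r : ℕ} {H : Subgroup X} (h : PR K A p r H) : PR K A r p H :=
  ⟨h.le, h.inv, by rw [Set.pair_comm]; exact h.pi⟩

/-- the standing hypothesis on the two primes -/
structure Two (K A : Subgroup X) (S : ℕ → Subgroup X) (p r : ℕ) : Prop where
  hp : p.Prime
  hr : r.Prime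
  ne : p ≠ r
  hno : ∀ H, PR K A p r H → S p ≤ H → ¬ S r ≤ H

theorem Two.symm {p r : ℕ} (t : Two K A S p r) : Two K A S r p :=
  ⟨t.hr, t.hp, t.ne.symm, fun H hH h1 h2 => t.hno H hH.symm h2 h1⟩

/-- `O_p(M)` -/
abbrev O (p : ℕ) (M : Subgroup X) : Subgroup X := piCoreOf {p} M

theorem O_le (p : ℕ) (M : Subgroup X) : O p M ≤ M := H12.Core.piCoreOf_le _ M

theorem O_norm (p : ℕ) (M : Subgroup X) : M ≤ normalizer (O p M : Set X) := H12.Core.le_normalizer_piCoreOf _ M

theorem O_inv {p : ℕ} {M : Subgroup X} (h : A ≤ normalizer (M : Set X)) : A ≤ normalizer (O p M : Set X) :=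
  h.trans (H12.Core.normalizer_le_normalizer_piCoreOf _ M)

theorem O_pgroup {p : ℕ} (hp : p.Prime) (M : Subgroup X) : IsPGroup p (O p M) :=
  (H12.Core.isPGroup_iff_piNum hp).mpr (H12.Core.piCoreOf_piNum {p} M)

theorem le_O {p : ℕ} (hp : p.Prime) {N M : Subgroup X} (hN : N ≤ M) (hMN : M ≤ normalizer (N : Set X))
    (h : IsPGroup p N) : N ≤ O p M :=
  H12.Core.le_piCoreOf hN hMN ((H12.Core.isPGroup_iff_piNum hp).mp h)

theorem cop_of_pgroup {p r : ℕ} (hp : p.Prime) (hr : r.Prime) (hpr : p ≠ r) {U V : Subgroup X} (hU : IsPGroup p U)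
    (hV : IsPGroup r V) : (Nat.card U).Coprime (Nat.card V) := by
  have hpf : Fact p.Prime := ⟨hp⟩
  have hrf : Fact r.Prime := ⟨hr⟩
  obtain ⟨i, hi⟩ := IsPGroup.iff_card.mp hU
  obtain ⟨j, hj⟩ := IsPGroup.iff_card.mp hV
  rw [hi, hj]
  exact Nat.Coprime.pow _ _ ((Nat.coprime_primes hp hr).mpr hpr)

theorem inf_bot_of_pgroup {p r : ℕ} (hp : p.Prime) (hr : r.Prime) (hpr : p ≠ r) {U V : Subgroup X} (hU : IsPGroup p U)
    (hV : IsPGroup r V) : U ⊓ V = ⊥ := Basic.inf_eq_bot_of_coprime (cop_of_pgroup hp hr hpr hU hV)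

omit [Finite X] in
/-- two subgroups normalizing enough things commute -/
theorem comm_of_inf {C W U V : Subgroup X} (hUV : U ⊓ V = ⊥) (hCU : C ≤ normalizer (U : Set X)) (hWU : W ≤ U)
    (hWV : W ≤ normalizer (V : Set X)) (hCV : C ≤ V) : C ≤ centralizer (W : Set X) := by
  intro c hc
  rw [mem_centralizer_iff]
  intro w hw
  have h1 : c * w * c⁻¹ * w⁻¹ ∈ U ⊓ V := by
    refine ⟨U.mul_mem ((Subgroup.mem_normalizer_iff.mp (hCU hc) w).mp (hWU hw)) (U.inv_mem (hWU hw)), ?_⟩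
    have h2 : c * w * c⁻¹ * w⁻¹ = c * (w * c⁻¹ * w⁻¹) := by group
    rw [h2]
    exact V.mul_mem (hCV hc) ((Subgroup.mem_normalizer_iff.mp (hWV hw) _).mp (V.inv_mem (hCV hc)))
  rw [hUV] at h1
  have h2 := Subgroup.mem_bot.mp h1
  rw [mul_inv_eq_one, mul_inv_eq_iff_eq_mul] at h2
  exact h2.symm

theorem O_comm {p r : ℕ} (hp : p.Prime) (hr : r.Prime) (hpr : p ≠ r) (M : Subgroup X) :
    O p M ≤ centralizer (O r M : Set X) :=
  comm_of_inf (U := O r M) (V := O p M) (inf_bot_of_pgroup hr hp hpr.symm (O_pgroup hr M) (O_pgroup hp M))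
    ((O_le p M).trans (O_norm r M)) le_rfl ((O_le r M).trans (O_norm p M)) le_rfl

variable {p r : ℕ}

theorem Cfg.solvable_PR (h : Cfg q K A S) (t : Two K A S p r) {H : Subgroup X} (hH : PR K A p r H) :
    Group.IsSolvable H := by
  apply h.sol H hH.le hH.inv
  rintro rfl
  exact t.hno H hH (h.SK p t.hp) (h.SK r t.hr)

theorem Cfg.inf_p (h : Cfg q K A S) {s : ℕ} (hs : s.Prime) (M : Subgroup X) : IsPGroup s (M ⊓ S s : Subgroup X) :=
  (h.Sp s hs).to_le inf_le_right

/-- an invariant `{p,r}`-subgroup is contained in any subgroup containing its parts -/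
theorem Cfg.PR_le (h : Cfg q K A S) {H L : Subgroup X} (hH : PR K A p r H) (h1 : H ⊓ S p ≤ L)
    (h2 : H ⊓ S r ≤ L) : H ≤ L := by
  apply h.le_of_parts hH.le hH.inv
  intro s hs hd
  rcases hH.pi s hs hd with h3 | h3
  · subst h3; exact h1
  · have h4 : s = r := h3
    subst h4; exact h2

theorem Cfg.O_le_S (h : Cfg q K A S) {s : ℕ} (hs : s.Prime) {M : Subgroup X} (hM : M ≤ K)
    (hAM : A ≤ normalizer (M : Set X)) : O s M ≤ S s :=
  h.Sle s hs _ ((O_le s M).trans hM) (O_inv hAM) (O_pgroup hs M)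

/-- `(M ∩ P) O_r(M)` is normal in `M` -/
theorem Cfg.zero (h : Cfg q K A S) (t : Two K A S p r) {M : Subgroup X} (hM : PR K A p r M) :
    M ≤ normalizer ((M ⊓ S p ⊔ O r M : Subgroup X) : Set X) := by
  have hpf : Fact p.Prime := ⟨t.hp⟩
  have hrf : Fact r.Prime := ⟨t.hr⟩
  have hf : M ⊓ centralizer (A : Set X) = ⊥ := le_bot_iff.mp ((inf_le_inf_right _ hM.le).trans h.fix.le)
  obtain ⟨k, l, hkl⟩ := ward_sub h.ea hM.inv (h.solvable_PR t hM) hf
  have hN : Group.IsNilpotent ((⊤ : Subgroup M).lowerCentralSeries k) := by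
    rw [Subgroup.isNilpotent_iff_lowerCentralSeries]
    refine ⟨l, ?_⟩
    apply Subgroup.map_injective M.subtype_injective
    rw [Subgroup.map_lowerCentralSeries, Subgroup.map_lowerCentralSeries, ← MonoidHom.range_eq_map, Subgroup.range_subtype,
      hkl, Subgroup.map_bot]
  obtain ⟨P, hP⟩ := H1.Coprime.invariant_sylow_exists A M hM.inv (coprime_of_le hM.le h.cop) (Or.inl h.solA) p
  have h1 : (P : Subgroup M).map M.subtype = M ⊓ S p := by
    have h2 : (P : Subgroup M).map M.subtype ≤ M ⊓ S p :=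
      le_inf (Subgroup.map_subtype_le _) (h.Sle p t.hp _ ((Subgroup.map_subtype_le _).trans hM.le) hP (P.2.map _))
    have h3 : IsPGroup p ((M ⊓ S p).subgroupOf M) := (h.inf_p t.hp M).comap_of_injective M.subtype M.subtype_injective
    have h4 : (P : Subgroup M) ≤ (M ⊓ S p).subgroupOf M := Subgroup.map_le_iff_le_comap.mp h2
    have h5 := P.is_maximal' h3 h4
    rw [← h5, Basic.map_subtype_subgroupOf inf_le_left]
  have h2 : (pCore r M).map M.subtype = O r M := by
    rw [← H12.Core.piCore_singleton t.hr]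
    rfl
  have h3 := sup_normal (k := k) hM.pi hN P
  rw [← h1, ← h2, ← Subgroup.map_sup]
  intro g hg
  apply Basic.mem_normalizer_of_cj_le
  intro y hy
  rw [Basic.mem_cj] at hy
  obtain ⟨z, hz, hzy⟩ := hy
  refine ⟨⟨g, hg⟩ * z * ⟨g, hg⟩⁻¹, h3.conj_mem z hz _, ?_⟩
  show g * (z : X) * g⁻¹ = y
  have h4 : (z : X) = g⁻¹ * y * g := hzy
  rw [h4]; group

/-- `C_{M ∩ P}(O_r(M)) ≤ O_p(M)` -/
theorem Cfg.zeroa (h : Cfg q K A S) (t : Two K A S p r) {M : Subgroup X} (hM : PR K A p r M) {T : Subgroup X}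
    (hTM : T ≤ M) (hTS : T ≤ S p) (hT : T ≤ centralizer (O r M : Set X)) : T ≤ O p M := by
  have hpf : Fact p.Prime := ⟨t.hp⟩
  set Y := M ⊓ S p ⊔ O r M with hY
  have hYn := h.zero t hM
  have hYM : Y ≤ M := sup_le inf_le_left (O_le r M)
  set C := Y ⊓ centralizer (O r M : Set X) with hC
  have hCM : C ≤ M := inf_le_left.trans hYM
  have hMC : M ≤ normalizer (C : Set X) :=
    Basic.le_normalizer_inf hYn (Basic.le_normalizer_centralizer (O_norm r M))
  have hTC : T ≤ C := le_inf ((le_inf hTM hTS).trans le_sup_left) hT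
  -- `C` is nilpotent
  have hOrY : (O r M).subgroupOf Y ≤ ((O r M).subgroupOf Y) := le_rfl
  have hnY : ((O r M).subgroupOf Y).Normal := H12.Core.normal_subgroupOf_of_le (hYM.trans (O_norm r M))
  let f : C →* (Y ⧸ ((O r M).subgroupOf Y)) := (QuotientGroup.mk' _).comp (Subgroup.inclusion inf_le_left)
  have h0 : IsPGroup p (Y ⧸ ((O r M).subgroupOf Y)) := by
    intro y
    obtain ⟨y, rfl⟩ := QuotientGroup.mk_surjective y
    obtain ⟨n, hn, o, ho, hno⟩ := (Basic.mem_sup_of_le_normalizer' (N := O r M) (K := M ⊓ S p)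
      (inf_le_left.trans (O_norm r M))).mp (by rw [sup_comm]; exact y.2)
    obtain ⟨k, hk⟩ := h.inf_p t.hp M ⟨n, hn⟩
    refine ⟨k, ?_⟩
    have h2 : y = ⟨n, le_sup_left (a := M ⊓ S p) hn⟩ * ⟨o, le_sup_right (a := M ⊓ S p) ho⟩ := Subtype.ext hno.symm
    have h3 : ((⟨o, le_sup_right (a := M ⊓ S p) ho⟩ : Y) : Y ⧸ ((O r M).subgroupOf Y)) = 1 :=
      (QuotientGroup.eq_one_iff _).mpr ho
    rw [h2, QuotientGroup.mk_mul, h3, mul_one, ← QuotientGroup.mk_pow]
    have hk' : n ^ p ^ k = 1 := congrArg Subtype.val hk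
    have h4 : (⟨n, le_sup_left (a := M ⊓ S p) hn⟩ : Y) ^ p ^ k = 1 := Subtype.ext hk'
    rw [h4]; rfl
  have h0n : Group.IsNilpotent (Y ⧸ ((O r M).subgroupOf Y)) := h0.isNilpotent
  have hCnil : Group.IsNilpotent C := by
    apply Subgroup.isNilpotent_of_ker_le_center f
    intro x hx
    rw [MonoidHom.mem_ker] at hx
    have h1 : (x : X) ∈ O r M := by
      have h2 : (Subgroup.inclusion (inf_le_left : C ≤ Y) x) ∈ (O r M).subgroupOf Y := (QuotientGroup.eq_one_iff _).mp hx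
      exact h2
    rw [Subgroup.mem_center_iff]
    intro y
    apply Subtype.ext
    exact (mem_centralizer_iff.mp y.2.2 (x : X) h1).symm
  have hTp : IsPGroup p (T.subgroupOf C) := ((h.Sp p t.hp).to_le hTS).comap_of_injective C.subtype C.subtype_injective
  obtain ⟨P, hP⟩ := hTp.exists_le_sylow
  have hPn : (P : Subgroup C).Normal := (Group.isNilpotent_of_finite_tfae.out 0 3 rfl rfl).mp hCnil p hpf P
  have h1 : (P : Subgroup C) ≤ piCore {p} C :=
    H12.Core.le_piCore hPn ((H12.Core.isPGroup_iff_piNum t.hp).mp P.2)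
  have h2 : T ≤ O p C := by
    rw [← Basic.map_subtype_subgroupOf hTC]
    exact Subgroup.map_mono (hP.trans h1)
  exact h2.trans (H12.Core.piCoreOf_le_piCoreOf hCM hMC)

end Cfsg.Agent.H22.QQ
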