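import Cfsg.Agent.H22_QQ3

/-!
Fixed-point-free action of an elementary abelian group of order `q²`: maximal `{p,r}`-subgroups.
-/

set_option autoImplicit false
set_option linter.unusedSectionVars false

namespace Cfsg.Agent.H22.QQ

open Subgroup Cfsg
open scoped commutatorElement Pointwise
open Cfsg.Agent.H22.Ward (EA coprime_of_le)
open Cfsg.Agent.H12.Core (PiNum)

universe u

variable {X : Type u} [Group X] [Finite X] {q : ℕ} [hq : Fact q.Prime]
variable {K A : Subgroup X} {S : ℕ → Subgroup X} {p r : ℕ}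

theorem exists_max {H : Subgroup X} (hH : PR K A p r H) : ∃ M, Maximal (PR K A p r) M ∧ H ≤ M := by
  obtain ⟨M, hM, hMm⟩ := Finite.exists_le_maximal hH
  exact ⟨M, hMm, hM⟩

theorem max_symm {M : Subgroup X} (h : Maximal (PR K A p r) M) : Maximal (PR K A r p) M :=
  ⟨h.1.symm, fun _ hH hle => h.2 hH.symm hle⟩

/-- `N(Y)_{p,r} ≤ M` -/
def Loc (K A : Subgroup X) (p r : ℕ) (Y M : Subgroup X) : Prop :=
  ∀ s : ℕ, (s = p ∨ s = r) → ∀ U ≤ K, A ≤ normalizer (U : Set X) → U ≤ normalizer (Y : Set X) → IsPGroup s U → U ≤ M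

theorem Loc.symm {Y M : Subgroup X} (h : Loc K A p r Y M) : Loc K A r p Y M :=
  fun s hs => h s hs.symm

/-- local subgroups -/
theorem Cfg.exists_loc (h : Cfg q K A S) (t : Two K A S p r) {Y : Subgroup X} (hY : Y ≤ K) (hAY : A ≤ normalizer (Y : Set X))
    (hYb : Y ≠ ⊥) (hYs : Group.IsSolvable Y) : ∃ H, PR K A p r H ∧ Loc K A p r Y H := by
  set N := K ⊓ normalizer (Y : Set X) with hN
  have hAN : A ≤ normalizer (N : Set X) := Basic.le_normalizer_inf h.nK (Basic.le_normalizer_normalizer hAY)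
  have hNK : N ≠ K := by
    intro h1
    have h2 : K ≤ normalizer (Y : Set X) := inf_eq_left.mp h1
    rcases h.simp Y hY h2 hAY with h3 | h3
    · exact hYb h3
    · rw [h3] at hYs; exact h.nsol hYs
  obtain ⟨H, hHN, hAH, hHpi, hH⟩ := h.exists_hall (N := N) inf_le_left hAN (h.sol N inf_le_left hAN hNK) {p, r}
  refine ⟨H, ⟨hHN.trans inf_le_left, hAH, hHpi⟩, ?_⟩
  intro s hs U hU hAU hUY hUs
  have hsp : s.Prime := by
    rcases hs with rfl | rfl
    · exact t.hp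
    · exact t.hr
  exact (le_inf (le_inf hU hUY) (h.Sle s hsp U hU hAU hUs)).trans (hH s hs hsp)

theorem Cfg.loc_of_max (h : Cfg q K A S) (t : Two K A S p r) {Y M : Subgroup X} (hM : Maximal (PR K A p r) M)
    (hY : Y ≤ K) (hAY : A ≤ normalizer (Y : Set X)) (hYb : Y ≠ ⊥) (hYs : Group.IsSolvable Y)
    (hMY : M ≤ normalizer (Y : Set X)) : Loc K A p r Y M := by
  obtain ⟨H, hH, hHl⟩ := h.exists_loc t hY hAY hYb hYs
  have h1 : M ≤ H := by
    apply h.PR_le hM.1
    · exact hHl p (Or.inl rfl) _ (inf_le_left.trans hM.1.le) (Basic.le_normalizer_inf hM.1.inv (h.SA p t.hp))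
        (inf_le_left.trans hMY) (h.inf_p t.hp M)
    · exact hHl r (Or.inr rfl) _ (inf_le_left.trans hM.1.le) (Basic.le_normalizer_inf hM.1.inv (h.SA r t.hr))
        (inf_le_left.trans hMY) (h.inf_p t.hr M)
  have h2 : H ≤ M := hM.2 hH h1
  intro s hs U hU hAU hUY hUs
  exact (hHl s hs U hU hAU hUY hUs).trans h2

theorem solv_of_pgroup {s : ℕ} (hs : s.Prime) {U : Subgroup X} (hU : IsPGroup s U) : Group.IsSolvable U := by
  have hsf : Fact s.Prime := ⟨hs⟩
  have := hU.isNilpotent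
  infer_instance

/-- first half of the uniqueness argument -/
theorem Cfg.half (h : Cfg q K A S) (t : Two K A S p r) {M L Z W : Subgroup X} (hM : PR K A p r M) (hL : PR K A p r L)
    (hZ : Z ≤ O p M) (hW : W ≤ O r M) (hAZ : A ≤ normalizer (Z : Set X))
    (hlZ : Loc K A p r Z M) (hZL : Z ≤ L) (hWL : W ≤ L) : W ≤ centralizer (O p L : Set X) ∧ W ≤ O r L := by
  have hpf : Fact p.Prime := ⟨t.hp⟩
  have hWr : IsPGroup r W := (O_pgroup t.hr M).to_le hW
  have h1 : W ≤ centralizer (O p L : Set X) := by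
    apply H1.Coprime.p_times_q p Z W (O p L) ((O_pgroup t.hp M).to_le hZ)
    · have hrf : Fact r.Prime := ⟨t.hr⟩
      obtain ⟨j, hj⟩ := IsPGroup.iff_card.mp hWr
      rw [hj]
      exact Nat.Coprime.pow_left _ ((Nat.coprime_primes t.hr t.hp).mpr t.ne.symm)
    · exact O_pgroup t.hp L
    · exact (hZ.trans (O_comm t.hp t.hr t.ne M)).trans (Subgroup.centralizer_le hW)
    · exact hZL.trans (O_norm p L)
    · exact hWL.trans (O_norm p L)
    · set C := O p L ⊓ centralizer (Z : Set X) with hC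
      have hCM : C ≤ M := hlZ p (Or.inl rfl) C ((inf_le_left.trans (O_le p L)).trans hL.le)
        (Basic.le_normalizer_inf (O_inv hL.inv) (Basic.le_normalizer_centralizer hAZ))
        (inf_le_right.trans (Subgroup.centralizer_le_normalizer _)) ((O_pgroup t.hp L).to_le inf_le_left)
      exact comm_of_inf (U := O r M) (V := O p L)
        (inf_bot_of_pgroup t.hr t.hp t.ne.symm (O_pgroup t.hr M) (O_pgroup t.hp L))
        (hCM.trans (O_norm r M)) hW (hWL.trans (O_norm p L)) inf_le_left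
  refine ⟨h1, ?_⟩
  exact h.zeroa t.symm hL.symm hWL (hW.trans (h.O_le_S t.hr hM.le hM.inv)) h1

theorem Cfg.full (h : Cfg q K A S) (t : Two K A S p r) {M L Z W : Subgroup X} (hM : PR K A p r M) (hL : PR K A p r L)
    (hZ : Z ≤ O p M) (hW : W ≤ O r M) (hAZ : A ≤ normalizer (Z : Set X)) (hAW : A ≤ normalizer (W : Set X))
    (hlZ : Loc K A p r Z M) (hlW : Loc K A p r W M) (hZL : Z ≤ L) (hWL : W ≤ L) :
    W ≤ O r L ∧ Z ≤ O p L ∧ O p L ≤ M ∧ O r L ≤ M := by
  obtain ⟨h1, h2⟩ := h.half t hM hL hZ hW hAZ hlZ hZL hWL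
  obtain ⟨h3, h4⟩ := h.half t.symm hM.symm hL.symm hW hZ hAW hlW.symm hWL hZL
  refine ⟨h2, h4, ?_, ?_⟩
  · rw [Subgroup.le_centralizer_iff] at h1
    exact hlW p (Or.inl rfl) _ ((O_le p L).trans hL.le) (O_inv hL.inv)
      (h1.trans (Subgroup.centralizer_le_normalizer _)) (O_pgroup t.hp L)
  · rw [Subgroup.le_centralizer_iff] at h3
    exact hlZ r (Or.inr rfl) _ ((O_le r L).trans hL.le) (O_inv hL.inv)
      (h3.trans (Subgroup.centralizer_le_normalizer _)) (O_pgroup t.hr L)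

theorem Cfg.loc_O (h : Cfg q K A S) (t : Two K A S p r) {M : Subgroup X} (hM : Maximal (PR K A p r) M)
    (hb : O p M ≠ ⊥) : Loc K A p r (O p M) M :=
  h.loc_of_max t hM ((O_le p M).trans hM.1.le) (O_inv hM.1.inv) hb (solv_of_pgroup t.hp (O_pgroup t.hp M)) (O_norm p M)

theorem Cfg.uniq (h : Cfg q K A S) (t : Two K A S p r) {M L : Subgroup X} (hM : Maximal (PR K A p r) M)
    (hL : Maximal (PR K A p r) L) (hMp : O p M ≠ ⊥) (hMr : O r M ≠ ⊥) (hLp : O p L ≠ ⊥) (hLr : O r L ≠ ⊥)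
    (h1 : O p L ≤ M) (h2 : O r L ≤ M) : L = M := by
  obtain ⟨a1, a2, a3, a4⟩ := h.full t hL.1 hM.1 le_rfl le_rfl (O_inv hL.1.inv) (O_inv hL.1.inv) (h.loc_O t hL hLp)
    (h.loc_O t.symm (max_symm hL) hLr).symm h1 h2
  obtain ⟨b1, b2, b3, b4⟩ := h.full t hM.1 hL.1 le_rfl le_rfl (O_inv hM.1.inv) (O_inv hM.1.inv) (h.loc_O t hM hMp)
    (h.loc_O t.symm (max_symm hM) hMr).symm a3 a4
  have he : O p M = O p L := le_antisymm b2 a2
  have hLM : L ≤ M := by
    have hl := h.loc_O t hM hMp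
    apply h.PR_le hL.1
    · exact hl p (Or.inl rfl) _ (inf_le_left.trans hL.1.le) (Basic.le_normalizer_inf hL.1.inv (h.SA p t.hp))
        (inf_le_left.trans (by rw [he]; exact O_norm p L)) (h.inf_p t.hp L)
    · exact hl r (Or.inr rfl) _ (inf_le_left.trans hL.1.le) (Basic.le_normalizer_inf hL.1.inv (h.SA r t.hr))
        (inf_le_left.trans (by rw [he]; exact O_norm p L)) (h.inf_p t.hr L)
  exact le_antisymm hLM (hL.2 hM.1 hLM)

theorem Cfg.loc_sub (h : Cfg q K A S) (t : Two K A S p r) {M : Subgroup X} (hM : Maximal (PR K A p r) M)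
    (hMp : O p M ≠ ⊥) (hMr : O r M ≠ ⊥) {Y : Subgroup X} (hY : Y ≤ O p M) (hYb : Y ≠ ⊥)
    (hAY : A ≤ normalizer (Y : Set X)) : Loc K A p r Y M := by
  have hYK : Y ≤ K := hY.trans ((O_le p M).trans hM.1.le)
  obtain ⟨H, hH, hHl⟩ := h.exists_loc t hYK hAY hYb (solv_of_pgroup t.hp ((O_pgroup t.hp M).to_le hY))
  obtain ⟨L, hL, hHL⟩ := exists_max hH
  set Z := O p M ⊓ centralizer (O p M : Set X) with hZ
  have hpf : Fact p.Prime := ⟨t.hp⟩
  have hZb : Z ≠ ⊥ := H3.Fpf.inf_centralizer_ne_bot (O_pgroup t.hp M) hMp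
  have hZO : Z ≤ O p M := inf_le_left
  have hAZ : A ≤ normalizer (Z : Set X) := Basic.le_normalizer_inf (O_inv hM.1.inv) (Basic.le_normalizer_centralizer (O_inv hM.1.inv))
  have hlZ : Loc K A p r Z M := h.loc_of_max t hM (hZO.trans ((O_le p M).trans hM.1.le)) hAZ hZb
    (solv_of_pgroup t.hp ((O_pgroup t.hp M).to_le hZO))
    (Basic.le_normalizer_inf (O_norm p M) (Basic.le_normalizer_centralizer (O_norm p M)))
  have hlW : Loc K A p r (O r M) M := (h.loc_O t.symm (max_symm hM) hMr).symm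
  have hZL : Z ≤ L := by
    refine le_trans ?_ hHL
    apply hHl p (Or.inl rfl) Z (hZO.trans ((O_le p M).trans hM.1.le)) hAZ _ ((O_pgroup t.hp M).to_le hZO)
    exact (inf_le_right.trans (Subgroup.centralizer_le hY)).trans (Subgroup.centralizer_le_normalizer _)
  have hWL : O r M ≤ L := by
    refine le_trans ?_ hHL
    apply hHl r (Or.inr rfl) (O r M) ((O_le r M).trans hM.1.le) (O_inv hM.1.inv) _ (O_pgroup t.hr M)
    exact ((O_comm t.hr t.hp t.ne.symm M).trans (Subgroup.centralizer_le hY)).trans (Subgroup.centralizer_le_normalizer _)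
  obtain ⟨a1, a2, a3, a4⟩ := h.full t hM.1 hL.1 hZO le_rfl hAZ (O_inv hM.1.inv) hlZ hlW hZL hWL
  have hLp : O p L ≠ ⊥ := fun h1 => hZb (le_bot_iff.mp (a2.trans h1.le))
  have hLr : O r L ≠ ⊥ := fun h1 => hMr (le_bot_iff.mp (a1.trans h1.le))
  have he := h.uniq t hM hL hMp hMr hLp hLr a3 a4
  intro s hs U hU hAU hUY hUs
  exact (hHl s hs U hU hAU hUY hUs).trans (hHL.trans he.le)

/-- `C_P(a), C_R(a) ≤ M` when `a` has fixed points in `O_p(M)` -/
theorem Cfg.cent_le (h : Cfg q K A S) (t : Two K A S p r) {M : Subgroup X} (hM : Maximal (PR K A p r) M)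
    (hMp : O p M ≠ ⊥) (hMr : O r M ≠ ⊥) {a : X} (ha : a ∈ A) (ha1 : a ≠ 1)
    (hab : O p M ⊓ centralizer ({a} : Set X) ≠ ⊥) {s : ℕ} (hs : s = p ∨ s = r) :
    S s ⊓ centralizer ({a} : Set X) ≤ M := by
  have hl := h.loc_sub t hM hMp hMr inf_le_left hab (Basic.le_normalizer_inf (O_inv hM.1.inv) (h.nC ha))
  have hsp : s.Prime := by
    rcases hs with rfl | rfl
    · exact t.hp
    · exact t.hr
  apply hl s hs _ (inf_le_left.trans (h.SK s hsp)) (Basic.le_normalizer_inf (h.SA s hsp) (h.nC ha)) _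
    ((h.Sp s hsp).to_le inf_le_left)
  refine le_trans ?_ (Subgroup.centralizer_le_normalizer _)
  intro x hx
  rw [mem_centralizer_iff]
  intro y hy
  exact h.ab a ha ha1 y (hM.1.le (O_le p M hy.1)) x (h.SK s hsp hx.1) (mem_centralizer_singleton_iff.mp hy.2)
    (mem_centralizer_singleton_iff.mp hx.2)

/-- if `b` is fixed-point-free on `F(M)` -/
theorem Cfg.in_O (h : Cfg q K A S) (t : Two K A S p r) {M : Subgroup X} (hM : PR K A p r M)
    {a b : X} (ha : a ∈ A) (ha1 : a ≠ 1) (hb : b ∈ A) (hba : b ∉ zpowers a)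
    (hr : O r M ⊓ centralizer ({b} : Set X) = ⊥) :
    M ⊓ S p ⊓ centralizer ({a} : Set X) ≤ O p M := by
  set T := M ⊓ S p ⊓ centralizer ({a} : Set X) with hT
  have hTM : T ≤ M := inf_le_left.trans inf_le_left
  have hTS : T ≤ S p := inf_le_left.trans inf_le_right
  apply h.zeroa t hM hTM hTS
  apply h.fpf_comm ((O_le r M).trans hM.le) (hTM.trans hM.le) (O_inv hM.inv)
    (Basic.le_normalizer_inf (Basic.le_normalizer_inf hM.inv (h.SA p t.hp)) (h.nC ha)) (hTM.trans (O_norm r M))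
    (cop_of_pgroup t.hr t.hp t.ne.symm (O_pgroup t.hr M) ((h.Sp p t.hp).to_le hTS)) hb hr
  exact h.other ha ha1 hb hba (hTM.trans hM.le) inf_le_right

end Cfsg.Agent.H22.QQ
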