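import Cfsg.Agent.H22_QQ4

/-!
Fixed-point-free action of an elementary abelian group of order `q²`: no maximal `{p,r}`-subgroup of the third type.
-/

set_option autoImplicit false
set_option linter.unusedSectionVars false

namespace Cfsg.Agent.H22.QQ

open Subgroup Cfsg
open scoped commutatorElement Pointwise
open Cfsg.Agent.H22.Ward (EA coprime_of_le)
open Cfsg.Agent.H22.Basic (cj)
open Cfsg.Agent.H12.Core (PiNum)

universe u

variable {X : Type u} [Group X] [Finite X] {q : ℕ} [hq : Fact q.Prime]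
variable {K A : Subgroup X} {S : ℕ → Subgroup X} {p r : ℕ}

theorem lt_inf_normalizer {V V₀ : Subgroup X} (hVn : Group.IsNilpotent V) (hlt : V₀ < V) :
    V₀ < V ⊓ normalizer (V₀ : Set X) := by
  have h1 : NormalizerCondition V := Group.normalizerCondition_of_isNilpotent
  have h2 : V₀.subgroupOf V < ⊤ := by
    rw [lt_top_iff_ne_top]
    intro h3
    exact hlt.not_ge (Subgroup.subgroupOf_eq_top.mp h3)
  have h3 := h1 (V₀.subgroupOf V) h2
  have h4 : normalizer ((V₀.subgroupOf V : Subgroup V) : Set V) = (normalizer (V₀ : Set X)).subgroupOf V := by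
    exact (Subgroup.subgroupOf_normalizer_eq hlt.le).symm
  rw [h4] at h3
  refine lt_of_le_of_ne (le_inf hlt.le Subgroup.le_normalizer) ?_
  intro h5
  apply h3.not_ge
  intro x hx
  show (x : X) ∈ V₀
  rw [h5]
  exact ⟨x.2, hx⟩

theorem Cfg.cent_eq (h : Cfg q K A S) {a b : X} (ha : a ∈ A) (hba : b ∈ zpowers a) (hb1 : b ≠ 1) :
    centralizer ({a} : Set X) = centralizer ({b} : Set X) := by
  have hab : a ∈ zpowers b := Ward.mem_zpowers_of (h.ea.pow a ha) hba hb1
  apply le_antisymm
  · intro x hx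
    exact mem_centralizer_singleton_iff.mpr (Ward.comm_of_zpowers (mem_centralizer_singleton_iff.mp hx) hba)
  · intro x hx
    exact mem_centralizer_singleton_iff.mpr (Ward.comm_of_zpowers (mem_centralizer_singleton_iff.mp hx) hab)

theorem Cfg.zcop (h : Cfg q K A S) {b : X} (hb : b ∈ A) {Y : Subgroup X} (hY : Y ≤ K) :
    (Nat.card (zpowers b)).Coprime (Nat.card Y) := by
  have hzb : zpowers b ≤ A := by rwa [Subgroup.zpowers_le]
  exact Nat.Coprime.coprime_dvd_left (Subgroup.card_dvd_of_le hzb) (coprime_of_le hY h.cop)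

/-- `[M ∩ P, b] = O_p(M)` -/
theorem Cfg.comm_eq (h : Cfg q K A S) (t : Two K A S p r) {M : Subgroup X} (hM : PR K A p r M)
    {b : X} (hb : b ∈ A) (hb1 : b ≠ 1)
    (hpb : O p M ⊓ centralizer ({b} : Set X) = ⊥) (hrb : O r M ⊓ centralizer ({b} : Set X) = ⊥) :
    ⁅M ⊓ S p, zpowers b⁆ = O p M := by
  have hzb : zpowers b ≤ A := by rwa [Subgroup.zpowers_le]
  have hzs : Group.IsSolvable (zpowers b) := Group.isSolvable_of_comm (fun x y => Subtype.ext (h.ea.comm x (hzb x.2) y (hzb y.2)))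
  set T := M ⊓ S p with hT
  have hOT : O p M ≤ T := le_inf (O_le p M) (h.O_le_S t.hp hM.le hM.inv)
  have hAT : A ≤ normalizer (T : Set X) := Basic.le_normalizer_inf hM.inv (h.SA p t.hp)
  apply le_antisymm
  · have hTb : T ≤ O p M ⊔ (T ⊓ centralizer ({b} : Set X)) := by
      apply h.gen (inf_le_left.trans hM.le) hAT
      intro c hc hc1
      by_cases hbc : b ∈ zpowers c
      · rw [h.cent_eq hc hbc hb1]
        exact le_sup_right
      · exact (h.in_O t hM hc hc1 hb hbc hrb).trans le_sup_left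
    rw [Subgroup.commutator_le]
    intro x hx y hy
    obtain ⟨o, ho, c, hc, rfl⟩ := (Basic.mem_sup_of_le_normalizer
      ((inf_le_left.trans inf_le_left).trans (O_norm p M))).mp (hTb hx)
    have h1 : c * y = y * c := Ward.comm_of_zpowers (mem_centralizer_singleton_iff.mp hc.2) hy
    have h2 : ⁅o * c, y⁆ = o * (y * o⁻¹ * y⁻¹) := by
      rw [commutatorElement_def]
      calc o * c * y * (o * c)⁻¹ * y⁻¹ = o * (c * y) * c⁻¹ * o⁻¹ * y⁻¹ := by group
        _ = o * (y * c) * c⁻¹ * o⁻¹ * y⁻¹ := by rw [h1]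
        _ = o * (y * o⁻¹ * y⁻¹) := by group
    rw [h2]
    exact (O p M).mul_mem ho ((Subgroup.mem_normalizer_iff.mp (O_inv hM.inv (hzb hy)) _).mp ((O p M).inv_mem ho))
  · have h1 := H1.Coprime.commutator_sup_centralizer (zpowers b) (O p M) (hzb.trans (O_inv hM.inv))
      (h.zcop hb ((O_le p M).trans hM.le)) (Or.inl hzs)
    have h2 : O p M ⊓ centralizer (zpowers b : Set X) = ⊥ := by
      rw [eq_bot_iff, ← hpb]
      apply inf_le_inf_left
      exact Subgroup.centralizer_le (by
        intro x hx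
        rw [Set.mem_singleton_iff.mp hx]; exact mem_zpowers b)
    rw [h2, sup_bot_eq] at h1
    exact h1.ge.trans (Subgroup.commutator_mono hOT le_rfl)

theorem Cfg.type3 (h : Cfg q K A S) (t : Two K A S p r) {M : Subgroup X} (hM : Maximal (PR K A p r) M)
    (hMp : O p M ≠ ⊥) (hMr : O r M ≠ ⊥) : S p ≤ M := by
  have hcl : ∀ a ∈ A, a ≠ 1 → ¬ (O p M ⊓ centralizer ({a} : Set X) = ⊥ ∧ O r M ⊓ centralizer ({a} : Set X) = ⊥) →
      S p ⊓ centralizer ({a} : Set X) ≤ M := by
    intro a ha ha1 hne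
    by_cases h1 : O p M ⊓ centralizer ({a} : Set X) = ⊥
    · exact h.cent_le t.symm (max_symm hM) hMr hMp ha ha1 (fun h2 => hne ⟨h1, h2⟩) (Or.inr rfl)
    · exact h.cent_le t hM hMp hMr ha ha1 h1 (Or.inl rfl)
  by_cases hex : ∃ b ∈ A, b ≠ 1 ∧ O p M ⊓ centralizer ({b} : Set X) = ⊥ ∧ O r M ⊓ centralizer ({b} : Set X) = ⊥
  swap
  · push Not at hex
    apply h.gen (h.SK p t.hp) (h.SA p t.hp)
    intro b hb hb1
    exact hcl b hb hb1 (fun h1 => hex b hb hb1 h1.1 h1.2)
  obtain ⟨b, hb, hb1, hpb, hrb⟩ := hex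
  have hpf : Fact p.Prime := ⟨t.hp⟩
  set T := M ⊓ S p with hT
  have hAT : A ≤ normalizer (T : Set X) := Basic.le_normalizer_inf hM.1.inv (h.SA p t.hp)
  set N := S p ⊓ normalizer (T : Set X) with hN
  have hAN : A ≤ normalizer (N : Set X) := Basic.le_normalizer_inf (h.SA p t.hp) (Basic.le_normalizer_normalizer hAT)
  have hNK : N ≤ K := inf_le_left.trans (h.SK p t.hp)
  have hlo := h.loc_O t hM hMp
  have key : N ≤ M := by
    apply h.gen hNK hAN
    intro a ha ha1
    set U := N ⊓ centralizer ({a} : Set X) with hU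
    have hUloc : U ≤ normalizer (O p M : Set X) → U ≤ M := by
      intro h1
      exact hlo p (Or.inl rfl) U (inf_le_left.trans hNK) (Basic.le_normalizer_inf hAN (h.nC ha)) h1
        ((h.Sp p t.hp).to_le (inf_le_left.trans inf_le_left))
    by_cases hba : b ∈ zpowers a
    · apply hUloc
      intro g hg
      have h1 : g ∈ centralizer ({b} : Set X) := by rw [← h.cent_eq ha hba hb1]; exact hg.2
      have h2 : g ∈ normalizer (T : Set X) := hg.1.2
      rw [Basic.mem_normalizer_iff_cj, ← h.comm_eq t hM.1 hb hb1 hpb hrb, Basic.commutator_cj,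
        Basic.cj_eq_of_mem_normalizer h2]
      congr 1
      apply Basic.cj_eq_of_mem_normalizer
      apply H1.Coprime.le_normalizer_of_le_centralizer (P := zpowers g) _ (mem_zpowers g)
      rw [Subgroup.zpowers_le, mem_centralizer_iff]
      intro y hy
      exact (Ward.comm_of_zpowers (mem_centralizer_singleton_iff.mp h1) hy).symm
    · by_cases hfa : O p M ⊓ centralizer ({a} : Set X) = ⊥ ∧ O r M ⊓ centralizer ({a} : Set X) = ⊥
      · apply hUloc
        have h1 : T ≤ O p M := by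
          apply h.gen (inf_le_left.trans hM.1.le) hAT
          intro c hc hc1
          by_cases hbc : b ∈ zpowers c
          · have hac : a ∉ zpowers c := by
              intro h2
              apply hba
              have h3 : c ∈ zpowers a := Ward.mem_zpowers_of (h.ea.pow c hc) h2 ha1
              have h4 : zpowers c ≤ zpowers a := by rwa [Subgroup.zpowers_le]
              exact h4 hbc
            exact h.in_O t hM.1 hc hc1 ha hac hfa.2
          · exact h.in_O t hM.1 hc hc1 hb hbc hrb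
        have h2 : T = O p M := le_antisymm h1 (le_inf (O_le p M) (h.O_le_S t.hp hM.1.le hM.1.inv))
        rw [← h2]
        exact inf_le_left.trans inf_le_right
      · exact (inf_le_inf_right _ inf_le_left).trans (hcl a ha ha1 hfa)
  by_contra hne
  have hlt : T < S p := lt_of_le_of_ne inf_le_right (fun h1 => hne (inf_eq_right.mp h1))
  have h1 := lt_inf_normalizer (h.Sp p t.hp).isNilpotent hlt
  exact h1.not_ge (le_inf key inf_le_left)

/-- the dichotomy -/
theorem Cfg.dich (h : Cfg q K A S) (t : Two K A S p r) {M : Subgroup X} (hM : Maximal (PR K A p r) M) :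
    O p M = ⊥ ∨ O r M = ⊥ := by
  by_contra hne
  push Not at hne
  exact t.hno M hM.1 (h.type3 t hM hne.1 hne.2) (h.type3 t.symm (max_symm hM) hne.2 hne.1)

theorem Cfg.type1 (h : Cfg q K A S) (t : Two K A S p r) {M : Subgroup X} (hM : Maximal (PR K A p r) M)
    (hr : O r M = ⊥) : S p ≤ M ∧ M ≤ normalizer (S p : Set X) := by
  have hpf : Fact p.Prime := ⟨t.hp⟩
  have h0 := h.zero t hM.1
  rw [hr, sup_bot_eq] at h0
  set Y := M ⊓ S p with hY
  have hAY : A ≤ normalizer (Y : Set X) := Basic.le_normalizer_inf hM.1.inv (h.SA p t.hp)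
  have hPRp : PR K A p r (S p) := ⟨h.SK p t.hp, h.SA p t.hp, by
    obtain ⟨j, hj⟩ := IsPGroup.iff_card.mp (h.Sp p t.hp)
    rw [hj]
    exact H12.Core.piNum_of_pow t.hp (Or.inl rfl)⟩
  have hPRr : PR K A p r (S r) := ⟨h.SK r t.hr, h.SA r t.hr, by
    have hrf : Fact r.Prime := ⟨t.hr⟩
    obtain ⟨j, hj⟩ := IsPGroup.iff_card.mp (h.Sp r t.hr)
    rw [hj]
    exact H12.Core.piNum_of_pow t.hr (Or.inr rfl)⟩
  by_cases hYb : Y = ⊥
  · exfalso
    -- M is an r-group
    have h1 : M ≤ S r := h.PR_le hM.1 (by rw [← hY, hYb]; exact bot_le) inf_le_right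
    have h2 : M ≤ O r M := le_O t.hr le_rfl Subgroup.le_normalizer ((h.Sp r t.hr).to_le h1)
    have h3 : M = ⊥ := le_bot_iff.mp (h2.trans hr.le)
    subst h3
    exact t.hno ⊥ hM.1 (hM.2 hPRp bot_le) (hM.2 hPRr bot_le)
  · have hl := h.loc_of_max t hM (inf_le_left.trans hM.1.le) hAY hYb (solv_of_pgroup t.hp (h.inf_p t.hp M)) h0
    have h1 : S p ⊓ normalizer (Y : Set X) ≤ M :=
      hl p (Or.inl rfl) _ (inf_le_left.trans (h.SK p t.hp))
        (Basic.le_normalizer_inf (h.SA p t.hp) (Basic.le_normalizer_normalizer hAY)) inf_le_right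
        ((h.Sp p t.hp).to_le inf_le_left)
    have h2 : Y = S p := by
      by_contra hne
      have hlt : Y < S p := lt_of_le_of_ne inf_le_right hne
      have h3 := lt_inf_normalizer (h.Sp p t.hp).isNilpotent hlt
      exact h3.not_ge (le_inf h1 inf_le_left)
    rw [h2] at h0
    exact ⟨inf_eq_right.mp h2, h0⟩

/-- every invariant `{p,r}`-subgroup normalizes `P` or `R` -/
theorem Cfg.dich' (h : Cfg q K A S) (t : Two K A S p r) {H : Subgroup X} (hH : PR K A p r H) :
    H ≤ normalizer (S p : Set X) ∨ H ≤ normalizer (S r : Set X) := by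
  obtain ⟨M, hM, hHM⟩ := exists_max hH
  rcases h.dich t hM with h1 | h1
  · exact Or.inr (hHM.trans (h.type1 t.symm (max_symm hM) h1).2)
  · exact Or.inl (hHM.trans (h.type1 t hM h1).2)

/-- faithfulness -/
theorem Cfg.faith (h : Cfg q K A S) (t : Two K A S p r) {T : Subgroup X} (hT : T ≤ S r)
    (hAT : A ≤ normalizer (T : Set X)) (hTc : T ≤ centralizer (S p : Set X)) : T = ⊥ := by
  have hpf : Fact p.Prime := ⟨t.hp⟩
  have hrf : Fact r.Prime := ⟨t.hr⟩
  have hTn : T ≤ normalizer (S p : Set X) := H1.Coprime.le_normalizer_of_le_centralizer hTc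
  have hH : PR K A p r (T ⊔ S p) := by
    refine ⟨sup_le (hT.trans (h.SK r t.hr)) (h.SK p t.hp), Basic.le_normalizer_sup hAT (h.SA p t.hp), ?_⟩
    apply H12.Core.piNum_sup hTn
    · obtain ⟨j, hj⟩ := IsPGroup.iff_card.mp ((h.Sp r t.hr).to_le hT)
      rw [hj]
      exact H12.Core.piNum_of_pow t.hr (Or.inr rfl)
    · obtain ⟨j, hj⟩ := IsPGroup.iff_card.mp (h.Sp p t.hp)
      rw [hj]
      exact H12.Core.piNum_of_pow t.hp (Or.inl rfl)
  obtain ⟨M, hM, hHM⟩ := exists_max hH
  rcases h.dich t hM with h1 | h1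
  · exfalso
    exact t.hno M hM.1 (le_sup_right.trans hHM) (h.type1 t.symm (max_symm hM) h1).1
  · have h2 := h.zeroa t.symm hM.1.symm (T := T) (le_sup_left.trans hHM) hT
      (hTc.trans (Subgroup.centralizer_le (h.O_le_S t.hp hM.1.le hM.1.inv)))
    exact le_bot_iff.mp (h2.trans h1.le)

end Cfsg.Agent.H22.QQ
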