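import Cfsg.Statements.S1988
import Cfsg.Agent.H13_NPC4
import Cfsg.Agent.S1978

set_option autoImplicit false
universe u
open Cfsg

namespace Cfsg.Agent.S1988

/-- Let p be an odd prime, G a finite group with Sylow p-subgroup S and K the lower K-infinity subgroup of S. If N_G(K) has a normal p-complement, or if N_G(K)/C_G(K) is a p-group (every element of N_G(K) of order prime to p centralizes K), then G has a normal p-complement. -/
theorem result {G : Type u} [Group G] [Finite G] {p : ℕ} [Fact p.Prime] (hp : p ≠ 2) (S : Sylow p G) (h : Cfsg.HasNormalPComplement p ↥(Subgroup.normalizer ((Cfsg.inducedFunctor Cfsg.kInfLower (S : Subgroup G) : Subgroup G) : Set G)) ∨ ∀ g ∈ Subgroup.normalizer ((Cfsg.inducedFunctor Cfsg.kInfLower (S : Subgroup G) : Subgroup G) : Set G), (orderOf g).Coprime p → g ∈ Subgroup.centralizer ((Cfsg.inducedFunctor Cfsg.kInfLower (S : Subgroup G) : Subgroup G) : Set G)) : Cfsg.HasNormalPComplement p G := by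
  have hW := Cfsg.Agent.H13.K.isCharPFunctor_lower.{u} p
  have hS := Cfsg.Agent.H13.Syl.isSylIn_sylow_top S
  have hN : Cfsg.HasNormalPComplement p ↥(Subgroup.normalizer ((Cfsg.inducedFunctor Cfsg.kInfLower
      (S : Subgroup G) : Subgroup G) : Set G)) := by
    rcases h with h | h
    · exact h
    · refine Cfsg.Agent.H13.NPC.npc_normalizer hS (Cfsg.Agent.H13.Sec.induced_le _) ?_ ?_ h
      · exact Subgroup.le_normalizer.trans (Cfsg.Agent.H13.CF.normalizer_le_normalizer_W
          (Cfsg.Agent.H13.Sec.induced_isConjugacyFunctor hW) S.isPGroup')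
      · intro x hx
        obtain ⟨hxS, hxC⟩ := Subgroup.mem_inf.1 hx
        have h1 := (Cfsg.Agent.S1978.result (P := ↥(S : Subgroup G)) S.isPGroup').1
        have h2 : (⟨x, hxS⟩ : ↥(S : Subgroup G)) ∈ Cfsg.kInfLower ↥(S : Subgroup G) := by
          apply h1
          rw [Subgroup.mem_centralizer_iff]
          intro y hy
          apply Subtype.ext
          exact (Subgroup.mem_centralizer_iff.1 hxC) y ⟨y, hy, rfl⟩
        exact ⟨_, h2, rfl⟩
  clear h
  refine Cfsg.Agent.H13.NPC.CP_self (Cfsg.Agent.H13.NPC.main hW ?_) S hN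
  intro K R _ IH T hNT hX
  have hT := Cfsg.Agent.H13.Syl.isSylIn_sylow_top T
  have hPAP := Cfsg.Agent.H13.Stab.PAP_of_coatom hT (Cfsg.Agent.H13.NPC.coatom hW IH hT hNT hX)
    (Cfsg.Agent.H13.NPC.npc_quot hW IH hT hNT hX)
  refine Cfsg.Agent.H13.NPC.not_normal hNT hX ?_
  rw [Cfsg.Agent.H13.K.induced_lower]
  refine (Cfsg.Agent.H13.KT.normal_of_stable (p := p) (G := ↥K ⧸ R.subgroupOf K) ?_ _
    (Cfsg.Agent.H13.Sec.involves_congr (MulEquiv.refl _)) T
    (Cfsg.Agent.H13.NPC.constrained hW IH hT hNT hX)).1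
  intro K' R' _
  exact Cfsg.Agent.H13.Stab.PAP_stable hp
    (Cfsg.Agent.H13.Stab.PAP_involves (Cfsg.Agent.H13.Sec.involves_section K' R') hPAP)

end Cfsg.Agent.S1988
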