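import Cfsg.Statements.S3073
import Cfsg.Agent.S1988
import Cfsg.Agent.H18_NPC

set_option autoImplicit false
universe u
open Cfsg

namespace Cfsg.Agent.S3073


/-- For an odd prime p, every finite p-group S has a characteristic subgroup K with C_S(K) ≤ K such that, whenever S is (isomorphic to) a Sylow p-subgroup of a finite group G, G has a normal p-complement if and only if N_G(K)/C_G(K) is a p-group, i.e. every element of N_G(K) of order prime to p centralizes K (K transported into G along the isomorphism). -/
theorem result (p : ℕ) [Fact p.Prime] (hp : p ≠ 2)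
    (S : Type u) [Group S] [Finite S] (hS : IsPGroup p S) :
    ∃ K : Subgroup S, K.Characteristic ∧ Subgroup.centralizer (K : Set S) ≤ K ∧
      ∀ (G : Type u) [Group G] [Finite G] (P : Sylow p G) (e : ↥(P : Subgroup G) ≃* S),
        Cfsg.HasNormalPComplement p G ↔
          ∀ g ∈ Subgroup.normalizer (((K.comap (e : ↥(P : Subgroup G) →* S)).map (P : Subgroup G).subtype : Subgroup G) : Set G),
            (orderOf g).Coprime p →
              g ∈ Subgroup.centralizer (((K.comap (e : ↥(P : Subgroup G) →* S)).map (P : Subgroup G).subtype : Subgroup G) : Set G) := by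
  have hW := H13.K.isCharPFunctor_lower.{u} p
  have hmap : ∀ (Q R : Type u) [Group Q] [Group R] [Finite Q], IsPGroup p Q → ∀ φ : Q ≃* R,
      (Cfsg.kInfLower Q).map φ.toMonoidHom = Cfsg.kInfLower R := hW.2
  refine ⟨Cfsg.kInfLower S, ?_, ?_, ?_⟩
  · rw [Subgroup.characteristic_iff_map_eq]
    intro φ
    exact hmap S S hS φ
  · have hnil : Group.IsNilpotent (⊤ : Subgroup S) := (hS.of_equiv Subgroup.topEquiv.symm).isNilpotent
    have hf : {B : Subgroup S | B ∈ Cfsg.kLowerStarFamily (⊤ : Subgroup S)}.Finite := Set.toFinite _
    obtain ⟨B, hB⟩ := hf.exists_maximal ⟨⊥, by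
      apply H13.K.abelian_mem_lower
      · simp
      · intro x _
        rw [Subgroup.mem_normalizer_iff]
        intro y
        rw [Subgroup.mem_bot, Subgroup.mem_bot, conj_eq_one_iff]⟩
    have h1 := H13.K.centralizer_le_of_max_lower (P := (⊤ : Subgroup S)) (Q := ⊤) (B := B) hnil le_rfl le_top hB.prop
      (fun C hC _ hBC => le_antisymm (hB.2 hC hBC) hBC)
    rw [top_inf_eq] at h1
    have h2 : B ≤ Cfsg.kInfLower S := by
      refine le_trans ?_ (le_iSup _ 0)
      exact le_sSup hB.prop
    exact (Subgroup.centralizer_le h2).trans (h1.trans h2)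
  · intro G _ _ P e
    have hK : (Subgroup.comap (e : ↥(P : Subgroup G) →* S) (Cfsg.kInfLower S)).map (P : Subgroup G).subtype =
        Cfsg.inducedFunctor (G := G) Cfsg.kInfLower (P : Subgroup G) := by
      show _ = (Cfsg.kInfLower ↥(P : Subgroup G)).map (P : Subgroup G).subtype
      congr 1
      have h1 := hmap _ _ P.isPGroup' e
      rw [← h1]
      exact Subgroup.comap_map_eq_self_of_injective e.injective _
    rw [hK]
    constructor
    · intro h g hg ho
      exact H18.NPC.npc_centralizes h (P.isPGroup'.to_le (Subgroup.map_subtype_le _)) hg ho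
    · intro h
      exact S1988.result hp P (Or.inr h)

end Cfsg.Agent.S3073
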