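import Cfsg.Agent.H22_QQ5
import Cfsg.Agent.H18_NPC
import Cfsg.Agent.S3073

/-!
Fixed-point-free action of an elementary abelian group of order `q²`: normal complements and the final contradiction
for two non-permuting Sylow subgroups.
-/

set_option autoImplicit false
set_option linter.unusedSectionVars false

namespace Cfsg.Agent.H22.QQ

open Subgroup Cfsg
open scoped commutatorElement Pointwise
open Cfsg.Agent.H22.Ward (EA coprime_of_le)
open Cfsg.Agent.H22.Basic (cj)
open Cfsg.Agent.H12.Core (PiNum)

universe u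

variable {X : Type u} [Group X] [Finite X] {q : ℕ} [hq : Fact q.Prime]
variable {K A : Subgroup X} {S : ℕ → Subgroup X} {p r : ℕ}

theorem Cfg.no_npc (h : Cfg q K A S) (hp : p.Prime) (hpb : S p ≠ ⊥) : ¬ HasNormalPComplement p K := by
  intro hn
  have hpf : Fact p.Prime := ⟨hp⟩
  obtain ⟨N, hN, hNc, hNq⟩ := H18.NPC.npc_data hn
  set Y := piCoreOf ({p}ᶜ) K with hY
  have hYK : Y ≤ K := H12.Core.piCoreOf_le _ K
  have hNY : N.map K.subtype ≤ Y := by
    apply Subgroup.map_mono
    exact H12.Core.le_piCore hN ((H12.Core.piNum_singleton_compl hp).mpr hNc)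
  rcases h.simp Y hYK (H12.Core.le_normalizer_piCoreOf _ K) (h.nK.trans (H12.Core.normalizer_le_normalizer_piCoreOf _ K)) with h1 | h1
  · -- `K` is a `p`-group
    have h2 : N = ⊥ := by
      rw [h1, le_bot_iff] at hNY
      exact (Subgroup.map_eq_bot_iff_of_injective _ K.subtype_injective).mp hNY
    apply h.nsol
    subst h2
    have h3 : IsPGroup p K := hNq.of_equiv (QuotientGroup.quotientBot)
    have := h3.isNilpotent
    infer_instance
  · have h2 : PiNum ({p}ᶜ) (Nat.card K) := by
      have := H12.Core.piCoreOf_piNum ({p}ᶜ) K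
      rwa [← hY, h1] at this
    apply hpb
    apply Subgroup.card_eq_one.mp
    obtain ⟨j, hj⟩ := IsPGroup.iff_card.mp (h.Sp p hp)
    rcases Nat.eq_zero_or_pos j with h5 | h5
    · rw [hj, h5, pow_zero]
    · exfalso
      have h3 : p ∣ Nat.card K := by
        refine dvd_trans ?_ (Subgroup.card_dvd_of_le (h.SK p hp))
        rw [hj]
        exact dvd_pow_self p h5.ne'
      exact h2 p hp h3 rfl

/-- the Sylow subgroup as a Sylow subgroup of the type `K` -/
theorem Cfg.exists_sylow (h : Cfg q K A S) (hp : p.Prime) :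
    ∃ P : Sylow p K, (P : Subgroup K).map K.subtype = S p := by
  have hpf : Fact p.Prime := ⟨hp⟩
  obtain ⟨P, hP⟩ := H1.Coprime.invariant_sylow_exists A K h.nK h.cop (Or.inl h.solA) p
  refine ⟨P, ?_⟩
  have h2 : (P : Subgroup K).map K.subtype ≤ S p := h.Sle p hp _ (Subgroup.map_subtype_le _) hP (P.2.map _)
  have h3 : IsPGroup p ((S p).subgroupOf K) := (h.Sp p hp).comap_of_injective K.subtype K.subtype_injective
  have h4 : (P : Subgroup K) ≤ (S p).subgroupOf K := Subgroup.map_le_iff_le_comap.mp h2
  have h5 := P.is_maximal' h3 h4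
  rw [← h5, Basic.map_subtype_subgroupOf (h.SK p hp)]

/-- given two independent conditions, one of two elements is outside -/
theorem Cfg.not_both (h : Cfg q K A S) {a c c' : X} (ha : a ∈ A) (hc1 : c ≠ 1)
    (hcc : c' ∉ zpowers c) : c ∉ zpowers a ∨ c' ∉ zpowers a := by
  by_contra hne
  push Not at hne
  apply hcc
  have h3 : a ∈ zpowers c := Ward.mem_zpowers_of (h.ea.pow a ha) hne.1 hc1
  have h4 : zpowers a ≤ zpowers c := by rwa [Subgroup.zpowers_le]
  exact h4 hne.2

theorem Cfg.notCent (h : Cfg q K A S) (hp : p.Prime) (hpb : S p ≠ ⊥) {c : X} (hc : c ∈ A) (hc1 : c ≠ 1) :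
    ¬ S p ≤ centralizer ({c} : Set X) := by
  intro hcent
  have hpf : Fact p.Prime := ⟨hp⟩
  have hab : S p ≤ centralizer (S p : Set X) := by
    intro x hx
    rw [mem_centralizer_iff]
    intro y hy
    exact h.ab c hc hc1 y (h.SK p hp hy) x (h.SK p hp hx) (mem_centralizer_singleton_iff.mp (hcent hy))
      (mem_centralizer_singleton_iff.mp (hcent hx))
  set N := K ⊓ normalizer (S p : Set X) with hN
  have hAN : A ≤ normalizer (N : Set X) := Basic.le_normalizer_inf h.nK (Basic.le_normalizer_normalizer (h.SA p hp))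
  have hNc : N ≤ centralizer (S p : Set X) := by
    apply h.le_of_parts inf_le_left hAN
    intro s hs _
    by_cases hsp : s = p
    · subst hsp
      exact inf_le_right.trans hab
    · have hNS : N ⊓ S s ≤ K := inf_le_left.trans inf_le_left
      apply h.gen hNS (Basic.le_normalizer_inf hAN (h.SA s hs))
      intro a ha ha1
      by_cases hca : c ∈ zpowers a
      · rw [h.cent_eq ha hca hc1]
        intro x hx
        rw [mem_centralizer_iff]
        intro y hy
        exact h.ab c hc hc1 y (h.SK p hp hy) x (hNS hx.1) (mem_centralizer_singleton_iff.mp (hcent hy))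
          (mem_centralizer_singleton_iff.mp hx.2)
      · set T := N ⊓ S s ⊓ centralizer ({a} : Set X) with hT
        have hTK : T ≤ K := inf_le_left.trans hNS
        have hacA : a * c ∈ A := A.mul_mem ha hc
        have h1 : a * c ∉ zpowers a := by
          intro h2
          apply hca
          have := (zpowers a).mul_mem ((zpowers a).inv_mem (mem_zpowers a)) h2
          rwa [inv_mul_cancel_left] at this
        have h2 : a * c ∉ zpowers c := by
          intro h3
          apply hca
          have h4 : a ∈ zpowers c := by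
            have := (zpowers c).mul_mem h3 ((zpowers c).inv_mem (mem_zpowers c))
            rwa [mul_inv_cancel_right] at this
          exact Ward.mem_zpowers_of (h.ea.pow c hc) h4 ha1
        apply h.fpf_comm (h.SK p hp) hTK (h.SA p hp)
          (Basic.le_normalizer_inf (Basic.le_normalizer_inf hAN (h.SA s hs)) (h.nC ha))
          ((inf_le_left.trans inf_le_left).trans inf_le_right)
          (cop_of_pgroup hp hs (fun h => hsp h.symm) (h.Sp p hp) ((h.Sp s hs).to_le (inf_le_left.trans inf_le_right)))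
          hacA (h.other hc hc1 hacA h2 (h.SK p hp) hcent)
        exact h.other ha ha1 hacA h1 hTK inf_le_right
  apply h.no_npc hp hpb
  obtain ⟨P, hP⟩ := h.exists_sylow hp
  have hPn : normalizer ((P : Subgroup K) : Set K) ≤ centralizer ((P : Subgroup K) : Set K) := by
    intro g hg
    have h1 : (g : X) ∈ N := by
      refine ⟨g.2, ?_⟩
      rw [← hP]
      apply Basic.mem_normalizer_of_cj_le
      intro y hy
      rw [Basic.mem_cj] at hy
      obtain ⟨z, hz, hzy⟩ := hy
      refine ⟨g * z * g⁻¹, (Subgroup.mem_normalizer_iff.mp hg z).mp hz, ?_⟩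
      show (g : X) * (z : X) * (g : X)⁻¹ = y
      have h4 : (z : X) = (g : X)⁻¹ * y * g := hzy
      rw [h4]; group
    have h2 := hNc h1
    rw [mem_centralizer_iff]
    intro y hy
    apply Subtype.ext
    exact mem_centralizer_iff.mp h2 (y : X) (by rw [← hP]; exact ⟨y, hy, rfl⟩)
  exact ⟨P, (MonoidHom.transferSylow P hPn).ker, inferInstance, MonoidHom.ker_transferSylow_isComplement' P hPn⟩

theorem Cfg.th (h : Cfg q K A S) (hr : r.Prime) (hr2 : r ≠ 2) (hrb : S r ≠ ⊥) {c c' : X} (hc : c ∈ A) (hc1 : c ≠ 1)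
    (hc' : c' ∈ A) (hcc : c' ∉ zpowers c) (h1 : S r ⊓ centralizer ({c} : Set X) = ⊥)
    (h2 : S r ⊓ centralizer ({c'} : Set X) = ⊥) : False := by
  have hrf : Fact r.Prime := ⟨hr⟩
  apply h.no_npc hr hrb
  obtain ⟨P, hP⟩ := h.exists_sylow hr
  obtain ⟨KK, hKK, hKKc, hmain⟩ := S3073.result r hr2 (P : Subgroup K) P.2
  rw [hmain K P (MulEquiv.refl _)]
  set Y₁ : Subgroup K := ((KK.comap ((MulEquiv.refl (P : Subgroup K)) : (P : Subgroup K) →* (P : Subgroup K))).map
    (P : Subgroup K).subtype) with hY₁
  have hY₁' : Y₁ = KK.map (P : Subgroup K).subtype := rfl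
  set Y := Y₁.map K.subtype with hY
  have hYS : Y ≤ S r := by
    rw [← hP]
    exact Subgroup.map_mono (Subgroup.map_subtype_le _)
  have hYK : Y ≤ K := hYS.trans (h.SK r hr)
  -- `Y` is invariant
  have hAY : A ≤ normalizer (Y : Set X) := by
    intro a ha
    have haK : a ∈ normalizer (K : Set X) := h.nK ha
    have haS : a ∈ normalizer (S r : Set X) := h.SA r hr ha
    have hmem : ∀ z : (P : Subgroup K), a * ((z : K) : X) * a⁻¹ ∈ S r := fun z =>
      (Subgroup.mem_normalizer_iff.mp haS _).mp (by rw [← hP]; exact ⟨z, z.2, rfl⟩)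
    have hmem' : ∀ z : (P : Subgroup K), a⁻¹ * ((z : K) : X) * a ∈ S r := fun z =>
      (Subgroup.mem_normalizer_iff''.mp haS _).mp (by rw [← hP]; exact ⟨z, z.2, rfl⟩)
    have hlift : ∀ x : X, x ∈ S r → ∃ w : (P : Subgroup K), ((w : K) : X) = x := by
      intro x hx
      rw [← hP] at hx
      obtain ⟨w, hw, hwx⟩ := hx
      exact ⟨⟨w, hw⟩, hwx⟩
    choose f hf using fun z : (P : Subgroup K) => hlift _ (hmem z)
    choose g hg using fun z : (P : Subgroup K) => hlift _ (hmem' z)
    let σ : MulAut (P : Subgroup K) :=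
      { toFun := f
        invFun := g
        left_inv := by
          intro z
          apply Subtype.ext; apply Subtype.ext
          rw [hg, hf]; group
        right_inv := by
          intro z
          apply Subtype.ext; apply Subtype.ext
          rw [hf, hg]; group
        map_mul' := by
          intro z w
          apply Subtype.ext; apply Subtype.ext
          rw [hf, Subgroup.coe_mul, Subgroup.coe_mul, Subgroup.coe_mul, Subgroup.coe_mul, hf, hf]; group }
    apply Basic.mem_normalizer_of_cj_le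
    intro y hy
    rw [Basic.mem_cj] at hy
    obtain ⟨z', ⟨z, hz, rfl⟩, hzy⟩ := hy
    refine ⟨((σ z : (P : Subgroup K)) : K), ⟨σ z, ?_, rfl⟩, ?_⟩
    · have h3 := Subgroup.characteristic_iff_map_eq.mp hKK σ
      show σ z ∈ KK
      rw [← h3]
      exact ⟨z, hz, rfl⟩
    · have h4 : ((z : K) : X) = a⁻¹ * y * a := hzy
      show ((f z : K) : X) = y
      rw [hf, h4]; group
  set N := K ⊓ normalizer (Y : Set X) with hN
  have hAN : A ≤ normalizer (N : Set X) := Basic.le_normalizer_inf h.nK (Basic.le_normalizer_normalizer hAY)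
  set C := N ⊓ centralizer (Y : Set X) with hC
  have hCN : N ≤ normalizer (C : Set X) := Basic.le_normalizer_inf Subgroup.le_normalizer
    (Basic.le_normalizer_centralizer inf_le_right)
  have hparts : ∀ s : ℕ, s.Prime → s ≠ r → N ⊓ S s ≤ C := by
    intro s hs hsr
    apply le_inf inf_le_left
    have hNS : N ⊓ S s ≤ K := inf_le_left.trans inf_le_left
    apply h.gen hNS (Basic.le_normalizer_inf hAN (h.SA s hs))
    intro a ha ha1
    set T := N ⊓ S s ⊓ centralizer ({a} : Set X) with hT
    have hTK : T ≤ K := inf_le_left.trans hNS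
    have hgo : ∀ d ∈ A, d ∉ zpowers a → S r ⊓ centralizer ({d} : Set X) = ⊥ → T ≤ centralizer (Y : Set X) := by
      intro d hd hda hdb
      apply h.fpf_comm hYK hTK hAY
        (Basic.le_normalizer_inf (Basic.le_normalizer_inf hAN (h.SA s hs)) (h.nC ha))
        ((inf_le_left.trans inf_le_left).trans inf_le_right)
        (cop_of_pgroup hr hs (fun h => hsr h.symm) ((h.Sp r hr).to_le hYS) ((h.Sp s hs).to_le (inf_le_left.trans inf_le_right)))
        hd (le_bot_iff.mp ((inf_le_inf_right _ hYS).trans hdb.le))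
      exact h.other ha ha1 hd hda hTK inf_le_right
    rcases h.not_both ha hc1 hcc with h3 | h3
    · exact hgo c hc h3 h1
    · exact hgo c' hc' h3 h2
  have hCn : (C.subgroupOf N).Normal := H12.Core.normal_subgroupOf_of_le hCN
  have hquot : IsPGroup r (N ⧸ C.subgroupOf N) := by
    have h3 : ∀ {d : ℕ}, d.Prime → d ∣ C.relIndex N → d = r := by
      intro d hd hdd
      by_contra hne
      exact h.inf_relIndex inf_le_left hAN hd (hdd.trans (Subgroup.relIndex_dvd_of_le_left N (hparts d hd hne)))
    have h5 : C.relIndex N ≠ 0 := by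
      intro h6
      have h7 := Subgroup.relIndex_dvd_card C N
      rw [h6, zero_dvd_iff] at h7
      exact Nat.card_pos.ne' h7
    have h4 := Nat.eq_prime_pow_of_unique_prime_dvd h5 h3
    apply IsPGroup.of_card (n := (C.relIndex N).primeFactorsList.length)
    rw [← h4, Subgroup.relIndex, Subgroup.index_eq_card]
  intro g hg hgo
  have hgY : (g : X) ∈ normalizer (Y : Set X) := by
    apply Basic.mem_normalizer_of_cj_le
    intro y hy
    rw [Basic.mem_cj] at hy
    obtain ⟨z, hz, hzy⟩ := hy
    refine ⟨g * z * g⁻¹, (Subgroup.mem_normalizer_iff.mp hg z).mp hz, ?_⟩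
    show (g : X) * (z : X) * (g : X)⁻¹ = y
    have h4 : (z : X) = (g : X)⁻¹ * y * g := hzy
    rw [h4]; group
  have hgN : (g : X) ∈ N := ⟨g.2, hgY⟩
  have hgC : (⟨(g : X), hgN⟩ : N) ∈ C.subgroupOf N := by
    rw [← QuotientGroup.eq_one_iff]
    obtain ⟨n, hn⟩ := hquot (QuotientGroup.mk (⟨(g : X), hgN⟩ : N))
    refine H18.NPC.eq_one_of_coprime (Nat.Coprime.pow_right n hgo) ?_ hn
    rw [← QuotientGroup.mk_pow]
    have h5 : (⟨(g : X), hgN⟩ : N) ^ orderOf g = 1 := by
      apply Subtype.ext
      have h6 : ((g ^ orderOf g : K) : X) = 1 := by rw [pow_orderOf_eq_one]; rfl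
      rw [Subgroup.coe_pow] at h6
      exact h6
    rw [h5]; rfl
  have hgC' : (g : X) ∈ centralizer (Y : Set X) := hgC.2
  rw [mem_centralizer_iff]
  intro y hy
  apply Subtype.ext
  exact mem_centralizer_iff.mp hgC' (y : X) ⟨y, hy, rfl⟩

end Cfsg.Agent.H22.QQ
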