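import Cfsg.Agent.H22_QQ6
import Cfsg.Agent.S0021

/-!
Fixed-point-free action of an elementary abelian group of order `q²`: any two invariant Sylow subgroups permute.
-/

set_option autoImplicit false
set_option linter.unusedSectionVars false

namespace Cfsg.Agent.H22.QQ

open Subgroup Cfsg
open scoped commutatorElement Pointwise
open Cfsg.Agent.H22.Ward (EA coprime_of_le)
open Cfsg.Agent.H22.Basic (cj)
open Cfsg.Agent.H12.Core (PiNum)

universe u

variable {X : Type u} [Group X] [Finite X] {q : ℕ} [hq : Fact q.Prime]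
variable {K A : Subgroup X} {S : ℕ → Subgroup X} {p r : ℕ}

theorem PR_of_pr (hp : p.Prime) (hr : r.Prime) {U V : Subgroup X} (hU : IsPGroup p U) (hV : IsPGroup r V)
    (hUK : U ≤ K) (hVK : V ≤ K) (hAU : A ≤ normalizer (U : Set X)) (hAV : A ≤ normalizer (V : Set X))
    (hUV : U ≤ normalizer (V : Set X)) : PR K A p r (U ⊔ V) := by
  have hpf : Fact p.Prime := ⟨hp⟩
  have hrf : Fact r.Prime := ⟨hr⟩
  refine ⟨sup_le hUK hVK, Basic.le_normalizer_sup hAU hAV, ?_⟩
  apply H12.Core.piNum_sup hUV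
  · obtain ⟨j, hj⟩ := IsPGroup.iff_card.mp hU
    rw [hj]
    exact H12.Core.piNum_of_pow hp (Or.inl rfl)
  · obtain ⟨j, hj⟩ := IsPGroup.iff_card.mp hV
    rw [hj]
    exact H12.Core.piNum_of_pow hr (Or.inr rfl)

theorem Cfg.ab_dich (h : Cfg q K A S) (t : Two K A S p r) {a : X} (ha : a ∈ A) (ha1 : a ≠ 1) :
    S r ⊓ centralizer ({a} : Set X) ≤ normalizer (S p : Set X) ∨
      S p ⊓ centralizer ({a} : Set X) ≤ normalizer (S r : Set X) := by
  have hH : PR K A p r ((S p ⊓ centralizer ({a} : Set X)) ⊔ (S r ⊓ centralizer ({a} : Set X))) := by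
    apply PR_of_pr t.hp t.hr ((h.Sp p t.hp).to_le inf_le_left) ((h.Sp r t.hr).to_le inf_le_left)
      (inf_le_left.trans (h.SK p t.hp)) (inf_le_left.trans (h.SK r t.hr))
      (Basic.le_normalizer_inf (h.SA p t.hp) (h.nC ha)) (Basic.le_normalizer_inf (h.SA r t.hr) (h.nC ha))
    apply H1.Coprime.le_normalizer_of_le_centralizer
    intro x hx
    rw [mem_centralizer_iff]
    intro y hy
    exact h.ab a ha ha1 y (h.SK r t.hr hy.1) x (h.SK p t.hp hx.1) (mem_centralizer_singleton_iff.mp hy.2)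
      (mem_centralizer_singleton_iff.mp hx.2)
  rcases h.dich' t hH with h1 | h1
  · exact Or.inl (le_sup_right.trans h1)
  · exact Or.inr (le_sup_left.trans h1)

theorem Cfg.step1 (h : Cfg q K A S) (t : Two K A S p r) {c : X} (hc : c ∈ A) (hc1 : c ≠ 1)
    (hT : S r ⊓ normalizer (S p : Set X) ⊓ centralizer ({c} : Set X) ≠ ⊥) {a : X} (ha : a ∈ A) (ha1 : a ≠ 1)
    (hac : a ∉ zpowers c) : S r ⊓ centralizer ({a} : Set X) ≤ normalizer (S p : Set X) := by
  have hpf : Fact p.Prime := ⟨t.hp⟩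
  rcases h.ab_dich t ha ha1 with h1 | h1
  · exact h1
  exfalso
  apply hT
  set T := S r ⊓ normalizer (S p : Set X) ⊓ centralizer ({c} : Set X) with hTdef
  have hTS : T ≤ S r := inf_le_left.trans inf_le_left
  have hTn : T ≤ normalizer (S p : Set X) := inf_le_left.trans inf_le_right
  have hAT : A ≤ normalizer (T : Set X) := Basic.le_normalizer_inf
    (Basic.le_normalizer_inf (h.SA r t.hr) (Basic.le_normalizer_normalizer (h.SA p t.hp))) (h.nC hc)
  apply h.faith t hTS hAT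
  apply h.lemE (h.SK p t.hp) (hTS.trans (h.SK r t.hr)) (h.SA p t.hp) hAT hTn (h.Sp p t.hp).isNilpotent
    (solv_of_pgroup t.hp (h.Sp p t.hp))
    (cop_of_pgroup t.hp t.hr t.ne (h.Sp p t.hp) ((h.Sp r t.hr).to_le hTS)) ha
  · exact comm_of_inf (U := S r) (V := S p) (inf_bot_of_pgroup t.hr t.hp t.ne.symm (h.Sp r t.hr) (h.Sp p t.hp))
      h1 hTS hTn inf_le_left
  · exact h.other hc hc1 ha hac (hTS.trans (h.SK r t.hr)) inf_le_right

theorem Cfg.S_ne_bot (h : Cfg q K A S) (t : Two K A S p r) : S p ≠ ⊥ := by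
  intro h1
  have hrf : Fact r.Prime := ⟨t.hr⟩
  have hPRr : PR K A p r (S r) := ⟨h.SK r t.hr, h.SA r t.hr, by
    obtain ⟨j, hj⟩ := IsPGroup.iff_card.mp (h.Sp r t.hr)
    rw [hj]
    exact H12.Core.piNum_of_pow t.hr (Or.inr rfl)⟩
  exact t.hno _ hPRr (by rw [h1]; exact bot_le) le_rfl

theorem Cfg.stepc (h : Cfg q K A S) (t : Two K A S p r) : S r ⊓ normalizer (S p : Set X) = ⊥ := by
  by_contra hR
  set R := S r ⊓ normalizer (S p : Set X) with hRdef
  have hRK : R ≤ K := inf_le_left.trans (h.SK r t.hr)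
  have hAR : A ≤ normalizer (R : Set X) :=
    Basic.le_normalizer_inf (h.SA r t.hr) (Basic.le_normalizer_normalizer (h.SA p t.hp))
  obtain ⟨c, hc, hc1, hcR⟩ : ∃ c ∈ A, c ≠ 1 ∧ R ⊓ centralizer ({c} : Set X) ≠ ⊥ := by
    by_contra hne
    push Not at hne
    apply hR
    rw [eq_bot_iff]
    apply h.gen hRK hAR
    intro b hb hb1
    rw [hne b hb hb1]
  by_cases hx : ∃ a ∈ A, a ∉ zpowers c ∧ S r ⊓ centralizer ({a} : Set X) ≠ ⊥
  · obtain ⟨a, ha, hac, haR⟩ := hx
    have ha1 : a ≠ 1 := by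
      rintro rfl
      exact hac (one_mem _)
    have h1 := h.step1 t hc hc1 hcR ha ha1 hac
    have h2 : R ⊓ centralizer ({a} : Set X) ≠ ⊥ := by
      have h3 : S r ⊓ centralizer ({a} : Set X) ≤ R ⊓ centralizer ({a} : Set X) :=
        le_inf (le_inf inf_le_left h1) inf_le_right
      intro h4
      exact haR (le_bot_iff.mp (h3.trans h4.le))
    have h3 : S r ≤ normalizer (S p : Set X) := by
      apply h.gen (h.SK r t.hr) (h.SA r t.hr)
      intro b hb hb1
      by_cases hba : b ∈ zpowers a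
      · rw [← h.cent_eq ha hba hb1]; exact h1
      · exact h.step1 t ha ha1 h2 hb hb1 hba
    have h4 := (PR_of_pr t.hr t.hp (h.Sp r t.hr) (h.Sp p t.hp) (h.SK r t.hr) (h.SK p t.hp) (h.SA r t.hr) (h.SA p t.hp) h3).symm
    exact t.hno _ h4 le_sup_right le_sup_left
  · push Not at hx
    apply h.notCent t.hr (h.S_ne_bot t.symm) hc hc1
    apply h.gen (h.SK r t.hr) (h.SA r t.hr)
    intro b hb hb1
    by_cases hbc : b ∈ zpowers c
    · rw [← h.cent_eq hc hbc hb1]; exact inf_le_right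
    · rw [hx b hb hbc]; exact bot_le

theorem Cfg.final_aux (h : Cfg q K A S) (t : Two K A S p r) (hr2 : r ≠ 2) : False := by
  have h1 := h.stepc t
  have h2 := h.stepc t.symm
  have hd : ∀ a ∈ A, a ≠ 1 → S p ⊓ centralizer ({a} : Set X) ≠ ⊥ → S r ⊓ centralizer ({a} : Set X) = ⊥ := by
    intro a ha ha1 hne
    rcases h.ab_dich t ha ha1 with h3 | h3
    · exact le_bot_iff.mp ((le_inf inf_le_left h3).trans h1.le)
    · exact absurd (le_bot_iff.mp ((le_inf inf_le_left h3).trans h2.le)) hne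
  obtain ⟨c, hc, hc1, hcR⟩ : ∃ c ∈ A, c ≠ 1 ∧ S p ⊓ centralizer ({c} : Set X) ≠ ⊥ := by
    by_contra hne
    push Not at hne
    apply h.S_ne_bot t
    rw [eq_bot_iff]
    apply h.gen (h.SK p t.hp) (h.SA p t.hp)
    intro b hb hb1
    rw [hne b hb hb1]
  obtain ⟨a, ha, ha1, haR⟩ : ∃ a ∈ A, a ≠ 1 ∧ ¬ S p ⊓ centralizer ({a} : Set X) ≤ centralizer ({c} : Set X) := by
    by_contra hne
    push Not at hne
    apply h.notCent t.hp (h.S_ne_bot t) hc hc1
    exact h.gen (h.SK p t.hp) (h.SA p t.hp) hne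
  have hac : a ∉ zpowers c := by
    intro h3
    apply haR
    rw [h.cent_eq hc h3 ha1]
    exact inf_le_right
  refine h.th t.hr hr2 (h.S_ne_bot t.symm) hc hc1 ha hac (hd c hc hc1 hcR) (hd a ha ha1 ?_)
  intro h3
  apply haR
  rw [h3]; exact bot_le

theorem Cfg.final (h : Cfg q K A S) (t : Two K A S p r) : False := by
  by_cases hr2 : r = 2
  · exact h.final_aux t.symm (by rw [← hr2]; exact t.ne)
  · exact h.final_aux t hr2

theorem Cfg.exists_PR (h : Cfg q K A S) (hp : p.Prime) (hr : r.Prime) (hpr : p ≠ r) :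
    ∃ H, PR K A p r H ∧ S p ≤ H ∧ S r ≤ H := by
  by_contra hne
  push Not at hne
  exact h.final ⟨hp, hr, hpr, hne⟩

/-- arithmetic -/
theorem arith {P R i j n : ℕ} (hp : p.Prime) (hr : r.Prime) (_hn : n ≠ 0) (hpi : PiNum {p, r} n) (h1 : P * i = n) (h2 : R * j = n)
    (hi : ¬ p ∣ i) (hj : ¬ r ∣ j) (hc : P.Coprime R) : n = P * R := by
  have hij : i.Coprime j := by
    apply Nat.Coprime.symm
    rw [Nat.coprime_iff_gcd_eq_one]
    by_contra hne
    obtain ⟨d, hd, hdd⟩ := Nat.exists_prime_and_dvd hne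
    have h3 : d ∣ j := hdd.trans (Nat.gcd_dvd_left _ _)
    have h4 : d ∣ i := hdd.trans (Nat.gcd_dvd_right _ _)
    rcases hpi d hd (by rw [← h1]; exact Dvd.dvd.mul_left h4 _) with h5 | h5
    · subst h5; exact hi h4
    · have h6 : d = r := h5
      subst h6; exact hj h3
  have h3 : i ∣ R := by
    have h4 : i ∣ R * j := by rw [h2, ← h1]; exact Dvd.intro_left _ rfl
    exact hij.dvd_of_dvd_mul_right h4
  have h4 : R ∣ i := by
    have h5 : R ∣ P * i := by rw [h1, ← h2]; exact Dvd.intro _ rfl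
    exact hc.symm.dvd_of_dvd_mul_left h5
  have h5 : i = R := Nat.dvd_antisymm h3 h4
  rw [← h1, h5]

theorem Cfg.absurd (h : Cfg q K A S) : False := by
  apply h.nsol
  choose P hP using fun p : Nat.Primes => h.exists_sylow p.2
  apply S0021.result P
  intro p r
  by_cases hpr : (p : ℕ) = r
  · have : p = r := Subtype.ext hpr
    subst this; rfl
  have hpf : Fact (p : ℕ).Prime := ⟨p.2⟩
  have hrf : Fact (r : ℕ).Prime := ⟨r.2⟩
  obtain ⟨H, hH, hHp, hHr⟩ := h.exists_PR p.2 r.2 hpr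
  set H' := H.subgroupOf K with hH'
  have hP' : (P p : Subgroup K) ≤ H' := by
    rw [hH', Subgroup.subgroupOf, ← Subgroup.map_le_iff_le_comap, hP]; exact hHp
  have hR' : (P r : Subgroup K) ≤ H' := by
    rw [hH', Subgroup.subgroupOf, ← Subgroup.map_le_iff_le_comap, hP]; exact hHr
  have hcP : Nat.card (P p) = Nat.card (S p) := by
    rw [← hP, Subgroup.card_map_of_injective K.subtype_injective]
  have hcR : Nat.card (P r) = Nat.card (S r) := by
    rw [← hP, Subgroup.card_map_of_injective K.subtype_injective]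
  have hcop : (Nat.card (P p)).Coprime (Nat.card (P r)) := by
    rw [hcP, hcR]
    exact cop_of_pgroup p.2 r.2 hpr (h.Sp p p.2) (h.Sp r r.2)
  have hcard : Nat.card H' = Nat.card (P p) * Nat.card (P r) := by
    rw [Basic.card_subgroupOf_eq hH.le, hcP, hcR]
    apply arith p.2 r.2 Nat.card_pos.ne' hH.pi (Basic.card_mul_relIndex hHp) (Basic.card_mul_relIndex hHr)
    · intro h1
      apply h.Si p p.2
      rw [← Subgroup.relIndex_mul_relIndex (S p) H K hHp hH.le]
      exact Dvd.dvd.mul_right h1 _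
    · intro h1
      apply h.Si r r.2
      rw [← Subgroup.relIndex_mul_relIndex (S r) H K hHr hH.le]
      exact Dvd.dvd.mul_right h1 _
    · rw [← hcP, ← hcR]; exact hcop
  have key : ∀ U V : Subgroup K, U ≤ H' → V ≤ H' → Nat.card H' = Nat.card U * Nat.card V → U ⊓ V = ⊥ →
      ((U : Set K) * (V : Set K)) = (H' : Set K) := by
    intro U V hU hV hc hUV
    apply Set.eq_of_subset_of_ncard_le
    · rintro _ ⟨u, hu, v, hv, rfl⟩
      exact H'.mul_mem (hU hu) (hV hv)
    · have h1 : Set.ncard ((U : Set K) * (V : Set K)) = Nat.card U * Nat.card V := by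
        have h2 : (Set.range (fun x : U × V => (x.1 : K) * (x.2 : K))) = (U : Set K) * (V : Set K) := by
          ext y
          constructor
          · rintro ⟨⟨u, v⟩, rfl⟩
            exact ⟨u, u.2, v, v.2, rfl⟩
          · rintro ⟨u, hu, v, hv, rfl⟩
            exact ⟨⟨⟨u, hu⟩, ⟨v, hv⟩⟩, rfl⟩
        have h3 : Function.Injective (fun x : U × V => (x.1 : K) * (x.2 : K)) := Subgroup.mul_injective_of_disjoint (disjoint_iff.mpr hUV)
        rw [← h2, ← Set.image_univ, Set.ncard_image_of_injective _ h3, Set.ncard_univ, Nat.card_prod]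
      rw [h1, ← hc]
      exact (Nat.card_coe_set_eq (H' : Set K)).ge
    · exact Set.toFinite _
  have hinf : (P p : Subgroup K) ⊓ (P r : Subgroup K) = ⊥ := Basic.inf_eq_bot_of_coprime hcop
  have h1 := key _ _ hP' hR' hcard hinf
  have h2 := key _ _ hR' hP' (by rw [hcard, mul_comm]) (by rw [inf_comm]; exact hinf)
  exact h1.trans h2.symm

end Cfsg.Agent.H22.QQ
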