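import Cfsg.Agent.H22_QQ7

/-!
Elementary abelian group of order `q²` acting with abelian centralizers: solvability.
-/

set_option autoImplicit false
set_option linter.unusedSectionVars false

namespace Cfsg.Agent.H22.QQ

open Subgroup Cfsg
open scoped commutatorElement Pointwise
open Cfsg.Agent.H22.Ward (EA coprime_of_le)

universe u

/-- abelian centralizers -/
def AB {X : Type u} [Group X] (K A : Subgroup X) : Prop :=
  ∀ a ∈ A, a ≠ 1 → ∀ x ∈ K, ∀ y ∈ K, x * a = a * x → y * a = a * y → x * y = y * x

theorem quot_hyp {q : ℕ} [hq : Fact q.Prime] {X : Type u} [Group X] [Finite X] {K A N : Subgroup X} (hK : K.Normal)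
    (hA : EA q A) (htop : K ⊔ A = ⊤) (hcop : (Nat.card A).Coprime (Nat.card K)) (hab : AB K A) (hN : N.Normal)
    (hNK : N ≤ K) :
    (K.map (QuotientGroup.mk' N)).Normal ∧ EA q (A.map (QuotientGroup.mk' N)) ∧
      K.map (QuotientGroup.mk' N) ⊔ A.map (QuotientGroup.mk' N) = ⊤ ∧
      (Nat.card (A.map (QuotientGroup.mk' N))).Coprime (Nat.card (K.map (QuotientGroup.mk' N))) ∧
      AB (K.map (QuotientGroup.mk' N)) (A.map (QuotientGroup.mk' N)) := by
  have hAN : A ⊓ N = ⊥ := Basic.inf_eq_bot_of_coprime (coprime_of_le hNK hcop)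
  set π := QuotientGroup.mk' N with hπ
  have hπs : Function.Surjective π := QuotientGroup.mk'_surjective N
  have hker : ∀ x : X, π x = 1 ↔ x ∈ N := fun x => QuotientGroup.eq_one_iff x
  have hAcard : Nat.card (A.map π) = Nat.card A := by
    have hinj : Function.Injective (π.comp A.subtype) := by
      rw [injective_iff_map_eq_one]
      intro a ha
      have h1 : (a : X) ∈ A ⊓ N := ⟨a.2, (hker _).mp ha⟩
      rw [hAN] at h1
      exact Subtype.ext (Subgroup.mem_bot.mp h1)
    have h1 : (π.comp A.subtype).range = A.map π := by rw [MonoidHom.range_comp, Subgroup.range_subtype]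
    rw [← h1]
    exact (Nat.card_congr (MonoidHom.ofInjective hinj).toEquiv).symm
  refine ⟨hK.map π hπs, ⟨?_, ?_, by rw [hAcard, hA.card]⟩, ?_, ?_, ?_⟩
  · rintro _ ⟨a, ha, rfl⟩ _ ⟨b, hb, rfl⟩
    rw [← map_mul, ← map_mul, hA.comm a ha b hb]
  · rintro _ ⟨a, ha, rfl⟩
    rw [← map_pow, hA.pow a ha, map_one]
  · rw [← Subgroup.map_sup, htop, ← MonoidHom.range_eq_map, MonoidHom.range_eq_top]
    exact hπs
  · rw [hAcard]
    exact Nat.Coprime.coprime_dvd_right (Subgroup.card_map_dvd _ _) hcop
  · rintro _ ⟨a, ha, rfl⟩ ha1 _ ⟨x, hx, rfl⟩ _ ⟨y, hy, rfl⟩ hxa hya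
    have hzb : zpowers a ≤ A := by rwa [Subgroup.zpowers_le]
    have hzs : Group.IsSolvable (zpowers a) := Group.isSolvable_of_comm (fun x y => Subtype.ext (hA.comm x (hzb x.2) y (hzb y.2)))
    have hlift : ∀ z ∈ K, π z * π a = π a * π z → ∃ c ∈ K, c * a = a * c ∧ π c = π z := by
      intro z hz hza
      obtain ⟨c, ⟨hcK, hcc⟩, hc⟩ := H1.Coprime.fixed_points_quotient (zpowers a) K (by rw [Subgroup.normalizer_eq_top]; exact le_top)
        (Nat.Coprime.coprime_dvd_left (Subgroup.card_dvd_of_le hzb) hcop) (Or.inl hzs) N hNK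
        (by rw [Subgroup.normalizer_eq_top]; exact le_top) (by rw [Subgroup.normalizer_eq_top]; exact le_top) z hz (by
        intro b hb
        rw [← hker, map_mul, map_mul, map_mul, map_inv, map_inv]
        obtain ⟨i, rfl⟩ := mem_zpowers_iff.mp hb
        have h1 : π z * π (a ^ i) = π (a ^ i) * π z := by
          rw [map_zpow]
          exact (Commute.zpow_right (show Commute (π z) (π a) from hza) i).eq
        rw [← h1]; group)
      refine ⟨c, hcK, (mem_centralizer_iff.mp hcc a (mem_zpowers a)).symm, ?_⟩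
      have h2 := (hker _).mpr hc
      rw [map_mul, map_inv, inv_mul_eq_one] at h2
      exact h2.symm
    obtain ⟨c, hc, hca, hcx⟩ := hlift x hx hxa
    obtain ⟨d, hd, hda, hdy⟩ := hlift y hy hya
    have ha1' : a ≠ 1 := by
      rintro rfl
      exact ha1 (map_one π)
    rw [← hcx, ← hdy, ← map_mul, ← map_mul, hab a ha ha1' c hc d hd hca hda]

theorem main (q : ℕ) [hq : Fact q.Prime] : ∀ (n : ℕ) (X : Type u) [Group X] [Finite X] (K A : Subgroup X),
    K.Normal → EA q A → K ⊔ A = ⊤ → (Nat.card A).Coprime (Nat.card K) → AB K A → Nat.card K = n →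
    Group.IsSolvable K := by
  intro n
  induction n using Nat.strong_induction_on with
  | _ n ih =>
  intro X _ _ K A hK hA htop hcop hab hn
  subst hn
  by_contra hns
  have hnK : ∀ L : Subgroup X, L ≤ normalizer (K : Set X) := by
    intro L; rw [Subgroup.normalizer_eq_top]; exact le_top
  have hsub : ∀ H ≤ K, A ≤ normalizer (H : Set X) → H ≠ K → Group.IsSolvable H := by
    intro H hHK hAH hne
    set L := H ⊔ A with hL
    have hHL : H ≤ L := le_sup_left
    have hAL : A ≤ L := le_sup_right
    have hLn : L ≤ normalizer (H : Set X) := sup_le Subgroup.le_normalizer hAH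
    set K' := H.subgroupOf L with hK'
    set A' := A.subgroupOf L with hA'
    have hK'n : K'.Normal := H12.Core.normal_subgroupOf_of_le hLn
    have hcK' : Nat.card K' = Nat.card H := Basic.card_subgroupOf_eq hHL
    have hcA' : Nat.card A' = Nat.card A := Basic.card_subgroupOf_eq hAL
    have hEA : EA q A' := by
      refine ⟨?_, ?_, ?_⟩
      · intro a ha b hb
        exact Subtype.ext (hA.comm a ha b hb)
      · intro a ha
        exact Subtype.ext (hA.pow a ha)
      · rw [hcA', hA.card]
    have htop' : K' ⊔ A' = ⊤ := by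
      apply Subgroup.map_injective L.subtype_injective
      rw [Subgroup.map_sup, hK', hA', Basic.map_subtype_subgroupOf hHL, Basic.map_subtype_subgroupOf hAL,
        ← MonoidHom.range_eq_map, Subgroup.range_subtype]
    have hab' : AB K' A' := by
      intro a ha ha1 x hx y hy hxa hya
      apply Subtype.ext
      exact hab a ha (fun h => ha1 (Subtype.ext h)) x (hHK hx) y (hHK hy) (congrArg Subtype.val hxa) (congrArg Subtype.val hya)
    have hlt : Nat.card K' < Nat.card K := by
      rw [hcK']
      exact Basic.card_lt_of_lt (lt_of_le_of_ne hHK hne)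
    have h1 := ih _ hlt L K' A' hK'n hEA htop' (by rw [hcA', hcK']; exact coprime_of_le hHK hcop) hab' rfl
    exact Group.isSolvable_of_isSolvable_injective (f := (Subgroup.subgroupOfEquivOfLe hHL).symm.toMonoidHom)
      (Subgroup.subgroupOfEquivOfLe hHL).symm.injective
  have hsimp : ∀ N ≤ K, K ≤ normalizer (N : Set X) → A ≤ normalizer (N : Set X) → N = ⊥ ∨ N = K := by
    intro N hNK hKN hANN
    by_contra hne
    push Not at hne
    have hN : N.Normal := by
      rw [← Subgroup.normalizer_eq_top_iff, eq_top_iff, ← htop]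
      exact sup_le hKN hANN
    obtain ⟨h1, h2, h3, h4, h5⟩ := quot_hyp hK hA htop hcop hab hN hNK
    set π := QuotientGroup.mk' N with hπ
    have hlt : Nat.card (K.map π) < Nat.card K := by
      have hcomap : (K.map π).comap π = K := by
        rw [Subgroup.comap_map_eq, QuotientGroup.ker_mk', sup_eq_left.mpr hNK]
      have hcard : Nat.card K = Nat.card (K.map π) * Nat.card N := by
        conv_lhs => rw [← hcomap]
        exact H1.Hall.card_comap_mk N _
      rw [hcard]
      have h1 : 1 < Nat.card N := Subgroup.one_lt_card_iff_ne_bot N |>.mpr hne.1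
      have h2 : 0 < Nat.card (K.map π) := Nat.card_pos
      nlinarith
    have h6 := ih _ hlt (X ⧸ N) (K.map π) (A.map π) h1 h2 h3 h4 h5 rfl
    have h7 := hsub N hNK hANN hne.2
    apply hns
    refine Group.isSolvable_of_ker_le_range (Subgroup.inclusion hNK) (π.subgroupMap K) ?_
    intro x hx
    rw [MonoidHom.mem_ker] at hx
    have h8 : π (x : X) = 1 := congrArg Subtype.val hx
    have h9 : (x : X) ∈ N := (QuotientGroup.eq_one_iff _).mp h8
    exact ⟨⟨x, h9⟩, Subtype.ext rfl⟩
  have hfix : K ⊓ centralizer (A : Set X) = ⊥ := by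
    set Z := K ⊓ centralizer (A : Set X) with hZ
    have hKZ : K ≤ centralizer (Z : Set X) := by
      apply hA.gen (hnK A) hcop
      intro b hb hb1 x hx
      rw [mem_centralizer_iff]
      intro z hz
      exact hab b hb hb1 z hz.1 x hx.1 (mem_centralizer_iff.mp hz.2 b hb).symm (mem_centralizer_singleton_iff.mp hx.2)
    have hAZ : A ≤ centralizer (Z : Set X) := by
      rw [Subgroup.le_centralizer_iff]; exact inf_le_right
    rcases hsimp Z inf_le_left (H1.Coprime.le_normalizer_of_le_centralizer hKZ)
      (H1.Coprime.le_normalizer_of_le_centralizer hAZ) with h1 | h1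
    · exact h1
    · exfalso
      apply hns
      rw [h1] at hKZ
      exact Group.isSolvable_of_comm (fun x y => Subtype.ext (mem_centralizer_iff.mp (hKZ y.2) x x.2))
  obtain ⟨S, hS⟩ := exists_S hA (hnK A) hcop hfix
  have hcfg : Cfg q K A S :=
    { ea := hA
      nK := hnK A
      cop := hcop
      fix := hfix
      ab := hab
      sol := hsub
      simp := hsimp
      nsol := hns
      SK := fun p hp => (hS p hp).1
      SA := fun p hp => (hS p hp).2.1
      Sp := fun p hp => (hS p hp).2.2.1
      Si := fun p hp => (hS p hp).2.2.2.1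
      Sle := fun p hp => (hS p hp).2.2.2.2 }
  exact hcfg.absurd

end Cfsg.Agent.H22.QQ
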