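import Cfsg.Agent.H22_Basic
import Cfsg.Agent.H1_Coprime
import Cfsg.Agent.H1_Nilp

/-!
H22_Real: lifting elements through normal subgroups of coprime order; real elements; dihedral groups.
-/

set_option autoImplicit false
open Cfsg

namespace Cfsg.Agent.H22.Real

open Subgroup H22.Basic

variable {G : Type*} [Group G]

/-- two elements in the same coset of `N`, of the same order coprime to `|N|`, are conjugate under `N` -/
theorem conj_of_coset [Finite G] (N : Subgroup G) [N.Normal] (y z : G) (hord : orderOf z = orderOf y)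
    (hcop : (orderOf y).Coprime (Nat.card N)) (hyz : y⁻¹ * z ∈ N) : ∃ n ∈ N, n * y * n⁻¹ = z := by
  have hA : zpowers y ≤ normalizer (N : Set G) := by rw [Subgroup.normalizer_eq_top N]; exact le_top
  have hzm : z ∈ zpowers y ⊔ N := by
    have : z = y * (y⁻¹ * z) := by group
    rw [this]
    exact mul_mem (mem_sup_left (mem_zpowers y)) (mem_sup_right hyz)
  obtain ⟨n, hn, hconj⟩ := H1.Coprime.sz_internal hA (B := zpowers z) (zpowers_le.mpr hzm)
    (by rw [Nat.card_zpowers, Nat.card_zpowers, hord]) (by rw [Nat.card_zpowers]; exact hcop)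
    (Or.inl inferInstance)
  refine ⟨n, hn, ?_⟩
  have h1 : n * y * n⁻¹ ∈ zpowers z := by
    rw [← hconj]
    exact ⟨y, mem_zpowers y, rfl⟩
  -- w := n y n⁻¹, w⁻¹ z ∈ N ∩ zpowers z = ⊥
  have h2 : (n * y * n⁻¹)⁻¹ * z ∈ zpowers z := mul_mem (inv_mem h1) (mem_zpowers z)
  have h3 : (n * y * n⁻¹)⁻¹ * z ∈ N := by
    have : (n * y * n⁻¹)⁻¹ * z = n * (y⁻¹ * n⁻¹ * y) * (y⁻¹ * z) := by group
    rw [this]
    have h4 : y⁻¹ * n⁻¹ * y ∈ N := by
      have := ‹N.Normal›.conj_mem n⁻¹ (inv_mem hn) y⁻¹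
      rwa [inv_inv] at this
    exact mul_mem (mul_mem hn h4) hyz
  have h5 : N ⊓ zpowers z = ⊥ := by
    apply H22.Basic.inf_eq_bot_of_coprime
    rw [Nat.card_zpowers, hord]
    exact hcop.symm
  have h6 : (n * y * n⁻¹)⁻¹ * z ∈ (⊥ : Subgroup G) := by rw [← h5]; exact ⟨h3, h2⟩
  rw [Subgroup.mem_bot] at h6
  exact inv_mul_eq_one.mp h6

/-- a power of a lift of an element of order prime to `p` -/
theorem exists_lift [Finite G] {p : ℕ} [hp : Fact p.Prime] (N : Subgroup G) [N.Normal] (x : G ⧸ N) (hx : x ≠ 1)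
    (hxp : (orderOf x).Coprime p) : ∃ (y : G) (k : ℕ), QuotientGroup.mk' N y = x ^ k ∧ (orderOf y).Coprime p ∧ x ^ k ≠ 1 := by
  obtain ⟨g, rfl⟩ := QuotientGroup.mk'_surjective N x
  obtain ⟨a, m, hm, hn⟩ := Nat.exists_eq_pow_mul_and_not_dvd (orderOf_pos g).ne' p hp.out.ne_one
  refine ⟨g ^ p ^ a, p ^ a, by rw [map_pow], ?_, ?_⟩
  · rw [orderOf_pow' g (pow_ne_zero _ hp.out.ne_zero), hn, Nat.gcd_mul_right_left, Nat.mul_div_cancel_left _ (pow_pos hp.out.pos _)]
    exact ((Nat.Prime.coprime_iff_not_dvd hp.out).mpr hm).symm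
  · intro h
    apply hx
    have h1 : orderOf (QuotientGroup.mk' N g) ∣ p ^ a := orderOf_dvd_of_pow_eq_one h
    have h2 : orderOf (QuotientGroup.mk' N g) = 1 :=
      Nat.eq_one_of_dvd_coprimes (Nat.Coprime.pow_right a hxp) dvd_rfl h1
    rwa [orderOf_eq_one_iff] at h2

/-- real elements of order prime to `p` in `G/N`, `N` a `p`-group, lift to real elements -/
theorem real_lift [Finite G] {p : ℕ} [hp : Fact p.Prime] (N : Subgroup G) [N.Normal] (hN : IsPGroup p N) (x : G ⧸ N) (hx : x ≠ 1)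
    (hxp : (orderOf x).Coprime p) (hreal : IsConj x x⁻¹) : ∃ y : G, y ≠ 1 ∧ (orderOf y).Coprime p ∧ IsConj y y⁻¹ := by
  obtain ⟨y, k, hyk, hyp, hk⟩ := exists_lift N x hx hxp
  refine ⟨y, ?_, hyp, ?_⟩
  · rintro rfl
    rw [map_one] at hyk
    exact hk hyk.symm
  · obtain ⟨c, hc⟩ := isConj_iff.mp hreal
    obtain ⟨g, rfl⟩ := QuotientGroup.mk'_surjective N c
    have h1 : QuotientGroup.mk' N (g * y * g⁻¹) = QuotientGroup.mk' N y⁻¹ := by
      rw [map_mul, map_mul, map_inv, map_inv, hyk, ← conj_pow, hc, inv_pow]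
    have h2 : (g * y * g⁻¹)⁻¹ * y⁻¹ ∈ N := by
      rw [← QuotientGroup.eq]; exact h1
    have hordc : orderOf (g * y * g⁻¹) = orderOf y := orderOf_injective (MulAut.conj g).toMonoidHom (MulAut.conj g).injective y
    obtain ⟨j, hj⟩ := hN.exists_card_eq
    obtain ⟨n, _, hn⟩ := conj_of_coset N (g * y * g⁻¹) y⁻¹ (by rw [orderOf_inv, hordc])
      (by rw [hordc, hj]; exact Nat.Coprime.pow_right j hyp) h2
    rw [isConj_iff]
    refine ⟨n * g, ?_⟩
    rw [← hn]; group

/-- the group generated by two involutions whose product has `2`-power order is a `2`-group -/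
theorem two_group_of_involutions [Finite G] (s t : G) (hs : s ^ 2 = 1) (ht : t ^ 2 = 1) {k : ℕ}
    (h : orderOf (s * t) = 2 ^ k) : IsPGroup 2 (zpowers s ⊔ zpowers t : Subgroup G) := by
  have hs' : s⁻¹ = s := inv_eq_of_mul_eq_one_right (by rw [← sq]; exact hs)
  have ht' : t⁻¹ = t := inv_eq_of_mul_eq_one_right (by rw [← sq]; exact ht)
  set r := s * t with hr
  have hinv : t * r * t⁻¹ = r⁻¹ := by
    rw [hr, mul_inv_rev, hs', ht']
    calc t * (s * t) * t = t * s * (t ^ 2) := by rw [sq]; group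
      _ = t * s := by rw [ht, mul_one]
  have hle : zpowers s ⊔ zpowers t ≤ zpowers t ⊔ zpowers r := by
    refine sup_le (zpowers_le.mpr ?_) le_sup_left
    have : s = r * t⁻¹ := by rw [hr]; group
    rw [this]
    exact mul_mem (mem_sup_right (mem_zpowers r)) (inv_mem (mem_sup_left (mem_zpowers t)))
  have hnorm : zpowers t ≤ normalizer (zpowers r : Set G) := by
    rw [zpowers_le]
    apply mem_normalizer_of_cj_le
    rintro _ ⟨y, hy, rfl⟩
    obtain ⟨j, rfl⟩ := mem_zpowers_iff.mp hy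
    show t * r ^ j * t⁻¹ ∈ zpowers r
    rw [← conj_zpow, hinv]
    exact zpow_mem (inv_mem (mem_zpowers r)) j
  have hcard := H1.Basic.card_sup_mul_card_inf (H := zpowers t) (K := zpowers r) hnorm
  have ho : orderOf t ∣ 2 := orderOf_dvd_of_pow_eq_one ht
  have h1 : Nat.card (zpowers t ⊔ zpowers r : Subgroup G) ∣ 2 ^ (1 + k) := by
    have h2 : Nat.card (zpowers t ⊔ zpowers r : Subgroup G) ∣ Nat.card (zpowers t) * Nat.card (zpowers r) := by
      rw [← hcard]; exact dvd_mul_right _ _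
    refine h2.trans ?_
    rw [Nat.card_zpowers, Nat.card_zpowers, h, pow_add, pow_one]
    exact Nat.mul_dvd_mul_right ho _
  have h2 : Nat.card (zpowers s ⊔ zpowers t : Subgroup G) ∣ 2 ^ (1 + k) := (Subgroup.card_dvd_of_le hle).trans h1
  obtain ⟨j, _, hj⟩ := (Nat.dvd_prime_pow Nat.prime_two).mp h2
  exact IsPGroup.of_card hj

end Cfsg.Agent.H22.Real
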