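import Mathlib
import Cfsg.Agent.H22_RelMax3
import Cfsg.Agent.H2_Basic
import Cfsg.Agent.H2_Fusion4
import Cfsg.Agent.H2_ZJ2
import Cfsg.Agent.H18_ZJF

set_option autoImplicit false

namespace Cfsg.Agent.H22.RelMax

open Subgroup
open scoped commutatorElement Pointwise

variable {G : Type*} [Group G] [Finite G]
variable {N : Subgroup G} [hNn : N.Normal]

/-- Case II hypothesis -/
def TII (N : Subgroup G) : Prop := ∀ x ∈ N, x ∉ centralizer (N : Set G) → ∀ p : ℕ, p.Prime → (∃ j, x ^ (p ^ j) = 1) →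
  ∀ y ∈ N, ∀ q : ℕ, q.Prime → q ≠ p → (∃ j, y ^ (q ^ j) = 1) → x * y = y * x → y ∈ centralizer (N : Set G)

theorem pow_mem_cent (hT : TII N) {x : G} (hxN : x ∈ N) (hx : x ∉ centralizer (N : Set G)) {p : ℕ} (hp : p.Prime)
    (hxp : ∃ j, x ^ (p ^ j) = 1) {a : G} (haN : a ∈ N) (hax : x * a = a * x) :
    ∃ j, a ^ (p ^ j) ∈ centralizer (N : Set G) := by
  refine ⟨(orderOf a).factorization p, ?_⟩
  set b := a ^ (p ^ (orderOf a).factorization p) with hb
  have ho : ¬ p ∣ orderOf b := by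
    have h1 : orderOf b = orderOf a / p ^ (orderOf a).factorization p := by
      rw [hb]; exact orderOf_pow_of_dvd (pow_ne_zero _ hp.ne_zero) (Nat.ordProj_dvd _ _)
    rw [h1]
    exact Nat.not_dvd_ordCompl hp (orderOf_pos a).ne'
  apply mem_of_primary
  intro k r hr hj
  by_cases hrp : r = p
  · subst hrp
    have h1 : b ^ k = 1 := by
      rw [← orderOf_eq_one_iff]
      obtain ⟨j, hj⟩ := hj
      have h2 : orderOf (b ^ k) ∣ r ^ j := orderOf_dvd_of_pow_eq_one hj
      have h3 : orderOf (b ^ k) ∣ orderOf b := orderOf_pow_dvd k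
      have h4 : Nat.Coprime (r ^ j) (orderOf b) := Nat.Coprime.pow_left _ ((Nat.Prime.coprime_iff_not_dvd hr).mpr ho)
      exact Nat.eq_one_of_dvd_coprimes h4 h2 h3
    rw [h1]; exact one_mem _
  · refine hT x hxN hx p hp hxp _ (pow_mem (pow_mem haN _) _) r hr hrp hj ?_
    have h1 : Commute x a := hax
    exact ((h1.pow_right _).pow_right _)

theorem isPGroup_quot_nilp {p : ℕ} [hp : Fact p.Prime] (h : ∀ n ∈ N, ∃ j, n ^ (p ^ j) ∈ centralizer (N : Set G)) :
    Group.IsNilpotent N := by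
  have h1 : IsPGroup p (N ⧸ center N) := by
    intro z
    obtain ⟨n, rfl⟩ := QuotientGroup.mk'_surjective (center N) z
    obtain ⟨j, hj⟩ := h n n.2
    refine ⟨j, ?_⟩
    rw [← map_pow, ← MonoidHom.mem_ker, QuotientGroup.ker_mk', mem_center_iff']
    exact hj
  have h2 := h1.isNilpotent
  exact Group.of_quotient_center_nilpotent h2

/-- product of a `p`-group mod center with a normal one -/
theorem pow_mem_sup {p : ℕ} [hp : Fact p.Prime] {A V : Subgroup G} (hAN : A ≤ N) (hVN : V ≤ N) [hV : V.Normal]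
    (hA : ∀ a ∈ A, ∃ j, a ^ (p ^ j) ∈ centralizer (N : Set G)) (hVp : ∀ a ∈ V, ∃ j, a ^ (p ^ j) ∈ centralizer (N : Set G)) :
    ∀ a ∈ A ⊔ V, ∃ j, a ^ (p ^ j) ∈ centralizer (N : Set G) := by
  let Z := N ⊓ centralizer (N : Set G)
  have hZn : Z.Normal := inferInstance
  let π := QuotientGroup.mk' Z
  have hπ : ∀ g : G, π g = 1 ↔ g ∈ Z := by
    intro g
    rw [← MonoidHom.mem_ker, QuotientGroup.ker_mk']
  have hgr : ∀ B : Subgroup G, B ≤ N → (∀ a ∈ B, ∃ j, a ^ (p ^ j) ∈ centralizer (N : Set G)) → IsPGroup p (B.map π) := by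
    rintro B hB h ⟨_, b, hb, rfl⟩
    obtain ⟨j, hj⟩ := h b hb
    refine ⟨j, Subtype.ext ?_⟩
    show (π b) ^ (p ^ j) = 1
    rw [← map_pow, hπ]
    exact ⟨pow_mem (hB hb) _, hj⟩
  have h1 := hgr A hAN hA
  have h2 := hgr V hVN hVp
  have h3 : (V.map π).Normal := hV.map π (QuotientGroup.mk'_surjective Z)
  have h4 : IsPGroup p (A.map π ⊔ V.map π : Subgroup (G ⧸ Z)) := h1.to_sup_of_normal_right h2
  intro a ha
  have h5 : π a ∈ A.map π ⊔ V.map π := by rw [← Subgroup.map_sup]; exact ⟨a, ha, rfl⟩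
  obtain ⟨j, hj⟩ := h4 ⟨_, h5⟩
  refine ⟨j, ?_⟩
  have h6 : (π a) ^ (p ^ j) = 1 := congrArg Subtype.val hj
  rw [← map_pow, hπ] at h6
  exact h6.2

/-- a normal subgroup of `G` inside `N`, `p`-group mod center, is centralized by all noncentral `p`-elements -/
theorem normal_le (h : Hyp N) (hT : TII N) (hnn : ¬ Group.IsNilpotent N) {p : ℕ} [hp : Fact p.Prime] {V : Subgroup G}
    (hVN : V ≤ N) [hV : V.Normal] (hVp : ∀ a ∈ V, ∃ j, a ^ (p ^ j) ∈ centralizer (N : Set G)) {u : G} (huN : u ∈ N)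
    (hu : u ∉ centralizer (N : Set G)) (hup : ∃ j, u ^ (p ^ j) = 1) : V ≤ centralizer ({u} : Set G) := by
  have h1 := maximal h huN hu (U := (N ⊓ centralizer ({u} : Set G)) ⊔ V) le_sup_left (sup_le inf_le_left hVN) (by
    intro c hc
    rw [H22.Basic.mem_normalizer_iff_cj, H22.Basic.cj_sup,
      H22.Basic.cj_eq_of_mem_normalizer (le_normalizer_inf u hc),
      H22.Basic.cj_eq_of_mem_normalizer (H := V) (by rw [normalizer_eq_top V]; trivial)])
  rcases h1 with h1 | h1
  · refine le_trans ?_ (inf_le_right : N ⊓ centralizer ({u} : Set G) ≤ _)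
    rw [← h1]; exact le_sup_right
  · exfalso
    apply hnn
    apply isPGroup_quot_nilp (p := p)
    intro n hn
    rw [← h1] at hn
    refine pow_mem_sup (A := N ⊓ centralizer ({u} : Set G)) (V := V) inf_le_left hVN ?_ hVp n hn
    intro a ha
    exact pow_mem_cent hT huN hu hp.out hup ha.1 (mem_centralizer_singleton_iff.mp ha.2).symm

/-- Lemma Q -/
theorem sylow_normal_of (hT : TII N) {p : ℕ} [hp : Fact p.Prime] (P : Sylow p N) {v : G} (hvN : v ∈ N)
    (hv : v ∉ centralizer (N : Set G)) (hvp : ∃ j, v ^ (p ^ j) = 1)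
    (hall : ∀ u ∈ N, (∃ j, u ^ (p ^ j) = 1) → u * v = v * u) : (P : Subgroup N).Normal := by
  let π := QuotientGroup.mk' (center N)
  have hπs : Function.Surjective π := QuotientGroup.mk'_surjective _
  have hπk : π.ker = center N := QuotientGroup.ker_mk' _
  set A := N ⊓ centralizer ({v} : Set G) with hA
  have hAp : IsPGroup p ((A.subgroupOf N).map π) := by
    rintro ⟨_, b, hb, rfl⟩
    have hb' : (b : G) ∈ A := hb
    obtain ⟨j, hj⟩ := pow_mem_cent hT hvN hv hp.out hvp b.2 (mem_centralizer_singleton_iff.mp hb'.2).symm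
    refine ⟨j, Subtype.ext ?_⟩
    show (π b) ^ (p ^ j) = 1
    rw [← map_pow, ← MonoidHom.mem_ker, hπk, mem_center_iff']
    exact hj
  have hPel : ∀ u ∈ (P : Subgroup N), ∃ j, ((u : N) : G) ^ (p ^ j) = 1 := by
    intro u hu
    obtain ⟨j, hj⟩ := P.isPGroup' ⟨u, hu⟩
    refine ⟨j, ?_⟩
    have := congrArg (fun z : (P : Subgroup N) => ((z : N) : G)) hj
    exact this
  have hPA : (P : Subgroup N).map π ≤ (A.subgroupOf N).map π := by
    apply map_mono
    intro u hu
    rw [mem_subgroupOf]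
    refine ⟨u.2, ?_⟩
    show (u : G) ∈ centralizer ({v} : Set G)
    rw [mem_centralizer_singleton_iff]
    exact hall u u.2 (hPel u hu)
  have heq : (A.subgroupOf N).map π = (P : Subgroup N).map π := by
    have h1 := (P.mapSurjective hπs).is_maximal' hAp (by rw [Sylow.coe_mapSurjective]; exact hPA)
    rw [Sylow.coe_mapSurjective] at h1
    exact h1
  constructor
  intro u hu n
  obtain ⟨j, hj⟩ := hPel u hu
  have hconjp : ((n * u * n⁻¹ : N) : G) ^ (p ^ j) = 1 := by
    have : ((n * u * n⁻¹ : N) : G) = (n : G) * u * (n : G)⁻¹ := rfl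
    rw [this, conj_pow, hj]; simp
  have h1 : (n * u * n⁻¹ : N) ∈ A.subgroupOf N := by
    rw [mem_subgroupOf]
    refine ⟨(n * u * n⁻¹ : N).2, ?_⟩
    show ((n * u * n⁻¹ : N) : G) ∈ centralizer ({v} : Set G)
    rw [mem_centralizer_singleton_iff]
    exact hall _ (n * u * n⁻¹ : N).2 ⟨j, hconjp⟩
  have h2 : π (n * u * n⁻¹) ∈ (P : Subgroup N).map π := by rw [← heq]; exact ⟨_, h1, rfl⟩
  obtain ⟨u', hu', e⟩ := h2
  -- z = u'⁻¹ (n u n⁻¹) central
  set z := u'⁻¹ * (n * u * n⁻¹) with hz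
  have hzc : z ∈ center N := by
    rw [← hπk, MonoidHom.mem_ker, hz, map_mul, map_inv, e]; exact inv_mul_cancel _
  have e2 : n * u * n⁻¹ = u' * z := by rw [hz]; group
  rw [e2]
  refine mul_mem hu' ?_
  -- z is a p-element
  obtain ⟨i, hi⟩ := hPel u' hu'
  have hcz : Commute u' z := (mem_center_iff.mp hzc u')
  have hz1 : z ^ (p ^ (i + j)) = 1 := by
    have h3 : (u' * z) ^ (p ^ (i + j)) = 1 := by
      rw [← e2]
      apply Subtype.ext
      show ((n * u * n⁻¹ : N) : G) ^ (p ^ (i + j)) = 1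
      rw [add_comm, pow_add, pow_mul, hconjp, one_pow]
    have h4 : u' ^ (p ^ (i + j)) = 1 := by
      apply Subtype.ext
      show (u' : G) ^ (p ^ (i + j)) = 1
      rw [pow_add, pow_mul, hi, one_pow]
    rw [hcz.mul_pow, h4, one_mul] at h3
    exact h3
  have hzn : (zpowers z).Normal := by
    constructor
    intro a ha g
    have hac : a ∈ center N := (zpowers_le.mpr hzc) ha
    have : g * a * g⁻¹ = a := by rw [mem_center_iff.mp hac g]; group
    rw [this]; exact ha
  have hzp : IsPGroup p (zpowers z) := by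
    rintro ⟨_, k, rfl⟩
    refine ⟨i + j, Subtype.ext ?_⟩
    show (z ^ k) ^ (p ^ (i + j)) = 1
    rw [← zpow_natCast, ← zpow_mul, mul_comm, zpow_mul, zpow_natCast, hz1, one_zpow]
  exact hzp.le_sylow_of_normal P (mem_zpowers z)

/-- `N_N(A_w) = A_w` -/
theorem normalizer_eq (h : Hyp N) (hT : TII N) (hnn : ¬ Group.IsNilpotent N) {p : ℕ} [hp : Fact p.Prime]
    (P : Sylow p N) (hP : ¬ (P : Subgroup N).Normal) {w : G} (hwN : w ∈ N) (hw : w ∉ centralizer (N : Set G))
    (hwp : ∃ j, w ^ (p ^ j) = 1) :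
    N ⊓ normalizer ((N ⊓ centralizer ({w} : Set G) : Subgroup G) : Set G) = N ⊓ centralizer ({w} : Set G) := by
  set A := N ⊓ centralizer ({w} : Set G) with hA
  have hCA := le_normalizer_inf (N := N) w
  have h1 := maximal h hwN hw (U := N ⊓ normalizer (A : Set G)) (le_inf inf_le_left le_normalizer) inf_le_left (by
    intro c hc
    have h1 := hCA hc
    rw [H22.Basic.mem_normalizer_iff_cj, H22.Basic.cj_inf, H22.Basic.cj_eq_of_mem h1,
      H22.Basic.cj_eq_of_mem_normalizer (H := N) (by rw [normalizer_eq_top N]; trivial)])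
  rcases h1 with h1 | h1
  · exact h1
  · exfalso
    have hAn : A.Normal := by
      rw [← normalizer_eq_top_iff, eq_top_iff, ← sup_eq_top h hwN hw]
      refine sup_le ?_ hCA
      rw [← h1]; exact inf_le_right
    have hwA : w ∈ A := ⟨hwN, by
      show w ∈ centralizer ({w} : Set G)
      rw [mem_centralizer_singleton_iff]⟩
    apply hP
    refine sylow_normal_of hT P hwN hw hwp ?_
    intro u huN hup
    by_cases hu : u ∈ centralizer (N : Set G)
    · exact (mem_centralizer_iff.mp hu w hwN).symm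
    · have h2 := normal_le h hT hnn (p := p) (V := A) inf_le_left (fun a ha =>
        pow_mem_cent hT hwN hw hp.out hwp ha.1 (mem_centralizer_singleton_iff.mp ha.2).symm) huN hu hup
      exact (mem_centralizer_singleton_iff.mp (h2 hwA)).symm

theorem exists_sylow (h : Hyp N) (hT : TII N) (hnn : ¬ Group.IsNilpotent N) {p : ℕ} [hp : Fact p.Prime]
    (P : Sylow p N) (hP : ¬ (P : Subgroup N).Normal) {w : G} (hwN : w ∈ N) (hw : w ∉ centralizer (N : Set G))
    (hwp : ∃ j, w ^ (p ^ j) = 1) :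
    ∃ S : Sylow p (N ⧸ center N), (S : Subgroup (N ⧸ center N)) =
        ((N ⊓ centralizer ({w} : Set G)).subgroupOf N).map (QuotientGroup.mk' (center N)) ∧
      normalizer ((S : Subgroup (N ⧸ center N)) : Set (N ⧸ center N)) ≤ S ∧
      ∀ n : N, QuotientGroup.mk' (center N) n ∈ (S : Subgroup (N ⧸ center N)) ↔ (n : G) ∈ N ⊓ centralizer ({w} : Set G) := by
  set A := N ⊓ centralizer ({w} : Set G) with hA
  let π := QuotientGroup.mk' (center N)
  have hπs : Function.Surjective π := QuotientGroup.mk'_surjective _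
  have hπk : π.ker = center N := QuotientGroup.ker_mk' _
  have hcA : center N ≤ A.subgroupOf N := by
    intro z hz
    rw [mem_subgroupOf]
    refine ⟨z.2, ?_⟩
    show (z : G) ∈ centralizer ({w} : Set G)
    rw [mem_centralizer_singleton_iff]
    exact (mem_centralizer_iff.mp (mem_center_iff'.mp hz) w hwN).symm
  set H := (A.subgroupOf N).map π with hH
  have hmemH : ∀ n : N, π n ∈ H ↔ (n : G) ∈ A := by
    intro n
    rw [hH, ← mem_comap, comap_map_eq, hπk, sup_eq_left.mpr hcA, mem_subgroupOf]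
  have hHp : IsPGroup p H := by
    rintro ⟨_, b, hb, rfl⟩
    have hb' : (b : G) ∈ A := hb
    obtain ⟨j, hj⟩ := pow_mem_cent hT hwN hw hp.out hwp b.2 (mem_centralizer_singleton_iff.mp hb'.2).symm
    refine ⟨j, Subtype.ext ?_⟩
    show (π b) ^ (p ^ j) = 1
    rw [← map_pow, ← MonoidHom.mem_ker, hπk, mem_center_iff']
    exact hj
  have hnorm : normalizer (H : Set (N ⧸ center N)) ≤ H := by
    intro z hz
    obtain ⟨n, rfl⟩ := hπs z
    rw [hmemH, hA, ← normalizer_eq h hT hnn P hP hwN hw hwp]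
    refine ⟨n.2, ?_⟩
    apply H22.Basic.mem_normalizer_of_cj_le
    rintro _ ⟨a, ha, rfl⟩
    have h1 : π ⟨a, ha.1⟩ ∈ H := (hmemH ⟨a, ha.1⟩).mpr ha
    have h2 := (mem_normalizer_iff.mp hz _).mp h1
    have h3 : π n * π ⟨a, ha.1⟩ * (π n)⁻¹ = π (n * ⟨a, ha.1⟩ * n⁻¹) := by simp
    rw [h3, hmemH] at h2
    exact h2
  obtain ⟨S, hS⟩ := hHp.exists_le_sylow
  have hSeq : (S : Subgroup (N ⧸ center N)) = H := by
    by_contra hne
    have hlt : H.subgroupOf S < ⊤ := by
      rw [lt_top_iff_ne_top]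
      intro h1
      rw [subgroupOf_eq_top] at h1
      exact hne (le_antisymm h1 hS)
    have hNC : NormalizerCondition (S : Subgroup (N ⧸ center N)) := by
      have := S.isPGroup'.isNilpotent
      exact Group.normalizerCondition_of_isNilpotent
    obtain ⟨y, hy, hyH⟩ := SetLike.exists_of_lt (hNC _ hlt)
    apply hyH
    rw [mem_subgroupOf]
    apply hnorm
    apply H22.Basic.mem_normalizer_of_cj_le
    rintro _ ⟨e, he, rfl⟩
    exact (mem_normalizer_iff.mp hy ⟨e, hS he⟩).mp he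
  exact ⟨S, hSeq, by rw [hSeq]; exact hnorm, by rw [hSeq]; exact hmemH⟩

theorem eq_of_le (h : Hyp N) (hT : TII N) (hnn : ¬ Group.IsNilpotent N) {p : ℕ} [hp : Fact p.Prime]
    (P : Sylow p N) (hP : ¬ (P : Subgroup N).Normal) {w x : G} (hwN : w ∈ N) (hw : w ∉ centralizer (N : Set G))
    (hwp : ∃ j, w ^ (p ^ j) = 1) (hxN : x ∈ N) (hx : x ∉ centralizer (N : Set G))
    (hxp : ∃ j, x ^ (p ^ j) = 1) (hle : N ⊓ centralizer ({w} : Set G) ≤ N ⊓ centralizer ({x} : Set G)) :
    N ⊓ centralizer ({w} : Set G) = N ⊓ centralizer ({x} : Set G) := by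
  obtain ⟨S, hS, -, hS'⟩ := exists_sylow h hT hnn P hP hwN hw hwp
  obtain ⟨T, hT1, -, hT'⟩ := exists_sylow h hT hnn P hP hxN hx hxp
  have h1 : (S : Subgroup (N ⧸ center N)) ≤ T := by
    rw [hS, hT1]
    exact map_mono (fun n hn => hle hn)
  have h2 := S.is_maximal' T.isPGroup' h1
  apply le_antisymm hle
  intro n hn
  rw [show n = ((⟨n, hn.1⟩ : N) : G) from rfl, ← hS', ← h2, hT']
  exact hn

theorem lemB (h : Hyp N) (hT : TII N) (hnn : ¬ Group.IsNilpotent N) {p : ℕ} [hp : Fact p.Prime]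
    (P : Sylow p N) (hP : ¬ (P : Subgroup N).Normal) {w x : G} (hwN : w ∈ N) (hw : w ∉ centralizer (N : Set G))
    (hwp : ∃ j, w ^ (p ^ j) = 1) (hxN : x ∈ N) (hx : x ∉ centralizer (N : Set G))
    (hxp : ∃ j, x ^ (p ^ j) = 1) (hc : w * x = x * w) (hne : N ⊓ centralizer ({w} : Set G) ≠ N ⊓ centralizer ({x} : Set G))
    (b : ℕ) (hb : x ^ (p ^ b) ∈ centralizer (N : Set G)) : w ^ (p ^ b) ∈ centralizer (N : Set G) := by
  by_contra hwb
  apply hne
  have hcc : Commute w x := hc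
  have hwx : (w * x) ^ (p ^ b) = w ^ (p ^ b) * x ^ (p ^ b) := hcc.mul_pow _
  have hwxc : (w * x) ^ (p ^ b) ∉ centralizer (N : Set G) := by
    rw [hwx]
    intro h1
    apply hwb
    have h2 := mul_mem h1 (inv_mem hb)
    rwa [mul_inv_cancel_right] at h2
  have h1 := centralizer_pow_eq h (mul_mem hwN hxN) hwxc
  have h2 := centralizer_pow_eq h hwN hwb
  apply eq_of_le h hT hnn P hP hwN hw hwp hxN hx hxp
  intro n hn
  refine ⟨hn.1, ?_⟩
  have hnw : n * w = w * n := mem_centralizer_singleton_iff.mp hn.2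
  have h3 : n ∈ centralizer ({w * x} : Set G) := by
    rw [h1, mem_centralizer_singleton_iff, hwx]
    have h4 : Commute n (w ^ (p ^ b)) := Commute.pow_right hnw _
    have h5 : n * x ^ (p ^ b) = x ^ (p ^ b) * n := mem_centralizer_iff.mp hb n hn.1
    calc n * (w ^ (p ^ b) * x ^ (p ^ b)) = (n * w ^ (p ^ b)) * x ^ (p ^ b) := by group
      _ = w ^ (p ^ b) * (n * x ^ (p ^ b)) := by rw [h4.eq]; group
      _ = w ^ (p ^ b) * x ^ (p ^ b) * n := by rw [h5]; group
  rw [mem_centralizer_singleton_iff] at h3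
  show n ∈ centralizer ({x} : Set G)
  rw [mem_centralizer_singleton_iff]
  calc n * x = w⁻¹ * (w * n) * x := by group
    _ = w⁻¹ * (n * (w * x)) := by rw [← hnw]; group
    _ = w⁻¹ * (w * x * n) := by rw [h3]
    _ = x * n := by group

theorem expo (h : Hyp N) (hT : TII N) (hnn : ¬ Group.IsNilpotent N) {p : ℕ} [hp : Fact p.Prime]
    (P : Sylow p N) (hP : ¬ (P : Subgroup N).Normal) {w x : G} (hwN : w ∈ N) (hw : w ∉ centralizer (N : Set G))
    (hwp : ∃ j, w ^ (p ^ j) = 1) (hxN : x ∈ N) (hx : x ∉ centralizer (N : Set G))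
    (hxp : ∃ j, x ^ (p ^ j) = 1) (hc : w * x = x * w) (hne : N ⊓ centralizer ({w} : Set G) ≠ N ⊓ centralizer ({x} : Set G)) :
    w ^ p ∈ centralizer (N : Set G) := by
  classical
  by_contra hwpc
  have hex : ∃ j, w ^ (p ^ j) ∈ centralizer (N : Set G) := by
    obtain ⟨j, hj⟩ := hwp
    exact ⟨j, by rw [hj]; exact one_mem _⟩
  obtain ⟨j, hj, hjmin⟩ : ∃ j, w ^ (p ^ j) ∈ centralizer (N : Set G) ∧ ∀ i < j, w ^ (p ^ i) ∉ centralizer (N : Set G) :=
    ⟨Nat.find hex, Nat.find_spec hex, fun i hi => Nat.find_min hex hi⟩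
  obtain ⟨b, rfl⟩ : ∃ b, j = b + 1 := by
    cases j with
    | zero => exact absurd (by simpa using hj) hw
    | succ b => exact ⟨b, rfl⟩
  have hw1N : w ^ p ∈ N := pow_mem hwN p
  have hw1p : ∃ j, (w ^ p) ^ (p ^ j) = 1 := by
    obtain ⟨j, hj⟩ := hwp
    exact ⟨j, by rw [← pow_mul, mul_comm, pow_mul, hj, one_pow]⟩
  have hA1 : centralizer ({w} : Set G) = centralizer ({w ^ p} : Set G) := centralizer_pow_eq h hwN hwpc
  have hc1 : x * w ^ p = w ^ p * x := (Commute.pow_right (show Commute x w from hc.symm) p)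
  have h1 := lemB h hT hnn P hP hxN hx hxp hw1N hwpc hw1p hc1 (by rw [← hA1]; exact hne.symm) b (by
    rw [← pow_mul, ← pow_succ']; exact hj)
  have h2 := lemB h hT hnn P hP hwN hw hwp hxN hx hxp hc hne b h1
  exact hjmin b (Nat.lt_succ_self b) h2

end Cfsg.Agent.H22.RelMax
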