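import Mathlib
import Cfsg.Agent.H22_RelMax4

set_option autoImplicit false

namespace Cfsg.Agent.H22.RelMax

open Subgroup
open scoped commutatorElement Pointwise

variable {G : Type*} [Group G] [Finite G]
variable {N : Subgroup G} [hNn : N.Normal]

/-- if `N / Z(N)` has a normal `p`-complement, done -/
theorem concl_of_npc (h : Hyp N) (hT : TII N) (hnn : ¬ Group.IsNilpotent N) {p : ℕ} [hp : Fact p.Prime]
    {w : G} (hwN : w ∈ N) (hw : w ∉ centralizer (N : Set G)) (hwp : ∃ j, w ^ (p ^ j) = 1)
    (hnpc : Cfsg.HasNormalPComplement p (N ⧸ center N)) : Concl N := by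
  let π := QuotientGroup.mk' (center N)
  have hπs : Function.Surjective π := QuotientGroup.mk'_surjective _
  have hπk : π.ker = center N := QuotientGroup.ker_mk' _
  have hπ1 : ∀ n : N, π n = 1 ↔ (n : G) ∈ centralizer (N : Set G) := by
    intro n
    rw [← MonoidHom.mem_ker, hπk, mem_center_iff']
  obtain ⟨Kb, hKbn, hKbp, m, hKbi⟩ := H2.Basic.npc_iff.mp hnpc
  have hKbmem : ∀ z : N ⧸ center N, z ∈ Kb ↔ Nat.Coprime (orderOf z) p := H2.Basic.mem_npc_iff hKbp hKbi
  set K := (Kb.comap π).map N.subtype with hK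
  have hmemK : ∀ n : N, (n : G) ∈ K ↔ π n ∈ Kb := by
    intro n
    rw [hK]
    constructor
    · rintro ⟨m, hm, e⟩
      have : m = n := Subtype.ext e
      rw [← this]; exact hm
    · intro h1
      exact ⟨n, h1, rfl⟩
  have hKN : K ≤ N := map_subtype_le _
  -- orders
  have hpow : ∀ (n : N) (k : ℕ), (π n) ^ k = 1 ↔ (n : G) ^ k ∈ centralizer (N : Set G) := by
    intro n k
    rw [← map_pow, hπ1]; rfl
  have hKn : K.Normal := by
    constructor
    intro k hk g
    have hkN := hKN hk
    have hgkN : g * k * g⁻¹ ∈ N := hNn.conj_mem k hkN g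
    have hk' : π ⟨k, hkN⟩ ∈ Kb := (hmemK ⟨k, hkN⟩).mp hk
    rw [show g * k * g⁻¹ = ((⟨g * k * g⁻¹, hgkN⟩ : N) : G) from rfl, hmemK, hKbmem]
    rw [hKbmem] at hk'
    refine Nat.Coprime.coprime_dvd_left ?_ hk'
    apply orderOf_dvd_of_pow_eq_one
    rw [hpow]
    show (g * k * g⁻¹) ^ _ ∈ centralizer (N : Set G)
    rw [conj_pow]
    have : (centralizer (N : Set G)).Normal := inferInstance
    apply this.conj_mem
    exact (hpow ⟨k, hkN⟩ _).mp (pow_orderOf_eq_one _)
  have hpel : ∀ n : N, (∃ j, (n : G) ^ (p ^ j) ∈ centralizer (N : Set G)) → Nat.Coprime (orderOf (π n)) p →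
      (n : G) ∈ centralizer (N : Set G) := by
    rintro n ⟨j, hj⟩ hco
    rw [← hπ1, ← orderOf_eq_one_iff]
    have h1 : orderOf (π n) ∣ p ^ j := orderOf_dvd_of_pow_eq_one ((hpow n _).mpr hj)
    exact Nat.eq_one_of_dvd_coprimes (Nat.Coprime.pow_right j hco) dvd_rfl h1
  have hKne : K ≠ N := by
    intro h1
    apply hw
    have h2 : w ∈ K := by rw [h1]; exact hwN
    have h3 := (hmemK ⟨w, hwN⟩).mp h2
    rw [hKbmem] at h3
    obtain ⟨j, hj⟩ := hwp
    exact hpel ⟨w, hwN⟩ ⟨j, by show w ^ (p ^ j) ∈ _; rw [hj]; exact one_mem _⟩ h3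
  have hZK : N ⊓ centralizer (N : Set G) ≤ K := by
    intro z hz
    rw [show z = ((⟨z, hz.1⟩ : N) : G) from rfl, hmemK]
    have h1 : π ⟨z, hz.1⟩ = 1 := (hπ1 _).mpr hz.2
    rw [h1]; exact one_mem _
  have hKc : ∀ k ∈ K, k ∉ centralizer (N : Set G) → (∃ p : ℕ, p.Prime ∧ ∃ j : ℕ, k ^ (p ^ j) = 1) →
      N ⊓ centralizer ({k} : Set G) ≤ K := by
    rintro k hk hkc ⟨r, hr, hj⟩ c hc
    have hkN := hKN hk
    have hk' : π ⟨k, hkN⟩ ∈ Kb := (hmemK ⟨k, hkN⟩).mp hk
    rw [hKbmem] at hk'
    have hrp : r ≠ p := by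
      rintro rfl
      obtain ⟨j, hj⟩ := hj
      exact hkc (hpel ⟨k, hkN⟩ ⟨j, by show k ^ (r ^ j) ∈ _; rw [hj]; exact one_mem _⟩ hk')
    obtain ⟨j, hj⟩ := pow_mem_cent hT hkN hkc hr hj hc.1 (mem_centralizer_singleton_iff.mp hc.2).symm
    rw [show c = ((⟨c, hc.1⟩ : N) : G) from rfl, hmemK, hKbmem]
    have h1 : orderOf (π ⟨c, hc.1⟩) ∣ r ^ j := orderOf_dvd_of_pow_eq_one ((hpow ⟨c, hc.1⟩ _).mpr hj)
    exact Nat.Coprime.coprime_dvd_left h1 (Nat.Coprime.pow_left _ ((Nat.coprime_primes hr hp.out).mpr hrp))
  have hsol : Group.IsSolvable (↥N ⧸ K.subgroupOf N) := by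
    have h1 : IsPGroup p (↥N ⧸ K.subgroupOf N) := by
      intro q
      obtain ⟨n, rfl⟩ := QuotientGroup.mk'_surjective _ q
      refine ⟨m, ?_⟩
      rw [← map_pow, ← MonoidHom.mem_ker, QuotientGroup.ker_mk', mem_subgroupOf, hmemK, map_pow, ← hKbi]
      exact pow_index_mem Kb _
    have := h1.isNilpotent
    infer_instance
  obtain ⟨k0, hk0, hk0c⟩ : ∃ k ∈ K, k ∉ centralizer (N : Set G) := by
    by_contra hcon
    push Not at hcon
    apply hnn
    apply isPGroup_quot_nilp (p := p)
    intro n hn
    refine ⟨m, ?_⟩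
    have h1 : π (⟨n, hn⟩ ^ (p ^ m)) ∈ Kb := by
      rw [map_pow, ← hKbi]; exact pow_index_mem Kb _
    have h2 := hcon _ ((hmemK _).mpr h1)
    exact h2
  exact concl_of h hKN hKne hZK hKc hsol hk0 hk0c

theorem case_two (h : Hyp N) (hT : TII N) (hnn : ¬ Group.IsNilpotent N) : Concl N := by
  obtain ⟨p, hp, P, hP⟩ : ∃ (p : ℕ) (_ : Fact p.Prime) (P : Sylow p N), ¬ (P : Subgroup N).Normal := by
    by_contra hcon
    push Not at hcon
    apply hnn
    exact ((Group.isNilpotent_of_finite_tfae (G := N)).out 0 3).mpr hcon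
  obtain ⟨u, huP, huc⟩ : ∃ u ∈ (P : Subgroup N), (u : G) ∉ centralizer (N : Set G) := by
    by_contra hcon
    push Not at hcon
    apply hP
    constructor
    intro u hu n
    have h1 := mem_center_iff'.mpr (hcon u hu)
    have h2 : n * u * n⁻¹ = u := by rw [mem_center_iff.mp h1 n]; group
    rw [h2]; exact hu
  set w : G := (u : G) with hwdef
  have hwN : w ∈ N := u.2
  have hw : w ∉ centralizer (N : Set G) := huc
  have hwp : ∃ j, w ^ (p ^ j) = 1 := by
    obtain ⟨j, hj⟩ := P.isPGroup' ⟨u, huP⟩
    exact ⟨j, congrArg (fun z : (P : Subgroup N) => ((z : N) : G)) hj⟩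
  obtain ⟨S, hS, hSn, hSm⟩ := exists_sylow h hT hnn P hP hwN hw hwp
  apply concl_of_npc h hT hnn hwN hw hwp (p := p)
  set A := N ⊓ centralizer ({w} : Set G) with hA
  let π := QuotientGroup.mk' (center N)
  have hπs : Function.Surjective π := QuotientGroup.mk'_surjective _
  have hπk : π.ker = center N := QuotientGroup.ker_mk' _
  have hπ1 : ∀ n : N, π n = 1 ↔ (n : G) ∈ centralizer (N : Set G) := by
    intro n
    rw [← MonoidHom.mem_ker, hπk, mem_center_iff']
  have hpow : ∀ (n : N) (k : ℕ), (π n) ^ k = 1 ↔ (n : G) ^ k ∈ centralizer (N : Set G) := by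
    intro n k
    rw [← map_pow, hπ1]; rfl
  by_cases hp2 : p = 2
  · -- S abelian, Burnside
    have hSab : ∀ a ∈ (S : Subgroup (N ⧸ center N)), ∀ b ∈ (S : Subgroup (N ⧸ center N)), a * b = b * a := by
      by_cases hAab : ∀ a ∈ A, ∀ b ∈ A, a * b = b * a
      · intro a ha b hb
        obtain ⟨a, rfl⟩ := hπs a
        obtain ⟨b, rfl⟩ := hπs b
        rw [← map_mul, ← map_mul]
        congr 1
        exact Subtype.ext (hAab _ ((hSm a).mp ha) _ ((hSm b).mp hb))
      · have hexp : ∀ a ∈ A, a ^ p ∈ centralizer (N : Set G) := by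
          intro a ha
          apply mem_of_primary
          intro k r hr hj
          have hkN : a ^ k ∈ N := pow_mem ha.1 k
          have hkA : a ^ k ∈ A := pow_mem ha k
          by_cases hrp : r = p
          · subst hrp
            rw [← pow_mul, mul_comm, pow_mul]
            by_cases hkc : a ^ k ∈ centralizer (N : Set G)
            · exact pow_mem hkc r
            · have hkp : ∃ j, (a ^ k) ^ (r ^ j) = 1 := by
                obtain ⟨j, hj⟩ := hj
                refine ⟨j + 1, ?_⟩
                rw [pow_succ', pow_mul, ← pow_mul a k r, mul_comm k r, pow_mul a r k]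
                exact hj
              have hkw : a ^ k * w = w * a ^ k := mem_centralizer_singleton_iff.mp hkA.2
              by_cases hne : N ⊓ centralizer ({a ^ k} : Set G) = A
              · -- need another w'
                obtain ⟨w', hw'A, hw'c, hw'p, hw'ne⟩ : ∃ w' ∈ A, w' ∉ centralizer (N : Set G) ∧
                    (∃ j, w' ^ (r ^ j) = 1) ∧ N ⊓ centralizer ({w'} : Set G) ≠ A := by
                  by_contra hcon
                  push Not at hcon
                  apply hAab
                  intro x hx y hy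
                  have h1 : y ∈ centralizer (A : Set G) := by
                    apply mem_of_primary
                    intro i s hs hsj
                    have hyi : y ^ i ∈ A := pow_mem hy i
                    by_cases hyc : y ^ i ∈ centralizer (N : Set G)
                    · exact centralizer_le (inf_le_left : A ≤ N) hyc
                    · by_cases hsr : s = r
                      · subst hsr
                        have h2 := hcon _ hyi hyc hsj
                        rw [mem_centralizer_iff]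
                        intro z hz
                        rw [SetLike.mem_coe, ← h2] at hz
                        exact mem_centralizer_singleton_iff.mp hz.2
                      · exact absurd (hT w hwN hw r hp.out hwp _ hyi.1 s hs hsr hsj
                          (mem_centralizer_singleton_iff.mp hyi.2).symm) hyc
                  exact mem_centralizer_iff.mp h1 x hx
                have h1 : w' ∈ N ⊓ centralizer ({a ^ k} : Set G) := by rw [hne]; exact hw'A
                exact expo h hT hnn P hP hkN hkc hkp hw'A.1 hw'c hw'p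
                  (mem_centralizer_singleton_iff.mp h1.2).symm (by rw [hne]; exact hw'ne.symm)
              · exact expo h hT hnn P hP hkN hkc hkp hwN hw hwp hkw hne
          · have h1 : (a ^ p) ^ k ∈ A := pow_mem (pow_mem ha p) k
            exact hT w hwN hw p hp.out hwp _ h1.1 r hr hrp hj (mem_centralizer_singleton_iff.mp h1.2).symm
        have hsq : ∀ a ∈ (S : Subgroup (N ⧸ center N)), a * a = 1 := by
          intro a ha
          obtain ⟨a, rfl⟩ := hπs a
          have h1 := (hpow a 2).mpr (by rw [← hp2]; exact hexp _ ((hSm a).mp ha))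
          rw [pow_two] at h1
          exact h1
        intro a ha b hb
        have h1 := hsq a ha
        have h2 := hsq b hb
        have h3 := hsq (a * b) (mul_mem ha hb)
        calc a * b = a * (a * b * (a * b)) * b := by rw [h3]; group
          _ = (a * a) * (b * a) * (b * b) := by group
          _ = b * a := by rw [h1, h2]; group
    apply H2.Fusion4.npc_of_normalizer_le_centralizer S
    refine hSn.trans ?_
    intro a ha
    rw [mem_centralizer_iff]
    intro b hb
    exact hSab b hb a ha
  · -- Glauberman--Thompson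
    apply H2.ZJ2.npc_of_zjj hp2 (n := 0) (Or.inl rfl) S
    set Wb := H12.ZJ.ZJJ 0 (S : Subgroup (N ⧸ center N)) with hWb
    have hWbS : Wb ≤ S := H12.ZJ.ZJJ_le 0 _
    set W := (Wb.comap π).map N.subtype with hW
    have hmemW : ∀ n : N, (n : G) ∈ W ↔ π n ∈ Wb := by
      intro n
      rw [hW]
      constructor
      · rintro ⟨m, hm, e⟩
        have : m = n := Subtype.ext e
        rw [← this]; exact hm
      · intro h1
        exact ⟨n, h1, rfl⟩
    have hWN : W ≤ N := map_subtype_le _
    -- normalizers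
    have hnormWb : ∀ n : N, (n : G) ∈ normalizer (W : Set G) ↔ π n ∈ normalizer (Wb : Set (N ⧸ center N)) := by
      intro n
      constructor
      · intro hn
        apply H22.Basic.mem_normalizer_of_cj_le
        rintro _ ⟨z, hz, rfl⟩
        obtain ⟨a, rfl⟩ := hπs z
        have h1 := (mem_normalizer_iff.mp hn (a : G)).mp ((hmemW a).mpr hz)
        have h2 : (n : G) * a * (n : G)⁻¹ = ((n * a * n⁻¹ : N) : G) := rfl
        rw [h2, hmemW] at h1
        show π n * π a * (π n)⁻¹ ∈ Wb
        rw [← map_mul, ← map_inv, ← map_mul]; exact h1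
      · intro hn
        apply H22.Basic.mem_normalizer_of_cj_le
        rintro _ ⟨a, ha, rfl⟩
        have haN := hWN ha
        have h1 := (mem_normalizer_iff.mp hn _).mp ((hmemW ⟨a, haN⟩).mp ha)
        show (n : G) * a * (n : G)⁻¹ ∈ W
        have h2 : (n : G) * a * (n : G)⁻¹ = ((n * ⟨a, haN⟩ * n⁻¹ : N) : G) := rfl
        rw [h2, hmemW, map_mul, map_mul, map_inv]; exact h1
    -- the centralizer of w normalizes W
    have hCW : centralizer ({w} : Set G) ≤ normalizer (W : Set G) := by
      intro g hg
      have hch : (center N).Characteristic := inferInstance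
      let φ : MulAut N := MulAut.conjNormal g
      let f : (N ⧸ center N) →* (N ⧸ center N) := QuotientGroup.map (center N) (center N) φ.toMonoidHom (by
        have := (characteristic_iff_comap_eq.mp hch) φ
        exact this.ge)
      have hf : ∀ n : N, f (π n) = π (φ n) := fun n => rfl
      have hφ : ∀ n : N, ((φ n : N) : G) = g * n * g⁻¹ := fun n => MulAut.conjNormal_apply g n
      have hfinj : ∀ x ∈ (S : Subgroup (N ⧸ center N)), f x = 1 → x = 1 := by
        intro x _ hx
        obtain ⟨a, rfl⟩ := hπs x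
        rw [hf, hπ1, hφ] at hx
        rw [hπ1]
        have : (centralizer (N : Set G)).Normal := inferInstance
        have h1 := this.conj_mem _ hx g⁻¹
        have h2 : g⁻¹ * (g * (a : G) * g⁻¹) * g⁻¹⁻¹ = a := by group
        rwa [h2] at h1
      have hgA : g ∈ normalizer (A : Set G) := le_normalizer_inf w hg
      have hfS : (S : Subgroup (N ⧸ center N)).map f = S := by
        have hle : (S : Subgroup (N ⧸ center N)).map f ≤ S := by
          rintro _ ⟨x, hx, rfl⟩
          obtain ⟨a, rfl⟩ := hπs x
          rw [hf, hSm, hφ]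
          exact (mem_normalizer_iff.mp hgA _).mp ((hSm a).mp hx)
        apply H22.Basic.eq_of_le_of_card_le hle
        have := H1.Basic.card_map_of_inf_ker_eq_bot f (S : Subgroup (N ⧸ center N)) (by
          rw [eq_bot_iff]
          rintro x ⟨hx1, hx2⟩
          rw [mem_bot]
          exact hfinj x hx1 hx2)
        exact this.ge
      have hfW : Wb.map f = Wb := by
        have := H18.ZJF.ZJJ_map (n := 0) (f := f) (D := (S : Subgroup (N ⧸ center N))) hfinj
        rw [hfS] at this
        exact this.symm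
      apply H22.Basic.mem_normalizer_of_cj_le
      rintro _ ⟨a, ha, rfl⟩
      have haN := hWN ha
      show g * a * g⁻¹ ∈ W
      have h1 : g * a * g⁻¹ = ((φ ⟨a, haN⟩ : N) : G) := (hφ ⟨a, haN⟩).symm
      rw [h1, hmemW, ← hf, ← hfW]
      exact ⟨_, (hmemW ⟨a, haN⟩).mp ha, rfl⟩
    have hAW : A ≤ normalizer (W : Set G) := inf_le_right.trans hCW
    have hU := maximal h hwN hw (U := N ⊓ normalizer (W : Set G)) (le_inf inf_le_left hAW) inf_le_left (by
      intro c hc
      have h1 := hCW hc
      rw [H22.Basic.mem_normalizer_iff_cj, H22.Basic.cj_inf, H22.Basic.cj_eq_of_mem h1,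
        H22.Basic.cj_eq_of_mem_normalizer (H := N) (by rw [normalizer_eq_top N]; trivial)])
    rcases hU with hU | hU
    · apply H2.Basic.npc_of_isPGroup
      have hle : normalizer (Wb : Set (N ⧸ center N)) ≤ S := by
        intro z hz
        obtain ⟨n, rfl⟩ := hπs z
        rw [hSm, hA, ← hU]
        exact ⟨n.2, (hnormWb n).mpr hz⟩
      exact S.isPGroup'.to_le hle
    · exfalso
      have hWn : W.Normal := by
        rw [← normalizer_eq_top_iff, eq_top_iff, ← sup_eq_top h hwN hw]
        refine sup_le ?_ hCW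
        rw [← hU]; exact inf_le_right
      have hWp : ∀ a ∈ W, ∃ j, a ^ (p ^ j) ∈ centralizer (N : Set G) := by
        intro a ha
        have haN := hWN ha
        have h1 := hWbS ((hmemW ⟨a, haN⟩).mp ha)
        obtain ⟨j, hj⟩ := S.isPGroup' ⟨_, h1⟩
        exact ⟨j, (hpow ⟨a, haN⟩ _).mp (congrArg Subtype.val hj)⟩
      have hSne : (S : Subgroup (N ⧸ center N)) ≠ ⊥ := by
        intro h1
        have h2 : π u ∈ (S : Subgroup (N ⧸ center N)) := by
          rw [hSm]
          refine ⟨u.2, ?_⟩
          show (u : G) ∈ centralizer ({w} : Set G)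
          rw [mem_centralizer_singleton_iff]
        rw [h1, mem_bot, hπ1] at h2
        exact hw h2
      have hWb1 : Wb ≠ ⊥ := H2.ZJ2.ZJJ_ne_bot (p := p) (n := 0) (dvd_zero p) S.isPGroup' hSne
      obtain ⟨zb, hzb, hzb1⟩ := (bot_or_exists_ne_one Wb).resolve_left hWb1
      obtain ⟨z, rfl⟩ := hπs zb
      have hzc : (z : G) ∉ centralizer (N : Set G) := fun hc => hzb1 ((hπ1 z).mpr hc)
      have hzW : (z : G) ∈ W := (hmemW z).mpr hzb
      obtain ⟨k, r, hr, hj, hkc⟩ := exists_primary hzc
      have hkW : (z : G) ^ k ∈ W := pow_mem hzW k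
      have hrp : r = p := by
        by_contra hrp
        apply hkc
        obtain ⟨i, hi⟩ := hWp _ hkW
        obtain ⟨j, hj⟩ := hj
        have h1 : orderOf (π (z ^ k)) ∣ p ^ i := orderOf_dvd_of_pow_eq_one ((hpow (z ^ k) _).mpr hi)
        have h2 : orderOf (π (z ^ k)) ∣ r ^ j := orderOf_dvd_of_pow_eq_one ((hpow (z ^ k) _).mpr (by
          show ((z : G) ^ k) ^ (r ^ j) ∈ _
          rw [hj]; exact one_mem _))
        have h3 : Nat.Coprime (p ^ i) (r ^ j) := Nat.Coprime.pow _ _ ((Nat.coprime_primes hp.out hr).mpr (Ne.symm hrp))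
        have h4 := Nat.eq_one_of_dvd_coprimes h3 h1 h2
        rw [orderOf_eq_one_iff, hπ1] at h4
        exact h4
      subst hrp
      apply hP
      refine sylow_normal_of hT P (hWN hkW) hkc hj ?_
      intro v hvN hvp
      by_cases hv : v ∈ centralizer (N : Set G)
      · exact (mem_centralizer_iff.mp hv _ (hWN hkW)).symm
      · have h2 := normal_le h hT hnn (p := r) hWN hWp hvN hv hvp
        exact (mem_centralizer_singleton_iff.mp (h2 hkW)).symm

theorem main (h : Hyp N) (hnn : ¬ Group.IsNilpotent N) : Concl N := by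
  by_cases hT : TII N
  · exact case_two h hT hnn
  · unfold TII at hT
    push Not at hT
    obtain ⟨x, hxN, hx, p, hp, hxp, y, hyN, q, hq, hqp, hyq, hxy, hy⟩ := hT
    exact case_one h hxN hx hyN hy hxy hp hq (Ne.symm hqp) hxp hyq

end Cfsg.Agent.H22.RelMax
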