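import Mathlib
import Cfsg.Agent.H22_Basic
import Cfsg.Agent.H2_PGroup

/-!
Soft subgroups (Hethelyi).
* `comm_card` : `p`-group with two distinct abelian subgroups of index `p` has derived subgroup of order dividing `p`.
* `tower` : the key lemma on `Q = ⟨E, φ E⟩`.
-/

set_option autoImplicit false

namespace Cfsg.Agent.H22.Soft

open Subgroup
open scoped commutatorElement

theorem pow_conj {G : Type*} [Group G] {x y c : G} (h : x * y * x⁻¹ = c * y) (hcx : x * c = c * x) (n : ℕ) :
    x ^ n * y * (x ^ n)⁻¹ = c ^ n * y := by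
  induction n with
  | zero => simp
  | succ n ih =>
    have hcn : x * c ^ n * x⁻¹ = c ^ n := by
      have : Commute x (c ^ n) := Commute.pow_right hcx n
      rw [this.eq]; group
    calc x ^ (n + 1) * y * (x ^ (n + 1))⁻¹ = x * (x ^ n * y * (x ^ n)⁻¹) * x⁻¹ := by rw [pow_succ']; group
      _ = x * (c ^ n * y) * x⁻¹ := by rw [ih]
      _ = (x * c ^ n * x⁻¹) * (x * y * x⁻¹) := by group
      _ = c ^ n * (c * y) := by rw [hcn, h]
      _ = c ^ (n + 1) * y := by rw [pow_succ]; group

theorem comm_card {G : Type*} [Group G] [Finite G] {p : ℕ} [hp : Fact p.Prime] (hG : IsPGroup p G) {E F : Subgroup G}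
    (hE : ∀ x ∈ E, ∀ y ∈ E, x * y = y * x) (hF : ∀ x ∈ F, ∀ y ∈ F, x * y = y * x) (hEi : E.index = p)
    (hFi : F.index = p) (hne : E ≠ F) : Nat.card (_root_.commutator G) ∣ p := by
  have hEn := H2.PGroup.normal_of_index_p hG hEi
  have hFn := H2.PGroup.normal_of_index_p hG hFi
  have hEc := H2.PGroup.isCoatom_of_index (p := p) hEi
  have hFc := H2.PGroup.isCoatom_of_index (p := p) hFi
  have hEF : ¬ E ≤ F := fun h => hne ((hEc.le_iff.mp h).resolve_left hFc.1).symm
  have hFE : ¬ F ≤ E := fun h => hne ((hFc.le_iff.mp h).resolve_left hEc.1)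
  obtain ⟨x, hxE, hxF⟩ := SetLike.not_le_iff_exists.mp hEF
  obtain ⟨y, hyF, hyE⟩ := SetLike.not_le_iff_exists.mp hFE
  have hsup : E ⊔ F = ⊤ := hEc.2 _ (lt_of_le_of_ne le_sup_left (fun h => hFE (h ▸ le_sup_right)))
  set Z := E ⊓ F with hZ
  have hZE : Z ≤ E := inf_le_left
  have hZF : Z ≤ F := inf_le_right
  have hcen : Z ≤ center G := by
    intro z hz
    rw [mem_center_iff]
    intro g
    have hg : g ∈ E ⊔ F := by rw [hsup]; trivial
    rw [← SetLike.mem_coe, Subgroup.mul_normal] at hg
    obtain ⟨e, he, f, hf, rfl⟩ := hg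
    have h1 := hE e he z hz.1
    have h2 := hF f hf z hz.2
    calc e * f * z = e * (f * z) := by group
      _ = (e * z) * f := by rw [h2]; group
      _ = z * (e * f) := by rw [h1]; group
  -- E = ⟨x⟩ Z
  have hEg : E ≤ zpowers x ⊔ Z := by
    have h1 : Z.relIndex E = p := by
      rw [hZ, inf_comm, inf_relIndex_right, ← relIndex_sup_right E F, sup_comm] 
      rw [sup_comm, hsup, relIndex_top_right, hFi]
    have h2 : Z < zpowers x ⊔ Z := lt_of_le_of_ne le_sup_right (fun h => by
      have : x ∈ Z := by rw [h]; exact mem_sup_left (mem_zpowers x)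
      exact hxF this.2)
    have h3 : zpowers x ⊔ Z ≤ E := sup_le (by rwa [zpowers_le]) hZE
    have h4 := relIndex_mul_relIndex _ _ _ h2.le h3
    rw [h1] at h4
    have h5 : (zpowers x ⊔ Z).relIndex E = 1 := by
      rcases (Nat.dvd_prime hp.out).mp ⟨_, h4.symm⟩ with h | h
      · rw [relIndex_eq_one] at h
        exact absurd h (not_le_of_gt h2)
      · rw [h] at h4
        exact Nat.eq_of_mul_eq_mul_left hp.out.pos (by rw [h4, mul_one])
    rwa [relIndex_eq_one] at h5
  have hFg : F ≤ zpowers y ⊔ Z := by
    have h1 : Z.relIndex F = p := by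
      rw [hZ, inf_relIndex_right, ← relIndex_sup_right F E, sup_comm, hsup, relIndex_top_right, hEi]
    have h2 : Z < zpowers y ⊔ Z := lt_of_le_of_ne le_sup_right (fun h => by
      have : y ∈ Z := by rw [h]; exact mem_sup_left (mem_zpowers y)
      exact hyE this.1)
    have h3 : zpowers y ⊔ Z ≤ F := sup_le (by rwa [zpowers_le]) hZF
    have h4 := relIndex_mul_relIndex _ _ _ h2.le h3
    rw [h1] at h4
    have h5 : (zpowers y ⊔ Z).relIndex F = 1 := by
      rcases (Nat.dvd_prime hp.out).mp ⟨_, h4.symm⟩ with h | h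
      · rw [relIndex_eq_one] at h
        exact absurd h (not_le_of_gt h2)
      · rw [h] at h4
        exact Nat.eq_of_mul_eq_mul_left hp.out.pos (by rw [h4, mul_one])
    rwa [relIndex_eq_one] at h5
  set c := x * y * x⁻¹ * y⁻¹ with hc
  have hcZ : c ∈ Z := by
    refine ⟨?_, ?_⟩
    · show x * y * x⁻¹ * y⁻¹ ∈ E
      have : x * y * x⁻¹ * y⁻¹ = x * (y * x⁻¹ * y⁻¹) := by group
      rw [this]
      exact mul_mem hxE (hEn.conj_mem _ (inv_mem hxE) y)
    · show x * y * x⁻¹ * y⁻¹ ∈ F
      exact mul_mem (hFn.conj_mem _ hyF x) (inv_mem hyF)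
  have hcc := hcen hcZ
  have hcp : c ^ p = 1 := by
    have h1 : x * y * x⁻¹ = c * y := by rw [hc]; group
    have h2 := pow_conj h1 (mem_center_iff.mp hcc x) p
    have h3 : x ^ p ∈ Z := ⟨pow_mem hxE p, by rw [← hFi]; exact pow_index_mem F x⟩
    have h4 : x ^ p * y = y * x ^ p := (mem_center_iff.mp (hcen h3) y).symm
    rw [h4] at h2
    have h5 : y = c ^ p * y := by
      calc y = y * x ^ p * (x ^ p)⁻¹ := by group
        _ = c ^ p * y := h2
    have h6 : (1 : G) * y = c ^ p * y := by rw [one_mul]; exact h5
    exact (mul_right_cancel h6).symm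
  let C := zpowers c
  have hCcen : C ≤ center G := by rw [zpowers_le]; exact hcc
  have hCn : C.Normal := by
    constructor
    intro a ha g
    have h1 : g * a * g⁻¹ = a := by
      rw [mem_center_iff.mp (hCcen ha) g]; group
    rw [h1]; exact ha
  let π := QuotientGroup.mk' C
  have hπ : ∀ z, z ∈ center G → π z ∈ center (G ⧸ C) := by
    intro z hz
    rw [mem_center_iff]
    intro g
    obtain ⟨g, rfl⟩ := QuotientGroup.mk'_surjective C g
    show π g * π z = π z * π g
    rw [← map_mul, mem_center_iff.mp hz g, map_mul]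
  have hxy : π x * π y = π y * π x := by
    have h1 : π c = 1 := by
      rw [← MonoidHom.mem_ker, QuotientGroup.ker_mk']; exact mem_zpowers c
    have h2 : π c = π x * π y * (π x)⁻¹ * (π y)⁻¹ := by rw [hc]; simp
    rw [h1] at h2
    calc π x * π y = (π x * π y * (π x)⁻¹ * (π y)⁻¹) * (π y * π x) := by group
      _ = π y * π x := by rw [← h2, one_mul]
  have hyc : y ∈ (centralizer ((E.map π : Subgroup (G ⧸ C)) : Set (G ⧸ C))).comap π := by
    have h1 : E.map π ≤ centralizer ({π y} : Set (G ⧸ C)) := by
      rw [map_le_iff_le_comap]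
      refine hEg.trans (sup_le ?_ ?_)
      · rw [zpowers_le, mem_comap, mem_centralizer_singleton_iff]
        exact hxy
      · intro z hz
        rw [mem_comap, mem_centralizer_singleton_iff]
        exact (mem_center_iff.mp (hπ z (hcen hz)) (π y)).symm
    rw [mem_comap, mem_centralizer_iff]
    intro e he
    have := h1 he
    rw [mem_centralizer_singleton_iff] at this
    exact this
  have hFE' : F ≤ (centralizer ((E.map π : Subgroup (G ⧸ C)) : Set (G ⧸ C))).comap π := by
    refine hFg.trans (sup_le (by rwa [zpowers_le]) ?_)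
    intro z hz
    rw [mem_comap, mem_centralizer_iff]
    intro e _
    exact (mem_center_iff.mp (hπ z (hcen hz)) e)
  have hle : _root_.commutator G ≤ C := by
    rw [_root_.commutator_def, commutator_le]
    have hab : ∀ g h : G, π g * π h = π h * π g := by
      have hEall : ∀ e ∈ E, ∀ g : G, π g * π e = π e * π g := by
        intro e he g
        have hg : g ∈ E ⊔ F := by rw [hsup]; trivial
        rw [← SetLike.mem_coe, Subgroup.mul_normal] at hg
        obtain ⟨e', he', f, hf, rfl⟩ := hg
        have h1 : π e * π f = π f * π e := (mem_centralizer_iff.mp (hFE' hf) (π e) ⟨e, he, rfl⟩)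
        have h2 : π e' * π e = π e * π e' := by rw [← map_mul, hE e' he' e he, map_mul]
        rw [map_mul, mul_assoc, ← h1, ← mul_assoc, h2, mul_assoc]
      intro g h
      have hg : g ∈ E ⊔ F := by rw [hsup]; trivial
      have hh : h ∈ E ⊔ F := by rw [hsup]; trivial
      rw [← SetLike.mem_coe, Subgroup.mul_normal] at hg hh
      obtain ⟨e, he, f, hf, rfl⟩ := hg
      obtain ⟨e', he', f', hf', rfl⟩ := hh
      have h1 : π f * π f' = π f' * π f := by rw [← map_mul, hF f hf f' hf', map_mul]
      have h2 := hEall e he (e' * f')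
      have h3 := hEall e' he' f
      simp only [map_mul] at h2 h3 ⊢
      calc π e * π f * (π e' * π f') = π e * (π f * π e') * π f' := by group
        _ = π e * (π e' * π f) * π f' := by rw [h3]
        _ = π e * π e' * (π f * π f') := by group
        _ = π e * π e' * (π f' * π f) := by rw [h1]
        _ = (π e * (π e' * π f')) * π f := by group
        _ = (π e' * π f' * π e) * π f := by rw [h2]
        _ = π e' * π f' * (π e * π f) := by group
    intro g _ h _
    have h1 : π ⁅g, h⁆ = 1 := by
      rw [commutatorElement_def, map_mul, map_mul, map_mul, map_inv, map_inv, hab g h]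
      group
    rw [← MonoidHom.mem_ker, QuotientGroup.ker_mk'] at h1
    exact h1
  have h1 : Nat.card C ∣ p := by
    rw [Nat.card_zpowers]; exact orderOf_dvd_of_pow_eq_one hcp
  exact (card_dvd_of_le hle).trans h1

universe u

theorem card_commutator_subgroup {G : Type*} [Group G] (H : Subgroup G) :
    Nat.card (⁅H, H⁆ : Subgroup G) = Nat.card (_root_.commutator H) := by
  rw [_root_.commutator_def, ← card_subtype H, map_commutator, ← MonoidHom.range_eq_map, range_subtype]

theorem card_mul_relIndex_eq {G : Type*} [Group G] {H K : Subgroup G} (h : H ≤ K) :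
    Nat.card H * H.relIndex K = Nat.card K := by
  rw [relIndex, ← Nat.card_congr (subgroupOfEquivOfLe h).toEquiv]
  exact (H.subgroupOf K).card_mul_index

theorem center_eq {Q : Type*} [Group Q] {E F : Subgroup Q} (hE : ∀ x ∈ E, ∀ y ∈ E, x * y = y * x)
    (hF : ∀ x ∈ F, ∀ y ∈ F, x * y = y * x) (hCE : centralizer (E : Set Q) ≤ E) (hCF : centralizer (F : Set Q) ≤ F)
    (hsup : E ⊔ F = ⊤) : center Q = E ⊓ F := by
  apply le_antisymm
  · exact le_inf ((center_le_centralizer _).trans hCE) ((center_le_centralizer _).trans hCF)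
  · intro z hz
    have h1 : E ⊔ F ≤ centralizer ({z} : Set Q) := by
      refine sup_le ?_ ?_
      · intro e he
        rw [mem_centralizer_singleton_iff]
        exact hE e he z hz.1
      · intro e he
        rw [mem_centralizer_singleton_iff]
        exact hF e he z hz.2
    rw [mem_center_iff]
    intro g
    have h2 : g ∈ E ⊔ F := by rw [hsup]; trivial
    exact mem_centralizer_singleton_iff.mp (h1 h2)

theorem tower (p : ℕ) [hp : Fact p.Prime] : ∀ (i : ℕ), 1 ≤ i → ∀ (Q : Type u) [Group Q] [Finite Q], IsPGroup p Q →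
    ∀ (E : Subgroup Q) (φ : MulAut Q), (∀ x ∈ E, ∀ y ∈ E, x * y = y * x) → centralizer (E : Set Q) ≤ E →
    (∀ K : Subgroup Q, E ≤ K → K ≠ ⊤ → K.relIndex (normalizer (K : Set Q)) = p) → E.index = p ^ i →
    E ⊔ E.map φ.toMonoidHom = ⊤ →
    (Subgroup.upperCentralSeries Q i).index = p ^ 2 ∧
      (∀ M : Subgroup Q, E ≤ M → M.index = p → Subgroup.upperCentralSeries Q i ≤ M) ∧
      Subgroup.upperCentralSeries Q (i + 1) = ⊤ := by
  intro i
  induction i with
  | zero => intro h; omega
  | succ i ih =>
  intro _ Q _ _ hQ E φ hE hCE hT hEi hsup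
  set F := E.map φ.toMonoidHom with hFdef
  have hF : ∀ x ∈ F, ∀ y ∈ F, x * y = y * x := by
    rintro _ ⟨x, hx, rfl⟩ _ ⟨y, hy, rfl⟩
    rw [← map_mul, hE x hx y hy, map_mul]
  have hCF : centralizer (F : Set Q) ≤ F := by
    intro x hx
    refine ⟨φ.symm x, ?_, φ.apply_symm_apply x⟩
    apply hCE
    rw [mem_centralizer_iff]
    intro e he
    apply φ.injective
    rw [map_mul, map_mul]
    have h1 := mem_centralizer_iff.mp hx (φ e) ⟨e, he, rfl⟩
    have h2 : φ (φ.symm x) = x := φ.apply_symm_apply x
    rw [h2]; exact h1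
  have hFi : F.index = p ^ (i + 1) := by
    rw [← hEi, hFdef]
    exact index_map_equiv E φ
  have hEt : E ≠ ⊤ := by
    rintro h
    rw [h, index_top] at hEi
    exact (Nat.one_lt_pow (by omega) hp.out.one_lt).ne hEi
  have hcen := center_eq hE hF hCE hCF hsup
  rcases Nat.eq_zero_or_pos i with hi0 | hi0
  · -- base case
    subst hi0
    simp only [zero_add, pow_one] at hEi hFi
    have hne : E ≠ F := by
      intro h
      rw [← h, sup_idem] at hsup
      exact hEt hsup
    have hEn := H2.PGroup.normal_of_index_p hQ hEi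
    have hci : (center Q).index = p ^ 2 := by
      rw [hcen, ← relIndex_mul_index (inf_le_right : E ⊓ F ≤ F), inf_relIndex_right, hFi,
        ← relIndex_sup_right F E, sup_comm, hsup, relIndex_top_right, hEi, pow_two]
    rw [zero_add, Subgroup.upperCentralSeries_one]
    refine ⟨hci, ?_, ?_⟩
    · intro M hM _
      rw [hcen]; exact inf_le_left.trans hM
    · rw [← Subgroup.comap_upperCentralSeries_quotient_center 1, Subgroup.upperCentralSeries_one]
      have h1 : IsMulCommutative (Q ⧸ center Q) := IsPGroup.isMulCommutative_of_card_eq_prime_sq (p := p) hci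
      have h2 : center (Q ⧸ center Q) = ⊤ := by
        rw [eq_top_iff]
        intro x _
        rw [mem_center_iff]
        intro g
        exact h1.is_comm.comm g x
      rw [h2]; rfl
  · -- inductive step
    have hNC : NormalizerCondition Q := by
      have := hQ.isNilpotent
      exact Group.normalizerCondition_of_isNilpotent
    set N1 := normalizer (E : Set Q) with hN1
    have hEN1 : E ≤ N1 := le_normalizer
    have hN1E : E.relIndex N1 = p := hT E le_rfl hEt
    have hN1i : N1.index = p ^ i := by
      have h1 := relIndex_mul_index hEN1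
      rw [hN1E, hEi, pow_succ'] at h1
      exact Nat.eq_of_mul_eq_mul_left hp.out.pos h1
    have hN1t : N1 ≠ ⊤ := by
      intro h
      rw [h, index_top] at hN1i
      exact (Nat.one_lt_pow (by omega) hp.out.one_lt).ne hN1i
    obtain ⟨k, hkN2, hkN1⟩ := SetLike.exists_of_lt (hNC N1 (lt_top_iff_ne_top.mpr hN1t))
    have hEk : H22.Basic.cj k E ≤ N1 := by
      rw [← H22.Basic.cj_eq_of_mem_normalizer hkN2]
      exact H22.Basic.cj_mono hEN1
    have hD : Nat.card (⁅N1, N1⁆ : Subgroup Q) ∣ p := by
      rw [card_commutator_subgroup]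
      apply comm_card (p := p) (hQ.to_subgroup N1) (E := E.subgroupOf N1) (F := (H22.Basic.cj k E).subgroupOf N1)
      · intro x hx y hy
        exact Subtype.ext (hE x hx y hy)
      · intro x hx y hy
        obtain ⟨a, ha, ha'⟩ := (hx : (x : Q) ∈ H22.Basic.cj k E)
        obtain ⟨b, hb, hb'⟩ := (hy : (y : Q) ∈ H22.Basic.cj k E)
        apply Subtype.ext
        have e1 : (x : Q) = MulAut.conj k a := ha'.symm
        have e2 : (y : Q) = MulAut.conj k b := hb'.symm
        rw [Subgroup.coe_mul, Subgroup.coe_mul, e1, e2, ← map_mul, hE a ha b hb, map_mul]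
      · exact hN1E
      · have h1 : (H22.Basic.cj k E).relIndex N1 = p := by
          rw [← hN1E]
          have h2 := card_mul_relIndex_eq (H := H22.Basic.cj k E) (K := N1) hEk
          have h3 := card_mul_relIndex_eq (H := E) (K := N1) hEN1
          rw [H22.Basic.card_cj] at h2
          exact Nat.eq_of_mul_eq_mul_left Nat.card_pos (h2.trans h3.symm)
        exact h1
      · intro h
        have h1 : H22.Basic.cj k E = E := by
          have h2 := congrArg (Subgroup.map N1.subtype) h
          rw [subgroupOf_map_subtype, subgroupOf_map_subtype, inf_eq_left.mpr hEN1, inf_eq_left.mpr hEk] at h2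
          exact h2.symm
        exact hkN1 (H22.Basic.mem_normalizer_iff_cj.mpr h1)
    set Z := center Q with hZ
    have hZE : Z ≤ E := by rw [hcen]; exact inf_le_left
    let π := QuotientGroup.mk' Z
    have hπs : Function.Surjective π := QuotientGroup.mk'_surjective Z
    have hπk : π.ker = Z := QuotientGroup.ker_mk' Z
    -- elements commuting with E mod Z
    have hmodE : ∀ c : Q, (∀ e ∈ E, c * e * c⁻¹ * e⁻¹ ∈ Z) → c ∈ N1 := by
      intro c hc
      apply H22.Basic.mem_normalizer_of_cj_le
      rintro _ ⟨e, he, rfl⟩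
      show c * e * c⁻¹ ∈ E
      have : c * e * c⁻¹ = (c * e * c⁻¹ * e⁻¹) * e := by group
      rw [this]
      exact mul_mem (hZE (hc e he)) he
    have hDZ : ⁅N1, N1⁆ ≤ Z := by
      by_contra hnot
      have hinf : ⁅N1, N1⁆ ⊓ Z = ⊥ := by
        have h1 : Nat.card (⁅N1, N1⁆ ⊓ Z : Subgroup Q) ∣ p := (card_dvd_of_le inf_le_left).trans hD
        rcases (Nat.dvd_prime hp.out).mp h1 with h | h
        · rwa [card_eq_one] at h
        · exfalso
          apply hnot
          have h2 : ⁅N1, N1⁆ ⊓ Z = ⁅N1, N1⁆ :=
            H22.Basic.eq_of_le_of_card_le inf_le_left (by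
              rw [h]; exact Nat.le_of_dvd hp.out.pos hD)
          rw [← h2]; exact inf_le_right
      have hZE2 : ∀ z : Q, (∀ g : Q, z * g * z⁻¹ * g⁻¹ ∈ Z) → z ∈ E := by
        intro z hz
        have h1 : z ∈ N1 := hmodE z (fun e _ => hz e)
        apply hCE
        rw [mem_centralizer_iff]
        intro e he
        have h2 : z * e * z⁻¹ * e⁻¹ ∈ ⁅N1, N1⁆ ⊓ Z := ⟨commutator_mem_commutator h1 (hEN1 he), hz e⟩
        rw [hinf, mem_bot] at h2
        calc e * z = (z * e * z⁻¹ * e⁻¹)⁻¹ * (z * e) := by group
          _ = z * e := by rw [h2]; simp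
      have hnt : Nontrivial (Q ⧸ Z) := by
        rw [QuotientGroup.nontrivial_iff]
        intro h
        exact hEt (top_le_iff.mp (h ▸ hZE))
      have hcnt : Nontrivial (center (Q ⧸ Z)) := (hQ.to_quotient Z).center_nontrivial
      obtain ⟨zb, hzb⟩ := exists_ne (1 : center (Q ⧸ Z))
      obtain ⟨z, hz⟩ := hπs (zb : Q ⧸ Z)
      apply hzb
      apply Subtype.ext
      rw [← hz]
      show π z = 1
      rw [← MonoidHom.mem_ker, hπk]
      have hzg : ∀ g : Q, z * g * z⁻¹ * g⁻¹ ∈ Z := by
        intro g
        rw [← hπk, MonoidHom.mem_ker, map_mul, map_mul, map_mul, map_inv, map_inv, hz]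
        have := mem_center_iff.mp zb.2 (π g)
        rw [← this]; group
      rw [hcen]
      refine ⟨hZE2 z hzg, ?_⟩
      refine ⟨φ.symm z, hZE2 _ ?_, φ.apply_symm_apply z⟩
      intro g
      have h1 := hzg (φ g)
      have h2 : φ (φ.symm z * g * (φ.symm z)⁻¹ * g⁻¹) = z * φ g * z⁻¹ * (φ g)⁻¹ := by
        simp only [map_mul, map_inv]
        have h2 : φ (φ.symm z) = z := φ.apply_symm_apply z
        rw [h2]
      rw [← h2] at h1
      rw [mem_center_iff] at h1 ⊢
      intro y
      have h3 := h1 (φ y)
      rw [← map_mul, ← map_mul] at h3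
      exact φ.injective h3
    -- pass to the quotient
    have hmap : Z.map (φ : Q →* Q) = Z := by
      have : Z.Characteristic := inferInstance
      exact (characteristic_iff_map_eq.mp this) φ
    let ψ : MulAut (Q ⧸ Z) := QuotientGroup.congr Z Z φ hmap
    have hψ : ∀ x : Q, ψ (π x) = π (φ x) := fun x => rfl
    have key := ih hi0 (Q ⧸ Z) (hQ.to_quotient Z) (N1.map π) ψ ?_ ?_ ?_ ?_ ?_
    · obtain ⟨k1, k2, k3⟩ := key
      refine ⟨?_, ?_, ?_⟩
      · rw [← Subgroup.comap_upperCentralSeries_quotient_center i, index_comap_of_surjective _ hπs, k1]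
      · intro M hEM hM
        have hN1M : N1 ≤ M := by
          have hMne : M ≠ E := by
            rintro rfl
            rw [hM] at hEi
            have h1 := Nat.pow_right_injective hp.out.two_le (show p ^ 1 = p ^ (i + 1) by rw [pow_one]; exact hEi)
            omega
          have hEM' : E < M := lt_of_le_of_ne hEM hMne.symm
          -- E < N_M(E)
          have h1 : E < M ⊓ N1 := by
            refine lt_of_le_of_ne (le_inf hEM hEN1) ?_
            intro h
            have hMp : IsPGroup p M := hQ.to_subgroup M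
            have hNCM : NormalizerCondition M := by
              have := hMp.isNilpotent
              exact Group.normalizerCondition_of_isNilpotent
            have h2 : E.subgroupOf M < ⊤ := by
              rw [lt_top_iff_ne_top]
              intro h3
              rw [subgroupOf_eq_top] at h3
              exact hMne (le_antisymm h3 hEM)
            obtain ⟨y, hy, hyE⟩ := SetLike.exists_of_lt (hNCM _ h2)
            apply hyE
            rw [mem_subgroupOf, h]
            refine ⟨y.2, ?_⟩
            rw [hN1]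
            apply H22.Basic.mem_normalizer_of_cj_le
            rintro _ ⟨e, he, rfl⟩
            have h3 := (mem_normalizer_iff.mp hy ⟨e, hEM he⟩).mp he
            exact h3
          have h2 := relIndex_mul_relIndex _ _ _ h1.le inf_le_right
          rw [hN1E] at h2
          rcases (Nat.dvd_prime hp.out).mp ⟨_, h2.symm⟩ with h | h
          · rw [relIndex_eq_one] at h
            exact absurd h (not_le_of_gt h1)
          · rw [h] at h2
            have h3 : (M ⊓ N1).relIndex N1 = 1 := Nat.eq_of_mul_eq_mul_left hp.out.pos (by rw [h2, mul_one])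
            rw [relIndex_eq_one] at h3
            exact h3.trans inf_le_left
        have hZM : Z ≤ M := hZE.trans hEM
        have h1 := k2 (M.map π) (map_mono hN1M) (by rw [index_map_eq M hπs (by rw [hπk]; exact hZM), hM])
        rw [← Subgroup.comap_upperCentralSeries_quotient_center i]
        have h2 := comap_mono (f := π) h1
        rwa [comap_map_eq, hπk, sup_eq_left.mpr hZM] at h2
      · rw [← Subgroup.comap_upperCentralSeries_quotient_center (i + 1), k3]; rfl
    · -- abelian
      rintro _ ⟨x, hx, rfl⟩ _ ⟨y, hy, rfl⟩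
      have h1 : π (x * y * x⁻¹ * y⁻¹) = 1 := by
        rw [← MonoidHom.mem_ker, hπk]
        exact hDZ (commutator_mem_commutator hx hy)
      have h2 : π (x * y * x⁻¹ * y⁻¹) = π x * π y * (π x)⁻¹ * (π y)⁻¹ := by simp
      rw [h1] at h2
      calc π x * π y = (π x * π y * (π x)⁻¹ * (π y)⁻¹) * (π y * π x) := by group
        _ = π y * π x := by rw [← h2, one_mul]
    · -- self-centralizing
      intro cb hcb
      obtain ⟨c, rfl⟩ := hπs cb
      refine ⟨c, hmodE c ?_, rfl⟩
      intro e he
      rw [← hπk, MonoidHom.mem_ker]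
      have h1 := mem_centralizer_iff.mp hcb (π e) ⟨e, hEN1 he, rfl⟩
      rw [map_mul, map_mul, map_mul, map_inv, map_inv, ← h1]
      group
    · -- tower condition
      intro K hK hKt
      have h1 : N1 ≤ K.comap π := map_le_iff_le_comap.mp hK
      have h2 : K.comap π ≠ ⊤ := by
        intro h
        apply hKt
        have h3 := congrArg (Subgroup.map π) h
        rw [map_comap_eq_self_of_surjective hπs, map_top_of_surjective π hπs] at h3
        exact h3
      have h3 := hT (K.comap π) (hEN1.trans h1) h2
      rw [← comap_normalizer_eq_of_surjective K hπs, relIndex_comap, map_comap_eq_self_of_surjective hπs] at h3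
      exact h3
    · rw [index_map_eq N1 hπs (by rw [hπk]; exact hZE.trans hEN1), hN1i]
    · rw [eq_top_iff, ← map_top_of_surjective π hπs, ← hsup, Subgroup.map_sup]
      refine sup_le_sup (map_mono hEN1) ?_
      rintro _ ⟨_, ⟨e, he, rfl⟩, rfl⟩
      exact ⟨π e, ⟨e, hEN1 he, rfl⟩, rfl⟩

end Cfsg.Agent.H22.Soft
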