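import Cfsg.Agent.H19_Rank1
import Cfsg.Agent.H23_PBasic
import Cfsg.Agent.H1_Nilp

/-!
Generator counts of 2-groups.
-/

set_option autoImplicit false
set_option linter.unusedSectionVars false

namespace Cfsg.Agent.H22.TG

open Subgroup Cfsg
open scoped commutatorElement

universe u v

/-- generated by at most `k` elements -/
def Gn (k : ℕ) (P : Type*) [Group P] : Prop := ∃ S : Finset P, S.card ≤ k ∧ Subgroup.closure (S : Set P) = ⊤

theorem Gn.mono {k l : ℕ} {P : Type*} [Group P] (h : Gn k P) (hkl : k ≤ l) : Gn l P := by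
  obtain ⟨S, hS, hc⟩ := h
  exact ⟨S, hS.trans hkl, hc⟩

/-- extensions -/
theorem Gn.ext {k l : ℕ} {P : Type*} {Q : Type*} [Group P] [Group Q] (f : P →* Q) (h1 : Gn k f.range) (h2 : Gn l f.ker) :
    Gn (k + l) P := by
  classical
  obtain ⟨S, hS, hSc⟩ := h1
  obtain ⟨T, hT, hTc⟩ := h2
  have hsurj : ∀ y : f.range, ∃ x : P, f x = y := fun y => y.2
  choose g hg using hsurj
  refine ⟨S.image g ∪ T.image (Subtype.val : f.ker → P), ?_, ?_⟩
  · exact (Finset.card_union_le _ _).trans (Nat.add_le_add (Finset.card_image_le.trans hS) (Finset.card_image_le.trans hT))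
  · set C := closure ((S.image g ∪ T.image (Subtype.val : f.ker → P) : Finset P) : Set P) with hC
    have hker : f.ker ≤ C := by
      have h3 : (closure (T : Set f.ker)).map f.ker.subtype ≤ C := by
        rw [MonoidHom.map_closure, closure_le]
        rintro _ ⟨x, hx, rfl⟩
        apply Subgroup.subset_closure
        rw [Finset.coe_union]
        right
        rw [Finset.coe_image]
        exact ⟨x, hx, rfl⟩
      rw [hTc, ← MonoidHom.range_eq_map, Subgroup.range_subtype] at h3
      exact h3
    have hmap : ∀ y : f.range, ∃ c ∈ C, f c = y := by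
      intro y
      have hy : y ∈ closure (S : Set f.range) := by rw [hSc]; exact mem_top y
      induction hy using closure_induction with
      | mem y hy =>
        refine ⟨g y, Subgroup.subset_closure ?_, hg y⟩
        rw [Finset.coe_union]
        left
        rw [Finset.coe_image]
        exact ⟨y, hy, rfl⟩
      | one => exact ⟨1, C.one_mem, by rw [map_one]; rfl⟩
      | mul a b _ _ ha hb =>
        obtain ⟨c, hc, hca⟩ := ha
        obtain ⟨d, hd, hdb⟩ := hb
        exact ⟨c * d, C.mul_mem hc hd, by rw [map_mul, hca, hdb]; rfl⟩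
      | inv a _ ha =>
        obtain ⟨c, hc, hca⟩ := ha
        exact ⟨c⁻¹, C.inv_mem hc, by rw [map_inv, hca]; rfl⟩
    rw [eq_top_iff]
    rintro x -
    obtain ⟨c, hc, hcx⟩ := hmap ⟨f x, x, rfl⟩
    have h3 : c⁻¹ * x ∈ f.ker := by
      rw [MonoidHom.mem_ker, map_mul, map_inv, hcx, inv_mul_cancel]
    have h4 := C.mul_mem hc (hker h3)
    rwa [mul_inv_cancel_left] at h4

/-- subgroups of index two -/
theorem Gn.index_two {k : ℕ} {P : Type*} [Group P] {H : Subgroup P} (h : Gn k H) {x : P}
    (hx : ∀ y : P, y ∈ H ∨ y * x⁻¹ ∈ H) : Gn (k + 1) P := by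
  classical
  obtain ⟨S, hS, hSc⟩ := h
  refine ⟨insert x (S.image (Subtype.val : H → P)), ?_, ?_⟩
  · exact (Finset.card_insert_le _ _).trans (Nat.add_le_add_right (Finset.card_image_le.trans hS) 1)
  · set C := closure ((insert x (S.image (Subtype.val : H → P)) : Finset P) : Set P) with hC
    have hH : H ≤ C := by
      have h3 : (closure (S : Set H)).map H.subtype ≤ C := by
        rw [MonoidHom.map_closure, closure_le]
        rintro _ ⟨y, hy, rfl⟩
        apply Subgroup.subset_closure
        rw [Finset.coe_insert, Finset.coe_image]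
        exact Or.inr ⟨y, hy, rfl⟩
      rw [hSc, ← MonoidHom.range_eq_map, Subgroup.range_subtype] at h3
      exact h3
    have hxC : x ∈ C := Subgroup.subset_closure (by rw [Finset.coe_insert]; exact Or.inl rfl)
    rw [eq_top_iff]
    rintro y -
    rcases hx y with h1 | h1
    · exact hH h1
    · have := C.mul_mem (hH h1) hxC
      rwa [inv_mul_cancel_right] at this

theorem Gn.of_cyclic {P : Type*} [Group P] (h : IsCyclic P) : Gn 1 P := by
  classical
  obtain ⟨g, hg⟩ := h.exists_generator
  refine ⟨{g}, by simp, ?_⟩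
  rw [Finset.coe_singleton, ← zpowers_eq_closure, eq_top_iff]
  rintro x -
  exact hg x

/-- the Frattini index -/
theorem Gn.frattini {k : ℕ} {P : Type*} [Group P] [Finite P] (hP : IsPGroup 2 P) (h : Gn k P) :
    (_root_.frattini P).index ≤ 2 ^ k := by
  classical
  haveI : Fact (Nat.Prime 2) := ⟨Nat.prime_two⟩
  obtain ⟨S, hS, hSc⟩ := h
  have hn : (_root_.frattini P).Normal := inferInstance
  have hcomm : commutator P ≤ _root_.frattini P := (H1.Nilp.commutator_le_frattini hP).1
  have hsq : ∀ x : P, x ^ 2 ∈ _root_.frattini P := (H1.Nilp.commutator_le_frattini hP).2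
  -- the quotient is commutative of exponent two
  set Q := P ⧸ _root_.frattini P with hQ
  have hQc : ∀ a b : Q, a * b = b * a := by
    intro a b
    induction a using QuotientGroup.induction_on with
    | H a =>
      induction b using QuotientGroup.induction_on with
      | H b =>
        rw [← QuotientGroup.mk_mul, ← QuotientGroup.mk_mul, QuotientGroup.eq]
        have h1 : ⁅b⁻¹, a⁻¹⁆ ∈ commutator P := commutator_mem_commutator (mem_top _) (mem_top _)
        have h2 := hcomm h1
        have h3 : (a * b)⁻¹ * (b * a) = ⁅b⁻¹, a⁻¹⁆ := by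
          rw [commutatorElement_def]; group
        rw [h3]; exact h2
  have hQ2 : ∀ a : Q, a ^ 2 = 1 := by
    intro a
    induction a using QuotientGroup.induction_on with
    | H a =>
      rw [← QuotientGroup.mk_pow]
      exact (QuotientGroup.eq_one_iff _).mpr (hsq a)
  rw [Subgroup.index_eq_card]
  -- products of subsets
  -- commutative group structure
  letI : CommGroup Q := { (inferInstance : Group Q) with mul_comm := hQc }
  let g : Finset P → Q := fun T => ∏ x ∈ T, (QuotientGroup.mk' (_root_.frattini P) x)
  have hsurj : Function.Surjective (fun T : S.powerset => g T.1) := by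
    intro y
    obtain ⟨x, rfl⟩ := QuotientGroup.mk'_surjective (_root_.frattini P) y
    have hx : x ∈ closure (S : Set P) := by rw [hSc]; exact mem_top x
    suffices h0 : ∃ T ⊆ S, g T = QuotientGroup.mk' (_root_.frattini P) x by
      obtain ⟨T, hT, hT2⟩ := h0
      exact ⟨⟨T, Finset.mem_powerset.mpr hT⟩, hT2⟩
    have hmul : ∀ T T' : Finset P, g T * g T' = g (symmDiff T T') := by
      intro T T'
      have h1 : T = (T \ T') ∪ (T ∩ T') := (Finset.sdiff_union_inter T T').symm
      have h2 : T' = (T' \ T) ∪ (T ∩ T') := by rw [Finset.inter_comm]; exact (Finset.sdiff_union_inter T' T).symm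
      have h3 : g T = g (T \ T') * g (T ∩ T') := by
        conv_lhs => rw [h1]
        exact Finset.prod_union (Finset.disjoint_sdiff_inter T T')
      have h4 : g T' = g (T' \ T) * g (T ∩ T') := by
        conv_lhs => rw [h2]
        refine Finset.prod_union ?_
        rw [Finset.inter_comm]
        exact Finset.disjoint_sdiff_inter T' T
      have h5 : g (symmDiff T T') = g (T \ T') * g (T' \ T) := by
        have : symmDiff T T' = (T \ T') ∪ (T' \ T) := rfl
        rw [this]
        exact Finset.prod_union disjoint_sdiff_sdiff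
      have h6 : g (T ∩ T') * g (T ∩ T') = 1 := by rw [← pow_two]; exact hQ2 _
      rw [h3, h4, h5]
      calc g (T \ T') * g (T ∩ T') * (g (T' \ T) * g (T ∩ T'))
          = g (T \ T') * g (T' \ T) * (g (T ∩ T') * g (T ∩ T')) := by
            rw [mul_assoc, mul_assoc, mul_left_comm (g (T ∩ T'))]
        _ = _ := by rw [h6, mul_one]
    induction hx using closure_induction with
    | mem x hx => exact ⟨{x}, Finset.singleton_subset_iff.mpr hx, Finset.prod_singleton _ _⟩
    | one => exact ⟨∅, Finset.empty_subset _, by rw [map_one]; exact Finset.prod_empty⟩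
    | mul a b _ _ ha hb =>
      obtain ⟨T, hT, hTa⟩ := ha
      obtain ⟨T', hT', hTb⟩ := hb
      refine ⟨symmDiff T T', ?_, by rw [map_mul, ← hTa, ← hTb, hmul]⟩
      intro z hz
      rcases Finset.mem_symmDiff.mp hz with h1 | h1
      · exact hT h1.1
      · exact hT' h1.1
    | inv a _ ha =>
      obtain ⟨T, hT, hTa⟩ := ha
      refine ⟨T, hT, ?_⟩
      rw [hTa, map_inv, eq_inv_iff_mul_eq_one, ← pow_two]
      exact hQ2 _
  calc Nat.card Q ≤ Nat.card S.powerset := Nat.card_le_card_of_surjective _ hsurj
    _ = 2 ^ S.card := by rw [Nat.card_eq_fintype_card, Fintype.card_coe, Finset.card_powerset]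
    _ ≤ 2 ^ k := Nat.pow_le_pow_right (by norm_num) hS

end Cfsg.Agent.H22.TG
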