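import Cfsg.Agent.H22_TG1

/-!
2-groups: two generators, or a normal four-group with central involution.
-/

set_option autoImplicit false
set_option linter.unusedSectionVars false

namespace Cfsg.Agent.H22.TG

open Subgroup Cfsg
open scoped commutatorElement

universe u v

theorem mem_zpowers_sq {P : Type*} [Group P] {z x : P} (hz : z * z = 1) (hx : x ∈ zpowers z) : x = 1 ∨ x = z := by
  obtain ⟨i, rfl⟩ := mem_zpowers_iff.mp hx
  rcases Int.even_or_odd' i with ⟨l, hl | hl⟩
  · left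
    rw [hl, zpow_mul, zpow_two, hz, one_zpow]
  · right
    rw [hl, zpow_add, zpow_mul, zpow_two, hz, one_zpow, one_mul, zpow_one]

theorem ex_ne_one {G : Type*} [Group G] {H : Subgroup G} (h : H ≠ ⊥) : ∃ a ∈ H, a ≠ 1 := by
  obtain ⟨a, ha⟩ := Subgroup.ne_bot_iff_exists_ne_one.mp h
  exact ⟨a, a.2, fun h1 => ha (Subtype.ext h1)⟩

theorem comm_cyclic {P : Type u} [Group P] [Finite P] (hc : ∀ A : Subgroup P, A.Normal → IsMulCommutative A → IsCyclic A)
    (h : ∀ x y : P, x * y = y * x) : IsCyclic P := by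
  have h1 : IsCyclic (⊤ : Subgroup P) := hc ⊤ inferInstance ⟨⟨fun x y => Subtype.ext (h x y)⟩⟩
  exact isCyclic_of_surjective (Subgroup.topEquiv (G := P)) (Subgroup.topEquiv (G := P)).surjective

theorem gn_two {P : Type u} [Group P] [Finite P] (hP : IsPGroup 2 P)
    (hc : ∀ A : Subgroup P, A.Normal → IsMulCommutative A → IsCyclic A) : Gn 2 P := by
  rcases H19.Rank1.cyclic_or_index_two hP hc with h | ⟨C, hC, hi, _, _⟩
  · exact (Gn.of_cyclic h).mono (by norm_num)
  · have hne : ∃ b : P, b ∉ C := by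
      by_contra hcon
      push Not at hcon
      have : C = ⊤ := by rw [eq_top_iff]; rintro x -; exact hcon x
      rw [this, Subgroup.index_top] at hi
      norm_num at hi
    obtain ⟨b, hb⟩ := hne
    refine (Gn.of_cyclic hC).index_two (x := b) ?_
    intro y
    rcases H19.Rank1.mem_or_of_index_two hi hb y with h1 | ⟨w, hw, rfl⟩
    · exact Or.inl h1
    · right
      rwa [mul_inv_cancel_right]

theorem dichotomy {P : Type u} [Group P] [Finite P] (hP : IsPGroup 2 P) :
    (∀ A : Subgroup P, A.Normal → IsMulCommutative A → IsCyclic A) ∨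
      ∃ z b : P, z ≠ 1 ∧ z * z = 1 ∧ (∀ x : P, x * z = z * x) ∧ b * b = 1 ∧ b ≠ 1 ∧ b ≠ z ∧
        ∀ x : P, x * b * x⁻¹ = b ∨ x * b * x⁻¹ = b * z := by
  classical
  haveI : Fact (Nat.Prime 2) := ⟨Nat.prime_two⟩
  by_cases hc : ∀ A : Subgroup P, A.Normal → IsMulCommutative A → IsCyclic A
  · exact Or.inl hc
  right
  push Not at hc
  obtain ⟨A, hAn, hAc, hA⟩ := hc
  haveI : Group.IsNilpotent P := hP.isNilpotent
  have hAcomm : ∀ a ∈ A, ∀ b ∈ A, a * b = b * a := fun a ha b hb =>
    congrArg Subtype.val (hAc.is_comm.comm (⟨a, ha⟩ : A) ⟨b, hb⟩)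
  let E : Subgroup P :=
    { carrier := {a | a ∈ A ∧ a * a = 1}
      one_mem' := ⟨A.one_mem, one_mul 1⟩
      mul_mem' := by
        rintro a b ⟨ha, ha2⟩ ⟨hb, hb2⟩
        refine ⟨A.mul_mem ha hb, ?_⟩
        calc a * b * (a * b) = a * (b * a) * b := by group
          _ = a * (a * b) * b := by rw [hAcomm a ha b hb]
          _ = (a * a) * (b * b) := by group
          _ = 1 := by rw [ha2, hb2, one_mul]
      inv_mem' := by
        rintro a ⟨ha, ha2⟩
        refine ⟨A.inv_mem ha, ?_⟩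
        rw [← mul_inv_rev, ha2, inv_one] }
  have hE : ∀ a : P, a ∈ E ↔ a ∈ A ∧ a * a = 1 := fun a => Iff.rfl
  have hEn : E.Normal := by
    refine ⟨?_⟩
    intro a ha g
    rw [hE] at ha ⊢
    refine ⟨hAn.conj_mem a ha.1 g, ?_⟩
    calc g * a * g⁻¹ * (g * a * g⁻¹) = g * (a * a) * g⁻¹ := by group
      _ = 1 := by rw [ha.2]; group
  -- two subgroups of order two
  have h2 : ∃ H K : Subgroup A, Nat.card H = 2 ∧ Nat.card K = 2 ∧ H ≠ K := by
    by_contra hcon
    push Not at hcon
    apply hA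
    exact H23.PBasic.cyclic_of_unique (hP.to_subgroup A) (Or.inr (fun a b => hAc.is_comm.comm a b)) hcon
  obtain ⟨H, K, hH, hK, hHK⟩ := h2
  have hinE : ∀ H : Subgroup A, Nat.card H = 2 → ∀ a ∈ H, ((a : A) : P) ∈ E := by
    intro H hH a ha
    rw [hE]
    refine ⟨a.2, ?_⟩
    have h1 : (⟨a, ha⟩ : H) ^ Nat.card H = 1 := pow_card_eq_one'
    rw [hH, pow_two] at h1
    have h3 := congrArg Subtype.val (congrArg Subtype.val h1)
    exact h3
  have hEb : E ≠ ⊥ := by
    intro h0
    have h1 : H ≠ ⊥ := by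
      intro h3
      rw [h3, Subgroup.card_bot] at hH
      norm_num at hH
    obtain ⟨a, ha, ha1⟩ := ex_ne_one h1
    have h3 := hinE H hH a ha
    rw [h0, mem_bot] at h3
    exact ha1 (Subtype.ext h3)
  have h3 := H1.Nilp.normal_inf_center_ne_bot E hEb
  obtain ⟨z, ⟨hzE, hzc⟩, hz1⟩ := ex_ne_one h3
  have hz2 : z * z = 1 := hzE.2
  have hzc' : ∀ x : P, x * z = z * x := fun x => (Subgroup.mem_center_iff.mp hzc) x
  set Z := zpowers z with hZ
  have hZn : Z.Normal := by
    refine ⟨?_⟩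
    intro a ha g
    rcases mem_zpowers_sq hz2 ha with rfl | rfl
    · simp
    · rw [hzc' g, mul_inv_cancel_right]
      exact mem_zpowers _
  have hZE : ¬ E ≤ Z := by
    intro hle
    apply hHK
    have key : ∀ H : Subgroup A, Nat.card H = 2 → ∀ a : A, a ∈ H ↔ (a = 1 ∨ (a : P) = z) := by
      intro H hH a
      have h4 : ∀ a ∈ H, a = 1 ∨ (a : P) = z := by
        intro a ha
        rcases mem_zpowers_sq hz2 (hle (hinE H hH a ha)) with h5 | h5
        · exact Or.inl (Subtype.ext h5)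
        · exact Or.inr h5
      refine ⟨h4 a, ?_⟩
      rintro (rfl | h5)
      · exact H.one_mem
      · have h6 : H ≠ ⊥ := by
          intro h7
          rw [h7, Subgroup.card_bot] at hH
          norm_num at hH
        obtain ⟨c, hc, hc1⟩ := ex_ne_one h6
        rcases h4 c hc with h7 | h7
        · exact absurd h7 hc1
        · have : a = c := Subtype.ext (h5.trans h7.symm)
          rw [this]; exact hc
    ext a
    rw [key H hH, key K hK]
  set Q := P ⧸ Z with hQ
  have hQn : Group.IsNilpotent Q := inferInstance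
  have hEQn : (E.map (QuotientGroup.mk' Z)).Normal := hEn.map _ (QuotientGroup.mk'_surjective Z)
  have hEQ : E.map (QuotientGroup.mk' Z) ≠ ⊥ := by
    rw [Ne, Subgroup.map_eq_bot_iff, QuotientGroup.ker_mk']
    exact hZE
  have h4 := H1.Nilp.normal_inf_center_ne_bot (E.map (QuotientGroup.mk' Z)) hEQ
  obtain ⟨b', ⟨⟨b, hbE, rfl⟩, hbc⟩, hb1⟩ := ex_ne_one h4
  have hbZ : b ∉ Z := fun h => hb1 ((QuotientGroup.eq_one_iff b).mpr h)
  refine ⟨z, b, hz1, hz2, hzc', hbE.2, ?_, ?_, ?_⟩
  · rintro rfl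
    exact hbZ Z.one_mem
  · rintro rfl
    exact hbZ (mem_zpowers _)
  · intro x
    have h5 := (Subgroup.mem_center_iff.mp hbc) (QuotientGroup.mk' Z x)
    have h6 : b⁻¹ * (x * b * x⁻¹) ∈ Z := by
      rw [← QuotientGroup.eq_one_iff]
      show QuotientGroup.mk' Z (b⁻¹ * (x * b * x⁻¹)) = 1
      rw [map_mul, map_mul, map_mul, map_inv, map_inv, h5]
      group
    rcases mem_zpowers_sq hz2 h6 with h7 | h7
    · left
      exact (inv_mul_eq_one.mp h7).symm
    · right
      exact inv_mul_eq_iff_eq_mul.mp h7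

end Cfsg.Agent.H22.TG
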