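import Cfsg.Agent.H22_TG2
import Cfsg.Agent.H18_NPC

/-!
Generators of linear 2-groups in odd characteristic.
-/

set_option autoImplicit false
set_option linter.unusedSectionVars false

namespace Cfsg.Agent.H22.TG

open Subgroup Cfsg
open scoped commutatorElement

universe u v

theorem Gn.surj {k : ℕ} {P : Type*} {Q : Type*} [Group P] [Group Q] (f : P →* Q) (hf : Function.Surjective f) (h : Gn k P) :
    Gn k Q := by
  classical
  obtain ⟨S, hS, hc⟩ := h
  refine ⟨S.image f, Finset.card_image_le.trans hS, ?_⟩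
  rw [Finset.coe_image, ← MonoidHom.map_closure, hc, ← MonoidHom.range_eq_map, MonoidHom.range_eq_top.mpr hf]

theorem Gn.ext' {k l : ℕ} {P : Type*} [Group P] {K : Subgroup P} [K.Normal] (h1 : Gn k (P ⧸ K)) (h2 : Gn l K) :
    Gn (k + l) P := by
  apply Gn.ext (QuotientGroup.mk' K)
  · rw [MonoidHom.range_eq_top.mpr (QuotientGroup.mk'_surjective K)]
    exact h1.surj (Subgroup.topEquiv (G := P ⧸ K)).symm.toMonoidHom (Subgroup.topEquiv (G := P ⧸ K)).symm.surjective
  · rw [QuotientGroup.ker_mk']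
    exact h2

section rep

variable {F : Type*} [Field F] {V : Type v} [AddCommGroup V] [Module F V] {P : Type u} [Group P]

/-- restriction to an invariant subspace -/
def res (ρ : P →* Module.End F V) (W : Submodule F V) (h : ∀ x : P, ∀ w ∈ W, ρ x w ∈ W) : P →* Module.End F W where
  toFun x := (ρ x).restrict (h x)
  map_one' := by
    ext w
    simp
  map_mul' x y := by
    ext w
    simp

/-- quotient by an invariant subspace -/
def quo (ρ : P →* Module.End F V) (W : Submodule F V) (h : ∀ x : P, ∀ w ∈ W, ρ x w ∈ W) : P →* Module.End F (V ⧸ W) where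
  toFun x := W.mapQ W (ρ x) (h x)
  map_one' := by
    ext w
    simp
  map_mul' x y := by
    ext w
    simp

theorem res_apply (ρ : P →* Module.End F V) (W : Submodule F V) (h : ∀ x : P, ∀ w ∈ W, ρ x w ∈ W) (x : P) (w : W) :
    (res ρ W h x w : V) = ρ x w := rfl

theorem mem_ker_res (ρ : P →* Module.End F V) (W : Submodule F V) (h : ∀ x : P, ∀ w ∈ W, ρ x w ∈ W) (x : P) :
    x ∈ (res ρ W h).ker ↔ ∀ w ∈ W, ρ x w = w := by
  rw [MonoidHom.mem_ker]
  constructor
  · intro h1 w hw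
    have h2 := congrArg (fun f : Module.End F W => ((f ⟨w, hw⟩ : W) : V)) h1
    exact h2
  · intro h1
    ext w
    exact h1 w w.2

theorem mem_ker_quo (ρ : P →* Module.End F V) (W : Submodule F V) (h : ∀ x : P, ∀ w ∈ W, ρ x w ∈ W) (x : P)
    (hx : quo ρ W h x = 1) (v : V) : ρ x v - v ∈ W := by
  have h2 := congrArg (fun f : Module.End F (V ⧸ W) => f (Submodule.Quotient.mk v)) hx
  have h3 : (Submodule.Quotient.mk (ρ x v) : V ⧸ W) = Submodule.Quotient.mk v := h2
  exact (Submodule.Quotient.eq W).mp h3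

/-- injective on the quotient by the kernel -/
theorem lift_injective {M : Type*} [Monoid M] (f : P →* M) :
    Function.Injective (QuotientGroup.lift f.ker f (fun _ h => h)) := by
  intro a b
  induction a using QuotientGroup.induction_on with
  | H a =>
    induction b using QuotientGroup.induction_on with
    | H b =>
      intro h
      have h1 : f a = f b := h
      rw [QuotientGroup.eq, MonoidHom.mem_ker, map_mul, ← h1, ← map_mul, inv_mul_cancel, map_one]

end rep

/-- the numerical condition -/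
def Cd (q n k : ℕ) : Prop := 2 ^ (k + 1) < q ^ n ∨ (q ^ n = 3 ∧ k ≤ 1)

theorem Cd.add {q n₁ n₂ k₁ k₂ : ℕ} (h1 : Cd q n₁ k₁) (h2 : Cd q n₂ k₂) : Cd q (n₁ + n₂) (k₁ + k₂) := by
  left
  have e1 : 2 * 2 ^ (k₁ + k₂ + 1) = 2 ^ (k₁ + 1) * 2 ^ (k₂ + 1) := by ring
  rw [pow_add q n₁ n₂]
  have p1 : 0 < 2 ^ (k₁ + 1) := by positivity
  have p2 : 0 < 2 ^ (k₂ + 1) := by positivity
  have e2 : 2 ^ (k₁ + k₂ + 1) = 2 ^ (k₁ + 1) * 2 ^ k₂ := by ring
  have e3 : 2 ^ (k₁ + k₂ + 1) = 2 ^ k₁ * 2 ^ (k₂ + 1) := by ring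
  rcases h1 with h1 | ⟨h1, h1'⟩ <;> rcases h2 with h2 | ⟨h2, h2'⟩
  · nlinarith
  · have h3 : 2 ^ k₂ ≤ 2 := by
      calc 2 ^ k₂ ≤ 2 ^ 1 := Nat.pow_le_pow_right (by norm_num) h2'
        _ = 2 := rfl
    rw [h2, e2]
    nlinarith
  · have h3 : 2 ^ k₁ ≤ 2 := by
      calc 2 ^ k₁ ≤ 2 ^ 1 := Nat.pow_le_pow_right (by norm_num) h1'
        _ = 2 := rfl
    rw [h1, e3]
    nlinarith
  · rw [h1, h2]
    calc 2 ^ (k₁ + k₂ + 1) ≤ 2 ^ 3 := Nat.pow_le_pow_right (by norm_num) (by omega)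
      _ < 3 * 3 := by norm_num

theorem Cd.imp {q m k₁ k₂ : ℕ} (h1 : Cd q m k₁) (h2 : Cd q m k₂) (h : q ^ m ≠ 3) : Cd q (m + m) (k₁ + k₂ + 1) := by
  left
  have h1' : 2 ^ (k₁ + 1) < q ^ m := h1.resolve_right (fun h3 => h h3.1)
  have h2' : 2 ^ (k₂ + 1) < q ^ m := h2.resolve_right (fun h3 => h h3.1)
  have e1 : 2 ^ (k₁ + k₂ + 1 + 1) = 2 ^ (k₁ + 1) * 2 ^ (k₂ + 1) := by ring
  rw [e1, pow_add q m m]
  exact Nat.mul_lt_mul'' h1' h2'

section main

variable {q : ℕ} [hq : Fact q.Prime]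

/-- unipotent elements of 2-power order are trivial in odd characteristic -/
theorem unip (hq2 : q ≠ 2) {V : Type v} [AddCommGroup V] [Module (ZMod q) V] {P : Type u} [Group P] [Finite P]
    (hP : IsPGroup 2 P) (ρ : P →* Module.End (ZMod q) V) (hρ : Function.Injective ρ) {x : P} {W : Submodule (ZMod q) V}
    (h1 : ∀ w ∈ W, ρ x w = w) (h2 : ∀ v : V, ρ x v - v ∈ W) : x = 1 := by
  have h3 : ∀ (n : ℕ) (v : V), ρ (x ^ n) v = v + (n : ZMod q) • (ρ x v - v) := by
    intro n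
    induction n with
    | zero => intro v; simp
    | succ n ih =>
      intro v
      rw [pow_succ', map_mul]
      show ρ x (ρ (x ^ n) v) = _
      rw [ih, map_add, map_smul, h1 _ (h2 v)]
      push_cast
      rw [add_smul, one_smul]
      abel
  have h4 : x ^ q = 1 := by
    apply hρ
    rw [map_one]
    ext v
    rw [h3, ZMod.natCast_self, zero_smul, add_zero]
    rfl
  obtain ⟨k, hk⟩ := hP x
  refine H18.NPC.eq_one_of_coprime ?_ h4 hk
  exact Nat.Coprime.pow_right k ((Nat.coprime_primes hq.out Nat.prime_two).mpr hq2)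

end main

end Cfsg.Agent.H22.TG
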