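import Cfsg.Agent.H22_TG3

/-!
Generators of linear 2-groups in odd characteristic: main induction.
-/

set_option autoImplicit false
set_option linter.unusedSectionVars false

namespace Cfsg.Agent.H22.TG

open Subgroup Cfsg
open scoped commutatorElement

universe u v

variable {q : ℕ} [hq : Fact q.Prime]

theorem zmod3 {p : ℕ} (hp : p = 3) : ∀ c : ZMod p, c ≠ 0 → c = 1 ∨ c = -1 := by
  subst hp
  decide

theorem main (hq2 : q ≠ 2) : ∀ (n : ℕ) (V : Type v) [AddCommGroup V] [Module (ZMod q) V] [Module.Finite (ZMod q) V]
    (P : Type u) [Group P] [Finite P] (ρ : P →* Module.End (ZMod q) V), IsPGroup 2 P → Function.Injective ρ → 1 ≤ n →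
    Module.finrank (ZMod q) V = n → ∃ k, Gn k P ∧ Cd q n k := by
  intro n
  induction n using Nat.strong_induction_on with
  | _ n ih =>
  intro V _ _ _ P _ _ ρ hP hρ hn1 hn
  have hq3 : 3 ≤ q := by
    have := hq.out.two_le
    omega
  by_cases hred : ∃ W : Submodule (ZMod q) V, W ≠ ⊥ ∧ W ≠ ⊤ ∧ ∀ x : P, ∀ w ∈ W, ρ x w ∈ W
  · -- reducible
    obtain ⟨W, hWb, hWt, hW⟩ := hred
    have e1 : 0 < Module.finrank (ZMod q) W := by
      rw [Nat.pos_iff_ne_zero, Ne, Submodule.finrank_eq_zero]
      exact hWb
    have e2 : Module.finrank (ZMod q) (V ⧸ W) + Module.finrank (ZMod q) W = n := by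
      rw [Submodule.finrank_quotient_add_finrank, hn]
    have e3 : Module.finrank (ZMod q) W < n := by
      rw [← hn]
      exact Submodule.finrank_lt hWt
    set K := (res ρ W hW).ker with hK
    have hKn : K.Normal := MonoidHom.normal_ker _
    obtain ⟨k₁, hk₁, hc₁⟩ := ih _ e3 W (P ⧸ K) (QuotientGroup.lift K (res ρ W hW) (fun _ h => h)) (hP.to_quotient K)
      (lift_injective _) e1 rfl
    obtain ⟨k₂, hk₂, hc₂⟩ := ih _ (by omega : Module.finrank (ZMod q) (V ⧸ W) < n) (V ⧸ W) K
      ((quo ρ W hW).comp K.subtype) (hP.to_subgroup K) (by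
        rw [injective_iff_map_eq_one]
        intro x hx
        apply Subtype.ext
        exact unip hq2 hP ρ hρ ((mem_ker_res ρ W hW x).mp x.2) (mem_ker_quo ρ W hW x hx)) (by omega) rfl
    refine ⟨k₁ + k₂, hk₁.ext' hk₂, ?_⟩
    have := hc₁.add hc₂
    rwa [add_comm (Module.finrank (ZMod q) W), e2] at this
  · push Not at hred
    have hirr : ∀ W : Submodule (ZMod q) V, (∀ x : P, ∀ w ∈ W, ρ x w ∈ W) → W = ⊥ ∨ W = ⊤ := by
      intro W hW
      by_contra hcon
      push Not at hcon
      obtain ⟨x, w, hw, hxw⟩ := hred W hcon.1 hcon.2
      exact hxw (hW x w hw)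
    rcases dichotomy hP with hc | ⟨z, b, hz1, hz2, hzc, hb2, hb1, hbz, hbc⟩
    · -- two generators
      rcases Nat.lt_or_ge n 2 with h2 | h2
      · have h3 : n = 1 := by omega
        subst h3
        have hcomm : ∀ x y : P, x * y = y * x := by
          intro x y
          apply hρ
          rw [map_mul, map_mul]
          obtain ⟨v, hv, hspan⟩ := finrank_eq_one_iff'.mp hn
          have hex : ∀ x : P, ∃ c : ZMod q, ∀ w : V, ρ x w = c • w := by
            intro x
            obtain ⟨c, hc⟩ := hspan (ρ x v)
            refine ⟨c, fun w => ?_⟩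
            obtain ⟨d, rfl⟩ := hspan w
            rw [map_smul, ← hc, smul_comm]
          obtain ⟨c, hc⟩ := hex x
          obtain ⟨d, hd⟩ := hex y
          ext w
          show ρ x (ρ y w) = ρ y (ρ x w)
          rw [hd, hc, hc, hd, smul_comm]
        refine ⟨1, Gn.of_cyclic (comm_cyclic hc hcomm), ?_⟩
        by_cases h4 : q = 3
        · right
          rw [h4]; norm_num
        · left
          have h5 : q ≠ 4 := by
            rintro rfl
            exact absurd hq.out (by norm_num)
          rw [pow_one]
          norm_num
          omega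
      · refine ⟨2, gn_two hP hc, ?_⟩
        left
        calc 2 ^ (2 + 1) < 3 ^ 2 := by norm_num
          _ ≤ 3 ^ n := Nat.pow_le_pow_right (by norm_num) h2
          _ ≤ q ^ n := Nat.pow_le_pow_left hq3 n
    · -- imprimitive
      have h2ne : (2 : ZMod q) ≠ 0 := by
        intro h0
        have h1 : ((2 : ℕ) : ZMod q) = 0 := by exact_mod_cast h0
        rw [ZMod.natCast_eq_zero_iff] at h1
        exact hq2 ((Nat.prime_dvd_prime_iff_eq hq.out Nat.prime_two).mp h1)
      have hzneg : ∀ v : V, ρ z v = -v := by
        have hker : (LinearMap.ker (ρ z - 1)) = ⊥ := by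
          rcases hirr (LinearMap.ker (ρ z - 1)) (by
            intro x w hw
            rw [LinearMap.mem_ker, LinearMap.sub_apply, sub_eq_zero] at hw ⊢
            show ρ z (ρ x w) = ρ x w
            have h1 : ρ z (ρ x w) = ρ (z * x) w := by rw [map_mul]; rfl
            rw [h1, ← hzc, map_mul]
            show ρ x (ρ z w) = ρ x w
            rw [hw]; rfl) with h1 | h1
          · exact h1
          · exfalso
            apply hz1
            apply hρ
            rw [map_one]
            rw [LinearMap.ker_eq_top, sub_eq_zero] at h1
            exact h1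
        intro v
        have h1 : ρ z v + v ∈ LinearMap.ker (ρ z - 1) := by
          rw [LinearMap.mem_ker, LinearMap.sub_apply, map_add]
          have h2 : ρ z (ρ z v) = v := by
            have : ρ z (ρ z v) = ρ (z * z) v := by rw [map_mul]; rfl
            rw [this, hz2, map_one]; rfl
          rw [h2]
          show v + ρ z v - (ρ z v + v) = 0
          abel
        rw [hker, Submodule.mem_bot] at h1
        exact eq_neg_of_add_eq_zero_left h1
      set Wp := LinearMap.ker (ρ b - 1) with hWp
      set Wm := LinearMap.ker (ρ b + 1) with hWm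
      have memp : ∀ v : V, v ∈ Wp ↔ ρ b v = v := by
        intro v
        rw [hWp, LinearMap.mem_ker, LinearMap.sub_apply, sub_eq_zero]; rfl
      have memm : ∀ v : V, v ∈ Wm ↔ ρ b v = -v := by
        intro v
        rw [hWm, LinearMap.mem_ker, LinearMap.add_apply]
        exact ⟨fun h => eq_neg_of_add_eq_zero_left h, fun h => by rw [h]; exact neg_add_cancel v⟩
      have hbb : ∀ v : V, ρ b (ρ b v) = v := by
        intro v
        have : ρ b (ρ b v) = ρ (b * b) v := by rw [map_mul]; rfl
        rw [this, hb2, map_one]; rfl
      -- the behaviour of the two kinds of elements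
      have hfix : ∀ x : P, x * b * x⁻¹ = b → ∀ v : V, ρ b (ρ x v) = ρ x (ρ b v) := by
        intro x hx v
        have h1 : b * x = x * b := by
          rw [mul_inv_eq_iff_eq_mul] at hx
          exact hx.symm
        have h2 : ρ b (ρ x v) = ρ (b * x) v := by rw [map_mul]; rfl
        rw [h2, h1, map_mul]; rfl
      have hswap : ∀ x : P, x * b * x⁻¹ = b * z → ∀ v : V, ρ b (ρ x v) = -ρ x (ρ b v) := by
        intro x hx v
        have h1 : b * x = z * (x * b) := by
          rw [mul_inv_eq_iff_eq_mul] at hx
          rw [hx, ← mul_assoc, ← mul_assoc, ← hzc b, mul_assoc b z z, hz2, mul_one]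
        have h2 : ρ b (ρ x v) = ρ (b * x) v := by rw [map_mul]; rfl
        rw [h2, h1, map_mul]
        show ρ z (ρ (x * b) v) = _
        rw [hzneg, map_mul]; rfl
      have hpt : Wp ≠ ⊤ := by
        intro h1
        apply hb1
        apply hρ
        rw [map_one]
        ext v
        exact (memp v).mp (by rw [h1]; trivial)
      have hmt : Wm ≠ ⊤ := by
        intro h1
        apply hbz
        apply hρ
        ext v
        rw [hzneg]
        exact (memm v).mp (by rw [h1]; trivial)
      have hpb : Wp ≠ ⊥ := by
        intro h1
        apply hmt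
        rw [eq_top_iff]
        rintro v -
        have h3 : ρ b v + v ∈ Wp := by
          rw [memp, map_add, hbb, add_comm]
        rw [h1, Submodule.mem_bot] at h3
        exact (memm v).mpr (eq_neg_of_add_eq_zero_left h3)
      -- an element that swaps
      obtain ⟨x₀, hx₀⟩ : ∃ x : P, x * b * x⁻¹ = b * z := by
        by_contra hcon
        push Not at hcon
        rcases hirr Wp (by
          intro x w hw
          rw [memp] at hw ⊢
          rw [hfix x ((hbc x).resolve_right (hcon x)), hw]) with h1 | h1
        · exact hpb h1
        · exact hpt h1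
      have hsum : ∀ v : V, ∃ a ∈ Wp, ∃ c ∈ Wm, v = a + c := by
        intro v
        refine ⟨(2 : ZMod q)⁻¹ • (v + ρ b v), ?_, (2 : ZMod q)⁻¹ • (v - ρ b v), ?_, ?_⟩
        · rw [memp, map_smul, map_add, hbb, add_comm]
        · rw [memm, map_smul, map_sub, hbb, ← smul_neg, neg_sub]
        · rw [← smul_add]
          have : v + ρ b v + (v - ρ b v) = (2 : ZMod q) • v := by rw [two_smul]; abel
          rw [this, smul_smul, inv_mul_cancel₀ h2ne, one_smul]
      have hinf : Wp ⊓ Wm = ⊥ := by
        rw [eq_bot_iff]
        rintro v ⟨h1, h3⟩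
        have h1' := (memp v).mp h1
        have h3' := (memm v).mp h3
        rw [h1'] at h3'
        have h4 : (2 : ZMod q) • v = 0 := by
          rw [two_smul]
          nth_rewrite 1 [h3']
          exact neg_add_cancel v
        exact (smul_eq_zero.mp h4).resolve_left h2ne
      have hsup : Wp ⊔ Wm = ⊤ := by
        rw [eq_top_iff]
        rintro v -
        obtain ⟨a, ha, c, hc, rfl⟩ := hsum v
        exact Submodule.add_mem_sup ha hc
      have hdim : Module.finrank (ZMod q) Wp + Module.finrank (ZMod q) Wm = n := by
        have := Submodule.finrank_sup_add_finrank_inf_eq Wp Wm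
        rw [hsup, hinf, finrank_top, finrank_bot, add_zero, hn] at this
        exact this.symm
      have hinj : ∀ x : P, Function.Injective (ρ x) := by
        intro x v w hvw
        have h1 := congrArg (ρ x⁻¹) hvw
        have h3 : ∀ v, ρ x⁻¹ (ρ x v) = v := by
          intro v
          have : ρ x⁻¹ (ρ x v) = ρ (x⁻¹ * x) v := by rw [map_mul]; rfl
          rw [this, inv_mul_cancel, map_one]; rfl
        rwa [h3, h3] at h1
      have hle1 : Module.finrank (ZMod q) Wp ≤ Module.finrank (ZMod q) Wm := by
        refine LinearMap.finrank_le_finrank_of_injective (f := LinearMap.restrict (ρ x₀) (p := Wp) (q := Wm) ?_) ?_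
        · intro v hv
          rw [memm, hswap x₀ hx₀, (memp v).mp hv]
        · intro v w hvw
          apply Subtype.ext
          exact hinj x₀ (congrArg Subtype.val hvw)
      have hle2 : Module.finrank (ZMod q) Wm ≤ Module.finrank (ZMod q) Wp := by
        refine LinearMap.finrank_le_finrank_of_injective (f := LinearMap.restrict (ρ x₀) (p := Wm) (q := Wp) ?_) ?_
        · intro v hv
          rw [memp, hswap x₀ hx₀, (memm v).mp hv, map_neg, neg_neg]
        · intro v w hvw
          apply Subtype.ext
          exact hinj x₀ (congrArg Subtype.val hvw)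
      have hmp : 0 < Module.finrank (ZMod q) Wp := by
        rw [Nat.pos_iff_ne_zero, Ne, Submodule.finrank_eq_zero]
        exact hpb
      set m := Module.finrank (ZMod q) Wp with hm
      have hmm : Module.finrank (ZMod q) Wm = m := le_antisymm hle2 hle1
      rw [hmm] at hdim
      -- the subgroup of index two
      let H : Subgroup P := centralizer {b}
      have memH : ∀ x : P, x ∈ H ↔ x * b * x⁻¹ = b := by
        intro x
        rw [mem_centralizer_singleton_iff, mul_inv_eq_iff_eq_mul]
      have hHx : ∀ y : P, y ∈ H ∨ y * x₀⁻¹ ∈ H := by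
        intro y
        rcases hbc y with h1 | h1
        · exact Or.inl ((memH y).mpr h1)
        · right
          rw [memH]
          have h3 : x₀⁻¹ * b * x₀ = b * z := by
            have h4 : x₀⁻¹ * (x₀ * b * x₀⁻¹) * x₀ = b := by group
            rw [hx₀] at h4
            have h5 : x₀⁻¹ * (b * z) * x₀ = (x₀⁻¹ * b * x₀) * z := by
              rw [mul_assoc x₀⁻¹, mul_assoc b z x₀, ← hzc x₀]; group
            rw [h5] at h4
            calc x₀⁻¹ * b * x₀ = x₀⁻¹ * b * x₀ * z * z := by rw [mul_assoc _ z z, hz2, mul_one]
              _ = b * z := by rw [h4]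
          calc y * x₀⁻¹ * b * (y * x₀⁻¹)⁻¹ = y * (x₀⁻¹ * b * x₀) * y⁻¹ := by group
            _ = y * (b * z) * y⁻¹ := by rw [h3]
            _ = (y * b * y⁻¹) * z := by
              rw [mul_assoc y, mul_assoc b z, ← hzc y⁻¹]; group
            _ = b := by rw [h1, mul_assoc, hz2, mul_one]
      by_cases h3 : q ^ m = 3
      · -- order at most eight
        have hm1 : m = 1 := by
          by_contra hne
          have h4 : 3 ^ 2 ≤ q ^ m := (Nat.pow_le_pow_right (by norm_num) (by omega : 2 ≤ m)).trans (Nat.pow_le_pow_left hq3 m)
          omega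
        have hq3' : q = 3 := by rwa [hm1, pow_one] at h3
        refine ⟨2, ?_, ?_⟩
        · classical
          refine ⟨{x₀, b}, Finset.card_le_two, ?_⟩
          set C := closure ((({x₀, b} : Finset P)) : Set P) with hC
          have hx₀C : x₀ ∈ C := Subgroup.subset_closure (by simp)
          have hbC : b ∈ C := Subgroup.subset_closure (by simp)
          have hzC : z ∈ C := by
            have h4 : b * (x₀ * b * x₀⁻¹) ∈ C := C.mul_mem hbC (C.mul_mem (C.mul_mem hx₀C hbC) (C.inv_mem hx₀C))
            rwa [hx₀, ← mul_assoc, hb2, one_mul] at h4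
          have hsc : ∀ {W : Submodule (ZMod q) V}, Module.finrank (ZMod q) W = 1 → ∀ x : P, (∀ w ∈ W, ρ x w ∈ W) →
              (∀ w ∈ W, ρ x w = w) ∨ (∀ w ∈ W, ρ x w = -w) := by
            intro W hW x hx
            obtain ⟨v, hv, hspan⟩ := finrank_eq_one_iff'.mp hW
            obtain ⟨c, hc⟩ := hspan ⟨ρ x v, hx v v.2⟩
            have hc' : c • (v : V) = ρ x v := congrArg Subtype.val hc
            have hall : ∀ w ∈ W, ρ x w = c • w := by
              intro w hw
              obtain ⟨d, hd⟩ := hspan ⟨w, hw⟩
              have hd' : d • (v : V) = w := congrArg Subtype.val hd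
              rw [← hd', map_smul, ← hc', smul_comm]
            have hc0 : c ≠ 0 := by
              rintro rfl
              have h4 : ρ x v = 0 := by rw [← hc', zero_smul]
              have h5 : (v : V) = 0 := hinj x (by rw [h4, map_zero])
              exact hv (Subtype.ext h5)
            have hc1 : c = 1 ∨ c = -1 := by
              exact zmod3 hq3' c hc0
            rcases hc1 with rfl | rfl
            · left
              intro w hw
              rw [hall w hw, one_smul]
            · right
              intro w hw
              rw [hall w hw, neg_one_smul]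
          have hHC : H ≤ C := by
            intro x hx
            rw [memH] at hx
            have hxp : ∀ w ∈ Wp, ρ x w ∈ Wp := by
              intro w hw
              rw [memp] at hw ⊢
              rw [hfix x hx, hw]
            have hxm : ∀ w ∈ Wm, ρ x w ∈ Wm := by
              intro w hw
              rw [memm] at hw ⊢
              rw [hfix x hx, hw, map_neg]
            have key : ∀ y : P, (∀ w ∈ Wp, ρ x w = ρ y w) → (∀ w ∈ Wm, ρ x w = ρ y w) → x = y := by
              intro y h4 h5
              apply hρ
              ext v
              obtain ⟨a, ha, c, hc, rfl⟩ := hsum v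
              rw [map_add, map_add, h4 a ha, h5 c hc]
            rcases hsc (by rw [← hm, hm1]) x hxp with h4 | h4 <;> rcases hsc (by rw [hmm, hm1]) x hxm with h5 | h5
            · have : x = 1 := key 1 (fun w hw => by rw [h4 w hw, map_one]; rfl) (fun w hw => by rw [h5 w hw, map_one]; rfl)
              rw [this]; exact C.one_mem
            · have : x = b := key b (fun w hw => by rw [h4 w hw, (memp w).mp hw]) (fun w hw => by rw [h5 w hw, (memm w).mp hw])
              rw [this]; exact hbC
            · have : x = b * z := key (b * z)
                (fun w hw => by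
                  rw [h4 w hw, map_mul]
                  show -w = ρ b (ρ z w)
                  rw [hzneg, map_neg, (memp w).mp hw])
                (fun w hw => by
                  rw [h5 w hw, map_mul]
                  show w = ρ b (ρ z w)
                  rw [hzneg, map_neg, (memm w).mp hw, neg_neg])
              rw [this]; exact C.mul_mem hbC hzC
            · have : x = z := key z (fun w hw => by rw [h4 w hw, hzneg]) (fun w hw => by rw [h5 w hw, hzneg])
              rw [this]; exact hzC
          rw [eq_top_iff]
          rintro y -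
          rcases hHx y with h4 | h4
          · exact hHC h4
          · have := C.mul_mem (hHC h4) hx₀C
            rwa [inv_mul_cancel_right] at this
        · left
          rw [← hdim, hm1, hq3']
          norm_num
      · -- use the induction on both parts
        have hWpH : ∀ x : H, ∀ w ∈ Wp, (ρ.comp H.subtype) x w ∈ Wp := by
          intro x w hw
          rw [memp] at hw ⊢
          show ρ b (ρ x w) = ρ x w
          rw [hfix x ((memH x).mp x.2), hw]
        have hWmH : ∀ x : H, ∀ w ∈ Wm, (ρ.comp H.subtype) x w ∈ Wm := by
          intro x w hw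
          rw [memm] at hw ⊢
          show ρ b (ρ x w) = -ρ x w
          rw [hfix x ((memH x).mp x.2), hw, map_neg]
        set K := (res (ρ.comp H.subtype) Wp hWpH).ker with hK
        have hKn : K.Normal := MonoidHom.normal_ker _
        have hlt : m < n := by omega
        obtain ⟨k₁, hk₁, hc₁⟩ := ih m hlt Wp (H ⧸ K) (QuotientGroup.lift K (res (ρ.comp H.subtype) Wp hWpH) (fun _ h => h))
          ((hP.to_subgroup H).to_quotient K) (lift_injective _) hmp rfl
        obtain ⟨k₂, hk₂, hc₂⟩ := ih m hlt Wm K ((res (ρ.comp H.subtype) Wm hWmH).comp K.subtype)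
          ((hP.to_subgroup H).to_subgroup K) (by
            rw [injective_iff_map_eq_one]
            intro x hx
            have h4 := (mem_ker_res (ρ.comp H.subtype) Wp hWpH x).mp x.2
            have h5 := (mem_ker_res (ρ.comp H.subtype) Wm hWmH x).mp hx
            apply Subtype.ext
            apply Subtype.ext
            apply hρ
            rw [Subgroup.coe_one, Subgroup.coe_one, map_one]
            ext v
            obtain ⟨a, ha, c, hc, rfl⟩ := hsum v
            rw [map_add]
            have h6 : ρ ((x : H) : P) a = a := h4 a ha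
            have h7 : ρ ((x : H) : P) c = c := h5 c hc
            rw [h6, h7]; rfl) hmp hmm
        refine ⟨k₁ + k₂ + 1, (hk₁.ext' hk₂).index_two hHx, ?_⟩
        rw [← hdim]
        exact hc₁.imp hc₂ h3

end Cfsg.Agent.H22.TG
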