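import Cfsg.Agent.H22_Ward3
import Cfsg.Agent.H3_Fpf
import Cfsg.Agent.H1_Hall
import Cfsg.Agent.H1_KW4
import Cfsg.Agent.H12_Core

/-!
Ward's theorem: preliminary facts.
-/

set_option autoImplicit false
set_option linter.unusedSectionVars false

namespace Cfsg.Agent.H22.Ward

open Subgroup
open scoped commutatorElement Pointwise
open Cfsg.Agent.H22.Basic (cj mem_cj cj_mul conj_mem_cj)

variable {X : Type*} [Group X] [Finite X] {p : ℕ} [hp : Fact p.Prime]

theorem EA.isPGroup {A : Subgroup X} (hA : EA p A) : IsPGroup p A := IsPGroup.of_card hA.card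

/-- the normal subgroup is a `p'`-group -/
theorem coprime_card {A K : Subgroup X} [hK : K.Normal] (hA : EA p A) (hf : K ⊓ centralizer (A : Set X) = ⊥) :
    (Nat.card A).Coprime (Nat.card K) := by
  let _ : MulAction A K := MulAction.compHom K ((MulAut.conjNormal (H := K)).comp A.subtype)
  have hsm : ∀ (a : A) (k : K), ((a • k : K) : X) = a * k * (a : X)⁻¹ := by
    intro a k
    exact MulAut.conjNormal_apply _ _
  have h1 := hA.isPGroup.card_modEq_card_fixedPoints K
  have h2 : Nat.card (MulAction.fixedPoints A K) = 1 := by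
    rw [Nat.card_eq_one_iff_unique]
    refine ⟨⟨fun x y => ?_⟩, ⟨⟨1, fun a => by apply Subtype.ext; rw [hsm]; simp⟩⟩⟩
    have h3 : ∀ z : MulAction.fixedPoints A K, (z : K) = 1 := by
      intro z
      have h4 : ((z : K) : X) ∈ K ⊓ centralizer (A : Set X) := by
        refine ⟨(z : K).2, mem_centralizer_iff.mpr (fun a ha => ?_)⟩
        have h5 := congrArg Subtype.val (z.2 ⟨a, ha⟩)
        rw [hsm] at h5
        exact mul_inv_eq_iff_eq_mul.mp h5
      rw [hf] at h4
      exact Subtype.ext (Subgroup.mem_bot.mp h4)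
    exact Subtype.ext ((h3 x).trans (h3 y).symm)
  rw [h2] at h1
  rw [hA.card]
  apply Nat.Coprime.pow_left
  rw [hp.out.coprime_iff_not_dvd]
  intro hdvd
  have h3 := (Nat.modEq_zero_iff_dvd.mpr hdvd).symm.trans h1
  have h4 : 1 % p = 0 := (h3.symm : 1 ≡ 0 [MOD p])
  rw [Nat.mod_eq_of_lt hp.out.one_lt] at h4
  exact one_ne_zero h4

/-- `A` is not cyclic: there is another element -/
theorem EA.exists_other {A : Subgroup X} (hA : EA p A) (b : X) (hb : b ∈ A) : ∃ c ∈ A, c ∉ zpowers b := by
  by_contra hcon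
  push Not at hcon
  have h1 : Nat.card A ≤ Nat.card (zpowers b) := Nat.card_le_card_of_injective (fun a : A => (⟨a, hcon a a.2⟩ : zpowers b))
    (fun x y h => Subtype.ext (congrArg (fun t : zpowers b => (t : X)) h))
  rw [hA.card, Nat.card_zpowers] at h1
  have h2 : orderOf b ≤ p := Nat.le_of_dvd hp.out.pos (orderOf_dvd_of_pow_eq_one (hA.pow b hb))
  have h3 := hp.out.one_lt
  nlinarith

/-- centralizers are nilpotent -/
theorem nilp_fix {A K : Subgroup X} [hK : K.Normal] (hA : EA p A) (hf : K ⊓ centralizer (A : Set X) = ⊥) {b : X}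
    (hb : b ∈ A) (hb1 : b ≠ 1) : Group.IsNilpotent (K ⊓ centralizer ({b} : Set X) : Subgroup X) := by
  obtain ⟨c, hc, hcb⟩ := hA.exists_other b hb
  set J := K ⊓ centralizer ({b} : Set X) with hJ
  have hcJ : c ∈ normalizer (J : Set X) := by
    refine Basic.le_normalizer_inf (A := A) ?_ (le_normalizer_centralizer_singleton hA.comm hb) hc
    rw [Subgroup.normalizer_eq_top]; exact le_top
  let σ : MulAut J := J.normalizerMonoidHom ⟨c, hcJ⟩
  have hσ : ∀ g : J, ((σ g : J) : X) = c * g * c⁻¹ := fun g => rfl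
  apply H3.Fpf.nilpotent_of_fp p hp.out _ J σ rfl
  refine ⟨?_, ?_⟩
  · intro g hg
    have h1 := congrArg Subtype.val hg
    rw [hσ] at h1
    have h2 : (g : X) ∈ K ⊓ centralizer (A : Set X) := by
      refine ⟨g.2.1, hA.comm_all hb hc hb1 hcb (mem_centralizer_singleton_iff.mp g.2.2) ?_⟩
      exact (mul_inv_eq_iff_eq_mul.mp h1).symm
    rw [hf] at h2
    exact Subtype.ext (Subgroup.mem_bot.mp h2)
  · show (J.normalizerMonoidHom ⟨c, hcJ⟩) ^ p = 1
    rw [← map_pow]
    have : (⟨c, hcJ⟩ : normalizer (J : Set X)) ^ p = 1 := Subtype.ext (hA.pow c hc)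
    rw [this, map_one]

/-- a solvable group in which every Sylow `r`-subgroup centralizes `O_q`, `q ≠ r`, is nilpotent -/
theorem nilpotent_of_centralizes {G : Type*} [Group G] [Finite G] [Group.IsSolvable G]
    (h : ∀ r : ℕ, ∀ _ : Fact r.Prime, ∃ R : Sylow r G, ∀ q : ℕ, ∀ _ : Fact q.Prime, q ≠ r →
      (R : Subgroup G) ≤ centralizer (Cfsg.pCore q G : Set G)) : Group.IsNilpotent G := by
  have hall : ∀ r : ℕ, ∀ _ : Fact r.Prime, ∀ R : Sylow r G, ∀ q : ℕ, ∀ _ : Fact q.Prime, q ≠ r →
      (R : Subgroup G) ≤ centralizer (Cfsg.pCore q G : Set G) := by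
    intro r hr R q hq hqr
    obtain ⟨R', hR'⟩ := h r hr
    obtain ⟨g, hg⟩ := MulAction.exists_smul_eq G R' R
    have hn : (Cfsg.pCore q G).Normal := H1.Nilp.pCore_normal q
    have hcn : (centralizer (Cfsg.pCore q G : Set G)).Normal := inferInstance
    rw [← hg]
    intro x hx
    obtain ⟨y, hy, rfl⟩ := hx
    exact hcn.conj_mem y (hR' q hq hqr hy) g
  set F := Cfsg.fittingSubgroup G with hF
  have hFn : F.Normal := H1.Nilp.fitting_normal
  by_cases hFt : F = ⊤
  · have h1 : Group.IsNilpotent F := H1.Nilp.fitting_nilpotent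
    rw [hFt] at h1
    exact Group.nilpotent_of_mulEquiv Subgroup.topEquiv
  exfalso
  have hnt : Nontrivial (G ⧸ F) := by
    rw [← not_subsingleton_iff_nontrivial]
    intro hs
    apply hFt
    rw [← QuotientGroup.subsingleton_iff]
    exact hs
  obtain ⟨M', hM'n, hM'b, hM'min⟩ := H1.Hall.exists_minimal_normal_of_nontrivial (G ⧸ F)
  obtain ⟨_, r, hr, hrM⟩ := H1.Hall.minimal_normal_elementary M' hM'b hM'min
  have hrf : Fact r.Prime := ⟨hr⟩
  set M := M'.comap (QuotientGroup.mk' F) with hM
  have hMn : M.Normal := hM'n.comap _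
  have hFM : F ≤ M := H1.Hall.le_comap_mk F M'
  -- Sylow r-subgroup of M
  let P : Sylow r M := default
  set R := (P : Subgroup M).map M.subtype with hR
  have hRM : R ≤ M := Subgroup.map_subtype_le _
  have hRp : IsPGroup r R := P.2.map _
  obtain ⟨S, hS⟩ := hRp.exists_le_sylow
  -- F normalizes R
  have hFR : F ≤ normalizer (R : Set G) := by
    rw [hF, H1.Nilp.fitting_eq_iSup]
    apply iSup_le
    rintro ⟨q, hq⟩
    have hqf : Fact q.Prime := ⟨hq⟩
    by_cases hqr : q = r
    · subst hqr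
      refine le_trans ?_ Subgroup.le_normalizer
      -- O_r(G) is in M, an r-group normal in M
      have h1 : Cfsg.pCore q G ≤ M := (H1.Nilp.pCore_le_fitting q).trans hFM
      have hn : (Cfsg.pCore q G).Normal := H1.Nilp.pCore_normal q
      have h2 : ((Cfsg.pCore q G).subgroupOf M) ≤ (P : Subgroup M) := by
        have h3 : ((Cfsg.pCore q G).subgroupOf M).Normal := inferInstance
        have h4 : IsPGroup q ((Cfsg.pCore q G).subgroupOf M) := (H1.Nilp.pCore_isPGroup q).comap_subtype
        have h5 : IsPGroup q (((Cfsg.pCore q G).subgroupOf M) ⊔ (P : Subgroup M) : Subgroup M) :=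
          h4.to_sup_of_normal_left P.2
        have h6 := P.3 h5 le_sup_right
        rw [← h6]; exact le_sup_left
      intro x hx
      exact ⟨⟨x, h1 hx⟩, h2 (Subgroup.mem_subgroupOf.mpr hx), rfl⟩
    · refine le_trans ?_ (Subgroup.centralizer_le_normalizer _)
      rw [Subgroup.le_centralizer_iff]
      exact hS.trans (hall r hrf S q hqf hqr)
  -- M = F R
  have hMFR : M ≤ R ⊔ F := by
    rw [← Subgroup.relIndex_eq_one]
    have h1 : (R ⊔ F).relIndex M ∣ F.relIndex M := Subgroup.relIndex_dvd_of_le_left M le_sup_right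
    have h2 : (R ⊔ F).relIndex M ∣ R.relIndex M := Subgroup.relIndex_dvd_of_le_left M le_sup_left
    have h3 : F.relIndex M = Nat.card M' := H1.Hall.relIndex_comap_mk F M'
    obtain ⟨k, hk⟩ := IsPGroup.iff_card.mp (H1.Hall.isPGroup_of_pow_eq_one hrM)
    rw [h3, hk] at h1
    obtain ⟨j, _, hj⟩ := (Nat.dvd_prime_pow hr).mp h1
    have h4 : ¬ r ∣ R.relIndex M := by
      have h5 : R.subgroupOf M = (P : Subgroup M) := by
        rw [hR, Subgroup.subgroupOf, Subgroup.comap_map_eq_self_of_injective M.subtype_injective]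
      rw [Subgroup.relIndex, h5]
      exact P.not_dvd_index
    rcases Nat.eq_zero_or_pos j with h5 | h5
    · rw [hj, h5, pow_zero]
    · exfalso
      apply h4
      rw [hj] at h2
      exact (dvd_pow_self r h5.ne').trans h2
  have hRn : R.Normal := by
    have h1 : (P : Subgroup M).Normal := by
      have h2 : M ≤ normalizer (R : Set G) := hMFR.trans (sup_le Subgroup.le_normalizer hFR)
      have h3 := (Subgroup.normal_subgroupOf_iff_le_normalizer hRM).mpr h2
      have h5 : R.subgroupOf M = (P : Subgroup M) := by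
        rw [hR, Subgroup.subgroupOf, Subgroup.comap_map_eq_self_of_injective M.subtype_injective]
      rwa [h5] at h3
    have h2 : (P : Subgroup M).Characteristic := P.characteristic_of_normal h1
    infer_instance
  have hRF : R ≤ F := (H1.Nilp.le_pCore hRn hRp).trans (H1.Nilp.pCore_le_fitting r)
  have hMF : M ≤ F := hMFR.trans (sup_le hRF le_rfl)
  apply hM'b
  rw [eq_bot_iff]
  intro x hx
  obtain ⟨y, rfl⟩ := QuotientGroup.mk'_surjective F x
  exact Subgroup.mem_bot.mpr ((QuotientGroup.eq_one_iff y).mpr (hMF hx))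

end Cfsg.Agent.H22.Ward
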