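import Cfsg.Agent.H22_Ward4
import Cfsg.Agent.H22_Prim

/-!
Ward's theorem: the reduction.
-/

set_option autoImplicit false
set_option linter.unusedSectionVars false

namespace Cfsg.Agent.H22.Ward

open Subgroup
open scoped commutatorElement Pointwise
open Cfsg.Agent.H22.Basic (cj mem_cj cj_mul conj_mem_cj)

universe u

section aux

variable {X : Type u} [Group X] [Finite X]

/-- characteristic subgroups are normalized by the normalizer -/
theorem normalizer_le_of_char {H : Subgroup X} {B : Subgroup H} (hB : B.Characteristic) :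
    normalizer (H : Set X) ≤ normalizer ((B.map H.subtype : Subgroup X) : Set X) := by
  intro g hg
  apply Basic.mem_normalizer_of_cj_le
  intro y hy
  rw [mem_cj] at hy
  obtain ⟨z, hz, hzy⟩ := hy
  let σ : MulAut H := H.normalizerMonoidHom ⟨g, hg⟩
  have h1 : σ z ∈ B := by
    have h2 := Subgroup.characteristic_iff_map_eq.mp hB σ
    rw [← h2]
    exact ⟨z, hz, rfl⟩
  refine ⟨σ z, h1, ?_⟩
  show g * (z : X) * g⁻¹ = y
  have h3 : (z : X) = g⁻¹ * y * g := hzy
  rw [h3]; group

theorem lcs_normal {K : Subgroup X} (hK : K.Normal) (n : ℕ) : (K.lowerCentralSeries n).Normal := by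
  induction n with
  | zero => exact hK
  | succ n ih =>
    rw [Subgroup.lowerCentralSeries_succ]
    exact Subgroup.commutator_normal _ _

/-- the conclusion -/
def P (K : Subgroup X) : Prop := ∃ k l : ℕ, (K.lowerCentralSeries k).lowerCentralSeries l = ⊥

theorem comb {K N M : Subgroup X} (hNM : N ⊓ M = ⊥) (h1 : ∃ k l : ℕ, (K.lowerCentralSeries k).lowerCentralSeries l ≤ N)
    (h2 : ∃ k l : ℕ, (K.lowerCentralSeries k).lowerCentralSeries l ≤ M) : P K := by
  obtain ⟨k, l, h1⟩ := h1
  obtain ⟨k', l', h2⟩ := h2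
  refine ⟨max k k', max l l', ?_⟩
  rw [eq_bot_iff, ← hNM]
  apply le_inf
  · refine le_trans ?_ h1
    refine le_trans (Subgroup.lowerCentralSeries_antitone _ (le_max_left l l')) ?_
    exact Subgroup.lowerCentralSeries_mono l (Subgroup.lowerCentralSeries_antitone K (le_max_left k k'))
  · refine le_trans ?_ h2
    refine le_trans (Subgroup.lowerCentralSeries_antitone _ (le_max_right l l')) ?_
    exact Subgroup.lowerCentralSeries_mono l' (Subgroup.lowerCentralSeries_antitone K (le_max_right k k'))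

theorem le_sup_of_pow {r : ℕ} [hr : Fact r.Prime] {M F R : Subgroup X} {k : ℕ} (h1 : F.relIndex M = r ^ k)
    (h2 : ¬ r ∣ R.relIndex M) : M ≤ R ⊔ F := by
  rw [← Subgroup.relIndex_eq_one]
  have h3 : (R ⊔ F).relIndex M ∣ F.relIndex M := Subgroup.relIndex_dvd_of_le_left M le_sup_right
  have h4 : (R ⊔ F).relIndex M ∣ R.relIndex M := Subgroup.relIndex_dvd_of_le_left M le_sup_left
  rw [h1] at h3
  obtain ⟨j, _, hj⟩ := (Nat.dvd_prime_pow hr.out).mp h3
  rcases Nat.eq_zero_or_pos j with h5 | h5
  · rw [hj, h5, pow_zero]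
  · exfalso
    apply h2
    rw [hj] at h4
    exact (dvd_pow_self r h5.ne').trans h4

theorem sylow_relIndex {r : ℕ} [hr : Fact r.Prime] {M : Subgroup X} (P : Sylow r M) :
    ¬ r ∣ ((P : Subgroup M).map M.subtype).relIndex M := by
  have h5 : ((P : Subgroup M).map M.subtype).subgroupOf M = (P : Subgroup M) := by
    rw [Subgroup.subgroupOf, Subgroup.comap_map_eq_self_of_injective M.subtype_injective]
  rw [Subgroup.relIndex, h5]
  exact P.not_dvd_index

end aux

/-- passing to quotients -/
theorem quot {p : ℕ} [hp : Fact p.Prime] {X : Type u} [Group X] [Finite X] {K A : Subgroup X} (hK : K.Normal)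
    (hKs : Group.IsSolvable K) (hA : EA p A) (hf : K ⊓ centralizer (A : Set X) = ⊥) (htop : K ⊔ A = ⊤)
    (ih : ∀ m < Nat.card K, ∀ (X : Type u) [Group X] [Finite X] (K A : Subgroup X), K.Normal → Group.IsSolvable K → EA p A →
      K ⊓ centralizer (A : Set X) = ⊥ → K ⊔ A = ⊤ → Nat.card K = m → P K)
    {N : Subgroup X} (hN : N.Normal) (hNK : N ≤ K) (hNb : N ≠ ⊥) :
    ∃ k l : ℕ, (K.lowerCentralSeries k).lowerCentralSeries l ≤ N := by
  have hcop := coprime_card hA hf
  have hAN : A ⊓ N = ⊥ := Basic.inf_eq_bot_of_coprime (coprime_of_le hNK hcop)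
  set π := QuotientGroup.mk' N with hπ
  have hπs : Function.Surjective π := QuotientGroup.mk'_surjective N
  have hker : ∀ x : X, π x = 1 ↔ x ∈ N := fun x => QuotientGroup.eq_one_iff x
  have hcomap : (K.map π).comap π = K := by
    rw [Subgroup.comap_map_eq, QuotientGroup.ker_mk', sup_eq_left.mpr hNK]
  have hcard : Nat.card K = Nat.card (K.map π) * Nat.card N := by
    conv_lhs => rw [← hcomap]
    exact H1.Hall.card_comap_mk N _
  have hlt : Nat.card (K.map π) < Nat.card K := by
    rw [hcard]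
    have h1 : 1 < Nat.card N := Subgroup.one_lt_card_iff_ne_bot N |>.mpr hNb
    have h2 : 0 < Nat.card (K.map π) := Nat.card_pos
    nlinarith
  have hAcard : Nat.card (A.map π) = Nat.card A := by
    have hinj : Function.Injective (π.comp A.subtype) := by
      rw [injective_iff_map_eq_one]
      intro a ha
      have h1 : (a : X) ∈ A ⊓ N := ⟨a.2, (hker _).mp ha⟩
      rw [hAN] at h1
      exact Subtype.ext (Subgroup.mem_bot.mp h1)
    have h1 : (π.comp A.subtype).range = A.map π := by rw [MonoidHom.range_comp, Subgroup.range_subtype]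
    rw [← h1]
    exact (Nat.card_congr (MonoidHom.ofInjective hinj).toEquiv).symm
  have hEA : EA p (A.map π) := by
    refine ⟨?_, ?_, by rw [hAcard, hA.card]⟩
    · rintro _ ⟨a, ha, rfl⟩ _ ⟨b, hb, rfl⟩
      rw [← map_mul, ← map_mul, hA.comm a ha b hb]
    · rintro _ ⟨a, ha, rfl⟩
      rw [← map_pow, hA.pow a ha, map_one]
  have hfix : K.map π ⊓ centralizer ((A.map π : Subgroup (X ⧸ N)) : Set (X ⧸ N)) = ⊥ := by
    rw [eq_bot_iff]
    rintro _ ⟨⟨x, hx, rfl⟩, hxc⟩
    have hAK : A ≤ normalizer (K : Set X) := by rw [Subgroup.normalizer_eq_top]; exact le_top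
    have hAN' : A ≤ normalizer (N : Set X) := by rw [Subgroup.normalizer_eq_top]; exact le_top
    have hKN' : K ≤ normalizer (N : Set X) := by rw [Subgroup.normalizer_eq_top]; exact le_top
    obtain ⟨c, hc, hxc2⟩ := H1.Coprime.fixed_points_quotient A K hAK hcop (Or.inr hKs) N hNK hKN' hAN' x hx (by
      intro a ha
      rw [← hker, map_mul, map_mul, map_mul, map_inv, map_inv]
      have h1 := mem_centralizer_iff.mp hxc (π a) ⟨a, ha, rfl⟩
      rw [h1]; group)
    rw [hf] at hc
    rw [Subgroup.mem_bot.mp hc, mul_one] at hxc2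
    exact Subgroup.mem_bot.mpr ((hker x).mpr (by have := N.inv_mem hxc2; rwa [inv_inv] at this))
  have htop' : K.map π ⊔ A.map π = ⊤ := by
    rw [← Subgroup.map_sup, htop, ← MonoidHom.range_eq_map, MonoidHom.range_eq_top]
    exact hπs
  have hsol : Group.IsSolvable (K.map π) := Group.isSolvable_of_surjective (π.subgroupMap_surjective K)
  obtain ⟨k, l, hkl⟩ := ih _ hlt (X ⧸ N) (K.map π) (A.map π) (hK.map π hπs) hsol hEA hfix htop' rfl
  refine ⟨k, l, ?_⟩
  rw [← Subgroup.map_lowerCentralSeries, ← Subgroup.map_lowerCentralSeries, Subgroup.map_eq_bot_iff, QuotientGroup.ker_mk'] at hkl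
  exact hkl

end Cfsg.Agent.H22.Ward
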