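import Cfsg.Agent.H22_Ward5

/-!
Ward's theorem: the main induction.
-/

set_option autoImplicit false
set_option linter.unusedSectionVars false

namespace Cfsg.Agent.H22.Ward

open Subgroup
open scoped commutatorElement Pointwise
open Cfsg.Agent.H22.Basic (cj mem_cj cj_mul conj_mem_cj)

universe u

/-- the situation `K = N H` with `H` acting faithfully on `N` -/
theorem nilpotent_H {p : ℕ} [hp : Fact p.Prime] {X : Type u} [Group X] [Finite X] {K A N H : Subgroup X} (hK : K.Normal)
    (hKs : Group.IsSolvable K) (hA : EA p A) (hf : K ⊓ centralizer (A : Set X) = ⊥)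
    (hN : N.Normal) (hNK : N ≤ K) (hNc : ∀ u ∈ N, ∀ v ∈ N, u * v = v * u) {s : ℕ} (hs : Fact s.Prime) (hNs : IsPGroup s N)
    (hHK : H ≤ K) (hAH : A ≤ normalizer (H : Set X)) (hCH : H ⊓ centralizer (N : Set X) = ⊥)
    (hOs : Cfsg.pCore s H = ⊥) : Group.IsNilpotent H := by
  have hcop := coprime_card hA hf
  have hHs : Group.IsSolvable H := Group.isSolvable_of_isSolvable_injective (Subgroup.inclusion_injective hHK)
  have hsolA : Group.IsSolvable A := Group.isSolvable_of_comm (fun a b => Subtype.ext (hA.comm a a.2 b b.2))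
  apply nilpotent_of_centralizes
  intro r hr
  obtain ⟨P, hPA⟩ := H1.Coprime.invariant_sylow_exists A H hAH (coprime_of_le hHK hcop) (Or.inr hHs) r
  refine ⟨P, fun t ht htr => ?_⟩
  by_cases hts : t = s
  · subst hts
    rw [hOs]
    intro x _
    rw [mem_centralizer_iff]
    intro y hy
    rw [show y = 1 from Subgroup.mem_bot.mp hy, one_mul, mul_one]
  set R₀ := (P : Subgroup H).map H.subtype with hR₀
  set Q := (Cfsg.pCore t H).map H.subtype with hQ
  have hR₀H : R₀ ≤ H := Subgroup.map_subtype_le _
  have hQH : Q ≤ H := Subgroup.map_subtype_le _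
  have hR₀p : IsPGroup r R₀ := P.2.map _
  have hQp : IsPGroup t Q := (H1.Nilp.pCore_isPGroup (G := H) t).map _
  have hnQ : normalizer (H : Set X) ≤ normalizer (Q : Set X) := normalizer_le_of_char (H1.KW.pCore_characteristic t)
  -- key
  have hkey : R₀ ≤ centralizer (Q : Set X) := by
    apply hA.gen hPA (coprime_of_le (hR₀H.trans hHK) hcop)
    intro a ha ha1
    set R := R₀ ⊓ centralizer ({a} : Set X) with hR
    have hRH : R ≤ H := inf_le_left.trans hR₀H
    have hAR : A ≤ normalizer (R : Set X) := Basic.le_normalizer_inf hPA (le_normalizer_centralizer_singleton hA.comm ha)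
    have hRQ : R ≤ normalizer (Q : Set X) := (hRH.trans Subgroup.le_normalizer).trans hnQ
    have hnil : ∀ b ∈ A, b ≠ 1 → Group.IsNilpotent (K ⊓ centralizer ({b} : Set X) : Subgroup X) :=
      fun b hb hb1 => nilp_fix hA hf hb hb1
    have hcRQ : (Nat.card R).Coprime (Nat.card Q) := by
      obtain ⟨i, hi⟩ := IsPGroup.iff_card.mp (hR₀p.to_le inf_le_left : IsPGroup r R)
      obtain ⟨j, hj⟩ := IsPGroup.iff_card.mp hQp
      rw [hi, hj]
      exact Nat.Coprime.pow _ _ ((Nat.coprime_primes hr.out ht.out).mpr (fun h => htr h.symm))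
    have hcQN : (Nat.card Q).Coprime (Nat.card N) := by
      obtain ⟨i, hi⟩ := IsPGroup.iff_card.mp hNs
      obtain ⟨j, hj⟩ := IsPGroup.iff_card.mp hQp
      rw [hi, hj]
      exact Nat.Coprime.pow _ _ ((Nat.coprime_primes ht.out hs.out).mpr hts)
    have hyp : Hyp A N R a t Q :=
      { pg := hQp
        faith := le_bot_iff.mp ((inf_le_inf_right _ hQH).trans hCH.le)
        AQ := hAH.trans hnQ
        RQ := hRQ
        cAQ := coprime_of_le (hQH.trans hHK) hcop
        cRQ := hcRQ
        cQV := hcQN
        fix := le_bot_iff.mp ((inf_le_inf_right _ (hQH.trans hHK)).trans hf.le)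
        h1 := by
          intro b hb hb1 y hy hyb v hv hvb
          have h1 := H12.Core.commutator_eq_bot_of_nilpotent_coprime (N := K ⊓ centralizer ({b} : Set X))
            (A := N ⊓ centralizer ({b} : Set X)) (B := Q ⊓ centralizer ({b} : Set X)) (hnil b hb hb1)
            (inf_le_inf_right _ hNK) (inf_le_inf_right _ (hQH.trans hHK)) (by
              apply Basic.le_normalizer_inf
              · rw [Subgroup.normalizer_eq_top]; exact le_top
              · exact inf_le_right.trans Subgroup.le_normalizer)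
            (Nat.Coprime.coprime_dvd_left (Subgroup.card_dvd_of_le inf_le_left) (coprime_of_le inf_le_left hcQN))
          have h2 := mem_centralizer_iff.mp (h1 (show y ∈ Q ⊓ centralizer ({b} : Set X) from ⟨hy, mem_centralizer_singleton_iff.mpr hyb⟩))
            v (show v ∈ N ⊓ centralizer ({b} : Set X) from ⟨hv, mem_centralizer_singleton_iff.mpr hvb⟩)
          exact h2.symm
        h2 := by
          intro y hy hya x hx
          have h1 := H12.Core.commutator_eq_bot_of_nilpotent_coprime (N := K ⊓ centralizer ({a} : Set X))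
            (A := Q ⊓ centralizer ({a} : Set X)) (B := R) (hnil a ha ha1)
            (inf_le_inf_right _ (hQH.trans hHK)) (inf_le_inf_right _ (hR₀H.trans hHK)) (by
              apply Basic.le_normalizer_inf hRQ
              exact inf_le_right.trans Subgroup.le_normalizer)
            (coprime_of_le inf_le_left hcRQ)
          have h2 := mem_centralizer_iff.mp (h1 hx) y (show y ∈ Q ⊓ centralizer ({a} : Set X) from ⟨hy, mem_centralizer_singleton_iff.mpr hya⟩)
          exact h2.symm }
    have h1 := key (p := p) (V := N) (R := R) hNc hA ha ha1 hAR (coprime_of_le (hRH.trans hHK) hcop)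
      (le_bot_iff.mp ((inf_le_inf_right _ (hRH.trans hHK)).trans hf.le))
      (fun x hx => mem_centralizer_singleton_iff.mp hx.2) (Nat.card Q) Q rfl hyp
    rw [Subgroup.commutator_eq_bot_iff_le_centralizer, Subgroup.le_centralizer_iff] at h1
    exact h1
  intro x hx
  rw [mem_centralizer_iff]
  intro y hy
  have h1 := mem_centralizer_iff.mp (hkey (show (x : X) ∈ R₀ from ⟨x, hx, rfl⟩)) (y : X) (show (y : X) ∈ Q from ⟨y, hy, rfl⟩)
  exact Subtype.ext h1

theorem main (p : ℕ) [hp : Fact p.Prime] : ∀ (n : ℕ) (X : Type u) [Group X] [Finite X] (K A : Subgroup X),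
    K.Normal → Group.IsSolvable K → EA p A → K ⊓ centralizer (A : Set X) = ⊥ → K ⊔ A = ⊤ → Nat.card K = n → P K := by
  intro n
  induction n using Nat.strong_induction_on with
  | _ n ih =>
  intro X _ _ K A hK hKs hA hf htop hn
  subst hn
  by_contra hP
  have hquot : ∀ N : Subgroup X, N.Normal → N ≤ K → N ≠ ⊥ → ∃ k l : ℕ, (K.lowerCentralSeries k).lowerCentralSeries l ≤ N :=
    fun N hN hNK hNb => quot hK hKs hA hf htop ih hN hNK hNb
  have hcop := coprime_card hA hf
  have hsolA : Group.IsSolvable A := Group.isSolvable_of_comm (fun a b => Subtype.ext (hA.comm a a.2 b b.2))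
  have hnorm : ∀ M : Subgroup X, M.Normal → ∀ L : Subgroup X, L ≤ normalizer (M : Set X) := by
    intro M hM L; rw [Subgroup.normalizer_eq_top]; exact le_top
  have hKb : K ≠ ⊥ := by
    rintro rfl
    exact hP ⟨0, 0, rfl⟩
  have hXs : Group.IsSolvable X := by
    have h1 : Group.IsSolvable (X ⧸ K) := by
      have hs : Function.Surjective ((QuotientGroup.mk' K).comp A.subtype) := by
        rw [← MonoidHom.range_eq_top, MonoidHom.range_comp, Subgroup.range_subtype]
        have h2 : (K ⊔ A).map (QuotientGroup.mk' K) = ⊤ := by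
          rw [htop, ← MonoidHom.range_eq_map, MonoidHom.range_eq_top]
          exact QuotientGroup.mk'_surjective K
        rw [Subgroup.map_sup] at h2
        have h3 : K.map (QuotientGroup.mk' K) = ⊥ := by
          rw [Subgroup.map_eq_bot_iff, QuotientGroup.ker_mk']
        rwa [h3, bot_sup_eq] at h2
      exact Group.isSolvable_of_surjective hs
    exact Group.isSolvable_of_ker_le_range K.subtype (QuotientGroup.mk' K) (by rw [QuotientGroup.ker_mk', Subgroup.range_subtype])
  obtain ⟨N, hNK, hNn, hNb, hNmin⟩ := H1.Hall.exists_minimal_normal hK hKb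
  obtain ⟨hNcomm, s, hs, hNs⟩ := H1.Hall.minimal_normal_elementary N hNb hNmin
  have hsf : Fact s.Prime := ⟨hs⟩
  have hNc : ∀ u ∈ N, ∀ v ∈ N, u * v = v * u := fun u hu v hv => Subgroup.mul_comm_of_mem_isMulCommutative N hu hv
  have hNp : IsPGroup s N := H1.Hall.isPGroup_of_pow_eq_one hNs
  have hQN := hquot N hNn hNK hNb
  obtain ⟨k, l, hkl⟩ := hquot N hNn hNK hNb
  set D := K.lowerCentralSeries k with hD
  have hDK : D ≤ K := Subgroup.lowerCentralSeries_le_self K k
  have hDn : D.Normal := lcs_normal hK k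
  -- a prime q ≠ s
  obtain ⟨q, hq, hqD, hqs⟩ : ∃ q : ℕ, q.Prime ∧ q ∣ Nat.card D ∧ q ≠ s := by
    by_contra hcon
    push Not at hcon
    have h1 : Nat.card D = s ^ (Nat.card D).primeFactorsList.length :=
      Nat.eq_prime_pow_of_unique_prime_dvd Nat.card_pos.ne' (fun {d} hd hdd => hcon d hd hdd)
    have h2 : IsPGroup s D := IsPGroup.of_card h1
    obtain ⟨m, hm⟩ := (Subgroup.isNilpotent_iff_lowerCentralSeries D).mp h2.isNilpotent
    exact hP ⟨k, m, hm⟩
  have hqf : Fact q.Prime := ⟨hq⟩
  set π := QuotientGroup.mk' N with hπ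
  have hπs : Function.Surjective π := QuotientGroup.mk'_surjective N
  have hDbar : Group.IsNilpotent (D.map π) := by
    rw [Subgroup.isNilpotent_iff_lowerCentralSeries]
    refine ⟨l, ?_⟩
    rw [← Subgroup.map_lowerCentralSeries, Subgroup.map_eq_bot_iff, QuotientGroup.ker_mk']
    exact hkl
  have hDbarn : (D.map π).Normal := hDn.map π hπs
  have hqDbar : q ∣ Nat.card (D.map π) := by
    have h1 : (D.map π).comap π = D ⊔ N := by
      rw [Subgroup.comap_map_eq, QuotientGroup.ker_mk']
    have h2 := H1.Hall.card_comap_mk N (D.map π)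
    rw [← hπ, h1] at h2
    have h3 : q ∣ Nat.card (D.map π) * Nat.card N := by
      rw [← h2]
      exact hqD.trans (Subgroup.card_dvd_of_le le_sup_left)
    rcases (Nat.Prime.dvd_mul hq).mp h3 with h4 | h4
    · exact h4
    · exfalso
      obtain ⟨j, hj⟩ := IsPGroup.iff_card.mp hNp
      rw [hj] at h4
      exact hqs ((Nat.prime_dvd_prime_iff_eq hq hs).mp (hq.dvd_of_dvd_pow h4))
  let Pb : Sylow q (D.map π) := default
  set PP := (Pb : Subgroup (D.map π)).map (D.map π).subtype with hPP
  have hPPn : PP.Normal := H1.Nilp.sylow_map_normal_of_nilpotent hDbarn hDbar Pb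
  have hPPp : IsPGroup q PP := Pb.2.map _
  obtain ⟨j, hj⟩ := IsPGroup.iff_card.mp hPPp
  have hPPne : 1 < Nat.card PP := by
    rw [hPP, Subgroup.card_map_of_injective (Subgroup.subtype_injective _)]
    have h1 := Pb.dvd_card_of_dvd_card hqDbar
    exact lt_of_lt_of_le hq.one_lt (Nat.le_of_dvd Nat.card_pos h1)
  set M := PP.comap π with hM
  have hMn : M.Normal := hPPn.comap π
  have hNM : N ≤ M := H1.Hall.le_comap_mk N PP
  have hMK : M ≤ K := by
    have h1 : PP ≤ D.map π := Subgroup.map_subtype_le _
    have h2 : M ≤ (D.map π).comap π := Subgroup.comap_mono h1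
    rw [Subgroup.comap_map_eq, QuotientGroup.ker_mk'] at h2
    exact h2.trans (sup_le hDK hNK)
  have hMs : Group.IsSolvable M := Group.isSolvable_of_isSolvable_injective (Subgroup.inclusion_injective hMK)
  have hNM' : N.relIndex M = q ^ j := by rw [← hj]; exact H1.Hall.relIndex_comap_mk N PP
  -- the Sylow subgroup
  obtain ⟨PQ, hPQ⟩ := H1.Coprime.invariant_sylow_exists A M (hnorm M hMn A) (coprime_of_le hMK hcop) (Or.inr hMs) q
  set Q := (PQ : Subgroup M).map M.subtype with hQ
  have hQM : Q ≤ M := Subgroup.map_subtype_le _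
  have hQp : IsPGroup q Q := PQ.2.map _
  have hQK : Q ≤ K := hQM.trans hMK
  have hQb : Q ≠ ⊥ := by
    intro h
    have h1 : q ∣ Nat.card M := by
      rw [hM, H1.Hall.card_comap_mk, hj]
      have h2 : j ≠ 0 := by
        rintro rfl
        rw [hj, pow_zero] at hPPne
        exact lt_irrefl _ hPPne
      exact Dvd.dvd.mul_right (dvd_pow_self q h2) _
    have h2 := PQ.dvd_card_of_dvd_card h1
    have h3 : Nat.card Q = Nat.card PQ := by
      rw [hQ, Subgroup.card_map_of_injective (Subgroup.subtype_injective _)]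
    rw [h, Subgroup.card_bot] at h3
    rw [← h3] at h2
    exact hq.one_lt.ne' (Nat.dvd_one.mp h2)
  have hNQ : N ⊓ Q = ⊥ := by
    apply Basic.inf_eq_bot_of_coprime
    obtain ⟨i, hi⟩ := IsPGroup.iff_card.mp hNp
    obtain ⟨i', hi'⟩ := IsPGroup.iff_card.mp hQp
    rw [hi, hi']
    exact Nat.Coprime.pow _ _ ((Nat.coprime_primes hs hq).mpr (fun h => hqs h.symm))
  have hMNQ : M ≤ Q ⊔ N := le_sup_of_pow hNM' (sylow_relIndex PQ)
  have hfrat : normalizer (Q : Set X) ⊔ N = ⊤ := by
    have h1 := H1.Nilp.frattini_argument PQ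
    rw [eq_top_iff, ← h1]
    apply sup_le le_sup_left
    exact hMNQ.trans (sup_le_sup_right Subgroup.le_normalizer N)
  have hnormal_of : ∀ L : Subgroup X, normalizer (Q : Set X) ≤ normalizer (L : Set X) → N ≤ normalizer (L : Set X) → L.Normal := by
    intro L h1 h2
    rw [← Subgroup.normalizer_eq_top_iff, eq_top_iff, ← hfrat]
    exact sup_le h1 h2
  -- the centralizer
  have hCn : (N ⊓ centralizer (Q : Set X)).Normal := by
    apply hnormal_of
    · exact Basic.le_normalizer_inf (hnorm N hNn _) (Basic.le_normalizer_centralizer le_rfl)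
    · exact le_normalizer_of_abelian hNc inf_le_left
  rcases hNmin _ hCn inf_le_left with hC | hC
  · -- complement
    set H := K ⊓ normalizer (Q : Set X) with hH
    have hNNQ : N ⊓ normalizer (Q : Set X) = ⊥ := by
      rw [eq_bot_iff, ← hC]
      rintro x ⟨hxN, hxQ⟩
      refine ⟨hxN, mem_centralizer_iff.mpr (fun y hy => ?_)⟩
      have h1 : x * y * x⁻¹ * y⁻¹ ∈ N ⊓ Q := by
        refine ⟨?_, Q.mul_mem ((Subgroup.mem_normalizer_iff.mp hxQ y).mp hy) (Q.inv_mem hy)⟩
        have h2 : x * y * x⁻¹ * y⁻¹ = x * (y * x⁻¹ * y⁻¹) := by group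
        rw [h2]
        exact N.mul_mem hxN (hNn.conj_mem _ (N.inv_mem hxN) y)
      rw [hNQ] at h1
      have h2 := Subgroup.mem_bot.mp h1
      rw [mul_inv_eq_one, mul_inv_eq_iff_eq_mul] at h2
      exact h2.symm
    have hAH : A ≤ normalizer (H : Set X) := Basic.le_normalizer_inf (hnorm K hK A) (Basic.le_normalizer_normalizer hPQ)
    have hNQH : normalizer (Q : Set X) ≤ normalizer (H : Set X) :=
      Basic.le_normalizer_inf (hnorm K hK _) Subgroup.le_normalizer
    have hHK : H ≤ K := inf_le_left
    have hHN : H ⊓ N = ⊥ := by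
      rw [eq_bot_iff, ← hNNQ]
      exact le_inf inf_le_right (inf_le_left.trans inf_le_right)
    have hCH : H ⊓ centralizer (N : Set X) = ⊥ := by
      by_contra hne
      have h1 : (H ⊓ centralizer (N : Set X)).Normal := by
        apply hnormal_of
        · exact Basic.le_normalizer_inf hNQH (Basic.le_normalizer_centralizer (hnorm N hNn _))
        · apply H1.Coprime.le_normalizer_of_le_centralizer
          rw [Subgroup.le_centralizer_iff]
          exact inf_le_right
      apply hP
      refine comb (N := N) (M := H ⊓ centralizer (N : Set X)) ?_ hQN (hquot _ h1 (inf_le_left.trans hHK) hne)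
      rw [eq_bot_iff, ← hHN]
      exact le_inf (inf_le_right.trans inf_le_left) inf_le_left
    have hOs : Cfsg.pCore s H = ⊥ := by
      set O := (Cfsg.pCore s H).map H.subtype with hO
      have hOp : IsPGroup s O := (H1.Nilp.pCore_isPGroup (G := H) s).map _
      have hOH : O ≤ H := Subgroup.map_subtype_le _
      have hOn : normalizer (H : Set X) ≤ normalizer (O : Set X) := normalizer_le_of_char (H1.KW.pCore_characteristic s)
      have h1 : (N ⊓ centralizer (O : Set X)).Normal := by
        apply hnormal_of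
        · exact Basic.le_normalizer_inf (hnorm N hNn _) (Basic.le_normalizer_centralizer (hNQH.trans hOn))
        · exact le_normalizer_of_abelian hNc inf_le_left
      have h2 : N ⊓ centralizer (O : Set X) ≠ ⊥ := by
        apply Prim.exists_fixed_of_dvd hOp (hnorm N hNn O)
        obtain ⟨i, hi⟩ := IsPGroup.iff_card.mp hNp
        have h3 : i ≠ 0 := by
          rintro rfl
          rw [pow_zero] at hi
          exact hNb (Subgroup.card_eq_one.mp hi)
        rw [hi]; exact dvd_pow_self s h3
      have h3 := (hNmin _ h1 inf_le_left).resolve_left h2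
      have h4 : O ≤ H ⊓ centralizer (N : Set X) := by
        refine le_inf hOH ?_
        rw [Subgroup.le_centralizer_iff]
        exact inf_eq_left.mp h3
      rw [hCH] at h4
      have h5 : O = ⊥ := le_bot_iff.mp h4
      rw [hO] at h5
      exact (Subgroup.map_eq_bot_iff_of_injective _ (Subgroup.subtype_injective _)).mp h5
    have hHnil := nilpotent_H hK hKs hA hf hNn hNK hNc hsf hNp hHK hAH hCH hOs
    -- conclusion
    have hKH : K ≤ H ⊔ N := by
      intro x hx
      have h1 : x ∈ normalizer (Q : Set X) ⊔ N := by rw [hfrat]; trivial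
      obtain ⟨y, hy, z, hz, rfl⟩ := (Basic.mem_sup_of_le_normalizer' (hnorm N hNn (normalizer (Q : Set X)))).mp (by rwa [sup_comm] at h1)
      have h2 : y ∈ K := by
        have h3 := K.mul_mem hx (K.inv_mem (hNK hz))
        rwa [mul_inv_cancel_right] at h3
      exact mul_mem ((le_sup_left : H ≤ H ⊔ N) ⟨h2, hy⟩) ((le_sup_right : N ≤ H ⊔ N) hz)
    obtain ⟨m, hm⟩ := (Subgroup.isNilpotent_iff_lowerCentralSeries H).mp hHnil
    have h1 : (K.lowerCentralSeries m) ≤ N := by
      have h2 : K.map π ≤ H.map π := by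
        refine (Subgroup.map_mono hKH).trans ?_
        rw [Subgroup.map_sup]
        apply sup_le le_rfl
        rw [(Subgroup.map_eq_bot_iff (H := N) (f := π)).mpr (by rw [QuotientGroup.ker_mk'])]
        exact bot_le
      have h3 : (K.lowerCentralSeries m).map π = ⊥ := by
        rw [eq_bot_iff, Subgroup.map_lowerCentralSeries]
        refine (Subgroup.lowerCentralSeries_mono m h2).trans ?_
        show (H.map π).lowerCentralSeries m ≤ ⊥
        rw [← Subgroup.map_lowerCentralSeries, hm, Subgroup.map_bot]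
      rw [Subgroup.map_eq_bot_iff, QuotientGroup.ker_mk'] at h3
      exact h3
    apply hP
    refine ⟨m, 1, ?_⟩
    rw [Subgroup.lowerCentralSeries_succ, Subgroup.lowerCentralSeries_zero, eq_bot_iff]
    refine (commutator_mono h1 h1).trans ?_
    rw [Subgroup.commutator_le]
    intro u hu v hv
    rw [Subgroup.mem_bot, commutatorElement_eq_one_iff_mul_comm]
    exact hNc u hu v hv
  · -- `Q` is normal
    have hQn : Q.Normal := by
      apply hnormal_of _ le_rfl
      apply H1.Coprime.le_normalizer_of_le_centralizer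
      exact inf_eq_left.mp hC
    exact hP (comb hNQ hQN (hquot Q hQn hQK hQb))

end Cfsg.Agent.H22.Ward
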