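import Mathlib
import Cfsg.Agent.H24_FratAut
import Cfsg.Agent.H2_Fusion3
import Cfsg.Agent.H2_Fusion4

/-!
Prime divisors of the order of the automorphism group of a `p`-group of rank `r`.
-/

set_option autoImplicit false

namespace Cfsg.Agent.H23.AutRank

open Subgroup

variable {P : Type*} [Group P]

/-- a prime `q ≠ p` dividing `|Aut P|` divides some `p ^ i - 1`, `1 ≤ i ≤ r`, `|P : Φ(P)| = p ^ r` -/
theorem dvd_pow_sub_one [Finite P] {p r : ℕ} [hp : Fact p.Prime] (hP : IsPGroup p P)
    (hr : (frattini P).index = p ^ r) {q : ℕ} (hq : q.Prime) (hqp : q ≠ p) (hd : q ∣ Nat.card (MulAut P)) :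
    ∃ i, 1 ≤ i ∧ i ≤ r ∧ q ∣ p ^ i - 1 := by
  classical
  haveI : Fact q.Prime := ⟨hq⟩
  obtain ⟨α, hα⟩ := exists_prime_orderOf_dvd_card' (G := MulAut P) q hd
  obtain ⟨n, hn⟩ := IsPGroup.iff_card.mp hP
  set β := Cfsg.Agent.H24.FratAut.toQuot P α with hβ
  have hβ1 : β ≠ 1 := by
    intro h1
    have h2 : zpowers α ≤ (Cfsg.Agent.H24.FratAut.toQuot P).ker := by
      rw [zpowers_le]
      exact h1
    have h3 := Cfsg.Agent.H24.FratAut.card_dvd (p := p) hn hr (zpowers α)
      (fun γ hγ => Cfsg.Agent.H24.FratAut.mem_ker_toQuot.mp (h2 hγ))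
    rw [Nat.card_zpowers, hα] at h3
    exact hqp ((Nat.prime_dvd_prime_iff_eq hq hp.out).mp (hq.dvd_of_dvd_pow h3))
  have hβq : β ^ q = 1 := by
    rw [hβ, ← map_pow, ← hα, pow_orderOf_eq_one, map_one]
  have hβo : orderOf β = q := orderOf_eq_prime hβq hβ1
  have hZ : IsPGroup q (zpowers β) := by
    rw [IsPGroup.iff_card]
    exact ⟨1, by rw [Nat.card_zpowers, hβo, pow_one]⟩
  have hmod := hZ.card_modEq_card_fixedPoints (P ⧸ frattini P)
  let F : Subgroup (P ⧸ frattini P) :=
    { carrier := {v | β v = v}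
      one_mem' := map_one β
      mul_mem' := fun {a b} ha hb => by
        change β (a * b) = a * b
        rw [map_mul, show β a = a from ha, show β b = b from hb]
      inv_mem' := fun {a} ha => by
        change β a⁻¹ = a⁻¹
        rw [map_inv, show β a = a from ha] }
  have hF : MulAction.fixedPoints (zpowers β) (P ⧸ frattini P) = (F : Set (P ⧸ frattini P)) := by
    ext v
    constructor
    · intro hv
      exact hv ⟨β, mem_zpowers β⟩
    · rintro hv ⟨γ, hγ⟩
      have hv' : β v = v := hv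
      have h1 : β ∈ MulAction.stabilizer (MulAut (P ⧸ frattini P)) v := hv'
      have h2 : zpowers β ≤ MulAction.stabilizer (MulAut (P ⧸ frattini P)) v := by
        rw [zpowers_le]; exact h1
      exact h2 hγ
  have hcF : Nat.card (MulAction.fixedPoints (zpowers β) (P ⧸ frattini P)) = Nat.card F := by
    rw [hF]; rfl
  rw [hcF, ← Subgroup.index_eq_card, hr] at hmod
  have hFd : Nat.card F ∣ p ^ r := by
    rw [← hr, Subgroup.index_eq_card]
    exact Subgroup.card_subgroup_dvd_card F
  obtain ⟨j, hj, hFj⟩ := (Nat.dvd_prime_pow hp.out).mp hFd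
  have hjr : j < r := by
    rcases lt_or_eq_of_le hj with h | h
    · exact h
    · exfalso
      apply hβ1
      have h1 : F = ⊤ := by
        apply Subgroup.eq_top_of_card_eq
        rw [hFj, h, ← hr, Subgroup.index_eq_card]
      ext v
      have : v ∈ F := h1 ▸ mem_top v
      exact this
  refine ⟨r - j, by omega, by omega, ?_⟩
  rw [hFj] at hmod
  have h1 : q ∣ p ^ r - p ^ j := (Nat.modEq_iff_dvd' (Nat.pow_le_pow_right hp.out.pos hj)).mp hmod.symm
  have h2 : p ^ r - p ^ j = p ^ j * (p ^ (r - j) - 1) := by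
    rw [Nat.mul_sub, mul_one, ← pow_add]
    congr 2
    omega
  rw [h2] at h1
  rcases (Nat.Prime.dvd_mul hq).mp h1 with h3 | h3
  · exact absurd ((Nat.prime_dvd_prime_iff_eq hq hp.out).mp (hq.dvd_of_dvd_pow h3)) hqp
  · exact h3

/-- the index of the Frattini subgroup is `p ^ r` with `r` at most the number of generators -/
theorem exists_index_frattini [Finite P] {p : ℕ} [hp : Fact p.Prime] (hP : IsPGroup p P) (T : Finset P)
    (hT : closure (T : Set P) = ⊤) : ∃ r, (frattini P).index = p ^ r ∧ r ≤ T.card := by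
  obtain ⟨n, hn⟩ := IsPGroup.iff_card.mp hP
  have h1 : (frattini P).index ∣ p ^ n := hn ▸ Subgroup.index_dvd_card _
  obtain ⟨r, _, hr⟩ := (Nat.dvd_prime_pow hp.out).mp h1
  exact ⟨r, hr, (Cfsg.Agent.H1.Frattini.burnside_basis p r hP hr).2 T hT⟩

end Cfsg.Agent.H23.AutRank
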