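import Mathlib
import Cfsg.Agent.H2_Basic
import Cfsg.Agent.H2_Card
import Cfsg.Agent.H24_Tools
import Cfsg.Agent.H1_Coprime2
import Cfsg.Agent.H4_BaerSuzuki
import Cfsg.Agent.H23_PiPart
import Cfsg.Agent.H23_Basic

/-! H23_Bs2: if 2-elements centralise every cyclic odd order subgroup they normalise then the Sylow 2-subgroup is normal. -/

set_option autoImplicit false

namespace Cfsg.Agent.H23.Bs2
open Cfsg.Agent

open Subgroup
open scoped Pointwise

universe u
variable {G : Type u} [Group G]

/-- two involutions whose product is a 2-element generate a 2-group -/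
theorem isPGroup_dihedral [Finite G] {s t : G} (hs : s * s = 1) (ht : t * t = 1) {k : ℕ} (h : (s * t) ^ (2 ^ k) = 1) :
    IsPGroup 2 (zpowers s ⊔ zpowers t : Subgroup G) := by
  have h1 : zpowers s ⊔ zpowers t = zpowers t ⊔ zpowers (s * t) := by
    apply le_antisymm
    · refine sup_le ?_ le_sup_left
      rw [zpowers_le]
      have h2 : (s * t) * t⁻¹ ∈ zpowers t ⊔ zpowers (s * t) :=
        mul_mem (mem_sup_right (mem_zpowers _)) (inv_mem (mem_sup_left (mem_zpowers _)))
      rwa [mul_inv_cancel_right] at h2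
    · refine sup_le le_sup_right ?_
      rw [zpowers_le]
      exact mul_mem (mem_sup_left (mem_zpowers _)) (mem_sup_right (mem_zpowers _))
  have hp1 : IsPGroup 2 (zpowers t) := by
    obtain ⟨j, -, hj⟩ := (Nat.dvd_prime_pow Nat.prime_two (m := 1)).1
      (orderOf_dvd_of_pow_eq_one (show t ^ (2 ^ 1) = 1 by rw [pow_one, pow_two, ht]))
    exact H24.Tools.isPGroup_zpowers hj
  have hp2 : IsPGroup 2 (zpowers (s * t)) := by
    obtain ⟨j, -, hj⟩ := (Nat.dvd_prime_pow Nat.prime_two (m := k)).1 (orderOf_dvd_of_pow_eq_one h)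
    exact H24.Tools.isPGroup_zpowers hj
  have hsi : s⁻¹ = s := inv_eq_of_mul_eq_one_left hs
  have hti : t⁻¹ = t := inv_eq_of_mul_eq_one_left ht
  have hinv : t * (s * t) * t⁻¹ = (s * t)⁻¹ := by
    rw [mul_inv_rev, hsi, hti]
    calc t * (s * t) * t = t * s * (t * t) := by group
      _ = t * s := by rw [ht, mul_one]
  rw [h1]
  apply IsPGroup.to_sup_of_normal_right' hp1 hp2
  rw [zpowers_le]
  apply H24.Tools.mem_normalizer
  rintro _ ⟨n, rfl⟩
  refine ⟨-n, ?_⟩
  change (s * t) ^ (-n) = t * (s * t) ^ n * t⁻¹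
  rw [← conj_zpow, hinv, inv_zpow, zpow_neg]

theorem main (n : ℕ) : ∀ (G : Type u) [Group G] [Finite G], Nat.card G ≤ n →
    (∀ x t : G, Odd (orderOf x) → (∃ k, orderOf t = 2 ^ k) → t ∈ normalizer (zpowers x : Set G) → t * x = x * t) →
    ∀ P : Sylow 2 G, (P : Subgroup G).Normal := by
  induction n with
  | zero =>
    intro G _ _ h
    exact absurd h (Nat.not_le.2 Nat.card_pos)
  | succ n ih =>
    intro G _ _ hn h P
    classical
    by_cases hev : 2 ∣ Nat.card G
    swap
    · have : (P : Subgroup G) = ⊥ := by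
        obtain ⟨k, hk⟩ := IsPGroup.iff_card.1 P.2
        rcases Nat.eq_zero_or_pos k with rfl | hk0
        · rw [pow_zero] at hk
          exact Subgroup.card_eq_one.1 hk
        · exact absurd ((dvd_pow_self 2 hk0.ne').trans (hk ▸ Subgroup.card_subgroup_dvd_card (P : Subgroup G))) hev
      rw [this]; infer_instance
    obtain ⟨t, ht⟩ := exists_prime_orderOf_dvd_card' 2 hev
    have ht1 : t ≠ 1 := by rintro rfl; simp at ht
    have htt : t * t = 1 := by rw [← pow_two, ← ht, pow_orderOf_eq_one]
    have hX : IsPGroup 2 (zpowers t) := H24.Tools.isPGroup_zpowers (k := 1) (by rw [ht, pow_one])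
    obtain ⟨V, hV, hV2, hVt⟩ := H4.BaerSuzuki.baer_suzuki (p := 2) (zpowers t) hX (by
      intro g
      have h1 : (zpowers t).map (MulAut.conj g).toMonoidHom = zpowers (g * t * g⁻¹) := by
        rw [MonoidHom.map_zpowers]; rfl
      rw [h1]
      set s := g * t * g⁻¹ with hs
      have hss : s * s = 1 := by
        have : s * s = g * (t * t) * g⁻¹ := by rw [hs]; group
        rw [this, htt]; group
      -- odd part of t * s
      obtain ⟨k, m, hm, hkm⟩ := Nat.exists_eq_two_pow_mul_odd (orderOf_pos (t * s)).ne'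
      apply isPGroup_dihedral htt hss (k := k)
      set y := (t * s) ^ (2 ^ k) with hy
      have hyo : Odd (orderOf y) := by
        rw [hy, orderOf_pow, hkm, Nat.gcd_eq_right (dvd_mul_right _ _), Nat.mul_div_cancel_left _ (pow_pos two_pos k)]
        exact hm
      have hti : t⁻¹ = t := inv_eq_of_mul_eq_one_left htt
      have hsi : s⁻¹ = s := inv_eq_of_mul_eq_one_left hss
      have hinv0 : t * (t * s) * t⁻¹ = (t * s)⁻¹ := by
        rw [mul_inv_rev, hsi, hti]
        calc t * (t * s) * t = (t * t) * s * t := by group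
          _ = s * t := by rw [htt, one_mul]
      have hinv : t * y * t⁻¹ = y⁻¹ := by
        rw [hy, ← conj_pow, hinv0, inv_pow]
      have h2 := h y t hyo ⟨1, by rw [ht, pow_one]⟩ (by
        apply H24.Tools.mem_normalizer
        rintro _ ⟨n, rfl⟩
        refine ⟨-n, ?_⟩
        change y ^ (-n) = t * y ^ n * t⁻¹
        rw [← conj_zpow, hinv, inv_zpow, zpow_neg])
      have h3 : y = y⁻¹ := by rw [← hinv, h2, mul_inv_cancel_right]
      have h4 : y * y = 1 := by
        nth_rewrite 2 [h3]; rw [mul_inv_cancel]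
      have h5 : orderOf y ∣ 2 := orderOf_dvd_of_pow_eq_one (by rw [pow_two, h4])
      rcases (Nat.dvd_prime Nat.prime_two).1 h5 with h6 | h6
      · exact orderOf_eq_one_iff.1 h6
      · rw [h6] at hyo; exact absurd hyo (by decide))
    have hVne : V ≠ ⊥ := by
      rintro rfl
      exact ht1 (mem_bot.1 (hVt (mem_zpowers t)))
    have hcard : Nat.card (G ⧸ V) ≤ n := by
      have := H2.Card.card_quotient_lt hVne
      omega
    have hq := ih (G ⧸ V) hcard (by
      intro x' t' hx' ht' hn'
      obtain ⟨x0, rfl⟩ := QuotientGroup.mk'_surjective V x'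
      obtain ⟨t0, rfl⟩ := QuotientGroup.mk'_surjective V t'
      haveI : Fact (Nat.Prime 2) := ⟨Nat.prime_two⟩
      obtain ⟨a, ha, y, hy, hay, -, ⟨c, hao⟩, hyo⟩ := H2.Basic.exists_p_decomp 2 x0
      have hxy : QuotientGroup.mk' V x0 = QuotientGroup.mk' V y := by
        have h1 : orderOf (QuotientGroup.mk' V a) ∣ 2 ^ c := hao ▸ orderOf_map_dvd _ a
        have h2 : orderOf (QuotientGroup.mk' V a) ∣ orderOf (QuotientGroup.mk' V x0) := by
          obtain ⟨k, rfl⟩ := mem_zpowers_iff.1 ha
          rw [map_zpow]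
          exact orderOf_dvd_of_mem_zpowers ⟨k, rfl⟩
        have h3 : Nat.Coprime (orderOf (QuotientGroup.mk' V x0)) (2 ^ c) :=
          Nat.Coprime.pow_right c ((Nat.coprime_two_right).2 hx')
        have h4 := Nat.eq_one_of_dvd_coprimes h3 h2 h1
        rw [orderOf_eq_one_iff] at h4
        rw [← hay, map_mul, h4, one_mul]
      rw [hxy] at hn' ⊢
      have hyodd : Odd (orderOf y) := Nat.coprime_two_right.1 hyo
      have hconj : MulAut.conj t0 • zpowers y ≤ zpowers y ⊔ V := by
        intro z hz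
        have hz' := H24.Tools.mem_conj.1 hz
        have h1 : QuotientGroup.mk' V (t0⁻¹ * z * t0) ∈ zpowers (QuotientGroup.mk' V y) := by
          rw [← MonoidHom.map_zpowers]; exact mem_map_of_mem _ hz'
        have h2 := (mem_normalizer_iff.1 hn' _).1 h1
        rw [← map_inv, ← map_mul, ← map_mul, ← MonoidHom.map_zpowers] at h2
        have h3 : t0 * (t0⁻¹ * z * t0) * t0⁻¹ = z := by group
        rw [h3] at h2
        have h4 : z ∈ ((zpowers y).map (QuotientGroup.mk' V)).comap (QuotientGroup.mk' V) := h2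
        rwa [comap_map_eq, QuotientGroup.ker_mk'] at h4
      obtain ⟨l, hl⟩ := IsPGroup.iff_card.1 hV2
      have hcc : Nat.card (MulAut.conj t0 • zpowers y : Subgroup G) = Nat.card (zpowers y) := by
        exact (Nat.card_congr (Subgroup.equivSMul _ _).toEquiv).symm
      obtain ⟨v, hv, hvc⟩ := H1.Coprime.sz_internal (A := zpowers y) (B := MulAut.conj t0 • zpowers y) (K := V) (by
        rw [normalizer_eq_top]; exact le_top) hconj hcc (by
        rw [hl, Nat.card_zpowers]; exact Nat.Coprime.pow_right l hyo) (Or.inl (by infer_instance))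
      have hvt : QuotientGroup.mk' V (v⁻¹ * t0) = QuotientGroup.mk' V t0 := by
        have : QuotientGroup.mk' V v = 1 := (QuotientGroup.eq_one_iff v).2 hv
        rw [map_mul, map_inv, this, inv_one, one_mul]
      have hnorm : v⁻¹ * t0 ∈ normalizer (zpowers y : Set G) := by
        apply H24.Tools.mem_normalizer
        intro z hz
        have h1 : t0 * z * t0⁻¹ ∈ MulAut.conj t0 • zpowers y := by
          rw [H24.Tools.mem_conj]
          have : t0⁻¹ * (t0 * z * t0⁻¹) * t0 = z := by group
          rw [this]; exact hz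
        rw [← hvc, H24.Tools.mem_conj] at h1
        convert h1 using 1
        group
      have h2el : ∃ k, orderOf (v⁻¹ * t0) = 2 ^ k := by
        obtain ⟨k, hk⟩ := ht'
        have h1 : (v⁻¹ * t0) ^ (2 ^ k) ∈ V := by
          rw [← QuotientGroup.eq_one_iff]
          change QuotientGroup.mk' V _ = 1
          rw [map_pow, hvt, ← hk, pow_orderOf_eq_one]
        obtain ⟨j, hj⟩ := H24.Tools.exists_orderOf hV2 h1
        have h3 : (v⁻¹ * t0) ^ (2 ^ (k + j)) = 1 := by
          rw [pow_add, pow_mul, ← hj, pow_orderOf_eq_one]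
        obtain ⟨i, -, hi⟩ := (Nat.dvd_prime_pow Nat.prime_two).1 (orderOf_dvd_of_pow_eq_one h3)
        exact ⟨i, hi⟩
      have h5 := congrArg (QuotientGroup.mk' V) (h y (v⁻¹ * t0) hyodd h2el hnorm)
      rw [map_mul (QuotientGroup.mk' V) (v⁻¹ * t0) y, map_mul (QuotientGroup.mk' V) y (v⁻¹ * t0), hvt] at h5
      exact h5)
    have hVP : V ≤ P := by
      have h1 : IsPGroup 2 ((P : Subgroup G) ⊔ V : Subgroup G) := IsPGroup.to_sup_of_normal_right P.2 hV2
      have h2 := P.3 h1 le_sup_left
      rw [← h2]; exact le_sup_right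
    have h3 := hq (P.mapSurjective (QuotientGroup.mk'_surjective V))
    have h4 : (P : Subgroup G) = ((P : Subgroup G).map (QuotientGroup.mk' V)).comap (QuotientGroup.mk' V) := by
      rw [comap_map_eq, QuotientGroup.ker_mk', sup_eq_left.2 hVP]
    rw [h4]
    exact h3.comap _

end Cfsg.Agent.H23.Bs2
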