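import Mathlib
import Cfsg.Agent.H2_Basic
import Cfsg.Agent.H2_Card
import Cfsg.Agent.H24_Tools
import Cfsg.Agent.H2_Fusion4
import Cfsg.Agent.H23_Basic

/-! H23_CycSyl: groups with a cyclic Sylow `p`-subgroup. -/

set_option autoImplicit false

namespace Cfsg.Agent.H23.CycSyl
open Cfsg.Agent Cfsg

open Subgroup
open scoped Pointwise

universe u
variable {G : Type u} [Group G] [Finite G] {p : ℕ} [hp : Fact p.Prime]

theorem conj_iter {n x : G} {r : ℤ} (h : n * x * n⁻¹ = x ^ r) (k : ℕ) : n ^ k * x * (n ^ k)⁻¹ = x ^ (r ^ k) := by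
  induction k with
  | zero => simp
  | succ k ih =>
    have h1 : n ^ (k + 1) * x * (n ^ (k + 1))⁻¹ = n * (n ^ k * x * (n ^ k)⁻¹) * n⁻¹ := by
      rw [pow_succ']; group
    rw [h1, ih, ← conj_zpow, h, ← zpow_mul, pow_succ, mul_comm]

/-- an element normalising a cyclic Sylow `p`-subgroup `⟨x⟩` as `x ↦ x ^ r` with `r ≡ 1 (p)` centralises it -/
theorem centralizes (P : Sylow p G) {x n : G} (hx : zpowers x = (P : Subgroup G)) {r : ℤ} (h : n * x * n⁻¹ = x ^ r)
    (hr : (p : ℤ) ∣ r - 1) : n ∈ centralizer ((P : Subgroup G) : Set G) := by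
  have hcent : centralizer ((P : Subgroup G) : Set G) = centralizer ({x} : Set G) := by
    rw [← hx]
    apply le_antisymm
    · exact centralizer_le (by simp)
    · intro g hg
      rw [mem_centralizer_iff]
      rintro _ ⟨k, rfl⟩
      rw [mem_centralizer_singleton_iff] at hg
      exact ((show Commute g x from hg).zpow_right k).eq.symm
  obtain ⟨a, ha⟩ := IsPGroup.iff_card.1 P.2
  have ho : orderOf x = p ^ a := by
    rw [← Nat.card_zpowers, hx]; exact ha
  have h1 : n ^ (p ^ a) ∈ centralizer ((P : Subgroup G) : Set G) := by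
    rw [hcent, mem_centralizer_singleton_iff]
    have h2 := conj_iter h (p ^ a)
    have h3 : x ^ (r ^ (p ^ a)) = x := by
      have h4 := dvd_sub_pow_of_dvd_sub hr a
      rw [one_pow] at h4
      have h5 : (orderOf x : ℤ) ∣ r ^ p ^ a - 1 := by
        rw [ho]; push_cast
        exact (pow_dvd_pow (p : ℤ) (Nat.le_succ a)).trans h4
      have h6 : x ^ (r ^ p ^ a - 1) = 1 := orderOf_dvd_iff_zpow_eq_one.1 h5
      rw [zpow_sub, zpow_one, mul_inv_eq_one] at h6
      exact h6
    rw [h3] at h2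
    exact mul_inv_eq_iff_eq_mul.1 h2
  have hn : n ∈ normalizer ((P : Subgroup G) : Set G) := by
    apply H24.Tools.mem_normalizer
    intro y hy
    rw [← hx] at hy ⊢
    obtain ⟨k, rfl⟩ := hy
    change n * x ^ k * n⁻¹ ∈ _
    rw [← conj_zpow, h]
    exact zpow_mem (zpow_mem (mem_zpowers x) _) _
  haveI hn' : ((centralizer ((P : Subgroup G) : Set G)).subgroupOf (normalizer ((P : Subgroup G) : Set G))).Normal := by
    rw [← Subgroup.normalizerMonoidHom_ker]; infer_instance
  have h3 : n ^ ((centralizer ((P : Subgroup G) : Set G)).relIndex (normalizer ((P : Subgroup G) : Set G))) ∈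
      centralizer ((P : Subgroup G) : Set G) :=
    ((centralizer ((P : Subgroup G) : Set G)).subgroupOf (normalizer ((P : Subgroup G) : Set G))).pow_index_mem ⟨n, hn⟩
  have h4 : ¬ p ∣ (centralizer ((P : Subgroup G) : Set G)).relIndex (normalizer ((P : Subgroup G) : Set G)) := by
    intro hd
    apply P.not_dvd_index
    have hPc : (P : Subgroup G) ≤ centralizer ((P : Subgroup G) : Set G) := by
      rw [hcent, ← hx, zpowers_le, mem_centralizer_singleton_iff]
    have h5 := relIndex_mul_relIndex (P : Subgroup G) (centralizer ((P : Subgroup G) : Set G))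
      (normalizer ((P : Subgroup G) : Set G)) hPc (centralizer_le_normalizer _)
    have h6 := relIndex_mul_index (le_normalizer (H := (P : Subgroup G)))
    rw [← h6, ← h5]
    exact (hd.mul_left _).mul_right _
  have h5 : Nat.Coprime (p ^ a) ((centralizer ((P : Subgroup G) : Set G)).relIndex (normalizer ((P : Subgroup G) : Set G))) :=
    Nat.Coprime.pow_left a ((Nat.Prime.coprime_iff_not_dvd hp.out).2 h4)
  have h6 := Nat.gcd_eq_gcd_ab (p ^ a) ((centralizer ((P : Subgroup G) : Set G)).relIndex (normalizer ((P : Subgroup G) : Set G)))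
  rw [Nat.coprime_iff_gcd_eq_one.1 h5] at h6
  have h7 : n = (n ^ (p ^ a)) ^ (Nat.gcdA (p ^ a) ((centralizer ((P : Subgroup G) : Set G)).relIndex (normalizer ((P : Subgroup G) : Set G)))) *
      (n ^ ((centralizer ((P : Subgroup G) : Set G)).relIndex (normalizer ((P : Subgroup G) : Set G)))) ^
        (Nat.gcdB (p ^ a) ((centralizer ((P : Subgroup G) : Set G)).relIndex (normalizer ((P : Subgroup G) : Set G)))) := by
    rw [← zpow_natCast, ← zpow_natCast n, ← zpow_mul, ← zpow_mul, ← zpow_add, ← h6]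
    simp
  rw [h7]
  exact mul_mem (zpow_mem h1 _) (zpow_mem h3 _)

/-- if a cyclic Sylow `p`-subgroup meets the centre then the group is `p`-nilpotent -/
theorem npc_of_central (P : Sylow p G) (hP : IsCyclic (P : Subgroup G)) (w : G) (hw : w ∈ (P : Subgroup G)) (hw1 : w ≠ 1)
    (hwc : w ∈ center G) : HasNormalPComplement p G := by
  obtain ⟨⟨x, hxP⟩, hx⟩ := hP.exists_generator
  have hx' : zpowers x = (P : Subgroup G) := by
    apply le_antisymm
    · rwa [zpowers_le]
    · intro y hy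
      obtain ⟨k, hk⟩ := hx ⟨y, hy⟩
      exact ⟨k, congrArg Subtype.val hk⟩
  obtain ⟨a, ha⟩ := IsPGroup.iff_card.1 P.2
  have ho : orderOf x = p ^ a := by
    rw [← Nat.card_zpowers, hx']; exact ha
  apply H2.Fusion4.npc_of_normalizer_le_centralizer P
  intro n hn
  have h1 : n * x * n⁻¹ ∈ zpowers x := by
    rw [hx']; exact (mem_normalizer_iff.1 hn x).1 hxP
  obtain ⟨r, hr⟩ := h1
  refine centralizes P hx' hr.symm ?_
  rw [← hx'] at hw
  obtain ⟨i, rfl⟩ := hw
  simp only at hw1 hwc hr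
  have h2 : n * x ^ i * n⁻¹ = x ^ i := by
    rw [mul_inv_eq_iff_eq_mul]; exact (mem_center_iff.1 hwc n)
  rw [← conj_zpow, ← hr, ← zpow_mul] at h2
  have h3 : x ^ (i * (r - 1)) = 1 := by
    have : i * (r - 1) = r * i - i := by ring
    rw [this, zpow_sub, h2, mul_inv_cancel]
  have h4 : ((p ^ a : ℕ) : ℤ) ∣ i * (r - 1) := by rw [← ho]; exact orderOf_dvd_iff_zpow_eq_one.2 h3
  have h5 : ¬ ((p ^ a : ℕ) : ℤ) ∣ i := by
    rw [← ho, orderOf_dvd_iff_zpow_eq_one]; exact hw1
  by_contra hnd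
  apply h5
  have hpI : Prime (p : ℤ) := Nat.prime_iff_prime_int.1 hp.out
  have h6 : IsCoprime ((p ^ a : ℕ) : ℤ) (r - 1) := by
    push_cast
    exact IsCoprime.pow_left ((Prime.coprime_iff_not_dvd hpI).2 hnd)
  exact h6.dvd_of_dvd_mul_right h4

/-- the centraliser of a nontrivial subgroup of a cyclic Sylow `p`-subgroup is `p`-nilpotent -/
theorem npc_centralizer (P : Sylow p G) (hP : IsCyclic (P : Subgroup G)) (Q : Subgroup G) (hQP : Q ≤ P) (hQ : Q ≠ ⊥) :
    (P : Subgroup G) ≤ centralizer (Q : Set G) ∧ HasNormalPComplement p (centralizer (Q : Set G)) := by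
  have hcomm : ∀ a ∈ (P : Subgroup G), ∀ b ∈ (P : Subgroup G), a * b = b * a := by
    intro a ha b hb
    letI := hP.commGroup
    exact congrArg Subtype.val (mul_comm (⟨a, ha⟩ : (P : Subgroup G)) ⟨b, hb⟩)
  have hPC : (P : Subgroup G) ≤ centralizer (Q : Set G) := by
    intro a ha
    rw [mem_centralizer_iff]
    intro b hb
    exact (hcomm a ha b (hQP hb)).symm
  refine ⟨hPC, ?_⟩
  obtain ⟨⟨w, hw⟩, hw1⟩ := ne_bot_iff_exists_ne_one.1 hQ
  refine npc_of_central (P.subtype hPC) ?_ ⟨w, hPC (hQP hw)⟩ ?_ ?_ ?_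
  · exact isCyclic_of_injective ((subgroupOfEquivOfLe hPC).toMonoidHom.comp (MonoidHom.id _))
      (by exact (subgroupOfEquivOfLe hPC).injective)
  · exact hQP hw
  · intro h; exact hw1 (Subtype.ext (show w = 1 from congrArg Subtype.val h))
  · rw [mem_center_iff]
    rintro ⟨g, hg⟩
    exact Subtype.ext ((mem_centralizer_iff.1 hg w hw).symm)

/-- a group with a nontrivial normal `p`-subgroup and a cyclic Sylow `p`-subgroup is `p`-solvable -/
theorem isPSolvable_of_normal (P : Sylow p G) (hP : IsCyclic (P : Subgroup G)) (Q : Subgroup G) [Q.Normal]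
    (hQp : IsPGroup p Q) (hQ : Q ≠ ⊥) : IsPSolvable p G := by
  have hQP : Q ≤ P := by
    have h1 : IsPGroup p ((P : Subgroup G) ⊔ Q : Subgroup G) := IsPGroup.to_sup_of_normal_right P.2 hQp
    rw [← P.3 h1 le_sup_left]; exact le_sup_right
  obtain ⟨hPC, hnpc⟩ := npc_centralizer P hP Q hQP hQ
  set C := centralizer (Q : Set G) with hC
  obtain ⟨K', hK'n, hK'c, k, hk⟩ := H2.Basic.npc_iff.1 hnpc
  set K := K'.map C.subtype with hK
  have hKC : K ≤ C := map_subtype_le _
  haveI hCn : C.Normal := by rw [hC]; infer_instance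
  have hKn : K.Normal := by
    constructor
    rintro _ ⟨y, hy, rfl⟩ g
    have h1 : g * (y : G) * g⁻¹ ∈ C := hCn.conj_mem y y.2 g
    refine ⟨⟨_, h1⟩, ?_, rfl⟩
    haveI := hK'n
    rw [SetLike.mem_coe, H2.Basic.mem_npc_iff hK'c hk] at hy ⊢
    rw [orderOf_mk, H24.Tools.orderOf_conj]
    rwa [← orderOf_coe] at hy
  have hmono : ∀ i j : Fin 4, i ≤ j → (![⊥, K, C, ⊤] : Fin 4 → Subgroup G) i ≤ (![⊥, K, C, ⊤] : Fin 4 → Subgroup G) j := by
    intro i j hij
    fin_cases i <;> fin_cases j <;> simp at hij ⊢ <;> assumption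
  refine ⟨3, ![⊥, K, C, ⊤], rfl, rfl, fun i j hij => hmono i j hij, ?_, ?_⟩
  · intro i
    fin_cases i
    · exact (inferInstance : (⊥ : Subgroup G).Normal)
    · exact hKn
    · exact hCn
    · exact (inferInstance : (⊤ : Subgroup G).Normal)
  · intro i
    fin_cases i
    · right
      change ((⊥ : Subgroup G).relIndex K).Coprime p
      rw [relIndex_bot_left, hK, card_map_of_injective C.subtype_injective]
      exact ((Nat.Prime.coprime_iff_not_dvd hp.out).2 hK'c).symm
    · left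
      refine ⟨k, ?_⟩
      change K.relIndex C = p ^ k
      have : K.subgroupOf C = K' := comap_map_eq_self_of_injective C.subtype_injective _
      rw [relIndex, this, hk]
    · right
      change (C.relIndex (⊤ : Subgroup G)).Coprime p
      rw [relIndex_top_right]
      refine ((Nat.Prime.coprime_iff_not_dvd hp.out).2 fun hd => P.not_dvd_index (hd.trans (index_dvd_of_le hPC))).symm

/-- a normal subgroup `H` with `p ∣ |H|` and `p ∣ |G : H|` is `p`-nilpotent -/
theorem npc_of_index (P₀ : Sylow p G) (hP₀ : IsCyclic (P₀ : Subgroup G)) (H : Subgroup G) [hHn : H.Normal] (h1 : p ∣ Nat.card H)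
    (h2 : p ∣ H.index) : HasNormalPComplement p H := by
  classical
  let T : Sylow p H := default
  obtain ⟨P, hTP⟩ := (T.2.map H.subtype).exists_le_sylow
  set Q := (T : Subgroup H).map H.subtype with hQdef
  have hP : IsCyclic (P : Subgroup G) := isCyclic_of_surjective (Sylow.equiv P₀ P) (Sylow.equiv P₀ P).surjective
  have hQ : Q ≠ ⊥ := by
    intro h
    apply T.not_dvd_index
    have h3 : (T : Subgroup H) = ⊥ := (map_eq_bot_iff_of_injective _ H.subtype_injective).1 h
    rw [h3, index_bot]; exact h1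
  obtain ⟨hPC, hnpc⟩ := npc_centralizer P hP Q hTP hQ
  set C := centralizer (Q : Set G) with hC
  obtain ⟨K', hK'n, hcomp⟩ := (H2.Basic.npc_iff_sylow (P.subtype hPC)).1 hnpc
  obtain ⟨⟨x, hxP⟩, hx⟩ := hP.exists_generator
  have hx' : zpowers x = (P : Subgroup G) := by
    apply le_antisymm
    · rwa [zpowers_le]
    · intro y hy
      obtain ⟨k, hk⟩ := hx ⟨y, hy⟩
      exact ⟨k, congrArg Subtype.val hk⟩
  have hcomm : ∀ a ∈ (P : Subgroup G), a * x = x * a := by
    intro a ha
    rw [← hx'] at ha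
    obtain ⟨k, rfl⟩ := ha
    exact ((Commute.refl x).zpow_left k).eq
  apply H2.Fusion4.npc_of_normalizer_le_centralizer T
  intro y hy
  suffices hy' : (y : G) ∈ C by
    rw [mem_centralizer_iff]
    intro t ht
    exact Subtype.ext (mem_centralizer_iff.1 hy' t ⟨t, ht, rfl⟩)
  have hyQ : (y : G) ∈ normalizer (Q : Set G) := by
    apply H24.Tools.mem_normalizer
    rintro _ ⟨t, ht, rfl⟩
    exact ⟨y * t * y⁻¹, (mem_normalizer_iff.1 hy t).1 ht, rfl⟩
  have hyP : (((y : G) • P : Sylow p G) : Subgroup G) ≤ C := by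
    intro z hz
    have hz' := (H2.Basic.mem_smul_sylow P (y : G) z).1 hz
    have h3 := mem_centralizer_iff.1 (hPC hz')
    rw [hC, mem_centralizer_iff]
    intro w hw
    have hw' : (y : G)⁻¹ * w * y ∈ Q := by
      have := (mem_normalizer_iff.1 ((normalizer (Q : Set G)).inv_mem hyQ) w).1 hw
      rwa [inv_inv] at this
    have h4 := h3 _ hw'
    have h5 : w * z = y * (((y : G)⁻¹ * w * y) * ((y : G)⁻¹ * z * y)) * (y : G)⁻¹ := by group
    rw [h5, h4]; group
  obtain ⟨c, hc, hcy⟩ := H2.Basic.sylow_conj_in C P ((y : G) • P) hPC hyP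
  have hn : c⁻¹ * (y : G) ∈ normalizer ((P : Subgroup G) : Set G) := by
    exact Sylow.smul_eq_iff_mem_normalizer.1 (by rw [mul_smul, ← hcy, inv_smul_smul])
  set n := c⁻¹ * (y : G) with hndef
  have hnx : n * x * n⁻¹ ∈ zpowers x := by
    rw [hx']; exact (mem_normalizer_iff.1 hn x).1 hxP
  obtain ⟨r, hr⟩ := hnx
  simp only at hr
  by_cases hpr : (p : ℤ) ∣ r - 1
  · have h3 := centralizes P hx' hr.symm hpr
    have h4 : n ∈ C := by
      rw [hC, mem_centralizer_iff]
      intro w hw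
      exact mem_centralizer_iff.1 h3 w (hTP hw)
    have h5 : (y : G) = c * n := by rw [hndef]; group
    rw [h5]; exact mul_mem hc h4
  · exfalso
    obtain ⟨⟨k, u⟩, hku⟩ := hcomp.2 (⟨c⁻¹, C.inv_mem hc⟩ : C)
    have hku' : ((k : C) : G) * ((u : C) : G) = c⁻¹ := congrArg Subtype.val hku
    have hu : ((u : C) : G) ∈ (P : Subgroup G) := u.2
    -- κ
    have hκ : c⁻¹ * x * c * x⁻¹ ∈ K'.map C.subtype := by
      have h3 : c⁻¹ * x * c * x⁻¹ = (k : C) * (x * ((k : C) : G)⁻¹ * x⁻¹) := by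
        have hcc : c = (((k : C) : G) * ((u : C) : G))⁻¹ := by rw [hku', inv_inv]
        rw [← hku', hcc]
        have := hcomm _ hu
        calc ((k : C) : G) * ((u : C) : G) * x * (((k : C) : G) * ((u : C) : G))⁻¹ * x⁻¹
            = ((k : C) : G) * (((u : C) : G) * x) * ((u : C) : G)⁻¹ * ((k : C) : G)⁻¹ * x⁻¹ := by group
          _ = ((k : C) : G) * (x * ((u : C) : G)) * ((u : C) : G)⁻¹ * ((k : C) : G)⁻¹ * x⁻¹ := by rw [this]
          _ = _ := by group
      rw [h3]
      refine ⟨(k : C) * (⟨x, hPC hxP⟩ * (k : C)⁻¹ * ⟨x, hPC hxP⟩⁻¹), ?_, rfl⟩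
      exact mul_mem k.2 (hK'n.conj_mem _ (inv_mem k.2) _)
    set q := QuotientGroup.mk' H with hq
    have hqy : q (y : G) = 1 := (QuotientGroup.eq_one_iff (y : G)).2 y.2
    have hqn : q n = q c⁻¹ := by rw [hndef, map_mul, hqy, mul_one]
    have h3 : q x ^ (r - 1) = q (c⁻¹ * x * c * x⁻¹) := by
      rw [zpow_sub_one, ← map_zpow, hr, map_mul, map_mul, map_inv, hqn]
      simp only [map_mul, map_inv, inv_inv]
    obtain ⟨z, hz, hzx⟩ := hκ
    have h4 : (orderOf (q x ^ (r - 1))).Coprime p := by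
      rw [h3, ← hzx]
      have h5 : orderOf (q (C.subtype z)) ∣ Nat.card K' := by
        refine (orderOf_map_dvd q _).trans ?_
        rw [Subgroup.coe_subtype, orderOf_coe, ← orderOf_mk z hz]
        exact orderOf_dvd_natCard _
      refine Nat.Coprime.coprime_dvd_left h5 ?_
      rw [← hcomp.index_eq_card]
      exact ((Nat.Prime.coprime_iff_not_dvd hp.out).2 (P.subtype hPC).not_dvd_index).symm
    obtain ⟨a, ha⟩ := H24.Tools.exists_orderOf P.2 hxP
    have hqo : orderOf (q x) ∣ p ^ a := ha ▸ orderOf_map_dvd q x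
    have h5 : q x ^ (r - 1) = 1 := by
      rw [← orderOf_eq_one_iff]
      exact Nat.eq_one_of_dvd_coprimes (Nat.Coprime.pow_right a h4) dvd_rfl
        ((orderOf_dvd_of_mem_zpowers ⟨r - 1, rfl⟩).trans hqo)
    have h6 : (orderOf (q x) : ℤ) ∣ r - 1 := orderOf_dvd_iff_zpow_eq_one.2 h5
    have h7 : q x = 1 := by
      rw [← orderOf_eq_one_iff]
      obtain ⟨b, -, hb⟩ := (Nat.dvd_prime_pow hp.out).1 hqo
      rcases Nat.eq_zero_or_pos b with rfl | hb0
      · rw [hb, pow_zero]
      · exfalso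
        apply hpr
        rw [hb] at h6
        refine dvd_trans ?_ h6
        exact_mod_cast (dvd_pow_self p hb0.ne')
    have h8 : x ∈ H := (QuotientGroup.eq_one_iff x).1 h7
    have h9 : (P : Subgroup G) ≤ H := by rw [← hx', zpowers_le]; exact h8
    exact P.not_dvd_index (h2.trans (index_dvd_of_le h9))

end Cfsg.Agent.H23.CycSyl
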