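import Mathlib
import Cfsg.Agent.H10_FixVec

/-! H23_DLen: derived length of linear `p`-groups. -/

set_option autoImplicit false
set_option linter.style.haveILetI false

namespace Cfsg.Agent.H23.DLen

open Subgroup Module
open scoped commutatorElement

universe u v

section reps

variable {F : Type*} [Field F] {P : Type*} [Group P] {V : Type*} [AddCommGroup V] [Module F V]

/-- restriction to an invariant submodule -/
def subRep (ρ : P →* Module.End F V) (W : Submodule F V) (hW : ∀ g, ∀ v ∈ W, ρ g v ∈ W) : P →* Module.End F W where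
  toFun g := (ρ g).restrict (hW g)
  map_one' := by ext v; simp
  map_mul' g h := by ext v; simp

/-- the quotient by an invariant submodule -/
def quotRep (ρ : P →* Module.End F V) (W : Submodule F V) (hW : ∀ g, ∀ v ∈ W, ρ g v ∈ W) : P →* Module.End F (V ⧸ W) where
  toFun g := W.mapQ W (ρ g) (hW g)
  map_one' := by ext v; simp
  map_mul' g h := by ext v; simp

theorem subRep_apply (ρ : P →* Module.End F V) (W : Submodule F V) (hW : ∀ g, ∀ v ∈ W, ρ g v ∈ W) (g : P) (v : W) :
    ((subRep ρ W hW g v : W) : V) = ρ g v := rfl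

theorem quotRep_mk (ρ : P →* Module.End F V) (W : Submodule F V) (hW : ∀ g, ∀ v ∈ W, ρ g v ∈ W) (g : P) (v : V) :
    quotRep ρ W hW g (W.mkQ v) = W.mkQ (ρ g v) := rfl

end reps

/-- derived series and a subgroup containing the derived subgroup -/
theorem derivedSeries_succ_le {P : Type*} [Group P] (C : Subgroup P) (hC : derivedSeries P 1 ≤ C) (j : ℕ) :
    derivedSeries P (j + 1) ≤ (derivedSeries C j).map C.subtype := by
  induction j with
  | zero =>
    rw [derivedSeries_zero, ← MonoidHom.range_eq_map, C.range_subtype]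
    exact hC
  | succ j ih =>
    rw [derivedSeries_succ, derivedSeries_succ C, Subgroup.map_commutator]
    exact Subgroup.commutator_mono ih ih

section charp

variable {F : Type*} [Field F] {P : Type*} [Group P] {V : Type*} [AddCommGroup V] [Module F V]

/-- the upper central chain of a module -/
def W (ρ : P →* Module.End F V) : ℕ → Submodule F V
  | 0 => ⊥
  | i + 1 => ⨅ g : P, (W ρ i).comap (ρ g - 1)

theorem mem_W {ρ : P →* Module.End F V} {i : ℕ} {v : V} : v ∈ W ρ (i + 1) ↔ ∀ g, ρ g v - v ∈ W ρ i := by
  simp [W, Submodule.mem_iInf]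

theorem W_zero {ρ : P →* Module.End F V} {v : V} : v ∈ W ρ 0 ↔ v = 0 := by simp [W]

theorem W_succ (ρ : P →* Module.End F V) (i : ℕ) : W ρ i ≤ W ρ (i + 1) := by
  induction i with
  | zero =>
    intro v hv
    rw [W_zero] at hv
    subst hv
    exact zero_mem _
  | succ i ih =>
    intro v hv
    rw [mem_W] at hv ⊢
    exact fun g => ih (hv g)

theorem W_mono (ρ : P →* Module.End F V) : Monotone (W ρ) := monotone_nat_of_le_succ (W_succ ρ)

theorem W_inv (ρ : P →* Module.End F V) (i : ℕ) (g : P) {v : V} (hv : v ∈ W ρ i) : ρ g v ∈ W ρ i := by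
  cases i with
  | zero =>
    rw [W_zero] at hv ⊢
    rw [hv, map_zero]
  | succ i =>
    have h1 := W_succ ρ i (mem_W.1 hv g)
    have h2 := add_mem h1 hv
    rwa [sub_add_cancel] at h2

theorem W_lt [Finite P] {p : ℕ} [hp : Fact p.Prime] [CharP F p] (hP : IsPGroup p P) (ρ : P →* Module.End F V) (i : ℕ)
    (h : W ρ i ≠ ⊤) : W ρ i < W ρ (i + 1) := by
  apply lt_of_le_of_ne (W_succ ρ i)
  intro heq
  obtain ⟨v, hv⟩ : ∃ v, v ∉ W ρ i := by
    by_contra hcon
    push Not at hcon
    exact h (eq_top_iff.2 (fun v _ => hcon v))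
  set σ := quotRep ρ (W ρ i) (fun g v hv => W_inv ρ i g hv) with hσ
  letI : DistribMulAction P (V ⧸ W ρ i) :=
    { smul := fun g x => σ g x
      one_smul := fun x => by change σ 1 x = x; rw [map_one]; rfl
      mul_smul := fun g h x => by change σ (g * h) x = σ g (σ h x); rw [map_mul]; rfl
      smul_zero := fun g => map_zero (σ g)
      smul_add := fun g x y => map_add (σ g) x y }
  obtain ⟨w, hw0, hw⟩ := H10.FixVec.exists_fixed_vec (P := P) (V := V ⧸ W ρ i) (p := p) hP (by
    intro x
    rw [← Nat.cast_smul_eq_nsmul F, CharP.cast_eq_zero, zero_smul]) (v0 := (W ρ i).mkQ v) (by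
    intro h0
    rw [Submodule.mkQ_apply, Submodule.Quotient.mk_eq_zero] at h0
    exact hv h0)
  obtain ⟨u, rfl⟩ := (W ρ i).mkQ_surjective w
  apply hw0
  rw [Submodule.mkQ_apply, Submodule.Quotient.mk_eq_zero, heq, mem_W]
  intro g
  have h1 : (W ρ i).mkQ (ρ g u) = (W ρ i).mkQ u := hw g
  rwa [Submodule.mkQ_apply, Submodule.mkQ_apply, Submodule.Quotient.eq] at h1

theorem W_top [Finite P] {p : ℕ} [hp : Fact p.Prime] [CharP F p] (hP : IsPGroup p P) [FiniteDimensional F V]
    (ρ : P →* Module.End F V) {n : ℕ} (hn : finrank F V ≤ n) : W ρ n = ⊤ := by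
  have h1 : ∀ i, W ρ i = ⊤ ∨ i ≤ finrank F (W ρ i) := by
    intro i
    induction i with
    | zero => right; exact Nat.zero_le _
    | succ i ih =>
      rcases ih with h | h
      · left
        rw [eq_top_iff, ← h]
        exact W_succ ρ i
      · by_cases ht : W ρ i = ⊤
        · left
          rw [eq_top_iff, ← ht]
          exact W_succ ρ i
        · right
          have := Submodule.finrank_lt_finrank_of_lt (W_lt hP ρ i ht)
          omega
  rcases h1 n with h | h
  · exact h
  · apply Submodule.eq_top_of_finrank_eq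
    apply le_antisymm (Submodule.finrank_le _)
    omega

/-- the group acting trivially on `m`-step quotients -/
def L (ρ : P →* Module.End F V) (m : ℕ) : Subgroup P where
  carrier := {g | ∀ i, ∀ v ∈ W ρ (i + m), ρ g v - v ∈ W ρ i}
  one_mem' := by
    intro i v _
    rw [map_one, Module.End.one_apply, sub_self]
    exact zero_mem _
  mul_mem' := by
    intro a b ha hb i v hv
    have h1 := W_inv ρ i a (hb i v hv)
    have h2 := add_mem h1 (ha i v hv)
    rw [map_sub] at h2
    rw [map_mul, Module.End.mul_apply]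
    convert h2 using 1
    abel
  inv_mem' := by
    intro a ha i v hv
    have h1 := W_inv ρ i a⁻¹ (ha i v hv)
    rw [map_sub, ← Module.End.mul_apply, ← map_mul, inv_mul_cancel, map_one, Module.End.one_apply] at h1
    have h2 := neg_mem h1
    rwa [neg_sub] at h2

theorem L_comm (ρ : P →* Module.End F V) {m : ℕ} {a b : P} (ha : a ∈ L ρ m) (hb : b ∈ L ρ m) : ⁅a, b⁆ ∈ L ρ (2 * m) := by
  intro i v hv
  set u := ρ (a⁻¹ * b⁻¹) v with hu
  have huW : u ∈ W ρ (i + 2 * m) := W_inv ρ _ _ hv
  have e : i + 2 * m = (i + m) + m := by ring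
  rw [e] at huW
  have h1 := ha i _ (hb (i + m) u huW)
  have h2 := hb i _ (ha (i + m) u huW)
  have h3 := sub_mem h1 h2
  have e1 : ρ ⁅a, b⁆ v = ρ a (ρ b u) := by
    rw [hu, ← Module.End.mul_apply, ← Module.End.mul_apply, ← map_mul, ← map_mul, commutatorElement_def]
    congr 2
    group
  have e2 : v = ρ b (ρ a u) := by
    rw [hu, ← Module.End.mul_apply, ← Module.End.mul_apply, ← map_mul, ← map_mul]
    have : b * a * (a⁻¹ * b⁻¹) = 1 := by group
    rw [this, map_one]; rfl
  have e3 : ρ ⁅a, b⁆ v - v = ρ a (ρ b u) - ρ b (ρ a u) := by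
    rw [e1]; exact congrArg (fun t => ρ a (ρ b u) - t) e2
  rw [e3]
  rw [map_sub, map_sub] at h3
  convert h3 using 1
  abel

theorem derived_le_L (ρ : P →* Module.End F V) (k : ℕ) : derivedSeries P k ≤ L ρ (2 ^ k) := by
  induction k with
  | zero =>
    intro g _ i v hv
    rw [pow_zero] at hv
    exact mem_W.1 hv g
  | succ k ih =>
    rw [derivedSeries_succ, Subgroup.commutator_le]
    intro a ha b hb
    rw [pow_succ, mul_comm]
    exact L_comm ρ (ih ha) (ih hb)

theorem charp [Finite P] {p : ℕ} [hp : Fact p.Prime] [CharP F p] (hP : IsPGroup p P) [FiniteDimensional F V]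
    (ρ : P →* Module.End F V) {k : ℕ} (hk : finrank F V ≤ 2 ^ k) {g : P} (hg : g ∈ derivedSeries P k) : ρ g = 1 := by
  ext v
  have h1 : v ∈ W ρ (0 + 2 ^ k) := by rw [zero_add, W_top hP ρ hk]; trivial
  have h2 := derived_le_L ρ k hg 0 v h1
  rw [W_zero, sub_eq_zero] at h2
  exact h2

end charp

section char0

variable {F : Type*} [Field F]

/-- unipotent elements of finite order prime to the characteristic are trivial -/
theorem eq_one_of_unipotent {P : Type*} [Group P] {V : Type*} [AddCommGroup V] [Module F V] (ρ : P →* Module.End F V)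
    {g : P} {m : ℕ} (hg : g ^ m = 1) (hm : (m : F) ≠ 0) (h : ∀ v, ρ g (ρ g v - v) = ρ g v - v) : ρ g = 1 := by
  ext v
  have h1 : ∀ j : ℕ, ρ (g ^ j) v = v + (j : F) • (ρ g v - v) := by
    intro j
    induction j with
    | zero => simp
    | succ j ih =>
      rw [pow_succ', map_mul, Module.End.mul_apply, ih, map_add, map_smul, h v]
      push_cast
      rw [add_smul, one_smul]
      abel
  have h2 := h1 m
  rw [hg, map_one, Module.End.one_apply] at h2
  have h3 : (m : F) • (ρ g v - v) = 0 := by
    have := h2.symm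
    rwa [add_eq_left] at this
  rw [smul_eq_zero] at h3
  rcases h3 with h3 | h3
  · exact absurd h3 hm
  · rw [sub_eq_zero] at h3
    rw [h3]; rfl

theorem alg {p : ℕ} [hp : Fact p.Prime] [IsAlgClosed F] (hpF : (p : F) ≠ 0) (n : ℕ) :
    ∀ (k : ℕ) (P : Type u) [Group P] [Finite P] (V : Type v) [AddCommGroup V] [Module F V] [FiniteDimensional F V]
      (ρ : P →* Module.End F V), IsPGroup p P → finrank F V = n → n < 2 ^ k → ∀ g ∈ derivedSeries P k, ρ g = 1 := by
  induction n using Nat.strong_induction_on with
  | _ n ih =>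
  intro k P _ _ V _ _ _ ρ hP hVn hnk g hg
  by_cases hV0 : Subsingleton V
  · ext v; exact Subsingleton.elim _ _
  rw [not_subsingleton_iff_nontrivial] at hV0
  have hn0 : 0 < n := hVn ▸ finrank_pos
  have hk0 : k ≠ 0 := by
    rintro rfl
    rw [pow_zero] at hnk
    omega
  obtain ⟨k, rfl⟩ := Nat.exists_eq_succ_of_ne_zero hk0
  by_cases hirr : ∀ U : Submodule F V, (∀ g, ∀ v ∈ U, ρ g v ∈ U) → U = ⊥ ∨ U = ⊤
  · -- irreducible
    -- the preimage of the centre
    let Z : Subgroup P :=
      { carrier := {z | ∀ g, ρ z * ρ g = ρ g * ρ z}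
        one_mem' := fun g => by rw [map_one, one_mul, mul_one]
        mul_mem' := fun {a b} ha hb g => by
          rw [map_mul, mul_assoc, hb g, ← mul_assoc, ha g, mul_assoc]
        inv_mem' := fun {a} ha g => by
          have h1 : ρ a⁻¹ * ρ a = 1 := by rw [← map_mul, inv_mul_cancel, map_one]
          have h2 : ρ a * ρ a⁻¹ = 1 := by rw [← map_mul, mul_inv_cancel, map_one]
          calc ρ a⁻¹ * ρ g = ρ a⁻¹ * ρ g * (ρ a * ρ a⁻¹) := by rw [h2, mul_one]
            _ = ρ a⁻¹ * (ρ g * ρ a) * ρ a⁻¹ := by simp only [mul_assoc]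
            _ = ρ a⁻¹ * (ρ a * ρ g) * ρ a⁻¹ := by rw [ha g]
            _ = (ρ a⁻¹ * ρ a) * ρ g * ρ a⁻¹ := by simp only [mul_assoc]
            _ = ρ g * ρ a⁻¹ := by rw [h1, one_mul] }
    have hZmem : ∀ {z}, z ∈ Z ↔ ∀ g, ρ z * ρ g = ρ g * ρ z := Iff.rfl
    haveI hZn : Z.Normal := by
      constructor
      intro z hz x g
      have h1 : ρ x⁻¹ * ρ x = 1 := by rw [← map_mul, inv_mul_cancel, map_one]
      have h2 : ρ x * ρ x⁻¹ = 1 := by rw [← map_mul, mul_inv_cancel, map_one]
      have h3 : ρ (x * z * x⁻¹) = ρ z := by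
        rw [map_mul, map_mul, ← hz x, mul_assoc, h2, mul_one]
      rw [h3]
      exact hz g
    -- Schur
    have hscal : ∀ z ∈ Z, ∃ c : F, c ≠ 0 ∧ ρ z = c • (1 : Module.End F V) := by
      intro z hz
      obtain ⟨c, hc⟩ := Module.End.exists_eigenvalue (ρ z)
      have h1 : Module.End.eigenspace (ρ z) c = ⊤ := by
        rcases hirr (Module.End.eigenspace (ρ z) c) (by
          intro g v hv
          rw [Module.End.mem_eigenspace_iff] at hv ⊢
          have := hz g
          rw [← Module.End.mul_apply, this, Module.End.mul_apply, hv, map_smul]) with h | h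
        · exact absurd h hc
        · exact h
      have h2 : ρ z = c • (1 : Module.End F V) := by
        ext v
        have : v ∈ Module.End.eigenspace (ρ z) c := by rw [h1]; trivial
        rw [Module.End.mem_eigenspace_iff] at this
        rw [this]; rfl
      refine ⟨c, ?_, h2⟩
      rintro rfl
      obtain ⟨v, hv⟩ := exists_ne (0 : V)
      have h3 : ρ z⁻¹ * ρ z = 1 := by rw [← map_mul, inv_mul_cancel, map_one]
      rw [h2, zero_smul, mul_zero] at h3
      have := congrArg (fun f : Module.End F V => f v) h3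
      exact hv (by simpa using this.symm)
    by_cases hZt : Z = ⊤
    · -- abelian image
      have h1 : derivedSeries P (k + 1) ≤ ρ.ker := by
        refine le_trans (derivedSeries_antitone P (show 1 ≤ k + 1 by omega)) ?_
        rw [derivedSeries_one, _root_.commutator_def, Subgroup.commutator_le]
        intro a _ b _
        have ha : a ∈ Z := by rw [hZt]; trivial
        rw [MonoidHom.mem_ker, commutatorElement_def, map_mul, map_mul, map_mul, ha b]
        rw [← map_mul, ← map_mul, ← map_mul]
        have : b * a * a⁻¹ * b⁻¹ = 1 := by group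
        rw [this, map_one]
      exact h1 hg
    · -- choose a
      have hq : IsPGroup p (P ⧸ Z) := hP.to_quotient Z
      haveI : Nontrivial (P ⧸ Z) := by
        rw [QuotientGroup.nontrivial_iff]
        exact hZt
      haveI := hq.center_nontrivial
      obtain ⟨⟨abar, hab⟩, hab1⟩ := exists_ne (1 : center (P ⧸ Z))
      obtain ⟨a, rfl⟩ := QuotientGroup.mk'_surjective Z abar
      have haZ : a ∉ Z := by
        intro h
        exact hab1 (Subtype.ext ((QuotientGroup.eq_one_iff a).2 h))
      have hcomm : ∀ x : P, x * a * x⁻¹ * a⁻¹ ∈ Z := by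
        intro x
        rw [← QuotientGroup.eq_one_iff]
        change QuotientGroup.mk' Z _ = 1
        have := Subgroup.mem_center_iff.1 hab (QuotientGroup.mk' Z x)
        rw [map_mul, map_mul, map_mul, map_inv, map_inv, this]
        group
      -- the relation
      have hR : ∀ x : P, ∃ c : F, c ≠ 0 ∧ ρ x * ρ a = c • (ρ a * ρ x) := by
        intro x
        obtain ⟨c, hc0, hc⟩ := hscal _ (hcomm x)
        refine ⟨c, hc0, ?_⟩
        rw [← map_mul, ← map_mul]
        have : x * a = (x * a * x⁻¹ * a⁻¹) * (a * x) := by group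
        rw [this, map_mul, hc, smul_mul_assoc, one_mul]
      have hRmul : ∀ (x y : P) (c d : F), ρ x * ρ a = c • (ρ a * ρ x) → ρ y * ρ a = d • (ρ a * ρ y) →
          ρ (x * y) * ρ a = (c * d) • (ρ a * ρ (x * y)) := by
        intro x y c d hx hy
        rw [map_mul, mul_assoc, hy, mul_smul_comm, ← mul_assoc, hx, smul_mul_assoc, smul_smul, mul_assoc, mul_comm d c]
      have hRinv : ∀ (x : P) (c : F), c ≠ 0 → ρ x * ρ a = c • (ρ a * ρ x) → ρ x⁻¹ * ρ a = c⁻¹ • (ρ a * ρ x⁻¹) := by
        intro x c hc0 hx
        have h1 : ρ x⁻¹ * ρ x = 1 := by rw [← map_mul, inv_mul_cancel, map_one]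
        have h2 : ρ x * ρ x⁻¹ = 1 := by rw [← map_mul, mul_inv_cancel, map_one]
        calc ρ x⁻¹ * ρ a = c⁻¹ • (c • (ρ x⁻¹ * (ρ a * (ρ x * ρ x⁻¹)))) := by
              rw [smul_smul, inv_mul_cancel₀ hc0, one_smul, h2, mul_one]
          _ = c⁻¹ • (ρ x⁻¹ * (c • (ρ a * ρ x)) * ρ x⁻¹) := by
              rw [mul_smul_comm, smul_mul_assoc]; simp only [mul_assoc]
          _ = c⁻¹ • (ρ x⁻¹ * (ρ x * ρ a) * ρ x⁻¹) := by rw [hx]
          _ = c⁻¹ • (ρ a * ρ x⁻¹) := by rw [← mul_assoc, h1, one_mul]
      let C : Subgroup P :=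
        { carrier := {x | ρ x * ρ a = ρ a * ρ x}
          one_mem' := by
            change ρ 1 * ρ a = ρ a * ρ 1
            rw [map_one, one_mul, mul_one]
          mul_mem' := fun {x y} hx hy => by
            have := hRmul x y 1 1 (by rw [one_smul]; exact hx) (by rw [one_smul]; exact hy)
            rw [mul_one, one_smul] at this
            exact this
          inv_mem' := fun {x} hx => by
            have := hRinv x 1 one_ne_zero (by rw [one_smul]; exact hx)
            rw [inv_one, one_smul] at this
            exact this }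
      have hC1 : derivedSeries P 1 ≤ C := by
        rw [derivedSeries_one, _root_.commutator_def, Subgroup.commutator_le]
        intro x _ y _
        obtain ⟨c, hc0, hc⟩ := hR x
        obtain ⟨d, hd0, hd⟩ := hR y
        have h1 := hRmul _ _ _ _ (hRmul _ _ _ _ (hRmul _ _ _ _ hc hd) (hRinv x c hc0 hc)) (hRinv y d hd0 hd)
        have h2 : c * d * c⁻¹ * d⁻¹ = 1 := by field_simp
        rw [h2, one_smul] at h1
        exact h1
      have hgC := derivedSeries_succ_le C hC1 k hg
      obtain ⟨⟨g', hg'C⟩, hg', hgg⟩ := hgC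
      change g' = g at hgg
      subst hgg
      -- eigenspaces
      have hE : ∀ (x : P) (c : F), c ≠ 0 → ρ x * ρ a = c • (ρ a * ρ x) → ∀ (ν : F) (w : V), w ∈ Module.End.eigenspace (ρ a) ν →
          ρ x w ∈ Module.End.eigenspace (ρ a) (c⁻¹ * ν) := by
        intro x c hc0 hx ν w hw
        rw [Module.End.mem_eigenspace_iff] at hw ⊢
        have h1 : ρ a * ρ x = c⁻¹ • (ρ x * ρ a) := by rw [hx, smul_smul, inv_mul_cancel₀ hc0, one_smul]
        rw [← Module.End.mul_apply, h1, LinearMap.smul_apply, Module.End.mul_apply, hw, map_smul, smul_smul]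
      have hsup : (⨆ ν : F, Module.End.eigenspace (ρ a) ν) = ⊤ := by
        rcases hirr (⨆ ν : F, Module.End.eigenspace (ρ a) ν) (by
          intro x w hw
          obtain ⟨c, hc0, hc⟩ := hR x
          have h1 : (⨆ ν : F, Module.End.eigenspace (ρ a) ν) ≤ (⨆ ν : F, Module.End.eigenspace (ρ a) ν).comap (ρ x) := by
            apply iSup_le
            intro ν w hw
            exact le_iSup (fun ν : F => Module.End.eigenspace (ρ a) ν) (c⁻¹ * ν) (hE x c hc0 hc ν w hw)
          exact h1 hw) with h | h
        · exfalso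
          obtain ⟨c, hc⟩ := Module.End.exists_eigenvalue (ρ a)
          apply hc
          change Module.End.eigenspace (ρ a) c = ⊥
          rw [eq_bot_iff, ← h]
          exact le_iSup (fun ν : F => Module.End.eigenspace (ρ a) ν) c
        · exact h
      obtain ⟨x0, hx0⟩ : ∃ x, ρ a * ρ x ≠ ρ x * ρ a := by
        by_contra hcon
        push Not at hcon
        exact haZ hcon
      obtain ⟨c, hc0, hc⟩ := hR x0
      have hc1 : c ≠ 1 := by
        rintro rfl
        rw [one_smul] at hc
        exact hx0 hc.symm
      have hx0inj : Function.Injective (ρ x0) := by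
        apply Function.LeftInverse.injective (g := ρ x0⁻¹)
        intro w
        rw [← Module.End.mul_apply, ← map_mul, inv_mul_cancel, map_one]; rfl
      have hainj : Function.Injective (ρ a) := by
        apply Function.LeftInverse.injective (g := ρ a⁻¹)
        intro w
        rw [← Module.End.mul_apply, ← map_mul, inv_mul_cancel, map_one]; rfl
      have htriv : ∀ ν : F, ∀ w ∈ Module.End.eigenspace (ρ a) ν, ρ g' w = w := by
        intro ν w hw
        by_cases hw0 : w = 0
        · rw [hw0, map_zero]
        have hν : ν ≠ 0 := by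
          rintro rfl
          rw [Module.End.mem_eigenspace_iff, zero_smul] at hw
          exact hw0 (hainj (by rw [hw, map_zero]))
        set E := Module.End.eigenspace (ρ a) ν with hEdef
        set E' := Module.End.eigenspace (ρ a) (c⁻¹ * ν) with hE'
        have hne : c⁻¹ * ν ≠ ν := by
          intro h
          apply hc1
          field_simp at h
          exact h.symm
        have hdisj : Disjoint E E' := by
          rw [Submodule.disjoint_def]
          intro y hy hy'
          rw [hEdef, Module.End.mem_eigenspace_iff] at hy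
          rw [hE', Module.End.mem_eigenspace_iff, hy] at hy'
          by_contra hy0
          exact hne (smul_left_injective F hy0 hy').symm
        have hle : finrank F E ≤ finrank F E' := by
          have h1 : E.map (ρ x0) ≤ E' := by
            rintro _ ⟨y, hy, rfl⟩
            exact hE x0 c hc0 hc ν y hy
          have h2 := Submodule.finrank_mono h1
          have h3 : finrank F (E.map (ρ x0)) = finrank F E := (Submodule.equivMapOfInjective (ρ x0) hx0inj E).finrank_eq.symm
          omega
        have hsum : finrank F E + finrank F E' ≤ n := by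
          rw [← hVn, ← Submodule.finrank_sup_add_finrank_inf_eq, hdisj.eq_bot, finrank_bot, add_zero]
          exact Submodule.finrank_le _
        have hCE : ∀ x : C, ∀ y ∈ E, (ρ.comp C.subtype) x y ∈ E := by
          intro x y hy
          have := hE x 1 one_ne_zero (by rw [one_smul]; exact x.2) ν y hy
          rwa [inv_one, one_mul] at this
        have hlt : finrank F E < n := by omega
        have hlt2 : finrank F E < 2 ^ k := by
          rw [pow_succ] at hnk
          omega
        have h1 := ih (finrank F E) hlt k C E (subRep (ρ.comp C.subtype) E hCE) (hP.to_subgroup C) rfl hlt2 ⟨g', hg'C⟩ hg'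
        have h2 := congrArg (fun f : Module.End F E => ((f ⟨w, hw⟩ : E) : V)) h1
        exact h2
      ext w
      have hw : w ∈ (⨆ ν : F, Module.End.eigenspace (ρ a) ν) := by rw [hsup]; trivial
      have hle : (⨆ ν : F, Module.End.eigenspace (ρ a) ν) ≤ LinearMap.eqLocus (ρ g') (1 : Module.End F V) := by
        apply iSup_le
        intro ν w hw
        exact htriv ν w hw
      exact hle hw
  · push Not at hirr
    obtain ⟨U, hU, hUb, hUt⟩ := hirr
    have h1 : finrank F U < n := by
      rw [← hVn]; exact Submodule.finrank_lt hUt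
    have h2 : finrank F U + finrank F (V ⧸ U) = n := by
      rw [← hVn, add_comm]; exact Submodule.finrank_quotient_add_finrank U
    have h3 : 0 < finrank F U := by
      haveI := Submodule.nontrivial_iff_ne_bot.2 hUb
      exact finrank_pos
    have e1 := ih (finrank F U) h1 (k + 1) P U (subRep ρ U hU) hP rfl (by omega) g hg
    have e2 := ih (finrank F (V ⧸ U)) (by omega) (k + 1) P (V ⧸ U) (quotRep ρ U hU) hP rfl (by omega) g hg
    obtain ⟨j, hj⟩ := hP g
    apply eq_one_of_unipotent ρ hj
    · push_cast
      exact pow_ne_zero _ hpF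
    · intro w
      have h4 : ρ g w - w ∈ U := by
        have := congrArg (fun f : Module.End F (V ⧸ U) => f (U.mkQ w)) e2
        change quotRep ρ U hU g (U.mkQ w) = U.mkQ w at this
        rw [quotRep_mk, Submodule.mkQ_apply, Submodule.mkQ_apply, Submodule.Quotient.eq] at this
        exact this
      have := congrArg (fun f : Module.End F U => ((f ⟨_, h4⟩ : U) : V)) e1
      exact this

end char0

end Cfsg.Agent.H23.DLen
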