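import Mathlib
import Cfsg.Agent.H24_Tools

/-! 2-elements of symmetric groups with pairwise distinct nontrivial cycle lengths and at most two fixed points. -/

set_option autoImplicit false

namespace Cfsg.Agent.H23.GoodPerm

open Equiv MulAction

universe u

variable {Ω : Type u}

/-- period -/
noncomputable def per (x : Perm Ω) (a : Ω) : ℕ := Function.minimalPeriod x a

theorem zpow_fix {x : Perm Ω} {a : Ω} {k : ℤ} : (x ^ k) a = a ↔ (per x a : ℤ) ∣ k :=
  MulAction.zpow_smul_eq_iff_minimalPeriod_dvd (a := x) (b := a) (n := k)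

theorem pow_fix {x : Perm Ω} {a : Ω} {k : ℕ} : (x ^ k) a = a ↔ per x a ∣ k := by
  rw [← zpow_natCast, zpow_fix, Int.natCast_dvd_natCast]

theorem per_eq {x : Perm Ω} {a : Ω} {h : ℕ} (H : ∀ m : ℕ, (x ^ m) a = a ↔ h ∣ m) : per x a = h := by
  apply Nat.dvd_antisymm
  · rw [← pow_fix, H]
  · rw [← H, pow_fix]

theorem per_card [Finite Ω] (x : Perm Ω) (a : Ω) : per x a = Nat.card (orbit (Subgroup.zpowers x) a) := by
  haveI : Fintype (orbit (Subgroup.zpowers x) a) := Fintype.ofFinite _
  rw [Nat.card_eq_fintype_card]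
  exact MulAction.minimalPeriod_eq_card (a := x) (b := a)

theorem div0 {β : Type u} [Finite β] (y : Perm β) (m : ℕ) (h : ∀ b, m ∣ per y b) : m ∣ Nat.card β := by
  classical
  haveI : Fintype (orbitRel.Quotient (Subgroup.zpowers y) β) := Fintype.ofFinite _
  rw [Nat.card_congr (MulAction.selfEquivSigmaOrbits (Subgroup.zpowers y) β), Nat.card_sigma]
  apply Finset.dvd_sum
  intro ω _
  rw [← per_card]
  exact h _

theorem per_sub {x : Perm Ω} {p : Ω → Prop} (hp : ∀ a, p (x a) ↔ p a) (a : {a // p a}) :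
    per (x.subtypePerm hp) a = per x a := by
  apply per_eq
  intro m
  rw [Equiv.Perm.subtypePerm_pow, ← pow_fix]
  constructor
  · intro h; exact congrArg Subtype.val h
  · intro h; exact Subtype.ext h

theorem div1 [Finite Ω] {x : Perm Ω} {B : Set Ω} (hB : ∀ b, x b ∈ B ↔ b ∈ B) {m : ℕ} (h : ∀ b ∈ B, m ∣ per x b) : m ∣ B.ncard := by
  rw [← Nat.card_coe_set_eq]
  apply div0 (x.subtypePerm hB)
  intro b
  rw [per_sub hB b]
  exact h b b.2

/-- good permutations -/
structure Good (x : Perm Ω) : Prop where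
  fix : ∀ a b c, x a = a → x b = b → x c = c → a = b ∨ a = c ∨ b = c
  cyc : ∀ a b, x a ≠ a → per x a = per x b → ∃ k : ℤ, (x ^ k) a = b
  two : ∃ k : ℕ, x ^ (2 ^ k) = 1

theorem Good.per_two {x : Perm Ω} (hx : Good x) (a : Ω) : ∃ j, per x a = 2 ^ j := by
  obtain ⟨k, hk⟩ := hx.two
  have : per x a ∣ 2 ^ k := by rw [← pow_fix, hk]; rfl
  obtain ⟨j, -, hj⟩ := (Nat.dvd_prime_pow Nat.prime_two).1 this
  exact ⟨j, hj⟩

theorem per_one {x : Perm Ω} {a : Ω} : per x a = 1 ↔ x a = a := by
  rw [← Nat.dvd_one, ← pow_fix, pow_one]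

theorem inv_zpow {x : Perm Ω} {B : Set Ω} (hB : ∀ b, x b ∈ B ↔ b ∈ B) (k : ℤ) (b : Ω) : (x ^ k) b ∈ B ↔ b ∈ B := by
  have h : x ∈ ({
    carrier := {y : Perm Ω | ∀ b, y b ∈ B ↔ b ∈ B}
    one_mem' := fun b => Iff.rfl
    mul_mem' := fun {y z} hy hz b => (hy (z b)).trans (hz b)
    inv_mem' := fun {y} hy b => by
      rw [← hy (y⁻¹ b)]
      change (y * y⁻¹) b ∈ B ↔ _
      rw [mul_inv_cancel]; rfl } : Subgroup (Perm Ω)) := hB
  exact Subgroup.zpow_mem _ h k b

/-- the 2-adic argument -/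
theorem adic [Finite Ω] {x : Perm Ω} (hx : Good x) {A B : Set Ω} (hA : ∀ b, x b ∈ A ↔ b ∈ A) (hB : ∀ b, x b ∈ B ↔ b ∈ B)
    (hAB : Disjoint A B) (hA0 : ∀ a ∈ A, x a ≠ a) (hB0 : ∀ a ∈ B, x a ≠ a) (hcard : A.ncard = B.ncard) {a0 : Ω} (ha0 : a0 ∈ A)
    (hmin : ∀ b, b ∈ A ∪ B → per x a0 ≤ per x b) : False := by
  obtain ⟨j, hj⟩ := hx.per_two a0
  have hdvd : ∀ b, b ∈ A ∪ B → per x b ≠ per x a0 → 2 ^ (j + 1) ∣ per x b := by
    intro b hb hne
    obtain ⟨i, hi⟩ := hx.per_two b
    have h1 := hmin b hb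
    rw [hj, hi] at h1
    have h2 : j ≤ i := (Nat.pow_le_pow_iff_right (by norm_num)).1 h1
    have h3 : j ≠ i := by rintro rfl; exact hne (hi.trans hj.symm)
    rw [hi]
    exact pow_dvd_pow 2 (by omega)
  have h1 : 2 ^ (j + 1) ∣ B.ncard := by
    apply div1 hB
    intro b hb
    apply hdvd b (Or.inr hb)
    intro h
    obtain ⟨k, hk⟩ := hx.cyc a0 b (hA0 a0 ha0) h.symm
    have : b ∈ A := by rw [← hk, inv_zpow hA]; exact ha0
    exact Set.disjoint_left.1 hAB this hb
  set O : Set Ω := orbit (Subgroup.zpowers x) a0 with hO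
  have hmemO : ∀ b, b ∈ O ↔ ∃ k : ℤ, (x ^ k) a0 = b := by
    intro b
    constructor
    · rintro ⟨⟨_, k, rfl⟩, hk⟩
      exact ⟨k, hk⟩
    · rintro ⟨k, hk⟩
      exact ⟨⟨x ^ k, k, rfl⟩, hk⟩
  have hOA : O ⊆ A := by
    intro b hb
    obtain ⟨k, hk⟩ := (hmemO b).1 hb
    rw [← hk, inv_zpow hA]; exact ha0
  have hOx : ∀ b, x b ∈ O ↔ b ∈ O := by
    intro b
    rw [hmemO, hmemO]
    constructor
    · rintro ⟨k, hk⟩
      refine ⟨k - 1, ?_⟩
      rw [sub_eq_neg_add, zpow_add, zpow_neg, zpow_one, Perm.mul_apply, hk, ← Perm.mul_apply, inv_mul_cancel]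
      rfl
    · rintro ⟨k, hk⟩
      refine ⟨k + 1, ?_⟩
      rw [add_comm, zpow_add, zpow_one, Perm.mul_apply, hk]
  have h2 : 2 ^ (j + 1) ∣ (A \ O).ncard := by
    apply div1 (x := x)
    · intro b
      rw [Set.mem_sdiff, Set.mem_sdiff, hA, hOx]
    · intro b hb
      apply hdvd b (Or.inl hb.1)
      intro h
      exact hb.2 ((hmemO b).2 (hx.cyc a0 b (hA0 a0 ha0) h.symm))
  have h3 : O.ncard = 2 ^ j := by
    rw [← hj, per_card, Nat.card_coe_set_eq]
  have h4 : (A \ O).ncard + O.ncard = A.ncard := Set.ncard_sdiff_add_ncard_of_subset hOA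
  have h5 : 2 ^ (j + 1) ∣ O.ncard := by
    rw [← Nat.dvd_add_right h2, h4, hcard]
    exact h1
  rw [h3] at h5
  have h6 := Nat.le_of_dvd (by positivity) h5
  have h7 : 2 ^ j < 2 ^ (j + 1) := Nat.pow_lt_pow_right (by norm_num) (by omega)
  omega

theorem adic2 [Finite Ω] {x : Perm Ω} (hx : Good x) {A B : Set Ω} (hA : ∀ b, x b ∈ A ↔ b ∈ A) (hB : ∀ b, x b ∈ B ↔ b ∈ B)
    (hAB : Disjoint A B) (hA0 : ∀ a ∈ A, x a ≠ a) (hB0 : ∀ a ∈ B, x a ≠ a) (hcard : A.ncard = B.ncard) (hne : A.Nonempty) : False := by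
  obtain ⟨a0, ha0, hmin⟩ := Set.exists_min_image (A ∪ B) (per x) (Set.toFinite _) (hne.mono Set.subset_union_left)
  rcases ha0 with ha0 | ha0
  · exact adic hx hA hB hAB hA0 hB0 hcard ha0 hmin
  · exact adic hx hB hA hAB.symm hB0 hA0 hcard.symm ha0 (by rw [Set.union_comm]; exact hmin)

/-- parity: a second fixed point -/
theorem par [Finite Ω] {x : Perm Ω} (hx : ∃ k : ℕ, x ^ (2 ^ k) = 1) {A : Set Ω} (hA : ∀ b, x b ∈ A ↔ b ∈ A) (h2 : 2 ∣ A.ncard)
    {p : Ω} (hp : p ∈ A) (hpx : x p = p) : ∃ q ∈ A, q ≠ p ∧ x q = q := by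
  set y : Perm A := x.subtypePerm hA with hy
  have hP : IsPGroup 2 (Subgroup.zpowers y) := by
    obtain ⟨k, hk⟩ := hx
    have hyk : y ^ 2 ^ k = 1 := by
      rw [hy, Equiv.Perm.subtypePerm_pow]
      ext a
      change ((x ^ 2 ^ k) a : Ω) = a
      rw [hk]; rfl
    rw [IsPGroup.iff_card, Nat.card_zpowers]
    obtain ⟨i, -, hi⟩ := (Nat.dvd_prime_pow Nat.prime_two).1 (orderOf_dvd_of_pow_eq_one hyk)
    exact ⟨i, hi⟩
  haveI : Fact (Nat.Prime 2) := ⟨Nat.prime_two⟩
  have hfix : ∀ b : A, b ∈ fixedPoints (Subgroup.zpowers y) A ↔ x b = b := by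
    intro b
    constructor
    · intro h
      have := h ⟨y, Subgroup.mem_zpowers y⟩
      exact congrArg Subtype.val this
    · intro h
      rintro ⟨_, k, rfl⟩
      have h1 : (y ^ k) b = b := by
        rw [zpow_fix, per_sub hA b, per_one.2 h]
        simp
      exact h1
  obtain ⟨q, hq, hne⟩ := hP.exists_fixed_point_of_prime_dvd_card_of_fixed_point A (by rwa [Nat.card_coe_set_eq])
    (a := ⟨p, hp⟩) ((hfix _).2 hpx)
  exact ⟨q, q.2, fun h => hne (Subtype.ext h.symm), (hfix q).1 hq⟩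

/-- elements of odd order normalizing a 2-group containing a good element preserve its orbits -/
theorem orb [Finite Ω] {x : Perm Ω} (hx : Good x) {D : Subgroup (Perm Ω)} (hD : IsPGroup 2 D) (hxD : x ∈ D) {g : Perm Ω}
    (hg : g ∈ Subgroup.normalizer (D : Set (Perm Ω))) (hodd : Odd (orderOf g)) (a : Ω) : g a ∈ orbit D a := by
  haveI : Fact (Nat.Prime 2) := ⟨Nat.prime_two⟩
  by_contra hcon
  have hmem : ∀ b c : Ω, c ∈ orbit D b ↔ ∃ d ∈ D, d b = c := by
    intro b c
    constructor
    · rintro ⟨d, hd⟩; exact ⟨d, d.2, hd⟩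
    · rintro ⟨d, hd, h⟩; exact ⟨⟨d, hd⟩, h⟩
  have hgo : ∀ b c : Ω, c ∈ orbit D b ↔ g c ∈ orbit D (g b) := by
    intro b c
    rw [hmem, hmem]
    constructor
    · rintro ⟨d, hd, rfl⟩
      refine ⟨g * d * g⁻¹, (Subgroup.mem_normalizer_iff.1 hg d).1 hd, ?_⟩
      simp [Perm.mul_apply]
    · rintro ⟨d, hd, h⟩
      refine ⟨g⁻¹ * d * g, ?_, ?_⟩
      · have := (Subgroup.mem_normalizer_iff.1 (inv_mem hg) d).1 hd
        rwa [inv_inv] at this
      · apply g.injective
        rw [← h]
        simp [Perm.mul_apply]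
  have hcard : ∀ b : Ω, (orbit D (g b)).ncard = (orbit D b).ncard := by
    intro b
    have h1 : orbit D (g b) = g '' (orbit D b) := by
      ext c
      constructor
      · intro hc
        refine ⟨g⁻¹ c, ?_, by simp⟩
        rw [hgo]; simpa using hc
      · rintro ⟨c, hc, rfl⟩
        exact (hgo b c).1 hc
    rw [h1, Set.ncard_image_of_injective _ g.injective]
  have hxinv : ∀ b c : Ω, x c ∈ orbit D b ↔ c ∈ orbit D b := by
    intro b c
    rw [hmem, hmem]
    constructor
    · rintro ⟨d, hd, h⟩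
      refine ⟨x⁻¹ * d, mul_mem (inv_mem hxD) hd, ?_⟩
      rw [Perm.mul_apply, h]; simp
    · rintro ⟨d, hd, rfl⟩
      exact ⟨x * d, mul_mem hxD hd, rfl⟩
  have hself : ∀ b : Ω, b ∈ orbit D b := fun b => mem_orbit_self b
  have heq : ∀ b c : Ω, c ∈ orbit D b → orbit D c = orbit D b := fun b c h => (orbit_eq_iff.2 h)
  -- the three orbits
  have h01 : orbit D (g a) ≠ orbit D a := by
    intro h; exact hcon (h ▸ hself (g a))
  have h12 : orbit D (g (g a)) ≠ orbit D (g a) := by
    intro h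
    apply hcon
    rw [hgo]
    exact h ▸ hself (g (g a))
  have h02 : orbit D (g (g a)) ≠ orbit D a := by
    intro h
    apply hcon
    have h1 : ∀ k : ℕ, (g ^ (2 * k)) a ∈ orbit D a := by
      intro k
      induction k with
      | zero => exact hself a
      | succ k ih =>
        have h2 : (g ^ (2 * (k + 1))) a = g (g ((g ^ (2 * k)) a)) := by
          rw [show 2 * (k + 1) = 2 + 2 * k by ring, pow_add, sq]; rfl
        rw [h2]
        rw [hgo, hgo] at ih
        rw [h] at ih
        exact ih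
    obtain ⟨m, hm⟩ := hodd
    have h3 := h1 (m + 1)
    have h4 : g ^ (2 * (m + 1)) = g := by
      rw [show 2 * (m + 1) = (2 * m + 1) + 1 by ring, ← hm, pow_succ, pow_orderOf_eq_one, one_mul]
    rwa [h4] at h3
  have hdisj : ∀ b c : Ω, orbit D b ≠ orbit D c → Disjoint (orbit D b) (orbit D c) := by
    intro b c h
    rw [Set.disjoint_left]
    intro e he he'
    exact h ((heq b e he).symm.trans (heq c e he'))
  have h2 : 2 ∣ (orbit D a).ncard := by
    obtain ⟨k, hk⟩ := hD.card_orbit a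
    rw [Nat.card_coe_set_eq] at hk
    rcases k with _ | k
    · exfalso
      have hone : ∀ b : Ω, (orbit D b).ncard = 1 → x b = b := by
        intro b hb
        obtain ⟨c, hc⟩ := Set.ncard_eq_one.1 hb
        have e1 : b ∈ orbit D b := hself b
        have e2 : x b ∈ orbit D b := (hxinv b b).2 (hself b)
        rw [hc, Set.mem_singleton_iff] at e1 e2
        exact e2.trans e1.symm
      rw [pow_zero] at hk
      have f0 := hone a hk
      have f1 := hone (g a) ((hcard a).trans hk)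
      have f2 := hone (g (g a)) ((hcard (g a)).trans ((hcard a).trans hk))
      rcases hx.fix a (g a) (g (g a)) f0 f1 f2 with h | h | h
      · exact h01 (by rw [← h])
      · exact h02 (by rw [← h])
      · exact h12 (by rw [← h])
    · rw [hk]; exact dvd_pow_self 2 (Nat.succ_ne_zero k)
  -- at most one of two distinct orbits of the same size has fixed points of x
  have hfp : ∀ b c : Ω, 2 ∣ (orbit D b).ncard → orbit D b ≠ orbit D c → (∃ p ∈ orbit D b, x p = p) → ∀ q ∈ orbit D c, x q ≠ q := by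
    rintro b c hb hbc ⟨p, hp, hpx⟩ q hq hqx
    obtain ⟨p', hp', hne, hpx'⟩ := par hx.two (hxinv b) hb hp hpx
    have hd := Set.disjoint_left.1 (hdisj b c hbc)
    rcases hx.fix p p' q hpx hpx' hqx with h | h | h
    · exact hne h.symm
    · exact hd hp (h ▸ hq)
    · exact hd hp' (h ▸ hq)
  have hno : ∀ b c : Ω, orbit D b ≠ orbit D c → (orbit D b).ncard = (orbit D c).ncard → (∀ p ∈ orbit D b, x p ≠ p) →
      (∀ p ∈ orbit D c, x p ≠ p) → False := by
    intro b c hbc hcd h1 h2
    exact adic2 hx (hxinv b) (hxinv c) (hdisj b c hbc) h1 h2 hcd ⟨b, hself b⟩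
  have c1 := hcard a
  have c2 := (hcard (g a)).trans c1
  by_cases f0 : ∃ p ∈ orbit D a, x p = p
  · exact hno _ _ h12 (c2.trans c1.symm) (hfp _ _ h2 h02.symm f0) (hfp _ _ h2 h01.symm f0)
  · push Not at f0
    by_cases f1 : ∃ p ∈ orbit D (g a), x p = p
    · exact hno _ _ h02 c2 (hfp _ _ (by rwa [c1]) h12.symm f1) f0
    · push Not at f1
      exact hno _ _ h01 c1 f1 f0

theorem Good.sub {x : Perm Ω} (hx : Good x) {p : Ω → Prop} (hp : ∀ a, p (x a) ↔ p a) : Good (x.subtypePerm hp) := by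
  refine ⟨?_, ?_, ?_⟩
  · intro a b c ha hb hc
    rcases hx.fix a b c (congrArg Subtype.val ha) (congrArg Subtype.val hb) (congrArg Subtype.val hc) with h | h | h
    · exact Or.inl (Subtype.ext h)
    · exact Or.inr (Or.inl (Subtype.ext h))
    · exact Or.inr (Or.inr (Subtype.ext h))
  · intro a b ha hab
    rw [per_sub, per_sub] at hab
    obtain ⟨k, hk⟩ := hx.cyc a b (fun h => ha (Subtype.ext h)) hab
    refine ⟨k, ?_⟩
    rw [Equiv.Perm.subtypePerm_zpow]
    exact Subtype.ext hk
  · obtain ⟨k, hk⟩ := hx.two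
    refine ⟨k, ?_⟩
    rw [Equiv.Perm.subtypePerm_pow]
    ext a
    change ((x ^ 2 ^ k) a : Ω) = a
    rw [hk]; rfl

/-- fixed-point-free involutions commuting with a good element -/
theorem half {x z : Perm Ω} (hx : Good x) (hz : z * z = 1) (hzf : ∀ a, z a ≠ a) (hxz : x * z = z * x) {a : Ω} (ha : x a ≠ a) :
    ∃ h : ℕ, 0 < h ∧ per x a = 2 * h ∧ z a = (x ^ h) a := by
  have hcomm : ∀ (k : ℤ) (b : Ω), (x ^ k) (z b) = z ((x ^ k) b) := by
    intro k b
    have h1 : Commute (x ^ k) z := (show Commute x z from hxz).zpow_left k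
    exact congrFun (congrArg (fun (f : Perm Ω) => (f : Ω → Ω)) h1) b
  have hper : per x a = per x (z a) := by
    symm
    apply per_eq
    intro m
    rw [← pow_fix]
    have := hcomm m a
    rw [zpow_natCast] at this
    rw [this]
    exact z.injective.eq_iff
  obtain ⟨k, hk⟩ := hx.cyc a (z a) ha hper
  have hzz : ∀ b, z (z b) = b := fun b => congrFun (congrArg (fun (f : Perm Ω) => (f : Ω → Ω)) hz) b
  have h1 : (x ^ (2 * k)) a = a := by
    rw [two_mul, zpow_add, Perm.mul_apply, hk, hcomm, hk, hzz]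
  have h2 : ¬ (per x a : ℤ) ∣ k := by
    rw [← zpow_fix, hk]; exact hzf a
  rw [zpow_fix] at h1
  obtain ⟨j, hj⟩ := hx.per_two a
  rcases j with _ | j
  · exfalso
    apply h2
    rw [hj]; simp
  · refine ⟨2 ^ j, by positivity, by rw [hj, pow_succ, mul_comm], ?_⟩
    rw [hj] at h1 h2
    push_cast at h1 h2
    have h3 : (2 : ℤ) ^ j ∣ k := by
      rw [pow_succ, mul_comm] at h1
      exact (mul_dvd_mul_iff_left (by norm_num)).1 h1
    obtain ⟨u, hu⟩ := h3
    have h4 : ¬ (2 : ℤ) ∣ u := by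
      intro h
      apply h2
      rw [hu, pow_succ]
      exact mul_dvd_mul_left _ h
    have h5 : (x ^ (k - 2 ^ j)) a = a := by
      rw [zpow_fix, hj, hu]
      push_cast
      have : (2 : ℤ) ^ j * u - 2 ^ j = 2 ^ j * (u - 1) := by ring
      rw [this, pow_succ]
      apply mul_dvd_mul_left
      omega
    rw [← hk, ← zpow_natCast]
    push_cast
    have h6 : (x ^ k) a = (x ^ (2 ^ j : ℤ)) ((x ^ (k - 2 ^ j)) a) := by
      rw [← Perm.mul_apply, ← zpow_add]
      congr 2
      ring
    rw [h6, h5]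

theorem uniq {x z z' : Perm Ω} (hx : Good x) (hz : z * z = 1) (hzf : ∀ a, z a ≠ a) (hxz : x * z = z * x)
    (hz' : z' * z' = 1) (hzf' : ∀ a, z' a ≠ a) (hxz' : x * z' = z' * x) : z = z' := by
  ext a
  by_cases ha : x a = a
  · have h1 : x (z a) = z a := by
      have := congrFun (congrArg (fun (f : Perm Ω) => (f : Ω → Ω)) hxz) a
      change x (z a) = z (x a) at this
      rw [this, ha]
    have h2 : x (z' a) = z' a := by
      have := congrFun (congrArg (fun (f : Perm Ω) => (f : Ω → Ω)) hxz') a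
      change x (z' a) = z' (x a) at this
      rw [this, ha]
    rcases hx.fix a (z a) (z' a) ha h1 h2 with h | h | h
    · exact absurd h.symm (hzf a)
    · exact absurd h.symm (hzf' a)
    · exact h
  · obtain ⟨h, h0, h1, h2⟩ := half hx hz hzf hxz ha
    obtain ⟨h', h0', h1', h2'⟩ := half hx hz' hzf' hxz' ha
    have : h = h' := by omega
    rw [h2, h2', this]

/-- the quotient by a fixed-point-free involution -/
def qs (z : Perm Ω) (hz : z * z = 1) : Setoid Ω where
  r a b := b = a ∨ b = z a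
  iseqv := by
    have hzz : ∀ b, z (z b) = b := fun b => congrFun (congrArg (fun (f : Perm Ω) => (f : Ω → Ω)) hz) b
    refine ⟨fun a => Or.inl rfl, ?_, ?_⟩
    · rintro a b (rfl | rfl)
      · exact Or.inl rfl
      · exact Or.inr (hzz a).symm
    · rintro a b c (rfl | rfl) (rfl | rfl)
      · exact Or.inl rfl
      · exact Or.inr rfl
      · exact Or.inr rfl
      · exact Or.inl (hzz a)

/-- induced permutation -/
def qm (z : Perm Ω) (hz : z * z = 1) (h : Subgroup.centralizer ({z} : Set (Perm Ω))) : Perm (Quotient (qs z hz)) :=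
  Quotient.congr (h : Perm Ω) (by
    have hc : ∀ a, (h : Perm Ω) (z a) = z ((h : Perm Ω) a) := fun a =>
      congrFun (congrArg (fun (f : Perm Ω) => (f : Ω → Ω)) (Subgroup.mem_centralizer_singleton_iff.1 h.2)) a
    intro a b
    change (b = a ∨ b = z a) ↔ ((h : Perm Ω) b = (h : Perm Ω) a ∨ (h : Perm Ω) b = z ((h : Perm Ω) a))
    rw [← hc, (h : Perm Ω).injective.eq_iff, (h : Perm Ω).injective.eq_iff])

/-- the homomorphism -/
def qh (z : Perm Ω) (hz : z * z = 1) : Subgroup.centralizer ({z} : Set (Perm Ω)) →* Perm (Quotient (qs z hz)) where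
  toFun := qm z hz
  map_one' := by
    ext q
    induction q using Quotient.inductionOn with
    | h a => rfl
  map_mul' := by
    intro h k
    ext q
    induction q using Quotient.inductionOn with
    | h a => rfl

theorem qh_mk (z : Perm Ω) (hz : z * z = 1) (h : Subgroup.centralizer ({z} : Set (Perm Ω))) (a : Ω) :
    qh z hz h (Quotient.mk (qs z hz) a) = Quotient.mk (qs z hz) ((h : Perm Ω) a) := rfl

theorem q_eq (z : Perm Ω) (hz : z * z = 1) (a b : Ω) : Quotient.mk (qs z hz) a = Quotient.mk (qs z hz) b ↔ b = a ∨ b = z a :=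
  Quotient.eq (r := qs z hz)

theorem Good.q {x z : Perm Ω} (hx : Good x) (hz : z * z = 1) (hzf : ∀ a, z a ≠ a) (hxz : x ∈ Subgroup.centralizer ({z} : Set (Perm Ω))) :
    Good (qh z hz ⟨x, hxz⟩) := by
  have hxz' : x * z = z * x := Subgroup.mem_centralizer_singleton_iff.1 hxz
  have hzz : ∀ b, z (z b) = b := fun b => congrFun (congrArg (fun (f : Perm Ω) => (f : Ω → Ω)) hz) b
  have hxz'' : ∀ a, x (z a) = z (x a) := fun a => congrFun (congrArg (fun (f : Perm Ω) => (f : Ω → Ω)) hxz') a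
  set x' := qh z hz ⟨x, hxz⟩ with hx'
  have hpow : ∀ (m : ℕ) (a : Ω), (x' ^ m) (Quotient.mk (qs z hz) a) = Quotient.mk (qs z hz) ((x ^ m) a) := by
    intro m a
    rw [hx', ← map_pow, qh_mk]
    rfl
  have hper : ∀ a, x a ≠ a → ∀ h : ℕ, per x a = 2 * h → z a = (x ^ h) a → per x' (Quotient.mk (qs z hz) a) = h := by
    intro a ha h h1 h2
    apply per_eq
    intro m
    rw [hpow, q_eq]
    constructor
    · rintro (h3 | h3)
      · have h4 := pow_fix.1 h3.symm
        rw [h1] at h4
        exact (dvd_mul_left h 2).trans h4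
      · have h4 : (x ^ (m + h)) a = a := by
          rw [pow_add, Perm.mul_apply, ← h2]
          have h5 : (x ^ m) (z a) = z ((x ^ m) a) := by
            have h6 : Commute (x ^ m) z := (show Commute x z from hxz').pow_left m
            exact congrFun (congrArg (fun (f : Perm Ω) => (f : Ω → Ω)) h6) a
          rw [h5, ← h3]
        have h5 := pow_fix.1 h4
        rw [h1] at h5
        have h6 : h ∣ m + h := (dvd_mul_left h 2).trans h5
        exact (Nat.dvd_add_left (dvd_refl h)).1 h6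
    · rintro ⟨c, rfl⟩
      rcases Nat.even_or_odd' c with ⟨d, rfl | rfl⟩
      · left
        have h3 : (x ^ (h * (2 * d))) a = a := by
          rw [pow_fix, h1]
          exact ⟨d, by ring⟩
        exact h3.symm
      · right
        have h3 : (x ^ (h * (2 * d + 1))) a = z a := by
          rw [mul_add, mul_one, add_comm, pow_add, Perm.mul_apply]
          have h4 : (x ^ (h * (2 * d))) a = a := by
            rw [pow_fix, h1]
            exact ⟨d, by ring⟩
          rw [h4, h2]
        rw [h3, hzz]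
  have hfix : ∀ a, x a = a → per x' (Quotient.mk (qs z hz) a) = 1 := by
    intro a ha
    rw [per_one]
    have := hpow 1 a
    rw [pow_one, pow_one, ha] at this
    exact this
  refine ⟨?_, ?_, ?_⟩
  · -- three fixed points
    have key : ∀ a b : Ω, ((x a = a ∧ x b = b) ∨ ((x a = z a) ∧ (x b = z b))) → Quotient.mk (qs z hz) a = Quotient.mk (qs z hz) b := by
      rintro a b (⟨ha, hb⟩ | ⟨ha, hb⟩)
      · rw [q_eq]
        have h1 : x (z a) = z a := by rw [hxz'', ha]
        rcases hx.fix a (z a) b ha h1 hb with h | h | h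
        · exact absurd h.symm (hzf a)
        · exact Or.inl h.symm
        · exact Or.inr h.symm
      · rw [q_eq]
        have hp : ∀ c, x c = z c → per x c = 2 := by
          intro c hc
          have h1 : (x ^ 2) c = c := by
            rw [sq, Perm.mul_apply, hc, hxz'', hc, hzz]
          have h2 : per x c ≠ 1 := by
            intro h
            rw [per_one, hc] at h
            exact hzf c h
          rcases (Nat.dvd_prime Nat.prime_two).1 (pow_fix.1 h1) with h | h
          · exact absurd h h2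
          · exact h
        obtain ⟨k, hk⟩ := hx.cyc a b (by rw [ha]; exact hzf a) ((hp a ha).trans (hp b hb).symm)
        rcases Int.even_or_odd' k with ⟨d, rfl | rfl⟩
        · left
          rw [← hk, zpow_fix, hp a ha]
          exact ⟨d, by push_cast; ring⟩
        · right
          rw [← hk, add_comm, zpow_add, zpow_one, Perm.mul_apply]
          have : (x ^ (2 * d)) a = a := by
            rw [zpow_fix, hp a ha]; exact ⟨d, by push_cast; ring⟩
          rw [this, ha]
    intro a b c ha hb hc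
    induction a using Quotient.inductionOn with
    | h a =>
    induction b using Quotient.inductionOn with
    | h b =>
    induction c using Quotient.inductionOn with
    | h c =>
    have ht : ∀ e : Ω, x' (Quotient.mk (qs z hz) e) = Quotient.mk (qs z hz) e → x e = e ∨ x e = z e := by
      intro e he
      have h1 : Quotient.mk (qs z hz) (x e) = Quotient.mk (qs z hz) e := he
      rw [q_eq] at h1
      rcases h1 with h1 | h1
      · exact Or.inl h1.symm
      · right
        have := congrArg z h1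
        rw [hzz] at this
        exact this.symm
    rcases ht a ha with ha | ha <;> rcases ht b hb with hb | hb <;> rcases ht c hc with hc | hc
    · exact Or.inl (key a b (Or.inl ⟨ha, hb⟩))
    · exact Or.inl (key a b (Or.inl ⟨ha, hb⟩))
    · exact Or.inr (Or.inl (key a c (Or.inl ⟨ha, hc⟩)))
    · exact Or.inr (Or.inr (key b c (Or.inr ⟨hb, hc⟩)))
    · exact Or.inr (Or.inr (key b c (Or.inl ⟨hb, hc⟩)))
    · exact Or.inr (Or.inl (key a c (Or.inr ⟨ha, hc⟩)))
    · exact Or.inl (key a b (Or.inr ⟨ha, hb⟩))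
    · exact Or.inl (key a b (Or.inr ⟨ha, hb⟩))
  · intro a b ha hab
    induction a using Quotient.inductionOn with
    | h a =>
    induction b using Quotient.inductionOn with
    | h b =>
    have hxa : x a ≠ a := by
      intro h
      exact ha (per_one.1 (hfix a h))
    obtain ⟨h, h0, h1, h2⟩ := half hx hz hzf hxz' hxa
    have h3 := hper a hxa h h1 h2
    have hxb : x b ≠ b := by
      intro h4
      rw [hfix b h4] at hab
      exact ha (per_one.1 hab)
    obtain ⟨h', h0', h1', h2'⟩ := half hx hz hzf hxz' hxb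
    have h3' := hper b hxb h' h1' h2'
    obtain ⟨k, hk⟩ := hx.cyc a b hxa (by rw [h1, h1']; rw [h3, h3'] at hab; rw [hab])
    refine ⟨k, ?_⟩
    rw [hx', ← map_zpow, qh_mk, ← hk]
    rfl
  · obtain ⟨k, hk⟩ := hx.two
    refine ⟨k, ?_⟩
    rw [hx', ← map_pow]
    have : (⟨x, hxz⟩ : Subgroup.centralizer ({z} : Set (Perm Ω))) ^ 2 ^ k = 1 := Subtype.ext hk
    rw [this, map_one]

end Cfsg.Agent.H23.GoodPerm
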