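import Mathlib
import Cfsg.Agent.H23_GoodPerm
import Cfsg.Agent.H24_Tools
import Cfsg.Agent.H1_Schmidt

/-! Good permutations lie in a unique Sylow 2-subgroup. -/

set_option autoImplicit false

namespace Cfsg.Agent.H23.GoodPerm

open Equiv MulAction

universe u

theorem main : ∀ (n : ℕ) (Ω : Type u) [Finite Ω] (x : Perm Ω), Nat.card Ω = n → Good x → ∀ D : Subgroup (Perm Ω), IsPGroup 2 D →
    x ∈ D → ∀ g ∈ Subgroup.normalizer (D : Set (Perm Ω)), Odd (orderOf g) → g = 1 := by
  intro n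
  induction n using Nat.strong_induction_on with
  | _ n ih =>
  intro Ω _ x hn hx D hD hxD g hg hodd
  haveI : Fact (Nat.Prime 2) := ⟨Nat.prime_two⟩
  have horb := orb hx hD hxD hg hodd
  by_cases htr : ∀ a b : Ω, b ∈ orbit D a
  · -- transitive
    by_cases hsub : Subsingleton Ω
    · exact Subsingleton.elim _ _
    rw [not_subsingleton_iff_nontrivial] at hsub
    haveI : Nontrivial D := by
      by_contra h
      rw [not_nontrivial_iff_subsingleton] at h
      obtain ⟨a, b, hab⟩ := exists_pair_ne Ω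
      obtain ⟨d, hd⟩ := htr a b
      have : d = 1 := Subsingleton.elim _ _
      rw [this] at hd
      exact hab (by simpa using hd)
    haveI := hD.center_nontrivial
    have h2 : 2 ∣ Nat.card (Subgroup.center D) := by
      have h1 : IsPGroup 2 (Subgroup.center D) := hD.to_subgroup _
      obtain ⟨k, hk⟩ := h1.exists_card_eq
      rcases k with _ | k
      · exfalso
        rw [pow_zero, Nat.card_eq_one_iff_unique] at hk
        exact not_subsingleton (Subgroup.center D) hk.1
      · rw [hk]; exact dvd_pow_self 2 (Nat.succ_ne_zero k)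
    obtain ⟨w, hw⟩ := exists_prime_orderOf_dvd_card' 2 h2
    set z : Perm Ω := ((w : D) : Perm Ω) with hz
    have hzD : z ∈ D := (w : D).2
    have hzo : orderOf z = 2 := by rw [hz, Subgroup.orderOf_coe, Subgroup.orderOf_coe, hw]
    have hzz : z * z = 1 := by rw [← sq, ← hzo, pow_orderOf_eq_one]
    have hz1 : z ≠ 1 := by
      intro h
      rw [h, orderOf_one] at hzo
      norm_num at hzo
    have hzc : ∀ d ∈ D, d * z = z * d := by
      intro d hd
      have := Subgroup.mem_center_iff.1 w.2 ⟨d, hd⟩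
      exact congrArg Subtype.val this
    have hzf : ∀ a, z a ≠ a := by
      intro a ha
      apply hz1
      ext b
      obtain ⟨d, hd⟩ := htr a b
      have hd' : (d : Perm Ω) a = b := hd
      have h3 : z ((d : Perm Ω) a) = (d : Perm Ω) (z a) :=
        congrFun (congrArg (fun (f : Perm Ω) => (f : Ω → Ω)) (hzc d d.2).symm) a
      rw [← hd', h3, ha]
      rfl
    set z' := g * z * g⁻¹ with hz'
    have hgD : ∀ d ∈ D, g⁻¹ * d * g ∈ D := by
      intro d hd
      have := (Subgroup.mem_normalizer_iff.1 (inv_mem hg) d).1 hd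
      rwa [inv_inv] at this
    have hzz' : z' * z' = 1 := by
      rw [hz']
      calc g * z * g⁻¹ * (g * z * g⁻¹) = g * (z * z) * g⁻¹ := by group
        _ = 1 := by rw [hzz]; group
    have hzc' : ∀ d ∈ D, d * z' = z' * d := by
      intro d hd
      have h3 := hzc _ (hgD d hd)
      calc d * z' = g * ((g⁻¹ * d * g) * z) * g⁻¹ := by rw [hz']; group
        _ = z' * d := by rw [h3, hz']; group
    have hzf' : ∀ a, z' a ≠ a := by
      intro a ha
      apply hzf (g⁻¹ a)
      apply g.injective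
      have h3 : g (g⁻¹ a) = a := by simp
      rw [h3]
      exact ha
    have heq : z = z' := uniq hx hzz hzf (hzc x hxD) hzz' hzf' (hzc' x hxD)
    have hgz : g * z = z * g := by
      have h3 : z' * g = g * z := by rw [hz']; group
      rw [← h3, ← heq]
    set C := Subgroup.centralizer ({z} : Set (Perm Ω)) with hC
    have hDC : D ≤ C := fun d hd => Subgroup.mem_centralizer_singleton_iff.2 (hzc d hd)
    have hgC : g ∈ C := Subgroup.mem_centralizer_singleton_iff.2 hgz
    have hxC : x ∈ C := hDC hxD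
    have hcard : Nat.card (Quotient (qs z hzz)) < n := by
      rw [← hn]
      haveI := Fintype.ofFinite Ω
      haveI := Fintype.ofFinite (Quotient (qs z hzz))
      rw [Nat.card_eq_fintype_card, Nat.card_eq_fintype_card]
      obtain ⟨a⟩ : Nonempty Ω := inferInstance
      apply Fintype.card_lt_of_surjective_not_injective (Quotient.mk (qs z hzz)) Quotient.mk_surjective
      intro hinj
      exact hzf a (hinj ((q_eq z hzz (z a) a).2 (Or.inr (by
        exact (congrFun (congrArg (fun (f : Perm Ω) => (f : Ω → Ω)) hzz) a).symm))))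
    have hg1 := ih _ hcard (Quotient (qs z hzz)) (qh z hzz ⟨x, hxC⟩) rfl (hx.q hzz hzf hxC) ((D.subgroupOf C).map (qh z hzz))
      ((hD.of_equiv (Subgroup.subgroupOfEquivOfLe hDC).symm).map _) ⟨⟨x, hxC⟩, hxD, rfl⟩ (qh z hzz ⟨g, hgC⟩) (by
        apply Cfsg.Agent.H24.Tools.mem_normalizer
        rintro _ ⟨d, hd, rfl⟩
        refine ⟨⟨g, hgC⟩ * d * ⟨g, hgC⟩⁻¹, ?_, ?_⟩
        · exact (Subgroup.mem_normalizer_iff.1 hg _).1 hd
        · rw [map_mul, map_mul, map_inv]) (by
        apply Odd.of_dvd_nat hodd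
        apply orderOf_dvd_of_pow_eq_one
        rw [← map_pow]
        have : (⟨g, hgC⟩ : C) ^ orderOf g = 1 := Subtype.ext (pow_orderOf_eq_one g)
        rw [this, map_one])
    have hga : ∀ a, g a = a ∨ g a = z a := by
      intro a
      have h3 : qh z hzz ⟨g, hgC⟩ (Quotient.mk (qs z hzz) a) = Quotient.mk (qs z hzz) a := by rw [hg1]; rfl
      rw [qh_mk, q_eq] at h3
      rcases h3 with h3 | h3
      · exact Or.inl h3.symm
      · right
        have h4 := congrArg z h3
        have h5 : z (z (g a)) = g a := congrFun (congrArg (fun (f : Perm Ω) => (f : Ω → Ω)) hzz) (g a)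
        have h6 : z a = g a := by rw [h4]; exact h5
        exact h6.symm
    have hg2 : g ^ 2 = 1 := by
      ext a
      rw [sq, Perm.mul_apply]
      rcases hga a with h3 | h3
      · rw [h3, h3]; rfl
      · rw [h3]
        have h4 : g (z a) = z (g a) := congrFun (congrArg (fun (f : Perm Ω) => (f : Ω → Ω)) hgz) a
        rw [h4, h3]
        exact congrFun (congrArg (fun (f : Perm Ω) => (f : Ω → Ω)) hzz) a
    have h3 := orderOf_dvd_of_pow_eq_one hg2
    rw [← orderOf_eq_one_iff]
    rcases (Nat.dvd_prime Nat.prime_two).1 h3 with h | h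
    · exact h
    · rw [h] at hodd
      exact absurd hodd (by decide)
  · -- intransitive
    push Not at htr
    obtain ⟨a0, b0, hab0⟩ := htr
    ext a
    change g a = a
    have hmem : ∀ b c : Ω, c ∈ orbit D b ↔ ∃ d ∈ D, d b = c := by
      intro b c
      constructor
      · rintro ⟨d, hd⟩; exact ⟨d, d.2, hd⟩
      · rintro ⟨d, hd, h⟩; exact ⟨⟨d, hd⟩, h⟩
    have hA : ∀ h ∈ D, ∀ b, h b ∈ orbit D a ↔ b ∈ orbit D a := by
      intro h hh b
      rw [hmem, hmem]
      constructor
      · rintro ⟨d, hd, e⟩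
        refine ⟨h⁻¹ * d, mul_mem (inv_mem hh) hd, ?_⟩
        rw [Perm.mul_apply, e]; simp
      · rintro ⟨d, hd, rfl⟩
        exact ⟨h * d, mul_mem hh hd, rfl⟩
    have hgA : ∀ b, g b ∈ orbit D a ↔ b ∈ orbit D a := by
      intro b
      rw [← orbit_eq_iff, ← orbit_eq_iff, orbit_eq_iff.2 (horb b)]
    have hcard : Nat.card (orbit D a) < n := by
      rw [← hn, Nat.card_coe_set_eq]
      apply Set.ncard_lt_card
      intro h
      have h1 : ∀ c : Ω, orbit D c = orbit D a := fun c => orbit_eq_iff.2 (h ▸ Set.mem_univ c)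
      apply hab0
      rw [h1 a0, h]
      exact Set.mem_univ _
    have hφ : ∀ d : D, toPermHom D (orbit D a) d = (d : Perm Ω).subtypePerm (hA d d.2) := by
      intro d
      ext b
      rfl
    have hg1 := ih _ hcard (orbit D a) (x.subtypePerm (hA x hxD)) rfl (hx.sub _) (toPermHom D (orbit D a)).range
      (hD.of_surjective _ (toPermHom D (orbit D a)).rangeRestrict_surjective) ⟨⟨x, hxD⟩, hφ _⟩ (g.subtypePerm hgA) (by
        apply Cfsg.Agent.H24.Tools.mem_normalizer
        rintro _ ⟨d, rfl⟩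
        refine ⟨⟨g * d * g⁻¹, (Subgroup.mem_normalizer_iff.1 hg _).1 d.2⟩, ?_⟩
        rw [hφ, hφ]
        ext b
        rfl) (by
        apply Odd.of_dvd_nat hodd
        apply orderOf_dvd_of_pow_eq_one
        rw [Equiv.Perm.subtypePerm_pow]
        ext b
        change ((g ^ orderOf g) b : Ω) = b
        rw [pow_orderOf_eq_one]; rfl)
    have h3 : (g.subtypePerm hgA) ⟨a, mem_orbit_self a⟩ = ⟨a, mem_orbit_self a⟩ := by rw [hg1]; rfl
    exact congrArg Subtype.val h3

/-- uniqueness of the Sylow 2-subgroup -/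
theorem sylow_unique {Ω : Type u} [Finite Ω] {x : Perm Ω} (hx : Good x) (P Q : Sylow 2 (Perm Ω)) (hxP : x ∈ P) (hxQ : x ∈ Q) : P = Q := by
  haveI : Fact (Nat.Prime 2) := ⟨Nat.prime_two⟩
  by_contra hne
  obtain ⟨⟨P1, P2⟩, ⟨h12, hx1, hx2⟩, hmax⟩ := Set.exists_max_image
    {PQ : Sylow 2 (Perm Ω) × Sylow 2 (Perm Ω) | PQ.1 ≠ PQ.2 ∧ x ∈ PQ.1 ∧ x ∈ PQ.2}
    (fun PQ => Nat.card ↥((PQ.1 : Subgroup (Perm Ω)) ⊓ (PQ.2 : Subgroup (Perm Ω)))) (Set.toFinite _) ⟨(P, Q), hne, hxP, hxQ⟩
  simp only at h12 hx1 hx2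
  set D : Subgroup (Perm Ω) := (P1 : Subgroup (Perm Ω)) ⊓ (P2 : Subgroup (Perm Ω)) with hD
  have hD2 : IsPGroup 2 D := P1.2.to_le inf_le_left
  have hxD : x ∈ D := ⟨hx1, hx2⟩
  have hN : IsPGroup 2 (Subgroup.normalizer (D : Set (Perm Ω))) := by
    rw [IsPGroup.iff_card]
    have h1 : ∀ q : ℕ, q.Prime → q ∣ Nat.card (Subgroup.normalizer (D : Set (Perm Ω))) → q = 2 := by
      intro q hq hqd
      by_contra hq2
      haveI : Fact q.Prime := ⟨hq⟩
      obtain ⟨g, hg⟩ := exists_prime_orderOf_dvd_card' q hqd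
      have h2 : orderOf (g : Perm Ω) = q := by rw [Subgroup.orderOf_coe, hg]
      have h3 := main _ Ω x rfl hx D hD2 hxD g g.2 (by rw [h2]; exact hq.odd_of_ne_two hq2)
      rw [h3, orderOf_one] at h2
      exact hq.ne_one h2.symm
    have h2 := Nat.eq_prime_pow_of_unique_prime_dvd (n := Nat.card (Subgroup.normalizer (D : Set (Perm Ω)))) (p := 2) Nat.card_pos.ne' (fun {q} hq hqd => h1 q hq hqd)
    exact ⟨_, h2⟩
  obtain ⟨P3, hP3⟩ := hN.exists_le_sylow
  have hx3 : x ∈ P3 := hP3 (Subgroup.le_normalizer hxD)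
  have key : ∀ R : Sylow 2 (Perm Ω), D ≤ R → D ≠ R → x ∈ R → R = P3 := by
    intro R hDR hne hxR
    by_contra hR3
    have h1 : D < D ⊔ (R : Subgroup (Perm Ω)) := by
      rw [sup_eq_right.2 hDR]
      exact lt_of_le_of_ne hDR hne
    have h2 : D < (R : Subgroup (Perm Ω)) := lt_of_le_of_ne hDR hne
    have h3 := Cfsg.Agent.H1.Schmidt.lt_inf_normalizer h2 (R.2.isNilpotent)
    have h4 : D < (R : Subgroup (Perm Ω)) ⊓ (P3 : Subgroup (Perm Ω)) := lt_of_lt_of_le h3 (inf_le_inf_left _ hP3)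
    have h5 := hmax (R, P3) ⟨hR3, hxR, hx3⟩
    simp only at h5
    exact h4.ne (Subgroup.eq_of_le_of_card_ge h4.le h5)
  have hD1 : D ≠ P1 := by
    intro h
    have h1 : (P1 : Subgroup (Perm Ω)) ≤ P2 := by rw [← h, hD]; exact inf_le_right
    exact h12 (Sylow.ext (P1.is_maximal' P2.2 h1).symm)
  have hD2' : D ≠ P2 := by
    intro h
    have h1 : (P2 : Subgroup (Perm Ω)) ≤ P1 := by rw [← h, hD]; exact inf_le_left
    exact h12 (Sylow.ext (P2.is_maximal' P1.2 h1))
  exact h12 ((key P1 inf_le_left hD1 hx1).trans (key P2 inf_le_right hD2' hx2).symm)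

end Cfsg.Agent.H23.GoodPerm
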