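import Mathlib
import Cfsg.Prelude.Def_OddOrderLocal
import Cfsg.Agent.H23_ClassSize2
import Cfsg.Agent.H2_Card
import Cfsg.Agent.H24_Tools

set_option autoImplicit false

open Cfsg Subgroup
open scoped Pointwise

namespace Cfsg.Agent.H23.HallTI

open Cfsg.Agent.H23.ClassSize

variable {G : Type*} [Group G]

/-- a `π(H)`-element normalizing the Hall subgroup `H` lies in `H` -/
theorem mem_of_mem_normalizer [Finite G] (H : Subgroup G)
    (hHall : (Nat.card H).Coprime (H.relIndex (normalizer (H : Set G)))) {z : G}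
    (hz : z ∈ normalizer (H : Set G)) (hzo : ∀ q, q.Prime → q ∣ orderOf z → q ∣ Nat.card H) : z ∈ H := by
  set N := normalizer (H : Set G) with hN
  have hn : (H.subgroupOf N).Normal := by rw [hN]; infer_instance
  have h1 : (⟨z, hz⟩ : N) ∈ H.subgroupOf N := by
    rw [← QuotientGroup.eq_one_iff, ← orderOf_eq_one_iff]
    by_contra hne
    obtain ⟨q, hq, hqd⟩ := Nat.exists_prime_and_dvd hne
    have h2 : q ∣ orderOf z := by
      have := hqd.trans (orderOf_map_dvd (QuotientGroup.mk' (H.subgroupOf N)) ⟨z, hz⟩)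
      rwa [Subgroup.orderOf_mk] at this
    have h3 : q ∣ H.relIndex N := hqd.trans (orderOf_dvd_natCard _)
    exact hq.one_lt.ne' (Nat.dvd_one.1 (hHall ▸ Nat.dvd_gcd (hzo q hq h2) h3))
  exact h1

/-- elements of prime order dividing the order of a Hall subgroup are conjugate into it -/
theorem exists_conj_mem [Finite G] (H : Subgroup G) (hHall : (Nat.card H).Coprime H.index) {q : ℕ}
    (hq : q.Prime) (hqH : q ∣ Nat.card H) {y : G} (hy : ∃ k, orderOf y = q ^ k) :
    ∃ g : G, g⁻¹ * y * g ∈ H := by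
  have : Fact q.Prime := ⟨hq⟩
  obtain ⟨k, hk⟩ := hy
  obtain ⟨Q, hQ⟩ := (H24.Tools.isPGroup_zpowers hk).exists_le_sylow
  obtain ⟨R⟩ : Nonempty (Sylow q H) := inferInstance
  have h1 : ¬ q ∣ ((R : Subgroup H).map H.subtype).index := by
    rw [index_map_subtype]
    intro hd
    rcases (Nat.Prime.dvd_mul hq).1 hd with hd | hd
    · exact R.not_dvd_index hd
    · exact hq.one_lt.ne' (Nat.dvd_one.1 (hHall ▸ Nat.dvd_gcd hqH hd))
  have h2 : IsPGroup q ((R : Subgroup H).map H.subtype) := R.isPGroup'.map _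
  obtain ⟨g, hg⟩ := MulAction.exists_smul_eq G (h2.toSylow h1) Q
  refine ⟨g, ?_⟩
  have h3 : y ∈ Q := hQ (mem_zpowers y)
  rw [← hg, H2.Basic.mem_smul_sylow] at h3
  exact map_subtype_le (R : Subgroup H) h3

theorem ti_normalizer {H : Subgroup G} (hTI : IsTISubset (H : Set G)) {g g' y : G} (hy : y ≠ 1)
    (h1 : g⁻¹ * y * g ∈ H) (h2 : g'⁻¹ * y * g' ∈ H) : g'⁻¹ * g ∈ normalizer (H : Set G) := by
  by_contra hc
  have h3 := hTI (g'⁻¹ * g) hc (g⁻¹ * y * g) h1 (by
    have : g'⁻¹ * g * (g⁻¹ * y * g) * (g'⁻¹ * g)⁻¹ = g'⁻¹ * y * g' := by group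
    rw [this]; exact h2)
  apply hy
  calc y = g * (g⁻¹ * y * g) * g⁻¹ := by group
    _ = 1 := by rw [h3]; group

/-- S4116 -/
theorem dominance [Finite G] (H : Subgroup G) (hHall : (Nat.card H).Coprime H.index)
    (hTI : IsTISubset (H : Set G)) (K : Subgroup G)
    (hK : ∀ q : ℕ, q.Prime → q ∣ Nat.card K → q ∣ Nat.card H) :
    ∃ g : G, ∀ x ∈ K, g⁻¹ * x * g ∈ H := by
  by_contra hcon
  push Not at hcon
  have hHall' : (Nat.card H).Coprime (H.relIndex (normalizer (H : Set G))) :=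
    Nat.Coprime.coprime_dvd_right (relIndex_dvd_index_of_le le_normalizer) hHall
  -- π-elements normalizing a conjugate of H
  have hin : ∀ (g x : G), x ∈ K → g⁻¹ * x * g ∈ normalizer (H : Set G) → g⁻¹ * x * g ∈ H := by
    intro g x hx hn
    apply mem_of_mem_normalizer H hHall' hn
    intro q hq hqd
    apply hK q hq
    have h1 : orderOf (g⁻¹ * x * g) = orderOf x := by
      have := H24.Tools.orderOf_conj g⁻¹ x
      rwa [inv_inv] at this
    rw [h1, ← Subgroup.orderOf_mk x hx] at hqd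
    exact hqd.trans (orderOf_dvd_natCard _)
  -- the subgroup L g
  let L : G → Subgroup K := fun g => (H.comap (MulAut.conj g⁻¹).toMonoidHom).subgroupOf K
  have hL : ∀ (g : G) (x : K), x ∈ L g ↔ g⁻¹ * x * g ∈ H := by
    intro g x
    simp only [L, mem_subgroupOf, mem_comap]
    simp
  let U : G → Set K := fun g => {x | x ≠ 1 ∧ ∃ k : K, k⁻¹ * x * k ∈ L g}
  have hcount : ∀ g, L g ≠ ⊥ → Nat.card K ≤ 2 * (U g).ncard := by
    intro g hg
    let f : (K ⧸ L g) × {l : L g // l ≠ 1} → K := fun a => (a.1.out) * ((a.2 : L g) : K) * (a.1.out)⁻¹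
    have hf : Function.Injective f := by
      rintro ⟨a, l, hl⟩ ⟨b, m, hm⟩ hab
      simp only [f] at hab
      have hl1 : (l : K) ≠ 1 := fun h => hl (Subtype.ext h)
      set y : K := a.out * (l : K) * a.out⁻¹ with hy
      have hy1 : (y : G) ≠ 1 := by
        intro h
        apply hl1
        have h1 : y = 1 := Subtype.ext h
        rw [hy, mul_inv_eq_one, mul_eq_left] at h1
        exact h1
      have h1 : ((a.out : K) * g : G)⁻¹ * y * ((a.out : K) * g : G) ∈ H := by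
        have : ((a.out : K) * g : G)⁻¹ * y * ((a.out : K) * g : G) = g⁻¹ * (l : K) * g := by
          rw [hy]; push_cast; group
        rw [this]
        exact (hL g l).1 l.2
      have h2 : ((b.out : K) * g : G)⁻¹ * y * ((b.out : K) * g : G) ∈ H := by
        have : ((b.out : K) * g : G)⁻¹ * y * ((b.out : K) * g : G) = g⁻¹ * (m : K) * g := by
          rw [hab]; push_cast; group
        rw [this]
        exact (hL g m).1 m.2
      have h3 := ti_normalizer hTI hy1 h1 h2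
      have h4 : ((b.out : K) * g : G)⁻¹ * ((a.out : K) * g : G) = g⁻¹ * ((b.out)⁻¹ * a.out : K) * g := by
        push_cast; group
      rw [h4] at h3
      have h5 := hin g _ ((b.out)⁻¹ * a.out : K).2 h3
      have h6 : (b.out)⁻¹ * a.out ∈ L g := (hL g _).2 h5
      have h7 : b = a := by
        rw [← b.out_eq', ← a.out_eq', QuotientGroup.eq]
        exact h6
      subst h7
      have h8 : (l : K) = m := by
        have := hab
        rw [hy] at this
        exact mul_left_cancel (mul_right_cancel this)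
      have h9 : l = m := Subtype.ext h8
      subst h9
      rfl
    have hsub : Set.range f ⊆ U g := by
      rintro _ ⟨⟨a, l, hl⟩, rfl⟩
      refine ⟨?_, a.out, ?_⟩
      · intro h
        apply hl
        simp only [f] at h
        rw [mul_inv_eq_one, mul_eq_left] at h
        exact Subtype.ext h
      · have : (a.out)⁻¹ * (a.out * (l : K) * (a.out)⁻¹) * a.out = l := by group
        simp only [f]
        rw [this]
        exact l.2
    have h1 := Set.ncard_le_ncard hsub (Set.toFinite _)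
    rw [← Set.image_univ, Set.ncard_image_of_injective _ hf, Set.ncard_univ, Nat.card_prod] at h1
    have h2 : Nat.card {l : L g // l ≠ 1} = Nat.card (L g) - 1 := by
      have := Fintype.ofFinite (L g)
      classical
      rw [Nat.card_eq_fintype_card, Nat.card_eq_fintype_card, Fintype.card_subtype_compl,
        Fintype.card_subtype_eq]
    have h3 : 1 < Nat.card (L g) := by
      rw [one_lt_card_iff_ne_bot]; exact hg
    have h4 : (L g).index * Nat.card (L g) = Nat.card K := (L g).index_mul_card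
    have h5 : Nat.card (K ⧸ L g) = (L g).index := rfl
    rw [h2, h5] at h1
    have h6 : (L g).index * Nat.card (L g) ≤ (L g).index * (2 * (Nat.card (L g) - 1)) :=
      Nat.mul_le_mul_left _ (by omega)
    calc Nat.card K = (L g).index * Nat.card (L g) := h4.symm
      _ ≤ (L g).index * (2 * (Nat.card (L g) - 1)) := h6
      _ = 2 * ((L g).index * (Nat.card (L g) - 1)) := by ring
      _ ≤ 2 * (U g).ncard := Nat.mul_le_mul_left _ h1
  -- a first g
  have hKb : K ≠ ⊥ := by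
    rintro rfl
    obtain ⟨x, hx, hx'⟩ := hcon 1
    rw [mem_bot] at hx
    subst hx
    apply hx'
    simp only [inv_one, mul_one]
    exact H.one_mem
  have hprime : ∀ x : K, x ≠ 1 → ∃ (y : K), y ∈ zpowers x ∧ y ≠ 1 ∧ ∃ g : G, y ∈ L g := by
    intro x hx
    have ho : orderOf x ≠ 1 := by rwa [Ne, orderOf_eq_one_iff]
    obtain ⟨t, ht, k, hk⟩ := Nat.exists_prime_and_dvd ho
    have hk0 : k ≠ 0 := by rintro rfl; rw [mul_zero] at hk; exact (orderOf_pos x).ne' hk
    have hyt : orderOf (x ^ k) = t := by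
      rw [orderOf_pow_of_dvd hk0 ⟨t, by rw [hk, mul_comm]⟩, hk]
      exact Nat.mul_div_cancel _ (Nat.pos_of_ne_zero hk0)
    refine ⟨x ^ k, npow_mem_zpowers x k, ?_, ?_⟩
    · intro h
      rw [h, orderOf_one] at hyt
      exact ht.one_lt.ne hyt
    · have h1 : t ∣ Nat.card K := by
        rw [← hyt]; exact orderOf_dvd_natCard _
      obtain ⟨g, hg⟩ := exists_conj_mem H hHall ht (hK t ht h1) (y := ((x ^ k : K) : G))
        ⟨1, by rw [Subgroup.orderOf_coe, hyt, pow_one]⟩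
      exact ⟨g, (hL g _).2 hg⟩
  obtain ⟨x1, hx1⟩ := ne_bot_iff_exists_ne_one.1 hKb
  obtain ⟨y1, -, hy1, g1, hg1⟩ := hprime x1 hx1
  have hL1 : L g1 ≠ ⊥ := by
    intro h
    rw [h, mem_bot] at hg1
    exact hy1 hg1
  have hL1t : L g1 ≠ ⊤ := by
    intro h
    obtain ⟨x, hx, hx'⟩ := hcon g1
    apply hx'
    have : (⟨x, hx⟩ : K) ∈ L g1 := by rw [h]; trivial
    exact (hL g1 _).1 this
  obtain ⟨x0, hx0⟩ := exists_forall_conj_notMem _ hL1t
  have hx01 : x0 ≠ 1 := by
    rintro rfl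
    apply hx0 1
    simp only [inv_one, mul_one]
    exact one_mem _
  obtain ⟨y, hyx, hy, g2, hg2⟩ := hprime x0 hx01
  have hL2 : L g2 ≠ ⊥ := by
    intro h
    rw [h, mem_bot] at hg2
    exact hy hg2
  have hdisj : Disjoint (U g1) (U g2) := by
    rw [Set.disjoint_left]
    rintro z ⟨hz1, k, hk⟩ ⟨-, k', hk'⟩
    rw [hL] at hk hk'
    have hz1' : (z : G) ≠ 1 := fun h => hz1 (Subtype.ext h)
    have e1 : ((k : G) * g1)⁻¹ * z * ((k : G) * g1) ∈ H := by
      have : ((k : G) * g1)⁻¹ * z * ((k : G) * g1) = g1⁻¹ * ((k⁻¹ * z * k : K) : G) * g1 := by push_cast; group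
      rw [this]; exact hk
    have e2 : ((k' : G) * g2)⁻¹ * z * ((k' : G) * g2) ∈ H := by
      have : ((k' : G) * g2)⁻¹ * z * ((k' : G) * g2) = g2⁻¹ * ((k'⁻¹ * z * k' : K) : G) * g2 := by push_cast; group
      rw [this]; exact hk'
    -- n = (k g1)⁻¹ (k' g2) normalizes H
    have h3 := ti_normalizer hTI hz1' e2 e1
    -- y ∈ H_{g2} hence in H_{k'' g1}, k'' = k'⁻¹ k
    have hy2 := (hL g2 y).1 hg2
    have h4 : ((k : G) * g1)⁻¹ * ((k' : G) * g2) * (g2⁻¹ * y * g2) * (((k : G) * g1)⁻¹ * ((k' : G) * g2))⁻¹ ∈ H :=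
      (mem_set_normalizer_iff.1 h3 _).1 hy2
    have h5 : (((k' : G)⁻¹ * k) * g1)⁻¹ * y * (((k' : G)⁻¹ * k) * g1) ∈ H := by
      have : (((k' : G)⁻¹ * k) * g1)⁻¹ * y * (((k' : G)⁻¹ * k) * g1) =
        ((k : G) * g1)⁻¹ * ((k' : G) * g2) * (g2⁻¹ * y * g2) * (((k : G) * g1)⁻¹ * ((k' : G) * g2))⁻¹ := by group
      rw [this]; exact h4
    -- x0 commutes with y
    have hcomm : (x0 : G) * y = y * x0 := by
      obtain ⟨j, rfl⟩ := mem_zpowers_iff.1 hyx
      exact congrArg Subtype.val ((Commute.refl x0).zpow_right j).eq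
    have hy1' : (y : G) ≠ 1 := fun h => hy (Subtype.ext h)
    have h6 : ((x0 : G)⁻¹ * (((k' : G)⁻¹ * k) * g1))⁻¹ * y * ((x0 : G)⁻¹ * (((k' : G)⁻¹ * k) * g1)) ∈ H := by
      have : ((x0 : G)⁻¹ * (((k' : G)⁻¹ * k) * g1))⁻¹ * y * ((x0 : G)⁻¹ * (((k' : G)⁻¹ * k) * g1)) =
        (((k' : G)⁻¹ * k) * g1)⁻¹ * y * (((k' : G)⁻¹ * k) * g1) := by
        calc _ = (((k' : G)⁻¹ * k) * g1)⁻¹ * (x0 * y) * (x0 : G)⁻¹ * (((k' : G)⁻¹ * k) * g1) := by group
          _ = (((k' : G)⁻¹ * k) * g1)⁻¹ * (y * x0) * (x0 : G)⁻¹ * (((k' : G)⁻¹ * k) * g1) := by rw [hcomm]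
          _ = _ := by group
      rw [this]; exact h5
    have h7 := ti_normalizer hTI hy1' h5 h6
    -- h7 : (x0⁻¹ a)⁻¹ a ∈ N(H), i.e. a⁻¹ x0 a ∈ N(H)
    have h8 : (((k' : G)⁻¹ * k) * g1)⁻¹ * x0 * (((k' : G)⁻¹ * k) * g1) ∈ normalizer (H : Set G) := by
      have : (((k' : G)⁻¹ * k) * g1)⁻¹ * x0 * (((k' : G)⁻¹ * k) * g1) =
        ((x0 : G)⁻¹ * (((k' : G)⁻¹ * k) * g1))⁻¹ * (((k' : G)⁻¹ * k) * g1) := by group
      rw [this]; exact h7
    have h9 := hin _ _ x0.2 h8
    apply hx0 (k'⁻¹ * k)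
    rw [hL]
    have : g1⁻¹ * (((k'⁻¹ * k)⁻¹ * x0 * (k'⁻¹ * k) : K) : G) * g1 =
      (((k' : G)⁻¹ * k) * g1)⁻¹ * x0 * (((k' : G)⁻¹ * k) * g1) := by push_cast; group
    rw [this]; exact h9
  have h1 := hcount g1 hL1
  have h2 := hcount g2 hL2
  have h3 := Set.ncard_union_eq hdisj (Set.toFinite _) (Set.toFinite _)
  have h4 : (U g1 ∪ U g2).ncard < Nat.card K := by
    rw [← Set.ncard_univ]
    apply Set.ncard_lt_ncard _ (Set.toFinite _)
    refine ⟨Set.subset_univ _, fun h => ?_⟩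
    have : (1 : K) ∈ U g1 ∪ U g2 := h (Set.mem_univ _)
    rcases this with h | h
    · exact h.1 rfl
    · exact h.1 rfl
  omega

end Cfsg.Agent.H23.HallTI
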