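import Mathlib
import Cfsg.Agent.H2_Card

/-!
H23_Rad: the solvable radical of a finite group.
-/

set_option autoImplicit false
set_option linter.style.haveILetI false

namespace Cfsg.Agent.H23.Rad

open Subgroup

variable {G : Type*} [Group G]

theorem solvable_of_le {H K : Subgroup G} (h : H ≤ K) (hK : Group.IsSolvable K) : Group.IsSolvable H :=
  haveI := hK
  Group.isSolvable_of_isSolvable_injective (Subgroup.inclusion_injective h)

theorem solvable_map {G' : Type*} [Group G'] (f : G →* G') {H : Subgroup G} (hH : Group.IsSolvable H) :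
    Group.IsSolvable (H.map f) :=
  haveI := hH
  Group.isSolvable_of_surjective (f.subgroupMap_surjective H)

theorem solvable_top (h : Group.IsSolvable (⊤ : Subgroup G)) : Group.IsSolvable G :=
  haveI := h
  Group.isSolvable_of_surjective (f := (Subgroup.topEquiv (G := G)).toMonoidHom)
    (Subgroup.topEquiv (G := G)).surjective

theorem solvable_quot (N : Subgroup G) [N.Normal] (hN : Group.IsSolvable N)
    (hq : Group.IsSolvable (G ⧸ N)) : Group.IsSolvable G := by
  haveI := hN
  haveI := hq
  exact Group.isSolvable_of_ker_le_range (N.subtype) (QuotientGroup.mk' N)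
    (by rw [QuotientGroup.ker_mk', Subgroup.range_subtype])

/-- a subgroup with solvable image and solvable kernel part -/
theorem solvable_of_map {G' : Type*} [Group G'] (f : G →* G') {H : Subgroup G}
    (h1 : Group.IsSolvable (H ⊓ f.ker : Subgroup G)) (h2 : Group.IsSolvable (H.map f)) :
    Group.IsSolvable H := by
  haveI := h1
  haveI := h2
  refine Group.isSolvable_of_ker_le_range (Subgroup.inclusion (inf_le_left : H ⊓ f.ker ≤ H))
    (f.subgroupMap H) ?_
  intro x hx
  rw [MonoidHom.mem_ker] at hx
  have h3 : f x = 1 := congrArg Subtype.val hx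
  exact ⟨⟨x, x.2, h3⟩, rfl⟩

theorem solvable_comap {N : Subgroup G} [N.Normal] (hN : Group.IsSolvable N) {S : Subgroup (G ⧸ N)}
    (hS : Group.IsSolvable S) : Group.IsSolvable (S.comap (QuotientGroup.mk' N)) := by
  refine solvable_of_map (QuotientGroup.mk' N) (solvable_of_le ?_ hN)
    (solvable_of_le (Subgroup.map_comap_le _ _) hS)
  rw [QuotientGroup.ker_mk']
  exact inf_le_right

theorem solvable_sup {A B : Subgroup G} [A.Normal] (hA : Group.IsSolvable A)
    (hB : Group.IsSolvable B) : Group.IsSolvable (A ⊔ B : Subgroup G) := by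
  refine solvable_of_map (QuotientGroup.mk' A) (solvable_of_le ?_ hA) ?_
  · rw [QuotientGroup.ker_mk']
    exact inf_le_right
  · rw [Subgroup.map_sup]
    have : A.map (QuotientGroup.mk' A) = ⊥ := by
      rw [Subgroup.map_eq_bot_iff, QuotientGroup.ker_mk']
    rw [this, bot_sup_eq]
    exact solvable_map _ hB

theorem solvable_of_pgroup [Finite G] {p : ℕ} [Fact p.Prime] (h : IsPGroup p G) : Group.IsSolvable G := by
  haveI := h.isNilpotent
  infer_instance

theorem exists_rad (G : Type*) [Group G] [Finite G] :
    ∃ S : Subgroup G, S.Characteristic ∧ Group.IsSolvable S ∧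
      ∀ T : Subgroup G, T.Normal → Group.IsSolvable T → T ≤ S := by
  obtain ⟨S, hS⟩ := (Set.toFinite {N : Subgroup G | N.Normal ∧ Group.IsSolvable N}).exists_maximal
    ⟨⊥, (inferInstance : (⊥ : Subgroup G).Normal), inferInstance⟩
  have hmax : ∀ T : Subgroup G, T.Normal → Group.IsSolvable T → T ≤ S := by
    intro T hT hTs
    haveI := hT
    haveI := hS.1.1
    have h1 : Group.IsSolvable (S ⊔ T : Subgroup G) := solvable_sup hS.1.2 hTs
    exact le_sup_right.trans (hS.2 ⟨inferInstance, h1⟩ le_sup_left)
  refine ⟨S, ?_, hS.1.2, hmax⟩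
  rw [Subgroup.characteristic_iff_map_le]
  intro φ
  haveI := hS.1.1
  exact hmax _ (Subgroup.Normal.map this _ φ.surjective) (solvable_map _ hS.1.2)

/-- a solvable normal subgroup of a normal subgroup lies in a solvable normal subgroup of G -/
theorem exists_of_normal [Finite G] (N : Subgroup G) [N.Normal] (T : Subgroup N) (hT : T.Normal)
    (hs : Group.IsSolvable T) :
    ∃ R : Subgroup G, R.Normal ∧ Group.IsSolvable R ∧ R ≤ N ∧ T.map N.subtype ≤ R := by
  obtain ⟨S, hS1, hS2, hS3⟩ := exists_rad N
  haveI := hS1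
  refine ⟨S.map N.subtype, inferInstance, solvable_map _ hS2, Subgroup.map_subtype_le _,
    Subgroup.map_mono (hS3 T hT hs)⟩

theorem not_solvable_of_center_lt [Finite G] {N : Subgroup G} (h : N ≤ center G) : Group.IsSolvable N := by
  haveI : IsMulCommutative N := ⟨⟨fun a b => Subtype.ext
    ((mem_center_iff.1 (h a.2) b).symm)⟩⟩
  exact Group.isSolvable_of_comm fun a b => (IsMulCommutative.is_comm.comm a b)

end Cfsg.Agent.H23.Rad
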