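import Mathlib
import Cfsg.Prelude.Def_Blocks
import Cfsg.Agent.H10_BlockKn
import Cfsg.Agent.H10_BlockHZ
import Cfsg.Agent.H10_BlockOrth
import Cfsg.Agent.H3_CharGal
import Cfsg.Agent.H3_CharQuot
import Cfsg.Agent.H3_CharInd
import Cfsg.Agent.H3_CharMult
import Cfsg.Agent.H3_CharInt
import Cfsg.Agent.H2_Card
import Cfsg.Agent.H23_Rad
import Cfsg.Agent.H23_Basic

/-!
H23_Kazarin: an element whose conjugacy class has prime power size generates a solvable normal
closure (Kazarin), by weak block orthogonality in the principal q-block.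
-/

set_option autoImplicit false
set_option linter.style.haveILetI false
set_option linter.unusedSectionVars false

namespace Cfsg.Agent.H23.Kazarin

open Subgroup
open Cfsg Cfsg.Agent.H3.CharIrr Cfsg.Agent.H3.CharComplete Cfsg.Agent.H3.CharInd
  Cfsg.Agent.H3.CharQuot Cfsg.Agent.H3.CharMult Cfsg.Agent.H3.CharGal Cfsg.Agent.H3.CharInt
  Cfsg.Agent.H10.BlockLoc Cfsg.Agent.H10.BlockKn Cfsg.Agent.H10.BlockHZ
  Cfsg.Agent.H10.BlockTrace Cfsg.Agent.H10.Char Cfsg.Agent.H10.BlockAlg Cfsg.Agent.H10.BlockIdem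
  Cfsg.Agent.H10.BlockOrth
open scoped ComplexConjugate

theorem burnside' {G : Type*} [Group G] [Finite G] {χ : G → ℂ} (hχ : IsIrrCharacter G χ)
    {n : ℕ} (hn : χ 1 = n) (g : G) (hc : Nat.Coprime n (centralizer ({g} : Set G)).index) :
    χ g = 0 ∨ ‖χ g‖ = n := by
  obtain ⟨m, ρ, hρ, rfl⟩ := hχ
  have h1 : (Module.finrank ℂ (Fin m → ℂ) : ℂ) = n := by
    rw [← hn, Representation.char_one]
  have h2 : Module.finrank ℂ (Fin m → ℂ) = n := by exact_mod_cast h1
  have := burnside_lemma ρ hρ g (by rw [h2]; exact hc)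
  rwa [h2] at this

/-- a root of unity which is one modulo M has order a power of q -/
theorem root_eq_one {q : ℕ} {M : Ideal AlgInt} (hM : IsPModular q M) {u : ℂ} {b : ℕ}
    (hb : ¬ q ∣ b) (hu : u ^ b = 1) (h1 : MemLocalIdeal M (u - 1)) : u = 1 := by
  haveI := hM.2.1
  by_contra hne
  have hb0 : b ≠ 0 := by rintro rfl; exact hb (dvd_zero _)
  have hs : ∑ i ∈ Finset.range b, u ^ i = 0 := by
    have := mul_geom_sum u b
    rw [hu, sub_self] at this
    rcases mul_eq_zero.1 this with h | h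
    · exact absurd (sub_eq_zero.1 h) hne
    · exact h
  have hint : IsIntegral ℤ u := by
    refine ⟨Polynomial.X ^ b - 1, ?_, ?_⟩
    · exact Polynomial.monic_X_pow_sub_C (1:ℤ) hb0
    · simp [hu]
  have hr : MemLocalRing M u := memLocalRing_of_integral this.ne_top hint
  have h2 : ∀ i ∈ Finset.range b, MemLocalIdeal M (u ^ i - 1) := by
    intro i _
    have : u ^ i - 1 = (u - 1) * ∑ j ∈ Finset.range i, u ^ j := (mul_geom_sum u i).symm
    rw [this]
    exact ideal_mul_right h1 (ring_sum _ _ fun j _ => ring_pow hr j)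
  have h3 := ideal_sum _ _ h2
  rw [Finset.sum_sub_distrib, hs, zero_sub] at h3
  have h4 := ideal_neg h3
  rw [neg_neg] at h4
  simp only [Finset.sum_const, Finset.card_range, nsmul_eq_mul, mul_one] at h4
  exact hb ((ideal_natCast_iff hM b).1 h4)

theorem hom_pow_iff {G : Type*} [Group G] (f : G →* ℂˣ) (k : ℕ) :
    f ^ k = 1 ↔ ∀ g, f g ^ k = 1 := by
  constructor
  · intro h g
    have := DFunLike.congr_fun h g
    simpa using this
  · intro h
    apply MonoidHom.ext
    intro g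
    rw [MonoidHom.pow_apply, h g, MonoidHom.one_apply]

/-- the linear characters of q-power order trivial on N -/
def linSub {G : Type*} [Group G] (N : Subgroup G) (q : ℕ) : Subgroup (G →* ℂˣ) where
  carrier := {f | N ≤ f.ker ∧ ∃ m : ℕ, f ^ (q ^ m) = 1}
  one_mem' := ⟨fun x _ => by simp, 0, by simp⟩
  mul_mem' := by
    rintro a b ⟨ha, m, hm⟩ ⟨hb, n, hn⟩
    refine ⟨fun x hx => ?_, m + n, ?_⟩
    · have h1 := MonoidHom.mem_ker.1 (ha hx)
      have h2 := MonoidHom.mem_ker.1 (hb hx)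
      rw [MonoidHom.mem_ker, MonoidHom.mul_apply, h1, h2, one_mul]
    · rw [hom_pow_iff] at hm hn ⊢
      intro g
      rw [MonoidHom.mul_apply, mul_pow, pow_add, pow_mul, hm, one_pow, mul_comm (q ^ m), pow_mul, hn,
        one_pow, one_mul]
  inv_mem' := by
    rintro a ⟨ha, m, hm⟩
    refine ⟨fun x hx => ?_, m, ?_⟩
    · have h1 := MonoidHom.mem_ker.1 (ha hx)
      rw [MonoidHom.mem_ker, MonoidHom.inv_apply, h1, inv_one]
    · rw [hom_pow_iff] at hm ⊢
      intro g
      rw [MonoidHom.inv_apply, inv_pow, hm, inv_one]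

theorem core {G : Type*} [Group G] [Finite G] (N : Subgroup G) [N.Normal] (x : G) {p q : ℕ}
    (hp : p.Prime) (hq : q.Prime) (hpq : p ≠ q) (k : ℕ)
    (hx : (centralizer ({x} : Set G)).index = p ^ k) (hG : N ⊔ zpowers x = ⊤)
    (hN : ∀ K : Subgroup G, K.Normal → (∀ g, x * g * x⁻¹ * g⁻¹ ∈ K) → N ≤ K)
    {y : G} (hy : y ∈ N) (hyq : orderOf y = q) : False := by
  classical
  haveI : Fact q.Prime := ⟨hq⟩
  haveI : Fintype G := Fintype.ofFinite G
  haveI : Fintype (IrrCharacter G) := Fintype.ofFinite _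
  obtain ⟨M, hM⟩ := exists_modular hq
  haveI := hM.2.1
  let χ0 : IrrCharacter G := ⟨fun _ => 1, isIrr_one⟩
  let B : Set (IrrCharacter G) := blockOf M (χ0 : G → ℂ)
  have hB : IsPBlock M B := ⟨χ0, rfl⟩
  have hc0 : ∀ g, centralChar (χ0 : G → ℂ) g = (centralizer ({g} : Set G)).index := by
    intro g
    simp [centralChar, χ0]
  have hpk : ¬ MemLocalIdeal M ((p ^ k : ℕ) : ℂ) := by
    intro h
    have h1 := (ideal_natCast_iff hM _).1 h
    exact hpq ((Nat.prime_dvd_prime_iff_eq hq hp).1 (hq.dvd_of_dvd_pow h1)).symm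
  -- members of degree prime to p are linear and trivial on N
  have hlin : ∀ χ : IrrCharacter G, χ ∈ B → ¬ p ∣ charDegree (χ : G → ℂ) →
      (χ : G → ℂ) 1 = 1 ∧ ∀ n ∈ N, (χ : G → ℂ) n = 1 := by
    intro χ hχ hd
    have hdeg := charDegree_eq χ.2
    have hcop : Nat.Coprime (charDegree (χ : G → ℂ)) (centralizer ({x} : Set G)).index := by
      rw [hx]
      exact (Nat.Coprime.pow_left k ((Nat.Prime.coprime_iff_not_dvd hp).2 hd)).symm
    have hne : (χ : G → ℂ) x ≠ 0 := by
      intro h0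
      have h1 : SameBlock M (χ0 : G → ℂ) (χ : G → ℂ) := hχ
      have h2 := h1 x
      rw [hc0, centralChar, h0, hx] at h2
      simp only [mul_zero, zero_div, sub_zero] at h2
      exact hpk h2
    have hnorm : ‖(χ : G → ℂ) x‖ = ‖(χ : G → ℂ) 1‖ := by
      rcases burnside' χ.2 hdeg.symm x hcop with h | h
      · exact absurd h hne
      · rw [h, ← hdeg]; simp
    have hch := isChar_of_irr χ.2
    haveI := chKer_normal hch
    have hNK : N ≤ chKer (χ : G → ℂ) hch := hN _ this fun g => by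
      rw [mem_chKer]
      exact IsChar.comm_of_norm hch hnorm g
    have hNK' : ∀ n ∈ N, (χ : G → ℂ) n = (χ : G → ℂ) 1 := fun n hn => (mem_chKer hch n).1 (hNK hn)
    obtain ⟨χ', hχ', he⟩ := IsIrr.descend χ.2 N hNK'
    have hcomm : ∀ a b : G ⧸ N, a * b = b * a := by
      have hall : ∀ a : G ⧸ N, a ∈ zpowers ((x : G) : G ⧸ N) := by
        intro a
        obtain ⟨g, rfl⟩ := QuotientGroup.mk_surjective a
        have hg : g ∈ N ⊔ zpowers x := by rw [hG]; trivial
        obtain ⟨n, hn, z, hz, rfl⟩ := Subgroup.mem_sup_of_normal_left.1 hg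
        obtain ⟨i, rfl⟩ := mem_zpowers_iff.1 hz
        rw [QuotientGroup.mk_mul, (QuotientGroup.eq_one_iff n).2 hn, one_mul]
        exact ⟨i, by simp⟩
      intro a b
      obtain ⟨i, rfl⟩ := mem_zpowers_iff.1 (hall a)
      obtain ⟨j, rfl⟩ := mem_zpowers_iff.1 (hall b)
      rw [← zpow_add, ← zpow_add, add_comm]
    have h1 : χ' 1 = 1 := IsIrr.one_of_comm hcomm hχ'
    have h2 : (χ : G → ℂ) 1 = 1 := by rw [← he 1, ← h1]; rfl
    exact ⟨h2, fun n hn => (hNK' n hn).trans h2⟩
  -- the bijection with linSub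
  let Λ := {χ : IrrCharacter G // χ ∈ B ∧ ¬ p ∣ charDegree (χ : G → ℂ)}
  have hmemB : ∀ f ∈ linSub N q, (⟨fun g => (f g : ℂ), isIrr_of_hom_units f⟩ : IrrCharacter G) ∈ B := by
    rintro f ⟨_, m, hm⟩ g
    rw [hc0, centralChar]
    simp only [map_one, Units.val_one, div_one]
    have h1 : ((f g : ℂˣ) : ℂ) ^ (q ^ m) = 1 := by
      have := DFunLike.congr_fun hm g
      rw [MonoidHom.pow_apply, MonoidHom.one_apply] at this
      rw [← Units.val_pow_eq_pow_val, this, Units.val_one]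
    have h2 := ideal_neg (root_sub_one_mem hM h1)
    have h3 := ideal_mul_left (ring_natCast (M := M) (centralizer ({g} : Set G)).index) h2
    convert h3 using 1
    ring
  have hdeg1 : ∀ f : G →* ℂˣ, ¬ p ∣ charDegree (fun g => (f g : ℂ)) := by
    intro f
    have h1 := charDegree_eq (isIrr_of_hom_units f)
    simp only [map_one, Units.val_one] at h1
    have h2 : charDegree (fun g => (f g : ℂ)) = 1 := by exact_mod_cast h1
    rw [h2, Nat.dvd_one]
    exact hp.one_lt.ne'
  let F : linSub N q → Λ := fun f => ⟨⟨fun g => (f.1 g : ℂ), isIrr_of_hom_units f.1⟩,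
    hmemB f.1 f.2, hdeg1 f.1⟩
  have hFinj : Function.Injective F := by
    intro f g hfg
    have h1 : (fun a => ((f.1 a : ℂˣ) : ℂ)) = fun a => ((g.1 a : ℂˣ) : ℂ) :=
      congrArg (fun χ : Λ => ((χ.1 : IrrCharacter G) : G → ℂ)) hfg
    apply Subtype.ext
    ext a
    exact congrFun h1 a
  have hFsurj : Function.Surjective F := by
    rintro ⟨χ, hχ, hd⟩
    obtain ⟨h1, h2⟩ := hlin χ hχ hd
    obtain ⟨f, hf⟩ := IsChar.hom_units_of_one (isChar_of_irr χ.2) h1
    have hfN : N ≤ f.ker := by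
      intro n hn
      rw [MonoidHom.mem_ker]
      ext
      rw [← hf n, h2 n hn, Units.val_one]
    -- f x is 1 mod M
    have h3 : SameBlock M (χ0 : G → ℂ) (χ : G → ℂ) := hχ
    have h4 := h3 x
    rw [hc0, centralChar, hx, h1, div_one, hf x] at h4
    have h5 : MemLocalIdeal M (((f x : ℂˣ) : ℂ) - 1) := by
      have h6 : ((p ^ k : ℕ) : ℂ) * (((f x : ℂˣ) : ℂ) - 1) = - ((p ^ k : ℕ) - (p ^ k : ℕ) * ((f x : ℂˣ) : ℂ)) := by ring
      have h7 : MemLocalIdeal M (((p ^ k : ℕ) : ℂ) * (((f x : ℂˣ) : ℂ) - 1)) := by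
        rw [h6]; exact ideal_neg h4
      have hint : IsIntegral ℤ (((f x : ℂˣ) : ℂ)) := by
        rw [← hf x]; exact IsChar.isIntegral (isChar_of_irr χ.2) x
      rcases ideal_of_mul (ring_natCast _) (ring_sub (memLocalRing_of_integral (M := M) hM.2.1.ne_top hint)
        (ring_one (M := M))) h7 with h | h
      · exact absurd h hpk
      · exact h
    -- order of f x
    obtain ⟨a, b, hb, hab⟩ := Nat.exists_eq_pow_mul_and_not_dvd (orderOf_pos x).ne' q hq.ne_one
    have h8 : (((f x : ℂˣ) : ℂ) ^ (q ^ a)) ^ b = 1 := by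
      rw [← pow_mul, ← hab, ← Units.val_pow_eq_pow_val, ← map_pow, pow_orderOf_eq_one, map_one,
        Units.val_one]
    have hint : IsIntegral ℤ (((f x : ℂˣ) : ℂ)) := by
      rw [← hf x]; exact IsChar.isIntegral (isChar_of_irr χ.2) x
    have h9 : MemLocalIdeal M ((((f x : ℂˣ) : ℂ) ^ (q ^ a)) - 1) := by
      have : ((f x : ℂˣ) : ℂ) ^ (q ^ a) - 1 = (((f x : ℂˣ) : ℂ) - 1) *
          ∑ j ∈ Finset.range (q ^ a), ((f x : ℂˣ) : ℂ) ^ j := (mul_geom_sum _ _).symm
      rw [this]
      exact ideal_mul_right h5 (ring_sum _ _ fun j _ =>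
        ring_pow (memLocalRing_of_integral (M := M) hM.2.1.ne_top hint) j)
    have h10 := root_eq_one hM hb h8 h9
    have h11 : f ^ (q ^ a) = 1 := by
      have hk : N ⊔ zpowers x ≤ (f ^ (q ^ a)).ker := by
        rw [sup_le_iff, zpowers_le]
        constructor
        · intro n hn
          rw [MonoidHom.mem_ker, MonoidHom.pow_apply, MonoidHom.mem_ker.1 (hfN hn), one_pow]
        · rw [MonoidHom.mem_ker, MonoidHom.pow_apply]
          ext
          rw [Units.val_pow_eq_pow_val, h10, Units.val_one]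
      ext g
      have : g ∈ (f ^ (q ^ a)).ker := hk (by rw [hG]; trivial)
      rw [MonoidHom.mem_ker.1 this, MonoidHom.one_apply]
    refine ⟨⟨f, hfN, a, h11⟩, ?_⟩
    apply Subtype.ext
    apply Subtype.ext
    funext g
    exact (hf g).symm
  have hcard : Nat.card Λ = Nat.card (linSub N q) :=
    (Nat.card_congr (Equiv.ofBijective F ⟨hFinj, hFsurj⟩)).symm
  haveI : Finite (linSub N q) := Finite.of_injective F hFinj
  have hpg : IsPGroup q (linSub N q) := by
    rintro ⟨f, hf1, m, hm⟩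
    exact ⟨m, Subtype.ext hm⟩
  obtain ⟨m, hm⟩ := IsPGroup.iff_card.1 hpg
  -- the sum
  have hsum := weak_orth' hM hB 1 y (by rw [orderOf_one, Nat.dvd_one]; exact hq.one_lt.ne')
    (by rw [hyq])
  have hterm : ∀ χ : IrrCharacter G, ∃ z : ℂ, IsIntegral ℤ z ∧
      (if χ ∈ B then (χ : G → ℂ) y * (χ : G → ℂ) 1 else 0) =
      (if χ ∈ B ∧ ¬ p ∣ charDegree (χ : G → ℂ) then 1 else 0) + (p : ℂ) * z := by
    intro χ
    by_cases h : χ ∈ B
    · by_cases hd : p ∣ charDegree (χ : G → ℂ)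
      · obtain ⟨c, hc⟩ := hd
        refine ⟨(χ : G → ℂ) y * c, (IsChar.isIntegral (isChar_of_irr χ.2) y).mul ?_, ?_⟩
        · exact_mod_cast isIntegral_algebraMap (R := ℤ) (A := ℂ) (x := (c : ℤ))
        · rw [if_pos h, if_neg (by push Not; exact fun _ => ⟨c, hc⟩), ← charDegree_eq χ.2, hc]
          push_cast; ring
      · refine ⟨0, isIntegral_zero, ?_⟩
        obtain ⟨h1, h2⟩ := hlin χ h hd
        rw [if_pos h, if_pos ⟨h, hd⟩, h1, h2 y hy]; ring
    · exact ⟨0, isIntegral_zero, by rw [if_neg h, if_neg (fun hh => h hh.1)]; ring⟩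
  choose z hz1 hz2 using hterm
  rw [Finset.sum_congr rfl fun χ _ => hz2 χ, Finset.sum_add_distrib, ← Finset.mul_sum] at hsum
  have hL : (∑ χ : IrrCharacter G, (if χ ∈ B ∧ ¬ p ∣ charDegree (χ : G → ℂ) then (1:ℂ) else 0)) =
      (q ^ m : ℕ) := by
    rw [← hm, ← hcard, Finset.sum_boole, Nat.card_eq_fintype_card]
    congr 1
    exact (Fintype.card_subtype _).symm
  rw [hL] at hsum
  have hp0 : (p : ℂ) ≠ 0 := by exact_mod_cast hp.ne_zero
  have h20 : IsIntegral ℤ (((q ^ m : ℕ) : ℂ) / p) := by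
    have : ((q ^ m : ℕ) : ℂ) / p = - ∑ χ, z χ := by
      rw [div_eq_iff hp0]
      linear_combination hsum
    rw [this]
    exact (IsIntegral.sum _ fun χ _ => hz1 χ).neg
  have h21 := dvd_of_isIntegral_div hp.ne_zero h20
  exact hpq ((Nat.prime_dvd_prime_iff_eq hp hq).1 (hp.dvd_of_dvd_pow h21))

open Cfsg.Agent.H23.Rad Cfsg.Agent.H2.Card

theorem index_quotient_dvd {G : Type*} [Group G] [Finite G] (N : Subgroup G) [N.Normal] (x : G) :
    (centralizer ({(x : G ⧸ N)} : Set (G ⧸ N))).index ∣ (centralizer ({x} : Set G)).index := by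
  have h1 : (centralizer ({x} : Set G)).map (QuotientGroup.mk' N) ≤
      centralizer ({(x : G ⧸ N)} : Set (G ⧸ N)) := by
    rintro _ ⟨c, hc, rfl⟩
    rw [mem_centralizer_singleton_iff]
    have := mem_centralizer_singleton_iff.1 hc
    rw [QuotientGroup.mk'_apply, ← QuotientGroup.mk_mul, ← QuotientGroup.mk_mul, this]
  exact (index_dvd_of_le h1).trans (index_map_dvd _ (QuotientGroup.mk'_surjective N))

theorem centralizer_index_subgroup {G : Type*} [Group G] [Finite G] (H : Subgroup G) (x : H) :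
    (centralizer ({x} : Set H)).index = (centralizer ({(x : G)} : Set G)).relIndex H := by
  have : centralizer ({x} : Set H) = (centralizer ({(x : G)} : Set G)).subgroupOf H := by
    ext c
    rw [mem_centralizer_singleton_iff, mem_subgroupOf, mem_centralizer_singleton_iff,
      Subtype.ext_iff]
    rfl
  rw [this]; rfl

theorem index_normal_dvd {G : Type*} [Group G] [Finite G] (H : Subgroup G) [H.Normal] (x : H) :
    (centralizer ({x} : Set H)).index ∣ (centralizer ({(x : G)} : Set G)).index := by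
  rw [centralizer_index_subgroup]
  exact relIndex_dvd_index_of_normal_right _ _

theorem index_sup_zpowers_dvd {G : Type*} [Group G] [Finite G] (N : Subgroup G) [N.Normal]
    {H : Subgroup G} (x : G) (hH : N ⊔ zpowers x = H) (hx : x ∈ H) :
    (centralizer ({(⟨x, hx⟩ : H)} : Set H)).index ∣ (centralizer ({x} : Set G)).index := by
  rw [centralizer_index_subgroup]
  change (centralizer ({x} : Set G)).relIndex H ∣ _
  have h1 : (centralizer ({x} : Set G)).relIndex H = (centralizer ({x} : Set G)).relIndex N := by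
    set C := centralizer ({x} : Set G) with hC
    have hzC : zpowers x ≤ C := by
      rw [zpowers_le, hC, mem_centralizer_singleton_iff]
    have h2 : (C ⊓ H) ⊔ N = H := by
      apply le_antisymm (sup_le inf_le_right (hH ▸ le_sup_left))
      conv_lhs => rw [← hH]
      exact sup_le le_sup_right ((le_inf hzC (hH ▸ le_sup_right)).trans le_sup_left)
    have h3 := relIndex_sup_left_of_le_normalizer (H := C ⊓ H) (N := N) le_normalizer_of_normal
    rw [h2] at h3
    have h4 : (C ⊓ H).relIndex N = C.relIndex N := by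
      rw [← Subgroup.inf_relIndex_right, ← Subgroup.inf_relIndex_right C N, inf_assoc,
        inf_eq_right.2 (hH ▸ le_sup_left : N ≤ H)]
    rw [← h4, ← h3, Subgroup.inf_relIndex_right]
  rw [h1]
  exact relIndex_dvd_index_of_normal_right _ _

universe u

theorem aux (n : ℕ) : ∀ (G : Type u) [Group G] [Finite G], Nat.card G = n → ∀ (x : G) {p : ℕ},
    p.Prime → ∀ k : ℕ, (centralizer ({x} : Set G)).index = p ^ k →
    ∃ S : Subgroup G, S.Normal ∧ Group.IsSolvable S ∧ x ∈ S := by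
  induction n using Nat.strong_induction_on with
  | _ n ih =>
  intro G _ _ hn x p hp k hx
  by_cases hR : ∃ R : Subgroup G, R.Normal ∧ Group.IsSolvable R ∧ R ≠ ⊥
  · obtain ⟨R, hRn, hRs, hR0⟩ := hR
    obtain ⟨j, _, hj⟩ := (Nat.dvd_prime_pow hp).1 (hx ▸ index_quotient_dvd R x)
    obtain ⟨S, hS1, hS2, hS3⟩ := ih _ (hn ▸ card_quotient_lt hR0) (G ⧸ R) rfl (x : G ⧸ R) hp j hj
    exact ⟨S.comap (QuotientGroup.mk' R), inferInstance, solvable_comap hRs hS2, hS3⟩
  by_cases hx1 : x = 1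
  · exact ⟨⊥, inferInstance, inferInstance, by rw [hx1]; exact one_mem _⟩
  have hR' : ∀ R : Subgroup G, R.Normal → Group.IsSolvable R → R = ⊥ := by
    intro R h1 h2
    by_contra h3
    exact hR ⟨R, h1, h2, h3⟩
  exfalso
  haveI : Nontrivial G := ⟨⟨x, 1, hx1⟩⟩
  obtain ⟨N, hNn, hN0, hNm⟩ := Cfsg.Agent.H23.Basic.exists_minimal_normal (G := G)
  have hNs : ¬ Group.IsSolvable N := fun h => hN0 (hR' N hNn h)
  -- if x centralizes N we are done
  have hcent : ¬ x ∈ centralizer (N : Set G) := by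
    intro hxC
    haveI : (centralizer (N : Set G)).Normal := inferInstance
    have hC : centralizer (N : Set G) ≠ ⊤ := by
      intro h
      apply hNs
      apply not_solvable_of_center_lt
      intro a ha
      rw [Subgroup.mem_center_iff]
      intro g
      have : g ∈ centralizer (N : Set G) := by rw [h]; trivial
      exact (mem_centralizer_iff.1 this a ha).symm
    obtain ⟨j, _, hj⟩ := (Nat.dvd_prime_pow hp).1
      (hx ▸ index_normal_dvd (centralizer (N : Set G)) ⟨x, hxC⟩)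
    obtain ⟨S, hS1, hS2, hS3⟩ := ih _ (hn ▸ card_lt_of_ne_top hC) (centralizer (N : Set G)) rfl
      ⟨x, hxC⟩ hp j hj
    obtain ⟨R, hR1, hR2, _, hR3⟩ := exists_of_normal (centralizer (N : Set G)) S hS1 hS2
    have h4 := hR' R hR1 hR2
    have h5 : x ∈ R := hR3 ⟨⟨x, hxC⟩, hS3, rfl⟩
    rw [h4, mem_bot] at h5
    exact hx1 h5
  by_cases hG1 : N ⊔ zpowers x = ⊤
  · have hNcard : ¬ IsPGroup p N := by
      intro h
      haveI : Fact p.Prime := ⟨hp⟩
      exact hNs (solvable_of_pgroup h)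
    obtain ⟨q, hq, hqN, hqp⟩ : ∃ q : ℕ, q.Prime ∧ q ∣ Nat.card N ∧ p ≠ q := by
      by_contra hcon
      push Not at hcon
      apply hNcard
      haveI : Fact p.Prime := ⟨hp⟩
      rw [IsPGroup.iff_card]
      refine ⟨(Nat.card N).primeFactorsList.length, ?_⟩
      exact Nat.eq_prime_pow_of_unique_prime_dvd Nat.card_pos.ne' fun {d} hd hdv =>
        (hcon d hd hdv).symm
    haveI : Fact q.Prime := ⟨hq⟩
    obtain ⟨y, hy⟩ := exists_prime_orderOf_dvd_card' q hqN
    refine core N x hp hq hqp k hx hG1 ?_ (y := (y : G)) y.2 (by rw [orderOf_coe, hy])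
    intro K hK hKx
    by_contra hKN
    have h1 : N ⊓ K = ⊥ := by
      by_contra h2
      haveI := hK
      have h3 := hNm (N ⊓ K) inferInstance inf_le_left h2
      exact hKN (inf_eq_left.1 h3)
    apply hcent
    rw [mem_centralizer_iff]
    intro a ha
    have h2 : x * a * x⁻¹ * a⁻¹ ∈ N ⊓ K :=
      ⟨N.mul_mem (hNn.conj_mem a ha x) (N.inv_mem ha), hKx a⟩
    rw [h1, mem_bot, mul_inv_eq_one, mul_inv_eq_iff_eq_mul] at h2
    exact h2.symm
  · have hxH : x ∈ N ⊔ zpowers x := le_sup_right (α := Subgroup G) (mem_zpowers x)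
    obtain ⟨j, _, hj⟩ := (Nat.dvd_prime_pow hp).1 (hx ▸ index_sup_zpowers_dvd N x rfl hxH)
    obtain ⟨S, hS1, hS2, hS3⟩ := ih _ (hn ▸ card_lt_of_ne_top hG1) (N ⊔ zpowers x : Subgroup G) rfl
      ⟨x, hxH⟩ hp j hj
    -- the intersection with N
    have hNle : N ≤ N ⊔ zpowers x := le_sup_left
    let T : Subgroup N := S.comap (Subgroup.inclusion hNle)
    have hT : T.Normal := inferInstance
    have hTs : Group.IsSolvable T := by
      haveI := hS2
      refine Group.isSolvable_of_isSolvable_injective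
        (f := ((Subgroup.inclusion hNle).subgroupComap S)) ?_
      intro a b hab
      have h1 : (Subgroup.inclusion hNle) (a : N) = (Subgroup.inclusion hNle) (b : N) :=
        congrArg Subtype.val hab
      exact Subtype.ext (Subgroup.inclusion_injective hNle h1)
    obtain ⟨R, hR1, hR2, _, hR3⟩ := exists_of_normal N T hT hTs
    have h4 := hR' R hR1 hR2
    apply hcent
    rw [mem_centralizer_iff]
    intro a ha
    have haH : a ∈ N ⊔ zpowers x := hNle ha
    have hc1 : (⟨x, hxH⟩ : (N ⊔ zpowers x : Subgroup G)) * ⟨a, haH⟩ * ⟨x, hxH⟩⁻¹ * ⟨a, haH⟩⁻¹ ∈ S := by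
      have := S.mul_mem hS3 (hS1.conj_mem _ (S.inv_mem hS3) ⟨a, haH⟩)
      convert this using 1
      group
    have hc2 : x * a * x⁻¹ * a⁻¹ ∈ N := N.mul_mem (hNn.conj_mem a ha x) (N.inv_mem ha)
    have h5 : x * a * x⁻¹ * a⁻¹ ∈ R := hR3 ⟨⟨_, hc2⟩, hc1, rfl⟩
    rw [h4, mem_bot, mul_inv_eq_one, mul_inv_eq_iff_eq_mul] at h5
    exact h5.symm

/-- Kazarin's theorem -/
theorem kazarin {G : Type*} [Group G] [Finite G] (x : G) {p : ℕ} (hp : p.Prime) (k : ℕ)
    (hx : (centralizer ({x} : Set G)).index = p ^ k) :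
    Group.IsSolvable (normalClosure ({x} : Set G)) := by
  obtain ⟨S, hS1, hS2, hS3⟩ := aux _ G rfl x hp k hx
  exact solvable_of_le (normalClosure_le_normal (Set.singleton_subset_iff.2 hS3)) hS2

end Cfsg.Agent.H23.Kazarin
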