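import Cfsg.Agent.H2_PGroup
import Cfsg.Agent.H23_Wielandt

set_option autoImplicit false
set_option linter.style.haveILetI false

/-! H23_Kula: Hall's enumeration principle mod `p^2`. -/

namespace Cfsg.Agent.H23.Kula

open Subgroup Finset
open Cfsg.Agent.H2.PGroup

universe u

section hom

variable {P : Type u} [Group P] [Finite P] {p : ℕ} [hp : Fact p.Prime]

instance : Finite (P →* Multiplicative (ZMod p)) :=
  Finite.of_injective (fun f => (f : P → Multiplicative (ZMod p))) DFunLike.coe_injective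

theorem cC : Nat.card (Multiplicative (ZMod p)) = p := by
  rw [Nat.card_congr Multiplicative.toAdd, Nat.card_zmod]

theorem pow_p (c : Multiplicative (ZMod p)) : c ^ p = 1 := by
  have h : c ^ Nat.card (Multiplicative (ZMod p)) = 1 := pow_card_eq_one'
  rwa [cC] at h

/-- homs killing `H` -/
def AH (p : ℕ) (H : Subgroup P) : Subgroup (P →* Multiplicative (ZMod p)) where
  carrier := {f | H ≤ f.ker}
  mul_mem' := by
    intro a b ha hb x hx
    rw [MonoidHom.mem_ker, MonoidHom.mul_apply, MonoidHom.mem_ker.mp (ha hx),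
      MonoidHom.mem_ker.mp (hb hx), one_mul]
  one_mem' := by
    intro x _
    rw [MonoidHom.mem_ker]; rfl
  inv_mem' := by
    intro a ha x hx
    rw [MonoidHom.mem_ker, MonoidHom.inv_apply, MonoidHom.mem_ker.mp (ha hx), inv_one]

theorem mem_AH {H : Subgroup P} {f : P →* Multiplicative (ZMod p)} : f ∈ AH p H ↔ H ≤ f.ker := Iff.rfl

theorem card_AH (H : Subgroup P) : ∃ e, Nat.card (AH p H) = p ^ e := by
  have h : IsPGroup p (AH p H) := by
    intro f
    refine ⟨1, ?_⟩
    rw [pow_one]
    apply Subtype.ext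
    apply MonoidHom.ext
    intro x
    show ((f : P →* Multiplicative (ZMod p)) ^ p) x = 1
    rw [MonoidHom.pow_apply]
    exact pow_p _
  exact IsPGroup.iff_card.mp h

theorem ker_index {f : P →* Multiplicative (ZMod p)} (hf : f ≠ 1) : f.ker.index = p := by
  rw [Subgroup.index_ker]
  have h1 : Nat.card f.range ∣ p := by
    have := Subgroup.card_subgroup_dvd_card f.range
    rwa [cC] at this
  rcases (Nat.dvd_prime hp.out).mp h1 with h2 | h2
  · exfalso
    apply hf
    rw [Subgroup.card_eq_one] at h2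
    apply MonoidHom.ext
    intro x
    have : f x ∈ f.range := ⟨x, rfl⟩
    rw [h2, Subgroup.mem_bot] at this
    exact this
  · exact h2

/-- homs killing a subgroup of index `p` -/
theorem card_AH_index (hP : IsPGroup p P) {M : Subgroup P} (hM : M.index = p) :
    Nat.card (AH p M) = p := by
  haveI hn := normal_of_index_p hP hM
  obtain ⟨e, he⟩ := card_AH (p := p) M
  -- nontrivial
  have hq : Nat.card (P ⧸ M) = p := hM
  let θ : P ⧸ M ≃* Multiplicative (ZMod p) := mulEquivOfPrimeCardEq (p := p) hq cC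
  let f0 : P →* Multiplicative (ZMod p) := θ.toMonoidHom.comp (QuotientGroup.mk' M)
  have hf0 : f0 ∈ AH p M := by
    intro x hx
    rw [MonoidHom.mem_ker]
    show θ (QuotientGroup.mk x) = 1
    rw [(QuotientGroup.eq_one_iff x).mpr hx, map_one]
  have hMt : M ≠ ⊤ := by
    rintro rfl; rw [index_top] at hM; exact hp.out.ne_one hM.symm
  obtain ⟨g, hg⟩ : ∃ g, g ∉ M := by
    by_contra hcon
    push Not at hcon
    exact hMt (eq_top_iff.mpr fun x _ => hcon x)
  have hf0g : f0 g ≠ 1 := by
    intro h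
    have h1 : θ (QuotientGroup.mk g) = 1 := h
    have h2 := (MulEquiv.map_eq_one_iff θ).mp h1
    exact hg ((QuotientGroup.eq_one_iff g).mp h2)
  -- injection to values at g
  have hsup : M ⊔ zpowers g = ⊤ := by
    have hc := isCoatom_of_index (p := p) hM
    apply hc.2
    refine lt_of_le_of_ne le_sup_left ?_
    intro h
    apply hg
    rw [h]
    exact mem_sup_right (mem_zpowers g)
  have hinj : Function.Injective (fun f : AH p M => (f : P →* Multiplicative (ZMod p)) g) := by
    intro f f' h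
    apply Subtype.ext
    apply MonoidHom.ext
    intro x
    have hx : x ∈ M ⊔ zpowers g := by rw [hsup]; trivial
    rw [← SetLike.mem_coe, Subgroup.normal_mul] at hx
    obtain ⟨m, hm, z, ⟨k, rfl⟩, rfl⟩ := Set.mem_mul.mp hx
    simp only [map_mul, map_zpow]
    rw [MonoidHom.mem_ker.mp (f.2 hm), MonoidHom.mem_ker.mp (f'.2 hm)]
    have h' : (f : P →* Multiplicative (ZMod p)) g = (f' : P →* Multiplicative (ZMod p)) g := h
    rw [h']
  have hle : Nat.card (AH p M) ≤ p := by
    have := Nat.card_le_card_of_injective _ hinj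
    rwa [cC] at this
  have hgt : 1 < Nat.card (AH p M) := by
    rw [Finite.one_lt_card_iff_nontrivial]
    refine ⟨⟨⟨f0, hf0⟩, 1, ?_⟩⟩
    intro h
    apply hf0g
    have := congrArg (fun f : AH p M => (f : P →* Multiplicative (ZMod p)) g) h
    exact this
  rw [he] at hle hgt ⊢
  have h1 : e ≤ 1 := by
    by_contra hcon
    have : p ^ 2 ≤ p ^ e := Nat.pow_le_pow_right hp.out.pos (by omega)
    have h2 := hp.out.two_le
    nlinarith
  have h2 : e ≠ 0 := by
    rintro rfl
    simp at hgt
  have : e = 1 := by omega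
  rw [this, pow_one]

open Classical in
/-- the subgroups of index `p` above `H` -/
noncomputable def Mx (p : ℕ) (H : Subgroup P) : Finset (Subgroup P) :=
  haveI := Fintype.ofFinite (Subgroup P)
  Finset.univ.filter (fun M => M.index = p ∧ H ≤ M)

theorem mem_Mx {H M : Subgroup P} : M ∈ Mx p H ↔ M.index = p ∧ H ≤ M := by
  simp [Mx]

theorem mx_card (hP : IsPGroup p P) (H : Subgroup P) :
    (p - 1) * (Mx p H).card + 1 = Nat.card (AH p H) := by
  classical
  haveI := Fintype.ofFinite (P →* Multiplicative (ZMod p))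
  have h1 : Nat.card (AH p H) = (Finset.univ.filter (fun f : P →* Multiplicative (ZMod p) => H ≤ f.ker)).card := by
    rw [Nat.card_eq_fintype_card]
    exact Fintype.card_subtype _
  have h2 : (Finset.univ.filter (fun f : P →* Multiplicative (ZMod p) => H ≤ f.ker)) =
      insert 1 (Finset.univ.filter (fun f : P →* Multiplicative (ZMod p) => H ≤ f.ker ∧ f ≠ 1)) := by
    ext f
    simp only [Finset.mem_filter, Finset.mem_univ, true_and, Finset.mem_insert]
    constructor
    · intro h
      by_cases hf : f = 1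
      · left; exact hf
      · right; exact ⟨h, hf⟩
    · rintro (rfl | ⟨h, -⟩)
      · intro x _; rw [MonoidHom.mem_ker]; rfl
      · exact h
  have h3 : (Finset.univ.filter (fun f : P →* Multiplicative (ZMod p) => H ≤ f.ker ∧ f ≠ 1)).card =
      ∑ M ∈ Mx p H, (p - 1) := by
    rw [Finset.card_eq_sum_card_fiberwise (f := fun f => f.ker) (t := Mx p H)]
    · refine Finset.sum_congr rfl ?_
      intro M hM
      rw [mem_Mx] at hM
      have h4 := card_AH_index hP hM.1
      have h5 : Nat.card (AH p M) = (Finset.univ.filter (fun f : P →* Multiplicative (ZMod p) => M ≤ f.ker)).card := by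
        rw [Nat.card_eq_fintype_card]
        exact Fintype.card_subtype _
      have h6 : (Finset.univ.filter (fun f : P →* Multiplicative (ZMod p) => M ≤ f.ker)) =
        insert 1 (Finset.filter (fun f : P →* Multiplicative (ZMod p) => f.ker = M)
          (Finset.univ.filter (fun f : P →* Multiplicative (ZMod p) => H ≤ f.ker ∧ f ≠ 1))) := by
        ext f
        simp only [Finset.mem_filter, Finset.mem_univ, true_and, Finset.mem_insert]
        constructor
        · intro h
          by_cases hf : f = 1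
          · left; exact hf
          · right
            refine ⟨⟨hM.2.trans h, hf⟩, ?_⟩
            have hc := isCoatom_of_index (p := p) hM.1
            have hi := ker_index hf
            by_contra hne
            have := hc.2 f.ker (lt_of_le_of_ne h (Ne.symm hne))
            rw [this, index_top] at hi
            exact hp.out.ne_one hi.symm
        · rintro (rfl | ⟨-, h⟩)
          · intro x _; rw [MonoidHom.mem_ker]; rfl
          · rw [h]
      rw [h5, h6, Finset.card_insert_of_notMem (by simp)] at h4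
      omega
    · intro f hf
      simp only [Finset.coe_filter, Finset.mem_univ, true_and, Set.mem_setOf_eq] at hf
      rw [Finset.mem_coe, mem_Mx]
      exact ⟨ker_index hf.2, hf.1⟩
  rw [h1, h2, Finset.card_insert_of_notMem (by simp), h3, Finset.sum_const, smul_eq_mul, mul_comm]

theorem mx_mod (hP : IsPGroup p P) (H : Subgroup P) (h : 2 ≤ (Mx p H).card) :
    (Mx p H).card ≡ 1 + p [MOD p ^ 2] := by
  obtain ⟨e, he⟩ := card_AH (p := p) H
  have h1 := mx_card hP H
  rw [he] at h1
  have hp2 := hp.out.two_le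
  have he2 : 2 ≤ e := by
    by_contra hcon
    have : e = 0 ∨ e = 1 := by omega
    rcases this with rfl | rfl
    · have h2 : (p - 1) * (Mx p H).card = 0 := by simpa using h1
      rcases Nat.mul_eq_zero.mp h2 with h3 | h3 <;> omega
    · have h2 : (p - 1) * (Mx p H).card = (p - 1) * 1 := by
        rw [pow_one] at h1; omega
      have := Nat.eq_of_mul_eq_mul_left (by omega) h2
      omega
  have h2 : (p - 1) * (Mx p H).card ≡ (p - 1) * (1 + p) [MOD p ^ 2] := by
    have h3 : (p - 1) * (Mx p H).card + 1 ≡ 0 [MOD p ^ 2] := by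
      rw [h1]
      exact (Nat.modEq_zero_iff_dvd).mpr (pow_dvd_pow p he2)
    have h4 : (p - 1) * (1 + p) + 1 ≡ 0 [MOD p ^ 2] := by
      have : (p - 1) * (1 + p) + 1 = p ^ 2 := by
        obtain ⟨q, rfl⟩ : ∃ q, p = q + 1 := ⟨p - 1, by omega⟩
        simp; ring
      rw [this]
      exact (Nat.modEq_zero_iff_dvd).mpr dvd_rfl
    exact Nat.ModEq.add_right_cancel' 1 (h3.trans h4.symm)
  refine Nat.ModEq.cancel_left_of_coprime ?_ h2
  have : Nat.Coprime p (p - 1) := by
    rw [Nat.coprime_self_sub_right (by omega)]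
    exact Nat.coprime_one_right p
  exact Nat.Coprime.pow_left 2 this

end hom

section hall

variable {P : Type u} [Group P] [Finite P] {p : ℕ} [hp : Fact p.Prime]

open Classical in
/-- the subgroups of index `p ^ 2` above `H` and the Frattini subgroup -/
noncomputable def Tx (p : ℕ) (H : Subgroup P) : Finset (Subgroup P) :=
  haveI := Fintype.ofFinite (Subgroup P)
  Finset.univ.filter (fun T => T.index = p ^ 2 ∧ frattini P ≤ T ∧ H ≤ T)

theorem mem_Tx {H T : Subgroup P} : T ∈ Tx p H ↔ T.index = p ^ 2 ∧ frattini P ≤ T ∧ H ≤ T := by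
  simp [Tx]

open Classical in
/-- the subgroups of order `p ^ k` below `X` -/
noncomputable def Sk (p k : ℕ) (X : Subgroup P) : Finset (Subgroup P) :=
  haveI := Fintype.ofFinite (Subgroup P)
  Finset.univ.filter (fun H => Nat.card H = p ^ k ∧ H ≤ X)

omit [Finite P] in
theorem mem_Sk [Finite P] {k : ℕ} {H X : Subgroup P} : H ∈ Sk p k X ↔ Nat.card H = p ^ k ∧ H ≤ X := by
  simp [Sk]

theorem card_Sk {k : ℕ} (X : Subgroup P) :
    (Sk p k X).card = Nat.card {H : Subgroup X // Nat.card H = p ^ k} := by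
  classical
  have hcc : (Sk p k X).card = Nat.card ((Sk p k X : Finset (Subgroup P)) : Set (Subgroup P)) := by
    rw [Nat.card_coe_set_eq, Set.ncard_coe_finset]
  rw [hcc]
  refine Nat.card_congr (Equiv.ofBijective (fun H : ((Sk p k X : Finset (Subgroup P)) : Set (Subgroup P)) =>
    (⟨H.1.subgroupOf X, ?_⟩ : {H : Subgroup X // Nat.card H = p ^ k})) ⟨?_, ?_⟩)
  · have h1 := mem_Sk.mp (Finset.mem_coe.mp H.2)
    rw [← h1.1]
    exact Nat.card_congr (Subgroup.subgroupOfEquivOfLe h1.2).toEquiv
  · rintro ⟨H, hH⟩ ⟨H', hH'⟩ h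
    have h1 := mem_Sk.mp (Finset.mem_coe.mp hH)
    have h2 := mem_Sk.mp (Finset.mem_coe.mp hH')
    have h3 : H.subgroupOf X = H'.subgroupOf X := congrArg (fun z => z.1) h
    apply Subtype.ext
    have h4 := congrArg (fun z => Subgroup.map X.subtype z) h3
    simp only [Subgroup.map_subgroupOf_eq_of_le h1.2, Subgroup.map_subgroupOf_eq_of_le h2.2] at h4
    exact h4
  · rintro ⟨H, hH⟩
    refine ⟨⟨H.map X.subtype, ?_⟩, ?_⟩
    · rw [Finset.mem_coe, mem_Sk]
      refine ⟨?_, Subgroup.map_subtype_le H⟩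
      rw [← hH]
      exact Nat.card_congr (H.equivMapOfInjective _ X.subtype_injective).toEquiv.symm
    · apply Subtype.ext
      exact Subgroup.comap_map_eq_self_of_injective X.subtype_injective H

theorem frattini_le (hP : IsPGroup p P) {M : Subgroup P} (hM : M.index = p) : frattini P ≤ M := by
  rw [frattini, Order.radical]
  exact iInf_le_of_le M (iInf_le_of_le (isCoatom_of_index hM) le_rfl)

theorem normal_K (hP : IsPGroup p P) {K : Subgroup P} (hK : frattini P ≤ K) : K.Normal := by
  refine ⟨fun h hh g => ?_⟩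
  have h1 : g * h * g⁻¹ = (g * h * g⁻¹ * h⁻¹) * h := by group
  rw [h1]
  refine K.mul_mem (hK (commutator_le_frattini hP ?_)) hh
  exact commutator_mem_commutator (mem_top g) (mem_top h)

theorem zpowers_sup_ne (hP : IsPGroup p P) {K : Subgroup P} (hK : frattini P ≤ K)
    (h2 : p ^ 2 ∣ K.index) (g : P) : K ⊔ zpowers g ≠ ⊤ := by
  intro h
  haveI := normal_K hP hK
  have h1 : ∀ x : P ⧸ K, x ∈ zpowers (g : P ⧸ K) := by
    intro x
    obtain ⟨y, rfl⟩ := QuotientGroup.mk_surjective x
    have hy : y ∈ K ⊔ zpowers g := by rw [h]; trivial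
    rw [← SetLike.mem_coe, Subgroup.normal_mul] at hy
    obtain ⟨m, hm, z, ⟨k, rfl⟩, rfl⟩ := Set.mem_mul.mp hy
    refine ⟨k, ?_⟩
    simp only [QuotientGroup.mk_mul, QuotientGroup.mk_zpow]
    rw [(QuotientGroup.eq_one_iff m).mpr hm, one_mul]
  have h3 : Nat.card (P ⧸ K) = orderOf (g : P ⧸ K) := (orderOf_eq_card_of_forall_mem_zpowers h1).symm
  have h4 : orderOf (g : P ⧸ K) ∣ p := by
    apply orderOf_dvd_of_pow_eq_one
    rw [← QuotientGroup.mk_pow, QuotientGroup.eq_one_iff]
    exact hK (pow_mem_frattini hP g)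
  rw [← h3] at h4
  have h5 : p ^ 2 ∣ p := h2.trans h4
  have h6 := Nat.le_of_dvd hp.out.pos h5
  have := hp.out.two_le
  nlinarith

theorem mx_two (hP : IsPGroup p P) {H : Subgroup P} (h2 : p ^ 2 ∣ (H ⊔ frattini P).index) :
    2 ≤ (Mx p H).card := by
  classical
  obtain ⟨M1, h1, -, h1i⟩ := exists_index_p_of_ne_top hP (zpowers_sup_ne hP le_sup_right h2 1)
  have hM1t : M1 ≠ ⊤ := by
    rintro rfl; rw [index_top] at h1i; exact hp.out.ne_one h1i.symm
  obtain ⟨g, hg⟩ : ∃ g, g ∉ M1 := by
    by_contra hcon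
    push Not at hcon
    exact hM1t (eq_top_iff.mpr fun x _ => hcon x)
  obtain ⟨M2, h3, -, h2i⟩ := exists_index_p_of_ne_top hP (zpowers_sup_ne hP le_sup_right h2 g)
  have hne : M1 ≠ M2 := by
    rintro rfl
    exact hg (h3 (mem_sup_right (mem_zpowers g)))
  have hsub : ({M1, M2} : Finset (Subgroup P)) ⊆ Mx p H := by
    intro M hM
    rw [Finset.mem_insert, Finset.mem_singleton] at hM
    rcases hM with rfl | rfl
    · rw [mem_Mx]; exact ⟨h1i, (le_sup_left.trans le_sup_left).trans h1⟩
    · rw [mem_Mx]; exact ⟨h2i, (le_sup_left.trans le_sup_left).trans h3⟩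
  calc 2 = ({M1, M2} : Finset (Subgroup P)).card := (Finset.card_pair hne).symm
    _ ≤ _ := Finset.card_le_card hsub

theorem tx_mod (hP : IsPGroup p P) {H : Subgroup P} (h2 : p ^ 2 ∣ (H ⊔ frattini P).index) :
    (Tx p H).card ≡ 1 [MOD p] := by
  classical
  set K := H ⊔ frattini P with hK
  haveI := normal_K hP (K := K) le_sup_right
  obtain ⟨c, hc⟩ := h2
  have hQ : Nat.card (P ⧸ K) = p ^ 2 * c := hc
  have hc0 : 0 < c := by
    rcases Nat.eq_zero_or_pos c with h0 | h0
    · rw [h0, mul_zero] at hQ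
      exact absurd hQ Nat.card_pos.ne'
    · exact h0
  have hQp : IsPGroup p (P ⧸ K) := hP.to_quotient K
  obtain ⟨j, hj⟩ := IsPGroup.iff_card.mp hQp
  have hj2 : 2 ≤ j := by
    by_contra hcon
    have h3 : p ^ 2 ∣ p ^ j := by rw [← hj, hQ]; exact dvd_mul_right _ _
    have := (Nat.pow_dvd_pow_iff_le_right hp.out.one_lt).mp h3
    omega
  have hcp : c = p ^ (j - 2) := by
    have h3 : p ^ 2 * c = p ^ 2 * p ^ (j - 2) := by
      rw [← hQ, hj, ← pow_add]; congr 1; omega
    exact Nat.eq_of_mul_eq_mul_left (pow_pos hp.out.pos 2) h3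
  have h1 := Wielandt.card_modEq_one (G := P ⧸ K) p (j - 2) hp.out (by
    rw [hj]; exact pow_dvd_pow p (by omega))
  have h3 : (Tx p H).card = Nat.card {H : Subgroup (P ⧸ K) // Nat.card H = p ^ (j - 2)} := by
    have hcc : (Tx p H).card = Nat.card ((Tx p H : Finset (Subgroup P)) : Set (Subgroup P)) := by
      rw [Nat.card_coe_set_eq, Set.ncard_coe_finset]
    rw [hcc]
    refine Nat.card_congr (Equiv.ofBijective (fun T : ((Tx p H : Finset (Subgroup P)) : Set (Subgroup P)) =>
      (⟨T.1.map (QuotientGroup.mk' K), ?_⟩ :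
        {H : Subgroup (P ⧸ K) // Nat.card H = p ^ (j - 2)})) ⟨?_, ?_⟩)
    · have h4 := mem_Tx.mp (Finset.mem_coe.mp T.2)
      have hKT : K ≤ T.1 := sup_le h4.2.2 h4.2.1
      have h5 : (T.1.map (QuotientGroup.mk' K)).index = p ^ 2 := by
        rw [Subgroup.index_map, QuotientGroup.ker_mk', sup_eq_left.mpr hKT, h4.1,
          MonoidHom.range_eq_top.mpr (QuotientGroup.mk'_surjective K), index_top, mul_one]
      have h6 := (T.1.map (QuotientGroup.mk' K)).card_mul_index
      rw [h5, hQ, hcp, mul_comm] at h6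
      exact Nat.eq_of_mul_eq_mul_left (pow_pos hp.out.pos 2) h6
    · rintro ⟨T, hT⟩ ⟨T', hT'⟩ h
      have h4 := mem_Tx.mp (Finset.mem_coe.mp hT)
      have h5 := mem_Tx.mp (Finset.mem_coe.mp hT')
      have h6 : T.map (QuotientGroup.mk' K) = T'.map (QuotientGroup.mk' K) := congrArg (fun z => z.1) h
      apply Subtype.ext
      have h7 := congrArg (fun z => Subgroup.comap (QuotientGroup.mk' K) z) h6
      simp only [Subgroup.comap_map_eq, QuotientGroup.ker_mk'] at h7
      rw [sup_eq_left.mpr (sup_le h4.2.2 h4.2.1), sup_eq_left.mpr (sup_le h5.2.2 h5.2.1)] at h7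
      exact h7
    · rintro ⟨L, hL⟩
      have hKL : K ≤ L.comap (QuotientGroup.mk' K) := by
        intro x hx
        rw [Subgroup.mem_comap]
        have : (QuotientGroup.mk' K) x = 1 := (QuotientGroup.eq_one_iff x).mpr hx
        rw [this]; exact one_mem _
      refine ⟨⟨L.comap (QuotientGroup.mk' K), ?_⟩, ?_⟩
      · rw [Finset.mem_coe, mem_Tx]
        refine ⟨?_, le_sup_right.trans hKL, le_sup_left.trans hKL⟩
        rw [Subgroup.index_comap_of_surjective _ (QuotientGroup.mk'_surjective K)]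
        have h6 := L.card_mul_index
        rw [hL, hQ, hcp, mul_comm (p ^ 2)] at h6
        exact Nat.eq_of_mul_eq_mul_left (pow_pos hp.out.pos _) h6
      · apply Subtype.ext
        exact Subgroup.map_comap_eq_self_of_surjective (QuotientGroup.mk'_surjective K) L
  rw [h3]
  exact h1

theorem key (hP : IsPGroup p P) {H : Subgroup P} (hH : H ≠ ⊤) :
    (Mx p H).card ≡ 1 + p * (Tx p H).card [MOD p ^ 2] := by
  classical
  by_cases h2 : p ^ 2 ∣ (H ⊔ frattini P).index
  · refine (mx_mod hP H (mx_two hP h2)).trans ?_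
    have h3 : p * (Tx p H).card ≡ p * 1 [MOD p * p] := Nat.ModEq.mul_left' p (tx_mod hP h2)
    rw [← pow_two, mul_one] at h3
    exact Nat.ModEq.add_left 1 h3.symm
  · -- index p
    obtain ⟨j, hj⟩ := hP.index (H ⊔ frattini P)
    have hj1 : j = 1 := by
      have h3 : j < 2 := by
        by_contra hcon
        exact h2 (by rw [hj]; exact pow_dvd_pow p (by omega))
      rcases Nat.eq_zero_or_pos j with h0 | h0
      · exfalso
        rw [h0, pow_zero, Subgroup.index_eq_one] at hj
        exact hH (frattini_nongenerating hj)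
      · omega
    rw [hj1, pow_one] at hj
    have hM : Mx p H = {H ⊔ frattini P} := by
      ext M
      rw [mem_Mx, Finset.mem_singleton]
      constructor
      · rintro ⟨h3, h4⟩
        have h5 : H ⊔ frattini P ≤ M := sup_le h4 (frattini_le hP h3)
        by_contra hne
        have := (isCoatom_of_index (p := p) hj).2 M (lt_of_le_of_ne h5 (Ne.symm hne))
        rw [this, index_top] at h3
        exact hp.out.ne_one h3.symm
      · rintro rfl
        exact ⟨hj, le_sup_left⟩
    have hT : Tx p H = ∅ := by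
      rw [Finset.eq_empty_iff_forall_notMem]
      intro T hT
      rw [mem_Tx] at hT
      have h5 : H ⊔ frattini P ≤ T := sup_le hT.2.2 hT.2.1
      have h6 := Subgroup.index_dvd_of_le h5
      rw [hT.1, hj] at h6
      have h7 := Nat.le_of_dvd hp.out.pos h6
      have := hp.out.two_le
      nlinarith
    rw [hM, hT]
    simp
    rfl

theorem frattini_index (hP : IsPGroup p P) (hnc : ¬ IsCyclic P) :
    p ^ 2 ∣ ((⊥ : Subgroup P) ⊔ frattini P).index := by
  rw [bot_sup_eq]
  obtain ⟨j, hj⟩ := hP.index (frattini P)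
  rw [hj]
  apply pow_dvd_pow
  by_contra hcon
  have h01 : j = 0 ∨ j = 1 := by omega
  apply hnc
  rcases h01 with h | h
  · rw [h, pow_zero, Subgroup.index_eq_one] at hj
    have h1 : (⊥ : Subgroup P) = ⊤ := frattini_nongenerating (by rw [hj]; simp)
    haveI : Subsingleton P := by
      rw [← Subgroup.subsingleton_iff]
      exact ⟨fun a b => by
        have ha : a = ⊤ := by rw [eq_top_iff, ← h1]; exact bot_le
        have hb : b = ⊤ := by rw [eq_top_iff, ← h1]; exact bot_le
        rw [ha, hb]⟩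
    infer_instance
  · rw [h, pow_one] at hj
    have hc := isCoatom_of_index (p := p) hj
    obtain ⟨g, hg⟩ : ∃ g, g ∉ frattini P := by
      by_contra hcon
      push Not at hcon
      exact hc.1 (eq_top_iff.mpr fun x _ => hcon x)
    have h1 : zpowers g ⊔ frattini P = ⊤ := by
      apply hc.2
      refine lt_of_le_of_ne le_sup_right ?_
      intro h
      apply hg
      rw [h]
      exact mem_sup_left (mem_zpowers g)
    have h2 := frattini_nongenerating h1
    exact ⟨g, fun x => by rw [← mem_zpowers_iff]; rw [h2]; trivial⟩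

/-- Hall's enumeration principle modulo `p ^ 2`. -/
theorem hall (hP : IsPGroup p P) {m : ℕ} (hm : Nat.card P = p ^ m) (hnc : ¬ IsCyclic P) {k : ℕ}
    (hk : k + 2 ≤ m) :
    ∑ M ∈ Mx p (⊥ : Subgroup P), (Sk p k M).card ≡ (Sk p k (⊤ : Subgroup P)).card + p
      [MOD p ^ 2] := by
  classical
  have e1 : ∑ M ∈ Mx p (⊥ : Subgroup P), (Sk p k M).card =
      ∑ H ∈ Sk p k (⊤ : Subgroup P), (Mx p H).card := by
    have h1 : ∀ M : Subgroup P, (Sk p k M).card = ∑ H ∈ Sk p k (⊤ : Subgroup P), if H ≤ M then 1 else 0 := by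
      intro M
      rw [← Finset.card_filter]
      congr 1
      ext H
      rw [Finset.mem_filter, mem_Sk, mem_Sk]
      exact ⟨fun h => ⟨⟨h.1, le_top⟩, h.2⟩, fun h => ⟨h.1.1, h.2⟩⟩
    have h2 : ∀ H : Subgroup P, (Mx p H).card = ∑ M ∈ Mx p (⊥ : Subgroup P), if H ≤ M then 1 else 0 := by
      intro H
      rw [← Finset.card_filter]
      congr 1
      ext M
      rw [Finset.mem_filter, mem_Mx, mem_Mx]
      exact ⟨fun h => ⟨⟨h.1, bot_le⟩, h.2⟩, fun h => ⟨h.1.1, h.2⟩⟩
    simp only [h1, h2]
    exact Finset.sum_comm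
  have e2 : ∑ T ∈ Tx p (⊥ : Subgroup P), (Sk p k T).card =
      ∑ H ∈ Sk p k (⊤ : Subgroup P), (Tx p H).card := by
    have h1 : ∀ M : Subgroup P, (Sk p k M).card = ∑ H ∈ Sk p k (⊤ : Subgroup P), if H ≤ M then 1 else 0 := by
      intro M
      rw [← Finset.card_filter]
      congr 1
      ext H
      rw [Finset.mem_filter, mem_Sk, mem_Sk]
      exact ⟨fun h => ⟨⟨h.1, le_top⟩, h.2⟩, fun h => ⟨h.1.1, h.2⟩⟩
    have h2 : ∀ H : Subgroup P, (Tx p H).card = ∑ M ∈ Tx p (⊥ : Subgroup P), if H ≤ M then 1 else 0 := by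
      intro H
      rw [← Finset.card_filter]
      congr 1
      ext M
      rw [Finset.mem_filter, mem_Tx, mem_Tx]
      exact ⟨fun h => ⟨⟨h.1, h.2.1, bot_le⟩, h.2.2⟩, fun h => ⟨h.1.1, h.1.2.1, h.2⟩⟩
    simp only [h1, h2]
    exact Finset.sum_comm
  rw [e1]
  have e3 : ∑ H ∈ Sk p k (⊤ : Subgroup P), (Mx p H).card ≡
      ∑ H ∈ Sk p k (⊤ : Subgroup P), (1 + p * (Tx p H).card) [MOD p ^ 2] := by
    apply Nat.ModEq.sum
    intro H hH
    apply key hP
    rintro rfl
    have h1 := (mem_Sk.mp hH).1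
    rw [Subgroup.card_top, hm] at h1
    have := Nat.pow_right_injective hp.out.two_le h1
    omega
  refine e3.trans ?_
  rw [Finset.sum_add_distrib, ← Finset.mul_sum, ← e2, Finset.sum_const, smul_eq_mul, mul_one]
  apply Nat.ModEq.add_left
  have e4 : ∑ T ∈ Tx p (⊥ : Subgroup P), (Sk p k T).card ≡ 1 [MOD p] := by
    have h1 : ∑ T ∈ Tx p (⊥ : Subgroup P), (Sk p k T).card ≡ ∑ T ∈ Tx p (⊥ : Subgroup P), 1 [MOD p] := by
      apply Nat.ModEq.sum
      intro T hT
      rw [card_Sk]
      apply Wielandt.card_modEq_one p k hp.out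
      have h2 := T.card_mul_index
      rw [(mem_Tx.mp hT).1, hm] at h2
      have h3 : Nat.card T = p ^ (m - 2) := by
        apply Nat.eq_of_mul_eq_mul_right (pow_pos hp.out.pos 2)
        rw [h2, ← pow_add]; congr 1; omega
      rw [h3]
      exact pow_dvd_pow p (by omega)
    refine h1.trans ?_
    rw [Finset.sum_const, smul_eq_mul, mul_one]
    exact tx_mod hP (frattini_index hP hnc)
  have e5 : p * ∑ T ∈ Tx p (⊥ : Subgroup P), (Sk p k T).card ≡ p * 1 [MOD p * p] :=
    Nat.ModEq.mul_left' p e4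
  rwa [← pow_two, mul_one] at e5

end hall

end Cfsg.Agent.H23.Kula
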