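import Cfsg.Agent.H23_Kula
import Cfsg.Agent.H2_MaxClass
import Cfsg.Agent.H2_Alperin

set_option autoImplicit false
set_option linter.style.haveILetI false

/-! H23_Kula2: p-groups with a cyclic maximal subgroup, and Kulakoff's theorem for odd `p`. -/

namespace Cfsg.Agent.H23.Kula

open Subgroup Finset
open Cfsg.Agent.H2.PGroup
open scoped commutatorElement

universe u

/-- arithmetic: odd `p` -/
theorem dvd_sub_one_odd {p : ℕ} (hp : p.Prime) (hp2 : p ≠ 2) {r : ℤ} {e : ℕ} (he : 1 ≤ e)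
    (h : (p : ℤ) ^ (e + 1) ∣ r ^ p - 1) : (p : ℤ) ^ e ∣ r - 1 := by
  haveI : Fact p.Prime := ⟨hp⟩
  have hpp : (p : ℤ) ∣ r ^ p - 1 := (dvd_pow_self (p : ℤ) (by omega)).trans h
  have h1 : (p : ℤ) ∣ r - 1 := by
    rw [← ZMod.intCast_zmod_eq_zero_iff_dvd] at hpp ⊢
    push_cast at hpp ⊢
    rwa [ZMod.pow_card] at hpp
  have h2 : ¬ (p : ℤ) ∣ r := by
    intro h3
    have h4 : (p : ℤ) ∣ 1 := by
      have := dvd_sub h3 h1
      simpa using this
    exact hp.one_lt.ne' (by exact_mod_cast Int.eq_one_of_dvd_one (by positivity) h4)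
  have h3 := Int.emultiplicity_pow_sub_pow (x := r) (y := 1) hp (hp.odd_of_ne_two hp2) h1 h2 p
  rw [one_pow] at h3
  have h4 : ((e + 1 : ℕ) : ℕ∞) ≤ emultiplicity (p : ℤ) (r ^ p - 1) :=
    pow_dvd_iff_le_emultiplicity.mp h
  have h5 : emultiplicity p p = 1 := hp.emultiplicity_self
  rw [h3, h5] at h4
  apply pow_dvd_iff_le_emultiplicity.mpr
  push_cast at h4
  exact (ENat.add_le_add_iff_right (by simp)).mp h4

section

variable {P : Type u} [Group P] [Finite P] {p : ℕ} [hp : Fact p.Prime]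

theorem index_zpowers {m : ℕ} (hm : Nat.card P = p ^ m) (hm1 : 1 ≤ m) {x : P}
    (hx : orderOf x = p ^ (m - 1)) : (zpowers x).index = p := by
  have h1 := (zpowers x).card_mul_index
  rw [Nat.card_zpowers, hx, hm] at h1
  apply Nat.eq_of_mul_eq_mul_left (pow_pos hp.out.pos (m - 1))
  rw [h1, ← pow_succ]
  congr 1; omega

theorem struct {m : ℕ} (hm : Nat.card P = p ^ m) (hm3 : 3 ≤ m) {x : P}
    (hx : orderOf x = p ^ (m - 1)) {g : P} (hg : g ∉ zpowers x) {r : ℤ}
    (hgx : g * x * g⁻¹ = x ^ r) (hr : (p : ℤ) ^ (m - 2) ∣ r - 1) :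
    ∀ a b : P, ⁅a, b⁆ ∈ center P ∧ ⁅a, b⁆ ^ p = 1 := by
  have hP : IsPGroup p P := IsPGroup.of_card hm
  have hi := index_zpowers hm (by omega) hx
  have hCn := normal_of_index_p hP hi
  obtain ⟨s, hs⟩ := hr
  set z : P := x ^ (p ^ (m - 2)) with hz
  have hzp : z ^ p = 1 := by
    rw [hz, ← pow_mul, ← pow_succ, show m - 2 + 1 = m - 1 by omega, ← hx]
    exact pow_orderOf_eq_one x
  have hgz : g * z * g⁻¹ = z := by
    rw [hz, ← conj_pow, hgx]
    have h1 : r = 1 + (p : ℤ) ^ (m - 2) * s := by linarith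
    rw [← zpow_natCast, ← zpow_mul, h1, add_mul, one_mul, zpow_add, zpow_natCast, ← hz]
    have h2 : x ^ ((p : ℤ) ^ (m - 2) * s * ((p ^ (m - 2) : ℕ) : ℤ)) = 1 := by
      have h3 : (p : ℤ) ^ (m - 2) * s * ((p ^ (m - 2) : ℕ) : ℤ) = ((p ^ (m - 1) : ℕ) : ℤ) * (s * (p : ℤ) ^ (m - 3)) := by
        push_cast
        have e1 : (p : ℤ) ^ (m - 2) = p * (p : ℤ) ^ (m - 3) := by
          rw [← pow_succ']; congr 1; omega
        have e2 : (p : ℤ) ^ (m - 1) = p * (p : ℤ) ^ (m - 2) := by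
          rw [← pow_succ']; congr 1; omega
        rw [e2]
        calc (p : ℤ) ^ (m - 2) * s * (p : ℤ) ^ (m - 2) = (p : ℤ) ^ (m - 2) * s * (p * (p : ℤ) ^ (m - 3)) := by rw [← e1]
          _ = _ := by ring
      rw [h3, zpow_mul, zpow_natCast, ← hx, pow_orderOf_eq_one, one_zpow]
    rw [h2, mul_one]
  have hzc : z ∈ center P := by
    refine H2.MaxClass.mem_center_of hi hg ?_ ?_
    · rintro c ⟨k, rfl⟩
      show x ^ k * z = z * x ^ k
      rw [hz, ← zpow_natCast, ← zpow_add, ← zpow_add, add_comm]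
    · calc g * z = (g * z * g⁻¹) * g := by group
        _ = z * g := by rw [hgz]
  set Z0 : Subgroup P := zpowers z with hZ0
  have hZ0c : Z0 ≤ center P := by rw [hZ0, zpowers_le]; exact hzc
  haveI hZn : Z0.Normal := ⟨fun h hh g => by
    have h1 := mem_center_iff.mp (hZ0c hh) g
    rw [h1, mul_inv_cancel_right]; exact hh⟩
  -- x̄ is central in P / Z0
  have hgx1 : g * x * g⁻¹ * x⁻¹ ∈ Z0 := by
    rw [hgx]
    have h1 : r = 1 + (p : ℤ) ^ (m - 2) * s := by linarith
    refine ⟨s, ?_⟩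
    show z ^ s = _
    rw [h1, zpow_add, zpow_one, hz, ← zpow_natCast, ← zpow_mul]
    push_cast
    have : x * x ^ ((p : ℤ) ^ (m - 2) * s) = x ^ ((p : ℤ) ^ (m - 2) * s) * x := by
      rw [← zpow_one_add, add_comm, zpow_add_one]
    rw [this]; group
  have hxcen : ∀ y : P, y * x * y⁻¹ * x⁻¹ ∈ Z0 := by
    let T : Subgroup P := (centralizer ({((x : P) : P ⧸ Z0)} : Set (P ⧸ Z0))).comap (QuotientGroup.mk' Z0)
    have hT : ∀ y, y ∈ T ↔ y * x * y⁻¹ * x⁻¹ ∈ Z0 := by
      intro y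
      rw [Subgroup.mem_comap, mem_centralizer_singleton_iff, ← QuotientGroup.eq_one_iff]
      show (y : P ⧸ Z0) * (x : P ⧸ Z0) = (x : P ⧸ Z0) * (y : P ⧸ Z0) ↔ _
      rw [QuotientGroup.mk_mul, QuotientGroup.mk_mul, QuotientGroup.mk_mul, QuotientGroup.mk_inv,
        QuotientGroup.mk_inv]
      constructor
      · intro h; rw [h]; group
      · intro h
        calc (y : P ⧸ Z0) * (x : P ⧸ Z0) = ((y : P ⧸ Z0) * x * (y : P ⧸ Z0)⁻¹ * (x : P ⧸ Z0)⁻¹) * x * y := by group
          _ = _ := by rw [h, one_mul]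
    have hTt : T = ⊤ := H2.MaxClass.top_of_mem hi hg (by
      rintro c ⟨k, rfl⟩
      rw [hT]
      show x ^ k * x * (x ^ k)⁻¹ * x⁻¹ ∈ Z0
      have : x ^ k * x * (x ^ k)⁻¹ * x⁻¹ = 1 := by group
      rw [this]; exact one_mem _) (by rw [hT]; exact hgx1)
    intro y
    rw [← hT, hTt]; trivial
  have hcomm : ∀ a b : P, ⁅a, b⁆ ∈ Z0 := by
    -- P/Z0 has center of index dividing p
    have hcc : ∀ u v : P ⧸ Z0, u * v = v * u := by
      have h1 : (zpowers x).map (QuotientGroup.mk' Z0) ≤ center (P ⧸ Z0) := by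
        rintro _ ⟨_, ⟨k, rfl⟩, rfl⟩
        show ((x ^ k : P) : P ⧸ Z0) ∈ center (P ⧸ Z0)
        rw [QuotientGroup.mk_zpow]
        apply Subgroup.zpow_mem
        rw [mem_center_iff]
        intro y
        obtain ⟨y, rfl⟩ := QuotientGroup.mk_surjective y
        have h2 := hxcen y
        rw [← QuotientGroup.eq_one_iff, QuotientGroup.mk_mul, QuotientGroup.mk_mul,
          QuotientGroup.mk_mul, QuotientGroup.mk_inv, QuotientGroup.mk_inv] at h2
        calc (y : P ⧸ Z0) * (x : P ⧸ Z0) = ((y : P ⧸ Z0) * x * (y : P ⧸ Z0)⁻¹ * (x : P ⧸ Z0)⁻¹) * x * y := by group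
          _ = _ := by rw [h2, one_mul]
      have h2 : (center (P ⧸ Z0)).index ∣ p := by
        refine (index_dvd_of_le h1).trans ?_
        rw [Subgroup.index_map, QuotientGroup.ker_mk',
          MonoidHom.range_eq_top.mpr (QuotientGroup.mk'_surjective Z0), index_top, mul_one]
        rw [← hi]
        exact index_dvd_of_le le_sup_left
      rcases (Nat.dvd_prime hp.out).mp h2 with h3 | h3
      · rw [Subgroup.index_eq_one] at h3
        intro u v
        have : v ∈ center (P ⧸ Z0) := by rw [h3]; trivial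
        exact mem_center_iff.mp this u
      · exact (H2.MaxClass.quot_not_prime (p := p) h3).elim
    intro a b
    rw [← QuotientGroup.eq_one_iff, commutatorElement_def]
    rw [QuotientGroup.mk_mul, QuotientGroup.mk_mul, QuotientGroup.mk_mul, QuotientGroup.mk_inv,
          QuotientGroup.mk_inv, hcc (a : P ⧸ Z0) b]
    group
  intro a b
  refine ⟨hZ0c (hcomm a b), ?_⟩
  obtain ⟨k, hk⟩ := hcomm a b
  have hk' : z ^ k = ⁅a, b⁆ := hk
  rw [← hk', ← zpow_natCast, ← zpow_mul, mul_comm, zpow_mul, zpow_natCast, hzp, one_zpow]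

theorem hom_pow {n : ℕ} (hA : ∀ a b : P, ⁅a, b⁆ ∈ center P ∧ ⁅a, b⁆ ^ p = 1)
    (hn : p ∣ (p ^ n).choose 2 ∨ ∀ a b : P, a * b = b * a) (a b : P) :
    (a * b) ^ (p ^ n) = a ^ (p ^ n) * b ^ (p ^ n) := by
  have h1 := mem_center_iff.mp (hA b a).1
  rw [H2.Alperin.mul_pow_local (x := a) (y := b) (h1 a) (h1 b)]
  have h2 : ⁅b, a⁆ ^ (p ^ n).choose 2 = 1 := by
    rcases hn with ⟨c, hc⟩ | hn
    · rw [hc, pow_mul, (hA b a).2, one_pow]
    · rw [commutatorElement_eq_one_iff_mul_comm.mpr (hn b a), one_pow]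
  rw [h2, mul_one]

theorem exp_of_not_cyclic {m : ℕ} (hm : Nat.card P = p ^ m) (hm1 : 1 ≤ m) (hnc : ¬ IsCyclic P) (g : P) :
    g ^ (p ^ (m - 1)) = 1 := by
  have h1 : orderOf g ∣ p ^ m := by rw [← hm]; exact orderOf_dvd_natCard g
  obtain ⟨j, hj, hj2⟩ := (Nat.dvd_prime_pow hp.out).mp h1
  have h2 : j ≠ m := by
    rintro rfl
    apply hnc
    exact isCyclic_of_orderOf_eq_card g (by rw [hj2, hm])
  rw [← orderOf_dvd_iff_pow_eq_one, hj2]
  exact pow_dvd_pow p (by omega)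

/-- all but one of the maximal subgroups are cyclic -/
theorem cyc_all {m : ℕ} (hm : Nat.card P = p ^ m) (hm3 : 3 ≤ m) (hnc : ¬ IsCyclic P) {x : P}
    (hx : orderOf x = p ^ (m - 1))
    (hhom : ∀ a b : P, (a * b) ^ (p ^ (m - 2)) = a ^ (p ^ (m - 2)) * b ^ (p ^ (m - 2))) :
    ∃ K ∈ Mx p (⊥ : Subgroup P), ∀ M ∈ Mx p (⊥ : Subgroup P), IsCyclic M ↔ M ≠ K := by
  have hP : IsPGroup p P := IsPGroup.of_card hm
  have hi := index_zpowers hm (by omega) hx
  have hCn := normal_of_index_p hP hi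
  let f : P →* P := { toFun := fun g => g ^ (p ^ (m - 2)), map_one' := one_pow _, map_mul' := hhom }
  have hf : ∀ g, f g = g ^ (p ^ (m - 2)) := fun g => rfl
  have hfC : ∀ g, f g ∈ zpowers x := by
    intro g
    rw [hf]
    have h1 : g ^ p ∈ zpowers x := by
      rw [← hi]
      exact Subgroup.pow_index_mem _ g
    have h2 : g ^ (p ^ (m - 2)) = (g ^ p) ^ (p ^ (m - 3)) := by
      rw [← pow_mul, ← pow_succ']; congr 2; omega
    rw [h2]
    exact Subgroup.pow_mem _ h1 _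
  have hfp : ∀ g, (f g) ^ p = 1 := by
    intro g
    rw [hf, ← pow_mul, ← pow_succ, show m - 2 + 1 = m - 1 by omega]
    exact exp_of_not_cyclic hm (by omega) hnc g
  have hfx : f x ≠ 1 := by
    rw [hf]
    intro h
    have h1 := orderOf_dvd_of_pow_eq_one h
    rw [hx] at h1
    have := (Nat.pow_dvd_pow_iff_le_right hp.out.one_lt).mp h1
    omega
  have hrange : Nat.card f.range = p := by
    have hle : f.range ≤ zpowers x := by
      rintro _ ⟨g, rfl⟩; exact hfC g
    haveI : IsCyclic (zpowers x) := inferInstance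
    haveI : IsCyclic f.range := by
      have := isCyclic_of_injective (Subgroup.inclusion hle) (Subgroup.inclusion_injective hle)
      exact this
    obtain ⟨c, hc⟩ := IsCyclic.exists_generator (α := f.range)
    have h1 : Nat.card f.range = orderOf c := (orderOf_eq_card_of_forall_mem_zpowers hc).symm
    have h2 : orderOf c ∣ p := by
      apply orderOf_dvd_of_pow_eq_one
      obtain ⟨g, hg⟩ := c.2
      apply Subtype.ext
      show (c : P) ^ p = 1
      rw [← hg]; exact hfp g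
    rw [h1]
    rcases (Nat.dvd_prime hp.out).mp h2 with h3 | h3
    · exfalso
      have h4 : c = 1 := orderOf_eq_one_iff.mp h3
      obtain ⟨k, hk⟩ := hc ⟨f x, ⟨x, rfl⟩⟩
      have hk' : c ^ k = (⟨f x, ⟨x, rfl⟩⟩ : f.range) := hk
      rw [h4, one_zpow] at hk'
      exact hfx (congrArg Subtype.val hk').symm
    · exact h3
  have hKi : f.ker.index = p := by rw [Subgroup.index_ker, hrange]
  refine ⟨f.ker, mem_Mx.mpr ⟨hKi, bot_le⟩, ?_⟩
  intro M hM
  have hMi := (mem_Mx.mp hM).1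
  have hMc : Nat.card M = p ^ (m - 1) := by
    have h1 := M.card_mul_index
    rw [hMi, hm] at h1
    apply Nat.eq_of_mul_eq_mul_right hp.out.pos
    rw [h1, ← pow_succ]; congr 1; omega
  constructor
  · rintro hc rfl
    obtain ⟨c, hc⟩ := hc.exists_generator
    have h1 : Nat.card f.ker = orderOf c := (orderOf_eq_card_of_forall_mem_zpowers hc).symm
    have h2 : c ^ (p ^ (m - 2)) = 1 := by
      apply Subtype.ext
      exact c.2
    have h3 := orderOf_dvd_of_pow_eq_one h2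
    rw [← h1, hMc] at h3
    have := (Nat.pow_dvd_pow_iff_le_right hp.out.one_lt).mp h3
    omega
  · intro hne
    -- there is g in M outside the kernel
    obtain ⟨g, hgM, hgK⟩ : ∃ g ∈ M, g ∉ f.ker := by
      by_contra hcon
      push Not at hcon
      have hle : M ≤ f.ker := fun g hg => hcon g hg
      have hc := isCoatom_of_index (p := p) hMi
      by_contra _
      have := hc.2 f.ker (lt_of_le_of_ne hle hne)
      rw [this, index_top] at hKi
      exact hp.out.ne_one hKi.symm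
    have h1 : orderOf g ∣ p ^ (m - 1) := orderOf_dvd_of_pow_eq_one (exp_of_not_cyclic hm (by omega) hnc g)
    obtain ⟨j, hj, hj2⟩ := (Nat.dvd_prime_pow hp.out).mp h1
    have h2 : j = m - 1 := by
      by_contra hjm
      apply hgK
      rw [MonoidHom.mem_ker, hf, ← orderOf_dvd_iff_pow_eq_one, hj2]
      exact pow_dvd_pow p (by omega)
    refine isCyclic_of_orderOf_eq_card (⟨g, hgM⟩ : M) ?_
    rw [Subgroup.orderOf_mk, hj2, h2, hMc]

/-- for odd `p` -/
theorem cyc_odd (hp2 : p ≠ 2) {m : ℕ} (hm : Nat.card P = p ^ m) (hm3 : 3 ≤ m) (hnc : ¬ IsCyclic P) :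
    (∀ M ∈ Mx p (⊥ : Subgroup P), ¬ IsCyclic M) ∨
    ∃ K ∈ Mx p (⊥ : Subgroup P), ∀ M ∈ Mx p (⊥ : Subgroup P), IsCyclic M ↔ M ≠ K := by
  have hP : IsPGroup p P := IsPGroup.of_card hm
  by_cases hex : ∀ M ∈ Mx p (⊥ : Subgroup P), ¬ IsCyclic M
  · left; exact hex
  right
  push Not at hex
  obtain ⟨M, hM, hMc⟩ := hex
  have hMi := (mem_Mx.mp hM).1
  obtain ⟨x, hx⟩ := hMc.exists_generator
  have hMcard : Nat.card M = p ^ (m - 1) := by
    have h1 := M.card_mul_index
    rw [hMi, hm] at h1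
    apply Nat.eq_of_mul_eq_mul_right hp.out.pos
    rw [h1, ← pow_succ]; congr 1; omega
  have hxo : orderOf (x : P) = p ^ (m - 1) := by
    rw [Subgroup.orderOf_coe, orderOf_eq_card_of_forall_mem_zpowers hx, hMcard]
  have hi := index_zpowers hm (by omega) hxo
  have hCn := normal_of_index_p hP hi
  obtain ⟨g, hg⟩ : ∃ g, g ∉ zpowers (x : P) := by
    by_contra hcon
    push Not at hcon
    have : zpowers (x : P) = ⊤ := eq_top_iff.mpr fun y _ => hcon y
    rw [this, index_top] at hi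
    exact hp.out.ne_one hi.symm
  obtain ⟨r, hr⟩ := hCn.conj_mem (x : P) (mem_zpowers _) g
  have hr' : g * (x : P) * g⁻¹ = (x : P) ^ r := hr.symm
  have hiter : ∀ k : ℕ, g ^ k * (x : P) * (g ^ k)⁻¹ = (x : P) ^ (r ^ k) := by
    intro k
    induction k with
    | zero => simp
    | succ k ih =>
      rw [pow_succ' g]
      calc g * g ^ k * (x : P) * (g * g ^ k)⁻¹ = g * (g ^ k * (x : P) * (g ^ k)⁻¹) * g⁻¹ := by group
        _ = g * (x : P) ^ (r ^ k) * g⁻¹ := by rw [ih]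
        _ = (g * (x : P) * g⁻¹) ^ (r ^ k) := by rw [conj_zpow]
        _ = _ := by rw [hr', ← zpow_mul, pow_succ']
  have hgp : g ^ p ∈ zpowers (x : P) := by
    have := Subgroup.pow_index_mem (zpowers (x : P)) g
    rwa [hi] at this
  obtain ⟨k, hk⟩ := hgp
  have hk' : (x : P) ^ k = g ^ p := hk
  have h1 : (x : P) ^ (r ^ p - 1) = 1 := by
    have h2 := hiter p
    rw [← hk'] at h2
    have h3 : (x : P) ^ k * (x : P) * ((x : P) ^ k)⁻¹ = x := by group
    rw [h3] at h2
    rw [zpow_sub_one, ← h2, mul_inv_cancel]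
  have h2 : (p : ℤ) ^ (m - 2 + 1) ∣ r ^ p - 1 := by
    have h3 := orderOf_dvd_iff_zpow_eq_one.mpr h1
    rw [hxo] at h3
    rw [show m - 2 + 1 = m - 1 by omega]
    exact_mod_cast h3
  have h3 := dvd_sub_one_odd hp.out hp2 (by omega) h2
  have hA := struct hm hm3 hxo hg hr' h3
  refine cyc_all hm hm3 hnc hxo (hom_pow hA (Or.inl ?_))
  exact (dvd_pow_self p (by omega)).trans (H2.Alperin.dvd_choose_of_odd hp.out hp2)

end

end Cfsg.Agent.H23.Kula
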