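import Cfsg.Agent.H23_Kula2

set_option autoImplicit false
set_option linter.style.haveILetI false

/-! H23_Kula3: Kulakoff's theorem for odd `p`. -/

namespace Cfsg.Agent.H23.Kula

open Subgroup Finset
open Cfsg.Agent.H2.PGroup

universe u

section

variable {P : Type u} [Group P] [Finite P] {p : ℕ} [hp : Fact p.Prime]

theorem card_Sk_top {k : ℕ} :
    (Sk p k (⊤ : Subgroup P)).card = Nat.card {H : Subgroup P // Nat.card H = p ^ k} := by
  classical
  haveI := Fintype.ofFinite (Subgroup P)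
  rw [Nat.card_eq_fintype_card, Fintype.card_subtype]
  congr 1
  ext H
  rw [mem_Sk]
  simp

theorem cyc_one (hc : IsCyclic P) {k : ℕ} (hk : p ^ k ∣ Nat.card P) :
    Nat.card {H : Subgroup P // Nat.card H = p ^ k} = 1 := by
  classical
  haveI := Fintype.ofFinite P
  rw [Nat.card_eq_one_iff_unique]
  have hset : ∀ H : Subgroup P, Nat.card H = p ^ k →
      (H : Set P) = ((Finset.univ.filter (fun a : P => a ^ (p ^ k) = 1) : Finset P) : Set P) := by
    intro H hH
    have hsub : (H : Set P).toFinset ⊆ Finset.univ.filter (fun a : P => a ^ (p ^ k) = 1) := by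
      intro a ha
      rw [Set.mem_toFinset] at ha
      rw [Finset.mem_filter]
      refine ⟨Finset.mem_univ _, ?_⟩
      rw [← hH]
      have : (⟨a, ha⟩ : H) ^ Nat.card H = 1 := pow_card_eq_one'
      exact congrArg Subtype.val this
    have heq := Finset.eq_of_subset_of_card_le hsub (by
      refine (IsCyclic.card_pow_eq_one_le (pow_pos hp.out.pos k)).trans ?_
      rw [Set.toFinset_card, ← Nat.card_eq_fintype_card]
      exact hH.ge)
    rw [← heq]
    simp
  refine ⟨⟨fun a b => Subtype.ext (SetLike.coe_injective ?_)⟩, ?_⟩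
  · rw [hset a.1 a.2, hset b.1 b.2]
  · obtain ⟨H, hH⟩ := Sylow.exists_subgroup_card_pow_prime p hk
    exact ⟨⟨H, hH⟩⟩

theorem mx_bot (hP : IsPGroup p P) (hnc : ¬ IsCyclic P) :
    (Mx p (⊥ : Subgroup P)).card ≡ 1 + p [MOD p ^ 2] :=
  mx_mod hP _ (mx_two hP (frattini_index hP hnc))

theorem Sk_coatom {m : ℕ} (hm : Nat.card P = p ^ m) (hm1 : 1 ≤ m) :
    Sk p (m - 1) (⊤ : Subgroup P) = Mx p (⊥ : Subgroup P) := by
  ext H
  rw [mem_Sk, mem_Mx]
  have h1 := H.card_mul_index
  rw [hm] at h1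
  have h2 : p ^ (m - 1) * p = p ^ m := by rw [← pow_succ]; congr 1; omega
  constructor
  · rintro ⟨h, -⟩
    refine ⟨?_, bot_le⟩
    rw [h, ← h2] at h1
    exact Nat.eq_of_mul_eq_mul_left (pow_pos hp.out.pos _) h1
  · rintro ⟨h, -⟩
    refine ⟨?_, le_top⟩
    rw [h, ← h2] at h1
    exact Nat.eq_of_mul_eq_mul_right hp.out.pos h1

theorem card_of_Mx {m : ℕ} (hm : Nat.card P = p ^ m) (hm1 : 1 ≤ m) {M : Subgroup P}
    (hM : M ∈ Mx p (⊥ : Subgroup P)) : Nat.card M = p ^ (m - 1) := by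
  have h1 := M.card_mul_index
  rw [(mem_Mx.mp hM).1, hm] at h1
  apply Nat.eq_of_mul_eq_mul_right hp.out.pos
  rw [h1, ← pow_succ]; congr 1; omega

/-- the sum in Hall's principle when all but one term is `1` -/
theorem sum_all (n : ℕ) (S : Finset (Subgroup P)) (f : Subgroup P → ℕ) (K : Subgroup P) (hK : K ∈ S)
    (hS : S.card ≡ 1 + p [MOD n]) (hf : ∀ M ∈ S, M ≠ K → f M ≡ 1 [MOD n]) :
    ∑ M ∈ S, f M ≡ f K + p [MOD n] := by
  classical
  rw [← Finset.add_sum_erase S f hK]
  apply Nat.ModEq.add_left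
  have h1 : ∑ M ∈ S.erase K, f M ≡ ∑ M ∈ S.erase K, 1 [MOD n] := by
    apply Nat.ModEq.sum
    intro M hM
    exact hf M (Finset.mem_of_mem_erase hM) (Finset.ne_of_mem_erase hM)
  refine h1.trans ?_
  rw [Finset.sum_const, smul_eq_mul, mul_one, Finset.card_erase_of_mem hK]
  have h2 : 1 ≤ S.card := Finset.card_pos.mpr ⟨K, hK⟩
  apply Nat.ModEq.add_left_cancel' 1
  rwa [Nat.add_sub_cancel' h2]

end

theorem kulakoff_odd {p : ℕ} [hp : Fact p.Prime] (hp2 : p ≠ 2) (m : ℕ) :
    ∀ (P : Type u) [Group P] [Finite P], Nat.card P = p ^ m → ¬ IsCyclic P →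
      ∀ k, 1 ≤ k → k < m → (Sk p k (⊤ : Subgroup P)).card ≡ 1 + p [MOD p ^ 2] := by
  classical
  induction m with
  | zero => intro P _ _ _ _ k h1 h2; omega
  | succ m ih =>
    intro P _ _ hP hnc k hk1 hk2
    have hpg : IsPGroup p P := IsPGroup.of_card hP
    by_cases hkm : k = m
    · subst hkm
      have := Sk_coatom (P := P) hP (by omega)
      rw [Nat.add_sub_cancel] at this
      rw [this]
      exact mx_bot hpg hnc
    have hk : k + 2 ≤ m + 1 := by omega
    have h1 := hall hpg hP hnc hk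
    have h2 := mx_bot hpg hnc
    have hterm1 : ∀ M ∈ Mx p (⊥ : Subgroup P), IsCyclic M → (Sk p k M).card = 1 := by
      intro M hM hMc
      rw [card_Sk]
      apply cyc_one hMc
      rw [card_of_Mx hP (by omega) hM]
      exact pow_dvd_pow p (by omega)
    have hterm2 : ∀ M ∈ Mx p (⊥ : Subgroup P), ¬ IsCyclic M → (Sk p k M).card ≡ 1 + p [MOD p ^ 2] := by
      intro M hM hMc
      rw [card_Sk, ← card_Sk_top]
      exact ih M (by rw [card_of_Mx hP (by omega) hM]; simp) hMc k hk1 (by omega)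
    have h3 : ∑ M ∈ Mx p (⊥ : Subgroup P), (Sk p k M).card ≡ (1 + p) + p [MOD p ^ 2] := by
      rcases cyc_odd hp2 hP (by omega) hnc with hA | ⟨K, hK, hA⟩
      · have e1 : ∑ M ∈ Mx p (⊥ : Subgroup P), (Sk p k M).card ≡ ∑ M ∈ Mx p (⊥ : Subgroup P), (1 + p) [MOD p ^ 2] :=
          Nat.ModEq.sum (fun M hM => hterm2 M hM (hA M hM))
        refine e1.trans ?_
        rw [Finset.sum_const, smul_eq_mul]
        refine (Nat.ModEq.mul_right _ h2).trans ?_
        have e2 : (1 + p) * (1 + p) = (1 + p) + p + p ^ 2 := by ring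
        rw [e2]
        show (1 + p + p + p ^ 2) % p ^ 2 = (1 + p + p) % p ^ 2
        rw [Nat.add_mod_right]
      · refine (sum_all (p ^ 2) (Mx p (⊥ : Subgroup P)) (fun M => (Sk p k M).card) K hK h2 ?_).trans ?_
        · intro M hM hne
          rw [hterm1 M hM ((hA M hM).mpr hne)]
        · exact Nat.ModEq.add_right p (hterm2 K hK (fun h => (hA K hK).mp h rfl))
    exact Nat.ModEq.add_right_cancel' p (h1.symm.trans h3)

end Cfsg.Agent.H23.Kula
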