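import Mathlib
import Cfsg.Agent.H24_Tools
import Cfsg.Agent.H1_Super4

/-!
Tools for "no finite group has exactly 22 Sylow 3-subgroups": counting with actions of p-groups.
-/

set_option autoImplicit false
set_option linter.all false

open MulAction Subgroup
open scoped Pointwise

namespace Cfsg.Agent.H23.N22

section gen

variable {G : Type*} [Group G] [Finite G] {Ω : Type*} [Finite Ω] [MulAction G Ω]

/-- counting fixed points of a p-group on an invariant set -/
theorem ncard_modEq {p : ℕ} [Fact p.Prime] {Q : Subgroup G} (hQ : IsPGroup p Q) (X : Set Ω)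
    (hX : ∀ x ∈ Q, ∀ ω ∈ X, x • ω ∈ X) :
    X.ncard ≡ {ω : Ω | ω ∈ X ∧ ∀ x ∈ Q, x • ω = ω}.ncard [MOD p] := by
  let S : SubMulAction Q Ω := ⟨X, fun x ω hω => hX x x.2 ω hω⟩
  have h := hQ.card_modEq_card_fixedPoints S
  have h1 : Nat.card S = X.ncard := rfl
  have h2 : Nat.card (fixedPoints Q S) = {ω : Ω | ω ∈ X ∧ ∀ x ∈ Q, x • ω = ω}.ncard := by
    rw [← Nat.card_coe_set_eq]
    refine Nat.card_congr ⟨fun y => ⟨y.1.1, y.1.2, fun x hx => ?_⟩, fun y => ⟨⟨y.1, y.2.1⟩, fun x => ?_⟩, ?_, ?_⟩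
    · exact congrArg Subtype.val (y.2 ⟨x, hx⟩)
    · exact Subtype.ext (y.2.2 x.1 x.2)
    · intro y; rfl
    · intro y; rfl
  rwa [h1, h2] at h

/-- an invariant set all of whose orbits have size `m` -/
theorem dvd_ncard {Q : Subgroup G} (m : ℕ) (X : Set Ω) (hX : ∀ x ∈ Q, ∀ ω ∈ X, x • ω ∈ X)
    (hm : ∀ ω ∈ X, (orbit Q ω).ncard = m) : m ∣ X.ncard := by
  classical
  haveI := Fintype.ofFinite Ω
  have e : X = ((Finset.univ.filter (· ∈ X) : Finset Ω) : Set Ω) := by ext; simp
  rw [e, Set.ncard_coe_finset]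
  rw [Finset.card_eq_sum_card_image (fun ω => orbit Q ω)]
  apply Finset.dvd_sum
  intro c hc
  obtain ⟨ω, hω, rfl⟩ := Finset.mem_image.1 hc
  simp only [Finset.mem_filter, Finset.mem_univ, true_and] at hω
  rw [← hm ω hω, ← Set.ncard_coe_finset]
  apply dvd_of_eq
  congr 1
  ext ω'
  simp only [Finset.coe_filter, Finset.mem_filter, Finset.mem_univ, true_and, Set.mem_setOf_eq]
  rw [MulAction.orbit_eq_iff]
  refine ⟨fun h => ⟨?_, h⟩, fun h => h.2⟩
  obtain ⟨x, rfl⟩ := h
  exact hX x.1 x.2 ω hω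

/-- an involution of a nonabelian simple group is an even permutation -/
theorem sign_mod4 [IsSimpleGroup G] (hnc : ∃ a b : G, a * b ≠ b * a) (t : G) (ht : t ^ 2 = 1) :
    Nat.card Ω ≡ {ω : Ω | t • ω = ω}.ncard [MOD 4] := by
  classical
  haveI := Fintype.ofFinite Ω
  let f : G →* ℤˣ := Equiv.Perm.sign.comp (toPermHom G Ω)
  have hk : f.ker = ⊤ := by
    rcases IsSimpleGroup.eq_bot_or_eq_top_of_normal f.ker inferInstance with h | h
    · exfalso
      obtain ⟨a, b, hab⟩ := hnc
      apply hab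
      apply (MonoidHom.ker_eq_bot_iff f).1 h
      rw [map_mul, map_mul, mul_comm]
    · exact h
  have h1 : Equiv.Perm.sign (toPermHom G Ω t) = 1 := by
    have : t ∈ f.ker := by rw [hk]; trivial
    exact this
  have h2 : (toPermHom G Ω t) ^ 2 = 1 := by rw [← map_pow, ht, map_one]
  have h3 := Equiv.Perm.sign_of_pow_two_eq_one h2
  have h4 := (toPermHom G Ω t).card_fixedPoints
  have h5 := Equiv.Perm.cycleType_of_pow_prime_eq_one (p := 2) h2
  have h6 : (toPermHom G Ω t).cycleType.sum = (toPermHom G Ω t).cycleType.card * 2 := by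
    rw [h5]; simp
  have h7 := (toPermHom G Ω t).sum_cycleType_le
  have h8 : Fintype.card (Function.fixedPoints (toPermHom G Ω t)) = {ω : Ω | t • ω = ω}.ncard := by
    rw [← Nat.card_coe_set_eq, ← Nat.card_eq_fintype_card]
    rfl
  rw [h1] at h3
  have h9 : Even ((Fintype.card Ω - Fintype.card (Function.fixedPoints (toPermHom G Ω t))) / 2) := by
    by_contra hodd
    rw [Nat.not_even_iff_odd] at hodd
    rw [hodd.neg_one_pow] at h3
    exact absurd h3 (by decide)
  obtain ⟨k, hk⟩ := h9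
  rw [Nat.card_eq_fintype_card, ← h8]
  have h10 : Fintype.card (Function.fixedPoints (toPermHom G Ω t)) ≤ Fintype.card Ω :=
    Fintype.card_subtype_le _
  unfold Nat.ModEq
  omega

end gen

section syl

variable {G : Type*} [Group G] [Finite G] [hp3 : Fact (Nat.Prime 3)]

theorem mem_smul {x y : G} {P : Sylow 3 G} : y ∈ (x • P : Sylow 3 G) ↔ x⁻¹ * y * x ∈ P := by
  have h := Cfsg.Agent.H24.Tools.mem_conj (g := x) (x := y) (H := (P : Subgroup G))
  exact h

theorem mem_of_smul {x : G} {P Q : Sylow 3 G} (hx : x ∈ P) (h : x • Q = Q) : x ∈ Q := by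
  have h1 := P.2.inf_normalizer_sylow Q
  have h2 : x ∈ (P : Subgroup G) ⊓ normalizer (Q : Set G) :=
    ⟨hx, Sylow.smul_eq_iff_mem_normalizer.1 h⟩
  rw [h1] at h2
  exact h2.2

theorem smul_of_mem {x : G} {Q : Sylow 3 G} (hx : x ∈ Q) : x • Q = Q :=
  Sylow.smul_eq_iff_mem_normalizer.2 (Subgroup.le_normalizer hx)

theorem card_eq (P Q : Sylow 3 G) : Nat.card P = Nat.card Q := Nat.card_congr (Sylow.equiv P Q).toEquiv

theorem le_iff {P Q : Sylow 3 G} : (P : Subgroup G) ≤ Q ↔ P = Q := by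
  refine ⟨fun h => ?_, fun h => by rw [h]⟩
  apply Sylow.ext
  exact Subgroup.eq_of_le_of_card_ge h (card_eq P Q).ge

theorem card_pow (P : Sylow 3 G) : ∃ n, Nat.card P = 3 ^ n := P.2.exists_card_eq

/-- two Sylow subgroups containing a common `D` of index 3 meet in `D` -/
theorem inf_eq {D : Subgroup G} {P Q : Sylow 3 G} (hP : D ≤ P) (hQ : D ≤ Q) (hne : P ≠ Q)
    (hD : Nat.card D * 3 = Nat.card P) : (P : Subgroup G) ⊓ Q = D := by
  have h1 : D ≤ (P : Subgroup G) ⊓ Q := le_inf hP hQ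
  obtain ⟨a, ha⟩ := Subgroup.card_dvd_of_le h1
  have h2 : Nat.card ((P : Subgroup G) ⊓ Q : Subgroup G) ∣ Nat.card P := Subgroup.card_dvd_of_le inf_le_left
  have hpos : 0 < Nat.card D := Nat.card_pos
  rw [ha, ← hD] at h2
  have h3 : a ∣ 3 := Nat.dvd_of_mul_dvd_mul_left hpos h2
  rcases (Nat.dvd_prime Nat.prime_three).1 h3 with h | h
  · subst h
    exact (Subgroup.eq_of_le_of_card_ge h1 (by omega)).symm
  · exfalso
    subst h
    apply hne
    rw [← le_iff, ← inf_eq_left]
    exact Subgroup.eq_of_le_of_card_ge inf_le_left (by rw [ha, hD])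

/-- `P` normalises its subgroups of index 3 -/
theorem conj_mem {D : Subgroup G} {P : Sylow 3 G} (hP : D ≤ P) (hD : Nat.card D * 3 = Nat.card P)
    {x y : G} (hx : x ∈ P) (hy : y ∈ D) : x * y * x⁻¹ ∈ D := by
  obtain ⟨n, hn⟩ := card_pow P
  have hn0 : n ≠ 0 := by
    rintro rfl
    omega
  have h1 : (D.subgroupOf (P : Subgroup G)).index = 3 := by
    have := Cfsg.Agent.H24.Tools.card_mul_relIndex hP
    have hpos : 0 < Nat.card D := Nat.card_pos
    have h2 : Nat.card D * D.relIndex (P : Subgroup G) = Nat.card D * 3 := by rw [this, hD]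
    exact Nat.eq_of_mul_eq_mul_left hpos h2
  have h2 : (D.subgroupOf (P : Subgroup G)).Normal := by
    apply Subgroup.normal_of_index_eq_minFac_card
    rw [h1]
    have : Nat.card (P : Subgroup G) = 3 ^ n := hn
    rw [this, Nat.prime_three.pow_minFac hn0]
  have h3 := h2.conj_mem ⟨y, hP hy⟩ (by exact hy) ⟨x, hx⟩
  exact h3

theorem card_smul_inf (x : G) (P Q : Sylow 3 G) :
    Nat.card (((x • P : Sylow 3 G) : Subgroup G) ⊓ (x • Q : Sylow 3 G) : Subgroup G) =
      Nat.card ((P : Subgroup G) ⊓ Q : Subgroup G) := by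
  rw [Sylow.coe_subgroup_smul, Sylow.coe_subgroup_smul, ← Subgroup.smul_inf]
  exact (Nat.card_congr (Subgroup.equivSMul (MulAut.conj x) ((P : Subgroup G) ⊓ Q)).toEquiv).symm

/-- neighbours -/
def NB (P : Sylow 3 G) : Set (Sylow 3 G) := {Q | P ≠ Q ∧ Nat.card ((P : Subgroup G) ⊓ Q : Subgroup G) * 3 = Nat.card P}

def FR (P : Sylow 3 G) : Set (Sylow 3 G) := {Q | P ≠ Q ∧ Nat.card ((P : Subgroup G) ⊓ Q : Subgroup G) * 9 = Nat.card P}

theorem NB_symm {P Q : Sylow 3 G} (h : Q ∈ NB P) : P ∈ NB Q := by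
  refine ⟨h.1.symm, ?_⟩
  rw [inf_comm, h.2, card_eq P Q]

theorem NB_smul (x : G) {P Q : Sylow 3 G} (h : Q ∈ NB P) : x • Q ∈ NB (x • P) := by
  refine ⟨fun h1 => h.1 (MulAction.injective x h1), ?_⟩
  rw [card_smul_inf, h.2]
  exact card_eq _ _

theorem FR_smul (x : G) {P Q : Sylow 3 G} (h : Q ∈ FR P) : x • Q ∈ FR (x • P) := by
  refine ⟨fun h1 => h.1 (MulAction.injective x h1), ?_⟩
  rw [card_smul_inf, h.2]
  exact card_eq _ _

theorem NB_card (P Q : Sylow 3 G) : (NB P).ncard = (NB Q).ncard := by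
  have key : ∀ P Q : Sylow 3 G, (NB P).ncard ≤ (NB Q).ncard := by
    intro P Q
    obtain ⟨x, rfl⟩ := MulAction.exists_smul_eq G P Q
    rw [← Set.ncard_image_of_injective (NB P) (MulAction.injective x)]
    apply Set.ncard_le_ncard _ (Set.toFinite _)
    rintro _ ⟨R, hR, rfl⟩
    exact NB_smul x hR
  exact le_antisymm (key P Q) (key Q P)

/-- size of an orbit of `P` -/
theorem orbit_mul (P Q : Sylow 3 G) :
    (orbit (P : Subgroup G) Q).ncard * Nat.card ((P : Subgroup G) ⊓ Q : Subgroup G) = Nat.card P := by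
  rw [← MulAction.index_stabilizer]
  have h1 : stabilizer (P : Subgroup G) Q = (Q : Subgroup G).subgroupOf P := by
    ext x
    rw [mem_stabilizer_iff, Subgroup.mem_subgroupOf]
    exact ⟨fun h => mem_of_smul x.2 h, fun h => smul_of_mem h⟩
  rw [h1]
  have h2 := Cfsg.Agent.H24.Tools.card_inf_mul_relIndex (Q : Subgroup G) (P : Subgroup G)
  rw [mul_comm, inf_comm]
  exact h2

/-- no triangles -/
theorem triangle {P Q R : Sylow 3 G} (h1 : Q ∈ NB P) (h2 : R ∈ NB Q) (h3 : R ∈ NB P) :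
    (P : Subgroup G) ⊓ Q ≤ R := by
  intro x hx
  by_contra hxR
  have hxR' : x • R ≠ R := fun h => hxR (mem_of_smul hx.1 h)
  have hcR2 : Nat.card ((Q : Subgroup G) ⊓ R : Subgroup G) * 3 = Nat.card R := by
    rw [h2.2, card_eq Q R]
  have hcR3 : Nat.card ((P : Subgroup G) ⊓ R : Subgroup G) * 3 = Nat.card R := by
    rw [h3.2, card_eq P R]
  have e2 : (R : Subgroup G) ⊓ (x • R : Sylow 3 G) = (Q : Subgroup G) ⊓ R := by
    refine inf_eq inf_le_right ?_ hxR'.symm hcR2
    intro y hy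
    apply mem_smul.2
    have := conj_mem (P := Q) inf_le_left h2.2 (inv_mem hx.2) hy
    rw [inv_inv] at this
    exact this.2
  have e3 : (R : Subgroup G) ⊓ (x • R : Sylow 3 G) = (P : Subgroup G) ⊓ R := by
    refine inf_eq inf_le_right ?_ hxR'.symm hcR3
    intro y hy
    apply mem_smul.2
    have := conj_mem (P := P) inf_le_left h3.2 (inv_mem hx.1) hy
    rw [inv_inv] at this
    exact this.2
  have e4 : (Q : Subgroup G) ⊓ R ≤ (P : Subgroup G) ⊓ Q := by
    refine le_inf ?_ inf_le_left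
    rw [← e2, e3]
    exact inf_le_left
  have e5 : (Q : Subgroup G) ⊓ R = (P : Subgroup G) ⊓ Q := by
    refine Subgroup.eq_of_le_of_card_ge e4 ?_
    have := h1.2
    have := h2.2
    have := card_eq P Q
    omega
  rw [← e5] at hx
  exact hxR hx.2

section c22

variable (h22 : Nat.card (Sylow 3 G) = 22)

include h22

theorem orbit_cases {P Q : Sylow 3 G} (hne : P ≠ Q) : Q ∈ NB P ∨ Q ∈ FR P := by
  have h1 := orbit_mul P Q
  obtain ⟨n, hn⟩ := card_pow P
  have h2 : (orbit (P : Subgroup G) Q).ncard ∣ 3 ^ n := by rw [← hn]; exact Dvd.intro _ h1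
  obtain ⟨k, hk, hk2⟩ := (Nat.dvd_prime_pow Nat.prime_three).1 h2
  have h3 : (orbit (P : Subgroup G) Q).ncard ≤ 22 := by
    rw [← h22, ← Set.ncard_univ]
    exact Set.ncard_le_ncard (Set.subset_univ _) (Set.toFinite _)
  have h4 : (orbit (P : Subgroup G) Q).ncard ≠ 1 := by
    intro h
    rw [h, one_mul] at h1
    apply hne
    rw [← le_iff, ← inf_eq_left]
    exact Subgroup.eq_of_le_of_card_ge inf_le_left h1.ge
  have hk3 : k < 3 := by
    by_contra hc
    have : 3 ^ 3 ≤ 3 ^ k := Nat.pow_le_pow_right (by norm_num) (by omega)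
    omega
  interval_cases k
  · omega
  · left
    refine ⟨hne, ?_⟩
    rw [← h1, hk2, pow_one, mul_comm]
  · right
    refine ⟨hne, ?_⟩
    rw [← h1, hk2, mul_comm]
    norm_num

omit h22 in
theorem NB_orbit {P Q : Sylow 3 G} (h : Q ∈ NB P) : (orbit (P : Subgroup G) Q).ncard = 3 := by
  have h1 := orbit_mul P Q
  rw [← h.2, mul_comm] at h1
  exact Nat.eq_of_mul_eq_mul_left Nat.card_pos h1

omit h22 in
theorem FR_orbit {P Q : Sylow 3 G} (h : Q ∈ FR P) : (orbit (P : Subgroup G) Q).ncard = 9 := by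
  have h1 := orbit_mul P Q
  rw [← h.2, mul_comm] at h1
  exact Nat.eq_of_mul_eq_mul_left Nat.card_pos h1

theorem counts (P : Sylow 3 G) : 3 ∣ (NB P).ncard ∧ 9 ∣ (FR P).ncard ∧ (NB P).ncard + (FR P).ncard = 21 := by
  refine ⟨?_, ?_, ?_⟩
  · refine dvd_ncard (Q := (P : Subgroup G)) 3 (NB P) ?_ fun Q hQ => NB_orbit hQ
    intro x hx Q hQ
    have := NB_smul x hQ
    rwa [smul_of_mem hx] at this
  · refine dvd_ncard (Q := (P : Subgroup G)) 9 (FR P) ?_ fun Q hQ => FR_orbit hQ
    intro x hx Q hQ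
    have := FR_smul x hQ
    rwa [smul_of_mem hx] at this
  · have h1 : (NB P ∪ FR P) = {P}ᶜ := by
      ext Q
      rw [Set.mem_union, Set.mem_compl_iff, Set.mem_singleton_iff]
      constructor
      · rintro (h | h) rfl
        · exact h.1 rfl
        · exact h.1 rfl
      · intro h
        exact orbit_cases h22 (Ne.symm h)
    have h2 : Disjoint (NB P) (FR P) := by
      rw [Set.disjoint_left]
      rintro Q ⟨_, hq1⟩ ⟨_, hq2⟩
      have : 0 < Nat.card ((P : Subgroup G) ⊓ Q : Subgroup G) := Nat.card_pos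
      omega
    rw [← Set.ncard_union_eq h2 (Set.toFinite _) (Set.toFinite _), h1, Set.ncard_compl, Set.ncard_singleton, h22]

/-- the lines are the sets `{P} ∪ NB P` -/
theorem line_eq {P Q : Sylow 3 G} (h : Q ∈ NB P) {R : Sylow 3 G} (hR : R ∈ NB P) :
    (P : Subgroup G) ⊓ Q ≤ R := by
  classical
  haveI := Fintype.ofFinite (Sylow 3 G)
  set D := (P : Subgroup G) ⊓ Q with hDdef
  have hc : Nat.card D * 3 = Nat.card P := h.2
  set l : Set (Sylow 3 G) := {R | D ≤ R} with hl
  have hPl : P ∈ l := by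
    show D ≤ (P : Subgroup G)
    exact inf_le_left
  have hQl : Q ∈ l := by
    show D ≤ (Q : Subgroup G)
    exact inf_le_right
  -- points of the line
  have hln : ∀ R ∈ l, ∀ S ∈ l, R ≠ S → (R : Subgroup G) ⊓ S = D := fun R hR S hS hne =>
    inf_eq hR hS hne (by rw [hc, card_eq])
  have hlnb : ∀ R ∈ l, ∀ S ∈ l, R ≠ S → S ∈ NB R := fun R hR S hS hne =>
    ⟨hne, by rw [hln R hR S hS hne, hc]; exact card_eq _ _⟩
  have htri : ∀ R ∈ l, ∀ S ∈ l, R ≠ S → ∀ T : Sylow 3 G, T ∈ NB R → T ∈ NB S → T ∈ l := by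
    intro R hR S hS hne T hT1 hT2
    have := triangle (hlnb R hR S hS hne) hT2 hT1
    rw [hln R hR S hS hne] at this
    exact this
  -- cardinality
  have hmod : l.ncard ≡ 1 [MOD 3] := by
    have hD : IsPGroup 3 D := P.2.to_le inf_le_left
    have h1 := ncard_modEq hD (Set.univ : Set (Sylow 3 G)) (fun _ _ _ _ => trivial)
    rw [Set.ncard_univ, h22] at h1
    have h2 : {ω : Sylow 3 G | ω ∈ Set.univ ∧ ∀ x ∈ D, x • ω = ω} = l := by
      ext S
      constructor
      · rintro ⟨_, h2⟩ x hx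
        exact mem_of_smul (P := P) (inf_le_left (a := (P : Subgroup G)) (b := Q) hx) (h2 x hx)
      · intro hS
        exact ⟨trivial, fun x hx => smul_of_mem (hS hx)⟩
    rw [h2] at h1
    exact h1.symm
  obtain ⟨hc1, hc2, hc3⟩ := counts h22 P
  -- κ = |l| - 1
  have hκ : ∀ R ∈ l, (l \ {R}).ncard + 1 = l.ncard := fun R hR => Set.ncard_diff_singleton_add_one hR (Set.toFinite _)
  have hsub : ∀ R ∈ l, l \ {R} ⊆ NB R := fun R hR S hS => hlnb R hR S hS.1 (fun h => hS.2 h.symm)
  have hS : ∀ R ∈ l, (NB R \ l).ncard + (l \ {R}).ncard = (NB P).ncard := by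
    intro R hR
    have h1 : (NB R \ l).ncard + (NB R ∩ l).ncard = (NB R).ncard := by
      rw [add_comm]; exact Set.ncard_inter_add_ncard_diff_eq_ncard _ _ (Set.toFinite _)
    have h2 : NB R ∩ l = l \ {R} := by
      ext S
      constructor
      · rintro ⟨h1, h2⟩
        exact ⟨h2, fun h => h1.1 h.symm⟩
      · intro h
        exact ⟨hsub R hR h, h.1⟩
    rw [← h2, h1]
    exact NB_card _ _
  -- disjoint subsets of FR P
  have hsubF : ∀ R ∈ l \ {P}, NB R \ l ⊆ FR P := by
    rintro R ⟨hR, hRP⟩ T ⟨hT, hTl⟩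
    have hPT : P ≠ T := by rintro rfl; exact hTl hPl
    rcases orbit_cases h22 hPT with h | h
    · exact absurd (htri P hPl R hR (fun h => hRP h.symm) T h hT) hTl
    · exact h
  have hcount : (l \ {P}).ncard * (NB Q \ l).ncard ≤ (FR P).ncard := by
    have h1 : (l \ {P}).ncard = (l \ {P}).toFinset.card := Set.ncard_eq_toFinset_card' _
    have h2 : (Finset.biUnion (l \ {P}).toFinset (fun R => (NB R \ l).toFinset)).card =
        ∑ R ∈ (l \ {P}).toFinset, (NB R \ l).toFinset.card := by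
      apply Finset.card_biUnion
      intro R hR S hS hne
      rw [Finset.mem_coe, Set.mem_toFinset] at hR hS
      show Disjoint (NB R \ l).toFinset (NB S \ l).toFinset
      rw [Finset.disjoint_left]
      intro T hT1 hT2
      rw [Set.mem_toFinset] at hT1 hT2
      exact hT1.2 (htri R hR.1 S hS.1 hne T hT1.1 hT2.1)
    have h3 : ∀ R ∈ (l \ {P}).toFinset, (NB R \ l).toFinset.card = (NB Q \ l).ncard := by
      intro R hR
      rw [Set.mem_toFinset] at hR
      rw [← Set.ncard_eq_toFinset_card']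
      have e1 := hS R hR.1
      have e2 := hS Q hQl
      have e3 := hκ R hR.1
      have e4 := hκ Q hQl
      omega
    rw [Finset.sum_congr rfl h3, Finset.sum_const, smul_eq_mul, ← h1] at h2
    rw [← h2, Set.ncard_eq_toFinset_card' (FR P)]
    apply Finset.card_le_card
    intro T hT
    obtain ⟨R, hR, hT⟩ := Finset.mem_biUnion.1 hT
    rw [Set.mem_toFinset] at hR hT ⊢
    exact hsubF R hR hT
  -- arithmetic
  have e1 := hS Q hQl
  have e2 := hκ Q hQl
  have e3 := hκ P hPl
  have e4 : 2 ≤ l.ncard := by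
    have : ({P, Q} : Set (Sylow 3 G)) ⊆ l := by
      rintro x (rfl | rfl)
      · exact hPl
      · exact hQl
    have h2 := Set.ncard_le_ncard this (Set.toFinite _)
    rwa [Set.ncard_pair h.1] at h2
  have e5 : (NB Q \ l).ncard = 0 := by
    unfold Nat.ModEq at hmod
    obtain ⟨a, ha⟩ := hc1
    obtain ⟨b, hb⟩ := hc2
    set κ := (l \ {P}).ncard with hκd
    set m := (NB Q \ l).ncard with hm
    have e6 : κ % 3 = 0 := by omega
    have hb2 : b < 3 := by omega
    have hκ22 : κ ≤ 21 := by omega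
    have hmn : m + κ = (NB P).ncard := by omega
    rw [hb] at hcount hc3
    have hm3 : m % 3 = 0 := by omega
    clear_value κ m
    by_contra hne
    have h1 : 3 ≤ m := by omega
    have h2 : 3 ≤ κ := by omega
    have h5 : m + κ = 21 - 9 * b := by omega
    have h6 : κ * m ≤ 9 * b := hcount
    interval_cases b
    · nlinarith
    · have : m = 12 - κ := by omega
      subst this
      interval_cases κ <;> omega
    · omega
  have e6 : (NB P \ l).ncard = 0 := by
    have := hS P hPl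
    omega
  rw [Set.ncard_eq_zero (Set.toFinite _)] at e6
  by_contra hRl
  have : R ∈ NB P \ l := ⟨hR, hRl⟩
  rw [e6] at this
  exact this

/-- `N_G(P)` is maximal -/
theorem eq_top_of_normalizer_le {P : Sylow 3 G} {M : Subgroup G} (h1 : normalizer (P : Set G) ≤ M)
    {x : G} (hx : x ∈ M) (hx2 : x • P ≠ P) : M = ⊤ := by
  have h2 : M.index ≡ 1 [MOD 3] := Cfsg.Agent.H1.Super4.index_modEq_one P h1
  have h3 : (normalizer (P : Set G)).index = 22 := by
    rw [← h22]; exact (Sylow.card_eq_index_normalizer P).symm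
  have h4 : M.index ∣ 22 := h3 ▸ Subgroup.index_dvd_of_le h1
  have h5 : M.index ≤ 22 := Nat.le_of_dvd (by norm_num) h4
  have h6 : M.index = 1 ∨ M.index = 22 := by
    unfold Nat.ModEq at h2
    generalize M.index = k at *
    interval_cases k <;> first | omega | (exfalso; revert h4; decide)
  rcases h6 with h6 | h6
  · exact Subgroup.index_eq_one.1 h6
  · exfalso
    have h7 := Subgroup.relIndex_mul_index h1
    rw [h6, h3] at h7
    have h8 : (normalizer (P : Set G)).relIndex M = 1 := by omega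
    have h9 : M ≤ normalizer (P : Set G) := Subgroup.relIndex_eq_one.1 h8
    exact hx2 (Sylow.smul_eq_iff_mem_normalizer.2 (h9 hx))

theorem card_three [IsSimpleGroup G] (P : Sylow 3 G) : Nat.card P = 3 := by
  obtain ⟨hc1, hc2, hc3⟩ := counts h22 P
  have hne : (NB P).Nonempty := by
    rw [← Set.ncard_pos (Set.toFinite _)]
    omega
  obtain ⟨Q, hQ⟩ := hne
  set D := (P : Subgroup G) ⊓ Q with hD
  have hc : Nat.card D * 3 = Nat.card P := hQ.2
  have hM : normalizer (P : Set G) ≤ normalizer (D : Set G) := by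
    intro g hg
    have hg1 : g • P = P := Sylow.smul_eq_iff_mem_normalizer.2 hg
    have hg2 : g • Q ∈ NB P := by
      have := NB_smul g hQ
      rwa [hg1] at this
    apply Cfsg.Agent.H24.Tools.mem_normalizer
    intro y hy
    have h1 := line_eq h22 hQ hg2
    have h2 : D ≤ (P : Subgroup G) ⊓ (g • Q : Sylow 3 G) := le_inf inf_le_left h1
    have h3 : (P : Subgroup G) ⊓ (g • Q : Sylow 3 G) = D := inf_eq inf_le_left h1 hg2.1 hc
    rw [← h3]
    refine ⟨?_, ?_⟩
    · have : g * y * g⁻¹ ∈ (g • P : Sylow 3 G) := by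
        rw [mem_smul]
        have e : g⁻¹ * (g * y * g⁻¹) * g = y := by group
        rw [e]; exact hy.1
      rw [hg1] at this
      exact this
    · show g * y * g⁻¹ ∈ (g • Q : Sylow 3 G)
      rw [mem_smul]
      have e : g⁻¹ * (g * y * g⁻¹) * g = y := by group
      rw [e]; exact hy.2
  have hQM : (Q : Subgroup G) ≤ normalizer (D : Set G) := by
    intro x hx
    apply Cfsg.Agent.H24.Tools.mem_normalizer
    intro y hy
    exact conj_mem (P := Q) inf_le_right (by rw [hc]; exact card_eq _ _) hx hy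
  have hxx : ∃ x ∈ (Q : Subgroup G), x • P ≠ P := by
    by_contra hcon
    push Not at hcon
    apply hQ.1
    symm
    rw [← le_iff]
    intro x hx
    exact mem_of_smul hx (hcon x hx)
  obtain ⟨x, hx, hx2⟩ := hxx
  have htop := eq_top_of_normalizer_le h22 hM (hQM hx) hx2
  have hn : D.Normal := normalizer_eq_top_iff.1 htop
  rcases IsSimpleGroup.eq_bot_or_eq_top_of_normal D hn with h | h
  · rw [h, Subgroup.card_bot] at hc
    omega
  · exfalso
    apply hQ.1
    rw [← le_iff]
    intro y hy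
    have : y ∈ D := by rw [h]; trivial
    exact this.2

end c22

end syl

end Cfsg.Agent.H23.N22
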