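import Mathlib
import Cfsg.Agent.H23_ClassSize2
import Cfsg.Agent.H2_Card
import Cfsg.Agent.H2_Fusion3
import Cfsg.Agent.H1_Coprime2

set_option autoImplicit false

open Cfsg Subgroup
open scoped Pointwise

namespace Cfsg.Agent.H23.Regular

open Cfsg.Agent.H23.ClassSize

variable {G : Type*} [Group G]

/-- class size = index of centralizer -/
theorem ncard_carrier [Finite G] (x : G) :
    (ConjClasses.mk x).carrier.ncard = (centralizer ({x} : Set G)).index := by
  have h1 : (MulAction.stabilizer (ConjAct G) x).index = (MulAction.orbit (ConjAct G) x).ncard :=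
    MulAction.index_stabilizer (ConjAct G) x
  rw [ConjAct.orbit_eq_carrier_conjClasses] at h1
  rw [← h1, ConjAct.stabilizer_eq_centralizer]
  rfl

/-- If `p` divides no class size of `p`-regular elements then the Sylow `p`-subgroup is normal and
centralized by all `p'`-elements. -/
theorem sup_centralizer_eq_top [Finite G] {p : ℕ} [hp : Fact p.Prime]
    (h : ∀ x : G, (orderOf x).Coprime p → ¬ p ∣ (centralizer ({x} : Set G)).index) (P : Sylow p G) :
    (P : Subgroup G) ⊔ centralizer (P : Set G) = ⊤ := by
  by_contra hne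
  obtain ⟨x, hx⟩ := exists_forall_conj_notMem _ hne
  obtain ⟨a, ha, b, hb, hab, -, ⟨k, hk⟩, hbo⟩ := H2.Basic.exists_p_decomp p x
  obtain ⟨Q, hQ⟩ := exists_sylow_centralizes b (h b hbo)
  have hQC : (Q : Subgroup G) ≤ centralizer ({b} : Set G) := by
    intro y hy; rw [mem_centralizer_singleton_iff]; exact hQ y hy
  have hab' : a * b = b * a := by
    obtain ⟨i, rfl⟩ := mem_zpowers_iff.1 ha
    obtain ⟨j, rfl⟩ := mem_zpowers_iff.1 hb
    exact ((Commute.refl x).zpow_zpow i j)
  have haC : zpowers a ≤ centralizer ({b} : Set G) := by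
    rw [zpowers_le, mem_centralizer_singleton_iff]; exact hab'
  obtain ⟨c, hc, S, hQS, hS⟩ := H2.Basic.exists_conj_common_sylow (p := p) (centralizer ({b} : Set G)) Q (zpowers a)
    Q.isPGroup' (IsPGroup.of_card (n := k) (by rw [Nat.card_zpowers, hk])) hQC haC
  have hSQ : S = Q := by
    apply Sylow.ext
    exact (Q.is_maximal' S.isPGroup' hQS)
  subst hSQ
  have hca : c * a * c⁻¹ ∈ S := hS a (mem_zpowers a)
  have hcb : c * b * c⁻¹ = b := by
    rw [mem_centralizer_singleton_iff] at hc
    rw [hc]; group
  have hxS : c * x * c⁻¹ ∈ (S : Subgroup G) ⊔ centralizer (S : Set G) := by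
    have : c * x * c⁻¹ = (c * a * c⁻¹) * b := by
      rw [← hab]
      calc c * (a * b) * c⁻¹ = (c * a * c⁻¹) * (c * b * c⁻¹) := by group
        _ = _ := by rw [hcb]
    rw [this]
    apply mul_mem_sup hca
    rw [mem_centralizer_iff]
    exact hQ
  obtain ⟨g, hg⟩ := MulAction.exists_smul_eq G P S
  apply hx (c⁻¹ * g)
  have h2 : ∀ y, y ∈ (S : Subgroup G) ⊔ centralizer (S : Set G) → g⁻¹ * y * g ∈ (P : Subgroup G) ⊔ centralizer (P : Set G) := by
    intro y hy
    have hle : (S : Subgroup G) ⊔ centralizer (S : Set G) ≤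
        ((P : Subgroup G) ⊔ centralizer (P : Set G)).comap (MulAut.conj g⁻¹).toMonoidHom := by
      apply sup_le
      · intro y hy
        rw [mem_comap]
        apply mem_sup_left
        have := hy
        rw [← hg] at this
        have h3 : g⁻¹ * y * g ∈ (P : Subgroup G) := (H2.Basic.mem_smul_sylow P g y).1 this
        simpa using h3
      · intro y hy
        rw [mem_comap]
        apply mem_sup_right
        simp only [MulEquiv.toMonoidHom_eq_coe, MonoidHom.coe_coe, MulAut.conj_apply, inv_inv]
        rw [mem_centralizer_iff] at hy ⊢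
        intro z hz
        have h3 : g * z * g⁻¹ ∈ S := by
          rw [← hg, H2.Basic.mem_smul_sylow]
          have : g⁻¹ * (g * z * g⁻¹) * g = z := by group
          rw [this]; exact hz
        have h4 := hy _ h3
        calc z * (g⁻¹ * y * g) = g⁻¹ * (g * z * g⁻¹ * y) * g := by group
          _ = g⁻¹ * (y * (g * z * g⁻¹)) * g := by rw [h4]
          _ = g⁻¹ * y * g * z := by group
    have := hle hy
    rw [mem_comap] at this
    simpa using this
  have h3 := h2 _ hxS
  have h4 : (c⁻¹ * g)⁻¹ * x * (c⁻¹ * g) = g⁻¹ * (c * x * c⁻¹) * g := by group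
  rw [h4]; exact h3

theorem regular_direct [Finite G] {p : ℕ} [hp : Fact p.Prime]
    (h : ∀ x : G, (orderOf x).Coprime p → ¬ p ∣ (centralizer ({x} : Set G)).index) (P : Sylow p G) :
    (P : Subgroup G).Normal ∧ (∀ x : G, (orderOf x).Coprime p → ∀ y ∈ P, x * y = y * x) ∧
      HasNormalPComplement p G := by
  have htop := sup_centralizer_eq_top h P
  have hPn : (P : Subgroup G).Normal := by
    rw [← normalizer_eq_top_iff, eq_top_iff, ← htop]
    exact sup_le le_normalizer (centralizer_le_normalizer _)
  have hCn : (centralizer (P : Set G)).Normal := by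
    have : (centralizer ((P : Subgroup G) : Set G)).Normal := inferInstance
    exact this
  have hreg : ∀ x : G, (orderOf x).Coprime p → ∀ y ∈ P, x * y = y * x := by
    intro x hx
    have h1 : x ∈ centralizer (P : Set G) := by
      rw [← QuotientGroup.eq_one_iff, ← orderOf_eq_one_iff]
      have h2 : (x : G ⧸ centralizer (P : Set G)) ∈ (P : Subgroup G).map (QuotientGroup.mk' (centralizer (P : Set G))) := by
        have h3 : (⊤ : Subgroup G).map (QuotientGroup.mk' (centralizer (P : Set G))) =
            (P : Subgroup G).map (QuotientGroup.mk' (centralizer (P : Set G))) := by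
          rw [← htop, Subgroup.map_sup]
          have : (centralizer (P : Set G)).map (QuotientGroup.mk' (centralizer (P : Set G))) = ⊥ := by
            rw [Subgroup.map_eq_bot_iff, QuotientGroup.ker_mk']
          rw [this, sup_bot_eq]
        rw [← h3]
        exact ⟨x, trivial, rfl⟩
      obtain ⟨u, hu, hux⟩ := h2
      obtain ⟨k, hk⟩ := (IsPGroup.iff_orderOf.1 P.isPGroup') ⟨u, hu⟩
      rw [Subgroup.orderOf_mk] at hk
      have h4 : orderOf (x : G ⧸ centralizer (P : Set G)) ∣ orderOf x :=
        orderOf_map_dvd (QuotientGroup.mk' (centralizer (P : Set G))) x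
      have h5 : orderOf (x : G ⧸ centralizer (P : Set G)) ∣ p ^ k := by
        have := orderOf_map_dvd (QuotientGroup.mk' (centralizer (P : Set G))) u
        rw [hux, hk] at this
        exact this
      exact Nat.eq_one_of_dvd_coprimes (Nat.Coprime.pow_right k hx) h4 h5
    intro y hy
    exact (mem_centralizer_iff.1 h1 y hy).symm
  refine ⟨hPn, hreg, ?_⟩
  apply H2.Fusion3.npc_of_frobenius_sylow P
  intro Q hQ g _ hgp
  rw [mem_centralizer_iff]
  intro q hq
  exact (hreg g hgp q (hQ hq)).symm

end Cfsg.Agent.H23.Regular
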