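import Mathlib
import Cfsg.Agent.H23_Regular
import Cfsg.Agent.H24_Tools

set_option autoImplicit false

open Cfsg Subgroup
open scoped Pointwise

namespace Cfsg.Agent.H23.PClass

open Cfsg.Agent.H23.ClassSize

variable {G : Type*} [Group G]

/-- If the class size of `x` is a power of `p` then `G = P C(x)` for every Sylow `p`-subgroup `P`. -/
theorem exists_mul_of_index_pow [Finite G] {p : ℕ} [hp : Fact p.Prime] (x : G) {a : ℕ}
    (hx : (centralizer ({x} : Set G)).index = p ^ a) (P : Sylow p G) (g : G) :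
    ∃ u ∈ P, ∃ c, c * x = x * c ∧ g = u * c := by
  have h1 : (centralizer ({x} : Set G)).index ≤ (centralizer ({x} : Set G)).relIndex (P : Subgroup G) := by
    have h2 := H24.Tools.card_inf_mul_relIndex (centralizer ({x} : Set G)) (P : Subgroup G)
    have h3 := (centralizer ({x} : Set G)).card_mul_index
    have h4 : Nat.card (centralizer ({x} : Set G) ⊓ (P : Subgroup G) : Subgroup G) ∣
        p ^ (Nat.card (centralizer ({x} : Set G))).factorization p := by
      have h5 : Nat.card (centralizer ({x} : Set G) ⊓ (P : Subgroup G) : Subgroup G) ∣ Nat.card (centralizer ({x} : Set G)) :=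
        card_dvd_of_le inf_le_left
      have h6 : Nat.card (centralizer ({x} : Set G) ⊓ (P : Subgroup G) : Subgroup G) ∣ Nat.card P :=
        card_dvd_of_le inf_le_right
      obtain ⟨n, hn⟩ := IsPGroup.iff_card.1 P.isPGroup'
      rw [hn] at h6
      obtain ⟨j, -, hj⟩ := (Nat.dvd_prime_pow hp.out).1 h6
      rw [hj] at h5 ⊢
      exact pow_dvd_pow _ ((hp.out.pow_dvd_iff_le_factorization Nat.card_pos.ne').1 h5)
    have h7 : Nat.card P = p ^ ((Nat.card (centralizer ({x} : Set G))).factorization p + a) := by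
      rw [P.card_eq_multiplicity, ← h3, Nat.factorization_mul Nat.card_pos.ne' index_ne_zero_of_finite, hx,
        hp.out.factorization_pow]
      simp
    rw [hx]
    obtain ⟨t, ht⟩ := h4
    rw [h7, pow_add, ht] at h2
    have hpos : 0 < Nat.card (centralizer ({x} : Set G) ⊓ (P : Subgroup G) : Subgroup G) := Nat.card_pos
    rw [mul_assoc] at h2
    have h8 := Nat.eq_of_mul_eq_mul_left hpos h2
    rw [h8]
    have ht0 : t ≠ 0 := by
      rintro rfl
      rw [mul_zero] at ht
      exact (pow_pos hp.out.pos _).ne' ht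
    exact Nat.le_mul_of_pos_left _ (Nat.pos_of_ne_zero ht0)
  obtain ⟨u, hu, c, hc, hg⟩ := H24.Tools.exists_mul_of_relIndex_eq _ _ h1 g
  exact ⟨u, hu, c, mem_centralizer_singleton_iff.1 hc, hg⟩

/-- A `p`-element with class size a power of `p` has normal closure a `p`-group. -/
theorem normalClosure_isPGroup [Finite G] {p : ℕ} [hp : Fact p.Prime] (x : G) {a k : ℕ}
    (hx : (centralizer ({x} : Set G)).index = p ^ a) (hk : orderOf x = p ^ k) :
    IsPGroup p (normalClosure {x}) := by
  obtain ⟨P, hP⟩ := (H24.Tools.isPGroup_zpowers hk).exists_le_sylow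
  have hxP : x ∈ P := hP (mem_zpowers x)
  apply P.isPGroup'.to_le
  rw [normalClosure, closure_le]
  intro z hz
  rw [Group.conjugatesOfSet, Set.mem_iUnion₂] at hz
  obtain ⟨w, hw, hz⟩ := hz
  rw [Set.mem_singleton_iff] at hw
  subst hw
  obtain ⟨g, rfl⟩ := isConj_iff.1 (show IsConj w z from hz)
  obtain ⟨u, hu, c, hc, rfl⟩ := exists_mul_of_index_pow w hx P g
  have : u * c * w * (u * c)⁻¹ = u * w * u⁻¹ := by
    calc u * c * w * (u * c)⁻¹ = u * (c * w) * c⁻¹ * u⁻¹ := by group
      _ = u * (w * c) * c⁻¹ * u⁻¹ := by rw [hc]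
      _ = _ := by group
  rw [this]
  exact P.mul_mem (P.mul_mem hu hxP) (P.inv_mem hu)

/-- A normal `p`-group inside centralizer data -/
theorem centralizer_subgroupOf_index (x y : G) (hy : y ∈ centralizer ({x} : Set G)) :
    ((centralizer ({(⟨y, hy⟩ : centralizer ({x} : Set G))} : Set (centralizer ({x} : Set G))))).map
      (centralizer ({x} : Set G)).subtype = centralizer ({x} : Set G) ⊓ centralizer ({y} : Set G) := by
  ext z
  constructor
  · rintro ⟨w, hw, rfl⟩
    refine ⟨w.2, ?_⟩
    have hw' := mem_centralizer_singleton_iff.1 hw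
    exact mem_centralizer_singleton_iff.2 (congrArg Subtype.val hw')
  · rintro ⟨h1, h2⟩
    refine ⟨⟨z, h1⟩, ?_, rfl⟩
    have h2' := mem_centralizer_singleton_iff.1 h2
    exact mem_centralizer_singleton_iff.2 (Subtype.ext h2')

end Cfsg.Agent.H23.PClass
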