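import Mathlib

/-! H23_SRing: S-rings of groups containing a regular abelian subgroup; Schur's theorem for cyclic `p`-groups. -/

set_option autoImplicit false
set_option linter.style.haveILetI false
set_option linter.unusedSectionVars false

namespace Cfsg.Agent.H23.SRing

open Subgroup MulAction

section

variable {G : Type*} [Group G] {Ω : Type*} [MulAction G Ω] (C : Subgroup G) (ω : Ω)

/-- a function on `C` (identified with `Ω`) invariant under the stabiliser of `ω` -/
def Inv {R : Type*} (f : C → R) : Prop :=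
  ∀ s ∈ stabilizer G ω, ∀ x y : C, s • ((x : G) • ω) = (y : G) • ω → f y = f x

variable {C ω}

theorem Inv.comp_inv {R : Type*} {f : C → R} (hf : Inv C ω f) : Inv C ω (fun x => f x⁻¹) := by
  intro s hs x y hxy
  refine hf ((y : G)⁻¹ * s * x) ?_ x⁻¹ y⁻¹ ?_
  · rw [mem_stabilizer_iff, mul_smul, mul_smul, hxy, inv_smul_smul]
  · rw [mul_smul, mul_smul]
    change (y : G)⁻¹ • s • (x : G) • (x : G)⁻¹ • ω = (y : G)⁻¹ • ω
    rw [smul_inv_smul, mem_stabilizer_iff.1 hs]

variable (htr : ∀ α : Ω, ∃ c : C, (c : G) • ω = α) (hfree : ∀ c d : C, (c : G) • ω = (d : G) • ω → c = d)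

include htr hfree

theorem Inv.conv [Fintype C] {R : Type*} [NonUnitalNonAssocSemiring R] {f k : C → R} (hf : Inv C ω f) (hk : Inv C ω k) :
    Inv C ω (fun x => ∑ y, f y * k (y⁻¹ * x)) := by
  intro s hs x x' hxx
  choose σ hσ using fun y : C => htr (s • ((y : G) • ω))
  have hinj : Function.Injective σ := by
    intro y z hyz
    apply hfree
    have h1 := hσ y
    rw [hyz, hσ z] at h1
    exact (smul_left_cancel s h1).symm
  have hbij : Function.Bijective σ := Finite.injective_iff_bijective.1 hinj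
  change ∑ y, f y * k (y⁻¹ * x') = ∑ y, f y * k (y⁻¹ * x)
  rw [← hbij.sum_comp]
  refine Finset.sum_congr rfl fun y _ => ?_
  rw [hf s hs y (σ y) (hσ y).symm, hk ((σ y : G)⁻¹ * s * y) ?_ (y⁻¹ * x) ((σ y)⁻¹ * x') ?_]
  · rw [mem_stabilizer_iff, mul_smul, mul_smul, ← hσ y, inv_smul_smul]
  · change ((σ y : G)⁻¹ * s * y) • (((y : G)⁻¹ * x) • ω) = ((σ y : G)⁻¹ * x') • ω
    rw [mul_smul, mul_smul, mul_smul, mul_smul, smul_inv_smul, hxx]

theorem Inv.one {R : Type*} [Semiring R] : Inv C ω (fun x => (1 : MonoidAlgebra R C).coeff x) := by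
  classical
  intro s hs x y hxy
  simp only [MonoidAlgebra.one_def, MonoidAlgebra.coeff_single, Finsupp.single_apply]
  have h1 : (1 = y) ↔ (1 = x) := by
    constructor
    · rintro rfl
      apply hfree
      rw [Subgroup.coe_one, one_smul] at hxy ⊢
      have h2 := congrArg (fun a => s⁻¹ • a) hxy
      simp only [inv_smul_smul] at h2
      rw [h2]
      exact (inv_smul_eq_iff.2 (mem_stabilizer_iff.1 hs).symm).symm
    · rintro rfl
      apply hfree
      rw [Subgroup.coe_one, one_smul] at hxy ⊢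
      rw [← hxy, mem_stabilizer_iff.1 hs]
  by_cases h : 1 = x
  · rw [if_pos h, if_pos (h1.2 h)]
  · rw [if_neg h, if_neg (fun h2 => h (h1.1 h2))]

theorem Inv.mul [Finite C] {R : Type*} [Semiring R] {F K : MonoidAlgebra R C} (hF : Inv C ω (fun x => F.coeff x))
    (hK : Inv C ω (fun x => K.coeff x)) : Inv C ω (fun x => (F * K).coeff x) := by
  classical
  haveI := Fintype.ofFinite C
  have h := Inv.conv htr hfree hF hK
  have e : (fun x => (F * K).coeff x) = (fun x => ∑ y, F.coeff y * K.coeff (y⁻¹ * x)) := by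
    funext x
    rw [MonoidAlgebra.coeff_mul_apply_left, Finsupp.sum_fintype]
    intro i; rw [zero_mul]
  rw [e]
  exact h

theorem Inv.pow [Finite C] {R : Type*} [Semiring R] {F : MonoidAlgebra R C} (hF : Inv C ω (fun x => F.coeff x)) (n : ℕ) :
    Inv C ω (fun x => (F ^ n).coeff x) := by
  induction n with
  | zero => rw [pow_zero]; exact Inv.one htr hfree
  | succ n ih => rw [pow_succ]; exact ih.mul htr hfree hF

/-- the `p`-th power map -/
theorem Inv.frob [Finite C] [DecidableEq C] (hcomm : ∀ a b : C, a * b = b * a) {p : ℕ} [hp : Fact p.Prime] {T : Finset C}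
    (hT : Inv C ω (fun x => x ∈ T)) :
    Inv C ω (fun x => ((T.filter (fun t => t ^ p = x)).card : ZMod p)) := by
  classical
  letI : CommGroup C := { (inferInstance : Group C) with mul_comm := hcomm }
  let F : MonoidAlgebra (ZMod p) C := ∑ t ∈ T, MonoidAlgebra.single t 1
  have hFc : ∀ x, F.coeff x = if x ∈ T then 1 else 0 := by
    intro x
    simp only [F, MonoidAlgebra.coeff_sum, Finsupp.finsetSum_apply, MonoidAlgebra.coeff_single, Finsupp.single_apply]
    rw [Finset.sum_ite_eq' T x (fun _ => (1 : ZMod p))]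
  have hF : Inv C ω (fun x => F.coeff x) := by
    intro s hs x y hxy
    have h1 : (y ∈ T) = (x ∈ T) := hT s hs x y hxy
    simp only [hFc, h1]
  have h2 := hF.pow htr hfree p
  haveI : CharP (MonoidAlgebra (ZMod p) C) p :=
    charP_of_injective_algebraMap (FaithfulSMul.algebraMap_injective (ZMod p) (MonoidAlgebra (ZMod p) C)) p
  have h3 : F ^ p = ∑ t ∈ T, MonoidAlgebra.single (t ^ p) 1 := by
    simp only [F]
    rw [sum_pow_char]
    refine Finset.sum_congr rfl fun t _ => ?_
    rw [MonoidAlgebra.single_pow, one_pow]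
  have h4 : (fun x => (F ^ p).coeff x) = (fun x => ((T.filter (fun t => t ^ p = x)).card : ZMod p)) := by
    funext x
    rw [h3]
    simp only [MonoidAlgebra.coeff_sum, Finsupp.finsetSum_apply, MonoidAlgebra.coeff_single, Finsupp.single_apply]
    rw [Finset.sum_ite, Finset.sum_const_zero, add_zero, Finset.sum_const, nsmul_eq_mul, mul_one]
  rw [h4] at h2
  exact h2

/-- the subgroup generated by an invariant set, for primitive `G` -/
theorem closure_eq [Nontrivial Ω] [IsPreprimitive G Ω] {T : Set C} (hT : Inv C ω (fun x => x ∈ T)) :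
    Subgroup.closure T = ⊥ ∨ Subgroup.closure T = ⊤ := by
  set D := Subgroup.closure T with hD
  have hDinv : ∀ x ∈ D, ∀ s ∈ stabilizer G ω, ∀ y : C, s • ((x : G) • ω) = (y : G) • ω → y ∈ D := by
    intro x hx
    induction hx using Subgroup.closure_induction with
    | mem x hx =>
      intro s hs y hxy
      have h1 : (y ∈ T) = (x ∈ T) := hT s hs x y hxy
      exact Subgroup.subset_closure (by rw [h1]; exact hx)
    | one =>
      intro s hs y hxy
      rw [Subgroup.coe_one, one_smul, mem_stabilizer_iff.1 hs] at hxy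
      have : y = 1 := hfree _ _ (by rw [← hxy, Subgroup.coe_one, one_smul])
      rw [this]; exact one_mem _
    | mul x1 x2 _ _ ih1 ih2 =>
      intro s hs y hxy
      obtain ⟨y1, hy1⟩ := htr (s • ((x1 : G) • ω))
      have h1 := ih1 s hs y1 hy1.symm
      have hs' : (y1 : G)⁻¹ * s * x1 ∈ stabilizer G ω := by
        rw [mem_stabilizer_iff, mul_smul, mul_smul, ← hy1, inv_smul_smul]
      obtain ⟨y2, hy2⟩ := htr (((y1 : G)⁻¹ * s * x1) • ((x2 : G) • ω))
      have h2 := ih2 _ hs' y2 hy2.symm
      have : y = y1 * y2 := by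
        apply hfree
        rw [← hxy]
        change s • (((x1 : G) * x2) • ω) = ((y1 : G) * y2) • ω
        rw [mul_smul, mul_smul, hy2, mul_smul, mul_smul, smul_inv_smul]
      rw [this]; exact mul_mem h1 h2
    | inv x _ ih =>
      intro s hs y hxy
      have hxy' : s • ((x : G)⁻¹ • ω) = (y : G) • ω := hxy
      have hs' : (y : G)⁻¹ * s * (x : G)⁻¹ ∈ stabilizer G ω := by
        rw [mem_stabilizer_iff, mul_smul, mul_smul, hxy', inv_smul_smul]
      have h1 := ih _ hs' y⁻¹ (by
        rw [mul_smul, mul_smul, inv_smul_smul, mem_stabilizer_iff.1 hs]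
        rfl)
      have := inv_mem h1
      rwa [inv_inv] at this
  let M : Subgroup G :=
    { carrier := {g | ∃ d ∈ D, g • ω = (d : G) • ω}
      one_mem' := ⟨1, one_mem _, rfl⟩
      mul_mem' := by
        rintro g g' ⟨d, hd, hgd⟩ ⟨d', hd', hgd'⟩
        have hs : (d : G)⁻¹ * g ∈ stabilizer G ω := by
          rw [mem_stabilizer_iff, mul_smul, hgd, inv_smul_smul]
        obtain ⟨e, he⟩ := htr (((d : G)⁻¹ * g) • ((d' : G) • ω))
        have h1 := hDinv d' hd' _ hs e he.symm
        refine ⟨d * e, mul_mem hd h1, ?_⟩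
        change (g * g') • ω = ((d : G) * e) • ω
        rw [mul_smul, mul_smul, he, hgd', mul_smul, smul_inv_smul]
      inv_mem' := by
        rintro g ⟨d, hd, hgd⟩
        have hs : g⁻¹ * (d : G) ∈ stabilizer G ω := by
          rw [mem_stabilizer_iff, mul_smul, ← hgd, inv_smul_smul]
        obtain ⟨e, he⟩ := htr ((g⁻¹ * (d : G)) • (((d⁻¹ : C) : G) • ω))
        have h1 := hDinv d⁻¹ (inv_mem hd) _ hs e he.symm
        refine ⟨e, h1, ?_⟩
        rw [he]
        change g⁻¹ • ω = (g⁻¹ * (d : G)) • ((d : G)⁻¹ • ω)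
        rw [mul_smul, smul_inv_smul] }
  have hMst : stabilizer G ω ≤ M := by
    intro s hs
    exact ⟨1, one_mem _, by rw [Subgroup.coe_one, one_smul]; exact mem_stabilizer_iff.1 hs⟩
  have hco : IsCoatom (stabilizer G ω) := IsPreprimitive.isCoatom_stabilizer_of_isPreprimitive G ω
  rcases hco.le_iff.1 hMst with h | h
  · right
    rw [eq_top_iff]
    intro c _
    have h1 : (c : G) ∈ M := by rw [h]; trivial
    obtain ⟨d, hd, hcd⟩ := h1
    rwa [hfree c d hcd]
  · left
    rw [eq_bot_iff]
    intro d hd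
    have h1 : (d : G) ∈ M := ⟨d, hd, rfl⟩
    rw [h, mem_stabilizer_iff] at h1
    rw [mem_bot]
    apply hfree
    rw [h1, Subgroup.coe_one, one_smul]

/-- the stabiliser of an invariant set, for primitive `G` -/
theorem stab_closed [Nontrivial Ω] [IsPreprimitive G Ω] {T : Set C} (hT : Inv C ω (fun x => x ∈ T)) {c : C} (hc : c ≠ 1)
    (hcT : ∀ x, x ∈ T ↔ c * x ∈ T) (d x : C) (hx : x ∈ T) : d * x ∈ T := by
  let U : Set Ω := {α | ∃ t ∈ T, (t : G) • ω = α}
  let M : Subgroup G :=
    { carrier := {g | ∀ α, α ∈ U ↔ g • α ∈ U}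
      one_mem' := fun α => by rw [one_smul]
      mul_mem' := fun {a b} ha hb α => by rw [mul_smul, ← ha, ← hb]
      inv_mem' := fun {a} ha α => by rw [ha (a⁻¹ • α), smul_inv_smul] }
  have hUmem : ∀ y : C, (y : G) • ω ∈ U ↔ y ∈ T := by
    intro y
    constructor
    · rintro ⟨t, ht, hty⟩
      rwa [← hfree t y hty]
    · intro h; exact ⟨y, h, rfl⟩
  have hMst : stabilizer G ω ≤ M := by
    intro s hs α
    obtain ⟨x, rfl⟩ := htr α
    obtain ⟨y, hy⟩ := htr (s • ((x : G) • ω))
    have h1 : (y ∈ T) = (x ∈ T) := hT s hs x y hy.symm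
    rw [← hy, hUmem, hUmem, h1]
  have hco : IsCoatom (stabilizer G ω) := IsPreprimitive.isCoatom_stabilizer_of_isPreprimitive G ω
  have hcM : (c : G) ∈ M := by
    intro α
    obtain ⟨x, rfl⟩ := htr α
    rw [← mul_smul, hUmem, hcT x]
    exact (hUmem (c * x)).symm
  rcases hco.le_iff.1 hMst with h | h
  · have h1 : (d : G) ∈ M := by rw [h]; trivial
    have h2 := (h1 ((x : G) • ω)).1 ((hUmem x).2 hx)
    rw [← mul_smul] at h2
    exact (hUmem (d * x)).1 h2
  · exfalso
    rw [h, mem_stabilizer_iff] at hcM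
    apply hc
    apply hfree
    rw [hcM, Subgroup.coe_one, one_smul]

end

/-- a finite set closed under multiplication by an element of order `p` has cardinality divisible by `p` -/
theorem dvd_card_of_closed {C : Type*} [Group C] [Finite C] {p : ℕ} [hp : Fact p.Prime] {z : C} (hz : orderOf z = p) (B : Finset C)
    (hB : ∀ x ∈ B, z * x ∈ B) : p ∣ B.card := by
  classical
  have hcl : ∀ a ∈ zpowers z, ∀ x ∈ B, a * x ∈ B := by
    intro a ha
    rw [mem_zpowers_iff_mem_range_orderOf, Finset.mem_image] at ha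
    obtain ⟨n, -, rfl⟩ := ha
    induction n with
    | zero => intro x hx; simpa using hx
    | succ n ih =>
      intro x hx
      rw [pow_succ', mul_assoc]
      exact hB _ (ih x hx)
  letI : MulAction (zpowers z) B :=
    { smul := fun a x => ⟨a * x, hcl a a.2 x x.2⟩
      one_smul := fun x => Subtype.ext (one_mul (x : C))
      mul_smul := fun a b x => Subtype.ext (mul_assoc (a : C) b x) }
  have hP : IsPGroup p (zpowers z) := IsPGroup.of_card (n := 1) (by rw [Nat.card_zpowers, hz, pow_one])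
  have h1 := hP.card_modEq_card_fixedPoints B
  have h2 : Nat.card (fixedPoints (zpowers z) B) = 0 := by
    rw [Nat.card_eq_zero]
    left
    refine ⟨?_⟩
    rintro ⟨x, hx⟩
    have h3 := hx ⟨z, mem_zpowers z⟩
    have h4 : z * (x : C) = x := congrArg Subtype.val h3
    rw [mul_eq_right] at h4
    rw [h4, orderOf_one] at hz
    exact hp.out.one_lt.ne hz
  rw [h2] at h1
  have h3 := (Nat.modEq_zero_iff_dvd.1 h1)
  rwa [Nat.card_eq_fintype_card, Fintype.card_coe] at h3

set_option maxHeartbeats 2000000 in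
/-- Schur: a primitive group with a regular cyclic subgroup of order `p ^ m`, `m ≥ 2`, is 2-transitive -/
theorem schur {G : Type*} [Group G] {Ω : Type*} [MulAction G Ω] (C : Subgroup G) (ω : Ω) [Finite Ω] [Nontrivial Ω] [IsPreprimitive G Ω]
    (htr : ∀ α : Ω, ∃ c : C, (c : G) • ω = α) (hfree : ∀ c d : C, (c : G) • ω = (d : G) • ω → c = d)
    [Finite C] [IsCyclic C] {p m : ℕ} [hp : Fact p.Prime] (hm : 2 ≤ m) (hC : Nat.card C = p ^ m) :
    ∀ x y : C, x ≠ 1 → y ≠ 1 → ∃ s ∈ stabilizer G ω, s • ((x : G) • ω) = (y : G) • ω := by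
  classical
  haveI := Fintype.ofFinite C
  have hcomm : ∀ a b : C, a * b = b * a := fun a b => (IsCyclic.commGroup (α := C)).mul_comm a b
  have hpp := hp.out
  -- the element of order p
  obtain ⟨z, hz⟩ := exists_prime_orderOf_dvd_card' (G := C) p (by rw [hC]; exact dvd_pow_self _ (by omega))
  have hzp : z ^ p = 1 := by rw [← hz]; exact pow_orderOf_eq_one z
  have hz1 : z ≠ 1 := by rintro rfl; rw [orderOf_one] at hz; exact hpp.one_lt.ne hz
  have hPcard : (Finset.univ.filter (fun a : C => a ^ p = 1)).card ≤ p := IsCyclic.card_pow_eq_one_le hpp.pos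
  have hmulpow : ∀ a b : C, (a * b) ^ p = a ^ p * b ^ p := fun a b => (show Commute a b from hcomm a b).mul_pow p
  -- the power map
  let φ : C →* C := { toFun := fun a => a ^ p, map_one' := one_pow _, map_mul' := hmulpow }
  have hrange : φ.range ≠ ⊤ := by
    intro h
    have h1 : Function.Surjective φ := MonoidHom.range_eq_top.1 h
    have h2 := Finite.injective_iff_surjective.2 h1
    exact hz1 (h2 (by change z ^ p = 1 ^ p; rw [hzp, one_pow]))
  have hker : φ.ker ≠ ⊤ := by
    intro h
    have h1 : (Finset.univ.filter (fun a : C => a ^ p = 1)) = Finset.univ := by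
      ext a
      simp only [Finset.mem_filter, Finset.mem_univ, true_and, iff_true]
      have : a ∈ φ.ker := by rw [h]; trivial
      exact this
    rw [h1, Finset.card_univ, ← Nat.card_eq_fintype_card, hC] at hPcard
    have h2 : p ^ 1 < p ^ m := Nat.pow_lt_pow_right hpp.one_lt (by omega)
    rw [pow_one] at h2
    omega
  -- relation
  have hrefl : ∀ x : C, ∃ s ∈ stabilizer G ω, s • ((x : G) • ω) = (x : G) • ω := fun x => ⟨1, one_mem _, one_smul _ _⟩
  -- (F1)
  have F1 : ∀ T : Finset C, Inv C ω (fun x => x ∈ T) → ∀ y ∈ T, y ^ p ≠ 1 → ∀ w : C, w ^ p = 1 → y * w ∈ T := by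
    intro T hT y hyT hy w hw
    have hI := Inv.frob htr hfree hcomm (p := p) hT
    set X : Set C := {x | ((T.filter (fun t => t ^ p = x)).card : ZMod p) ≠ 0} with hX
    have hXinv : Inv C ω (fun x => x ∈ X) := by
      intro s hs a b hab
      have h1 := hI s hs a b hab
      simp only [hX, Set.mem_setOf_eq] at h1 ⊢
      rw [h1]
    have hXr : Subgroup.closure X ≤ φ.range := by
      rw [Subgroup.closure_le]
      intro x hx
      have h1 : (T.filter (fun t => t ^ p = x)).Nonempty := by
        rw [Finset.nonempty_iff_ne_empty]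
        intro h
        apply hx
        rw [h, Finset.card_empty, Nat.cast_zero]
      obtain ⟨t, ht⟩ := h1
      exact ⟨t, (Finset.mem_filter.1 ht).2⟩
    have hXb : Subgroup.closure X = ⊥ := by
      rcases closure_eq htr hfree hXinv with h | h
      · exact h
      · exfalso
        apply hrange
        rw [eq_top_iff, ← h]; exact hXr
    have h1 : y ^ p ∉ X := by
      intro h
      have h2 : y ^ p ∈ Subgroup.closure X := Subgroup.subset_closure h
      rw [hXb, mem_bot] at h2
      exact hy h2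
    have h2 : ((T.filter (fun t => t ^ p = y ^ p)).card : ZMod p) = 0 := by
      by_contra h; exact h1 h
    rw [ZMod.natCast_eq_zero_iff] at h2
    have h3 : 0 < (T.filter (fun t => t ^ p = y ^ p)).card := Finset.card_pos.2 ⟨y, Finset.mem_filter.2 ⟨hyT, rfl⟩⟩
    have h4 := Nat.le_of_dvd h3 h2
    -- compare with the full coset
    have h5 : T.filter (fun t => t ^ p = y ^ p) ⊆ (Finset.univ.filter (fun a : C => a ^ p = 1)).image (fun a => y * a) := by
      intro t ht
      rw [Finset.mem_filter] at ht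
      rw [Finset.mem_image]
      refine ⟨y⁻¹ * t, ?_, by group⟩
      rw [Finset.mem_filter]
      refine ⟨Finset.mem_univ _, ?_⟩
      rw [hmulpow, inv_pow, ht.2, inv_mul_cancel]
    have h6 : ((Finset.univ.filter (fun a : C => a ^ p = 1)).image (fun a => y * a)).card ≤ p :=
      Finset.card_image_le.trans hPcard
    have h7 := Finset.eq_of_subset_of_card_le h5 (h6.trans h4)
    have h8 : y * w ∈ (Finset.univ.filter (fun a : C => a ^ p = 1)).image (fun a => y * a) :=
      Finset.mem_image.2 ⟨w, Finset.mem_filter.2 ⟨Finset.mem_univ _, hw⟩, rfl⟩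
    rw [← h7] at h8
    exact (Finset.mem_filter.1 h8).1
  -- basic sets
  let bs : C → Finset C := fun t => Finset.univ.filter (fun x => ∃ s ∈ stabilizer G ω, s • ((t : G) • ω) = (x : G) • ω)
  have hbs : ∀ {t x : C}, x ∈ bs t ↔ ∃ s ∈ stabilizer G ω, s • ((t : G) • ω) = (x : G) • ω := by
    intro t x; simp [bs]
  have hbself : ∀ t, t ∈ bs t := fun t => hbs.2 (hrefl t)
  have hbinv : ∀ t, Inv C ω (fun x => x ∈ bs t) := by
    intro t s hs x y hxy
    apply propext
    change y ∈ bs t ↔ x ∈ bs t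
    rw [hbs, hbs]
    constructor
    · rintro ⟨r, hr, hry⟩
      refine ⟨s⁻¹ * r, mul_mem (inv_mem hs) hr, ?_⟩
      rw [mul_smul, hry, ← hxy, inv_smul_smul]
    · rintro ⟨r, hr, hrx⟩
      exact ⟨s * r, mul_mem hs hr, by rw [mul_smul, hrx, hxy]⟩
  have hbone : ∀ t, t ≠ 1 → (1 : C) ∉ bs t := by
    intro t ht h
    obtain ⟨s, hs, hst⟩ := hbs.1 h
    apply ht
    apply hfree
    rw [Subgroup.coe_one, one_smul] at hst ⊢
    have := congrArg (fun a => s⁻¹ • a) hst
    simp only [inv_smul_smul] at this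
    rw [this, inv_smul_eq_iff, mem_stabilizer_iff.1 hs]
  have hbeq : ∀ {R : Type} (f : C → R), Inv C ω f → ∀ {t x : C}, x ∈ bs t → f x = f t := by
    intro R f hf t x hx
    obtain ⟨s, hs, hst⟩ := hbs.1 hx
    exact hf s hs t x hst
  -- stabilisers of basic sets
  have hstab : ∀ (T : Finset C), Inv C ω (fun x => x ∈ T) → (1 : C) ∉ T → T.Nonempty → (∀ x ∈ T, z * x ∈ T) → False := by
    intro T hT h1 ⟨x, hx⟩ hcl
    have hcl' : ∀ n : ℕ, ∀ x ∈ T, z ^ n * x ∈ T := by
      intro n
      induction n with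
      | zero => intro x hx; rwa [pow_zero, one_mul]
      | succ n ih => intro x hx; rw [pow_succ', mul_assoc]; exact hcl _ (ih x hx)
    have h2 := stab_closed htr hfree (T := (T : Set C)) hT hz1 (by
      intro y
      refine ⟨fun hy => hcl y hy, fun hy => ?_⟩
      have h3 := hcl' (p - 1) _ hy
      rw [← mul_assoc, ← pow_succ, Nat.sub_add_cancel hpp.one_lt.le, hzp, one_mul] at h3
      exact h3) x⁻¹ x hx
    rw [inv_mul_cancel] at h2
    exact h1 h2
  -- (F2)
  have F2 : ∀ t, t ≠ 1 → ∃ a ∈ bs t, a ^ p = 1 := by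
    intro t ht
    by_contra hcon
    push Not at hcon
    refine hstab (bs t) (hbinv t) (hbone t ht) ⟨t, hbself t⟩ (fun x hx => ?_)
    rw [hcomm]
    exact F1 _ (hbinv t) x hx (hcon x hx) z hzp
  -- (F3)
  have F3 : ∀ t, t ≠ 1 → ∃ b ∈ bs t, b ^ p ≠ 1 := by
    intro t ht
    by_contra hcon
    push Not at hcon
    rcases closure_eq htr hfree (T := (bs t : Set C)) (hbinv t) with h | h
    · have h1 : t ∈ Subgroup.closure (bs t : Set C) := Subgroup.subset_closure (hbself t)
      rw [h, mem_bot] at h1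
      exact ht h1
    · apply hker
      rw [eq_top_iff, ← h, Subgroup.closure_le]
      intro x hx
      exact hcon x hx
  -- the structure constants
  have hcc : ∀ t, Inv C ω (fun h => ((bs t).filter (fun y => h⁻¹ * y ∈ bs t)).card) := by
    intro t
    have h1 : Inv C ω (fun x => if x ∈ bs t then (1 : ℕ) else 0) := by
      intro s hs x y hxy
      have := hbinv t s hs x y hxy
      simp only at this
      simp only [this]
    have h2 := Inv.conv htr hfree h1 h1.comp_inv
    have h3 : (fun h => ((bs t).filter (fun y => h⁻¹ * y ∈ bs t)).card) =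
        (fun x => ∑ y, (if y ∈ bs t then (1 : ℕ) else 0) * (if (y⁻¹ * x)⁻¹ ∈ bs t then (1 : ℕ) else 0)) := by
      funext h
      rw [Finset.card_filter, ← Finset.sum_filter_add_sum_filter_not Finset.univ (fun y => y ∈ bs t)]
      rw [Finset.sum_eq_zero (s := Finset.univ.filter (fun y => ¬ y ∈ bs t)), add_zero]
      · have : Finset.univ.filter (fun y => y ∈ bs t) = bs t := by ext; simp
        rw [this]
        refine Finset.sum_congr rfl fun y hy => ?_
        rw [if_pos hy, one_mul, mul_inv_rev, inv_inv]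
      · intro y hy
        rw [if_neg (Finset.mem_filter.1 hy).2, zero_mul]
    rw [h3]
    exact h2
  -- main
  intro x y hx hy
  by_contra hne
  set T := bs x with hT
  have hyT : y ∉ T := fun h => hne (hbs.1 h)
  have h1T : (1 : C) ∉ T := hbone x hx
  set A := T.filter (fun a => a ^ p = 1) with hA
  set B := T.filter (fun a => ¬ a ^ p = 1) with hB
  have hAmem : ∀ a, a ∈ A ↔ a ∈ T ∧ a ^ p = 1 := fun a => Finset.mem_filter
  have hBmem : ∀ a, a ∈ B ↔ a ∈ T ∧ ¬ a ^ p = 1 := fun a => Finset.mem_filter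
  have hAB : ∀ a, a ∈ T ↔ a ∈ A ∨ a ∈ B := by
    intro a
    rw [hAmem, hBmem]
    by_cases h : a ^ p = 1
    · simp [h]
    · simp [h]
  have hBz : ∀ b ∈ B, ∀ w : C, w ^ p = 1 → b * w ∈ B := by
    intro b hb w hw
    rw [hB, Finset.mem_filter] at hb ⊢
    refine ⟨F1 T (hbinv x) b hb.1 hb.2 w hw, ?_⟩
    rw [hmulpow, hw, mul_one]; exact hb.2
  have hcdef : ∀ h, (T.filter (fun y => h⁻¹ * y ∈ T)).card = (A.filter (fun y => h⁻¹ * y ∈ T)).card + (B.filter (fun y => h⁻¹ * y ∈ T)).card := by
    intro h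
    rw [← Finset.card_union_of_disjoint]
    · congr 1
      ext a
      simp only [Finset.mem_union, Finset.mem_filter, hAB a]
      tauto
    · rw [Finset.disjoint_left]
      intro a ha hb
      rw [Finset.mem_filter, hA, Finset.mem_filter] at ha
      rw [Finset.mem_filter, hB, Finset.mem_filter] at hb
      exact hb.1.2 ha.1.2
  -- Claim 1
  have cl1 : ∀ h : C, h ^ p = 1 → (T.filter (fun y => h⁻¹ * y ∈ T)).card = (A.filter (fun y => h⁻¹ * y ∈ T)).card + B.card := by
    intro h hh
    rw [hcdef h]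
    congr 2
    apply Finset.filter_true_of_mem
    intro b hb
    rw [hAB]
    right
    rw [hcomm]
    exact hBz b hb _ (by rw [inv_pow, hh, inv_one])
  -- Claim 2
  have cl2 : ∀ u : C, u ^ p ≠ 1 → u⁻¹ ∉ T → (A.filter (fun y => u⁻¹ * y ∈ T)).card = 0 := by
    intro u hu huT
    rw [Finset.card_eq_zero]
    apply Finset.filter_false_of_mem
    intro a ha h1
    rw [hA, Finset.mem_filter] at ha
    apply huT
    have h2 : (u⁻¹ * a) ^ p ≠ 1 := by
      rw [hmulpow, ha.2, mul_one, inv_pow, Ne, inv_eq_one]; exact hu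
    have h3 := F1 T (hbinv x) _ h1 h2 a⁻¹ (by rw [inv_pow, ha.2, inv_one])
    rwa [mul_inv_cancel_right] at h3
  have hTinv : ∀ {t u : C}, u ∈ bs t → ((u ∈ T) = (t ∈ T)) := fun {t u} hu => hbeq (fun a => a ∈ T) (hbinv x) hu
  have hTinv' : ∀ {t u : C}, u ∈ bs t → ((u⁻¹ ∈ T) = (t⁻¹ ∈ T)) := fun {t u} hu =>
    hbeq (fun a => a⁻¹ ∈ T) (Inv.comp_inv (f := fun a => a ∈ T) (hbinv x)) hu
  have cl3 : ∀ u : C, u ^ p ≠ 1 → u ∈ T ∨ u⁻¹ ∈ T := by
    intro u hu
    by_contra hcon
    push Not at hcon
    obtain ⟨hu1, hu2⟩ := hcon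
    have hune : u ≠ 1 := by rintro rfl; exact hu (one_pow _)
    have hall : ∀ v ∈ bs u, ∀ b ∈ B, v⁻¹ * b ∈ B := by
      intro v hv
      by_cases hvp : v ^ p = 1
      · intro b hb
        rw [hcomm]
        exact hBz b hb _ (by rw [inv_pow, hvp, inv_one])
      · have hv1 : v ∉ T := by rw [hTinv hv]; exact hu1
        have hv2 : v⁻¹ ∉ T := by rw [hTinv' hv]; exact hu2
        obtain ⟨a, ha, hap⟩ := F2 u hune
        have e1 : (T.filter (fun y => a⁻¹ * y ∈ T)).card = (T.filter (fun y => v⁻¹ * y ∈ T)).card := by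
          have h1 := hbeq _ (hcc x) ha
          have h2 := hbeq _ (hcc x) hv
          exact h1.trans h2.symm
        rw [cl1 a hap, hcdef v, cl2 v hvp hv2, zero_add] at e1
        have e2 : (B.filter (fun y => v⁻¹ * y ∈ T)).card ≤ B.card := Finset.card_filter_le _ _
        have e3 : B.filter (fun y => v⁻¹ * y ∈ T) = B := Finset.eq_of_subset_of_card_le (Finset.filter_subset _ _) (by omega)
        intro b hb
        have h1 : b ∈ B.filter (fun y => v⁻¹ * y ∈ T) := by rw [e3]; exact hb
        rw [Finset.mem_filter, hAB] at h1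
        rcases h1.2 with h2 | h2
        · exfalso
          apply hv1
          rw [hAB]; right
          rw [hA, Finset.mem_filter] at h2
          have h3 := hBz b hb (v⁻¹ * b)⁻¹ (by rw [inv_pow, h2.2, inv_one])
          have h4 : b * (v⁻¹ * b)⁻¹ = v := by rw [mul_inv_rev, inv_inv, mul_inv_cancel_left]
          rwa [h4] at h3
        · exact h2
    have hD : Subgroup.closure ((bs u : Finset C) : Set C) = ⊤ := by
      rcases closure_eq htr hfree (T := ((bs u : Finset C) : Set C)) (hbinv u) with h | h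
      · exfalso
        have h1 : u ∈ Subgroup.closure ((bs u : Finset C) : Set C) := Subgroup.subset_closure (hbself u)
        rw [h, mem_bot] at h1
        exact hune h1
      · exact h
    -- everything maps B to B
    have hallC : ∀ v : C, ∀ b, v⁻¹ * b ∈ B ↔ b ∈ B := by
      intro v
      have hv : v ∈ Subgroup.closure ((bs u : Finset C) : Set C) := by rw [hD]; trivial
      induction hv using Subgroup.closure_induction with
      | mem v hv =>
        -- injective map of B to B
        have hinj : B.image (fun b => v⁻¹ * b) = B := by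
          apply Finset.eq_of_subset_of_card_le
          · intro c hc
            obtain ⟨b, hb, rfl⟩ := Finset.mem_image.1 hc
            exact hall v hv b hb
          · rw [Finset.card_image_of_injective _ (mul_right_injective v⁻¹)]
        intro b
        constructor
        · intro h
          rw [← hinj, Finset.mem_image] at h
          obtain ⟨c, hc, hcb⟩ := h
          rwa [← mul_left_cancel hcb]
        · exact hall v hv b
      | one => intro b; rw [inv_one, one_mul]
      | mul v w _ _ hv hw => intro b; rw [mul_inv_rev, mul_assoc, hw, hv]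
      | inv v _ hv => intro b; rw [inv_inv, ← hv (v * b), inv_mul_cancel_left]
    obtain ⟨b, hb, hbp⟩ := F3 x hx
    have hbB : b ∈ B := by rw [hB, Finset.mem_filter]; exact ⟨hb, hbp⟩
    have h1 := (hallC b b).2 hbB
    rw [inv_mul_cancel] at h1
    exact h1T ((hAB 1).2 (Or.inr h1))
  have cl4 : ∀ u : C, u ≠ 1 → u ∈ T ∨ u⁻¹ ∈ T := by
    intro u hu
    obtain ⟨b, hb, hbp⟩ := F3 u hu
    have h1 := cl3 b hbp
    rwa [hTinv hb, hTinv' hb] at h1
  have hyinv : y⁻¹ ∈ T := (cl4 y hy).resolve_left hyT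
  have hdis : ∀ t ∈ T, t⁻¹ ∉ T := by
    intro t ht ht'
    have h1 := hTinv' ht
    have h2 := hTinv' hyinv
    rw [inv_inv] at h2
    rw [h1, ← h2] at ht'
    exact hyT ht'
  obtain ⟨h, hhT, hhp⟩ := F2 x hx
  obtain ⟨h', hh'T, hh'p⟩ := F3 x hx
  have e0 : (T.filter (fun y => h⁻¹ * y ∈ T)).card = (T.filter (fun y => h'⁻¹ * y ∈ T)).card := by
    have h1 := hbeq _ (hcc x) hhT
    have h2 := hbeq _ (hcc x) hh'T
    exact h1.trans h2.symm
  rw [cl1 h hhp, hcdef h', cl2 h' hh'p (hdis h' hh'T), zero_add] at e0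
  -- split the second count
  have e1 : (B.filter (fun y => h'⁻¹ * y ∈ T)).card = (B.filter (fun y => h'⁻¹ * y ∈ A)).card + (B.filter (fun y => h'⁻¹ * y ∈ B)).card := by
    rw [← Finset.card_union_of_disjoint]
    · congr 1
      ext a
      simp only [Finset.mem_union, Finset.mem_filter, hAB (h'⁻¹ * a)]
      tauto
    · rw [Finset.disjoint_left]
      intro a ha hb
      have ha1 := (Finset.mem_filter.1 ha).2
      have hb1 := (Finset.mem_filter.1 hb).2
      exact ((hBmem _).1 hb1).2 ((hAmem _).1 ha1).2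
  have e2 : (B.filter (fun y => h'⁻¹ * y ∈ A)).card = A.card := by
    rw [← Finset.card_image_of_injective A (mul_right_injective h')]
    congr 1
    ext a
    rw [Finset.mem_filter, Finset.mem_image]
    constructor
    · rintro ⟨_, h1⟩
      exact ⟨h'⁻¹ * a, h1, by change h' * (h'⁻¹ * a) = a; rw [mul_inv_cancel_left]⟩
    · rintro ⟨a', ha', rfl⟩
      change h' * a' ∈ B ∧ h'⁻¹ * (h' * a') ∈ A
      rw [inv_mul_cancel_left]
      refine ⟨hBz h' ?_ a' ?_, ha'⟩
      · rw [hB, Finset.mem_filter]; exact ⟨hh'T, hh'p⟩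
      · rw [hA, Finset.mem_filter] at ha'; exact ha'.2
  have d1 : p ∣ B.card := dvd_card_of_closed hz B (fun b hb => by rw [hcomm]; exact hBz b hb z hzp)
  have d2 : p ∣ (B.filter (fun y => h'⁻¹ * y ∈ B)).card := by
    apply dvd_card_of_closed hz
    intro b hb
    rw [Finset.mem_filter] at hb ⊢
    refine ⟨by rw [hcomm]; exact hBz b hb.1 z hzp, ?_⟩
    have : h'⁻¹ * (z * b) = h'⁻¹ * b * z := by rw [hcomm z b, mul_assoc]
    rw [this]
    exact hBz _ hb.2 z hzp
  have hAlt : A.card < p := by
    have h1 : A ⊂ Finset.univ.filter (fun a : C => a ^ p = 1) := by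
      rw [Finset.ssubset_iff_of_subset]
      · exact ⟨1, by simp, fun h => h1T ((hAB 1).2 (Or.inl h))⟩
      · intro a ha
        rw [hA, Finset.mem_filter] at ha
        rw [Finset.mem_filter]
        exact ⟨Finset.mem_univ _, ha.2⟩
    exact (Finset.card_lt_card h1).trans_le hPcard
  have hale : (A.filter (fun y => h⁻¹ * y ∈ T)).card ≤ A.card := Finset.card_filter_le _ _
  obtain ⟨k1, hk1⟩ := d1
  obtain ⟨k2, hk2⟩ := d2
  have e3 : (A.filter (fun y => h⁻¹ * y ∈ T)).card + p * k1 = A.card + p * k2 := by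
    rw [← hk1, ← hk2, e0, e1, e2]
  have e4 : (A.filter (fun y => h⁻¹ * y ∈ T)).card = A.card := by
    have h1 : A.card - (A.filter (fun y => h⁻¹ * y ∈ T)).card = p * (k1 - k2) := by
      rw [Nat.mul_sub]; omega
    have h2 : k1 - k2 = 0 := by
      by_contra h3
      have h4 : p * 1 ≤ p * (k1 - k2) := Nat.mul_le_mul_left p (Nat.pos_of_ne_zero h3)
      omega
    rw [h2, mul_zero] at h1
    omega
  have e5 : A.filter (fun y => h⁻¹ * y ∈ T) = A := Finset.eq_of_subset_of_card_le (Finset.filter_subset _ _) e4.ge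
  have hhA : h ∈ A := by rw [hA, Finset.mem_filter]; exact ⟨hhT, hhp⟩
  rw [← e5, Finset.mem_filter, inv_mul_cancel] at hhA
  exact h1T hhA.2

end Cfsg.Agent.H23.SRing
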