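import Cfsg.Statements.S3377
import Cfsg.Agent.H20_TCP

set_option autoImplicit false
open Cfsg

namespace Cfsg.Agent.S3377
open Cfsg.Agent.H20.TC

def rels : List (List ℕ) := [[0, 0, 0], [2, 2, 2, 2, 2], [0, 2, 0, 2]]
def sub : List (List ℕ) := [[2]]
def D : List (ℕ × ℕ) := [(0, 0), (0, 1), (1, 3), (2, 2), (3, 0), (3, 3), (5, 2), (5, 3), (7, 2), (8, 3), (9, 1)]
def S : List (ℕ × ℕ × ℕ) := [(0, 0, 1), (0, 3, 0), (1, 2, 2), (2, 2, 3), (3, 0, 1), (3, 1, 3), (3, 2, 2), (5, 1, 2), (5, 2, 2), (6, 0, 1), (8, 2, 2), (9, 0, 1), (10, 2, 1)]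

theorem chk : check 2 rels sub D S = true := by decide +kernel

abbrev R : Set (FreeGroup (Fin 2)) := {FreeGroup.of (0 : Fin 2) ^ 3, FreeGroup.of (1 : Fin 2) ^ 5,
        (FreeGroup.of (0 : Fin 2) * FreeGroup.of 1) ^ 2}

theorem rel0 : (PresentedGroup.of 0 : PresentedGroup R) ^ 3 = 1 := by
  have : (PresentedGroup.of 0 : PresentedGroup R) ^ 3 = PresentedGroup.mk R (FreeGroup.of (0 : Fin 2) ^ 3) := by
    rw [map_pow]; rfl
  rw [this]
  exact PresentedGroup.one_of_mem (by simp)

theorem rel1 : (PresentedGroup.of 1 : PresentedGroup R) ^ 5 = 1 := by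
  have : (PresentedGroup.of 1 : PresentedGroup R) ^ 5 = PresentedGroup.mk R (FreeGroup.of (1 : Fin 2) ^ 5) := by
    rw [map_pow]; rfl
  rw [this]
  exact PresentedGroup.one_of_mem (by simp)

theorem rel2 : ((PresentedGroup.of 0 : PresentedGroup R) * PresentedGroup.of 1) ^ 2 = 1 := by
  have : ((PresentedGroup.of 0 : PresentedGroup R) * PresentedGroup.of 1) ^ 2 =
      PresentedGroup.mk R ((FreeGroup.of (0 : Fin 2) * FreeGroup.of 1) ^ 2) := by
    rw [map_pow, map_mul]; rfl
  rw [this]
  exact PresentedGroup.one_of_mem (by simp)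

theorem card_le' : Finite (PresentedGroup R) ∧ Nat.card (PresentedGroup R) ≤ 60 := by
  have hfin : Finite (Subgroup.zpowers (PresentedGroup.of 1 : PresentedGroup R)) := by
    exact (finite_zpowers.mpr (isOfFinOrder_iff_pow_eq_one.mpr ⟨5, by norm_num, rel1⟩)).to_subtype
  have hc : Nat.card (Subgroup.zpowers (PresentedGroup.of 1 : PresentedGroup R)) ≤ 5 := by
    rw [Nat.card_zpowers]
    exact orderOf_le_of_pow_eq_one (by norm_num) rel1
  have e0 : gP R 0 = PresentedGroup.of 0 := gP_eq R 0
  have e1 : gP R 1 = PresentedGroup.of 1 := gP_eq R 1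
  have h := card_le (gP R) (Subgroup.zpowers (PresentedGroup.of 1 : PresentedGroup R)) (k := 2) (rels := rels)
    (sub := sub) (D := D) (S := S) (by
      intro w hw
      simp only [rels, List.mem_cons, List.not_mem_nil, or_false] at hw
      rcases hw with rfl | rfl | rfl
      · simp only [ev, lx]
        norm_num
        rw [e0, ← rel0]; simp only [pow_succ, pow_zero, one_mul, mul_assoc]
      · simp only [ev, lx]
        norm_num
        rw [e1, ← rel1]; simp only [pow_succ, pow_zero, one_mul, mul_assoc]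
      · simp only [ev, lx]
        norm_num
        rw [e0, e1, ← rel2]; simp only [pow_succ, pow_zero, one_mul, mul_assoc]) (by
      intro w hw
      simp only [sub, List.mem_cons, List.not_mem_nil, or_false] at hw
      rw [hw]
      simp only [ev, lx]
      norm_num
      rw [e1]; exact Subgroup.mem_zpowers _) (by decide +kernel) chk (closure_gP R)
  refine ⟨h.1, h.2.trans ?_⟩
  have : D.length + 1 = 12 := by decide
  rw [this]
  omega

def px : Equiv.Perm (Fin 5) := c[2, 3, 4]
def py : Equiv.Perm (Fin 5) := c[0, 2, 4, 1, 3]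

def ax : alternatingGroup (Fin 5) := ⟨px, Equiv.Perm.mem_alternatingGroup.mpr (by decide)⟩
def ay : alternatingGroup (Fin 5) := ⟨py, Equiv.Perm.mem_alternatingGroup.mpr (by decide)⟩

theorem ax3 : ax ^ 3 = 1 := by decide +kernel
theorem ay5 : ay ^ 5 = 1 := by decide +kernel
theorem axy2 : (ax * ay) ^ 2 = 1 := by decide +kernel
theorem ax1 : ax ≠ 1 := by decide +kernel
theorem ay1 : ay ≠ 1 := by decide +kernel
theorem axy1 : ax * ay ≠ 1 := by decide +kernel

theorem gen : Subgroup.closure {ax, ay} = (⊤ : Subgroup (alternatingGroup (Fin 5))) := by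
  set K := Subgroup.closure {ax, ay} with hK
  have hx : ax ∈ K := Subgroup.subset_closure (by simp)
  have hy : ay ∈ K := Subgroup.subset_closure (by simp)
  have o3 : orderOf ax = 3 := by
    have : Fact (Nat.Prime 3) := ⟨by norm_num⟩
    exact orderOf_eq_prime ax3 ax1
  have o5 : orderOf ay = 5 := by
    have : Fact (Nat.Prime 5) := ⟨by norm_num⟩
    exact orderOf_eq_prime ay5 ay1
  have o2 : orderOf (ax * ay) = 2 := orderOf_eq_prime axy2 axy1
  have d3 := Subgroup.orderOf_dvd_natCard K hx
  have d5 := Subgroup.orderOf_dvd_natCard K hy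
  have d2 := Subgroup.orderOf_dvd_natCard K (mul_mem hx hy)
  rw [o3] at d3
  rw [o5] at d5
  rw [o2] at d2
  have hA : Nat.card (alternatingGroup (Fin 5)) = 60 := by
    rw [nat_card_alternatingGroup]; simp [Nat.factorial]
  have hi := K.card_mul_index
  rw [hA] at hi
  have h30 : 30 ∣ Nat.card K := by omega
  have hpos : 0 < Nat.card K := Nat.card_pos
  obtain ⟨c, hc⟩ := h30
  rw [hc] at hi
  have hidx : K.index = 1 ∨ K.index = 2 := by
    have h1 : c * K.index = 2 := by nlinarith
    have h2 : K.index ∣ 2 := ⟨c, by rw [← h1]; ring⟩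
    exact (Nat.dvd_prime Nat.prime_two).mp h2
  rcases hidx with h | h
  · exact Subgroup.index_eq_one.mp h
  · have hn : K.Normal := Subgroup.normal_of_index_eq_two h
    have hs : IsSimpleGroup (alternatingGroup (Fin 5)) := alternatingGroup.isSimpleGroup_five
    rcases hn.eq_bot_or_eq_top with h' | h'
    · rw [h', Subgroup.mem_bot] at hx
      exact absurd hx ax1
    · exact h'

/-- The alternating group of degree 5 has the presentation ⟨x, y | x³ = 1, y⁵ = 1, (xy)² = 1⟩: the group so presented is isomorphic to Alt(5). -/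
theorem result :
    Nonempty (PresentedGroup ({FreeGroup.of (0 : Fin 2) ^ 3, FreeGroup.of (1 : Fin 2) ^ 5,
        (FreeGroup.of (0 : Fin 2) * FreeGroup.of 1) ^ 2} : Set (FreeGroup (Fin 2))) ≃* alternatingGroup (Fin 5)) := by
  obtain ⟨h1, h2⟩ := card_le'
  have hrel : ∀ r ∈ R, FreeGroup.lift ![ax, ay] r = 1 := by
    intro r hr
    simp only [R, Set.mem_insert_iff, Set.mem_singleton_iff] at hr
    rcases hr with rfl | rfl | rfl
    · simp only [map_pow, FreeGroup.lift_apply_of]; exact ax3
    · simp only [map_pow, FreeGroup.lift_apply_of]; exact ay5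
    · simp only [map_pow, map_mul, FreeGroup.lift_apply_of]; exact axy2
  refine equiv_of_surj h1 (PresentedGroup.toGroup hrel) ?_ ?_
  · rw [← MonoidHom.range_eq_top, eq_top_iff, ← gen, Subgroup.closure_le]
    rintro x (rfl | rfl)
    · exact ⟨PresentedGroup.of 0, by rw [PresentedGroup.toGroup.of]; rfl⟩
    · exact ⟨PresentedGroup.of 1, by rw [PresentedGroup.toGroup.of]; rfl⟩
  · have hA : Nat.card (alternatingGroup (Fin 5)) = 60 := by
      rw [nat_card_alternatingGroup]; simp [Nat.factorial]
    rw [hA]; exact h2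

end Cfsg.Agent.S3377
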