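import Mathlib
import Cfsg.Agent.S3377
import Cfsg.Agent.H5_SL2

/-! The presentation of `SL(2,5)` and its recognition as the double cover of `A₅`. -/

namespace Cfsg.Agent.H24.Zas

open Equiv
open Cfsg.Agent.H5.SL2 (S ext2 det_eq mul00 mul01 mul10 mul11 inv00 inv01 inv10 inv11 one00 one01 one10 one11
  neg00 neg01 neg10 neg11 u l u_mul l_mul u_zero eq_top_of_ul)

/-- the relators -/
abbrev RR : Set (FreeGroup (Fin 3)) := {FreeGroup.of (0 : Fin 3) ^ 3, FreeGroup.of (1 : Fin 3) ^ 5, FreeGroup.of (2 : Fin 3) ^ 2,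
        (FreeGroup.of (2 : Fin 3))⁻¹ * FreeGroup.of 0 * FreeGroup.of 2 * (FreeGroup.of (0 : Fin 3))⁻¹,
        (FreeGroup.of (2 : Fin 3))⁻¹ * FreeGroup.of 1 * FreeGroup.of 2 * (FreeGroup.of (1 : Fin 3))⁻¹,
        (FreeGroup.of (0 : Fin 3) * FreeGroup.of 1) ^ 2 * (FreeGroup.of (2 : Fin 3))⁻¹}

/-- groups satisfying the relations are small -/
theorem card_le_of_rel {P : Type*} [Group P] {x y z : P} (hx : x ^ 3 = 1) (hy : y ^ 5 = 1) (hz : z ^ 2 = 1)
    (hxz : z * x = x * z) (hyz : z * y = y * z) (hxy : (x * y) ^ 2 = z)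
    (hgen : Subgroup.closure ({x, y, z} : Set P) = ⊤) : Finite P ∧ Nat.card P ≤ 120 := by
  have hcen : ∀ g : P, g ∈ Subgroup.centralizer ({z} : Set P) := by
    intro g
    have : Subgroup.closure ({x, y, z} : Set P) ≤ Subgroup.centralizer ({z} : Set P) := by
      rw [Subgroup.closure_le]
      intro w hw
      simp only [Set.mem_insert_iff, Set.mem_singleton_iff] at hw
      change w ∈ Subgroup.centralizer ({z} : Set P)
      rw [Subgroup.mem_centralizer_singleton_iff]
      rcases hw with rfl | rfl | rfl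
      · exact hxz.symm
      · exact hyz.symm
      · rfl
    exact this (hgen ▸ Subgroup.mem_top g)
  have hcomm : ∀ g : P, g * z = z * g := fun g => Subgroup.mem_centralizer_singleton_iff.1 (hcen g)
  haveI hN : (Subgroup.zpowers z).Normal := by
    constructor
    rintro _ ⟨k, rfl⟩ g
    have : Commute g (z ^ k) := (show Commute g z from hcomm g).zpow_right k
    refine ⟨k, ?_⟩
    change z ^ k = g * z ^ k * g⁻¹
    rw [this.eq, mul_assoc, mul_inv_cancel, mul_one]
  have hfin : Finite (Subgroup.zpowers z) :=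
    (finite_zpowers.mpr (isOfFinOrder_iff_pow_eq_one.mpr ⟨2, by norm_num, hz⟩)).to_subtype
  have hc2 : Nat.card (Subgroup.zpowers z) ≤ 2 := by
    rw [Nat.card_zpowers]
    exact orderOf_le_of_pow_eq_one (by norm_num) hz
  obtain ⟨h1, h2⟩ := S3377.card_le'
  have hz1 : (QuotientGroup.mk' (Subgroup.zpowers z)) z = 1 := by
    rw [QuotientGroup.mk'_apply, QuotientGroup.eq_one_iff]; exact Subgroup.mem_zpowers _
  have hrel : ∀ r ∈ S3377.R, FreeGroup.lift ![QuotientGroup.mk' (Subgroup.zpowers z) x,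
      QuotientGroup.mk' (Subgroup.zpowers z) y] r = 1 := by
    intro r hr
    simp only [S3377.R, Set.mem_insert_iff, Set.mem_singleton_iff] at hr
    rcases hr with rfl | rfl | rfl
    · rw [map_pow, FreeGroup.lift_apply_of]
      change (QuotientGroup.mk' (Subgroup.zpowers z) x) ^ 3 = 1
      rw [← map_pow, hx, map_one]
    · rw [map_pow, FreeGroup.lift_apply_of]
      change (QuotientGroup.mk' (Subgroup.zpowers z) y) ^ 5 = 1
      rw [← map_pow, hy, map_one]
    · rw [map_pow, map_mul, FreeGroup.lift_apply_of, FreeGroup.lift_apply_of]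
      change (QuotientGroup.mk' (Subgroup.zpowers z) x * QuotientGroup.mk' (Subgroup.zpowers z) y) ^ 2 = 1
      rw [← map_mul, ← map_pow, hxy, hz1]
  have hsurj : Function.Surjective (PresentedGroup.toGroup hrel) := by
    have hr : (PresentedGroup.toGroup hrel).range = ⊤ := by
      rw [eq_top_iff]
      have h3 : (Subgroup.closure ({x, y, z} : Set P)).map (QuotientGroup.mk' (Subgroup.zpowers z)) = ⊤ := by
        rw [hgen, ← MonoidHom.range_eq_map, MonoidHom.range_eq_top]
        exact QuotientGroup.mk'_surjective _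
      rw [← h3, MonoidHom.map_closure, Subgroup.closure_le]
      rintro _ ⟨w, hw, rfl⟩
      simp only [Set.mem_insert_iff, Set.mem_singleton_iff] at hw
      rcases hw with rfl | rfl | rfl
      · exact ⟨PresentedGroup.of 0, by rw [PresentedGroup.toGroup.of]; rfl⟩
      · exact ⟨PresentedGroup.of 1, by rw [PresentedGroup.toGroup.of]; rfl⟩
      · rw [hz1]; exact one_mem _
    exact MonoidHom.range_eq_top.1 hr
  haveI := h1
  haveI hfq : Finite (P ⧸ Subgroup.zpowers z) := Finite.of_surjective _ hsurj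
  have hcq : Nat.card (P ⧸ Subgroup.zpowers z) ≤ 60 := (Nat.card_le_card_of_surjective _ hsurj).trans h2
  have hcard := Subgroup.card_eq_card_quotient_mul_card_subgroup (Subgroup.zpowers z)
  haveI := hfin
  have hfinP : Finite P := by
    apply Nat.finite_of_card_ne_zero
    rw [hcard]
    exact mul_ne_zero Nat.card_pos.ne' Nat.card_pos.ne'
  refine ⟨hfinP, ?_⟩
  rw [hcard]
  calc _ ≤ 60 * 2 := Nat.mul_le_mul hcq hc2
    _ = 120 := by norm_num

theorem RR_rel {r : FreeGroup (Fin 3)} (hr : r ∈ RR) : PresentedGroup.mk RR r = 1 :=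
  PresentedGroup.one_of_mem hr

theorem RR_card : Finite (PresentedGroup RR) ∧ Nat.card (PresentedGroup RR) ≤ 120 := by
  have r0 := RR_rel (r := FreeGroup.of (0 : Fin 3) ^ 3) (by simp [RR])
  have r1 := RR_rel (r := FreeGroup.of (1 : Fin 3) ^ 5) (by simp [RR])
  have r2 := RR_rel (r := FreeGroup.of (2 : Fin 3) ^ 2) (by simp [RR])
  have r3 := RR_rel (r := (FreeGroup.of (2 : Fin 3))⁻¹ * FreeGroup.of 0 * FreeGroup.of 2 * (FreeGroup.of (0 : Fin 3))⁻¹) (by simp [RR])
  have r4 := RR_rel (r := (FreeGroup.of (2 : Fin 3))⁻¹ * FreeGroup.of 1 * FreeGroup.of 2 * (FreeGroup.of (1 : Fin 3))⁻¹) (by simp [RR])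
  have r5 := RR_rel (r := (FreeGroup.of (0 : Fin 3) * FreeGroup.of 1) ^ 2 * (FreeGroup.of (2 : Fin 3))⁻¹) (by simp [RR])
  simp only [map_mul, map_pow, map_inv] at r0 r1 r2 r3 r4 r5
  refine card_le_of_rel (x := PresentedGroup.mk RR (FreeGroup.of (0 : Fin 3))) (y := PresentedGroup.mk RR (FreeGroup.of (1 : Fin 3)))
    (z := PresentedGroup.mk RR (FreeGroup.of (2 : Fin 3))) r0 r1 r2 ?_ ?_ ?_ ?_
  · have := mul_inv_eq_one.1 r3
    rw [mul_assoc, inv_mul_eq_iff_eq_mul] at this
    exact this.symm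
  · have := mul_inv_eq_one.1 r4
    rw [mul_assoc, inv_mul_eq_iff_eq_mul] at this
    exact this.symm
  · exact mul_inv_eq_one.1 r5
  · rw [eq_top_iff, ← PresentedGroup.closure_range_of, Subgroup.closure_le]
    rintro _ ⟨i, rfl⟩
    apply Subgroup.subset_closure
    fin_cases i
    · left; rfl
    · right; left; rfl
    · right; right; rfl

/-- recognition of the presented group -/
theorem equiv_of_rel {P : Type*} [Group P] {x y z : P} (hx : x ^ 3 = 1) (hy : y ^ 5 = 1) (hz : z ^ 2 = 1)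
    (hxz : z * x = x * z) (hyz : z * y = y * z) (hxy : (x * y) ^ 2 = z)
    (hgen : Subgroup.closure ({x, y, z} : Set P) = ⊤) (hc : Nat.card P = 120) :
    Nonempty (PresentedGroup RR ≃* P) := by
  obtain ⟨h1, h2⟩ := RR_card
  have hrel : ∀ r ∈ RR, FreeGroup.lift ![x, y, z] r = 1 := by
    intro r hr
    simp only [RR, Set.mem_insert_iff, Set.mem_singleton_iff] at hr
    rcases hr with rfl | rfl | rfl | rfl | rfl | rfl
    · rw [map_pow, FreeGroup.lift_apply_of]; exact hx
    · rw [map_pow, FreeGroup.lift_apply_of]; exact hy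
    · rw [map_pow, FreeGroup.lift_apply_of]; exact hz
    · simp only [map_mul, map_inv, FreeGroup.lift_apply_of]
      change z⁻¹ * x * z * x⁻¹ = 1
      rw [mul_assoc z⁻¹, ← hxz]; group
    · simp only [map_mul, map_inv, FreeGroup.lift_apply_of]
      change z⁻¹ * y * z * y⁻¹ = 1
      rw [mul_assoc z⁻¹, ← hyz]; group
    · simp only [map_mul, map_inv, map_pow, FreeGroup.lift_apply_of]
      change (x * y) ^ 2 * z⁻¹ = 1
      rw [hxy, mul_inv_cancel]
  haveI : Finite P := Nat.finite_of_card_ne_zero (by rw [hc]; norm_num)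
  refine H20.TC.equiv_of_surj h1 (PresentedGroup.toGroup hrel) ?_ (by rw [hc]; exact h2)
  rw [← MonoidHom.range_eq_top, eq_top_iff, ← hgen, Subgroup.closure_le]
  intro w hw
  simp only [Set.mem_insert_iff, Set.mem_singleton_iff] at hw
  rcases hw with rfl | rfl | rfl
  · exact ⟨PresentedGroup.of 0, by rw [PresentedGroup.toGroup.of]; rfl⟩
  · exact ⟨PresentedGroup.of 1, by rw [PresentedGroup.toGroup.of]; rfl⟩
  · exact ⟨PresentedGroup.of 2, by rw [PresentedGroup.toGroup.of]; rfl⟩

theorem card_aux : Fintype.card {v : ZMod 5 × ZMod 5 × ZMod 5 × ZMod 5 // v.1 * v.2.2.2 - v.2.1 * v.2.2.1 = 1} = 120 := by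
  decide +kernel

theorem card_SL25 : Nat.card (Matrix.SpecialLinearGroup (Fin 2) (ZMod 5)) = 120 := by
  haveI : Fact (Nat.Prime 5) := ⟨by norm_num⟩
  rw [← card_aux, ← Nat.card_eq_fintype_card]
  apply Nat.card_congr
  refine ⟨fun g => ⟨(g.1 0 0, g.1 0 1, g.1 1 0, g.1 1 1), det_eq g⟩,
    fun v => ⟨!![v.1.1, v.1.2.1; v.1.2.2.1, v.1.2.2.2], by rw [Matrix.det_fin_two_of]; exact v.2⟩, ?_, ?_⟩
  · intro g
    apply ext2 <;> rfl
  · intro v
    rfl

/-- generator of order three -/
def mx : Matrix.SpecialLinearGroup (Fin 2) (ZMod 5) := ⟨!![0, -1; 1, -1], by decide⟩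
/-- generator of order five -/
def my : Matrix.SpecialLinearGroup (Fin 2) (ZMod 5) := ⟨!![1, 1; 0, 1], by decide⟩
/-- central element -/
def mz : Matrix.SpecialLinearGroup (Fin 2) (ZMod 5) := ⟨!![-1, 0; 0, -1], by decide⟩

theorem mx3 : mx ^ 3 = 1 := by decide +kernel
theorem my5 : my ^ 5 = 1 := by decide +kernel
theorem mz2 : mz ^ 2 = 1 := by decide +kernel
theorem mzx : mz * mx = mx * mz := by decide +kernel
theorem mzy : mz * my = my * mz := by decide +kernel
theorem mxy : (mx * my) ^ 2 = mz := by decide +kernel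
theorem my_pow : ∀ t : ZMod 5, (my ^ t.val).1 = !![1, t; 0, 1] := by decide +kernel
theorem ml_eq : ∀ t : ZMod 5, (!![1, 0; t, 1] : Matrix (Fin 2) (Fin 2) (ZMod 5)) =
    (mx * my * my ^ (-t).val * (mx * my)⁻¹).1 := by decide +kernel

/-- the presentation of `SL(2,5)` -/
theorem pres_SL25 : Nonempty (PresentedGroup RR ≃* Matrix.SpecialLinearGroup (Fin 2) (ZMod 5)) := by
  haveI : Fact (Nat.Prime 5) := ⟨by norm_num⟩
  refine equiv_of_rel mx3 my5 mz2 mzx mzy mxy ?_ card_SL25
  obtain ⟨K, hK⟩ : ∃ K, K = Subgroup.closure ({mx, my, mz} : Set (Matrix.SpecialLinearGroup (Fin 2) (ZMod 5))) := ⟨_, rfl⟩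
  have hxK : mx ∈ K := by rw [hK]; exact Subgroup.subset_closure (by simp)
  have hyK : my ∈ K := by rw [hK]; exact Subgroup.subset_closure (by simp)
  rw [← hK]
  have hu : ∀ t : ZMod 5, (u t : S (ZMod 5)) ∈ K := by
    intro t
    have h : (u t : S (ZMod 5)) = my ^ t.val := Subtype.ext (my_pow t).symm
    rw [h]; exact pow_mem hyK _
  apply eq_top_of_ul K hu
  intro t
  have h : (l t : S (ZMod 5)) = mx * my * my ^ (-t).val * (mx * my)⁻¹ := Subtype.ext (ml_eq t)
  rw [h]
  exact mul_mem (mul_mem (mul_mem hxK hyK) (pow_mem hyK _)) (inv_mem (mul_mem hxK hyK))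

/-- double covers of `A₅` with a unique involution -/
theorem sl25_of_cover {K : Type*} [Group K] [Finite K] (π : K →* alternatingGroup (Fin 5)) (hs : Function.Surjective π)
    {z : K} (hπ : ∀ h, π h = 1 ↔ h = 1 ∨ h = z) (z1 : z ≠ 1) (z2 : z * z = 1) (huniq : ∀ g : K, g * g = 1 → g = 1 ∨ g = z) :
    Nonempty (K ≃* Matrix.SpecialLinearGroup (Fin 2) (ZMod 5)) := by
  have hcen : ∀ g : K, z * g = g * z := by
    intro g
    rcases huniq (g * z * g⁻¹) (by
      calc g * z * g⁻¹ * (g * z * g⁻¹) = g * (z * z) * g⁻¹ := by group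
        _ = 1 := by rw [z2]; group) with h | h
    · exfalso
      apply z1
      have : z = g⁻¹ * (g * z * g⁻¹) * g := by group
      rw [this, h]; group
    · have : g * z = z * g := by
        calc g * z = g * z * g⁻¹ * g := by group
          _ = z * g := by rw [h]
      exact this.symm
  have hc : Nat.card K = 120 := by
    have h1 := Subgroup.card_mul_index π.ker
    rw [Subgroup.index_ker, MonoidHom.range_eq_top.2 hs, Subgroup.card_top] at h1
    have h2 : Nat.card π.ker = 2 := by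
      have : (π.ker : Set K) = {1, z} := by
        ext h
        simp only [SetLike.mem_coe, MonoidHom.mem_ker, Set.mem_insert_iff, Set.mem_singleton_iff]
        exact hπ h
      change Nat.card (π.ker : Set K) = 2
      rw [Nat.card_coe_set_eq, this, Set.ncard_pair (Ne.symm z1)]
    have hA : Nat.card (alternatingGroup (Fin 5)) = 60 := by
      rw [nat_card_alternatingGroup]; simp [Nat.factorial]
    rw [← h1, h2, hA]
  have z3 : z ^ 3 = z := by rw [pow_three, z2, mul_one]
  have z5 : z ^ 5 = z := by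
    have : z ^ 5 = z * ((z * z) * (z * z)) := by simp only [pow_succ, pow_zero, one_mul, mul_assoc]
    rw [this, z2, one_mul, mul_one]
  have hπz : π z = 1 := (hπ z).2 (Or.inr rfl)
  -- lifts
  obtain ⟨x, hx, hx3⟩ : ∃ x : K, π x = S3377.ax ∧ x ^ 3 = 1 := by
    obtain ⟨x, hx⟩ := hs S3377.ax
    rcases (hπ (x ^ 3)).1 (by rw [map_pow, hx, S3377.ax3]) with h | h
    · exact ⟨x, hx, h⟩
    · refine ⟨z * x, by rw [map_mul, hπz, one_mul, hx], ?_⟩
      have hc : Commute z x := hcen x
      rw [hc.mul_pow, h, z3, z2]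
  obtain ⟨y, hy, hy5⟩ : ∃ y : K, π y = S3377.ay ∧ y ^ 5 = 1 := by
    obtain ⟨y, hy⟩ := hs S3377.ay
    rcases (hπ (y ^ 5)).1 (by rw [map_pow, hy, S3377.ay5]) with h | h
    · exact ⟨y, hy, h⟩
    · refine ⟨z * y, by rw [map_mul, hπz, one_mul, hy], ?_⟩
      have hc : Commute z y := hcen y
      rw [hc.mul_pow, h, z5, z2]
  have hxy : (x * y) ^ 2 = z := by
    rcases (hπ ((x * y) ^ 2)).1 (by rw [map_pow, map_mul, hx, hy, S3377.axy2]) with h | h
    · exfalso
      apply S3377.axy1
      rw [← hx, ← hy, ← map_mul, hπ]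
      exact huniq _ (by rw [← pow_two]; exact h)
    · exact h
  have hgen : Subgroup.closure ({x, y, z} : Set K) = ⊤ := by
    rw [eq_top_iff]
    intro g _
    have h1 : π g ∈ Subgroup.closure {S3377.ax, S3377.ay} := by rw [S3377.gen]; trivial
    have h2 : π g ∈ (Subgroup.closure ({x, y, z} : Set K)).map π := by
      refine (Subgroup.closure_le _).2 ?_ h1
      intro w hw
      simp only [Set.mem_insert_iff, Set.mem_singleton_iff] at hw
      rcases hw with rfl | rfl
      · exact ⟨x, Subgroup.subset_closure (by simp), hx⟩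
      · exact ⟨y, Subgroup.subset_closure (by simp), hy⟩
    obtain ⟨h, hh, he⟩ := h2
    have h3 : π (g * h⁻¹) = 1 := by rw [map_mul, map_inv, he, mul_inv_cancel]
    have hzc : z ∈ Subgroup.closure ({x, y, z} : Set K) := Subgroup.subset_closure (by simp)
    rcases (hπ _).1 h3 with h4 | h4
    · rw [mul_inv_eq_one.1 h4]; exact hh
    · have : g = z * h := by rw [← h4]; group
      rw [this]; exact mul_mem hzc hh
  obtain ⟨e1⟩ := equiv_of_rel hx3 hy5 (by rw [pow_two, z2]) (hcen x) (hcen y) hxy hgen hc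
  obtain ⟨e2⟩ := pres_SL25
  exact ⟨e1.symm.trans e2⟩

end Cfsg.Agent.H24.Zas
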