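import Mathlib

namespace Cfsg.Agent.H24.ModRep

open Module TensorProduct

universe u

/-- the automorphism group of an elementary abelian group acts linearly -/
def lin {M : Type*} [AddCommGroup M] (r : ℕ) [Module (ZMod r) M] : AddMonoid.End M →* End (ZMod r) M where
  toFun g := AddMonoidHom.toZModLinearMap r g
  map_one' := by ext x; rfl
  map_mul' := by intro a b; ext x; rfl

theorem lin_apply {M : Type*} [AddCommGroup M] (r : ℕ) [Module (ZMod r) M] (g : AddMonoid.End M) (x : M) :
    lin r g x = g x := rfl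

theorem exists_rep_aux {M : Type u} [AddCommGroup M] [Finite M] {r : ℕ} (hr : r.Prime) (hM : ∀ w : M, r • w = 0) :
    ∃ (𝕜 : Type) (_ : Field 𝕜) (_ : IsAlgClosed 𝕜) (_ : CharP 𝕜 r) (V : Type u) (_ : AddCommGroup V)
      (_ : Module 𝕜 V) (_ : FiniteDimensional 𝕜 V) (ρ : AddMonoid.End M →* End 𝕜 V), (∀ g, ρ g = 1 → g = 1) ∧
      (∀ (A : Type) [Group A] [Fintype A] (j : A →* AddMonoid.End M), ¬ r ∣ Fintype.card A → (∀ w, (∀ a, j a w = w) → w = 0) →
        ∀ v, (∀ a, ρ (j a) v = v) → v = 0) := by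
  haveI : Fact r.Prime := ⟨hr⟩
  letI inst : Module (ZMod r) M := AddCommGroup.zmodModule (n := r) hM
  let 𝕜 := AlgebraicClosure (ZMod r)
  haveI hc : CharP 𝕜 r := charP_of_injective_algebraMap (algebraMap (ZMod r) 𝕜).injective r
  let B : End (ZMod r) M →ₐ[ZMod r] End 𝕜 (𝕜 ⊗[ZMod r] M) :=
    Module.End.baseChangeHom (ZMod r) 𝕜 M
  haveI : Module.Free (ZMod r) M := Module.Free.of_divisionRing (ZMod r) M
  have hB : Function.Injective B := LinearMap.baseChangeHom_injective (ZMod r) M 𝕜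
  refine ⟨𝕜, inferInstance, inferInstance, hc, 𝕜 ⊗[ZMod r] M, inferInstance, inferInstance, inferInstance,
    B.toMonoidHom.comp (lin r), ?_, ?_⟩
  · intro g hg
    have h1 : lin r g = 1 := hB (by rw [map_one]; exact hg)
    ext w
    have h2 := lin_apply r g w
    rw [h1] at h2
    exact h2.symm
  · intro A _ _ j hA hfix v hv
    have h0 : ∑ a : A, lin r (j a) = 0 := by
      ext w
      have h1 : ∀ b, j b ((∑ a : A, lin r (j a)) w) = (∑ a : A, lin r (j a)) w := by
        intro b
        have h2 : lin r (j b) ((∑ a : A, lin r (j a)) w) = (∑ a : A, lin r (j a)) w := by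
          rw [LinearMap.sum_apply, map_sum]
          refine Fintype.sum_bijective (fun a => b * a) (Group.mulLeft_bijective b) _ _ ?_
          intro a
          rw [map_mul, map_mul]; rfl
        rw [← lin_apply r (j b), h2]
      rw [LinearMap.zero_apply]
      exact hfix _ h1
    have h1 : ∑ a : A, B (lin r (j a)) = 0 := by rw [← map_sum, h0, map_zero]
    have h2 : ∑ a : A, B (lin r (j a)) v = 0 := by rw [← LinearMap.sum_apply, h1, LinearMap.zero_apply]
    have h3 : ∑ a : A, B (lin r (j a)) v = (Fintype.card A : 𝕜) • v := by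
      have h4 : ∀ a, B (lin r (j a)) v = v := hv
      rw [Finset.sum_congr rfl (fun a _ => h4 a), Finset.sum_const, Finset.card_univ, Nat.cast_smul_eq_nsmul]
    rw [h3] at h2
    rcases smul_eq_zero.1 h2 with h4 | h4
    · exact absurd ((CharP.cast_eq_zero_iff 𝕜 r _).1 h4) hA
    · exact h4

theorem exists_rep_aux2 {W : Type u} [CommGroup W] [Finite W] {r : ℕ} (hr : r.Prime) (hW : ∀ w : W, w ^ r = 1) :
    ∃ (𝕜 : Type) (_ : Field 𝕜) (_ : IsAlgClosed 𝕜) (_ : CharP 𝕜 r) (V : Type u) (_ : AddCommGroup V)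
      (_ : Module 𝕜 V) (_ : FiniteDimensional 𝕜 V) (ρ : MulAut W →* End 𝕜 V), (∀ g, ρ g = 1 → g = 1) ∧
      (∀ (A : Type) [Group A] [Fintype A] (j : A →* MulAut W), ¬ r ∣ Fintype.card A → (∀ w, (∀ a, j a w = w) → w = 1) →
        ∀ v, (∀ a, ρ (j a) v = v) → v = 0) := by
  haveI : Finite (Additive W) := inferInstanceAs (Finite W)
  obtain ⟨𝕜, i1, i2, i3, V, i4, i5, i6, ρ, h1, h2⟩ := exists_rep_aux (M := Additive W) hr (by
    intro x
    exact congrArg Additive.ofMul (hW x.toMul))
  let e : MulAut W →* AddMonoid.End (Additive W) :=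
    { toFun := fun g => MonoidHom.toAdditive g.toMonoidHom
      map_one' := by
        apply AddMonoidHom.ext
        intro x; rfl
      map_mul' := by
        intro a b
        apply AddMonoidHom.ext
        intro x; rfl }
  have he : ∀ g (w : W), e g (Additive.ofMul w) = Additive.ofMul (g w) := fun g w => rfl
  refine ⟨𝕜, i1, i2, i3, V, i4, i5, i6, ρ.comp e, ?_, ?_⟩
  · intro g hg
    have := h1 _ hg
    ext w
    have h3 := he g w
    rw [this] at h3
    exact h3.symm
  · intro A _ _ j hA hfix v hv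
    refine h2 A (e.comp j) hA ?_ v hv
    intro w hw
    have h3 := hfix (Additive.toMul w) (fun a => by
      have h4 := hw a
      exact congrArg Additive.toMul h4)
    exact congrArg Additive.ofMul h3

theorem exists_rep {W : Type u} [Group W] [Finite W] (hW1 : ∀ a b : W, a * b = b * a) {r : ℕ} (hr : r.Prime)
    (hW : ∀ w : W, w ^ r = 1) :
    ∃ (𝕜 : Type) (_ : Field 𝕜) (_ : IsAlgClosed 𝕜) (_ : CharP 𝕜 r) (V : Type u) (_ : AddCommGroup V)
      (_ : Module 𝕜 V) (_ : FiniteDimensional 𝕜 V) (ρ : MulAut W →* End 𝕜 V), (∀ g, ρ g = 1 → g = 1) ∧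
      (∀ (A : Type) [Group A] [Fintype A] (j : A →* MulAut W), ¬ r ∣ Fintype.card A → (∀ w, (∀ a, j a w = w) → w = 1) →
        ∀ v, (∀ a, ρ (j a) v = v) → v = 0) :=
  @exists_rep_aux2 W { (inferInstance : Group W) with mul_comm := hW1 } _ r hr hW

end Cfsg.Agent.H24.ModRep
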