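import Mathlib

namespace Cfsg.Agent.H24.Weight

open Module

variable {𝕜 V : Type*} [Field 𝕜] [AddCommGroup V] [Module 𝕜 V]

/-- commuting endomorphisms have a common eigenvector in every invariant nonzero subspace -/
theorem common_eig [IsAlgClosed 𝕜] [FiniteDimensional 𝕜 V] (S : Set (End 𝕜 V))
    (hS : ∀ f ∈ S, ∀ g ∈ S, f * g = g * f) : ∀ (n : ℕ) (W : Submodule 𝕜 V), finrank 𝕜 W = n → W ≠ ⊥ →
      (∀ f ∈ S, ∀ w ∈ W, f w ∈ W) → ∃ w ∈ W, w ≠ 0 ∧ ∀ f ∈ S, ∃ c : 𝕜, f w = c • w := by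
  intro n
  induction n using Nat.strong_induction_on with
  | _ n ih =>
  intro W hn hW hinv
  by_cases hall : ∀ f ∈ S, ∃ c : 𝕜, ∀ w ∈ W, f w = c • w
  · obtain ⟨w, hw, hw0⟩ := W.ne_bot_iff.1 hW
    exact ⟨w, hw, hw0, fun f hf => by
      obtain ⟨c, hc⟩ := hall f hf
      exact ⟨c, hc w hw⟩⟩
  · push Not at hall
    obtain ⟨f, hf, hfc⟩ := hall
    have : Nontrivial W := Submodule.nontrivial_iff_ne_bot.2 hW
    let g : End 𝕜 W := f.restrict (hinv f hf)
    obtain ⟨c, hc⟩ := Module.End.exists_eigenvalue g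
    obtain ⟨u, hu⟩ := hc.exists_hasEigenvector
    have hu1 : f (u : V) = c • (u : V) := by
      have := hu.apply_eq_smul
      exact congrArg Subtype.val this
    have hu0 : (u : V) ≠ 0 := fun h => hu.2 (Subtype.ext h)
    let W' : Submodule 𝕜 V := W ⊓ LinearMap.ker (f - c • (1 : End 𝕜 V))
    have hW' : ∀ w, w ∈ W' ↔ w ∈ W ∧ f w = c • w := by
      intro w
      rw [Submodule.mem_inf, LinearMap.mem_ker, LinearMap.sub_apply, LinearMap.smul_apply, Module.End.one_apply,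
        sub_eq_zero]
    have hne : W' ≠ ⊥ := by
      rw [Submodule.ne_bot_iff]
      exact ⟨u, (hW' _).2 ⟨u.2, hu1⟩, hu0⟩
    have hlt : W' < W := by
      refine lt_of_le_of_ne inf_le_left fun h => ?_
      obtain ⟨w, hw, hwc⟩ := hfc c
      rw [← h] at hw
      exact hwc ((hW' w).1 hw).2
    obtain ⟨w, hw, hw0, hwS⟩ := ih (finrank 𝕜 W') (by rw [← hn]; exact Submodule.finrank_lt_finrank_of_lt hlt) W' rfl hne
      (by
        intro g hg w hw
        rw [hW'] at hw ⊢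
        refine ⟨hinv g hg w hw.1, ?_⟩
        have := congrArg (fun h : End 𝕜 V => h w) (hS f hf g hg)
        change f (g w) = g (f w) at this
        rw [this, hw.2, map_smul])
    exact ⟨w, hlt.le hw, hw0, hwS⟩

variable {Γ : Type*} [Group Γ] (ρ : Representation 𝕜 Γ V)

/-- weight space -/
def wt (N : Subgroup Γ) (l : N →* 𝕜ˣ) : Submodule 𝕜 V where
  carrier := {v | ∀ n : N, ρ n v = (l n : 𝕜) • v}
  add_mem' := by
    intro a b ha hb n
    rw [map_add, ha n, hb n, smul_add]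
  zero_mem' := by intro n; simp
  smul_mem' := by
    intro c x hx n
    rw [map_smul, hx n, smul_comm]

theorem mem_wt {N : Subgroup Γ} {l : N →* 𝕜ˣ} {v : V} : v ∈ wt ρ N l ↔ ∀ n : N, ρ n v = (l n : 𝕜) • v := Iff.rfl

theorem exists_weight_of_eig (N : Subgroup Γ) {w : V} (hw : w ≠ 0) (h : ∀ n : N, ∃ c : 𝕜, ρ n w = c • w) :
    ∃ l : N →* 𝕜ˣ, w ∈ wt ρ N l := by
  choose c hc using h
  have hinj : ∀ a b : 𝕜, a • w = b • w → a = b := by
    intro a b hab
    rw [← sub_eq_zero, ← sub_smul] at hab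
    rcases smul_eq_zero.1 hab with h | h
    · exact sub_eq_zero.1 h
    · exact absurd h hw
  let m : N →* 𝕜 :=
    { toFun := c
      map_one' := by
        apply hinj
        rw [← hc, one_smul]; simp
      map_mul' := by
        intro a b
        apply hinj
        rw [← hc, Subgroup.coe_mul, map_mul, Module.End.mul_apply, hc b, map_smul, hc a, smul_smul, mul_comm] }
  refine ⟨m.toHomUnits, fun n => ?_⟩
  rw [MonoidHom.coe_toHomUnits]
  exact hc n

theorem exists_weight [IsAlgClosed 𝕜] [FiniteDimensional 𝕜 V] (N : Subgroup Γ)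
    (hN : ∀ n ∈ N, ∀ m ∈ N, ρ n * ρ m = ρ m * ρ n) {W : Submodule 𝕜 V} (hW : W ≠ ⊥)
    (hinv : ∀ n ∈ N, ∀ w ∈ W, ρ n w ∈ W) : ∃ l : N →* 𝕜ˣ, ∃ w ∈ W, w ≠ 0 ∧ w ∈ wt ρ N l := by
  obtain ⟨w, hw, hw0, h⟩ := common_eig (ρ '' (N : Set Γ)) (by
    rintro _ ⟨n, hn, rfl⟩ _ ⟨m, hm, rfl⟩
    exact hN n hn m hm) _ W rfl hW (by
    rintro _ ⟨n, hn, rfl⟩ w hw
    exact hinv n hn w hw)
  obtain ⟨l, hl⟩ := exists_weight_of_eig ρ N hw0 (fun n => h (ρ n) ⟨n, n.2, rfl⟩)
  exact ⟨l, w, hw, hw0, hl⟩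

/-- an element of `N` acting trivially on all weights acts trivially -/
theorem trivial_of_weights [IsAlgClosed 𝕜] [FiniteDimensional 𝕜 V] [Finite Γ] (N : Subgroup Γ)
    (hN : ∀ n ∈ N, ∀ m ∈ N, ρ n * ρ m = ρ m * ρ n) (hchar : (Nat.card N : 𝕜) ≠ 0) {n : N}
    (h : ∀ l : N →* 𝕜ˣ, wt ρ N l ≠ ⊥ → l n = 1) : ρ n = 1 := by
  by_contra hne
  let W : Submodule 𝕜 V := LinearMap.range (ρ n - 1)
  have hW : W ≠ ⊥ := by
    intro h0
    rw [LinearMap.range_eq_bot] at h0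
    exact hne (sub_eq_zero.1 h0)
  obtain ⟨l, w, hw, hw0, hwl⟩ := exists_weight ρ N hN hW (by
    rintro m hm _ ⟨u, rfl⟩
    refine ⟨ρ m u, ?_⟩
    have := congrArg (fun f : End 𝕜 V => f u) (hN n n.2 m hm)
    change ρ n (ρ m u) = ρ m (ρ n u) at this
    rw [LinearMap.sub_apply, LinearMap.sub_apply, map_sub, this]
    rfl)
  have hl : l n = 1 := h l (by
    rw [Submodule.ne_bot_iff]; exact ⟨w, hwl, hw0⟩)
  have h1 : ρ n w = w := by
    have := hwl n
    rwa [hl, Units.val_one, one_smul] at this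
  obtain ⟨u, rfl⟩ := hw
  set w := (ρ n - 1) u with hwdef
  -- norm argument
  have hsum : ∀ k : ℕ, ρ ((n : Γ) ^ k) u = u + (k : 𝕜) • w := by
    intro k
    induction k with
    | zero => simp
    | succ k ih =>
      rw [pow_succ', map_mul, Module.End.mul_apply, ih, map_add, map_smul, h1]
      have : ρ n u = u + w := by
        rw [hwdef, LinearMap.sub_apply, Module.End.one_apply]; abel
      rw [this, Nat.cast_succ, add_smul, one_smul]
      abel
  have h2 := hsum (Nat.card N)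
  have h3 : (n : Γ) ^ (Nat.card N) = 1 := by
    have : n ^ (Nat.card N) = 1 := pow_card_eq_one'
    exact congrArg Subtype.val this
  rw [h3, map_one, Module.End.one_apply, left_eq_add] at h2
  rcases smul_eq_zero.1 h2 with h4 | h4
  · exact hchar h4
  · exact hw0 h4

open Classical in
/-- averaging projection -/
theorem proj_aux [Finite Γ] (N : Subgroup Γ) (l m : N →* 𝕜ˣ) {v : V} (hv : v ∈ wt ρ N m) :
    letI := Fintype.ofFinite N
    ∑ n : N, ((l n)⁻¹ : 𝕜ˣ) • ρ n v = (if m = l then (Nat.card N : 𝕜) else 0) • v := by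
  classical
  letI := Fintype.ofFinite N
  show ∑ n : N, ((l n)⁻¹ : 𝕜ˣ) • ρ n v = (if m = l then (Nat.card N : 𝕜) else 0) • v
  have h1 : ∀ n : N, ((l n)⁻¹ : 𝕜ˣ) • ρ n v = (((Units.coeHom 𝕜).comp (m * l⁻¹)) n) • v := by
    intro n
    rw [hv n, Units.smul_def, smul_smul]
    congr 1
    rw [MonoidHom.comp_apply, MonoidHom.mul_apply, MonoidHom.inv_apply, Units.coeHom_apply, Units.val_mul, mul_comm]
  rw [Finset.sum_congr rfl (fun n _ => h1 n), ← Finset.sum_smul, sum_hom_units]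
  have h2 : ((Units.coeHom 𝕜).comp (m * l⁻¹) = 1) ↔ m = l := by
    constructor
    · intro h
      ext n
      have := DFunLike.congr_fun h n
      rw [MonoidHom.comp_apply, MonoidHom.mul_apply, MonoidHom.inv_apply, Units.coeHom_apply, MonoidHom.one_apply] at this
      have h3 : m n * (l n)⁻¹ = 1 := Units.ext this
      rw [mul_inv_eq_one] at h3
      rw [h3]
    · rintro rfl
      ext n; simp
  by_cases hml : m = l
  · rw [if_pos (h2.2 hml), if_pos hml, Nat.card_eq_fintype_card]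
  · rw [if_neg (fun h => hml (h2.1 h)), if_neg hml]
    simp

/-- conjugation of characters of a normal subgroup -/
def cj (N : Subgroup Γ) [N.Normal] (g : Γ) (l : N →* 𝕜ˣ) : N →* 𝕜ˣ :=
  l.comp (MulAut.conjNormal g⁻¹ : MulAut N).toMonoidHom

theorem cj_apply (N : Subgroup Γ) [hN : N.Normal] (g : Γ) (l : N →* 𝕜ˣ) (n : N) :
    cj N g l n = l ⟨g⁻¹ * n * g, by have := hN.conj_mem n n.2 g⁻¹; rwa [inv_inv] at this⟩ := by
  rw [cj, MonoidHom.comp_apply]
  congr 1
  apply Subtype.ext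
  change ((MulAut.conjNormal g⁻¹ n : N) : Γ) = g⁻¹ * n * g
  rw [MulAut.conjNormal_apply, inv_inv]

/-- the action on characters -/
@[reducible] def charAct (𝕜 : Type*) [Field 𝕜] (N : Subgroup Γ) [hN : N.Normal] : MulDistribMulAction Γ (N →* 𝕜ˣ) where
  smul g l := cj N g l
  one_smul := by
    intro l
    ext n
    change ((cj N 1 l n : 𝕜ˣ) : 𝕜) = _
    rw [cj_apply]
    congr 2
    apply Subtype.ext
    simp
  mul_smul := by
    intro g h l
    ext n
    change ((cj N (g * h) l n : 𝕜ˣ) : 𝕜) = ((cj N g (cj N h l) n : 𝕜ˣ) : 𝕜)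
    rw [cj_apply, cj_apply, cj_apply]
    congr 2
    apply Subtype.ext
    simp [mul_assoc]
  smul_mul := by
    intro g l m
    ext n
    change ((cj N g (l * m) n : 𝕜ˣ) : 𝕜) = (((cj N g l * cj N g m) n : 𝕜ˣ) : 𝕜)
    rw [cj_apply, MonoidHom.mul_apply, MonoidHom.mul_apply, cj_apply, cj_apply]
  smul_one := by
    intro g
    ext n
    change ((cj N g 1 n : 𝕜ˣ) : 𝕜) = _
    rw [cj_apply, MonoidHom.one_apply, MonoidHom.one_apply]

theorem map_wt (N : Subgroup Γ) [hN : N.Normal] (g : Γ) {l : N →* 𝕜ˣ} {v : V} (hv : v ∈ wt ρ N l) :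
    ρ g v ∈ wt ρ N (cj N g l) := by
  intro n
  rw [cj_apply, ← map_smul, ← hv, ← Module.End.mul_apply, ← Module.End.mul_apply, ← map_mul, ← map_mul]
  congr 2
  simp [mul_assoc]

open Classical in
theorem sum_stab [Finite Γ] (N : Subgroup Γ) [hN : N.Normal] (hchar : (Nat.card N : 𝕜) ≠ 0) {A : Type*} [Group A] [Fintype A]
    (j : A →* Γ) (hfix : ∀ v : V, (∀ a : A, ρ (j a) v = v) → v = 0) {l : N →* 𝕜ˣ} {v : V} (hv : v ∈ wt ρ N l) :
    ∑ a ∈ Finset.univ.filter (fun a : A => cj N (j a) l = l), ρ (j a) v = 0 := by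
  letI := Fintype.ofFinite N
  have h0 : ∑ a : A, ρ (j a) v = 0 := by
    apply hfix
    intro b
    rw [map_sum]
    refine Fintype.sum_bijective (fun a => b * a) (Group.mulLeft_bijective b) _ _ ?_
    intro a
    rw [map_mul, map_mul, Module.End.mul_apply]
  have h1 : ∀ a : A, ∑ n : N, ((l n)⁻¹ : 𝕜ˣ) • ρ n (ρ (j a) v) =
      (if cj N (j a) l = l then (Nat.card N : 𝕜) else 0) • ρ (j a) v := fun a =>
    proj_aux ρ N l _ (map_wt ρ N (j a) hv)
  have h2 : ∑ n : N, ((l n)⁻¹ : 𝕜ˣ) • ρ n (∑ a : A, ρ (j a) v) = 0 := by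
    rw [h0]; simp
  have h3 : ∑ n : N, ((l n)⁻¹ : 𝕜ˣ) • ρ n (∑ a : A, ρ (j a) v) =
      ∑ a : A, ∑ n : N, ((l n)⁻¹ : 𝕜ˣ) • ρ n (ρ (j a) v) := by
    rw [Finset.sum_comm]
    apply Finset.sum_congr rfl
    intro n _
    rw [map_sum, Finset.smul_sum]
  rw [h3, Finset.sum_congr rfl (fun a _ => h1 a)] at h2
  have h4 : ∑ a : A, (if cj N (j a) l = l then (Nat.card N : 𝕜) else 0) • ρ (j a) v =
      (Nat.card N : 𝕜) • ∑ a ∈ Finset.univ.filter (fun a : A => cj N (j a) l = l), ρ (j a) v := by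
    rw [Finset.smul_sum, Finset.sum_filter]
    apply Finset.sum_congr rfl
    intro a _
    by_cases h : cj N (j a) l = l
    · rw [if_pos h, if_pos h]
    · rw [if_neg h, if_neg h, zero_smul]
  rw [h4] at h2
  convert (smul_eq_zero.1 h2).resolve_left hchar

end Cfsg.Agent.H24.Weight
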