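import Mathlib

/-! Quaternion frames in an algebra and the normal form of elements of order three. -/

namespace Cfsg.Agent.H24.Zas

variable {R : Type*} [Ring R]

/-- a quaternion frame -/
structure Frame (i j k : R) : Prop where
  ii : i * i = -1
  jj : j * j = -1
  kk : k * k = -1
  ij : i * j = k
  jk : j * k = i
  ki : k * i = j
  ji : j * i = -k
  kj : k * j = -i
  ik : i * k = -j

namespace Frame

variable {i j k : R} (F : Frame i j k)
include F

theorem ii' (x : R) : i * (i * x) = -x := by rw [← mul_assoc, F.ii, neg_one_mul]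
theorem jj' (x : R) : j * (j * x) = -x := by rw [← mul_assoc, F.jj, neg_one_mul]
theorem kk' (x : R) : k * (k * x) = -x := by rw [← mul_assoc, F.kk, neg_one_mul]
theorem ij' (x : R) : i * (j * x) = k * x := by rw [← mul_assoc, F.ij]
theorem jk' (x : R) : j * (k * x) = i * x := by rw [← mul_assoc, F.jk]
theorem ki' (x : R) : k * (i * x) = j * x := by rw [← mul_assoc, F.ki]
theorem ji' (x : R) : j * (i * x) = -(k * x) := by rw [← mul_assoc, F.ji, neg_mul]
theorem kj' (x : R) : k * (j * x) = -(i * x) := by rw [← mul_assoc, F.kj, neg_mul]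
theorem ik' (x : R) : i * (k * x) = -(j * x) := by rw [← mul_assoc, F.ik, neg_mul]

end Frame

/-- commutes with the frame -/
structure Com (i j k a : R) : Prop where
  ci : a * i = i * a
  cj : a * j = j * a
  ck : a * k = k * a

namespace Com

variable {i j k a b : R}

theorem ci' (A : Com i j k a) (x : R) : a * (i * x) = i * (a * x) := by rw [← mul_assoc, A.ci, mul_assoc]
theorem cj' (A : Com i j k a) (x : R) : a * (j * x) = j * (a * x) := by rw [← mul_assoc, A.cj, mul_assoc]
theorem ck' (A : Com i j k a) (x : R) : a * (k * x) = k * (a * x) := by rw [← mul_assoc, A.ck, mul_assoc]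

theorem add (A : Com i j k a) (B : Com i j k b) : Com i j k (a + b) :=
  ⟨by rw [add_mul, mul_add, A.ci, B.ci], by rw [add_mul, mul_add, A.cj, B.cj], by rw [add_mul, mul_add, A.ck, B.ck]⟩

theorem sub (A : Com i j k a) (B : Com i j k b) : Com i j k (a - b) :=
  ⟨by rw [sub_mul, mul_sub, A.ci, B.ci], by rw [sub_mul, mul_sub, A.cj, B.cj], by rw [sub_mul, mul_sub, A.ck, B.ck]⟩

theorem neg (A : Com i j k a) : Com i j k (-a) :=
  ⟨by rw [neg_mul, mul_neg, A.ci], by rw [neg_mul, mul_neg, A.cj], by rw [neg_mul, mul_neg, A.ck]⟩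

theorem mul (A : Com i j k a) (B : Com i j k b) : Com i j k (a * b) :=
  ⟨by rw [mul_assoc, B.ci, ← mul_assoc, A.ci, mul_assoc], by rw [mul_assoc, B.cj, ← mul_assoc, A.cj, mul_assoc],
    by rw [mul_assoc, B.ck, ← mul_assoc, A.ck, mul_assoc]⟩

theorem one : Com i j k (1 : R) := ⟨by simp, by simp, by simp⟩
theorem zero : Com i j k (0 : R) := ⟨by simp, by simp, by simp⟩

theorem natCast (n : ℕ) : Com i j k (n : R) :=
  ⟨(Nat.cast_comm n i), (Nat.cast_comm n j), (Nat.cast_comm n k)⟩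

theorem intCast (n : ℤ) : Com i j k (n : R) :=
  ⟨(Int.cast_comm n i), (Int.cast_comm n j), (Int.cast_comm n k)⟩

end Com

section Algebra

variable {𝕜 : Type*} [Field 𝕜] [Algebra 𝕜 R]

theorem Com.smul {i j k a : R} (c : 𝕜) (A : Com i j k a) : Com i j k (c • a) :=
  ⟨by rw [smul_mul_assoc, mul_smul_comm, A.ci], by rw [smul_mul_assoc, mul_smul_comm, A.cj],
    by rw [smul_mul_assoc, mul_smul_comm, A.ck]⟩

variable {i j k : R} (F : Frame i j k) (h2 : (2 : 𝕜) ≠ 0)
include F

theorem average (v : R) : Com i j k (v - i * v * i - j * v * j - k * v * k) := by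
  refine ⟨?_, ?_, ?_⟩
  · simp only [mul_sub, sub_mul, mul_assoc, F.ii, F.ij, F.ik, F.ji, F.jj, F.jk, F.ki, F.kj, F.kk,
      F.ii', F.ij', F.ik', F.ji', F.jj', F.jk', F.ki', F.kj', F.kk', mul_neg, neg_mul, mul_one, one_mul]
    abel
  · simp only [mul_sub, sub_mul, mul_assoc, F.ii, F.ij, F.ik, F.ji, F.jj, F.jk, F.ki, F.kj, F.kk,
      F.ii', F.ij', F.ik', F.ji', F.jj', F.jk', F.ki', F.kj', F.kk', mul_neg, neg_mul, mul_one, one_mul]
    abel
  · simp only [mul_sub, sub_mul, mul_assoc, F.ii, F.ij, F.ik, F.ji, F.jj, F.jk, F.ki, F.kj, F.kk,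
      F.ii', F.ij', F.ik', F.ji', F.jj', F.jk', F.ki', F.kj', F.kk', mul_neg, neg_mul, mul_one, one_mul]
    abel

include h2 in
theorem smul4 {x y : R} (h : (4 : ℤ) • x = (4 : ℤ) • y) : x = y := by
  have h4 : (4 : 𝕜) ≠ 0 := by
    have : (4 : 𝕜) = 2 * 2 := by norm_num
    rw [this]; exact mul_ne_zero h2 h2
  have h1 : (4 : 𝕜) • x = (4 : 𝕜) • y := by
    have e : ∀ z : R, (4 : 𝕜) • z = (4 : ℤ) • z := by
      intro z
      rw [← Int.cast_smul_eq_zsmul 𝕜]
      norm_num
    rw [e, e, h]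
  exact smul_right_injective R h4 h1

include h2 in
theorem decomp (w : R) : ∃ a b c d : R, Com i j k a ∧ Com i j k b ∧ Com i j k c ∧ Com i j k d ∧
    w = a + i * b + j * c + k * d := by
  have h4 : (4 : 𝕜) ≠ 0 := by
    have : (4 : 𝕜) = 2 * 2 := by norm_num
    rw [this]; exact mul_ne_zero h2 h2
  let A : R → R := fun v => v - i * v * i - j * v * j - k * v * k
  have hA : ∀ v, Com i j k (A v) := average F
  refine ⟨(4 : 𝕜)⁻¹ • A w, (4 : 𝕜)⁻¹ • A (-(i * w)), (4 : 𝕜)⁻¹ • A (-(j * w)), (4 : 𝕜)⁻¹ • A (-(k * w)),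
    (hA _).smul _, (hA _).smul _, (hA _).smul _, (hA _).smul _, ?_⟩
  have key : A w + i * A (-(i * w)) + j * A (-(j * w)) + k * A (-(k * w)) = (4 : ℤ) • w := by
    simp only [A, mul_sub, sub_mul, mul_assoc, F.ii, F.ij, F.ik, F.ji, F.jj, F.jk, F.ki, F.kj, F.kk,
      F.ii', F.ij', F.ik', F.ji', F.jj', F.jk', F.ki', F.kj', F.kk', mul_neg, neg_mul, mul_one, one_mul]
    abel
  rw [mul_smul_comm, mul_smul_comm, mul_smul_comm, ← smul_add, ← smul_add, ← smul_add, key,
    ← Int.cast_smul_eq_zsmul 𝕜, smul_smul]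
  have : (4 : 𝕜)⁻¹ * ((4 : ℤ) : 𝕜) = 1 := by
    push_cast
    exact inv_mul_cancel₀ h4
  rw [this, one_smul]

include h2 in
theorem uniq0 {a b c d : R} (A : Com i j k a) (B : Com i j k b) (C : Com i j k c) (D : Com i j k d)
    (h : a + i * b + j * c + k * d = 0) : a = 0 := by
  apply smul4 (𝕜 := 𝕜) F h2
  rw [smul_zero]
  have h1 : (4 : ℤ) • a = (a + i * b + j * c + k * d) - i * (a + i * b + j * c + k * d) * i -
      j * (a + i * b + j * c + k * d) * j - k * (a + i * b + j * c + k * d) * k := by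
    simp only [mul_sub, sub_mul, mul_add, add_mul, mul_assoc, F.ii, F.ij, F.ik, F.ji, F.jj, F.jk, F.ki, F.kj, F.kk,
      F.ii', F.ij', F.ik', F.ji', F.jj', F.jk', F.ki', F.kj', F.kk', mul_neg, neg_mul, mul_one, one_mul,
      A.ci, A.cj, A.ck, A.ci', A.cj', A.ck', B.ci, B.cj, B.ck, B.ci', B.cj', B.ck',
      C.ci, C.cj, C.ck, C.ci', C.cj', C.ck', D.ci, D.cj, D.ck, D.ci', D.cj', D.ck']
    abel
  rw [h1, h]
  simp

include h2 in
theorem uniq {a b c d : R} (A : Com i j k a) (B : Com i j k b) (C : Com i j k c) (D : Com i j k d)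
    (h : a + i * b + j * c + k * d = 0) : a = 0 ∧ b = 0 ∧ c = 0 ∧ d = 0 := by
  refine ⟨uniq0 F h2 A B C D h, ?_, ?_, ?_⟩
  · have h1 : (-b) + i * a + j * (-d) + k * c = 0 := by
      have h3 : (-b) + i * a + j * (-d) + k * c = i * (a + i * b + j * c + k * d) := by
        simp only [mul_add, mul_neg, F.ii', F.ij', F.ik']
        abel
      rw [h3, h, mul_zero]
    have := uniq0 F h2 B.neg A D.neg C h1
    rwa [neg_eq_zero] at this
  · have h1 : (-c) + i * d + j * a + k * (-b) = 0 := by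
      have h3 : (-c) + i * d + j * a + k * (-b) = j * (a + i * b + j * c + k * d) := by
        simp only [mul_add, mul_neg, F.ji', F.jj', F.jk']
        abel
      rw [h3, h, mul_zero]
    have := uniq0 F h2 C.neg D A B.neg h1
    rwa [neg_eq_zero] at this
  · have h1 : (-d) + i * (-c) + j * b + k * a = 0 := by
      have h3 : (-d) + i * (-c) + j * b + k * a = k * (a + i * b + j * c + k * d) := by
        simp only [mul_add, mul_neg, F.ki', F.kj', F.kk']
        abel
      rw [h3, h, mul_zero]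
    have := uniq0 F h2 D.neg C.neg B A h1
    rwa [neg_eq_zero] at this

end Algebra

end Cfsg.Agent.H24.Zas
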