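import Mathlib
import Cfsg.Agent.H24_Zas1

/-! Two elements of order three in normal position over the same tetrahedral group. -/

namespace Cfsg.Agent.H24.Zas

set_option linter.unusedSimpArgs false

variable {R : Type*} [Ring R]

section Alg

variable {𝕜 : Type*} [Field 𝕜] [Algebra 𝕜 R]

/-- integer scalars -/
theorem int_ne [Nontrivial R] {n : ℤ} (h : (n : 𝕜) ≠ 0) : (n : R) ≠ 0 := by
  intro h0
  apply h
  have h1 : algebraMap 𝕜 R (n : 𝕜) = 0 := by rw [map_intCast]; exact h0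
  exact (map_eq_zero_iff _ (algebraMap 𝕜 R).injective).1 h1

variable {i j k : R} (F : Frame i j k) (h2 : (2 : 𝕜) ≠ 0)
include F

/-- the computations for `W = j(q+1)+k(q-1)`, `W' = j(p+1)+k(p-1)` (doubled) -/
theorem comp1 {p q : R} (P : Com i j k p) (Q : Com i j k q) :
    (j * (q + 1) + k * (q - 1)) * (j * (p + 1) + k * (p - 1)) + (j * (p + 1) + k * (p - 1)) * (j * (q + 1) + k * (q - 1))
      = -(4 : ℤ) • (1 : R) - (2 : ℤ) • (p * q + q * p) := by
  simp only [mul_sub, sub_mul, mul_add, add_mul, mul_assoc, F.ii, F.ij, F.ik, F.ji, F.jj, F.jk, F.ki, F.kj, F.kk,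
      F.ii', F.ij', F.ik', F.ji', F.jj', F.jk', F.ki', F.kj', F.kk', mul_neg, neg_mul, mul_one, one_mul,
      P.ci, P.cj, P.ck, P.ci', P.cj', P.ck', Q.ci, Q.cj, Q.ck, Q.ci', Q.cj', Q.ck']
  abel

theorem comp2 {p q : R} (P : Com i j k p) (Q : Com i j k q) :
    (j * (q + 1) + k * (q - 1)) * (j * (p + 1) - k * (p - 1)) + (j * (p + 1) - k * (p - 1)) * (j * (q + 1) + k * (q - 1))
      = -(4 : ℤ) • (p + q) + (2 : ℤ) • (i * (p * q - q * p)) := by
  simp only [mul_sub, sub_mul, mul_add, add_mul, mul_assoc, F.ii, F.ij, F.ik, F.ji, F.jj, F.jk, F.ki, F.kj, F.kk,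
      F.ii', F.ij', F.ik', F.ji', F.jj', F.jk', F.ki', F.kj', F.kk', mul_neg, neg_mul, mul_one, one_mul,
      P.ci, P.cj, P.ck, P.ci', P.cj', P.ck', Q.ci, Q.cj, Q.ck, Q.ci', Q.cj', Q.ck']
  abel

theorem comp3 {p q : R} (P : Com i j k p) (Q : Com i j k q) :
    (j * (q + 1) + k * (q - 1)) * (i * (p - 1) + k * (p + 1)) + (i * (p - 1) + k * (p + 1)) * (j * (q + 1) + k * (q - 1))
      = (2 : ℤ) • (1 : R) - (p * q + q * p) - (2 : ℤ) • (q - p) - i * (p * q - q * p) - j * (p * q - q * p)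
        + k * (p * q - q * p) := by
  simp only [mul_sub, sub_mul, mul_add, add_mul, mul_assoc, F.ii, F.ij, F.ik, F.ji, F.jj, F.jk, F.ki, F.kj, F.kk,
      F.ii', F.ij', F.ik', F.ji', F.jj', F.jk', F.ki', F.kj', F.kk', mul_neg, neg_mul, mul_one, one_mul,
      P.ci, P.cj, P.ck, P.ci', P.cj', P.ck', Q.ci, Q.cj, Q.ck, Q.ci', Q.cj', Q.ck']
  abel

theorem comp3sq {p q : R} (P : Com i j k p) (Q : Com i j k q) (pp : p * p = (5 : ℤ) • (1 : R)) (qq : q * q = (5 : ℤ) • (1 : R)) :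
    ((2 : ℤ) • (1 : R) - (p * q + q * p) - (2 : ℤ) • (q - p) - i * (p * q - q * p) - j * (p * q - q * p)
        + k * (p * q - q * p)) * ((2 : ℤ) • (1 : R) - (p * q + q * p) - (2 : ℤ) • (q - p) - i * (p * q - q * p) - j * (p * q - q * p)
        + k * (p * q - q * p)) =
      (((2 : ℤ) • (1 : R) - (p * q + q * p)) * ((2 : ℤ) • (1 : R) - (p * q + q * p)) + (4 : ℤ) • ((q - p) * (q - p))
        - (3 : ℤ) • ((p * q - q * p) * (p * q - q * p)) - (4 : ℤ) • (((2 : ℤ) • (1 : R) - (p * q + q * p)) * (q - p)))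
        + i * ((-2 : ℤ) • (((2 : ℤ) • (1 : R) - (p * q + q * p)) * (p * q - q * p)))
        + j * ((-2 : ℤ) • (((2 : ℤ) • (1 : R) - (p * q + q * p)) * (p * q - q * p)))
        + k * ((2 : ℤ) • (((2 : ℤ) • (1 : R) - (p * q + q * p)) * (p * q - q * p))) := by
  have pp' : ∀ x, p * (p * x) = (5 : ℤ) • x := fun x => by rw [← mul_assoc, pp, smul_mul_assoc, one_mul]
  have qq' : ∀ x, q * (q * x) = (5 : ℤ) • x := fun x => by rw [← mul_assoc, qq, smul_mul_assoc, one_mul]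
  simp only [mul_sub, sub_mul, mul_add, add_mul, mul_assoc, F.ii, F.ij, F.ik, F.ji, F.jj, F.jk, F.ki, F.kj, F.kk,
      F.ii', F.ij', F.ik', F.ji', F.jj', F.jk', F.ki', F.kj', F.kk', mul_neg, neg_mul, mul_one, one_mul,
      P.ci, P.cj, P.ck, P.ci', P.cj', P.ck', Q.ci, Q.cj, Q.ck, Q.ci', Q.cj', Q.ck', pp, qq, pp', qq',
      mul_smul_comm, smul_mul_assoc, smul_sub, smul_add, smul_neg, smul_smul]
  abel

theorem comp2sq {p q : R} (P : Com i j k p) (Q : Com i j k q) (pp : p * p = (5 : ℤ) • (1 : R)) (qq : q * q = (5 : ℤ) • (1 : R)) :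
    (-(4 : ℤ) • (p + q) + (2 : ℤ) • (i * (p * q - q * p))) * (-(4 : ℤ) • (p + q) + (2 : ℤ) • (i * (p * q - q * p))) =
      (160 : ℤ) • (1 : R) + (16 : ℤ) • (p * q + q * p) - (4 : ℤ) • ((p * q - q * p) * (p * q - q * p)) := by
  have pp' : ∀ x, p * (p * x) = (5 : ℤ) • x := fun x => by rw [← mul_assoc, pp, smul_mul_assoc, one_mul]
  have qq' : ∀ x, q * (q * x) = (5 : ℤ) • x := fun x => by rw [← mul_assoc, qq, smul_mul_assoc, one_mul]
  simp only [mul_sub, sub_mul, mul_add, add_mul, mul_assoc, F.ii, F.ij, F.ik, F.ji, F.jj, F.jk, F.ki, F.kj, F.kk,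
      F.ii', F.ij', F.ik', F.ji', F.jj', F.jk', F.ki', F.kj', F.kk', mul_neg, neg_mul, mul_one, one_mul,
      P.ci, P.cj, P.ck, P.ci', P.cj', P.ck', Q.ci, Q.cj, Q.ck, Q.ci', Q.cj', Q.ck', pp, qq, pp', qq',
      mul_smul_comm, smul_mul_assoc, smul_sub, smul_add, smul_neg, smul_smul]
  abel

omit F [Algebra 𝕜 R] [Field 𝕜] in
theorem compMN {p q : R} (pp : p * p = (5 : ℤ) • (1 : R)) (qq : q * q = (5 : ℤ) • (1 : R)) :
    (p * q - q * p) * (p * q - q * p) = (p * q + q * p) * (p * q + q * p) - (100 : ℤ) • (1 : R) := by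
  have pp' : ∀ x, p * (p * x) = (5 : ℤ) • x := fun x => by rw [← mul_assoc, pp, smul_mul_assoc, one_mul]
  have qq' : ∀ x, q * (q * x) = (5 : ℤ) • x := fun x => by rw [← mul_assoc, qq, smul_mul_assoc, one_mul]
  simp only [mul_sub, sub_mul, mul_add, add_mul, mul_assoc, mul_neg, neg_mul, mul_one, one_mul, pp, qq, pp', qq',
      mul_smul_comm, smul_mul_assoc, smul_sub, smul_add, smul_neg, smul_smul]
  abel

include h2 in
theorem pow2_ne [Nontrivial R] (n : ℕ) : ((2 : ℤ) ^ n) • (1 : R) ≠ 0 := by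
  intro h
  have h1 : ((((2 : ℤ) ^ n : ℤ) : 𝕜)) • (1 : R) = 0 := by rw [Int.cast_smul_eq_zsmul]; exact h
  rcases smul_eq_zero.1 h1 with h3 | h3
  · push_cast at h3
    exact pow_ne_zero n h2 h3
  · exact one_ne_zero h3

include h2 in
/-- two elements in normal position are equal, up to the tetrahedral group -/
theorem lemB [Nontrivial R] {p q : R} (P : Com i j k p) (Q : Com i j k q) (pp : p * p = (5 : ℤ) • (1 : R))
    (qq : q * q = (5 : ℤ) • (1 : R)) {A1 A2 A3 : R}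
    (hA1 : A1 = (j * (q + 1) + k * (q - 1)) * (j * (p + 1) + k * (p - 1)) + (j * (p + 1) + k * (p - 1)) * (j * (q + 1) + k * (q - 1)))
    (hA2 : A2 = (j * (q + 1) + k * (q - 1)) * (j * (p + 1) - k * (p - 1)) + (j * (p + 1) - k * (p - 1)) * (j * (q + 1) + k * (q - 1)))
    (hA3 : A3 = (j * (q + 1) + k * (q - 1)) * (i * (p - 1) + k * (p + 1)) + (i * (p - 1) + k * (p + 1)) * (j * (q + 1) + k * (q - 1)))
    (t1 : A1 = (8 : ℤ) • 1 ∨ A1 = (-8 : ℤ) • 1 ∨ A1 * A1 = (320 : ℤ) • 1)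
    (t2 : A2 = (8 : ℤ) • 1 ∨ A2 = (-8 : ℤ) • 1 ∨ A2 * A2 = (320 : ℤ) • 1)
    (t3 : A3 = (8 : ℤ) • 1 ∨ A3 = (-8 : ℤ) • 1 ∨ A3 * A3 = (320 : ℤ) • 1) : False := by
  rw [comp1 F P Q] at hA1
  rw [comp2 F P Q] at hA2
  rw [comp3 F P Q] at hA3
  have hA3' := comp3sq F P Q pp qq
  have hA2' := comp2sq F P Q pp qq
  rw [← hA3] at hA3'
  rw [← hA2] at hA2'
  have hMN := compMN pp qq
  set M := p * q + q * p with hM
  set N := p * q - q * p with hN
  have cM : Com i j k M := (P.mul Q).add (Q.mul P)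
  have cN : Com i j k N := (P.mul Q).sub (Q.mul P)
  have hz : ∀ n : ℤ, Com i j k (n • (1 : R)) := fun n => by
    have : n • (1 : R) = (n : R) := zsmul_one n
    rw [this]; exact Com.intCast n
  have hzs : ∀ (n : ℤ) {a : R}, Com i j k a → Com i j k (n • a) := fun n a ha => by
    have : n • a = (n • (1 : R)) * a := by rw [smul_mul_assoc, one_mul]
    rw [this]; exact (hz n).mul ha
  have hsq : ∃ c : ℤ, A3 * A3 = c • (1 : R) := by
    rcases t3 with h | h | h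
    · exact ⟨64, by rw [h, smul_mul_smul_comm, mul_one]; norm_num⟩
    · exact ⟨64, by rw [h, smul_mul_smul_comm, mul_one]; norm_num⟩
    · exact ⟨320, h⟩
  obtain ⟨c, hc⟩ := hsq
  rw [hc] at hA3'
  -- the `i`-component
  have hE : ((2 : ℤ) • (1 : R) - M) * N = 0 := by
    have hcE : Com i j k (((2 : ℤ) • (1 : R) - M) * N) := ((hz 2).sub cM).mul cN
    have h0 : Com i j k ((((2 : ℤ) • (1 : R) - M) * ((2 : ℤ) • (1 : R) - M) + (4 : ℤ) • ((q - p) * (q - p))
        - (3 : ℤ) • (N * N) - (4 : ℤ) • (((2 : ℤ) • (1 : R) - M) * (q - p))) - c • (1 : R)) :=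
      (((((hz 2).sub cM).mul ((hz 2).sub cM)).add (hzs 4 ((Q.sub P).mul (Q.sub P)))).sub (hzs 3 (cN.mul cN))).sub
        (hzs 4 (((hz 2).sub cM).mul (Q.sub P))) |>.sub (hz c)
    have h1 := uniq F h2 h0 (hzs (-2) hcE) (hzs (-2) hcE) (hzs 2 hcE) (by
      rw [eq_comm, ← sub_eq_zero] at hA3'
      rw [← hA3']; abel)
    have h3 := h1.2.2.2
    have h4 : (2 : 𝕜) • (((2 : ℤ) • (1 : R) - M) * N) = 0 := by
      have : (2 : 𝕜) = ((2 : ℤ) : 𝕜) := by norm_num
      rw [this, Int.cast_smul_eq_zsmul]; exact h3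
    exact (smul_eq_zero.1 h4).resolve_left h2
  have hcancel : ∀ (n : ℕ) {x : R}, ((2 : ℤ) ^ n) • x = 0 → x = 0 := by
    intro n x hx
    have h1 : ((((2 : ℤ) ^ n : ℤ) : 𝕜)) • x = 0 := by rw [Int.cast_smul_eq_zsmul]; exact hx
    refine (smul_eq_zero.1 h1).resolve_left ?_
    push_cast
    exact pow_ne_zero n h2
  rcases t1 with h | h | h
  · -- `M = -6`
    rw [h] at hA1
    have hM6 : M = (-6 : ℤ) • (1 : R) := by
      have : ((2 : ℤ) ^ 1) • (M - (-6 : ℤ) • (1 : R)) = 0 := by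
        have e : ((2 : ℤ) ^ 1) • (M - (-6 : ℤ) • (1 : R)) = (8 : ℤ) • (1 : R) - (-(4 : ℤ) • (1 : R) - (2 : ℤ) • M) := by
          rw [pow_one, smul_sub, smul_smul]
          have : (8 : ℤ) • (1 : R) - (-(4 : ℤ) • (1 : R) - (2 : ℤ) • M) = (2 : ℤ) • M + (12 : ℤ) • (1 : R) := by abel
          rw [this]; norm_num
        rw [e, ← hA1, sub_self]
      exact sub_eq_zero.1 (hcancel 1 this)
    rw [hM6] at hE hMN
    have hN0 : N = 0 := by
      apply hcancel 3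
      rw [← hE, ← sub_smul, smul_mul_assoc, one_mul]
      norm_num
    rw [hN0, mul_zero, smul_mul_smul_comm, mul_one, ← sub_smul] at hMN
    apply pow2_ne F h2 6
    have := hMN.symm
    rw [← neg_eq_zero, ← neg_smul] at this
    rw [← this]; norm_num
  · -- `M = 2`
    rw [h] at hA1
    have hM2 : M = (2 : ℤ) • (1 : R) := by
      have : ((2 : ℤ) ^ 1) • (M - (2 : ℤ) • (1 : R)) = 0 := by
        have e : ((2 : ℤ) ^ 1) • (M - (2 : ℤ) • (1 : R)) = (-8 : ℤ) • (1 : R) - (-(4 : ℤ) • (1 : R) - (2 : ℤ) • M) := by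
          rw [pow_one, smul_sub, smul_smul]
          have : (-8 : ℤ) • (1 : R) - (-(4 : ℤ) • (1 : R) - (2 : ℤ) • M) = (2 : ℤ) • M - (4 : ℤ) • (1 : R) := by abel
          rw [this]; norm_num
        rw [e, ← hA1, sub_self]
      exact sub_eq_zero.1 (hcancel 1 this)
    rw [hMN, hM2] at hA2'
    rw [smul_mul_smul_comm, mul_one, ← sub_smul, smul_smul, smul_smul, ← add_smul, ← sub_smul] at hA2'
    have hA2'' : A2 * A2 = (576 : ℤ) • (1 : R) := by
      rw [hA2']; congr 1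
    clear hA2'
    rename A2 * A2 = (576 : ℤ) • (1 : R) => hA2'
    rcases t2 with h3 | h3 | h3
    · rw [h3, smul_mul_smul_comm, mul_one, ← sub_eq_zero, ← sub_smul] at hA2'
      apply pow2_ne F h2 9
      rw [← neg_eq_zero, ← neg_smul, ← hA2']; norm_num
    · rw [h3, smul_mul_smul_comm, mul_one, ← sub_eq_zero, ← sub_smul] at hA2'
      apply pow2_ne F h2 9
      rw [← neg_eq_zero, ← neg_smul, ← hA2']; norm_num
    · rw [h3, ← sub_eq_zero, ← sub_smul] at hA2'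
      apply pow2_ne F h2 8
      rw [← neg_eq_zero, ← neg_smul, ← hA2']; norm_num
  · -- `M ^ 2 = 76 - 4 M`
    rw [hA1] at h
    have hMM : M * M = (76 : ℤ) • (1 : R) - (4 : ℤ) • M := by
      have : ((2 : ℤ) ^ 2) • (M * M - ((76 : ℤ) • (1 : R) - (4 : ℤ) • M)) = 0 := by
        have e : ((2 : ℤ) ^ 2) • (M * M - ((76 : ℤ) • (1 : R) - (4 : ℤ) • M)) =
            (-(4 : ℤ) • (1 : R) - (2 : ℤ) • M) * (-(4 : ℤ) • (1 : R) - (2 : ℤ) • M) - (320 : ℤ) • (1 : R) := by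
          simp only [mul_sub, sub_mul, mul_add, add_mul, mul_assoc, mul_neg, neg_mul, mul_one, one_mul,
            mul_smul_comm, smul_mul_assoc, smul_sub, smul_add, smul_neg, smul_smul]
          module
        rw [e, h, sub_self]
      exact sub_eq_zero.1 (hcancel 2 this)
    have h3 : ((2 : ℤ) • (1 : R) - M) * (N * N) = 0 := by rw [← mul_assoc, hE, zero_mul]
    rw [hMN, hMM] at h3
    have h4 : ((2 : ℤ) • (1 : R) - M) * ((76 : ℤ) • (1 : R) - (4 : ℤ) • M - (100 : ℤ) • (1 : R)) =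
        (-48 : ℤ) • (1 : R) + (16 : ℤ) • M + (4 : ℤ) • (M * M) := by
      simp only [mul_sub, sub_mul, mul_add, add_mul, mul_assoc, mul_neg, neg_mul, mul_one, one_mul,
            mul_smul_comm, smul_mul_assoc, smul_sub, smul_add, smul_neg, smul_smul]
      module
    rw [h4, hMM] at h3
    have h5 : (-48 : ℤ) • (1 : R) + (16 : ℤ) • M + (4 : ℤ) • ((76 : ℤ) • (1 : R) - (4 : ℤ) • M) = ((2 : ℤ) ^ 8) • (1 : R) := by
      module
    rw [h5] at h3
    exact pow2_ne F h2 8 h3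

end Alg

end Cfsg.Agent.H24.Zas
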