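import Mathlib
import Cfsg.Agent.H24_Zas2

/-! Normal form of an element of order three with respect to a tetrahedral group. -/

namespace Cfsg.Agent.H24.Zas

section Comb

variable {A : Type*} [CommRing A]

theorem two_aux (h64 : (64 : A) ≠ 0) {c d e : A} (hc : c ^ 2 = 5) (hd : d ^ 2 = 5) (he : e ^ 2 = 1) (h : c + d = 2 * e) :
    False := by
  have h1 : 2 * c * d = -6 := by linear_combination (c + d + 2 * e) * h - hc - hd + 4 * he
  apply h64
  have h3 : 4 * (c ^ 2 * d ^ 2) = 36 := by linear_combination (2 * c * d - 6) * h1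
  rw [hc, hd] at h3
  linear_combination h3

theorem comb (h4 : (4 : A) ≠ 0) (h8 : (8 : A) ≠ 0) (h64 : (64 : A) ≠ 0) {L1 L2 L3 L4 : A} (hs : L1 + L2 + L3 + L4 = 0)
    (hq : L1 ^ 2 + L2 ^ 2 + L3 ^ 2 + L4 ^ 2 = 12)
    (t1 : L1 = 1 ∨ L1 = -1 ∨ L1 ^ 2 = 5) (t2 : L2 = 1 ∨ L2 = -1 ∨ L2 ^ 2 = 5) (t3 : L3 = 1 ∨ L3 = -1 ∨ L3 ^ 2 = 5)
    (t4 : L4 = 1 ∨ L4 = -1 ∨ L4 ^ 2 = 5) :
    (L3 = 1 ∧ L4 = -1 ∧ L1 ^ 2 = 5 ∧ L2 ^ 2 = 5) ∨ (L4 = 1 ∧ L3 = -1 ∧ L1 ^ 2 = 5 ∧ L2 ^ 2 = 5) ∨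
    (L1 = 1 ∧ L2 = -1 ∧ L3 ^ 2 = 5 ∧ L4 ^ 2 = 5) ∨ (L2 = 1 ∧ L1 = -1 ∧ L3 ^ 2 = 5 ∧ L4 ^ 2 = 5) ∨
    (L4 = 1 ∧ L2 = -1 ∧ L1 ^ 2 = 5 ∧ L3 ^ 2 = 5) ∨ (L2 = 1 ∧ L4 = -1 ∧ L1 ^ 2 = 5 ∧ L3 ^ 2 = 5) ∨
    (L1 = 1 ∧ L3 = -1 ∧ L2 ^ 2 = 5 ∧ L4 ^ 2 = 5) ∨ (L3 = 1 ∧ L1 = -1 ∧ L2 ^ 2 = 5 ∧ L4 ^ 2 = 5) ∨
    (L2 = 1 ∧ L3 = -1 ∧ L1 ^ 2 = 5 ∧ L4 ^ 2 = 5) ∨ (L3 = 1 ∧ L2 = -1 ∧ L1 ^ 2 = 5 ∧ L4 ^ 2 = 5) ∨
    (L1 = 1 ∧ L4 = -1 ∧ L2 ^ 2 = 5 ∧ L3 ^ 2 = 5) ∨ (L4 = 1 ∧ L1 = -1 ∧ L2 ^ 2 = 5 ∧ L3 ^ 2 = 5) := by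
  have key : ∀ {L : A}, (L = 1 ∨ L = -1 ∨ L ^ 2 = 5) → (L ^ 2 = 1 ∧ (L = 1 ∨ L = -1)) ∨ L ^ 2 = 5 := by
    rintro L (h | h | h)
    · left; exact ⟨by rw [h]; ring, Or.inl h⟩
    · left; exact ⟨by rw [h]; ring, Or.inr h⟩
    · right; exact h
  have n1 : (1 : A) ^ 2 = 1 := by ring
  have n2 : (-1 : A) ^ 2 = 1 := by ring
  rcases key t1 with ⟨s1, t1⟩ | s1 <;> rcases key t2 with ⟨s2, t2⟩ | s2 <;> rcases key t3 with ⟨s3, t3⟩ | s3 <;>
    rcases key t4 with ⟨s4, t4⟩ | s4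
  · exact absurd (show (8 : A) = 0 by linear_combination -hq + s1 + s2 + s3 + s4) h8
  · exact absurd (show (4 : A) = 0 by linear_combination -hq + s1 + s2 + s3 + s4) h4
  · exact absurd (show (4 : A) = 0 by linear_combination -hq + s1 + s2 + s3 + s4) h4
  · rcases t1 with t1 | t1 <;> rcases t2 with t2 | t2
    · exact (two_aux h64 s3 s4 n2 (by rw [t1, t2] at hs; linear_combination hs)).elim
    · simp only [t1, t2, s3, s4, and_self, true_or, or_true]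
    · simp only [t1, t2, s3, s4, and_self, true_or, or_true]
    · exact (two_aux h64 s3 s4 n1 (by rw [t1, t2] at hs; linear_combination hs)).elim
  · exact absurd (show (4 : A) = 0 by linear_combination -hq + s1 + s2 + s3 + s4) h4
  · rcases t1 with t1 | t1 <;> rcases t3 with t3 | t3
    · exact (two_aux h64 s2 s4 n2 (by rw [t1, t3] at hs; linear_combination hs)).elim
    · simp only [t1, t3, s2, s4, and_self, true_or, or_true]
    · simp only [t1, t3, s2, s4, and_self, true_or, or_true]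
    · exact (two_aux h64 s2 s4 n1 (by rw [t1, t3] at hs; linear_combination hs)).elim
  · rcases t1 with t1 | t1 <;> rcases t4 with t4 | t4
    · exact (two_aux h64 s2 s3 n2 (by rw [t1, t4] at hs; linear_combination hs)).elim
    · simp only [t1, t4, s2, s3, and_self, true_or, or_true]
    · simp only [t1, t4, s2, s3, and_self, true_or, or_true]
    · exact (two_aux h64 s2 s3 n1 (by rw [t1, t4] at hs; linear_combination hs)).elim
  · exact absurd (show (4 : A) = 0 by linear_combination hq - s1 - s2 - s3 - s4) h4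
  · exact absurd (show (4 : A) = 0 by linear_combination -hq + s1 + s2 + s3 + s4) h4
  · rcases t2 with t2 | t2 <;> rcases t3 with t3 | t3
    · exact (two_aux h64 s1 s4 n2 (by rw [t2, t3] at hs; linear_combination hs)).elim
    · simp only [t2, t3, s1, s4, and_self, true_or, or_true]
    · simp only [t2, t3, s1, s4, and_self, true_or, or_true]
    · exact (two_aux h64 s1 s4 n1 (by rw [t2, t3] at hs; linear_combination hs)).elim
  · rcases t2 with t2 | t2 <;> rcases t4 with t4 | t4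
    · exact (two_aux h64 s1 s3 n2 (by rw [t2, t4] at hs; linear_combination hs)).elim
    · simp only [t2, t4, s1, s3, and_self, true_or, or_true]
    · simp only [t2, t4, s1, s3, and_self, true_or, or_true]
    · exact (two_aux h64 s1 s3 n1 (by rw [t2, t4] at hs; linear_combination hs)).elim
  · exact absurd (show (4 : A) = 0 by linear_combination hq - s1 - s2 - s3 - s4) h4
  · rcases t3 with t3 | t3 <;> rcases t4 with t4 | t4
    · exact (two_aux h64 s1 s2 n2 (by rw [t3, t4] at hs; linear_combination hs)).elim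
    · simp only [t3, t4, s1, s2, and_self, true_or, or_true]
    · simp only [t3, t4, s1, s2, and_self, true_or, or_true]
    · exact (two_aux h64 s1 s2 n1 (by rw [t3, t4] at hs; linear_combination hs)).elim
  · exact absurd (show (4 : A) = 0 by linear_combination hq - s1 - s2 - s3 - s4) h4
  · exact absurd (show (4 : A) = 0 by linear_combination hq - s1 - s2 - s3 - s4) h4
  · exact absurd (show (8 : A) = 0 by linear_combination hq - s1 - s2 - s3 - s4) h8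

end Comb

set_option linter.unusedSimpArgs false

section Norm

variable {R : Type*} [Ring R] {𝕜 : Type*} [Field 𝕜] [Algebra 𝕜 R]
variable {i j k : R} (F : Frame i j k) (h2 : (2 : 𝕜) ≠ 0)
include F

theorem anti1 {a b c d : R} (A : Com i j k a) (B : Com i j k b) (C : Com i j k c) (D : Com i j k d) :
    (a + i * b + j * c + k * d) * (i + j + k) + (i + j + k) * (a + i * b + j * c + k * d) =
      (-2 : ℤ) • (b + c + d) + i * ((2 : ℤ) • a) + j * ((2 : ℤ) • a) + k * ((2 : ℤ) • a) := by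
  simp only [mul_sub, sub_mul, mul_add, add_mul, mul_assoc, F.ii, F.ij, F.ik, F.ji, F.jj, F.jk, F.ki, F.kj, F.kk,
      F.ii', F.ij', F.ik', F.ji', F.jj', F.jk', F.ki', F.kj', F.kk', mul_neg, neg_mul, mul_one, one_mul,
      A.ci, A.cj, A.ck, B.ci, B.cj, B.ck, C.ci, C.cj, C.ck, D.ci, D.cj, D.ck, mul_smul_comm]
  abel

theorem anti2 {a b c d : R} (A : Com i j k a) (B : Com i j k b) (C : Com i j k c) (D : Com i j k d) :
    (a + i * b + j * c + k * d) * (i - j - k) + (i - j - k) * (a + i * b + j * c + k * d) =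
      (-2 : ℤ) • (b - c - d) + i * ((2 : ℤ) • a) + j * ((-2 : ℤ) • a) + k * ((-2 : ℤ) • a) := by
  simp only [mul_sub, sub_mul, mul_add, add_mul, mul_assoc, F.ii, F.ij, F.ik, F.ji, F.jj, F.jk, F.ki, F.kj, F.kk,
      F.ii', F.ij', F.ik', F.ji', F.jj', F.jk', F.ki', F.kj', F.kk', mul_neg, neg_mul, mul_one, one_mul,
      A.ci, A.cj, A.ck, B.ci, B.cj, B.ck, C.ci, C.cj, C.ck, D.ci, D.cj, D.ck, mul_smul_comm]
  abel

theorem anti3 {a b c d : R} (A : Com i j k a) (B : Com i j k b) (C : Com i j k c) (D : Com i j k d) :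
    (a + i * b + j * c + k * d) * (-i + j - k) + (-i + j - k) * (a + i * b + j * c + k * d) =
      (-2 : ℤ) • (-b + c - d) + i * ((-2 : ℤ) • a) + j * ((2 : ℤ) • a) + k * ((-2 : ℤ) • a) := by
  simp only [mul_sub, sub_mul, mul_add, add_mul, mul_assoc, F.ii, F.ij, F.ik, F.ji, F.jj, F.jk, F.ki, F.kj, F.kk,
      F.ii', F.ij', F.ik', F.ji', F.jj', F.jk', F.ki', F.kj', F.kk', mul_neg, neg_mul, mul_one, one_mul,
      A.ci, A.cj, A.ck, B.ci, B.cj, B.ck, C.ci, C.cj, C.ck, D.ci, D.cj, D.ck, mul_smul_comm]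
  abel

theorem anti4 {a b c d : R} (A : Com i j k a) (B : Com i j k b) (C : Com i j k c) (D : Com i j k d) :
    (a + i * b + j * c + k * d) * (-i - j + k) + (-i - j + k) * (a + i * b + j * c + k * d) =
      (-2 : ℤ) • (-b - c + d) + i * ((-2 : ℤ) • a) + j * ((-2 : ℤ) • a) + k * ((2 : ℤ) • a) := by
  simp only [mul_sub, sub_mul, mul_add, add_mul, mul_assoc, F.ii, F.ij, F.ik, F.ji, F.jj, F.jk, F.ki, F.kj, F.kk,
      F.ii', F.ij', F.ik', F.ji', F.jj', F.jk', F.ki', F.kj', F.kk', mul_neg, neg_mul, mul_one, one_mul,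
      A.ci, A.cj, A.ck, B.ci, B.cj, B.ck, C.ci, C.cj, C.ck, D.ci, D.cj, D.ck, mul_smul_comm]
  abel

theorem sqform {b c d : R} (B : Com i j k b) (C : Com i j k c) (D : Com i j k d) :
    (i * b + j * c + k * d) * (i * b + j * c + k * d) =
      -(b * b + c * c + d * d) + i * (c * d - d * c) + j * (d * b - b * d) + k * (b * c - c * b) := by
  simp only [mul_sub, sub_mul, mul_add, add_mul, mul_assoc, F.ii, F.ij, F.ik, F.ji, F.jj, F.jk, F.ki, F.kj, F.kk,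
      F.ii', F.ij', F.ik', F.ji', F.jj', F.jk', F.ki', F.kj', F.kk', mul_neg, neg_mul, mul_one, one_mul,
      B.ci, B.cj, B.ck, C.ci, C.cj, C.ck, D.ci, D.cj, D.ck, B.ci', B.cj', B.ck', C.ci', C.cj', C.ck',
      D.ci', D.cj', D.ck', mul_smul_comm]
  abel

theorem conj_i {b c d : R} (B : Com i j k b) (C : Com i j k c) (D : Com i j k d) :
    -(i * (i * b + j * c + k * d) * i) = i * b + j * (-c) + k * (-d) := by
  simp only [mul_sub, sub_mul, mul_add, add_mul, mul_assoc, F.ii, F.ij, F.ik, F.ji, F.jj, F.jk, F.ki, F.kj, F.kk,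
      F.ii', F.ij', F.ik', F.ji', F.jj', F.jk', F.ki', F.kj', F.kk', mul_neg, neg_mul, mul_one, one_mul,
      B.ci, B.cj, B.ck, C.ci, C.cj, C.ck, D.ci, D.cj, D.ck, B.ci', B.cj', B.ck', C.ci', C.cj', C.ck',
      D.ci', D.cj', D.ck', mul_smul_comm]
  abel

theorem conj_j {b c d : R} (B : Com i j k b) (C : Com i j k c) (D : Com i j k d) :
    -(j * (i * b + j * c + k * d) * j) = i * (-b) + j * c + k * (-d) := by
  simp only [mul_sub, sub_mul, mul_add, add_mul, mul_assoc, F.ii, F.ij, F.ik, F.ji, F.jj, F.jk, F.ki, F.kj, F.kk,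
      F.ii', F.ij', F.ik', F.ji', F.jj', F.jk', F.ki', F.kj', F.kk', mul_neg, neg_mul, mul_one, one_mul,
      B.ci, B.cj, B.ck, C.ci, C.cj, C.ck, D.ci, D.cj, D.ck, B.ci', B.cj', B.ck', C.ci', C.cj', C.ck',
      D.ci', D.cj', D.ck', mul_smul_comm]
  abel

include h2 in
theorem conj_x {x b c d : R} (hx : (2 : ℤ) • x = -1 + i + j + k) (B : Com i j k b) (C : Com i j k c) (D : Com i j k d) :
    x * (i * b + j * c + k * d) * (x * x) = i * c + j * d + k * b := by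
  have h1 : (2 : ℤ) • (x * x) = -1 - i - j - k := by
    apply smul4 (𝕜 := 𝕜) F h2
    have e : (4 : ℤ) • ((2 : ℤ) • (x * x)) = (2 : ℤ) • (((2 : ℤ) • x) * ((2 : ℤ) • x)) := by
      rw [smul_mul_smul_comm, smul_smul, smul_smul]; norm_num
    rw [e, hx]
    simp only [mul_sub, sub_mul, mul_add, add_mul, mul_assoc, F.ii, F.ij, F.ik, F.ji, F.jj, F.jk, F.ki, F.kj, F.kk,
      mul_neg, neg_mul, mul_one, one_mul]
    abel
  apply smul4 (𝕜 := 𝕜) F h2
  have e : (4 : ℤ) • (x * (i * b + j * c + k * d) * (x * x)) =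
      ((2 : ℤ) • x) * (i * b + j * c + k * d) * ((2 : ℤ) • (x * x)) := by
    rw [smul_mul_assoc, smul_mul_smul_comm]; norm_num
  rw [e, hx, h1]
  simp only [mul_sub, sub_mul, mul_add, add_mul, mul_assoc, F.ii, F.ij, F.ik, F.ji, F.jj, F.jk, F.ki, F.kj, F.kk,
      F.ii', F.ij', F.ik', F.ji', F.jj', F.jk', F.ki', F.kj', F.kk', mul_neg, neg_mul, mul_one, one_mul,
      B.ci, B.cj, B.ck, C.ci, C.cj, C.ck, D.ci, D.cj, D.ck, B.ci', B.cj', B.ck', C.ci', C.cj', C.ck',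
      D.ci', D.cj', D.ck', mul_smul_comm]
  abel

end Norm

end Cfsg.Agent.H24.Zas
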