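import Mathlib
import Cfsg.Agent.H24_Zas3

/-! Normal form of an element of order three with respect to a tetrahedral group. -/

namespace Cfsg.Agent.H24.Zas

variable {R : Type*} [Ring R] {𝕜 : Type*} [Field 𝕜] [Algebra 𝕜 R]
variable {i j k : R} (F : Frame i j k) (h2 : (2 : 𝕜) ≠ 0)
include F h2

omit F in
theorem cancel_pow (n : ℕ) {x : R} (hx : ((2 : ℤ) ^ n) • x = 0) : x = 0 := by
  have h1 : ((((2 : ℤ) ^ n : ℤ) : 𝕜)) • x = 0 := by rw [Int.cast_smul_eq_zsmul]; exact hx
  refine (smul_eq_zero.1 h1).resolve_left ?_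
  push_cast
  exact pow_ne_zero n h2

/-- the normal form, as an induction principle -/
theorem norm_form [Nontrivial R] {x w : R} (hx : (2 : ℤ) • x = -1 + i + j + k) (hw : w * w = (-3 : ℤ) • 1)
    (t1 : w * (i + j + k) + (i + j + k) * w = (2 : ℤ) • 1 ∨ w * (i + j + k) + (i + j + k) * w = (-2 : ℤ) • 1 ∨
      (w * (i + j + k) + (i + j + k) * w) * (w * (i + j + k) + (i + j + k) * w) = (20 : ℤ) • 1)
    (t2 : w * (i - j - k) + (i - j - k) * w = (2 : ℤ) • 1 ∨ w * (i - j - k) + (i - j - k) * w = (-2 : ℤ) • 1 ∨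
      (w * (i - j - k) + (i - j - k) * w) * (w * (i - j - k) + (i - j - k) * w) = (20 : ℤ) • 1)
    (t3 : w * (-i + j - k) + (-i + j - k) * w = (2 : ℤ) • 1 ∨ w * (-i + j - k) + (-i + j - k) * w = (-2 : ℤ) • 1 ∨
      (w * (-i + j - k) + (-i + j - k) * w) * (w * (-i + j - k) + (-i + j - k) * w) = (20 : ℤ) • 1)
    (t4 : w * (-i - j + k) + (-i - j + k) * w = (2 : ℤ) • 1 ∨ w * (-i - j + k) + (-i - j + k) * w = (-2 : ℤ) • 1 ∨
      (w * (-i - j + k) + (-i - j + k) * w) * (w * (-i - j + k) + (-i - j + k) * w) = (20 : ℤ) • 1)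
    (hsome : (∃ n : ℤ, w * (i + j + k) + (i + j + k) * w = n • 1) ∨ (∃ n : ℤ, w * (i - j - k) + (i - j - k) * w = n • 1) ∨
      (∃ n : ℤ, w * (-i + j - k) + (-i + j - k) * w = n • 1) ∨ (∃ n : ℤ, w * (-i - j + k) + (-i - j + k) * w = n • 1))
    (P : R → Prop) (hPi : ∀ v, P (-(i * v * i)) → P v) (hPj : ∀ v, P (-(j * v * j)) → P v)
    (hPx : ∀ v, P (x * v * (x * x)) → P v)
    (hstd : ∀ (Y v : R), Com i j k Y → Y * Y = (5 : ℤ) • 1 → (2 : ℤ) • v = j * (Y + 1) + k * (Y - 1) → P v) : P w := by
  obtain ⟨a, b, c, d, A, B, C, D, hwd⟩ := decomp F h2 w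
  have hz : ∀ n : ℤ, Com i j k (n • (1 : R)) := fun n => by
    have : n • (1 : R) = (n : R) := zsmul_one n
    rw [this]; exact Com.intCast n
  have hzs : ∀ (n : ℤ) {a : R}, Com i j k a → Com i j k (n • a) := fun n a ha => by
    have : n • a = (n • (1 : R)) * a := by rw [smul_mul_assoc, one_mul]
    rw [this]; exact (hz n).mul ha
  rw [hwd, anti1 F A B C D] at t1
  rw [hwd, anti2 F A B C D] at t2
  rw [hwd, anti3 F A B C D] at t3
  rw [hwd, anti4 F A B C D] at t4
  rw [hwd, anti1 F A B C D, anti2 F A B C D, anti3 F A B C D, anti4 F A B C D] at hsome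
  -- `a = 0`
  have ha : a = 0 := by
    rcases hsome with ⟨n, h⟩ | ⟨n, h⟩ | ⟨n, h⟩ | ⟨n, h⟩
    · have h1 := uniq F h2 ((hzs (-2) ((B.add C).add D)).sub (hz n)) (hzs 2 A) (hzs 2 A) (hzs 2 A) (by
        rw [← sub_eq_zero] at h; rw [← h]; abel)
      exact cancel_pow h2 1 h1.2.1
    · have h1 := uniq F h2 ((hzs (-2) ((B.sub C).sub D)).sub (hz n)) (hzs 2 A) (hzs (-2) A) (hzs (-2) A) (by
        rw [← sub_eq_zero] at h; rw [← h]; abel)
      exact cancel_pow h2 1 h1.2.1
    · have h1 := uniq F h2 ((hzs (-2) ((B.neg.add C).sub D)).sub (hz n)) (hzs (-2) A) (hzs 2 A) (hzs (-2) A) (by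
        rw [← sub_eq_zero] at h; rw [← h]; abel)
      exact cancel_pow h2 1 h1.2.2.1
    · have h1 := uniq F h2 ((hzs (-2) ((B.neg.sub C).add D)).sub (hz n)) (hzs (-2) A) (hzs (-2) A) (hzs 2 A) (by
        rw [← sub_eq_zero] at h; rw [← h]; abel)
      exact cancel_pow h2 1 h1.2.2.2
  have hwd' : w = i * b + j * c + k * d := by rw [hwd, ha, zero_add]
  -- squares
  have hsq := hw
  rw [hwd', sqform F B C D] at hsq
  have h1 := uniq F h2 ((((B.mul B).add (C.mul C)).add (D.mul D)).neg.sub (hz (-3))) ((C.mul D).sub (D.mul C))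
    ((D.mul B).sub (B.mul D)) ((B.mul C).sub (C.mul B)) (by
      rw [← sub_eq_zero] at hsq; rw [← hsq]; abel)
  obtain ⟨e0, ecd, edb, ebc⟩ := h1
  rw [sub_eq_zero] at ecd edb ebc
  have hsum : b * b + c * c + d * d = (3 : ℤ) • 1 := by
    have := sub_eq_zero.1 e0
    have h3 := congrArg (fun z => -z) this
    simp only [neg_neg] at h3
    rw [h3, ← neg_smul]; norm_num
  -- commutative subalgebra
  have hcomm : ∀ u ∈ ({b, c, d} : Set R), ∀ v ∈ ({b, c, d} : Set R), u * v = v * u := by
    intro u hu v hv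
    simp only [Set.mem_insert_iff, Set.mem_singleton_iff] at hu hv
    rcases hu with rfl | rfl | rfl <;> rcases hv with rfl | rfl | rfl
    · rfl
    · exact ebc
    · exact edb.symm
    · exact ebc.symm
    · rfl
    · exact ecd
    · exact edb
    · exact ecd.symm
    · rfl
  let S := Algebra.adjoin 𝕜 ({b, c, d} : Set R)
  letI : CommRing S := Algebra.adjoinCommRingOfComm 𝕜 hcomm
  have hbS : b ∈ S := Algebra.subset_adjoin (by simp)
  have hcS : c ∈ S := Algebra.subset_adjoin (by simp)
  have hdS : d ∈ S := Algebra.subset_adjoin (by simp)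
  obtain ⟨b', hb'⟩ : ∃ b' : S, (b' : R) = b := ⟨⟨b, hbS⟩, rfl⟩
  obtain ⟨c', hc'⟩ : ∃ c' : S, (c' : R) = c := ⟨⟨c, hcS⟩, rfl⟩
  obtain ⟨d', hd'⟩ : ∃ d' : S, (d' : R) = d := ⟨⟨d, hdS⟩, rfl⟩
  have hval : ∀ u v : S, (u : R) = v → u = v := fun u v h => Subtype.ext h
  have hinj : ∀ (n : ℤ), ((n : S) : R) = n • 1 := by
    intro n
    rw [zsmul_one]; exact map_intCast S.val n
  have hn2 : ∀ n : ℕ, ((2 : S) ^ n) ≠ 0 := by
    intro n h
    have h3 : (((2 : S) ^ n : S) : R) = 0 := by rw [h]; rfl
    have h4 : (((2 : S) ^ n : S) : R) = ((2 : ℤ) ^ n) • (1 : R) := by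
      have := hinj (2 ^ n)
      rw [← this]; norm_num
    rw [h4] at h3
    exact pow2_ne F h2 n h3
  -- types inside `S`
  have htype : ∀ {L : R} {L' : S}, (L' : R) = L → ((-2 : ℤ) • L = (2 : ℤ) • 1 ∨ (-2 : ℤ) • L = (-2 : ℤ) • 1 ∨
      ((-2 : ℤ) • L) * ((-2 : ℤ) • L) = (20 : ℤ) • 1) → L' = 1 ∨ L' = -1 ∨ L' ^ 2 = 5 := by
    intro L L' hL h
    rcases h with h | h | h
    · right; left
      apply hval
      rw [hL]
      have : ((2 : ℤ) ^ 1) • (L - (-1)) = 0 := by
        have e : ((2 : ℤ) ^ 1) • (L - (-1)) = -((-2 : ℤ) • L) + (2 : ℤ) • 1 := by module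
        rw [e, h]; module
      exact sub_eq_zero.1 (cancel_pow h2 1 this)
    · left
      apply hval
      rw [hL]
      have : ((2 : ℤ) ^ 1) • (L - 1) = 0 := by
        have e : ((2 : ℤ) ^ 1) • (L - 1) = -((-2 : ℤ) • L) - (2 : ℤ) • 1 := by module
        rw [e, h]; module
      exact sub_eq_zero.1 (cancel_pow h2 1 this)
    · right; right
      apply hval
      have e5 : ((5 : S) : R) = (5 : ℤ) • 1 := by
        have := hinj 5
        rw [← this]; norm_num
      rw [e5]
      change ((L' ^ 2 : S) : R) = _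
      have e6 : ((L' ^ 2 : S) : R) = L * L := by rw [sq, ← hL]; rfl
      rw [e6]
      have : ((2 : ℤ) ^ 2) • (L * L - (5 : ℤ) • 1) = 0 := by
        have e : ((2 : ℤ) ^ 2) • (L * L - (5 : ℤ) • 1) = ((-2 : ℤ) • L) * ((-2 : ℤ) • L) - (20 : ℤ) • 1 := by
          rw [smul_mul_smul_comm]; module
        rw [e, h, sub_self]
      exact sub_eq_zero.1 (cancel_pow h2 2 this)
  rw [ha, smul_zero, mul_zero, add_zero, mul_zero, add_zero, mul_zero, add_zero] at t1
  rw [ha, smul_zero, smul_zero, mul_zero, add_zero, mul_zero, add_zero, mul_zero, add_zero] at t2 t3 t4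
  have q1 := htype (L' := b' + c' + d') (by rw [← hb', ← hc', ← hd']; rfl) t1
  have q2 := htype (L' := b' - c' - d') (by rw [← hb', ← hc', ← hd']; rfl) t2
  have q3 := htype (L' := -b' + c' - d') (by rw [← hb', ← hc', ← hd']; rfl) t3
  have q4 := htype (L' := -b' - c' + d') (by rw [← hb', ← hc', ← hd']; rfl) t4
  have hsum' : b' * b' + c' * c' + d' * d' = 3 := by
    apply hval
    have e3 : ((3 : S) : R) = (3 : ℤ) • 1 := by
      have := hinj 3
      rw [← this]; norm_num
    rw [e3, ← hsum, ← hb', ← hc', ← hd']; rfl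
  -- moves
  have mi : ∀ {b c d : R}, Com i j k b → Com i j k c → Com i j k d → P (i * b + j * (-c) + k * (-d)) → P (i * b + j * c + k * d) := by
    intro b c d B C D h
    apply hPi
    rw [conj_i F B C D]; exact h
  have mj : ∀ {b c d : R}, Com i j k b → Com i j k c → Com i j k d → P (i * (-b) + j * c + k * (-d)) → P (i * b + j * c + k * d) := by
    intro b c d B C D h
    apply hPj
    rw [conj_j F B C D]; exact h
  have mx : ∀ {b c d : R}, Com i j k b → Com i j k c → Com i j k d → P (i * c + j * d + k * b) → P (i * b + j * c + k * d) := by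
    intro b c d B C D h
    apply hPx
    rw [conj_x F h2 hx B C D]; exact h
  have base : ∀ {b c d : R} {b' c' d' : S}, (b' : R) = b → (c' : R) = c → (d' : R) = d → Com i j k b → Com i j k c → Com i j k d →
      -b' + c' - d' = 1 → -b' - c' + d' = -1 → (b' + c' + d') ^ 2 = 5 → P (i * b + j * c + k * d) := by
    intro b c d b' c' d' hb hc hd B C D g1 g2 g3
    have e1 : b' = 0 := by
      have : (2 : S) ^ 1 * b' = 0 := by linear_combination -g1 - g2
      have h3 : ((2 : ℤ) ^ 1) • b = 0 := by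
        rw [← hb]
        have h4 : ((2 ^ 1 * b' : S) : R) = 0 := by rw [this]; rfl
        have h5 : ((2 ^ 1 * b' : S) : R) = (b' : R) + b' := by rw [pow_one, two_mul]; rfl
        rw [h5] at h4
        rw [pow_one, two_smul, h4]
      apply hval
      rw [hb]
      exact cancel_pow h2 1 h3
    have eb : b = 0 := by rw [← hb, e1]; rfl
    rw [eb, mul_zero, zero_add]
    rw [e1] at g1 g3
    refine hstd (c + d) _ (C.add D) ?_ ?_
    · have h4 := congrArg (fun u : S => (u : R)) g3
      have e5 : ((5 : S) : R) = (5 : ℤ) • 1 := by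
        have := hinj 5
        rw [← this]; norm_num
      rw [← e5, ← h4, ← hc, ← hd]
      change ((c' : R) + d') * (c' + d') = (((0 + c' + d') ^ 2 : S) : R)
      rw [zero_add, sq]; rfl
    · have h5 : c - d = 1 := by
        rw [← hc, ← hd]
        have h4 := congrArg (fun u : S => (u : R)) g1
        have h6 : (((-0 + c' - d' : S)) : R) = c' - d' := by rw [neg_zero, zero_add]; rfl
        exact h6.symm.trans h4
      have h6 : c + d + 1 = (2 : ℤ) • c := by rw [← h5]; module
      have h7 : c + d - 1 = (2 : ℤ) • d := by rw [← h5]; module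
      rw [h6, h7, smul_add, mul_smul_comm, mul_smul_comm]
  have n4 : (4 : S) ≠ 0 := by have := hn2 2; norm_num at this; exact this
  have n8 : (8 : S) ≠ 0 := by have := hn2 3; norm_num at this; exact this
  have n64 : (64 : S) ≠ 0 := by have := hn2 6; norm_num at this; exact this
  have hneg : ∀ {u : S} {v : R}, (u : R) = v → ((-u : S) : R) = -v := by
    intro u v h; rw [← h]; rfl
  rw [hwd']
  rcases comb n4 n8 n64 (by ring) (by linear_combination 4 * hsum') q1 q2 q3 q4 with
    ⟨g1, g2, g3, g4⟩ | ⟨g1, g2, g3, g4⟩ | ⟨g1, g2, g3, g4⟩ | ⟨g1, g2, g3, g4⟩ | ⟨g1, g2, g3, g4⟩ | ⟨g1, g2, g3, g4⟩ |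
    ⟨g1, g2, g3, g4⟩ | ⟨g1, g2, g3, g4⟩ | ⟨g1, g2, g3, g4⟩ | ⟨g1, g2, g3, g4⟩ | ⟨g1, g2, g3, g4⟩ | ⟨g1, g2, g3, g4⟩
  · exact base hb' hc' hd' B C D g1 g2 g3
  · apply mi B C D
    exact base hb' (hneg hc') (hneg hd') B C.neg D.neg (by linear_combination g1) (by linear_combination g2) (by linear_combination g4)
  · apply mj B C D
    exact base (hneg hb') hc' (hneg hd') B.neg C D.neg (by linear_combination g1) (by linear_combination g2) (by linear_combination g3)
  · apply mi B C D
    apply mj B C.neg D.neg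
    exact base (hneg hb') (hneg hc') (hneg (hneg hd')) B.neg C.neg D.neg.neg (by linear_combination g1) (by linear_combination g2) (by linear_combination g4)
  · -- (4,2)
    apply mx B C D
    exact base hc' hd' hb' C D B (by linear_combination g1) (by linear_combination g2) (by linear_combination g3)
  · -- (2,4)
    apply mx B C D
    apply mi C D B
    exact base hc' (hneg hd') (hneg hb') C D.neg B.neg (by linear_combination g1) (by linear_combination g2) (by linear_combination g4)
  · -- (1,3)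
    apply mx B C D
    apply mj C D B
    exact base (hneg hc') hd' (hneg hb') C.neg D B.neg (by linear_combination g1) (by linear_combination g2) (by linear_combination g4)
  · -- (3,1)
    apply mx B C D
    apply mi C D B
    apply mj C D.neg B.neg
    exact base (hneg hc') (hneg hd') (hneg (hneg hb')) C.neg D.neg B.neg.neg (by linear_combination g1) (by linear_combination g2) (by linear_combination g3)
  · -- (2,3)
    apply mx B C D
    apply mx C D B
    exact base hd' hb' hc' D B C (by linear_combination g1) (by linear_combination g2) (by linear_combination g3)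
  · -- (3,2)
    apply mx B C D
    apply mx C D B
    apply mi D B C
    exact base hd' (hneg hb') (hneg hc') D B.neg C.neg (by linear_combination g1) (by linear_combination g2) (by linear_combination g4)
  · -- (1,4)
    apply mx B C D
    apply mx C D B
    apply mj D B C
    exact base (hneg hd') hb' (hneg hc') D.neg B C.neg (by linear_combination g1) (by linear_combination g2) (by linear_combination g3)
  · -- (4,1)
    apply mx B C D
    apply mx C D B
    apply mi D B C
    apply mj D B.neg C.neg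
    exact base (hneg hd') (hneg hb') (hneg (hneg hc')) D.neg B.neg C.neg.neg (by linear_combination g1) (by linear_combination g2) (by linear_combination g4)

end Cfsg.Agent.H24.Zas
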