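import Mathlib
import Cfsg.Agent.H24_Zas4

/-! Groups of fixed-point-free operators: elements of order three. -/

namespace Cfsg.Agent.H24.Zas

/-- the context: a group of operators with the trichotomy for pairs of elements of order three -/
structure Ctx (G R 𝕜 : Type*) [Group G] [Ring R] [Field 𝕜] [Algebra 𝕜 R] (φ : G →* R) (z : G) : Prop where
  h2 : (2 : 𝕜) ≠ 0
  nt : (1 : R) ≠ 0
  inj : ∀ g, φ g = 1 → g = 1
  hz : φ z = -1
  h3 : ∀ x : G, x ^ 3 = 1 → x ≠ 1 → φ x * φ x = - φ x - 1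
  T : ∀ x y : G, x ^ 3 = 1 → x ≠ 1 → y ^ 3 = 1 → y ≠ 1 → y = x ∨ y = x⁻¹ ∨
    (2 * φ x + 1) * (2 * φ y + 1) + (2 * φ y + 1) * (2 * φ x + 1) = (2 : ℤ) • 1 ∨
    (2 * φ x + 1) * (2 * φ y + 1) + (2 * φ y + 1) * (2 * φ x + 1) = (-2 : ℤ) • 1 ∨
    ((2 * φ x + 1) * (2 * φ y + 1) + (2 * φ y + 1) * (2 * φ x + 1)) *
      ((2 * φ x + 1) * (2 * φ y + 1) + (2 * φ y + 1) * (2 * φ x + 1)) = (20 : ℤ) • 1

variable {G R 𝕜 : Type*} [Group G] [Ring R] [Field 𝕜] [Algebra 𝕜 R] {φ : G →* R} {z : G}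

/-- the pure part -/
def U (φ : G →* R) (x : G) : R := 2 * φ x + 1

/-- anticommutator -/
def ac (φ : G →* R) (x y : G) : R := U φ x * U φ y + U φ y * U φ x

theorem ac_comm (x y : G) : ac φ x y = ac φ y x := by rw [ac, ac, add_comm]

namespace Ctx

variable (C : Ctx G R 𝕜 φ z)
include C

theorem ninj {g h : G} (e : φ g = φ h) : g = h := by
  have h1 : φ (g * h⁻¹) = 1 := by rw [map_mul, e, ← map_mul, mul_inv_cancel, map_one]
  exact mul_inv_eq_one.1 (C.inj _ h1)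

theorem inv3 {x : G} (hx : x ^ 3 = 1) : x⁻¹ = x * x := by
  rw [inv_eq_iff_mul_eq_one, ← mul_assoc, ← pow_three']; exact hx

theorem phi_inv {x : G} (hx : x ^ 3 = 1) (hx1 : x ≠ 1) : φ x⁻¹ = - φ x - 1 := by
  rw [C.inv3 hx, map_mul, C.h3 x hx hx1]

theorem U_inv {x : G} (hx : x ^ 3 = 1) (hx1 : x ≠ 1) : U φ x⁻¹ = - U φ x := by
  rw [U, C.phi_inv hx hx1, U]; noncomm_ring

theorem U_sq {x : G} (hx : x ^ 3 = 1) (hx1 : x ≠ 1) : U φ x * U φ x = (-3 : ℤ) • 1 := by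
  have h := C.h3 x hx hx1
  have e : U φ x * U φ x = 4 * (φ x * φ x) + 4 * φ x + 1 := by rw [U]; noncomm_ring
  rw [e, h]; noncomm_ring

theorem U_conj (x g : G) : U φ (g * x * g⁻¹) = φ g * U φ x * φ g⁻¹ := by
  have h1 : φ g * φ g⁻¹ = 1 := by rw [← map_mul, mul_inv_cancel, map_one]
  rw [U, U, map_mul, map_mul]
  calc 2 * (φ g * φ x * φ g⁻¹) + 1 = 2 * (φ g * φ x * φ g⁻¹) + φ g * φ g⁻¹ := by rw [h1]
    _ = φ g * (2 * φ x + 1) * φ g⁻¹ := by noncomm_ring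

theorem conj3 {x : G} (hx : x ^ 3 = 1) (g : G) : (g * x * g⁻¹) ^ 3 = 1 := by
  rw [conj_pow, hx]; group

theorem conj_ne {x : G} (hx1 : x ≠ 1) (g : G) : g * x * g⁻¹ ≠ 1 := by
  intro h
  apply hx1
  have : x = g⁻¹ * (g * x * g⁻¹) * g := by group
  rw [this, h]; group

theorem ac_conj (x y g : G) : ac φ (g * x * g⁻¹) (g * y * g⁻¹) = φ g * ac φ x y * φ g⁻¹ := by
  have h1 : φ g⁻¹ * φ g = 1 := by rw [← map_mul, inv_mul_cancel, map_one]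
  rw [ac, ac, C.U_conj, C.U_conj]
  calc φ g * U φ x * φ g⁻¹ * (φ g * U φ y * φ g⁻¹) + φ g * U φ y * φ g⁻¹ * (φ g * U φ x * φ g⁻¹)
      = φ g * U φ x * (φ g⁻¹ * φ g) * U φ y * φ g⁻¹ + φ g * U φ y * (φ g⁻¹ * φ g) * U φ x * φ g⁻¹ := by
        noncomm_ring
    _ = φ g * (U φ x * U φ y + U φ y * U φ x) * φ g⁻¹ := by rw [h1]; noncomm_ring

theorem ac_inv {x : G} (hx : x ^ 3 = 1) (hx1 : x ≠ 1) (y : G) : ac φ x⁻¹ y = - ac φ x y := by
  rw [ac, C.U_inv hx hx1, ac]; noncomm_ring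

/-- the trichotomy -/
theorem tri {x y : G} (hx : x ^ 3 = 1) (hx1 : x ≠ 1) (hy : y ^ 3 = 1) (hy1 : y ≠ 1) :
    y = x ∨ y = x⁻¹ ∨ ac φ x y = (2 : ℤ) • 1 ∨ ac φ x y = (-2 : ℤ) • 1 ∨ ac φ x y * ac φ x y = (20 : ℤ) • 1 :=
  C.T x y hx hx1 hy hy1

/-- the frame of a star -/
theorem frame {a b : G} (ha : a ^ 3 = 1) (ha1 : a ≠ 1) (hb : b ^ 3 = 1) (hb1 : b ≠ 1) (hab : ac φ a b = (2 : ℤ) • 1) :
    Frame (φ (b * a * b)) (φ (b * a⁻¹)) (φ (a⁻¹ * b)) ∧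
    U φ a = φ (b * a * b) + φ (b * a⁻¹) + φ (a⁻¹ * b) ∧ U φ b = φ (b * a * b) - φ (b * a⁻¹) - φ (a⁻¹ * b) ∧
    U φ (b * a * b⁻¹) = - φ (b * a * b) + φ (b * a⁻¹) - φ (a⁻¹ * b) ∧
    U φ (b⁻¹ * a * b) = - φ (b * a * b) - φ (b * a⁻¹) + φ (a⁻¹ * b) := by
  have hai := C.phi_inv ha ha1
  have hbi := C.phi_inv hb hb1
  have hXX := C.h3 a ha ha1
  have hYY := C.h3 b hb hb1
  simp only [map_mul, hai, hbi, U]
  rw [ac, U, U] at hab
  set X := φ a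
  set Y := φ b
  have hYX : Y * X = -X - Y - X * Y := by
    have h4 : ((2 : ℤ) ^ 2) • (Y * X - (-X - Y - X * Y)) = 0 := by
      have e : ((2 : ℤ) ^ 2) • (Y * X - (-X - Y - X * Y)) =
          (2 * X + 1) * (2 * Y + 1) + (2 * Y + 1) * (2 * X + 1) - (2 : ℤ) • 1 := by
        simp only [two_mul, mul_add, add_mul, mul_one, one_mul]
        module
      rw [e, hab, sub_self]
    exact sub_eq_zero.1 (cancel_pow (𝕜 := 𝕜) C.h2 2 h4)
  have hXX' : ∀ v, X * (X * v) = -(X * v) - v := fun v => by rw [← mul_assoc, hXX]; noncomm_ring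
  have hYY' : ∀ v, Y * (Y * v) = -(Y * v) - v := fun v => by rw [← mul_assoc, hYY]; noncomm_ring
  have hYX' : ∀ v, Y * (X * v) = -(X * v) - Y * v - X * (Y * v) := fun v => by rw [← mul_assoc, hYX]; noncomm_ring
  simp only [two_mul]
  refine ⟨⟨?_, ?_, ?_, ?_, ?_, ?_, ?_, ?_, ?_⟩, ?_, ?_, ?_, ?_⟩ <;>
  · simp only [mul_sub, sub_mul, mul_add, add_mul, mul_assoc, mul_neg, neg_mul, mul_one, one_mul, hXX, hYY, hYX,
      hXX', hYY', hYX', two_mul]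
    abel

/-- four elements of the star -/
def star4 (a b : G) : Set G := {a, b, b * a * b⁻¹, b⁻¹ * a * b}

omit C in
theorem star4_le {a b u : G} (hu : u ∈ star4 a b) : u ∈ Subgroup.closure ({a, b} : Set G) := by
  have ha : a ∈ Subgroup.closure ({a, b} : Set G) := Subgroup.subset_closure (by simp)
  have hb : b ∈ Subgroup.closure ({a, b} : Set G) := Subgroup.subset_closure (by simp)
  simp only [star4, Set.mem_insert_iff, Set.mem_singleton_iff] at hu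
  rcases hu with rfl | rfl | rfl | rfl
  · exact ha
  · exact hb
  · exact mul_mem (mul_mem hb ha) (inv_mem hb)
  · exact mul_mem (mul_mem (inv_mem hb) ha) hb

omit C in
theorem star4_prop {a b u : G} (ha : a ^ 3 = 1) (ha1 : a ≠ 1) (hb : b ^ 3 = 1) (hb1 : b ≠ 1) (hu : u ∈ star4 a b) :
    u ^ 3 = 1 ∧ u ≠ 1 := by
  simp only [star4, Set.mem_insert_iff, Set.mem_singleton_iff] at hu
  rcases hu with rfl | rfl | rfl | rfl
  · exact ⟨ha, ha1⟩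
  · exact ⟨hb, hb1⟩
  · refine ⟨by rw [conj_pow, ha]; group, fun h => ha1 ?_⟩
    have : a = b⁻¹ * (b * a * b⁻¹) * b := by group
    rw [this, h]; group
  · have e : b⁻¹ * a * b = b⁻¹ * a * b⁻¹⁻¹ := by rw [inv_inv]
    refine ⟨by rw [e, conj_pow, ha]; group, fun h => ha1 ?_⟩
    have : a = b * (b⁻¹ * a * b) * b⁻¹ := by group
    rw [this, h]; group

theorem normG {a b : G} (ha : a ^ 3 = 1) (ha1 : a ≠ 1) (hb : b ^ 3 = 1) (hb1 : b ≠ 1) (hab : ac φ a b = (2 : ℤ) • 1)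
    {w : G} (hw : w ^ 3 = 1) (hw1 : w ≠ 1) (hnot : ∀ u ∈ star4 a b, u ≠ w ∧ u ≠ w⁻¹)
    (hsome : ∃ u ∈ star4 a b, ∃ n : ℤ, ac φ w u = n • 1) :
    ∃ g ∈ Subgroup.closure ({a, b} : Set G), ∃ Y : R, Com (φ (b * a * b)) (φ (b * a⁻¹)) (φ (a⁻¹ * b)) Y ∧
      Y * Y = (5 : ℤ) • 1 ∧ (2 : ℤ) • U φ (g⁻¹ * w * g) = φ (b * a⁻¹) * (Y + 1) + φ (a⁻¹ * b) * (Y - 1) := by
  haveI : Nontrivial R := nontrivial_of_ne _ _ C.nt
  obtain ⟨F, f1, f2, f3, f4⟩ := C.frame ha ha1 hb hb1 hab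
  have haC : a ∈ Subgroup.closure ({a, b} : Set G) := Subgroup.subset_closure (by simp)
  have hbC : b ∈ Subgroup.closure ({a, b} : Set G) := Subgroup.subset_closure (by simp)
  have tri' : ∀ u ∈ star4 a b, ac φ w u = (2 : ℤ) • 1 ∨ ac φ w u = (-2 : ℤ) • 1 ∨ ac φ w u * ac φ w u = (20 : ℤ) • 1 := by
    intro u hu
    obtain ⟨h1, h2⟩ := star4_prop ha ha1 hb hb1 hu
    obtain ⟨h3, h4⟩ := hnot u hu
    rcases C.tri hw hw1 h1 h2 with h | h | h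
    · exact absurd h h3
    · exact absurd h h4
    · exact h
  have t1 := tri' a (by simp [star4])
  have t2 := tri' b (by simp [star4])
  have t3 := tri' (b * a * b⁻¹) (by simp [star4])
  have t4 := tri' (b⁻¹ * a * b) (by simp [star4])
  have hs : (∃ n : ℤ, ac φ w a = n • 1) ∨ (∃ n : ℤ, ac φ w b = n • 1) ∨ (∃ n : ℤ, ac φ w (b * a * b⁻¹) = n • 1) ∨
      (∃ n : ℤ, ac φ w (b⁻¹ * a * b) = n • 1) := by
    obtain ⟨u, hu, hn⟩ := hsome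
    simp only [star4, Set.mem_insert_iff, Set.mem_singleton_iff] at hu
    rcases hu with rfl | rfl | rfl | rfl
    · exact Or.inl hn
    · exact Or.inr (Or.inl hn)
    · exact Or.inr (Or.inr (Or.inl hn))
    · exact Or.inr (Or.inr (Or.inr hn))
  simp only [ac] at t1 t2 t3 t4 hs
  rw [f1] at t1
  rw [f2] at t2
  rw [f3] at t3
  rw [f4] at t4
  rw [f1, f2, f3, f4] at hs
  have hx : (2 : ℤ) • φ a = -1 + φ (b * a * b) + φ (b * a⁻¹) + φ (a⁻¹ * b) := by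
    have : (2 : ℤ) • φ a = U φ a - 1 := by rw [U]; noncomm_ring
    rw [this, f1]; abel
  have hii : ∀ (g : G), φ g * φ g⁻¹ = 1 := fun g => by rw [← map_mul, mul_inv_cancel, map_one]
  have hneg : ∀ g : G, φ g * φ g = -1 → φ g⁻¹ = - φ g := by
    intro g hg
    have h1 : φ g⁻¹ = φ g⁻¹ * (φ g * φ g⁻¹) := by rw [hii, mul_one]
    have h3 : φ g⁻¹ * φ g = 1 := by rw [← map_mul, inv_mul_cancel, map_one]
    calc φ g⁻¹ = -((-1) * φ g⁻¹) := by noncomm_ring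
      _ = -(φ g * (φ g * φ g⁻¹)) := by rw [← hg, mul_assoc]
      _ = - φ g := by rw [hii, mul_one]
  let P : R → Prop := fun v => ∃ g ∈ Subgroup.closure ({a, b} : Set G), ∃ Y : R,
    Com (φ (b * a * b)) (φ (b * a⁻¹)) (φ (a⁻¹ * b)) Y ∧
      Y * Y = (5 : ℤ) • 1 ∧ (2 : ℤ) • (φ g⁻¹ * v * φ g) = φ (b * a⁻¹) * (Y + 1) + φ (a⁻¹ * b) * (Y - 1)
  have hstep : ∀ (h : G), h ∈ Subgroup.closure ({a, b} : Set G) → ∀ v, P (φ h * v * φ h⁻¹) → P v := by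
    rintro h hh v ⟨g, hg, Y, hY1, hY2, hY3⟩
    refine ⟨h⁻¹ * g, mul_mem (inv_mem hh) hg, Y, hY1, hY2, ?_⟩
    rw [← hY3]
    congr 1
    rw [mul_inv_rev, inv_inv, map_mul, map_mul]
    simp only [mul_assoc]
  have key : P (U φ w) := by
    refine norm_form F C.h2 hx (C.U_sq hw hw1) t1 t2 t3 t4 hs P ?_ ?_ ?_ ?_
    · intro v hv
      refine hstep (b * a * b) (mul_mem (mul_mem hbC haC) hbC) v ?_
      rw [hneg _ F.ii]
      have : φ (b * a * b) * v * -φ (b * a * b) = -(φ (b * a * b) * v * φ (b * a * b)) := by rw [mul_neg]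
      rw [this]; exact hv
    · intro v hv
      refine hstep (b * a⁻¹) (mul_mem hbC (inv_mem haC)) v ?_
      rw [hneg _ F.jj]
      have : φ (b * a⁻¹) * v * -φ (b * a⁻¹) = -(φ (b * a⁻¹) * v * φ (b * a⁻¹)) := by rw [mul_neg]
      rw [this]; exact hv
    · intro v hv
      refine hstep a haC v ?_
      rw [C.inv3 ha, map_mul]; exact hv
    · intro Y v hY1 hY2 hY3
      refine ⟨1, one_mem _, Y, hY1, hY2, ?_⟩
      rw [inv_one, map_one, one_mul, mul_one, hY3]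
  obtain ⟨g, hg, Y, h1, h2, h3⟩ := key
  refine ⟨g, hg, Y, h1, h2, ?_⟩
  have h4 := C.U_conj w g⁻¹
  rw [inv_inv] at h4
  rw [h4, h3]

/-- two elements outside a star, both with a scalar relation to it -/
theorem lemBG {a b : G} (ha : a ^ 3 = 1) (ha1 : a ≠ 1) (hb : b ^ 3 = 1) (hb1 : b ≠ 1) (hab : ac φ a b = (2 : ℤ) • 1)
    {w : G} (hw : w ^ 3 = 1) (hw1 : w ≠ 1) (hnot : ∀ u ∈ star4 a b, u ≠ w ∧ u ≠ w⁻¹)
    (hsome : ∃ u ∈ star4 a b, ∃ n : ℤ, ac φ w u = n • 1)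
    {w' : G} (hw' : w' ^ 3 = 1) (hw1' : w' ≠ 1) (hnot' : ∀ u ∈ star4 a b, u ≠ w' ∧ u ≠ w'⁻¹)
    (hsome' : ∃ u ∈ star4 a b, ∃ n : ℤ, ac φ w' u = n • 1) (S : Subgroup G) (haS : a ∈ S) (hbS : b ∈ S) (hwS : w' ∈ S) :
    w ∈ S := by
  haveI : Nontrivial R := nontrivial_of_ne _ _ C.nt
  obtain ⟨F, f1, f2, f3, f4⟩ := C.frame ha ha1 hb hb1 hab
  obtain ⟨g, hg, q, Q, qq, hW⟩ := C.normG ha ha1 hb hb1 hab hw hw1 hnot hsome
  obtain ⟨g', hg', p, P, pp, hW'⟩ := C.normG ha ha1 hb hb1 hab hw' hw1' hnot' hsome'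
  have hle : Subgroup.closure ({a, b} : Set G) ≤ S := by
    rw [Subgroup.closure_le]
    intro u hu
    simp only [Set.mem_insert_iff, Set.mem_singleton_iff] at hu
    rcases hu with rfl | rfl
    · exact haS
    · exact hbS
  have hgS := hle hg
  have hgS' := hle hg'
  have cj3 : ∀ {x : G} (h : G), x ^ 3 = 1 → x ≠ 1 → (h⁻¹ * x * h) ^ 3 = 1 ∧ h⁻¹ * x * h ≠ 1 := by
    intro x h h1 h2
    have e : h⁻¹ * x * h = h⁻¹ * x * h⁻¹⁻¹ := by rw [inv_inv]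
    rw [e]
    exact ⟨C.conj3 h1 _, C.conj_ne h2 _⟩
  obtain ⟨W3, W1⟩ := cj3 g hw hw1
  obtain ⟨W3', W1'⟩ := cj3 g' hw' hw1'
  obtain ⟨W, hWdef⟩ : ∃ W, W = g⁻¹ * w * g := ⟨_, rfl⟩
  obtain ⟨W', hWdef'⟩ : ∃ W', W' = g'⁻¹ * w' * g' := ⟨_, rfl⟩
  rw [← hWdef] at W3 W1 hW
  rw [← hWdef'] at W3' W1' hW'
  have hW'S : W' ∈ S := by
    rw [hWdef']; exact mul_mem (mul_mem (inv_mem hgS') hwS) hgS'
  have hWS : W ∈ S → w ∈ S := by
    intro h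
    have : w = g * W * g⁻¹ := by rw [hWdef]; group
    rw [this]
    exact mul_mem (mul_mem hgS h) (inv_mem hgS)
  -- the two conjugates
  obtain ⟨h, hh⟩ : ∃ h, h = b * a⁻¹ := ⟨_, rfl⟩
  have hhS : h ∈ S := by rw [hh]; exact mul_mem hbS (inv_mem haS)
  have W2 : (2 : ℤ) • U φ (h * W' * h⁻¹) = φ (b * a⁻¹) * (p + 1) - φ (a⁻¹ * b) * (p - 1) := by
    have hii : φ h * φ h⁻¹ = 1 := by rw [← map_mul, mul_inv_cancel, map_one]
    have hneg : φ h⁻¹ = - φ h := by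
      have hhh : φ h * φ h = -1 := by rw [hh]; exact F.jj
      calc φ h⁻¹ = -((-1) * φ h⁻¹) := by noncomm_ring
        _ = -(φ h * (φ h * φ h⁻¹)) := by rw [← hhh, mul_assoc]
        _ = - φ h := by rw [hii, mul_one]
    have e : (2 : ℤ) • U φ (h * W' * h⁻¹) = φ h * ((2 : ℤ) • U φ W') * φ h⁻¹ := by
      rw [C.U_conj]; noncomm_ring
    have h0 : Com (φ (b * a * b)) (φ (b * a⁻¹)) (φ (a⁻¹ * b)) (0 : R) := Com.zero
    have e1 : (2 : ℤ) • U φ W' = φ (b * a * b) * 0 + φ (b * a⁻¹) * (p + 1) + φ (a⁻¹ * b) * (p - 1) := by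
      rw [hW']; noncomm_ring
    have P1 : Com (φ (b * a * b)) (φ (b * a⁻¹)) (φ (a⁻¹ * b)) (p + 1) := P.add Com.one
    have P2 : Com (φ (b * a * b)) (φ (b * a⁻¹)) (φ (a⁻¹ * b)) (p - 1) := P.sub Com.one
    rw [e, hneg, hh, mul_neg, e1, conj_j F h0 P1 P2, neg_zero, mul_zero, zero_add, mul_neg (φ (a⁻¹ * b)) (p - 1),
      sub_eq_add_neg (φ (b * a⁻¹) * (p + 1))]
  have hx : (2 : ℤ) • φ a = -1 + φ (b * a * b) + φ (b * a⁻¹) + φ (a⁻¹ * b) := by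
    have : (2 : ℤ) • φ a = U φ a - 1 := by rw [U]; noncomm_ring
    rw [this, f1]; abel
  have WX : (2 : ℤ) • U φ (a⁻¹ * W' * a) = φ (b * a * b) * (p - 1) + φ (a⁻¹ * b) * (p + 1) := by
    have e0 : a⁻¹ * W' * a = a * (a * W' * a⁻¹) * a⁻¹ := by
      rw [C.inv3 ha]
      have h3 : a * a * a = 1 := by rw [← pow_three']; exact ha
      calc a * a * W' * a = a * a * W' * (a * a * a) * a := by rw [h3, mul_one]
        _ = a * (a * W' * (a * a)) * (a * a) := by simp only [mul_assoc]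
    have e : (2 : ℤ) • U φ (a⁻¹ * W' * a) = φ a * (φ a * ((2 : ℤ) • U φ W') * (φ a * φ a)) * (φ a * φ a) := by
      rw [e0, C.U_conj, C.U_conj, C.inv3 ha, map_mul]; noncomm_ring
    have h0 : Com (φ (b * a * b)) (φ (b * a⁻¹)) (φ (a⁻¹ * b)) (0 : R) := Com.zero
    have e1 : (2 : ℤ) • U φ W' = φ (b * a * b) * 0 + φ (b * a⁻¹) * (p + 1) + φ (a⁻¹ * b) * (p - 1) := by
      rw [hW']; noncomm_ring
    have P1 : Com (φ (b * a * b)) (φ (b * a⁻¹)) (φ (a⁻¹ * b)) (p + 1) := P.add Com.one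
    have P2 : Com (φ (b * a * b)) (φ (b * a⁻¹)) (φ (a⁻¹ * b)) (p - 1) := P.sub Com.one
    rw [e, e1, conj_x F C.h2 hx h0 P1 P2, conj_x F C.h2 hx P1 P2 h0]
    noncomm_ring
  have hdone : ∀ V : G, V ∈ S → V ^ 3 = 1 → V ≠ 1 → (w ∈ S) ∨ ac φ W V = (2 : ℤ) • 1 ∨ ac φ W V = (-2 : ℤ) • 1 ∨
      ac φ W V * ac φ W V = (20 : ℤ) • 1 := by
    intro V hV hV3 hV1
    rcases C.tri W3 W1 hV3 hV1 with h | h | h
    · left; apply hWS; rw [← h]; exact hV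
    · left; apply hWS
      have : W = V⁻¹ := by rw [h, inv_inv]
      rw [this]; exact inv_mem hV
    · exact Or.inr h
  by_contra hcon
  have s1 := (hdone W' hW'S W3' W1').resolve_left hcon
  have s2 := (hdone (h * W' * h⁻¹) (mul_mem (mul_mem hhS hW'S) (inv_mem hhS)) (C.conj3 W3' _) (C.conj_ne W1' _)).resolve_left hcon
  have s3 := (hdone (a⁻¹ * W' * a) (mul_mem (mul_mem (inv_mem haS) hW'S) haS) (cj3 a W3' W1').1 (cj3 a W3' W1').2).resolve_left hcon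
  have scale : ∀ {V : G} {Wd Vd : R}, (2 : ℤ) • U φ W = Wd → (2 : ℤ) • U φ V = Vd →
      (ac φ W V = (2 : ℤ) • 1 ∨ ac φ W V = (-2 : ℤ) • 1 ∨ ac φ W V * ac φ W V = (20 : ℤ) • 1) →
      (Wd * Vd + Vd * Wd = (8 : ℤ) • 1 ∨ Wd * Vd + Vd * Wd = (-8 : ℤ) • 1 ∨
        (Wd * Vd + Vd * Wd) * (Wd * Vd + Vd * Wd) = (320 : ℤ) • 1) := by
    intro V Wd Vd h1 h2 h3
    have e : Wd * Vd + Vd * Wd = (4 : ℤ) • ac φ W V := by
      rw [← h1, ← h2, ac, smul_mul_smul_comm, smul_mul_smul_comm, ← smul_add]; norm_num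
    rw [e]
    rcases h3 with h | h | h
    · left; rw [h, smul_smul]; norm_num
    · right; left; rw [h, smul_smul]; norm_num
    · right; right; rw [smul_mul_smul_comm, h, smul_smul]; norm_num
  exact lemB F C.h2 P Q pp qq rfl rfl rfl (scale hW hW' s1) (scale hW W2 s2) (scale hW WX s3)

end Ctx

end Cfsg.Agent.H24.Zas
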