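import Mathlib
import Cfsg.Agent.H18_Dickson
import Cfsg.Agent.H18_Dickson3
import Cfsg.Agent.H5_Dk2

/-! Finite subgroups of `SL_2(L)` generated by two elements of order three. -/

namespace Cfsg.Agent.H24.Zas

open Matrix OnePoint Cfsg.Agent.H18.Dickson MulAction
open Cfsg.Agent.H5.SL2 (S ext2 det_eq u l mul00 mul01 mul10 mul11 inv00 inv01 inv10 inv11 one00 one01 one10 one11
  neg00 neg01 neg10 neg11)
open scoped Classical

variable {L : Type*} [Field L]

theorem eq_one_of_tr_two {A : S L} (ht : tr A = 2) {n : ℕ} (hn : (n : L) ≠ 0) (hA : A ^ n = 1) : A = 1 := by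
  have h1 := unip_sq ht
  obtain ⟨E, hE⟩ : ∃ E : Matrix (Fin 2) (Fin 2) L, E = A.1 - 1 := ⟨_, rfl⟩
  rw [← hE] at h1
  have hA1 : A.1 = 1 + E := by rw [hE]; abel
  have h2 : ∀ m : ℕ, (1 + E) ^ m = 1 + (m : L) • E := by
    intro m
    induction m with
    | zero => simp
    | succ m ih =>
      rw [pow_succ, ih]
      simp only [mul_add, add_mul, smul_mul_assoc, mul_one, one_mul, h1, smul_zero, add_zero, Nat.cast_succ,
        add_smul, one_smul]
      abel
  have h3 : (A ^ n).1 = (1 + E) ^ n := by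
    rw [← hA1]; exact Matrix.SpecialLinearGroup.coe_pow A n
  rw [hA, h2] at h3
  have h4 : (n : L) • E = 0 := by
    have : (1 : S L).1 = (1 : Matrix (Fin 2) (Fin 2) L) := rfl
    rw [this, left_eq_add] at h3
    exact h3
  have h5 : E = 0 := (smul_eq_zero.1 h4).resolve_left hn
  apply Subtype.ext
  rw [hA1, h5, add_zero]; rfl

theorem eq_pm_of_tr {A : S L} (h2 : (2 : L) ≠ 0) (ht : tr A ^ 2 = 4) {n : ℕ} (hn : (n : L) ≠ 0) (hA : A ^ n = 1) :
    A = 1 ∨ A = -1 := by
  have h1 : (tr A - 2) * (tr A + 2) = 0 := by linear_combination ht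
  rcases mul_eq_zero.1 h1 with h | h
  · left; exact eq_one_of_tr_two (by linear_combination h) hn hA
  · right
    have h3 : tr (-A) = 2 := by rw [tr_neg]; linear_combination -h
    have h4 : (-A) ^ (2 * n) = 1 := by
      rw [pow_mul, neg_sq, ← pow_mul, mul_comm, pow_mul, hA, one_pow]
    have h5 : -A = 1 := eq_one_of_tr_two h3 (n := 2 * n) (by push_cast; exact mul_ne_zero h2 hn) h4
    rw [← neg_neg A, h5]

attribute [local instance] Cfsg.Agent.H18.Dickson.act

/-- elements fixing a common point have unipotent commutator -/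
theorem tr_comm {A B : S L} {x : OnePoint L} (hA : A • x = x) (hB : B • x = x) : tr (A * B * A⁻¹ * B⁻¹) = 2 := by
  obtain ⟨g, hg⟩ := exists_to_inf x
  have h1 := fix_conj (g := g) hA
  have h2 := fix_conj (g := g) hB
  rw [hg, fix_inf] at h1 h2
  have e : tr (A * B * A⁻¹ * B⁻¹) = tr ((g * A * g⁻¹) * (g * B * g⁻¹) * (g * A * g⁻¹)⁻¹ * (g * B * g⁻¹)⁻¹) := by
    have : (g * A * g⁻¹) * (g * B * g⁻¹) * (g * A * g⁻¹)⁻¹ * (g * B * g⁻¹)⁻¹ = g * (A * B * A⁻¹ * B⁻¹) * g⁻¹ := by group
    rw [this, tr_conj]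
  rw [e]
  generalize g * A * g⁻¹ = A' at *
  generalize g * B * g⁻¹ = B' at *
  have d1 := det_eq A'
  have d2 := det_eq B'
  rw [h1] at d1
  rw [h2] at d2
  rw [tr]
  simp only [mul00, mul01, mul10, mul11, inv00, inv01, inv10, inv11, h1, h2]
  linear_combination (2 : L) * (B'.1 0 0 * B'.1 1 1) * d1 + 2 * d2

variable [IsAlgClosed L] {H : Type*} [Group H] [Finite H] (f : H →* S L) (hf : Function.Injective f)
  (h2 : (2 : L) ≠ 0) (hc : (Nat.card H : L) ≠ 0)

include h2 hc in
theorem two_fixed {h : H} (h1 : f h ≠ 1) (h1' : f h ≠ -1) :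
    ∃ x x' : OnePoint L, x ≠ x' ∧ ∀ y : OnePoint L, f h • y = y ↔ (y = x ∨ y = x') := by
  have hp : (f h) ^ (Nat.card H) = 1 := by rw [← map_pow, pow_card_eq_one', map_one]
  apply fix_two h2
  · intro ht
    rcases eq_pm_of_tr h2 ht hc hp with h | h
    · exact h1 h
    · exact h1' h
  · obtain ⟨s, hs⟩ := IsAlgClosed.exists_pow_nat_eq (tr (f h) ^ 2 - 4) (n := 2) (by norm_num)
    exact ⟨s, hs⟩

/-- the set of poles -/
def Pole : Type _ := {x : OnePoint L // ∃ h : H, f h ≠ 1 ∧ f h ≠ -1 ∧ f h • x = x}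

include h2 hc in
theorem finite_pole : Finite (Pole f) := by
  have : (Set.Finite {x : OnePoint L | ∃ h : H, f h ≠ 1 ∧ f h ≠ -1 ∧ f h • x = x}) := by
    have e : {x : OnePoint L | ∃ h : H, f h ≠ 1 ∧ f h ≠ -1 ∧ f h • x = x} =
        ⋃ h : H, {x : OnePoint L | f h ≠ 1 ∧ f h ≠ -1 ∧ f h • x = x} := by
      ext x; simp
    rw [e]
    apply Set.finite_iUnion
    intro h
    by_cases h1 : f h = 1
    · convert Set.finite_empty
      ext x; simp [h1]
    by_cases h1' : f h = -1
    · convert Set.finite_empty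
      ext x; simp [h1']
    obtain ⟨x, x', -, hx⟩ := two_fixed f h2 hc h1 h1'
    refine (Set.toFinite ({x, x'} : Set (OnePoint L))).subset ?_
    rintro y ⟨-, -, hy⟩
    rcases (hx y).1 hy with h | h
    · simp [h]
    · simp [h]
  exact this.to_subtype

/-- scalars -/
def NS : Subgroup H where
  carrier := {h | f h = 1 ∨ f h = -1}
  one_mem' := Or.inl (map_one f)
  mul_mem' := by
    rintro a b (ha | ha) (hb | hb)
    · left; rw [map_mul, ha, hb, one_mul]
    · right; rw [map_mul, ha, hb, one_mul]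
    · right; rw [map_mul, ha, hb, mul_one]
    · left; rw [map_mul, ha, hb, neg_mul_neg, one_mul]
  inv_mem' := by
    rintro a (ha | ha)
    · left; rw [map_inv, ha, inv_one]
    · right; rw [map_inv, ha, inv_neg, inv_one]

theorem mem_NS {h : H} : h ∈ NS f ↔ f h = 1 ∨ f h = -1 := Iff.rfl

instance NS_normal : (NS f).Normal := by
  constructor
  rintro n (hn | hn) g
  · left; rw [map_mul, map_mul, hn, mul_one, map_inv, mul_inv_cancel]
  · right; rw [map_mul, map_mul, hn, mul_neg, mul_one, neg_mul, map_inv, mul_inv_cancel]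

noncomputable instance poleAct : MulAction H (Pole f) where
  smul h x := ⟨f h • x.1, by
    obtain ⟨k, h1, h2, h3⟩ := x.2
    refine ⟨h * k * h⁻¹, ?_, ?_, ?_⟩
    · intro e
      apply h1
      rw [map_mul, map_mul, map_inv] at e
      have : f k = (f h)⁻¹ * (f h * f k * (f h)⁻¹) * f h := by group
      rw [this, e]; group
    · intro e
      apply h2
      rw [map_mul, map_mul, map_inv] at e
      have : f k = (f h)⁻¹ * (f h * f k * (f h)⁻¹) * f h := by group
      rw [this, e, mul_neg, mul_one, neg_mul, inv_mul_cancel]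
    · rw [map_mul, map_mul, map_inv]
      exact fix_conj h3⟩
  one_smul x := Subtype.ext (by
    change f 1 • x.1 = x.1
    rw [map_one, one_smul])
  mul_smul a b x := Subtype.ext (by
    change f (a * b) • x.1 = f a • f b • x.1
    rw [map_mul, mul_smul])

theorem pole_smul (h : H) (x : Pole f) : (h • x).1 = f h • x.1 := rfl

theorem neg_one_smul' (x : OnePoint L) : (-1 : S L) • x = x := by
  induction x with
  | infty => rw [fix_inf, neg10, one10, neg_zero]
  | coe x => rw [fix_coe, neg10, neg11, neg00, neg01, one10, one11, one00, one01]; ring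

theorem NS_le : NS f ≤ (MulAction.toPermHom H (Pole f)).ker := by
  rintro n hn
  rw [MonoidHom.mem_ker]
  ext x
  apply Subtype.ext
  change f n • x.1 = x.1
  rcases hn with h | h
  · rw [h, one_smul]
  · rw [h, neg_one_smul']

noncomputable instance quotAct : MulAction (H ⧸ NS f) (Pole f) :=
  MulAction.compHom (Pole f) (QuotientGroup.lift (NS f) (MulAction.toPermHom H (Pole f)) (NS_le f))

theorem quot_smul (h : H) (x : Pole f) : (QuotientGroup.mk' (NS f) h) • x = h • x := rfl

include h2 hc hf in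
/-- the classification -/
theorem dickson2 {x y : H} (hx : x ^ 3 = 1) (hy : y ^ 3 = 1) (hxy : x * y ≠ y * x)
    (hgen : Subgroup.closure ({x, y} : Set H) = ⊤) :
    Nonempty ((H ⧸ NS f) ≃* alternatingGroup (Fin 4)) ∨ Nonempty ((H ⧸ NS f) ≃* alternatingGroup (Fin 5)) := by
  haveI : Finite (Pole f) := finite_pole f h2 hc
  letI : Fintype (Pole f) := Fintype.ofFinite _
  letI : Fintype (H ⧸ NS f) := Fintype.ofFinite _
  have hmk := QuotientGroup.mk'_surjective (NS f)
  have hp : ∀ h : H, (f h) ^ (Nat.card H) = 1 := fun h => by rw [← map_pow, pow_card_eq_one', map_one]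
  -- commuting
  have hcomm : ∀ (p : OnePoint L) (a b : H), f a • p = p → f b • p = p → a * b = b * a := by
    intro p a b ha hb
    have h1 := tr_comm ha hb
    have h3 : f (a * b * a⁻¹ * b⁻¹) = 1 := by
      apply eq_one_of_tr_two _ hc (hp _)
      rw [map_mul, map_mul, map_mul, map_inv, map_inv]; exact h1
    have h4 : a * b * a⁻¹ * b⁻¹ = 1 := hf (by rw [h3, map_one])
    have : a * b = (a * b * a⁻¹ * b⁻¹) * (b * a) := by group
    rw [this, h4, one_mul]
  have hne : ∀ q : H ⧸ NS f, q ≠ 1 → H5.Dk.fx (Pole f) q = 2 := by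
    intro q hq
    obtain ⟨h, rfl⟩ := hmk q
    have h1 : ¬ (f h = 1 ∨ f h = -1) := by
      intro h1
      apply hq
      rw [QuotientGroup.mk'_apply, QuotientGroup.eq_one_iff]
      exact h1
    push Not at h1
    obtain ⟨p, p', hpp, hfix⟩ := two_fixed f h2 hc h1.1 h1.2
    have hP : ∃ h : H, f h ≠ 1 ∧ f h ≠ -1 ∧ f h • p = p := ⟨h, h1.1, h1.2, (hfix p).2 (Or.inl rfl)⟩
    have hP' : ∃ h : H, f h ≠ 1 ∧ f h ≠ -1 ∧ f h • p' = p' := ⟨h, h1.1, h1.2, (hfix p').2 (Or.inr rfl)⟩
    obtain ⟨P0, hP0⟩ : ∃ P0 : Pole f, P0.1 = p := ⟨⟨p, hP⟩, rfl⟩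
    obtain ⟨P1, hP1⟩ : ∃ P1 : Pole f, P1.1 = p' := ⟨⟨p', hP'⟩, rfl⟩
    rw [H5.Dk.fx, Finset.card_eq_two]
    refine ⟨P0, P1, fun e => hpp (by rw [← hP0, ← hP1, e]), ?_⟩
    ext w
    simp only [Finset.mem_filter, Finset.mem_univ, true_and, Finset.mem_insert, Finset.mem_singleton]
    rw [quot_smul]
    constructor
    · intro e
      have e1 : f h • w.1 = w.1 := congrArg Subtype.val e
      rcases (hfix w.1).1 e1 with h3 | h3
      · left; exact Subtype.ext (by rw [h3, hP0])
      · right; exact Subtype.ext (by rw [h3, hP1])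
    · rintro (rfl | rfl)
      · exact Subtype.ext ((hfix _).2 (Or.inl hP0))
      · exact Subtype.ext ((hfix _).2 (Or.inr hP1))
  have hcyc : ∀ w : Pole f, IsCyclic (stabilizer (H ⧸ NS f) w) := by
    intro w
    obtain ⟨g, hg⟩ := exists_to_inf w.1
    -- the character of the stabilizer
    have h10 : ∀ h : stabilizer H w, (g * f h * g⁻¹).1 1 0 = 0 := by
      intro h
      have h3 : f (h : H) • w.1 = w.1 := congrArg Subtype.val h.2
      have h4 := fix_conj (g := g) h3
      rwa [hg, fix_inf] at h4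
    let χ : stabilizer H w →* L :=
      { toFun := fun h => (g * f h * g⁻¹).1 0 0
        map_one' := by
          rw [OneMemClass.coe_one, map_one, mul_one, mul_inv_cancel, one00]
        map_mul' := by
          intro a b
          have e : g * f ((a * b : stabilizer H w) : H) * g⁻¹ = (g * f a * g⁻¹) * (g * f b * g⁻¹) := by
            rw [Subgroup.coe_mul, map_mul]; group
          rw [e, mul00, h10 b, mul_zero, add_zero] }
    have hχ : Function.Injective χ := by
      rw [injective_iff_map_eq_one]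
      intro a ha
      have h3 : (g * f a * g⁻¹).1 0 0 = 1 := ha
      have h4 := det_eq (g * f a * g⁻¹)
      rw [h10 a, h3, mul_zero, one_mul, sub_zero] at h4
      have h5 : tr (g * f a * g⁻¹) = 2 := by
        rw [tr, h3, h4]; norm_num
      rw [tr_conj] at h5
      have h6 := eq_one_of_tr_two h5 hc (hp _)
      apply Subtype.ext
      exact hf (by rw [h6]; exact (map_one f).symm)
    have hcy : IsCyclic (stabilizer H w) := isCyclic_of_injective_ringHom χ hχ
    let π : stabilizer H w →* stabilizer (H ⧸ NS f) w :=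
      ((QuotientGroup.mk' (NS f)).comp (stabilizer H w).subtype).codRestrict _ (fun h => h.2)
    refine isCyclic_of_surjective π ?_
    rintro ⟨q, hq⟩
    obtain ⟨h, rfl⟩ := hmk q
    exact ⟨⟨h, hq⟩, Subtype.ext rfl⟩
  -- order-three elements vanish in groups of exponent two
  have hsgn : ∀ (χ : (H ⧸ NS f) →* ℤˣ), χ = 1 := by
    intro χ
    have h1 : ∀ a : H, a ^ 3 = 1 → χ (QuotientGroup.mk' (NS f) a) = 1 := by
      intro a ha
      have h3 : (χ (QuotientGroup.mk' (NS f) a)) ^ 3 = 1 := by rw [← map_pow, ← map_pow, ha, map_one, map_one]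
      rcases Int.units_eq_one_or (χ (QuotientGroup.mk' (NS f) a)) with h4 | h4
      · exact h4
      · rw [h4] at h3
        exact absurd h3 (by decide)
    have h3 : (⊤ : Subgroup H) ≤ (χ.comp (QuotientGroup.mk' (NS f))).ker := by
      rw [← hgen, Subgroup.closure_le]
      intro a ha
      simp only [Set.mem_insert_iff, Set.mem_singleton_iff] at ha
      rcases ha with rfl | rfl
      · exact h1 _ hx
      · exact h1 _ hy
    apply MonoidHom.ext
    intro q
    obtain ⟨h, rfl⟩ := hmk q
    exact h3 (Subgroup.mem_top h)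
  have hcard : 2 ≤ Nat.card (H ⧸ NS f) := by
    by_contra hcon
    have h1 : Nat.card (H ⧸ NS f) = 1 := by
      have : 0 < Nat.card (H ⧸ NS f) := Nat.card_pos
      omega
    have h3 : ∀ h : H, f h = 1 ∨ f h = -1 := by
      intro h
      have h4 : QuotientGroup.mk' (NS f) h = 1 := by
        have : Subsingleton (H ⧸ NS f) := (Nat.card_eq_one_iff_unique.1 h1).1
        exact Subsingleton.elim _ _
      rw [QuotientGroup.mk'_apply, QuotientGroup.eq_one_iff] at h4
      exact h4
    apply hxy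
    apply hf
    rw [map_mul, map_mul]
    rcases h3 x with h4 | h4
    · rw [h4, one_mul, mul_one]
    · rw [h4, neg_mul, mul_neg, one_mul, mul_one]
  rcases H5.Dk.classify hne hcyc hcard with ⟨w, hw⟩ | ⟨w, -, ⟨e⟩⟩ | h | ⟨⟨e⟩⟩ | h
  · exfalso
    apply hxy
    have h1 : ∀ h : H, f h • w.1 = w.1 := by
      intro h
      have h3 : QuotientGroup.mk' (NS f) h ∈ stabilizer (H ⧸ NS f) w := by rw [hw]; trivial
      exact congrArg Subtype.val h3
    exact hcomm w.1 x y (h1 x) (h1 y)
  · exfalso
    -- dihedral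
    let χ : DihedralGroup (Nat.card (stabilizer (H ⧸ NS f) w)) →* ℤˣ :=
      { toFun := fun d => match d with
          | .r _ => 1
          | .sr _ => -1
        map_one' := rfl
        map_mul' := by
          rintro (a | a) (b | b) <;> rfl }
    have h1 := hsgn (χ.comp e.toMonoidHom)
    have h3 : (χ.comp e.toMonoidHom) (e.symm (.sr 0)) = -1 := by
      change χ (e (e.symm (.sr 0))) = -1
      rw [MulEquiv.apply_symm_apply]
      rfl
    rw [h1, MonoidHom.one_apply] at h3
    exact absurd h3 (by decide)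
  · exact Or.inl h
  · exfalso
    have h1 := hsgn (Equiv.Perm.sign.comp e.toMonoidHom)
    have h3 : (Equiv.Perm.sign.comp e.toMonoidHom) (e.symm (Equiv.swap 0 1)) = -1 := by
      change Equiv.Perm.sign (e (e.symm (Equiv.swap 0 1))) = -1
      rw [MulEquiv.apply_symm_apply]
      decide
    rw [h1, MonoidHom.one_apply] at h3
    exact absurd h3 (by decide)
  · exact Or.inr h

end Cfsg.Agent.H24.Zas
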