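import Mathlib
import Cfsg.Agent.H24_Zas5
import Cfsg.Agent.H24_Zas6

/-! The trichotomy for pairs of elements of order three in a fixed-point-free linear group. -/

namespace Cfsg.Agent.H24.Zas

open Module
open Cfsg.Agent.H5.SL2 (S)

/-- fixed-point-free representation of a group with a central involution -/
structure Fpf {G 𝕜 V : Type*} [Group G] [Finite G] [Field 𝕜] [AddCommGroup V] [Module 𝕜 V]
    (ρ : G →* End 𝕜 V) (z : G) : Prop where
  fpf : ∀ g : G, g ≠ 1 → ∀ v : V, ρ g v = v → v = 0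
  z1 : z ≠ 1
  z2 : z * z = 1
  card : (Nat.card G : 𝕜) ≠ 0
  nt : ∃ v : V, v ≠ 0

variable {G 𝕜 V : Type*} [Group G] [Finite G] [Field 𝕜] [AddCommGroup V] [Module 𝕜 V]
variable {ρ : G →* End 𝕜 V} {z : G}

namespace Fpf

variable (C : Fpf ρ z)
include C

theorem cancel {g : G} (hg : g ≠ 1) {A : End 𝕜 V} (h : (ρ g - 1) * A = 0) : A = 0 := by
  ext v
  have h1 : (ρ g - 1) (A v) = 0 := congrArg (fun f : End 𝕜 V => f v) h
  rw [LinearMap.sub_apply, Module.End.one_apply, sub_eq_zero] at h1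
  exact C.fpf g hg _ h1

theorem hz : ρ z = -1 := by
  have h1 : (ρ z - 1) * (ρ z + 1) = 0 := by
    have : ρ z * ρ z = 1 := by rw [← map_mul, C.z2, map_one]
    calc (ρ z - 1) * (ρ z + 1) = ρ z * ρ z - 1 := by noncomm_ring
      _ = 0 := by rw [this, sub_self]
  have h2 := C.cancel C.z1 h1
  exact eq_neg_of_add_eq_zero_left h2

theorem inj {g : G} (h : ρ g = 1) : g = 1 := by
  by_contra hg
  obtain ⟨v, hv⟩ := C.nt
  exact hv (C.fpf g hg v (by rw [h]; rfl))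

theorem inj_v {g : G} {v : V} (hv : v ≠ 0) (h : ρ g v = v) : g = 1 := by
  by_contra hg
  exact hv (C.fpf g hg v h)

theorem nt' : (1 : End 𝕜 V) ≠ 0 := by
  obtain ⟨v, hv⟩ := C.nt
  intro h
  apply hv
  exact congrArg (fun f : End 𝕜 V => f v) h

theorem h2 : (2 : 𝕜) ≠ 0 := by
  intro h
  apply C.z1
  apply C.inj
  rw [C.hz]
  have h1 : (2 : 𝕜) • (1 : End 𝕜 V) = 0 := by rw [h, zero_smul]
  rw [two_smul] at h1
  exact neg_eq_of_add_eq_zero_left h1

theorem eq_z {g : G} (hg : g * g = 1) : g = 1 ∨ g = z := by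
  by_contra hcon
  push Not at hcon
  have h1 : (ρ g - 1) * (ρ g + 1) = 0 := by
    have : ρ g * ρ g = 1 := by rw [← map_mul, hg, map_one]
    calc (ρ g - 1) * (ρ g + 1) = ρ g * ρ g - 1 := by noncomm_ring
      _ = 0 := by rw [this, sub_self]
  have h2 := eq_neg_of_add_eq_zero_left (C.cancel hcon.1 h1)
  apply hcon.2
  have h3 : ρ (g * z⁻¹) = 1 := by
    have : z⁻¹ = z := inv_eq_of_mul_eq_one_left C.z2
    rw [this, map_mul, h2, C.hz]; simp
  exact mul_inv_eq_one.1 (C.inj h3)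

theorem z_comm (g : G) : z * g = g * z := by
  have h1 : ρ (z * g * (g * z)⁻¹) = 1 := by
    have h2 : ρ (z * g) = ρ (g * z) := by rw [map_mul, map_mul, C.hz]; simp
    rw [map_mul, h2, ← map_mul, mul_inv_cancel, map_one]
  exact mul_inv_eq_one.1 (C.inj h1)

theorem h3 {x : G} (hx : x ^ 3 = 1) (hx1 : x ≠ 1) : ρ x * ρ x = - ρ x - 1 := by
  have h1 : (ρ x - 1) * (ρ x * ρ x + ρ x + 1) = 0 := by
    have : ρ x * (ρ x * ρ x) = 1 := by rw [← map_mul, ← map_mul, ← mul_assoc, ← pow_three', hx, map_one]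
    calc (ρ x - 1) * (ρ x * ρ x + ρ x + 1) = ρ x * (ρ x * ρ x) - 1 := by noncomm_ring
      _ = 0 := by rw [this, sub_self]
  have h2 := C.cancel hx1 h1
  have : ρ x * ρ x = (ρ x * ρ x + ρ x + 1) - ρ x - 1 := by abel
  rw [this, h2]; abel

/-- trace-like element -/
def tau (ρ : G →* End 𝕜 V) (h : G) : End 𝕜 V := ρ h + ρ h⁻¹

theorem tau_z (h : G) : tau ρ (z * h) = - tau ρ h := by
  have : z⁻¹ = z := inv_eq_of_mul_eq_one_left C.z2
  rw [tau, tau, mul_inv_rev, this, map_mul, map_mul, C.hz]; noncomm_ring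

theorem tau2 {h : G} (hh : h * h = z) : tau ρ h = 0 := by
  have h1 : h⁻¹ = z * h := by
    rw [inv_eq_iff_mul_eq_one, C.z_comm, ← mul_assoc, hh, C.z2]
  rw [tau, h1, map_mul, C.hz]; noncomm_ring

theorem tau3 {h : G} (hh : h ^ 3 = 1) (h1 : h ≠ 1) : tau ρ h = -1 := by
  have h2 : h⁻¹ = h * h := by
    rw [inv_eq_iff_mul_eq_one, ← mul_assoc, ← pow_three']; exact hh
  rw [tau, h2, map_mul, C.h3 hh h1]; noncomm_ring

theorem tau3z {h : G} (hh : h ^ 3 = z) (h1 : h ≠ z) : tau ρ h = 1 := by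
  have h2 : (z * h) ^ 3 = 1 := by
    have hc : Commute z h := C.z_comm h
    rw [hc.mul_pow, hh, pow_three, C.z2, mul_one, C.z2]
  have h3 : z * h ≠ 1 := by
    intro h4
    apply h1
    have : h = z * (z * h) := by rw [← mul_assoc, C.z2, one_mul]
    rw [this, h4, mul_one]
  have h4 := C.tau3 h2 h3
  rw [C.tau_z] at h4
  exact neg_injective h4

theorem tau5 {h : G} (hh : h ^ 5 = 1) (h1 : h ≠ 1) : tau ρ h * tau ρ h + tau ρ h - 1 = 0 := by
  have e5 : ρ h * (ρ h * (ρ h * (ρ h * ρ h))) = 1 := by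
    rw [← map_mul, ← map_mul, ← map_mul, ← map_mul]
    have : h * (h * (h * (h * h))) = h ^ 5 := by simp only [pow_succ, pow_zero, one_mul, mul_assoc]
    rw [this, hh, map_one]
  have h2 : (ρ h - 1) * (1 + ρ h + ρ h * ρ h + ρ h * (ρ h * ρ h) + ρ h * (ρ h * (ρ h * ρ h))) = 0 := by
    calc (ρ h - 1) * (1 + ρ h + ρ h * ρ h + ρ h * (ρ h * ρ h) + ρ h * (ρ h * (ρ h * ρ h)))
        = ρ h * (ρ h * (ρ h * (ρ h * ρ h))) - 1 := by noncomm_ring
      _ = 0 := by rw [e5, sub_self]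
  have h3 := C.cancel h1 h2
  have e1 : ρ h * ρ h⁻¹ = 1 := by rw [← map_mul, mul_inv_cancel, map_one]
  have e2 : ρ h⁻¹ * ρ h = 1 := by rw [← map_mul, inv_mul_cancel, map_one]
  have e1' : ∀ v, ρ h * (ρ h⁻¹ * v) = v := fun v => by rw [← mul_assoc, e1, one_mul]
  have e2' : ∀ v, ρ h⁻¹ * (ρ h * v) = v := fun v => by rw [← mul_assoc, e2, one_mul]
  have h4 : ρ h⁻¹ * (ρ h⁻¹ * (1 + ρ h + ρ h * ρ h + ρ h * (ρ h * ρ h) + ρ h * (ρ h * (ρ h * ρ h)))) = 0 := by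
    rw [h3, mul_zero, mul_zero]
  rw [← h4, tau]
  simp only [mul_add, add_mul, e1, e2, e1', e2', mul_one]
  have : (2 : End 𝕜 V) = 1 + 1 := one_add_one_eq_two.symm
  abel

theorem tau5z {h : G} (hh : h ^ 5 = z) (h1 : h ≠ z) : tau ρ h * tau ρ h - tau ρ h - 1 = 0 := by
  have h2 : (z * h) ^ 5 = 1 := by
    have hc : Commute z h := C.z_comm h
    have hz5 : z ^ 5 = z := by
      have : z ^ 5 = z * ((z * z) * (z * z)) := by simp only [pow_succ, pow_zero, one_mul, mul_assoc]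
      rw [this, C.z2, one_mul, mul_one]
    rw [hc.mul_pow, hh, hz5, C.z2]
  have h3 : z * h ≠ 1 := by
    intro h4
    apply h1
    have : h = z * (z * h) := by rw [← mul_assoc, C.z2, one_mul]
    rw [this, h4, mul_one]
  have h4 := C.tau5 h2 h3
  rw [C.tau_z] at h4
  rw [← h4]; noncomm_ring

theorem tau_mul {x y : G} (hx : x ^ 3 = 1) (hx1 : x ≠ 1) (hy : y ^ 3 = 1) (hy1 : y ≠ 1) :
    (4 : ℤ) • tau ρ (x * y) = ac ρ x y + (2 : ℤ) • 1 := by
  have hxi : ρ x⁻¹ = - ρ x - 1 := by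
    rw [inv_eq_iff_mul_eq_one.2 (show x * (x * x) = 1 by rw [← pow_three]; exact hx), map_mul, C.h3 hx hx1]
  have hyi : ρ y⁻¹ = - ρ y - 1 := by
    rw [inv_eq_iff_mul_eq_one.2 (show y * (y * y) = 1 by rw [← pow_three]; exact hy), map_mul, C.h3 hy hy1]
  rw [tau, mul_inv_rev, map_mul, map_mul, hxi, hyi, ac, U, U]
  simp only [two_mul, mul_add, add_mul, mul_sub, sub_mul, mul_neg, neg_mul, mul_one, one_mul, smul_add, smul_sub, smul_neg]
  module

theorem tau_mul_inv {x y : G} (hx : x ^ 3 = 1) (hx1 : x ≠ 1) (hy : y ^ 3 = 1) (hy1 : y ≠ 1) :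
    (4 : ℤ) • tau ρ (x * y⁻¹) = (2 : ℤ) • 1 - ac ρ x y := by
  have hxi : ρ x⁻¹ = - ρ x - 1 := by
    rw [inv_eq_iff_mul_eq_one.2 (show x * (x * x) = 1 by rw [← pow_three]; exact hx), map_mul, C.h3 hx hx1]
  have hyi : ρ y⁻¹ = - ρ y - 1 := by
    rw [inv_eq_iff_mul_eq_one.2 (show y * (y * y) = 1 by rw [← pow_three]; exact hy), map_mul, C.h3 hy hy1]
  rw [tau, mul_inv_rev, inv_inv, map_mul, map_mul, hxi, hyi, ac, U, U]
  simp only [two_mul, mul_add, add_mul, mul_sub, sub_mul, mul_neg, neg_mul, mul_one, one_mul, smul_add, smul_sub, smul_neg]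
  module

/-- commuting elements of order three -/
theorem comm3 {x y : G} (hx : x ^ 3 = 1) (hx1 : x ≠ 1) (hy : y ^ 3 = 1) (hxy : x * y = y * x) :
    y = 1 ∨ y = x ∨ y = x⁻¹ := by
  by_contra hcon
  push Not at hcon
  obtain ⟨hy1, h1, h2⟩ := hcon
  have hX := C.h3 hx hx1
  have hY := C.h3 hy hy1
  have hXY : ρ x * ρ y = ρ y * ρ x := by rw [← map_mul, hxy, map_mul]
  have hxi : x⁻¹ = x * x := inv_eq_iff_mul_eq_one.2 (show x * (x * x) = 1 by rw [← pow_three]; exact hx)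
  have hyi : y⁻¹ = y * y := inv_eq_iff_mul_eq_one.2 (show y * (y * y) = 1 by rw [← pow_three]; exact hy)
  -- `(x y⁻¹ - 1)(x y - 1) = 0`
  have h3 : (ρ (x * y⁻¹) - 1) * (ρ (x * y) - 1) = 0 := by
    rw [hyi, map_mul, map_mul, map_mul, hY]
    have hXX' : ∀ v, ρ x * (ρ x * v) = -(ρ x * v) - v := fun v => by rw [← mul_assoc, hX]; noncomm_ring
    have hYY' : ∀ v, ρ y * (ρ y * v) = -(ρ y * v) - v := fun v => by rw [← mul_assoc, hY]; noncomm_ring
    have hYX' : ∀ v, ρ y * (ρ x * v) = ρ x * (ρ y * v) := fun v => by rw [← mul_assoc, ← hXY, mul_assoc]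
    simp only [mul_sub, sub_mul, mul_add, add_mul, mul_assoc, mul_neg, neg_mul, mul_one, one_mul, hX, hY, ← hXY,
      hXX', hYY', hYX']
    abel
  have h4 : x * y⁻¹ ≠ 1 := fun h => h1 (mul_inv_eq_one.1 h).symm
  have h5 := C.cancel h4 h3
  have h6 := C.inj (sub_eq_zero.1 h5)
  exact h2 (eq_inv_of_mul_eq_one_right h6)

end Fpf

end Cfsg.Agent.H24.Zas
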