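import Mathlib
import Cfsg.Agent.H24_Zas7

/-! The two-dimensional representation of the group generated by two elements of order three. -/

namespace Cfsg.Agent.H24.Zas

open Module
open Cfsg.Agent.H5.SL2 (S ext2 det_eq mul00 mul01 mul10 mul11 inv00 inv01 inv10 inv11 one00 one01 one10 one11
  neg00 neg01 neg10 neg11)

variable {G 𝕜 V : Type*} [Group G] [Field 𝕜] [AddCommGroup V] [Module 𝕜 V]
variable {ρ : G →* End 𝕜 V} {z : G}

/-- matrix action on a pair of vectors -/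
def Act (ρ : G →* End 𝕜 V) (v0 v1 : V) (h : G) (M : S 𝕜) : Prop :=
  ρ h v0 = M.1 0 0 • v0 + M.1 1 0 • v1 ∧ ρ h v1 = M.1 0 1 • v0 + M.1 1 1 • v1

theorem Act.one (v0 v1 : V) : Act ρ v0 v1 1 1 := by
  constructor
  · rw [map_one, one00, one10, one_smul, zero_smul, add_zero]; rfl
  · rw [map_one, one01, one11, one_smul, zero_smul, zero_add]; rfl

theorem Act.mul {v0 v1 : V} {g h : G} {M N : S 𝕜} (hg : Act ρ v0 v1 g M) (hh : Act ρ v0 v1 h N) :
    Act ρ v0 v1 (g * h) (M * N) := by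
  constructor
  · rw [map_mul, mul00, mul10]
    change ρ g (ρ h v0) = _
    rw [hh.1, map_add, map_smul, map_smul, hg.1, hg.2]
    module
  · rw [map_mul, mul01, mul11]
    change ρ g (ρ h v1) = _
    rw [hh.2, map_add, map_smul, map_smul, hg.1, hg.2]
    module

theorem Act.inv {v0 v1 : V} {g : G} {M : S 𝕜} (hg : Act ρ v0 v1 g M) : Act ρ v0 v1 g⁻¹ M⁻¹ := by
  have hc : ∀ v, ρ g⁻¹ (ρ g v) = v := by
    intro v
    have : ρ g⁻¹ * ρ g = 1 := by rw [← map_mul, inv_mul_cancel, map_one]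
    exact congrArg (fun f : End 𝕜 V => f v) this
  have hd := det_eq M
  constructor
  · rw [inv00, inv10]
    have e : v0 = M.1 1 1 • ρ g v0 - M.1 1 0 • ρ g v1 := by
      rw [hg.1, hg.2]
      have : M.1 1 1 • (M.1 0 0 • v0 + M.1 1 0 • v1) - M.1 1 0 • (M.1 0 1 • v0 + M.1 1 1 • v1) =
        (M.1 0 0 * M.1 1 1 - M.1 0 1 * M.1 1 0) • v0 := by module
      rw [this, hd, one_smul]
    conv_lhs => rw [e]
    rw [map_sub, map_smul, map_smul, hc, hc]
    module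
  · rw [inv01, inv11]
    have e : v1 = M.1 0 0 • ρ g v1 - M.1 0 1 • ρ g v0 := by
      rw [hg.1, hg.2]
      have : M.1 0 0 • (M.1 0 1 • v0 + M.1 1 1 • v1) - M.1 0 1 • (M.1 0 0 • v0 + M.1 1 0 • v1) =
        (M.1 0 0 * M.1 1 1 - M.1 0 1 * M.1 1 0) • v1 := by module
      rw [this, hd, one_smul]
    conv_lhs => rw [e]
    rw [map_sub, map_smul, map_smul, hc, hc]
    module

theorem Act.uniq {v0 v1 : V} (hli : ∀ a b : 𝕜, a • v0 + b • v1 = 0 → a = 0 ∧ b = 0) {g : G} {M N : S 𝕜}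
    (hM : Act ρ v0 v1 g M) (hN : Act ρ v0 v1 g N) : M = N := by
  have e1 := hM.1.symm.trans hN.1
  have e2 := hM.2.symm.trans hN.2
  have h1 := hli (M.1 0 0 - N.1 0 0) (M.1 1 0 - N.1 1 0) (by
    have := sub_eq_zero.2 e1
    rw [← this]; module)
  have h2 := hli (M.1 0 1 - N.1 0 1) (M.1 1 1 - N.1 1 1) (by
    have := sub_eq_zero.2 e2
    rw [← this]; module)
  exact ext2 (sub_eq_zero.1 h1.1) (sub_eq_zero.1 h2.1) (sub_eq_zero.1 h1.2) (sub_eq_zero.1 h2.2)

variable [Finite G] [IsAlgClosed 𝕜] [Module.Finite 𝕜 V]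

theorem Fpf.exists_f (C : Fpf ρ z) {x y : G} (hx : x ^ 3 = 1) (hx1 : x ≠ 1) (hy : y ^ 3 = 1) (hy1 : y ≠ 1)
    (hxy : x * y ≠ y * x) :
    ∃ f : Subgroup.closure ({x, y} : Set G) →* S 𝕜, (∀ h, f h = 1 → (h : G) = 1) ∧
      (∀ h, f h = -1 ↔ (h : G) = z) := by
  have h2 := C.h2
  have hXX := C.h3 hx hx1
  have hYY := C.h3 hy hy1
  obtain ⟨X, hX⟩ : ∃ X, X = U ρ x := ⟨_, rfl⟩
  obtain ⟨Y, hY⟩ : ∃ Y, Y = U ρ y := ⟨_, rfl⟩
  have hX2 : X * X = (-3 : ℤ) • 1 := by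
    rw [hX, U]
    have e : (2 * ρ x + 1) * (2 * ρ x + 1) = 4 * (ρ x * ρ x) + 4 * ρ x + 1 := by noncomm_ring
    rw [e, hXX]; noncomm_ring
  have hY2 : Y * Y = (-3 : ℤ) • 1 := by
    rw [hY, U]
    have e : (2 * ρ y + 1) * (2 * ρ y + 1) = 4 * (ρ y * ρ y) + 4 * ρ y + 1 := by noncomm_ring
    rw [e, hYY]; noncomm_ring
  obtain ⟨m, hm⟩ : ∃ m, m = X * Y + Y * X := ⟨_, rfl⟩
  have hmX : X * m = m * X := by
    have e : X * m - m * X = (X * X) * Y - Y * (X * X) := by rw [hm]; noncomm_ring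
    have : X * m - m * X = 0 := by rw [e, hX2]; noncomm_ring
    exact sub_eq_zero.1 this
  haveI : Nontrivial V := by
    obtain ⟨v, hv⟩ := C.nt
    exact nontrivial_of_ne v 0 hv
  obtain ⟨μ, hμ⟩ := Module.End.exists_eigenvalue m
  -- `X` preserves the eigenspace
  have hmaps : ∀ v ∈ Module.End.eigenspace m μ, X v ∈ Module.End.eigenspace m μ := by
    intro v hv
    rw [Module.End.mem_eigenspace_iff] at hv ⊢
    have : m (X v) = X (m v) := (congrArg (fun f : End 𝕜 V => f v) hmX).symm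
    rw [this, hv, map_smul]
  let X' : End 𝕜 (Module.End.eigenspace m μ) := X.restrict hmaps
  haveI : Nontrivial (Module.End.eigenspace m μ) := by
    rw [Submodule.nontrivial_iff_ne_bot]; exact hμ
  obtain ⟨lam, hlam⟩ := Module.End.exists_eigenvalue X'
  obtain ⟨w, hw⟩ := hlam.exists_hasEigenvector
  obtain ⟨v0, hv0⟩ : ∃ v0 : V, v0 = w := ⟨_, rfl⟩
  have hv0ne : v0 ≠ 0 := by
    rw [hv0]
    intro h
    exact hw.2 (Subtype.ext h)
  have hXv0 : X v0 = lam • v0 := by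
    have := congrArg Subtype.val hw.apply_eq_smul
    rw [hv0]; exact this
  have hmv0 : m v0 = μ • v0 := by
    have := w.2
    rw [Module.End.mem_eigenspace_iff] at this
    rw [hv0]; exact this
  obtain ⟨v1, hv1⟩ : ∃ v1 : V, v1 = Y v0 := ⟨_, rfl⟩
  have hlam2 : lam * lam = -3 := by
    have h1 : (X * X) v0 = (lam * lam) • v0 := by
      change X (X v0) = _
      rw [hXv0, map_smul, hXv0, smul_smul]
    rw [hX2] at h1
    have h3 : (lam * lam + 3) • v0 = 0 := by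
      rw [add_smul, ← h1]
      change (-3 : ℤ) • v0 + _ = 0
      module
    have := (smul_eq_zero.1 h3).resolve_right hv0ne
    linear_combination this
  have hYv1 : Y v1 = (-3 : 𝕜) • v0 := by
    rw [hv1]
    have h1 : (Y * Y) v0 = (-3 : 𝕜) • v0 := by
      rw [hY2]
      change (-3 : ℤ) • v0 = _
      module
    exact h1
  have hXv1 : X v1 = μ • v0 - lam • v1 := by
    have h1 : m v0 = X (Y v0) + Y (X v0) := by rw [hm]; rfl
    rw [← hv1, hXv0, map_smul, ← hv1, hmv0] at h1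
    rw [h1]; abel
  have h22 : ((2 : 𝕜)⁻¹ * 2) = 1 := inv_mul_cancel₀ h2
  have halfx : ∀ v, ρ x v = (2 : 𝕜)⁻¹ • (X v - v) := by
    intro v
    have : X v - v = (2 : 𝕜) • ρ x v := by
      rw [hX, U, two_mul]
      change (ρ x v + ρ x v) + v - v = _
      module
    rw [this, smul_smul, h22, one_smul]
  have halfy : ∀ v, ρ y v = (2 : 𝕜)⁻¹ • (Y v - v) := by
    intro v
    have : Y v - v = (2 : 𝕜) • ρ y v := by
      rw [hY, U, two_mul]
      change (ρ y v + ρ y v) + v - v = _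
      module
    rw [this, smul_smul, h22, one_smul]
  -- independence
  have hli : ∀ a b : 𝕜, a • v0 + b • v1 = 0 → a = 0 ∧ b = 0 := by
    intro a b hab
    by_cases hb : b = 0
    · rw [hb, zero_smul, add_zero] at hab
      exact ⟨(smul_eq_zero.1 hab).resolve_right hv0ne, hb⟩
    · exfalso
      have h1 : v1 = (-(b⁻¹ * a)) • v0 := by
        have h3 : b⁻¹ • (a • v0 + b • v1) = 0 := by rw [hab, smul_zero]
        rw [smul_add, smul_smul, smul_smul, inv_mul_cancel₀ hb, one_smul] at h3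
        rw [neg_smul]
        exact eq_neg_of_add_eq_zero_right h3
      obtain ⟨c, hc⟩ : ∃ c : 𝕜, v1 = c • v0 := ⟨_, h1⟩
      have hyv : ρ y v0 = ((2 : 𝕜)⁻¹ * (c - 1)) • v0 := by
        rw [halfy, ← hv1, hc]; module
      have hxv : ρ x v0 = ((2 : 𝕜)⁻¹ * (lam - 1)) • v0 := by
        rw [halfx, hXv0]; module
      have h3 : ρ (x * y) v0 = ρ (y * x) v0 := by
        rw [map_mul, map_mul]
        change ρ x (ρ y v0) = ρ y (ρ x v0)
        rw [hyv, hxv, map_smul, map_smul, hxv, hyv, smul_smul, smul_smul, mul_comm]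
      have h4 : ρ ((y * x)⁻¹ * (x * y)) v0 = v0 := by
        rw [map_mul]
        change ρ (y * x)⁻¹ (ρ (x * y) v0) = v0
        rw [h3]
        have : ρ (y * x)⁻¹ * ρ (y * x) = 1 := by rw [← map_mul, inv_mul_cancel, map_one]
        exact congrArg (fun f : End 𝕜 V => f v0) this
      have h5 := C.inj_v hv0ne h4
      exact hxy (inv_mul_eq_one.1 h5).symm
  -- the matrices
  have hAx : ∃ M : S 𝕜, Act ρ v0 v1 x M := by
    refine ⟨⟨!![(2 : 𝕜)⁻¹ * (lam - 1), (2 : 𝕜)⁻¹ * μ; 0, (2 : 𝕜)⁻¹ * (-lam - 1)], ?_⟩, ?_, ?_⟩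
    · rw [Matrix.det_fin_two_of]
      have : (2 : 𝕜)⁻¹ * (lam - 1) * ((2 : 𝕜)⁻¹ * (-lam - 1)) - (2 : 𝕜)⁻¹ * μ * 0 =
        ((2 : 𝕜)⁻¹ * 2) * ((2 : 𝕜)⁻¹ * 2) + (2 : 𝕜)⁻¹ * (2 : 𝕜)⁻¹ * (-3 - lam * lam) := by ring
      rw [this, hlam2, h22]; ring
    · change ρ x v0 = ((2 : 𝕜)⁻¹ * (lam - 1)) • v0 + (0 : 𝕜) • v1
      rw [halfx, hXv0]; module
    · change ρ x v1 = ((2 : 𝕜)⁻¹ * μ) • v0 + ((2 : 𝕜)⁻¹ * (-lam - 1)) • v1
      rw [halfx, hXv1]; module
  have hAy : ∃ M : S 𝕜, Act ρ v0 v1 y M := by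
    refine ⟨⟨!![-(2 : 𝕜)⁻¹, (2 : 𝕜)⁻¹ * (-3); (2 : 𝕜)⁻¹, -(2 : 𝕜)⁻¹], ?_⟩, ?_, ?_⟩
    · rw [Matrix.det_fin_two_of]
      have : -(2 : 𝕜)⁻¹ * -(2 : 𝕜)⁻¹ - (2 : 𝕜)⁻¹ * -3 * (2 : 𝕜)⁻¹ = ((2 : 𝕜)⁻¹ * 2) * ((2 : 𝕜)⁻¹ * 2) := by ring
      rw [this, h22, one_mul]
    · change ρ y v0 = (-(2 : 𝕜)⁻¹) • v0 + ((2 : 𝕜)⁻¹) • v1
      rw [halfy, ← hv1]; module
    · change ρ y v1 = ((2 : 𝕜)⁻¹ * (-3)) • v0 + (-(2 : 𝕜)⁻¹) • v1
      rw [halfy, hYv1]; module
  have hall : ∀ h ∈ Subgroup.closure ({x, y} : Set G), ∃ M : S 𝕜, Act ρ v0 v1 h M := by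
    intro h hh
    induction hh using Subgroup.closure_induction with
    | mem g hg =>
      simp only [Set.mem_insert_iff, Set.mem_singleton_iff] at hg
      rcases hg with rfl | rfl
      · exact hAx
      · exact hAy
    | one => exact ⟨1, Act.one v0 v1⟩
    | mul a b _ _ ha hb =>
      obtain ⟨M, hM⟩ := ha
      obtain ⟨N, hN⟩ := hb
      exact ⟨M * N, hM.mul hN⟩
    | inv a _ ha =>
      obtain ⟨M, hM⟩ := ha
      exact ⟨M⁻¹, hM.inv⟩
  choose F hF using fun h : Subgroup.closure ({x, y} : Set G) => hall h.1 h.2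
  refine ⟨⟨⟨F, ?_⟩, ?_⟩, ?_, ?_⟩
  · exact Act.uniq hli (hF 1) (Act.one v0 v1)
  · intro a b
    exact Act.uniq hli (hF (a * b)) ((hF a).mul (hF b))
  · intro h hh
    have e : F h = 1 := hh
    have h1 := (hF h).1
    rw [e, one00, one10, one_smul, zero_smul, add_zero] at h1
    exact C.inj_v hv0ne h1
  · intro h
    have e : (F h = -1) ↔ (h : G) = z := by
      constructor
      · intro e
        have h1 := (hF h).1
        rw [e, neg00, neg10, one00, one10, neg_zero, neg_smul, one_smul, zero_smul, add_zero] at h1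
        have h3 : ρ (z * h) v0 = v0 := by
          rw [map_mul, C.hz]
          change -(ρ h v0) = v0
          rw [h1, neg_neg]
        have h4 := C.inj_v hv0ne h3
        have : (h : G) = z * (z * h) := by rw [← mul_assoc, C.z2, one_mul]
        rw [this, h4, mul_one]
      · intro e
        have hN : Act ρ v0 v1 z (-1) := by
          constructor
          · rw [C.hz, neg00, neg10, one00, one10]
            change -v0 = _
            module
          · rw [C.hz, neg01, neg11, one01, one11]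
            change -v1 = _
            module
        have := hF h
        rw [e] at this
        exact Act.uniq hli this hN
    exact e

end Cfsg.Agent.H24.Zas
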