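import Mathlib
import Cfsg.Agent.H24_Zas8

/-! The trichotomy for pairs of elements of order three. -/

namespace Cfsg.Agent.H24.Zas

open Module
open Cfsg.Agent.H5.SL2 (S ext2 det_eq mul00 mul01 mul10 mul11 inv00 inv01 inv10 inv11 one00 one01 one10 one11
  neg00 neg01 neg10 neg11)

theorem A4_orders : ∀ σ : Equiv.Perm (Fin 4), Equiv.Perm.sign σ = 1 → σ ^ 2 = 1 ∨ σ ^ 3 = 1 := by
  decide +kernel

theorem A5_orders : ∀ σ : Equiv.Perm (Fin 5), Equiv.Perm.sign σ = 1 → σ ^ 2 = 1 ∨ σ ^ 3 = 1 ∨ σ ^ 5 = 1 := by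
  decide +kernel

variable {G 𝕜 V : Type*} [Group G] [Field 𝕜] [AddCommGroup V] [Module 𝕜 V]
variable {ρ : G →* End 𝕜 V} {z : G}

variable [Finite G] [IsAlgClosed 𝕜] [Module.Finite 𝕜 V]

/-- the quotient of the group generated by two noncommuting elements of order three -/
theorem Fpf.pair (C : Fpf ρ z) {x y : G} (hx : x ^ 3 = 1) (hx1 : x ≠ 1) (hy : y ^ 3 = 1) (hy1 : y ≠ 1)
    (hxy : x * y ≠ y * x) :
    (∃ π : Subgroup.closure ({x, y} : Set G) →* alternatingGroup (Fin 4), Function.Surjective π ∧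
        ∀ h, π h = 1 ↔ (h : G) = 1 ∨ (h : G) = z) ∨
    (∃ π : Subgroup.closure ({x, y} : Set G) →* alternatingGroup (Fin 5), Function.Surjective π ∧
        ∀ h, π h = 1 ↔ (h : G) = 1 ∨ (h : G) = z) := by
  obtain ⟨f, hf1, hfz⟩ := C.exists_f hx hx1 hy hy1 hxy
  have hf : Function.Injective f := by
    rw [injective_iff_map_eq_one]
    intro a ha
    exact Subtype.ext (hf1 a ha)
  have hxK : x ∈ Subgroup.closure ({x, y} : Set G) := Subgroup.subset_closure (by simp)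
  have hyK : y ∈ Subgroup.closure ({x, y} : Set G) := Subgroup.subset_closure (by simp)
  have hc : (Nat.card (Subgroup.closure ({x, y} : Set G)) : 𝕜) ≠ 0 := by
    obtain ⟨k, hk⟩ := Subgroup.card_subgroup_dvd_card (Subgroup.closure ({x, y} : Set G))
    intro h
    apply C.card
    rw [hk, Nat.cast_mul, h, zero_mul]
  have hgen : Subgroup.closure ({⟨x, hxK⟩, ⟨y, hyK⟩} : Set (Subgroup.closure ({x, y} : Set G))) = ⊤ := by
    have h1 := Subgroup.closure_closure_coe_preimage (k := ({x, y} : Set G))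
    rw [← h1]
    congr 1
    ext w
    simp only [Set.mem_insert_iff, Set.mem_singleton_iff, Set.mem_preimage]
    constructor
    · rintro (h | h)
      · left; rw [h]
      · right; rw [h]
    · rintro (h | h)
      · left; exact Subtype.ext h
      · right; exact Subtype.ext h
  have hN : ∀ h : Subgroup.closure ({x, y} : Set G), h ∈ NS f ↔ (h : G) = 1 ∨ (h : G) = z := by
    intro h
    rw [mem_NS, hfz]
    constructor
    · rintro (h1 | h1)
      · exact Or.inl (hf1 h h1)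
      · exact Or.inr h1
    · rintro (h1 | h1)
      · left
        have : h = 1 := Subtype.ext h1
        rw [this, map_one]
      · exact Or.inr h1
  rcases dickson2 f hf C.h2 hc (x := ⟨x, hxK⟩) (y := ⟨y, hyK⟩) (Subtype.ext hx) (Subtype.ext hy)
    (fun h => hxy (congrArg Subtype.val h)) hgen with ⟨⟨e⟩⟩ | ⟨⟨e⟩⟩
  · left
    refine ⟨e.toMonoidHom.comp (QuotientGroup.mk' (NS f)), ?_, ?_⟩
    · exact e.surjective.comp (QuotientGroup.mk'_surjective _)
    · intro h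
      rw [← hN, ← QuotientGroup.eq_one_iff]
      exact map_eq_one_iff e e.injective
  · right
    refine ⟨e.toMonoidHom.comp (QuotientGroup.mk' (NS f)), ?_, ?_⟩
    · exact e.surjective.comp (QuotientGroup.mk'_surjective _)
    · intro h
      rw [← hN, ← QuotientGroup.eq_one_iff]
      exact map_eq_one_iff e e.injective

theorem Fpf.orders (C : Fpf ρ z) {x y : G} (hx : x ^ 3 = 1) (hx1 : x ≠ 1) (hy : y ^ 3 = 1) (hy1 : y ≠ 1)
    (hxy : x * y ≠ y * x) {h : G} (hh : h ∈ Subgroup.closure ({x, y} : Set G)) :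
    (h ^ 2 = 1 ∨ h ^ 2 = z) ∨ (h ^ 3 = 1 ∨ h ^ 3 = z) ∨ (h ^ 5 = 1 ∨ h ^ 5 = z) := by
  rcases C.pair hx hx1 hy hy1 hxy with ⟨π, -, hπ⟩ | ⟨π, -, hπ⟩
  · rcases A4_orders (π ⟨h, hh⟩).1 (π ⟨h, hh⟩).2 with h1 | h1
    · left
      have := (hπ (⟨h, hh⟩ ^ 2)).1 (by rw [map_pow]; exact Subtype.ext h1)
      exact this
    · right; left
      have := (hπ (⟨h, hh⟩ ^ 3)).1 (by rw [map_pow]; exact Subtype.ext h1)
      exact this
  · rcases A5_orders (π ⟨h, hh⟩).1 (π ⟨h, hh⟩).2 with h1 | h1 | h1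
    · left
      have := (hπ (⟨h, hh⟩ ^ 2)).1 (by rw [map_pow]; exact Subtype.ext h1)
      exact this
    · right; left
      have := (hπ (⟨h, hh⟩ ^ 3)).1 (by rw [map_pow]; exact Subtype.ext h1)
      exact this
    · right; right
      have := (hπ (⟨h, hh⟩ ^ 5)).1 (by rw [map_pow]; exact Subtype.ext h1)
      exact this

omit [IsAlgClosed 𝕜] [Module.Finite 𝕜 V] in
theorem Fpf.five_ne (C : Fpf ρ z) {h : G} (hh : h ^ 5 = 1) (h1 : h ≠ 1) : (5 : 𝕜) ≠ 0 := by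
  haveI : Fact (Nat.Prime 5) := ⟨by norm_num⟩
  have h5 : orderOf h = 5 := orderOf_eq_prime hh h1
  have h6 : 5 ∣ Nat.card G := by rw [← h5]; exact orderOf_dvd_natCard h
  obtain ⟨k, hk⟩ := h6
  intro h7
  apply C.card
  rw [hk, Nat.cast_mul]
  have : ((5 : ℕ) : 𝕜) = 5 := by norm_num
  rw [this, h7, zero_mul]

omit [IsAlgClosed 𝕜] [Module.Finite 𝕜 V] in
theorem Fpf.three_ne (C : Fpf ρ z) {h : G} (hh : h ^ 3 = 1) (h1 : h ≠ 1) : (3 : 𝕜) ≠ 0 := by
  haveI : Fact (Nat.Prime 3) := ⟨by norm_num⟩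
  have h5 : orderOf h = 3 := orderOf_eq_prime hh h1
  have h6 : 3 ∣ Nat.card G := by rw [← h5]; exact orderOf_dvd_natCard h
  obtain ⟨k, hk⟩ := h6
  intro h7
  apply C.card
  rw [hk, Nat.cast_mul]
  have : ((3 : ℕ) : 𝕜) = 3 := by norm_num
  rw [this, h7, zero_mul]

omit [IsAlgClosed 𝕜] [Module.Finite 𝕜 V] in
theorem Fpf.smul_ne (C : Fpf ρ z) {n : ℤ} (hn : (n : 𝕜) ≠ 0) : n • (1 : End 𝕜 V) ≠ 0 := by
  intro h
  have h1 : (n : 𝕜) • (1 : End 𝕜 V) = 0 := by rw [Int.cast_smul_eq_zsmul]; exact h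
  exact C.nt' ((smul_eq_zero.1 h1).resolve_left hn)

omit [IsAlgClosed 𝕜] [Module.Finite 𝕜 V] in
theorem Fpf.cancel_smul (C : Fpf ρ z) {n : ℤ} (hn : (n : 𝕜) ≠ 0) {A : End 𝕜 V} (h : n • A = 0) : A = 0 := by
  have h1 : (n : 𝕜) • A = 0 := by rw [Int.cast_smul_eq_zsmul]; exact h
  exact (smul_eq_zero.1 h1).resolve_left hn

theorem Fpf.trich (C : Fpf ρ z) {x y : G} (hx : x ^ 3 = 1) (hx1 : x ≠ 1) (hy : y ^ 3 = 1) (hy1 : y ≠ 1)
    (hxy : x * y ≠ y * x) :
    ((x * y) ^ 2 = z ∧ ac ρ x y = (-2 : ℤ) • 1) ∨ ((x * y) ^ 3 = z ∧ ac ρ x y = (2 : ℤ) • 1) ∨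
      ((x * y) ^ 5 = z ∧ (5 : 𝕜) ≠ 0 ∧ ac ρ x y * ac ρ x y = (20 : ℤ) • 1) := by
  have hxK : x ∈ Subgroup.closure ({x, y} : Set G) := Subgroup.subset_closure (by simp)
  have hyK : y ∈ Subgroup.closure ({x, y} : Set G) := Subgroup.subset_closure (by simp)
  have h2 := C.h2
  have h4 : ((4 : ℤ) : 𝕜) ≠ 0 := by
    have : ((4 : ℤ) : 𝕜) = 2 * 2 := by norm_num
    rw [this]; exact mul_ne_zero h2 h2
  have hm := C.tau_mul hx hx1 hy hy1
  have hmi := C.tau_mul_inv hx hx1 hy hy1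
  obtain ⟨h, hh⟩ : ∃ h, h = x * y := ⟨_, rfl⟩
  obtain ⟨g, hg⟩ : ∃ g, g = x * y⁻¹ := ⟨_, rfl⟩
  have hhK : h ∈ Subgroup.closure ({x, y} : Set G) := by rw [hh]; exact mul_mem hxK hyK
  have hgK : g ∈ Subgroup.closure ({x, y} : Set G) := by rw [hg]; exact mul_mem hxK (inv_mem hyK)
  rw [← hh] at hm ⊢
  rw [← hg] at hmi
  have hh1 : h ≠ 1 := by
    intro e
    apply hxy
    rw [hh] at e
    have : y = x⁻¹ := eq_inv_of_mul_eq_one_right e
    rw [this]; simp
  have hhz : h ≠ z := by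
    intro e
    apply hxy
    rw [hh] at e
    have : y = x⁻¹ * z := by rw [← e]; group
    rw [this]
    rw [mul_inv_cancel_left, mul_assoc, C.z_comm, inv_mul_cancel_left]
  have hg1 : g ≠ 1 := by
    intro e
    apply hxy
    rw [hg] at e
    rw [mul_inv_eq_one.1 e]
  have hgz : g ≠ z := by
    intro e
    apply hxy
    rw [hg] at e
    have : x = z * y := by rw [← e]; group
    rw [this, mul_assoc, ← mul_assoc y z y, ← C.z_comm y, mul_assoc]
  obtain ⟨t, ht⟩ : ∃ t, t = tau ρ h := ⟨_, rfl⟩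
  obtain ⟨s, hs⟩ : ∃ s, s = tau ρ g := ⟨_, rfl⟩
  obtain ⟨m, hmm⟩ : ∃ m, m = ac ρ x y := ⟨_, rfl⟩
  rw [← ht, ← hmm] at hm
  rw [← hs, ← hmm] at hmi
  rw [← hmm]
  have hm' : m = (4 : ℤ) • t - (2 : ℤ) • 1 := by rw [hm]; abel
  have hts : s = 1 - t := by
    have : (4 : ℤ) • (s - (1 - t)) = 0 := by
      rw [smul_sub, hmi, hm', smul_sub]; abel
    exact sub_eq_zero.1 (C.cancel_smul h4 this)
  have zz : z ^ 2 = 1 := by rw [pow_two, C.z2]
  rcases C.orders hx hx1 hy hy1 hxy hhK with (h6 | h6) | (h6 | h6) | (h6 | h6)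
  · exfalso
    rcases C.eq_z (by rw [← pow_two]; exact h6) with h7 | h7
    · exact hh1 h7
    · exact hhz h7
  · left
    refine ⟨h6, ?_⟩
    have h7 := C.tau2 (by rw [← pow_two]; exact h6)
    rw [← ht] at h7
    rw [hm', h7, smul_zero, zero_sub, neg_smul]
  · exfalso
    have h7 := C.tau3 h6 hh1
    rw [← ht] at h7
    have h8 : s = (2 : ℤ) • 1 := by rw [hts, h7]; abel
    have h9 : (ρ g - 1) * ((ρ g - 1) * ρ g⁻¹) = 0 := by
      have e1 : ρ g * ρ g⁻¹ = 1 := by rw [← map_mul, mul_inv_cancel, map_one]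
      have e : (ρ g - 1) * ((ρ g - 1) * ρ g⁻¹) = ρ g * (ρ g * ρ g⁻¹) - 2 * (ρ g * ρ g⁻¹) + ρ g⁻¹ := by noncomm_ring
      rw [e, e1, mul_one, mul_one]
      have : ρ g + ρ g⁻¹ = (2 : ℤ) • 1 := by rw [← h8, hs]; rfl
      calc ρ g - 2 + ρ g⁻¹ = ρ g + ρ g⁻¹ - 2 := by abel
        _ = 0 := by rw [this, two_zsmul, ← one_add_one_eq_two]; abel
    have h10 := C.cancel hg1 (C.cancel hg1 h9)
    have e2 : ρ g⁻¹ * ρ g = 1 := by rw [← map_mul, inv_mul_cancel, map_one]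
    apply C.nt'
    rw [← e2, h10, zero_mul]
  · right; left
    refine ⟨h6, ?_⟩
    have h7 := C.tau3z h6 hhz
    rw [← ht] at h7
    rw [hm', h7]; module
  · exfalso
    have h50 := C.five_ne h6 hh1
    have h7 := C.tau5 h6 hh1
    rw [← ht] at h7
    -- `s² - 3 s + 1 = 0`
    have h8 : s * s - (3 : ℤ) • s + (1 : ℤ) • 1 = 0 := by
      rw [hts, ← h7]; noncomm_ring
    have hint : ∀ {n : ℤ}, (n : 𝕜) ≠ 0 → n • (1 : End 𝕜 V) = 0 → False := fun h9 h10 => C.smul_ne h9 h10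
    have h12 : ((1 : ℤ) : 𝕜) ≠ 0 := by norm_num
    rcases C.orders hx hx1 hy hy1 hxy hgK with (h9 | h9) | (h9 | h9) | (h9 | h9)
    · rcases C.eq_z (by rw [← pow_two]; exact h9) with h10 | h10
      · exact hg1 h10
      · exact hgz h10
    · have h10 := C.tau2 (by rw [← pow_two]; exact h9)
      rw [← hs] at h10
      rw [h10] at h8
      apply hint h12
      rw [← h8]; noncomm_ring
    · have h10 := C.tau3 h9 hg1
      rw [← hs] at h10
      rw [h10] at h8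
      have h11 : ((5 : ℤ) : 𝕜) ≠ 0 := by
        have : ((5 : ℤ) : 𝕜) = 5 := by norm_num
        rw [this]; exact h50
      apply hint h11
      rw [← h8]; noncomm_ring
    · have h10 := C.tau3z h9 hgz
      rw [← hs] at h10
      rw [h10] at h8
      have h11 : ((-1 : ℤ) : 𝕜) ≠ 0 := by norm_num
      apply hint h11
      rw [← h8]; noncomm_ring
    · have h10 := C.tau5 h9 hg1
      rw [← hs] at h10
      have e1 : (2 : ℤ) • ((2 : ℤ) • s - 1) = 0 := by
        calc (2 : ℤ) • ((2 : ℤ) • s - 1) = (s * s + s - 1) - (s * s - (3 : ℤ) • s + (1 : ℤ) • 1) := by noncomm_ring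
          _ = 0 := by rw [h10, h8, sub_zero]
      have h2' : ((2 : ℤ) : 𝕜) ≠ 0 := by
        have : ((2 : ℤ) : 𝕜) = 2 := by norm_num
        rw [this]; exact h2
      have e2 := C.cancel_smul h2' e1
      have e3 : (2 : ℤ) • s = 1 := sub_eq_zero.1 e2
      have h11 : ((-1 : ℤ) : 𝕜) ≠ 0 := by norm_num
      apply hint h11
      calc (-1 : ℤ) • (1 : End 𝕜 V) = ((2 : ℤ) • s) * ((2 : ℤ) • s) + (2 : ℤ) • ((2 : ℤ) • s) - (4 : ℤ) • 1 := by
            rw [e3]; noncomm_ring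
        _ = (4 : ℤ) • (s * s + s - 1) := by noncomm_ring
        _ = 0 := by rw [h10, smul_zero]
    · have h10 := C.tau5z h9 hgz
      rw [← hs] at h10
      have e1 : (2 : ℤ) • (s - 1) = 0 := by
        calc (2 : ℤ) • (s - 1) = (s * s - s - 1) - (s * s - (3 : ℤ) • s + (1 : ℤ) • 1) := by noncomm_ring
          _ = 0 := by rw [h10, h8, sub_zero]
      have h2' : ((2 : ℤ) : 𝕜) ≠ 0 := by
        have : ((2 : ℤ) : 𝕜) = 2 := by norm_num
        rw [this]; exact h2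
      have e2 := C.cancel_smul h2' e1
      have e3 : s = 1 := sub_eq_zero.1 e2
      rw [e3] at h10
      have h11 : ((-1 : ℤ) : 𝕜) ≠ 0 := by norm_num
      apply hint h11
      rw [← h10]; noncomm_ring
  · right; right
    have h5' : (z * h) ^ 5 = 1 := by
      have hc : Commute z h := C.z_comm h
      have hz5 : z ^ 5 = z := by
        have : z ^ 5 = z * ((z * z) * (z * z)) := by simp only [pow_succ, pow_zero, one_mul, mul_assoc]
        rw [this, C.z2, one_mul, mul_one]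
      rw [hc.mul_pow, h6, hz5, C.z2]
    have h5n : z * h ≠ 1 := by
      intro h4
      apply hhz
      have : h = z * (z * h) := by rw [← mul_assoc, C.z2, one_mul]
      rw [this, h4, mul_one]
    refine ⟨h6, C.five_ne h5' h5n, ?_⟩
    have h7 := C.tau5z h6 hhz
    rw [← ht] at h7
    have h8 : m * m - (20 : ℤ) • 1 = (16 : ℤ) • (t * t - t - 1) := by rw [hm']; noncomm_ring
    rw [h7, smul_zero] at h8
    exact sub_eq_zero.1 h8

theorem Fpf.ctx (C : Fpf ρ z) : Ctx G (End 𝕜 V) 𝕜 ρ z where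
  h2 := C.h2
  nt := C.nt'
  inj := fun _ => C.inj
  hz := C.hz
  h3 := fun _ => C.h3
  T := by
    intro x y hx hx1 hy hy1
    by_cases hxy : x * y = y * x
    · rcases C.comm3 hx hx1 hy hxy with h | h | h
      · exact absurd h hy1
      · exact Or.inl h
      · exact Or.inr (Or.inl h)
    · rcases C.trich hx hx1 hy hy1 hxy with ⟨-, h⟩ | ⟨-, h⟩ | ⟨-, -, h⟩
      · exact Or.inr (Or.inr (Or.inr (Or.inl h)))
      · exact Or.inr (Or.inr (Or.inl h))
      · exact Or.inr (Or.inr (Or.inr (Or.inr h)))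

end Cfsg.Agent.H24.Zas
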