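import Mathlib
import Cfsg.Agent.H24_Zas9

/-! All elements of order three lie in a subgroup of type `2.A₅`. -/

namespace Cfsg.Agent.H24.Zas

open Module Equiv

/-- the four elements -/
def st5 (a b : Perm (Fin 5)) : List (Perm (Fin 5)) := [a, b, b * a * b⁻¹, b⁻¹ * a * b]

/-- witness condition 1 -/
def WW1 (α β : Perm (Fin 5)) : Prop := β ^ 3 = 1 ∧ β ≠ 1 ∧ (α * β) ^ 3 = 1 ∧ α * β ≠ β * α
instance instWW1 (α β : Perm (Fin 5)) : Decidable (WW1 α β) := by unfold WW1; infer_instance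
/-- witness condition 2 -/
def WW2 (α β ω : Perm (Fin 5)) : Prop := ω ^ 3 = 1 ∧ ω ≠ 1 ∧ (∀ u ∈ st5 α β, u ≠ ω ∧ u ≠ ω⁻¹) ∧
  (∃ u ∈ st5 α β, ω * u ≠ u * ω ∧ (ω * u) ^ 2 = 1)
instance instWW2 (α β ω : Perm (Fin 5)) : Decidable (WW2 α β ω) := by unfold WW2; infer_instance
/-- witness condition 3 -/
def WW3 (α β : Perm (Fin 5)) : Prop := WW1 α β ∧ ∃ ω, WW2 α β ω
instance instWW3 (α β : Perm (Fin 5)) : Decidable (WW3 α β) := by unfold WW3; infer_instance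

theorem wit5 : ∀ α : Perm (Fin 5), α ^ 3 = 1 → α ≠ 1 → ∃ β : Perm (Fin 5), WW3 α β := by
  decide +kernel

theorem five_fact : ∀ α : Perm (Fin 5), α ^ 3 = 1 → α ≠ 1 → ∀ β : Perm (Fin 5), β ^ 3 = 1 → β ≠ 1 →
    (α * β) ^ 3 = 1 → α * β ≠ β * α → ∀ γ : Perm (Fin 5), γ ^ 3 = 1 → γ ≠ 1 →
    ∃ u ∈ st5 α β, γ = u ∨ γ = u⁻¹ ∨ (γ * u) ^ 2 = 1 ∨ (γ * u) ^ 3 = 1 := by
  decide +kernel

theorem sign_of_cube {n : ℕ} {α : Perm (Fin n)} (h : α ^ 3 = 1) : Perm.sign α = 1 := by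
  have h1 : (Perm.sign α) ^ 3 = 1 := by rw [← map_pow, h, map_one]
  rcases Int.units_eq_one_or (Perm.sign α) with h2 | h2
  · exact h2
  · rw [h2] at h1
    exact absurd h1 (by decide)

theorem grp1 {G : Type*} [Group G] (h : G) : h = h ^ 3 * (h ^ 2)⁻¹ := by group
theorem grp2 {G : Type*} [Group G] (h : G) : h = h ^ 5 * ((h ^ 2) ^ 2)⁻¹ := by group
theorem grp3 {G : Type*} [Group G] (h : G) : h = (h ^ 3) ^ 2 * (h ^ 5)⁻¹ := by group

open Ctx (star4 star4_prop star4_le)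

variable {G 𝕜 V : Type*} [Group G] [Field 𝕜] [AddCommGroup V] [Module 𝕜 V]
variable {ρ : G →* End 𝕜 V} {z : G}

variable [Finite G]

theorem mem_zp (z2 : z * z = 1) {h : G} : h ∈ Subgroup.zpowers z ↔ h = 1 ∨ h = z := by
  constructor
  · rintro ⟨k, rfl⟩
    rcases Int.even_or_odd' k with ⟨m, rfl | rfl⟩
    · left
      simp only
      rw [zpow_mul, zpow_two, z2, one_zpow]
    · right
      simp only
      rw [zpow_add, zpow_mul, zpow_two, z2, one_zpow, one_mul, zpow_one]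
  · rintro (rfl | rfl)
    · exact one_mem _
    · exact Subgroup.mem_zpowers _

namespace Fpf

theorem mul_ne (C : Fpf ρ z) {x y : G} (hxy : x * y ≠ y * x) : x * y ∉ Subgroup.zpowers z := by
  rw [mem_zp C.z2]
  rintro (e | e)
  · apply hxy
    have : y = x⁻¹ := eq_inv_of_mul_eq_one_right e
    rw [this]; simp
  · apply hxy
    have : y = x⁻¹ * z := by rw [← e]; group
    rw [this]
    rw [mul_inv_cancel_left, mul_assoc, C.z_comm, inv_mul_cancel_left]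

theorem cube_z (C : Fpf ρ z) : z ^ 3 ≠ 1 := by
  intro h
  apply C.z1
  rw [pow_three, C.z2, mul_one] at h
  exact h

/-- a cube root of one in the centre is trivial -/
theorem cube_mem (C : Fpf ρ z) {x : G} (hx : x ^ 3 = 1) (h : x = 1 ∨ x = z) : x = 1 := by
  rcases h with h | h
  · exact h
  · rw [h] at hx
    exact absurd hx C.cube_z

theorem sixteen (C : Fpf ρ z) {x y : G} (h : ∃ n : ℤ, (n = 2 ∨ n = -2) ∧ ac ρ x y = n • 1)
    (h20 : ac ρ x y * ac ρ x y = (20 : ℤ) • 1) : False := by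
  obtain ⟨n, hn, h⟩ := h
  have h16 : ((16 : ℤ) : 𝕜) ≠ 0 := by
    have : ((16 : ℤ) : 𝕜) = 2 * 2 * (2 * 2) := by norm_num
    rw [this]
    exact mul_ne_zero (mul_ne_zero C.h2 C.h2) (mul_ne_zero C.h2 C.h2)
  have h1 : (n * n) • (1 : End 𝕜 V) = (20 : ℤ) • 1 := by
    rw [← h20, h, smul_mul_smul_comm, one_mul]
  have h2 : n * n = 4 := by rcases hn with rfl | rfl <;> norm_num
  rw [h2] at h1
  apply C.smul_ne h16
  calc (16 : ℤ) • (1 : End 𝕜 V) = (20 : ℤ) • 1 - (4 : ℤ) • 1 := by module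
    _ = 0 := by rw [h1, sub_self]

variable [IsAlgClosed 𝕜] [Module.Finite 𝕜 V]

theorem scal (C : Fpf ρ z) {E : Subgroup G} {Q : Type*} [Group Q] (π : E →* Q)
    (hπ : ∀ h, π h = 1 → (h : G) = 1 ∨ (h : G) = z) {a b : E} (ha : (a : G) ^ 3 = 1) (ha1 : (a : G) ≠ 1)
    (hb : (b : G) ^ 3 = 1) (hb1 : (b : G) ≠ 1) (hab : (a : G) * b ≠ b * a) :
    ((π a * π b) ^ 2 = 1 → ac ρ a b = (-2 : ℤ) • 1) ∧ ((π a * π b) ^ 3 = 1 → ac ρ a b = (2 : ℤ) • 1) := by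
  have hm := C.mul_ne hab
  have hzz : z ∈ Subgroup.zpowers z := Subgroup.mem_zpowers _
  constructor
  · intro h
    have h1 : ((a : G) * b) ^ 2 ∈ Subgroup.zpowers z := by
      rw [mem_zp C.z2]
      have := hπ ((a * b) ^ 2) (by rw [map_pow, map_mul]; exact h)
      exact this
    rcases C.trich ha ha1 hb hb1 hab with ⟨h2, h3⟩ | ⟨h2, h3⟩ | ⟨h2, -, h3⟩
    · exact h3
    · exfalso; apply hm
      rw [grp1 ((a : G) * b), h2]; exact mul_mem hzz (inv_mem h1)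
    · exfalso; apply hm
      rw [grp2 ((a : G) * b), h2]; exact mul_mem hzz (inv_mem (pow_mem h1 2))
  · intro h
    have h1 : ((a : G) * b) ^ 3 ∈ Subgroup.zpowers z := by
      rw [mem_zp C.z2]
      have := hπ ((a * b) ^ 3) (by rw [map_pow, map_mul]; exact h)
      exact this
    rcases C.trich ha ha1 hb hb1 hab with ⟨h2, h3⟩ | ⟨h2, h3⟩ | ⟨h2, -, h3⟩
    · exfalso; apply hm
      rw [grp1 ((a : G) * b), h2]; exact mul_mem h1 (inv_mem hzz)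
    · exact h3
    · exfalso; apply hm
      rw [grp3 ((a : G) * b), h2]; exact mul_mem (pow_mem h1 2) (inv_mem hzz)

/-- type 5 pairs -/
theorem type5 (C : Fpf ρ z) {x y : G} (hx : x ^ 3 = 1) (hx1 : x ≠ 1) (hy : y ^ 3 = 1) (hy1 : y ≠ 1)
    (hxy : x * y ≠ y * x) (h20 : ac ρ x y * ac ρ x y = (20 : ℤ) • 1) :
    ∃ π : Subgroup.closure ({x, y} : Set G) →* alternatingGroup (Fin 5), Function.Surjective π ∧
        ∀ h, π h = 1 ↔ (h : G) = 1 ∨ (h : G) = z := by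
  rcases C.pair hx hx1 hy hy1 hxy with ⟨π, hs, hπ⟩ | h
  · exfalso
    have hxK : x ∈ Subgroup.closure ({x, y} : Set G) := Subgroup.subset_closure (by simp)
    have hyK : y ∈ Subgroup.closure ({x, y} : Set G) := Subgroup.subset_closure (by simp)
    have h1 := C.scal π (fun h => (hπ h).1) (a := ⟨x, hxK⟩) (b := ⟨y, hyK⟩) hx hx1 hy hy1 hxy
    have h2 : (π ⟨x, hxK⟩ * π ⟨y, hyK⟩) ^ 2 = 1 ∨ (π ⟨x, hxK⟩ * π ⟨y, hyK⟩) ^ 3 = 1 := by
      rcases A4_orders (π ⟨x, hxK⟩ * π ⟨y, hyK⟩).1 (π ⟨x, hxK⟩ * π ⟨y, hyK⟩).2 with h | h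
      · left; exact Subtype.ext h
      · right; exact Subtype.ext h
    rcases h2 with h2 | h2
    · exact C.sixteen ⟨-2, Or.inr rfl, h1.1 h2⟩ h20
    · exact C.sixteen ⟨2, Or.inl rfl, h1.2 h2⟩ h20
  · exact h

section
omit [IsAlgClosed 𝕜] [Module.Finite 𝕜 V]

theorem lift3 (C : Fpf ρ z) {E : Subgroup G} {Q : Type*} [Group Q] (π : E →* Q) (hs : Function.Surjective π)
    (hπ : ∀ h, π h = 1 ↔ (h : G) = 1 ∨ (h : G) = z) {α : Q} (hα : α ^ 3 = 1) (hα1 : α ≠ 1) :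
    ∃ a : E, (a : G) ^ 3 = 1 ∧ (a : G) ≠ 1 ∧ π a = α := by
  obtain ⟨a, ha⟩ := hs α
  have h1 : (a : G) ≠ 1 := by
    intro h
    apply hα1
    rw [← ha, (hπ a).2 (Or.inl h)]
  rcases (hπ (a ^ 3)).1 (by rw [map_pow, ha, hα]) with h | h
  · exact ⟨a, h, h1, ha⟩
  · have hz : z ∈ E := by rw [← h]; exact (a ^ 3).2
    have hcz : (((⟨z, hz⟩ : E) * a : E) : G) = z * a := rfl
    have hπz : π (⟨z, hz⟩ * a) = α := by
      rw [map_mul, (hπ ⟨z, hz⟩).2 (Or.inr rfl), one_mul, ha]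
    refine ⟨⟨z, hz⟩ * a, ?_, ?_, hπz⟩
    · rw [hcz]
      have hc : Commute z (a : G) := C.z_comm a
      have h2 : (a : G) ^ 3 = z := h
      rw [hc.mul_pow, h2, pow_three, C.z2, mul_one, C.z2]
    · intro h2
      apply hα1
      rw [← hπz, (hπ _).2 (Or.inl h2)]

theorem inj3 (C : Fpf ρ z) {E : Subgroup G} {Q : Type*} [Group Q] (π : E →* Q)
    (hπ : ∀ h, π h = 1 ↔ (h : G) = 1 ∨ (h : G) = z) {a a' : E} (ha : (a : G) ^ 3 = 1) (ha' : (a' : G) ^ 3 = 1)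
    (h : π a = π a') : a = a' := by
  rcases (hπ (a * a'⁻¹)).1 (by rw [map_mul, map_inv, h, mul_inv_cancel]) with h1 | h1
  · exact mul_inv_eq_one.1 (Subtype.ext h1)
  · exfalso
    have h2 : (a : G) = z * a' := by
      have : (a : G) * (a' : G)⁻¹ = z := h1
      rw [← this]; group
    have hc : Commute z (a' : G) := C.z_comm a'
    rw [h2, hc.mul_pow, ha', mul_one] at ha
    exact C.cube_z ha

theorem img3 (C : Fpf ρ z) {E : Subgroup G} {Q : Type*} [Group Q] (π : E →* Q)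
    (hπ : ∀ h, π h = 1 ↔ (h : G) = 1 ∨ (h : G) = z) {a : E} (ha : (a : G) ^ 3 = 1) (ha1 : (a : G) ≠ 1) :
    (π a) ^ 3 = 1 ∧ π a ≠ 1 := by
  constructor
  · rw [← map_pow]
    rw [hπ]; left; exact ha
  · intro h
    exact ha1 (C.cube_mem ha ((hπ a).1 h))

theorem ncomm3 (C : Fpf ρ z) {a b : G} (ha : a ^ 3 = 1) (ha1 : a ≠ 1) (hb : b ^ 3 = 1) (hb1 : b ≠ 1)
    (h1 : b ≠ a) (h2 : b ≠ a⁻¹) : a * b ≠ b * a := by
  intro h
  rcases C.comm3 ha ha1 hb h with h3 | h3 | h3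
  · exact hb1 h3
  · exact h1 h3
  · exact h2 h3

/-- images of the star -/
theorem star_img {E : Subgroup G} (π : E →* alternatingGroup (Fin 5)) {a b : E} {x : G}
    (hx : x ∈ star4 (a : G) b) : ∃ h : x ∈ E, (π ⟨x, h⟩ : Perm (Fin 5)) ∈ st5 (π a) (π b) := by
  simp only [star4, Set.mem_insert_iff, Set.mem_singleton_iff] at hx
  rcases hx with rfl | rfl | rfl | rfl
  · exact ⟨a.2, by simp [st5]⟩
  · exact ⟨b.2, by simp [st5]⟩
  · refine ⟨(b * a * b⁻¹).2, ?_⟩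
    have : π ⟨(b : G) * a * (b : G)⁻¹, (b * a * b⁻¹).2⟩ = π b * π a * (π b)⁻¹ := by
      rw [← map_inv, ← map_mul, ← map_mul]; rfl
    rw [this]; simp [st5]
  · refine ⟨(b⁻¹ * a * b).2, ?_⟩
    have : π ⟨(b : G)⁻¹ * a * (b : G), (b⁻¹ * a * b).2⟩ = (π b)⁻¹ * π a * π b := by
      rw [← map_inv, ← map_mul, ← map_mul]; rfl
    rw [this]; simp [st5]

theorem star_lift {E : Subgroup G} (π : E →* alternatingGroup (Fin 5)) {a b : E} {u : Perm (Fin 5)}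
    (hu : u ∈ st5 (π a) (π b)) : ∃ x : E, (x : G) ∈ star4 (a : G) b ∧ (π x : Perm (Fin 5)) = u := by
  simp only [st5, List.mem_cons, List.not_mem_nil, or_false] at hu
  rcases hu with rfl | rfl | rfl | rfl
  · exact ⟨a, by simp [star4], rfl⟩
  · exact ⟨b, by simp [star4], rfl⟩
  · refine ⟨b * a * b⁻¹, by simp [star4], ?_⟩
    rw [map_mul, map_mul, map_inv]; rfl
  · refine ⟨b⁻¹ * a * b, by simp [star4], ?_⟩
    rw [map_mul, map_mul, map_inv]; rfl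

end

/-- no scalar relations between a type 5 subgroup and outside elements -/
theorem claim1 (C : Fpf ρ z) {E : Subgroup G} (π : E →* alternatingGroup (Fin 5)) (hs : Function.Surjective π)
    (hπ : ∀ h, π h = 1 ↔ (h : G) = 1 ∨ (h : G) = z) {a : E} {v : G} (ha : (a : G) ^ 3 = 1) (ha1 : (a : G) ≠ 1)
    (hv : v ^ 3 = 1) (hv1 : v ≠ 1) (hvE : v ∉ E) : ac ρ a v * ac ρ a v = (20 : ℤ) • 1 := by
  by_contra hcon
  have hn : ∃ n : ℤ, ac ρ v a = n • 1 := by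
    rw [ac_comm]
    rcases C.ctx.tri ha ha1 hv hv1 with h | h | h | h | h
    · exact absurd (h ▸ a.2) hvE
    · exact absurd (h ▸ inv_mem a.2) hvE
    · exact ⟨2, h⟩
    · exact ⟨-2, h⟩
    · exact absurd h hcon
  obtain ⟨hα, hα1⟩ := C.img3 π hπ ha ha1
  obtain ⟨β, ⟨hβ, hβ1, hαβ, hnc⟩, ω, hω, hω1, hω2, u, hu, hu1, hu2⟩ :=
    wit5 (π a : Perm (Fin 5)) (congrArg Subtype.val hα) (fun h => hα1 (Subtype.ext h))
  obtain ⟨b, hb, hb1, hbβ⟩ := C.lift3 π hs hπ (α := ⟨β, sign_of_cube hβ⟩) (Subtype.ext hβ)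
    (fun h => hβ1 (congrArg Subtype.val h))
  obtain ⟨w, hw, hw1, hwω⟩ := C.lift3 π hs hπ (α := ⟨ω, sign_of_cube hω⟩) (Subtype.ext hω)
    (fun h => hω1 (congrArg Subtype.val h))
  have hbβ' : (π b : Perm (Fin 5)) = β := congrArg Subtype.val hbβ
  have hwω' : (π w : Perm (Fin 5)) = ω := congrArg Subtype.val hwω
  have habn : (a : G) * b ≠ b * a := by
    intro h
    apply hnc
    have h1 : a * b = b * a := Subtype.ext h
    have h2 := congrArg (fun t : E => ((π t : alternatingGroup (Fin 5)) : Perm (Fin 5))) h1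
    simp only [map_mul, Subgroup.coe_mul] at h2
    rw [hbβ'] at h2
    exact h2
  have hab := (C.scal π (fun h => (hπ h).1) ha ha1 hb hb1 habn).2 (by
    apply Subtype.ext
    rw [hbβ]; exact hαβ)
  refine hvE (C.ctx.lemBG ha ha1 hb hb1 hab hv hv1 ?_ ?_ hw hw1 ?_ ?_ E a.2 b.2 w.2)
  · intro x hx
    obtain ⟨hxE, -⟩ := star_img π hx
    constructor
    · intro h; exact hvE (h ▸ hxE)
    · intro h
      have : v = x⁻¹ := by rw [h, inv_inv]
      exact hvE (this ▸ inv_mem hxE)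
  · exact ⟨a, by simp [star4], hn⟩
  · intro x hx
    obtain ⟨hxE, hx2⟩ := star_img π hx
    rw [hbβ'] at hx2
    obtain ⟨h3, h4⟩ := hω2 _ hx2
    constructor
    · intro h
      apply h3
      have : (⟨x, hxE⟩ : E) = w := Subtype.ext h
      rw [this, hwω']
    · intro h
      apply h4
      have : (⟨x, hxE⟩ : E) = w⁻¹ := Subtype.ext h
      rw [this, map_inv]
      change ((π w : alternatingGroup (Fin 5)) : Perm (Fin 5))⁻¹ = ω⁻¹
      rw [hwω']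
  · obtain ⟨x, hx1, hx2⟩ := star_lift π (a := a) (b := b) (u := u) (by rw [hbβ']; exact hu)
    refine ⟨x, hx1, -2, ?_⟩
    obtain ⟨hx3, hx4⟩ := star4_prop ha ha1 hb hb1 hx1
    refine (C.scal π (fun h => (hπ h).1) hw hw1 hx3 hx4 ?_).1 ?_
    · intro h
      apply hu1
      have h1 : w * x = x * w := Subtype.ext h
      have h2 := congrArg (fun t : E => ((π t : alternatingGroup (Fin 5)) : Perm (Fin 5))) h1
      simp only [map_mul, Subgroup.coe_mul] at h2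
      rw [hwω', hx2] at h2
      exact h2
    · apply Subtype.ext
      change ((π w : alternatingGroup (Fin 5)) * (π x : alternatingGroup (Fin 5)) : Perm (Fin 5)) ^ 2 = 1
      rw [hwω', hx2]; exact hu2

/-- all elements of order three lie in a type 5 subgroup -/
theorem claim2 (C : Fpf ρ z) {E : Subgroup G} (π : E →* alternatingGroup (Fin 5)) (hs : Function.Surjective π)
    (hπ : ∀ h, π h = 1 ↔ (h : G) = 1 ∨ (h : G) = z) {w : G} (hw : w ^ 3 = 1) : w ∈ E := by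
  by_contra hwE
  have hw1 : w ≠ 1 := fun h => hwE (h ▸ one_mem E)
  -- two elements
  obtain ⟨α, hα, hα1⟩ : ∃ α : Perm (Fin 5), α ^ 3 = 1 ∧ α ≠ 1 := ⟨swap 0 1 * swap 1 2, by decide, by decide⟩
  obtain ⟨β, ⟨hβ, hβ1, hαβ, hnc⟩, -⟩ := wit5 α hα hα1
  obtain ⟨a, ha, ha1, haα⟩ := C.lift3 π hs hπ (α := ⟨α, sign_of_cube hα⟩) (Subtype.ext hα)
    (fun h => hα1 (congrArg Subtype.val h))
  obtain ⟨b, hb, hb1, hbβ⟩ := C.lift3 π hs hπ (α := ⟨β, sign_of_cube hβ⟩) (Subtype.ext hβ)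
    (fun h => hβ1 (congrArg Subtype.val h))
  have haα' : (π a : Perm (Fin 5)) = α := congrArg Subtype.val haα
  have hbβ' : (π b : Perm (Fin 5)) = β := congrArg Subtype.val hbβ
  have habn : (a : G) * b ≠ b * a := by
    intro h
    apply hnc
    have h1 : a * b = b * a := Subtype.ext h
    have h2 := congrArg (fun t : E => ((π t : alternatingGroup (Fin 5)) : Perm (Fin 5))) h1
    simp only [map_mul, Subgroup.coe_mul] at h2
    rw [hbβ', haα'] at h2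
    exact h2
  have hab := (C.scal π (fun h => (hπ h).1) ha ha1 hb hb1 habn).2 (by
    apply Subtype.ext
    rw [haα, hbβ]; exact hαβ)
  have hab3 : ((a : G) * b) ^ 3 = z := by
    rcases C.trich ha ha1 hb hb1 habn with ⟨-, h3⟩ | ⟨h2, -⟩ | ⟨-, -, h3⟩
    · exfalso
      rw [hab] at h3
      have h4 : ((4 : ℤ) : 𝕜) ≠ 0 := by
        have : ((4 : ℤ) : 𝕜) = 2 * 2 := by norm_num
        rw [this]; exact mul_ne_zero C.h2 C.h2
      apply C.smul_ne h4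
      calc (4 : ℤ) • (1 : End 𝕜 V) = (2 : ℤ) • 1 - (-2 : ℤ) • 1 := by module
        _ = 0 := by rw [h3, sub_self]
    · exact h2
    · exfalso
      exact C.sixteen ⟨2, Or.inl rfl, hab⟩ h3
  have haw : (a : G) * w ≠ w * a := by
    apply C.ncomm3 ha ha1 hw hw1
    · intro h; exact hwE (h ▸ a.2)
    · intro h; exact hwE (h ▸ inv_mem a.2)
  have h20 := C.claim1 π hs hπ ha ha1 hw hw1 hwE
  obtain ⟨π', hs', hπ'⟩ := C.type5 ha ha1 hw hw1 haw h20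
  have haK : (a : G) ∈ Subgroup.closure ({(a : G), w} : Set G) := Subgroup.subset_closure (by simp)
  have hwK : w ∈ Subgroup.closure ({(a : G), w} : Set G) := Subgroup.subset_closure (by simp)
  have hbK : (b : G) ∈ Subgroup.closure ({(a : G), w} : Set G) := by
    by_contra hbK
    exact C.sixteen ⟨2, Or.inl rfl, hab⟩ (C.claim1 π' hs' hπ' (a := ⟨a, haK⟩) ha ha1 hb hb1 hbK)
  have i1 := C.img3 π' hπ' (a := ⟨a, haK⟩) ha ha1
  have i2 := C.img3 π' hπ' (a := ⟨b, hbK⟩) hb hb1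
  have i3 := C.img3 π' hπ' (a := ⟨w, hwK⟩) hw hw1
  have i4 : (π' ⟨a, haK⟩ * π' ⟨b, hbK⟩) ^ 3 = 1 := by
    rw [← map_mul, ← map_pow, hπ']
    right; exact hab3
  have i5 : π' ⟨a, haK⟩ * π' ⟨b, hbK⟩ ≠ π' ⟨b, hbK⟩ * π' ⟨a, haK⟩ := by
    intro h
    have h1 : π' (⟨a, haK⟩ * ⟨b, hbK⟩ * (⟨b, hbK⟩ * ⟨a, haK⟩)⁻¹) = 1 := by
      rw [map_mul, map_inv, map_mul, map_mul, h, mul_inv_cancel]
    rcases (hπ' _).1 h1 with h2 | h2
    · have h3 : (a : G) * b * ((b : G) * a)⁻¹ = 1 := h2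
      exact habn (mul_inv_eq_one.1 h3)
    · have h3 : (a : G) * b * ((b : G) * a)⁻¹ = z := h2
      have h4 : (a : G) * b = z * (b * a) := by rw [← h3]; group
      -- cubes
      have h5 : (a : G) * b * (a : G)⁻¹ = z * b := by rw [h4]; group
      have h6 : ((a : G) * b * (a : G)⁻¹) ^ 3 = 1 := by rw [conj_pow, hb]; group
      have hc : Commute z (b : G) := C.z_comm b
      rw [h5, hc.mul_pow, hb, mul_one] at h6
      exact C.cube_z h6
  obtain ⟨u, hu, hu2⟩ := five_fact (π' ⟨a, haK⟩ : Perm (Fin 5)) (congrArg Subtype.val i1.1)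
    (fun h => i1.2 (Subtype.ext h)) (π' ⟨b, hbK⟩ : Perm (Fin 5)) (congrArg Subtype.val i2.1)
    (fun h => i2.2 (Subtype.ext h)) (congrArg Subtype.val i4) (fun h => i5 (Subtype.ext h))
    (π' ⟨w, hwK⟩ : Perm (Fin 5)) (congrArg Subtype.val i3.1) (fun h => i3.2 (Subtype.ext h))
  obtain ⟨x, hx1, hx2⟩ := star_lift π' (a := ⟨a, haK⟩) (b := ⟨b, hbK⟩) (u := u) hu
  obtain ⟨hx3, hx4⟩ := star4_prop ha ha1 hb hb1 hx1
  obtain ⟨hxE, -⟩ := star_img π (a := a) (b := b) hx1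
  have h20' := C.claim1 π hs hπ (a := ⟨x, hxE⟩) hx3 hx4 hw hw1 hwE
  have hwx : w * (x : G) ≠ x * w := by
    apply C.ncomm3 hw hw1 hx3 hx4
    · intro h; exact hwE (h ▸ hxE)
    · intro h
      have : w = (x : G)⁻¹ := by rw [h, inv_inv]
      exact hwE (this ▸ inv_mem hxE)
  have hsc := C.scal π' (fun h => (hπ' h).1) (a := ⟨w, hwK⟩) (b := x) hw hw1 hx3 hx4 hwx
  have h20'' : ac ρ w x * ac ρ w x = (20 : ℤ) • 1 := by rw [ac_comm]; exact h20'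
  rcases hu2 with h | h | h | h
  · apply hwE
    have h1 : (⟨w, hwK⟩ : Subgroup.closure ({(a : G), w} : Set G)) = x := by
      apply C.inj3 π' hπ' hw hx3
      apply Subtype.ext
      rw [h, hx2]
    have h2 : w = x := congrArg Subtype.val h1
    rw [h2]; exact hxE
  · apply hwE
    have h1 : (⟨w, hwK⟩ : Subgroup.closure ({(a : G), w} : Set G)) = x⁻¹ := by
      apply C.inj3 π' hπ' hw
      · change (x : G)⁻¹ ^ 3 = 1
        rw [inv_pow, hx3, inv_one]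
      · apply Subtype.ext
        rw [h, ← hx2, map_inv]; rfl
    have h2 : w = (x : G)⁻¹ := congrArg Subtype.val h1
    rw [h2]; exact inv_mem hxE
  · refine C.sixteen ⟨-2, Or.inr rfl, hsc.1 ?_⟩ h20''
    apply Subtype.ext
    change ((π' ⟨w, hwK⟩ : alternatingGroup (Fin 5)) * (π' x : alternatingGroup (Fin 5)) : Perm (Fin 5)) ^ 2 = 1
    rw [hx2]; exact h
  · refine C.sixteen ⟨2, Or.inl rfl, hsc.2 ?_⟩ h20''
    apply Subtype.ext
    change ((π' ⟨w, hwK⟩ : alternatingGroup (Fin 5)) * (π' x : alternatingGroup (Fin 5)) : Perm (Fin 5)) ^ 3 = 1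
    rw [hx2]; exact h

/-- the case without type 5 pairs -/
theorem claim3 (C : Fpf ρ z) (hno : ∀ x y : G, x ^ 3 = 1 → x ≠ 1 → y ^ 3 = 1 → y ≠ 1 →
      ac ρ x y * ac ρ x y ≠ (20 : ℤ) • 1) {a b : G} (ha : a ^ 3 = 1) (ha1 : a ≠ 1) (hb : b ^ 3 = 1) (hb1 : b ≠ 1)
    (hab : ac ρ a b = (2 : ℤ) • 1) {w : G} (hw : w ^ 3 = 1) (hw1 : w ≠ 1) :
    ∃ u ∈ star4 a b, w = u ∨ w = u⁻¹ := by
  by_contra hcon
  push Not at hcon
  have hnot : ∀ u ∈ star4 a b, u ≠ w ∧ u ≠ w⁻¹ := by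
    intro u hu
    obtain ⟨h1, h2⟩ := hcon u hu
    exact ⟨fun h => h1 h.symm, fun h => h2 (by rw [h, inv_inv])⟩
  have haS : a ∈ star4 a b := by simp [star4]
  have hsome : ∃ u ∈ star4 a b, ∃ n : ℤ, ac ρ w u = n • 1 := by
    refine ⟨a, haS, ?_⟩
    obtain ⟨h1, h2⟩ := hnot a haS
    rcases C.ctx.tri hw hw1 ha ha1 with h | h | h | h | h
    · exact absurd h h1
    · exact absurd h h2
    · exact ⟨2, h⟩
    · exact ⟨-2, h⟩
    · exact absurd h (hno w a hw hw1 ha ha1)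
  obtain ⟨g, -, Y, hY, hYY, hW⟩ := C.ctx.normG ha ha1 hb hb1 hab hw hw1 hnot hsome
  obtain ⟨F, f1, -, -, -⟩ := C.ctx.frame ha ha1 hb hb1 hab
  have e : g⁻¹ * w * g = g⁻¹ * w * g⁻¹⁻¹ := by rw [inv_inv]
  have W3 : (g⁻¹ * w * g) ^ 3 = 1 := by rw [e]; exact C.ctx.conj3 hw _
  have W1 : g⁻¹ * w * g ≠ 1 := by rw [e]; exact C.ctx.conj_ne hw1 _
  apply hno _ _ W3 W1 ha ha1
  have h4 : (4 : ℤ) • (ac ρ (g⁻¹ * w * g) a * ac ρ (g⁻¹ * w * g) a) = (4 : ℤ) • ((20 : ℤ) • 1) := by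
    have e1 : (2 : ℤ) • ac ρ (g⁻¹ * w * g) a = (-4 : ℤ) • Y := by
      have e2 : (2 : ℤ) • ac ρ (g⁻¹ * w * g) a = ((2 : ℤ) • U ρ (g⁻¹ * w * g)) * U ρ a +
        U ρ a * ((2 : ℤ) • U ρ (g⁻¹ * w * g)) := by rw [ac]; noncomm_ring
      rw [e2, hW, f1]
      obtain ⟨i, hi⟩ : ∃ i, i = ρ (b * a * b) := ⟨_, rfl⟩
      obtain ⟨j, hj⟩ : ∃ j, j = ρ (b * a⁻¹) := ⟨_, rfl⟩
      obtain ⟨k, hk⟩ : ∃ k, k = ρ (a⁻¹ * b) := ⟨_, rfl⟩
      rw [← hi, ← hj, ← hk] at F hY ⊢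
      simp only [mul_sub, sub_mul, mul_add, add_mul, mul_assoc, mul_one, one_mul, hY.ci, hY.cj, hY.ck, F.ii, F.jj,
        F.kk, F.ij, F.jk, F.ki, F.ji, F.kj, F.ik, F.ii', F.jj', F.kk', F.ij', F.jk', F.ki', F.ji', F.kj', F.ik']
      module
    have e3 : (4 : ℤ) • (ac ρ (g⁻¹ * w * g) a * ac ρ (g⁻¹ * w * g) a) =
        ((2 : ℤ) • ac ρ (g⁻¹ * w * g) a) * ((2 : ℤ) • ac ρ (g⁻¹ * w * g) a) := by
      rw [smul_mul_smul_comm]; norm_num
    rw [e3, e1, smul_mul_smul_comm, hYY, smul_smul, smul_smul]; norm_num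
  have h4' : ((4 : ℤ) : 𝕜) ≠ 0 := by
    have : ((4 : ℤ) : 𝕜) = 2 * 2 := by norm_num
    rw [this]; exact mul_ne_zero C.h2 C.h2
  rw [← sub_eq_zero, ← smul_sub] at h4
  exact sub_eq_zero.1 (C.cancel_smul h4' h4)

end Fpf

end Cfsg.Agent.H24.Zas
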