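import Mathlib
import Cfsg.Agent.H24_Zas10

/-! The trichotomy for groups with a fixed-point-free representation. -/

namespace Cfsg.Agent.H24.Zas

open Module Equiv
open Ctx (star4 star4_prop star4_le)

variable {G 𝕜 V : Type*} [Group G] [Field 𝕜] [AddCommGroup V] [Module 𝕜 V]
variable {ρ : G →* End 𝕜 V} {z : G}

variable [Finite G]

/-- the subgroup generated by elements of order three -/
def O3 (G : Type*) [Group G] : Subgroup G := Subgroup.closure {x : G | x ^ 3 = 1}

theorem mem_O3 {G : Type*} [Group G] {x : G} (h : x ^ 3 = 1) : x ∈ O3 G := Subgroup.subset_closure h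

instance O3_char {G : Type*} [Group G] : (O3 G).Characteristic := by
  rw [Subgroup.characteristic_iff_map_le]
  intro φ
  rw [O3, MonoidHom.map_closure, Subgroup.closure_le]
  rintro _ ⟨x, hx, rfl⟩
  apply Subgroup.subset_closure
  have h1 : x ^ 3 = 1 := hx
  change (φ x) ^ 3 = 1
  rw [← map_pow, h1, map_one]

theorem O3_eq {G : Type*} [Group G] {x y : G} (hx : x ^ 3 = 1) (hy : y ^ 3 = 1)
    (h : ∀ w : G, w ^ 3 = 1 → w ∈ Subgroup.closure ({x, y} : Set G)) :
    Subgroup.closure ({x, y} : Set G) = O3 G := by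
  apply le_antisymm
  · rw [Subgroup.closure_le]
    intro u hu
    simp only [Set.mem_insert_iff, Set.mem_singleton_iff] at hu
    rcases hu with rfl | rfl
    · exact mem_O3 hx
    · exact mem_O3 hy
  · rw [O3, Subgroup.closure_le]
    exact fun w hw => h w hw

variable [IsAlgClosed 𝕜] [Module.Finite 𝕜 V]

/-- the trichotomy -/
theorem Fpf.trichotomy (C : Fpf ρ z) :
    (∀ x y : G, x ^ 3 = 1 → x ≠ 1 → y ^ 3 = 1 → y ≠ 1 → y = x ∨ y = x⁻¹) ∨
    (∃ π : O3 G →* alternatingGroup (Fin 4), Function.Surjective π ∧ ∀ h, π h = 1 ↔ (h : G) = 1 ∨ (h : G) = z) ∨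
    (∃ π : O3 G →* alternatingGroup (Fin 5), Function.Surjective π ∧ ∀ h, π h = 1 ↔ (h : G) = 1 ∨ (h : G) = z) := by
  by_cases hno : ∀ x y : G, x ^ 3 = 1 → x ≠ 1 → y ^ 3 = 1 → y ≠ 1 → ac ρ x y * ac ρ x y ≠ (20 : ℤ) • 1
  · by_cases hall : ∀ x y : G, x ^ 3 = 1 → x ≠ 1 → y ^ 3 = 1 → y ≠ 1 → y = x ∨ y = x⁻¹
    · exact Or.inl hall
    · right
      push Not at hall
      obtain ⟨x, y, hx, hx1, hy, hy1, h1, h2⟩ := hall
      obtain ⟨a, b, ha, ha1, hb, hb1, hab⟩ : ∃ a b : G, a ^ 3 = 1 ∧ a ≠ 1 ∧ b ^ 3 = 1 ∧ b ≠ 1 ∧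
          ac ρ a b = (2 : ℤ) • 1 := by
        rcases C.ctx.tri hx hx1 hy hy1 with h | h | h | h | h
        · exact absurd h h1
        · exact absurd h h2
        · exact ⟨x, y, hx, hx1, hy, hy1, h⟩
        · refine ⟨x⁻¹, y, by rw [inv_pow, hx, inv_one], inv_ne_one.2 hx1, hy, hy1, ?_⟩
          rw [C.ctx.ac_inv hx hx1, h, ← neg_smul]; rfl
        · exact absurd h (hno x y hx hx1 hy hy1)
      have hnc : a * b ≠ b * a := by
        intro hc
        have h16 : ∀ n : ℤ, (n = -6 ∨ n = 6) → n • (1 : End 𝕜 V) ≠ (2 : ℤ) • 1 := by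
          intro n hn he
          have h4 : ((8 : ℤ) : 𝕜) ≠ 0 := by
            have : ((8 : ℤ) : 𝕜) = 2 * 2 * 2 := by norm_num
            rw [this]; exact mul_ne_zero (mul_ne_zero C.h2 C.h2) C.h2
          have h4' : ((4 : ℤ) : 𝕜) ≠ 0 := by
            have : ((4 : ℤ) : 𝕜) = 2 * 2 := by norm_num
            rw [this]; exact mul_ne_zero C.h2 C.h2
          rcases hn with rfl | rfl
          · apply C.smul_ne h4
            calc (8 : ℤ) • (1 : End 𝕜 V) = (2 : ℤ) • 1 - (-6 : ℤ) • 1 := by module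
              _ = 0 := by rw [he, sub_self]
          · apply C.smul_ne h4'
            calc (4 : ℤ) • (1 : End 𝕜 V) = (6 : ℤ) • 1 - (2 : ℤ) • 1 := by module
              _ = 0 := by rw [he, sub_self]
        have hself : ac ρ a a = (-6 : ℤ) • 1 := by
          rw [ac, C.ctx.U_sq ha ha1]; module
        rcases C.comm3 ha ha1 hb hc with h | h | h
        · exact hb1 h
        · rw [h, hself] at hab
          exact h16 _ (Or.inl rfl) hab
        · rw [h, ac_comm, C.ctx.ac_inv ha ha1, hself] at hab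
          apply h16 6 (Or.inr rfl)
          rw [← hab]; module
      have hK := O3_eq ha hb (fun w hw => by
        by_cases hw1 : w = 1
        · rw [hw1]; exact one_mem _
        · obtain ⟨u, hu, h | h⟩ := C.claim3 hno ha ha1 hb hb1 hab hw hw1
          · rw [h]; exact star4_le hu
          · rw [h]; exact inv_mem (star4_le hu))
      rcases C.pair ha ha1 hb hb1 hnc with h | h
      · left
        rw [hK] at h; exact h
      · right
        rw [hK] at h; exact h
  · right; right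
    push Not at hno
    obtain ⟨x, y, hx, hx1, hy, hy1, h20⟩ := hno
    have hnc : x * y ≠ y * x := by
      intro hc
      have h16 : (36 : ℤ) • (1 : End 𝕜 V) ≠ (20 : ℤ) • 1 := by
        intro he
        have h4 : ((16 : ℤ) : 𝕜) ≠ 0 := by
          have : ((16 : ℤ) : 𝕜) = 2 * 2 * (2 * 2) := by norm_num
          rw [this]; exact mul_ne_zero (mul_ne_zero C.h2 C.h2) (mul_ne_zero C.h2 C.h2)
        apply C.smul_ne h4
        calc (16 : ℤ) • (1 : End 𝕜 V) = (36 : ℤ) • 1 - (20 : ℤ) • 1 := by module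
          _ = 0 := by rw [he, sub_self]
      have hself : ac ρ x x = (-6 : ℤ) • 1 := by
        rw [ac, C.ctx.U_sq hx hx1]; module
      rcases C.comm3 hx hx1 hy hc with h | h | h
      · exact hy1 h
      · apply h16
        rw [← h20, h, hself, smul_mul_smul_comm]; norm_num
      · apply h16
        rw [← h20, h, ac_comm, C.ctx.ac_inv hx hx1, hself, neg_mul_neg, smul_mul_smul_comm]; norm_num
    obtain ⟨π, hs, hπ⟩ := C.type5 hx hx1 hy hy1 hnc h20
    have hK := O3_eq hx hy (fun w hw => C.claim2 π hs hπ hw)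
    have h : ∃ π : Subgroup.closure ({x, y} : Set G) →* alternatingGroup (Fin 5), Function.Surjective π ∧
      ∀ h, π h = 1 ↔ (h : G) = 1 ∨ (h : G) = z := ⟨π, hs, hπ⟩
    rw [hK] at h
    exact h

end Cfsg.Agent.H24.Zas
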