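import Mathlib
import Cfsg.Agent.H24_Zas11
import Cfsg.Agent.H24_Weight
import Cfsg.Agent.H23_PQuat
import Cfsg.Agent.H23_AutRank
import Cfsg.Agent.H2_Fusion3
import Cfsg.Agent.H20_MaxAb2
import Cfsg.Agent.H3_Burnside

/-! Groups all of whose abelian subgroups are cyclic: solvability criteria. -/

namespace Cfsg.Agent.H24.Zas

open Subgroup Cfsg

/-- abelian subgroups are cyclic -/
def Cyc (G : Type*) [Group G] : Prop := ∀ A : Subgroup G, (∀ a ∈ A, ∀ b ∈ A, a * b = b * a) → IsCyclic A

variable {G : Type*} [Group G]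

theorem Cyc.of_inj {H : Type*} [Group H] (h : Cyc G) (f : H →* G) (hf : Function.Injective f) : Cyc H := by
  intro A hA
  have h1 : IsCyclic (A.map f) := h _ (by
    rintro _ ⟨a, ha, rfl⟩ _ ⟨b, hb, rfl⟩
    rw [← map_mul, ← map_mul, hA a ha b hb])
  let e := A.equivMapOfInjective f hf
  exact isCyclic_of_surjective e.symm e.symm.surjective

theorem Cyc.sub (h : Cyc G) (H : Subgroup G) : Cyc H := h.of_inj H.subtype H.subtype_injective

theorem Cyc.pgroup (h : Cyc G) {P : Subgroup G} [Finite P] {p : ℕ} [Fact p.Prime] (hP : IsPGroup p P) :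
    IsCyclic P ∨ (p = 2 ∧ ∃ n : ℕ, Nonempty (P ≃* QuaternionGroup (2 ^ n))) := by
  apply H23.PQuat.cyclic_or_quaternion_of_abelian hP
  intro A hA _
  apply h.sub P A
  intro a ha b hb
  have := hA.is_comm.comm (⟨a, ha⟩ : A) ⟨b, hb⟩
  exact congrArg Subtype.val this

theorem Cyc.zgroup [Finite G] (h : Cyc G) (hodd : ¬ 2 ∣ Nat.card G) : IsZGroup G := by
  rw [isZGroup_iff]
  intro p hp P
  haveI : Fact p.Prime := ⟨hp⟩
  rcases h.pgroup P.isPGroup' with h1 | ⟨rfl, n, ⟨e⟩⟩
  · exact h1
  · exfalso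
    apply hodd
    have h2 : Nat.card (P : Subgroup G) ∣ Nat.card G := Subgroup.card_subgroup_dvd_card _
    rw [Nat.card_congr e.toEquiv] at h2
    haveI : NeZero (2 ^ n) := ⟨by positivity⟩
    rw [Nat.card_eq_fintype_card, QuaternionGroup.card] at h2
    exact Dvd.dvd.trans ⟨2 * 2 ^ n, by ring⟩ h2

theorem Cyc.solv_odd [Finite G] (h : Cyc G) (hodd : ¬ 2 ∣ Nat.card G) : Group.IsSolvable G := by
  haveI := h.zgroup hodd
  infer_instance

/-- generators of a quaternion group -/
theorem quat_gen (n : ℕ) [NeZero n] : Subgroup.closure ({.a 1, .xa 0} : Set (QuaternionGroup n)) = ⊤ := by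
  rw [eq_top_iff]
  intro g _
  have ha : ∀ i : ZMod (2 * n), QuaternionGroup.a i ∈ Subgroup.closure ({.a 1, .xa 0} : Set (QuaternionGroup n)) := by
    intro i
    haveI : NeZero (2 * n) := ⟨by have := NeZero.ne n; omega⟩
    have h1 : (QuaternionGroup.a (1 : ZMod (2 * n))) ^ i.val = .a i := by
      rw [QuaternionGroup.a_one_pow]; simp
    rw [← h1]
    exact pow_mem (Subgroup.subset_closure (by simp)) _
  rcases g with i | i
  · exact ha i
  · have : (QuaternionGroup.xa i : QuaternionGroup n) = .xa 0 * .a i := by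
      rw [QuaternionGroup.xa_mul_a, zero_add]
    rw [this]
    exact mul_mem (Subgroup.subset_closure (by simp)) (ha i)

/-- odd automorphisms of order prime to three -/
theorem Cyc.centralize [Finite G] (h : Cyc G) {Q : Subgroup G} (hQ : IsPGroup 2 Q) {g : G}
    (hg : g ∈ normalizer (Q : Set G)) (hg2 : (orderOf g).Coprime 2) (hg3 : (orderOf g).Coprime 3) :
    g ∈ centralizer (Q : Set G) := by
  classical
  haveI : Fact (Nat.Prime 2) := ⟨Nat.prime_two⟩
  -- two generators
  obtain ⟨T, hT, hT2⟩ : ∃ T : Finset Q, closure (T : Set Q) = ⊤ ∧ T.card ≤ 2 := by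
    rcases h.pgroup hQ with h1 | ⟨-, n, ⟨e⟩⟩
    · obtain ⟨q, hq⟩ := h1.exists_generator
      refine ⟨{q}, ?_, by simp⟩
      rw [Finset.coe_singleton, eq_top_iff]
      intro x _
      rw [← zpowers_eq_closure]
      exact hq x
    · haveI : NeZero (2 ^ n) := ⟨by positivity⟩
      refine ⟨{e.symm (.a 1), e.symm (.xa 0)}, ?_, Finset.card_le_two⟩
      have h1 := quat_gen (2 ^ n)
      have h2 : ((closure ({.a 1, .xa 0} : Set (QuaternionGroup (2 ^ n)))).map e.symm.toMonoidHom) = ⊤ := by
        rw [h1, ← MonoidHom.range_eq_map, MonoidHom.range_eq_top]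
        exact e.symm.surjective
      rw [MonoidHom.map_closure, Set.image_pair] at h2
      rw [Finset.coe_pair]
      exact h2
  obtain ⟨r, hr, hr2⟩ := H23.AutRank.exists_index_frattini hQ T hT
  -- the automorphism
  let α : MulAut Q := (Q.normalizerMonoidHom ⟨g, hg⟩)
  have hα : ∀ q : Q, ((α q : Q) : G) = g * q * g⁻¹ := fun q => rfl
  have hord : orderOf α ∣ orderOf g := by
    have h1 : orderOf α ∣ orderOf (⟨g, hg⟩ : normalizer (Q : Set G)) := orderOf_map_dvd _ _
    rwa [← Subgroup.orderOf_coe] at h1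
  have hα1 : orderOf α = 1 := by
    by_contra hne
    obtain ⟨q, hq, hqd⟩ := Nat.exists_prime_and_dvd hne
    have hq2 : q ≠ 2 := by
      rintro rfl
      have := Nat.Coprime.eq_one_of_dvd (Nat.Coprime.coprime_dvd_left hord hg2).symm hqd
      omega
    obtain ⟨i, hi1, hi2, hi3⟩ := H23.AutRank.dvd_pow_sub_one hQ hr hq hq2 (hqd.trans (orderOf_dvd_natCard α))
    have hi : i = 1 ∨ i = 2 := by omega
    rcases hi with rfl | rfl
    · have : q = 1 := Nat.dvd_one.1 hi3
      exact hq.one_lt.ne' this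
    · have : q = 3 := (Nat.prime_dvd_prime_iff_eq hq Nat.prime_three).1 hi3
      rw [this] at hqd
      have := Nat.Coprime.eq_one_of_dvd (Nat.Coprime.coprime_dvd_left hord hg3).symm hqd
      omega
  have hα2 : α = 1 := orderOf_eq_one_iff.1 hα1
  rw [mem_centralizer_iff]
  intro q hq
  have h1 := hα ⟨q, hq⟩
  rw [hα2] at h1
  change q = g * q * g⁻¹ at h1
  calc q * g = g * q * g⁻¹ * g := by rw [← h1]
    _ = g * q := by group

theorem solv_of_npc [Finite G] {p : ℕ} [Fact p.Prime] (h : HasNormalPComplement p G)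
    (hs : ∀ N : Subgroup G, N.Normal → ¬ p ∣ Nat.card N → Group.IsSolvable N) : Group.IsSolvable G := by
  obtain ⟨N, hN, hc, k, hk⟩ := H2.Basic.npc_iff.1 h
  haveI := hs N hN hc
  have hq : IsPGroup p (G ⧸ N) := IsPGroup.of_card (n := k) (by rw [← hk]; rfl)
  haveI : Group.IsNilpotent (G ⧸ N) := hq.isNilpotent
  exact (Group.isSolvable_iff_subgroup_quotient N).2 ⟨inferInstance, inferInstance⟩

theorem Cyc.solv_three [Finite G] (h : Cyc G) (h3 : ¬ 3 ∣ Nat.card G) : Group.IsSolvable G := by
  haveI : Fact (Nat.Prime 2) := ⟨Nat.prime_two⟩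
  apply solv_of_npc (p := 2)
  · apply H2.Fusion3.npc_of_frobenius
    intro Q hQ g hg hg2
    apply h.centralize hQ hg hg2
    exact Nat.Coprime.coprime_dvd_left (orderOf_dvd_natCard g) ((Nat.coprime_comm.1 ((Nat.Prime.coprime_iff_not_dvd Nat.prime_three).2 h3)))
  · intro N _ hN
    exact (h.sub N).solv_odd hN

/-- a `p'`-element acting on a cyclic `p`-group and fixing the subgroup of order `p` -/
theorem fix_cyclic {p : ℕ} (hp : p.Prime) {t g : G} {k : ℕ} (ht : t ^ p ^ (k + 1) = 1) (hg : (orderOf g).Coprime p)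
    {n : ℤ} (hn : g * t * g⁻¹ = t ^ n) (hn1 : (p : ℤ) ∣ n - 1) : g * t = t * g := by
  have h1 : ∀ m : ℕ, g ^ m * t * (g ^ m)⁻¹ = t ^ n ^ m := by
    intro m
    induction m with
    | zero => simp
    | succ m ih =>
      have : g ^ (m + 1) * t * (g ^ (m + 1))⁻¹ = g * (g ^ m * t * (g ^ m)⁻¹) * g⁻¹ := by
        rw [pow_succ' g m]; group
      rw [this, ih, ← conj_zpow, hn, ← zpow_mul, pow_succ' n m]
  have h2 : ((p : ℤ) ^ (k + 1)) ∣ n ^ p ^ k - 1 := by
    have := dvd_sub_pow_of_dvd_sub (R := ℤ) (p := p) (a := n) (b := 1) hn1 k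
    rwa [one_pow] at this
  have h3 : g ^ p ^ k * t * (g ^ p ^ k)⁻¹ = t := by
    rw [h1]
    obtain ⟨c, hc⟩ := h2
    have h4 : n ^ p ^ k = (p : ℤ) ^ (k + 1) * c + 1 := by linarith
    rw [h4, zpow_add, zpow_mul, zpow_one]
    have h5 : t ^ ((p : ℤ) ^ (k + 1)) = 1 := by
      have : ((p : ℤ) ^ (k + 1)) = ((p ^ (k + 1) : ℕ) : ℤ) := by push_cast; ring
      rw [this, zpow_natCast, ht]
    rw [h5, one_zpow, one_mul]
  have h6 : g ^ p ^ k ∈ centralizer ({t} : Set G) := by
    rw [mem_centralizer_singleton_iff]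
    calc g ^ p ^ k * t = g ^ p ^ k * t * (g ^ p ^ k)⁻¹ * g ^ p ^ k := by group
      _ = t * g ^ p ^ k := by rw [h3]
  have h7 : g ∈ centralizer ({t} : Set G) := by
    have hcop : (orderOf g).Coprime (p ^ k) := Nat.Coprime.pow_right k hg
    obtain ⟨m, hm⟩ : ∃ m : ℕ, (g ^ p ^ k) ^ m = g := exists_pow_eq_self_of_coprime hcop.symm
    rw [← hm]
    exact pow_mem h6 m
  exact mem_centralizer_singleton_iff.1 h7

/-- unique subgroup of order three -/
theorem Cyc.solv_unique [Finite G] (h : Cyc G) (hu : ∀ x y : G, x ^ 3 = 1 → x ≠ 1 → y ^ 3 = 1 → y ≠ 1 → y = x ∨ y = x⁻¹) :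
    Group.IsSolvable G := by
  classical
  haveI : Fact (Nat.Prime 3) := ⟨Nat.prime_three⟩
  by_cases h3 : 3 ∣ Nat.card G
  swap
  · exact h.solv_three h3
  obtain ⟨x, hx⟩ := exists_prime_orderOf_dvd_card' (G := G) 3 h3
  have hx3 : x ^ 3 = 1 := by rw [← hx]; exact pow_orderOf_eq_one x
  have hx1 : x ≠ 1 := by
    rintro rfl
    rw [orderOf_one] at hx
    omega
  have hconj : ∀ g : G, g * x * g⁻¹ = x ∨ g * x * g⁻¹ = x⁻¹ := by
    intro g
    apply hu x _ hx3 hx1
    · rw [conj_pow, hx3]; group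
    · intro e
      apply hx1
      have : x = g⁻¹ * (g * x * g⁻¹) * g := by group
      rw [this, e]; group
  obtain ⟨C, hC⟩ : ∃ C, C = centralizer ({x} : Set G) := ⟨_, rfl⟩
  have hCm : ∀ g, g ∈ C ↔ g * x * g⁻¹ = x := by
    intro g
    rw [hC, mem_centralizer_singleton_iff, mul_inv_eq_iff_eq_mul]
  have hmul : ∀ a b, a ∉ C → b ∉ C → a * b ∈ C := by
    intro a b ha hb
    rw [hCm] at ha hb ⊢
    have h1 := (hconj a).resolve_left ha
    have h2 := (hconj b).resolve_left hb
    calc a * b * x * (a * b)⁻¹ = a * (b * x * b⁻¹) * a⁻¹ := by group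
      _ = (a * x * a⁻¹)⁻¹ := by rw [h2]; group
      _ = x := by rw [h1, inv_inv]
  haveI hCn : C.Normal := by
    constructor
    intro c hc g
    by_cases hg : g ∈ C
    · exact mul_mem (mul_mem hg hc) (inv_mem hg)
    · apply hmul
      · intro hgc
        apply hg
        have : g = (g * c) * c⁻¹ := by group
        rw [this]; exact mul_mem hgc (inv_mem hc)
      · intro hgi
        exact hg (by rw [← inv_inv g]; exact inv_mem hgi)
  have hquot : Group.IsSolvable (G ⧸ C) := by
    apply Group.isSolvable_of_comm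
    intro a b
    obtain ⟨a, rfl⟩ := QuotientGroup.mk_surjective a
    obtain ⟨b, rfl⟩ := QuotientGroup.mk_surjective b
    rw [← QuotientGroup.mk_mul, ← QuotientGroup.mk_mul, QuotientGroup.eq]
    by_cases ha : a ∈ C
    · by_cases hb : b ∈ C
      · exact mul_mem (inv_mem (mul_mem ha hb)) (mul_mem hb ha)
      · apply hmul
        · intro e
          apply hb
          have h5 := inv_mem e
          rw [inv_inv] at h5
          have : b = a⁻¹ * (a * b) := by group
          rw [this]; exact mul_mem (inv_mem ha) h5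
        · intro e
          apply hb
          have : b = (b * a) * a⁻¹ := by group
          rw [this]; exact mul_mem e (inv_mem ha)
    · by_cases hb : b ∈ C
      · apply hmul
        · intro e
          apply ha
          have h5 := inv_mem e
          rw [inv_inv] at h5
          have : a = (a * b) * b⁻¹ := by group
          rw [this]; exact mul_mem h5 (inv_mem hb)
        · intro e
          apply ha
          have : a = b⁻¹ * (b * a) := by group
          rw [this]; exact mul_mem (inv_mem hb) e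
      · exact mul_mem (inv_mem (hmul a b ha hb)) (hmul b a hb ha)
  have hCs : Group.IsSolvable C := by
    apply solv_of_npc (p := 3)
    · apply H2.Fusion3.npc_of_frobenius
      intro Q hQ g hg hg3
      rcases (h.sub C).pgroup hQ with h1 | ⟨h1, -⟩
      swap
      · omega
      obtain ⟨q, hq⟩ := h1.exists_generator
      rw [mem_centralizer_iff]
      -- it suffices to commute with the generator
      suffices hgq : g * (q : C) = q * g by
        intro y hy
        obtain ⟨m, hm⟩ := hq ⟨y, hy⟩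
        have hym : y = (q : C) ^ m := by
          have := congrArg Subtype.val hm
          exact this.symm
        rw [hym]
        exact ((show Commute g (q : C) from hgq).zpow_right m).symm.eq
      by_cases hq1 : q = 1
      · rw [hq1, OneMemClass.coe_one, mul_one, one_mul]
      obtain ⟨k, hk⟩ := hQ q
      obtain ⟨k, hk⟩ : ∃ k, (q : C) ^ 3 ^ (k + 1) = 1 ∧ (q : C) ^ 3 ^ k ≠ 1 := by
        have hex : ∃ k, q ^ 3 ^ k = 1 := ⟨k, hk⟩
        have h0 := Nat.find_spec hex
        have h1 : Nat.find hex ≠ 0 := by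
          intro e
          rw [e, pow_zero, pow_one] at h0
          exact hq1 h0
        obtain ⟨k', hk'⟩ := Nat.exists_eq_succ_of_ne_zero h1
        refine ⟨k', ?_, ?_⟩
        · rw [hk'] at h0
          exact congrArg Subtype.val h0
        · intro e
          exact Nat.find_min hex (m := k') (by omega) (Subtype.ext e)
      have hconjm : g * (q : C) * g⁻¹ ∈ Q := by
        have := (mem_normalizer_iff.1 hg (q : C)).1 q.2
        exact this
      obtain ⟨n, hn⟩ := hq ⟨_, hconjm⟩
      have hn' : g * (q : C) * g⁻¹ = (q : C) ^ n := (congrArg Subtype.val hn).symm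
      -- the element of order three
      obtain ⟨w, hw⟩ : ∃ w : C, w = (q : C) ^ 3 ^ k := ⟨_, rfl⟩
      have hw3 : w ^ 3 = 1 := by rw [hw, ← pow_mul, ← pow_succ]; exact hk.1
      have hw1 : w ≠ 1 := by rw [hw]; exact hk.2
      have hgw : g * w * g⁻¹ = w := by
        have hwx : (w : G) = x ∨ (w : G) = x⁻¹ := hu x w hx3 hx1 (congrArg Subtype.val hw3)
          (fun e => hw1 (Subtype.ext e))
        have hgx := (hCm g).1 g.2
        apply Subtype.ext
        change (g : G) * w * (g : G)⁻¹ = w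
        rcases hwx with e | e
        · rw [e]; exact hgx
        · rw [e, ← conj_inv, hgx]
      have hwn : w ^ n = w := by
        have : g * w * g⁻¹ = w ^ n := by
          rw [hw, ← conj_pow, hn', ← zpow_natCast, ← zpow_natCast, ← zpow_mul, ← zpow_mul, mul_comm]
        rw [← this]; exact hgw
      have hn1 : (3 : ℤ) ∣ n - 1 := by
        have h5 : w ^ (n - 1) = 1 := by rw [zpow_sub, hwn, zpow_one, mul_inv_cancel]
        have h6 : orderOf w = 3 := orderOf_eq_prime hw3 hw1
        have := orderOf_dvd_iff_zpow_eq_one.2 h5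
        rw [h6] at this
        exact this
      exact fix_cyclic Nat.prime_three hk.1 hg3 hn' hn1
    · intro N _ hN
      exact ((h.sub C).sub N).solv_three hN
  exact (Group.isSolvable_iff_subgroup_quotient C).2 ⟨hCs, hquot⟩

end Cfsg.Agent.H24.Zas
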