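import Mathlib
import Cfsg.Agent.H24_Zas13

/-! The quaternion case: solvability. -/

namespace Cfsg.Agent.H24.Zas

open Subgroup Cfsg

theorem q0_comm : ∀ x y : QuaternionGroup (2 ^ 0), x * y = y * x := by decide +kernel

theorem v4_mul : ∀ σ τ : Equiv.Perm (Fin 4), Equiv.Perm.sign σ = 1 → Equiv.Perm.sign τ = 1 → σ ^ 2 = 1 → τ ^ 2 = 1 →
    (σ * τ) ^ 2 = 1 := by decide +kernel

theorem v4_ncomm : ∀ α : Equiv.Perm (Fin 4), α ^ 3 = 1 → α ≠ 1 → ∃ σ : Equiv.Perm (Fin 4), Equiv.Perm.sign σ = 1 ∧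
    σ ^ 2 = 1 ∧ α * σ ≠ σ * α := by decide +kernel

theorem v4_two : ∃ σ τ : Equiv.Perm (Fin 4), Equiv.Perm.sign σ = 1 ∧ σ ^ 2 = 1 ∧ Equiv.Perm.sign τ = 1 ∧
    τ ^ 2 = 1 ∧ σ ≠ 1 ∧ τ ≠ 1 ∧ σ ≠ τ := by decide +kernel

theorem solv_of_dvd_24 {G : Type*} [Group G] [Finite G] (h : Nat.card G ∣ 24) : Group.IsSolvable G := by
  have h1 : Nat.card G ≤ 24 := Nat.le_of_dvd (by norm_num) h
  have h2 : 0 < Nat.card G := Nat.card_pos
  obtain ⟨n, hn⟩ : ∃ n, n = Nat.card G := ⟨_, rfl⟩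
  rw [← hn] at h h1 h2
  have : ∃ a b : ℕ, n = 2 ^ a * 3 ^ b := by
    interval_cases n
    · exact ⟨0, 0, by norm_num⟩
    · exact ⟨1, 0, by norm_num⟩
    · exact ⟨0, 1, by norm_num⟩
    · exact ⟨2, 0, by norm_num⟩
    · omega
    · exact ⟨1, 1, by norm_num⟩
    · omega
    · exact ⟨3, 0, by norm_num⟩
    · omega
    · omega
    · omega
    · exact ⟨2, 1, by norm_num⟩
    · omega
    · omega
    · omega
    · omega
    · omega
    · omega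
    · omega
    · omega
    · omega
    · omega
    · omega
    · exact ⟨3, 1, by norm_num⟩
  obtain ⟨a, b, hab⟩ := this
  exact H3.Burnside.burnside n G 2 3 a b Nat.prime_two Nat.prime_three hn.symm hab

variable {G : Type*} [Group G]

/-- the quaternion subgroup -/
def QK {z : G} (hz : ∀ g, z * g = g * z) (π : O3 G →* alternatingGroup (Fin 4)) : Subgroup G where
  carrier := {g | ∃ h : g ∈ O3 G, (π ⟨g, h⟩) ^ 2 = 1}
  one_mem' := ⟨one_mem _, by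
    have : (⟨1, one_mem _⟩ : O3 G) = 1 := rfl
    rw [this, map_one, one_pow]⟩
  mul_mem' := by
    rintro a b ⟨ha, ha'⟩ ⟨hb, hb'⟩
    refine ⟨mul_mem ha hb, ?_⟩
    have : (⟨a * b, mul_mem ha hb⟩ : O3 G) = ⟨a, ha⟩ * ⟨b, hb⟩ := rfl
    rw [this, map_mul]
    apply Subtype.ext
    exact v4_mul _ _ (π ⟨a, ha⟩).2 (π ⟨b, hb⟩).2 (congrArg Subtype.val ha') (congrArg Subtype.val hb')
  inv_mem' := by
    rintro a ⟨ha, ha'⟩
    refine ⟨inv_mem ha, ?_⟩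
    have : (⟨a⁻¹, inv_mem ha⟩ : O3 G) = (⟨a, ha⟩)⁻¹ := rfl
    rw [this, map_inv, inv_pow, ha', inv_one]

variable {z : G} (hz : ∀ g, z * g = g * z) (π : O3 G →* alternatingGroup (Fin 4))

theorem mem_QK {g : G} : g ∈ QK hz π ↔ ∃ h : g ∈ O3 G, (π ⟨g, h⟩) ^ 2 = 1 := Iff.rfl

theorem QK_normal (hπ : ∀ h, π h = 1 ↔ (h : G) = 1 ∨ (h : G) = z) : (QK hz π).Normal := by
  constructor
  rintro n ⟨hn, hn'⟩ g
  have hN : (O3 G).Normal := inferInstance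
  refine ⟨hN.conj_mem n hn g, ?_⟩
  rw [← map_pow, hπ] at hn' ⊢
  have e : (((⟨g * n * g⁻¹, hN.conj_mem n hn g⟩ : O3 G) ^ 2 : O3 G) : G) = g * n ^ 2 * g⁻¹ := by
    change (g * n * g⁻¹) ^ 2 = _
    rw [conj_pow]
  rw [e]
  rcases hn' with h | h
  · have h' : n ^ 2 = 1 := h
    left; rw [h']; group
  · have h' : n ^ 2 = z := h
    right; rw [h', ← hz]; group

theorem QK_four (z2 : z * z = 1) (hπ : ∀ h, π h = 1 ↔ (h : G) = 1 ∨ (h : G) = z) {g : G} (hg : g ∈ QK hz π) :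
    g ^ 4 = 1 := by
  obtain ⟨h1, h2⟩ := hg
  rw [← map_pow, hπ] at h2
  have e : g ^ 4 = g ^ 2 * g ^ 2 := by rw [← pow_add]
  rcases h2 with h | h
  · have h' : g ^ 2 = 1 := h
    rw [e, h', mul_one]
  · have h' : g ^ 2 = z := h
    rw [e, h', z2]

theorem QK_surj (hs : Function.Surjective π) {σ : Equiv.Perm (Fin 4)} (h1 : Equiv.Perm.sign σ = 1) (h2 : σ ^ 2 = 1) :
    ∃ q : O3 G, (q : G) ∈ QK hz π ∧ (π q : Equiv.Perm (Fin 4)) = σ := by
  obtain ⟨q, hq⟩ := hs ⟨σ, h1⟩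
  refine ⟨q, ⟨q.2, ?_⟩, by rw [hq]⟩
  rw [hq]
  exact Subtype.ext h2

theorem QK_not_cyclic (hs : Function.Surjective π) : ¬ IsCyclic (QK hz π) := by
  intro hc
  obtain ⟨c, hc⟩ := hc.exists_generator
  obtain ⟨hcO, hc2⟩ := c.2
  obtain ⟨σ, τ, h1, h2, h3, h4, h5, h6, h7⟩ := v4_two
  have key : ∀ σ : Equiv.Perm (Fin 4), Equiv.Perm.sign σ = 1 → σ ^ 2 = 1 → σ ≠ 1 → σ = π ⟨c, hcO⟩ := by
    intro σ h1 h2 h3
    obtain ⟨q, hq, hqσ⟩ := QK_surj hz π hs h1 h2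
    obtain ⟨m, hm⟩ := hc ⟨q, hq⟩
    have e : q = (⟨c, hcO⟩ : O3 G) ^ m := by
      apply Subtype.ext
      have := congrArg Subtype.val hm
      exact this.symm
    rw [← hqσ, e, map_zpow]
    rcases Int.even_or_odd' m with ⟨k, rfl | rfl⟩
    · exfalso
      apply h3
      rw [← hqσ, e, map_zpow, zpow_mul]
      have : (π ⟨c, hcO⟩) ^ (2 : ℤ) = 1 := hc2
      rw [this, one_zpow]; rfl
    · rw [zpow_add, zpow_mul, zpow_one]
      have : (π ⟨c, hcO⟩) ^ (2 : ℤ) = 1 := hc2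
      rw [this, one_zpow, one_mul]
  exact h7 ((key σ h1 h2 h5).trans (key τ h3 h4 h6).symm)

theorem QK_equiv [Finite G] (h : Cyc G) (z2 : z * z = 1) (hs : Function.Surjective π)
    (hπ : ∀ h, π h = 1 ↔ (h : G) = 1 ∨ (h : G) = z) : Nonempty (QK hz π ≃* QuaternionGroup 2) := by
  haveI : Fact (Nat.Prime 2) := ⟨Nat.prime_two⟩
  have hp : IsPGroup 2 (QK hz π) := by
    rintro ⟨g, hg⟩
    refine ⟨2, Subtype.ext ?_⟩
    exact QK_four hz π z2 hπ hg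
  rcases h.pgroup hp with h1 | ⟨-, n, ⟨e⟩⟩
  · exact absurd h1 (QK_not_cyclic hz π hs)
  haveI : NeZero (2 ^ n) := ⟨by positivity⟩
  have h4 : (QuaternionGroup.a 1 : QuaternionGroup (2 ^ n)) ^ 4 = 1 := by
    have h5 : (e.symm (.a 1)) ^ 4 = 1 := Subtype.ext (QK_four hz π z2 hπ (e.symm (.a 1)).2)
    have := congrArg e h5
    rwa [map_pow, e.apply_symm_apply, map_one] at this
  have h5 : 2 * 2 ^ n ∣ 4 := by
    have := orderOf_dvd_of_pow_eq_one h4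
    rwa [QuaternionGroup.orderOf_a_one] at this
  have h6 : n = 0 ∨ n = 1 := by
    have h7 := Nat.le_of_dvd (by norm_num) h5
    by_contra hn
    have : 2 ≤ n := by omega
    have : 2 ^ 2 ≤ 2 ^ n := Nat.pow_le_pow_right (by norm_num) this
    omega
  rcases h6 with rfl | rfl
  · exfalso
    apply QK_not_cyclic hz π hs
    apply h
    intro a ha b hb
    have h8 : (⟨a, ha⟩ : QK hz π) * ⟨b, hb⟩ = ⟨b, hb⟩ * ⟨a, ha⟩ := by
      apply e.injective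
      rw [map_mul, map_mul, q0_comm]
    exact congrArg Subtype.val h8
  · exact ⟨e⟩

theorem QK_three [Finite G] (hs : Function.Surjective π)
    (hπ : ∀ h, π h = 1 ↔ (h : G) = 1 ∨ (h : G) = z) (z1 : z ≠ 1) (z2 : z * z = 1) :
    ¬ 3 ∣ Nat.card (centralizer (QK hz π : Set G)) := by
  haveI : Fact (Nat.Prime 3) := ⟨Nat.prime_three⟩
  intro h3
  obtain ⟨⟨t, htC⟩, ht⟩ := exists_prime_orderOf_dvd_card' 3 h3
  rw [Subgroup.orderOf_mk] at ht
  have ht3 : t ^ 3 = 1 := by rw [← ht]; exact pow_orderOf_eq_one t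
  have ht1 : t ≠ 1 := by
    rintro rfl
    rw [orderOf_one] at ht
    omega
  have htO : t ∈ O3 G := mem_O3 ht3
  have h1 : (π ⟨t, htO⟩ : Equiv.Perm (Fin 4)) ^ 3 = 1 := by
    have : (π ⟨t, htO⟩) ^ 3 = 1 := by
      rw [← map_pow, hπ]; left; exact ht3
    exact congrArg Subtype.val this
  have h2 : (π ⟨t, htO⟩ : Equiv.Perm (Fin 4)) ≠ 1 := by
    intro e
    rcases (hπ ⟨t, htO⟩).1 (Subtype.ext e) with h | h
    · exact ht1 h
    · have h' : t = z := h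
      rw [h', pow_three, z2, mul_one] at ht3
      exact z1 ht3
  obtain ⟨σ, hσ1, hσ2, hσ3⟩ := v4_ncomm _ h1 h2
  obtain ⟨q, hq, hqσ⟩ := QK_surj hz π hs hσ1 hσ2
  apply hσ3
  have h4 : (q : G) * t = t * q := mem_centralizer_iff.1 htC q hq
  have h5 : (⟨t, htO⟩ : O3 G) * q = q * ⟨t, htO⟩ := Subtype.ext h4.symm
  have h6 := congrArg (fun x => ((π x : alternatingGroup (Fin 4)) : Equiv.Perm (Fin 4))) h5
  simp only [map_mul, Subgroup.coe_mul] at h6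
  rw [hqσ] at h6
  exact h6

theorem Cyc.solv_A4 [Finite G] (h : Cyc G) (z1 : z ≠ 1) (z2 : z * z = 1) (hz : ∀ g, z * g = g * z)
    (π : O3 G →* alternatingGroup (Fin 4)) (hs : Function.Surjective π)
    (hπ : ∀ h, π h = 1 ↔ (h : G) = 1 ∨ (h : G) = z) : Group.IsSolvable G := by
  obtain ⟨e⟩ := QK_equiv hz π h z2 hs hπ
  have hN := QK_normal hz π hπ
  have hk := H20.MaxAb.cQ_ker hN e
  obtain ⟨c, hc⟩ : ∃ c, c = H20.MaxAb.cQ hN e := ⟨_, rfl⟩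
  rw [← hc] at hk
  have h1 : Group.IsSolvable c.ker := by
    have h3 : ¬ 3 ∣ Nat.card c.ker := by
      rw [hk]; exact QK_three hz π hs hπ z1 z2
    exact (h.sub c.ker).solv_three h3
  have h2 : Group.IsSolvable c.range := solv_of_dvd_24 (H20.AutQ8.range_dvd c)
  haveI := h1
  haveI := h2
  exact Group.isSolvable_of_ker_le_range c.ker.subtype c.rangeRestrict (by
    rw [c.ker_rangeRestrict, Subgroup.range_subtype])

end Cfsg.Agent.H24.Zas
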