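import Mathlib
import Cfsg.Agent.H24_Zas14
import Cfsg.Agent.H24_ModRep
import Cfsg.Agent.H3_Fpf

/-! Groups acting fixed-point-freely have fixed-point-free representations. -/

namespace Cfsg.Agent.H24.Zas

open Subgroup Cfsg Module

universe u v

/-- fixed-point-free representation -/
structure RepF {G 𝕜 V : Type*} [Group G] [Finite G] [Field 𝕜] [AddCommGroup V] [Module 𝕜 V]
    (ρ : G →* End 𝕜 V) : Prop where
  fpf : ∀ g : G, g ≠ 1 → ∀ v : V, ρ g v = v → v = 0
  card : (Nat.card G : 𝕜) ≠ 0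
  nt : ∃ v : V, v ≠ 0

/-- the elementary abelian central subgroup -/
def cenT (K : Type u) [Group K] (r : ℕ) : Subgroup K where
  carrier := {k | k ∈ center K ∧ k ^ r = 1}
  one_mem' := ⟨one_mem _, one_pow r⟩
  mul_mem' := by
    rintro a b ⟨ha, ha'⟩ ⟨hb, hb'⟩
    refine ⟨mul_mem ha hb, ?_⟩
    have : Commute a b := (mem_center_iff.1 hb a)
    rw [this.mul_pow, ha', hb', one_mul]
  inv_mem' := by
    rintro a ⟨ha, ha'⟩
    exact ⟨inv_mem ha, by rw [inv_pow, ha', inv_one]⟩

theorem mem_cenT {K : Type u} [Group K] {r : ℕ} {k : K} : k ∈ cenT K r ↔ k ∈ center K ∧ k ^ r = 1 := Iff.rfl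

theorem cenT_map {K : Type u} [Group K] {r : ℕ} (φ : MulAut K) {k : K} (h : k ∈ cenT K r) : φ k ∈ cenT K r := by
  obtain ⟨h1, h2⟩ := h
  refine ⟨?_, by rw [← map_pow, h2, map_one]⟩
  rw [mem_center_iff] at h1 ⊢
  intro g
  have := congrArg φ (h1 (φ⁻¹ g))
  rw [map_mul, map_mul, MulAut.apply_inv_self] at this
  exact this

/-- restriction of automorphisms -/
def resT (K : Type u) [Group K] (r : ℕ) : MulAut K →* MulAut (cenT K r) where
  toFun φ :=
    { toFun := fun w => ⟨φ w, cenT_map φ w.2⟩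
      invFun := fun w => ⟨φ⁻¹ w, cenT_map φ⁻¹ w.2⟩
      left_inv := fun w => Subtype.ext (MulAut.inv_apply_self _ φ w)
      right_inv := fun w => Subtype.ext (MulAut.apply_inv_self _ φ w)
      map_mul' := fun a b => Subtype.ext (map_mul φ (a : K) b) }
  map_one' := by ext w; rfl
  map_mul' φ ψ := by ext w; rfl

theorem resT_coe (K : Type u) [Group K] (r : ℕ) (φ : MulAut K) (w : cenT K r) : ((resT K r φ w : cenT K r) : K) = φ w := rfl

theorem exists_repF {K : Type u} [Group K] [Finite K] [Nontrivial K] {G : Type v} [Group G] [Finite G] [Nontrivial G]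
    (φ : G →* MulAut K) (hφ : ∀ g, g ≠ 1 → ∀ k, φ g k = k → k = 1) :
    ∃ (𝕜 : Type) (_ : Field 𝕜) (_ : IsAlgClosed 𝕜) (V : Type u) (_ : AddCommGroup V)
      (_ : Module 𝕜 V) (_ : FiniteDimensional 𝕜 V) (ρ : G →* End 𝕜 V), RepF ρ := by
  -- nilpotency
  have hnil : Group.IsNilpotent K := by
    obtain ⟨g, hg⟩ := exists_ne (1 : G)
    obtain ⟨p, hp, hpd⟩ := Nat.exists_prime_and_dvd (fun h => hg (orderOf_eq_one_iff.1 h))
    haveI : Fact p.Prime := ⟨hp⟩
    obtain ⟨x, hx⟩ := exists_prime_orderOf_dvd_card' (G := G) p (hpd.trans (orderOf_dvd_natCard g))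
    have hx1 : x ≠ 1 := by
      rintro rfl
      rw [orderOf_one] at hx
      exact hp.one_lt.ne hx
    refine H3.Fpf.nilpotent_of_fp p hp _ K (φ x) rfl ⟨hφ x hx1, ?_⟩
    rw [← map_pow, ← hx, pow_orderOf_eq_one, map_one]
  -- the prime `r`
  have hZ : Nontrivial (center K) := by
    rw [Subgroup.nontrivial_iff_ne_bot]
    exact Group.IsNilpotent.center_ne_bot K
  obtain ⟨r, hr, hrd⟩ := Nat.exists_prime_and_dvd (n := Nat.card (center K)) (fun h => by
    have := (Nat.card_eq_one_iff_unique.1 h).1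
    exact not_subsingleton (center K) this)
  haveI : Fact r.Prime := ⟨hr⟩
  obtain ⟨⟨w, hwc⟩, hw⟩ := exists_prime_orderOf_dvd_card' (G := center K) r hrd
  rw [Subgroup.orderOf_mk] at hw
  have hw1 : w ≠ 1 := by
    rintro rfl
    rw [orderOf_one] at hw
    exact hr.one_lt.ne hw
  have hwT : w ∈ cenT K r := ⟨hwc, by rw [← hw]; exact pow_orderOf_eq_one w⟩
  have hcomm : ∀ a b : cenT K r, a * b = b * a := fun a b => Subtype.ext (mem_center_iff.1 b.2.1 a)
  have hpow : ∀ a : cenT K r, a ^ r = 1 := fun a => Subtype.ext a.2.2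
  have hrdT : r ∣ Nat.card (cenT K r) := by
    have := Subgroup.orderOf_dvd_natCard _ hwT
    rwa [hw] at this
  let ψ : G →* MulAut (cenT K r) := (resT K r).comp φ
  have hψ : ∀ g, g ≠ 1 → ∀ k, ψ g k = k → k = 1 := by
    intro g hg k hk
    apply Subtype.ext
    exact hφ g hg k (congrArg Subtype.val hk)
  -- `r` does not divide the order
  have hrG : ¬ r ∣ Nat.card G := by
    intro h
    obtain ⟨g, hg⟩ := exists_prime_orderOf_dvd_card' (G := G) r h
    have hg1 : g ≠ 1 := by
      rintro rfl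
      rw [orderOf_one] at hg
      exact hr.one_lt.ne hg
    let P : Subgroup G := zpowers g
    have hP : IsPGroup r P := IsPGroup.of_card (n := 1) (by rw [Nat.card_zpowers, hg, pow_one])
    letI : MulAction P (cenT K r) := MulAction.compHom _ (ψ.comp P.subtype)
    obtain ⟨b, hb, hb1⟩ := hP.exists_fixed_point_of_prime_dvd_card_of_fixed_point (cenT K r) hrdT
      (a := (1 : cenT K r)) (fun p => map_one (ψ (p : G)))
    apply hb1
    exact (hψ g hg1 b (hb ⟨g, mem_zpowers g⟩)).symm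
  obtain ⟨𝕜, i1, i2, i3, V, i4, i5, i6, ρ, h1, h2⟩ := ModRep.exists_rep (W := cenT K r) hcomm hr hpow
  refine ⟨𝕜, i1, i2, V, i4, i5, i6, ρ.comp ψ, ?_, ?_, ?_⟩
  · intro g hg v hv
    haveI hsm : Small.{0} (zpowers g) := inferInstance
    let A : Type := Shrink.{0} (zpowers g)
    let e : A ≃* zpowers g := Shrink.mulEquiv
    haveI : Finite A := Finite.of_equiv _ e.symm.toEquiv
    letI : Fintype A := Fintype.ofFinite A
    refine h2 A (ψ.comp ((zpowers g).subtype.comp e.toMonoidHom)) ?_ ?_ v ?_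
    · intro hd
      apply hrG
      rw [← Nat.card_eq_fintype_card, Nat.card_congr e.toEquiv] at hd
      exact hd.trans (Subgroup.card_subgroup_dvd_card _)
    · intro w hw
      apply hψ g hg w
      have := hw (e.symm ⟨g, mem_zpowers g⟩)
      change ψ ((e (e.symm ⟨g, mem_zpowers g⟩) : zpowers g) : G) w = w at this
      rw [e.apply_symm_apply] at this
      exact this
    · intro a
      have hst : zpowers g ≤
          { carrier := {x : G | (ρ.comp ψ) x v = v}
            one_mem' := by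
              change (ρ.comp ψ) 1 v = v
              rw [map_one]; rfl
            mul_mem' := by
              intro a b ha hb
              change (ρ.comp ψ) (a * b) v = v
              rw [map_mul]
              change (ρ.comp ψ) a ((ρ.comp ψ) b v) = v
              have hb' : (ρ.comp ψ) b v = v := hb
              rw [hb']; exact ha
            inv_mem' := by
              intro a ha
              change (ρ.comp ψ) a⁻¹ v = v
              have ha' : (ρ.comp ψ) a v = v := ha
              have : (ρ.comp ψ) a⁻¹ ((ρ.comp ψ) a v) = v := by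
                have e1 : (ρ.comp ψ) a⁻¹ * (ρ.comp ψ) a = 1 := by rw [← map_mul, inv_mul_cancel, map_one]
                exact congrArg (fun f : End 𝕜 V => f v) e1
              rwa [ha'] at this : Subgroup G } := by
        rw [zpowers_le]
        exact hv
      exact hst (e a).2
  · intro h0
    apply hrG
    exact (CharP.cast_eq_zero_iff 𝕜 r _).1 h0
  · by_contra hcon
    push Not at hcon
    -- `V = 0` contradicts faithfulness
    have hne : ∃ g : G, ψ g ≠ 1 := by
      obtain ⟨g, hg⟩ := exists_ne (1 : G)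
      refine ⟨g, fun h => ?_⟩
      apply hw1
      have := hψ g hg ⟨w, hwT⟩ (by rw [h]; rfl)
      exact congrArg Subtype.val this
    obtain ⟨g, hg⟩ := hne
    apply hg
    apply h1
    ext v
    rw [hcon v, map_zero, map_zero]

variable {G 𝕜 V : Type*} [Group G] [Finite G] [Field 𝕜] [AddCommGroup V] [Module 𝕜 V]
variable {ρ : G →* End 𝕜 V}

theorem RepF.cyc [IsAlgClosed 𝕜] [FiniteDimensional 𝕜 V] (C : RepF ρ) : Cyc G := by
  intro A hA
  obtain ⟨v0, hv0⟩ := C.nt
  obtain ⟨l, w, -, hw, hl⟩ := Weight.exists_weight (ρ := ρ) A (by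
    intro n hn m hm
    rw [← map_mul, ← map_mul, hA n hn m hm]) (W := ⊤) (by
    intro h
    apply hv0
    have : v0 ∈ (⊤ : Submodule 𝕜 V) := trivial
    rw [h] at this
    exact this) (fun _ _ _ _ => trivial)
  rw [Weight.mem_wt] at hl
  refine isCyclic_of_subgroup_isDomain ((Units.coeHom 𝕜).comp l) ?_
  rw [injective_iff_map_eq_one]
  intro a ha
  have h1 : ((l a : 𝕜ˣ) : 𝕜) = 1 := ha
  have h2 := hl a
  rw [h1, one_smul] at h2
  by_contra hne
  exact hw (C.fpf a (fun h => hne (Subtype.ext h)) w h2)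

theorem RepF.fpfz (C : RepF ρ) {z : G} (z1 : z ≠ 1) (z2 : z * z = 1) : Fpf ρ z := ⟨C.fpf, z1, z2, C.card, C.nt⟩

/-- the dichotomy -/
theorem RepF.dich [IsAlgClosed 𝕜] [FiniteDimensional 𝕜 V] (C : RepF ρ) : Group.IsSolvable G ∨
    ∃ z : G, z ≠ 1 ∧ z * z = 1 ∧ (∀ g, z * g = g * z) ∧ (∀ g, g * g = 1 → g = 1 ∨ g = z) ∧
      ∃ π : O3 G →* alternatingGroup (Fin 5), Function.Surjective π ∧ ∀ h, π h = 1 ↔ (h : G) = 1 ∨ (h : G) = z := by
  by_cases h2 : 2 ∣ Nat.card G
  swap
  · exact Or.inl (C.cyc.solv_odd h2)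
  haveI : Fact (Nat.Prime 2) := ⟨Nat.prime_two⟩
  obtain ⟨z, hz⟩ := exists_prime_orderOf_dvd_card' (G := G) 2 h2
  have z2 : z * z = 1 := by rw [← pow_two, ← hz]; exact pow_orderOf_eq_one z
  have z1 : z ≠ 1 := by
    rintro rfl
    rw [orderOf_one] at hz
    omega
  have F := C.fpfz z1 z2
  rcases F.trichotomy with h | ⟨π, hs, hπ⟩ | ⟨π, hs, hπ⟩
  · exact Or.inl (C.cyc.solv_unique h)
  · exact Or.inl (C.cyc.solv_A4 z1 z2 F.z_comm π hs hπ)
  · exact Or.inr ⟨z, z1, z2, F.z_comm, fun g hg => F.eq_z hg, π, hs, hπ⟩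

end Cfsg.Agent.H24.Zas
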