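import Mathlib
import Cfsg.Agent.H24_Zas12
import Cfsg.Agent.H24_Zas15

/-! Structure of groups with a normal `SL(2,5)`. -/

namespace Cfsg.Agent.H24.Zas

open Subgroup Cfsg

/-- commuting elements of prime order generate a cyclic group -/
theorem Cyc.comm_prime {G : Type*} [Group G] [Finite G] (h : Cyc G) {p : ℕ} (hp : p.Prime) {x y : G} (hx : x ^ p = 1)
    (hx1 : x ≠ 1) (hy : y ^ p = 1) (hxy : x * y = y * x) : y ∈ zpowers x := by
  classical
  haveI : Fact p.Prime := ⟨hp⟩
  have hcomm : ∀ a ∈ closure ({x, y} : Set G), ∀ b ∈ closure ({x, y} : Set G), a * b = b * a := by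
    have h1 : closure ({x, y} : Set G) ≤ centralizer ({x, y} : Set G) := by
      rw [closure_le]
      intro w hw
      change w ∈ centralizer ({x, y} : Set G)
      rw [mem_centralizer_iff]
      intro v hv
      simp only [Set.mem_insert_iff, Set.mem_singleton_iff] at hw hv
      rcases hw with rfl | rfl <;> rcases hv with rfl | rfl
      · rfl
      · exact hxy.symm
      · exact hxy
      · rfl
    have h2 : closure ({x, y} : Set G) ≤ centralizer (closure ({x, y} : Set G) : Set G) := by
      rw [centralizer_closure]; exact h1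
    intro a ha b hb
    exact ((mem_centralizer_iff.1 (h2 ha)) b hb).symm
  have hcyc := h _ hcomm
  have hxA : x ∈ closure ({x, y} : Set G) := subset_closure (by simp)
  have hyA : y ∈ closure ({x, y} : Set G) := subset_closure (by simp)
  letI := Fintype.ofFinite (closure ({x, y} : Set G))
  have hle := IsCyclic.card_pow_eq_one_le (α := closure ({x, y} : Set G)) hp.pos
  by_contra hcon
  -- the elements
  have hox : orderOf (⟨x, hxA⟩ : closure ({x, y} : Set G)) = p := orderOf_eq_prime (Subtype.ext hx)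
    (fun e => hx1 (congrArg Subtype.val e))
  have hsub : insert (⟨y, hyA⟩ : closure ({x, y} : Set G))
      ((Finset.univ : Finset (closure ({x, y} : Set G))).filter (fun a => a ∈ zpowers (⟨x, hxA⟩ : closure ({x, y} : Set G)))) ⊆
      (Finset.univ : Finset (closure ({x, y} : Set G))).filter (fun a => a ^ p = 1) := by
    intro a ha
    rw [Finset.mem_insert, Finset.mem_filter] at ha
    rw [Finset.mem_filter]
    refine ⟨Finset.mem_univ _, ?_⟩
    rcases ha with rfl | ⟨-, m, rfl⟩
    · exact Subtype.ext hy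
    · change ((⟨x, hxA⟩ : closure ({x, y} : Set G)) ^ m) ^ p = 1
      have : (⟨x, hxA⟩ : closure ({x, y} : Set G)) ^ p = 1 := Subtype.ext hx
      rw [← zpow_natCast, ← zpow_mul, mul_comm, zpow_mul, zpow_natCast, this, one_zpow]
  have hcard := (Finset.card_le_card hsub).trans hle
  rw [Finset.card_insert_of_notMem] at hcard
  · have h5 : ((Finset.univ : Finset (closure ({x, y} : Set G))).filter
        (fun a => a ∈ zpowers (⟨x, hxA⟩ : closure ({x, y} : Set G)))).card = p := by
      rw [← hox, ← Nat.card_zpowers, Nat.card_eq_fintype_card, Fintype.card_subtype]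
    omega
  · rw [Finset.mem_filter]
    rintro ⟨-, m, hm⟩
    apply hcon
    refine ⟨m, ?_⟩
    exact congrArg Subtype.val hm

theorem A5_center : ∀ α : Equiv.Perm (Fin 5), Equiv.Perm.sign α = 1 → (∀ β : Equiv.Perm (Fin 5), Equiv.Perm.sign β = 1 → α * β = β * α) →
    α = 1 := by decide +kernel

theorem A5_ex5 : ∃ α : Equiv.Perm (Fin 5), Equiv.Perm.sign α = 1 ∧ α ^ 5 = 1 ∧ α ≠ 1 := by decide +kernel

theorem A5_ex2 : ∃ α : Equiv.Perm (Fin 5), Equiv.Perm.sign α = 1 ∧ α ^ 2 = 1 ∧ α ≠ 1 := by decide +kernel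

/-- the data of a normal double cover of `A₅` -/
structure A5D {G : Type*} [Group G] (z : G) (π : O3 G →* alternatingGroup (Fin 5)) : Prop where
  z1 : z ≠ 1
  z2 : z * z = 1
  hz : ∀ g, z * g = g * z
  uniq : ∀ g, g * g = 1 → g = 1 ∨ g = z
  hs : Function.Surjective π
  hπ : ∀ h, π h = 1 ↔ (h : G) = 1 ∨ (h : G) = z

namespace A5D

variable {G : Type*} [Group G] {z : G} {π : O3 G →* alternatingGroup (Fin 5)} (D : A5D z π)
include D

theorem exists_sq : ∃ q : O3 G, (q : G) * q = z := by
  obtain ⟨α, h1, h2, h3⟩ := A5_ex2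
  obtain ⟨q, hq⟩ := D.hs ⟨α, h1⟩
  refine ⟨q, ?_⟩
  rcases (D.hπ (q * q)).1 (by rw [map_mul, hq, ← pow_two]; exact Subtype.ext h2) with h | h
  · exfalso
    apply h3
    have := (D.hπ q).2 (D.uniq q h)
    rw [hq] at this
    exact congrArg Subtype.val this
  · exact h

theorem zO : z ∈ O3 G := by
  obtain ⟨q, hq⟩ := D.exists_sq
  rw [← hq]; exact (q * q).2

theorem equiv [Finite G] : Nonempty (O3 G ≃* Matrix.SpecialLinearGroup (Fin 2) (ZMod 5)) := by
  refine sl25_of_cover π D.hs (z := ⟨z, D.zO⟩) ?_ ?_ ?_ ?_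
  · intro h
    rw [D.hπ]
    constructor
    · rintro (e | e)
      · exact Or.inl (Subtype.ext e)
      · exact Or.inr (Subtype.ext e)
    · rintro (e | e)
      · exact Or.inl (congrArg Subtype.val e)
      · exact Or.inr (congrArg Subtype.val e)
  · intro e; exact D.z1 (congrArg Subtype.val e)
  · exact Subtype.ext D.z2
  · intro g hg
    rcases D.uniq g (congrArg Subtype.val hg) with e | e
    · exact Or.inl (Subtype.ext e)
    · exact Or.inr (Subtype.ext e)

theorem cent_inf {g : G} (hg : g ∈ O3 G) : g ∈ centralizer (O3 G : Set G) ↔ g = 1 ∨ g = z := by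
  constructor
  · intro h
    rw [← D.hπ ⟨g, hg⟩]
    apply Subtype.ext
    apply A5_center _ (π ⟨g, hg⟩).2
    intro β hβ
    obtain ⟨q, hq⟩ := D.hs ⟨β, hβ⟩
    have h1 : (⟨g, hg⟩ : O3 G) * q = q * ⟨g, hg⟩ := Subtype.ext ((mem_centralizer_iff.1 h q q.2).symm)
    have h2 := congrArg (fun x => ((π x : alternatingGroup (Fin 5)) : Equiv.Perm (Fin 5))) h1
    simp only [map_mul, Subgroup.coe_mul] at h2
    rw [hq] at h2
    exact h2
  · rintro (rfl | rfl)
    · exact one_mem _
    · rw [mem_centralizer_iff]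
      intro x _
      exact (D.hz x).symm

variable [Finite G]

/-- the centralizer has order prime to three -/
theorem cent_three : ¬ 3 ∣ Nat.card (centralizer (O3 G : Set G)) := by
  haveI : Fact (Nat.Prime 3) := ⟨Nat.prime_three⟩
  intro h3
  obtain ⟨⟨t, htC⟩, ht⟩ := exists_prime_orderOf_dvd_card' 3 h3
  rw [Subgroup.orderOf_mk] at ht
  have ht3 : t ^ 3 = 1 := by rw [← ht]; exact pow_orderOf_eq_one t
  rcases (D.cent_inf (mem_O3 ht3)).1 htC with rfl | rfl
  · rw [orderOf_one] at ht
    omega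
  · rw [pow_three, D.z2, mul_one] at ht3
    exact D.z1 ht3

theorem cent_five (hc : Cyc G) : ¬ 5 ∣ Nat.card (centralizer (O3 G : Set G)) := by
  haveI : Fact (Nat.Prime 5) := ⟨Nat.prime_five⟩
  intro h3
  obtain ⟨⟨t, htC⟩, ht⟩ := exists_prime_orderOf_dvd_card' 5 h3
  rw [Subgroup.orderOf_mk] at ht
  have ht5 : t ^ 5 = 1 := by rw [← ht]; exact pow_orderOf_eq_one t
  have ht1 : t ≠ 1 := by
    rintro rfl
    rw [orderOf_one] at ht
    omega
  have z5 : z ^ 5 = z := by
    have : z ^ 5 = z * ((z * z) * (z * z)) := by simp only [pow_succ, pow_zero, one_mul, mul_assoc]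
    rw [this, D.z2, one_mul, mul_one]
  -- an element of order five
  obtain ⟨α, h1, h2, h3⟩ := A5_ex5
  obtain ⟨y, hy, hy1⟩ : ∃ y : O3 G, (y : G) ^ 5 = 1 ∧ (y : G) ≠ 1 := by
    obtain ⟨y, hy⟩ := D.hs ⟨α, h1⟩
    have hne : ∀ y : O3 G, π y = ⟨α, h1⟩ → (y : G) ≠ 1 := by
      intro y hy e
      apply h3
      have := (D.hπ y).2 (Or.inl e)
      rw [hy] at this
      exact congrArg Subtype.val this
    rcases (D.hπ (y ^ 5)).1 (by rw [map_pow, hy]; exact Subtype.ext h2) with h | h
    · exact ⟨y, h, hne y hy⟩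
    · refine ⟨⟨z, D.zO⟩ * y, ?_, hne _ ?_⟩
      · have hcz : Commute z (y : G) := D.hz y
        have h' : (y : G) ^ 5 = z := h
        change (z * (y : G)) ^ 5 = 1
        rw [hcz.mul_pow, h', z5, D.z2]
      · rw [map_mul, (D.hπ ⟨z, D.zO⟩).2 (Or.inr rfl), one_mul, hy]
  have hcom : (y : G) * t = t * y := mem_centralizer_iff.1 htC y y.2
  have h5 := hc.comm_prime Nat.prime_five hy hy1 ht5 hcom
  have h6 : t ∈ O3 G := (zpowers_le.2 y.2) h5
  rcases (D.cent_inf h6).1 htC with e | e
  · exact ht1 e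
  · rw [e, z5] at ht5
    exact D.z1 ht5

/-- no elements of order four in the centralizer -/
theorem cent_four {s : G} (hs : s ∈ centralizer (O3 G : Set G)) (h : s * s = z) : False := by
  obtain ⟨q, hq⟩ := D.exists_sq
  have h1 : (q : G) * s = s * q := mem_centralizer_iff.1 hs q q.2
  have h2 : (s * q) * (s * q) = 1 := by
    calc (s * q) * (s * q) = s * ((q : G) * s) * q := by group
      _ = (s * s) * (q * q) := by rw [h1]; group
      _ = 1 := by rw [h, hq, D.z2]
  have h3 : s ∈ O3 G := by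
    rcases D.uniq _ h2 with e | e
    · rw [eq_inv_of_mul_eq_one_left e]; exact inv_mem q.2
    · have : s = z * (q : G)⁻¹ := by rw [← e]; group
      rw [this]; exact mul_mem D.zO (inv_mem q.2)
  rcases (D.cent_inf h3).1 hs with e | e
  · rw [e, mul_one] at h; exact D.z1 h.symm
  · rw [e, D.z2] at h; exact D.z1 h.symm

/-- two-elements of the centralizer -/
theorem cent_two {s : G} (hs : s ∈ centralizer (O3 G : Set G)) : ∀ k : ℕ, s ^ 2 ^ k = 1 → s = 1 ∨ s = z := by
  intro k
  induction k with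
  | zero => intro h; rw [pow_zero, pow_one] at h; exact Or.inl h
  | succ k ih =>
    intro h
    -- `s ^ 2 ^ k` is an involution; descend
    by_contra hcon
    push Not at hcon
    have hex : ∀ m : ℕ, m ≤ k + 1 → s ^ 2 ^ m ≠ 1 → s ^ 2 ^ (m + 1) = 1 → m = 0 ∨ False := by
      intro m hm h1 h2
      rcases Nat.eq_zero_or_pos m with h3 | h3
      · exact Or.inl h3
      · right
        obtain ⟨m', rfl⟩ : ∃ m', m = m' + 1 := ⟨m - 1, by omega⟩
        have h4 : s ^ 2 ^ (m' + 1) * s ^ 2 ^ (m' + 1) = 1 := by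
          rw [← pow_two, ← pow_mul, ← pow_succ]; exact h2
        have h5 := (D.uniq _ h4).resolve_left h1
        apply D.cent_four (s := s ^ 2 ^ m') (pow_mem hs _)
        rw [← pow_two, ← pow_mul, ← pow_succ]; exact h5
    have hall : ∀ m : ℕ, m ≤ k + 1 → s ^ 2 ^ (k + 1 - m) = 1 := by
      intro m
      induction m with
      | zero => intro _; exact h
      | succ m ihm =>
        intro hm
        by_contra hne
        have h1 := ihm (by omega)
        have h2 : k + 1 - m = (k + 1 - (m + 1)) + 1 := by omega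
        rw [h2] at h1
        rcases hex _ (by omega) hne h1 with h3 | h3
        · -- `s * s = 1`
          rw [h3, pow_zero, pow_one] at hne
          rw [h3, zero_add, pow_one, pow_two] at h1
          rcases D.uniq s h1 with e | e
          · exact hcon.1 e
          · exact hcon.2 e
        · exact h3
    have := hall (k + 1) le_rfl
    rw [Nat.sub_self, pow_zero, pow_one] at this
    exact hcon.1 this

/-- the odd part of the centralizer -/
theorem exists_M (hc : Cyc G) : ∃ M : Subgroup G, M ≤ centralizer (O3 G : Set G) ∧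
    M ⊔ zpowers z = centralizer (O3 G : Set G) ∧ (∀ (p : ℕ) [Fact p.Prime] (P : Sylow p M), IsCyclic P) ∧
    (Nat.card M).Coprime 30 := by
  haveI : Fact (Nat.Prime 2) := ⟨Nat.prime_two⟩
  obtain ⟨C, hC⟩ : ∃ C, C = centralizer (O3 G : Set G) := ⟨_, rfl⟩
  have h2p : ∀ Q : Subgroup C, IsPGroup 2 Q → ∀ q ∈ Q, (q : G) = 1 ∨ (q : G) = z := by
    intro Q hQ q hq
    obtain ⟨k, hk⟩ := hQ ⟨q, hq⟩
    have hk' : (q : G) ^ 2 ^ k = 1 := by
      have := congrArg (fun x : Q => ((x : C) : G)) hk
      exact this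
    exact D.cent_two (hC ▸ q.2) k hk'
  have hnpc : HasNormalPComplement 2 C := by
    apply H2.Fusion3.npc_of_frobenius
    intro Q hQ g _ _
    rw [mem_centralizer_iff]
    intro q hq
    apply Subtype.ext
    change (q : G) * g = g * q
    rcases h2p Q hQ q hq with e | e
    · rw [e, one_mul, mul_one]
    · rw [e, D.hz]
  obtain ⟨P, N, hN, hcomp⟩ := hnpc
  have hNodd : ¬ 2 ∣ Nat.card N := by
    rw [← hcomp.index_eq_card]; exact P.not_dvd_index
  have hle : N.map C.subtype ≤ C := map_subtype_le N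
  have ecard : Nat.card (N.map C.subtype) = Nat.card N :=
    (Nat.card_congr (N.equivMapOfInjective _ C.subtype_injective).toEquiv).symm
  have hdvd : Nat.card N ∣ Nat.card C := Subgroup.card_subgroup_dvd_card N
  refine ⟨N.map C.subtype, hC ▸ hle, ?_, ?_, ?_⟩
  · apply le_antisymm
    · refine sup_le (hC ▸ hle) ?_
      rw [zpowers_le, ← hC, hC, D.cent_inf D.zO]
      exact Or.inr rfl
    · intro c hc'
      rw [← hC] at hc'
      have h1 : (⟨c, hc'⟩ : C) ∈ N ⊔ (P : Subgroup C) := by rw [hcomp.sup_eq_top]; trivial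
      rw [← SetLike.mem_coe, Subgroup.normal_mul] at h1
      obtain ⟨n, hn, q, hq, he⟩ := h1
      have he' : c = n * q := (congrArg Subtype.val he).symm
      rw [he']
      apply Subgroup.mul_mem_sup
      · exact ⟨n, hn, rfl⟩
      · rcases h2p P P.isPGroup' q hq with e | e
        · rw [e]; exact one_mem _
        · rw [e]; exact mem_zpowers _
  · have hz : IsZGroup (N.map C.subtype) := (hc.sub _).zgroup (by rw [ecard]; exact hNodd)
    intro p _ P
    infer_instance
  · rw [ecard]
    have h3 : ¬ 3 ∣ Nat.card N := fun h => D.cent_three (hC ▸ h.trans hdvd)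
    have h5 : ¬ 5 ∣ Nat.card N := fun h => D.cent_five hc (hC ▸ h.trans hdvd)
    have : (30 : ℕ) = 2 * (3 * 5) := by norm_num
    rw [this]
    exact Nat.Coprime.mul_right (Nat.coprime_comm.1 ((Nat.Prime.coprime_iff_not_dvd Nat.prime_two).2 hNodd))
      (Nat.Coprime.mul_right (Nat.coprime_comm.1 ((Nat.Prime.coprime_iff_not_dvd Nat.prime_three).2 h3))
        (Nat.coprime_comm.1 ((Nat.Prime.coprime_iff_not_dvd Nat.prime_five).2 h5)))

end A5D

end Cfsg.Agent.H24.Zas
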