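import Mathlib
import Cfsg.Agent.H24_Zas16
import Cfsg.Agent.H9_Small

/-! The index of `E C(E)`. -/

namespace Cfsg.Agent.H24.Zas

open Subgroup Cfsg

/-- second members of generating pairs -/
def PairP (α β : Equiv.Perm (Fin 5)) : Prop :=
  β ^ 3 = 1 ∧ β ≠ 1 ∧ (α * β) ^ 5 = 1 ∧ α * β ≠ 1

instance instPairP (α β : Equiv.Perm (Fin 5)) : Decidable (PairP α β) := by
  unfold PairP; infer_instance

theorem card_three : Fintype.card {α : Equiv.Perm (Fin 5) // α ^ 3 = 1 ∧ α ≠ 1} = 20 := by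
  decide +kernel

theorem card_PairP : ∀ α : Equiv.Perm (Fin 5), α ^ 3 = 1 → α ≠ 1 →
    Fintype.card {β : Equiv.Perm (Fin 5) // PairP α β} = 6 := by
  decide +kernel

theorem ex_PairP : ∃ α : Equiv.Perm (Fin 5), (α ^ 3 = 1 ∧ α ≠ 1) ∧ ∃ β, PairP α β := by
  decide +kernel

theorem A5_gen {α β : alternatingGroup (Fin 5)} (hα : α ^ 3 = 1) (hα1 : α ≠ 1) (h5 : (α * β) ^ 5 = 1) (h51 : α * β ≠ 1)
    {H : Subgroup (alternatingGroup (Fin 5))} (h1 : α ∈ H) (h2 : β ∈ H) : H = ⊤ := by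
  haveI : Fact (Nat.Prime 3) := ⟨Nat.prime_three⟩
  haveI : Fact (Nat.Prime 5) := ⟨Nat.prime_five⟩
  by_contra hne
  have hA : Nat.card (alternatingGroup (Fin 5)) = 60 := by
    rw [nat_card_alternatingGroup]; simp [Nat.factorial]
  haveI hs : IsSimpleGroup (alternatingGroup (Fin 5)) := alternatingGroup.isSimpleGroup_five
  have h3 := H9.Small.two_mul_card_dvd (H9.Small.not_comm (by rw [hA]; norm_num)) H hne
  rw [hA] at h3
  have o3 : orderOf α = 3 := orderOf_eq_prime hα hα1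
  have o5 : orderOf (α * β) = 5 := orderOf_eq_prime h5 h51
  have d3 := Subgroup.orderOf_dvd_natCard H h1
  have d5 := Subgroup.orderOf_dvd_natCard H (mul_mem h1 h2)
  rw [o3] at d3
  rw [o5] at d5
  have hi := H.card_mul_index
  rw [hA] at hi
  have h15 : 15 ∣ Nat.card H := by omega
  obtain ⟨c, hc⟩ := h15
  rw [hc] at hi
  have h4 : H.index ∣ 4 := ⟨c, by nlinarith⟩
  have h5 := Nat.le_of_dvd (by norm_num) h4
  have h6 : 0 < H.index := Nat.pos_of_ne_zero H.index_ne_zero_of_finite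
  obtain ⟨n, hn⟩ : ∃ n, n = H.index := ⟨_, rfl⟩
  rw [← hn] at h3 h5 h6
  interval_cases n <;> revert h3 <;> decide

namespace A5D

variable {G : Type*} [Group G] {z : G} {π : O3 G →* alternatingGroup (Fin 5)} (D : A5D z π)
include D

theorem z3 : z ^ 3 = z := by rw [pow_three, D.z2, mul_one]

/-- lifts of elements of order three -/
theorem lift3 {α : alternatingGroup (Fin 5)} (hα : α ^ 3 = 1) : ∃ x : O3 G, (x : G) ^ 3 = 1 ∧ π x = α := by
  obtain ⟨x, hx⟩ := D.hs α
  rcases (D.hπ (x ^ 3)).1 (by rw [map_pow, hx, hα]) with h | h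
  · exact ⟨x, h, hx⟩
  · refine ⟨⟨z, D.zO⟩ * x, ?_, ?_⟩
    · have hcz : Commute z (x : G) := D.hz x
      have h' : (x : G) ^ 3 = z := h
      change (z * (x : G)) ^ 3 = 1
      rw [hcz.mul_pow, h', D.z3, D.z2]
    · rw [map_mul, (D.hπ ⟨z, D.zO⟩).2 (Or.inr rfl), one_mul, hx]

theorem inj3 {a b : O3 G} (ha : (a : G) ^ 3 = 1) (hb : (b : G) ^ 3 = 1) (h : π a = π b) : a = b := by
  rcases (D.hπ (a * b⁻¹)).1 (by rw [map_mul, map_inv, h, mul_inv_cancel]) with h1 | h1
  · exact mul_inv_eq_one.1 (Subtype.ext h1)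
  · exfalso
    have h2 : (a : G) = z * b := by
      have : (a : G) * (b : G)⁻¹ = z := h1
      rw [← this]; group
    have hc : Commute z (b : G) := D.hz b
    rw [h2, hc.mul_pow, hb, mul_one, D.z3] at ha
    exact D.z1 ha

/-- a subgroup covering the quotient is everything -/
theorem eq_of_map {K : Subgroup G} (hK : K ≤ O3 G) (h : ∀ α, ∃ k : O3 G, (k : G) ∈ K ∧ π k = α) : K = O3 G := by
  apply le_antisymm hK
  have hzK : z ∈ K := by
    obtain ⟨α, h1, h2, h3⟩ := A5_ex2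
    obtain ⟨k, hk, hkα⟩ := h ⟨α, h1⟩
    have h4 : (k : G) * k = z := by
      rcases (D.hπ (k * k)).1 (by rw [map_mul, hkα, ← pow_two]; exact Subtype.ext h2) with h5 | h5
      · exfalso
        apply h3
        have := (D.hπ k).2 (D.uniq k h5)
        rw [hkα] at this
        exact congrArg Subtype.val this
      · exact h5
    rw [← h4]; exact mul_mem hk hk
  intro e he
  obtain ⟨k, hk, hkα⟩ := h (π ⟨e, he⟩)
  rcases (D.hπ (⟨e, he⟩ * k⁻¹)).1 (by rw [map_mul, map_inv, hkα, mul_inv_cancel]) with h5 | h5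
  · have h6 : e * (k : G)⁻¹ = 1 := h5
    rw [mul_inv_eq_one.1 h6]; exact hk
  · have h6 : e * (k : G)⁻¹ = z := h5
    have : e = z * k := by rw [← h6]; group
    rw [this]; exact mul_mem hzK hk

theorem exists_gen : ∃ x y : O3 G, (x : G) ^ 3 = 1 ∧ (y : G) ^ 3 = 1 ∧ (π x : Equiv.Perm (Fin 5)) ^ 3 = 1 ∧
    (π x : Equiv.Perm (Fin 5)) ≠ 1 ∧ PairP (π x) (π y) ∧ closure ({(x : G), (y : G)} : Set G) = O3 G := by
  obtain ⟨α, ⟨h1, h2⟩, β, h3, h4, h5, h6⟩ := ex_PairP
  obtain ⟨x, hx, hxα⟩ := D.lift3 (α := ⟨α, sign_of_cube h1⟩) (Subtype.ext h1)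
  obtain ⟨y, hy, hyβ⟩ := D.lift3 (α := ⟨β, sign_of_cube h3⟩) (Subtype.ext h3)
  refine ⟨x, y, hx, hy, ?_, ?_, ?_, ?_⟩
  · rw [hxα]; exact h1
  · rw [hxα]; exact h2
  · rw [hxα, hyβ]; exact ⟨h3, h4, h5, h6⟩
  · apply D.eq_of_map
    · rw [closure_le]
      intro w hw
      simp only [Set.mem_insert_iff, Set.mem_singleton_iff] at hw
      rcases hw with rfl | rfl
      · exact x.2
      · exact y.2
    · have hK : ((closure ({(x : G), (y : G)} : Set G)).subgroupOf (O3 G)).map π = ⊤ := by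
        apply A5_gen (α := π x) (β := π y)
        · rw [hxα]; exact Subtype.ext h1
        · rw [hxα]; intro e; exact h2 (congrArg Subtype.val e)
        · rw [hxα, hyβ]; exact Subtype.ext h5
        · rw [hxα, hyβ]; intro e; exact h6 (congrArg Subtype.val e)
        · exact ⟨x, subset_closure (by simp), rfl⟩
        · exact ⟨y, subset_closure (by simp), rfl⟩
      intro α
      have : α ∈ ((closure ({(x : G), (y : G)} : Set G)).subgroupOf (O3 G)).map π := by rw [hK]; trivial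
      obtain ⟨k, hk, hkα⟩ := this
      exact ⟨k, hk, hkα⟩

variable [Finite G]

theorem cent_index : (centralizer (O3 G : Set G)).index ≤ 120 := by
  classical
  obtain ⟨x, y, hx, hy, hx3, hx1, hxy, hgen⟩ := D.exists_gen
  obtain ⟨C, hC⟩ : ∃ C, C = centralizer (O3 G : Set G) := ⟨_, rfl⟩
  rw [← hC]
  have hN : (O3 G).Normal := inferInstance
  -- conjugation
  let cx : G → O3 G → O3 G := fun g a => ⟨g * a * g⁻¹, hN.conj_mem a a.2 g⟩
  have hcx1 : ∀ g a b, cx g (a * b) = cx g a * cx g b := by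
    intro g a b
    apply Subtype.ext
    change g * (a * b) * g⁻¹ = (g * a * g⁻¹) * (g * b * g⁻¹)
    group
  have hcxp : ∀ g a (n : ℕ), cx g (a ^ n) = cx g a ^ n := by
    intro g a n
    induction n with
    | zero =>
      apply Subtype.ext
      rw [pow_zero, pow_zero]
      change g * ((1 : O3 G) : G) * g⁻¹ = ((1 : O3 G) : G)
      rw [OneMemClass.coe_one]; group
    | succ n ih => rw [pow_succ, hcx1, ih, pow_succ]
  have hcx0 : ∀ g a, π (cx g a) = 1 ↔ π a = 1 := by
    intro g a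
    rw [D.hπ, D.hπ]
    change (g * a * g⁻¹ = 1 ∨ g * a * g⁻¹ = z) ↔ _
    constructor
    · rintro (h | h)
      · left
        have : (a : G) = g⁻¹ * (g * a * g⁻¹) * g := by group
        rw [this, h]; group
      · right
        have : (a : G) = g⁻¹ * (g * a * g⁻¹) * g := by group
        rw [this, h, mul_assoc, D.hz]; group
    · rintro (h | h)
      · left; rw [h]; group
      · right; rw [h, ← D.hz]; group
  let X := Σ α : {α : Equiv.Perm (Fin 5) // α ^ 3 = 1 ∧ α ≠ 1}, {β : Equiv.Perm (Fin 5) // PairP α.1 β}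
  have hX : Fintype.card X = 120 := by
    rw [Fintype.card_sigma]
    have : ∀ α : {α : Equiv.Perm (Fin 5) // α ^ 3 = 1 ∧ α ≠ 1}, Fintype.card {β : Equiv.Perm (Fin 5) // PairP α.1 β} = 6 :=
      fun α => card_PairP α.1 α.2.1 α.2.2
    rw [Finset.sum_congr rfl (fun α _ => this α), Finset.sum_const, Finset.card_univ, card_three]; rfl
  have hp1 : ∀ (a : O3 G) (n : ℕ), (π a : Equiv.Perm (Fin 5)) ^ n = 1 ↔ π (a ^ n) = 1 := by
    intro a n
    rw [map_pow]
    constructor
    · intro h; exact Subtype.ext h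
    · intro h; exact congrArg Subtype.val h
  have hp2 : ∀ (a : O3 G), (π a : Equiv.Perm (Fin 5)) = 1 ↔ π a = 1 := by
    intro a
    constructor
    · intro h; exact Subtype.ext h
    · intro h; exact congrArg Subtype.val h
  have hcond1 : ∀ g, (π (cx g x) : Equiv.Perm (Fin 5)) ^ 3 = 1 ∧ (π (cx g x) : Equiv.Perm (Fin 5)) ≠ 1 := by
    intro g
    refine ⟨?_, ?_⟩
    · rw [hp1, ← hcxp, hcx0, ← hp1]; exact hx3
    · rw [Ne, hp2, hcx0, ← hp2]; exact hx1
  have hcond2 : ∀ g, PairP (π (cx g x)) (π (cx g y)) := by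
    intro g
    obtain ⟨h3, h4, h5, h6⟩ := hxy
    have e : ∀ a b : O3 G, ((π a : alternatingGroup (Fin 5)) : Equiv.Perm (Fin 5)) * (π b : alternatingGroup (Fin 5)) =
        (π (a * b) : alternatingGroup (Fin 5)) := by
      intro a b; rw [map_mul]; rfl
    refine ⟨?_, ?_, ?_, ?_⟩
    · rw [hp1, ← hcxp, hcx0, ← hp1]; exact h3
    · rw [Ne, hp2, hcx0, ← hp2]; exact h4
    · rw [e, ← hcx1, hp1, ← hcxp, hcx0, ← hp1, ← e]; exact h5
    · rw [e, ← hcx1, Ne, hp2, hcx0, ← hp2, ← e]; exact h6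
  let f : G → X := fun g => ⟨⟨π (cx g x), hcond1 g⟩, ⟨π (cx g y), hcond2 g⟩⟩
  have hf : ∀ g h, f g = f h → g⁻¹ * h ∈ C := by
    intro g h hgh
    have e1 : (π (cx g x) : Equiv.Perm (Fin 5)) = π (cx h x) := congrArg (fun s : X => s.1.1) hgh
    have e2 : (π (cx g y) : Equiv.Perm (Fin 5)) = π (cx h y) := congrArg (fun s : X => s.2.1) hgh
    have hcube : ∀ g (a : O3 G), (a : G) ^ 3 = 1 → (cx g a : G) ^ 3 = 1 := by
      intro g a ha
      change (g * a * g⁻¹) ^ 3 = 1
      rw [conj_pow, ha]; group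
    have f1 := D.inj3 (hcube g x hx) (hcube h x hx) (Subtype.ext e1)
    have f2 := D.inj3 (hcube g y hy) (hcube h y hy) (Subtype.ext e2)
    have f1' : g * (x : G) * g⁻¹ = h * x * h⁻¹ := congrArg Subtype.val f1
    have f2' : g * (y : G) * g⁻¹ = h * y * h⁻¹ := congrArg Subtype.val f2
    have key : ∀ w : G, g * w * g⁻¹ = h * w * h⁻¹ → w * (g⁻¹ * h) = g⁻¹ * h * w := by
      intro w hw
      calc w * (g⁻¹ * h) = g⁻¹ * (g * w * g⁻¹) * h := by group
        _ = g⁻¹ * h * w := by rw [hw]; group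
    rw [hC, ← hgen, centralizer_closure, mem_centralizer_iff]
    intro w hw
    simp only [Set.mem_insert_iff, Set.mem_singleton_iff] at hw
    rcases hw with rfl | rfl
    · exact key _ f1'
    · exact key _ f2'
  have hinj : Function.Injective (fun q : G ⧸ C => f q.out) := by
    intro q q' hq
    have := hf _ _ hq
    rw [← QuotientGroup.eq] at this
    rw [QuotientGroup.out_eq', QuotientGroup.out_eq'] at this
    exact this
  have := Nat.card_le_card_of_injective _ hinj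
  rw [Nat.card_eq_fintype_card (α := X), hX] at this
  exact this

theorem cent_relIndex : (centralizer (O3 G : Set G)).relIndex (O3 G) = 60 := by
  have h1 : (centralizer (O3 G : Set G)).subgroupOf (O3 G) = π.ker := by
    ext g
    rw [mem_subgroupOf, D.cent_inf g.2, MonoidHom.mem_ker, D.hπ]
  rw [relIndex, h1, Subgroup.index_ker, MonoidHom.range_eq_top.2 D.hs, Subgroup.card_top,
    nat_card_alternatingGroup]
  simp [Nat.factorial]

theorem index_le : (O3 G ⊔ centralizer (O3 G : Set G)).index = 1 ∨ (O3 G ⊔ centralizer (O3 G : Set G)).index = 2 := by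
  have h1 : (centralizer (O3 G : Set G)).relIndex (O3 G ⊔ centralizer (O3 G : Set G)) = 60 := by
    rw [Subgroup.relIndex_sup_right]; exact D.cent_relIndex
  have h2 := relIndex_mul_index (show centralizer (O3 G : Set G) ≤ O3 G ⊔ centralizer (O3 G : Set G) from le_sup_right)
  rw [h1] at h2
  have h3 := D.cent_index
  have h4 : 0 < (O3 G ⊔ centralizer (O3 G : Set G)).index := Nat.pos_of_ne_zero (index_ne_zero_of_finite)
  omega

end A5D

end Cfsg.Agent.H24.Zas
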