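import Mathlib
import Cfsg.Agent.H24_Zas17
import Cfsg.Agent.H9_FrobKer

/-! Frobenius complements. -/

namespace Cfsg.Agent.H24.Zas

open Subgroup Cfsg Module
open scoped Pointwise commutatorElement

/-- a Frobenius complement acts fixed-point-freely -/
theorem exists_act {L : Type*} [Group L] [Finite L] (H : Subgroup L) (hH : Cfsg.IsFrobeniusComplement H) :
    ∃ N : Subgroup L, ∃ _ : N.Normal, Nontrivial N ∧ ∀ h : H, h ≠ 1 → ∀ n : N,
      (MulAut.conjNormal (h : L) : MulAut N) n = n → n = 1 := by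
  obtain ⟨N, -, hN, hc⟩ := H9.FrobKer.frobenius H hH
  refine ⟨N, hN, ?_, ?_⟩
  · rw [Subgroup.nontrivial_iff_ne_bot]
    rintro rfl
    apply hH.2.1
    have := hc.sup_eq_top
    rwa [bot_sup_eq] at this
  · intro h hh n hn
    by_contra hn1
    have hnH : (n : L) ∉ H := by
      intro e
      have : (n : L) ∈ N ⊓ H := ⟨n.2, e⟩
      rw [hc.disjoint.eq_bot, mem_bot] at this
      exact hn1 (Subtype.ext this)
    have h1 := hH.2.2 (n : L) hnH
    have h2 : (h : L) * n * (h : L)⁻¹ = n := by
      have := congrArg Subtype.val hn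
      rwa [MulAut.conjNormal_apply] at this
    have h3 : (h : L) ∈ H ⊓ (MulAut.conj (n : L) • H) := by
      refine mem_inf.2 ⟨h.2, ?_⟩
      rw [Subgroup.mem_pointwise_smul_iff_inv_smul_mem]
      have : (MulAut.conj (n : L))⁻¹ • (h : L) = h := by
        rw [← map_inv, MulAut.smul_def, MulAut.conj_apply, inv_inv]
        calc (n : L)⁻¹ * h * n = (n : L)⁻¹ * (h * n * (h : L)⁻¹) * h := by group
          _ = h := by rw [h2]; group
      rw [this]; exact h.2
    rw [h1, mem_bot] at h3
    exact hh (Subtype.ext h3)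

/-- a Frobenius complement has a fixed-point-free representation -/
theorem exists_rep_FC {G : Type*} [Group G] [Finite G]
    (hFC : ∃ (L : Type) (_ : Group L) (_ : Finite L) (H : Subgroup L), Cfsg.IsFrobeniusComplement H ∧ Nonempty (G ≃* H)) :
    ∃ (𝕜 : Type) (_ : Field 𝕜) (_ : IsAlgClosed 𝕜) (V : Type) (_ : AddCommGroup V)
      (_ : Module 𝕜 V) (_ : FiniteDimensional 𝕜 V) (ρ : G →* End 𝕜 V), RepF ρ := by
  obtain ⟨L, _, _, H, hH, ⟨e⟩⟩ := hFC
  obtain ⟨N, hN, hNn, hact⟩ := exists_act H hH
  haveI := hN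
  haveI := hNn
  haveI : Nontrivial G := by
    haveI : Nontrivial H := by rw [Subgroup.nontrivial_iff_ne_bot]; exact hH.1
    exact e.toEquiv.nontrivial
  refine exists_repF (K := N) ((MulAut.conjNormal : L →* MulAut N).comp (H.subtype.comp e.toMonoidHom)) ?_
  intro g hg k hk
  exact hact (e g) (fun h => hg (e.injective (by rw [h, map_one]))) k hk

/-- structure of non-solvable groups with a fixed-point-free representation -/
theorem RepF.struct {G 𝕜 V : Type*} [Group G] [Finite G] [Field 𝕜] [AddCommGroup V] [Module 𝕜 V]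
    [IsAlgClosed 𝕜] [FiniteDimensional 𝕜 V] {ρ : G →* End 𝕜 V} (C : RepF ρ) (hns : ¬ Group.IsSolvable G) :
    ∃ G₀ : Subgroup G, G₀.Normal ∧ (G₀.index = 1 ∨ G₀.index = 2) ∧
      ∃ S M : Subgroup G, S ⊔ M = G₀ ∧ S ⊓ M = ⊥ ∧ (∀ s ∈ S, ∀ x ∈ M, s * x = x * s) ∧
        Nonempty (S ≃* Matrix.SpecialLinearGroup (Fin 2) (ZMod 5)) ∧
        (∀ (p : ℕ) [Fact p.Prime] (P : Sylow p M), IsCyclic P) ∧ (Nat.card M).Coprime 30 := by
  obtain ⟨z, z1, z2, hz, huniq, π, hs, hπ⟩ := C.dich.resolve_left hns
  have D : A5D z π := ⟨z1, z2, hz, huniq, hs, hπ⟩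
  obtain ⟨M, hM1, hM2, hM3, hM4⟩ := D.exists_M C.cyc
  have hEM : O3 G ⊔ M = O3 G ⊔ centralizer (O3 G : Set G) := by
    apply le_antisymm
    · exact sup_le_sup_left hM1 _
    · rw [← hM2]
      refine sup_le le_sup_left (sup_le le_sup_right ?_)
      rw [zpowers_le]
      exact (le_sup_left : O3 G ≤ O3 G ⊔ M) D.zO
  refine ⟨O3 G ⊔ centralizer (O3 G : Set G), inferInstance, D.index_le, O3 G, M, hEM, ?_, ?_, D.equiv, hM3, hM4⟩
  · rw [eq_bot_iff]
    rintro x ⟨hx1, hx2⟩
    rw [mem_bot]
    rcases (D.cent_inf hx1).1 (hM1 hx2) with h | h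
    · exact h
    · exfalso
      -- `z` has even order
      have h2 : orderOf x = 2 := by
        haveI : Fact (Nat.Prime 2) := ⟨Nat.prime_two⟩
        refine orderOf_eq_prime ?_ (by rw [h]; exact z1)
        rw [h, pow_two, z2]
      have h3 := Subgroup.orderOf_dvd_natCard M hx2
      rw [h2] at h3
      have h4 := Nat.Coprime.eq_one_of_dvd (Nat.Coprime.coprime_dvd_left h3 hM4) (by norm_num)
      omega
  · intro s hs x hx
    exact mem_centralizer_iff.1 (hM1 hx) s hs

/-- perfect groups -/
theorem RepF.perfect {G 𝕜 V : Type*} [Group G] [Finite G] [Nontrivial G] [Field 𝕜] [AddCommGroup V] [Module 𝕜 V]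
    [IsAlgClosed 𝕜] [FiniteDimensional 𝕜 V] {ρ : G →* End 𝕜 V} (C : RepF ρ) (hp : commutator G = ⊤) :
    Nonempty (G ≃* Matrix.SpecialLinearGroup (Fin 2) (ZMod 5)) := by
  have hns : ¬ Group.IsSolvable G := by
    intro hs
    have := Group.IsSolvable.commutator_lt_top_of_nontrivial G
    exact this.ne hp
  obtain ⟨G₀, hG₀, hidx, S, M, h1, h2, h3, ⟨e⟩, h5, h6⟩ := C.struct hns
  -- `G₀ = ⊤`
  have hG0 : G₀ = ⊤ := by
    rcases hidx with h | h
    · exact Subgroup.index_eq_one.1 h
    · exfalso
      haveI := hG₀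
      have hq : Nat.card (G ⧸ G₀) = 2 := h
      haveI : Fact (Nat.Prime 2) := ⟨Nat.prime_two⟩
      haveI : IsCyclic (G ⧸ G₀) := isCyclic_of_prime_card hq
      have h7 : commutator G ≤ G₀ := by
        rw [_root_.commutator_def, commutator_le]
        intro a _ b _
        rw [← QuotientGroup.eq_one_iff]
        have : ∀ x y : G ⧸ G₀, x * y = y * x := by
          letI := IsCyclic.commGroup (α := G ⧸ G₀)
          exact fun x y => mul_comm x y
        change ((⁅a, b⁆ : G) : G ⧸ G₀) = 1
        rw [commutatorElement_def]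
        simp only [QuotientGroup.mk_mul, QuotientGroup.mk_inv]
        rw [this (a : G ⧸ G₀) b]; group
      rw [hp, top_le_iff] at h7
      rw [h7, Subgroup.index_top] at h
      omega
  rw [hG0] at h1
  -- `M` is solvable
  haveI hMs : Group.IsSolvable M := by
    haveI : IsZGroup M := by
      rw [isZGroup_iff]
      intro p hp P
      haveI : Fact p.Prime := ⟨hp⟩
      exact h5 p P
    infer_instance
  haveI hSn : S.Normal := by
    constructor
    intro s hs g
    have hg : g ∈ S ⊔ M := by rw [h1]; trivial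
    have hnm : M ≤ normalizer (S : Set G) := by
      intro m hm
      rw [mem_normalizer_iff]
      intro x
      constructor
      · intro hx
        have := h3 x hx m hm
        rw [← this, mul_inv_cancel_right]; exact hx
      · intro hx
        have h8 := h3 _ hx m hm
        have : x = m * x * m⁻¹ := by
          have h9 : m * x * m⁻¹ * m = m * (m * x * m⁻¹) := h8
          have h10 : m * x = m * (m * x * m⁻¹) := by rw [← h9]; group
          exact mul_left_cancel h10
        rw [this]; exact hx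
    have hSM : S ⊔ M ≤ normalizer (S : Set G) := sup_le le_normalizer hnm
    exact (mem_normalizer_iff.1 (hSM hg) s).1 hs
  have hquot : Group.IsSolvable (G ⧸ S) := by
    refine @Group.isSolvable_of_surjective M (G ⧸ S) _ _ ((QuotientGroup.mk' S).comp M.subtype) ?_ hMs
    intro q
    obtain ⟨g, rfl⟩ := QuotientGroup.mk'_surjective S q
    have hg : g ∈ S ⊔ M := by rw [h1]; trivial
    rw [← SetLike.mem_coe, Subgroup.normal_mul] at hg
    obtain ⟨s, hs, m, hm, rfl⟩ := hg
    refine ⟨⟨m, hm⟩, ?_⟩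
    rw [map_mul]
    have : QuotientGroup.mk' S s = 1 := by
      rw [QuotientGroup.mk'_apply, QuotientGroup.eq_one_iff]; exact hs
    rw [this, one_mul]; rfl
  have hS : S = ⊤ := by
    by_contra hne
    haveI : Nontrivial (G ⧸ S) := by
      rw [← Finite.one_lt_card_iff_nontrivial]
      have h7 : Nat.card (G ⧸ S) = S.index := rfl
      rw [h7]
      have h8 : S.index ≠ 0 := index_ne_zero_of_finite
      have h9 : S.index ≠ 1 := fun h => hne (Subgroup.index_eq_one.1 h)
      omega
    have h7 := Group.IsSolvable.commutator_lt_top_of_nontrivial (G ⧸ S)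
    apply h7.ne
    have h8 : (commutator G).map (QuotientGroup.mk' S) = commutator (G ⧸ S) := by
      rw [_root_.commutator_def, _root_.commutator_def, map_commutator, ← MonoidHom.range_eq_map,
        MonoidHom.range_eq_top.2 (QuotientGroup.mk'_surjective S)]
    rw [← h8, hp, ← MonoidHom.range_eq_map, MonoidHom.range_eq_top.2 (QuotientGroup.mk'_surjective S)]
  rw [hS] at e
  exact ⟨(Subgroup.topEquiv (G := G)).symm.trans e⟩

end Cfsg.Agent.H24.Zas
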