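import Mathlib
import Cfsg.Prelude.Def_OddOrderLocal
import Cfsg.Agent.H17_Base
import Cfsg.Agent.H23_HallTI
import Cfsg.Agent.H23_Rad
import Cfsg.Agent.H1_Partition
import Cfsg.Agent.H1_Coprime2
import Cfsg.Agent.S0690
import Cfsg.Agent.S0144
import Cfsg.Agent.H23_AutRank
import Cfsg.Agent.H23_PQuat
import Cfsg.Agent.H12_BG8a

/-! H23_TIHall: a TI-subgroup which is a Hall subgroup of its normaliser in a π-separable group. -/

set_option autoImplicit false
set_option linter.style.haveILetI false
set_option linter.unusedSectionVars false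

namespace Cfsg.Agent.H23.TIHall

open Cfsg Subgroup Cfsg.Agent.H17.Base
open scoped Pointwise

universe u

variable {G : Type u} [Group G] [Finite G] {H : Subgroup G}

theorem normalizer_le (hTI : IsTISubset (H : Set G)) {X : Subgroup G} (hX : X ≤ H) (hX1 : X ≠ ⊥) :
    normalizer (X : Set G) ≤ normalizer (H : Set G) := by
  intro g hg
  by_contra hn
  apply hX1
  rw [eq_bot_iff]
  intro x hx
  rw [mem_bot]
  exact hTI g hn x (hX hx) (hX ((mem_normalizer_iff.1 hg x).1 hx))

theorem card_ne_one_of_dvd {p : ℕ} (hp : p.Prime) {X : Subgroup G} (h : p ∣ Nat.card X) : X ≠ ⊥ := by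
  rintro rfl
  rw [card_bot] at h
  exact hp.one_lt.ne' (Nat.dvd_one.1 h)

/-- `H` is a Hall subgroup of `G` -/
theorem hall (hTI : IsTISubset (H : Set G)) (hH : (Nat.card H).Coprime (H.relIndex (normalizer (H : Set G)))) :
    (Nat.card H).Coprime H.index := by
  apply Nat.Coprime.symm
  by_contra hcop
  obtain ⟨p, hp, h1, h2⟩ := Nat.Prime.not_coprime_iff_dvd.1 hcop
  haveI : Fact p.Prime := ⟨hp⟩
  obtain ⟨T, hT⟩ := exists_isSylowIn p H
  have hTc := hT.card
  have hT1 : T ≠ ⊥ := by
    apply card_ne_one_of_dvd hp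
    rw [hTc]
    exact dvd_pow_self p (by
      rw [← Nat.pos_iff_ne_zero]
      exact hp.factorization_pos_of_dvd Nat.card_pos.ne' h2)
  have hTH : ¬ p ∣ T.relIndex H := by
    intro hd
    have h3 := H2.Card.card_mul_relIndex hT.le
    have h4 : p ^ ((Nat.card H).factorization p + 1) ∣ Nat.card H := by
      have h3' : p ^ (Nat.card H).factorization p * T.relIndex H = Nat.card H := by rw [← hTc]; exact h3
      rw [pow_succ]
      exact (mul_dvd_mul_left _ hd).trans h3'.dvd
    exact Nat.pow_succ_factorization_not_dvd Nat.card_pos.ne' hp h4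
  have hN := normalizer_le hTI hT.le hT1
  have h3 : T.relIndex H * H.relIndex (normalizer (H : Set G)) = T.relIndex (normalizer (H : Set G)) :=
    relIndex_mul_relIndex _ _ _ hT.le le_normalizer
  have h4 : T.relIndex (normalizer (T : Set G)) * (normalizer (T : Set G)).relIndex (normalizer (H : Set G)) =
      T.relIndex (normalizer (H : Set G)) := relIndex_mul_relIndex _ _ _ le_normalizer hN
  have h5 : ¬ p ∣ T.relIndex (normalizer (T : Set G)) := by
    intro hd
    have h6 : p ∣ T.relIndex H * H.relIndex (normalizer (H : Set G)) := by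
      rw [h3, ← h4]; exact Dvd.dvd.mul_right hd _
    rcases (hp.dvd_mul).1 h6 with h | h
    · exact hTH h
    · exact hp.one_lt.ne' (Nat.eq_one_of_dvd_coprimes hH h2 h)
  have h6 := Sylow.card_quotient_normalizer_modEq_card_quotient (p := p) hTc
  have h7 : ¬ p ∣ T.index := by
    intro hd
    apply h5
    have h8 : Nat.card (G ⧸ T) ≡ 0 [MOD p] := (Nat.modEq_zero_iff_dvd).2 hd
    exact (Nat.modEq_zero_iff_dvd).1 (h6.trans h8)
  apply h7
  rw [← relIndex_mul_index hT.le]
  exact Dvd.dvd.mul_left h1 _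

/-- the largest normal subgroup of order prime to `H` -/
theorem core_spec (O : Subgroup G) (hO : O = sSup {K : Subgroup G | K.Normal ∧ (Nat.card K).Coprime (Nat.card H)}) :
    O.Normal ∧ (Nat.card O).Coprime (Nat.card H) ∧ ∀ K : Subgroup G, K.Normal → (Nat.card K).Coprime (Nat.card H) → K ≤ O := by
  obtain ⟨K₀, hK₀⟩ := (Set.toFinite {K : Subgroup G | K.Normal ∧ (Nat.card K).Coprime (Nat.card H)}).exists_maximal
    ⟨⊥, (inferInstance : (⊥ : Subgroup G).Normal), by rw [card_bot]; exact Nat.coprime_one_left _⟩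
  have hmax : ∀ K : Subgroup G, K.Normal → (Nat.card K).Coprime (Nat.card H) → K ≤ K₀ := by
    intro K hK hKc
    haveI := hK
    haveI := hK₀.1.1
    have h1 : (K₀ ⊔ K).Normal ∧ (Nat.card ↥(K₀ ⊔ K)).Coprime (Nat.card H) := by
      refine ⟨inferInstance, ?_⟩
      have h2 : Nat.card ↥(K₀ ⊔ K) ∣ Nat.card K₀ * Nat.card K := by
        have := H2.Card.card_sup_mul_card_inf (H := K₀) (N := K) le_normalizer_of_normal
        exact Dvd.intro _ this
      exact Nat.Coprime.coprime_dvd_left h2 (hK₀.1.2.mul_left hKc)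
    exact le_sup_right.trans (hK₀.2 h1 le_sup_left)
  have : O = K₀ := by
    rw [hO]
    apply le_antisymm
    · exact sSup_le fun K hK => hmax K hK.1 hK.2
    · exact le_sSup hK₀.1
  rw [this]
  exact ⟨hK₀.1.1, hK₀.1.2, hmax⟩


theorem mem_of_sup_eq_top {A B : Subgroup G} (hA : A.Normal) (h : A ⊔ B = ⊤) (g : G) : ∃ a ∈ A, ∃ b ∈ B, g = a * b := by
  have h1 : g ∈ A ⊔ B := by rw [h]; exact mem_top g
  obtain ⟨a, ha, b, hb, h2⟩ := (mem_sup_of_le_Nz' (H := A) (K := B) le_normalizer_of_normal).1 h1
  exact ⟨a, ha, b, hb, h2⟩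

/-- the factorisation -/
theorem factor (hTI : IsTISubset (H : Set G)) (hnn : ¬ H.Normal)
    (hHall : (Nat.card H).Coprime H.index)
    (hsep : ∃ (n : ℕ) (M : Fin (n + 1) → Subgroup G), M 0 = ⊥ ∧ M (Fin.last n) = ⊤ ∧ Monotone M ∧ (∀ i, (M i).Normal) ∧
      ∀ i : Fin n, (∀ q : ℕ, q.Prime → q ∣ (M i.castSucc).relIndex (M i.succ) → q ∣ Nat.card H) ∨
        ((M i.castSucc).relIndex (M i.succ)).Coprime (Nat.card H))
    (O : Subgroup G) (hO1 : O.Normal) (hO2 : (Nat.card O).Coprime (Nat.card H))
    (hO3 : ∀ K : Subgroup G, K.Normal → (Nat.card K).Coprime (Nat.card H) → K ≤ O) :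
    O ⊔ normalizer (H : Set G) = ⊤ := by
  obtain ⟨n, M, hM0, hMn, hmono, hMnor, hfac⟩ := hsep
  have hH1 : H ≠ ⊥ := by rintro rfl; exact hnn inferInstance
  have hnot : ¬ (⊤ : Subgroup G) ≤ O := by
    intro h
    have h1 : O = ⊤ := top_le_iff.1 h
    have h2 : H ⊓ O = ⊥ := by
      rw [inf_comm]; exact Subgroup.inf_eq_bot_of_coprime hO2
    rw [h1, inf_top_eq] at h2
    exact hH1 h2
  -- the first term not contained in O
  obtain ⟨i, hi1, hi2⟩ : ∃ i : Fin n, M i.castSucc ≤ O ∧ ¬ M i.succ ≤ O := by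
    by_contra hcon
    push Not at hcon
    have : ∀ i : Fin (n + 1), M i ≤ O := by
      intro i
      induction i using Fin.induction with
      | zero => rw [hM0]; exact bot_le
      | succ i ih => exact hcon i ih
    exact hnot (hMn ▸ this (Fin.last n))
  haveI := hMnor i.succ
  haveI := hMnor i.castSucc
  set Y := M i.succ ⊔ O with hY
  have hYrel : O.relIndex Y ∣ (M i.castSucc).relIndex (M i.succ) := by
    rw [hY, sup_comm, sup_comm, H2.Card.relIndex_sup_of_le_normalizer (H := M i.succ) (N := O) le_normalizer_of_normal]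
    exact relIndex_dvd_of_le_left _ hi1
  have hOY : O ≤ Y := le_sup_right
  have hOc := H2.Card.card_mul_relIndex hOY
  have hrel1 : O.relIndex Y ≠ 1 := by
    intro h
    rw [relIndex_eq_one] at h
    exact hi2 (le_sup_left.trans h)
  have hpi : ∀ q : ℕ, q.Prime → q ∣ O.relIndex Y → q ∣ Nat.card H := by
    rcases hfac i with h | h
    · intro q hq hqd
      exact h q hq (hqd.trans hYrel)
    · exfalso
      apply hi2
      refine le_sup_left.trans (hO3 Y inferInstance ?_)
      rw [← hOc]
      exact hO2.mul_left (Nat.Coprime.coprime_dvd_left hYrel h)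
  -- H ∩ Y
  have hHY : (H ⊓ Y).relIndex Y ∣ H.index := by
    rw [inf_relIndex_right]
    exact H2.Card.relIndex_dvd_index_of_normal_right H Y
  obtain ⟨p, hp, hpd⟩ := Nat.exists_prime_and_dvd hrel1
  haveI : Fact p.Prime := ⟨hp⟩
  have hpH := hpi p hp hpd
  obtain ⟨T, hT⟩ := exists_isSylowIn p (H ⊓ Y)
  have hTc := hT.card
  have hpHY : p ∣ Nat.card ↥(H ⊓ Y) := by
    have h1 : p ∣ Nat.card Y := by rw [← hOc]; exact Dvd.dvd.mul_left hpd _
    have h2 := H2.Card.card_mul_relIndex (inf_le_right : H ⊓ Y ≤ Y)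
    rw [← h2] at h1
    rcases (hp.dvd_mul).1 h1 with h | h
    · exact h
    · exact absurd (Nat.eq_one_of_dvd_coprimes hHall hpH (h.trans hHY)) hp.one_lt.ne'
  have hTY : IsSylowIn p T Y := by
    apply isSylowIn_of_card (hT.le.trans inf_le_right)
    rw [hTc]
    have h2 := H2.Card.card_mul_relIndex (inf_le_right : H ⊓ Y ≤ Y)
    rw [← h2, Nat.factorization_mul Nat.card_pos.ne' (by
      intro h0
      rw [h0, mul_zero] at h2
      exact Nat.card_pos.ne h2), Finsupp.add_apply,
      Nat.factorization_eq_zero_of_not_dvd (n := (H ⊓ Y).relIndex Y) (fun h =>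
        hp.one_lt.ne' (Nat.eq_one_of_dvd_coprimes hHall hpH (h.trans hHY))), add_zero]
  have hT1 : T ≠ ⊥ := by
    apply card_ne_one_of_dvd hp
    rw [hTc]
    exact dvd_pow_self p (by
      rw [← Nat.pos_iff_ne_zero]
      exact hp.factorization_pos_of_dvd Nat.card_pos.ne' hpHY)
  have hNT := normalizer_le hTI (hT.le.trans inf_le_left) hT1
  -- Y = O (H ∩ Y)
  have hYO : Y ≤ O ⊔ normalizer (H : Set G) := by
    have h1 : (O ⊔ (H ⊓ Y)).relIndex Y = 1 := by
      have h2 : (O ⊔ (H ⊓ Y)).relIndex Y ∣ O.relIndex Y := relIndex_dvd_of_le_left _ le_sup_left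
      have h3 : (O ⊔ (H ⊓ Y)).relIndex Y ∣ (H ⊓ Y).relIndex Y := relIndex_dvd_of_le_left _ le_sup_right
      by_contra hne
      obtain ⟨r, hr, hrd⟩ := Nat.exists_prime_and_dvd hne
      exact hr.one_lt.ne' (Nat.eq_one_of_dvd_coprimes hHall (hpi r hr (hrd.trans h2)) ((hrd.trans h3).trans hHY))
    rw [relIndex_eq_one] at h1
    exact h1.trans (sup_le le_sup_left ((inf_le_left.trans le_normalizer).trans le_sup_right))
  have hfr := frattini_le hTY (le_top : Y ≤ ⊤) (by
    intro x _
    exact (le_normalizer_of_normal (H := Y) (K := ⊤)) (mem_top x))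
  rw [eq_top_iff, ← hfr]
  exact sup_le hYO ((inf_le_right.trans hNT).trans le_sup_right)

theorem sup_normal (O : Subgroup G) (hO1 : O.Normal) (h : O ⊔ normalizer (H : Set G) = ⊤) : (O ⊔ H).Normal := by
  rw [← normalizer_eq_top_iff, eq_top_iff, ← h]
  apply sup_le
  · exact le_sup_left.trans le_normalizer
  · have h1 : normalizer (H : Set G) ≤ normalizer (O : Set G) := le_normalizer_of_normal
    exact (le_inf h1 le_rfl).trans (Nz_sup_le O H)


/-- a minimal non-solvable subgroup is perfect -/
theorem exists_perfect {G : Type*} [Group G] [Finite G] {H : Subgroup G} (hH : ¬ Group.IsSolvable H) :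
    ∃ D : Subgroup G, D ≤ H ∧ ¬ Group.IsSolvable D ∧ commutator D = ⊤ := by
  obtain ⟨D, hD⟩ := (Set.toFinite {D : Subgroup G | D ≤ H ∧ ¬ Group.IsSolvable D}).exists_minimal ⟨H, le_rfl, hH⟩
  refine ⟨D, hD.1.1, hD.1.2, ?_⟩
  by_contra hne
  have h1 : (commutator D).map D.subtype ≤ D := map_subtype_le _
  have h2 : Group.IsSolvable (commutator D) := by
    by_contra hns
    have h3 : ¬ Group.IsSolvable ((commutator D).map D.subtype) := by
      intro h4
      apply hns
      haveI := h4
      exact Group.isSolvable_of_isSolvable_injective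
        (f := ((commutator D).equivMapOfInjective D.subtype D.subtype_injective).toMonoidHom)
        ((commutator D).equivMapOfInjective D.subtype D.subtype_injective).injective
    have h5 := hD.2 (⟨h1.trans hD.1.1, h3⟩ : (commutator D).map D.subtype ∈ {D : Subgroup G | D ≤ H ∧ ¬ Group.IsSolvable D}) h1
    apply hne
    rw [eq_top_iff]
    intro x _
    obtain ⟨y, hy, hyx⟩ := h5 x.2
    have : y = x := Subtype.ext hyx
    rw [← this]; exact hy
  apply hD.1.2
  exact Rad.solvable_quot (commutator D) h2 (by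
    haveI : Group.IsSolvable (Abelianization D) := inferInstance
    exact this)

/-- a non-solvable group acting "Frobenius-like" on an r-group contains `SL(2,5)` -/
theorem exists_SL25 {H R : Subgroup G} (hHR : H ≤ Nz R) {r : ℕ} [hr : Fact r.Prime] (hR : IsPGroup r R)
    (hrH : (Nat.card H).Coprime (Nat.card R))
    (hfix : ∀ h ∈ H, h ≠ 1 → ∀ c ∈ R, c * h = h * c → ∀ y ∈ H, c * y = y * c)
    (hne : ¬ R ≤ Cz H) (hns : ¬ Group.IsSolvable H) :
    ∃ K : Subgroup G, K ≤ H ∧ Nonempty (K ≃* Matrix.SpecialLinearGroup (Fin 2) (ZMod 5)) := by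
  obtain ⟨D, hDH, hDns, hDp⟩ := exists_perfect hns
  refine ⟨D, hDH, ?_⟩
  set C₀ := R ⊓ Cz H with hC₀
  set N := R ⊓ Nz C₀ with hN
  have hC₀N : C₀ ≤ N := le_inf inf_le_left le_normalizer
  have hlt : C₀ < R := lt_of_le_of_ne inf_le_left (fun h => hne (by rw [← h]; exact inf_le_right))
  -- N is strictly larger than C₀
  have hNC : ¬ N ≤ C₀ := by
    intro h
    have hnil := hR.isNilpotent
    have hnc := Group.normalizerCondition_of_isNilpotent (G := R)
    have h1 : C₀.subgroupOf R < ⊤ := by
      rw [lt_top_iff_ne_top]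
      intro h2
      rw [subgroupOf_eq_top] at h2
      exact hlt.not_ge h2
    obtain ⟨x, hx1, hx2⟩ := SetLike.exists_of_lt (hnc _ h1)
    apply hx2
    rw [mem_subgroupOf]
    apply h
    refine ⟨x.2, mem_normalizer_iff.2 ?_⟩
    intro y
    have h3 := mem_normalizer_iff.1 hx1
    constructor
    · intro hy
      exact (h3 ⟨y, hlt.le hy⟩).1 hy
    · intro hy
      have hyR : y ∈ R := by
        have := R.mul_mem (R.mul_mem (R.inv_mem x.2) (hlt.le hy)) x.2
        have h4 : (x : G)⁻¹ * (x * y * (x : G)⁻¹) * x = y := by group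
        rwa [h4] at this
      exact (h3 ⟨y, hyR⟩).2 hy
  have hHC : H ≤ Nz C₀ := by
    rw [le_Nz_iff]
    rintro h hh c ⟨hc1, hc2⟩
    have h1 : h * c = c * h := (mem_centralizer_iff.1 hc2 h hh)
    rw [h1, mul_inv_cancel_right]
    exact ⟨hc1, hc2⟩
  have hHN : H ≤ Nz N := by
    have h1 : Nz C₀ ≤ Nz (Nz C₀) := le_normalizer
    exact (le_inf hHR (hHC.trans h1)).trans (Nz_inf_le R (Nz C₀))
  have hconjN : ∀ d ∈ D, ∀ x ∈ N, d * x * d⁻¹ ∈ N := fun d hd x hx => le_Nz_iff.1 hHN d (hDH hd) x hx
  have hconjC : ∀ d ∈ D, ∀ x ∈ C₀, d * x * d⁻¹ ∈ C₀ := fun d hd x hx => le_Nz_iff.1 hHC d (hDH hd) x hx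
  set C' := C₀.subgroupOf N with hC'
  haveI hC'n : C'.Normal := by
    rw [hC', normal_subgroupOf_iff_le_normalizer hC₀N]
    exact inf_le_right
  let e : D → N ≃* N := fun d =>
    { toFun := fun x => ⟨d * x * (d : G)⁻¹, hconjN d d.2 x x.2⟩
      invFun := fun x => ⟨(d : G)⁻¹ * x * d, by
        have := hconjN (d : G)⁻¹ (D.inv_mem d.2) x x.2
        rwa [inv_inv] at this⟩
      left_inv := fun x => Subtype.ext (by simp [mul_assoc])
      right_inv := fun x => Subtype.ext (by simp [mul_assoc])
      map_mul' := fun x y => Subtype.ext (by simp [mul_assoc]) }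
  have he : ∀ d : D, C'.map (e d).toMonoidHom = C' := by
    intro d
    apply le_antisymm
    · rintro _ ⟨x, hx, rfl⟩
      exact hconjC d d.2 x hx
    · intro x hx
      refine ⟨(e d).symm x, ?_, by simp⟩
      change (d : G)⁻¹ * x * d ∈ C₀
      have := hconjC (d : G)⁻¹ (D.inv_mem d.2) x hx
      rwa [inv_inv] at this
  let f : D →* MulAut (N ⧸ C') :=
    { toFun := fun d => QuotientGroup.congr C' C' (e d) (he d)
      map_one' := by
        ext x
        obtain ⟨x, rfl⟩ := QuotientGroup.mk_surjective x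
        change ((e 1 x : N) : N ⧸ C') = x
        congr 1
        exact Subtype.ext (by simp [e])
      map_mul' := by
        intro a b
        ext x
        obtain ⟨x, rfl⟩ := QuotientGroup.mk_surjective x
        change ((e (a * b) x : N) : N ⧸ C') = ((e a (e b x) : N) : N ⧸ C')
        congr 1
        exact Subtype.ext (by simp [e, mul_assoc]) }
  -- fixed points
  have hfp : ∀ d : D, d ≠ 1 → ∀ x : N, ((e d x : N) : N ⧸ C') = x → x ∈ C' := by
    intro d hd x hx
    rw [eq_comm, QuotientGroup.eq] at hx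
    have hd1 : (d : G) ≠ 1 := fun h => hd (Subtype.ext h)
    set c : G := (x : G)⁻¹ * (d * x * (d : G)⁻¹) with hc
    have hcC : c ∈ C₀ := hx
    have hcd : (d : G) * c = c * d := mem_centralizer_iff.1 hcC.2 d (hDH d.2)
    have h1 : (d : G) * x = x * c * d := by rw [hc]; group
    have h2 : ∀ i : ℕ, (d : G) ^ i * x = x * c ^ i * (d : G) ^ i := by
      intro i
      induction i with
      | zero => simp
      | succ i ih =>
        have h3 : Commute (d : G) c := hcd
        rw [pow_succ' (d : G), mul_assoc, ih, ← mul_assoc, ← mul_assoc, h1, mul_assoc (x * c), (h3.pow_right i).eq, pow_succ' c]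
        group
    have h3 := h2 (orderOf (d : G))
    rw [pow_orderOf_eq_one, one_mul, mul_one] at h3
    have h4 : c ^ orderOf (d : G) = 1 := by
      have := h3
      rwa [eq_comm, mul_eq_left] at this
    have h5 : orderOf c = 1 := by
      refine Nat.eq_one_of_dvd_coprimes hrH ((orderOf_dvd_of_pow_eq_one h4).trans ?_) ?_
      · rw [← Subgroup.orderOf_mk (d : G) (hDH d.2)]
        exact orderOf_dvd_natCard _
      · rw [← Subgroup.orderOf_mk c hcC.1]
        exact orderOf_dvd_natCard _
    rw [orderOf_eq_one_iff] at h5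
    rw [h5, mul_one] at h1
    have h6 := hfix d (hDH d.2) hd1 x x.2.1 h1.symm
    change (x : G) ∈ C₀
    refine ⟨x.2.1, mem_centralizer_iff.2 ?_⟩
    intro y hy
    exact (h6 y hy).symm
  have hfinj : Function.Injective f := by
    rw [injective_iff_map_eq_one]
    intro d hd
    by_contra hd1
    apply hNC
    intro x hx
    have h1 := hfp d hd1 ⟨x, hx⟩ (by
      have : f d ((⟨x, hx⟩ : N) : N ⧸ C') = ((⟨x, hx⟩ : N) : N ⧸ C') := by rw [hd]; rfl
      exact this)
    exact h1
  have hperf : commutator f.range = ⊤ := by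
    have h1 : (commutator D).map f.rangeRestrict = commutator f.range := by
      rw [_root_.commutator_def, _root_.commutator_def, map_commutator,
        Subgroup.map_top_of_surjective _ f.rangeRestrict_surjective]
    rw [← h1, hDp, Subgroup.map_top_of_surjective _ f.rangeRestrict_surjective]
  obtain ⟨ψ⟩ := S0690.result f.range (by
    rintro _ ⟨d, rfl⟩ hd k hk
    obtain ⟨x, rfl⟩ := QuotientGroup.mk_surjective k
    rw [QuotientGroup.eq_one_iff]
    exact hfp d (by rintro rfl; exact hd (map_one f)) x hk) hperf (by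
    intro h
    apply hDns
    have h1 : f = 1 := by
      rwa [MonoidHom.range_eq_bot_iff] at h
    have h2 : Subsingleton D := ⟨fun a b => hfinj (by rw [h1]; rfl)⟩
    infer_instance)
  exact ⟨(MonoidHom.ofInjective hfinj).trans ψ⟩


theorem isPGroup_equiv {P Q : Type*} [Group P] [Group Q] {p : ℕ} (h : IsPGroup p P) (e : P ≃* Q) : IsPGroup p Q :=
  h.of_surjective e.toMonoidHom e.surjective

theorem aut_quaternion (n : ℕ) (hQ : IsPGroup 2 (QuaternionGroup (2 ^ n))) :
    Group.IsSolvable (MulAut (QuaternionGroup (2 ^ n))) := by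
  classical
  haveI : Fact (Nat.Prime 2) := ⟨Nat.prime_two⟩
  haveI : NeZero (2 ^ n) := ⟨by positivity⟩
  obtain ⟨r, hr, hr2⟩ := AutRank.exists_index_frattini hQ
    ({QuaternionGroup.a 1, QuaternionGroup.xa 0} : Finset (QuaternionGroup (2 ^ n))) (by
      rw [eq_top_iff]
      rintro x -
      have ha : QuaternionGroup.a 1 ∈ closure (({QuaternionGroup.a 1, QuaternionGroup.xa 0} :
          Finset (QuaternionGroup (2 ^ n))) : Set (QuaternionGroup (2 ^ n))) := subset_closure (by simp)
      have hx : QuaternionGroup.xa 0 ∈ closure (({QuaternionGroup.a 1, QuaternionGroup.xa 0} :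
          Finset (QuaternionGroup (2 ^ n))) : Set (QuaternionGroup (2 ^ n))) := subset_closure (by simp)
      have hai : ∀ i : ZMod (2 * 2 ^ n), QuaternionGroup.a i ∈ closure (({QuaternionGroup.a 1, QuaternionGroup.xa 0} :
          Finset (QuaternionGroup (2 ^ n))) : Set (QuaternionGroup (2 ^ n))) := by
        intro i
        have h1 := Subgroup.pow_mem _ ha i.val
        rwa [QuaternionGroup.a_one_pow, ZMod.natCast_zmod_val] at h1
      rcases x with i | i
      · exact hai i
      · have := Subgroup.mul_mem _ hx (hai i)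
        rwa [QuaternionGroup.xa_mul_a, zero_add] at this)
  have hr3 : r ≤ 2 := hr2.trans (Finset.card_le_two)
  have hpr : ∀ q : ℕ, q.Prime → q ∣ Nat.card (MulAut (QuaternionGroup (2 ^ n))) → q = 2 ∨ q = 3 := by
    intro q hq hd
    by_cases h2 : q = 2
    · exact Or.inl h2
    · right
      obtain ⟨i, hi1, hi2, hi3⟩ := AutRank.dvd_pow_sub_one hQ hr hq h2 hd
      have : i = 1 ∨ i = 2 := by omega
      rcases this with rfl | rfl
      · norm_num at hi3
        exact absurd hi3 hq.one_lt.ne'
      · norm_num at hi3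
        exact (Nat.prime_dvd_prime_iff_eq hq Nat.prime_three).1 hi3
  set m := Nat.card (MulAut (QuaternionGroup (2 ^ n))) with hm
  have hm0 : m ≠ 0 := Nat.card_pos.ne'
  apply S0144.result 2 3 (m.factorization 2) (m.factorization 3) Nat.prime_two Nat.prime_three
  rw [← hm]
  apply Nat.eq_of_factorization_eq hm0 (by positivity)
  intro q
  rw [Nat.factorization_mul (by positivity) (by positivity), Nat.Prime.factorization_pow Nat.prime_two,
    Nat.Prime.factorization_pow Nat.prime_three, Finsupp.add_apply, Finsupp.single_apply, Finsupp.single_apply]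
  by_cases hq : q.Prime
  · by_cases hd : q ∣ m
    · rcases hpr q hq hd with rfl | rfl <;> simp
    · rw [Nat.factorization_eq_zero_of_not_dvd hd]
      split_ifs with h1 h2 h2
      · omega
      · subst h1; rw [Nat.factorization_eq_zero_of_not_dvd hd, add_zero]
      · subst h2; rw [Nat.factorization_eq_zero_of_not_dvd hd]
      · rfl
  · have e2 : ¬ 2 = q := by rintro rfl; exact hq Nat.prime_two
    have e3 : ¬ 3 = q := by rintro rfl; exact hq Nat.prime_three
    rw [Nat.factorization_eq_zero_of_not_prime _ hq, if_neg e2, if_neg e3, add_zero]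

theorem aut_solvable {P : Type*} [Group P] [Finite P] {p : ℕ} (hP : IsPGroup p P)
    (h : IsCyclic P ∨ (p = 2 ∧ ∃ n : ℕ, Nonempty (P ≃* QuaternionGroup (2 ^ n)))) :
    Group.IsSolvable (MulAut P) := by
  rcases h with h | ⟨rfl, n, ⟨e⟩⟩
  · haveI : Group.IsSolvable (ZMod (Nat.card P))ˣ := inferInstance
    exact Group.isSolvable_of_isSolvable_injective (f := (IsCyclic.mulAutMulEquiv P).toMonoidHom)
      (IsCyclic.mulAutMulEquiv P).injective
  · haveI := aut_quaternion n (isPGroup_equiv hP e)
    exact Group.isSolvable_of_isSolvable_injective (f := (MulAut.congr e).toMonoidHom) (MulAut.congr e).injective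

theorem hom_trivial {D M : Type*} [Group D] [Group M] (hD : commutator D = ⊤) (hM : Group.IsSolvable M) (f : D →* M) :
    f = 1 := by
  have h1 : ∀ n, ∀ x : D, f x ∈ derivedSeries M n := by
    intro n
    induction n with
    | zero => intro x; exact mem_top _
    | succ n ih =>
      intro x
      have h2 : (commutator D).map f ≤ ⁅derivedSeries M n, derivedSeries M n⁆ := by
        rw [_root_.commutator_def, map_commutator]
        apply commutator_mono <;> (rintro _ ⟨y, -, rfl⟩; exact ih y)
      exact h2 ⟨x, by rw [hD]; exact mem_top _, rfl⟩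
  obtain ⟨n, hn⟩ := hM.solvable
  ext x
  have := h1 n x
  rw [hn, mem_bot] at this
  exact this

theorem solv_normalizer {H O : Subgroup G} (hH : (Nat.card H).Coprime H.index)
    (hO1 : O.Normal) (hO2 : (Nat.card O).Coprime (Nat.card H))
    (hO3 : ∀ K : Subgroup G, K.Normal → (Nat.card K).Coprime (Nat.card H) → K ≤ O) (hOs : Group.IsSolvable O)
    (hOL : O ⊔ Nz H = ⊤) (hHs : Group.IsSolvable H)
    (hcyc : ∀ (p : ℕ) [Fact p.Prime] (P : Subgroup G), P ≤ H → IsPGroup p P →
      (IsCyclic P ∨ (p = 2 ∧ ∃ n : ℕ, Nonempty (P ≃* QuaternionGroup (2 ^ n))))) :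
    Group.IsSolvable (Nz H) := by
  by_contra hns
  set L := Nz H with hL
  obtain ⟨D', hD'⟩ := (Set.toFinite {D : Subgroup L | ∃ n, D = derivedSeries L n}).exists_minimal ⟨_, 0, rfl⟩
  obtain ⟨n, hn⟩ := hD'.1
  have hperf' : ⁅D', D'⁆ = D' := by
    apply le_antisymm (commutator_le_self _)
    exact hD'.2 ⟨n + 1, by rw [derivedSeries_succ, ← hn]⟩ (commutator_le_self _)
  haveI hD'n : D'.Normal := by rw [hn]; infer_instance
  set D := D'.map L.subtype with hD
  have hDL : D ≤ L := map_subtype_le _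
  have hLD : L ≤ Nz D := by
    rw [le_Nz_iff]
    rintro l hl _ ⟨d, hd, rfl⟩
    exact ⟨⟨l, hl⟩ * d * ⟨l, hl⟩⁻¹, hD'n.conj_mem d hd _, by simp⟩
  have hperf : commutator D = ⊤ := by
    have h1 : ⁅D, D⁆ = D := by rw [hD, ← map_commutator, hperf']
    rw [_root_.commutator_def, eq_top_iff]
    have h2 : Subgroup.map D.subtype ⁅(⊤ : Subgroup D), (⊤ : Subgroup D)⁆ = ⁅D, D⁆ := by
      rw [map_commutator, ← MonoidHom.range_eq_map, range_subtype]
    intro x _
    have h3 : (x : G) ∈ Subgroup.map D.subtype ⁅(⊤ : Subgroup D), (⊤ : Subgroup D)⁆ := by rw [h2, h1]; exact x.2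
    obtain ⟨y, hy, hyx⟩ := h3
    have : y = x := Subtype.ext hyx
    rwa [← this]
  have hDne : D ≠ ⊥ := by
    intro h
    apply hns
    refine ⟨⟨n, ?_⟩⟩
    rw [← hn]
    exact (map_eq_bot_iff_of_injective D' L.subtype_injective).1 h
  have hDF : D ≤ centralizer (fittingOf H : Set G) := by
    rw [H12.Loc.le_centralizer_fittingOf_iff]
    intro q hq
    haveI : Fact q.Prime := ⟨hq⟩
    have h1 : D ≤ Nz (H12.Loc.Oq q H) := hDL.trans (H12.Core.normalizer_le_normalizer_piCoreOf _ _)
    have h2 := aut_solvable (H12.Loc.Oq_isPGroup hq H) (hcyc q _ (H12.Loc.Oq_le q H) (H12.Loc.Oq_isPGroup hq H))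
    have h3 := hom_trivial hperf h2 ((normalizerMonoidHom (H12.Loc.Oq q H)).comp (inclusion h1))
    intro d hd
    have h4 : (inclusion h1 ⟨d, hd⟩) ∈ (normalizerMonoidHom (H12.Loc.Oq q H)).ker := by
      rw [MonoidHom.mem_ker]
      exact DFunLike.congr_fun h3 ⟨d, hd⟩
    rw [normalizerMonoidHom_ker] at h4
    exact h4
  have hDHF : D ⊓ H ≤ fittingOf H := by
    refine le_trans ?_ (H12.Core.inf_centralizer_fittingOf_le H hHs)
    exact le_inf inf_le_right (inf_le_left.trans hDF)
  set Z := H.subgroupOf D with hZ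
  have hZc : Z ≤ center D := by
    intro z hz
    rw [mem_center_iff]
    intro d
    have h1 : (z : G) ∈ fittingOf H := hDHF ⟨z.2, hz⟩
    exact Subtype.ext ((mem_centralizer_iff.1 (hDF d.2) z h1).symm)
  haveI hZn : Z.Normal := ⟨fun z hz g => by
    have := mem_center_iff.1 (hZc hz) g
    rw [this, mul_inv_cancel_right]; exact hz⟩
  have hrel : H.relIndex D ∣ H.index := by
    have h1 : H.relIndex D = H.relIndex (D ⊔ H) := by
      rw [H2.Card.relIndex_sup_of_le_normalizer (H := D) (N := H) hDL]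
    rw [h1]
    exact relIndex_dvd_index_of_le le_sup_right
  have hZcop : (Nat.card Z).Coprime Z.index := by
    have h1 : Nat.card Z ∣ Nat.card H := by
      rw [hZ, H2.Card.card_subgroupOf]
      exact card_dvd_of_le inf_le_left
    exact Nat.Coprime.coprime_dvd_left h1 (Nat.Coprime.coprime_dvd_right hrel hH)
  obtain ⟨K, hK⟩ := Subgroup.exists_right_complement'_of_coprime hZcop
  haveI hKn : K.Normal := by
    rw [← normalizer_eq_top_iff, eq_top_iff, ← hK.sup_eq_top]
    refine sup_le (hZc.trans ?_) le_normalizer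
    exact (center_le_centralizer (K : Set D)).trans (centralizer_le_normalizer _)
  have hZbot : Z = ⊥ := by
    have h1 : Group.IsSolvable (D ⧸ K) := by
      have e := (QuotientGroup.quotientMulEquivOfEq (rfl : K = K))
      have h2 : ∀ x y : D ⧸ K, x * y = y * x := by
        intro x y
        obtain ⟨x, rfl⟩ := QuotientGroup.mk_surjective x
        obtain ⟨y, rfl⟩ := QuotientGroup.mk_surjective y
        obtain ⟨⟨⟨z, hz⟩, ⟨k, hk⟩⟩, hzk⟩ := hK.2 x
        simp only at hzk
        rw [← hzk, QuotientGroup.mk_mul, (QuotientGroup.eq_one_iff k).2 hk, mul_one,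
          ← QuotientGroup.mk_mul, ← QuotientGroup.mk_mul, mem_center_iff.1 (hZc hz) y]
      exact Group.isSolvable_of_comm h2
    have h2 := hom_trivial hperf h1 (QuotientGroup.mk' K)
    have h3 : K = ⊤ := by
      rw [eq_top_iff]
      intro x _
      rw [← QuotientGroup.eq_one_iff]
      exact DFunLike.congr_fun h2 x
    have := hK.disjoint
    rw [h3, disjoint_top] at this
    exact this
  have hDH : H ⊓ D = ⊥ := by
    rw [hZ, subgroupOf_eq_bot, disjoint_iff] at hZbot
    exact hZbot
  have hDcard : (Nat.card D).Coprime (Nat.card H) := by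
    have h1 := H2.Card.card_inf_mul_relIndex H D
    rw [hDH, card_bot, one_mul] at h1
    rw [← h1]
    exact (Nat.Coprime.coprime_dvd_right hrel hH).symm
  have hDO : D ≤ O := by
    refine le_sup_right.trans (hO3 (O ⊔ D) ?_ ?_)
    · rw [← normalizer_eq_top_iff, eq_top_iff, ← hOL]
      apply sup_le
      · exact le_sup_left.trans le_normalizer
      · have h1 : Nz H ≤ Nz O := le_normalizer_of_normal
        exact (le_inf h1 hLD).trans (Nz_sup_le O D)
    · have h2 : Nat.card ↥(O ⊔ D) ∣ Nat.card O * Nat.card D := by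
        rw [sup_comm, mul_comm]
        have := H2.Card.card_sup_mul_card_inf (H := D) (N := O) le_normalizer_of_normal
        exact Dvd.intro _ this
      exact Nat.Coprime.coprime_dvd_left h2 (hO2.mul_left hDcard)
  have hDs : Group.IsSolvable D := Rad.solvable_of_le hDO hOs
  apply hDne
  have h1 := hom_trivial hperf hDs (MonoidHom.id D)
  rw [eq_bot_iff]
  intro x hx
  rw [mem_bot]
  exact congrArg Subtype.val (DFunLike.congr_fun h1 ⟨x, hx⟩)

end Cfsg.Agent.H23.TIHall
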