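import Mathlib
import Cfsg.Agent.H23_POrb
import Cfsg.Agent.H23_SRing
import Cfsg.Agent.S0675
import Cfsg.Agent.H23_CycSyl
import Cfsg.Agent.H1_Hall
import Cfsg.Agent.H23_TIHall
import Cfsg.Agent.H12_BG8a

/-! H23_POrb2: the cyclic case of the p-power orbit theorem. -/

set_option autoImplicit false
set_option linter.style.haveILetI false
set_option linter.unusedSectionVars false

namespace Cfsg.Agent.H23.POrb

open Subgroup MulAction Cfsg
open scoped commutatorElement

universe u v

variable {K : Type u} [Group K] [Finite K] {V : Type v} [AddCommGroup V] [Finite V] [DistribMulAction K V]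
  {p : ℕ} [hp : Fact p.Prime]

namespace Cfg

variable {q : ℕ} (hc : Cfg p q K V)

include hc

theorem comm_top : commutator K = ⊤ :=
  hc.perf (commutator K) (by
    haveI : Group.IsSolvable (Abelianization K) := inferInstance
    exact this)

theorem P_ne (P : Sylow p K) : (P : Subgroup K) ≠ ⊥ := by
  intro h
  have h1 : ¬ p ∣ Nat.card K := by
    have h2 := P.not_dvd_index
    rwa [h, index_bot] at h2
  have h3 := hc.opn ⊤ (by rwa [card_top])
  apply hc.hns
  have h4 : Subsingleton K := by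
    refine ⟨fun a b => ?_⟩
    have ha : a ∈ (⊥ : Subgroup K) := by rw [← h3]; exact mem_top a
    have hb : b ∈ (⊥ : Subgroup K) := by rw [← h3]; exact mem_top b
    rw [mem_bot.1 ha, mem_bot.1 hb]
  infer_instance

theorem not_npc (h : HasNormalPComplement p K) : False := by
  obtain ⟨P, N, hN, hNP⟩ := h
  haveI := hN
  have h1 : N = ⊤ := by
    apply hc.perf N
    have h2 : IsPGroup p (K ⧸ N) := by
      have e : Nat.card (K ⧸ N) = Nat.card P := by
        rw [← Subgroup.index_eq_card, hNP.symm.index_eq_card]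
      exact IsPGroup.of_card (n := (Nat.card K).factorization p) (by rw [e]; exact P.card_eq_multiplicity)
    exact Rad.solvable_of_pgroup h2
  apply hc.P_ne P
  have := hNP.disjoint
  rw [h1, top_disjoint] at this
  exact this

theorem normal_bot {P : Sylow p K} (hP : IsCyclic P) (N : Subgroup K) [hN : N.Normal] (hNt : N ≠ ⊤) : N = ⊥ := by
  by_contra hne
  have hNs := hc.hsol N hN hNt
  haveI := hNs
  obtain ⟨r, hr, hr1⟩ := H12.Loc.exists_Oq_ne_bot hNs hne
  set M := H12.Loc.Oq r N with hM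
  haveI hMn : M.Normal := by
    rw [← normalizer_eq_top_iff, eq_top_iff]
    calc (⊤ : Subgroup K) = normalizer (N : Set K) := (normalizer_eq_top_iff.2 hN).symm
      _ ≤ _ := H12.Core.normalizer_le_normalizer_piCoreOf _ _
  have hMr : IsPGroup r M := H12.Loc.Oq_isPGroup hr N
  have hMne : M ≠ ⊥ := hr1
  have hrp : r = p := by
    by_contra hne'
    apply hMne
    apply hc.opn
    haveI : Fact r.Prime := ⟨hr⟩
    obtain ⟨n, hn⟩ := IsPGroup.iff_card.1 hMr
    rw [hn]
    intro hd
    exact hne' ((Nat.prime_dvd_prime_iff_eq hp.out hr).1 (hp.out.dvd_of_dvd_pow hd)).symm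
  subst hrp
  have hMP : M ≤ P := IsPGroup.le_sylow_of_normal hMr P
  haveI : IsCyclic M := by
    have h1 : IsCyclic (M.subgroupOf P) := inferInstance
    exact isCyclic_of_surjective (Subgroup.subgroupOfEquivOfLe hMP).toMonoidHom (Subgroup.subgroupOfEquivOfLe hMP).surjective
  have hMc : M ≤ center K := by
    have h1 : Group.IsSolvable (MulAut M) :=
      Group.isSolvable_of_isSolvable_injective (f := (IsCyclic.mulAutMulEquiv M).toMonoidHom)
        (IsCyclic.mulAutMulEquiv M).injective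
    have h2 := hc.perfS (MulAut.conjNormal (H := M)) h1
    intro m hm
    rw [mem_center_iff]
    intro k
    have h3 := DFunLike.congr_fun (DFunLike.congr_fun h2 k) (⟨m, hm⟩ : M)
    have h4 := congrArg Subtype.val h3
    rw [MulAut.conjNormal_apply] at h4
    exact mul_inv_eq_iff_eq_mul.1 h4
  obtain ⟨m, hm, hm1⟩ := (M.ne_bot_iff_exists_ne_one).1 hMne |>.elim
    (fun x hx => (⟨x.1, x.2, fun h => hx (Subtype.ext h)⟩ : ∃ z, z ∈ M ∧ z ≠ 1))
  exact hc.not_npc (CycSyl.npc_of_central P hP m (hMP hm) hm1 (hMc hm))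


section cyclicCase

variable {P : Sylow p K} (hP : IsCyclic P)

include hP

omit hc in
theorem pcomm {x : K} (hx : x ∈ (P : Subgroup K)) {y : K} (hy : y ∈ (P : Subgroup K)) : x * y = y * x := by
  haveI := hP
  exact congrArg Subtype.val ((IsCyclic.commGroup (α := P)).mul_comm ⟨x, hx⟩ ⟨y, hy⟩)

theorem free {x : K} (hx : x ∈ (P : Subgroup K)) (hx1 : x ≠ 1) {v : V} (hv : x • v = v) : v = 0 :=
  hc.fpf P (fun _ hy => pcomm hP hx hy) hx1 hv

theorem inj {v : V} (hv : v ≠ 0) {x y : K} (hx : x ∈ (P : Subgroup K)) (hy : y ∈ (P : Subgroup K))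
    (h : x • v = y • v) : x = y := by
  by_contra hne
  apply hv
  refine hc.free hP (x := y⁻¹ * x) (mul_mem (inv_mem hy) hx) (fun h1 => hne (inv_mul_eq_one.1 h1).symm) ?_
  rw [mul_smul, h, inv_smul_smul]

omit hP in
theorem exists_ne_one (P : Sylow p K) : ∃ x ∈ (P : Subgroup K), x ≠ 1 := by
  by_contra hcon
  push Not at hcon
  exact hc.P_ne P (eq_bot_iff.2 (fun x hx => mem_bot.2 (hcon x hx)))

theorem coatom {v : V} (hv : v ≠ 0) : IsCoatom (stabilizer K v) := by
  obtain ⟨x₁, hx₁, hx₁1⟩ := hc.exists_ne_one P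
  refine ⟨?_, ?_⟩
  · intro h
    exact hv (hc.free hP hx₁ hx₁1 (mem_stabilizer_iff.1 (by rw [h]; trivial)))
  · intro L hL
    obtain ⟨l, hl, hlv⟩ := SetLike.exists_of_lt hL
    obtain ⟨x, hx, h⟩ := orb P hc.horb l v
    have hxL : x ∈ L := by
      have h1 : l⁻¹ * x ∈ stabilizer K v := by rw [mem_stabilizer_iff, mul_smul, ← h, inv_smul_smul]
      have := L.mul_mem hl (hL.le h1)
      rwa [mul_inv_cancel_left] at this
    have hx1 : x ≠ 1 := by
      rintro rfl
      rw [one_smul] at h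
      exact hlv (mem_stabilizer_iff.2 h)
    have hcore : x ∈ L.normalCore := by
      intro k
      change k * x * k⁻¹ ∈ L
      obtain ⟨y, hy, h'⟩ := orb P hc.horb k⁻¹ v
      have h2 : k * y ∈ stabilizer K v := by rw [mem_stabilizer_iff, mul_smul, ← h', smul_inv_smul]
      have h3 : k * x * k⁻¹ = (k * y) * x * (k * y)⁻¹ := by
        have : y * x = x * y := pcomm hP hy hx
        calc k * x * k⁻¹ = k * (x * y) * y⁻¹ * k⁻¹ := by group
          _ = _ := by rw [← this]; group
      rw [h3]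
      exact L.mul_mem (L.mul_mem (hL.le h2) hxL) (L.inv_mem (hL.le h2))
    by_contra hLt
    have := hc.normal_bot hP L.normalCore (fun h => hLt (eq_top_iff.2 (h ▸ L.normalCore_le)))
    rw [this, mem_bot] at hcore
    exact hx1 hcore

theorem trans {v : V} (hv : v ≠ 0) {x y : K} (hx : x ∈ (P : Subgroup K)) (hy : y ∈ (P : Subgroup K)) (hx1 : x ≠ 1)
    (hy1 : y ≠ 1) : ∃ s ∈ stabilizer K v, s • x • v = y • v := by
  classical
  let ω : orbit K v := ⟨v, mem_orbit_self v⟩
  have hωx : ∀ {x : K}, x ∈ (P : Subgroup K) → x ≠ 1 → ω ≠ ⟨x • v, mem_orbit v x⟩ := fun hx hx1 h =>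
    hv (hc.free hP hx hx1 (congrArg Subtype.val h).symm)
  haveI : Nontrivial (orbit K v) := ⟨ω, ⟨x • v, mem_orbit v x⟩, hωx hx hx1⟩
  have hst : stabilizer K ω = stabilizer K v := by
    ext k; rw [mem_stabilizer_iff, mem_stabilizer_iff]
    exact ⟨fun h => congrArg Subtype.val h, fun h => Subtype.ext h⟩
  haveI : IsPreprimitive K (orbit K v) :=
    (isCoatom_stabilizer_iff_preprimitive K ω).1 (by rw [hst]; exact hc.coatom hP hv)
  have htr : ∀ α : orbit K v, ∃ c : P, (c : K) • ω = α := by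
    rintro ⟨_, ⟨k, rfl⟩⟩
    obtain ⟨c, hc', h⟩ := orb P hc.horb k v
    exact ⟨⟨c, hc'⟩, Subtype.ext h.symm⟩
  have hfree : ∀ c d : P, (c : K) • ω = (d : K) • ω → c = d := by
    intro c d h
    exact Subtype.ext (hc.inj hP hv c.2 d.2 (congrArg Subtype.val h))
  obtain ⟨m, hm⟩ := IsPGroup.iff_card.1 P.2
  by_cases h2m : 2 ≤ m
  · haveI := hP
    obtain ⟨s, hs, h⟩ := SRing.schur (P : Subgroup K) ω htr hfree h2m hm ⟨x, hx⟩ ⟨y, hy⟩
      (fun h => hx1 (congrArg Subtype.val h)) (fun h => hy1 (congrArg Subtype.val h))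
    exact ⟨s, hst ▸ hs, congrArg Subtype.val h⟩
  · have hm1 : m = 1 := by
      rcases Nat.eq_zero_or_pos m with rfl | h
      · exfalso
        rw [pow_zero] at hm
        have := Subgroup.card_eq_one.1 hm
        rw [this, mem_bot] at hx
        exact hx1 hx
      · omega
    rw [hm1, pow_one] at hm
    haveI := Fintype.ofFinite (orbit K v)
    have hcard : Fintype.card (orbit K v) = p := by
      rw [← Nat.card_eq_fintype_card, ← hm]
      symm
      exact Nat.card_congr (Equiv.ofBijective (fun c : P => (c : K) • ω) ⟨fun c d h => hfree c d h, htr⟩)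
    let G := (MulAction.toPermHom K (orbit K v)).range
    haveI : IsPretransitive G (orbit K v) := by
      refine ⟨fun a b => ?_⟩
      obtain ⟨k, hk⟩ := exists_smul_eq K a b
      exact ⟨⟨MulAction.toPermHom K _ k, ⟨k, rfl⟩⟩, hk⟩
    rcases S0675.result (by rw [hcard]; exact hp.out) G with h | h
    · exfalso
      have h1 := hc.perfS (MulAction.toPermHom K (orbit K v)).rangeRestrict h
      have h2 : (MulAction.toPermHom K (orbit K v)).rangeRestrict x = 1 := by rw [h1]; rfl
      have h3 := congrArg (fun g : G => (g : Equiv.Perm (orbit K v)) ω) h2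
      exact hv (hc.free hP hx hx1 (congrArg Subtype.val h3))
    · rw [is_two_pretransitive_iff] at h
      obtain ⟨⟨_, ⟨k, rfl⟩⟩, hk1, hk2⟩ := @h ω ⟨x • v, mem_orbit v x⟩ ω ⟨y • v, mem_orbit v y⟩ (hωx hx hx1) (hωx hy hy1)
      exact ⟨k, mem_stabilizer_iff.2 (congrArg Subtype.val hk1), congrArg Subtype.val hk2⟩

theorem cyclic_false : False := by
  classical
  haveI := Fintype.ofFinite (P : Subgroup K)
  obtain ⟨v, hv⟩ := @_root_.exists_ne V hc.hnt 0
  obtain ⟨x₀, hx₀1⟩ : ∃ x : P, x ≠ 1 := by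
    obtain ⟨x, hx, hx1⟩ := hc.exists_ne_one P
    exact ⟨⟨x, hx⟩, fun h => hx1 (congrArg Subtype.val h)⟩
  have hne : ∀ {x : P}, x ≠ 1 → (x : K) ≠ 1 := fun hx h => hx (Subtype.ext h)
  set d := v - (x₀ : K) • v with hd
  have hd0 : d ≠ 0 := fun h => hv (hc.free hP x₀.2 (hne hx₀1) (sub_eq_zero.1 h).symm)
  have h1 : ∀ x : P, x ≠ 1 → ∃ t : P, v - (x : K) • v = (t : K) • d := by
    intro x hx
    obtain ⟨s, hs, h⟩ := hc.trans hP hv x₀.2 x.2 (hne hx₀1) (hne hx)
    obtain ⟨t, ht, h'⟩ := orb P hc.horb s d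
    refine ⟨⟨t, ht⟩, ?_⟩
    change _ = t • d
    rw [← h', hd, smul_sub, h, mem_stabilizer_iff.1 hs]
  choose! t ht using h1
  have htinj : ∀ x y : P, x ≠ 1 → y ≠ 1 → t x = t y → x = y := by
    intro x y hx hy h
    have h2 := ht x hx
    rw [h, ← ht y hy] at h2
    exact Subtype.ext (hc.inj hP hv x.2 y.2 (sub_right_injective h2))
  let S : Finset P := (Finset.univ.erase 1).image (fun x => (t x)⁻¹)
  have hS : S.card = Fintype.card (P : Subgroup K) - 1 := by
    change ((Finset.univ.erase 1).image (fun x => (t x)⁻¹)).card = _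
    rw [Finset.card_image_of_injOn, Finset.card_erase_of_mem (Finset.mem_univ _), Finset.card_univ]
    · rfl
    intro x hx y hy h
    simp only [Finset.coe_erase, Finset.coe_univ, Set.mem_diff, Set.mem_univ, Set.mem_singleton_iff, true_and] at hx hy
    exact htinj x y hx hy (inv_injective h)
  have hSc : Sᶜ.card = 1 := by
    rw [Finset.card_compl, hS]
    have : 0 < Fintype.card (P : Subgroup K) := Fintype.card_pos
    omega
  obtain ⟨s₀, hs₀⟩ := Finset.card_eq_one.1 hSc
  have hprop : ∀ s : P, s ≠ s₀ ↔ ∃ y : P, (s : K) • v - (y : K) • v = d := by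
    intro s
    have hmem : s ≠ s₀ ↔ s ∈ S := by
      rw [ne_eq, ← Finset.mem_singleton, ← hs₀, Finset.mem_compl, not_not]
    rw [hmem]
    constructor
    · intro h
      obtain ⟨x, hx, rfl⟩ := Finset.mem_image.1 h
      have hx1 : x ≠ 1 := by simpa using hx
      refine ⟨(t x)⁻¹ * x, ?_⟩
      push_cast
      rw [mul_smul, ← smul_sub, ht x hx1, inv_smul_smul]
    · rintro ⟨y, hy⟩
      have hx1 : s⁻¹ * y ≠ 1 := by
        intro h
        rw [inv_mul_eq_one] at h
        rw [h, sub_self] at hy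
        exact hd0 hy.symm
      have h2 := ht _ hx1
      have h3 : (s : K) • (v - ((s⁻¹ * y : P) : K) • v) = d := by
        push_cast
        rw [smul_sub, ← mul_smul, mul_inv_cancel_left, hy]
      rw [h2, ← mul_smul] at h3
      have h4 : (s : K) * (t (s⁻¹ * y) : K) = 1 :=
        hc.inj hP hd0 (mul_mem s.2 (t _).2) (one_mem _) (by rw [h3, one_smul])
      refine Finset.mem_image.2 ⟨s⁻¹ * y, by simpa using hx1, ?_⟩
      have h5 : s * t (s⁻¹ * y) = 1 := Subtype.ext h4
      exact (eq_inv_of_mul_eq_one_left h5).symm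
  have key : ∀ (d' : V) (s' : P), (∀ s : P, s ≠ s' ↔ ∃ y : P, (s : K) • v - (y : K) • v = d') →
      ∀ k : K, k • d' = d' → k • (s' : K) • v = (s' : K) • v := by
    intro d' s' hs' k hk
    obtain ⟨s₁, hs₁, h⟩ := orb P hc.horb (k * s') v
    rw [mul_smul] at h
    rw [h]
    by_contra hne'
    have h2 : (⟨s₁, hs₁⟩ : P) ≠ s' := by rintro rfl; exact hne' rfl
    obtain ⟨y, hy⟩ := (hs' _).1 h2
    apply (hs' s').2 ?_ rfl
    obtain ⟨y', hy', h'⟩ := orb P hc.horb (k⁻¹ * y) v
    refine ⟨⟨y', hy'⟩, ?_⟩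
    change _ - y' • v = d'
    rw [← h', mul_smul]
    apply smul_left_cancel k
    rw [smul_sub, smul_inv_smul, h, hk]
    exact hy
  set r : P := x₀ * t x₀⁻¹ with hr
  have hrd : (r : K) • d = -d := by
    have h2 := ht x₀⁻¹ (fun h => hx₀1 (inv_eq_one.1 h))
    rw [hr]
    push_cast
    rw [mul_smul, ← h2, smul_sub]
    push_cast
    rw [smul_inv_smul, hd]
    abel
  have hprop' : ∀ s : P, s ≠ r * s₀ ↔ ∃ y : P, (s : K) • v - (y : K) • v = -d := by
    intro s
    have e : s ≠ r * s₀ ↔ r⁻¹ * s ≠ s₀ := by rw [ne_eq, ne_eq, inv_mul_eq_iff_eq_mul]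
    rw [e, hprop]
    constructor
    · rintro ⟨y, hy⟩
      refine ⟨r * y, ?_⟩
      rw [← hrd, ← hy, smul_sub]; push_cast; rw [← mul_smul, ← mul_smul, mul_inv_cancel_left]
    · rintro ⟨y, hy⟩
      refine ⟨r⁻¹ * y, ?_⟩
      push_cast
      rw [mul_smul, mul_smul, ← smul_sub, hy, ← hrd, inv_smul_smul]
  have hv₀ : (s₀ : K) • v ≠ 0 := fun h => hv ((smul_eq_zero_iff_eq (s₀ : K)).1 h)
  have hKd : stabilizer K ((s₀ : K) • v) = stabilizer K d :=
    ((hc.coatom hP hd0).le_iff_eq (hc.coatom hP hv₀).1).1 fun k hk =>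
      mem_stabilizer_iff.2 (key d s₀ hprop k (mem_stabilizer_iff.1 hk))
  by_cases hr1 : r = 1
  · -- `d = -d`, hence `q = 2` and `K` has odd order
    have h2 : 2 • d = 0 := by
      rw [two_nsmul]
      nth_rewrite 2 [show d = -d by rw [← hrd, hr1]; simp]
      exact add_neg_cancel d
    have hq2 : q = 2 := by
      by_contra hne'
      exact hd0 (hc.eq_zero_of_smul ((Nat.coprime_primes Nat.prime_two hc.hq).2 (fun h => hne' h.symm)) h2)
    have hodd : ¬ 2 ∣ Nat.card K := by rw [← hq2]; exact hc.hK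
    obtain ⟨m, hm⟩ : Odd (Nat.card K) := by rw [← Nat.not_even_iff_odd, even_iff_two_dvd]; exact hodd
    obtain ⟨s, hs, h⟩ := hc.trans hP hv (inv_mem x₀.2) x₀.2 (fun h => hne hx₀1 (inv_eq_one.1 h)) (hne hx₀1)
    set k := s * (x₀ : K)⁻¹ with hk
    have e1 : k • v = (x₀ : K) • v := by rw [hk, mul_smul, h]
    have e2 : k • (x₀ : K) • v = v := by rw [hk, mul_smul, inv_smul_smul, mem_stabilizer_iff.1 hs]
    have e3 : k ^ 2 ∈ stabilizer K v := by
      rw [mem_stabilizer_iff, pow_two, mul_smul, e1, e2]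
    have e4 : k ^ (Nat.card K) = 1 := pow_card_eq_one'
    rw [hm, pow_succ, pow_mul] at e4
    have e5 : k ∈ stabilizer K v := by
      rw [← eq_inv_of_mul_eq_one_right e4 |>.symm]
      exact inv_mem (pow_mem e3 m)
    rw [mem_stabilizer_iff, e1] at e5
    exact hv (hc.free hP x₀.2 (hne hx₀1) e5)
  · -- `|P| = 2`
    have h3 : ∀ y : P, y ≠ 1 → y = r := by
      intro y hy
      obtain ⟨s, hs, h⟩ := hc.trans hP hv₀ r.2 y.2 (hne hr1) (hne hy)
      have h4 : s • d = d := by
        rw [hKd] at hs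
        exact hs
      have h5 := key (-d) (r * s₀) hprop' s (by rw [smul_neg, h4])
      push_cast at h5
      rw [mul_smul, h] at h5
      exact Subtype.ext (hc.inj hP hv₀ y.2 r.2 h5)
    have h4 : orbit K v ⊆ {v, (r : K) • v} := by
      rintro _ ⟨k, rfl⟩
      obtain ⟨x, hx, h⟩ := orb P hc.horb k v
      change k • v ∈ _
      rw [h]
      by_cases hx1 : x = 1
      · left; rw [hx1, one_smul]
      · right
        have := h3 ⟨x, hx⟩ (fun h => hx1 (congrArg Subtype.val h))
        rw [← this]; rfl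
    have h5 : (stabilizer K v).index ≤ 2 := by
      rw [index_stabilizer]
      exact (Set.ncard_le_ncard h4 (Set.toFinite _)).trans ((Set.ncard_insert_le _ _).trans (by rw [Set.ncard_singleton]))
    have h6 : (stabilizer K v).index ≠ 1 := fun h => (hc.coatom hP hv).1 (index_eq_one.1 h)
    have h7 : (stabilizer K v).index ≠ 0 := index_ne_zero_of_finite
    have h8 : (stabilizer K v).index = 2 := by omega
    haveI := normal_of_index_eq_two h8
    have h9 := hc.normal_bot hP (stabilizer K v) (hc.coatom hP hv).1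
    rw [h9, index_bot] at h8
    apply hc.hns
    haveI : Fact (Nat.Prime 2) := ⟨Nat.prime_two⟩
    haveI : IsCyclic K := isCyclic_of_prime_card h8
    haveI := IsCyclic.commGroup (α := K)
    exact (inferInstance : Group.IsSolvable K)

end cyclicCase

end Cfg

end Cfsg.Agent.H23.POrb
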