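import Cfsg.Statements.S0111
import Mathlib
import Cfsg.Agent.H19_Transfer

set_option autoImplicit false
open Cfsg

namespace Cfsg.Agent.S0111

open Subgroup Cfsg

/-- The Thompson transfer lemma states that an involution of a Sylow 2-subgroup P lying outside a subgroup Q of index 2 in P either lies outside some normal subgroup of index 2 in G or is conjugate to an element of Q. -/
theorem result {G : Type*} [Group G] [Finite G] (P : Sylow 2 G) (Q : Subgroup G) (hQP : Q ≤ (P : Subgroup G)) (hQi : Q.relIndex (P : Subgroup G) = 2) (u : G) (hu : orderOf u = 2) (huP : u ∈ (P : Subgroup G)) (huQ : u ∉ Q) : (∃ M : Subgroup G, M.Normal ∧ M.index = 2 ∧ u ∉ M) ∨ ∃ g : G, g * u * g⁻¹ ∈ Q := by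
  by_cases hcon : ∃ g : G, g * u * g⁻¹ ∈ Q
  · exact Or.inr hcon
  · left
    have h2 : Fact (Nat.Prime 2) := ⟨Nat.prime_two⟩
    push Not at hcon
    have hu1 : ∀ g : G, g⁻¹ * u * g ∉ Q := fun g h => hcon g⁻¹ (by rwa [inv_inv])
    apply Cfsg.Agent.H19.Transfer.thompson (H := (P : Subgroup G)) (M := Q) _ hQi u ⟨1, by rw [hu, pow_one]⟩
    · intro g _; exact hu1 g
    · intro g j _
      have : u ^ 2 ^ (j + 1) = 1 := by
        rw [pow_succ', pow_mul, ← hu, pow_orderOf_eq_one, one_pow]
      rw [this, mul_one, inv_mul_cancel]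
      exact one_mem _
    · rw [← Nat.not_even_iff_odd, even_iff_two_dvd]
      exact P.not_dvd_index

end Cfsg.Agent.S0111
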