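import Mathlib
import Cfsg.Agent.H23_POrb2
import Cfsg.Agent.H2_Ito
import Cfsg.Agent.H19_Rank1
import Cfsg.Agent.S0111
import Cfsg.Agent.H23_PQuat

/-! H23_POrb3: the case of 2-power orbits, and the theorem on p-power orbits. -/

set_option autoImplicit false
set_option linter.style.haveILetI false
set_option linter.unusedSectionVars false
set_option linter.deprecated false

namespace Cfsg.Agent.H23.POrb

open Subgroup MulAction Cfsg
open scoped commutatorElement

universe u v

theorem odd_geom {x : ℤ} (hx : Odd x) {n : ℕ} (hn : Odd n) : Odd (∑ i ∈ Finset.range n, x ^ i) := by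
  have h1 : ∀ m : ℕ, Even ((∑ i ∈ Finset.range m, x ^ i) - m) := by
    intro m
    induction m with
    | zero => simp
    | succ m ih =>
      rw [Finset.sum_range_succ]
      push_cast
      have : ∑ i ∈ Finset.range m, x ^ i + x ^ m - (m + 1) = (∑ i ∈ Finset.range m, x ^ i - m) + (x ^ m - 1) := by ring
      rw [this]
      exact ih.add (Odd.sub_odd (hx.pow) odd_one)
  have h2 := h1 n
  have h3 : Odd ((n : ℤ)) := by exact_mod_cast hn
  have : (∑ i ∈ Finset.range n, x ^ i) = ((∑ i ∈ Finset.range n, x ^ i) - n) + n := by ring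
  rw [this]
  exact h2.add_odd h3

theorem pow_dvd_of_odd {k : ℕ} {a b : ℤ} (h : (2 : ℤ) ^ k ∣ a * b) (hb : Odd b) : (2 : ℤ) ^ k ∣ a := by
  have : IsCoprime ((2 : ℤ) ^ k) b := by
    apply IsCoprime.pow_left
    rw [Int.isCoprime_iff_gcd_eq_one]
    have := Int.odd_iff.1 hb
    rw [Int.gcd_comm]
    have h2 : Int.gcd b 2 ∣ 2 := by
      have := Int.gcd_dvd_right b 2
      exact_mod_cast this
    rcases (Nat.dvd_prime Nat.prime_two).1 h2 with h3 | h3
    · exact h3
    · exfalso
      have h4 := Int.gcd_dvd_left b 2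
      rw [h3] at h4
      push_cast at h4
      omega
  exact this.dvd_of_dvd_mul_right h

theorem numth {q n i k : ℕ} (hq : q.Prime) (hq2 : q ≠ 2) (hi : 1 ≤ i) (hin : 2 * i ≤ n)
    (hdiv : (2 : ℤ) ^ (k + 1) ∣ (q : ℤ) ^ n - 1) (hle : (q : ℤ) ^ n - 1 ≤ 2 ^ k * ((q : ℤ) ^ i - 1)) : n = 2 := by
  have hq3 : 3 ≤ q := by
    have := hq.two_le
    omega
  have hqodd : Odd (q : ℤ) := by
    have := hq.odd_of_ne_two hq2
    exact_mod_cast this
  have hqz : (3 : ℤ) ≤ q := by exact_mod_cast hq3
  have hq1 : (1 : ℤ) ≤ q := by linarith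
  set w : ℤ := (q : ℤ) ^ i with hw
  have hwq : (q : ℤ) ≤ w := by
    calc (q : ℤ) = (q : ℤ) ^ 1 := (pow_one _).symm
      _ ≤ (q : ℤ) ^ i := pow_le_pow_right₀ hq1 hi
  have hww : w * w ≤ (q : ℤ) ^ n := by
    rw [hw, ← pow_add]
    exact pow_le_pow_right₀ hq1 (by omega)
  have hw2 : w + 1 ≤ 2 ^ k := by
    have h1 : (w - 1) * (w + 1) ≤ (w - 1) * 2 ^ k := by linarith
    exact le_of_mul_le_mul_left h1 (by linarith)
  rcases Nat.even_or_odd n with ⟨e, he⟩ | hodd
  · set s : ℤ := (q : ℤ) ^ e with hs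
    have hsodd : Odd s := hqodd.pow
    have hnn : (q : ℤ) ^ n = s * s := by rw [he, pow_add]
    have hws : w ≤ s := pow_le_pow_right₀ hq1 (by omega)
    have hs1 : s + 1 ≤ 2 ^ k := by
      have h1 : (s - 1) * (s + 1) ≤ (s - 1) * 2 ^ k := by
        have h2 : (2 : ℤ) ^ k * (w - 1) ≤ 2 ^ k * (s - 1) := by
          apply mul_le_mul_of_nonneg_left _ (by positivity)
          linarith
        nlinarith
      exact le_of_mul_le_mul_left h1 (by linarith)
    rw [hnn] at hdiv
    have hdiv' : (2 : ℤ) ^ (k + 1) ∣ (s - 1) * (s + 1) := by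
      have : (s - 1) * (s + 1) = s * s - 1 := by ring
      rwa [this]
    obtain ⟨t, ht⟩ := hsodd
    rcases Int.even_or_odd t with ⟨m, hm⟩ | ⟨m, hm⟩
    · -- s = 4m+1
      exfalso
      have h1 : (s - 1) * (s + 1) = 2 * ((s - 1) * (2 * m + 1)) := by rw [ht, hm]; ring
      rw [h1, pow_succ'] at hdiv'
      have h2 := Int.dvd_of_mul_dvd_mul_left (by norm_num) hdiv'
      have h3 := pow_dvd_of_odd h2 ⟨m, rfl⟩
      have h4 := Int.le_of_dvd (by linarith) h3
      linarith
    · -- s = 4m+3
      have h1 : (s - 1) * (s + 1) = 2 * ((s + 1) * (2 * m + 1)) := by rw [ht, hm]; ring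
      rw [h1, pow_succ'] at hdiv'
      have h2 := Int.dvd_of_mul_dvd_mul_left (by norm_num) hdiv'
      have h3 := pow_dvd_of_odd h2 ⟨m, rfl⟩
      have h4 := Int.le_of_dvd (by linarith) h3
      have h5 : s + 1 = 2 ^ k := by linarith
      rcases Nat.even_or_odd e with ⟨f, hf⟩ | heo
      · exfalso
        have h6 : s = (q : ℤ) ^ f * (q : ℤ) ^ f := by rw [hs, hf, pow_add]
        obtain ⟨c, hc⟩ : Odd ((q : ℤ) ^ f) := hqodd.pow
        rw [hc] at h6
        have h7 : s = 4 * (c * c + c) + 1 := by rw [h6]; ring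
        omega
      · have h6 := geom_sum_mul (-(q : ℤ)) e
        rw [heo.neg_pow, ← hs] at h6
        set g := ∑ i ∈ Finset.range e, (-(q : ℤ)) ^ i with hg
        have hgo : Odd g := odd_geom hqodd.neg heo
        have h7 : (q + 1 : ℤ) * g = 2 ^ k := by rw [← h5]; linarith
        have h8 : (2 : ℤ) ^ k ∣ q + 1 := pow_dvd_of_odd (by rw [h7]) hgo
        have h9 := Int.le_of_dvd (by linarith) h8
        rw [← h5] at h9
        have h10 : e = 1 := by
          by_contra hne
          have he1 : e ≠ 0 := by rintro rfl; simp at heo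
          have h11 : (q : ℤ) ^ 2 ≤ s := pow_le_pow_right₀ hq1 (by omega)
          nlinarith
        omega
  · exfalso
    have h6 := geom_sum_mul (q : ℤ) n
    set g := ∑ i ∈ Finset.range n, (q : ℤ) ^ i with hg
    have hgo : Odd g := odd_geom hqodd hodd
    have h8 : (2 : ℤ) ^ (k + 1) ∣ q - 1 := pow_dvd_of_odd (b := g) (by rw [mul_comm, h6]; exact hdiv) hgo
    have h9 := Int.le_of_dvd (by linarith) h8
    have h10 : (2 : ℤ) ^ (k + 1) = 2 * 2 ^ k := by ring
    have h11 : (0 : ℤ) < 2 ^ k := by positivity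
    linarith

variable {K : Type u} [Group K] [Finite K] {V : Type v} [AddCommGroup V] [Finite V] [DistribMulAction K V]
  {p : ℕ} [hp : Fact p.Prime]

namespace Cfg

variable {q : ℕ} (hc : Cfg p q K V)

include hc

theorem two_dim (hcard : Nat.card V = q ^ 2) {g : K} {v : V} (hv0 : v ≠ 0) (hv : g • v = v) : g = 1 := by
  classical
  haveI : Fact q.Prime := ⟨hc.hq⟩
  obtain ⟨_⟩ : Nonempty (Module (ZMod q) V) := ⟨AddCommGroup.zmodModule hc.hV⟩
  let ρ₀ : K → (V →ₗ[ZMod q] V) := fun k =>
    { toFun := fun x => k • x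
      map_add' := smul_add k
      map_smul' := fun c x => ZMod.map_smul (DistribMulAction.toAddMonoidHom V k) c x }
  let ρ : K →* Module.End (ZMod q) V :=
    { toFun := ρ₀
      map_one' := LinearMap.ext fun x => one_smul K x
      map_mul' := fun a b => LinearMap.ext fun x => by
        rw [Module.End.mul_apply]
        exact mul_smul a b x }
  have hρ : ∀ (k : K) (x : V), (ρ k : V →ₗ[ZMod q] V) x = k • x := fun k x => rfl
  have hdet : LinearMap.det (ρ g) = 1 := by
    have h1 := hc.perfC ((LinearMap.det.comp ρ).toHomUnits)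
    have h2 := DFunLike.congr_fun h1 g
    exact congrArg Units.val h2
  haveI : Module.Finite (ZMod q) V := Module.Finite.of_finite
  have hfr : Module.finrank (ZMod q) V = 2 := by
    have h1 := Module.natCard_eq_pow_finrank (K := ZMod q) (V := V)
    rw [hcard, Nat.card_zmod] at h1
    exact (Nat.pow_right_injective hc.hq.two_le h1).symm
  set f := (ρ g).charpoly with hf
  have hdeg : f.natDegree = 2 := by rw [hf, LinearMap.charpoly_natDegree, hfr]
  have hmon : f.Monic := LinearMap.charpoly_monic _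
  have hc2 : f.coeff 2 = 1 := by rw [← hdeg]; exact hmon.coeff_natDegree
  have hc0 : f.coeff 0 = 1 := by
    have h1 := LinearMap.det_eq_sign_charpoly_coeff (ρ g)
    rw [hdet, hfr] at h1
    simpa using h1.symm
  have hroot : f.IsRoot 1 := by
    rw [hf, ← Module.End.hasEigenvalue_iff_isRoot_charpoly]
    apply Module.End.hasEigenvalue_of_hasEigenvector (x := v)
    exact ⟨by rw [Module.End.mem_eigenspace_iff, hρ, hv, one_smul], hv0⟩
  have hc1 : f.coeff 1 = -2 := by
    rw [Polynomial.IsRoot, Polynomial.eval_eq_sum_range' (n := 3) (by omega)] at hroot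
    simp only [Finset.sum_range_succ, Finset.sum_range_zero, hc2, hc0, one_pow, mul_one, zero_add] at hroot
    linear_combination hroot
  have hCH := LinearMap.aeval_self_charpoly (ρ g)
  rw [← hf, Polynomial.aeval_eq_sum_range' (n := 3) (by omega)] at hCH
  simp only [Finset.sum_range_succ, Finset.sum_range_zero, hc2, hc0, hc1, zero_add, pow_zero, pow_one] at hCH
  have hN : ∀ x : V, g • (g • x - x) = g • x - x := by
    intro x
    have h1 := LinearMap.congr_fun hCH x
    simp only [LinearMap.add_apply, LinearMap.smul_apply, one_smul, pow_two, Module.End.mul_apply, Module.End.one_apply,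
      hρ, LinearMap.zero_apply, neg_smul, two_smul, LinearMap.neg_apply] at h1
    rw [smul_sub]
    have h2 : g • g • x = (x + -(g • x + g • x) + g • g • x) + (g • x + g • x) - x := by abel
    rw [h2, h1]
    abel
  have hpow : ∀ (m : ℕ) (x : V), g ^ m • x = x + m • (g • x - x) := by
    intro m x
    induction m with
    | zero => simp
    | succ m ih =>
      rw [pow_succ', mul_smul, ih, smul_add, smul_comm g m, hN, succ_nsmul]
      abel
  have hgq : g ^ q = 1 := hc.faith _ fun x => by rw [hpow, hc.hV, add_zero]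
  have h1 : orderOf g ∣ q := orderOf_dvd_of_pow_eq_one hgq
  rcases (Nat.dvd_prime hc.hq).1 h1 with h2 | h2
  · exact orderOf_eq_one_iff.1 h2
  · exfalso
    apply hc.hK
    rw [← h2]
    exact orderOf_dvd_natCard g


theorem ext_smul {a b : K} (h : ∀ v : V, a • v = b • v) : a = b :=
  inv_mul_eq_one.1 (hc.faith (a⁻¹ * b) (fun v => by rw [mul_smul, ← h v, inv_smul_smul]))

theorem no_index_two (M : Subgroup K) [M.Normal] (h : M.index = 2) : False := by
  haveI : Fact (Nat.Prime 2) := ⟨Nat.prime_two⟩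
  have h1 : Nat.card (K ⧸ M) = 2 := by rw [← Subgroup.index_eq_card, h]
  haveI : IsCyclic (K ⧸ M) := isCyclic_of_prime_card h1
  have h2 : Group.IsSolvable (K ⧸ M) := by
    letI := IsCyclic.commGroup (α := K ⧸ M)
    exact (inferInstance : Group.IsSolvable (K ⧸ M))
  have h3 := hc.perf M h2
  rw [h3, index_top] at h
  omega

theorem card_pow (W : AddSubgroup V) : ∃ i, Nat.card W = q ^ i := by
  haveI : Fact q.Prime := ⟨hc.hq⟩
  have h1 : IsPGroup q (Multiplicative W) := by
    intro x
    refine ⟨1, ?_⟩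
    rw [pow_one]
    have h2 : q • (Multiplicative.toAdd x) = 0 := Subtype.ext (by
      push_cast
      exact hc.hV _)
    exact Multiplicative.toAdd.injective (by rw [toAdd_pow, h2]; rfl)
  obtain ⟨i, hi⟩ := (IsPGroup.iff_card (G := Multiplicative W)).1 h1
  exact ⟨i, hi⟩

end Cfg

theorem card_dvd_of_free {P : Type*} [Group P] [Finite P] {α : Type*} [Finite α] [MulAction P α]
    (h : ∀ (x : P) (a : α), x • a = a → x = 1) : Nat.card P ∣ Nat.card α := by
  have h1 : ∀ a : α, stabilizer P a = ⊥ := fun a => by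
    rw [eq_bot_iff]
    intro x hx
    exact mem_bot.2 (h x a (mem_stabilizer_iff.1 hx))
  rw [Nat.card_congr (selfEquivOrbitsQuotientProd h1), Nat.card_prod]
  exact dvd_mul_left _ _

namespace Cfg

set_option maxHeartbeats 1000000 in
theorem two_false {q : ℕ} (hc : Cfg 2 q K V) : False := by
  classical
  haveI : Fact (Nat.Prime 2) := ⟨Nat.prime_two⟩
  haveI := Fintype.ofFinite V
  haveI := Fintype.ofFinite K
  obtain ⟨A, g, r, hA, hgA, hr, hr2, ⟨k₀, hk₀⟩, hgc⟩ := H2.Ito.exists_bad (G := K) (p := 2) (fun h => hc.not_npc h)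
  haveI : Fact r.Prime := ⟨hr⟩
  obtain ⟨P, hAP⟩ := hA.exists_le_sylow
  have hP : ¬ IsCyclic P := fun h => hc.cyclic_false h
  obtain ⟨u, huA, hug⟩ : ∃ u ∈ A, u * g ≠ g * u := by
    by_contra hcon
    push Not at hcon
    exact hgc (mem_centralizer_iff.2 hcon)
  obtain ⟨C, hCc, hCi, -, hC4⟩ := (H19.Rank1.cyclic_or_index_two P.2 (fun A hA hAc => hc.cyc P A hA hAc)).resolve_left hP
  haveI hCn : C.Normal := normal_of_index_eq_two hCi
  haveI := Fintype.ofFinite C
  obtain ⟨m, hm⟩ := IsPGroup.iff_card.1 (P.2.to_subgroup C)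
  have hm0 : m ≠ 0 := by rintro rfl; rw [hm] at hC4; norm_num at hC4
  obtain ⟨z', hz'⟩ := exists_prime_orderOf_dvd_card' (G := C) 2 (by rw [hm]; exact dvd_pow_self _ hm0)
  set z : P := z'.1 with hz
  have hz1 : z ≠ 1 := by
    intro h
    have : z' = 1 := Subtype.ext h
    rw [this, orderOf_one] at hz'
    omega
  have hzz : z ^ 2 = 1 := by
    have : z' ^ 2 = 1 := by
      have h := pow_orderOf_eq_one z'
      rwa [hz'] at h
    exact congrArg Subtype.val this
  have huniq : ∀ a : P, a ∈ C → a ^ 2 = 1 → a ≠ 1 → a = z := by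
    intro a ha ha2 ha1
    by_contra hne
    have h1 : (Finset.univ.filter (fun a : C => a ^ 2 = 1)).card ≤ 2 := IsCyclic.card_pow_eq_one_le (by norm_num)
    have h2 : ({1, z', ⟨a, ha⟩} : Finset C) ⊆ Finset.univ.filter (fun a : C => a ^ 2 = 1) := by
      intro x hx
      simp only [Finset.mem_insert, Finset.mem_singleton] at hx
      rw [Finset.mem_filter]
      refine ⟨Finset.mem_univ _, ?_⟩
      rcases hx with rfl | rfl | rfl
      · exact one_pow _
      · exact Subtype.ext hzz
      · exact Subtype.ext ha2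
    have h3 : ({1, z', ⟨a, ha⟩} : Finset C).card = 3 := by
      apply Finset.card_eq_three.2
      refine ⟨1, z', ⟨a, ha⟩, ?_, ?_, ?_, rfl⟩
      · intro h; exact hz1 (congrArg Subtype.val h).symm
      · intro h; exact ha1 (congrArg Subtype.val h).symm
      · intro h; exact hne (congrArg Subtype.val h).symm
    have h4 := Finset.card_le_card h2
    omega
  have hzcen : ∀ x : P, z * x = x * z := by
    intro x
    have h1 : x * z * x⁻¹ = z := by
      apply huniq
      · exact hCn.conj_mem _ z'.2 _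
      · rw [conj_pow, hzz, mul_one, mul_inv_cancel]
      · intro h
        apply hz1
        rw [mul_inv_eq_one, mul_eq_left] at h
        exact h
    rw [mul_inv_eq_iff_eq_mul] at h1
    exact h1.symm
  have hzK : ∀ y ∈ (P : Subgroup K), (z : K) * y = y * z := fun y hy => congrArg Subtype.val (hzcen ⟨y, hy⟩)
  have hzK1 : (z : K) ≠ 1 := fun h => hz1 (Subtype.ext h)
  have hzneg : ∀ v : V, (z : K) • v = -v := by
    intro v
    have h1 : (z : K) • (v + (z : K) • v) = v + (z : K) • v := by
      have h2 : (z : K) * z = 1 := by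
        have := congrArg Subtype.val hzz
        rw [pow_two] at this
        exact this
      rw [smul_add, ← mul_smul, h2, one_smul, add_comm]
    have h2 := hc.fpf P hzK hzK1 h1
    exact (neg_eq_of_add_eq_zero_right h2).symm
  have hzc : ∀ k : K, k * z = z * k := by
    intro k
    apply hc.ext_smul
    intro v
    rw [mul_smul, mul_smul, hzneg, hzneg, smul_neg]
  have hq2 : Nat.Coprime 2 q := (Nat.coprime_primes Nat.prime_two hc.hq).2 (fun h => hc.hqp h.symm)
  have hneg : ∀ v : V, -v = v → v = 0 := by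
    intro v hv
    apply hc.eq_zero_of_smul hq2
    rw [two_nsmul]
    nth_rewrite 1 [← hv]
    exact neg_add_cancel v
  -- the unique involution
  have hinv : ∀ a : P, a ^ 2 = 1 → a ≠ 1 → a = z := by
    intro a ha ha1
    by_cases haC : a ∈ C
    · exact huniq a haC ha ha1
    · exfalso
      have hord : orderOf (a : K) = 2 := orderOf_eq_prime (congrArg Subtype.val ha) (fun h => ha1 (Subtype.ext h))
      have hrel : (C.map (P : Subgroup K).subtype).relIndex (P : Subgroup K) = 2 := by
        rw [H12.Core.relIndex_map_subtype_self]; exact hCi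
      have hnC : (a : K) ∉ C.map (P : Subgroup K).subtype := by
        rintro ⟨b, hb, hab⟩
        apply haC
        have : b = a := Subtype.ext hab
        rwa [← this]
      rcases S0111.result P (C.map (P : Subgroup K).subtype) (map_subtype_le _) hrel (a : K) hord a.2 hnC with
        ⟨M, hM, hMi, -⟩ | ⟨g', hg'⟩
      · haveI := hM
        exact hc.no_index_two M hMi
      · obtain ⟨b, hb, hab⟩ := hg'
        have hb2 : b ^ 2 = 1 := by
          apply Subtype.ext
          change (b : K) ^ 2 = 1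
          have : (b : K) = g' * a * g'⁻¹ := hab
          rw [this, conj_pow, ← Subgroup.coe_pow, ha]
          simp
        have hb1 : b ≠ 1 := by
          rintro rfl
          apply ha1
          apply Subtype.ext
          change (1 : K) = g' * a * g'⁻¹ at hab
          have := hab.symm
          rw [mul_inv_eq_one, mul_eq_left] at this
          exact this
        have h1 := huniq b hb hb2 hb1
        have h2 : (a : K) = z := by
          have h3 : (b : K) = g' * a * g'⁻¹ := hab
          rw [h1] at h3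
          have h4 : (a : K) = g'⁻¹ * z * g' := by rw [h3]; group
          rw [h4, mul_assoc, ← hzc g', inv_mul_cancel_left]
        apply haC
        rw [Subtype.ext h2]
        exact z'.2
  have hfree : ∀ {x : K}, x ∈ (P : Subgroup K) → x ≠ 1 → ∀ {v : V}, x • v = v → v = 0 := by
    intro x hx hx1 v hv
    obtain ⟨n, hn⟩ := IsPGroup.iff_orderOf.1 P.2 ⟨x, hx⟩
    have hn0 : n ≠ 0 := by
      rintro rfl
      rw [pow_zero, orderOf_eq_one_iff] at hn
      exact hx1 (congrArg Subtype.val hn)
    obtain ⟨l, rfl⟩ := Nat.exists_eq_succ_of_ne_zero hn0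
    have h1 : ((⟨x, hx⟩ : P) ^ (2 ^ l)) ^ 2 = 1 := by
      have h := pow_orderOf_eq_one (⟨x, hx⟩ : P)
      rw [hn] at h
      rw [← pow_mul, ← pow_succ]
      exact h
    have h2 : ((⟨x, hx⟩ : P) ^ (2 ^ l)) ≠ 1 := by
      intro h
      have h3 := orderOf_dvd_of_pow_eq_one h
      rw [hn] at h3
      have := (Nat.pow_dvd_pow_iff_le_right (by norm_num : 1 < 2)).1 h3
      omega
    have h3 := congrArg Subtype.val (hinv _ h1 h2)
    have h4 : x ^ (2 ^ l) = (z : K) := h3
    have h5 : ∀ j : ℕ, x ^ j • v = v := by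
      intro j
      induction j with
      | zero => rw [pow_zero, one_smul]
      | succ j ih => rw [pow_succ, mul_smul, hv, ih]
    have h6 := h5 (2 ^ l)
    rw [h4, hzneg] at h6
    exact hneg v h6
  -- the subgroup R
  obtain ⟨R, hR⟩ : ∃ R : Sylow r K, g ∈ (R : Subgroup K) := by
    have h1 : IsPGroup r (zpowers g) := by
      rintro ⟨_, ⟨i, rfl⟩⟩
      refine ⟨k₀, Subtype.ext ?_⟩
      change (g ^ i) ^ (r ^ k₀) = 1
      rw [← zpow_natCast, ← zpow_mul, mul_comm, zpow_mul, zpow_natCast, hk₀, one_zpow]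
    obtain ⟨R, hR⟩ := h1.exists_le_sylow
    exact ⟨R, hR (mem_zpowers g)⟩
  let W : AddSubgroup V :=
    { carrier := {v | ∀ x ∈ (R : Subgroup K), x • v = v}
      zero_mem' := fun x _ => smul_zero x
      add_mem' := by
        intro a b ha hb x hx
        rw [smul_add, ha x hx, hb x hx]
      neg_mem' := by
        intro a ha x hx
        rw [smul_neg, ha x hx] }
  let Wg : AddSubgroup V :=
    { carrier := {v | g • v = v}
      zero_mem' := smul_zero g
      add_mem' := by
        intro a b ha hb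
        change g • (a + b) = a + b
        rw [smul_add, ha, hb]
      neg_mem' := by
        intro a ha
        change g • (-a) = -a
        rw [smul_neg, ha] }
  have hWg : W ≤ Wg := fun v hv => hv g hR
  have hgv : ∀ {v : V}, v ∈ Wg → g • v = v := fun hv => hv
  -- `|Wg| ^ 2 ≤ |V|`
  have hsq : Nat.card Wg * Nat.card Wg ≤ Nat.card V := by
    rw [← Nat.card_prod]
    apply Nat.card_le_card_of_injective (fun ab : Wg × Wg => (ab.1 : V) + u • (ab.2 : V))
    rintro ⟨a, b⟩ ⟨a', b'⟩ h
    change (a : V) + u • (b : V) = a' + u • (b' : V) at h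
    have h1 : (a : V) - a' = u • ((b' : V) - b) := by
      rw [smul_sub, sub_eq_sub_iff_add_eq_add, h]; abel
    set d := (a : V) - a' with hd
    have hd1 : g • d = d := hgv (Wg.sub_mem a.2 a'.2)
    have hd2 : g • (u⁻¹ • d) = u⁻¹ • d := by
      rw [h1, inv_smul_smul]
      exact hgv (Wg.sub_mem b'.2 b.2)
    have hd3 : (u * (g * u⁻¹ * g⁻¹)) • d = d := by
      have e1 : g⁻¹ • d = d := by rw [inv_smul_eq_iff]; exact hd1.symm
      rw [mul_smul, mul_smul, mul_smul, e1, hd2, smul_inv_smul]
    have hmem : u * (g * u⁻¹ * g⁻¹) ∈ (P : Subgroup K) :=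
      hAP (A.mul_mem huA ((mem_normalizer_iff.1 hgA _).1 (A.inv_mem huA)))
    have hne : u * (g * u⁻¹ * g⁻¹) ≠ 1 := by
      intro h2
      apply hug
      have : u * g * u⁻¹ * g⁻¹ = 1 := by rw [← h2]; group
      rw [mul_inv_eq_one, mul_inv_eq_iff_eq_mul] at this
      exact this
    have hd0 : d = 0 := hfree hmem hne hd3
    have h4 : (a : V) = a' := sub_eq_zero.1 hd0
    rw [hd0] at h1
    have h5 : (b' : V) - b = 0 := (smul_eq_zero_iff_eq u).1 h1.symm
    exact Prod.ext (Subtype.ext h4) (Subtype.ext (sub_eq_zero.1 h5).symm)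
  -- every orbit meets `W`
  have hmeet : ∀ v : V, ∃ x ∈ (P : Subgroup K), x • v ∈ W := by
    intro v
    obtain ⟨a, ha⟩ := hc.horb v
    have h1 : ¬ r ∣ Nat.card (orbit K v) := by
      have h2 : Nat.card (orbit K v) = 2 ^ a := by
        rw [← ha, index_stabilizer]; rfl
      rw [h2]
      intro h
      exact hr2 ((Nat.prime_dvd_prime_iff_eq hr Nat.prime_two).1 (hr.dvd_of_dvd_pow h))
    obtain ⟨⟨w, ⟨k, hk⟩⟩, hw⟩ := R.2.nonempty_fixed_point_of_prime_not_dvd_card (orbit K v) h1
    obtain ⟨x, hx, h⟩ := orb P hc.horb k v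
    refine ⟨x, hx, ?_⟩
    rw [← h]
    intro y hy
    have h3 := congrArg Subtype.val (hw ⟨y, hy⟩)
    change k • v = w at hk
    rw [hk]
    exact h3
  obtain ⟨n, hn⟩ : ∃ n, Nat.card V = q ^ n := by
    obtain ⟨n, hn⟩ := hc.card_pow ⊤
    exact ⟨n, by rw [← hn]; exact (AddSubgroup.card_top).symm⟩
  obtain ⟨i, hi⟩ := hc.card_pow W
  obtain ⟨v₁, hv₁⟩ := @_root_.exists_ne V hc.hnt 0
  obtain ⟨x₁, hx₁, hw₁⟩ := hmeet v₁
  have hw₁0 : x₁ • v₁ ≠ 0 := fun h => hv₁ ((smul_eq_zero_iff_eq x₁).1 h)
  have hi1 : 1 ≤ i := by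
    rcases Nat.eq_zero_or_pos i with rfl | h
    · exfalso
      rw [pow_zero] at hi
      have := AddSubgroup.card_eq_one.1 hi
      rw [this, AddSubgroup.mem_bot] at hw₁
      exact hw₁0 hw₁
    · exact h
  have hin : 2 * i ≤ n := by
    have h1 : Nat.card W ≤ Nat.card Wg := Nat.card_le_card_of_injective (AddSubgroup.inclusion hWg) (AddSubgroup.inclusion_injective hWg)
    have h2 : q ^ (2 * i) ≤ q ^ n := by
      rw [two_mul, pow_add, ← hi, ← hn]
      exact (Nat.mul_le_mul h1 h1).trans hsq
    exact (Nat.pow_le_pow_iff_right hc.hq.one_lt).1 h2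
  obtain ⟨k', hk'⟩ := IsPGroup.iff_card.1 P.2
  obtain ⟨k, rfl⟩ : ∃ k, k' = k + 1 := by
    rcases Nat.eq_zero_or_pos k' with rfl | h
    · exfalso
      rw [pow_zero] at hk'
      exact hc.P_ne P (Subgroup.card_eq_one.1 hk')
    · exact ⟨k' - 1, by omega⟩
  -- divisibility
  have hdvd : 2 ^ (k + 1) ∣ q ^ n - 1 := by
    letI : MulAction P {v : V // v ≠ 0} :=
      { smul := fun x v => ⟨(x : K) • v.1, fun h => v.2 ((smul_eq_zero_iff_eq (x : K)).1 h)⟩
        one_smul := fun v => Subtype.ext (one_smul K v.1)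
        mul_smul := fun x y v => Subtype.ext (mul_smul (x : K) (y : K) v.1) }
    have h1 : Nat.card P ∣ Nat.card {v : V // v ≠ 0} := by
      apply card_dvd_of_free
      intro x v hxv
      by_contra hx1
      exact v.2 (hfree x.2 (fun h => hx1 (Subtype.ext h)) (congrArg Subtype.val hxv))
    have h2 : Nat.card {v : V // v ≠ 0} = q ^ n - 1 := by
      rw [← hn, Nat.card_eq_fintype_card, Nat.card_eq_fintype_card, Fintype.card_subtype_compl]
      simp
    rwa [h2, hk'] at h1
  -- counting
  have hcount : 2 * (q ^ n - 1) ≤ (q ^ i - 1) * 2 ^ (k + 1) := by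
    haveI := Fintype.ofFinite (P : Subgroup K)
    let Wf : Finset V := Finset.univ.filter (fun w => w ∈ W)
    have hWf : Wf.card = q ^ i := by
      rw [← hi, Nat.card_eq_fintype_card, Fintype.card_subtype]
    have h0 : (0 : V) ∈ Wf := Finset.mem_filter.2 ⟨Finset.mem_univ _, W.zero_mem⟩
    have h1 := Finset.mul_card_image_le_card_of_maps_to (f := fun wx : V × (P : Subgroup K) => (wx.2 : K) • wx.1)
      (s := (Wf.erase 0) ×ˢ (Finset.univ : Finset (P : Subgroup K))) (t := Finset.univ.erase (0 : V)) (by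
        rintro ⟨w, x⟩ hwx
        rw [Finset.mem_product, Finset.mem_erase] at hwx
        rw [Finset.mem_erase]
        exact ⟨fun h => hwx.1.1 ((smul_eq_zero_iff_eq (x : K)).1 h), Finset.mem_univ _⟩) 2 (by
        intro b hb
        rw [Finset.mem_erase] at hb
        obtain ⟨x, hx, hxb⟩ := hmeet b
        set w := x • b with hw
        have hw0 : w ≠ 0 := fun h => hb.1 ((smul_eq_zero_iff_eq x).1 h)
        have hb' : x⁻¹ • w = b := by rw [hw, inv_smul_smul]
        have h2 : ({(w, ⟨x⁻¹, inv_mem hx⟩), (-w, ⟨x⁻¹ * z, mul_mem (inv_mem hx) z.2⟩)} : Finset (V × (P : Subgroup K))) ⊆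
            Finset.filter (fun a => (a.2 : K) • a.1 = b) ((Wf.erase 0) ×ˢ (Finset.univ : Finset (P : Subgroup K))) := by
          intro y hy
          rw [Finset.mem_insert, Finset.mem_singleton] at hy
          rw [Finset.mem_filter, Finset.mem_product, Finset.mem_erase, Finset.mem_filter]
          rcases hy with rfl | rfl
          · exact ⟨⟨⟨hw0, Finset.mem_univ _, hxb⟩, Finset.mem_univ _⟩, hb'⟩
          · refine ⟨⟨⟨neg_ne_zero.2 hw0, Finset.mem_univ _, W.neg_mem hxb⟩, Finset.mem_univ _⟩, ?_⟩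
            change (x⁻¹ * (z : K)) • (-w) = b
            rw [mul_smul, hzneg, neg_neg, hb']
        have h3 := Finset.card_le_card h2
        rwa [Finset.card_pair] at h3
        intro h
        exact hw0 (hneg w (congrArg Prod.fst h).symm))
    rw [Finset.card_product, Finset.card_erase_of_mem h0, Finset.card_erase_of_mem (Finset.mem_univ _), hWf,
      Finset.card_univ, Finset.card_univ, ← Nat.card_eq_fintype_card, ← Nat.card_eq_fintype_card, hn] at h1
    rw [← hk']
    exact h1
  have hqn : 1 ≤ q ^ n := Nat.one_le_pow _ _ hc.hq.pos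
  have hqi : 1 ≤ q ^ i := Nat.one_le_pow _ _ hc.hq.pos
  have hn2 : n = 2 := by
    refine numth hc.hq hc.hqp hi1 hin (k := k) ?_ ?_
    · have := Int.natCast_dvd_natCast.2 hdvd
      push_cast [hqn] at this
      exact this
    · have h1 : (2 : ℤ) * ((q : ℤ) ^ n - 1) ≤ ((q : ℤ) ^ i - 1) * 2 ^ (k + 1) := by
        have := Int.ofNat_le.2 hcount
        push_cast [hqn, hqi] at this
        exact this
      rw [pow_succ] at h1
      linarith
  rw [hn2] at hn
  apply hug
  rw [hc.two_dim hn hw₁0 (hgv (hWg hw₁)), one_mul, mul_one]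

end Cfg

end Cfsg.Agent.H23.POrb
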