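import Mathlib
import Cfsg.Agent.H23_POrb3

/-! H23_POrb4: a group acting coprimely on an abelian `q`-group with all orbits of `p`-power size, `p ≠ q`, induces a
solvable group. -/

set_option autoImplicit false
set_option linter.style.haveILetI false
set_option linter.unusedSectionVars false
set_option linter.deprecated false

namespace Cfsg.Agent.H23.POrb

open Subgroup MulAction Cfsg
open scoped commutatorElement

universe u v

/-- the induction statement -/
def Good (p q n : ℕ) : Prop :=
  ∀ (K : Type u) [Group K] [Finite K] (V : Type v) [AddCommGroup V] [Finite V] [DistribMulAction K V],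
    Nat.card K + Nat.card V = n → (∀ k : K, (∀ v : V, k • v = v) → k = 1) →
    (∀ v : V, ∃ a, (stabilizer K v).index = p ^ a) → (∃ m, Nat.card V = q ^ m) → ¬ q ∣ Nat.card K → Group.IsSolvable K

theorem nonfaith {p q n : ℕ} (IH : ∀ m < n, Good.{u, v} p q m) (K : Type u) [Group K] [Finite K] (V : Type v)
    [AddCommGroup V] [Finite V] [DistribMulAction K V] (hn : Nat.card K + Nat.card V < n)
    (horb : ∀ v : V, ∃ a, (stabilizer K v).index = p ^ a) (hV : ∃ m, Nat.card V = q ^ m) (hK : ¬ q ∣ Nat.card K) :
    ∃ (N : Subgroup K) (_ : N.Normal), (∀ k ∈ N, ∀ v : V, k • v = v) ∧ Group.IsSolvable (K ⧸ N) := by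
  let f : K →* AddMonoid.End V := DistribMulAction.toAddMonoidEnd K V
  have hf : ∀ (k : K) (v : V), f k v = k • v := fun k v => rfl
  refine ⟨f.ker, inferInstance, ?_, ?_⟩
  · intro k hk v
    rw [← hf, (MonoidHom.mem_ker).1 hk]
    rfl
  · let g : K ⧸ f.ker →* AddMonoid.End V := QuotientGroup.lift f.ker f le_rfl
    have hgk : ∀ k : K, g (k : K ⧸ f.ker) = f k := fun k => QuotientGroup.lift_mk' f.ker le_rfl k
    letI : DistribMulAction (K ⧸ f.ker) V :=
      { smul := fun k v => g k v
        one_smul := fun v => by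
          change g 1 v = v
          rw [map_one]; rfl
        mul_smul := fun a b v => by
          change g (a * b) v = g a (g b v)
          rw [map_mul]; rfl
        smul_zero := fun k => map_zero (g k)
        smul_add := fun k a b => map_add (g k) a b }
    have hg : ∀ (k : K) (v : V), ((k : K ⧸ f.ker) • v : V) = k • v := fun k v => by
      change g (k : K ⧸ f.ker) v = k • v
      rw [hgk, hf]
    have hcard : Nat.card (K ⧸ f.ker) ∣ Nat.card K := card_quotient_dvd_card _
    refine IH (Nat.card (K ⧸ f.ker) + Nat.card V) ?_ (K ⧸ f.ker) V rfl ?_ ?_ hV (fun h => hK (h.trans hcard))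
    · have := Nat.le_of_dvd Nat.card_pos hcard
      omega
    · intro k hk
      obtain ⟨k, rfl⟩ := QuotientGroup.mk_surjective k
      rw [QuotientGroup.eq_one_iff, MonoidHom.mem_ker]
      ext v
      change f k v = v
      rw [hf, ← hg]
      exact hk v
    · intro v
      obtain ⟨a, ha⟩ := horb v
      refine ⟨a, ?_⟩
      rw [← ha, ← index_comap_of_surjective (stabilizer (K ⧸ f.ker) v) (QuotientGroup.mk'_surjective f.ker)]
      congr 1

theorem eq_one_of_unip {q : ℕ} (hq : q.Prime) {K : Type u} [Group K] [Finite K] {V : Type v}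
    [AddCommGroup V] [Finite V] [DistribMulAction K V] (faith : ∀ k : K, (∀ v : V, k • v = v) → k = 1)
    (hV : ∃ m, Nat.card V = q ^ m) (hK : ¬ q ∣ Nat.card K) {k : K} (hk : ∀ v : V, k • (k • v - v) = k • v - v) : k = 1 := by
  obtain ⟨e, he⟩ := hV
  have hpow : ∀ (m : ℕ) (x : V), k ^ m • x = x + m • (k • x - x) := by
    intro m x
    induction m with
    | zero => simp
    | succ m ih =>
      rw [pow_succ', mul_smul, ih, smul_add, smul_comm k m, hk, succ_nsmul]
      abel
  have h1 : k ^ (q ^ e) = 1 := by
    apply faith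
    intro v
    rw [hpow, ← he, card_nsmul_eq_zero', add_zero]
  have h2 : orderOf k ∣ q ^ e := orderOf_dvd_of_pow_eq_one h1
  have h3 : orderOf k ∣ Nat.card K := orderOf_dvd_natCard k
  have h4 : (q ^ e).Coprime (Nat.card K) := (Nat.Coprime.pow_left e ((hq.coprime_iff_not_dvd).2 hK))
  exact orderOf_eq_one_iff.1 (Nat.eq_one_of_dvd_coprimes h4 h2 h3)

set_option maxHeartbeats 1000000 in
theorem good {p q : ℕ} [hp : Fact p.Prime] (hq : q.Prime) (hqp : q ≠ p) : ∀ n : ℕ, Good.{u, v} p q n := by
  intro n
  induction n using Nat.strong_induction_on with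
  | _ n IH =>
  intro K _ _ V _ _ _ hn faith horb hV hK
  by_contra hns
  have hnt : Nontrivial V := by
    by_contra hcon
    rw [not_nontrivial_iff_subsingleton] at hcon
    apply hns
    have : Subsingleton K := ⟨fun a b => by
      rw [faith a (fun v => Subsingleton.elim _ _), faith b (fun v => Subsingleton.elim _ _)]⟩
    infer_instance
  have hsol : ∀ N : Subgroup K, N.Normal → N ≠ ⊤ → Group.IsSolvable N := by
    intro N hN hNt
    refine IH (Nat.card N + Nat.card V) ?_ N V rfl ?_ ?_ hV ?_
    · have h1 : Nat.card N < Nat.card K := by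
        refine lt_of_le_of_ne (card_le_card_group N) ?_
        intro h
        exact hNt ((card_eq_iff_eq_top N).1 h)
      omega
    · intro k hk
      exact Subtype.ext (faith k hk)
    · intro v
      obtain ⟨a, ha⟩ := horb v
      have h1 : (stabilizer K v).relIndex N ∣ p ^ a := by
        rw [← ha]; exact H2.Card.relIndex_dvd_index_of_normal_right _ _
      obtain ⟨b, -, hb⟩ := (Nat.dvd_prime_pow hp.out).1 h1
      exact ⟨b, hb⟩
    · intro h
      exact hK (h.trans (card_subgroup_dvd_card N))
  have hirr : ∀ U : AddSubgroup V, (∀ k : K, ∀ u ∈ U, k • u ∈ U) → U = ⊥ ∨ U = ⊤ := by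
    intro U hU
    by_contra hcon
    push Not at hcon
    obtain ⟨hU0, hU1⟩ := hcon
    have hcardmul := AddSubgroup.card_mul_index U
    have hindex : U.index = Nat.card (V ⧸ U) := rfl
    have hUpos : 1 < Nat.card U := by
      have h1 : Nat.card U ≠ 1 := fun h => hU0 (AddSubgroup.card_eq_one.1 h)
      have h2 : 0 < Nat.card U := Nat.card_pos
      omega
    have hQpos : 1 < Nat.card (V ⧸ U) := by
      have h1 : U.index ≠ 1 := fun h => hU1 (AddSubgroup.index_eq_one.1 h)
      have h2 : 0 < Nat.card (V ⧸ U) := Nat.card_pos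
      omega
    rw [hindex] at hcardmul
    obtain ⟨e, he⟩ := hV
    have hUcard : ∃ m, Nat.card U = q ^ m := by
      have h1 : Nat.card U ∣ q ^ e := by rw [← he, ← hcardmul]; exact dvd_mul_right _ _
      obtain ⟨m, -, hm⟩ := (Nat.dvd_prime_pow hq).1 h1
      exact ⟨m, hm⟩
    have hQcard : ∃ m, Nat.card (V ⧸ U) = q ^ m := by
      have h1 : Nat.card (V ⧸ U) ∣ q ^ e := by rw [← he, ← hcardmul]; exact dvd_mul_left _ _
      obtain ⟨m, -, hm⟩ := (Nat.dvd_prime_pow hq).1 h1
      exact ⟨m, hm⟩
    -- action on U
    letI iU : DistribMulAction K U :=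
      { smul := fun k u => ⟨k • u.1, hU k u.1 u.2⟩
        one_smul := fun u => Subtype.ext (one_smul K u.1)
        mul_smul := fun a b u => Subtype.ext (mul_smul a b u.1)
        smul_zero := fun k => Subtype.ext (smul_zero k)
        smul_add := fun k a b => Subtype.ext (smul_add k a.1 b.1) }
    obtain ⟨N₁, hN₁, hN₁t, hN₁s⟩ := nonfaith IH K U (by nlinarith) (by
      intro u
      obtain ⟨a, ha⟩ := horb u.1
      refine ⟨a, ?_⟩
      rw [← ha]
      congr 1
      ext k
      rw [mem_stabilizer_iff, mem_stabilizer_iff]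
      exact ⟨fun h => congrArg Subtype.val h, fun h => Subtype.ext h⟩) hUcard hK
    -- action on V ⧸ U
    have hmap : ∀ k : K, U ≤ AddSubgroup.comap (DistribMulAction.toAddMonoidHom V k) U := fun k u hu => hU k u hu
    letI iQ : DistribMulAction K (V ⧸ U) :=
      { smul := fun k => QuotientAddGroup.map U U (DistribMulAction.toAddMonoidHom V k) (hmap k)
        one_smul := by
          intro x
          obtain ⟨v, rfl⟩ := QuotientAddGroup.mk_surjective x
          exact congrArg _ (one_smul K v)
        mul_smul := by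
          intro a b x
          obtain ⟨v, rfl⟩ := QuotientAddGroup.mk_surjective x
          exact congrArg _ (mul_smul a b v)
        smul_zero := fun k => map_zero _
        smul_add := fun k a b => map_add _ a b }
    have hmk : ∀ (k : K) (v : V), k • (v : V ⧸ U) = ((k • v : V) : V ⧸ U) := fun k v => rfl
    obtain ⟨N₂, hN₂, hN₂t, hN₂s⟩ := nonfaith IH K (V ⧸ U) (by nlinarith) (by
      intro x
      obtain ⟨v, rfl⟩ := QuotientAddGroup.mk_surjective x
      obtain ⟨a, ha⟩ := horb v
      have h1 : stabilizer K v ≤ stabilizer K (v : V ⧸ U) := by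
        intro k hk
        rw [mem_stabilizer_iff] at hk ⊢
        rw [hmk, hk]
      have h2 := index_dvd_of_le h1
      rw [ha] at h2
      obtain ⟨b, -, hb⟩ := (Nat.dvd_prime_pow hp.out).1 h2
      exact ⟨b, hb⟩) hQcard hK
    apply hns
    haveI := hN₁; haveI := hN₂; haveI := hN₁s; haveI := hN₂s
    have hinj : Function.Injective ((QuotientGroup.mk' N₁).prod (QuotientGroup.mk' N₂)) := by
      rw [injective_iff_map_eq_one]
      intro k hk
      have h1 : k ∈ N₁ := (QuotientGroup.eq_one_iff k).1 (congrArg Prod.fst hk)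
      have h2 : k ∈ N₂ := (QuotientGroup.eq_one_iff k).1 (congrArg Prod.snd hk)
      refine eq_one_of_unip hq faith ⟨e, he⟩ hK ?_
      intro v
      have h3 : k • v - v ∈ U := by
        have h4 := hN₂t k h2 (v : V ⧸ U)
        rw [hmk] at h4
        have h5 := QuotientAddGroup.eq.1 h4.symm
        rwa [neg_add_eq_sub] at h5
      exact congrArg Subtype.val (hN₁t k h1 ⟨_, h3⟩)
    exact Group.isSolvable_of_isSolvable_injective hinj
  have hVq : ∀ v : V, q • v = 0 := by
    let U : AddSubgroup V :=
      { carrier := {v | q • v = 0}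
        zero_mem' := smul_zero q
        add_mem' := by
          intro a b ha hb
          change q • (a + b) = 0
          rw [smul_add, ha, hb, add_zero]
        neg_mem' := by
          intro a ha
          change q • (-a) = 0
          rw [smul_neg, ha, neg_zero] }
    rcases hirr U (by
      intro k u hu
      change q • k • u = 0
      rw [smul_comm, show q • u = 0 from hu, smul_zero]) with h | h
    · exfalso
      obtain ⟨e, he⟩ := hV
      haveI : Fact q.Prime := ⟨hq⟩
      have he0 : e ≠ 0 := by
        rintro rfl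
        rw [pow_zero, Nat.card_eq_one_iff_unique] at he
        exact not_subsingleton V he.1
      obtain ⟨v, hv⟩ := exists_prime_addOrderOf_dvd_card' (G := V) q (by rw [he]; exact dvd_pow_self _ he0)
      have h1 : v ∈ U := by
        change q • v = 0
        rw [← hv]; exact addOrderOf_nsmul_eq_zero v
      rw [h, AddSubgroup.mem_bot] at h1
      rw [h1, addOrderOf_zero] at hv
      exact hq.one_lt.ne hv
    · intro v
      have : v ∈ U := by rw [h]; trivial
      exact this
  have hc : Cfg p q K V :=
    { faith := faith, horb := horb, hirr := hirr, hnt := hnt, hsol := hsol, hns := hns, hq := hq, hqp := hqp, hV := hVq, hK := hK }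
  obtain ⟨P⟩ : Nonempty (Sylow p K) := inferInstance
  rcases H19.Rank1.classify P.2 (fun A hA hAc => hc.cyc P A hA hAc) with h | ⟨h, -⟩
  · exact hc.cyclic_false h
  · subst h
    exact hc.two_false

/-- the theorem on orbits of `p`-power size -/
theorem solvable {p q : ℕ} (hp : p.Prime) (hq : q.Prime) (hqp : q ≠ p) (K : Type u) [Group K] [Finite K] (V : Type v)
    [AddCommGroup V] [Finite V] [DistribMulAction K V] (faith : ∀ k : K, (∀ v : V, k • v = v) → k = 1)
    (horb : ∀ v : V, ∃ a, (stabilizer K v).index = p ^ a) (hV : ∃ m, Nat.card V = q ^ m) (hK : ¬ q ∣ Nat.card K) :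
    Group.IsSolvable K := by
  haveI : Fact p.Prime := ⟨hp⟩
  exact good hq hqp _ K V rfl faith horb hV hK

end Cfsg.Agent.H23.POrb
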