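import Mathlib
import Cfsg.Agent.H23_POrb4
import Cfsg.Agent.H23_PClass
import Cfsg.Agent.H23_Kazarin
import Cfsg.Agent.H23_Count
import Cfsg.Agent.H2_PStab
import Cfsg.Agent.H1_SZ
import Cfsg.Agent.H22_PSolv
import Cfsg.Agent.H11_Cores
import Cfsg.Agent.H12_BG8a

/-! H23_QBaer: groups all of whose `q`-elements have prime-power class size. -/

set_option autoImplicit false
set_option linter.style.haveILetI false
set_option linter.unusedSectionVars false

namespace Cfsg.Agent.H23.QBaer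

open Subgroup MulAction Cfsg
open scoped commutatorElement

universe u

variable {G : Type u} [Group G] [Finite G]

local notation "idx " x => Subgroup.index (Subgroup.centralizer ({x} : Set _))

theorem isConj_conj (x g : G) : IsConj x (g * x * g⁻¹) := isConj_iff.2 ⟨g, rfl⟩

theorem exch {x y : G} (h : (idx x).Coprime (idx y)) {x' : G} (hx : IsConj x x') :
    ∃ c, c * y = y * c ∧ x' = c * x * c⁻¹ := by
  obtain ⟨g, rfl⟩ := isConj_iff.1 hx
  obtain ⟨c, hc, d, hd, rfl⟩ :=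
    (H1.Factor.index_inf_of_coprime (centralizer ({y} : Set G)) (centralizer ({x} : Set G)) h.symm).2 g
  refine ⟨c, mem_centralizer_singleton_iff.1 hc, ?_⟩
  have hd' : d * x = x * d := mem_centralizer_singleton_iff.1 hd
  calc c * d * x * (c * d)⁻¹ = c * (d * x) * d⁻¹ * c⁻¹ := by group
   _ = _ := by rw [hd']; group

theorem key {x y : G} {r s a b c : ℕ} (hr : r.Prime) (hs : s.Prime) (hrs : r ≠ s)
    (hx : (idx x) = r ^ a) (hy : (idx y) = s ^ b) (hz : (idx (x * y)) = r ^ c) :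
    ∃ T : Subgroup G, T.Normal ∧ IsPGroup r T ∧ ∀ g : G, g * y * g⁻¹ * y⁻¹ ∈ T := by
  haveI : Fact r.Prime := ⟨hr⟩
  have hco : ∀ i j : ℕ, (r ^ i).Coprime (s ^ j) := fun i j => Nat.Coprime.pow i j ((Nat.coprime_primes hr hs).2 hrs)
  have h1 : ∀ a : G, IsConj x a → IsConj (x * y) (a * y) := by
    intro a ha
    obtain ⟨c, hc, rfl⟩ := exch (x := x) (y := y) (by rw [hx, hy]; exact hco _ _) ha
    refine isConj_iff.2 ⟨c, ?_⟩
    have h : c * y * c⁻¹ = y := by rw [hc, mul_inv_cancel_right]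
    calc c * (x * y) * c⁻¹ = c * x * c⁻¹ * (c * y * c⁻¹) := by group
      _ = _ := by rw [h]
  have h2 : ∀ a : G, IsConj (x * y) a → IsConj x (a * y⁻¹) := by
    intro a ha
    obtain ⟨c, hc, rfl⟩ := exch (x := x * y) (y := y) (by rw [hz, hy]; exact hco _ _) ha
    refine isConj_iff.2 ⟨c, ?_⟩
    have h : c * y * c⁻¹ = y := by rw [hc, mul_inv_cancel_right]
    calc c * x * c⁻¹ = c * (x * y) * c⁻¹ * (c * y * c⁻¹)⁻¹ := by group
      _ = _ := by rw [h]
  have h12 : ∀ a, IsConj x a ↔ IsConj (x * y) (a * y) := fun a =>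
    ⟨h1 a, fun h => by have := h2 _ h; rwa [mul_inv_cancel_right] at this⟩
  have h21 : ∀ a, IsConj (x * y) a ↔ IsConj x (a * y⁻¹) := fun a =>
    ⟨h2 a, fun h => by have := h1 _ h; rwa [inv_mul_cancel_right] at this⟩
  have hcj : ∀ x a g : G, IsConj x a ↔ IsConj x (g * a * g⁻¹) := fun x a g =>
    ⟨fun h => h.trans (isConj_conj a g), fun h => h.trans (isConj_conj a g).symm⟩
  let T : Subgroup G :=
    { carrier := {t | ∀ a, IsConj x a ↔ IsConj x (a * t)}
      one_mem' := fun a => by rw [mul_one]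
      mul_mem' := fun {s t} hs ht a => by rw [hs a, ht (a * s), mul_assoc]
      inv_mem' := fun {t} ht a => by
        have := ht (a * t⁻¹)
        rw [inv_mul_cancel_right] at this
        exact this.symm }
  have hT : ∀ {t : G}, t ∈ T → ∀ a, IsConj x a ↔ IsConj x (a * t) := fun h => h
  refine ⟨T, ⟨?_⟩, ?_, ?_⟩
  · intro t ht g a
    rw [hcj x a g⁻¹, hT ht, hcj x (_ * t) g]
    have : g * (g⁻¹ * a * g⁻¹⁻¹ * t) * g⁻¹ = a * (g * t * g⁻¹) := by group
    rw [this]
  · letI : MulAction T {z // IsConj x z} :=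
      { smul := fun t z => ⟨z.1 * (t : G)⁻¹, (hT (T.inv_mem t.2) _).1 z.2⟩
        one_smul := fun z => Subtype.ext (by change z.1 * (1 : G)⁻¹ = z.1; rw [inv_one, mul_one])
        mul_smul := fun s t z => Subtype.ext (by
          change z.1 * ((s : G) * t)⁻¹ = z.1 * (t : G)⁻¹ * (s : G)⁻¹
          rw [mul_inv_rev, mul_assoc]) }
    have h3 : Nat.card T ∣ Nat.card {z // IsConj x z} := by
      apply POrb.card_dvd_of_free
      intro t z h
      have h4 : z.1 * (t : G)⁻¹ = z.1 := congrArg Subtype.val h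
      rw [mul_eq_left, inv_eq_one] at h4
      exact Subtype.ext h4
    rw [Count.card_class, hx] at h3
    obtain ⟨j, -, hj⟩ := (Nat.dvd_prime_pow hr).1 h3
    exact IsPGroup.of_card hj
  · intro g a
    rw [hcj x a g⁻¹, h12, hcj (x * y) _ g, h21]
    have : g * (g⁻¹ * a * g⁻¹⁻¹ * y) * g⁻¹ * y⁻¹ = a * (g * y * g⁻¹ * y⁻¹) := by group
    rw [this]

theorem key2 {q r : ℕ} (hq : q.Prime) (hr : r.Prime) (hqr : r ≠ q) (T : Subgroup G) [hTn : T.Normal] (hT : IsPGroup r T) {y : G}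
    (hy : ∃ k, orderOf y = q ^ k) (h : ∀ g : G, g * y * g⁻¹ * y⁻¹ ∈ T) : ∃ b, (idx y) = r ^ b := by
  haveI : Fact q.Prime := ⟨hq⟩
  haveI : Fact r.Prime := ⟨hr⟩
  obtain ⟨k, hk⟩ := hy
  obtain ⟨j, hj⟩ := IsPGroup.iff_card.1 hT
  have hP : IsPGroup q (zpowers y) := H24.Tools.isPGroup_zpowers hk
  have hcop : (Nat.card T).Coprime q := by
    rw [hj]; exact Nat.Coprime.pow_left _ ((Nat.coprime_primes hr hq).2 hqr)
  have h1 := H2.PStab.map_centralizer hcop hP
  have h2 : ∀ g : G, ∃ c ∈ centralizer ({y} : Set G), ∃ t ∈ T, g = c * t := by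
    intro g
    have h3 : QuotientGroup.mk' T g ∈ centralizer (((zpowers y).map (QuotientGroup.mk' T) : Subgroup (G ⧸ T)) : Set (G ⧸ T)) := by
      rw [MonoidHom.map_zpowers, mem_centralizer_iff]
      intro z hz
      obtain ⟨i, rfl⟩ := hz
      have h4 : Commute (QuotientGroup.mk' T g) (QuotientGroup.mk' T y) := by
        change _ * _ = _ * _
        have h5 : QuotientGroup.mk' T (g * y * g⁻¹ * y⁻¹) = 1 := (QuotientGroup.eq_one_iff _).2 (h g)
        rw [map_mul, map_mul, map_mul, map_inv, map_inv, mul_inv_eq_one, mul_inv_eq_iff_eq_mul] at h5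
        exact h5
      exact ((h4.zpow_right i).eq).symm
    rw [← h1] at h3
    obtain ⟨c, hc, hcg⟩ := h3
    refine ⟨c, ?_, c⁻¹ * g, QuotientGroup.eq.1 hcg, by group⟩
    rw [mem_centralizer_singleton_iff]
    exact (mem_centralizer_iff.1 hc y (mem_zpowers y)).symm
  have h3 : centralizer ({y} : Set G) ⊔ T = ⊤ := by
    rw [eq_top_iff]
    intro g _
    obtain ⟨c, hc, t, ht, rfl⟩ := h2 g
    exact mul_mem_sup hc ht
  have h4 := H2.Card.card_sup_mul_card_inf (H := centralizer ({y} : Set G)) (N := T) (by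
    rw [normalizer_eq_top_iff.2 hTn]; exact le_top)
  rw [h3, card_top, ← card_mul_index (centralizer ({y} : Set G)), mul_assoc] at h4
  have h5 := Nat.eq_of_mul_eq_mul_left Nat.card_pos h4
  have h6 : (idx y) ∣ r ^ j := by rw [← hj, ← h5]; exact dvd_mul_right _ _
  obtain ⟨b, -, hb⟩ := (Nat.dvd_prime_pow hr).1 h6
  exact ⟨b, hb⟩

theorem mul_cases {x y : G} {r s a b t c : ℕ} (hr : r.Prime) (hs : s.Prime) (hrs : r ≠ s) (ht : t.Prime)
    (hx : (idx x) = r ^ a) (hy : (idx y) = s ^ b) (hz : (idx (x * y)) = t ^ c) :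
    (∃ c, (idx (x * y)) = r ^ c) ∨ ∃ c, (idx (x * y)) = s ^ c := by
  have hco : (idx x).Coprime (idx y) := by
    rw [hx, hy]; exact Nat.Coprime.pow _ _ ((Nat.coprime_primes hr hs).2 hrs)
  have h1 := (H1.Factor.index_inf_of_coprime (centralizer ({x} : Set G)) (centralizer ({y} : Set G)) hco).1
  have h2 : centralizer ({x} : Set G) ⊓ centralizer ({y} : Set G) ≤ centralizer ({x * y} : Set G) := by
    rintro g ⟨hg1, hg2⟩
    have e1 := mem_centralizer_singleton_iff.1 hg1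
    have e2 := mem_centralizer_singleton_iff.1 hg2
    rw [mem_centralizer_singleton_iff, ← mul_assoc, e1, mul_assoc, e2, mul_assoc]
  have h3 := index_dvd_of_le h2
  rw [h1, hx, hy, hz] at h3
  rcases Nat.eq_zero_or_pos c with rfl | hc
  · left; exact ⟨0, by rw [hz, pow_zero, pow_zero]⟩
  · have h4 : t ∣ r ^ a * s ^ b := (dvd_pow_self t hc.ne').trans h3
    rcases (Nat.Prime.dvd_mul ht).1 h4 with h5 | h5
    · left
      have := (Nat.prime_dvd_prime_iff_eq ht hr).1 (ht.dvd_of_dvd_pow h5)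
      exact ⟨c, by rw [hz, this]⟩
    · right
      have := (Nat.prime_dvd_prime_iff_eq ht hs).1 (ht.dvd_of_dvd_pow h5)
      exact ⟨c, by rw [hz, this]⟩

variable {q : ℕ} [hq : Fact q.Prime]

theorem mem_pCore_of_comm {T : Subgroup G} (hTn : T.Normal) (hT : IsPGroup q T) {y : G}
    (hy : ∃ k, orderOf y = q ^ k) (h : ∀ g : G, g * y * g⁻¹ * y⁻¹ ∈ T) : y ∈ pCore q G := by
  obtain ⟨k, hk⟩ := hy
  haveI := hTn
  have h1 : (T ⊔ zpowers y).Normal := by
    constructor
    intro n hn g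
    have h2 : T ⊔ zpowers y ≤ (T ⊔ zpowers y).comap (MulAut.conj g).toMonoidHom := by
      rw [sup_le_iff, zpowers_le]
      refine ⟨fun t ht => mem_sup_left (hTn.conj_mem t ht g), ?_⟩
      change g * y * g⁻¹ ∈ T ⊔ zpowers y
      have h3 : g * y * g⁻¹ = (g * y * g⁻¹ * y⁻¹) * y := by group
      rw [h3]
      exact mul_mem_sup (h g) (mem_zpowers y)
    exact h2 hn
  have h2 : IsPGroup q ↥(T ⊔ zpowers y) := IsPGroup.to_sup_of_normal_left hT (H24.Tools.isPGroup_zpowers hk)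
  exact (H1.Nilp.le_pCore h1 h2) (mem_sup_right (mem_zpowers y))

theorem pair {x y : G} (hxy : x * y = y * x) (hx : ∃ k, orderOf x = q ^ k) (hy : ∃ k, orderOf y = q ^ k)
    {r s a b t c : ℕ} (hr : r.Prime) (hs : s.Prime) (hrs : r ≠ s) (hsq : s ≠ q) (ht : t.Prime)
    (hxi : (idx x) = r ^ a) (hyi : (idx y) = s ^ b) (hz : (idx (x * y)) = t ^ c) (ha : a ≠ 0) (hb : b ≠ 0) :
    r = q ∧ y ∈ pCore q G := by
  rcases mul_cases hr hs hrs ht hxi hyi hz with ⟨c, hc⟩ | ⟨c, hc⟩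
  · obtain ⟨T, hTn, hT, h⟩ := key hr hs hrs hxi hyi hc
    by_cases hrq : r = q
    · subst hrq
      exact ⟨rfl, mem_pCore_of_comm hTn hT hy h⟩
    · exfalso
      obtain ⟨b', hb'⟩ := key2 hq.out hr hrq T hT hy h
      rw [hyi] at hb'
      have h1 : s ∣ r ^ b' := by rw [← hb']; exact dvd_pow_self _ hb
      exact hrs ((Nat.prime_dvd_prime_iff_eq hs hr).1 (hs.dvd_of_dvd_pow h1)).symm
  · exfalso
    rw [hxy] at hc
    obtain ⟨T, hTn, hT, h⟩ := key hs hr (Ne.symm hrs) hyi hxi hc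
    obtain ⟨a', ha'⟩ := key2 hq.out hs hsq T hT hx h
    rw [hxi] at ha'
    have h1 : r ∣ s ^ a' := by rw [← ha']; exact dvd_pow_self _ ha
    exact hrs ((Nat.prime_dvd_prime_iff_eq hr hs).1 (hr.dvd_of_dvd_pow h1))

/-- `q`-elements of `q`-power class size lie in `O_q` -/
theorem mem_pCore_of_index {x : G} (hx : ∃ k, orderOf x = q ^ k) {a : ℕ} (h : (idx x) = q ^ a) : x ∈ pCore q G := by
  obtain ⟨k, hk⟩ := hx
  exact (H1.Nilp.le_pCore inferInstance (PClass.normalClosure_isPGroup x h hk)) (subset_normalClosure rfl)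

theorem mem_sylow_of_centralizes {x : G} (hx : ∃ k, orderOf x = q ^ k) (Q : Sylow q G) (h : ∀ y ∈ Q, y * x = x * y) :
    x ∈ Q := by
  obtain ⟨k, hk⟩ := hx
  have h1 := IsPGroup.inf_normalizer_sylow (H24.Tools.isPGroup_zpowers hk) Q
  have h2 : zpowers x ≤ normalizer (Q : Set G) := by
    rw [zpowers_le]
    apply centralizer_le_normalizer _
    rw [mem_centralizer_iff]
    exact h
  have h3 : x ∈ zpowers x ⊓ normalizer (Q : Set G) := ⟨mem_zpowers x, h2 (mem_zpowers x)⟩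
  have h4 : zpowers x ⊓ normalizer (Q : Set G) = zpowers x ⊓ Q := h1
  rw [h4] at h3
  exact h3.2

theorem qel_of_mem {H : Subgroup G} (hH : IsPGroup q H) {x : G} (hx : x ∈ H) : ∃ k, orderOf x = q ^ k := by
  obtain ⟨k, hk⟩ := IsPGroup.iff_orderOf.1 hH ⟨x, hx⟩
  exact ⟨k, by rw [← hk, Subgroup.orderOf_mk]⟩

theorem qel_conj {x : G} (g : G) (hx : ∃ k, orderOf x = q ^ k) : ∃ k, orderOf (g * x * g⁻¹) = q ^ k := by
  obtain ⟨k, hk⟩ := hx
  exact ⟨k, by rw [H24.Tools.orderOf_conj, hk]⟩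

/-- an element of class size prime to `q` is, up to conjugacy, central in a given Sylow subgroup -/
theorem exists_conj_centralizes {x : G} (Q : Sylow q G) (h : ¬ q ∣ (idx x)) :
    ∃ g : G, ∀ y ∈ Q, y * (g * x * g⁻¹) = (g * x * g⁻¹) * y := by
  obtain ⟨P, hP⟩ := ClassSize.exists_sylow_centralizes x h
  obtain ⟨g, hg⟩ := MulAction.exists_smul_eq G P Q
  refine ⟨g, ?_⟩
  intro y hy
  rw [← hg, H2.Basic.mem_smul_sylow] at hy
  have h1 := hP _ hy
  calc y * (g * x * g⁻¹) = g * ((g⁻¹ * y * g) * x) * g⁻¹ := by group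
    _ = g * (x * (g⁻¹ * y * g)) * g⁻¹ := by rw [h1]
    _ = _ := by group

end Cfsg.Agent.H23.QBaer
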