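import Mathlib
import Cfsg.Agent.H23_QBaer

/-! H23_QBaer2: groups all of whose `q`-elements have prime-power class size; one prime serves all. -/

set_option autoImplicit false
set_option linter.style.haveILetI false
set_option linter.unusedSectionVars false

namespace Cfsg.Agent.H23.QBaer

open Subgroup MulAction Cfsg
open scoped commutatorElement

universe u

variable {G : Type u} [Group G] [Finite G]

local notation "idx " x => Subgroup.index (Subgroup.centralizer ({x} : Set _))

variable {q : ℕ} [hq : Fact q.Prime]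

/-- `Q` normal Sylow with complement `M`; an element of `Q` of `q`-power class size has a `Q`-conjugate centralised by `M` -/
theorem cov (Q : Sylow q G) [hQn : (Q : Subgroup G).Normal] {M : Subgroup G} (hM : IsComplement' (Q : Subgroup G) M)
    {w : G} {a : ℕ} (hw : (idx w) = q ^ a) : ∃ g ∈ (Q : Subgroup G), ∀ m ∈ M, m * (g * w * g⁻¹) = (g * w * g⁻¹) * m := by
  have hcopQ : (Nat.card Q).Coprime (Q : Subgroup G).index := by
    obtain ⟨n, hn⟩ := IsPGroup.iff_card.1 Q.2
    have hn' : Nat.card Q = q ^ n := hn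
    rw [hn']
    exact Nat.Coprime.pow_left _ ((hq.out.coprime_iff_not_dvd).2 Q.not_dvd_index)
  set H := centralizer ({w} : Set G) with hH
  have hcopH : (Q : Subgroup G).index.Coprime H.index := by
    rw [hw]; exact Nat.Coprime.pow_right _ ((hq.out.coprime_iff_not_dvd).2 Q.not_dvd_index).symm
  have h1 := (H1.Factor.index_inf_of_coprime _ _ hcopH).1
  have h2 : (Q : Subgroup G).relIndex H = (Q : Subgroup G).index := by
    have h3 := relIndex_mul_index (inf_le_right : (Q : Subgroup G) ⊓ H ≤ H)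
    rw [h1, inf_relIndex_right] at h3
    exact Nat.eq_of_mul_eq_mul_right (Nat.pos_of_ne_zero index_ne_zero_of_finite) h3
  obtain ⟨M₁, hM₁⟩ := exists_right_complement'_of_coprime (N := (Q : Subgroup G).subgroupOf H) (by
    rw [H2.Card.card_subgroupOf]
    change (Nat.card ↥((Q : Subgroup G) ⊓ H)).Coprime ((Q : Subgroup G).relIndex H)
    rw [h2]
    exact Nat.Coprime.coprime_dvd_left (card_dvd_of_le inf_le_left) hcopQ)
  set M' := M₁.map H.subtype with hM'
  have hcard : Nat.card M' = (Q : Subgroup G).index := by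
    rw [hM', card_map_of_injective H.subtype_injective, ← h2]
    exact hM₁.symm.index_eq_card.symm
  have hcompl : IsComplement' (Q : Subgroup G) M' := by
    apply isComplement'_of_coprime
    · rw [hcard]; exact card_mul_index (Q : Subgroup G)
    · rw [hcard]; exact hcopQ
  obtain ⟨g, hg, hgM⟩ := H1.SZ.sz_conj (Q : Subgroup G) hcopQ (Or.inl (Rad.solvable_of_pgroup Q.2)) M' M hcompl hM
  refine ⟨g, hg, ?_⟩
  intro m hm
  rw [← hgM, H24.Tools.mem_conj] at hm
  obtain ⟨c, hc, hcm⟩ := hm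
  have h3 : (g⁻¹ * m * g) * w = w * (g⁻¹ * m * g) := by
    have h4 := mem_centralizer_singleton_iff.1 c.2
    have h5 : (c : G) = g⁻¹ * m * g := hcm
    rw [← h5]; exact h4
  calc m * (g * w * g⁻¹) = g * ((g⁻¹ * m * g) * w) * g⁻¹ := by group
    _ = g * (w * (g⁻¹ * m * g)) * g⁻¹ := by rw [h3]
    _ = _ := by group

/-- the mixed case does not occur -/
theorem mixed_false (Q : Sylow q G) [hQn : (Q : Subgroup G).Normal]
    (hout : ∀ w ∈ (Q : Subgroup G), (¬ ∀ y ∈ (Q : Subgroup G), y * w = w * y) → ∃ a, (idx w) = q ^ a)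
    {x : G} (hx : x ∈ (Q : Subgroup G)) {a : ℕ} (ha : a ≠ 0) (hxi : (idx x) = q ^ a)
    {y : G} (hy : ∀ u ∈ (Q : Subgroup G), u * y = y * u) (hyQ : y ∈ (Q : Subgroup G)) (hyi : (idx y) ≠ 1) : False := by
  have hcopQ : (Nat.card Q).Coprime (Q : Subgroup G).index := by
    obtain ⟨n, hn⟩ := IsPGroup.iff_card.1 Q.2
    have hn' : Nat.card Q = q ^ n := hn
    rw [hn']
    exact Nat.Coprime.pow_left _ ((hq.out.coprime_iff_not_dvd).2 Q.not_dvd_index)
  obtain ⟨M, hM⟩ := exists_right_complement'_of_coprime (N := (Q : Subgroup G)) hcopQ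
  set Z := (Q : Subgroup G) ⊓ centralizer (Q : Set G) with hZ
  set C := (Q : Subgroup G) ⊓ centralizer (M : Set G) with hC
  have hQsub : (Q : Set G) = ((Q : Subgroup G) : Set G) := rfl
  have hcover : ∀ w ∈ (Q : Subgroup G), w ∈ Z ∨ ∃ g ∈ (Q : Subgroup G), g * w * g⁻¹ ∈ C := by
    intro w hw
    by_cases h : ∀ y ∈ (Q : Subgroup G), y * w = w * y
    · left
      exact ⟨hw, mem_centralizer_iff.2 h⟩
    · right
      obtain ⟨a, ha⟩ := hout w hw h
      obtain ⟨g, hg, hgm⟩ := cov Q hM ha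
      exact ⟨g, hg, hQn.conj_mem w hw g, mem_centralizer_iff.2 hgm⟩
  have hZC : Z ⊔ C = (Q : Subgroup G) := by
    have h1 : (Z ⊔ C).subgroupOf (Q : Subgroup G) = ⊤ := by
      by_contra hne
      obtain ⟨w, hw⟩ := ClassSize.exists_forall_conj_notMem _ hne
      rcases hcover w w.2 with h | ⟨g, hg, h⟩
      · have := hw 1
        apply this
        rw [inv_one, one_mul, mul_one, mem_subgroupOf]
        exact mem_sup_left h
      · have := hw (⟨g, hg⟩⁻¹)
        apply this
        rw [inv_inv, mem_subgroupOf]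
        exact mem_sup_right h
    rw [subgroupOf_eq_top] at h1
    exact le_antisymm (sup_le inf_le_left inf_le_left) h1
  have hZC' : Z ≤ centralizer (C : Set G) := by
    intro z hz
    rw [mem_centralizer_iff]
    intro c hc
    exact (mem_centralizer_iff.1 hz.2 c hc.1)
  have hCn : (Q : Subgroup G) ≤ normalizer (C : Set G) := by
    rw [← hZC]
    exact sup_le (hZC'.trans (centralizer_le_normalizer _)) le_normalizer
  have hunion : ∀ w ∈ (Q : Subgroup G), w ∈ Z ∨ w ∈ C := by
    intro w hw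
    rcases hcover w hw with h | ⟨g, hg, h⟩
    · exact Or.inl h
    · right
      exact (mem_normalizer_iff.1 (hCn hg) w).2 h
  have halt : (Q : Subgroup G) ≤ Z ∨ (Q : Subgroup G) ≤ C := by
    by_contra hcon
    rw [not_or] at hcon
    obtain ⟨u, hu, huZ⟩ := SetLike.not_le_iff_exists.1 hcon.1
    obtain ⟨v, hv, hvC⟩ := SetLike.not_le_iff_exists.1 hcon.2
    have huC : u ∈ C := (hunion u hu).resolve_left huZ
    have hvZ : v ∈ Z := (hunion v hv).resolve_right hvC
    rcases hunion (u * v) (mul_mem hu hv) with h | h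
    · exact huZ ((Subgroup.mul_mem_cancel_right Z hvZ).1 h)
    · exact hvC ((Subgroup.mul_mem_cancel_left C huC).1 h)
  rcases halt with h | h
  · have h1 : (Q : Subgroup G) ≤ centralizer ({x} : Set G) := by
      intro u hu
      rw [mem_centralizer_singleton_iff]
      exact mem_centralizer_iff.1 (h hx).2 u hu
    have h2 := index_dvd_of_le h1
    rw [hxi] at h2
    exact Q.not_dvd_index ((dvd_pow_self q ha).trans h2)
  · apply hyi
    rw [index_eq_one, eq_top_iff]
    intro g _
    obtain ⟨⟨u, m⟩, hum⟩ := hM.2 g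
    have hum' : (u : G) * (m : G) = g := hum
    rw [← hum', mem_centralizer_singleton_iff]
    have e1 : (m : G) * y = y * m := mem_centralizer_iff.1 (h hyQ).2 m m.2
    have e2 : (u : G) * y = y * u := hy u u.2
    rw [mul_assoc, e1, ← mul_assoc, e2, mul_assoc]

/-- one prime serves all `q`-elements -/
theorem one_prime (hB : ∀ x : G, (∃ k, orderOf x = q ^ k) → ∃ r a : ℕ, r.Prime ∧ (idx x) = r ^ a)
    {y : G} (hy : ∃ k, orderOf y = q ^ k) {s b : ℕ} (hs : s.Prime) (hsq : s ≠ q) (hb : b ≠ 0) (hyi : (idx y) = s ^ b) :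
    ∀ x : G, (∃ k, orderOf x = q ^ k) → ∃ a, (idx x) = s ^ a := by
  have hnd : ∀ {y : G} {s b : ℕ}, s.Prime → s ≠ q → (idx y) = s ^ b → ¬ q ∣ (idx y) := by
    intro y s b hs hsq h hd
    rw [h] at hd
    exact hsq ((Nat.prime_dvd_prime_iff_eq hq.out hs).1 (hq.out.dvd_of_dvd_pow hd)).symm
  obtain ⟨Q, hQ⟩ := ClassSize.exists_sylow_centralizes y (hnd hs hsq hyi)
  have hyQ : y ∈ Q := mem_sylow_of_centralizes hy Q hQ
  by_contra hcon
  push Not at hcon
  obtain ⟨x₀, hx₀, hx₀i⟩ := hcon
  -- conjugate `x₀` into `Q`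
  obtain ⟨x, hx, hxel, hxs⟩ : ∃ x ∈ Q, (∃ k, orderOf x = q ^ k) ∧ ∀ a, (idx x) ≠ s ^ a := by
    obtain ⟨k, hk⟩ := hx₀
    obtain ⟨P, hP⟩ := (H24.Tools.isPGroup_zpowers hk).exists_le_sylow
    obtain ⟨g, hg⟩ := MulAction.exists_smul_eq G P Q
    refine ⟨g * x₀ * g⁻¹, ?_, qel_conj g ⟨k, hk⟩, ?_⟩
    · rw [← hg, H2.Basic.mem_smul_sylow]
      have : g⁻¹ * (g * x₀ * g⁻¹) * g = x₀ := by group
      rw [this]
      exact hP (mem_zpowers x₀)
    · intro a ha
      rw [ClassSize.index_centralizer_conj] at ha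
      exact hx₀i a ha
  obtain ⟨r, a, hr, hxi⟩ := hB x hxel
  have hrs : r ≠ s := by
    rintro rfl
    exact hxs a hxi
  have ha : a ≠ 0 := by
    rintro rfl
    apply hxs 0
    rw [hxi, pow_zero, pow_zero]
  have hpair : ∀ {w : G}, (∃ k, orderOf w = q ^ k) → w ∈ Q → (∀ u ∈ Q, u * w = w * u) → ∀ {t c : ℕ}, t.Prime → t ≠ q →
      c ≠ 0 → (idx w) = t ^ c → r ≠ t → r = q ∧ w ∈ pCore q G := by
    intro w hw hwQ hwc t c ht htq hc hwi hrt
    obtain ⟨l, d, hl, hz⟩ := hB (x * w) (qel_of_mem Q.2 (mul_mem hx hwQ))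
    exact pair (hwc x hx) hxel hw hr ht hrt htq hl hxi hwi hz ha hc
  obtain ⟨hrq, hyc⟩ := hpair hy hyQ hQ hs hsq hb hyi hrs
  subst hrq
  -- all `r`-elements lie in the core
  have hall : ∀ w : G, (∃ k, orderOf w = r ^ k) → w ∈ pCore r G := by
    intro w hw
    obtain ⟨t, c, ht, hwi⟩ := hB w hw
    by_cases hc : c = 0
    · exact mem_pCore_of_index hw (a := 0) (by rw [hwi, hc, pow_zero, pow_zero])
    · by_cases htr : t = r
      · subst htr
        exact mem_pCore_of_index hw hwi
      · obtain ⟨g, hg⟩ := exists_conj_centralizes Q (hnd ht htr hwi)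
        have hw' := qel_conj g hw
        have hwQ := mem_sylow_of_centralizes hw' Q hg
        have h1 := (hpair hw' hwQ hg ht htr hc (by rw [ClassSize.index_centralizer_conj]; exact hwi) (Ne.symm htr)).2
        have hn : (pCore r G).Normal := H1.Nilp.pCore_normal r
        have h2 := hn.conj_mem _ h1 g⁻¹
        have h3 : g⁻¹ * (g * w * g⁻¹) * g⁻¹⁻¹ = w := by group
        rwa [h3] at h2
  have hQeq : (Q : Subgroup G) = pCore r G := by
    apply le_antisymm
    · intro w hw
      exact hall w (qel_of_mem Q.2 hw)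
    · exact IsPGroup.le_sylow_of_normal (H1.Nilp.pCore_isPGroup r) Q
  haveI hQn : (Q : Subgroup G).Normal := by rw [hQeq]; exact H1.Nilp.pCore_normal r
  refine mixed_false Q ?_ hx ha hxi hQ hyQ ?_
  · intro w hw hnc
    obtain ⟨t, c, ht, hwi⟩ := hB w (qel_of_mem Q.2 hw)
    by_cases hc : c = 0
    · exact ⟨0, by rw [hwi, hc, pow_zero, pow_zero]⟩
    · by_cases htr : t = r
      · exact ⟨c, by rw [hwi, htr]⟩
      · exfalso
        apply hnc
        obtain ⟨P, hP⟩ := ClassSize.exists_sylow_centralizes w (hnd ht htr hwi)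
        have : P = Q := by
          obtain ⟨g, hg⟩ := MulAction.exists_smul_eq G Q P
          rw [← hg, Sylow.smul_eq_iff_mem_normalizer]
          have : normalizer ((Q : Subgroup G) : Set G) = ⊤ := normalizer_eq_top_iff.2 hQn
          change g ∈ normalizer ((Q : Subgroup G) : Set G)
          rw [this]; exact mem_top g
        rw [this] at hP
        exact hP
  · rw [hyi]
    intro h
    exact hs.one_lt.ne' ((Nat.pow_eq_one.1 h).resolve_right hb)

end Cfsg.Agent.H23.QBaer
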