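import Mathlib
import Cfsg.Agent.H23_QBaer2

/-! H23_QBaer3: groups all of whose `q`-elements have prime-power class size; structure. -/

set_option autoImplicit false
set_option linter.style.haveILetI false
set_option linter.unusedSectionVars false

namespace Cfsg.Agent.H23.QBaer

open Subgroup MulAction Cfsg
open scoped commutatorElement

universe u

variable {G : Type u} [Group G] [Finite G]

local notation "idx " x => Subgroup.index (Subgroup.centralizer ({x} : Set _))

variable {q : ℕ} [hq : Fact q.Prime]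

theorem coprime_index (Q : Sylow q G) : (Nat.card Q).Coprime (Q : Subgroup G).index := by
  obtain ⟨n, hn⟩ := IsPGroup.iff_card.1 Q.2
  have hn' : Nat.card Q = q ^ n := hn
  rw [hn']
  exact Nat.Coprime.pow_left _ ((hq.out.coprime_iff_not_dvd).2 Q.not_dvd_index)

/-- all `q`-elements have `q`-power class size -/
theorem case_eq (Q : Sylow q G) (h : ∀ x : G, (∃ k, orderOf x = q ^ k) → ∃ a, (idx x) = q ^ a) :
    (Q : Subgroup G).Normal ∧ ∃ N : Subgroup G, N.Normal ∧ N.IsComplement' (Q : Subgroup G) := by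
  have hQeq : (Q : Subgroup G) = pCore q G := by
    apply le_antisymm
    · intro w hw
      obtain ⟨a, ha⟩ := h w (qel_of_mem Q.2 hw)
      exact mem_pCore_of_index (qel_of_mem Q.2 hw) ha
    · exact IsPGroup.le_sylow_of_normal (H1.Nilp.pCore_isPGroup q) Q
  haveI hQn : (Q : Subgroup G).Normal := by rw [hQeq]; exact H1.Nilp.pCore_normal q
  refine ⟨hQn, ?_⟩
  obtain ⟨M, hM⟩ := exists_right_complement'_of_coprime (N := (Q : Subgroup G)) (coprime_index Q)
  set C := (Q : Subgroup G) ⊓ centralizer (M : Set G) with hC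
  have h1 : C.subgroupOf (Q : Subgroup G) = ⊤ := by
    by_contra hne
    obtain ⟨w, hw⟩ := ClassSize.exists_forall_conj_notMem _ hne
    obtain ⟨a, ha⟩ := h w (qel_of_mem Q.2 w.2)
    obtain ⟨g, hg, hgm⟩ := cov Q hM ha
    have := hw (⟨g, hg⟩⁻¹)
    apply this
    rw [inv_inv, mem_subgroupOf]
    exact ⟨hQn.conj_mem w w.2 g, mem_centralizer_iff.2 hgm⟩
  rw [subgroupOf_eq_top] at h1
  refine ⟨M, ?_, hM.symm⟩
  rw [← normalizer_eq_top_iff, eq_top_iff]
  intro g _
  obtain ⟨⟨u, m⟩, hum⟩ := hM.2 g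
  have hum' : (u : G) * (m : G) = g := hum
  rw [← hum']
  refine mul_mem ?_ (le_normalizer m.2)
  apply centralizer_le_normalizer _
  rw [mem_centralizer_iff]
  intro m' hm'
  exact mem_centralizer_iff.1 (h1 u.2).2 m' hm'

section ne

variable {p : ℕ} [hp : Fact p.Prime] (hpq : p ≠ q)

theorem le_centralizer_of_coprime {x : G} {a : ℕ} (hx : (idx x) = p ^ a) (N : Subgroup G) [N.Normal]
    (hN : ¬ p ∣ Nat.card N) : N ≤ centralizer ({x} : Set G) := by
  have h1 : (centralizer ({x} : Set G)).relIndex N ∣ p ^ a := by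
    rw [← hx]; exact H2.Card.relIndex_dvd_index_of_normal_right _ _
  have h2 : (centralizer ({x} : Set G)).relIndex N ∣ Nat.card N := relIndex_dvd_card _ _
  have h3 : (p ^ a).Coprime (Nat.card N) := Nat.Coprime.pow_left _ ((hp.out.coprime_iff_not_dvd).2 hN)
  exact relIndex_eq_one.1 (Nat.eq_one_of_dvd_coprimes h3 h1 h2)

include hpq in
/-- with `O_p = 1`, a `q`-element of `p`-power class size lies in `O_q` -/
theorem mem_pCore_of_trivial (h0 : pCore p G = ⊥) {x : G} (hx : ∃ k, orderOf x = q ^ k) {a : ℕ} (hxi : (idx x) = p ^ a) :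
    x ∈ pCore q G := by
  set W := normalClosure ({x} : Set G) with hW
  have hWs : Group.IsSolvable W := Kazarin.kazarin x hp.out a hxi
  have hxW : x ∈ W := subset_normalClosure rfl
  set F := fittingOf W with hF
  have hFn : F.Normal := by
    rw [← normalizer_eq_top_iff, eq_top_iff]
    calc (⊤ : Subgroup G) = normalizer (W : Set G) := (normalizer_eq_top_iff.2 inferInstance).symm
      _ ≤ _ := H12.Core.normalizer_le_normalizer_fittingOf W
  have hFnil : Group.IsNilpotent F := H12.Core.fittingOf_isNilpotent W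
  have hFp : ¬ p ∣ Nat.card F := by
    intro hd
    obtain ⟨P⟩ : Nonempty (Sylow p F) := inferInstance
    have h1 := H1.Nilp.sylow_map_normal_of_nilpotent hFn hFnil P
    have h2 : (P : Subgroup F).map F.subtype ≤ pCore p G := H1.Nilp.le_pCore h1 (P.2.map _)
    rw [h0, le_bot_iff, map_eq_bot_iff_of_injective _ F.subtype_injective] at h2
    have h3 := P.not_dvd_index
    rw [h2, index_bot] at h3
    exact h3 hd
  have h1 : F ≤ centralizer ({x} : Set G) := le_centralizer_of_coprime hxi F hFp
  have h2 : W ≤ centralizer (F : Set G) := by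
    haveI := hFn
    apply normalClosure_le_normal
    rw [Set.singleton_subset_iff, SetLike.mem_coe, mem_centralizer_iff]
    intro f hf
    exact (mem_centralizer_singleton_iff.1 (h1 hf))
  have h3 : x ∈ F := H12.Core.inf_centralizer_fittingOf_le W hWs ⟨hxW, h2 hxW⟩
  -- the Sylow `q`-subgroup of `F`
  obtain ⟨k, hk⟩ := hx
  have h4 : IsPGroup q (zpowers (⟨x, h3⟩ : F)) := H24.Tools.isPGroup_zpowers (k := k) (by rw [← hk, Subgroup.orderOf_mk])
  obtain ⟨P, hP⟩ := h4.exists_le_sylow
  have h5 := H1.Nilp.sylow_map_normal_of_nilpotent hFn hFnil P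
  exact (H1.Nilp.le_pCore h5 (P.2.map _)) ⟨⟨x, h3⟩, hP (mem_zpowers _), rfl⟩

include hpq in
theorem case_ne (Q : Sylow q G) (h : ∀ x : G, (∃ k, orderOf x = q ^ k) → ∃ a, (idx x) = p ^ a) :
    (∀ x ∈ (Q : Subgroup G), ∀ y ∈ (Q : Subgroup G), x * y = y * x) ∧ (pCore p G ⊔ (Q : Subgroup G)).Normal := by
  have hPn : (pCore p G).Normal := H1.Nilp.pCore_normal p
  set R := pCore p G with hR
  have h0 : pCore p (G ⧸ R) = ⊥ := H22.PSolv.pCore_quotient
  have hqel : ∀ x : G, (∃ k, orderOf x = q ^ k) → ∃ k, orderOf (x : G ⧸ R) = q ^ k := by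
    rintro x ⟨k, hk⟩
    have h1 : orderOf (QuotientGroup.mk' R x) ∣ orderOf x := orderOf_map_dvd _ _
    rw [hk] at h1
    obtain ⟨j, -, hj⟩ := (Nat.dvd_prime_pow hq.out).1 h1
    exact ⟨j, hj⟩
  have hidx : ∀ x : G, (∃ k, orderOf x = q ^ k) → ∃ a, (idx (x : G ⧸ R)) = p ^ a := by
    intro x hx
    obtain ⟨a, ha⟩ := h x hx
    have h1 := Kazarin.index_quotient_dvd R x
    rw [ha] at h1
    obtain ⟨j, -, hj⟩ := (Nat.dvd_prime_pow hp.out).1 h1
    exact ⟨j, hj⟩
  have hcore : ∀ x ∈ (Q : Subgroup G), (x : G ⧸ R) ∈ pCore q (G ⧸ R) := by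
    intro x hx
    have hx' := qel_of_mem Q.2 hx
    obtain ⟨a, ha⟩ := hidx x hx'
    exact mem_pCore_of_trivial hpq h0 (hqel x hx') ha
  have hOn : (pCore q (G ⧸ R)).Normal := H1.Nilp.pCore_normal q
  have hOp : ¬ p ∣ Nat.card (pCore q (G ⧸ R)) := by
    obtain ⟨n, hn⟩ := IsPGroup.iff_card.1 (H1.Nilp.pCore_isPGroup (G := G ⧸ R) q)
    rw [hn]
    intro hd
    exact hpq ((Nat.prime_dvd_prime_iff_eq hp.out hq.out).1 (hp.out.dvd_of_dvd_pow hd))
  constructor
  · intro x hx y hy
    have hx' := qel_of_mem Q.2 hx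
    obtain ⟨a, ha⟩ := hidx x hx'
    have h1 := le_centralizer_of_coprime ha (pCore q (G ⧸ R)) hOp (hcore y hy)
    have h2 := mem_centralizer_singleton_iff.1 h1
    have h3 : (x * y)⁻¹ * (y * x) ∈ R := by
      rw [← QuotientGroup.eq]
      exact h2.symm
    have h4 : (x * y)⁻¹ * (y * x) ∈ (Q : Subgroup G) := mul_mem (inv_mem (mul_mem hx hy)) (mul_mem hy hx)
    have h5 : R ⊓ (Q : Subgroup G) = ⊥ := by
      apply inf_eq_bot_of_coprime
      obtain ⟨n, hn⟩ := IsPGroup.iff_card.1 (H1.Nilp.pCore_isPGroup (G := G) p)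
      obtain ⟨m, hm⟩ := IsPGroup.iff_card.1 Q.2
      have hm' : Nat.card Q = q ^ m := hm
      rw [hn]
      change (p ^ n).Coprime (Nat.card Q)
      rw [hm']
      exact Nat.Coprime.pow _ _ ((Nat.coprime_primes hp.out hq.out).2 hpq)
    have h6 : (x * y)⁻¹ * (y * x) ∈ R ⊓ (Q : Subgroup G) := ⟨h3, h4⟩
    rw [h5, mem_bot, inv_mul_eq_one] at h6
    exact h6
  · have h1 : (Q : Subgroup G).map (QuotientGroup.mk' R) = pCore q (G ⧸ R) := by
      apply le_antisymm
      · rintro _ ⟨x, hx, rfl⟩
        exact hcore x hx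
      · have h2 : ¬ q ∣ ((Q : Subgroup G).map (QuotientGroup.mk' R)).index := by
          intro hd
          exact Q.not_dvd_index (hd.trans (index_map_dvd _ (QuotientGroup.mk'_surjective R)))
        exact IsPGroup.le_sylow_of_normal (H1.Nilp.pCore_isPGroup q) ((Q.2.map (QuotientGroup.mk' R)).toSylow h2)
    have h2 : R ⊔ (Q : Subgroup G) = (pCore q (G ⧸ R)).comap (QuotientGroup.mk' R) := by
      rw [← h1, comap_map_eq, QuotientGroup.ker_mk', sup_comm]
    rw [h2]
    exact hOn.comap _

/-- a version of the orbit theorem for multiplicative modules -/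
theorem solvable_of_mul {K : Type u} [Group K] [Finite K] {A : Type u} [Group A] [Finite A] (hA : ∀ a b : A, a * b = b * a)
    [MulDistribMulAction K A] (hqp : q ≠ p) (faith : ∀ k : K, (∀ v : A, k • v = v) → k = 1)
    (horb : ∀ v : A, ∃ a, (stabilizer K v).index = p ^ a) (hV : ∃ m, Nat.card A = q ^ m) (hK : ¬ q ∣ Nat.card K) :
    Group.IsSolvable K := by
  letI : CommGroup A := { (inferInstance : Group A) with mul_comm := hA }
  letI : DistribMulAction K (Additive A) :=
    { smul := fun k v => Additive.ofMul (k • Additive.toMul v)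
      one_smul := fun v => congrArg Additive.ofMul (one_smul K (Additive.toMul v))
      mul_smul := fun a b v => congrArg Additive.ofMul (mul_smul a b (Additive.toMul v))
      smul_zero := fun k => congrArg Additive.ofMul (smul_one k)
      smul_add := fun k a b => congrArg Additive.ofMul (smul_mul' k (Additive.toMul a) (Additive.toMul b)) }
  refine POrb.solvable hp.out hq.out hqp K (Additive A) ?_ ?_ hV hK
  · intro k hk
    apply faith k
    intro v
    exact congrArg Additive.toMul (hk (Additive.ofMul v))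
  · intro v
    obtain ⟨a, ha⟩ := horb (Additive.toMul v)
    refine ⟨a, ?_⟩
    rw [← ha]
    congr 1

/-- a normal abelian `q`-group on which a group acts with orbits of `p`-power size -/
theorem solvable_of_conj (hqp : q ≠ p) (A : Subgroup G) [hAn : A.Normal] (hA : ∀ a ∈ A, ∀ b ∈ A, a * b = b * a)
    (hAq : IsPGroup q A) (hAi : ¬ q ∣ A.index) (horb : ∀ v ∈ A, ∃ a, (idx v) = p ^ a) (hC : Group.IsSolvable (centralizer (A : Set G))) :
    Group.IsSolvable G := by
  let φ : G →* MulAut A := MulAut.conjNormal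
  have hφ : ∀ (g : G) (a : A), ((φ g a : A) : G) = g * a * g⁻¹ := fun g a => MulAut.conjNormal_apply g a
  have hker : ∀ g : G, g ∈ φ.ker ↔ g ∈ centralizer (A : Set G) := by
    intro g
    rw [MonoidHom.mem_ker, mem_centralizer_iff]
    constructor
    · intro h a ha
      have h1 := hφ g ⟨a, ha⟩
      rw [h] at h1
      have h2 : a = g * a * g⁻¹ := h1
      rw [eq_mul_inv_iff_mul_eq] at h2
      exact h2
    · intro h
      ext a
      rw [hφ, ← h a a.2, mul_inv_cancel_right]
      rfl
  have hkereq : φ.ker = centralizer (A : Set G) := by ext g; exact hker g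
  have hAker : A ≤ φ.ker := by
    intro a ha
    rw [hker, mem_centralizer_iff]
    intro b hb
    exact hA b hb a ha
  have hK : Group.IsSolvable φ.range := by
    haveI : Finite (MulAut A) := inferInstance
    refine solvable_of_mul (K := φ.range) (A := A) (p := p) (q := q) (fun a b => Subtype.ext (hA a a.2 b b.2)) hqp ?_ ?_
      (IsPGroup.iff_card.1 hAq) ?_
    · intro k hk
      apply Subtype.ext
      ext v
      exact congrArg Subtype.val (hk v)
    · intro v
      obtain ⟨a, ha⟩ := horb v v.2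
      refine ⟨a, ?_⟩
      rw [← ha, ← index_comap_of_surjective (stabilizer φ.range v) φ.rangeRestrict_surjective]
      congr 1
      ext g
      rw [mem_comap, mem_stabilizer_iff, mem_centralizer_singleton_iff]
      constructor
      · intro h
        have h1 : ((φ g v : A) : G) = v := congrArg Subtype.val h
        rw [hφ, mul_inv_eq_iff_eq_mul] at h1
        exact h1
      · intro h
        apply Subtype.ext
        change ((φ g v : A) : G) = v
        rw [hφ, h, mul_inv_cancel_right]
    · intro hd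
      apply hAi
      have h1 : Nat.card φ.range = φ.ker.index := (index_ker φ).symm
      rw [h1] at hd
      exact hd.trans (index_dvd_of_le hAker)
  have h1 : Group.IsSolvable (⊤ : Subgroup G) := by
    apply Rad.solvable_of_map φ
    · rw [top_inf_eq, hkereq]; exact hC
    · rw [← MonoidHom.range_eq_map]; exact hK
  exact Rad.solvable_top h1

include hpq in
theorem solv (Q : Sylow q G) (h : ∀ x : G, (∃ k, orderOf x = q ^ k) → ∃ a, (idx x) = p ^ a)
    [hn : (pPrimeCore q G).Normal] : Group.IsSolvable (G ⧸ pPrimeCore q G) := by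
  obtain ⟨hQc, hL⟩ := case_ne hpq Q h
  set O := pPrimeCore q G with hO
  set A := (Q : Subgroup G).map (QuotientGroup.mk' O) with hA
  have hRO : pCore p G ≤ O := by
    apply H1.Nilp.le_pPrimeCore (H1.Nilp.pCore_normal p)
    obtain ⟨n, hn⟩ := IsPGroup.iff_card.1 (H1.Nilp.pCore_isPGroup (G := G) p)
    rw [hn]
    exact Nat.Coprime.pow_left _ ((Nat.coprime_primes hp.out hq.out).2 hpq)
  have hAn : A.Normal := by
    have h1 := hL.map _ (QuotientGroup.mk'_surjective O)
    rw [Subgroup.map_sup] at h1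
    have h2 : (pCore p G).map (QuotientGroup.mk' O) = ⊥ := by
      rw [Subgroup.map_eq_bot_iff, QuotientGroup.ker_mk']; exact hRO
    rwa [h2, bot_sup_eq] at h1
  have hAi : ¬ q ∣ A.index := by
    intro hd
    exact Q.not_dvd_index (hd.trans (index_map_dvd _ (QuotientGroup.mk'_surjective O)))
  have hAq : IsPGroup q A := Q.2.map _
  have hAc : ∀ a ∈ A, ∀ b ∈ A, a * b = b * a := by
    rintro _ ⟨x, hx, rfl⟩ _ ⟨y, hy, rfl⟩
    rw [← map_mul, ← map_mul, hQc x hx y hy]
  have h0 : pPrimeCore q (G ⧸ O) = ⊥ := H11.Cores.pPrimeCore_quotient q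
  have hcore : pCore q (G ⧸ O) = A := by
    apply le_antisymm
    · exact IsPGroup.le_sylow_of_normal (H1.Nilp.pCore_isPGroup q) (hAq.toSylow hAi)
    · exact H1.Nilp.le_pCore hAn hAq
  have hps : IsPSolvable q (G ⧸ O) := by
    refine H22.PSolv.isPSolvable_of_quotient A ?_ ?_
    · left; exact IsPGroup.iff_card.1 hAq
    · apply H22.PSolv.isPSolvable_of_fac
      right
      rw [← Subgroup.index_eq_card]
      exact ((hq.out.coprime_iff_not_dvd).2 hAi).symm
  have hcen : centralizer (A : Set (G ⧸ O)) ≤ A := by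
    have := H22.PSolv.centralizer_pCore_le hps h0
    rwa [hcore] at this
  refine solvable_of_conj (p := p) (q := q) (Ne.symm hpq) A hAc hAq hAi ?_ ?_
  · rintro _ ⟨x, hx, rfl⟩
    obtain ⟨a, ha⟩ := h x (qel_of_mem Q.2 hx)
    have h1 := Kazarin.index_quotient_dvd O x
    rw [ha] at h1
    obtain ⟨j, -, hj⟩ := (Nat.dvd_prime_pow hp.out).1 h1
    exact ⟨j, hj⟩
  · exact Rad.solvable_of_le hcen (Rad.solvable_of_pgroup hAq)

end ne

end Cfsg.Agent.H23.QBaer
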