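import Cfsg.Prelude.Def_Characters
import Cfsg.Agent.H3_CharCalc
import Cfsg.Agent.H3_CharInd
import Cfsg.Agent.S4444

set_option autoImplicit false
set_option linter.style.haveILetI false

namespace Cfsg.Agent.H23.RealInv

open Cfsg Cfsg.Agent.H3.CharBasic Cfsg.Agent.H3.CharIrr Cfsg.Agent.H3.CharComplete
  Cfsg.Agent.H3.CharInd
open scoped ComplexConjugate

/-- complex conjugation on irreducible characters -/
noncomputable def cj {G : Type*} [Group G] [Finite G] (χ : IrrCharacter G) : IrrCharacter G :=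
  ⟨fun g => conj ((χ : G → ℂ) g), by
    haveI := Fintype.ofFinite G
    exact IsIrr.conj χ.2⟩

theorem cj_apply {G : Type*} [Group G] [Finite G] (χ : IrrCharacter G) (g : G) :
    (cj χ : G → ℂ) g = conj ((χ : G → ℂ) g) := rfl

theorem cj_eq_iff {G : Type*} [Group G] [Finite G] (χ : IrrCharacter G) :
    cj χ = χ ↔ ∀ g, ((χ : G → ℂ) g).im = 0 := by
  constructor
  · intro h g
    have h1 : (cj χ : G → ℂ) g = (χ : G → ℂ) g := by rw [h]
    rw [cj_apply] at h1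
    exact Complex.conj_eq_iff_im.mp h1
  · intro h
    apply Subtype.ext
    funext g
    show (cj χ : G → ℂ) g = (χ : G → ℂ) g
    rw [cj_apply]
    exact Complex.conj_eq_iff_im.mpr (h g)

theorem isConj_inv {G : Type*} [Group G] {a b : G} (h : IsConj a b) : IsConj a⁻¹ b⁻¹ := by
  obtain ⟨c, rfl⟩ := isConj_iff.mp h
  rw [isConj_iff]
  exact ⟨c, by group⟩

/-- the number of real irreducible characters is the number of real classes -/
theorem real_count (G : Type*) [Group G] [Finite G] :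
    Nat.card {χ : IrrCharacter G // ∀ g, ((χ : G → ℂ) g).im = 0} =
      Nat.card {C : ConjClasses G // ∀ g, ConjClasses.mk g = C → IsConj g g⁻¹} := by
  classical
  haveI := Fintype.ofFinite G
  let τ : ConjClasses G → ConjClasses G := fun C => ConjClasses.mk (Quotient.out C)⁻¹
  have hτ : ∀ g : G, τ (ConjClasses.mk g) = ConjClasses.mk g⁻¹ := by
    intro g
    show ConjClasses.mk (Quotient.out (ConjClasses.mk g))⁻¹ = _
    rw [ConjClasses.mk_eq_mk_iff_isConj]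
    apply isConj_inv
    rw [← ConjClasses.mk_eq_mk_iff_isConj]
    exact Quotient.out_eq (ConjClasses.mk g)
  have h := H3.CharCalc.brauer_perm (cj (G := G)) τ (by
    intro χ g g' hg
    rw [hτ, ConjClasses.mk_eq_mk_iff_isConj] at hg
    rw [cj_apply]
    have h1 : (χ : G → ℂ) g' = (χ : G → ℂ) g⁻¹ := IsClass.eq_of_isConj (IsIrr.isClass χ.2) hg
    have h2 := IsChar.inv_eq_conj (IsIrr.isCharacter χ.2) g
    rw [h1, h2, Complex.conj_conj])
  have e1 : Nat.card {χ : IrrCharacter G // ∀ g, ((χ : G → ℂ) g).im = 0} =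
      Nat.card {χ : IrrCharacter G // cj χ = χ} :=
    Nat.card_congr (Equiv.subtypeEquivRight fun χ => (cj_eq_iff χ).symm)
  have e2 : Nat.card {C : ConjClasses G // ∀ g, ConjClasses.mk g = C → IsConj g g⁻¹} =
      Nat.card {C : ConjClasses G // τ C = C} := by
    refine Nat.card_congr (Equiv.subtypeEquivRight fun C => ?_)
    obtain ⟨g, rfl⟩ := ConjClasses.exists_rep C
    rw [hτ]
    constructor
    · intro h
      rw [ConjClasses.mk_eq_mk_iff_isConj]
      exact (h g rfl).symm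
    · intro h g' hg'
      rw [ConjClasses.mk_eq_mk_iff_isConj] at hg' h
      exact hg'.trans (h.symm.trans (isConj_inv hg'.symm))
  rw [e1, e2, h]

theorem fixpt {G : Type*} [Group G] [Finite G] {p : ℕ} [Fact p.Prime] (P : Subgroup G)
    (hP : IsPGroup p P) (X : Set G) (hX : ∀ x ∈ P, ∀ y ∈ X, x * y * x⁻¹ ∈ X)
    (hc : ¬ p ∣ Nat.card X) : ∃ y ∈ X, ∀ x ∈ P, x * y * x⁻¹ = y := by
  classical
  letI : MulAction P X :=
    { smul := fun x y => ⟨x * y * (x : G)⁻¹, hX x x.2 y y.2⟩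
      one_smul := fun y => Subtype.ext (by
        show ((1 : P) : G) * y * ((1 : P) : G)⁻¹ = y
        simp)
      mul_smul := fun a b y => Subtype.ext (by
        show ((a * b : P) : G) * y * ((a * b : P) : G)⁻¹ = a * (b * y * (b : G)⁻¹) * (a : G)⁻¹
        push_cast
        group) }
  obtain ⟨y, hy⟩ := hP.nonempty_fixed_point_of_prime_not_dvd_card X hc
  exact ⟨y, y.2, fun x hx => congrArg Subtype.val (hy ⟨x, hx⟩)⟩

section

variable {G : Type*} [Group G] [Finite G] {p : ℕ} [Fact p.Prime] {P K : Subgroup G}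

theorem class_fix (hP : IsPGroup p P) (hK : ¬ p ∣ Nat.card K)
    (hPK : P ≤ Subgroup.normalizer (K : Set G)) (k : K)
    (hinv : ∀ x ∈ P, ∀ k' : K, (k' : G) = x * (k : G) * x⁻¹ → ConjClasses.mk k' = ConjClasses.mk k) :
    ∃ k' : K, IsConj k k' ∧ ∀ x ∈ P, x * (k' : G) * x⁻¹ = k' := by
  classical
  haveI := Fintype.ofFinite G
  haveI : Fintype K := Fintype.ofFinite K
  have hcard : Nat.card ((fun y : K => (y : G)) '' {y : K | IsConj k y}) ∣ Nat.card K := by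
    rw [Nat.card_image_of_injective Subtype.val_injective]
    have h1 : Nat.card {y : K | IsConj k y} = (Finset.univ.filter (IsConj k)).card := by
      rw [Nat.card_eq_fintype_card]
      exact Fintype.card_subtype _
    rw [h1, card_class_eq_index]
    exact Subgroup.index_dvd_card _
  obtain ⟨y, ⟨y', hy', rfl⟩, hy2⟩ := fixpt P hP ((fun y : K => (y : G)) '' {y : K | IsConj k y}) (by
    rintro x hx _ ⟨y, hy, rfl⟩
    have hmem : ∀ z : K, x * (z : G) * x⁻¹ ∈ K := fun z =>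
      (Subgroup.mem_normalizer_iff.mp (hPK hx) z).mp z.2
    refine ⟨⟨x * (y : G) * x⁻¹, hmem y⟩, ?_, rfl⟩
    show IsConj k _
    have h1 := hinv x hx ⟨x * (k : G) * x⁻¹, hmem k⟩ rfl
    rw [ConjClasses.mk_eq_mk_iff_isConj] at h1
    refine h1.symm.trans ?_
    have hy' : IsConj k y := hy
    obtain ⟨c, rfl⟩ := isConj_iff.mp hy'
    rw [isConj_iff]
    refine ⟨⟨x * (c : G) * x⁻¹, hmem c⟩, Subtype.ext ?_⟩
    push_cast
    group) (fun h => hK (h.trans hcard))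
  exact ⟨y', hy', hy2⟩

theorem conj_fix (hP : IsPGroup p P) (hK : ¬ p ∣ Nat.card K)
    (hPK : P ≤ Subgroup.normalizer (K : Set G)) (a b : K) (ha : ∀ x ∈ P, x * (a : G) * x⁻¹ = a)
    (hb : ∀ x ∈ P, x * (b : G) * x⁻¹ = b) (hab : IsConj a b) :
    ∃ c ∈ K, (∀ x ∈ P, x * c * x⁻¹ = c) ∧ c * a * c⁻¹ = b := by
  classical
  obtain ⟨c0, hc0⟩ := isConj_iff.mp hab
  have hc0' : (c0 : G) * a * (c0 : G)⁻¹ = b := congrArg Subtype.val hc0
  have hmem : ∀ x ∈ P, ∀ z ∈ K, x * z * x⁻¹ ∈ K := fun x hx z hz =>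
      (Subgroup.mem_normalizer_iff.mp (hPK hx) z).mp hz
  let X : Set G := {c | c ∈ K ∧ c * a * c⁻¹ = b}
  have hXcard : Nat.card X ∣ Nat.card K := by
    let C : Subgroup G := K ⊓ Subgroup.centralizer {(a : G)}
    have h1 : Nat.card C ∣ Nat.card K := Subgroup.card_dvd_of_le inf_le_left
    have h2 : X = (fun c => (c0 : G) * c) '' (C : Set G) := by
      ext c
      constructor
      · rintro ⟨hc1, hc2⟩
        refine ⟨(c0 : G)⁻¹ * c, ⟨K.mul_mem (K.inv_mem c0.2) hc1, ?_⟩, by group⟩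
        show (c0 : G)⁻¹ * c ∈ Subgroup.centralizer {(a : G)}
        rw [Subgroup.mem_centralizer_singleton_iff]
        have h3 : c * a = b * c := by rw [← hc2]; group
        have h4 : (c0 : G) * a = b * c0 := by rw [← hc0']; group
        have h5 : (a : G) * (c0 : G)⁻¹ = (c0 : G)⁻¹ * b := by
          rw [← hc0']; group
        rw [mul_assoc, h3, ← mul_assoc, ← h5, mul_assoc]
      · rintro ⟨d, ⟨hd1, hd2⟩, rfl⟩
        refine ⟨K.mul_mem c0.2 hd1, ?_⟩
        have hd3 : d ∈ Subgroup.centralizer {(a : G)} := hd2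
        rw [Subgroup.mem_centralizer_singleton_iff] at hd3
        show (c0 : G) * d * a * ((c0 : G) * d)⁻¹ = b
        rw [← hc0']
        have : (c0 : G) * d * a * ((c0 : G) * d)⁻¹ = c0 * (d * a) * d⁻¹ * (c0 : G)⁻¹ := by group
        rw [this, hd3]
        group
    rw [h2, Nat.card_image_of_injective (mul_right_injective _)]
    exact h1
  obtain ⟨c, ⟨hc1, hc2⟩, hc3⟩ := fixpt P hP X (by
    rintro x hx c ⟨hc1, hc2⟩
    refine ⟨hmem x hx c hc1, ?_⟩
    have h1 := ha x hx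
    have h2 := hb x hx
    calc x * c * x⁻¹ * a * (x * c * x⁻¹)⁻¹ = x * c * (x⁻¹ * a * x) * c⁻¹ * x⁻¹ := by group
      _ = x * (c * a * c⁻¹) * x⁻¹ := by
        have : x⁻¹ * (a : G) * x = a := by
          conv_lhs => rw [← h1]
          group
        rw [this]; group
      _ = b := by rw [hc2, h2]) (fun h => hK (h.trans hXcard))
  exact ⟨c, hc1, hc3, hc2⟩

theorem main (hP : IsPGroup p P) (hK : ¬ p ∣ Nat.card K)
    (hPK : P ≤ Subgroup.normalizer (K : Set G)) :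
    Nat.card {θ : IrrCharacter K // (∀ k : K, ((θ : K → ℂ) k).im = 0) ∧
      (∀ x ∈ P, ∀ k k' : K, (k' : G) = x * (k : G) * x⁻¹ → (θ : K → ℂ) k' = (θ : K → ℂ) k)} =
    Nat.card {c : ConjClasses K // (∀ k : K, ConjClasses.mk k = c → IsConj k k⁻¹) ∧
      ∀ k : K, ConjClasses.mk k = c → ∀ x ∈ P, ∀ k' : K, (k' : G) = x * (k : G) * x⁻¹ →
        ConjClasses.mk k' = c} := by
  classical
  haveI := Fintype.ofFinite G
  haveI : Fintype K := Fintype.ofFinite K
  have hp : p.Prime := Fact.out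
  have hmem : ∀ x ∈ P, ∀ z ∈ K, x * z * x⁻¹ ∈ K := fun x hx z hz =>
      (Subgroup.mem_normalizer_iff.mp (hPK hx) z).mp hz
  have hcop : (Nat.card K).Coprime (Nat.card P) := by
    obtain ⟨n, hn⟩ := IsPGroup.iff_card.mp hP
    rw [hn]
    exact Nat.Coprime.pow_right n ((Nat.Prime.coprime_iff_not_dvd hp).mpr hK).symm
  set C : Subgroup G := K ⊓ Subgroup.centralizer (P : Set G) with hC
  haveI : Fintype C := Fintype.ofFinite C
  have hCK : C ≤ K := inf_le_left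
  have hCP : ∀ c : C, ∀ x ∈ P, x * (c : G) * x⁻¹ = c := by
    intro c x hx
    have h1 : (c : G) ∈ Subgroup.centralizer (P : Set G) := c.2.2
    rw [Subgroup.mem_centralizer_iff.mp h1 x hx]
    group
  obtain ⟨g1, -, g3, g4⟩ := Cfsg.Agent.S4444.result K P hmem hcop p hp hP C hC hCK
  have hR : ∀ (θ : IrrCharacter K) (β : IrrCharacter C),
      (∃ m : ℕ, classInner (fun c : C => (θ : K → ℂ) ⟨c, hCK c.2⟩) (β : C → ℂ) = (m : ℂ) ∧ ¬ p ∣ m) →
      (∃ m : ℕ, classInner (fun c : C => (cj θ : K → ℂ) ⟨c, hCK c.2⟩) (cj β : C → ℂ) = (m : ℂ) ∧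
        ¬ p ∣ m) := by
    rintro θ β ⟨m, hm, hpm⟩
    refine ⟨m, ?_, hpm⟩
    have h1 := congrArg (starRingEnd ℂ) hm
    rw [map_natCast] at h1
    rw [← h1, classInner, classInner, map_mul, map_inv₀, map_natCast, map_sum]
    congr 1
    exact Finset.sum_congr rfl fun c _ => by rw [map_mul]; rfl
  have hinvcj : ∀ θ : IrrCharacter K,
      (∀ x ∈ P, ∀ k k' : K, (k' : G) = x * (k : G) * x⁻¹ → (θ : K → ℂ) k' = (θ : K → ℂ) k) →
      (∀ x ∈ P, ∀ k k' : K, (k' : G) = x * (k : G) * x⁻¹ → (cj θ : K → ℂ) k' = (cj θ : K → ℂ) k) := by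
    intro θ h x hx k k' hk
    rw [cj_apply, cj_apply, h x hx k k' hk]
  -- first bijection
  have e1 : Nat.card {θ : IrrCharacter K // (∀ k : K, ((θ : K → ℂ) k).im = 0) ∧
      (∀ x ∈ P, ∀ k k' : K, (k' : G) = x * (k : G) * x⁻¹ → (θ : K → ℂ) k' = (θ : K → ℂ) k)} =
      Nat.card {β : IrrCharacter C // ∀ c, ((β : C → ℂ) c).im = 0} := by
    have hex : ∀ θ : {θ : IrrCharacter K // (∀ k : K, ((θ : K → ℂ) k).im = 0) ∧
      (∀ x ∈ P, ∀ k k' : K, (k' : G) = x * (k : G) * x⁻¹ → (θ : K → ℂ) k' = (θ : K → ℂ) k)},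
      ∃ β : {β : IrrCharacter C // ∀ c, ((β : C → ℂ) c).im = 0},
        ∃ m : ℕ, classInner (fun c : C => (θ.1 : K → ℂ) ⟨c, hCK c.2⟩) (β.1 : C → ℂ) = (m : ℂ) ∧
          ¬ p ∣ m := by
      rintro ⟨θ, h1, h2⟩
      obtain ⟨β, hβ, huniq⟩ := g1 θ h2
      have h3 := hR θ β hβ
      rw [(cj_eq_iff θ).mpr h1] at h3
      exact ⟨⟨β, (cj_eq_iff β).mp (huniq _ h3)⟩, hβ⟩
    choose f hf using hex
    refine Nat.card_congr (Equiv.ofBijective f ⟨?_, ?_⟩)
    · intro θ θ' h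
      apply Subtype.ext
      obtain ⟨m, hm1, hm2⟩ := hf θ
      obtain ⟨m', hm1', hm2'⟩ := hf θ'
      rw [← h] at hm1'
      exact g3 θ.1 θ'.1 θ.2.2 θ'.2.2 (f θ).1 m m' hm1 hm2 hm1' hm2'
    · rintro ⟨β, hβ⟩
      obtain ⟨θ, hθ, m, hm1, hm2⟩ := g4 β
      have h3 := hR θ β ⟨m, hm1, hm2⟩
      rw [(cj_eq_iff β).mpr hβ] at h3
      obtain ⟨m', hm1', hm2'⟩ := h3
      have h4 := g3 (cj θ) θ (hinvcj θ hθ) hθ β m' m hm1' hm2' hm1 hm2
      refine ⟨⟨θ, (cj_eq_iff θ).mp h4, hθ⟩, ?_⟩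
      obtain ⟨β', hβ', huniq⟩ := g1 θ hθ
      apply Subtype.ext
      exact (huniq _ (hf ⟨θ, (cj_eq_iff θ).mp h4, hθ⟩)).trans (huniq β ⟨m, hm1, hm2⟩).symm
  rw [e1, real_count C]
  -- second bijection
  let F : ConjClasses C → ConjClasses K := ConjClasses.map (Subgroup.inclusion hCK)
  have hFmk : ∀ c : C, F (ConjClasses.mk c) = ConjClasses.mk (⟨c, hCK c.2⟩ : K) := fun c => rfl
  have hFinj : ∀ a b : C, IsConj (⟨a, hCK a.2⟩ : K) (⟨b, hCK b.2⟩ : K) → IsConj a b := by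
    intro a b hab
    obtain ⟨c, hc1, hc2, hc3⟩ := conj_fix hP hK hPK (⟨a, hCK a.2⟩ : K) (⟨b, hCK b.2⟩ : K)
      (hCP a) (hCP b) hab
    rw [isConj_iff]
    refine ⟨⟨c, hc1, ?_⟩, Subtype.ext hc3⟩
    show c ∈ Subgroup.centralizer (P : Set G)
    rw [Subgroup.mem_centralizer_iff]
    intro x hx
    have := hc2 x hx
    calc x * c = (x * c * x⁻¹) * x := by group
      _ = c * x := by rw [this]
  have hFreal : ∀ c : C, IsConj c c⁻¹ ↔ IsConj (⟨c, hCK c.2⟩ : K) (⟨c, hCK c.2⟩ : K)⁻¹ := by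
    intro c
    constructor
    · intro h
      obtain ⟨d, hd⟩ := isConj_iff.mp h
      rw [isConj_iff]
      have hd' : (d : G) * c * (d : G)⁻¹ = (c : G)⁻¹ := congrArg Subtype.val hd
      exact ⟨⟨d, hCK d.2⟩, Subtype.ext hd'⟩
    · intro h
      exact hFinj c c⁻¹ h
  symm
  refine (Nat.card_congr (Equiv.ofBijective (fun D : {D : ConjClasses C // ∀ g, ConjClasses.mk g = D → IsConj g g⁻¹} =>
    (⟨F D.1, ?_, ?_⟩ : {c : ConjClasses K // (∀ k : K, ConjClasses.mk k = c → IsConj k k⁻¹) ∧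
      ∀ k : K, ConjClasses.mk k = c → ∀ x ∈ P, ∀ k' : K, (k' : G) = x * (k : G) * x⁻¹ →
        ConjClasses.mk k' = c})) ⟨?_, ?_⟩)).symm
  · obtain ⟨D, hD⟩ := D
    obtain ⟨c, rfl⟩ := ConjClasses.exists_rep D
    intro k hk
    have hk' : ConjClasses.mk k = ConjClasses.mk (⟨c, hCK c.2⟩ : K) := hk
    rw [ConjClasses.mk_eq_mk_iff_isConj] at hk'
    exact hk'.trans (((hFreal c).mp (hD c rfl)).trans (isConj_inv hk'.symm))
  · obtain ⟨D, hD⟩ := D
    obtain ⟨c, rfl⟩ := ConjClasses.exists_rep D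
    intro k hk x hx k' hk'
    have hk2 : ConjClasses.mk k = ConjClasses.mk (⟨c, hCK c.2⟩ : K) := hk
    show ConjClasses.mk k' = ConjClasses.mk (⟨c, hCK c.2⟩ : K)
    rw [ConjClasses.mk_eq_mk_iff_isConj] at hk2 ⊢
    obtain ⟨d, hd⟩ := isConj_iff.mp hk2.symm
    have hd' : (d : G) * c * (d : G)⁻¹ = k := congrArg Subtype.val hd
    apply IsConj.symm
    rw [isConj_iff]
    refine ⟨⟨x * (d : G) * x⁻¹, hmem x hx _ d.2⟩, Subtype.ext ?_⟩
    show x * (d : G) * x⁻¹ * c * (x * (d : G) * x⁻¹)⁻¹ = k'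
    rw [hk', ← hd']
    have h1 := hCP c x hx
    have h2 : x⁻¹ * (c : G) * x = c := by
      conv_lhs => rw [← h1]
      group
    calc x * (d : G) * x⁻¹ * c * (x * (d : G) * x⁻¹)⁻¹ = x * d * (x⁻¹ * c * x) * (d : G)⁻¹ * x⁻¹ := by group
      _ = x * (d * c * (d : G)⁻¹) * x⁻¹ := by rw [h2]; group
  · rintro ⟨D, hD⟩ ⟨D', hD'⟩ h
    obtain ⟨c, rfl⟩ := ConjClasses.exists_rep D
    obtain ⟨c', rfl⟩ := ConjClasses.exists_rep D'
    apply Subtype.ext
    have h1 : ConjClasses.mk (⟨c, hCK c.2⟩ : K) = ConjClasses.mk (⟨c', hCK c'.2⟩ : K) :=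
      congrArg Subtype.val h
    rw [ConjClasses.mk_eq_mk_iff_isConj] at h1
    show ConjClasses.mk c = ConjClasses.mk c'
    rw [ConjClasses.mk_eq_mk_iff_isConj]
    exact hFinj c c' h1
  · rintro ⟨D, hD1, hD2⟩
    obtain ⟨k, rfl⟩ := ConjClasses.exists_rep D
    obtain ⟨k', hk1, hk2⟩ := class_fix hP hK hPK k (hD2 k rfl)
    have hk'C : (k' : G) ∈ C := by
      refine ⟨k'.2, ?_⟩
      show (k' : G) ∈ Subgroup.centralizer (P : Set G)
      rw [Subgroup.mem_centralizer_iff]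
      intro x hx
      calc x * (k' : G) = (x * k' * x⁻¹) * x := by group
        _ = k' * x := by rw [hk2 x hx]
    have hkk : ConjClasses.mk k' = ConjClasses.mk k := by
      rw [ConjClasses.mk_eq_mk_iff_isConj]
      exact hk1.symm
    refine ⟨⟨ConjClasses.mk (⟨k', hk'C⟩ : C), ?_⟩, Subtype.ext hkk⟩
    intro g hg
    rw [ConjClasses.mk_eq_mk_iff_isConj] at hg
    have h1 : IsConj (⟨k', hk'C⟩ : C) (⟨k', hk'C⟩ : C)⁻¹ := by
      rw [hFreal]
      exact hD1 k' hkk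
    exact hg.trans (h1.trans (isConj_inv hg.symm))

end

end Cfsg.Agent.H23.RealInv
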