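import Mathlib

namespace Cfsg.Agent.H24.Hughes

open Subgroup Cfsg.Agent Finset

section Norm

variable {G V : Type*} [Group G] [CommGroup V] (φ : G →* MulAut V) (ι : V →* G)

theorem pow_formula (hι : ∀ g v, ι (φ g v) = g * ι v * g⁻¹) (u : G) (v : V) (n : ℕ) :
    (u * ι v) ^ n = ι (∏ i ∈ range n, φ (u ^ (i + 1)) v) * u ^ n := by
  induction n with
  | zero => simp
  | succ n ih =>
    rw [pow_succ', ih, prod_range_succ', mul_comm (∏ i ∈ range n, _)]
    have h1 : ∏ k ∈ range n, φ (u ^ (k + 1 + 1)) v = φ u (∏ k ∈ range n, φ (u ^ (k + 1)) v) := by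
      rw [map_prod]
      apply prod_congr rfl
      intro k _
      rw [pow_succ' u (k + 1), map_mul, MulAut.mul_apply]
    rw [h1, zero_add, pow_one, ← map_mul, hι, map_mul, pow_succ']
    group

theorem norm_eq_one (hinj : Function.Injective ι) (hι : ∀ g v, ι (φ g v) = g * ι v * g⁻¹) {u : G} {v : V} {p : ℕ}
    (h1 : u ^ p = 1) (h2 : (u * ι v) ^ p = 1) : ∏ i ∈ range p, φ (u ^ i) v = 1 := by
  rw [pow_formula φ ι hι, h1, mul_one] at h2
  have h3 : ∏ i ∈ range p, φ (u ^ (i + 1)) v = 1 := hinj (by rw [h2, map_one])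
  have h4 : ∏ i ∈ range (p + 1), φ (u ^ i) v = (∏ i ∈ range p, φ (u ^ (i + 1)) v) * φ (u ^ 0) v :=
    prod_range_succ' _ _
  rw [prod_range_succ, h1, pow_zero, h3, one_mul] at h4
  exact mul_eq_right.1 h4

omit ι in
theorem norm_partition [Finite G] {Q : Subgroup G} {y : G} {p : ℕ} (hp : p.Prime) (hy : y ∈ normalizer (Q : Set G))
    (hu : ∀ u : G, (∃ z ∈ Q, u = y * z) → u ^ p = 1)
    (hN : ∀ u : G, (∃ z ∈ Q, u = y * z) → ∀ v : V, ∏ i ∈ range p, φ (u ^ i) v = 1) (v : V) :
    letI := Fintype.ofFinite Q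
    v ^ (Nat.card Q) = ∏ z : Q, φ (z : G) v := by
  letI := Fintype.ofFinite Q
  show v ^ (Nat.card Q) = ∏ z : Q, φ (z : G) v
  have hp1 : 0 < p := hp.pos
  have hA : ∏ i ∈ range p, ∏ z : Q, φ ((y * z) ^ i) v = 1 := by
    rw [prod_comm]
    apply prod_eq_one
    intro z _
    exact hN _ ⟨z, z.2, rfl⟩ v
  have hB : ∏ i ∈ range p, ∏ z : Q, φ (y ^ i * z) v = 1 := by
    have := hN y ⟨1, one_mem _, (mul_one y).symm⟩ (∏ z : Q, φ (z : G) v)
    rw [← this]
    apply prod_congr rfl
    intro i _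
    rw [map_prod]
    apply prod_congr rfl
    intro z _
    rw [map_mul, MulAut.mul_apply]
  obtain ⟨n, rfl⟩ : ∃ n, p = n + 1 := ⟨p - 1, by omega⟩
  rw [prod_range_succ'] at hA hB
  have hAB : ∏ i ∈ range n, ∏ z : Q, φ ((y * z) ^ (i + 1)) v = ∏ i ∈ range n, ∏ z : Q, φ (y ^ (i + 1) * z) v := by
    apply prod_congr rfl
    intro i hi
    rw [mem_range] at hi
    have hmem : ∀ (k : ℕ) (z : Q), (y ^ k)⁻¹ * (y * z) ^ k ∈ Q := by
      intro k
      induction k with
      | zero => intro z; simp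
      | succ k ih =>
        intro z
        have h1 := ih z
        have h2 : (y ^ (k + 1))⁻¹ * (y * z) ^ (k + 1) =
            (y ^ k)⁻¹ * z * (y ^ k) * ((y ^ k)⁻¹ * (y * z) ^ k) := by
          rw [pow_succ' y k, pow_succ' (y * (z : G)) k]
          generalize (y * (z : G)) ^ k = w
          generalize y ^ k = x
          group
        rw [h2]
        refine mul_mem ?_ h1
        have h4 : (y ^ k)⁻¹ ∈ normalizer (Q : Set G) := inv_mem (pow_mem hy k)
        have h5 := (mem_normalizer_iff.1 h4 (z : G)).1 z.2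
        rwa [inv_inv] at h5
    let f : Q → Q := fun z => ⟨(y ^ (i + 1))⁻¹ * (y * z) ^ (i + 1), hmem (i + 1) z⟩
    have hcop : (i + 1).Coprime (n + 1) := by
      rw [Nat.coprime_comm]
      rw [Nat.Prime.coprime_iff_not_dvd hp]
      intro h
      have := Nat.le_of_dvd (by omega) h
      omega
    have hf : Function.Injective f := by
      intro z z' h
      have h1 : (y * z) ^ (i + 1) = (y * z') ^ (i + 1) := by
        have := congrArg Subtype.val h
        exact mul_left_cancel this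
      have h2 : ∀ w : Q, ∃ m : ℕ, True ∧ m % (n + 1) = 1 % (n + 1) ∧ (i + 1) ∣ m := by
        intro _
        obtain ⟨m, hm⟩ := Nat.exists_mul_mod_eq_one_of_coprime hcop hp.one_lt
        refine ⟨(i + 1) * m, trivial, ?_, dvd_mul_right _ _⟩
        rw [hm.2, Nat.mod_eq_of_lt hp.one_lt]
      obtain ⟨m, -, hm, ⟨c, hc⟩⟩ := h2 z
      have h3 : ∀ w : Q, y * (w : G) = ((y * w) ^ (i + 1)) ^ c := by
        intro w
        rw [← pow_mul, ← hc]
        have hw := hu (y * w) ⟨w, w.2, rfl⟩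
        rw [← Nat.mod_add_div m (n + 1), pow_add, pow_mul, hw, one_pow, mul_one, hm,
          Nat.mod_eq_of_lt hp.one_lt, pow_one]
      have h4 : y * (z : G) = y * z' := by rw [h3 z, h3 z', h1]
      exact Subtype.ext (mul_left_cancel h4)
    have hfb : Function.Bijective f := Finite.injective_iff_bijective.1 hf
    refine Fintype.prod_bijective f hfb _ _ ?_
    intro z
    change _ = φ (y ^ (i + 1) * ((y ^ (i + 1))⁻¹ * (y * z) ^ (i + 1))) v
    rw [mul_inv_cancel_left]
  rw [hAB] at hA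
  have h0 : ∏ z : Q, φ ((y * (z : G)) ^ 0) v = ∏ z : Q, φ (y ^ 0 * (z : G)) v :=
    mul_left_cancel (hA.trans hB.symm)
  simp only [pow_zero, one_mul, map_one, MulAut.one_apply, prod_const, card_univ] at h0
  rw [← h0, Nat.card_eq_fintype_card]

omit ι in
theorem acts_trivially [Finite G] [Finite V] {Q : Subgroup G} {y : G} {p : ℕ} (hp : p.Prime) (hy : y ∈ normalizer (Q : Set G))
    (hu : ∀ u : G, (∃ z ∈ Q, u = y * z) → u ^ p = 1)
    (hN : ∀ u : G, (∃ z ∈ Q, u = y * z) → ∀ v : V, ∏ i ∈ range p, φ (u ^ i) v = 1)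
    (hcop : (Nat.card V).Coprime (Nat.card Q)) (z : G) (hz : z ∈ Q) (v : V) : φ z v = v := by
  letI := Fintype.ofFinite Q
  obtain ⟨w, rfl⟩ : ∃ w : V, w ^ (Nat.card Q) = v := (powCoprime hcop).surjective v
  have h1 := norm_partition φ hp hy hu hN w
  rw [h1, map_prod]
  refine Fintype.prod_bijective (fun x : Q => (⟨z, hz⟩ : Q) * x) (Group.mulLeft_bijective _) _ _ ?_
  intro x
  rw [Subgroup.coe_mul, map_mul, MulAut.mul_apply]

end Norm

/-- internal form -/
theorem centralizes {G : Type*} [Group G] [Finite G] {H V Q : Subgroup G} (hV : V.Normal) (hVH : V ≤ H)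
    (hVc : ∀ a ∈ V, ∀ b ∈ V, a * b = b * a) (hQH : Q ≤ H) {p : ℕ} (hp : p.Prime)
    (hH : ∀ x : G, x ∉ H → x ^ p = 1) {y : G} (hy : y ∉ H) (hyQ : y ∈ normalizer (Q : Set G))
    (hcop : (Nat.card V).Coprime (Nat.card Q)) : Q ≤ centralizer (V : Set G) := by
  letI iV : CommGroup V := { (inferInstance : Group V) with mul_comm := fun a b => Subtype.ext (hVc a a.2 b b.2) }
  have hnotin : ∀ z ∈ Q, ∀ v ∈ V, y * z * v ∉ H := by
    intro z hz v hv h
    apply hy
    have h1 : y * z ∈ H := by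
      have := H.mul_mem h (H.inv_mem (hVH hv))
      rwa [mul_inv_cancel_right] at this
    have := H.mul_mem h1 (H.inv_mem (hQH hz))
    rwa [mul_inv_cancel_right] at this
  intro z hz
  rw [mem_centralizer_iff]
  intro v hv
  have h1 := acts_trivially (MulAut.conjNormal (H := V)) hp hyQ
    (by
      rintro u ⟨z, hz, rfl⟩
      apply hH
      have := hnotin z hz 1 (one_mem _)
      rwa [mul_one] at this)
    (by
      rintro u ⟨z, hz, rfl⟩ v
      refine norm_eq_one (MulAut.conjNormal (H := V)) V.subtype V.subtype_injective ?_ ?_ ?_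
      · intro g v
        exact MulAut.conjNormal_apply g v
      · apply hH
        have := hnotin z hz 1 (one_mem _)
        rwa [mul_one] at this
      · apply hH
        exact hnotin z hz v v.2) hcop z hz ⟨v, hv⟩
  have h2 : z * v * z⁻¹ = v := congrArg Subtype.val h1
  rw [mul_inv_eq_iff_eq_mul] at h2
  exact h2.symm

end Cfsg.Agent.H24.Hughes
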