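import Mathlib
import Cfsg.Agent.H2_ZJ2
import Cfsg.Agent.H2_PStab
import Cfsg.Agent.H2_PCons
import Cfsg.Agent.H12_Puig4

/-! Glauberman's ZJ theorem for p-constrained p-stable groups and local control. -/

set_option autoImplicit false
set_option linter.style.haveILetI false

open Subgroup Cfsg
open scoped commutatorElement Pointwise

universe u

namespace Cfsg.Agent.H2.ZJ4

open Cfsg.Agent.H2.Basic Cfsg.Agent.H2.Good Cfsg.Agent.H1.Basic Cfsg.Agent.H12.ZJ Cfsg.Agent.H2.PFun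
  Cfsg.Agent.H2.ZJ2

variable {G : Type u} [Group G] [Finite G] {p : ℕ} [hp : Fact p.Prime]

theorem mem_pCore_of_cond {B A : Subgroup G} [hBn : B.Normal] (h : Cfsg.Agent.H2.PStab.Cond p B A) {a : G} (ha : a ∈ A) :
    (QuotientGroup.mk a : G ⧸ centralizer (B : Set G)) ∈ pCore p (G ⧸ centralizer (B : Set G)) := by
  obtain ⟨D, hCD, -, hND, ⟨k, hk⟩, hAD⟩ := h
  have hDn : D.Normal := by
    rw [← normalizer_eq_top_iff, eq_top_iff]
    refine le_trans ?_ hND
    rw [normalizer_eq_top]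
  have h1 : D.map (QuotientGroup.mk' (centralizer (B : Set G))) ≤ pCore p (G ⧸ centralizer (B : Set G)) := by
    refine Cfsg.Agent.H1.Nilp.le_pCore (hDn.map _ (QuotientGroup.mk'_surjective _)) ?_
    rw [IsPGroup.iff_card]
    refine ⟨k, ?_⟩
    rw [← hk, ← relIndex_bot_left, ← relIndex_comap, MonoidHom.comap_bot, QuotientGroup.ker_mk']
  exact h1 (mem_map_of_mem _ (hAD ha))

/-- `IsPStable` (with `O_{p'} = 1`) gives stability on normal `p`-subgroups -/
theorem stab_of_isPStable (hO : pPrimeCore p G = ⊥) (hs : IsPStable p G) (B : Subgroup G) [hBn : B.Normal]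
    (hB : IsPGroup p B) (a : G) (hq : ⁅⁅B, zpowers a⁆, zpowers a⁆ = ⊥) (ha : ∃ k, a ^ (p ^ k) = 1) :
    (QuotientGroup.mk a : G ⧸ centralizer (B : Set G)) ∈ pCore p (G ⧸ centralizer (B : Set G)) := by
  obtain ⟨-, -, h⟩ := Cfsg.Agent.H2.PStab.stable_iff.1 hs
  obtain ⟨k, hk⟩ := ha
  have hA : IsPGroup p (zpowers a) := by
    rintro ⟨_, ⟨i, rfl⟩⟩
    refine ⟨k, Subtype.ext ?_⟩
    change (a ^ i) ^ (p ^ k) = 1
    rw [← zpow_natCast, ← zpow_mul, mul_comm, zpow_mul, zpow_natCast, hk, one_zpow]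
  have h1 := h (zpowers a) B hA hB (by rw [normalizer_eq_top]; exact le_top)
    (by rw [Cfsg.Agent.H2.PStab.pPrimePCore_of_bot hO]; exact Cfsg.Agent.H1.Nilp.le_pCore hBn hB)
    (by rw [hO, bot_sup_eq]; exact hBn) hq
  exact mem_pCore_of_cond h1 (mem_zpowers a)

theorem normal_of_isPStable (hp2 : p ≠ 2) {n : ℕ} (hn : n = 0 ∨ n = p) (hO : pPrimeCore p G = ⊥)
    (hc : IsPConstrained p G) (hs : IsPStable p G) (P : Sylow p G) : (ZJJ n (P : Subgroup G)).Normal :=
  zjj_normal hp2 hn (stab_of_isPStable hO hs) ((Cfsg.Agent.H2.PCons.pc_iff_of_bot hO).1 hc) P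

theorem sup_of_isPStable (hp2 : p ≠ 2) {n : ℕ} (hn : n = 0 ∨ n = p)
    (hc : IsPConstrained p G) (hs : IsPStable p G) (P : Sylow p G) :
    pPrimeCore p G ⊔ normalizer (ZJJ n (P : Subgroup G) : Set G) = ⊤ := by
  have hKn := Cfsg.Agent.H1.Nilp.pPrimeCore_normal (G := G) p
  have hKc := Cfsg.Agent.H1.Nilp.pPrimeCore_coprime (G := G) p
  have hO := (Cfsg.Agent.H2.PStab.stable_iff.1 hs).2.1
  apply Cfsg.Agent.H12.Puig.sup_normalizer_of_map_normal (P.isPGroup'.to_le (ZJJ_le n _)) hKc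
  have hinj : Set.InjOn (QuotientGroup.mk' (pPrimeCore p G)) (P : Subgroup G) := by
    intro x hx y hy hxy
    have := (Cfsg.Agent.H2.ThompFact.injective_comp (pPrimeCore p G) hKc P P.isPGroup') (a₁ := ⟨x, hx⟩) (a₂ := ⟨y, hy⟩) hxy
    exact congrArg Subtype.val this
  rw [← ZJJ_map _ hinj]
  exact normal_of_isPStable hp2 hn (Cfsg.Agent.H11.Cores.pPrimeCore_quotient p)
    ((Cfsg.Agent.H2.PCons.pc_iff_of_bot (Cfsg.Agent.H11.Cores.pPrimeCore_quotient p)).2
      (Cfsg.Agent.H2.PCons.pc_iff_quotient.1 hc)) ((Cfsg.Agent.H2.PStab.stable_quotient_iff hO).1 hs)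
    (P.mapSurjective (QuotientGroup.mk'_surjective (pPrimeCore p G)))

theorem exists_grow {P R : Subgroup G} (hP : IsPGroup p P) (h : R < P) :
    ∃ U : Subgroup G, R < U ∧ U ≤ P ∧ U ≤ normalizer (R : Set G) := by
  have := hP.isNilpotent
  have h1 : R.subgroupOf P < ⊤ := by
    rw [lt_top_iff_ne_top]
    intro h'
    rw [subgroupOf_eq_top] at h'
    exact h.not_ge h'
  have h2 := (Group.normalizerCondition_of_isNilpotent (G := P)) _ h1
  refine ⟨(normalizer ((R.subgroupOf P : Subgroup P) : Set P)).map P.subtype, ?_, map_subtype_le _, ?_⟩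
  · have h3 : R = (R.subgroupOf P).map P.subtype := by
      rw [subgroupOf_map_subtype, inf_eq_left.2 h.le]
    rw [h3]
    have h4 : ((R.subgroupOf P).map P.subtype).subgroupOf P = R.subgroupOf P :=
      comap_map_eq_self_of_injective (subtype_injective _) _
    rw [h4]
    exact (map_lt_map_iff_of_injective (subtype_injective _)).2 h2
  · rintro _ ⟨x, hx, rfl⟩
    apply mem_normalizer_fintype
    intro y hy
    exact (mem_normalizer_iff.1 hx ⟨y, h.le hy⟩).1 hy

/-- Control by a functor whose value is normal in every `p`-local. -/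
theorem control (F : PF.{u} p) (P : Sylow p G)
    (hloc : ∀ Q : Subgroup G, IsPGroup p Q → Q ≠ ⊥ → ∀ T : Sylow p (normalizer (Q : Set G)),
      (F.W (T : Subgroup (normalizer (Q : Set G)))).Normal)
    (n : ℕ) : ∀ Q : Subgroup G, Q ≤ P → Q ≠ ⊥ → 
      Nat.card (P : Subgroup G) - Nat.card ((P : Subgroup G) ⊓ normalizer (Q : Set G) : Subgroup G) = n →
      normalizer (Q : Set G) ≤ normalizer (F.W (P : Subgroup G) : Set G) := by
  induction n using Nat.strong_induction_on with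
  | _ n ih =>
  intro Q hQP hQ0 hn
  set N := normalizer (Q : Set G) with hN
  set N0 := normalizer (F.W (P : Subgroup G) : Set G) with hN0
  set R := (P : Subgroup G) ⊓ N with hR
  have hQp : IsPGroup p Q := P.isPGroup'.to_le hQP
  have hRp : IsPGroup p R := P.isPGroup'.to_le inf_le_left
  have hQR : Q ≤ R := le_inf hQP le_normalizer
  have hR0 : R ≠ ⊥ := fun h => hQ0 (le_bot_iff.1 (h ▸ hQR))
  -- images of normality
  have hloc' : ∀ (T' : Subgroup G) (T : Sylow p N), (T : Subgroup N).map N.subtype = T' →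
      N ≤ normalizer (F.W T' : Set G) := by
    intro T' T hT
    have h1 := hloc Q hQp hQ0 T
    rw [← hT, F.map_subtype]
    intro x hx
    rw [mem_normalizer_iff]
    intro y
    constructor
    · rintro ⟨z, hz, rfl⟩
      exact ⟨⟨x, hx⟩ * z * ⟨x, hx⟩⁻¹, h1.conj_mem z hz _, rfl⟩
    · rintro ⟨z, hz, hzy⟩
      refine ⟨⟨x, hx⟩⁻¹ * z * ⟨x, hx⟩, ?_, ?_⟩
      · have := h1.conj_mem z hz (⟨x, hx⟩⁻¹)
        rwa [inv_inv] at this
      · have h1 : (z : G) = x * y * (x : G)⁻¹ := hzy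
        change x⁻¹ * (z : G) * x = y
        rw [h1]; group
  rcases eq_or_ne R P with hRP | hRP
  · -- `P ≤ N`
    have hPN : (P : Subgroup G) ≤ N := by rw [← hRP]; exact inf_le_right
    exact hloc' P (P.subtype hPN) (by rw [Sylow.coe_subtype, subgroupOf_map_subtype, inf_eq_left.2 hPN])
  have hRltP : R < P := lt_of_le_of_ne inf_le_left hRP
  have hcR : Nat.card R < Nat.card (P : Subgroup G) := Cfsg.Agent.H2.Card.card_lt_of_lt hRltP
  have hIH : ∀ Q' : Subgroup G, Q' ≤ P → Q' ≠ ⊥ → ∀ U : Subgroup G, U ≤ P → U ≤ normalizer (Q' : Set G) →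
      Nat.card R < Nat.card U → normalizer (Q' : Set G) ≤ N0 := by
    intro Q' hQ'P hQ'0 U hUP hUN hlt
    refine ih _ ?_ Q' hQ'P hQ'0 rfl
    have h1 : Nat.card U ≤ Nat.card ((P : Subgroup G) ⊓ normalizer (Q' : Set G) : Subgroup G) :=
      Nat.le_of_dvd Nat.card_pos (card_dvd_of_le (le_inf hUP hUN))
    omega
  obtain ⟨U, hRU, hUP, hUN⟩ := exists_grow P.isPGroup' hRltP
  have hcU := Cfsg.Agent.H2.Card.card_lt_of_lt hRU
  have hNR : normalizer (R : Set G) ≤ N0 := hIH R inf_le_left hR0 U hUP hUN hcU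
  obtain ⟨T, hT⟩ := IsPGroup.exists_le_sylow (G := N) (P := R.subgroupOf N)
    (hRp.comap_of_injective _ N.subtype_injective)
  set T' := (T : Subgroup N).map N.subtype with hT'
  have hT'p : IsPGroup p T' := T.isPGroup'.map _
  have hRT' : R ≤ T' := by
    have h1 : R = (R.subgroupOf N).map N.subtype := by
      rw [subgroupOf_map_subtype, inf_eq_left.2 inf_le_right]
    rw [h1]; exact map_mono hT
  rcases eq_or_lt_of_le hRT' with heq | hlt
  · have h1 : N ≤ normalizer (F.W R : Set G) := hloc' R T heq.symm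
    refine h1.trans (hIH (F.W R) ((F.le R).trans inf_le_left) (F.ne_bot hRp hR0) U hUP
      (hUN.trans (F.normalizer_le R)) hcU)
  · obtain ⟨V, hRV, hVT, hVN⟩ := exists_grow hT'p hlt
    have hVN0 : V ≤ N0 := hVN.trans hNR
    have hPN0 : (P : Subgroup G) ≤ N0 := le_normalizer.trans (F.normalizer_le _)
    obtain ⟨x, hx, hxV⟩ : ∃ x ∈ N0, MulAut.conj x • V ≤ (P : Subgroup G) := by
      obtain ⟨S, hS⟩ := IsPGroup.exists_le_sylow (G := N0) (P := V.subgroupOf N0)
        ((hT'p.to_le hVT).comap_of_injective _ N0.subtype_injective)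
      obtain ⟨x, hx⟩ := MulAction.exists_smul_eq N0 S (P.subtype hPN0)
      refine ⟨x, x.2, ?_⟩
      intro y hy
      rw [mem_conj] at hy
      have h1 : (⟨(x : G)⁻¹ * y * x, hVN0 hy⟩ : N0) ∈ (S : Subgroup N0) := hS hy
      have h2 : x * ⟨(x : G)⁻¹ * y * x, hVN0 hy⟩ * x⁻¹ ∈ ((P.subtype hPN0 : Sylow p N0) : Subgroup N0) := by
        rw [← hx]
        exact (conj_mem_conj (g := x) (H := (S : Subgroup N0))).2 h1
      have h3 : (x : G) * ((x : G)⁻¹ * y * x) * (x : G)⁻¹ ∈ (P : Subgroup G) := h2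
      have h4 : (x : G) * ((x : G)⁻¹ * y * x) * (x : G)⁻¹ = y := by group
      rwa [h4] at h3
    have hQV : Q ≤ V := hQR.trans hRV.le
    have h1 := hIH (MulAut.conj x • Q) ((conj_le_conj.2 hQV).trans hxV) (by
      intro h
      apply hQ0
      rw [← card_eq_one, ← card_conj x Q, h, card_bot]) (MulAut.conj x • V) hxV (by
        rw [normalizer_conj]
        exact conj_le_conj.2 (hVT.trans (map_subtype_le _))) (by
        rw [card_conj]; exact Cfsg.Agent.H2.Card.card_lt_of_lt hRV)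
    rw [normalizer_conj] at h1
    have h2 : MulAut.conj x • N0 = N0 := conj_eq_iff_mem_normalizer.2 (le_normalizer hx)
    rw [← h2, conj_le_conj] at h1
    exact h1

end Cfsg.Agent.H2.ZJ4
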