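import Mathlib
import Cfsg.Agent.H2_ZJ4
import Cfsg.Agent.H2_Fusion4
import Cfsg.Agent.S0659
import Cfsg.Agent.S0556
import Cfsg.Agent.H1_Coprime2

namespace Cfsg.Agent.H24.MaxCent

open Subgroup Cfsg.Agent

variable {G : Type*} [Group G] [Finite G]

/-- the centre of `S` lies in `Z(J(S))` (abelian version) -/
theorem center_le_ZJ (S : Subgroup G) : S ⊓ centralizer (S : Set G) ≤ centerThompsonAOf S := by
  rw [H2.ZJ.centerThompsonAOf_eq]
  intro y hy
  obtain ⟨hyS, hyC⟩ := mem_inf.1 hy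
  obtain ⟨A0, hA0⟩ := H2.Thompson.exists_max 0 S
  obtain ⟨hA1, hA2⟩ := H2.Thompson.max_map_subtype hA0
  set A := A0.map S.subtype with hA
  have hAS : A ≤ S := map_subtype_le _
  have hyA : y ∈ A := by
    refine H2.Thompson.le_of_centralizes (p := 0) hAS hA1 hA2 (B := S ⊓ centralizer (S : Set G)) inf_le_left
      (fun b _ => pow_zero b) ?_ hy
    exact inf_le_right.trans (centralizer_le hAS)
  have hJS : thompsonSubgroupOf 0 S ≤ S := H2.Thompson.thompsonOf_le S
  have h1 : y ∈ thompsonSubgroupOf 0 S := H2.Thompson.le_thompsonOf hAS hA1 hA2 hyA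
  rw [H2.ZJ.ZJ, H2.ThompFact.OZ, H2.ZJ.omegaOne_zero]
  exact mem_inf.2 ⟨h1, centralizer_le hJS hyC⟩

theorem ZJ_le (S : Subgroup G) : centerThompsonAOf S ≤ S := by
  rw [H2.ZJ.centerThompsonAOf_eq]; exact H2.ZJ.ZJ_le S

theorem normalizer_le_ZJ (S : Subgroup G) :
    normalizer (S : Set G) ≤ normalizer (centerThompsonAOf S : Set G) := by
  rw [H2.ZJ.centerThompsonAOf_eq]; exact H2.ZJ.normalizer_le S

theorem ZJ_ne_bot {q : ℕ} [Fact q.Prime] {S : Subgroup G} (hS : IsPGroup q S) (hne : S ≠ ⊥) :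
    centerThompsonAOf S ≠ ⊥ := by
  intro h
  have : Nontrivial S := (Subgroup.nontrivial_iff_ne_bot S).2 hne
  have h1 := hS.center_nontrivial
  obtain ⟨⟨z, hz⟩, hz1⟩ := exists_ne (1 : center S)
  have h2 : (z : G) ∈ S ⊓ centralizer (S : Set G) := by
    refine mem_inf.2 ⟨z.2, ?_⟩
    rw [mem_centralizer_iff]
    intro s hs
    have := (mem_center_iff.1 hz) ⟨s, hs⟩
    exact congrArg Subtype.val this
  have h3 := center_le_ZJ S h2
  rw [h, mem_bot] at h3
  apply hz1
  apply Subtype.ext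
  apply Subtype.ext
  exact h3

/-- maximal normal subgroups have solvable quotient when ... : a normal coatom has cyclic quotient -/
theorem isCyclic_quotient_of_coatom {M : Subgroup G} [hn : M.Normal] (hM : IsCoatom M) : IsCyclic (G ⧸ M) := by
  have hlt : M < ⊤ := lt_top_iff_ne_top.2 hM.1
  obtain ⟨g, -, hg⟩ := SetLike.exists_of_lt hlt
  refine ⟨⟨QuotientGroup.mk g, fun x => ?_⟩⟩
  obtain ⟨x, rfl⟩ := QuotientGroup.mk_surjective x
  have h1 : M < M ⊔ zpowers g := by
    refine lt_of_le_of_ne le_sup_left fun h => hg ?_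
    rw [h]
    exact (le_sup_right : zpowers g ≤ M ⊔ zpowers g) (mem_zpowers g)
  have h2 := hM.2 _ h1
  have h3 : x ∈ M ⊔ zpowers g := by rw [h2]; trivial
  rw [← SetLike.mem_coe, Subgroup.normal_mul] at h3
  obtain ⟨m, hm, z, hz, rfl⟩ := h3
  obtain ⟨k, rfl⟩ := mem_zpowers_iff.1 hz
  refine mem_zpowers_iff.2 ⟨k, ?_⟩
  rw [← QuotientGroup.mk_zpow]
  rw [QuotientGroup.mk_mul, (QuotientGroup.eq_one_iff m).2 hm, one_mul]

theorem solvable_of_normal_coatom {M : Subgroup G} (hn : M.Normal) (hM : IsCoatom M)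
    (hs : Group.IsSolvable M) : Group.IsSolvable G := by
  have h1 := isCyclic_quotient_of_coatom hM
  have h2 : Group.IsSolvable (G ⧸ M) := by
    have : ∀ a b : G ⧸ M, a * b = b * a := fun a b => by
      letI := IsCyclic.commGroup (α := G ⧸ M)
      exact mul_comm a b
    exact Group.isSolvable_of_comm this
  exact Group.isSolvable_of_ker_le_range (M.subtype) (QuotientGroup.mk' M) (by
    rw [QuotientGroup.ker_mk', range_subtype])

/-- `M` maximal nilpotent containing a Sylow `q`-subgroup `S` with `ZJ(S)` not normal -/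
theorem npc_of_maximal {q : ℕ} [Fact q.Prime] (hq : q ≠ 2) {M : Subgroup G} (hM : IsCoatom M)
    [Group.IsNilpotent M] (S : Sylow q G) (hSM : (S : Subgroup G) ≤ M)
    (hZ : ¬ (centerThompsonAOf (S : Subgroup G)).Normal) : HasNormalPComplement q G := by
  have h1 : M ≤ normalizer ((S : Subgroup G) : Set G) := by
    have h2 : ((S.subtype hSM : Sylow q M) : Subgroup M).Normal :=
      inferInstance
    rw [Sylow.coe_subtype] at h2
    exact (Subgroup.normal_subgroupOf_iff_le_normalizer hSM).1 h2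
  have h3 : M ≤ normalizer (centerThompsonAOf (S : Subgroup G) : Set G) := h1.trans (normalizer_le_ZJ _)
  have h4 : normalizer (centerThompsonAOf (S : Subgroup G) : Set G) ≠ ⊤ := by
    intro h; exact hZ (normalizer_eq_top_iff.1 h)
  have h5 : normalizer (centerThompsonAOf (S : Subgroup G) : Set G) = M := by
    rcases hM.le_iff.1 h3 with h | h
    · exact absurd h h4
    · exact h
  apply Cfsg.Agent.S0659.result hq S
  rw [h5]
  exact H2.Fusion4.npc_of_nilpotent

/-- a Sylow subgroup of a maximal nilpotent subgroup is Sylow in `G` or normal in `G` -/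
theorem sylow_or_normal {q : ℕ} [Fact q.Prime] {M : Subgroup G} (hM : IsCoatom M)
    [Group.IsNilpotent M] (T : Sylow q M) :
    (∃ S : Sylow q G, (S : Subgroup G) = (T : Subgroup M).map M.subtype) ∨
      ((T : Subgroup M).map M.subtype).Normal := by
  set T' := (T : Subgroup M).map M.subtype with hT'
  have hTM : T' ≤ M := map_subtype_le _
  have hTn : (T : Subgroup M).Normal := inferInstance
  have h1 : M ≤ normalizer (T' : Set G) := by
    apply (Subgroup.normal_subgroupOf_iff_le_normalizer hTM).1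
    rw [hT', subgroupOf, comap_map_eq_self_of_injective M.subtype_injective]
    exact hTn
  rcases hM.le_iff.1 h1 with h | h
  · right
    exact normalizer_eq_top_iff.1 h
  · left
    have hTp : IsPGroup q T' := T.isPGroup'.map _
    obtain ⟨S, hS⟩ := hTp.exists_le_sylow
    refine ⟨S, ?_⟩
    by_contra hne
    have hlt : T' < S := lt_of_le_of_ne hS fun h => hne h.symm
    obtain ⟨U, hU1, hU2, hU3⟩ := H2.ZJ4.exists_grow S.isPGroup' hlt
    rw [h] at hU3
    have h4 : IsPGroup q (U.subgroupOf M) := (S.isPGroup'.to_le hU2).comap_subtype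
    have h5 := T.is_maximal' h4 (map_le_iff_le_comap.1 hU1.le)
    have h6 : U = T' := by
      rw [hT', ← h5, subgroupOf_map_subtype, inf_eq_left.2 hU3]
    exact hU1.ne h6.symm

/-- decomposition of an element into a `q`-part and a `q'`-part, both powers -/
theorem exists_parts (q : ℕ) [hq : Fact q.Prime] (g : G) : ∃ u v : G, u ∈ zpowers g ∧ v ∈ zpowers g ∧ g = u * v ∧
    (∃ k, orderOf u = q ^ k) ∧ (orderOf v).Coprime q := by
  have hg : 0 < orderOf g := orderOf_pos g
  obtain ⟨k, m, hm, hgk⟩ := Nat.exists_eq_pow_mul_and_not_dvd hg.ne' q hq.out.ne_one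
  have hcop : Nat.Coprime (q ^ k) m := ((Nat.Prime.coprime_iff_not_dvd hq.out).2 hm).pow_left k
  have hb := Int.gcd_eq_gcd_ab (q ^ k : ℕ) (m : ℤ)
  have h1 : ((q ^ k : ℕ) : ℤ) * Int.gcdA (q ^ k : ℕ) m + (m : ℤ) * Int.gcdB (q ^ k : ℕ) m = 1 := by
    rw [← hb]
    have : Int.gcd ((q ^ k : ℕ) : ℤ) (m : ℤ) = 1 := by rw [Int.gcd_natCast_natCast]; exact hcop
    rw [this]; rfl
  set a := Int.gcdA (q ^ k : ℕ) m
  set b := Int.gcdB (q ^ k : ℕ) m
  have hu : (g ^ ((m : ℤ) * b)) ^ (q ^ k) = 1 := by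
    rw [← zpow_natCast, ← zpow_mul]
    have : (m : ℤ) * b * ((q ^ k : ℕ) : ℤ) = (orderOf g : ℤ) * b := by rw [hgk]; push_cast; ring
    rw [this, zpow_mul, zpow_natCast, pow_orderOf_eq_one, one_zpow]
  have hv : (g ^ (((q ^ k : ℕ) : ℤ) * a)) ^ m = 1 := by
    rw [← zpow_natCast, ← zpow_mul]
    have : ((q ^ k : ℕ) : ℤ) * a * (m : ℤ) = (orderOf g : ℤ) * a := by rw [hgk]; push_cast; ring
    rw [this, zpow_mul, zpow_natCast, pow_orderOf_eq_one, one_zpow]
  refine ⟨g ^ ((m : ℤ) * b), g ^ (((q ^ k : ℕ) : ℤ) * a), ⟨_, rfl⟩, ⟨_, rfl⟩, ?_, ?_, ?_⟩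
  · rw [← zpow_add, add_comm, h1, zpow_one]
  · obtain ⟨j, -, hj⟩ := (Nat.dvd_prime_pow hq.out).1 (orderOf_dvd_of_pow_eq_one hu)
    exact ⟨j, hj⟩
  · exact Nat.Coprime.coprime_dvd_left (orderOf_dvd_of_pow_eq_one hv)
      ((Nat.Prime.coprime_iff_not_dvd hq.out).2 hm).symm

omit [Finite G] in
/-- two commuting elements of coprime orders are powers of their product -/
theorem mem_zpowers_mul {x y : G} (hxy : x * y = y * x) (hc : (orderOf x).Coprime (orderOf y)) :
    x ∈ zpowers (x * y) := by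
  have h1 : (x * y) ^ (orderOf y) = x ^ (orderOf y) := by
    rw [(show Commute x y from hxy).mul_pow, pow_orderOf_eq_one, mul_one]
  have h3 : x ∈ zpowers (x ^ orderOf y) := by
    obtain ⟨m, hm⟩ := exists_pow_eq_self_of_coprime (x := x) (n := orderOf y) (Nat.Coprime.symm hc)
    have h5 : (x ^ orderOf y) ^ m ∈ zpowers (x ^ orderOf y) := pow_mem (mem_zpowers _) _
    rwa [hm] at h5
  rw [← h1] at h3
  have h4 : zpowers ((x * y) ^ orderOf y) ≤ zpowers (x * y) := by
    rw [zpowers_le]; exact pow_mem (mem_zpowers _) _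
  exact h4 h3

end Cfsg.Agent.H24.MaxCent
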