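import Mathlib
import Cfsg.Agent.H24_Hughes
import Cfsg.Agent.H24_MaxCent
import Cfsg.Agent.H12_CN
import Cfsg.Agent.H1_Hall

namespace Cfsg.Agent.H24.Hughes

open Subgroup Cfsg.Agent

universe u

theorem ZJ_map {G G' : Type*} [Group G] [Group G'] (f : G →* G') (hf : Function.Injective f) (S : Subgroup G) :
    centerThompsonAOf (S.map f) = (centerThompsonAOf S).map f := by
  have h1 : thompsonSubgroupAOf (S.map f) = (thompsonSubgroupAOf S).map f := by
    rw [H2.ZJ.thompsonAOf_eq, H2.ZJ.thompsonAOf_eq, H2.Thompson.thompsonOf_map_of_injective _ hf]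
  rw [centerThompsonAOf, centerThompsonAOf, h1]
  ext x
  rw [mem_inf]
  constructor
  · rintro ⟨⟨a, ha, rfl⟩, h2⟩
    refine ⟨a, mem_inf.2 ⟨ha, ?_⟩, rfl⟩
    rw [mem_centralizer_iff] at h2 ⊢
    intro b hb
    apply hf
    rw [map_mul, map_mul]
    exact h2 (f b) ⟨b, hb, rfl⟩
  · rintro ⟨a, ha, rfl⟩
    obtain ⟨ha1, ha2⟩ := mem_inf.1 ha
    refine ⟨⟨a, ha1, rfl⟩, ?_⟩
    rw [mem_centralizer_iff] at ha2 ⊢
    rintro _ ⟨b, hb, rfl⟩
    rw [← map_mul, ← map_mul, ha2 b hb]

theorem zpow_eq_one_of_mem {G : Type*} [Group G] {H : Subgroup G} {y : G} {p : ℕ} (hp : p.Prime) (hy : y ∉ H)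
    (hyp : y ^ p = 1) {i : ℤ} (hi : y ^ i ∈ H) : y ^ i = 1 := by
  by_cases hd : (p : ℤ) ∣ i
  · obtain ⟨c, rfl⟩ := hd
    rw [zpow_mul, zpow_natCast, hyp, one_zpow]
  · exfalso
    have h1 : IsCoprime (p : ℤ) i := (Nat.prime_iff_prime_int.1 hp).coprime_iff_not_dvd.2 hd
    obtain ⟨a, b, hab⟩ := h1
    apply hy
    have h2 : y = (y ^ i) ^ b := by
      rw [← zpow_mul]
      have h3 : i * b = 1 + (p : ℤ) * (-a) := by linarith
      rw [h3, zpow_add, zpow_one, zpow_mul, zpow_natCast, hyp, one_zpow, mul_one]
    rw [h2]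
    exact zpow_mem hi b

/-- a Sylow subgroup of `H` is normalized by an element outside `H` -/
theorem exists_notMem_normalizer {G : Type*} [Group G] [Finite G] {H : Subgroup G} [hH : H.Normal] (hne : H ≠ ⊤)
    {q : ℕ} [Fact q.Prime] (T : Sylow q H) :
    ∃ y ∉ H, y ∈ normalizer ((T : Subgroup H).map H.subtype : Set G) := by
  by_contra hcon
  push Not at hcon
  apply hne
  have h1 := Sylow.normalizer_sup_eq_top T
  rw [eq_top_iff, ← h1]
  refine sup_le ?_ le_rfl
  intro y hy
  by_contra hyH
  exact hcon y hyH hy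

/-- the solvable step -/
theorem nilpotent_step {G : Type*} [Group G] [Finite G] {H : Subgroup G} (hH : H.Normal) (hne : H ≠ ⊤)
    {p : ℕ} (hp : p.Prime) (hpow : ∀ x : G, x ∉ H → x ^ p = 1) {V : Subgroup G} (hV : V.Normal) (hVH : V ≤ H)
    (hVc : ∀ a ∈ V, ∀ b ∈ V, a * b = b * a) {r : ℕ} (hr : r.Prime) (hVr : ∀ a ∈ V, a ^ r = 1)
    (hnil : Group.IsNilpotent (H.map (QuotientGroup.mk' V))) : Group.IsNilpotent H := by
  refine ((Group.isNilpotent_of_finite_tfae (G := H)).out 0 3 rfl rfl).2 ?_
  intro q hq T
  set f := (QuotientGroup.mk' V).subgroupMap H with hf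
  have hfs : Function.Surjective f := MonoidHom.subgroupMap_surjective _ _
  have hfk : ∀ x : H, f x = 1 ↔ (x : G) ∈ V := by
    intro x
    have : f x = 1 ↔ (QuotientGroup.mk (x : G) : G ⧸ V) = 1 := by
      rw [Subtype.ext_iff]; rfl
    rw [this, QuotientGroup.eq_one_iff]
  have hTn : ((T.mapSurjective hfs : Sylow q _) : Subgroup (H.map (QuotientGroup.mk' V))).Normal := inferInstance
  rw [Sylow.coe_mapSurjective] at hTn
  have hTq : ∀ t : H, t ∈ (T : Subgroup H) → ∃ k, t ^ (q ^ k) = 1 := by
    intro t ht
    obtain ⟨k, hk⟩ := T.isPGroup' ⟨t, ht⟩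
    exact ⟨k, congrArg Subtype.val hk⟩
  -- conjugates lie in `T V`
  have hconj : ∀ t ∈ (T : Subgroup H), ∀ g : H, ∃ s ∈ (T : Subgroup H), ∃ v : H, (v : G) ∈ V ∧ g * t * g⁻¹ = s * v := by
    intro t ht g
    have h1 : f t ∈ (T : Subgroup H).map f := ⟨t, ht, rfl⟩
    have h2 := hTn.conj_mem _ h1 (f g)
    obtain ⟨s, hs, hst⟩ := h2
    refine ⟨s, hs, s⁻¹ * (g * t * g⁻¹), ?_, by group⟩
    rw [← hfk, map_mul, map_mul, map_mul, map_inv, map_inv, hst]
    group
  by_cases hqr : q = r
  · subst hqr
    have hVT : ∀ v : H, (v : G) ∈ V → v ∈ (T : Subgroup H) := by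
      intro v hv
      have hVn : (V.subgroupOf H).Normal := inferInstance
      have hVp : IsPGroup q (V.subgroupOf H) := by
        intro x
        refine ⟨1, ?_⟩
        rw [pow_one]
        apply Subtype.ext
        apply Subtype.ext
        exact hVr _ x.2
      have h1 : V.subgroupOf H ≤ pCore q H := H1.Nilp.le_pCore hVn hVp
      exact H2.ThompFact.pCore_le_sylow T (h1 hv)
    refine ⟨fun t ht g => ?_⟩
    obtain ⟨s, hs, v, hv, h⟩ := hconj t ht g
    rw [h]
    exact mul_mem hs (hVT v hv)
  · obtain ⟨y, hyH, hyN⟩ := exists_notMem_normalizer hne T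
    have hcop : (Nat.card V).Coprime (Nat.card ((T : Subgroup H).map H.subtype)) := by
      have hVp : IsPGroup r V := by
        intro x
        refine ⟨1, ?_⟩
        rw [pow_one]
        apply Subtype.ext
        exact hVr _ x.2
      haveI : Fact r.Prime := ⟨hr⟩
      obtain ⟨a, ha⟩ := IsPGroup.iff_card.1 hVp
      obtain ⟨b, hb⟩ := IsPGroup.iff_card.1 (T.isPGroup'.map H.subtype)
      rw [ha, hb]
      exact Nat.Coprime.pow _ _ ((Nat.coprime_primes hr hq.out).2 (Ne.symm hqr))
    have hcen := centralizes hV hVH hVc (map_subtype_le _) hp hpow hyH hyN hcop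
    refine ⟨fun t ht g => ?_⟩
    obtain ⟨s, hs, v, hv, h⟩ := hconj t ht g
    have hsv : Commute s v := by
      apply Subtype.ext
      have := hcen ⟨s, hs, rfl⟩
      rw [mem_centralizer_iff] at this
      exact (this v hv).symm
    obtain ⟨k, hk⟩ := hTq t ht
    obtain ⟨l, hl⟩ := hTq s hs
    have h1 : (g * t * g⁻¹) ^ (q ^ (k + l)) = 1 := by
      rw [conj_pow, pow_add, pow_mul, hk, one_pow]; group
    have h2 : s ^ (q ^ (k + l)) = 1 := by rw [pow_add, mul_comm, pow_mul, hl, one_pow]
    rw [h, hsv.mul_pow, h2, one_mul] at h1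
    have h3 : v ^ r = 1 := Subtype.ext (hVr v hv)
    have h4 : v = 1 := by
      have h5 : orderOf v ∣ Nat.gcd r (q ^ (k + l)) :=
        Nat.dvd_gcd (orderOf_dvd_of_pow_eq_one h3) (orderOf_dvd_of_pow_eq_one h1)
      have h6 : Nat.Coprime r (q ^ (k + l)) := Nat.Coprime.pow_right _ ((Nat.coprime_primes hr hq.out).2 (Ne.symm hqr))
      rw [h6] at h5
      exact orderOf_eq_one_iff.1 (Nat.dvd_one.1 h5)
    rw [h, h4, mul_one]
    exact hs

theorem solvable_of_map {G : Type*} [Group G] [Finite G] {H V : Subgroup G} (hV : V.Normal) (hVs : Group.IsSolvable V)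
    (h : Group.IsSolvable (H.map (QuotientGroup.mk' V))) : Group.IsSolvable H := by
  set f := (QuotientGroup.mk' V).subgroupMap H with hf
  have hfs : Function.Surjective f := MonoidHom.subgroupMap_surjective _ _
  have hk : f.ker = V.subgroupOf H := by
    rw [hf, Subgroup.ker_subgroupMap, QuotientGroup.ker_mk']
  have h1 : Group.IsSolvable (V.subgroupOf H) := by
    have hinj : Function.Injective ((H.subtype.comp (V.subgroupOf H).subtype).codRestrict V fun x => x.2) := by
      intro a b hab
      have := congrArg Subtype.val hab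
      exact Subtype.ext (Subtype.ext this)
    exact Group.isSolvable_of_isSolvable_injective hinj
  exact Group.isSolvable_of_ker_le_range (V.subgroupOf H).subtype f (by rw [hk, range_subtype])

theorem main {p : ℕ} (hp : p.Prime) : ∀ (n : ℕ) (G : Type u) [Group G] [Finite G] (H : Subgroup G), Nat.card G = n →
    H.Normal → H ≠ ⊤ → (∀ x : G, x ∉ H → x ^ p = 1) → Group.IsNilpotent H := by
  intro n
  induction n using Nat.strong_induction_on with
  | _ n ih =>
  intro G _ _ H hn hH hne hpow
  -- quotients
  have ihq : ∀ (V : Subgroup G) [hV : V.Normal], V ≤ H → V ≠ ⊥ → Group.IsNilpotent (H.map (QuotientGroup.mk' V)) := by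
    intro V hV hVH hVb
    refine ih (Nat.card (G ⧸ V)) ?_ (G ⧸ V) _ rfl (hH.map _ (QuotientGroup.mk'_surjective V)) ?_ ?_
    · rw [← hn, ← Subgroup.card_mul_index V]
      have h1 : 1 < Nat.card V := (one_lt_card_iff_ne_bot V).2 hVb
      have h2 : 0 < V.index := Nat.pos_of_ne_zero V.index_ne_zero_of_finite
      have h3 : Nat.card (G ⧸ V) = V.index := rfl
      rw [h3]
      nlinarith
    · intro h
      apply hne
      have h1 : (H.map (QuotientGroup.mk' V)).comap (QuotientGroup.mk' V) = H := by
        rw [comap_map_eq_self]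
        rw [QuotientGroup.ker_mk']; exact hVH
      rw [← h1, h, comap_top]
    · intro x hx
      obtain ⟨g, rfl⟩ := QuotientGroup.mk'_surjective V x
      have hg : g ∉ H := fun h => hx ⟨g, h, rfl⟩
      rw [← map_pow, hpow g hg, map_one]
  -- `H` is solvable
  have hsol : Group.IsSolvable H := by
    by_cases hodd : ∃ q : ℕ, q.Prime ∧ q ≠ 2 ∧ q ∣ Nat.card H
    swap
    · push Not at hodd
      haveI : Fact (Nat.Prime 2) := ⟨Nat.prime_two⟩
      have h2 : IsPGroup 2 H := by
        apply IsPGroup.of_card (n := (Nat.card H).primeFactorsList.length)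
        apply Nat.eq_prime_pow_of_unique_prime_dvd Nat.card_pos.ne'
        intro d hd hdd
        by_contra hne
        exact hodd d hd hne hdd
      have := h2.isNilpotent
      infer_instance
    obtain ⟨q, hq, hq2, hqd⟩ := hodd
    haveI : Fact q.Prime := ⟨hq⟩
    obtain ⟨T⟩ : Nonempty (Sylow q H) := inferInstance
    have hTb : (T : Subgroup H) ≠ ⊥ := T.ne_bot_of_dvd_card hqd
    set W := centerThompsonAOf (T : Subgroup H) with hW
    have hWb : W ≠ ⊥ := H24.MaxCent.ZJ_ne_bot T.isPGroup' hTb
    have hWp : IsPGroup q W := T.isPGroup'.to_le (H24.MaxCent.ZJ_le _)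
    set W' := W.map H.subtype with hW'
    have hW'p : IsPGroup q W' := hWp.map _
    have hW'b : W' ≠ ⊥ := by
      rw [hW', Ne, Subgroup.map_eq_bot_iff_of_injective _ H.subtype_injective]; exact hWb
    have hW'H : W' ≤ H := map_subtype_le _
    obtain ⟨y, hyH, hyN⟩ := exists_notMem_normalizer hne T
    have hyp := hpow y hyH
    have hyN' : y ∈ normalizer (W' : Set G) := by
      rw [hW', hW, ← ZJ_map _ H.subtype_injective]
      exact H24.MaxCent.normalizer_le_ZJ _ hyN
    by_cases hN : normalizer (W' : Set G) = ⊤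
    · have hWn : W'.Normal := normalizer_eq_top_iff.1 hN
      have h1 := ihq W' hW'H hW'b
      have h2 : Group.IsSolvable W' := by
        have := hW'p.isNilpotent
        infer_instance
      exact solvable_of_map hWn h2 inferInstance
    · have h1 : Group.IsNilpotent (H.subgroupOf (normalizer (W' : Set G))) := by
        refine ih (Nat.card (normalizer (W' : Set G))) ?_ (normalizer (W' : Set G)) _ rfl inferInstance ?_ ?_
        · rw [← hn]
          rcases (Nat.le_of_dvd Nat.card_pos (normalizer (W' : Set G)).card_subgroup_dvd_card).lt_or_eq with h1 | h1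
          · exact h1
          · exact absurd (Subgroup.eq_top_of_card_eq _ h1) hN
        · intro h
          apply hyH
          have : (⟨y, hyN'⟩ : normalizer (W' : Set G)) ∈ H.subgroupOf (normalizer (W' : Set G)) := by
            rw [h]; trivial
          exact this
        · rintro ⟨x, hx⟩ hxH
          apply Subtype.ext
          exact hpow x (fun h => hxH h)
      have h2 : HasNormalPComplement q (H.subgroupOf (normalizer (W' : Set G))) := H2.Fusion4.npc_of_nilpotent
      have hmem : ∀ x : normalizer (W : Set H), ((x : H) : G) ∈ normalizer (W' : Set G) := by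
        rintro ⟨x, hx⟩
        rw [mem_normalizer_iff]
        intro h
        rw [mem_normalizer_iff] at hx
        constructor
        · rintro ⟨w, hw, rfl⟩
          exact ⟨x * w * x⁻¹, (hx w).1 hw, rfl⟩
        · intro h3
          obtain ⟨w, hw, hw2⟩ := h3
          refine ⟨x⁻¹ * w * x, ?_, ?_⟩
          · refine (hx _).2 ?_
            have : x * (x⁻¹ * w * x) * x⁻¹ = w := by group
            rw [this]; exact hw
          · have h4 : (w : G) = x * h * (x : G)⁻¹ := hw2
            change (x : G)⁻¹ * w * x = h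
            rw [h4]; group
      have h3 : HasNormalPComplement q (normalizer (W : Set H)) := by
        let f : normalizer (W : Set H) →* H.subgroupOf (normalizer (W' : Set G)) :=
          { toFun := fun x => ⟨⟨x, hmem x⟩, (x : H).2⟩
            map_one' := rfl
            map_mul' := fun a b => rfl }
        refine H2.Basic.npc_of_injective f ?_ h2
        intro a b hab
        have h5 := congrArg (fun z : H.subgroupOf (normalizer (W' : Set G)) => ((z : normalizer (W' : Set G)) : G)) hab
        exact Subtype.ext (Subtype.ext h5)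
      have h4 : HasNormalPComplement q H := Cfsg.Agent.S0659.result hq2 T h3
      obtain ⟨K, hK, hKc, k, hk⟩ := H2.Basic.npc_iff.1 h4
      set K' := K.map H.subtype with hK'
      have hK'n : K'.Normal := by
        refine ⟨?_⟩
        rintro _ ⟨x, hx, rfl⟩ g
        refine ⟨⟨g * x * g⁻¹, hH.conj_mem x x.2 g⟩, ?_, rfl⟩
        have h5 := (H2.Basic.mem_npc_iff hKc hk x).1 hx
        change _ ∈ K
        rw [H2.Basic.mem_npc_iff hKc hk, Subgroup.orderOf_mk]
        have h6 : orderOf (g * (x : G) * g⁻¹) = orderOf (x : G) :=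
          orderOf_injective (MulAut.conj g).toMonoidHom (MulAut.conj g).injective (x : G)
        rw [h6, Subgroup.orderOf_coe]
        exact h5
      have hK'H : K' ≤ H := map_subtype_le _
      set L := K' ⊔ zpowers y with hL
      have hLmem : ∀ x ∈ L, ∃ a ∈ K', ∃ i : ℤ, x = a * y ^ i := by
        intro x hx
        rw [hL, ← SetLike.mem_coe, Subgroup.normal_mul] at hx
        obtain ⟨a, ha, b, hb, rfl⟩ := hx
        obtain ⟨i, rfl⟩ := mem_zpowers_iff.1 hb
        exact ⟨a, ha, i, rfl⟩
      have hLH : ∀ x ∈ L, x ∈ H → x ∈ K' := by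
        intro x hx hxH
        obtain ⟨a, ha, i, rfl⟩ := hLmem x hx
        have h5 : y ^ i ∈ H := by
          have := H.mul_mem (H.inv_mem (hK'H ha)) hxH
          rwa [inv_mul_cancel_left] at this
        rw [zpow_eq_one_of_mem hp hyH hyp h5, mul_one]
        exact ha
      have hLt : L ≠ ⊤ := by
        intro h
        apply hKc
        have h5 : K = ⊤ := by
          rw [eq_top_iff]
          intro x _
          obtain ⟨x', hx', hxx⟩ := hLH x (by rw [h]; trivial) x.2
          have : x' = x := Subtype.ext hxx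
          rw [← this]; exact hx'
        rw [h5, Subgroup.card_top]; exact hqd
      have h5 : Group.IsNilpotent (K'.subgroupOf L) := by
        refine ih (Nat.card L) ?_ L _ rfl inferInstance ?_ ?_
        · rw [← hn]
          rcases (Nat.le_of_dvd Nat.card_pos L.card_subgroup_dvd_card).lt_or_eq with h1 | h1
          · exact h1
          · exact absurd (Subgroup.eq_top_of_card_eq _ h1) hLt
        · intro h
          apply hyH
          have hyL : y ∈ L := (le_sup_right : zpowers y ≤ L) (mem_zpowers y)
          have : (⟨y, hyL⟩ : L) ∈ K'.subgroupOf L := by rw [h]; trivial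
          exact hK'H this
        · rintro ⟨x, hx⟩ hxK
          apply Subtype.ext
          exact hpow x (fun h => hxK (hLH x hx h))
      have h6 : Group.IsSolvable K := by
        have hle : K' ≤ L := le_sup_left
        let f : K →* K'.subgroupOf L :=
          { toFun := fun x => ⟨⟨(x : H), hle ⟨x, x.2, rfl⟩⟩, ⟨x, x.2, rfl⟩⟩
            map_one' := rfl
            map_mul' := fun a b => rfl }
        have hinj : Function.Injective f := by
          intro a b hab
          have h5 := congrArg (fun z : K'.subgroupOf L => ((z : L) : G)) hab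
          exact Subtype.ext (Subtype.ext h5)
        exact Group.isSolvable_of_isSolvable_injective hinj
      have h7 : Group.IsSolvable (H ⧸ K) := by
        have : IsPGroup q (H ⧸ K) := IsPGroup.of_card (n := k) (by rw [← hk]; rfl)
        have := this.isNilpotent
        infer_instance
      exact Group.isSolvable_of_ker_le_range K.subtype (QuotientGroup.mk' K) (by
        rw [QuotientGroup.ker_mk', range_subtype])
  -- nilpotent
  by_cases hHb : H = ⊥
  · subst hHb
    infer_instance
  obtain ⟨V, hVH, hV, hVb, hmin⟩ := H1.Hall.exists_minimal_normal hH hHb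
  have hVs : Group.IsSolvable V := by
    have hinj : Function.Injective (Subgroup.inclusion hVH) := Subgroup.inclusion_injective hVH
    exact Group.isSolvable_of_isSolvable_injective hinj
  obtain ⟨hVc, r, hr, hVr⟩ := H12.CN.minimal_normal_elementary' V hVs hVb hmin
  exact nilpotent_step hH hne hp hpow hV hVH (fun a ha b hb => by
    have := mul_comm' (⟨a, ha⟩ : V) ⟨b, hb⟩
    exact congrArg Subtype.val this) hr hVr (ihq V hVH hVb)

end Cfsg.Agent.H24.Hughes
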