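import Mathlib
import Cfsg.Agent.H24_MaxCent
import Cfsg.Agent.H22_PSolv

namespace Cfsg.Agent.H24.MaxCent

open Subgroup Cfsg.Agent

variable {G : Type*} [Group G] [Finite G]

omit [Finite G] in
theorem mem_sup_center {T : Subgroup G} {x : G} (hx : x ∈ T ⊔ center G) :
    ∃ t ∈ T, ∃ z ∈ center G, x = t * z := by
  rw [← SetLike.mem_coe, Subgroup.mul_normal] at hx
  obtain ⟨t, ht, z, hz, rfl⟩ := hx
  exact ⟨t, ht, z, hz, rfl⟩

theorem nilpotent_of_pow {H : Type*} [Group H] [Finite H] {q : ℕ} [Fact q.Prime]
    (h : ∀ g : H, ∃ k, g ^ (q ^ k) ∈ center H) : Group.IsNilpotent H := by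
  have h1 : IsPGroup q (H ⧸ center H) := by
    intro x
    obtain ⟨g, rfl⟩ := QuotientGroup.mk_surjective x
    obtain ⟨k, hk⟩ := h g
    exact ⟨k, by rw [← QuotientGroup.mk_pow]; exact (QuotientGroup.eq_one_iff _).2 hk⟩
  have h2 := h1.isNilpotent
  exact Subgroup.isNilpotent_of_ker_le_center (QuotientGroup.mk' (center H)) (by rw [QuotientGroup.ker_mk'])

theorem nilpotent_sup_center {q : ℕ} [Fact q.Prime] {T : Subgroup G} (hT : IsPGroup q T) :
    Group.IsNilpotent (T ⊔ center G : Subgroup G) := by
  apply nilpotent_of_pow (q := q)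
  rintro ⟨g, hg⟩
  obtain ⟨t, ht, z, hz, rfl⟩ := mem_sup_center hg
  obtain ⟨k, hk⟩ := hT ⟨t, ht⟩
  have hk' : t ^ (q ^ k) = 1 := congrArg Subtype.val hk
  refine ⟨k, ?_⟩
  rw [mem_center_iff]
  intro y
  apply Subtype.ext
  have h1 : (t * z) ^ (q ^ k) = z ^ (q ^ k) := by
    have hc : Commute t z := (mem_center_iff.1 hz t)
    rw [hc.mul_pow, hk', one_mul]
  have h2 : z ^ (q ^ k) ∈ center G := pow_mem hz _
  change (y : G) * (t * z) ^ (q ^ k) = (t * z) ^ (q ^ k) * y
  rw [h1]
  exact mem_center_iff.1 h2 _

omit [Finite G] in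
theorem mem_center_of_coprime {q : ℕ} {T : Subgroup G} (hT : IsPGroup q T) {x : G}
    (hx : x ∈ T ⊔ center G) (hc : (orderOf x).Coprime q) : x ∈ center G := by
  obtain ⟨t, ht, z, hz, rfl⟩ := mem_sup_center hx
  obtain ⟨k, hk⟩ := hT ⟨t, ht⟩
  have hk' : t ^ (q ^ k) = 1 := congrArg Subtype.val hk
  have hcm : Commute t z := (mem_center_iff.1 hz t)
  set n := orderOf (t * z) with hn
  have h1 : t ^ n * z ^ n = 1 := by rw [← hcm.mul_pow, hn, pow_orderOf_eq_one]
  have h2 : t ^ n ∈ center G := by
    rw [mul_eq_one_iff_eq_inv.1 h1]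
    exact inv_mem (pow_mem hz n)
  have h3 : n.Coprime (orderOf t) :=
    Nat.Coprime.coprime_dvd_right (orderOf_dvd_of_pow_eq_one hk') (hc.pow_right k)
  obtain ⟨m, hm⟩ := exists_pow_eq_self_of_coprime (x := t) (n := n) h3
  have h4 : (t ^ n) ^ m ∈ center G := pow_mem h2 _
  rw [hm] at h4
  exact mul_mem h4 hz

theorem solvable_C0 {q : ℕ} [Fact q.Prime] (hq : q ≠ 2) (hR : pCore q G = ⊥) (S : Sylow q G)
    (hM : IsCoatom ((S : Subgroup G) ⊔ center G)) : Group.IsSolvable G := by
  have hnil := nilpotent_sup_center (G := G) S.isPGroup'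
  set M := (S : Subgroup G) ⊔ center G with hMdef
  have hsolM : Group.IsSolvable M := inferInstance
  by_cases hS : (S : Subgroup G) = ⊥
  · rw [hS, bot_sup_eq] at hMdef
    have hn : M.Normal := by rw [hMdef]; infer_instance
    exact solvable_of_normal_coatom hn hM hsolM
  have hZ : ¬ (centerThompsonAOf (S : Subgroup G)).Normal := by
    intro h
    have h1 : centerThompsonAOf (S : Subgroup G) ≤ pCore q G :=
      H1.Nilp.le_pCore h (S.isPGroup'.to_le (ZJ_le _))
    rw [hR, le_bot_iff] at h1
    exact ZJ_ne_bot S.isPGroup' hS h1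
  have hnpc := npc_of_maximal hq hM S le_sup_left hZ
  obtain ⟨K, hK, hKc, k, hk⟩ := H2.Basic.npc_iff.1 hnpc
  have hqpr : q.Prime := Fact.out
  have hGK : Group.IsSolvable (G ⧸ K) := by
    have : IsPGroup q (G ⧸ K) := IsPGroup.of_card (n := k) (by rw [← hk]; rfl)
    have := this.isNilpotent
    infer_instance
  by_cases hKZ : K ≤ center G
  · have : Group.IsSolvable K := Group.isSolvable_of_comm fun a b => by
      apply Subtype.ext
      exact (mem_center_iff.1 (hKZ b.2) a)
    exact Group.isSolvable_of_ker_le_range K.subtype (QuotientGroup.mk' K) (by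
      rw [QuotientGroup.ker_mk', range_subtype])
  have hex : ∃ r : ℕ, ∃ hr : Fact r.Prime, ∃ T : Sylow r K,
      (S : Subgroup G) ≤ normalizer ((T : Subgroup K).map K.subtype : Set G) ∧
      ¬ (T : Subgroup K).map K.subtype ≤ center G := by
    by_contra hcon
    push Not at hcon
    apply hKZ
    rw [← relIndex_eq_one]
    by_contra hne
    obtain ⟨r, hr, hrd⟩ := Nat.exists_prime_and_dvd hne
    haveI : Fact r.Prime := ⟨hr⟩
    have hnormK : (S : Subgroup G) ≤ normalizer (K : Set G) := by
      rw [normalizer_eq_top_iff.2 hK]; exact le_top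
    have hcop : (Nat.card S).Coprime (Nat.card K) := by
      obtain ⟨n, hn⟩ := IsPGroup.iff_card.1 S.isPGroup'
      rw [hn]
      exact ((Nat.Prime.coprime_iff_not_dvd hqpr).2 hKc).pow_left n
    have := S.isPGroup'.isNilpotent
    obtain ⟨T, hT⟩ := H1.Coprime.invariant_sylow_exists (S : Subgroup G) K hnormK hcop (Or.inl inferInstance) r
    have h1 := hcon r ⟨hr⟩ T hT
    have h2 : (center G).relIndex K ∣ (T : Subgroup K).index := by
      rw [relIndex]
      apply index_dvd_of_le
      intro x hx
      rw [mem_subgroupOf]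
      exact h1 ⟨x, hx, rfl⟩
    exact T.not_dvd_index (hrd.trans h2)
  obtain ⟨r, hr, T, hT1, hT2⟩ := hex
  set T' := (T : Subgroup K).map K.subtype with hT'
  have hTp : IsPGroup r T' := T.isPGroup'.map _
  have hTK : T' ≤ K := map_subtype_le _
  have hMN : M ≤ normalizer (T' : Set G) := by
    refine sup_le hT1 ?_
    intro z hz
    rw [mem_normalizer_iff]
    intro h
    rw [mem_center_iff] at hz
    rw [← hz h, mul_inv_cancel_right]
  have hTM : ¬ T' ≤ M := by
    intro hle
    apply hT2
    intro x hx
    apply mem_center_of_coprime S.isPGroup' (hle hx)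
    have h1 : orderOf x ∣ Nat.card K := by
      have := orderOf_dvd_natCard (⟨x, hTK hx⟩ : K)
      rwa [Subgroup.orderOf_mk] at this
    exact Nat.Coprime.coprime_dvd_left h1 ((Nat.Prime.coprime_iff_not_dvd hqpr).2 hKc).symm
  have hsup : T' ⊔ M = ⊤ := hM.2 _ (lt_of_le_of_ne le_sup_right fun h => hTM (by rw [h]; exact le_sup_left))
  have hTn : T'.Normal := by
    rw [← normalizer_eq_top_iff, eq_top_iff, ← hsup]
    exact sup_le le_normalizer hMN
  have hTs : Group.IsSolvable T' := by
    have := hTp.isNilpotent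
    infer_instance
  have hq2 : Group.IsSolvable (G ⧸ T') := by
    have hsurj : Function.Surjective ((QuotientGroup.mk' T').comp M.subtype) := by
      intro x
      obtain ⟨g, rfl⟩ := QuotientGroup.mk_surjective x
      have hg : g ∈ T' ⊔ M := by rw [hsup]; trivial
      rw [← SetLike.mem_coe, Subgroup.normal_mul] at hg
      obtain ⟨t, ht, m, hm, rfl⟩ := hg
      refine ⟨⟨m, hm⟩, ?_⟩
      change (QuotientGroup.mk m : G ⧸ T') = QuotientGroup.mk (t * m)
      rw [QuotientGroup.mk_mul, (QuotientGroup.eq_one_iff t).2 ht, one_mul]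
    exact Group.isSolvable_of_surjective hsurj
  exact Group.isSolvable_of_ker_le_range T'.subtype (QuotientGroup.mk' T') (by
      rw [QuotientGroup.ker_mk', range_subtype])

theorem solvable_C {q : ℕ} [Fact q.Prime] (hq : q ≠ 2) (S : Sylow q G)
    (hM : IsCoatom ((S : Subgroup G) ⊔ center G)) : Group.IsSolvable G := by
  have hRn := H1.Nilp.pCore_normal (G := G) q
  have hRp := H1.Nilp.pCore_isPGroup (G := G) q
  set R := pCore q G with hR
  have hRs : Group.IsSolvable R := by
    have := hRp.isNilpotent
    infer_instance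
  have hRS : R ≤ S := H2.ThompFact.pCore_le_sylow S
  suffices h : Group.IsSolvable (G ⧸ R) from
    Group.isSolvable_of_ker_le_range R.subtype (QuotientGroup.mk' R) (by
      rw [QuotientGroup.ker_mk', range_subtype])
  set S' : Sylow q (G ⧸ R) := S.mapSurjective (QuotientGroup.mk'_surjective R) with hS'
  set M := (S : Subgroup G) ⊔ center G with hMdef
  have hRM : R ≤ M := hRS.trans le_sup_left
  have hcm : (M.map (QuotientGroup.mk' R)).comap (QuotientGroup.mk' R) = M := by
    rw [comap_map_eq_self]
    rw [QuotientGroup.ker_mk']; exact hRM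
  have h1 : IsCoatom (M.map (QuotientGroup.mk' R)) := by
    constructor
    · intro h
      rw [h, comap_top] at hcm
      exact hM.1 hcm.symm
    · intro K hK
      have h2 : M < K.comap (QuotientGroup.mk' R) := by
        rw [← hcm]
        exact (comap_lt_comap_of_surjective (QuotientGroup.mk'_surjective R)).2 hK
      have h3 := hM.2 _ h2
      have h4 := congrArg (Subgroup.map (QuotientGroup.mk' R)) h3
      rw [map_comap_eq_self_of_surjective (QuotientGroup.mk'_surjective R),
        map_top_of_surjective _ (QuotientGroup.mk'_surjective R)] at h4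
      exact h4
  have h2 : M.map (QuotientGroup.mk' R) ≤ (S' : Subgroup (G ⧸ R)) ⊔ center (G ⧸ R) := by
    rw [hMdef, Subgroup.map_sup]
    apply sup_le_sup
    · exact le_of_eq (Sylow.coe_mapSurjective _ _).symm
    · rintro _ ⟨z, hz, rfl⟩
      rw [mem_center_iff]
      intro g
      obtain ⟨g, rfl⟩ := QuotientGroup.mk_surjective g
      change (QuotientGroup.mk (g * z) : G ⧸ R) = QuotientGroup.mk (z * g)
      rw [mem_center_iff.1 hz g]
  rcases h1.le_iff.1 h2 with h | h
  · have := nilpotent_sup_center (G := G ⧸ R) S'.isPGroup'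
    rw [h] at this
    have : Group.IsNilpotent (G ⧸ R) := Group.nilpotent_of_mulEquiv Subgroup.topEquiv
    infer_instance
  · apply solvable_C0 hq H22.PSolv.pCore_quotient S'
    rw [h]; exact h1

/-- two commuting noncentral elements of coprime order in a group with maximal centralizers -/
theorem centralizer_eq (h : ∀ g : G, g ∉ center G → IsCoatom (centralizer ({g} : Set G)))
    {x y : G} (hx : x ∉ center G) (hy : y ∉ center G) (hxy : x * y = y * x)
    (hc : (orderOf x).Coprime (orderOf y)) : centralizer ({x} : Set G) = centralizer ({y} : Set G) := by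
  have h1 : x ∈ zpowers (x * y) := mem_zpowers_mul hxy hc
  have h2 : y ∈ zpowers (x * y) := by
    have := mem_zpowers_mul hxy.symm hc.symm
    rwa [← hxy] at this
  have key : ∀ z ∈ zpowers (x * y), centralizer ({x * y} : Set G) ≤ centralizer ({z} : Set G) := by
    intro z hz g hg
    obtain ⟨k, rfl⟩ := mem_zpowers_iff.1 hz
    rw [mem_centralizer_singleton_iff] at hg ⊢
    exact ((show Commute g (x * y) from hg).zpow_right k)
  have hxyc : x * y ∉ center G := by
    intro hcon
    apply hx
    obtain ⟨k, hk⟩ := mem_zpowers_iff.1 h1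
    rw [← hk]
    exact zpow_mem hcon k
  have h3 := (h _ hxyc).le_iff.1 (key x h1)
  have h4 := (h _ hxyc).le_iff.1 (key y h2)
  rcases h3 with h3 | h3
  · exact absurd h3 (h x hx).1
  rcases h4 with h4 | h4
  · exact absurd h4 (h y hy).1
  rw [h3, h4]

/-- `M = C(x)`, `x` a noncentral `q`-element: `q'`-elements are central in `M` -/
theorem central_of_coprime (h : ∀ g : G, g ∉ center G → IsCoatom (centralizer ({g} : Set G)))
    {x y : G} (hx : x ∉ center G) (hc : (orderOf x).Coprime (orderOf y))
    (hy : y ∈ centralizer ({x} : Set G)) : centralizer ({x} : Set G) ≤ centralizer ({y} : Set G) := by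
  by_cases hyc : y ∈ center G
  · intro g _
    rw [mem_centralizer_singleton_iff]
    exact mem_center_iff.1 hyc g
  · have hxy : x * y = y * x := ((mem_centralizer_singleton_iff.1 hy)).symm
    exact (centralizer_eq h hx hyc hxy hc).le

theorem nilpotent_centralizer (h : ∀ g : G, g ∉ center G → IsCoatom (centralizer ({g} : Set G)))
    {q : ℕ} [Fact q.Prime] {x : G} (hx : x ∉ center G) (hxq : ∃ k, orderOf x = q ^ k) :
    Group.IsNilpotent (centralizer ({x} : Set G)) := by
  apply nilpotent_of_pow (q := q)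
  rintro ⟨g, hg⟩
  obtain ⟨k, hk⟩ := hxq
  obtain ⟨u, v, hu, hv, rfl, ⟨j, hj⟩, hvc⟩ := exists_parts q g
  have huv : Commute u v := by
    obtain ⟨a, ha⟩ := mem_zpowers_iff.1 hu
    obtain ⟨b, hb⟩ := mem_zpowers_iff.1 hv
    have := (Commute.refl (u * v)).zpow_zpow a b
    rwa [ha, hb] at this
  have hvM : v ∈ centralizer ({x} : Set G) := by
    obtain ⟨b, hb⟩ := mem_zpowers_iff.1 hv
    rw [← hb]; exact zpow_mem hg b
  have hcen := central_of_coprime h hx (y := v) (by rw [hk]; exact (hvc.symm).pow_left k) hvM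
  refine ⟨j, ?_⟩
  rw [mem_center_iff]
  rintro ⟨y, hy⟩
  apply Subtype.ext
  have h1 : (u * v) ^ (q ^ j) = v ^ (q ^ j) := by
    rw [huv.mul_pow, ← hj, pow_orderOf_eq_one, one_mul]
  change y * (u * v) ^ (q ^ j) = (u * v) ^ (q ^ j) * y
  rw [h1]
  exact (show Commute y v from mem_centralizer_singleton_iff.1 (hcen hy)).pow_right _

/-- an abelian centralizer case -/
theorem solvable_of_comm_coatom {M : Subgroup G} (hM : IsCoatom M) (hc : ∀ a ∈ M, ∀ b ∈ M, a * b = b * a) :
    Group.IsSolvable G := by
  have : IsMulCommutative M := ⟨⟨fun a b => Subtype.ext (hc a a.2 b b.2)⟩⟩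
  exact ⟨⟨3, Cfsg.Agent.S0556.result M hM⟩⟩

theorem main_q (h : ∀ g : G, g ∉ center G → IsCoatom (centralizer ({g} : Set G)))
    {q : ℕ} [hqf : Fact q.Prime] (hq : q ≠ 2) : HasNormalPComplement q G ∨ Group.IsSolvable G := by
  have hRn := H1.Nilp.pCore_normal (G := G) q
  have hRp := H1.Nilp.pCore_isPGroup (G := G) q
  by_cases hR : pCore q G ≤ center G
  · left
    by_cases hall : ∀ y : G, (∃ k, orderOf y = q ^ k) → y ∈ center G
    · obtain ⟨S⟩ : Nonempty (Sylow q G) := inferInstance
      apply H2.Fusion4.npc_of_normalizer_le_centralizer S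
      have hSZ : (S : Subgroup G) ≤ center G := by
        intro s hs
        apply hall
        obtain ⟨k, hk⟩ := IsPGroup.iff_orderOf.1 S.isPGroup' ⟨s, hs⟩
        exact ⟨k, by rwa [Subgroup.orderOf_mk] at hk⟩
      intro g _
      rw [mem_centralizer_iff]
      intro s hs
      exact (mem_center_iff.1 (hSZ hs) g).symm
    · push Not at hall
      obtain ⟨y, hyq, hy⟩ := hall
      have hnil := nilpotent_centralizer h hy hyq
      have hM := h y hy
      set M := centralizer ({y} : Set G) with hMdef
      obtain ⟨T⟩ : Nonempty (Sylow q M) := inferInstance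
      have hyM : y ∈ M := mem_centralizer_singleton_iff.2 rfl
      have hyT : y ∈ (T : Subgroup M).map M.subtype := by
        refine ⟨⟨y, hyM⟩, ?_, rfl⟩
        have hTn : (T : Subgroup M).Normal := inferInstance
        refine H1.Nilp.mem_sylow_of_normal T hTn ?_
        obtain ⟨k, hk⟩ := hyq
        apply IsPGroup.of_card (n := k)
        rw [Nat.card_zpowers, Subgroup.orderOf_mk, hk]
      rcases sylow_or_normal hM T with ⟨S, hS⟩ | hn
      · have hSM : (S : Subgroup G) ≤ M := by rw [hS]; exact map_subtype_le _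
        apply npc_of_maximal hq hM S hSM
        intro hZn
        have h1 : centerThompsonAOf (S : Subgroup G) ≤ pCore q G :=
          H1.Nilp.le_pCore hZn (S.isPGroup'.to_le (ZJ_le _))
        apply hy
        apply hR
        apply h1
        apply center_le_ZJ
        rw [← hS] at hyT
        refine mem_inf.2 ⟨hyT, ?_⟩
        rw [mem_centralizer_iff]
        intro s hs
        exact mem_centralizer_singleton_iff.1 (hSM hs)
      · exfalso
        exact hy (hR (H1.Nilp.le_pCore hn (T.isPGroup'.map _) hyT))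
  · right
    obtain ⟨x, hxR, hx⟩ := Set.not_subset.1 hR
    have hxq : ∃ k, orderOf x = q ^ k := by
      obtain ⟨k, hk⟩ := IsPGroup.iff_orderOf.1 hRp ⟨x, hxR⟩
      exact ⟨k, by rwa [Subgroup.orderOf_mk] at hk⟩
    have hnil := nilpotent_centralizer h hx hxq
    have hM := h x hx
    have hcoc := fun y hc hy => central_of_coprime h (y := y) hx hc hy
    set M := centralizer ({x} : Set G) with hMdef
    have hxM : x ∈ M := mem_centralizer_singleton_iff.2 rfl
    have hxk := hxq
    obtain ⟨kx, hkx⟩ := hxk
    by_cases hA : ∃ y ∈ M, (orderOf y).Coprime q ∧ y ∉ center G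
    · obtain ⟨y, hyM, hyq, hy⟩ := hA
      have hxy : (orderOf x).Coprime (orderOf y) := by rw [hkx]; exact (hyq.symm).pow_left kx
      have hMy : M = centralizer ({y} : Set G) :=
        centralizer_eq h hx hy (mem_centralizer_singleton_iff.1 hyM).symm hxy
      apply solvable_of_comm_coatom hM
      intro a ha b hb
      obtain ⟨u, v, hu, hv, rfl, ⟨j, hj⟩, hvc⟩ := exists_parts q a
      have huM : u ∈ M := by
        obtain ⟨c, hc⟩ := mem_zpowers_iff.1 hu
        rw [← hc]; exact zpow_mem ha c
      have hvM : v ∈ M := by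
        obtain ⟨c, hc⟩ := mem_zpowers_iff.1 hv
        rw [← hc]; exact zpow_mem ha c
      have h1 : b ∈ centralizer ({v} : Set G) :=
        hcoc v (by rw [hkx]; exact (hvc.symm).pow_left kx) hvM hb
      have h2 : b ∈ centralizer ({u} : Set G) := by
        refine central_of_coprime h (y := u) hy ?_ ?_ ?_
        · rw [hj]; exact hyq.pow_right j
        · rw [← hMy]; exact huM
        · rw [← hMy]; exact hb
      rw [mem_centralizer_singleton_iff] at h1 h2
      rw [mul_assoc, ← h1, ← mul_assoc, ← h2, mul_assoc]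
    · push Not at hA
      -- `M = T ⊔ Z(G)`
      obtain ⟨T⟩ : Nonempty (Sylow q M) := inferInstance
      have hTn : (T : Subgroup M).Normal := inferInstance
      have hMT : M = (T : Subgroup M).map M.subtype ⊔ center G := by
        apply le_antisymm
        · intro a ha
          obtain ⟨u, v, hu, hv, rfl, ⟨j, hj⟩, hvc⟩ := exists_parts q a
          have huM : u ∈ M := by
            obtain ⟨c, hc⟩ := mem_zpowers_iff.1 hu
            rw [← hc]; exact zpow_mem ha c
          have hvM : v ∈ M := by
            obtain ⟨c, hc⟩ := mem_zpowers_iff.1 hv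
            rw [← hc]; exact zpow_mem ha c
          apply mul_mem_sup
          · refine ⟨⟨u, huM⟩, ?_, rfl⟩
            refine H1.Nilp.mem_sylow_of_normal T hTn ?_
            apply IsPGroup.of_card (n := j)
            rw [Nat.card_zpowers, Subgroup.orderOf_mk, hj]
          · exact hA v hvM hvc
        · apply sup_le (map_subtype_le _)
          intro z hz
          rw [hMdef, mem_centralizer_singleton_iff]
          exact (mem_center_iff.1 hz x).symm
      rcases sylow_or_normal hM T with ⟨S, hS⟩ | hn
      · apply solvable_C hq S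
        rw [hS, ← hMT]; exact hM
      · have hMn : M.Normal := by
          rw [hMT]
          infer_instance
        exact solvable_of_normal_coatom hMn hM inferInstance

theorem solvable_of_npc : ∀ (n : ℕ) (H : Type*) [Group H] [Finite H], Nat.card H = n →
    (∀ q : ℕ, ∀ _ : Fact q.Prime, q ≠ 2 → HasNormalPComplement q H) → Group.IsSolvable H := by
  intro n
  induction n using Nat.strong_induction_on with
  | _ n ih =>
  intro H _ _ hn h
  by_cases hodd : ∃ q : ℕ, q.Prime ∧ q ≠ 2 ∧ q ∣ Nat.card H
  · obtain ⟨q, hq, hq2, hqd⟩ := hodd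
    haveI : Fact q.Prime := ⟨hq⟩
    obtain ⟨K, hK, hKc, k, hk⟩ := H2.Basic.npc_iff.1 (h q ⟨hq⟩ hq2)
    have hlt : Nat.card K < n := by
      rw [← hn]
      rcases (Nat.le_of_dvd Nat.card_pos K.card_subgroup_dvd_card).lt_or_eq with h1 | h1
      · exact h1
      · exact absurd (h1 ▸ hqd) hKc
    have hKs : Group.IsSolvable K := ih _ hlt K rfl fun r hr hr2 => H2.Basic.npc_subgroup K (h r hr hr2)
    have hGK : Group.IsSolvable (H ⧸ K) := by
      have : IsPGroup q (H ⧸ K) := IsPGroup.of_card (n := k) (by rw [← hk]; rfl)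
      have := this.isNilpotent
      infer_instance
    exact Group.isSolvable_of_ker_le_range K.subtype (QuotientGroup.mk' K) (by
      rw [QuotientGroup.ker_mk', range_subtype])
  · push Not at hodd
    haveI : Fact (Nat.Prime 2) := ⟨Nat.prime_two⟩
    have h2 : IsPGroup 2 H := by
      apply IsPGroup.of_card (n := (Nat.card H).primeFactorsList.length)
      apply Nat.eq_prime_pow_of_unique_prime_dvd Nat.card_pos.ne'
      intro d hd hdd
      by_contra hne
      exact hodd d hd hne hdd
    have := h2.isNilpotent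
    infer_instance

end Cfsg.Agent.H24.MaxCent
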