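import Mathlib

/-! The affine monoid of `F_2^3`, with fast kernel evaluation. -/

namespace Cfsg.Agent.H24.OType

/-- affine maps of `F_2^3` -/
@[ext] structure A3 where
  m00 : ZMod 2
  m01 : ZMod 2
  m02 : ZMod 2
  m10 : ZMod 2
  m11 : ZMod 2
  m12 : ZMod 2
  m20 : ZMod 2
  m21 : ZMod 2
  m22 : ZMod 2
  v0 : ZMod 2
  v1 : ZMod 2
  v2 : ZMod 2
deriving DecidableEq

namespace A3

instance : Mul A3 := ⟨fun x y => {
    m00 := x.m00 * y.m00 + x.m01 * y.m10 + x.m02 * y.m20,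
    m01 := x.m00 * y.m01 + x.m01 * y.m11 + x.m02 * y.m21,
    m02 := x.m00 * y.m02 + x.m01 * y.m12 + x.m02 * y.m22,
    m10 := x.m10 * y.m00 + x.m11 * y.m10 + x.m12 * y.m20,
    m11 := x.m10 * y.m01 + x.m11 * y.m11 + x.m12 * y.m21,
    m12 := x.m10 * y.m02 + x.m11 * y.m12 + x.m12 * y.m22,
    m20 := x.m20 * y.m00 + x.m21 * y.m10 + x.m22 * y.m20,
    m21 := x.m20 * y.m01 + x.m21 * y.m11 + x.m22 * y.m21,
    m22 := x.m20 * y.m02 + x.m21 * y.m12 + x.m22 * y.m22,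
    v0 := x.m00 * y.v0 + x.m01 * y.v1 + x.m02 * y.v2 + x.v0,
    v1 := x.m10 * y.v0 + x.m11 * y.v1 + x.m12 * y.v2 + x.v1,
    v2 := x.m20 * y.v0 + x.m21 * y.v1 + x.m22 * y.v2 + x.v2 }⟩

instance : One A3 := ⟨{ m00 := 1, m01 := 0, m02 := 0, m10 := 0, m11 := 1, m12 := 0, m20 := 0, m21 := 0, m22 := 1, v0 := 0, v1 := 0, v2 := 0 }⟩

theorem mul_m00 (x y : A3) : (x * y).m00 = x.m00 * y.m00 + x.m01 * y.m10 + x.m02 * y.m20 := rfl
theorem mul_m01 (x y : A3) : (x * y).m01 = x.m00 * y.m01 + x.m01 * y.m11 + x.m02 * y.m21 := rfl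
theorem mul_m02 (x y : A3) : (x * y).m02 = x.m00 * y.m02 + x.m01 * y.m12 + x.m02 * y.m22 := rfl
theorem mul_m10 (x y : A3) : (x * y).m10 = x.m10 * y.m00 + x.m11 * y.m10 + x.m12 * y.m20 := rfl
theorem mul_m11 (x y : A3) : (x * y).m11 = x.m10 * y.m01 + x.m11 * y.m11 + x.m12 * y.m21 := rfl
theorem mul_m12 (x y : A3) : (x * y).m12 = x.m10 * y.m02 + x.m11 * y.m12 + x.m12 * y.m22 := rfl
theorem mul_m20 (x y : A3) : (x * y).m20 = x.m20 * y.m00 + x.m21 * y.m10 + x.m22 * y.m20 := rfl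
theorem mul_m21 (x y : A3) : (x * y).m21 = x.m20 * y.m01 + x.m21 * y.m11 + x.m22 * y.m21 := rfl
theorem mul_m22 (x y : A3) : (x * y).m22 = x.m20 * y.m02 + x.m21 * y.m12 + x.m22 * y.m22 := rfl
theorem mul_v0 (x y : A3) : (x * y).v0 = x.m00 * y.v0 + x.m01 * y.v1 + x.m02 * y.v2 + x.v0 := rfl
theorem mul_v1 (x y : A3) : (x * y).v1 = x.m10 * y.v0 + x.m11 * y.v1 + x.m12 * y.v2 + x.v1 := rfl
theorem mul_v2 (x y : A3) : (x * y).v2 = x.m20 * y.v0 + x.m21 * y.v1 + x.m22 * y.v2 + x.v2 := rfl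
theorem one_m00 : (1 : A3).m00 = 1 := rfl
theorem one_m01 : (1 : A3).m01 = 0 := rfl
theorem one_m02 : (1 : A3).m02 = 0 := rfl
theorem one_m10 : (1 : A3).m10 = 0 := rfl
theorem one_m11 : (1 : A3).m11 = 1 := rfl
theorem one_m12 : (1 : A3).m12 = 0 := rfl
theorem one_m20 : (1 : A3).m20 = 0 := rfl
theorem one_m21 : (1 : A3).m21 = 0 := rfl
theorem one_m22 : (1 : A3).m22 = 1 := rfl
theorem one_v0 : (1 : A3).v0 = 0 := rfl
theorem one_v1 : (1 : A3).v1 = 0 := rfl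
theorem one_v2 : (1 : A3).v2 = 0 := rfl

instance : Monoid A3 where
  mul_assoc x y z := by
    ext <;> simp only [mul_m00, mul_m01, mul_m02, mul_m10, mul_m11, mul_m12, mul_m20, mul_m21, mul_m22, mul_v0, mul_v1, mul_v2] <;> ring
  one_mul x := by
    ext <;> simp only [mul_m00, mul_m01, mul_m02, mul_m10, mul_m11, mul_m12, mul_m20, mul_m21, mul_m22, mul_v0, mul_v1, mul_v2, one_m00, one_m01, one_m02, one_m10, one_m11, one_m12, one_m20, one_m21, one_m22, one_v0, one_v1, one_v2] <;> ring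
  mul_one x := by
    ext <;> simp only [mul_m00, mul_m01, mul_m02, mul_m10, mul_m11, mul_m12, mul_m20, mul_m21, mul_m22, mul_v0, mul_v1, mul_v2, one_m00, one_m01, one_m02, one_m10, one_m11, one_m12, one_m20, one_m21, one_m22, one_v0, one_v1, one_v2] <;> ring

/-- determinant of the linear part -/
def det (x : A3) : ZMod 2 :=
  x.m00 * (x.m11 * x.m22 - x.m12 * x.m21) - x.m01 * (x.m10 * x.m22 - x.m12 * x.m20) +
    x.m02 * (x.m10 * x.m21 - x.m11 * x.m20)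

theorem det_mul (x y : A3) : det (x * y) = det x * det y := by
  simp only [det, mul_m00, mul_m01, mul_m02, mul_m10, mul_m11, mul_m12, mul_m20, mul_m21, mul_m22, mul_v0, mul_v1, mul_v2]; ring

theorem det_one : det 1 = 1 := rfl

/-- linear part -/
def lin : A3 →* A3 where
  toFun x := { x with v0 := 0, v1 := 0, v2 := 0 }
  map_one' := rfl
  map_mul' x y := by
    ext <;> simp only [mul_m00, mul_m01, mul_m02, mul_m10, mul_m11, mul_m12, mul_m20, mul_m21, mul_m22, mul_v0, mul_v1, mul_v2] <;> ring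

/-- translation part -/
def equiv : A3 ≃ ZMod 2 × ZMod 2 × ZMod 2 × ZMod 2 × ZMod 2 × ZMod 2 × ZMod 2 × ZMod 2 × ZMod 2 × ZMod 2 × ZMod 2 × ZMod 2 where
  toFun x := (x.m00, x.m01, x.m02, x.m10, x.m11, x.m12, x.m20, x.m21, x.m22, x.v0, x.v1, x.v2)
  invFun p := { m00 := p.1, m01 := p.2.1, m02 := p.2.2.1, m10 := p.2.2.2.1, m11 := p.2.2.2.2.1, m12 := p.2.2.2.2.2.1, m20 := p.2.2.2.2.2.2.1, m21 := p.2.2.2.2.2.2.2.1, m22 := p.2.2.2.2.2.2.2.2.1, v0 := p.2.2.2.2.2.2.2.2.2.1, v1 := p.2.2.2.2.2.2.2.2.2.2.1, v2 := p.2.2.2.2.2.2.2.2.2.2.2 }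
  left_inv _ := rfl
  right_inv _ := rfl

instance : Fintype A3 := Fintype.ofEquiv _ equiv.symm

/-- computed order -/
def ordB (x : A3) : ℕ :=
  if x = 1 then 1 else if x * x = 1 then 2 else if x * x * x = 1 then 3 else
  if (x * x) * (x * x) = 1 then 4 else if (x * x * x) * (x * x * x) = 1 then 6 else
  if (x * x * x) * (x * x * x) * x = 1 then 7 else 0

/-- Singer element -/
def sg : A3 := { m00 := 0, m01 := 1, m02 := 0, m10 := 0, m11 := 0, m12 := 1, m20 := 1, m21 := 1, m22 := 0, v0 := 0, v1 := 0, v2 := 0 }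

/-- normalizes the Singer cycle -/
def nrm (x : A3) : Bool := decide (lin x * sg = sg * lin x) || decide (lin x * sg = sg * sg * lin x) ||
  decide (lin x * sg = sg * sg * sg * sg * lin x)

end A3

end Cfsg.Agent.H24.OType
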