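import Mathlib
import Cfsg.Agent.H24_Tools

set_option autoImplicit false

namespace Cfsg.Agent.H24.Perm

open Equiv Subgroup

variable {α : Type*} [Fintype α] [DecidableEq α]

/-- nontrivial normal subgroups of the symmetric group are transitive -/
theorem card_dvd_of_normal (N : Subgroup (Perm α)) (hN : N.Normal) (hb : N ≠ ⊥) :
    Fintype.card α ∣ Nat.card N := by
  obtain ⟨ν, hν, hν1⟩ : ∃ ν ∈ N, ν ≠ 1 :=
    (Subgroup.ne_bot_iff_exists_ne_one.mp hb) |> fun ⟨a, ha⟩ => ⟨a.1, a.2, fun h => ha (Subtype.ext h)⟩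
  obtain ⟨x, hx⟩ : ∃ x, ν x ≠ x := by
    by_contra hcon
    push Not at hcon
    exact hν1 (Equiv.ext hcon)
  have hmv : ∀ z : α, ∃ μ ∈ N, μ x = z := by
    intro z
    by_cases hz : z = x
    · exact ⟨1, N.one_mem, by simp [hz]⟩
    · refine ⟨Equiv.swap (ν x) z * ν * (Equiv.swap (ν x) z)⁻¹, hN.conj_mem ν hν _, ?_⟩
      rw [Equiv.Perm.mul_apply, Equiv.Perm.mul_apply, Equiv.swap_inv,
        Equiv.swap_apply_of_ne_of_ne (Ne.symm hx) (Ne.symm hz), Equiv.swap_apply_left]
  have horb : MulAction.orbit N x = Set.univ := by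
    rw [Set.eq_univ_iff_forall]
    intro z
    obtain ⟨μ, hμ, hμx⟩ := hmv z
    exact ⟨⟨μ, hμ⟩, hμx⟩
  have h1 := MulAction.index_stabilizer N x
  rw [horb, Set.ncard_univ, Nat.card_eq_fintype_card] at h1
  exact (dvd_of_eq h1.symm).trans (Subgroup.index_dvd_card _)

/-- permutations moving only points of `U` -/
def supp (U : Finset α) : Subgroup (Perm α) where
  carrier := {σ | ∀ x, x ∉ U → σ x = x}
  one_mem' := fun _ _ => rfl
  mul_mem' := fun {a b} ha hb x hx => by
    rw [Perm.mul_apply, hb x hx, ha x hx]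
  inv_mem' := fun {a} ha x hx => by
    rw [Perm.inv_eq_iff_eq]
    exact (ha x hx).symm

theorem mem_supp {U : Finset α} {σ : Perm α} : σ ∈ supp U ↔ ∀ x, x ∉ U → σ x = x := Iff.rfl

theorem card_supp (U : Finset α) : Nat.card (supp U) = U.card.factorial := by
  have e : Perm {x // x ∈ U} ≃ {f : Perm α // ∀ a, ¬ a ∈ U → f a = a} :=
    Equiv.Perm.subtypeEquivSubtypePerm (fun x => x ∈ U)
  have h1 : Nat.card (supp U) = Nat.card (Perm {x // x ∈ U}) := Nat.card_congr (Equiv.symm e)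
  rw [h1, Nat.card_eq_fintype_card, Fintype.card_perm, Fintype.card_coe]

theorem swap_mem_supp {U : Finset α} {a b : α} (ha : a ∈ U) (hb : b ∈ U) : swap a b ∈ supp U := by
  intro x hx
  apply swap_apply_of_ne_of_ne
  · rintro rfl; exact hx ha
  · rintro rfl; exact hx hb

end Cfsg.Agent.H24.Perm
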