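import Mathlib

set_option autoImplicit false

/-! Redundant Sylow subgroups: general facts. -/

namespace Cfsg.Agent.H24.Redund

open Subgroup
open scoped Pointwise

variable {G : Type*} [Group G] [Finite G]

/-- some Sylow `p`-subgroup is redundant -/
def Red (p : ℕ) (G : Type*) [Group G] : Prop :=
  ∃ Q : Sylow p G, ∀ x : G, (∃ k : ℕ, orderOf x = p ^ k) → ∃ P : Sylow p G, P ≠ Q ∧ x ∈ P

theorem pElt_of_mem {p : ℕ} [Fact p.Prime] (P : Sylow p G) {x : G} (hx : x ∈ P) : ∃ k : ℕ, orderOf x = p ^ k := by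
  obtain ⟨k, hk⟩ := (IsPGroup.iff_orderOf.1 P.2) ⟨x, hx⟩
  exact ⟨k, by rw [← hk, ← Subgroup.orderOf_coe]⟩

theorem exists_sylow_mem {p : ℕ} [Fact p.Prime] {x : G} (hx : ∃ k : ℕ, orderOf x = p ^ k) : ∃ P : Sylow p G, x ∈ P := by
  obtain ⟨k, hk⟩ := hx
  have h1 : IsPGroup p (zpowers x) := IsPGroup.of_card (n := k) (by rw [Nat.card_zpowers, hk])
  obtain ⟨P, hP⟩ := h1.exists_le_sylow
  exact ⟨P, hP (mem_zpowers x)⟩

theorem not_red {p : ℕ} [Fact p.Prime] (Q₀ : Sylow p G) (x : G) (hx : x ∈ Q₀) (h : ∀ P : Sylow p G, x ∈ P → P = Q₀) :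
    ¬ Red p G := by
  rintro ⟨Q, hQ⟩
  obtain ⟨g, hg⟩ := MulAction.exists_smul_eq G Q₀ Q
  obtain ⟨P, hPQ, hP⟩ := hQ (g * x * g⁻¹) (by
    obtain ⟨k, hk⟩ := pElt_of_mem Q₀ hx
    refine ⟨k, ?_⟩
    rw [← hk]
    exact orderOf_injective (MulAut.conj g).toMonoidHom (MulAut.conj g).injective x)
  apply hPQ
  have h1 : x ∈ g⁻¹ • P := by
    change x ∈ ((g⁻¹ • P : Sylow p G) : Subgroup G)
    rw [Sylow.smul_def, Sylow.pointwise_smul_def, Subgroup.mem_pointwise_smul_iff_inv_smul_mem]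
    simp only [MulAut.smul_def]
    rw [← map_inv, inv_inv]
    exact hP
  have h2 := h _ h1
  rw [← hg, ← h2, smul_inv_smul]

theorem red_of {p : ℕ} [Fact p.Prime] (Q : Sylow p G)
    (h : ∀ x ∈ Q, ∃ g : G, g * x = x * g ∧ g ∉ Subgroup.normalizer ((Q : Subgroup G) : Set G)) : Red p G := by
  refine ⟨Q, fun x hx => ?_⟩
  by_cases hxQ : x ∈ Q
  · obtain ⟨g, hg1, hg2⟩ := h x hxQ
    refine ⟨g • Q, ?_, ?_⟩
    · intro h
      exact hg2 (Sylow.smul_eq_iff_mem_normalizer.1 h)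
    · change x ∈ ((g • Q : Sylow p G) : Subgroup G)
      rw [Sylow.smul_def, Sylow.pointwise_smul_def, Subgroup.mem_pointwise_smul_iff_inv_smul_mem]
      simp only [MulAut.smul_def]
      rw [← map_inv, MulAut.conj_apply, inv_inv, mul_assoc, ← hg1, inv_mul_cancel_left]
      exact hxQ
  · obtain ⟨P, hP⟩ := exists_sylow_mem hx
    exact ⟨P, fun h => hxQ (h ▸ hP), hP⟩

theorem sylow_mem {p : ℕ} [Fact p.Prime] (P : Sylow p G) {t : G}
    (ht : t ∈ Subgroup.normalizer ((P : Subgroup G) : Set G)) (hk : ∃ k : ℕ, orderOf t = p ^ k) : t ∈ P := by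
  obtain ⟨k, hk⟩ := hk
  have h1 : IsPGroup p (zpowers t) := IsPGroup.of_card (n := k) (by rw [Nat.card_zpowers, hk])
  have h2 : IsPGroup p ((P : Subgroup G) ⊔ Subgroup.zpowers t : Subgroup G) :=
    IsPGroup.to_sup_of_normal_left' P.2 h1 (by
      rw [Subgroup.zpowers_le]
      exact ht)
  have h3 := P.is_maximal' h2 le_sup_left
  have h4 : t ∈ (P : Subgroup G) ⊔ Subgroup.zpowers t := Subgroup.mem_sup_right (Subgroup.mem_zpowers t)
  rw [h3] at h4
  exact h4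

theorem mem_of_mk_mem {p : ℕ} [Fact p.Prime] (Z : Subgroup G) [Z.Normal] (hZ : Z ≤ center G) (P : Sylow p G) {x : G}
    (hx : ∃ k : ℕ, orderOf x = p ^ k) (h : (QuotientGroup.mk x : G ⧸ Z) ∈ (P : Subgroup G).map (QuotientGroup.mk' Z)) :
    x ∈ P := by
  obtain ⟨u, hu, hux⟩ := h
  have h1 : u⁻¹ * x ∈ Z := QuotientGroup.eq.1 hux
  apply sylow_mem P _ hx
  have h2 : x = u * (u⁻¹ * x) := by group
  rw [h2]
  refine mul_mem (Subgroup.le_normalizer hu) ?_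
  have h3 : u⁻¹ * x ∈ centralizer ((P : Subgroup G) : Set G) := Subgroup.center_le_centralizer _ (hZ h1)
  exact Subgroup.centralizer_le_normalizer _ h3

theorem red_quotient {p : ℕ} [Fact p.Prime] (Z : Subgroup G) [Z.Normal] (hZ : Z ≤ center G) :
    Red p (G ⧸ Z) ↔ Red p G := by
  have hsurj : Function.Surjective (QuotientGroup.mk' Z) := QuotientGroup.mk'_surjective Z
  have hcoe : ∀ P : Sylow p G, ((P.mapSurjective hsurj : Sylow p (G ⧸ Z)) : Subgroup (G ⧸ Z)) =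
      (P : Subgroup G).map (QuotientGroup.mk' Z) := fun P => rfl
  have hinj : ∀ P Q : Sylow p G, P.mapSurjective hsurj = Q.mapSurjective hsurj → P = Q := by
    intro P Q h
    apply Sylow.ext
    have key : ∀ P Q : Sylow p G, P.mapSurjective hsurj = Q.mapSurjective hsurj → (P : Subgroup G) ≤ Q := by
      intro P Q h x hx
      apply mem_of_mk_mem Z hZ Q (pElt_of_mem P hx)
      rw [← hcoe, ← h, hcoe]
      exact mem_map_of_mem _ hx
    exact le_antisymm (key P Q h) (key Q P h.symm)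
  constructor
  · rintro ⟨Q', hQ'⟩
    obtain ⟨Q, rfl⟩ := Sylow.mapSurjective_surjective hsurj p Q'
    refine ⟨Q, fun x hx => ?_⟩
    obtain ⟨P', hP1, hP2⟩ := hQ' (QuotientGroup.mk x) (by
      obtain ⟨k, hk⟩ := hx
      have h1 : orderOf (QuotientGroup.mk x : G ⧸ Z) ∣ p ^ k := by
        rw [← hk]; exact orderOf_map_dvd (QuotientGroup.mk' Z) x
      obtain ⟨j, _, hj⟩ := (Nat.dvd_prime_pow Fact.out).1 h1
      exact ⟨j, hj⟩)
    obtain ⟨P, rfl⟩ := Sylow.mapSurjective_surjective hsurj p P'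
    exact ⟨P, fun h => hP1 (by rw [h]), mem_of_mk_mem Z hZ P hx hP2⟩
  · rintro ⟨Q, hQ⟩
    refine ⟨Q.mapSurjective hsurj, fun x hx => ?_⟩
    obtain ⟨P', hP'⟩ := exists_sylow_mem hx
    obtain ⟨P, rfl⟩ := Sylow.mapSurjective_surjective hsurj p P'
    obtain ⟨y, hy, rfl⟩ := hP'
    obtain ⟨P₁, h1, h2⟩ := hQ y (pElt_of_mem P hy)
    exact ⟨P₁.mapSurjective hsurj, fun h => h1 (hinj _ _ h), mem_map_of_mem _ h2⟩

end Cfsg.Agent.H24.Redund
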