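import Mathlib
import Cfsg.Agent.H15_TOR6
import Cfsg.Agent.H24_Redund

set_option autoImplicit false

/-! Redundant Sylow subgroups of `SL₂`. -/

namespace Cfsg.Agent.H24.Redund

open Subgroup Matrix
open scoped Pointwise
open Cfsg.Agent.H15.M2 Cfsg.Agent.H15.PS Cfsg.Agent.H15.TOR

variable {F : Type*} [Field F] [Fintype F] [DecidableEq F]

local notation "M₂" => Matrix (Fin 2) (Fin 2) F
local notation "SL₂" => Matrix.SpecialLinearGroup (Fin 2) F

/-! ### defining characteristic -/

omit [Fintype F] [DecidableEq F] in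
/-- the stabilizer of a vector -/
def stab (v : Fin 2 → F) : Subgroup SL₂ where
  carrier := {g | (g : M₂).mulVec v = v}
  one_mem' := by
    change ((1 : SL₂) : M₂).mulVec v = v
    rw [Matrix.SpecialLinearGroup.coe_one, Matrix.one_mulVec]
  mul_mem' := fun {a b} ha hb => by
    change ((a * b : SL₂) : M₂).mulVec v = v
    rw [Matrix.SpecialLinearGroup.coe_mul, ← Matrix.mulVec_mulVec]
    change (a : M₂).mulVec ((b : M₂).mulVec v) = v
    rw [show (b : M₂).mulVec v = v from hb, show (a : M₂).mulVec v = v from ha]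
  inv_mem' := fun {a} ha => by
    change ((a⁻¹ : SL₂) : M₂).mulVec v = v
    have h1 : (a : M₂).mulVec v = v := ha
    have h2 : ((a⁻¹ : SL₂) : M₂) * (a : M₂) = 1 := by
      rw [← Matrix.SpecialLinearGroup.coe_mul, inv_mul_cancel, Matrix.SpecialLinearGroup.coe_one]
    calc ((a⁻¹ : SL₂) : M₂).mulVec v = ((a⁻¹ : SL₂) : M₂).mulVec ((a : M₂).mulVec v) := by rw [h1]
      _ = v := by rw [Matrix.mulVec_mulVec, h2, Matrix.one_mulVec]

omit [Fintype F] [DecidableEq F] in
theorem mem_stab {v : Fin 2 → F} {g : SL₂} : g ∈ stab v ↔ (g : M₂).mulVec v = v := Iff.rfl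

omit [DecidableEq F] in
theorem stab_pGroup {p : ℕ} [hp : Fact p.Prime] [CharP F p] {v : Fin 2 → F} (hv : v ≠ 0) : IsPGroup p (stab v) := by
  rintro ⟨g, hg⟩
  refine ⟨1, ?_⟩
  apply Subtype.ext
  change g ^ (p ^ 1) = 1
  rw [pow_one]
  rw [mem_stab] at hg
  have h0 := congrFun hg 0
  have h1 := congrFun hg 1
  simp only [Matrix.mulVec, dotProduct, Fin.sum_univ_two] at h0 h1
  have hd : (g : M₂) 0 0 * (g : M₂) 1 1 - (g : M₂) 0 1 * (g : M₂) 1 0 = 1 := by
    have := g.2; rwa [Matrix.det_fin_two] at this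
  have ht : (g : M₂).trace = 2 := by
    rw [Matrix.trace_fin_two]
    have e1 : ((g : M₂) 0 0 + (g : M₂) 1 1 - 2) * v 0 = 0 := by
      linear_combination (1 - (g : M₂) 1 1) * h0 + (g : M₂) 0 1 * h1 + (v 0) * hd
    have e2 : ((g : M₂) 0 0 + (g : M₂) 1 1 - 2) * v 1 = 0 := by
      linear_combination (1 - (g : M₂) 0 0) * h1 + (g : M₂) 1 0 * h0 + (v 1) * hd
    by_contra hcon
    have hne : (g : M₂) 0 0 + (g : M₂) 1 1 - 2 ≠ 0 := fun h => hcon (sub_eq_zero.1 h)
    apply hv
    ext i
    fin_cases i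
    · exact (mul_eq_zero.1 e1).resolve_left hne
    · exact (mul_eq_zero.1 e2).resolve_left hne
  apply Subtype.ext
  change ((g ^ p : SL₂) : M₂) = 1
  rw [Matrix.SpecialLinearGroup.coe_pow]
  exact pow_p_eq_one (sq_char ht g.2)

omit [DecidableEq F] in
theorem exists_fixed {p : ℕ} [hp : Fact p.Prime] [CharP F p] (P : Subgroup SL₂) (hP : IsPGroup p P) :
    ∃ v : Fin 2 → F, v ≠ 0 ∧ P ≤ stab v := by
  classical
  let X := {v : Fin 2 → F // v ≠ 0}
  let act : MulAction P X :=
    { smul := fun g v => ⟨((g : SL₂) : M₂).mulVec v.1, fun h => v.2 (by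
        have h2 : (((g : SL₂)⁻¹ : SL₂) : M₂) * ((g : SL₂) : M₂) = 1 := by
          rw [← Matrix.SpecialLinearGroup.coe_mul, inv_mul_cancel, Matrix.SpecialLinearGroup.coe_one]
        have h3 := congrArg ((((g : SL₂)⁻¹ : SL₂) : M₂).mulVec) h
        rwa [Matrix.mulVec_mulVec, h2, Matrix.one_mulVec, Matrix.mulVec_zero] at h3)⟩
      one_smul := fun v => Subtype.ext (by
        change (((1 : P) : SL₂) : M₂).mulVec v.1 = v.1
        rw [Subgroup.coe_one, Matrix.SpecialLinearGroup.coe_one, Matrix.one_mulVec])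
      mul_smul := fun g h v => Subtype.ext (by
        change (((g * h : P) : SL₂) : M₂).mulVec v.1 = ((g : SL₂) : M₂).mulVec (((h : SL₂) : M₂).mulVec v.1)
        rw [Matrix.mulVec_mulVec, Subgroup.coe_mul, Matrix.SpecialLinearGroup.coe_mul]) }
  have hcard : ¬ p ∣ Nat.card X := by
    have h1 : Nat.card X = Fintype.card F ^ 2 - 1 := by
      have h2 := Fintype.card_subtype_compl (fun v : Fin 2 → F => v = 0)
      rw [Fintype.card_subtype_eq, Fintype.card_fun, Fintype.card_fin] at h2
      rw [Nat.card_eq_fintype_card]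
      convert h2
    obtain ⟨n, hp', hn⟩ := FiniteField.card F p
    rw [h1]
    intro h2
    have h3 : p ∣ Fintype.card F ^ 2 := by
      rw [hn, ← pow_mul]
      exact dvd_pow_self p (by positivity)
    have h4 : 0 < Fintype.card F ^ 2 := by positivity
    have h5 := (Nat.dvd_sub_iff_right (by omega) h3).1 h2
    exact hp.out.one_lt.ne' (Nat.dvd_one.1 h5)
  obtain ⟨v, hv⟩ := hP.nonempty_fixed_point_of_prime_not_dvd_card X hcard
  refine ⟨v.1, v.2, ?_⟩
  intro g hg
  rw [mem_stab]
  exact congrArg Subtype.val (hv ⟨g, hg⟩)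

theorem not_red_char {p : ℕ} [hp : Fact p.Prime] [CharP F p] : ¬ Red p SL₂ := by
  classical
  obtain ⟨Q₀⟩ : Nonempty (Sylow p SL₂) := inferInstance
  obtain ⟨w, hw0, hw⟩ := exists_fixed (Q₀ : Subgroup SL₂) Q₀.2
  have hQ : stab w = (Q₀ : Subgroup SL₂) := Q₀.is_maximal' (stab_pGroup hw0) hw
  -- a nontrivial element
  have hne : ∃ x ∈ Q₀, x ≠ 1 := by
    by_contra hcon
    push Not at hcon
    have h1 : (Q₀ : Subgroup SL₂) = ⊥ := by
      rw [Subgroup.eq_bot_iff_forall]; exact hcon
    have h2 : p ∣ Nat.card (Q₀ : Subgroup SL₂) := by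
      apply Sylow.dvd_card_of_dvd_card
      rw [card_G_mul F]
      obtain ⟨n, hp', hn⟩ := FiniteField.card F p
      apply Dvd.dvd.mul_right
      rw [hn]
      exact dvd_pow_self p (by positivity)
    rw [h1, Subgroup.card_bot] at h2
    exact hp.out.one_lt.ne' (Nat.dvd_one.1 h2)
  obtain ⟨x, hx, hx1⟩ := hne
  refine not_red Q₀ x hx (fun P hP => ?_)
  obtain ⟨v, hv0, hv⟩ := exists_fixed (P : Subgroup SL₂) P.2
  have hxv : (x : M₂).mulVec v = v := hv hP
  have hxw : (x : M₂).mulVec w = w := hw hx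
  apply Sylow.ext
  rw [← hQ]
  have hle : stab v ≤ stab w := by
    by_cases hdep : v 0 * w 1 - v 1 * w 0 = 0
    · -- `w = c v`
      have hc : ∃ c : F, w = c • v := by
        by_cases h0 : v 0 = 0
        · have h1 : v 1 ≠ 0 := by
            intro h1
            apply hv0
            ext i
            fin_cases i
            · exact h0
            · exact h1
          have hw0' : w 0 = 0 := by
            rw [h0, zero_mul, zero_sub, neg_eq_zero] at hdep
            exact (mul_eq_zero.1 hdep).resolve_left h1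
          refine ⟨w 1 / v 1, ?_⟩
          ext i
          fin_cases i
          · simp [h0, hw0']
          · simp [h1]
        · refine ⟨w 0 / v 0, ?_⟩
          ext i
          fin_cases i
          · simp [h0]
          · simp only [Fin.mk_one, Pi.smul_apply, smul_eq_mul]
            field_simp
            linear_combination hdep
      obtain ⟨c, rfl⟩ := hc
      intro g hg
      rw [mem_stab] at hg ⊢
      rw [Matrix.mulVec_smul, hg]
    · exfalso
      apply hx1
      have e1 := congrFun hxv 0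
      have e2 := congrFun hxv 1
      have e3 := congrFun hxw 0
      have e4 := congrFun hxw 1
      simp only [Matrix.mulVec, dotProduct, Fin.sum_univ_two] at e1 e2 e3 e4
      apply Subtype.ext
      change (x : M₂) = 1
      ext i j
      apply mul_left_cancel₀ hdep
      fin_cases i <;> fin_cases j
      · simp only [Fin.zero_eta, Matrix.one_apply_eq]; linear_combination w 1 * e1 - v 1 * e3
      · simp only [Fin.zero_eta, Fin.mk_one, ne_eq, zero_ne_one, not_false_eq_true, Matrix.one_apply_ne]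
        linear_combination -w 0 * e1 + v 0 * e3
      · simp only [Fin.zero_eta, Fin.mk_one, ne_eq, one_ne_zero, not_false_eq_true, Matrix.one_apply_ne]
        linear_combination w 1 * e2 - v 1 * e4
      · simp only [Fin.mk_one, Matrix.one_apply_eq]; linear_combination -w 0 * e2 + v 0 * e4
  have h1 : (P : Subgroup SL₂) ≤ stab w := hv.trans hle
  exact (P.is_maximal' (stab_pGroup hw0) h1).symm

/-! ### odd primes not dividing `q` -/

theorem not_red_odd {p : ℕ} [hp : Fact p.Prime] (hp2 : p ≠ 2) (hpq : ¬ p ∣ Fintype.card F) : ¬ Red p SL₂ := by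
  classical
  obtain ⟨Q₀⟩ : Nonempty (Sylow p SL₂) := inferInstance
  have hcyc : ∃ x ∈ Q₀, (Q₀ : Subgroup SL₂) ≤ zpowers x := by
    by_cases hbot : (Q₀ : Subgroup SL₂) = ⊥
    · exact ⟨1, one_mem _, by rw [hbot]; exact bot_le⟩
    haveI : Nontrivial (Q₀ : Subgroup SL₂) := (Subgroup.nontrivial_iff_ne_bot _).2 hbot
    haveI := Q₀.2.center_nontrivial
    obtain ⟨z, hz⟩ := exists_ne (1 : Subgroup.center (Q₀ : Subgroup SL₂))
    have hz1 : ((z : (Q₀ : Subgroup SL₂)) : SL₂) ≠ 1 := fun h => hz (Subtype.ext (Subtype.ext h))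
    obtain ⟨k, hk⟩ := pElt_of_mem Q₀ (z : (Q₀ : Subgroup SL₂)).2
    have hle : (Q₀ : Subgroup SL₂) ≤ TE ((z : (Q₀ : Subgroup SL₂)) : SL₂) := by
      intro y hy
      rw [Subgroup.mem_centralizer_singleton_iff]
      have := Subgroup.mem_center_iff.1 z.2 ⟨y, hy⟩
      exact congrArg Subtype.val this
    obtain ⟨r, hr⟩ := CharP.exists F
    haveI := hr
    obtain ⟨n, hr', hn⟩ := FiniteField.card F r
    haveI : Fact r.Prime := ⟨hr'⟩
    have hpr : p ≠ r := by
      rintro rfl
      exact hpq (by rw [hn]; exact dvd_pow_self p n.pos.ne')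
    have hord : ∀ m : ℕ, ((z : (Q₀ : Subgroup SL₂)) : SL₂) ^ m = 1 → (p ^ k).Coprime m → False := by
      intro m hm hcop
      have h1 := orderOf_dvd_of_pow_eq_one hm
      rw [hk] at h1
      have h2 := Nat.eq_one_of_dvd_coprimes hcop (dvd_refl _) h1
      rw [h2] at hk
      exact hz1 (orderOf_eq_one_iff.1 hk)
    have hcp2 : p.Coprime 2 := (Nat.coprime_primes hp.out Nat.prime_two).2 hp2
    have hcpr : p.Coprime r := (Nat.coprime_primes hp.out hr').2 hpr
    have hc : IsCyclic (TE ((z : (Q₀ : Subgroup SL₂)) : SL₂)) := by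
      rcases cases_SL ((z : (Q₀ : Subgroup SL₂)) : SL₂) with ⟨e, he, h⟩ | ⟨e, he, b, hb, h⟩ | ⟨a, ha, h⟩ | h
      · exfalso
        refine hord 2 ?_ (Nat.Coprime.pow_left _ hcp2)
        rw [h, pow_two, sc_sq]
      · exfalso
        refine hord (2 * r) ?_ (Nat.Coprime.pow_left _ (Nat.Coprime.mul_right hcp2 hcpr))
        have h1 : up e b he ^ (2 * r) = 1 := up_pow_p he
        obtain ⟨g, hg⟩ := isConj_iff.1 h.symm
        rw [← hg, conj_pow, h1]; group
      · exact cyclic_of_conj h.symm (cyclic_split ha)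
      · exact cyclic_TE h
    haveI := hc
    haveI : IsCyclic (Q₀ : Subgroup SL₂) := isCyclic_of_injective (Subgroup.inclusion hle) (Subgroup.inclusion_injective hle)
    obtain ⟨x, hx⟩ := IsCyclic.exists_generator (α := (Q₀ : Subgroup SL₂))
    refine ⟨x, x.2, ?_⟩
    intro y hy
    obtain ⟨m, hm⟩ := hx ⟨y, hy⟩
    exact ⟨m, congrArg Subtype.val hm⟩
  obtain ⟨x, hx, hle⟩ := hcyc
  refine not_red Q₀ x hx (fun P hP => ?_)
  have h1 : (Q₀ : Subgroup SL₂) ≤ P := hle.trans (by rw [zpowers_le]; exact hP)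
  exact Sylow.ext (Q₀.is_maximal' P.2 h1)

/-! ### `p = 2`, `q ± 1` a power of `2` -/

theorem not_red_two (hodd : Odd (Fintype.card F)) (c : SL₂) (hc : (c : M₂).trace ^ 2 ≠ 4) (k : ℕ) (hk : 2 ≤ k)
    (hT : Nat.card (TE c) = 2 ^ k) : ¬ Red 2 SL₂ := by
  classical
  have h2 := two_ne_zero_of_odd hodd
  have hq := one_lt_q (F := F)
  haveI := (tor_cases h2 hc).1
  obtain ⟨x, hx⟩ := IsCyclic.exists_generator (α := TE c)
  have hzx : zpowers (x : SL₂) = TE c := by
    apply le_antisymm
    · rw [zpowers_le]; exact x.2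
    · intro y hy
      obtain ⟨m, hm⟩ := hx ⟨y, hy⟩
      exact ⟨m, congrArg Subtype.val hm⟩
  have hN := (norm_data h2 hc).1
  have hN2 : IsPGroup 2 (Subgroup.normalizer ((TE c : Subgroup SL₂) : Set SL₂)) :=
    IsPGroup.of_card (n := k + 1) (by rw [hN, hT, pow_succ, mul_comm])
  -- the order of a Sylow `2`-subgroup
  have hG : ∃ m, Odd m ∧ Nat.card SL₂ = 2 ^ (k + 1) * m := by
    have h4 : 4 ∣ 2 ^ k := by
      have : (2 : ℕ) ^ 2 ∣ 2 ^ k := pow_dvd_pow 2 hk
      simpa using this
    obtain ⟨j, hj⟩ := h4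
    rw [card_G_mul F]
    rcases (tor_cases h2 hc).2 with h | h
    · -- `q - 1 = 2^k`
      have e1 : Fintype.card F - 1 = 2 ^ k := by rw [← h.2, hT]
      refine ⟨Fintype.card F * (2 * j + 1), hodd.mul ⟨j, rfl⟩, ?_⟩
      have e2 : Fintype.card F + 1 = 2 * (2 * j + 1) := by omega
      rw [e1, e2, pow_succ]; ring
    · have e1 : Fintype.card F + 1 = 2 ^ k := by rw [← h.2, hT]
      refine ⟨Fintype.card F * (2 * j - 1), hodd.mul ⟨j - 1, by omega⟩, ?_⟩
      have e2 : Fintype.card F - 1 = 2 * (2 * j - 1) := by omega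
      rw [e1, e2, pow_succ]; ring
  obtain ⟨m, hm, hG⟩ := hG
  have hcardP : ∀ P : Sylow 2 SL₂, Nat.card P ≤ 2 ^ (k + 1) := by
    intro P
    obtain ⟨n, hn⟩ := IsPGroup.iff_card.1 P.2
    have h3 : Nat.card P ∣ 2 ^ (k + 1) * m := by rw [← hG]; exact Subgroup.card_subgroup_dvd_card _
    rw [hn] at h3 ⊢
    have h5 : 2 ^ n ∣ 2 ^ (k + 1) := by
      apply Nat.Coprime.dvd_of_dvd_mul_right _ h3
      exact Nat.Coprime.pow_left _ (Nat.coprime_two_left.2 hm)
    exact Nat.le_of_dvd (by positivity) h5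
  obtain ⟨Q₀, hQ₀⟩ := hN2.exists_le_sylow
  have huniq : ∀ P : Sylow 2 SL₂, (x : SL₂) ∈ P → (P : Subgroup SL₂) ≤ Subgroup.normalizer ((TE c : Subgroup SL₂) : Set SL₂) := by
    intro P hP
    have h3 : TE c ≤ P := by rw [← hzx, zpowers_le]; exact hP
    -- the index is at most two
    have h4 : Nat.card (TE c) * (TE c).relIndex P = Nat.card P := by
      have := Subgroup.relIndex_mul_relIndex ⊥ (TE c) (P : Subgroup SL₂) bot_le h3
      rwa [Subgroup.relIndex_bot_left, Subgroup.relIndex_bot_left] at this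
    have h5 := hcardP P
    rw [← h4, hT, pow_succ] at h5
    have h6 : (TE c).relIndex P ≤ 2 := Nat.le_of_mul_le_mul_left h5 (by positivity)
    have h7 : (TE c).relIndex P ≠ 0 := by
      intro h
      rw [h, mul_zero] at h4
      exact (Nat.card_pos (α := P)).ne h4
    have h8 : ((TE c).subgroupOf P).Normal := by
      have h9 : ((TE c).subgroupOf P).index = 1 ∨ ((TE c).subgroupOf P).index = 2 := by
        change (TE c).relIndex P = 1 ∨ (TE c).relIndex P = 2
        omega
      rcases h9 with h9 | h9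
      · rw [Subgroup.index_eq_one] at h9
        rw [h9]; infer_instance
      · exact Subgroup.normal_of_index_eq_two h9
    exact (Subgroup.normal_subgroupOf_iff_le_normalizer h3).1 h8
  have hmem : ∀ P : Sylow 2 SL₂, (x : SL₂) ∈ P → (P : Subgroup SL₂) = Subgroup.normalizer ((TE c : Subgroup SL₂) : Set SL₂) :=
    fun P hP => (P.is_maximal' hN2 (huniq P hP)).symm
  have hxQ₀ : (x : SL₂) ∈ Q₀ := hQ₀ (Subgroup.le_normalizer x.2)
  exact not_red Q₀ x hxQ₀ (fun P hP => Sylow.ext (by rw [hmem P hP, hmem Q₀ hxQ₀]))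

/-! ### `p = 2`, `q ± 1` not powers of `2` -/

theorem red_two (hodd : Odd (Fintype.card F)) (h1 : ¬ ∃ k : ℕ, Fintype.card F + 1 = 2 ^ k)
    (h1' : ¬ ∃ k : ℕ, Fintype.card F = 2 ^ k + 1) : Red 2 SL₂ := by
  classical
  have h2 := two_ne_zero_of_odd hodd
  have hq := one_lt_q (F := F)
  obtain ⟨Q⟩ : Nonempty (Sylow 2 SL₂) := inferInstance
  have hcent : Subgroup.centralizer ((Q : Subgroup SL₂) : Set SL₂) = Subgroup.center SL₂ := by
    obtain ⟨c, hc, h4, hS, hcS, -⟩ := sylow_two hodd Q
    exact cent_two hodd Q hc h4 hS hcS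
  -- noncentral elements
  have key : ∀ x ∈ Q, NS (x : M₂) → ∃ g : SL₂, g * x = x * g ∧ g ∉ Subgroup.normalizer ((Q : Subgroup SL₂) : Set SL₂) := by
    intro x hx hn
    obtain ⟨k, hk⟩ := pElt_of_mem Q hx
    have hxc : (x : M₂).trace ^ 2 ≠ 4 := by
      rcases cases_SL x with ⟨e, he, h⟩ | ⟨e, he, b, hb, h⟩ | ⟨a, ha, h⟩ | h
      · rw [h] at hn; exact absurd hn (not_NS_sc e he)
      · exfalso
        obtain ⟨r, hr⟩ := CharP.exists F
        haveI := hr
        obtain ⟨n, hr', hn'⟩ := FiniteField.card F r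
        haveI : Fact r.Prime := ⟨hr'⟩
        have hr2 : r ≠ 2 := by
          rintro rfl
          rw [hn'] at hodd
          exact (Nat.not_even_iff_odd.2 hodd) (even_iff_two_dvd.2 (dvd_pow_self 2 n.pos.ne'))
        have h3 : x ^ (2 * r) = 1 := by
          have h1 : up e b he ^ (2 * r) = 1 := up_pow_p he
          obtain ⟨g, hg⟩ := isConj_iff.1 h.symm
          rw [← hg, conj_pow, h1]; group
        have h4 := orderOf_dvd_of_pow_eq_one h3
        rw [hk] at h4
        have h5 : (2 ^ k).Coprime r := Nat.Coprime.pow_left _ ((Nat.coprime_primes Nat.prime_two hr').2 hr2.symm)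
        have h6 : 2 ^ k ∣ 2 := h5.dvd_of_dvd_mul_right h4
        rw [← hk] at h6
        have h7 := orderOf_dvd_iff_pow_eq_one.1 h6
        rw [pow_two] at h7
        exact sq_one h2 h7 hn
      · rw [conj_trace h]; exact utS_disc ha 0
      · exact ell_disc h2 h
    have hcard : ¬ ∃ k : ℕ, Nat.card (TE x) = 2 ^ k := by
      rintro ⟨j, hj⟩
      rcases (tor_cases h2 hxc).2 with h | h
      · exact h1' ⟨j, by rw [← hj, h.2]; omega⟩
      · exact h1 ⟨j, by rw [← hj, h.2]⟩
    obtain ⟨r, hr, hrd, hrodd⟩ := (Nat.eq_two_pow_or_exists_odd_prime_and_dvd (Nat.card (TE x))).resolve_left hcard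
    obtain ⟨g, hgx, hgo⟩ := exists_order hxc hodd hrd
    have hgx' : g * x = x * g := Subgroup.mem_centralizer_singleton_iff.1 hgx
    have hng : NS (g : M₂) := by
      by_contra hn'
      have h3 := (sq_one_iff h2).2 hn'
      rw [← pow_two, ← orderOf_dvd_iff_pow_eq_one, hgo] at h3
      have h4 := (Nat.prime_dvd_prime_iff_eq hr Nat.prime_two).1 h3
      rw [h4] at hrodd
      exact absurd hrodd (by decide)
    have hTE : TE g = TE x := cent_eq hn hgx hng
    refine ⟨g, hgx', fun hgN => ?_⟩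
    have hcomm : ∀ u ∈ TE x, ∀ v ∈ TE x, u * v = v * u := fun u hu v hv =>
      congrArg Subtype.val (TE_comm hn ⟨u, hu⟩ ⟨v, hv⟩)
    -- `A = Q ∩ C(x)`
    let A : Subgroup (Q : Subgroup SL₂) := (TE x).subgroupOf (Q : Subgroup SL₂)
    have hA : A < ⊤ := by
      rw [lt_top_iff_ne_top]
      intro h
      have h3 : x ∈ Subgroup.centralizer ((Q : Subgroup SL₂) : Set SL₂) := by
        rw [Subgroup.mem_centralizer_iff]
        intro y hy
        have h4 : (⟨y, hy⟩ : (Q : Subgroup SL₂)) ∈ A := by rw [h]; trivial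
        exact Subgroup.mem_centralizer_singleton_iff.1 (Subgroup.mem_subgroupOf.1 h4)
      rw [hcent, center_iff] at h3
      exact h3 hn
    haveI := Q.2.isNilpotent
    obtain ⟨y, hyN, hyA⟩ := SetLike.exists_of_lt (Group.normalizerCondition_of_isNilpotent (G := (Q : Subgroup SL₂)) A hA)
    have hxA : (⟨x, hx⟩ : (Q : Subgroup SL₂)) ∈ A := by
      rw [Subgroup.mem_subgroupOf]
      exact Subgroup.mem_centralizer_singleton_iff.2 rfl
    have hyx : (y : SL₂)⁻¹ * x * y ∈ TE x := by
      have h3 := (Subgroup.mem_normalizer_iff.1 (inv_mem hyN) _).1 hxA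
      rw [inv_inv] at h3
      exact Subgroup.mem_subgroupOf.1 h3
    obtain ⟨a, ha⟩ : ∃ a, a = g * y * g⁻¹ * (y : SL₂)⁻¹ := ⟨_, rfl⟩
    have haQ : a ∈ Q := by
      rw [ha]
      exact mul_mem ((Subgroup.mem_normalizer_iff.1 hgN _).1 y.2) (inv_mem y.2)
    have hax : a ∈ TE x := by
      rw [Subgroup.mem_centralizer_singleton_iff]
      have e1 : g⁻¹ * ((y : SL₂)⁻¹ * x * y) = ((y : SL₂)⁻¹ * x * y) * g⁻¹ := hcomm _ (inv_mem hgx) _ hyx
      have e2 : x * g = g * x := hgx'.symm
      calc a * x = g * y * (g⁻¹ * ((y : SL₂)⁻¹ * x * y)) * (y : SL₂)⁻¹ := by rw [ha]; group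
        _ = g * y * (((y : SL₂)⁻¹ * x * y) * g⁻¹) * (y : SL₂)⁻¹ := by rw [e1]
        _ = (g * x) * y * g⁻¹ * (y : SL₂)⁻¹ := by group
        _ = (x * g) * y * g⁻¹ * (y : SL₂)⁻¹ := by rw [e2]
        _ = x * a := by rw [ha]; group
    have hag : g * a = a * g := hcomm _ hgx _ hax
    have hgy : g * y = a * y * g := by rw [ha]; group
    have hpow : ∀ m : ℕ, g ^ m * y = a ^ m * y * g ^ m := by
      intro m
      induction m with
      | zero => simp
      | succ m ih =>
        have e3 : g * a ^ m = a ^ m * g := by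
          have : Commute g a := hag
          exact (this.pow_right m).eq
        calc g ^ (m + 1) * y = g * (g ^ m * y) := by rw [pow_succ', mul_assoc]
          _ = g * (a ^ m * y * g ^ m) := by rw [ih]
          _ = (g * a ^ m) * y * g ^ m := by simp only [mul_assoc]
          _ = a ^ m * (g * y) * g ^ m := by rw [e3]; simp only [mul_assoc]
          _ = a ^ m * (a * y * g) * g ^ m := by rw [hgy]
          _ = a ^ (m + 1) * y * g ^ (m + 1) := by rw [pow_succ a, pow_succ' g]; simp only [mul_assoc]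
    have h5 := hpow r
    have hgr : g ^ r = 1 := by rw [← hgo]; exact pow_orderOf_eq_one g
    rw [hgr, one_mul, mul_one] at h5
    have h6 : a ^ r = 1 := by
      have := h5.symm
      rwa [mul_eq_right] at this
    have ha1 : a = 1 := by
      obtain ⟨j, hj⟩ := pElt_of_mem Q haQ
      have h7 := orderOf_dvd_of_pow_eq_one h6
      rw [hj] at h7
      have h8 : (2 ^ j).Coprime r := Nat.Coprime.pow_left _ (Nat.coprime_two_left.2 hrodd)
      have h9 := Nat.eq_one_of_dvd_coprimes h8 (dvd_refl _) h7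
      rw [h9] at hj
      exact orderOf_eq_one_iff.1 hj
    rw [ha1, one_mul] at hgy
    apply hyA
    rw [Subgroup.mem_subgroupOf, ← hTE, Subgroup.mem_centralizer_singleton_iff]
    exact hgy.symm
  apply red_of Q
  intro x hx
  by_cases hn : NS (x : M₂)
  · exact key x hx hn
  · obtain ⟨y, hy, hny⟩ : ∃ y ∈ Q, NS (y : M₂) := by
      by_contra hcon
      push Not at hcon
      obtain ⟨c, hc⟩ := exists_ell (F := F)
      have h3 : c ∈ Subgroup.centralizer ((Q : Subgroup SL₂) : Set SL₂) := by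
        rw [Subgroup.mem_centralizer_iff]
        intro y hy
        have h4 : y ∈ Subgroup.center SL₂ := (center_iff _).2 (hcon y hy)
        exact (Subgroup.mem_center_iff.1 h4 c).symm
      rw [hcent, center_iff] at h3
      exact h3 hc.ns
    obtain ⟨g, hg1, hg2⟩ := key y hy hny
    have h4 : x ∈ Subgroup.center SL₂ := (center_iff _).2 hn
    exact ⟨g, Subgroup.mem_center_iff.1 h4 g, hg2⟩

/-- the classification of the pairs `(p, q)` -/
theorem red_iff {p : ℕ} [hp : Fact p.Prime] : Red p SL₂ ↔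
    (p = 2 ∧ (¬ ∃ k : ℕ, Fintype.card F + 1 = 2 ^ k) ∧ (¬ ∃ k : ℕ, Fintype.card F = 2 ^ k) ∧
        ¬ ∃ k : ℕ, Fintype.card F = 2 ^ k + 1) := by
  classical
  have hq := one_lt_q (F := F)
  obtain ⟨r, hr⟩ := CharP.exists F
  haveI := hr
  obtain ⟨n, hr', hn⟩ := FiniteField.card F r
  haveI : Fact r.Prime := ⟨hr'⟩
  constructor
  · intro h
    have hpr : p ≠ r := by
      rintro rfl
      exact not_red_char h
    have hpq : ¬ p ∣ Fintype.card F := by
      rw [hn]
      intro h1
      exact hpr ((Nat.prime_dvd_prime_iff_eq hp.out hr').1 (hp.out.dvd_of_dvd_pow h1))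
    have hp2 : p = 2 := by
      by_contra hp2
      exact not_red_odd hp2 hpq h
    subst hp2
    have hodd : Odd (Fintype.card F) := Nat.odd_iff.2 (Nat.two_dvd_ne_zero.1 hpq)
    refine ⟨rfl, ?_, ?_, ?_⟩
    · rintro ⟨k, hk⟩
      obtain ⟨c, hc⟩ := exists_ell (F := F)
      have h2 := two_ne_zero_of_odd hodd
      have hk2 : 2 ≤ k := by
        by_contra hcon
        push Not at hcon
        interval_cases k <;> omega
      refine not_red_two hodd c (ell_disc h2 hc) k hk2 ?_ h
      rw [card_TE hc, hk]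
    · rintro ⟨k, hk⟩
      apply hpq
      rw [hk]
      apply dvd_pow_self
      rintro rfl
      omega
    · rintro ⟨k, hk⟩
      have h2 := two_ne_zero_of_odd hodd
      by_cases hk2 : 2 ≤ k
      · -- split torus
        have h4 : 4 ≤ 2 ^ k := by
          have := Nat.pow_le_pow_right (n := 2) (by norm_num) hk2
          simpa using this
        obtain ⟨a, ha⟩ : ∃ a : Fˣ, a * a ≠ 1 := by
          by_contra hcon
          push Not at hcon
          have h5 : Nat.card Fˣ ≤ 2 := by
            obtain ⟨g, hg⟩ := IsCyclic.exists_ofOrder_eq_natCard (α := Fˣ)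
            rw [← hg]
            apply orderOf_le_of_pow_eq_one (by norm_num)
            rw [pow_two]; exact hcon g
          rw [Nat.card_eq_fintype_card, Fintype.card_units] at h5
          omega
        refine not_red_two hodd (utS a 0) (utS_disc ha 0) k hk2 ?_ h
        rw [card_TE_split ha, hk]; omega
      · have hk1 : k = 1 := by
          have : k = 0 ∨ k = 1 := by omega
          rcases this with rfl | rfl
          · exfalso
            rw [hk] at hodd
            exact absurd hodd (by decide)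
          · rfl
        subst hk1
        obtain ⟨c, hc⟩ := exists_ell (F := F)
        refine not_red_two hodd c (ell_disc h2 hc) 2 le_rfl ?_ h
        rw [card_TE hc, hk]
        norm_num
  · rintro ⟨rfl, h1, h2, h3⟩
    have hodd : Odd (Fintype.card F) := by
      rw [hn] at h2 ⊢
      have : r ≠ 2 := by
        rintro rfl
        exact h2 ⟨n, rfl⟩
      exact (hr'.odd_of_ne_two this).pow
    exact red_two hodd h1 h3

end Cfsg.Agent.H24.Redund
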