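import Mathlib
import Cfsg.Prelude.Def_Characters
import Cfsg.Prelude.Def_Blocks
import Cfsg.Agent.H3_Extraspecial
import Cfsg.Agent.H3_CharMult
import Cfsg.Agent.H3_CharQuot
import Cfsg.Agent.H3_ZGrp
import Cfsg.Agent.H23_PBasic
import Cfsg.Agent.H2_Rank2
import Cfsg.Agent.H1_Hall

/-!
# `p`-groups all of whose nonlinear irreducible characters of equal degree are Galois conjugate
-/

set_option autoImplicit false

open scoped ComplexConjugate commutatorElement

namespace Cfsg.Agent.H3.GalP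

open Cfsg Cfsg.Agent.H3.CharBasic Cfsg.Agent.H3.CharIrr Cfsg.Agent.H3.CharComplete
  Cfsg.Agent.H3.CharMult Cfsg.Agent.H3.CharInd Cfsg.Agent.H3.CharInt Cfsg.Agent.H3.CharQuot
  Cfsg.Agent.H3.Extraspecial

section General

variable {G : Type*} [Group G] [Fintype G]

theorem norm_central {χ : G → ℂ} (hχ : IsIrrCharacter G χ) {z : G} (hz : z ∈ Subgroup.center G) :
    ‖χ z‖ = ‖χ 1‖ := by
  obtain ⟨ω, hω, hω'⟩ := IsIrr.central hχ hz
  have h3 := hω' 1
  rw [one_mul] at h3
  have h4 : ‖ω‖ = 1 := norm_eq_one_of_pow (orderOf_pos z).ne' hω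
  rw [h3, norm_mul, h4, one_mul]

theorem sum_norm {χ : G → ℂ} (hχ : IsIrrCharacter G χ) : ∑ g : G, ‖χ g‖ ^ 2 = Nat.card G := by
  have h1 := ci_irr_self hχ
  rw [classInner] at h1
  have h3 : (Nat.card G : ℂ) ≠ 0 := card_cast_ne_zero
  rw [inv_mul_eq_iff_eq_mul₀ h3, mul_one] at h1
  have h4 : ∀ g : G, χ g * conj (χ g) = ((‖χ g‖ ^ 2 : ℝ) : ℂ) := by
    intro g
    rw [Complex.mul_conj, Complex.normSq_eq_norm_sq]
  rw [Finset.sum_congr rfl fun g _ => h4 g] at h1
  exact_mod_cast h1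

theorem sum_norm_center {χ : G → ℂ} (hχ : IsIrrCharacter G χ) {m : ℕ} (hm : χ 1 = m)
    [DecidablePred (· ∈ Subgroup.center G)] :
    ∑ g ∈ Finset.univ.filter (· ∈ Subgroup.center G), ‖χ g‖ ^ 2 = m ^ 2 * Nat.card (Subgroup.center G) := by
  classical
  rw [Finset.sum_congr rfl (g := fun _ => (m : ℝ) ^ 2)]
  · rw [Finset.sum_const, nsmul_eq_mul, mul_comm]
    congr 2
    rw [Nat.card_eq_fintype_card, Fintype.card_subtype]
  · intro g hg
    rw [norm_central hχ (Finset.mem_filter.mp hg).2, hm, Complex.norm_natCast]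

theorem degree_le {χ : G → ℂ} (hχ : IsIrrCharacter G χ) {m : ℕ} (hm : χ 1 = m) :
    m ^ 2 * Nat.card (Subgroup.center G) ≤ Nat.card G := by
  classical
  have h1 := sum_norm hχ
  have h2 := sum_norm_center hχ hm
  have h3 : ∑ g ∈ Finset.univ.filter (· ∈ Subgroup.center G), ‖χ g‖ ^ 2 ≤ ∑ g : G, ‖χ g‖ ^ 2 :=
    Finset.sum_le_sum_of_subset_of_nonneg (Finset.filter_subset _ _) (fun _ _ _ => by positivity)
  rw [h1, h2] at h3
  exact_mod_cast h3

theorem degree_eq {χ : G → ℂ} (hχ : IsIrrCharacter G χ) {m : ℕ} (hm : χ 1 = m)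
    (hv : ∀ g : G, g ∉ Subgroup.center G → χ g = 0) :
    m ^ 2 * Nat.card (Subgroup.center G) = Nat.card G := by
  classical
  have h1 := sum_norm hχ
  have h2 := sum_norm_center hχ hm
  rw [← Finset.sum_subset (Finset.subset_univ (Finset.univ.filter (· ∈ Subgroup.center G)))] at h1
  · rw [h2] at h1
    exact_mod_cast h1
  · intro g _ hg
    rw [hv g (fun h => hg (Finset.mem_filter.mpr ⟨Finset.mem_univ _, h⟩))]
    simp

theorem vanish' {χ : G → ℂ} (hχ : IsIrrCharacter G χ) {g x z : G} (hz : z ∈ Subgroup.center G)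
    (hx : x * g * x⁻¹ = g * z) (hne : χ z ≠ χ 1) : χ g = 0 := by
  obtain ⟨ω, -, hω⟩ := IsIrr.central hχ hz
  have h1 := IsIrr.isClass hχ g x
  rw [hx, hω] at h1
  have h2 : ω ≠ 1 := by
    rintro rfl
    apply hne
    have := hω 1
    rwa [one_mul, one_mul] at this
  have h3 : (ω - 1) * χ g = 0 := by rw [sub_mul, h1, one_mul, sub_self]
  exact (mul_eq_zero.mp h3).resolve_left (sub_ne_zero.mpr h2)

theorem exists_irr_ne {g : G} (hg : g ≠ 1) : ∃ χ : G → ℂ, IsIrrCharacter G χ ∧ χ g ≠ χ 1 := by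
  classical
  by_contra hcon
  push Not at hcon
  have := Fintype.ofFinite (IrrCharacter G)
  have h1 := sum_one_mul (G := G) g
  have h2 := sum_one_mul (G := G) 1
  rw [if_neg hg] at h1
  rw [if_pos rfl] at h2
  rw [Finset.sum_congr rfl fun χ _ => by rw [hcon χ χ.2], h2] at h1
  exact card_cast_ne_zero h1

theorem exists_nonlinear (hna : ¬ ∀ a b : G, a * b = b * a) :
    ∃ χ : G → ℂ, IsIrrCharacter G χ ∧ χ 1 ≠ 1 := by
  by_contra hcon
  push Not at hcon hna
  obtain ⟨a, b, hab⟩ := hna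
  have h1 : ⁅a, b⁆ ≠ 1 := fun h => hab (commutatorElement_eq_one_iff_mul_comm.mp h)
  obtain ⟨χ, hχ, hne⟩ := exists_irr_ne h1
  exact hne (commutator_of_one (IsIrr.isCharacter hχ) (hcon χ hχ) _
    (Subgroup.commutator_mem_commutator (Subgroup.mem_top _) (Subgroup.mem_top _)))

end General

section Cyc

variable {P : Type*} [Group P] [Finite P] {p : ℕ} [hp : Fact p.Prime]

/-- uniqueness of elements of prime order in a cyclic subgroup -/
theorem cyc_unique {G : Type*} [Group G] [Finite G] {H : Subgroup G} (hH : IsCyclic H) {r : ℕ} (hr : r.Prime) {x y : G}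
    (hx : x ∈ H) (hy : y ∈ H) (hxo : x ^ r = 1) (hx1 : x ≠ 1) (hyo : y ^ r = 1) :
    y ∈ Subgroup.zpowers x := by
  classical
  have hxo : orderOf x = r := by
    have := Fact.mk hr
    exact orderOf_eq_prime hxo hx1
  have : Fintype H := Fintype.ofFinite _
  have h1 := IsCyclic.card_pow_eq_one_le (α := H) hr.pos
  have h2 : (Finset.univ.filter (fun z : H => (z : G) ∈ Subgroup.zpowers x)) ⊆
      Finset.univ.filter (fun z : H => z ^ r = 1) := by
    intro z hz
    rw [Finset.mem_filter] at hz ⊢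
    refine ⟨Finset.mem_univ _, ?_⟩
    apply Subtype.ext
    obtain ⟨k, hk⟩ := Subgroup.mem_zpowers_iff.mp hz.2
    rw [Subgroup.coe_pow, ← hk, ← zpow_natCast, ← zpow_mul, mul_comm, zpow_mul, zpow_natCast,
      ← hxo, pow_orderOf_eq_one, one_zpow]; rfl
  have h3 : (Finset.univ.filter (fun z : H => (z : G) ∈ Subgroup.zpowers x)).card = r := by
    have h4 : Nat.card (Subgroup.zpowers x) = r := by rw [Nat.card_zpowers, hxo]
    have hle : Subgroup.zpowers x ≤ H := by rw [Subgroup.zpowers_le]; exact hx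
    have h5 : Nat.card ((Subgroup.zpowers x).subgroupOf H) = r := by
      rw [← h4]; exact Nat.card_congr (Subgroup.subgroupOfEquivOfLe hle).toEquiv
    rw [← h5, Nat.card_eq_fintype_card, Fintype.card_subtype]
    rfl
  have h6 := Finset.eq_of_subset_of_card_le h2 (by rw [h3]; exact h1)
  have h7 : (⟨y, hy⟩ : H) ∈ Finset.univ.filter (fun z : H => z ^ r = 1) :=
    Finset.mem_filter.mpr ⟨Finset.mem_univ _, Subtype.ext hyo⟩
  rw [← h6] at h7
  exact (Finset.mem_filter.mp h7).2

omit [Finite P] in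
theorem exists_pow_order (hP : IsPGroup p P) {x : P} (hx : x ≠ 1) : ∃ k : ℕ, (x ^ k) ^ p = 1 ∧ x ^ k ≠ 1 := by
  classical
  obtain ⟨n, hn⟩ := hP x
  have hex : ∃ n, x ^ p ^ n = 1 := ⟨n, hn⟩
  have h1 := Nat.find_spec hex
  have h0 : Nat.find hex ≠ 0 := by
    intro h0
    rw [h0, pow_zero, pow_one] at h1
    exact hx h1
  obtain ⟨m, hm⟩ := Nat.exists_eq_succ_of_ne_zero h0
  refine ⟨p ^ m, ?_, Nat.find_min hex (by rw [hm]; exact Nat.lt_succ_self m)⟩
  rw [← pow_mul, ← pow_succ]
  rw [hm] at h1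
  exact h1

/-- in a `p`-group with cyclic centre every nontrivial normal subgroup contains every central element of order
dividing `p` -/
theorem mem_of_cyclic (hP : IsPGroup p P) (hc : IsCyclic (Subgroup.center P)) {M : Subgroup P} [hM : M.Normal]
    (hMb : M ≠ ⊥) {z : P} (hz : z ∈ Subgroup.center P) (hzp : z ^ p = 1) : z ∈ M := by
  have h1 := H2.PGroup.inf_center_ne_bot hP hMb
  obtain ⟨x, hx, hx1⟩ := (Subgroup.bot_or_exists_ne_one _).resolve_left h1
  obtain ⟨k, hk, hk1⟩ := exists_pow_order hP hx1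
  have h2 := cyc_unique hc hp.out (pow_mem hx.2 k) hz hk hk1 hzp
  exact (Subgroup.zpowers_le.mpr (pow_mem hx.1 k)) h2

variable (hP : IsPGroup p P) (hc : IsCyclic (Subgroup.center P)) (hcard : Nat.card (commutator P) = p)

include hP hcard in
theorem Qle : commutator P ≤ Subgroup.center P :=
  H2.Rank2.le_center_of_card_le hP inferInstance (le_of_eq hcard)

include hP hc hcard in
theorem Qker {χ : P → ℂ} (hχ : IsIrrCharacter P χ) (hn : χ 1 ≠ 1) {g : P} (hg : χ g = χ 1) : g = 1 := by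
  by_contra hg1
  have hkn := chKer_normal (IsIrr.isCharacter hχ)
  have hkb : chKer χ (IsIrr.isCharacter hχ) ≠ ⊥ := by
    intro h
    have : g ∈ chKer χ (IsIrr.isCharacter hχ) := hg
    rw [h] at this
    exact hg1 this
  apply hn
  have := Fintype.ofFinite P
  apply one_of_commutator hχ
  intro z hz
  have hzp : z ^ p = 1 := by
    have h1 : (⟨z, hz⟩ : commutator P) ^ p = 1 := by rw [← hcard]; exact pow_card_eq_one'
    exact congrArg Subtype.val h1
  exact mem_of_cyclic hP hc hkb (Qle hP hcard hz) hzp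

include hP hc hcard in
theorem Qvan {χ : P → ℂ} (hχ : IsIrrCharacter P χ) (hn : χ 1 ≠ 1) {g : P} (hg : g ∉ Subgroup.center P) : χ g = 0 := by
  have := Fintype.ofFinite P
  rw [Subgroup.mem_center_iff] at hg
  push Not at hg
  obtain ⟨x, hx⟩ := hg
  have hz : g⁻¹ * x * g * x⁻¹ ∈ commutator P := by
    have h1 : ⁅g⁻¹, x⁆ ∈ commutator P :=
      Subgroup.commutator_mem_commutator (Subgroup.mem_top _) (Subgroup.mem_top _)
    rwa [commutatorElement_def, inv_inv] at h1
  apply vanish' hχ (Qle hP hcard hz) (x := x)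
  · group
  · intro h
    have h1 := Qker hP hc hcard hχ hn h
    apply hx
    have h2 : x * g = g * (g⁻¹ * x * g * x⁻¹) * x := by group
    rw [h2, h1, mul_one]

include hP hc hcard in
/-- all nonlinear irreducible characters are Galois conjugate -/
theorem conj_of {χ ψ : P → ℂ} (hχ : IsIrrCharacter P χ) (hψ : IsIrrCharacter P ψ) (hn : χ 1 ≠ 1)
    (he : χ 1 = ψ 1) : ∃ k : ℕ, Nat.Coprime k (Nat.card P) ∧ ∀ g : P, ψ g = χ (g ^ k) := by
  have := Fintype.ofFinite P
  have hn' : ψ 1 ≠ 1 := he ▸ hn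
  obtain ⟨⟨z, hz⟩, hgen⟩ := hc.exists_generator
  have hgen' : ∀ y ∈ Subgroup.center P, ∃ j : ℕ, z ^ j = y := by
    intro y hy
    have h1 := hgen ⟨y, hy⟩
    rw [← mem_powers_iff_mem_zpowers] at h1
    obtain ⟨j, hj⟩ := h1
    exact ⟨j, congrArg Subtype.val hj⟩
  have hval : ∀ {θ : P → ℂ} {ω : ℂ} (_ : ∀ g, θ (g * z) = ω * θ g) (j : ℕ), θ (z ^ j) = ω ^ j * θ 1 := by
    intro θ ω hω j
    induction j with
    | zero => simp
    | succ j ih => rw [pow_succ, hω, ih, pow_succ]; ring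
  have hprim : ∀ {θ : P → ℂ} (_ : IsIrrCharacter P θ) (_ : θ 1 ≠ 1), ∃ ω : ℂ, (∀ g, θ (g * z) = ω * θ g) ∧
      IsPrimitiveRoot ω (orderOf z) := by
    intro θ hθ hθn
    obtain ⟨ω, hω, hω'⟩ := IsIrr.central hθ hz
    refine ⟨ω, hω', ⟨hω, fun j hj => ?_⟩⟩
    apply orderOf_dvd_of_pow_eq_one
    apply Qker hP hc hcard hθ hθn
    rw [hval hω' j, hj, one_mul]
  obtain ⟨ω, hω, hω1⟩ := hprim hχ hn
  obtain ⟨ω', hω', hω1'⟩ := hprim hψ hn'
  have hne : NeZero (orderOf z) := ⟨(orderOf_pos z).ne'⟩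
  obtain ⟨i, -, hi, hωi⟩ := (IsPrimitiveRoot.isPrimitiveRoot_iff hω1).mp hω1'
  have hPn : Nontrivial P := by
    by_contra h
    rw [not_nontrivial_iff_subsingleton] at h
    exact hn (IsIrr.one_of_comm (fun a b => Subsingleton.elim _ _) hχ)
  have hz1 : z ≠ 1 := by
    rintro rfl
    have h1 := hP.bot_lt_center
    rw [bot_lt_iff_ne_bot] at h1
    apply h1
    rw [eq_bot_iff]
    intro y hy
    obtain ⟨j, rfl⟩ := hgen' y hy
    simp
  have hip : i.Coprime p := by
    obtain ⟨n, hn⟩ := IsPGroup.iff_orderOf.mp hP z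
    have h1 : n ≠ 0 := by
      rintro rfl
      rw [pow_zero] at hn
      exact hz1 (orderOf_eq_one_iff.mp hn)
    rw [hn] at hi
    exact Nat.Coprime.coprime_dvd_right (dvd_pow_self p h1) hi
  have hiP : i.Coprime (Nat.card P) := by
    obtain ⟨n, hn⟩ := IsPGroup.iff_card.mp hP
    rw [hn]
    exact Nat.Coprime.pow_right n hip
  refine ⟨i, hiP, fun g => ?_⟩
  by_cases hg : g ∈ Subgroup.center P
  · obtain ⟨j, rfl⟩ := hgen' g hg
    rw [hval hω', ← pow_mul, hval hω, ← hωi, ← he, ← pow_mul, mul_comm i j]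
  · rw [Qvan hP hc hcard hψ hn' hg, Qvan hP hc hcard hχ hn]
    intro h
    apply hg
    have h1 : g ∈ Subgroup.zpowers (g ^ i) := by
      have h2 : (orderOf g).Coprime i := (Nat.Coprime.coprime_dvd_right (orderOf_dvd_natCard g) hiP).symm
      obtain ⟨m, hm⟩ := exists_pow_eq_self_of_coprime h2.symm
      exact ⟨m, (zpow_natCast _ _).trans hm⟩
    exact (Subgroup.zpowers_le.mpr h) h1

include hP hc hcard in
theorem Qdeg {χ : P → ℂ} (hχ : IsIrrCharacter P χ) (hn : χ 1 ≠ 1) {m : ℕ} (hm : χ 1 = m) :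
    m ^ 2 * Nat.card (Subgroup.center P) = Nat.card P := by
  have := Fintype.ofFinite P
  exact degree_eq hχ hm fun g hg => Qvan hP hc hcard hχ hn hg

end Cyc

/-- irreducible characters of the same degree `> 1` have the same kernel -/
def SK (P : Type*) [Group P] : Prop := ∀ χ ψ : P → ℂ, IsIrrCharacter P χ → IsIrrCharacter P ψ → χ 1 ≠ 1 →
  χ 1 = ψ 1 → ∀ g, χ g = χ 1 → ψ g = ψ 1

section SKs

variable {P : Type*} [Group P] [Finite P]

theorem SK.quot (h : SK P) (N : Subgroup P) [N.Normal] : SK (P ⧸ N) := by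
  intro χ ψ hχ hψ hn he g hg
  obtain ⟨x, rfl⟩ := QuotientGroup.mk'_surjective N g
  exact h _ _ (IsIrr.inflate hχ) (IsIrr.inflate hψ) hn he x hg

theorem SK.mem_commutator (h : SK P) {χ : P → ℂ} (hχ : IsIrrCharacter P χ) (hn : χ 1 ≠ 1) {g : P}
    (hg : χ g = χ 1) : g ∈ commutator P := by
  by_contra hcon
  obtain ⟨lam, hlam⟩ := ZGrp.exists_linear hcon
  have := Fintype.ofFinite P
  have hl := isIrr_of_hom_units lam
  have h1 := IsIrr.mul_linear hχ (IsIrr.isCharacter hl) (by simp)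
  apply hlam
  have h2 : ∀ x, ((fun g => (lam g : ℂ)) * χ) x = lam x * χ x := fun x => rfl
  have h3 := h _ _ hχ h1 hn (by rw [h2]; simp) g hg
  rw [h2, h2, hg, map_one, Units.val_one] at h3
  have h4 := IsIrr.one_ne_zero hχ
  exact Units.ext (mul_right_cancel₀ h4 h3)

theorem SK.le_commutator (h : SK P) (hna : ¬ ∀ a b : P, a * b = b * a) {N : Subgroup P} [hN : N.Normal]
    {p : ℕ} (hp : p.Prime) (hNp : Nat.card N = p) : N ≤ commutator P ∧
    ((∀ a b : P ⧸ N, a * b = b * a) → commutator P = N) := by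
  have hq : (∀ a b : P ⧸ N, a * b = b * a) → commutator P = N := by
    intro hab
    have h1 : commutator P ≤ N := by
      rw [commutator_eq_closure, Subgroup.closure_le]
      rintro _ ⟨a, b, rfl⟩
      have := hab (a : P ⧸ N) b
      rw [← commutatorElement_eq_one_iff_mul_comm] at this
      exact (QuotientGroup.eq_one_iff _).mp this
    have h2 : Nat.card (commutator P) ∣ p := hNp ▸ Subgroup.card_dvd_of_le h1
    rcases (Nat.dvd_prime hp).mp h2 with h3 | h3
    · exfalso
      rw [Subgroup.card_eq_one] at h3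
      apply hna
      intro a b
      rw [← commutatorElement_eq_one_iff_mul_comm]
      have : ⁅a, b⁆ ∈ commutator P :=
        Subgroup.commutator_mem_commutator (Subgroup.mem_top _) (Subgroup.mem_top _)
      rwa [h3, Subgroup.mem_bot] at this
    · exact Subgroup.eq_of_le_of_card_ge h1 (by rw [h3, hNp])
  refine ⟨?_, hq⟩
  by_cases hab : ∀ a b : P ⧸ N, a * b = b * a
  · rw [hq hab]
  · have := Fintype.ofFinite (P ⧸ N)
    obtain ⟨χ, hχ, hn⟩ := exists_nonlinear hab
    intro x hx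
    apply h.mem_commutator (IsIrr.inflate hχ) hn
    show χ (x : P ⧸ N) = χ 1
    rw [(QuotientGroup.eq_one_iff x).mpr hx]

end SKs

section Aux

variable {P : Type*} [Group P] [Finite P]

theorem card_comap (N : Subgroup P) [N.Normal] (K : Subgroup (P ⧸ N)) :
    Nat.card (K.comap (QuotientGroup.mk' N)) = Nat.card N * Nat.card K := by
  rw [← H1.Hall.relIndex_comap_mk N K]
  have e4 := Subgroup.relIndex_mul_relIndex ⊥ N (K.comap (QuotientGroup.mk' N)) bot_le (H1.Hall.le_comap_mk N K)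
  rw [Subgroup.relIndex_bot_left, Subgroup.relIndex_bot_left] at e4
  exact e4.symm

theorem card_quot (N : Subgroup P) [N.Normal] : Nat.card P = Nat.card N * Nat.card (P ⧸ N) := by
  rw [mul_comm]; exact Subgroup.card_eq_card_quotient_mul_card_subgroup N

theorem mk_mem_center (N : Subgroup P) [N.Normal] (x : P) :
    (x : P ⧸ N) ∈ Subgroup.center (P ⧸ N) ↔ ∀ y : P, ⁅x, y⁆ ∈ N := by
  rw [Subgroup.mem_center_iff]
  constructor
  · intro h y
    have h1 := h (y : P ⧸ N)
    have h2 : ⁅(x : P ⧸ N), (y : P ⧸ N)⁆ = 1 := commutatorElement_eq_one_iff_mul_comm.mpr h1.symm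
    exact (QuotientGroup.eq_one_iff _).mp h2
  · intro h y
    obtain ⟨y, rfl⟩ := QuotientGroup.mk'_surjective N y
    have h2 : ⁅(x : P ⧸ N), (y : P ⧸ N)⁆ = 1 := (QuotientGroup.eq_one_iff _).mpr (h y)
    exact (commutatorElement_eq_one_iff_mul_comm.mp h2).symm

omit [Finite P] in
theorem comm_pow {x y : P} (h : ⁅x, y⁆ ∈ Subgroup.center P) (n : ℕ) : ⁅x ^ n, y⁆ = ⁅x, y⁆ ^ n := by
  have hc : Commute (⁅x, y⁆⁻¹) x := by
    have := Subgroup.mem_center_iff.mp (inv_mem h) x
    exact this.symm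
  have h1 : y * x * y⁻¹ = ⁅x, y⁆⁻¹ * x := by
    rw [commutatorElement_def]; group
  have h2 : y * x ^ n * y⁻¹ = ⁅x, y⁆⁻¹ ^ n * x ^ n := by
    rw [← conj_pow, h1, hc.mul_pow]
  have h3 : ⁅x ^ n, y⁆ = x ^ n * (y * x ^ n * y⁻¹)⁻¹ := by
    rw [commutatorElement_def]; group
  rw [h3, h2, mul_inv_rev, mul_inv_cancel_left, inv_pow, inv_inv]

theorem exists_gen {N : Subgroup P} [N.Normal] (hC : IsCyclic (Subgroup.center (P ⧸ N))) :
    ∃ c : P, (∀ y, ⁅c, y⁆ ∈ N) ∧ ∀ x, (∀ y, ⁅x, y⁆ ∈ N) → ∃ k : ℤ, ∃ n ∈ N, x = c ^ k * n := by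
  obtain ⟨⟨c', hc'⟩, hgen⟩ := hC.exists_generator
  obtain ⟨c, rfl⟩ := QuotientGroup.mk'_surjective N c'
  refine ⟨c, (mk_mem_center N c).mp hc', fun x hx => ?_⟩
  obtain ⟨k, hk⟩ := hgen ⟨(x : P ⧸ N), (mk_mem_center N x).mpr hx⟩
  have hk' : (c : P ⧸ N) ^ k = (x : P ⧸ N) := congrArg Subtype.val hk
  refine ⟨k, (c ^ k)⁻¹ * x, ?_, by group⟩
  rw [← QuotientGroup.mk_zpow] at hk'
  exact QuotientGroup.eq.mp hk'

theorem card_center_comap {N : Subgroup P} [N.Normal] {p : ℕ} (hNZ : N ≤ Subgroup.center P)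
    (hC : IsCyclic (Subgroup.center (P ⧸ N))) (hN : ∀ n ∈ N, n ^ p = 1) (hcen : commutator P ≤ Subgroup.center P) :
    ∃ r : ℕ, r ∣ p ∧ Nat.card N * Nat.card (Subgroup.center (P ⧸ N)) = Nat.card (Subgroup.center P) * r := by
  obtain ⟨c, hc, hgen⟩ := exists_gen hC
  refine ⟨orderOf (c : P ⧸ Subgroup.center P), ?_, ?_⟩
  · apply orderOf_dvd_of_pow_eq_one
    rw [← QuotientGroup.mk_pow]
    apply (QuotientGroup.eq_one_iff _).mpr
    rw [Subgroup.mem_center_iff]
    intro y
    have h1 : ⁅c ^ p, y⁆ = 1 := by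
      rw [comm_pow (hcen (Subgroup.commutator_mem_commutator (Subgroup.mem_top _) (Subgroup.mem_top _))), hN _ (hc y)]
    exact (commutatorElement_eq_one_iff_mul_comm.mp h1).symm
  · rw [← card_comap, ← Nat.card_zpowers, ← card_comap]
    have : (Subgroup.center (P ⧸ N)).comap (QuotientGroup.mk' N) =
        (Subgroup.zpowers (c : P ⧸ Subgroup.center P)).comap (QuotientGroup.mk' (Subgroup.center P)) := by
      ext x
      rw [Subgroup.mem_comap, Subgroup.mem_comap]
      constructor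
      · intro hx
        obtain ⟨k, n, hn, rfl⟩ := hgen x ((mk_mem_center N x).mp hx)
        refine ⟨k, ?_⟩
        have : (n : P ⧸ Subgroup.center P) = 1 := (QuotientGroup.eq_one_iff _).mpr (hNZ hn)
        show (c : P ⧸ Subgroup.center P) ^ k = ((c ^ k * n : P) : P ⧸ Subgroup.center P)
        rw [QuotientGroup.mk_mul, this, mul_one, QuotientGroup.mk_zpow]
      · rintro ⟨k, hk⟩
        have hk' : (c : P ⧸ Subgroup.center P) ^ k = (x : P ⧸ Subgroup.center P) := hk
        rw [← QuotientGroup.mk_zpow] at hk'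
        have h1 := QuotientGroup.eq.mp hk'
        have h2 : x = c ^ k * ((c ^ k)⁻¹ * x) := by group
        rw [h2]
        show ((c ^ k * ((c ^ k)⁻¹ * x) : P) : P ⧸ N) ∈ Subgroup.center (P ⧸ N)
        rw [QuotientGroup.mk_mul, QuotientGroup.mk_zpow]
        refine mul_mem (zpow_mem ((mk_mem_center N c).mpr hc) k) ((mk_mem_center N _).mpr ?_)
        intro y
        have h3 : ⁅(c ^ k)⁻¹ * x, y⁆ = 1 :=
          commutatorElement_eq_one_iff_mul_comm.mpr (Subgroup.mem_center_iff.mp h1 y).symm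
        rw [h3]; exact one_mem N
    rw [this]

theorem sq_lemma {p : ℕ} (hp : p.Prime) {a b r s : ℕ} (ha : a ≠ 0) (hb : b ≠ 0) (hr : r ∣ p) (hs : s ∣ p)
    (h : a ^ 2 * r = b ^ 2 * s) : a = b := by
  have hF := Fact.mk hp
  have key : ∀ {a b : ℕ}, a ≠ 0 → b ≠ 0 → a ^ 2 = b ^ 2 * p → False := by
    intro a b ha hb h
    have h1 := congrArg (padicValNat p) h
    rw [padicValNat.mul (pow_ne_zero 2 hb) hp.ne_zero, padicValNat.pow, padicValNat.pow, padicValNat_self] at h1
    omega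
  rcases (Nat.dvd_prime hp).mp hr with rfl | rfl <;> rcases (Nat.dvd_prime hp).mp hs with rfl | rfl
  · rw [mul_one, mul_one] at h
    exact Nat.pow_left_injective (n := 2) (by norm_num) h
  · rw [mul_one] at h
    exact (key ha hb h).elim
  · rw [mul_one] at h
    exact (key hb ha h.symm).elim
  · have := Nat.eq_of_mul_eq_mul_right hp.pos h
    exact Nat.pow_left_injective (n := 2) (by norm_num) this

theorem degree_le_index {G : Type*} [Group G] [Finite G] {A : Subgroup G} (hA : ∀ a ∈ A, ∀ b ∈ A, a * b = b * a)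
    {χ : G → ℂ} (hχ : IsIrrCharacter G χ) {m : ℕ} (hm : χ 1 = m) : m ≤ A.index := by
  have := Fintype.ofFinite G
  have := Fintype.ofFinite A
  obtain ⟨ψ, hψ, hc⟩ := exists_constituent_res (H := A) hχ
  have h1 : ψ 1 = 1 := IsIrr.one_of_comm (fun a b => Subtype.ext (hA a a.2 b b.2)) hψ
  have h2 := (constituent_ind_iff (IsIrr.isCharacter hχ)).mpr hc
  apply IsChar.degree_le' (IsChar.ind (IsIrr.isCharacter hψ)) hχ h2 _ hm
  rw [ind_one, h1, mul_one]

end Aux

section Main

open Subgroup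

theorem nlc {G : Type*} [Group G] {N : Subgroup G} (h : N ≤ center G) : N.Normal := by
  constructor
  intro n hn g
  rw [Subgroup.mem_center_iff.mp (h hn) g, mul_inv_cancel_right]
  exact hn

/-- the case of noncyclic centre is impossible -/
theorem case_i {P : Type*} [Group P] [Finite P] {p : ℕ} [hp : Fact p.Prime] (hP : IsPGroup p P) (hSK : SK P)
    (hna : ¬ ∀ a b : P, a * b = b * a)
    (ih : ∀ N : Subgroup P, ∀ _ : N.Normal, N ≠ ⊥ → (¬ ∀ a b : P ⧸ N, a * b = b * a) →
      IsCyclic (center (P ⧸ N)) ∧ Nat.card (commutator (P ⧸ N)) = p)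
    {N₁ N₂ : Subgroup P} (h1 : N₁ ≤ center P) (h2 : N₂ ≤ center P) (hc1 : Nat.card N₁ = p) (hc2 : Nat.card N₂ = p) :
    N₁ = N₂ := by
  by_contra hne
  have hn1 : N₁.Normal := nlc h1
  have hn2 : N₂.Normal := nlc h2
  obtain ⟨hN1, hq1⟩ := hSK.le_commutator hna hp.out hc1
  obtain ⟨hN2, hq2⟩ := hSK.le_commutator hna hp.out hc2
  have hab1 : ¬ ∀ a b : P ⧸ N₁, a * b = b * a := by
    intro h
    exact hne (Subgroup.eq_of_le_of_card_ge ((hq1 h) ▸ hN2) (by rw [hc1, hc2])).symm
  have hab2 : ¬ ∀ a b : P ⧸ N₂, a * b = b * a := by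
    intro h
    exact hne (Subgroup.eq_of_le_of_card_ge ((hq2 h) ▸ hN1) (by rw [hc1, hc2]))
  have hb : ∀ {N : Subgroup P}, Nat.card N = p → N ≠ ⊥ := by
    rintro N hN rfl
    rw [Subgroup.card_bot] at hN
    exact hp.out.one_lt.ne hN
  obtain ⟨hC1, hQ1⟩ := ih N₁ hn1 (hb hc1) hab1
  obtain ⟨hC2, hQ2⟩ := ih N₂ hn2 (hb hc2) hab2
  have hexp : ∀ {N : Subgroup P}, Nat.card N = p → ∀ n ∈ N, n ^ p = 1 := by
    intro N hN n hn
    have h1 : (⟨n, hn⟩ : N) ^ p = 1 := by rw [← hN]; exact pow_card_eq_one'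
    exact congrArg Subtype.val h1
  -- `P' = N₁ N₂`
  have hmap : (commutator (P ⧸ N₁)).comap (QuotientGroup.mk' N₁) = commutator P := by
    have e1 : (commutator P).map (QuotientGroup.mk' N₁) = commutator (P ⧸ N₁) := by
      rw [_root_.commutator_def, _root_.commutator_def, Subgroup.map_commutator,
        Subgroup.map_top_of_surjective _ (QuotientGroup.mk'_surjective N₁)]
    rw [← e1, Subgroup.comap_map_eq, QuotientGroup.ker_mk', sup_eq_left.mpr hN1]
  have hP' : Nat.card (commutator P) = p * p := by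
    rw [← hmap, card_comap, hc1, hQ1]
  have hdisj : N₁ ⊓ N₂ = ⊥ := by
    have h3 : Nat.card (N₁ ⊓ N₂ : Subgroup P) ∣ p := hc1 ▸ Subgroup.card_dvd_of_le inf_le_left
    rcases (Nat.dvd_prime hp.out).mp h3 with h4 | h4
    · exact Subgroup.card_eq_one.mp h4
    · exfalso
      apply hne
      have e1 := Subgroup.eq_of_le_of_card_ge (inf_le_left : N₁ ⊓ N₂ ≤ N₁) (by rw [h4, hc1])
      have e2 := Subgroup.eq_of_le_of_card_ge (inf_le_right : N₁ ⊓ N₂ ≤ N₂) (by rw [h4, hc2])
      rw [← e1, e2]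
  have hsup : N₁ ⊔ N₂ = commutator P := by
    apply Subgroup.eq_of_le_of_card_ge (sup_le hN1 hN2)
    rw [hP']
    have e1 : N₁.relIndex (N₁ ⊔ N₂) = p := by
      rw [Subgroup.relIndex_sup_left, ← Subgroup.inf_relIndex_right, hdisj, Subgroup.relIndex_bot_left, hc2]
    have e4 := Subgroup.relIndex_mul_relIndex ⊥ N₁ (N₁ ⊔ N₂) bot_le le_sup_left
    rw [Subgroup.relIndex_bot_left, Subgroup.relIndex_bot_left, e1, hc1] at e4
    rw [e4]
  have hcen : commutator P ≤ center P := by rw [← hsup]; exact sup_le h1 h2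
  obtain ⟨r, hr, hr'⟩ := card_center_comap h1 hC1 (hexp hc1) hcen
  obtain ⟨t, ht, ht'⟩ := card_center_comap h2 hC2 (hexp hc2) hcen
  have hPq1 : IsPGroup p (P ⧸ N₁) := hP.to_quotient N₁
  have hPq2 : IsPGroup p (P ⧸ N₂) := hP.to_quotient N₂
  have := Fintype.ofFinite (P ⧸ N₁)
  have := Fintype.ofFinite (P ⧸ N₂)
  obtain ⟨χ₁, hχ1, hnl1⟩ := exists_nonlinear hab1
  obtain ⟨χ₂, hχ2, hnl2⟩ := exists_nonlinear hab2
  obtain ⟨a, ha, ha'⟩ := IsIrr.one_eq_nat hχ1
  obtain ⟨b, hb', hb''⟩ := IsIrr.one_eq_nat hχ2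
  have d1 := Qdeg hPq1 hC1 hQ1 hχ1 hnl1 ha'
  have d2 := Qdeg hPq2 hC2 hQ2 hχ2 hnl2 hb''
  have hZ0 : 0 < Nat.card (center P) := Nat.card_pos
  have hsq : a ^ 2 * r = b ^ 2 * t := by
    apply Nat.eq_of_mul_eq_mul_left hZ0
    calc Nat.card (center P) * (a ^ 2 * r) = a ^ 2 * (Nat.card (center P) * r) := by ring
      _ = Nat.card N₁ * (a ^ 2 * Nat.card (center (P ⧸ N₁))) := by rw [← hr']; ring
      _ = Nat.card P := by rw [d1, ← card_quot]
      _ = Nat.card N₂ * (b ^ 2 * Nat.card (center (P ⧸ N₂))) := by rw [d2, ← card_quot]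
      _ = b ^ 2 * (Nat.card (center P) * t) := by rw [← ht']; ring
      _ = Nat.card (center P) * (b ^ 2 * t) := by ring
  have hab : a = b := sq_lemma hp.out ha.ne' hb'.ne' hr ht hsq
  -- kernels
  apply hne
  symm
  apply Subgroup.eq_of_le_of_card_ge _ (by rw [hc1, hc2])
  intro x hx
  have h3 := hSK _ _ (IsIrr.inflate hχ2) (IsIrr.inflate hχ1) hnl2 (by
    show χ₂ 1 = χ₁ 1
    rw [ha', hb'', hab]) x (by
    show χ₂ (x : P ⧸ N₂) = χ₂ 1
    rw [(QuotientGroup.eq_one_iff x).mpr hx])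
  exact (QuotientGroup.eq_one_iff x).mp (Qker hPq1 hC1 hQ1 hχ1 hnl1 h3)

/-- the index of the centralizer of an element whose commutators lie in `N` -/
theorem index_centralizer_le {P : Type*} [Group P] [Finite P] {N : Subgroup P} {g : P} (hg : ∀ y, ⁅g, y⁆ ∈ N) :
    (centralizer ({g} : Set P)).index ≤ Nat.card N := by
  let f : P ⧸ centralizer ({g} : Set P) → N := fun q => ⟨⁅q.out, g⁆, by
    rw [← commutatorElement_inv]; exact inv_mem (hg _)⟩
  have hf : Function.Injective f := by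
    intro a b hab
    have h1 : ⁅a.out, g⁆ = ⁅b.out, g⁆ := congrArg (fun z : N => (z : P)) hab
    have h2 : b.out⁻¹ * a.out ∈ centralizer ({g} : Set P) := by
      rw [mem_centralizer_singleton_iff]
      rw [commutatorElement_def, commutatorElement_def] at h1
      have h3 : a.out * g * a.out⁻¹ = b.out * g * b.out⁻¹ := mul_right_cancel h1
      calc b.out⁻¹ * a.out * g = b.out⁻¹ * (a.out * g * a.out⁻¹) * a.out := by group
        _ = g * (b.out⁻¹ * a.out) := by rw [h3]; group
    rw [← QuotientGroup.out_eq' a, ← QuotientGroup.out_eq' b]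
    exact (QuotientGroup.eq.mpr h2).symm
  exact Nat.card_le_card_of_injective f hf

/-- cyclic centre -/
theorem case_ii {P : Type*} [Group P] [Finite P] {p : ℕ} [hp : Fact p.Prime] (hP : IsPGroup p P) (hSK : SK P)
    (hna : ¬ ∀ a b : P, a * b = b * a)
    (ih : ∀ N : Subgroup P, ∀ _ : N.Normal, N ≠ ⊥ → (¬ ∀ a b : P ⧸ N, a * b = b * a) →
      IsCyclic (center (P ⧸ N)) ∧ Nat.card (commutator (P ⧸ N)) = p) (hcyc : IsCyclic (center P)) :
    Nat.card (commutator P) = p := by
  have iP := Fintype.ofFinite P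
  have hnt : Nontrivial P := by
    by_contra h
    rw [not_nontrivial_iff_subsingleton] at h
    exact hna fun a b => Subsingleton.elim _ _
  obtain ⟨z, hzZ, hzp, hz1⟩ : ∃ z ∈ center P, z ^ p = 1 ∧ z ≠ 1 := by
    have h1 := hP.bot_lt_center
    rw [bot_lt_iff_ne_bot] at h1
    obtain ⟨y, hy, hy1⟩ := (Subgroup.bot_or_exists_ne_one _).resolve_left h1
    obtain ⟨k, hk, hk1⟩ := exists_pow_order hP hy1
    exact ⟨y ^ k, pow_mem hy k, hk, hk1⟩
  obtain ⟨N, hN⟩ : ∃ N, N = zpowers z := ⟨_, rfl⟩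
  have hNZ : N ≤ center P := by rw [hN]; exact zpowers_le.mpr hzZ
  have hzN : z ∈ N := by rw [hN]; exact mem_zpowers z
  have hNc : Nat.card N = p := by rw [hN, Nat.card_zpowers]; exact orderOf_eq_prime hzp hz1
  have hNn : N.Normal := nlc hNZ
  have hNb : N ≠ ⊥ := by
    rintro rfl
    rw [Subgroup.card_bot] at hNc
    exact hp.out.one_lt.ne hNc
  obtain ⟨hNP, hq⟩ := hSK.le_commutator hna hp.out hNc
  by_cases hab : ∀ a b : P ⧸ N, a * b = b * a
  · rw [hq hab, hNc]
  exfalso
  obtain ⟨hC, hQ⟩ := ih N hNn hNb hab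
  have hPq : IsPGroup p (P ⧸ N) := hP.to_quotient N
  have hmap : (commutator P).map (QuotientGroup.mk' N) = commutator (P ⧸ N) := by
    rw [_root_.commutator_def, _root_.commutator_def, Subgroup.map_commutator,
      Subgroup.map_top_of_surjective _ (QuotientGroup.mk'_surjective N)]
  have hcomap : (commutator (P ⧸ N)).comap (QuotientGroup.mk' N) = commutator P := by
    rw [← hmap, Subgroup.comap_map_eq, QuotientGroup.ker_mk', sup_eq_left.mpr hNP]
  have hP' : Nat.card (commutator P) = p * p := by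
    rw [← hcomap, card_comap, hNc, hQ]
  have hmem : ∀ a b : P, ⁅a, b⁆ ∈ commutator P := fun a b =>
    Subgroup.commutator_mem_commutator (Subgroup.mem_top _) (Subgroup.mem_top _)
  have hNexp : ∀ n ∈ N, n ^ p = 1 := by
    intro n hn
    have h1 : (⟨n, hn⟩ : N) ^ p = 1 := by rw [← hNc]; exact pow_card_eq_one'
    exact congrArg Subtype.val h1
  by_cases hcen : commutator P ≤ center P
  · -- class 2
    apply hna
    obtain ⟨c, hc, hgen⟩ := exists_gen hC
    have key : ∀ x : P, (x : P ⧸ center P) ^ p = 1 → (x : P ⧸ center P) ∈ zpowers (c : P ⧸ center P) := by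
      intro x hx
      rw [← QuotientGroup.mk_pow] at hx
      have hx' : x ^ p ∈ center P := (QuotientGroup.eq_one_iff _).mp hx
      obtain ⟨k, n, hn, rfl⟩ := hgen x (by
        intro y
        have h1 : ⁅x, y⁆ ^ p = 1 := by
          rw [← comm_pow (hcen (hmem x y))]
          exact commutatorElement_eq_one_iff_mul_comm.mpr (Subgroup.mem_center_iff.mp hx' y).symm
        have h2 := cyc_unique hcyc hp.out hzZ (hcen (hmem x y)) hzp hz1 h1
        rw [hN]; exact h2)
      refine ⟨k, ?_⟩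
      have : (n : P ⧸ Subgroup.center P) = 1 := (QuotientGroup.eq_one_iff _).mpr (hNZ hn)
      show (c : P ⧸ Subgroup.center P) ^ k = ((c ^ k * n : P) : P ⧸ Subgroup.center P)
      rw [QuotientGroup.mk_mul, this, mul_one, QuotientGroup.mk_zpow]
    have hcyc2 : IsCyclic (P ⧸ center P) := by
      apply H23.PBasic.cyclic_of_unique (hP.to_quotient _)
      · right
        intro a b
        obtain ⟨a, rfl⟩ := QuotientGroup.mk'_surjective _ a
        obtain ⟨b, rfl⟩ := QuotientGroup.mk'_surjective _ b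
        rw [← commutatorElement_eq_one_iff_mul_comm]
        exact (QuotientGroup.eq_one_iff _).mpr (hcen (hmem a b))
      · intro H K hH hK
        have hexp : ∀ {L : Subgroup (P ⧸ center P)}, Nat.card L = p → ∀ n ∈ L, n ^ p = 1 := by
          intro L hL n hn
          have h1 : (⟨n, hn⟩ : L) ^ p = 1 := by rw [← hL]; exact pow_card_eq_one'
          exact congrArg Subtype.val h1
        have hHb : H ≠ ⊥ := by
          rintro rfl
          rw [Subgroup.card_bot] at hH
          exact hp.out.one_lt.ne hH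
        obtain ⟨h, hh, hh1⟩ := (Subgroup.bot_or_exists_ne_one _).resolve_left hHb
        symm
        apply Subgroup.eq_of_le_of_card_ge _ (by rw [hH, hK])
        intro k hk
        have hmemW : ∀ y : P ⧸ center P, y ^ p = 1 → y ∈ zpowers (c : P ⧸ center P) := by
          intro y hy
          obtain ⟨y, rfl⟩ := QuotientGroup.mk'_surjective _ y
          exact key y hy
        have h3 := cyc_unique (H := zpowers (c : P ⧸ center P)) inferInstance hp.out
          (hmemW h (hexp hH h hh)) (hmemW k (hexp hK k hk)) (hexp hH h hh) hh1 (hexp hK k hk)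
        exact (zpowers_le.mpr hh) h3
    exact (MonoidHom.isMulCommutative_of_isCyclic_of_ker_le_center (QuotientGroup.mk' (center P))
      (by rw [QuotientGroup.ker_mk'])).is_comm.comm
  · -- class 3
    have hZN : center P = N := by
      apply le_antisymm _ hNZ
      intro w hw
      by_contra hwN
      apply hcen
      have hw1 : (w : P ⧸ N) ≠ 1 := fun h => hwN ((QuotientGroup.eq_one_iff w).mp h)
      obtain ⟨k, hk, hk1⟩ := exists_pow_order hPq hw1
      intro g hg
      have hg1 : (g : P ⧸ N) ∈ commutator (P ⧸ N) := by rw [← hmap]; exact ⟨g, hg, rfl⟩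
      have hg2 : (g : P ⧸ N) ^ p = 1 := by
        have h1 : (⟨_, hg1⟩ : commutator (P ⧸ N)) ^ p = 1 := by rw [← hQ]; exact pow_card_eq_one'
        exact congrArg Subtype.val h1
      have hwc : (w : P ⧸ N) ∈ center (P ⧸ N) := by
        rw [mk_mem_center]
        intro y
        have h3 : ⁅w, y⁆ = 1 :=
          commutatorElement_eq_one_iff_mul_comm.mpr (Subgroup.mem_center_iff.mp hw y).symm
        rw [h3]; exact one_mem N
      have h4 := cyc_unique hC hp.out (pow_mem hwc k) (Qle hPq hQ hg1) hk hk1 hg2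
      obtain ⟨j, hj⟩ := h4
      have hj' : ((w : P ⧸ N) ^ k) ^ j = (g : P ⧸ N) := hj
      rw [← QuotientGroup.mk_pow, ← QuotientGroup.mk_zpow] at hj'
      have h5 := hNZ (QuotientGroup.eq.mp hj')
      have h6 : g = (w ^ k) ^ j * (((w ^ k) ^ j)⁻¹ * g) := by group
      rw [h6]
      exact mul_mem (zpow_mem (pow_mem hw k) j) h5
    -- the centre of the quotient has order at most `p`
    have hCp : Nat.card (center (P ⧸ N)) ≤ p := by
      apply H2.Rank2.card_le_of_cyclic hp.out.pos hC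
      intro x hx
      obtain ⟨x, rfl⟩ := QuotientGroup.mk'_surjective N x
      have hx' := (mk_mem_center N x).mp hx
      show ((x ^ p : P) : P ⧸ N) = 1
      apply (QuotientGroup.eq_one_iff _).mpr
      rw [← hZN, Subgroup.mem_center_iff]
      intro y
      have h1 : ⁅x ^ p, y⁆ = 1 := by
        rw [comm_pow (hNZ (hx' y)), hNexp _ (hx' y)]
      exact (commutatorElement_eq_one_iff_mul_comm.mp h1).symm
    obtain ⟨g, hgP, hgZ⟩ := Set.not_subset.mp hcen
    have hgP : g ∈ commutator P := hgP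
    have hgN : g ∉ N := fun h => hgZ (hNZ h)
    have hgc : ∀ y, ⁅g, y⁆ ∈ N := by
      apply (mk_mem_center N g).mp
      apply Qle hPq hQ
      rw [← hmap]; exact ⟨g, hgP, rfl⟩
    obtain ⟨C, hCdef⟩ : ∃ C, C = centralizer ({g} : Set P) := ⟨_, rfl⟩
    have hCidx : C.index ≤ p := by
      rw [hCdef, ← hNc]; exact index_centralizer_le hgc
    -- `C` centralizes the commutator subgroup
    have hCP : commutator P ≤ centralizer (C : Set P) := by
      have h1 : commutator P ⊓ centralizer (C : Set P) = commutator P := by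
        apply Subgroup.eq_of_le_of_card_ge inf_le_left
        have hd : Nat.card (commutator P ⊓ centralizer (C : Set P) : Subgroup P) ∣ p ^ 2 := by
          rw [sq, ← hP']; exact Subgroup.card_dvd_of_le inf_le_left
        have hNle : N ≤ commutator P ⊓ centralizer (C : Set P) :=
          le_inf hNP (le_trans hNZ (center_le_centralizer _))
        have hgm : g ∈ commutator P ⊓ centralizer (C : Set P) := by
          refine ⟨hgP, ?_⟩
          intro x hx
          rw [hCdef] at hx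
          exact mem_centralizer_singleton_iff.mp hx
        obtain ⟨i, hi, hi'⟩ := (Nat.dvd_prime_pow hp.out).mp hd
        rw [hi', hP', ← sq]
        apply Nat.pow_le_pow_right hp.out.pos
        by_contra hlt
        have hle : Nat.card (commutator P ⊓ centralizer (C : Set P) : Subgroup P) ≤ Nat.card N := by
          rw [hi', hNc]
          calc p ^ i ≤ p ^ 1 := Nat.pow_le_pow_right hp.out.pos (by omega)
            _ = p := pow_one p
        have := Subgroup.eq_of_le_of_card_ge hNle hle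
        rw [← this] at hgm
        exact hgN hgm
      rw [← h1]; exact inf_le_right
    have hCC : ⁅C, C⁆ ≤ center P := by
      have h1 : ⁅⁅C, (⊤ : Subgroup P)⁆, C⁆ = ⊥ := by
        rw [Subgroup.commutator_eq_bot_iff_le_centralizer]
        exact le_trans (Subgroup.commutator_mono le_top le_top) hCP
      have h2 : ⁅⁅(⊤ : Subgroup P), C⁆, C⁆ = ⊥ := by
        rw [Subgroup.commutator_comm ⊤ C]; exact h1
      have h3 := Subgroup.commutator_commutator_eq_bot_of_rotate h1 h2
      rw [Subgroup.commutator_eq_bot_iff_le_centralizer, coe_top, centralizer_univ] at h3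
      exact h3
    -- degree bound in the quotient
    have iPN := Fintype.ofFinite (P ⧸ N)
    obtain ⟨χ, hχ, hnl⟩ := exists_nonlinear hab
    obtain ⟨a, ha, ha'⟩ := IsIrr.one_eq_nat hχ
    have hap : a ≤ p := by
      have h1 := degree_le_index (A := C.map (QuotientGroup.mk' N)) (by
        rintro _ ⟨x, hx, rfl⟩ _ ⟨y, hy, rfl⟩
        rw [← commutatorElement_eq_one_iff_mul_comm]
        apply (QuotientGroup.eq_one_iff _).mpr
        rw [← hZN]
        exact hCC (Subgroup.commutator_mem_commutator hx hy)) hχ ha'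
      refine h1.trans (le_trans ?_ hCidx)
      apply Nat.le_of_dvd (Nat.pos_of_ne_zero Subgroup.index_ne_zero_of_finite)
      exact Subgroup.index_map_dvd _ (QuotientGroup.mk'_surjective N)
    have hcardP : Nat.card P ≤ p ^ 4 := by
      rw [card_quot N, hNc, ← Qdeg hPq hC hQ hχ hnl ha']
      calc p * (a ^ 2 * Nat.card (center (P ⧸ N))) ≤ p * (p ^ 2 * p) :=
            Nat.mul_le_mul_left p (Nat.mul_le_mul (Nat.pow_le_pow_left hap 2) hCp)
        _ = p ^ 4 := by ring
    obtain ⟨ψ, hψ, hψz⟩ := exists_irr_ne hz1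
    have hψnl : ψ 1 ≠ 1 := fun h => hψz (commutator_of_one (IsIrr.isCharacter hψ) h z (hNP hzN))
    obtain ⟨b, hb, hb'⟩ := IsIrr.one_eq_nat hψ
    have hpw : ∀ {n : ℕ}, n ∣ Nat.card P → n ≠ 1 → ∃ i, i ≠ 0 ∧ n = p ^ i := by
      intro n hn hn1
      obtain ⟨k, hk⟩ := IsPGroup.iff_card.mp hP
      rw [hk] at hn
      obtain ⟨i, -, hi⟩ := (Nat.dvd_prime_pow hp.out).mp hn
      refine ⟨i, ?_, hi⟩
      rintro rfl
      exact hn1 (by rw [hi, pow_zero])
    have hdvd : ∀ {θ : P → ℂ} {n : ℕ}, IsIrrCharacter P θ → θ 1 = n → n ∣ Nat.card P := by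
      intro θ n hθ hn
      obtain ⟨m, -, hm1, hm2⟩ := IsIrr.dvd_card hθ
      rw [hn] at hm1
      have : n = m := by exact_mod_cast hm1
      rw [this]; exact hm2
    have hb2 : b = p := by
      obtain ⟨i, hi, hbi⟩ := hpw (hdvd hψ hb') (by rintro rfl; exact hψnl (by rw [hb', Nat.cast_one]))
      have h1 := degree_le hψ hb'
      rw [hZN, hNc, hbi] at h1
      have h2 : p ^ (2 * i + 1) ≤ p ^ 4 := by
        calc p ^ (2 * i + 1) = (p ^ i) ^ 2 * p := by ring
          _ ≤ _ := h1.trans hcardP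
      have h3 := (Nat.pow_le_pow_iff_right hp.out.one_lt).mp h2
      have h4 : i = 1 := by omega
      rw [hbi, h4, pow_one]
    have ha2 : a = p := by
      obtain ⟨i, hi, hai⟩ := hpw (hdvd (IsIrr.inflate hχ) ha') (by rintro rfl; exact hnl (by rw [ha', Nat.cast_one]))
      have h2 : p ^ i ≤ p ^ 1 := by rw [← hai, pow_one]; exact hap
      have h3 := (Nat.pow_le_pow_iff_right hp.out.one_lt).mp h2
      have h4 : i = 1 := by omega
      rw [hai, h4, pow_one]
    apply hψz
    apply hSK _ _ (IsIrr.inflate hχ) hψ hnl (by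
      show χ 1 = ψ 1
      rw [ha', hb', ha2, hb2]) z
    show χ (z : P ⧸ N) = χ 1
    rw [(QuotientGroup.eq_one_iff z).mpr hzN]

universe u in
theorem main {p : ℕ} [hp : Fact p.Prime] (n : ℕ) : ∀ (P : Type u) [Group P] [Finite P], Nat.card P = n →
    IsPGroup p P → SK P → (¬ ∀ a b : P, a * b = b * a) →
    IsCyclic (center P) ∧ Nat.card (commutator P) = p := by
  induction n using Nat.strong_induction_on with
  | _ n ihn =>
    intro P _ _ hn hP hSK hna
    have ih : ∀ N : Subgroup P, ∀ _ : N.Normal, N ≠ ⊥ → (¬ ∀ a b : P ⧸ N, a * b = b * a) →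
      IsCyclic (center (P ⧸ N)) ∧ Nat.card (commutator (P ⧸ N)) = p := by
      intro N hN hNb hab
      apply ihn _ _ (P ⧸ N) rfl (hP.to_quotient N) (hSK.quot N) hab
      rw [← hn, card_quot N]
      have h1 : 1 < Nat.card N := by
        rw [Finite.one_lt_card_iff_nontrivial]; exact (Subgroup.nontrivial_iff_ne_bot N).mpr hNb
      have h2 : 0 < Nat.card (P ⧸ N) := Nat.card_pos
      nlinarith
    have hcyc : IsCyclic (center P) := by
      apply H23.PBasic.cyclic_of_unique (hP.to_subgroup _)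
      · right
        intro a b
        exact Subtype.ext (Subgroup.mem_center_iff.mp b.2 a)
      · intro H K hH hK
        have h1 := case_i hP hSK hna ih (N₁ := H.map (center P).subtype) (N₂ := K.map (center P).subtype)
          (by rintro _ ⟨x, _, rfl⟩; exact x.2) (by rintro _ ⟨x, _, rfl⟩; exact x.2)
          (by rw [← hH]; exact Nat.card_congr (H.equivMapOfInjective _ (center P).subtype_injective).symm.toEquiv)
          (by rw [← hK]; exact Nat.card_congr (K.equivMapOfInjective _ (center P).subtype_injective).symm.toEquiv)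
        exact Subgroup.map_injective (center P).subtype_injective h1
    exact ⟨hcyc, case_ii hP hSK hna ih hcyc⟩

/-- final form -/
theorem final {P : Type*} [Group P] [Finite P] (p : ℕ) [hp : Fact p.Prime] (hP : IsPGroup p P) (hna : ¬ IsMulCommutative P) :
    (∀ χ ψ : IrrCharacter P, charDegree (χ : P → ℂ) ≠ 1 → charDegree (χ : P → ℂ) = charDegree (ψ : P → ℂ) →
      ∃ k : ℕ, Nat.Coprime k (Nat.card P) ∧ ∀ g : P, (ψ : P → ℂ) g = (χ : P → ℂ) (g ^ k)) ↔
      (IsCyclic (center P) ∧ Nat.card (commutator P) = p) := by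
  have hdeg : ∀ {χ : P → ℂ}, IsIrrCharacter P χ → χ 1 = (charDegree χ : ℂ) := by
    intro χ hχ
    obtain ⟨m, -, hm⟩ := IsIrr.one_eq_nat hχ
    have : charDegree χ = m := by
      rw [charDegree, hm, Complex.natCast_re, Nat.floor_natCast]
    rw [this, hm]
  constructor
  · intro h
    have hSK : SK P := by
      intro χ ψ hχ hψ hn he g hg
      have h1 := hdeg hχ
      have h2 := hdeg hψ
      obtain ⟨k, -, hk⟩ := h ⟨χ, hχ⟩ ⟨ψ, hψ⟩ (by
        intro h3
        apply hn
        rw [h1]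
        have h3' : charDegree χ = 1 := h3
        rw [h3', Nat.cast_one]) (by
        rw [h1, h2] at he
        exact_mod_cast he)
      have h3 : g ^ k ∈ chKer χ (IsIrr.isCharacter hχ) :=
        pow_mem (show g ∈ chKer χ (IsIrr.isCharacter hχ) from hg) k
      have h4 : ψ g = χ (g ^ k) := hk g
      rw [h4, ← he]
      exact h3
    apply main _ P rfl hP hSK
    intro hab
    exact hna ⟨⟨hab⟩⟩
  · rintro ⟨hc, hcard⟩ χ ψ hn he
    apply conj_of hP hc hcard χ.2 ψ.2
    · intro h1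
      have h2 := hdeg χ.2
      rw [h1] at h2
      apply hn
      have h3 : ((charDegree (χ : P → ℂ) : ℕ) : ℂ) = ((1 : ℕ) : ℂ) := by rw [← h2, Nat.cast_one]
      exact_mod_cast h3
    · rw [hdeg χ.2, hdeg ψ.2, he]

end Main

end Cfsg.Agent.H3.GalP
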