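import Mathlib
import Cfsg.Agent.H1_Hall
import Cfsg.Agent.H1_Coprime2
import Cfsg.Agent.H3_GalP

/-! Solvable groups in which subgroups of equal order are conjugate. -/

set_option autoImplicit false

open Subgroup Cfsg
open scoped Pointwise

universe u

namespace Cfsg.Agent.H24.SameOrd

open Cfsg.Agent.H1.Basic Cfsg.Agent.H1.Hall Cfsg.Agent.H1.Coprime

variable {G : Type u} [Group G]

theorem conj_of_quot_le (N : Subgroup G) [N.Normal] {H K : Subgroup G} (hH : N ≤ H) (hK : N ≤ K)
    (h : ∃ g : G ⧸ N, MulAut.conj g • H.map (QuotientGroup.mk' N) = K.map (QuotientGroup.mk' N)) :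
    ∃ g : G, MulAut.conj g • H = K := by
  obtain ⟨g, hg⟩ := h
  obtain ⟨g, rfl⟩ := QuotientGroup.mk'_surjective N g
  refine ⟨g, ?_⟩
  rw [← map_conj] at hg
  have hN' : N ≤ MulAut.conj g • H := by
    have h1 := conj_of_normal g N
    have h2 : MulAut.conj g • N ≤ MulAut.conj g • H := conj_le_conj.2 hH
    rwa [h1] at h2
  have h1 : ((MulAut.conj g • H).map (QuotientGroup.mk' N)).comap (QuotientGroup.mk' N) =
    (K.map (QuotientGroup.mk' N)).comap (QuotientGroup.mk' N) := by rw [hg]
  rwa [comap_map_eq_self (by rwa [QuotientGroup.ker_mk']), comap_map_eq_self (by rwa [QuotientGroup.ker_mk'])] at h1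

theorem conj_sup_of_quot (N : Subgroup G) [N.Normal] {H K : Subgroup G}
    (h : ∃ g : G ⧸ N, MulAut.conj g • H.map (QuotientGroup.mk' N) = K.map (QuotientGroup.mk' N)) :
    ∃ g : G, (MulAut.conj g • H) ⊔ N = K ⊔ N := by
  obtain ⟨g, hg⟩ := h
  obtain ⟨g, rfl⟩ := QuotientGroup.mk'_surjective N g
  refine ⟨g, ?_⟩
  rw [← map_conj] at hg
  have h1 := congrArg (fun L => L.comap (QuotientGroup.mk' N)) hg
  simp only [comap_map_eq, QuotientGroup.ker_mk'] at h1
  exact h1

theorem conj_of_quot_coprime [Finite G] [Group.IsSolvable G] (N : Subgroup G) [N.Normal] {H K : Subgroup G}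
    (hc : Nat.card H = Nat.card K) (hcop : (Nat.card H).Coprime (Nat.card N))
    (h : ∃ g : G ⧸ N, MulAut.conj g • H.map (QuotientGroup.mk' N) = K.map (QuotientGroup.mk' N)) :
    ∃ g : G, MulAut.conj g • H = K := by
  obtain ⟨g, hg⟩ := conj_sup_of_quot N h
  obtain ⟨k, -, hk⟩ := sz_internal (A := MulAut.conj g • H) (B := K) (K := N)
    (by rw [normalizer_eq_top]; exact le_top) (by rw [hg]; exact le_sup_left) (by rw [card_conj, hc])
    (by rw [card_conj]; exact hcop) (Or.inr inferInstance)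
  exact ⟨k * g, by rw [← conj_conj]; exact hk⟩

theorem card_map_mk_mul [Finite G] (N : Subgroup G) [N.Normal] (H : Subgroup G) :
    Nat.card (H.map (QuotientGroup.mk' N)) * Nat.card (H ⊓ N : Subgroup G) = Nat.card H := by
  have h1 := relIndex_ker H (QuotientGroup.mk' N)
  rw [QuotientGroup.ker_mk'] at h1
  rw [← h1, ← inf_relIndex_left]
  exact relIndex_mul_card inf_le_left

theorem cyc_quot [Finite G] {q : ℕ} [Fact q.Prime] (N : Subgroup G) [N.Normal] (h : ∀ P : Sylow q G, IsCyclic P) :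
    ∀ P : Sylow q (G ⧸ N), IsCyclic P := by
  intro P
  obtain ⟨P₀, rfl⟩ := Sylow.mapSurjective_surjective (QuotientGroup.mk'_surjective N) q P
  haveI := h P₀
  have h1 := isCyclic_of_surjective ((QuotientGroup.mk' N).subgroupMap (P₀ : Subgroup G)) ((QuotientGroup.mk' N).subgroupMap_surjective _)
  exact h1

theorem cyc_sub [Finite G] {q : ℕ} [Fact q.Prime] (J : Subgroup G) (h : ∀ P : Sylow q G, IsCyclic P) :
    ∀ P : Sylow q J, IsCyclic P := by
  intro P
  have h1 : IsPGroup q ((P : Subgroup J).map J.subtype) := P.2.map _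
  obtain ⟨Q, hQ⟩ := h1.exists_le_sylow
  haveI := h Q
  haveI : IsCyclic ((P : Subgroup J).map J.subtype) := isCyclic_of_injective (inclusion hQ) (inclusion_injective hQ)
  exact isCyclic_of_injective ((P : Subgroup J).equivMapOfInjective J.subtype J.subtype_injective).toMonoidHom
    ((P : Subgroup J).equivMapOfInjective J.subtype J.subtype_injective).injective

theorem le_of_cyclic [Finite G] {p : ℕ} [hp : Fact p.Prime] (h : ∀ P : Sylow p G, IsCyclic P) (N : Subgroup G) [hNn : N.Normal]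
    (hN : N ≠ ⊥) (hNe : ∀ x ∈ N, x ^ p = 1) (H : Subgroup G) (hpH : p ∣ Nat.card H) : N ≤ H := by
  obtain ⟨x, hx⟩ := exists_prime_orderOf_dvd_card' (G := H) p hpH
  have hx1 : (x : G) ≠ 1 := by
    intro h1
    have h2 : x = 1 := Subtype.ext h1
    rw [h2, orderOf_one] at hx
    exact hp.out.one_lt.ne hx
  have hxp : (x : G) ^ p = 1 := by
    rw [← hx, ← coe_pow, pow_orderOf_eq_one]; rfl
  have h1 : IsPGroup p (zpowers (x : G)) := by
    apply isPGroup_of_pow_eq_one
    intro y hy
    obtain ⟨k, rfl⟩ := mem_zpowers_iff.1 hy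
    rw [← zpow_natCast, ← zpow_mul, mul_comm, zpow_mul, zpow_natCast, hxp, one_zpow]
  obtain ⟨P, hP⟩ := h1.exists_le_sylow
  have hNP : N ≤ P := le_of_not_dvd_index (isPGroup_of_pow_eq_one hNe) P.not_dvd_index
  intro y hy
  have h2 := H3.GalP.cyc_unique (h P) hp.out (hP (mem_zpowers _)) (hNP hy) hxp hx1 (hNe y hy)
  exact (zpowers_le.2 x.2) h2

theorem conj_of_cyclic (n : ℕ) : ∀ (G : Type u) [Group G] [Finite G] [Group.IsSolvable G], Nat.card G = n →
    ∀ H K : Subgroup G, Nat.card H = Nat.card K →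
    (∀ q : ℕ, ∀ [Fact q.Prime], q ∣ Nat.card H → ∀ P : Sylow q G, IsCyclic P) → ∃ g : G, MulAut.conj g • H = K := by
  induction n using Nat.strong_induction_on with
  | _ n ih =>
    intro G _ _ _ hn H K hc hcyc
    rcases subsingleton_or_nontrivial G with hs | hnt
    · exact ⟨1, Subsingleton.elim _ _⟩
    obtain ⟨N, hN, hNb, hmin⟩ := exists_minimal_normal_of_nontrivial G
    obtain ⟨hNc, p, hp, hpe⟩ := minimal_normal_elementary N hNb hmin
    haveI : Fact p.Prime := ⟨hp⟩
    have hlt : Nat.card (G ⧸ N) < n := by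
      rw [← hn, card_eq_card_quotient_mul_card_subgroup N]
      have := (one_lt_card_iff_ne_bot N).2 hNb
      have h2 : 0 < Nat.card (G ⧸ N) := Nat.card_pos
      nlinarith
    by_cases hpH : p ∣ Nat.card H
    · have h1 : N ≤ H := le_of_cyclic (hcyc p hpH) N hNb hpe H hpH
      have h2 : N ≤ K := le_of_cyclic (hcyc p hpH) N hNb hpe K (hc ▸ hpH)
      apply conj_of_quot_le N h1 h2
      have e1 := card_map_mk_mul N H
      have e2 := card_map_mk_mul N K
      rw [inf_eq_right.2 h1] at e1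
      rw [inf_eq_right.2 h2] at e2
      apply ih _ hlt _ rfl
      · exact Nat.eq_of_mul_eq_mul_right Nat.card_pos (e1.trans (hc.trans e2.symm))
      · intro q _ hq
        apply cyc_quot N
        exact hcyc q (hq.trans ⟨_, e1.symm⟩)
    · have hcop : (Nat.card H).Coprime (Nat.card N) := by
        obtain ⟨k, hk⟩ := (isPGroup_of_pow_eq_one hpe).exists_card_eq
        rw [hk]
        exact Nat.Coprime.pow_right k ((Nat.Prime.coprime_iff_not_dvd hp).2 hpH).symm
      apply conj_of_quot_coprime N hc hcop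
      have e1 : Nat.card (H.map (QuotientGroup.mk' N)) = Nat.card H :=
        card_map_of_inf_ker_eq_bot _ _ (by rw [QuotientGroup.ker_mk']; exact disjoint_of_coprime_card hcop)
      have e2 : Nat.card (K.map (QuotientGroup.mk' N)) = Nat.card K :=
        card_map_of_inf_ker_eq_bot _ _ (by rw [QuotientGroup.ker_mk']; exact disjoint_of_coprime_card (hc ▸ hcop))
      apply ih _ hlt _ rfl
      · rw [e1, e2, hc]
      · intro q _ hq
        apply cyc_quot N
        exact hcyc q (e1 ▸ hq)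

theorem sylow_map_top {T H : Type*} [Group T] [Group H] [Finite T] [Finite H] {q : ℕ} [hq : Fact q.Prime] (hH : IsPGroup q H)
    (f : T →* H) (hf : Function.Surjective f) (P : Sylow q T) : (P : Subgroup T).map f = ⊤ := by
  have h1 : ((P : Subgroup T).map f).index ∣ (P : Subgroup T).index := index_map_dvd _ hf
  rw [← index_eq_one]
  obtain ⟨k, hk⟩ := hH.index ((P : Subgroup T).map f)
  rw [hk] at h1 ⊢
  rcases k with _ | k
  · rfl
  · exfalso
    exact P.not_dvd_index ((dvd_pow_self q (Nat.succ_ne_zero k)).trans h1)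

theorem lift_sub [Finite G] {Q : Type*} [Group Q] [Finite Q] {f : G →* Q} (hf : Function.Surjective f) {q : ℕ} [hq : Fact q.Prime]
    (T : Subgroup G) (H : Subgroup Q) (hT : T = H.comap f) (hH : IsPGroup q H) :
    ∃ H₁ : Subgroup G, IsPGroup q H₁ ∧ H₁.map f = H ∧ Nat.card H₁ = q ^ (Nat.card T).factorization q := by
  obtain ⟨P⟩ : Nonempty (Sylow q T) := inferInstance
  refine ⟨(P : Subgroup _).map T.subtype, P.2.map _, ?_, card_map_sylow P⟩
  have hTH : ∀ x : T, f x ∈ H := fun x => by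
    have h1 : T ≤ H.comap f := hT.le
    exact h1 x.2
  let f' : T →* H := (f.comp T.subtype).codRestrict H hTH
  have hf' : Function.Surjective f' := by
    rintro ⟨y, hy⟩
    obtain ⟨x, rfl⟩ := hf y
    exact ⟨⟨x, by rw [hT]; exact hy⟩, rfl⟩
  have h2 := sylow_map_top hH f' hf' P
  apply le_antisymm
  · rintro _ ⟨_, ⟨x, -, rfl⟩, rfl⟩
    exact hTH x
  · intro y hy
    have h3 : (⟨y, hy⟩ : H) ∈ ((P : Subgroup _).map f') := by rw [h2]; trivial
    obtain ⟨x, hx, hxy⟩ := h3
    refine ⟨x, ⟨x, hx, rfl⟩, ?_⟩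
    exact congrArg Subtype.val hxy

theorem hD_quot [Finite G] (N : Subgroup G) [N.Normal] {q : ℕ} [hq : Fact q.Prime]
    (hD : ∀ H K : Subgroup G, IsPGroup q H → IsPGroup q K → Nat.card H = Nat.card K → ∃ g : G, MulAut.conj g • H = K) :
    ∀ H K : Subgroup (G ⧸ N), IsPGroup q H → IsPGroup q K → Nat.card H = Nat.card K → ∃ g : G ⧸ N, MulAut.conj g • H = K := by
  intro H K hH hK hc
  obtain ⟨H₁, hH₁, hH₂, hHc⟩ := lift_sub (QuotientGroup.mk'_surjective N) _ H rfl hH
  obtain ⟨K₁, hK₁, hK₂, hKc⟩ := lift_sub (QuotientGroup.mk'_surjective N) _ K rfl hK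
  obtain ⟨g, hg⟩ := hD H₁ K₁ hH₁ hK₁ (by rw [hHc, hKc, card_comap_mk, card_comap_mk, hc])
  exact ⟨QuotientGroup.mk' N g, by rw [← hH₂, ← map_conj, hg, hK₂]⟩

theorem sylow_in [Finite G] {p : ℕ} [hp : Fact p.Prime] (H : Subgroup G) :
    ∃ A ≤ H, IsPGroup p A ∧ Nat.card A = p ^ (Nat.card H).factorization p := by
  obtain ⟨P⟩ : Nonempty (Sylow p H) := inferInstance
  exact ⟨(P : Subgroup H).map H.subtype, map_subtype_le _, P.2.map _, card_map_sylow P⟩

/-- the case of a normal `r`-subgroup `N` exceeding the `r`-part of `H` -/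
theorem big_case [Finite G] [Group.IsSolvable G] {r : ℕ} [hr : Fact r.Prime]
    (hD : ∀ H K : Subgroup G, IsPGroup r H → IsPGroup r K → Nat.card H = Nat.card K → ∃ g : G, MulAut.conj g • H = K)
    (hcyc : ∀ p : ℕ, ∀ [Fact p.Prime], p ≠ r → ∀ P : Sylow p G, IsCyclic P)
    (N : Subgroup G) [N.Normal] (hN : IsPGroup r N) (H K : Subgroup G) (hc : Nat.card H = Nat.card K)
    (hHN : Nat.card (H ⊓ N : Subgroup G) = r ^ (Nat.card H).factorization r)
    (hKN : Nat.card (K ⊓ N : Subgroup G) = r ^ (Nat.card K).factorization r)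
    (hT : H ⊔ N = K ⊔ N) : ∃ g : G, MulAut.conj g • H = K := by
  obtain ⟨e, he⟩ : ∃ e, e = (Nat.card H).factorization r := ⟨_, rfl⟩
  obtain ⟨m, hm⟩ : r ^ e ∣ Nat.card H := he ▸ Nat.ordProj_dvd _ _
  have hmr : ¬ r ∣ m := by
    have h1 := Nat.not_dvd_ordCompl hr.out (Nat.card_pos (α := H)).ne'
    rw [← he, hm, Nat.mul_div_cancel_left m (pow_pos hr.out.pos e)] at h1
    exact h1
  have hmcop : ∀ j, Nat.Coprime m (r ^ j) := fun j => Nat.Coprime.pow_right j ((Nat.Prime.coprime_iff_not_dvd hr.out).2 hmr).symm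
  rw [← he] at hHN
  rw [← hc, ← he] at hKN
  have hex : ∀ L : Subgroup G, Nat.card L = r ^ e * m → ∃ Q ≤ L, Nat.card Q = m := by
    intro L hL
    obtain ⟨Q, hQ⟩ := hall_exists (G := L) m (r ^ e) (by rw [hL, mul_comm]) (hmcop e)
    exact ⟨Q.map L.subtype, map_subtype_le _, by rw [card_map_of_injective L.subtype_injective, hQ]⟩
  obtain ⟨QH, hQH, hQHc⟩ := hex H hm
  obtain ⟨Q, hQ, hQc⟩ := hex K (hc ▸ hm)
  obtain ⟨b, hb⟩ := hN.exists_card_eq
  have hTc : Nat.card (H ⊔ N : Subgroup G) = r ^ b * m := by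
    have h1 := card_sup_mul_card_inf (H := H) (K := N) (by rw [normalizer_eq_top]; exact le_top)
    rw [hHN, hm, hb] at h1
    have h2 : 0 < r ^ e := pow_pos hr.out.pos e
    apply Nat.eq_of_mul_eq_mul_right h2
    rw [h1]; ring
  have hmpos : 0 < m := Nat.pos_of_ne_zero (by rintro rfl; exact hmr (dvd_zero r))
  obtain ⟨l, -, hl⟩ := hall_conj_in (L := H ⊔ N) (H := QH) (K := Q) inferInstance (hQH.trans le_sup_left)
    (hQ.trans (by rw [hT]; exact le_sup_left)) (by rw [hQHc, hQc]) (by
      have h1 := relIndex_mul_card (hQH.trans (le_sup_left : H ≤ H ⊔ N))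
      rw [hTc, hQHc] at h1
      rw [Nat.eq_of_mul_eq_mul_right hmpos h1, hQHc]
      exact hmcop b)
  -- now replace H
  obtain ⟨H', hH'⟩ : ∃ H', H' = MulAut.conj l • H := ⟨_, rfl⟩
  have hQH' : Q ≤ H' := by rw [hH', ← hl]; exact conj_le_conj.2 hQH
  have hH'N : H' ⊓ N = MulAut.conj l • (H ⊓ N) := by
    have h1 := conj_of_normal l N
    ext x
    rw [mem_inf, hH', mem_conj, mem_conj, mem_inf]
    have h2 : x ∈ N ↔ l⁻¹ * x * l ∈ N := by
      rw [← mem_conj, h1]
    rw [h2]
  have hcH' : Nat.card (H' ⊓ N : Subgroup G) = r ^ e := by rw [hH'N, card_conj, hHN]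
  have hgen : ∀ L : Subgroup G, Q ≤ L → Nat.card L = r ^ e * m → Nat.card (L ⊓ N : Subgroup G) = r ^ e → L = (L ⊓ N) ⊔ Q := by
    intro L hQL hLc hLN
    symm
    apply eq_of_le_of_card_ge (sup_le inf_le_left hQL)
    apply Nat.le_of_dvd Nat.card_pos
    rw [hLc]
    apply Nat.Coprime.mul_dvd_of_dvd_of_dvd (hmcop e).symm
    · rw [← hLN]; exact card_dvd_of_le le_sup_left
    · rw [← hQc]; exact card_dvd_of_le le_sup_right
  have hcardH' : Nat.card H' = r ^ e * m := by rw [hH', card_conj, hm]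
  have e1 := hgen H' hQH' hcardH' hcH'
  have e2 := hgen K hQ (hc ▸ hm) hKN
  have hpg : ∀ L : Subgroup G, IsPGroup r (L ⊓ N : Subgroup G) := fun L => hN.to_le inf_le_right
  obtain ⟨g, hg⟩ := hD (H' ⊓ N) (K ⊓ N) (hpg _) (hpg _) (by rw [hcH', hKN])
  have hnorm : ∀ L : Subgroup G, L ≤ normalizer ((L ⊓ N : Subgroup G) : Set G) := by
    intro L x hx
    rw [← conj_eq_iff_mem_normalizer]
    ext y
    rw [mem_conj, mem_inf, mem_inf]
    constructor
    · rintro ⟨h1, h2⟩
      refine ⟨?_, ?_⟩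
      · have := mul_mem (mul_mem hx h1) (inv_mem hx)
        simpa [mul_assoc] using this
      · have := (inferInstance : N.Normal).conj_mem _ h2 x
        simpa [mul_assoc] using this
    · rintro ⟨h1, h2⟩
      refine ⟨mul_mem (mul_mem (inv_mem hx) h1) hx, ?_⟩
      have := (inferInstance : N.Normal).conj_mem _ h2 x⁻¹
      simpa [mul_assoc] using this
  have hQn : Q ≤ normalizer ((K ⊓ N : Subgroup G) : Set G) := hQ.trans (hnorm K)
  have hQgn : MulAut.conj g • Q ≤ normalizer ((K ⊓ N : Subgroup G) : Set G) := by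
    intro x hx
    rw [mem_conj] at hx
    have h1 := hnorm H' (hQH' hx)
    rw [← conj_eq_iff_mem_normalizer] at h1 ⊢
    have h2 := conj_inv_eq hg
    rw [← hg, conj_conj, show x * g = g * (g⁻¹ * x * g) by group, ← conj_conj, h1]
  obtain ⟨n, hn⟩ := conj_of_cyclic _ (normalizer ((K ⊓ N : Subgroup G) : Set G)) rfl ((MulAut.conj g • Q).subgroupOf _) (Q.subgroupOf _)
    (by rw [card_subgroupOf hQgn, card_subgroupOf hQn, card_conj]) (by
      intro q hqf hq
      apply cyc_sub
      apply hcyc q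
      rintro rfl
      rw [card_subgroupOf hQgn, card_conj, hQc] at hq
      exact hmr hq)
  have h3 := conj_of_subgroupOf hQgn hQn n hn
  refine ⟨n * g * l, ?_⟩
  rw [← conj_conj, ← hH', ← conj_conj]
  have h4 : MulAut.conj (n : G) • (K ⊓ N) = K ⊓ N := conj_eq_iff_mem_normalizer.2 n.2
  calc MulAut.conj (n : G) • MulAut.conj g • H' = MulAut.conj (n : G) • MulAut.conj g • ((H' ⊓ N) ⊔ Q) := by rw [← e1]
    _ = (MulAut.conj (n : G) • MulAut.conj g • (H' ⊓ N)) ⊔ (MulAut.conj (n : G) • MulAut.conj g • Q) := by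
      rw [smul_sup, smul_sup]
    _ = (K ⊓ N) ⊔ Q := by rw [hg, h3, h4]
    _ = K := e2.symm

theorem main (r : ℕ) (n : ℕ) : ∀ (G : Type u) [Group G] [Finite G] [Group.IsSolvable G], Nat.card G = n →
    (∀ p : ℕ, ∀ [Fact p.Prime], ∀ H K : Subgroup G, IsPGroup p H → IsPGroup p K → Nat.card H = Nat.card K → ∃ g : G, MulAut.conj g • H = K) →
    (∀ p : ℕ, ∀ [Fact p.Prime], p ≠ r → ∀ P : Sylow p G, IsCyclic P) →
    ∀ H K : Subgroup G, Nat.card H = Nat.card K → ∃ g : G, MulAut.conj g • H = K := by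
  induction n using Nat.strong_induction_on with
  | _ n ih =>
    intro G _ _ _ hn hD hcyc H K hc
    rcases subsingleton_or_nontrivial G with hs | hnt
    · exact ⟨1, Subsingleton.elim _ _⟩
    obtain ⟨N, hN, hNb, hmin⟩ := exists_minimal_normal_of_nontrivial G
    obtain ⟨hNc, p, hp, hpe⟩ := minimal_normal_elementary N hNb hmin
    haveI : Fact p.Prime := ⟨hp⟩
    have hlt : Nat.card (G ⧸ N) < n := by
      rw [← hn, card_eq_card_quotient_mul_card_subgroup N]
      have := (one_lt_card_iff_ne_bot N).2 hNb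
      have h2 : 0 < Nat.card (G ⧸ N) := Nat.card_pos
      nlinarith
    have hIH : ∀ H K : Subgroup (G ⧸ N), Nat.card H = Nat.card K → ∃ g : G ⧸ N, MulAut.conj g • H = K :=
      ih _ hlt _ rfl (fun q _ => hD_quot N (hD q)) (fun q _ hq => cyc_quot N (hcyc q hq))
    have hNp : IsPGroup p N := isPGroup_of_pow_eq_one hpe
    have hle : N ≤ H → N ≤ K → ∃ g : G, MulAut.conj g • H = K := by
      intro h1 h2
      apply conj_of_quot_le N h1 h2
      have e1 := card_map_mk_mul N H
      have e2 := card_map_mk_mul N K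
      rw [inf_eq_right.2 h1] at e1
      rw [inf_eq_right.2 h2] at e2
      apply hIH
      exact Nat.eq_of_mul_eq_mul_right Nat.card_pos (e1.trans (hc.trans e2.symm))
    by_cases hpr : p = r
    · subst hpr
      obtain ⟨b, hb⟩ := hNp.exists_card_eq
      by_cases hbe : b ≤ (Nat.card H).factorization p
      · have key : ∀ L : Subgroup G, b ≤ (Nat.card L).factorization p → N ≤ L := by
          intro L hL
          obtain ⟨A, hAL, hAp, hAc⟩ := sylow_in (p := p) L
          obtain ⟨A', hA'c, hNA'⟩ := Sylow.exists_subgroup_card_pow_prime_le p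
            (m := (Nat.card L).factorization p) (hAc ▸ card_subgroup_dvd_card A) N hb hL
          obtain ⟨g, hg⟩ := hD p A' A (IsPGroup.of_card hA'c) hAp (by rw [hA'c, hAc])
          have h1 := conj_le_conj (g := g).2 hNA'
          rw [conj_of_normal, hg] at h1
          exact h1.trans hAL
        exact hle (key H hbe) (key K (hc ▸ hbe))
      · push Not at hbe
        have key : ∀ L : Subgroup G, (Nat.card L).factorization p < b → Nat.card (L ⊓ N : Subgroup G) = p ^ (Nat.card L).factorization p := by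
          intro L hL
          obtain ⟨A, hAL, hAp, hAc⟩ := sylow_in (p := p) L
          obtain ⟨A', hA'⟩ := Sylow.exists_subgroup_card_pow_prime (G := N) p (n := (Nat.card L).factorization p)
            (by rw [hb]; exact pow_dvd_pow p hL.le)
          have hA'c : Nat.card (A'.map N.subtype) = p ^ (Nat.card L).factorization p := by
            rw [card_map_of_injective N.subtype_injective, hA']
          obtain ⟨g, hg⟩ := hD p (A'.map N.subtype) A (IsPGroup.of_card hA'c) hAp (by rw [hA'c, hAc])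
          have h1 : A ≤ N := by
            have h2 := (conj_le_conj (g := g)).2 (map_subtype_le A' : A'.map N.subtype ≤ N)
            rwa [conj_of_normal g N, hg] at h2
          have h3 : A ≤ L ⊓ N := le_inf hAL h1
          rw [← hAc]
          apply le_antisymm
          · obtain ⟨k, hk⟩ := (hNp.to_le (inf_le_right : L ⊓ N ≤ N)).exists_card_eq
            rw [hk, hAc]
            apply Nat.pow_le_pow_right hp.pos
            rw [← Nat.Prime.pow_dvd_iff_le_factorization hp (Nat.card_pos (α := L)).ne', ← hk]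
            exact card_dvd_of_le inf_le_left
          · exact Nat.le_of_dvd Nat.card_pos (card_dvd_of_le h3)
        have k1 := key H hbe
        have k2 := key K (hc ▸ hbe)
        have e1 := card_map_mk_mul N H
        have e2 := card_map_mk_mul N K
        rw [k1] at e1
        rw [k2, ← hc] at e2
        obtain ⟨g, hg⟩ := conj_sup_of_quot N (hIH (H.map (QuotientGroup.mk' N)) (K.map (QuotientGroup.mk' N))
          (Nat.eq_of_mul_eq_mul_right (pow_pos hp.pos _) (e1.trans e2.symm)))
        have k3 := key (MulAut.conj g • H) (by rw [card_conj]; exact hbe)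
        obtain ⟨g', hg'⟩ := big_case (hD p) hcyc N hNp (MulAut.conj g • H) K (by rw [card_conj, hc]) k3 k2 hg
        exact ⟨g' * g, by rw [← conj_conj]; exact hg'⟩
    · by_cases hpH : p ∣ Nat.card H
      · exact hle (le_of_cyclic (hcyc p hpr) N hNb hpe H hpH) (le_of_cyclic (hcyc p hpr) N hNb hpe K (hc ▸ hpH))
      · have hcop : (Nat.card H).Coprime (Nat.card N) := by
          obtain ⟨k, hk⟩ := hNp.exists_card_eq
          rw [hk]
          exact Nat.Coprime.pow_right k ((Nat.Prime.coprime_iff_not_dvd hp).2 hpH).symm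
        apply conj_of_quot_coprime N hc hcop
        have e1 : Nat.card (H.map (QuotientGroup.mk' N)) = Nat.card H :=
          card_map_of_inf_ker_eq_bot _ _ (by rw [QuotientGroup.ker_mk']; exact disjoint_of_coprime_card hcop)
        have e2 : Nat.card (K.map (QuotientGroup.mk' N)) = Nat.card K :=
          card_map_of_inf_ker_eq_bot _ _ (by rw [QuotientGroup.ker_mk']; exact disjoint_of_coprime_card (hc ▸ hcop))
        exact hIH _ _ (by rw [e1, e2, hc])

end Cfsg.Agent.H24.SameOrd
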