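import Mathlib
import Cfsg.Agent.H24_SylCount

set_option autoImplicit false

universe u

namespace Cfsg.Agent.H24.SylCount2

open Subgroup
open scoped Pointwise

variable {G : Type u} [Group G] [Finite G] {p : ℕ} [Fact p.Prime]

/-- `p`-group `A` normalizing a subgroup `Q`: `|Q| ≡ |C_Q(A)|` mod `p`. -/
theorem card_modEq_centralizer (A Q : Subgroup G) (hA : IsPGroup p A)
    (hAQ : A ≤ normalizer (Q : Set G)) :
    Nat.card Q ≡ Nat.card (Q ⊓ centralizer (A : Set G) : Subgroup G) [MOD p] := by
  have hconj : ∀ a : A, ∀ q : Q, (a : G) * q * (a : G)⁻¹ ∈ Q := fun a q =>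
    (mem_normalizer_iff.mp (hAQ a.2) q).mp q.2
  let _ : MulAction A Q :=
    { smul := fun a q => ⟨(a : G) * q * (a : G)⁻¹, hconj a q⟩
      one_smul := fun q => Subtype.ext (by change ((1 : A) : G) * q * ((1 : A) : G)⁻¹ = q; simp)
      mul_smul := fun a b q => Subtype.ext (by
        change ((a * b : A) : G) * q * ((a * b : A) : G)⁻¹ = (a : G) * ((b : G) * q * (b : G)⁻¹) * (a : G)⁻¹
        rw [coe_mul]; group) }
  have hsm : ∀ (a : A) (q : Q), ((a • q : Q) : G) = (a : G) * q * (a : G)⁻¹ := fun a q => rfl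
  have h := hA.card_modEq_card_fixedPoints Q
  refine h.trans ?_
  have e : Nat.card (MulAction.fixedPoints A Q) = Nat.card (Q ⊓ centralizer (A : Set G) : Subgroup G) := by
    refine Nat.card_congr ⟨fun q => ⟨(q.1 : G), ?_⟩, fun q => ⟨⟨(q : G), (mem_inf.mp q.2).1⟩, ?_⟩, fun q => rfl, fun q => rfl⟩
    · refine mem_inf.mpr ⟨q.1.2, ?_⟩
      rw [mem_centralizer_iff]
      intro a ha
      have h1 := congrArg Subtype.val (q.2 ⟨a, ha⟩)
      rw [hsm] at h1
      rw [← mul_inv_eq_iff_eq_mul]; exact h1
    · intro a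
      apply Subtype.ext
      rw [hsm]
      have h1 := (mem_centralizer_iff.mp (mem_inf.mp q.2).2) a a.2
      rw [mul_inv_eq_iff_eq_mul]; exact h1
  rw [e]

/-- coprime action of the `p`-group `A` on `K`: the `q`-part of `|K : C_K(A)|` is `≡ 1 mod p`. -/
theorem qpart_index (A K : Subgroup G) (hA : IsPGroup p A) (hAK : A ≤ normalizer (K : Set G))
    (hcop : (Nat.card A).Coprime (Nat.card K)) (hp : ¬ p ∣ Nat.card K) (q : ℕ) [Fact q.Prime] :
    q ^ ((K ⊓ centralizer (A : Set G)).relIndex K).factorization q ≡ 1 [MOD p] := by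
  set C := K ⊓ centralizer (A : Set G) with hC
  have hCK : C ≤ K := inf_le_left
  have hsolv : Group.IsSolvable A ∨ Group.IsSolvable K := by
    left
    have := hA.isNilpotent
    infer_instance
  -- Sylow q-subgroup of C
  obtain ⟨R0⟩ : Nonempty (_root_.Sylow q C) := inferInstance
  set R : Subgroup G := (R0 : Subgroup C).map C.subtype with hR
  have hRC : R ≤ C := map_subtype_le _
  have hRcard : Nat.card R = q ^ (Nat.card C).factorization q := Cfsg.Agent.H1.Coprime.card_map_sylow R0
  have hRp : IsPGroup q R := R0.isPGroup'.map _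
  have hRA : A ≤ normalizer (R : Set G) := by
    intro a ha
    apply Tools.mem_normalizer
    intro y hy
    have h1 := (mem_centralizer_iff.mp (mem_inf.mp (hRC hy)).2) a ha
    rw [h1, mul_inv_cancel_right]; exact hy
  obtain ⟨Q0, hRQ, hQA⟩ := Cfsg.Agent.H1.Coprime.invariant_psubgroup_le A K hAK hcop hsolv q R
    (hRC.trans hCK) hRp hRA
  set Q : Subgroup G := (Q0 : Subgroup K).map K.subtype with hQ
  have hQK : Q ≤ K := map_subtype_le _
  have hQcard : Nat.card Q = q ^ (Nat.card K).factorization q := Cfsg.Agent.H1.Coprime.card_map_sylow Q0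
  have hQC : Q ⊓ centralizer (A : Set G) = R := by
    symm
    apply eq_of_le_of_card_ge
    · exact le_inf hRQ (hRC.trans inf_le_right)
    · have h1 : Q ⊓ centralizer (A : Set G) ≤ C := le_inf (inf_le_left.trans hQK) inf_le_right
      have h2 : IsPGroup q (Q ⊓ centralizer (A : Set G) : Subgroup G) :=
        (Q0.isPGroup'.map K.subtype).to_le inf_le_left
      obtain ⟨m, hm⟩ := (IsPGroup.iff_card).mp h2
      rw [hm, hRcard]
      apply Nat.pow_le_pow_right (Fact.out : q.Prime).pos
      rw [← (Fact.out : q.Prime).pow_dvd_iff_le_factorization Nat.card_pos.ne', ← hm]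
      exact card_dvd_of_le h1
  have hmod := card_modEq_centralizer A Q hA hQA
  rw [hQC, hQcard, hRcard] at hmod
  have hmulc : Nat.card C * C.relIndex K = Nat.card K := Tools.card_mul_relIndex hCK
  have hrne : C.relIndex K ≠ 0 := fun h => by rw [h, mul_zero] at hmulc; exact Nat.card_pos.ne' hmulc.symm
  have hfac : (Nat.card K).factorization q = (Nat.card C).factorization q + (C.relIndex K).factorization q := by
    rw [← hmulc, Nat.factorization_mul Nat.card_pos.ne' hrne, Finsupp.add_apply]
  by_cases hqp : q = p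
  · subst hqp
    have h0 : (C.relIndex K).factorization q = 0 := by
      apply Nat.factorization_eq_zero_of_not_dvd
      intro h
      exact hp (h.trans (Dvd.intro_left _ hmulc))
    rw [h0, pow_zero]
  · rw [hfac, pow_add] at hmod
    have hco : Nat.gcd p (q ^ (Nat.card C).factorization q) = 1 := by
      apply Nat.Coprime.pow_right
      exact (Nat.coprime_primes Fact.out Fact.out).mpr (Ne.symm hqp)
    have h3 : q ^ (Nat.card C).factorization q * q ^ (C.relIndex K).factorization q ≡
        q ^ (Nat.card C).factorization q * 1 [MOD p] := by rw [mul_one]; exact hmod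
    exact Nat.ModEq.cancel_left_of_coprime hco h3

theorem coprime_case (P : _root_.Sylow p G) (K : Subgroup G) [K.Normal] (hPK : (P : Subgroup G) ⊔ K = ⊤)
    (hPb : (P : Subgroup G) ⊓ K = ⊥) :
    ∃ l : List ℕ, l.prod = Nat.card (_root_.Sylow p G) ∧
      ∀ m ∈ l, (IsPrimePow m ∧ m % p = 1) ∨
        ∃ (S : Type u) (_ : Group S) (_ : Finite S), IsSimpleGroup S ∧ m = Nat.card (_root_.Sylow p S) := by
  have hAK : (P : Subgroup G) ≤ normalizer (K : Set G) := by
    rw [normalizer_eq_top_iff.mpr inferInstance]; exact le_top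
  have hp : ¬ p ∣ Nat.card K := by
    intro h
    obtain ⟨x, hx⟩ := exists_prime_orderOf_dvd_card' p h
    have hx' : orderOf (x : G) = p ^ 1 := by rw [pow_one, ← hx]; exact orderOf_coe x
    obtain ⟨g, hg⟩ := Sylow.exists_conj_mem_sylow P hx'
    have h1 : g⁻¹ * x * g ∈ (P : Subgroup G) ⊓ K := mem_inf.mpr ⟨hg, by
      have := Normal.conj_mem (inferInstance : K.Normal) x x.2 g⁻¹
      rwa [inv_inv] at this⟩
    rw [hPb, mem_bot] at h1
    have h2 : (x : G) = 1 := by
      have : (x : G) = g * (g⁻¹ * x * g) * g⁻¹ := by group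
      rw [this, h1]; group
    rw [h2, orderOf_one, pow_one] at hx'
    exact (Fact.out : p.Prime).one_lt.ne hx'
  have hcop : (Nat.card P).Coprime (Nat.card K) := by
    obtain ⟨m, hm⟩ := (IsPGroup.iff_card).mp P.isPGroup'
    change (Nat.card (P : Subgroup G)).Coprime _
    rw [hm]
    exact Nat.Coprime.pow_left _ (((Fact.out : p.Prime).coprime_iff_not_dvd).mpr hp)
  have hn : Nat.card (_root_.Sylow p G) = (K ⊓ centralizer ((P : Subgroup G) : Set G)).relIndex K := by
    rw [P.card_eq_index_normalizer, inf_relIndex_left]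
    have h1 : (normalizer ((P : Subgroup G) : Set G)).relIndex ⊤ = (normalizer ((P : Subgroup G) : Set G)).relIndex K := by
      apply Cfsg.Agent.H1.Basic.relIndex_eq_of_factor le_top
      intro l hl
      rw [← hPK, sup_comm, Subgroup.mem_sup_of_normal_left] at hl
      obtain ⟨k, hk, x, hx, rfl⟩ := hl
      exact ⟨k, hk, by rw [inv_mul_cancel_left]; exact le_normalizer hx⟩
    rw [relIndex_top_right] at h1
    change (normalizer ((P : Subgroup G) : Set G)).index = _
    rw [h1, ← inf_relIndex_right, ← inf_relIndex_right (centralizer ((P : Subgroup G) : Set G))]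
    congr 1
    apply le_antisymm
    · intro k hk
      rw [mem_inf] at hk ⊢
      exact ⟨Cfsg.Agent.H1.Coprime.mem_centralizer_of_mem_normalizer hAK hPb hk.2 hk.1, hk.2⟩
    · exact inf_le_inf_right _ (centralizer_le_normalizer _)
  rw [hn]
  set n := (K ⊓ centralizer ((P : Subgroup G) : Set G)).relIndex K with hndef
  have hn0 : n ≠ 0 := by rw [← hn]; exact Nat.card_pos.ne'
  refine ⟨(n.primeFactors.toList).map (fun q => q ^ n.factorization q), ?_, ?_⟩
  · rw [Finset.prod_map_toList]
    exact Nat.prod_factorization_pow_eq_self hn0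
  · intro m hm
    rw [List.mem_map] at hm
    obtain ⟨q, hq, rfl⟩ := hm
    rw [Finset.mem_toList, Nat.mem_primeFactors] at hq
    have hqf : Fact q.Prime := ⟨hq.1⟩
    left
    refine ⟨?_, ?_⟩
    · exact hq.1.isPrimePow.pow (Nat.pos_of_ne_zero (hq.1.factorization_pos_of_dvd hn0 hq.2.1).ne').ne'
    · have := qpart_index (P : Subgroup G) K P.isPGroup' hAK hcop hp q
      have h1 : q ^ n.factorization q % p = 1 % p := this
      rw [h1, Nat.mod_eq_of_lt (Fact.out : p.Prime).one_lt]

end Cfsg.Agent.H24.SylCount2
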