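import Mathlib
import Cfsg.Agent.H24_Zas17

/-! The homomorphism to `S₅`. -/

namespace Cfsg.Agent.H24.Zas

open Subgroup Cfsg

theorem S5_cent : ∀ σ : Equiv.Perm (Fin 5), (∀ τ : Equiv.Perm (Fin 5), Equiv.Perm.sign τ = 1 → σ * τ = τ * σ) → σ = 1 := by
  decide +kernel

/-- a specific generating pair -/
def al0 : Equiv.Perm (Fin 5) := Equiv.swap 0 1 * Equiv.swap 1 2
/-- second member -/
def be0 : Equiv.Perm (Fin 5) := Equiv.swap 2 3 * Equiv.swap 3 4

theorem pair0 : al0 ^ 3 = 1 ∧ al0 ≠ 1 ∧ PairP al0 be0 := by decide +kernel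

theorem al_conj : ∀ α : Equiv.Perm (Fin 5), α ^ 3 = 1 → α ≠ 1 → ∃ σ : Equiv.Perm (Fin 5), σ * al0 * σ⁻¹ = α := by
  decide +kernel

theorem be_conj : ∀ β : Equiv.Perm (Fin 5), PairP al0 β → ∃ σ : Equiv.Perm (Fin 5), σ * al0 * σ⁻¹ = al0 ∧ σ * be0 * σ⁻¹ = β := by
  decide +kernel

theorem pair_conj {α β : Equiv.Perm (Fin 5)} (h1 : α ^ 3 = 1) (h2 : α ≠ 1) (h3 : PairP α β) :
    ∃ σ : Equiv.Perm (Fin 5), σ * al0 * σ⁻¹ = α ∧ σ * be0 * σ⁻¹ = β := by
  obtain ⟨σ, hσ⟩ := al_conj α h1 h2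
  obtain ⟨h4, h5, h6, h7⟩ := h3
  have hab : al0 * (σ⁻¹ * β * σ) = σ⁻¹ * (α * β) * σ := by rw [← hσ]; group
  have hcj : ∀ (x : Equiv.Perm (Fin 5)) (n : ℕ), (σ⁻¹ * x * σ) ^ n = σ⁻¹ * x ^ n * σ := by
    intro x n
    have : σ⁻¹ * x * σ = σ⁻¹ * x * σ⁻¹⁻¹ := by rw [inv_inv]
    rw [this, conj_pow, inv_inv]
  have hne : ∀ x : Equiv.Perm (Fin 5), x ≠ 1 → σ⁻¹ * x * σ ≠ 1 := by
    intro x hx e
    apply hx
    have : x = σ * (σ⁻¹ * x * σ) * σ⁻¹ := by group
    rw [this, e]; group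
  have h8 : PairP al0 (σ⁻¹ * β * σ) := by
    refine ⟨?_, hne β h5, ?_, ?_⟩
    · rw [hcj, h4]; group
    · rw [hab, hcj, h6]; group
    · rw [hab]; exact hne _ h7
  obtain ⟨τ, hτ1, hτ2⟩ := be_conj _ h8
  refine ⟨σ * τ, ?_, ?_⟩
  · rw [← hσ]
    calc σ * τ * al0 * (σ * τ)⁻¹ = σ * (τ * al0 * τ⁻¹) * σ⁻¹ := by group
      _ = σ * al0 * σ⁻¹ := by rw [hτ1]
  · calc σ * τ * be0 * (σ * τ)⁻¹ = σ * (τ * be0 * τ⁻¹) * σ⁻¹ := by group
      _ = β := by rw [hτ2]; group

namespace A5D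

variable {G : Type*} [Group G] {z : G} {π : O3 G →* alternatingGroup (Fin 5)} (D : A5D z π)
include D

/-- conjugation -/
def cj (g : G) (a : O3 G) : O3 G := ⟨g * a * g⁻¹, (inferInstance : (O3 G).Normal).conj_mem a a.2 g⟩

omit D in
theorem cj_mul (g : G) (a b : O3 G) : cj g (a * b) = cj g a * cj g b := by
  apply Subtype.ext
  change g * (a * b) * g⁻¹ = (g * a * g⁻¹) * (g * b * g⁻¹)
  group

omit D in
theorem cj_one (g : G) : cj g (1 : O3 G) = 1 := by
  apply Subtype.ext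
  change g * ((1 : O3 G) : G) * g⁻¹ = ((1 : O3 G) : G)
  rw [OneMemClass.coe_one]; group

omit D in
theorem cj_pow (g : G) (a : O3 G) (n : ℕ) : cj g (a ^ n) = cj g a ^ n := by
  induction n with
  | zero => rw [pow_zero, pow_zero, cj_one]
  | succ n ih => rw [pow_succ, cj_mul, ih, pow_succ]

omit D in
theorem cj_inv (g : G) (a : O3 G) : cj g a⁻¹ = (cj g a)⁻¹ := by
  rw [eq_inv_iff_mul_eq_one, ← cj_mul, inv_mul_cancel, cj_one]

omit D in
theorem cj_cj (g h : G) (a : O3 G) : cj (g * h) a = cj g (cj h a) := by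
  apply Subtype.ext
  change g * h * a * (g * h)⁻¹ = g * (h * a * h⁻¹) * g⁻¹
  group

theorem cj_ker (g : G) (a : O3 G) : π (cj g a) = 1 ↔ π a = 1 := by
  rw [D.hπ, D.hπ]
  change (g * a * g⁻¹ = 1 ∨ g * a * g⁻¹ = z) ↔ _
  constructor
  · rintro (h | h)
    · left
      have : (a : G) = g⁻¹ * (g * a * g⁻¹) * g := by group
      rw [this, h]; group
    · right
      have : (a : G) = g⁻¹ * (g * a * g⁻¹) * g := by group
      rw [this, h, mul_assoc, D.hz]; group
  · rintro (h | h)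
    · left; rw [h]; group
    · right; rw [h, ← D.hz]; group

/-- the induced permutation -/
theorem exists_perm (g : G) : ∃ σ : Equiv.Perm (Fin 5), ∀ a : O3 G,
    (π (cj g a) : Equiv.Perm (Fin 5)) = σ * (π a : Equiv.Perm (Fin 5)) * σ⁻¹ := by
  obtain ⟨h1, h2, h3, h4, h5, h6⟩ := pair0
  obtain ⟨x, hx, hxα⟩ := D.lift3 (α := ⟨al0, sign_of_cube h1⟩) (Subtype.ext h1)
  obtain ⟨y, hy, hyβ⟩ := D.lift3 (α := ⟨be0, sign_of_cube h3⟩) (Subtype.ext h3)
  have hxα' : (π x : Equiv.Perm (Fin 5)) = al0 := by rw [hxα]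
  have hyβ' : (π y : Equiv.Perm (Fin 5)) = be0 := by rw [hyβ]
  have hp1 : ∀ (a : O3 G) (n : ℕ), (π a : Equiv.Perm (Fin 5)) ^ n = 1 ↔ π (a ^ n) = 1 := by
    intro a n
    rw [map_pow]
    constructor
    · intro h; exact Subtype.ext h
    · intro h; exact congrArg Subtype.val h
  have hp2 : ∀ (a : O3 G), (π a : Equiv.Perm (Fin 5)) = 1 ↔ π a = 1 := by
    intro a
    constructor
    · intro h; exact Subtype.ext h
    · intro h; exact congrArg Subtype.val h
  have e : ∀ a b : O3 G, ((π a : alternatingGroup (Fin 5)) : Equiv.Perm (Fin 5)) * (π b : alternatingGroup (Fin 5)) =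
      (π (a * b) : alternatingGroup (Fin 5)) := by
    intro a b; rw [map_mul]; rfl
  have c1 : (π (cj g x) : Equiv.Perm (Fin 5)) ^ 3 = 1 := by
    rw [hp1, ← cj_pow, D.cj_ker, ← hp1, hxα']; exact h1
  have c2 : (π (cj g x) : Equiv.Perm (Fin 5)) ≠ 1 := by
    rw [Ne, hp2, D.cj_ker, ← hp2, hxα']; exact h2
  have c3 : PairP (π (cj g x)) (π (cj g y)) := by
    refine ⟨?_, ?_, ?_, ?_⟩
    · rw [hp1, ← cj_pow, D.cj_ker, ← hp1, hyβ']; exact h3
    · rw [Ne, hp2, D.cj_ker, ← hp2, hyβ']; exact h4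
    · rw [e, ← cj_mul, hp1, ← cj_pow, D.cj_ker, ← hp1, ← e, hxα', hyβ']; exact h5
    · rw [e, ← cj_mul, Ne, hp2, D.cj_ker, ← hp2, ← e, hxα', hyβ']; exact h6
  obtain ⟨σ, hσ1, hσ2⟩ := pair_conj c1 c2 c3
  refine ⟨σ, ?_⟩
  -- the subgroup of good elements
  let K : Subgroup (alternatingGroup (Fin 5)) :=
    { carrier := {α | ∀ a : O3 G, π a = α → (π (cj g a) : Equiv.Perm (Fin 5)) = σ * α.1 * σ⁻¹}
      one_mem' := by
        intro a ha
        have : π (cj g a) = 1 := (D.cj_ker g a).2 ha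
        rw [this]
        change (1 : Equiv.Perm (Fin 5)) = σ * 1 * σ⁻¹
        group
      mul_mem' := by
        intro α β hα hβ a ha
        obtain ⟨b, hb⟩ := D.hs α
        obtain ⟨c, hc⟩ := D.hs β
        have h7 : π (a * (b * c)⁻¹) = 1 := by rw [map_mul, map_inv, map_mul, ha, hb, hc, mul_inv_cancel]
        have h8 : π (cj g a) = π (cj g b) * π (cj g c) := by
          have h9 := (D.cj_ker g _).2 h7
          rw [cj_mul, cj_inv, cj_mul, map_mul, map_inv, mul_inv_eq_one, map_mul] at h9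
          exact h9
        rw [h8]
        change (π (cj g b) : Equiv.Perm (Fin 5)) * (π (cj g c) : Equiv.Perm (Fin 5)) = σ * (α.1 * β.1) * σ⁻¹
        rw [hα b hb, hβ c hc]; group
      inv_mem' := by
        intro α hα a ha
        have h7 : π a⁻¹ = α := by rw [map_inv, ha, inv_inv]
        have h8 := hα _ h7
        rw [cj_inv, map_inv] at h8
        have h9 : ((π (cj g a) : Equiv.Perm (Fin 5)))⁻¹ = σ * α.1 * σ⁻¹ := h8
        have h10 : (π (cj g a) : Equiv.Perm (Fin 5)) = (σ * α.1 * σ⁻¹)⁻¹ := by rw [← h9, inv_inv]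
        rw [h10]
        change _ = σ * (α.1)⁻¹ * σ⁻¹
        group }
  have hall : ∀ (b : O3 G), (∀ a, π a = π b → (π (cj g a) : Equiv.Perm (Fin 5)) = π (cj g b)) := by
    intro b a hab
    have h7 : π (a * b⁻¹) = 1 := by rw [map_mul, map_inv, hab, mul_inv_cancel]
    have h9 := (D.cj_ker g _).2 h7
    rw [cj_mul, cj_inv, map_mul, map_inv, mul_inv_eq_one] at h9
    rw [h9]
  have hK : K = ⊤ := by
    apply A5_gen (α := π x) (β := π y)
    · rw [hxα]; exact Subtype.ext h1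
    · rw [hxα]; intro e; exact h2 (congrArg Subtype.val e)
    · rw [hxα, hyβ]; exact Subtype.ext h5
    · rw [hxα, hyβ]; intro e; exact h6 (congrArg Subtype.val e)
    · intro a ha
      rw [hall x a ha, hxα', hσ1]
    · intro a ha
      rw [hall y a ha, hyβ', hσ2]
  intro a
  have : π a ∈ K := by rw [hK]; trivial
  exact this a rfl

theorem perm_uniq {g : G} {σ τ : Equiv.Perm (Fin 5)} (hσ : ∀ a : O3 G,
    (π (cj g a) : Equiv.Perm (Fin 5)) = σ * (π a : Equiv.Perm (Fin 5)) * σ⁻¹) (hτ : ∀ a : O3 G,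
    (π (cj g a) : Equiv.Perm (Fin 5)) = τ * (π a : Equiv.Perm (Fin 5)) * τ⁻¹) : σ = τ := by
  have h : τ⁻¹ * σ = 1 := by
    apply S5_cent
    intro α hα
    obtain ⟨a, ha⟩ := D.hs ⟨α, hα⟩
    have h1 := (hσ a).symm.trans (hτ a)
    rw [ha] at h1
    change σ * α * σ⁻¹ = τ * α * τ⁻¹ at h1
    calc τ⁻¹ * σ * α = τ⁻¹ * (σ * α * σ⁻¹) * σ := by group
      _ = α * (τ⁻¹ * σ) := by rw [h1]; group
  exact (inv_mul_eq_one.1 h).symm

/-- the homomorphism to the symmetric group -/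
theorem exists_hom : ∃ F : G →* Equiv.Perm (Fin 5), F.ker = centralizer (O3 G : Set G) ∧
    alternatingGroup (Fin 5) ≤ F.range := by
  choose F hF using D.exists_perm
  let F' : G →* Equiv.Perm (Fin 5) :=
    { toFun := F
      map_one' := by
        apply D.perm_uniq (hF 1)
        intro a
        have : cj 1 a = a := by
          apply Subtype.ext
          change 1 * (a : G) * 1⁻¹ = a
          group
        rw [this]; group
      map_mul' := by
        intro g h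
        apply D.perm_uniq (hF (g * h))
        intro a
        rw [cj_cj, hF g, hF h]; group }
  refine ⟨F', ?_, ?_⟩
  · ext g
    rw [MonoidHom.mem_ker]
    change F g = 1 ↔ _
    constructor
    · intro hg
      have : O3 G ≤ centralizer ({g} : Set G) := by
        rw [O3, closure_le]
        intro x hx
        have hx3 : x ^ 3 = 1 := hx
        change x ∈ centralizer ({g} : Set G)
        rw [mem_centralizer_singleton_iff]
        have h1 := hF g ⟨x, mem_O3 hx3⟩
        rw [hg] at h1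
        have h2 : π (cj g ⟨x, mem_O3 hx3⟩) = π ⟨x, mem_O3 hx3⟩ := by
          apply Subtype.ext
          rw [h1]; group
        have h3 := D.inj3 (a := cj g ⟨x, mem_O3 hx3⟩) (b := ⟨x, mem_O3 hx3⟩) (by
          change (g * x * g⁻¹) ^ 3 = 1
          rw [conj_pow, hx3]; group) hx3 h2
        have h4 : g * x * g⁻¹ = x := congrArg Subtype.val h3
        calc x * g = g * x * g⁻¹ * g := by rw [h4]
          _ = g * x := by group
      rw [mem_centralizer_iff]
      intro x hx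
      exact mem_centralizer_singleton_iff.1 (this hx)
    · intro hg
      apply D.perm_uniq (hF g)
      intro a
      have : cj g a = a := by
        apply Subtype.ext
        change g * (a : G) * g⁻¹ = a
        rw [← mem_centralizer_iff.1 hg a a.2, mul_inv_cancel_right]
      rw [this]; group
  · intro α hα
    obtain ⟨a, ha⟩ := D.hs ⟨α, hα⟩
    refine ⟨a, ?_⟩
    change F a = α
    apply D.perm_uniq (hF a)
    intro b
    have : cj (a : G) b = a * b * a⁻¹ := rfl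
    rw [this, map_mul, map_mul, map_inv, ha]; rfl

end A5D

end Cfsg.Agent.H24.Zas
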