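import Mathlib
import Cfsg.Agent.H24_Zas23
import Cfsg.Agent.H24_Zas20
import Cfsg.Agent.H18_Hsub3
import Cfsg.Agent.H19_AutTwo

/-! Uniqueness of the normal Z-subgroup with small quotient. -/

namespace Cfsg.Agent.H24.Zas

open Subgroup Cfsg

universe u

theorem quat_cent {m : ℕ} [NeZero m] (hm : 2 ≤ m) {c : QuaternionGroup m} (hc : ∀ x, c * x = x * c) : c * c = 1 := by
  rcases c with i | i
  · have h := hc (.xa 0)
    rw [QuaternionGroup.a_mul_xa, QuaternionGroup.xa_mul_a] at h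
    have h1 : (0 : ZMod (2 * m)) - i = 0 + i := by injection h
    rw [QuaternionGroup.a_mul_a]
    have h2 : i + i = 0 := by
      linear_combination -h1
    rw [h2]; rfl
  · exfalso
    have h := hc (.a 1)
    rw [QuaternionGroup.a_mul_xa, QuaternionGroup.xa_mul_a] at h
    have h1 : i + 1 = i - 1 := by injection h
    have h2 : ((2 : ℕ) : ZMod (2 * m)) = 0 := by
      push_cast
      linear_combination h1
    rw [ZMod.natCast_eq_zero_iff] at h2
    have := Nat.le_of_dvd (by norm_num) h2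
    omega

theorem S4_odd : ∀ m : Equiv.Perm (Fin 4), m ^ 15 = 1 → m ≠ 1 →
    ∃ i j k : Fin 4, i ≠ j ∧ j ≠ k ∧
      m * ((Equiv.swap i j * Equiv.swap j k) * (m * m) * (Equiv.swap j k * Equiv.swap i j)) ≠ 1 ∧
      m * ((Equiv.swap i j * Equiv.swap j k) * (m * m) * (Equiv.swap j k * Equiv.swap i j)) *
        (m * ((Equiv.swap i j * Equiv.swap j k) * (m * m) * (Equiv.swap j k * Equiv.swap i j))) = 1 := by decide +kernel

theorem S5_odd : ∀ m : Equiv.Perm (Fin 5), m ^ 15 = 1 → m ≠ 1 →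
    ∃ i j k : Fin 5, i ≠ j ∧ j ≠ k ∧
      m * ((Equiv.swap i j * Equiv.swap j k) * (m * m) * (Equiv.swap j k * Equiv.swap i j)) ≠ 1 ∧
      m * ((Equiv.swap i j * Equiv.swap j k) * (m * m) * (Equiv.swap j k * Equiv.swap i j)) *
        (m * ((Equiv.swap i j * Equiv.swap j k) * (m * m) * (Equiv.swap j k * Equiv.swap i j))) = 1 := by decide +kernel

theorem S4_cent : ∀ σ : Equiv.Perm (Fin 4), (∀ τ : Equiv.Perm (Fin 4), Equiv.Perm.sign τ = 1 → σ * τ = τ * σ) → σ = 1 := by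
  decide +kernel

theorem S4_klein : ∃ a b : Equiv.Perm (Fin 4), Equiv.Perm.sign a = 1 ∧ Equiv.Perm.sign b = 1 ∧ a * a = 1 ∧ b * b = 1 ∧ a * b = b * a ∧
    a ≠ 1 ∧ b ≠ 1 ∧ a ≠ b :=
  ⟨Equiv.swap 0 1 * Equiv.swap 2 3, Equiv.swap 0 2 * Equiv.swap 1 3, by decide +kernel⟩

theorem S5_klein : ∃ a b : Equiv.Perm (Fin 5), Equiv.Perm.sign a = 1 ∧ Equiv.Perm.sign b = 1 ∧ a * a = 1 ∧ b * b = 1 ∧ a * b = b * a ∧
    a ≠ 1 ∧ b ≠ 1 ∧ a ≠ b :=
  ⟨Equiv.swap 0 1 * Equiv.swap 2 3, Equiv.swap 0 2 * Equiv.swap 1 3, by decide +kernel⟩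

/-- the properties of `Perm (Fin 4)`, `Perm (Fin 5)` used below -/
structure SP (n : ℕ) : Prop where
  odd : ∀ m : Equiv.Perm (Fin n), m ^ 15 = 1 → m ≠ 1 →
    ∃ i j k : Fin n, i ≠ j ∧ j ≠ k ∧
      m * ((Equiv.swap i j * Equiv.swap j k) * (m * m) * (Equiv.swap j k * Equiv.swap i j)) ≠ 1 ∧
      m * ((Equiv.swap i j * Equiv.swap j k) * (m * m) * (Equiv.swap j k * Equiv.swap i j)) *
        (m * ((Equiv.swap i j * Equiv.swap j k) * (m * m) * (Equiv.swap j k * Equiv.swap i j))) = 1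
  exp : ∀ m : Equiv.Perm (Fin n), m ^ 120 = 1
  cent : ∀ σ : Equiv.Perm (Fin n), (∀ τ : Equiv.Perm (Fin n), Equiv.Perm.sign τ = 1 → σ * τ = τ * σ) → σ = 1
  klein : ∃ a b : Equiv.Perm (Fin n), Equiv.Perm.sign a = 1 ∧ Equiv.Perm.sign b = 1 ∧ a * a = 1 ∧ b * b = 1 ∧ a * b = b * a ∧
    a ≠ 1 ∧ b ≠ 1 ∧ a ≠ b
  three : ∃ a : Equiv.Perm (Fin n), a.IsThreeCycle

theorem SP4 : SP 4 := ⟨S4_odd, fun m => by
    have h : m ^ 24 = 1 := by
      have := pow_card_eq_one (x := m)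
      rwa [Fintype.card_perm, Fintype.card_fin] at this
    rw [show 120 = 24 * 5 from rfl, pow_mul, h, one_pow], S4_cent, S4_klein, ⟨Equiv.swap 0 1 * Equiv.swap 0 2,
  Equiv.Perm.isThreeCycle_swap_mul_swap_same (by decide) (by decide) (by decide)⟩⟩
theorem SP5 : SP 5 := ⟨S5_odd, fun m => by
    have := pow_card_eq_one (x := m)
    rwa [Fintype.card_perm, Fintype.card_fin] at this, S5_cent, S5_klein, ⟨Equiv.swap 0 1 * Equiv.swap 0 2,
  Equiv.Perm.isThreeCycle_swap_mul_swap_same (by decide) (by decide) (by decide)⟩⟩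

/-- Z-groups have normal 2-complements -/
theorem zg_two {G : Type u} [Group G] [Finite G] {N : Subgroup G} (hN : N.Normal) (hZ : IsZGroup N) {x : G} (hx : x ∈ N) :
    ∃ k : ℕ, x ^ 2 ^ k ∈ oddCore G := by
  haveI : Fact (Nat.Prime 2) := ⟨Nat.prime_two⟩
  haveI := hN
  have h1 : HasNormalPComplement 2 N := by
    refine H18.Hsub.npc_of_cyclic (fun q hq _ => hq.two_le) (default : Sylow 2 N) ?_
    exact (isZGroup_iff _).1 hZ 2 Nat.prime_two _
  obtain ⟨K, hK, hKc, j, hj⟩ := H2.Basic.npc_iff.1 h1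
  haveI := hK
  have h2 : K ≤ pPrimeCore 2 N := H11.Cores.le_pPrimeCore 2 ((Nat.coprime_comm.1 ((Nat.Prime.coprime_iff_not_dvd Nat.prime_two).2 hKc)))
  haveI : (pPrimeCore 2 N).Characteristic := H11.Cores.pPrimeCore_characteristic 2
  haveI h3 : ((pPrimeCore 2 N).map N.subtype).Normal := H11.Cores.map_subtype_normal_of_characteristic N _
  have h4 : (pPrimeCore 2 N).map N.subtype ≤ oddCore G := by
    apply H11.Cores.le_pPrimeCore 2
    rw [Nat.card_congr ((pPrimeCore 2 N).equivMapOfInjective _ N.subtype_injective).toEquiv.symm]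
    exact H11.Cores.pPrimeCore_coprime 2
  refine ⟨j, h4 ⟨⟨x, hx⟩ ^ 2 ^ j, h2 ?_, rfl⟩⟩
  rw [← hj]
  exact K.pow_index_mem _

end Cfsg.Agent.H24.Zas
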