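import Mathlib
import Cfsg.Agent.H24_Zas24

/-! Uniqueness of the normal Z-subgroup with small quotient. -/

namespace Cfsg.Agent.H24.Zas

open Subgroup Cfsg

universe u

variable {G : Type u} [Group G] [Finite G]

theorem odd_pow {x : G} (hx : x ∈ oddCore G) : x ^ Nat.card (oddCore G) = 1 := by
  have := pow_card_eq_one' (x := (⟨x, hx⟩ : oddCore G))
  exact congrArg Subtype.val this

theorem card_odd : Odd (Nat.card (oddCore G)) := by
  have h : (Nat.card (oddCore G)).Coprime 2 := H11.Cores.pPrimeCore_coprime 2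
  exact Nat.coprime_two_right.1 h

/-- images of the odd core in small symmetric groups -/
theorem SP.fifteen {n : ℕ} (S : SP n) (F : G →* Equiv.Perm (Fin n)) {x : G} (hx : x ∈ oddCore G) : F x ^ 15 = 1 := by
  have h1 : F x ^ Nat.card (oddCore G) = 1 := by rw [← map_pow, odd_pow hx, map_one]
  have h2 := orderOf_dvd_of_pow_eq_one h1
  have h3 := orderOf_dvd_of_pow_eq_one (S.exp (F x))
  apply orderOf_dvd_iff_pow_eq_one.1
  have h4 : (orderOf (F x)).Coprime 8 := by
    have h5 : (orderOf (F x)).Coprime 2 := Nat.Coprime.coprime_dvd_left h2 (Nat.coprime_two_right.2 card_odd)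
    exact Nat.Coprime.pow_right 3 h5
  rw [show 120 = 8 * 15 from rfl] at h3
  exact h4.dvd_of_dvd_mul_left h3

theorem SP.odd_le {n : ℕ} (S : SP n) (F : G →* Equiv.Perm (Fin n)) (hF : alternatingGroup (Fin n) ≤ F.range) :
    oddCore G ≤ F.ker := by
  intro x hx
  rw [MonoidHom.mem_ker]
  by_contra hne
  obtain ⟨i, j, k, hij, hjk, h1, h2⟩ := S.odd (F x) (S.fifteen F hx) hne
  have h3 : Equiv.swap i j * Equiv.swap j k ∈ alternatingGroup (Fin n) := by
    rw [Equiv.Perm.mem_alternatingGroup, map_mul, Equiv.Perm.sign_swap hij, Equiv.Perm.sign_swap hjk]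
    rfl
  obtain ⟨y, hy⟩ := hF h3
  haveI : (oddCore G).Normal := oddCore_normal
  have h4 : x * (y * (x * x) * y⁻¹) ∈ oddCore G :=
    mul_mem hx ((inferInstance : (oddCore G).Normal).conj_mem _ (mul_mem hx hx) y)
  have h5 := S.fifteen F h4
  have h6 : F (x * (y * (x * x) * y⁻¹)) =
      F x * ((Equiv.swap i j * Equiv.swap j k) * (F x * F x) * (Equiv.swap j k * Equiv.swap i j)) := by
    rw [map_mul, map_mul, map_mul, map_mul, map_inv, hy, mul_inv_rev, Equiv.swap_inv, Equiv.swap_inv]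
  rw [h6] at h5
  apply h1
  obtain ⟨w, hw⟩ : ∃ w, w = F x * ((Equiv.swap i j * Equiv.swap j k) * (F x * F x) * (Equiv.swap j k * Equiv.swap i j)) := ⟨_, rfl⟩
  rw [← hw] at h2 h5 ⊢
  rw [show 15 = 2 * 7 + 1 from rfl, pow_succ, pow_mul, pow_two, h2, one_pow, one_mul] at h5
  exact h5

/-- a cyclic group has at most one involution -/
theorem cyc_inv {C : Type*} [Group C] [Finite C] [IsCyclic C] {a b : C} (ha : a * a = 1) (hb : b * b = 1)
    (ha1 : a ≠ 1) (hb1 : b ≠ 1) : a = b := by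
  classical
  haveI := Fintype.ofFinite C
  by_contra hne
  have h := IsCyclic.card_pow_eq_one_le (α := C) (n := 2) (by norm_num)
  have h2 : ({1, a, b} : Finset C) ⊆ Finset.univ.filter (fun x : C => x ^ 2 = 1) := by
    intro x hx
    simp only [Finset.mem_insert, Finset.mem_singleton] at hx
    rw [Finset.mem_filter]
    refine ⟨Finset.mem_univ _, ?_⟩
    rcases hx with rfl | rfl | rfl
    · exact one_pow 2
    · rw [pow_two, ha]
    · rw [pow_two, hb]
  have h3 := (Finset.card_le_card h2).trans h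
  rw [Finset.card_insert_of_notMem (by
    simp only [Finset.mem_insert, Finset.mem_singleton, not_or]; exact ⟨ha1.symm, hb1.symm⟩),
    Finset.card_pair hne] at h3
  omega

/-- the core argument -/
theorem SP.core {n : ℕ} (S : SP n) {Q : Type u} [Group Q] [Finite Q] (F : Q →* Equiv.Perm (Fin n))
    (hF : alternatingGroup (Fin n) ≤ F.range) (hN : IsPGroup 2 F.ker) (hNc : IsCyclic F.ker)
    (hc : ∀ T : Subgroup Q, IsPGroup 2 T → Cyc T) {y : Q} (hy : y ∈ F.ker) : y * y = 1 := by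
  haveI : Fact (Nat.Prime 2) := ⟨Nat.prime_two⟩
  haveI := hNc
  -- the centralizer
  obtain ⟨C, hC⟩ : ∃ C : Subgroup Q, C = (MulAut.conjNormal : Q →* MulAut F.ker).ker := ⟨_, rfl⟩
  have hCc : ∀ {c : Q}, c ∈ C → ∀ {x : Q}, x ∈ F.ker → c * x = x * c := by
    intro c hc x hx
    rw [hC, MonoidHom.mem_ker] at hc
    have h1 := congrArg (fun φ : MulAut F.ker => ((φ ⟨x, hx⟩ : F.ker) : Q)) hc
    simp only [MulAut.conjNormal_apply, MulAut.one_apply] at h1
    exact mul_inv_eq_iff_eq_mul.1 h1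
  have hCm : ∀ {c : Q}, (∀ x ∈ F.ker, c * x = x * c) → c ∈ C := by
    intro c hc
    rw [hC, MonoidHom.mem_ker]
    ext x
    rw [MulAut.conjNormal_apply, MulAut.one_apply, hc x x.2, mul_inv_cancel_right]
  have hNC : F.ker ≤ C := by
    intro x hx
    apply hCm
    intro w hw
    letI := IsCyclic.commGroup (α := F.ker)
    have := mul_comm (⟨x, hx⟩ : F.ker) ⟨w, hw⟩
    exact congrArg Subtype.val this
  have haut : IsPGroup 2 (MulAut F.ker) := H19.AutTwo.isPGroup_mulAut_cyclic hN hNc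
  have hA : alternatingGroup (Fin n) ≤ C.map F := by
    rw [← Equiv.Perm.closure_three_cycles_eq_alternating, Subgroup.closure_le]
    intro c hc3
    obtain ⟨x, hx⟩ := hF (Equiv.Perm.IsThreeCycle.mem_alternatingGroup hc3)
    obtain ⟨k, hk⟩ := haut (MulAut.conjNormal x)
    have h1 : (x ^ 2 ^ k) ^ 2 ^ k ∈ C := by
      apply pow_mem
      rw [hC, MonoidHom.mem_ker, map_pow, hk]
    refine ⟨_, h1, ?_⟩
    rw [map_pow, map_pow, hx, ← pow_mul, ← mul_pow]
    have h3 : c ^ 3 = 1 := by rw [← hc3.orderOf]; exact pow_orderOf_eq_one c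
    obtain ⟨m, hm⟩ : ∃ m, (2 * 2) ^ k = 3 * m + 1 := by
      have h4 : (2 * 2) ^ k ≡ 1 [MOD 3] := by
        have := (show 2 * 2 ≡ 1 [MOD 3] from rfl).pow k
        rwa [one_pow] at this
      refine ⟨(2 * 2) ^ k / 3, ?_⟩
      have h5 : (2 * 2) ^ k % 3 = 1 := h4
      omega
    rw [hm, pow_succ, pow_mul, h3, one_pow, one_mul]
  obtain ⟨a, b, ha, hb, ha2, hb2, hab, ha1, hb1, hne⟩ := S.klein
  obtain ⟨α, hαC, hα⟩ := hA (Equiv.Perm.mem_alternatingGroup.2 ha)
  obtain ⟨β, hβC, hβ⟩ := hA (Equiv.Perm.mem_alternatingGroup.2 hb)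
  have hcm : Commute a b := hab
  have hsq : ∀ i j : ℕ, (a ^ i * b ^ j) * (a ^ i * b ^ j) = 1 := by
    intro i j
    have : Commute (a ^ i) (b ^ j) := hcm.pow_pow i j
    rw [mul_assoc, ← mul_assoc (b ^ j), ← this.eq, mul_assoc (a ^ i) (b ^ j), ← mul_assoc (a ^ i) (a ^ i),
      ← (Commute.refl a).mul_pow, ← (Commute.refl b).mul_pow, ha2, hb2, one_pow, one_pow, one_mul]
  let B : Subgroup Q :=
    { carrier := {y | ∃ i j : ℕ, F y = a ^ i * b ^ j}
      one_mem' := ⟨0, 0, by rw [map_one, pow_zero, pow_zero, one_mul]⟩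
      mul_mem' := by
        rintro x y ⟨i, j, h⟩ ⟨k, l, h'⟩
        refine ⟨i + k, j + l, ?_⟩
        rw [map_mul, h, h', pow_add, pow_add, mul_assoc, mul_assoc, ← mul_assoc (b ^ j), ← (hcm.pow_pow k j).eq,
          mul_assoc (a ^ k)]
      inv_mem' := by
        rintro x ⟨i, j, h⟩
        refine ⟨i, j, ?_⟩
        rw [map_inv, h]
        exact inv_eq_of_mul_eq_one_left (hsq i j) }
  have hBN : F.ker ≤ B := by
    intro x hx
    refine ⟨0, 0, ?_⟩
    rw [pow_zero, pow_zero, one_mul]; exact hx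
  have hBC : B ≤ C := by
    rintro x ⟨i, j, h⟩
    have h1 : x * (α ^ i * β ^ j)⁻¹ ∈ C := by
      apply hNC
      rw [MonoidHom.mem_ker, map_mul, map_inv, map_mul, map_pow, map_pow, hα, hβ, h, mul_inv_cancel]
    have h2 := mul_mem h1 (mul_mem (pow_mem hαC i) (pow_mem hβC j))
    rwa [inv_mul_cancel_right] at h2
  have hB2 : IsPGroup 2 B := by
    rintro ⟨x, i, j, h⟩
    have h1 : x * x ∈ F.ker := by rw [MonoidHom.mem_ker, map_mul, h, hsq]
    obtain ⟨k, hk⟩ := hN ⟨_, h1⟩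
    refine ⟨k + 1, Subtype.ext ?_⟩
    have h2 : (x * x) ^ 2 ^ k = 1 := congrArg Subtype.val hk
    change x ^ 2 ^ (k + 1) = 1
    rw [pow_succ, mul_comm, pow_mul, pow_two, h2]
  have hαB : α ∈ B := ⟨1, 0, by rw [hα, pow_one, pow_zero, mul_one]⟩
  have hβB : β ∈ B := ⟨0, 1, by rw [hβ, pow_one, pow_zero, one_mul]⟩
  have hncyc : ¬ IsCyclic B := by
    intro hcyc
    obtain ⟨⟨g, hg⟩, hgen⟩ := hcyc.exists_generator
    obtain ⟨i, hi⟩ := mem_zpowers_iff.1 (hgen ⟨α, hαB⟩)
    obtain ⟨j, hj⟩ := mem_zpowers_iff.1 (hgen ⟨β, hβB⟩)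
    have hi' : g ^ i = α := congrArg Subtype.val hi
    have hj' : g ^ j = β := congrArg Subtype.val hj
    have ha' : F g ^ i = a := by rw [← map_zpow, hi', hα]
    have hb' : F g ^ j = b := by rw [← map_zpow, hj', hβ]
    have h := cyc_inv (C := zpowers (F g)) (a := ⟨a, mem_zpowers_iff.2 ⟨i, ha'⟩⟩) (b := ⟨b, mem_zpowers_iff.2 ⟨j, hb'⟩⟩)
      (Subtype.ext ha2) (Subtype.ext hb2) (fun h => ha1 (congrArg Subtype.val h)) (fun h => hb1 (congrArg Subtype.val h))
    exact hne (congrArg Subtype.val h)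
  rcases (hc B hB2).group hB2 with h | ⟨-, k, ⟨e⟩⟩
  · exact absurd h hncyc
  haveI : NeZero (2 ^ k) := ⟨by positivity⟩
  have hk : k ≠ 0 := by
    rintro rfl
    apply hncyc
    have hc0 : IsCyclic (QuaternionGroup (2 ^ 0)) := by
      rw [pow_zero]
      exact QuaternionGroup.quaternionGroup_one_isCyclic
    exact e.isCyclic.2 hc0
  have hm : 2 ≤ 2 ^ k := by
    calc 2 = 2 ^ 1 := (pow_one 2).symm
      _ ≤ 2 ^ k := Nat.pow_le_pow_right (by norm_num) (Nat.one_le_iff_ne_zero.2 hk)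
  have h1 := quat_cent hm (c := e ⟨y, hBN hy⟩) (by
    intro x
    obtain ⟨w, rfl⟩ := e.surjective x
    rw [← map_mul, ← map_mul]
    congr 1
    apply Subtype.ext
    exact (hCc (hBC w.2) hy).symm)
  rw [← map_mul] at h1
  have h2 := (map_eq_one_iff e e.injective).1 h1
  exact congrArg Subtype.val h2

/-- the other types -/
theorem SP.uniq {n : ℕ} (S : SP n) (F : G →* Equiv.Perm (Fin n)) (hF : alternatingGroup (Fin n) ≤ F.range)
    (hc : Cyc G) (hZ : IsZGroup F.ker) {z : G} (hz : ∀ g, z * g = g * z) (z2 : z * z = 1)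
    (hu : ∀ g : G, g * g = 1 → g = 1 ∨ g = z) (x : G) : x ∈ F.ker ↔ x ∈ oddCore G ∨ x * z ∈ oddCore G := by
  haveI : Fact (Nat.Prime 2) := ⟨Nat.prime_two⟩
  haveI hOn : (oddCore G).Normal := oddCore_normal
  have hOF := S.odd_le F hF
  have hzF : F z = 1 := by
    apply S.cent
    intro τ hτ
    obtain ⟨y, rfl⟩ := hF (Equiv.Perm.mem_alternatingGroup.2 hτ)
    rw [← map_mul, ← map_mul, hz]
  constructor
  swap
  · rintro (h | h)
    · exact hOF h
    · have := hOF h
      rw [MonoidHom.mem_ker, map_mul, hzF, mul_one] at this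
      exact this
  intro hx
  -- the quotient
  obtain ⟨q, hq⟩ : ∃ q : G →* G ⧸ oddCore G, q = QuotientGroup.mk' (oddCore G) := ⟨_, rfl⟩
  have hqs : Function.Surjective q := by rw [hq]; exact QuotientGroup.mk'_surjective _
  have hqk : q.ker = oddCore G := by rw [hq]; exact QuotientGroup.ker_mk' _
  let F' : G ⧸ oddCore G →* Equiv.Perm (Fin n) := QuotientGroup.lift (oddCore G) F (fun x hx => hOF hx)
  have hF' : ∀ g, F' (q g) = F g := by intro g; rw [hq]; rfl
  have hF'r : alternatingGroup (Fin n) ≤ F'.range := by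
    intro σ hσ
    obtain ⟨g, hg⟩ := hF hσ
    exact ⟨q g, by rw [hF', hg]⟩
  -- the kernel of `F'` is a cyclic 2-group
  have hN2 : IsPGroup 2 F'.ker := by
    rintro ⟨y, hy⟩
    obtain ⟨g, rfl⟩ := hqs y
    rw [MonoidHom.mem_ker, hF'] at hy
    obtain ⟨k, hk⟩ := zg_two (N := F.ker) inferInstance hZ (x := g) hy
    refine ⟨k, ?_⟩
    apply Subtype.ext
    change (q g) ^ 2 ^ k = 1
    rw [← map_pow, ← MonoidHom.mem_ker, hqk]
    exact hk
  have hNc : IsCyclic F'.ker := by
    let r : F.ker →* F'.ker :=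
      { toFun := fun x => ⟨q x, by rw [MonoidHom.mem_ker, hF']; exact x.2⟩
        map_one' := Subtype.ext (map_one q)
        map_mul' := fun a b => Subtype.ext (map_mul q _ _) }
    have hr : Function.Surjective r := by
      rintro ⟨y, hy⟩
      obtain ⟨g, rfl⟩ := hqs y
      rw [MonoidHom.mem_ker, hF'] at hy
      exact ⟨⟨g, hy⟩, rfl⟩
    haveI : IsZGroup F'.ker := IsZGroup.of_surjective hr
    haveI : Group.IsNilpotent F'.ker := hN2.isNilpotent
    infer_instance
  have hqx : q x ∈ F'.ker := by rw [MonoidHom.mem_ker, hF']; exact hx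
  have h1 := S.core F' hF'r hN2 hNc (fun T hT => hc.quot hT) hqx
  have h2 : x * x ∈ oddCore G := by rw [← hqk, MonoidHom.mem_ker, map_mul, h1]
  obtain ⟨k, hk⟩ := card_odd (G := G)
  have h3 : x ^ Nat.card (oddCore G) * x ^ Nat.card (oddCore G) = 1 := by
    rw [← (Commute.refl x).mul_pow, odd_pow h2]
  have h4 : q (x ^ Nat.card (oddCore G)) = q x := by
    rw [map_pow, hk, pow_succ, pow_mul, pow_two, h1, one_pow, one_mul]
  rcases hu _ h3 with h | h
  · left
    rw [← hqk, MonoidHom.mem_ker, ← h4, h, map_one]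
  · right
    rw [← hqk, MonoidHom.mem_ker, map_mul, ← h4, h, ← map_mul, z2, map_one]

/-- noncyclic sections: Z-groups do not map onto groups containing a four-group -/
theorem not_zg {X : Type*} [Group X] [Finite X] (f : G →* X) (hZ : IsZGroup G) {a b : X} (ha : a ∈ f.range) (hb : b ∈ f.range)
    (ha2 : a * a = 1) (hb2 : b * b = 1) (hab : a * b = b * a) (ha1 : a ≠ 1) (hb1 : b ≠ 1) (hne : a ≠ b) : False := by
  haveI : Fact (Nat.Prime 2) := ⟨Nat.prime_two⟩
  haveI : IsZGroup f.range := IsZGroup.of_surjective f.rangeRestrict_surjective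
  let V : Subgroup f.range := Subgroup.closure {⟨a, ha⟩, ⟨b, hb⟩}
  have hcomm : ∀ x ∈ ({⟨a, ha⟩, ⟨b, hb⟩} : Set f.range), ∀ y ∈ ({⟨a, ha⟩, ⟨b, hb⟩} : Set f.range), x * y = y * x := by
    rintro x (rfl | rfl) y (rfl | rfl)
    · rfl
    · exact Subtype.ext hab
    · exact Subtype.ext hab.symm
    · rfl
  letI : CommGroup V := Subgroup.closureCommGroupOfComm hcomm
  have hV2 : ∀ v : V, v ^ 2 = 1 := by
    intro v
    have : (V : Subgroup f.range) ≤ (V.subtype.comp (powMonoidHom (α := V) 2)).ker.map V.subtype := by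
      refine (Subgroup.closure_le _).2 ?_
      rintro x (rfl | rfl)
      · refine ⟨⟨_, Subgroup.subset_closure (Or.inl rfl)⟩, ?_, rfl⟩
        rw [SetLike.mem_coe, MonoidHom.mem_ker]
        apply Subtype.ext
        change a ^ 2 = 1
        rw [pow_two, ha2]
      · refine ⟨⟨_, Subgroup.subset_closure (Or.inr rfl)⟩, ?_, rfl⟩
        rw [SetLike.mem_coe, MonoidHom.mem_ker]
        apply Subtype.ext
        change b ^ 2 = 1
        rw [pow_two, hb2]
    obtain ⟨w, hw, hwv⟩ := this v.2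
    have hwv' : w = v := Subtype.ext hwv
    subst hwv'
    rw [SetLike.mem_coe, MonoidHom.mem_ker] at hw
    exact Subtype.ext hw
  have hp : IsPGroup 2 V := fun v => ⟨1, by rw [pow_one]; exact hV2 v⟩
  have hcy : IsCyclic V := hp.isCyclic_of_isZGroup
  have h := cyc_inv (C := V) (a := ⟨⟨a, ha⟩, Subgroup.subset_closure (Or.inl rfl)⟩)
    (b := ⟨⟨b, hb⟩, Subgroup.subset_closure (Or.inr rfl)⟩)
    (Subtype.ext (Subtype.ext ha2)) (Subtype.ext (Subtype.ext hb2))
    (fun h => ha1 (congrArg (fun x : V => ((x : f.range) : X)) h)) (fun h => hb1 (congrArg (fun x : V => ((x : f.range) : X)) h))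
  exact hne (congrArg (fun x : V => ((x : f.range) : X)) h)

end Cfsg.Agent.H24.Zas
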