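import Mathlib
import Cfsg.Agent.H24_Zas25
import Cfsg.Agent.H24_Zas18

/-! Uniqueness of the normal Z-subgroup with small quotient. -/

namespace Cfsg.Agent.H24.Zas

open Subgroup Cfsg

universe u

theorem D2_sq : ∀ x : DihedralGroup 2, x * x = 1 := by decide
theorem D2_comm : ∀ x y : DihedralGroup 2, x * y = y * x := by decide
theorem D2_third : ∀ w : DihedralGroup 2, ∃ t : DihedralGroup 2, t ≠ 1 ∧ t ≠ w := by decide
theorem D2_klein : ∃ a b : DihedralGroup 2, a ≠ 1 ∧ b ≠ 1 ∧ a ≠ b := by decide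

theorem D2_pow (x : DihedralGroup 2) (n : ℕ) : x ^ n = if Even n then 1 else x := by
  rcases Nat.even_or_odd n with ⟨k, hk⟩ | ⟨k, hk⟩
  · rw [if_pos ⟨k, hk⟩, hk, ← two_mul, pow_mul, pow_two, D2_sq, one_pow]
  · rw [if_neg (by rw [Nat.not_even_iff_odd]; exact ⟨k, hk⟩), hk, pow_succ, pow_mul, pow_two, D2_sq, one_pow, one_mul]

theorem quat_hom {m : ℕ} [NeZero m] (h : QuaternionGroup m →* DihedralGroup 2) (hs : Function.Surjective h)
    (c : QuaternionGroup m) : h c = 1 ↔ ∃ i : ZMod (2 * m), Even i.val ∧ c = .a i := by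
  haveI : NeZero (2 * m) := ⟨by have := NeZero.ne m; omega⟩
  obtain ⟨u, hu⟩ : ∃ u, u = h (.a 1) := ⟨_, rfl⟩
  obtain ⟨w, hw⟩ : ∃ w, w = h (.xa 0) := ⟨_, rfl⟩
  have ha : ∀ i : ZMod (2 * m), h (.a i) = if Even i.val then 1 else u := by
    intro i
    rw [← D2_pow, hu, ← map_pow, QuaternionGroup.a_one_pow, ZMod.natCast_zmod_val]
  have hx : ∀ i : ZMod (2 * m), h (.xa i) = w * (if Even i.val then 1 else u) := by
    intro i
    rw [← ha i, hw, ← map_mul, QuaternionGroup.xa_mul_a, zero_add]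
  have hu1 : u ≠ 1 := by
    intro hu1
    obtain ⟨t, ht1, htw⟩ := D2_third w
    obtain ⟨c, rfl⟩ := hs t
    rcases c with i | i
    · apply ht1; rw [ha, hu1, ite_self]
    · apply htw; rw [hx, hu1, ite_self, mul_one]
  have hw1 : w ≠ 1 := by
    intro hw1
    obtain ⟨t, ht1, htw⟩ := D2_third u
    obtain ⟨c, rfl⟩ := hs t
    rcases c with i | i
    · rw [ha] at ht1 htw
      split_ifs at ht1 htw
      · exact ht1 rfl
      · exact htw rfl
    · rw [hx, hw1, one_mul] at ht1 htw
      split_ifs at ht1 htw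
      · exact ht1 rfl
      · exact htw rfl
  have hwu : w ≠ u := by
    intro hwu
    obtain ⟨t, ht1, htw⟩ := D2_third u
    obtain ⟨c, rfl⟩ := hs t
    rcases c with i | i
    · rw [ha] at ht1 htw
      split_ifs at ht1 htw
      · exact ht1 rfl
      · exact htw rfl
    · rw [hx, hwu] at ht1 htw
      split_ifs at ht1 htw
      · exact htw (mul_one _)
      · exact ht1 (D2_sq _)
  rcases c with i | i
  · rw [ha]
    constructor
    · intro h1
      refine ⟨i, ?_, rfl⟩
      by_contra hne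
      rw [if_neg hne] at h1
      exact hu1 h1
    · rintro ⟨j, hj, hij⟩
      have : i = j := by injection hij
      rw [this, if_pos hj]
  · rw [hx]
    constructor
    · intro h1
      exfalso
      split_ifs at h1
      · rw [mul_one] at h1; exact hw1 h1
      · exact hwu ((mul_eq_one_iff_eq_inv.1 h1).trans (inv_eq_of_mul_eq_one_left (D2_sq u)))
    · rintro ⟨j, -, hj⟩
      injection hj

section V4

variable {G : Type u} [Group G] [Finite G]

theorem V4_two [(oddCore G).Normal] (f : G →* DihedralGroup 2) (hZ : IsZGroup f.ker) : IsPGroup 2 (G ⧸ oddCore G) := by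
  intro y
  obtain ⟨x, rfl⟩ := QuotientGroup.mk_surjective y
  have h1 : x * x ∈ f.ker := by rw [MonoidHom.mem_ker, map_mul, D2_sq]
  obtain ⟨k, hk⟩ := zg_two (N := f.ker) inferInstance hZ h1
  refine ⟨k + 1, ?_⟩
  rw [← QuotientGroup.mk_pow, QuotientGroup.eq_one_iff, pow_succ, mul_comm, pow_mul, pow_two]
  exact hk

theorem V4_le (f : G →* DihedralGroup 2) : oddCore G ≤ f.ker := by
  intro x hx
  have h := odd_pow hx
  obtain ⟨k, hk⟩ := card_odd (G := G)
  have h1 := congrArg f h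
  rw [map_pow, hk, pow_succ, pow_mul, pow_two, D2_sq, one_pow, one_mul, map_one] at h1
  exact h1

theorem V4_uniq (hc : Cyc G) (f f' : G →* DihedralGroup 2) (hs : Function.Surjective f) (hs' : Function.Surjective f')
    (hZ : IsZGroup f.ker) : f.ker = f'.ker := by
  haveI : Fact (Nat.Prime 2) := ⟨Nat.prime_two⟩
  haveI hOn : (oddCore G).Normal := oddCore_normal
  have hb := V4_two f hZ
  have hT : IsPGroup 2 (⊤ : Subgroup (G ⧸ oddCore G)) := hb.to_subgroup ⊤
  have hcq : Cyc (G ⧸ oddCore G) := (hc.quot hT).of_inj (Subgroup.topEquiv (G := G ⧸ oddCore G)).symm.toMonoidHom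
    (Subgroup.topEquiv (G := G ⧸ oddCore G)).symm.injective
  let g : G ⧸ oddCore G →* DihedralGroup 2 := QuotientGroup.lift (oddCore G) f (fun x hx => V4_le f hx)
  let g' : G ⧸ oddCore G →* DihedralGroup 2 := QuotientGroup.lift (oddCore G) f' (fun x hx => V4_le f' hx)
  have hg : ∀ x : G, g x = f x := fun x => rfl
  have hg' : ∀ x : G, g' x = f' x := fun x => rfl
  have hgs : Function.Surjective g := fun y => by
    obtain ⟨x, rfl⟩ := hs y
    exact ⟨x, rfl⟩
  have hgs' : Function.Surjective g' := fun y => by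
    obtain ⟨x, rfl⟩ := hs' y
    exact ⟨x, rfl⟩
  rcases hcq.group hb with hcy | ⟨-, n, ⟨e⟩⟩
  · exfalso
    obtain ⟨a, b, ha, hb, hab⟩ := D2_klein
    exact not_zg g inferInstance (hgs a) (hgs b) (D2_sq a) (D2_sq b) (D2_comm a b) ha hb hab
  haveI : NeZero (2 ^ n) := ⟨by positivity⟩
  ext x
  rw [MonoidHom.mem_ker, MonoidHom.mem_ker, ← hg, ← hg']
  have h1 := quat_hom (g.comp e.symm.toMonoidHom) (hgs.comp e.symm.surjective) (e x)
  have h2 := quat_hom (g'.comp e.symm.toMonoidHom) (hgs'.comp e.symm.surjective) (e x)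
  have h3 := h1.trans h2.symm
  have h4 : (g.comp e.symm.toMonoidHom) (e x) = g x := by
    change g (e.symm (e x)) = g x
    rw [e.symm_apply_apply]
  have h5 : (g'.comp e.symm.toMonoidHom) (e x) = g' x := by
    change g' (e.symm (e x)) = g' x
    rw [e.symm_apply_apply]
  rw [h4, h5] at h3
  exact h3

theorem V4_other {n : ℕ} (S : SP n) (F : G →* Equiv.Perm (Fin n)) (hF : alternatingGroup (Fin n) ≤ F.range)
    (f : G →* DihedralGroup 2) (hZ : IsZGroup f.ker) : False := by
  haveI hOn : (oddCore G).Normal := oddCore_normal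
  have hb := V4_two f hZ
  obtain ⟨c, hc⟩ := S.three
  obtain ⟨x, hx⟩ := hF (Equiv.Perm.IsThreeCycle.mem_alternatingGroup hc)
  obtain ⟨k, hk⟩ := hb (x : G ⧸ oddCore G)
  rw [← QuotientGroup.mk_pow, QuotientGroup.eq_one_iff] at hk
  have h1 := S.odd_le F hF hk
  rw [MonoidHom.mem_ker, map_pow, hx] at h1
  have h2 := orderOf_dvd_of_pow_eq_one h1
  rw [hc.orderOf] at h2
  have h3 := Nat.Prime.dvd_of_dvd_pow Nat.prime_three h2
  omega

end V4

end Cfsg.Agent.H24.Zas
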