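import Mathlib
import Cfsg.Agent.H24_Zas26

/-! The normal Z-subgroup with small quotient: existence in the non-solvable case, and uniqueness. -/

namespace Cfsg.Agent.H24.Zas

open Subgroup Cfsg

universe u

section Ex

variable {G : Type u} [Group G] [Finite G]

theorem A5D.exists_N {z : G} {π : O3 G →* alternatingGroup (Fin 5)} (D : A5D z π) (hc : Cyc G) :
    ∃ N : Subgroup G, N.Normal ∧ IsZGroup N ∧
      ((∃ f : G →* alternatingGroup (Fin 5), Function.Surjective f ∧ f.ker = N) ∨
        (∃ f : G →* Equiv.Perm (Fin 5), Function.Surjective f ∧ f.ker = N)) := by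
  obtain ⟨F, hFk, hFr⟩ := D.exists_hom
  have hZ : IsZGroup F.ker := by
    rw [isZGroup_iff]
    intro p hp P
    haveI : Fact p.Prime := ⟨hp⟩
    rcases (hc.sub F.ker).pgroup P.isPGroup' with h1 | ⟨rfl, -⟩
    · exact h1
    · -- the 2-elements are `1`, `z`
      have h2 : ∀ s : (P : Subgroup F.ker), ((s : F.ker) : G) = 1 ∨ ((s : F.ker) : G) = z := by
        intro s
        obtain ⟨k, hk⟩ := P.isPGroup' s
        have h3 : ((s : F.ker) : G) ∈ centralizer (O3 G : Set G) := by rw [← hFk]; exact (s : F.ker).2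
        exact D.cent_two h3 k (congrArg (fun w : (P : Subgroup F.ker) => ((w : F.ker) : G)) hk)
      have h4 : Cyc (P : Subgroup F.ker) := (hc.sub F.ker).sub P
      apply isCyclic_of_cyc_comm h4
      intro a b
      apply Subtype.ext
      apply Subtype.ext
      change ((a : F.ker) : G) * ((b : F.ker) : G) = ((b : F.ker) : G) * ((a : F.ker) : G)
      rcases h2 a with h | h
      · rw [h, one_mul, mul_one]
      · rw [h, D.hz]
  by_cases hsg : ∀ g, F g ∈ alternatingGroup (Fin 5)
  · refine ⟨F.ker, inferInstance, hZ, Or.inl ⟨F.codRestrict _ hsg, ?_, ?_⟩⟩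
    · rintro ⟨σ, hσ⟩
      obtain ⟨g, hg⟩ := hFr hσ
      exact ⟨g, Subtype.ext hg⟩
    · ext x
      rw [MonoidHom.mem_ker, MonoidHom.mem_ker]
      constructor
      · intro h; exact congrArg Subtype.val h
      · intro h; exact Subtype.ext h
  · push Not at hsg
    obtain ⟨g, hg⟩ := hsg
    have hg' : Equiv.Perm.sign (F g) = -1 := by
      rcases Int.units_eq_one_or (Equiv.Perm.sign (F g)) with h | h
      · exact absurd (Equiv.Perm.mem_alternatingGroup.2 h) hg
      · exact h
    refine ⟨F.ker, inferInstance, hZ, Or.inr ⟨F, ?_, rfl⟩⟩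
    intro σ
    rcases Int.units_eq_one_or (Equiv.Perm.sign σ) with h | h
    · exact hFr (Equiv.Perm.mem_alternatingGroup.2 h)
    · obtain ⟨y, hy⟩ := hFr (x := σ * (F g)⁻¹) (by
        rw [Equiv.Perm.mem_alternatingGroup, map_mul, map_inv, h, hg']; rfl)
      exact ⟨y * g, by rw [map_mul, hy, inv_mul_cancel_right]⟩

/-- the remaining types -/
def Oth (N : Subgroup G) : Prop :=
  ∃ n, SP n ∧ ∃ F : G →* Equiv.Perm (Fin n), alternatingGroup (Fin n) ≤ F.range ∧ F.ker = N

theorem Oth.alt {n : ℕ} (S : SP n) {N : Subgroup G} (f : G →* alternatingGroup (Fin n)) (hs : Function.Surjective f)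
    (hk : f.ker = N) : Oth N := by
  refine ⟨n, S, (alternatingGroup (Fin n)).subtype.comp f, ?_, ?_⟩
  · intro σ hσ
    obtain ⟨g, hg⟩ := hs ⟨σ, hσ⟩
    exact ⟨g, by change ((f g : alternatingGroup (Fin n)) : Equiv.Perm (Fin n)) = σ; rw [hg]⟩
  · rw [← hk]
    ext x
    rw [MonoidHom.mem_ker, MonoidHom.mem_ker]
    constructor
    · intro h; exact Subtype.ext h
    · intro h
      change ((f x : alternatingGroup (Fin n)) : Equiv.Perm (Fin n)) = 1
      rw [h]; rfl

theorem Oth.perm {n : ℕ} (S : SP n) {N : Subgroup G} (f : G →* Equiv.Perm (Fin n)) (hs : Function.Surjective f)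
    (hk : f.ker = N) : Oth N :=
  ⟨n, S, f, fun σ _ => hs σ, hk⟩

theorem Oth.not_zg {N : Subgroup G} (h : Oth N) (hZ : IsZGroup G) : False := by
  obtain ⟨n, S, F, hF, hk⟩ := h
  obtain ⟨a, b, ha, hb, ha2, hb2, hab, ha1, hb1, hne⟩ := S.klein
  exact Zas.not_zg F hZ (hF (Equiv.Perm.mem_alternatingGroup.2 ha)) (hF (Equiv.Perm.mem_alternatingGroup.2 hb))
    ha2 hb2 hab ha1 hb1 hne

theorem V4_not_zg (f : G →* DihedralGroup 2) (hs : Function.Surjective f) (hZ : IsZGroup G) : False := by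
  obtain ⟨a, b, ha, hb, hab⟩ := D2_klein
  exact not_zg f hZ (hs a) (hs b) (D2_sq a) (D2_sq b) (D2_comm a b) ha hb hab

end Ex

theorem main {G : Type u} [Group G] [Finite G]
    (hFC : (∃ (L : Type) (_ : Group L) (_ : Finite L) (H : Subgroup L), Cfsg.IsFrobeniusComplement H ∧ Nonempty (G ≃* H))) :
    ∃! N : Subgroup G, N.Normal ∧ IsZGroup N ∧
      (N = ⊤ ∨
        (∃ f : G →* DihedralGroup 2, Function.Surjective f ∧ f.ker = N) ∨
        (∃ f : G →* alternatingGroup (Fin 4), Function.Surjective f ∧ f.ker = N) ∨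
        (∃ f : G →* Equiv.Perm (Fin 4), Function.Surjective f ∧ f.ker = N) ∨
        (∃ f : G →* alternatingGroup (Fin 5), Function.Surjective f ∧ f.ker = N) ∨
        (∃ f : G →* Equiv.Perm (Fin 5), Function.Surjective f ∧ f.ker = N)) := by
  obtain ⟨𝕜, _, _, V, _, _, _, ρ, C⟩ := exists_rep_FC hFC
  have hc := C.cyc
  -- a unified form of the type
  have htype : ∀ N : Subgroup G, (N = ⊤ ∨
        (∃ f : G →* DihedralGroup 2, Function.Surjective f ∧ f.ker = N) ∨
        (∃ f : G →* alternatingGroup (Fin 4), Function.Surjective f ∧ f.ker = N) ∨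
        (∃ f : G →* Equiv.Perm (Fin 4), Function.Surjective f ∧ f.ker = N) ∨
        (∃ f : G →* alternatingGroup (Fin 5), Function.Surjective f ∧ f.ker = N) ∨
        (∃ f : G →* Equiv.Perm (Fin 5), Function.Surjective f ∧ f.ker = N)) →
      (N = ⊤ ∨ (∃ f : G →* DihedralGroup 2, Function.Surjective f ∧ f.ker = N) ∨ Oth N) := by
    rintro N (h | h | ⟨f, hs, hk⟩ | ⟨f, hs, hk⟩ | ⟨f, hs, hk⟩ | ⟨f, hs, hk⟩)
    · exact Or.inl h
    · exact Or.inr (Or.inl h)
    · exact Or.inr (Or.inr (Oth.alt SP4 f hs hk))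
    · exact Or.inr (Or.inr (Oth.perm SP4 f hs hk))
    · exact Or.inr (Or.inr (Oth.alt SP5 f hs hk))
    · exact Or.inr (Or.inr (Oth.perm SP5 f hs hk))
  -- uniqueness
  have huniq : ∀ N N' : Subgroup G, IsZGroup N → IsZGroup N' →
      (N = ⊤ ∨ (∃ f : G →* DihedralGroup 2, Function.Surjective f ∧ f.ker = N) ∨ Oth N) →
      (N' = ⊤ ∨ (∃ f : G →* DihedralGroup 2, Function.Surjective f ∧ f.ker = N') ∨ Oth N') → N = N' := by
    intro N N' hN hN' h h'
    by_cases hZ : IsZGroup G
    · have h1 : N = ⊤ := by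
        rcases h with h | ⟨f, hs, -⟩ | h
        · exact h
        · exact (V4_not_zg f hs hZ).elim
        · exact (h.not_zg hZ).elim
      have h2 : N' = ⊤ := by
        rcases h' with h | ⟨f, hs, -⟩ | h
        · exact h
        · exact (V4_not_zg f hs hZ).elim
        · exact (h.not_zg hZ).elim
      rw [h1, h2]
    · have h1 : N ≠ ⊤ := by rintro rfl; exact hZ (isZGroup_of_top hN)
      have h2 : N' ≠ ⊤ := by rintro rfl; exact hZ (isZGroup_of_top hN')
      replace h := h.resolve_left h1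
      replace h' := h'.resolve_left h2
      rcases h with ⟨f, hs, rfl⟩ | ⟨n, S, F, hF, rfl⟩
      · rcases h' with ⟨f', hs', rfl⟩ | ⟨n, S, F, hF, rfl⟩
        · exact V4_uniq hc f f' hs hs' hN
        · exact (V4_other S F hF f hN).elim
      · rcases h' with ⟨f', hs', rfl⟩ | ⟨n', S', F', hF', rfl⟩
        · exact (V4_other S F hF f' hN').elim
        · -- both of the other types
          have h2 : 2 ∣ Nat.card G := by
            by_contra h2
            exact hZ (hc.zgroup h2)
          haveI : Fact (Nat.Prime 2) := ⟨Nat.prime_two⟩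
          obtain ⟨z, hz⟩ := exists_prime_orderOf_dvd_card' (G := G) 2 h2
          have z2 : z * z = 1 := by rw [← pow_two, ← hz]; exact pow_orderOf_eq_one z
          have z1 : z ≠ 1 := by
            rintro rfl
            rw [orderOf_one] at hz
            omega
          have Fz := C.fpfz z1 z2
          ext x
          rw [S.uniq F hF hc hN Fz.z_comm z2 (fun g hg => Fz.eq_z hg),
            S'.uniq F' hF' hc hN' Fz.z_comm z2 (fun g hg => Fz.eq_z hg)]
  -- existence
  have hex : ∃ N : Subgroup G, N.Normal ∧ IsZGroup N ∧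
      (N = ⊤ ∨
        (∃ f : G →* DihedralGroup 2, Function.Surjective f ∧ f.ker = N) ∨
        (∃ f : G →* alternatingGroup (Fin 4), Function.Surjective f ∧ f.ker = N) ∨
        (∃ f : G →* Equiv.Perm (Fin 4), Function.Surjective f ∧ f.ker = N) ∨
        (∃ f : G →* alternatingGroup (Fin 5), Function.Surjective f ∧ f.ker = N) ∨
        (∃ f : G →* Equiv.Perm (Fin 5), Function.Surjective f ∧ f.ker = N)) := by
    by_cases hZ : IsZGroup G
    · exact ⟨⊤, inferInstance, inferInstance, Or.inl rfl⟩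
    rcases C.dich with hs | ⟨z, z1, z2, hz, hu, π, hs, hπ⟩
    · obtain ⟨N, h1, h2, h3⟩ := hc.solvable_case hs hZ
      refine ⟨N, h1, h2, ?_⟩
      rcases h3 with h | h | h
      · exact Or.inr (Or.inl h)
      · exact Or.inr (Or.inr (Or.inl h))
      · exact Or.inr (Or.inr (Or.inr (Or.inl h)))
    · obtain ⟨N, h1, h2, h3⟩ := A5D.exists_N ⟨z1, z2, hz, hu, hs, hπ⟩ hc
      refine ⟨N, h1, h2, ?_⟩
      rcases h3 with h | h
      · exact Or.inr (Or.inr (Or.inr (Or.inr (Or.inl h))))
      · exact Or.inr (Or.inr (Or.inr (Or.inr (Or.inr h))))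
  obtain ⟨N, h1, h2, h3⟩ := hex
  refine ⟨N, ⟨h1, h2, h3⟩, ?_⟩
  rintro N' ⟨-, h2', h3'⟩
  exact huniq N' N h2' h2 (htype N' h3') (htype N h3)

end Cfsg.Agent.H24.Zas
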