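import Mathlib
import Cfsg.Agent.H24_Zas27
import Cfsg.Agent.H20_ZG

/-! Elements of prime order normalizing a cyclic group in a fixed-point-free group; solvable complements. -/

namespace Cfsg.Agent.H24.Zas

open Subgroup Cfsg Module

theorem RepF.comm_of_prime {G 𝕜 V : Type*} [Group G] [Finite G] [Field 𝕜] [AddCommGroup V] [Module 𝕜 V]
    [IsAlgClosed 𝕜] [FiniteDimensional 𝕜 V] {ρ : G →* End 𝕜 V} (C : RepF ρ) {a b : G} {p : ℕ} (hp : p.Prime)
    (ha : a ^ p = 1) {r : ℕ} (hr : a⁻¹ * b * a = b ^ r) : a * b = b * a := by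
  by_contra hne
  have ha1 : a ≠ 1 := by rintro rfl; exact hne (by rw [one_mul, mul_one])
  haveI : Nontrivial V := by
    obtain ⟨v, hv⟩ := C.nt
    exact ⟨v, 0, hv⟩
  obtain ⟨c, hc⟩ := Module.End.exists_eigenvalue (ρ b)
  obtain ⟨v, hv⟩ := hc.exists_hasEigenvector
  have hv0 : v ≠ 0 := hv.2
  have hbv : ρ b v = c • v := Module.End.mem_eigenspace_iff.1 hv.1
  have hbk : ∀ k : ℕ, ρ (b ^ k) v = c ^ k • v := by
    intro k
    induction k with
    | zero => rw [pow_zero, map_one, Module.End.one_apply, pow_zero, one_smul]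
    | succ k ih => rw [pow_succ', map_mul, Module.End.mul_apply, ih, map_smul, hbv, smul_smul, pow_succ]
  have hinj : ∀ i j : ℕ, c ^ i = c ^ j → b ^ i = b ^ j := by
    have key : ∀ i j : ℕ, i ≤ j → c ^ i = c ^ j → b ^ i = b ^ j := by
      intro i j hij h
      have hc0 : c ≠ 0 := by
        rintro rfl
        rw [zero_smul] at hbv
        apply hv0
        have h1 : ρ (b⁻¹ * b) v = 0 := by rw [map_mul, Module.End.mul_apply, hbv, map_zero]
        rwa [inv_mul_cancel, map_one, Module.End.one_apply] at h1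
      obtain ⟨k, rfl⟩ := Nat.exists_eq_add_of_le hij
      rw [pow_add] at h
      have h1 : c ^ k = 1 := by
        have h2 : c ^ i * 1 = c ^ i * c ^ k := by rw [mul_one]; exact h
        exact (mul_left_cancel₀ (pow_ne_zero i hc0) h2).symm
      have h3 : b ^ k = 1 := by
        by_contra hk
        refine hv0 (C.fpf _ hk v ?_)
        rw [hbk, h1, one_smul]
      rw [pow_add, h3, mul_one]
    intro i j h
    rcases le_total i j with hij | hij
    · exact key i j hij h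
    · exact (key j i hij h.symm).symm
  -- eigenvectors
  have hai : ∀ i : ℕ, ρ b (ρ (a ^ i) v) = c ^ (r ^ i) • ρ (a ^ i) v := by
    intro i
    have h1 := H20.ZG.conj_pow_iter hr i
    have h2 : b * a ^ i = a ^ i * b ^ r ^ i := by
      rw [← h1]; group
    rw [← Module.End.mul_apply, ← map_mul, h2, map_mul, Module.End.mul_apply, hbk, map_smul]
  have hμ : Function.Injective (fun i : Fin p => c ^ (r ^ (i : ℕ))) := by
    have key : ∀ i j : Fin p, (i : ℕ) < j → c ^ (r ^ (i : ℕ)) = c ^ (r ^ (j : ℕ)) → False := by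
      intro i j hij h
      have h1 := hinj _ _ h
      rw [← H20.ZG.conj_pow_iter hr, ← H20.ZG.conj_pow_iter hr] at h1
      obtain ⟨k, hk⟩ := Nat.exists_eq_add_of_le hij.le
      have hk0 : 0 < k := by omega
      have hkp : k < p := by have := j.2; omega
      -- `a ^ k` commutes with `b`
      have h2 : a ^ k * b = b * a ^ k := by
        rw [hk, pow_add] at h1
        have h3 : b = (a ^ k)⁻¹ * b * a ^ k := by
          calc b = a ^ (i : ℕ) * ((a ^ (i : ℕ))⁻¹ * b * a ^ (i : ℕ)) * (a ^ (i : ℕ))⁻¹ := by group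
            _ = a ^ (i : ℕ) * ((a ^ (i : ℕ) * a ^ k)⁻¹ * b * (a ^ (i : ℕ) * a ^ k)) * (a ^ (i : ℕ))⁻¹ := by rw [h1]
            _ = (a ^ (i : ℕ) * (a ^ (i : ℕ) * a ^ k)⁻¹) * b * ((a ^ (i : ℕ) * a ^ k) * (a ^ (i : ℕ))⁻¹) := by group
            _ = (a ^ k)⁻¹ * b * a ^ k := by
              rw [(Commute.pow_pow_self a i k).eq, mul_inv_rev]
              group
        calc a ^ k * b = a ^ k * ((a ^ k)⁻¹ * b * a ^ k) := by rw [← h3]
          _ = b * a ^ k := by group
      -- `a` is a power of `a ^ k`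
      have hcop : Nat.Coprime k p := (Nat.coprime_of_lt_prime hk0.ne' hkp hp).symm
      obtain ⟨s, hs⟩ : ∃ s : ℤ, (a ^ k) ^ s = a := by
        have h5 := Nat.gcd_eq_gcd_ab k p
        rw [hcop.gcd_eq_one] at h5
        refine ⟨Nat.gcdA k p, ?_⟩
        have h6 : a ^ ((1 : ℕ) : ℤ) = a ^ ((k : ℤ) * Nat.gcdA k p + (p : ℤ) * Nat.gcdB k p) := by rw [h5]
        rw [zpow_add, zpow_mul, zpow_mul, zpow_natCast, zpow_natCast, zpow_natCast, ha, one_zpow, mul_one, pow_one] at h6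
        exact h6.symm
      apply hne
      have h7 : Commute (a ^ k) b := h2
      have h8 := h7.zpow_left s
      rw [hs] at h8
      exact h8
    intro i j h
    rcases lt_trichotomy (i : ℕ) j with h1 | h1 | h1
    · exact (key i j h1 h).elim
    · exact Fin.ext h1
    · exact (key j i h1 h.symm).elim
  have hli : LinearIndependent 𝕜 (fun i : Fin p => ρ (a ^ (i : ℕ)) v) := by
    refine Module.End.eigenvectors_linearIndependent' (ρ b) _ hμ _ ?_
    intro i
    refine ⟨Module.End.mem_eigenspace_iff.2 (hai i), ?_⟩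
    intro h0
    apply hv0
    have h1 : ρ ((a ^ (i : ℕ))⁻¹ * a ^ (i : ℕ)) v = 0 := by rw [map_mul, Module.End.mul_apply, h0, map_zero]
    rwa [inv_mul_cancel, map_one, Module.End.one_apply] at h1
  -- the sum is fixed
  have hfix : ρ a (∑ i : Fin p, ρ (a ^ (i : ℕ)) v) = ∑ i : Fin p, ρ (a ^ (i : ℕ)) v := by
    rw [Fin.sum_univ_eq_sum_range (fun i => ρ (a ^ i) v) p, map_sum]
    have h1 : ∑ i ∈ Finset.range p, ρ a (ρ (a ^ i) v) = ∑ i ∈ Finset.range p, ρ (a ^ (i + 1)) v := by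
      apply Finset.sum_congr rfl
      intro i _
      rw [pow_succ', map_mul, Module.End.mul_apply]
    rw [h1]
    have h2 := Finset.sum_range_succ' (fun i => ρ (a ^ i) v) p
    rw [Finset.sum_range_succ, ha, pow_zero] at h2
    exact (add_right_cancel h2).symm
  have h0 := C.fpf a ha1 _ hfix
  have h1 := Fintype.linearIndependent_iff.1 hli (fun _ => 1) (by simpa using h0) ⟨0, hp.pos⟩
  exact one_ne_zero h1

/-- the metacyclic relators -/
abbrev MR (n m r : ℕ) : Set (FreeGroup (Fin 2)) :=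
  {FreeGroup.of (0 : Fin 2) ^ n, FreeGroup.of (1 : Fin 2) ^ m,
    (FreeGroup.of (0 : Fin 2))⁻¹ * FreeGroup.of 1 * FreeGroup.of 0 * (FreeGroup.of (1 : Fin 2) ^ r)⁻¹}

theorem pres_metacyclic {X : Type*} [Group X] [Finite X] {x y : X} {n m r : ℕ} (hgen : Subgroup.closure {x, y} = ⊤)
    (hn : 0 < n) (hm : 0 < m) (hx : x ^ n = 1) (hy : y ^ m = 1) (hr : x⁻¹ * y * x = y ^ r) (hcard : n * m ≤ Nat.card X) :
    Nonempty (X ≃* PresentedGroup (MR n m r)) := by
  let P := PresentedGroup (MR n m r)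
  let X0 : P := PresentedGroup.of 0
  let Y0 : P := PresentedGroup.of 1
  have hX : X0 ^ n = 1 := by
    have : (PresentedGroup.mk (MR n m r)) (FreeGroup.of (0 : Fin 2) ^ n) = 1 :=
      PresentedGroup.one_of_mem (Or.inl rfl)
    rwa [map_pow] at this
  have hY : Y0 ^ m = 1 := by
    have : (PresentedGroup.mk (MR n m r)) (FreeGroup.of (1 : Fin 2) ^ m) = 1 :=
      PresentedGroup.one_of_mem (Or.inr (Or.inl rfl))
    rwa [map_pow] at this
  have hR : X0⁻¹ * Y0 * X0 = Y0 ^ r := by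
    have : (PresentedGroup.mk (MR n m r)) ((FreeGroup.of (0 : Fin 2))⁻¹ * FreeGroup.of 1 * FreeGroup.of 0 *
        (FreeGroup.of (1 : Fin 2) ^ r)⁻¹) = 1 :=
      PresentedGroup.one_of_mem (Or.inr (Or.inr rfl))
    rw [map_mul, map_mul, map_mul, map_inv, map_inv, map_pow] at this
    exact mul_inv_eq_one.1 this
  have hYX : ∀ j : ℕ, Y0 ^ j * X0 = X0 * Y0 ^ (r * j) := by
    intro j
    have h1 : (X0⁻¹ * Y0 * X0) ^ j = X0⁻¹ * Y0 ^ j * X0 := by
      have := conj_pow (i := j) (a := X0⁻¹) (b := Y0)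
      rwa [inv_inv] at this
    rw [pow_mul, ← hR, h1]; group
  -- normal form
  have hnf : ∀ g : P, ∃ i j : ℕ, g = X0 ^ i * Y0 ^ j := by
    intro g
    have hg : g ∈ Subgroup.closure (Set.range (PresentedGroup.of : Fin 2 → P)) := by
      rw [PresentedGroup.closure_range_of]; trivial
    have hinvX : X0⁻¹ = X0 ^ (n - 1) := by
      apply inv_eq_of_mul_eq_one_left
      rw [← pow_succ, Nat.sub_add_cancel hn, hX]
    have hinvY : Y0⁻¹ = Y0 ^ (m - 1) := by
      apply inv_eq_of_mul_eq_one_left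
      rw [← pow_succ, Nat.sub_add_cancel hm, hY]
    have hmx : ∀ w : P, (∃ i j : ℕ, w = X0 ^ i * Y0 ^ j) → ∃ i j : ℕ, w * X0 = X0 ^ i * Y0 ^ j := by
      rintro w ⟨i, j, rfl⟩
      exact ⟨i + 1, r * j, by rw [mul_assoc, hYX, ← mul_assoc, pow_succ]⟩
    have hmxk : ∀ k : ℕ, ∀ w : P, (∃ i j : ℕ, w = X0 ^ i * Y0 ^ j) → ∃ i j : ℕ, w * X0 ^ k = X0 ^ i * Y0 ^ j := by
      intro k
      induction k with
      | zero => intro w hw; rw [pow_zero, mul_one]; exact hw
      | succ k ih =>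
        intro w hw
        rw [pow_succ, ← mul_assoc]
        exact hmx _ (ih w hw)
    have hmyk : ∀ k : ℕ, ∀ w : P, (∃ i j : ℕ, w = X0 ^ i * Y0 ^ j) → ∃ i j : ℕ, w * Y0 ^ k = X0 ^ i * Y0 ^ j := by
      rintro k w ⟨i, j, rfl⟩
      exact ⟨i, j + k, by rw [mul_assoc, ← pow_add]⟩
    refine Subgroup.closure_induction_right (p := fun g _ => ∃ i j : ℕ, g = X0 ^ i * Y0 ^ j) ?_ ?_ ?_ hg
    · exact ⟨0, 0, by rw [pow_zero, pow_zero, one_mul]⟩
    · rintro w _ _ ⟨i, rfl⟩ hw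
      fin_cases i
      · have := hmxk 1 w hw
        rwa [pow_one] at this
      · have := hmyk 1 w hw
        rwa [pow_one] at this
    · rintro w _ _ ⟨i, rfl⟩ hw
      fin_cases i
      · have := hmxk (n - 1) w hw
        rwa [← hinvX] at this
      · have := hmyk (m - 1) w hw
        rwa [← hinvY] at this
  have hsurj : Function.Surjective (fun ij : Fin n × Fin m => X0 ^ (ij.1 : ℕ) * Y0 ^ (ij.2 : ℕ)) := by
    intro g
    obtain ⟨i, j, rfl⟩ := hnf g
    refine ⟨(⟨i % n, Nat.mod_lt _ hn⟩, ⟨j % m, Nat.mod_lt _ hm⟩), ?_⟩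
    change X0 ^ (i % n) * Y0 ^ (j % m) = _
    have hmod : ∀ (w : P) (k N : ℕ), w ^ N = 1 → w ^ (k % N) = w ^ k := by
      intro w k N hw
      conv_rhs => rw [← Nat.mod_add_div k N, pow_add, pow_mul, hw, one_pow, mul_one]
    rw [hmod _ _ _ hX, hmod _ _ _ hY]
  haveI hfin : Finite P := Finite.of_surjective _ hsurj
  have hcP : Nat.card P ≤ n * m := by
    have := Nat.card_le_card_of_surjective _ hsurj
    rwa [Nat.card_prod, Nat.card_fin, Nat.card_fin] at this
  have hrel : ∀ w ∈ MR n m r, FreeGroup.lift ![x, y] w = 1 := by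
    intro w hw
    simp only [MR, Set.mem_insert_iff, Set.mem_singleton_iff] at hw
    rcases hw with rfl | rfl | rfl
    · rw [map_pow, FreeGroup.lift_apply_of]; exact hx
    · rw [map_pow, FreeGroup.lift_apply_of]; exact hy
    · simp only [map_mul, map_inv, map_pow, FreeGroup.lift_apply_of]
      change x⁻¹ * y * x * (y ^ r)⁻¹ = 1
      rw [hr, mul_inv_cancel]
  have e : Nonempty (P ≃* X) := by
    refine H20.TC.equiv_of_surj hfin (PresentedGroup.toGroup hrel) ?_ (hcP.trans hcard)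
    rw [← MonoidHom.range_eq_top, eq_top_iff, ← hgen, Subgroup.closure_le]
    intro w hw
    simp only [Set.mem_insert_iff, Set.mem_singleton_iff] at hw
    rcases hw with rfl | rfl
    · exact ⟨PresentedGroup.of 0, by rw [PresentedGroup.toGroup.of]; rfl⟩
    · exact ⟨PresentedGroup.of 1, by rw [PresentedGroup.toGroup.of]; rfl⟩
  obtain ⟨e⟩ := e
  exact ⟨e.symm⟩

/-- number theory: exponents `n / p` for all primes `p ∣ n` give the exponent `n / n'` -/
theorem rad_exp {m n r : ℕ} (hn : 0 < n) (h : r ^ n % m = 1 % m)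
    (hp : ∀ p : ℕ, p.Prime → p ∣ n → r ^ (n / p) % m = 1 % m) :
    r ^ (n / ∏ p ∈ n.primeFactors, p) % m = 1 % m := by
  have key : ∀ k : ℕ, r ^ k % m = 1 % m ↔ orderOf (r : ZMod m) ∣ k := by
    intro k
    rw [orderOf_dvd_iff_pow_eq_one, ← Nat.cast_pow, ← Nat.cast_one (R := ZMod m), ZMod.natCast_eq_natCast_iff']
  rw [key] at h ⊢
  obtain ⟨d, hd⟩ : ∃ d, d = orderOf (r : ZMod m) := ⟨_, rfl⟩
  rw [← hd] at h ⊢
  obtain ⟨e, he⟩ := h
  have hd0 : 0 < d := Nat.pos_of_ne_zero (by rintro h0; rw [h0, zero_mul] at he; omega)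
  have h1 : ∏ p ∈ n.primeFactors, p ∣ e := by
    apply Finset.prod_primes_dvd
    · intro p hp
      exact (Nat.prime_of_mem_primeFactors hp).prime
    · intro p hpn
      have hpp := Nat.prime_of_mem_primeFactors hpn
      have hpd := Nat.dvd_of_mem_primeFactors hpn
      have h2 := (key _).1 (hp p hpp hpd)
      rw [← hd] at h2
      obtain ⟨c, hc⟩ := h2
      have h3 : n = d * (p * c) := by
        rw [← Nat.div_mul_cancel hpd, hc]; ring
      have h4 : e = p * c := Nat.eq_of_mul_eq_mul_left hd0 (by rw [← he, ← h3])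
      exact ⟨c, h4⟩
  obtain ⟨c, hc⟩ := h1
  refine ⟨c, ?_⟩
  have hpos : 0 < ∏ p ∈ n.primeFactors, p := Finset.prod_pos (fun p hp => (Nat.prime_of_mem_primeFactors hp).pos)
  obtain ⟨Q, hQ⟩ : ∃ Q, Q = ∏ p ∈ n.primeFactors, p := ⟨_, rfl⟩
  rw [← hQ] at hpos hc ⊢
  apply Nat.div_eq_of_eq_mul_right hpos
  rw [he, hc]; ring

theorem RepF.zg {G 𝕜 V : Type*} [Group G] [Finite G] [Field 𝕜] [AddCommGroup V] [Module 𝕜 V]
    [IsAlgClosed 𝕜] [FiniteDimensional 𝕜 V] {ρ : G →* End 𝕜 V} (C : RepF ρ) (N : Subgroup G) (hZ : IsZGroup N) :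
    ∃ n m r : ℕ, 0 < n ∧ 0 < m ∧ Nat.Coprime (r - 1) m ∧ Nat.Coprime n m ∧ 1 ≤ r ∧
        r ^ (n / ∏ p ∈ n.primeFactors, p) % m = 1 % m ∧
        Nonempty (N ≃* PresentedGroup (MR n m r)) := by
  haveI := hZ
  obtain ⟨x, y, n, m, r, hgen, hx, hy, hr, hc1, hc2, hr1, hrn, -, hcomp⟩ := H20.ZG.main (G := N)
  have hn : 0 < n := by rw [← hx]; exact orderOf_pos x
  have hm : 0 < m := by rw [← hy]; exact orderOf_pos y
  have hcard : n * m = Nat.card N := by
    have := hcomp.card_mul_card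
    rw [Nat.card_zpowers, Nat.card_zpowers, hx, hy] at this
    rw [← this, mul_comm]
  refine ⟨n, m, r, hn, hm, hc1, hc2, hr1, ?_, pres_metacyclic hgen hn hm ?_ ?_ hr hcard.le⟩
  · apply rad_exp hn hrn
    intro p hp hpn
    have h1 := H20.ZG.conj_pow_iter hr (n / p)
    have h2 : (((x ^ (n / p) : N)) : G)⁻¹ * (y : G) * ((x ^ (n / p) : N) : G) = (y : G) ^ (r ^ (n / p)) :=
      congrArg Subtype.val h1
    have h3 := C.comm_of_prime hp (a := ((x ^ (n / p) : N) : G)) (b := (y : G)) (r := r ^ (n / p)) (by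
      have : (x ^ (n / p)) ^ p = 1 := by
        rw [← pow_mul, Nat.div_mul_cancel hpn, ← hx]; exact pow_orderOf_eq_one x
      exact congrArg Subtype.val this) h2
    have h4 : (y : G) ^ (r ^ (n / p)) = (y : G) ^ 1 := by
      rw [← h2, mul_assoc, ← h3, inv_mul_cancel_left, pow_one]
    have h5 : y ^ (r ^ (n / p)) = y ^ 1 := Subtype.ext h4
    rw [pow_eq_pow_iff_modEq, hy] at h5
    exact h5
  · rw [← hx]; exact pow_orderOf_eq_one x
  · rw [← hy]; exact pow_orderOf_eq_one y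

/-- a group of order at most `4` embeds in `Perm (Fin 4)` -/
theorem cayley4 (X : Type*) [Group X] [Finite X] (h : Nat.card X = 4) : ∃ f : X →* Equiv.Perm (Fin 4), Function.Injective f := by
  classical
  haveI := Fintype.ofFinite X
  have e : X ≃ Fin 4 := Fintype.equivFinOfCardEq (by rw [← Nat.card_eq_fintype_card, h])
  refine ⟨(e.permCongrHom).toMonoidHom.comp (MulAction.toPermHom X X), ?_⟩
  exact e.permCongrHom.injective.comp MulAction.toPerm_injective

theorem solvable_FC {G : Type*} [Group G] [Finite G] (hsol : Group.IsSolvable G)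
    (hFC : ∃ (L : Type) (_ : Group L) (_ : Finite L) (H : Subgroup L), Cfsg.IsFrobeniusComplement H ∧ Nonempty (G ≃* H)) :
    ∃ G₀ : Subgroup G, G₀.Normal ∧
      (∃ f : G →* Equiv.Perm (Fin 4), f.ker = G₀) ∧ IsZGroup G₀ ∧
      ∃ n m r : ℕ, 0 < n ∧ 0 < m ∧ Nat.Coprime (r - 1) m ∧ Nat.Coprime n m ∧ 1 ≤ r ∧
        r ^ (n / ∏ p ∈ n.primeFactors, p) % m = 1 % m ∧
        Nonempty (G₀ ≃* PresentedGroup (MR n m r)) := by
  obtain ⟨𝕜, _, _, V, _, _, _, ρ, C⟩ := exists_rep_FC hFC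
  have hc := C.cyc
  by_cases hZ : IsZGroup G
  · exact ⟨⊤, inferInstance, ⟨1, MonoidHom.ker_one⟩, inferInstance, C.zg ⊤ inferInstance⟩
  · obtain ⟨N, h1, h2, h3⟩ := hc.solvable_case hsol hZ
    refine ⟨N, h1, ?_, h2, C.zg N h2⟩
    rcases h3 with ⟨f, -, hf⟩ | ⟨f, -, hf⟩ | ⟨f, -, hf⟩
    · obtain ⟨g, hg⟩ := cayley4 (DihedralGroup 2) (by rw [DihedralGroup.nat_card])
      refine ⟨g.comp f, ?_⟩
      rw [← hf]
      ext x
      rw [MonoidHom.mem_ker, MonoidHom.mem_ker, MonoidHom.comp_apply, map_eq_one_iff g hg]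
    · refine ⟨(alternatingGroup (Fin 4)).subtype.comp f, ?_⟩
      rw [← hf]
      ext x
      rw [MonoidHom.mem_ker, MonoidHom.mem_ker, MonoidHom.comp_apply,
        map_eq_one_iff _ (alternatingGroup (Fin 4)).subtype_injective]
    · exact ⟨f, hf⟩

end Cfsg.Agent.H24.Zas
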