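import Mathlib
import Cfsg.Agent.H24_Zas27
import Cfsg.Agent.H20_S61
import Cfsg.Agent.H12_Core

/-! The self-centralizing cyclic normal subgroup of the centralizer of `SL(2,5)`. -/

namespace Cfsg.Agent.H24.Zas

open Subgroup Cfsg

universe u

section

variable {G : Type u} [Group G] [Finite G]

namespace A5D

variable {z : G} {π : O3 G →* alternatingGroup (Fin 5)} (D : A5D z π)

include D in
theorem cent_zg (hc : Cyc G) : IsZGroup (centralizer (O3 G : Set G)) := by
  rw [isZGroup_iff]
  intro p hp P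
  haveI : Fact p.Prime := ⟨hp⟩
  rcases (hc.sub (centralizer (O3 G : Set G))).pgroup P.isPGroup' with h1 | ⟨rfl, -⟩
  · exact h1
  · have h2 : ∀ s : (P : Subgroup (centralizer (O3 G : Set G))), ((s : centralizer (O3 G : Set G)) : G) = 1 ∨
        ((s : centralizer (O3 G : Set G)) : G) = z := by
      intro s
      obtain ⟨k, hk⟩ := P.isPGroup' s
      exact D.cent_two (s : centralizer (O3 G : Set G)).2 k
        (congrArg (fun w : (P : Subgroup (centralizer (O3 G : Set G))) => ((w : centralizer (O3 G : Set G)) : G)) hk)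
    have h4 : Cyc (P : Subgroup (centralizer (O3 G : Set G))) := (hc.sub (centralizer (O3 G : Set G))).sub P
    apply isCyclic_of_cyc_comm h4
    intro a b
    apply Subtype.ext
    apply Subtype.ext
    change ((a : centralizer (O3 G : Set G)) : G) * ((b : centralizer (O3 G : Set G)) : G) =
      ((b : centralizer (O3 G : Set G)) : G) * ((a : centralizer (O3 G : Set G)) : G)
    rcases h2 a with h | h
    · rw [h, one_mul, mul_one]
    · rw [h, D.hz]

include D in
theorem z_cent : z ∈ centralizer (O3 G : Set G) := (D.cent_inf D.zO).2 (Or.inr rfl)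

include D in
/-- the self-centralizing cyclic subgroup -/
theorem exists_A (hc : Cyc G) : ∃ A : Subgroup G, A.Normal ∧ A ≤ centralizer (O3 G : Set G) ∧
    (∀ a ∈ A, ∀ b ∈ A, a * b = b * a) ∧ z ∈ A ∧
    (∀ x ∈ centralizer (O3 G : Set G), (∀ a ∈ A, x * a = a * x) → x ∈ A) := by
  obtain ⟨C, hC⟩ : ∃ C, C = centralizer (O3 G : Set G) := ⟨_, rfl⟩
  haveI hCn : C.Normal := by rw [hC]; infer_instance
  haveI hZ : IsZGroup C := by rw [hC]; exact D.cent_zg hc
  haveI hs : Group.IsSolvable C := inferInstance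
  haveI : (fittingSubgroup C).Characteristic := H11.Cores.fittingSubgroup_characteristic
  haveI hFn : Group.IsNilpotent (fittingSubgroup C) := H1.Nilp.fitting_nilpotent
  haveI hFc : IsCyclic (fittingSubgroup C) := inferInstance
  have hzC : z ∈ C := by rw [hC]; exact D.z_cent
  rw [← hC]
  refine ⟨(fittingSubgroup C).map C.subtype, H11.Cores.map_subtype_normal_of_characteristic C _, map_subtype_le _, ?_, ?_, ?_⟩
  · rintro _ ⟨a, ha, rfl⟩ _ ⟨b, hb, rfl⟩
    letI := IsCyclic.commGroup (α := fittingSubgroup C)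
    have := mul_comm (⟨a, ha⟩ : fittingSubgroup C) ⟨b, hb⟩
    exact congrArg (fun w : fittingSubgroup C => ((w : C) : G)) this
  · have hcomm : ∀ g : C, (⟨z, hzC⟩ : C) * g = g * ⟨z, hzC⟩ := fun g => Subtype.ext (D.hz g)
    haveI hn : (zpowers (⟨z, hzC⟩ : C)).Normal := by
      refine ⟨?_⟩
      rintro _ ⟨k, rfl⟩ g
      have : Commute (⟨z, hzC⟩ : C) g := hcomm g
      have h2 := this.zpow_left k
      change g * (⟨z, hzC⟩ : C) ^ k * g⁻¹ ∈ _
      rw [← h2.eq, mul_inv_cancel_right]
      exact ⟨k, rfl⟩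
    have hle : zpowers (⟨z, hzC⟩ : C) ≤ fittingSubgroup C := by
      apply H11.Cores.le_fittingSubgroup
      letI := IsCyclic.commGroup (α := zpowers (⟨z, hzC⟩ : C))
      exact CommGroup.isNilpotent
    exact ⟨⟨z, hzC⟩, hle (mem_zpowers _), rfl⟩
  · intro x hx h
    exact H12.Core.inf_centralizer_fittingOf_le C hs ⟨hx, mem_centralizer_iff.2 (fun a ha => (h a ha).symm)⟩

include D in
theorem card_M {M : Subgroup G} (hM : M ⊔ zpowers z = centralizer (O3 G : Set G)) (h30 : (Nat.card M).Coprime 30) :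
    Nat.card (centralizer (O3 G : Set G)) = 2 * Nat.card M := by
  haveI : Fact (Nat.Prime 2) := ⟨Nat.prime_two⟩
  have hoz : orderOf z = 2 := orderOf_eq_prime (by rw [pow_two, D.z2]) D.z1
  haveI hn : (zpowers z).Normal := by
    refine ⟨?_⟩
    rintro _ ⟨k, rfl⟩ g
    have : Commute z g := D.hz g
    have h2 := this.zpow_left k
    change g * z ^ k * g⁻¹ ∈ _
    rw [← h2.eq, mul_inv_cancel_right]
    exact ⟨k, rfl⟩
  have hcz : Nat.card (zpowers z) = 2 := by rw [Nat.card_zpowers, hoz]
  have hinf : M ⊓ zpowers z = ⊥ := by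
    rw [← disjoint_iff]
    apply Subgroup.disjoint_of_coprime_natCard
    rw [hcz]
    exact Nat.Coprime.coprime_dvd_right (by norm_num) h30
  have h := H1.Basic.card_sup_mul_card_inf (H := M) (K := zpowers z) (by
    intro g _
    rw [Subgroup.normalizer_eq_top]; trivial)
  rw [hM, hinf, Subgroup.card_bot, mul_one, hcz] at h
  omega

end A5D

end

end Cfsg.Agent.H24.Zas
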