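import Mathlib
import Cfsg.Agent.H24_Zas29

/-! Non-solvable regular linear groups. -/

namespace Cfsg.Agent.H24.Zas

open Subgroup Cfsg

theorem num_pow7 : ∀ d : ℕ, 4 ≤ d → 120 * d ≤ 7 ^ d := by
  intro d hd
  induction d, hd using Nat.le_induction with
  | base => norm_num
  | succ n hn ih =>
    rw [pow_succ]
    omega

theorem num1 {p d e a : ℕ} (hp : p.Prime) (hd : 1 ≤ d) (he : 2 ≤ e) (ha : a ∣ p ^ d - 1)
    (hle : (p ^ d) ^ e - 1 ≤ 120 * d * a) (h120 : 120 ∣ (p ^ d) ^ e - 1) (ha4 : ¬ 4 ∣ a) (ha3 : ¬ 3 ∣ a) (ha5 : ¬ 5 ∣ a) :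
    d = 1 ∧ e = 2 ∧ 7 ≤ p ∧ p ≤ 119 := by
  obtain ⟨Q, hQ⟩ : ∃ Q, Q = p ^ d := ⟨_, rfl⟩
  rw [← hQ] at ha hle h120
  have hpQ : p ∣ Q := by rw [hQ]; exact dvd_pow_self p (by omega)
  have hp2 := hp.two_le
  have hQ2 : p ≤ Q := by rw [hQ]; exact Nat.le_self_pow (by omega) p
  have hpe : p ∣ Q ^ e := dvd_pow hpQ (by omega)
  have hQe1 : 1 ≤ Q ^ e := Nat.one_le_pow _ _ (by omega)
  have hnd : ¬ p ∣ 120 := by
    intro h
    have h1 := h.trans h120
    have h2 : p ∣ Q ^ e - (Q ^ e - 1) := Nat.dvd_sub hpe h1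
    have h3 : Q ^ e - (Q ^ e - 1) = 1 := by omega
    rw [h3] at h2
    have := Nat.le_of_dvd (by norm_num) h2
    omega
  have hp7 : 7 ≤ p := by
    by_contra h
    push Not at h
    interval_cases p
    · exact hnd (by norm_num)
    · exact hnd (by norm_num)
    · exact absurd hp (by norm_num)
    · exact hnd (by norm_num)
    · exact absurd hp (by norm_num)
  have haQ : a ≤ Q - 1 := Nat.le_of_dvd (by omega) ha
  have hQ3 : Q ^ 2 ≤ Q ^ e := Nat.pow_le_pow_right (by omega) he
  have h1 : Q + 1 ≤ 120 * d := by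
    by_contra hcon
    push Not at hcon
    have h2 : 120 * d * a ≤ 120 * d * (Q - 1) := Nat.mul_le_mul_left _ haQ
    have h3 : Q ^ 2 - 1 = (Q + 1) * (Q - 1) := by
      have := Nat.sq_sub_sq Q 1
      simpa using this
    have h4 : 120 * d * (Q - 1) < (Q + 1) * (Q - 1) := Nat.mul_lt_mul_of_pos_right hcon (by omega)
    omega
  have hd3 : d ≤ 3 := by
    by_contra hcon
    push Not at hcon
    have h2 := num_pow7 d (by omega)
    have h3 : 7 ^ d ≤ p ^ d := Nat.pow_le_pow_left hp7 d
    omega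
  have he2 : e = 2 := by
    by_contra hne
    have he3 : 3 ≤ e := by omega
    have h2 : Q ^ 3 ≤ Q ^ e := Nat.pow_le_pow_right (by omega) he3
    have h3 : 120 * d * a ≤ 120 * d * (Q - 1) := Nat.mul_le_mul_left _ haQ
    have h4 : Q ^ 3 - 1 = (Q ^ 2 + Q + 1) * (Q - 1) := by
      obtain ⟨k, rfl⟩ : ∃ k, Q = k + 1 := ⟨Q - 1, by omega⟩
      have : (k + 1) ^ 3 = ((k + 1) ^ 2 + (k + 1) + 1) * k + 1 := by ring
      rw [this]; rfl
    have h5 : Q ^ 2 + Q + 1 ≤ 120 * d := by
      by_contra hcon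
      push Not at hcon
      have h6 : 120 * d * (Q - 1) < (Q ^ 2 + Q + 1) * (Q - 1) := Nat.mul_lt_mul_of_pos_right hcon (by omega)
      omega
    have hQ18 : Q ≤ 18 := by nlinarith
    have hd1 : d = 1 := by
      by_contra hd1
      have h7 : p ^ 2 ≤ p ^ d := Nat.pow_le_pow_right (by omega) (by omega)
      rw [← hQ] at h7
      nlinarith
    subst hd1
    rw [pow_one] at hQ
    subst hQ
    have hQ10 : Q ≤ 10 := by nlinarith
    have hQ7 : Q = 7 := by
      interval_cases Q
      · rfl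
      · exact absurd hp (by norm_num)
      · exact absurd hp (by norm_num)
      · exact absurd hp (by norm_num)
    subst hQ7
    rcases Nat.lt_or_ge 3 e with h8 | h8
    · have h9 : 7 ^ 4 ≤ 7 ^ e := Nat.pow_le_pow_right (by norm_num) h8
      norm_num at h9 haQ
      omega
    · have h9 : e = 3 := by omega
      subst h9
      norm_num at h120
  subst he2
  have hd1 : d = 1 := by
    interval_cases d
    · rfl
    · exfalso
      have hp15 : p ≤ 15 := by nlinarith
      have h7 : p = 7 ∨ p = 11 ∨ p = 13 := by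
        interval_cases p
        · left; rfl
        · exact absurd hp (by norm_num)
        · exact absurd hp (by norm_num)
        · exact absurd hp (by norm_num)
        · right; left; rfl
        · exact absurd hp (by norm_num)
        · right; right; rfl
        · exact absurd hp (by norm_num)
        · exact absurd hp (by norm_num)
      rcases h7 with rfl | rfl | rfl
      · norm_num at hQ
        subst hQ
        norm_num at hle ha haQ
        interval_cases a <;> omega
      · norm_num at hQ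
        subst hQ
        norm_num at hle ha haQ
        interval_cases a <;> omega
      · norm_num at hQ
        subst hQ
        norm_num at hle ha haQ
        interval_cases a <;> omega
    · exfalso
      have hp7' : p = 7 := by
        have : p ^ 3 ≤ 359 := by omega
        have h8 : p ≤ 7 := by
          by_contra hcon
          push Not at hcon
          have : 8 ^ 3 ≤ p ^ 3 := Nat.pow_le_pow_left hcon 3
          omega
        omega
      subst hp7'
      norm_num at hQ
      subst hQ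
      norm_num at h120
  subst hd1
  rw [pow_one] at hQ
  refine ⟨rfl, rfl, hp7, by omega⟩

theorem num2 {p a : ℕ} (hp : p.Prime) (hp7 : 7 ≤ p) (hp119 : p ≤ 119) (ha : a ∣ p - 1) (h120 : 120 ∣ p ^ 2 - 1)
    (h2 : 2 ∣ a) (ha4 : ¬ 4 ∣ a) (ha3 : ¬ 3 ∣ a) (h : p ^ 2 - 1 = 60 * a ∨ p ^ 2 - 1 = 120 * a) :
    (p = 11 ∧ a = 2) ∨ (p = 29 ∧ a = 14) ∨ (p = 59 ∧ a = 58) := by
  obtain ⟨t, ht⟩ := ha
  have ha0 : 0 < a := Nat.pos_of_ne_zero (by rintro rfl; rw [zero_mul] at ht; omega)
  have h3 : p ^ 2 - 1 = (p + 1) * (p - 1) := by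
    have := Nat.sq_sub_sq p 1
    simpa using this
  have h4 : p + 1 ∣ 120 := by
    rcases h with h | h
    · rw [h3, ht] at h
      have h5 : (p + 1) * t = 60 := by
        apply Nat.eq_of_mul_eq_mul_right ha0
        rw [← h]; ring
      exact Dvd.dvd.trans ⟨t, h5.symm⟩ (by norm_num)
    · rw [h3, ht] at h
      have h5 : (p + 1) * t = 120 := by
        apply Nat.eq_of_mul_eq_mul_right ha0
        rw [← h]; ring
      exact ⟨t, h5.symm⟩
  have h6 : p + 1 ∈ Nat.divisors 120 := Nat.mem_divisors.2 ⟨h4, by norm_num⟩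
  have h7 : Nat.divisors 120 = {1, 2, 3, 4, 5, 6, 8, 10, 12, 15, 20, 24, 30, 40, 60, 120} := by decide +kernel
  rw [h7] at h6
  simp only [Finset.mem_insert, Finset.mem_singleton] at h6
  have h8 : p = 7 ∨ p = 9 ∨ p = 11 ∨ p = 14 ∨ p = 19 ∨ p = 23 ∨ p = 29 ∨ p = 39 ∨ p = 59 ∨ p = 119 := by omega
  rcases h8 with rfl | rfl | rfl | rfl | rfl | rfl | rfl | rfl | rfl | rfl
  · norm_num at h120
  · norm_num at hp
  · norm_num at h; omega
  · norm_num at hp
  · norm_num at h; omega
  · norm_num at h120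
  · norm_num at h; omega
  · norm_num at hp
  · norm_num at h; omega
  · norm_num at hp

end Cfsg.Agent.H24.Zas
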