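import Mathlib
import Cfsg.Agent.H24_Zas30

/-! Non-solvable regular linear groups. -/

namespace Cfsg.Agent.H24.Zas

open Subgroup Cfsg

universe u v

section

variable {q : ℕ} [Fact q.Prime] {V : Type u} [AddCommGroup V] [Module (ZMod q) V] [Finite V]
  {G : Type v} [Group G] [Finite G] (ρ : G →* (V ≃ₗ[ZMod q] V))

theorem reg_repF [Nontrivial V] [Nontrivial G] (hreg : ∀ v : V, v ≠ 0 → ∀ g : G, ρ g v = v → g = 1) :
    ∃ (𝕜 : Type) (_ : Field 𝕜) (_ : IsAlgClosed 𝕜) (W : Type u) (_ : AddCommGroup W)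
      (_ : Module 𝕜 W) (_ : FiniteDimensional 𝕜 W) (σ : G →* Module.End 𝕜 W), RepF σ := by
  refine exists_repF (K := Multiplicative V) (H20.S61.act ρ) ?_
  intro g hg k hk
  by_contra hk1
  apply hg
  refine hreg k.toAdd (fun h => hk1 ?_) g ?_
  · rw [← ofAdd_toAdd k, h]; rfl
  · rw [H20.S61.act_apply] at hk
    exact congrArg Multiplicative.toAdd hk

/-- cardinality of the centralizer of `A` -/
theorem card_cent_le {z : G} {π : O3 G →* alternatingGroup (Fin 5)} (D : A5D z π) {A : Subgroup G}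
    (hAC : A ≤ centralizer (O3 G : Set G))
    (hself : ∀ x ∈ centralizer (O3 G : Set G), (∀ a ∈ A, x * a = a * x) → x ∈ A) (K : Subgroup G)
    (hK : ∀ x ∈ K, ∀ a ∈ A, x * a = a * x) : Nat.card K ≤ 120 * Nat.card A := by
  obtain ⟨F, hFk, hFr⟩ := D.exists_hom
  let f : K →* Equiv.Perm (Fin 5) := F.comp K.subtype
  have h1 := f.ker.card_mul_index
  rw [Subgroup.index_ker] at h1
  have h2 : Nat.card f.range ≤ 120 := by
    have := Subgroup.card_subgroup_dvd_card f.range
    have h3 : Nat.card (Equiv.Perm (Fin 5)) = 120 := by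
      rw [Nat.card_eq_fintype_card, Fintype.card_perm, Fintype.card_fin]; rfl
    rw [h3] at this
    exact Nat.le_of_dvd (by norm_num) this
  have h3 : Nat.card f.ker ≤ Nat.card A := by
    apply Nat.card_le_card_of_injective (fun x : f.ker => (⟨((x : K) : G), by
      apply hself
      · rw [← hFk]; exact x.2
      · exact hK _ x.1.2⟩ : A))
    intro x y hxy
    apply Subtype.ext
    apply Subtype.ext
    have hxy' := congrArg Subtype.val hxy
    exact hxy'
  rw [← h1, mul_comm]
  exact Nat.mul_le_mul h2 h3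

/-- the non-abelian subgroup `O3 G` -/
theorem A5D.noncomm {z : G} {π : O3 G →* alternatingGroup (Fin 5)} (D : A5D z π) :
    ∃ s t : O3 G, (s : G) * t ≠ t * s := by
  by_contra hcon
  push Not at hcon
  obtain ⟨α, hα, -, hα1⟩ := A5_ex5
  obtain ⟨s, hs⟩ := D.hs ⟨α, hα⟩
  apply hα1
  apply A5_center α hα
  intro β hβ
  obtain ⟨t, ht⟩ := D.hs ⟨β, hβ⟩
  have h1 : s * t = t * s := Subtype.ext (hcon s t)
  have h2 := congrArg (fun w => ((π w : alternatingGroup (Fin 5)) : Equiv.Perm (Fin 5))) h1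
  simp only [map_mul, hs, ht] at h2
  exact h2

theorem reg_main [Nontrivial V] (hρ : Function.Injective ρ) (hreg : ∀ v : V, v ≠ 0 → ∀ g : G, ρ g v = v → g = 1)
    (htrans : ∀ v w : V, v ≠ 0 → w ≠ 0 → ∃ g : G, ρ g v = w) (hns : ¬ Group.IsSolvable G) :
    (Nat.card V = 121 ∧ Nonempty (G ≃* Matrix.SpecialLinearGroup (Fin 2) (ZMod 5))) ∨
    (Nat.card V = 841 ∧ Nonempty (G ≃* Matrix.SpecialLinearGroup (Fin 2) (ZMod 5) × Multiplicative (ZMod 7))) ∨
    (Nat.card V = 3481 ∧ Nonempty (G ≃* Matrix.SpecialLinearGroup (Fin 2) (ZMod 5) × Multiplicative (ZMod 29))) := by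
  haveI : Nontrivial G := by
    by_contra h
    rw [not_nontrivial_iff_subsingleton] at h
    exact hns inferInstance
  obtain ⟨𝕜, _, _, W, _, _, _, σ, C⟩ := reg_repF ρ hreg
  have hc := C.cyc
  obtain ⟨z, z1, z2, hz, huniq, π, hs, hπ⟩ := C.dich.resolve_left hns
  have D : A5D z π := ⟨z1, z2, hz, huniq, hs, hπ⟩
  obtain ⟨A, hAn, hAC, hAcom, hzA, hself⟩ := D.exists_A hc
  have hn : ∀ g : G, ∀ a ∈ A, g * a * g⁻¹ ∈ A := fun g a ha => hAn.conj_mem a ha g
  obtain ⟨F, _, _, _, θ, hθ⟩ := H20.HomF.exists_field ρ hAcom hn htrans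
  obtain ⟨S, hS⟩ := H20.HomF.exists_sigma ρ θ hθ hn
  obtain ⟨d, -, hd⟩ := FiniteField.card F q
  obtain ⟨e, he, he0⟩ := H20.HomF.card_V θ
  have hAd : Nat.card A ∣ q ^ (d : ℕ) - 1 := by
    rw [← hd]; exact H20.HomF.card_A_dvd ρ hρ θ hθ
  have hG : Nat.card G = (q ^ (d : ℕ)) ^ e - 1 := by rw [H20.S61.card_G ρ hreg htrans, he, hd]
  have hidx : S.ker.index ∣ d := by
    rw [Subgroup.index_ker, ← H20.HomF.card_aut (q := q) (F := F) d hd]
    exact Subgroup.card_subgroup_dvd_card _
  have hkerS : ∀ x ∈ S.ker, ∀ a ∈ A, x * a = a * x := by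
    intro x hx
    rw [MonoidHom.mem_ker, H20.HomF.ker_sigma ρ hρ θ hθ hS] at hx
    exact hx
  have hle : Nat.card G ≤ 120 * d * Nat.card A := by
    rw [← S.ker.card_mul_index]
    have h1 := card_cent_le D hAC hself S.ker hkerS
    have h2 := Nat.le_of_dvd d.pos hidx
    calc Nat.card S.ker * S.ker.index ≤ (120 * Nat.card A) * d := Nat.mul_le_mul h1 h2
      _ = 120 * d * Nat.card A := by ring
  -- `e ≥ 2`
  have he2 : 2 ≤ e := by
    by_contra hcon
    have he1 : e = 1 := by omega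
    have hcard : Nat.card V = Fintype.card F := by rw [he, he1, pow_one]
    obtain ⟨s, t, hst⟩ := D.noncomm
    apply hst
    apply H20.HomF.comm_of_card ρ hρ θ hθ hcard
    · intro a ha
      exact mem_centralizer_iff.1 (hAC ha) s s.2
    · intro a ha
      exact mem_centralizer_iff.1 (hAC ha) t t.2
  obtain ⟨eO⟩ := D.equiv
  have hO : Nat.card (O3 G) = 120 := by rw [Nat.card_congr eO.toEquiv, card_SL25]
  have h120 : 120 ∣ Nat.card G := by rw [← hO]; exact Subgroup.card_subgroup_dvd_card _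
  obtain ⟨M, hMC, hMz, hMcyc, hM30⟩ := D.exists_M hc
  have hcC := D.card_M hMz hM30
  have hACd : Nat.card A ∣ 2 * Nat.card M := by rw [← hcC]; exact Subgroup.card_dvd_of_le hAC
  have hM2 : ¬ 2 ∣ Nat.card M := fun h => by
    have := Nat.Coprime.eq_one_of_dvd (Nat.Coprime.coprime_dvd_left h hM30) (by norm_num)
    omega
  have hM3 : ¬ 3 ∣ Nat.card M := fun h => by
    have := Nat.Coprime.eq_one_of_dvd (Nat.Coprime.coprime_dvd_left h hM30) (by norm_num)
    omega
  have hM5 : ¬ 5 ∣ Nat.card M := fun h => by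
    have := Nat.Coprime.eq_one_of_dvd (Nat.Coprime.coprime_dvd_left h hM30) (by norm_num)
    omega
  have hA4 : ¬ 4 ∣ Nat.card A := fun h => by
    have := h.trans hACd
    omega
  have hA3 : ¬ 3 ∣ Nat.card A := fun h => by
    have := h.trans hACd
    omega
  have hA5 : ¬ 5 ∣ Nat.card A := fun h => by
    have := h.trans hACd
    omega
  have hoz : orderOf z = 2 := by
    haveI : Fact (Nat.Prime 2) := ⟨Nat.prime_two⟩
    exact orderOf_eq_prime (by rw [pow_two, D.z2]) D.z1
  have hA2 : 2 ∣ Nat.card A := by rw [← hoz]; exact Subgroup.orderOf_dvd_natCard A hzA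
  rw [hG] at hle h120
  obtain ⟨hd1, he2', hq7, hq119⟩ := num1 (Fact.out : q.Prime) d.pos he2 hAd hle h120 hA4 hA3 hA5
  -- `A` is central and equal to the centralizer
  have hSk : S.ker = ⊤ := by
    rw [hd1, Nat.dvd_one] at hidx
    exact Subgroup.index_eq_one.1 hidx
  have hAeq : A = centralizer (O3 G : Set G) := by
    apply le_antisymm hAC
    intro x hx
    exact hself x hx (hkerS x (by rw [hSk]; trivial))
  obtain ⟨Φ, hΦk, hΦr⟩ := D.exists_hom
  have hcardG : Nat.card G = Nat.card A * Nat.card Φ.range := by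
    rw [← Φ.ker.card_mul_index, Subgroup.index_ker, hΦk, hAeq]
  have hr : Nat.card Φ.range = 60 ∨ Nat.card Φ.range = 120 := by
    have h1 : Nat.card (alternatingGroup (Fin 5)) = 60 := by
      rw [nat_card_alternatingGroup]; simp [Nat.factorial]
    have h2 := Subgroup.card_dvd_of_le hΦr
    rw [h1] at h2
    have h3 := Subgroup.card_subgroup_dvd_card Φ.range
    have h4 : Nat.card (Equiv.Perm (Fin 5)) = 120 := by
      rw [Nat.card_eq_fintype_card, Fintype.card_perm, Fintype.card_fin]; rfl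
    rw [h4] at h3
    obtain ⟨k, hk⟩ := h2
    rw [hk] at h3 ⊢
    obtain ⟨l, hl⟩ := h3
    have h5 : k * l = 2 := by
      have : 60 * (k * l) = 60 * 2 := by rw [← mul_assoc, ← hl]
      omega
    have h6 : k ∣ 2 := ⟨l, h5.symm⟩
    have h7 := (Nat.dvd_prime Nat.prime_two).1 h6
    omega
  rw [hd1, he2', pow_one] at hG
  rw [hd1, he2', pow_one] at h120
  rw [hd1, pow_one] at hAd
  have hnum := num2 (Fact.out : q.Prime) hq7 hq119 hAd h120 hA2 hA4 hA3 (by
    rw [← hG, hcardG]
    rcases hr with h | h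
    · left; rw [h, mul_comm]
    · right; rw [h, mul_comm])
  have hVc : Nat.card V = q ^ 2 := by rw [he, hd, hd1, he2', pow_one]
  -- the isomorphism
  have hMA : M ≤ A := by rw [hAeq]; exact hMC
  have hAc : Nat.card A = 2 * Nat.card M := by rw [hAeq, hcC]
  have hMcy : IsCyclic M := by
    apply isCyclic_of_cyc_comm (hc.sub M)
    intro a b
    exact Subtype.ext (hAcom a (hMA a.2) b (hMA b.2))
  have hiso : ∀ c : ℕ, Nat.card M = c → Nat.card G = 120 * c →
      Nonempty (G ≃* Matrix.SpecialLinearGroup (Fin 2) (ZMod 5) × Multiplicative (ZMod c)) := by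
    intro c hMc hGc
    have e1 : Nonempty (M ≃* Multiplicative (ZMod c)) := by
      refine ⟨mulEquivOfCyclicCardEq ?_⟩
      rw [hMc, Nat.card_congr Multiplicative.toAdd, Nat.card_zmod]
    obtain ⟨e1⟩ := e1
    have hcom : ∀ (s : O3 G) (m : M), (s : G) * m = m * s := fun s m =>
      mem_centralizer_iff.1 (hMC m.2) s s.2
    let f : O3 G × M →* G :=
      { toFun := fun w => w.1 * w.2
        map_one' := by simp
        map_mul' := by
          rintro ⟨s, m⟩ ⟨s', m'⟩
          change ((s : G) * s') * ((m : G) * m') = (s * m) * (s' * m')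
          rw [mul_assoc, ← mul_assoc (s' : G), hcom s' m]
          simp only [mul_assoc] }
    have hf : Function.Injective f := by
      rw [injective_iff_map_eq_one]
      rintro ⟨s, m⟩ h
      have h' : (s : G) * m = 1 := h
      have h1 : (s : G) = (m : G)⁻¹ := mul_eq_one_iff_eq_inv.1 h'
      have h2 : (s : G) ∈ centralizer (O3 G : Set G) := by rw [h1]; exact inv_mem (hMC m.2)
      have hm1 : (m : G) = 1 := by
        rcases (D.cent_inf s.2).1 h2 with h3 | h3
        · rw [h3] at h'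
          simpa using h'
        · exfalso
          have h4 : (m : G) = z := by
            rw [h3] at h1
            rw [← inv_inj, ← h1]
            exact (inv_eq_of_mul_eq_one_left z2).symm
          apply hM2
          rw [← hoz, ← h4]
          exact Subgroup.orderOf_dvd_natCard M m.2
      have hs1 : (s : G) = 1 := by rw [h1, hm1, inv_one]
      exact Prod.ext (Subtype.ext hs1) (Subtype.ext hm1)
    have hb : Function.Bijective f := by
      rw [Nat.bijective_iff_injective_and_card]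
      refine ⟨hf, ?_⟩
      rw [Nat.card_prod, hO, hMc, hGc]
    exact ⟨(MulEquiv.ofBijective f hb).symm.trans (MulEquiv.prodCongr eO e1)⟩
  rcases hnum with ⟨h1, h2⟩ | ⟨h1, h2⟩ | ⟨h1, h2⟩
  · left
    have hMc : Nat.card M = 1 := by omega
    refine ⟨by rw [hVc, h1]; norm_num, ?_⟩
    obtain ⟨e⟩ := hiso 1 hMc (by rw [hG, h1]; norm_num)
    haveI : Unique (Multiplicative (ZMod 1)) := ⟨⟨1⟩, fun x => Subsingleton.elim _ _⟩
    exact ⟨e.trans MulEquiv.prodUnique⟩
  · right; left
    have hMc : Nat.card M = 7 := by omega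
    refine ⟨by rw [hVc, h1]; norm_num, hiso 7 hMc (by rw [hG, h1]; norm_num)⟩
  · right; right
    have hMc : Nat.card M = 29 := by omega
    refine ⟨by rw [hVc, h1]; norm_num, hiso 29 hMc (by rw [hG, h1]; norm_num)⟩

end

end Cfsg.Agent.H24.Zas
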