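import Mathlib
import Cfsg.Agent.H24_Tools
import Cfsg.Agent.H1_Subn2

set_option autoImplicit false

namespace Cfsg.Agent.H24.Zipper

open Subgroup
open scoped Pointwise

variable {G : Type*} [Group G]

/-- the zipper lemma: if `A` is subnormal in every proper subgroup containing it but not in `G`,
there is only one maximal subgroup of `G` containing `A`. -/
theorem zipper [Finite G] (A : Subgroup G)
    (h : ∀ H : Subgroup G, H ≠ ⊤ → A ≤ H → (A.subgroupOf H).IsSubnormal) (hA : ¬ A.IsSubnormal) :
    ∃ M : Subgroup G, IsCoatom M ∧ A ≤ M ∧ ∀ K : Subgroup G, IsCoatom K → A ≤ K → K = M := by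
  induction' hn : A.index using Nat.strong_induction_on with n ih generalizing A
  subst hn
  have hAn : ¬ A.Normal := fun h => hA h.isSubnormal
  have hN : normalizer (A : Set G) ≠ ⊤ := fun h => hAn (normalizer_eq_top_iff.mp h)
  obtain ⟨M, hM, hNM⟩ := Tools.exists_coatom_ge hN
  refine ⟨M, hM, le_normalizer.trans hNM, fun K hK hAK => ?_⟩
  have hsn := h K hK.1 hAK
  have hcm : ∀ K' : Subgroup G, IsCoatom K' → K' ≤ M → K' = M := by
    intro K' hK' hle
    by_contra hne
    exact hM.1 (hK'.2 M (lt_of_le_of_ne hle hne))
  rcases Cfsg.Agent.H1.Subn.exists_conj_le_normalizer hsn with h1 | ⟨g, hg1, hg2⟩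
  · apply hcm K hK
    refine le_trans ?_ hNM
    exact (normal_subgroupOf_iff_le_normalizer hAK).mp h1
  · set B : Subgroup G := MulAut.conj (g : G) • A with hB
    have hBK : B ≤ K := by
      intro x hx
      rw [hB, Tools.mem_conj] at hx
      have h2 := K.mul_mem (K.mul_mem g.2 (hAK hx)) (K.inv_mem g.2)
      have e : (g : G) * ((g : G)⁻¹ * x * g) * (g : G)⁻¹ = x := by group
      rwa [e] at h2
    have hBN : B ≤ normalizer (A : Set G) := by
      intro x hx
      have hxK : x ∈ K := hBK hx
      have h2 : (⟨x, hxK⟩ : K) ∈ MulAut.conj g • (A.subgroupOf K) := by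
        rw [Tools.mem_conj, mem_subgroupOf]
        rw [hB, Tools.mem_conj] at hx
        exact hx
      have h3 := hg1 h2
      rw [← subgroupOf_normalizer_eq hAK, mem_subgroupOf] at h3
      exact h3
    have hBA : B ≠ A := by
      intro h2
      apply hg2
      ext x
      rw [Tools.mem_conj, mem_subgroupOf, mem_subgroupOf]
      have : (x : G) ∈ B ↔ (x : G) ∈ A := by rw [h2]
      rw [← this, hB, Tools.mem_conj]
      rfl
    set T := A ⊔ B with hT
    have hTN : T ≤ normalizer (A : Set G) := sup_le le_normalizer hBN
    have hAT : A < T := by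
      refine lt_of_le_of_ne le_sup_left (fun h2 => hBA ?_)
      have h3 : B ≤ A := by rw [h2]; exact le_sup_right
      apply le_antisymm h3
      have h4 : B = A := by
        haveI := Fintype.ofFinite G
        apply eq_of_le_of_card_ge h3
        rw [hB]
        exact le_of_eq (Nat.card_congr (Subgroup.equivSMul (MulAut.conj (g : G)) A).toEquiv)
      exact h4.ge
    have hidx : T.index < A.index := by
      have h2 := relIndex_mul_index hAT.le
      have h3 : 1 < A.relIndex T := by
        have h4 : A.relIndex T ≠ 1 := fun h4 => hAT.not_ge (relIndex_eq_one.mp h4)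
        have h5 : A.relIndex T ≠ 0 := fun h5 => by
          rw [h5, zero_mul] at h2
          exact index_ne_zero_of_finite h2.symm
        omega
      have h4 : 0 < T.index := Nat.pos_of_ne_zero index_ne_zero_of_finite
      nlinarith
    have hTsn : ∀ H : Subgroup G, H ≠ ⊤ → T ≤ H → (T.subgroupOf H).IsSubnormal := by
      intro X hX hTX
      have hAX : A ≤ X := hAT.le.trans hTX
      have hBX : B ≤ X := le_sup_right.trans hTX
      have e : T.subgroupOf X = A.subgroupOf X ⊔ B.subgroupOf X := subgroupOf_sup hAX hBX
      rw [e]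
      apply Cfsg.Agent.H1.Subn.sup_subnormal (h X hX hAX)
      set X' : Subgroup G := MulAut.conj (g : G)⁻¹ • X with hX'
      have hXX : MulAut.conj (g : G) • X' = X := by
        rw [hX', map_inv, smul_inv_smul]
      have hX't : X' ≠ ⊤ := by
        intro h2
        apply hX
        rw [← hXX, h2]
        ext x
        rw [Tools.mem_conj]
        exact ⟨fun _ => mem_top _, fun _ => mem_top _⟩
      have hAX' : A ≤ X' := by
        intro x hx
        rw [hX', Tools.mem_conj, inv_inv]
        apply hBX
        rw [hB, Tools.mem_conj]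
        have e : (g : G)⁻¹ * (g * x * (g : G)⁻¹) * g = x := by group
        rw [e]; exact hx
      have h2 := Cfsg.Agent.H1.Subn.subnormal_subgroupOf_conj (h X' hX't hAX') (g : G)
      rw [hXX] at h2
      exact h2
    have hTns : ¬ T.IsSubnormal := by
      intro h2
      apply hA
      apply IsSubnormal.trans hAT.le _ h2
      exact ((normal_subgroupOf_iff_le_normalizer hAT.le).mpr hTN).isSubnormal
    obtain ⟨M', hM', -, huniq⟩ := ih T.index hidx T hTsn hTns rfl
    rw [huniq K hK (sup_le hAK hBK), huniq M hM (hTN.trans hNM)]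

end Cfsg.Agent.H24.Zipper
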