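import Cfsg.Agent.H25_Dom
import Cfsg.Agent.H10_BlockMain

/-! Defect groups and domination of blocks. -/

open scoped ComplexConjugate

namespace Cfsg.Agent.H25.Dom2

open Cfsg Cfsg.Agent.H3 Cfsg.Agent.H3.CharBasic Cfsg.Agent.H3.CharIrr Cfsg.Agent.H3.CharComplete
  Cfsg.Agent.H10.Char Cfsg.Agent.H10.BlockLoc Cfsg.Agent.H10.BlockAlg Cfsg.Agent.H10.BlockIdem
  Cfsg.Agent.H10.BlockOrth Cfsg.Agent.H10.BlockHZ Cfsg.Agent.H10.BlockInd Cfsg.Agent.H10.PPart
  Cfsg.Agent.H10.BlockSMT Cfsg.Agent.H10.BlockSMT2 Cfsg.Agent.H10.BlockPrin Cfsg.Agent.H10.BlockDefect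
  Cfsg.Agent.H10.RegPart Cfsg.Agent.H10.BlockQuot Cfsg.Agent.H10.BlockKer Cfsg.Agent.H10.BlockNormal
  Cfsg.Agent.H10.BlockMain
  Cfsg.Agent.H25.BlockReg Cfsg.Agent.H25.BlockReg2 Cfsg.Agent.H25.BlockReg3 Cfsg.Agent.H25.IndCong
  Cfsg.Agent.H25.Sub Cfsg.Agent.H25.Dom

variable {p : ℕ} {M : Ideal AlgInt}

section
variable {G : Type*} [Group G] [Fintype G] [hp : Fact p.Prime] (N : Subgroup G) [hN : N.Normal]
  [Fintype (G ⧸ N)]

theorem om_cs_eq (χ : IrrCharacter G) (g : G) :
    om χ (cs g) = ((Subgroup.centralizer ({g} : Set G)).index : ℂ) * (χ : G → ℂ) g / (χ : G → ℂ) 1 := by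
  rw [om_cs]; rfl

/-- the ratio of class lengths -/
noncomputable def rr (g : G) : ℕ := (Subgroup.centralizer ({g} : Set G)).relIndex
  ((Subgroup.centralizer ({(QuotientGroup.mk g : G ⧸ N)} : Set (G ⧸ N))).comap (QuotientGroup.mk' N))

theorem cent_le (g : G) : Subgroup.centralizer ({g} : Set G) ≤
    (Subgroup.centralizer ({(QuotientGroup.mk g : G ⧸ N)} : Set (G ⧸ N))).comap
      (QuotientGroup.mk' N) := by
  intro x hx
  rw [Subgroup.mem_comap, Subgroup.mem_centralizer_singleton_iff]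
  rw [Subgroup.mem_centralizer_singleton_iff] at hx
  rw [QuotientGroup.mk'_apply, ← QuotientGroup.mk_mul, hx, QuotientGroup.mk_mul]

theorem rr_index (g : G) : (Subgroup.centralizer ({g} : Set G)).index = rr N g *
    (Subgroup.centralizer ({(QuotientGroup.mk g : G ⧸ N)} : Set (G ⧸ N))).index := by
  rw [rr, ← Subgroup.relIndex_mul_index (cent_le N g),
    Subgroup.index_comap_of_surjective _ (QuotientGroup.mk'_surjective N)]

theorem om_infl (φ : IrrCharacter (G ⧸ N)) (g : G) : om (infl N φ) (cs g) =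
    (rr N g : ℂ) * om φ (cs (QuotientGroup.mk g : G ⧸ N)) := by
  rw [om_cs_eq, om_cs_eq, rr_index N g, infl_apply, infl_apply, QuotientGroup.mk_one]
  push_cast
  ring

theorem unit_of_infl (hM : IsPModular p M) {φ : IrrCharacter (G ⧸ N)} {g : G}
    (h : ¬ MemLocalIdeal M (om (infl N φ) (cs g))) :
    ¬ MemLocalIdeal M (om φ (cs (QuotientGroup.mk g : G ⧸ N))) ∧ ¬ p ∣ rr N g := by
  haveI := hM.2.1
  rw [om_infl] at h
  constructor
  · intro h1
    exact h (ideal_mul_left (ring_natCast _) h1)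
  · intro h1
    apply h
    refine ideal_mul_right ?_ (om_cs_mem φ _)
    exact (ideal_natCast_iff hM _).2 h1

theorem card_cent (g : G) :
    Nat.card N * Nat.card (Subgroup.centralizer ({(QuotientGroup.mk g : G ⧸ N)} : Set (G ⧸ N))) =
    Nat.card (Subgroup.centralizer ({g} : Set G)) * rr N g := by
  have h1 := (Subgroup.centralizer ({g} : Set G)).card_mul_index
  have h2 := (Subgroup.centralizer ({(QuotientGroup.mk g : G ⧸ N)} : Set (G ⧸ N))).card_mul_index
  have h3 := Subgroup.card_eq_card_quotient_mul_card_subgroup N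
  rw [← h2] at h3
  rw [← h1, rr_index N g] at h3
  have h4 : (Subgroup.centralizer ({(QuotientGroup.mk g : G ⧸ N)} : Set (G ⧸ N))).index ≠ 0 :=
    Subgroup.index_ne_zero_of_finite
  apply Nat.eq_of_mul_eq_mul_right (Nat.pos_of_ne_zero h4)
  rw [mul_assoc _ (rr N g), h3]
  ring

theorem map_isCSyl {g : G} (hr : ¬ p ∣ rr N g) {P : Subgroup G} (hP : IsCSyl p g P) :
    IsCSyl p (QuotientGroup.mk g : G ⧸ N) (P.map (QuotientGroup.mk' N)) := by
  have hPp : IsPGroup p (P.map (QuotientGroup.mk' N)) := hP.isPGroup.map _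
  have h1 : (QuotientGroup.mk g : G ⧸ N) ∈
      Subgroup.centralizer ((P.map (QuotientGroup.mk' N) : Subgroup (G ⧸ N)) : Set (G ⧸ N)) := by
    rw [Subgroup.mem_centralizer_iff]
    rintro _ ⟨x, hx, rfl⟩
    have h2 := (Subgroup.mem_centralizer_iff.1 hP.mem_centralizer) x hx
    rw [QuotientGroup.mk'_apply, ← QuotientGroup.mk_mul, h2, QuotientGroup.mk_mul]
  obtain ⟨D, hD, hle⟩ := exists_isCSyl_of_le hPp h1
  have h2 : P.map (QuotientGroup.mk' N) = D := by
    refine eq_of_le_card hle ?_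
    have h3 := hD.card
    have h4 := hP.card
    have h5 := card_cent N g
    have h6 : (Nat.card N).factorization p +
        (Nat.card (Subgroup.centralizer ({(QuotientGroup.mk g : G ⧸ N)} : Set (G ⧸ N)))).factorization p =
        (Nat.card (Subgroup.centralizer ({g} : Set G))).factorization p := by
      have h7 := congrArg (fun n => n.factorization p) h5
      have hr0 : rr N g ≠ 0 := by rintro h; exact hr (h ▸ dvd_zero p)
      simp only [Nat.factorization_mul Nat.card_pos.ne' Nat.card_pos.ne',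
        Nat.factorization_mul Nat.card_pos.ne' hr0, Finsupp.add_apply] at h7
      rw [Nat.factorization_eq_zero_of_not_dvd hr] at h7
      exact h7
    have h7 : Nat.card P ∣ Nat.card (P.map (QuotientGroup.mk' N)) * p ^ (Nat.card N).factorization p := by
      have h8 : Nat.card P = Nat.card (P.map (QuotientGroup.mk' N)) *
          Nat.card (((QuotientGroup.mk' N).comp P.subtype).ker) := by
        have h9 := Subgroup.card_eq_card_quotient_mul_card_subgroup ((QuotientGroup.mk' N).comp P.subtype).ker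
        rw [h9]
        congr 1
        rw [Nat.card_congr (QuotientGroup.quotientKerEquivRange ((QuotientGroup.mk' N).comp P.subtype)).toEquiv]
        rw [MonoidHom.range_comp, Subgroup.range_subtype]
      have h9 : Nat.card (((QuotientGroup.mk' N).comp P.subtype).ker) ∣ Nat.card N := by
        have h10 : (((QuotientGroup.mk' N).comp P.subtype).ker).map P.subtype ≤ N := by
          rintro _ ⟨x, hx, rfl⟩
          exact (QuotientGroup.eq_one_iff _).1 hx
        have h11 := Subgroup.card_dvd_of_le h10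
        rwa [Subgroup.card_map_of_injective P.subtype_injective] at h11
      have h10 : ∃ k, Nat.card (((QuotientGroup.mk' N).comp P.subtype).ker) = p ^ k :=
        (hP.isPGroup.to_subgroup _).exists_card_eq
      obtain ⟨k, hk⟩ := h10
      rw [h8]
      refine mul_dvd_mul_left _ ?_
      rw [hk] at h9 ⊢
      exact pow_dvd_pow p ((hp.out.pow_dvd_iff_le_factorization Nat.card_pos.ne').1 h9)
    obtain ⟨k, hk⟩ := hPp.exists_card_eq
    rw [h3, hk]
    rw [h4, hk, ← pow_add, ← h6] at h7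
    have h8 := (Nat.pow_dvd_pow_iff_le_right hp.out.one_lt).1 h7
    exact Nat.pow_le_pow_right hp.out.pos (by omega)
  rw [h2]; exact hD

theorem map_conj (P : Subgroup G) (x : G) : (P.map (MulAut.conj x).toMonoidHom).map (QuotientGroup.mk' N) =
    (P.map (QuotientGroup.mk' N)).map (MulAut.conj (QuotientGroup.mk x : G ⧸ N)).toMonoidHom := by
  rw [Subgroup.map_map, Subgroup.map_map]
  congr 1

theorem dominated_le (hM : IsPModular p M) {Bbar : Set (IrrCharacter (G ⧸ N))} (hBbar : IsPBlock M Bbar)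
    {B : Set (IrrCharacter G)} (hB : IsPBlock M B) (hsub : ∀ φ ∈ Bbar, infl N φ ∈ B)
    {Dbar : Subgroup (G ⧸ N)} (hDbar : IsDefectGroup p M Bbar Dbar) :
    ∃ P : Subgroup G, IsDefectGroup p M B P ∧ Dbar ≤ P.map (QuotientGroup.mk' N) := by
  haveI := hM.2.1
  obtain ⟨P, hP⟩ := exists_defectGroup (p := p) hB
  obtain ⟨g, hg, hPg⟩ := isDefectGroup_iff.1 hP
  obtain ⟨φ, hφ⟩ := block_nonempty hBbar
  obtain ⟨h1, h2⟩ := unit_of_infl N hM (((isDefectClass_iff hB).1 hg).2 _ (hsub φ hφ))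
  obtain ⟨h', hc, hcen⟩ := defect_centralizes hM hBbar hDbar hφ h1
  obtain ⟨x, hx⟩ := le_conj_of_centralizes hc (map_isCSyl N h2 hPg) (IsDefectGroup.isPGroup' hDbar) hcen
  obtain ⟨t, rfl⟩ := QuotientGroup.mk_surjective x
  refine ⟨_, isDefectGroup_conj hP t, ?_⟩
  rw [map_conj]; exact hx

open Classical in
theorem push_eB (B : Set (IrrCharacter G)) [Fintype (IrrCharacter G)] [Fintype (IrrCharacter (G ⧸ N))] :
    pushZ N (eB B) = eB (Bb N B) := by
  apply eq_eB
  intro χ
  rw [om_pushZ, om_eB]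
  rfl

theorem exists_dominated (hM : IsPModular p M) (hNp : IsPGroup p N) {B : Set (IrrCharacter G)}
    (hB : IsPBlock M B) : ∃ Bbar : Set (IrrCharacter (G ⧸ N)), IsPBlock M Bbar ∧
      (∀ φ ∈ Bbar, infl N φ ∈ B) ∧ ∀ Dbar : Subgroup (G ⧸ N), IsDefectGroup p M Bbar Dbar ↔
        ∃ P : Subgroup G, IsDefectGroup p M B P ∧ Dbar = P.map (QuotientGroup.mk' N) := by
  classical
  haveI := hM.2.1
  haveI : Fintype (IrrCharacter G) := Fintype.ofFinite _
  haveI : Fintype (IrrCharacter (G ⧸ N)) := Fintype.ofFinite _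
  obtain ⟨P, hP⟩ := exists_defectGroup (p := p) hB
  obtain ⟨g, hg, hPg⟩ := isDefectGroup_iff.1 hP
  have hNP : N ≤ P := normal_le_defectGroup hM hB hP N hNp
  have hreg := defectClass_regular hM hB hg
  obtain ⟨hg1, hg2⟩ := (isDefectClass_iff hB).1 hg
  -- the coefficient
  have h1 : (eB (Bb N B) : MonoidAlgebra ℂ (G ⧸ N)).coeff (QuotientGroup.mk g) = blockCoeff B g := by
    rw [← push_eB, pushZ_coeff, Finset.sum_eq_single g]
    · rw [if_pos rfl]; rfl
    · intro b _ hb
      split_ifs with h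
      · have h3 : b * g⁻¹ ∈ N := by
          have h4 := QuotientGroup.eq.1 h
          have h5 := hN.conj_mem _ (N.inv_mem h4) b
          have h6 : b * (b⁻¹ * g)⁻¹ * b⁻¹ = b * g⁻¹ := by group
          rwa [h6] at h5
        show blockCoeff B b = 0
        apply blockCoeff_eq_zero hM hB
        by_contra hbr
        have h4 : Commute (b * g⁻¹) g := by
          have := (Subgroup.mem_centralizer_iff.1 hPg.mem_centralizer) _ (hNP h3)
          exact this
        have h5 : ppr p (b * g⁻¹ * g) = g := ppr_eq h4 (by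
          obtain ⟨k, hk⟩ := hNp ⟨_, h3⟩
          obtain ⟨i, -, hi⟩ := (Nat.dvd_prime_pow hp.out).1 (orderOf_dvd_of_pow_eq_one (congrArg Subtype.val hk))
          exact ⟨i, hi⟩) hreg
        rw [inv_mul_cancel_right, ppr_regular hbr] at h5
        exact hb h5
      · rfl
    · intro h; exact absurd (Finset.mem_univ _) h
  have h2 : eB (Bb N B) = ∑ b ∈ (blocks (G ⧸ N) M).filter (fun b => b ⊆ Bb N B), eB b := by
    symm
    apply eq_eB
    intro χ
    rw [map_sum, Finset.sum_congr rfl fun b _ => om_eB b χ, Finset.sum_ite, Finset.sum_const_zero,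
      add_zero, Finset.sum_const, nsmul_eq_mul, mul_one]
    by_cases h : χ ∈ Bb N B
    · rw [if_pos h]
      have h3 : ((blocks (G ⧸ N) M).filter (fun b => b ⊆ Bb N B)).filter (fun b => χ ∈ b) =
          {blockOf M (χ : G ⧸ N → ℂ)} := by
        ext b
        rw [Finset.mem_filter, Finset.mem_filter, mem_blocks, Finset.mem_singleton]
        constructor
        · rintro ⟨⟨hb, -⟩, hχ⟩
          exact block_eq_blockOf hb hχ
        · rintro rfl
          refine ⟨⟨isPBlock_blockOf χ, ?_⟩, mem_blockOf_self χ⟩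
          intro ψ hψ
          exact block_mem_of_sameBlock hB h (sameBlock_infl N hψ)
      rw [h3, Finset.card_singleton, Nat.cast_one]
    · rw [if_neg h]
      rw [Finset.filter_eq_empty_iff.2, Finset.card_empty, Nat.cast_zero]
      intro b hb hχ
      exact h ((Finset.mem_filter.1 hb).2 hχ)
  have h3 : ∃ b ∈ (blocks (G ⧸ N) M).filter (fun b => b ⊆ Bb N B),
      ¬ MemLocalIdeal M (blockCoeff b (QuotientGroup.mk g : G ⧸ N)) := by
    by_contra hcon
    push Not at hcon
    apply hg1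
    rw [← h1, h2, AddSubmonoidClass.coe_finset_sum]
    have h4 : (∑ b ∈ (blocks (G ⧸ N) M).filter (fun b => b ⊆ Bb N B),
        ((eB b : ZC (G ⧸ N)) : MonoidAlgebra ℂ (G ⧸ N))).coeff (QuotientGroup.mk g) =
        ∑ b ∈ (blocks (G ⧸ N) M).filter (fun b => b ⊆ Bb N B),
          blockCoeff b (QuotientGroup.mk g : G ⧸ N) := by
      rw [MonoidAlgebra.coeff_sum, Finsupp.finset_sum_apply]
      rfl
    rw [h4]
    exact ideal_sum _ _ hcon
  obtain ⟨b, hb, hbg⟩ := h3
  rw [Finset.mem_filter, mem_blocks] at hb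
  obtain ⟨φ, hφ⟩ := block_nonempty hb.1
  have h4 : IsDefectClass M b (QuotientGroup.mk g : G ⧸ N) := by
    rw [isDefectClass_iff hb.1]
    refine ⟨hbg, fun ψ hψ => ?_⟩
    exact (unit_of_infl N hM (hg2 _ (hb.2 hψ))).1
  have h5 := (unit_of_infl N hM (hg2 _ (hb.2 hφ))).2
  have h6 : IsDefectGroup p M b (P.map (QuotientGroup.mk' N)) :=
    isDefectGroup_iff.2 ⟨_, h4, map_isCSyl N h5 hPg⟩
  refine ⟨b, hb.1, hb.2, fun Dbar => ⟨fun h => ?_, ?_⟩⟩
  · obtain ⟨x, hx⟩ := defectGroup_conj hM hb.1 h6 h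
    obtain ⟨t, rfl⟩ := QuotientGroup.mk_surjective x
    exact ⟨_, isDefectGroup_conj hP t, by rw [map_conj]; exact hx⟩
  · rintro ⟨Q, hQ, rfl⟩
    obtain ⟨x, rfl⟩ := defectGroup_conj hM hB hP hQ
    rw [map_conj]
    exact isDefectGroup_conj h6 _

end

end Cfsg.Agent.H25.Dom2
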