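import Mathlib
import Cfsg.Prelude.Def_Blocks
import Cfsg.Agent.H25_Red

/-!
# Blocks of characters correspond to primitive central idempotents of `kH`.
-/

set_option autoImplicit false
set_option linter.unusedSectionVars false
set_option linter.style.haveILetI false

namespace Cfsg.Agent.H25.Red

open Cfsg Cfsg.Agent.H10.BlockLoc Cfsg.Agent.H10.BlockAlg Cfsg.Agent.H10.BlockIdem
  Cfsg.Agent.H10.BlockSMT2 Cfsg.Agent.H3.CharIrr
open scoped ComplexConjugate

variable {M : Ideal AlgInt} [hMax : M.IsMaximal]

section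

variable {H G : Type*} [Group H] [Fintype H] [Group G] [Fintype G] {i : H →* G}

theorem omI_mem (χ : IrrCharacter H) (z : ZI H M) : MemLocalRing M (omI χ z) := om_mem χ z.2

theorem eps_idem (hi : Function.Injective i) {b : Set (IrrCharacter H)} (hb : IsPBlock M b) :
    eps (M := M) i b * eps i b = eps i b := by
  classical
  have h1 : eI hb * eI hb = eI hb := by
    apply ext_omI; intro φ
    rw [map_mul, omI_eI]
    split_ifs <;> simp
  rw [eps_eq hi hb]
  have := congrArg (emb i hi) h1
  rwa [map_mul] at this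

theorem eps_mul (hi : Function.Injective i) {b b' : Set (IrrCharacter H)} (hb : IsPBlock M b)
    (hb' : IsPBlock M b') (hne : b ≠ b') : eps (M := M) i b * eps i b' = 0 := by
  classical
  have h1 : eI hb * eI hb' = 0 := by
    apply ext_omI; intro φ
    rw [map_mul, omI_eI, omI_eI, map_zero]
    split_ifs with h h'
    · exact absurd (block_eq_of_mem hb hb' h h') hne
    · simp
    · simp
    · simp
  rw [eps_eq hi hb, eps_eq hi hb']
  have := congrArg (emb i hi) h1
  rwa [map_mul, map_zero] at this

theorem eps_mem (hi : Function.Injective i) {b : Set (IrrCharacter H)} (hb : IsPBlock M b) :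
    eps (M := M) i b ∈ KG.Z i.range := by
  rw [eps_eq hi hb]; exact emb_mem hi _

theorem sum_eps (hi : Function.Injective i) : ∑ b ∈ blocks H M, eps (M := M) i b = 1 := by
  classical
  have h1 : ∑ b ∈ (blocks H M).attach, eI (mem_blocks.1 b.2) = (1 : ZI H M) := by
    apply ext_omI; intro φ
    rw [map_sum, map_one, Finset.sum_eq_single ⟨blockOf M (φ : H → ℂ), mem_blocks.2 (isPBlock_blockOf φ)⟩]
    · rw [omI_eI, if_pos (mem_blockOf_self φ)]
    · intro b _ hne
      rw [omI_eI, if_neg]
      intro h
      apply hne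
      exact Subtype.ext (block_eq_of_mem (mem_blocks.1 b.2) (isPBlock_blockOf φ) h (mem_blockOf_self φ))
    · intro h; exact absurd (Finset.mem_attach _ _) h
  have h2 := congrArg (emb i hi) h1
  rw [map_sum, map_one] at h2
  rw [← h2, ← Finset.sum_attach]
  refine Finset.sum_congr rfl fun b _ => ?_
  rw [eps_eq hi (mem_blocks.1 b.2)]; rfl

/-- if the central character vanishes then nilpotent on the block -/
theorem pow_mul_eps (hi : Function.Injective i) {b : Set (IrrCharacter H)} (hb : IsPBlock M b) (z : ZI H M)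
    {χ : IrrCharacter H} (hχ : χ ∈ b) (h : MemLocalIdeal M (omI χ z)) : ∃ n : ℕ,
    (emb i hi z) ^ n * eps (M := M) i b = 0 := by
  obtain ⟨n, hn⟩ := pow_sub_mul hi hb z hχ
  rw [(rd_eq_zero_iff (omI_mem χ z)).2 h, map_zero, sub_zero] at hn
  exact ⟨n, hn⟩

theorem idem_mul_eps (hi : Function.Injective i) {b : Set (IrrCharacter H)} (hb : IsPBlock M b) (z : ZI H M)
    {χ : IrrCharacter H} (hχ : χ ∈ b) (h : MemLocalIdeal M (omI χ z))
    (hz : emb i hi z * emb i hi z = emb i hi z) : emb i hi z * eps (M := M) i b = 0 := by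
  obtain ⟨n, hn⟩ := pow_mul_eps hi hb z hχ h
  have h1 : ∀ m : ℕ, emb i hi z * emb i hi z ^ m = emb i hi z := by
    intro m
    induction m with
    | zero => rw [pow_zero, mul_one]
    | succ m ih => rw [pow_succ, ← mul_assoc, ih, hz]
  rw [← h1 n, mul_assoc, hn, mul_zero]

theorem omI_of_emb_zero (hi : Function.Injective i) {z : ZI H M} (h : emb i hi z = 0) (χ : IrrCharacter H) :
    MemLocalIdeal M (omI χ z) := by
  rw [omI_apply]
  haveI : Fintype (ConjClasses H) := Fintype.ofFinite _
  rw [om_eq_sum]
  apply ideal_sum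
  intro C _
  apply ideal_mul_right _ (om_cs_mem χ _)
  rw [← rd_eq_zero_iff (z.2 _), ← emb_c hi, h]
  rfl

theorem not_ideal_eps (hi : Function.Injective i) {b : Set (IrrCharacter H)} (hb : IsPBlock M b) :
    eps (M := M) i b ≠ 0 := by
  classical
  intro h
  obtain ⟨χ, hχ⟩ := block_nonempty hb
  have h1 : MemLocalIdeal M (omI χ (eI hb)) := omI_of_emb_zero hi (by rw [← h, eps_eq hi hb]; rfl) χ
  rw [omI_eI, if_pos hχ] at h1
  exact one_notMem_ideal h1

theorem isBlk_eps (hi : Function.Injective i) {b : Set (IrrCharacter H)} (hb : IsPBlock M b) :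
    KG.IsBlk i.range (eps (M := M) i b) where
  mem := eps_mem hi hb
  idem := eps_idem hi hb
  ne := not_ideal_eps hi hb
  prim w hw hww := by
    obtain ⟨z, rfl⟩ := emb_surj hi hw
    obtain ⟨χ, hχ⟩ := block_nonempty hb
    -- the eigenvalue is 0 or 1
    by_cases h0 : MemLocalIdeal M (omI χ z)
    · right; exact idem_mul_eps hi hb z hχ h0 hww
    · left
      -- 1 - z
      have h1 : (emb i hi (1 - z)) * (emb i hi (1 - z)) = emb i hi (1 - z) := by
        rw [map_sub, map_one, mul_sub, sub_mul, sub_mul, hww, one_mul, one_mul, mul_one, sub_self, sub_zero]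
      have h2 : MemLocalIdeal M (omI χ (1 - z)) := by
        -- z(1-z) reduces to zero so omega of it is in the ideal
        have h3 : emb i hi (z * (1 - z)) = 0 := by
          rw [map_mul, map_sub, map_one, mul_sub, mul_one, hww, sub_self]
        have h4 : MemLocalIdeal M (omI χ (z * (1 - z))) := omI_of_emb_zero hi h3 χ
        rw [map_mul] at h4
        exact (ideal_of_mul (omI_mem χ z) (omI_mem χ (1 - z)) h4).resolve_left h0
      have h5 := idem_mul_eps hi hb (1 - z) hχ h2 h1
      rw [map_sub, map_one, sub_mul, one_mul, sub_eq_zero] at h5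
      exact h5.symm

theorem eps_inj (hi : Function.Injective i) {b b' : Set (IrrCharacter H)} (hb : IsPBlock M b)
    (hb' : IsPBlock M b') (h : eps (M := M) i b = eps i b') : b = b' := by
  by_contra hne
  have h1 := eps_mul hi hb hb' hne
  rw [← h, eps_idem hi hb] at h1
  exact not_ideal_eps hi hb h1

theorem exists_block (hi : Function.Injective i) {e : MonoidAlgebra (KM M) G} (he : KG.IsBlk i.range e) :
    ∃ b : Set (IrrCharacter H), IsPBlock M b ∧ eps (M := M) i b = e := by
  have h1 : e = ∑ b ∈ blocks H M, eps (M := M) i b * e := by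
    rw [← Finset.sum_mul, sum_eps hi, one_mul]
  obtain ⟨b, hb, hne⟩ := Finset.exists_ne_zero_of_sum_ne_zero (h1 ▸ he.ne)
  have hb' := mem_blocks.1 hb
  exact ⟨b, hb', (isBlk_eps hi hb').eq_of_mul he hne⟩

/-- characterization of `z ε_b = ε_b` by central characters -/
theorem mul_eps_iff (hi : Function.Injective i) {b : Set (IrrCharacter H)} (hb : IsPBlock M b) (z : ZI H M)
    {χ : IrrCharacter H} (hχ : χ ∈ b) (hz : emb i hi z * emb i hi z = emb i hi z) :
    emb i hi z * eps (M := M) i b = eps i b ↔ MemLocalIdeal M (omI χ z - 1) := by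
  constructor
  · intro h
    by_contra hne
    have h1 : (emb i hi (1 - z)) * (emb i hi (1 - z)) = emb i hi (1 - z) := by
      rw [map_sub, map_one, mul_sub, sub_mul, sub_mul, hz, one_mul, one_mul, mul_one, sub_self, sub_zero]
    -- omega(1-z) not in ideal, so omega(z) in ideal
    have h3 : emb i hi (z * (1 - z)) = 0 := by
      rw [map_mul, map_sub, map_one, mul_sub, mul_one, hz, sub_self]
    have h4 : MemLocalIdeal M (omI χ (z * (1 - z))) := omI_of_emb_zero hi h3 χ
    rw [map_mul] at h4
    rcases ideal_of_mul (omI_mem χ z) (omI_mem χ (1 - z)) h4 with h5 | h5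
    · have h6 := idem_mul_eps hi hb z hχ h5 hz
      rw [h] at h6
      exact not_ideal_eps hi hb h6
    · apply hne
      rw [map_sub, map_one] at h5
      exact ideal_sub_comm h5
  · intro h
    have h1 : (emb i hi (1 - z)) * (emb i hi (1 - z)) = emb i hi (1 - z) := by
      rw [map_sub, map_one, mul_sub, sub_mul, sub_mul, hz, one_mul, one_mul, mul_one, sub_self, sub_zero]
    have h2 : MemLocalIdeal M (omI χ (1 - z)) := by
      rw [map_sub, map_one]; exact ideal_sub_comm h
    have h5 := idem_mul_eps hi hb (1 - z) hχ h2 h1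
    rw [map_sub, map_one, sub_mul, one_mul, sub_eq_zero] at h5
    exact h5.symm

/-- the constant value of the central character mod M -/
theorem not_nilp (hi : Function.Injective i) {b : Set (IrrCharacter H)} (hb : IsPBlock M b) (z : ZI H M)
    {χ : IrrCharacter H} (hχ : χ ∈ b) (h : ∀ n : ℕ, (emb i hi z) ^ n * eps (M := M) i b ≠ 0) :
    ¬ MemLocalIdeal M (omI χ z) := by
  intro h1
  obtain ⟨n, hn⟩ := pow_mul_eps hi hb z hχ h1
  exact h n hn

end

end Cfsg.Agent.H25.Red
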