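import Mathlib
import Cfsg.Prelude.Def_Blocks
import Cfsg.Prelude.Def_BlockLocal
import Cfsg.Prelude.Def_BrauerPairs
import Cfsg.Agent.H25_Red2
import Cfsg.Agent.H10_BlockEFM

/-!
# Translation of Brauer pairs into `kG`
-/

set_option autoImplicit false
set_option linter.unusedSectionVars false
set_option linter.style.haveILetI false

namespace Cfsg.Agent.H25.BPTr

open Cfsg Cfsg.Agent.H10.BlockLoc Cfsg.Agent.H10.BlockAlg Cfsg.Agent.H10.BlockIdem
  Cfsg.Agent.H10.BlockSMT2 Cfsg.Agent.H3.CharIrr Cfsg.Agent.H25.Red Cfsg.Agent.H25.KG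
open scoped ComplexConjugate

section transport

variable {M : Ideal AlgInt} {K L : Type*} [Group K] [Group L]

/-- transport of a set of characters along an isomorphism -/
def tB (e : K ≃* L) (b : Set (IrrCharacter K)) : Set (IrrCharacter L) :=
  {ξ' | ∃ ξ ∈ b, ∀ k, (ξ' : L → ℂ) (e k) = (ξ : K → ℂ) k}

theorem mem_tB (e : K ≃* L) (b : Set (IrrCharacter K)) (ξ' : IrrCharacter L) :
    ξ' ∈ tB e b ↔ H10.BlockEFM.tr e ξ' ∈ b := by
  constructor
  · rintro ⟨ξ, hξ, h⟩
    have : H10.BlockEFM.tr e ξ' = ξ := Subtype.ext (funext fun k => by rw [H10.BlockEFM.tr_apply, h])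
    rwa [this]
  · intro h
    exact ⟨_, h, fun k => rfl⟩

theorem tB_symm_tB (e : K ≃* L) (b : Set (IrrCharacter K)) : tB e.symm (tB e b) = b := by
  ext ξ
  rw [mem_tB, mem_tB, H10.BlockEFM.tr_tr_symm]

theorem tB_tB_symm (e : K ≃* L) (b : Set (IrrCharacter L)) : tB e (tB e.symm b) = b := by
  ext ξ
  rw [mem_tB, mem_tB, H10.BlockEFM.tr_symm_tr]

theorem tr_mem_tB (e : K ≃* L) {b : Set (IrrCharacter K)} {ξ : IrrCharacter K} (h : ξ ∈ b) :
    H10.BlockEFM.tr e.symm ξ ∈ tB e b := by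
  rw [mem_tB, H10.BlockEFM.tr_tr_symm]; exact h

theorem isPBlock_tB (e : K ≃* L) {b : Set (IrrCharacter K)} (h : IsPBlock M b) : IsPBlock M (tB e b) := by
  obtain ⟨χ, rfl⟩ := h
  refine ⟨H10.BlockEFM.tr e.symm χ, ?_⟩
  ext ξ
  rw [mem_tB]
  show SameBlock M _ _ ↔ SameBlock M _ _
  rw [← H10.BlockEFM.sameBlock_tr_iff e.symm, H10.BlockEFM.tr_symm_tr]

theorem isPBlock_tB_iff (e : K ≃* L) {b : Set (IrrCharacter K)} : IsPBlock M (tB e b) ↔ IsPBlock M b := by
  refine ⟨fun h => ?_, isPBlock_tB e⟩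
  have := isPBlock_tB e.symm h
  rwa [tB_symm_tB] at this

theorem finsum_tB (e : K ≃* L) (b : Set (IrrCharacter K)) {A : Type*} [AddCommMonoid A] (F : IrrCharacter L → A) :
    ∑ᶠ χ ∈ tB e b, F χ = ∑ᶠ χ ∈ b, F (H10.BlockEFM.tr e.symm χ) := by
  have h : tB e b = (fun χ => H10.BlockEFM.tr e.symm χ) '' b := by
    ext ξ
    rw [mem_tB]
    constructor
    · intro h; exact ⟨_, h, H10.BlockEFM.tr_symm_tr e ξ⟩
    · rintro ⟨χ, hχ, rfl⟩; rw [H10.BlockEFM.tr_tr_symm]; exact hχ
  rw [h, finsum_mem_image]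
  intro χ _ ψ _ hh
  have := congrArg (H10.BlockEFM.tr e) hh
  simpa only [H10.BlockEFM.tr_tr_symm] using this

theorem blockCoeff_tB (e : K ≃* L) (b : Set (IrrCharacter K)) (k : K) :
    blockCoeff (tB e b) (e k) = blockCoeff b k := by
  unfold blockCoeff
  rw [finsum_tB, Nat.card_congr e.toEquiv.symm]
  simp only [H10.BlockEFM.tr_apply, map_one, MulEquiv.symm_apply_apply]

theorem isDefectClass_tB (e : K ≃* L) {b : Set (IrrCharacter K)} {k : K} (h : IsDefectClass M b k) :
    IsDefectClass M (tB e b) (e k) := by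
  refine ⟨by rw [blockCoeff_tB]; exact h.1, by rw [blockCoeff_tB]; exact h.2.1, fun χ hχ => ?_⟩
  rw [mem_tB] at hχ
  rw [← H10.BlockEFM.centralChar_tr e χ k]
  exact h.2.2 _ hχ

theorem isDefectGroup_tB {p : ℕ} [Fact p.Prime] [Finite K] (e : K ≃* L) {b : Set (IrrCharacter K)} {D : Subgroup K}
    (h : IsDefectGroup p M b D) : IsDefectGroup p M (tB e b) (D.map e.toMonoidHom) := by
  haveI : Finite L := Finite.of_equiv K e.toEquiv
  obtain ⟨g, hg, P, hP⟩ := h
  refine ⟨e g, isDefectClass_tB e hg, ?_⟩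
  have hmap : Subgroup.centralizer ({e g} : Set L) = (Subgroup.centralizer ({g} : Set K)).map e.toMonoidHom := by
    ext x
    rw [Subgroup.mem_map]
    constructor
    · intro hx
      refine ⟨e.symm x, ?_, by simp⟩
      rw [Subgroup.mem_centralizer_singleton_iff] at hx ⊢
      apply e.injective
      rw [map_mul, map_mul, MulEquiv.apply_symm_apply]; exact hx
    · rintro ⟨y, hy, rfl⟩
      rw [Subgroup.mem_centralizer_singleton_iff] at hy ⊢
      show e y * e g = e g * e y
      rw [← map_mul, ← map_mul, hy]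
  have h1 : IsSyl p (Subgroup.centralizer ({g} : Set K)) D := by
    rw [hP]
    refine ⟨?_, P.isPGroup'.map _, ?_⟩
    · rintro _ ⟨x, _, rfl⟩; exact x.2
    · intro R hR hle hRH
      have h2 : IsPGroup p (R.subgroupOf (Subgroup.centralizer ({g} : Set K))) :=
        hR.comap_of_injective _ (Subgroup.subtype_injective _)
      have h3 := P.is_maximal' h2 (fun x hx => Subgroup.mem_subgroupOf.2 (hle ⟨x, hx, rfl⟩))
      rw [← h3, Subgroup.subgroupOf_map_subtype, inf_eq_left.2 hRH]
  have h2 : IsSyl p (Subgroup.centralizer ({e g} : Set L)) (D.map e.toMonoidHom) := by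
    rw [hmap]
    refine ⟨Subgroup.map_mono h1.le, h1.pg.map _, fun S hS h3 h4 => ?_⟩
    have h5 : S.comap e.toMonoidHom = D := by
      apply h1.max
      · exact hS.comap_of_injective _ e.injective
      · rw [← Subgroup.map_le_iff_le_comap]; exact h3
      · have := Subgroup.comap_mono (f := e.toMonoidHom) h4
        rwa [Subgroup.comap_map_eq_self_of_injective e.injective] at this
    rw [← h5, Subgroup.map_comap_eq_self_of_surjective e.surjective]
  obtain ⟨S, hS⟩ := h2.exists_sylow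
  refine ⟨S, ?_⟩
  rw [hS, Subgroup.subgroupOf_map_subtype, inf_eq_left.2 h2.le]

end transport

section

variable (M : Ideal AlgInt) [hMax : M.IsMaximal] {G : Type*} [Group G] [Fintype G]

/-- block idempotent of a subgroup, mod `M`, inside `kG` -/
noncomputable def ep (H : Subgroup G) (b : Set (IrrCharacter H)) : MonoidAlgebra (KM M) G :=
  ofF fun x => rd M (subgroupBlockCoeff H b x)

/-- block idempotent of `G`, mod `M` -/
noncomputable def epG (B : Set (IrrCharacter G)) : MonoidAlgebra (KM M) G :=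
  ofF fun x => rd M (blockCoeff B x)

variable {M}

theorem sbc_mem {H : Subgroup G} (b : Set (IrrCharacter H)) {x : G} (hx : x ∈ H) :
    subgroupBlockCoeff H b x = blockCoeff b ⟨x, hx⟩ := by
  unfold subgroupBlockCoeff
  rw [dif_pos hx]

theorem sbc_notMem {H : Subgroup G} (b : Set (IrrCharacter H)) {x : G} (hx : x ∉ H) :
    subgroupBlockCoeff H b x = 0 := by
  unfold subgroupBlockCoeff
  rw [dif_neg hx]

theorem ep_c (H : Subgroup G) (b : Set (IrrCharacter H)) (x : G) :
    (ep M H b).coeff x = rd M (subgroupBlockCoeff H b x) := rfl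

theorem epG_c (B : Set (IrrCharacter G)) (x : G) : (epG M B).coeff x = rd M (blockCoeff B x) := rfl

theorem ep_eq (H : Subgroup G) [Fintype H] (b : Set (IrrCharacter H)) : ep M H b = eps H.subtype b := by
  rw [eq_comm]
  apply push_eq _ (Subgroup.subtype_injective H)
  · intro y
    rw [ep_c, sbc_mem b (x := H.subtype y) y.2]; rfl
  · intro x hx
    rw [ep_c, sbc_notMem, rd_zero]
    intro h; exact hx ⟨⟨x, h⟩, rfl⟩

theorem epG_eq (B : Set (IrrCharacter G)) : epG M B = eps (MonoidHom.id G) B := by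
  rw [eq_comm]
  apply push_eq _ Function.injective_id
  · intro y; rfl
  · intro x hx; exact absurd ⟨x, rfl⟩ hx

omit [Fintype G] in
theorem range_id : (MonoidHom.id G).range = ⊤ := MonoidHom.range_eq_top.2 Function.surjective_id

theorem isBlk_ep {H : Subgroup G} {b : Set (IrrCharacter H)} (hb : IsPBlock M b) : IsBlk H (ep M H b) := by
  haveI : Fintype H := Fintype.ofFinite _
  have := isBlk_eps (Subgroup.subtype_injective H) hb
  rw [Subgroup.range_subtype] at this
  rw [ep_eq]; exact this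

theorem isBlk_epG {B : Set (IrrCharacter G)} (hB : IsPBlock M B) : IsBlk ⊤ (epG M B) := by
  have := isBlk_eps (i := MonoidHom.id G) Function.injective_id hB
  rw [range_id] at this
  rw [epG_eq]; exact this

theorem ep_inj {H : Subgroup G} {b b' : Set (IrrCharacter H)} (hb : IsPBlock M b) (hb' : IsPBlock M b')
    (h : ep M H b = ep M H b') : b = b' := by
  haveI : Fintype H := Fintype.ofFinite _
  rw [ep_eq, ep_eq] at h
  exact eps_inj (Subgroup.subtype_injective H) hb hb' h

theorem epG_inj {B B' : Set (IrrCharacter G)} (hb : IsPBlock M B) (hb' : IsPBlock M B')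
    (h : epG M B = epG M B') : B = B' := by
  rw [epG_eq, epG_eq] at h
  exact eps_inj Function.injective_id hb hb' h

theorem exists_ep {H : Subgroup G} {e : MonoidAlgebra (KM M) G} (he : IsBlk H e) :
    ∃ b : Set (IrrCharacter H), IsPBlock M b ∧ ep M H b = e := by
  haveI : Fintype H := Fintype.ofFinite _
  obtain ⟨b, hb, h⟩ := exists_block (i := H.subtype) (Subgroup.subtype_injective H)
    (by rw [Subgroup.range_subtype]; exact he)
  exact ⟨b, hb, by rw [ep_eq]; exact h⟩

theorem exists_epG {e : MonoidAlgebra (KM M) G} (he : IsBlk ⊤ e) :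
    ∃ B : Set (IrrCharacter G), IsPBlock M B ∧ epG M B = e := by
  obtain ⟨b, hb, h⟩ := exists_block (i := MonoidHom.id G) Function.injective_id
    (by rw [range_id]; exact he)
  exact ⟨b, hb, by rw [epG_eq]; exact h⟩

/-- conjugation isomorphism -/
noncomputable def cI (g : G) {K L : Subgroup G} (h : L = cs g K) : K ≃* L :=
  ((MulAut.conj g).subgroupMap K).trans (MulEquiv.subgroupCongr h.symm)

omit [Fintype G] in
theorem cI_coe (g : G) {K L : Subgroup G} (h : L = cs g K) (k : K) : ((cI g h k : L) : G) = g * k * g⁻¹ := rfl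

theorem ep_conj (g : G) {K L : Subgroup G} (h : L = cs g K) (b : Set (IrrCharacter K)) :
    ep M L (tB (cI g h) b) = cnj g (ep M K b) := by
  apply ext_c; intro x
  rw [cnj_c, ep_c, ep_c]
  by_cases hx : x ∈ L
  · have hx' : g⁻¹ * x * g ∈ K := by rw [h] at hx; exact mem_cs.1 hx
    rw [sbc_mem _ hx, sbc_mem _ hx', ← blockCoeff_tB (cI g h)]
    congr 2
    apply Subtype.ext
    rw [cI_coe]
    show x = g * (g⁻¹ * x * g) * g⁻¹
    group
  · rw [sbc_notMem _ hx, sbc_notMem]
    intro h1; apply hx; rw [h]; exact mem_cs.2 h1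

theorem stabilizes_iff {K : Subgroup G} {e : Set (IrrCharacter K)} (he : IsPBlock M e) (g : G) :
    StabilizesBlock K e g ↔ g ∈ Subgroup.normalizer (K : Set G) ∧ cnj g (ep M K e) = ep M K e := by
  unfold StabilizesBlock
  apply and_congr_right
  intro hg
  have hK : K = cs g K := (mem_normalizer_iff_cs.1 hg).symm
  haveI : Fintype K := Fintype.ofFinite _
  rw [← ep_conj g hK]
  constructor
  · intro h
    obtain ⟨χ, hχ⟩ := block_nonempty he
    obtain ⟨χ', hχ', hc⟩ := h χ hχ
    have h1 : χ' ∈ tB (cI g hK) e := ⟨χ, hχ, fun k => hc k _ rfl⟩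
    rw [block_eq_of_mem (isPBlock_tB (cI g hK) he) he h1 hχ']
  · intro h χ hχ
    have h1 := ep_inj (isPBlock_tB (cI g hK) he) he h
    refine ⟨H10.BlockEFM.tr (cI g hK).symm χ, ?_, ?_⟩
    · have := tr_mem_tB (cI g hK) hχ
      rwa [h1] at this
    · intro k k' hk
      have hk' : k' = cI g hK k := Subtype.ext hk
      rw [H10.BlockEFM.tr_apply, hk', MulEquiv.symm_apply_apply]

theorem conjBlock_eq (Q : Subgroup G) (x : G) (f : Set (IrrCharacter (Subgroup.centralizer (Q : Set G)))) :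
    conjBlock Q x f = tB (cI x (centralizer_cs x Q)) f := by
  ext ξ'
  constructor
  · rintro ⟨ξ, hξ, h⟩
    exact ⟨ξ, hξ, fun k => h k _ rfl⟩
  · rintro ⟨ξ, hξ, h⟩
    refine ⟨ξ, hξ, fun c c' hc => ?_⟩
    have hc' : c' = cI x (centralizer_cs x Q) c := Subtype.ext hc
    rw [hc', h c]

theorem ep_conjBlock (Q : Subgroup G) (x : G) (f : Set (IrrCharacter (Subgroup.centralizer (Q : Set G)))) :
    ep M _ (conjBlock Q x f) = cnj x (ep M _ f) := by
  rw [conjBlock_eq, ep_conj]

theorem isPBlock_conjBlock {Q : Subgroup G} {x : G} {f : Set (IrrCharacter (Subgroup.centralizer (Q : Set G)))}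
    (hf : IsPBlock M f) : IsPBlock M (conjBlock Q x f) := by
  rw [conjBlock_eq]; exact isPBlock_tB _ hf

theorem sbc_ring {H : Subgroup G} {b : Set (IrrCharacter H)} (hb : IsPBlock M b) (x : G) :
    MemLocalRing M (subgroupBlockCoeff H b x) := by
  haveI : Fintype H := Fintype.ofFinite _
  by_cases hx : x ∈ H
  · rw [sbc_mem _ hx]; exact blockCoeff_mem hb _
  · rw [sbc_notMem _ hx]; exact ring_zero

theorem sbc_conj {H : Subgroup G} (b : Set (IrrCharacter H)) {c : G} (hc : c ∈ H) (x : G) :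
    subgroupBlockCoeff H b (c * x * c⁻¹) = subgroupBlockCoeff H b x := by
  haveI : Fintype H := Fintype.ofFinite _
  by_cases hx : x ∈ H
  · rw [sbc_mem _ hx, sbc_mem _ (H.mul_mem (H.mul_mem hc hx) (H.inv_mem hc))]
    exact blockCoeff_class b ⟨x, hx⟩ ⟨c, hc⟩
  · rw [sbc_notMem _ hx, sbc_notMem]
    intro h
    apply hx
    have : x = c⁻¹ * (c * x * c⁻¹) * c := by group
    rw [this]
    exact H.mul_mem (H.mul_mem (H.inv_mem hc) h) hc

/-- the condition defining Brauer pairs -/
theorem brauer_iff (P : Subgroup G) {β : G → ℂ} (hβ : ∀ x, MemLocalRing M (β x))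
    (hinv : ∀ c ∈ Ce P, ∀ x, β (c * x * c⁻¹) = β x)
    (hidem : tr (Ce P) (ofF fun x => rd M (β x)) * tr (Ce P) (ofF fun x => rd M (β x)) =
      tr (Ce P) (ofF fun x => rd M (β x)))
    {e : Set (IrrCharacter (Ce P))} (he : IsPBlock M e) :
    (∀ ξ ∈ e, MemLocalIdeal M (brauerOmega P β (ξ : Ce P → ℂ) - 1)) ↔
      tr (Ce P) (ofF fun x => rd M (β x)) * ep M (Ce P) e = ep M (Ce P) e := by
  haveI : Fintype (Ce P) := Fintype.ofFinite _
  let z0 : MonoidAlgebra ℂ (Ce P) := ofFun fun y => β (y : G)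
  have hz0 : z0 ∈ Subalgebra.center ℂ (MonoidAlgebra ℂ (Ce P)) := by
    rw [mem_center_iff]
    intro a d
    exact hinv d d.2 a
  let z : ZI (Ce P) M := ⟨⟨z0, hz0⟩, fun g => hβ g⟩
  have hz : emb (Ce P).subtype (Subgroup.subtype_injective _) z = tr (Ce P) (ofF fun x => rd M (β x)) := by
    rw [emb_apply]
    apply push_eq _ (Subgroup.subtype_injective _)
    · intro y
      rw [tr_c_of_mem _ (x := (Ce P).subtype y) y.2]; rfl
    · intro x hx
      rw [tr_c_of_notMem]
      intro h; exact hx ⟨⟨x, h⟩, rfl⟩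
  have hom : ∀ ξ : IrrCharacter (Ce P), omI ξ z = brauerOmega P β (ξ : Ce P → ℂ) := by
    intro ξ
    rw [omI_apply, om_apply, lin_apply, brauerOmega, finsum_eq_sum_of_fintype, Finset.sum_div]
    rfl
  have key : ∀ ξ ∈ e, (MemLocalIdeal M (brauerOmega P β (ξ : Ce P → ℂ) - 1) ↔
      tr (Ce P) (ofF fun x => rd M (β x)) * ep M (Ce P) e = ep M (Ce P) e) := by
    intro ξ hξ
    rw [← hom, ← mul_eps_iff (Subgroup.subtype_injective _) he z hξ (by rw [hz]; exact hidem), hz, ep_eq]
  constructor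
  · intro h
    obtain ⟨ξ, hξ⟩ := block_nonempty he
    exact (key ξ hξ).1 (h ξ hξ)
  · intro h ξ hξ
    exact (key ξ hξ).2 h

end

end Cfsg.Agent.H25.BPTr
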