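import Mathlib
import Cfsg.Prelude.Def_BrauerPairs
import Cfsg.Agent.H25_BPTr

/-!
# Brauer pairs: equivalence of the character-theoretic definitions with those in `kG`
-/

set_option autoImplicit false
set_option linter.unusedSectionVars false
set_option linter.style.haveILetI false

namespace Cfsg.Agent.H25.BPMain

open Cfsg Cfsg.Agent.H10.BlockLoc Cfsg.Agent.H10.BlockAlg Cfsg.Agent.H10.BlockIdem
  Cfsg.Agent.H3.CharIrr Cfsg.Agent.H25.Red Cfsg.Agent.H25.KG Cfsg.Agent.H25.BPTr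
open scoped ComplexConjugate

variable {M : Ideal AlgInt} {G : Type*} [Group G] [Fintype G] {p : ℕ} [hp : Fact p.Prime]
  [hMax : M.IsMaximal] [hch : CharP (KM M) p]

theorem bpo_iff {B : Set (IrrCharacter G)} {Q : Subgroup G}
    {e : Set (IrrCharacter (Subgroup.centralizer (Q : Set G)))} :
    IsBrauerPairOf p M B Q e ↔ IsPBlock M B ∧ IsPBlock M e ∧ BP p (epG M B) Q (ep M (Ce Q) e) := by
  constructor
  · rintro ⟨⟨h1, h2⟩, h3, h4⟩
    refine ⟨h3, h2, h1, isBlk_epG h3, isBlk_ep h2, ?_⟩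
    have hidem := tr_idem h1 (fix_top (isBlk_epG h3) Q) (isBlk_epG h3).idem
    exact (brauer_iff Q (fun x => blockCoeff_mem h3 x) (fun c _ x => blockCoeff_class B x c) hidem h2).1 h4
  · rintro ⟨h3, h2, h⟩
    have hidem := tr_idem h.pg (fix_top (isBlk_epG h3) Q) (isBlk_epG h3).idem
    exact ⟨⟨h.pg, h2⟩, h3,
      (brauer_iff Q (fun x => blockCoeff_mem h3 x) (fun c _ x => blockCoeff_class B x c) hidem h2).2 h.tr⟩

theorem nsp_iff {P Q : Subgroup G} {e : Set (IrrCharacter (Subgroup.centralizer (P : Set G)))}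
    {f : Set (IrrCharacter (Subgroup.centralizer (Q : Set G)))} :
    IsNormalSubpair p M Q f P e ↔ IsPBlock M f ∧ IsPBlock M e ∧ NS p Q (ep M (Ce Q) f) P (ep M (Ce P) e) := by
  constructor
  · rintro ⟨⟨h1, h2⟩, ⟨h3, h4⟩, h5, h6, h7, h8⟩
    have hfix : Fix P (ep M (Ce Q) f) := fun x hx => ((stabilizes_iff h2 x).1 (h7 x hx)).2
    have hidem := tr_idem h3 hfix (isBlk_ep h2).idem
    refine ⟨h2, h4, h1, h3, isBlk_ep h2, isBlk_ep h4, h5, h6, hfix, ?_⟩
    exact (brauer_iff P (fun x => sbc_ring h2 x)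
      (fun c hc x => sbc_conj f (Ce_anti h5 hc) x) hidem h4).1 h8
  · rintro ⟨h2, h4, h⟩
    have hidem := tr_idem h.pP h.fix (isBlk_ep h2).idem
    exact ⟨⟨h.pQ, h2⟩, ⟨h.pP, h4⟩, h.le, h.norm,
      fun x hx => (stabilizes_iff h2 x).2 ⟨norm_le_norm_Ce Q (h.norm hx), h.fix x hx⟩,
      (brauer_iff P (fun x => sbc_ring h2 x)
        (fun c hc x => sbc_conj f (Ce_anti h.le hc) x) hidem h4).2 h.tr⟩

theorem le_of_sle {P Q : Subgroup G} {e : Set (IrrCharacter (Subgroup.centralizer (P : Set G)))}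
    {f : Set (IrrCharacter (Subgroup.centralizer (Q : Set G)))} (h : SubpairLE p M Q f P e) :
    LE p Q (ep M (Ce Q) f) P (ep M (Ce P) e) := by
  unfold SubpairLE at h
  have key : ∀ a b : BrauerPairIdx G, Relation.ReflTransGen (NormalSubpairRel p M) a b →
      LE p a.1 (ep M (Ce a.1) a.2) b.1 (ep M (Ce b.1) b.2) := by
    intro a b h
    induction h with
    | refl => exact LE.refl _ _
    | tail _ h2 ih => exact ih.trans (LE.of_ns (nsp_iff.1 h2).2.2)
  exact key _ _ h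

theorem sle_of_le {P Q : Subgroup G} {e : Set (IrrCharacter (Subgroup.centralizer (P : Set G)))}
    {f : Set (IrrCharacter (Subgroup.centralizer (Q : Set G)))} (he : IsPBlock M e) (hf : IsPBlock M f)
    (h : LE p Q (ep M (Ce Q) f) P (ep M (Ce P) e)) : SubpairLE p M Q f P e := by
  have key : ∀ (Q : Subgroup G) (f' : MonoidAlgebra (KM M) G), LE p Q f' P (ep M (Ce P) e) →
      ∀ f : Set (IrrCharacter (Subgroup.centralizer (Q : Set G))),
        IsPBlock M f → ep M (Ce Q) f = f' → SubpairLE p M Q f P e := by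
    intro Q f' h
    refine LE.rec_head (motive := fun Q f' => ∀ f : Set (IrrCharacter (Subgroup.centralizer (Q : Set G))),
      IsPBlock M f → ep M (Ce Q) f = f' → SubpairLE p M Q f P e) ?_ ?_ h
    · intro f hf heq
      rw [ep_inj hf he heq]
      exact Relation.ReflTransGen.refl
    · intro Q f' R g' h1 h2 ih f hf heq
      obtain ⟨g, hg, hg'⟩ := exists_ep h1.be
      have h3 := ih g hg hg'
      refine Relation.ReflTransGen.head ?_ h3
      show IsNormalSubpair p M Q f R g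
      rw [nsp_iff]
      refine ⟨hf, hg, ?_⟩
      rw [heq, hg']; exact h1
  exact key Q _ h f hf rfl

theorem sle_iff {P Q : Subgroup G} {e : Set (IrrCharacter (Subgroup.centralizer (P : Set G)))}
    {f : Set (IrrCharacter (Subgroup.centralizer (Q : Set G)))} (he : IsPBlock M e) (hf : IsPBlock M f) :
    SubpairLE p M Q f P e ↔ LE p Q (ep M (Ce Q) f) P (ep M (Ce P) e) :=
  ⟨le_of_sle, sle_of_le he hf⟩

theorem max_iff {B : Set (IrrCharacter G)} {P : Subgroup G}
    {e : Set (IrrCharacter (Subgroup.centralizer (P : Set G)))} :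
    IsMaximalBrauerPair p M B P e ↔ IsPBlock M B ∧ IsPBlock M e ∧ BP p (epG M B) P (ep M (Ce P) e) ∧
      Top p P (ep M (Ce P) e) := by
  constructor
  · rintro ⟨h1, h2⟩
    obtain ⟨hB, he, hbp⟩ := bpo_iff.1 h1
    refine ⟨hB, he, hbp, hbp.pg, hbp.be, fun S e' hns => ?_⟩
    obtain ⟨g, hg, hg'⟩ := exists_ep hns.be
    subst hg'
    apply h2 S g
    · rw [bpo_iff]
      exact ⟨hB, hg, hbp.up hns.pP hns.be (LE.of_ns hns)⟩
    · exact sle_of_le hg he (LE.of_ns hns)
  · rintro ⟨hB, he, hbp, htop⟩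
    refine ⟨bpo_iff.2 ⟨hB, he, hbp⟩, fun R g hg hle => ?_⟩
    rcases (le_of_sle hle).cases with ⟨h, _⟩ | ⟨R', g', h1, h2, _⟩
    · exact h.symm
    · exact absurd (htop.max _ _ h2).symm h1.ne

end Cfsg.Agent.H25.BPMain
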