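import Mathlib
import Cfsg.Prelude.Def_BrauerPairs
import Cfsg.Agent.H25_BPMain
import Cfsg.Agent.H10_BlockMain

/-!
# Defect groups in terms of the Brauer map in `kG`
-/

set_option autoImplicit false
set_option linter.unusedSectionVars false
set_option linter.style.haveILetI false

namespace Cfsg.Agent.H25.BPDef

open Cfsg Cfsg.Agent.H10.BlockLoc Cfsg.Agent.H10.BlockAlg Cfsg.Agent.H10.BlockIdem Cfsg.Agent.H10.BlockDefect
  Cfsg.Agent.H3.CharIrr Cfsg.Agent.H25.Red Cfsg.Agent.H25.KG Cfsg.Agent.H25.BPTr Cfsg.Agent.H25.BPMain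
open scoped ComplexConjugate

/-- defect group of a block idempotent `e` of `H` -/
structure DGH {k : Type*} [Field k] {G : Type*} [Group G] [Fintype G] (p : ℕ) (H : Subgroup G)
    (e : MonoidAlgebra k G) (D : Subgroup G) : Prop where
  le : D ≤ H
  pg : IsPGroup p D
  ne : tr (Ce D) e ≠ 0
  max : ∀ R : Subgroup G, R ≤ H → IsPGroup p R → tr (Ce R) e ≠ 0 → ∃ x ∈ H, R ≤ cs x D

section gen

variable {k : Type*} [Field k] {G : Type*} [Group G] [Fintype G] {p : ℕ}

theorem DGH.card_le {H : Subgroup G} {e : MonoidAlgebra k G} {D : Subgroup G} (h : DGH p H e D)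
    {R : Subgroup G} (hR : R ≤ H) (hp : IsPGroup p R) (hne : tr (Ce R) e ≠ 0) : Nat.card R ≤ Nat.card D := by
  obtain ⟨x, _, hx⟩ := h.max R hR hp hne
  rw [← card_cs x D]
  exact Nat.card_le_card_of_injective _ (Subgroup.inclusion_injective hx)

/-- a `p`-subgroup with nonzero Brauer image of the right order is a defect group -/
theorem DGH.of_card {H : Subgroup G} {e : MonoidAlgebra k G} {D : Subgroup G} (h : DGH p H e D)
    {R : Subgroup G} (hR : R ≤ H) (hp : IsPGroup p R) (hne : tr (Ce R) e ≠ 0) (hc : Nat.card D ≤ Nat.card R) :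
    DGH p H e R := by
  obtain ⟨x, hxH, hx⟩ := h.max R hR hp hne
  have h1 : R = cs x D := Subgroup.eq_of_le_of_card_ge hx (by rw [card_cs]; exact hc)
  refine ⟨hR, hp, hne, fun S hS hSp hSne => ?_⟩
  obtain ⟨y, hyH, hy⟩ := h.max S hS hSp hSne
  refine ⟨y * x⁻¹, H.mul_mem hyH (H.inv_mem hxH), ?_⟩
  rw [h1, ← cs_mul, inv_mul_cancel_right]
  exact hy

theorem DGH.card_eq {H : Subgroup G} {e : MonoidAlgebra k G} {D D' : Subgroup G} (h : DGH p H e D) (h' : DGH p H e D') :
    Nat.card D = Nat.card D' :=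
  le_antisymm (h'.card_le h.le h.pg h.ne) (h.card_le h'.le h'.pg h'.ne)

theorem DGH.cnj {H : Subgroup G} {e : MonoidAlgebra k G} {D : Subgroup G} (h : DGH p H e D) (x : G) :
    DGH p (cs x H) (KG.cnj x e) (cs x D) where
  le := cs_mono x h.le
  pg := h.pg.map _
  ne := by
    rw [Ce, centralizer_cs, ← cnj_tr]
    intro h0
    apply h.ne
    have := congrArg (KG.cnj x⁻¹) h0
    rwa [cnj_inv_cnj, map_zero] at this
  max R hR hRp hne := by
    have h1 : cs x⁻¹ R ≤ H := by rw [cs_le_iff, inv_inv]; exact hR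
    have h2 : tr (Ce (cs x⁻¹ R)) e ≠ 0 := by
      intro h0
      apply hne
      have := congrArg (KG.cnj x) h0
      rw [map_zero, cnj_tr, Ce, centralizer_cs, ← cs_mul, mul_inv_cancel, cs_one] at this
      exact this
    obtain ⟨y, hy, hyR⟩ := h.max _ h1 (hRp.map _) h2
    refine ⟨x * y * x⁻¹, mem_cs.2 (by
      have : x⁻¹ * (x * y * x⁻¹) * x = y := by group
      rw [this]; exact hy), ?_⟩
    rw [← cs_mul]
    have : x * y * x⁻¹ * x = x * y := by group
    rw [this, cs_mul]
    have := cs_mono x hyR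
    rwa [← cs_mul, mul_inv_cancel, cs_one] at this

theorem DGH.conj {H : Subgroup G} {e : MonoidAlgebra k G} {D : Subgroup G} (h : DGH p H e D) (he : Fix H e)
    {x : G} (hx : x ∈ H) : DGH p H e (cs x D) := by
  have := h.cnj x
  rwa [he x hx, mem_normalizer_iff_cs.1 (Subgroup.le_normalizer hx)] at this

theorem DGH.conj_eq {H : Subgroup G} {e : MonoidAlgebra k G} {D D' : Subgroup G} (h : DGH p H e D) (h' : DGH p H e D') :
    ∃ x ∈ H, D' = cs x D := by
  obtain ⟨x, hx, hle⟩ := h.max D' h'.le h'.pg h'.ne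
  exact ⟨x, hx, Subgroup.eq_of_le_of_card_ge hle (by rw [card_cs, h.card_eq h'])⟩

end gen

section

variable {M : Ideal AlgInt} {G : Type*} [Group G] [Fintype G] {p : ℕ} [hp : Fact p.Prime]
  [hMax : M.IsMaximal] [hch : CharP (KM M) p]

theorem epG_coeff_ne {B : Set (IrrCharacter G)} (hB : IsPBlock M B) (x : G) :
    (epG M B).coeff x ≠ 0 ↔ ¬ MemLocalIdeal M (blockCoeff B x) := by
  rw [epG_c, ne_eq, rd_eq_zero_iff (blockCoeff_mem hB x)]

/-- defect groups of blocks of `G` -/
theorem defectG_iff (hM : IsPModular p M) {B : Set (IrrCharacter G)} (hB : IsPBlock M B) {D : Subgroup G} :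
    IsDefectGroup p M B D ↔ DGH p ⊤ (epG M B) D := by
  have key : ∀ D, IsDefectGroup p M B D → DGH p ⊤ (epG M B) D := by
    intro D h
    refine ⟨le_top, IsDefectGroup.isPGroup' h, ?_, fun R _ hR hne => ?_⟩
    · obtain ⟨g, hg, hDg⟩ := h
      apply tr_ne_of_coeff (y := g) (IsCSyl.mem_centralizer hDg)
      rw [epG_coeff_ne hB]
      exact hg.2.1
    · obtain ⟨y, hy, hne'⟩ := exists_coeff_of_tr_ne hne
      rw [epG_coeff_ne hB] at hne'
      obtain ⟨x, hx⟩ := le_defect_of_coeff hM hB h hne' hR hy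
      exact ⟨x, Subgroup.mem_top x, hx⟩
  refine ⟨key D, fun h => ?_⟩
  obtain ⟨D', hD'⟩ := exists_defectGroup (p := p) hB
  obtain ⟨x, _, hx⟩ := (key D' hD').conj_eq h
  rw [hx]
  exact isDefectGroup_conj hD' x

/-- defect groups of blocks of subgroups -/
theorem defectH_iff (hM : IsPModular p M) {H : Subgroup G} {f : Set (IrrCharacter H)} (hf : IsPBlock M f)
    {D : Subgroup H} : IsDefectGroup p M f D ↔ DGH p H (ep M H f) (D.map H.subtype) := by
  haveI : Fintype H := Fintype.ofFinite _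
  rw [defectG_iff hM hf]
  have htr : ∀ R : Subgroup H, tr (Ce R) (epG M f) ≠ 0 ↔ tr (Ce (R.map H.subtype)) (ep M H f) ≠ 0 := by
    intro R
    constructor
    · intro h
      obtain ⟨y, hy, hne⟩ := exists_coeff_of_tr_ne h
      apply tr_ne_of_coeff (y := (y : G))
      · rw [Subgroup.mem_centralizer_iff] at hy ⊢
        rintro _ ⟨z, hz, rfl⟩
        exact congrArg Subtype.val (hy z hz)
      · rw [ep_c, sbc_mem _ y.2]
        exact hne
    · intro h
      obtain ⟨y, hy, hne⟩ := exists_coeff_of_tr_ne h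
      have hyH : y ∈ H := (isBlk_ep hf).mem.1 y hne
      apply tr_ne_of_coeff (y := (⟨y, hyH⟩ : H))
      · rw [Subgroup.mem_centralizer_iff] at hy ⊢
        intro z hz
        exact Subtype.ext (hy z ⟨z, hz, rfl⟩)
      · rw [ep_c, sbc_mem _ hyH] at hne
        exact hne
  have hmap : ∀ R : Subgroup H, ∀ x : H, (cs x R).map H.subtype = cs (x : G) (R.map H.subtype) := by
    intro R x
    ext z
    rw [mem_cs]
    constructor
    · rintro ⟨w, hw, rfl⟩
      have := mem_cs.1 hw
      exact ⟨_, this, rfl⟩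
    · rintro ⟨w, hw, hwz⟩
      have hz : z = (x : G) * w * (x : G)⁻¹ := by
        have : (w : G) = (x : G)⁻¹ * z * x := hwz
        rw [this]; group
      refine ⟨x * w * x⁻¹, mem_cs.2 ?_, hz.symm⟩
      have : x⁻¹ * (x * w * x⁻¹) * x = w := by group
      rw [this]; exact hw
  constructor
  · intro h
    refine ⟨?_, h.pg.map _, (htr D).1 h.ne, fun R hR hRp hne => ?_⟩
    · rintro _ ⟨x, _, rfl⟩; exact x.2
    · have hR' : (R.subgroupOf H).map H.subtype = R := by
        rw [Subgroup.subgroupOf_map_subtype, inf_eq_left.2 hR]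
      obtain ⟨x, _, hx⟩ := h.max (R.subgroupOf H) le_top
        (hRp.comap_of_injective _ (Subgroup.subtype_injective _)) ((htr _).2 (by rw [hR']; exact hne))
      refine ⟨x, x.2, ?_⟩
      rw [← hR', ← hmap]
      exact Subgroup.map_mono hx
  · intro h
    refine ⟨le_top, ?_, (htr D).2 h.ne, fun R _ hRp hne => ?_⟩
    · have h1 : (D.map H.subtype).subgroupOf H = D := by
        rw [Subgroup.subgroupOf, Subgroup.comap_map_eq_self_of_injective (Subgroup.subtype_injective H)]
      rw [← h1]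
      exact h.pg.comap_of_injective _ (Subgroup.subtype_injective _)
    · obtain ⟨x, hx, hR⟩ := h.max (R.map H.subtype) (by rintro _ ⟨x, _, rfl⟩; exact x.2) (hRp.map _) ((htr R).1 hne)
      refine ⟨⟨x, hx⟩, Subgroup.mem_top _, ?_⟩
      rw [← Subgroup.map_le_map_iff_of_injective (Subgroup.subtype_injective H), hmap]
      exact hR

theorem defectH_iff' (hM : IsPModular p M) {H : Subgroup G} {f : Set (IrrCharacter H)} (hf : IsPBlock M f)
    {D : Subgroup G} (hD : D ≤ H) : IsDefectGroup p M f (D.subgroupOf H) ↔ DGH p H (ep M H f) D := by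
  rw [defectH_iff hM hf, Subgroup.subgroupOf_map_subtype, inf_eq_left.2 hD]

theorem exists_DGH (hM : IsPModular p M) {H : Subgroup G} {e : MonoidAlgebra (KM M) G} (he : IsBlk H e) :
    ∃ D, DGH p H e D := by
  haveI : Fintype H := Fintype.ofFinite _
  obtain ⟨f, hf, rfl⟩ := exists_ep he
  obtain ⟨D, hD⟩ := exists_defectGroup (p := p) hf
  exact ⟨_, (defectH_iff hM hf).1 hD⟩

/-- a maximal pair gives a defect group -/
theorem Top.dgh {B : MonoidAlgebra (KM M) G} {P : Subgroup G} {e : MonoidAlgebra (KM M) G} (h : Top p P e)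
    (hB : BP p B P e) : DGH p ⊤ B P :=
  ⟨le_top, h.pg, hB.ns.ne, fun R _ hR hne => by
    obtain ⟨x, hx⟩ := h.le_conj hB hR hne
    exact ⟨x, Subgroup.mem_top x, hx⟩⟩

end

end Cfsg.Agent.H25.BPDef
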