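import Mathlib
import Cfsg.Prelude.Def_BrauerPairs
import Cfsg.Agent.H25_BPDef
import Cfsg.Agent.H10_BlockKer

/-!
# Brauer pairs and induced blocks
-/

set_option autoImplicit false
set_option linter.unusedSectionVars false
set_option linter.style.haveILetI false

namespace Cfsg.Agent.H25.BPInd

open Cfsg Cfsg.Agent.H10.BlockLoc Cfsg.Agent.H10.BlockAlg Cfsg.Agent.H10.BlockIdem Cfsg.Agent.H10.BlockDefect
  Cfsg.Agent.H10.BlockInd Cfsg.Agent.H10.BlockKer
  Cfsg.Agent.H3.CharIrr Cfsg.Agent.H25.Red Cfsg.Agent.H25.KG Cfsg.Agent.H25.BPTr Cfsg.Agent.H25.BPMain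
open scoped ComplexConjugate

variable {M : Ideal AlgInt} {G : Type*} [Group G] [Fintype G] {p : ℕ}

theorem centralizer_le_normalizer' (Q : Subgroup G) :
    Subgroup.centralizer (Q : Set G) ≤ Subgroup.normalizer (Q : Set G) := by
  intro x hx
  rw [Subgroup.mem_centralizer_iff] at hx
  rw [Subgroup.mem_normalizer_iff]
  intro y
  constructor
  · intro hy
    have : x * y * x⁻¹ = y := by rw [← hx y hy]; group
    rwa [this]
  · intro hy
    have h1 := hx _ hy
    have h2 : x * y * x⁻¹ = y := by
      have : x * y * x⁻¹ = x⁻¹ * (x * (x * y * x⁻¹)) := by group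
      rw [this, ← h1]; group
    rwa [h2] at hy

theorem truncC_self (Q : Subgroup G) [Fintype (Subgroup.centralizer (Q : Set G))] (z : ZC G) :
    truncC Q (Subgroup.centralizer (Q : Set G)) (centralizer_le_normalizer' Q) z =
      truncZ (Subgroup.centralizer (Q : Set G)) z := by
  apply Subtype.ext
  apply ext_coeff
  intro h
  rw [truncC_coeff, truncZ_coeff, if_pos h.2]

/-- every character of `C(Q)` induces a block of `G` -/
theorem exists_chi [hMax : M.IsMaximal] (hM : IsPModular p M) {Q : Subgroup G} (hQ : IsPGroup p Q)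
    [Fintype (Subgroup.centralizer (Q : Set G))] (ξ : IrrCharacter (Subgroup.centralizer (Q : Set G))) :
    ∃ χ : IrrCharacter G, ∀ z ∈ ZI G M, MemLocalIdeal M
      (om ξ (truncZ (Subgroup.centralizer (Q : Set G)) z) - om χ z) := by
  obtain ⟨χ, hχ⟩ := exists_brauer Q (Subgroup.centralizer (Q : Set G)) (centralizer_le_normalizer' Q) hM hQ le_rfl ξ
  refine ⟨χ, fun z hz => ?_⟩
  have := hχ z hz
  rwa [truncC_self] at this

theorem exists_induced (hM : IsPModular p M) {Q : Subgroup G} (hQ : IsPGroup p Q)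
    {e : Set (IrrCharacter (Subgroup.centralizer (Q : Set G)))} (he : IsPBlock M e) :
    ∃ B : Set (IrrCharacter G), IsInducedBlock M (Subgroup.centralizer (Q : Set G)) e B := by
  haveI := hM.2.1
  haveI : Fintype (Subgroup.centralizer (Q : Set G)) := Fintype.ofFinite _
  obtain ⟨ξ, hξ⟩ := block_nonempty he
  obtain ⟨χ, hχ⟩ := exists_chi hM hQ ξ
  exact ⟨blockOf M (χ : G → ℂ), isInducedBlock_of_mem _ he (isPBlock_blockOf χ) hξ (mem_blockOf_self χ) hχ⟩

theorem brauerOmega_eq (Q : Subgroup G) [Fintype (Subgroup.centralizer (Q : Set G))] (B : Set (IrrCharacter G))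
    (ξ : IrrCharacter (Subgroup.centralizer (Q : Set G))) :
    brauerOmega Q (blockCoeff B) (ξ : Subgroup.centralizer (Q : Set G) → ℂ) =
      om ξ (truncZ (Subgroup.centralizer (Q : Set G)) (eB B)) := by
  rw [om_apply, lin_apply, brauerOmega, finsum_eq_sum_of_fintype, Finset.sum_div]
  rfl

/-- Brauer pairs of `B` are the pairs `(Q,e)` with `e` inducing `B` -/
theorem bpo_iff_induced (hM : IsPModular p M) {B : Set (IrrCharacter G)} {Q : Subgroup G}
    {e : Set (IrrCharacter (Subgroup.centralizer (Q : Set G)))} :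
    IsBrauerPairOf p M B Q e ↔ IsPGroup p Q ∧ IsInducedBlock M (Subgroup.centralizer (Q : Set G)) e B := by
  classical
  haveI := hM.2.1
  haveI : Fintype (Subgroup.centralizer (Q : Set G)) := Fintype.ofFinite _
  constructor
  · rintro ⟨⟨hQ, he⟩, hB, h⟩
    refine ⟨hQ, ?_⟩
    obtain ⟨ξ, hξ⟩ := block_nonempty he
    obtain ⟨χ, hχ⟩ := exists_chi hM hQ ξ
    have h1 := h ξ hξ
    rw [brauerOmega_eq] at h1
    have h2 := hχ _ (eB_mem_ZI hB)
    have h3 : χ ∈ B := by
      by_contra hne
      rw [om_eB, if_neg hne, sub_zero] at h2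
      have h4 := ideal_sub h2 h1
      have e1 : om ξ (truncZ (Subgroup.centralizer (Q : Set G)) (eB B)) -
        (om ξ (truncZ (Subgroup.centralizer (Q : Set G)) (eB B)) - 1) = 1 := by ring
      rw [e1] at h4
      exact one_notMem_ideal h4
    exact isInducedBlock_of_mem _ he hB hξ h3 hχ
  · rintro ⟨hQ, h⟩
    refine ⟨⟨hQ, h.1⟩, h.2.1, fun ξ hξ => ?_⟩
    rw [brauerOmega_eq]
    obtain ⟨χ, hχ⟩ := block_nonempty h.2.1
    have h1 := ((isInducedBlock_iff _ e B).1 h).2.2 ξ hξ χ hχ _ (eB_mem_ZI h.2.1)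
    rwa [om_eB, if_pos hχ] at h1

/-- third main theorem for Brauer pairs -/
theorem third [hp : Fact p.Prime] (hM : IsPModular p M) {Q : Subgroup G} (hQ : IsPGroup p Q)
    {e : Set (IrrCharacter (Subgroup.centralizer (Q : Set G)))} (he : IsPBlock M e) :
    IsBrauerPairOf p M (principalBlock M G) Q e ↔ e = principalBlock M (Subgroup.centralizer (Q : Set G)) := by
  haveI := hM.2.1
  haveI : Fintype (Subgroup.centralizer (Q : Set G)) := Fintype.ofFinite _
  rw [bpo_iff_induced hM]
  obtain ⟨B, hB⟩ := exists_induced hM hQ he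
  rw [← third_main hM _ ⟨B, hB⟩]
  exact ⟨fun h => h.2, fun h => ⟨hQ, h⟩⟩

/-- defect groups of the principal block -/
theorem defect_principal [hp : Fact p.Prime] (hM : IsPModular p M) (D : Subgroup G) :
    IsDefectGroup p M (principalBlock M G) D ↔ ∃ S : Sylow p G, (S : Subgroup G) = D := by
  haveI := hM.2.1
  have hdef : blockDefect p (principalBlock M G) = (Nat.card G).factorization p := by
    unfold blockDefect
    have h1 : (charDegree ((triv G : IrrCharacter G) : G → ℂ)).factorization p = 0 := by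
      have : charDegree ((triv G : IrrCharacter G) : G → ℂ) = 1 := by
        unfold charDegree
        rw [triv_coe]
        simp
      rw [this, Nat.factorization_one]; rfl
    have h2 : sInf ((fun χ : IrrCharacter G => (charDegree (χ : G → ℂ)).factorization p) ''
        principalBlock M G) ≤ 0 := by
      rw [← h1]
      exact Nat.sInf_le ⟨triv G, triv_mem, rfl⟩
    omega
  have key : ∀ D, IsDefectGroup p M (principalBlock M G) D → ∃ S : Sylow p G, (S : Subgroup G) = D := by
    intro D h
    have h1 := H10.BlockMain.card_defectGroup hM principal_isPBlock h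
    rw [hdef] at h1
    exact ⟨Sylow.ofCard D h1, rfl⟩
  refine ⟨key D, ?_⟩
  rintro ⟨S, rfl⟩
  obtain ⟨D, hD⟩ := exists_defectGroup (p := p) (principal_isPBlock (M := M) (G := G))
  obtain ⟨T, rfl⟩ := key D hD
  obtain ⟨g, hg⟩ := MulAction.exists_smul_eq G T S
  rw [← hg]
  exact isDefectGroup_conj hD g

end Cfsg.Agent.H25.BPInd
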