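import Mathlib
import Cfsg.Prelude.Def_BrauerPairs
import Cfsg.Agent.H25_BPDef
import Cfsg.Agent.H10_BlockNormal

/-!
# Normal p-subgroups, stabilizers and blocks; lifting equalities of idempotents
-/

set_option autoImplicit false
set_option linter.unusedSectionVars false
set_option linter.style.haveILetI false

namespace Cfsg.Agent.H25.BPNorm

open Cfsg Cfsg.Agent.H10.BlockLoc Cfsg.Agent.H10.BlockAlg Cfsg.Agent.H10.BlockIdem Cfsg.Agent.H10.BlockDefect
  Cfsg.Agent.H10.BlockSMT2 Cfsg.Agent.H10.BlockNormal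
  Cfsg.Agent.H3.CharIrr Cfsg.Agent.H25.Red Cfsg.Agent.H25.KG Cfsg.Agent.H25.BPTr Cfsg.Agent.H25.BPMain
open scoped ComplexConjugate

section lift

variable {M : Ideal AlgInt} [hMax : M.IsMaximal] {T : Type*} [Group T] [Fintype T]

/-- convolution idempotent class functions with equal reductions are equal -/
theorem eq_of_rd {a a' : T → ℂ} (ha : IsClassFunction T a) (ha' : IsClassFunction T a')
    (hr : ∀ x, MemLocalRing M (a x)) (hr' : ∀ x, MemLocalRing M (a' x))
    (hi : ∀ g, ∑ x, a x * a (x⁻¹ * g) = a g) (hi' : ∀ g, ∑ x, a' x * a' (x⁻¹ * g) = a' g)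
    (h : ∀ x, rd M (a x) = rd M (a' x)) : a = a' := by
  let z : ZI T M := ⟨⟨ofFun a, (mem_center_iff _).2 ha⟩, hr⟩
  let z' : ZI T M := ⟨⟨ofFun a', (mem_center_iff _).2 ha'⟩, hr'⟩
  have hz : z * z = z := by
    apply Subtype.ext; apply Subtype.ext; apply ext_coeff; intro g
    show ((ofFun a : MonoidAlgebra ℂ T) * ofFun a).coeff g = (ofFun a).coeff g
    rw [coeff_mul_left]
    exact hi g
  have hz' : z' * z' = z' := by
    apply Subtype.ext; apply Subtype.ext; apply ext_coeff; intro g
    show ((ofFun a' : MonoidAlgebra ℂ T) * ofFun a').coeff g = (ofFun a').coeff g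
    rw [coeff_mul_left]
    exact hi' g
  have hemb : emb (MonoidHom.id T) Function.injective_id (z - z') = 0 := by
    rw [map_sub, sub_eq_zero, emb_apply, emb_apply]
    congr 1
    ext y
    exact h y
  have key : z = z' := by
    apply ext_omI
    intro φ
    have h1 := omI_of_emb_zero Function.injective_id hemb φ
    rw [map_sub] at h1
    have h2 : omI φ z = 0 ∨ omI φ z = 1 := by
      have := congrArg (omI φ) hz
      rw [map_mul] at this
      have h3 : omI φ z * (omI φ z - 1) = 0 := by rw [mul_sub, this]; ring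
      rcases mul_eq_zero.1 h3 with h4 | h4
      · left; exact h4
      · right; exact sub_eq_zero.1 h4
    have h2' : omI φ z' = 0 ∨ omI φ z' = 1 := by
      have := congrArg (omI φ) hz'
      rw [map_mul] at this
      have h3 : omI φ z' * (omI φ z' - 1) = 0 := by rw [mul_sub, this]; ring
      rcases mul_eq_zero.1 h3 with h4 | h4
      · left; exact h4
      · right; exact sub_eq_zero.1 h4
    rcases h2 with h2 | h2 <;> rcases h2' with h2' | h2'
    · rw [h2, h2']
    · rw [h2, h2', zero_sub] at h1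
      have := ideal_neg h1
      rw [neg_neg] at this
      exact absurd this one_notMem_ideal
    · rw [h2, h2', sub_zero] at h1
      exact absurd h1 one_notMem_ideal
    · rw [h2, h2']
  ext x
  have := congrArg (fun w : ZI T M => ((w : ZC T) : MonoidAlgebra ℂ T).coeff x) key
  exact this

end lift

section

variable {M : Ideal AlgInt} [hMax : M.IsMaximal] {G : Type*} [Group G] [Fintype G]

omit hMax in
/-- `blockCoeff` extended by zero is a convolution idempotent -/
theorem sbc_conv {H : Subgroup G} (b : Set (IrrCharacter H)) (g : G) :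
    ∑ x, subgroupBlockCoeff H b x * subgroupBlockCoeff H b (x⁻¹ * g) = subgroupBlockCoeff H b g := by
  classical
  haveI : Fintype H := Fintype.ofFinite _
  have h1 : ∑ x, subgroupBlockCoeff H b x * subgroupBlockCoeff H b (x⁻¹ * g) =
      ∑ x : G, if x ∈ H then subgroupBlockCoeff H b x * subgroupBlockCoeff H b (x⁻¹ * g) else 0 := by
    refine Finset.sum_congr rfl fun x _ => ?_
    split_ifs with h
    · rfl
    · rw [sbc_notMem b h, zero_mul]
  rw [h1, H10.BlockInd.sum_mem_eq H (fun x => subgroupBlockCoeff H b x * subgroupBlockCoeff H b (x⁻¹ * g))]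
  by_cases hg : g ∈ H
  · have h2 := congrArg (fun w : ZC H => (w : MonoidAlgebra ℂ H).coeff ⟨g, hg⟩) (eB_mul_self b)
    have h3 : ((eB b * eB b : ZC H) : MonoidAlgebra ℂ H).coeff ⟨g, hg⟩ =
        ∑ x : H, blockCoeff b x * blockCoeff b (x⁻¹ * ⟨g, hg⟩) := by
      rw [Subalgebra.coe_mul, coeff_mul_left]
      simp only [eB_coeff]
    rw [h3, eB_coeff] at h2
    rw [sbc_mem b hg, ← h2]
    refine Finset.sum_congr rfl fun x _ => ?_
    rw [sbc_mem b x.2, sbc_mem b (H.mul_mem (H.inv_mem x.2) hg)]
    rfl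
  · rw [sbc_notMem b hg]
    apply Finset.sum_eq_zero
    intro x _
    rw [sbc_notMem b (x := (x : G)⁻¹ * g), mul_zero]
    intro h
    apply hg
    have := H.mul_mem x.2 h
    rwa [mul_inv_cancel_left] at this

/-- stability of coefficients -/
theorem sbc_stable {K : Subgroup G} {e : Set (IrrCharacter K)} (he : IsPBlock M e) {g : G}
    (h : StabilizesBlock K e g) (x : G) : subgroupBlockCoeff K e (g * x * g⁻¹) = subgroupBlockCoeff K e x := by
  have hg := h.1
  have hK : K = cs g K := (mem_normalizer_iff_cs.1 hg).symm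
  haveI : Fintype K := Fintype.ofFinite _
  have h1 : tB (cI g hK) e = e := by
    obtain ⟨χ, hχ⟩ := block_nonempty he
    obtain ⟨χ', hχ', hc⟩ := h.2 χ hχ
    have h1 : χ' ∈ tB (cI g hK) e := ⟨χ, hχ, fun k => hc k _ rfl⟩
    exact block_eq_of_mem (isPBlock_tB (cI g hK) he) he h1 hχ'
  by_cases hx : x ∈ K
  · have hx' : g * x * g⁻¹ ∈ K := (Subgroup.mem_normalizer_iff.1 hg x).1 hx
    rw [sbc_mem _ hx, sbc_mem _ hx']
    have h2 := blockCoeff_tB (cI g hK) e ⟨x, hx⟩
    rw [h1] at h2
    rw [← h2]
    congr 1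
  · rw [sbc_notMem _ hx, sbc_notMem]
    intro hx'
    exact hx ((Subgroup.mem_normalizer_iff.1 hg x).2 hx')

/-- exact equality of idempotents from equality mod `M` -/
theorem sbc_eq_of_ep {T C : Subgroup G} (hCT : C ≤ T) {E : Set (IrrCharacter T)} (hE : IsPBlock M E)
    {b : Set (IrrCharacter C)} (hb : IsPBlock M b) (hst : ∀ t ∈ T, StabilizesBlock C b t)
    (h : ep M T E = ep M C b) (g : G) : subgroupBlockCoeff T E g = subgroupBlockCoeff C b g := by
  haveI : Fintype T := Fintype.ofFinite _
  have key : (fun t : T => blockCoeff E t) = fun t : T => subgroupBlockCoeff C b (t : G) := by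
    apply eq_of_rd (M := M)
    · exact blockCoeff_class E
    · intro x t
      exact sbc_stable hb (hst t t.2) x
    · exact fun x => blockCoeff_mem hE x
    · exact fun x => sbc_ring hb _
    · intro g
      have h3 : ((eB E * eB E : ZC T) : MonoidAlgebra ℂ T).coeff g =
          ∑ x : T, blockCoeff E x * blockCoeff E (x⁻¹ * g) := by
        rw [Subalgebra.coe_mul, coeff_mul_left]
        simp only [eB_coeff]
      rw [← h3, eB_mul_self, eB_coeff]
    · intro g
      classical
      have h1 := H10.BlockInd.sum_mem_eq T (fun x => subgroupBlockCoeff C b x * subgroupBlockCoeff C b (x⁻¹ * (g : G)))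
      rw [← sbc_conv b (g : G)]
      refine h1.symm.trans (Finset.sum_congr rfl fun x _ => ?_)
      split_ifs with hx
      · rfl
      · rw [sbc_notMem b (fun h => hx (hCT h)), zero_mul]
    · intro x
      have := congrArg (fun w => w.coeff (x : G)) h
      simp only [ep_c] at this
      rwa [sbc_mem E x.2] at this
  by_cases hg : g ∈ T
  · rw [sbc_mem _ hg]; exact congrFun key ⟨g, hg⟩
  · rw [sbc_notMem _ hg, sbc_notMem _ (fun h => hg (hCT h))]

end

section

variable {M : Ideal AlgInt} {G : Type*} [Group G] [Fintype G] {p : ℕ} [hp : Fact p.Prime]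
  [hMax : M.IsMaximal] [hch : CharP (KM M) p]

/-- idempotents of `Z(kT)` are supported on the centralizer of a normal `p`-subgroup -/
theorem supp_of_normal (hM : IsPModular p M) {T Q : Subgroup G} (hQ : IsPGroup p Q) (hQT : Q ≤ T)
    (hn : T ≤ Subgroup.normalizer (Q : Set G)) {z : MonoidAlgebra (KM M) G} (hz : z ∈ Z T) (hzz : z * z = z) :
    Supp (Ce Q) z := by
  haveI : Fintype T := Fintype.ofFinite _
  set w := z - tr (Ce Q) z with hw
  have hfixtr : Fix T (tr (Ce Q) z) := hz.2.tr (hn.trans (norm_le_norm_Ce Q))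
  have htrZ : tr (Ce Q) z ∈ Z T := ⟨tr_supp_of hz.1, hfixtr⟩
  have hwZ : w ∈ Z T := (Z T).sub_mem hz htrZ
  have htt : tr (Ce Q) z * tr (Ce Q) z = tr (Ce Q) z := tr_idem hQ (hz.2.mono hQT) hzz
  -- w is nilpotent on each block
  have hran : T.subtype.range = T := Subgroup.range_subtype T
  have hwZ' : w ∈ Z T.subtype.range := by rw [hran]; exact hwZ
  obtain ⟨wt, hwt⟩ := emb_surj (Subgroup.subtype_injective T) hwZ'
  have hom : ∀ χ : IrrCharacter T, MemLocalIdeal M (omI χ wt) := by
    intro χ
    rw [omI_apply]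
    haveI : Fintype (ConjClasses T) := Fintype.ofFinite _
    rw [om_eq_sum]
    apply ideal_sum
    intro c _
    by_cases hc : ((rep c : T) : G) ∈ Ce Q
    · apply ideal_mul_right _ (om_cs_mem χ _)
      rw [← rd_eq_zero_iff (wt.2 _), ← emb_c (Subgroup.subtype_injective T), hwt, hw]
      show (z - tr (Ce Q) z).coeff ((rep c : T) : G) = 0
      rw [MonoidAlgebra.coeff_sub, Finsupp.sub_apply, tr_c_of_mem _ hc, sub_self]
    · apply ideal_mul_left (wt.2 _)
      haveI : (Q.subgroupOf T).Normal := by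
        constructor
        intro n hn' g
        rw [Subgroup.mem_subgroupOf] at hn' ⊢
        exact (Subgroup.mem_normalizer_iff.1 (hn g.2) n).1 hn'
      apply om_cs_mem_ideal hM (Q.subgroupOf T) (hQ.comap_of_injective _ (Subgroup.subtype_injective T))
      intro h
      apply hc
      rw [Subgroup.mem_centralizer_iff] at h ⊢
      intro q hq
      exact congrArg Subtype.val (h ⟨q, hQT hq⟩ (Subgroup.mem_subgroupOf.2 hq))
  have hw3 : w * w * w = w := by
    have hc : z * tr (Ce Q) z = tr (Ce Q) z * z := Z_comm hz htrZ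
    set t := tr (Ce Q) z
    have e1 : w * w = z - z * t - z * t + t := by
      rw [hw, sub_mul, mul_sub, mul_sub, hzz, ← hc, htt]; abel
    rw [e1, hw]
    have e2 : z * t * z = z * t := by rw [mul_assoc, ← hc, ← mul_assoc, hzz]
    have e3 : z * t * t = z * t := by rw [mul_assoc, htt]
    rw [add_mul, sub_mul, sub_mul, mul_sub, mul_sub, mul_sub, hzz, e2, e3, ← hc, htt]
    abel
  have hwb : ∀ b ∈ blocks T M, w * ep M T b = 0 := by
    intro b hb
    have hb' := mem_blocks.1 hb
    obtain ⟨χ, hχ⟩ := block_nonempty hb'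
    obtain ⟨n, hn'⟩ := pow_mul_eps (Subgroup.subtype_injective T) hb' wt hχ (hom χ)
    rw [hwt, ← ep_eq] at hn'
    have hpow : ∀ m : ℕ, w ^ (2 * m + 1) = w := by
      intro m
      induction m with
      | zero => rw [mul_zero, zero_add, pow_one]
      | succ m ih =>
        have : 2 * (m + 1) + 1 = (2 * m + 1) + 2 := by ring
        rw [this, pow_add, ih, sq, ← mul_assoc, hw3]
    rw [← hpow n]
    have : 2 * n + 1 = (n + 1) + n := by ring
    rw [this, pow_add, mul_assoc, hn', mul_zero]
  have hw0 : w = 0 := by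
    have h1 : w = ∑ b ∈ blocks T M, w * ep M T b := by
      have h2 := sum_eps (M := M) (Subgroup.subtype_injective T)
      rw [← Finset.mul_sum]
      have h3 : ∑ b ∈ blocks T M, ep M T b = 1 := by
        rw [← h2]; exact Finset.sum_congr rfl fun b _ => ep_eq T b
      rw [h3, mul_one]
    rw [h1]
    exact Finset.sum_eq_zero hwb
  rw [hw, sub_eq_zero] at hw0
  rw [hw0]
  exact supp_tr _ _

/-- a stable block of `C(Q)` is a block of the stabilizer -/
theorem isBlk_stab (hM : IsPModular p M) {T Q : Subgroup G} (hQ : IsPGroup p Q) (hQT : Q ≤ T)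
    (hn : T ≤ Subgroup.normalizer (Q : Set G)) (hCT : Ce Q ≤ T) {f : MonoidAlgebra (KM M) G}
    (hf : IsBlk (Ce Q) f) (hfix : Fix T f) : IsBlk T f where
  mem := ⟨hf.mem.1.mono hCT, hfix⟩
  idem := hf.idem
  ne := hf.ne
  prim z hz hzz := hf.prim z ⟨supp_of_normal hM hQ hQT hn hz hzz, hz.2.mono hCT⟩ hzz

/-- existence of the block of the stabilizer -/
theorem exists_stab (hM : IsPModular p M) {T Q : Subgroup G} (hQ : IsPGroup p Q) (hQT : Q ≤ T)
    (hn : T ≤ Subgroup.normalizer (Q : Set G)) (hCT : Ce Q ≤ T)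
    {f : Set (IrrCharacter (Subgroup.centralizer (Q : Set G)))} (hf : IsPBlock M f)
    (hst : ∀ t ∈ T, StabilizesBlock (Subgroup.centralizer (Q : Set G)) f t) :
    ∃ F : Set (IrrCharacter T), IsPBlock M F ∧ ep M T F = ep M (Ce Q) f ∧
      ∀ t : T, blockCoeff F t = subgroupBlockCoeff (Subgroup.centralizer (Q : Set G)) f (t : G) := by
  have h1 : IsBlk T (ep M (Ce Q) f) := isBlk_stab hM hQ hQT hn hCT (isBlk_ep hf)
    (fun t ht => ((stabilizes_iff hf t).1 (hst t ht)).2)
  obtain ⟨F, hF, hFe⟩ := exists_ep h1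
  refine ⟨F, hF, hFe, fun t => ?_⟩
  have := sbc_eq_of_ep hCT hF hf hst hFe (t : G)
  rwa [sbc_mem F t.2] at this

end

end Cfsg.Agent.H25.BPNorm
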