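import Mathlib
import Cfsg.Agent.H25_BPNorm

/-!
# Centralizers and normalizers of subpairs of a maximal pair
-/

set_option autoImplicit false
set_option linter.unusedSectionVars false
set_option linter.style.haveILetI false

namespace Cfsg.Agent.H25.BPSub

open Cfsg Cfsg.Agent.H10.BlockLoc Cfsg.Agent.H10.BlockAlg Cfsg.Agent.H10.BlockIdem Cfsg.Agent.H10.BlockDefect
  Cfsg.Agent.H3.CharIrr Cfsg.Agent.H25.Red Cfsg.Agent.H25.KG Cfsg.Agent.H25.BPTr Cfsg.Agent.H25.BPMain
  Cfsg.Agent.H25.BPDef Cfsg.Agent.H25.BPNorm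

section gen

variable {k : Type*} [Field k] {G : Type*} [Group G] [Fintype G] {p : ℕ} [hp : Fact p.Prime] [CharP k p]

/-- `Q` fixes elements supported on `C(Q)` -/
theorem fix_of_supp {Q : Subgroup G} {f : MonoidAlgebra k G} (h : Supp (Ce Q) f) : Fix Q f := by
  rw [fix_iff]
  intro c hc x
  by_cases hx : x ∈ Ce Q
  · congr 1
    have := Subgroup.mem_centralizer_iff.1 hx c hc
    rw [this, mul_inv_cancel_right]
  · rw [h.zero_of hx]
    by_contra h1
    have h2 := h _ h1
    have h3 := Subgroup.mem_centralizer_iff.1 h2 c hc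
    apply hx
    have h4 : c * x * c⁻¹ = x := by
      have h5 : c * (c * x * c⁻¹) = c * x := by rw [h3]; group
      exact mul_left_cancel h5
    rwa [h4] at h2

theorem fix_sup {A B : Subgroup G} {f : MonoidAlgebra k G} (hA : Fix A f) (hB : Fix B f) : Fix (A ⊔ B) f := by
  let S : Subgroup G :=
    { carrier := {g | cnj g f = f}
      one_mem' := cnj_one_apply f
      mul_mem' := fun {a b} ha hb => by
        show cnj (a * b) f = f
        rw [cnj_mul_apply, show cnj b f = f from hb, show cnj a f = f from ha]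
      inv_mem' := fun {a} ha => by
        show cnj a⁻¹ f = f
        have h1 : cnj a f = f := ha
        conv_lhs => rw [← h1]
        exact cnj_inv_cnj a f }
  have h1 : A ⊔ B ≤ S := sup_le (fun a ha => hA a ha) (fun b hb => hB b hb)
  exact fun g hg => h1 hg

omit [Fintype G] in
theorem Ce_sup (A B : Subgroup G) : Ce (A ⊔ B) = Ce A ⊓ Ce B := by
  apply le_antisymm
  · exact le_inf (Ce_anti le_sup_left) (Ce_anti le_sup_right)
  · intro x hx
    have h1 : A ⊔ B ≤ Subgroup.centralizer ({x} : Set G) := by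
      rw [sup_le_iff]
      constructor
      · intro a ha
        rw [Subgroup.mem_centralizer_singleton_iff]
        exact (Subgroup.mem_centralizer_iff.1 hx.1 a ha)
      · intro b hb
        rw [Subgroup.mem_centralizer_singleton_iff]
        exact (Subgroup.mem_centralizer_iff.1 hx.2 b hb)
    rw [Ce, Subgroup.mem_centralizer_iff]
    intro y hy
    exact (Subgroup.mem_centralizer_singleton_iff.1 (h1 hy))

omit [Fintype G] hp in
theorem isPGroup_sup [Finite G] {Q R : Subgroup G} (hQ : IsPGroup p Q) (hR : IsPGroup p R)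
    (hn : R ≤ Subgroup.normalizer (Q : Set G)) : IsPGroup p (Q ⊔ R : Subgroup G) := by
  rw [sup_comm]
  exact hR.to_sup_of_normal_right' hQ hn

theorem lemA {P Q : Subgroup G} {e f : MonoidAlgebra k G} (hP : IsPGroup p P) (he : IsBlk (Ce P) e)
    (h : LE p Q f P e) {R : Subgroup G} (hR : R ≤ P) (hn : R ≤ Subgroup.normalizer (Q : Set G)) :
    tr (Ce R) f ≠ 0 ∧ Fix R f := by
  have hQR : Q ⊔ R ≤ P := sup_le h.le hR
  obtain ⟨g, hg, hle⟩ := le_exists hP he hQR
  have h1 := LE.between hP he h hle le_sup_left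
  have h2 := h1.ns (hP.to_le hQR) hg (sup_le Subgroup.le_normalizer hn)
  refine ⟨fun h3 => ?_, h2.fix.mono le_sup_right⟩
  apply h2.ne
  have := tr_tr (k := k) (Ce_anti (le_sup_right : R ≤ Q ⊔ R)) f
  rw [← this, h3, map_zero]

theorem lemB {B : MonoidAlgebra k G} {P Q : Subgroup G} {e f : MonoidAlgebra k G} (hP : BP p B P e)
    (htop : Top p P e) (hQ : BP p B Q f) {D : Subgroup G} (hDp : IsPGroup p D)
    (hn : D ≤ Subgroup.normalizer (Q : Set G)) (hfix : Fix D f) (hne : tr (Ce D) f ≠ 0) :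
    ∃ x, LE p (cs x Q) (cnj x f) P e ∧ cs x D ≤ P := by
  have h1 : IsPGroup p (Q ⊔ D : Subgroup G) := isPGroup_sup hQ.pg hDp hn
  have h2 : Fix (Q ⊔ D) f := fix_sup (fix_of_supp hQ.be.mem.1) hfix
  have h3 : tr (Ce (Q ⊔ D)) f ≠ 0 := by
    obtain ⟨y, hy, hy'⟩ := exists_coeff_of_tr_ne hne
    refine tr_ne_of_coeff (y := y) ?_ hy'
    rw [Ce_sup]
    exact ⟨hQ.be.mem.1 y hy', hy⟩
  obtain ⟨g, hg⟩ := exists_above h1 hQ.be le_sup_left (sup_le Subgroup.le_normalizer hn) h2 h3
  have h4 : BP p B (Q ⊔ D) g := hQ.up h1 hg.be (LE.of_ns hg)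
  obtain ⟨x, hx⟩ := hP.conj_le htop h4
  refine ⟨x, ((LE.of_ns hg).cnj x).trans hx, (cs_mono x le_sup_right).trans hx.le⟩

end gen

section

variable {M : Ideal AlgInt} {G : Type*} [Group G] [Fintype G] {p : ℕ} [hp : Fact p.Prime]
  [hMax : M.IsMaximal] [hch : CharP (KM M) p]

/-- common form of both statements -/
theorem exists_conj {B : MonoidAlgebra (KM M) G} {P Q : Subgroup G} {e f : MonoidAlgebra (KM M) G}
    (hP : BP p B P e) (htop : Top p P e) (hQ : BP p B Q f) {H D : Subgroup G} (hD : DGH p H f D)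
    (hn : H ≤ Subgroup.normalizer (Q : Set G)) (hfix : Fix H f) :
    ∃ x, LE p (cs x Q) (cnj x f) P e ∧ DGH p (cs x H) (cnj x f) (P ⊓ cs x H) := by
  obtain ⟨x, hx, hDx⟩ := lemB hP htop hQ hD.pg (hD.le.trans hn) (hfix.mono hD.le) hD.ne
  refine ⟨x, hx, ?_⟩
  have h1 := hD.cnj x
  have hn' : P ⊓ cs x H ≤ Subgroup.normalizer ((cs x Q : Subgroup G) : Set G) := by
    rw [normalizer_cs]; exact inf_le_right.trans (cs_mono x hn)
  apply h1.of_card inf_le_right (hP.pg.to_le inf_le_left) (lemA hP.pg hP.be hx inf_le_left hn').1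
  exact Nat.card_le_card_of_injective _ (Subgroup.inclusion_injective (le_inf hDx (cs_mono x hD.le)))

end

end Cfsg.Agent.H25.BPSub
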