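import Mathlib
import Cfsg.Agent.H25_KGMax

/-!
# `(kG)^N` as a `G/N`-graded algebra: ideals with nilpotent 1-component are nilpotent
-/

set_option autoImplicit false
set_option linter.unusedSectionVars false
set_option linter.style.haveILetI false

namespace Cfsg.Agent.H25.KG

open scoped Pointwise

variable {k : Type*} [Field k] {G : Type*} [Group G] [Fintype G]

section basic

variable (N : Subgroup G)

noncomputable local instance fintypeQuot : Fintype (G ⧸ N) := Fintype.ofFinite _

open Classical in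
/-- component in a coset -/
noncomputable def co (q : G ⧸ N) : MonoidAlgebra k G →ₗ[k] MonoidAlgebra k G where
  toFun a := ofF fun x => if (x : G ⧸ N) = q then a.coeff x else 0
  map_add' a b := by
    apply ext_c; intro x
    simp only [coeff_ofF, MonoidAlgebra.coeff_add, Finsupp.add_apply]
    split_ifs <;> simp
  map_smul' c a := by
    apply ext_c; intro x
    simp only [coeff_ofF, MonoidAlgebra.coeff_smul, Finsupp.smul_apply, RingHom.id_apply]
    split_ifs <;> simp

theorem co_c_of {q : G ⧸ N} (a : MonoidAlgebra k G) {x : G} (hx : (x : G ⧸ N) = q) :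
    (co N q a).coeff x = a.coeff x := by
  classical
  show (if (x : G ⧸ N) = q then a.coeff x else 0) = _
  rw [if_pos hx]

theorem co_c_not {q : G ⧸ N} (a : MonoidAlgebra k G) {x : G} (hx : (x : G ⧸ N) ≠ q) :
    (co N q a).coeff x = 0 := by
  classical
  show (if (x : G ⧸ N) = q then a.coeff x else 0) = _
  rw [if_neg hx]

/-- supported in a coset -/
def SC (q : G ⧸ N) (a : MonoidAlgebra k G) : Prop := ∀ x, a.coeff x ≠ 0 → (x : G ⧸ N) = q

theorem sc_co (q : G ⧸ N) (a : MonoidAlgebra k G) : SC N q (co N q a) := by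
  intro x hx
  by_contra h
  exact hx (co_c_not N a h)

theorem sum_co (a : MonoidAlgebra k G) : ∑ q : G ⧸ N, co N q a = a := by
  classical
  apply ext_c; intro x
  rw [MonoidAlgebra.coeff_sum, Finsupp.finsetSum_apply, Finset.sum_eq_single (x : G ⧸ N)]
  · exact co_c_of N a rfl
  · intro q _ hq
    exact co_c_not N a (Ne.symm hq)
  · intro h; exact absurd (Finset.mem_univ _) h

variable {N}

theorem SC.zero_of {q : G ⧸ N} {a : MonoidAlgebra k G} (h : SC N q a) {x : G} (hx : (x : G ⧸ N) ≠ q) :
    a.coeff x = 0 := by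
  by_contra h1; exact hx (h x h1)

variable [hN : N.Normal]

theorem SC.mul {q r : G ⧸ N} {a b : MonoidAlgebra k G} (ha : SC N q a) (hb : SC N r b) : SC N (q * r) (a * b) := by
  intro x hx
  rw [mul_c] at hx
  obtain ⟨y, _, hy⟩ := Finset.exists_ne_zero_of_sum_ne_zero hx
  have h1 := ha y (left_ne_zero_of_mul hy)
  have h2 := hb _ (right_ne_zero_of_mul hy)
  rw [← h1, ← h2, ← QuotientGroup.mk_mul, mul_inv_cancel_left]

theorem sc_one : SC N (1 : G ⧸ N) (1 : MonoidAlgebra k G) := by
  classical
  intro x hx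
  rw [one_c] at hx
  split_ifs at hx with h
  · rw [h]; rfl
  · exact absurd rfl hx

omit hN in
theorem sc_one_iff {a : MonoidAlgebra k G} : SC N ((1 : G) : G ⧸ N) a ↔ Supp N a := by
  constructor
  · intro h x hx
    have := h x hx
    rw [QuotientGroup.eq] at this
    rw [← inv_mem_iff]
    simpa using this
  · intro h x hx
    have := h x hx
    rw [QuotientGroup.eq]
    simpa using this

theorem Fix.co {a : MonoidAlgebra k G} (h : Fix N a) (q : G ⧸ N) : Fix N (KG.co N q a) := by
  rw [fix_iff]
  intro c hc x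
  have e1 : ((c * x * c⁻¹ : G) : G ⧸ N) = (x : G ⧸ N) := by
    rw [QuotientGroup.mk_mul, QuotientGroup.mk_mul, QuotientGroup.mk_inv, (QuotientGroup.eq_one_iff c).2 hc]
    simp
  by_cases hx : (x : G ⧸ N) = q
  · rw [co_c_of N a hx, co_c_of N a (e1.trans hx)]
    exact h.c hc x
  · rw [co_c_not N a hx, co_c_not N a (fun h => hx (e1.symm.trans h))]

/-- moving central elements of `kN` across homogeneous `N`-fixed elements -/
theorem SC.comm {x : G} {c j : MonoidAlgebra k G} (hc : SC N (x : G ⧸ N) c) (hj : j ∈ Z N) :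
    c * j = cnj x j * c := by
  apply ext_c; intro g
  rw [mul_c, mul_c']
  refine Finset.sum_congr rfl fun y _ => ?_
  by_cases hy : c.coeff y = 0
  · rw [hy, zero_mul, mul_zero]
  · rw [mul_comm]
    congr 1
    rw [cnj_c]
    have h1 := hc y hy
    rw [eq_comm, QuotientGroup.eq] at h1
    have h2 := hj.2.c h1 (y⁻¹ * g)
    rw [← h2]
    congr 1
    group

theorem cnj_mem_Z {j : MonoidAlgebra k G} (hj : j ∈ Z N) (x : G) : cnj x j ∈ Z N := by
  have := Z_cnj hj x
  rwa [mem_normalizer_iff_cs.1 (by rw [Subgroup.normalizer_eq_top]; exact Subgroup.mem_top x)] at this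

end basic

section nilgen

theorem gen_nil {R A k : Type*} [CommRing R] [IsNoetherianRing R] [Ring A] [Field k] [Algebra k A] (f : R →+* A)
    (J : Submodule k A) (hJ : ∀ j ∈ J, ∃ r : R, IsNilpotent r ∧ f r = j)
    (hk : ∀ c : k, ∃ r : R, f r = algebraMap k A c) : ∃ L : ℕ, J ^ L = ⊥ := by
  obtain ⟨L, hL⟩ := IsNoetherianRing.isNilpotent_nilradical R
  refine ⟨L, ?_⟩
  have key : ∀ n : ℕ, ∀ x ∈ J ^ n, ∃ r ∈ (nilradical R) ^ n, f r = x := by
    intro n
    induction n with
    | zero =>
      intro x hx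
      rw [pow_zero, Submodule.mem_one] at hx
      obtain ⟨c, hc⟩ := hx
      obtain ⟨r, hr⟩ := hk c
      refine ⟨r, by rw [pow_zero, Ideal.one_eq_top]; exact Submodule.mem_top, hr.trans hc⟩
    | succ n ih =>
      intro x hx
      rw [pow_succ] at hx
      refine Submodule.mul_induction_on hx ?_ ?_
      · intro m hm j hj
        obtain ⟨r, hr, rfl⟩ := ih m hm
        obtain ⟨s, hs, rfl⟩ := hJ j hj
        refine ⟨r * s, ?_, map_mul f r s⟩
        rw [pow_succ]
        exact Ideal.mul_mem_mul hr (mem_nilradical.2 hs)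
      · intro x y hx hy
        obtain ⟨r, hr, rfl⟩ := hx
        obtain ⟨s, hs, rfl⟩ := hy
        exact ⟨r + s, Ideal.add_mem _ hr hs, map_add f r s⟩
  rw [eq_bot_iff]
  intro x hx
  obtain ⟨r, hr, rfl⟩ := key L x hx
  rw [hL] at hr
  rw [Submodule.mem_bot]
  have : r = 0 := by simpa using hr
  rw [this, map_zero]

end nilgen

section nil

noncomputable local instance fintypeQuot2 (N : Subgroup G) : Fintype (G ⧸ N) := Fintype.ofFinite _

variable (k) (N : Subgroup G)

/-- the `N`-fixed elements -/
noncomputable def FA : Subalgebra k (MonoidAlgebra k G) where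
  carrier := {a | Fix N a}
  mul_mem' ha hb := ha.mul hb
  add_mem' ha hb := ha.add hb
  algebraMap_mem' r := fun g _ => (cnj g).commutes r

theorem mem_FA {a : MonoidAlgebra k G} : a ∈ FA k N ↔ Fix N a := Iff.rfl

/-- nilpotent elements of `Z(kN)` -/
noncomputable def nilZ : Submodule k (MonoidAlgebra k G) where
  carrier := {a | a ∈ Z N ∧ IsNilpotent a}
  zero_mem' := ⟨(Z N).zero_mem, IsNilpotent.zero⟩
  add_mem' ha hb := ⟨(Z N).add_mem ha.1 hb.1, Commute.isNilpotent_add (Z_comm ha.1 hb.1) ha.2 hb.2⟩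
  smul_mem' c _ ha := ⟨(Z N).smul_mem ha.1 c, ha.2.smul c⟩

omit [Fintype G] in
theorem mul_mono' {A B C D : Submodule k (MonoidAlgebra k G)} (h : A ≤ B) (h' : C ≤ D) : A * C ≤ B * D := by
  rw [Submodule.mul_le]
  exact fun a ha c hc => Submodule.mul_mem_mul (h ha) (h' hc)

theorem mem_nilZ {a : MonoidAlgebra k G} : a ∈ nilZ k N ↔ a ∈ Z N ∧ IsNilpotent a := Iff.rfl

theorem nilZ_pow : ∃ L : ℕ, nilZ k N ^ L = ⊥ := by
  letI : CommRing (Z (k := k) N) := { (inferInstance : Ring (Z (k := k) N)) with
    mul_comm := fun a b => Subtype.ext (Z_comm a.2 b.2) }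
  haveI : IsNoetherianRing (Z (k := k) N) := by
    haveI : Module.Finite k (Z (k := k) N) := inferInstance
    exact IsNoetherianRing.of_finite k (Z (k := k) N)
  apply gen_nil (R := Z (k := k) N) (Z (k := k) N).val.toRingHom
  · intro j hj
    refine ⟨⟨j, hj.1⟩, ?_, rfl⟩
    obtain ⟨n', hn'⟩ := hj.2
    exact ⟨n', Subtype.ext hn'⟩
  · intro c
    exact ⟨algebraMap k (Z (k := k) N) c, rfl⟩

variable [hN : N.Normal]

theorem FA_mul_nilZ : (Subalgebra.toSubmodule (FA k N)) * nilZ k N ≤ nilZ k N * (Subalgebra.toSubmodule (FA k N)) := by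
  rw [Submodule.mul_le]
  intro c hc j hj
  rw [← sum_co N c, Finset.sum_mul]
  apply Submodule.sum_mem
  intro q _
  obtain ⟨x, rfl⟩ := QuotientGroup.mk_surjective q
  have hc' : Fix N (co N (x : G ⧸ N) c) := Fix.co hc _
  have h1 := (sc_co N (x : G ⧸ N) c).comm hj.1
  rw [h1]
  exact Submodule.mul_mem_mul ⟨cnj_mem_Z hj.1 x, hj.2.map (cnj x)⟩ hc'

/-- the ideal generated by the nilpotent elements of `Z(kN)` -/
noncomputable def UI : Submodule k (MonoidAlgebra k G) := nilZ k N * (Subalgebra.toSubmodule (FA k N))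

theorem FA_mul_FA : (Subalgebra.toSubmodule (FA k N)) * (Subalgebra.toSubmodule (FA k N)) ≤
    (Subalgebra.toSubmodule (FA k N)) := by
  rw [Submodule.mul_le]
  intro a ha b hb
  exact (FA k N).mul_mem ha hb

theorem UI_pow (m : ℕ) : UI k N ^ m ≤ nilZ k N ^ m * (Subalgebra.toSubmodule (FA k N)) := by
  induction m with
  | zero =>
    rw [pow_zero, pow_zero, one_mul]
    rintro x hx
    rw [Submodule.mem_one] at hx
    obtain ⟨c, rfl⟩ := hx
    exact (FA k N).algebraMap_mem c
  | succ m ih =>
    set C := Subalgebra.toSubmodule (FA k N)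
    calc UI k N ^ (m + 1) = UI k N ^ m * UI k N := pow_succ _ _
      _ ≤ (nilZ k N ^ m * C) * (nilZ k N * C) := mul_mono' k ih le_rfl
      _ = nilZ k N ^ m * ((C * nilZ k N) * C) := by simp only [mul_assoc]
      _ ≤ nilZ k N ^ m * ((nilZ k N * C) * C) :=
        mul_mono' k le_rfl (mul_mono' k (FA_mul_nilZ k N) le_rfl)
      _ = nilZ k N ^ (m + 1) * (C * C) := by rw [pow_succ]; simp only [mul_assoc]
      _ ≤ nilZ k N ^ (m + 1) * C := mul_mono' k le_rfl (FA_mul_FA k N)

theorem UI_idem {e : MonoidAlgebra k G} (he : e ∈ UI k N) (hee : e * e = e) : e = 0 := by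
  obtain ⟨L, hL⟩ := nilZ_pow k N
  have h1 : ∀ m : ℕ, e ∈ UI k N ^ (m + 1) := by
    intro m
    induction m with
    | zero => rw [zero_add, pow_one]; exact he
    | succ m ih =>
      rw [pow_succ, ← hee]
      exact Submodule.mul_mem_mul ih he
  have h2 := UI_pow k N (L + 1) (h1 L)
  rw [pow_succ, hL, Submodule.bot_mul, Submodule.bot_mul, Submodule.mem_bot] at h2
  exact h2

variable {k N}

theorem word {f : G ⧸ N → MonoidAlgebra k G} (hf : ∀ q, Fix N (f q)) (hs : ∀ q, SC N q (f q))
    {b : MonoidAlgebra k G} (hb : ∀ q, f q * b = f q)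
    (H : ∀ q, ∀ y, Fix N y → SC N q⁻¹ y → f q * y * b ∈ nilZ k N) (l : List (G ⧸ N))
    (hl : Nat.card (G ⧸ N) ≤ l.length) : (l.map f).prod ∈ UI k N := by
  classical
  set C := Subalgebra.toSubmodule (FA k N) with hC
  have hC1 : ∀ l : List (G ⧸ N), (l.map f).prod ∈ FA k N := by
    intro l
    apply Subalgebra.list_prod_mem
    intro x hx
    rw [List.mem_map] at hx
    obtain ⟨q, _, rfl⟩ := hx
    exact hf q
  have hS1 : ∀ l : List (G ⧸ N), SC N l.prod (l.map f).prod := by
    intro l
    induction l with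
    | nil => exact sc_one
    | cons q l ih =>
      rw [List.map_cons, List.prod_cons, List.prod_cons]
      exact (hs q).mul ih
  obtain ⟨i, j, hij, hP⟩ := Fintype.exists_ne_map_eq_of_card_lt
    (fun i : Fin (l.length + 1) => (l.take i).prod) (by
      rw [Fintype.card_fin, ← Nat.card_eq_fintype_card]; omega)
  wlog hlt : i < j generalizing i j
  · exact this j i hij.symm hP.symm (lt_of_le_of_ne (not_lt.1 hlt) hij.symm)
  have h1 : l = l.take i ++ ((l.take j).drop i ++ l.drop j) := by
    rw [← List.append_assoc]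
    have : l.take i ++ (l.take j).drop i = l.take j := by
      have h2 : l.take (i : ℕ) = (l.take (j : ℕ)).take i := by
        rw [List.take_take, min_eq_left (show (i : ℕ) ≤ (j : ℕ) from le_of_lt hlt)]
      rw [h2, List.take_append_drop]
    rw [this, List.take_append_drop]
  set m := (l.take j).drop i with hm
  have hmp : m.prod = 1 := by
    have h2 : (l.take i).prod * m.prod = (l.take j).prod := by
      rw [← List.prod_append]
      congr 1
      have h2 : l.take (i : ℕ) = (l.take (j : ℕ)).take i := by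
        rw [List.take_take, min_eq_left (show (i : ℕ) ≤ (j : ℕ) from le_of_lt hlt)]
      rw [h2, hm, List.take_append_drop]
    rw [← hP] at h2
    exact mul_left_cancel (h2.trans (mul_one _).symm)
  have hml : m ≠ [] := by
    intro h0
    have h2 : m.length = 0 := by rw [h0]; rfl
    have hj := j.2
    have hlt' : (i : ℕ) < (j : ℕ) := hlt
    rw [hm, List.length_drop, List.length_take] at h2
    omega
  have hmJ : (m.map f).prod ∈ nilZ k N := by
    obtain ⟨q, m', hm'⟩ := List.exists_cons_of_ne_nil hml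
    rw [hm'] at hmp ⊢
    rw [List.prod_cons] at hmp
    have h3 : m'.prod = q⁻¹ := (inv_eq_of_mul_eq_one_right hmp).symm
    have h4 := H q (m'.map f).prod (hC1 m') (h3 ▸ hS1 m')
    have h5 : f q * (m'.map f).prod * b = f q * (m'.map f).prod := by
      rcases List.eq_nil_or_concat m' with h6 | ⟨m'', q', h6⟩
      · rw [h6, List.map_nil, List.prod_nil, mul_one, hb]
      · rw [h6, List.concat_eq_append, List.map_append, List.prod_append, List.map_singleton, List.prod_singleton,
          mul_assoc, mul_assoc, hb]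
    rw [List.map_cons, List.prod_cons, ← h5]
    exact h4
  rw [h1, List.map_append, List.map_append, List.prod_append, List.prod_append]
  have h6 : (m.map f).prod * ((l.drop j).map f).prod ∈ nilZ k N * C := Submodule.mul_mem_mul hmJ (hC1 _)
  have h7 : ((l.take i).map f).prod * ((m.map f).prod * ((l.drop j).map f).prod) ∈ C * (nilZ k N * C) :=
    Submodule.mul_mem_mul (hC1 _) h6
  have h8 : C * (nilZ k N * C) ≤ UI k N := by
    rw [← mul_assoc]
    calc C * nilZ k N * C ≤ (nilZ k N * C) * C := mul_mono' k (FA_mul_nilZ k N) le_rfl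
      _ = nilZ k N * (C * C) := mul_assoc _ _ _
      _ ≤ nilZ k N * C := mul_mono' k le_rfl (FA_mul_FA k N)
  exact h8 h7

theorem sum_word {f : G ⧸ N → MonoidAlgebra k G} (m : ℕ) :
    (∑ q, f q) ^ m ∈ Submodule.span k {x | ∃ l : List (G ⧸ N), l.length = m ∧ (l.map f).prod = x} := by
  have key : ∀ (m : ℕ) (q : G ⧸ N) (x : MonoidAlgebra k G),
      x ∈ Submodule.span k {x | ∃ l : List (G ⧸ N), l.length = m ∧ (l.map f).prod = x} →
      x * f q ∈ Submodule.span k {x | ∃ l : List (G ⧸ N), l.length = m + 1 ∧ (l.map f).prod = x} := by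
    intro m q x hx
    induction hx using Submodule.span_induction with
    | mem x hx =>
      obtain ⟨l, hl, rfl⟩ := hx
      apply Submodule.subset_span
      refine ⟨l ++ [q], by rw [List.length_append, hl]; rfl, ?_⟩
      rw [List.map_append, List.prod_append, List.map_singleton, List.prod_singleton]
    | zero => rw [zero_mul]; exact Submodule.zero_mem _
    | add x y _ _ hx hy => rw [add_mul]; exact Submodule.add_mem _ hx hy
    | smul c x _ hx => rw [smul_mul_assoc]; exact Submodule.smul_mem _ c hx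
  induction m with
  | zero =>
    rw [pow_zero]
    exact Submodule.subset_span ⟨[], rfl, rfl⟩
  | succ m ih =>
    rw [pow_succ, Finset.mul_sum]
    apply Submodule.sum_mem
    exact fun q _ => key m q _ ih

/-- the graded lemma -/
theorem grd {b x : MonoidAlgebra k G} (hb : IsBlk N b) (hx : Fix N x) (hid : (x * b) * (x * b) = x * b)
    (hne : x * b ≠ 0) : ∃ (q : G ⧸ N) (y : MonoidAlgebra k G), Fix N y ∧ SC N q⁻¹ y ∧
      co N q x * b * y * b = b := by
  classical
  by_contra hcon
  push Not at hcon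
  let f : G ⧸ N → MonoidAlgebra k G := fun q => co N q x * b
  have hfs : ∀ q, SC N q (f q) := by
    intro q
    have h1 : SC N (1 : G ⧸ N) b := sc_one_iff.2 hb.mem.1
    have := (sc_co N q x).mul h1
    rwa [mul_one] at this
  have hff : ∀ q, Fix N (f q) := fun q => (Fix.co hx q).mul hb.mem.2
  have hfb : ∀ q, f q * b = f q := fun q => by
    show co N q x * b * b = co N q x * b
    rw [mul_assoc, hb.idem]
  have H : ∀ q, ∀ y, Fix N y → SC N q⁻¹ y → f q * y * b ∈ nilZ k N := by
    intro q y hy hys
    have hz : f q * y ∈ Z N := by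
      refine ⟨?_, (hff q).mul hy⟩
      have := (hfs q).mul hys
      rw [mul_inv_cancel] at this
      exact sc_one_iff.1 this
    have hzb : f q * y * b ∈ Z N := (Z N).mul_mem hz hb.mem
    refine ⟨hzb, ?_⟩
    rcases hb.nilp_or_unit hz with ⟨n, hn⟩ | ⟨z', hz', h1⟩
    · refine ⟨n + 1, ?_⟩
      have hc : Commute (f q * y) b := Z_comm hz hb.mem
      have h2 : ∀ m : ℕ, b ^ (m + 1) = b := by
        intro m
        induction m with
        | zero => rw [zero_add, pow_one]
        | succ m ih => rw [pow_succ, ih, hb.idem]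
      rw [hc.mul_pow, h2, pow_succ', mul_assoc, hn, mul_zero]
    · exfalso
      apply hcon q (y * z') (hy.mul hz'.2)
      · have h3 : SC N (1 : G ⧸ N) z' := sc_one_iff.2 hz'.1
        have := hys.mul h3
        rwa [mul_one] at this
      · refine Eq.trans ?_ h1
        show co N q x * b * (y * z') * b = co N q x * b * y * z' * b
        simp only [mul_assoc]
  have hsum : ∑ q, f q = x * b := by
    show ∑ q, co N q x * b = x * b
    rw [← Finset.sum_mul, sum_co]
  have h1 : x * b ∈ UI k N := by
    have h2 : ∀ m : ℕ, (x * b) ^ (m + 1) = x * b := by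
      intro m
      induction m with
      | zero => rw [zero_add, pow_one]
      | succ m ih => rw [pow_succ, ih, hid]
    have h3 := sum_word (f := f) (Nat.card (G ⧸ N) + 1)
    rw [hsum, h2] at h3
    refine Submodule.span_le.2 ?_ h3
    rintro _ ⟨l, hl, rfl⟩
    exact word hff hfs hfb H l (by omega)
  exact hne (UI_idem k N h1 hid)

end nil

end Cfsg.Agent.H25.KG
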