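import Mathlib
import Cfsg.Agent.H25_Grd
import Cfsg.Agent.H25_BPSub

/-!
# Covering of blocks inside `kG`
-/

set_option autoImplicit false
set_option linter.unusedSectionVars false
set_option linter.style.haveILetI false

namespace Cfsg.Agent.H25.Cov

open Cfsg.Agent.H25.KG Cfsg.Agent.H25.BPDef Cfsg.Agent.H25.BPSub
open scoped Pointwise

variable {k : Type*} [Field k] {G : Type*} [Group G] [Fintype G] {p : ℕ}

section

variable {N : Subgroup G}

open Classical in
/-- the `G`-orbit of a block of `N` -/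
noncomputable def orbN (N : Subgroup G) (b : MonoidAlgebra k G) : Finset (MonoidAlgebra k G) :=
  (blks k N).filter fun f => ∃ g : G, cnj g b = f

/-- the orbit sum -/
noncomputable def osN (N : Subgroup G) (b : MonoidAlgebra k G) : MonoidAlgebra k G := ∑ f ∈ orbN N b, f

theorem orbN_blk {b f : MonoidAlgebra k G} (h : f ∈ orbN N b) : IsBlk N f := by
  classical
  rw [orbN, Finset.mem_filter, mem_blks] at h
  exact h.1

omit [Fintype G] in
theorem cs_normal [hN : N.Normal] (g : G) : cs g N = N :=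
  mem_normalizer_iff_cs.1 (by rw [Subgroup.normalizer_eq_top]; exact Subgroup.mem_top g)

theorem cnj_blk [hN : N.Normal] {b : MonoidAlgebra k G} (hb : IsBlk N b) (g : G) : IsBlk N (cnj g b) := by
  have := hb.cnj g
  rwa [cs_normal] at this

variable [hN : N.Normal]

theorem mem_orbN {b : MonoidAlgebra k G} (hb : IsBlk N b) {f : MonoidAlgebra k G} :
    f ∈ orbN N b ↔ ∃ g : G, cnj g b = f := by
  classical
  rw [orbN, Finset.mem_filter, mem_blks]
  constructor
  · exact fun h => h.2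
  · rintro ⟨g, rfl⟩
    exact ⟨cnj_blk hb g, g, rfl⟩

theorem mem_orbN_self {b : MonoidAlgebra k G} (hb : IsBlk N b) : b ∈ orbN N b :=
  (mem_orbN hb).2 ⟨1, cnj_one_apply b⟩

theorem orbN_cnj {b : MonoidAlgebra k G} (hb : IsBlk N b) {f : MonoidAlgebra k G} (hf : f ∈ orbN N b) (n : G) :
    cnj n f ∈ orbN N b := by
  rw [mem_orbN hb] at hf ⊢
  obtain ⟨m, rfl⟩ := hf
  exact ⟨n * m, cnj_mul_apply n m b⟩

theorem osN_mem (N : Subgroup G) (b : MonoidAlgebra k G) : osN N b ∈ Z N := sum_mem_Z fun _ h => orbN_blk h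

theorem osN_idem (N : Subgroup G) (b : MonoidAlgebra k G) : osN N b * osN N b = osN N b :=
  sum_idem fun _ h => orbN_blk h

theorem osN_fix {b : MonoidAlgebra k G} (hb : IsBlk N b) (n : G) : cnj n (osN N b) = osN N b := by
  classical
  rw [osN, map_sum]
  refine Finset.sum_bij (fun f _ => cnj n f) (fun f hf => orbN_cnj hb hf n) (fun f _ g _ h => cnj_injective n h)
    (fun f hf => ⟨cnj n⁻¹ f, orbN_cnj hb hf _, cnj_cnj_inv n f⟩) (fun _ _ => rfl)

theorem osN_Z {b : MonoidAlgebra k G} (hb : IsBlk N b) : osN N b ∈ Z (⊤ : Subgroup G) :=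
  ⟨fun _ _ => Subgroup.mem_top _, fun g _ => osN_fix hb g⟩

theorem osN_mul_of_mem {b f : MonoidAlgebra k G} (hf : f ∈ orbN N b) : osN N b * f = f := by
  classical
  have h1 := sum_mul_of_mem (H := N) (s := orbN N b) (fun _ h => orbN_blk h) (orbN_blk hf)
  rw [if_pos hf] at h1
  exact h1

theorem osN_mul_self {b : MonoidAlgebra k G} (hb : IsBlk N b) : osN N b * b = b := osN_mul_of_mem (mem_orbN_self hb)

theorem osN_mul_ne {b f : MonoidAlgebra k G} (hb : IsBlk N b) (hf : IsBlk N f) (h : osN N b * f ≠ 0) :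
    ∃ g : G, cnj g b = f := by
  classical
  have h1 := sum_mul_of_mem (H := N) (s := orbN N b) (fun _ h => orbN_blk h) hf
  rw [← mem_orbN hb]
  by_contra h2
  rw [if_neg h2] at h1
  exact h h1

theorem osN_cnj {b : MonoidAlgebra k G} (hb : IsBlk N b) (g : G) : osN N (cnj g b) = osN N b := by
  classical
  have : orbN N (cnj g b) = orbN N b := by
    ext f
    rw [mem_orbN (cnj_blk hb g), mem_orbN hb]
    constructor
    · rintro ⟨h, rfl⟩; exact ⟨h * g, cnj_mul_apply h g b⟩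
    · rintro ⟨h, rfl⟩
      refine ⟨h * g⁻¹, ?_⟩
      rw [← cnj_mul_apply, inv_mul_cancel_right]
  rw [osN, osN, this]

/-- covering in terms of the orbit sum -/
theorem mul_osN {B b : MonoidAlgebra k G} (hB : IsBlk ⊤ B) (hb : IsBlk N b) (h : B * b ≠ 0) :
    B * osN N b = B := by
  have h1 : osN N b * B = B * osN N b := comm_of (osN_Z hb).2 (fun _ _ => Subgroup.mem_top _)
  rcases hB.prim _ (osN_Z hb) (osN_idem N b) with h2 | h2
  · rw [← h1, h2]
  · exfalso
    apply h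
    rw [← osN_mul_self hb, ← mul_assoc, ← h1, h2, zero_mul]

theorem cnj_top {B : MonoidAlgebra k G} (hB : IsBlk ⊤ B) (g : G) : cnj g B = B := hB.mem.2 g (Subgroup.mem_top g)

theorem cov_cnj {B b : MonoidAlgebra k G} (hB : IsBlk ⊤ B) (g : G) : B * cnj g b ≠ 0 ↔ B * b ≠ 0 := by
  have : B * cnj g b = cnj g (B * b) := by rw [map_mul, cnj_top hB]
  rw [this, not_iff_not]
  constructor
  · intro h
    have := congrArg (cnj g⁻¹) h
    rwa [cnj_inv_cnj, map_zero] at this
  · intro h; rw [h, map_zero]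

/-- two blocks of `N` covered by `B` are conjugate -/
theorem cov_conj {B b c : MonoidAlgebra k G} (hB : IsBlk ⊤ B) (hb : IsBlk N b) (hc : IsBlk N c) (h : B * b ≠ 0)
    (h' : B * c ≠ 0) : ∃ g : G, cnj g b = c := by
  apply osN_mul_ne hb hc
  intro h0
  apply h'
  rw [← mul_osN hB hb h, mul_assoc, h0, mul_zero]

theorem exists_covered (N : Subgroup G) {B : MonoidAlgebra k G} (hB : IsBlk ⊤ B) : ∃ b, IsBlk N b ∧ B * b ≠ 0 := by
  by_contra hcon
  push Not at hcon
  apply hB.ne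
  have h1 : B = ∑ f ∈ blks k N, B * f := by rw [← Finset.mul_sum, sum_blks, mul_one]
  rw [h1]
  exact Finset.sum_eq_zero fun f hf => hcon f (mem_blks.1 hf)

theorem exists_covering {b : MonoidAlgebra k G} (hb : IsBlk N b) : ∃ B, IsBlk ⊤ B ∧ B * b ≠ 0 := by
  by_contra hcon
  push Not at hcon
  apply hb.ne
  have h1 : b = ∑ f ∈ blks k (⊤ : Subgroup G), f * b := by rw [← Finset.sum_mul, sum_blks, one_mul]
  rw [h1]
  exact Finset.sum_eq_zero fun f hf => hcon f (mem_blks.1 hf)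

end

section knorr

variable [hp : Fact p.Prime] [CharP k p] {N : Subgroup G} [hN : N.Normal]

/-- defect groups of covered blocks are contained in defect groups of the covering block -/
theorem tr_ne_of_cov {x b : MonoidAlgebra k G} (hb : IsBlk N b) (hx : Fix N x) (hid : (x * b) * (x * b) = x * b)
    (hne : x * b ≠ 0) {Q : Subgroup G} (hQ : IsPGroup p Q) (hQN : Q ≤ N) (hQb : tr (Ce Q) b ≠ 0) :
    tr (Ce Q) x ≠ 0 := by
  obtain ⟨q, y, hy, _, h⟩ := grd hb hx hid hne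
  have hbQ : Fix Q b := hb.mem.2.mono hQN
  have hcQ : Fix Q (co N q x) := (Fix.co hx q).mono hQN
  have h1 : tr (Ce Q) (co N q x) ≠ 0 := by
    intro h0
    apply hQb
    have h2 : co N q x * (b * y * b) = b := by
      refine Eq.trans ?_ h
      simp only [mul_assoc]
    rw [← h2, br_mul hQ hcQ ((hbQ.mul (hy.mono hQN)).mul hbQ), h0, zero_mul]
  obtain ⟨z, hz, hz'⟩ := exists_coeff_of_tr_ne h1
  refine tr_ne_of_coeff hz ?_
  rwa [co_c_of N x (sc_co N q x z hz')] at hz'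

theorem tr_ne_of_cov' {B b : MonoidAlgebra k G} (hB : IsBlk ⊤ B) (hb : IsBlk N b) (h : B * b ≠ 0)
    {Q : Subgroup G} (hQ : IsPGroup p Q) (hQN : Q ≤ N) (hQb : tr (Ce Q) b ≠ 0) : tr (Ce Q) B ≠ 0 := by
  apply tr_ne_of_cov hb (hB.mem.2.mono le_top) ?_ h hQ hQN hQb
  have h1 : b * B = B * b := (comm_of (hB.mem.2) (fun _ _ => Subgroup.mem_top _)).symm
  rw [mul_assoc, ← mul_assoc b, h1, mul_assoc, hb.idem, ← mul_assoc, hB.idem]

/-- a `P`-stable conjugate -/
theorem exists_stable {B b : MonoidAlgebra k G} (hB : IsBlk ⊤ B) (hb : IsBlk N b) (h : B * b ≠ 0)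
    {P : Subgroup G} (hP : IsPGroup p P) (hne : tr (Ce P) B ≠ 0) :
    ∃ g : G, Fix P (cnj g b) ∧ tr (Ce P) (cnj g b) ≠ 0 ∧ tr (Ce P) B * tr (Ce P) (cnj g b) ≠ 0 := by
  classical
  have hPB : Fix P B := hB.mem.2.mono le_top
  have hPo : Fix P (osN N b) := (osN_Z hb).2.mono le_top
  have h1 : tr (Ce P) B * tr (Ce P) (osN N b) ≠ 0 := by
    rw [← br_mul hP hPB hPo, mul_osN hB hb h]; exact hne
  let X := {f : MonoidAlgebra k G // f ∈ orbN N b}
  let act : MulAction P X :=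
    { smul := fun g f => ⟨cnj (g : G) f.1, orbN_cnj hb f.2 g⟩
      one_smul := fun f => Subtype.ext (cnj_one_apply f.1)
      mul_smul := fun g h f => Subtype.ext (cnj_mul_apply (g : G) (h : G) f.1) }
  have hsm : ∀ (g : P) (f : X), ((g • f : X) : MonoidAlgebra k G) = cnj (g : G) f.1 := fun _ _ => rfl
  have hinv : ∀ (g : P) (f : X), tr (Ce P) ((g • f : X) : MonoidAlgebra k G) = tr (Ce P) (f : MonoidAlgebra k G) := by
    intro g f
    apply ext_c; intro x
    by_cases hx : x ∈ Ce P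
    · rw [tr_c_of_mem _ hx, tr_c_of_mem _ hx, hsm, cnj_c]
      congr 1
      have := Subgroup.mem_centralizer_iff.1 hx g g.2
      rw [mul_assoc, ← this, inv_mul_cancel_left]
    · rw [tr_c_of_notMem _ hx, tr_c_of_notMem _ hx]
  obtain ⟨y, _, hy⟩ := Orbit.sum_fixed (p := p) hP (fun f : X => tr (Ce P) (f : MonoidAlgebra k G)) hinv
  rw [smul_p, sub_eq_zero] at hy
  have h2 : ∑ f : X, tr (Ce P) (f : MonoidAlgebra k G) = tr (Ce P) (osN N b) := by
    rw [← map_sum, Finset.sum_coe_sort (orbN N b) (fun f => f)]; rfl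
  rw [h2] at hy
  rw [hy, Finset.mul_sum] at h1
  obtain ⟨f, hf, hne'⟩ := Finset.exists_ne_zero_of_sum_ne_zero h1
  rw [Finset.mem_filter] at hf
  obtain ⟨g, hg⟩ := (mem_orbN hb).1 f.2
  refine ⟨g, ?_, ?_, ?_⟩
  · intro c hc
    have := congrArg Subtype.val (hf.2 ⟨c, hc⟩)
    rw [hg]; exact this
  · rw [hg]; intro h0; exact hne' (by rw [h0, mul_zero])
  · rw [hg]; exact hne'

/-- Knörr's theorem -/
theorem knorr {B b : MonoidAlgebra k G} (hB : IsBlk ⊤ B) (hb : IsBlk N b) (h : B * b ≠ 0) {D Q : Subgroup G}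
    (hD : DGH p ⊤ B D) (hQ : DGH p N b Q) :
    ∃ g : G, Fix D (cnj g b) ∧ tr (Ce D) B * tr (Ce D) (cnj g b) ≠ 0 ∧ DGH p N (cnj g b) (D ⊓ N) := by
  obtain ⟨g, hfix, hne, hne2⟩ := exists_stable hB hb h hD.pg hD.ne
  refine ⟨g, hfix, hne2, ?_⟩
  have hQg : DGH p N (cnj g b) (cs g Q) := by
    have := hQ.cnj g
    rwa [cs_normal] at this
  apply hQg.of_card inf_le_right (hD.pg.to_le inf_le_left)
  · obtain ⟨y, hy, hy'⟩ := exists_coeff_of_tr_ne hne
    exact tr_ne_of_coeff (Ce_anti inf_le_left hy) hy'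
  · have h1 := tr_ne_of_cov' hB hb h hQ.pg hQ.le hQ.ne
    obtain ⟨x, _, hx⟩ := hD.max Q le_top hQ.pg h1
    rw [card_cs]
    have h2 : Q ≤ cs x (D ⊓ N) := by
      intro z hz
      rw [mem_cs]
      refine ⟨mem_cs.1 (hx hz), ?_⟩
      have := hN.conj_mem z (hQ.le hz) x⁻¹
      rwa [inv_inv] at this
    rw [← card_cs x (D ⊓ N)]
    exact Nat.card_le_card_of_injective _ (Subgroup.inclusion_injective h2)

/-- prescribed defect group of the covered block -/
theorem knorr' {B b : MonoidAlgebra k G} (hB : IsBlk ⊤ B) (hb : IsBlk N b) (h : B * b ≠ 0) {D Q : Subgroup G}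
    (hD : DGH p ⊤ B D) (hQ : DGH p N b Q) : ∃ g : G, DGH p ⊤ B (cs g D) ∧ cs g D ⊓ N = Q := by
  obtain ⟨g, _, _, h1⟩ := knorr hB hb h hD hQ
  have hQg : DGH p N (cnj g b) (cs g Q) := by
    have := hQ.cnj g
    rwa [cs_normal] at this
  obtain ⟨n, _, hn⟩ := h1.conj_eq hQg
  refine ⟨g⁻¹ * n, hD.conj hB.mem.2 (Subgroup.mem_top _), ?_⟩
  have h2 : cs (g⁻¹ * n) D ⊓ N = cs (g⁻¹ * n) (D ⊓ N) := by
    ext z
    rw [Subgroup.mem_inf, mem_cs, mem_cs, Subgroup.mem_inf]
    apply and_congr_right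
    intro _
    constructor
    · intro hz
      have := hN.conj_mem z hz (g⁻¹ * n)⁻¹
      rwa [inv_inv] at this
    · intro hz
      have := hN.conj_mem _ hz (g⁻¹ * n)
      have e : g⁻¹ * n * ((g⁻¹ * n)⁻¹ * z * (g⁻¹ * n)) * (g⁻¹ * n)⁻¹ = z := by group
      rwa [e] at this
  rw [h2, cs_mul, ← hn, ← cs_mul, inv_mul_cancel, cs_one]

end knorr

end Cfsg.Agent.H25.Cov
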