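import Mathlib
import Cfsg.Agent.H25_BPDef

/-!
# The embedding of `kH` into `kG`
-/

set_option autoImplicit false
set_option linter.unusedSectionVars false
set_option linter.style.haveILetI false

namespace Cfsg.Agent.H25.Up

open Cfsg Cfsg.Agent.H25.KG Cfsg.Agent.H25.BPDef Cfsg.Agent.H25.Red Cfsg.Agent.H25.BPTr
open scoped Pointwise

section

variable {k : Type*} [Field k] {G : Type*} [Group G] [Fintype G] {p : ℕ}

/-- embedding -/
noncomputable def up (k : Type*) [Field k] (H : Subgroup G) : MonoidAlgebra k H →ₐ[k] MonoidAlgebra k G :=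
  MonoidAlgebra.mapDomainAlgHom k k H.subtype

variable {H : Subgroup G}

omit [Fintype G] in
theorem up_c (a : MonoidAlgebra k H) (x : H) : (up k H a).coeff (x : G) = a.coeff x := by
  unfold up
  show (MonoidAlgebra.mapDomain H.subtype a).coeff (x : G) = a.coeff x
  exact Finsupp.mapDomain_apply Subtype.val_injective _ _

omit [Fintype G] in
theorem up_c' (a : MonoidAlgebra k H) {x : G} (hx : x ∈ H) : (up k H a).coeff x = a.coeff ⟨x, hx⟩ :=
  up_c a ⟨x, hx⟩

omit [Fintype G] in
theorem up_c_not (a : MonoidAlgebra k H) {x : G} (hx : x ∉ H) : (up k H a).coeff x = 0 := by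
  unfold up
  show (MonoidAlgebra.mapDomain H.subtype a).coeff x = 0
  exact Finsupp.mapDomain_of_notMem_range _ _ (by simpa using hx)

omit [Fintype G] in
theorem up_supp (a : MonoidAlgebra k H) : Supp H (up k H a) := by
  intro x hx
  by_contra h
  exact hx (up_c_not a h)

omit [Fintype G] in
theorem up_inj : Function.Injective (up k H) := by
  intro a b h
  have : ∀ x : H, a.coeff x = b.coeff x := fun x => by rw [← up_c, ← up_c, h]
  apply MonoidAlgebra.coeff_injective
  exact Finsupp.ext this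

theorem up_surj {a : MonoidAlgebra k G} (h : Supp H a) : ∃ a' : MonoidAlgebra k H, up k H a' = a := by
  haveI : Fintype H := Fintype.ofFinite _
  refine ⟨ofF fun x => a.coeff (x : G), ?_⟩
  apply ext_c; intro x
  by_cases hx : x ∈ H
  · rw [up_c' _ hx]; rfl
  · rw [up_c_not _ hx, h.zero_of hx]

variable [Fintype H]

theorem up_cnj (x : H) (a : MonoidAlgebra k H) : up k H (cnj x a) = cnj (x : G) (up k H a) := by
  apply ext_c; intro y
  rw [cnj_c]
  by_cases hy : y ∈ H
  · rw [up_c' _ hy, up_c' _ (H.mul_mem (H.mul_mem (H.inv_mem x.2) hy) x.2), cnj_c]; rfl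
  · rw [up_c_not _ hy, up_c_not]
    intro h
    apply hy
    have : y = x * ((x : G)⁻¹ * y * x) * (x : G)⁻¹ := by group
    rw [this]
    exact H.mul_mem (H.mul_mem x.2 h) (H.inv_mem x.2)

omit [Fintype G] [Fintype H] in
theorem supp_map_iff {K : Subgroup H} {a : MonoidAlgebra k H} : Supp (K.map H.subtype) (up k H a) ↔ Supp K a := by
  constructor
  · intro h x hx
    obtain ⟨y, hy, hyx⟩ := h (x : G) (by rw [up_c]; exact hx)
    have : y = x := Subtype.ext hyx
    rwa [← this]
  · intro h x hx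
    have hxH : x ∈ H := by by_contra h1; exact hx (up_c_not a h1)
    rw [up_c' _ hxH] at hx
    exact ⟨_, h _ hx, rfl⟩

theorem fix_map_iff {K : Subgroup H} {a : MonoidAlgebra k H} : Fix (K.map H.subtype) (up k H a) ↔ Fix K a := by
  constructor
  · intro h x hx
    apply up_inj
    rw [up_cnj]
    exact h _ ⟨x, hx, rfl⟩
  · rintro h _ ⟨x, hx, rfl⟩
    have := congrArg (up k H) (h x hx)
    rw [up_cnj] at this
    exact this

theorem Z_map_iff {K : Subgroup H} {a : MonoidAlgebra k H} : up k H a ∈ Z (K.map H.subtype) ↔ a ∈ Z K :=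
  and_congr supp_map_iff fix_map_iff

theorem blk_map_iff {K : Subgroup H} {a : MonoidAlgebra k H} : IsBlk (K.map H.subtype) (up k H a) ↔ IsBlk K a := by
  constructor
  · intro h
    refine ⟨Z_map_iff.1 h.mem, up_inj ?_, ?_, ?_⟩
    · rw [map_mul]; exact h.idem
    · intro h0; apply h.ne; rw [h0, map_zero]
    · intro z hz hzz
      rcases h.prim _ (Z_map_iff.2 hz) (by rw [← map_mul, hzz]) with h1 | h1
      · left; apply up_inj; rw [map_mul]; exact h1
      · right; apply up_inj; rw [map_mul, map_zero]; exact h1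
  · intro h
    refine ⟨Z_map_iff.2 h.mem, ?_, ?_, ?_⟩
    · rw [← map_mul, h.idem]
    · intro h0; apply h.ne; apply up_inj; rw [h0, map_zero]
    · intro z hz hzz
      have hsupp : Supp H z := hz.1.mono (by rintro _ ⟨x, _, rfl⟩; exact x.2)
      obtain ⟨z', rfl⟩ := up_surj hsupp
      rcases h.prim z' (Z_map_iff.1 hz) (up_inj (by rw [map_mul]; exact hzz)) with h1 | h1
      · left; rw [← map_mul, h1]
      · right; rw [← map_mul, h1, map_zero]

omit [Fintype G] [Fintype H] in
theorem top_map : (⊤ : Subgroup H).map H.subtype = H := by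
  ext x
  constructor
  · rintro ⟨y, _, rfl⟩; exact y.2
  · intro hx; exact ⟨⟨x, hx⟩, trivial, rfl⟩

theorem blk_top_iff {a : MonoidAlgebra k H} : IsBlk H (up k H a) ↔ IsBlk ⊤ a := by
  rw [← blk_map_iff, top_map]

omit [Fintype G] [Fintype H] in
theorem of_map {N : Subgroup G} (h : N ≤ H) : (N.subgroupOf H).map H.subtype = N := by
  rw [Subgroup.subgroupOf_map_subtype, inf_eq_left.2 h]

theorem blk_of_iff {N : Subgroup G} (h : N ≤ H) {a : MonoidAlgebra k H} :
    IsBlk N (up k H a) ↔ IsBlk (N.subgroupOf H) a := by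
  rw [← blk_map_iff, of_map h]

theorem tr_up (K : Subgroup G) (a : MonoidAlgebra k H) : tr K (up k H a) = up k H (tr (K.subgroupOf H) a) := by
  apply ext_c; intro x
  by_cases hx : x ∈ K
  · rw [tr_c_of_mem _ hx]
    by_cases hxH : x ∈ H
    · rw [up_c' _ hxH, up_c' _ hxH, tr_c_of_mem]
      exact Subgroup.mem_subgroupOf.2 hx
    · rw [up_c_not _ hxH, up_c_not _ hxH]
  · rw [tr_c_of_notMem _ hx]
    by_cases hxH : x ∈ H
    · rw [up_c' _ hxH, tr_c_of_notMem]
      intro h; exact hx (Subgroup.mem_subgroupOf.1 h)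
    · rw [up_c_not _ hxH]

omit [Fintype G] [Fintype H] in
theorem Ce_of (Q : Subgroup H) : (Ce (Q.map H.subtype)).subgroupOf H = Ce Q := by
  ext x
  rw [Subgroup.mem_subgroupOf, Subgroup.mem_centralizer_iff, Subgroup.mem_centralizer_iff]
  constructor
  · intro h y hy
    exact Subtype.ext (h y ⟨y, hy, rfl⟩)
  · rintro h _ ⟨y, hy, rfl⟩
    exact congrArg Subtype.val (h y hy)

theorem tr_Ce_up (Q : Subgroup H) (a : MonoidAlgebra k H) :
    tr (Ce (Q.map H.subtype)) (up k H a) = up k H (tr (Ce Q) a) := by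
  rw [tr_up, Ce_of]

theorem tr_ne_iff (Q : Subgroup H) (a : MonoidAlgebra k H) :
    tr (Ce (Q.map H.subtype)) (up k H a) ≠ 0 ↔ tr (Ce Q) a ≠ 0 := by
  rw [tr_Ce_up, not_iff_not]
  constructor
  · intro h; apply up_inj; rw [h, map_zero]
  · intro h; rw [h, map_zero]

omit [Fintype G] [Fintype H] in
theorem cs_map (x : H) (R : Subgroup H) : (cs x R).map H.subtype = cs (x : G) (R.map H.subtype) := by
  ext z
  rw [mem_cs]
  constructor
  · rintro ⟨w, hw, rfl⟩
    have := mem_cs.1 hw
    exact ⟨_, this, rfl⟩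
  · rintro ⟨w, hw, hwz⟩
    have hz : z = (x : G) * w * (x : G)⁻¹ := by
      have : (w : G) = (x : G)⁻¹ * z * x := hwz
      rw [this]; group
    refine ⟨x * w * x⁻¹, mem_cs.2 ?_, hz.symm⟩
    have : x⁻¹ * (x * w * x⁻¹) * x = w := by group
    rw [this]; exact hw

omit [Fintype G] [Fintype H] in
theorem pg_map_iff (R : Subgroup H) : IsPGroup p (R.map H.subtype) ↔ IsPGroup p R := by
  constructor
  · intro h
    have h1 : (R.map H.subtype).subgroupOf H = R := by
      rw [Subgroup.subgroupOf, Subgroup.comap_map_eq_self_of_injective (Subgroup.subtype_injective H)]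
    rw [← h1]
    exact h.comap_of_injective _ (Subgroup.subtype_injective _)
  · exact fun h => h.map _

omit [Fintype G] [Fintype H] in
theorem map_le_iff {R S : Subgroup H} : R.map H.subtype ≤ S.map H.subtype ↔ R ≤ S :=
  Subgroup.map_le_map_iff_of_injective (Subgroup.subtype_injective H)

theorem dgh_map_iff {K D : Subgroup H} {a : MonoidAlgebra k H} :
    DGH p (K.map H.subtype) (up k H a) (D.map H.subtype) ↔ DGH p K a D := by
  constructor
  · intro h
    refine ⟨map_le_iff.1 h.le, (pg_map_iff _).1 h.pg, (tr_ne_iff _ _).1 h.ne, fun R hR hRp hne => ?_⟩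
    obtain ⟨x, hx, hRx⟩ := h.max (R.map H.subtype) (map_le_iff.2 hR) (hRp.map _) ((tr_ne_iff _ _).2 hne)
    obtain ⟨y, hy, rfl⟩ := hx
    refine ⟨y, hy, ?_⟩
    rw [← map_le_iff, cs_map]; exact hRx
  · intro h
    refine ⟨map_le_iff.2 h.le, (pg_map_iff _).2 h.pg, (tr_ne_iff _ _).2 h.ne, fun R hR hRp hne => ?_⟩
    have hRH : R ≤ H := hR.trans (by rintro _ ⟨x, _, rfl⟩; exact x.2)
    rw [← of_map hRH] at hne hRp hR ⊢
    obtain ⟨x, hx, hRx⟩ := h.max _ (map_le_iff.1 hR) ((pg_map_iff _).1 hRp) ((tr_ne_iff _ _).1 hne)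
    refine ⟨x, ⟨x, hx, rfl⟩, ?_⟩
    rw [← cs_map]
    exact map_le_iff.2 hRx

end

section

variable {M : Ideal AlgInt} [hMax : M.IsMaximal] {G : Type*} [Group G] [Fintype G]

theorem up_epG {H : Subgroup G} [Fintype H] (b : Set (IrrCharacter H)) : up (KM M) H (epG M b) = ep M H b := by
  apply ext_c; intro x
  rw [ep_c]
  by_cases hx : x ∈ H
  · rw [up_c' _ hx, sbc_mem _ hx, epG_c]
  · rw [up_c_not _ hx, sbc_notMem _ hx, rd_zero]

end

end Cfsg.Agent.H25.Up
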