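import Mathlib
import Cfsg.Prelude.Def_BrauerPairs
import Cfsg.Agent.H25_Cov
import Cfsg.Agent.H25_Up
import Cfsg.Agent.H25_BlockReg2
import Cfsg.Agent.H10_BlockCov
import Cfsg.Agent.H10_BlockMain

/-!
# Covering of blocks: characters and idempotents
-/

set_option autoImplicit false
set_option linter.unusedSectionVars false
set_option linter.style.haveILetI false

namespace Cfsg.Agent.H25.Cov2

open Cfsg Cfsg.Agent.H10.BlockLoc Cfsg.Agent.H10.BlockAlg Cfsg.Agent.H10.BlockIdem Cfsg.Agent.H10.BlockDefect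
  Cfsg.Agent.H10.BlockCov Cfsg.Agent.H10.BlockOrth Cfsg.Agent.H10.BlockMain
  Cfsg.Agent.H3.CharIrr Cfsg.Agent.H25.Red Cfsg.Agent.H25.KG Cfsg.Agent.H25.BPTr Cfsg.Agent.H25.BPMain
  Cfsg.Agent.H25.BPDef Cfsg.Agent.H25.BPNorm Cfsg.Agent.H25.BPSub Cfsg.Agent.H25.Cov Cfsg.Agent.H25.Up
open scoped ComplexConjugate

section

variable {M : Ideal AlgInt} [hMax : M.IsMaximal] {G : Type*} [Group G] [Fintype G]

/-- exact equality of idempotents from equality mod `M` -/
theorem bc_eq_of_ep {C : Subgroup G} {E : Set (IrrCharacter G)} (hE : IsPBlock M E)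
    {b : Set (IrrCharacter C)} (hb : IsPBlock M b) (hst : ∀ t, StabilizesBlock C b t)
    (h : epG M E = ep M C b) (g : G) : blockCoeff E g = subgroupBlockCoeff C b g := by
  have key : (fun t : G => blockCoeff E t) = fun t : G => subgroupBlockCoeff C b t := by
    apply eq_of_rd (M := M)
    · exact blockCoeff_class E
    · intro x t
      exact sbc_stable hb (hst t) x
    · exact fun x => blockCoeff_mem hE x
    · exact fun x => sbc_ring hb _
    · intro g
      have h3 : ((eB E * eB E : ZC G) : MonoidAlgebra ℂ G).coeff g =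
          ∑ x : G, blockCoeff E x * blockCoeff E (x⁻¹ * g) := by
        rw [Subalgebra.coe_mul, coeff_mul_left]
        simp only [eB_coeff]
      rw [← h3, eB_mul_self, eB_coeff]
    · intro g
      exact sbc_conv b g
    · intro x
      exact congrArg (fun w => w.coeff (x : G)) h
  exact congrFun key g

variable {N : Subgroup G} [Fintype N]

/-- reduction of `fO` -/
theorem ep_of_mem_clI (hN : N.Normal) {b b' : Set (IrrCharacter N)} (hb : IsPBlock M b) (hb' : IsPBlock M b')
    {ξ : IrrCharacter N} (hξ : ξ ∈ b') : ξ ∈ clI hN b ↔ ∃ g : G, cnj g (ep M N b) = ep M N b' := by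
  haveI := hN
  constructor
  · rintro ⟨θ, hθ, g, rfl⟩
    refine ⟨g⁻¹, ?_⟩
    have hc : N = cs g⁻¹ N := (cs_normal g⁻¹).symm
    rw [← ep_conj g⁻¹ hc]
    congr 1
    refine block_eq_of_mem (isPBlock_tB _ hb) hb' (χ := cjI hN g θ) ⟨θ, hθ, fun n => ?_⟩ hξ
    show (θ : N → ℂ) ⟨g * ((cI g⁻¹ hc n : N) : G) * g⁻¹, _⟩ = (θ : N → ℂ) n
    refine congrArg _ (Subtype.ext ?_)
    show g * (g⁻¹ * (n : G) * g⁻¹⁻¹) * g⁻¹ = n
    group
  · rintro ⟨g, hg⟩
    have hc : N = cs g N := (cs_normal g).symm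
    rw [← ep_conj g hc] at hg
    have h1 := ep_inj (isPBlock_tB _ hb) hb' hg
    rw [← h1] at hξ
    obtain ⟨θ, hθ, h2⟩ := hξ
    refine ⟨θ, hθ, g⁻¹, Subtype.ext (funext fun n => ?_)⟩
    have h3 := h2 ⟨g⁻¹ * n * g, by
      have := hN.conj_mem n n.2 g⁻¹
      rwa [inv_inv] at this⟩
    have h4 : cI g hc ⟨g⁻¹ * n * g, by
      have := hN.conj_mem n n.2 g⁻¹
      rwa [inv_inv] at this⟩ = n := by
      apply Subtype.ext
      show g * (g⁻¹ * n * g) * g⁻¹ = n
      group
    rw [h4] at h3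
    rw [h3]
    show (θ : N → ℂ) _ = (θ : N → ℂ) ⟨g⁻¹ * n * g⁻¹⁻¹, _⟩
    refine congrArg _ (Subtype.ext ?_)
    show g⁻¹ * n * g = g⁻¹ * n * g⁻¹⁻¹
    rw [inv_inv]

theorem eB_clI_mem (hN : N.Normal) {b : Set (IrrCharacter N)} (hb : IsPBlock M b) : eB (clI hN b) ∈ ZI N M := by
  haveI : Fintype (IrrCharacter N) := Fintype.ofFinite _
  exact eB_mem_of_closed (clI_closed hN hb)

/-- `fO` as an element of `ZI` -/
noncomputable def FI (hN : N.Normal) [Fintype (IrrCharacter N)] {b : Set (IrrCharacter N)} (hb : IsPBlock M b) : ZI G M :=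
  ⟨fO hN (clI hN b) (clI_stable hN b), fO_mem hN _ (eB_clI_mem hN hb)⟩

theorem omI_FI (hN : N.Normal) [Fintype (IrrCharacter N)] {b : Set (IrrCharacter N)} (hb : IsPBlock M b) (χ : IrrCharacter G) :
    omI χ (FI hN hb) = om χ (fO hN (clI hN b) (clI_stable hN b)) := rfl

theorem emb_FI (hN : N.Normal) [Fintype (IrrCharacter N)] {b : Set (IrrCharacter N)} (hb : IsPBlock M b) :
    emb (MonoidHom.id G) Function.injective_id (FI hN hb) = osN N (ep M N b) := by
  classical
  haveI := hN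
  let z : ZI N M := ⟨eB (clI hN b), eB_clI_mem hN hb⟩
  have h1 : emb (MonoidHom.id G) Function.injective_id (FI hN hb) = emb N.subtype (Subgroup.subtype_injective N) z := by
    apply ext_c
    intro x
    have e1 : (emb (MonoidHom.id G) Function.injective_id (FI hN hb)).coeff x =
      rd M (((fO hN (clI hN b) (clI_stable hN b) : ZC G) : MonoidAlgebra ℂ G).coeff x) :=
      emb_c Function.injective_id (FI hN hb) x
    rw [e1]
    by_cases hx : x ∈ N
    · have h2 := emb_c (Subgroup.subtype_injective N) z ⟨x, hx⟩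
      have h3 := fO_coeff_mem hN (clI_stable hN b) ⟨x, hx⟩
      rw [h3]
      refine Eq.trans ?_ h2.symm
      show rd M (blockCoeff (clI hN b) ⟨x, hx⟩) = rd M (((eB (clI hN b) : ZC N) : MonoidAlgebra ℂ N).coeff ⟨x, hx⟩)
      rw [eB_coeff]
    · rw [fO_coeff_notMem hN (clI_stable hN b) hx, rd_zero, emb_c_not]
      rintro ⟨y, hy⟩
      exact hx (hy ▸ y.2)
  have hzz : z * z = z := Subtype.ext (eB_mul_self _)
  have hid : emb N.subtype (Subgroup.subtype_injective N) z * emb N.subtype (Subgroup.subtype_injective N) z =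
      emb N.subtype (Subgroup.subtype_injective N) z := by rw [← map_mul, hzz]
  rw [h1]
  have hran : N.subtype.range = N := Subgroup.range_subtype N
  apply eq_of_blks (H := N)
  · have := emb_mem (Subgroup.subtype_injective N) z
    rwa [hran] at this
  · exact hid
  · exact osN_mem _ _
  · exact osN_idem _ _
  · intro e he
    obtain ⟨b', hb', rfl⟩ := exists_ep he
    obtain ⟨ξ, hξ⟩ := block_nonempty hb'
    have h2 := mul_eps_iff (Subgroup.subtype_injective N) hb' z hξ hid
    rw [← ep_eq] at h2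
    rw [h2]
    have h3 : omI ξ z = if ξ ∈ clI hN b then 1 else 0 := om_eB _ _
    rw [h3]
    constructor
    · intro h4
      have h5 : ξ ∈ clI hN b := by
        by_contra h6
        rw [if_neg h6, zero_sub] at h4
        have := ideal_neg h4
        rw [neg_neg] at this
        exact one_notMem_ideal this
      obtain ⟨g, hg⟩ := (ep_of_mem_clI hN hb hb' hξ).1 h5
      exact osN_mul_of_mem ((mem_orbN (isBlk_ep hb)).2 ⟨g, hg⟩)
    · intro h4
      have h5 : osN N (ep M N b) * ep M N b' ≠ 0 := by rw [h4]; exact he.ne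
      have h6 := (ep_of_mem_clI hN hb hb' hξ).2 (osN_mul_ne (isBlk_ep hb) he h5)
      rw [if_pos h6, sub_self]
      exact ideal_zero

/-- covering in terms of idempotents mod `M` -/
theorem cov_iff (hN : N.Normal) {B : Set (IrrCharacter G)} (hB : IsPBlock M B) {b : Set (IrrCharacter N)}
    (hb : IsPBlock M b) : (∃ χ ∈ B, ∃ θ ∈ b, classInner (fun n : N => (χ : G → ℂ) n) (θ : N → ℂ) ≠ 0) ↔
      epG M B * ep M N b ≠ 0 := by
  classical
  haveI := hN
  haveI : Fintype (IrrCharacter N) := Fintype.ofFinite _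
  have hBb := isBlk_epG hB
  have hbb := isBlk_ep hb
  constructor
  · rintro ⟨χ, hχ, θ, hθ, h⟩ h0
    have h1 : epG M B * osN N (ep M N b) = 0 := by
      rw [osN, Finset.mul_sum]
      apply Finset.sum_eq_zero
      intro f hf
      obtain ⟨g, rfl⟩ := (mem_orbN hbb).1 hf
      by_contra h2
      exact (cov_cnj hBb g).1 h2 h0
    have h2 : emb (MonoidHom.id G) Function.injective_id (eI hB * FI hN hb) = 0 := by
      rw [map_mul, emb_FI hN hb, ← h1, epG_eq, eps_eq Function.injective_id hB]; rfl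
    have h3 := omI_of_emb_zero Function.injective_id h2 χ
    rw [map_mul, omI_eI, if_pos hχ, omI_FI, one_mul,
      om_fO_of_mem hN _ χ (mem_clI_self hN hθ) h] at h3
    exact one_notMem_ideal h3
  · intro h
    have h1 := mul_osN hBb hbb h
    obtain ⟨χ, hχ⟩ := block_nonempty hB
    have hid : emb (MonoidHom.id G) Function.injective_id (FI hN hb) *
      emb (MonoidHom.id G) Function.injective_id (FI hN hb) =
      emb (MonoidHom.id G) Function.injective_id (FI hN hb) := by
      rw [emb_FI hN hb, osN_idem]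
    have h2 := (mul_eps_iff Function.injective_id hB (FI hN hb) hχ hid).1 (by
      rw [emb_FI hN hb, ← epG_eq, comm_of (osN_Z hbb).2 (fun _ _ => Subgroup.mem_top _), h1])
    have h3 : om χ (fO hN (clI hN b) (clI_stable hN b)) ≠ 0 := by
      intro h4
      rw [omI_FI, h4, zero_sub] at h2
      have := ideal_neg h2
      rw [neg_neg] at this
      exact one_notMem_ideal this
    obtain ⟨ψ, ⟨θ, hθ, g, rfl⟩, h4⟩ := exists_of_om_fO hN _ χ h3
    rw [ci_cjI] at h4
    exact ⟨χ, hχ, θ, hθ, h4⟩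

/-- every character of a covering block lies over the covered block -/
theorem cov_all (hN : N.Normal) {B : Set (IrrCharacter G)} (hB : IsPBlock M B) {b : Set (IrrCharacter N)}
    (hb : IsPBlock M b) (h : epG M B * ep M N b ≠ 0) {χ : IrrCharacter G} (hχ : χ ∈ B) :
    ∃ θ ∈ b, classInner (fun n : N => (χ : G → ℂ) n) (θ : N → ℂ) ≠ 0 := by
  classical
  haveI := hN
  haveI : Fintype (IrrCharacter N) := Fintype.ofFinite _
  have hBb := isBlk_epG hB
  have hbb := isBlk_ep hb
  have h1 := mul_osN hBb hbb h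
  have hid : emb (MonoidHom.id G) Function.injective_id (FI hN hb) *
    emb (MonoidHom.id G) Function.injective_id (FI hN hb) =
    emb (MonoidHom.id G) Function.injective_id (FI hN hb) := by
    rw [emb_FI hN hb, osN_idem]
  have h2 := (mul_eps_iff Function.injective_id hB (FI hN hb) hχ hid).1 (by
    rw [emb_FI hN hb, ← epG_eq, comm_of (osN_Z hbb).2 (fun _ _ => Subgroup.mem_top _), h1])
  have h3 : om χ (fO hN (clI hN b) (clI_stable hN b)) ≠ 0 := by
    intro h4
    rw [omI_FI, h4, zero_sub] at h2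
    have := ideal_neg h2
    rw [neg_neg] at this
    exact one_notMem_ideal this
  obtain ⟨ψ, ⟨θ, hθ, g, rfl⟩, h4⟩ := exists_of_om_fO hN _ χ h3
  rw [ci_cjI] at h4
  exact ⟨θ, hθ, h4⟩

/-- membership in a covering block -/
theorem cov_of_char (hN : N.Normal) {b : Set (IrrCharacter N)} (hb : IsPBlock M b) {χ : IrrCharacter G}
    {θ : IrrCharacter N} (hθ : θ ∈ b) (h : classInner (fun n : N => (χ : G → ℂ) n) (θ : N → ℂ) ≠ 0) :
    epG M (blockOf M (χ : G → ℂ)) * ep M N b ≠ 0 :=
  (cov_iff hN (isPBlock_blockOf χ) hb).1 ⟨χ, mem_blockOf_self χ, θ, hθ, h⟩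

end

section index

variable {M : Ideal AlgInt} {G : Type*} [Group G] [Fintype G] {p : ℕ} [hp : Fact p.Prime]
  [hMax : M.IsMaximal] [hch : CharP (KM M) p]

/-- block idempotents are supported on `p`-regular elements -/
theorem supp_preg (hM : IsPModular p M) {H : Subgroup G} {B : MonoidAlgebra (KM M) G} (hB : IsBlk H B) {x : G}
    (hx : B.coeff x ≠ 0) : ¬ p ∣ orderOf x := by
  haveI : Fintype H := Fintype.ofFinite _
  obtain ⟨b, hb, rfl⟩ := exists_ep hB
  intro h
  apply hx
  rw [ep_c]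
  by_cases hxH : x ∈ H
  · rw [sbc_mem _ hxH, blockCoeff_eq_zero hM hb, rd_zero]
    rwa [← Subgroup.orderOf_coe]
  · rw [sbc_notMem _ hxH, rd_zero]

theorem idem_preg (hM : IsPModular p M) {H : Subgroup G} {z : MonoidAlgebra (KM M) G} (hz : z ∈ Z H)
    (hzz : z * z = z) {x : G} (hx : z.coeff x ≠ 0) : ¬ p ∣ orderOf x := by
  classical
  have h1 : z = ∑ f ∈ blks (KM M) H, z * f := by rw [← Finset.mul_sum, sum_blks, mul_one]
  rw [h1, MonoidAlgebra.coeff_sum, Finsupp.finsetSum_apply] at hx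
  obtain ⟨f, hf, hne⟩ := Finset.exists_ne_zero_of_sum_ne_zero hx
  have hfb := mem_blks.1 hf
  rcases hfb.prim z hz hzz with h2 | h2
  · rw [h2] at hne; exact supp_preg hM hfb hne
  · rw [h2] at hne; exact absurd rfl hne

/-- `p`-regular elements lie in subnormal... normal subgroups of `p`-power index -/
theorem mem_of_preg {H N : Subgroup G} (hn : H ≤ Subgroup.normalizer (N : Set G))
    (hidx : ∃ m : ℕ, N.relIndex H = p ^ m) {x : G} (hxH : x ∈ H) (hx : ¬ p ∣ orderOf x) : x ∈ N := by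
  obtain ⟨m, hm⟩ := hidx
  haveI : (N.subgroupOf H).Normal := by
    constructor
    intro n hn' g
    rw [Subgroup.mem_subgroupOf] at hn' ⊢
    exact (Subgroup.mem_normalizer_iff.1 (hn g.2) n).1 hn'
  have h4 : (QuotientGroup.mk' (N.subgroupOf H) ⟨x, hxH⟩) ^ (p ^ m) = 1 := by
    rw [← hm, Subgroup.relIndex, Subgroup.index_eq_card, pow_card_eq_one']
  have h5 : (QuotientGroup.mk' (N.subgroupOf H) ⟨x, hxH⟩) ^ (orderOf x) = 1 := by
    rw [← map_pow]
    have : (⟨x, hxH⟩ : H) ^ orderOf x = 1 := Subtype.ext (pow_orderOf_eq_one x)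
    rw [this, map_one]
  have h6 : orderOf (QuotientGroup.mk' (N.subgroupOf H) ⟨x, hxH⟩) = 1 := by
    apply Nat.eq_one_of_dvd_coprimes (a := p ^ m) (b := orderOf x)
    · exact Nat.Coprime.pow_left _ ((Nat.Prime.coprime_iff_not_dvd hp.out).2 hx)
    · exact orderOf_dvd_of_pow_eq_one h4
    · exact orderOf_dvd_of_pow_eq_one h5
  rw [orderOf_eq_one_iff] at h6
  exact Subgroup.mem_subgroupOf.1 ((QuotientGroup.eq_one_iff _).1 h6)

theorem supp_of_index (hM : IsPModular p M) {H N : Subgroup G} (hn : H ≤ Subgroup.normalizer (N : Set G))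
    (hidx : ∃ m : ℕ, N.relIndex H = p ^ m) {z : MonoidAlgebra (KM M) G} (hz : z ∈ Z H)
    (hzz : z * z = z) : Supp N z :=
  fun _ hx => mem_of_preg hn hidx (hz.1 _ hx) (idem_preg hM hz hzz hx)

/-- a stable block is a block of the larger group for `p`-power index -/
theorem blk_of_index (hM : IsPModular p M) {H N : Subgroup G} (hNH : N ≤ H)
    (hn : H ≤ Subgroup.normalizer (N : Set G)) (hidx : ∃ m : ℕ, N.relIndex H = p ^ m)
    {b : MonoidAlgebra (KM M) G} (hb : IsBlk N b) (hfix : Fix H b) : IsBlk H b where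
  mem := ⟨hb.mem.1.mono hNH, hfix⟩
  idem := hb.idem
  ne := hb.ne
  prim z hz hzz := hb.prim z ⟨supp_of_index hM hn hidx hz hzz, hz.2.mono hNH⟩ hzz

/-- dimension argument -/
theorem sup_eq_top (hM : IsPModular p M) {N : Subgroup G} [hN : N.Normal] (hidx : ∃ m : ℕ, N.index = p ^ m)
    {b : MonoidAlgebra (KM M) G} (hb : IsBlk N b) (hfix : Fix ⊤ b) {D : Subgroup G} (hD : DGH p ⊤ b D) :
    N ⊔ D = ⊤ := by
  classical
  haveI : Fintype N := Fintype.ofFinite _
  have hnn : (⊤ : Subgroup G) ≤ Subgroup.normalizer (N : Set G) := by rw [Subgroup.normalizer_eq_top]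
  have hB : IsBlk ⊤ b := blk_of_index hM le_top hnn (by rw [Subgroup.relIndex_top_right]; exact hidx) hb hfix
  obtain ⟨B, hBb, hBe⟩ := exists_epG hB
  obtain ⟨c, hcb, hce⟩ := exists_ep hb
  have hst : ∀ t, StabilizesBlock N c t := fun t => (stabilizes_iff hcb t).2
    ⟨hnn (Subgroup.mem_top t), by rw [hce]; exact hfix t (Subgroup.mem_top t)⟩
  have h1 := bc_eq_of_ep hBb hcb hst (hBe.trans hce.symm) 1
  rw [sbc_mem c N.one_mem] at h1
  have hdim : ∀ (K : Type _) [Group K] [Fintype K] (c : Set (IrrCharacter K)),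
      ((∑ᶠ χ ∈ c, charDegree (χ : K → ℂ) ^ 2 : ℕ) : ℂ) = (Nat.card K : ℂ) * blockCoeff c 1 := by
    intro K _ _ c
    haveI : Fintype (IrrCharacter K) := Fintype.ofFinite _
    rw [H10.BlockOrth.finsum_mem_irr, blockCoeff_eq_sum, ← mul_assoc, mul_inv_cancel₀ (by
      exact_mod_cast Nat.card_pos.ne'), one_mul]
    push_cast
    refine Finset.sum_congr rfl fun χ _ => ?_
    split_ifs
    · rw [← H10.Char.charDegree_eq χ.2, Complex.conj_natCast]; ring
    · rfl
  have h2 := hdim G B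
  have h3 := hdim N c
  have h4 : (1 : N) = ⟨1, N.one_mem⟩ := rfl
  rw [h1] at h2
  rw [h4] at h3
  have h5 : (∑ᶠ χ ∈ B, charDegree (χ : G → ℂ) ^ 2) * Nat.card N = (∑ᶠ χ ∈ c, charDegree (χ : N → ℂ) ^ 2) * Nat.card G := by
    have : (((∑ᶠ χ ∈ B, charDegree (χ : G → ℂ) ^ 2) * Nat.card N : ℕ) : ℂ) =
        (((∑ᶠ χ ∈ c, charDegree (χ : N → ℂ) ^ 2) * Nat.card G : ℕ) : ℂ) := by
      rw [Nat.cast_mul, Nat.cast_mul, h2, h3]; ring
    exact_mod_cast this
  have hB0 := H25.BlockReg2.block_dim hM hBb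
  have hc0 := H25.BlockReg2.block_dim hM hcb
  obtain ⟨χ, hχ⟩ := block_nonempty hBb
  obtain ⟨θ, hθ⟩ := block_nonempty hcb
  have hBd := H25.BlockReg.mB_add (p := p) hχ
  have hcd := H25.BlockReg.mB_add (p := p) hθ
  have hpos1 : (∑ᶠ χ ∈ B, charDegree (χ : G → ℂ) ^ 2) ≠ 0 := by
    intro h0
    rw [h0, Nat.cast_zero, eq_comm, mul_eq_zero] at h2
    rcases h2 with h2 | h2
    · exact Nat.card_pos.ne' (by exact_mod_cast h2)
    · rw [← h1] at h2; exact H10.BlockNormal.blockCoeff_one_ne_zero (M := M) (block_nonempty hBb) h2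
  have hpos2 : (∑ᶠ χ ∈ c, charDegree (χ : N → ℂ) ^ 2) ≠ 0 := by
    intro h0
    rw [h0, zero_mul] at h5
    rcases mul_eq_zero.1 h5 with h5 | h5
    · exact hpos1 h5
    · exact Nat.card_pos.ne' h5
  have h6 := congrArg (fun n => n.factorization p) h5
  simp only [Nat.factorization_mul hpos1 Nat.card_pos.ne', Nat.factorization_mul hpos2 Nat.card_pos.ne',
    Finsupp.add_apply] at h6
  rw [hB0, hc0] at h6
  -- cards of defect groups
  obtain ⟨Q, hQ⟩ := exists_DGH (p := p) hM hb
  obtain ⟨g, _, _, hg⟩ := knorr hB hb (by rw [hb.idem]; exact hb.ne) hD hQ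
  rw [hfix g (Subgroup.mem_top g)] at hg
  have hDB : IsDefectGroup p M B D := by rw [defectG_iff hM hBb, hBe]; exact hD
  have hDc : IsDefectGroup p M c ((D ⊓ N).subgroupOf N) := by
    rw [defectH_iff' hM hcb inf_le_right, hce]; exact hg
  have hcard1 := card_defectGroup hM hBb hDB
  have hcard2 := card_defectGroup hM hcb hDc
  have hcard3 : Nat.card ((D ⊓ N).subgroupOf N) = Nat.card (D ⊓ N : Subgroup G) :=
    Nat.card_congr (Subgroup.subgroupOfEquivOfLe inf_le_right).toEquiv
  rw [hcard3] at hcard2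
  -- index computations
  obtain ⟨m, hm⟩ := hidx
  have hcG : Nat.card G = Nat.card N * p ^ m := by rw [← hm]; exact (Subgroup.card_mul_index N).symm
  have hfac : (Nat.card G).factorization p = (Nat.card N).factorization p + m := by
    rw [hcG, Nat.factorization_mul Nat.card_pos.ne' (pow_ne_zero _ hp.out.ne_zero), Finsupp.add_apply,
      Nat.Prime.factorization_pow hp.out, Finsupp.single_eq_same]
  have hrr : ∀ A B : Subgroup G, A ≤ B → Nat.card A * A.relIndex B = Nat.card B := by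
    intro A B hAB
    have := Subgroup.relIndex_mul_relIndex ⊥ A B bot_le hAB
    rwa [Subgroup.relIndex_bot_left, Subgroup.relIndex_bot_left] at this
  have hr1 : Nat.card N * N.relIndex (N ⊔ D) = Nat.card (N ⊔ D : Subgroup G) := hrr _ _ le_sup_left
  have hr2 : Nat.card (D ⊓ N : Subgroup G) * (D ⊓ N).relIndex D = Nat.card D := hrr _ _ inf_le_left
  rw [inf_comm, Subgroup.inf_relIndex_right] at hr2
  rw [Subgroup.relIndex_sup_left] at hr1
  rw [inf_comm N D, hcard1, hcard2] at hr2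
  apply Subgroup.eq_top_of_card_eq
  rw [← hr1, hcG]
  congr 1
  have h7 : blockDefect p B = blockDefect p c + m := by omega
  rw [h7, pow_add] at hr2
  exact Nat.eq_of_mul_eq_mul_left (pow_pos hp.out.pos _) hr2

end index

end Cfsg.Agent.H25.Cov2
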