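import Mathlib
import Cfsg.Agent.H25_Cov2

/-!
# Covering: relative versions
-/

set_option autoImplicit false
set_option linter.unusedSectionVars false
set_option linter.style.haveILetI false

namespace Cfsg.Agent.H25.Cov3

open Cfsg Cfsg.Agent.H10.BlockLoc Cfsg.Agent.H10.BlockAlg Cfsg.Agent.H10.BlockIdem Cfsg.Agent.H10.BlockDefect
  Cfsg.Agent.H10.BlockCov Cfsg.Agent.H10.BlockOrth Cfsg.Agent.H10.BlockMain
  Cfsg.Agent.H3.CharIrr Cfsg.Agent.H25.Red Cfsg.Agent.H25.KG Cfsg.Agent.H25.BPTr Cfsg.Agent.H25.BPMain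
  Cfsg.Agent.H25.BPDef Cfsg.Agent.H25.BPNorm Cfsg.Agent.H25.BPSub Cfsg.Agent.H25.Cov Cfsg.Agent.H25.Up
  Cfsg.Agent.H25.Cov2
open scoped ComplexConjugate

section gen

variable {k : Type*} [Field k] {G : Type*} [Group G] [Fintype G] {p : ℕ}

/-- stabilizer of an element -/
noncomputable def stb (b : MonoidAlgebra k G) : Subgroup G where
  carrier := {g | cnj g b = b}
  one_mem' := cnj_one_apply b
  mul_mem' := fun {a c} ha hc => by
    show cnj (a * c) b = b
    rw [cnj_mul_apply, show cnj c b = b from hc, show cnj a b = b from ha]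
  inv_mem' := fun {a} ha => by
    show cnj a⁻¹ b = b
    have h1 : cnj a b = b := ha
    conv_lhs => rw [← h1]
    exact cnj_inv_cnj a b

theorem mem_stb {b : MonoidAlgebra k G} {g : G} : g ∈ stb b ↔ cnj g b = b := Iff.rfl

end gen

section index

variable {M : Ideal AlgInt} {G : Type*} [Group G] [Fintype G] {p : ℕ} [hp : Fact p.Prime]
  [hMax : M.IsMaximal] [hch : CharP (KM M) p]

theorem normal_of {H N : Subgroup G} (hn : H ≤ Subgroup.normalizer (N : Set G)) : (N.subgroupOf H).Normal := by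
  constructor
  intro n hn' g
  rw [Subgroup.mem_subgroupOf] at hn' ⊢
  exact (Subgroup.mem_normalizer_iff.1 (hn g.2) n).1 hn'

theorem sup_eq_rel (hM : IsPModular p M) {N H : Subgroup G} (hNH : N ≤ H)
    (hn : H ≤ Subgroup.normalizer (N : Set G)) (hidx : ∃ m : ℕ, N.relIndex H = p ^ m)
    {b : MonoidAlgebra (KM M) G} (hb : IsBlk N b) (hfix : Fix H b) {D : Subgroup G} (hD : DGH p H b D) :
    N ⊔ D = H := by
  haveI : Fintype H := Fintype.ofFinite _
  haveI := normal_of hn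
  obtain ⟨b', rfl⟩ := up_surj (hb.mem.1.mono hNH)
  rw [blk_of_iff hNH] at hb
  have hfix' : Fix ⊤ b' := by
    rw [← fix_map_iff, top_map]; exact hfix
  have hD' : DGH p ⊤ b' (D.subgroupOf H) := by
    rw [← dgh_map_iff, top_map, of_map hD.le]; exact hD
  have h1 := sup_eq_top hM hidx hb hfix' hD'
  have h2 := congrArg (Subgroup.map H.subtype) h1
  rw [Subgroup.map_sup, of_map hNH, of_map hD.le, top_map] at h2
  exact h2

/-- S4673 -/
theorem mem_of_stable (hM : IsPModular p M) {N L : Subgroup G} [hN : N.Normal] [hL : L.Normal] (hNL : N ≤ L)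
    (hidx : ∃ m : ℕ, N.relIndex L = p ^ m) {B b : MonoidAlgebra (KM M) G} (hB : IsBlk ⊤ B) (hb : IsBlk N b)
    (h : B * b ≠ 0) {D : Subgroup G} (hD : DGH p ⊤ B D) (hDN : D ≤ N) {g : G} (hg : g ∈ L) (hst : cnj g b = b) :
    g ∈ N := by
  classical
  set H : Subgroup G := L ⊓ stb b with hH
  have hNH : N ≤ H := le_inf hNL fun x hx => hb.mem.2 x hx
  have hnn : H ≤ Subgroup.normalizer (N : Set G) := by rw [Subgroup.normalizer_eq_top]; exact le_top
  have hnL : L ≤ Subgroup.normalizer (N : Set G) := by rw [Subgroup.normalizer_eq_top]; exact le_top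
  have hidx' : ∃ m : ℕ, N.relIndex H = p ^ m := by
    obtain ⟨m, hm⟩ := hidx
    have h1 : N.relIndex H ∣ p ^ m := by
      rw [← hm]
      exact Dvd.intro _ (Subgroup.relIndex_mul_relIndex N H L hNH inf_le_left)
    obtain ⟨i, _, hi⟩ := (Nat.dvd_prime_pow hp.out).1 h1
    exact ⟨i, hi⟩
  have hfix : Fix H b := fun x hx => hx.2
  have hbH : IsBlk H b := blk_of_index hM hNH hnn hidx' hb hfix
  obtain ⟨D', hD'⟩ := exists_DGH (p := p) hM hbH
  have hsup := sup_eq_rel hM hNH hnn hidx' hb hfix hD'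
  obtain ⟨f, hf, hne⟩ : ∃ f, IsBlk L f ∧ B * f * b ≠ 0 := by
    by_contra hcon
    push Not at hcon
    apply h
    have h1 : B * b = ∑ f ∈ blks (KM M) L, B * f * b := by
      rw [← Finset.sum_mul, ← Finset.mul_sum, sum_blks, mul_one]
    rw [h1]
    exact Finset.sum_eq_zero fun f hf => hcon f (mem_blks.1 hf)
  have hBf : B * f ≠ 0 := fun h0 => hne (by rw [h0, zero_mul])
  have hfb : f * b ≠ 0 := fun h0 => hne (by rw [mul_assoc, h0, mul_zero])
  have hfN : f ∈ Z N := ⟨supp_of_index hM hnL hidx hf.mem hf.idem, hf.mem.2.mono hNL⟩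
  have hfb' : f * b = b := (hb.prim f hfN hf.idem).resolve_right hfb
  have hD'L : D' ≤ L := hD'.le.trans inf_le_left
  have htr : tr (Ce D') f ≠ 0 := by
    intro h0
    apply hD'.ne
    rw [← hfb', br_mul hD'.pg (hf.mem.2.mono hD'L) (hfix.mono hD'.le), h0, zero_mul]
  have h2 := tr_ne_of_cov' hB hf hBf hD'.pg hD'L htr
  obtain ⟨x, _, hx⟩ := hD.max D' le_top hD'.pg h2
  have h3 : D' ≤ N := by
    have h4 := cs_mono x hDN
    rw [cs_normal (N := N)] at h4
    exact hx.trans h4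
  rw [sup_eq_left.2 h3] at hsup
  rw [hsup]
  exact ⟨hg, hst⟩

end index

end Cfsg.Agent.H25.Cov3
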