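import Mathlib
import Cfsg.Prelude.Def_BrauerPairs
import Cfsg.Agent.H25_Cov3

/-!
# Brauer's first main theorem inside `kG`
-/

set_option autoImplicit false
set_option linter.unusedSectionVars false
set_option linter.style.haveILetI false

namespace Cfsg.Agent.H25.FMT

open Cfsg Cfsg.Agent.H10.BlockLoc Cfsg.Agent.H10.BlockAlg Cfsg.Agent.H10.BlockIdem Cfsg.Agent.H10.BlockDefect
  Cfsg.Agent.H3.CharIrr Cfsg.Agent.H25.Red Cfsg.Agent.H25.KG Cfsg.Agent.H25.BPTr Cfsg.Agent.H25.BPMain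
  Cfsg.Agent.H25.BPDef Cfsg.Agent.H25.BPNorm Cfsg.Agent.H25.BPSub Cfsg.Agent.H25.Cov Cfsg.Agent.H25.Up
  Cfsg.Agent.H25.Cov2 Cfsg.Agent.H25.Cov3
open scoped ComplexConjugate

section gen

variable {k : Type*} [Field k] {G : Type*} [Group G] [Fintype G] {p : ℕ} [hp : Fact p.Prime] [CharP k p]

/-- normalizer abbreviation -/
abbrev Nm (P : Subgroup G) : Subgroup G := Subgroup.normalizer (P : Set G)

omit [Fintype G] in
theorem Ce_le_Nm (P : Subgroup G) : Ce P ≤ Nm P := by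
  intro x hx
  rw [Subgroup.mem_normalizer_iff]
  intro y
  have h2 : ∀ z ∈ P, x * z * x⁻¹ = z := fun z hz => by
    rw [← Subgroup.mem_centralizer_iff.1 hx z hz, mul_inv_cancel_right]
  constructor
  · intro hy; rw [h2 y hy]; exact hy
  · intro hy
    have h3 := Subgroup.mem_centralizer_iff.1 hx _ hy
    have h4 : x * y * x⁻¹ = y := by
      have h5 : x * (x * y * x⁻¹) = x * y := by rw [← h3]; group
      exact mul_left_cancel h5
    rwa [h4] at hy

omit [Fintype G] in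
theorem cs_Nm_Ce {P : Subgroup G} {n : G} (hn : n ∈ Nm P) : cs n (Ce P) = Ce P := by
  rw [Ce, ← centralizer_cs, mem_normalizer_iff_cs.1 hn]

theorem osum_mul_of_mem {P : Subgroup G} {e f : MonoidAlgebra k G} (hf : f ∈ orb P e) :
    osum P e * f = f := by
  classical
  have h1 := sum_mul_of_mem (H := Ce P) (s := orb P e) (fun _ h => orb_blk h) (orb_blk hf)
  rw [if_pos hf] at h1
  exact h1

/-- top pairs from defect groups -/
theorem top_of_dgh {B : MonoidAlgebra k G} {P : Subgroup G} {e : MonoidAlgebra k G} (hD : DGH p ⊤ B P)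
    (hB : BP p B P e) : Top p P e where
  pg := hB.pg
  blk := hB.be
  max S e' hns := by
    have h1 : BP p B S e' := hB.up hns.pP hns.be (LE.of_ns hns)
    have h2 := hD.card_le le_top hns.pP h1.ns.ne
    exact (Subgroup.eq_of_le_of_card_ge hns.le h2).symm

theorem exists_bp {B : MonoidAlgebra k G} (hB : IsBlk ⊤ B) {P : Subgroup G} (hP : IsPGroup p P)
    (hne : tr (Ce P) B ≠ 0) : ∃ e, BP p B P e := by
  have hfix : Fix P B := fix_top hB P
  obtain ⟨e, he, h⟩ := exists_blk (tr_mem_Z le_top hB.mem.2) (tr_idem hP hfix hB.idem) hne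
  exact ⟨e, hP, hB, he, h⟩

theorem tr_eq_osum {B : MonoidAlgebra k G} {P : Subgroup G} {e : MonoidAlgebra k G} (ht : Top p P e)
    (hB : BP p B P e) : tr (Ce P) B = osum P e := by
  have hfix : Fix P B := fix_top hB.bB P
  apply eq_of_blks (tr_mem_Z le_top hB.bB.mem.2) (tr_idem hB.pg hfix hB.bB.idem) (osum_mem _ _) (osum_idem _ _)
  intro e' he'
  constructor
  · intro h
    obtain ⟨n, hn, hne⟩ := ht.conj_blk hB ⟨hB.pg, hB.bB, he', h⟩
    exact osum_mul_of_mem ((mem_orb ht.blk).2 ⟨n, hn, hne⟩)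
  · intro h
    obtain ⟨n, hn, rfl⟩ := osum_mul_eq ht.blk he' (by rw [h]; exact he'.ne)
    have h1 := congrArg (cnj n) hB.tr
    rw [map_mul, cnj_tr, cs_Nm_Ce hn, hB.bB.mem.2 n (Subgroup.mem_top n)] at h1
    exact h1

end gen

section main

variable {M : Ideal AlgInt} {G : Type*} [Group G] [Fintype G] {p : ℕ} [hp : Fact p.Prime]
  [hMax : M.IsMaximal] [hch : CharP (KM M) p]

theorem osum_blk (hM : IsPModular p M) {P : Subgroup G} {e : MonoidAlgebra (KM M) G} (hP : IsPGroup p P)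
    (he : IsBlk (Ce P) e) : IsBlk (Nm P) (osum P e) where
  mem := ⟨(osum_mem P e).1.mono (Ce_le_Nm P), osum_fix he⟩
  idem := osum_idem P e
  ne := osum_ne he
  prim z hz hzz := by
    have hsupp := supp_of_normal hM hP Subgroup.le_normalizer le_rfl hz hzz
    have hzZ : z ∈ Z (Ce P) := ⟨hsupp, hz.2.mono (Ce_le_Nm P)⟩
    rcases he.prim z hzZ hzz with h | h
    · left
      rw [osum, Finset.mul_sum]
      refine Finset.sum_congr rfl fun f hf => ?_
      obtain ⟨n, hn, rfl⟩ := (mem_orb he).1 hf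
      have h2 := congrArg (cnj n) h
      rwa [map_mul, hz.2 n hn] at h2
    · right
      rw [osum, Finset.mul_sum]
      apply Finset.sum_eq_zero
      intro f hf
      obtain ⟨n, hn, rfl⟩ := (mem_orb he).1 hf
      have h2 := congrArg (cnj n) h
      rwa [map_mul, hz.2 n hn, map_zero] at h2

/-- first main theorem, down -/
theorem fmtA (hM : IsPModular p M) {B : MonoidAlgebra (KM M) G} (hB : IsBlk ⊤ B) {P : Subgroup G}
    (hD : DGH p ⊤ B P) : IsBlk (Nm P) (tr (Ce P) B) ∧ DGH p (Nm P) (tr (Ce P) B) P := by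
  obtain ⟨e, he⟩ := exists_bp hB hD.pg hD.ne
  have ht := top_of_dgh hD he
  have h1 := tr_eq_osum ht he
  have h2 : IsBlk (Nm P) (tr (Ce P) B) := by rw [h1]; exact osum_blk hM hD.pg he.be
  refine ⟨h2, Subgroup.le_normalizer, hD.pg, ?_, fun R hR hRp hne => ⟨1, Subgroup.one_mem _, ?_⟩⟩
  · rw [tr_tr le_rfl]; exact hD.ne
  · rw [cs_one]
    obtain ⟨y, hy, hy'⟩ := exists_coeff_of_tr_ne hne
    have hyP : y ∈ Ce P := supp_tr _ _ y hy'
    rw [tr_c_of_mem _ hyP] at hy'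
    have h3 : IsPGroup p (P ⊔ R : Subgroup G) := isPGroup_sup hD.pg hRp hR
    have h4 : tr (Ce (P ⊔ R)) B ≠ 0 := by
      refine tr_ne_of_coeff (y := y) ?_ hy'
      rw [Ce_sup]; exact ⟨hyP, hy⟩
    have h5 := hD.card_le le_top h3 h4
    have h6 : P = P ⊔ R := Subgroup.eq_of_le_of_card_ge le_sup_left h5
    rw [h6]; exact le_sup_right

/-- first main theorem, up -/
theorem fmtB (hM : IsPModular p M) {P : Subgroup G} {f : MonoidAlgebra (KM M) G} (hf : IsBlk (Nm P) f)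
    (hD : DGH p (Nm P) f P) : ∃ B, IsBlk ⊤ B ∧ DGH p ⊤ B P ∧ tr (Ce P) B = f := by
  classical
  have hsupp := supp_of_normal hM hD.pg Subgroup.le_normalizer le_rfl hf.mem hf.idem
  have hfZ : f ∈ Z (Ce P) := ⟨hsupp, hf.mem.2.mono (Ce_le_Nm P)⟩
  obtain ⟨e, he, hfe⟩ := exists_blk hfZ hf.idem hf.ne
  have hfo : f = osum P e := by
    have h1 : f * osum P e = osum P e := by
      rw [osum, Finset.mul_sum]
      refine Finset.sum_congr rfl fun f' hf' => ?_
      obtain ⟨n, hn, rfl⟩ := (mem_orb he).1 hf'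
      have h2 := congrArg (cnj n) hfe
      rwa [map_mul, hf.mem.2 n hn] at h2
    have h2 := osum_blk hM hD.pg he
    exact hf.eq_of_mul h2 (by rw [h1]; exact h2.ne)
  obtain ⟨B, hB, hne⟩ : ∃ B, IsBlk ⊤ B ∧ tr (Ce P) B * e ≠ 0 := by
    by_contra hcon
    push Not at hcon
    apply he.ne
    have h1 : e = ∑ B ∈ blks (KM M) (⊤ : Subgroup G), tr (Ce P) B * e := by
      rw [← Finset.sum_mul, ← map_sum, sum_blks, tr_one, one_mul]
    rw [h1]
    exact Finset.sum_eq_zero fun B hB => hcon B (mem_blks.1 hB)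
  have hbp : BP p B P e := ⟨hD.pg, hB, he,
    (he.prim _ (tr_mem_Z le_top hB.mem.2) (tr_idem hD.pg (fix_top hB P) hB.idem)).resolve_right hne⟩
  have ht : Top p P e := by
    refine ⟨hD.pg, he, fun S e' hns => ?_⟩
    have h3 : tr (Ce S) f ≠ 0 := by
      intro h0
      apply hns.ne
      rw [← hfe, br_mul hns.pP (hf.mem.2.mono hns.norm) hns.fix, h0, zero_mul]
    have h4 := hD.card_le hns.norm hns.pP h3
    exact (Subgroup.eq_of_le_of_card_ge hns.le h4).symm
  refine ⟨B, hB, Cfsg.Agent.H25.BPDef.Top.dgh ht hbp, ?_⟩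
  rw [tr_eq_osum ht hbp, hfo]

theorem fmt_unique {B B' : MonoidAlgebra (KM M) G} (hB : IsBlk ⊤ B) (hB' : IsBlk ⊤ B') {P : Subgroup G}
    (hP : IsPGroup p P) (hne : tr (Ce P) B ≠ 0) (h : tr (Ce P) B = tr (Ce P) B') : B = B' := by
  apply hB.eq_of_mul hB'
  intro h0
  have h1 := br_mul hP (fix_top hB P) (fix_top hB' P)
  rw [h0, map_zero, ← h, tr_idem hP (fix_top hB P) hB.idem] at h1
  exact hne h1.symm

/-! relative versions -/

variable {H : Subgroup G}

theorem Nm_map {P : Subgroup G} (hPH : P ≤ H) (hn : Nm P ≤ H) : (Nm (P.subgroupOf H)).map H.subtype = Nm P := by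
  ext x
  constructor
  · rintro ⟨y, hy, rfl⟩
    have hy' : y ∈ Nm (P.subgroupOf H) := hy
    rw [Subgroup.mem_normalizer_iff] at hy' ⊢
    intro z
    constructor
    · intro hz
      exact Subgroup.mem_subgroupOf.1 ((hy' ⟨z, hPH hz⟩).1 (Subgroup.mem_subgroupOf.2 hz))
    · intro hz
      have hzH : z ∈ H := by
        have h1 := hPH hz
        have h2 : z = (y : G)⁻¹ * ((y : G) * z * (y : G)⁻¹) * y := by group
        rw [h2]
        exact H.mul_mem (H.mul_mem (H.inv_mem y.2) h1) y.2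
      exact Subgroup.mem_subgroupOf.1 ((hy' ⟨z, hzH⟩).2 (Subgroup.mem_subgroupOf.2 hz))
  · intro hx
    refine ⟨⟨x, hn hx⟩, ?_, rfl⟩
    show (⟨x, hn hx⟩ : H) ∈ Nm (P.subgroupOf H)
    rw [Subgroup.mem_normalizer_iff]
    intro z
    rw [Subgroup.mem_subgroupOf, Subgroup.mem_subgroupOf]
    exact Subgroup.mem_normalizer_iff.1 hx z

theorem fmtA' (hM : IsPModular p M) {B : MonoidAlgebra (KM M) G} (hB : IsBlk H B) {P : Subgroup G}
    (hn : Nm P ≤ H) (hD : DGH p H B P) : IsBlk (Nm P) (tr (Ce P) B) ∧ DGH p (Nm P) (tr (Ce P) B) P := by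
  haveI : Fintype H := Fintype.ofFinite _
  obtain ⟨B', rfl⟩ := up_surj hB.mem.1
  rw [blk_top_iff] at hB
  have hD' : DGH p ⊤ B' (P.subgroupOf H) := by rw [← dgh_map_iff, top_map, of_map hD.le]; exact hD
  obtain ⟨h1, h2⟩ := fmtA hM hB hD'
  have h3 : tr (Ce P) (up (KM M) H B') = up (KM M) H (tr (Ce (P.subgroupOf H)) B') := by
    rw [← tr_Ce_up, of_map hD.le]
  rw [h3, ← Nm_map hD.le hn, blk_map_iff]
  refine ⟨h1, ?_⟩
  rw [← dgh_map_iff, of_map hD.le] at h2
  exact h2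

theorem fmtB' (hM : IsPModular p M) {P : Subgroup G} (hn : Nm P ≤ H) {f : MonoidAlgebra (KM M) G} (hf : IsBlk (Nm P) f)
    (hD : DGH p (Nm P) f P) : ∃ B, IsBlk H B ∧ DGH p H B P ∧ tr (Ce P) B = f := by
  haveI : Fintype H := Fintype.ofFinite _
  have hPH : P ≤ H := hD.le.trans hn
  obtain ⟨f', rfl⟩ := up_surj (hf.mem.1.mono hn)
  rw [← Nm_map hPH hn, blk_map_iff] at hf
  rw [← Nm_map hPH hn] at hD
  have hD' : DGH p (Nm (P.subgroupOf H)) f' (P.subgroupOf H) := by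
    rw [← dgh_map_iff, of_map hPH]; exact hD
  obtain ⟨B, hB, h1, h2⟩ := fmtB hM hf hD'
  refine ⟨up (KM M) H B, blk_top_iff.2 hB, ?_, ?_⟩
  · rw [← dgh_map_iff, top_map, of_map hPH] at h1
    exact h1
  · rw [← h2, ← tr_Ce_up, of_map hPH]

theorem fmt_unique' {B B' : MonoidAlgebra (KM M) G} (hB : IsBlk H B) (hB' : IsBlk H B') {P : Subgroup G}
    (hPH : P ≤ H) (hP : IsPGroup p P) (hne : tr (Ce P) B ≠ 0) (h : tr (Ce P) B = tr (Ce P) B') : B = B' := by
  apply hB.eq_of_mul hB'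
  intro h0
  have h1 := br_mul hP (hB.mem.2.mono hPH) (hB'.mem.2.mono hPH)
  rw [h0, map_zero, ← h, tr_idem hP (hB.mem.2.mono hPH) hB.idem] at h1
  exact hne h1.symm

/-- coefficients version -/
theorem tr_eq_iff {B : Set (IrrCharacter G)} (hB : IsPBlock M B) {c : Set (IrrCharacter H)} (hc : IsPBlock M c)
    (P : Subgroup G) : tr (Ce P) (epG M B) = tr (Ce P) (ep M H c) ↔
      ∀ x : G, x ∈ Subgroup.centralizer (P : Set G) → MemLocalIdeal M (blockCoeff B x - subgroupBlockCoeff H c x) := by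
  constructor
  · intro h x hx
    have h1 := congrArg (fun w => w.coeff x) h
    rw [tr_c_of_mem _ hx, tr_c_of_mem _ hx, epG_c, ep_c, rd_eq_iff (blockCoeff_mem hB x) (sbc_ring hc x)] at h1
    exact h1
  · intro h
    apply ext_c; intro x
    by_cases hx : x ∈ Ce P
    · rw [tr_c_of_mem _ hx, tr_c_of_mem _ hx, epG_c, ep_c, rd_eq_iff (blockCoeff_mem hB x) (sbc_ring hc x)]
      exact h x hx
    · rw [tr_c_of_notMem _ hx, tr_c_of_notMem _ hx]

end main

end Cfsg.Agent.H25.FMT
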