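import Mathlib
import Cfsg.Prelude.Def_BrauerPairs
import Cfsg.Agent.H25_FMT
import Cfsg.Agent.H25_BPInd

/-!
# Induced blocks in terms of the Brauer map, relative versions
-/

set_option autoImplicit false
set_option linter.unusedSectionVars false
set_option linter.style.haveILetI false

namespace Cfsg.Agent.H25.IndQ

open Cfsg Cfsg.Agent.H10.BlockLoc Cfsg.Agent.H10.BlockAlg Cfsg.Agent.H10.BlockIdem Cfsg.Agent.H10.BlockDefect
  Cfsg.Agent.H10.BlockInd
  Cfsg.Agent.H3.CharIrr Cfsg.Agent.H25.Red Cfsg.Agent.H25.KG Cfsg.Agent.H25.BPTr Cfsg.Agent.H25.BPMain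
  Cfsg.Agent.H25.BPDef Cfsg.Agent.H25.BPNorm Cfsg.Agent.H25.BPSub Cfsg.Agent.H25.Cov Cfsg.Agent.H25.Up
  Cfsg.Agent.H25.Cov2 Cfsg.Agent.H25.Cov3 Cfsg.Agent.H25.FMT
open scoped ComplexConjugate

section main

variable {M : Ideal AlgInt} {G : Type*} [Group G] [Fintype G] {p : ℕ} [hp : Fact p.Prime]
  [hMax : M.IsMaximal] [hch : CharP (KM M) p]

/-- induced blocks in terms of the Brauer map -/
theorem ind_iff (hM : IsPModular p M) {Q H : Subgroup G} (hQ : IsPGroup p Q) (hQH : Q ≤ H) (hCH : Ce Q ≤ H)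
    (hHN : H ≤ Nm Q) {b : Set (IrrCharacter H)} (hb : IsPBlock M b) {B : Set (IrrCharacter G)}
    (hB : IsPBlock M B) :
    IsInducedBlock M H b B ↔ tr (Ce Q) (epG M B) * ep M H b = ep M H b := by
  classical
  haveI : Fintype H := Fintype.ofFinite _
  rw [isInducedBlock_iff_brauer Q H hM hQ hQH hHN hb hB]
  let w : ZI H M := ⟨truncC Q H hHN (eB B), truncC_mem Q H hHN (eB_mem_ZI hB)⟩
  have hw : Red.emb H.subtype (Subgroup.subtype_injective H) w = tr (Ce Q) (epG M B) := by
    rw [emb_apply]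
    apply push_eq _ (Subgroup.subtype_injective H)
    · intro y
      show (tr (Ce Q) (epG M B)).coeff (y : G) = rd M ((truncC Q H hHN (eB B) : MonoidAlgebra ℂ H).coeff y)
      rw [truncC_coeff]
      by_cases hy : (y : G) ∈ Ce Q
      · rw [tr_c_of_mem _ hy, if_pos hy, epG_c, eB_coeff]
      · rw [tr_c_of_notMem _ hy, if_neg hy, rd_zero]
    · intro x hx
      rw [tr_c_of_notMem]
      intro h; exact hx ⟨⟨x, hCH h⟩, rfl⟩
  have hidem := tr_idem hQ (fix_top (isBlk_epG hB) Q) (isBlk_epG hB).idem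
  obtain ⟨ξ, hξ⟩ := block_nonempty hb
  have key := mul_eps_iff (Subgroup.subtype_injective H) hb w hξ (by rw [hw]; exact hidem)
  rw [hw, ← ep_eq] at key
  rw [key]
  have hom : omI ξ w = om ξ (truncC Q H hHN (eB B)) := rfl
  rw [hom]
  constructor
  · intro h
    obtain ⟨χ, hχ⟩ := block_nonempty hB
    have h1 := h ξ hξ χ hχ _ (eB_mem_ZI hB)
    rwa [om_eB, if_pos hχ] at h1
  · intro h1
    obtain ⟨χ, hχ⟩ := exists_brauer Q H hHN hM hQ hCH ξ
    have h2 := hχ _ (eB_mem_ZI hB)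
    have h3 : χ ∈ B := by
      by_contra hne
      rw [om_eB, if_neg hne, sub_zero] at h2
      have h4 := ideal_sub h2 h1
      have e1 : om ξ (truncC Q H hHN (eB B)) - (om ξ (truncC Q H hHN (eB B)) - 1) = 1 := by ring
      rw [e1] at h4
      exact one_notMem_ideal h4
    intro ξ' hξ' χ' hχ' z hz
    have e1 := om_sub_mem_of_sameBlock (block_sameBlock hb hξ' hξ) (truncC_mem Q H hHN hz)
    have e2 := om_sub_mem_of_sameBlock (block_sameBlock hB h3 hχ') hz
    have := ideal_add (ideal_add e1 (hχ z hz)) e2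
    convert this using 1; ring

/-- transport isomorphism -/
noncomputable def sI {K L : Subgroup G} (h : K ≤ L) : K ≃* K.subgroupOf L := (Subgroup.subgroupOfEquivOfLe h).symm

omit [Fintype G] in
theorem sI_coe {K L : Subgroup G} (h : K ≤ L) (k : K) : ((sI h k : L) : G) = k := rfl

theorem up_ep {K L : Subgroup G} [Fintype L] (h : K ≤ L) (e : Set (IrrCharacter K)) :
    up (KM M) L (ep M (K.subgroupOf L) (tB (sI h) e)) = ep M K e := by
  apply ext_c; intro x
  rw [ep_c]
  by_cases hxL : x ∈ L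
  · rw [up_c' _ hxL, ep_c]
    by_cases hx : x ∈ K
    · rw [sbc_mem _ hx, sbc_mem _ (x := (⟨x, hxL⟩ : L)) (Subgroup.mem_subgroupOf.2 hx), ← blockCoeff_tB (sI h)]
      rfl
    · rw [sbc_notMem _ hx, sbc_notMem]
      intro h; exact hx (Subgroup.mem_subgroupOf.1 h)
  · rw [up_c_not _ hxL, sbc_notMem _ (fun hx => hxL (h hx)), rd_zero]

theorem indIn_iff {K L : Subgroup G} (h : K ≤ L) (e : Set (IrrCharacter K)) (f : Set (IrrCharacter L)) :
    IsInducedBlockIn M L K e f ↔ IsInducedBlock M (K.subgroupOf L) (tB (sI h) e) f := by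
  unfold IsInducedBlockIn IsInducedBlock
  rw [isPBlock_tB_iff]
  refine and_congr_right fun _ => and_congr_right fun _ => ?_
  have key : ∀ (ξ : IrrCharacter K) (l : L), inducedCentralChar (K.subgroupOf L)
      ((H10.BlockEFM.tr (sI h).symm ξ : IrrCharacter (K.subgroupOf L)) : (K.subgroupOf L) → ℂ) l =
      inducedCentralCharIn L K (ξ : K → ℂ) (l : G) := by
    intro ξ l
    unfold inducedCentralChar inducedCentralCharIn
    refine finsum_mem_eq_of_bijOn (fun k' => (sI h).symm k') ⟨?_, ?_, ?_⟩ ?_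
    · rintro k' hk'
      obtain ⟨x, hx⟩ := isConj_iff.1 (IsConj.symm hk')
      exact ⟨x, congrArg Subtype.val hx⟩
    · exact (sI h).symm.injective.injOn
    · rintro k ⟨x, hx⟩
      refine ⟨sI h k, ?_, (sI h).symm_apply_apply k⟩
      show IsConj l ((sI h k : K.subgroupOf L) : L)
      apply IsConj.symm
      rw [isConj_iff]
      exact ⟨x, Subtype.ext hx⟩
    · intro k' _
      rw [H10.BlockEFM.tr_apply, H10.BlockEFM.tr_apply, map_one]
  constructor
  · rintro hh ξ' hξ' χ hχ l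
    rw [mem_tB] at hξ'
    have := hh _ hξ' χ hχ l
    rw [← key, H10.BlockEFM.tr_symm_tr] at this
    exact this
  · intro hh ξ hξ χ hχ l
    have := hh _ (tr_mem_tB (sI h) hξ) χ hχ l
    rwa [key] at this

/-- relative version -/
theorem indIn_iff' (hM : IsPModular p M) {Q K L : Subgroup G} (hQ : IsPGroup p Q) (hKL : K ≤ L) (hQK : Q ≤ K)
    (hCK : Ce Q ⊓ L ≤ K) (hKN : K ≤ Nm Q) {e : Set (IrrCharacter K)} (he : IsPBlock M e)
    {f : Set (IrrCharacter L)} (hf : IsPBlock M f) :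
    IsInducedBlockIn M L K e f ↔ tr (Ce Q) (ep M L f) * ep M K e = ep M K e := by
  haveI : Fintype L := Fintype.ofFinite _
  have hQL : Q ≤ L := hQK.trans hKL
  rw [indIn_iff hKL, ind_iff hM (Q := Q.subgroupOf L) (hQ.comap_of_injective _ (Subgroup.subtype_injective L))
    (fun x hx => Subgroup.mem_subgroupOf.2 (hQK (Subgroup.mem_subgroupOf.1 hx))) ?_ ?_ (isPBlock_tB _ he) hf]
  · have h1 : ep M L f = up (KM M) L (epG M f) := (up_epG f).symm
    have h2 : tr (Ce Q) (ep M L f) = up (KM M) L (tr (Ce (Q.subgroupOf L)) (epG M f)) := by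
      rw [h1, ← tr_Ce_up, of_map hQL]
    rw [h2, ← up_ep hKL, ← map_mul]
    exact ⟨fun h => congrArg _ h, fun h => up_inj h⟩
  · intro x hx
    rw [Subgroup.mem_subgroupOf]
    apply hCK
    refine ⟨Subgroup.mem_centralizer_iff.2 ?_, x.2⟩
    intro y hy
    exact congrArg Subtype.val (Subgroup.mem_centralizer_iff.1 hx ⟨y, hQL hy⟩ (Subgroup.mem_subgroupOf.2 hy))
  · intro x hx
    have hxN := hKN (Subgroup.mem_subgroupOf.1 hx)
    rw [Subgroup.mem_normalizer_iff] at hxN ⊢
    intro y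
    rw [Subgroup.mem_subgroupOf, Subgroup.mem_subgroupOf]
    exact hxN y

end main

end Cfsg.Agent.H25.IndQ
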