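import Mathlib
import Cfsg.Agent.H25_IndQ

/-!
# The Harris–Knörr theorem
-/

set_option autoImplicit false
set_option linter.unusedSectionVars false
set_option linter.style.haveILetI false

namespace Cfsg.Agent.H25.HK

open Cfsg Cfsg.Agent.H10.BlockLoc Cfsg.Agent.H10.BlockAlg Cfsg.Agent.H10.BlockIdem Cfsg.Agent.H10.BlockDefect
  Cfsg.Agent.H10.BlockInd
  Cfsg.Agent.H3.CharIrr Cfsg.Agent.H25.Red Cfsg.Agent.H25.KG Cfsg.Agent.H25.BPTr Cfsg.Agent.H25.BPMain
  Cfsg.Agent.H25.BPDef Cfsg.Agent.H25.BPNorm Cfsg.Agent.H25.BPSub Cfsg.Agent.H25.Cov Cfsg.Agent.H25.Up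
  Cfsg.Agent.H25.Cov2 Cfsg.Agent.H25.Cov3 Cfsg.Agent.H25.FMT Cfsg.Agent.H25.IndQ
open scoped ComplexConjugate

section rel

variable {M : Ideal AlgInt} {G : Type*} [Group G] [Fintype G] {p : ℕ} [hp : Fact p.Prime]
  [hMax : M.IsMaximal] [hch : CharP (KM M) p] {H : Subgroup G}

omit [Fintype G] in
theorem Nm_map' {P : Subgroup G} (hPH : P ≤ H) : (Nm (P.subgroupOf H)).map H.subtype = Nm P ⊓ H := by
  ext x
  constructor
  · rintro ⟨y, hy, rfl⟩
    refine ⟨?_, y.2⟩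
    have hy' : y ∈ Nm (P.subgroupOf H) := hy
    show (y : G) ∈ Nm P
    rw [Subgroup.mem_normalizer_iff] at hy' ⊢
    intro z
    constructor
    · intro hz
      exact Subgroup.mem_subgroupOf.1 ((hy' ⟨z, hPH hz⟩).1 (Subgroup.mem_subgroupOf.2 hz))
    · intro hz
      have hzH : z ∈ H := by
        have h1 := hPH hz
        have h2 : z = (y : G)⁻¹ * ((y : G) * z * (y : G)⁻¹) * y := by group
        rw [h2]
        exact H.mul_mem (H.mul_mem (H.inv_mem y.2) h1) y.2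
      exact Subgroup.mem_subgroupOf.1 ((hy' ⟨z, hzH⟩).2 (Subgroup.mem_subgroupOf.2 hz))
  · rintro ⟨hx, hxH⟩
    refine ⟨⟨x, hxH⟩, ?_, rfl⟩
    show (⟨x, hxH⟩ : H) ∈ Nm (P.subgroupOf H)
    rw [Subgroup.mem_normalizer_iff]
    intro z
    rw [Subgroup.mem_subgroupOf, Subgroup.mem_subgroupOf]
    exact Subgroup.mem_normalizer_iff.1 hx z

theorem fmtA_rel (hM : IsPModular p M) {B : MonoidAlgebra (KM M) G} (hB : IsBlk H B) {P : Subgroup G}
    (hD : DGH p H B P) : IsBlk (Nm P ⊓ H) (tr (Ce P) B) ∧ DGH p (Nm P ⊓ H) (tr (Ce P) B) P := by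
  haveI : Fintype H := Fintype.ofFinite _
  obtain ⟨B', rfl⟩ := up_surj hB.mem.1
  rw [blk_top_iff] at hB
  have hD' : DGH p ⊤ B' (P.subgroupOf H) := by rw [← dgh_map_iff, top_map, of_map hD.le]; exact hD
  obtain ⟨h1, h2⟩ := fmtA hM hB hD'
  have h3 : tr (Ce P) (up (KM M) H B') = up (KM M) H (tr (Ce (P.subgroupOf H)) B') := by
    rw [← tr_Ce_up, of_map hD.le]
  rw [h3, ← Nm_map' hD.le, blk_map_iff]
  refine ⟨h1, ?_⟩
  rw [← dgh_map_iff, of_map hD.le] at h2
  exact h2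

theorem knorr_rel' {N : Subgroup G} (hNH : N ≤ H) (hn : H ≤ Nm N) {B b : MonoidAlgebra (KM M) G}
    (hB : IsBlk H B) (hb : IsBlk N b) (h : B * b ≠ 0) {D Q : Subgroup G}
    (hD : DGH p H B D) (hQ : DGH p N b Q) : ∃ g ∈ H, DGH p H B (cs g D) ∧ cs g D ⊓ N = Q := by
  haveI : Fintype H := Fintype.ofFinite _
  haveI := normal_of hn
  obtain ⟨B', rfl⟩ := up_surj hB.mem.1
  obtain ⟨b', rfl⟩ := up_surj (hb.mem.1.mono hNH)
  rw [blk_top_iff] at hB
  rw [blk_of_iff hNH] at hb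
  have hne : B' * b' ≠ 0 := by
    intro h0; apply h; rw [← map_mul, h0, map_zero]
  have hD' : DGH p ⊤ B' (D.subgroupOf H) := by rw [← dgh_map_iff, top_map, of_map hD.le]; exact hD
  have hQN : Q ≤ N := hQ.le
  have hQ' : DGH p (N.subgroupOf H) b' (Q.subgroupOf H) := by
    rw [← dgh_map_iff, of_map hNH, of_map (hQN.trans hNH)]; exact hQ
  obtain ⟨g, h1, h2⟩ := knorr' hB hb hne hD' hQ'
  refine ⟨g, g.2, ?_, ?_⟩
  · rw [← dgh_map_iff, top_map, cs_map, of_map hD.le] at h1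
    exact h1
  · have h3 := congrArg (Subgroup.map H.subtype) h2
    rw [Subgroup.map_inf _ _ _ (Subgroup.subtype_injective H), cs_map, of_map hD.le, of_map hNH,
      of_map (hQN.trans hNH)] at h3
    exact h3

end rel

section main

variable {M : Ideal AlgInt} {G : Type*} [Group G] [Fintype G] {p : ℕ} [hp : Fact p.Prime]
  [hMax : M.IsMaximal] [hch : CharP (KM M) p] {N Q : Subgroup G} [hN : N.Normal]

omit [Fintype G] in
theorem cs_inf_normal (g : G) (D : Subgroup G) : cs g D ⊓ N = cs g (D ⊓ N) := by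
  ext z
  rw [Subgroup.mem_inf, mem_cs, mem_cs, Subgroup.mem_inf]
  apply and_congr_right
  intro _
  constructor
  · intro hz
    have := hN.conj_mem z hz g⁻¹
    rwa [inv_inv] at this
  · intro hz
    have := hN.conj_mem _ hz g
    have e : g * (g⁻¹ * z * g) * g⁻¹ = z := by group
    rwa [e] at this

omit [Fintype G] in
theorem Nm_le_of_inf {D : Subgroup G} (h : D ⊓ N = Q) : Nm D ≤ Nm Q := by
  intro x hx
  rw [mem_normalizer_iff_cs] at hx ⊢
  rw [← h, ← cs_inf_normal, hx]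

/-- data for Harris–Knörr -/
theorem hk (hM : IsPModular p M) {d e : MonoidAlgebra (KM M) G} (hd : IsBlk N d) (hdQ : DGH p N d Q)
    (he : tr (Ce Q) d = e) (heK : IsBlk (Nm Q ⊓ N) e) (heQ : DGH p (Nm Q ⊓ N) e Q) :
    (∀ c B, IsBlk (Nm Q) c → c * e ≠ 0 → IsBlk ⊤ B → tr (Ce Q) B * c = c → B * d ≠ 0) ∧
    (∀ B, IsBlk ⊤ B → B * d ≠ 0 → ∃ c, IsBlk (Nm Q) c ∧ c * e ≠ 0 ∧ tr (Ce Q) B * c = c ∧
      ∀ c', IsBlk (Nm Q) c' → c' * e ≠ 0 → tr (Ce Q) B * c' = c' → c' = c) := by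
  have hQ : IsPGroup p Q := hdQ.pg
  have hQN : Q ≤ N := hdQ.le
  constructor
  · intro c B hc hce hB hBc h0
    apply hce
    have h1 := br_mul hQ (fix_top hB Q) (hd.mem.2.mono hQN)
    rw [h0, map_zero, he] at h1
    have h2 : e * c = c * e := (comm_of hc.mem.2 (heK.mem.1.mono inf_le_left)).symm
    rw [← hBc, mul_assoc, ← h2, ← mul_assoc, ← h1, zero_mul]
  · intro B hB hBd
    obtain ⟨D0, hD0⟩ := exists_DGH (p := p) hM hB
    obtain ⟨g, hD, hDN⟩ := knorr' hB hd hBd hD0 hdQ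
    set D := cs g D0 with hDdef
    have hNm : Nm D ≤ Nm Q := Nm_le_of_inf hDN
    obtain ⟨h1, h2⟩ := fmtA hM hB hD
    obtain ⟨c, hc, hcD, hcf⟩ := fmtB' hM hNm h1 h2
    have hQD : Q ≤ D := hDN ▸ inf_le_left
    have hDQ : D ≤ Nm Q := Subgroup.le_normalizer.trans hNm
    have htrBZ : tr (Ce Q) B ∈ Z (Nm Q) := ⟨(supp_tr _ _).mono (Ce_le_Nm Q), Fix.tr (norm_le_norm_Ce Q) (hB.mem.2.mono le_top)⟩
    have hid := tr_idem hQ (fix_top hB Q) hB.idem
    have htt : ∀ S : Subgroup G, Q ≤ S → tr (Ce S) (tr (Ce Q) B) = tr (Ce S) B := fun S hS => tr_tr (Ce_anti hS) B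
    have hBc : tr (Ce Q) B * c = c := by
      rcases hc.prim _ htrBZ hid with h3 | h3
      · exact h3
      · exfalso
        have h4 := br_mul hD.pg (htrBZ.2.mono hDQ) (hc.mem.2.mono hDQ)
        rw [h3, map_zero, htt D hQD, hcf] at h4
        apply h1.ne
        rw [← h1.idem, ← h4]
    have hce : c * e ≠ 0 := by
      intro h0
      have h3 := mul_osN hB hd hBd
      have hfo : Fix Q (osN N d) := (osN_Z hd).2.mono le_top
      have h4 : tr (Ce Q) B * tr (Ce Q) (osN N d) = tr (Ce Q) B := by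
        rw [← br_mul hQ (fix_top hB Q) hfo, h3]
      have h5 : tr (Ce Q) (osN N d) * c ≠ 0 := by
        intro h6
        apply hc.ne
        rw [← hBc, ← h4, mul_assoc, h6, mul_zero]
      rw [osN, map_sum, Finset.sum_mul] at h5
      obtain ⟨f, hf, hne⟩ := Finset.exists_ne_zero_of_sum_ne_zero h5
      obtain ⟨y, rfl⟩ := (mem_orbN hd).1 hf
      have h7 : tr (Ce Q) (cnj y d) ≠ 0 := fun h8 => hne (by rw [h8, zero_mul])
      have hdy : DGH p N (cnj y d) (cs y Q) := by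
        have := hdQ.cnj y
        rwa [cs_normal] at this
      obtain ⟨n, hn, hnQ⟩ := hdy.max Q hQN hQ h7
      rw [← cs_mul] at hnQ
      have h9 : Q = cs (n * y) Q := Subgroup.eq_of_le_of_card_ge hnQ (by rw [card_cs])
      have h10 : n * y ∈ Nm Q := mem_normalizer_iff_cs.2 h9.symm
      have h11 : cnj y d = cnj (n * y) d := by
        rw [cnj_mul_apply]
        exact ((cnj_blk hd y).mem.2 n hn).symm
      rw [h11] at hne
      have h12 : tr (Ce Q) (cnj (n * y) d) = cnj (n * y) e := by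
        rw [← he, cnj_tr, cs_Nm_Ce h10]
      rw [h12] at hne
      apply hne
      have h13 := congrArg (cnj (n * y)) h0
      rw [map_mul, hc.mem.2 _ h10, map_zero] at h13
      rw [← h13]
      have h14 : Supp (Nm Q) (cnj (n * y) e) := by
        have h15 := (heK.mem.1.mono (inf_le_left : Nm Q ⊓ N ≤ Nm Q)).cnj (n * y)
        rwa [mem_normalizer_iff_cs.1 (Subgroup.le_normalizer h10)] at h15
      exact (comm_of hc.mem.2 h14).symm
    refine ⟨c, hc, hce, hBc, ?_⟩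
    intro c' hc' hce' hBc'
    obtain ⟨D1, hD1⟩ := exists_DGH (p := p) hM hc'
    have hKn : Nm Q ≤ Nm (Nm Q ⊓ N) := by
      intro x hx
      rw [mem_normalizer_iff_cs, inf_comm]
      have h3 : cs x (Nm Q) = Nm Q := mem_normalizer_iff_cs.1 (Subgroup.le_normalizer hx)
      have h4 : cs x (N ⊓ Nm Q) = N ⊓ Nm Q := by
        rw [inf_comm, ← cs_inf_normal, h3]
      exact h4
    obtain ⟨x, hx, hD', hD'N⟩ := knorr_rel' (inf_le_left : Nm Q ⊓ N ≤ Nm Q) hKn hc' heK hce' hD1 heQ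
    set D' := cs x D1 with hD'def
    have hD'N' : D' ⊓ N = Q := by
      rw [← hD'N]
      apply le_antisymm
      · exact le_inf inf_le_left (le_inf (inf_le_left.trans hD'.le) inf_le_right)
      · exact inf_le_inf_left _ inf_le_right
    have hNm' : Nm D' ≤ Nm Q := Nm_le_of_inf hD'N'
    have hQD' : Q ≤ D' := hD'N' ▸ inf_le_left
    obtain ⟨h3, h4⟩ := fmtA' hM hc' hNm' hD'
    obtain ⟨B', hB', hB'D, hB'f⟩ := fmtB hM h3 h4
    have hBB' : B = B' := by
      apply hB.eq_of_mul hB'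
      intro h0
      have h5 := br_mul hD'.pg (fix_top hB D') (fix_top hB' D')
      rw [h0, map_zero, hB'f] at h5
      have h6 := br_mul hD'.pg (htrBZ.2.mono hD'.le) (hc'.mem.2.mono hD'.le)
      rw [hBc', htt D' hQD'] at h6
      apply h3.ne
      rw [h6, ← h5]
    subst hBB'
    obtain ⟨y, _, hy⟩ := hD.conj_eq hB'D
    have hyQ : y ∈ Nm Q := by
      rw [mem_normalizer_iff_cs]
      conv_rhs => rw [← hD'N', hy, cs_inf_normal, hDN]
    have hcD' : DGH p (Nm Q) c D' := by rw [hy]; exact hcD.conj hc.mem.2 hyQ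
    apply fmt_unique' hc' hc hD'.le hD'.pg h3.ne
    rw [← hB'f, hy, Ce, centralizer_cs]
    have h5 := congrArg (cnj y) hcf
    rw [cnj_tr, cnj_tr, hc.mem.2 y hyQ, hB.mem.2 y (Subgroup.mem_top y)] at h5
    exact h5.symm

end main

end Cfsg.Agent.H25.HK
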