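import Mathlib
import Cfsg.Agent.H25_HK

/-!
# Covering conditions for nested subgroups
-/

set_option autoImplicit false
set_option linter.unusedSectionVars false
set_option linter.style.haveILetI false

namespace Cfsg.Agent.H25.CovRel

open Cfsg Cfsg.Agent.H10.BlockLoc Cfsg.Agent.H10.BlockAlg Cfsg.Agent.H10.BlockIdem Cfsg.Agent.H10.BlockDefect
  Cfsg.Agent.H10.BlockInd
  Cfsg.Agent.H3.CharIrr Cfsg.Agent.H25.Red Cfsg.Agent.H25.KG Cfsg.Agent.H25.BPTr Cfsg.Agent.H25.BPMain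
  Cfsg.Agent.H25.BPDef Cfsg.Agent.H25.BPNorm Cfsg.Agent.H25.BPSub Cfsg.Agent.H25.Cov Cfsg.Agent.H25.Up
  Cfsg.Agent.H25.Cov2 Cfsg.Agent.H25.Cov3 Cfsg.Agent.H25.FMT Cfsg.Agent.H25.IndQ Cfsg.Agent.H25.HK
open scoped ComplexConjugate

variable {M : Ideal AlgInt} {G : Type*} [Group G] [Fintype G] [hMax : M.IsMaximal]

theorem classInner_iso {K K' : Type*} [Group K] [Group K'] [Fintype K] [Fintype K'] (e : K ≃* K') (f g : K' → ℂ) :
    classInner (fun k => f (e k)) (fun k => g (e k)) = classInner f g := by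
  unfold classInner
  rw [Nat.card_congr e.toEquiv]
  congr 1
  exact Equiv.sum_comp e.toEquiv (fun k => f k * conj (g k))

/-- covering for nested subgroups -/
theorem cov_rel {K L : Subgroup G} [Fintype K] (hKL : K ≤ L) (hn : L ≤ Nm K) {c : Set (IrrCharacter L)} (hc : IsPBlock M c)
    {e : Set (IrrCharacter K)} (he : IsPBlock M e) :
    (∃ ψ ∈ c, ∃ ξ ∈ e, classInner (fun l : K => (ψ : L → ℂ) ⟨(l : G), hKL l.2⟩) (ξ : K → ℂ) ≠ 0) ↔
      ep M L c * ep M K e ≠ 0 := by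
  haveI : Fintype L := Fintype.ofFinite _
  haveI : Fintype (K.subgroupOf L) := Fintype.ofFinite _
  have hnn : (K.subgroupOf L).Normal := normal_of hn
  have h1 := cov_iff hnn hc (isPBlock_tB (sI hKL) he)
  have h2 : epG M c * ep M (K.subgroupOf L) (tB (sI hKL) e) ≠ 0 ↔ ep M L c * ep M K e ≠ 0 := by
    rw [← up_ep hKL, ← up_epG (H := L), ← map_mul, not_iff_not]
    constructor
    · intro h; rw [h, map_zero]
    · intro h; apply up_inj; rw [h, map_zero]
  rw [← h2, ← h1]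
  constructor
  · rintro ⟨ψ, hψ, ξ, hξ, h⟩
    refine ⟨ψ, hψ, _, tr_mem_tB (sI hKL) hξ, ?_⟩
    rw [← classInner_iso (sI hKL)]
    have e1 : (fun k => ((H10.BlockEFM.tr (sI hKL).symm ξ : IrrCharacter (K.subgroupOf L)) : _ → ℂ) (sI hKL k)) =
        (ξ : K → ℂ) := by
      funext k
      rw [H10.BlockEFM.tr_apply, MulEquiv.symm_apply_apply]
    rw [e1]
    exact h
  · rintro ⟨ψ, hψ, θ, hθ, h⟩
    rw [mem_tB] at hθ
    refine ⟨ψ, hψ, _, hθ, ?_⟩
    rw [← classInner_iso (sI hKL)] at h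
    exact h

end Cfsg.Agent.H25.CovRel
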