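import Mathlib
import Cfsg.Agent.H25_CovRel

/-!
# Brauer's extended first main theorem
-/

set_option autoImplicit false
set_option linter.unusedSectionVars false
set_option linter.style.haveILetI false

namespace Cfsg.Agent.H25.ExtFMT

open Cfsg Cfsg.Agent.H10.BlockLoc Cfsg.Agent.H10.BlockAlg Cfsg.Agent.H10.BlockIdem Cfsg.Agent.H10.BlockDefect
  Cfsg.Agent.H10.BlockInd
  Cfsg.Agent.H3.CharIrr Cfsg.Agent.H25.Red Cfsg.Agent.H25.KG Cfsg.Agent.H25.BPTr Cfsg.Agent.H25.BPMain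
  Cfsg.Agent.H25.BPDef Cfsg.Agent.H25.BPNorm Cfsg.Agent.H25.BPSub Cfsg.Agent.H25.Cov Cfsg.Agent.H25.Up
  Cfsg.Agent.H25.Cov2 Cfsg.Agent.H25.Cov3 Cfsg.Agent.H25.FMT Cfsg.Agent.H25.IndQ Cfsg.Agent.H25.HK
open scoped ComplexConjugate

section grp

variable {G : Type*} [Group G] [Finite G] {p : ℕ} [hp : Fact p.Prime]

theorem normal_sub {H K : Subgroup G} (hn : K ≤ Nm H) : (H.subgroupOf K).Normal := by
  constructor
  intro n hn' g
  rw [Subgroup.mem_subgroupOf] at hn' ⊢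
  exact (Subgroup.mem_normalizer_iff.1 (hn g.2) n).1 hn'

/-- index of `H` in `H ⊔ S` -/
theorem relIndex_sup {H S : Subgroup G} (hn : S ≤ Nm H) : H.relIndex (H ⊔ S) = H.relIndex S := by
  set L := H ⊔ S with hL
  have hHL : H ≤ L := le_sup_left
  have hSL : S ≤ L := le_sup_right
  have hLn : L ≤ Nm H := sup_le Subgroup.le_normalizer hn
  haveI := normal_sub hLn
  have h1 : (H.subgroupOf L).relIndex ((S.subgroupOf L) ⊔ (H.subgroupOf L)) =
      (H.subgroupOf L).relIndex (S.subgroupOf L) := Subgroup.relIndex_sup_right _ _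
  rw [← Subgroup.subgroupOf_sup hSL hHL, sup_comm, ← hL, Subgroup.subgroupOf_self, Subgroup.relIndex_top_right] at h1
  have h2 : (H.subgroupOf L).relIndex (S.subgroupOf L) = H.relIndex S := Subgroup.relIndex_subgroupOf hSL
  rw [h2] at h1
  exact h1

theorem relIndex_pow {H S : Subgroup G} (hn : S ≤ Nm H) (hS : IsPGroup p S) : ∃ m : ℕ, H.relIndex (H ⊔ S) = p ^ m := by
  rw [relIndex_sup hn]
  obtain ⟨n, hn⟩ := IsPGroup.iff_card.1 hS
  have h1 : H.relIndex S ∣ p ^ n := by rw [← hn]; exact Subgroup.relIndex_dvd_card H S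
  obtain ⟨m, _, hm⟩ := (Nat.dvd_prime_pow hp.out).1 h1
  exact ⟨m, hm⟩

/-- `p`-subgroups lie in normal subgroups of index prime to `p` -/
theorem le_of_relIndex {H T S : Subgroup G} (hHT : H ≤ T) (hn : T ≤ Nm H) (hST : S ≤ T) (hS : IsPGroup p S)
    (hidx : ¬ p ∣ H.relIndex T) : S ≤ H := by
  intro x hx
  haveI := normal_sub hn
  obtain ⟨k, hk⟩ := hS ⟨x, hx⟩
  have hk' : x ^ p ^ k = 1 := congrArg Subtype.val hk
  have h1 : (⟨x, hST hx⟩ : T) ^ p ^ k = 1 := Subtype.ext hk'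
  have h4 : (QuotientGroup.mk' (H.subgroupOf T) ⟨x, hST hx⟩) ^ (H.relIndex T) = 1 := by
    rw [Subgroup.relIndex, Subgroup.index_eq_card, pow_card_eq_one']
  have h5 : (QuotientGroup.mk' (H.subgroupOf T) ⟨x, hST hx⟩) ^ (p ^ k) = 1 := by
    rw [← map_pow, h1, map_one]
  have h6 : orderOf (QuotientGroup.mk' (H.subgroupOf T) ⟨x, hST hx⟩) = 1 := by
    apply Nat.eq_one_of_dvd_coprimes (a := p ^ k) (b := H.relIndex T)
    · exact Nat.Coprime.pow_left _ ((Nat.Prime.coprime_iff_not_dvd hp.out).2 hidx)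
    · exact orderOf_dvd_of_pow_eq_one h5
    · exact orderOf_dvd_of_pow_eq_one h4
  rw [orderOf_eq_one_iff] at h6
  exact Subgroup.mem_subgroupOf.1 ((QuotientGroup.eq_one_iff _).1 h6)

theorem exists_not_le {H T P : Subgroup G} (hHT : H ≤ T) (hPT : P ≤ T) (hP : IsPGroup p P)
    (hidx : p ∣ H.relIndex T) : ∃ S : Subgroup G, IsPGroup p S ∧ P ≤ S ∧ S ≤ T ∧ ¬ S ≤ H := by
  obtain ⟨S, hS, hPS⟩ := exists_isSyl T hP hPT
  refine ⟨S, hS.pg, hPS, hS.le, fun hSH => ?_⟩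
  obtain ⟨S', hS'⟩ := hS.exists_sylow
  have h1 : ¬ p ∣ (S' : Subgroup T).index := S'.not_dvd_index
  apply h1
  rw [hS']
  have h2 : S.relIndex T = S.relIndex H * H.relIndex T := (Subgroup.relIndex_mul_relIndex S H T hSH hHT).symm
  show p ∣ S.relIndex T
  rw [h2]
  exact Dvd.dvd.mul_left hidx _

end grp

section main

variable {M : Ideal AlgInt} {G : Type*} [Group G] [Fintype G] {p : ℕ} [hp : Fact p.Prime]
  [hMax : M.IsMaximal] [hch : CharP (KM M) p]

/-- a block of `P C(P)` is a block of `C(P)` -/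
theorem blk_of_PC (hM : IsPModular p M) {P H : Subgroup G} (hP : IsPGroup p P) (hPH : P ≤ H) (hCH : Ce P ≤ H)
    (hHn : H ≤ P ⊔ Ce P) {e : MonoidAlgebra (KM M) G} (he : IsBlk H e) : IsBlk (Ce P) e := by
  have hHN : H ≤ Nm P := hHn.trans (sup_le Subgroup.le_normalizer (Ce_le_Nm P))
  have hsupp := supp_of_normal hM hP hPH hHN he.mem he.idem
  have heZ : e ∈ Z (Ce P) := ⟨hsupp, he.mem.2.mono hCH⟩
  obtain ⟨e1, he1, h1⟩ := exists_blk heZ he.idem he.ne
  have hfix : Fix H e1 := (fix_sup (fix_of_supp he1.mem.1) he1.mem.2).mono hHn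
  have he1H : IsBlk H e1 := isBlk_stab hM hP hPH hHN hCH he1 hfix
  rw [he.eq_of_mul he1H (by rw [h1]; exact he1.ne)]
  exact he1

theorem top_iff (hM : IsPModular p M) {P H T : Subgroup G} (hP : IsPGroup p P) (hH : H = P ⊔ Ce P)
    {e : MonoidAlgebra (KM M) G} (he : IsBlk H e) (hD : DGH p H e P) (hT : ∀ g, g ∈ T ↔ g ∈ Nm P ∧ cnj g e = e) :
    Top p P e ↔ ¬ p ∣ H.relIndex T := by
  have hPH : P ≤ H := hH ▸ le_sup_left
  have hCH : Ce P ≤ H := hH ▸ le_sup_right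
  have heC : IsBlk (Ce P) e := blk_of_PC hM hP hPH hCH hH.le he
  have hTN : T ≤ Nm P := fun g hg => ((hT g).1 hg).1
  have hTe : Fix T e := fun g hg => ((hT g).1 hg).2
  have hHT : H ≤ T := by
    intro g hg
    refine (hT g).2 ⟨?_, he.mem.2 g hg⟩
    rw [hH] at hg
    exact (sup_le Subgroup.le_normalizer (Ce_le_Nm P)) hg
  have hTH : T ≤ Nm H := by
    intro g hg
    rw [mem_normalizer_iff_cs, hH]
    have h1 := mem_normalizer_iff_cs.1 (hTN hg)
    have h2 := cs_Nm_Ce (hTN hg)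
    rw [KG.cs, Subgroup.map_sup]
    change KG.cs g P ⊔ KG.cs g (Ce P) = _
    rw [h1, h2]
  constructor
  · intro ht hidx
    obtain ⟨S, hS, hPS, hST, hSH⟩ := exists_not_le hHT (hPH.trans hHT) hP hidx
    have hSn : S ≤ Nm H := hST.trans hTH
    obtain ⟨m, hm⟩ := relIndex_pow hSn hS
    have hHS : H ⊔ S ≤ T := sup_le hHT hST
    have hbH : IsBlk (H ⊔ S) e := blk_of_index hM le_sup_left (sup_le Subgroup.le_normalizer hSn) ⟨m, hm⟩ he (hTe.mono hHS)
    obtain ⟨D', hD'⟩ := exists_DGH (p := p) hM hbH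
    have hsup := sup_eq_rel hM le_sup_left (sup_le Subgroup.le_normalizer hSn) ⟨m, hm⟩ he (hTe.mono hHS) hD'
    have hD'T : D' ≤ T := hD'.le.trans hHS
    have hpd : IsPGroup p (P ⊔ D' : Subgroup G) := isPGroup_sup hP hD'.pg (hD'T.trans hTN)
    have hne : tr (Ce (P ⊔ D')) e ≠ 0 := by
      obtain ⟨y, hy, hy'⟩ := exists_coeff_of_tr_ne hD'.ne
      refine tr_ne_of_coeff (y := y) ?_ hy'
      rw [Ce_sup]; exact ⟨heC.mem.1 y hy', hy⟩
    obtain ⟨e', he'⟩ := exists_above hpd heC le_sup_left (sup_le Subgroup.le_normalizer (hD'T.trans hTN))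
      (hTe.mono (sup_le (hPH.trans hHT) hD'T)) hne
    have h1 := ht.max _ e' he'
    have h2 : D' ≤ H := (le_sup_right.trans h1.le).trans hPH
    rw [sup_eq_left.2 h2] at hsup
    apply hSH
    rw [hsup]; exact le_sup_right
  · intro hidx
    refine ⟨hP, heC, fun S e' hns => ?_⟩
    have hST : S ≤ T := fun x hx => (hT x).2 ⟨hns.norm hx, hns.fix x hx⟩
    have hSH : S ≤ H := le_of_relIndex hHT hTH hST hns.pP hidx
    have h1 := hD.card_le hSH hns.pP hns.ne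
    exact (Subgroup.eq_of_le_of_card_ge hns.le h1).symm

end main

end Cfsg.Agent.H25.ExtFMT
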