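import Mathlib
import Cfsg.Agent.H25_BPSub
import Cfsg.Agent.H25_FMT
import Cfsg.Agent.H27_FusBasic
import Cfsg.Agent.H27_FusMk
import Cfsg.Prelude.Def_BlockFusion

/-!
# The fusion system of a block: fusion relation in `kG`
-/

set_option autoImplicit false
set_option linter.unusedSectionVars false
set_option linter.style.haveILetI false

namespace Cfsg.Agent.H25.Fus

open Cfsg Cfsg.Agent.H25.Red Cfsg.Agent.H25.KG Cfsg.Agent.H25.BPTr Cfsg.Agent.H25.BPMain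
  Cfsg.Agent.H25.BPDef Cfsg.Agent.H25.BPSub Cfsg.Agent.H25.FMT

section gen

variable {k : Type*} [Field k] {G : Type*} [Group G] [Fintype G] {p : ℕ}

/-- `g` induces a morphism on `Q` in the fusion system of the maximal pair `(P,E)` -/
def FR (p : ℕ) (P : Subgroup G) (E : MonoidAlgebra k G) (Q : Subgroup G) (g : G) : Prop :=
  ∃ f, LE p Q f P E ∧ LE p (cs g Q) (KG.cnj g f) P E

variable {P Q R : Subgroup G} {E f : MonoidAlgebra k G} {g h : G}

variable [hp : Fact p.Prime] [CharP k p]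

theorem FR.le (hg : FR p P E Q g) : Q ≤ P := by
  obtain ⟨f, h1, -⟩ := hg; exact h1.le

theorem FR.le' (hg : FR p P E Q g) : cs g Q ≤ P := by
  obtain ⟨f, -, h1⟩ := hg; exact h1.le

theorem FR.inv (hg : FR p P E Q g) : FR p P E (cs g Q) g⁻¹ := by
  obtain ⟨f, h1, h2⟩ := hg
  refine ⟨KG.cnj g f, h2, ?_⟩
  rw [← cs_mul, inv_mul_cancel, cs_one, cnj_inv_cnj]
  exact h1

theorem fix_self (hE : IsBlk (Ce P) E) (hg : g ∈ P) : KG.cnj g E = E := fix_of_supp hE.mem.1 g hg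

theorem FR.of_mem (hP : IsPGroup p P) (hE : IsBlk (Ce P) E) (hQ : Q ≤ P) (hg : g ∈ P) : FR p P E Q g := by
  obtain ⟨f, -, h1⟩ := le_exists hP hE hQ
  refine ⟨f, h1, ?_⟩
  have h2 := h1.cnj g
  have h3 : cs g P = P := mem_normalizer_iff_cs.1 (Subgroup.le_normalizer hg)
  rw [h3, fix_self hE hg] at h2
  exact h2

theorem FR.lef (hP : IsPGroup p P) (hE : IsBlk (Ce P) E) (hg : FR p P E Q g) (hf : LE p Q f P E) :
    LE p (cs g Q) (KG.cnj g f) P E := by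
  obtain ⟨f', h1, h2⟩ := hg
  rwa [le_unique hP hE h1 hf] at h2

theorem FR.mul (hP : IsPGroup p P) (hE : IsBlk (Ce P) E) (hg : FR p P E Q g) (hh : FR p P E R h)
    (hle : cs g Q ≤ R) : FR p P E Q (h * g) := by
  obtain ⟨f, h1, h2⟩ := hg
  obtain ⟨f', h3, h4⟩ := hh
  refine ⟨f, h1, ?_⟩
  have h5 : LE p (cs g Q) (KG.cnj g f) R f' := LE.between hP hE h2 h3 hle
  have h6 := h5.cnj h
  rw [← cs_mul, ← cnj_mul_apply] at h6
  exact h6.trans h4

theorem FR.mono (hP : IsPGroup p P) (hE : IsBlk (Ce P) E) (hg : FR p P E R g) (hQ : Q ≤ R) :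
    FR p P E Q g := by
  have h1 : FR p P E Q 1 := FR.of_mem hP hE (hQ.trans hg.le) P.one_mem
  have h2 := FR.mul hP hE h1 hg (by rw [cs_one]; exact hQ)
  rwa [mul_one] at h2

theorem FR.of_cent (hP : IsPGroup p P) (hE : IsBlk (Ce P) E) (hQ : Q ≤ P) (hg : g ∈ Ce Q) : FR p P E Q g := by
  obtain ⟨f, hf, h1⟩ := le_exists hP hE hQ
  refine ⟨f, h1, ?_⟩
  have h3 : cs g Q = Q := mem_normalizer_iff_cs.1 (Ce_le_Nm Q hg)
  rw [h3, hf.mem.2 g hg]
  exact h1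

theorem FR.stab (hP : IsPGroup p P) (hE : IsBlk (Ce P) E) (hg : FR p P E Q g) (hn : g ∈ Nm Q)
    (hf : LE p Q f P E) : KG.cnj g f = f := by
  have h1 := hg.lef hP hE hf
  rw [mem_normalizer_iff_cs.1 hn] at h1
  exact le_unique hP hE h1 hf

theorem FR.of_stab (hn : g ∈ Nm Q) (hf : LE p Q f P E) (h : KG.cnj g f = f) : FR p P E Q g := by
  refine ⟨f, hf, ?_⟩
  rw [mem_normalizer_iff_cs.1 hn, h]
  exact hf

end gen

section fs

variable {k : Type*} [Field k] {G : Type*} [Group G] [Fintype G] {p : ℕ} [hp : Fact p.Prime] [CharP k p]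
  {P Q R : Subgroup G} {E f : MonoidAlgebra k G} {g h : G}

open Cfsg.Agent.H27.Fus in
/-- `F` is the fusion system of the pair `(P,E)` -/
def IsBF (p : ℕ) (E : MonoidAlgebra k G) (F : FusionSystem P) : Prop :=
  ∀ (Q : Subgroup G) (φ : G → G), Map F Q φ ↔ ∃ g, FR p P E Q g ∧ ∀ x ∈ Q, φ x = g * x * g⁻¹

open Cfsg.Agent.H27.Fus in
theorem exists_bf (hP : IsPGroup p P) (hE : IsBlk (Ce P) E) : ∃ F : FusionSystem P, IsBF p E F := by
  refine ⟨mkFS P (fun Q φ => ∃ g, FR p P E Q g ∧ ∀ x ∈ Q, φ x = g * x * g⁻¹) ?_ ?_ ?_ ?_ ?_ ?_, ?_⟩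
  · rintro Q φ ψ ⟨g, hg, h1⟩ h2
    exact ⟨g, hg, fun x hx => by rw [← h2 x hx, h1 x hx]⟩
  · rintro Q φ ⟨g, hg, h1⟩
    refine ⟨hg.le, fun x hx => ?_⟩
    rw [h1 x hx]
    apply hg.le'
    rw [mem_cs]
    have : g⁻¹ * (g * x * g⁻¹) * g = x := by group
    rw [this]; exact hx
  · rintro Q φ ⟨g, hg, h1⟩ x hx y hy hxy
    rw [h1 x hx, h1 y hy] at hxy
    exact mul_left_cancel (mul_right_cancel hxy)
  · rintro Q g hQ hg
    exact ⟨g, FR.of_mem hP hE hQ hg, fun x _ => rfl⟩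
  · rintro Q R φ ψ ⟨g, hg, h1⟩ ⟨h, hh, h2⟩ h3
    refine ⟨h * g, FR.mul hP hE hg hh ?_, ?_⟩
    · intro y hy
      rw [mem_cs] at hy
      have h4 := h3 _ hy
      rw [h1 _ hy] at h4
      have : g * (g⁻¹ * y * g) * g⁻¹ = y := by group
      rwa [this] at h4
    · intro x hx
      have h4 := h3 _ hx
      show ψ (φ x) = _
      rw [h2 _ h4, h1 _ hx]
      group
  · rintro Q φ R ⟨g, hg, h1⟩ - h3
    have hR : R = cs g Q := by
      ext y
      rw [h3, mem_cs]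
      constructor
      · rintro ⟨x, hx, rfl⟩
        rw [h1 x hx]
        have : g⁻¹ * (g * x * g⁻¹) * g = x := by group
        rw [this]; exact hx
      · intro hy
        refine ⟨_, hy, ?_⟩
        rw [h1 _ hy]
        group
    refine ⟨fun y => g⁻¹ * y * g, ⟨g⁻¹, ?_, ?_⟩, ?_⟩
    · rw [hR]; exact hg.inv
    · intro x _; rw [inv_inv]
    · intro x hx
      show g⁻¹ * φ x * g = x
      rw [h1 x hx]; group
  · intro Q φ
    refine map_mkFS ?_
    rintro Q φ ⟨g, hg, h1⟩ x hx y hy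
    rw [h1 x hx, h1 y hy, h1 _ (Q.mul_mem hx hy)]
    group

open Cfsg.Agent.H27.Fus in
theorem IsBF.conj_iff {F : FusionSystem P} (hF : IsBF p E F) : F.IsConj Q R ↔ ∃ g, FR p P E Q g ∧ cs g Q = R := by
  rw [H27.Fus.isConj_iff]
  constructor
  · rintro ⟨φ, hφ⟩
    obtain ⟨g, hg, h1⟩ := (hF Q φ).1 hφ.map
    refine ⟨g, hg, ?_⟩
    ext y
    rw [mem_cs]
    constructor
    · intro hy
      have h2 := hφ.maps _ hy
      rw [h1 _ hy] at h2
      have : g * (g⁻¹ * y * g) * g⁻¹ = y := by group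
      rwa [this] at h2
    · intro hy
      obtain ⟨x, hx, h2⟩ := hφ.surj y hy
      rw [← h2, h1 x hx]
      have : g⁻¹ * (g * x * g⁻¹) * g = x := by group
      rw [this]; exact hx
  · rintro ⟨g, hg, rfl⟩
    refine ⟨fun x => g * x * g⁻¹, (hF Q _).2 ⟨g, hg, fun x _ => rfl⟩, ?_, ?_⟩
    · intro x hx
      rw [mem_cs]
      have : g⁻¹ * (g * x * g⁻¹) * g = x := by group
      rw [this]; exact hx
    · intro y hy
      refine ⟨_, mem_cs.1 hy, ?_⟩
      show g * (g⁻¹ * y * g) * g⁻¹ = y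
      group

theorem IsBF.fc_iff {F : FusionSystem P} (hF : IsBF p E F) : F.IsFullyCentralized Q ↔
    Q ≤ P ∧ ∀ g, FR p P E Q g → Nat.card (P ⊓ Ce (cs g Q) : Subgroup G) ≤ Nat.card (P ⊓ Ce Q : Subgroup G) := by
  constructor
  · rintro ⟨h1, h2⟩
    exact ⟨h1, fun g hg => h2 _ (hF.conj_iff.2 ⟨g, hg, rfl⟩)⟩
  · rintro ⟨h1, h2⟩
    refine ⟨h1, fun R hR => ?_⟩
    obtain ⟨g, hg, rfl⟩ := hF.conj_iff.1 hR
    exact h2 g hg

theorem IsBF.fn_iff {F : FusionSystem P} (hF : IsBF p E F) : F.IsFullyNormalized Q ↔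
    Q ≤ P ∧ ∀ g, FR p P E Q g → Nat.card (P ⊓ Nm (cs g Q) : Subgroup G) ≤ Nat.card (P ⊓ Nm Q : Subgroup G) := by
  constructor
  · rintro ⟨h1, h2⟩
    exact ⟨h1, fun g hg => h2 _ (hF.conj_iff.2 ⟨g, hg, rfl⟩)⟩
  · rintro ⟨h1, h2⟩
    refine ⟨h1, fun R hR => ?_⟩
    obtain ⟨g, hg, rfl⟩ := hF.conj_iff.1 hR
    exact h2 g hg

theorem IsBF.centric_iff {F : FusionSystem P} (hF : IsBF p E F) : F.IsCentric Q ↔
    Q ≤ P ∧ ∀ g, FR p P E Q g → P ⊓ Ce (cs g Q) ≤ cs g Q := by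
  constructor
  · rintro ⟨h1, h2⟩
    exact ⟨h1, fun g hg => h2 _ (hF.conj_iff.2 ⟨g, hg, rfl⟩)⟩
  · rintro ⟨h1, h2⟩
    refine ⟨h1, fun R hR => ?_⟩
    obtain ⟨g, hg, rfl⟩ := hF.conj_iff.1 hR
    exact h2 g hg

end fs

section main

variable {M : Ideal AlgInt} {G : Type*} [Group G] [Fintype G] {p : ℕ} [hp : Fact p.Prime]
  [hMax : M.IsMaximal] [hch : CharP (KM M) p] {B : MonoidAlgebra (KM M) G} {P Q H : Subgroup G}
  {E f : MonoidAlgebra (KM M) G}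

theorem exists_good (hM : IsPModular p M) (hP : BP p B P E) (htop : KG.Top p P E) (hle : LE p Q f P E)
    (hH : IsBlk H f) (hn : H ≤ Nm Q) :
    ∃ g, FR p P E Q g ∧ DGH p (cs g H) (KG.cnj g f) (P ⊓ cs g H) := by
  obtain ⟨D, hD⟩ := exists_DGH (p := p) hM hH
  obtain ⟨x, h1, h2⟩ := exists_conj hP htop (hP.down hle) hD hn hH.mem.2
  exact ⟨x, ⟨f, hle, h1⟩, h2⟩

theorem cs_inf (g : G) (A B : Subgroup G) : cs g (A ⊓ B) = cs g A ⊓ cs g B := by
  ext x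
  rw [mem_cs, Subgroup.mem_inf, Subgroup.mem_inf, mem_cs, mem_cs]

theorem card_le_of (_hM : IsPModular p M) (hP : BP p B P E) (hle : LE p Q f P E) {D : Subgroup G}
    (_hH : IsBlk H f) (hn : H ≤ Nm Q) (hD : DGH p H f D) {g : G} (hg : FR p P E Q g) :
    Nat.card (P ⊓ cs g H : Subgroup G) ≤ Nat.card D := by
  have h1 := hg.lef hP.pg hP.be hle
  have h2 : P ⊓ cs g H ≤ Nm (cs g Q) := by
    refine inf_le_right.trans ?_
    rw [FMT.Nm, normalizer_cs]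
    exact cs_mono g hn
  obtain ⟨h3, h4⟩ := lemA hP.pg hP.be h1 inf_le_left h2
  have h5 := (hD.cnj g).card_le inf_le_right (hP.pg.to_le inf_le_left) h3
  rwa [card_cs] at h5

theorem max_iff_dgh (hM : IsPModular p M) (hP : BP p B P E) (htop : KG.Top p P E) (hle : LE p Q f P E)
    (hH : IsBlk H f) (hn : H ≤ Nm Q) :
    (∀ g, FR p P E Q g → Nat.card (P ⊓ cs g H : Subgroup G) ≤ Nat.card (P ⊓ H : Subgroup G)) ↔
      DGH p H f (P ⊓ H) := by
  constructor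
  · intro h
    obtain ⟨D, hD⟩ := exists_DGH (p := p) hM hH
    obtain ⟨g, h1, h2⟩ := exists_good hM hP htop hle hH hn
    obtain ⟨h3, h4⟩ := lemA (R := P ⊓ H) hP.pg hP.be hle inf_le_left (inf_le_right.trans hn)
    refine hD.of_card inf_le_right (hP.pg.to_le inf_le_left) h3 ?_
    rw [← card_cs g D, (hD.cnj g).card_eq h2]
    exact h g h1
  · intro h g hg
    exact card_le_of hM hP hle hH hn h hg

/-- fully centralized -/
theorem fc_iff (hM : IsPModular p M) (hP : BP p B P E) (htop : KG.Top p P E) (hle : LE p Q f P E)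
    {F : FusionSystem P} (hF : IsBF p E F) : F.IsFullyCentralized Q ↔ DGH p (Ce Q) f (P ⊓ Ce Q) := by
  rw [hF.fc_iff, ← max_iff_dgh hM hP htop hle (hle.pair hP.pg hP.be).2 (Ce_le_Nm Q)]
  constructor
  · intro h g hg
    rw [← centralizer_cs]
    exact h.2 g hg
  · intro h
    refine ⟨hle.le, fun g hg => ?_⟩
    have h1 := h g hg
    rwa [← centralizer_cs] at h1

/-- the stabilizer `N_G(Q, f)` -/
noncomputable def Nf (Q : Subgroup G) (f : MonoidAlgebra (KM M) G) : Subgroup G := Nm Q ⊓ Cov3.stb f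

theorem mem_Nf {x : G} : x ∈ Nf Q f ↔ x ∈ Nm Q ∧ KG.cnj x f = f := Iff.rfl

theorem cs_Nf (g : G) : cs g (Nf Q f) = Nf (cs g Q) (KG.cnj g f) := by
  ext x
  rw [mem_cs, mem_Nf, mem_Nf]
  apply and_congr
  · show _ ∈ Nm Q ↔ x ∈ Nm (cs g Q)
    rw [FMT.Nm, FMT.Nm, normalizer_cs, mem_cs]
  · have h1 : KG.cnj x (KG.cnj g f) = KG.cnj g (KG.cnj (g⁻¹ * x * g) f) := by
      rw [← cnj_mul_apply, ← cnj_mul_apply]
      congr 2
      group
    rw [h1]
    constructor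
    · intro h; rw [h]
    · intro h; exact cnj_injective g h

theorem Ce_le_Nf (hf : IsBlk (Ce Q) f) : Ce Q ≤ Nf Q f := fun x hx => ⟨Ce_le_Nm Q hx, hf.mem.2 x hx⟩

theorem le_Nf (hf : IsBlk (Ce Q) f) : Q ≤ Nf Q f := fun x hx =>
  ⟨Subgroup.le_normalizer hx, fix_of_supp hf.mem.1 x hx⟩

theorem fix_Nf : KG.Fix (Nf Q f) f := fun x hx => hx.2

theorem blk_Nf (hM : IsPModular p M) (hQ : IsPGroup p Q) (hf : IsBlk (Ce Q) f) : IsBlk (Nf Q f) f :=
  BPNorm.isBlk_stab hM hQ (le_Nf hf) inf_le_left (Ce_le_Nf hf) hf fix_Nf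

theorem inf_Nf (hP : BP p B P E) (hle : LE p Q f P E) : P ⊓ Nf Q f = P ⊓ Nm Q := by
  apply le_antisymm (inf_le_inf_left _ inf_le_left)
  obtain ⟨h3, h4⟩ := lemA (R := P ⊓ Nm Q) hP.pg hP.be hle inf_le_left inf_le_right
  exact fun x hx => ⟨hx.1, hx.2, h4 x hx⟩

/-- fully normalized -/
theorem fn_iff (hM : IsPModular p M) (hP : BP p B P E) (htop : KG.Top p P E) (hle : LE p Q f P E)
    {F : FusionSystem P} (hF : IsBF p E F) : F.IsFullyNormalized Q ↔ DGH p (Nf Q f) f (P ⊓ Nm Q) := by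
  obtain ⟨hQ, hf⟩ := hle.pair hP.pg hP.be
  rw [hF.fn_iff, ← inf_Nf hP hle, ← max_iff_dgh hM hP htop hle (blk_Nf hM hQ hf) inf_le_left]
  have key : ∀ g, FR p P E Q g → P ⊓ cs g (Nf Q f) = P ⊓ Nm (cs g Q) := by
    intro g hg
    have h1 := hg.lef hP.pg hP.be hle
    rw [cs_Nf]
    exact inf_Nf hP h1
  constructor
  · intro h g hg
    rw [key g hg]
    exact h.2 g hg
  · intro h
    refine ⟨hle.le, fun g hg => ?_⟩
    have h1 := h g hg
    rwa [key g hg] at h1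

/-- centric -/
theorem centric_iff (hM : IsPModular p M) (hP : BP p B P E) (htop : KG.Top p P E) (hle : LE p Q f P E)
    {F : FusionSystem P} (hF : IsBF p E F) : F.IsCentric Q ↔ DGH p (Ce Q) f (Q ⊓ Ce Q) := by
  obtain ⟨hQ, hf⟩ := hle.pair hP.pg hP.be
  rw [hF.centric_iff]
  constructor
  · rintro ⟨h1, h2⟩
    obtain ⟨g, hg, h3⟩ := exists_good hM hP htop hle hf (Ce_le_Nm Q)
    have h4 := h2 g hg
    rw [← centralizer_cs] at h3
    have h5 : P ⊓ Ce (cs g Q) = cs g (Q ⊓ Ce Q) := by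
      rw [cs_inf, ← centralizer_cs]
      apply le_antisymm
      · exact le_inf h4 inf_le_right
      · exact inf_le_inf_right _ hg.le'
    rw [h5] at h3
    have h6 := h3.cnj g⁻¹
    rwa [centralizer_cs, ← cs_mul, ← cs_mul, inv_mul_cancel, cs_one, cs_one, cnj_inv_cnj] at h6
  · intro hD
    refine ⟨hle.le, fun g hg => ?_⟩
    have h1 := card_le_of hM hP hle hf (Ce_le_Nm Q) hD hg
    rw [← centralizer_cs] at h1
    have h2 : cs g Q ⊓ Ce (cs g Q) ≤ P ⊓ Ce (cs g Q) := inf_le_inf_right _ hg.le'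
    have h3 : Nat.card (cs g Q ⊓ Ce (cs g Q) : Subgroup G) = Nat.card (Q ⊓ Ce Q : Subgroup G) := by
      have : cs g Q ⊓ Ce (cs g Q) = cs g (Q ⊓ Ce Q) := by
        rw [cs_inf, ← centralizer_cs]
      rw [this, card_cs]
    have h4 := Subgroup.eq_of_le_of_card_ge h2 (by rw [h3]; exact h1)
    rw [← h4]
    exact inf_le_left

end main

section bridge

variable {M : Ideal AlgInt} {G : Type*} [Group G] [Fintype G] {p : ℕ} [hp : Fact p.Prime]
  [hMax : M.IsMaximal] [hch : CharP (KM M) p] {B : Set (IrrCharacter G)} {P : Subgroup G}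
  {e : Set (IrrCharacter (Subgroup.centralizer (P : Set G)))}

theorem fr_iff {Q : Subgroup G} {g : G} : (∃ f : Set (IrrCharacter (Subgroup.centralizer (Q : Set G))),
    SubpairLE p M Q f P e ∧ SubpairLE p M (Q.map (MulAut.conj g).toMonoidHom) (conjBlock Q g f) P e) →
    FR p P (ep M (Ce P) e) Q g := by
  rintro ⟨f, h1, h2⟩
  refine ⟨ep M (Ce Q) f, le_of_sle h1, ?_⟩
  have h3 := le_of_sle h2
  rw [ep_conjBlock] at h3
  exact h3

theorem fr_iff' (hP : IsPGroup p P) (he : IsPBlock M e) {Q : Subgroup G} {g : G}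
    (h : FR p P (ep M (Ce P) e) Q g) : ∃ f : Set (IrrCharacter (Subgroup.centralizer (Q : Set G))),
    SubpairLE p M Q f P e ∧ SubpairLE p M (Q.map (MulAut.conj g).toMonoidHom) (conjBlock Q g f) P e := by
  obtain ⟨f', h1, h2⟩ := h
  obtain ⟨h3, h4⟩ := h1.pair hP (isBlk_ep he)
  obtain ⟨f, hf, rfl⟩ := exists_ep h4
  refine ⟨f, sle_of_le he hf h1, ?_⟩
  refine sle_of_le he (isPBlock_conjBlock hf) ?_
  rw [ep_conjBlock]
  exact h2

open Cfsg.Agent.H27.Fus in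
theorem isBF_of {F : FusionSystem P} (hF : IsBlockFusionSystemOn p M B P e F) : IsBF p (ep M (Ce P) e) F := by
  obtain ⟨h1, h2, h3, h4⟩ := max_iff.1 hF.1
  intro Q φ
  constructor
  · rintro ⟨ψ, hψ, h5⟩
    obtain ⟨h6, g, h7, h8, h9⟩ := (hF.2 Q ψ).1 hψ
    refine ⟨g, fr_iff h9, fun x hx => ?_⟩
    rw [← h5 ⟨x, hx⟩, h7]
  · rintro ⟨g, hg, h5⟩
    refine ⟨(MulAut.conj g).toMonoidHom.comp Q.subtype, ?_, ?_⟩
    · rw [hF.2]
      exact ⟨hg.le, g, fun u => rfl, hg.le', fr_iff' h3.pg h2 hg⟩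
    · intro x
      rw [h5 x x.2]
      rfl

open Cfsg.Agent.H27.Fus in
theorem of_isBF {F : FusionSystem P} (hmax : IsMaximalBrauerPair p M B P e) (hF : IsBF p (ep M (Ce P) e) F) :
    IsBlockFusionSystemOn p M B P e F := by
  obtain ⟨h1, h2, h3, h4⟩ := max_iff.1 hmax
  refine ⟨hmax, fun Q φ => ?_⟩
  rw [hom_mem_iff_tot, hF]
  constructor
  · rintro ⟨g, hg, h5⟩
    refine ⟨hg.le, g, fun u => ?_, hg.le', fr_iff' h3.pg h2 hg⟩
    rw [← h5 u u.2, tot_apply]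
  · rintro ⟨-, g, h6, h7, h8⟩
    refine ⟨g, fr_iff h8, fun x hx => ?_⟩
    rw [tot_of_mem φ hx, h6]

end bridge

end Cfsg.Agent.H25.Fus
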