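import Mathlib
import Cfsg.Agent.H25_FMT

/-!
# Brauer pairs in a subgroup `H` and in `G`
-/

set_option autoImplicit false
set_option linter.unusedSectionVars false
set_option linter.style.haveILetI false

namespace Cfsg.Agent.H25.Rel

open Cfsg Cfsg.Agent.H25.KG Cfsg.Agent.H25.BPDef Cfsg.Agent.H25.BPSub Cfsg.Agent.H25.Up Cfsg.Agent.H25.FMT

variable {k : Type*} [Field k] {G : Type*} [Group G] [Fintype G] {p : ℕ} {H : Subgroup G} [Fintype H]

theorem Ce_map {Q : Subgroup H} (hC : Ce (Q.map H.subtype) ≤ H) : (Ce Q).map H.subtype = Ce (Q.map H.subtype) := by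
  rw [← Ce_of Q, of_map hC]

theorem blk_Ce_iff {Q : Subgroup H} (hC : Ce (Q.map H.subtype) ≤ H) {f : MonoidAlgebra k H} :
    IsBlk (Ce (Q.map H.subtype)) (up k H f) ↔ IsBlk (Ce Q) f := by
  rw [← Ce_map hC, blk_map_iff]

theorem normal_iff {Q P : Subgroup H} (hQP : Q ≤ P) :
    P.map H.subtype ≤ Subgroup.normalizer ((Q.map H.subtype : Subgroup G) : Set G) ↔
      P ≤ Subgroup.normalizer (Q : Set H) := by
  constructor
  · intro h x hx
    have h1 := h ⟨x, hx, rfl⟩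
    rw [Subgroup.mem_normalizer_iff] at h1 ⊢
    intro y
    have h2 := h1 y
    constructor
    · intro hy
      obtain ⟨z, hz, h3⟩ := h2.1 ⟨y, hy, rfl⟩
      have h4 : z = x * y * x⁻¹ := Subtype.ext h3
      rwa [← h4]
    · intro hy
      obtain ⟨z, hz, h3⟩ := h2.2 ⟨_, hy, rfl⟩
      have h4 : z = y := Subtype.ext h3
      rwa [← h4]
  · rintro h _ ⟨x, hx, rfl⟩
    have h1 := h hx
    rw [Subgroup.mem_normalizer_iff] at h1 ⊢
    intro y
    constructor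
    · rintro ⟨z, hz, rfl⟩
      exact ⟨_, (h1 z).1 hz, rfl⟩
    · rintro ⟨z, hz, h3⟩
      have hyH : y ∈ H := by
        have h4 : y = (x : G)⁻¹ * (z : G) * (x : G) := by
          have h5 : (z : G) = (x : G) * y * (x : G)⁻¹ := h3
          rw [h5]; group
        rw [h4]
        exact H.mul_mem (H.mul_mem (H.inv_mem x.2) z.2) x.2
      refine ⟨⟨y, hyH⟩, (h1 _).2 ?_, rfl⟩
      have h6 : z = x * ⟨y, hyH⟩ * x⁻¹ := Subtype.ext h3
      rw [← h6]; exact hz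

theorem ns_up {Q P : Subgroup H} {f e : MonoidAlgebra k H} (hC : Ce (Q.map H.subtype) ≤ H) :
    NS p (Q.map H.subtype) (up k H f) (P.map H.subtype) (up k H e) ↔ NS p Q f P e := by
  constructor
  · intro h
    have hQP : Q ≤ P := map_le_iff.1 h.le
    have hCP : Ce (P.map H.subtype) ≤ H := (Ce_anti h.le).trans hC
    refine ⟨(pg_map_iff Q).1 h.pQ, (pg_map_iff P).1 h.pP, (blk_Ce_iff hC).1 h.bf, (blk_Ce_iff hCP).1 h.be,
      hQP, (normal_iff hQP).1 h.norm, fix_map_iff.1 h.fix, ?_⟩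
    apply up_inj (k := k) (H := H)
    rw [map_mul, ← tr_Ce_up]
    exact h.tr
  · intro h
    have hCP : Ce (P.map H.subtype) ≤ H := (Ce_anti (Subgroup.map_mono h.le)).trans hC
    refine ⟨(pg_map_iff Q).2 h.pQ, (pg_map_iff P).2 h.pP, (blk_Ce_iff hC).2 h.bf, (blk_Ce_iff hCP).2 h.be,
      map_le_iff.2 h.le, (normal_iff h.le).2 h.norm, fix_map_iff.2 h.fix, ?_⟩
    rw [tr_Ce_up, ← map_mul, h.tr]

variable [hp : Fact p.Prime] [CharP k p]

theorem le_up {Q P : Subgroup H} {f e : MonoidAlgebra k H} (hC : Ce (Q.map H.subtype) ≤ H) (h : LE p Q f P e) :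
    LE p (Q.map H.subtype) (up k H f) (P.map H.subtype) (up k H e) := by
  refine LE.rec_head (motive := fun Q f => Ce (Q.map H.subtype) ≤ H →
    LE p (Q.map H.subtype) (up k H f) (P.map H.subtype) (up k H e)) ?_ ?_ h hC
  · intro _; exact LE.refl _ _
  · intro Q f R g h1 _ h3 h4
    exact (LE.of_ns ((ns_up h4).2 h1)).trans (h3 ((Ce_anti (Subgroup.map_mono h1.le)).trans h4))

theorem bp_up {b : MonoidAlgebra k H} {P : Subgroup H} {e : MonoidAlgebra k H}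
    (hC : Ce (P.map H.subtype) ≤ H) (hb : IsBlk ⊤ b) (hP : IsPGroup p P)
    (he : IsBlk (Ce (P.map H.subtype)) (up k H e))
    (htr : tr (Ce (P.map H.subtype)) (up k H b) * up k H e = up k H e) : BP p b P e := by
  refine ⟨hP, hb, (blk_Ce_iff hC).1 he, ?_⟩
  apply up_inj (k := k) (H := H)
  rw [map_mul, ← tr_Ce_up]
  exact htr

/-- conjugacy of Brauer pairs relative to a subgroup `H` -/
theorem rel_conj {b : MonoidAlgebra k G} (hb : IsBlk H b) {P1 P2 : Subgroup G} {e1 e2 : MonoidAlgebra k G}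
    (h1 : P1 ≤ H) (hC1 : Ce P1 ≤ H) (he1 : IsBlk (Ce P1) e1) (ht1 : tr (Ce P1) b * e1 = e1)
    (hD : DGH p H b P1)
    (h2 : P2 ≤ H) (hC2 : Ce P2 ≤ H) (hp2 : IsPGroup p P2) (he2 : IsBlk (Ce P2) e2)
    (ht2 : tr (Ce P2) b * e2 = e2) : ∃ x ∈ H, LE p (cs x P2) (KG.cnj x e2) P1 e1 := by
  obtain ⟨b', rfl⟩ := up_surj hb.mem.1
  obtain ⟨e1', rfl⟩ := up_surj (he1.mem.1.mono hC1)
  obtain ⟨e2', rfl⟩ := up_surj (he2.mem.1.mono hC2)
  obtain ⟨P1', rfl⟩ : ∃ P : Subgroup H, P.map H.subtype = P1 := ⟨P1.subgroupOf H, of_map h1⟩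
  obtain ⟨P2', rfl⟩ : ∃ P : Subgroup H, P.map H.subtype = P2 := ⟨P2.subgroupOf H, of_map h2⟩
  rw [blk_top_iff] at hb
  have hD' : DGH p ⊤ b' P1' := by
    rw [← dgh_map_iff, top_map]; exact hD
  have hbp1 := bp_up hC1 hb hD'.pg he1 ht1
  have hbp2 := bp_up hC2 hb ((pg_map_iff P2').1 hp2) he2 ht2
  have htop := top_of_dgh hD' hbp1
  obtain ⟨x, hx⟩ := BP.conj_le hbp1 htop hbp2
  refine ⟨x, x.2, ?_⟩
  rw [← cs_map, ← up_cnj]
  refine le_up ?_ hx
  rw [cs_map]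
  have h3 : Ce (cs (x : G) (P2'.map H.subtype)) = cs (x : G) (Ce (P2'.map H.subtype)) := centralizer_cs _ _
  rw [h3]
  intro y hy
  rw [mem_cs] at hy
  have h4 := hC2 hy
  have h5 : y = (x : G) * ((x : G)⁻¹ * y * (x : G)) * (x : G)⁻¹ := by group
  rw [h5]
  exact H.mul_mem (H.mul_mem x.2 h4) (H.inv_mem x.2)

end Cfsg.Agent.H25.Rel
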