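import Mathlib
import Cfsg.Agent.H25_Fus
import Cfsg.Agent.H25_Rel
import Cfsg.Agent.H25_ExtFMT
import Cfsg.Agent.H27_FusGrp

/-!
# Saturation of the fusion system of a block
-/

set_option autoImplicit false
set_option linter.unusedSectionVars false
set_option linter.style.haveILetI false

namespace Cfsg.Agent.H25.Fus

open Cfsg Cfsg.Agent.H25.Red Cfsg.Agent.H25.KG Cfsg.Agent.H25.BPTr Cfsg.Agent.H25.BPMain
  Cfsg.Agent.H25.BPDef Cfsg.Agent.H25.BPSub Cfsg.Agent.H25.Cov2 Cfsg.Agent.H25.Cov3 Cfsg.Agent.H25.FMT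
  Cfsg.Agent.H25.ExtFMT

variable {M : Ideal AlgInt} {G : Type*} [Group G] [Fintype G] {p : ℕ} [hp : Fact p.Prime]
  [hMax : M.IsMaximal] [hch : CharP (KM M) p] {B : MonoidAlgebra (KM M) G} {P Q H : Subgroup G}
  {E f : MonoidAlgebra (KM M) G}

open Cfsg.Agent.H27.Fus in
theorem autGroup_eq (hP : BP p B P E) (hle : LE p Q f P E) {F : FusionSystem P} (hF : IsBF p E F) :
    F.autGroup Q = autInducedBy (Nf Q f) Q := by
  ext α
  constructor
  · intro h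
    rw [mem_autGroup_iff hle.le] at h
    obtain ⟨g, hg, h1⟩ := (hF Q _).1 h.map
    have h2 : ∀ x : Q, (α x : G) = g * x * g⁻¹ := fun x => by rw [← h1 x x.2, totA_apply]
    have h3 : g ∈ Nm Q := autInducedBy_norm (K := ⊤) h2
    exact mem_autInducedBy.2 ⟨g, ⟨h3, hg.stab hP.pg hP.be h3 hle⟩, h2⟩
  · intro h
    obtain ⟨g, hg, h1⟩ := mem_autInducedBy.1 h
    refine mem_autGroup_of (f := fun x => g * x * g⁻¹) ?_ h1
    exact (hF Q _).2 ⟨g, FR.of_stab hg.1 hle hg.2, fun x _ => rfl⟩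

/-- `C_G(Q) N_P(Q)` contains a Sylow `p`-subgroup of `N_G(Q,f)` -/
theorem syl_sup (hM : IsPModular p M) (hP : BP p B P E) (hle : LE p Q f P E)
    (hD : DGH p (Nf Q f) f (P ⊓ Nm Q)) {S : Subgroup G} (hS : IsPGroup p S) (hS1 : P ⊓ Nm Q ≤ S) (hS2 : S ≤ Nf Q f) :
    Ce Q ⊔ (P ⊓ Nm Q) = Ce Q ⊔ S := by
  obtain ⟨hQ, hf⟩ := hle.pair hP.pg hP.be
  have hNC : Nf Q f ≤ Nm (Ce Q) := inf_le_left.trans (norm_le_norm_Ce Q)
  have hHN : Ce Q ⊔ S ≤ Nf Q f := sup_le (Ce_le_Nf hf) hS2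
  have hidx := relIndex_pow (hS2.trans hNC) hS
  have hfix : Fix (Ce Q ⊔ S) f := fun x hx => (hHN hx).2
  have hH : IsBlk (Ce Q ⊔ S) f := blk_of_index hM le_sup_left (hHN.trans hNC) hidx hf hfix
  obtain ⟨D, hD'⟩ := exists_DGH (p := p) hM hH
  have h1 := sup_eq_rel hM le_sup_left (hHN.trans hNC) hidx hf hfix hD'
  obtain ⟨x, hx, h2⟩ := hD.max D (hD'.le.trans hHN) hD'.pg hD'.ne
  have hle' : Ce Q ⊔ (P ⊓ Nm Q) ≤ Ce Q ⊔ S := sup_le_sup_left hS1 _
  apply Subgroup.eq_of_le_of_card_ge hle'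
  have h3 : Ce Q ⊔ S ≤ cs x (Ce Q ⊔ (P ⊓ Nm Q)) := by
    rw [← h1, cs, Subgroup.map_sup]
    have h4 : cs x (Ce Q) = Ce Q := mem_normalizer_iff_cs.1 (hNC hx)
    apply sup_le_sup _ h2
    exact h4.ge
  rw [← card_cs x (Ce Q ⊔ (P ⊓ Nm Q))]
  exact Nat.card_le_card_of_injective _ (Subgroup.inclusion_injective h3)

open Cfsg.Agent.H27.Fus in
theorem aut_syl (hM : IsPModular p M) (hP : BP p B P E) (hle : LE p Q f P E)
    (hD : DGH p (Nf Q f) f (P ⊓ Nm Q)) : H27.Grp.IsSyl p (autInducedBy P Q) (autInducedBy (Nf Q f) Q) := by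
  obtain ⟨hQ, hf⟩ := hle.pair hP.pg hP.be
  have hN0 : P ⊓ Nm Q ≤ Nf Q f := by rw [← inf_Nf hP hle]; exact inf_le_right
  obtain ⟨S, hS1, hS2⟩ := H27.Grp.exists_isSyl_ge hN0 (hP.pg.to_le inf_le_left)
  have h1 := syl_sup hM hP hle hD hS2.isPGroup hS1 hS2.le
  have h2 : autInducedBy P Q = autInducedBy S Q := by
    ext α
    rw [mem_autInducedBy, mem_autInducedBy]
    constructor
    · rintro ⟨g, hg, h3⟩
      exact ⟨g, hS1 ⟨hg, autInducedBy_norm (K := ⊤) h3⟩, h3⟩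
    · rintro ⟨g, hg, h3⟩
      have h4 : g ∈ (P ⊓ Nm Q) ⊔ Ce Q := by rw [sup_comm, h1]; exact Subgroup.mem_sup_right hg
      rw [← SetLike.mem_coe, Subgroup.coe_mul_of_left_le_normalizer_right _ _ (inf_le_right.trans (norm_le_norm_Ce Q))] at h4
      obtain ⟨n, hn, c, hc, h5⟩ := h4
      refine ⟨n, hn.1, fun x => ?_⟩
      rw [h3, ← h5]
      have h6 := Subgroup.mem_centralizer_iff.1 hc x x.2
      show n * c * (x : G) * (n * c)⁻¹ = _
      have h7 : n * c * (x : G) * (n * c)⁻¹ = n * (c * (x : G)) * c⁻¹ * n⁻¹ := by group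
      rw [h7, ← h6]; group
  rw [h2]
  have h3 : H27.Grp.IsSyl p (S.subgroupOf (Subgroup.normalizer (Q : Set G))) ((Nf Q f).subgroupOf (Subgroup.normalizer (Q : Set G))) := by
    apply H27.Grp.IsSyl.subgroupOf
    have h5 : Nf Q f ⊓ Subgroup.normalizer (Q : Set G) = Nf Q f := inf_eq_left.2 (inf_le_left : Nf Q f ≤ Nm Q)
    rw [inf_eq_left.2 (hS2.le.trans inf_le_left), h5]
    exact hS2
  have h4 := h3.map Q.normalizerMonoidHom
  rwa [autInducedBy_eq_map, autInducedBy_eq_map]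

open Cfsg.Agent.H27.Fus in
theorem receptive (hM : IsPModular p M) (hP : BP p B P E) (hle : LE p Q f P E)
    (hD : DGH p (Nf Q f) f (P ⊓ Nm Q)) {F : FusionSystem P} (hF : IsBF p E F) : F.IsReceptive Q := by
  obtain ⟨hQ, hf⟩ := hle.pair hP.pg hP.be
  rw [isReceptive_iff]
  refine ⟨hle.le, ?_⟩
  intro R φ hφ
  obtain ⟨g, hg, h1⟩ := (hF R φ).1 hφ.map
  have hgR : cs g R = Q := by
    ext y
    rw [mem_cs]
    constructor
    · intro hy
      have h2 := hφ.maps _ hy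
      rw [h1 _ hy] at h2
      have : g * (g⁻¹ * y * g) * g⁻¹ = y := by group
      rwa [this] at h2
    · intro hy
      obtain ⟨x, hx, h2⟩ := hφ.surj y hy
      rw [← h2, h1 x hx]
      have : g⁻¹ * (g * x * g⁻¹) * g = x := by group
      rw [this]; exact hx
  set N := H27.Fus.ext P R φ with hN
  have hNP : N ≤ P := ext_le
  have hRN : R ≤ N := hφ.map.le_ext
  obtain ⟨eN, -, hNe⟩ := le_exists hP.pg hP.be hNP
  obtain ⟨eR, heR, hRe⟩ := le_exists hP.pg hP.be (hRN.trans hNP)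
  have hRNle := LE.between hP.pg hP.be hRe hNe hRN
  have hNp : IsPGroup p N := hP.pg.to_le hNP
  have heN : IsBlk (Ce N) eN := (hNe.pair hP.pg hP.be).2
  have hns := (LE.ns hNp heN hRNle (ext_le_nrm.trans inf_le_right)).cnj g
  have hfR : KG.cnj g eR = f := by
    have h2 := hg.lef hP.pg hP.be hRe
    rw [hgR] at h2
    exact le_unique hP.pg hP.be h2 hle
  rw [hgR, hfR] at hns
  -- the group H
  set N0 := P ⊓ Nm Q with hN0
  have hQN0 : Q ≤ N0 := le_inf hle.le Subgroup.le_normalizer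
  obtain ⟨e0, he0, hN0e⟩ := le_exists hP.pg hP.be (Q := N0) inf_le_left
  have hns0 := LE.ns (hP.pg.to_le inf_le_left) he0 (LE.between hP.pg hP.be hle hN0e hQN0) inf_le_right
  have hN0f : N0 ≤ Nf Q f := by rw [hN0, ← inf_Nf hP hle]; exact inf_le_right
  have hNC : Nf Q f ≤ Nm (Ce Q) := inf_le_left.trans (norm_le_norm_Ce Q)
  have hHN : Ce Q ⊔ N0 ≤ Nf Q f := sup_le (Ce_le_Nf hf) hN0f
  have hN0p : IsPGroup p N0 := hP.pg.to_le inf_le_left
  have hidx := relIndex_pow (hN0f.trans hNC) hN0p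
  have hH : IsBlk (Ce Q ⊔ N0) f := blk_of_index hM le_sup_left (hHN.trans hNC) hidx hf (fun x hx => (hHN hx).2)
  have hDH : DGH p (Ce Q ⊔ N0) f N0 := by
    obtain ⟨D, hD'⟩ := exists_DGH (p := p) hM hH
    exact hD'.of_card le_sup_right hN0p hD.ne (hD.card_le (hD'.le.trans hHN) hD'.pg hD'.ne)
  have hNH : cs g N ≤ Ce Q ⊔ N0 := by
    intro y hy
    rw [mem_cs] at hy
    obtain ⟨h2, h3, h, hh, h4⟩ := mem_ext.1 hy
    set n := g⁻¹ * y * g with hn
    have hhQ : ∀ z ∈ Q, y * z * y⁻¹ = h * z * h⁻¹ := by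
      intro z hz
      have hz' : g⁻¹ * z * g ∈ R := by rw [← mem_cs, hgR]; exact hz
      have h5 := h4 _ hz'
      have h6 : n * (g⁻¹ * z * g) * n⁻¹ ∈ R := (Subgroup.mem_normalizer_iff.1 h3 _).1 hz'
      rw [h1 _ h6, h1 _ hz'] at h5
      have h7 : g * (n * (g⁻¹ * z * g) * n⁻¹) * g⁻¹ = y * z * y⁻¹ := by rw [hn]; group
      have h8 : h * (g * (g⁻¹ * z * g) * g⁻¹) * h⁻¹ = h * z * h⁻¹ := by group
      rw [h7, h8] at h5
      exact h5
    have hyC : h⁻¹ * y ∈ Ce Q := by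
      rw [Subgroup.mem_centralizer_iff]
      intro z hz
      have h5 := hhQ z hz
      have h6 : z * (h⁻¹ * y) = h⁻¹ * (h * z * h⁻¹) * y := by group
      rw [h6, ← h5]; group
    have hyn : y ∈ Nm Q := by
      rw [mem_normalizer_iff_cs]
      have h9 : cs y (cs g R) = cs g (cs n R) := by
        rw [← cs_mul, ← cs_mul]; congr 1; rw [hn]; group
      rw [← hgR, h9, mem_normalizer_iff_cs.1 h3]
    have hhn : h ∈ Nm Q := by
      have h5 : h = y * (h⁻¹ * y)⁻¹ := by group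
      rw [h5]
      exact (Nm Q).mul_mem hyn ((Nm Q).inv_mem (Ce_le_Nm Q hyC))
    have h10 : y = h * (h⁻¹ * y) := by group
    rw [h10]
    exact Subgroup.mul_mem _ (Subgroup.mem_sup_right ⟨hh, hhn⟩) (Subgroup.mem_sup_left hyC)
  have hQgN : Q ≤ cs g N := by rw [← hgR]; exact cs_mono g hRN
  haveI : Fintype ↥(Ce Q ⊔ N0) := Fintype.ofFinite _
  obtain ⟨x, hx, h2⟩ := Rel.rel_conj hH (P1 := N0) (P2 := cs g N) le_sup_right
    ((Ce_anti hQN0).trans le_sup_left) he0 hns0.tr hDH hNH ((Ce_anti hQgN).trans le_sup_left)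
    hns.pP hns.be hns.tr
  rw [sup_comm, ← SetLike.mem_coe, Subgroup.coe_mul_of_left_le_normalizer_right _ _ (hN0f.trans hNC)] at hx
  obtain ⟨t, ht, c, hc, htc⟩ := hx
  have htc' : t * c = x := htc
  rw [← cs_mul, ← cnj_mul_apply] at h2
  have hFR : FR p P E N (x * g) := ⟨eN, hNe, h2.trans hN0e⟩
  have hFR2 := FR.mul hP.pg hP.be hFR (FR.of_mem hP.pg hP.be hFR.le' (P.inv_mem ht.1)) le_rfl
  have h3 : t⁻¹ * (x * g) = c * g := by rw [← htc']; group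
  rw [h3] at hFR2
  refine ⟨fun y => (c * g) * y * (c * g)⁻¹, (hF N _).2 ⟨_, hFR2, fun _ _ => rfl⟩, ?_⟩
  intro y hy
  rw [h1 y hy]
  have h4 : g * y * g⁻¹ ∈ Q := by
    rw [← hgR, mem_cs]
    have : g⁻¹ * (g * y * g⁻¹) * g = y := by group
    rw [this]; exact hy
  have h5 := Subgroup.mem_centralizer_iff.1 hc _ h4
  show (c * g) * y * (c * g)⁻¹ = g * y * g⁻¹
  have h6 : (c * g) * y * (c * g)⁻¹ = c * (g * y * g⁻¹) * c⁻¹ := by group
  rw [h6, ← h5]; group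

open Cfsg.Agent.H27.Fus in
theorem saturated (hM : IsPModular p M) (hP : BP p B P E) (htop : KG.Top p P E) {F : FusionSystem P}
    (hF : IsBF p E F) : F.IsSaturated p := by
  intro R hR
  obtain ⟨eR, heR, hRe⟩ := le_exists hP.pg hP.be hR
  obtain ⟨g, hg, h1⟩ := exists_good hM hP htop hRe (blk_Nf hM (hP.pg.to_le hR) heR) inf_le_left
  have h2 := hg.lef hP.pg hP.be hRe
  rw [cs_Nf, inf_Nf hP h2] at h1
  refine ⟨cs g R, hF.conj_iff.2 ⟨g, hg, rfl⟩, ?_, receptive hM hP h2 h1 hF⟩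
  rw [isFullyAutomized_iff]
  refine ⟨hg.le', ?_⟩
  rw [autGroup_eq hP h2 hF]
  exact aut_syl hM hP h2 h1

end Cfsg.Agent.H25.Fus
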