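import Mathlib
import Cfsg.Agent.H25_Fus2
import Cfsg.Agent.H27_FusAb
import Cfsg.Agent.H27_FusEss

/-!
# Nilpotent blocks
-/

set_option autoImplicit false
set_option linter.unusedSectionVars false
set_option linter.style.haveILetI false

namespace Cfsg.Agent.H25.Nilp

open Cfsg Cfsg.Agent.H25.Red Cfsg.Agent.H25.KG Cfsg.Agent.H25.BPTr Cfsg.Agent.H25.BPMain
  Cfsg.Agent.H25.BPDef Cfsg.Agent.H25.BPSub Cfsg.Agent.H25.Cov2 Cfsg.Agent.H25.Cov3 Cfsg.Agent.H25.FMT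
  Cfsg.Agent.H25.ExtFMT Cfsg.Agent.H25.Fus

section gen

variable {k : Type*} [Field k] {G : Type*} [Group G] [Fintype G] {p : ℕ}

/-- nilpotency of a block in `kG` -/
def Nilp (p : ℕ) (B : MonoidAlgebra k G) : Prop :=
  ∀ Q f, BP p B Q f → ∀ x ∈ Nm Q, KG.cnj x f = f → ¬ p ∣ orderOf x → x ∈ Ce Q

end gen

section grp

variable {G : Type*} [Group G] [Finite G] {p : ℕ} [hp : Fact p.Prime]

/-- some `p`-power of `g` is `p`-regular -/
theorem exists_pow_reg (g : G) : ∃ n : ℕ, ¬ p ∣ orderOf (g ^ p ^ n) := by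
  refine ⟨(orderOf g).factorization p, ?_⟩
  rw [orderOf_pow_of_dvd (pow_ne_zero _ hp.out.ne_zero) (Nat.ordProj_dvd _ _)]
  exact Nat.not_dvd_ordCompl hp.out (orderOf_pos g).ne'

theorem orderOf_cj (g x : G) : orderOf (g * x * g⁻¹) = orderOf x := by
  have := MulEquiv.orderOf_eq (MulAut.conj g) x
  rwa [MulAut.conj_apply] at this

theorem mem_Ce_of_act {Q : Subgroup G} {x u : G} (hx : x ∈ Nm Q) (hxp : ¬ p ∣ orderOf x)
    (hu : ∃ k : ℕ, u ^ p ^ k = 1) (h : ∀ z ∈ Q, x * z * x⁻¹ = u * z * u⁻¹) : x ∈ Ce Q := by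
  have hux : u⁻¹ * x ∈ Ce Q := by
    rw [Subgroup.mem_centralizer_iff]
    intro z hz
    have h1 := h z hz
    have h2 : z * (u⁻¹ * x) = u⁻¹ * (u * z * u⁻¹) * x := by group
    rw [h2, ← h1]; group
  have hu' : u ∈ Nm Q := by
    have h5 : u = x * (u⁻¹ * x)⁻¹ := by group
    rw [h5]
    exact (Nm Q).mul_mem hx ((Nm Q).inv_mem (Ce_le_Nm Q hux))
  set π : Nm Q →* MulAut Q := Q.normalizerMonoidHom with hπ
  have h1 : π ⟨x, hx⟩ = π ⟨u, hu'⟩ := by
    ext z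
    exact h z z.2
  have h2 : orderOf (π ⟨x, hx⟩) ∣ orderOf x := by
    have := orderOf_map_dvd π ⟨x, hx⟩
    rwa [Subgroup.orderOf_mk] at this
  obtain ⟨k, hk⟩ := hu
  have h3 : orderOf (π ⟨x, hx⟩) ∣ p ^ k := by
    rw [h1]
    apply orderOf_dvd_of_pow_eq_one
    rw [← map_pow]
    have : (⟨u, hu'⟩ : Nm Q) ^ p ^ k = 1 := Subtype.ext hk
    rw [this, map_one]
  have h4 : orderOf (π ⟨x, hx⟩) = 1 :=
    Nat.eq_one_of_dvd_coprimes (((Nat.Prime.coprime_iff_not_dvd hp.out).2 hxp).symm.pow_right k) h2 h3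
  rw [orderOf_eq_one_iff] at h4
  rw [Subgroup.mem_centralizer_iff]
  intro z hz
  have h5 : x * z * x⁻¹ = z := congrArg (fun α : MulAut Q => ((α ⟨z, hz⟩ : Q) : G)) h4
  have h6 : x * z * x⁻¹ * x = z * x := by rw [h5]
  rw [← h6]; group

end grp

section main

variable {M : Ideal AlgInt} {G : Type*} [Group G] [Fintype G] {p : ℕ} [hp : Fact p.Prime]
  [hMax : M.IsMaximal] [hch : CharP (KM M) p] {B : MonoidAlgebra (KM M) G} {P Q H : Subgroup G}
  {E f : MonoidAlgebra (KM M) G}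

theorem nilp_iff {B : Set (IrrCharacter G)} : IsNilpotentBlock p M B ↔ IsPBlock M B ∧ Nilp p (epG M B) := by
  constructor
  · rintro ⟨h1, h2⟩
    refine ⟨h1, ?_⟩
    intro Q f hf x hx hxf hxp
    obtain ⟨f', hf', rfl⟩ := exists_ep hf.be
    exact h2 Q f' (bpo_iff.2 ⟨h1, hf', hf⟩) x hx ((stabilizes_iff hf' x).2 ⟨norm_le_norm_Ce Q hx, hxf⟩) hxp
  · rintro ⟨h1, h2⟩
    refine ⟨h1, ?_⟩
    intro Q e he x hx hxe hxp
    obtain ⟨-, h3, h4⟩ := bpo_iff.1 he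
    exact h2 Q _ h4 x hx ((stabilizes_iff h3 x).1 hxe).2 hxp

open Cfsg.Agent.H27.Fus in
theorem isPGroup_aut (hP : BP p B P E) (hn : Nilp p B) {F : FusionSystem P} (hF : IsBF p E F)
    (hQP : Q ≤ P) : IsPGroup p (F.autGroup Q) := by
  obtain ⟨f, hf, hle⟩ := le_exists hP.pg hP.be hQP
  rintro ⟨α, hα⟩
  rw [autGroup_eq hP hle hF] at hα
  obtain ⟨g, hg, h1⟩ := mem_autInducedBy.1 hα
  obtain ⟨n, hn'⟩ := exists_pow_reg (p := p) g
  refine ⟨n, ?_⟩
  apply Subtype.ext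
  show α ^ p ^ n = 1
  have hα2 : α = Q.normalizerMonoidHom ⟨g, hg.1⟩ := by
    ext x; exact h1 x
  have h2 : g ^ p ^ n ∈ Nf Q f := (Nf Q f).pow_mem hg _
  have h3 : g ^ p ^ n ∈ Ce Q := hn Q f (hP.down hle) _ h2.1 h2.2 hn'
  rw [hα2, ← map_pow]
  ext x
  show g ^ p ^ n * (x : G) * (g ^ p ^ n)⁻¹ = x
  have h4 := Subgroup.mem_centralizer_iff.1 h3 x x.2
  rw [← h4]; group

open Cfsg.Agent.H27.Fus in
theorem eq_inner (hM : IsPModular p M) (hP : BP p B P E) (htop : KG.Top p P E) (hn : Nilp p B)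
    {F : FusionSystem P} (hF : IsBF p E F) : F = innerFusionSystem P :=
  eq_inner_of_isPGroup hP.pg (saturated hM hP htop hF) fun Q hQ => isPGroup_aut hP hn hF hQ

/-- in the nilpotent case, fusion is by elements of `P` -/
theorem fr_inner (hM : IsPModular p M) (hP : BP p B P E) (htop : KG.Top p P E) (hn : Nilp p B)
    {g : G} (hg : FR p P E Q g) : ∃ u ∈ P, ∀ z ∈ Q, g * z * g⁻¹ = u * z * u⁻¹ := by
  obtain ⟨F, hF⟩ := exists_bf hP.pg hP.be
  have h1 := (hF Q (fun x => g * x * g⁻¹)).2 ⟨g, hg, fun _ _ => rfl⟩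
  rw [eq_inner hM hP htop hn hF, H27.Fus.map_inner_iff] at h1
  obtain ⟨-, u, hu, h2⟩ := h1
  exact ⟨u, hu, h2⟩

theorem nilp_of (hP : BP p B P E) (htop : KG.Top p P E)
    (h : ∀ Q g, FR p P E Q g → ∃ u ∈ P, ∀ z ∈ Q, g * z * g⁻¹ = u * z * u⁻¹) : Nilp p B := by
  intro Q f hf x hx hxf hxp
  obtain ⟨y, hy⟩ := BP.conj_le hP htop hf
  have hx' : y * x * y⁻¹ ∈ Nm (cs y Q) := by
    rw [FMT.Nm, normalizer_cs, mem_cs]
    have : y⁻¹ * (y * x * y⁻¹) * y = x := by group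
    rw [this]; exact hx
  have hf' : KG.cnj (y * x * y⁻¹) (KG.cnj y f) = KG.cnj y f := by
    rw [← cnj_mul_apply]
    have : y * x * y⁻¹ * y = y * x := by group
    rw [this, cnj_mul_apply, hxf]
  obtain ⟨u, hu, h1⟩ := h _ _ (FR.of_stab hx' hy hf')
  obtain ⟨k, hk⟩ := hP.pg ⟨u, hu⟩
  have h2 : y * x * y⁻¹ ∈ Ce (cs y Q) :=
    mem_Ce_of_act (p := p) hx' (by rwa [orderOf_cj]) ⟨k, congrArg Subtype.val hk⟩ h1
  have h3 : y * x * y⁻¹ ∈ cs y (Ce Q) := by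
    rw [← centralizer_cs]; exact h2
  rw [mem_cs] at h3
  have : y⁻¹ * (y * x * y⁻¹) * y = x := by group
  rwa [this] at h3

open Cfsg.Agent.H27.Fus in
theorem nilp_iff_inner (hM : IsPModular p M) (hP : BP p B P E) (htop : KG.Top p P E)
    {F : FusionSystem P} (hF : IsBF p E F) : Nilp p B ↔ F = innerFusionSystem P := by
  constructor
  · exact fun h => eq_inner hM hP htop h hF
  · intro h
    refine nilp_of hP htop ?_
    intro Q g hg
    have h1 := (hF Q (fun x => g * x * g⁻¹)).2 ⟨g, hg, fun _ _ => rfl⟩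
    rw [h, H27.Fus.map_inner_iff] at h1
    obtain ⟨-, u, hu, h2⟩ := h1
    exact ⟨u, hu, h2⟩

/-- control of fusion by `N_G(P,E)` for abelian `P` -/
theorem ab_control (hM : IsPModular p M) (hP : BP p B P E) (htop : KG.Top p P E)
    (hab : ∀ x ∈ P, ∀ y ∈ P, x * y = y * x) {x : G} (hx : FR p P E Q x) :
    ∃ y ∈ Nf P E, y⁻¹ * x ∈ Ce Q := by
  obtain ⟨F, hF⟩ := exists_bf hP.pg hP.be
  have hsat := saturated hM hP htop hF
  have h1 := (hF Q (fun z => x * z * x⁻¹)).2 ⟨x, hx, fun _ _ => rfl⟩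
  obtain ⟨ψ, hψ, h2⟩ := H27.Fus.normal_S_ext (H27.Fus.abelian_S_normal hP.pg hsat hab) h1
  obtain ⟨y, hy, h3⟩ := (hF P ψ).1 hψ.map
  have hyP : y ∈ Nm P := by
    rw [mem_normalizer_iff_cs]
    exact Subgroup.eq_of_le_of_card_ge hy.le' (by rw [card_cs])
  refine ⟨y, ⟨hyP, hy.stab hP.pg hP.be hyP (LE.refl _ _)⟩, ?_⟩
  rw [Subgroup.mem_centralizer_iff]
  intro z hz
  have h4 := h2 z hz
  rw [h3 z (hx.le hz)] at h4
  have h5 : z * (y⁻¹ * x) = y⁻¹ * (y * z * y⁻¹) * x := by group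
  have h6 : y * z * y⁻¹ = x * z * x⁻¹ := h4
  rw [h5, h6]; group

theorem nilp_ab_iff (hM : IsPModular p M) (hP : BP p B P E) (htop : KG.Top p P E)
    (hab : ∀ x ∈ P, ∀ y ∈ P, x * y = y * x) : Nilp p B ↔ Nf P E ≤ Ce P := by
  constructor
  · intro h x hx
    obtain ⟨u, hu, h1⟩ := fr_inner hM hP htop h (FR.of_stab hx.1 (LE.refl _ _) hx.2)
    rw [Subgroup.mem_centralizer_iff]
    intro z hz
    have h2 := h1 z hz
    rw [hab u hu z hz] at h2
    have h3 : x * z * x⁻¹ * x = z * u * u⁻¹ * x := by rw [h2]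
    have h4 : x * z = z * x := by
      have e1 : x * z * x⁻¹ * x = x * z := by group
      have e2 : z * u * u⁻¹ * x = z * x := by group
      rw [e1, e2] at h3; exact h3
    exact h4.symm
  · intro h
    refine nilp_of hP htop ?_
    intro Q g hg
    obtain ⟨y, hy, h1⟩ := ab_control hM hP htop hab hg
    refine ⟨1, P.one_mem, fun z hz => ?_⟩
    have h2 := Subgroup.mem_centralizer_iff.1 (h hy) z (hg.le hz)
    have h3 := Subgroup.mem_centralizer_iff.1 h1 z hz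
    have h4 : g * z = z * g := by
      have e1 : g = y * (y⁻¹ * g) := by group
      have e2 : g * z = y * ((y⁻¹ * g) * z) := by group
      rw [e2, ← h3]
      have e3 : y * (z * (y⁻¹ * g)) = (y * z) * y⁻¹ * g := by group
      rw [e3, ← h2]; group
    rw [h4]; group

end main

end Cfsg.Agent.H25.Nilp
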