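import Mathlib
import Cfsg.Agent.H25_Nilp
import Cfsg.Agent.H25_HK
import Cfsg.Agent.H25_CovRel

/-!
# Nilpotent blocks of subgroups
-/

set_option autoImplicit false
set_option linter.unusedSectionVars false
set_option linter.style.haveILetI false

namespace Cfsg.Agent.H25.Nilp

open Cfsg Cfsg.Agent.H25.Red Cfsg.Agent.H25.KG Cfsg.Agent.H25.BPTr Cfsg.Agent.H25.BPMain
  Cfsg.Agent.H25.BPDef Cfsg.Agent.H25.BPSub Cfsg.Agent.H25.Cov Cfsg.Agent.H25.Up Cfsg.Agent.H25.Cov2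
  Cfsg.Agent.H25.Cov3 Cfsg.Agent.H25.FMT
  Cfsg.Agent.H25.ExtFMT Cfsg.Agent.H25.Fus

section gen

variable {k : Type*} [Field k] {G : Type*} [Group G] [Fintype G] {p : ℕ}

/-- nilpotency of a block of the subgroup `H`, seen in `kG` -/
def NilpH (p : ℕ) (H : Subgroup G) (b : MonoidAlgebra k G) : Prop :=
  ∀ R ≤ H, IsPGroup p R → ∀ h, IsBlk (Ce R ⊓ H) h → tr (Ce R) b * h = h →
    ∀ x ∈ H, x ∈ Nm R → KG.cnj x h = h → ¬ p ∣ orderOf x → x ∈ Ce R

variable {H : Subgroup G} [Fintype H]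

theorem Ce_map' (R : Subgroup H) : (Ce R).map H.subtype = Ce (R.map H.subtype) ⊓ H := by
  rw [← Ce_of R, Subgroup.subgroupOf_map_subtype]

theorem nilpH_iff {b : MonoidAlgebra k H} (hb : IsBlk ⊤ b) : Nilp p b ↔ NilpH p H (up k H b) := by
  constructor
  · intro hn R hR hRp h hh ht x hxH hx hxh hxp
    obtain ⟨R', rfl⟩ : ∃ P : Subgroup H, P.map H.subtype = R := ⟨R.subgroupOf H, of_map hR⟩
    obtain ⟨h', rfl⟩ := up_surj (hh.mem.1.mono inf_le_right)
    rw [← Ce_map', blk_map_iff] at hh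
    have h1 : BP p b R' h' := by
      refine ⟨(pg_map_iff R').1 hRp, hb, hh, ?_⟩
      apply up_inj (k := k) (H := H)
      rw [map_mul, ← tr_Ce_up]; exact ht
    have h2 : (⟨x, hxH⟩ : H) ∈ Nm R' := by
      have h3 : (⟨x, hxH⟩ : H) ∈ (Nm R') := by
        have h4 := (HK.Nm_map' (H := H) (P := R'.map H.subtype) hR)
        have h5 : (R'.map H.subtype).subgroupOf H = R' := by
          rw [Subgroup.subgroupOf, Subgroup.comap_map_eq_self_of_injective (Subgroup.subtype_injective H)]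
        rw [h5] at h4
        have h6 : x ∈ (Nm R').map H.subtype := by rw [h4]; exact ⟨hx, hxH⟩
        obtain ⟨y, hy, h7⟩ := h6
        have h8 : y = ⟨x, hxH⟩ := Subtype.ext h7
        rw [← h8]; exact hy
      exact h3
    have h3 := hn R' h' h1 ⟨x, hxH⟩ h2 (by
      apply up_inj (k := k) (H := H)
      rw [up_cnj]; exact hxh) (by rwa [Subgroup.orderOf_mk])
    have h9 : x ∈ (Ce R').map H.subtype := ⟨_, h3, rfl⟩
    rw [Ce_map'] at h9
    exact h9.1
  · intro hn R h h1 x hx hxh hxp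
    have h2 : (x : G) ∈ Ce (R.map H.subtype) := by
      refine hn (R.map H.subtype) (Subgroup.map_subtype_le R) ((pg_map_iff R).2 h1.pg) (up k H h) ?_ ?_ x x.2 ?_ ?_ ?_
      · rw [← Ce_map', blk_map_iff]; exact h1.be
      · rw [tr_Ce_up, ← map_mul, h1.tr]
      · have h4 := (HK.Nm_map' (H := H) (P := R.map H.subtype) (Subgroup.map_subtype_le R))
        have h5 : (R.map H.subtype).subgroupOf H = R := by
          rw [Subgroup.subgroupOf, Subgroup.comap_map_eq_self_of_injective (Subgroup.subtype_injective H)]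
        rw [h5] at h4
        have h6 : (x : G) ∈ (Nm R).map H.subtype := ⟨x, hx, rfl⟩
        rw [h4] at h6
        exact h6.1
      · rw [← up_cnj, hxh]
      · rwa [Subgroup.orderOf_coe]
    have h3 : (x : G) ∈ (Ce R).map H.subtype := by rw [Ce_map']; exact ⟨h2, x.2⟩
    obtain ⟨y, hy, h7⟩ := h3
    have h8 : y = x := Subtype.ext h7
    rw [← h8]; exact hy

end gen

section main

variable {M : Ideal AlgInt} {G : Type*} [Group G] [Fintype G] {p : ℕ} [hp : Fact p.Prime]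
  [hMax : M.IsMaximal] [hch : CharP (KM M) p] {B : MonoidAlgebra (KM M) G} {P Q H : Subgroup G}
  {E f : MonoidAlgebra (KM M) G}

theorem nilpH_iff' {H : Subgroup G} {b : Set (IrrCharacter H)} :
    IsNilpotentBlock p M b ↔ IsPBlock M b ∧ NilpH p H (ep M H b) := by
  haveI : Fintype H := Fintype.ofFinite _
  rw [nilp_iff]
  constructor
  · rintro ⟨h1, h2⟩
    rw [nilpH_iff (isBlk_epG h1), up_epG] at h2
    exact ⟨h1, h2⟩
  · rintro ⟨h1, h2⟩
    rw [nilpH_iff (isBlk_epG h1), up_epG]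
    exact ⟨h1, h2⟩

/-- blocks of centralizers in a nilpotent block are nilpotent -/
theorem nilp_cent (hn : Nilp p B) (hQ : BP p B Q f) : NilpH p (Ce Q) f := by
  intro R hR hRp h hh ht x hxH hx hxh hxp
  have hRQ : R ≤ Nm Q := hR.trans (Ce_le_Nm Q)
  have hS : IsPGroup p (Q ⊔ R : Subgroup G) := isPGroup_sup hQ.pg hRp hRQ
  have hCS : Ce (Q ⊔ R) = Ce R ⊓ Ce Q := by rw [Ce_sup, inf_comm]
  have hh' : IsBlk (Ce (Q ⊔ R)) h := by rw [hCS]; exact hh
  have htr : tr (Ce (Q ⊔ R)) f = tr (Ce R) f := by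
    apply ext_c
    intro y
    by_cases hy : y ∈ Ce (Q ⊔ R)
    · rw [tr_c_of_mem _ hy]
      rw [hCS] at hy
      rw [tr_c_of_mem _ hy.1]
    · rw [tr_c_of_notMem _ hy]
      by_cases hy2 : y ∈ Ce R
      · rw [tr_c_of_mem _ hy2, hQ.be.mem.1.zero_of]
        intro hy3; apply hy; rw [hCS]; exact ⟨hy2, hy3⟩
      · rw [tr_c_of_notMem _ hy2]
  have hns : NS p Q f (Q ⊔ R) h := by
    refine ⟨hQ.pg, hS, hQ.be, hh', le_sup_left, sup_le Subgroup.le_normalizer hRQ, ?_, ?_⟩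
    · exact fix_sup (fix_of_supp hQ.be.mem.1) (hQ.be.mem.2.mono hR)
    · rw [htr]; exact ht
  have hbp : BP p B (Q ⊔ R) h := hQ.up hS hh' (LE.of_ns hns)
  have hxQ : x ∈ Nm Q := Ce_le_Nm Q hxH
  have hxS : x ∈ Nm (Q ⊔ R) := by
    rw [mem_normalizer_iff_cs, cs, Subgroup.map_sup]
    have h1 : cs x Q = Q := mem_normalizer_iff_cs.1 hxQ
    have h2 : cs x R = R := mem_normalizer_iff_cs.1 hx
    rw [← cs, ← cs, h1, h2]
  exact Ce_anti le_sup_right (hn _ _ hbp x hxS hxh hxp)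

/-- in a nilpotent block every subgroup of `P` is fully centralized -/
theorem dgh_cent (hM : IsPModular p M) (hP : BP p B P E) (htop : KG.Top p P E) (hn : Nilp p B)
    (hle : LE p Q f P E) : DGH p (Ce Q) f (P ⊓ Ce Q) := by
  obtain ⟨F, hF⟩ := exists_bf hP.pg hP.be
  rw [← fc_iff hM hP htop hle hF, hF.fc_iff]
  refine ⟨hle.le, fun g hg => ?_⟩
  obtain ⟨u, hu, h1⟩ := fr_inner hM hP htop hn hg
  have h2 : cs g Q = cs u Q := by
    ext y
    rw [mem_cs, mem_cs]
    constructor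
    · intro hy
      have h3 := h1 _ hy
      have h4 : g * (g⁻¹ * y * g) * g⁻¹ = y := by group
      rw [h4] at h3
      have h5 : u⁻¹ * (u * (g⁻¹ * y * g) * u⁻¹) * u = g⁻¹ * y * g := by group
      rw [← h3] at h5
      rw [h5]; exact hy
    · intro hy
      have h3 := h1 _ hy
      have h4 : u * (u⁻¹ * y * u) * u⁻¹ = y := by group
      rw [h4] at h3
      have h5 : g⁻¹ * (g * (u⁻¹ * y * u) * g⁻¹) * g = u⁻¹ * y * u := by group
      rw [h3] at h5
      rw [h5]; exact hy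
  have h3 : P ⊓ Ce (cs g Q) = cs u (P ⊓ Ce Q) := by
    rw [h2, cs_inf, ← centralizer_cs, mem_normalizer_iff_cs.1 (Subgroup.le_normalizer hu)]
  rw [h3, card_cs]

end main

end Cfsg.Agent.H25.Nilp
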