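import Mathlib
import Cfsg.Agent.H25_Nilp2
import Cfsg.Agent.H25_Rel
import Cfsg.Agent.H25_BPInd

/-!
# Blocks with abelian defect groups: inertial quotient of centralizer blocks
-/

set_option autoImplicit false
set_option linter.unusedSectionVars false
set_option linter.style.haveILetI false

namespace Cfsg.Agent.H25.NilpAb

open Cfsg Cfsg.Agent.H25.Red Cfsg.Agent.H25.KG Cfsg.Agent.H25.BPTr Cfsg.Agent.H25.BPMain
  Cfsg.Agent.H25.BPDef Cfsg.Agent.H25.BPSub Cfsg.Agent.H25.Cov Cfsg.Agent.H25.Up Cfsg.Agent.H25.Cov2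
  Cfsg.Agent.H25.Cov3 Cfsg.Agent.H25.FMT
  Cfsg.Agent.H25.ExtFMT Cfsg.Agent.H25.Fus Cfsg.Agent.H25.Nilp Cfsg.Agent.H25.Rel

variable {M : Ideal AlgInt} {G : Type*} [Group G] [Fintype G] {p : ℕ} [hp : Fact p.Prime]
  [hMax : M.IsMaximal] [hch : CharP (KM M) p] {B : MonoidAlgebra (KM M) G} {P Q : Subgroup G}
  {E f : MonoidAlgebra (KM M) G}

theorem le_Ce_ab (hab : ∀ x ∈ P, ∀ y ∈ P, x * y = y * x) (hQP : Q ≤ P) : P ≤ Ce Q := by
  intro x hx
  rw [Subgroup.mem_centralizer_iff]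
  intro y hy
  exact hab y (hQP hy) x hx

/-- for abelian `P` every subgroup is fully centralized -/
theorem dgh_ab (hM : IsPModular p M) (hP : BP p B P E) (htop : KG.Top p P E)
    (hab : ∀ x ∈ P, ∀ y ∈ P, x * y = y * x) (hle : LE p Q f P E) : DGH p (Ce Q) f P := by
  obtain ⟨F, hF⟩ := exists_bf hP.pg hP.be
  have h1 : P ⊓ Ce Q = P := inf_eq_left.2 (le_Ce_ab hab hle.le)
  rw [← h1, ← fc_iff hM hP htop hle hF, hF.fc_iff]
  refine ⟨hle.le, fun g hg => ?_⟩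
  rw [h1]
  exact Nat.card_le_card_of_injective _ (Subgroup.inclusion_injective inf_le_left)

theorem Nf_map {H : Subgroup G} [Fintype H] {P' : Subgroup H} {E' : MonoidAlgebra (KM M) H} :
    (Nf P' E').map H.subtype = Nf (P'.map H.subtype) (up (KM M) H E') ⊓ H := by
  have h5 : (P'.map H.subtype).subgroupOf H = P' := by
    rw [Subgroup.subgroupOf, Subgroup.comap_map_eq_self_of_injective (Subgroup.subtype_injective H)]
  have h4 := (HK.Nm_map' (H := H) (P := P'.map H.subtype) (Subgroup.map_subtype_le P'))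
  rw [h5] at h4
  ext x
  constructor
  · rintro ⟨y, hy, rfl⟩
    have h6 : (y : G) ∈ (Nm P').map H.subtype := ⟨y, hy.1, rfl⟩
    rw [h4] at h6
    refine ⟨⟨h6.1, ?_⟩, y.2⟩
    show KG.cnj (y : G) (up (KM M) H E') = _
    rw [← up_cnj]
    exact congrArg _ hy.2
  · rintro ⟨⟨h1, h2⟩, h3⟩
    have h6 : x ∈ (Nm P').map H.subtype := by rw [h4]; exact ⟨h1, h3⟩
    obtain ⟨y, hy, h7⟩ := h6
    refine ⟨y, ⟨hy, ?_⟩, h7⟩
    show KG.cnj y E' = E'
    apply up_inj (k := KM M) (H := H)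
    rw [up_cnj]
    have h8 : (y : G) = x := h7
    rw [h8]; exact h2

theorem nilp_ab_rel (hM : IsPModular p M) (hP : BP p B P E) (htop : KG.Top p P E)
    (hab : ∀ x ∈ P, ∀ y ∈ P, x * y = y * x) (hle : LE p Q f P E) :
    NilpH p (Ce Q) f ↔ Nf P E ⊓ Ce Q ≤ Ce P := by
  obtain ⟨hQ, hf⟩ := hle.pair hP.pg hP.be
  have hPC : P ≤ Ce Q := le_Ce_ab hab hle.le
  have hD := dgh_ab hM hP htop hab hle
  have hns : NS p Q f P E := LE.ns hP.pg hP.be hle (hPC.trans (Ce_le_Nm Q))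
  have hCP : Ce P ≤ Ce Q := Ce_anti hle.le
  haveI : Fintype (Ce Q) := Fintype.ofFinite _
  obtain ⟨f', rfl⟩ := up_surj hf.mem.1
  obtain ⟨E', rfl⟩ := up_surj (hP.be.mem.1.mono hCP)
  obtain ⟨P', rfl⟩ : ∃ P' : Subgroup (Ce Q), P'.map (Ce Q).subtype = P := ⟨P.subgroupOf _, of_map hPC⟩
  have hf' : IsBlk ⊤ f' := blk_top_iff.1 hf
  have hD' : DGH p ⊤ f' P' := by
    rw [← dgh_map_iff, top_map]; exact hD
  have hbp := bp_up hCP hf' hD'.pg hP.be hns.tr
  have htop' := top_of_dgh hD' hbp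
  rw [← nilpH_iff hf', nilp_ab_iff hM hbp htop' (by
    intro x hx y hy
    exact Subtype.ext (hab x ⟨x, hx, rfl⟩ y ⟨y, hy, rfl⟩)), ← Nf_map, ← Ce_map hCP, map_le_iff]

/-- from the character theoretic hypotheses -/
theorem data (hM : IsPModular p M) {B : Set (IrrCharacter G)} (hB : IsPBlock M B) {P : Subgroup G}
    (hPD : IsDefectGroup p M B P) {c : Set (IrrCharacter (Subgroup.centralizer (P : Set G)))}
    (hc : IsInducedBlock M (Subgroup.centralizer (P : Set G)) c B) :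
    IsPBlock M c ∧ BP p (epG M B) P (ep M (Ce P) c) ∧ KG.Top p P (ep M (Ce P) c) := by
  rw [defectG_iff hM hB] at hPD
  have h1 : IsBrauerPairOf p M B P c := (H25.BPInd.bpo_iff_induced hM).2 ⟨hPD.pg, hc⟩
  obtain ⟨-, h2, h3⟩ := bpo_iff.1 h1
  exact ⟨h2, h3, top_of_dgh hPD h3⟩

theorem mem_T_iff {P : Subgroup G} {c : Set (IrrCharacter (Subgroup.centralizer (P : Set G)))} (hc : IsPBlock M c)
    {T : Subgroup G} (hT : ∀ g : G, g ∈ T ↔ (g ∈ Subgroup.normalizer (P : Set G) ∧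
      StabilizesBlock (Subgroup.centralizer (P : Set G)) c g)) : T = Nf P (ep M (Ce P) c) := by
  ext y
  rw [hT, stabilizes_iff hc, mem_Nf]
  exact ⟨fun h => ⟨h.1, h.2.2⟩, fun h => ⟨h.1, norm_le_norm_Ce P h.1, h.2⟩⟩

/-- induction inside `C_G(Q)` for abelian `P` -/
theorem indIn_ab_iff (hM : IsPModular p M) {P Q : Subgroup G} (hP : IsPGroup p P)
    (hab : ∀ x ∈ P, ∀ y ∈ P, x * y = y * x) (hQP : Q ≤ P)
    {c : Set (IrrCharacter (Subgroup.centralizer (P : Set G)))} (hc : IsPBlock M c)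
    {f : Set (IrrCharacter (Subgroup.centralizer (Q : Set G)))} (hf : IsPBlock M f) :
    IsInducedBlockIn M (Subgroup.centralizer (Q : Set G)) (Subgroup.centralizer (P : Set G)) c f ↔
      LE p Q (ep M (Ce Q) f) P (ep M (Ce P) c) := by
  have hPC : P ≤ Ce Q := le_Ce_ab hab hQP
  have hCP : Ce P ≤ Ce Q := Ce_anti hQP
  rw [IndQ.indIn_iff' hM hP hCP (le_Ce_ab hab le_rfl) inf_le_left (Ce_le_Nm P) hc hf]
  have hQp : IsPGroup p Q := hP.to_le hQP
  constructor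
  · intro h
    exact LE.of_ns ⟨hQp, hP, isBlk_ep hf, isBlk_ep hc, hQP, hPC.trans (Ce_le_Nm Q),
      (isBlk_ep hf).mem.2.mono hPC, h⟩
  · intro h
    exact (LE.ns hP (isBlk_ep hc) h (hPC.trans (Ce_le_Nm Q))).tr

end Cfsg.Agent.H25.NilpAb
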