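import Cfsg.Agent.H25_Two2
import Cfsg.Agent.H25_NilpAb
import Cfsg.Agent.H25_Dom2

/-! Subsections of blocks with abelian defect group. -/

open scoped ComplexConjugate

namespace Cfsg.Agent.H25.AbSec

open Cfsg Cfsg.Agent.H10.BlockLoc Cfsg.Agent.H10.BlockAlg Cfsg.Agent.H10.BlockIdem
  Cfsg.Agent.H10.BlockSMT2 Cfsg.Agent.H10.BlockDefect Cfsg.Agent.H10.BlockMain
  Cfsg.Agent.H3.CharIrr
  Cfsg.Agent.H25.Red Cfsg.Agent.H25.KG Cfsg.Agent.H25.BPTr Cfsg.Agent.H25.BPMain
  Cfsg.Agent.H25.BPDef Cfsg.Agent.H25.BPSub Cfsg.Agent.H25.BPInd Cfsg.Agent.H25.FMT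
  Cfsg.Agent.H25.Fus Cfsg.Agent.H25.Nilp Cfsg.Agent.H25.NilpAb Cfsg.Agent.H25.Sub

section one
variable {p : ℕ} {M : Ideal AlgInt} {G : Type*} [Group G] [Fintype G] [hp : Fact p.Prime]

theorem cent_one : Subgroup.centralizer ({1} : Set G) = ⊤ := by
  rw [eq_top_iff]
  intro g _
  rw [Subgroup.mem_centralizer_singleton_iff, mul_one, one_mul]

open Classical in
theorem section_one (hM : IsPModular p M) {B : Set (IrrCharacter G)} (hB : IsPBlock M B)
    [Fintype (Subgroup.centralizer ({(1 : G)} : Set G))] :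
    ∑ b ∈ (blocks (Subgroup.centralizer ({(1 : G)} : Set G)) M).filter
      (fun b => IsInducedBlock M (Subgroup.centralizer ({(1 : G)} : Set G)) b B), blockRank p b =
    blockRank p B := by
  haveI := hM.2.1
  haveI : Fintype (IrrCharacter G) := Fintype.ofFinite _
  have h1 := sec_total hM (x := (1 : G)) ⟨0, by rw [orderOf_one, pow_zero]⟩ hB
  have h2 := rank_KB hM hB
  have h3 : ∀ χ : IrrCharacter G, ∑ y : Subgroup.centralizer ({(1 : G)} : Set G),
      (if p ∣ orderOf y then 0 else (χ : G → ℂ) ((1 : G) * y) * conj ((χ : G → ℂ) ((1 : G) * y))) =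
      ∑ y : G, (if p ∣ orderOf y then 0 else (χ : G → ℂ) y * conj ((χ : G → ℂ) y)) := by
    intro χ
    have hmem : ∀ y : G, y ∈ Subgroup.centralizer ({(1 : G)} : Set G) := fun y => by
      rw [cent_one]; exact Subgroup.mem_top y
    rw [← Equiv.sum_comp (Equiv.subtypeUnivEquiv hmem)]
    refine Finset.sum_congr rfl fun y _ => ?_
    have e1 : (Equiv.subtypeUnivEquiv hmem) y = (y : G) := rfl
    rw [e1, one_mul, Subgroup.orderOf_coe]
  have h4 : ∑ χ : IrrCharacter G, (if χ ∈ B then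
      ∑ y : Subgroup.centralizer ({(1 : G)} : Set G),
      (if p ∣ orderOf y then 0 else (χ : G → ℂ) ((1 : G) * y) * conj ((χ : G → ℂ) ((1 : G) * y)))
      else 0) = (Nat.card G : ℂ) * (blockRank p B : ℂ) := by
    rw [← h2]
    have h5 : ∀ χ : IrrCharacter G, (if χ ∈ B then
      ∑ y : Subgroup.centralizer ({(1 : G)} : Set G),
      (if p ∣ orderOf y then 0 else (χ : G → ℂ) ((1 : G) * y) * conj ((χ : G → ℂ) ((1 : G) * y)))
      else 0) = ∑ y : G, (if p ∣ orderOf y then 0 else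
        (if χ ∈ B then (χ : G → ℂ) y * conj ((χ : G → ℂ) y) else 0)) := by
      intro χ
      split_ifs with h
      · exact h3 χ
      · simp
    rw [Finset.sum_congr rfl fun χ _ => h5 χ, Finset.sum_comm]
    refine Finset.sum_congr rfl fun y _ => ?_
    split_ifs
    · simp
    · unfold KB
      exact Finset.sum_congr rfl fun χ _ => by split_ifs <;> rfl
  rw [h4] at h1
  have h6 : Nat.card (Subgroup.centralizer ({(1 : G)} : Set G)) = Nat.card G := by
    rw [cent_one]; exact Subgroup.card_top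
  rw [h6] at h1
  have h7 := mul_left_cancel₀ (Nat.cast_ne_zero.2 Nat.card_pos.ne') h1
  exact_mod_cast h7.symm

end one

section main
variable {p : ℕ} {M : Ideal AlgInt} {G : Type*} [Group G] [Fintype G] [hp : Fact p.Prime]
  [hMax : M.IsMaximal] [hch : CharP (KM M) p]

theorem Ce_zp (x : G) : Ce (Subgroup.zpowers x) = Subgroup.centralizer ({x} : Set G) :=
  centralizer_zpowers x

theorem cs_zp (g x : G) : KG.cs g (Subgroup.zpowers x) = Subgroup.zpowers (g * x * g⁻¹) := by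
  rw [KG.cs, MonoidHom.map_zpowers]; rfl

/-- blocks of `C(x)` over `B` as Brauer pairs -/
theorem ind_iff (hM : IsPModular p M) {B : Set (IrrCharacter G)} (hB : IsPBlock M B) {x : G}
    (hx : ∃ k : ℕ, orderOf x = p ^ k) :
    ∀ b : Set (IrrCharacter (Subgroup.centralizer ({x} : Set G))), IsPBlock M b →
      (IsInducedBlock M (Subgroup.centralizer ({x} : Set G)) b B ↔
        BP p (epG M B) (Subgroup.zpowers x) (ep M (Subgroup.centralizer ({x} : Set G)) b)) := by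
  rw [← centralizer_zpowers x]
  intro b hb
  have hP := zpowers_isPGroup hx
  constructor
  · intro h
    exact (bpo_iff.1 ((bpo_iff_induced hM).2 ⟨hP, h⟩)).2.2
  · intro h
    exact ((bpo_iff_induced hM).1 (bpo_iff.2 ⟨hB, hb, h⟩)).2

/-- the relation between elements of the defect group and subsections -/
def PhiRel (M : Ideal AlgInt) [M.IsMaximal] (p : ℕ) (P : Subgroup G) (E : MonoidAlgebra (KM M) G)
    (y : G) (s : Σ x : G, Set (IrrCharacter (Subgroup.centralizer ({x} : Set G)))) : Prop :=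
  ∃ g : G, g * y * g⁻¹ = s.1 ∧
    LE p (Subgroup.zpowers y) (KG.cnj g⁻¹ (ep M (Subgroup.centralizer ({s.1} : Set G)) s.2)) P E

theorem exists_phi (hM : IsPModular p M) {B : Set (IrrCharacter G)} (hB : IsPBlock M B)
    {P : Subgroup G} {E : MonoidAlgebra (KM M) G} (hP : BP p (epG M B) P E)
    {X : Finset G} (hXrep : ∀ g : G, (∃ k : ℕ, orderOf g = p ^ k) → ∃! x, x ∈ X ∧ IsConj g x)
    {y : G} (hy : y ∈ P) :
    ∃ s : Σ x : G, Set (IrrCharacter (Subgroup.centralizer ({x} : Set G))), s.1 ∈ X ∧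
      IsInducedBlock M (Subgroup.centralizer ({s.1} : Set G)) s.2 B ∧ PhiRel M p P E y s := by
  obtain ⟨k, hk⟩ := (IsPGroup.iff_orderOf.1 hP.pg) ⟨y, hy⟩
  rw [Subgroup.orderOf_mk] at hk
  obtain ⟨x, ⟨hxX, hyx⟩, -⟩ := hXrep y ⟨k, hk⟩
  obtain ⟨g, hg⟩ := isConj_iff.1 hyx
  obtain ⟨f, hf, hle⟩ := le_exists hP.pg hP.be (by rwa [Subgroup.zpowers_le] :
    Subgroup.zpowers y ≤ P)
  have h1 := (hP.down hle).cnj g
  rw [cs_zp, hg] at h1
  have hbe : IsBlk (Subgroup.centralizer ({x} : Set G)) (KG.cnj g f) := by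
    rw [← centralizer_zpowers x]; exact h1.be
  obtain ⟨b, hb, hbe'⟩ := exists_ep hbe
  have hx : ∃ k : ℕ, orderOf x = p ^ k := ⟨k, by
    rw [← hg, ← MulAut.conj_apply, MulEquiv.orderOf_eq, hk]⟩
  refine ⟨⟨x, b⟩, hxX, (ind_iff hM hB hx b hb).2 (by rw [hbe']; exact h1), g, hg, ?_⟩
  show LE p (Subgroup.zpowers y) (KG.cnj g⁻¹ (ep M (Subgroup.centralizer ({x} : Set G)) b)) P E
  rw [hbe', cnj_inv_cnj]
  exact hle

theorem phi_surj (hM : IsPModular p M) {B : Set (IrrCharacter G)} (hB : IsPBlock M B)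
    {P : Subgroup G} {E : MonoidAlgebra (KM M) G} (hP : BP p (epG M B) P E) (htop : KG.Top p P E)
    (s : Σ x : G, Set (IrrCharacter (Subgroup.centralizer ({x} : Set G))))
    (hx : ∃ k : ℕ, orderOf s.1 = p ^ k)
    (hs : IsInducedBlock M (Subgroup.centralizer ({s.1} : Set G)) s.2 B) :
    ∃ y ∈ P, PhiRel M p P E y s := by
  have h1 := (ind_iff hM hB hx s.2 hs.1).1 hs
  obtain ⟨g, hg⟩ := hP.conj_le htop h1
  rw [cs_zp] at hg
  refine ⟨g * s.1 * g⁻¹, by rw [← Subgroup.zpowers_le]; exact hg.le, g⁻¹, by group, ?_⟩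
  rw [inv_inv]; exact hg

/-- a subsection is determined by the element -/
theorem phi_unique {P : Subgroup G} {E : MonoidAlgebra (KM M) G}
    (hP : IsPGroup p P) (hE : IsBlk (Ce P) E)
    {X : Finset G} (hXrep : ∀ g : G, (∃ k : ℕ, orderOf g = p ^ k) → ∃! x, x ∈ X ∧ IsConj g x)
    {y : G} (hy : y ∈ P) {s s' : Σ x : G, Set (IrrCharacter (Subgroup.centralizer ({x} : Set G)))}
    (hs : s.1 ∈ X) (hs' : s'.1 ∈ X) (hb : IsPBlock M s.2) (hb' : IsPBlock M s'.2)
    (h : PhiRel M p P E y s) (h' : PhiRel M p P E y s') : s = s' := by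
  obtain ⟨x, b⟩ := s
  obtain ⟨x', b'⟩ := s'
  obtain ⟨g, hg, hle⟩ := h
  obtain ⟨g', hg', hle'⟩ := h'
  simp only at hs hs' hb hb' hg hg' hle hle'
  obtain ⟨k, hk⟩ := (IsPGroup.iff_orderOf.1 hP) ⟨y, hy⟩
  rw [Subgroup.orderOf_mk] at hk
  have hxx : x = x' := (hXrep y ⟨k, hk⟩).unique ⟨hs, isConj_iff.2 ⟨g, hg⟩⟩ ⟨hs', isConj_iff.2 ⟨g', hg'⟩⟩
  subst hxx
  have h1 := le_unique hP hE hle hle'
  have h2 : KG.cnj (g' * g⁻¹) (ep M (Subgroup.centralizer ({x} : Set G)) b) =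
      ep M (Subgroup.centralizer ({x} : Set G)) b' := by
    rw [cnj_mul_apply, h1, cnj_cnj_inv]
  have h3 : g' * g⁻¹ ∈ Subgroup.centralizer ({x} : Set G) := by
    rw [Subgroup.mem_centralizer_singleton_iff]
    calc g' * g⁻¹ * x = g' * g⁻¹ * (g * y * g⁻¹) := by rw [hg]
      _ = g' * y * g'⁻¹ * (g' * g⁻¹) := by group
      _ = x * (g' * g⁻¹) := by rw [hg']
  rw [(isBlk_ep (M := M) hb).mem.2 _ h3] at h2
  rw [ep_inj hb hb' h2]

theorem phi_conj {P : Subgroup G} {E : MonoidAlgebra (KM M) G} {y t : G} (ht : t ∈ Nf P E)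
    {s : Σ x : G, Set (IrrCharacter (Subgroup.centralizer ({x} : Set G)))}
    (h : PhiRel M p P E y s) : PhiRel M p P E (t * y * t⁻¹) s := by
  obtain ⟨g, hg, hle⟩ := h
  refine ⟨g * t⁻¹, ?_, ?_⟩
  · rw [← hg]; group
  · have h1 := hle.cnj t
    rw [cs_zp, mem_normalizer_iff_cs.1 ht.1, ht.2, ← cnj_mul_apply] at h1
    have h2 : (g * t⁻¹)⁻¹ = t * g⁻¹ := by group
    rw [h2]; exact h1

theorem phi_fiber (hM : IsPModular p M) {B : MonoidAlgebra (KM M) G}
    {P : Subgroup G} {E : MonoidAlgebra (KM M) G} (hP : BP p B P E) (htop : KG.Top p P E)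
    (hab : ∀ x ∈ P, ∀ y ∈ P, x * y = y * x) {y y' : G}
    {s : Σ x : G, Set (IrrCharacter (Subgroup.centralizer ({x} : Set G)))}
    (h : PhiRel M p P E y s) (h' : PhiRel M p P E y' s) : ∃ t ∈ Nf P E, t * y * t⁻¹ = y' := by
  obtain ⟨g, hg, hle⟩ := h
  obtain ⟨g', hg', hle'⟩ := h'
  have h1 : FR p P E (Subgroup.zpowers y) (g'⁻¹ * g) := by
    refine ⟨_, hle, ?_⟩
    rw [cs_zp]
    have e1 : g'⁻¹ * g * y * (g'⁻¹ * g)⁻¹ = y' := by
      calc g'⁻¹ * g * y * (g'⁻¹ * g)⁻¹ = g'⁻¹ * (g * y * g⁻¹) * g' := by group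
        _ = g'⁻¹ * (g' * y' * g'⁻¹) * g' := by rw [hg, hg']
        _ = y' := by group
    rw [e1, cnj_mul_apply, cnj_cnj_inv]
    exact hle'
  obtain ⟨t, ht, hc⟩ := ab_control hM hP htop hab h1
  refine ⟨t, ht, ?_⟩
  have h2 : t⁻¹ * (g'⁻¹ * g) * y = y * (t⁻¹ * (g'⁻¹ * g)) := by
    rw [Ce_zp, Subgroup.mem_centralizer_singleton_iff] at hc
    exact hc
  have h3 : y' = g'⁻¹ * g * y * (g'⁻¹ * g)⁻¹ := by
    symm
    calc g'⁻¹ * g * y * (g'⁻¹ * g)⁻¹ = g'⁻¹ * (g * y * g⁻¹) * g' := by group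
      _ = g'⁻¹ * (g' * y' * g'⁻¹) * g' := by rw [hg, hg']
      _ = y' := by group
  rw [h3]
  have h4 : g'⁻¹ * g * y = t * (y * (t⁻¹ * (g'⁻¹ * g))) := by rw [← h2]; group
  rw [h4]; group

end main

section rank
variable {M : Ideal AlgInt} {G : Type*} [Group G] [Fintype G]

local instance two_fact4 : Fact (Nat.Prime 2) := ⟨Nat.prime_two⟩

theorem exists_gen {D : Subgroup G} (h : Nat.card D = 2) :
    ∃ x : G, orderOf x = 2 ∧ Subgroup.zpowers x = D := by
  obtain ⟨z, hz⟩ := exists_prime_orderOf_dvd_card' (G := D) 2 (by rw [h])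
  refine ⟨(z : G), by rw [Subgroup.orderOf_coe, hz], ?_⟩
  refine eq_of_le_card (by rw [Subgroup.zpowers_le]; exact z.2) ?_
  rw [Nat.card_zpowers, Subgroup.orderOf_coe, hz, h]

/-- blocks with defect group of order two have rank one -/
theorem rank_defect_one (hM : IsPModular 2 M) {B : Set (IrrCharacter G)} (hB : IsPBlock M B)
    (hd : blockDefect 2 B = 1) : blockRank 2 B = 1 := by
  classical
  haveI := hM.2.1
  obtain ⟨D, hD⟩ := exists_defectGroup (p := 2) hB
  have h1 := card_defectGroup hM hB hD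
  rw [hd, pow_one] at h1
  obtain ⟨x, hx, rfl⟩ := exists_gen h1
  obtain ⟨b, hb, -⟩ := H25.Major.exists_major hM hB hD (Subgroup.mem_zpowers x) (fun d hd => by
    obtain ⟨k, rfl⟩ := Subgroup.mem_zpowers_iff.1 hd
    exact ((Commute.refl x).zpow_left k).eq)
  haveI : Fintype (Subgroup.centralizer ({x} : Set G)) := Fintype.ofFinite _
  obtain ⟨θ, hθ⟩ := block_nonempty hb.1
  have h2 := (H25.Two2.main hM hx hD hb hθ).2.1
  obtain ⟨χ, hχ⟩ := block_nonempty hB
  have h3 : (fun χ : IrrCharacter G => pRegularPart 2 (χ : G → ℂ)) '' B =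
      {pRegularPart 2 (χ : G → ℂ)} := by
    ext f
    rw [Set.mem_image, Set.mem_singleton_iff]
    constructor
    · rintro ⟨ψ, hψ, rfl⟩
      ext g
      rw [H25.BlockReg3.pReg_apply, H25.BlockReg3.pReg_apply]
      split_ifs with h
      · rfl
      · exact h2 ψ hψ χ hχ g h
    · rintro rfl
      exact ⟨χ, hχ, rfl⟩
  rw [blockRank, h3]
  refine finrank_span_singleton fun h => ?_
  have h4 := congrFun h 1
  rw [H25.BlockReg3.pReg_apply, if_neg (by rw [orderOf_one]; norm_num)] at h4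
  exact IsIrr.one_ne_zero χ.2 h4

theorem rank_defect_two (hM : IsPModular 2 M) {B : Set (IrrCharacter G)} (hB : IsPBlock M B)
    {z : G} (hz : orderOf z = 2) (hzc : ∀ g : G, g * z = z * g)
    (hd : blockDefect 2 B = 2) : blockRank 2 B = 1 := by
  classical
  haveI := hM.2.1
  haveI hn : (Subgroup.zpowers z).Normal := by
    refine ⟨fun n hn g => ?_⟩
    have h3 : g * n = n * g := by
      obtain ⟨k, rfl⟩ := Subgroup.mem_zpowers_iff.1 hn
      exact ((show Commute g z from hzc g).zpow_right k).eq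
    rw [h3, mul_inv_cancel_right]; exact hn
  haveI : Fintype (G ⧸ Subgroup.zpowers z) := Fintype.ofFinite _
  have hN : IsPGroup 2 (Subgroup.zpowers z) := IsPGroup.of_card (n := 1) (by
    rw [Nat.card_zpowers, hz, pow_one])
  have hC : ∃ k : ℕ, (Subgroup.centralizer (Subgroup.zpowers z : Set G)).index = 2 ^ k :=
    H25.Dom.index_of_central (by rw [Subgroup.zpowers_le, Subgroup.mem_center_iff]; exact hzc)
  obtain ⟨Bb, hBb, hsub, hdef⟩ := H25.Dom2.exists_dominated (Subgroup.zpowers z) hM hN hB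
  obtain ⟨φ, hφ⟩ := block_nonempty hBb
  have h1 : Bb = H25.Dom.Bb (Subgroup.zpowers z) B :=
    block_eq_of_mem hBb (H25.Dom.Bb_isPBlock _ hM hN hC hB) hφ (hsub φ hφ)
  obtain ⟨D, hD⟩ := exists_defectGroup (p := 2) hB
  have h2 := card_defectGroup hM hB hD
  have h3 : IsDefectGroup 2 M Bb (D.map (QuotientGroup.mk' (Subgroup.zpowers z))) :=
    (hdef _).2 ⟨D, hD, rfl⟩
  have h4 := card_defectGroup hM hBb h3
  have hle : Subgroup.zpowers z ≤ D := normal_le_defectGroup hM hB hD _ hN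
  have h5 : Nat.card (D.map (QuotientGroup.mk' (Subgroup.zpowers z))) * 2 = Nat.card D := by
    have h6 := Subgroup.card_eq_card_quotient_mul_card_subgroup
      ((QuotientGroup.mk' (Subgroup.zpowers z)).comp D.subtype).ker
    rw [Nat.card_congr (QuotientGroup.quotientKerEquivRange
      ((QuotientGroup.mk' (Subgroup.zpowers z)).comp D.subtype)).toEquiv, MonoidHom.range_comp,
      Subgroup.range_subtype] at h6
    have h7 : ((QuotientGroup.mk' (Subgroup.zpowers z)).comp D.subtype).ker =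
        (Subgroup.zpowers z).subgroupOf D := by
      ext y
      rw [MonoidHom.mem_ker, Subgroup.mem_subgroupOf]
      exact QuotientGroup.eq_one_iff _
    rw [h7, Nat.card_congr (Subgroup.subgroupOfEquivOfLe hle).toEquiv, Nat.card_zpowers, hz] at h6
    exact h6.symm
  have h6 : blockDefect 2 Bb = 1 := by
    rw [h2, hd, h4] at h5
    have : 2 ^ blockDefect 2 Bb = 2 ^ 1 := by omega
    exact Nat.pow_right_injective le_rfl this
  rw [H25.Dom.rank_Bb (Subgroup.zpowers z) hM hN hC hB, ← h1]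
  exact rank_defect_one hM hBb h6

end rank

end Cfsg.Agent.H25.AbSec
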