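import Cfsg.Agent.H25_AbSec

/-! The formula for `k(B)` in terms of subsections, abelian defect group. -/

open scoped ComplexConjugate

namespace Cfsg.Agent.H25.AbSec2

open Cfsg Cfsg.Agent.H10.BlockLoc Cfsg.Agent.H10.BlockAlg Cfsg.Agent.H10.BlockIdem
  Cfsg.Agent.H10.BlockSMT2 Cfsg.Agent.H10.BlockDefect Cfsg.Agent.H10.BlockMain
  Cfsg.Agent.H3.CharIrr
  Cfsg.Agent.H25.Red Cfsg.Agent.H25.KG Cfsg.Agent.H25.BPTr Cfsg.Agent.H25.BPMain
  Cfsg.Agent.H25.BPDef Cfsg.Agent.H25.BPSub Cfsg.Agent.H25.BPInd Cfsg.Agent.H25.FMT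
  Cfsg.Agent.H25.Fus Cfsg.Agent.H25.Nilp Cfsg.Agent.H25.NilpAb Cfsg.Agent.H25.Sub
  Cfsg.Agent.H25.AbSec

section reps
variable {G : Type*} [Group G] [Fintype G] (p : ℕ)

open Classical in
/-- representatives of the classes of `p`-elements -/
noncomputable def reps : Finset G :=
  Finset.univ.filter fun x => (∃ k : ℕ, orderOf x = p ^ k) ∧ rep (ConjClasses.mk x) = x

theorem reps_p {x : G} (h : x ∈ reps (G := G) p) : ∃ k : ℕ, orderOf x = p ^ k := by
  classical
  exact (Finset.mem_filter.1 h).2.1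

theorem orderOf_conj' {g h : G} (hc : IsConj g h) : orderOf g = orderOf h := by
  obtain ⟨c, rfl⟩ := isConj_iff.1 hc
  rw [← MulAut.conj_apply, MulEquiv.orderOf_eq]

theorem reps_unique (g : G) (hg : ∃ k : ℕ, orderOf g = p ^ k) :
    ∃! x, x ∈ reps (G := G) p ∧ IsConj g x := by
  classical
  have h1 : IsConj g (rep (ConjClasses.mk g)) := (isConj_rep g).symm
  refine ⟨rep (ConjClasses.mk g), ⟨?_, h1⟩, ?_⟩
  · rw [reps, Finset.mem_filter]
    refine ⟨Finset.mem_univ _, ?_, ?_⟩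
    · rw [← orderOf_conj' h1]; exact hg
    · rw [mk_rep]
  · rintro y ⟨hy, hgy⟩
    rw [reps, Finset.mem_filter] at hy
    rw [← hy.2.2, ConjClasses.mk_eq_mk_iff_isConj.2 hgy]

theorem one_mem_reps : (1 : G) ∈ reps (G := G) p := by
  classical
  obtain ⟨x, ⟨hx, hc⟩, -⟩ := reps_unique (G := G) p 1 ⟨0, by rw [orderOf_one, pow_zero]⟩
  have : x = 1 := by
    have := hc
    rw [isConj_one_right] at this
    exact this
  rw [this] at hx; exact hx

end reps

section main
variable {p : ℕ} {M : Ideal AlgInt} {G : Type*} [Group G] [Fintype G] [hp : Fact p.Prime]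

/-- the blocks of the centralizer of `x` inducing `B` -/
noncomputable def iB (M : Ideal AlgInt) (B : Set (IrrCharacter G)) (x : G) :
    Finset (Set (IrrCharacter (Subgroup.centralizer ({x} : Set G)))) :=
  (Set.toFinite {b : Set (IrrCharacter (Subgroup.centralizer ({x} : Set G))) |
    IsInducedBlock M (Subgroup.centralizer ({x} : Set G)) b B}).toFinset

theorem mem_iB {B : Set (IrrCharacter G)} {x : G}
    {b : Set (IrrCharacter (Subgroup.centralizer ({x} : Set G)))} :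
    b ∈ iB M B x ↔ IsInducedBlock M (Subgroup.centralizer ({x} : Set G)) b B := by
  rw [iB, Set.Finite.mem_toFinset]; rfl

open Classical in
/-- the nontrivial subsections of `B` -/
noncomputable def secs (p : ℕ) (M : Ideal AlgInt) (B : Set (IrrCharacter G)) :
    Finset (Σ x : G, Set (IrrCharacter (Subgroup.centralizer ({x} : Set G)))) :=
  ((reps (G := G) p).erase 1).sigma fun x => iB M B x

theorem mem_secs {B : Set (IrrCharacter G)}
    {s : Σ x : G, Set (IrrCharacter (Subgroup.centralizer ({x} : Set G)))} :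
    s ∈ secs p M B ↔ s.1 ∈ reps (G := G) p ∧ s.1 ≠ 1 ∧
      IsInducedBlock M (Subgroup.centralizer ({s.1} : Set G)) s.2 B := by
  classical
  rw [secs, Finset.mem_sigma, Finset.mem_erase, mem_iB]
  constructor
  · rintro ⟨⟨h1, h2⟩, h3⟩; exact ⟨h2, h1, h3⟩
  · rintro ⟨h1, h2, h3⟩; exact ⟨⟨h2, h1⟩, h3⟩

theorem card_eq (hM : IsPModular p M) {B : Set (IrrCharacter G)} (hB : IsPBlock M B) :
    Nat.card B = blockRank p B + ∑ s ∈ secs p M B, blockRank p s.2 := by
  classical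
  rw [card_block_eq hM hB (X := reps (G := G) p) (fun x hx => reps_p p hx) (reps_unique p)]
  rw [← Finset.add_sum_erase _ _ (one_mem_reps p)]
  have h1 : ∀ x : G, ∑ᶠ b ∈ {b : Set (IrrCharacter ↥(Subgroup.centralizer ({x} : Set G))) |
      IsInducedBlock M (Subgroup.centralizer ({x} : Set G)) b B}, blockRank p b =
      ∑ b ∈ iB M B x, blockRank p b := fun x =>
    finsum_mem_eq_finite_toFinset_sum _ (Set.toFinite _)
  rw [h1 1]
  haveI : Fintype (Subgroup.centralizer ({(1 : G)} : Set G)) := Fintype.ofFinite _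
  have h2 := section_one hM hB
  have h3 : iB M B 1 = (blocks (Subgroup.centralizer ({(1 : G)} : Set G)) M).filter
      (fun b => IsInducedBlock M (Subgroup.centralizer ({(1 : G)} : Set G)) b B) := by
    ext b
    rw [mem_iB, Finset.mem_filter, mem_blocks]
    exact ⟨fun h => ⟨h.1, h⟩, fun h => h.2⟩
  rw [h3, h2, secs, Finset.sum_sigma]
  congr 1
  exact Finset.sum_congr rfl fun x _ => h1 x

theorem rank_pos (hM : IsPModular p M) {B : Set (IrrCharacter G)} (hB : IsPBlock M B) :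
    0 < blockRank p B := by
  classical
  haveI := hM.2.1
  obtain ⟨χ, hχ⟩ := block_nonempty hB
  rw [blockRank]
  haveI : FiniteDimensional ℂ (Submodule.span ℂ
    ((fun χ : IrrCharacter G => pRegularPart p (χ : G → ℂ)) '' B)) := inferInstance
  rw [Module.finrank_pos_iff]
  refine ⟨⟨⟨pRegularPart p (χ : G → ℂ), Submodule.subset_span ⟨χ, hχ, rfl⟩⟩, 0, fun h => ?_⟩⟩
  have h1 : pRegularPart p (χ : G → ℂ) 1 = 0 := congrFun (congrArg Subtype.val h) 1
  rw [H25.BlockReg3.pReg_apply, if_neg (by rw [orderOf_one]; exact hp.out.one_lt.ne' ∘ Nat.dvd_one.1)] at h1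
  exact IsIrr.one_ne_zero χ.2 h1

variable [hMax : M.IsMaximal] [hch : CharP (KM M) p]

theorem sec_exists (hM : IsPModular p M) {B : Set (IrrCharacter G)} (hB : IsPBlock M B)
    {P : Subgroup G} {E : MonoidAlgebra (KM M) G} (hP : BP p (epG M B) P E) {y : G} (hy : y ∈ P)
    (hy1 : y ≠ 1) : ∃ s ∈ secs p M B, PhiRel M p P E y s := by
  obtain ⟨s, h1, h2, h3⟩ := exists_phi hM hB hP (X := reps (G := G) p) (reps_unique p) hy
  refine ⟨s, mem_secs.2 ⟨h1, ?_, h2⟩, h3⟩
  intro h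
  obtain ⟨g, hg, -⟩ := h3
  rw [h, mul_inv_eq_one] at hg
  apply hy1
  simpa using hg

theorem sec_surj (hM : IsPModular p M) {B : Set (IrrCharacter G)} (hB : IsPBlock M B)
    {P : Subgroup G} {E : MonoidAlgebra (KM M) G} (hP : BP p (epG M B) P E) (htop : KG.Top p P E)
    {s : Σ x : G, Set (IrrCharacter (Subgroup.centralizer ({x} : Set G)))} (hs : s ∈ secs p M B) :
    ∃ y ∈ P, y ≠ 1 ∧ PhiRel M p P E y s := by
  obtain ⟨h1, h2, h3⟩ := mem_secs.1 hs
  obtain ⟨y, hy, hr⟩ := phi_surj hM hB hP htop s (reps_p p h1) h3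
  refine ⟨y, hy, ?_, hr⟩
  rintro rfl
  obtain ⟨g, hg, -⟩ := hr
  rw [mul_one, mul_inv_cancel] at hg
  exact h2 hg.symm

theorem sec_unique {B : Set (IrrCharacter G)}
    {P : Subgroup G} {E : MonoidAlgebra (KM M) G} (hP : BP p (epG M B) P E)
    {s s' : Σ x : G, Set (IrrCharacter (Subgroup.centralizer ({x} : Set G)))} (hs : s ∈ secs p M B)
    (hs' : s' ∈ secs p M B) {y : G} (hy : y ∈ P) (h : PhiRel M p P E y s)
    (h' : PhiRel M p P E y s') : s = s' := by
  have h1 := mem_secs.1 hs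
  have h2 := mem_secs.1 hs'
  exact phi_unique hP.pg hP.be (reps_unique p) hy h1.1 h2.1 h1.2.2.1 h2.2.2.1 h h'

/-- subsections have the full defect group -/
theorem sec_defect (hM : IsPModular p M) {B : Set (IrrCharacter G)}
    {P : Subgroup G} {E : MonoidAlgebra (KM M) G} (hP : BP p (epG M B) P E) (htop : KG.Top p P E)
    (hab : ∀ x ∈ P, ∀ y ∈ P, x * y = y * x)
    {s : Σ x : G, Set (IrrCharacter (Subgroup.centralizer ({x} : Set G)))} (hs : s ∈ secs p M B)
    {y : G} (h : PhiRel M p P E y s) : orderOf s.1 = orderOf y ∧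
      p ^ blockDefect p s.2 = Nat.card P ∧
      ∃ g : G, g * y * g⁻¹ = s.1 ∧ KG.cs g P ≤ Subgroup.centralizer ({s.1} : Set G) ∧
        IsDefectGroup p M s.2 ((KG.cs g P).subgroupOf (Subgroup.centralizer ({s.1} : Set G))) := by
  obtain ⟨x, b⟩ := s
  obtain ⟨h1, h2, h3⟩ := mem_secs.1 hs
  obtain ⟨g, hg, hle⟩ := h
  simp only at h1 h2 h3 hg hle ⊢
  have h4 := (dgh_ab hM hP htop hab hle).cnj g
  rw [cnj_cnj_inv, Ce_zp, ← H25.KG.Ce1, ← Ce1_cs, hg] at h4
  have h5 : IsDefectGroup p M b ((KG.cs g P).subgroupOf (Subgroup.centralizer ({x} : Set G))) :=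
    (defectH_iff' hM h3.1 h4.le).2 h4
  haveI : Fintype (Subgroup.centralizer ({x} : Set G)) := Fintype.ofFinite _
  refine ⟨?_, ?_, g, hg, h4.le, h5⟩
  · rw [← hg, ← MulAut.conj_apply, MulEquiv.orderOf_eq]
  · rw [← card_defectGroup hM h3.1 h5, Nat.card_congr (Subgroup.subgroupOfEquivOfLe h4.le).toEquiv,
      card_cs]

end main

end Cfsg.Agent.H25.AbSec2
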