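import Cfsg.Agent.H25_Sub

/-! Contributions of subsections: integrality and congruences. -/

open scoped ComplexConjugate

namespace Cfsg.Agent.H25.Sub2

open Cfsg Cfsg.Agent.H3 Cfsg.Agent.H3.CharBasic Cfsg.Agent.H3.CharIrr Cfsg.Agent.H3.CharComplete
  Cfsg.Agent.H25.Brauer Cfsg.Agent.H25.BrauerP Cfsg.Agent.H25.Elem
  Cfsg.Agent.H10.Char Cfsg.Agent.H10.BlockLoc Cfsg.Agent.H10.BlockAlg Cfsg.Agent.H10.BlockIdem
  Cfsg.Agent.H10.BlockOrth Cfsg.Agent.H10.BlockHZ Cfsg.Agent.H10.BlockInd Cfsg.Agent.H10.PPart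
  Cfsg.Agent.H10.BlockSMT Cfsg.Agent.H10.BlockSMT2 Cfsg.Agent.H10.BlockPrin
  Cfsg.Agent.H25.BlockReg Cfsg.Agent.H25.BlockReg2 Cfsg.Agent.H25.BlockReg3 Cfsg.Agent.H25.IndCong
  Cfsg.Agent.H25.Sub

variable {p : ℕ} {M : Ideal AlgInt}

section
variable {G : Type*} [Group G] [Fintype G] [hp : Fact p.Prime]

/-- the degree divided by the `p`-part of the block -/
noncomputable def ff (p : ℕ) (B : Set (IrrCharacter G)) (χ : IrrCharacter G) : ℕ :=
  charDegree (χ : G → ℂ) / p ^ mB p B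

theorem ff_mul {B : Set (IrrCharacter G)} {χ : IrrCharacter G} (h : χ ∈ B) :
    charDegree (χ : G → ℂ) = p ^ mB p B * ff p B χ :=
  (Nat.mul_div_cancel' ((pow_dvd_pow p (mB_le h)).trans (Nat.ordProj_dvd _ _))).symm

theorem ff_ne {B : Set (IrrCharacter G)} {χ : IrrCharacter G} (h : χ ∈ B) : ff p B χ ≠ 0 := by
  intro h0
  have := ff_mul (p := p) h
  rw [h0, mul_zero] at this
  exact (charDegree_pos χ.2).ne' this

theorem ff_fact {B : Set (IrrCharacter G)} {χ : IrrCharacter G} (h : χ ∈ B) :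
    (ff p B χ).factorization p = blockHeight p B (χ : G → ℂ) := by
  have h1 := ff_mul (p := p) h
  have h2 : (charDegree (χ : G → ℂ)).factorization p = (p ^ mB p B * ff p B χ).factorization p :=
    congrArg (fun n => n.factorization p) h1
  rw [Nat.factorization_mul (pow_pos hp.out.pos _).ne' (ff_ne h), Finsupp.add_apply,
    Nat.factorization_pow, Finsupp.smul_apply, hp.out.factorization_self, smul_eq_mul, mul_one] at h2
  rw [height_eq]
  omega

theorem ff_zero {B : Set (IrrCharacter G)} {χ : IrrCharacter G} (h : χ ∈ B)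
    (h0 : blockHeight p B (χ : G → ℂ) = 0) : ¬ p ∣ ff p B χ := by
  intro h1
  have h2 := (Nat.factorization_eq_zero_iff _ _).1 ((ff_fact h).trans h0)
  rcases h2 with h2 | h2 | h2
  · exact h2 hp.out
  · exact h2 h1
  · exact ff_ne h h2

theorem val_one {B : Set (IrrCharacter G)} {χ : IrrCharacter G} (h : χ ∈ B) :
    (χ : G → ℂ) 1 = ((p ^ mB p B : ℕ) : ℂ) * (ff p B χ : ℂ) := by
  rw [← charDegree_eq χ.2, ff_mul (p := p) h]
  push_cast; ring

theorem kk_ff {B : Set (IrrCharacter G)} {χ ψ : IrrCharacter G} (hχ : χ ∈ B) (hψ : ψ ∈ B) :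
    (kk p B χ ψ : ℂ) = (ff p B ψ : ℂ) * ((nn p χ ψ : ℂ) / (ψ : G → ℂ) 1) := by
  have h1 : ((p ^ mB p B : ℕ) : ℂ) ≠ 0 := by exact_mod_cast (pow_pos hp.out.pos _).ne'
  have h2 : (ff p B ψ : ℂ) ≠ 0 := by exact_mod_cast ff_ne hψ
  rw [val_one (p := p) hψ, kk_spec hχ ψ]
  push_cast at h1 ⊢
  field_simp

/-- the residue `κ` of a block -/
theorem exists_kappa (hM : IsPModular p M) {B : Set (IrrCharacter G)} (hB : IsPBlock M B) :
    ∃ κ : ℂ, MemLocalRing M κ ∧ ¬ MemLocalIdeal M κ ∧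
      (∀ φ ∈ B, ∀ φ' ∈ B, MemLocalIdeal M ((kk p B φ φ' : ℂ) - κ * (ff p B φ : ℂ) * (ff p B φ' : ℂ))) ∧
      ∀ φ ∈ B, ∀ φ' ∈ B, MemLocalIdeal M ((nn p φ φ' : ℂ) / (φ' : G → ℂ) 1 - κ * (ff p B φ : ℂ)) := by
  haveI := hM.2.1
  obtain ⟨φ₀, hφ₀, h0⟩ := exists_height_zero (p := p) hB
  have hf0 : ¬ MemLocalIdeal M (ff p B φ₀ : ℂ) := by
    rw [ideal_natCast_iff hM]; exact ff_zero hφ₀ h0
  have hf0' : (ff p B φ₀ : ℂ) ≠ 0 := ne_zero_of_not_ideal hf0
  have hu := (height_zero_iff hM hB hφ₀ hφ₀).1 h0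
  have hur := nn_ring hM φ₀ φ₀
  have key : ∀ φ ∈ B, ∀ φ' ∈ B, MemLocalIdeal M ((nn p φ φ' : ℂ) / (φ' : G → ℂ) 1 -
      (nn p φ₀ φ₀ : ℂ) / (φ₀ : G → ℂ) 1 / (ff p B φ₀ : ℂ) * (ff p B φ : ℂ)) := by
    intro φ hφ φ' hφ'
    have h1 := nn_congr hM φ (block_sameBlock hB hφ' hφ₀)
    have h2 := nn_congr hM φ₀ (block_sameBlock hB hφ hφ₀)
    have h3 : (nn p φ φ₀ : ℂ) / (φ₀ : G → ℂ) 1 =
        ((nn p φ₀ φ : ℂ) / (φ : G → ℂ) 1) * ((ff p B φ : ℂ) / (ff p B φ₀ : ℂ)) := by
      have hp1 : ((p ^ mB p B : ℕ) : ℂ) ≠ 0 := by exact_mod_cast (pow_pos hp.out.pos _).ne'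
      have hf : (ff p B φ : ℂ) ≠ 0 := by exact_mod_cast ff_ne hφ
      rw [nn_symm, val_one (p := p) hφ₀, val_one (p := p) hφ]
      field_simp
    have h4 : MemLocalRing M ((ff p B φ : ℂ) / (ff p B φ₀ : ℂ)) :=
      ring_div (ring_natCast _) (ring_natCast _) hf0
    have h5 := ideal_mul_right h2 h4
    rw [h3] at h1
    have h6 := ideal_add h1 h5
    convert h6 using 1
    ring
  refine ⟨(nn p φ₀ φ₀ : ℂ) / (φ₀ : G → ℂ) 1 / (ff p B φ₀ : ℂ), ring_div hur (ring_natCast _) hf0, ?_,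
    ?_, key⟩
  · intro h
    apply hu
    have := ideal_mul_right h (ring_natCast (ff p B φ₀))
    rwa [div_mul_cancel₀ _ hf0'] at this
  · intro φ hφ φ' hφ'
    rw [kk_ff hφ hφ']
    have := ideal_mul_left (ring_natCast (ff p B φ')) (key φ hφ φ' hφ')
    convert this using 1
    ring

/-- multiplicities in the restriction -/
theorem exists_aa (H : Subgroup G) [Fintype H] (χ : IrrCharacter G) (φ : IrrCharacter H) :
    ∃ n : ℕ, classInner (fun h : H => (χ : G → ℂ) h) (φ : H → ℂ) = n :=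
  ci_char_nat (Brauer.IsChar.res (IsIrr.isCharacter χ.2) H) (IsIrr.isCharacter φ.2)

noncomputable def aa (H : Subgroup G) [Fintype H] (χ : IrrCharacter G) (φ : IrrCharacter H) : ℕ :=
  (exists_aa H χ φ).choose

theorem aa_spec (H : Subgroup G) [Fintype H] (χ : IrrCharacter G) (φ : IrrCharacter H) :
    classInner (fun h : H => (χ : G → ℂ) h) (φ : H → ℂ) = aa H χ φ := (exists_aa H χ φ).choose_spec

open Classical in
/-- the residual degree of the `b`-part of the restriction -/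
noncomputable def FF (p : ℕ) (H : Subgroup G) [Fintype H] [Fintype (IrrCharacter H)]
    (b : Set (IrrCharacter H)) (χ : IrrCharacter G) : ℕ :=
  ∑ φ : IrrCharacter H, if φ ∈ b then aa H χ φ * ff p b φ else 0

theorem FF_not_dvd (hM : IsPModular p M) (H : Subgroup G) [Fintype H] [Fintype (IrrCharacter H)]
    {b : Set (IrrCharacter H)} {B : Set (IrrCharacter G)} (hind : IsInducedBlock M H b B)
    {χ : IrrCharacter G} (hχ : χ ∈ B) (h0 : blockHeight p B (χ : G → ℂ) = 0) :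
    ¬ p ∣ FF p H b χ := by
  classical
  haveI := hM.2.1
  haveI : Fintype (IrrCharacter G) := Fintype.ofFinite _
  obtain ⟨ψ, hψ⟩ := block_nonempty hind.1
  obtain ⟨κ, hκ, hκ', -, hk⟩ := exists_kappa hM hind.1
  have h1 := (s4431 hM _ hind χ hψ).2 hχ h0
  rw [L_sum _ (fun y _ => res_expand χ y)] at h1
  intro hd
  apply h1
  have h2 : MemLocalIdeal M ((FF p H b χ : ℂ) * κ) :=
    ideal_mul_right ((ideal_natCast_iff hM _).2 hd) hκ
  have h3 : (∑ φ : IrrCharacter H, classInner (fun h : H => (χ : G → ℂ) h) (φ : H → ℂ) *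
      (nn p φ ψ : ℂ)) / (ψ : H → ℂ) 1 = (FF p H b χ : ℂ) * κ +
      ∑ φ : IrrCharacter H, (if φ ∈ b then (aa H χ φ : ℂ) *
        ((nn p φ ψ : ℂ) / (ψ : H → ℂ) 1 - κ * (ff p b φ : ℂ)) else 0) := by
    unfold FF
    rw [Finset.sum_div]
    push_cast
    rw [Finset.sum_mul, ← Finset.sum_add_distrib]
    refine Finset.sum_congr rfl fun φ _ => ?_
    split_ifs with hφ
    · rw [aa_spec]
      push_cast
      ring
    · rw [nn_symm, nn_eq_zero' hM hind.1 hψ hφ]
      simp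
  rw [h3]
  refine ideal_add h2 (ideal_sum _ _ fun φ _ => ?_)
  split_ifs with hφ
  · exact ideal_mul_left (ring_natCast _) (hk φ hφ ψ hψ)
  · exact ideal_zero

end

section
variable {G : Type*} [Group G] [Fintype G] [hp : Fact p.Prime] {x : G}
  [Fintype (Subgroup.centralizer ({x} : Set G))]
  [Fintype (IrrCharacter G)]
  [Fintype (IrrCharacter (Subgroup.centralizer ({x} : Set G)))]

/-- `x` as an element of its centraliser -/
def zz (x : G) : Subgroup.centralizer ({x} : Set G) :=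
  ⟨x, Subgroup.mem_centralizer_iff.2 fun y hy => by rw [Set.mem_singleton_iff.1 hy]⟩

omit [Fintype G] [Fintype (Subgroup.centralizer ({x} : Set G))]
  [Fintype (IrrCharacter (Subgroup.centralizer ({x} : Set G)))] [Fintype (IrrCharacter G)] in
theorem zz_comm (c : Subgroup.centralizer ({x} : Set G)) : c * zz x = zz x * c :=
  Subtype.ext ((Subgroup.mem_centralizer_iff.1 c.2) x rfl).symm

omit [Fintype G] [Fintype (Subgroup.centralizer ({x} : Set G))]
  [Fintype (IrrCharacter (Subgroup.centralizer ({x} : Set G)))] [Fintype (IrrCharacter G)] hp in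
theorem zz_order (hx : ∃ k : ℕ, orderOf x = p ^ k) : ∃ k : ℕ, orderOf (zz x) = p ^ k := by
  obtain ⟨k, hk⟩ := hx
  exact ⟨k, by rw [← hk, ← Subgroup.orderOf_coe (zz x)]; rfl⟩

open Classical in
theorem bp_eq (b : Set (IrrCharacter (Subgroup.centralizer ({x} : Set G))))
    (χ : IrrCharacter G) (c : Subgroup.centralizer ({x} : Set G)) :
    bp x b (χ : G → ℂ) c = ∑ φ : IrrCharacter (Subgroup.centralizer ({x} : Set G)), if φ ∈ b then
      ((aa (Subgroup.centralizer ({x} : Set G)) χ φ : ℂ) * zl (zz x) φ) *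
      (φ : Subgroup.centralizer ({x} : Set G) → ℂ) c else 0 := by
  unfold bp
  rw [sec_part (zz x) rfl]
  refine Finset.sum_congr rfl fun φ _ => ?_
  split_ifs
  · rw [aa_spec]
  · rfl

theorem reg_inner {C : Type*} [Group C] [Fintype C] {b : Set (IrrCharacter C)}
    {φ : IrrCharacter C} (hφ : φ ∈ b) (φ' : IrrCharacter C) :
    ((p ^ blockDefect p b : ℕ) : ℂ) * ((Nat.card C : ℂ)⁻¹ * ∑ y : C, (if p ∣ orderOf y then 0 else
      (φ : C → ℂ) y * conj ((φ' : C → ℂ) y))) = (kk p b φ φ' : ℂ) := by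
  classical
  have h1 := nn_eq (p := p) φ φ'
  have e : ∑ y : C, (if p ∣ orderOf y then 0 else (φ : C → ℂ) y * conj ((φ' : C → ℂ) y)) =
      ∑ y ∈ Finset.univ.filter (fun y : C => ¬ p ∣ orderOf y),
        (φ : C → ℂ) y * conj ((φ' : C → ℂ) y) := by
    rw [Finset.sum_filter]
    refine Finset.sum_congr rfl fun y _ => ?_
    by_cases h : p ∣ orderOf y <;> simp [h]
  rw [e]
  have h2 := mB_add (p := p) hφ
  rw [kk_spec hφ, ← h2] at h1
  have h3 : ((p ^ mB p b : ℕ) : ℂ) ≠ 0 := by exact_mod_cast (pow_pos hp.out.pos _).ne'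
  push_cast at h1 h3 ⊢
  rw [pow_add] at h1
  refine mul_left_cancel₀ h3 ?_
  rw [h1]
  ring

/-- the normalised contribution `p^{d_b} m_{χψ}` -/
noncomputable def NN (p : ℕ) (x : G) [Fintype (Subgroup.centralizer ({x} : Set G))]
    (b : Set (IrrCharacter (Subgroup.centralizer ({x} : Set G))))
    (χ ψ : IrrCharacter G) : ℂ := ((p ^ blockDefect p b : ℕ) : ℂ) * mm p x b χ ψ

open Classical in
theorem NN_eq (b : Set (IrrCharacter (Subgroup.centralizer ({x} : Set G))))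
    (χ ψ : IrrCharacter G) :
    NN p x b χ ψ = ∑ φ : IrrCharacter (Subgroup.centralizer ({x} : Set G)),
      ∑ φ' : IrrCharacter (Subgroup.centralizer ({x} : Set G)), if φ ∈ b ∧ φ' ∈ b then
      ((aa (Subgroup.centralizer ({x} : Set G)) χ φ * aa (Subgroup.centralizer ({x} : Set G)) ψ φ' *
        kk p b φ φ' : ℤ) : ℂ) * (zl (zz x) φ * conj (zl (zz x) φ')) else 0 := by
  unfold NN mm
  have h1 : ∀ y : Subgroup.centralizer ({x} : Set G), (if p ∣ orderOf y then 0 else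
      bp x b (χ : G → ℂ) y * conj (bp x b (ψ : G → ℂ) y)) =
      ∑ φ : IrrCharacter (Subgroup.centralizer ({x} : Set G)),
      ∑ φ' : IrrCharacter (Subgroup.centralizer ({x} : Set G)), (if φ ∈ b ∧ φ' ∈ b then
      ((aa (Subgroup.centralizer ({x} : Set G)) χ φ : ℂ) * zl (zz x) φ) *
      ((aa (Subgroup.centralizer ({x} : Set G)) ψ φ' : ℂ) * conj (zl (zz x) φ')) *
      (if p ∣ orderOf y then 0 else (φ : Subgroup.centralizer ({x} : Set G) → ℂ) y *
        conj ((φ' : Subgroup.centralizer ({x} : Set G) → ℂ) y)) else 0) := by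
    intro y
    split_ifs with hy
    · symm
      refine Finset.sum_eq_zero fun φ _ => Finset.sum_eq_zero fun φ' _ => ?_
      split_ifs <;> simp
    · rw [bp_eq, bp_eq, map_sum, Finset.sum_mul_sum]
      refine Finset.sum_congr rfl fun φ _ => Finset.sum_congr rfl fun φ' _ => ?_
      by_cases h1 : φ ∈ b <;> by_cases h2 : φ' ∈ b <;> simp [h1, h2]
      ring
  rw [Finset.sum_congr rfl fun y _ => h1 y, Finset.sum_comm, Finset.mul_sum, Finset.mul_sum]
  refine Finset.sum_congr rfl fun φ _ => ?_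
  rw [Finset.sum_comm, Finset.mul_sum, Finset.mul_sum]
  refine Finset.sum_congr rfl fun φ' _ => ?_
  by_cases h : φ ∈ b ∧ φ' ∈ b
  · simp only [if_pos h]
    rw [← Finset.mul_sum]
    have h2 := reg_inner (p := p) h.1 φ'
    push_cast
    rw [← h2]
    push_cast
    ring
  · simp only [if_neg h]
    simp

theorem NN_integral (b : Set (IrrCharacter (Subgroup.centralizer ({x} : Set G))))
    (χ ψ : IrrCharacter G) : IsIntegral ℤ (NN p x b χ ψ) := by
  classical
  rw [NN_eq]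
  refine IsIntegral.sum _ fun φ _ => IsIntegral.sum _ fun φ' _ => ?_
  split_ifs
  · refine IsIntegral.mul ?_ (IsIntegral.mul (zl_integral zz_comm φ)
      (isIntegral_conj (zl_integral zz_comm φ')))
    exact isIntegral_algebraMap (R := ℤ) (A := ℂ)
  · exact isIntegral_zero

theorem NN_congr (hM : IsPModular p M) (hx : ∃ k : ℕ, orderOf x = p ^ k)
    {b : Set (IrrCharacter (Subgroup.centralizer ({x} : Set G)))} {κ : ℂ}
    (hκ : MemLocalRing M κ)
    (hk : ∀ φ ∈ b, ∀ φ' ∈ b, MemLocalIdeal M ((kk p b φ φ' : ℂ) - κ * (ff p b φ : ℂ) * (ff p b φ' : ℂ)))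
    (χ ψ : IrrCharacter G) :
    MemLocalIdeal M (NN p x b χ ψ - κ * (FF p (Subgroup.centralizer ({x} : Set G)) b χ : ℂ) *
      (FF p (Subgroup.centralizer ({x} : Set G)) b ψ : ℂ)) := by
  classical
  haveI := hM.2.1
  have h1 : NN p x b χ ψ - κ * (FF p (Subgroup.centralizer ({x} : Set G)) b χ : ℂ) *
      (FF p (Subgroup.centralizer ({x} : Set G)) b ψ : ℂ) =
      ∑ φ : IrrCharacter (Subgroup.centralizer ({x} : Set G)),
      ∑ φ' : IrrCharacter (Subgroup.centralizer ({x} : Set G)), if φ ∈ b ∧ φ' ∈ b then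
      (((aa (Subgroup.centralizer ({x} : Set G)) χ φ * aa (Subgroup.centralizer ({x} : Set G)) ψ φ' *
        kk p b φ φ' : ℤ) : ℂ) * (zl (zz x) φ * conj (zl (zz x) φ') - 1) +
      ((aa (Subgroup.centralizer ({x} : Set G)) χ φ * aa (Subgroup.centralizer ({x} : Set G)) ψ φ' : ℕ) : ℂ) *
        ((kk p b φ φ' : ℂ) - κ * (ff p b φ : ℂ) * (ff p b φ' : ℂ))) else 0 := by
    rw [NN_eq]
    unfold FF
    push_cast
    rw [mul_assoc, Finset.sum_mul_sum, Finset.mul_sum, ← Finset.sum_sub_distrib]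
    refine Finset.sum_congr rfl fun φ _ => ?_
    rw [Finset.mul_sum, ← Finset.sum_sub_distrib]
    refine Finset.sum_congr rfl fun φ' _ => ?_
    by_cases h1 : φ ∈ b <;> by_cases h2 : φ' ∈ b <;> simp [h1, h2]
    ring
  rw [h1]
  refine ideal_sum _ _ fun φ _ => ideal_sum _ _ fun φ' _ => ?_
  split_ifs with h
  · refine ideal_add (ideal_mul_left (ring_intCast _) ?_) (ideal_mul_left (ring_natCast _) (hk φ h.1 φ' h.2))
    have h2 := zl_sub_one hM zz_comm (zz_order hx) φ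
    have h3 : MemLocalIdeal M (conj (zl (zz x) φ') - 1) := by
      have h4 := zl_sub_one hM zz_comm (zz_order hx) φ'
      have h5 := zl_norm (p := p) zz_comm φ'
      have h6 : conj (zl (zz x) φ') - 1 = -(conj (zl (zz x) φ')) * (zl (zz x) φ' - 1) := by
        linear_combination h5
      rw [h6]
      exact ideal_mul_left (ring_neg (memLocalRing_of_integral hM.2.1.ne_top
        (isIntegral_conj (zl_integral zz_comm φ')))) h4
    have h4 : zl (zz x) φ * conj (zl (zz x) φ') - 1 =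
        (zl (zz x) φ - 1) * conj (zl (zz x) φ') + (conj (zl (zz x) φ') - 1) := by ring
    rw [h4]
    exact ideal_add (ideal_mul_right h2 (memLocalRing_of_integral hM.2.1.ne_top
        (isIntegral_conj (zl_integral zz_comm φ')))) h3
  · exact ideal_zero

theorem NN_unit (hM : IsPModular p M) (hx : ∃ k : ℕ, orderOf x = p ^ k)
    {b : Set (IrrCharacter (Subgroup.centralizer ({x} : Set G)))} {B : Set (IrrCharacter G)}
    (hind : IsInducedBlock M (Subgroup.centralizer ({x} : Set G)) b B)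
    {χ ψ : IrrCharacter G} (hχ : χ ∈ B) (h0 : blockHeight p B (χ : G → ℂ) = 0)
    (hψ : ψ ∈ B) (h0' : blockHeight p B (ψ : G → ℂ) = 0) : ¬ MemLocalIdeal M (NN p x b χ ψ) := by
  haveI := hM.2.1
  obtain ⟨κ, hκ, hκ', hk, -⟩ := exists_kappa hM hind.1
  have h1 := NN_congr hM hx hκ hk χ ψ
  have h2 := FF_not_dvd hM _ hind hχ h0
  have h3 := FF_not_dvd hM _ hind hψ h0'
  intro h4
  have h5 := ideal_sub h4 h1
  rw [sub_sub_cancel] at h5
  rcases ideal_of_mul (ring_mul hκ (ring_natCast _)) (ring_natCast _) h5 with h6 | h6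
  · rcases ideal_of_mul hκ (ring_natCast _) h6 with h7 | h7
    · exact hκ' h7
    · exact h2 ((ideal_natCast_iff hM _).1 h7)
  · exact h3 ((ideal_natCast_iff hM _).1 h6)

end

end Cfsg.Agent.H25.Sub2
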