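import Cfsg.Agent.H3_GalProd
import Cfsg.Agent.H25_Sub2

/-! Galois averages of Hermitian matrices of algebraic integers. -/

open scoped ComplexConjugate

namespace Cfsg.Agent.H25.Avg

open Cfsg Cfsg.Agent.H3.CharGal Cfsg.Agent.H3.CharBasic

/-- the Galois group -/
abbrev Gm (n : ℕ) : Type := Cyc n ≃ₐ[ℚ] Cyc n

section
variable {n : ℕ} [NeZero n]

noncomputable instance : Fintype (Gm n) := Fintype.ofFinite _

theorem conj_gal (σ : Gm n) (x : Cyc n) : ∀ y : Cyc n, (y : ℂ) = conj (x : ℂ) →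
    (σ y : ℂ) = conj (σ x : ℂ) := by
  obtain ⟨m, -, hm⟩ := gal_actsAs n σ
  -- two ring homs from `Cyc n` to `ℂ`
  have hcl : ∀ x : Cyc n, conj (x : ℂ) ∈ Cyc n := by
    intro x
    have hx : (x : ℂ) ∈ IntermediateField.adjoin ℚ {zet n} := x.2
    refine IntermediateField.adjoin_induction ℚ
      (p := fun z _ => conj z ∈ Cyc n) ?_ ?_ ?_ ?_ ?_ hx
    · intro z hz
      rw [Set.mem_singleton_iff.1 hz]
      refine root_mem (n := n) ?_
      rw [← map_pow, (zet_prim n).pow_eq_one, map_one]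
    · intro q
      have : conj ((algebraMap ℚ ℂ) q) = (algebraMap ℚ ℂ) q := by simp
      rw [this]
      exact algebraMap_mem _ q
    · intro a b _ _ ha hb
      rw [map_add]; exact add_mem ha hb
    · intro a _ ha
      rw [map_inv₀]; exact inv_mem ha
    · intro a b _ _ ha hb
      rw [map_mul]; exact mul_mem ha hb
  let c : Cyc n →+* Cyc n := RingHom.mk' (⟨⟨fun x => ⟨conj (x : ℂ), hcl x⟩,
    Subtype.ext (by simp)⟩, fun a b => Subtype.ext (by simp)⟩)
    (fun a b => Subtype.ext (by simp))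
  have hc : ∀ x : Cyc n, (c x : ℂ) = conj (x : ℂ) := fun x => rfl
  have hx : (x : ℂ) ∈ IntermediateField.adjoin ℚ {zet n} := x.2
  have key : ∀ z : ℂ, ∀ hz : z ∈ Cyc n, (σ (c ⟨z, hz⟩) : ℂ) = conj (σ ⟨z, hz⟩ : ℂ) := by
    intro z hz
    refine IntermediateField.adjoin_induction ℚ
      (p := fun z hz => (σ (c ⟨z, hz⟩) : ℂ) = conj (σ ⟨z, hz⟩ : ℂ)) ?_ ?_ ?_ ?_ ?_ hz
    · intro z hz
      have hzn : z ^ n = 1 := by
        rw [Set.mem_singleton_iff.1 hz]; exact (zet_prim n).pow_eq_one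
      rw [hm _ (by rw [hc]; show (conj z) ^ n = 1; rw [← map_pow, hzn, map_one]), hm _ (by exact hzn),
        hc, map_pow]
    · intro q
      have e1 : (⟨(algebraMap ℚ ℂ) q, algebraMap_mem _ q⟩ : Cyc n) = algebraMap ℚ (Cyc n) q := rfl
      have e2 : c (algebraMap ℚ (Cyc n) q) = algebraMap ℚ (Cyc n) q := by
        apply Subtype.ext
        rw [hc]
        show conj ((algebraMap ℚ ℂ) q) = (algebraMap ℚ ℂ) q
        simp
      rw [e1, e2, AlgEquiv.commutes]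
      show (algebraMap ℚ ℂ) q = conj ((algebraMap ℚ ℂ) q)
      simp
    · intro a b ha hb h1 h2
      have e : (⟨a + b, add_mem ha hb⟩ : Cyc n) = ⟨a, ha⟩ + ⟨b, hb⟩ := rfl
      rw [e, map_add, map_add, map_add]
      push_cast
      rw [h1, h2, map_add]
    · intro a ha h1
      have e : (⟨a⁻¹, inv_mem ha⟩ : Cyc n) = (⟨a, ha⟩ : Cyc n)⁻¹ := rfl
      rw [e, map_inv₀, map_inv₀, map_inv₀]
      push_cast
      rw [h1, map_inv₀]
    · intro a b ha hb h1 h2
      have e : (⟨a * b, mul_mem ha hb⟩ : Cyc n) = ⟨a, ha⟩ * ⟨b, hb⟩ := rfl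
      rw [e, map_mul, map_mul, map_mul]
      push_cast
      rw [h1, h2, map_mul]
  intro y hy
  have : y = c x := Subtype.ext (by rw [hy, hc])
  rw [this]
  exact key x x.2

theorem norm_avg {x : Cyc n} (h0 : x ≠ 0) (hint : IsIntegral ℤ (x : ℂ)) :
    (Fintype.card (Gm n) : ℝ) ≤ ∑ σ : Gm n, ‖(σ x : ℂ)‖ ^ 2 := by
  refine (Cfsg.Agent.H3.GalProd.card_le_sum_sq (fun σ : Gm n => σ x)
    (fun σ => gal_isIntegral σ x hint) (fun σ h => h0 (by simpa using h)) ?_).1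
  intro τ
  exact ⟨Equiv.mulLeft τ, fun σ => rfl⟩

/-- the Galois average -/
noncomputable def av (x : Cyc n) : ℂ := (Fintype.card (Gm n) : ℂ)⁻¹ * ∑ σ : Gm n, (σ x : ℂ)

theorem card_ne : (Fintype.card (Gm n) : ℂ) ≠ 0 := by
  exact_mod_cast Fintype.card_ne_zero

theorem av_add (x y : Cyc n) : av (x + y) = av x + av y := by
  unfold av
  rw [← mul_add, ← Finset.sum_add_distrib]
  congr 1
  refine Finset.sum_congr rfl fun σ _ => ?_
  rw [map_add]; push_cast; rfl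

theorem av_sum {ι : Type*} (s : Finset ι) (f : ι → Cyc n) : av (∑ i ∈ s, f i) = ∑ i ∈ s, av (f i) := by
  unfold av
  rw [← Finset.mul_sum, Finset.sum_comm]
  congr 1
  refine Finset.sum_congr rfl fun σ _ => ?_
  rw [map_sum]; push_cast; rfl

theorem av_int_mul (k : ℤ) (x : Cyc n) : av ((k : Cyc n) * x) = (k : ℂ) * av x := by
  unfold av
  have h : ∀ σ : Gm n, ((σ ((k : Cyc n) * x) : Cyc n) : ℂ) = (k : ℂ) * ((σ x : Cyc n) : ℂ) := by
    intro σ
    rw [map_mul, map_intCast]; push_cast; rfl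
  rw [Finset.sum_congr rfl fun σ _ => h σ, ← Finset.mul_sum]
  ring

theorem av_nat (k : ℕ) : av (k : Cyc n) = (k : ℂ) := by
  unfold av
  have : ∀ σ : Gm n, ((σ (k : Cyc n) : Cyc n) : ℂ) = (k : ℂ) := by
    intro σ; rw [map_natCast]; rfl
  rw [Finset.sum_congr rfl fun σ _ => this σ, Finset.sum_const, Finset.card_univ, nsmul_eq_mul,
    ← mul_assoc, inv_mul_cancel₀ card_ne, one_mul]

theorem av_gal (τ : Gm n) (x : Cyc n) : av (τ x) = av x := by
  unfold av
  have h : ∑ σ : Gm n, ((σ (τ x) : Cyc n) : ℂ) = ∑ σ : Gm n, ((σ x : Cyc n) : ℂ) :=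
    Equiv.sum_comp (Equiv.mulRight τ) (fun σ : Gm n => ((σ x : Cyc n) : ℂ))
  rw [h]

theorem av_conj {x y : Cyc n} (h : (y : ℂ) = conj (x : ℂ)) : av y = conj (av x) := by
  unfold av
  rw [map_mul, map_inv₀, Complex.conj_natCast, map_sum]
  congr 1
  exact Finset.sum_congr rfl fun σ _ => conj_gal σ x y h

end

/-- A Hermitian quasi-idempotent matrix over the algebraic integers of a cyclotomic field. -/
structure Herm {n : ℕ} [NeZero n] {I : Type*} [Fintype I] (N : I → I → Cyc n) (q : ℕ) : Prop where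
  int : ∀ i j, IsIntegral ℤ (N i j : ℂ)
  herm : ∀ i j, (N j i : ℂ) = conj (N i j : ℂ)
  mul : ∀ i k, ∑ j, N i j * N j k = (q : Cyc n) * N i k

namespace Herm

variable {n : ℕ} [NeZero n] {I : Type*} [Fintype I] {N : I → I → Cyc n} {q : ℕ}

/-- the real part of the average of a diagonal entry -/
noncomputable def T {n : ℕ} [NeZero n] {I : Type*} (N : I → I → Cyc n) (i : I) : ℝ := (av (N i i)).re

theorem row (h : Herm N q) (σ : Gm n) (i : I) :
    (∑ j, ‖(σ (N i j) : ℂ)‖ ^ 2 : ℝ) = q * (σ (N i i) : ℂ).re := by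
  have h1 := congrArg (fun x : Cyc n => ((σ x : Cyc n) : ℂ)) (h.mul i i)
  simp only [map_sum, map_mul, map_natCast] at h1
  push_cast at h1
  have h2 : ∀ j, ((σ (N i j) : Cyc n) : ℂ) * ((σ (N j i) : Cyc n) : ℂ) =
      ((‖(σ (N i j) : ℂ)‖ ^ 2 : ℝ) : ℂ) := by
    intro j
    rw [conj_gal σ (N i j) (N j i) (h.herm i j), Complex.mul_conj, Complex.normSq_eq_norm_sq]
  rw [Finset.sum_congr rfl fun j _ => h2 j, ← Complex.ofReal_sum] at h1
  have h3 := congrArg Complex.re h1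
  rw [Complex.ofReal_re, Complex.mul_re, Complex.natCast_re, Complex.natCast_im, zero_mul,
    sub_zero] at h3
  exact h3

theorem row_av (h : Herm N q) (i : I) :
    (∑ j, ∑ σ : Gm n, ‖(σ (N i j) : ℂ)‖ ^ 2 : ℝ) = q * (Fintype.card (Gm n) * T N i) := by
  rw [Finset.sum_comm, Finset.sum_congr rfl fun σ _ => h.row σ i, ← Finset.mul_sum]
  congr 1
  unfold T av
  have hc : (Fintype.card (Gm n) : ℝ) ≠ 0 := by exact_mod_cast Fintype.card_ne_zero
  have : ((Fintype.card (Gm n) : ℂ)⁻¹ * ∑ σ : Gm n, (σ (N i i) : ℂ)).re =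
      (Fintype.card (Gm n) : ℝ)⁻¹ * ∑ σ : Gm n, (σ (N i i) : ℂ).re := by
    have h1 : (Fintype.card (Gm n) : ℂ)⁻¹ = (((Fintype.card (Gm n) : ℝ)⁻¹ : ℝ) : ℂ) := by
      push_cast; rfl
    rw [h1, Complex.re_ofReal_mul, Complex.re_sum]
  rw [this, ← mul_assoc, mul_inv_cancel₀ hc, one_mul]

/-- weighted count: if `N i j` is `w j` times a nonzero algebraic integer for `j ∈ s` then
`Σ w_j² ≤ q T_i`. -/
theorem weight_le (h : Herm N q) (i : I) (s : Finset I) (w : I → ℕ)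
    (hw : ∀ j ∈ s, N i j ≠ 0 ∧ w j ≠ 0 ∧ IsIntegral ℤ ((N i j : ℂ) / (w j : ℂ))) :
    (∑ j ∈ s, (w j : ℝ) ^ 2) ≤ q * T N i := by
  have hc : (0 : ℝ) < Fintype.card (Gm n) := by exact_mod_cast Fintype.card_pos
  have h1 : ∀ j ∈ s, (w j : ℝ) ^ 2 * (Fintype.card (Gm n) : ℝ) ≤
      ∑ σ : Gm n, ‖(σ (N i j) : ℂ)‖ ^ 2 := by
    intro j hj
    obtain ⟨h2, h3, h4⟩ := hw j hj
    have hwc : (w j : Cyc n) ≠ 0 := by exact_mod_cast h3
    have hwc' : (w j : ℂ) ≠ 0 := by exact_mod_cast h3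
    have h5 := norm_avg (n := n) (x := N i j / (w j : Cyc n)) (div_ne_zero h2 hwc)
      (by push_cast; exact h4)
    have h6 : ∀ σ : Gm n, ‖(σ (N i j / (w j : Cyc n)) : ℂ)‖ ^ 2 =
        ((w j : ℝ) ^ 2)⁻¹ * ‖(σ (N i j) : ℂ)‖ ^ 2 := by
      intro σ
      rw [map_div₀, map_natCast]
      push_cast
      rw [norm_div, Complex.norm_natCast, div_pow]
      ring
    rw [Finset.sum_congr rfl fun σ _ => h6 σ, ← Finset.mul_sum] at h5
    have hwr : (0 : ℝ) < (w j : ℝ) ^ 2 := by positivity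
    rw [inv_mul_eq_div, le_div_iff₀ hwr] at h5
    linarith
  have h2 : (∑ j ∈ s, (w j : ℝ) ^ 2) * (Fintype.card (Gm n) : ℝ) ≤
      q * (Fintype.card (Gm n) * T N i) := by
    rw [Finset.sum_mul, ← h.row_av i]
    refine (Finset.sum_le_sum h1).trans ?_
    exact Finset.sum_le_sum_of_subset_of_nonneg (Finset.subset_univ _)
      (fun j _ _ => Finset.sum_nonneg fun σ _ => by positivity)
  have h3 : q * (Fintype.card (Gm n) * T N i) = q * T N i * (Fintype.card (Gm n) : ℝ) := by ring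
  rw [h3] at h2
  exact le_of_mul_le_mul_right h2 hc

theorem count_le (h : Herm N q) (i : I) (s : Finset I) (hs : ∀ j ∈ s, N i j ≠ 0) :
    (s.card : ℝ) ≤ q * T N i := by
  have := h.weight_le i s (fun _ => 1) (fun j hj => ⟨hs j hj, one_ne_zero, by
    rw [Nat.cast_one, div_one]; exact h.int i j⟩)
  simpa using this

/-- total count -/
theorem pairs_le (h : Herm N q) (s : Finset I) (hs : ∀ i ∈ s, ∀ j ∈ s, N i j ≠ 0) :
    (s.card : ℝ) ^ 2 ≤ q * ∑ i ∈ s, T N i := by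
  rw [sq, Finset.mul_sum]
  have : (s.card : ℝ) * (s.card : ℝ) = ∑ i ∈ s, (s.card : ℝ) := by
    rw [Finset.sum_const, nsmul_eq_mul]
  rw [this]
  exact Finset.sum_le_sum fun i hi => h.count_le i s (hs i hi)

theorem T_nonneg (h : Herm N q) (hq : 0 < q) (i : I) : 0 ≤ T N i := by
  have h1 := h.count_le i ∅ (fun j hj => absurd hj (Finset.notMem_empty j))
  rw [Finset.card_empty, Nat.cast_zero] at h1
  have : (0 : ℝ) < q := by exact_mod_cast hq
  exact nonneg_of_mul_nonneg_right h1 this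

theorem T_sum {l : ℕ} (hl : ∑ i, N i i = (l : Cyc n)) : ∑ i, T N i = l := by
  unfold T
  rw [← Complex.re_sum, ← av_sum, hl, av_nat, Complex.natCast_re]

/-- AM-GM for the diagonal -/
theorem one_le_T (h : Herm N q) (hq : 0 < q) (i : I) (hi : N i i ≠ 0) : 1 ≤ T N i := by
  have hc : (0 : ℝ) < Fintype.card (Gm n) := by exact_mod_cast Fintype.card_pos
  have hq' : (0 : ℝ) < q := by exact_mod_cast hq
  -- all conjugates are positive reals
  have hre : ∀ σ : Gm n, (σ (N i i) : ℂ) = (((σ (N i i) : ℂ).re : ℝ) : ℂ) := by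
    intro σ
    have := conj_gal σ (N i i) (N i i) (h.herm i i)
    exact ((Complex.conj_eq_iff_re).1 this.symm).symm
  have hnn : ∀ σ : Gm n, 0 ≤ (σ (N i i) : ℂ).re := by
    intro σ
    have h1 := h.row σ i
    have h2 : (0 : ℝ) ≤ q * (σ (N i i) : ℂ).re := by
      rw [← h1]; exact Finset.sum_nonneg fun j _ => by positivity
    exact nonneg_of_mul_nonneg_right h2 hq'
  have hpos : ∀ σ : Gm n, 0 < (σ (N i i) : ℂ).re := by
    intro σ
    refine lt_of_le_of_ne (hnn σ) ?_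
    intro h0
    apply hi
    have h1 : (σ (N i i) : ℂ) = 0 := by rw [hre σ, ← h0]; simp
    have h2 : σ (N i i) = 0 := Subtype.ext h1
    simpa using h2
  obtain ⟨r, hr⟩ := rat_of_fixed (∏ σ : Gm n, σ (N i i)) (fun τ => by
    rw [map_prod]
    exact Equiv.prod_comp (Equiv.mulLeft τ) (fun σ : Gm n => σ (N i i)))
  have hr' : (∏ σ : Gm n, (σ (N i i) : ℂ)) = r := by rw [← hr]; push_cast; rfl
  have hri : IsIntegral ℤ (r : ℂ) := by
    rw [← hr']; exact IsIntegral.prod _ fun σ _ => gal_isIntegral σ _ (h.int i i)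
  obtain ⟨z, hz⟩ := Cfsg.Agent.H3.CharInt.exists_int_of_isIntegral hri
  have hprod : (∏ σ : Gm n, (σ (N i i) : ℂ).re) = (z : ℝ) := by
    have h1 : ((∏ σ : Gm n, (σ (N i i) : ℂ).re : ℝ) : ℂ) = ((z : ℝ) : ℂ) := by
      rw [Complex.ofReal_prod, ← Finset.prod_congr rfl fun σ _ => hre σ, hr', hz]
      push_cast; rfl
    exact_mod_cast h1
  have hz1 : (1 : ℝ) ≤ ∏ σ : Gm n, (σ (N i i) : ℂ).re := by
    have : (0 : ℝ) < ∏ σ : Gm n, (σ (N i i) : ℂ).re := Finset.prod_pos fun σ _ => hpos σ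
    rw [hprod] at this ⊢
    exact_mod_cast this
  have hlog : 0 ≤ ∑ σ : Gm n, Real.log ((σ (N i i) : ℂ).re) := by
    rw [← Real.log_prod (fun σ _ => (hpos σ).ne')]
    exact Real.log_nonneg hz1
  have hterm : ∑ σ : Gm n, Real.log ((σ (N i i) : ℂ).re) ≤
      ∑ σ : Gm n, ((σ (N i i) : ℂ).re - 1) :=
    Finset.sum_le_sum fun σ _ => Real.log_le_sub_one_of_pos (hpos σ)
  rw [Finset.sum_sub_distrib, Finset.sum_const, Finset.card_univ, nsmul_eq_mul, mul_one] at hterm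
  have h1 : T N i = (Fintype.card (Gm n) : ℝ)⁻¹ * ∑ σ : Gm n, (σ (N i i) : ℂ).re := by
    unfold T av
    have h1 : (Fintype.card (Gm n) : ℂ)⁻¹ = (((Fintype.card (Gm n) : ℝ)⁻¹ : ℝ) : ℂ) := by
      push_cast; rfl
    rw [h1, Complex.re_ofReal_mul, Complex.re_sum]
  rw [h1, inv_mul_eq_div, le_div_iff₀ hc]
  linarith

end Herm

end Cfsg.Agent.H25.Avg
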