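import Mathlib

set_option autoImplicit false

namespace Cfsg.Agent.H25.CVL2

variable {G : Type*} [Group G] [Finite G] {p : ℕ} [hp : Fact p.Prime]

theorem step (C : Subgroup G) [hC : C.Normal] (P : Subgroup G) (hP : IsPGroup p P) (g : G)
    (hg : g ∈ Subgroup.normalizer (P : Set G)) (hgp : (orderOf g).Coprime p) {a : G} (ha : a ∈ P)
    (h : (a * g * a⁻¹ * g⁻¹) * g * (a * g * a⁻¹ * g⁻¹)⁻¹ * g⁻¹ ∈ C) : a * g * a⁻¹ * g⁻¹ ∈ C := by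
  have hcP : a * g * a⁻¹ * g⁻¹ ∈ P := by
    have h1 : g * a⁻¹ * g⁻¹ ∈ P := (Subgroup.mem_normalizer_iff.1 hg a⁻¹).1 (P.inv_mem ha)
    have h2 : a * g * a⁻¹ * g⁻¹ = a * (g * a⁻¹ * g⁻¹) := by group
    rw [h2]; exact P.mul_mem ha h1
  obtain ⟨c, hc⟩ : ∃ c : G, c = a * g * a⁻¹ * g⁻¹ := ⟨_, rfl⟩
  rw [← hc] at h hcP ⊢
  have q1 : (c : G ⧸ C) * (g : G ⧸ C) = (g : G ⧸ C) * (c : G ⧸ C) := by
    have h1 : ((c * g * c⁻¹ * g⁻¹ : G) : G ⧸ C) = 1 := (QuotientGroup.eq_one_iff _).2 h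
    rw [QuotientGroup.mk_mul, QuotientGroup.mk_mul, QuotientGroup.mk_mul, QuotientGroup.mk_inv, QuotientGroup.mk_inv] at h1
    have h2 := mul_inv_eq_one.1 h1
    exact mul_inv_eq_iff_eq_mul.1 h2
  have q2 : (g : G ⧸ C) * (a : G ⧸ C) * (g : G ⧸ C)⁻¹ = (c : G ⧸ C)⁻¹ * (a : G ⧸ C) := by
    rw [← QuotientGroup.mk_inv, ← QuotientGroup.mk_inv, ← QuotientGroup.mk_mul, ← QuotientGroup.mk_mul, ← QuotientGroup.mk_mul, hc]
    congr 1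
    group
  have q3 : ∀ m : ℕ, (g : G ⧸ C) ^ m * (a : G ⧸ C) * ((g : G ⧸ C) ^ m)⁻¹ = ((c : G ⧸ C)⁻¹) ^ m * (a : G ⧸ C) := by
    have hcg : Commute (c : G ⧸ C)⁻¹ (g : G ⧸ C) := (show Commute (c : G ⧸ C) (g : G ⧸ C) from q1).inv_left
    intro m
    induction m with
    | zero => simp
    | succ m ih =>
      have e1 : (g : G ⧸ C) ^ (m + 1) * (a : G ⧸ C) * ((g : G ⧸ C) ^ (m + 1))⁻¹ =
          (g : G ⧸ C) * ((g : G ⧸ C) ^ m * (a : G ⧸ C) * ((g : G ⧸ C) ^ m)⁻¹) * (g : G ⧸ C)⁻¹ := by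
        rw [pow_succ']; group
      rw [e1, ih]
      have e2 : (g : G ⧸ C) * (((c : G ⧸ C)⁻¹) ^ m * (a : G ⧸ C)) * (g : G ⧸ C)⁻¹ =
          ((c : G ⧸ C)⁻¹) ^ m * ((g : G ⧸ C) * (a : G ⧸ C) * (g : G ⧸ C)⁻¹) := by
        rw [← mul_assoc, ← ((hcg.pow_left m).eq)]
        simp only [mul_assoc]
      rw [e2, q2, pow_succ, mul_assoc]
  have q4 := q3 (orderOf g)
  have h5 : (g : G ⧸ C) ^ (orderOf g) = 1 := by
    rw [← QuotientGroup.mk_pow, pow_orderOf_eq_one]; rfl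
  rw [h5, one_mul, inv_one, mul_one] at q4
  have q5 : ((c : G ⧸ C)⁻¹) ^ (orderOf g) = 1 := by
    have : (1 : G ⧸ C) * (a : G ⧸ C) = ((c : G ⧸ C)⁻¹) ^ (orderOf g) * (a : G ⧸ C) := by rw [one_mul]; exact q4
    exact (mul_right_cancel this).symm
  rw [inv_pow, inv_eq_one] at q5
  obtain ⟨k, hk⟩ := (IsPGroup.iff_orderOf.1 hP) ⟨c, hcP⟩
  rw [Subgroup.orderOf_mk] at hk
  have q6 : (c : G ⧸ C) ^ (p ^ k) = 1 := by
    rw [← QuotientGroup.mk_pow, ← hk, pow_orderOf_eq_one]; rfl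
  have h6 : orderOf (c : G ⧸ C) ∣ 1 := by
    have h7 : (orderOf g).Coprime (p ^ k) := hgp.pow_right k
    rw [← Nat.Coprime.gcd_eq_one h7]
    exact Nat.dvd_gcd (orderOf_dvd_of_pow_eq_one q5) (orderOf_dvd_of_pow_eq_one q6)
  have h8 : (c : G ⧸ C) = 1 := orderOf_eq_one_iff.1 (Nat.dvd_one.1 h6)
  exact (QuotientGroup.eq_one_iff c).1 h8

theorem L2 (C : Subgroup G) [hC : C.Normal] (P : Subgroup G) (hP : IsPGroup p P) (g : G)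
    (hg : g ∈ Subgroup.normalizer (P : Set G)) (hgp : (orderOf g).Coprime p) (v : G) (hv : v ∈ P) (k : ℕ)
    (hk : (fun a => a * g * a⁻¹ * g⁻¹)^[k] v ∈ C) : v * g * v⁻¹ * g⁻¹ ∈ C := by
  induction k generalizing v with
  | zero =>
    have h1 : v ∈ C := hk
    have h2 : v * g * v⁻¹ * g⁻¹ = v * (g * v⁻¹ * g⁻¹) := by group
    rw [h2]
    exact C.mul_mem h1 (hC.conj_mem _ (C.inv_mem h1) g)
  | succ k ih =>
    have hcP : v * g * v⁻¹ * g⁻¹ ∈ P := by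
      have h1 : g * v⁻¹ * g⁻¹ ∈ P := (Subgroup.mem_normalizer_iff.1 hg v⁻¹).1 (P.inv_mem hv)
      have h2 : v * g * v⁻¹ * g⁻¹ = v * (g * v⁻¹ * g⁻¹) := by group
      rw [h2]; exact P.mul_mem hv h1
    have h3 := ih (v * g * v⁻¹ * g⁻¹) hcP (by rw [Function.iterate_succ_apply] at hk; exact hk)
    exact step C P hP g hg hgp hv h3

end Cfsg.Agent.H25.CVL2
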