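import Mathlib
import Cfsg.Agent.H25_GlaubCore

/-!
# Clifford's theorem for an injective homomorphism with equivariant action
-/

set_option autoImplicit false
set_option linter.unusedSectionVars false

open scoped ComplexConjugate

namespace Cfsg.Agent.H25.Clifford

open Cfsg Cfsg.Agent.H10.BlockLoc Cfsg.Agent.H10.BlockAlg Cfsg.Agent.H10.BlockIdem
  Cfsg.Agent.H3.CharIrr Cfsg.Agent.H3.CharComplete Cfsg.Agent.H3.CharInd Cfsg.Agent.H25.Orbit
  Cfsg.Agent.H3.CharInt Cfsg.Agent.H25.GlaubCore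

variable {N G : Type*} [Group N] [Fintype N] [Group G] [Fintype G] [MulDistribMulAction G N]
  (j : N →* G)

theorem act_apply (g : G) (χ : IrrCharacter N) (n : N) :
    (((irrAct N G).toSMul.smul g χ : IrrCharacter N) : N → ℂ) n = (χ : N → ℂ) (g⁻¹ • n) := rfl

theorem act_one (g : G) (χ : IrrCharacter N) :
    (((irrAct N G).toSMul.smul g χ : IrrCharacter N) : N → ℂ) 1 = (χ : N → ℂ) 1 := by
  rw [act_apply, smul_one]

variable {j}

/-- multiplicities are invariant under conjugation -/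
theorem mlt_act (hact : ∀ (g : G) (n : N), j (g • n) = g * j n * g⁻¹) (χ : IrrCharacter G)
    (θ : IrrCharacter N) (g : G) : mlt j χ ((irrAct N G).toSMul.smul g θ) = mlt j χ θ := by
  apply mlt_eq
  rw [← mlt_spec, classInner, classInner]
  congr 1
  rw [← Equiv.sum_comp (MulAction.toPerm g : Equiv.Perm N)]
  refine Finset.sum_congr rfl fun n _ => ?_
  rw [MulAction.toPerm_apply, act_apply, inv_smul_smul, hact, IsIrr.isClass χ.2]

/-- Orthogonality of convolution. -/
theorem conv_zero {θ ψ : IrrCharacter N} (hne : θ ≠ ψ) (m : N) :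
    ∑ n : N, (θ : N → ℂ) n * (ψ : N → ℂ) (n⁻¹ * m) = 0 := by
  have h := lin_irr_schur ψ.2 (fun n => (θ : N → ℂ) n⁻¹) (by
    intro g x
    have := IsIrr.isClass θ.2 g⁻¹ x
    simp only [mul_inv_rev, inv_inv]
    rw [← this]; group) m
  have h2 : ∑ x : N, (θ : N → ℂ) x⁻¹ * (ψ : N → ℂ) x = 0 := by
    have h3 := ci_irr_ne ψ.2 θ.2 (fun h => hne (Subtype.ext h.symm))
    rw [classInner] at h3
    have h0 : (Nat.card N : ℂ)⁻¹ ≠ 0 := inv_ne_zero (by exact_mod_cast Nat.card_pos.ne')
    have h4 := (mul_eq_zero.mp h3).resolve_left h0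
    rw [← h4]
    refine Finset.sum_congr rfl fun x _ => ?_
    rw [IsChar.inv_eq_conj (IsIrr.isCharacter θ.2)]
    ring
  rw [h2, zero_div, zero_mul] at h
  rw [← h, ← Equiv.sum_comp (Equiv.inv N)]
  refine Finset.sum_congr rfl fun x _ => ?_
  simp

/-- Clifford's theorem: the constituents of the restriction to a normal subgroup are conjugate. -/
theorem clifford (hj : Function.Injective j) (hact : ∀ (g : G) (n : N), j (g • n) = g * j n * g⁻¹)
    {χ : IrrCharacter G} {θ ψ : IrrCharacter N} (hθ : mlt j χ θ ≠ 0) (hψ : mlt j χ ψ ≠ 0) :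
    ∃ g : G, (irrAct N G).toSMul.smul g θ = ψ := by
  classical
  let _ := irrAct N G
  have : Fintype (IrrCharacter N) := Fintype.ofFinite _
  by_contra hcon
  let O : Finset (IrrCharacter N) := Finset.univ.filter fun η => ∃ g : G, g • θ = η
  have hψO : ∀ η ∈ O, η ≠ ψ := by
    intro η hη h
    obtain ⟨g, hg⟩ := (Finset.mem_filter.mp hη).2
    exact hcon ⟨g, hg.trans h⟩
  let φ : N → ℂ := fun n => ∑ η ∈ O, (η : N → ℂ) 1 * conj ((η : N → ℂ) n)
  have hφ : ∀ (g : G) (n : N), φ (g • n) = φ n := by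
    intro g n
    simp only [φ]
    symm
    refine Finset.sum_bij (fun η _ => g • η) ?_ ?_ ?_ ?_
    · intro η hη
      obtain ⟨x, hx⟩ := (Finset.mem_filter.mp hη).2
      refine Finset.mem_filter.mpr ⟨Finset.mem_univ _, g * x, ?_⟩
      rw [mul_smul, hx]
    · intro a _ b _ hab
      exact smul_left_cancel g hab
    · intro η hη
      obtain ⟨x, hx⟩ := (Finset.mem_filter.mp hη).2
      refine ⟨g⁻¹ • η, Finset.mem_filter.mpr ⟨Finset.mem_univ _, g⁻¹ * x, ?_⟩, ?_⟩
      · rw [mul_smul, hx]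
      · rw [smul_inv_smul]
    · intro η _
      have e1 : ((g • η : IrrCharacter N) : N → ℂ) 1 = (η : N → ℂ) 1 := act_one g η
      have e2 : ((g • η : IrrCharacter N) : N → ℂ) (g • n) = (η : N → ℂ) n := by
        have : ((g • η : IrrCharacter N) : N → ℂ) (g • n) = (η : N → ℂ) (g⁻¹ • g • n) := act_apply g η _
        rw [this, inv_smul_smul]
      rw [e1, e2]
  let φ' : G → ℂ := Function.extend j φ 0
  have hφ' : ∀ n, φ' (j n) = φ n := fun n => hj.extend_apply φ 0 n
  have hφ0 : ∀ x, (¬ ∃ n, j n = x) → φ' x = 0 := fun x hx => Function.extend_apply' _ _ _ hx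
  have hcl : IsClassFunction G φ' := by
    intro x g
    by_cases hx : ∃ n, j n = x
    · obtain ⟨n, rfl⟩ := hx
      rw [← hact, hφ', hφ', hφ]
    · rw [hφ0 x hx, hφ0]
      rintro ⟨n, hn⟩
      apply hx
      refine ⟨g⁻¹ • n, ?_⟩
      rw [hact, hn]; group
  have hsum : ∀ F : G → ℂ, ∑ x, φ' x * F x = ∑ n, φ n * F (j n) := by
    intro F
    rw [← Finset.sum_image (s := Finset.univ) (g := j) (f := fun x => φ' x * F x)
      (fun a _ b _ hab => hj hab) |>.trans (Finset.sum_congr rfl fun n _ => by rw [hφ'])]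
    symm
    apply Finset.sum_subset (Finset.subset_univ _)
    intro x _ hx
    rw [hφ0, zero_mul]
    rintro ⟨n, rfl⟩
    exact hx (Finset.mem_image_of_mem _ (Finset.mem_univ _))
  have hN0 : (Nat.card N : ℂ) ≠ 0 := by exact_mod_cast Nat.card_pos.ne'
  -- the scalar
  have hω : ∑ n, φ n * (χ : G → ℂ) (j n) = (Nat.card N : ℂ) * ∑ η ∈ O, (η : N → ℂ) 1 * mlt j χ η := by
    simp only [φ, Finset.sum_mul]
    rw [Finset.sum_comm, Finset.mul_sum]
    refine Finset.sum_congr rfl fun η _ => ?_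
    rw [← mlt_spec, classInner]
    rw [mul_left_comm, mul_inv_cancel_left₀ hN0, Finset.mul_sum]
    refine Finset.sum_congr rfl fun n _ => ?_
    ring
  have hω0 : ∑ n, φ n * (χ : G → ℂ) (j n) ≠ 0 := by
    rw [hω]
    apply mul_ne_zero hN0
    have h1 : ∀ η : IrrCharacter N, ∃ n : ℕ, 0 < n ∧ (η : N → ℂ) 1 = n := fun η => IsIrr.one_eq_nat η.2
    choose d hd0 hd using h1
    have h2 : ∑ η ∈ O, (η : N → ℂ) 1 * mlt j χ η = ((∑ η ∈ O, d η * mlt j χ η : ℕ) : ℂ) := by
      push_cast
      exact Finset.sum_congr rfl fun η _ => by rw [hd]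
    rw [h2]
    have h3 : 0 < ∑ η ∈ O, d η * mlt j χ η := by
      apply Finset.sum_pos' (fun _ _ => Nat.zero_le _)
      refine ⟨θ, Finset.mem_filter.mpr ⟨Finset.mem_univ _, 1, one_smul _ _⟩, ?_⟩
      exact Nat.mul_pos (hd0 θ) (Nat.pos_of_ne_zero hθ)
    exact_mod_cast h3.ne'
  have hschur : ∀ m : N, ∑ n, φ n * (χ : G → ℂ) (j n * j m) =
      (∑ n, φ n * (χ : G → ℂ) (j n)) / (χ : G → ℂ) 1 * (χ : G → ℂ) (j m) := by
    intro m
    have h := lin_irr_schur χ.2 φ' hcl (j m)
    rw [hsum (fun x => (χ : G → ℂ) (x * j m)), hsum] at h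
    exact h
  have hL : ∑ m : N, (∑ n, φ n * (χ : G → ℂ) (j n * j m)) * conj ((ψ : N → ℂ) m) = 0 := by
    have e1 : ∑ m : N, (∑ n, φ n * (χ : G → ℂ) (j n * j m)) * conj ((ψ : N → ℂ) m) =
        ∑ m : N, (χ : G → ℂ) (j m) * ∑ n, φ n * conj ((ψ : N → ℂ) (n⁻¹ * m)) := by
      simp only [Finset.sum_mul, Finset.mul_sum]
      rw [Finset.sum_comm]
      conv_rhs => rw [Finset.sum_comm]
      refine Finset.sum_congr rfl fun n _ => ?_
      rw [← Equiv.sum_comp (Equiv.mulLeft n⁻¹)]
      refine Finset.sum_congr rfl fun m _ => ?_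
      simp only [Equiv.coe_mulLeft, map_mul, map_inv, mul_inv_cancel_left]
      ring
    rw [e1]
    refine Finset.sum_eq_zero fun m _ => ?_
    have e2 : ∑ n, φ n * conj ((ψ : N → ℂ) (n⁻¹ * m)) = 0 := by
      simp only [φ, Finset.sum_mul]
      rw [Finset.sum_comm]
      refine Finset.sum_eq_zero fun η hη => ?_
      have h := conv_zero (hψO η hη) m
      have h' := congrArg conj h
      rw [map_sum, map_zero] at h'
      simp only [map_mul] at h'
      have : ∑ n : N, (η : N → ℂ) 1 * conj ((η : N → ℂ) n) * conj ((ψ : N → ℂ) (n⁻¹ * m)) =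
          (η : N → ℂ) 1 * ∑ n : N, conj ((η : N → ℂ) n) * conj ((ψ : N → ℂ) (n⁻¹ * m)) := by
        rw [Finset.mul_sum]
        exact Finset.sum_congr rfl fun n _ => by ring
      rw [this, h', mul_zero]
    rw [e2, mul_zero]
  simp only [hschur, mul_assoc] at hL
  rw [← Finset.mul_sum] at hL
  have hχ1 : (χ : G → ℂ) 1 ≠ 0 := IsIrr.one_ne_zero χ.2
  rcases mul_eq_zero.mp hL with h | h
  · rcases div_eq_zero_iff.mp h with h | h
    · exact hω0 h
    · exact hχ1 h
  · have h2 := mlt_spec j χ ψ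
    rw [classInner, h, mul_zero] at h2
    exact hψ (by exact_mod_cast h2.symm)

/-- The degree of `χ` in terms of the multiplicities of the restriction. -/
theorem deg_eq (j : N →* G) [Fintype (IrrCharacter N)] (χ : IrrCharacter G) :
    (χ : G → ℂ) 1 = ∑ η : IrrCharacter N, (mlt j χ η : ℂ) * (η : N → ℂ) 1 := by
  have h := expand_apply (fun n : N => (χ : G → ℂ) (j n)) (IsClass.comp (IsIrr.isClass χ.2) j) 1
  simp only [map_one] at h
  rw [h]
  exact Finset.sum_congr rfl fun η _ => by rw [mlt_spec]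

/-- The multiplicity of a constituent of the restriction to a normal subgroup divides the degree;
more precisely `χ(1) = e t θ(1)`. -/
theorem clifford_deg (hj : Function.Injective j) (hact : ∀ (g : G) (n : N), j (g • n) = g * j n * g⁻¹)
    {χ : IrrCharacter G} {θ : IrrCharacter N} (hθ : mlt j χ θ ≠ 0)
    [Fintype (IrrCharacter N)] [DecidablePred fun η : IrrCharacter N => ∃ g : G, (irrAct N G).toSMul.smul g θ = η] :
    (χ : G → ℂ) 1 = (mlt j χ θ : ℂ) *
      ((Finset.univ.filter fun η : IrrCharacter N => ∃ g : G, (irrAct N G).toSMul.smul g θ = η).card : ℂ) *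
      (θ : N → ℂ) 1 := by
  classical
  rw [deg_eq j χ, ← Finset.sum_filter_add_sum_filter_not Finset.univ
    (fun η : IrrCharacter N => ∃ g : G, (irrAct N G).toSMul.smul g θ = η)]
  have h1 : ∑ η ∈ Finset.univ.filter (fun η : IrrCharacter N => ¬ ∃ g : G, (irrAct N G).toSMul.smul g θ = η),
      (mlt j χ η : ℂ) * (η : N → ℂ) 1 = 0 := by
    refine Finset.sum_eq_zero fun η hη => ?_
    by_contra hne
    have h2 : mlt j χ η ≠ 0 := by
      intro h0; apply hne; rw [h0]; simp
    exact (Finset.mem_filter.mp hη).2 (clifford hj hact hθ h2)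
  rw [h1, add_zero]
  rw [Finset.sum_congr rfl (g := fun _ => (mlt j χ θ : ℂ) * (θ : N → ℂ) 1)]
  · rw [Finset.sum_const, nsmul_eq_mul]; ring
  · intro η hη
    obtain ⟨g, rfl⟩ := (Finset.mem_filter.mp hη).2
    rw [mlt_act hact, act_one]

theorem mlt_dvd (hj : Function.Injective j) (hact : ∀ (g : G) (n : N), j (g • n) = g * j n * g⁻¹)
    {χ : IrrCharacter G} {θ : IrrCharacter N} (hθ : mlt j χ θ ≠ 0) : mlt j χ θ ∣ Nat.card G := by
  classical
  have : Fintype (IrrCharacter N) := Fintype.ofFinite _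
  obtain ⟨n, -, hn, hdvd⟩ := IsIrr.dvd_card χ.2
  obtain ⟨k, -, hk⟩ := IsIrr.one_eq_nat θ.2
  have h := clifford_deg hj hact hθ
  rw [hn, hk] at h
  have h2 : n = mlt j χ θ *
      (Finset.univ.filter fun η : IrrCharacter N => ∃ g : G, (irrAct N G).toSMul.smul g θ = η).card * k := by
    exact_mod_cast h
  exact (Dvd.intro _ (by rw [← mul_assoc]; exact h2.symm)).trans hdvd


section change

variable {C D G N : Type*} [Group C] [Fintype C] [Group D] [Fintype D] [Group G] [Fintype G]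
  [Group N] [Fintype N]

theorem mlt_change (i : C →* G) (σ : C ≃ C) {χ χ' : IrrCharacter G} {β β' : IrrCharacter C}
    (h1 : ∀ c, (χ' : G → ℂ) (i (σ c)) = (χ : G → ℂ) (i c))
    (h2 : ∀ c, (β' : C → ℂ) (σ c) = (β : C → ℂ) c) : mlt i χ' β' = mlt i χ β := by
  apply mlt_eq
  rw [← mlt_spec, classInner, classInner]
  congr 1
  rw [← Equiv.sum_comp σ]
  exact Finset.sum_congr rfl fun c _ => by rw [h1, h2]

theorem ci_bij {k : D →* N} (hk : Function.Bijective k) (f g : N → ℂ) :
    classInner f g = classInner (fun d => f (k d)) (fun d => g (k d)) := by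
  rw [classInner, classInner, ← Equiv.sum_comp (Equiv.ofBijective k hk)]
  rw [Nat.card_congr (Equiv.ofBijective k hk)]
  rfl

theorem mlt_trans [Fintype (IrrCharacter N)] (k : D →* N) (j : N →* G) (χ : IrrCharacter G)
    (η : IrrCharacter D) : mlt (j.comp k) χ η = ∑ θ : IrrCharacter N, mlt j χ θ * mlt k θ η := by
  apply mlt_eq
  have h1 : (fun d : D => (χ : G → ℂ) ((j.comp k) d)) =
      ∑ θ : IrrCharacter N, (mlt j χ θ : ℂ) • (fun d : D => (θ : N → ℂ) (k d)) := by
    ext d
    have h := expand_apply (fun n : N => (χ : G → ℂ) (j n)) (IsClass.comp (IsIrr.isClass χ.2) j) (k d)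
    rw [MonoidHom.comp_apply, h, Finset.sum_apply]
    exact Finset.sum_congr rfl fun θ _ => by rw [mlt_spec]; rfl
  rw [h1, ci_sum_left]
  push_cast
  exact Finset.sum_congr rfl fun θ _ => by rw [ci_smul_left, mlt_spec]

/-- Every irreducible character of `D` lies under some irreducible character of `C`. -/
theorem exists_over {l : D →* C} (hl : Function.Injective l) (η : IrrCharacter D) :
    ∃ β : IrrCharacter C, mlt l β η ≠ 0 := by
  classical
  have : Fintype (IrrCharacter C) := Fintype.ofFinite _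
  by_contra hcon
  push Not at hcon
  have h1 : ∑ β : IrrCharacter C, (β : C → ℂ) 1 * (mlt l β η : ℂ) = 0 :=
    Finset.sum_eq_zero fun β _ => by rw [hcon β]; simp
  have h2 : ∑ β : IrrCharacter C, (β : C → ℂ) 1 * (mlt l β η : ℂ) =
      (Nat.card D : ℂ)⁻¹ * ((Nat.card C : ℂ) * conj ((η : D → ℂ) 1)) := by
    have e1 : ∀ β : IrrCharacter C, (β : C → ℂ) 1 * (mlt l β η : ℂ) =
        (Nat.card D : ℂ)⁻¹ * ∑ d : D, (β : C → ℂ) 1 * (β : C → ℂ) (l d) * conj ((η : D → ℂ) d) := by
      intro β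
      rw [← mlt_spec, classInner]
      simp only [Finset.mul_sum]
      exact Finset.sum_congr rfl fun d _ => by ring
    simp only [e1]
    rw [← Finset.mul_sum, Finset.sum_comm]
    congr 1
    rw [Finset.sum_eq_single 1]
    · rw [← Finset.sum_mul, map_one]
      congr 1
      have := sum_one_mul (G := C) 1
      rw [if_pos rfl] at this
      rw [← this]
    · intro d _ hd
      rw [← Finset.sum_mul]
      have h3 : l d ≠ 1 := fun h => hd (hl (h.trans (map_one l).symm))
      have := sum_one_mul (G := C) (l d)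
      rw [if_neg h3] at this
      rw [this, zero_mul]
    · intro h; exact absurd (Finset.mem_univ _) h
  rw [h1] at h2
  have hD0 : (Nat.card D : ℂ) ≠ 0 := by exact_mod_cast Nat.card_pos.ne'
  have hC0 : (Nat.card C : ℂ) ≠ 0 := by exact_mod_cast Nat.card_pos.ne'
  have hη : conj ((η : D → ℂ) 1) ≠ 0 := by
    rw [Ne, map_eq_zero]; exact IsIrr.one_ne_zero η.2
  exact (mul_ne_zero (inv_ne_zero hD0) (mul_ne_zero hC0 hη)) h2.symm

end change

section pstep

variable {C D G N P : Type*} [Group C] [Fintype C] [Group D] [Fintype D] [Group G] [Fintype G]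
  [Group N] [Fintype N] [Group P] [MulDistribMulAction P G] [MulDistribMulAction P N]

/-- The restriction to fixed points through an invariant normal subgroup, modulo `p`. -/
theorem mod_p_sum {p : ℕ} [Fact p.Prime] (hP : IsPGroup p P) {j : N →* G} {k : D →* N}
    (hj : ∀ (s : P) (n : N), j (s • n) = s • j n) (hk : ∀ (s : P) (d : D), s • k d = k d)
    (χ : IrrCharacter G) (hχ : Inv P (χ : G → ℂ)) (η : IrrCharacter D)
    (θ : IrrCharacter N) (hθ : Inv P (θ : N → ℂ))
    (huniq : ∀ θ' : IrrCharacter N, Inv P (θ' : N → ℂ) → ¬ p ∣ mlt k θ' η → θ' = θ) :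
    ((mlt (j.comp k) χ η : ℕ) : ℤ) ≡ ((mlt j χ θ * mlt k θ η : ℕ) : ℤ) [ZMOD p] := by
  classical
  let _ := irrAct N P
  have : Fintype (IrrCharacter N) := Fintype.ofFinite _
  obtain ⟨y, -, hy⟩ := sum_fixed (P := P) (X := IrrCharacter N) (A := ℤ) hP
    (fun θ' => ((mlt j χ θ' * mlt k θ' η : ℕ) : ℤ)) (fun s θ' => by
      have e1 : mlt j χ (s • θ') = mlt j χ θ' := by
        apply mlt_change j (MulAction.toPerm s : Equiv.Perm N)
        · intro c
          rw [MulAction.toPerm_apply, hj, hχ s]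
        · intro c
          rw [MulAction.toPerm_apply]
          show (θ' : N → ℂ) (s⁻¹ • s • c) = _
          rw [inv_smul_smul]
      have e2 : mlt k (s • θ') η = mlt k θ' η := by
        apply mlt_change k (Equiv.refl D)
        · intro c
          show (θ' : N → ℂ) (s⁻¹ • k c) = _
          rw [hk]
        · intro c; rfl
      show ((mlt j χ (s • θ') * mlt k (s • θ') η : ℕ) : ℤ) = _
      rw [e1, e2])
  rw [← Nat.cast_sum, ← mlt_trans] at hy
  have h2 : ((p : ℕ) : ℤ) ∣ ∑ x ∈ Finset.univ.filter (fun x : IrrCharacter N => ∀ g : P, g • x = x),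
      ((mlt j χ x * mlt k x η : ℕ) : ℤ) - ((mlt j χ θ * mlt k θ η : ℕ) : ℤ) := by
    have hmem : θ ∈ Finset.univ.filter (fun x : IrrCharacter N => ∀ g : P, g • x = x) :=
      Finset.mem_filter.mpr ⟨Finset.mem_univ _, (inv_iff θ).mp hθ⟩
    rw [← Finset.sum_erase_eq_sub hmem]
    refine Finset.dvd_sum fun x hx => ?_
    obtain ⟨hx1, hx2⟩ := Finset.mem_erase.mp hx
    have hx3 : Inv P (x : N → ℂ) := (inv_iff x).mpr (Finset.mem_filter.mp hx2).2
    by_contra hnd
    apply hx1
    apply huniq x hx3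
    intro hd
    apply hnd
    push_cast
    exact Dvd.dvd.mul_left (by exact_mod_cast hd) _
  have h3 : ((p : ℕ) : ℤ) ∣ (mlt (j.comp k) χ η : ℤ) -
      ∑ x ∈ Finset.univ.filter (fun x : IrrCharacter N => ∀ g : P, g • x = x),
      ((mlt j χ x * mlt k x η : ℕ) : ℤ) := by
    rw [hy]
    exact ⟨y, by simp⟩
  have h4 := dvd_add h3 h2
  rw [sub_add_sub_cancel] at h4
  exact (Int.modEq_iff_dvd.mpr h4).symm

end pstep

end Cfsg.Agent.H25.Clifford
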