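import Mathlib
import Cfsg.Agent.H25_Glaub
import Cfsg.Agent.H25_Clifford

/-!
# The Glauberman correspondence for solvable operator groups
-/

set_option autoImplicit false
set_option linter.unusedSectionVars false

open scoped ComplexConjugate

namespace Cfsg.Agent.H25.Glaub2

open Cfsg Cfsg.Agent.H3.CharIrr Cfsg.Agent.H3.CharComplete Cfsg.Agent.H3.CharInd
  Cfsg.Agent.H3.CharInt Cfsg.Agent.H25.GlaubCore Cfsg.Agent.H25.Glaub Cfsg.Agent.H25.Clifford

variable {Γ : Type*} [Group Γ]

/-- `A` normalizes `H`. -/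
def Nrm (A H : Subgroup Γ) : Prop := ∀ a ∈ A, ∀ h ∈ H, a * h * a⁻¹ ∈ H

/-- `χ'` is the conjugate of `χ` by `a`. -/
def Tw {H : Subgroup Γ} (a : Γ) (χ χ' : H → ℂ) : Prop :=
  ∀ g g' : H, (g' : Γ) = a * g * a⁻¹ → χ' g' = χ g

theorem Nrm.inf {A H K : Subgroup Γ} (h : Nrm A H) (h' : Nrm A K) : Nrm A (H ⊓ K) :=
  fun a ha x hx => ⟨h a ha x hx.1, h' a ha x hx.2⟩

theorem Nrm.centralizer {A H : Subgroup Γ} (h : Nrm A H) :
    Nrm A (Subgroup.centralizer (H : Set Γ)) := by
  intro a ha x hx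
  rw [Subgroup.mem_centralizer_iff] at hx ⊢
  intro y hy
  have h1 := h a⁻¹ (A.inv_mem ha) y hy
  have h2 := hx _ h1
  calc y * (a * x * a⁻¹) = a * (a⁻¹ * y * a⁻¹⁻¹ * x) * a⁻¹ := by group
    _ = a * (x * (a⁻¹ * y * a⁻¹⁻¹)) * a⁻¹ := by rw [h2]
    _ = a * x * a⁻¹ * y := by group

theorem Nrm.mono {A B H : Subgroup Γ} (h : Nrm A H) (hBA : B ≤ A) : Nrm B H :=
  fun a ha => h a (hBA ha)

theorem Nrm.self (H : Subgroup Γ) : Nrm H H := fun a ha x hx =>
  H.mul_mem (H.mul_mem ha hx) (H.inv_mem ha)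

/-- conjugation equivalence -/
def cjE {A H : Subgroup Γ} (hn : Nrm A H) {a : Γ} (ha : a ∈ A) : H ≃* H where
  toFun h := ⟨a * h * a⁻¹, hn a ha h h.2⟩
  invFun h := ⟨a⁻¹ * h * a, by
    have := hn a⁻¹ (A.inv_mem ha) h h.2
    rwa [inv_inv] at this⟩
  left_inv h := Subtype.ext (by simp [mul_assoc])
  right_inv h := Subtype.ext (by simp [mul_assoc])
  map_mul' h k := Subtype.ext (by push_cast; group)

theorem cjE_coe {A H : Subgroup Γ} (hn : Nrm A H) {a : Γ} (ha : a ∈ A) (h : H) :
    ((cjE hn ha h : H) : Γ) = a * h * a⁻¹ := rfl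

theorem tw_iff {A H : Subgroup Γ} (hn : Nrm A H) {a : Γ} (ha : a ∈ A) {χ χ' : H → ℂ} :
    Tw a χ χ' ↔ ∀ h, χ' (cjE hn ha h) = χ h := by
  constructor
  · intro h g; exact h g _ rfl
  · intro h g g' hg
    rw [← h g]; congr 1; exact Subtype.ext hg

theorem exists_tw {A H : Subgroup Γ} (hn : Nrm A H) {a : Γ} (ha : a ∈ A)
    (χ : IrrCharacter H) : ∃ χ' : IrrCharacter H, Tw a (χ : H → ℂ) (χ' : H → ℂ) := by
  refine ⟨⟨fun h => (χ : H → ℂ) ((cjE hn ha).symm h),
    IsIrr.comp χ.2 (cjE hn ha).symm.toMonoidHom (cjE hn ha).symm.surjective⟩, ?_⟩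
  rw [tw_iff hn ha]
  intro h
  show (χ : H → ℂ) ((cjE hn ha).symm (cjE hn ha h)) = _
  rw [MulEquiv.symm_apply_apply]

theorem tw_unique {A H : Subgroup Γ} (hn : Nrm A H) {a : Γ} (ha : a ∈ A) {χ : H → ℂ}
    {χ' χ'' : IrrCharacter H} (h1 : Tw a χ (χ' : H → ℂ)) (h2 : Tw a χ (χ'' : H → ℂ)) : χ' = χ'' := by
  rw [tw_iff hn ha] at h1 h2
  apply Subtype.ext
  ext h
  obtain ⟨g, rfl⟩ := (cjE hn ha).surjective h
  rw [h1, h2]

/-- invariance under a normalized subgroup is preserved by conjugation -/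
theorem tinv_tw {A H S : Subgroup Γ} (hn : Nrm A H) (hS : Nrm A S) (hSH : Nrm S H) {a : Γ} (ha : a ∈ A)
    {χ χ' : H → ℂ} (h : Tw a χ χ') (hi : TInv S χ) : TInv S χ' := by
  intro s hs g g' hg
  rw [tw_iff hn ha] at h
  obtain ⟨x, rfl⟩ := (cjE hn ha).surjective g
  obtain ⟨y, rfl⟩ := (cjE hn ha).surjective g'
  rw [h, h]
  have hs' : a⁻¹ * s * a⁻¹⁻¹ ∈ S := hS a⁻¹ (A.inv_mem ha) s hs
  apply hi _ hs'
  rw [cjE_coe, cjE_coe] at hg
  calc (y : Γ) = a⁻¹ * (a * y * a⁻¹) * a := by group
    _ = a⁻¹ * (s * (a * x * a⁻¹) * s⁻¹) * a := by rw [hg]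
    _ = _ := by group

theorem mlt_tw [Fintype Γ] {A C G : Subgroup Γ} [Fintype C] [Fintype G] (hAG : Nrm A G) (hAC : Nrm A C) (hCG : C ≤ G) {a : Γ}
    (ha : a ∈ A) {χ χ' : IrrCharacter G} {β β' : IrrCharacter C}
    (h1 : Tw a (χ : G → ℂ) (χ' : G → ℂ)) (h2 : Tw a (β : C → ℂ) (β' : C → ℂ)) :
    mlt (Subgroup.inclusion hCG) χ' β' = mlt (Subgroup.inclusion hCG) χ β := by
  apply mlt_change (Subgroup.inclusion hCG) (cjE hAC ha).toEquiv
  · intro c
    apply h1
    rfl
  · intro c
    apply h2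
    rfl

/-- The Glauberman correspondence for a `p`-group, with a normal subgroup and equivariance. -/
theorem jp [Fintype Γ] {A P G N C D : Subgroup Γ} [Fintype G] [Fintype N] [Fintype C] [Fintype D]
    (hPG : Nrm P G) (hPN : Nrm P N) (hAG : Nrm A G) (hAN : Nrm A N) (hAC : Nrm A C) (hAD : Nrm A D)
    {p : ℕ} (hp : p.Prime) (hP : IsPGroup p P) (hcop : (Nat.card G).Coprime (Nat.card P))
    (hNG : N ≤ G) (hGN : Nrm G N) (hC : C = G ⊓ Subgroup.centralizer (P : Set Γ))
    (hD : D = N ⊓ Subgroup.centralizer (P : Set Γ)) (hCG : C ≤ G) (hDN : D ≤ N) (hDC : D ≤ C)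
    (hinvG : ∀ a ∈ A, ∀ χ χ' : IrrCharacter G, Tw a (χ : G → ℂ) (χ' : G → ℂ) → TInv P (χ : G → ℂ) →
      TInv P (χ' : G → ℂ))
    (hinvN : ∀ a ∈ A, ∀ χ χ' : IrrCharacter N, Tw a (χ : N → ℂ) (χ' : N → ℂ) → TInv P (χ : N → ℂ) →
      TInv P (χ' : N → ℂ)) :
    ∃ (F : IrrCharacter C → IrrCharacter G) (F' : IrrCharacter D → IrrCharacter N),
      Function.Injective F ∧ (∀ χ, (∃ β, F β = χ) ↔ TInv P (χ : G → ℂ)) ∧
      (∀ a ∈ A, ∀ β β' : IrrCharacter C, Tw a (β : C → ℂ) (β' : C → ℂ) →
        Tw a (F β : G → ℂ) (F β' : G → ℂ)) ∧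
      Function.Injective F' ∧ (∀ χ, (∃ β, F' β = χ) ↔ TInv P (χ : N → ℂ)) ∧
      (∀ a ∈ A, ∀ β β' : IrrCharacter D, Tw a (β : D → ℂ) (β' : D → ℂ) →
        Tw a (F' β : N → ℂ) (F' β' : N → ℂ)) ∧
      (∀ (β : IrrCharacter C) (η : IrrCharacter D), mlt (Subgroup.inclusion hDC) β η ≠ 0 ↔
        mlt (Subgroup.inclusion hNG) (F β) (F' η) ≠ 0) := by
  classical
  have : Fact p.Prime := ⟨hp⟩
  have hcop' : (Nat.card N).Coprime (Nat.card P) :=
    Nat.Coprime.coprime_dvd_left (Subgroup.card_dvd_of_le hNG) hcop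
  obtain ⟨g1, g2, g3, g4, -⟩ := pcore hPG hp hP hcop hC hCG
  obtain ⟨n1, n2, n3, n4, -⟩ := pcore hPN hp hP hcop' hD hDN
  choose F hF1 hF2 using g1
  choose F' hF'1 hF'2 using n1
  refine ⟨F, F', ?_, ?_, ?_, ?_, ?_, ?_, ?_⟩
  · intro β β' h
    refine g4 (F β) (hF1 β) β β' (hF2 β) ?_
    rw [h]; exact hF2 β'
  · intro χ
    constructor
    · rintro ⟨β, rfl⟩; exact hF1 β
    · intro h
      obtain ⟨β, hβ⟩ := g3 χ h
      exact ⟨β, g2 β _ _ (hF1 β) h (hF2 β) hβ⟩
  · intro a ha β β' h
    obtain ⟨χ'', hχ''⟩ := exists_tw hAG ha (F β)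
    have h1 := hinvG a ha _ _ hχ'' (hF1 β)
    have h2 : mlt (Subgroup.inclusion hCG) χ'' β' = mlt (Subgroup.inclusion hCG) (F β) β :=
      mlt_tw hAG hAC hCG ha hχ'' h
    have h3 : χ'' = F β' := g2 β' _ _ h1 (hF1 β') (by rw [h2]; exact hF2 β) (hF2 β')
    rw [← h3]; exact hχ''
  · intro β β' h
    refine n4 (F' β) (hF'1 β) β β' (hF'2 β) ?_
    rw [h]; exact hF'2 β'
  · intro χ
    constructor
    · rintro ⟨β, rfl⟩; exact hF'1 β
    · intro h
      obtain ⟨β, hβ⟩ := n3 χ h
      exact ⟨β, n2 β _ _ (hF'1 β) h (hF'2 β) hβ⟩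
  · intro a ha β β' h
    obtain ⟨χ'', hχ''⟩ := exists_tw hAN ha (F' β)
    have h1 := hinvN a ha _ _ hχ'' (hF'1 β)
    have h2 : mlt (Subgroup.inclusion hDN) χ'' β' = mlt (Subgroup.inclusion hDN) (F' β) β :=
      mlt_tw hAN hAD hDN ha hχ'' h
    have h3 : χ'' = F' β' := n2 β' _ _ h1 (hF'1 β') (by rw [h2]; exact hF'2 β) (hF'2 β')
    rw [← h3]; exact hχ''
  · intro β η
    by_cases hpG : p ∣ Nat.card G
    · -- then `P = ⊥`
      have hPb : P = ⊥ := by
        obtain ⟨n, hn⟩ := IsPGroup.iff_card.mp hP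
        rcases Nat.eq_zero_or_pos n with h0 | h0
        · rw [h0, pow_zero] at hn
          exact Subgroup.card_eq_one.mp hn
        · exfalso
          have : p ∣ Nat.card P := by rw [hn]; exact dvd_pow_self p h0.ne'
          have := Nat.dvd_gcd hpG this
          rw [hcop] at this
          exact hp.one_lt.ne' (Nat.dvd_one.mp this)
      have htop : ∀ H : Subgroup Γ, H ≤ H ⊓ Subgroup.centralizer (P : Set Γ) := by
        intro H g hg
        rw [hPb]
        refine ⟨hg, Subgroup.mem_centralizer_iff.mpr ?_⟩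
        intro s hs
        have : s = 1 := by simpa using hs
        rw [this, one_mul, mul_one]
      have hGC : G ≤ C := by rw [hC]; exact htop G
      have hND : N ≤ D := by rw [hD]; exact htop N
      have hbC : Function.Bijective (Subgroup.inclusion hCG) :=
        ⟨Subgroup.inclusion_injective hCG, fun g => ⟨⟨g, hGC g.2⟩, Subtype.ext rfl⟩⟩
      have hbD : Function.Bijective (Subgroup.inclusion hDN) :=
        ⟨Subgroup.inclusion_injective hDN, fun g => ⟨⟨g, hND g.2⟩, Subtype.ext rfl⟩⟩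
      have e1 := (mlt_bij_dvd hp hbC (F β) β).mp (hF2 β)
      have e2 := (mlt_bij_dvd hp hbD (F' η) η).mp (hF'2 η)
      have e3 : mlt (Subgroup.inclusion hNG) (F β) (F' η) = mlt (Subgroup.inclusion hDC) β η := by
        apply mlt_eq
        rw [ci_bij hbD, ← mlt_spec, ← e1, ← e2]
        rfl
      rw [e3]
    · let _ := conjAct G P hPG
      let _ := conjAct N P hPN
      have key := mod_p_sum (p := p) (P := P) (j := Subgroup.inclusion hNG) (k := Subgroup.inclusion hDN)
        hP (fun s n => Subtype.ext rfl)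
        (fun s d => (fix_iff hPN hD hDN (Subgroup.inclusion hDN d)).mp ⟨d, rfl⟩ s)
        (F β) ((tinv_iff hPG _).mp (hF1 β)) η (F' η) ((tinv_iff hPN _).mp (hF'1 η))
        (fun θ' h1 h2 => n2 η θ' (F' η) ((tinv_iff hPN _).mpr h1) (hF'1 η) h2 (hF'2 η))
      have : Fintype (IrrCharacter C) := Fintype.ofFinite _
      -- the other side
      have key2 : ((mlt ((Subgroup.inclusion hCG).comp (Subgroup.inclusion hDC)) (F β) η : ℕ) : ℤ) ≡
          ((mlt (Subgroup.inclusion hCG) (F β) β * mlt (Subgroup.inclusion hDC) β η : ℕ) : ℤ) [ZMOD p] := by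
        rw [mlt_trans]
        apply Int.ModEq.symm
        apply Int.modEq_iff_dvd.mpr
        have e1 : ((∑ θ : IrrCharacter C, mlt (Subgroup.inclusion hCG) (F β) θ *
            mlt (Subgroup.inclusion hDC) θ η : ℕ) : ℤ) -
            ((mlt (Subgroup.inclusion hCG) (F β) β * mlt (Subgroup.inclusion hDC) β η : ℕ) : ℤ) =
            ∑ θ ∈ Finset.univ.erase β, ((mlt (Subgroup.inclusion hCG) (F β) θ *
              mlt (Subgroup.inclusion hDC) θ η : ℕ) : ℤ) := by
          rw [Nat.cast_sum, Finset.sum_erase_eq_sub (Finset.mem_univ β)]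
        rw [e1]
        refine Finset.dvd_sum fun θ hθ => ?_
        have h1 : p ∣ mlt (Subgroup.inclusion hCG) (F β) θ := by
          by_contra hnd
          exact (Finset.mem_erase.mp hθ).1 (g4 (F β) (hF1 β) θ β hnd (hF2 β))
        push_cast
        exact Dvd.dvd.mul_right (by exact_mod_cast h1) _
      have hcomp : (Subgroup.inclusion hNG).comp (Subgroup.inclusion hDN) =
          (Subgroup.inclusion hCG).comp (Subgroup.inclusion hDC) := rfl
      rw [hcomp] at key
      have key3 := key.symm.trans key2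
      have h5 : p ∣ mlt (Subgroup.inclusion hNG) (F β) (F' η) ↔ p ∣ mlt (Subgroup.inclusion hDC) β η := by
        have h6 : (p ∣ mlt (Subgroup.inclusion hNG) (F β) (F' η) * mlt (Subgroup.inclusion hDN) (F' η) η) ↔
            p ∣ mlt (Subgroup.inclusion hCG) (F β) β * mlt (Subgroup.inclusion hDC) β η := by
          have h7 := Int.ModEq.dvd_iff key3
          exact_mod_cast h7
        rw [hp.dvd_mul, hp.dvd_mul] at h6
        constructor
        · intro h; exact (h6.mp (Or.inl h)).resolve_left (hF2 β)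
        · intro h; exact (h6.mpr (Or.inr h)).resolve_right (hF'2 η)
      have hGpos : ∀ m : ℕ, m ∣ Nat.card G → ¬ p ∣ m := fun m hm h => hpG (h.trans hm)
      have q1 : mlt (Subgroup.inclusion hNG) (F β) (F' η) ≠ 0 ↔
          ¬ p ∣ mlt (Subgroup.inclusion hNG) (F β) (F' η) := by
        constructor
        · intro h
          let _ := conjAct N G hGN
          exact hGpos _ (mlt_dvd (Subgroup.inclusion_injective hNG) (fun g n => Subtype.ext rfl) h)
        · intro h h0; apply h; rw [h0]; exact dvd_zero p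
      have q2 : mlt (Subgroup.inclusion hDC) β η ≠ 0 ↔ ¬ p ∣ mlt (Subgroup.inclusion hDC) β η := by
        constructor
        · intro h
          have hCD : Nrm C D := by
            intro c hc d hd
            rw [hD] at hd ⊢
            rw [hC] at hc
            refine ⟨hGN c hc.1 d hd.1, ?_⟩
            exact Subgroup.mul_mem _ (Subgroup.mul_mem _ hc.2 hd.2) (Subgroup.inv_mem _ hc.2)
          let _ := conjAct D C hCD
          exact hGpos _ ((mlt_dvd (Subgroup.inclusion_injective hDC) (fun g n => Subtype.ext rfl) h).trans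
            (Subgroup.card_dvd_of_le hCG))
        · intro h h0; apply h; rw [h0]; exact dvd_zero p
      rw [q1, q2, h5]


/-- A nontrivial solvable group has a proper subgroup of `p`-power index, stable under all
automorphisms, supplemented by a `p`-subgroup. -/
theorem exists_step' {S : Type*} [Group S] [Finite S] [hS : Group.IsSolvable S] [Nontrivial S] :
    ∃ p : ℕ, p.Prime ∧ ∃ T P : Subgroup S, T ≠ ⊤ ∧ IsPGroup p P ∧ T ⊔ P = ⊤ ∧ T.Normal ∧
      ∀ σ : S ≃* S, ∀ t ∈ T, σ t ∈ T := by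
  classical
  have hlt := Group.IsSolvable.commutator_lt_top_of_nontrivial S
  have hA : Nontrivial (Abelianization S) := by
    rw [Abelianization, QuotientGroup.nontrivial_iff]
    exact hlt.ne
  obtain ⟨p, hp, hpd⟩ := Nat.exists_prime_and_dvd (n := Nat.card (Abelianization S))
    Finite.one_lt_card.ne'
  have : Fact p.Prime := ⟨hp⟩
  set N := Nat.card (Abelianization S) with hN
  set m := N / p ^ N.factorization p with hm
  have hNm : N = p ^ N.factorization p * m := (Nat.ordProj_mul_ordCompl_eq_self _ _).symm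
  have hN0 : N ≠ 0 := Nat.card_pos.ne'
  let f : S →* Abelianization S := (powMonoidHom m).comp Abelianization.of
  let T : Subgroup S := f.ker
  have hmem : ∀ x : S, x ∈ T ↔ x ^ m ∈ commutator S := by
    intro x
    show f x = 1 ↔ _
    simp only [f, MonoidHom.comp_apply, powMonoidHom_apply]
    rw [← map_pow]
    exact QuotientGroup.eq_one_iff _
  have hTn : T.Normal := MonoidHom.normal_ker f
  have hTp : IsPGroup p (S ⧸ T) := by
    intro q
    obtain ⟨x, rfl⟩ := QuotientGroup.mk_surjective q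
    refine ⟨N.factorization p, ?_⟩
    rw [← QuotientGroup.mk_pow, QuotientGroup.eq_one_iff, hmem, ← pow_mul, ← hNm]
    have h1 : (Abelianization.of x) ^ N = 1 := pow_card_eq_one'
    rw [← map_pow] at h1
    exact (QuotientGroup.eq_one_iff _).mp h1
  let P : Sylow p S := default
  refine ⟨p, hp, T, P, ?_, P.isPGroup', ?_, hTn, ?_⟩
  · intro hT
    obtain ⟨y, hy⟩ := exists_prime_orderOf_dvd_card' p hpd
    obtain ⟨x, rfl⟩ := QuotientGroup.mk_surjective y
    have hx : x ∈ T := by rw [hT]; trivial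
    have h1 : (Abelianization.of x) ^ m = 1 := hx
    have h2 : p ∣ m := by
      rw [← hy]
      exact orderOf_dvd_of_pow_eq_one h1
    exact Nat.not_dvd_ordCompl hp hN0 h2
  · obtain ⟨k, hk⟩ := IsPGroup.iff_card.mp hTp
    rw [← Subgroup.index_eq_one]
    have h1 : (T ⊔ (P : Subgroup S)).index ∣ p ^ k := by
      rw [← hk, ← Subgroup.index_eq_card]
      exact Subgroup.index_dvd_of_le le_sup_left
    have h2 : (T ⊔ (P : Subgroup S)).index ∣ (P : Subgroup S).index := Subgroup.index_dvd_of_le le_sup_right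
    obtain ⟨l, -, hl⟩ := (Nat.dvd_prime_pow hp).mp h1
    rcases Nat.eq_zero_or_pos l with h0 | h0
    · rw [hl, h0, pow_zero]
    · exfalso
      apply P.not_dvd_index
      refine dvd_trans ?_ h2
      rw [hl]; exact dvd_pow_self p h0.ne'
  · intro σ t ht
    rw [hmem] at ht ⊢
    rw [← map_pow]
    have h3 : (commutator S).map σ.toMonoidHom = commutator S :=
      Subgroup.characteristic_iff_map_eq.mp inferInstance σ
    rw [← h3]
    exact ⟨_, ht, rfl⟩

theorem exists_step [Finite Γ] {S : Subgroup Γ} (hS : Group.IsSolvable S) (hne : S ≠ ⊥) :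
    ∃ p : ℕ, p.Prime ∧ ∃ T P : Subgroup Γ, T ≤ S ∧ T ≠ S ∧ P ≤ S ∧ IsPGroup p P ∧ T ⊔ P = S ∧
      ∀ A : Subgroup Γ, Nrm A S → Nrm A T := by
  have : Nontrivial S := (Subgroup.nontrivial_iff_ne_bot S).mpr hne
  obtain ⟨p, hp, T, P, h1, h2, h3, h4, h5⟩ := exists_step' (S := S)
  refine ⟨p, hp, T.map S.subtype, P.map S.subtype, Subgroup.map_subtype_le _, ?_,
    Subgroup.map_subtype_le _, h2.map _, ?_, ?_⟩
  · intro h
    apply h1
    have h6 : S = (⊤ : Subgroup S).map S.subtype := by
      rw [← MonoidHom.range_eq_map, Subgroup.range_subtype]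
    conv_rhs at h => rw [h6]
    exact Subgroup.map_injective S.subtype_injective h
  · rw [← Subgroup.map_sup, h3, ← MonoidHom.range_eq_map, Subgroup.range_subtype]
  · intro A hA a ha x hx
    obtain ⟨t, ht, rfl⟩ := hx
    exact ⟨cjE hA ha t, h5 (cjE hA ha) t ht, rfl⟩

/-- The Glauberman correspondence for a solvable group of operators, with a normal subgroup. -/
theorem corr [Fintype Γ] (n : ℕ) : ∀ (S : Subgroup Γ), Nat.card S = n → Group.IsSolvable S →
    ∀ (A G N C D : Subgroup Γ) [Fintype G] [Fintype N] [Fintype C] [Fintype D], S ≤ A →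
    Nrm A S → Nrm A G → Nrm A N → (Nat.card G).Coprime (Nat.card S) → ∀ (hNG : N ≤ G), Nrm G N →
    C = G ⊓ Subgroup.centralizer (S : Set Γ) → D = N ⊓ Subgroup.centralizer (S : Set Γ) →
    ∀ (_ : C ≤ G) (_ : D ≤ N) (hDC : D ≤ C),
    ∃ (F : IrrCharacter C → IrrCharacter G) (F' : IrrCharacter D → IrrCharacter N),
      Function.Injective F ∧ (∀ χ, (∃ β, F β = χ) ↔ TInv S (χ : G → ℂ)) ∧
      (∀ a ∈ A, ∀ β β' : IrrCharacter C, Tw a (β : C → ℂ) (β' : C → ℂ) →
        Tw a (F β : G → ℂ) (F β' : G → ℂ)) ∧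
      Function.Injective F' ∧ (∀ χ, (∃ β, F' β = χ) ↔ TInv S (χ : N → ℂ)) ∧
      (∀ a ∈ A, ∀ β β' : IrrCharacter D, Tw a (β : D → ℂ) (β' : D → ℂ) →
        Tw a (F' β : N → ℂ) (F' β' : N → ℂ)) ∧
      (∀ (β : IrrCharacter C) (η : IrrCharacter D), mlt (Subgroup.inclusion hDC) β η ≠ 0 ↔
        mlt (Subgroup.inclusion hNG) (F β) (F' η) ≠ 0) := by
  classical
  induction n using Nat.strong_induction_on with
  | _ n ih =>
    intro S hSn hS A G N C D _ _ _ _ hSA hAS hAG hAN hcop hNG hGN hC hD hCG hDN hDC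
    have hAC : Nrm A C := by rw [hC]; exact hAG.inf hAS.centralizer
    have hAD : Nrm A D := by rw [hD]; exact hAN.inf hAS.centralizer
    have hSG : Nrm S G := hAG.mono hSA
    have hSN : Nrm S N := hAN.mono hSA
    by_cases hSb : S = ⊥
    · have hP : IsPGroup 2 S := by
        rw [hSb]; exact IsPGroup.of_bot
      exact jp hSG hSN hAG hAN hAC hAD Nat.prime_two hP hcop hNG hGN hC hD hCG hDN hDC
        (fun a ha χ χ' h h' => tinv_tw hAG hAS hSG ha h h')
        (fun a ha χ χ' h h' => tinv_tw hAN hAS hSN ha h h')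
    · obtain ⟨p, hp, T, P, hTS, hTne, hPS, hP, hTP, hTA⟩ := exists_step hS hSb
      have hTn : Nrm A T := hTA A hAS
      have hTsolv : Group.IsSolvable T :=
        Group.isSolvable_of_isSolvable_injective (Subgroup.inclusion_injective hTS)
      have hTcard : Nat.card T < n := by
        rw [← hSn]
        exact Set.Finite.card_lt_card (Set.toFinite (S : Set Γ)) (show T < S from lt_of_le_of_ne hTS hTne)
      set G1 : Subgroup Γ := G ⊓ Subgroup.centralizer (T : Set Γ) with hG1
      set N1 : Subgroup Γ := N ⊓ Subgroup.centralizer (T : Set Γ) with hN1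
      have hG1G : G1 ≤ G := inf_le_left
      have hN1N : N1 ≤ N := inf_le_left
      have hN1G1 : N1 ≤ G1 := inf_le_inf_right _ hNG
      have hfG1 : Fintype G1 := Fintype.ofFinite _
      have hfN1 : Fintype N1 := Fintype.ofFinite _
      have hcopT : (Nat.card G).Coprime (Nat.card T) :=
        Nat.Coprime.coprime_dvd_right (Subgroup.card_dvd_of_le hTS) hcop
      obtain ⟨F1, F1', a1, a2, a3, a4, a5, a6, a7⟩ := ih (Nat.card T) hTcard T rfl hTsolv A G N G1 N1
        (hTS.trans hSA) hTn hAG hAN hcopT hNG hGN rfl rfl hG1G hN1N hN1G1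
      have hAG1 : Nrm A G1 := hAG.inf hTn.centralizer
      have hAN1 : Nrm A N1 := hAN.inf hTn.centralizer
      have hSG1 : Nrm S G1 := hAG1.mono hSA
      have hSN1 : Nrm S N1 := hAN1.mono hSA
      have hcen : Subgroup.centralizer (S : Set Γ) =
          Subgroup.centralizer (T : Set Γ) ⊓ Subgroup.centralizer (P : Set Γ) := by
        apply le_antisymm
        · exact le_inf (Subgroup.centralizer_le hTS) (Subgroup.centralizer_le hPS)
        · intro x hx
          rw [Subgroup.mem_centralizer_iff]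
          have h1 : S ≤ Subgroup.centralizer ({x} : Set Γ) := by
            rw [← hTP, sup_le_iff]
            constructor
            · intro t ht
              rw [Subgroup.mem_centralizer_singleton_iff]
              exact (Subgroup.mem_centralizer_iff.mp hx.1 t ht)
            · intro t ht
              rw [Subgroup.mem_centralizer_singleton_iff]
              exact (Subgroup.mem_centralizer_iff.mp hx.2 t ht)
          intro s hs
          exact Subgroup.mem_centralizer_singleton_iff.mp (h1 hs)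
      have hC' : C = G1 ⊓ Subgroup.centralizer (P : Set Γ) := by
        rw [hC, hG1, hcen, inf_assoc]
      have hD' : D = N1 ⊓ Subgroup.centralizer (P : Set Γ) := by
        rw [hD, hN1, hcen, inf_assoc]
      have hCG1 : C ≤ G1 := by rw [hC']; exact inf_le_left
      have hDN1 : D ≤ N1 := by rw [hD']; exact inf_le_left
      -- `S`-invariance on the centralizer of `T` is `P`-invariance
      have hinv : ∀ (H : Subgroup Γ) (_ : H ≤ Subgroup.centralizer (T : Set Γ)) (_ : Nrm S H)
          (χ : IrrCharacter H), TInv S (χ : H → ℂ) ↔ TInv P (χ : H → ℂ) := by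
        intro H hHT hSH χ
        constructor
        · intro h s hs; exact h s (hPS hs)
        · intro h
          let St : Subgroup Γ :=
            { carrier := {s | s ∈ S ∧ ∀ g g' : H, (g' : Γ) = s * g * s⁻¹ → (χ : H → ℂ) g' = (χ : H → ℂ) g}
              mul_mem' := by
                rintro a b ⟨ha, ha'⟩ ⟨hb, hb'⟩
                refine ⟨S.mul_mem ha hb, ?_⟩
                intro g g' hg
                have h1 := hb' g ⟨b * g * b⁻¹, hSH b hb g g.2⟩ rfl
                have h2 := ha' ⟨b * g * b⁻¹, hSH b hb g g.2⟩ g' (by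
                  rw [hg]; group)
                rw [h2, h1]
              one_mem' := by
                refine ⟨S.one_mem, ?_⟩
                intro g g' hg
                have : g' = g := Subtype.ext (by rw [hg]; simp)
                rw [this]
              inv_mem' := by
                rintro a ⟨ha, ha'⟩
                refine ⟨S.inv_mem ha, ?_⟩
                intro g g' hg
                symm
                apply ha'
                rw [hg]; group }
          have h1 : S ≤ St := by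
            rw [← hTP, sup_le_iff]
            constructor
            · intro t ht
              refine ⟨hTS ht, ?_⟩
              intro g g' hg
              have h2 := Subgroup.mem_centralizer_iff.mp (hHT g.2) t ht
              have : g' = g := Subtype.ext (by rw [hg, h2]; group)
              rw [this]
            · intro t ht
              exact ⟨hPS ht, h t ht⟩
          intro s hs
          exact (h1 hs).2
      have hcopP : (Nat.card G1).Coprime (Nat.card P) :=
        Nat.Coprime.coprime_dvd_left (Subgroup.card_dvd_of_le hG1G)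
          (Nat.Coprime.coprime_dvd_right (Subgroup.card_dvd_of_le hPS) hcop)
      have hG1N1 : Nrm G1 N1 := by
        intro c hc d hd
        refine ⟨hGN c hc.1 d hd.1, ?_⟩
        exact Subgroup.mul_mem _ (Subgroup.mul_mem _ hc.2 hd.2) (Subgroup.inv_mem _ hc.2)
      obtain ⟨F2, F2', b1, b2, b3, b4, b5, b6, b7⟩ := jp (hSG1.mono hPS) (hSN1.mono hPS) hAG1 hAN1
        hAC hAD hp hP hcopP hN1G1 hG1N1 hC' hD' hCG1 hDN1 hDC
        (fun a ha χ χ' h h' => (hinv G1 inf_le_right hSG1 χ').mp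
          (tinv_tw hAG1 hAS hSG1 ha h ((hinv G1 inf_le_right hSG1 χ).mpr h')))
        (fun a ha χ χ' h h' => (hinv N1 inf_le_right hSN1 χ').mp
          (tinv_tw hAN1 hAS hSN1 ha h ((hinv N1 inf_le_right hSN1 χ).mpr h')))
      -- image characterization
      have himg : ∀ (H H1 : Subgroup Γ) [Fintype H] [Fintype H1] (_ : Nrm A H) (_ : Nrm A H1)
          (_ : H1 ≤ Subgroup.centralizer (T : Set Γ)) (E : IrrCharacter H1 → IrrCharacter H)
          (_ : Function.Injective E) (_ : ∀ χ, (∃ β, E β = χ) ↔ TInv T (χ : H → ℂ))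
          (_ : ∀ a ∈ A, ∀ β β' : IrrCharacter H1, Tw a (β : H1 → ℂ) (β' : H1 → ℂ) →
            Tw a (E β : H → ℂ) (E β' : H → ℂ))
          (K : Subgroup Γ) (E2 : IrrCharacter K → IrrCharacter H1)
          (_ : ∀ χ, (∃ β, E2 β = χ) ↔ TInv P (χ : H1 → ℂ)) (χ : IrrCharacter H),
          (∃ β, E (E2 β) = χ) ↔ TInv S (χ : H → ℂ) := by
        intro H H1 _ _ hAH hAH1 hH1T E hE hE2 hE3 K E2 hE4 χ
        constructor
        · rintro ⟨β, rfl⟩
          have h1 : TInv S (E2 β : H1 → ℂ) := (hinv H1 hH1T (hAH1.mono hSA) _).mpr ((hE4 _).mp ⟨β, rfl⟩)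
          intro s hs
          exact hE3 s (hSA hs) _ _ (h1 s hs)
        · intro h
          obtain ⟨δ, rfl⟩ := (hE2 χ).mpr (fun s hs => h s (hTS hs))
          have h1 : TInv S (δ : H1 → ℂ) := by
            intro s hs
            obtain ⟨δ', hδ'⟩ := exists_tw hAH1 (hSA hs) δ
            have h2 := hE3 s (hSA hs) _ _ hδ'
            have h3 : E δ' = E δ := tw_unique hAH (hSA hs) h2 (h s hs)
            have h4 := hE h3
            subst h4
            exact hδ'
          obtain ⟨β, hβ⟩ := (hE4 δ).mpr ((hinv H1 hH1T (hAH1.mono hSA) _).mp h1)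
          exact ⟨β, by rw [hβ]⟩
      refine ⟨F1 ∘ F2, F1' ∘ F2', a1.comp b1, ?_, ?_, a4.comp b4, ?_, ?_, ?_⟩
      · exact himg G G1 hAG hAG1 inf_le_right F1 a1 a2 a3 C F2 b2
      · intro a ha β β' h
        exact a3 a ha _ _ (b3 a ha _ _ h)
      · exact himg N N1 hAN hAN1 inf_le_right F1' a4 a5 a6 D F2' b5
      · intro a ha β β' h
        exact a6 a ha _ _ (b6 a ha _ _ h)
      · intro β η
        rw [b7 β η]
        exact a7 (F2 β) (F2' η)

end Cfsg.Agent.H25.Glaub2
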