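import Mathlib
import Cfsg.Agent.H25_Glaub2
import Cfsg.Agent.H1_Coprime

/-!
# Consequences of the Glauberman correspondence
-/

set_option autoImplicit false
set_option linter.unusedSectionVars false

open scoped ComplexConjugate

namespace Cfsg.Agent.H25.Glaub3

open Cfsg Cfsg.Agent.H3.CharIrr Cfsg.Agent.H3.CharComplete Cfsg.Agent.H3.CharInd
  Cfsg.Agent.H3.CharInt Cfsg.Agent.H25.GlaubCore Cfsg.Agent.H25.Glaub Cfsg.Agent.H25.Clifford
  Cfsg.Agent.H25.Glaub2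

variable {Γ : Type*} [Group Γ]

/-- a copy of `Γ` with the conjugation action -/
structure CY (Γ : Type*) where
  /-- underlying element -/
  v : Γ

instance instCYAction : MulAction Γ (CY Γ) where
  smul g x := ⟨g * x.v * g⁻¹⟩
  one_smul x := by
    show (⟨1 * x.v * 1⁻¹⟩ : CY Γ) = x
    simp
  mul_smul g h x := by
    show (⟨(g * h) * x.v * (g * h)⁻¹⟩ : CY Γ) = ⟨g * (h * x.v * h⁻¹) * g⁻¹⟩
    congr 1; group

theorem cy_smul (g : Γ) (x : CY Γ) : g • x = ⟨g * x.v * g⁻¹⟩ := rfl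

theorem le_normalizer_of_nrm {A H : Subgroup Γ} (h : Nrm A H) : A ≤ Subgroup.normalizer (H : Set Γ) := by
  intro a ha
  rw [Subgroup.mem_normalizer_iff]
  intro x
  constructor
  · intro hx; exact h a ha x hx
  · intro hx
    have := h a⁻¹ (A.inv_mem ha) _ hx
    have h2 : a⁻¹ * (a * x * a⁻¹) * a⁻¹⁻¹ = x := by group
    rwa [h2] at this

/-- The number of invariant classes. -/
theorem card_inv_classes [Fintype Γ] {G S C : Subgroup Γ} (hSG : Nrm S G) (hsolv : Group.IsSolvable S)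
    (hcop : (Nat.card G).Coprime (Nat.card S)) (hC : C = G ⊓ Subgroup.centralizer (S : Set Γ))
    (hCG : C ≤ G) :
    Nat.card {K : ConjClasses G // ∀ s ∈ S, ∀ g g' : G, (g' : Γ) = s * g * s⁻¹ →
      ConjClasses.mk g = K → ConjClasses.mk g' = K} = Nat.card (ConjClasses C) := by
  classical
  symm
  have hcop' := hcop.symm
  have hcomm : ∀ c : C, ∀ s ∈ S, s * (c : Γ) * s⁻¹ = c := by
    intro c s hs
    have hc : (c : Γ) ∈ G ⊓ Subgroup.centralizer (S : Set Γ) := by rw [← hC]; exact c.2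
    rw [Subgroup.mem_centralizer_iff.mp hc.2 s hs, mul_inv_cancel_right]
  have hmem : ∀ x : Γ, x ∈ G → (∀ s ∈ S, s * x * s⁻¹ = x) → x ∈ C := by
    intro x hx h
    rw [hC]
    refine ⟨hx, Subgroup.mem_centralizer_iff.mpr fun s hs => ?_⟩
    exact mul_inv_eq_iff_eq_mul.mp (h s hs)
  let f : ConjClasses C → {K : ConjClasses G // ∀ s ∈ S, ∀ g g' : G, (g' : Γ) = s * g * s⁻¹ →
      ConjClasses.mk g = K → ConjClasses.mk g' = K} := fun L =>
    ⟨ConjClasses.map (Subgroup.inclusion hCG) L, by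
      intro s hs g g' hg hK
      obtain ⟨c, rfl⟩ := ConjClasses.mk_surjective L
      rw [← hK]
      have h1 : IsConj g (Subgroup.inclusion hCG c) := ConjClasses.mk_eq_mk_iff_isConj.mp hK
      apply ConjClasses.mk_eq_mk_iff_isConj.mpr
      obtain ⟨x, hx⟩ := isConj_iff.mp h1
      have hx' : (x : Γ) * g * (x : Γ)⁻¹ = c := congrArg Subtype.val hx
      have hg' : IsConj g' (Subgroup.inclusion hCG c) := by
        refine isConj_iff.mpr ⟨⟨s * x * s⁻¹, hSG s hs x x.2⟩, Subtype.ext ?_⟩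
        show (s * x * s⁻¹) * (g' : Γ) * (s * x * s⁻¹)⁻¹ = (c : Γ)
        rw [hg]
        calc s * x * s⁻¹ * (s * g * s⁻¹) * (s * x * s⁻¹)⁻¹ = s * (x * g * (x : Γ)⁻¹) * s⁻¹ := by group
          _ = s * c * s⁻¹ := by rw [hx']
          _ = c := hcomm c s hs
      exact hg'.trans h1.symm⟩
  refine Nat.card_eq_of_bijective f ⟨?_, ?_⟩
  · intro L L' h
    obtain ⟨c, rfl⟩ := ConjClasses.mk_surjective L
    obtain ⟨d, rfl⟩ := ConjClasses.mk_surjective L'
    have h1 : IsConj (Subgroup.inclusion hCG c) (Subgroup.inclusion hCG d) :=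
      ConjClasses.mk_eq_mk_iff_isConj.mp (congrArg Subtype.val h)
    obtain ⟨x, hx⟩ := isConj_iff.mp h1
    have hx' : (x : Γ) * c * (x : Γ)⁻¹ = d := congrArg Subtype.val hx
    obtain ⟨k, hk, hk2⟩ := H1.Coprime.glauberman_conj (Y := CY Γ) (A := S) (K := G)
      (le_normalizer_of_nrm hSG) hcop' (Or.inl hsolv) (y := ⟨c⟩) (z := ⟨d⟩)
      (fun s hs => by rw [cy_smul, hcomm c s hs]) (fun s hs => by rw [cy_smul, hcomm d s hs])
      x.2 (by rw [cy_smul, hx'])
    rw [cy_smul] at hk2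
    have hk3 : k * (c : Γ) * k⁻¹ = d := congrArg CY.v hk2
    rw [← hC] at hk
    exact ConjClasses.mk_eq_mk_iff_isConj.mpr (isConj_iff.mpr ⟨⟨k, hk⟩, Subtype.ext hk3⟩)
  · rintro ⟨K, hK⟩
    obtain ⟨g, rfl⟩ := ConjClasses.mk_surjective K
    obtain ⟨y, ⟨x, hx, hy1⟩, hy2⟩ := H1.Coprime.glauberman_exists (Y := CY Γ) (A := S) (K := G)
      (le_normalizer_of_nrm hSG) hcop' (Or.inl hsolv)
      {y : CY Γ | ∃ x ∈ G, y = ⟨x * g * x⁻¹⟩} ⟨⟨g⟩, 1, G.one_mem, by simp⟩
      (by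
        rintro s hs y ⟨x, hx, rfl⟩
        rw [cy_smul]
        have h1 := hK s hs ⟨x * g * x⁻¹, G.mul_mem (G.mul_mem hx g.2) (G.inv_mem hx)⟩
          ⟨s * (x * g * x⁻¹) * s⁻¹, hSG s hs _ (G.mul_mem (G.mul_mem hx g.2) (G.inv_mem hx))⟩ rfl
          (ConjClasses.mk_eq_mk_iff_isConj.mpr (isConj_iff.mpr ⟨⟨x, hx⟩, Subtype.ext rfl⟩).symm)
        obtain ⟨z, hz⟩ := isConj_iff.mp (ConjClasses.mk_eq_mk_iff_isConj.mp h1).symm
        refine ⟨z, z.2, ?_⟩
        have := congrArg Subtype.val hz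
        exact congrArg CY.mk this.symm)
      (by
        rintro k hk y ⟨x, hx, rfl⟩
        refine ⟨k * x, G.mul_mem hk hx, ?_⟩
        rw [cy_smul]
        congr 1; group)
      (by
        rintro y ⟨x, hx, rfl⟩ z ⟨w, hw, rfl⟩
        refine ⟨w * x⁻¹, G.mul_mem hw (G.inv_mem hx), ?_⟩
        rw [cy_smul]
        congr 1; group)
    have hyG : y.v ∈ G := by
      rw [hy1]; exact G.mul_mem (G.mul_mem hx g.2) (G.inv_mem hx)
    have hyC : y.v ∈ C := hmem _ hyG fun s hs => congrArg CY.v (hy2 s hs)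
    refine ⟨ConjClasses.mk ⟨y.v, hyC⟩, Subtype.ext ?_⟩
    show ConjClasses.mk (Subgroup.inclusion hCG ⟨y.v, hyC⟩) = ConjClasses.mk g
    apply ConjClasses.mk_eq_mk_iff_isConj.mpr
    refine (isConj_iff.mpr ⟨⟨x, hx⟩, Subtype.ext ?_⟩).symm
    show x * (g : Γ) * x⁻¹ = y.v
    rw [hy1]

/-- The number of invariant irreducible characters is the number of irreducible characters of the
fixed point subgroup. -/
theorem card_inv_irr [Fintype Γ] {G S C : Subgroup Γ} [Fintype G] [Fintype C] (hSG : Nrm S G)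
    (hsolv : Group.IsSolvable S)
    (hcop : (Nat.card G).Coprime (Nat.card S)) (hC : C = G ⊓ Subgroup.centralizer (S : Set Γ)) :
    Nat.card {χ : IrrCharacter G // TInv S (χ : G → ℂ)} = Nat.card (IrrCharacter C) := by
  have hCG : C ≤ G := by rw [hC]; exact inf_le_left
  obtain ⟨F, -, h1, h2, -⟩ := corr (Nat.card S) S rfl hsolv S G G C C le_rfl (Nrm.self S) hSG hSG hcop
    le_rfl (Nrm.self G) hC hC hCG hCG le_rfl
  symm
  refine Nat.card_eq_of_bijective (fun β => ⟨F β, (h2 _).mp ⟨β, rfl⟩⟩) ⟨?_, ?_⟩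
  · intro β β' h
    exact h1 (congrArg Subtype.val h)
  · rintro ⟨χ, hχ⟩
    obtain ⟨β, rfl⟩ := (h2 χ).mpr hχ
    exact ⟨β, rfl⟩

/-- Invariant characters above an invariant character of a normal subgroup. -/
theorem exists_inv_over [Fintype Γ] {G S N : Subgroup Γ} [Fintype G] [Fintype N] (hSG : Nrm S G)
    (hSN : Nrm S N) (hsolv : Group.IsSolvable S) (hNG : N ≤ G) (hGN : Nrm G N)
    (hcop : (Nat.card G).Coprime (Nat.card S)) (θ : IrrCharacter N) (hθ : TInv S (θ : N → ℂ)) :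
    ∃ χ : IrrCharacter G, mlt (Subgroup.inclusion hNG) χ θ ≠ 0 ∧ TInv S (χ : G → ℂ) := by
  classical
  set C := G ⊓ Subgroup.centralizer (S : Set Γ) with hC
  set D := N ⊓ Subgroup.centralizer (S : Set Γ) with hD
  have : Fintype C := Fintype.ofFinite _
  have : Fintype D := Fintype.ofFinite _
  have hDC : D ≤ C := inf_le_inf_right _ hNG
  obtain ⟨F, F', h1, h2, h3, h4, h5, h6, h7⟩ := corr (Nat.card S) S rfl hsolv S G N C D le_rfl
    (Nrm.self S) hSG hSN hcop hNG hGN hC hD inf_le_left inf_le_left hDC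
  obtain ⟨η, rfl⟩ := (h5 θ).mpr hθ
  obtain ⟨β, hβ⟩ := exists_over (Subgroup.inclusion_injective hDC) η
  exact ⟨F β, (h7 β η).mp hβ, (h2 _).mp ⟨β, rfl⟩⟩

end Cfsg.Agent.H25.Glaub3
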