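import Cfsg.Agent.H25_Sub7
import Cfsg.Agent.H10_BlockDefect

/-! Major subsections for `p = 2`. -/

open scoped ComplexConjugate

namespace Cfsg.Agent.H25.Sub8

open Cfsg Cfsg.Agent.H3 Cfsg.Agent.H3.CharBasic Cfsg.Agent.H3.CharIrr Cfsg.Agent.H3.CharComplete
  Cfsg.Agent.H25.Brauer Cfsg.Agent.H25.BrauerP Cfsg.Agent.H25.Elem
  Cfsg.Agent.H10.Char Cfsg.Agent.H10.BlockLoc Cfsg.Agent.H10.BlockAlg Cfsg.Agent.H10.BlockIdem
  Cfsg.Agent.H10.BlockOrth Cfsg.Agent.H10.BlockHZ Cfsg.Agent.H10.BlockInd Cfsg.Agent.H10.PPart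
  Cfsg.Agent.H10.BlockSMT Cfsg.Agent.H10.BlockSMT2 Cfsg.Agent.H10.BlockPrin Cfsg.Agent.H10.BlockDefect
  Cfsg.Agent.H25.BlockReg Cfsg.Agent.H25.BlockReg2 Cfsg.Agent.H25.BlockReg3 Cfsg.Agent.H25.IndCong
  Cfsg.Agent.H25.Sub Cfsg.Agent.H25.Sub2 Cfsg.Agent.H25.Avg Cfsg.Agent.H3.CharGal
  Cfsg.Agent.H25.Sub3 Cfsg.Agent.H25.Sub4 Cfsg.Agent.H25.Sub5 Cfsg.Agent.H25.Sub6 Cfsg.Agent.H25.Sub7

variable {p : ℕ} {M : Ideal AlgInt}

section
variable {G : Type*} [Group G] [Fintype G] [hp : Fact p.Prime]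

theorem major_defect (hM : IsPModular p M) {B : Set (IrrCharacter G)} (hB : IsPBlock M B)
    {D : Subgroup G} (hD : IsDefectGroup p M B D) {z : G} (hzD : z ∈ D)
    (hzc : ∀ d ∈ D, d * z = z * d)
    {b : Set (IrrCharacter ↥(Subgroup.centralizer ({z} : Set G)))} (hb : IsPBlock M b)
    (hbD : IsDefectGroup p M b (D.subgroupOf (Subgroup.centralizer ({z} : Set G)))) :
    blockDefect p b = blockDefect p B ∧ ∃ k : ℕ, orderOf z = p ^ k := by
  haveI : Fintype (Subgroup.centralizer ({z} : Set G)) := Fintype.ofFinite _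
  have h1 := H10.BlockMain.card_defectGroup hM hB hD
  have h2 := H10.BlockMain.card_defectGroup hM hb hbD
  have hle : D ≤ Subgroup.centralizer ({z} : Set G) := by
    intro d hd
    rw [Subgroup.mem_centralizer_iff]
    intro y hy
    rw [Set.mem_singleton_iff.1 hy]
    exact (hzc d hd).symm
  rw [Nat.card_congr (Subgroup.subgroupOfEquivOfLe hle).toEquiv, h1] at h2
  refine ⟨(Nat.pow_right_injective hp.out.two_le h2).symm, ?_⟩
  have h3 : IsPGroup p D := IsDefectGroup.isPGroup' hD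
  obtain ⟨k, hk⟩ := (IsPGroup.iff_orderOf.1 h3) ⟨z, hzD⟩
  exact ⟨k, by rw [← hk, Subgroup.orderOf_mk]⟩

end

section
variable {G : Type*} [Group G] [Fintype G] {x : G}
  [Fintype (Subgroup.centralizer ({x} : Set G))]
  [Fintype (IrrCharacter G)]
  [Fintype (IrrCharacter (Subgroup.centralizer ({x} : Set G)))]

local instance two_fact'' : Fact (Nat.Prime 2) := ⟨Nat.prime_two⟩

theorem NN_real (b : Set (IrrCharacter (Subgroup.centralizer ({x} : Set G)))) (χ : IrrCharacter G) :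
    conj (NN 2 x b χ χ) = NN 2 x b χ χ := by
  unfold NN
  rw [map_mul, Complex.conj_natCast, mm_herm]

theorem T_pos_height (hM : IsPModular 2 M) (hx : ∃ k : ℕ, orderOf x = 2 ^ k)
    {b : Set (IrrCharacter (Subgroup.centralizer ({x} : Set G)))}
    {B : Set (IrrCharacter G)} (hind : IsInducedBlock M (Subgroup.centralizer ({x} : Set G)) b B)
    (hmaj : blockDefect 2 b = blockDefect 2 B)
    {χ : IrrCharacter G} (hχ : χ ∈ B) (h0 : 1 ≤ blockHeight 2 B (χ : G → ℂ)) :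
    ((2 ^ (blockHeight 2 B (χ : G → ℂ) + 1) : ℕ) : ℝ) ≤ Herm.T (NC 2 x b) χ := by
  haveI := hM.2.1
  obtain ⟨k, hk⟩ := hx
  have hx : ∃ k : ℕ, orderOf x = 2 ^ k := ⟨k, hk⟩
  set q : ℕ := 2 ^ blockHeight 2 B (χ : G → ℂ) with hq
  have hq0 : (q : ℂ) ≠ 0 := by rw [hq]; exact_mod_cast (pow_pos (by norm_num) _).ne'
  have hq0' : (q : Cyc (orderOf x)) ≠ 0 := by
    intro h
    exact hq0 (by exact_mod_cast congrArg (fun z : Cyc (orderOf x) => (z : ℂ)) h)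
  let z : Cyc (orderOf x) := NC 2 x b χ χ / (q : Cyc (orderOf x))
  have hz : (z : ℂ) = NN 2 x b χ χ / ((2 ^ blockHeight 2 B (χ : G → ℂ) : ℕ) : ℂ) := by
    simp only [z]
    push_cast
    rw [NC_coe, hq]
    push_cast
    rfl
  have h1 : IsIntegral ℤ (z : ℂ) := by
    rw [hz]; exact maj_int hM hx hind.1 hind.2.1 hmaj χ hχ
  have h2 : conj (z : ℂ) = (z : ℂ) := by
    rw [hz, map_div₀, Complex.conj_natCast, NN_real]
  have h3 : MemLocalIdeal M (z : ℂ) := by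
    rw [hz]; exact maj_diag hM hx hind hmaj hχ h0
  obtain ⟨t, ht, ht2⟩ := real_int hM hk z h1 h2
  have h4 : (2 : ℤ) ∣ t := by
    refine (ideal_intCast_iff hM t).1 ?_
    have := ideal_sub h3 ht2
    rwa [sub_sub_cancel] at this
  have h5 : NC 2 x b χ χ = ((q : ℤ) : Cyc (orderOf x)) * z := by
    simp only [z]
    push_cast
    rw [mul_div_cancel₀ _ hq0']
  have h6 : Herm.T (NC 2 x b) χ = ((q * t : ℤ) : ℝ) := by
    unfold Herm.T
    rw [h5, av_int_mul, ht]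
    have : ((q : ℤ) : ℂ) * (t : ℂ) = (((q * t : ℤ) : ℝ) : ℂ) := by push_cast; rfl
    rw [this, Complex.ofReal_re]
  have h7 : 0 < Herm.T (NC 2 x b) χ := by
    have := (NC_herm hM hx hind.1).one_le_T (q_pos b) χ (by
      intro h
      exact maj_diag_ne hM hx hind hmaj hχ (by rw [← NC_coe, h]; rfl))
    linarith
  rw [h6] at h7 ⊢
  have h8 : (0 : ℤ) < q * t := by exact_mod_cast h7
  have hqpos : (0 : ℤ) < q := by rw [hq]; positivity
  have h9 : 0 < t := by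
    by_contra hcon
    have : (q : ℤ) * t ≤ 0 := mul_nonpos_of_nonneg_of_nonpos hqpos.le (by omega)
    omega
  have h10 : 2 ≤ t := by omega
  have h11 : (q : ℤ) * 2 ≤ q * t := mul_le_mul_of_nonneg_left h10 hqpos.le
  have h12 : ((2 ^ (blockHeight 2 B (χ : G → ℂ) + 1) : ℕ) : ℤ) = (q : ℤ) * 2 := by
    rw [hq, pow_succ]; push_cast; rfl
  have h13 : ((2 ^ (blockHeight 2 B (χ : G → ℂ) + 1) : ℕ) : ℤ) ≤ (q : ℤ) * t := by rw [h12]; exact h11
  exact_mod_cast h13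

/-- the main inequality -/
theorem main (hM : IsPModular 2 M) (hx : ∃ k : ℕ, orderOf x = 2 ^ k)
    {b : Set (IrrCharacter (Subgroup.centralizer ({x} : Set G)))}
    {B : Set (IrrCharacter G)} (hind : IsInducedBlock M (Subgroup.centralizer ({x} : Set G)) b B)
    (hmaj : blockDefect 2 b = blockDefect 2 B) (hl : blockRank 2 b ≤ 3)
    (s t : Finset (IrrCharacter G))
    (hs : ∀ χ ∈ s, χ ∈ B ∧ blockHeight 2 B (χ : G → ℂ) = 0)
    (ht : ∀ χ ∈ t, χ ∈ B ∧ 1 ≤ blockHeight 2 B (χ : G → ℂ)) (hne : s.Nonempty) :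
    3 * s.card + 2 * ∑ χ ∈ t, 2 ^ blockHeight 2 B (χ : G → ℂ) ≤ 3 * 2 ^ blockDefect 2 B := by
  classical
  have h := NC_herm hM hx hind.1
  have hdisj : Disjoint s t := by
    rw [Finset.disjoint_left]
    intro χ h1 h2
    have := (hs χ h1).2
    have := (ht χ h2).2
    omega
  have hT : ∀ χ ∈ s, ∃ c : ℕ, Herm.T (NC 2 x b) χ = c ∧ ¬ 2 ∣ c ∧ 1 ≤ c := by
    intro χ hχ
    have h1 := Tz_odd hM hx (NN_unit hM hx hind (hs χ hχ).1 (hs χ hχ).2 (hs χ hχ).1 (hs χ hχ).2)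
    have h2 := h.one_le_T (q_pos b) χ
      (NC_ne hM hx hind (hs χ hχ).1 (hs χ hχ).2 (hs χ hχ).1 (hs χ hχ).2)
    rw [Tz_eq hx] at h2 ⊢
    have h3 : 1 ≤ Tz x b χ := by exact_mod_cast h2
    obtain ⟨c, hc⟩ := Int.eq_ofNat_of_zero_le (show 0 ≤ Tz x b χ by omega)
    refine ⟨c, by rw [hc]; push_cast; rfl, ?_, by omega⟩
    rw [hc] at h1
    intro h4
    exact h1 (Int.natCast_dvd_natCast.2 h4)
  by_cases hex : ∃ χ ∈ s, Herm.T (NC 2 x b) χ = 1
  · obtain ⟨χ, hχ, h1⟩ := hex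
    have h2 := h.weight_le χ (s ∪ t) (fun ψ => 2 ^ blockHeight 2 B (ψ : G → ℂ)) (by
      intro ψ hψ
      have hψB : ψ ∈ B := by
        rcases Finset.mem_union.1 hψ with h | h
        · exact (hs ψ h).1
        · exact (ht ψ h).1
      refine ⟨?_, (pow_pos (by norm_num) _).ne', ?_⟩
      · intro h0
        exact maj_ne hM hx hind hmaj (hs χ hχ).1 (hs χ hχ).2 hψB (by rw [← NC_coe, h0]; rfl)
      · rw [NC_coe]
        exact maj_int hM hx hind.1 hind.2.1 hmaj χ hψB)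
    rw [h1, mul_one] at h2
    have h3 : (∑ ψ ∈ s ∪ t, (2 ^ blockHeight 2 B (ψ : G → ℂ)) ^ 2) ≤ 2 ^ blockDefect 2 b := by
      exact_mod_cast h2
    rw [Finset.sum_union hdisj, hmaj] at h3
    have h4 : ∑ ψ ∈ s, (2 ^ blockHeight 2 B (ψ : G → ℂ)) ^ 2 = s.card := by
      rw [Finset.sum_congr rfl fun ψ hψ => by rw [(hs ψ hψ).2, pow_zero, one_pow]]
      rw [Finset.sum_const, smul_eq_mul, mul_one]
    have h5 : ∑ ψ ∈ t, 2 ^ blockHeight 2 B (ψ : G → ℂ) ≤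
        ∑ ψ ∈ t, (2 ^ blockHeight 2 B (ψ : G → ℂ)) ^ 2 := by
      refine Finset.sum_le_sum fun ψ _ => ?_
      have : 1 ≤ 2 ^ blockHeight 2 B (ψ : G → ℂ) := Nat.one_le_two_pow
      nlinarith
    rw [h4] at h3
    omega
  · push Not at hex
    have h2 := Herm.T_sum (NC_trace hM hx hind.1)
    have h3 : ∑ χ ∈ s ∪ t, Herm.T (NC 2 x b) χ ≤ ∑ χ, Herm.T (NC 2 x b) χ :=
      Finset.sum_le_sum_of_subset_of_nonneg (Finset.subset_univ _)
        (fun χ _ _ => h.T_nonneg (q_pos b) χ)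
    rw [h2, Finset.sum_union hdisj] at h3
    have h4 : (3 * s.card : ℝ) ≤ ∑ χ ∈ s, Herm.T (NC 2 x b) χ := by
      have : (3 * s.card : ℝ) = ∑ χ ∈ s, (3 : ℝ) := by rw [Finset.sum_const, nsmul_eq_mul, mul_comm]
      rw [this]
      refine Finset.sum_le_sum fun χ hχ => ?_
      obtain ⟨c, hc, hc2, hc1⟩ := hT χ hχ
      have h5 := hex χ hχ
      rw [hc] at h5 ⊢
      have h6 : c ≠ 1 := by rintro rfl; exact h5 (by norm_num)
      have : 3 ≤ c := by omega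
      exact_mod_cast this
    have h5 : ((2 * ∑ χ ∈ t, 2 ^ blockHeight 2 B (χ : G → ℂ) : ℕ) : ℝ) ≤
        ∑ χ ∈ t, Herm.T (NC 2 x b) χ := by
      rw [Finset.mul_sum]
      push_cast
      refine Finset.sum_le_sum fun χ hχ => ?_
      have := T_pos_height hM hx hind hmaj (ht χ hχ).1 (ht χ hχ).2
      push_cast at this
      rw [pow_succ] at this
      linarith
    have h6 : ((3 * s.card + 2 * ∑ χ ∈ t, 2 ^ blockHeight 2 B (χ : G → ℂ) : ℕ) : ℝ) ≤
        ((2 ^ blockDefect 2 b * blockRank 2 b : ℕ) : ℝ) := by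
      refine le_trans ?_ h3
      push_cast at h5 ⊢
      linarith
    have h7 : 3 * s.card + 2 * ∑ χ ∈ t, 2 ^ blockHeight 2 B (χ : G → ℂ) ≤
        2 ^ blockDefect 2 b * blockRank 2 b := by exact_mod_cast h6
    refine h7.trans ?_
    rw [hmaj, mul_comm]
    exact Nat.mul_le_mul_right _ hl

end

end Cfsg.Agent.H25.Sub8
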