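import Cfsg.Agent.H25_FMT
import Cfsg.Agent.H25_BPInd
import Cfsg.Agent.H25_Sub8

/-! Existence of major subsections; deficiency classes. -/

open scoped ComplexConjugate

namespace Cfsg.Agent.H25.Major

open Cfsg Cfsg.Agent.H10.BlockLoc Cfsg.Agent.H10.BlockAlg Cfsg.Agent.H10.BlockIdem
  Cfsg.Agent.H10.BlockDefect Cfsg.Agent.H10.BlockSMT2 Cfsg.Agent.H10.BlockKer Cfsg.Agent.H10.BlockMain
  Cfsg.Agent.H3.CharIrr
  Cfsg.Agent.H25.Red Cfsg.Agent.H25.KG Cfsg.Agent.H25.BPTr Cfsg.Agent.H25.BPMain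
  Cfsg.Agent.H25.BPDef Cfsg.Agent.H25.BPNorm Cfsg.Agent.H25.BPSub Cfsg.Agent.H25.FMT
  Cfsg.Agent.H25.BPInd

variable {p : ℕ} {M : Ideal AlgInt} {G : Type*} [Group G] [Fintype G] [hp : Fact p.Prime]

theorem defect_le (hM : IsPModular p M) {H : Subgroup G} [Fintype H] {b : Set (IrrCharacter H)}
    {B : Set (IrrCharacter G)} (hind : IsInducedBlock M H b B) : blockDefect p b ≤ blockDefect p B := by
  haveI := hM.2.1
  obtain ⟨D', hD'⟩ := exists_defectGroup (p := p) hind.1
  obtain ⟨E, hE, hle⟩ := induced_defect_le hM H hind hD'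
  have h1 := card_defectGroup hM hind.1 hD'
  have h2 := card_defectGroup hM hind.2.1 hE
  have h3 := Subgroup.card_le_of_le hle
  rw [Subgroup.card_map_of_injective H.subtype_injective, h1, h2] at h3
  exact (Nat.pow_le_pow_iff_right hp.out.one_lt).1 h3

theorem exists_major' (hM : IsPModular p M) {B : Set (IrrCharacter G)} (hB : IsPBlock M B)
    {D : Subgroup G} (hD : IsDefectGroup p M B D) {Q : Subgroup G} (hQD : Q ≤ D)
    (hDQ : D ≤ Subgroup.centralizer (Q : Set G)) :
    ∃ b : Set (IrrCharacter (Subgroup.centralizer (Q : Set G))),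
      IsInducedBlock M (Subgroup.centralizer (Q : Set G)) b B ∧
      IsDefectGroup p M b (D.subgroupOf (Subgroup.centralizer (Q : Set G))) := by
  have := hM.2.1
  have := charP_KM M hM
  have hDp := IsDefectGroup.isPGroup' hD
  have hDG := (defectG_iff hM hB).1 hD
  obtain ⟨e, he⟩ := exists_bp (isBlk_epG hB) hDp hDG.ne
  obtain ⟨f', hf', hle⟩ := le_exists hDp he.be hQD
  obtain ⟨b, hb, rfl⟩ := exists_ep hf'
  have hDn : D ≤ Subgroup.normalizer (Q : Set G) := fun x hx => Ce_le_Nm Q (hDQ hx)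
  have hne := (lemA hDp he.be hle le_rfl hDn).1
  have hbp := he.down hle
  have hbo : IsBrauerPairOf p M B Q b := bpo_iff.2 ⟨hB, hb, hbp⟩
  have hind := ((bpo_iff_induced hM).1 hbo).2
  refine ⟨b, hind, ?_⟩
  haveI : Fintype (Subgroup.centralizer (Q : Set G)) := Fintype.ofFinite _
  obtain ⟨D', hD'⟩ := exists_defectGroup (p := p) hb
  have hDH' := (defectH_iff hM hb).1 hD'
  rw [defectH_iff' hM hb hDQ]
  refine hDH'.of_card hDQ hDp hne ?_
  rw [Subgroup.card_map_of_injective (Subgroup.centralizer (Q : Set G)).subtype_injective,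
    card_defectGroup hM hb hD', card_defectGroup hM hB hD]
  exact Nat.pow_le_pow_right hp.out.pos (defect_le hM hind)

theorem exists_major (hM : IsPModular p M) {B : Set (IrrCharacter G)} (hB : IsPBlock M B)
    {D : Subgroup G} (hD : IsDefectGroup p M B D) {y : G} (hy : y ∈ D) (hyc : ∀ d ∈ D, d * y = y * d) :
    ∃ b : Set (IrrCharacter (Subgroup.centralizer ({y} : Set G))),
      IsInducedBlock M (Subgroup.centralizer ({y} : Set G)) b B ∧
      IsDefectGroup p M b (D.subgroupOf (Subgroup.centralizer ({y} : Set G))) := by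
  rw [← centralizer_zpowers y]
  refine exists_major' hM hB hD (by rwa [Subgroup.zpowers_le]) ?_
  rw [centralizer_zpowers y]
  intro d hd
  rw [Subgroup.mem_centralizer_singleton_iff]
  exact hyc d hd

theorem defic (hM : IsPModular p M) (r : ℕ)
    (h : ∀ B' : Set (IrrCharacter G), IsPBlock M B' → B' ≠ principalBlock M G → blockDefect p B' < r)
    (y : G) (hy : ∃ k : ℕ, orderOf y = p ^ k)
    (B' : Set (IrrCharacter ↥(Subgroup.centralizer ({y} : Set G)))) (hB' : IsPBlock M B')
    (hne : B' ≠ principalBlock M ↥(Subgroup.centralizer ({y} : Set G))) : blockDefect p B' < r := by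
  haveI := hM.2.1
  haveI : Fintype (Subgroup.centralizer ({y} : Set G)) := Fintype.ofFinite _
  obtain ⟨B, hB⟩ := centralizer_induced_defined hM hy hB'
  refine (defect_le hM hB).trans_lt (h B hB.2.1 ?_)
  rintro rfl
  exact hne ((third_main hM _ ⟨_, hB⟩).1 hB)

theorem defic' (hM : IsPModular p M) (r : ℕ) (hr : 0 < r)
    (h : ∀ y : G, orderOf y = p → ∀ B' : Set (IrrCharacter ↥(Subgroup.centralizer ({y} : Set G))),
      IsPBlock M B' → B' ≠ principalBlock M ↥(Subgroup.centralizer ({y} : Set G)) →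
        blockDefect p B' < r)
    (B : Set (IrrCharacter G)) (hB : IsPBlock M B) (hne : B ≠ principalBlock M G) :
    blockDefect p B < r := by
  haveI := hM.2.1
  obtain ⟨D, hD⟩ := exists_defectGroup (p := p) hB
  have hDp := IsDefectGroup.isPGroup' hD
  rcases Nat.eq_zero_or_pos (blockDefect p B) with h0 | h0
  · omega
  have hc := card_defectGroup hM hB hD
  haveI : Nontrivial D := by
    rw [← Finite.one_lt_card_iff_nontrivial, hc]
    exact Nat.one_lt_pow h0.ne' hp.out.one_lt
  haveI : Fact p.Prime := hp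
  haveI := hDp.center_nontrivial
  have h2 : p ∣ Nat.card (Subgroup.center D) := by
    obtain ⟨n, hn⟩ := (hDp.to_subgroup (Subgroup.center D)).exists_card_eq
    have h3 : 1 < Nat.card (Subgroup.center D) := Finite.one_lt_card
    rw [hn] at h3 ⊢
    rcases Nat.eq_zero_or_pos n with rfl | hn0
    · simp at h3
    · exact dvd_pow_self p hn0.ne'
  obtain ⟨z, hz⟩ := exists_prime_orderOf_dvd_card' p h2
  have hz1 : orderOf (((z : D) : G)) = p := by
    rw [Subgroup.orderOf_coe, Subgroup.orderOf_coe, hz]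
  obtain ⟨b, hb, hbD⟩ := exists_major hM hB hD (y := ((z : D) : G)) (z : D).2 (fun d hd => by
    have := (Subgroup.mem_center_iff.1 z.2) ⟨d, hd⟩
    exact congrArg Subtype.val this)
  have h3 := (H25.Sub8.major_defect hM hB hD (z : D).2 (fun d hd => by
    have := (Subgroup.mem_center_iff.1 z.2) ⟨d, hd⟩
    exact congrArg Subtype.val this) hb.1 hbD).1
  rw [← h3]
  refine h _ hz1 b hb.1 ?_
  rintro rfl
  haveI : Fintype (Subgroup.centralizer ({((z : D) : G)} : Set G)) := Fintype.ofFinite _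
  have h4 := (third_main hM _ ⟨_, hb⟩).2 rfl
  exact hne (H10.BlockInd.isInducedBlock_unique _ hb h4)

end Cfsg.Agent.H25.Major
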