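import Cfsg.Agent.H25_IndCong
import Cfsg.Agent.H10_BlockKul
import Cfsg.Agent.H3_CharGal

/-! Self-dual 2-blocks of full defect are principal. -/

open scoped ComplexConjugate

namespace Cfsg.Agent.H25.Odd

open Cfsg Cfsg.Agent.H3 Cfsg.Agent.H3.CharBasic Cfsg.Agent.H3.CharIrr Cfsg.Agent.H3.CharComplete
  Cfsg.Agent.H25.Brauer Cfsg.Agent.H25.BrauerP Cfsg.Agent.H25.Elem
  Cfsg.Agent.H10.Char Cfsg.Agent.H10.BlockLoc Cfsg.Agent.H10.BlockAlg Cfsg.Agent.H10.BlockIdem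
  Cfsg.Agent.H10.BlockOrth Cfsg.Agent.H10.BlockHZ Cfsg.Agent.H10.BlockInd Cfsg.Agent.H10.BlockKer
  Cfsg.Agent.H25.BlockReg Cfsg.Agent.H25.BlockReg2 Cfsg.Agent.H25.BlockReg3

variable {M : Ideal AlgInt} {G : Type*} [Group G] [Fintype G]

theorem sq_sub (hM : IsPModular 2 M) (χ : IrrCharacter G) (g : G) :
    MemLocalIdeal M ((χ : G → ℂ) g ^ 2 - (χ : G → ℂ) (g ^ 2)) := by
  haveI := hM.2.1
  obtain ⟨d, z, -, hz, hc⟩ := CharGal.IsChar.exists_roots (IsIrr.isCharacter χ.2) (orderOf g)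
    (orderOf_pos g).ne' g (pow_orderOf_eq_one g)
  have h := Cfsg.Agent.H10.BlockKul.sum_pow_sub hM Finset.univ z (fun i _ => memLocalRing_of_integral hM.2.1.ne_top
    (by
      refine IsIntegral.of_pow (orderOf_pos g) ?_
      rw [hz i]; exact isIntegral_one)) 1
  have h1 := hc 1
  rw [pow_one] at h1
  rw [hc 2, h1]
  simpa using h

theorem reg_pow {g : G} (hg : ¬ 2 ∣ orderOf g) :
    g ^ (Nat.card G / 2 ^ (Nat.card G).factorization 2) = 1 := by
  rw [← orderOf_dvd_iff_pow_eq_one]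
  have h1 : orderOf g ∣ Nat.card G := orderOf_dvd_natCard g
  have h2 : (orderOf g).Coprime (2 ^ (Nat.card G).factorization 2) :=
    Nat.Coprime.pow_right _ ((Nat.Prime.coprime_iff_not_dvd Nat.prime_two).2 hg).symm
  refine h2.dvd_of_dvd_mul_left ?_
  rw [Nat.mul_div_cancel' (Nat.ordProj_dvd _ _)]
  exact h1

open Classical in
theorem sum_reg_sq (f : G → ℂ) :
    ∑ g ∈ Finset.univ.filter (fun x : G => ¬ 2 ∣ orderOf x), f (g ^ 2) =
      ∑ g ∈ Finset.univ.filter (fun x : G => ¬ 2 ∣ orderOf x), f g := by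
  set m := Nat.card G / 2 ^ (Nat.card G).factorization 2 with hm
  have hodd : ¬ 2 ∣ m := Nat.not_dvd_ordCompl Nat.prime_two Nat.card_pos.ne'
  have h2 : 2 * ((m + 1) / 2) = m + 1 := by omega
  have hpow : ∀ (g : G) (k : ℕ), ¬ 2 ∣ orderOf g → ¬ 2 ∣ orderOf (g ^ k) := by
    intro g k hg h
    exact hg (h.trans (orderOf_pow_dvd k))
  refine Finset.sum_nbij' (fun g => g ^ 2) (fun g => g ^ ((m + 1) / 2)) ?_ ?_ ?_ ?_ ?_
  · intro g hg
    rw [Finset.mem_filter] at hg ⊢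
    exact ⟨Finset.mem_univ _, hpow g _ hg.2⟩
  · intro g hg
    rw [Finset.mem_filter] at hg ⊢
    exact ⟨Finset.mem_univ _, hpow g _ hg.2⟩
  · intro g hg
    rw [Finset.mem_filter] at hg
    show (g ^ 2) ^ ((m + 1) / 2) = g
    rw [← pow_mul, h2, pow_succ, reg_pow hg.2, one_mul]
  · intro g hg
    rw [Finset.mem_filter] at hg
    show (g ^ ((m + 1) / 2)) ^ 2 = g
    rw [← pow_mul, mul_comm, h2, pow_succ, reg_pow hg.2, one_mul]
  · intro g hg
    rfl

instance two_fact : Fact (Nat.Prime 2) := ⟨Nat.prime_two⟩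

theorem nn_dual (hM : IsPModular 2 M) {χ ψ : IrrCharacter G}
    (h : ∀ g : G, ¬ 2 ∣ orderOf g → (ψ : G → ℂ) g = conj ((χ : G → ℂ) g)) :
    (2 : ℤ) ∣ nn 2 χ ψ - nn 2 χ (triv G) := by
  classical
  haveI := hM.2.1
  have hG : (Nat.card G : ℂ) ≠ 0 := card_cast_ne_zero
  have hq : ((2 ^ (Nat.card G).factorization 2 : ℕ) : ℂ) ≠ 0 := by
    exact_mod_cast (pow_pos (by norm_num) _).ne'
  have hdvd : ((Nat.card G / 2 ^ (Nat.card G).factorization 2 : ℕ) : ℂ) =
      (Nat.card G : ℂ) / ((2 ^ (Nat.card G).factorization 2 : ℕ) : ℂ) :=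
    Nat.cast_div (Nat.ordProj_dvd _ _) hq
  have h1 : ∀ ψ : IrrCharacter G,
      ((Nat.card G / 2 ^ (Nat.card G).factorization 2 : ℕ) : ℂ) * (nn 2 χ ψ : ℂ) =
      ∑ x ∈ Finset.univ.filter (fun x : G => ¬ 2 ∣ orderOf x), (χ : G → ℂ) x * conj ((ψ : G → ℂ) x) := by
    intro ψ
    rw [nn_eq, hdvd]
    field_simp
  have h2 : ((Nat.card G / 2 ^ (Nat.card G).factorization 2 : ℕ) : ℂ) *
      ((nn 2 χ ψ - nn 2 χ (triv G) : ℤ) : ℂ) =
      ∑ x ∈ Finset.univ.filter (fun x : G => ¬ 2 ∣ orderOf x),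
        ((χ : G → ℂ) x ^ 2 - (χ : G → ℂ) (x ^ 2)) := by
    rw [Finset.sum_sub_distrib, sum_reg_sq (χ : G → ℂ)]
    push_cast
    rw [mul_sub, h1, h1]
    congr 1
    · refine Finset.sum_congr rfl fun x hx => ?_
      rw [Finset.mem_filter] at hx
      rw [h x hx.2, Complex.conj_conj, sq]
    · refine Finset.sum_congr rfl fun x hx => ?_
      rw [triv_coe, map_one, mul_one]
  have h3 : MemLocalIdeal M (((((Nat.card G / 2 ^ (Nat.card G).factorization 2 : ℕ) : ℤ) *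
      (nn 2 χ ψ - nn 2 χ (triv G)) : ℤ) : ℂ)) := by
    rw [Int.cast_mul, Int.cast_natCast, h2]
    exact ideal_sum _ _ fun x _ => sq_sub hM χ x
  have h4 := (ideal_intCast_iff hM _).1 h3
  rcases (Int.Prime.dvd_mul' Nat.prime_two h4) with h5 | h5
  · exfalso
    exact Nat.not_dvd_ordCompl Nat.prime_two Nat.card_pos.ne' (Int.natCast_dvd_natCast.1 h5)
  · exact h5

/-- a 2-block of full defect with a character whose dual (on 2-regular elements) stays in the
block is principal -/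
theorem principal_of_dual (hM : IsPModular 2 M) {B : Set (IrrCharacter G)} (hB : IsPBlock M B)
    {χ ψ : IrrCharacter G} (hχ : χ ∈ B) (hψ : ψ ∈ B)
    (hodd : (charDegree (χ : G → ℂ)).factorization 2 = 0)
    (h : ∀ g : G, ¬ 2 ∣ orderOf g → (ψ : G → ℂ) g = conj ((χ : G → ℂ) g)) :
    B = principalBlock M G := by
  haveI := hM.2.1
  have h0 : blockHeight 2 B (χ : G → ℂ) = 0 := by
    rw [height_eq, hodd]; exact Nat.zero_sub _
  have hψ1 : charDegree (ψ : G → ℂ) = charDegree (χ : G → ℂ) := by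
    unfold charDegree
    rw [h 1 (by rw [orderOf_one]; norm_num), Complex.conj_re]
  have h1 := (height_zero_iff' hM hB hχ hψ).1 h0
  rw [hψ1, hodd] at h1
  have h2 : ¬ (2 : ℤ) ∣ nn 2 χ ψ := by
    intro h2
    have := (padicValInt.eq_zero_iff).1 h1.2
    rcases this with h | h | h
    · norm_num at h
    · exact h1.1 h
    · exact h h2
  have h3 : nn 2 χ (triv G) ≠ 0 := by
    intro h3
    have h4 := nn_dual hM h
    rw [h3, sub_zero] at h4
    exact h2 h4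
  have h4 : SameBlock M (χ : G → ℂ) ((triv G : IrrCharacter G) : G → ℂ) := by
    by_contra h4
    exact h3 (nn_eq_zero hM h4)
  exact block_eq_of_mem hB principal_isPBlock (block_mem_of_sameBlock hB hχ h4) triv_mem

end Cfsg.Agent.H25.Odd
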