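import Cfsg.Agent.H10_BlockKul

/-! Cyclic words: powers of sums under trace forms. -/

set_option autoImplicit false
set_option linter.unusedSectionVars false

namespace Cfsg.Agent.H25.STa

open Cfsg.Agent.H10.BlockTrace Cfsg.Agent.H10.BlockKul

section perm
variable {X A : Type*} [Fintype X] [AddCommGroup A] {p : ℕ} [hp : Fact p.Prime]

/-- free permutation of order `p ^ (m+1)` -/
theorem perm_sum (σ : Equiv.Perm X) (m : ℕ) (h1 : σ ^ (p ^ (m + 1)) = 1)
    (h2 : ∀ x, (σ ^ (p ^ m)) x ≠ x) (F : X → A) (hF : ∀ x, F (σ x) = F x) :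
    ∃ T : Finset X, ∑ x, F x = p ^ (m + 1) • ∑ x ∈ T, F x := by
  classical
  rcases isEmpty_or_nonempty X with hX | ⟨⟨x0⟩⟩
  · exact ⟨∅, by simp⟩
  let C := Subgroup.zpowers σ
  haveI : Fintype C := Fintype.ofFinite _
  have hper : ∀ x : X, ∀ r : ℕ, (σ ^ r) x = x → p ^ (m + 1) ∣ r := by
    intro x r hr
    have e : ∀ r : ℕ, (σ ^ r) x = σ^[r] x := fun r => by rw [Equiv.Perm.coe_pow]
    have h3 : Function.minimalPeriod σ x ∣ p ^ (m + 1) := by
      apply Function.IsPeriodicPt.minimalPeriod_dvd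
      show σ^[p ^ (m + 1)] x = x
      rw [← e, h1]; rfl
    have h4 : ¬ Function.minimalPeriod σ x ∣ p ^ m := by
      intro h
      apply h2 x
      rw [e]
      exact (Function.isPeriodicPt_minimalPeriod σ x).trans_dvd h
    obtain ⟨j, hj, hj2⟩ := (Nat.dvd_prime_pow hp.out).1 h3
    have h5 : j = m + 1 := by
      by_contra hne
      apply h4
      rw [hj2]
      exact pow_dvd_pow p (by omega)
    rw [← h5, ← hj2]
    apply Function.IsPeriodicPt.minimalPeriod_dvd
    show σ^[r] x = x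
    rw [← e, hr]
  have hord : orderOf σ = p ^ (m + 1) := by
    apply orderOf_eq_prime_pow _ h1
    intro h
    apply h2 x0
    rw [h]; rfl
  have hcard : Fintype.card C = p ^ (m + 1) := by
    rw [← Nat.card_eq_fintype_card, Nat.card_zpowers, hord]
  have hnat : ∀ c : C, ∃ r : ℕ, (c : Equiv.Perm X) = σ ^ r := by
    rintro ⟨c, hc⟩
    have := (isOfFinOrder_of_finite σ).mem_zpowers_iff_mem_range_orderOf.1 hc
    rw [Finset.mem_image] at this
    obtain ⟨r, -, hr⟩ := this
    exact ⟨r, hr.symm⟩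
  have hinv : ∀ (c : C) (x : X), F (c • x) = F x := by
    intro c x
    obtain ⟨r, hr⟩ := hnat c
    show F ((c : Equiv.Perm X) x) = F x
    rw [hr]
    clear hr c
    induction r with
    | zero => rfl
    | succ r ih => rw [pow_succ', Equiv.Perm.mul_apply, hF, ih]
  obtain ⟨T, hT⟩ := sum_of_free (C := C) F hinv (by
    intro c x hx
    obtain ⟨r, hr⟩ := hnat c
    have hx' : (σ ^ r) x = x := by rw [← hr]; exact hx
    obtain ⟨t, ht⟩ := hper x r hx'
    apply Subtype.ext
    rw [hr, ht, pow_mul, h1, one_pow]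
    rfl)
  exact ⟨T, by rw [hT, hcard]⟩

/-- sums over non-periodic points -/
theorem perm_sum' (σ : Equiv.Perm X) (N : ℕ) (h1 : σ ^ (p ^ N) = 1)
    (F : X → A) (hF : ∀ x, F (σ x) = F x) (O : AddSubgroup A) (hO : ∀ x, F x ∈ O)
    [DecidableEq X] (s : ℕ) (hs : s ≤ N) :
    ∃ z ∈ O, ∑ x, F x = (∑ x ∈ Finset.univ.filter (fun x => (σ ^ (p ^ s)) x = x), F x) + p ^ (s + 1) • z := by
  classical
  have key : ∀ t : ℕ, s ≤ t → ∃ z ∈ O, ∑ x ∈ Finset.univ.filter (fun x => (σ ^ (p ^ t)) x = x), F x =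
      (∑ x ∈ Finset.univ.filter (fun x => (σ ^ (p ^ s)) x = x), F x) + p ^ (s + 1) • z := by
    intro t ht
    induction t, ht using Nat.le_induction with
    | base => exact ⟨0, O.zero_mem, by rw [smul_zero, add_zero]⟩
    | succ t ht ih =>
      obtain ⟨z, hz, hzz⟩ := ih
      -- the points of exact period p^(t+1)
      let Y := {x : X // (σ ^ (p ^ (t + 1))) x = x ∧ (σ ^ (p ^ t)) x ≠ x}
      have hcomm : ∀ (r : ℕ) (x : X), (σ ^ r) (σ x) = σ ((σ ^ r) x) := by
        intro r x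
        rw [← Equiv.Perm.mul_apply, ← Equiv.Perm.mul_apply, ← pow_succ, ← pow_succ']
      have hmem : ∀ x, ((σ ^ (p ^ (t + 1))) x = x ∧ (σ ^ (p ^ t)) x ≠ x) ↔
          ((σ ^ (p ^ (t + 1))) (σ x) = σ x ∧ (σ ^ (p ^ t)) (σ x) ≠ σ x) := by
        intro x
        rw [hcomm, hcomm]
        simp
      let τ : Equiv.Perm Y := σ.subtypePerm fun x => (hmem x).symm
      have hτ : ∀ (r : ℕ) (y : Y), (((τ ^ r) y : Y) : X) = (σ ^ r) y := by
        intro r y
        induction r with
        | zero => rfl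
        | succ r ih =>
          have e3 : (τ ^ (r + 1)) y = τ ((τ ^ r) y) := by rw [pow_succ' τ r]; rfl
          have e4 : (σ ^ (r + 1)) (y : X) = σ ((σ ^ r) y) := by rw [pow_succ' σ r]; rfl
          rw [e3, e4, ← ih]; rfl
      obtain ⟨T, hT⟩ := perm_sum (p := p) τ t (by
        apply Equiv.ext
        intro y
        apply Subtype.ext
        rw [hτ]
        exact y.2.1) (fun y h => y.2.2 (by rw [← hτ, h])) (fun y : Y => F y) (fun y => hF y)
      refine ⟨z + p ^ (t - s) • ∑ y ∈ T, F (y : X), O.add_mem hz (O.nsmul_mem (O.sum_mem fun y _ => hO _) _), ?_⟩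
      have e1 : ∑ x ∈ Finset.univ.filter (fun x => (σ ^ (p ^ (t + 1))) x = x), F x =
          (∑ x ∈ Finset.univ.filter (fun x => (σ ^ (p ^ t)) x = x), F x) + ∑ y : Y, F (y : X) := by
        have e2 : ∑ y : Y, F (y : X) = ∑ x ∈ Finset.univ.filter
            (fun x => (σ ^ (p ^ (t + 1))) x = x ∧ (σ ^ (p ^ t)) x ≠ x), F x := by
          rw [Finset.sum_subtype (p := fun x => (σ ^ (p ^ (t + 1))) x = x ∧ (σ ^ (p ^ t)) x ≠ x)]
          intro x
          rw [Finset.mem_filter]
          simp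
        rw [e2, ← Finset.sum_filter_add_sum_filter_not
          (Finset.univ.filter (fun x => (σ ^ (p ^ (t + 1))) x = x)) (fun x => (σ ^ (p ^ t)) x = x)]
        rw [Finset.filter_filter, Finset.filter_filter]
        congr 1
        refine Finset.sum_congr ?_ fun _ _ => rfl
        ext x
        rw [Finset.mem_filter, Finset.mem_filter]
        constructor
        · rintro ⟨h, h3, h4⟩; exact ⟨h, h4⟩
        · rintro ⟨h, h4⟩
          refine ⟨h, ?_, h4⟩
          have e : ∀ (r : ℕ) (x : X), (σ ^ r) x = σ^[r] x := fun r x => by rw [Equiv.Perm.coe_pow]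
          rw [e] at h4 ⊢
          exact (show Function.IsPeriodicPt σ (p ^ t) x from h4).trans_dvd (pow_dvd_pow p (Nat.le_succ t))
      rw [e1, hzz, hT, smul_add, smul_smul, ← pow_add, add_assoc, show s + 1 + (t - s) = t + 1 by omega]
  obtain ⟨z, hz, hzz⟩ := key N hs
  refine ⟨z, hz, ?_⟩
  rw [← hzz]
  refine Finset.sum_congr ?_ fun _ _ => rfl
  rw [h1]
  ext x
  rw [Finset.mem_filter]
  simp

end perm

section words
variable {ι R : Type*} [Fintype ι] [Ring R] {p : ℕ} [hp : Fact p.Prime]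

/-- the product along a word -/
def wd (a : ι → R) {n : ℕ} (w : Fin n → ι) : R := (List.ofFn fun k => a (w k)).prod

theorem wd_rot (a : ι → R) {A : Type*} [AddCommGroup A] (T : R →+ A) (hT : ∀ x y, T (x * y) = T (y * x))
    {n : ℕ} (w : Fin (n + 1) → ι) : T (wd a (rot ι n w)) = T (wd a w) := by
  have h1 : rot ι n w = Fin.snoc (fun k : Fin n => w k.succ) (w 0) := by
    funext k
    refine Fin.lastCases ?_ (fun k => ?_) k
    · rw [Fin.snoc_last]
      show w (Fin.last n + 1) = w 0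
      rw [Fin.last_add_one]
    · rw [Fin.snoc_castSucc]
      show w (k.castSucc + 1) = w k.succ
      rw [Fin.coeSucc_eq_succ]
  unfold wd
  rw [h1, List.ofFn_succ', List.ofFn_succ]
  simp only [Fin.snoc_castSucc, Fin.snoc_last]
  rw [List.concat_eq_append, List.prod_append, List.prod_cons, List.prod_cons, List.prod_nil, mul_one, hT]

/-- periodic extension of a word -/
def pext {l n : ℕ} (hl : 0 < l) (w : Fin l → ι) : Fin n → ι := fun k => w ⟨(k : ℕ) % l, Nat.mod_lt _ hl⟩

theorem wd_pext (a : ι → R) {l m n : ℕ} (hl : 0 < l) (hn : n = m * l) (w : Fin l → ι) :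
    wd a (pext (n := n) hl w) = (wd a w) ^ m := by
  subst hn
  unfold wd
  rw [List.ofFn_mul, List.prod_flatten, List.map_ofFn]
  have : ∀ i : Fin m, (List.ofFn fun j : Fin l => a (pext (n := m * l) hl w ⟨(i : ℕ) * l + j, by
      have h1 := Nat.add_lt_add_left j.prop (i * l)
      have h2 : (i : ℕ) * l + l = (i + 1) * l := by ring
      exact lt_of_lt_of_le h1 (h2 ▸ Nat.mul_le_mul_right _ i.prop)⟩)) = List.ofFn fun k => a (w k) := by
    intro i
    congr 1
    funext j
    congr 1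
    unfold pext
    congr 1
    apply Fin.ext
    show ((i : ℕ) * l + j) % l = j
    rw [mul_comm, Nat.mul_add_mod, Nat.mod_eq_of_lt j.2]
  have h2 : (List.prod ∘ fun i : Fin m => List.ofFn fun j : Fin l => a (pext (n := m * l) hl w ⟨(i : ℕ) * l + j, by
      have h1 := Nat.add_lt_add_left j.prop (i * l)
      have h2 : (i : ℕ) * l + l = (i + 1) * l := by ring
      exact lt_of_lt_of_le h1 (h2 ▸ Nat.mul_le_mul_right _ i.prop)⟩)) = fun _ => (List.ofFn fun k => a (w k)).prod := by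
    funext i
    exact congrArg List.prod (this i)
  rw [h2, List.ofFn_const, List.prod_replicate]

theorem pext_inj {l n : ℕ} (hl : 0 < l) (hln : l ≤ n) :
    Function.Injective (pext (ι := ι) (n := n) hl) := by
  intro w w' h
  funext j
  have := congrFun h ⟨j, lt_of_lt_of_le j.2 hln⟩
  unfold pext at this
  simp only [Nat.mod_eq_of_lt j.2] at this
  exact this

theorem rot_pow'' (n r : ℕ) (f : Fin (n + 1) → ι) (k : Fin (n + 1)) :
    ((rot ι n) ^ r) f k = f ⟨((k : ℕ) + r) % (n + 1), Nat.mod_lt _ (Nat.succ_pos n)⟩ := by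
  induction r generalizing k with
  | zero =>
    rw [pow_zero]
    show f k = _
    congr 1
    apply Fin.ext
    show (k : ℕ) = ((k : ℕ) + 0) % (n + 1)
    rw [add_zero, Nat.mod_eq_of_lt k.2]
  | succ r ih =>
    rw [pow_succ', Equiv.Perm.mul_apply]
    show ((rot ι n) ^ r) f (k + 1) = _
    rw [ih]
    congr 1
    apply Fin.ext
    show (((k + 1 : Fin (n + 1)) : ℕ) + r) % (n + 1) = ((k : ℕ) + (r + 1)) % (n + 1)
    have h1 : ((1 : Fin (n + 1)) : ℕ) = 1 % (n + 1) := rfl
    rw [Fin.val_add, Nat.mod_add_mod, h1, Nat.add_right_comm, Nat.add_mod_mod]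
    congr 1

theorem rot_pow_self' (n : ℕ) : (rot ι n) ^ (n + 1) = 1 := by
  apply Equiv.ext
  intro f
  funext k
  rw [rot_pow'']
  show _ = f k
  congr 1
  apply Fin.ext
  show ((k : ℕ) + (n + 1)) % (n + 1) = k
  rw [Nat.add_mod_right, Nat.mod_eq_of_lt k.2]

theorem rot_fix_iff {l m n : ℕ} (hl : 0 < l) (hn : n + 1 = m * l) (w : Fin (n + 1) → ι) :
    (rot ι n ^ l) w = w ↔ ∃ w' : Fin l → ι, pext hl w' = w := by
  have hm : 0 < m := Nat.pos_of_ne_zero fun h => by rw [h, zero_mul] at hn; omega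
  have hle : l ≤ n + 1 := by rw [hn]; exact Nat.le_mul_of_pos_left l hm
  constructor
  · intro h
    have h1 : ∀ k : Fin (n + 1), w ⟨((k : ℕ) + l) % (n + 1), Nat.mod_lt _ (Nat.succ_pos n)⟩ = w k := fun k => by
      have h0 := rot_pow'' n l w k
      rw [h] at h0
      exact h0.symm
    have h2 : ∀ (q : ℕ) (r : ℕ) (hr : r + q * l < n + 1) (hr' : r < n + 1), w ⟨r + q * l, hr⟩ = w ⟨r, hr'⟩ := by
      intro q
      induction q with
      | zero => intro r hr hr'; congr 1; apply Fin.ext; simp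
      | succ q ih =>
        intro r hr hr'
        have h4 : (q + 1) * l = q * l + l := by ring
        have h3 : r + q * l < n + 1 := by omega
        rw [← ih r h3 hr', ← h1 ⟨r + q * l, h3⟩]
        congr 1
        apply Fin.ext
        show r + (q + 1) * l = (r + q * l + l) % (n + 1)
        rw [Nat.mod_eq_of_lt (by omega)]
        omega
    refine ⟨fun j => w ⟨j, lt_of_lt_of_le j.2 hle⟩, ?_⟩
    funext k
    have h4 := h2 ((k : ℕ) / l) ((k : ℕ) % l) (by rw [Nat.mod_add_div']; exact k.2)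
      (lt_of_lt_of_le (Nat.mod_lt _ hl) hle)
    refine h4.symm.trans ?_
    congr 1
    apply Fin.ext
    exact Nat.mod_add_div' _ _
  · rintro ⟨w', rfl⟩
    funext k
    rw [rot_pow'']
    unfold pext
    congr 1
    apply Fin.ext
    show ((k : ℕ) + l) % (n + 1) % l = (k : ℕ) % l
    rw [Nat.mod_mod_of_dvd _ ⟨m, by rw [hn, mul_comm]⟩, Nat.add_mod_right]

/-- powers of sums under trace forms -/
theorem cw (a : ι → R) {A : Type*} [AddCommGroup A] (T : R →+ A) (hT : ∀ x y, T (x * y) = T (y * x))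
    (O : AddSubgroup A) (hO : ∀ x, T x ∈ O) {s N : ℕ} (hs : s ≤ N) :
    ∃ z ∈ O, T ((∑ i, a i) ^ (p ^ N)) =
      (∑ w : Fin (p ^ s) → ι, T ((wd a w) ^ (p ^ (N - s)))) + p ^ (s + 1) • z := by
  classical
  obtain ⟨n, hn⟩ : ∃ n, p ^ N = n + 1 :=
    ⟨p ^ N - 1, (Nat.succ_pred_eq_of_pos (pow_pos hp.out.pos N)).symm⟩
  have hl : 0 < p ^ s := pow_pos hp.out.pos s
  have hn' : n + 1 = p ^ (N - s) * p ^ s := by rw [← hn, ← pow_add]; congr 1; omega
  obtain ⟨z, hz, hzz⟩ := perm_sum' (p := p) (rot ι n) N (by rw [hn]; exact rot_pow_self' n)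
    (fun w => T (wd a w)) (fun w => wd_rot a T hT w) O (fun w => hO _) s hs
  refine ⟨z, hz, ?_⟩
  have e1 : T ((∑ i, a i) ^ (p ^ N)) = ∑ w : Fin (n + 1) → ι, T (wd a w) := by
    rw [hn, sum_pow_ofFn, map_sum]; rfl
  rw [e1, hzz]
  congr 1
  have hle : p ^ s ≤ n + 1 := by rw [← hn]; exact Nat.pow_le_pow_right hp.out.pos hs
  have e2 : Finset.univ.filter (fun w : Fin (n + 1) → ι => (rot ι n ^ p ^ s) w = w) =
      Finset.univ.image (pext (ι := ι) (n := n + 1) hl) := by
    ext w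
    rw [Finset.mem_filter, Finset.mem_image, rot_fix_iff hl hn']
    simp
  rw [e2, Finset.sum_image (fun x _ y _ h => pext_inj hl hle h)]
  refine Finset.sum_congr rfl fun w _ => ?_
  rw [wd_pext a hl hn']

end words

end Cfsg.Agent.H25.STa
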