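import Cfsg.Agent.H25_STa
import Cfsg.Agent.H25_BPTr

/-! Small elements and trace forms over the local ring. -/

set_option autoImplicit false
set_option linter.unusedSectionVars false

open scoped ComplexConjugate

namespace Cfsg.Agent.H25.STb

open Cfsg Cfsg.Agent.H3 Cfsg.Agent.H3.CharBasic Cfsg.Agent.H3.CharIrr Cfsg.Agent.H3.CharComplete
  Cfsg.Agent.H10.Char Cfsg.Agent.H10.BlockLoc Cfsg.Agent.H10.BlockAlg Cfsg.Agent.H10.BlockIdem
  Cfsg.Agent.H10.BlockSMT Cfsg.Agent.H25.STa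

variable {p : ℕ} {M : Ideal AlgInt}

section loc

theorem nilp_mod (hM : IsPModular p M) {a : AlgInt} (ha : a ∈ M) :
    ∃ (n : ℕ) (s b : AlgInt), s ∉ M ∧ s * a ^ n = (p : AlgInt) * b := by
  by_contra hcon
  push_neg at hcon
  haveI := hM.2.1
  have hMp : M.IsPrime := hM.2.1.isPrime
  have h1M : (1 : AlgInt) ∉ M := fun h => hMp.ne_top ((Ideal.eq_top_iff_one M).2 h)
  let S : Submonoid AlgInt :=
    { carrier := {x | ∃ (n : ℕ) (s : AlgInt), s ∉ M ∧ s * a ^ n = x}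
      one_mem' := ⟨0, 1, h1M, by simp⟩
      mul_mem' := by
        rintro x y ⟨n, s, hs, rfl⟩ ⟨m, t, ht, rfl⟩
        exact ⟨n + m, s * t, fun h => (hMp.mem_or_mem h).elim hs ht, by ring⟩ }
  have hdis : Disjoint ((Ideal.span {(p : AlgInt)} : Ideal AlgInt) : Set AlgInt) (S : Set AlgInt) := by
    rw [Set.disjoint_left]
    rintro x hx ⟨n, s, hs, rfl⟩
    rw [SetLike.mem_coe, Ideal.mem_span_singleton'] at hx
    obtain ⟨b, hb⟩ := hx
    exact hcon n s b hs (by rw [← hb, mul_comm])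
  obtain ⟨q, hq, hpq, hqS⟩ := Ideal.exists_le_prime_disjoint _ S hdis
  have hqM : q ≤ M := by
    intro x hx
    by_contra hxM
    exact Set.disjoint_left.1 hqS hx ⟨0, x, hxM, by simp⟩
  have hpz : (p : AlgInt) ∈ q := hpq (Ideal.mem_span_singleton_self _)
  have hmaxZ : (q.comap (algebraMap ℤ AlgInt)).IsMaximal := by
    have h1 : Ideal.span {(p : ℤ)} ≤ q.comap (algebraMap ℤ AlgInt) := by
      rw [Ideal.span_singleton_le_iff_mem, Ideal.mem_comap]
      simpa using hpz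
    have h2 : (Ideal.span {(p : ℤ)}).IsMaximal := by
      haveI : Fact p.Prime := ⟨hM.1⟩
      exact Int.ideal_span_isMaximal_of_prime p
    have h3 : q.comap (algebraMap ℤ AlgInt) ≠ ⊤ := by
      rw [Ne, Ideal.comap_eq_top_iff]; exact hq.ne_top
    rw [← h2.eq_of_le h3 h1]
    exact h2
  haveI := hq
  have hqmax : q.IsMaximal := Ideal.isMaximal_of_isIntegral_of_isMaximal_comap q hmaxZ
  have hqe : q = M := hqmax.eq_of_le hMp.ne_top hqM
  have haq : a ∈ q := hqe ▸ ha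
  exact Set.disjoint_left.1 hqS haq ⟨1, 1, h1M, by simp⟩

theorem ideal_pow_div (hM : IsPModular p M) {z : ℂ} (hz : MemLocalIdeal M z) :
    ∃ n : ℕ, MemLocalRing M (z ^ n / p) := by
  haveI := hM.2.1
  have hMp : M.IsPrime := hM.2.1.isPrime
  obtain ⟨a, b, ha, hb, rfl⟩ := hz
  obtain ⟨n, s, c, hs, h⟩ := nilp_mod hM ha
  refine ⟨n, c, s * b ^ n, fun h1 => (hMp.mem_or_mem h1).elim hs fun h2 => hb (hMp.mem_of_pow_mem n h2), ?_⟩
  have hp0 : (p : ℂ) ≠ 0 := by exact_mod_cast hM.1.ne_zero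
  have hb0 := coe_ne_zero_of_notMem hb
  have hs0 := coe_ne_zero_of_notMem hs
  have h' : (s : ℂ) * (a : ℂ) ^ n = p * c := by exact_mod_cast congrArg (fun x : AlgInt => (x : ℂ)) h
  push_cast
  rw [div_pow, div_div, div_eq_div_iff (mul_ne_zero hs0 (pow_ne_zero _ hb0)) (mul_ne_zero (pow_ne_zero _ hb0) hp0)]
  linear_combination (-(b : ℂ) ^ n) * h'

end loc

section alg
variable {G : Type*} [Group G] [Fintype G]

/-- coefficients in an ideal of the local ring -/
def AJ [M.IsPrime] (J : Ideal (locRing M)) (x : MonoidAlgebra ℂ G) : Prop :=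
  ∀ g, ∃ c ∈ J, ((c : locRing M) : ℂ) = x.coeff g

theorem AJ.mul [M.IsPrime] {J J' : Ideal (locRing M)} {x y : MonoidAlgebra ℂ G} (hx : AJ J x) (hy : AJ J' y) :
    AJ (J * J') (x * y) := by
  intro g
  choose c hc hc' using hx
  choose d hd hd' using hy
  refine ⟨∑ h : G, c h * d (h⁻¹ * g), Ideal.sum_mem _ fun h _ => Ideal.mul_mem_mul (hc _) (hd _), ?_⟩
  rw [coeff_mul_left]
  push_cast
  exact Finset.sum_congr rfl fun h _ => by rw [hc', hd']

theorem AJ.pow [M.IsMaximal] {J : Ideal (locRing M)} {x : MonoidAlgebra ℂ G} (hx : AJ J x) (n : ℕ) :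
    AJ (J ^ n) (x ^ n) := by
  induction n with
  | zero =>
    rw [pow_zero, pow_zero, Ideal.one_eq_top]
    intro g
    exact ⟨⟨_, (intA G M).one_mem g⟩, trivial, rfl⟩
  | succ n ih => rw [pow_succ, pow_succ]; exact ih.mul hx

theorem AJ.mono [M.IsPrime] {J J' : Ideal (locRing M)} (h : J ≤ J') {x : MonoidAlgebra ℂ G} (hx : AJ J x) : AJ J' x :=
  fun g => let ⟨c, hc, h'⟩ := hx g; ⟨c, h hc, h'⟩

/-- small elements -/
def Sml (M : Ideal AlgInt) (x : MonoidAlgebra ℂ G) : Prop := ∀ g, MemLocalIdeal M (x.coeff g)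

theorem Sml.int [M.IsMaximal] {x : MonoidAlgebra ℂ G} (h : Sml M x) : x ∈ intA G M := fun g =>
  memLocalRing_of_memLocalIdeal (h g)

theorem Sml.mul_left [M.IsMaximal] {x y : MonoidAlgebra ℂ G} (hx : x ∈ intA G M) (hy : Sml M y) : Sml M (x * y) := by
  intro g
  rw [coeff_mul_left]
  exact ideal_sum _ _ fun h _ => ideal_mul_left (hx h) (hy _)

theorem Sml.mul_right [M.IsMaximal] {x y : MonoidAlgebra ℂ G} (hx : Sml M x) (hy : y ∈ intA G M) : Sml M (x * y) := by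
  intro g
  rw [coeff_mul_left]
  exact ideal_sum _ _ fun h _ => ideal_mul_right (hx h) (hy _)

theorem Sml.add [M.IsMaximal] {x y : MonoidAlgebra ℂ G} (hx : Sml M x) (hy : Sml M y) : Sml M (x + y) := fun g => by
  rw [MonoidAlgebra.coeff_add, Finsupp.add_apply]; exact ideal_add (hx g) (hy g)

theorem Sml.neg [M.IsMaximal] {x : MonoidAlgebra ℂ G} (hx : Sml M x) : Sml M (-x) := fun g => by
  rw [MonoidAlgebra.coeff_neg, Finsupp.neg_apply]; exact ideal_neg (hx g)

theorem Sml.sub [M.IsMaximal] {x y : MonoidAlgebra ℂ G} (hx : Sml M x) (hy : Sml M y) : Sml M (x - y) := by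
  rw [sub_eq_add_neg]; exact hx.add hy.neg

theorem Sml.zero [M.IsMaximal] : Sml M (0 : MonoidAlgebra ℂ G) := fun g => by
  rw [MonoidAlgebra.coeff_zero, Finsupp.zero_apply]; exact ideal_zero

theorem Sml.sum [M.IsMaximal] {ι : Type*} (s : Finset ι) (f : ι → MonoidAlgebra ℂ G) (h : ∀ i ∈ s, Sml M (f i)) :
    Sml M (∑ i ∈ s, f i) := by
  classical
  induction s using Finset.induction_on with
  | empty => rw [Finset.sum_empty]; exact Sml.zero
  | insert a s ha ih =>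
    rw [Finset.sum_insert ha]
    exact (h a (Finset.mem_insert_self _ _)).add (ih fun i hi => h i (Finset.mem_insert_of_mem hi))

/-- high powers of small elements are divisible by high powers of `p` -/
theorem Sml.pow_div [M.IsMaximal] (hM : IsPModular p M) {x : MonoidAlgebra ℂ G} (hx : Sml M x) (q : ℕ) :
    ∃ L0 : ℕ, ∀ L ≥ L0, ∃ y ∈ intA G M, x ^ L = ((p : ℂ) ^ q) • y := by
  classical
  let c : G → locRing M := fun g => ⟨x.coeff g, memLocalRing_of_memLocalIdeal (hx g)⟩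
  let J : Ideal (locRing M) := Ideal.span (Set.range c)
  have hJ : J.FG := ⟨Finset.univ.image c, by rw [Finset.coe_image, Finset.coe_univ, Set.image_univ]⟩
  have hp0 : (p : ℂ) ≠ 0 := by exact_mod_cast hM.1.ne_zero
  have hrad : J ≤ (Ideal.span {(p : locRing M)}).radical := by
    rw [Ideal.span_le]
    rintro _ ⟨g, rfl⟩
    obtain ⟨n, hn⟩ := ideal_pow_div hM (hx g)
    refine ⟨n, Ideal.mem_span_singleton'.2 ⟨⟨_, hn⟩, ?_⟩⟩
    apply Subtype.ext
    show (x.coeff g) ^ n / p * ((p : locRing M) : ℂ) = ((c g ^ n : locRing M) : ℂ)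
    push_cast
    field_simp
    rfl
  obtain ⟨n, hn⟩ := Ideal.exists_pow_le_of_le_radical_of_fg hrad hJ
  have hxJ : AJ J x := fun g => ⟨c g, Ideal.subset_span ⟨g, rfl⟩, rfl⟩
  refine ⟨n * q, fun L hL => ?_⟩
  have h1 : J ^ L ≤ Ideal.span {((p : locRing M)) ^ q} := by
    refine (Ideal.pow_le_pow_right hL).trans ?_
    rw [pow_mul, ← Ideal.span_singleton_pow]
    exact Ideal.pow_right_mono hn q
  have h2 := (hxJ.pow L).mono h1
  refine ⟨((p : ℂ) ^ q)⁻¹ • x ^ L, fun g => ?_, ?_⟩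
  · obtain ⟨d, hd, hd'⟩ := h2 g
    rw [Ideal.mem_span_singleton'] at hd
    obtain ⟨b, hb⟩ := hd
    rw [MonoidAlgebra.coeff_smul, Finsupp.smul_apply, ← hd', ← hb, smul_eq_mul]
    have : ((p : ℂ) ^ q)⁻¹ * ((b * (p : locRing M) ^ q : locRing M) : ℂ) = (b : ℂ) := by
      push_cast
      field_simp
    rw [this]
    exact b.2
  · rw [smul_smul, mul_inv_cancel₀ (pow_ne_zero _ hp0), one_smul]

/-- coefficients of an integral element are integral under linear extension of integral functions -/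
theorem lin_int [M.IsMaximal] {φ : G → ℂ} (hφ : ∀ g, MemLocalRing M (φ g)) {x : MonoidAlgebra ℂ G}
    (hx : x ∈ intA G M) : MemLocalRing M (lin φ x) := by
  rw [lin_apply]
  exact ring_sum _ _ fun g _ => ring_mul (hx g) (hφ g)

/-- a trace form on a subring of the integral group ring -/
structure TF (M : Ideal AlgInt) [M.IsMaximal] (R : Subring (MonoidAlgebra ℂ G)) (T : MonoidAlgebra ℂ G →ₗ[ℂ] ℂ) :
    Prop where
  le : R ≤ intA G M
  int : ∀ x ∈ intA G M, MemLocalRing M (T x)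
  comm : ∀ x ∈ R, ∀ y ∈ R, T (x * y) = T (y * x)

namespace TF
variable [hMax : M.IsMaximal] {R : Subring (MonoidAlgebra ℂ G)} {T : MonoidAlgebra ℂ G →ₗ[ℂ] ℂ}

theorem cw (h : TF M R T) [hp : Fact p.Prime] {ι : Type*} [Fintype ι] (a : ι → MonoidAlgebra ℂ G)
    (ha : ∀ i, a i ∈ R) {s N : ℕ} (hs : s ≤ N) :
    ∃ z, MemLocalRing M z ∧ T ((∑ i, a i) ^ (p ^ N)) =
      (∑ w : Fin (p ^ s) → ι, T ((wd a w) ^ (p ^ (N - s)))) + (p : ℂ) ^ (s + 1) * z := by
  classical
  let T' : R →+ ℂ := T.toAddMonoidHom.comp R.subtype.toAddMonoidHom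
  obtain ⟨z, hz, hzz⟩ := STa.cw (p := p) (fun i => (⟨a i, ha i⟩ : R)) T' (fun x y => h.comm x x.2 y y.2)
    ((locRing M).toAddSubgroup) (fun x => h.int _ (h.le x.2)) hs
  refine ⟨z, hz, ?_⟩
  have e1 : ∀ (n : ℕ) (w : Fin n → ι), ((wd (fun i => (⟨a i, ha i⟩ : R)) w : R) : MonoidAlgebra ℂ G) = wd a w := by
    intro n w
    unfold wd
    rw [← Subring.coe_subtype, map_list_prod, List.map_ofFn]
    rfl
  have e2 : T' ((∑ i, (⟨a i, ha i⟩ : R)) ^ (p ^ N)) = T ((∑ i, a i) ^ (p ^ N)) := by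
    show T ((((∑ i, (⟨a i, ha i⟩ : R)) ^ (p ^ N) : R)) : MonoidAlgebra ℂ G) = _
    push_cast
    rfl
  have e3 : ∀ w : Fin (p ^ s) → ι, T' ((wd (fun i => (⟨a i, ha i⟩ : R)) w) ^ (p ^ (N - s))) =
      T ((wd a w) ^ (p ^ (N - s))) := by
    intro w
    show T (((wd (fun i => (⟨a i, ha i⟩ : R)) w ^ (p ^ (N - s)) : R)) : MonoidAlgebra ℂ G) = _
    push_cast
    rw [e1]
  rw [← e2, hzz, Finset.sum_congr rfl fun w _ => e3 w]
  congr 1
  rw [nsmul_eq_mul]
  push_cast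
  rfl

theorem wd_mem {ι : Type*} {a : ι → MonoidAlgebra ℂ G} (ha : ∀ i, a i ∈ R) {n : ℕ} (w : Fin n → ι) : wd a w ∈ R := by
  unfold wd
  apply Subring.list_prod_mem
  intro x hx
  rw [List.mem_ofFn] at hx
  obtain ⟨k, rfl⟩ := hx
  exact ha _

theorem wd_sml {ι : Type*} {a : ι → MonoidAlgebra ℂ G} (ha : ∀ i, a i ∈ intA G M) {n : ℕ} (w : Fin n → ι)
    {k : Fin n} (hk : Sml M (a (w k))) : Sml M (wd a w) := by
  unfold wd
  induction n with
  | zero => exact k.elim0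
  | succ n ih =>
    rw [List.ofFn_succ, List.prod_cons]
    rcases Fin.eq_zero_or_eq_succ k with rfl | ⟨j, rfl⟩
    · refine hk.mul_right ?_
      apply Subring.list_prod_mem
      intro x hx
      rw [List.mem_ofFn] at hx
      obtain ⟨k, rfl⟩ := hx
      exact ha _
    · exact Sml.mul_left (ha _) (ih (fun i => w i.succ) hk)

/-- congruence of high powers -/
theorem close (h : TF M R T) (hM : IsPModular p M) {x y : MonoidAlgebra ℂ G} (hx : x ∈ R) (hy : y ∈ R)
    (hxy : Sml M (x - y)) (q : ℕ) :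
    ∃ N0 : ℕ, ∀ N ≥ N0, ∃ z, MemLocalRing M z ∧ T (x ^ (p ^ N)) = T (y ^ (p ^ N)) + (p : ℂ) ^ q * z := by
  classical
  haveI : Fact p.Prime := ⟨hM.1⟩
  let a : Fin 2 → MonoidAlgebra ℂ G := ![y, x - y]
  have ha : ∀ i, a i ∈ R := by
    intro i; fin_cases i
    · exact hy
    · exact R.sub_mem hx hy
  have hsum : ∑ i, a i = x := by
    rw [Fin.sum_univ_two]
    show y + (x - y) = x
    abel
  -- bound for words with a small letter
  have hb : ∀ w : Fin (p ^ q) → Fin 2, ∃ L0 : ℕ, w ≠ (fun _ => 0) → ∀ L ≥ L0, ∃ z, MemLocalRing M z ∧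
      T ((wd a w) ^ L) = (p : ℂ) ^ q * z := by
    intro w
    by_cases hw : w = fun _ => 0
    · exact ⟨0, fun h => absurd hw h⟩
    · have hk : ∃ k, w k = 1 := by
        by_contra hcon
        push_neg at hcon
        apply hw
        funext k
        have := hcon k
        match hh : w k with
        | 0 => rfl
        | 1 => exact absurd hh this
      obtain ⟨k, hk⟩ := hk
      have hs : Sml M (wd a w) := wd_sml (fun i => h.le (ha i)) w (k := k) (by rw [hk]; exact hxy)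
      obtain ⟨L0, hL0⟩ := hs.pow_div hM q
      refine ⟨L0, fun _ L hL => ?_⟩
      obtain ⟨v, hv, hv'⟩ := hL0 L hL
      exact ⟨T v, h.int v hv, by rw [hv', map_smul, smul_eq_mul]⟩
  choose L0 hL0 using hb
  refine ⟨q + ∑ w, L0 w, fun N hN => ?_⟩
  obtain ⟨z, hz, hzz⟩ := h.cw (p := p) a ha (show q ≤ N by omega)
  rw [hsum] at hzz
  have hlarge : ∀ w : Fin (p ^ q) → Fin 2, L0 w ≤ p ^ (N - q) := by
    intro w
    have h1 : L0 w ≤ ∑ w, L0 w := Finset.single_le_sum (f := L0) (fun _ _ => Nat.zero_le _) (Finset.mem_univ w)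
    have h2 : N - q < p ^ (N - q) := Nat.lt_pow_self hM.1.one_lt
    omega
  have hz' : ∀ w : Fin (p ^ q) → Fin 2, w ≠ (fun _ => 0) → ∃ z, MemLocalRing M z ∧
      T ((wd a w) ^ (p ^ (N - q))) = (p : ℂ) ^ q * z := fun w hw => hL0 w hw _ (hlarge w)
  rw [← Finset.add_sum_erase _ _ (Finset.mem_univ (fun _ : Fin (p ^ q) => (0 : Fin 2)))] at hzz
  have e1 : wd a (fun _ : Fin (p ^ q) => (0 : Fin 2)) = y ^ (p ^ q) := by
    unfold wd
    rw [List.ofFn_const, List.prod_replicate]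
    rfl
  rw [e1, ← pow_mul, ← pow_add, show q + (N - q) = N by omega] at hzz
  have e2 : ∃ z', MemLocalRing M z' ∧ ∑ w ∈ Finset.univ.erase (fun _ : Fin (p ^ q) => (0 : Fin 2)),
      T ((wd a w) ^ (p ^ (N - q))) = (p : ℂ) ^ q * z' := by
    refine ⟨∑ w ∈ Finset.univ.erase (fun _ : Fin (p ^ q) => (0 : Fin 2)),
      if hw : w ≠ (fun _ => 0) then (hz' w hw).choose else 0, ring_sum _ _ fun w hw => ?_, ?_⟩
    · rw [dif_pos (Finset.ne_of_mem_erase hw)]
      exact (hz' w (Finset.ne_of_mem_erase hw)).choose_spec.1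
    · rw [Finset.mul_sum]
      refine Finset.sum_congr rfl fun w hw => ?_
      rw [dif_pos (Finset.ne_of_mem_erase hw)]
      exact (hz' w (Finset.ne_of_mem_erase hw)).choose_spec.2
  obtain ⟨z', hz1, hz2⟩ := e2
  rw [hz2] at hzz
  refine ⟨z' + p * z, ring_add hz1 (ring_mul (ring_natCast _) hz), ?_⟩
  rw [hzz]
  ring

end TF

end alg

end Cfsg.Agent.H25.STb
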