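import Cfsg.Agent.H25_STb
import Cfsg.Agent.H25_KGMax

/-! Reduction of the integral group ring and lifts. -/

set_option autoImplicit false
set_option linter.unusedSectionVars false

open scoped ComplexConjugate

namespace Cfsg.Agent.H25.STc

open Cfsg Cfsg.Agent.H3 Cfsg.Agent.H3.CharBasic Cfsg.Agent.H3.CharIrr Cfsg.Agent.H3.CharComplete
  Cfsg.Agent.H10.Char Cfsg.Agent.H10.BlockLoc Cfsg.Agent.H10.BlockAlg Cfsg.Agent.H10.BlockIdem
  Cfsg.Agent.H10.BlockSMT Cfsg.Agent.H25.STa Cfsg.Agent.H25.STb Cfsg.Agent.H25.KG Cfsg.Agent.H25.Red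
  Cfsg.Agent.H25.BPTr

variable {p : ℕ} {M : Ideal AlgInt} {G : Type*} [Group G] [Fintype G]

section cplx

theorem cnj_eq (x : G) (a : MonoidAlgebra ℂ G) :
    KG.cnj x a = MonoidAlgebra.single x (1 : ℂ) * a * MonoidAlgebra.single x⁻¹ (1 : ℂ) := by
  apply ext_coeff
  intro g
  rw [coeff_mul_single, coeff_single_mul, KG.cnj_c, inv_inv, mul_assoc]

theorem lin_cnj {φ : G → ℂ} (hφ : IsClassFunction G φ) (x : G) (a : MonoidAlgebra ℂ G) :
    lin φ (KG.cnj x a) = lin φ a := by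
  rw [cnj_eq, lin_mul_comm hφ, ← mul_assoc, MonoidAlgebra.single_mul_single, inv_mul_cancel, one_mul]
  show lin φ (1 * a) = _
  rw [one_mul]

theorem cnj_single (x g : G) (c : ℂ) : KG.cnj x (MonoidAlgebra.single g c) = MonoidAlgebra.single (x * g * x⁻¹) c := by
  rw [cnj_eq, MonoidAlgebra.single_mul_single, MonoidAlgebra.single_mul_single, one_mul, mul_one]

theorem int_cnj [M.IsMaximal] {a : MonoidAlgebra ℂ G} (h : a ∈ intA G M) (x : G) : KG.cnj x a ∈ intA G M :=
  fun _ => h _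

theorem int_tr [M.IsMaximal] {a : MonoidAlgebra ℂ G} (h : a ∈ intA G M) (H : Subgroup G) : KG.tr H a ∈ intA G M := by
  intro g
  by_cases hg : g ∈ H
  · rw [KG.tr_c_of_mem a hg]; exact h g
  · rw [KG.tr_c_of_notMem a hg]; exact ring_zero

theorem supp_single {H : Subgroup G} {g : G} (hg : g ∈ H) (c : ℂ) : KG.Supp H (MonoidAlgebra.single g c) := by
  classical
  intro x hx
  rw [MonoidAlgebra.coeff_single, Finsupp.single_apply] at hx
  by_cases h : g = x
  · rw [← h]; exact hg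
  · rw [if_neg h] at hx; exact absurd rfl hx

theorem fix_single {Q : Subgroup G} {g : G} (hg : g ∈ Ce Q) (c : ℂ) : KG.Fix Q (MonoidAlgebra.single g c) := by
  intro x hx
  rw [cnj_single, (Subgroup.mem_centralizer_iff.1 hg x hx), mul_assoc, mul_inv_cancel, mul_one]

theorem smul_int [M.IsMaximal] {a : MonoidAlgebra ℂ G} (h : a ∈ intA G M) {c : ℂ} (hc : MemLocalRing M c) :
    c • a ∈ intA G M := by
  intro g
  rw [MonoidAlgebra.coeff_smul, Finsupp.smul_apply, smul_eq_mul]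
  exact ring_mul hc (h g)

theorem single_int [M.IsMaximal] (g : G) {c : ℂ} (hc : MemLocalRing M c) : MonoidAlgebra.single g c ∈ intA G M := by
  have : MonoidAlgebra.single g c = c • MonoidAlgebra.single g (1 : ℂ) := by
    rw [MonoidAlgebra.smul_single, smul_eq_mul, mul_one]
  rw [this]
  exact smul_int (single_mem_intA g) hc

/-- the ring of integral elements supported on the centralizer of `u` -/
def Ru (M : Ideal AlgInt) [M.IsMaximal] (u : G) : Subring (MonoidAlgebra ℂ G) where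
  carrier := {a | a ∈ intA G M ∧ KG.Supp (Ce1 u) a}
  mul_mem' ha hb := ⟨(intA G M).mul_mem ha.1 hb.1, ha.2.mul hb.2⟩
  one_mem' := ⟨(intA G M).one_mem, KG.Supp.one _⟩
  add_mem' ha hb := ⟨(intA G M).add_mem ha.1 hb.1, ha.2.add hb.2⟩
  zero_mem' := ⟨(intA G M).zero_mem, KG.Supp.zero _⟩
  neg_mem' := by
    rintro a ⟨h1, h2⟩
    refine ⟨(intA G M).neg_mem h1, fun x hx => h2 x fun h => hx ?_⟩
    rw [MonoidAlgebra.coeff_neg, Finsupp.neg_apply, h, neg_zero]

theorem tr_mem_Ru [M.IsMaximal] {a : MonoidAlgebra ℂ G} (h : a ∈ intA G M) (u : G) : KG.tr (Ce1 u) a ∈ Ru M u :=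
  ⟨int_tr h _, KG.supp_tr _ _⟩

theorem tf [M.IsMaximal] {φ : G → ℂ} (hφ : IsClassFunction G φ) (hφi : ∀ g, MemLocalRing M (φ g)) {u : G}
    {z : MonoidAlgebra ℂ G} (hz : z ∈ intA G M) (hzc : ∀ x, KG.Supp (Ce1 u) x → z * x = x * z) :
    TF M (Ru M u) ((lin φ).comp (LinearMap.mulLeft ℂ z)) where
  le := fun _ h => h.1
  int := fun x hx => lin_int hφi ((intA G M).mul_mem hz hx)
  comm := by
    intro x hx y hy
    show lin φ (z * (x * y)) = lin φ (z * (y * x))
    rw [← mul_assoc, lin_mul_comm hφ, ← mul_assoc, ← hzc y hy.2, mul_assoc]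

end cplx

section red
variable [hMax : M.IsMaximal]

/-- coefficientwise reduction -/
noncomputable def rA (M : Ideal AlgInt) [M.IsMaximal] (a : MonoidAlgebra ℂ G) : MonoidAlgebra (KM M) G :=
  KG.ofF fun x => rd M (a.coeff x)

theorem rA_c (a : MonoidAlgebra ℂ G) (x : G) : (rA M a).coeff x = rd M (a.coeff x) := rfl

theorem rA_mul {a b : MonoidAlgebra ℂ G} (ha : a ∈ intA G M) (hb : b ∈ intA G M) :
    rA M (a * b) = rA M a * rA M b := by
  apply KG.ext_c
  intro g
  rw [rA_c, coeff_mul_left, KG.mul_c, rd_sum _ _ fun x _ => ring_mul (ha x) (hb _)]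
  exact Finset.sum_congr rfl fun x _ => rd_mul (ha x) (hb _)

theorem rA_add {a b : MonoidAlgebra ℂ G} (ha : a ∈ intA G M) (hb : b ∈ intA G M) :
    rA M (a + b) = rA M a + rA M b := by
  apply KG.ext_c
  intro g
  rw [rA_c, MonoidAlgebra.coeff_add, MonoidAlgebra.coeff_add, Finsupp.add_apply, Finsupp.add_apply,
    rd_add (ha g) (hb g)]
  rfl

theorem rA_sub {a b : MonoidAlgebra ℂ G} (ha : a ∈ intA G M) (hb : b ∈ intA G M) :
    rA M (a - b) = rA M a - rA M b := by
  apply KG.ext_c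
  intro g
  rw [rA_c, MonoidAlgebra.coeff_sub, MonoidAlgebra.coeff_sub, Finsupp.sub_apply, Finsupp.sub_apply,
    rd_sub (ha g) (hb g)]
  rfl

theorem rA_zero : rA M (0 : MonoidAlgebra ℂ G) = 0 := by
  apply KG.ext_c
  intro g
  rw [rA_c, MonoidAlgebra.coeff_zero, MonoidAlgebra.coeff_zero, Finsupp.zero_apply, Finsupp.zero_apply, rd_zero]

theorem rA_one : rA M (1 : MonoidAlgebra ℂ G) = 1 := by
  classical
  apply KG.ext_c
  intro g
  rw [rA_c, KG.one_c, KG.one_c]
  split_ifs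
  · exact rd_one
  · exact rd_zero

theorem rA_sum {ι : Type*} (s : Finset ι) (f : ι → MonoidAlgebra ℂ G) (h : ∀ i ∈ s, f i ∈ intA G M) :
    rA M (∑ i ∈ s, f i) = ∑ i ∈ s, rA M (f i) := by
  classical
  induction s using Finset.induction_on with
  | empty => rw [Finset.sum_empty, Finset.sum_empty]; exact rA_zero
  | insert a s ha ih =>
    rw [Finset.sum_insert ha, Finset.sum_insert ha, rA_add (h a (Finset.mem_insert_self _ _))
      ((intA G M).sum_mem fun i hi => h i (Finset.mem_insert_of_mem hi)),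
      ih fun i hi => h i (Finset.mem_insert_of_mem hi)]

theorem rA_tr (H : Subgroup G) (a : MonoidAlgebra ℂ G) : rA M (KG.tr H a) = KG.tr H (rA M a) := by
  apply KG.ext_c
  intro g
  rw [rA_c]
  by_cases hg : g ∈ H
  · rw [KG.tr_c_of_mem _ hg, KG.tr_c_of_mem _ hg]; rfl
  · rw [KG.tr_c_of_notMem _ hg, KG.tr_c_of_notMem _ hg]; exact rd_zero

theorem rA_cnj (x : G) (a : MonoidAlgebra ℂ G) : rA M (KG.cnj x a) = KG.cnj x (rA M a) := rfl

theorem rA_fix {Q : Subgroup G} {a : MonoidAlgebra ℂ G} (h : KG.Fix Q a) : KG.Fix Q (rA M a) := fun x hx => by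
  rw [← rA_cnj, h x hx]

theorem rA_eq_zero_iff {a : MonoidAlgebra ℂ G} (ha : a ∈ intA G M) : rA M a = 0 ↔ Sml M a := by
  constructor
  · intro h g
    rw [← rd_eq_zero_iff (ha g), ← rA_c, h]
    rfl
  · intro h
    apply KG.ext_c
    intro g
    rw [rA_c, (rd_eq_zero_iff (ha g)).2 (h g)]
    rfl

theorem sml_sub_of {a b : MonoidAlgebra ℂ G} (ha : a ∈ intA G M) (hb : b ∈ intA G M) (h : rA M a = rA M b) :
    Sml M (a - b) := by
  rw [← rA_eq_zero_iff ((intA G M).sub_mem ha hb), rA_sub ha hb, h, sub_self]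

/-- a section of the residue map -/
noncomputable def secM (M : Ideal AlgInt) [M.IsMaximal] (c : KM M) : ℂ := (rd_surj c).choose

theorem secM_ring (c : KM M) : MemLocalRing M (secM M c) := (rd_surj c).choose_spec.1
theorem rd_secM (c : KM M) : rd M (secM M c) = c := (rd_surj c).choose_spec.2

/-- lifts -/
noncomputable def la (b : MonoidAlgebra (KM M) G) : MonoidAlgebra ℂ G := ofFun fun g => secM M (b.coeff g)

theorem la_int (b : MonoidAlgebra (KM M) G) : la b ∈ intA G M := fun _ => secM_ring _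

theorem rA_la (b : MonoidAlgebra (KM M) G) : rA M (la b) = b := by
  apply KG.ext_c
  intro g
  rw [rA_c]
  exact rd_secM _

theorem la_fix {Q : Subgroup G} {b : MonoidAlgebra (KM M) G} (h : KG.Fix Q b) : KG.Fix Q (la b) := by
  intro x hx
  apply ext_coeff
  intro g
  show secM M (b.coeff (x⁻¹ * g * x)) = secM M (b.coeff g)
  congr 1
  have := congrArg (fun a : MonoidAlgebra (KM M) G => a.coeff g) (h x hx)
  exact this

/-- truncation is multiplicative up to small elements -/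
theorem tr_mul_sml (hM : IsPModular p M) {u : G} (hu : IsPGroup p (Subgroup.zpowers u)) {a b : MonoidAlgebra ℂ G}
    (ha : a ∈ intA G M) (hb : b ∈ intA G M) (hfa : KG.Fix (Subgroup.zpowers u) a)
    (hfb : KG.Fix (Subgroup.zpowers u) b) :
    Sml M (KG.tr (Ce1 u) (a * b) - KG.tr (Ce1 u) a * KG.tr (Ce1 u) b) := by
  haveI := charP_KM M hM
  haveI : Fact p.Prime := ⟨hM.1⟩
  refine sml_sub_of (int_tr ((intA G M).mul_mem ha hb) _) ((intA G M).mul_mem (int_tr ha _) (int_tr hb _)) ?_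
  rw [rA_mul (int_tr ha _) (int_tr hb _), rA_tr, rA_tr, rA_tr, rA_mul ha hb]
  have := KG.br_mul (p := p) hu (rA_fix (M := M) hfa) (rA_fix (M := M) hfb)
  rw [H10.BlockSMT2.centralizer_zpowers] at this
  exact this

end red

end Cfsg.Agent.H25.STc
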