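import Cfsg.Agent.H25_STc

/-! Local systems of central elements and eventual integrality. -/

set_option autoImplicit false
set_option linter.unusedSectionVars false

open scoped ComplexConjugate

namespace Cfsg.Agent.H25.STd

open Cfsg Cfsg.Agent.H3 Cfsg.Agent.H3.CharBasic Cfsg.Agent.H3.CharIrr Cfsg.Agent.H3.CharComplete
  Cfsg.Agent.H25.Brauer
  Cfsg.Agent.H10.Char Cfsg.Agent.H10.BlockLoc Cfsg.Agent.H10.BlockAlg Cfsg.Agent.H10.BlockIdem
  Cfsg.Agent.H10.BlockSMT Cfsg.Agent.H25.STa Cfsg.Agent.H25.STb Cfsg.Agent.H25.STc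
  Cfsg.Agent.H25.KG Cfsg.Agent.H25.Red Cfsg.Agent.H25.BPTr

variable {p : ℕ} {M : Ideal AlgInt} {G : Type*} [Group G] [Fintype G] [hMax : M.IsMaximal]

theorem zp_le {Q : Subgroup G} {u : G} (hu : u ∈ Q) : Subgroup.zpowers u ≤ Q := by
  rw [Subgroup.zpowers_le]; exact hu

theorem wd_int {ι : Type*} {a : ι → MonoidAlgebra ℂ G} (ha : ∀ i, a i ∈ intA G M) {n : ℕ} (w : Fin n → ι) :
    wd a w ∈ intA G M := by
  unfold wd
  apply Subring.list_prod_mem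
  intro x hx
  rw [List.mem_ofFn] at hx
  obtain ⟨k, rfl⟩ := hx
  exact ha _

theorem wd_succ {ι R : Type*} [Ring R] (a : ι → R) {n : ℕ} (w : Fin (n + 1) → ι) :
    wd a w = a (w 0) * wd a (fun k : Fin n => w k.succ) := by
  unfold wd
  rw [List.ofFn_succ, List.prod_cons]

theorem wd_zero {ι R : Type*} [Ring R] (a : ι → R) (w : Fin 0 → ι) : wd a w = 1 := by
  unfold wd
  simp

theorem wd_fix {ι : Type*} {a : ι → MonoidAlgebra ℂ G} {Q : Subgroup G} (ha : ∀ i, KG.Fix Q (a i)) {n : ℕ}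
    (w : Fin n → ι) : KG.Fix Q (wd a w) := by
  induction n with
  | zero => rw [wd_zero]; exact KG.Fix.one Q
  | succ n ih => rw [wd_succ]; exact (ha _).mul (ih _)

theorem wd_tr_sml (hM : IsPModular p M) {u : G} (hu : IsPGroup p (Subgroup.zpowers u)) {ι : Type*}
    {a : ι → MonoidAlgebra ℂ G} (ha : ∀ i, a i ∈ intA G M) (hf : ∀ i, KG.Fix (Subgroup.zpowers u) (a i)) {n : ℕ}
    (w : Fin n → ι) : Sml M (wd (fun i => KG.tr (Ce1 u) (a i)) w - KG.tr (Ce1 u) (wd a w)) := by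
  induction n with
  | zero => rw [wd_zero, wd_zero, KG.tr_one, sub_self]; exact Sml.zero
  | succ n ih =>
    rw [wd_succ, wd_succ]
    have h1 := tr_mul_sml hM hu (ha (w 0)) (wd_int ha fun k : Fin n => w k.succ) (hf _) (wd_fix hf _)
    have h2 := Sml.mul_left (int_tr (ha (w 0)) (Ce1 u)) (ih fun k : Fin n => w k.succ)
    have h3 := h2.sub h1
    convert h3 using 1
    rw [mul_sub]
    abel

/-- the basic congruence at an element `u` -/
theorem core (hM : IsPModular p M) {φ : G → ℂ} (hφ : IsClassFunction G φ) (hφi : ∀ g, MemLocalRing M (φ g))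
    {u : G} (hu : IsPGroup p (Subgroup.zpowers u))
    {z : MonoidAlgebra ℂ G} (hz : z ∈ intA G M) (hzc : ∀ x, KG.Supp (Ce1 u) x → z * x = x * z)
    {ι : Type*} [Fintype ι] {a : ι → MonoidAlgebra ℂ G} (ha : ∀ i, a i ∈ intA G M)
    (hf : ∀ i, KG.Fix (Subgroup.zpowers u) (a i)) (d : ℕ) :
    ∃ N0 : ℕ, ∀ N ≥ N0, ∃ y, MemLocalRing M y ∧ lin φ (z * (KG.tr (Ce1 u) (∑ i, a i)) ^ (p ^ N)) =
      (∑ w : Fin (p ^ d) → ι, lin φ (z * (KG.tr (Ce1 u) (wd a w)) ^ (p ^ (N - d)))) + (p : ℂ) ^ d * y := by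
  classical
  haveI : Fact p.Prime := ⟨hM.1⟩
  have hT := tf hφ hφi hz hzc
  have hcl : ∀ w : Fin (p ^ d) → ι, ∃ N0 : ℕ, ∀ N ≥ N0, ∃ y, MemLocalRing M y ∧
      lin φ (z * (wd (fun i => KG.tr (Ce1 u) (a i)) w) ^ (p ^ N)) =
        lin φ (z * (KG.tr (Ce1 u) (wd a w)) ^ (p ^ N)) + (p : ℂ) ^ d * y := fun w =>
    hT.close hM (TF.wd_mem (fun i => tr_mem_Ru (ha i) u) w) (tr_mem_Ru (wd_int ha w) u) (wd_tr_sml hM hu ha hf w) d
  choose N0 hN0 using hcl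
  refine ⟨d + ∑ w, N0 w, fun N hN => ?_⟩
  obtain ⟨y, hy, hyy⟩ := hT.cw (p := p) (fun i => KG.tr (Ce1 u) (a i)) (fun i => tr_mem_Ru (ha i) u)
    (show d ≤ N by omega)
  have hlarge : ∀ w : Fin (p ^ d) → ι, N0 w ≤ N - d := by
    intro w
    have h1 : N0 w ≤ ∑ w, N0 w := Finset.single_le_sum (f := N0) (fun _ _ => Nat.zero_le _) (Finset.mem_univ w)
    omega
  choose y' hy' hyy' using fun w => hN0 w (N - d) (hlarge w)
  refine ⟨(∑ w, y' w) + p * y, ring_add (ring_sum _ _ fun w _ => hy' w) (ring_mul (ring_natCast _) hy), ?_⟩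
  have e1 : lin φ (z * (KG.tr (Ce1 u) (∑ i, a i)) ^ (p ^ N)) =
      ((lin φ).comp (LinearMap.mulLeft ℂ z)) ((∑ i, KG.tr (Ce1 u) (a i)) ^ (p ^ N)) := by
    rw [map_sum]; rfl
  rw [e1, hyy]
  have e2 : ∀ w : Fin (p ^ d) → ι, ((lin φ).comp (LinearMap.mulLeft ℂ z))
      ((wd (fun i => KG.tr (Ce1 u) (a i)) w) ^ (p ^ (N - d))) =
      lin φ (z * (KG.tr (Ce1 u) (wd a w)) ^ (p ^ (N - d))) + (p : ℂ) ^ d * y' w := fun w => hyy' w
  rw [Finset.sum_congr rfl fun w _ => e2 w, Finset.sum_add_distrib, ← Finset.mul_sum]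
  ring

/-- a system of central elements on `Q` -/
structure Sys (M : Ideal AlgInt) [M.IsMaximal] (Q : Subgroup G) (z : G → MonoidAlgebra ℂ G) : Prop where
  int : ∀ u ∈ Q, z u ∈ intA G M
  comm : ∀ u ∈ Q, ∀ x, KG.Supp (Ce1 u) x → z u * x = x * z u
  eqv : ∀ q ∈ Q, ∀ u ∈ Q, z (q * u * q⁻¹) = KG.cnj q (z u)

theorem Sys.mono {Q S : Subgroup G} {z : G → MonoidAlgebra ℂ G} (h : Sys M Q z) (hS : S ≤ Q) : Sys M S z where
  int := fun u hu => h.int u (hS hu)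
  comm := fun u hu => h.comm u (hS hu)
  eqv := fun q hq u hu => h.eqv q (hS hq) u (hS hu)

/-- integral combinations of characters of `Q` -/
def GC (Q : Subgroup G) (ξ : G → ℂ) : Prop := ∀ inst : Fintype Q, @IntSpan Q _ inst (fun u => ξ u)

open Classical in
/-- the averaged sum -/
noncomputable def II (Q : Subgroup G) (z : G → MonoidAlgebra ℂ G) (ξ φ : G → ℂ) (L : ℕ) (a : MonoidAlgebra ℂ G) : ℂ :=
  (Nat.card Q : ℂ)⁻¹ * ∑ u : G, if u ∈ Q then ξ u * lin φ (z u * (KG.tr (Ce1 u) a) ^ L) else 0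

/-- eventual integrality -/
def EvI (p : ℕ) (M : Ideal AlgInt) (Q : Subgroup G) (z : G → MonoidAlgebra ℂ G) (ξ φ : G → ℂ)
    (a : MonoidAlgebra ℂ G) : Prop :=
  ∃ N0 : ℕ, ∀ N ≥ N0, MemLocalRing M (II Q z ξ φ (p ^ N) a)

/-- reduction to a multiplicative spanning set -/
theorem stepA (hM : IsPModular p M) {Q : Subgroup G} (hQ : IsPGroup p Q) {z : G → MonoidAlgebra ℂ G}
    (hz : Sys M Q z) {φ : G → ℂ} (hφ : IsClassFunction G φ) (hφi : ∀ g, MemLocalRing M (φ g))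
    {ξ : G → ℂ} (hξ : ∀ u ∈ Q, MemLocalRing M (ξ u))
    (P : MonoidAlgebra ℂ G → Prop) (hP1 : ∀ x, P x → x ∈ intA G M ∧ KG.Fix Q x)
    (hPm : ∀ x y, P x → P y → P (x * y)) (hPe : ∀ x, P x → EvI p M Q z ξ φ x)
    {ι : Type*} [Fintype ι] {a : ι → MonoidAlgebra ℂ G} (ha : ∀ i, P (a i)) : EvI p M Q z ξ φ (∑ i, a i) := by
  classical
  haveI : Fact p.Prime := ⟨hM.1⟩
  obtain ⟨d, hd⟩ := (IsPGroup.iff_card.1 hQ)
  have hwd : ∀ (n : ℕ) (w : Fin (n + 1) → ι), P (wd a w) := by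
    intro n
    induction n with
    | zero => intro w; rw [wd_succ, wd_zero, mul_one]; exact ha _
    | succ n ih => intro w; rw [wd_succ]; exact hPm _ _ (ha _) (ih _)
  have hwd' : ∀ w : Fin (p ^ d) → ι, P (wd a w) := by
    obtain ⟨n, hn⟩ : ∃ n, p ^ d = n + 1 :=
      ⟨p ^ d - 1, (Nat.succ_pred_eq_of_pos (pow_pos hM.1.pos d)).symm⟩
    rw [hn]
    exact hwd n
  have hcore : ∀ u : G, ∃ N0 : ℕ, u ∈ Q → ∀ N ≥ N0, ∃ y, MemLocalRing M y ∧
      lin φ (z u * (KG.tr (Ce1 u) (∑ i, a i)) ^ (p ^ N)) =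
      (∑ w : Fin (p ^ d) → ι, lin φ (z u * (KG.tr (Ce1 u) (wd a w)) ^ (p ^ (N - d)))) + (p : ℂ) ^ d * y := by
    intro u
    by_cases hu : u ∈ Q
    · obtain ⟨N0, h⟩ := core hM hφ hφi (u := u) (hQ.to_le (zp_le hu)) (hz.int u hu) (hz.comm u hu)
        (fun i => (hP1 _ (ha i)).1) (fun i => (hP1 _ (ha i)).2.mono (zp_le hu)) d
      exact ⟨N0, fun _ => h⟩
    · exact ⟨0, fun h => absurd h hu⟩
  choose N1 hN1 using hcore
  choose N2 hN2 using fun w => hPe _ (hwd' w)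
  refine ⟨d + ∑ u, N1 u + ∑ w, N2 w, fun N hN => ?_⟩
  have l1 : ∀ u, N1 u ≤ N := fun u => by
    have := Finset.single_le_sum (f := N1) (fun _ _ => Nat.zero_le _) (Finset.mem_univ u)
    omega
  have l2 : ∀ w, N2 w ≤ N - d := fun w => by
    have := Finset.single_le_sum (f := N2) (fun _ _ => Nat.zero_le _) (Finset.mem_univ w)
    omega
  have hy : ∀ u, ∃ y, MemLocalRing M y ∧ (u ∈ Q → lin φ (z u * (KG.tr (Ce1 u) (∑ i, a i)) ^ (p ^ N)) =
      (∑ w : Fin (p ^ d) → ι, lin φ (z u * (KG.tr (Ce1 u) (wd a w)) ^ (p ^ (N - d)))) + (p : ℂ) ^ d * y) := by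
    intro u
    by_cases hu : u ∈ Q
    · obtain ⟨y, h1, h2⟩ := hN1 u hu N (l1 u)
      exact ⟨y, h1, fun _ => h2⟩
    · exact ⟨0, ring_zero, fun h => absurd h hu⟩
  choose y hy1 hy2 using hy
  have e1 : II Q z ξ φ (p ^ N) (∑ i, a i) = (∑ w : Fin (p ^ d) → ι, II Q z ξ φ (p ^ (N - d)) (wd a w)) +
      ∑ u : G, if u ∈ Q then ξ u * y u else 0 := by
    unfold II
    rw [← Finset.mul_sum, Finset.sum_comm]
    have hcard : (Nat.card Q : ℂ) = (p : ℂ) ^ d := by rw [hd]; push_cast; rfl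
    have hp0 : (p : ℂ) ^ d ≠ 0 := pow_ne_zero _ (by exact_mod_cast hM.1.ne_zero)
    rw [hcard, ← sub_eq_iff_eq_add', ← mul_sub, ← Finset.sum_sub_distrib, inv_mul_eq_iff_eq_mul₀ hp0, Finset.mul_sum]
    refine Finset.sum_congr rfl fun u _ => ?_
    by_cases hu : u ∈ Q
    · simp only [if_pos hu]
      rw [hy2 u hu, ← Finset.mul_sum]
      ring
    · simp only [if_neg hu, Finset.sum_const_zero, sub_zero, mul_zero]
  rw [e1]
  refine ring_add (ring_sum _ _ fun w _ => hN2 w _ (l2 w)) (ring_sum _ _ fun u _ => ?_)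
  split_ifs with hu
  · exact ring_mul (hξ u hu) (hy1 u)
  · exact ring_zero

end Cfsg.Agent.H25.STd
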