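import Cfsg.Agent.H25_STd

/-! The trace part. -/

set_option autoImplicit false
set_option linter.unusedSectionVars false

open scoped ComplexConjugate

namespace Cfsg.Agent.H25.STe

open Cfsg Cfsg.Agent.H3 Cfsg.Agent.H3.CharBasic Cfsg.Agent.H3.CharIrr Cfsg.Agent.H3.CharComplete
  Cfsg.Agent.H25.Brauer Cfsg.Agent.H10.BlockTrace
  Cfsg.Agent.H10.Char Cfsg.Agent.H10.BlockLoc Cfsg.Agent.H10.BlockAlg Cfsg.Agent.H10.BlockIdem
  Cfsg.Agent.H10.BlockSMT Cfsg.Agent.H25.STa Cfsg.Agent.H25.STb Cfsg.Agent.H25.STc Cfsg.Agent.H25.STd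
  Cfsg.Agent.H25.KG Cfsg.Agent.H25.Red Cfsg.Agent.H25.BPTr

variable {p : ℕ} {M : Ideal AlgInt} {G : Type*} [Group G] [Fintype G] [hMax : M.IsMaximal]

/-- `S` is a maximal subgroup of the `p`-group `Q` and `q` generates `Q` modulo `S` -/
structure Mx (p : ℕ) (Q S : Subgroup G) (q : G) : Prop where
  le : S ≤ Q
  mem : q ∈ Q
  norm : ∀ y ∈ Q, ∀ s ∈ S, y * s * y⁻¹ ∈ S
  pow : q ^ p ∈ S
  gen : ∀ y ∈ Q, ∃ k : ℕ, (q ^ k)⁻¹ * y ∈ S
  card : Nat.card Q = p * Nat.card S

/-- relative trace -/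
noncomputable def Trc (p : ℕ) [Fact p.Prime] (q : G) (c : MonoidAlgebra ℂ G) : MonoidAlgebra ℂ G :=
  ∑ k : ZMod p, KG.cnj (q ^ k.val) c

section
variable [hp : Fact p.Prime] {Q S : Subgroup G} {q : G} {c : MonoidAlgebra ℂ G}

theorem cnj_pow_of (h : Mx p Q S q) (hc : KG.Fix S c) (k : ℕ) :
    KG.cnj (q ^ k) c = KG.cnj (q ^ (((k : ZMod p)).val)) c := by
  rw [ZMod.val_natCast]
  conv_lhs => rw [← Nat.mod_add_div k p, pow_add, KG.cnj_mul_apply, pow_mul]
  rw [hc _ (S.pow_mem h.pow _)]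

theorem cnj_step (h : Mx p Q S q) (hc : KG.Fix S c) (j : ℕ) (k : ZMod p) :
    KG.cnj (q ^ j) (KG.cnj (q ^ k.val) c) = KG.cnj (q ^ (k + j).val) c := by
  rw [← KG.cnj_mul_apply, ← pow_add, cnj_pow_of h hc (j + k.val)]
  congr 3
  push_cast
  rw [ZMod.natCast_zmod_val, add_comm]

theorem fix_step (h : Mx p Q S q) (hc : KG.Fix S c) (k : ℕ) : KG.Fix S (KG.cnj (q ^ k) c) := by
  intro s hs
  have e1 : s * q ^ k = q ^ k * ((q ^ k)⁻¹ * s * q ^ k) := by group
  rw [← KG.cnj_mul_apply, e1, KG.cnj_mul_apply]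
  congr 1
  apply hc
  have := h.norm ((q ^ k)⁻¹) (Q.inv_mem (Q.pow_mem h.mem k)) s hs
  rwa [inv_inv] at this

theorem fix_Trc (h : Mx p Q S q) (hc : KG.Fix S c) : KG.Fix Q (Trc p q c) := by
  intro y hy
  obtain ⟨j, hj⟩ := h.gen y hy
  have e1 : y = q ^ j * ((q ^ j)⁻¹ * y) := by group
  unfold Trc
  rw [map_sum]
  refine Eq.trans (Finset.sum_congr rfl fun k _ => ?_)
    (Equiv.sum_comp (Equiv.addRight (j : ZMod p)) (fun k => KG.cnj (q ^ k.val) c))
  rw [e1, KG.cnj_mul_apply, fix_step h hc _ _ hj, cnj_step h hc]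
  rfl

theorem Trc_mul (x : MonoidAlgebra ℂ G) (hx : KG.Fix Q x) (hq : q ∈ Q) : Trc p q c * x = Trc p q (c * x) := by
  unfold Trc
  rw [Finset.sum_mul]
  refine Finset.sum_congr rfl fun k _ => ?_
  rw [map_mul, hx _ (Q.pow_mem hq _)]

theorem mul_Trc (x : MonoidAlgebra ℂ G) (hx : KG.Fix Q x) (hq : q ∈ Q) : x * Trc p q c = Trc p q (x * c) := by
  unfold Trc
  rw [Finset.mul_sum]
  refine Finset.sum_congr rfl fun k _ => ?_
  rw [map_mul, hx _ (Q.pow_mem hq _)]

theorem int_Trc (hc : c ∈ intA G M) : Trc p q c ∈ intA G M :=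
  (intA G M).sum_mem fun _ _ => int_cnj hc _

theorem Trc_sml (hM : IsPModular p M) (h : Mx p Q S q) (hc : KG.Fix S c) (hci : c ∈ intA G M) {u : G}
    (hu : u ∈ Q) (huS : u ∉ S) : Sml M (KG.tr (Ce1 u) (Trc p q c)) := by
  intro g
  by_cases hg : g ∈ Ce1 u
  · rw [KG.tr_c_of_mem _ hg]
    obtain ⟨j, hj⟩ := h.gen u hu
    have hj0 : (j : ZMod p) ≠ 0 := by
      intro h0
      apply huS
      rw [ZMod.natCast_eq_zero_iff] at h0
      obtain ⟨m, rfl⟩ := h0
      have e1 : u = (q ^ (p * m)) * ((q ^ (p * m))⁻¹ * u) := by group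
      rw [e1, pow_mul] 
      refine S.mul_mem (S.pow_mem h.pow _) ?_
      rw [← pow_mul]; exact hj
    have hinv : ∀ k : ZMod p, (KG.cnj (q ^ (k + j).val) c).coeff g = (KG.cnj (q ^ k.val) c).coeff g := by
      intro k
      have e1 : u = q ^ j * ((q ^ j)⁻¹ * u) := by group
      have e2 : KG.cnj u (KG.cnj (q ^ k.val) c) = KG.cnj (q ^ (k + j).val) c := by
        conv_lhs => rw [e1, KG.cnj_mul_apply]
        rw [fix_step h hc _ _ hj, cnj_step h hc]
      rw [← e2, KG.cnj_c]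
      congr 1
      have := mem_Ce1.1 hg
      rw [mul_assoc, this]
      group
    have hconst : ∀ m : ℕ, (KG.cnj (q ^ ((m * j : ZMod p)).val) c).coeff g = (KG.cnj (q ^ (0 : ZMod p).val) c).coeff g := by
      intro m
      induction m with
      | zero => simp
      | succ m ih =>
        rw [← ih]
        push_cast
        rw [add_mul, one_mul, hinv]
    have hall : ∀ k : ZMod p, (KG.cnj (q ^ k.val) c).coeff g = (KG.cnj (q ^ (0 : ZMod p).val) c).coeff g := by
      intro k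
      have := hconst (k * (j : ZMod p)⁻¹).val
      rw [ZMod.natCast_zmod_val, mul_assoc, inv_mul_cancel₀ hj0, mul_one] at this
      exact this
    unfold Trc
    rw [MonoidAlgebra.coeff_sum, Finsupp.finsetSum_apply, Finset.sum_congr rfl fun k _ => hall k,
      Finset.sum_const, Finset.card_univ, ZMod.card, nsmul_eq_mul]
    exact ideal_mul_right ((ideal_natCast_iff hM p).2 dvd_rfl) (int_cnj hci _ g)
  · rw [KG.tr_c_of_notMem _ hg]; exact ideal_zero

theorem II_cnj {z : G → MonoidAlgebra ℂ G} (hz : Sys M Q z) {φ : G → ℂ} (hφ : IsClassFunction G φ)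
    {ξ : G → ℂ} (h : Mx p Q S q) (hξ : ∀ v ∈ S, ξ (q * v * q⁻¹) = ξ v) (L : ℕ) (x : MonoidAlgebra ℂ G) :
    II S z ξ φ L (KG.cnj q x) = II S z ξ φ L x := by
  classical
  unfold II
  congr 1
  rw [← Equiv.sum_comp (MulAut.conj q).toEquiv]
  refine Finset.sum_congr rfl fun v _ => ?_
  show (if q * v * q⁻¹ ∈ S then ξ (q * v * q⁻¹) *
    lin φ (z (q * v * q⁻¹) * (KG.tr (Ce1 (q * v * q⁻¹)) (KG.cnj q x)) ^ L) else 0) = _
  have hmem : q * v * q⁻¹ ∈ S ↔ v ∈ S := by
    constructor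
    · intro hv
      have := h.norm q⁻¹ (Q.inv_mem h.mem) _ hv
      have e : q⁻¹ * (q * v * q⁻¹) * q⁻¹⁻¹ = v := by group
      rwa [e] at this
    · exact h.norm q h.mem v
  by_cases hv : v ∈ S
  · rw [if_pos hv, if_pos (hmem.2 hv), hξ v hv]
    congr 1
    rw [hz.eqv q h.mem v (h.le hv), KG.Ce1_cs, ← KG.cnj_tr, ← map_pow, ← map_mul, lin_cnj hφ]
  · rw [if_neg hv, if_neg (fun h' => hv (hmem.1 h'))]

theorem stepB (hM : IsPModular p M) (hQ : IsPGroup p Q) {z : G → MonoidAlgebra ℂ G}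
    (hz : Sys M Q z) {φ : G → ℂ} (hφ : IsClassFunction G φ) (hφi : ∀ g, MemLocalRing M (φ g))
    {ξ : G → ℂ} (hξ : ∀ u ∈ Q, MemLocalRing M (ξ u)) (hξc : ∀ y ∈ Q, ∀ v ∈ Q, ξ (y * v * y⁻¹) = ξ v)
    (h : Mx p Q S q) (good : ∀ c ∈ intA G M, KG.Fix S c → EvI p M S z ξ φ c)
    (hc : c ∈ intA G M) (hcS : KG.Fix S c) : EvI p M Q z ξ φ (Trc p q c) := by
  classical
  obtain ⟨d, hd⟩ := (IsPGroup.iff_card.1 hQ)
  let a : ZMod p → MonoidAlgebra ℂ G := fun k => KG.cnj (q ^ k.val) c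
  have hai : ∀ k, a k ∈ intA G M := fun k => int_cnj hc _
  have haf : ∀ k, KG.Fix S (a k) := fun k => fix_step h hcS _
  have hsum : ∑ k, a k = Trc p q c := rfl
  have hcore : ∀ u : G, ∃ N0 : ℕ, ∀ N ≥ N0, ∃ y, MemLocalRing M y ∧ (u ∈ Q →
      lin φ (z u * (KG.tr (Ce1 u) (∑ i, a i)) ^ (p ^ N)) =
      (if u ∈ S then ∑ w : Fin (p ^ d) → ZMod p, lin φ (z u * (KG.tr (Ce1 u) (wd a w)) ^ (p ^ (N - d))) else 0)
        + (p : ℂ) ^ d * y) := by
    intro u
    by_cases hu : u ∈ Q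
    · by_cases huS : u ∈ S
      · obtain ⟨N0, h0⟩ := core hM hφ hφi (u := u) (hQ.to_le (zp_le hu)) (hz.int u hu) (hz.comm u hu)
          hai (fun i => (haf i).mono (zp_le huS)) d
        refine ⟨N0, fun N hN => ?_⟩
        obtain ⟨y, h1, h2⟩ := h0 N hN
        exact ⟨y, h1, fun _ => by rw [if_pos huS]; exact h2⟩
      · obtain ⟨L0, hL0⟩ := (Trc_sml hM h hcS hc hu huS).pow_div hM d
        refine ⟨L0, fun N hN => ?_⟩
        obtain ⟨v, hv, hvv⟩ := hL0 (p ^ N) (hN.le.trans (Nat.lt_pow_self hM.1.one_lt).le)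
        refine ⟨lin φ (z u * v), lin_int hφi ((intA G M).mul_mem (hz.int u hu) hv), fun _ => ?_⟩
        rw [if_neg huS, hsum, hvv, mul_smul_comm, map_smul, smul_eq_mul, zero_add]
    · exact ⟨0, fun N _ => ⟨0, ring_zero, fun h' => absurd h' hu⟩⟩
  choose N1 hN1 using hcore
  have hwdi : ∀ w : Fin (p ^ d) → ZMod p, wd a w ∈ intA G M := fun w => wd_int hai w
  choose N2 hN2 using fun w => good _ (hwdi w) (wd_fix haf w)
  refine ⟨d + ∑ u, N1 u + ∑ w, N2 w, fun N hN => ?_⟩
  have l1 : ∀ u, N1 u ≤ N := fun u => by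
    have := Finset.single_le_sum (f := N1) (fun _ _ => Nat.zero_le _) (Finset.mem_univ u)
    omega
  have l2 : ∀ w, N2 w ≤ N - d := fun w => by
    have := Finset.single_le_sum (f := N2) (fun _ _ => Nat.zero_le _) (Finset.mem_univ w)
    omega
  choose y hy1 hy2 using fun u => hN1 u N (l1 u)
  have hp0 : (p : ℂ) ≠ 0 := by exact_mod_cast hM.1.ne_zero
  have hS0 : (Nat.card S : ℂ) ≠ 0 := by
    have : 0 < Nat.card S := Nat.card_pos
    exact_mod_cast this.ne'
  have hcard : (Nat.card Q : ℂ) = (p : ℂ) * (Nat.card S : ℂ) := by rw [h.card]; push_cast; rfl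
  have hcard' : (Nat.card Q : ℂ) = (p : ℂ) ^ d := by rw [hd]; push_cast; rfl
  have e1 : II Q z ξ φ (p ^ N) (∑ i, a i) =
      (p : ℂ)⁻¹ * (∑ w : Fin (p ^ d) → ZMod p, II S z ξ φ (p ^ (N - d)) (wd a w)) +
      ∑ u : G, if u ∈ Q then ξ u * y u else 0 := by
    have e2 : (p : ℂ)⁻¹ * (∑ w : Fin (p ^ d) → ZMod p, II S z ξ φ (p ^ (N - d)) (wd a w)) =
        (Nat.card Q : ℂ)⁻¹ * ∑ u : G, if u ∈ S then ξ u *
          ∑ w : Fin (p ^ d) → ZMod p, lin φ (z u * (KG.tr (Ce1 u) (wd a w)) ^ (p ^ (N - d))) else 0 := by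
      unfold II
      rw [← Finset.mul_sum, Finset.sum_comm, ← mul_assoc, hcard, mul_inv]
      congr 1
      refine Finset.sum_congr rfl fun u _ => ?_
      by_cases hu : u ∈ S
      · simp only [if_pos hu]; rw [Finset.mul_sum]
      · simp only [if_neg hu, Finset.sum_const_zero]
    have e3 : (∑ u : G, if u ∈ Q then ξ u * y u else 0) =
        (Nat.card Q : ℂ)⁻¹ * ∑ u : G, if u ∈ Q then ξ u * ((p : ℂ) ^ d * y u) else 0 := by
      rw [hcard', eq_inv_mul_iff_mul_eq₀ (pow_ne_zero _ hp0), Finset.mul_sum]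
      refine Finset.sum_congr rfl fun u _ => ?_
      split_ifs
      · ring
      · ring
    rw [e2, e3, ← mul_add, ← Finset.sum_add_distrib]
    unfold II
    congr 1
    refine Finset.sum_congr rfl fun u _ => ?_
    by_cases hu : u ∈ Q
    · rw [if_pos hu, if_pos hu, hy2 u hu]
      split_ifs with huS
      · ring
      · ring
    · have huS : u ∉ S := fun h' => hu (h.le h')
      rw [if_neg hu, if_neg hu, if_neg huS, add_zero]
  rw [← hsum, e1]
  refine ring_add ?_ (ring_sum _ _ fun u _ => ?_)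
  · -- translation invariance
    letI act : MulAction (Multiplicative (ZMod p)) (Fin (p ^ d) → ZMod p) :=
      { smul := fun c w k => w k + Multiplicative.toAdd c
        one_smul := fun w => by funext k; show w k + 0 = w k; rw [add_zero]
        mul_smul := fun c c' w => by
          funext k
          show w k + (Multiplicative.toAdd c + Multiplicative.toAdd c') =
            (w k + Multiplicative.toAdd c') + Multiplicative.toAdd c
          ring }
    have hshift : ∀ w : Fin (p ^ d) → ZMod p, wd a (fun k => w k + 1) = KG.cnj q (wd a w) := by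
      intro w
      have hn : ∀ (n : ℕ) (w : Fin n → ZMod p), wd a (fun k => w k + 1) = KG.cnj q (wd a w) := by
        intro n
        induction n with
        | zero => intro w; rw [wd_zero, wd_zero, map_one]
        | succ n ih =>
          intro w
          rw [wd_succ, wd_succ, map_mul, ← ih]
          congr 1
          have := cnj_step h hcS 1 (w 0)
          rw [pow_one, Nat.cast_one] at this
          exact this.symm
      exact hn _ w
    have hinv1 : ∀ w : Fin (p ^ d) → ZMod p, II S z ξ φ (p ^ (N - d)) (wd a (fun k => w k + 1)) =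
        II S z ξ φ (p ^ (N - d)) (wd a w) := fun w => by
      rw [hshift]
      exact II_cnj hz hφ h (fun v hv => hξc q h.mem v (h.le hv)) _ _
    have hinv2 : ∀ (m : ℕ) (w : Fin (p ^ d) → ZMod p), II S z ξ φ (p ^ (N - d)) (wd a (fun k => w k + m)) =
        II S z ξ φ (p ^ (N - d)) (wd a w) := by
      intro m
      induction m with
      | zero => intro w; simp
      | succ m ih =>
        intro w
        have e5 : (fun k => w k + ((m + 1 : ℕ) : ZMod p)) = fun k => (fun k => w k + (m : ZMod p)) k + 1 := by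
          funext k
          push_cast
          ring
        rw [e5, hinv1, ih w]
    obtain ⟨T, hT⟩ := sum_of_free (C := Multiplicative (ZMod p))
      (fun w : Fin (p ^ d) → ZMod p => II S z ξ φ (p ^ (N - d)) (wd a w)) (by
        intro c w
        show II S z ξ φ (p ^ (N - d)) (wd a (fun k => w k + Multiplicative.toAdd c)) = _
        have := hinv2 (Multiplicative.toAdd c).val w
        rw [ZMod.natCast_zmod_val] at this
        exact this) (by
        intro c w hcw
        have hpos : 0 < p ^ d := pow_pos hM.1.pos d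
        have := congrFun hcw ⟨0, hpos⟩
        have h2 : w ⟨0, hpos⟩ + Multiplicative.toAdd c = w ⟨0, hpos⟩ := this
        have h3 : Multiplicative.toAdd c = 0 := by
          have := add_left_cancel (h2.trans (add_zero _).symm)
          exact this
        exact h3)
    rw [hT, Fintype.card_multiplicative, ZMod.card, nsmul_eq_mul, ← mul_assoc, inv_mul_cancel₀ hp0, one_mul]
    exact ring_sum _ _ fun w _ => hN2 w _ (l2 w)
  · split_ifs with hu
    · exact ring_mul (hξ u hu) (hy1 u)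
    · exact ring_zero

end

end Cfsg.Agent.H25.STe
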