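import Cfsg.Agent.H25_STe
import Cfsg.Agent.H25_IndCong

/-! Maximal subgroups, spanning by traces, the base system. -/

set_option autoImplicit false
set_option linter.unusedSectionVars false

open scoped ComplexConjugate

namespace Cfsg.Agent.H25.STf

open Cfsg Cfsg.Agent.H3 Cfsg.Agent.H3.CharBasic Cfsg.Agent.H3.CharIrr Cfsg.Agent.H3.CharComplete
  Cfsg.Agent.H25.Brauer Cfsg.Agent.H10.BlockTrace
  Cfsg.Agent.H10.Char Cfsg.Agent.H10.BlockLoc Cfsg.Agent.H10.BlockAlg Cfsg.Agent.H10.BlockIdem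
  Cfsg.Agent.H10.BlockSMT Cfsg.Agent.H25.STa Cfsg.Agent.H25.STb Cfsg.Agent.H25.STc Cfsg.Agent.H25.STd
  Cfsg.Agent.H25.STe Cfsg.Agent.H25.IndCong
  Cfsg.Agent.H25.KG Cfsg.Agent.H25.Red Cfsg.Agent.H25.BPTr

section mx
variable {p : ℕ} [hp : Fact p.Prime] {G : Type*} [Group G] [Fintype G]

theorem exists_Mx {Q R : Subgroup G} (hQ : IsPGroup p Q) (hR : R < Q) : ∃ S q, R ≤ S ∧ Mx p Q S q := by
  classical
  obtain ⟨d, hd⟩ := IsPGroup.iff_card.1 hQ
  obtain ⟨n, hn⟩ := IsPGroup.iff_card.1 (hQ.to_le hR.le)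
  have hlt : n < d := by
    have h1 : Nat.card R < Nat.card Q := Set.Finite.card_lt_card (Set.toFinite (Q : Set G)) hR
    rw [hd, hn] at h1
    exact (Nat.pow_lt_pow_iff_right hp.out.one_lt).1 h1
  have hRQ : Nat.card (R.subgroupOf Q) = p ^ n := by
    rw [← hn]
    exact Nat.card_congr (Subgroup.subgroupOfEquivOfLe hR.le).toEquiv
  obtain ⟨K, hK, hRK⟩ := Sylow.exists_subgroup_card_pow_prime_le (G := Q) p (n := n) (m := d - 1)
    (by rw [hd]; exact pow_dvd_pow p (Nat.sub_le _ _)) (R.subgroupOf Q) hRQ (by omega)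
  have hidx : K.index = p := by
    have h1 := K.card_mul_index
    rw [hK, hd] at h1
    have h2 : p ^ d = p ^ (d - 1) * p := by rw [← pow_succ]; congr 1; omega
    rw [h2] at h1
    exact Nat.eq_of_mul_eq_mul_left (pow_pos hp.out.pos _) h1
  haveI hKn : K.Normal := by
    apply Subgroup.normal_of_index_eq_minFac_card
    rw [hidx, hd, Nat.Prime.pow_minFac hp.out (by omega)]
  have hKtop : K ≠ ⊤ := by
    intro h
    rw [h, Subgroup.index_top] at hidx
    exact hp.out.one_lt.ne hidx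
  obtain ⟨q, hq⟩ : ∃ q : Q, q ∉ K := by
    by_contra hcon
    push_neg at hcon
    exact hKtop (eq_top_iff.2 fun x _ => hcon x)
  have hcardq : Nat.card (Q ⧸ K) = p := by rw [← Subgroup.index_eq_card, hidx]
  have hq1 : (q : Q ⧸ K) ≠ 1 := fun h => hq ((QuotientGroup.eq_one_iff q).1 h)
  have hz := zpowers_eq_top_of_prime_card hcardq hq1
  refine ⟨K.map Q.subtype, (q : G), ?_, ?_⟩
  · intro x hx
    exact ⟨⟨x, hR.le hx⟩, hRK (Subgroup.mem_subgroupOf.2 hx), rfl⟩
  · refine ⟨?_, q.2, ?_, ?_, ?_, ?_⟩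
    · rintro _ ⟨x, -, rfl⟩; exact x.2
    · rintro y hy _ ⟨x, hx, rfl⟩
      exact ⟨⟨y, hy⟩ * x * ⟨y, hy⟩⁻¹, hKn.conj_mem x hx _, rfl⟩
    · refine ⟨q ^ p, ?_, rfl⟩
      show q ^ p ∈ K
      rw [← QuotientGroup.eq_one_iff]
      show (q : Q ⧸ K) ^ p = 1
      rw [← hcardq]; exact pow_card_eq_one'
    · intro y hy
      have h1 : ((⟨y, hy⟩ : Q) : Q ⧸ K) ∈ Subgroup.zpowers (q : Q ⧸ K) := by rw [hz]; trivial
      have h2 := (isOfFinOrder_of_finite (q : Q ⧸ K)).mem_zpowers_iff_mem_range_orderOf.1 h1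
      rw [Finset.mem_image] at h2
      obtain ⟨k, -, hk⟩ := h2
      refine ⟨k, (q ^ k)⁻¹ * ⟨y, hy⟩, ?_, rfl⟩
      show (q ^ k)⁻¹ * (⟨y, hy⟩ : Q) ∈ K
      rw [← QuotientGroup.eq]
      exact hk
    · rw [Subgroup.card_map_of_injective Q.subtype_injective, hK, hd, ← pow_succ']
      congr 1; omega

end mx

section span
variable {p : ℕ} {M : Ideal AlgInt} {G : Type*} [Group G] [Fintype G] [hMax : M.IsMaximal] [hp : Fact p.Prime]

/-- traces from maximal subgroups -/
def PT (p : ℕ) [Fact p.Prime] (M : Ideal AlgInt) [M.IsMaximal] (Q : Subgroup G) (x : MonoidAlgebra ℂ G) : Prop :=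
  ∃ S q c, Mx p Q S q ∧ c ∈ intA G M ∧ KG.Fix S c ∧ x = Trc p q c

theorem Trc_c (q : G) (c : MonoidAlgebra ℂ G) (x : G) :
    (Trc p q c).coeff x = ∑ k : ZMod p, c.coeff ((q ^ k.val)⁻¹ * x * q ^ k.val) := by
  unfold Trc
  rw [MonoidAlgebra.coeff_sum, Finsupp.finsetSum_apply]
  rfl

open Classical in
/-- orbit sum -/
noncomputable def orbS (S : Subgroup G) (g : G) (l : ℂ) : MonoidAlgebra ℂ G :=
  ofFun fun x => if ∃ s ∈ S, s * g * s⁻¹ = x then l else 0

theorem orbS_fix (S : Subgroup G) (g : G) (l : ℂ) : KG.Fix S (orbS S g l) := by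
  classical
  intro y hy
  apply ext_coeff
  intro x
  show (if ∃ s ∈ S, s * g * s⁻¹ = y⁻¹ * x * y then l else 0) = if ∃ s ∈ S, s * g * s⁻¹ = x then l else 0
  have : (∃ s ∈ S, s * g * s⁻¹ = y⁻¹ * x * y) ↔ ∃ s ∈ S, s * g * s⁻¹ = x := by
    constructor
    · rintro ⟨s, hs, h⟩
      refine ⟨y * s, S.mul_mem hy hs, ?_⟩
      have : y * s * g * (y * s)⁻¹ = y * (s * g * s⁻¹) * y⁻¹ := by group
      rw [this, h]; group
    · rintro ⟨s, hs, h⟩
      refine ⟨y⁻¹ * s, S.mul_mem (S.inv_mem hy) hs, ?_⟩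
      have : y⁻¹ * s * g * (y⁻¹ * s)⁻¹ = y⁻¹ * (s * g * s⁻¹) * y := by group
      rw [this, h]
  simp only [this]

theorem orbS_int (S : Subgroup G) (g : G) {l : ℂ} (hl : MemLocalRing M l) : orbS S g l ∈ intA G M := by
  classical
  intro x
  show MemLocalRing M (if ∃ s ∈ S, s * g * s⁻¹ = x then l else 0)
  split_ifs
  · exact hl
  · exact ring_zero

open Classical in
theorem Trc_orbS {Q S : Subgroup G} {q : G} (h : Mx p Q S q) {g : G} (hg : Q ⊓ Ce1 g ≤ S) (l : ℂ) (x : G) :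
    (Trc p q (orbS S g l)).coeff x = if ∃ y ∈ Q, y * g * y⁻¹ = x then l else 0 := by
  rw [Trc_c]
  by_cases hx : ∃ y ∈ Q, y * g * y⁻¹ = x
  · rw [if_pos hx]
    obtain ⟨y, hy, rfl⟩ := hx
    obtain ⟨j, hj⟩ := h.gen y hy
    -- unique index
    have hex : ∃ s ∈ S, s * g * s⁻¹ = (q ^ ((j : ZMod p)).val)⁻¹ * (y * g * y⁻¹) * q ^ ((j : ZMod p)).val := by
      refine ⟨(q ^ ((j : ZMod p)).val)⁻¹ * y, ?_, by group⟩
      rw [ZMod.val_natCast]
      have e1 : q ^ j = q ^ (j % p) * (q ^ p) ^ (j / p) := by rw [← pow_mul, ← pow_add, Nat.mod_add_div]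
      have e2 : (q ^ (j % p))⁻¹ * y = (q ^ p) ^ (j / p) * ((q ^ j)⁻¹ * y) := by
        rw [e1]; group
      rw [e2]
      exact S.mul_mem (S.pow_mem h.pow _) hj
    rw [Finset.sum_eq_single ((j : ZMod p))]
    · show (if ∃ s ∈ S, s * g * s⁻¹ = _ then l else 0) = l
      rw [if_pos hex]
    · intro k _ hk
      show (if ∃ s ∈ S, s * g * s⁻¹ = _ then l else 0) = 0
      rw [if_neg]
      rintro ⟨s', hs', h'⟩
      obtain ⟨s, hs, hs2⟩ := hex
      apply hk
      -- (q^k s')⁻¹ (q^j s) centralizes g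
      set a := q ^ ((j : ZMod p)).val with ha
      set b := q ^ k.val with hb
      have haQ : a ∈ Q := Q.pow_mem h.mem _
      have hbQ : b ∈ Q := Q.pow_mem h.mem _
      have h3 : (b * s') * g * (b * s')⁻¹ = (a * s) * g * (a * s)⁻¹ := by
        have e1 : (b * s') * g * (b * s')⁻¹ = b * (s' * g * s'⁻¹) * b⁻¹ := by group
        have e2 : (a * s) * g * (a * s)⁻¹ = a * (s * g * s⁻¹) * a⁻¹ := by group
        rw [e1, e2, h', hs2]; group
      have h4 : (b * s')⁻¹ * (a * s) ∈ Q ⊓ Ce1 g := by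
        refine ⟨Q.mul_mem (Q.inv_mem (Q.mul_mem hbQ (h.le hs'))) (Q.mul_mem haQ (h.le hs)), ?_⟩
        show (b * s')⁻¹ * (a * s) ∈ Ce1 g
        rw [mem_Ce1]
        have e1 : g = (b * s')⁻¹ * ((a * s) * g * (a * s)⁻¹) * (b * s') := by rw [← h3]; group
        have e2 : g * ((b * s')⁻¹ * (a * s)) = (b * s')⁻¹ * (a * s) * g := by
          conv_lhs => rw [e1]
          group
        exact e2.symm
      have h5 := hg h4
      have h6 : b⁻¹ * a ∈ S := by
        have e1 : b⁻¹ * a = s' * ((b * s')⁻¹ * (a * s)) * s⁻¹ := by group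
        rw [e1]
        exact S.mul_mem (S.mul_mem hs' h5) (S.inv_mem hs)
      -- so the exponents agree mod p
      by_contra hne
      have hdiff : ((j : ZMod p)) - k ≠ 0 := fun h0 => hne (sub_eq_zero.1 h0).symm
      -- q^m ∈ S with m coprime to p implies q ∈ S, contradiction with the index
      have h7 : q ^ (((j : ZMod p).val : ℤ) - (k.val : ℤ)) ∈ S := by
        have e1 : q ^ (((j : ZMod p).val : ℤ) - (k.val : ℤ)) = b⁻¹ * a := by
          rw [ha, hb, sub_eq_neg_add, zpow_add, zpow_neg, zpow_natCast, zpow_natCast]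
        rw [e1]; exact h6
      have hcop : IsCoprime (((j : ZMod p).val : ℤ) - (k.val : ℤ)) (p : ℤ) := by
        rw [Int.isCoprime_iff_gcd_eq_one, Int.gcd_comm]
        have : (p : ℤ).gcd (((j : ZMod p).val : ℤ) - (k.val : ℤ)) = Nat.gcd p (((j : ZMod p).val : ℤ) - (k.val : ℤ)).natAbs := rfl
        rw [this]
        refine (Nat.Prime.coprime_iff_not_dvd hp.out).2 fun hd => hdiff ?_
        rw [← Int.natCast_dvd] at hd
        have h8 := (ZMod.intCast_zmod_eq_zero_iff_dvd _ p).2 hd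
        push_cast at h8
        rw [ZMod.natCast_zmod_val, ZMod.natCast_zmod_val] at h8
        exact h8
      obtain ⟨m, n, hmn⟩ := hcop
      have hqS : q ∈ S := by
        have e1 : q = (q ^ (((j : ZMod p).val : ℤ) - (k.val : ℤ))) ^ m * ((q ^ p) ^ n) := by
          rw [← zpow_mul, ← zpow_natCast q p, ← zpow_mul, ← zpow_add, mul_comm _ m, mul_comm (p : ℤ) n, hmn, zpow_one]
        rw [e1]
        exact S.mul_mem (S.zpow_mem h7 _) (S.zpow_mem h.pow _)
      have hQS : Q ≤ S := by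
        intro y hy
        obtain ⟨j, hj⟩ := h.gen y hy
        have : y = q ^ j * ((q ^ j)⁻¹ * y) := by group
        rw [this]
        exact S.mul_mem (S.pow_mem hqS _) hj
      have hEq : Q = S := le_antisymm hQS h.le
      have hc := h.card
      rw [hEq] at hc
      have hpos : 0 < Nat.card S := Nat.card_pos
      have := hp.out.one_lt
      nlinarith
    · intro h'; exact absurd (Finset.mem_univ _) h'
  · rw [if_neg hx]
    apply Finset.sum_eq_zero
    intro k _
    show (if ∃ s ∈ S, s * g * s⁻¹ = _ then l else 0) = 0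
    rw [if_neg]
    rintro ⟨s, hs, h'⟩
    apply hx
    refine ⟨q ^ k.val * s, Q.mul_mem (Q.pow_mem h.mem _) (h.le hs), ?_⟩
    have e1 : q ^ k.val * s * g * (q ^ k.val * s)⁻¹ = q ^ k.val * (s * g * s⁻¹) * (q ^ k.val)⁻¹ := by group
    rw [e1, h']; group

theorem span_tr {Q : Subgroup G} (hQ : IsPGroup p Q) : ∀ (n : ℕ) (a : MonoidAlgebra ℂ G), a ∈ intA G M → KG.Fix Q a →
    KG.tr (Ce Q) a = 0 → Nat.card {g : G // a.coeff g ≠ 0} ≤ n →
    ∃ l : List (MonoidAlgebra ℂ G), (∀ x ∈ l, PT p M Q x) ∧ a = l.sum := by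
  classical
  intro n
  induction n with
  | zero =>
    intro a _ _ _ hn
    refine ⟨[], by simp, ?_⟩
    rw [List.sum_nil]
    apply ext_coeff
    intro g
    by_contra hg
    have : 0 < Nat.card {g : G // a.coeff g ≠ 0} := by
      haveI : Nonempty {g : G // a.coeff g ≠ 0} := ⟨⟨g, hg⟩⟩
      exact Nat.card_pos
    omega
  | succ n ih =>
    intro a ha hf ht hn
    by_cases h0 : ∀ g, a.coeff g = 0
    · exact ⟨[], by simp, by rw [List.sum_nil]; exact ext_coeff h0⟩
    push_neg at h0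
    obtain ⟨g, hg⟩ := h0
    have hgC : g ∉ Ce Q := by
      intro h'
      apply hg
      rw [← KG.tr_c_of_mem a h', ht]; rfl
    have hlt : Q ⊓ Ce1 g < Q := by
      refine lt_of_le_of_ne inf_le_left fun h' => hgC ?_
      exact le_Ce1_iff.1 (h' ▸ inf_le_right)
    obtain ⟨S, q, hRS, hmx⟩ := exists_Mx hQ hlt
    set t := Trc p q (orbS S g (a.coeff g)) with ht'
    have htc : ∀ x, t.coeff x = if ∃ y ∈ Q, y * g * y⁻¹ = x then a.coeff g else 0 := fun x =>
      Trc_orbS hmx hRS _ x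
    have hPT : PT p M Q t := ⟨S, q, orbS S g (a.coeff g), hmx, orbS_int S g (ha g), orbS_fix _ _ _, rfl⟩
    have hti : t ∈ intA G M := int_Trc (orbS_int S g (ha g))
    have htf : KG.Fix Q t := fix_Trc hmx (orbS_fix _ _ _)
    have hsub : ∀ x, (a - t).coeff x = if ∃ y ∈ Q, y * g * y⁻¹ = x then 0 else a.coeff x := by
      intro x
      rw [MonoidAlgebra.coeff_sub, Finsupp.sub_apply, htc]
      split_ifs with hx
      · obtain ⟨y, hy, rfl⟩ := hx
        rw [hf.c hy, sub_self]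
      · rw [sub_zero]
    obtain ⟨l, hl, hl2⟩ := ih (a - t) ((intA G M).sub_mem ha hti) (hf.sub htf) (by
      apply ext_coeff
      intro x
      by_cases hx : x ∈ Ce Q
      · rw [KG.tr_c_of_mem _ hx, hsub, if_neg]
        · rw [← KG.tr_c_of_mem a hx, ht]
        · rintro ⟨y, hy, rfl⟩
          apply hgC
          have h1 := Subgroup.mem_centralizer_iff.1 hx y hy
          have h2 : y * g * y⁻¹ = g := by
            have : y⁻¹ * (y * (y * g * y⁻¹)) = y⁻¹ * (y * g * y⁻¹ * y) := by rw [h1]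
            have e1 : y⁻¹ * (y * (y * g * y⁻¹)) = y * g * y⁻¹ := by group
            have e2 : y⁻¹ * (y * g * y⁻¹ * y) = g := by group
            rw [← e1, this, e2]
          rw [h2] at hx; exact hx
      · rw [KG.tr_c_of_notMem _ hx]; rfl) (by
      have h1 : Nat.card {x : G // (a - t).coeff x ≠ 0} < Nat.card {x : G // a.coeff x ≠ 0} := by
        rw [Nat.card_eq_fintype_card, Nat.card_eq_fintype_card, Fintype.card_subtype, Fintype.card_subtype]
        apply Finset.card_lt_card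
        refine ⟨?_, ?_⟩
        · intro x hx
          rw [Finset.mem_filter] at hx ⊢
          refine ⟨hx.1, fun h' => hx.2 ?_⟩
          rw [hsub, h']; split_ifs <;> rfl
        · intro h'
          have h2 := h' (Finset.mem_filter.2 ⟨Finset.mem_univ g, hg⟩)
          rw [Finset.mem_filter] at h2
          apply h2.2
          rw [hsub, if_pos ⟨1, Q.one_mem, by group⟩]
      omega)
    refine ⟨t :: l, ?_, ?_⟩
    · intro x hx
      rcases List.mem_cons.1 hx with rfl | hx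
      · exact hPT
      · exact hl x hx
    · rw [List.sum_cons, ← hl2]; abel

end span

end Cfsg.Agent.H25.STf
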