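import Cfsg.Agent.H25_STf
import Cfsg.Agent.H25_Sub2

/-! The base system. -/

set_option autoImplicit false
set_option linter.unusedSectionVars false

open scoped ComplexConjugate

namespace Cfsg.Agent.H25.STg

open Cfsg Cfsg.Agent.H3 Cfsg.Agent.H3.CharBasic Cfsg.Agent.H3.CharIrr Cfsg.Agent.H3.CharComplete
  Cfsg.Agent.H25.Brauer Cfsg.Agent.H10.BlockTrace Cfsg.Agent.H3.CharInd
  Cfsg.Agent.H10.Char Cfsg.Agent.H10.BlockLoc Cfsg.Agent.H10.BlockAlg Cfsg.Agent.H10.BlockIdem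
  Cfsg.Agent.H10.BlockSMT Cfsg.Agent.H25.STa Cfsg.Agent.H25.STb Cfsg.Agent.H25.STc Cfsg.Agent.H25.STd
  Cfsg.Agent.H25.STe Cfsg.Agent.H25.STf Cfsg.Agent.H25.IndCong Cfsg.Agent.H25.Sub2
  Cfsg.Agent.H25.KG Cfsg.Agent.H25.Red Cfsg.Agent.H25.BPTr

variable {p : ℕ} {M : Ideal AlgInt} {G : Type*} [Group G] [Fintype G] [hMax : M.IsMaximal]

section gc

theorem _root_.Cfsg.Agent.H25.STd.GC.int' {Q : Subgroup G} {ξ : G → ℂ} (h : GC Q ξ) {u : G} (hu : u ∈ Q) : IsIntegral ℤ (ξ u) := by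
  haveI : Fintype Q := Fintype.ofFinite _
  exact IntSpan.isIntegral (h inferInstance) ⟨u, hu⟩

theorem _root_.Cfsg.Agent.H25.STd.GC.int {Q : Subgroup G} {ξ : G → ℂ} (h : GC Q ξ) {u : G} (hu : u ∈ Q) : MemLocalRing M (ξ u) :=
  memLocalRing_of_integral hMax.ne_top (STd.GC.int' h hu)

theorem _root_.Cfsg.Agent.H25.STd.GC.cls {Q : Subgroup G} {ξ : G → ℂ} (h : GC Q ξ) {y u : G} (hy : y ∈ Q) (hu : u ∈ Q) :
    ξ (y * u * y⁻¹) = ξ u := by
  haveI : Fintype Q := Fintype.ofFinite _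
  exact (h inferInstance).1 ⟨u, hu⟩ ⟨y, hy⟩

theorem _root_.Cfsg.Agent.H25.STd.GC.mul {Q : Subgroup G} {ξ η : G → ℂ} (h : GC Q ξ) (h' : GC Q η) : GC Q (fun u => ξ u * η u) :=
  fun inst => IntSpan.mul (h inst) (h' inst)

/-- pull back along a homomorphism -/
theorem comp_IntSpan {A B : Type*} [Group A] [Fintype A] [Group B] [Fintype B] {φ : B → ℂ} (h : IntSpan φ)
    (f : A →* B) : IntSpan (fun a => φ (f a)) := by
  have : Fintype (IrrCharacter B) := Fintype.ofFinite _
  have h1 : (fun a => φ (f a)) = ∑ χ : IrrCharacter B, classInner φ χ • (fun a => (χ : B → ℂ) (f a)) := by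
    funext a
    have := congrFun (expansion_fintype φ h.1) (f a)
    rw [this]
    simp [Finset.sum_apply]
  rw [h1]
  refine IntSpan.sum _ fun χ _ => ?_
  exact (IsChar.intSpan (IsChar.comp (IsIrr.isCharacter χ.2) f)).smul (h.2 _ χ.2)

theorem _root_.Cfsg.Agent.H25.STd.GC.mono {Q S : Subgroup G} {ξ : G → ℂ} (h : GC Q ξ) (hS : S ≤ Q) : GC S ξ := by
  intro inst
  haveI : Fintype Q := Fintype.ofFinite _
  exact comp_IntSpan (h inferInstance) (Subgroup.inclusion hS)

theorem shift_IntSpan {φ : G → ℂ} (hφ : IsCharacter G φ) {Q : Subgroup G} [Fintype Q] {s : G} (hs : s ∈ Ce Q) :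
    IntSpan (fun u : Q => φ ((u : G) * s)) := by
  classical
  haveI : Fintype (Ce1 s) := Fintype.ofFinite _
  have : Fintype (IrrCharacter (Ce1 s)) := Fintype.ofFinite _
  have hQ : Q ≤ Ce1 s := le_Ce1_iff.2 hs
  let s' : Ce1 s := ⟨s, mem_Ce1.2 rfl⟩
  have hs' : ∀ c : Ce1 s, c * s' = s' * c := fun c => Subtype.ext (mem_Ce1.1 c.2)
  have hres : IntSpan (fun c : Ce1 s => φ c) := IsChar.intSpan (CharInd.IsChar.res hφ _)
  have h1 : (fun u : Q => φ ((u : G) * s)) = ∑ χ : IrrCharacter (Ce1 s),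
      (classInner (fun c : Ce1 s => φ c) χ * zl s' χ) • (fun u : Q => (χ : Ce1 s → ℂ) (Subgroup.inclusion hQ u)) := by
    funext u
    have h2 := congrFun (expansion_fintype (fun c : Ce1 s => φ c) hres.1) (s' * Subgroup.inclusion hQ u)
    have h3 : φ ((u : G) * s) = φ ((s' * Subgroup.inclusion hQ u : Ce1 s) : G) := by
      show _ = φ (s * (u : G))
      rw [mem_Ce1.1 (hQ u.2)]
    refine (h3.trans h2).trans ?_
    rw [Finset.sum_apply, Finset.sum_apply]
    refine Finset.sum_congr rfl fun χ _ => ?_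
    rw [Pi.smul_apply, Pi.smul_apply, smul_eq_mul, smul_eq_mul]
    have h4 := zl_pow hs' χ 1 (Subgroup.inclusion hQ u)
    rw [pow_one, pow_one] at h4
    rw [h4, mul_assoc]
  rw [h1]
  refine IntSpan.sum _ fun χ _ => ?_
  exact (IsChar.intSpan (IsChar.comp (IsIrr.isCharacter χ.2) _)).smul ((hres.2 _ χ.2).mul (zl_integral hs' χ))

open Classical in
theorem base_int {φ : G → ℂ} (hφ : IsCharacter G φ) {Q : Subgroup G} {s : G} (hs : s ∈ Ce Q) {ζ : G → ℂ}
    (hζ : GC Q ζ) : IsIntegral ℤ ((Nat.card Q : ℂ)⁻¹ * ∑ u : G, if u ∈ Q then ζ u * φ (u * s) else 0) := by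
  haveI : Fintype Q := Fintype.ofFinite _
  have h1 := IntSpan.mul (hζ inferInstance) (shift_IntSpan hφ hs)
  have h2 := IntSpan.inner_char h1 IsChar.one
  have e : (∑ u : G, if u ∈ Q then ζ u * φ (u * s) else 0) = ∑ u : Q, ζ u * φ ((u : G) * s) := by
    rw [← Finset.sum_filter]
    exact (Finset.sum_subtype (Finset.univ.filter (fun u : G => u ∈ Q)) (by simp) _)
  rw [e]
  convert h2 using 1
  unfold classInner
  congr 1
  refine Finset.sum_congr rfl fun u _ => ?_
  simp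

end gc

section base
variable [hp : Fact p.Prime]

/-- eventual integrality of everything -/
def Good (p : ℕ) (M : Ideal AlgInt) [M.IsMaximal] (Q : Subgroup G) (z : G → MonoidAlgebra ℂ G) (φ : G → ℂ) : Prop :=
  ∀ ξ, GC Q ξ → ∀ a ∈ intA G M, KG.Fix Q a → EvI p M Q z ξ φ a

theorem stepA_list (hM : IsPModular p M) {Q : Subgroup G} (hQ : IsPGroup p Q) {z : G → MonoidAlgebra ℂ G}
    (hz : Sys M Q z) {φ : G → ℂ} (hφ : IsClassFunction G φ) (hφi : ∀ g, MemLocalRing M (φ g))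
    {ξ : G → ℂ} (hξ : GC Q ξ)
    (P : MonoidAlgebra ℂ G → Prop) (hP1 : ∀ x, P x → x ∈ intA G M ∧ KG.Fix Q x)
    (hPm : ∀ x y, P x → P y → P (x * y)) (hPe : ∀ x, P x → EvI p M Q z ξ φ x)
    (l : List (MonoidAlgebra ℂ G)) (hl : ∀ x ∈ l, P x) : EvI p M Q z ξ φ l.sum := by
  have h1 := stepA hM hQ hz hφ hφi (fun u hu => hξ.int hu) P hP1 hPm hPe (a := fun i : Fin l.length => l.get i)
    (fun i => hl _ (List.get_mem l i))
  have h2 : ∑ i : Fin l.length, l.get i = l.sum := by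
    rw [← List.sum_ofFn, List.ofFn_get]
  rwa [h2] at h1

theorem PT_facts {Q : Subgroup G} {x : MonoidAlgebra ℂ G} (h : PT p M Q x) : x ∈ intA G M ∧ KG.Fix Q x := by
  obtain ⟨S, q, c, hmx, hc, hf, rfl⟩ := h
  exact ⟨int_Trc hc, fix_Trc hmx hf⟩

theorem PT_mul_right {Q : Subgroup G} {x y : MonoidAlgebra ℂ G} (h : PT p M Q x) (hy : y ∈ intA G M)
    (hyf : KG.Fix Q y) : PT p M Q (x * y) := by
  obtain ⟨S, q, c, hmx, hc, hf, rfl⟩ := h
  exact ⟨S, q, c * y, hmx, (intA G M).mul_mem hc hy, hf.mul (hyf.mono hmx.le), Trc_mul y hyf hmx.mem⟩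

theorem PT_mul_left {Q : Subgroup G} {x y : MonoidAlgebra ℂ G} (h : PT p M Q x) (hy : y ∈ intA G M)
    (hyf : KG.Fix Q y) : PT p M Q (y * x) := by
  obtain ⟨S, q, c, hmx, hc, hf, rfl⟩ := h
  exact ⟨S, q, y * c, hmx, (intA G M).mul_mem hy hc, (hyf.mono hmx.le).mul hf, mul_Trc y hyf hmx.mem⟩

theorem card_lt_of_Mx {Q S : Subgroup G} {q : G} (h : Mx p Q S q) : Nat.card S < Nat.card Q := by
  rw [h.card]
  have h1 : 0 < Nat.card S := Nat.card_pos
  have := hp.out.one_lt
  nlinarith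

theorem PT_EvI (hM : IsPModular p M) {Q : Subgroup G} (hQ : IsPGroup p Q) {z : G → MonoidAlgebra ℂ G}
    (hz : Sys M Q z) {φ : G → ℂ} (hφ : IsClassFunction G φ) (hφi : ∀ g, MemLocalRing M (φ g))
    {ξ : G → ℂ} (hξ : GC Q ξ) (good : ∀ S : Subgroup G, S ≤ Q → Nat.card S < Nat.card Q → Good p M S z φ)
    {x : MonoidAlgebra ℂ G} (hx : PT p M Q x) : EvI p M Q z ξ φ x := by
  obtain ⟨S, q, c, hmx, hc, hf, rfl⟩ := hx
  exact stepB hM hQ hz hφ hφi (fun u hu => hξ.int hu) (fun y hy v hv => hξ.cls hy hv) hmx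
    (good S hmx.le (card_lt_of_Mx hmx) ξ (hξ.mono hmx.le)) hc hf

theorem single_pow' (g : G) (c : ℂ) (n : ℕ) : (MonoidAlgebra.single g c) ^ n = MonoidAlgebra.single (g ^ n) (c ^ n) := by
  induction n with
  | zero => simp; rfl
  | succ n ih => rw [pow_succ, ih, MonoidAlgebra.single_mul_single, ← pow_succ, ← pow_succ]

theorem comm_single {u : G} (c : ℂ) {x : MonoidAlgebra ℂ G} (hx : KG.Supp (Ce1 u) x) :
    MonoidAlgebra.single u c * x = x * MonoidAlgebra.single u c := by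
  refine KG.comm_of (H := Ce1 u) (fix_single ?_ c) hx
  rw [Subgroup.mem_centralizer_iff]
  intro y hy
  exact mem_Ce1.1 hy

theorem sys_base {Q : Subgroup G} {η : G → ℂ} (hη : GC Q η) : Sys M Q (fun u => MonoidAlgebra.single u (η u)) where
  int := fun u hu => single_int u (hη.int hu)
  comm := fun u _ x hx => comm_single _ hx
  eqv := fun q hq u hu => by rw [cnj_single, hη.cls hq hu]

theorem list_sum_tr (Q : Subgroup G) (a : MonoidAlgebra ℂ G) [DecidablePred (· ∈ Ce Q)] :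
    KG.tr (Ce Q) a = ((Finset.univ : Finset G).toList.map fun g => if g ∈ Ce Q then
      MonoidAlgebra.single g (a.coeff g) else MonoidAlgebra.single 1 0).sum := by
  classical
  rw [Finset.sum_map_toList]
  apply ext_coeff
  intro x
  rw [MonoidAlgebra.coeff_sum, Finsupp.finsetSum_apply, Finset.sum_eq_single x]
  · by_cases hx : x ∈ Ce Q
    · rw [KG.tr_c_of_mem _ hx, if_pos hx, MonoidAlgebra.coeff_single, Finsupp.single_eq_same]
    · rw [KG.tr_c_of_notMem _ hx, if_neg hx, MonoidAlgebra.coeff_single, Finsupp.single_apply]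
      simp
  · intro g _ hg
    by_cases hg' : g ∈ Ce Q
    · rw [if_pos hg', MonoidAlgebra.coeff_single, Finsupp.single_apply, if_neg hg]
    · rw [if_neg hg', MonoidAlgebra.coeff_single, Finsupp.single_apply]
      simp
  · intro h; exact absurd (Finset.mem_univ _) h

theorem good_base (hM : IsPModular p M) {χ : IrrCharacter G} {η : G → ℂ} : ∀ (n : ℕ) (Q : Subgroup G), IsPGroup p Q →
    Nat.card Q ≤ n → GC Q η → Good p M Q (fun u => MonoidAlgebra.single u (η u)) (χ : G → ℂ) := by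
  classical
  have hχc : IsClassFunction G (χ : G → ℂ) := IsIrr.isClass χ.2
  have hχi : ∀ g, MemLocalRing M ((χ : G → ℂ) g) := fun g =>
    memLocalRing_of_integral hMax.ne_top (IsChar.isIntegral (IsIrr.isCharacter χ.2) g)
  intro n
  induction n with
  | zero =>
    intro Q _ hn
    have : 0 < Nat.card Q := Nat.card_pos
    omega
  | succ n ih =>
    intro Q hQ hn hη ξ hξ a ha hf
    have hz := sys_base (M := M) hη
    let P : MonoidAlgebra ℂ G → Prop := fun x => (∃ g ∈ Ce Q, ∃ l, MemLocalRing M l ∧ x = MonoidAlgebra.single g l) ∨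
      PT p M Q x
    have hP1 : ∀ x, P x → x ∈ intA G M ∧ KG.Fix Q x := by
      rintro x (⟨g, hg, l, hl, rfl⟩ | hx)
      · exact ⟨single_int g hl, fix_single hg l⟩
      · exact PT_facts hx
    have hPm : ∀ x y, P x → P y → P (x * y) := by
      rintro x y (⟨g, hg, l, hl, rfl⟩ | hx) hy
      · rcases hy with ⟨g', hg', l', hl', rfl⟩ | hy
        · exact Or.inl ⟨g * g', (Ce Q).mul_mem hg hg', l * l', ring_mul hl hl', MonoidAlgebra.single_mul_single _ _ _ _⟩
        · exact Or.inr (PT_mul_left hy (single_int g hl) (fix_single hg l))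
      · exact Or.inr (PT_mul_right hx (hP1 y hy).1 (hP1 y hy).2)
    have hPe : ∀ x, P x → EvI p M Q (fun u => MonoidAlgebra.single u (η u)) ξ (χ : G → ℂ) x := by
      rintro x (⟨g, hg, l, hl, rfl⟩ | hx)
      · refine ⟨0, fun N _ => ?_⟩
        have e1 : II Q (fun u => MonoidAlgebra.single u (η u)) ξ (χ : G → ℂ) (p ^ N) (MonoidAlgebra.single g l) =
            l ^ (p ^ N) * ((Nat.card Q : ℂ)⁻¹ * ∑ u : G, if u ∈ Q then (ξ u * η u) * (χ : G → ℂ) (u * g ^ (p ^ N)) else 0) := by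
          unfold II
          rw [mul_left_comm]
          congr 1
          rw [Finset.mul_sum]
          refine Finset.sum_congr rfl fun u _ => ?_
          split_ifs with hu
          · have hgu : g ∈ Ce1 u := by
              rw [mem_Ce1]
              exact (Subgroup.mem_centralizer_iff.1 hg u hu).symm
            rw [KG.tr_of_supp (supp_single hgu l), single_pow', MonoidAlgebra.single_mul_single, lin_single]
            ring
          · rw [mul_zero]
        rw [e1]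
        exact ring_mul (ring_pow hl _) (memLocalRing_of_integral hMax.ne_top
          (base_int (IsIrr.isCharacter χ.2) ((Ce Q).pow_mem hg _) (hξ.mul hη)))
      · exact PT_EvI hM hQ hz hχc hχi hξ (fun S hS hlt => ih S (hQ.to_le hS) (by omega) (hη.mono hS)) hx
    obtain ⟨l, hl, hl2⟩ := span_tr (M := M) hQ _ (a - KG.tr (Ce Q) a) ((intA G M).sub_mem ha (int_tr ha _))
      (hf.sub (hf.tr (le_trans (Subgroup.le_normalizer (H := Q)) (norm_le_norm_Ce Q)))) (by
        rw [map_sub, KG.tr_tr le_rfl, sub_self]) le_rfl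
    have hfin := stepA_list hM hQ hz hχc hχi hξ P hP1 hPm hPe
      (((Finset.univ : Finset G).toList.map fun g => if g ∈ Ce Q then
        MonoidAlgebra.single g (a.coeff g) else MonoidAlgebra.single 1 0) ++ l) (by
        intro x hx
        rcases List.mem_append.1 hx with hx | hx
        · obtain ⟨g, -, rfl⟩ := List.mem_map.1 hx
          by_cases hg : g ∈ Ce Q
          · rw [if_pos hg]; exact Or.inl ⟨g, hg, _, ha g, rfl⟩
          · rw [if_neg hg]; exact Or.inl ⟨1, (Ce Q).one_mem, 0, ring_zero, rfl⟩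
        · exact Or.inr (hl x hx))
    rw [List.sum_append, ← list_sum_tr, ← hl2] at hfin
    have : KG.tr (Ce Q) a + (a - KG.tr (Ce Q) a) = a := by abel
    rwa [this] at hfin

end base

end Cfsg.Agent.H25.STg
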