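import Cfsg.Agent.H25_KGMax
import Cfsg.Agent.H25_BPSub

/-! Decomposition of the fixed algebra of a `p`-group along the subpairs below its blocks. -/

set_option autoImplicit false
set_option linter.unusedSectionVars false
set_option linter.style.haveILetI false

namespace Cfsg.Agent.H25.STh

open Cfsg.Agent.H25.KG Cfsg.Agent.H25.BPSub

variable {k : Type*} [Field k] {G : Type*} [Group G] [Fintype G] {p : ℕ} [hp : Fact p.Prime] [CharP k p]
variable {Q : Subgroup G} {e : MonoidAlgebra k G}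

theorem mem_le (hQ : IsPGroup p Q) (he : IsBlk (Ce Q) e) {R R' : Subgroup G} {f f' a : MonoidAlgebra k G}
    (h : LE p R f Q e) (h' : LE p R' f' Q e) (hlt : R < R') (hn : R' ≤ Subgroup.normalizer (R : Set G))
    (ha : Fix Q a) (hR' : KG.tr (Ce R') a * f' = KG.tr (Ce R') a) :
    KG.tr (Ce R') (KG.tr (Ce R) a * f) = KG.tr (Ce R') a := by
  have h1 : LE p R f R' f' := h.between hQ he h' hlt.le
  have hp' := h'.pair hQ he
  have h2 : NS p R f R' f' := h1.ns hp'.1 hp'.2 hn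
  have h3 : Fix R' (KG.tr (Ce R) a) := (ha.mono h'.le).tr (hn.trans (norm_le_norm_Ce R))
  rw [br_mul (p := p) hp'.1 h3 h2.fix, tr_tr (Ce_anti hlt.le)]
  have h4 : KG.tr (Ce R') f ∈ Z (Ce R') := tr_mem_Z (Ce_anti hlt.le) h2.bf.mem.2
  have h5 : f' * KG.tr (Ce R') f = f' := by rw [Z_comm h2.be.mem h4, h2.tr]
  rw [← hR', mul_assoc, h5, hR']

open Classical in
/-- the block below `(Q, e)` at `R` -/
noncomputable def eR (p : ℕ) (Q : Subgroup G) (e : MonoidAlgebra k G) (R : Subgroup G) : MonoidAlgebra k G :=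
  if h : ∃ f, IsBlk (Ce R) f ∧ LE p R f Q e then h.choose else 0

theorem eR_spec (hQ : IsPGroup p Q) (he : IsBlk (Ce Q) e) {R : Subgroup G} (hR : R ≤ Q) :
    IsBlk (Ce R) (eR p Q e R) ∧ LE p R (eR p Q e R) Q e := by
  have h := le_exists (p := p) hQ he hR
  unfold eR
  rw [dif_pos h]
  exact h.choose_spec

theorem eR_cs (hQ : IsPGroup p Q) (he : IsBlk (Ce Q) e) {R : Subgroup G} (hR : R ≤ Q) {y : G} (hy : y ∈ Q) :
    eR p Q e (cs y R) = KG.cnj y (eR p Q e R) := by
  have hyQ : cs y Q = Q := by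
    rw [← mem_normalizer_iff_cs]; exact Subgroup.le_normalizer hy
  have hye : KG.cnj y e = e := fix_of_supp he.mem.1 y hy
  have h1 := (eR_spec (p := p) hQ he hR).2.cnj y
  rw [hyQ, hye] at h1
  have h2 := (eR_spec (p := p) hQ he (R := cs y R) (by rw [← hyQ]; exact cs_mono y hR)).2
  exact le_unique hQ he h2 h1

/-- inductive property -/
structure PP (p : ℕ) (Q : Subgroup G) (e : MonoidAlgebra k G) (n : ℕ) (a : MonoidAlgebra k G) : Prop where
  fix : Fix Q a
  eq : ∀ R ≤ Q, n ≤ Nat.card R → KG.tr (Ce R) a * eR p Q e R = KG.tr (Ce R) a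

theorem card_cs' (y : G) (R : Subgroup G) : Nat.card (cs y R) = Nat.card R := card_cs y R

theorem inf_cs {y g : G} (hy : y ∈ Q) : Q ⊓ Ce1 (y * g * y⁻¹) = cs y (Q ⊓ Ce1 g) := by
  have hyQ : cs y Q = Q := by
    rw [← mem_normalizer_iff_cs]; exact Subgroup.le_normalizer hy
  rw [Ce1_cs]
  conv_lhs => rw [← hyQ]
  rw [KG.cs, KG.cs, KG.cs, ← Subgroup.map_inf_eq]
  · intro a b h
    exact (MulAut.conj y).injective h

open Classical in
theorem step (hQ : IsPGroup p Q) (he : IsBlk (Ce Q) e) {n : ℕ} {a : MonoidAlgebra k G} (h : PP p Q e (n + 1) a) :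
    ∃ a', PP p Q e n a' ∧ (n < Nat.card Q → KG.tr (Ce Q) a' = KG.tr (Ce Q) a) := by
  let a' : MonoidAlgebra k G := ofF fun g => if Nat.card (Q ⊓ Ce1 g : Subgroup G) = n then
    (KG.tr (Ce (Q ⊓ Ce1 g)) a * eR p Q e (Q ⊓ Ce1 g)).coeff g else a.coeff g
  have ha' : ∀ g, a'.coeff g = if Nat.card (Q ⊓ Ce1 g : Subgroup G) = n then
    (KG.tr (Ce (Q ⊓ Ce1 g)) a * eR p Q e (Q ⊓ Ce1 g)).coeff g else a.coeff g := fun _ => rfl
  have hle : ∀ {R : Subgroup G}, R ≤ Q → ∀ {g : G}, g ∈ Ce R → R ≤ Q ⊓ Ce1 g := fun hR g hg =>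
    le_inf hR (le_Ce1_iff.2 hg)
  -- big subgroups
  have hbig : ∀ R ≤ Q, n < Nat.card R → KG.tr (Ce R) a' = KG.tr (Ce R) a := by
    intro R hR hn
    apply ext_c
    intro g
    by_cases hg : g ∈ Ce R
    · rw [tr_c_of_mem _ hg, tr_c_of_mem _ hg, ha', if_neg]
      have := Subgroup.card_le_of_le (hle hR hg)
      omega
    · rw [tr_c_of_notMem _ hg, tr_c_of_notMem _ hg]
  -- subgroups of order n
  have heq : ∀ R ≤ Q, Nat.card R = n → KG.tr (Ce R) a' = KG.tr (Ce R) a * eR p Q e R := by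
    intro R hR hn
    apply ext_c
    intro g
    have hsp := eR_spec (p := p) hQ he hR
    by_cases hg : g ∈ Ce R
    · rw [tr_c_of_mem _ hg, ha']
      have h1 := hle hR hg
      by_cases hc : Nat.card (Q ⊓ Ce1 g : Subgroup G) = n
      · have h2 : R = Q ⊓ Ce1 g := Subgroup.eq_of_le_of_card_ge h1 (by rw [hc, hn])
        rw [if_pos hc, ← h2]
      · rw [if_neg hc]
        have h2 : R < Q ⊓ Ce1 g := lt_of_le_of_ne h1 fun h' => hc (by rw [← h', hn])
        have hpg : IsPGroup p (Q ⊓ Ce1 g : Subgroup G) := hQ.to_le inf_le_left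
        have h3 := lt_normalizer hpg h2
        set R' := (Q ⊓ Ce1 g) ⊓ Subgroup.normalizer (R : Set G) with hR'
        have hR'Q : R' ≤ Q := inf_le_left.trans inf_le_left
        have hR'g : g ∈ Ce R' := le_Ce1_iff.1 (inf_le_left.trans inf_le_right)
        have hcard : n + 1 ≤ Nat.card R' := by
          have : Nat.card R < Nat.card R' := Set.Finite.card_lt_card (Set.toFinite (R' : Set G)) h3
          omega
        have hsp' := eR_spec (p := p) hQ he hR'Q
        have h4 := mem_le hQ he hsp.2 hsp'.2 h3 inf_le_right h.fix (h.eq R' hR'Q hcard)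
        have h5 := congrArg (fun x : MonoidAlgebra k G => x.coeff g) h4
        simp only [tr_c_of_mem _ hR'g] at h5
        exact h5.symm
    · rw [tr_c_of_notMem _ hg]
      symm
      exact ((supp_tr (Ce R) a).mul hsp.1.mem.1).zero_of hg
  refine ⟨a', ⟨?_, ?_⟩, fun hn => hbig Q le_rfl hn⟩
  · rw [fix_iff]
    intro y hy g
    rw [ha', ha', inf_cs hy, card_cs']
    split_ifs with hc
    · rw [eR_cs hQ he inf_le_left hy]
      have h1 : KG.tr (Ce (cs y (Q ⊓ Ce1 g))) a = KG.cnj y (KG.tr (Ce (Q ⊓ Ce1 g)) a) := by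
        rw [cnj_tr, h.fix y hy, Ce, centralizer_cs]
      rw [h1, ← map_mul, cnj_c]
      congr 1
      group
    · exact h.fix.c hy g
  · intro R hR hn
    rcases hn.lt_or_eq with hn | hn
    · rw [hbig R hR hn]; exact h.eq R hR hn
    · rw [heq R hR hn.symm, mul_assoc, (eR_spec (p := p) hQ he hR).1.idem]

/-- every element can be corrected to lie below `(Q, e)` everywhere -/
theorem exists_below (hQ : IsPGroup p Q) (he : IsBlk (Ce Q) e) (a : MonoidAlgebra k G) :
    ∃ a', Fix Q a' ∧ (∀ R ≤ Q, KG.tr (Ce R) a' * eR p Q e R = KG.tr (Ce R) a') ∧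
      KG.tr (Ce Q) a' = KG.tr (Ce Q) a * e := by
  have heq : eR p Q e Q = e := (eR_spec (p := p) hQ he le_rfl).2.eq_of_eq
  have hs : Supp (Ce Q) (KG.tr (Ce Q) a * e) := (supp_tr _ _).mul he.mem.1
  have key : ∀ j : ℕ, j ≤ Nat.card Q → ∃ a', PP p Q e (Nat.card Q - j) a' ∧ KG.tr (Ce Q) a' = KG.tr (Ce Q) a * e := by
    intro j
    induction j with
    | zero =>
      intro _
      refine ⟨KG.tr (Ce Q) a * e, ⟨fix_of_supp hs, ?_⟩, tr_of_supp hs⟩
      intro R hR hn
      have hRQ : R = Q := Subgroup.eq_of_le_of_card_ge hR (by rwa [Nat.sub_zero] at hn)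
      rw [hRQ, heq, tr_of_supp hs, mul_assoc, he.idem]
    | succ j ih =>
      intro hj
      obtain ⟨a1, h1, h2⟩ := ih (by omega)
      have e1 : Nat.card Q - j = (Nat.card Q - (j + 1)) + 1 := by omega
      rw [e1] at h1
      obtain ⟨a2, h3, h4⟩ := step hQ he h1
      exact ⟨a2, h3, (h4 (by omega)).trans h2⟩
  obtain ⟨a', h1, h2⟩ := key (Nat.card Q) le_rfl
  exact ⟨a', h1.fix, fun R hR => h1.eq R hR (by omega), h2⟩

end Cfsg.Agent.H25.STh
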