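import Cfsg.Agent.H25_STg
import Cfsg.Agent.H25_STh

/-! The main integrality theorem for systems which are local below Brauer pairs. -/

set_option autoImplicit false
set_option linter.unusedSectionVars false

open scoped ComplexConjugate

namespace Cfsg.Agent.H25.STi

open Cfsg Cfsg.Agent.H3 Cfsg.Agent.H3.CharBasic Cfsg.Agent.H3.CharIrr Cfsg.Agent.H3.CharComplete
  Cfsg.Agent.H25.Brauer Cfsg.Agent.H10.BlockTrace Cfsg.Agent.H3.CharInd
  Cfsg.Agent.H10.Char Cfsg.Agent.H10.BlockLoc Cfsg.Agent.H10.BlockAlg Cfsg.Agent.H10.BlockIdem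
  Cfsg.Agent.H10.BlockSMT Cfsg.Agent.H25.STa Cfsg.Agent.H25.STb Cfsg.Agent.H25.STc Cfsg.Agent.H25.STd
  Cfsg.Agent.H25.STe Cfsg.Agent.H25.STf Cfsg.Agent.H25.STg Cfsg.Agent.H25.STh Cfsg.Agent.H25.BPSub
  Cfsg.Agent.H25.KG Cfsg.Agent.H25.Red Cfsg.Agent.H25.BPTr

variable {p : ℕ} {M : Ideal AlgInt} {G : Type*} [Group G] [Fintype G] [hMax : M.IsMaximal]

/-- the system is of the form `η(u) u` below Brauer pairs -/
def LocS (p : ℕ) (M : Ideal AlgInt) [M.IsMaximal] (z : G → MonoidAlgebra ℂ G) : Prop :=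
  ∀ (Q : Subgroup G) (e : MonoidAlgebra (KM M) G), IsPGroup p Q → IsBlk (Ce Q) e → ∃ η : G → ℂ, GC Q η ∧
    ∀ u ∈ Q, ∃ h ∈ Ru M u, (∀ x ∈ Ru M u, h * x = x * h) ∧ h * h = h ∧
      LE p (Subgroup.zpowers u) (rA M h) Q e ∧ z u * h = MonoidAlgebra.single u (η u) * h

/-- elements lying below `(Q, e)` -/
def Bel (p : ℕ) (M : Ideal AlgInt) [M.IsMaximal] (Q : Subgroup G) (e : MonoidAlgebra (KM M) G)
    (x : MonoidAlgebra ℂ G) : Prop :=
  x ∈ intA G M ∧ KG.Fix Q x ∧ ∀ R ≤ Q, ∀ f, LE p R f Q e → KG.tr (Ce R) (rA M x) * f = KG.tr (Ce R) (rA M x)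

theorem Bel.mul_right (hM : IsPModular p M) {Q : Subgroup G} (hQ : IsPGroup p Q) {e : MonoidAlgebra (KM M) G}
    (he : IsBlk (Ce Q) e) {x y : MonoidAlgebra ℂ G} (hx : Bel p M Q e x) (hy : y ∈ intA G M) (hyf : KG.Fix Q y) :
    Bel p M Q e (x * y) := by
  haveI := charP_KM M hM
  haveI : Fact p.Prime := ⟨hM.1⟩
  refine ⟨(intA G M).mul_mem hx.1 hy, hx.2.1.mul hyf, fun R hR f hf => ?_⟩
  have hfb := (hf.pair hQ he).2
  rw [rA_mul hx.1 hy, KG.br_mul (p := p) (hQ.to_le hR) ((rA_fix hx.2.1).mono hR) ((rA_fix hyf).mono hR)]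
  have h1 : KG.tr (Ce R) (rA M y) * f = f * KG.tr (Ce R) (rA M y) := by
    rw [KG.comm_of hfb.mem.2 (KG.supp_tr (Ce R) (rA M y))]
  rw [mul_assoc, h1, ← mul_assoc, hx.2.2 R hR f hf]

theorem Bel.mul_left (hM : IsPModular p M) {Q : Subgroup G} (hQ : IsPGroup p Q) {e : MonoidAlgebra (KM M) G}
    {x y : MonoidAlgebra ℂ G} (hx : Bel p M Q e x) (hy : y ∈ intA G M) (hyf : KG.Fix Q y) :
    Bel p M Q e (y * x) := by
  haveI := charP_KM M hM
  haveI : Fact p.Prime := ⟨hM.1⟩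
  refine ⟨(intA G M).mul_mem hy hx.1, hyf.mul hx.2.1, fun R hR f hf => ?_⟩
  rw [rA_mul hy hx.1, KG.br_mul (p := p) (hQ.to_le hR) ((rA_fix hyf).mono hR) ((rA_fix hx.2.1).mono hR),
    mul_assoc, hx.2.2 R hR f hf]

/-- comparison of two systems on an element -/
theorem evI_of_close (hM : IsPModular p M) {Q : Subgroup G} (hQ : IsPGroup p Q) {z z' : G → MonoidAlgebra ℂ G}
    {φ ξ : G → ℂ} (hξ : GC Q ξ) {a a' : MonoidAlgebra ℂ G}
    (h : ∀ d : ℕ, ∀ u ∈ Q, ∃ N0 : ℕ, ∀ N ≥ N0, ∃ y, MemLocalRing M y ∧ lin φ (z u * (KG.tr (Ce1 u) a) ^ (p ^ N)) =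
      lin φ (z' u * (KG.tr (Ce1 u) a') ^ (p ^ N)) + (p : ℂ) ^ d * y)
    (h' : EvI p M Q z' ξ φ a') : EvI p M Q z ξ φ a := by
  classical
  haveI : Fact p.Prime := ⟨hM.1⟩
  obtain ⟨d, hd⟩ := (IsPGroup.iff_card.1 hQ)
  obtain ⟨N2, hN2⟩ := h'
  have hcore : ∀ u : G, ∃ N0 : ℕ, ∀ N ≥ N0, ∃ y, MemLocalRing M y ∧ (u ∈ Q →
      lin φ (z u * (KG.tr (Ce1 u) a) ^ (p ^ N)) =
      lin φ (z' u * (KG.tr (Ce1 u) a') ^ (p ^ N)) + (p : ℂ) ^ d * y) := by
    intro u
    by_cases hu : u ∈ Q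
    · obtain ⟨N0, h0⟩ := h d u hu
      refine ⟨N0, fun N hN => ?_⟩
      obtain ⟨y, h1, h2⟩ := h0 N hN
      exact ⟨y, h1, fun _ => h2⟩
    · exact ⟨0, fun N _ => ⟨0, ring_zero, fun h' => absurd h' hu⟩⟩
  choose N1 hN1 using hcore
  refine ⟨N2 + ∑ u, N1 u, fun N hN => ?_⟩
  have l1 : ∀ u, N1 u ≤ N := fun u => by
    have := Finset.single_le_sum (f := N1) (fun _ _ => Nat.zero_le _) (Finset.mem_univ u)
    omega
  choose y hy1 hy2 using fun u => hN1 u N (l1 u)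
  have hp0 : (p : ℂ) ≠ 0 := by exact_mod_cast hM.1.ne_zero
  have hcard' : (Nat.card Q : ℂ) = (p : ℂ) ^ d := by rw [hd]; push_cast; rfl
  have e1 : II Q z ξ φ (p ^ N) a = II Q z' ξ φ (p ^ N) a' + ∑ u : G, if u ∈ Q then ξ u * y u else 0 := by
    have e3 : (∑ u : G, if u ∈ Q then ξ u * y u else 0) =
        (Nat.card Q : ℂ)⁻¹ * ∑ u : G, if u ∈ Q then ξ u * ((p : ℂ) ^ d * y u) else 0 := by
      rw [hcard', eq_inv_mul_iff_mul_eq₀ (pow_ne_zero _ hp0), Finset.mul_sum]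
      refine Finset.sum_congr rfl fun u _ => ?_
      split_ifs
      · ring
      · ring
    rw [e3]
    unfold II
    rw [← mul_add, ← Finset.sum_add_distrib]
    congr 1
    refine Finset.sum_congr rfl fun u _ => ?_
    by_cases hu : u ∈ Q
    · rw [if_pos hu, if_pos hu, if_pos hu, hy2 u hu]; ring
    · rw [if_neg hu, if_neg hu, if_neg hu, add_zero]
  rw [e1]
  refine ring_add (hN2 N (by omega)) (ring_sum _ _ fun u _ => ?_)
  split_ifs with hu
  · exact ring_mul (hξ.int hu) (hy1 u)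
  · exact ring_zero

theorem sml_term (hM : IsPModular p M) {φ : G → ℂ} (hφi : ∀ g, MemLocalRing M (φ g)) {w x : MonoidAlgebra ℂ G}
    (hw : w ∈ intA G M) (hx : Sml M x) (d : ℕ) :
    ∃ N0 : ℕ, ∀ N ≥ N0, ∃ y, MemLocalRing M y ∧ lin φ (w * x ^ (p ^ N)) = (p : ℂ) ^ d * y := by
  obtain ⟨L0, hL0⟩ := hx.pow_div hM d
  refine ⟨L0, fun N hN => ?_⟩
  obtain ⟨v, hv, hvv⟩ := hL0 (p ^ N) (hN.le.trans (Nat.lt_pow_self hM.1.one_lt).le)
  exact ⟨lin φ (w * v), lin_int hφi ((intA G M).mul_mem hw hv), by rw [hvv, mul_smul_comm, map_smul, smul_eq_mul]⟩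

theorem pow_split {R : Type*} [Ring R] {h x : R} (hh : h * h = h) (hc : h * x = x * h) {n : ℕ} (hn : 0 < n) :
    ((1 - h) * x) ^ n = (1 - h) * x ^ n := by
  have hc' : Commute (1 - h) x := by
    show (1 - h) * x = x * (1 - h)
    rw [sub_mul, mul_sub, one_mul, mul_one, hc]
  rw [hc'.mul_pow]
  have hi : IsIdempotentElem (1 - h) := by
    show (1 - h) * (1 - h) = 1 - h
    rw [mul_sub, sub_mul, sub_mul, one_mul, mul_one, one_mul, hh]; abel
  congr 1
  obtain ⟨m, rfl⟩ : ∃ m, n = m + 1 := ⟨n - 1, by omega⟩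
  exact hi.pow_succ_eq m

theorem bel_EvI (hM : IsPModular p M) {χ : IrrCharacter G} {Q : Subgroup G} (hQ : IsPGroup p Q)
    {z : G → MonoidAlgebra ℂ G} (hz : Sys M Q z) (hloc : LocS p M z) {ξ : G → ℂ} (hξ : GC Q ξ)
    {e : MonoidAlgebra (KM M) G} (he : IsBlk (Ce Q) e) {x : MonoidAlgebra ℂ G} (hx : Bel p M Q e x) :
    EvI p M Q z ξ (χ : G → ℂ) x := by
  haveI := charP_KM M hM
  haveI : Fact p.Prime := ⟨hM.1⟩
  have hχi : ∀ g, MemLocalRing M ((χ : G → ℂ) g) := fun g =>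
    memLocalRing_of_integral hMax.ne_top (IsChar.isIntegral (IsIrr.isCharacter χ.2) g)
  obtain ⟨η, hη, hu⟩ := hloc Q e hQ he
  refine evI_of_close hM hQ hξ (z' := fun u => MonoidAlgebra.single u (η u)) (a' := x) ?_
    (good_base hM _ Q hQ le_rfl hη ξ hξ x hx.1 hx.2.1)
  intro d u huQ
  obtain ⟨h, hh1, hh2, hh3, hh4, hh5⟩ := hu u huQ
  have htr := tr_mem_Ru (M := M) hx.1 u
  -- the small part
  have hsm : Sml M ((1 - h) * KG.tr (Ce1 u) x) := by
    rw [← rA_eq_zero_iff ((intA G M).mul_mem ((intA G M).sub_mem (intA G M).one_mem hh1.1) htr.1),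
      rA_mul ((intA G M).sub_mem (intA G M).one_mem hh1.1) htr.1, rA_sub (intA G M).one_mem hh1.1, rA_one, rA_tr]
    have h1 := hx.2.2 _ (zp_le huQ) _ hh4
    have h2 : Ce (Subgroup.zpowers u) = Ce1 u := H10.BlockSMT2.centralizer_zpowers u
    rw [h2] at h1
    have hb := (hh4.pair hQ he).2
    rw [h2] at hb
    have h3 : rA M h * KG.tr (Ce1 u) (rA M x) = KG.tr (Ce1 u) (rA M x) := by
      rw [KG.comm_of hb.mem.2 (KG.supp_tr _ _), h1]
    rw [sub_mul, one_mul, h3, sub_self]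
  obtain ⟨N0, hN0⟩ := sml_term (p := p) hM hχi
    ((intA G M).sub_mem (hz.int u huQ) (single_int (M := M) u (hη.int huQ))) hsm d
  refine ⟨N0, fun N hN => ?_⟩
  obtain ⟨y, hy, hyy⟩ := hN0 N hN
  refine ⟨y, hy, ?_⟩
  rw [← hyy, ← map_add]
  congr 1
  rw [pow_split hh3 (hh2 _ htr) (pow_pos hM.1.pos N)]
  have e1 : (z u - MonoidAlgebra.single u (η u)) * h = 0 := by rw [sub_mul, hh5, sub_self]
  have e2 : (z u - MonoidAlgebra.single u (η u)) * ((1 - h) * KG.tr (Ce1 u) x ^ p ^ N) =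
      (z u - MonoidAlgebra.single u (η u)) * KG.tr (Ce1 u) x ^ p ^ N := by
    rw [sub_mul 1 h, one_mul, mul_sub, ← mul_assoc _ h, e1, zero_mul, sub_zero]
  rw [e2, sub_mul]
  abel

theorem good_main (hM : IsPModular p M) {χ : IrrCharacter G} {z : G → MonoidAlgebra ℂ G}
    (hz : ∀ Q : Subgroup G, IsPGroup p Q → Sys M Q z) (hloc : LocS p M z) [hp : Fact p.Prime] :
    ∀ (n : ℕ) (Q : Subgroup G), IsPGroup p Q → Nat.card Q ≤ n → Good p M Q z (χ : G → ℂ) := by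
  classical
  haveI := charP_KM M hM
  have hχc : IsClassFunction G (χ : G → ℂ) := IsIrr.isClass χ.2
  have hχi : ∀ g, MemLocalRing M ((χ : G → ℂ) g) := fun g =>
    memLocalRing_of_integral hMax.ne_top (IsChar.isIntegral (IsIrr.isCharacter χ.2) g)
  intro n
  induction n with
  | zero =>
    intro Q _ hn
    have : 0 < Nat.card Q := Nat.card_pos
    omega
  | succ n ih =>
    intro Q hQ hn ξ hξ a ha hf
    let P : MonoidAlgebra ℂ G → Prop := fun x => (∃ e, IsBlk (Ce Q) e ∧ Bel p M Q e x) ∨ PT p M Q x ∨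
      (Sml M x ∧ KG.Fix Q x)
    have hP1 : ∀ x, P x → x ∈ intA G M ∧ KG.Fix Q x := by
      rintro x (⟨e, he, hx⟩ | hx | hx)
      · exact ⟨hx.1, hx.2.1⟩
      · exact PT_facts hx
      · exact ⟨hx.1.int, hx.2⟩
    have hPm : ∀ x y, P x → P y → P (x * y) := by
      rintro x y (⟨e, he, hx⟩ | hx | hx) hy
      · exact Or.inl ⟨e, he, hx.mul_right hM hQ he (hP1 y hy).1 (hP1 y hy).2⟩
      · exact Or.inr (Or.inl (PT_mul_right hx (hP1 y hy).1 (hP1 y hy).2))
      · exact Or.inr (Or.inr ⟨hx.1.mul_right (hP1 y hy).1, hx.2.mul (hP1 y hy).2⟩)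
    have hPe : ∀ x, P x → EvI p M Q z ξ (χ : G → ℂ) x := by
      rintro x (⟨e, he, hx⟩ | hx | hx)
      · exact bel_EvI hM hQ (hz Q hQ) hloc hξ he hx
      · exact PT_EvI hM hQ (hz Q hQ) hχc hχi hξ (fun S hS hlt => ih S (hQ.to_le hS) (by omega)) hx
      · refine evI_of_close hM hQ hξ (z' := z) (a' := 0) ?_ ⟨0, fun N _ => ?_⟩
        · intro d u hu
          have hsm : Sml M (KG.tr (Ce1 u) x) := by
            intro g
            by_cases hg : g ∈ Ce1 u
            · rw [KG.tr_c_of_mem _ hg]; exact hx.1 g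
            · rw [KG.tr_c_of_notMem _ hg]; exact ideal_zero
          obtain ⟨N0, hN0⟩ := sml_term (p := p) hM hχi ((hz Q hQ).int u hu) hsm d
          refine ⟨N0, fun N hN => ?_⟩
          obtain ⟨y, hy, hyy⟩ := hN0 N hN
          refine ⟨y, hy, ?_⟩
          rw [hyy, map_zero, zero_pow (pow_pos hM.1.pos N).ne', mul_zero, map_zero, zero_add]
        · have : II Q z ξ (χ : G → ℂ) (p ^ N) 0 = 0 := by
            unfold II
            rw [Finset.sum_eq_zero, mul_zero]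
            intro u _
            rw [map_zero, zero_pow (pow_pos hM.1.pos N).ne', mul_zero, map_zero, mul_zero]
            split_ifs <;> rfl
          rw [this]; exact ring_zero
    -- decomposition
    have hdec : ∀ e : MonoidAlgebra (KM M) G, ∃ A : MonoidAlgebra ℂ G, IsBlk (Ce Q) e → (Bel p M Q e A ∧
        KG.tr (Ce Q) (rA M A) = KG.tr (Ce Q) (rA M a) * e) := by
      intro e
      by_cases he : IsBlk (Ce Q) e
      · obtain ⟨a', h1, h2, h3⟩ := exists_below (p := p) hQ he (rA M a)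
        refine ⟨la a', fun _ => ⟨⟨la_int a', la_fix h1, fun R hR f hf => ?_⟩, by rw [rA_la]; exact h3⟩⟩
        rw [rA_la]
        have h4 := (eR_spec (p := p) hQ he hR).2
        rw [le_unique hQ he hf h4]
        exact h2 R hR
      · exact ⟨0, fun h => absurd h he⟩
    choose A hA using hdec
    set r := a - ∑ e ∈ blks (KM M) (Ce Q), A e with hr
    have hAi : ∀ e ∈ blks (KM M) (Ce Q), A e ∈ intA G M := fun e he => (hA e (mem_blks.1 he)).1.1
    have hri : r ∈ intA G M := (intA G M).sub_mem ha ((intA G M).sum_mem hAi)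
    have hfs : KG.Fix Q (∑ e ∈ blks (KM M) (Ce Q), A e) := by
      intro y hy
      rw [map_sum]
      exact Finset.sum_congr rfl fun e he => (hA e (mem_blks.1 he)).1.2.1 y hy
    have hrf : KG.Fix Q r := hf.sub hfs
    have hrs : Sml M (KG.tr (Ce Q) r) := by
      rw [← rA_eq_zero_iff (int_tr hri _), rA_tr, hr, rA_sub ha ((intA G M).sum_mem hAi), rA_sum _ _ hAi, map_sub,
        map_sum, Finset.sum_congr rfl fun e he => (hA e (mem_blks.1 he)).2, ← Finset.mul_sum, sum_blks, mul_one,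
        sub_self]
    have htf : KG.Fix Q (KG.tr (Ce Q) r) := hrf.tr (le_trans (Subgroup.le_normalizer (H := Q)) (norm_le_norm_Ce Q))
    obtain ⟨l, hl, hl2⟩ := span_tr (M := M) hQ _ (r - KG.tr (Ce Q) r) ((intA G M).sub_mem hri (int_tr hri _))
      (hrf.sub htf) (by rw [map_sub, KG.tr_tr le_rfl, sub_self]) le_rfl
    have hfin := stepA_list hM hQ (hz Q hQ) hχc hχi hξ P hP1 hPm hPe
      ((((blks (KM M) (Ce Q)).toList.map A) ++ [KG.tr (Ce Q) r]) ++ l) (by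
        intro x hx
        rcases List.mem_append.1 hx with hx | hx
        · rcases List.mem_append.1 hx with hx | hx
          · obtain ⟨e, he, rfl⟩ := List.mem_map.1 hx
            have he' := mem_blks.1 (Finset.mem_toList.1 he)
            exact Or.inl ⟨e, he', (hA e he').1⟩
          · rw [List.mem_singleton] at hx
            subst hx
            exact Or.inr (Or.inr ⟨hrs, htf⟩)
        · exact Or.inr (Or.inl (hl x hx)))
    rw [List.sum_append, List.sum_append, Finset.sum_map_toList, List.sum_singleton, ← hl2] at hfin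
    have : ∑ e ∈ blks (KM M) (Ce Q), A e + KG.tr (Ce Q) r + (r - KG.tr (Ce Q) r) = a := by rw [hr]; abel
    rwa [this] at hfin

end Cfsg.Agent.H25.STi
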