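import Cfsg.Agent.H25_STi
import Cfsg.Agent.H25_BrauerP

/-! The class function of a system; integrality of its multiplicities. -/

set_option autoImplicit false
set_option linter.unusedSectionVars false

open scoped ComplexConjugate

namespace Cfsg.Agent.H25.STj

open Cfsg Cfsg.Agent.H3 Cfsg.Agent.H3.CharBasic Cfsg.Agent.H3.CharIrr Cfsg.Agent.H3.CharComplete
  Cfsg.Agent.H25.Brauer Cfsg.Agent.H10.BlockTrace Cfsg.Agent.H3.CharInd Cfsg.Agent.H25.BrauerP
  Cfsg.Agent.H10.Char Cfsg.Agent.H10.BlockLoc Cfsg.Agent.H10.BlockAlg Cfsg.Agent.H10.BlockIdem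
  Cfsg.Agent.H10.BlockSMT Cfsg.Agent.H10.PPart
  Cfsg.Agent.H25.STa Cfsg.Agent.H25.STb Cfsg.Agent.H25.STc Cfsg.Agent.H25.STd
  Cfsg.Agent.H25.STe Cfsg.Agent.H25.STf Cfsg.Agent.H25.STg Cfsg.Agent.H25.STh Cfsg.Agent.H25.STi
  Cfsg.Agent.H25.KG Cfsg.Agent.H25.Red Cfsg.Agent.H25.BPTr

variable {p : ℕ} {M : Ideal AlgInt} {G : Type*} [Group G] [Fintype G] [hMax : M.IsMaximal]

/-- a `G`-equivariant system -/
structure FSys (p : ℕ) (M : Ideal AlgInt) [M.IsMaximal] (z : G → MonoidAlgebra ℂ G) : Prop where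
  int : ∀ u, z u ∈ intA G M
  comm : ∀ u, ∀ x, KG.Supp (Ce1 u) x → z u * x = x * z u
  eqv : ∀ q u, z (q * u * q⁻¹) = KG.cnj q (z u)
  loc : LocS p M z

theorem FSys.sys {z : G → MonoidAlgebra ℂ G} (h : FSys p M z) (Q : Subgroup G) : Sys M Q z where
  int := fun u _ => h.int u
  comm := fun u _ => h.comm u
  eqv := fun q _ u _ => h.eqv q u

section
variable [hp : Fact p.Prime]

/-- the class function -/
noncomputable def th (p : ℕ) [Fact p.Prime] (z : G → MonoidAlgebra ℂ G) (χ : G → ℂ) (g : G) : ℂ :=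
  lin χ (z (ppart_exists (p := p) g).choose * MonoidAlgebra.single ((ppart_exists (p := p) g).choose⁻¹ * g) 1)

theorem th_eq (z : G → MonoidAlgebra ℂ G) (χ : G → ℂ) {u s : G} (hc : Commute u s)
    (hu : ∃ k : ℕ, orderOf u = p ^ k) (hs : ¬ p ∣ orderOf s) :
    th p z χ (u * s) = lin χ (z u * MonoidAlgebra.single s 1) := by
  have h1 := (ppart_exists (p := p) (u * s)).choose_spec
  have h2 : (ppart_exists (p := p) (u * s)).choose = u := ppart_unique h1 (mk_ppart hc hu hs)
  unfold th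
  rw [h2, inv_mul_cancel_left]

theorem th_class {z : G → MonoidAlgebra ℂ G} (h : FSys p M z) {χ : G → ℂ} (hχ : IsClassFunction G χ) :
    IsClassFunction G (th p z χ) := by
  intro g x
  obtain ⟨u, s, hus, hc, hu, hs⟩ := exists_ppart (p := p) g
  rw [← hus, th_eq z χ hc hu hs]
  have e1 : x * (u * s) * x⁻¹ = (x * u * x⁻¹) * (x * s * x⁻¹) := by group
  have hc' : Commute (x * u * x⁻¹) (x * s * x⁻¹) := by
    show x * u * x⁻¹ * (x * s * x⁻¹) = x * s * x⁻¹ * (x * u * x⁻¹)
    have : u * s = s * u := hc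
    have e2 : x * u * x⁻¹ * (x * s * x⁻¹) = x * (u * s) * x⁻¹ := by group
    rw [e2, this]; group
  rw [e1, th_eq z χ hc' (by rw [orderOf_conj]; exact hu) (by rw [orderOf_conj]; exact hs), h.eqv, ← cnj_single,
    ← map_mul, lin_cnj hχ]

open Classical in
theorem local_int (hM : IsPModular p M) {z : G → MonoidAlgebra ℂ G} (h : FSys p M z) (χ : IrrCharacter G)
    {Q : Subgroup G} (hQ : IsPGroup p Q) {ξ : G → ℂ} (hξ : GC Q ξ) {s : G} (hs : s ∈ Ce Q) (hsr : ¬ p ∣ orderOf s) :
    MemLocalRing M ((Nat.card Q : ℂ)⁻¹ * ∑ u : G, if u ∈ Q then ξ u * th p z (χ : G → ℂ) (u * s) else 0) := by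
  obtain ⟨N0, hN0⟩ := good_main hM (χ := χ) (fun Q _ => h.sys Q) h.loc _ Q hQ le_rfl ξ hξ
    (MonoidAlgebra.single s 1) (single_mem_intA s) (fix_single hs 1)
  obtain ⟨m, hm, hm', -⟩ := H10.BlockKul.exists_pow hM.1 hsr N0
  have h1 := hN0 m hm
  convert h1 using 1
  unfold II
  congr 1
  refine Finset.sum_congr rfl fun u _ => ?_
  split_ifs with hu
  · have hsu : s ∈ Ce1 u := by
      rw [mem_Ce1]
      exact (Subgroup.mem_centralizer_iff.1 hs u hu).symm
    rw [KG.tr_of_supp (supp_single hsu 1), single_pow', hm', one_pow]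
    rw [th_eq z _ (Subgroup.mem_centralizer_iff.1 hs u hu) ?_ hsr]
    obtain ⟨k, hk⟩ := hQ ⟨u, hu⟩
    have : u ^ p ^ k = 1 := by simpa using congrArg Subtype.val hk
    obtain ⟨j, -, hj⟩ := (Nat.dvd_prime_pow hp.out).1 (orderOf_dvd_of_pow_eq_one this)
    exact ⟨j, hj⟩
  · rfl

theorem elem_int (hM : IsPModular p M) {z : G → MonoidAlgebra ℂ G} (h : FSys p M z) (χ : IrrCharacter G)
    {E : Subgroup G} [Fintype E] (hE : IsElementary p E) (α : IrrCharacter E) :
    MemLocalRing M (classInner (fun y : E => th p z (χ : G → ℂ) y) (α : E → ℂ)) := by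
  classical
  obtain ⟨x, hxc, hxo, k, hk⟩ := hE
  let P : Sylow p E := default
  let K : Subgroup E := Subgroup.zpowers x
  have hcardE : Nat.card K * p ^ k = Nat.card E := by rw [← hk]; exact K.card_mul_index
  have hKc : Nat.card K = orderOf x := Nat.card_zpowers x
  have hPcard : Nat.card P = p ^ k := by
    have h1 := P.card_eq_multiplicity
    rw [h1, ← hcardE, hKc, Nat.factorization_mul (orderOf_pos x).ne' (pow_pos hp.out.pos _).ne',
      Finsupp.add_apply, Nat.factorization_eq_zero_of_not_dvd (fun hd =>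
        (Nat.Prime.coprime_iff_not_dvd hp.out).1 hxo.symm hd), Nat.Prime.factorization_pow hp.out, zero_add,
      Finsupp.single_eq_same]
  have hcomp : Subgroup.IsComplement' (P : Subgroup E) K := by
    apply Subgroup.isComplement'_of_coprime
    · have : Nat.card (P : Subgroup E) = p ^ k := hPcard
      rw [this, ← hcardE, mul_comm]
    · have : Nat.card (P : Subgroup E) = p ^ k := hPcard
      rw [this, hKc]
      exact Nat.Coprime.pow_left _ hxo.symm
  -- the group Q in G
  let Q : Subgroup G := (P : Subgroup E).map E.subtype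
  have hQ : IsPGroup p Q := P.isPGroup'.map _
  let ξ : G → ℂ := fun g => if h : g ∈ E then conj ((α : E → ℂ) ⟨g, h⟩) else 0
  have hξ : GC Q ξ := by
    intro inst
    have hQE : Q ≤ E := by rintro _ ⟨y, -, rfl⟩; exact y.2
    have h1 : IntSpan (fun y : E => conj ((α : E → ℂ) y)) := IsChar.intSpan (IsChar.conj (IsIrr.isCharacter α.2))
    have h2 := comp_IntSpan h1 (Subgroup.inclusion hQE)
    convert h2 using 1
    funext u
    show (if h : (u : G) ∈ E then conj ((α : E → ℂ) ⟨u, h⟩) else 0) = _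
    rw [dif_pos (hQE u.2)]
    rfl
  have hloc : ∀ t : K, MemLocalRing M ((Nat.card Q : ℂ)⁻¹ * ∑ u : G, if u ∈ Q then ξ u * th p z (χ : G → ℂ) (u * (t : E)) else 0) := by
    intro t
    apply local_int hM h χ hQ hξ
    · rw [Subgroup.mem_centralizer_iff]
      rintro _ ⟨y, -, rfl⟩
      have h1 : (t : E) ∈ Subgroup.center E := (Subgroup.zpowers_le.2 hxc) t.2
      exact congrArg Subtype.val (Subgroup.mem_center_iff.1 h1 y)
    · intro hd
      have h1 : orderOf ((t : E) : G) = orderOf (t : E) := Subgroup.orderOf_coe _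
      have h2 : orderOf (t : E) ∣ orderOf x := by
        rw [← hKc]
        have := orderOf_dvd_natCard t
        rwa [← Subgroup.orderOf_coe] at this
      rw [h1] at hd
      exact (Nat.Prime.coprime_iff_not_dvd hp.out).1 hxo.symm (hd.trans h2)
  -- the sum
  haveI : Fintype K := Fintype.ofFinite _
  haveI : Fintype (P : Subgroup E) := Fintype.ofFinite _
  have hsum : ∀ F : E → ℂ, ∑ y : E, F y = ∑ t : K, ∑ u : (P : Subgroup E), F ((u : E) * (t : E)) := by
    intro F
    rw [Finset.sum_comm, ← Finset.sum_product', Finset.univ_product_univ]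
    exact (Fintype.sum_bijective (fun y : (↥(P : Subgroup E)) × (↥K) => (y.1 : E) * (y.2 : E)) hcomp _ _ (fun _ => rfl)).symm
  have hQsum : ∀ F : G → ℂ, (∑ u : G, if u ∈ Q then F u else 0) = ∑ u : (P : Subgroup E), F ((u : E) : G) := by
    intro F
    rw [← Finset.sum_filter]
    symm
    refine Finset.sum_bij (fun (u : (P : Subgroup E)) _ => ((u : E) : G)) ?_ ?_ ?_ ?_
    · intro u _
      exact Finset.mem_filter.2 ⟨Finset.mem_univ _, (u : E), u.2, rfl⟩
    · intro a _ b _ hab
      exact Subtype.ext (Subtype.ext hab)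
    · intro b hb
      obtain ⟨y, hy, rfl⟩ := (Finset.mem_filter.1 hb).2
      exact ⟨⟨y, hy⟩, Finset.mem_univ _, rfl⟩
    · intro a _; rfl
  have hQcard : Nat.card Q = p ^ k := by
    rw [← hPcard]
    exact Subgroup.card_map_of_injective E.subtype_injective
  have hp0 : (p : ℂ) ≠ 0 := by exact_mod_cast hM.1.ne_zero
  have hK0 : (Nat.card K : ℂ) ≠ 0 := by
    have : 0 < Nat.card K := Nat.card_pos
    exact_mod_cast this.ne'
  have hfin : classInner (fun y : E => th p z (χ : G → ℂ) y) (α : E → ℂ) =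
      (Nat.card K : ℂ)⁻¹ * ∑ t : K, conj ((α : E → ℂ) (t : E) / (α : E → ℂ) 1) *
        ((Nat.card Q : ℂ)⁻¹ * ∑ u : G, if u ∈ Q then ξ u * th p z (χ : G → ℂ) (u * (t : E)) else 0) := by
    have hE0 : (Nat.card E : ℂ) = (Nat.card K : ℂ) * (Nat.card Q : ℂ) := by
      rw [← hcardE, hQcard]; push_cast; rfl
    unfold classInner
    rw [hsum, hE0, mul_inv, mul_assoc, Finset.mul_sum (a := (Nat.card Q : ℂ)⁻¹)]
    congr 1
    refine Finset.sum_congr rfl fun t _ => ?_
    rw [hQsum, mul_left_comm]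
    congr 1
    rw [Finset.mul_sum]
    refine Finset.sum_congr rfl fun u _ => ?_
    have h1 : (t : E) ∈ Subgroup.center E := (Subgroup.zpowers_le.2 hxc) t.2
    have h2 : (α : E → ℂ) ((u : E) * (t : E)) = (α : E → ℂ) (t : E) / (α : E → ℂ) 1 * (α : E → ℂ) u := by
      rw [Subgroup.mem_center_iff.1 h1 u]
      exact IndCong.central_mul (fun c => Subgroup.mem_center_iff.1 h1 c) α u
    have h3 : ξ ((u : E) : G) = conj ((α : E → ℂ) u) := by
      show (if h : ((u : E) : G) ∈ E then conj ((α : E → ℂ) ⟨((u : E) : G), h⟩) else 0) = _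
      rw [dif_pos (u : E).2]
    rw [h2, h3, map_mul]
    show th p z (χ : G → ℂ) (((u : E) : G) * ((t : E) : G)) * _ = _
    ring
  rw [hfin]
  have hMt := hMax.ne_top
  refine ring_mul ?_ (ring_sum _ _ fun t _ => ring_mul ?_ (hloc t))
  · apply ring_inv_natCast hM
    rw [hKc]
    exact (Nat.Prime.coprime_iff_not_dvd hp.out).1 hxo.symm
  · apply memLocalRing_of_integral hMt
    apply isIntegral_conj
    have h1 : (t : E) ∈ Subgroup.center E := (Subgroup.zpowers_le.2 hxc) t.2
    exact IndCong.zl_integral (fun c => Subgroup.mem_center_iff.1 h1 c) α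

theorem char_int (hM : IsPModular p M) {z : G → MonoidAlgebra ℂ G} (h : FSys p M z) (χ : IrrCharacter G)
    (E : Subgroup G) [Fintype E] (hE : IsElementary p E) {α : E → ℂ} (hα : IsCharacter E α) :
    MemLocalRing M (classInner (fun y : E => th p z (χ : G → ℂ) y) α) := by
  obtain ⟨s, rfl⟩ := exists_multiset' hα
  rw [inner_multiset_right]
  clear hα
  induction s using Multiset.induction with
  | empty => simp only [Multiset.map_zero, Multiset.sum_zero]; exact ring_zero
  | cons a s ih =>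
    rw [Multiset.map_cons, Multiset.sum_cons]
    exact ring_add (elem_int hM h χ hE a) ih

theorem main_int (hM : IsPModular p M) {z : G → MonoidAlgebra ℂ G} (h : FSys p M z) (χ ψ : IrrCharacter G) :
    MemLocalRing M (classInner (th p z (χ : G → ℂ)) (ψ : G → ℂ)) := by
  classical
  have hth := th_class h (IsIrr.isClass χ.2)
  have hcl : ∀ v ∈ VP p G, MemLocalRing M (classInner (th p z (χ : G → ℂ)) ((ψ : G → ℂ) * v)) := by
    intro v hv
    induction hv using AddSubgroup.closure_induction with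
    | mem v hv =>
      obtain ⟨E, θ, hE, hθ, rfl⟩ := hv
      haveI : Fintype E := Fintype.ofFinite _
      rw [mul_indFun E θ _ (IsIrr.isClass ψ.2), ← ci_conj_symm, Brauer.frobenius E _ _ hth, ci_conj_symm]
      exact char_int hM h χ E hE (IsChar.mul (Brauer.IsChar.res (IsIrr.isCharacter ψ.2) E) hθ)
    | zero => rw [mul_zero, ci_zero_right]; exact ring_zero
    | add a b _ _ ha hb => rw [mul_add, ci_add_right]; exact ring_add ha hb
    | neg a _ ha => rw [mul_neg, ci_neg_right]; exact ring_neg ha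
  have h1 := hcl _ (prime_part_mem_VP (G := G) p)
  set m : ℕ := Nat.card G / p ^ (Nat.card G).factorization p with hm
  have hm0 : ¬ p ∣ m := Nat.not_dvd_ordCompl hp.out Nat.card_pos.ne'
  have h2 : ((ψ : G → ℂ) * fun _ : G => ((m : ℕ) : ℂ)) = (m : ℂ) • (ψ : G → ℂ) := by
    funext g; simp [mul_comm]
  rw [h2, ci_smul_right] at h1
  have h3 : classInner (th p z (χ : G → ℂ)) (ψ : G → ℂ) = (m : ℂ)⁻¹ * (conj (m : ℂ) * classInner (th p z (χ : G → ℂ)) (ψ : G → ℂ)) := by
    have : (m : ℂ) ≠ 0 := by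
      have : m ≠ 0 := by rintro h0; rw [h0] at hm0; exact hm0 (dvd_zero _)
      exact_mod_cast this
    rw [Complex.conj_natCast, inv_mul_cancel_left₀ this]
  rw [h3]
  exact ring_mul (ring_inv_natCast hM hm0) h1

end

end Cfsg.Agent.H25.STj
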