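import Cfsg.Agent.H25_Avg

/-! Counting characters with contributions. -/

open scoped ComplexConjugate

namespace Cfsg.Agent.H25.Sub3

open Cfsg Cfsg.Agent.H3 Cfsg.Agent.H3.CharBasic Cfsg.Agent.H3.CharIrr Cfsg.Agent.H3.CharComplete
  Cfsg.Agent.H25.Brauer Cfsg.Agent.H25.BrauerP Cfsg.Agent.H25.Elem
  Cfsg.Agent.H10.Char Cfsg.Agent.H10.BlockLoc Cfsg.Agent.H10.BlockAlg Cfsg.Agent.H10.BlockIdem
  Cfsg.Agent.H10.BlockOrth Cfsg.Agent.H10.BlockHZ Cfsg.Agent.H10.BlockInd Cfsg.Agent.H10.PPart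
  Cfsg.Agent.H10.BlockSMT Cfsg.Agent.H10.BlockSMT2 Cfsg.Agent.H10.BlockPrin
  Cfsg.Agent.H25.BlockReg Cfsg.Agent.H25.BlockReg2 Cfsg.Agent.H25.BlockReg3 Cfsg.Agent.H25.IndCong
  Cfsg.Agent.H25.Sub Cfsg.Agent.H25.Sub2 Cfsg.Agent.H25.Avg Cfsg.Agent.H3.CharGal

variable {p : ℕ} {M : Ideal AlgInt}

section
variable {G : Type*} [Group G] [Fintype G] [hp : Fact p.Prime] {x : G}
  [Fintype (Subgroup.centralizer ({x} : Set G))]
  [Fintype (IrrCharacter G)]
  [Fintype (IrrCharacter (Subgroup.centralizer ({x} : Set G)))]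

instance ne_ord : NeZero (orderOf x) := ⟨(orderOf_pos x).ne'⟩

omit [Fintype (IrrCharacter G)] hp
  [Fintype (IrrCharacter (Subgroup.centralizer ({x} : Set G)))] in
theorem zl_ord (φ : IrrCharacter (Subgroup.centralizer ({x} : Set G))) :
    zl (zz x) φ ^ orderOf x = 1 := by
  have h : (zz x) ^ orderOf x = 1 := by
    apply Subtype.ext
    rw [Subgroup.coe_pow]
    exact pow_orderOf_eq_one x
  exact zl_order zz_comm φ h

theorem NN_mem (b : Set (IrrCharacter (Subgroup.centralizer ({x} : Set G))))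
    (χ ψ : IrrCharacter G) : NN p x b χ ψ ∈ Cyc (orderOf x) := by
  classical
  rw [NN_eq]
  refine sum_mem fun φ _ => sum_mem fun φ' _ => ?_
  split_ifs
  · refine mul_mem (intCast_mem _ _) (mul_mem (root_mem (zl_ord φ)) (root_mem ?_))
    rw [← map_pow, zl_ord, map_one]
  · exact zero_mem _

/-- the normalised contributions in the cyclotomic field -/
noncomputable def NC (p : ℕ) [Fact p.Prime] (x : G) [Fintype (Subgroup.centralizer ({x} : Set G))]
    [Fintype (IrrCharacter (Subgroup.centralizer ({x} : Set G)))]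
    (b : Set (IrrCharacter (Subgroup.centralizer ({x} : Set G))))
    (χ ψ : IrrCharacter G) : Cyc (orderOf x) := ⟨NN p x b χ ψ, NN_mem b χ ψ⟩

theorem NC_coe (b : Set (IrrCharacter (Subgroup.centralizer ({x} : Set G))))
    (χ ψ : IrrCharacter G) : (NC p x b χ ψ : ℂ) = NN p x b χ ψ := rfl

theorem NC_herm (hM : IsPModular p M) (hx : ∃ k : ℕ, orderOf x = p ^ k)
    {b : Set (IrrCharacter (Subgroup.centralizer ({x} : Set G)))} (hb : IsPBlock M b) :
    Herm (NC p x b) (p ^ blockDefect p b) where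
  int := fun χ ψ => NN_integral b χ ψ
  herm := fun χ ψ => by
    rw [NC_coe, NC_coe]
    unfold NN
    rw [map_mul, Complex.conj_natCast, mm_herm]
  mul := fun χ ρ => by
    apply Subtype.ext
    push_cast
    simp only [NC_coe]
    unfold NN
    have h1 := mm_mul hM hx hb χ ρ
    rw [← h1]
    push_cast
    rw [Finset.mul_sum, Finset.mul_sum]
    refine Finset.sum_congr rfl fun ψ _ => ?_
    ring

theorem NC_trace (hM : IsPModular p M) (hx : ∃ k : ℕ, orderOf x = p ^ k)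
    {b : Set (IrrCharacter (Subgroup.centralizer ({x} : Set G)))} (hb : IsPBlock M b) :
    ∑ χ, NC p x b χ χ = ((p ^ blockDefect p b * blockRank p b : ℕ) : Cyc (orderOf x)) := by
  apply Subtype.ext
  push_cast
  simp only [NC_coe]
  unfold NN
  rw [← Finset.mul_sum, mm_trace hM hx hb]
  push_cast
  rfl

theorem NC_ne (hM : IsPModular p M) (hx : ∃ k : ℕ, orderOf x = p ^ k)
    {b : Set (IrrCharacter (Subgroup.centralizer ({x} : Set G)))} {B : Set (IrrCharacter G)}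
    (hind : IsInducedBlock M (Subgroup.centralizer ({x} : Set G)) b B)
    {χ ψ : IrrCharacter G} (hχ : χ ∈ B) (h0 : blockHeight p B (χ : G → ℂ) = 0)
    (hψ : ψ ∈ B) (h0' : blockHeight p B (ψ : G → ℂ) = 0) : NC p x b χ ψ ≠ 0 := by
  haveI := hM.2.1
  intro h
  apply NN_unit hM hx hind hχ h0 hψ h0'
  rw [← NC_coe, h]
  exact ideal_zero

theorem q_pos (b : Set (IrrCharacter (Subgroup.centralizer ({x} : Set G)))) :
    0 < p ^ blockDefect p b := pow_pos hp.out.pos _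

/-- `k₀(B)² ≤ p^{2 d_b} l(b)` -/
theorem k0_sq (hM : IsPModular p M) (hx : ∃ k : ℕ, orderOf x = p ^ k)
    {b : Set (IrrCharacter (Subgroup.centralizer ({x} : Set G)))} {B : Set (IrrCharacter G)}
    (hind : IsInducedBlock M (Subgroup.centralizer ({x} : Set G)) b B)
    (s : Finset (IrrCharacter G)) (hs : ∀ χ ∈ s, χ ∈ B ∧ blockHeight p B (χ : G → ℂ) = 0) :
    s.card ^ 2 ≤ p ^ (2 * blockDefect p b) * blockRank p b := by
  have h := NC_herm hM hx hind.1
  have h1 := h.pairs_le s (fun χ hχ ψ hψ => NC_ne hM hx hind (hs χ hχ).1 (hs χ hχ).2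
    (hs ψ hψ).1 (hs ψ hψ).2)
  have h2 := Herm.T_sum (NC_trace hM hx hind.1)
  have h3 : ∑ χ ∈ s, Herm.T (NC p x b) χ ≤ ∑ χ, Herm.T (NC p x b) χ :=
    Finset.sum_le_sum_of_subset_of_nonneg (Finset.subset_univ _)
      (fun χ _ _ => h.T_nonneg (q_pos b) χ)
  rw [h2] at h3
  have h4 : ((p ^ blockDefect p b : ℕ) : ℝ) * ∑ χ ∈ s, Herm.T (NC p x b) χ ≤
      ((p ^ blockDefect p b : ℕ) : ℝ) * ((p ^ blockDefect p b * blockRank p b : ℕ) : ℝ) :=
    mul_le_mul_of_nonneg_left h3 (by positivity)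
  have h5 := h1.trans h4
  have h6 : (s.card ^ 2 : ℕ) ≤ p ^ blockDefect p b * (p ^ blockDefect p b * blockRank p b) := by
    exact_mod_cast h5
  calc s.card ^ 2 ≤ _ := h6
    _ = _ := by ring

/-- `k₀(B) ≤ p^{d_b} l(b)` -/
theorem k0_le (hM : IsPModular p M) (hx : ∃ k : ℕ, orderOf x = p ^ k)
    {b : Set (IrrCharacter (Subgroup.centralizer ({x} : Set G)))} {B : Set (IrrCharacter G)}
    (hind : IsInducedBlock M (Subgroup.centralizer ({x} : Set G)) b B)
    (s : Finset (IrrCharacter G)) (hs : ∀ χ ∈ s, χ ∈ B ∧ blockHeight p B (χ : G → ℂ) = 0) :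
    s.card ≤ p ^ blockDefect p b * blockRank p b := by
  have h := NC_herm hM hx hind.1
  have h2 := Herm.T_sum (NC_trace hM hx hind.1)
  have h3 : ∑ χ ∈ s, Herm.T (NC p x b) χ ≤ ∑ χ, Herm.T (NC p x b) χ :=
    Finset.sum_le_sum_of_subset_of_nonneg (Finset.subset_univ _)
      (fun χ _ _ => h.T_nonneg (q_pos b) χ)
  rw [h2] at h3
  have h4 : (s.card : ℝ) ≤ ∑ χ ∈ s, Herm.T (NC p x b) χ := by
    have : (s.card : ℝ) = ∑ χ ∈ s, (1 : ℝ) := by rw [Finset.sum_const, nsmul_eq_mul, mul_one]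
    rw [this]
    exact Finset.sum_le_sum fun χ hχ => h.one_le_T (q_pos b) χ
      (NC_ne hM hx hind (hs χ hχ).1 (hs χ hχ).2 (hs χ hχ).1 (hs χ hχ).2)
  exact_mod_cast h4.trans h3

end

end Cfsg.Agent.H25.Sub3
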