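import Cfsg.Agent.H25_STj
import Cfsg.Agent.H25_Fus
import Cfsg.Agent.H25_AbSec2
import Cfsg.Agent.H25_Sub3

/-! The concrete system attached to an `F`-stable function on the defect group. -/

set_option autoImplicit false
set_option linter.unusedSectionVars false

open scoped ComplexConjugate

namespace Cfsg.Agent.H25.STk

open Cfsg Cfsg.Agent.H3 Cfsg.Agent.H3.CharBasic Cfsg.Agent.H3.CharIrr Cfsg.Agent.H3.CharComplete
  Cfsg.Agent.H25.Brauer Cfsg.Agent.H10.BlockTrace Cfsg.Agent.H25.BrauerP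
  Cfsg.Agent.H10.Char Cfsg.Agent.H10.BlockLoc Cfsg.Agent.H10.BlockAlg Cfsg.Agent.H10.BlockIdem
  Cfsg.Agent.H10.BlockSMT Cfsg.Agent.H10.BlockSMT2 Cfsg.Agent.H10.PPart Cfsg.Agent.H10.BlockPrin
  Cfsg.Agent.H25.STa Cfsg.Agent.H25.STb Cfsg.Agent.H25.STc Cfsg.Agent.H25.STd
  Cfsg.Agent.H25.STe Cfsg.Agent.H25.STf Cfsg.Agent.H25.STg Cfsg.Agent.H25.STh Cfsg.Agent.H25.STi
  Cfsg.Agent.H25.STj
  Cfsg.Agent.H25.KG Cfsg.Agent.H25.Red Cfsg.Agent.H25.BPTr Cfsg.Agent.H25.BPMain Cfsg.Agent.H25.Fus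
  Cfsg.Agent.H25.AbSec

variable {p : ℕ} {M : Ideal AlgInt} {G : Type*} [Group G] [Fintype G] [hMax : M.IsMaximal]

section hatb

/-- the block idempotent of `H`, as an element of `ℂ G` -/
noncomputable def hatb (H : Subgroup G) (b : Set (IrrCharacter H)) : MonoidAlgebra ℂ G :=
  KG.ofF (subgroupBlockCoeff H b)

theorem hatb_c (H : Subgroup G) (b : Set (IrrCharacter H)) (x : G) :
    (hatb H b).coeff x = subgroupBlockCoeff H b x := rfl

theorem hatb_int {H : Subgroup G} {b : Set (IrrCharacter H)} (hb : IsPBlock M b) : hatb H b ∈ intA G M :=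
  fun x => sbc_ring hb x

theorem rA_hatb (H : Subgroup G) (b : Set (IrrCharacter H)) : rA M (hatb H b) = ep M H b := rfl

theorem hatb_emb (H : Subgroup G) [Fintype H] (b : Set (IrrCharacter H)) :
    hatb H b = emb H ((eB b : ZC H) : MonoidAlgebra ℂ H) := by
  apply KG.ext_c
  intro g
  rw [hatb_c]
  by_cases hg : g ∈ H
  · rw [sbc_mem b hg]
    exact (emb_coeff_mem H ((eB b : ZC H) : MonoidAlgebra ℂ H) ⟨g, hg⟩).symm
  · rw [sbc_notMem b hg, emb_coeff_notMem H _ hg]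

theorem hatb_supp (H : Subgroup G) (b : Set (IrrCharacter H)) : KG.Supp H (hatb H b) := by
  intro x hx
  by_contra hn
  exact hx (by rw [hatb_c, sbc_notMem b hn])

theorem hatb_fix (H : Subgroup G) (b : Set (IrrCharacter H)) : KG.Fix H (hatb H b) := by
  rw [KG.fix_iff]
  intro g hg x
  exact sbc_conj b hg x

theorem hatb_comm (H : Subgroup G) (b : Set (IrrCharacter H)) {x : MonoidAlgebra ℂ G} (hx : KG.Supp H x) :
    hatb H b * x = x * hatb H b := KG.comm_of (hatb_fix H b) hx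

theorem hatb_idem (H : Subgroup G) (b : Set (IrrCharacter H)) : hatb H b * hatb H b = hatb H b := by
  haveI : Fintype H := Fintype.ofFinite _
  haveI : Fintype (IrrCharacter H) := Fintype.ofFinite _
  rw [hatb_emb, ← map_mul]
  congr 1
  exact congrArg (fun z : ZC H => (z : MonoidAlgebra ℂ H)) (eB_mul_self (G := H) b)

theorem hatb_orth {H : Subgroup G} {b b' : Set (IrrCharacter H)} (hb : IsPBlock M b) (hb' : IsPBlock M b')
    (hne : b ≠ b') : hatb H b * hatb H b' = 0 := by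
  haveI : Fintype H := Fintype.ofFinite _
  haveI : Fintype (IrrCharacter H) := Fintype.ofFinite _
  rw [hatb_emb, hatb_emb, ← map_mul]
  have h1 := congrArg (fun z : ZC H => (z : MonoidAlgebra ℂ H)) (eB_mul_eB (G := H) b b')
  have h2 : b ∩ b' = ∅ := by
    by_contra h
    obtain ⟨χ, h1, h2⟩ := Set.nonempty_iff_ne_empty.2 h
    exact hne (block_eq_of_mem hb hb' h1 h2)
  rw [h2, eB_empty] at h1
  have h3 : ((eB b : ZC H) : MonoidAlgebra ℂ H) * ((eB b' : ZC H) : MonoidAlgebra ℂ H) = 0 := by simpa using h1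
  rw [h3, map_zero]

theorem hatb_cnj (x : G) (H : Subgroup G) (b : Set (IrrCharacter H)) :
    KG.cnj x (hatb H b) = hatb (cs x H) (tB (cI x rfl) b) := by
  apply KG.ext_c
  intro g
  rw [KG.cnj_c, hatb_c, hatb_c]
  by_cases hg : x⁻¹ * g * x ∈ H
  · rw [sbc_mem b hg]
    have h1 : g ∈ cs x H := mem_cs.2 hg
    rw [sbc_mem _ h1]
    have h2 : (⟨g, h1⟩ : (cs x H : Subgroup G)) = cI x rfl ⟨x⁻¹ * g * x, hg⟩ := by
      apply Subtype.ext
      rw [cI_coe]
      show g = x * (x⁻¹ * g * x) * x⁻¹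
      group
    rw [h2, blockCoeff_tB]
  · rw [sbc_notMem b hg, sbc_notMem _ (fun h => hg (mem_cs.1 h))]

open Classical in
/-- the lift of a block of `k H` -/
noncomputable def hat (H : Subgroup G) (f : MonoidAlgebra (KM M) G) : MonoidAlgebra ℂ G :=
  if h : IsBlk H f then hatb H (exists_ep h).choose else 0

theorem hat_ep {H : Subgroup G} {b : Set (IrrCharacter H)} (hb : IsPBlock M b) : hat H (ep M H b) = hatb H b := by
  have h := isBlk_ep (M := M) hb
  have h1 := (exists_ep h).choose_spec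
  unfold hat
  rw [dif_pos h, ep_inj h1.1 hb h1.2]

theorem hat_cnj {H : Subgroup G} {f : MonoidAlgebra (KM M) G} (hf : IsBlk H f) (x : G) :
    hat (cs x H) (KG.cnj x f) = KG.cnj x (hat H f) := by
  obtain ⟨b, hb, rfl⟩ := exists_ep hf
  rw [hat_ep hb, hatb_cnj, ← ep_conj x rfl b, hat_ep (isPBlock_tB _ hb)]

theorem hat_Ru {u : G} {f : MonoidAlgebra (KM M) G} (hf : IsBlk (Ce1 u) f) : hat (Ce1 u) f ∈ Ru M u := by
  obtain ⟨b, hb, rfl⟩ := exists_ep hf
  rw [hat_ep hb]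
  exact ⟨hatb_int hb, hatb_supp _ b⟩

theorem hat_comm {H : Subgroup G} {f : MonoidAlgebra (KM M) G} (hf : IsBlk H f) {x : MonoidAlgebra ℂ G}
    (hx : KG.Supp H x) : hat H f * x = x * hat H f := by
  obtain ⟨b, hb, rfl⟩ := exists_ep hf
  rw [hat_ep hb]
  exact hatb_comm _ b hx

theorem hat_idem {H : Subgroup G} {f : MonoidAlgebra (KM M) G} (hf : IsBlk H f) : hat H f * hat H f = hat H f := by
  obtain ⟨b, hb, rfl⟩ := exists_ep hf
  rw [hat_ep hb]
  exact hatb_idem _ b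

theorem hat_orth {H : Subgroup G} {f f' : MonoidAlgebra (KM M) G} (hf : IsBlk H f) (hf' : IsBlk H f') (hne : f ≠ f') :
    hat H f * hat H f' = 0 := by
  obtain ⟨b, hb, rfl⟩ := exists_ep hf
  obtain ⟨b', hb', rfl⟩ := exists_ep hf'
  rw [hat_ep hb, hat_ep hb']
  exact hatb_orth hb hb' (fun h => hne (by rw [h]))

theorem rA_hat {H : Subgroup G} {f : MonoidAlgebra (KM M) G} (hf : IsBlk H f) : rA M (hat H f) = f := by
  obtain ⟨b, hb, rfl⟩ := exists_ep hf
  rw [hat_ep hb, rA_hatb]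

end hatb

section sys
variable [hp : Fact p.Prime] [hch : CharP (KM M) p]
  {P : Subgroup G} {E : MonoidAlgebra (KM M) G}

/-- the stability of `η` -/
def Stab (p : ℕ) (P : Subgroup G) (E : MonoidAlgebra (KM M) G) (η : G → ℂ) : Prop :=
  ∀ u ∈ P, ∀ g, FR p P E (Subgroup.zpowers u) g → η (g * u * g⁻¹) = η u

open Classical in
/-- the value of `η` on the subpair `(u, f)` -/
noncomputable def cc (p : ℕ) (P : Subgroup G) (E : MonoidAlgebra (KM M) G) (η : G → ℂ) (u : G) (f : MonoidAlgebra (KM M) G) : ℂ :=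
  if h : ∃ x, LE p (Subgroup.zpowers (x * u * x⁻¹)) (KG.cnj x f) P E then η (h.choose * u * h.choose⁻¹) else 0

theorem cc_eq {η : G → ℂ} (hη : Stab p P E η) {u : G} {f : MonoidAlgebra (KM M) G} {x : G}
    (h : LE p (Subgroup.zpowers (x * u * x⁻¹)) (KG.cnj x f) P E) : cc p P E η u f = η (x * u * x⁻¹) := by
  have hex : ∃ x, LE p (Subgroup.zpowers (x * u * x⁻¹)) (KG.cnj x f) P E := ⟨x, h⟩
  have h1 := hex.choose_spec
  unfold cc
  rw [dif_pos hex]
  set y := hex.choose with hy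
  have hu : x * u * x⁻¹ ∈ P := (Subgroup.zpowers_le.1 h.le)
  have h2 : FR p P E (Subgroup.zpowers (x * u * x⁻¹)) (y * x⁻¹) := by
    refine ⟨KG.cnj x f, h, ?_⟩
    rw [cs_zp, ← KG.cnj_mul_apply, inv_mul_cancel_right]
    have : y * x⁻¹ * (x * u * x⁻¹) * (y * x⁻¹)⁻¹ = y * u * y⁻¹ := by group
    rw [this]; exact h1
  have h3 := hη _ hu _ h2
  rw [← h3]
  congr 1
  group

theorem cc_zero {η : G → ℂ} {u : G} {f : MonoidAlgebra (KM M) G}
    (h : ¬ ∃ x, LE p (Subgroup.zpowers (x * u * x⁻¹)) (KG.cnj x f) P E) : cc p P E η u f = 0 := by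
  unfold cc
  rw [dif_neg h]

theorem cc_conj {η : G → ℂ} (hη : Stab p P E η) (q u : G) (f : MonoidAlgebra (KM M) G) :
    cc p P E η (q * u * q⁻¹) (KG.cnj q f) = cc p P E η u f := by
  by_cases h : ∃ x, LE p (Subgroup.zpowers (x * u * x⁻¹)) (KG.cnj x f) P E
  · obtain ⟨x, hx⟩ := h
    have h1 : LE p (Subgroup.zpowers ((x * q⁻¹) * (q * u * q⁻¹) * (x * q⁻¹)⁻¹)) (KG.cnj (x * q⁻¹) (KG.cnj q f)) P E := by
      rw [← KG.cnj_mul_apply, inv_mul_cancel_right]
      have : (x * q⁻¹) * (q * u * q⁻¹) * (x * q⁻¹)⁻¹ = x * u * x⁻¹ := by group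
      rw [this]; exact hx
    rw [cc_eq hη hx, cc_eq hη h1]
    congr 1
    group
  · rw [cc_zero h, cc_zero]
    rintro ⟨x, hx⟩
    apply h
    refine ⟨x * q, ?_⟩
    rw [KG.cnj_mul_apply]
    have : (x * q) * u * (x * q)⁻¹ = x * (q * u * q⁻¹) * x⁻¹ := by group
    rw [this]; exact hx

theorem cc_int {η : G → ℂ} (hη : Stab p P E η) (hi : ∀ u ∈ P, IsIntegral ℤ (η u)) (u : G) (f : MonoidAlgebra (KM M) G) :
    IsIntegral ℤ (cc p P E η u f) := by
  by_cases h : ∃ x, LE p (Subgroup.zpowers (x * u * x⁻¹)) (KG.cnj x f) P E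
  · obtain ⟨x, hx⟩ := h
    rw [cc_eq hη hx]
    exact hi _ (Subgroup.zpowers_le.1 hx.le)
  · rw [cc_zero h]; exact isIntegral_zero

/-- the system -/
noncomputable def zz' (p : ℕ) (P : Subgroup G) (E : MonoidAlgebra (KM M) G) (η : G → ℂ) (u : G) : MonoidAlgebra ℂ G :=
  ∑ f ∈ blks (KM M) (Ce1 u), cc p P E η u f • (hat (Ce1 u) f * MonoidAlgebra.single u 1)

theorem zz_int {η : G → ℂ} (hη : Stab p P E η) (hi : ∀ u ∈ P, IsIntegral ℤ (η u)) (u : G) :
    zz' p P E η u ∈ intA G M := by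
  refine (intA G M).sum_mem fun f hf => smul_int ((intA G M).mul_mem ?_ (single_mem_intA u)) ?_
  · exact (hat_Ru (mem_blks.1 hf)).1
  · exact memLocalRing_of_integral hMax.ne_top (cc_int hη hi u f)

theorem self_mem_Ce1 (u : G) : u ∈ Ce1 u := mem_Ce1.2 rfl

theorem zz_comm {η : G → ℂ} (u : G) {x : MonoidAlgebra ℂ G} (hx : KG.Supp (Ce1 u) x) :
    zz' p P E η u * x = x * zz' p P E η u := by
  unfold zz'
  rw [Finset.sum_mul, Finset.mul_sum]
  refine Finset.sum_congr rfl fun f hf => ?_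
  rw [Algebra.smul_mul_assoc, Algebra.mul_smul_comm, mul_assoc, comm_single 1 hx, ← mul_assoc,
    hat_comm (mem_blks.1 hf) hx, mul_assoc]

theorem zz_eqv {η : G → ℂ} (hη : Stab p P E η) (q u : G) :
    zz' p P E η (q * u * q⁻¹) = KG.cnj q (zz' p P E η u) := by
  unfold zz'
  rw [map_sum]
  refine Finset.sum_nbij' (KG.cnj q⁻¹) (KG.cnj q) ?_ ?_ ?_ ?_ ?_
  · intro f hf
    rw [mem_blks] at hf ⊢
    have h1 := hf.cnj q⁻¹
    rwa [← Ce1_cs, show q⁻¹ * (q * u * q⁻¹) * q⁻¹⁻¹ = u by group] at h1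
  · intro f hf
    rw [mem_blks] at hf ⊢
    have h1 := hf.cnj q
    rwa [← Ce1_cs] at h1
  · intro f _; exact cnj_cnj_inv q f
  · intro f _; exact cnj_inv_cnj q f
  · intro f hf
    rw [mem_blks] at hf
    have h1 := hf.cnj q⁻¹
    rw [← Ce1_cs, show q⁻¹ * (q * u * q⁻¹) * q⁻¹⁻¹ = u by group] at h1
    have h2 : f = KG.cnj q (KG.cnj q⁻¹ f) := (cnj_cnj_inv q f).symm
    rw [map_smul, map_mul, cnj_single, ← hat_cnj h1, ← Ce1_cs, ← h2]
    congr 1
    rw [← cc_conj hη q u, ← h2]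

theorem zz_mul_hat {η : G → ℂ} {u : G} {f : MonoidAlgebra (KM M) G} (hf : IsBlk (Ce1 u) f) :
    zz' p P E η u * hat (Ce1 u) f = cc p P E η u f • (MonoidAlgebra.single u 1 * hat (Ce1 u) f) := by
  unfold zz'
  have hs : KG.Supp (Ce1 u) (MonoidAlgebra.single u (1:ℂ)) := supp_single (self_mem_Ce1 u) 1
  rw [Finset.sum_mul, Finset.sum_eq_single_of_mem f (mem_blks.2 hf)]
  · rw [Algebra.smul_mul_assoc, mul_assoc, ← hat_comm hf hs, ← mul_assoc, hat_idem hf, hat_comm hf hs]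
  · intro f' hf' hne
    rw [Algebra.smul_mul_assoc, mul_assoc, ← hat_comm hf hs, ← mul_assoc, hat_orth (mem_blks.1 hf') hf hne,
      zero_mul, smul_zero]

variable {B : MonoidAlgebra (KM M) G}

theorem gc_conj {η : G → ℂ} {Q : Subgroup G} {x : G} (hη : GC P η) (h : cs x Q ≤ P) :
    GC Q (fun u => η (x * u * x⁻¹)) := by
  intro inst
  haveI : Fintype P := Fintype.ofFinite _
  let f : Q →* P :=
    { toFun := fun u => ⟨x * u * x⁻¹, h (mem_cs.2 (by
        have : x⁻¹ * (x * (u : G) * x⁻¹) * x = u := by group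
        rw [this]; exact u.2))⟩
      map_one' := by apply Subtype.ext; show x * ((1 : Q) : G) * x⁻¹ = 1; simp
      map_mul' := fun a b => by
        apply Subtype.ext
        show x * ((a * b : Q) : G) * x⁻¹ = (x * a * x⁻¹) * (x * b * x⁻¹)
        rw [Subgroup.coe_mul]; group }
  exact comp_IntSpan (hη _) f

theorem zz_loc (hP : BP p B P E) (htop : KG.Top p P E) {η : G → ℂ} (hη : Stab p P E η) (hg : GC P η) :
    LocS p M (zz' p P E η) := by
  intro Q e hQ he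
  by_cases hx : ∃ x, LE p (cs x Q) (KG.cnj x e) P E
  · obtain ⟨x, hx⟩ := hx
    refine ⟨fun u => η (x * u * x⁻¹), gc_conj hg hx.le, fun u hu => ?_⟩
    obtain ⟨f, hf, hle⟩ := le_exists hQ he (Subgroup.zpowers_le.2 hu)
    rw [Ce_zp] at hf
    refine ⟨hat (Ce1 u) f, hat_Ru hf, fun y hy => hat_comm hf hy.2, hat_idem hf, by rwa [rA_hat hf], ?_⟩
    rw [zz_mul_hat hf, cc_eq hη (x := x), ← Algebra.smul_mul_assoc, MonoidAlgebra.smul_single', mul_one]
    have h1 := (hle.cnj x).trans hx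
    rwa [cs_zp] at h1
  · refine ⟨fun _ => 0, ?_, fun u hu => ?_⟩
    · intro inst
      exact IntSpan.zero
    obtain ⟨f, hf, hle⟩ := le_exists hQ he (Subgroup.zpowers_le.2 hu)
    have hf' := hf
    rw [Ce_zp] at hf
    refine ⟨hat (Ce1 u) f, hat_Ru hf, fun y hy => hat_comm hf hy.2, hat_idem hf, by rwa [rA_hat hf], ?_⟩
    rw [zz_mul_hat hf, cc_zero, zero_smul, MonoidAlgebra.single_zero, zero_mul]
    rintro ⟨y, hy⟩
    apply hx
    have h1 := hP.down hy
    have h2 := h1.cnj y⁻¹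
    rw [cs_zp, cnj_inv_cnj, show y⁻¹ * (y * u * y⁻¹) * y⁻¹⁻¹ = u by group] at h2
    exact hP.conj_le htop (h2.up hQ he hle)

theorem fsys (hP : BP p B P E) (htop : KG.Top p P E) {η : G → ℂ} (hη : Stab p P E η) (hg : GC P η) :
    FSys p M (zz' p P E η) where
  int := zz_int hη fun u hu => hg.int' hu
  comm := fun u x hx => zz_comm u hx
  eqv := zz_eqv hη
  loc := zz_loc hP htop hη hg

end sys

end Cfsg.Agent.H25.STk
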