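import Cfsg.Agent.H25_Sub4

/-! Contributions of major subsections: valuations for characters of positive height. -/

open scoped ComplexConjugate

namespace Cfsg.Agent.H25.Sub5

open Cfsg Cfsg.Agent.H3 Cfsg.Agent.H3.CharBasic Cfsg.Agent.H3.CharIrr Cfsg.Agent.H3.CharComplete
  Cfsg.Agent.H25.Brauer Cfsg.Agent.H25.BrauerP Cfsg.Agent.H25.Elem
  Cfsg.Agent.H10.Char Cfsg.Agent.H10.BlockLoc Cfsg.Agent.H10.BlockAlg Cfsg.Agent.H10.BlockIdem
  Cfsg.Agent.H10.BlockOrth Cfsg.Agent.H10.BlockHZ Cfsg.Agent.H10.BlockInd Cfsg.Agent.H10.PPart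
  Cfsg.Agent.H10.BlockSMT Cfsg.Agent.H10.BlockSMT2 Cfsg.Agent.H10.BlockPrin
  Cfsg.Agent.H25.BlockReg Cfsg.Agent.H25.BlockReg2 Cfsg.Agent.H25.BlockReg3 Cfsg.Agent.H25.IndCong
  Cfsg.Agent.H25.Sub Cfsg.Agent.H25.Sub2 Cfsg.Agent.H25.Avg Cfsg.Agent.H3.CharGal
  Cfsg.Agent.H25.Sub3

variable {p : ℕ} {M : Ideal AlgInt}

section
variable {G : Type*} [Group G] [Fintype G] [hp : Fact p.Prime]

open Classical in
theorem sum_one_section {F : G → ℂ} (hF : IsClassFunction G F) {x : G}
    [Fintype (Subgroup.centralizer ({x} : Set G))] (hx : ∃ k : ℕ, orderOf x = p ^ k)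
    (h0 : ∀ g z : G, IsPPart p g z → ¬ IsConj x z → F g = 0) :
    ∑ g : G, F g = ((Subgroup.centralizer ({x} : Set G)).index : ℂ) *
      ∑ y : Subgroup.centralizer ({x} : Set G), (if p ∣ orderOf y then 0 else F (x * y)) := by
  -- representatives of the classes of p-elements containing x
  haveI : Fintype (ConjClasses G) := Fintype.ofFinite _
  let r : ConjClasses G → G := fun C => if C = ConjClasses.mk x then x else Quotient.out C
  have hr : ∀ C, ConjClasses.mk (r C) = C := by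
    intro C
    by_cases h : C = ConjClasses.mk x
    · simp only [r, if_pos h]; exact h.symm
    · simp only [r, if_neg h]; exact Quotient.out_eq C
  let X : Finset G := (Finset.univ.image r).filter (fun z => ∃ k : ℕ, orderOf z = p ^ k)
  have hxX : x ∈ X := by
    rw [Finset.mem_filter, Finset.mem_image]
    exact ⟨⟨ConjClasses.mk x, Finset.mem_univ _, if_pos rfl⟩, hx⟩
  have hXrep : ∀ g : G, (∃ k : ℕ, orderOf g = p ^ k) → ∃! x, x ∈ X ∧ IsConj g x := by
    intro g hg
    have h1 : IsConj g (r (ConjClasses.mk g)) :=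
      (ConjClasses.mk_eq_mk_iff_isConj.1 (hr (ConjClasses.mk g))).symm
    refine ⟨r (ConjClasses.mk g), ⟨?_, h1⟩, ?_⟩
    · rw [Finset.mem_filter, Finset.mem_image]
      refine ⟨⟨_, Finset.mem_univ _, rfl⟩, ?_⟩
      obtain ⟨k, hk⟩ := hg
      exact ⟨k, by rw [← hk]; exact isConj_pow_order h1⟩
    · rintro z ⟨hz, hgz⟩
      rw [Finset.mem_filter, Finset.mem_image] at hz
      obtain ⟨⟨C, -, rfl⟩, -⟩ := hz
      have : C = ConjClasses.mk g := by
        rw [← hr C]
        exact ConjClasses.mk_eq_mk_iff_isConj.2 hgz.symm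
      rw [this]
  rw [sum_sections (p := p) hF hXrep, Finset.sum_eq_single_of_mem x hxX, section_sum hx]
  intro z hz hne
  rw [Finset.sum_eq_zero, mul_zero]
  intro g hg
  refine h0 g z (Finset.mem_filter.1 hg).2 ?_
  intro h
  have h1 := hXrep x hx
  exact hne (h1.unique ⟨hz, h⟩ ⟨hxX, IsConj.refl x⟩)

open Classical in
/-- the class function supported on the section of `x` with values `c` -/
noncomputable def sf (p : ℕ) (x : G) (c : Subgroup.centralizer ({x} : Set G) → ℂ) (g : G) : ℂ :=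
  if h : ∃ y : Subgroup.centralizer ({x} : Set G), ¬ p ∣ orderOf y ∧ IsConj (x * (y : G)) g then
    c h.choose else 0

theorem sf_eq {x : G} (hx : ∃ k : ℕ, orderOf x = p ^ k)
    {c : Subgroup.centralizer ({x} : Set G) → ℂ}
    (hc : IsClassFunction (Subgroup.centralizer ({x} : Set G)) c)
    {y : Subgroup.centralizer ({x} : Set G)} (hy : ¬ p ∣ orderOf y) {g : G}
    (hg : IsConj (x * (y : G)) g) : sf p x c g = c y := by
  classical
  have h : ∃ y : Subgroup.centralizer ({x} : Set G), ¬ p ∣ orderOf y ∧ IsConj (x * (y : G)) g :=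
    ⟨y, hy, hg⟩
  unfold sf
  rw [dif_pos h]
  have h1 := h.choose_spec
  have h2 : IsConj h.choose y := (isConj_section hx _ _ h1.1 hy).1 (h1.2.trans hg.symm)
  exact IsClass.eq_of_isConj hc h2

theorem sf_zero {x : G} (hx : ∃ k : ℕ, orderOf x = p ^ k)
    {c : Subgroup.centralizer ({x} : Set G) → ℂ}
    {g z : G} (hg : IsPPart p g z) (hz : ¬ IsConj x z) : sf p x c g = 0 := by
  classical
  unfold sf
  rw [dif_neg]
  rintro ⟨y, hy, hyg⟩
  obtain ⟨a, ha⟩ := isConj_iff.1 hyg
  have h1 := conj_ppart (ppart_of_mul hx y hy) a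
  rw [ha] at h1
  exact hz (isConj_iff.2 ⟨a, ppart_unique h1 hg⟩)

theorem sf_class {x : G} (hx : ∃ k : ℕ, orderOf x = p ^ k)
    {c : Subgroup.centralizer ({x} : Set G) → ℂ}
    (hc : IsClassFunction (Subgroup.centralizer ({x} : Set G)) c) :
    IsClassFunction G (sf p x c) := by
  classical
  intro g a
  have hga : IsConj g (a * g * a⁻¹) := isConj_iff.2 ⟨a, rfl⟩
  by_cases h : ∃ y : Subgroup.centralizer ({x} : Set G), ¬ p ∣ orderOf y ∧ IsConj (x * (y : G)) g
  · obtain ⟨y, hy, hyg⟩ := h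
    rw [sf_eq hx hc hy hyg, sf_eq hx hc hy (hyg.trans hga)]
  · have h' : ¬ ∃ y : Subgroup.centralizer ({x} : Set G), ¬ p ∣ orderOf y ∧
        IsConj (x * (y : G)) (a * g * a⁻¹) := by
      rintro ⟨y, hy, hyg⟩
      exact h ⟨y, hy, hyg.trans hga.symm⟩
    unfold sf
    rw [dif_neg h, dif_neg h']

end

section
variable {G : Type*} [Group G] [Fintype G] [hp : Fact p.Prime] {x : G}
  [Fintype (Subgroup.centralizer ({x} : Set G))]
  [Fintype (IrrCharacter G)]
  [Fintype (IrrCharacter (Subgroup.centralizer ({x} : Set G)))]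

theorem bp_class (b : Set (IrrCharacter (Subgroup.centralizer ({x} : Set G)))) (χ : IrrCharacter G) :
    IsClassFunction (Subgroup.centralizer ({x} : Set G)) (bp x b (χ : G → ℂ)) := by
  classical
  intro g a
  rw [bp_eq, bp_eq]
  refine Finset.sum_congr rfl fun φ _ => ?_
  rw [IsIrr.isClass φ.2 g a]

theorem bp_integral (b : Set (IrrCharacter (Subgroup.centralizer ({x} : Set G)))) (χ : IrrCharacter G)
    (y : Subgroup.centralizer ({x} : Set G)) : IsIntegral ℤ (bp x b (χ : G → ℂ) y) := by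
  classical
  rw [bp_eq]
  refine IsIntegral.sum _ fun φ _ => ?_
  split_ifs
  · refine IsIntegral.mul (IsIntegral.mul (isIntegral_algebraMap (R := ℤ) (A := ℂ) (x := _))
      (zl_integral zz_comm φ)) (IsChar.isIntegral (IsIrr.isCharacter φ.2) y)
  · exact isIntegral_zero

/-- adjointness of the block part on the regular elements -/
theorem bp_adj (hM : IsPModular p M)
    {b : Set (IrrCharacter (Subgroup.centralizer ({x} : Set G)))} (hb : IsPBlock M b)
    (χ ψ : IrrCharacter G) :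
    ∑ y : Subgroup.centralizer ({x} : Set G), (if p ∣ orderOf y then 0 else
      bp x b (χ : G → ℂ) y * conj ((ψ : G → ℂ) (x * y))) =
    (Nat.card (Subgroup.centralizer ({x} : Set G)) : ℂ) * mm p x b χ ψ := by
  classical
  haveI := hM.2.1
  have hn : (Nat.card (Subgroup.centralizer ({x} : Set G)) : ℂ) ≠ 0 := card_cast_ne_zero
  set u : Subgroup.centralizer ({x} : Set G) → ℂ := fun y => if p ∣ orderOf y then 0 else
    bp x b (χ : G → ℂ) y with hu
  have huc : IsClassFunction (Subgroup.centralizer ({x} : Set G)) u := by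
    intro g a
    have h1 : orderOf (a * g * a⁻¹) = orderOf g := orderOf_conj a g
    simp only [hu, h1, bp_class b χ g a]
  have e : ∀ f : Subgroup.centralizer ({x} : Set G) → ℂ,
      ∑ y : Subgroup.centralizer ({x} : Set G), (if p ∣ orderOf y then 0 else
      bp x b (χ : G → ℂ) y * conj (f y)) =
      (Nat.card (Subgroup.centralizer ({x} : Set G)) : ℂ) * classInner u f := by
    intro f
    rw [classInner, ← mul_assoc, mul_inv_cancel₀ hn, one_mul]
    refine Finset.sum_congr rfl fun y _ => ?_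
    simp only [hu]
    split_ifs
    · rw [zero_mul]
    · rfl
  have h2 : ∀ φ' : IrrCharacter (Subgroup.centralizer ({x} : Set G)), φ' ∉ b →
      classInner u (φ' : Subgroup.centralizer ({x} : Set G) → ℂ) = 0 := by
    intro φ' hφ'
    have h3 := L_sum (p := p) (f := bp x b (χ : G → ℂ)) (fun φ => if φ ∈ b then
      ((aa (Subgroup.centralizer ({x} : Set G)) χ φ : ℂ) * zl (zz x) φ) else 0)
      (fun y _ => by
        rw [bp_eq]
        refine Finset.sum_congr rfl fun φ _ => ?_
        split_ifs <;> simp) φ'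
    have h4 : (fun h : Subgroup.centralizer ({x} : Set G) => if p ∣ orderOf h then (0 : ℂ) else
        ((p ^ (Nat.card (Subgroup.centralizer ({x} : Set G))).factorization p : ℕ) : ℂ) *
          bp x b (χ : G → ℂ) h) =
        ((p ^ (Nat.card (Subgroup.centralizer ({x} : Set G))).factorization p : ℕ) : ℂ) • u := by
      funext h
      simp only [hu, Pi.smul_apply, smul_eq_mul]
      split_ifs <;> simp
    rw [h4, ci_smul_left] at h3
    have h5 : ∑ φ : IrrCharacter (Subgroup.centralizer ({x} : Set G)), (if φ ∈ b then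
      ((aa (Subgroup.centralizer ({x} : Set G)) χ φ : ℂ) * zl (zz x) φ) else 0) * (nn p φ φ' : ℂ) = 0 := by
      refine Finset.sum_eq_zero fun φ _ => ?_
      split_ifs with hφ
      · rw [nn_eq_zero' hM hb hφ hφ']; simp
      · simp
    rw [h5] at h3
    have h6 : ((p ^ (Nat.card (Subgroup.centralizer ({x} : Set G))).factorization p : ℕ) : ℂ) ≠ 0 := by
      exact_mod_cast (pow_pos hp.out.pos _).ne'
    exact (mul_eq_zero.1 h3).resolve_left h6
  have h3 : classInner u (fun y => (ψ : G → ℂ) (x * y)) = classInner u (bp x b (ψ : G → ℂ)) := by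
    rw [ci_eq_sum u _ huc, ci_eq_sum u _ huc]
    refine Finset.sum_congr rfl fun φ _ => ?_
    by_cases hφ : φ ∈ b
    · congr 2
      have h4 : (bp x b (ψ : G → ℂ)) = ∑ φ : IrrCharacter (Subgroup.centralizer ({x} : Set G)),
          (if φ ∈ b then classInner (fun c : Subgroup.centralizer ({x} : Set G) => (ψ : G → ℂ) (x * c))
            (φ : Subgroup.centralizer ({x} : Set G) → ℂ) else 0) •
            (φ : Subgroup.centralizer ({x} : Set G) → ℂ) := by
        funext c
        unfold bp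
        rw [lin_decomp, Finset.sum_apply]
        refine Finset.sum_congr rfl fun φ _ => ?_
        rw [Pi.smul_apply, smul_eq_mul]
        split_ifs <;> simp
      rw [h4, ci_sum_irr, if_pos hφ]
    · rw [h2 φ hφ]; simp
  have e1 := e (fun y => (ψ : G → ℂ) (x * y))
  rw [e1, h3, ← e (bp x b (ψ : G → ℂ))]
  unfold mm
  rw [← mul_assoc, mul_inv_cancel₀ hn, one_mul]

/-- the central element attached to `bp χ` -/
noncomputable def wz (p : ℕ) [Fact p.Prime] (hx : ∃ k : ℕ, orderOf x = p ^ k)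
    (c : Subgroup.centralizer ({x} : Set G) → ℂ)
    (hc : IsClassFunction (Subgroup.centralizer ({x} : Set G)) c) : ZC G :=
  ⟨ofFun (fun g => sf p x c g⁻¹), by
    rw [mem_center_iff]
    intro a b
    show sf p x c (b * a * b⁻¹)⁻¹ = sf p x c a⁻¹
    have : (b * a * b⁻¹)⁻¹ = b * a⁻¹ * b⁻¹ := by group
    rw [this]
    exact sf_class hx hc a⁻¹ b⟩

theorem om_wz (hx : ∃ k : ℕ, orderOf x = p ^ k)
    {c : Subgroup.centralizer ({x} : Set G) → ℂ}
    (hc : IsClassFunction (Subgroup.centralizer ({x} : Set G)) c) (ψ : IrrCharacter G) :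
    (ψ : G → ℂ) 1 * om ψ (wz p hx c hc) = ((Subgroup.centralizer ({x} : Set G)).index : ℂ) *
      ∑ y : Subgroup.centralizer ({x} : Set G), (if p ∣ orderOf y then 0 else
        c y * conj ((ψ : G → ℂ) (x * y))) := by
  rw [om_apply, mul_div_cancel₀ _ (IsIrr.one_ne_zero ψ.2), lin_apply]
  have h1 : ∑ g : G, (wz p hx c hc : MonoidAlgebra ℂ G).coeff g * (ψ : G → ℂ) g =
      ∑ g : G, sf p x c g * conj ((ψ : G → ℂ) g) := by
    refine Eq.trans (Equiv.sum_comp (Equiv.inv G) _).symm ?_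
    refine Finset.sum_congr rfl fun g _ => ?_
    rw [Equiv.inv_apply]
    show sf p x c (g⁻¹)⁻¹ * _ = _
    rw [inv_inv, IsChar.inv_eq_conj (IsIrr.isCharacter ψ.2)]
  rw [h1, sum_one_section (p := p) (x := x) ?_ hx ?_]
  · congr 1
    refine Finset.sum_congr rfl fun y _ => ?_
    split_ifs with hy
    · rfl
    · rw [sf_eq hx hc hy (IsConj.refl _)]
  · intro a b
    show sf p x c (b * a * b⁻¹) * conj ((ψ : G → ℂ) (b * a * b⁻¹)) = sf p x c a * conj ((ψ : G → ℂ) a)
    rw [sf_class hx hc a b, IsIrr.isClass ψ.2 a b]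
  · intro g z hg hz
    rw [sf_zero hx hg hz, zero_mul]

theorem sf_integral {c : Subgroup.centralizer ({x} : Set G) → ℂ} (hci : ∀ y, IsIntegral ℤ (c y))
    (g : G) : IsIntegral ℤ (sf p x c g) := by
  classical
  unfold sf
  split_ifs
  · exact hci _
  · exact isIntegral_zero

theorem om_integral {z : ZC G} (hz : ∀ g, IsIntegral ℤ ((z : MonoidAlgebra ℂ G).coeff g))
    (ψ : IrrCharacter G) : IsIntegral ℤ (om ψ z) := by
  haveI : Fintype (ConjClasses G) := Fintype.ofFinite _
  rw [om_eq_sum]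
  exact IsIntegral.sum _ fun C _ => (hz _).mul (isIntegral_om_cs _ _)

/-- `|G| m_{χψ} = ψ(1) ω_ψ(w_χ)` -/
theorem mm_om (hM : IsPModular p M) (hx : ∃ k : ℕ, orderOf x = p ^ k)
    {b : Set (IrrCharacter (Subgroup.centralizer ({x} : Set G)))} (hb : IsPBlock M b)
    (χ ψ : IrrCharacter G) :
    (Nat.card G : ℂ) * mm p x b χ ψ = (ψ : G → ℂ) 1 *
      om ψ (wz p hx (bp x b (χ : G → ℂ)) (bp_class b χ)) := by
  rw [om_wz hx (bp_class b χ) ψ, bp_adj hM hb χ ψ]
  have hidx : (Nat.card G : ℂ) = (Nat.card (Subgroup.centralizer ({x} : Set G)) : ℂ) *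
        ((Subgroup.centralizer ({x} : Set G)).index : ℂ) := by
    exact_mod_cast (Subgroup.card_mul_index _).symm
  rw [hidx]
  ring

/-- `p^d m_{χψ}` is `ff ψ` times a local integer, whose residue does not depend on `ψ ∈ B`. -/
theorem exists_R (hM : IsPModular p M) (hx : ∃ k : ℕ, orderOf x = p ^ k)
    {b : Set (IrrCharacter (Subgroup.centralizer ({x} : Set G)))} (hb : IsPBlock M b)
    {B : Set (IrrCharacter G)} (hB : IsPBlock M B) (χ : IrrCharacter G) :
    ∃ R : IrrCharacter G → ℂ, (∀ ψ, IsIntegral ℤ (R ψ)) ∧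
      (∀ ψ ∈ B, ∀ ψ' ∈ B, MemLocalIdeal M (R ψ - R ψ')) ∧
      ∀ ψ ∈ B, ((Nat.card G / p ^ (Nat.card G).factorization p : ℕ) : ℂ) *
        (((p ^ blockDefect p B : ℕ) : ℂ) * mm p x b χ ψ) = (ff p B ψ : ℂ) * R ψ := by
  haveI := hM.2.1
  refine ⟨fun ψ => om ψ (wz p hx (bp x b (χ : G → ℂ)) (bp_class b χ)), fun ψ => ?_, ?_, ?_⟩
  · exact om_integral (fun g => sf_integral (fun y => bp_integral b χ y) _) ψ
  · intro ψ hψ ψ' hψ'
    refine om_sub_mem_of_sameBlock (block_sameBlock hB hψ hψ') ?_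
    intro g
    exact memLocalRing_of_integral hM.2.1.ne_top (sf_integral (fun y => bp_integral b χ y) _)
  · intro ψ hψ
    have h1 := mm_om hM hx hb χ ψ
    have h2 := mB_add (p := p) hψ
    have hpa : (Nat.card G : ℂ) = ((Nat.card G / p ^ (Nat.card G).factorization p : ℕ) : ℂ) *
        (((p ^ mB p B : ℕ) : ℂ) * ((p ^ blockDefect p B : ℕ) : ℂ)) := by
      have h3 : Nat.card G / p ^ (Nat.card G).factorization p * (p ^ mB p B * p ^ blockDefect p B) =
          Nat.card G := by
        rw [← pow_add, h2]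
        exact Nat.div_mul_cancel (Nat.ordProj_dvd _ _)
      exact_mod_cast h3.symm
    have h3 : ((p ^ mB p B : ℕ) : ℂ) ≠ 0 := by exact_mod_cast (pow_pos hp.out.pos _).ne'
    rw [hpa, val_one (p := p) hψ] at h1
    refine mul_left_cancel₀ h3 ?_
    show ((p ^ mB p B : ℕ) : ℂ) * _ = ((p ^ mB p B : ℕ) : ℂ) * ((ff p B ψ : ℂ) *
      om ψ (wz p hx (bp x b (χ : G → ℂ)) (bp_class b χ)))
    linear_combination h1

end

end Cfsg.Agent.H25.Sub5
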