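import Cfsg.Agent.H25_STk
import Cfsg.Agent.H25_Sub5

/-! Values and calculus of the `*`-construction. -/

set_option autoImplicit false
set_option linter.unusedSectionVars false

open scoped ComplexConjugate

namespace Cfsg.Agent.H25.STl

open Cfsg Cfsg.Agent.H3 Cfsg.Agent.H3.CharBasic Cfsg.Agent.H3.CharIrr Cfsg.Agent.H3.CharComplete
  Cfsg.Agent.H25.Brauer Cfsg.Agent.H10.BlockTrace Cfsg.Agent.H25.BrauerP
  Cfsg.Agent.H10.Char Cfsg.Agent.H10.BlockLoc Cfsg.Agent.H10.BlockAlg Cfsg.Agent.H10.BlockIdem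
  Cfsg.Agent.H10.BlockOrth Cfsg.Agent.H10.BlockHZ
  Cfsg.Agent.H10.BlockSMT Cfsg.Agent.H10.BlockSMT2 Cfsg.Agent.H10.PPart Cfsg.Agent.H10.BlockPrin
  Cfsg.Agent.H25.STa Cfsg.Agent.H25.STb Cfsg.Agent.H25.STc Cfsg.Agent.H25.STd
  Cfsg.Agent.H25.STe Cfsg.Agent.H25.STf Cfsg.Agent.H25.STg Cfsg.Agent.H25.STh Cfsg.Agent.H25.STi
  Cfsg.Agent.H25.STj Cfsg.Agent.H25.STk
  Cfsg.Agent.H25.KG Cfsg.Agent.H25.Red Cfsg.Agent.H25.BPTr Cfsg.Agent.H25.BPMain Cfsg.Agent.H25.Fus
  Cfsg.Agent.H25.AbSec Cfsg.Agent.H25.Sub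

section general
variable {p : ℕ} {M : Ideal AlgInt} {C : Type*} [Group C] [Fintype C]

theorem KB_symm [Fintype (IrrCharacter C)] (B : Set (IrrCharacter C)) (g h : C) : KB B h g = conj (KB B g h) := by
  classical
  unfold KB
  rw [map_sum]
  refine Finset.sum_congr rfl fun χ _ => ?_
  split_ifs
  · rw [map_mul, Complex.conj_conj, mul_comm]
  · rw [map_zero]

theorem adj_reg (hM : IsPModular p M) {b : Set (IrrCharacter C)} (hb : IsPBlock M b) (f g : C → ℂ) :
    ∑ y : C, (if p ∣ orderOf y then 0 else blockPart b f y * conj (g y)) =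
      ∑ y : C, (if p ∣ orderOf y then 0 else f y * conj (blockPart b g y)) := by
  classical
  haveI : Fintype (IrrCharacter C) := Fintype.ofFinite _
  have h1 : ∀ (f : C → ℂ) (y : C), ¬ p ∣ orderOf y → blockPart b f y =
      (Nat.card C : ℂ)⁻¹ * ∑ x : C, if p ∣ orderOf x then 0 else f x * KB b y x := by
    intro f y hy
    rw [blockPart_KB]
    congr 1
    refine Finset.sum_congr rfl fun x _ => ?_
    split_ifs with hx
    · rw [KB_sing hM hb hy hx, mul_zero]
    · rfl
  have e1 : ∑ y : C, (if p ∣ orderOf y then 0 else blockPart b f y * conj (g y)) =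
      (Nat.card C : ℂ)⁻¹ * ∑ y : C, ∑ x : C, (if p ∣ orderOf y then 0 else if p ∣ orderOf x then 0 else
        f x * KB b y x * conj (g y)) := by
    rw [Finset.mul_sum]
    refine Finset.sum_congr rfl fun y _ => ?_
    split_ifs with hy
    · simp
    · rw [h1 f y hy, Finset.mul_sum, Finset.mul_sum, Finset.sum_mul]
      refine Finset.sum_congr rfl fun x _ => ?_
      split_ifs <;> ring
  have e2 : ∑ y : C, (if p ∣ orderOf y then 0 else f y * conj (blockPart b g y)) =
      (Nat.card C : ℂ)⁻¹ * ∑ y : C, ∑ x : C, (if p ∣ orderOf y then 0 else if p ∣ orderOf x then 0 else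
        f y * KB b x y * conj (g x)) := by
    rw [Finset.mul_sum]
    refine Finset.sum_congr rfl fun y _ => ?_
    split_ifs with hy
    · simp
    · rw [h1 g y hy, map_mul, map_inv₀, Complex.conj_natCast, map_sum, Finset.mul_sum, Finset.mul_sum, Finset.mul_sum]
      refine Finset.sum_congr rfl fun x _ => ?_
      split_ifs
      · simp
      · rw [map_mul, ← KB_symm]; ring
  rw [e1, e2, Finset.sum_comm]
  congr 1
  refine Finset.sum_congr rfl fun x _ => Finset.sum_congr rfl fun y _ => ?_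
  split_ifs <;> rfl

theorem blockPart_lin (b : Set (IrrCharacter C)) {ι : Type*} (s : Finset ι) (c : ι → ℂ) (F : ι → C → ℂ) (y : C) :
    blockPart b (fun x => ∑ i ∈ s, c i * F i x) y = ∑ i ∈ s, c i * blockPart b (F i) y := by
  classical
  haveI : Fintype (IrrCharacter C) := Fintype.ofFinite _
  rw [blockPart_KB]
  simp_rw [blockPart_KB b (F _)]
  rw [Finset.mul_sum]
  simp_rw [Finset.sum_mul, Finset.mul_sum]
  rw [Finset.sum_comm]
  exact Finset.sum_congr rfl fun i _ => Finset.sum_congr rfl fun x _ => by ring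

theorem blockPart_orth [hMax : M.IsMaximal] {b b' : Set (IrrCharacter C)} (hb : IsPBlock M b) (hb' : IsPBlock M b')
    (hne : b ≠ b') (f : C → ℂ) (y : C) : blockPart b (blockPart b' f) y = 0 := by
  classical
  haveI : Fintype (IrrCharacter C) := Fintype.ofFinite _
  have h1 : (blockPart b' f) = fun x => ∑ χ : IrrCharacter C, (if χ ∈ b' then classInner f (χ : C → ℂ) else 0) *
      (χ : C → ℂ) x := by
    funext x
    unfold blockPart
    have e : (Fintype.ofFinite C) = (inferInstance : Fintype C) := Subsingleton.elim _ _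
    rw [e, finsum_mem_irr]
    refine Finset.sum_congr rfl fun χ _ => ?_
    split_ifs
    · rfl
    · rw [zero_mul]
  rw [h1, blockPart_lin b Finset.univ (fun χ : IrrCharacter C => if χ ∈ b' then classInner f (χ : C → ℂ) else 0)
    (fun χ => (χ : C → ℂ)) y]
  refine Finset.sum_eq_zero fun χ _ => ?_
  split_ifs with h
  · have h2 : χ ∉ b := fun h' => hne (block_eq_of_mem hb hb' h' h)
    rw [blockPart_irr, if_neg h2, mul_zero]
  · rw [zero_mul]

end general

variable {p : ℕ} {M : Ideal AlgInt} {G : Type*} [Group G] [Fintype G] [hMax : M.IsMaximal]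
  [hp : Fact p.Prime] [hch : CharP (KM M) p] {P : Subgroup G} {E : MonoidAlgebra (KM M) G}

/-- the class function `η ∗ χ` -/
noncomputable def st (p : ℕ) [Fact p.Prime] (P : Subgroup G) (E : MonoidAlgebra (KM M) G) (η χ : G → ℂ) : G → ℂ :=
  th p (zz' p P E η) χ

theorem sum_blks_eq (H : Subgroup G) [Fintype H] (F : MonoidAlgebra (KM M) G → ℂ) :
    ∑ f ∈ blks (KM M) H, F f = ∑ b ∈ blocks H M, F (ep M H b) := by
  symm
  refine Finset.sum_bij (fun b _ => ep M H b) ?_ ?_ ?_ ?_
  · intro b hb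
    exact mem_blks.2 (isBlk_ep (mem_blocks.1 hb))
  · intro b hb b' hb' h
    exact ep_inj (mem_blocks.1 hb) (mem_blocks.1 hb') h
  · intro f hf
    obtain ⟨b, hb, h⟩ := exists_ep (mem_blks.1 hf)
    exact ⟨b, mem_blocks.2 hb, h⟩
  · intro b _; rfl

theorem st_eq (η : G → ℂ) {χ : G → ℂ} (hχ : IsClassFunction G χ) {u : G} (hu : ∃ k : ℕ, orderOf u = p ^ k)
    [Fintype (Subgroup.centralizer ({u} : Set G))] (y : Subgroup.centralizer ({u} : Set G)) (hy : ¬ p ∣ orderOf y) :
    st p P E η χ (u * y) = ∑ b ∈ blocks (Subgroup.centralizer ({u} : Set G)) M,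
      cc p P E η u (ep M (Subgroup.centralizer ({u} : Set G)) b) * bp u b χ y := by
  haveI : Fintype (IrrCharacter (Subgroup.centralizer ({u} : Set G))) := Fintype.ofFinite _
  have hc : Commute u (y : G) := (Subgroup.mem_centralizer_singleton_iff.1 y.2).symm
  unfold st
  rw [th_eq _ χ hc hu (by rwa [Subgroup.orderOf_coe])]
  unfold zz'
  rw [Finset.sum_mul, map_sum, sum_blks_eq]
  refine Finset.sum_congr rfl fun b hb => ?_
  rw [Algebra.smul_mul_assoc, map_smul, smul_eq_mul, hat_ep (mem_blocks.1 hb), hatb_emb, mul_assoc,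
    MonoidAlgebra.single_mul_single, mul_one, lin_emb_eq_blockPart b hχ y]
  rfl

theorem bp_congr (hM : IsPModular p M) {u : G} [Fintype (Subgroup.centralizer ({u} : Set G))]
    {b : Set (IrrCharacter (Subgroup.centralizer ({u} : Set G)))}
    (hb : IsPBlock M b) {f f' : G → ℂ} {y : Subgroup.centralizer ({u} : Set G)} (hy : ¬ p ∣ orderOf y)
    (h : ∀ c : Subgroup.centralizer ({u} : Set G), ¬ p ∣ orderOf c → f (u * c) = f' (u * c)) : bp u b f y = bp u b f' y :=
  blockPart_congr_reg hM hb hy h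

/-- the parts of `η ∗ χ` -/
theorem bp_st (hM : IsPModular p M) (η : G → ℂ) {χ : G → ℂ} (hχ : IsClassFunction G χ) {u : G}
    (hu : ∃ k : ℕ, orderOf u = p ^ k)
    [Fintype (Subgroup.centralizer ({u} : Set G))] {b : Set (IrrCharacter (Subgroup.centralizer ({u} : Set G)))}
    (hb : IsPBlock M b)
    (y : Subgroup.centralizer ({u} : Set G)) (hy : ¬ p ∣ orderOf y) :
    bp u b (st p P E η χ) y = cc p P E η u (ep M (Subgroup.centralizer ({u} : Set G)) b) * bp u b χ y := by
  classical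
  haveI : Fintype (IrrCharacter (Subgroup.centralizer ({u} : Set G))) := Fintype.ofFinite _
  have h1 : bp u b (st p P E η χ) y = blockPart b (fun c => ∑ b' ∈ blocks (Subgroup.centralizer ({u} : Set G)) M,
      cc p P E η u (ep M (Subgroup.centralizer ({u} : Set G)) b') * bp u b' χ c) y :=
    blockPart_congr_reg hM hb hy fun c hc => st_eq η hχ hu c hc
  rw [h1, blockPart_lin, Finset.sum_eq_single_of_mem b (mem_blocks.2 hb)]
  · congr 1
    exact bp_bp b _ y
  · intro b' hb' hne
    have : blockPart b (bp u b' χ) y = 0 := blockPart_orth hb (mem_blocks.1 hb') hne.symm _ y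
    rw [this, mul_zero]

theorem fun_eq_of_sec {f g : G → ℂ} (h : ∀ u : G, (∃ k : ℕ, orderOf u = p ^ k) → ∀ y : Subgroup.centralizer ({u} : Set G),
    ¬ p ∣ orderOf y → f (u * y) = g (u * y)) : f = g := by
  funext x
  obtain ⟨u, s, hus, hc, hu, hs⟩ := exists_ppart (p := p) x
  rw [← hus]
  exact h u hu ⟨s, Subgroup.mem_centralizer_singleton_iff.2 hc.symm⟩ (by rwa [Subgroup.orderOf_mk])

theorem cc_mul {η η' : G → ℂ} (hη : Stab p P E η) (hη' : Stab p P E η') (u : G) (f : MonoidAlgebra (KM M) G) :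
    cc p P E (fun g => η g * η' g) u f = cc p P E η u f * cc p P E η' u f := by
  have h3 : Stab p P E (fun g => η g * η' g) := fun u hu g hg => by
    show _ = _
    simp only [hη u hu g hg, hη' u hu g hg]
  by_cases h : ∃ x, LE p (Subgroup.zpowers (x * u * x⁻¹)) (KG.cnj x f) P E
  · obtain ⟨x, hx⟩ := h
    rw [cc_eq hη hx, cc_eq hη' hx, cc_eq h3 hx]
  · rw [cc_zero h, cc_zero h, cc_zero h, mul_zero]

theorem cc_add {η η' : G → ℂ} (hη : Stab p P E η) (hη' : Stab p P E η') (u : G) (f : MonoidAlgebra (KM M) G) :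
    cc p P E (fun g => η g + η' g) u f = cc p P E η u f + cc p P E η' u f := by
  have h3 : Stab p P E (fun g => η g + η' g) := fun u hu g hg => by
    show _ = _
    simp only [hη u hu g hg, hη' u hu g hg]
  by_cases h : ∃ x, LE p (Subgroup.zpowers (x * u * x⁻¹)) (KG.cnj x f) P E
  · obtain ⟨x, hx⟩ := h
    rw [cc_eq hη hx, cc_eq hη' hx, cc_eq h3 hx]
  · rw [cc_zero h, cc_zero h, cc_zero h, add_zero]

theorem cc_smul {η : G → ℂ} (hη : Stab p P E η) (c : ℂ) (u : G) (f : MonoidAlgebra (KM M) G) :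
    cc p P E (fun g => c * η g) u f = c * cc p P E η u f := by
  have h3 : Stab p P E (fun g => c * η g) := fun u hu g hg => by
    show _ = _
    simp only [hη u hu g hg]
  by_cases h : ∃ x, LE p (Subgroup.zpowers (x * u * x⁻¹)) (KG.cnj x f) P E
  · obtain ⟨x, hx⟩ := h
    rw [cc_eq hη hx, cc_eq h3 hx]
  · rw [cc_zero h, cc_zero h, mul_zero]

theorem stab_conj {η : G → ℂ} (hη : Stab p P E η) : Stab p P E (fun g => conj (η g)) :=
  fun u hu g hg => by
    show _ = _
    simp only [hη u hu g hg]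

theorem stab_mul {η η' : G → ℂ} (hη : Stab p P E η) (hη' : Stab p P E η') : Stab p P E (fun g => η g * η' g) :=
  fun u hu g hg => by
    show _ = _
    simp only [hη u hu g hg, hη' u hu g hg]

theorem stab_one : Stab p P E (fun _ => 1) := fun _ _ _ _ => rfl

theorem cc_conj' {η : G → ℂ} (hη : Stab p P E η) (u : G) (f : MonoidAlgebra (KM M) G) :
    cc p P E (fun g => conj (η g)) u f = conj (cc p P E η u f) := by
  by_cases h : ∃ x, LE p (Subgroup.zpowers (x * u * x⁻¹)) (KG.cnj x f) P E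
  · obtain ⟨x, hx⟩ := h
    rw [cc_eq hη hx, cc_eq (stab_conj hη) hx]
  · rw [cc_zero h, cc_zero h, map_zero]

theorem cc_congr {η η' : G → ℂ} (h : ∀ u ∈ P, η u = η' u) (u : G) (f : MonoidAlgebra (KM M) G) :
    cc p P E η u f = cc p P E η' u f := by
  by_cases hx : ∃ x, LE p (Subgroup.zpowers (x * u * x⁻¹)) (KG.cnj x f) P E
  · have h1 := hx.choose_spec
    unfold cc
    rw [dif_pos hx, dif_pos hx]
    exact h _ (Subgroup.zpowers_le.1 h1.le)
  · rw [cc_zero hx, cc_zero hx]

theorem zz_class {η : G → ℂ} (hη : Stab p P E η) {χ : G → ℂ} (hχ : IsClassFunction G χ) :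
    IsClassFunction G (st p P E η χ) := by
  intro g x
  obtain ⟨u, s, hus, hc, hu, hs⟩ := exists_ppart (p := p) g
  unfold st
  rw [← hus, th_eq _ χ hc hu hs]
  have e1 : x * (u * s) * x⁻¹ = (x * u * x⁻¹) * (x * s * x⁻¹) := by group
  have hc' : Commute (x * u * x⁻¹) (x * s * x⁻¹) := by
    show x * u * x⁻¹ * (x * s * x⁻¹) = x * s * x⁻¹ * (x * u * x⁻¹)
    have : u * s = s * u := hc
    have e2 : x * u * x⁻¹ * (x * s * x⁻¹) = x * (u * s) * x⁻¹ := by group
    rw [e2, this]; group
  rw [e1, th_eq _ χ hc' (by rw [orderOf_conj]; exact hu) (by rw [orderOf_conj]; exact hs), zz_eqv hη, ← cnj_single,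
    ← map_mul, lin_cnj hχ]

theorem st_st (hM : IsPModular p M) {η η' : G → ℂ} (hη : Stab p P E η) (hη' : Stab p P E η') {χ : G → ℂ}
    (hχ : IsClassFunction G χ) : st p P E η' (st p P E η χ) = st p P E (fun g => η' g * η g) χ := by
  refine fun_eq_of_sec (p := p) fun u hu y hy => ?_
  haveI : Fintype (Subgroup.centralizer ({u} : Set G)) := Fintype.ofFinite _
  rw [st_eq η' (zz_class hη hχ) hu y hy, st_eq _ hχ hu y hy]
  refine Finset.sum_congr rfl fun b hb => ?_
  rw [bp_st hM η hχ hu (mem_blocks.1 hb) y hy, cc_mul hη' hη, mul_assoc]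

variable {B : Set (IrrCharacter G)}

theorem ex_iff {B : MonoidAlgebra (KM M) G} (hP : BP p B P E) (htop : KG.Top p P E) {u : G}
    {f : MonoidAlgebra (KM M) G} :
    (∃ x, LE p (Subgroup.zpowers (x * u * x⁻¹)) (KG.cnj x f) P E) ↔ BP p B (Subgroup.zpowers u) f := by
  constructor
  · rintro ⟨y, hy⟩
    have h2 := (hP.down hy).cnj y⁻¹
    rwa [cs_zp, cnj_inv_cnj, show y⁻¹ * (y * u * y⁻¹) * y⁻¹⁻¹ = u by group] at h2
  · intro h
    obtain ⟨x, hx⟩ := hP.conj_le htop h
    exact ⟨x, by rwa [cs_zp] at hx⟩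

theorem cc_ind (hM : IsPModular p M) (hB : IsPBlock M B) (hP : BP p (epG M B) P E) (htop : KG.Top p P E)
    {η : G → ℂ} {u : G} (hu : ∃ k : ℕ, orderOf u = p ^ k) {b : Set (IrrCharacter (Subgroup.centralizer ({u} : Set G)))}
    (hb : IsPBlock M b) (h : ¬ IsInducedBlock M (Subgroup.centralizer ({u} : Set G)) b B) :
    cc p P E η u (ep M (Subgroup.centralizer ({u} : Set G)) b) = 0 := by
  apply cc_zero
  rw [ex_iff hP htop]
  intro h'
  exact h ((ind_iff hM hB hu b hb).2 h')

theorem cc_one_ind (hM : IsPModular p M) (hB : IsPBlock M B) (hP : BP p (epG M B) P E) (htop : KG.Top p P E)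
    {u : G} (hu : ∃ k : ℕ, orderOf u = p ^ k) {b : Set (IrrCharacter (Subgroup.centralizer ({u} : Set G)))}
    (h : IsInducedBlock M (Subgroup.centralizer ({u} : Set G)) b B) :
    cc p P E (fun _ => 1) u (ep M (Subgroup.centralizer ({u} : Set G)) b) = 1 := by
  obtain ⟨x, hx⟩ := (ex_iff hP htop).2 ((ind_iff hM hB hu b h.1).1 h)
  exact cc_eq stab_one hx

open Classical in
theorem st_notMem (hM : IsPModular p M) (hB : IsPBlock M B) (hP : BP p (epG M B) P E) (htop : KG.Top p P E)
    (η : G → ℂ) {χ : IrrCharacter G} (hχ : χ ∉ B) : st p P E η (χ : G → ℂ) = 0 := by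
  refine fun_eq_of_sec (p := p) fun u hu y hy => ?_
  haveI : Fintype (Subgroup.centralizer ({u} : Set G)) := Fintype.ofFinite _
  haveI : Fintype (IrrCharacter (Subgroup.centralizer ({u} : Set G))) := Fintype.ofFinite _
  haveI : Fintype (IrrCharacter G) := Fintype.ofFinite _
  rw [st_eq η (IsIrr.isClass χ.2) hu y hy]
  refine Finset.sum_eq_zero fun b hb => ?_
  by_cases h : IsInducedBlock M (Subgroup.centralizer ({u} : Set G)) b B
  · rw [bp_zero hM hu h hχ y hy, mul_zero]
  · rw [cc_ind hM hB hP htop hu (mem_blocks.1 hb) h, zero_mul]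

theorem st_one (hM : IsPModular p M) (hB : IsPBlock M B) (hP : BP p (epG M B) P E) (htop : KG.Top p P E)
    {χ : IrrCharacter G} (hχ : χ ∈ B) : st p P E (fun _ => 1) (χ : G → ℂ) = (χ : G → ℂ) := by
  classical
  refine fun_eq_of_sec (p := p) fun u hu y hy => ?_
  haveI : Fintype (Subgroup.centralizer ({u} : Set G)) := Fintype.ofFinite _
  haveI : Fintype (IrrCharacter (Subgroup.centralizer ({u} : Set G))) := Fintype.ofFinite _
  haveI : Fintype (IrrCharacter G) := Fintype.ofFinite _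
  rw [st_eq _ (IsIrr.isClass χ.2) hu y hy, sec_eq_sum hM hu hB hχ y hy, Finset.sum_filter]
  refine Finset.sum_congr rfl fun b hb => ?_
  split_ifs with h
  · rw [cc_one_ind hM hB hP htop hu h, one_mul]
  · rw [cc_ind hM hB hP htop hu (mem_blocks.1 hb) h, zero_mul]

/-- adjointness -/
theorem st_adj (hM : IsPModular p M) {η : G → ℂ} (hη : Stab p P E η) {χ ψ : G → ℂ}
    (hχ : IsClassFunction G χ) (hψ : IsClassFunction G ψ) :
    classInner (st p P E η χ) ψ = classInner χ (st p P E (fun g => conj (η g)) ψ) := by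
  classical
  have hcl : ∀ {f g : G → ℂ}, IsClassFunction G f → IsClassFunction G g → IsClassFunction G (fun x => f x * conj (g x)) := by
    intro f g hf hg a x
    show f _ * conj (g _) = _
    rw [hf, hg]
  unfold classInner
  congr 1
  have hrep : ∀ g : G, (∃ k : ℕ, orderOf g = p ^ k) → ∃! x, x ∈ AbSec2.reps (G := G) p ∧ IsConj g x :=
    AbSec2.reps_unique (p := p)
  have e1 := sum_sections (p := p) (hcl (zz_class hη hχ) hψ) hrep
  have e2 := sum_sections (p := p) (hcl hχ (zz_class (stab_conj hη) hψ)) hrep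
  rw [e1, e2]
  refine Finset.sum_congr rfl fun u hu => ?_
  congr 1
  have hu' := AbSec2.reps_p p hu
  haveI : Fintype (Subgroup.centralizer ({u} : Set G)) := Fintype.ofFinite _
  rw [section_sum hu', section_sum hu']
  have e3 : ∀ y : Subgroup.centralizer ({u} : Set G), (if p ∣ orderOf y then 0 else
      st p P E η χ (u * y) * conj (ψ (u * y))) = ∑ b ∈ blocks (Subgroup.centralizer ({u} : Set G)) M,
      cc p P E η u (ep M (Subgroup.centralizer ({u} : Set G)) b) * (if p ∣ orderOf y then 0 else bp u b χ y * conj (ψ (u * y))) := by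
    intro y
    split_ifs with hy
    · simp
    · rw [st_eq η hχ hu' y hy, Finset.sum_mul]
      exact Finset.sum_congr rfl fun b _ => by ring
  have e4 : ∀ y : Subgroup.centralizer ({u} : Set G), (if p ∣ orderOf y then 0 else
      χ (u * y) * conj (st p P E (fun g => conj (η g)) ψ (u * y))) = ∑ b ∈ blocks (Subgroup.centralizer ({u} : Set G)) M,
      cc p P E η u (ep M (Subgroup.centralizer ({u} : Set G)) b) * (if p ∣ orderOf y then 0 else χ (u * y) * conj (bp u b ψ y)) := by
    intro y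
    split_ifs with hy
    · simp
    · rw [st_eq _ hψ hu' y hy, map_sum, Finset.mul_sum]
      refine Finset.sum_congr rfl fun b _ => ?_
      rw [cc_conj' hη, map_mul, Complex.conj_conj]; ring
  rw [Finset.sum_congr rfl fun y _ => e3 y, Finset.sum_congr rfl fun y _ => e4 y, Finset.sum_comm,
    Finset.sum_comm (s := Finset.univ)]
  refine Finset.sum_congr rfl fun b hb => ?_
  rw [← Finset.mul_sum, ← Finset.mul_sum]
  congr 1
  exact adj_reg hM (mem_blocks.1 hb) (fun c : Subgroup.centralizer ({u} : Set G) => χ (u * c)) (fun c => ψ (u * c))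

end Cfsg.Agent.H25.STl
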