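import Cfsg.Agent.H25_Sub5

/-! Real algebraic integers in 2-power cyclotomic fields; major subsections for `p = 2`. -/

open scoped ComplexConjugate

namespace Cfsg.Agent.H25.Sub6

open Cfsg Cfsg.Agent.H3 Cfsg.Agent.H3.CharBasic Cfsg.Agent.H3.CharIrr Cfsg.Agent.H3.CharComplete
  Cfsg.Agent.H25.Brauer Cfsg.Agent.H25.BrauerP Cfsg.Agent.H25.Elem
  Cfsg.Agent.H10.Char Cfsg.Agent.H10.BlockLoc Cfsg.Agent.H10.BlockAlg Cfsg.Agent.H10.BlockIdem
  Cfsg.Agent.H10.BlockOrth Cfsg.Agent.H10.BlockHZ Cfsg.Agent.H10.BlockInd Cfsg.Agent.H10.PPart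
  Cfsg.Agent.H10.BlockSMT Cfsg.Agent.H10.BlockSMT2 Cfsg.Agent.H10.BlockPrin
  Cfsg.Agent.H25.BlockReg Cfsg.Agent.H25.BlockReg2 Cfsg.Agent.H25.BlockReg3 Cfsg.Agent.H25.IndCong
  Cfsg.Agent.H25.Sub Cfsg.Agent.H25.Sub2 Cfsg.Agent.H25.Avg Cfsg.Agent.H3.CharGal
  Cfsg.Agent.H25.Sub3 Cfsg.Agent.H25.Sub4 Cfsg.Agent.H25.Sub5

theorem int_rep {m : ℕ} (z : Cyc (2 ^ m)) (hz : IsIntegral ℤ (z : ℂ)) :
    ∃ (D : ℕ) (c : ℕ → ℤ), (z : ℂ) = ∑ i ∈ Finset.range D, (c i : ℂ) * zet (2 ^ m) ^ i := by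
  haveI : Fact (Nat.Prime 2) := ⟨Nat.prime_two⟩
  let ζ : Cyc (2 ^ m) := ⟨zet (2 ^ m), zet_mem _⟩
  have hζ : IsPrimitiveRoot ζ (2 ^ m) :=
    (IsPrimitiveRoot.coe_submonoidClass_iff (N := Cyc (2 ^ m)) (ζ := ζ)).mp (zet_prim (2 ^ m))
  have h1 := IsCyclotomicExtension.Rat.isIntegralClosure_adjoin_singleton_of_prime_pow (p := 2)
    (k := m) (K := Cyc (2 ^ m)) hζ
  have hzi : IsIntegral ℤ z :=
    (isIntegral_algebraMap_iff (R := ℤ) (A := Cyc (2 ^ m)) (B := ℂ) (x := z)
      (algebraMap (Cyc (2 ^ m)) ℂ).injective).mp hz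
  obtain ⟨y, hy⟩ := h1.isIntegral_iff.1 hzi
  have hy2 : z ∈ Algebra.adjoin ℤ ({ζ} : Set (Cyc (2 ^ m))) := by rw [← hy]; exact y.2
  rw [Algebra.adjoin_singleton_eq_range_aeval] at hy2
  obtain ⟨P, hP⟩ := hy2
  refine ⟨P.natDegree + 1, fun i => P.coeff i, ?_⟩
  have h2 : z = ∑ i ∈ Finset.range (P.natDegree + 1), P.coeff i • ζ ^ i := by
    rw [← hP]
    exact Polynomial.aeval_eq_sum_range ζ
  rw [h2]
  push_cast
  refine Finset.sum_congr rfl fun i _ => ?_
  rw [zsmul_eq_mul]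

/-- reduced representation -/
theorem red_rep {m : ℕ} (hm : 1 ≤ m) (z : Cyc (2 ^ m)) (hz : IsIntegral ℤ (z : ℂ)) :
    ∃ d : ℕ → ℤ, (z : ℂ) = ∑ j ∈ Finset.range (2 ^ (m - 1)), (d j : ℂ) * zet (2 ^ m) ^ j := by
  obtain ⟨D, c, hc⟩ := int_rep z hz
  set H := 2 ^ (m - 1) with hH
  have hHpos : 0 < H := by positivity
  have hζH : zet (2 ^ m) ^ H = -1 := by
    have h1 := zet_prim (2 ^ m)
    have h2 : (zet (2 ^ m) ^ H) ^ 2 = 1 := by
      rw [← pow_mul, hH, ← pow_succ, Nat.sub_add_cancel hm]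
      exact h1.pow_eq_one
    have h3 : zet (2 ^ m) ^ H ≠ 1 := by
      intro h
      have h4 := (h1.pow_eq_one_iff_dvd _).1 h
      rw [hH] at h4
      have := (Nat.pow_dvd_pow_iff_le_right (by norm_num : 1 < 2)).1 h4
      omega
    have h4 : (zet (2 ^ m) ^ H - 1) * (zet (2 ^ m) ^ H + 1) = 0 := by linear_combination h2
    rcases mul_eq_zero.1 h4 with h | h
    · exact absurd (sub_eq_zero.1 h) h3
    · exact eq_neg_of_add_eq_zero_left h
  refine ⟨fun j => ∑ i ∈ Finset.range D, if i % H = j then c i * (-1) ^ (i / H) else 0, ?_⟩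
  have h1 : ∀ i : ℕ, zet (2 ^ m) ^ i = ((-1 : ℤ) ^ (i / H) : ℤ) * zet (2 ^ m) ^ (i % H) := by
    intro i
    conv_lhs => rw [← Nat.div_add_mod i H]
    rw [pow_add, pow_mul, hζH]
    push_cast; rfl
  rw [hc]
  push_cast
  simp only [Finset.sum_mul]
  rw [Finset.sum_comm]
  refine Finset.sum_congr rfl fun i _ => ?_
  rw [Finset.sum_eq_single_of_mem (i % H) (Finset.mem_range.2 (Nat.mod_lt _ hHpos))]
  · rw [if_pos rfl, h1 i]
    push_cast
    ring
  · intro j _ hne
    rw [if_neg (fun h => hne h.symm), zero_mul]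

theorem eps_zet {m : ℕ} (hm : 1 ≤ m) (k : ℕ) :
    eps (zet (2 ^ m) ^ k) = if k % 2 ^ m = 0 then 1 else if k % 2 ^ m = 2 ^ (m - 1) then -1 else 0 := by
  have h1 := zet_prim (2 ^ m)
  have hH : 2 ^ (m - 1) + 2 ^ (m - 1) = 2 ^ m := by
    rw [← mul_two, ← pow_succ, Nat.sub_add_cancel hm]
  have hζH : zet (2 ^ m) ^ 2 ^ (m - 1) = -1 := by
    have h2 : (zet (2 ^ m) ^ 2 ^ (m - 1)) ^ 2 = 1 := by
      rw [← pow_mul, ← pow_succ, Nat.sub_add_cancel hm]
      exact h1.pow_eq_one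
    have h3 : zet (2 ^ m) ^ 2 ^ (m - 1) ≠ 1 := by
      intro h
      have h4 := (h1.pow_eq_one_iff_dvd _).1 h
      have := (Nat.pow_dvd_pow_iff_le_right (by norm_num : 1 < 2)).1 h4
      omega
    have h4 : (zet (2 ^ m) ^ 2 ^ (m - 1) - 1) * (zet (2 ^ m) ^ 2 ^ (m - 1) + 1) = 0 := by
      linear_combination h2
    rcases mul_eq_zero.1 h4 with h | h
    · exact absurd (sub_eq_zero.1 h) h3
    · exact eq_neg_of_add_eq_zero_left h
  have hlt : k % 2 ^ m < 2 ^ m := Nat.mod_lt _ (by positivity)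
  have hk : zet (2 ^ m) ^ k = zet (2 ^ m) ^ (k % 2 ^ m) := by
    conv_lhs => rw [← Nat.div_add_mod k (2 ^ m)]
    rw [pow_add, pow_mul, h1.pow_eq_one, one_pow, one_mul]
  have hpos : 0 < 2 ^ (m - 1) := by positivity
  rw [hk]
  unfold eps
  by_cases h0 : k % 2 ^ m = 0
  · rw [if_pos h0, h0, pow_zero, if_pos rfl]
  · rw [if_neg h0]
    have hne : zet (2 ^ m) ^ (k % 2 ^ m) ≠ 1 := by
      intro h
      have := (h1.pow_eq_one_iff_dvd _).1 h
      exact h0 (Nat.eq_zero_of_dvd_of_lt this hlt)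
    rw [if_neg hne]
    by_cases h2 : k % 2 ^ m = 2 ^ (m - 1)
    · rw [if_pos h2, h2, if_pos hζH]
    · rw [if_neg h2, if_neg]
      intro h
      rw [← hζH] at h
      exact h2 (h1.pow_inj hlt (by omega) h)

/-- A real algebraic integer of a 2-power cyclotomic field is congruent to its average. -/
theorem real_int {M : Ideal AlgInt} (hM : IsPModular 2 M) {n m : ℕ} [NeZero n] (hn : n = 2 ^ m)
    (z : Cyc n) (hz : IsIntegral ℤ (z : ℂ)) (hr : conj (z : ℂ) = (z : ℂ)) :
    ∃ t : ℤ, av z = t ∧ MemLocalIdeal M ((z : ℂ) - t) := by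
  subst hn
  haveI := hM.2.1
  -- enlarge: handle m = 0
  rcases Nat.eq_zero_or_pos m with rfl | hm
  · -- Cyc 1 = ℚ
    have h1 : zet (2 ^ 0) = 1 := by
      have := (zet_prim (2 ^ 0)).pow_eq_one
      simpa using this
    obtain ⟨D, c, hc⟩ := int_rep z hz
    refine ⟨∑ i ∈ Finset.range D, c i, ?_, ?_⟩
    · have h2 : z = ((∑ i ∈ Finset.range D, c i : ℤ) : Cyc (2 ^ 0)) * ((1 : ℕ) : Cyc (2 ^ 0)) := by
        apply Subtype.ext
        rw [hc, h1]
        push_cast
        simp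
      rw [h2, av_int_mul, av_nat]
      push_cast; ring
    · rw [hc, h1]
      push_cast
      simp only [one_pow, mul_one, sub_self]
      exact ideal_zero
  · obtain ⟨d, hd⟩ := red_rep hm z hz
    set H := 2 ^ (m - 1) with hH
    have hHH : H + H = 2 ^ m := by
      rw [hH, ← mul_two, ← pow_succ, Nat.sub_add_cancel hm]
    have hHpos : 0 < H := by positivity
    have hζ : ∀ k, zet (2 ^ m) ^ k ∈ Cyc (2 ^ m) := fun k => pow_mem (zet_mem _) k
    have hroot : ∀ k, (zet (2 ^ m) ^ k) ^ 2 ^ m = 1 := by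
      intro k
      rw [← pow_mul, mul_comm, pow_mul, (zet_prim (2 ^ m)).pow_eq_one, one_pow]
    -- average of z ζ^k
    have hav : ∀ k : ℕ, av (z * ⟨zet (2 ^ m) ^ k, hζ k⟩) =
        ((∑ i ∈ Finset.range H, d i * eps (zet (2 ^ m) ^ (i + k)) : ℤ) : ℂ) := by
      intro k
      have h1 : z * ⟨zet (2 ^ m) ^ k, hζ k⟩ = ∑ i ∈ Finset.range H, ((d i : ℤ) : Cyc (2 ^ m)) *
          ⟨zet (2 ^ m) ^ (i + k), hζ (i + k)⟩ := by
        apply Subtype.ext
        push_cast
        rw [hd, Finset.sum_mul]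
        refine Finset.sum_congr rfl fun i _ => ?_
        rw [pow_add]; ring
      rw [h1, av_sum]
      push_cast
      refine Finset.sum_congr rfl fun i _ => ?_
      rw [av_int_mul, av_root ⟨m, rfl⟩ _ (hroot (i + k))]
    have h0 : av z = ((d 0 : ℤ) : ℂ) := by
      have h1 := hav 0
      have h2 : z * ⟨zet (2 ^ m) ^ 0, hζ 0⟩ = z := by
        apply Subtype.ext
        push_cast
        rw [pow_zero, mul_one]
      rw [h2] at h1
      rw [h1]
      congr 1
      rw [Finset.sum_eq_single_of_mem 0 (Finset.mem_range.2 hHpos)]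
      · rw [add_zero, pow_zero, eps_one, mul_one]
      · intro i hi hne
        rw [Finset.mem_range] at hi
        rw [eps_zet hm, add_zero, Nat.mod_eq_of_lt (by omega), if_neg hne, if_neg (by omega), mul_zero]
    -- symmetry of the coefficients
    have hsym : ∀ j, 1 ≤ j → j < H → d j = - d (H - j) := by
      intro j hj1 hj2
      have h1 := hav j
      have h2 := hav (2 ^ m - j)
      have h3 : av (z * ⟨zet (2 ^ m) ^ (2 ^ m - j), hζ _⟩) = conj (av (z * ⟨zet (2 ^ m) ^ j, hζ j⟩)) := by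
        refine av_conj ?_
        push_cast
        rw [map_mul, hr]
        congr 1
        have h4 : zet (2 ^ m) ^ (2 ^ m - j) * zet (2 ^ m) ^ j = 1 := by
          rw [← pow_add, Nat.sub_add_cancel (by omega), (zet_prim (2 ^ m)).pow_eq_one]
        have h5 : zet (2 ^ m) ^ j * conj (zet (2 ^ m) ^ j) = 1 := by
          have h6 : ‖zet (2 ^ m) ^ j‖ = 1 :=
            Complex.norm_eq_one_of_pow_eq_one (hroot j) (by positivity)
          rw [Complex.mul_conj, Complex.normSq_eq_norm_sq, h6]; simp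
        have h7 : zet (2 ^ m) ^ j ≠ 0 := left_ne_zero_of_mul_eq_one h5
        exact mul_right_cancel₀ h7 (by rw [h4, mul_comm, h5])
      rw [h1, h2] at h3
      rw [map_intCast] at h3
      have h4 : ∑ i ∈ Finset.range H, d i * eps (zet (2 ^ m) ^ (i + (2 ^ m - j))) =
          ∑ i ∈ Finset.range H, d i * eps (zet (2 ^ m) ^ (i + j)) := by exact_mod_cast h3
      have h5 : ∑ i ∈ Finset.range H, d i * eps (zet (2 ^ m) ^ (i + (2 ^ m - j))) = d j := by
        rw [Finset.sum_eq_single_of_mem j (Finset.mem_range.2 hj2)]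
        · rw [eps_zet hm]
          have : j + (2 ^ m - j) = 2 ^ m := by omega
          rw [this, Nat.mod_self, if_pos rfl, mul_one]
        · intro i hi hne
          rw [Finset.mem_range] at hi
          rw [eps_zet hm]
          have h6 : ¬ (i + (2 ^ m - j)) % 2 ^ m = 0 := by
            intro h
            obtain ⟨q, hq⟩ := Nat.dvd_of_mod_eq_zero h
            have hq1 : q < 2 := by
              by_contra hq1
              have : 2 ^ m * 2 ≤ 2 ^ m * q := Nat.mul_le_mul_left _ (by omega)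
              omega
            interval_cases q
            · omega
            · omega
          have h7 : ¬ (i + (2 ^ m - j)) % 2 ^ m = 2 ^ (m - 1) := by
            intro h
            rw [← hH] at h
            by_cases hlt : i + (2 ^ m - j) < 2 ^ m
            · rw [Nat.mod_eq_of_lt hlt] at h; omega
            · have h8 : (i + (2 ^ m - j)) % 2 ^ m = i + (2 ^ m - j) - 2 ^ m := by
                rw [Nat.mod_eq_sub_mod (by omega), Nat.mod_eq_of_lt (by omega)]
              rw [h8] at h; omega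
          rw [if_neg h6, if_neg h7, mul_zero]
      have h6 : ∑ i ∈ Finset.range H, d i * eps (zet (2 ^ m) ^ (i + j)) = - d (H - j) := by
        rw [Finset.sum_eq_single_of_mem (H - j) (Finset.mem_range.2 (by omega))]
        · rw [eps_zet hm]
          have : H - j + j = H := by omega
          rw [this, Nat.mod_eq_of_lt (by omega), if_neg (by omega), if_pos hH]
          ring
        · intro i hi hne
          rw [Finset.mem_range] at hi
          rw [eps_zet hm, Nat.mod_eq_of_lt (by omega), if_neg (by omega), if_neg (by omega), mul_zero]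
      rw [h5, h6] at h4
      exact h4
    refine ⟨d 0, h0, ?_⟩
    have hS : ∑ j ∈ Finset.Ico 1 H, d j = 0 := by
      have h1 : ∑ j ∈ Finset.Ico 1 H, d j = ∑ j ∈ Finset.Ico 1 H, - d j := by
        refine Finset.sum_nbij' (fun j => H - j) (fun j => H - j) ?_ ?_ ?_ ?_ ?_
        · intro j hj; rw [Finset.mem_Ico] at hj ⊢; omega
        · intro j hj; rw [Finset.mem_Ico] at hj ⊢; omega
        · intro j hj; rw [Finset.mem_Ico] at hj; show H - (H - j) = j; omega
        · intro j hj; rw [Finset.mem_Ico] at hj; show H - (H - j) = j; omega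
        · intro j hj; rw [Finset.mem_Ico] at hj; exact hsym j hj.1 hj.2
      rw [Finset.sum_neg_distrib] at h1
      omega
    have hsum : ∑ j ∈ Finset.range H, d j = d 0 := by
      rw [Finset.range_eq_Ico, Finset.sum_eq_sum_Ico_succ_bot hHpos, hS, add_zero]
    have h9 : (z : ℂ) - ((d 0 : ℤ) : ℂ) = ∑ j ∈ Finset.range H, (d j : ℂ) * (zet (2 ^ m) ^ j - 1) := by
      rw [← hsum, hd]
      push_cast
      rw [← Finset.sum_sub_distrib]
      refine Finset.sum_congr rfl fun i _ => ?_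
      ring
    rw [h9]
    exact ideal_sum _ _ fun j _ => ideal_mul_left (ring_intCast _) (root_sub_one_mem hM (k := m) (hroot j))

end Cfsg.Agent.H25.Sub6
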