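import Cfsg.Agent.H25_STl
import Cfsg.Agent.H25_Sub6

/-! Integrality in cyclotomic fields of prime power order. -/

set_option autoImplicit false
set_option linter.unusedSectionVars false

open scoped ComplexConjugate

namespace Cfsg.Agent.H25.STm

open Cfsg Cfsg.Agent.H3 Cfsg.Agent.H3.CharBasic Cfsg.Agent.H3.CharIrr Cfsg.Agent.H3.CharComplete
  Cfsg.Agent.H3.CharGal Cfsg.Agent.H10.BlockLoc

variable {p : ℕ} [hp : Fact p.Prime] {M : Ideal AlgInt}

/-- `ℤ[ζ]` -/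
noncomputable def OO (p m : ℕ) : Subalgebra ℤ ℂ := Algebra.adjoin ℤ ({zet (p ^ m)} : Set ℂ)

instance nz (m : ℕ) : NeZero (p ^ m) := ⟨(pow_pos hp.out.pos m).ne'⟩

theorem zet_OO (m : ℕ) : zet (p ^ m) ∈ OO p m := Algebra.subset_adjoin (Set.mem_singleton _)

theorem OO_int {m : ℕ} {z : ℂ} (h : z ∈ OO p m) : IsIntegral ℤ z := by
  have h1 : OO p m ≤ integralClosure ℤ ℂ := by
    apply Algebra.adjoin_le
    rintro _ rfl
    exact (zet_prim (p ^ m)).isIntegral (pow_pos hp.out.pos m)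
  exact h1 h

theorem mem_OO_iff {m : ℕ} {z : ℂ} : z ∈ OO p m ↔ ∃ P : Polynomial ℤ, Polynomial.aeval (zet (p ^ m)) P = z := by
  unfold OO
  rw [Algebra.adjoin_singleton_eq_range_aeval]
  rfl

theorem int_OO {m : ℕ} {z : ℂ} (hz : z ∈ Cyc (p ^ m)) (hi : IsIntegral ℤ z) : z ∈ OO p m := by
  let ζ : Cyc (p ^ m) := ⟨zet (p ^ m), zet_mem _⟩
  have hζ : IsPrimitiveRoot ζ (p ^ m) :=
    (IsPrimitiveRoot.coe_submonoidClass_iff (N := Cyc (p ^ m)) (ζ := ζ)).mp (zet_prim (p ^ m))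
  have h1 := IsCyclotomicExtension.Rat.isIntegralClosure_adjoin_singleton_of_prime_pow (p := p)
    (k := m) (K := Cyc (p ^ m)) hζ
  have hzi : IsIntegral ℤ (⟨z, hz⟩ : Cyc (p ^ m)) :=
    (isIntegral_algebraMap_iff (R := ℤ) (A := Cyc (p ^ m)) (B := ℂ) (x := ⟨z, hz⟩)
      (algebraMap (Cyc (p ^ m)) ℂ).injective).mp hi
  obtain ⟨y, hy⟩ := h1.isIntegral_iff.1 hzi
  have hy2 : (⟨z, hz⟩ : Cyc (p ^ m)) ∈ Algebra.adjoin ℤ ({ζ} : Set (Cyc (p ^ m))) := by rw [← hy]; exact y.2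
  rw [Algebra.adjoin_singleton_eq_range_aeval] at hy2
  obtain ⟨P, hP⟩ := hy2
  rw [mem_OO_iff]
  refine ⟨P, ?_⟩
  have h2 := congrArg (algebraMap (Cyc (p ^ m)) ℂ) hP
  have h3 : Polynomial.aeval (algebraMap (Cyc (p ^ m)) ℂ ζ) P = algebraMap (Cyc (p ^ m)) ℂ (Polynomial.aeval ζ P) :=
    Polynomial.aeval_algebraMap_apply ℂ ζ P
  have h4 : algebraMap (Cyc (p ^ m)) ℂ ζ = zet (p ^ m) := rfl
  rw [← h4, h3]
  exact h2

theorem OO_rep {m : ℕ} {a : ℂ} (ha : a ∈ OO p m) : ∃ n : ℤ, ∃ w ∈ OO p m, a = n + (zet (p ^ m) - 1) * w := by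
  obtain ⟨P, rfl⟩ := mem_OO_iff.1 ha
  obtain ⟨Q, hQ⟩ := Polynomial.X_sub_C_dvd_sub_C_eval (a := (1 : ℤ)) (p := P)
  refine ⟨P.eval 1, Polynomial.aeval (zet (p ^ m)) Q, mem_OO_iff.2 ⟨Q, rfl⟩, ?_⟩
  have h1 := congrArg (Polynomial.aeval (zet (p ^ m))) hQ
  rw [map_sub, map_mul, map_sub, Polynomial.aeval_X, Polynomial.aeval_C, Polynomial.aeval_C] at h1
  have h2 : (algebraMap ℤ ℂ) 1 = 1 := map_one _
  have h3 : (algebraMap ℤ ℂ) (P.eval 1) = ((P.eval 1 : ℤ) : ℂ) := rfl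
  rw [h2, h3] at h1
  linear_combination h1

theorem p_div {m : ℕ} : ∃ w ∈ OO p (m + 1), (p : ℂ) = (zet (p ^ (m + 1)) - 1) * w := by
  obtain ⟨Q, hQ⟩ := Polynomial.X_sub_C_dvd_sub_C_eval (a := (1 : ℤ)) (p := Polynomial.cyclotomic (p ^ (m + 1)) ℤ)
  rw [Polynomial.eval_one_cyclotomic_prime_pow] at hQ
  have h0 : Polynomial.aeval (zet (p ^ (m + 1))) (Polynomial.cyclotomic (p ^ (m + 1)) ℤ) = 0 := by
    rw [Polynomial.aeval_def, Polynomial.eval₂_eq_eval_map, Polynomial.map_cyclotomic]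
    exact (zet_prim (p ^ (m + 1))).isRoot_cyclotomic (pow_pos hp.out.pos _)
  have h1 := congrArg (Polynomial.aeval (zet (p ^ (m + 1)))) hQ
  rw [map_sub, h0, map_mul, map_sub, Polynomial.aeval_X, Polynomial.aeval_C, Polynomial.aeval_C] at h1
  refine ⟨- Polynomial.aeval (zet (p ^ (m + 1))) Q, (OO p (m + 1)).neg_mem (mem_OO_iff.2 ⟨Q, rfl⟩), ?_⟩
  have h2 : (algebraMap ℤ ℂ) 1 = 1 := map_one _
  have h3 : (algebraMap ℤ ℂ) ((p : ℕ) : ℤ) = (p : ℂ) := by simp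
  rw [h2] at h1
  have h4 : (algebraMap ℤ ℂ) (p : ℤ) = (p : ℂ) := h3
  rw [h4] at h1
  linear_combination -h1

theorem pow_div {m : ℕ} : ∃ w ∈ OO p m, (zet (p ^ m) - 1) ^ (p ^ m) = (p : ℂ) * w := by
  let ζ : OO p m := ⟨zet (p ^ m), zet_OO m⟩
  obtain ⟨r, hr⟩ := exists_add_pow_prime_pow_eq hp.out (ζ - 1) 1 m
  have h1 : ζ ^ (p ^ m) = 1 := by
    apply Subtype.ext
    exact (zet_prim (p ^ m)).pow_eq_one
  rw [sub_add_cancel, h1, one_pow] at hr
  refine ⟨-(((ζ - 1) * r : OO p m) : ℂ), (OO p m).neg_mem ((ζ - 1) * r).2, ?_⟩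
  have h2 := congrArg (Subtype.val) hr
  push_cast at h2
  show (((ζ - 1 : OO p m) : ℂ)) ^ (p ^ m) = _
  push_cast
  linear_combination -h2

theorem zet_ne {m : ℕ} : zet (p ^ (m + 1)) - 1 ≠ 0 := by
  intro h
  have h1 := sub_eq_zero.1 h
  have h2 := (zet_prim (p ^ (m + 1))).pow_eq_one_iff_dvd 1
  rw [h1, one_pow] at h2
  have h3 := Nat.dvd_one.1 (h2.1 rfl)
  have h4 : 1 < p ^ (m + 1) := Nat.one_lt_pow (by omega) hp.out.one_lt
  omega

theorem lemV_aux (hM : IsPModular p M) {m : ℕ} : ∀ (k : ℕ) (a : ℂ), a ∈ OO p (m + 1) →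
    MemLocalRing M (a / (zet (p ^ (m + 1)) - 1) ^ k) → a / (zet (p ^ (m + 1)) - 1) ^ k ∈ OO p (m + 1) := by
  haveI := hM.2.1
  have hMt : M ≠ ⊤ := this.ne_top
  set π := zet (p ^ (m + 1)) - 1 with hπ
  have hπ0 : π ≠ 0 := zet_ne
  have hπO : π ∈ OO p (m + 1) := (OO p (m + 1)).sub_mem (zet_OO _) (OO p (m + 1)).one_mem
  have hπM : MemLocalIdeal M π := by
    obtain ⟨w, hw, h⟩ := pow_div (p := p) (m := m + 1)
    have h1 : MemLocalIdeal M (π ^ (p ^ (m + 1))) := by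
      rw [h]
      exact ideal_mul_right ((ideal_natCast_iff hM p).2 dvd_rfl) (memLocalRing_of_integral hMt (OO_int hw))
    have h2 : ∀ n : ℕ, MemLocalIdeal M (π ^ n) → MemLocalIdeal M π := by
      intro n
      induction n with
      | zero => intro h; rw [pow_zero] at h; exact absurd h one_notMem_ideal
      | succ n ih =>
        intro h
        rw [pow_succ] at h
        have hr : MemLocalRing M π := memLocalRing_of_integral hMt (OO_int hπO)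
        rcases ideal_of_mul (ring_pow hr n) hr h with h | h
        · exact ih h
        · exact h
    exact h2 _ h1
  intro k
  induction k with
  | zero => intro a ha _; rwa [pow_zero, div_one]
  | succ k ih =>
    intro a ha hr
    obtain ⟨n, w, hw, he⟩ := OO_rep ha
    have h1 : MemLocalIdeal M a := by
      have e : a = π * (π ^ k * (a / π ^ (k + 1))) := by
        rw [← mul_assoc, ← pow_succ', mul_div_cancel₀]
        exact pow_ne_zero _ hπ0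
      rw [e]
      exact ideal_mul_right hπM (ring_mul (ring_pow (memLocalRing_of_memLocalIdeal hπM) k) hr)
    have h2 : MemLocalIdeal M (n : ℂ) := by
      have e : (n : ℂ) = a - π * w := by rw [he]; ring
      rw [e]
      exact ideal_sub h1 (ideal_mul_right hπM (memLocalRing_of_integral hMt (OO_int hw)))
    obtain ⟨n', hn'⟩ := (ideal_intCast_iff hM n).1 h2
    obtain ⟨v, hv, hpv⟩ := p_div (p := p) (m := m)
    have h3 : a / π = n' * v + w := by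
      rw [he, hn', div_eq_iff hπ0]
      push_cast
      rw [hpv, ← hπ]
      ring
    have h4 : a / π ∈ OO p (m + 1) := by
      rw [h3]
      exact (OO p (m + 1)).add_mem ((OO p (m + 1)).mul_mem ((OO p (m + 1)).intCast_mem n') hv) hw
    have h5 : a / π ^ (k + 1) = a / π / π ^ k := by rw [div_div, ← pow_succ']
    rw [h5] at hr ⊢
    exact ih _ h4 hr

theorem Cyc_mono {m n : ℕ} [NeZero n] [NeZero m] (h : m ∣ n) : Cyc m ≤ Cyc n := by
  apply IntermediateField.adjoin_le_iff.2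
  rintro _ rfl
  apply root_mem
  obtain ⟨k, rfl⟩ := h
  rw [pow_mul, (zet_prim m).pow_eq_one, one_pow]

theorem lemV (hM : IsPModular p M) {m : ℕ} {z : ℂ} (hz : z ∈ Cyc (p ^ m)) (hr : MemLocalRing M z) {N : ℕ}
    (hN : IsIntegral ℤ ((p : ℂ) ^ N * z)) : IsIntegral ℤ z := by
  have hz' : z ∈ Cyc (p ^ (m + 1)) := Cyc_mono (pow_dvd_pow p (Nat.le_succ m)) hz
  obtain ⟨w, hw, h⟩ := pow_div (p := p) (m := m + 1)
  set π := zet (p ^ (m + 1)) - 1 with hπ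
  have hπ0 : π ≠ 0 := zet_ne
  have h1 : (p : ℂ) ^ N * z ∈ OO p (m + 1) := by
    apply int_OO _ hN
    exact mul_mem (pow_mem (natCast_mem _ p) N) hz'
  have h2 : π ^ (p ^ (m + 1) * N) * z ∈ OO p (m + 1) := by
    rw [pow_mul, h, mul_pow, mul_comm ((p : ℂ) ^ N), mul_assoc]
    exact (OO p (m + 1)).mul_mem ((OO p (m + 1)).pow_mem hw N) h1
  have h3 : z = π ^ (p ^ (m + 1) * N) * z / π ^ (p ^ (m + 1) * N) := by
    rw [mul_div_cancel_left₀]
    exact pow_ne_zero _ hπ0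
  have h4 := lemV_aux hM (m := m) (p ^ (m + 1) * N) _ h2 (by rw [← hπ, ← h3]; exact hr)
  rw [← hπ, ← h3] at h4
  exact OO_int h4

end Cfsg.Agent.H25.STm
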