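import Cfsg.Agent.H25_STm

/-! Coefficients of `η ∗ χ`; linear `η`. -/

set_option autoImplicit false
set_option linter.unusedSectionVars false

open scoped ComplexConjugate

namespace Cfsg.Agent.H25.STn

open Cfsg Cfsg.Agent.H3 Cfsg.Agent.H3.CharBasic Cfsg.Agent.H3.CharIrr Cfsg.Agent.H3.CharComplete
  Cfsg.Agent.H3.CharGal
  Cfsg.Agent.H25.Brauer Cfsg.Agent.H10.BlockTrace Cfsg.Agent.H25.BrauerP
  Cfsg.Agent.H10.Char Cfsg.Agent.H10.BlockLoc Cfsg.Agent.H10.BlockAlg Cfsg.Agent.H10.BlockIdem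
  Cfsg.Agent.H10.BlockOrth Cfsg.Agent.H10.BlockHZ
  Cfsg.Agent.H10.BlockSMT Cfsg.Agent.H10.BlockSMT2 Cfsg.Agent.H10.PPart Cfsg.Agent.H10.BlockPrin
  Cfsg.Agent.H25.STa Cfsg.Agent.H25.STb Cfsg.Agent.H25.STc Cfsg.Agent.H25.STd
  Cfsg.Agent.H25.STe Cfsg.Agent.H25.STf Cfsg.Agent.H25.STg Cfsg.Agent.H25.STh Cfsg.Agent.H25.STi
  Cfsg.Agent.H25.STj Cfsg.Agent.H25.STk Cfsg.Agent.H25.STl Cfsg.Agent.H25.STm
  Cfsg.Agent.H25.KG Cfsg.Agent.H25.Red Cfsg.Agent.H25.BPTr Cfsg.Agent.H25.BPMain Cfsg.Agent.H25.Fus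
  Cfsg.Agent.H25.AbSec Cfsg.Agent.H25.Sub Cfsg.Agent.H25.Sub2 Cfsg.Agent.H25.Sub3 Cfsg.Agent.H25.Sub5
  Cfsg.Agent.H25.Avg

/-- complex numbers in `Cyc (p^m)` with `p`-power denominators -/
noncomputable def Rp (p m : ℕ) : Subring ℂ where
  carrier := {z | z ∈ Cyc (p ^ m) ∧ ∃ N : ℕ, IsIntegral ℤ ((p : ℂ) ^ N * z)}
  mul_mem' := by
    rintro a b ⟨h1, N, hN⟩ ⟨h2, N', hN'⟩
    refine ⟨mul_mem h1 h2, N + N', ?_⟩
    have : (p : ℂ) ^ (N + N') * (a * b) = ((p : ℂ) ^ N * a) * ((p : ℂ) ^ N' * b) := by ring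
    rw [this]; exact hN.mul hN'
  one_mem' := ⟨one_mem _, 0, by simpa using isIntegral_one⟩
  add_mem' := by
    rintro a b ⟨h1, N, hN⟩ ⟨h2, N', hN'⟩
    refine ⟨add_mem h1 h2, N + N', ?_⟩
    have : (p : ℂ) ^ (N + N') * (a + b) = (p : ℂ) ^ N' * ((p : ℂ) ^ N * a) + (p : ℂ) ^ N * ((p : ℂ) ^ N' * b) := by ring
    rw [this]
    have hp : ∀ k : ℕ, IsIntegral ℤ ((p : ℂ) ^ k) := fun k => by
      have : IsIntegral ℤ ((p : ℕ) : ℂ) := isIntegral_algebraMap (R := ℤ) (A := ℂ) (x := (p : ℤ))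
      exact this.pow k
    exact ((hp _).mul hN).add ((hp _).mul hN')
  zero_mem' := ⟨zero_mem _, 0, by simpa using isIntegral_zero⟩
  neg_mem' := by
    rintro a ⟨h1, N, hN⟩
    refine ⟨neg_mem h1, N, ?_⟩
    have : (p : ℂ) ^ N * (-a) = -((p : ℂ) ^ N * a) := by ring
    rw [this]; exact hN.neg

theorem mem_Rp {p m : ℕ} {z : ℂ} : z ∈ Rp p m ↔ z ∈ Cyc (p ^ m) ∧ ∃ N : ℕ, IsIntegral ℤ ((p : ℂ) ^ N * z) := Iff.rfl

theorem int_Rp {p m : ℕ} {z : ℂ} (h1 : z ∈ Cyc (p ^ m)) (h2 : IsIntegral ℤ z) : z ∈ Rp p m :=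
  ⟨h1, 0, by simpa using h2⟩

theorem inv_Rp {p m : ℕ} (hp : p.Prime) (d : ℕ) : ((p ^ d : ℕ) : ℂ)⁻¹ ∈ Rp p m := by
  refine ⟨inv_mem (natCast_mem _ _), d, ?_⟩
  have h0 : (p : ℂ) ≠ 0 := by exact_mod_cast hp.ne_zero
  push_cast
  rw [mul_inv_cancel₀ (pow_ne_zero _ h0)]
  exact isIntegral_one

variable {p : ℕ} {M : Ideal AlgInt} {G : Type*} [Group G] [Fintype G] [hMax : M.IsMaximal]
  [hp : Fact p.Prime] [hch : CharP (KM M) p] {P : Subgroup G} {E : MonoidAlgebra (KM M) G}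

theorem cc_Cyc {η : G → ℂ} (hη : Stab p P E η) {m : ℕ} (hv : ∀ u ∈ P, η u ∈ Cyc (p ^ m)) (u : G)
    (f : MonoidAlgebra (KM M) G) : cc p P E η u f ∈ Cyc (p ^ m) := by
  by_cases h : ∃ x, LE p (Subgroup.zpowers (x * u * x⁻¹)) (KG.cnj x f) P E
  · obtain ⟨x, hx⟩ := h
    rw [cc_eq hη hx]
    exact hv _ (Subgroup.zpowers_le.1 hx.le)
  · rw [cc_zero h]; exact zero_mem _

open Classical in
theorem inner_section (hM : IsPModular p M) {η : G → ℂ} {χ ψ : IrrCharacter G} {u : G}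
    (hu : ∃ k : ℕ, orderOf u = p ^ k) [Fintype (Subgroup.centralizer ({u} : Set G))]
    [Fintype (IrrCharacter G)] [Fintype (IrrCharacter (Subgroup.centralizer ({u} : Set G)))] :
    ∑ g ∈ Finset.univ.filter (fun g : G => IsPPart p g u), st p P E η (χ : G → ℂ) g * conj ((ψ : G → ℂ) g) =
      (Nat.card (Subgroup.centralizer ({u} : Set G)) : ℂ) * ∑ b ∈ blocks (Subgroup.centralizer ({u} : Set G)) M,
        cc p P E η u (ep M (Subgroup.centralizer ({u} : Set G)) b) * mm p u b χ ψ := by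
  rw [section_sum hu, Finset.mul_sum]
  have e3 : ∀ y : Subgroup.centralizer ({u} : Set G), (if p ∣ orderOf y then 0 else
      st p P E η (χ : G → ℂ) (u * y) * conj ((ψ : G → ℂ) (u * y))) = ∑ b ∈ blocks (Subgroup.centralizer ({u} : Set G)) M,
      cc p P E η u (ep M (Subgroup.centralizer ({u} : Set G)) b) * (if p ∣ orderOf y then 0 else bp u b (χ : G → ℂ) y * conj ((ψ : G → ℂ) (u * y))) := by
    intro y
    split_ifs with hy
    · simp
    · rw [st_eq η (IsIrr.isClass χ.2) hu y hy, Finset.sum_mul]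
      exact Finset.sum_congr rfl fun b _ => by ring
  rw [Finset.sum_congr rfl fun y _ => e3 y, Finset.sum_comm]
  refine Finset.sum_congr rfl fun b hb => ?_
  rw [← Finset.mul_sum, bp_adj hM (mem_blocks.1 hb)]
  ring

theorem coef_Rp (hM : IsPModular p M) {η : G → ℂ} (hη : Stab p P E η) (hi : ∀ u ∈ P, IsIntegral ℤ (η u))
    {m : ℕ} (hv : ∀ u ∈ P, η u ∈ Cyc (p ^ m)) (hm : ∀ u : G, (∃ k : ℕ, orderOf u = p ^ k) → orderOf u ∣ p ^ m)
    (χ ψ : IrrCharacter G) : classInner (st p P E η (χ : G → ℂ)) (ψ : G → ℂ) ∈ Rp p m := by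
  classical
  haveI : Fintype (IrrCharacter G) := Fintype.ofFinite _
  have hcl : IsClassFunction G (fun x => st p P E η (χ : G → ℂ) x * conj ((ψ : G → ℂ) x)) := by
    intro a x
    show st p P E η (χ : G → ℂ) _ * conj ((ψ : G → ℂ) _) = _
    rw [zz_class hη (IsIrr.isClass χ.2), IsIrr.isClass ψ.2]
  have hrep : ∀ g : G, (∃ k : ℕ, orderOf g = p ^ k) → ∃! x, x ∈ AbSec2.reps (G := G) p ∧ IsConj g x :=
    AbSec2.reps_unique (p := p)
  unfold classInner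
  rw [sum_sections (p := p) hcl hrep, Finset.mul_sum]
  refine (Rp p m).sum_mem fun u hu => ?_
  have hu' := AbSec2.reps_p p hu
  haveI : Fintype (Subgroup.centralizer ({u} : Set G)) := Fintype.ofFinite _
  haveI : Fintype (IrrCharacter (Subgroup.centralizer ({u} : Set G))) := Fintype.ofFinite _
  rw [inner_section hM hu']
  have h1 : (Nat.card G : ℂ)⁻¹ * (((Subgroup.centralizer ({u} : Set G)).index : ℂ) *
      ((Nat.card (Subgroup.centralizer ({u} : Set G)) : ℂ) * ∑ b ∈ blocks (Subgroup.centralizer ({u} : Set G)) M,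
        cc p P E η u (ep M (Subgroup.centralizer ({u} : Set G)) b) * mm p u b χ ψ)) =
      ∑ b ∈ blocks (Subgroup.centralizer ({u} : Set G)) M,
        cc p P E η u (ep M (Subgroup.centralizer ({u} : Set G)) b) * mm p u b χ ψ := by
    have h2 : (Nat.card G : ℂ) = ((Subgroup.centralizer ({u} : Set G)).index : ℂ) *
      (Nat.card (Subgroup.centralizer ({u} : Set G)) : ℂ) := by
      rw [← (Subgroup.centralizer ({u} : Set G)).index_mul_card]; push_cast; rfl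
    have h3 : (Nat.card G : ℂ) ≠ 0 := by
      have : 0 < Nat.card G := Nat.card_pos
      exact_mod_cast this.ne'
    rw [← mul_assoc ((Subgroup.centralizer ({u} : Set G)).index : ℂ), ← h2, ← mul_assoc, inv_mul_cancel₀ h3, one_mul]
  rw [h1]
  refine (Rp p m).sum_mem fun b hb => (Rp p m).mul_mem (int_Rp (cc_Cyc hη hv u _) (cc_int hη hi u _)) ?_
  have h4 : mm p u b χ ψ = NN p u b χ ψ * ((p ^ blockDefect p b : ℕ) : ℂ)⁻¹ := by
    unfold NN
    have : ((p ^ blockDefect p b : ℕ) : ℂ) ≠ 0 := by exact_mod_cast (pow_pos hp.out.pos _).ne'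
    field_simp
  rw [h4]
  refine (Rp p m).mul_mem (int_Rp ?_ (NN_integral b χ ψ)) (inv_Rp hp.out _)
  haveI : NeZero (orderOf u) := ⟨(orderOf_pos u).ne'⟩
  exact Cyc_mono (hm u hu') (NN_mem b χ ψ)

theorem coef_int (hM : IsPModular p M) {B : MonoidAlgebra (KM M) G} (hP : BP p B P E) (htop : KG.Top p P E)
    {η : G → ℂ} (hη : Stab p P E η) (hg : GC P η)
    {m : ℕ} (hv : ∀ u ∈ P, η u ∈ Cyc (p ^ m)) (hm : ∀ u : G, (∃ k : ℕ, orderOf u = p ^ k) → orderOf u ∣ p ^ m)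
    (χ ψ : IrrCharacter G) : IsIntegral ℤ (classInner (st p P E η (χ : G → ℂ)) (ψ : G → ℂ)) := by
  obtain ⟨h1, N, hN⟩ := coef_Rp hM hη (fun u hu => hg.int' hu) hv hm χ ψ
  exact lemV hM h1 (main_int hM (fsys hP htop hη hg) χ ψ) hN

theorem conj_Cyc {n : ℕ} [NeZero n] {z : ℂ} (hz : z ∈ Cyc n) : conj z ∈ Cyc n := by
  have hx : z ∈ IntermediateField.adjoin ℚ {zet n} := hz
  refine IntermediateField.adjoin_induction ℚ
    (p := fun z _ => conj z ∈ Cyc n) ?_ ?_ ?_ ?_ ?_ hx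
  · intro z hz
    rw [Set.mem_singleton_iff.1 hz]
    refine root_mem (n := n) ?_
    rw [← map_pow, (zet_prim n).pow_eq_one, map_one]
  · intro q
    have : conj ((algebraMap ℚ ℂ) q) = (algebraMap ℚ ℂ) q := by simp
    rw [this]
    exact algebraMap_mem _ q
  · intro a b _ _ ha hb
    rw [map_add]; exact add_mem ha hb
  · intro a _ ha
    rw [map_inv₀]; exact inv_mem ha
  · intro a b _ _ ha hb
    rw [map_mul]; exact mul_mem ha hb

/-- a unit vector of cyclotomic integers has a single non-zero coordinate -/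
theorem unit_vec {n : ℕ} [NeZero n] {I : Type*} [Fintype I] (z : I → ℂ) (hz : ∀ i, z i ∈ Cyc n)
    (hi : ∀ i, IsIntegral ℤ (z i)) (h1 : ∑ i, z i * conj (z i) = 1) :
    ∃ i, z i ≠ 0 ∧ ∀ j, j ≠ i → z j = 0 := by
  classical
  let zc : I → Cyc n := fun i => ⟨z i, hz i⟩
  let zc' : I → Cyc n := fun i => ⟨conj (z i), conj_Cyc (hz i)⟩
  have h2 : ∑ i, zc i * zc' i = 1 := by
    apply Subtype.ext
    push_cast
    exact h1
  have h3 : ∀ σ : Gm n, ∑ i, ‖(σ (zc i) : ℂ)‖ ^ 2 = (1 : ℝ) := by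
    intro σ
    have h4 := congrArg (fun x : Cyc n => ((σ x : Cyc n) : ℂ)) h2
    simp only [map_sum, map_mul, map_one] at h4
    push_cast at h4
    have h5 : ∀ i, (σ (zc' i) : ℂ) = conj (σ (zc i) : ℂ) := fun i => conj_gal σ (zc i) (zc' i) rfl
    simp only [h5, Complex.mul_conj] at h4
    have h6 : ((∑ i, ‖(σ (zc i) : ℂ)‖ ^ 2 : ℝ) : ℂ) = 1 := by
      rw [← h4]
      push_cast
      refine Finset.sum_congr rfl fun i _ => ?_
      rw [Complex.normSq_eq_norm_sq]; push_cast; rfl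
    exact_mod_cast h6
  have h7 : ∑ i, ∑ σ : Gm n, ‖(σ (zc i) : ℂ)‖ ^ 2 = (Fintype.card (Gm n) : ℝ) := by
    rw [Finset.sum_comm, Finset.sum_congr rfl fun σ _ => h3 σ]
    simp
  have hpos : (0 : ℝ) < Fintype.card (Gm n) := by
    have : 0 < Fintype.card (Gm n) := Fintype.card_pos
    exact_mod_cast this
  have hex : ∃ i, z i ≠ 0 := by
    by_contra hcon
    push Not at hcon
    rw [Finset.sum_eq_zero (fun i _ => by rw [hcon i, zero_mul])] at h1
    exact zero_ne_one h1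
  obtain ⟨i, hi0⟩ := hex
  refine ⟨i, hi0, fun j hj => ?_⟩
  by_contra hj0
  have e1 : zc i ≠ 0 := fun h => hi0 (congrArg Subtype.val h)
  have e2 : zc j ≠ 0 := fun h => hj0 (congrArg Subtype.val h)
  have n1 := norm_avg e1 (hi i)
  have n2 := norm_avg e2 (hi j)
  have n3 : ∑ σ : Gm n, ‖(σ (zc i) : ℂ)‖ ^ 2 + ∑ σ : Gm n, ‖(σ (zc j) : ℂ)‖ ^ 2 ≤ ∑ i, ∑ σ : Gm n, ‖(σ (zc i) : ℂ)‖ ^ 2 := by
    have hsub : ({i, j} : Finset I) ⊆ Finset.univ := Finset.subset_univ _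
    have := Finset.sum_le_sum_of_subset_of_nonneg (f := fun i => ∑ σ : Gm n, ‖(σ (zc i) : ℂ)‖ ^ 2) hsub
      (fun k _ _ => Finset.sum_nonneg fun σ _ => by positivity)
    rwa [Finset.sum_pair hj.symm] at this
  linarith

variable {B : Set (IrrCharacter G)}

/-- values at `p`-regular elements -/
theorem st_reg (hM : IsPModular p M) (hB : IsPBlock M B) (hP : BP p (epG M B) P E) (htop : KG.Top p P E)
    {η : G → ℂ} (hη : Stab p P E η) {χ : IrrCharacter G} (hχ : χ ∈ B) {y : G} (hy : ¬ p ∣ orderOf y) :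
    st p P E η (χ : G → ℂ) y = η 1 * (χ : G → ℂ) y := by
  haveI : Fintype (Subgroup.centralizer ({(1 : G)} : Set G)) := Fintype.ofFinite _
  have hu : ∃ k : ℕ, orderOf (1 : G) = p ^ k := ⟨0, by simp⟩
  have hyc : y ∈ Subgroup.centralizer ({(1 : G)} : Set G) := by
    rw [Subgroup.mem_centralizer_singleton_iff]; simp
  have hy' : ¬ p ∣ orderOf (⟨y, hyc⟩ : Subgroup.centralizer ({(1 : G)} : Set G)) := by rwa [Subgroup.orderOf_mk]
  have h1 := st_eq (p := p) (P := P) (E := E) η (IsIrr.isClass χ.2) hu ⟨y, hyc⟩ hy'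
  have h2 := st_eq (p := p) (P := P) (E := E) (fun _ => 1) (IsIrr.isClass χ.2) hu ⟨y, hyc⟩ hy'
  rw [st_one hM hB hP htop hχ] at h2
  simp only [one_mul] at h1 h2
  rw [h1, h2, Finset.mul_sum]
  refine Finset.sum_congr rfl fun b hb => ?_
  rw [← mul_assoc]
  congr 1
  by_cases h : ∃ x, LE p (Subgroup.zpowers (x * 1 * x⁻¹)) (KG.cnj x (ep M (Subgroup.centralizer ({(1 : G)} : Set G)) b)) P E
  · obtain ⟨x, hx⟩ := h
    rw [cc_eq hη hx, cc_eq stab_one hx, mul_one]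
    congr 1
    group
  · rw [cc_zero h, cc_zero h, mul_zero]

theorem norm_one (hM : IsPModular p M) (hB : IsPBlock M B) (hP : BP p (epG M B) P E) (htop : KG.Top p P E)
    {η : G → ℂ} (hη : Stab p P E η) (hn : ∀ u ∈ P, conj (η u) * η u = 1)
    {χ : IrrCharacter G} (hχ : χ ∈ B) :
    classInner (st p P E η (χ : G → ℂ)) (st p P E η (χ : G → ℂ)) = 1 := by
  have hcl := IsIrr.isClass χ.2
  rw [st_adj hM hη hcl (zz_class hη hcl), st_st hM hη (stab_conj hη) hcl]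
  have h1 : st p P E (fun g => conj (η g) * η g) (χ : G → ℂ) = st p P E (fun _ => 1) (χ : G → ℂ) := by
    unfold st zz'
    congr 1
    funext u
    exact Finset.sum_congr rfl fun f _ => by rw [cc_congr (η' := fun _ => 1) (fun u hu => hn u hu)]
  classical
  rw [h1, st_one hM hB hP htop hχ, ci_irr χ.2 χ.2, if_pos rfl]

theorem st_lin (hM : IsPModular p M) (hB : IsPBlock M B) (hP : BP p (epG M B) P E) (htop : KG.Top p P E)
    {η : G → ℂ} (hη : Stab p P E η) (hg : GC P η) (hn : ∀ u ∈ P, conj (η u) * η u = 1) (h1 : η 1 = 1)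
    {m : ℕ} (hv : ∀ u ∈ P, η u ∈ Cyc (p ^ m)) (hm : ∀ u : G, (∃ k : ℕ, orderOf u = p ^ k) → orderOf u ∣ p ^ m)
    {χ : IrrCharacter G} (hχ : χ ∈ B) :
    ∃ ψ : IrrCharacter G, ψ ∈ B ∧ st p P E η (χ : G → ℂ) = (ψ : G → ℂ) ∧ (ψ : G → ℂ) 1 = (χ : G → ℂ) 1 := by
  classical
  haveI : Fintype (IrrCharacter G) := Fintype.ofFinite _
  have hcl := zz_class hη (IsIrr.isClass χ.2)
  have e1 := norm_one hM hB hP htop hη hn hχ
  rw [ci_eq_sum _ _ hcl] at e1
  obtain ⟨ψ, hψ0, hψ⟩ := unit_vec (n := p ^ m) (fun ψ : IrrCharacter G => classInner (st p P E η (χ : G → ℂ)) (ψ : G → ℂ))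
    (fun ψ => (coef_Rp hM hη (fun u hu => hg.int' hu) hv hm χ ψ).1)
    (fun ψ => coef_int hM hP htop hη hg hv hm χ ψ) e1
  have hψB : ψ ∈ B := by
    by_contra hcon
    apply hψ0
    show classInner (st p P E η (χ : G → ℂ)) (ψ : G → ℂ) = 0
    rw [st_adj hM hη (IsIrr.isClass χ.2) (IsIrr.isClass ψ.2), st_notMem hM hB hP htop _ hcon, ci_zero_right]
  set c := classInner (st p P E η (χ : G → ℂ)) (ψ : G → ℂ) with hc
  have e2 : st p P E η (χ : G → ℂ) = c • (ψ : G → ℂ) := by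
    rw [expand _ hcl, Finset.sum_eq_single_of_mem ψ (Finset.mem_univ _)]
    intro j _ hj
    rw [hψ j hj, zero_smul]
  rw [Finset.sum_eq_single_of_mem ψ (Finset.mem_univ _) (fun j _ hj => by
    rw [show classInner (st p P E η (χ : G → ℂ)) (j : G → ℂ) = 0 from hψ j hj, zero_mul])] at e1
  have e3 : c * (ψ : G → ℂ) 1 = (χ : G → ℂ) 1 := by
    have := congrFun e2 1
    rw [Pi.smul_apply, smul_eq_mul] at this
    rw [← this, st_reg hM hB hP htop hη hχ (by rw [orderOf_one]; exact hp.out.one_lt.ne' ∘ Nat.dvd_one.1), h1, one_mul]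
  have ha : ((charDegree (χ : G → ℂ) : ℝ) : ℂ) = (χ : G → ℂ) 1 := by
    rw [← charDegree_eq χ.2]; push_cast; rfl
  have hb : ((charDegree (ψ : G → ℂ) : ℝ) : ℂ) = (ψ : G → ℂ) 1 := by
    rw [← charDegree_eq ψ.2]; push_cast; rfl
  have ha0 : (0 : ℝ) < charDegree (χ : G → ℂ) := by exact_mod_cast charDegree_pos χ.2
  have hb0 : (0 : ℝ) < charDegree (ψ : G → ℂ) := by exact_mod_cast charDegree_pos ψ.2
  have e4 : c = ((charDegree (χ : G → ℂ) / charDegree (ψ : G → ℂ) : ℝ) : ℂ) := by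
    have : ((charDegree (ψ : G → ℂ) : ℝ) : ℂ) ≠ 0 := by exact_mod_cast hb0.ne'
    rw [Complex.ofReal_div, eq_div_iff this, hb, e3, ha]
  have e5 : c = 1 := by
    rw [← hc, e4, Complex.conj_ofReal, ← Complex.ofReal_mul] at e1
    have e6 : (charDegree (χ : G → ℂ) / charDegree (ψ : G → ℂ) : ℝ) * (charDegree (χ : G → ℂ) / charDegree (ψ : G → ℂ) : ℝ) = 1 := by
      exact_mod_cast e1
    have e7 : (0 : ℝ) < (charDegree (χ : G → ℂ) / charDegree (ψ : G → ℂ) : ℝ) := div_pos ha0 hb0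
    have e8 : (charDegree (χ : G → ℂ) / charDegree (ψ : G → ℂ) : ℝ) = 1 := by nlinarith
    rw [e4, e8, Complex.ofReal_one]
  refine ⟨ψ, hψB, by rw [e2, e5, one_smul], ?_⟩
  rw [← e3, e5, one_mul]

/-- if `η ∗ χ = χ` then `η` is trivial where `χ` does not vanish -/
theorem fix_bp (hM : IsPModular p M) {η : G → ℂ} {χ : IrrCharacter G} (h : st p P E η (χ : G → ℂ) = (χ : G → ℂ))
    {u : G} (hu : ∃ k : ℕ, orderOf u = p ^ k) [Fintype (Subgroup.centralizer ({u} : Set G))]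
    {b : Set (IrrCharacter (Subgroup.centralizer ({u} : Set G)))} (hb : IsPBlock M b)
    (hne : cc p P E η u (ep M (Subgroup.centralizer ({u} : Set G)) b) ≠ 1) : mm p u b χ χ = 0 := by
  have h1 : ∀ y : Subgroup.centralizer ({u} : Set G), ¬ p ∣ orderOf y → bp u b (χ : G → ℂ) y = 0 := by
    intro y hy
    have h2 := bp_st (P := P) (E := E) hM η (IsIrr.isClass χ.2) hu hb y hy
    rw [h] at h2
    have h3 : (cc p P E η u (ep M (Subgroup.centralizer ({u} : Set G)) b) - 1) * bp u b (χ : G → ℂ) y = 0 := by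
      linear_combination -h2
    exact (mul_eq_zero.1 h3).resolve_left (sub_ne_zero.2 hne)
  unfold mm
  rw [Finset.sum_eq_zero, mul_zero]
  intro y _
  split_ifs with hy
  · rfl
  · rw [h1 y hy, zero_mul]

end Cfsg.Agent.H25.STn
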