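import Cfsg.Agent.H25_STn
import Cfsg.Agent.H25_Sub8
import Cfsg.Agent.H27_FusHyp

/-! The action of the linear characters of `P / foc` on `Irr(B)`. -/

set_option autoImplicit false
set_option linter.unusedSectionVars false

open scoped ComplexConjugate commutatorElement

namespace Cfsg.Agent.H25.STo

open Cfsg Cfsg.Agent.H3 Cfsg.Agent.H3.CharBasic Cfsg.Agent.H3.CharIrr Cfsg.Agent.H3.CharComplete
  Cfsg.Agent.H3.CharGal
  Cfsg.Agent.H25.Brauer Cfsg.Agent.H10.BlockTrace Cfsg.Agent.H25.BrauerP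
  Cfsg.Agent.H10.Char Cfsg.Agent.H10.BlockLoc Cfsg.Agent.H10.BlockAlg Cfsg.Agent.H10.BlockIdem
  Cfsg.Agent.H10.BlockOrth Cfsg.Agent.H10.BlockHZ
  Cfsg.Agent.H10.BlockSMT Cfsg.Agent.H10.BlockSMT2 Cfsg.Agent.H10.PPart Cfsg.Agent.H10.BlockPrin
  Cfsg.Agent.H25.STa Cfsg.Agent.H25.STb Cfsg.Agent.H25.STc Cfsg.Agent.H25.STd
  Cfsg.Agent.H25.STe Cfsg.Agent.H25.STf Cfsg.Agent.H25.STg Cfsg.Agent.H25.STh Cfsg.Agent.H25.STi
  Cfsg.Agent.H25.STj Cfsg.Agent.H25.STk Cfsg.Agent.H25.STl Cfsg.Agent.H25.STm Cfsg.Agent.H25.STn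
  Cfsg.Agent.H25.KG Cfsg.Agent.H25.Red Cfsg.Agent.H25.BPTr Cfsg.Agent.H25.BPMain Cfsg.Agent.H25.BPDef
  Cfsg.Agent.H25.Fus
  Cfsg.Agent.H25.AbSec Cfsg.Agent.H25.Sub Cfsg.Agent.H25.Sub2 Cfsg.Agent.H25.Sub3 Cfsg.Agent.H25.Sub5
  Cfsg.Agent.H25.Sub7 Cfsg.Agent.H25.Sub8
  Cfsg.Agent.H25.Avg

section lam
variable {Q : Type*} [Group Q] [Finite Q]

/-- the linear characters trivial on `N` -/
def Lam (N : Subgroup Q) : Subgroup (Q →* ℂˣ) where
  carrier := {l | N ≤ l.ker}
  mul_mem' := by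
    intro a b ha hb x hx
    rw [MonoidHom.mem_ker, MonoidHom.mul_apply, MonoidHom.mem_ker.1 (ha hx), MonoidHom.mem_ker.1 (hb hx), one_mul]
  one_mem' := by
    intro x _
    rw [MonoidHom.mem_ker, MonoidHom.one_apply]
  inv_mem' := by
    intro a ha x hx
    rw [MonoidHom.mem_ker, MonoidHom.inv_apply, MonoidHom.mem_ker.1 (ha hx), inv_one]

theorem mem_Lam {N : Subgroup Q} {l : Q →* ℂˣ} : l ∈ Lam N ↔ ∀ x ∈ N, l x = 1 := Iff.rfl

theorem card_Lam (N : Subgroup Q) (hN : commutator Q ≤ N) : Nat.card (Lam N) = N.index := by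
  haveI hn : N.Normal := Subgroup.Normal.of_commutator_le _ hN
  letI : CommGroup (Q ⧸ N) :=
    { (inferInstance : Group (Q ⧸ N)) with
      mul_comm := by
        intro a b
        obtain ⟨a, rfl⟩ := QuotientGroup.mk_surjective a
        obtain ⟨b, rfl⟩ := QuotientGroup.mk_surjective b
        show ((a * b : Q) : Q ⧸ N) = ((b * a : Q) : Q ⧸ N)
        rw [QuotientGroup.eq]
        apply hN
        have : (a * b)⁻¹ * (b * a) = ⁅b⁻¹, a⁻¹⁆ := by rw [commutatorElement_def]; group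
        rw [this]
        exact Subgroup.commutator_mem_commutator (Subgroup.mem_top _) (Subgroup.mem_top _) }
  have e : Lam N ≃ ((Q ⧸ N) →* ℂˣ) :=
    { toFun := fun l => QuotientGroup.lift N l.1 l.2
      invFun := fun f => ⟨f.comp (QuotientGroup.mk' N), fun x hx => by
        rw [MonoidHom.mem_ker, MonoidHom.comp_apply, QuotientGroup.mk'_apply, (QuotientGroup.eq_one_iff x).2 hx, map_one]⟩
      left_inv := fun l => by apply Subtype.ext; ext x; rfl
      right_inv := fun f => by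
        apply QuotientGroup.monoidHom_ext
        ext x
        rfl }
  rw [Nat.card_congr e, Subgroup.index]
  exact CommGroup.card_monoidHom_of_hasEnoughRootsOfUnity (Q ⧸ N) ℂ

theorem dvd_of_stab {L X : Type*} [Group L] [MulAction L X] [Finite X] [Finite L] (K : Subgroup L)
    (h : ∀ x : X, MulAction.stabilizer L x ≤ K) : K.index ∣ Nat.card X := by
  classical
  haveI : Fintype (Quotient (MulAction.orbitRel L X)) := Fintype.ofFinite _
  rw [Nat.card_congr (MulAction.selfEquivSigmaOrbitsQuotientStabilizer L X), Nat.card_sigma]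
  refine Finset.dvd_sum fun ω _ => ?_
  exact Subgroup.index_dvd_of_le (h _)

end lam

variable {p : ℕ} {M : Ideal AlgInt} {G : Type*} [Group G] [Fintype G] [hMax : M.IsMaximal]
  [hp : Fact p.Prime] [hch : CharP (KM M) p] {P : Subgroup G} {E : MonoidAlgebra (KM M) G}
  {B : Set (IrrCharacter G)}

open Classical in
/-- extension by zero of a linear character -/
noncomputable def ex (l : P →* ℂˣ) (u : G) : ℂ := if h : u ∈ P then (l ⟨u, h⟩ : ℂ) else 0

theorem ex_mem (l : P →* ℂˣ) {u : G} (h : u ∈ P) : ex l u = (l ⟨u, h⟩ : ℂ) := by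
  unfold ex; rw [dif_pos h]

/-- the order of `p`-elements -/
theorem ord_dvd (u : G) (h : ∃ k : ℕ, orderOf u = p ^ k) : orderOf u ∣ p ^ (Nat.card G).factorization p := by
  obtain ⟨k, hk⟩ := h
  rw [hk]
  apply pow_dvd_pow
  have h1 : p ^ k ∣ Nat.card G := by rw [← hk]; exact orderOf_dvd_natCard u
  exact (hp.out.pow_dvd_iff_le_factorization Nat.card_pos.ne').1 h1

theorem ex_pow (hP : IsPGroup p P) (l : P →* ℂˣ) {u : G} (h : u ∈ P) : (ex l u) ^ (p ^ (Nat.card G).factorization p) = 1 := by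
  have h1 : ∃ k : ℕ, orderOf u = p ^ k := by
    obtain ⟨k, hk⟩ := (IsPGroup.iff_orderOf.1 hP) ⟨u, h⟩
    rw [Subgroup.orderOf_mk] at hk
    exact ⟨k, hk⟩
  have h2 := ord_dvd u h1
  rw [ex_mem l h, ← Units.val_pow_eq_pow_val, ← map_pow]
  have h3 : (⟨u, h⟩ : P) ^ (p ^ (Nat.card G).factorization p) = 1 := by
    apply Subtype.ext
    show u ^ _ = 1
    exact orderOf_dvd_iff_pow_eq_one.1 h2
  rw [h3, map_one, Units.val_one]

theorem ex_norm (hP : IsPGroup p P) (l : P →* ℂˣ) {u : G} (h : u ∈ P) : conj (ex l u) * ex l u = 1 := by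
  have h1 : ‖ex l u‖ = 1 := Complex.norm_eq_one_of_pow_eq_one (ex_pow hP l h) (pow_pos hp.out.pos _).ne'
  rw [mul_comm, Complex.mul_conj, Complex.normSq_eq_norm_sq, h1]
  simp

theorem ex_gc (l : P →* ℂˣ) : GC P (ex l) := by
  intro inst
  have h1 : IntSpan (fun u : P => (l u : ℂ)) :=
    IsChar.intSpan (IsIrr.isCharacter (H3.CharInd.isIrr_of_hom_units l))
  convert h1 using 2
  rename_i u
  exact ex_mem l u.2

theorem ex_stab {F : FusionSystem P} (hF : IsBF p E F) {l : P →* ℂˣ}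
    (hl : l ∈ Lam (F.focalSubgroup.subgroupOf P)) : Stab p P E (ex l) := by
  intro u hu g hg
  have h1 : H27.Fus.Map F (Subgroup.zpowers u) (fun x => g * x * g⁻¹) := (hF _ _).2 ⟨g, hg, fun _ _ => rfl⟩
  have h2 : g * u * g⁻¹ ∈ P := by
    have := hg.le'
    rw [cs_zp] at this
    exact Subgroup.zpowers_le.1 this
  have h3 := H27.Fus.mem_foc h1 (Subgroup.mem_zpowers u)
  have h4 : (⟨u, hu⟩ : P)⁻¹ * ⟨g * u * g⁻¹, h2⟩ ∈ F.focalSubgroup.subgroupOf P := by
    rw [Subgroup.mem_subgroupOf]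
    exact h3
  have h5 := mem_Lam.1 hl _ h4
  rw [map_mul, map_inv, inv_mul_eq_one] at h5
  rw [ex_mem l hu, ex_mem l h2, h5]

theorem comm_le {F : FusionSystem P} : commutator P ≤ F.focalSubgroup.subgroupOf P := by
  rw [commutator_def, Subgroup.commutator_le]
  intro a _ b _
  rw [Subgroup.mem_subgroupOf]
  apply H27.Fus.comm_le_foc (F := F)
  have : ((⁅a, b⁆ : P) : G) = ⁅(a : G), (b : G)⁆ := rfl
  rw [this]
  exact Subgroup.commutator_mem_commutator a.2 b.2

section act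
variable (hM : IsPModular p M) (hB : IsPBlock M B) (hP : BP p (epG M B) P E) (htop : KG.Top p P E)
  {F : FusionSystem P} (hF : IsBF p E F)

include hM hB hP htop hF

theorem act_ex {l : P →* ℂˣ} (hl : l ∈ Lam (F.focalSubgroup.subgroupOf P)) {χ : IrrCharacter G} (hχ : χ ∈ B) :
    ∃ ψ : IrrCharacter G, ψ ∈ B ∧ st p P E (ex l) (χ : G → ℂ) = (ψ : G → ℂ) ∧ (ψ : G → ℂ) 1 = (χ : G → ℂ) 1 := by
  refine st_lin hM hB hP htop (ex_stab hF hl) (ex_gc l) (fun u hu => ex_norm hP.pg l hu) ?_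
    (m := (Nat.card G).factorization p) (fun u hu => root_mem (ex_pow hP.pg l hu)) (fun u hu => ord_dvd u hu) hχ
  rw [ex_mem l P.one_mem]
  have : (⟨1, P.one_mem⟩ : P) = 1 := rfl
  rw [this, map_one, Units.val_one]

omit hM hB hP htop hF in
open Classical in
/-- the action as a function -/
noncomputable def af (p : ℕ) [Fact p.Prime] (P : Subgroup G) (E : MonoidAlgebra (KM M) G) (B : Set (IrrCharacter G))
    (l : P →* ℂˣ) (χ : IrrCharacter G) : IrrCharacter G :=
  if h : ∃ ψ : IrrCharacter G, ψ ∈ B ∧ st p P E (ex l) (χ : G → ℂ) = (ψ : G → ℂ) ∧ (ψ : G → ℂ) 1 = (χ : G → ℂ) 1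
    then h.choose else χ

theorem af_spec {l : P →* ℂˣ} (hl : l ∈ Lam (F.focalSubgroup.subgroupOf P)) {χ : IrrCharacter G} (hχ : χ ∈ B) :
    af p P E B l χ ∈ B ∧ st p P E (ex l) (χ : G → ℂ) = (af p P E B l χ : G → ℂ) ∧
      (af p P E B l χ : G → ℂ) 1 = (χ : G → ℂ) 1 := by
  have h := act_ex hM hB hP htop hF hl hχ
  have h1 := h.choose_spec
  unfold af
  rw [dif_pos h]
  exact h1

theorem af_one {χ : IrrCharacter G} (hχ : χ ∈ B) : af p P E B 1 χ = χ := by
  apply Subtype.ext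
  have h1 := (af_spec hM hB hP htop hF (Subgroup.one_mem (Lam (F.focalSubgroup.subgroupOf P))) hχ).2.1
  show (af p P E B 1 χ : G → ℂ) = _
  rw [← h1]
  refine Eq.trans ?_ (st_one hM hB hP htop hχ)
  unfold st zz'
  congr 1
  funext u
  refine Finset.sum_congr rfl fun f _ => ?_
  rw [cc_congr (η' := fun _ => 1)]
  intro u hu
  rw [ex_mem _ hu]
  rfl

theorem af_mul {a b : P →* ℂˣ} (ha : a ∈ Lam (F.focalSubgroup.subgroupOf P))
    (hb : b ∈ Lam (F.focalSubgroup.subgroupOf P)) {χ : IrrCharacter G} (hχ : χ ∈ B) :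
    af p P E B (a * b) χ = af p P E B a (af p P E B b χ) := by
  apply Subtype.ext
  have h1 := (af_spec hM hB hP htop hF (Subgroup.mul_mem _ ha hb) hχ).2.1
  have h2 := af_spec hM hB hP htop hF hb hχ
  have h3 := (af_spec hM hB hP htop hF ha h2.1).2.1
  show (af p P E B (a * b) χ : G → ℂ) = (af p P E B a (af p P E B b χ) : G → ℂ)
  rw [← h1, ← h3, ← h2.2.1, st_st hM (ex_stab hF hb) (ex_stab hF ha) (IsIrr.isClass χ.2)]
  unfold st zz'
  congr 1
  funext u
  refine Finset.sum_congr rfl fun f _ => ?_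
  rw [cc_congr]
  intro u hu
  rw [ex_mem _ hu, ex_mem _ hu, ex_mem _ hu]
  rfl

omit hM hB hP htop hF in
theorem height_eq {χ ψ : IrrCharacter G} (h : (ψ : G → ℂ) 1 = (χ : G → ℂ) 1) :
    blockHeight p B (ψ : G → ℂ) = blockHeight p B (χ : G → ℂ) := by
  unfold blockHeight charDegree
  rw [h]

/-- the action on the characters of given height -/
noncomputable def act (h : ℕ) : MulAction (Lam (F.focalSubgroup.subgroupOf P))
    {χ : IrrCharacter G // χ ∈ B ∧ blockHeight p B (χ : G → ℂ) = h} where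
  smul l χ := ⟨af p P E B l.1 χ.1, (af_spec hM hB hP htop hF l.2 χ.2.1).1,
    (height_eq (af_spec hM hB hP htop hF l.2 χ.2.1).2.2).trans χ.2.2⟩
  one_smul χ := Subtype.ext (af_one hM hB hP htop hF χ.2.1)
  mul_smul a b χ := Subtype.ext (af_mul hM hB hP htop hF a.2 b.2 χ.2.1)

theorem act_fix (h : ℕ) (l : Lam (F.focalSubgroup.subgroupOf P))
    (χ : {χ : IrrCharacter G // χ ∈ B ∧ blockHeight p B (χ : G → ℂ) = h})
    (hl : (act hM hB hP htop hF h).smul l χ = χ) : st p P E (ex l.1) (χ.1 : G → ℂ) = (χ.1 : G → ℂ) := by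
  rw [(af_spec hM hB hP htop hF l.2 χ.2.1).2.1]
  exact congrArg (fun x : {χ : IrrCharacter G // χ ∈ B ∧ blockHeight p B (χ : G → ℂ) = h} => (x.1 : G → ℂ)) hl

omit hF in
/-- the subsection below `(P, E)` -/
theorem sub_below {u : G} (hu : u ∈ P) : (∃ k : ℕ, orderOf u = p ^ k) ∧
    ∃ b : Set (IrrCharacter (Subgroup.centralizer ({u} : Set G))),
      IsInducedBlock M (Subgroup.centralizer ({u} : Set G)) b B ∧
      LE p (Subgroup.zpowers u) (ep M (Subgroup.centralizer ({u} : Set G)) b) P E := by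
  have h1 : ∃ k : ℕ, orderOf u = p ^ k := by
    obtain ⟨k, hk⟩ := (IsPGroup.iff_orderOf.1 hP.pg) ⟨u, hu⟩
    rw [Subgroup.orderOf_mk] at hk
    exact ⟨k, hk⟩
  obtain ⟨f, hf, hle⟩ := le_exists hP.pg hP.be (Subgroup.zpowers_le.2 hu)
  have hf' := hf
  rw [Ce_zp] at hf
  obtain ⟨b, hb, rfl⟩ := exists_ep hf
  exact ⟨h1, b, (ind_iff hM hB h1 b hb).2 (hP.down hle), hle⟩

theorem fix_zero {l : P →* ℂˣ} (hl : l ∈ Lam (F.focalSubgroup.subgroupOf P)) {χ : IrrCharacter G} (hχ : χ ∈ B)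
    (h : st p P E (ex l) (χ : G → ℂ) = (χ : G → ℂ)) (h0 : blockHeight p B (χ : G → ℂ) = 0) : l = 1 := by
  ext ⟨u, hu⟩
  haveI : Fintype (Subgroup.centralizer ({u} : Set G)) := Fintype.ofFinite _
  haveI : Fintype (IrrCharacter (Subgroup.centralizer ({u} : Set G))) := Fintype.ofFinite _
  haveI : Fintype (IrrCharacter G) := Fintype.ofFinite _
  obtain ⟨hup, b, hb, hle⟩ := sub_below hM hB hP htop hu
  by_contra hne
  have h1 : cc p P E (ex l) u (ep M (Subgroup.centralizer ({u} : Set G)) b) = ex l u := by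
    rw [cc_eq (ex_stab hF hl) (x := 1)]
    · congr 1; group
    · rw [cnj_one_apply]
      simpa using hle
  have h2 := fix_bp hM h hup hb.1 (by
    rw [h1, ex_mem l hu]
    exact hne)
  have h3 := NN_unit hM hup hb hχ h0 hχ h0
  apply h3
  unfold NN
  rw [h2, mul_zero]
  exact ideal_zero

omit hF in
theorem major_sub {u : G} (hu : u ∈ P) (huc : ∀ d ∈ P, d * u = u * d)
    {b : Set (IrrCharacter (Subgroup.centralizer ({u} : Set G)))} (hb : IsPBlock M b)
    (hle : LE p (Subgroup.zpowers u) (ep M (Subgroup.centralizer ({u} : Set G)) b) P E) :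
    blockDefect p b = blockDefect p B := by
  have hPc : P ≤ Subgroup.centralizer ({u} : Set G) := by
    intro d hd
    rw [Subgroup.mem_centralizer_singleton_iff]
    exact huc d hd
  have hPC : P ⊓ Ce (Subgroup.zpowers u) = P := by
    rw [Ce_zp]; exact inf_eq_left.2 hPc
  have h1 := (max_iff_dgh hM hP htop hle (H := Ce (Subgroup.zpowers u)) (by
    have := (hle.pair hP.pg hP.be).2; exact this) (FMT.Ce_le_Nm _)).1 (fun g _ => by
      rw [hPC]
      exact Subgroup.card_le_of_le inf_le_left)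
  rw [hPC, Ce_zp] at h1
  have h5 : IsDefectGroup p M b (P.subgroupOf (Subgroup.centralizer ({u} : Set G))) :=
    (defectH_iff' hM hb h1.le).2 h1
  have hD : IsDefectGroup p M B P := (defectG_iff hM hB).2 (BPDef.Top.dgh htop hP)
  exact (major_defect hM hB hD hu huc hb h5).1

theorem fix_central {l : P →* ℂˣ} (hl : l ∈ Lam (F.focalSubgroup.subgroupOf P)) {χ : IrrCharacter G} (hχ : χ ∈ B)
    (h : st p P E (ex l) (χ : G → ℂ) = (χ : G → ℂ)) {u : G} (hu : u ∈ P) (huc : ∀ d ∈ P, d * u = u * d) :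
    l ⟨u, hu⟩ = 1 := by
  haveI : Fintype (Subgroup.centralizer ({u} : Set G)) := Fintype.ofFinite _
  haveI : Fintype (IrrCharacter (Subgroup.centralizer ({u} : Set G))) := Fintype.ofFinite _
  haveI : Fintype (IrrCharacter G) := Fintype.ofFinite _
  obtain ⟨hup, b, hb, hle⟩ := sub_below hM hB hP htop hu
  by_contra hne
  have h1 : cc p P E (ex l) u (ep M (Subgroup.centralizer ({u} : Set G)) b) = ex l u := by
    rw [cc_eq (ex_stab hF hl) (x := 1)]
    · congr 1; group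
    · rw [cnj_one_apply]
      simpa using hle
  have h2 := fix_bp hM h hup hb.1 (by
    rw [h1, ex_mem l hu]
    intro h
    exact hne (Units.ext h))
  have h3 := maj_diag_ne hM hup hb (major_sub hM hB hP htop hu huc hb.1 hle) hχ
  apply h3
  unfold NN
  rw [h2, mul_zero]

omit hM hB hP htop hF in
theorem fin_Lam : Finite (Lam (F.focalSubgroup.subgroupOf P)) := by
  apply Nat.finite_of_card_ne_zero
  rw [card_Lam _ comm_le]
  exact Subgroup.index_ne_zero_of_finite

/-- S4684 -/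
theorem main_zero : (F.focalSubgroup.subgroupOf P).index ∣
    Nat.card {χ : IrrCharacter G // χ ∈ B ∧ blockHeight p B (χ : G → ℂ) = 0} := by
  letI := act hM hB hP htop hF 0
  haveI := fin_Lam (F := F)
  have h1 := dvd_of_stab (L := Lam (F.focalSubgroup.subgroupOf P))
    (X := {χ : IrrCharacter G // χ ∈ B ∧ blockHeight p B (χ : G → ℂ) = 0}) ⊥ (by
    intro χ l hl
    rw [Subgroup.mem_bot]
    apply Subtype.ext
    exact fix_zero hM hB hP htop hF l.2 χ.2.1 (act_fix hM hB hP htop hF 0 l χ hl) χ.2.2)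
  rw [Subgroup.index_bot, card_Lam _ comm_le] at h1
  exact h1

/-- S4685 -/
theorem main_height (h : ℕ) : ((P ⊓ Subgroup.centralizer (P : Set G) ⊓ F.focalSubgroup).subgroupOf
      (P ⊓ Subgroup.centralizer (P : Set G))).index ∣
    Nat.card {χ : IrrCharacter G // χ ∈ B ∧ blockHeight p B (χ : G → ℂ) = h} := by
  letI := act hM hB hP htop hF h
  haveI := fin_Lam (F := F)
  obtain ⟨Z, hZ⟩ : ∃ Z : Subgroup P, Z = (Subgroup.centralizer (P : Set G)).subgroupOf P := ⟨_, rfl⟩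
  obtain ⟨N, hN⟩ : ∃ N : Subgroup P, N = F.focalSubgroup.subgroupOf P := ⟨_, rfl⟩
  have h1 := dvd_of_stab (L := Lam (F.focalSubgroup.subgroupOf P))
    (X := {χ : IrrCharacter G // χ ∈ B ∧ blockHeight p B (χ : G → ℂ) = h})
    ((Lam (N ⊔ Z)).subgroupOf (Lam (F.focalSubgroup.subgroupOf P))) (by
    intro χ l hl
    rw [Subgroup.mem_subgroupOf]
    show N ⊔ Z ≤ l.1.ker
    rw [hN, hZ]
    refine sup_le l.2 ?_
    rintro ⟨u, hu⟩ huZ
    rw [MonoidHom.mem_ker]
    refine fix_central hM hB hP htop hF l.2 χ.2.1 (act_fix hM hB hP htop hF h l χ hl) hu ?_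
    intro d hd
    exact Subgroup.mem_centralizer_iff.1 (Subgroup.mem_subgroupOf.1 huZ) d hd)
  rw [← hN] at h1
  refine dvd_trans (dvd_of_eq ?_) h1
  -- index computation
  have hle : Lam (N ⊔ Z) ≤ Lam N := fun l hl x hx => hl (le_sup_left (a := N) (b := Z) hx)
  have e1 : Nat.card (Lam (N ⊔ Z)) * ((Lam (N ⊔ Z)).subgroupOf (Lam N)).index = Nat.card (Lam N) := by
    rw [← Nat.card_congr (Subgroup.subgroupOfEquivOfLe hle).toEquiv]
    exact Subgroup.card_mul_index _
  have hcN : commutator P ≤ N := by rw [hN]; exact comm_le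
  rw [card_Lam _ (hcN.trans le_sup_left), card_Lam _ hcN] at e1
  have hn : N.Normal := Subgroup.Normal.of_commutator_le _ hcN
  have e2 : N.relIndex (N ⊔ Z) * (N ⊔ Z).index = N.index := Subgroup.relIndex_mul_index le_sup_left
  have e3 : N.relIndex (N ⊔ Z) = N.relIndex Z := by
    rw [sup_comm]
    exact Subgroup.relIndex_sup_right ..
  have e4 : ((Lam (N ⊔ Z)).subgroupOf (Lam N)).index = N.relIndex Z := by
    have hpos : 0 < (N ⊔ Z).index := Nat.pos_of_ne_zero Subgroup.index_ne_zero_of_finite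
    apply Nat.eq_of_mul_eq_mul_left hpos
    rw [e1, ← e2, e3, mul_comm]
  rw [e4]
  have e5 : N.relIndex Z = F.focalSubgroup.relIndex (P ⊓ Subgroup.centralizer (P : Set G)) := by
    have e6 : Z = (P ⊓ Subgroup.centralizer (P : Set G)).subgroupOf P := by
      rw [hZ, inf_comm, Subgroup.inf_subgroupOf_right]
    rw [e6, hN]
    exact Subgroup.relIndex_subgroupOf inf_le_left
  rw [e5]
  show (P ⊓ Subgroup.centralizer (P : Set G) ⊓ F.focalSubgroup).relIndex (P ⊓ Subgroup.centralizer (P : Set G)) = _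
  rw [inf_comm]
  exact Subgroup.inf_relIndex_right _ _

end act

end Cfsg.Agent.H25.STo
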