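import Cfsg.Agent.H25_STo
import Cfsg.Agent.H25_Nilp2

/-! Sums over subsections; nilpotent blocks. -/

set_option autoImplicit false
set_option linter.unusedSectionVars false

open scoped ComplexConjugate commutatorElement

namespace Cfsg.Agent.H25.STp

open Cfsg Cfsg.Agent.H3 Cfsg.Agent.H3.CharBasic Cfsg.Agent.H3.CharIrr Cfsg.Agent.H3.CharComplete
  Cfsg.Agent.H3.CharGal
  Cfsg.Agent.H25.Brauer Cfsg.Agent.H10.BlockTrace Cfsg.Agent.H25.BrauerP
  Cfsg.Agent.H10.Char Cfsg.Agent.H10.BlockLoc Cfsg.Agent.H10.BlockAlg Cfsg.Agent.H10.BlockIdem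
  Cfsg.Agent.H10.BlockOrth Cfsg.Agent.H10.BlockHZ
  Cfsg.Agent.H10.BlockSMT Cfsg.Agent.H10.BlockSMT2 Cfsg.Agent.H10.PPart Cfsg.Agent.H10.BlockPrin
  Cfsg.Agent.H25.STa Cfsg.Agent.H25.STb Cfsg.Agent.H25.STc Cfsg.Agent.H25.STd
  Cfsg.Agent.H25.STe Cfsg.Agent.H25.STf Cfsg.Agent.H25.STg Cfsg.Agent.H25.STh Cfsg.Agent.H25.STi
  Cfsg.Agent.H25.STj Cfsg.Agent.H25.STk Cfsg.Agent.H25.STl Cfsg.Agent.H25.STm Cfsg.Agent.H25.STn
  Cfsg.Agent.H25.STo
  Cfsg.Agent.H25.KG Cfsg.Agent.H25.Red Cfsg.Agent.H25.BPTr Cfsg.Agent.H25.BPMain Cfsg.Agent.H25.BPDef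
  Cfsg.Agent.H25.Fus Cfsg.Agent.H25.Nilp
  Cfsg.Agent.H25.AbSec Cfsg.Agent.H25.AbSec2 Cfsg.Agent.H25.Sub Cfsg.Agent.H25.Sub2 Cfsg.Agent.H25.Sub3 Cfsg.Agent.H25.Sub5
  Cfsg.Agent.H25.Sub7 Cfsg.Agent.H25.Sub8
  Cfsg.Agent.H25.Avg

theorem tot_one {n : ℕ} [NeZero n] {x : Cyc n} (h0 : x ≠ 0) (hi : IsIntegral ℤ (x : ℂ))
    (hre : ∀ σ : Gm n, (σ x : ℂ) = (((σ x : ℂ).re : ℝ) : ℂ)) (hnn : ∀ σ : Gm n, 0 ≤ (σ x : ℂ).re) :
    (Fintype.card (Gm n) : ℝ) ≤ ∑ σ : Gm n, (σ x : ℂ).re ∧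
      (∑ σ : Gm n, (σ x : ℂ).re = Fintype.card (Gm n) → (x : ℂ) = 1) := by
  have hpos : ∀ σ : Gm n, 0 < (σ x : ℂ).re := by
    intro σ
    refine lt_of_le_of_ne (hnn σ) ?_
    intro h
    apply h0
    have h1 : (σ x : ℂ) = 0 := by rw [hre σ, ← h]; simp
    have h2 : σ x = 0 := Subtype.ext h1
    simpa using h2
  obtain ⟨r, hr⟩ := rat_of_fixed (∏ σ : Gm n, σ x) (fun τ => by
    rw [map_prod]
    exact Equiv.prod_comp (Equiv.mulLeft τ) (fun σ : Gm n => σ x))
  have hr' : (∏ σ : Gm n, (σ x : ℂ)) = r := by rw [← hr]; push_cast; rfl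
  have hri : IsIntegral ℤ (r : ℂ) := by
    rw [← hr']; exact IsIntegral.prod _ fun σ _ => gal_isIntegral σ _ hi
  obtain ⟨z, hz⟩ := Cfsg.Agent.H3.CharInt.exists_int_of_isIntegral hri
  have hprod : (∏ σ : Gm n, (σ x : ℂ).re) = (z : ℝ) := by
    have h1 : ((∏ σ : Gm n, (σ x : ℂ).re : ℝ) : ℂ) = ((z : ℝ) : ℂ) := by
      rw [Complex.ofReal_prod, ← Finset.prod_congr rfl fun σ _ => hre σ, hr', hz]
      push_cast; rfl
    exact_mod_cast h1
  have hz1 : (1 : ℝ) ≤ ∏ σ : Gm n, (σ x : ℂ).re := by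
    have : (0 : ℝ) < ∏ σ : Gm n, (σ x : ℂ).re := Finset.prod_pos fun σ _ => hpos σ
    rw [hprod] at this ⊢
    exact_mod_cast this
  have hlog : 0 ≤ ∑ σ : Gm n, Real.log ((σ x : ℂ).re) := by
    rw [← Real.log_prod (fun σ _ => (hpos σ).ne')]
    exact Real.log_nonneg hz1
  have hterm : ∑ σ : Gm n, Real.log ((σ x : ℂ).re) ≤ ∑ σ : Gm n, ((σ x : ℂ).re - 1) :=
    Finset.sum_le_sum fun σ _ => Real.log_le_sub_one_of_pos (hpos σ)
  have hterm' := hterm
  rw [Finset.sum_sub_distrib, Finset.sum_const, Finset.card_univ, nsmul_eq_mul, mul_one] at hterm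
  refine ⟨by linarith, fun heq => ?_⟩
  by_contra hne
  have h1 : (((1 : Gm n) x : Cyc n) : ℂ).re ≠ 1 := by
    intro h
    apply hne
    have := hre 1
    rw [h] at this
    simpa using this
  have h2 : ∑ σ : Gm n, Real.log ((σ x : ℂ).re) < ∑ σ : Gm n, ((σ x : ℂ).re - 1) :=
    Finset.sum_lt_sum (fun σ _ => Real.log_le_sub_one_of_pos (hpos σ))
      ⟨1, Finset.mem_univ _, Real.log_lt_sub_one_of_pos (hpos 1) h1⟩
  rw [Finset.sum_sub_distrib, Finset.sum_const, Finset.card_univ, nsmul_eq_mul, mul_one, heq] at h2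
  linarith

variable {p : ℕ} {M : Ideal AlgInt} {G : Type*} [Group G] [Fintype G] [hMax : M.IsMaximal]
  [hp : Fact p.Prime] [hch : CharP (KM M) p] {P : Subgroup G} {E : MonoidAlgebra (KM M) G}
  {B : Set (IrrCharacter G)}

/-- contributions, without instance arguments -/
noncomputable def mmC (p : ℕ) [Fact p.Prime] (χ ψ : IrrCharacter G)
    (s : Σ x : G, Set (IrrCharacter (Subgroup.centralizer ({x} : Set G)))) : ℂ :=
  letI : Fintype (Subgroup.centralizer ({s.1} : Set G)) := Fintype.ofFinite _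
  mm p s.1 s.2 χ ψ

/-- values of `η` on subsections -/
noncomputable def ccs (p : ℕ) (P : Subgroup G) (E : MonoidAlgebra (KM M) G) (η : G → ℂ)
    (s : Σ x : G, Set (IrrCharacter (Subgroup.centralizer ({x} : Set G)))) : ℂ :=
  cc p P E η s.1 (ep M (Subgroup.centralizer ({s.1} : Set G)) s.2)

open Classical in
/-- all subsections of `B` -/
noncomputable def asecs (p : ℕ) (M : Ideal AlgInt) (B : Set (IrrCharacter G)) :
    Finset (Σ x : G, Set (IrrCharacter (Subgroup.centralizer ({x} : Set G)))) :=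
  (reps (G := G) p).sigma fun x => iB M B x

theorem mem_asecs {s : Σ x : G, Set (IrrCharacter (Subgroup.centralizer ({x} : Set G)))} :
    s ∈ asecs p M B ↔ s.1 ∈ reps (G := G) p ∧ IsInducedBlock M (Subgroup.centralizer ({s.1} : Set G)) s.2 B := by
  classical
  rw [asecs, Finset.mem_sigma, mem_iB]

theorem inner_secs (hM : IsPModular p M) (hB : IsPBlock M B) (hP : BP p (epG M B) P E) (htop : KG.Top p P E)
    {η : G → ℂ} (hη : Stab p P E η) (χ ψ : IrrCharacter G) :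
    classInner (st p P E η (χ : G → ℂ)) (ψ : G → ℂ) = ∑ s ∈ asecs p M B, ccs p P E η s * mmC p χ ψ s := by
  classical
  haveI : Fintype (IrrCharacter G) := Fintype.ofFinite _
  have hcl : IsClassFunction G (fun x => st p P E η (χ : G → ℂ) x * conj ((ψ : G → ℂ) x)) := by
    intro a x
    show st p P E η (χ : G → ℂ) _ * conj ((ψ : G → ℂ) _) = _
    rw [zz_class hη (IsIrr.isClass χ.2), IsIrr.isClass ψ.2]
  unfold classInner
  rw [sum_sections (p := p) hcl (reps_unique p), Finset.mul_sum, asecs, Finset.sum_sigma]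
  refine Finset.sum_congr rfl fun u hu => ?_
  have hu' := reps_p p hu
  letI : Fintype (Subgroup.centralizer ({u} : Set G)) := Fintype.ofFinite _
  haveI : Fintype (IrrCharacter (Subgroup.centralizer ({u} : Set G))) := Fintype.ofFinite _
  rw [inner_section hM hu']
  have h2 : (Nat.card G : ℂ) = ((Subgroup.centralizer ({u} : Set G)).index : ℂ) *
    (Nat.card (Subgroup.centralizer ({u} : Set G)) : ℂ) := by
    rw [← (Subgroup.centralizer ({u} : Set G)).index_mul_card]; push_cast; rfl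
  have h3 : (Nat.card G : ℂ) ≠ 0 := by
    have : 0 < Nat.card G := Nat.card_pos
    exact_mod_cast this.ne'
  rw [← mul_assoc ((Subgroup.centralizer ({u} : Set G)).index : ℂ), ← h2, ← mul_assoc, inv_mul_cancel₀ h3, one_mul]
  have hsub : iB M B u ⊆ blocks (Subgroup.centralizer ({u} : Set G)) M := by
    intro b hb
    exact mem_blocks.2 (mem_iB.1 hb).1
  rw [← Finset.sum_subset hsub]
  · rfl
  · intro b hb hb'
    rw [cc_ind hM hB hP htop hu' (mem_blocks.1 hb) (fun h => hb' (mem_iB.2 h)), zero_mul]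

theorem phi_val {η : G → ℂ} (hη : Stab p P E η) {y : G}
    {s : Σ x : G, Set (IrrCharacter (Subgroup.centralizer ({x} : Set G)))} (h : PhiRel M p P E y s) :
    ccs p P E η s = η y := by
  obtain ⟨g, hg, hle⟩ := h
  have e : g⁻¹ * s.1 * g⁻¹⁻¹ = y := by rw [← hg]; group
  unfold ccs
  rw [cc_eq hη (x := g⁻¹), e]
  rw [e]; exact hle

theorem asec_exists (hM : IsPModular p M) (hB : IsPBlock M B) (hP : BP p (epG M B) P E) {y : G} (hy : y ∈ P) :
    ∃ s ∈ asecs p M B, PhiRel M p P E y s := by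
  obtain ⟨s, h1, h2, h3⟩ := exists_phi hM hB hP (X := reps (G := G) p) (reps_unique p) hy
  exact ⟨s, mem_asecs.2 ⟨h1, h2⟩, h3⟩

theorem asec_unique (hP : BP p (epG M B) P E)
    {s s' : Σ x : G, Set (IrrCharacter (Subgroup.centralizer ({x} : Set G)))} (hs : s ∈ asecs p M B)
    (hs' : s' ∈ asecs p M B) {y : G} (hy : y ∈ P) (h : PhiRel M p P E y s)
    (h' : PhiRel M p P E y s') : s = s' := by
  have h1 := mem_asecs.1 hs
  have h2 := mem_asecs.1 hs'
  exact phi_unique hP.pg hP.be (reps_unique p) hy h1.1 h2.1 h1.2.1 h2.2.1 h h'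

theorem asec_surj (hM : IsPModular p M) (hB : IsPBlock M B) (hP : BP p (epG M B) P E) (htop : KG.Top p P E)
    {s : Σ x : G, Set (IrrCharacter (Subgroup.centralizer ({x} : Set G)))} (hs : s ∈ asecs p M B) :
    ∃ y ∈ P, PhiRel M p P E y s := by
  obtain ⟨h1, h3⟩ := mem_asecs.1 hs
  exact phi_surj hM hB hP htop s (reps_p p h1) h3

/-- the relation between two elements of `P` belonging to the same subsection -/
theorem phi_fr {y y' : G} {s : Σ x : G, Set (IrrCharacter (Subgroup.centralizer ({x} : Set G)))}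
    (h : PhiRel M p P E y s) (h' : PhiRel M p P E y' s) : ∃ g, FR p P E (Subgroup.zpowers y) g ∧ g * y * g⁻¹ = y' := by
  obtain ⟨g, hg, hle⟩ := h
  obtain ⟨g', hg', hle'⟩ := h'
  have e1 : g'⁻¹ * g * y * (g'⁻¹ * g)⁻¹ = y' := by
    calc g'⁻¹ * g * y * (g'⁻¹ * g)⁻¹ = g'⁻¹ * (g * y * g⁻¹) * g' := by group
      _ = g'⁻¹ * (g' * y' * g'⁻¹) * g' := by rw [hg, hg']
      _ = y' := by group
  refine ⟨g'⁻¹ * g, ⟨_, hle, ?_⟩, e1⟩
  rw [cs_zp, e1, cnj_mul_apply, cnj_cnj_inv]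
  exact hle'

open Classical in
/-- class equation for a conjugation orbit -/
theorem orbit_card (P : Subgroup G) (y : G) :
    (Finset.univ.image (fun t : P => (t : G) * y * (t : G)⁻¹)).card *
      Nat.card (P ⊓ Ce (Subgroup.zpowers y) : Subgroup G) = Nat.card P := by
  have h0 : Nat.card P = (Finset.univ : Finset P).card := by rw [Finset.card_univ, Nat.card_eq_fintype_card]
  rw [h0, Finset.card_eq_sum_card_image (fun t : P => (t : G) * y * (t : G)⁻¹) Finset.univ,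
    Finset.sum_const_nat (m := Nat.card (P ⊓ Ce (Subgroup.zpowers y) : Subgroup G))]
  intro z hz
  obtain ⟨t0, -, rfl⟩ := Finset.mem_image.1 hz
  rw [← Fintype.card_subtype, ← Nat.card_eq_fintype_card]
  refine Nat.card_congr
    { toFun := fun t => ⟨((t0⁻¹ * t.1 : P) : G), ?_⟩
      invFun := fun c => ⟨t0 * ⟨c, c.2.1⟩, ?_⟩
      left_inv := ?_
      right_inv := ?_ }
  · have h1 : (t.1 : G) * y * (t.1 : G)⁻¹ = (t0 : G) * y * (t0 : G)⁻¹ := t.2
    refine ⟨(t0⁻¹ * t.1 : P).2, ?_⟩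
    show ((t0⁻¹ * t.1 : P) : G) ∈ Ce (Subgroup.zpowers y)
    rw [Ce_zp, Subgroup.mem_centralizer_singleton_iff]
    show (t0 : G)⁻¹ * (t.1 : G) * y = y * ((t0 : G)⁻¹ * (t.1 : G))
    calc (t0 : G)⁻¹ * (t.1 : G) * y = (t0 : G)⁻¹ * ((t.1 : G) * y * (t.1 : G)⁻¹) * (t.1 : G) := by group
      _ = (t0 : G)⁻¹ * ((t0 : G) * y * (t0 : G)⁻¹) * (t.1 : G) := by rw [h1]
      _ = _ := by group
  · have h2 : (c : G) * y = y * (c : G) := by
      have h3 : (c : G) ∈ Ce (Subgroup.zpowers y) := c.2.2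
      exact (Subgroup.mem_centralizer_iff.1 h3 y (Subgroup.mem_zpowers y)).symm
    show ((t0 : G) * (c : G)) * y * ((t0 : G) * (c : G))⁻¹ = (t0 : G) * y * (t0 : G)⁻¹
    calc ((t0 : G) * (c : G)) * y * ((t0 : G) * (c : G))⁻¹ = (t0 : G) * ((c : G) * y) * (c : G)⁻¹ * (t0 : G)⁻¹ := by group
      _ = (t0 : G) * (y * (c : G)) * (c : G)⁻¹ * (t0 : G)⁻¹ := by rw [h2]
      _ = _ := by group
  · intro t
    apply Subtype.ext
    show t0 * (t0⁻¹ * t.1) = t.1
    group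
  · intro c
    apply Subtype.ext
    show (t0 : G)⁻¹ * ((t0 : G) * (c : G)) = c
    group

section nil
variable (hM : IsPModular p M) (hB : IsPBlock M B) (hP : BP p (epG M B) P E) (htop : KG.Top p P E)
  (hn : Nilp p (epG M B))

include hM hB hP htop hn

theorem nil_defect {y : G} (hy : y ∈ P) {s : Σ x : G, Set (IrrCharacter (Subgroup.centralizer ({x} : Set G)))}
    (hs : s ∈ asecs p M B) (h : PhiRel M p P E y s) :
    p ^ blockDefect p s.2 = Nat.card (P ⊓ Ce (Subgroup.zpowers y) : Subgroup G) := by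
  obtain ⟨x, b⟩ := s
  obtain ⟨h1, h3⟩ := mem_asecs.1 hs
  obtain ⟨g, hg, hle⟩ := h
  simp only at h1 h3 hg hle ⊢
  have h4 := (dgh_cent hM hP htop hn hle).cnj g
  rw [cnj_cnj_inv, Ce_zp, ← H25.KG.Ce1, ← Ce1_cs, hg] at h4
  have h5 : IsDefectGroup p M b ((KG.cs g (P ⊓ Ce1 y)).subgroupOf (Subgroup.centralizer ({x} : Set G))) :=
    (defectH_iff' hM h3.1 h4.le).2 h4
  haveI : Fintype (Subgroup.centralizer ({x} : Set G)) := Fintype.ofFinite _
  rw [← H10.BlockMain.card_defectGroup hM h3.1 h5, Nat.card_congr (Subgroup.subgroupOfEquivOfLe h4.le).toEquiv,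
    card_cs, Ce_zp]

open Classical in
theorem nil_fiber {y : G} (hy : y ∈ P) {s : Σ x : G, Set (IrrCharacter (Subgroup.centralizer ({x} : Set G)))}
    (hs : s ∈ asecs p M B) (h : PhiRel M p P E y s) :
    (Finset.univ.filter fun z : G => z ∈ P ∧ PhiRel M p P E z s).card * p ^ blockDefect p s.2 = Nat.card P := by
  have h1 : (Finset.univ.filter fun z : G => z ∈ P ∧ PhiRel M p P E z s) =
      Finset.univ.image (fun t : P => (t : G) * y * (t : G)⁻¹) := by
    ext z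
    rw [Finset.mem_filter, Finset.mem_image]
    constructor
    · rintro ⟨-, hz, hzs⟩
      obtain ⟨g, hg, he⟩ := phi_fr h hzs
      obtain ⟨u, hu, hu'⟩ := fr_inner hM hP htop hn hg
      refine ⟨⟨u, hu⟩, Finset.mem_univ _, ?_⟩
      show u * y * u⁻¹ = z
      rw [← hu' y (Subgroup.mem_zpowers y), he]
    · rintro ⟨t, -, rfl⟩
      refine ⟨Finset.mem_univ _, P.mul_mem (P.mul_mem t.2 hy) (P.inv_mem t.2), ?_⟩
      apply phi_conj _ h
      refine ⟨Subgroup.le_normalizer t.2, fix_self hP.be t.2⟩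
  rw [h1, nil_defect hM hB hP htop hn hy hs h]
  exact orbit_card P y

open Classical in
/-- sums over the subsections of a nilpotent block -/
theorem nil_sum {ξ : G → ℂ} (hξ : Stab p P E ξ) :
    ∑ s ∈ asecs p M B, ccs p P E ξ s * ((p ^ blockDefect p s.2 : ℕ) : ℂ)⁻¹ =
      (Nat.card P : ℂ)⁻¹ * ∑ y : G, if y ∈ P then ξ y else 0 := by
  have h1 : ∀ s ∈ asecs p M B, ccs p P E ξ s * ((p ^ blockDefect p s.2 : ℕ) : ℂ)⁻¹ =
      (Nat.card P : ℂ)⁻¹ * ∑ y : G, if y ∈ P ∧ PhiRel M p P E y s then ξ y else 0 := by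
    intro s hs
    obtain ⟨y, hy, hys⟩ := asec_surj hM hB hP htop hs
    have h2 := nil_fiber hM hB hP htop hn hy hs hys
    have h3 : ∑ y : G, (if y ∈ P ∧ PhiRel M p P E y s then ξ y else 0) =
        ((Finset.univ.filter fun z : G => z ∈ P ∧ PhiRel M p P E z s).card : ℂ) * ccs p P E ξ s := by
      rw [← Finset.sum_filter, Finset.sum_congr rfl (g := fun _ => ccs p P E ξ s), Finset.sum_const, nsmul_eq_mul]
      intro z hz
      exact (phi_val hξ (Finset.mem_filter.1 hz).2.2).symm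
    rw [h3, ← h2]
    have h4 : ((Finset.univ.filter fun z : G => z ∈ P ∧ PhiRel M p P E z s).card : ℂ) ≠ 0 := by
      have : 0 < Nat.card P := Nat.card_pos
      rw [← h2] at this
      exact_mod_cast (Nat.pos_of_mul_pos_right this).ne'
    have h5 : ((p ^ blockDefect p s.2 : ℕ) : ℂ) ≠ 0 := by exact_mod_cast (pow_pos hp.out.pos _).ne'
    rw [Nat.cast_mul]
    field_simp
  rw [Finset.sum_congr rfl h1, ← Finset.mul_sum, Finset.sum_comm]
  congr 1
  refine Finset.sum_congr rfl fun y _ => ?_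
  split_ifs with hy
  · obtain ⟨s, hs, hys⟩ := asec_exists hM hB hP hy
    rw [Finset.sum_eq_single_of_mem s hs, if_pos ⟨hy, hys⟩]
    intro s' hs' hne
    rw [if_neg]
    rintro ⟨-, h'⟩
    exact hne (asec_unique hP hs' hs hy h' hys)
  · refine Finset.sum_eq_zero fun s _ => ?_
    rw [if_neg (fun h => hy h.1)]

end nil

end Cfsg.Agent.H25.STp
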