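import Cfsg.Agent.H25_STp

/-! Nilpotent blocks: the characters are `η ∗ χ₀`. -/

set_option autoImplicit false
set_option linter.unusedSectionVars false

open scoped ComplexConjugate commutatorElement

namespace Cfsg.Agent.H25.STq

open Cfsg Cfsg.Agent.H3 Cfsg.Agent.H3.CharBasic Cfsg.Agent.H3.CharIrr Cfsg.Agent.H3.CharComplete
  Cfsg.Agent.H3.CharGal
  Cfsg.Agent.H25.Brauer Cfsg.Agent.H10.BlockTrace Cfsg.Agent.H25.BrauerP
  Cfsg.Agent.H10.Char Cfsg.Agent.H10.BlockLoc Cfsg.Agent.H10.BlockAlg Cfsg.Agent.H10.BlockIdem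
  Cfsg.Agent.H10.BlockOrth Cfsg.Agent.H10.BlockHZ
  Cfsg.Agent.H10.BlockSMT Cfsg.Agent.H10.BlockSMT2 Cfsg.Agent.H10.PPart Cfsg.Agent.H10.BlockPrin
  Cfsg.Agent.H25.BlockReg
  Cfsg.Agent.H25.STa Cfsg.Agent.H25.STb Cfsg.Agent.H25.STc Cfsg.Agent.H25.STd
  Cfsg.Agent.H25.STe Cfsg.Agent.H25.STf Cfsg.Agent.H25.STg Cfsg.Agent.H25.STh Cfsg.Agent.H25.STi
  Cfsg.Agent.H25.STj Cfsg.Agent.H25.STk Cfsg.Agent.H25.STl Cfsg.Agent.H25.STm Cfsg.Agent.H25.STn
  Cfsg.Agent.H25.STo Cfsg.Agent.H25.STp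
  Cfsg.Agent.H25.KG Cfsg.Agent.H25.Red Cfsg.Agent.H25.BPTr Cfsg.Agent.H25.BPMain Cfsg.Agent.H25.BPDef
  Cfsg.Agent.H25.Fus Cfsg.Agent.H25.Nilp
  Cfsg.Agent.H25.AbSec Cfsg.Agent.H25.AbSec2 Cfsg.Agent.H25.Sub Cfsg.Agent.H25.Sub2 Cfsg.Agent.H25.Sub3 Cfsg.Agent.H25.Sub5
  Cfsg.Agent.H25.Sub7 Cfsg.Agent.H25.Sub8
  Cfsg.Agent.H25.Avg

variable {p : ℕ} {M : Ideal AlgInt} {G : Type*} [Group G] [Fintype G] [hMax : M.IsMaximal]
  [hp : Fact p.Prime] [hch : CharP (KM M) p] {P : Subgroup G} {E : MonoidAlgebra (KM M) G}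
  {B : Set (IrrCharacter G)}

section herm
variable {x : G} [Fintype (Subgroup.centralizer ({x} : Set G))] [Fintype (IrrCharacter G)]
  [Fintype (IrrCharacter (Subgroup.centralizer ({x} : Set G)))]

/-- the contributions in the cyclotomic field of `p^a`-th roots of unity -/
noncomputable def ND (p : ℕ) [Fact p.Prime] (x : G) [Fintype (Subgroup.centralizer ({x} : Set G))]
    [Fintype (IrrCharacter (Subgroup.centralizer ({x} : Set G)))]
    (hx : ∃ k : ℕ, orderOf x = p ^ k)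
    (b : Set (IrrCharacter (Subgroup.centralizer ({x} : Set G))))
    (χ ψ : IrrCharacter G) : Cyc (p ^ (Nat.card G).factorization p) :=
  ⟨NN p x b χ ψ, by
    haveI : NeZero (orderOf x) := ⟨(orderOf_pos x).ne'⟩
    exact Cyc_mono (ord_dvd x hx) (NN_mem b χ ψ)⟩

theorem ND_coe (hx : ∃ k : ℕ, orderOf x = p ^ k) (b : Set (IrrCharacter (Subgroup.centralizer ({x} : Set G))))
    (χ ψ : IrrCharacter G) : (ND p x hx b χ ψ : ℂ) = NN p x b χ ψ := rfl

theorem ND_herm (hM : IsPModular p M) (hx : ∃ k : ℕ, orderOf x = p ^ k)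
    {b : Set (IrrCharacter (Subgroup.centralizer ({x} : Set G)))} (hb : IsPBlock M b) :
    Herm (ND p x hx b) (p ^ blockDefect p b) where
  int := fun χ ψ => NN_integral b χ ψ
  herm := fun χ ψ => by
    rw [ND_coe, ND_coe]
    unfold NN
    rw [map_mul, Complex.conj_natCast, mm_herm]
  mul := fun χ ρ => by
    apply Subtype.ext
    push_cast
    simp only [ND_coe]
    unfold NN
    have h1 := mm_mul hM hx hb χ ρ
    rw [← h1]
    push_cast
    rw [Finset.mul_sum, Finset.mul_sum]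
    refine Finset.sum_congr rfl fun ψ _ => ?_
    ring

theorem ND_real (hM : IsPModular p M) (hx : ∃ k : ℕ, orderOf x = p ^ k)
    {b : Set (IrrCharacter (Subgroup.centralizer ({x} : Set G)))} (hb : IsPBlock M b) (χ : IrrCharacter G)
    (σ : Gm (p ^ (Nat.card G).factorization p)) :
    (σ (ND p x hx b χ χ) : ℂ) = (((σ (ND p x hx b χ χ) : ℂ).re : ℝ) : ℂ) ∧ 0 ≤ (σ (ND p x hx b χ χ) : ℂ).re := by
  have h := ND_herm hM hx hb
  constructor
  · have := conj_gal σ (ND p x hx b χ χ) (ND p x hx b χ χ) (h.herm χ χ)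
    exact ((Complex.conj_eq_iff_re).1 this.symm).symm
  · have h1 := h.row σ χ
    have h2 : (0 : ℝ) ≤ ((p ^ blockDefect p b : ℕ) : ℝ) * (σ (ND p x hx b χ χ) : ℂ).re := by
      rw [← h1]; exact Finset.sum_nonneg fun j _ => by positivity
    have hq' : (0 : ℝ) < ((p ^ blockDefect p b : ℕ) : ℝ) := by exact_mod_cast pow_pos hp.out.pos _
    exact nonneg_of_mul_nonneg_right h2 hq'

end herm

section gen
variable (hM : IsPModular p M) (hB : IsPBlock M B) (hP : BP p (epG M B) P E) (htop : KG.Top p P E)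

include hM hB hP htop

theorem ccs_one {s : Σ x : G, Set (IrrCharacter (Subgroup.centralizer ({x} : Set G)))} (hs : s ∈ asecs p M B) :
    ccs p P E (fun _ => 1) s = 1 := by
  obtain ⟨h1, h2⟩ := mem_asecs.1 hs
  exact cc_one_ind hM hB hP htop (reps_p p h1) h2

theorem sum_mmC {χ : IrrCharacter G} (hχ : χ ∈ B) : ∑ s ∈ asecs p M B, mmC p χ χ s = 1 := by
  classical
  have h1 := inner_secs hM hB hP htop (η := fun _ => 1) stab_one χ χ
  rw [st_one hM hB hP htop hχ, ci_irr χ.2 χ.2, if_pos rfl] at h1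
  rw [h1]
  refine Finset.sum_congr rfl fun s hs => ?_
  rw [ccs_one hM hB hP htop hs, one_mul]

/-- a general form of `st_lin` -/
theorem st_irr {η : G → ℂ} (hη : Stab p P E η) (hg : GC P η) {χ : IrrCharacter G} (hχ : χ ∈ B)
    (hn : classInner (st p P E η (χ : G → ℂ)) (st p P E η (χ : G → ℂ)) = 1) {k : ℕ} (hk : 0 < k) (h1 : η 1 = (k : ℂ))
    {m : ℕ} (hv : ∀ u ∈ P, η u ∈ Cyc (p ^ m)) (hm : ∀ u : G, (∃ k : ℕ, orderOf u = p ^ k) → orderOf u ∣ p ^ m) :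
    ∃ ψ : IrrCharacter G, ψ ∈ B ∧ st p P E η (χ : G → ℂ) = (ψ : G → ℂ) ∧ (ψ : G → ℂ) 1 = (k : ℂ) * (χ : G → ℂ) 1 := by
  classical
  haveI : Fintype (IrrCharacter G) := Fintype.ofFinite _
  have hcl := zz_class hη (IsIrr.isClass χ.2)
  have e1 := hn
  rw [ci_eq_sum _ _ hcl] at e1
  obtain ⟨ψ, hψ0, hψ⟩ := unit_vec (n := p ^ m) (fun ψ : IrrCharacter G => classInner (st p P E η (χ : G → ℂ)) (ψ : G → ℂ))
    (fun ψ => (coef_Rp hM hη (fun u hu => hg.int' hu) hv hm χ ψ).1)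
    (fun ψ => coef_int hM hP htop hη hg hv hm χ ψ) e1
  have hψB : ψ ∈ B := by
    by_contra hcon
    apply hψ0
    show classInner (st p P E η (χ : G → ℂ)) (ψ : G → ℂ) = 0
    rw [st_adj hM hη (IsIrr.isClass χ.2) (IsIrr.isClass ψ.2), st_notMem hM hB hP htop _ hcon, ci_zero_right]
  set c := classInner (st p P E η (χ : G → ℂ)) (ψ : G → ℂ) with hc
  have e2 : st p P E η (χ : G → ℂ) = c • (ψ : G → ℂ) := by
    rw [expand _ hcl, Finset.sum_eq_single_of_mem ψ (Finset.mem_univ _)]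
    intro j _ hj
    rw [hψ j hj, zero_smul]
  rw [Finset.sum_eq_single_of_mem ψ (Finset.mem_univ _) (fun j _ hj => by
    rw [show classInner (st p P E η (χ : G → ℂ)) (j : G → ℂ) = 0 from hψ j hj, zero_mul])] at e1
  have e3 : c * (ψ : G → ℂ) 1 = (k : ℂ) * (χ : G → ℂ) 1 := by
    have := congrFun e2 1
    rw [Pi.smul_apply, smul_eq_mul] at this
    rw [← this, st_reg hM hB hP htop hη hχ (by rw [orderOf_one]; exact hp.out.one_lt.ne' ∘ Nat.dvd_one.1), h1]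
  have ha : ((charDegree (χ : G → ℂ) : ℝ) : ℂ) = (χ : G → ℂ) 1 := by
    rw [← charDegree_eq χ.2]; push_cast; rfl
  have hb : ((charDegree (ψ : G → ℂ) : ℝ) : ℂ) = (ψ : G → ℂ) 1 := by
    rw [← charDegree_eq ψ.2]; push_cast; rfl
  have ha0 : (0 : ℝ) < charDegree (χ : G → ℂ) := by exact_mod_cast charDegree_pos χ.2
  have hb0 : (0 : ℝ) < charDegree (ψ : G → ℂ) := by exact_mod_cast charDegree_pos ψ.2
  have hk0 : (0 : ℝ) < (k : ℝ) := by exact_mod_cast hk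
  have e4 : c = ((k * charDegree (χ : G → ℂ) / charDegree (ψ : G → ℂ) : ℝ) : ℂ) := by
    have : ((charDegree (ψ : G → ℂ) : ℝ) : ℂ) ≠ 0 := by exact_mod_cast hb0.ne'
    rw [Complex.ofReal_div, eq_div_iff this, hb, e3, Complex.ofReal_mul, ha]
    simp
  have e5 : c = 1 := by
    rw [← hc, e4, Complex.conj_ofReal, ← Complex.ofReal_mul] at e1
    have e6 : (k * charDegree (χ : G → ℂ) / charDegree (ψ : G → ℂ) : ℝ) * (k * charDegree (χ : G → ℂ) / charDegree (ψ : G → ℂ) : ℝ) = 1 := by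
      exact_mod_cast e1
    have e7 : (0 : ℝ) < (k * charDegree (χ : G → ℂ) / charDegree (ψ : G → ℂ) : ℝ) := div_pos (mul_pos hk0 ha0) hb0
    have e8 : (k * charDegree (χ : G → ℂ) / charDegree (ψ : G → ℂ) : ℝ) = 1 := by nlinarith
    rw [e4, e8, Complex.ofReal_one]
  refine ⟨ψ, hψB, by rw [e2, e5, one_smul], ?_⟩
  rw [← e3, e5, one_mul]

omit hP htop in
theorem nn_ne_zero {χ₀ ψ : IrrCharacter G} (h : χ₀ ∈ B) (h0 : blockHeight p B (χ₀ : G → ℂ) = 0) (hψ : ψ ∈ B) :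
    nn p χ₀ ψ ≠ 0 := by
  obtain ⟨κ, h1, h2, -, h3⟩ := exists_kappa hM hB
  intro hn
  have h4 := h3 χ₀ h ψ hψ
  rw [hn, Int.cast_zero, zero_div, zero_sub] at h4
  have h5 : MemLocalIdeal M (κ * (ff p B χ₀ : ℂ)) := by
    have := ideal_neg h4
    rwa [neg_neg] at this
  rcases ideal_of_mul h1 (ring_natCast _) h5 with h6 | h6
  · exact h2 h6
  · exact ff_zero h h0 ((ideal_natCast_iff hM _).1 h6)

omit hB hP htop in
open Classical in
theorem cc_sum {ι : Type*} (t : Finset ι) (c : ι → ℂ) (η : ι → G → ℂ) (hη : ∀ i ∈ t, Stab p P E (η i)) (u : G)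
    (f : MonoidAlgebra (KM M) G) :
    cc p P E (fun g => ∑ i ∈ t, c i * η i g) u f = ∑ i ∈ t, c i * cc p P E (η i) u f := by
  have h3 : Stab p P E (fun g => ∑ i ∈ t, c i * η i g) := fun u hu g hg =>
    Finset.sum_congr rfl fun i hi => by rw [hη i hi u hu g hg]
  by_cases h : ∃ x, LE p (Subgroup.zpowers (x * u * x⁻¹)) (KG.cnj x f) P E
  · obtain ⟨x, hx⟩ := h
    rw [cc_eq h3 hx]
    exact Finset.sum_congr rfl fun i hi => by rw [cc_eq (hη i hi) hx]
  · rw [cc_zero h]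
    symm
    exact Finset.sum_eq_zero fun i _ => by rw [cc_zero h, mul_zero]

omit hB hP htop in
theorem st_sum {ι : Type*} (t : Finset ι) (c : ι → ℂ) (η : ι → G → ℂ) (hη : ∀ i ∈ t, Stab p P E (η i)) {χ : G → ℂ}
    (hχ : IsClassFunction G χ) :
    st p P E (fun g => ∑ i ∈ t, c i * η i g) χ = ∑ i ∈ t, c i • st p P E (η i) χ := by
  classical
  refine fun_eq_of_sec (p := p) fun u hu y hy => ?_
  haveI : Fintype (Subgroup.centralizer ({u} : Set G)) := Fintype.ofFinite _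
  rw [st_eq _ hχ hu y hy, Finset.sum_apply]
  simp_rw [Pi.smul_apply, smul_eq_mul, st_eq _ hχ hu y hy, cc_sum hM t c η hη]
  simp_rw [Finset.sum_mul, Finset.mul_sum]
  rw [Finset.sum_comm]
  exact Finset.sum_congr rfl fun i _ => Finset.sum_congr rfl fun b _ => by ring

end gen

end Cfsg.Agent.H25.STq
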