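import Cfsg.Agent.H25_STq

/-! Nilpotent blocks: the characters are `η ∗ χ₀`. -/

set_option autoImplicit false
set_option linter.unusedSectionVars false

open scoped ComplexConjugate commutatorElement

namespace Cfsg.Agent.H25.STr

open Cfsg Cfsg.Agent.H3 Cfsg.Agent.H3.CharBasic Cfsg.Agent.H3.CharIrr Cfsg.Agent.H3.CharComplete
  Cfsg.Agent.H3.CharGal
  Cfsg.Agent.H25.Brauer Cfsg.Agent.H10.BlockTrace Cfsg.Agent.H25.BrauerP
  Cfsg.Agent.H10.Char Cfsg.Agent.H10.BlockLoc Cfsg.Agent.H10.BlockAlg Cfsg.Agent.H10.BlockIdem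
  Cfsg.Agent.H10.BlockOrth Cfsg.Agent.H10.BlockHZ
  Cfsg.Agent.H10.BlockSMT Cfsg.Agent.H10.BlockSMT2 Cfsg.Agent.H10.PPart Cfsg.Agent.H10.BlockPrin
  Cfsg.Agent.H25.BlockReg Cfsg.Agent.H25.BlockReg3
  Cfsg.Agent.H25.STa Cfsg.Agent.H25.STb Cfsg.Agent.H25.STc Cfsg.Agent.H25.STd
  Cfsg.Agent.H25.STe Cfsg.Agent.H25.STf Cfsg.Agent.H25.STg Cfsg.Agent.H25.STh Cfsg.Agent.H25.STi
  Cfsg.Agent.H25.STj Cfsg.Agent.H25.STk Cfsg.Agent.H25.STl Cfsg.Agent.H25.STm Cfsg.Agent.H25.STn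
  Cfsg.Agent.H25.STo Cfsg.Agent.H25.STp Cfsg.Agent.H25.STq
  Cfsg.Agent.H25.KG Cfsg.Agent.H25.Red Cfsg.Agent.H25.BPTr Cfsg.Agent.H25.BPMain Cfsg.Agent.H25.BPDef
  Cfsg.Agent.H25.Fus Cfsg.Agent.H25.Nilp
  Cfsg.Agent.H25.AbSec Cfsg.Agent.H25.AbSec2 Cfsg.Agent.H25.Sub Cfsg.Agent.H25.Sub2 Cfsg.Agent.H25.Sub3 Cfsg.Agent.H25.Sub5
  Cfsg.Agent.H25.Sub7 Cfsg.Agent.H25.Sub8
  Cfsg.Agent.H25.Avg

variable {p : ℕ} {M : Ideal AlgInt} {G : Type*} [Group G] [Fintype G] [hMax : M.IsMaximal]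
  [hp : Fact p.Prime] [hch : CharP (KM M) p] {P : Subgroup G} {E : MonoidAlgebra (KM M) G}
  {B : Set (IrrCharacter G)}

open Classical in
/-- extension by zero of a function on `P` -/
noncomputable def xf (P : Subgroup G) (η : P → ℂ) (u : G) : ℂ := if h : u ∈ P then η ⟨u, h⟩ else 0

theorem xf_mem (η : P → ℂ) {u : G} (h : u ∈ P) : xf P η u = η ⟨u, h⟩ := by
  unfold xf; rw [dif_pos h]

theorem xf_gc {η : P → ℂ} (h : ∀ [Fintype P], IsCharacter P η) : GC P (xf P η) := by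
  intro inst
  have h1 : IntSpan η := IsChar.intSpan h
  convert h1 using 2
  rename_i u
  exact xf_mem η u.2

theorem pow_one_of (hP : IsPGroup p P) {u : G} (h : u ∈ P) : u ^ (p ^ (Nat.card G).factorization p) = 1 := by
  have h1 : ∃ k : ℕ, orderOf u = p ^ k := by
    obtain ⟨k, hk⟩ := (IsPGroup.iff_orderOf.1 hP) ⟨u, h⟩
    rw [Subgroup.orderOf_mk] at hk
    exact ⟨k, hk⟩
  exact orderOf_dvd_iff_pow_eq_one.1 (ord_dvd u h1)

section nil
variable (hM : IsPModular p M) (hB : IsPBlock M B) (hP : BP p (epG M B) P E) (htop : KG.Top p P E)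
  (hn : Nilp p (epG M B))

include hM hB hP htop hn

omit hB in
theorem xf_stab {η : P → ℂ} (h : IsClassFunction P η) : Stab p P E (xf P η) := by
  intro u hu g hg
  obtain ⟨w, hw, he⟩ := fr_inner hM hP htop hn hg
  have e := he u (Subgroup.mem_zpowers u)
  have h2 : g * u * g⁻¹ ∈ P := by
    rw [e]; exact P.mul_mem (P.mul_mem hw hu) (P.inv_mem hw)
  rw [xf_mem η h2, xf_mem η hu, ← h ⟨u, hu⟩ ⟨w, hw⟩]
  congr 1
  apply Subtype.ext
  exact e

/-- the contributions of a height zero character in a nilpotent block -/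
theorem nil_mmC {χ : IrrCharacter G} (hχ : χ ∈ B) (h0 : blockHeight p B (χ : G → ℂ) = 0) :
    ∀ s ∈ asecs p M B, mmC p χ χ s = ((p ^ blockDefect p s.2 : ℕ) : ℂ)⁻¹ := by
  classical
  haveI : Fintype (IrrCharacter G) := Fintype.ofFinite _
  set n := p ^ (Nat.card G).factorization p with hndef
  -- the elements
  have hex : ∀ s : Σ x : G, Set (IrrCharacter (Subgroup.centralizer ({x} : Set G))), s ∈ asecs p M B →
      ∃ x : Cyc n, x ≠ 0 ∧ IsIntegral ℤ (x : ℂ) ∧ (∀ σ : Gm n, (σ x : ℂ) = (((σ x : ℂ).re : ℝ) : ℂ)) ∧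
        (∀ σ : Gm n, 0 ≤ (σ x : ℂ).re) ∧ (x : ℂ) = ((p ^ blockDefect p s.2 : ℕ) : ℂ) * mmC p χ χ s := by
    rintro ⟨u, b⟩ hs
    obtain ⟨h1, h2⟩ := mem_asecs.1 hs
    have hu := reps_p p h1
    simp only at h1 h2 hu
    letI : Fintype (Subgroup.centralizer ({u} : Set G)) := Fintype.ofFinite _
    haveI : Fintype (IrrCharacter (Subgroup.centralizer ({u} : Set G))) := Fintype.ofFinite _
    refine ⟨ND p u hu b χ χ, ?_, NN_integral b χ χ, fun σ => (ND_real hM hu h2.1 χ σ).1,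
      fun σ => (ND_real hM hu h2.1 χ σ).2, rfl⟩
    intro h
    apply NN_unit hM hu h2 hχ h0 hχ h0
    rw [← ND_coe hu, h]
    exact ideal_zero
  choose! X hX0 hXi hXre hXnn hXv using hex
  have hq0 : ∀ s : Σ x : G, Set (IrrCharacter (Subgroup.centralizer ({x} : Set G))),
      ((p ^ blockDefect p s.2 : ℕ) : ℂ) ≠ 0 := fun s => by exact_mod_cast (pow_pos hp.out.pos _).ne'
  have e1 : ∑ s ∈ asecs p M B, ((p ^ blockDefect p s.2 : ℕ) : Cyc n)⁻¹ * X s = 1 := by
    apply Subtype.ext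
    push_cast
    have h1 := sum_mmC hM hB hP htop hχ
    rw [← h1]
    refine Finset.sum_congr rfl fun s hs => ?_
    rw [hXv s hs]
    have := hq0 s
    push_cast at this ⊢
    field_simp
  have e2 : ∑ s ∈ asecs p M B, ((p ^ blockDefect p s.2 : ℕ) : ℂ)⁻¹ = 1 := by
    have h1 := nil_sum hM hB hP htop hn (ξ := fun _ => 1) stab_one
    rw [Finset.sum_congr rfl fun s hs => by rw [ccs_one hM hB hP htop hs, one_mul]] at h1
    rw [h1, ← Finset.sum_filter, Finset.sum_const, nsmul_eq_mul, mul_one]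
    have h2 : (Finset.univ.filter fun y : G => y ∈ P).card = Nat.card P := by
      rw [Nat.card_eq_fintype_card, Fintype.card_subtype]
    rw [h2]
    apply inv_mul_cancel₀
    have : 0 < Nat.card P := Nat.card_pos
    exact_mod_cast this.ne'
  have e3 : ∑ s ∈ asecs p M B, ((p ^ blockDefect p s.2 : ℕ) : ℝ)⁻¹ = 1 := by
    have : ((∑ s ∈ asecs p M B, ((p ^ blockDefect p s.2 : ℕ) : ℝ)⁻¹ : ℝ) : ℂ) = 1 := by
      rw [← e2]; push_cast; rfl
    exact_mod_cast this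
  have e4 : ∀ σ : Gm n, ∑ s ∈ asecs p M B, ((p ^ blockDefect p s.2 : ℕ) : ℝ)⁻¹ * (σ (X s) : ℂ).re = 1 := by
    intro σ
    have h1 := congrArg (fun x : Cyc n => ((σ x : Cyc n) : ℂ)) e1
    simp only [map_sum, map_mul, map_inv₀, map_natCast, map_one] at h1
    push_cast at h1
    have h2 := congrArg Complex.re h1
    rw [Complex.re_sum, Complex.one_re] at h2
    rw [← h2]
    refine Finset.sum_congr rfl fun s hs => ?_
    rw [hXre s hs σ]
    have : ((((p : ℂ) ^ blockDefect p s.2)⁻¹ : ℂ)) = ((((p ^ blockDefect p s.2 : ℕ) : ℝ)⁻¹ : ℝ) : ℂ) := by push_cast; rfl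
    rw [this, ← Complex.ofReal_mul, Complex.ofReal_re, Complex.ofReal_re]
  have e5 : ∑ s ∈ asecs p M B, ((p ^ blockDefect p s.2 : ℕ) : ℝ)⁻¹ * (∑ σ : Gm n, (σ (X s) : ℂ).re) = Fintype.card (Gm n) := by
    have h1 : ∑ σ : Gm n, ∑ s ∈ asecs p M B, ((p ^ blockDefect p s.2 : ℕ) : ℝ)⁻¹ * (σ (X s) : ℂ).re = Fintype.card (Gm n) := by
      rw [Finset.sum_congr rfl fun σ _ => e4 σ]; simp
    rw [Finset.sum_comm] at h1
    rw [← h1]
    exact Finset.sum_congr rfl fun s _ => by rw [Finset.mul_sum]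
  have e6 : ∑ s ∈ asecs p M B, ((p ^ blockDefect p s.2 : ℕ) : ℝ)⁻¹ *
      ((∑ σ : Gm n, (σ (X s) : ℂ).re) - Fintype.card (Gm n)) = 0 := by
    simp_rw [mul_sub]
    rw [Finset.sum_sub_distrib, e5, ← Finset.sum_mul, e3, one_mul, sub_self]
  have hqr : ∀ s : Σ x : G, Set (IrrCharacter (Subgroup.centralizer ({x} : Set G))),
      (0 : ℝ) < ((p ^ blockDefect p s.2 : ℕ) : ℝ)⁻¹ := fun s => inv_pos.2 (by exact_mod_cast pow_pos hp.out.pos _)
  have e7 := (Finset.sum_eq_zero_iff_of_nonneg (fun s hs => mul_nonneg (hqr s).le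
    (sub_nonneg.2 (tot_one (hX0 s hs) (hXi s hs) (hXre s hs) (hXnn s hs)).1))).1 e6
  intro s hs
  have h1 := e7 s hs
  have h2 : (∑ σ : Gm n, (σ (X s) : ℂ).re) = Fintype.card (Gm n) :=
    sub_eq_zero.1 ((mul_eq_zero.1 h1).resolve_left (hqr s).ne')
  have h3 := (tot_one (hX0 s hs) (hXi s hs) (hXre s hs) (hXnn s hs)).2 h2
  rw [hXv s hs] at h3
  exact eq_inv_of_mul_eq_one_right h3

open Classical in
/-- the inner products of the `η ∗ χ₀` -/
theorem nil_inner {χ : IrrCharacter G} (hχ : χ ∈ B) (h0 : blockHeight p B (χ : G → ℂ) = 0) {η η' : G → ℂ}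
    (hη : Stab p P E η) (hη' : Stab p P E η') :
    classInner (st p P E η (χ : G → ℂ)) (st p P E η' (χ : G → ℂ)) =
      (Nat.card P : ℂ)⁻¹ * ∑ y : G, if y ∈ P then η y * conj (η' y) else 0 := by
  have hcl := IsIrr.isClass χ.2
  rw [st_adj hM hη hcl (zz_class hη' hcl), st_st hM hη' (stab_conj hη) hcl, ← ci_conj_symm,
    inner_secs hM hB hP htop (stab_mul (stab_conj hη) hη')]
  rw [Finset.sum_congr rfl fun s hs => by rw [nil_mmC hM hB hP htop hn hχ h0 s hs],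
    nil_sum hM hB hP htop hn (stab_mul (stab_conj hη) hη'), map_mul, map_inv₀, Complex.conj_natCast, map_sum]
  congr 1
  refine Finset.sum_congr rfl fun y _ => ?_
  split_ifs
  · rw [map_mul, Complex.conj_conj]
  · rw [map_zero]

theorem nil_inner' [Fintype P] {χ : IrrCharacter G} (hχ : χ ∈ B) (h0 : blockHeight p B (χ : G → ℂ) = 0)
    (η η' : IrrCharacter P) :
    classInner (st p P E (xf P (η : P → ℂ)) (χ : G → ℂ)) (st p P E (xf P (η' : P → ℂ)) (χ : G → ℂ)) =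
      classInner (η : P → ℂ) (η' : P → ℂ) := by
  classical
  rw [nil_inner hM hB hP htop hn hχ h0 (xf_stab hM hP htop hn (IsIrr.isClass η.2))
    (xf_stab hM hP htop hn (IsIrr.isClass η'.2))]
  unfold classInner
  congr 1
  rw [← Finset.sum_filter]
  symm
  refine Finset.sum_bij (fun (u : P) _ => (u : G)) ?_ ?_ ?_ ?_
  · intro u _
    exact Finset.mem_filter.2 ⟨Finset.mem_univ _, u.2⟩
  · intro a _ b _ hab
    exact Subtype.ext hab
  · intro b hb
    exact ⟨⟨b, (Finset.mem_filter.1 hb).2⟩, Finset.mem_univ _, rfl⟩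
  · intro a _
    rw [xf_mem _ a.2, xf_mem _ a.2]

theorem nil_irr [Fintype P] {χ : IrrCharacter G} (hχ : χ ∈ B) (h0 : blockHeight p B (χ : G → ℂ) = 0)
    (η : IrrCharacter P) : ∃ ψ : IrrCharacter G, ψ ∈ B ∧ st p P E (xf P (η : P → ℂ)) (χ : G → ℂ) = (ψ : G → ℂ) ∧
      (ψ : G → ℂ) 1 = (charDegree (η : P → ℂ) : ℂ) * (χ : G → ℂ) 1 := by
  classical
  refine st_irr hM hB hP htop (xf_stab hM hP htop hn (IsIrr.isClass η.2)) ?_ hχ ?_ (charDegree_pos η.2) ?_
    (m := (Nat.card G).factorization p) ?_ (fun u hu => ord_dvd u hu)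
  · apply xf_gc
    intro inst
    have := IsIrr.isCharacter η.2
    convert this
  · rw [nil_inner' hM hB hP htop hn hχ h0 η η, ci_irr η.2 η.2, if_pos rfl]
  · rw [xf_mem _ P.one_mem, charDegree_eq η.2]
    rfl
  · intro u hu
    rw [xf_mem _ hu]
    apply IsChar.mem_cyc (IsIrr.isCharacter η.2)
    apply Subtype.ext
    exact pow_one_of hP.pg hu

theorem nil_surj [Fintype P] {χ : IrrCharacter G} (hχ : χ ∈ B) (h0 : blockHeight p B (χ : G → ℂ) = 0)
    {ψ : IrrCharacter G} (hψ : ψ ∈ B) : ∃ η : IrrCharacter P, st p P E (xf P (η : P → ℂ)) (χ : G → ℂ) = (ψ : G → ℂ) := by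
  classical
  haveI : Fintype (IrrCharacter P) := Fintype.ofFinite _
  by_contra hcon
  push Not at hcon
  have h1 : ∀ η : IrrCharacter P, classInner (st p P E (xf P (η : P → ℂ)) (χ : G → ℂ)) (ψ : G → ℂ) = 0 := by
    intro η
    obtain ⟨ψ', hψ', he, -⟩ := nil_irr hM hB hP htop hn hχ h0 η
    rw [he, ci_irr ψ'.2 ψ.2, if_neg]
    intro h
    exact hcon η (he.trans h)
  have h2 := st_sum (P := P) (E := E) hM Finset.univ (fun η : IrrCharacter P => (η : P → ℂ) 1) (fun η => xf P (η : P → ℂ))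
    (fun η _ => xf_stab hM hP htop hn (IsIrr.isClass η.2)) (IsIrr.isClass χ.2)
  set ρ : G → ℂ := fun g => ∑ η : IrrCharacter P, (η : P → ℂ) 1 * xf P (η : P → ℂ) g with hρ
  have hρs : Stab p P E ρ := fun u hu g hg =>
    Finset.sum_congr rfl fun η _ => by rw [xf_stab hM hP htop hn (IsIrr.isClass η.2) u hu g hg]
  have hρv : ∀ u ∈ P, ρ u = if u = 1 then (Nat.card P : ℂ) else 0 := by
    intro u hu
    have h3 := sum_one_mul (G := P) ⟨u, hu⟩
    have h4 : ρ u = ∑ η : IrrCharacter P, (η : P → ℂ) 1 * (η : P → ℂ) ⟨u, hu⟩ :=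
      Finset.sum_congr rfl fun η _ => by rw [xf_mem _ hu]
    rw [h4, h3]
    congr 1
    simp only [eq_iff_iff]
    constructor
    · intro h; exact congrArg Subtype.val h
    · intro h; exact Subtype.ext h
  have h3 : classInner (st p P E ρ (χ : G → ℂ)) (ψ : G → ℂ) = 0 := by
    rw [h2, ci_sum_left]
    exact Finset.sum_eq_zero fun η _ => by rw [ci_smul_left, h1 η, mul_zero]
  -- the values
  have h4 : ∀ g : G, st p P E ρ (χ : G → ℂ) g = if p ∣ orderOf g then 0 else (Nat.card P : ℂ) * (χ : G → ℂ) g := by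
    intro g
    split_ifs with hg
    · obtain ⟨u, s, hus, hc, hu, hs⟩ := exists_ppart (p := p) g
      have hu1 : u ≠ 1 := by
        rintro rfl
        rw [one_mul] at hus
        rw [hus] at hs
        exact hs hg
      haveI : Fintype (Subgroup.centralizer ({u} : Set G)) := Fintype.ofFinite _
      have h5 := st_eq (p := p) (P := P) (E := E) ρ (IsIrr.isClass χ.2) hu
        ⟨s, Subgroup.mem_centralizer_singleton_iff.2 hc.symm⟩ (by rwa [Subgroup.orderOf_mk])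
      rw [← hus]
      simp only at h5
      rw [h5]
      refine Finset.sum_eq_zero fun b _ => ?_
      have h6 : cc p P E ρ u (ep M (Subgroup.centralizer ({u} : Set G)) b) = 0 := by
        by_cases h : ∃ x, LE p (Subgroup.zpowers (x * u * x⁻¹)) (KG.cnj x (ep M (Subgroup.centralizer ({u} : Set G)) b)) P E
        · obtain ⟨x, hx⟩ := h
          rw [cc_eq hρs hx, hρv _ (Subgroup.zpowers_le.1 hx.le), if_neg]
          intro h
          apply hu1
          have : u = x⁻¹ * (x * u * x⁻¹) * x := by group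
          rw [this, h]; group
        · exact cc_zero h
      rw [h6, zero_mul]
    · rw [st_reg hM hB hP htop hρs hχ hg, hρv 1 P.one_mem, if_pos rfl]
  have h5 : classInner (st p P E ρ (χ : G → ℂ)) (ψ : G → ℂ) = (Nat.card P : ℂ) * ((Nat.card G : ℂ)⁻¹ *
      ∑ x ∈ Finset.univ.filter (fun x : G => ¬ p ∣ orderOf x), (χ : G → ℂ) x * conj ((ψ : G → ℂ) x)) := by
    unfold classInner
    rw [Finset.sum_filter, mul_left_comm, Finset.mul_sum (a := (Nat.card P : ℂ))]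
    congr 1
    refine Finset.sum_congr rfl fun g _ => ?_
    rw [h4 g]
    split_ifs
    · simp
    · ring
  have h6 := nn_eq (p := p) χ ψ
  have h7 := nn_ne_zero hM hB hχ h0 hψ
  apply h7
  have hP0 : (Nat.card P : ℂ) ≠ 0 := by
    have : 0 < Nat.card P := Nat.card_pos
    exact_mod_cast this.ne'
  rw [h3] at h5
  have h8 := (mul_eq_zero.1 h5.symm).resolve_left hP0
  have h9 : (nn p χ ψ : ℂ) = 0 := by
    rw [h6, mul_left_comm, h8, mul_zero]
  exact_mod_cast h9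

end nil

end Cfsg.Agent.H25.STr
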