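import Cfsg.Agent.H25_STr

/-! Nilpotent blocks: main theorem. -/

set_option autoImplicit false
set_option linter.unusedSectionVars false

open scoped ComplexConjugate commutatorElement

namespace Cfsg.Agent.H25.STs

open Cfsg Cfsg.Agent.H3 Cfsg.Agent.H3.CharBasic Cfsg.Agent.H3.CharIrr Cfsg.Agent.H3.CharComplete
  Cfsg.Agent.H3.CharGal
  Cfsg.Agent.H25.Brauer Cfsg.Agent.H10.BlockTrace Cfsg.Agent.H25.BrauerP
  Cfsg.Agent.H10.Char Cfsg.Agent.H10.BlockLoc Cfsg.Agent.H10.BlockAlg Cfsg.Agent.H10.BlockIdem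
  Cfsg.Agent.H10.BlockOrth Cfsg.Agent.H10.BlockHZ
  Cfsg.Agent.H10.BlockSMT Cfsg.Agent.H10.BlockSMT2 Cfsg.Agent.H10.PPart Cfsg.Agent.H10.BlockPrin
  Cfsg.Agent.H25.BlockReg Cfsg.Agent.H25.BlockReg3
  Cfsg.Agent.H25.STk Cfsg.Agent.H25.STl Cfsg.Agent.H25.STm Cfsg.Agent.H25.STn
  Cfsg.Agent.H25.STo Cfsg.Agent.H25.STp Cfsg.Agent.H25.STq Cfsg.Agent.H25.STr
  Cfsg.Agent.H25.KG Cfsg.Agent.H25.Red Cfsg.Agent.H25.BPTr Cfsg.Agent.H25.BPMain Cfsg.Agent.H25.BPDef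
  Cfsg.Agent.H25.Fus Cfsg.Agent.H25.Nilp
  Cfsg.Agent.H25.AbSec Cfsg.Agent.H25.AbSec2 Cfsg.Agent.H25.Sub Cfsg.Agent.H25.Sub2 Cfsg.Agent.H25.Sub3 Cfsg.Agent.H25.Sub5
  Cfsg.Agent.H25.Sub7 Cfsg.Agent.H25.Sub8
  Cfsg.Agent.H25.Avg

variable {p : ℕ} {M : Ideal AlgInt} {G : Type*} [Group G] [Fintype G] [hMax : M.IsMaximal]
  [hp : Fact p.Prime] [hch : CharP (KM M) p] {P : Subgroup G} {E : MonoidAlgebra (KM M) G}
  {B : Set (IrrCharacter G)}

/-- existence of maximal pairs -/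
theorem exists_max (hB : IsPBlock M B) : ∃ P E, BP p (epG M B) P E ∧ KG.Top p P E := by
  have h1 := isBlk_epG (M := M) hB
  have h2 : IsBlk (Ce (⊥ : Subgroup G)) (epG M B) := by rw [Ce_bot]; exact h1
  obtain ⟨P, E, ht, hle⟩ := exists_top (p := p) (IsPGroup.of_bot) h2
  have h3 : BP p (epG M B) ⊥ (epG M B) := ⟨IsPGroup.of_bot, h1, h2, by
    rw [Ce_bot, tr_of_supp h1.mem.1, h1.idem]⟩
  exact ⟨P, E, h3.up ht.pg ht.blk hle, ht⟩

/-- maximal pairs over a given defect group -/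
theorem exists_max_of (hM : IsPModular p M) (hB : IsPBlock M B) {P : Subgroup G} (hD : IsDefectGroup p M B P) :
    ∃ E, BP p (epG M B) P E ∧ KG.Top p P E := by
  obtain ⟨P0, E0, h1, h2⟩ := exists_max (p := p) hB
  have h3 := (defectG_iff hM hB).1 hD
  have h4 := BPDef.Top.dgh h2 h1
  obtain ⟨x, -, hx⟩ := h4.conj_eq h3
  subst hx
  exact ⟨KG.cnj x E0, h1.cnj x, h2.cnj x⟩

section nil
variable (hM : IsPModular p M) (hB : IsPBlock M B) (hn : Nilp p (epG M B))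

include hM hB hn

theorem nil_main (hP : BP p (epG M B) P E) (htop : KG.Top p P E) [Fintype P] :
    ∃ χ₀ : IrrCharacter G, χ₀ ∈ B ∧ blockHeight p B (χ₀ : G → ℂ) = 0 ∧ ∃ Ψ : IrrCharacter P ≃ B,
      ∀ η : IrrCharacter P, ∀ y : G, ¬ p ∣ orderOf y →
        ((Ψ η : IrrCharacter G) : G → ℂ) y = (charDegree (η : P → ℂ) : ℂ) * (χ₀ : G → ℂ) y := by
  classical
  obtain ⟨χ₀, hχ, h0⟩ := exists_height_zero (p := p) hB
  refine ⟨χ₀, hχ, h0, ?_⟩
  choose Ψ hΨB hΨ hΨ1 using fun η : IrrCharacter P => nil_irr hM hB hP htop hn hχ h0 η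
  have hinj : Function.Injective Ψ := by
    intro η η' he
    by_contra hne
    have h1 := nil_inner' hM hB hP htop hn hχ h0 η η'
    rw [hΨ, hΨ, he, ci_irr (Ψ η').2 (Ψ η').2, if_pos rfl, ci_irr η.2 η'.2, if_neg (fun h => hne (Subtype.ext h))] at h1
    exact one_ne_zero h1
  refine ⟨Equiv.ofBijective (fun η => (⟨Ψ η, hΨB η⟩ : B)) ⟨?_, ?_⟩, ?_⟩
  · intro η η' h
    exact hinj (congrArg Subtype.val h)
  · rintro ⟨ψ, hψ⟩
    obtain ⟨η, hη⟩ := nil_surj hM hB hP htop hn hχ h0 hψ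
    exact ⟨η, Subtype.ext (Subtype.ext ((hΨ η).symm.trans hη))⟩
  · intro η y hy
    show (Ψ η : G → ℂ) y = _
    rw [← hΨ η, st_reg hM hB hP htop (xf_stab hM hP htop hn (IsIrr.isClass η.2)) hχ hy, xf_mem _ P.one_mem, charDegree_eq η.2]
    rfl

/-- S4689 -/
theorem nil_rank : blockRank p B = 1 ∧ ∃ χ₀ ∈ B, ∀ χ ∈ B, ∃ d : ℕ, ∀ x : G,
    pRegularPart p (χ : G → ℂ) x = (d : ℂ) * pRegularPart p (χ₀ : G → ℂ) x := by
  classical
  obtain ⟨P, E, hP, htop⟩ := exists_max (p := p) hB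
  haveI : Fintype P := Fintype.ofFinite _
  obtain ⟨χ₀, hχ, h0, Ψ, hΨ⟩ := nil_main hM hB hn hP htop
  have h1 : ∀ χ ∈ B, ∃ d : ℕ, ∀ x : G, pRegularPart p (χ : G → ℂ) x = (d : ℂ) * pRegularPart p (χ₀ : G → ℂ) x := by
    intro χ hχB
    obtain ⟨η, hη⟩ := Ψ.surjective ⟨χ, hχB⟩
    refine ⟨charDegree (η : P → ℂ), fun x => ?_⟩
    rw [pReg_apply, pReg_apply]
    split_ifs with hx
    · rw [mul_zero]
    · rw [← hΨ η x hx, hη]
  refine ⟨?_, χ₀, hχ, h1⟩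
  have hne : pRegularPart p (χ₀ : G → ℂ) ≠ 0 := by
    intro h
    have h2 : pRegularPart p (χ₀ : G → ℂ) 1 = 0 := congrFun h 1
    rw [pReg_apply, if_neg (by rw [orderOf_one]; exact hp.out.one_lt.ne' ∘ Nat.dvd_one.1)] at h2
    exact IsIrr.one_ne_zero χ₀.2 h2
  unfold blockRank
  have h2 : Submodule.span ℂ ((fun χ : IrrCharacter G => pRegularPart p (χ : G → ℂ)) '' B) =
      Submodule.span ℂ {pRegularPart p (χ₀ : G → ℂ)} := by
    apply le_antisymm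
    · rw [Submodule.span_le]
      rintro _ ⟨χ, hχB, rfl⟩
      obtain ⟨d, hd⟩ := h1 χ hχB
      rw [SetLike.mem_coe, Submodule.mem_span_singleton]
      exact ⟨(d : ℂ), funext fun x => (hd x).symm⟩
    · rw [Submodule.span_le, Set.singleton_subset_iff]
      exact Submodule.subset_span ⟨χ₀, hχ, rfl⟩
  rw [h2, finrank_span_singleton hne]

/-- S4690 -/
theorem nil_equiv {P : Subgroup G} (hD : IsDefectGroup p M B P) : ∃ Φ : B ≃ IrrCharacter P, ∀ χ : B,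
    blockHeight p B ((χ : IrrCharacter G) : G → ℂ) = (charDegree ((Φ χ : IrrCharacter P) : P → ℂ)).factorization p := by
  classical
  obtain ⟨E, hP, htop⟩ := exists_max_of hM hB hD
  haveI : Fintype P := Fintype.ofFinite _
  obtain ⟨χ₀, hχ, h0, Ψ, hΨ⟩ := nil_main hM hB hn hP htop
  refine ⟨Ψ.symm, fun χ => ?_⟩
  obtain ⟨η, rfl⟩ := Ψ.surjective χ
  rw [Equiv.symm_apply_apply]
  have h1 : charDegree ((Ψ η : IrrCharacter G) : G → ℂ) = charDegree (η : P → ℂ) * charDegree (χ₀ : G → ℂ) := by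
    have h2 := hΨ η 1 (by rw [orderOf_one]; exact hp.out.one_lt.ne' ∘ Nat.dvd_one.1)
    rw [← charDegree_eq (Ψ η : IrrCharacter G).2, ← charDegree_eq χ₀.2] at h2
    exact_mod_cast h2
  have h3 : (charDegree (χ₀ : G → ℂ)).factorization p - sInf ((fun ψ : IrrCharacter G =>
      (charDegree (ψ : G → ℂ)).factorization p) '' B) = 0 := h0
  have h4 : sInf ((fun ψ : IrrCharacter G => (charDegree (ψ : G → ℂ)).factorization p) '' B) ≤
      (charDegree (χ₀ : G → ℂ)).factorization p := Nat.sInf_le ⟨χ₀, hχ, rfl⟩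
  unfold blockHeight
  rw [h1, Nat.factorization_mul (charDegree_pos η.2).ne' (charDegree_pos χ₀.2).ne', Finsupp.add_apply]
  omega

end nil

end Cfsg.Agent.H25.STs
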