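import Cfsg.Agent.H25_Sub3

/-! Parity of averaged contributions for `p = 2`. -/

open scoped ComplexConjugate

namespace Cfsg.Agent.H25.Sub4

open Cfsg Cfsg.Agent.H3 Cfsg.Agent.H3.CharBasic Cfsg.Agent.H3.CharIrr Cfsg.Agent.H3.CharComplete
  Cfsg.Agent.H25.Brauer Cfsg.Agent.H25.BrauerP Cfsg.Agent.H25.Elem
  Cfsg.Agent.H10.Char Cfsg.Agent.H10.BlockLoc Cfsg.Agent.H10.BlockAlg Cfsg.Agent.H10.BlockIdem
  Cfsg.Agent.H10.BlockOrth Cfsg.Agent.H10.BlockHZ Cfsg.Agent.H10.BlockInd Cfsg.Agent.H10.PPart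
  Cfsg.Agent.H10.BlockSMT Cfsg.Agent.H10.BlockSMT2 Cfsg.Agent.H10.BlockPrin
  Cfsg.Agent.H25.BlockReg Cfsg.Agent.H25.BlockReg2 Cfsg.Agent.H25.BlockReg3 Cfsg.Agent.H25.IndCong
  Cfsg.Agent.H25.Sub Cfsg.Agent.H25.Sub2 Cfsg.Agent.H25.Avg Cfsg.Agent.H3.CharGal
  Cfsg.Agent.H25.Sub3

theorem sym_even {I : Type*} [Fintype I] [DecidableEq I] (g : I → I → ℤ) (h : ∀ i j, g i j = g j i) :
    (2 : ℤ) ∣ ∑ i, ∑ j, g i j - ∑ i, g i i := by
  have h1 : ∑ i, ∑ j, g i j - ∑ i, g i i = ∑ x ∈ Finset.univ.offDiag, g x.1 x.2 := by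
    rw [← Finset.sum_product', Finset.univ_product_univ]
    have : (Finset.univ : Finset (I × I)) = Finset.univ.diag ∪ Finset.univ.offDiag := by
      rw [Finset.diag_union_offDiag, Finset.univ_product_univ]
    rw [this, Finset.sum_union (Finset.disjoint_diag_offDiag _)]
    have h2 : ∑ x ∈ (Finset.univ : Finset I).diag, g x.1 x.2 = ∑ i, g i i := by
      rw [Finset.sum_diag]
    rw [h2]
    ring
  rw [h1]
  have h2 : ((∑ x ∈ (Finset.univ : Finset I).offDiag, g x.1 x.2 : ℤ) : ZMod 2) = 0 := by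
    push_cast
    refine Finset.sum_involution (fun a _ => (a.2, a.1)) ?_ ?_ ?_ ?_
    · intro a _
      show ((g a.1 a.2 : ℤ) : ZMod 2) + ((g a.2 a.1 : ℤ) : ZMod 2) = 0
      rw [h a.2 a.1]
      exact CharTwo.add_self_eq_zero _
    · intro a ha _ he
      rw [Finset.mem_offDiag] at ha
      exact ha.2.2 (congrArg Prod.snd he)
    · intro a ha
      rw [Finset.mem_offDiag] at ha ⊢
      exact ⟨ha.2.1, ha.1, ha.2.2.symm⟩
    · intro a _
      rfl
  exact (ZMod.intCast_zmod_eq_zero_iff_dvd _ 2).1 h2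

open Classical in
/-- the average of a root of unity of 2-power order -/
noncomputable def eps (w : ℂ) : ℤ := if w = 1 then 1 else if w = -1 then -1 else 0

theorem eps_one : eps 1 = 1 := by rw [eps, if_pos rfl]

theorem eps_conj (w : ℂ) : eps (conj w) = eps w := by
  unfold eps
  have h1 : conj w = 1 ↔ w = 1 := by
    constructor
    · intro h
      have := congrArg (starRingEnd ℂ) h
      simpa using this
    · rintro rfl; simp
  have h2 : conj w = -1 ↔ w = -1 := by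
    constructor
    · intro h
      have := congrArg (starRingEnd ℂ) h
      simpa using this
    · rintro rfl; simp
  simp only [h1, h2]

theorem av_root {n : ℕ} [NeZero n] (hn : ∃ m : ℕ, n = 2 ^ m) (w : Cyc n) (hw : (w : ℂ) ^ n = 1) :
    av w = (eps (w : ℂ) : ℂ) := by
  obtain ⟨m, hm⟩ := hn
  unfold eps
  by_cases h1 : (w : ℂ) = 1
  · rw [if_pos h1]
    have : w = ((1 : ℕ) : Cyc n) := Subtype.ext (by rw [h1]; simp)
    rw [this, av_nat]
    norm_num
  · rw [if_neg h1]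
    by_cases h2 : (w : ℂ) = -1
    · rw [if_pos h2]
      have : w = ((-1 : ℤ) : Cyc n) * ((1 : ℕ) : Cyc n) := Subtype.ext (by rw [h2]; simp)
      rw [this, av_int_mul, av_nat]
      norm_num
    · rw [if_neg h2]
      -- the order of w is 2^(k+2)
      have hwn : (w : ℂ) ^ (2 ^ m) = 1 := by rw [← hm]; exact hw
      obtain ⟨k, hk1, hk2⟩ := (Nat.dvd_prime_pow Nat.prime_two).1 (orderOf_dvd_of_pow_eq_one hwn)
      have hk : 2 ≤ k := by
        by_contra hk
        have : k = 0 ∨ k = 1 := by omega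
        rcases this with rfl | rfl
        · rw [pow_zero, orderOf_eq_one_iff] at hk2
          exact h1 hk2
        · rw [pow_one] at hk2
          have h3 : (w : ℂ) ^ 2 = 1 := by rw [← hk2]; exact pow_orderOf_eq_one _
          have h4 : ((w : ℂ) - 1) * ((w : ℂ) + 1) = 0 := by linear_combination h3
          rcases mul_eq_zero.1 h4 with h | h
          · exact h1 (sub_eq_zero.1 h)
          · exact h2 (eq_neg_of_add_eq_zero_left h)
      have h3 : (w : ℂ) ^ (2 ^ (k - 1)) = -1 := by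
        have h4 : ((w : ℂ) ^ (2 ^ (k - 1))) ^ 2 = 1 := by
          rw [← pow_mul, ← pow_succ, Nat.sub_add_cancel (by omega), ← hk2]
          exact pow_orderOf_eq_one _
        have h5 : (w : ℂ) ^ (2 ^ (k - 1)) ≠ 1 := by
          intro h
          have h6 := orderOf_dvd_of_pow_eq_one h
          rw [hk2] at h6
          have := (Nat.pow_dvd_pow_iff_le_right (by norm_num : 1 < 2)).1 h6
          omega
        have h6 : ((w : ℂ) ^ (2 ^ (k - 1)) - 1) * ((w : ℂ) ^ (2 ^ (k - 1)) + 1) = 0 := by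
          linear_combination h4
        rcases mul_eq_zero.1 h6 with h | h
        · exact absurd (sub_eq_zero.1 h) h5
        · exact eq_neg_of_add_eq_zero_left h
      have hcop : (1 + 2 ^ (k - 1)).Coprime n := by
        rw [hm]
        refine Nat.Coprime.pow_right _ ?_
        rw [Nat.coprime_two_right]
        have : Even (2 ^ (k - 1)) := (Nat.even_pow.2 ⟨even_two, by omega⟩)
        exact this.one_add
      obtain ⟨σ, hσ⟩ := exists_gal n _ hcop
      have h4 : σ w = ((-1 : ℤ) : Cyc n) * w := by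
        apply Subtype.ext
        rw [hσ w hw, pow_add, pow_one, h3]
        push_cast
        ring
      have h5 := av_gal σ w
      rw [h4, av_int_mul] at h5
      have h6 : (2 : ℂ) * av w = 0 := by
        push_cast at h5
        linear_combination -h5
      rcases mul_eq_zero.1 h6 with h | h
      · norm_num at h
      · rw [h]; norm_num

section
variable {M : Ideal AlgInt} {G : Type*} [Group G] [Fintype G] {x : G}
  [Fintype (Subgroup.centralizer ({x} : Set G))]
  [Fintype (IrrCharacter G)]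
  [Fintype (IrrCharacter (Subgroup.centralizer ({x} : Set G)))]

local instance two_fact' : Fact (Nat.Prime 2) := ⟨Nat.prime_two⟩

open Classical in
/-- coefficients -/
noncomputable def cf (x : G) [Fintype (Subgroup.centralizer ({x} : Set G))]
    (b : Set (IrrCharacter (Subgroup.centralizer ({x} : Set G)))) (χ : IrrCharacter G)
    (φ φ' : IrrCharacter (Subgroup.centralizer ({x} : Set G))) : ℤ :=
  if φ ∈ b ∧ φ' ∈ b then (aa (Subgroup.centralizer ({x} : Set G)) χ φ *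
    aa (Subgroup.centralizer ({x} : Set G)) χ φ' * kk 2 b φ φ' : ℤ) else 0

theorem cf_symm (b : Set (IrrCharacter (Subgroup.centralizer ({x} : Set G)))) (χ : IrrCharacter G)
    (φ φ' : IrrCharacter (Subgroup.centralizer ({x} : Set G))) : cf x b χ φ φ' = cf x b χ φ' φ := by
  unfold cf
  by_cases h1 : φ ∈ b <;> by_cases h2 : φ' ∈ b <;> simp only [h1, h2, and_self, and_true, and_false,
    if_true, if_false, true_and, false_and]
  rw [kk_symm]
  ring

theorem NN_cf (b : Set (IrrCharacter (Subgroup.centralizer ({x} : Set G)))) (χ : IrrCharacter G) :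
    NN 2 x b χ χ = ∑ φ, ∑ φ', (cf x b χ φ φ' : ℂ) * (zl (zz x) φ * conj (zl (zz x) φ')) := by
  classical
  rw [NN_eq]
  refine Finset.sum_congr rfl fun φ _ => Finset.sum_congr rfl fun φ' _ => ?_
  unfold cf
  by_cases h : φ ∈ b ∧ φ' ∈ b
  · rw [if_pos h, if_pos h]
  · rw [if_neg h, if_neg h]; simp

/-- the averaged diagonal contribution as an integer -/
noncomputable def Tz (x : G) [Fintype (Subgroup.centralizer ({x} : Set G))]
    [Fintype (IrrCharacter (Subgroup.centralizer ({x} : Set G)))]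
    (b : Set (IrrCharacter (Subgroup.centralizer ({x} : Set G)))) (χ : IrrCharacter G) : ℤ :=
  ∑ φ, ∑ φ', cf x b χ φ φ' * eps (zl (zz x) φ * conj (zl (zz x) φ'))

theorem Tz_eq (hx : ∃ k : ℕ, orderOf x = 2 ^ k)
    (b : Set (IrrCharacter (Subgroup.centralizer ({x} : Set G)))) (χ : IrrCharacter G) :
    Herm.T (NC 2 x b) χ = (Tz x b χ : ℝ) := by
  have hw : ∀ φ φ', (zl (zz x) φ * conj (zl (zz x) φ')) ^ orderOf x = 1 := by
    intro φ φ'
    rw [mul_pow, ← map_pow, zl_ord, zl_ord, map_one, mul_one]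
  have h1 : NC 2 x b χ χ = ∑ φ, ∑ φ', ((cf x b χ φ φ' : ℤ) : Cyc (orderOf x)) *
      (⟨zl (zz x) φ * conj (zl (zz x) φ'), root_mem (hw φ φ')⟩ : Cyc (orderOf x)) := by
    apply Subtype.ext
    rw [NC_coe, NN_cf]
    push_cast
    rfl
  have h2 : av (NC 2 x b χ χ) = ((Tz x b χ : ℝ) : ℂ) := by
    rw [h1, av_sum]
    unfold Tz
    push_cast
    refine Finset.sum_congr rfl fun φ _ => ?_
    rw [av_sum]
    refine Finset.sum_congr rfl fun φ' _ => ?_
    rw [av_int_mul, av_root hx _ (hw φ φ')]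
  unfold Herm.T
  rw [h2, Complex.ofReal_re]

theorem Tz_odd (hM : IsPModular 2 M) (hx : ∃ k : ℕ, orderOf x = 2 ^ k)
    {b : Set (IrrCharacter (Subgroup.centralizer ({x} : Set G)))} {χ : IrrCharacter G}
    (h : ¬ MemLocalIdeal M (NN 2 x b χ χ)) : ¬ (2 : ℤ) ∣ Tz x b χ := by
  classical
  haveI := hM.2.1
  intro hd
  apply h
  have h1 := sym_even (fun φ φ' => cf x b χ φ φ') (cf_symm b χ)
  have h2 := sym_even (fun φ φ' => cf x b χ φ φ' * eps (zl (zz x) φ * conj (zl (zz x) φ')))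
    (fun φ φ' => by
      show cf x b χ φ φ' * eps (zl (zz x) φ * conj (zl (zz x) φ')) =
        cf x b χ φ' φ * eps (zl (zz x) φ' * conj (zl (zz x) φ))
      rw [cf_symm, ← eps_conj (zl (zz x) φ' * conj (zl (zz x) φ)), map_mul, Complex.conj_conj,
        mul_comm (conj (zl (zz x) φ'))])
  have h3 : ∀ φ : IrrCharacter (Subgroup.centralizer ({x} : Set G)),
      cf x b χ φ φ * eps (zl (zz x) φ * conj (zl (zz x) φ)) = cf x b χ φ φ := by
    intro φ
    rw [zl_norm (p := 2) zz_comm, eps_one, mul_one]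
  simp only [h3] at h2
  have h4 : (2 : ℤ) ∣ ∑ φ, ∑ φ', cf x b χ φ φ' := by
    have h5 : (2 : ℤ) ∣ ∑ φ, cf x b χ φ φ := (dvd_sub_right hd).1 h2
    exact (dvd_sub_left h5).1 h1
  have h5 : MemLocalIdeal M ((∑ φ, ∑ φ', cf x b χ φ φ' : ℤ) : ℂ) := (ideal_intCast_iff hM _).2 h4
  have h6 : NN 2 x b χ χ = ((∑ φ, ∑ φ', cf x b χ φ φ' : ℤ) : ℂ) +
      ∑ φ, ∑ φ', (cf x b χ φ φ' : ℂ) * (zl (zz x) φ * conj (zl (zz x) φ') - 1) := by
    rw [NN_cf]
    push_cast
    rw [← Finset.sum_add_distrib]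
    refine Finset.sum_congr rfl fun φ _ => ?_
    rw [← Finset.sum_add_distrib]
    refine Finset.sum_congr rfl fun φ' _ => ?_
    ring
  rw [h6]
  refine ideal_add h5 (ideal_sum _ _ fun φ _ => ideal_sum _ _ fun φ' _ =>
    ideal_mul_left (ring_intCast _) ?_)
  obtain ⟨k, hk⟩ := hx
  refine root_sub_one_mem hM (k := k) ?_
  rw [mul_pow, ← map_pow, ← hk, zl_ord, zl_ord, map_one, mul_one]

theorem height_zero_facts (hM : IsPModular 2 M) (hx : ∃ k : ℕ, orderOf x = 2 ^ k)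
    {b : Set (IrrCharacter (Subgroup.centralizer ({x} : Set G)))} {B : Set (IrrCharacter G)}
    (hind : IsInducedBlock M (Subgroup.centralizer ({x} : Set G)) b B)
    (s : Finset (IrrCharacter G)) (hs : ∀ χ ∈ s, χ ∈ B ∧ blockHeight 2 B (χ : G → ℂ) = 0) :
    (∀ χ ∈ s, ¬ (2 : ℤ) ∣ Tz x b χ ∧ 1 ≤ Tz x b χ ∧ (s.card : ℤ) ≤ 2 ^ blockDefect 2 b * Tz x b χ) ∧
    ∑ χ ∈ s, Tz x b χ ≤ 2 ^ blockDefect 2 b * blockRank 2 b := by
  have h := NC_herm hM hx hind.1
  refine ⟨fun χ hχ => ⟨?_, ?_, ?_⟩, ?_⟩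
  · exact Tz_odd hM hx (NN_unit hM hx hind (hs χ hχ).1 (hs χ hχ).2 (hs χ hχ).1 (hs χ hχ).2)
  · have := h.one_le_T (q_pos b) χ
      (NC_ne hM hx hind (hs χ hχ).1 (hs χ hχ).2 (hs χ hχ).1 (hs χ hχ).2)
    rw [Tz_eq hx] at this
    exact_mod_cast this
  · have := h.count_le χ s (fun ψ hψ => NC_ne hM hx hind (hs χ hχ).1 (hs χ hχ).2 (hs ψ hψ).1 (hs ψ hψ).2)
    rw [Tz_eq hx] at this
    exact_mod_cast this
  · have h2 := Herm.T_sum (NC_trace hM hx hind.1)
    have h3 : ∑ χ ∈ s, Herm.T (NC 2 x b) χ ≤ ∑ χ, Herm.T (NC 2 x b) χ :=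
      Finset.sum_le_sum_of_subset_of_nonneg (Finset.subset_univ _)
        (fun χ _ _ => h.T_nonneg (q_pos b) χ)
    rw [h2, Finset.sum_congr rfl fun χ _ => Tz_eq hx b χ] at h3
    exact_mod_cast h3

end

end Cfsg.Agent.H25.Sub4
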