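import Cfsg.Agent.H25_Sub6

/-! Major subsections: valuations. -/

open scoped ComplexConjugate

namespace Cfsg.Agent.H25.Sub7

open Cfsg Cfsg.Agent.H3 Cfsg.Agent.H3.CharBasic Cfsg.Agent.H3.CharIrr Cfsg.Agent.H3.CharComplete
  Cfsg.Agent.H25.Brauer Cfsg.Agent.H25.BrauerP Cfsg.Agent.H25.Elem
  Cfsg.Agent.H10.Char Cfsg.Agent.H10.BlockLoc Cfsg.Agent.H10.BlockAlg Cfsg.Agent.H10.BlockIdem
  Cfsg.Agent.H10.BlockOrth Cfsg.Agent.H10.BlockHZ Cfsg.Agent.H10.BlockInd Cfsg.Agent.H10.PPart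
  Cfsg.Agent.H10.BlockSMT Cfsg.Agent.H10.BlockSMT2 Cfsg.Agent.H10.BlockPrin
  Cfsg.Agent.H25.BlockReg Cfsg.Agent.H25.BlockReg2 Cfsg.Agent.H25.BlockReg3 Cfsg.Agent.H25.IndCong
  Cfsg.Agent.H25.Sub Cfsg.Agent.H25.Sub2 Cfsg.Agent.H25.Avg Cfsg.Agent.H3.CharGal
  Cfsg.Agent.H25.Sub3 Cfsg.Agent.H25.Sub4 Cfsg.Agent.H25.Sub5 Cfsg.Agent.H25.Sub6

variable {p : ℕ} {M : Ideal AlgInt}

theorem integral_coprime {z : ℂ} {a b : ℕ} (hab : a.Coprime b) (ha : IsIntegral ℤ ((a : ℂ) * z))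
    (hb : IsIntegral ℤ ((b : ℂ) * z)) : IsIntegral ℤ z := by
  have h1 := Nat.gcd_eq_gcd_ab a b
  rw [hab.gcd_eq_one] at h1
  have h2 : z = ((a.gcdA b : ℤ) : ℂ) * ((a : ℂ) * z) + ((a.gcdB b : ℤ) : ℂ) * ((b : ℂ) * z) := by
    have h3 : (1 : ℂ) = (a : ℂ) * ((a.gcdA b : ℤ) : ℂ) + (b : ℂ) * ((a.gcdB b : ℤ) : ℂ) := by
      exact_mod_cast congrArg (fun n : ℤ => (n : ℂ)) h1
    linear_combination z * h3
  rw [h2]
  exact ((isIntegral_algebraMap (R := ℤ) (A := ℂ) (x := _)).mul ha).add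
    ((isIntegral_algebraMap (R := ℤ) (A := ℂ) (x := _)).mul hb)

section
variable {G : Type*} [Group G] [Fintype G] [hp : Fact p.Prime] {x : G}
  [Fintype (Subgroup.centralizer ({x} : Set G))]
  [Fintype (IrrCharacter G)]
  [Fintype (IrrCharacter (Subgroup.centralizer ({x} : Set G)))]

theorem ff_split {B : Set (IrrCharacter G)} {χ : IrrCharacter G} (h : χ ∈ B) :
    ∃ u : ℕ, ¬ p ∣ u ∧ ff p B χ = p ^ blockHeight p B (χ : G → ℂ) * u := by
  refine ⟨ff p B χ / p ^ (ff p B χ).factorization p, Nat.not_dvd_ordCompl hp.out (ff_ne h), ?_⟩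
  rw [← ff_fact h]
  exact (Nat.mul_div_cancel' (Nat.ordProj_dvd _ _)).symm

/-- for a major subsection the normalised contribution is divisible by `p^{ht ψ}` -/
theorem maj_int (hM : IsPModular p M) (hx : ∃ k : ℕ, orderOf x = p ^ k)
    {b : Set (IrrCharacter (Subgroup.centralizer ({x} : Set G)))} (hb : IsPBlock M b)
    {B : Set (IrrCharacter G)} (hB : IsPBlock M B) (hmaj : blockDefect p b = blockDefect p B)
    (χ : IrrCharacter G) {ψ : IrrCharacter G} (hψ : ψ ∈ B) :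
    IsIntegral ℤ (NN p x b χ ψ / ((p ^ blockHeight p B (ψ : G → ℂ) : ℕ) : ℂ)) := by
  obtain ⟨R, hR, -, hR2⟩ := exists_R hM hx hb hB χ
  obtain ⟨u, hu, hf⟩ := ff_split (p := p) hψ
  have h1 := hR2 ψ hψ
  rw [← hmaj] at h1
  have hq : ((p ^ blockHeight p B (ψ : G → ℂ) : ℕ) : ℂ) ≠ 0 := by
    exact_mod_cast (pow_pos hp.out.pos _).ne'
  refine integral_coprime (a := Nat.card G / p ^ (Nat.card G).factorization p)
    (b := p ^ blockHeight p B (ψ : G → ℂ)) ?_ ?_ ?_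
  · refine Nat.Coprime.pow_right _ ?_
    exact (Nat.Prime.coprime_iff_not_dvd hp.out).2
      (Nat.not_dvd_ordCompl hp.out Nat.card_pos.ne') |>.symm
  · have h2 : ((Nat.card G / p ^ (Nat.card G).factorization p : ℕ) : ℂ) *
        (NN p x b χ ψ / ((p ^ blockHeight p B (ψ : G → ℂ) : ℕ) : ℂ)) = (u : ℂ) * R ψ := by
      have h3 : ((Nat.card G / p ^ (Nat.card G).factorization p : ℕ) : ℂ) * NN p x b χ ψ =
          ((p ^ blockHeight p B (ψ : G → ℂ) : ℕ) : ℂ) * ((u : ℂ) * R ψ) := by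
        have h4 : (ff p B ψ : ℂ) = ((p ^ blockHeight p B (ψ : G → ℂ) : ℕ) : ℂ) * (u : ℂ) := by
          rw [hf]; push_cast; ring
        rw [h4] at h1
        unfold NN
        rw [h1]; ring
      rw [← mul_div_assoc, h3, mul_div_cancel_left₀ _ hq]
    rw [h2]
    exact (isIntegral_algebraMap (R := ℤ) (A := ℂ) (x := (u : ℤ))).mul (hR ψ)
  · rw [mul_div_cancel₀ _ hq]
    exact NN_integral b χ ψ

theorem maj_unit (hM : IsPModular p M) (hx : ∃ k : ℕ, orderOf x = p ^ k)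
    {b : Set (IrrCharacter (Subgroup.centralizer ({x} : Set G)))}
    {B : Set (IrrCharacter G)} (hind : IsInducedBlock M (Subgroup.centralizer ({x} : Set G)) b B)
    (hmaj : blockDefect p b = blockDefect p B)
    {χ : IrrCharacter G} (hχ : χ ∈ B) (h0 : blockHeight p B (χ : G → ℂ) = 0)
    {ψ : IrrCharacter G} (hψ : ψ ∈ B) :
    ¬ MemLocalIdeal M (NN p x b χ ψ / ((p ^ blockHeight p B (ψ : G → ℂ) : ℕ) : ℂ)) := by
  haveI := hM.2.1
  obtain ⟨R, hR, hR1, hR2⟩ := exists_R hM hx hind.1 hind.2.1 χ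
  obtain ⟨u, hu, hf⟩ := ff_split (p := p) hψ
  have hq : ((p ^ blockHeight p B (ψ : G → ℂ) : ℕ) : ℂ) ≠ 0 := by
    exact_mod_cast (pow_pos hp.out.pos _).ne'
  have hRr : ∀ ψ, MemLocalRing M (R ψ) := fun ψ => memLocalRing_of_integral hM.2.1.ne_top (hR ψ)
  -- R χ is a unit
  have h1 : ¬ MemLocalIdeal M (R χ) := by
    intro h
    have h2 := hR2 χ hχ
    rw [← hmaj] at h2
    have h3 : MemLocalIdeal M (((Nat.card G / p ^ (Nat.card G).factorization p : ℕ) : ℂ) *
        NN p x b χ χ) := by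
      unfold NN
      rw [h2]
      exact ideal_mul_left (ring_natCast _) h
    rcases ideal_of_mul (ring_natCast _) (memLocalRing_of_integral hM.2.1.ne_top
      (NN_integral b χ χ)) h3 with h4 | h4
    · exact card_unit G hM h4
    · exact NN_unit hM hx hind hχ h0 hχ h0 h4
  intro h
  have h2 := hR2 ψ hψ
  rw [← hmaj] at h2
  have h3 : ((Nat.card G / p ^ (Nat.card G).factorization p : ℕ) : ℂ) *
        (NN p x b χ ψ / ((p ^ blockHeight p B (ψ : G → ℂ) : ℕ) : ℂ)) = (u : ℂ) * R ψ := by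
      have h3 : ((Nat.card G / p ^ (Nat.card G).factorization p : ℕ) : ℂ) * NN p x b χ ψ =
          ((p ^ blockHeight p B (ψ : G → ℂ) : ℕ) : ℂ) * ((u : ℂ) * R ψ) := by
        have h4 : (ff p B ψ : ℂ) = ((p ^ blockHeight p B (ψ : G → ℂ) : ℕ) : ℂ) * (u : ℂ) := by
          rw [hf]; push_cast; ring
        rw [h4] at h2
        unfold NN
        rw [h2]; ring
      rw [← mul_div_assoc, h3, mul_div_cancel_left₀ _ hq]
  have h4 : MemLocalIdeal M ((u : ℂ) * R ψ) := by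
    rw [← h3]; exact ideal_mul_left (ring_natCast _) h
  rcases ideal_of_mul (ring_natCast _) (hRr ψ) h4 with h5 | h5
  · exact hu ((ideal_natCast_iff hM _).1 h5)
  · apply h1
    have := ideal_add (hR1 χ hχ ψ hψ) h5
    rwa [sub_add_cancel] at this

theorem maj_ne (hM : IsPModular p M) (hx : ∃ k : ℕ, orderOf x = p ^ k)
    {b : Set (IrrCharacter (Subgroup.centralizer ({x} : Set G)))}
    {B : Set (IrrCharacter G)} (hind : IsInducedBlock M (Subgroup.centralizer ({x} : Set G)) b B)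
    (hmaj : blockDefect p b = blockDefect p B)
    {χ : IrrCharacter G} (hχ : χ ∈ B) (h0 : blockHeight p B (χ : G → ℂ) = 0)
    {ψ : IrrCharacter G} (hψ : ψ ∈ B) : NN p x b χ ψ ≠ 0 := by
  haveI := hM.2.1
  intro h
  apply maj_unit hM hx hind hmaj hχ h0 hψ
  rw [h, zero_div]
  exact ideal_zero

/-- for positive height the diagonal entry is even more divisible -/
theorem maj_diag (hM : IsPModular p M) (hx : ∃ k : ℕ, orderOf x = p ^ k)
    {b : Set (IrrCharacter (Subgroup.centralizer ({x} : Set G)))}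
    {B : Set (IrrCharacter G)} (hind : IsInducedBlock M (Subgroup.centralizer ({x} : Set G)) b B)
    (hmaj : blockDefect p b = blockDefect p B)
    {χ : IrrCharacter G} (hχ : χ ∈ B) (h0 : 1 ≤ blockHeight p B (χ : G → ℂ)) :
    MemLocalIdeal M (NN p x b χ χ / ((p ^ blockHeight p B (χ : G → ℂ) : ℕ) : ℂ)) := by
  haveI := hM.2.1
  obtain ⟨χ₀, hχ₀, hh⟩ := exists_height_zero (p := p) hind.2.1
  obtain ⟨R, hR, hR1, hR2⟩ := exists_R hM hx hind.1 hind.2.1 χ
  obtain ⟨u, hu, hf⟩ := ff_split (p := p) hχ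
  have hq : ((p ^ blockHeight p B (χ : G → ℂ) : ℕ) : ℂ) ≠ 0 := by
    exact_mod_cast (pow_pos hp.out.pos _).ne'
  have hRr : ∀ ψ, MemLocalRing M (R ψ) := fun ψ => memLocalRing_of_integral hM.2.1.ne_top (hR ψ)
  -- NN χ χ₀ is in the ideal
  have h1 : MemLocalIdeal M (NN p x b χ χ₀) := by
    have h2 := maj_int hM hx hind.1 hind.2.1 hmaj χ₀ hχ
    have h3 : NN p x b χ χ₀ = ((p ^ blockHeight p B (χ : G → ℂ) : ℕ) : ℂ) *
        conj (NN p x b χ₀ χ / ((p ^ blockHeight p B (χ : G → ℂ) : ℕ) : ℂ)) := by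
      rw [map_div₀, Complex.conj_natCast, mul_div_cancel₀ _ hq]
      unfold NN
      rw [map_mul, Complex.conj_natCast, mm_herm]
    rw [h3]
    refine ideal_mul_right ?_ (memLocalRing_of_integral hM.2.1.ne_top (isIntegral_conj h2))
    exact (ideal_natCast_iff hM _).2 (dvd_pow_self p (by omega))
  have h2 : MemLocalIdeal M (R χ₀) := by
    have h3 := hR2 χ₀ hχ₀
    rw [← hmaj] at h3
    have h4 : MemLocalIdeal M ((ff p B χ₀ : ℂ) * R χ₀) := by
      rw [← h3]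
      exact ideal_mul_left (ring_natCast _) h1
    rcases ideal_of_mul (ring_natCast _) (hRr _) h4 with h5 | h5
    · exact absurd ((ideal_natCast_iff hM _).1 h5) (ff_zero hχ₀ hh)
    · exact h5
  have h3 : MemLocalIdeal M (R χ) := by
    have := ideal_add (hR1 χ hχ χ₀ hχ₀) h2
    rwa [sub_add_cancel] at this
  have h4 := hR2 χ hχ
  rw [← hmaj] at h4
  have h5 : ((Nat.card G / p ^ (Nat.card G).factorization p : ℕ) : ℂ) *
        (NN p x b χ χ / ((p ^ blockHeight p B (χ : G → ℂ) : ℕ) : ℂ)) = (u : ℂ) * R χ := by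
      have h3 : ((Nat.card G / p ^ (Nat.card G).factorization p : ℕ) : ℂ) * NN p x b χ χ =
          ((p ^ blockHeight p B (χ : G → ℂ) : ℕ) : ℂ) * ((u : ℂ) * R χ) := by
        have h4' : (ff p B χ : ℂ) = ((p ^ blockHeight p B (χ : G → ℂ) : ℕ) : ℂ) * (u : ℂ) := by
          rw [hf]; push_cast; ring
        rw [h4'] at h4
        unfold NN
        rw [h4]; ring
      rw [← mul_div_assoc, h3, mul_div_cancel_left₀ _ hq]
  have h6 : MemLocalIdeal M (((Nat.card G / p ^ (Nat.card G).factorization p : ℕ) : ℂ) *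
        (NN p x b χ χ / ((p ^ blockHeight p B (χ : G → ℂ) : ℕ) : ℂ))) := by
    rw [h5]; exact ideal_mul_left (ring_natCast _) h3
  rcases ideal_of_mul (ring_natCast _) (memLocalRing_of_integral hM.2.1.ne_top
      (maj_int hM hx hind.1 hind.2.1 hmaj χ hχ)) h6 with h7 | h7
  · exact absurd h7 (card_unit G hM)
  · exact h7

/-- the diagonal entry is nonzero -/
theorem maj_diag_ne (hM : IsPModular p M) (hx : ∃ k : ℕ, orderOf x = p ^ k)
    {b : Set (IrrCharacter (Subgroup.centralizer ({x} : Set G)))}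
    {B : Set (IrrCharacter G)} (hind : IsInducedBlock M (Subgroup.centralizer ({x} : Set G)) b B)
    (hmaj : blockDefect p b = blockDefect p B)
    {χ : IrrCharacter G} (hχ : χ ∈ B) : NN p x b χ χ ≠ 0 := by
  haveI := hM.2.1
  obtain ⟨χ₀, hχ₀, hh⟩ := exists_height_zero (p := p) hind.2.1
  have h1 := maj_ne hM hx hind hmaj hχ₀ hh hχ
  intro h
  have h2 := (NC_herm hM hx hind.1).row 1 χ
  have h3 : (((1 : Gm (orderOf x)) (NC p x b χ χ) : Cyc (orderOf x)) : ℂ) = 0 := by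
    rw [AlgEquiv.one_apply, NC_coe, h]
  rw [h3, Complex.zero_re, mul_zero] at h2
  have h4 := (Finset.sum_eq_zero_iff_of_nonneg (fun j _ => by positivity)).1 h2 χ₀ (Finset.mem_univ _)
  rw [AlgEquiv.one_apply, NC_coe] at h4
  have h5 : NN p x b χ χ₀ = 0 := by
    have := pow_eq_zero_iff (two_ne_zero) |>.1 h4
    exact norm_eq_zero.1 this
  apply h1
  have h6 : NN p x b χ₀ χ = conj (NN p x b χ χ₀) := by
    unfold NN
    rw [map_mul, Complex.conj_natCast, mm_herm]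
  rw [h6, h5, map_zero]

/-- `k(B) ≤ p^d l(b)` for a major subsection -/
theorem card_le_major (hM : IsPModular p M) (hx : ∃ k : ℕ, orderOf x = p ^ k)
    {b : Set (IrrCharacter (Subgroup.centralizer ({x} : Set G)))}
    {B : Set (IrrCharacter G)} (hind : IsInducedBlock M (Subgroup.centralizer ({x} : Set G)) b B)
    (hmaj : blockDefect p b = blockDefect p B) :
    Nat.card B ≤ p ^ blockDefect p B * blockRank p b := by
  classical
  have h := NC_herm hM hx hind.1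
  have h2 := Herm.T_sum (NC_trace hM hx hind.1)
  set s : Finset (IrrCharacter G) := Finset.univ.filter (fun χ => χ ∈ B) with hs
  have h3 : ∑ χ ∈ s, Herm.T (NC p x b) χ ≤ ∑ χ, Herm.T (NC p x b) χ :=
    Finset.sum_le_sum_of_subset_of_nonneg (Finset.subset_univ _)
      (fun χ _ _ => h.T_nonneg (q_pos b) χ)
  rw [h2] at h3
  have h4 : (s.card : ℝ) ≤ ∑ χ ∈ s, Herm.T (NC p x b) χ := by
    have : (s.card : ℝ) = ∑ χ ∈ s, (1 : ℝ) := by rw [Finset.sum_const, nsmul_eq_mul, mul_one]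
    rw [this]
    refine Finset.sum_le_sum fun χ hχ => h.one_le_T (q_pos b) χ ?_
    intro h0
    exact maj_diag_ne hM hx hind hmaj (Finset.mem_filter.1 hχ).2 (by rw [← NC_coe, h0]; rfl)
  have h5 : s.card ≤ p ^ blockDefect p b * blockRank p b := by exact_mod_cast h4.trans h3
  rw [Nat.card_eq_fintype_card, Fintype.card_subtype, ← hmaj]
  exact h5

end

end Cfsg.Agent.H25.Sub7
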