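import Cfsg.Agent.H25_Major
import Cfsg.Agent.H25_Dom

/-! Subsections with one Brauer character; blocks with defect group of order two. -/

open scoped ComplexConjugate

namespace Cfsg.Agent.H25.Two

open Cfsg Cfsg.Agent.H3 Cfsg.Agent.H3.CharBasic Cfsg.Agent.H3.CharIrr Cfsg.Agent.H3.CharComplete
  Cfsg.Agent.H25.Brauer Cfsg.Agent.H25.BrauerP Cfsg.Agent.H25.Elem
  Cfsg.Agent.H10.Char Cfsg.Agent.H10.BlockLoc Cfsg.Agent.H10.BlockAlg Cfsg.Agent.H10.BlockIdem
  Cfsg.Agent.H10.BlockOrth Cfsg.Agent.H10.BlockHZ Cfsg.Agent.H10.BlockInd Cfsg.Agent.H10.PPart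
  Cfsg.Agent.H10.BlockSMT Cfsg.Agent.H10.BlockSMT2 Cfsg.Agent.H10.BlockPrin
  Cfsg.Agent.H10.BlockDefect Cfsg.Agent.H10.BlockMain
  Cfsg.Agent.H25.BlockReg Cfsg.Agent.H25.BlockReg2 Cfsg.Agent.H25.BlockReg3 Cfsg.Agent.H25.IndCong
  Cfsg.Agent.H25.Sub Cfsg.Agent.H25.Major

variable {p : ℕ} {M : Ideal AlgInt}

section
variable {G : Type*} [Group G] [Fintype G] [hp : Fact p.Prime] {x : G}
  [Fintype (Subgroup.centralizer ({x} : Set G))]
  [Fintype (IrrCharacter G)]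
  [Fintype (IrrCharacter (Subgroup.centralizer ({x} : Set G)))]

open Classical in
/-- generalized decomposition number for a subsection with one Brauer character -/
noncomputable def qq (b : Set (IrrCharacter (Subgroup.centralizer ({x} : Set G))))
    (z : Subgroup.centralizer ({x} : Set G))
    (d : IrrCharacter (Subgroup.centralizer ({x} : Set G)) → ℕ) (χ : IrrCharacter G) : ℂ :=
  ∑ φ : IrrCharacter (Subgroup.centralizer ({x} : Set G)), if φ ∈ b then
    classInner (fun h : Subgroup.centralizer ({x} : Set G) => (χ : G → ℂ) h)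
      (φ : Subgroup.centralizer ({x} : Set G) → ℂ) * zl z φ * (d φ : ℂ) else 0

open Classical in
theorem bp_qq (z : Subgroup.centralizer ({x} : Set G)) (hzx : (z : G) = x)
    {b : Set (IrrCharacter (Subgroup.centralizer ({x} : Set G)))}
    {φ0 : Subgroup.centralizer ({x} : Set G) → ℂ}
    {d : IrrCharacter (Subgroup.centralizer ({x} : Set G)) → ℕ}
    (hd : ∀ φ ∈ b, ∀ y, ¬ p ∣ orderOf y → (φ : Subgroup.centralizer ({x} : Set G) → ℂ) y = d φ * φ0 y)
    (χ : IrrCharacter G) (y : Subgroup.centralizer ({x} : Set G)) (hy : ¬ p ∣ orderOf y) :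
    bp x b (χ : G → ℂ) y = qq b z d χ * φ0 y := by
  rw [bp, sec_part z hzx χ b y, qq, Finset.sum_mul]
  refine Finset.sum_congr rfl fun φ _ => ?_
  split_ifs with h
  · rw [hd φ h y hy]; ring
  · rw [zero_mul]

theorem reg_one : ¬ p ∣ orderOf (1 : Subgroup.centralizer ({x} : Set G)) := by
  rw [orderOf_one]; exact hp.out.one_lt.ne' ∘ Nat.dvd_one.1

theorem exists_qq (hM : IsPModular p M)
    {b : Set (IrrCharacter (Subgroup.centralizer ({x} : Set G)))} (hb : IsPBlock M b)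
    (hl : blockRank p b = 1) : ∃ (φ0 : Subgroup.centralizer ({x} : Set G) → ℂ)
      (d : IrrCharacter (Subgroup.centralizer ({x} : Set G)) → ℕ),
      (∀ φ ∈ b, ∀ y, ¬ p ∣ orderOf y →
        (φ : Subgroup.centralizer ({x} : Set G) → ℂ) y = d φ * φ0 y) ∧
      ∑ᶠ φ ∈ b, d φ ^ 2 = p ^ blockDefect p b ∧ φ0 1 ≠ 0 ∧ ∀ φ ∈ b, d φ ≠ 0 := by
  obtain ⟨φ0, d, -, h2, h3⟩ := rank_one hM hb hl
  haveI := hM.2.1
  have h4 : ∀ φ ∈ b, (d φ : ℂ) * φ0 1 ≠ 0 := by
    intro φ hφ h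
    have h5 := h2 φ hφ 1 reg_one
    rw [h] at h5
    exact IsIrr.one_ne_zero φ.2 h5
  obtain ⟨φ, hφ⟩ := block_nonempty hb
  refine ⟨φ0, d, h2, h3, right_ne_zero_of_mul (h4 φ hφ), fun φ hφ h => ?_⟩
  have := h4 φ hφ
  rw [h, Nat.cast_zero, zero_mul] at this
  exact this rfl

open Classical in
theorem norm_qq (hM : IsPModular p M) (hx : ∃ k : ℕ, orderOf x = p ^ k)
    (z : Subgroup.centralizer ({x} : Set G)) (hzx : (z : G) = x)
    {b : Set (IrrCharacter (Subgroup.centralizer ({x} : Set G)))} (hb : IsPBlock M b)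
    {φ0 : Subgroup.centralizer ({x} : Set G) → ℂ}
    {d : IrrCharacter (Subgroup.centralizer ({x} : Set G)) → ℕ}
    (hd : ∀ φ ∈ b, ∀ y, ¬ p ∣ orderOf y → (φ : Subgroup.centralizer ({x} : Set G) → ℂ) y = d φ * φ0 y)
    (hs : ∑ᶠ φ ∈ b, d φ ^ 2 = p ^ blockDefect p b) (h0 : φ0 1 ≠ 0) :
    ∑ χ : IrrCharacter G, qq b z d χ * conj (qq b z d χ) = ((p ^ blockDefect p b : ℕ) : ℂ) := by
  have h1 := orth_bp hM hx hb (1 : Subgroup.centralizer ({x} : Set G)) 1 reg_one reg_one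
  have h2 : ∀ χ : IrrCharacter G, bp x b (χ : G → ℂ) 1 * conj (bp x b (χ : G → ℂ) 1) =
      (qq b z d χ * conj (qq b z d χ)) * (φ0 1 * conj (φ0 1)) := by
    intro χ
    rw [bp_qq z hzx hd χ 1 reg_one, map_mul]; ring
  rw [Finset.sum_congr rfl fun χ _ => h2 χ, ← Finset.sum_mul] at h1
  have h3 : KB b (1 : Subgroup.centralizer ({x} : Set G)) 1 =
      ((p ^ blockDefect p b : ℕ) : ℂ) * (φ0 1 * conj (φ0 1)) := by
    rw [← hs, finsum_mem_irr]
    unfold KB
    push_cast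
    rw [Finset.sum_mul]
    refine Finset.sum_congr rfl fun φ _ => ?_
    split_ifs with h
    · rw [hd φ h 1 reg_one, map_mul, Complex.conj_natCast]; push_cast; ring
    · simp
  rw [h3] at h1
  refine mul_right_cancel₀ ?_ h1
  exact mul_ne_zero h0 (by rw [Ne, map_eq_zero]; exact h0)

theorem qq_zero (hM : IsPModular p M) (hx : ∃ k : ℕ, orderOf x = p ^ k)
    (z : Subgroup.centralizer ({x} : Set G)) (hzx : (z : G) = x)
    {b : Set (IrrCharacter (Subgroup.centralizer ({x} : Set G)))} {B : Set (IrrCharacter G)}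
    (hb : IsInducedBlock M (Subgroup.centralizer ({x} : Set G)) b B)
    {φ0 : Subgroup.centralizer ({x} : Set G) → ℂ}
    {d : IrrCharacter (Subgroup.centralizer ({x} : Set G)) → ℕ}
    (hd : ∀ φ ∈ b, ∀ y, ¬ p ∣ orderOf y → (φ : Subgroup.centralizer ({x} : Set G) → ℂ) y = d φ * φ0 y)
    (h0 : φ0 1 ≠ 0) {χ : IrrCharacter G} (hχ : χ ∉ B) : qq b z d χ = 0 := by
  have h1 := bp_zero hM hx hb hχ 1 reg_one
  rw [bp_qq z hzx hd χ 1 reg_one] at h1
  exact (mul_eq_zero.1 h1).resolve_right h0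

theorem qq_ne (hM : IsPModular p M) (hx : ∃ k : ℕ, orderOf x = p ^ k)
    (z : Subgroup.centralizer ({x} : Set G)) (hzx : (z : G) = x)
    {b : Set (IrrCharacter (Subgroup.centralizer ({x} : Set G)))} {B : Set (IrrCharacter G)}
    (hb : IsInducedBlock M (Subgroup.centralizer ({x} : Set G)) b B)
    {φ0 : Subgroup.centralizer ({x} : Set G) → ℂ}
    {d : IrrCharacter (Subgroup.centralizer ({x} : Set G)) → ℕ}
    (hd : ∀ φ ∈ b, ∀ y, ¬ p ∣ orderOf y → (φ : Subgroup.centralizer ({x} : Set G) → ℂ) y = d φ * φ0 y)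
    {χ : IrrCharacter G} (hχ : χ ∈ B) (hh : blockHeight p B (χ : G → ℂ) = 0) : qq b z d χ ≠ 0 := by
  obtain ⟨y, hy, hne⟩ := s4428 hM hχ hh hx hb
  have h1 := bp_qq z hzx hd χ y hy
  intro h
  rw [h, zero_mul] at h1
  exact hne h1

end

section
variable {G : Type*} [Group G] [Fintype G] [hp : Fact p.Prime]

open Cfsg.Agent.H25.Red Cfsg.Agent.H25.KG Cfsg.Agent.H25.BPTr Cfsg.Agent.H25.BPMain
  Cfsg.Agent.H25.BPDef Cfsg.Agent.H25.BPInd Cfsg.Agent.H25.FMT in
theorem unique_root (hM : IsPModular p M) {B : Set (IrrCharacter G)} {Q : Subgroup G}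
    (hD : IsDefectGroup p M B Q)
    (hn : Subgroup.normalizer (Q : Set G) ≤ Subgroup.centralizer (Q : Set G))
    {b b' : Set (IrrCharacter (Subgroup.centralizer (Q : Set G)))}
    (hb : IsInducedBlock M (Subgroup.centralizer (Q : Set G)) b B)
    (hb' : IsInducedBlock M (Subgroup.centralizer (Q : Set G)) b' B) : b' = b := by
  have := hM.2.1
  have := charP_KM M hM
  have hQ := IsDefectGroup.isPGroup' hD
  have h1 := (bpo_iff.1 ((bpo_iff_induced hM).2 ⟨hQ, hb⟩)).2.2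
  have h2 := (bpo_iff.1 ((bpo_iff_induced hM).2 ⟨hQ, hb'⟩)).2.2
  have htop := top_of_dgh ((defectG_iff hM hb.2.1).1 hD) h1
  obtain ⟨x, hx⟩ := h1.conj_le htop h2
  have h3 : cs x Q = Q := Subgroup.eq_of_le_of_card_ge hx.le (by rw [card_cs])
  rw [h3] at hx
  have h4 := hx.eq_of_eq
  have hxn : x ∈ Subgroup.normalizer (Q : Set G) := mem_normalizer_iff_cs.2 h3
  rw [(isBlk_ep (M := M) hb'.1).mem.2 x (hn hxn)] at h4
  exact ep_inj hb'.1 hb.1 h4

theorem unique_root' (hM : IsPModular p M) {B : Set (IrrCharacter G)} {x : G}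
    (hD : IsDefectGroup p M B (Subgroup.zpowers x))
    (hn : Subgroup.normalizer (Subgroup.zpowers x : Set G) ≤ Subgroup.centralizer ({x} : Set G)) :
    ∀ b b' : Set (IrrCharacter (Subgroup.centralizer ({x} : Set G))),
    IsInducedBlock M (Subgroup.centralizer ({x} : Set G)) b B →
    IsInducedBlock M (Subgroup.centralizer ({x} : Set G)) b' B → b' = b := by
  rw [← centralizer_zpowers x] at hn ⊢
  intro b b' hb hb'
  exact unique_root hM hD hn hb hb'

theorem isPPart_one {y : G} (hy : ¬ p ∣ orderOf y) : IsPPart p y 1 :=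
  ⟨y, one_mul y, Commute.one_left y, ⟨0, by rw [orderOf_one, pow_zero]⟩, hy⟩

theorem isPPart_self {x : G} (hx : ∃ k : ℕ, orderOf x = p ^ k) : IsPPart p x x :=
  ⟨1, mul_one x, Commute.one_right x, hx, by rw [orderOf_one]; exact hp.out.one_lt.ne' ∘ Nat.dvd_one.1⟩

end

end Cfsg.Agent.H25.Two
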