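import Cfsg.Agent.H25_Two

/-! Blocks with defect group of order two. -/

open scoped ComplexConjugate

namespace Cfsg.Agent.H25.Two2

open Cfsg Cfsg.Agent.H3 Cfsg.Agent.H3.CharBasic Cfsg.Agent.H3.CharIrr Cfsg.Agent.H3.CharComplete
  Cfsg.Agent.H25.Brauer Cfsg.Agent.H25.BrauerP Cfsg.Agent.H25.Elem
  Cfsg.Agent.H10.Char Cfsg.Agent.H10.BlockLoc Cfsg.Agent.H10.BlockAlg Cfsg.Agent.H10.BlockIdem
  Cfsg.Agent.H10.BlockOrth Cfsg.Agent.H10.BlockHZ Cfsg.Agent.H10.BlockInd Cfsg.Agent.H10.PPart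
  Cfsg.Agent.H10.BlockSMT Cfsg.Agent.H10.BlockSMT2 Cfsg.Agent.H10.BlockPrin
  Cfsg.Agent.H10.BlockDefect Cfsg.Agent.H10.BlockMain
  Cfsg.Agent.H25.BlockReg Cfsg.Agent.H25.BlockReg2 Cfsg.Agent.H25.BlockReg3 Cfsg.Agent.H25.IndCong
  Cfsg.Agent.H25.Sub Cfsg.Agent.H25.Major Cfsg.Agent.H25.Two

variable {M : Ideal AlgInt}

section
variable {G : Type*} [Group G] [Fintype G] {x : G}

local instance two_fact3 : Fact (Nat.Prime 2) := ⟨Nat.prime_two⟩

omit [Fintype G] in
theorem sq1 {R : Type*} [CommRing R] [NoZeroDivisors R] {a : R} (h : a ^ 2 = 1) : a = 1 ∨ a = -1 := by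
  have h1 : (a - 1) * (a + 1) = 0 := by linear_combination h
  rcases mul_eq_zero.1 h1 with h2 | h2
  · left; linear_combination h2
  · right; linear_combination h2

theorem central_of (z : Subgroup.centralizer ({x} : Set G)) (hz : (z : G) = x)
    (c : Subgroup.centralizer ({x} : Set G)) : c * z = z * c := by
  apply Subtype.ext
  show (c : G) * (z : G) = (z : G) * (c : G)
  rw [hz]
  exact (Subgroup.mem_centralizer_singleton_iff.1 c.2)

theorem normalizer_two (hx : orderOf x = 2) :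
    Subgroup.normalizer (Subgroup.zpowers x : Set G) ≤ Subgroup.centralizer ({x} : Set G) := by
  intro g hg
  rw [Subgroup.mem_centralizer_singleton_iff]
  have h1 : g * x * g⁻¹ ∈ Subgroup.zpowers x :=
    (Subgroup.mem_normalizer_iff.1 hg x).1 (Subgroup.mem_zpowers x)
  have h2 : g * x * g⁻¹ = 1 ∨ g * x * g⁻¹ = x := by
    rw [Subgroup.mem_zpowers_iff] at h1
    obtain ⟨k, hk⟩ := h1
    rcases Int.even_or_odd k with ⟨m, hm⟩ | ⟨m, hm⟩
    · left
      rw [← hk, hm, ← two_mul, zpow_mul, zpow_ofNat, ← hx, pow_orderOf_eq_one, one_zpow]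
    · right
      rw [← hk, hm, zpow_add, zpow_mul, zpow_ofNat, ← hx, pow_orderOf_eq_one, one_zpow, one_mul, zpow_one]
  rcases h2 with h2 | h2
  · exfalso
    have h3 : x = 1 := by
      have : g * x = g := by rw [← mul_inv_eq_one]; exact h2
      simpa using this
    rw [h3, orderOf_one] at hx
    omega
  · rw [← h2]
    have := congrArg (· * g) h2
    simp only [inv_mul_cancel_right] at this
    rw [h2]; exact this

theorem zl_sign (z : Subgroup.centralizer ({x} : Set G)) (hz : (z : G) = x) (hx : orderOf x = 2)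
    [Fintype (Subgroup.centralizer ({x} : Set G))]
    (φ : IrrCharacter (Subgroup.centralizer ({x} : Set G))) : zl z φ = 1 ∨ zl z φ = -1 := by
  have h1 : z ^ 2 = 1 := by
    apply Subtype.ext
    show (z : G) ^ 2 = 1
    rw [hz, ← hx, pow_orderOf_eq_one]
  have h2 := zl_order (central_of z hz) φ h1
  exact sq1 h2

theorem defect_root (hM : IsPModular 2 M) (hx : orderOf x = 2) {B : Set (IrrCharacter G)}
    (hBD : IsDefectGroup 2 M B (Subgroup.zpowers x))
    {b : Set (IrrCharacter (Subgroup.centralizer ({x} : Set G)))}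
    (hb : IsInducedBlock M (Subgroup.centralizer ({x} : Set G)) b B) :
    blockDefect 2 b = 1 ∧ blockRank 2 b = 1 ∧ blockDefect 2 B = 1 := by
  classical
  haveI := hM.2.1
  haveI : Fintype (Subgroup.centralizer ({x} : Set G)) := Fintype.ofFinite _
  have h1 := card_defectGroup hM hb.2.1 hBD
  rw [Nat.card_zpowers, hx] at h1
  have hB1 : blockDefect 2 B = 1 := by
    have : 2 ^ 1 = 2 ^ blockDefect 2 B := by rw [pow_one]; exact h1
    exact (Nat.pow_right_injective le_rfl this).symm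
  have hle := defect_le hM hb
  rw [hB1] at hle
  obtain ⟨D, hD⟩ := exists_defectGroup (p := 2) hb.1
  have h2 := card_defectGroup hM hb.1 hD
  set z : Subgroup.centralizer ({x} : Set G) := ⟨x, by rw [Subgroup.mem_centralizer_singleton_iff]⟩ with hz
  have hzx : (z : G) = x := rfl
  have hoz : orderOf z = 2 := by rw [← Subgroup.orderOf_coe, hzx, hx]
  have hcen := central_of z hzx
  haveI hn : (Subgroup.zpowers z).Normal := by
    refine ⟨fun n hn g => ?_⟩
    have h3 : g * n = n * g := by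
      obtain ⟨k, rfl⟩ := Subgroup.mem_zpowers_iff.1 hn
      exact ((show Commute g z from hcen g).zpow_right k).eq
    rw [h3, mul_inv_cancel_right]; exact hn
  have h3 : Subgroup.zpowers z ≤ D := by
    refine normal_le_defectGroup hM hb.1 hD _ ?_
    refine IsPGroup.of_card (n := 1) ?_
    rw [Nat.card_zpowers, hoz, pow_one]
  have h4 : Nat.card D ≤ Nat.card (Subgroup.zpowers z) := by
    rw [h2, Nat.card_zpowers, hoz]
    calc 2 ^ blockDefect 2 b ≤ 2 ^ 1 := Nat.pow_le_pow_right (by norm_num) hle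
      _ = 2 := by norm_num
  have h5 := eq_of_le_card h3 h4
  have hd1 : blockDefect 2 b = 1 := by
    rw [← h5, Nat.card_zpowers, hoz] at h2
    have : 2 ^ 1 = 2 ^ blockDefect 2 b := by rw [pow_one]; exact h2
    exact (Nat.pow_right_injective le_rfl this).symm
  refine ⟨hd1, ?_, hB1⟩
  refine H25.Dom.central_rank_one hM hb.1 hD ?_
  rw [← h5, Subgroup.zpowers_le, Subgroup.mem_center_iff]
  exact hcen

open Classical in
theorem main (hM : IsPModular 2 M) (hx : orderOf x = 2) {B : Set (IrrCharacter G)}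
    (hBD : IsDefectGroup 2 M B (Subgroup.zpowers x))
    {b : Set (IrrCharacter (Subgroup.centralizer ({x} : Set G)))}
    (hb : IsInducedBlock M (Subgroup.centralizer ({x} : Set G)) b B)
    {θ : IrrCharacter (Subgroup.centralizer ({x} : Set G))} (hθ : θ ∈ b) :
    Nat.card B = 2 ∧ (∀ χ ∈ B, ∀ ψ ∈ B, ∀ g : G, ¬ 2 ∣ orderOf g → (χ : G → ℂ) g = (ψ : G → ℂ) g) ∧
    ∃ χ₁ ∈ B, ∃ χ₂ ∈ B, χ₁ ≠ χ₂ ∧ ∃ ε₁ ε₂ : ℤ, (ε₁ = 1 ∨ ε₁ = -1) ∧ (ε₂ = 1 ∨ ε₂ = -1) ∧
      ε₁ * ε₂ = -1 ∧ ∀ y : ↥(Subgroup.centralizer ({x} : Set G)), ¬ 2 ∣ orderOf y →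
        (χ₁ : G → ℂ) (x * y) = (ε₁ : ℂ) * (θ : ↥(Subgroup.centralizer ({x} : Set G)) → ℂ) y ∧
        (χ₂ : G → ℂ) (x * y) = (ε₂ : ℂ) * (θ : ↥(Subgroup.centralizer ({x} : Set G)) → ℂ) y := by
  haveI := hM.2.1
  haveI : Fintype (Subgroup.centralizer ({x} : Set G)) := Fintype.ofFinite _
  haveI : Fintype (IrrCharacter G) := Fintype.ofFinite _
  haveI : Fintype (IrrCharacter (Subgroup.centralizer ({x} : Set G))) := Fintype.ofFinite _
  obtain ⟨hdb, hl, hdB⟩ := defect_root hM hx hBD hb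
  have hx2 : ∃ k : ℕ, orderOf x = 2 ^ k := ⟨1, by rw [hx, pow_one]⟩
  set z : Subgroup.centralizer ({x} : Set G) := ⟨x, by rw [Subgroup.mem_centralizer_singleton_iff]⟩ with hz
  have hzx : (z : G) = x := rfl
  obtain ⟨φ0, d, hd, hs, h0, hd0⟩ := exists_qq hM hb.1 hl
  rw [hdb, pow_one] at hs
  -- all d are one
  have hd1 : ∀ φ ∈ b, d φ = 1 := by
    intro φ hφ
    have h1 : d φ ^ 2 ≤ 2 := by
      have h9 := hs
      rw [finsum_mem_irr] at h9
      have := Finset.single_le_sum (f := fun φ => if φ ∈ b then d φ ^ 2 else 0)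
        (fun _ _ => Nat.zero_le _) (Finset.mem_univ φ)
      simp only [if_pos hφ] at this
      exact this.trans h9.le
    have h2 := hd0 φ hφ
    have h3 : d φ < 2 := by
      by_contra h
      push Not at h
      have := Nat.pow_le_pow_left h 2
      omega
    omega
  have hθ0 : ∀ y, ¬ 2 ∣ orderOf y → (θ : Subgroup.centralizer ({x} : Set G) → ℂ) y = φ0 y := by
    intro y hy
    rw [hd θ hθ y hy, hd1 θ hθ, Nat.cast_one, one_mul]
  -- integrality
  have hint : ∀ χ : IrrCharacter G, ∃ n : ℤ, qq b z d χ = n := by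
    intro χ
    have h1 : ∀ φ : IrrCharacter (Subgroup.centralizer ({x} : Set G)), ∃ n : ℤ,
        (if φ ∈ b then classInner (fun h : Subgroup.centralizer ({x} : Set G) => (χ : G → ℂ) h)
          (φ : Subgroup.centralizer ({x} : Set G) → ℂ) * zl z φ * (d φ : ℂ) else 0) = n := by
      intro φ
      split_ifs
      · obtain ⟨m, hm⟩ := Cfsg.Agent.H3.CharComplete.ci_char_nat
          (Brauer.IsChar.res (IsIrr.isCharacter χ.2) (Subgroup.centralizer ({x} : Set G)))
          (IsIrr.isCharacter φ.2)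
        change classInner (fun h : Subgroup.centralizer ({x} : Set G) => (χ : G → ℂ) h)
          (φ : Subgroup.centralizer ({x} : Set G) → ℂ) = m at hm
        rcases zl_sign z hzx hx φ with h | h
        · exact ⟨m * d φ, by rw [hm, h]; push_cast; ring⟩
        · exact ⟨-(m * d φ), by rw [hm, h]; push_cast; ring⟩
      · exact ⟨0, by simp⟩
    choose n hn using h1
    refine ⟨∑ φ, n φ, ?_⟩
    rw [qq, Finset.sum_congr rfl fun φ _ => hn φ]
    push_cast; rfl
  choose q hq using hint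
  have hnorm : ∑ χ : IrrCharacter G, q χ ^ 2 = 2 := by
    have h1 := norm_qq hM hx2 z hzx hb.1 hd (by rw [hdb, pow_one]; exact hs) h0
    rw [hdb] at h1
    have h2 : ((∑ χ : IrrCharacter G, q χ ^ 2 : ℤ) : ℂ) = ((2 : ℤ) : ℂ) := by
      push_cast
      rw [pow_one] at h1
      have h3 : ∀ χ : IrrCharacter G, qq b z d χ * conj (qq b z d χ) = (q χ : ℂ) ^ 2 := by
        intro χ
        rw [hq χ, map_intCast]; ring
      rw [Finset.sum_congr rfl fun χ _ => h3 χ] at h1
      rw [h1]; norm_num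
    exact_mod_cast h2
  have hzero : ∀ χ : IrrCharacter G, χ ∉ B → q χ = 0 := by
    intro χ hχ
    have h1 := qq_zero hM hx2 z hzx hb hd h0 hχ
    rw [hq] at h1
    exact_mod_cast h1
  have hne : ∀ χ ∈ B, q χ ≠ 0 := by
    intro χ hχ
    have hh : blockHeight 2 B (χ : G → ℂ) = 0 := by
      by_contra h
      have := (pos_height hM hb.2.1 hχ (Nat.pos_of_ne_zero h)).1
      omega
    have h1 := qq_ne hM hx2 z hzx hb hd hχ hh
    rw [hq] at h1
    exact_mod_cast h1
  -- values
  have hval : ∀ χ ∈ B, ∀ y : Subgroup.centralizer ({x} : Set G), ¬ 2 ∣ orderOf y →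
      (χ : G → ℂ) (x * y) = q χ * (θ : Subgroup.centralizer ({x} : Set G) → ℂ) y := by
    intro χ hχ y hy
    rw [sec_eq_sum hM hx2 hb.2.1 hχ y hy]
    have h1 : (blocks (Subgroup.centralizer ({x} : Set G)) M).filter
        (fun b => IsInducedBlock M (Subgroup.centralizer ({x} : Set G)) b B) = {b} := by
      ext b'
      rw [Finset.mem_filter, Finset.mem_singleton, mem_blocks]
      constructor
      · rintro ⟨-, h⟩
        exact unique_root' hM hBD (normalizer_two hx) b b' hb h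
      · rintro rfl; exact ⟨hb.1, hb⟩
    rw [h1, Finset.sum_singleton, bp_qq z hzx hd χ y hy, hq, hθ0 y hy]
  -- orthogonality between sections
  have horth : ∀ g : G, ¬ 2 ∣ orderOf g →
      ∑ χ : IrrCharacter G, (if χ ∈ B then (χ : G → ℂ) g * (q χ : ℂ) else 0) = 0 := by
    intro g hg
    have h1 := block_orth hM (isPPart_one hg) (isPPart_self hx2) (fun h => by
      rw [isConj_one_right] at h
      rw [h, orderOf_one] at hx; omega) hb.2.1
    have hxi : x⁻¹ = x := by
      rw [inv_eq_iff_mul_eq_one, ← sq, ← hx, pow_orderOf_eq_one]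
    rw [hxi] at h1
    have h2 : ∀ χ : IrrCharacter G, (if χ ∈ B then (χ : G → ℂ) g * (χ : G → ℂ) x else 0) =
        (if χ ∈ B then (χ : G → ℂ) g * (q χ : ℂ) else 0) * (θ : Subgroup.centralizer ({x} : Set G) → ℂ) 1 := by
      intro χ
      by_cases h : χ ∈ B
      · rw [if_pos h, if_pos h]
        have h3 := hval χ h 1 reg_one
        rw [Subgroup.coe_one, mul_one] at h3
        rw [h3]; ring
      · rw [if_neg h, if_neg h, zero_mul]
    rw [Finset.sum_congr rfl fun χ _ => h2 χ, ← Finset.sum_mul] at h1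
    exact (mul_eq_zero.1 h1).resolve_right (IsIrr.one_ne_zero θ.2)
  -- counting
  have hS : ∑ χ ∈ Finset.univ.filter (· ∈ B), q χ ^ 2 = 2 := by
    rw [← hnorm]
    refine Finset.sum_subset (Finset.filter_subset _ _) fun χ _ h => ?_
    rw [hzero χ (fun h' => h (by simpa using h')), zero_pow two_ne_zero]
  have hge : ∀ χ ∈ Finset.univ.filter (· ∈ B), 1 ≤ q χ ^ 2 := by
    intro χ hχ
    have := hne χ (by simpa using hχ)
    have h2 : 0 < q χ ^ 2 := by positivity
    omega
  have hcard_le : (Finset.univ.filter (· ∈ B)).card ≤ 2 := by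
    have h1 := Finset.sum_le_sum hge
    rw [hS] at h1
    simp at h1
    exact_mod_cast h1
  obtain ⟨χ₀, hχ₀⟩ := block_nonempty hb.2.1
  have hcard : (Finset.univ.filter (· ∈ B)).card = 2 := by
    have h1 : 0 < (Finset.univ.filter (· ∈ B)).card := Finset.card_pos.2 ⟨χ₀, by simpa using hχ₀⟩
    by_contra h
    have h2 : (Finset.univ.filter (· ∈ B)).card = 1 := by omega
    obtain ⟨χ, hχ⟩ := Finset.card_eq_one.1 h2
    rw [hχ, Finset.sum_singleton] at hS
    have h3 : q χ < 2 := by nlinarith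
    have h4 : -2 < q χ := by nlinarith
    interval_cases h : q χ <;> omega
  obtain ⟨χ₁, χ₂, hne12, hset⟩ := Finset.card_eq_two.1 hcard
  have hm1 : χ₁ ∈ B := by
    have : χ₁ ∈ Finset.univ.filter (· ∈ B) := by rw [hset]; simp
    simpa using this
  have hm2 : χ₂ ∈ B := by
    have : χ₂ ∈ Finset.univ.filter (· ∈ B) := by rw [hset]; simp
    simpa using this
  have hmem : ∀ χ ∈ B, χ = χ₁ ∨ χ = χ₂ := by
    intro χ hχ
    have : χ ∈ Finset.univ.filter (· ∈ B) := by simpa using hχ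
    rw [hset] at this
    simpa using this
  have h11 := hge χ₁ (by simpa using hm1)
  have h12 := hge χ₂ (by simpa using hm2)
  rw [hset, Finset.sum_pair hne12] at hS
  have hq1 : q χ₁ ^ 2 = 1 := by omega
  have hq2 : q χ₂ ^ 2 = 1 := by omega
  have horth2 : ∀ g : G, ¬ 2 ∣ orderOf g →
      (χ₁ : G → ℂ) g * (q χ₁ : ℂ) + (χ₂ : G → ℂ) g * (q χ₂ : ℂ) = 0 := by
    intro g hg
    have h1 := horth g hg
    rw [← Finset.sum_filter, hset, Finset.sum_pair hne12] at h1
    exact h1
  have hopp : q χ₂ = - q χ₁ := by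
    rcases sq1 hq1 with h1 | h1 <;>
      rcases sq1 hq2 with h2 | h2
    · exfalso
      have h3 := horth2 1 (by rw [orderOf_one]; norm_num)
      rw [h1, h2, ← charDegree_eq χ₁.2, ← charDegree_eq χ₂.2] at h3
      have h4 : ((charDegree (χ₁ : G → ℂ) + charDegree (χ₂ : G → ℂ) : ℕ) : ℂ) = 0 := by
        push_cast; linear_combination h3
      have h5 := charDegree_pos χ₁.2
      rw [Nat.cast_eq_zero] at h4
      omega
    · rw [h1, h2]
    · rw [h1, h2]; norm_num
    · exfalso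
      have h3 := horth2 1 (by rw [orderOf_one]; norm_num)
      rw [h1, h2, ← charDegree_eq χ₁.2, ← charDegree_eq χ₂.2] at h3
      have h4 : ((charDegree (χ₁ : G → ℂ) + charDegree (χ₂ : G → ℂ) : ℕ) : ℂ) = 0 := by
        push_cast; push_cast at h3; linear_combination -h3
      have h5 := charDegree_pos χ₁.2
      rw [Nat.cast_eq_zero] at h4
      omega
  have heq : ∀ g : G, ¬ 2 ∣ orderOf g → (χ₁ : G → ℂ) g = (χ₂ : G → ℂ) g := by
    intro g hg
    have h1 := horth2 g hg
    rw [hopp] at h1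
    push_cast at h1
    have h2 : (q χ₁ : ℂ) ≠ 0 := by
      rw [Int.cast_ne_zero]; exact hne χ₁ hm1
    have h3 : ((χ₁ : G → ℂ) g - (χ₂ : G → ℂ) g) * (q χ₁ : ℂ) = 0 := by linear_combination h1
    exact sub_eq_zero.1 ((mul_eq_zero.1 h3).resolve_right h2)
  refine ⟨?_, ?_, χ₁, hm1, χ₂, hm2, hne12, q χ₁, q χ₂, ?_, ?_, ?_, fun y hy => ⟨hval χ₁ hm1 y hy, hval χ₂ hm2 y hy⟩⟩
  · rw [← hcard, Nat.card_eq_fintype_card, Fintype.card_subtype]
  · intro χ hχ ψ hψ g hg
    rcases hmem χ hχ with rfl | rfl <;> rcases hmem ψ hψ with rfl | rfl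
    · rfl
    · exact heq g hg
    · exact (heq g hg).symm
    · rfl
  · exact sq1 hq1
  · exact sq1 hq2
  · rw [hopp]
    have : q χ₁ * -q χ₁ = -(q χ₁ ^ 2) := by ring
    rw [this, hq1]

end

end Cfsg.Agent.H25.Two2
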