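import Mathlib
import Cfsg.Agent.H26_Basic
import Cfsg.Agent.H10_BlockOrth
import Cfsg.Agent.H10_BlockHZ
import Cfsg.Agent.H3_CharMult

/-!
# H26_BP: block parts as finite sums; congruences mod `M` for character values
-/

set_option autoImplicit false

namespace Cfsg.Agent.H26.BP

open Cfsg Cfsg.Agent.H3.CharIrr Cfsg.Agent.H3.CharComplete Cfsg.Agent.H3.CharInd
  Cfsg.Agent.H10.BlockAlg Cfsg.Agent.H10.BlockLoc Cfsg.Agent.H10.BlockIdem
  Cfsg.Agent.H10.BlockOrth Cfsg.Agent.H26.Basic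

open scoped ComplexConjugate

variable {G : Type*} [Group G] {p : ℕ} {M : Ideal AlgInt}

open scoped Classical in
theorem blockPart_eq_sum [Fintype G] [Fintype (IrrCharacter G)] (B : Set (IrrCharacter G)) (f : G → ℂ) (g : G) :
    blockPart B f g = ∑ χ : IrrCharacter G, if χ ∈ B then classInner f (χ : G → ℂ) * (χ : G → ℂ) g else 0 := by
  rw [blockPart_apply]
  simp_rw [Finset.mul_sum]
  rw [Finset.sum_comm]
  refine Finset.sum_congr rfl fun χ _ => ?_
  by_cases h2 : χ ∈ B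
  · simp only [if_pos h2]
    rw [classInner, Finset.mul_sum, Finset.sum_mul]
    exact Finset.sum_congr rfl fun x _ => by ring
  · simp only [if_neg h2]
    simp

/-- value of a character at a `p`-element modulo `M` -/
theorem val_sub_mem [Finite G] (hM : IsPModular p M) {χ : G → ℂ} (hχ : IsCharacter G χ) {x : G}
    (hx : ∃ k : ℕ, orderOf x = p ^ k) : MemLocalIdeal M (χ x - χ 1) := by
  haveI := Fintype.ofFinite G
  have h := Cfsg.Agent.H10.BlockHZ.char_sub_mem hM hχ (Commute.one_right x) hx (by rw [orderOf_one]; exact fun h => hM.1.one_lt.ne' (Nat.dvd_one.1 h))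
  rwa [mul_one] at h

theorem isPPart_self [Finite G] (hp : p.Prime) {x : G} (hx : ∃ k : ℕ, orderOf x = p ^ k) : IsPPart p x x :=
  ⟨1, mul_one x, Commute.one_right x, hx, by rw [orderOf_one]; exact fun h => hp.one_lt.ne' (Nat.dvd_one.1 h)⟩

theorem nat_dvd_of_mem (hM : IsPModular p M) {n : ℕ} (h : MemLocalIdeal M (n : ℂ)) : p ∣ n :=
  (ideal_natCast_iff hM n).1 h

/-- the kernel of a character lies in the kernel of each constituent -/
theorem ker_of_constituent [Fintype G] {π χ : G → ℂ} (hπ : IsCharacter G π) (hχ : IsIrrCharacter G χ)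
    (h : classInner π χ ≠ 0) {u : G} (hu : π u = π 1) : χ u = χ 1 := by
  classical
  haveI : Fintype (IrrCharacter G) := Fintype.ofFinite _
  obtain ⟨n, hn, hπn⟩ := Cfsg.Agent.H3.CharMult.IsChar.eq_sum_nat hπ
  have hv : ∀ g : G, π g = ∑ ψ : IrrCharacter G, (n ψ : ℂ) * (ψ : G → ℂ) g := by
    intro g
    conv_lhs => rw [hπn]
    rw [Finset.sum_apply]; rfl
  have hre : ∀ ψ : IrrCharacter G, ((ψ : G → ℂ) u).re ≤ ((ψ : G → ℂ) 1).re := fun ψ =>
    (Complex.re_le_norm _).trans (IsChar.norm_le (IsIrr.isCharacter ψ.2) u)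
  have h1 : ∑ ψ : IrrCharacter G, (n ψ : ℝ) * (((ψ : G → ℂ) 1).re - ((ψ : G → ℂ) u).re) = 0 := by
    have h2 := congrArg Complex.re hu
    rw [hv, hv, Complex.re_sum, Complex.re_sum, eq_comm, ← sub_eq_zero, ← Finset.sum_sub_distrib] at h2
    rw [← h2]
    refine Finset.sum_congr rfl fun ψ _ => ?_
    rw [Complex.mul_re, Complex.mul_re, Complex.natCast_im, Complex.natCast_re]; ring
  have h2 := (Finset.sum_eq_zero_iff_of_nonneg (fun ψ _ => mul_nonneg (Nat.cast_nonneg _) (sub_nonneg.2 (hre ψ)))).1 h1 ⟨χ, hχ⟩ (Finset.mem_univ _)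
  have hn0 : (n ⟨χ, hχ⟩ : ℝ) ≠ 0 := by
    intro h0
    apply h
    have := hn ⟨χ, hχ⟩
    rw [this]
    exact_mod_cast h0
  have h3 : (χ 1).re = (χ u).re := by
    have := (mul_eq_zero.1 h2).resolve_left hn0
    exact sub_eq_zero.1 this
  obtain ⟨m, -, hm⟩ := IsIrr.one_eq_nat hχ
  have h4 : ‖χ u‖ ≤ (χ 1).re := IsChar.norm_le (IsIrr.isCharacter hχ) u
  rw [h3] at h4
  have h5 : (χ u).im = 0 := by
    have h6 := Complex.sq_norm (χ u)
    rw [Complex.normSq_apply] at h6
    have h7 : 0 ≤ ‖χ u‖ := norm_nonneg _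
    nlinarith [sq_nonneg (χ u).im]
  apply Complex.ext
  · exact h3.symm
  · rw [h5, hm, Complex.natCast_im]

end Cfsg.Agent.H26.BP
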