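import Mathlib
import Cfsg.Agent.H26_Basic
import Cfsg.Agent.H3_CharGal

/-!
# H26_GalConj: Galois conjugates of characters: `σ ∘ χ` for a ring endomorphism `σ` of `ℂ`, and
`g ↦ χ (g ^ m)` for `m` coprime to the group order.
-/

set_option autoImplicit false

namespace Cfsg.Agent.H26.GalConj

open Cfsg Cfsg.Agent.H3.CharIrr Cfsg.Agent.H3.CharComplete Cfsg.Agent.H3.CharInd
  Cfsg.Agent.H3.CharGal Cfsg.Agent.H26.Basic

open scoped ComplexConjugate

/-- a copy of `ℂ` -/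
def CC : Type := ℂ

noncomputable instance : Field CC := inferInstanceAs (Field ℂ)
instance : IsAlgClosed CC := inferInstanceAs (IsAlgClosed ℂ)

/-- an automorphism of a subfield extends to an endomorphism of `ℂ` -/
theorem extend_aut {K : Type*} [Field K] (i : K →+* ℂ) (σ : K ≃+* K) :
    ∃ φ : ℂ →+* ℂ, ∀ x, φ (i x) = i (σ x) := by
  letI : Algebra K ℂ := i.toAlgebra
  obtain ⟨ι, b, hb⟩ := exists_isTranscendenceBasis' K ℂ
  have halg : Algebra.IsAlgebraic (Algebra.adjoin K (Set.range b)) ℂ := hb.isAlgebraic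
  let f : Algebra.adjoin K (Set.range b) →+* CC :=
    ((MvPolynomial.aeval b : MvPolynomial ι K →ₐ[K] ℂ).toRingHom.comp (MvPolynomial.map (σ : K →+* K))).comp
      (hb.1.aevalEquiv.symm : Algebra.adjoin K (Set.range b) →+* MvPolynomial ι K)
  have hf : Function.Injective f := by
    intro x y hxy
    have h1 : (MvPolynomial.aeval b : MvPolynomial ι K →ₐ[K] ℂ) (MvPolynomial.map (σ : K →+* K) (hb.1.aevalEquiv.symm x)) =
        (MvPolynomial.aeval b : MvPolynomial ι K →ₐ[K] ℂ) (MvPolynomial.map (σ : K →+* K) (hb.1.aevalEquiv.symm y)) := hxy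
    have h2 := hb.1 h1
    have h3 := MvPolynomial.map_injective (σ : K →+* K) σ.injective h2
    exact hb.1.aevalEquiv.symm.injective h3
  letI : Algebra (Algebra.adjoin K (Set.range b)) CC := f.toAlgebra
  haveI t1 : Module.IsTorsionFree (Algebra.adjoin K (Set.range b)) CC :=
    Module.isTorsionFree_iff_algebraMap_injective.2 hf
  haveI t2 : Module.IsTorsionFree (Algebra.adjoin K (Set.range b)) ℂ :=
    Module.isTorsionFree_iff_algebraMap_injective.2 Subtype.val_injective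
  let φ : ℂ →ₐ[Algebra.adjoin K (Set.range b)] CC := IsAlgClosed.lift
  refine ⟨(φ : ℂ →+* CC), fun x => ?_⟩
  have h1 : i x = algebraMap (Algebra.adjoin K (Set.range b)) ℂ (algebraMap K _ x) := rfl
  rw [h1]
  have h2 : φ (algebraMap (Algebra.adjoin K (Set.range b)) ℂ (algebraMap K _ x)) = f (algebraMap K _ x) := φ.commutes _
  show φ (algebraMap (Algebra.adjoin K (Set.range b)) ℂ (algebraMap K _ x)) = _
  rw [h2]
  show (MvPolynomial.aeval b : MvPolynomial ι K →ₐ[K] ℂ) (MvPolynomial.map (σ : K →+* K) (hb.1.aevalEquiv.symm (algebraMap K _ x))) = i (σ x)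
  rw [AlgEquiv.commutes, MvPolynomial.algebraMap_eq, MvPolynomial.map_C, MvPolynomial.aeval_C]
  rfl

variable {G : Type*} [Group G]

theorem gal_char (φ : ℂ →+* ℂ) {χ : G → ℂ} (hχ : IsCharacter G χ) :
    IsCharacter G (fun g => φ (χ g)) := by
  obtain ⟨n, ρ, rfl⟩ := hχ
  let ρ' : Representation ℂ G (Fin n → ℂ) :=
    { toFun := fun g => Matrix.toLin' ((LinearMap.toMatrix' (ρ g)).map φ)
      map_one' := by
        rw [map_one]
        show Matrix.toLin' ((LinearMap.toMatrix' LinearMap.id).map φ) = _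
        rw [LinearMap.toMatrix'_id, Matrix.map_one _ (map_zero φ) (map_one φ), Matrix.toLin'_one]
        rfl
      map_mul' := fun a b => by
        rw [map_mul]
        show Matrix.toLin' ((LinearMap.toMatrix' (ρ a ∘ₗ ρ b)).map φ) = _
        rw [LinearMap.toMatrix'_comp, Matrix.map_mul, Matrix.toLin'_mul]
        rfl }
  refine ⟨n, ρ', ?_⟩
  funext g
  show LinearMap.trace ℂ _ (Matrix.toLin' ((LinearMap.toMatrix' (ρ g)).map φ)) = φ (LinearMap.trace ℂ _ (ρ g))
  rw [Matrix.trace_toLin'_eq]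
  have h1 : LinearMap.trace ℂ _ (ρ g) = (LinearMap.toMatrix' (ρ g)).trace := by
    conv_lhs => rw [← Matrix.toLin'_toMatrix' (ρ g)]
    rw [Matrix.trace_toLin'_eq]
  rw [h1, Matrix.trace, Matrix.trace, map_sum]
  rfl

theorem gal_irr [Finite G] (φ : ℂ →+* ℂ) {χ : G → ℂ} (hχ : IsIrrCharacter G χ) :
    IsIrrCharacter G (fun g => φ (χ g)) := by
  haveI := Fintype.ofFinite G
  have h1 := gal_char φ (IsIrr.isCharacter hχ)
  apply IsChar.isIrr_of_norm h1
  rw [ci_eq_sum_inv _ h1]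
  have h2 := ci_irr_self hχ
  rw [ci_eq_sum_inv _ (IsIrr.isCharacter hχ)] at h2
  have h3 := congrArg φ h2
  rw [map_mul, map_sum, map_inv₀, map_natCast, map_one] at h3
  rw [← h3]
  congr 1
  exact Finset.sum_congr rfl fun g _ => by rw [map_mul]

theorem pow_char {n : ℕ} (hn : n ≠ 0) {m : ℕ} {φ : ℂ →+* ℂ} (hφ : ∀ z : ℂ, z ^ n = 1 → φ z = z ^ m)
    {χ : G → ℂ} (hχ : IsCharacter G χ) (g : G) (hg : g ^ n = 1) : φ (χ g) = χ (g ^ m) := by
  obtain ⟨d, z, hd, hz, hzk⟩ := IsChar.exists_roots hχ n hn g hg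
  have h1 := hzk 1
  rw [pow_one] at h1
  rw [h1, hzk m, map_sum]
  exact Finset.sum_congr rfl fun i _ => by rw [pow_one, hφ _ (hz i)]

theorem exists_hom (n : ℕ) [NeZero n] (m : ℕ) (hm : m.Coprime n) :
    ∃ φ : ℂ →+* ℂ, ∀ z : ℂ, z ^ n = 1 → φ z = z ^ m := by
  obtain ⟨σ, hσ⟩ := exists_gal n m hm
  obtain ⟨φ, hφ⟩ := extend_aut (Cyc n).val.toRingHom (σ : Cyc n ≃+* Cyc n)
  refine ⟨φ, fun z hz => ?_⟩
  have h1 := hφ ⟨z, root_mem hz⟩
  have h2 := hσ ⟨z, root_mem hz⟩ hz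
  exact h1.trans h2

theorem rat_of_hom {n : ℕ} [NeZero n] {z : ℂ} (hz : z ∈ Cyc n)
    (h : ∀ (φ : ℂ →+* ℂ) (m : ℕ), m.Coprime n → (∀ w : ℂ, w ^ n = 1 → φ w = w ^ m) → φ z = z) :
    ∃ q : ℚ, z = q := by
  apply rat_of_fixed (⟨z, hz⟩ : Cyc n)
  intro σ
  obtain ⟨m, hm, hσ⟩ := gal_actsAs n σ
  obtain ⟨φ, hφ⟩ := extend_aut (Cyc n).val.toRingHom (σ : Cyc n ≃+* Cyc n)
  have h1 := h φ m hm (fun w hw => (hφ ⟨w, root_mem hw⟩).trans (hσ ⟨w, root_mem hw⟩ hw))
  have h2 := hφ ⟨z, hz⟩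
  apply Subtype.ext
  exact h2.symm.trans h1

/-- `g ↦ χ (g ^ m)` -/
noncomputable def powI [Finite G] (m : ℕ) (hm : m.Coprime (Nat.card G)) (χ : IrrCharacter G) : IrrCharacter G :=
  ⟨fun g => (χ : G → ℂ) (g ^ m), by
    haveI : NeZero (Nat.card G) := ⟨Nat.card_pos.ne'⟩
    obtain ⟨φ, hφ⟩ := exists_hom (Nat.card G) m hm
    have h1 := gal_irr φ χ.2
    have h2 : (fun g => φ ((χ : G → ℂ) g)) = fun g => (χ : G → ℂ) (g ^ m) := by
      funext g
      exact pow_char Nat.card_pos.ne' hφ (IsIrr.isCharacter χ.2) g pow_card_eq_one'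
    rw [h2] at h1
    exact h1⟩

theorem powI_apply [Finite G] (m : ℕ) (hm : m.Coprime (Nat.card G)) (χ : IrrCharacter G) (g : G) :
    (powI m hm χ : G → ℂ) g = (χ : G → ℂ) (g ^ m) := rfl

/-- inverse exponent -/
theorem exists_inv_exp {m n : ℕ} (hm : m.Coprime n) (hn : n ≠ 0) : ∃ k : ℕ, k.Coprime n ∧ (m * k) % n = 1 % n := by
  obtain ⟨k, -, hk⟩ := Nat.exists_mul_mod_eq_of_coprime (k := n) (n := m) 1 hm hn
  refine ⟨k, ?_, hk⟩
  have h1 : (m * k).Coprime n := by
    have : m * k ≡ 1 [MOD n] := hk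
    rw [Nat.Coprime, this.gcd_eq, Nat.gcd_one_left]
  exact Nat.Coprime.coprime_mul_left h1

theorem pow_mod_card [Finite G] (g : G) {k : ℕ} (hk : k % Nat.card G = 1 % Nat.card G) : g ^ k = g := by
  rw [← pow_mod_natCard, hk, pow_mod_natCard, pow_one]

/-- `powI` is bijective -/
theorem powI_injective [Finite G] (m : ℕ) (hm : m.Coprime (Nat.card G)) : Function.Injective (powI (G := G) m hm) := by
  intro χ ψ h
  obtain ⟨k, -, hk⟩ := exists_inv_exp hm Nat.card_pos.ne'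
  apply Subtype.ext
  funext g
  have h1 := congrFun (congrArg Subtype.val h) (g ^ k)
  rw [powI_apply, powI_apply, ← pow_mul, mul_comm, pow_mod_card g hk] at h1
  exact h1

theorem centralizer_pow [Finite G] (m : ℕ) (hm : m.Coprime (Nat.card G)) (g : G) :
    Subgroup.centralizer ({g ^ m} : Set G) = Subgroup.centralizer ({g} : Set G) := by
  obtain ⟨k, -, hk⟩ := exists_inv_exp hm Nat.card_pos.ne'
  have h0 : (g ^ m) ^ k = g := by rw [← pow_mul, pow_mod_card g hk]
  ext x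
  rw [Subgroup.mem_centralizer_singleton_iff, Subgroup.mem_centralizer_singleton_iff]
  constructor
  · intro h
    have h1 : Commute x (g ^ m) := h
    have h2 := h1.pow_right k
    rw [h0] at h2
    exact h2
  · intro h
    have h1 : Commute x g := h
    exact h1.pow_right m

end Cfsg.Agent.H26.GalConj
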