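import Mathlib
import Cfsg.Agent.H26_GalConj
import Cfsg.Agent.H26_BP
import Cfsg.Agent.H10_BlockQuot
import Cfsg.Agent.H11_Cores

/-!
# H26_B0: principal block: stability under Galois conjugation, reduction modulo `O_{p'}(G)`
-/

set_option autoImplicit false

namespace Cfsg.Agent.H26.B0

open Cfsg Cfsg.Agent.H3.CharIrr Cfsg.Agent.H3.CharComplete Cfsg.Agent.H3.CharInd
  Cfsg.Agent.H3.CharGal Cfsg.Agent.H10.BlockLoc Cfsg.Agent.H10.BlockIdem Cfsg.Agent.H10.BlockQuot
  Cfsg.Agent.H10.BlockOrth Cfsg.Agent.H10.BlockKer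
  Cfsg.Agent.H26.Basic Cfsg.Agent.H26.GalConj

open scoped ComplexConjugate

variable {G : Type*} [Group G] {p : ℕ} {M : Ideal AlgInt}

theorem mem_principal_iff [Fintype G] [M.IsMaximal] (χ : IrrCharacter G) :
    χ ∈ principalBlock M G ↔ ∀ g : G, MemLocalIdeal M (((Subgroup.centralizer ({g} : Set G)).index : ℂ) - centralChar (χ : G → ℂ) g) := by
  show SameBlock M _ _ ↔ _
  unfold SameBlock
  have h1 : ∀ g : G, centralChar (fun _ : G => (1:ℂ)) g = ((Subgroup.centralizer ({g} : Set G)).index : ℂ) := by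
    intro g; rw [centralChar, mul_one, div_one]
  simp_rw [h1]

/-- the principal block is stable under `χ ↦ χ ∘ (· ^ m)` -/
theorem powI_mem_principal [Fintype G] [M.IsMaximal] {χ : IrrCharacter G} (hχ : χ ∈ principalBlock M G)
    (m : ℕ) (hm : m.Coprime (Nat.card G)) : powI m hm χ ∈ principalBlock M G := by
  rw [mem_principal_iff] at hχ ⊢
  intro g
  have h1 := hχ (g ^ m)
  rw [centralChar, centralizer_pow m hm] at h1
  rw [centralChar, powI_apply, powI_apply, one_pow]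
  exact h1

theorem int_sum_sq [Fintype G] (S : Finset (IrrCharacter G))
    (hS : ∀ (m : ℕ) (hm : m.Coprime (Nat.card G)), ∀ χ ∈ S, powI m hm χ ∈ S) (x : G) :
    ∃ k : ℤ, ∑ χ ∈ S, (χ : G → ℂ) x * (χ : G → ℂ) x⁻¹ = k := by
  classical
  haveI : NeZero (Nat.card G) := ⟨Nat.card_pos.ne'⟩
  have hint : IsIntegral ℤ (∑ χ ∈ S, (χ : G → ℂ) x * (χ : G → ℂ) x⁻¹) :=
    IsIntegral.sum _ fun χ _ => (integral_val χ _).mul (integral_val χ _)
  have hmem : ∑ χ ∈ S, (χ : G → ℂ) x * (χ : G → ℂ) x⁻¹ ∈ Cyc (Nat.card G) := by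
    apply sum_mem
    intro χ _
    exact mul_mem (IsChar.mem_cyc (IsIrr.isCharacter χ.2) x pow_card_eq_one')
      (IsChar.mem_cyc (IsIrr.isCharacter χ.2) x⁻¹ pow_card_eq_one')
  obtain ⟨q, hq⟩ := rat_of_hom hmem (by
    intro φ m hm hφ
    rw [map_sum]
    have h1 : ∀ χ ∈ S, φ ((χ : G → ℂ) x * (χ : G → ℂ) x⁻¹) = (powI m hm χ : G → ℂ) x * (powI m hm χ : G → ℂ) x⁻¹ := by
      intro χ _
      rw [map_mul, pow_char Nat.card_pos.ne' hφ (IsIrr.isCharacter χ.2) x pow_card_eq_one',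
        pow_char Nat.card_pos.ne' hφ (IsIrr.isCharacter χ.2) x⁻¹ pow_card_eq_one']
      rfl
    rw [Finset.sum_congr rfl h1]
    have h2 : S.image (powI m hm) = S := by
      apply Finset.eq_of_subset_of_card_le
      · intro χ hχ
        obtain ⟨ψ, hψ, rfl⟩ := Finset.mem_image.1 hχ
        exact hS m hm ψ hψ
      · rw [Finset.card_image_of_injective _ (powI_injective m hm)]
    conv_rhs => rw [← h2]
    rw [Finset.sum_image (fun a _ b _ h => powI_injective m hm h)])
  rw [hq] at hint ⊢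
  obtain ⟨k, hk⟩ := int_of_integral_rat hint
  exact ⟨k, by rw [← hk]; push_cast; rfl⟩

/-- inflation is a bijection from the principal block of `G ⧸ O_{p'}(G)` onto that of `G` -/
theorem bijOn_infl [Fintype G] [hp : Fact p.Prime] (hM : IsPModular p M) [Fintype (G ⧸ pPrimeCore p G)] :
    Set.BijOn (infl (pPrimeCore p G)) (principalBlock M (G ⧸ pPrimeCore p G)) (principalBlock M G) := by
  haveI := hM.2.1
  have hcop : ¬ p ∣ Nat.card (pPrimeCore p G) := by
    have h1 := Cfsg.Agent.H11.Cores.pPrimeCore_coprime (G := G) p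
    rw [Nat.coprime_comm] at h1
    exact (Nat.Prime.coprime_iff_not_dvd hp.out).1 h1
  have htr : infl (pPrimeCore p G) (triv (G ⧸ pPrimeCore p G)) = triv G := by
    apply Subtype.ext; funext g
    rw [infl_apply, triv_coe, triv_coe]
  refine ⟨fun ψ hψ => ?_, fun a _ b _ h => infl_injective _ h, fun χ hχ => ?_⟩
  · rw [principal_eq] at hψ ⊢
    have h1 := sameBlock_infl (pPrimeCore p G) hψ
    rw [htr] at h1
    exact h1
  · have hker := principal_ker hM (pPrimeCore p G) hcop hχ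
    obtain ⟨ψ, hψ⟩ := exists_infl (pPrimeCore p G) hker
    refine ⟨ψ, ?_, hψ⟩
    rw [principal_eq] at hχ ⊢
    have h1 : SameBlock M ((triv G : IrrCharacter G) : G → ℂ) (χ : G → ℂ) := hχ
    rw [← htr, ← hψ] at h1
    exact sameBlock_of_infl (pPrimeCore p G) hM hcop h1

end Cfsg.Agent.H26.B0
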