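import Mathlib
import Cfsg.Agent.H26_Basic
import Cfsg.Agent.H3_Clifford2
import Cfsg.Agent.H3_CharCalc

/-!
H26_Cliff: complements to Clifford correspondence.
-/

set_option autoImplicit false
set_option linter.style.haveILetI false

namespace Cfsg.Agent.H26.Cliff

open Cfsg Cfsg.Agent.H3.CharIrr Cfsg.Agent.H3.CharComplete Cfsg.Agent.H3.CharInd Cfsg.Agent.H26.Basic
  Cfsg.Agent.H3.Clifford Cfsg.Agent.H3.CharMult
open scoped ComplexConjugate

variable {G : Type*} [Group G] [Fintype G]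

/-- restriction in stages -/
theorem res_stages {N T : Subgroup G} [Fintype N] [Fintype T] [Fintype (IrrCharacter T)] (hNT : N ≤ T) {χ : G → ℂ}
    (hχ : IsClassFunction G χ) (θ : N → ℂ) :
    classInner (fun n : N => χ n) θ = ∑ φ : IrrCharacter T, classInner (fun t : T => χ t) (φ : T → ℂ) *
      classInner (fun n : N => (φ : T → ℂ) ⟨(n : G), hNT n.2⟩) θ := by
  have h1 : (fun n : N => χ n) = ∑ φ : IrrCharacter T, classInner (fun t : T => χ t) (φ : T → ℂ) •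
      (fun n : N => (φ : T → ℂ) ⟨(n : G), hNT n.2⟩) := by
    funext n
    rw [Finset.sum_apply]
    have := expand_apply (fun t : T => χ t) (IsClass.res hχ T) ⟨(n : G), hNT n.2⟩
    exact this
  rw [h1, ci_sum_left]
  exact Finset.sum_congr rfl fun φ _ => ci_smul_left _ _ _

variable {N : Subgroup G} [hN : N.Normal]

theorem unique_over [Fintype N] {χ : G → ℂ} (hχ : IsIrrCharacter G χ) {θ : N → ℂ} (hθ : IsIrrCharacter N θ)
    (h1 : classInner (fun n : N => χ n) θ ≠ 0) (T : Subgroup G) [Fintype T] (hT : T = inertia hN θ) (hNT : N ≤ T) :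
    ∃ ψ₀ : T → ℂ, IsIrrCharacter T ψ₀ ∧ indFun T ψ₀ = χ ∧
      ∀ ψ : T → ℂ, IsIrrCharacter T ψ → classInner (fun n : N => ψ ⟨(n : G), hNT n.2⟩) θ ≠ 0 →
        classInner (fun t : T => χ t) ψ ≠ 0 → ψ = ψ₀ := by
  classical
  haveI : Fintype (IrrCharacter T) := Fintype.ofFinite _
  obtain ⟨ψ₀, h0, hind, hmul⟩ := Cfsg.Agent.H3.Clifford.clifford_corr hN hχ hθ h1 T hT hNT
  refine ⟨ψ₀, h0, hind, ?_⟩
  intro ψ hψ hψθ hψχ
  by_contra hne
  have hst := res_stages hNT (IsIrr.isClass hχ) θ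
  have hnat : ∀ φ : IrrCharacter T, ∃ n : ℕ, classInner (fun t : T => χ t) (φ : T → ℂ) *
      classInner (fun n : N => (φ : T → ℂ) ⟨(n : G), hNT n.2⟩) θ = n := by
    intro φ
    obtain ⟨a, ha⟩ := ci_char_nat (IsChar.res (IsIrr.isCharacter hχ) T) (IsIrr.isCharacter φ.2)
    obtain ⟨b, hb⟩ := ci_char_nat (IsChar.comp (IsIrr.isCharacter φ.2) (Subgroup.inclusion hNT)) (IsIrr.isCharacter hθ)
    refine ⟨a * b, ?_⟩
    rw [Nat.cast_mul, ← ha, ← hb]
    rfl
  choose n hn using hnat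
  rw [Finset.sum_congr rfl (fun φ _ => hn φ), ← Nat.cast_sum] at hst
  have hone : classInner (fun t : T => χ t) ψ₀ = 1 := by
    rw [← frobenius' T ψ₀ χ (IsIrr.isClass hχ), hind, ci_irr_self hχ]
  have h2 : (n ⟨ψ₀, h0⟩ : ℂ) = classInner (fun n : N => χ n) θ := by
    rw [← hn, ← hmul]
    show classInner (fun t : T => χ t) ψ₀ * _ = _
    rw [hone, one_mul]
  have h3 : n ⟨ψ, hψ⟩ ≠ 0 := by
    intro h
    have := hn ⟨ψ, hψ⟩
    rw [h, Nat.cast_zero] at this
    exact (mul_ne_zero hψχ hψθ) this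
  have h4 : (∑ φ : IrrCharacter T, n φ) = n ⟨ψ₀, h0⟩ := by
    have : ((∑ φ : IrrCharacter T, n φ : ℕ) : ℂ) = (n ⟨ψ₀, h0⟩ : ℂ) := by rw [h2, hst]
    exact_mod_cast this
  have h5 : n ⟨ψ₀, h0⟩ + n ⟨ψ, hψ⟩ ≤ ∑ φ : IrrCharacter T, n φ := by
    rw [← Finset.sum_pair (f := n) (a := (⟨ψ₀, h0⟩ : IrrCharacter T)) (b := ⟨ψ, hψ⟩)]
    · exact Finset.sum_le_sum_of_subset (Finset.subset_univ _)
    · intro h
      exact hne (congrArg Subtype.val h).symm
  omega

/-- induction from the inertia group -/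
theorem ind_irr [Fintype N] {θ : N → ℂ} (hθ : IsIrrCharacter N θ)
    (T : Subgroup G) [Fintype T] (hT : T = inertia hN θ) (hNT : N ≤ T) {ψ : T → ℂ} (hψ : IsIrrCharacter T ψ)
    (hψθ : classInner (fun n : N => ψ ⟨(n : G), hNT n.2⟩) θ ≠ 0) : IsIrrCharacter G (indFun T ψ) := by
  classical
  haveI : Fintype (IrrCharacter T) := Fintype.ofFinite _
  obtain ⟨χ, hχ, hc⟩ := exists_constituent_ind (G := G) hψ
  have hc' : classInner (fun t : T => χ t) ψ ≠ 0 := (constituent_ind_iff (IsIrr.isCharacter hχ)).1 hc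
  have hχθ : classInner (fun n : N => χ n) θ ≠ 0 := by
    rw [res_stages hNT (IsIrr.isClass hχ) θ]
    have hnat : ∀ φ : IrrCharacter T, ∃ n : ℕ, classInner (fun t : T => χ t) (φ : T → ℂ) *
        classInner (fun n : N => (φ : T → ℂ) ⟨(n : G), hNT n.2⟩) θ = n := by
      intro φ
      obtain ⟨a, ha⟩ := ci_char_nat (IsChar.res (IsIrr.isCharacter hχ) T) (IsIrr.isCharacter φ.2)
      obtain ⟨b, hb⟩ := ci_char_nat (IsChar.comp (IsIrr.isCharacter φ.2) (Subgroup.inclusion hNT)) (IsIrr.isCharacter hθ)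
      refine ⟨a * b, ?_⟩
      rw [Nat.cast_mul, ← ha, ← hb]
      rfl
    choose n hn using hnat
    rw [Finset.sum_congr rfl (fun φ _ => hn φ), ← Nat.cast_sum]
    have h3 : n ⟨ψ, hψ⟩ ≠ 0 := by
      intro h
      have := hn ⟨ψ, hψ⟩
      rw [h, Nat.cast_zero] at this
      exact (mul_ne_zero hc' hψθ) this
    have h4 : n ⟨ψ, hψ⟩ ≤ ∑ φ : IrrCharacter T, n φ := Finset.single_le_sum (fun _ _ => Nat.zero_le _) (Finset.mem_univ _)
    have h5 : (∑ φ : IrrCharacter T, n φ) ≠ 0 := by omega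
    exact_mod_cast h5
  obtain ⟨ψ₀, _, hind, huniq⟩ := unique_over hχ hθ hχθ T hT hNT
  rw [huniq ψ hψ hψθ hc', hind]
  exact hχ

theorem ind_inj [Fintype N] {θ : N → ℂ} (hθ : IsIrrCharacter N θ)
    (T : Subgroup G) [Fintype T] (hT : T = inertia hN θ) (hNT : N ≤ T) {ψ ψ' : T → ℂ} (hψ : IsIrrCharacter T ψ)
    (hψθ : classInner (fun n : N => ψ ⟨(n : G), hNT n.2⟩) θ ≠ 0)
    (hψ' : IsIrrCharacter T ψ') (hψθ' : classInner (fun n : N => ψ' ⟨(n : G), hNT n.2⟩) θ ≠ 0)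
    (h : indFun T ψ = indFun T ψ') : ψ = ψ' := by
  classical
  haveI : Fintype (IrrCharacter T) := Fintype.ofFinite _
  have hχ := ind_irr hθ T hT hNT hψ hψθ
  have hc : classInner (fun t : T => indFun T ψ t) ψ ≠ 0 := by
    rw [← frobenius' T ψ _ (ind_isClass T ψ), ci_irr_self hχ]; exact one_ne_zero
  have hc' : classInner (fun t : T => indFun T ψ t) ψ' ≠ 0 := by
    rw [← frobenius' T ψ' _ (ind_isClass T ψ), ← h, ci_irr_self hχ]; exact one_ne_zero
  have hχθ : classInner (fun n : N => indFun T ψ n) θ ≠ 0 := by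
    rw [res_stages hNT (IsIrr.isClass hχ) θ]
    have hnat : ∀ φ : IrrCharacter T, ∃ n : ℕ, classInner (fun t : T => indFun T ψ t) (φ : T → ℂ) *
        classInner (fun n : N => (φ : T → ℂ) ⟨(n : G), hNT n.2⟩) θ = n := by
      intro φ
      obtain ⟨a, ha⟩ := ci_char_nat (IsChar.res (IsIrr.isCharacter hχ) T) (IsIrr.isCharacter φ.2)
      obtain ⟨b, hb⟩ := ci_char_nat (IsChar.comp (IsIrr.isCharacter φ.2) (Subgroup.inclusion hNT)) (IsIrr.isCharacter hθ)
      refine ⟨a * b, ?_⟩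
      rw [Nat.cast_mul, ← ha, ← hb]
      rfl
    choose n hn using hnat
    rw [Finset.sum_congr rfl (fun φ _ => hn φ), ← Nat.cast_sum]
    have h3 : n ⟨ψ, hψ⟩ ≠ 0 := by
      intro h
      have := hn ⟨ψ, hψ⟩
      rw [h, Nat.cast_zero] at this
      exact (mul_ne_zero hc hψθ) this
    have h4 : n ⟨ψ, hψ⟩ ≤ ∑ φ : IrrCharacter T, n φ := Finset.single_le_sum (fun _ _ => Nat.zero_le _) (Finset.mem_univ _)
    have h5 : (∑ φ : IrrCharacter T, n φ) ≠ 0 := by omega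
    exact_mod_cast h5
  obtain ⟨ψ₀, _, hind, huniq⟩ := unique_over hχ hθ hχθ T hT hNT
  rw [huniq ψ hψ hψθ hc, huniq ψ' hψ' hψθ' hc']

/-- linear characters trivial on a subgroup -/
theorem card_trivial_le {G : Type*} [Group G] [Finite G] (I : Subgroup G) :
    Nat.card {f : G →* ℂˣ // ∀ x ∈ I, f x = 1} ≤ I.index := by
  classical
  haveI : Fintype (G ⧸ I) := Fintype.ofFinite _
  let L : {f : G →* ℂˣ // ∀ x ∈ I, f x = 1} → (G ⧸ I → ℂ) := fun f q => Quotient.liftOn' q (fun g => ((f.1 g : ℂˣ) : ℂ)) (by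
    intro a b h
    rw [QuotientGroup.leftRel_apply] at h
    have h1 := f.2 _ h
    rw [map_mul, map_inv, inv_mul_eq_one] at h1
    show ((f.1 a : ℂˣ) : ℂ) = ((f.1 b : ℂˣ) : ℂ)
    rw [h1])
  have hL : ∀ f (g : G), L f (QuotientGroup.mk g) = ((f.1 g : ℂˣ) : ℂ) := fun _ _ => rfl
  have hli : LinearIndependent ℂ L := by
    have h1 : LinearIndependent ℂ (fun f : {f : G →* ℂˣ // ∀ x ∈ I, f x = 1} =>
        ((((Units.coeHom ℂ).comp f.1 : G →* ℂ)) : G → ℂ)) := by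
      have := (linearIndependent_monoidHom G ℂ).comp
        (fun f : {f : G →* ℂˣ // ∀ x ∈ I, f x = 1} => (Units.coeHom ℂ).comp f.1) (by
          intro a b h
          apply Subtype.ext
          ext g
          have := DFunLike.congr_fun h g
          simpa using this)
      exact this
    apply LinearIndependent.of_comp (LinearMap.funLeft ℂ ℂ (QuotientGroup.mk : G → G ⧸ I))
    exact h1
  haveI : Finite {f : G →* ℂˣ // ∀ x ∈ I, f x = 1} := hli.finite_of_isNoetherian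
  haveI : Fintype {f : G →* ℂˣ // ∀ x ∈ I, f x = 1} := Fintype.ofFinite _
  have h2 := hli.fintype_card_le_finrank
  rw [Module.finrank_fintype_fun_eq_card] at h2
  rw [Nat.card_eq_fintype_card, Subgroup.index, Nat.card_eq_fintype_card]
  exact h2

end Cfsg.Agent.H26.Cliff
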