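import Mathlib
import Cfsg.Agent.H26_B0
import Cfsg.Agent.H26_Cliff
import Cfsg.Agent.H10_BlockCov
import Cfsg.Agent.H10_BlockKer
import Cfsg.Agent.H3_Clifford2
import Cfsg.Agent.H25_Brauer
import Cfsg.Agent.H25_BrauerP

/-!
# H26_AD1: sums over regular elements and the principal block
-/

set_option autoImplicit false

namespace Cfsg.Agent.H26.AD

open Cfsg Cfsg.Agent.H3.CharIrr Cfsg.Agent.H3.CharComplete Cfsg.Agent.H3.CharInd Cfsg.Agent.H3.CharBasic
  Cfsg.Agent.H3.CharGal Cfsg.Agent.H10.BlockLoc Cfsg.Agent.H10.BlockIdem Cfsg.Agent.H10.BlockQuot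
  Cfsg.Agent.H10.BlockOrth Cfsg.Agent.H10.BlockKer Cfsg.Agent.H10.BlockCov Cfsg.Agent.H3.Clifford
  Cfsg.Agent.H26.Basic Cfsg.Agent.H26.GalConj Cfsg.Agent.H26.B0

open scoped ComplexConjugate

section count

variable {G : Type*} [Group G] [Finite G] {p : ℕ} [hp : Fact p.Prime]

/-- with a central Sylow subgroup the number of regular elements is its index -/
theorem card_preg_of_central (Q : Sylow p G) (hQ : ∀ q ∈ (Q : Subgroup G), ∀ g : G, g * q = q * g) :
    Nat.card {g : G // ¬ p ∣ orderOf g} = (Q : Subgroup G).index := by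
  classical
  haveI hn : (Q : Subgroup G).Normal := ⟨fun q hq g => by
    rw [hQ q hq g, mul_inv_cancel_right]; exact hq⟩
  rw [Subgroup.index_eq_card]
  refine Nat.card_congr (Equiv.ofBijective (fun g : {g : G // ¬ p ∣ orderOf g} => (QuotientGroup.mk g.1 : G ⧸ (Q : Subgroup G))) ⟨?_, ?_⟩)
  · rintro ⟨a, ha⟩ ⟨b, hb⟩ hab
    apply Subtype.ext
    have h1 : a⁻¹ * b ∈ (Q : Subgroup G) := QuotientGroup.eq.1 hab
    have hc : Commute a (a⁻¹ * b) := hQ _ h1 a
    have hb' : a * (a⁻¹ * b) = b := by group
    obtain ⟨k, hk⟩ := IsPGroup.iff_orderOf.1 Q.isPGroup' ⟨a⁻¹ * b, h1⟩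
    rw [Subgroup.orderOf_mk] at hk
    have hcop : Nat.Coprime (orderOf a) (orderOf (a⁻¹ * b)) := by
      rw [hk]; exact Nat.Coprime.pow_right _ (Nat.Coprime.symm ((hp.out.coprime_iff_not_dvd).2 ha))
    have h2 := hc.orderOf_mul_eq_mul_orderOf_of_coprime hcop
    rw [hb', hk] at h2
    have hk0 : k = 0 := by
      by_contra hk0
      apply hb
      rw [h2]
      exact Dvd.dvd.mul_left (dvd_pow_self p hk0) _
    rw [hk0, pow_zero, orderOf_eq_one_iff, inv_mul_eq_one] at hk
    exact hk
  · intro y
    obtain ⟨g, rfl⟩ := QuotientGroup.mk_surjective y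
    haveI : Fintype G := Fintype.ofFinite G
    obtain ⟨x, s, hxs, hcomm, hx, k, hs⟩ := Cfsg.Agent.H25.Brauer.exists_p_parts p g
    have hsQ : s ∈ (Q : Subgroup G) := by
      have h1 : IsPGroup p (Subgroup.zpowers s) := IsPGroup.of_card (n := k) (by rw [Nat.card_zpowers, hs])
      obtain ⟨Q', hQ'⟩ := h1.exists_le_sylow
      letI := Sylow.unique_of_normal Q hn
      rw [Subsingleton.elim Q Q']
      exact hQ' (Subgroup.mem_zpowers s)
    refine ⟨⟨x, hx⟩, ?_⟩
    apply QuotientGroup.eq.2
    rw [← hxs, inv_mul_cancel_left]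
    exact hsQ

theorem card_preg : ¬ p ∣ Nat.card {g : G // ¬ p ∣ orderOf g} := by
  classical
  obtain ⟨P⟩ : Nonempty (Sylow p G) := inferInstance
  let act : MulAction (P : Subgroup G) {g : G // ¬ p ∣ orderOf g} :=
    { smul := fun u g => ⟨u * g.1 * (u : G)⁻¹, by
        have : orderOf ((u : G) * g.1 * (u : G)⁻¹) = orderOf g.1 := by
          rw [← MulAut.conj_apply, MulEquiv.orderOf_eq]
        rw [this]; exact g.2⟩
      one_smul := fun g => Subtype.ext (by
        change ((1 : (P : Subgroup G)) : G) * g.1 * ((1 : (P : Subgroup G)) : G)⁻¹ = g.1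
        simp)
      mul_smul := fun u v g => Subtype.ext (by
        change ((u * v : (P : Subgroup G)) : G) * g.1 * ((u * v : (P : Subgroup G)) : G)⁻¹ = u * (v * g.1 * (v : G)⁻¹) * (u : G)⁻¹
        rw [Subgroup.coe_mul]; group) }
  have h1 := P.isPGroup'.card_modEq_card_fixedPoints {g : G // ¬ p ∣ orderOf g}
  have hfix : ∀ g : {g : G // ¬ p ∣ orderOf g}, g ∈ MulAction.fixedPoints (P : Subgroup G) {g : G // ¬ p ∣ orderOf g} ↔
      g.1 ∈ Subgroup.centralizer ((P : Subgroup G) : Set G) := by
    intro g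
    rw [MulAction.mem_fixedPoints, Subgroup.mem_centralizer_iff]
    constructor
    · intro h u hu
      have := congrArg Subtype.val (h ⟨u, hu⟩)
      change u * g.1 * u⁻¹ = g.1 at this
      rw [mul_inv_eq_iff_eq_mul] at this
      exact this
    · intro h u
      apply Subtype.ext
      change (u : G) * g.1 * (u : G)⁻¹ = g.1
      rw [mul_inv_eq_iff_eq_mul]
      exact h u u.2
  have h2 : Nat.card (MulAction.fixedPoints (P : Subgroup G) {g : G // ¬ p ∣ orderOf g}) =
      Nat.card {c : Subgroup.centralizer ((P : Subgroup G) : Set G) // ¬ p ∣ orderOf c} := by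
    refine Nat.card_congr
      { toFun := fun g => ⟨⟨g.1.1, (hfix g.1).1 g.2⟩, by rw [Subgroup.orderOf_mk]; exact g.1.2⟩
        invFun := fun c => ⟨⟨c.1.1, by have := c.2; rwa [← Subgroup.orderOf_coe] at this⟩, (hfix _).2 c.1.2⟩
        left_inv := fun g => rfl
        right_inv := fun c => rfl }
  obtain ⟨Q⟩ : Nonempty (Sylow p (Subgroup.centralizer ((P : Subgroup G) : Set G))) := inferInstance
  have h3 := card_preg_of_central Q (by
    intro q hq c
    have hqP : (q : G) ∈ (P : Subgroup G) := by
      have hPz : IsPGroup p ((P : Subgroup G) ⊔ Subgroup.zpowers (q : G) : Subgroup G) := by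
        have hz : IsPGroup p (Subgroup.zpowers (q : G)) := by
          obtain ⟨k, hk⟩ := IsPGroup.iff_orderOf.1 Q.isPGroup' ⟨q, hq⟩
          rw [Subgroup.orderOf_mk] at hk
          exact IsPGroup.of_card (n := k) (by rw [Nat.card_zpowers, Subgroup.orderOf_coe, hk])
        apply IsPGroup.to_sup_of_normal_left' P.isPGroup' hz
        rw [Subgroup.zpowers_le, Subgroup.mem_normalizer_iff]
        intro n
        have hc := Subgroup.mem_centralizer_iff.1 q.2
        constructor
        · intro hn
          have := hc n hn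
          rw [← this, mul_inv_cancel_right]; exact hn
        · intro hn
          have h5 := hc _ hn
          have h6 : n * (q : G) = q * n := by
            have : (q : G) * n * (q : G)⁻¹ * q = q * (q * n * (q : G)⁻¹) := h5
            rw [inv_mul_cancel_right] at this
            have h7 : n = q * n * (q : G)⁻¹ := by
              have := mul_left_cancel this
              exact this
            calc n * (q : G) = (q * n * (q : G)⁻¹) * q := by rw [← h7]
              _ = q * n := by group
          rw [← h6, mul_inv_cancel_right] at hn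
          exact hn
      have := P.is_maximal' hPz le_sup_left
      have h8 : (q : G) ∈ (P : Subgroup G) ⊔ Subgroup.zpowers (q : G) := Subgroup.mem_sup_right (Subgroup.mem_zpowers _)
      exact this.le h8
    apply Subtype.ext
    rw [Subgroup.coe_mul, Subgroup.coe_mul]
    exact (Subgroup.mem_centralizer_iff.1 c.2 q hqP).symm)
  intro hd
  have h4 : p ∣ Nat.card (MulAction.fixedPoints (P : Subgroup G) {g : G // ¬ p ∣ orderOf g}) :=
    (h1.dvd_iff (dvd_refl p)).1 hd
  rw [h2, h3] at h4
  exact Q.not_dvd_index h4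

end count

section sums

variable {G : Type*} [Group G] {p : ℕ} {M : Ideal AlgInt}

open Classical in
/-- the restriction of `f` to the `p`-regular elements -/
noncomputable def reg (p : ℕ) (f : G → ℂ) : G → ℂ := fun x => if p ∣ orderOf x then 0 else f x

theorem reg_of_not {f : G → ℂ} {x : G} (h : ¬ p ∣ orderOf x) : reg p f x = f x := if_neg h

theorem reg_of {f : G → ℂ} {x : G} (h : p ∣ orderOf x) : reg p f x = 0 := if_pos h

theorem reg_class {f : G → ℂ} (hf : IsClassFunction G f) : IsClassFunction G (reg p f) := by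
  intro g x
  have h1 : orderOf (x * g * x⁻¹) = orderOf g := by
    rw [← MulAut.conj_apply, MulEquiv.orderOf_eq]
  simp only [reg, h1, hf g x]

theorem reg_sum {ι : Type*} (s : Finset ι) (F : ι → G → ℂ) (x : G) : reg p (∑ i ∈ s, F i) x = ∑ i ∈ s, reg p (F i) x := by
  by_cases h : p ∣ orderOf x
  · rw [reg_of h]; rw [Finset.sum_eq_zero]; intro i _; exact reg_of h
  · rw [reg_of_not h, Finset.sum_apply]; exact Finset.sum_congr rfl fun i _ => (reg_of_not h).symm

theorem reg_smul (c : ℂ) (f : G → ℂ) (x : G) : reg p (c • f) x = c * reg p f x := by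
  by_cases h : p ∣ orderOf x
  · rw [reg_of h, reg_of h, mul_zero]
  · rw [reg_of_not h, reg_of_not h]; rfl

/-- a character in the principal block has nonzero sum over the regular elements -/
theorem sum_ne_zero [Fintype G] [hp : Fact p.Prime] (hM : IsPModular p M) {χ : IrrCharacter G}
    (hχ : χ ∈ principalBlock M G) : ∑ g : G, reg p (χ : G → ℂ) g ≠ 0 := by
  classical
  haveI := hM.2.1
  haveI : Fintype (ConjClasses G) := Fintype.ofFinite _
  intro h0
  have h1 := sum_eq_sum_conjClasses (reg p (χ : G → ℂ)) (reg_class (IsIrr.isClass χ.2))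
  have h2 := sum_eq_sum_conjClasses (reg p (fun _ : G => (1:ℂ))) (reg_class (fun _ _ => rfl))
  rw [mem_principal_iff] at hχ
  have h3 : MemLocalIdeal M (∑ g : G, reg p (fun _ : G => (1:ℂ)) g - (∑ g : G, reg p (χ : G → ℂ) g) / (χ : G → ℂ) 1) := by
    rw [h1, h2, Finset.sum_div, ← Finset.sum_sub_distrib]
    apply ideal_sum
    intro C _
    by_cases h : p ∣ orderOf (Quotient.out C)
    · rw [reg_of h, reg_of h, mul_zero, zero_div, sub_zero]
      exact ideal_zero
    · rw [reg_of_not h, reg_of_not h, mul_one]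
      have h4 := hχ (Quotient.out C)
      rw [centralChar] at h4
      have h5 : Nat.card C.carrier = (Subgroup.centralizer ({Quotient.out C} : Set G)).index := by
        conv_lhs => rw [← Quotient.out_eq C]
        exact card_carrier_mk _
      rw [h5]
      exact h4
  rw [h0, zero_div, sub_zero] at h3
  have h6 : ∑ g : G, reg p (fun _ : G => (1:ℂ)) g = ((Nat.card {g : G // ¬ p ∣ orderOf g} : ℕ) : ℂ) := by
    rw [Nat.card_eq_fintype_card, Fintype.card_subtype, Finset.card_eq_sum_ones, Finset.sum_filter]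
    push_cast
    refine Finset.sum_congr rfl fun g _ => ?_
    by_cases h : p ∣ orderOf g
    · rw [reg_of h, if_neg (not_not.2 h)]
    · rw [reg_of_not h, if_pos h]
  rw [h6, ideal_natCast_iff hM] at h3
  exact card_preg h3

theorem mem_of_sum_ne [Fintype G] (hM : IsPModular p M) {χ : IrrCharacter G}
    (h : ∑ g : G, reg p (χ : G → ℂ) g ≠ 0) : χ ∈ principalBlock M G := by
  classical
  haveI := hM.2.1
  by_contra hcon
  apply h
  have h1 := orth_regular hM χ (triv G) (by
    intro hs
    apply hcon
    rw [principal_eq]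
    intro g
    exact ideal_sub_comm (hs g))
  rw [Finset.sum_filter] at h1
  rw [← h1]
  refine Finset.sum_congr rfl fun g _ => ?_
  by_cases h : p ∣ orderOf g
  · rw [reg_of h, if_neg (not_not.2 h)]
  · rw [reg_of_not h, if_pos h, triv_coe, map_one, mul_one]

theorem mem_iff_sum [Fintype G] [hp : Fact p.Prime] (hM : IsPModular p M) {χ : IrrCharacter G} :
    χ ∈ principalBlock M G ↔ ∑ g : G, reg p (χ : G → ℂ) g ≠ 0 :=
  ⟨sum_ne_zero hM, mem_of_sum_ne hM⟩

/-- transport of the principal block -/
theorem mem_principal_equiv {K L : Type*} [Group K] [Group L] [Fintype K] [Fintype L] [hp : Fact p.Prime] (hM : IsPModular p M)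
    (e : K ≃* L) {χ : IrrCharacter L} {χ' : IrrCharacter K} (h : ∀ k, (χ' : K → ℂ) k = (χ : L → ℂ) (e k)) :
    χ' ∈ principalBlock M K ↔ χ ∈ principalBlock M L := by
  rw [mem_iff_sum hM, mem_iff_sum hM]
  have h1 : ∑ g : K, reg p (χ' : K → ℂ) g = ∑ g : L, reg p (χ : L → ℂ) g := by
    rw [← Equiv.sum_comp e.toEquiv]
    refine Finset.sum_congr rfl fun g _ => ?_
    have h2 : orderOf (e g) = orderOf g := MulEquiv.orderOf_eq e g
    change _ = reg p (χ : L → ℂ) (e g)
    simp only [reg, h2, h]
  rw [h1]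

/-- induction multiplies the sum over regular elements by the index -/
theorem sum_ind [Fintype G] (H : Subgroup G) [Fintype H] (θ : H → ℂ) :
    ∑ g : G, reg p (indFun H θ) g = (H.index : ℂ) * ∑ h : H, reg p θ h := by
  classical
  have hG : (Nat.card G : ℂ) = (Nat.card H : ℂ) * (H.index : ℂ) := by
    rw [← Nat.cast_mul, H.card_mul_index]
  have hH0 : (Nat.card H : ℂ) ≠ 0 := by exact_mod_cast Nat.card_pos.ne'
  have h1 : ∀ g : G, reg p (indFun H θ) g = (Nat.card H : ℂ)⁻¹ * ∑ x : G, (if p ∣ orderOf g then 0 else extendByZero H θ (x⁻¹ * g * x)) := by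
    intro g
    by_cases h : p ∣ orderOf g
    · rw [reg_of h]; simp [h]
    · rw [reg_of_not h]; simp only [h, if_false]; rfl
  simp_rw [h1]
  rw [← Finset.mul_sum, Finset.sum_comm]
  have h2 : ∀ x : G, ∑ g : G, (if p ∣ orderOf g then 0 else extendByZero H θ (x⁻¹ * g * x)) = ∑ h : H, reg p θ h := by
    intro x
    rw [← Equiv.sum_comp (MulAut.conj x).toEquiv]
    have h3 : ∀ g : G, (if p ∣ orderOf ((MulAut.conj x).toEquiv g) then 0 else extendByZero H θ (x⁻¹ * ((MulAut.conj x).toEquiv g) * x)) =
        extendByZero H (reg p θ) g := by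
      intro g
      have e1 : orderOf ((MulAut.conj x).toEquiv g) = orderOf g := by
        change orderOf (MulAut.conj x g) = _
        rw [MulEquiv.orderOf_eq]
      have e2 : x⁻¹ * ((MulAut.conj x).toEquiv g) * x = g := by
        change x⁻¹ * (x * g * x⁻¹) * x = g
        group
      rw [e1, e2]
      by_cases hg : g ∈ H
      · rw [Cfsg.Agent.H25.BrauerP.extendByZero_of_mem H _ hg, Cfsg.Agent.H25.BrauerP.extendByZero_of_mem H _ hg]
        simp only [reg, Subgroup.orderOf_mk]
      · rw [Cfsg.Agent.H25.BrauerP.extendByZero_of_notMem H _ hg, Cfsg.Agent.H25.BrauerP.extendByZero_of_notMem H _ hg, ite_self]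
    rw [Finset.sum_congr rfl fun g _ => h3 g]
    have := Cfsg.Agent.H25.Brauer.sum_extendByZero H (reg p θ) (fun _ => (1:ℂ))
    simpa using this
  rw [Finset.sum_congr rfl fun x _ => h2 x, Finset.sum_const, Finset.card_univ, ← Nat.card_eq_fintype_card, nsmul_eq_mul, hG]
  field_simp

/-- every character of the principal block of a subgroup lies under the principal block -/
theorem exists_above [Fintype G] [hp : Fact p.Prime] (hM : IsPModular p M) (H : Subgroup G) [Fintype H] {θ : IrrCharacter H}
    (hθ : θ ∈ principalBlock M H) : ∃ χ ∈ principalBlock M G, classInner (fun h : H => (χ : G → ℂ) h) (θ : H → ℂ) ≠ 0 := by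
  classical
  haveI : Fintype (IrrCharacter G) := Fintype.ofFinite _
  by_contra hcon
  push Not at hcon
  have hcl : IsClassFunction G (indFun H (θ : H → ℂ)) := Cfsg.Agent.H25.Brauer.indFun_class H _
  have h1 := Cfsg.Agent.H25.Brauer.expansion_fintype (indFun H (θ : H → ℂ)) hcl
  have h2 : ∑ g : G, reg p (indFun H (θ : H → ℂ)) g = 0 := by
    rw [h1]
    simp_rw [reg_sum, reg_smul]
    rw [Finset.sum_comm]
    apply Finset.sum_eq_zero
    intro χ _
    rw [← Finset.mul_sum]
    by_cases hχ : χ ∈ principalBlock M G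
    · have h3 : classInner (indFun H (θ : H → ℂ)) (χ : G → ℂ) = 0 := by
        rw [Cfsg.Agent.H25.Brauer.frobenius H _ _ (IsIrr.isClass χ.2), ← ci_conj_symm, hcon χ hχ, map_zero]
      rw [h3, zero_mul]
    · have h4 : ∑ g : G, reg p (χ : G → ℂ) g = 0 := by
        by_contra h5
        exact hχ (mem_of_sum_ne hM h5)
      rw [h4, mul_zero]
  rw [sum_ind] at h2
  rcases mul_eq_zero.1 h2 with h | h
  · exact H.index_ne_zero_of_finite (by exact_mod_cast h)
  · exact sum_ne_zero hM hθ h

/-- the principal block of a normal subgroup is stable -/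
theorem cjI_principal [Fintype G] [hp : Fact p.Prime] (hM : IsPModular p M) {N : Subgroup G} (hN : N.Normal) [Fintype N] (g : G) (θ : IrrCharacter N) :
    cjI hN g θ ∈ principalBlock M N ↔ θ ∈ principalBlock M N :=
  mem_principal_equiv hM (cjEquiv hN g) (fun _ => rfl)

/-- the principal block lies over the principal block only -/
theorem below [Fintype G] [hp : Fact p.Prime] (hM : IsPModular p M) {N : Subgroup G} (hN : N.Normal) [Fintype N]
    {χ : IrrCharacter G} (hχ : χ ∈ principalBlock M G) {θ : IrrCharacter N}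
    (h : classInner (fun n : N => (χ : G → ℂ) n) (θ : N → ℂ) ≠ 0) : θ ∈ principalBlock M N := by
  classical
  haveI := hM.2.1
  haveI : Fintype (IrrCharacter N) := Fintype.ofFinite _
  have h1 : classInner (fun n : N => ((triv G : IrrCharacter G) : G → ℂ) n) ((triv N : IrrCharacter N) : N → ℂ) ≠ 0 := by
    have : (fun n : N => ((triv G : IrrCharacter G) : G → ℂ) n) = ((triv N : IrrCharacter N) : N → ℂ) := by
      ext n; rw [triv_coe, triv_coe]
    rw [this, ci_irr_self (triv N).2]
    exact one_ne_zero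
  obtain ⟨θ', hθ', g, hg⟩ := constituents_conj hN (M := M) principal_isPBlock principal_isPBlock triv_mem hχ triv_mem h1 h
  rw [hg]
  exact (cjI_principal hM hN g θ').2 hθ'

end sums

end Cfsg.Agent.H26.AD
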