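import Mathlib
import Cfsg.Agent.H26_AD1
import Cfsg.Agent.H3_Lift
import Cfsg.Agent.H25_BrauerP

/-!
# H26_AD2: restriction of the principal block to a normal subgroup covered by the centralizer of its Sylow subgroup
-/

set_option autoImplicit false

namespace Cfsg.Agent.H26.AD

open Cfsg Cfsg.Agent.H3.CharIrr Cfsg.Agent.H3.CharComplete Cfsg.Agent.H3.CharInd Cfsg.Agent.H3.CharBasic
  Cfsg.Agent.H3.CharGal Cfsg.Agent.H10.BlockLoc Cfsg.Agent.H10.BlockIdem Cfsg.Agent.H10.BlockQuot
  Cfsg.Agent.H10.BlockOrth Cfsg.Agent.H10.BlockKer Cfsg.Agent.H10.BlockCov Cfsg.Agent.H3.Clifford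
  Cfsg.Agent.H3.CharMult Cfsg.Agent.H3.Lift Cfsg.Agent.H25.Brauer Cfsg.Agent.H25.BrauerP
  Cfsg.Agent.H26.Basic Cfsg.Agent.H26.GalConj Cfsg.Agent.H26.B0

open scoped ComplexConjugate

variable {G : Type*} [Group G]

/-- `P` has index prime to `p` in `N`, and `G = N C_G(P)` -/
structure CovD (p : ℕ) (N P : Subgroup G) : Prop where
  le : P ≤ N
  idx : ¬ p ∣ P.relIndex N
  dec : ∀ x : G, ∃ n ∈ N, ∃ c : G, (∀ u ∈ P, c * u = u * c) ∧ x = n * c

variable [Fintype G] {p : ℕ} [hp : Fact p.Prime] {M : Ideal AlgInt}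

theorem eq_one_of_inKer (hM : IsPModular p M) {N : Subgroup G} (hN : N.Normal) {P : Subgroup G} (h : CovD p N P)
    (hidx : ¬ p ∣ N.index) {β : IrrCharacter G} (hβ : β ∈ principalBlock M G) (hk : InKer N (β : G → ℂ)) :
    β = triv G := by
  classical
  haveI := hM.2.1
  haveI := hN
  by_contra hne
  have h1 : ∀ x : G, MemLocalIdeal M ((β : G → ℂ) 1 - (β : G → ℂ) x) := by
    intro x
    obtain ⟨n, hn, c, hc, rfl⟩ := h.dec x
    rw [hk n hn c]
    have h2 : ¬ p ∣ (Subgroup.centralizer ({c} : Set G)).index := by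
      intro hd
      have h3 : P ≤ Subgroup.centralizer ({c} : Set G) := by
        intro u hu
        rw [Subgroup.mem_centralizer_singleton_iff]
        exact (hc u hu).symm
      have h4 := hd.trans (Subgroup.index_dvd_of_le h3)
      rw [← Subgroup.relIndex_mul_index h.le] at h4
      rcases (Nat.Prime.dvd_mul hp.out).1 h4 with h5 | h5
      · exact h.idx h5
      · exact hidx h5
    have h3 := (mem_principal_iff β).1 hβ c
    rw [centralChar] at h3
    have h4 : ((Subgroup.centralizer ({c} : Set G)).index : ℂ) - ((Subgroup.centralizer ({c} : Set G)).index : ℂ) * (β : G → ℂ) c / (β : G → ℂ) 1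
        = ((Subgroup.centralizer ({c} : Set G)).index : ℂ) * (((β : G → ℂ) 1 - (β : G → ℂ) c) / (β : G → ℂ) 1) := by
      have := one_ne β
      field_simp
    rw [h4] at h3
    have h5 := ideal_mul_right h3 (memLocalRing_of_integral hM.2.1.ne_top (integral_val β 1))
    have h6 : ((Subgroup.centralizer ({c} : Set G)).index : ℂ) * (((β : G → ℂ) 1 - (β : G → ℂ) c) / (β : G → ℂ) 1) * (β : G → ℂ) 1
        = ((Subgroup.centralizer ({c} : Set G)).index : ℂ) * ((β : G → ℂ) 1 - (β : G → ℂ) c) := by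
      have := one_ne β
      field_simp
    rw [h6] at h5
    rcases ideal_of_mul (ring_natCast _) (ring_sub (memLocalRing_of_integral hM.2.1.ne_top (integral_val β 1))
      (memLocalRing_of_integral hM.2.1.ne_top (integral_val β c))) h5 with h7 | h7
    · exact absurd ((ideal_natCast_iff hM _).1 h7) h2
    · exact h7
  haveI : Fintype (G ⧸ N) := Fintype.ofFinite _
  obtain ⟨γ, hγ⟩ := exists_infl N (ψ := β) (fun u hu => by
    have := hk u hu 1
    rwa [mul_one] at this)
  have h2 : ∑ x : G ⧸ N, (γ : G ⧸ N → ℂ) x = 0 := by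
    have h3 : (γ : G ⧸ N → ℂ) ≠ fun _ => (1 : ℂ) := by
      intro h3
      apply hne
      rw [← hγ]
      apply Subtype.ext
      ext g
      rw [infl_apply, h3, triv_coe]
    have h4 := ci_irr_ne γ.2 isIrr_one h3
    rw [classInner] at h4
    have hG : (Nat.card (G ⧸ N) : ℂ)⁻¹ ≠ 0 := inv_ne_zero (by exact_mod_cast Nat.card_pos.ne')
    have h5 := (mul_eq_zero.1 h4).resolve_left hG
    rw [← h5]
    refine Finset.sum_congr rfl fun x _ => ?_
    rw [map_one, mul_one]
  have h3 : MemLocalIdeal M (∑ x : G ⧸ N, ((γ : G ⧸ N → ℂ) 1 - (γ : G ⧸ N → ℂ) x)) := by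
    apply ideal_sum
    intro x _
    obtain ⟨g, rfl⟩ := QuotientGroup.mk_surjective x
    have := h1 g
    rw [← hγ, infl_apply, infl_apply] at this
    exact this
  rw [Finset.sum_sub_distrib, h2, sub_zero, Finset.sum_const, Finset.card_univ, nsmul_eq_mul, ← Nat.card_eq_fintype_card,
    ← cd_eq γ, ← Nat.cast_mul, ideal_natCast_iff hM] at h3
  rw [Subgroup.index_eq_card] at hidx
  rcases (Nat.Prime.dvd_mul hp.out).1 h3 with h4 | h4
  · exact hidx h4
  · exact hidx (h4.trans (cd_dvd_card γ))

/-- the average over `N` of the regular part of a principal character is constant -/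
theorem avg_reg (hM : IsPModular p M) {N : Subgroup G} (hN : N.Normal) [Fintype N] {P : Subgroup G} (h : CovD p N P)
    (hidx : ¬ p ∣ N.index) {χ : IrrCharacter G} (hχ : χ ∈ principalBlock M G) (x : G) :
    avg N (reg p (χ : G → ℂ)) x = (Nat.card G : ℂ)⁻¹ * ∑ g : G, reg p (χ : G → ℂ) g := by
  classical
  haveI := hM.2.1
  haveI : Fintype (IrrCharacter G) := Fintype.ofFinite _
  have hcl := avg_isClass hN (reg_class (p := p) (IsIrr.isClass χ.2))
  have h1 := expansion_fintype _ hcl
  rw [h1, Finset.sum_apply, Finset.sum_eq_single (triv G)]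
  · rw [Pi.smul_apply, triv_coe, smul_eq_mul, mul_one, ci_avg_left]
    have h3 : InKer N ((triv G : IrrCharacter G) : G → ℂ) := fun _ _ _ => by rw [triv_coe, triv_coe]
    rw [h3.avg_eq, classInner]
    congr 1
    refine Finset.sum_congr rfl fun g _ => ?_
    rw [triv_coe, map_one, mul_one]
  · intro β _ hne
    rw [Pi.smul_apply, ci_avg_left]
    rcases avg_irr hN β.2 with hk | hk
    · rw [hk.avg_eq]
      have h4 : ¬ SameBlock M (χ : G → ℂ) (β : G → ℂ) := by
        intro hs
        apply hne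
        apply eq_one_of_inKer hM hN h hidx _ hk
        intro g
        have h5 := ideal_add (hχ g) (hs g)
        rw [sub_add_sub_cancel] at h5
        exact h5
      have h5 := orth_regular hM χ β h4
      rw [Finset.sum_filter] at h5
      have h6 : classInner (reg p (χ : G → ℂ)) (β : G → ℂ) = 0 := by
        rw [classInner]
        apply mul_eq_zero_of_right
        rw [← h5]
        refine Finset.sum_congr rfl fun g _ => ?_
        by_cases hg : p ∣ orderOf g
        · rw [reg_of hg, if_neg (not_not.2 hg), zero_mul]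
        · rw [reg_of_not hg, if_pos hg]
      rw [h6, zero_smul]
    · rw [hk, ci_zero_right, zero_smul]
  · intro h; exact absurd (Finset.mem_univ _) h

theorem avg_reg_ne (hM : IsPModular p M) {N : Subgroup G} (hN : N.Normal) [Fintype N] {P : Subgroup G} (h : CovD p N P)
    (hidx : ¬ p ∣ N.index) {χ : IrrCharacter G} (hχ : χ ∈ principalBlock M G) (x : G) :
    avg N (reg p (χ : G → ℂ)) x ≠ 0 := by
  rw [avg_reg hM hN h hidx hχ]
  exact mul_ne_zero (inv_ne_zero (by exact_mod_cast Nat.card_pos.ne')) (sum_ne_zero hM hχ)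

omit hp in
theorem avg_reg_mul {N : Subgroup G} [Fintype N] {β : G → ℂ} (hk : InKer N β) (χ : G → ℂ) (x : G) :
    avg N (reg p (β * χ)) x = β x * avg N (reg p χ) x := by
  have h1 : ∀ n : N, reg p (β * χ) (n * x) = β x * reg p χ (n * x) := by
    intro n
    by_cases hg : p ∣ orderOf ((n : G) * x)
    · rw [reg_of hg, reg_of hg, mul_zero]
    · rw [reg_of_not hg, reg_of_not hg, Pi.mul_apply, hk n n.2]
  simp only [avg, h1]
  rw [← Finset.mul_sum]
  ring

/-- abelian quotients -/
theorem res_irr_abelian (hM : IsPModular p M) {N : Subgroup G} (hN : N.Normal) [Fintype N] {P : Subgroup G} (h : CovD p N P)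
    (hidx : ¬ p ∣ N.index) (hab : ∀ a b : G, a * b * a⁻¹ * b⁻¹ ∈ N) {χ : IrrCharacter G} (hχ : χ ∈ principalBlock M G) :
    IsIrrCharacter N (fun n : N => (χ : G → ℂ) n) := by
  classical
  haveI := hM.2.1
  haveI := hN
  haveI : Fintype (IrrCharacter G) := Fintype.ofFinite _
  haveI : Fintype (G ⧸ N) := Fintype.ofFinite _
  have hc := IsIrr.isCharacter χ.2
  have hf : IsCharacter G ((χ : G → ℂ) * fun g => conj ((χ : G → ℂ) g)) := IsChar.mul hc (IsChar.conj hc)
  have hcl := IsChar.isClass (avg_isChar hN hf)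
  have h1 := congrFun (expansion_fintype _ hcl) 1
  rw [isIrr_iff_norm]
  refine ⟨H3.CharInd.IsChar.res hc N, ?_⟩
  have h2 : classInner (fun n : N => (χ : G → ℂ) n) (fun n : N => (χ : G → ℂ) n) =
      avg N ((χ : G → ℂ) * fun g => conj ((χ : G → ℂ) g)) 1 := by
    rw [classInner, avg]
    simp only [Pi.mul_apply, mul_one]
  rw [h2, h1, Finset.sum_apply, Finset.sum_eq_single (triv G)]
  · rw [Pi.smul_apply, triv_coe, smul_eq_mul, mul_one, ci_avg_left]
    have h3 : InKer N ((triv G : IrrCharacter G) : G → ℂ) := fun _ _ _ => by rw [triv_coe, triv_coe]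
    rw [h3.avg_eq]
    have h4 := ci_irr_self χ.2
    rw [classInner] at h4 ⊢
    rw [← h4]
    congr 1
    refine Finset.sum_congr rfl fun g _ => ?_
    rw [triv_coe, map_one, mul_one]; rfl
  · intro β _ hne
    rw [Pi.smul_apply, ci_avg_left]
    rcases avg_irr hN β.2 with hk | hk
    · rw [hk.avg_eq]
      have hβ1 : (β : G → ℂ) 1 = 1 := by
        obtain ⟨γ, hγ⟩ := exists_infl N (ψ := β) (fun u hu => by
          have := hk u hu 1
          rwa [mul_one] at this)
        have hγ1 : (γ : G ⧸ N → ℂ) 1 = 1 := by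
          apply irr_one_of_comm _ γ.2
          intro a b
          obtain ⟨a, rfl⟩ := QuotientGroup.mk_surjective a
          obtain ⟨b, rfl⟩ := QuotientGroup.mk_surjective b
          rw [← QuotientGroup.mk_mul, ← QuotientGroup.mk_mul]
          apply (QuotientGroup.eq.2 _).symm
          have h5 := hab b⁻¹ a⁻¹
          rw [inv_inv, inv_inv] at h5
          have h6 : (b * a)⁻¹ * (a * b) = a⁻¹ * b⁻¹ * a * b := by group
          rw [h6]
          have h7 := hN.conj_mem _ (hab a⁻¹ b⁻¹) 1
          rw [inv_inv, inv_inv] at h7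
          simpa using h7
        rw [← hγ, infl_apply]
        exact hγ1
      have h5 : classInner ((χ : G → ℂ) * fun g => conj ((χ : G → ℂ) g)) (β : G → ℂ) = classInner (χ : G → ℂ) ((β : G → ℂ) * (χ : G → ℂ)) := by
        rw [classInner, classInner]
        congr 1
        refine Finset.sum_congr rfl fun g _ => ?_
        simp only [Pi.mul_apply, map_mul]; ring
      have hirr := IsIrr.mul_linear χ.2 (IsIrr.isCharacter β.2) hβ1
      rw [h5, ci_irr_ne χ.2 hirr, zero_smul]
      intro heq
      apply hne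
      apply Subtype.ext
      ext x
      rw [triv_coe]
      have h6 := avg_reg_mul (p := p) hk (χ : G → ℂ) x
      rw [← heq] at h6
      have h7 := avg_reg_ne hM hN h hidx hχ x
      have h8 : ((β : G → ℂ) x - 1) * avg N (reg p (χ : G → ℂ)) x = 0 := by rw [sub_mul, ← h6, one_mul, sub_self]
      exact sub_eq_zero.1 ((mul_eq_zero.1 h8).resolve_right h7)
    · rw [hk, ci_zero_right, zero_smul]
  · intro h; exact absurd (Finset.mem_univ _) h

/-- uniqueness of extensions in the principal block -/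
theorem unique_ext (hM : IsPModular p M) {N : Subgroup G} (hN : N.Normal) [Fintype N] {P : Subgroup G} (h : CovD p N P)
    (hidx : ¬ p ∣ N.index) {χ χ' : IrrCharacter G} (hχ : χ ∈ principalBlock M G) (hχ' : χ' ∈ principalBlock M G)
    (hirr : IsIrrCharacter N (fun n : N => (χ : G → ℂ) n)) (heq : ∀ n : N, (χ' : G → ℂ) n = (χ : G → ℂ) n) : χ' = χ := by
  classical
  obtain ⟨β, hβ, hβk, hβχ⟩ := gallagher_exists hN χ.2 hirr χ'.2 (by
    rw [funext heq, ci_irr_self hirr]; exact one_ne_zero)
  apply Subtype.ext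
  rw [hβχ]
  ext x
  rw [Pi.mul_apply]
  have h1 := avg_reg_mul (p := p) hβk (χ : G → ℂ) x
  rw [← hβχ] at h1
  have h2 : avg N (reg p (χ' : G → ℂ)) x = avg N (reg p (χ : G → ℂ)) x := by
    rw [avg_reg hM hN h hidx hχ' x, avg_reg hM hN h hidx hχ x, ← avg_reg hM hN h hidx hχ' 1, ← avg_reg hM hN h hidx hχ 1,
      avg, avg]
    congr 1
    refine Finset.sum_congr rfl fun n _ => ?_
    simp only [mul_one, reg, heq n]
  rw [h2] at h1
  have h7 := avg_reg_ne hM hN h hidx hχ x
  have h8 : (β x - 1) * avg N (reg p (χ : G → ℂ)) x = 0 := by rw [sub_mul, ← h1, one_mul, sub_self]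
  rw [sub_eq_zero.1 ((mul_eq_zero.1 h8).resolve_right h7), one_mul]

end Cfsg.Agent.H26.AD
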