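import Mathlib
import Cfsg.Agent.H26_AD2
import Cfsg.Agent.H26_Ext3
import Cfsg.Agent.H25_Elem

/-!
# H26_AD3: relative versions, gluing of extensions
-/

set_option autoImplicit false

namespace Cfsg.Agent.H26.AD

open Cfsg Cfsg.Agent.H3.CharIrr Cfsg.Agent.H3.CharComplete Cfsg.Agent.H3.CharInd Cfsg.Agent.H3.CharBasic
  Cfsg.Agent.H3.CharGal Cfsg.Agent.H10.BlockLoc Cfsg.Agent.H10.BlockIdem Cfsg.Agent.H10.BlockQuot
  Cfsg.Agent.H10.BlockOrth Cfsg.Agent.H10.BlockKer Cfsg.Agent.H10.BlockCov Cfsg.Agent.H3.Clifford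
  Cfsg.Agent.H3.CharMult Cfsg.Agent.H3.Lift
  Cfsg.Agent.H26.Basic Cfsg.Agent.H26.GalConj Cfsg.Agent.H26.B0 Cfsg.Agent.H26.Ext3

open scoped ComplexConjugate commutatorElement

variable {G : Type*} [Group G]

/-- `f` restricts to an irreducible character of `L` -/
def Ir (L : Subgroup G) (f : G → ℂ) : Prop := IsIrrCharacter L (fun l : L => f l)

/-- `f` restricts to a member of the principal block of `L` -/
def PB (M : Ideal AlgInt) (L : Subgroup G) (f : G → ℂ) : Prop :=
  ∃ h : IsIrrCharacter L (fun l : L => f l), (⟨_, h⟩ : IrrCharacter L) ∈ principalBlock M L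

theorem Ir.congr {L : Subgroup G} {f f' : G → ℂ} (h : Ir L f) (he : ∀ l ∈ L, f l = f' l) : Ir L f' := by
  have : (fun l : L => f l) = fun l : L => f' l := funext fun l => he l l.2
  unfold Ir at h ⊢
  rwa [← this]

theorem PB.congr {M : Ideal AlgInt} {L : Subgroup G} {f f' : G → ℂ} (h : PB M L f) (he : ∀ l ∈ L, f l = f' l) : PB M L f' := by
  have : (fun l : L => f l) = fun l : L => f' l := funext fun l => he l l.2
  unfold PB at h ⊢
  rwa [← this]

theorem exists_ext (L : Subgroup G) (ψ : L → ℂ) : ∃ f : G → ℂ, (fun l : L => f l) = ψ := by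
  classical
  refine ⟨extendByZero L ψ, ?_⟩
  ext l
  exact Function.Injective.extend_apply Subtype.val_injective ψ 0 l

theorem Ir.down [Finite G] {K L : Subgroup G} (hKL : K ≤ L) {f : G → ℂ} (hL : IsCharacter L (fun l : L => f l)) (hK : Ir K f) : Ir L f :=
  irr_of_comp hL (Subgroup.inclusion hKL) hK

theorem isChar_res {K L : Subgroup G} (hKL : K ≤ L) {f : G → ℂ} (hL : IsCharacter L (fun l : L => f l)) :
    IsCharacter K (fun l : K => f l) := by
  obtain ⟨n, ρ, hρ⟩ := hL
  refine ⟨n, ρ.comp (Subgroup.inclusion hKL), ?_⟩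
  ext k
  have := congrFun hρ (Subgroup.inclusion hKL k)
  exact this

theorem Ir.mid [Finite G] {N K L : Subgroup G} (hNK : N ≤ K) (hKL : K ≤ L) {f : G → ℂ} (hL : Ir L f) (hN : Ir N f) : Ir K f :=
  Ir.down hNK (isChar_res hKL (IsIrr.isCharacter hL)) hN

variable [Fintype G] {p : ℕ} [hp : Fact p.Prime] {M : Ideal AlgInt}

/-- sum over a coset of `N` of the regular part -/
noncomputable def FN (p : ℕ) (N : Subgroup G) (f : G → ℂ) (x : G) : ℂ := ∑ᶠ n : N, reg p f (n * x)

omit hp in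
theorem avg_rel {N L : Subgroup G} (hNL : N ≤ L) [Fintype L] [Fintype (N.subgroupOf L)] (f : G → ℂ) (x : L) :
    avg (N.subgroupOf L) (reg p (fun l : L => f l)) x = (Nat.card N : ℂ)⁻¹ * FN p N f x := by
  classical
  haveI : Fintype N := Fintype.ofFinite _
  rw [avg, FN, finsum_eq_sum_of_fintype, Nat.card_congr (Subgroup.subgroupOfEquivOfLe hNL).toEquiv]
  congr 1
  rw [← Equiv.sum_comp (Subgroup.subgroupOfEquivOfLe hNL).toEquiv]
  refine Finset.sum_congr rfl fun n _ => ?_
  simp only [reg]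
  have h1 : orderOf ((n : L) * x) = orderOf ((((Subgroup.subgroupOfEquivOfLe hNL).toEquiv n : N) : G) * (x : G)) := by
    rw [← Subgroup.orderOf_coe]; rfl
  rw [h1]; rfl

omit hp in
theorem sum_rel (L : Subgroup G) [Fintype L] (f : G → ℂ) : ∑ l : L, reg p (fun l : L => f l) l = ∑ l : L, reg p f l := by
  refine Finset.sum_congr rfl fun l _ => ?_
  simp only [reg, Subgroup.orderOf_coe]

theorem PB_iff (hM : IsPModular p M) {L : Subgroup G} [Fintype L] {f : G → ℂ} : PB M L f ↔ Ir L f ∧ ∑ l : L, reg p f l ≠ 0 := by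
  constructor
  · rintro ⟨h, hB⟩
    refine ⟨h, ?_⟩
    have := sum_ne_zero hM hB
    rwa [sum_rel] at this
  · rintro ⟨h, hs⟩
    refine ⟨h, mem_of_sum_ne hM ?_⟩
    rw [sum_rel]; exact hs

theorem covD_rel {N P K L : Subgroup G} (h : CovD p N P) (hNK : N ≤ K) (hKL : K ≤ L) (hidx : ¬ p ∣ N.relIndex K) :
    CovD p (K.subgroupOf L) (P.subgroupOf L) := by
  refine ⟨fun x hx => hNK (h.le hx), ?_, ?_⟩
  · rw [Subgroup.relIndex_subgroupOf hKL]
    have h1 := Subgroup.relIndex_mul_relIndex P N K h.le hNK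
    rw [← h1]
    intro hd
    rcases (Nat.Prime.dvd_mul hp.out).1 hd with h2 | h2
    · exact h.idx h2
    · exact hidx h2
  · intro x
    obtain ⟨n, hn, c, hc, hx⟩ := h.dec (x : G)
    have hcL : c ∈ L := by
      have : c = n⁻¹ * x := by rw [hx]; group
      rw [this]
      exact L.mul_mem (L.inv_mem (hKL (hNK hn))) x.2
    refine ⟨⟨n, hKL (hNK hn)⟩, hNK hn, ⟨c, hcL⟩, ?_, Subtype.ext hx⟩
    intro u hu
    exact Subtype.ext (hc u hu)

omit [Fintype G] in
theorem normal_subgroupOf {N L : Subgroup G} [hN : N.Normal] : (N.subgroupOf L).Normal := inferInstance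

theorem relIndex_self_ne (N : Subgroup G) : ¬ p ∣ N.relIndex N := by
  rw [Subgroup.relIndex_self]; exact hp.out.one_lt.ne' ∘ fun h => Nat.dvd_one.1 h

theorem FN_const (hM : IsPModular p M) {N P L : Subgroup G} [hN : N.Normal] (h : CovD p N P) (hNL : N ≤ L)
    (hidx : ¬ p ∣ N.relIndex L) {f : G → ℂ} (hf : PB M L f) {x : G} (hx : x ∈ L) :
    FN p N f x = FN p N f 1 ∧ FN p N f x ≠ 0 := by
  classical
  haveI : Fintype L := Fintype.ofFinite _
  haveI : Fintype (N.subgroupOf L) := Fintype.ofFinite _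
  obtain ⟨h1, h2⟩ := hf
  have hc := covD_rel h le_rfl hNL (relIndex_self_ne N)
  have e1 := avg_reg hM (normal_subgroupOf (N := N) (L := L)) hc (by rwa [← Subgroup.relIndex]) h2 ⟨x, hx⟩
  have e2 := avg_reg hM (normal_subgroupOf (N := N) (L := L)) hc (by rwa [← Subgroup.relIndex]) h2 1
  have e3 := avg_reg_ne hM (normal_subgroupOf (N := N) (L := L)) hc (by rwa [← Subgroup.relIndex]) h2 ⟨x, hx⟩
  have e4 : avg (N.subgroupOf L) (reg p (fun l : L => f l)) ⟨x, hx⟩ = (Nat.card N : ℂ)⁻¹ * FN p N f x := avg_rel hNL f ⟨x, hx⟩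
  have e5 : avg (N.subgroupOf L) (reg p (fun l : L => f l)) 1 = (Nat.card N : ℂ)⁻¹ * FN p N f 1 := avg_rel hNL f 1
  have hN0 : (Nat.card N : ℂ)⁻¹ ≠ 0 := inv_ne_zero (by exact_mod_cast Nat.card_pos.ne')
  change avg (N.subgroupOf L) (reg p (fun l : L => f l)) ⟨x, hx⟩ = _ at e1
  change avg (N.subgroupOf L) (reg p (fun l : L => f l)) 1 = _ at e2
  change avg (N.subgroupOf L) (reg p (fun l : L => f l)) ⟨x, hx⟩ ≠ 0 at e3
  constructor
  · rw [← e2, e4, e5] at e1
    exact mul_left_cancel₀ hN0 e1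
  · intro h0
    rw [e4, h0, mul_zero] at e3
    exact e3 rfl

theorem PB_below (hM : IsPModular p M) {K L : Subgroup G} (hKL : K ≤ L) (hn : (K.subgroupOf L).Normal) {f : G → ℂ}
    (hf : PB M L f) (hK : Ir K f) : PB M K f := by
  classical
  haveI : Fintype L := Fintype.ofFinite _
  haveI : Fintype K := Fintype.ofFinite _
  haveI : Fintype (K.subgroupOf L) := Fintype.ofFinite _
  obtain ⟨h1, h2⟩ := hf
  refine ⟨hK, ?_⟩
  have hirr : IsIrrCharacter (K.subgroupOf L) (fun k : K.subgroupOf L => f ((Subgroup.subgroupOfEquivOfLe hKL k : K) : G)) :=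
    (isIrr_comp_iff (Subgroup.subgroupOfEquivOfLe hKL) (χ := fun k : K => f k)).2 hK
  have h3 := below hM hn h2 (θ := ⟨_, hirr⟩) (by
    have : (fun n : K.subgroupOf L => ((⟨_, h1⟩ : IrrCharacter L) : L → ℂ) n) =
      fun k : K.subgroupOf L => f ((Subgroup.subgroupOfEquivOfLe hKL k : K) : G) := rfl
    rw [this]
    rw [ci_irr_self hirr]; exact one_ne_zero)
  exact (mem_principal_equiv hM (Subgroup.subgroupOfEquivOfLe hKL) (χ := ⟨_, hK⟩) (χ' := ⟨_, hirr⟩) (fun _ => rfl)).1 h3

/-- no perfect section of `L` over `N` -/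
def Sol (N L : Subgroup G) : Prop := ∀ K : Subgroup G, N ≤ K → K ≤ L → K ≤ ⁅K, K⁆ ⊔ N → K ≤ N

/-- restriction to `N` is irreducible when `L / N` is soluble -/
theorem res_irr_sol (hM : IsPModular p M) {N P : Subgroup G} [hN : N.Normal] (h : CovD p N P) (n : ℕ) :
    ∀ L : Subgroup G, Nat.card L = n → N ≤ L → Sol N L → ¬ p ∣ N.relIndex L → ∀ f : G → ℂ, PB M L f → Ir N f := by
  classical
  induction n using Nat.strong_induction_on with
  | _ n ih =>
    intro L hn hNL hsol hidx f hf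
    by_cases hLN : L ≤ N
    · have : L = N := le_antisymm hLN hNL
      rw [← this]; exact hf.1
    · set K : Subgroup G := ⁅L, L⁆ ⊔ N with hKdef
      have hKL : K ≤ L := sup_le (Subgroup.commutator_le_self L) hNL
      have hNK : N ≤ K := le_sup_right
      have hne : K ≠ L := by
        intro he
        exact hLN (hsol L hNL le_rfl he.ge)
      have hlt : Nat.card K < n := by
        rw [← hn]
        exact lt_of_le_of_ne (Nat.card_le_card_of_injective (Subgroup.inclusion hKL) (Subgroup.inclusion_injective hKL))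
          (fun h => hne (Subgroup.eq_of_le_of_card_ge hKL h.ge))
      have hidK : ¬ p ∣ N.relIndex K := by
        intro hd
        apply hidx
        rw [← Subgroup.relIndex_mul_relIndex N K L hNK hKL]
        exact Dvd.dvd.mul_right hd _
      have hidL : ¬ p ∣ K.relIndex L := by
        intro hd
        apply hidx
        rw [← Subgroup.relIndex_mul_relIndex N K L hNK hKL]
        exact Dvd.dvd.mul_left hd _
      have hnor : (K.subgroupOf L).Normal := by
        constructor
        intro k hk l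
        have hk' : ((k : L) : G) ∈ K := hk
        have hcomm : ⁅(l : G), (k : G)⁆ ∈ ⁅L, L⁆ := Subgroup.commutator_mem_commutator l.2 k.2
        have : ((l * k * l⁻¹ : L) : G) = ⁅(l : G), (k : G)⁆ * k := by
          rw [commutatorElement_def]; push_cast; group
        change ((l * k * l⁻¹ : L) : G) ∈ K
        rw [this]
        exact K.mul_mem (Subgroup.mem_sup_left hcomm) hk'
      haveI : Fintype L := Fintype.ofFinite _
      haveI : Fintype K := Fintype.ofFinite _
      haveI : Fintype (K.subgroupOf L) := Fintype.ofFinite _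
      have hcov := covD_rel h hNK hKL hidK
      obtain ⟨h1, h2⟩ := hf
      have h3 := res_irr_abelian hM hnor hcov (by rwa [← Subgroup.relIndex]) (by
        intro a b
        change ((a * b * a⁻¹ * b⁻¹ : L) : G) ∈ K
        have : ((a * b * a⁻¹ * b⁻¹ : L) : G) = ⁅(a : G), (b : G)⁆ := by
          rw [commutatorElement_def]; push_cast; rfl
        rw [this]
        exact Subgroup.mem_sup_left (Subgroup.commutator_mem_commutator a.2 b.2)) h2
      have h4 : Ir K f := (isIrr_comp_iff (Subgroup.subgroupOfEquivOfLe hKL) (χ := fun k : K => f k)).1 h3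
      have h5 : PB M K f := PB_below hM hKL hnor ⟨h1, h2⟩ h4
      exact ih _ hlt K rfl hNK (fun K' h1 h2 h3 => hsol K' h1 (h2.trans hKL) h3) hidK f h5

/-- existence of extensions in the principal block -/
theorem exists_extension (hM : IsPModular p M) {N P L : Subgroup G} [hN : N.Normal] (h : CovD p N P) (hNL : N ≤ L)
    (hsol : Sol N L) (hidx : ¬ p ∣ N.relIndex L) {θ : G → ℂ} (hθ : PB M N θ) :
    ∃ f : G → ℂ, PB M L f ∧ ∀ n ∈ N, f n = θ n := by
  classical
  haveI : Fintype L := Fintype.ofFinite _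
  haveI : Fintype N := Fintype.ofFinite _
  haveI : Fintype (N.subgroupOf L) := Fintype.ofFinite _
  obtain ⟨h1, h2⟩ := hθ
  have hirr : IsIrrCharacter (N.subgroupOf L) (fun k : N.subgroupOf L => θ ((Subgroup.subgroupOfEquivOfLe hNL k : N) : G)) :=
    (isIrr_comp_iff (Subgroup.subgroupOfEquivOfLe hNL) (χ := fun k : N => θ k)).2 h1
  have h3 : (⟨_, hirr⟩ : IrrCharacter (N.subgroupOf L)) ∈ principalBlock M (N.subgroupOf L) :=
    (mem_principal_equiv hM (Subgroup.subgroupOfEquivOfLe hNL) (χ := ⟨_, h1⟩) (χ' := ⟨_, hirr⟩) (fun _ => rfl)).2 h2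
  obtain ⟨χ, hχ, hc⟩ := exists_above hM (N.subgroupOf L) h3
  obtain ⟨f, hf⟩ := exists_ext L (χ : L → ℂ)
  have hPB : PB M L f := by
    refine ⟨?_, ?_⟩
    · rw [hf]; exact χ.2
    · have : (⟨(fun l : L => f l), by rw [hf]; exact χ.2⟩ : IrrCharacter L) = χ := Subtype.ext hf
      rw [this]; exact hχ
  refine ⟨f, hPB, ?_⟩
  have h4 := res_irr_sol hM h _ L rfl hNL hsol hidx f hPB
  have h5 : IsIrrCharacter (N.subgroupOf L) (fun k : N.subgroupOf L => f ((Subgroup.subgroupOfEquivOfLe hNL k : N) : G)) :=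
    (isIrr_comp_iff (Subgroup.subgroupOfEquivOfLe hNL) (χ := fun k : N => f k)).2 h4
  have h6 : (fun h : N.subgroupOf L => (χ : L → ℂ) h) = fun k : N.subgroupOf L => f ((Subgroup.subgroupOfEquivOfLe hNL k : N) : G) := by
    rw [← hf]; rfl
  rw [h6] at hc
  have h7 : (fun k : N.subgroupOf L => f ((Subgroup.subgroupOfEquivOfLe hNL k : N) : G)) =
      (fun k : N.subgroupOf L => θ ((Subgroup.subgroupOfEquivOfLe hNL k : N) : G)) := by
    by_contra hne
    exact hc (ci_irr_ne h5 hirr hne)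
  intro n hn
  exact congrFun h7 ⟨⟨n, hNL hn⟩, hn⟩

omit hp in
theorem FN_mul {N L : Subgroup G} {β f f' : G → ℂ} {x : G}
    (hf : ∀ n ∈ N, f' (n * x) = β (n * x) * f (n * x)) (hβ : ∀ n ∈ N, β (n * x) = β x) :
    FN p N f' x = β x * FN p N f x := by
  classical
  haveI : Fintype N := Fintype.ofFinite _
  rw [FN, FN, finsum_eq_sum_of_fintype, finsum_eq_sum_of_fintype, Finset.mul_sum]
  refine Finset.sum_congr rfl fun n _ => ?_
  by_cases hg : p ∣ orderOf ((n : G) * x)
  · rw [reg_of hg, reg_of hg, mul_zero]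
  · rw [reg_of_not hg, reg_of_not hg, hf n n.2, hβ n n.2]

/-- two irreducible extensions to `L` differ by a linear character -/
theorem gallagher_rel {N L : Subgroup G} [hN : N.Normal] (hNL : N ≤ L) {f f' : G → ℂ} (hf : Ir L f) (hf' : Ir L f')
    (hN' : Ir N f) (he : ∀ n ∈ N, f' n = f n) :
    ∃ β : G → ℂ, Ir L β ∧ (∀ n ∈ N, ∀ x ∈ L, β (n * x) = β x) ∧ (∀ x ∈ L, f' x = β x * f x) ∧ β 1 = 1 := by
  classical
  haveI : Fintype L := Fintype.ofFinite _
  haveI : Fintype N := Fintype.ofFinite _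
  haveI : Fintype (N.subgroupOf L) := Fintype.ofFinite _
  have h1 : IsIrrCharacter (N.subgroupOf L) (fun k : N.subgroupOf L => f ((Subgroup.subgroupOfEquivOfLe hNL k : N) : G)) :=
    (isIrr_comp_iff (Subgroup.subgroupOfEquivOfLe hNL) (χ := fun k : N => f k)).2 hN'
  obtain ⟨β, hβ, hβk, hβχ⟩ := gallagher_exists (normal_subgroupOf (N := N) (L := L)) hf (N := N.subgroupOf L) h1 hf' (by
    have e1 : (fun n : N.subgroupOf L => f' n) = fun n : N.subgroupOf L => f n := funext fun n => he n n.2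
    have e2 : classInner (fun n : N.subgroupOf L => f n) (fun n : N.subgroupOf L => f n) = 1 := ci_irr_self h1
    change classInner (fun n : N.subgroupOf L => f' n) (fun n : N.subgroupOf L => f n) ≠ 0
    rw [e1, e2]; exact one_ne_zero)
  obtain ⟨b, hb⟩ := exists_ext L β
  refine ⟨b, ?_, ?_, ?_, ?_⟩
  · unfold Ir; rw [hb]; exact hβ
  · intro n hn x hx
    have := hβk ⟨n, hNL hn⟩ hn ⟨x, hx⟩
    rw [← hb] at this
    exact this
  · intro x hx
    have := congrFun hβχ ⟨x, hx⟩
    rw [← hb] at this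
    exact this
  · have h2 := congrFun hβχ 1
    have h3 : f' 1 = f 1 := he 1 N.one_mem
    have h4 : f 1 ≠ 0 := IsIrr.one_ne_zero (G := L) hf
    have h5 : b 1 = β 1 := by
      have := congrFun hb 1
      exact this
    change f' 1 = β 1 * f 1 at h2
    rw [h3] at h2
    rw [h5]
    exact mul_right_cancel₀ h4 (by rw [one_mul]; exact h2.symm)

/-- membership in the principal block, from coset sums -/
theorem PB_of_FN (hM : IsPModular p M) {N L : Subgroup G} [hN : N.Normal] (hNL : N ≤ L) {f : G → ℂ} (hf : Ir L f)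
    (h0 : FN p N f 1 ≠ 0) (hC : ∀ x ∈ L, ¬ p ∣ orderOf (QuotientGroup.mk x : G ⧸ N) → FN p N f x = FN p N f 1) :
    PB M L f := by
  classical
  haveI : Fintype L := Fintype.ofFinite _
  haveI : Fintype N := Fintype.ofFinite _
  rw [PB_iff hM]
  refine ⟨hf, fun hz => ?_⟩
  have h1 : ∑ l : L, FN p N f l = (Nat.card N : ℂ) * ∑ l : L, reg p f l := by
    simp_rw [FN, finsum_eq_sum_of_fintype]
    rw [Finset.sum_comm]
    have : ∀ n : N, ∑ l : L, reg p f (n * l) = ∑ l : L, reg p f l := by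
      intro n
      rw [← Equiv.sum_comp (Equiv.mulLeft (⟨n, hNL n.2⟩ : L)) (fun l : L => reg p f l)]
      rfl
    rw [Finset.sum_congr rfl fun n _ => this n, Finset.sum_const, Finset.card_univ, ← Nat.card_eq_fintype_card, nsmul_eq_mul]
  rw [hz, mul_zero] at h1
  have h2 : ∀ l : L, FN p N f l = if ¬ p ∣ orderOf (QuotientGroup.mk (l : G) : G ⧸ N) then FN p N f 1 else 0 := by
    intro l
    by_cases h : ¬ p ∣ orderOf (QuotientGroup.mk (l : G) : G ⧸ N)
    · rw [if_pos h]; exact hC l l.2 h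
    · rw [if_neg h]
      rw [not_not] at h
      rw [FN, finsum_eq_sum_of_fintype]
      apply Finset.sum_eq_zero
      intro n _
      apply reg_of
      have e1 : (QuotientGroup.mk (l : G) : G ⧸ N) = QuotientGroup.mk' N ((n : G) * l) := by
        rw [map_mul]
        have : QuotientGroup.mk' N (n : G) = 1 := (QuotientGroup.eq_one_iff (n : G)).2 n.2
        rw [this, one_mul]; rfl
      rw [e1] at h
      exact h.trans (orderOf_map_dvd (QuotientGroup.mk' N) ((n : G) * l))
  rw [Finset.sum_congr rfl fun l _ => h2 l, ← Finset.sum_filter, Finset.sum_const, nsmul_eq_mul] at h1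
  rcases mul_eq_zero.1 h1 with h3 | h3
  · have h4 : (1 : L) ∈ Finset.univ.filter (fun l : L => ¬ p ∣ orderOf (QuotientGroup.mk (l : G) : G ⧸ N)) := by
      refine Finset.mem_filter.2 ⟨Finset.mem_univ _, ?_⟩
      have : (QuotientGroup.mk ((1 : L) : G) : G ⧸ N) = 1 := rfl
      rw [this, orderOf_one]
      exact hp.out.one_lt.ne' ∘ fun h => Nat.dvd_one.1 h
    have h5 : (Finset.univ.filter (fun l : L => ¬ p ∣ orderOf (QuotientGroup.mk (l : G) : G ⧸ N))).card = 0 := by exact_mod_cast h3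
    rw [Finset.card_eq_zero] at h5
    rw [h5] at h4
    exact absurd h4 (Finset.notMem_empty _)
  · exact h0 h3

end Cfsg.Agent.H26.AD
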