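import Mathlib
import Cfsg.Agent.H26_AD3

/-!
# H26_AD4: gluing of extensions along elementary subgroups
-/

set_option autoImplicit false

namespace Cfsg.Agent.H26.AD

open Cfsg Cfsg.Agent.H3.CharIrr Cfsg.Agent.H3.CharComplete Cfsg.Agent.H3.CharInd Cfsg.Agent.H3.CharBasic
  Cfsg.Agent.H3.Clifford Cfsg.Agent.H3.CharMult Cfsg.Agent.H3.Lift

open scoped ComplexConjugate commutatorElement

variable {G : Type*} [Group G]

theorem sol_sup {N E : Subgroup G} [hN : N.Normal] [hE : Group.IsSolvable E] : Sol N (N ⊔ E) := by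
  intro K hNK hKL hK
  have h0 : N.map (QuotientGroup.mk' N) = ⊥ := by
    rw [Subgroup.map_eq_bot_iff, QuotientGroup.ker_mk']
  have h1 : K.map (QuotientGroup.mk' N) ≤ ⁅K.map (QuotientGroup.mk' N), K.map (QuotientGroup.mk' N)⁆ := by
    have := Subgroup.map_mono (f := QuotientGroup.mk' N) hK
    rwa [Subgroup.map_sup, Subgroup.map_commutator, h0, sup_bot_eq] at this
  have h2 : K.map (QuotientGroup.mk' N) ≤ E.map (QuotientGroup.mk' N) := by
    have := Subgroup.map_mono (f := QuotientGroup.mk' N) hKL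
    rwa [Subgroup.map_sup, h0, bot_sup_eq] at this
  haveI : Group.IsSolvable (E.map (QuotientGroup.mk' N)) :=
    Group.isSolvable_of_surjective ((QuotientGroup.mk' N).subgroupMap_surjective E)
  have h3 : K.map (QuotientGroup.mk' N) = ⊥ := by
    by_contra hne
    have h3 : (K.map (QuotientGroup.mk' N)).subgroupOf (E.map (QuotientGroup.mk' N)) ≠ ⊥ := by
      intro hb
      apply hne
      rw [Subgroup.subgroupOf_eq_bot] at hb
      have := hb.eq_bot
      rwa [inf_eq_left.2 h2] at this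
    have h4 := Group.IsSolvable.commutator_lt_of_ne_bot h3
    rw [← Subgroup.map_subtype_lt_map_subtype, Subgroup.map_commutator, Subgroup.subgroupOf_map_subtype,
      inf_eq_left.2 h2] at h4
    exact absurd h1 h4.not_ge
  rw [Subgroup.map_eq_bot_iff, QuotientGroup.ker_mk'] at h3
  exact h3

/-- data for gluing -/
structure GoodD (N : Subgroup G) (Good : Subgroup G → (G → ℂ) → Prop) : Prop where
  congr : ∀ (L : Subgroup G) (f f' : G → ℂ), Good L f → (∀ l ∈ L, f l = f' l) → Good L f'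
  irr : ∀ (L : Subgroup G) (f : G → ℂ), N ≤ L → Good L f → Ir L f ∧ Ir N f
  down : ∀ (K L : Subgroup G) (f : G → ℂ), N ≤ K → K ≤ L → Good L f → Good K f
  uniq : ∀ (L : Subgroup G) (f f' : G → ℂ), N ≤ L → Good L f → Good L f' → ∀ l ∈ L, f l = f' l
  ex : ∀ (E : Subgroup G) (q : ℕ), q.Prime → IsElementary q E → ∃ f : G → ℂ, Good (N ⊔ E) f
  cj : ∀ (L : Subgroup G) (f : G → ℂ) (g : G), N ≤ L → Good L f →
    Good (L.map (MulAut.conj g).toMonoidHom) (fun x => f (g⁻¹ * x * g))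

variable [Fintype G] {N : Subgroup G} [hN : N.Normal] {Good : Subgroup G → (G → ℂ) → Prop}

include hN in
theorem glue (h : GoodD N Good) : ∃ χ : G → ℂ, IsIrrCharacter G χ ∧ (∀ (L : Subgroup G) (f : G → ℂ), N ≤ L → Good L f →
    ∀ x ∈ L, f x = χ x) ∧ (∀ x : G, Good (N ⊔ Subgroup.zpowers x) χ) ∧ ∀ n : N, χ n = χ n := by
  classical
  haveI : Fact (Nat.Prime 2) := ⟨Nat.prime_two⟩
  have hex : ∀ x : G, ∃ f : G → ℂ, Good (N ⊔ Subgroup.zpowers x) f := fun x =>
    h.ex (Subgroup.zpowers x) 2 Nat.prime_two Cfsg.Agent.H25.Brauer.elementary_of_cyclic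
  choose F hF using hex
  obtain ⟨χ, hχ⟩ : ∃ χ : G → ℂ, ∀ x, χ x = F x x := ⟨fun x => F x x, fun _ => rfl⟩
  have hA : ∀ (L : Subgroup G) (f : G → ℂ), N ≤ L → Good L f → ∀ x ∈ L, f x = χ x := by
    intro L f hNL hf x hx
    rw [hχ]
    have h1 : N ⊔ Subgroup.zpowers x ≤ L := sup_le hNL (by rwa [Subgroup.zpowers_le])
    exact h.uniq _ _ _ le_sup_left (h.down _ _ _ le_sup_left h1 hf) (hF x) x (Subgroup.mem_sup_right (Subgroup.mem_zpowers x))
  have hcl : IsClassFunction G χ := by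
    intro g x
    have h1 := h.cj _ _ x le_sup_left (hF g)
    have h2 := hA _ _ (by
      intro n hn
      refine ⟨x⁻¹ * n * x, Subgroup.mem_sup_left ?_, ?_⟩
      · have := hN.conj_mem n hn x⁻¹
        rwa [inv_inv] at this
      · change x * (x⁻¹ * n * x) * x⁻¹ = n
        group) h1 (x * g * x⁻¹) ⟨g, Subgroup.mem_sup_right (Subgroup.mem_zpowers g), rfl⟩
    rw [← h2, hχ]
    have h3 : x⁻¹ * (x * g * x⁻¹) * x = g := by group
    rw [h3]
  have hG : ∀ x : G, Good (N ⊔ Subgroup.zpowers x) χ := fun x =>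
    h.congr _ _ _ (hF x) (hA _ _ le_sup_left (hF x))
  refine ⟨χ, ?_, hA, hG, fun _ => rfl⟩
  have hgen : IsGeneralizedCharacter G χ := by
    apply Cfsg.Agent.H25.Brauer.isGen_of_elementary hcl
    intro E q hq hE
    obtain ⟨f, hf⟩ := h.ex E q hq hE
    have h1 := (h.irr _ _ le_sup_left hf).1
    have h2 := isChar_res (le_sup_right : E ≤ N ⊔ E) (IsIrr.isCharacter h1)
    have h3 : (fun e : E => f e) = fun e : E => χ e := funext fun e => hA _ _ le_sup_left hf e (Subgroup.mem_sup_right e.2)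
    rw [← h3]
    haveI : Fintype E := Fintype.ofFinite _
    exact IsGen.of_char h2
  haveI : Fintype N := Fintype.ofFinite _
  have hnorm : avg N (χ * fun g => conj (χ g)) = fun _ => 1 := by
    ext x
    have h1 := h.irr _ _ le_sup_left (hG x)
    haveI : Fintype (N ⊔ Subgroup.zpowers x : Subgroup G) := Fintype.ofFinite _
    haveI : Fintype (N.subgroupOf (N ⊔ Subgroup.zpowers x)) := Fintype.ofFinite _
    have h2 : IsIrrCharacter (N.subgroupOf (N ⊔ Subgroup.zpowers x)) (fun k => χ ((Subgroup.subgroupOfEquivOfLe (le_sup_left : N ≤ N ⊔ Subgroup.zpowers x) k : N) : G)) :=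
      (isIrr_comp_iff (Subgroup.subgroupOfEquivOfLe (le_sup_left : N ≤ N ⊔ Subgroup.zpowers x)) (χ := fun k : N => χ k)).2 h1.2
    have h3 := congrFun (avg_norm_sq (normal_subgroupOf (N := N) (L := N ⊔ Subgroup.zpowers x)) h1.1 h2)
      ⟨x, Subgroup.mem_sup_right (Subgroup.mem_zpowers x)⟩
    rw [← h3, avg, avg, Nat.card_congr (Subgroup.subgroupOfEquivOfLe (le_sup_left : N ≤ N ⊔ Subgroup.zpowers x)).toEquiv]
    congr 1
    rw [← Equiv.sum_comp (Subgroup.subgroupOfEquivOfLe (le_sup_left : N ≤ N ⊔ Subgroup.zpowers x)).toEquiv]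
    rfl
  have hone : classInner χ χ = 1 := by
    have h1 : classInner χ χ = classInner (χ * fun g => conj (χ g)) (fun _ => 1) := by
      simp only [classInner, Pi.mul_apply, map_one, mul_one]
    rw [h1, ci_eq_avg (N := N), hnorm]
    exact ci_irr_self isIrr_one
  rcases isGen_norm_one hgen hone with h1 | h1
  · exact h1
  · exfalso
    have h2 := (h.irr _ _ le_sup_left (hG 1)).1
    have h3 : IsCharacter (N ⊔ Subgroup.zpowers (1 : G) : Subgroup G) (fun l => χ l) := IsIrr.isCharacter h2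
    haveI : Fintype (N ⊔ Subgroup.zpowers (1 : G) : Subgroup G) := Fintype.ofFinite _
    have h4 := Cfsg.Agent.H26.Basic.cd_eq (⟨_, h2⟩ : IrrCharacter (N ⊔ Subgroup.zpowers (1 : G) : Subgroup G))
    have h5 := Cfsg.Agent.H26.Basic.cd_pos (⟨_, h2⟩ : IrrCharacter (N ⊔ Subgroup.zpowers (1 : G) : Subgroup G))
    have h6 := Cfsg.Agent.H26.Basic.cd_eq (⟨_, h1⟩ : IrrCharacter G)
    have h7 := Cfsg.Agent.H26.Basic.cd_pos (⟨_, h1⟩ : IrrCharacter G)
    change _ = (-χ) 1 at h6
    change _ = χ 1 at h4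
    rw [Pi.neg_apply, ← h4] at h6
    have h8 : ((charDegree (fun l : (N ⊔ Subgroup.zpowers (1 : G) : Subgroup G) => χ l) + charDegree (-χ) : ℕ) : ℂ) = 0 := by
      push_cast
      have e1 : (charDegree (-χ) : ℂ) = -(charDegree (fun l : (N ⊔ Subgroup.zpowers (1 : G) : Subgroup G) => χ l) : ℂ) := h6
      rw [e1]; ring
    have h9 : charDegree (fun l : (N ⊔ Subgroup.zpowers (1 : G) : Subgroup G) => χ l) + charDegree (-χ) = 0 := by exact_mod_cast h8
    have h10 : 0 < charDegree (fun l : (N ⊔ Subgroup.zpowers (1 : G) : Subgroup G) => χ l) := h5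
    omega

end Cfsg.Agent.H26.AD
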