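import Mathlib
import Cfsg.Agent.H26_AD4

/-!
# H26_AD5: the Alperin–Dade theorem for principal blocks
-/

set_option autoImplicit false

namespace Cfsg.Agent.H26.AD

open Cfsg Cfsg.Agent.H3.CharIrr Cfsg.Agent.H3.CharComplete Cfsg.Agent.H3.CharInd Cfsg.Agent.H3.CharBasic
  Cfsg.Agent.H3.Clifford Cfsg.Agent.H3.CharMult Cfsg.Agent.H3.Lift Cfsg.Agent.H10.BlockKer Cfsg.Agent.H10.BlockLoc

open scoped ComplexConjugate commutatorElement

variable {G : Type*} [Group G]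

/-- good extensions of `θ` to `L` -/
def Gd (p : ℕ) (N : Subgroup G) [N.Normal] (θ : G → ℂ) (L : Subgroup G) (f : G → ℂ) : Prop :=
  N ≤ L ∧ Ir L f ∧ (∀ n ∈ N, f n = θ n) ∧ ∀ x ∈ L, ¬ p ∣ orderOf (QuotientGroup.mk x : G ⧸ N) → FN p N f x = FN p N θ 1

theorem FN_congr {p : ℕ} {N : Subgroup G} {f f' : G → ℂ} {x : G} (h : ∀ n ∈ N, f (n * x) = f' (n * x)) :
    FN p N f x = FN p N f' x := by
  rw [FN, FN]
  refine finsum_congr fun n => ?_
  by_cases hg : p ∣ orderOf ((n : G) * x)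
  · rw [reg_of hg, reg_of hg]
  · rw [reg_of_not hg, reg_of_not hg, h n n.2]

theorem FN_aut {p : ℕ} {N : Subgroup G} (φ : G ≃* G) (hφ : ∀ x, φ x ∈ N ↔ x ∈ N) (f : G → ℂ) (x : G) :
    FN p N (fun y => f (φ y)) x = FN p N f (φ x) := by
  rw [FN, FN]
  let e : N ≃ N :=
    { toFun := fun n => ⟨φ n, (hφ n).2 n.2⟩
      invFun := fun n => ⟨φ.symm n, (hφ _).1 (by rw [φ.apply_symm_apply]; exact n.2)⟩
      left_inv := fun n => Subtype.ext (φ.symm_apply_apply _)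
      right_inv := fun n => Subtype.ext (φ.apply_symm_apply _) }
  refine Eq.trans (finsum_congr fun n => ?_) (finsum_comp_equiv e)
  change reg p (fun y => f (φ y)) (n * x) = reg p f (φ n * φ x)
  rw [← map_mul]
  simp only [reg, MulEquiv.orderOf_eq]

theorem Gd.congr {p : ℕ} {N : Subgroup G} [N.Normal] {θ : G → ℂ} {L : Subgroup G} {f f' : G → ℂ} (h : Gd p N θ L f)
    (he : ∀ l ∈ L, f l = f' l) : Gd p N θ L f' := by
  obtain ⟨h1, h2, h3, h4⟩ := h
  refine ⟨h1, h2.congr he, fun n hn => by rw [← he n (h1 hn), h3 n hn], fun x hx hr => ?_⟩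
  rw [← h4 x hx hr]
  exact FN_congr fun n hn => (he _ (L.mul_mem (h1 hn) hx)).symm

theorem Gd.down [Finite G] {p : ℕ} {N : Subgroup G} [N.Normal] {θ : G → ℂ} (hθ : Ir N θ) {K L : Subgroup G} {f : G → ℂ}
    (hNK : N ≤ K) (hKL : K ≤ L) (h : Gd p N θ L f) : Gd p N θ K f := by
  obtain ⟨h1, h2, h3, h4⟩ := h
  exact ⟨hNK, Ir.mid hNK hKL h2 (hθ.congr fun n hn => (h3 n hn).symm), h3, fun x hx hr => h4 x (hKL hx) hr⟩

theorem Ir.aut [Finite G] (φ : G ≃* G) {L : Subgroup G} {f : G → ℂ} (h : Ir L f) :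
    Ir (L.comap φ.toMonoidHom) (fun x => f (φ x)) := by
  classical
  haveI : Fintype G := Fintype.ofFinite G
  let e : L.comap φ.toMonoidHom ≃* L :=
    { toFun := fun x => ⟨φ x, x.2⟩
      invFun := fun y => ⟨φ.symm y, by
        change φ (φ.symm y) ∈ L
        rw [φ.apply_symm_apply]; exact y.2⟩
      left_inv := fun x => Subtype.ext (φ.symm_apply_apply _)
      right_inv := fun y => Subtype.ext (φ.apply_symm_apply _)
      map_mul' := fun x y => Subtype.ext (map_mul φ _ _) }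
  haveI : Fintype L := Fintype.ofFinite _
  haveI : Fintype (L.comap φ.toMonoidHom) := Fintype.ofFinite _
  exact (isIrr_comp_iff e (χ := fun l : L => f l)).2 h

theorem Gd.aut [Finite G] {p : ℕ} {N : Subgroup G} [N.Normal] {θ : G → ℂ} (φ : G ≃* G) (hφ : ∀ x, φ x ∈ N ↔ x ∈ N)
    (hθφ : ∀ n ∈ N, θ (φ n) = θ n) {L : Subgroup G} {f : G → ℂ} (h : Gd p N θ L f) :
    Gd p N θ (L.comap φ.toMonoidHom) (fun x => f (φ x)) := by
  obtain ⟨h1, h2, h3, h4⟩ := h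
  refine ⟨fun n hn => h1 ((hφ n).2 hn), h2.aut φ, fun n hn => (h3 _ ((hφ n).2 hn)).trans (hθφ n hn), fun x hx hr => ?_⟩
  rw [FN_aut φ hφ]
  apply h4 _ hx
  intro hd
  apply hr
  have hmap : ∀ n, ∀ y : G, (QuotientGroup.mk y : G ⧸ N) ^ n = 1 ↔ (QuotientGroup.mk (φ y) : G ⧸ N) ^ n = 1 := by
    intro n y
    rw [← QuotientGroup.mk_pow, ← QuotientGroup.mk_pow, QuotientGroup.eq_one_iff, QuotientGroup.eq_one_iff, ← map_pow, hφ]
  have : orderOf (QuotientGroup.mk (φ x) : G ⧸ N) = orderOf (QuotientGroup.mk x : G ⧸ N) := by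
    apply orderOf_eq_orderOf_iff.2
    intro n
    exact (hmap n x).symm
  rw [← this]
  exact hd

theorem map_conj_eq (L : Subgroup G) (g : G) : L.map (MulAut.conj g).toMonoidHom = L.comap (MulAut.conj g⁻¹).toMonoidHom := by
  ext x
  constructor
  · rintro ⟨l, hl, rfl⟩
    change g⁻¹ * (g * l * g⁻¹) * g⁻¹⁻¹ ∈ L
    have : g⁻¹ * (g * l * g⁻¹) * g⁻¹⁻¹ = l := by group
    rw [this]; exact hl
  · intro hx
    change g⁻¹ * x * g⁻¹⁻¹ ∈ L at hx
    refine ⟨_, hx, ?_⟩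
    change g * (g⁻¹ * x * g⁻¹⁻¹) * g⁻¹ = x
    group

theorem Gd.cj [Finite G] {p : ℕ} {N : Subgroup G} [hN : N.Normal] {θ : G → ℂ} (hθ : ∀ g : G, ∀ n ∈ N, θ (g * n * g⁻¹) = θ n)
    {L : Subgroup G} {f : G → ℂ} (g : G) (h : Gd p N θ L f) :
    Gd p N θ (L.map (MulAut.conj g).toMonoidHom) (fun x => f (g⁻¹ * x * g)) := by
  rw [map_conj_eq]
  have h1 := h.aut (MulAut.conj g⁻¹) (fun x => by
    change g⁻¹ * x * g⁻¹⁻¹ ∈ N ↔ _
    constructor
    · intro hx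
      have := hN.conj_mem _ hx g
      have e : g * (g⁻¹ * x * g⁻¹⁻¹) * g⁻¹ = x := by group
      rwa [e] at this
    · intro hx; exact hN.conj_mem _ hx _) (fun n hn => hθ g⁻¹ n hn)
  have h2 : (fun x => f ((MulAut.conj g⁻¹) x)) = fun x => f (g⁻¹ * x * g) := by
    ext x
    change f (g⁻¹ * x * g⁻¹⁻¹) = _
    rw [inv_inv]
  rw [h2] at h1
  exact h1

variable [Fintype G] {p : ℕ} [hp : Fact p.Prime] {M : Ideal AlgInt}

theorem FN_one_ne (hM : IsPModular p M) {N : Subgroup G} {θ : G → ℂ} (hθ : PB M N θ) : FN p N θ 1 ≠ 0 := by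
  classical
  haveI : Fintype N := Fintype.ofFinite _
  have h1 := ((PB_iff hM).1 hθ).2
  rw [FN, finsum_eq_sum_of_fintype]
  simp only [mul_one]
  exact h1

/-- two good extensions differ by a linear character trivial at the elements regular modulo `N` -/
theorem Gd.mul (hM : IsPModular p M) {N : Subgroup G} [hN : N.Normal] {θ : G → ℂ} (hθ : PB M N θ)
    {L : Subgroup G} {f f' : G → ℂ} (h : Gd p N θ L f) (h' : Gd p N θ L f') :
    ∃ β : G → ℂ, Ir L β ∧ (∀ n ∈ N, ∀ x ∈ L, β (n * x) = β x) ∧ (∀ x ∈ L, f' x = β x * f x) ∧ β 1 = 1 ∧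
      ∀ x ∈ L, ¬ p ∣ orderOf (QuotientGroup.mk x : G ⧸ N) → β x = 1 := by
  obtain ⟨h1, h2, h3, h4⟩ := h
  obtain ⟨-, h2', h3', h4'⟩ := h'
  obtain ⟨β, hβ, hβN, hβf, hβ1⟩ := gallagher_rel h1 h2 h2' (Ir.congr hθ.1 fun n hn => (h3 n hn).symm)
    (fun n hn => by rw [h3 n hn, h3' n hn])
  refine ⟨β, hβ, hβN, hβf, hβ1, fun x hx hr => ?_⟩
  have h5 := FN_mul (p := p) (N := N) (β := β) (f := f) (f' := f') (x := x) (L := L)
    (fun n hn => hβf _ (L.mul_mem (h1 hn) hx)) (fun n hn => hβN n hn x hx)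
  rw [h4' x hx hr, h4 x hx hr] at h5
  have h6 := FN_one_ne hM hθ
  have h7 : (β x - 1) * FN p N θ 1 = 0 := by rw [sub_mul, ← h5, one_mul, sub_self]
  exact sub_eq_zero.1 ((mul_eq_zero.1 h7).resolve_right h6)

theorem Gd.pb (hM : IsPModular p M) {N : Subgroup G} [hN : N.Normal] {θ : G → ℂ} (hθ : PB M N θ)
    {L : Subgroup G} {f : G → ℂ} (h : Gd p N θ L f) : PB M L f := by
  obtain ⟨h1, h2, h3, h4⟩ := h
  have h5 : FN p N f 1 = FN p N θ 1 := FN_congr fun n hn => by rw [mul_one]; exact h3 n hn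
  exact PB_of_FN hM h1 h2 (by rw [h5]; exact FN_one_ne hM hθ) fun x hx hr => by rw [h5]; exact h4 x hx hr

theorem gd_of_pb (hM : IsPModular p M) {N P L : Subgroup G} [hN : N.Normal] (h : CovD p N P) (hNL : N ≤ L)
    (hidx : ¬ p ∣ N.relIndex L) {θ f : G → ℂ} (hf : PB M L f) (he : ∀ n ∈ N, f n = θ n) : Gd p N θ L f := by
  refine ⟨hNL, hf.1, he, fun x hx _ => ?_⟩
  rw [(FN_const hM h hNL hidx hf hx).1]
  exact FN_congr fun n hn => by rw [mul_one]; exact he n hn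

theorem relIndex_ne {N L : Subgroup G} [N.Normal] (hidx : ¬ p ∣ N.index) : ¬ p ∣ N.relIndex L := fun hd =>
  hidx (hd.trans (Subgroup.relIndex_dvd_index_of_normal N L))

/-- a principal character of `N` is invariant under elements acting with cyclic `p'`-quotient -/
theorem theta_inv (hM : IsPModular p M) {N P : Subgroup G} [hN : N.Normal] (h : CovD p N P) {θ : G → ℂ} (hθ : PB M N θ)
    (g : G) (hidx : ¬ p ∣ N.relIndex (N ⊔ Subgroup.zpowers g)) : ∀ n ∈ N, θ (g * n * g⁻¹) = θ n := by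
  haveI : Group.IsSolvable (Subgroup.zpowers g) := inferInstance
  obtain ⟨f, hf, he⟩ := exists_extension hM h (le_sup_left : N ≤ N ⊔ Subgroup.zpowers g) sol_sup hidx hθ
  intro n hn
  rw [← he n hn, ← he _ (hN.conj_mem n hn g)]
  have h1 := IsIrr.isClass hf.1
  exact h1 ⟨n, Subgroup.mem_sup_left hn⟩ ⟨g, Subgroup.mem_sup_right (Subgroup.mem_zpowers g)⟩

theorem pb_top (hM : IsPModular p M) {χ : G → ℂ} : PB M ⊤ χ ↔ ∃ h : IsIrrCharacter G χ, (⟨χ, h⟩ : IrrCharacter G) ∈ principalBlock M G := by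
  classical
  haveI : Fintype (⊤ : Subgroup G) := Fintype.ofFinite _
  constructor
  · rintro ⟨h, hB⟩
    have h1 : IsIrrCharacter G χ := (isIrr_comp_iff (Subgroup.topEquiv (G := G)) (χ := χ)).1 h
    exact ⟨h1, (mem_principal_equiv hM (Subgroup.topEquiv (G := G)) (χ := ⟨χ, h1⟩) (χ' := ⟨_, h⟩) (fun _ => rfl)).1 hB⟩
  · rintro ⟨h1, hB⟩
    have h : IsIrrCharacter (⊤ : Subgroup G) (fun l : (⊤ : Subgroup G) => χ l) :=
      (isIrr_comp_iff (Subgroup.topEquiv (G := G)) (χ := χ)).2 h1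
    exact ⟨h, (mem_principal_equiv hM (Subgroup.topEquiv (G := G)) (χ := ⟨χ, h1⟩) (χ' := ⟨_, h⟩) (fun _ => rfl)).2 hB⟩

omit [Fintype G] hp in
theorem pb_of {L : Subgroup G} {θ : IrrCharacter L} (hθ : θ ∈ principalBlock M L) :
    ∃ f : G → ℂ, PB M L f ∧ ∀ l : L, f l = (θ : L → ℂ) l := by
  obtain ⟨f, hf⟩ := exists_ext L (θ : L → ℂ)
  refine ⟨f, ⟨by rw [hf]; exact θ.2, ?_⟩, fun l => congrFun hf l⟩
  have : (⟨(fun l : L => f l), by rw [hf]; exact θ.2⟩ : IrrCharacter L) = θ := Subtype.ext hf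
  rw [this]; exact hθ

/-- Alperin–Dade, existence -/
theorem ad_exists (hM : IsPModular p M) {N P : Subgroup G} [hN : N.Normal] (h : CovD p N P) (hidx : ¬ p ∣ N.index)
    {θ : G → ℂ} (hθ : PB M N θ) : ∃ χ : G → ℂ, PB M ⊤ χ ∧ ∀ n ∈ N, χ n = θ n := by
  have hinv : ∀ g : G, ∀ n ∈ N, θ (g * n * g⁻¹) = θ n := fun g => theta_inv hM h hθ g (relIndex_ne hidx)
  have hD : GoodD N (Gd p N θ) :=
    { congr := fun L f f' hf he => hf.congr he
      irr := fun L f _ hf => ⟨hf.2.1, Ir.congr hθ.1 fun n hn => (hf.2.2.1 n hn).symm⟩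
      down := fun K L f hNK hKL hf => hf.down hθ.1 hNK hKL
      uniq := by
        intro L f f' hNL hf hf' l hl
        obtain ⟨β, -, -, hβ, -, hβ1⟩ := Gd.mul hM hθ hf' hf
        rw [hβ l hl, hβ1 l hl, one_mul]
        intro hd
        apply hidx
        rw [Subgroup.index_eq_card]
        exact hd.trans (orderOf_dvd_natCard _)
      ex := by
        intro E q hq hE
        haveI : Fact q.Prime := ⟨hq⟩
        haveI : Group.IsNilpotent E := Cfsg.Agent.H25.Elem.elementary_nilpotent hE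
        haveI : Group.IsSolvable E := inferInstance
        obtain ⟨f, hf, he⟩ := exists_extension hM h (le_sup_left : N ≤ N ⊔ E) sol_sup (relIndex_ne hidx) hθ
        exact ⟨f, gd_of_pb hM h le_sup_left (relIndex_ne hidx) hf he⟩
      cj := fun L f g _ hf => hf.cj hinv g }
  obtain ⟨χ, hχ, -, hG, -⟩ := glue hD
  have htop : Ir ⊤ χ := by
    haveI : Fintype (⊤ : Subgroup G) := Fintype.ofFinite _
    exact (isIrr_comp_iff (Subgroup.topEquiv (G := G)) (χ := χ)).2 hχ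
  have hgd : Gd p N θ ⊤ χ := ⟨le_top, htop, fun n hn => (hG n).2.2.1 n hn, fun x _ hr =>
    (hG x).2.2.2 x (Subgroup.mem_sup_right (Subgroup.mem_zpowers x)) hr⟩
  exact ⟨χ, hgd.pb hM hθ, hgd.2.2.1⟩

end Cfsg.Agent.H26.AD
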