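import Mathlib
import Cfsg.Agent.H26_AD5
import Cfsg.Agent.H26_Ext2
import Cfsg.Agent.H26_GalConj
import Cfsg.Agent.S0867

/-!
# H26_AD6: p-rational characters
-/

set_option autoImplicit false

namespace Cfsg.Agent.H26.AD

open Cfsg Cfsg.Agent.H3.CharIrr Cfsg.Agent.H3.CharComplete Cfsg.Agent.H3.CharInd Cfsg.Agent.H3.CharBasic
  Cfsg.Agent.H3.Clifford Cfsg.Agent.H3.CharMult Cfsg.Agent.H3.CharGal Cfsg.Agent.H26.Basic Cfsg.Agent.H26.GalConj Cfsg.Agent.H26.Ext2

open scoped ComplexConjugate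

/-- `p`-rationality relative to the exponent `n` -/
def PR {G : Type*} [Group G] (p n : ℕ) (f : G → ℂ) : Prop :=
  ∀ k : ℕ, k.Coprime n → k ≡ 1 [MOD ordCompl[p] n] → ∀ x, f (x ^ k) = f x

section det

variable {G : Type*} [Group G] [Finite G]

theorem detChar_gal (φ : ℂ →+* ℂ) {χ : G → ℂ} (hχ : IsCharacter G χ) (g : G) :
    detChar (fun g => φ (χ g)) g = φ (detChar χ g) := by
  obtain ⟨n, ρ, hρ⟩ := id hχ
  let ρ' : Representation ℂ G (Fin n → ℂ) :=
    { toFun := fun g => Matrix.toLin' ((LinearMap.toMatrix' (ρ g)).map φ)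
      map_one' := by
        rw [map_one]
        show Matrix.toLin' ((LinearMap.toMatrix' LinearMap.id).map φ) = _
        rw [LinearMap.toMatrix'_id, Matrix.map_one _ (map_zero φ) (map_one φ), Matrix.toLin'_one]
        rfl
      map_mul' := fun a b => by
        rw [map_mul]
        show Matrix.toLin' ((LinearMap.toMatrix' (ρ a ∘ₗ ρ b)).map φ) = _
        rw [LinearMap.toMatrix'_comp, Matrix.map_mul, Matrix.toLin'_mul]
        rfl }
  have h0 : ρ'.character = fun g => φ (χ g) := by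
    funext g
    rw [← hρ]
    show LinearMap.trace ℂ _ (Matrix.toLin' ((LinearMap.toMatrix' (ρ g)).map φ)) = φ (LinearMap.trace ℂ _ (ρ g))
    rw [Matrix.trace_toLin'_eq]
    have h1 : LinearMap.trace ℂ _ (ρ g) = (LinearMap.toMatrix' (ρ g)).trace := by
      conv_lhs => rw [← Matrix.toLin'_toMatrix' (ρ g)]
      rw [Matrix.trace_toLin'_eq]
    rw [h1, Matrix.trace, Matrix.trace, map_sum]
    rfl
  rw [detChar_eq ρ' (gal_char φ hχ) h0, detChar_eq ρ hχ hρ]
  show LinearMap.det (Matrix.toLin' ((LinearMap.toMatrix' (ρ g)).map φ)) = _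
  rw [LinearMap.det_toLin']
  have h2 : LinearMap.det (ρ g) = (LinearMap.toMatrix' (ρ g)).det := (LinearMap.det_toMatrix' (f := ρ g)).symm
  rw [h2, RingHom.map_det]
  rfl

/-- the determinant of `x ↦ χ (x ^ k)` -/
theorem detChar_pow {χ : G → ℂ} (hχ : IsCharacter G χ) {n k : ℕ} (hn : n ≠ 0) (hG : Nat.card G ∣ n) (hk : k.Coprime n) (g : G) :
    detChar (fun g => χ (g ^ k)) g = detChar χ g ^ k := by
  haveI : NeZero n := ⟨hn⟩
  obtain ⟨φ, hφ⟩ := exists_hom n k hk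
  have hg : ∀ g : G, g ^ n = 1 := fun g => by
    obtain ⟨c, rfl⟩ := hG
    rw [pow_mul, pow_card_eq_one', one_pow]
  have h1 : (fun g => χ (g ^ k)) = fun g => φ (χ g) := by
    ext g
    exact (pow_char hn hφ hχ g (hg g)).symm
  rw [h1, detChar_gal φ hχ]
  obtain ⟨f, hf⟩ := exists_detHom hχ
  apply hφ
  rw [hf, ← Units.val_pow_eq_pow_val, ← map_pow, hg, map_one, Units.val_one]

theorem pr_irr {n : ℕ} (hn : n ≠ 0) (hG : Nat.card G ∣ n) {χ : G → ℂ} (hχ : IsIrrCharacter G χ) {k : ℕ} (hk : k.Coprime n) :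
    IsIrrCharacter G (fun g => χ (g ^ k)) := by
  haveI : NeZero n := ⟨hn⟩
  obtain ⟨φ, hφ⟩ := exists_hom n k hk
  have hg : ∀ g : G, g ^ n = 1 := fun g => by
    obtain ⟨c, rfl⟩ := hG
    rw [pow_mul, pow_card_eq_one', one_pow]
  have h1 : (fun g => χ (g ^ k)) = fun g => φ (χ g) := by
    ext g
    exact (pow_char hn hφ (IsIrr.isCharacter hχ) g (hg g)).symm
  rw [h1]
  exact gal_irr φ hχ

variable {p : ℕ} [hp : Fact p.Prime]

/-- a suitable exponent -/
theorem exists_two (hp2 : p ≠ 2) {n : ℕ} (hn : n ≠ 0) : ∃ k : ℕ, k.Coprime n ∧ k ≡ 1 [MOD ordCompl[p] n] ∧ ¬ p ∣ (k - 1) ∧ 1 ≤ k := by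
  have hcop : (ordCompl[p] n).Coprime (p ^ (n.factorization p + 1)) :=
    Nat.Coprime.pow_right _ ((Nat.coprime_ordCompl hp.out hn).symm)
  obtain ⟨k, hk1, hk2⟩ := Nat.chineseRemainder hcop 1 2
  have hp3 : 2 < p := lt_of_le_of_ne hp.out.two_le (Ne.symm hp2)
  have hkp : k ≡ 2 [MOD p] := Nat.ModEq.of_dvd (dvd_pow_self p (Nat.succ_ne_zero _)) hk2
  have hk1' : 1 ≤ k := by
    rcases Nat.eq_zero_or_pos k with h0 | h0
    · rw [h0] at hkp
      have := (Nat.modEq_zero_iff_dvd.1 hkp.symm)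
      exact absurd (Nat.le_of_dvd (by norm_num) this) (by omega)
    · exact h0
  refine ⟨k, ?_, hk1, ?_, hk1'⟩
  · rw [← Nat.ordProj_mul_ordCompl_eq_self n p]
    apply Nat.Coprime.mul_right
    · apply Nat.Coprime.pow_right
      apply Nat.Coprime.symm
      rw [Nat.Prime.coprime_iff_not_dvd hp.out]
      intro hd
      have h1 := (Nat.modEq_zero_iff_dvd.2 hd).symm.trans hkp
      have := Nat.modEq_zero_iff_dvd.1 h1.symm
      exact absurd (Nat.le_of_dvd (by norm_num) this) (by omega)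
    · have h1 : Nat.gcd k (ordCompl[p] n) = Nat.gcd 1 (ordCompl[p] n) := hk1.gcd_eq
      rw [Nat.Coprime, h1, Nat.gcd_one_left]
  · intro hd
    have h1 : 1 ≡ k [MOD p] := (Nat.modEq_iff_dvd' hk1').2 hd
    have h2 := h1.trans hkp
    have h3 : (1 : ℕ) % p = 2 % p := h2
    rw [Nat.mod_eq_of_lt (by omega), Nat.mod_eq_of_lt hp3] at h3
    omega

theorem pr_det (hp2 : p ≠ 2) {n : ℕ} (hn : n ≠ 0) (hG : Nat.card G ∣ n) {χ : G → ℂ} (hχ : IsCharacter G χ) (h : PR p n χ) :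
    ¬ p ∣ detOrder χ := by
  obtain ⟨k, hk, hk1, hkp, hk0⟩ := exists_two (p := p) hp2 hn
  have h1 : (fun g => χ (g ^ k)) = χ := funext fun g => h k hk hk1 g
  have h2 : detChar χ ^ (k - 1) = 1 := by
    ext g
    have h3 := detChar_pow hχ hn hG hk g
    rw [h1] at h3
    obtain ⟨f, hf⟩ := exists_detHom hχ
    rw [Pi.pow_apply, Pi.one_apply]
    have h4 : detChar χ g ≠ 0 := by rw [hf]; exact Units.ne_zero _
    have h5 : detChar χ g ^ k = detChar χ g ^ (k - 1) * detChar χ g := by rw [← pow_succ]; congr 1; omega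
    rw [h5] at h3
    exact (mul_right_cancel₀ h4 (by rw [one_mul]; exact h3)).symm
  intro hd
  exact hkp (hd.trans (orderOf_dvd_of_pow_eq_one h2))

/-- canonical extension of a `p`-rational character over a `p`-power index -/
theorem canon_ext (hp2 : p ≠ 2) {n : ℕ} (hn : n ≠ 0) (hG : Nat.card G ∣ n) (K : Subgroup G) [hK : K.Normal] {a : ℕ} (hidx : K.index = p ^ a)
    {ϑ : K → ℂ} (hϑ : IsIrrCharacter K ϑ) (hinv : ∀ (g : G) (x : K), ϑ ⟨g * x * g⁻¹, hK.conj_mem (x : G) x.2 g⟩ = ϑ x)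
    (hdeg : ¬ p ∣ charDegree ϑ) (hpr : PR p n ϑ) :
    ∃ χ : G → ℂ, IsIrrCharacter G χ ∧ (∀ x : K, χ x = ϑ x) ∧ PR p n χ := by
  classical
  haveI : Fintype K := Fintype.ofFinite _
  have hKn : Nat.card K ∣ n := (Subgroup.card_subgroup_dvd_card K).trans hG
  have hd : ϑ 1 = (charDegree ϑ : ℂ) := (cd_eq (⟨ϑ, hϑ⟩ : IrrCharacter K)).symm
  have hdet := pr_det hp2 hn hKn (IsIrr.isCharacter hϑ) hpr
  have hcop : Nat.Coprime K.index (detOrder ϑ * charDegree ϑ) := by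
    rw [hidx]
    apply Nat.Coprime.pow_left
    rw [Nat.Prime.coprime_iff_not_dvd hp.out]
    intro h
    rcases (Nat.Prime.dvd_mul hp.out).1 h with h | h
    · exact hdet h
    · exact hdeg h
  obtain ⟨χ, ⟨hχ, hχK, hχd⟩, huniq⟩ := Cfsg.Agent.S0867.result K ϑ hϑ hinv (charDegree ϑ) hd hcop
  refine ⟨χ, hχ, hχK, ?_⟩
  intro k hk hk1 x
  have h1 := pr_irr hn hG hχ hk
  have h2 := huniq _ h1 (fun y => by
    have h3 := hχK (y ^ k)
    rw [Subgroup.coe_pow] at h3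
    rw [h3]
    exact hpr k hk hk1 y) (by
    have h3 : detChar (fun g => χ (g ^ k)) = detChar χ ^ k := by
      ext g
      exact detChar_pow (IsIrr.isCharacter hχ) hn hG hk g
    rw [detOrder, h3]
    apply Nat.Coprime.coprime_dvd_right (orderOf_pow_dvd k)
    change Nat.Coprime K.index (detOrder χ)
    rw [hχd]
    exact Nat.Coprime.coprime_mul_right_right hcop)
  exact congrFun h2 x

end det

end Cfsg.Agent.H26.AD
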