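import Mathlib
import Cfsg.Agent.H26_AD6

/-!
# H26_AD7: p-rationality and fields of values
-/

set_option autoImplicit false

namespace Cfsg.Agent.H26.AD

open Cfsg Cfsg.Agent.H3.CharIrr Cfsg.Agent.H3.CharComplete Cfsg.Agent.H3.CharInd Cfsg.Agent.H3.CharBasic
  Cfsg.Agent.H3.Clifford Cfsg.Agent.H3.CharMult Cfsg.Agent.H3.CharGal Cfsg.Agent.H26.Basic Cfsg.Agent.H26.GalConj Cfsg.Agent.H26.Ext2

open scoped ComplexConjugate

theorem zet_pow_mod (m k : ℕ) [NeZero m] : zet m ^ k = zet m ^ (k % m) := by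
  conv_lhs => rw [← Nat.div_add_mod k m, pow_add, pow_mul, (zet_prim m).pow_eq_one, one_pow, one_mul]

theorem zet_pow_iff (m k : ℕ) [NeZero m] : zet m ^ k = zet m ↔ k ≡ 1 [MOD m] := by
  have h1 : zet m = zet m ^ (1 % m) := by rw [← zet_pow_mod, pow_one]
  constructor
  · intro h
    rw [zet_pow_mod, h1, ← pow_mul] at h
    have h2 : zet m ^ (k % m) = zet m ^ (1 % m) := by
      rw [← zet_pow_mod, ← zet_pow_mod, pow_one]
      rw [pow_mul, ← h1, ← zet_pow_mod] at h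
      exact h
    exact (zet_prim m).pow_inj (Nat.mod_lt _ (NeZero.pos m)) (Nat.mod_lt _ (NeZero.pos m)) h2
  · intro h
    have h2 : k % m = 1 % m := h
    rw [zet_pow_mod, h2, ← zet_pow_mod, pow_one]

theorem mem_cyc_of_fixed {n m : ℕ} [NeZero n] [NeZero m] (hmn : m ∣ n) (x : Cyc n)
    (h : ∀ (σ : Cyc n ≃ₐ[ℚ] Cyc n) (k : ℕ), k.Coprime n → ActsAs n σ k → k ≡ 1 [MOD m] → σ x = x) :
    (x : ℂ) ∈ Cyc m := by
  obtain ⟨c, hc⟩ := hmn
  have hz : zet m ∈ Cyc n := root_mem (by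
    rw [hc, pow_mul, (zet_prim m).pow_eq_one, one_pow])
  let z : Cyc n := ⟨zet m, hz⟩
  let K : IntermediateField ℚ (Cyc n) := IntermediateField.adjoin ℚ {z}
  have h1 : x ∈ IntermediateField.fixedField (IntermediateField.fixingSubgroup K) := by
    rw [IntermediateField.mem_fixedField_iff]
    intro σ hσ
    obtain ⟨k, hk, hact⟩ := gal_actsAs n σ
    apply h σ k hk hact
    have h2 : σ z = z := by
      rw [IntermediateField.mem_fixingSubgroup_iff] at hσ
      exact hσ z (IntermediateField.subset_adjoin ℚ _ (Set.mem_singleton _))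
    have h3 := hact z (by
      change zet m ^ n = 1
      rw [hc, pow_mul, (zet_prim m).pow_eq_one, one_pow])
    rw [h2] at h3
    change zet m = zet m ^ k at h3
    exact (zet_pow_iff m k).1 h3.symm
  rw [IsGalois.fixedField_fixingSubgroup] at h1
  have h2 : x ∈ IntermediateField.adjoin ℚ {z} := h1
  clear h1 h
  induction h2 using IntermediateField.adjoin_induction with
  | mem y hy =>
    rw [Set.mem_singleton_iff] at hy
    rw [hy]; exact zet_mem m
  | algebraMap q => exact (Cyc m).algebraMap_mem q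
  | add a b _ _ ha hb => exact add_mem ha hb
  | inv a _ ha => exact inv_mem ha
  | mul a b _ _ ha hb => exact mul_mem ha hb

variable {G : Type*} [Group G] [Finite G] {p : ℕ} [hp : Fact p.Prime]

theorem values_of_pr {n : ℕ} (hn : n ≠ 0) (hG : Nat.card G ∣ n) {χ : G → ℂ} (hχ : IsCharacter G χ) (h : PR p n χ) :
    ∃ m : ℕ, ¬ p ∣ m ∧ ∀ g : G, χ g ∈ IntermediateField.adjoin ℚ ({Complex.exp (2 * Real.pi * Complex.I / m)} : Set ℂ) := by
  haveI : NeZero n := ⟨hn⟩
  haveI : NeZero (ordCompl[p] n) := ⟨(Nat.ordCompl_pos p hn).ne'⟩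
  refine ⟨ordCompl[p] n, Nat.not_dvd_ordCompl hp.out hn, fun g => ?_⟩
  have hg : g ^ n = 1 := by
    obtain ⟨c, rfl⟩ := hG
    rw [pow_mul, pow_card_eq_one', one_pow]
  change χ g ∈ Cyc (ordCompl[p] n)
  apply mem_cyc_of_fixed (Nat.ordCompl_dvd n p) (⟨χ g, IsChar.mem_cyc hχ g hg⟩ : Cyc n)
  intro σ k hk hact hk1
  apply Subtype.ext
  rw [IsChar.gal hχ g hg hact _ rfl]
  exact h k hk hk1 g

theorem pr_of_values {n m : ℕ} (hn : n ≠ 0) (hG : Nat.card G ∣ n) {χ : G → ℂ} (hχ : IsCharacter G χ) (hm : ¬ p ∣ m)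
    (h : ∀ g : G, χ g ∈ IntermediateField.adjoin ℚ ({Complex.exp (2 * Real.pi * Complex.I / m)} : Set ℂ)) : PR p n χ := by
  have hm0 : m ≠ 0 := fun h0 => hm (h0 ▸ dvd_zero p)
  haveI : NeZero n := ⟨hn⟩
  haveI : NeZero m := ⟨hm0⟩
  haveI : NeZero (n * m) := ⟨mul_ne_zero hn hm0⟩
  intro k hk hk1 x
  have hgcd : k ≡ 1 [MOD Nat.gcd n m] := by
    apply hk1.of_dvd
    have h1 : Nat.Coprime (Nat.gcd n m) (ordProj[p] n) := by
      apply Nat.Coprime.coprime_dvd_left (Nat.gcd_dvd_right n m)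
      apply Nat.Coprime.pow_right
      exact ((Nat.Prime.coprime_iff_not_dvd hp.out).2 hm).symm
    apply h1.dvd_of_dvd_mul_left
    rw [Nat.ordProj_mul_ordCompl_eq_self]
    exact Nat.gcd_dvd_left n m
  obtain ⟨k', hk'n, hk'm⟩ := Nat.chineseRemainder' hgcd
  have hcop : k'.Coprime (n * m) := by
    apply Nat.Coprime.mul_right
    · rw [Nat.Coprime, hk'n.gcd_eq]; exact hk
    · rw [Nat.Coprime, hk'm.gcd_eq, Nat.gcd_one_left]
  obtain ⟨φ, hφ⟩ := exists_hom (n * m) k' hcop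
  have hxn : ∀ x : G, x ^ n = 1 := fun x => by
    obtain ⟨c, rfl⟩ := hG
    rw [pow_mul, pow_card_eq_one', one_pow]
  have hx : x ^ (n * m) = 1 := by rw [pow_mul, hxn, one_pow]
  have h1 := pow_char (mul_ne_zero hn hm0) hφ hχ x hx
  have hfix : ∀ y ∈ Cyc m, φ y = y := by
    intro y hy
    induction hy using IntermediateField.adjoin_induction with
    | mem z hz =>
      rw [Set.mem_singleton_iff] at hz
      rw [hz, hφ _ (by rw [mul_comm, pow_mul, (zet_prim m).pow_eq_one, one_pow])]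
      exact (zet_pow_iff m k').2 hk'm
    | algebraMap q =>
      change φ ((q : ℚ) : ℂ) = ((q : ℚ) : ℂ)
      exact map_ratCast φ q
    | add a b _ _ ha hb => rw [map_add, ha, hb]
    | inv a _ ha => rw [map_inv₀, ha]
    | mul a b _ _ ha hb => rw [map_mul, ha, hb]
  rw [hfix _ (h x)] at h1
  have h5 : x ^ k' = x ^ k := by
    rw [pow_eq_pow_iff_modEq]
    exact hk'n.of_dvd (orderOf_dvd_of_pow_eq_one (hxn x))
  rw [h5] at h1
  exact h1.symm

end Cfsg.Agent.H26.AD
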