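import Mathlib
import Cfsg.Agent.H26_AD7

/-!
# H26_AD8: p-rational extensions in the principal block
-/

set_option autoImplicit false

namespace Cfsg.Agent.H26.AD

open Cfsg Cfsg.Agent.H3.CharIrr Cfsg.Agent.H3.CharComplete Cfsg.Agent.H3.CharInd Cfsg.Agent.H3.CharBasic
  Cfsg.Agent.H3.Clifford Cfsg.Agent.H3.CharMult Cfsg.Agent.H3.CharGal Cfsg.Agent.H26.Basic Cfsg.Agent.H26.GalConj Cfsg.Agent.H26.Ext2

open scoped ComplexConjugate

variable {G : Type*} [Group G]

/-- `p`-rationality on a subgroup -/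
def PRL (p n : ℕ) (L : Subgroup G) (f : G → ℂ) : Prop :=
  ∀ k : ℕ, k.Coprime n → k ≡ 1 [MOD ordCompl[p] n] → ∀ x ∈ L, f (x ^ k) = f x

theorem PRL.pr {p n : ℕ} {L : Subgroup G} {f : G → ℂ} (h : PRL p n L f) : PR p n (fun l : L => f l) :=
  fun k hk hk1 x => h k hk hk1 x x.2

variable [Fintype G] {p : ℕ} [hp : Fact p.Prime] {M : Ideal AlgInt}

omit hp in
theorem FN_pow {N : Subgroup G} [hN : N.Normal] {n : ℕ} (hG : Nat.card G ∣ n) {k : ℕ} (hk : k.Coprime n)
    (f : G → ℂ) (x : G) : FN p N (fun y => f (y ^ k)) x = FN p N f (x ^ k) := by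
  classical
  have hkG : (Nat.card G).Coprime k := (Nat.Coprime.coprime_dvd_right hG hk).symm
  have hinj : Function.Injective (fun y : G => y ^ k) := (powCoprime hkG).injective
  let e : N → N := fun m => ⟨((m : G) * x) ^ k * (x ^ k)⁻¹, by
    rw [← QuotientGroup.eq_one_iff]
    have h1 : ((m : G) : G ⧸ N) = 1 := (QuotientGroup.eq_one_iff _).2 m.2
    rw [QuotientGroup.mk_mul, QuotientGroup.mk_pow, QuotientGroup.mk_mul, h1, one_mul, QuotientGroup.mk_inv, QuotientGroup.mk_pow,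
      mul_inv_cancel]⟩
  have he : Function.Injective e := by
    intro a b hab
    have h1 := congrArg Subtype.val hab
    change ((a : G) * x) ^ k * (x ^ k)⁻¹ = ((b : G) * x) ^ k * (x ^ k)⁻¹ at h1
    have h2 := mul_right_cancel h1
    have h3 : (a : G) * x = (b : G) * x := hinj h2
    exact Subtype.ext (mul_right_cancel h3)
  have hb : Function.Bijective e := Finite.injective_iff_bijective.1 he
  rw [FN, FN]
  refine Eq.trans (finsum_congr fun m => ?_) (finsum_comp_equiv (Equiv.ofBijective e hb))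
  change reg p (fun y => f (y ^ k)) (m * x) = reg p f (((m : G) * x) ^ k * (x ^ k)⁻¹ * x ^ k)
  rw [inv_mul_cancel_right]
  have h1 : orderOf (((m : G) * x) ^ k) = orderOf ((m : G) * x) := by
    apply Nat.Coprime.orderOf_pow
    exact Nat.Coprime.coprime_dvd_left (orderOf_dvd_natCard _) hkG
  simp only [reg, h1]

theorem order_mk_dvd (N : Subgroup G) [N.Normal] {K : Subgroup G} (hNK : N ≤ K) {x : G} (hx : x ∈ K) :
    orderOf (QuotientGroup.mk x : G ⧸ N) ∣ N.relIndex K := by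
  apply orderOf_dvd_of_pow_eq_one
  rw [← QuotientGroup.mk_pow, QuotientGroup.eq_one_iff]
  have h1 : ((⟨x, hx⟩ : K) ^ (N.relIndex K)) ∈ N.subgroupOf K := by
    rw [← QuotientGroup.eq_one_iff, QuotientGroup.mk_pow, Subgroup.relIndex, Subgroup.index_eq_card, pow_card_eq_one']
  exact h1

theorem reg_mod {N K : Subgroup G} [N.Normal] (hNK : N ≤ K) (hidx : ¬ p ∣ N.relIndex K) {x : G} (hx : x ∈ K) :
    ¬ p ∣ orderOf (QuotientGroup.mk x : G ⧸ N) := fun hd => hidx (hd.trans (order_mk_dvd N hNK hx))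

/-- uniqueness over a `p'`-quotient -/
theorem Gd.uniq' (hM : IsPModular p M) {N : Subgroup G} [hN : N.Normal] {θ : G → ℂ} (hθ : PB M N θ)
    {K : Subgroup G} (hidx : ¬ p ∣ N.relIndex K) {f f' : G → ℂ} (h : Gd p N θ K f) (h' : Gd p N θ K f') :
    ∀ x ∈ K, f' x = f x := by
  obtain ⟨β, -, -, hβ, -, hβ1⟩ := Gd.mul hM hθ h h'
  intro x hx
  rw [hβ x hx, hβ1 x hx (reg_mod h.1 hidx hx), one_mul]

theorem deg_eq {N L : Subgroup G} (hNL : N ≤ L) {f θ : G → ℂ} (he : ∀ n ∈ N, f n = θ n) :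
    charDegree (fun l : L => f l) = charDegree (fun l : N => θ l) := by
  have h1 : f ((1 : L) : G) = θ ((1 : N) : G) := he 1 N.one_mem
  simp only [charDegree, h1]

/-- uniqueness of the good `p`-rational extension -/
theorem GdR.uniq (hM : IsPModular p M) (hp2 : p ≠ 2) {n : ℕ} (hn : n ≠ 0) (hG : Nat.card G ∣ n) {N : Subgroup G} [hN : N.Normal]
    {θ : G → ℂ} (hθ : PB M N θ) (hdeg : ¬ p ∣ charDegree (fun l : N => θ l)) {L : Subgroup G}
    {f f' : G → ℂ} (h : Gd p N θ L f) (hr : PRL p n L f) (h' : Gd p N θ L f') (hr' : PRL p n L f') :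
    ∀ x ∈ L, f' x = f x := by
  classical
  haveI : Fintype L := Fintype.ofFinite _
  obtain ⟨β, hβ, -, hβf, hβ1, hβr⟩ := Gd.mul hM hθ h h'
  obtain ⟨b, hb'⟩ := IsChar.hom_units_of_one (IsIrr.isCharacter hβ) hβ1
  have hb : (fun l : L => β l) = fun l : L => (b l : ℂ) := funext hb'
  have hL : Nat.card L ∣ n := (Subgroup.card_subgroup_dvd_card L).trans hG
  have hc := IsIrr.isCharacter h.2.1
  have hc' := IsIrr.isCharacter h'.2.1
  have hd := pr_det hp2 hn hL hc hr.pr
  have hd' := pr_det hp2 hn hL hc' hr'.pr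
  have hdeg' : ¬ p ∣ charDegree (fun l : L => f l) := by rw [deg_eq h.1 h.2.2.1]; exact hdeg
  have h1 : (fun l : L => f' l) = fun l : L => (b l : ℂ) * f l := by
    ext l
    rw [hβf l l.2]
    have := congrFun hb l
    change β l = _ at this
    rw [this]
  have h2 : ∀ l : L, detChar (fun l : L => f' l) l = (b l : ℂ) ^ charDegree (fun l : L => f l) * detChar (fun l : L => f l) l := by
    intro l
    rw [h1]
    exact detChar_mul hc b (cd_eq (⟨_, h.2.1⟩ : IrrCharacter L)).symm l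
  intro x hx
  have e1 : (b ⟨x, hx⟩ : ℂ) ^ (charDegree (fun l : L => f l) * (detOrder (fun l : L => f l) * detOrder (fun l : L => f' l))) = 1 := by
    have h3 := congrArg (fun z => z ^ (detOrder (fun l : L => f l) * detOrder (fun l : L => f' l))) (h2 ⟨x, hx⟩)
    simp only [mul_pow] at h3
    have h4 : detChar (fun l : L => f l) ⟨x, hx⟩ ^ (detOrder (fun l : L => f l) * detOrder (fun l : L => f' l)) = 1 := by
      have := congrFun (pow_orderOf_eq_one (detChar (fun l : L => f l))) ⟨x, hx⟩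
      rw [Pi.pow_apply, Pi.one_apply] at this
      rw [pow_mul]
      change (detChar (fun l : L => f l) ⟨x, hx⟩ ^ orderOf (detChar (fun l : L => f l))) ^ _ = 1
      rw [this, one_pow]
    have h5 : detChar (fun l : L => f' l) ⟨x, hx⟩ ^ (detOrder (fun l : L => f l) * detOrder (fun l : L => f' l)) = 1 := by
      have := congrFun (pow_orderOf_eq_one (detChar (fun l : L => f' l))) ⟨x, hx⟩
      rw [Pi.pow_apply, Pi.one_apply] at this
      rw [mul_comm, pow_mul]
      change (detChar (fun l : L => f' l) ⟨x, hx⟩ ^ orderOf (detChar (fun l : L => f' l))) ^ _ = 1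
      rw [this, one_pow]
    rw [h4, h5, mul_one, ← pow_mul] at h3
    exact h3.symm
  have e2 : (b ⟨x, hx⟩ : ℂ) ^ (ordProj[p] (Nat.card G)) = 1 := by
    have h3 := hβr (x ^ ordProj[p] (Nat.card G)) (L.pow_mem hx _) (by
      intro hd
      have h4 : (QuotientGroup.mk (x ^ ordProj[p] (Nat.card G)) : G ⧸ N) ^ (ordCompl[p] (Nat.card G)) = 1 := by
        rw [← QuotientGroup.mk_pow, ← pow_mul, Nat.ordProj_mul_ordCompl_eq_self, pow_card_eq_one']; rfl
      exact Nat.not_dvd_ordCompl hp.out Nat.card_pos.ne' (hd.trans (orderOf_dvd_of_pow_eq_one h4)))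
    have h5 := congrFun hb (⟨x, hx⟩ ^ ordProj[p] (Nat.card G))
    change β (((⟨x, hx⟩ : L) ^ ordProj[p] (Nat.card G) : L) : G) = _ at h5
    rw [Subgroup.coe_pow] at h5
    rw [h3, map_pow, Units.val_pow_eq_pow_val] at h5
    exact h5.symm
  have hcop : Nat.Coprime (charDegree (fun l : L => f l) * (detOrder (fun l : L => f l) * detOrder (fun l : L => f' l))) (ordProj[p] (Nat.card G)) := by
    apply Nat.Coprime.pow_right
    apply Nat.Coprime.symm
    rw [Nat.Prime.coprime_iff_not_dvd hp.out]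
    intro hd0
    rcases (Nat.Prime.dvd_mul hp.out).1 hd0 with h3 | h3
    · exact hdeg' h3
    · rcases (Nat.Prime.dvd_mul hp.out).1 h3 with h3 | h3
      · exact hd h3
      · exact hd' h3
  have e3 : (b ⟨x, hx⟩ : ℂ) = 1 := by
    have h3 := Nat.dvd_gcd (orderOf_dvd_of_pow_eq_one e1) (orderOf_dvd_of_pow_eq_one e2)
    rw [hcop, Nat.dvd_one, orderOf_eq_one_iff] at h3
    exact h3
  have h6 := congrFun h1 ⟨x, hx⟩
  change f' x = (b ⟨x, hx⟩ : ℂ) * f x at h6
  rw [h6, e3, one_mul]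

end Cfsg.Agent.H26.AD
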