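import Mathlib
import Cfsg.Agent.H26_AD8

/-!
# H26_AD9: existence of good p-rational extensions
-/

set_option autoImplicit false

namespace Cfsg.Agent.H26.AD

open Cfsg Cfsg.Agent.H3.CharIrr Cfsg.Agent.H3.CharComplete Cfsg.Agent.H3.CharInd Cfsg.Agent.H3.CharBasic
  Cfsg.Agent.H3.Clifford Cfsg.Agent.H3.CharMult Cfsg.Agent.H3.CharGal Cfsg.Agent.H26.Basic Cfsg.Agent.H26.GalConj Cfsg.Agent.H26.Ext2
  Cfsg.Agent.H10.BlockKer

open scoped ComplexConjugate

variable {G : Type*} [Group G] [Fintype G] {p : ℕ} [hp : Fact p.Prime] {M : Ideal AlgInt}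

theorem reg_mem_of {K L : Subgroup G} {N : Subgroup G} [N.Normal] (hNK : N ≤ K) {a : ℕ} (hpow : ∀ x ∈ L, x ^ p ^ a ∈ K)
    {x : G} (hx : x ∈ L) (hr : ¬ p ∣ orderOf (QuotientGroup.mk x : G ⧸ N)) : x ∈ K := by
  set m := orderOf (QuotientGroup.mk x : G ⧸ N) with hm
  have h1 : x ^ m ∈ K := by
    apply hNK
    rw [← QuotientGroup.eq_one_iff, QuotientGroup.mk_pow, hm, pow_orderOf_eq_one]
  have hcop : Nat.Coprime m (p ^ a) := Nat.Coprime.pow_right _ ((Nat.Prime.coprime_iff_not_dvd hp.out).2 hr).symm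
  have h2 : x ^ (Nat.gcd m (p ^ a)) ∈ K := by
    rw [← zpow_natCast, Nat.gcd_eq_gcd_ab, zpow_add, zpow_mul, zpow_mul, zpow_natCast, zpow_natCast]
    exact K.mul_mem (K.zpow_mem h1 _) (K.zpow_mem (hpow x hx) _)
  rw [hcop, pow_one] at h2
  exact h2

/-- extension step over a normal subgroup with `p`-power index -/
theorem exists_step (hM : IsPModular p M) (hp2 : p ≠ 2) {n : ℕ} (hn : n ≠ 0) (hG : Nat.card G ∣ n) {N : Subgroup G} [hN : N.Normal]
    {θ : G → ℂ} (hθ : PB M N θ) (hdeg : ¬ p ∣ charDegree (fun l : N => θ l)) {K L : Subgroup G} (hKL : K ≤ L)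
    (hnor : (K.subgroupOf L).Normal) {a : ℕ} (hpow : ∀ x ∈ L, x ^ p ^ a ∈ K)
    {f : G → ℂ} (hf : Gd p N θ K f) (hr : PRL p n K f) (hinv : ∀ g ∈ L, ∀ x ∈ K, f (g * x * g⁻¹) = f x) :
    ∃ F : G → ℂ, Gd p N θ L F ∧ PRL p n L F ∧ ∀ x ∈ K, F x = f x := by
  classical
  haveI : Fintype L := Fintype.ofFinite _
  haveI : Fintype K := Fintype.ofFinite _
  haveI := hnor
  obtain ⟨hNK, hIr, hext, hFN⟩ := id hf
  have hL : Nat.card L ∣ n := (Subgroup.card_subgroup_dvd_card L).trans hG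
  have hpg : IsPGroup p (L ⧸ K.subgroupOf L) := by
    intro y
    obtain ⟨x, rfl⟩ := QuotientGroup.mk_surjective y
    refine ⟨a, ?_⟩
    rw [← QuotientGroup.mk_pow, QuotientGroup.eq_one_iff]
    exact hpow x x.2
  obtain ⟨c, hc⟩ := IsPGroup.iff_card.1 hpg
  let e := Subgroup.subgroupOfEquivOfLe hKL
  have h1 : IsIrrCharacter (K.subgroupOf L) (fun k : K.subgroupOf L => f ((e k : K) : G)) :=
    (isIrr_comp_iff e (χ := fun k : K => f k)).2 hIr
  obtain ⟨χ, hχ, hχK, hχr⟩ := canon_ext (p := p) hp2 hn hL (K.subgroupOf L) (a := c) (by rw [Subgroup.index_eq_card]; exact hc) h1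
    (fun g x => hinv g g.2 ((x : L) : G) x.2) (by
      have h2 : charDegree (fun k : K.subgroupOf L => f ((e k : K) : G)) = charDegree (fun l : N => θ l) := by
        have h3 : f ((e 1 : K) : G) = θ ((1 : N) : G) := by
          rw [map_one]; exact hext 1 N.one_mem
        simp only [charDegree, h3]
      rw [h2]; exact hdeg) (fun k hk hk1 x => hr k hk hk1 ((x : L) : G) x.2)
  obtain ⟨F, hF⟩ := exists_ext L χ
  have hFK : ∀ x ∈ K, F x = f x := by
    intro x hx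
    have h2 := congrFun hF ⟨x, hKL hx⟩
    have h3 := hχK ⟨⟨x, hKL hx⟩, hx⟩
    exact h2.trans h3
  refine ⟨F, ⟨hNK.trans hKL, ?_, fun m hm => by rw [hFK m (hNK hm), hext m hm], ?_⟩, ?_, hFK⟩
  · unfold Ir; rw [hF]; exact hχ
  · intro x hx hreg
    have hxK := reg_mem_of (p := p) hNK hpow hx hreg
    rw [← hFN x hxK hreg]
    exact FN_congr fun m hm => hFK _ (K.mul_mem (hNK hm) hxK)
  · intro k hk hk1 x hx
    have h2 := hχr k hk hk1 ⟨x, hx⟩
    rw [← hF] at h2
    exact h2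

/-- existence over a nilpotent supplement -/
theorem exists_nilp (hM : IsPModular p M) (hp2 : p ≠ 2) {n : ℕ} (hn : n ≠ 0) (hG : Nat.card G ∣ n) {N P : Subgroup G} [hN : N.Normal]
    (hcov : CovD p N P) {θ : G → ℂ} (hθ : PB M N θ) (hdeg : ¬ p ∣ charDegree (fun l : N => θ l))
    (hinv : ∀ g : G, ∀ m ∈ N, θ (g * m * g⁻¹) = θ m) (hr : PRL p n N θ) (E : Subgroup G) [hE : Group.IsNilpotent E] :
    ∃ F : G → ℂ, Gd p N θ (N ⊔ E) F ∧ PRL p n (N ⊔ E) F := by
  classical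
  obtain ⟨RE, hREn, hRE, hREi⟩ := Cfsg.Agent.H25.Elem.exists_regular (E := E) (p := p)
  set R : Subgroup G := RE.map E.subtype with hRdef
  have hRle : R ≤ E := Subgroup.map_subtype_le RE
  set K : Subgroup G := N ⊔ R with hKdef
  have hNK : N ≤ K := le_sup_left
  have hKL : K ≤ N ⊔ E := sup_le_sup_left hRle N
  have hRn : ∀ e ∈ E, ∀ r ∈ R, e * r * e⁻¹ ∈ R := by
    rintro e he _ ⟨r, hr, rfl⟩
    exact ⟨⟨e, he⟩ * r * ⟨e, he⟩⁻¹, hREn.conj_mem r hr _, rfl⟩
  have hpR : ¬ p ∣ Nat.card R := by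
    intro hd
    obtain ⟨x, hx⟩ := exists_prime_orderOf_dvd_card' p hd
    obtain ⟨y, hy, hyx⟩ := x.2
    have h1 := (hRE y).1 hy
    apply h1
    have h2 : orderOf y = orderOf x := by
      rw [← Subgroup.orderOf_coe x, ← hyx]
      exact (Subgroup.orderOf_coe y).symm
    rw [h2, hx]
  have hidx : ¬ p ∣ N.relIndex K := by
    intro hd
    have h1 : N.relIndex K = N.relIndex R := by rw [hKdef, sup_comm]; exact Subgroup.relIndex_sup_right R N
    rw [h1] at hd
    exact hpR (hd.trans (Subgroup.relIndex_dvd_card N R))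
  have hnor : (K.subgroupOf (N ⊔ E)).Normal := by
    rw [Subgroup.normal_subgroupOf_iff_le_normalizer hKL]
    apply sup_le
    · exact hNK.trans Subgroup.le_normalizer
    · intro e he
      rw [Subgroup.mem_normalizer_iff]
      have hmap : ∀ e ∈ E, ∀ x ∈ K, e * x * e⁻¹ ∈ K := by
        intro e he x hx
        obtain ⟨m, hm, r, hr, rfl⟩ := Subgroup.mem_sup_of_normal_left.1 hx
        have h2 : e * (m * r) * e⁻¹ = (e * m * e⁻¹) * (e * r * e⁻¹) := by group
        rw [h2]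
        exact K.mul_mem (hNK (hN.conj_mem m hm e)) (Subgroup.mem_sup_right (hRn e he r hr))
      intro x
      constructor
      · exact hmap e he x
      · intro hx
        have := hmap e⁻¹ (E.inv_mem he) _ hx
        have h3 : e⁻¹ * (e * x * e⁻¹) * e⁻¹⁻¹ = x := by group
        rwa [h3] at this
  have hpow : ∀ x ∈ N ⊔ E, x ^ p ^ ((Nat.card E).factorization p) ∈ K := by
    intro x hx
    obtain ⟨m, hm, e, he, rfl⟩ := Subgroup.mem_sup_of_normal_left.1 hx
    have h1 : e ^ p ^ ((Nat.card E).factorization p) ∈ R := by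
      refine ⟨⟨e, he⟩ ^ p ^ ((Nat.card E).factorization p), ?_, rfl⟩
      have h2 : ((⟨e, he⟩ : E) ^ RE.index) ∈ RE := by
        haveI := hREn
        rw [← QuotientGroup.eq_one_iff, QuotientGroup.mk_pow, Subgroup.index_eq_card, pow_card_eq_one']
      rw [hREi] at h2
      exact h2
    have h2 : (m * e) ^ p ^ ((Nat.card E).factorization p) * (e ^ p ^ ((Nat.card E).factorization p))⁻¹ ∈ N := by
      rw [← QuotientGroup.eq_one_iff]
      have h3 : ((m : G) : G ⧸ N) = 1 := (QuotientGroup.eq_one_iff _).2 hm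
      rw [QuotientGroup.mk_mul, QuotientGroup.mk_pow, QuotientGroup.mk_mul, h3, one_mul, QuotientGroup.mk_inv, QuotientGroup.mk_pow,
        mul_inv_cancel]
    have h3 := K.mul_mem (hNK h2) (Subgroup.mem_sup_right h1)
    rwa [inv_mul_cancel_right] at h3
  haveI : Group.IsNilpotent RE := inferInstance
  haveI : Group.IsSolvable RE := inferInstance
  haveI : Group.IsSolvable R :=
    Group.isSolvable_of_surjective (f := E.subtype.subgroupMap RE) (E.subtype.subgroupMap_surjective RE)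
  obtain ⟨f, hf, he⟩ := exists_extension hM hcov hNK sol_sup hidx hθ
  have hgd := gd_of_pb hM hcov hNK hidx hf he
  have hfinv : ∀ g ∈ N ⊔ E, ∀ x ∈ K, f (g * x * g⁻¹) = f x := by
    intro g hg x hx
    have h1 := hgd.cj hinv g⁻¹
    have h2 : K.map (MulAut.conj g⁻¹).toMonoidHom = K := by
      ext y
      constructor
      · rintro ⟨z, hz, rfl⟩
        exact hnor.conj_mem ⟨z, hKL hz⟩ hz ⟨g⁻¹, (N ⊔ E).inv_mem hg⟩
      · intro hy
        refine ⟨g * y * g⁻¹, hnor.conj_mem ⟨y, hKL hy⟩ hy ⟨g, hg⟩, ?_⟩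
        change g⁻¹ * (g * y * g⁻¹) * g⁻¹⁻¹ = y
        group
    rw [h2] at h1
    have h3 := Gd.uniq' hM hθ hidx hgd h1 x hx
    rw [inv_inv] at h3
    exact h3
  have hfr : PRL p n K f := by
    intro k hk hk1 x hx
    haveI : Fintype K := Fintype.ofFinite _
    have h1 : Gd p N θ K (fun y => f (y ^ k)) := by
      refine ⟨hNK, ?_, fun m hm => ?_, fun y hy hreg => ?_⟩
      · exact pr_irr hn ((Subgroup.card_subgroup_dvd_card K).trans hG) hf.1 hk
      · exact (he _ (N.pow_mem hm k)).trans (hr k hk hk1 m hm)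
      · rw [FN_pow hG hk]
        exact hgd.2.2.2 _ (K.pow_mem hy k) (reg_mod hNK hidx (K.pow_mem hy k))
    exact Gd.uniq' hM hθ hidx hgd h1 x hx
  obtain ⟨F, hF, hFr, -⟩ := exists_step hM hp2 hn hG hθ hdeg hKL hnor hpow hgd hfr hfinv
  exact ⟨F, hF, hFr⟩

/-- the glued good extension -/
theorem exists_good (hM : IsPModular p M) (hp2 : p ≠ 2) {n : ℕ} (hn : n ≠ 0) (hG : Nat.card G ∣ n) {N P : Subgroup G} [hN : N.Normal]
    (hcov : CovD p N P) {θ : G → ℂ} (hθ : PB M N θ) (hdeg : ¬ p ∣ charDegree (fun l : N => θ l))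
    (hinv : ∀ g : G, ∀ m ∈ N, θ (g * m * g⁻¹) = θ m) (hr : PRL p n N θ) :
    ∃ χ : G → ℂ, Gd p N θ ⊤ χ ∧ PRL p n ⊤ χ := by
  have hD : GoodD N (fun L f => Gd p N θ L f ∧ PRL p n L f) :=
    { congr := fun L f f' hf he => ⟨hf.1.congr he, fun k hk hk1 x hx => by
        rw [← he x hx, ← he _ (L.pow_mem hx k)]; exact hf.2 k hk hk1 x hx⟩
      irr := fun L f _ hf => ⟨hf.1.2.1, Ir.congr hθ.1 fun m hm => (hf.1.2.2.1 m hm).symm⟩
      down := fun K L f hNK hKL hf => ⟨hf.1.down hθ.1 hNK hKL, fun k hk hk1 x hx => hf.2 k hk hk1 x (hKL hx)⟩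
      uniq := fun L f f' _ hf hf' => GdR.uniq hM hp2 hn hG hθ hdeg hf'.1 hf'.2 hf.1 hf.2
      ex := by
        intro E q hq hE
        haveI : Fact q.Prime := ⟨hq⟩
        haveI : Group.IsNilpotent E := Cfsg.Agent.H25.Elem.elementary_nilpotent hE
        exact exists_nilp hM hp2 hn hG hcov hθ hdeg hinv hr E
      cj := fun L f g _ hf => ⟨hf.1.cj hinv g, by
        rintro k hk hk1 _ ⟨x, hx, rfl⟩
        have h1 : g⁻¹ * ((MulAut.conj g).toMonoidHom x) ^ k * g = x ^ k := by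
          change g⁻¹ * (g * x * g⁻¹) ^ k * g = x ^ k
          rw [conj_pow]; group
        have h2 : g⁻¹ * ((MulAut.conj g).toMonoidHom x) * g = x := by
          change g⁻¹ * (g * x * g⁻¹) * g = x
          group
        change f (g⁻¹ * ((MulAut.conj g).toMonoidHom x) ^ k * g) = f (g⁻¹ * ((MulAut.conj g).toMonoidHom x) * g)
        rw [h1, h2]
        exact hf.2 k hk hk1 x hx⟩ }
  obtain ⟨χ, hχ, -, hGd, -⟩ := glue hD
  have htop : Ir ⊤ χ := by
    haveI : Fintype (⊤ : Subgroup G) := Fintype.ofFinite _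
    exact (isIrr_comp_iff (Subgroup.topEquiv (G := G)) (χ := χ)).2 hχ
  refine ⟨χ, ⟨le_top, htop, fun m hm => (hGd m).1.2.2.1 m hm, fun x _ hreg =>
    (hGd x).1.2.2.2 x (Subgroup.mem_sup_right (Subgroup.mem_zpowers x)) hreg⟩, fun k hk hk1 x _ =>
    (hGd x).2 k hk hk1 x (Subgroup.mem_sup_right (Subgroup.mem_zpowers x))⟩

end Cfsg.Agent.H26.AD
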