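import Mathlib
import Cfsg.Prelude.Def_Characters
import Cfsg.Agent.H3_CharCalc
import Cfsg.Agent.H26_Basic

/-!
# H26_Cols: column orthogonality consequences
-/

set_option autoImplicit false

namespace Cfsg.Agent.H26.Cols

open Cfsg Cfsg.Agent.H3.CharIrr Cfsg.Agent.H3.CharComplete Cfsg.Agent.H3.CharInd
  Cfsg.Agent.H26.Basic

open scoped ComplexConjugate

variable {G : Type*} [Group G] [Finite G]

/-- elements with the same character values are conjugate -/
theorem isConj_of_char_eq {g h : G} (hgh : ∀ χ : IrrCharacter G, (χ : G → ℂ) g = (χ : G → ℂ) h) :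
    IsConj g h := by
  classical
  haveI : Fintype G := Fintype.ofFinite G
  haveI : Fintype (IrrCharacter G) := Fintype.ofFinite _
  by_contra hne
  have h1 := orth2 (G := G) g h
  rw [if_neg hne] at h1
  have h2 := orth2 (G := G) g g
  rw [if_pos (IsConj.refl g)] at h2
  simp_rw [← hgh] at h1
  rw [h2] at h1
  exact (by exact_mod_cast Nat.card_pos.ne' : (Nat.card (Subgroup.centralizer ({g} : Set G)) : ℂ) ≠ 0) h1

/-- averaging over conjugates of `x` -/
theorem sum_conj_eq [Fintype G] (χ : IrrCharacter G) (x y : G) : ∑ a : G, (χ : G → ℂ) (a * x * a⁻¹ * y) =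
    (Nat.card G : ℂ) * (χ : G → ℂ) x * (χ : G → ℂ) y / (χ : G → ℂ) 1 :=
  Cfsg.Agent.H3.CharCalc.IsIrr.sum_conj_mul χ.2 x y

end Cfsg.Agent.H26.Cols
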