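import Mathlib

/-! A computable field with four elements. -/

set_option autoImplicit false

namespace Cfsg.Agent.H26

/-- the field with four elements: `0, 1, ω, ω + 1` -/
def F4 : Type := Fin 4

namespace F4

instance : DecidableEq F4 := inferInstanceAs (DecidableEq (Fin 4))
instance : Fintype F4 := inferInstanceAs (Fintype (Fin 4))

/-- the element with a given code -/
def mk (a : Fin 4) : F4 := a

/-- addition table -/
def add (a b : F4) : F4 :=
  (![![0, 1, 2, 3], ![1, 0, 3, 2], ![2, 3, 0, 1], ![3, 2, 1, 0]] : Fin 4 → Fin 4 → Fin 4) a b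

/-- multiplication table -/
def mul (a b : F4) : F4 :=
  (![![0, 0, 0, 0], ![0, 1, 2, 3], ![0, 2, 3, 1], ![0, 3, 1, 2]] : Fin 4 → Fin 4 → Fin 4) a b

/-- inverses -/
def inv (a : F4) : F4 := (![0, 1, 3, 2] : Fin 4 → Fin 4) a

instance : Zero F4 := ⟨mk 0⟩
instance : One F4 := ⟨mk 1⟩
instance : Add F4 := ⟨add⟩
instance : Mul F4 := ⟨mul⟩
instance : Neg F4 := ⟨id⟩
instance : Inv F4 := ⟨inv⟩

instance : CommRing F4 where
  add_assoc := by decide
  zero_add := by decide
  add_zero := by decide
  add_comm := by decide
  mul_assoc := by decide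
  one_mul := by decide
  mul_one := by decide
  left_distrib := by decide
  right_distrib := by decide
  mul_comm := by decide
  zero_mul := by decide
  mul_zero := by decide
  neg_add_cancel := by decide
  nsmul := nsmulRec
  zsmul := zsmulRec
  npow := npowRec

instance : Field F4 where
  exists_pair_ne := ⟨0, 1, by decide⟩
  mul_inv_cancel := by decide
  inv_zero := by decide
  nnqsmul := _
  nnqsmul_def := fun _ _ => rfl
  qsmul := _
  qsmul_def := fun _ _ => rfl

theorem card : Fintype.card F4 = 4 := by decide

theorem add_self (a : F4) : a + a = 0 := by revert a; decide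

/-- the Frobenius map as a function -/
def fr (a : F4) : F4 := (![0, 1, 3, 2] : Fin 4 → Fin 4) a

/-- the Frobenius map -/
def frob : F4 →+* F4 where
  toFun := fr
  map_one' := by decide
  map_mul' := by decide
  map_zero' := by decide
  map_add' := by decide

theorem frob_frob (a : F4) : frob (frob a) = a := by revert a; decide

theorem frob_eq (a : F4) : frob a = a ^ 2 := by revert a; decide

end F4

end Cfsg.Agent.H26
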