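import Cfsg.Agent.H26_F4

/-! Fast arithmetic for the field with four elements. -/

set_option autoImplicit false

namespace Cfsg.Agent.H26.F4N

/-- multiplication of codes -/
def mulN (a b : ℕ) : ℕ :=
  Nat.land (Nat.shiftRight (nat_lit 2625168384) (Nat.mul (nat_lit 2) (Nat.add (Nat.mul (nat_lit 4) a) b))) (nat_lit 3)

/-- conjugation of codes -/
def cjN (a : ℕ) : ℕ := Nat.land (Nat.shiftRight (nat_lit 180) (Nat.mul (nat_lit 2) a)) (nat_lit 3)

/-- the field element of a code -/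
def toF (a : ℕ) : F4 := F4.mk ⟨a % 4, Nat.mod_lt _ (by decide)⟩

theorem mulN_lt (a b : ℕ) : mulN a b < 4 := Nat.lt_of_le_of_lt Nat.and_le_right (by decide)

theorem cjN_lt (a : ℕ) : cjN a < 4 := Nat.lt_of_le_of_lt Nat.and_le_right (by decide)

theorem toF_mul : ∀ a, a < 4 → ∀ b, b < 4 → toF (mulN a b) = toF a * toF b := by decide +kernel

theorem toF_cj : ∀ a, a < 4 → toF (cjN a) = toF a ^ 2 := by decide +kernel

theorem toF_xor : ∀ a, a < 4 → ∀ b, b < 4 → toF (Nat.xor a b) = toF a + toF b := by decide +kernel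

theorem xor_lt4 : ∀ a, a < 4 → ∀ b, b < 4 → Nat.xor a b < 4 := by decide +kernel

theorem toF_inj : ∀ a, a < 4 → ∀ b, b < 4 → toF a = toF b → a = b := by decide +kernel

theorem toF_surj (c : F4) : ∃ a, a < 4 ∧ toF a = c := by
  revert c
  decide +kernel

theorem toF_ne (a : ℕ) (ha : a < 4) (h : a ≠ 0) : toF a ≠ 0 := by
  intro h1
  exact h (toF_inj a ha 0 (by decide) h1)

/-- digit of a packed list of vectors of length 6 -/
def cdN (N i t : ℕ) : ℕ :=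
  Nat.land (Nat.shiftRight N (Nat.add (Nat.mul (nat_lit 12) i) (Nat.mul (nat_lit 2) t))) (nat_lit 3)

theorem cdN_lt (N i t : ℕ) : cdN N i t < 4 := Nat.lt_of_le_of_lt Nat.and_le_right (by decide)

/-- the vector -/
def vc (N i : ℕ) (t : Fin 6) : F4 := toF (cdN N i t)

/-- the product of two codes with conjugation -/
def hN (N i M j t : ℕ) : ℕ := mulN (cdN N i t) (cjN (cdN M j t))

/-- the hermitian form on packed vectors -/
def bN (N i M j : ℕ) : ℕ :=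
  Nat.xor (Nat.xor (Nat.xor (Nat.xor (Nat.xor (hN N i M j 0) (hN N i M j 1)) (hN N i M j 2)) (hN N i M j 3))
    (hN N i M j 4)) (hN N i M j 5)

theorem hN_lt (N i M j t : ℕ) : hN N i M j t < 4 := mulN_lt _ _

theorem toF_hN (N i M j : ℕ) (t : Fin 6) : toF (hN N i M j t) = vc N i t * vc M j t ^ 2 := by
  rw [hN, toF_mul _ (cdN_lt _ _ _) _ (cjN_lt _), toF_cj _ (cdN_lt _ _ _)]
  rfl

theorem bN_lt (N i M j : ℕ) : bN N i M j < 4 := by
  unfold bN
  exact xor_lt4 _ (xor_lt4 _ (xor_lt4 _ (xor_lt4 _ (xor_lt4 _ (hN_lt _ _ _ _ _) _ (hN_lt _ _ _ _ _)) _ (hN_lt _ _ _ _ _)) _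
    (hN_lt _ _ _ _ _)) _ (hN_lt _ _ _ _ _)) _ (hN_lt _ _ _ _ _)

theorem toF_bN (N i M j : ℕ) : toF (bN N i M j) = ∑ t : Fin 6, vc N i t * vc M j t ^ 2 := by
  have h := hN_lt N i M j
  have h1 := xor_lt4 _ (h 0) _ (h 1)
  have h2 := xor_lt4 _ h1 _ (h 2)
  have h3 := xor_lt4 _ h2 _ (h 3)
  have h4 := xor_lt4 _ h3 _ (h 4)
  rw [Fin.sum_univ_six, ← toF_hN, ← toF_hN, ← toF_hN, ← toF_hN, ← toF_hN, ← toF_hN]
  unfold bN
  rw [toF_xor _ h4 _ (h 5), toF_xor _ h3 _ (h 4), toF_xor _ h2 _ (h 3), toF_xor _ h1 _ (h 2), toF_xor _ (h 0) _ (h 1)]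
  rfl

/-- one coordinate of the check of a transvection -/
def tvC (N i j M y c t : ℕ) : Bool :=
  Nat.beq (mulN c (cdN N i t)) (Nat.xor (cdN N j t) (mulN (bN N j M y) (cdN M y t)))

/-- check `v j + B(v j, w) w = c v i` -/
def tvB (N i j M y c : ℕ) : Bool :=
  tvC N i j M y c 0 && tvC N i j M y c 1 && tvC N i j M y c 2 && tvC N i j M y c 3 && tvC N i j M y c 4 && tvC N i j M y c 5

theorem tvC_sound {N i j M y c : ℕ} {t : Fin 6} (hc : c < 4) (h : tvC N i j M y c t = true) :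
    toF c * vc N i t = vc N j t + toF (bN N j M y) * vc M y t := by
  have h1 := Nat.eq_of_beq_eq_true h
  have h2 := congrArg toF h1
  rw [toF_mul _ hc _ (cdN_lt _ _ _), toF_xor _ (cdN_lt _ _ _) _ (mulN_lt _ _), toF_mul _ (bN_lt _ _ _ _) _ (cdN_lt _ _ _)] at h2
  exact h2

theorem tvB_sound {N i j M y c : ℕ} (hc : c < 4) (h : tvB N i j M y c = true) (t : Fin 6) :
    toF c * vc N i t = vc N j t + toF (bN N j M y) * vc M y t := by
  simp only [tvB, Bool.and_eq_true] at h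
  obtain ⟨⟨⟨⟨⟨h0, h1⟩, h2⟩, h3⟩, h4⟩, h5⟩ := h
  apply tvC_sound hc
  fin_cases t
  exacts [h0, h1, h2, h3, h4, h5]

/-- the same with a search for the scalar -/
def tvA (N i j M y : ℕ) : Bool := tvB N i j M y 1 || tvB N i j M y 2 || tvB N i j M y 3

theorem tvA_sound {N i j M y : ℕ} (h : tvA N i j M y = true) :
    ∃ c : F4, c ≠ 0 ∧ ∀ t, c * vc N i t = vc N j t + (∑ s : Fin 6, vc N j s * vc M y s ^ 2) * vc M y t := by
  have key : ∀ c, c < 4 → c ≠ 0 → tvB N i j M y c = true →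
      ∃ c : F4, c ≠ 0 ∧ ∀ t, c * vc N i t = vc N j t + (∑ s : Fin 6, vc N j s * vc M y s ^ 2) * vc M y t := by
    intro c hc hc0 h1
    refine ⟨toF c, toF_ne c hc hc0, fun t => ?_⟩
    rw [tvB_sound hc h1 t, toF_bN]
  simp only [tvA, Bool.or_eq_true] at h
  rcases h with (h | h) | h
  · exact key 1 (by decide) (by decide) h
  · exact key 2 (by decide) (by decide) h
  · exact key 3 (by decide) (by decide) h

/-- the code of a multiple of a vector -/
def kN (N c i : ℕ) : ℕ :=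
  Nat.add (mulN c (cdN N i 0)) (Nat.mul 4 (Nat.add (mulN c (cdN N i 1)) (Nat.mul 4 (Nat.add (mulN c (cdN N i 2))
    (Nat.mul 4 (Nat.add (mulN c (cdN N i 3)) (Nat.mul 4 (Nat.add (mulN c (cdN N i 4)) (Nat.mul 4 (mulN c (cdN N i 5)))))))))))

theorem mul_one' : ∀ a, a < 4 → mulN 1 a = a := by decide +kernel

theorem prop_kN {N i j : ℕ} {c : F4} (_hc : c ≠ 0) (h : ∀ t, vc N i t = c * vc N j t) : ∃ c', c' < 4 ∧ toF c' = c ∧
    kN N 1 i = kN N c' j := by
  obtain ⟨c', hc', rfl⟩ := toF_surj c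
  refine ⟨c', hc', rfl, ?_⟩
  have h1 : ∀ t : Fin 6, mulN 1 (cdN N i t) = mulN c' (cdN N j t) := by
    intro t
    rw [mul_one' _ (cdN_lt _ _ _)]
    apply toF_inj _ (cdN_lt _ _ _) _ (mulN_lt _ _)
    rw [toF_mul _ hc' _ (cdN_lt _ _ _)]
    exact h t
  have e0 := h1 0
  have e1 := h1 1
  have e2 := h1 2
  have e3 := h1 3
  have e4 := h1 4
  have e5 := h1 5
  unfold kN
  show Nat.add (mulN 1 (cdN N i 0)) (Nat.mul 4 (Nat.add (mulN 1 (cdN N i 1)) (Nat.mul 4 (Nat.add (mulN 1 (cdN N i 2))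
    (Nat.mul 4 (Nat.add (mulN 1 (cdN N i 3)) (Nat.mul 4 (Nat.add (mulN 1 (cdN N i 4)) (Nat.mul 4 (mulN 1 (cdN N i 5))))))))))) = _
  rw [show mulN 1 (cdN N i 0) = mulN c' (cdN N j 0) from e0, show mulN 1 (cdN N i 1) = mulN c' (cdN N j 1) from e1,
    show mulN 1 (cdN N i 2) = mulN c' (cdN N j 2) from e2, show mulN 1 (cdN N i 3) = mulN c' (cdN N j 3) from e3,
    show mulN 1 (cdN N i 4) = mulN c' (cdN N j 4) from e4, show mulN 1 (cdN N i 5) = mulN c' (cdN N j 5) from e5]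

end Cfsg.Agent.H26.F4N
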