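import Cfsg.Statements.S4866
import Mathlib
import Cfsg.Agent.H3_CharCalc
import Cfsg.Agent.H26_Basic

set_option autoImplicit false
open Cfsg

namespace Cfsg.Agent.S4866

open Cfsg Cfsg.Agent.H3.CharIrr Cfsg.Agent.H3.CharComplete Cfsg.Agent.H3.CharInd Cfsg.Agent.H26.Basic

variable {G : Type*} [Group G] [Finite G] (K : Subgroup G) [K.Normal]

/-- the action on irreducible characters -/
noncomputable def actI (g : G) (θ : IrrCharacter K) : IrrCharacter K :=
  ⟨fun k => (θ : K → ℂ) ((MulAut.conjNormal g⁻¹ : MulAut K) k),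
    (isIrr_comp_iff (MulAut.conjNormal g⁻¹ : MulAut K)).2 θ.2⟩

theorem actI_apply (g : G) (θ : IrrCharacter K) (k : K) :
    (actI K g θ : K → ℂ) k = (θ : K → ℂ) ((MulAut.conjNormal g⁻¹ : MulAut K) k) := rfl

theorem actI_one (θ : IrrCharacter K) : actI K 1 θ = θ := by
  apply Subtype.ext; funext k
  rw [actI_apply, inv_one, map_one]; rfl

theorem actI_mul (a b : G) (θ : IrrCharacter K) : actI K (a * b) θ = actI K a (actI K b θ) := by
  apply Subtype.ext; funext k
  rw [actI_apply, actI_apply, actI_apply, mul_inv_rev, map_mul]; rfl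

theorem actI_mem {g : G} (hg : g ∈ K) (θ : IrrCharacter K) : actI K g θ = θ := by
  apply Subtype.ext; funext k
  rw [actI_apply]
  have h := IsIrr.isClass θ.2 k (⟨g, hg⟩⁻¹ : K)
  rw [← h]
  congr 1

/-- complex conjugate -/
noncomputable def cnj (θ : IrrCharacter K) : IrrCharacter K :=
  ⟨fun k => (starRingEnd ℂ) ((θ : K → ℂ) k), by haveI := Fintype.ofFinite K; exact IsIrr.conj θ.2⟩

theorem cnj_act (g : G) (θ : IrrCharacter K) : cnj K (actI K g θ) = actI K g (cnj K θ) := rfl

theorem cnj_cnj (θ : IrrCharacter K) : cnj K (cnj K θ) = θ := by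
  apply Subtype.ext; funext k
  exact Complex.conj_conj _

/-- action on classes -/
def actC (g : G) (C : ConjClasses K) : ConjClasses K :=
  ConjClasses.map (MulAut.conjNormal g : MulAut K).toMonoidHom C

theorem actC_mk (g : G) (k : K) : actC K g (ConjClasses.mk k) = ConjClasses.mk ((MulAut.conjNormal g : MulAut K) k) := rfl

theorem actC_one (C : ConjClasses K) : actC K (1 : G) C = C := by
  obtain ⟨k, rfl⟩ := ConjClasses.mk_surjective C
  rw [actC_mk, map_one]; rfl

theorem actC_mul (a b : G) (C : ConjClasses K) : actC K (a * b) C = actC K a (actC K b C) := by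
  obtain ⟨k, rfl⟩ := ConjClasses.mk_surjective C
  rw [actC_mk, actC_mk, actC_mk, map_mul]; rfl

theorem actC_mem {g : G} (hg : g ∈ K) (C : ConjClasses K) : actC K g C = C := by
  obtain ⟨k, rfl⟩ := ConjClasses.mk_surjective C
  rw [actC_mk, ConjClasses.mk_eq_mk_iff_isConj, isConj_comm, isConj_iff]
  exact ⟨⟨g, hg⟩, rfl⟩

def invC (C : ConjClasses K) : ConjClasses K :=
  Quotient.map (fun x : K => x⁻¹) (fun a b h => by
    obtain ⟨c, hc⟩ := isConj_iff.1 h
    exact isConj_iff.2 ⟨c, by rw [← hc]; group⟩) C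

theorem invC_mk (k : K) : invC K (ConjClasses.mk k) = ConjClasses.mk k⁻¹ := rfl

theorem invC_invC (C : ConjClasses K) : invC K (invC K C) = C := by
  obtain ⟨k, rfl⟩ := ConjClasses.mk_surjective C
  rw [invC_mk, invC_mk, inv_inv]

theorem invC_act (g : G) (C : ConjClasses K) : invC K (actC K g C) = actC K g (invC K C) := by
  obtain ⟨k, rfl⟩ := ConjClasses.mk_surjective C
  rw [actC_mk, invC_mk, invC_mk, actC_mk, map_inv]

/-- abstract: an odd group element acting together with an involution -/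
theorem fix_iff {X : Type*} (act : G → X → X) (hmul : ∀ a b x, act (a * b) x = act a (act b x))
    (hK : ∀ g ∈ K, ∀ x, act g x = x) (c : X → X) (hc : ∀ x, c (c x) = x)
    (hcomm : ∀ g x, c (act g x) = act g (c x)) (hodd : Odd K.index) (g : G) (x : X) :
    c (act g x) = x ↔ c x = x ∧ act g x = x := by
  constructor
  · intro h
    have h1 : act g x = c x := by rw [← hc (act g x), h]
    have h2 : act (g * g) x = x := by rw [hmul, h1, ← hcomm, h1, hc]
    have h3 : ∀ j : ℕ, act ((g * g) ^ j) x = x := by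
      intro j
      induction j with
      | zero => rw [pow_zero]; exact hK 1 K.one_mem x
      | succ j ih => rw [pow_succ, hmul, h2, ih]
    obtain ⟨j, hj⟩ := hodd
    have h4 : act (g ^ K.index) x = x := hK _ (Subgroup.pow_index_mem K g) x
    rw [hj, pow_succ', hmul] at h4
    have h5 : g ^ (2 * j) = (g * g) ^ j := by rw [pow_mul, sq]
    rw [h5, h3] at h4
    exact ⟨by rw [← h1, h4], h4⟩
  · rintro ⟨h1, h2⟩
    rw [h2, h1]

/-- Let K be a normal subgroup of odd index in the finite group G. Then G has as many orbits on the real-valued irreducible complex characters of K (acting by conjugation) as it has orbits on the conjugacy classes of K that are real in K; equivalently, the number of G-orbits of real-valued irreducible characters of K equals the number of G-conjugacy classes of elements of K that are conjugate in K to their inverses. -/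
theorem result {G : Type*} [Group G] [Finite G] (K : Subgroup G) [K.Normal] (hodd : Odd K.index) : Nat.card (Quot (fun θ η : {θ : Cfsg.IrrCharacter ↥K // (∀ k : ↥K, ((θ : ↥K → ℂ) k).im = 0)} => ∃ g : G, ∀ k k' : ↥K, (k' : G) = g * (k : G) * g⁻¹ → (η.1 : ↥K → ℂ) k' = (θ.1 : ↥K → ℂ) k)) = Nat.card (Quot (fun x y : {x : ↥K // IsConj x x⁻¹} => ∃ g : G, (y.1 : G) = g * x.1 * g⁻¹)) := by
  classical
  haveI := Fintype.ofFinite G
  haveI : Fintype K := Fintype.ofFinite K
  haveI : Fintype (IrrCharacter K) := Fintype.ofFinite _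
  haveI : Fintype (ConjClasses K) := Fintype.ofFinite _
  -- real characters
  let X : Type _ := {θ : IrrCharacter ↥K // (∀ k : ↥K, ((θ : ↥K → ℂ) k).im = 0)}
  let Y : Type _ := {C : ConjClasses K // invC K C = C}
  have hreal : ∀ θ : IrrCharacter K, (∀ k : ↥K, ((θ : ↥K → ℂ) k).im = 0) ↔ cnj K θ = θ := by
    intro θ
    constructor
    · intro h
      apply Subtype.ext; funext k
      exact Complex.conj_eq_iff_im.2 (h k)
    · intro h k
      exact Complex.conj_eq_iff_im.1 (congrFun (congrArg Subtype.val h) k)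
  letI aX : MulAction G X :=
    { smul := fun g θ => ⟨actI K g θ.1, by
        rw [hreal, cnj_act, (hreal _).1 θ.2]⟩
      one_smul := fun θ => Subtype.ext (actI_one K θ.1)
      mul_smul := fun a b θ => Subtype.ext (actI_mul K a b θ.1) }
  letI aY : MulAction G Y :=
    { smul := fun g C => ⟨actC K g C.1, by rw [invC_act, C.2]⟩
      one_smul := fun C => Subtype.ext (actC_one K C.1)
      mul_smul := fun a b C => Subtype.ext (actC_mul K a b C.1) }
  have hfX : ∀ g : G, Nat.card (MulAction.fixedBy X g) = Nat.card {χ : IrrCharacter K // cnj K (actI K g χ) = χ} := by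
    intro g
    apply Nat.card_congr
    refine ⟨fun x => ⟨x.1.1, (fix_iff K (actI K) (actI_mul K) (fun g hg => actI_mem K hg) (cnj K) (cnj_cnj K) (cnj_act K) hodd g _).2 ⟨(hreal _).1 x.1.2, congrArg Subtype.val x.2⟩⟩,
      fun χ => ⟨⟨χ.1, (hreal _).2 ((fix_iff K (actI K) (actI_mul K) (fun g hg => actI_mem K hg) (cnj K) (cnj_cnj K) (cnj_act K) hodd g _).1 χ.2).1⟩,
        Subtype.ext ((fix_iff K (actI K) (actI_mul K) (fun g hg => actI_mem K hg) (cnj K) (cnj_cnj K) (cnj_act K) hodd g _).1 χ.2).2⟩, fun x => rfl, fun x => rfl⟩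
  have hfY : ∀ g : G, Nat.card (MulAction.fixedBy Y g) = Nat.card {C : ConjClasses K // invC K (actC K g C) = C} := by
    intro g
    apply Nat.card_congr
    refine ⟨fun x => ⟨x.1.1, (fix_iff K (actC K) (actC_mul K) (fun g hg => actC_mem K hg) (invC K) (invC_invC K) (invC_act K) hodd g _).2 ⟨x.1.2, congrArg Subtype.val x.2⟩⟩,
      fun χ => ⟨⟨χ.1, ((fix_iff K (actC K) (actC_mul K) (fun g hg => actC_mem K hg) (invC K) (invC_invC K) (invC_act K) hodd g _).1 χ.2).1⟩,
        Subtype.ext ((fix_iff K (actC K) (actC_mul K) (fun g hg => actC_mem K hg) (invC K) (invC_invC K) (invC_act K) hodd g _).1 χ.2).2⟩, fun x => rfl, fun x => rfl⟩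
  have hXY : ∀ g : G, Nat.card (MulAction.fixedBy X g) = Nat.card (MulAction.fixedBy Y g) := by
    intro g
    rw [hfX, hfY]
    apply Cfsg.Agent.H3.CharCalc.brauer_perm (fun χ => cnj K (actI K g χ)) (fun C => invC K (actC K g C))
    intro χ x y hxy
    rw [actC_mk, invC_mk] at hxy
    have h1 : (cnj K (actI K g χ) : K → ℂ) y = (cnj K (actI K g χ) : K → ℂ) ((MulAut.conjNormal g : MulAut K) x)⁻¹ := by
      apply IsClass.eq_of_isConj (IsIrr.isClass (cnj K (actI K g χ)).2)
      exact ConjClasses.mk_eq_mk_iff_isConj.1 hxy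
    rw [h1]
    show (starRingEnd ℂ) ((χ : K → ℂ) ((MulAut.conjNormal g⁻¹ : MulAut K) ((MulAut.conjNormal g : MulAut K) x)⁻¹)) = _
    rw [← map_inv, ← MulAut.mul_apply, ← map_mul, inv_mul_cancel, map_one, MulAut.one_apply, inv_eq, Complex.conj_conj]
  haveI : Fintype X := Fintype.ofFinite _
  haveI : Fintype Y := Fintype.ofFinite _
  have hB := MulAction.sum_card_fixedBy_eq_card_orbits_mul_card_group G X
  have hB' := MulAction.sum_card_fixedBy_eq_card_orbits_mul_card_group G Y
  have hsum : ∑ g : G, Fintype.card (MulAction.fixedBy X g) = ∑ g : G, Fintype.card (MulAction.fixedBy Y g) := by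
    refine Finset.sum_congr rfl fun g _ => ?_
    rw [← Nat.card_eq_fintype_card, ← Nat.card_eq_fintype_card, hXY]
  rw [hB, hB'] at hsum
  have horb := Nat.eq_of_mul_eq_mul_right (Fintype.card_pos (α := G)) hsum
  have hL : Nat.card (Quot (fun θ η : X => ∃ g : G, ∀ k k' : ↥K, (k' : G) = g * (k : G) * g⁻¹ → (η.1 : ↥K → ℂ) k' = (θ.1 : ↥K → ℂ) k)) = Nat.card (Quotient (MulAction.orbitRel G X)) := by
    apply Nat.card_congr
    apply Quot.congrRight
    intro θ η
    show _ ↔ MulAction.orbitRel G X θ η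
    rw [MulAction.orbitRel_apply]
    constructor
    · rintro ⟨g, hg⟩
      refine ⟨g⁻¹, ?_⟩
      apply Subtype.ext; apply Subtype.ext; funext k
      show (η.1 : K → ℂ) ((MulAut.conjNormal (g⁻¹)⁻¹ : MulAut K) k) = _
      apply hg
      rw [inv_inv]
      exact MulAut.conjNormal_apply g k
    · rintro ⟨g, hg⟩
      refine ⟨g⁻¹, fun k k' hk => ?_⟩
      rw [← hg]
      show _ = (η.1 : K → ℂ) ((MulAut.conjNormal g⁻¹ : MulAut K) k)
      refine congrArg (η.1 : K → ℂ) (Subtype.ext ?_)
      rw [hk]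
      exact (MulAut.conjNormal_apply g⁻¹ k).symm
  have hR : Nat.card (Quot (fun x y : {x : ↥K // IsConj x x⁻¹} => ∃ g : G, (y.1 : G) = g * x.1 * g⁻¹)) = Nat.card (Quotient (MulAction.orbitRel G Y)) := by
    let F : {x : ↥K // IsConj x x⁻¹} → Y := fun x => ⟨ConjClasses.mk x.1, by
      rw [invC_mk]; exact ConjClasses.mk_eq_mk_iff_isConj.2 x.2.symm⟩
    have hrel : ∀ x y : {x : ↥K // IsConj x x⁻¹}, (∃ g : G, (y.1 : G) = g * x.1 * g⁻¹) ↔ MulAction.orbitRel G Y (F x) (F y) := by
      intro x y
      rw [MulAction.orbitRel_apply]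
      constructor
      · rintro ⟨g, hg⟩
        refine ⟨g⁻¹, ?_⟩
        apply Subtype.ext
        show ConjClasses.mk ((MulAut.conjNormal g⁻¹ : MulAut K) y.1) = ConjClasses.mk x.1
        congr 1
        apply Subtype.ext
        rw [MulAut.conjNormal_apply, hg]
        group
      · rintro ⟨g, hg⟩
        have h1 : ConjClasses.mk ((MulAut.conjNormal g : MulAut K) y.1) = ConjClasses.mk x.1 := congrArg Subtype.val hg
        rw [ConjClasses.mk_eq_mk_iff_isConj, isConj_iff] at h1
        obtain ⟨c, hc⟩ := h1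
        refine ⟨((c : G) * g)⁻¹, ?_⟩
        have h2 := congrArg Subtype.val hc
        rw [Subgroup.coe_mul, Subgroup.coe_mul, Subgroup.coe_inv, MulAut.conjNormal_apply] at h2
        rw [← h2]; group
    apply Nat.card_eq_of_bijective (fun q => Quot.liftOn q (fun x => (Quotient.mk (MulAction.orbitRel G Y) (F x))) (fun a b h => Quotient.sound ((hrel a b).1 h)))
    constructor
    · rintro ⟨a⟩ ⟨b⟩ h
      apply Quot.sound
      exact (hrel a b).2 (Quotient.exact h)
    · intro q
      obtain ⟨C, rfl⟩ := Quotient.exists_rep q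
      obtain ⟨k, hk⟩ := ConjClasses.mk_surjective C.1
      have h1 : IsConj k k⁻¹ := by
        have := C.2
        rw [← hk, invC_mk] at this
        exact (ConjClasses.mk_eq_mk_iff_isConj.1 this).symm
      refine ⟨Quot.mk _ ⟨k, h1⟩, ?_⟩
      show Quotient.mk _ (F ⟨k, h1⟩) = _
      congr 1
      exact Subtype.ext hk
  rw [hR]
  refine Eq.trans hL ?_
  rw [Nat.card_eq_fintype_card, Nat.card_eq_fintype_card, horb]

end Cfsg.Agent.S4866
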