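import Mathlib
import Cfsg.Agent.H26_FS
import Cfsg.Agent.H26_Basic
import Cfsg.Agent.H3_Clifford
import Cfsg.Agent.H3_CharCalc
import Cfsg.Agent.S4866

/-!
H26_FSOdd: Frobenius--Schur indicators and normal subgroups of odd index.
-/

set_option autoImplicit false
set_option linter.style.haveILetI false

namespace Cfsg.Agent.H26.FSOdd

open Cfsg Cfsg.Agent.H3.CharIrr Cfsg.Agent.H3.CharComplete Cfsg.Agent.H3.CharInd Cfsg.Agent.H26.Basic
  Cfsg.Agent.H26.FS Cfsg.Agent.H3.Clifford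
open scoped ComplexConjugate

variable {G : Type*} [Group G] [Fintype G] {N : Subgroup G} [hN : N.Normal]

theorem sum_of_support [Fintype N] (F : G → ℂ) (h : ∀ g, g ∉ N → F g = 0) :
    ∑ g : G, F g = ∑ n : N, F n := by
  classical
  have h1 : ∑ n : N, F n = ∑ g ∈ Finset.univ.filter (fun g => g ∈ N), F g := by
    rw [← Finset.sum_subtype (Finset.univ.filter (fun g => g ∈ N)) (p := fun g => g ∈ N) (by simp) F]
  rw [h1, Finset.sum_filter]
  refine Finset.sum_congr rfl fun g _ => ?_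
  split_ifs with hg
  · rfl
  · exact h g hg

theorem mem_of_sq_mem (hodd : Odd N.index) {g : G} (h : g * g ∈ N) : g ∈ N := by
  obtain ⟨j, hj⟩ := hodd
  have h1 : g ^ N.index ∈ N := Subgroup.pow_index_mem N g
  rw [hj, pow_succ, pow_mul, sq] at h1
  exact (Subgroup.mul_mem_cancel_left N (N.pow_mem h j)).1 h1

/-- the indicator of an induced character (odd index) -/
theorem ind_indFun [Fintype N] (hodd : Odd N.index) (θ : N → ℂ) :
    ind (indFun N θ) = ind θ := by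
  rw [ind, ind]
  rw [sum_of_support (N := N) (fun g => indFun N θ (g * g)) (fun g hg =>
    ind_of_not_mem hN θ (fun h => hg (mem_of_sq_mem hodd h)))]
  have h1 : ∀ n : N, indFun N θ ((n : G) * n) = (Nat.card N : ℂ)⁻¹ * ∑ x : G, cj hN x θ (n * n) := by
    intro n
    have := ind_res hN θ (n * n)
    rw [← this]; rfl
  rw [Finset.sum_congr rfl (fun n _ => h1 n), ← Finset.mul_sum, Finset.sum_comm]
  have h2 : ∀ x : G, ∑ n : N, cj hN x θ (n * n) = ∑ n : N, θ (n * n) := by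
    intro x
    rw [← Equiv.sum_comp (cjEquiv hN x).toEquiv (fun n => θ (n * n))]
    refine Finset.sum_congr rfl fun n _ => ?_
    rw [cj_eq_comp]
    show θ (cjEquiv hN x (n * n)) = θ (cjEquiv hN x n * cjEquiv hN x n)
    rw [map_mul]
  rw [Finset.sum_congr rfl (fun x _ => h2 x), Finset.sum_const, nsmul_eq_mul, Finset.card_univ,
    ← Nat.card_eq_fintype_card]
  have h3 : (Nat.card G : ℂ) ≠ 0 := card_cast_ne_zero
  field_simp

theorem ind_sum_smul {ι : Type*} (s : Finset ι) (c : ι → ℂ) (F : ι → G → ℂ) :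
    ind (∑ i ∈ s, c i • F i) = ∑ i ∈ s, c i * ind (F i) := by
  simp only [ind, Finset.sum_apply, Pi.smul_apply, smul_eq_mul]
  rw [Finset.sum_comm, Finset.mul_sum]
  refine Finset.sum_congr rfl fun i _ => ?_
  rw [← Finset.mul_sum]; ring

/-- `∑ m_χ ν(χ) = ν(θ)` -/
theorem sum_mult_ind [Fintype N] [Fintype (IrrCharacter G)] (hodd : Odd N.index) (θ : N → ℂ) :
    ∑ χ : IrrCharacter G, classInner (indFun N θ) (χ : G → ℂ) * ind (χ : G → ℂ) = ind θ := by
  rw [← ind_indFun hodd θ]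
  conv_rhs => rw [expand (indFun N θ) (ind_isClass N θ)]
  rw [ind_sum_smul]

/-- real elements of a normal subgroup of odd index -/
theorem real_of_real (hodd : Odd N.index) {x : G} (h : IsConj x x⁻¹) :
    ∃ hx : x ∈ N, IsConj (⟨x, hx⟩ : N) (⟨x, hx⟩ : N)⁻¹ := by
  obtain ⟨g, hg⟩ := isConj_iff.1 h
  have hpow : ∀ j : ℕ, g ^ (2 * j) * x * (g ^ (2 * j))⁻¹ = x := by
    intro j
    induction j with
    | zero => simp
    | succ j ih =>
      have h1 : g ^ (2 * (j + 1)) = g ^ (2 * j) * (g * g) := by rw [mul_add, mul_one, pow_add, sq]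
      have h2 : g * g * x * (g * g)⁻¹ = x := by
        have h3 : g * x⁻¹ * g⁻¹ = x := by
          have : g * x⁻¹ * g⁻¹ = (g * x * g⁻¹)⁻¹ := by group
          rw [this, hg, inv_inv]
        calc g * g * x * (g * g)⁻¹ = g * (g * x * g⁻¹) * g⁻¹ := by group
          _ = x := by rw [hg, h3]
      rw [h1]
      calc g ^ (2 * j) * (g * g) * x * (g ^ (2 * j) * (g * g))⁻¹
          = g ^ (2 * j) * ((g * g) * x * (g * g)⁻¹) * (g ^ (2 * j))⁻¹ := by group
        _ = x := by rw [h2, ih]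
  obtain ⟨j, hj⟩ := hodd
  have h1 : g ^ N.index * x * (g ^ N.index)⁻¹ = x⁻¹ := by
    rw [hj, pow_succ']
    calc g * g ^ (2 * j) * x * (g * g ^ (2 * j))⁻¹ = g * (g ^ (2 * j) * x * (g ^ (2 * j))⁻¹) * g⁻¹ := by group
      _ = x⁻¹ := by rw [hpow, hg]
  have hgN : g ^ N.index ∈ N := Subgroup.pow_index_mem N g
  have hx2 : x * x ∈ N := by
    have h3 : (g ^ N.index * (x * (g ^ N.index)⁻¹ * x⁻¹)) * (x * x) = 1 := by
      calc (g ^ N.index * (x * (g ^ N.index)⁻¹ * x⁻¹)) * (x * x)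
          = (g ^ N.index * x * (g ^ N.index)⁻¹) * x := by group
        _ = 1 := by rw [h1]; group
    have h4 : g ^ N.index * (x * (g ^ N.index)⁻¹ * x⁻¹) ∈ N :=
      N.mul_mem hgN (hN.conj_mem _ (N.inv_mem hgN) x)
    exact (Subgroup.mul_mem_cancel_left N h4).1 (by rw [h3]; exact N.one_mem)
  have hx : x ∈ N := mem_of_sq_mem ⟨j, hj⟩ hx2
  refine ⟨hx, isConj_iff.2 ⟨⟨_, hgN⟩, ?_⟩⟩
  apply Subtype.ext
  exact h1

/-- the number of real irreducible characters of `G` equals the number of `G`-orbits on the real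
irreducible characters of `N` -/
theorem card_real_eq [Fintype N] (hodd : Odd N.index) :
    Nat.card {χ : IrrCharacter G // ∀ g, conj ((χ : G → ℂ) g) = (χ : G → ℂ) g} =
      Nat.card (Quot (fun θ η : {θ : IrrCharacter ↥N // (∀ k : ↥N, ((θ : ↥N → ℂ) k).im = 0)} =>
        ∃ g : G, ∀ k k' : ↥N, (k' : G) = g * (k : G) * g⁻¹ → (η.1 : ↥N → ℂ) k' = (θ.1 : ↥N → ℂ) k)) := by
  classical
  rw [Cfsg.Agent.S4866.result N hodd]
  let π : IrrCharacter G → IrrCharacter G := fun χ => ⟨fun g => conj ((χ : G → ℂ) g), IsIrr.conj χ.2⟩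
  let τ : ConjClasses G → ConjClasses G := fun C => Quotient.map (fun x : G => x⁻¹) (fun a b h => by
    obtain ⟨c, hc⟩ := isConj_iff.1 h
    exact isConj_iff.2 ⟨c, by rw [← hc]; group⟩) C
  have hτ : ∀ x : G, τ (ConjClasses.mk x) = ConjClasses.mk x⁻¹ := fun _ => rfl
  have h1 := Cfsg.Agent.H3.CharCalc.brauer_perm π τ (by
    intro χ g g' h
    rw [hτ] at h
    have h2 : (π χ : G → ℂ) g' = (π χ : G → ℂ) g⁻¹ :=
      IsClass.eq_of_isConj (IsIrr.isClass (π χ).2) (ConjClasses.mk_eq_mk_iff_isConj.1 h)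
    rw [h2]
    show conj ((χ : G → ℂ) g⁻¹) = _
    rw [inv_eq, Complex.conj_conj])
  have h2 : Nat.card {χ : IrrCharacter G // ∀ g, conj ((χ : G → ℂ) g) = (χ : G → ℂ) g} =
      Nat.card {χ : IrrCharacter G // π χ = χ} := by
    apply Nat.card_congr
    apply Equiv.subtypeEquivRight
    intro χ
    constructor
    · intro h
      exact Subtype.ext (funext h)
    · intro h g
      exact congrFun (congrArg Subtype.val h) g
  rw [h2, h1]
  symm
  let f : {x : ↥N // IsConj x x⁻¹} → {C : ConjClasses G // τ C = C} := fun x =>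
    ⟨ConjClasses.mk (x.1 : G), by
      rw [hτ, ConjClasses.mk_eq_mk_iff_isConj, isConj_comm]
      obtain ⟨c, hc⟩ := isConj_iff.1 x.2
      exact isConj_iff.2 ⟨c, congrArg Subtype.val hc⟩⟩
  apply Nat.card_eq_of_bijective (fun q => Quot.liftOn q f (by
    rintro x y ⟨g, hg⟩
    apply Subtype.ext
    show ConjClasses.mk (x.1 : G) = ConjClasses.mk (y.1 : G)
    rw [ConjClasses.mk_eq_mk_iff_isConj, isConj_iff]
    exact ⟨g, hg.symm⟩))
  constructor
  · rintro ⟨a⟩ ⟨b⟩ h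
    apply Quot.sound
    have h3 : ConjClasses.mk (a.1 : G) = ConjClasses.mk (b.1 : G) := congrArg Subtype.val h
    rw [ConjClasses.mk_eq_mk_iff_isConj, isConj_iff] at h3
    obtain ⟨g, hg⟩ := h3
    exact ⟨g, hg.symm⟩
  · rintro ⟨C, hC⟩
    obtain ⟨x, rfl⟩ := ConjClasses.mk_surjective C
    rw [hτ, ConjClasses.mk_eq_mk_iff_isConj, isConj_comm] at hC
    obtain ⟨hx, hc⟩ := real_of_real hodd hC
    exact ⟨Quot.mk _ ⟨⟨x, hx⟩, hc⟩, Subtype.ext rfl⟩

theorem exists_real_over [Fintype N] (hodd : Odd N.index) (θ : IrrCharacter N)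
    (hr : ∀ n, conj ((θ : N → ℂ) n) = (θ : N → ℂ) n) :
    ∃ χ : IrrCharacter G, (∀ g, conj ((χ : G → ℂ) g) = (χ : G → ℂ) g) ∧
      classInner (fun n : N => (χ : G → ℂ) n) (θ : N → ℂ) ≠ 0 := by
  classical
  haveI : Fintype (IrrCharacter G) := Fintype.ofFinite _
  have h1 := sum_mult_ind hodd (θ : N → ℂ)
  have h2 : ind (θ : N → ℂ) ≠ 0 := by
    rcases ind_real θ hr with h | h <;> rw [h] <;> norm_num
  rw [← h1] at h2
  obtain ⟨χ, _, hχ⟩ := Finset.exists_ne_zero_of_sum_ne_zero h2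
  refine ⟨χ, ?_, ?_⟩
  · by_contra hc
    rw [ind_nonreal χ hc, mul_zero] at hχ
    exact hχ rfl
  · rw [← Cfsg.Agent.H3.CharMult.constituent_ind_iff (IsIrr.isCharacter χ.2)]
    exact left_ne_zero_of_mul hχ

/-- uniqueness of the real character over a real character -/
theorem real_over_unique [Fintype N] (hodd : Odd N.index) (θ : IrrCharacter N)
    (hr : ∀ n, conj ((θ : N → ℂ) n) = (θ : N → ℂ) n) (χ χ' : IrrCharacter G)
    (h1 : ∀ g, conj ((χ : G → ℂ) g) = (χ : G → ℂ) g) (h1' : ∀ g, conj ((χ' : G → ℂ) g) = (χ' : G → ℂ) g)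
    (h2 : classInner (fun n : N => (χ : G → ℂ) n) (θ : N → ℂ) ≠ 0)
    (h2' : classInner (fun n : N => (χ' : G → ℂ) n) (θ : N → ℂ) ≠ 0) : χ = χ' := by
  classical
  have hre : ∀ θ : IrrCharacter N, (∀ k : ↥N, ((θ : ↥N → ℂ) k).im = 0) ↔
      ∀ n, conj ((θ : N → ℂ) n) = (θ : N → ℂ) n := fun θ =>
    forall_congr' fun n => Complex.conj_eq_iff_im.symm
  let X : Type _ := {θ : IrrCharacter ↥N // (∀ k : ↥N, ((θ : ↥N → ℂ) k).im = 0)}
  let R : X → X → Prop := fun θ η => ∃ g : G, ∀ k k' : ↥N, (k' : G) = g * (k : G) * g⁻¹ →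
    (η.1 : ↥N → ℂ) k' = (θ.1 : ↥N → ℂ) k
  let Y : Type _ := {χ : IrrCharacter G // ∀ g, conj ((χ : G → ℂ) g) = (χ : G → ℂ) g}
  have hcard : Nat.card Y = Nat.card (Quot R) := card_real_eq hodd
  have hex : ∀ q : Quot R, ∃ χ : Y, classInner (fun n : N => (χ.1 : G → ℂ) n) ((Quot.out q).1 : N → ℂ) ≠ 0 := by
    intro q
    obtain ⟨χ, ha, hb⟩ := exists_real_over hodd (Quot.out q).1 ((hre _).1 (Quot.out q).2)
    exact ⟨⟨χ, ha⟩, hb⟩
  choose F hF using hex
  have hsame : ∀ (θ η : X) (χ : Y), classInner (fun n : N => (χ.1 : G → ℂ) n) (θ.1 : N → ℂ) ≠ 0 →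
      classInner (fun n : N => (χ.1 : G → ℂ) n) (η.1 : N → ℂ) ≠ 0 → Quot.mk R θ = Quot.mk R η := by
    intro θ η χ ha hb
    obtain ⟨g, hg⟩ := eq_cj_of_constituents (hN := hN) χ.1.2 θ.1.2 η.1.2 ha hb
    apply Quot.sound
    refine ⟨g⁻¹, fun k k' hk => ?_⟩
    rw [hg, cj_apply]
    refine congrArg (θ.1 : N → ℂ) (Subtype.ext ?_)
    show g * (k' : G) * g⁻¹ = k
    rw [hk]; group
  have hinj : Function.Injective F := by
    intro q q' h
    have ha := hF q
    have hb := hF q'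
    rw [h] at ha
    have := hsame _ _ _ ha hb
    rwa [Quot.out_eq, Quot.out_eq] at this
  haveI : Finite (Quot R) := inferInstance
  haveI : Finite Y := inferInstance
  have hbij : Function.Bijective F := (Nat.bijective_iff_injective_and_card F).2 ⟨hinj, hcard.symm⟩
  let θX : X := ⟨θ, (hre θ).2 hr⟩
  obtain ⟨q, hq⟩ := hbij.2 ⟨χ, h1⟩
  obtain ⟨q', hq'⟩ := hbij.2 ⟨χ', h1'⟩
  have e1 : q = Quot.mk R θX := by
    have ha := hF q
    rw [hq] at ha
    have := hsame (Quot.out q) θX ⟨χ, h1⟩ ha h2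
    rwa [Quot.out_eq] at this
  have e2 : q' = Quot.mk R θX := by
    have ha := hF q'
    rw [hq'] at ha
    have := hsame (Quot.out q') θX ⟨χ', h1'⟩ ha h2'
    rwa [Quot.out_eq] at this
  have : (⟨χ, h1⟩ : Y) = ⟨χ', h1'⟩ := by rw [← hq, ← hq', e1, e2]
  exact congrArg Subtype.val this

end Cfsg.Agent.H26.FSOdd
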