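import Cfsg.Agent.H26_J3a
import Cfsg.Agent.H20_J3X

/-!
Orbits of the triple cover of J3 on the vectors of the 9-space over the field with 4 elements: kernel computations.
-/

set_option autoImplicit false
set_option maxRecDepth 100000

namespace Cfsg.Agent.H26.J3b

open Cfsg.Agent.H8.CE (N N_eq)
open Cfsg.Agent.H8.Net (plane plane_testBit)
open Cfsg.Agent.H26.J3a
open Cfsg.Agent.H20.J3X (mulV)

def opsA : List (ℕ × ℕ) := [(2, 0), (0, 2), (0, 3), (0, 5), (0, 7), (0, 12), (0, 13), (5, 1), (1, 0), (1, 5), (1, 6), (1, 11), (1, 12),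
  (1, 13), (1, 17), (2, 0), (2, 1), (2, 3), (2, 4), (2, 7), (2, 10), (2, 11), (2, 12), (2, 13), (2, 14), (2,
  16), (4, 3), (3, 0), (3, 4), (3, 5), (3, 6), (3, 9), (3, 12), (3, 14), (3, 16), (3, 17), (4, 2), (4, 8), (4,
  9), (4, 10), (4, 12), (4, 14), (5, 0), (5, 1), (5, 3), (5, 4), (5, 7), (5, 8), (5, 12), (5, 14), (5, 17), (8,
  6), (6, 0), (6, 1), (6, 3), (6, 8), (6, 9), (6, 11), (6, 12), (6, 14), (6, 16), (6, 17), (7, 0), (7, 1), (7,
  2), (7, 6), (7, 8), (7, 10), (7, 14), (7, 16), (8, 0), (8, 2), (8, 3), (8, 4), (8, 5), (8, 6), (8, 7), (8,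
  11), (8, 12), (8, 15), (8, 17), (10, 9), (9, 0), (9, 1), (9, 2), (9, 3), (9, 4), (9, 6), (9, 10), (9, 13), (9,
  14), (9, 17), (10, 0), (10, 1), (10, 2), (10, 3), (10, 5), (10, 6), (10, 12), (10, 15), (10, 16), (10, 17),
  (11, 2), (11, 4), (11, 6), (11, 10), (11, 12), (11, 13), (11, 14), (11, 16), (11, 17), (12, 3), (12, 5), (12,
  8), (12, 9), (12, 13), (12, 14), (12, 16), (15, 13), (13, 1), (13, 6), (13, 7), (13, 9), (13, 15), (13, 16),
  (13, 17), (14, 0), (14, 2), (14, 7), (14, 9), (14, 10), (14, 11), (14, 15), (15, 0), (15, 1), (15, 3), (15,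
  6), (15, 8), (15, 9), (15, 11), (15, 12), (15, 13), (15, 14), (15, 16), (15, 17), (16, 1), (16, 6), (16, 7),
  (16, 8), (16, 9), (16, 10), (16, 11), (16, 12), (16, 14), (16, 17), (17, 1), (17, 2), (17, 3), (17, 4), (17,
  6), (17, 7), (17, 13), (17, 15)]

def opsB : List (ℕ × ℕ) := [(10, 1), (1, 10), (11, 2), (2, 11), (12, 3), (3, 12), (4, 13), (5, 14), (15, 6), (6, 15), (7, 16), (8, 17),
  (13, 4), (14, 5), (16, 7), (17, 8)]

def MA : List ℕ := [12460, 133324, 214269, 221918, 201701, 6393, 131518, 145635, 114062]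
def MB : List ℕ := [1, 1024, 2048, 4096, 8208, 16416, 32768, 65664, 131328]

theorem okA : (opsA.all fun p => decide (p.1 < 18 ∧ p.2 < 18 ∧ p.1 ≠ p.2)) = true := by decide +kernel
theorem okB : (opsB.all fun p => decide (p.1 < 18 ∧ p.2 < 18 ∧ p.1 ≠ p.2)) = true := by decide +kernel
theorem posA : ∀ i < 18, pos opsA (2 ^ i) = mulV MA (2 ^ i) := by decide +kernel
theorem posB : ∀ i < 18, pos opsB (2 ^ i) = mulV MB (2 ^ i) := by decide +kernel

theorem OkA : Ok 18 opsA := by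
  intro p hp
  have h := okA
  rw [List.all_eq_true] at h
  simpa using h p hp

theorem OkB : Ok 18 opsB := by
  intro p hp
  have h := okB
  rw [List.all_eq_true] at h
  simpa using h p hp

/-- first orbit -/
noncomputable def S1 : ℕ := TI 18 opsA opsB 48 (2 ^ 1)
/-- second orbit -/
noncomputable def S3 : ℕ := TI 18 opsA opsB 45 (2 ^ 3)

noncomputable def chk1 : Bool :=
  mks 18 opsA fun a => mks 18 opsB fun b => rdK a b 48 2 fun S => rn a S fun x => rn b S fun y =>
    Bool.rec false (Bool.rec false (Nat.beq (pc 18 S) 69768) (Nat.beq y S)) (Nat.beq x S)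

noncomputable def PM (l : List ℕ) : ℕ :=
  List.rec (nat_lit 0) (fun z _ ih => Nat.xor (Nat.lor (plane z 18) (plane (Nat.add (nat_lit 9) z) 18)) ih) l

noncomputable def chk3 : Bool :=
  mks 18 opsA fun a => mks 18 opsB fun b => rdK a b 45 8 fun S =>
    Nat.beq (Nat.lor S (nat_lit 1)) (Nat.xor (Nat.sub (Nat.pow (nat_lit 2) (Nat.pow (nat_lit 2) (nat_lit 18))) (nat_lit 1)) (PM [0, 1, 2, 3, 4, 5, 6, 7, 8]))

theorem chk1_true : chk1 = true := by decide +kernel

theorem chk3_true : chk3 = true := by decide +kernel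

end Cfsg.Agent.H26.J3b
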