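import Cfsg.Agent.H26_F4
import Cfsg.Prelude.Def_Classical

/-! Transvections in the six-dimensional special unitary group over the field with four elements. -/

set_option autoImplicit false

namespace Cfsg.Agent.H26.SU6

open Matrix Cfsg

/-- the hermitian form -/
def hf (u v : Fin 6 → F4) : F4 := ∑ t, u t * v t ^ 2

theorem hf_eq (u v : Fin 6 → F4) : hf u v = hermForm 6 F4 2 u v := rfl

theorem sq_add (a b : F4) : (a + b) ^ 2 = a ^ 2 + b ^ 2 := by revert a b; decide

theorem sq_sum (f : Fin 6 → F4) : (∑ t, f t) ^ 2 = ∑ t, f t ^ 2 := by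
  rw [Fin.sum_univ_six, Fin.sum_univ_six, sq_add, sq_add, sq_add, sq_add, sq_add]

theorem pow_four (a : F4) : (a ^ 2) ^ 2 = a := by revert a; decide

theorem hf_conj (u v : Fin 6 → F4) : hf v u = (hf u v) ^ 2 := by
  rw [hf, hf, sq_sum]
  apply Finset.sum_congr rfl
  intro t _
  rw [mul_pow, pow_four]
  ring

theorem hf_add_left (u u' v : Fin 6 → F4) : hf (u + u') v = hf u v + hf u' v := by
  rw [hf, hf, hf, ← Finset.sum_add_distrib]
  apply Finset.sum_congr rfl
  intro t _
  rw [Pi.add_apply]; ring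

theorem hf_smul_left (c : F4) (u v : Fin 6 → F4) : hf (c • u) v = c * hf u v := by
  rw [hf, hf, Finset.mul_sum]
  apply Finset.sum_congr rfl
  intro t _
  rw [Pi.smul_apply, smul_eq_mul]; ring

theorem hf_add_right (u v v' : Fin 6 → F4) : hf u (v + v') = hf u v + hf u v' := by
  rw [hf_conj, hf_add_left, sq_add, ← hf_conj, ← hf_conj]

theorem hf_smul_right (c : F4) (u v : Fin 6 → F4) : hf u (c • v) = c ^ 2 * hf u v := by
  rw [hf_conj, hf_smul_left, mul_pow, ← hf_conj]

/-- the transvection -/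
def tv (v : Fin 6 → F4) : Matrix (Fin 6) (Fin 6) F4 := 1 + vecMulVec v (fun t => v t ^ 2)

theorem tv_mulVec (v u : Fin 6 → F4) : tv v *ᵥ u = u + hf u v • v := by
  rw [tv, add_mulVec, one_mulVec, vecMulVec_mulVec]
  congr 1
  ext t
  rw [Pi.smul_apply, Pi.smul_apply, smul_eq_mul, MulOpposite.smul_eq_mul_unop, MulOpposite.unop_op, mul_comm]
  congr 1
  rw [dotProduct, hf]
  apply Finset.sum_congr rfl
  intro s _
  ring

theorem tv_det {v : Fin 6 → F4} (hv : hf v v = 0) : (tv v).det = 1 := by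
  rw [tv, vecMulVec_eq Unit, det_one_add_replicateCol_mul_replicateRow]
  have h : (fun t => v t ^ 2) ⬝ᵥ v = hf v v := by
    rw [dotProduct, hf]
    apply Finset.sum_congr rfl
    intro s _
    ring
  rw [h, hv, add_zero]

theorem tv_hf {v : Fin 6 → F4} (hv : hf v v = 0) (u w : Fin 6 → F4) : hf (tv v *ᵥ u) (tv v *ᵥ w) = hf u w := by
  rw [tv_mulVec, tv_mulVec, hf_add_left, hf_add_right, hf_add_right, hf_smul_left, hf_smul_left, hf_smul_right,
    hf_smul_right, hv, mul_zero, mul_zero, add_zero, hf_conj w v, mul_comm (hf u v), add_assoc, F4.add_self, add_zero]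

/-- the transvection in the special linear group -/
noncomputable def tvS (v : Fin 6 → F4) (hv : hf v v = 0) : SU 6 F4 2 :=
  ⟨⟨tv v, tv_det hv⟩, fun u w => tv_hf hv u w⟩

/-- the matrix of an element -/
noncomputable def rho : SU 6 F4 2 →* Matrix (Fin 6) (Fin 6) F4 := (slToMat 6 F4).comp (SU 6 F4 2).subtype

theorem rho_tvS (v : Fin 6 → F4) (hv : hf v v = 0) : rho (tvS v hv) = tv v := rfl

theorem rho_inj : Function.Injective rho := by
  intro A B h
  apply Subtype.ext
  apply Subtype.ext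
  exact h

theorem rho_hf (A : SU 6 F4 2) (u w : Fin 6 → F4) : hf (rho A *ᵥ u) (rho A *ᵥ w) = hf u w := A.2 u w

/-- a central element fixes the lines of isotropic vectors -/
theorem central_eig {A : SU 6 F4 2} (hA : A ∈ Subgroup.center (SU 6 F4 2)) {v : Fin 6 → F4} (hv : hf v v = 0)
    (hv0 : v ≠ 0) : ∃ c : F4, c ≠ 0 ∧ rho A *ᵥ v = c • v := by
  have h1 : tv v * rho A = rho A * tv v := by
    have h2 := Subgroup.mem_center_iff.1 hA (tvS v hv)
    have h3 := congrArg rho h2
    rwa [map_mul, map_mul, rho_tvS] at h3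
  obtain ⟨u, hu⟩ : ∃ u, hf u v ≠ 0 := by
    by_contra hcon
    push Not at hcon
    apply hv0
    ext t
    have h4 := hcon (Pi.single t 1)
    rw [hf, Finset.sum_eq_single t] at h4
    · rw [Pi.single_eq_same, one_mul] at h4
      exact pow_eq_zero_iff (by decide) |>.1 h4
    · intro s _ hs
      rw [Pi.single_eq_of_ne hs, zero_mul]
    · intro h; exact absurd (Finset.mem_univ t) h
  have h2 : tv v *ᵥ (rho A *ᵥ u) = rho A *ᵥ (tv v *ᵥ u) := by
    rw [mulVec_mulVec, mulVec_mulVec, h1]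
  rw [tv_mulVec, tv_mulVec, mulVec_add, mulVec_smul] at h2
  have h3 := add_left_cancel h2
  have h4 : rho A *ᵥ v = ((hf u v)⁻¹ * hf (rho A *ᵥ u) v) • v := by
    rw [mul_smul, h3, smul_smul, inv_mul_cancel₀ hu, one_smul]
  refine ⟨_, ?_, h4⟩
  intro h5
  rw [h5, zero_smul] at h4
  apply hv0
  have h6 : rho A⁻¹ *ᵥ (rho A *ᵥ v) = v := by
    rw [mulVec_mulVec, ← map_mul, inv_mul_cancel, map_one, one_mulVec]
  rw [h4, mulVec_zero] at h6
  exact h6.symm

/-- a matrix fixing the lines of the vectors of weight two is scalar -/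
theorem scalar_of (A : Matrix (Fin 6) (Fin 6) F4)
    (h : ∀ s t : Fin 6, s ≠ t → ∀ l : F4, l ≠ 0 → ∃ c : F4, A *ᵥ (Pi.single s 1 + l • Pi.single t 1) =
      c • (Pi.single s 1 + l • Pi.single t 1)) : ∃ c : F4, A = c • (1 : Matrix (Fin 6) (Fin 6) F4) := by
  have hcol : ∀ (s t : Fin 6) (l : F4) (r : Fin 6), (A *ᵥ (Pi.single s 1 + l • Pi.single t 1)) r = A r s + l * A r t := by
    intro s t l r
    rw [mulVec_add, mulVec_smul, Pi.add_apply, Pi.smul_apply, mulVec_single_one, mulVec_single_one]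
    rfl
  have hoff : ∀ r t : Fin 6, r ≠ t → A r t = 0 := by
    intro r t hrt
    obtain ⟨s, hsr, hst⟩ : ∃ s : Fin 6, s ≠ r ∧ s ≠ t := by revert r t; decide
    obtain ⟨c, hc⟩ := h s t hst 1 one_ne_zero
    obtain ⟨d, hd⟩ := h s t hst (F4.mk 2) (by decide)
    have e1 := congrFun hc r
    have e2 := congrFun hd r
    rw [hcol] at e1 e2
    have z : ∀ (c l : F4), (c • (Pi.single s (1 : F4) + l • Pi.single t (1 : F4) : Fin 6 → F4)) r = 0 := by
      intro c l
      rw [Pi.smul_apply, Pi.add_apply, Pi.smul_apply, Pi.single_eq_of_ne (Ne.symm hsr), Pi.single_eq_of_ne hrt]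
      simp
    rw [z] at e1 e2
    generalize A r s = a at e1 e2
    generalize A r t = b at e1 e2 ⊢
    revert a b
    decide
  have hdiag : ∀ s : Fin 6, A s s = A 0 0 := by
    intro s
    by_cases hs : s = 0
    · rw [hs]
    · obtain ⟨c, hc⟩ := h 0 s (Ne.symm hs) 1 one_ne_zero
      have e1 := congrFun hc 0
      have e2 := congrFun hc s
      rw [hcol] at e1 e2
      rw [Pi.smul_apply, Pi.add_apply, Pi.smul_apply, Pi.single_eq_same, Pi.single_eq_of_ne (Ne.symm hs),
        hoff 0 s (Ne.symm hs)] at e1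
      rw [Pi.smul_apply, Pi.add_apply, Pi.smul_apply, Pi.single_eq_same, Pi.single_eq_of_ne hs,
        hoff s 0 hs] at e2
      simp only [smul_zero, add_zero, mul_zero, smul_eq_mul, mul_one, one_mul, zero_add] at e1 e2
      rw [e1, e2]
  refine ⟨A 0 0, ?_⟩
  ext r t
  rw [Matrix.smul_apply, smul_eq_mul]
  by_cases hrt : r = t
  · subst hrt; rw [hdiag, Matrix.one_apply_eq, mul_one]
  · rw [hoff r t hrt, Matrix.one_apply_ne hrt, mul_zero]

theorem center_of_scalar {A : SU 6 F4 2} {c : F4} (h : rho A = c • (1 : Matrix (Fin 6) (Fin 6) F4)) :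
    A ∈ Subgroup.center (SU 6 F4 2) := by
  rw [Subgroup.mem_center_iff]
  intro B
  apply rho_inj
  rw [map_mul, map_mul, h, Matrix.mul_smul, Matrix.mul_one, smul_mul, Matrix.one_mul]

end Cfsg.Agent.H26.SU6
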