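import Cfsg.Prelude.Def_SporadicB

/-! Abstract lemmas on 3-transposition classes with a rank 3 action and non-split double covers. -/

set_option autoImplicit false

namespace Cfsg.Agent.H26.Sp

open Cfsg

variable {G H H' K : Type*} [Group G] [Group H] [Group H'] [Group K]

theorem conj_of_dec {z : G} {S : Subgroup G} (hHz : ∀ h ∈ S, h * z = z * h) {g u h h' : G} (hh : h ∈ S) (hh' : h' ∈ S)
    (e : g = h * u * h') : g * z * g⁻¹ = h * (u * z * u⁻¹) * h⁻¹ ∧ z * (g * z * g⁻¹) = h * (z * (u * z * u⁻¹)) * h⁻¹ := by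
  have h1 := hHz h hh
  have h2 := hHz h' hh'
  have e1 : g * z * g⁻¹ = h * (u * z * u⁻¹) * h⁻¹ := by
    subst e
    calc h * u * h' * z * (h * u * h')⁻¹ = h * u * (h' * z) * (h * u * h')⁻¹ := by group
      _ = h * u * (z * h') * (h * u * h')⁻¹ := by rw [h2]
      _ = h * (u * z * u⁻¹) * h⁻¹ := by group
  refine ⟨e1, ?_⟩
  rw [e1]
  calc z * (h * (u * z * u⁻¹) * h⁻¹) = (z * h) * (u * z * u⁻¹) * h⁻¹ := by group
    _ = (h * z) * (u * z * u⁻¹) * h⁻¹ := by rw [h1]
    _ = h * (z * (u * z * u⁻¹)) * h⁻¹ := by group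

theorem conj_pow' (h a : G) (n : ℕ) : (h * a * h⁻¹) ^ n = h * a ^ n * h⁻¹ := by
  rw [conj_pow]

theorem three_transp [Finite G] (hs : IsSimpleGroup G) (z : G) (hz1 : z ≠ 1) (hz : z * z = 1) (S : Subgroup G)
    (hHz : ∀ h ∈ S, h * z = z * h) (J : Set G)
    (hdec : ∀ g, g ∈ S ∨ ∃ u ∈ J, ∃ h ∈ S, ∃ h' ∈ S, g = h * u * h')
    (hJ : ∀ u ∈ J, ((z * (u * z * u⁻¹)) ^ 2 = 1 ∨ (z * (u * z * u⁻¹)) ^ 3 = 1) ∧ u * z * u⁻¹ ≠ z) :
    Subgroup.centralizer ({z} : Set G) = S ∧ IsThreeTranspositionClass (conjugatesOf z) ∧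
      Nat.card (conjugatesOf z) = S.index := by
  have hC : Subgroup.centralizer ({z} : Set G) = S := by
    apply le_antisymm
    · intro g hg
      rw [Subgroup.mem_centralizer_singleton_iff] at hg
      rcases hdec g with h | ⟨u, hu, h, hh, h', hh', e⟩
      · exact h
      · exfalso
        obtain ⟨e1, -⟩ := conj_of_dec hHz hh hh' e
        have h1 : g * z * g⁻¹ = z := by rw [hg]; group
        rw [h1] at e1
        apply (hJ u hu).2
        have h2 := hHz h hh
        have : u * z * u⁻¹ = h⁻¹ * (h * (u * z * u⁻¹) * h⁻¹) * h := by group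
        rw [this, ← e1, mul_assoc, ← h2]; group
    · intro g hg
      rw [Subgroup.mem_centralizer_singleton_iff]
      exact hHz g hg
  have hord : orderOf z = 2 := orderOf_eq_prime (by rw [pow_two]; exact hz) hz1
  have h3 : ∀ g : G, (z * (g * z * g⁻¹)) ^ 2 = 1 ∨ (z * (g * z * g⁻¹)) ^ 3 = 1 := by
    intro g
    rcases hdec g with h | ⟨u, hu, h, hh, h', hh', e⟩
    · left
      have h1 := hHz g h
      rw [h1, mul_assoc z g, mul_inv_cancel, mul_one, hz, one_pow]
    · obtain ⟨-, e2⟩ := conj_of_dec hHz hh hh' e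
      rw [e2, conj_pow', conj_pow']
      rcases (hJ u hu).1 with h1 | h1
      · left; rw [h1]; group
      · right; rw [h1]; group
  refine ⟨hC, ⟨⟨?_, ?_⟩, ⟨z, mem_conjugatesOf_self, rfl⟩, ?_⟩, ?_⟩
  · intro d hd
    obtain ⟨c, rfl⟩ := isConj_iff.1 (show IsConj z d from hd)
    rw [← hord]
    exact (MulAut.conj c).orderOf_eq z
  · intro d hd e he
    obtain ⟨c, rfl⟩ := isConj_iff.1 (show IsConj z d from hd)
    obtain ⟨c', rfl⟩ := isConj_iff.1 (show IsConj z e from he)
    have e1 : c * z * c⁻¹ * (c' * z * c'⁻¹) =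
        c * (z * ((c⁻¹ * c') * z * (c⁻¹ * c')⁻¹)) * c⁻¹ := by group
    rw [e1, conj_pow', conj_pow']
    rcases h3 (c⁻¹ * c') with h | h
    · left; rw [h]; group
    · right; rw [h]; group
  · have h1 : Subgroup.normalClosure ({z} : Set G) = ⊤ := by
      rcases hs.eq_bot_or_eq_top_of_normal _ (Subgroup.normalClosure_normal (s := ({z} : Set G))) with h | h
      · exfalso
        apply hz1
        have : z ∈ Subgroup.normalClosure ({z} : Set G) := Subgroup.subset_normalClosure rfl
        rwa [h, Subgroup.mem_bot] at this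
      · exact h
    rw [← h1, Subgroup.normalClosure, Group.conjugatesOfSet, Set.biUnion_singleton]
  · rw [← hC]
    have h1 : (conjugatesOf z) = MulAction.orbit (ConjAct G) z := by
      ext d
      rw [ConjAct.mem_orbit_conjAct]
      exact ⟨fun h => IsConj.symm h, fun h => IsConj.symm h⟩
    have h2 := Subgroup.nat_card_centralizer_nat_card_stabilizer z
    have h3 := MulAction.index_stabilizer (ConjAct G) z
    have h4 := Subgroup.card_mul_index (MulAction.stabilizer (ConjAct G) z)
    have h5 := Subgroup.card_mul_index (Subgroup.centralizer ({z} : Set G))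
    have h6 : Nat.card (ConjAct G) = Nat.card G := rfl
    rw [h1]
    have h7 : Nat.card (MulAction.orbit (ConjAct G) z) = (MulAction.orbit (ConjAct G) z).ncard := rfl
    rw [h7, ← h3]
    rw [h6, ← h5, ← h2] at h4
    exact Nat.eq_of_mul_eq_mul_left Nat.card_pos (by rw [h4, h2])

/-- a criterion for non-split double covers -/
theorem nsdc_of [Finite H] [Finite K] (hK : IsSimpleGroup K) (hKc : Subgroup.center K = ⊥) (z : H) (hz : z * z = 1)
    (hz1 : z ≠ 1) (hzc : ∀ h : H, h * z = z * h) (Z : Subgroup H) (hZ : Z = Subgroup.zpowers z) [Z.Normal]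
    (f : K →* H ⧸ Z) (hf : Function.Surjective f) (hcard : Nat.card H = 2 * Nat.card K)
    (hno : ∀ L : Subgroup H, L.index ≠ 2) : IsNonsplitDoubleCover H K := by
  have hord : orderOf z = 2 := orderOf_eq_prime (by rw [pow_two]; exact hz) hz1
  have hZ2 : Nat.card Z = 2 := by rw [hZ, Nat.card_zpowers, hord]
  have hq : Nat.card (H ⧸ Z) = Nat.card K := by
    have h1 := Subgroup.card_mul_index Z
    rw [hZ2, hcard] at h1
    have h2 : Z.index = Nat.card (H ⧸ Z) := rfl
    omega
  have hb : Function.Bijective f := (Nat.bijective_iff_surjective_and_card f).2 ⟨hf, hq.symm⟩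
  let e : K ≃* H ⧸ Z := MulEquiv.ofBijective f hb
  have hc : Subgroup.center H = Z := by
    apply le_antisymm
    · intro c hc
      have h1 : e.symm (QuotientGroup.mk c) ∈ Subgroup.center K := by
        rw [Subgroup.mem_center_iff]
        intro k
        apply e.injective
        rw [map_mul, map_mul, e.apply_symm_apply]
        obtain ⟨h, hh⟩ := QuotientGroup.mk_surjective (e k)
        rw [← hh, ← QuotientGroup.mk_mul, ← QuotientGroup.mk_mul, Subgroup.mem_center_iff.1 hc h]
      rw [hKc, Subgroup.mem_bot, MulEquiv.map_eq_one_iff] at h1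
      exact (QuotientGroup.eq_one_iff c).1 h1
    · rw [hZ, Subgroup.zpowers_le, Subgroup.mem_center_iff]
      exact hzc
  refine ⟨by rw [hc, hZ2], ⟨(QuotientGroup.quotientMulEquivOfEq hc).trans e.symm⟩, ?_⟩
  intro L hL
  apply hno L
  have h1 := hL.index_eq_card
  rw [h1, hc, hZ2]

theorem nsdc_congr [Finite H] (e : H ≃* H') (h : IsNonsplitDoubleCover H K) : IsNonsplitDoubleCover H' K := by
  haveI : Finite H' := Finite.of_equiv H e.toEquiv
  have hm : (Subgroup.center H).map (e : H →* H') = Subgroup.center H' := by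
    ext c
    rw [Subgroup.mem_map, Subgroup.mem_center_iff]
    constructor
    · rintro ⟨d, hd, rfl⟩ g
      obtain ⟨k, rfl⟩ := e.surjective g
      have := Subgroup.mem_center_iff.1 hd k
      show e k * e d = e d * e k
      rw [← map_mul, ← map_mul, this]
    · intro hc
      refine ⟨e.symm c, Subgroup.mem_center_iff.2 fun k => ?_, e.apply_symm_apply c⟩
      apply e.injective
      rw [map_mul, map_mul, e.apply_symm_apply]
      exact hc (e k)
  obtain ⟨h1, ⟨h2⟩, h3⟩ := h
  refine ⟨?_, ⟨(QuotientGroup.congr _ _ e hm).symm.trans h2⟩, ?_⟩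
  · rw [← hm, ← h1]
    exact (Nat.card_congr ((Subgroup.center H).equivMapOfInjective (e : H →* H') e.injective).toEquiv).symm
  · intro L hL
    apply h3 (L.comap (e : H →* H'))
    have hcd := Nat.card_congr (MulEquiv.toEquiv e)
    have hLc : Nat.card (L.comap (e : H →* H')) = Nat.card L := by
      have : (L.comap (e : H →* H')).map (e : H →* H') = L :=
        Subgroup.map_comap_eq_self_of_surjective e.surjective L
      conv_rhs => rw [← this]
      exact Nat.card_congr ((L.comap (e : H →* H')).equivMapOfInjective (e : H →* H') e.injective).toEquiv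
    have hZc : Nat.card (Subgroup.center H) = Nat.card (Subgroup.center H') := by
      rw [← hm]
      exact Nat.card_congr ((Subgroup.center H).equivMapOfInjective (e : H →* H') e.injective).toEquiv
    apply Subgroup.isComplement'_of_card_mul_and_disjoint
    · rw [hLc, hZc, hL.card_mul_card, hcd]
    · rw [disjoint_iff, eq_bot_iff]
      rintro x ⟨hx1, hx2⟩
      have h5 : e x ∈ Subgroup.center H' ⊓ L := ⟨hm ▸ ⟨x, hx1, rfl⟩, hx2⟩
      rw [hL.disjoint.eq_bot, Subgroup.mem_bot, MulEquiv.map_eq_one_iff] at h5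
      exact h5

/-- conjugate centralisers are isomorphic -/
theorem centralizer_conj {z d : G} (hd : d ∈ conjugatesOf z) :
    Nonempty (Subgroup.centralizer ({z} : Set G) ≃* Subgroup.centralizer ({d} : Set G)) := by
  obtain ⟨c, rfl⟩ := isConj_iff.1 (show IsConj z d from hd)
  have h : (Subgroup.centralizer ({z} : Set G)).map (MulAut.conj c : G ≃* G).toMonoidHom =
      Subgroup.centralizer ({c * z * c⁻¹} : Set G) := by
    ext g
    rw [Subgroup.mem_map, Subgroup.mem_centralizer_singleton_iff]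
    constructor
    · rintro ⟨k, hk, rfl⟩
      rw [Subgroup.mem_centralizer_singleton_iff] at hk
      show c * k * c⁻¹ * (c * z * c⁻¹) = c * z * c⁻¹ * (c * k * c⁻¹)
      calc c * k * c⁻¹ * (c * z * c⁻¹) = c * (k * z) * c⁻¹ := by group
        _ = c * (z * k) * c⁻¹ := by rw [hk]
        _ = c * z * c⁻¹ * (c * k * c⁻¹) := by group
    · intro hg
      refine ⟨c⁻¹ * g * c, ?_, ?_⟩
      · rw [Subgroup.mem_centralizer_singleton_iff]
        calc c⁻¹ * g * c * z = c⁻¹ * (g * (c * z * c⁻¹)) * c := by group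
          _ = c⁻¹ * ((c * z * c⁻¹) * g) * c := by rw [hg]
          _ = z * (c⁻¹ * g * c) := by group
      · show c * (c⁻¹ * g * c) * c⁻¹ = g
        group
  exact ⟨((MulAut.conj c).subgroupMap (Subgroup.centralizer ({z} : Set G))).trans (MulEquiv.subgroupCongr h)⟩

theorem center_eq_bot_of_simple (hs : IsSimpleGroup G) {a b : G} (h : a * b ≠ b * a) : Subgroup.center G = ⊥ := by
  rcases hs.eq_bot_or_eq_top_of_normal _ (inferInstance : (Subgroup.center G).Normal) with h1 | h1
  · exact h1
  · exfalso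
    apply h
    have : b ∈ Subgroup.center G := by rw [h1]; exact Subgroup.mem_top b
    exact Subgroup.mem_center_iff.1 this a

/-- in the quotient by a subgroup of index two adjacent involutions agree -/
theorem idx2_adj {L : Subgroup G} (hL : L.index = 2) {a b : G} (h : (a * b) ^ 3 = 1) : a ∈ L ↔ b ∈ L := by
  have h1 : (a * b) ^ 3 ∈ L := by rw [h]; exact L.one_mem
  have h2 : (a * b) ^ 3 = (a * b) ^ 2 * (a * b) := pow_succ _ _
  have h3 : (a * b) ^ 2 ∈ L := Subgroup.sq_mem_of_index_two hL _
  rw [h2, Subgroup.mul_mem_iff_of_index_two hL] at h1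
  rw [Subgroup.mul_mem_iff_of_index_two hL] at h1
  exact h1.1 h3

end Cfsg.Agent.H26.Sp
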