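import Cfsg.Agent.H8_Act5
import Cfsg.Agent.H26_Sp1

/-! Glue between the network library and the abstract lemmas of `H26_Sp1`. -/

set_option autoImplicit false

namespace Cfsg.Agent.H26.Sp

open Cfsg H8.CE H8.Net H8.Act H8.Act2

variable {G : Type*} [Group G] {n k : ℕ} {φ : G →* Equiv.Perm (Fin n)} {x : ℕ → G} {L : List Nt}

theorem phi_inv_ev (hc : Compat φ x L) {w : List ℕ} (hw : ∀ y ∈ w, y < 16) (i j : Fin n) (h : tr L w i = j) :
    φ (ev x w)⁻¹ i = j := by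
  apply Fin.ext
  rw [map_inv, compat_ev hc w hw i, h]

theorem dec_of (hs : sysOk L n = true) (hc : Compat φ x L) {l : List ℕ} (hl : ∀ y ∈ l, y < 16) (hn0 : 0 < n)
    (hfix : fixP L l [nat_lit 0] = true) {S : Subgroup G} (hS : S = Subgroup.closure (x '' {y | y ∈ l}))
    (hst : ∀ g, g ∈ S ↔ φ g ⟨0, hn0⟩ = ⟨0, hn0⟩) {w : List ℕ} (hw : ∀ y ∈ w, y < 16) {r a b : ℕ}
    (hr : reachIv L l r a a b = true) (hw0 : tr L w 0 = a) (hab : a ≤ b) (han : a < n) (g : G)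
    (h1 : a ≤ ((φ g ⟨0, hn0⟩ : Fin n) : ℕ)) (h2 : ((φ g ⟨0, hn0⟩ : Fin n) : ℕ) < b) :
    ∃ h ∈ S, ∃ h' ∈ S, g = h * (ev x w)⁻¹ * h' := by
  obtain ⟨h, hh, -, hh2⟩ := suborb_of hs hc hl hfix hn0 hab han hr (φ g ⟨0, hn0⟩) h1 h2
  refine ⟨h, hS ▸ hh, (h * (ev x w)⁻¹)⁻¹ * g, ?_, by group⟩
  rw [hst, map_mul, map_inv, Equiv.Perm.mul_apply, Equiv.Perm.inv_eq_iff_eq, map_mul, Equiv.Perm.mul_apply]
  rw [phi_inv_ev hc hw ⟨0, hn0⟩ ⟨a, han⟩ hw0, hh2]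

theorem ev_ne (hc : Compat φ x L) {u w : List ℕ} (hu : ∀ y ∈ u, y < 16) (hw : ∀ y ∈ w, y < 16) (i : ℕ) (hi : i < n)
    (h : tr L u i ≠ tr L w i) : ev x u ≠ ev x w := by
  intro he
  apply h
  have h1 := compat_ev hc u hu ⟨i, hi⟩
  have h2 := compat_ev hc w hw ⟨i, hi⟩
  rw [← h1, ← h2, he]

theorem lt16_of {w : List ℕ} (h : (w.all fun y => Nat.blt y 16) = true) : ∀ y ∈ w, y < 16 := by
  intro y hy
  rw [List.all_eq_true] at h
  exact blt_eq.1 (h y hy)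

/-- equality of words in the group from the networks -/
theorem evq (hc : Compat φ x L) (hinj : Function.Injective φ) (hs : sysOk L n = true) (hn : n ≤ 2 ^ k) {u w : List ℕ}
    (hu : (u.all fun y => Nat.blt y 16) = true) (hw : (w.all fun y => Nat.blt y 16) = true)
    (he : eqW L n k u w = true) : ev x u = ev x w :=
  ev_eq_of_inj hc hinj hs hn (lt16_of hu) (lt16_of hw) he

end Cfsg.Agent.H26.Sp
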