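import Cfsg.Agent.H8_Fi22A
import Cfsg.Agent.H26_Sp2

/-! Checks of words in `Fi22`. -/

set_option autoImplicit false
set_option maxRecDepth 100000

namespace Cfsg.Agent.H26.SpFi22

open H8.CE H8.Net H8.Act

theorem w34 : eqW H8.Fi22A.L 3510 12 (powW [3, 4] 3) [] = true := by decide +kernel
theorem w45 : eqW H8.Fi22A.L 3510 12 (powW [4, 5] 3) [] = true := by decide +kernel
theorem w56 : eqW H8.Fi22A.L 3510 12 (powW [5, 6] 3) [] = true := by decide +kernel
theorem w67 : eqW H8.Fi22A.L 3510 12 (powW [6, 7] 3) [] = true := by decide +kernel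
theorem w48 : eqW H8.Fi22A.L 3510 12 (powW [4, 8] 3) [] = true := by decide +kernel
theorem w89 : eqW H8.Fi22A.L 3510 12 (powW [8, 9] 3) [] = true := by decide +kernel
theorem w106 : eqW H8.Fi22A.L 3510 12 (powW [10, 6] 3) [] = true := by decide +kernel
theorem w9 : eqW H8.Fi22A.L 3510 12 (powW [3, 4, 5, 6, 7, 8, 9] 9) [] = true := by decide +kernel
theorem w1x : eqW H8.Fi22A.L 3510 12 (powW [3, 4, 5, 6, 7, 9, 10] 9) [1] = true := by decide +kernel
theorem w11 : eqW H8.Fi22A.L 3510 12 [11] [10] = true := by decide +kernel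
theorem wsq : eqW H8.Fi22A.L 3510 12 [1, 1] [] = true := by decide +kernel
theorem c3 : eqW H8.Fi22A.L 3510 12 [3, 1] [1, 3] = true := by decide +kernel
theorem c4 : eqW H8.Fi22A.L 3510 12 [4, 1] [1, 4] = true := by decide +kernel
theorem c5 : eqW H8.Fi22A.L 3510 12 [5, 1] [1, 5] = true := by decide +kernel
theorem c6 : eqW H8.Fi22A.L 3510 12 [6, 1] [1, 6] = true := by decide +kernel
theorem c7 : eqW H8.Fi22A.L 3510 12 [7, 1] [1, 7] = true := by decide +kernel
theorem c8 : eqW H8.Fi22A.L 3510 12 [8, 1] [1, 8] = true := by decide +kernel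
theorem c9 : eqW H8.Fi22A.L 3510 12 [9, 1] [1, 9] = true := by decide +kernel
theorem c10 : eqW H8.Fi22A.L 3510 12 [10, 1] [1, 10] = true := by decide +kernel
theorem c11 : eqW H8.Fi22A.L 3510 12 [11, 1] [1, 11] = true := by decide +kernel

end Cfsg.Agent.H26.SpFi22
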