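import Cfsg.Agent.H26_SpFi22U
import Cfsg.Agent.H26_SpFi22E

/-! `Fi22`: the 3-transposition class and the double cover of the six-dimensional unitary group. -/

set_option autoImplicit false
set_option maxRecDepth 100000

namespace Cfsg.Agent.H26.SpFi22

open Cfsg H8.CE H8.Net H8.Act H8.Act2 H8.Act3 H8.Fi22M H26.Sp Cfsg.Spor

/-! ### The double cover -/

/-- elements of the point stabiliser -/
noncomputable abbrev u (y : ℕ) : Subgroup.closure (x '' {y | y ∈ l9}) := xS x l9 y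

theorem eqv {u w : List ℕ} (hu : (u.all fun y => Nat.blt y 16) = true) (hw : (w.all fun y => Nat.blt y 16) = true)
    (he : eqW H8.Fi22A.L 3510 12 u w = true) : ev x u = ev x w :=
  @evq _ _ 3510 12 _ _ _ compat main.2 H8.Fi22A.sys hn u w hu hw he

theorem evu {w w' : List ℕ} (h : ev x w = ev x w') (hw : (w.all fun y => l9.contains y) = true)
    (hw' : (w'.all fun y => l9.contains y) = true) : ev u w = ev u w' := by
  have key : ∀ w : List ℕ, (w.all fun y => l9.contains y) = true →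
      ((ev u w : Subgroup.closure (x '' {y | y ∈ l9})) : Fi22) = ev x w := by
    intro w
    induction w with
    | nil => intro _; rfl
    | cons y w ih =>
      intro hw
      rw [List.all_cons, Bool.and_eq_true] at hw
      rw [ev_cons, ev_cons, Subgroup.coe_mul, ih hw.2, xS_coe (by rw [← List.contains_iff_mem]; exact hw.1)]
  apply Subtype.ext
  rw [key w hw, key w' hw', h]

theorem u_adj {a b : ℕ} (h : eqW H8.Fi22A.L 3510 12 (powW [a, b] 3) [] = true) (ha : l9.contains a = true)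
    (hb : l9.contains b = true) (h1 : ((powW [a, b] 3).all fun y => Nat.blt y 16) = true)
    (h2 : ((powW [a, b] 3).all fun y => l9.contains y) = true) : (u a * u b) ^ 3 = 1 := by
  have h3 := evu (eqv h1 rfl h) h2 rfl
  rw [ev_powW, ev_nil] at h3
  simpa only [ev_cons, ev_nil, mul_one] using h3

theorem pow9 {X : Type*} [Group X] {L : Subgroup X} (hL : L.index = 2) (g : X) : g ^ 9 ∈ L ↔ g ∈ L := by
  have h2 : g ^ 9 = (g ^ 4) ^ 2 * g := by rw [← pow_mul, ← pow_succ]
  rw [h2, Subgroup.mul_mem_iff_of_index_two hL]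
  exact ⟨fun h => h.1 (Subgroup.sq_mem_of_index_two hL _), fun h => ⟨fun _ => h, fun _ => Subgroup.sq_mem_of_index_two hL _⟩⟩

theorem no2 (L : Subgroup (Subgroup.closure (x '' {y | y ∈ l9}))) : L.index ≠ 2 := by
  intro hL
  have h34 := idx2_adj hL (u_adj w34 (by decide) (by decide) (by decide) (by decide))
  have h45 := idx2_adj hL (u_adj w45 (by decide) (by decide) (by decide) (by decide))
  have h56 := idx2_adj hL (u_adj w56 (by decide) (by decide) (by decide) (by decide))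
  have h67 := idx2_adj hL (u_adj w67 (by decide) (by decide) (by decide) (by decide))
  have h48 := idx2_adj hL (u_adj w48 (by decide) (by decide) (by decide) (by decide))
  have h89 := idx2_adj hL (u_adj w89 (by decide) (by decide) (by decide) (by decide))
  have h106 := idx2_adj hL (u_adj w106 (by decide) (by decide) (by decide) (by decide))
  have e9 : (u 3 * (u 4 * (u 5 * (u 6 * (u 7 * (u 8 * u 9)))))) ^ 9 = 1 := by
    have h3 := evu (eqv (by decide +kernel) rfl w9) (by decide +kernel) rfl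
    rw [ev_powW, ev_nil] at h3
    simpa only [ev_cons, ev_nil, mul_one] using h3
  have e1 : (u 3 * (u 4 * (u 5 * (u 6 * (u 7 * (u 9 * u 10)))))) ^ 9 = u 1 := by
    have h3 := evu (eqv (by decide +kernel) (by decide) w1x) (by decide +kernel) (by decide)
    rw [ev_powW] at h3
    simpa only [ev_cons, ev_nil, mul_one] using h3
  have h1 : (u 3 * (u 4 * (u 5 * (u 6 * (u 7 * (u 8 * u 9)))))) ^ 9 ∈ L := by rw [e9]; exact L.one_mem
  rw [pow9 hL] at h1
  have h3 : u 3 ∈ L := by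
    by_contra h3
    have h4 : u 4 ∉ L := fun h => h3 (h34.2 h)
    have h5 : u 5 ∉ L := fun h => h4 (h45.2 h)
    have h6 : u 6 ∉ L := fun h => h5 (h56.2 h)
    have h7 : u 7 ∉ L := fun h => h6 (h67.2 h)
    have h8 : u 8 ∉ L := fun h => h4 (h48.2 h)
    have h9 : u 9 ∉ L := fun h => h8 (h89.2 h)
    simp only [Subgroup.mul_mem_iff_of_index_two hL, h3, h4, h5, h6, h7, h8, h9, iff_false, iff_true, not_true,
      not_false_iff, true_iff, false_iff] at h1
  have h4 := h34.1 h3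
  have h5 := h45.1 h4
  have h6 := h56.1 h5
  have h7 := h67.1 h6
  have h8 := h48.1 h4
  have h9 := h89.1 h8
  have h10 := h106.2 h6
  have h11 : u 11 = u 10 := by
    have h := evu (eqv (by decide) (by decide) w11) (by decide) (by decide)
    simpa only [ev_cons, ev_nil, mul_one] using h
  have hx : u 1 ∈ L := by
    rw [← e1]
    exact L.pow_mem (L.mul_mem h3 (L.mul_mem h4 (L.mul_mem h5 (L.mul_mem h6 (L.mul_mem h7 (L.mul_mem h9 h10)))))) 9
  have h2 : L = ⊤ := by
    rw [eq_top_iff, ← xS_top (x := x) l9, Subgroup.closure_le]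
    rintro _ ⟨y, hy, rfl⟩
    simp only [l9, Set.mem_ofPred_eq, List.mem_cons, List.not_mem_nil, or_false] at hy
    rcases hy with rfl | rfl | rfl | rfl | rfl | rfl | rfl | rfl | rfl | rfl
    exacts [hx, h3, h4, h5, h6, h7, h8, h9, h10, by
      show u 11 ∈ L
      rw [h11]
      exact h10]
  rw [h2, Subgroup.index_top] at hL
  exact absurd hL (by decide)

theorem u_sq : u 1 * u 1 = 1 := by
  have h := evu (eqv (by decide) (by decide) wsq) (by decide) (by decide)
  simpa only [ev_cons, ev_nil, mul_one] using h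

theorem x_sq : x 1 * x 1 = 1 := by
  have h := eqv (by decide) (by decide) wsq
  simpa only [ev_cons, ev_nil, mul_one] using h

theorem x_ne : x 1 ≠ 1 := by
  have h5 := @ev_ne _ _ 3510 _ _ _ compat [1] [] (by decide) (by simp) 3000 (by decide) (by decide +kernel)
  rwa [ev_cons, ev_nil, mul_one] at h5

theorem u_ne : u 1 ≠ 1 := by
  intro h
  apply x_ne
  have h5 := congrArg Subtype.val h
  rwa [xS_coe (by decide)] at h5

theorem x_comm {y : ℕ} (h : eqW H8.Fi22A.L 3510 12 [y, 1] [1, y] = true) (hy : Nat.blt y 16 = true) :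
    x y * x 1 = x 1 * x y := by
  have h1 := eqv (by simp [hy]) (by simp [hy]) h
  simpa only [ev_cons, ev_nil, mul_one] using h1

theorem z_cent : ∀ h ∈ Hl l9, h * x 1 = x 1 * h := by
  have h1 : Hl l9 ≤ Subgroup.centralizer ({x 1} : Set Fi22) := by
    rw [Hl, Subgroup.closure_le]
    rintro _ ⟨y, hy, rfl⟩
    rw [SetLike.mem_coe, Subgroup.mem_centralizer_singleton_iff]
    simp only [l9, Set.mem_ofPred_eq, List.mem_cons, List.not_mem_nil, or_false] at hy
    rcases hy with rfl | rfl | rfl | rfl | rfl | rfl | rfl | rfl | rfl | rfl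
    exacts [rfl, x_comm c3 rfl, x_comm c4 rfl, x_comm c5 rfl, x_comm c6 rfl, x_comm c7 rfl,
      x_comm c8 rfl, x_comm c9 rfl, x_comm c10 rfl, x_comm c11 rfl]
  intro h hh
  exact Subgroup.mem_centralizer_singleton_iff.1 (h1 hh)

theorem u_comm (h : Subgroup.closure (x '' {y | y ∈ l9})) : h * u 1 = u 1 * h := by
  apply Subtype.ext
  rw [Subgroup.coe_mul, Subgroup.coe_mul, xS_coe (by decide)]
  exact z_cent h h.2

theorem nsdc : IsNonsplitDoubleCover (Subgroup.closure (x '' {y | y ∈ l9})) (PSU 6 F4 2) := by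
  obtain ⟨F, hF⟩ := exists_F
  haveI : Finite (PSU 6 F4 2) := Nat.finite_of_card_ne_zero (by rw [card_PSU]; norm_num)
  refine nsdc_of_hom psu_center (u 1) u_sq u_ne u_comm F (fun h hh => ker_psi h ((hF h).1 hh)) ((hF _).2 psi_one) ?_ no2
  rw [cardH, card_PSU]

/-! ### The class -/

theorem r1 : reachIv H8.Fi22A.L l9 30 1 1 694 = true := by decide +kernel
theorem r2 : reachIv H8.Fi22A.L l9 30 694 694 3510 = true := by decide +kernel
theorem t1 : tr H8.Fi22A.L [2, 1, 3, 2] 0 = 1 := by decide +kernel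
theorem t2 : tr H8.Fi22A.L [2] 0 = 694 := by decide +kernel

/-- the set of double coset representatives -/
noncomputable def J : Set Fi22 := {(ev x [2, 1, 3, 2])⁻¹, (ev x [2])⁻¹}

theorem hdec (g : Fi22) : g ∈ Hl l9 ∨ ∃ u ∈ J, ∃ h ∈ Hl l9, ∃ h' ∈ Hl l9, g = h * u * h' := by
  by_cases h0 : ((phi g ⟨0, hn0⟩ : Fin 3510) : ℕ) = 0
  · left
    rw [H_index.2]
    exact Fin.ext h0
  · right
    have hlt := (phi g ⟨0, hn0⟩ : Fin 3510).2
    by_cases h1 : ((phi g ⟨0, hn0⟩ : Fin 3510) : ℕ) < 694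
    · exact ⟨_, Or.inl rfl, @dec_of _ _ 3510 phi x H8.Fi22A.L H8.Fi22A.sys compat l9 (by decide) hn0 H8.Fi22A.hfix (Hl l9) rfl
        H_index.2 [2, 1, 3, 2] (by decide) 30 1 694 r1 t1 (by decide) (by decide) g (by omega) h1⟩
    · exact ⟨_, Or.inr rfl, @dec_of _ _ 3510 phi x H8.Fi22A.L H8.Fi22A.sys compat l9 (by decide) hn0 H8.Fi22A.hfix (Hl l9) rfl
        H_index.2 [2] (by decide) 30 694 3510 r2 t2 (by decide) (by decide) g (by omega) hlt⟩

theorem inv_of {u u' : List ℕ} (hu : (u.all fun y => Nat.blt y 16) = true) (hu' : (u'.all fun y => Nat.blt y 16) = true)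
    (h : eqW H8.Fi22A.L 3510 12 (u' ++ u) [] = true) : (ev x u)⁻¹ = ev x u' := by
  have h1 := eqv (u := u' ++ u) (w := []) (by rw [List.all_append, hu', hu]; rfl) rfl h
  rw [ev_append, ev_nil] at h1
  exact (eq_inv_of_mul_eq_one_left h1).symm

theorem pw (u u' : List ℕ) (m : ℕ) (hu : (u.all fun y => Nat.blt y 16) = true) (hu' : (u'.all fun y => Nat.blt y 16) = true)
    (h : eqW H8.Fi22A.L 3510 12 (powW ([1] ++ (u' ++ ([1] ++ u))) m) [] = true)
    (h' : eqW H8.Fi22A.L 3510 12 (u' ++ u) [] = true) :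
    (x 1 * ((ev x u)⁻¹ * x 1 * ((ev x u)⁻¹)⁻¹)) ^ m = 1 := by
  have h1 : ((powW ([1] ++ (u' ++ ([1] ++ u))) m).all fun y => Nat.blt y 16) = true := by
    rw [List.all_eq_true]
    intro y hy
    apply blt_eq.2
    refine powW_lt ?_ m y hy
    apply lt16_of
    rw [List.all_append, List.all_append, List.all_append, hu, hu']
    rfl
  have h2 := eqv h1 rfl h
  rw [ev_powW, ev_append, ev_append, ev_append, ev_nil] at h2
  rw [inv_of hu hu' h']
  have h3 : (ev x u')⁻¹ = ev x u := by rw [← inv_of hu hu' h', inv_inv]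
  have h4 : ev x [1] = x 1 := by rw [ev_cons, ev_nil, mul_one]
  rw [h4] at h2
  rw [h3, mul_assoc (ev x u')]
  exact h2

theorem cne (u u' : List ℕ) (hu : (u.all fun y => Nat.blt y 16) = true) (hu' : (u'.all fun y => Nat.blt y 16) = true)
    (h' : eqW H8.Fi22A.L 3510 12 (u' ++ u) [] = true) (i : ℕ) (hi : i < 3510)
    (h : tr H8.Fi22A.L (u' ++ ([1] ++ u)) i ≠ tr H8.Fi22A.L [1] i) :
    (ev x u)⁻¹ * x 1 * ((ev x u)⁻¹)⁻¹ ≠ x 1 := by
  have h1 : ((u' ++ ([1] ++ u)).all fun y => Nat.blt y 16) = true := by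
    rw [List.all_append, List.all_append, hu, hu']; rfl
  have h2 := @ev_ne _ _ 3510 _ _ _ compat (u' ++ ([1] ++ u)) [1] (lt16_of h1) (by decide) i hi h
  have h4 : ev x [1] = x 1 := by rw [ev_cons, ev_nil, mul_one]
  rw [ev_append, ev_append, h4] at h2
  have h3 : (ev x u')⁻¹ = ev x u := by rw [← inv_of hu hu' h', inv_inv]
  rw [inv_of hu hu' h', h3, mul_assoc]
  exact h2

theorem e1 : eqW H8.Fi22A.L 3510 12 (powW ([1] ++ ([2, 3, 1, 2] ++ ([1] ++ [2, 1, 3, 2]))) 2) [] = true := by decide +kernel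
theorem e1' : eqW H8.Fi22A.L 3510 12 ([2, 3, 1, 2] ++ [2, 1, 3, 2]) [] = true := by decide +kernel
theorem e2 : eqW H8.Fi22A.L 3510 12 (powW ([1] ++ ([2] ++ ([1] ++ [2]))) 3) [] = true := by decide +kernel
theorem e2' : eqW H8.Fi22A.L 3510 12 ([2] ++ [2]) [] = true := by decide +kernel

theorem n2' : tr H8.Fi22A.L ([2] ++ ([1] ++ [2])) 0 ≠ tr H8.Fi22A.L [1] 0 := by decide +kernel
theorem n1' : tr H8.Fi22A.L ([2, 3, 1, 2] ++ ([1] ++ [2, 1, 3, 2])) 694 ≠ tr H8.Fi22A.L [1] 694 := by decide +kernel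

theorem hJ : ∀ u ∈ J, ((x 1 * (u * x 1 * u⁻¹)) ^ 2 = 1 ∨ (x 1 * (u * x 1 * u⁻¹)) ^ 3 = 1) ∧ u * x 1 * u⁻¹ ≠ x 1 := by
  rintro _ (rfl | rfl)
  · exact ⟨Or.inl (pw [2, 1, 3, 2] [2, 3, 1, 2] 2 rfl rfl e1 e1'),
      cne [2, 1, 3, 2] [2, 3, 1, 2] rfl rfl e1' 694 (by decide) n1'⟩
  · exact ⟨Or.inr (pw [2] [2] 3 rfl rfl e2 e2'), cne [2] [2] rfl rfl e2' 0 (by decide) n2'⟩

theorem main3 : Subgroup.centralizer ({x 1} : Set Fi22) = Hl l9 ∧ IsThreeTranspositionClass (conjugatesOf (x 1)) ∧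
    Nat.card (conjugatesOf (x 1)) = (Hl l9).index :=
  three_transp simple (x 1) x_ne x_sq (Hl l9) z_cent J hdec hJ

theorem S1684 : IsNonsplitDoubleCover (Hl [1, 3, 4, 5, 6, 7, 8, 9, 10]) (PSU 6 F4 2) := by
  rw [Hl_eq]
  exact nsdc

theorem S0471 : ∃ (G : Type) (_ : Group G) (_ : Finite G), Cfsg.IsFi22 G ∧ ∃ D : Set G,
    Cfsg.IsThreeTranspositionClass D ∧ Nat.card D = 3510 ∧ ∀ d ∈ D, ∃ (F : Type) (_ : Field F) (_ : Fintype F),
      Fintype.card F = 4 ∧ Cfsg.IsNonsplitDoubleCover (Subgroup.centralizer ({d} : Set G)) (Cfsg.PSU 6 F 2) := by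
  refine ⟨Fi22, inferInstance, inferInstance, isX, conjugatesOf (x 1), main3.2.1, by rw [main3.2.2, H_index.1], ?_⟩
  intro d hd
  refine ⟨F4, inferInstance, inferInstance, F4.card, ?_⟩
  obtain ⟨e⟩ := centralizer_conj hd
  refine nsdc_congr ((MulEquiv.subgroupCongr main3.1.symm).trans e) nsdc

end Cfsg.Agent.H26.SpFi22
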