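import Cfsg.Agent.H26_SpLab
import Cfsg.Agent.H26_Sp1

/-! Identification with projective groups. -/

set_option autoImplicit false

namespace Cfsg.Agent.H26.Sp

open Cfsg

section lab

open Matrix

variable {H S X ι K : Type*} [Group H] [Group S] [Fintype ι] [DecidableEq ι] [Field K]
variable {ψ : H →* Equiv.Perm X} {ρ : S →* Matrix ι ι K} {v : X → ι → K}

theorem lab_snd (hv : ∀ i j, (∃ c : K, c ≠ 0 ∧ v i = c • v j) → i = j) {h : H} :
    (h, (1 : S)) ∈ labP ψ ρ v ↔ ψ h = 1 := by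
  constructor
  · intro h1
    ext i
    obtain ⟨c, hc, e⟩ := h1 i
    rw [map_one, one_mulVec] at e
    exact (hv i _ ⟨c, hc, e⟩).symm
  · intro h1 i
    refine ⟨1, one_ne_zero, ?_⟩
    show ρ 1 *ᵥ v i = (1 : K) • v (ψ h i)
    rw [h1, map_one, one_mulVec, one_smul]
    rfl

/-- the homomorphism to the projective group -/
theorem lab_hom (hc1 : ∀ A : S, ((1 : H), A) ∈ labP ψ ρ v → A ∈ Subgroup.center S)
    (hc2 : ∀ A ∈ Subgroup.center S, ((1 : H), A) ∈ labP ψ ρ v)
    (hv : ∀ i j, (∃ c : K, c ≠ 0 ∧ v i = c • v j) → i = j) :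
    ∃ F : labN ψ ρ v →* S ⧸ Subgroup.center S, ∀ h : labN ψ ρ v, F h = 1 ↔ ψ h = 1 := by
  let R : Subgroup (labN ψ ρ v × (S ⧸ Subgroup.center S)) :=
    { carrier := {p | ∃ A : S, ((p.1 : H), A) ∈ labP ψ ρ v ∧ (A : S ⧸ Subgroup.center S) = p.2}
      one_mem' := ⟨1, (labP ψ ρ v).one_mem, rfl⟩
      mul_mem' := by
        rintro ⟨h, t⟩ ⟨h', t'⟩ ⟨A, hA, rfl⟩ ⟨A', hA', rfl⟩
        exact ⟨A * A', (labP ψ ρ v).mul_mem hA hA', rfl⟩
      inv_mem' := by
        rintro ⟨h, t⟩ ⟨A, hA, rfl⟩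
        exact ⟨A⁻¹, (labP ψ ρ v).inv_mem hA, rfl⟩ }
  obtain ⟨F, hF⟩ := graph_hom R Set.univ Subgroup.closure_univ (by
      rintro h -
      obtain ⟨A, hA⟩ := mem_labN.1 h.2
      exact ⟨(A : S ⧸ Subgroup.center S), A, hA, rfl⟩) (by
      rintro t ⟨A, hA, rfl⟩
      exact (QuotientGroup.eq_one_iff A).2 (hc1 A hA))
  refine ⟨F, fun h => ?_⟩
  obtain ⟨A, hA, hA2⟩ := hF h
  constructor
  · intro h1
    have h2 : A ∈ Subgroup.center S := (QuotientGroup.eq_one_iff A).1 (hA2.trans h1)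
    have h3 := (labP ψ ρ v).mul_mem hA ((labP ψ ρ v).inv_mem (hc2 A h2))
    have h4 : ((h : H), A) * ((1 : H), A)⁻¹ = ((h : H), (1 : S)) := by ext <;> simp
    rw [h4] at h3
    exact (lab_snd hv).1 h3
  · intro h1
    have h3 := (labP ψ ρ v).mul_mem ((labP ψ ρ v).inv_mem ((lab_snd (S := S) (ρ := ρ) hv).2 h1)) hA
    have h4 : ((h : H), (1 : S))⁻¹ * ((h : H), A) = ((1 : H), A) := by ext <;> simp
    rw [h4] at h3
    exact hA2.symm.trans ((QuotientGroup.eq_one_iff A).2 (hc1 A h3))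

/-- the homomorphism to the projective group on the whole group -/
theorem lab_hom_top (hc1 : ∀ A : S, ((1 : H), A) ∈ labP ψ ρ v → A ∈ Subgroup.center S)
    (hc2 : ∀ A ∈ Subgroup.center S, ((1 : H), A) ∈ labP ψ ρ v)
    (hv : ∀ i j, (∃ c : K, c ≠ 0 ∧ v i = c • v j) → i = j) (hN : labN ψ ρ v = ⊤) :
    ∃ F : H →* S ⧸ Subgroup.center S, ∀ h : H, F h = 1 ↔ ψ h = 1 := by
  obtain ⟨F, hF⟩ := lab_hom hc1 hc2 hv
  refine ⟨F.comp ((MonoidHom.id H).codRestrict (labN ψ ρ v) (fun h => by rw [hN]; exact Subgroup.mem_top _)), fun h => ?_⟩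
  exact hF ⟨h, by rw [hN]; exact Subgroup.mem_top _⟩

end lab

section ns

variable {H K : Type*} [Group H] [Group K]

/-- a criterion for non-split double covers -/
theorem nsdc_of_hom [Finite H] [Finite K] (hKc : Subgroup.center K = ⊥) (z : H) (hz : z * z = 1)
    (hz1 : z ≠ 1) (hzc : ∀ h : H, h * z = z * h)
    (f : H →* K) (hfz : ∀ h, f h = 1 → h = 1 ∨ h = z) (hfz' : f z = 1) (hcard : Nat.card H = 2 * Nat.card K)
    (hno : ∀ L : Subgroup H, L.index ≠ 2) : IsNonsplitDoubleCover H K := by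
  have hord : orderOf z = 2 := orderOf_eq_prime (by rw [pow_two]; exact hz) hz1
  have hker : f.ker = Subgroup.zpowers z := by
    apply le_antisymm
    · intro h hh
      rcases hfz h hh with rfl | rfl
      · exact Subgroup.one_mem _
      · exact Subgroup.mem_zpowers _
    · rw [Subgroup.zpowers_le]
      exact hfz'
  have hZ2 : Nat.card f.ker = 2 := by rw [hker, Nat.card_zpowers, hord]
  have hsurj : Function.Surjective f := by
    have h1 := Subgroup.card_mul_index f.ker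
    rw [hZ2, hcard, Subgroup.index_ker] at h1
    have h2 : Nat.card f.range = Nat.card K := Nat.eq_of_mul_eq_mul_left (by decide) h1
    rw [← MonoidHom.range_eq_top]
    exact Subgroup.eq_top_of_card_eq _ h2
  have hc : Subgroup.center H = f.ker := by
    apply le_antisymm
    · intro c hc
      have h1 : f c ∈ Subgroup.center K := by
        rw [Subgroup.mem_center_iff]
        intro k
        obtain ⟨h, rfl⟩ := hsurj k
        rw [← map_mul, ← map_mul, Subgroup.mem_center_iff.1 hc h]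
      rw [hKc, Subgroup.mem_bot] at h1
      exact h1
    · rw [hker, Subgroup.zpowers_le, Subgroup.mem_center_iff]
      exact hzc
  refine ⟨by rw [hc, hZ2], ⟨(QuotientGroup.quotientMulEquivOfEq hc).trans
    (QuotientGroup.quotientKerEquivOfSurjective f hsurj)⟩, ?_⟩
  intro L hL
  apply hno L
  have h1 := hL.index_eq_card
  rw [h1, hc, hZ2]

end ns

end Cfsg.Agent.H26.Sp
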