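import Cfsg.Agent.H26_SpFi22N
import Cfsg.Agent.H26_SpLab2
import Cfsg.Agent.H26_SU6
import Cfsg.Agent.S0280
import Cfsg.Agent.S0283

/-! The point stabilizer of `Fi22` on 3510 points. -/

set_option autoImplicit false
set_option maxRecDepth 100000

namespace Cfsg.Agent.H26.SpFi22

open Cfsg H8.CE H8.Net H8.Act H8.Fi22M H26.Sp H26.F4N H26.SU6 Matrix

/-- the vector of a point -/
def vv (i : Fin 693) : Fin 6 → F4 := vc vN i

theorem hic22 : ∀ y ∈ l9, il H8.Fi22R.ic y ∈ l9 ∧ x (il H8.Fi22R.ic y) = (x y)⁻¹ := by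
  have h1 : ∀ y ∈ l9, il H8.Fi22R.ic y ∈ l9 := by decide +kernel
  have h2 : ∀ y ∈ l9, y < 16 := by decide
  exact fun y hy => ⟨h1 y hy, hic y (h2 y hy)⟩

theorem bet_surj (j : ℕ) (hj : j < 693) : ∃ i, 1 ≤ i ∧ i < 694 ∧ i < 3510 ∧ bet i = j :=
  ⟨j + 1, by omega, by omega, by omega, Nat.mod_eq_of_lt hj⟩

theorem hq : quotB H8.Fi22A.L L l9 bet 1 694 = true := by
  have h : ∀ y ∈ l9, quotB H8.Fi22A.L L [y] bet 1 694 = true := by
    intro y hy
    simp only [List.mem_cons, List.not_mem_nil, or_false] at hy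
    rcases hy with rfl | rfl | rfl | rfl | rfl | rfl | rfl | rfl | rfl | rfl
    exacts [hq1, hq3, hq4, hq5, hq6, hq7, hq8, hq9, hq10, hq11]
  rw [quotB, List.all_eq_true]
  intro y hy
  have h1 := h y hy
  rw [quotB, List.all_eq_true] at h1
  exact h1 y (by simp)

theorem exists_psi : ∃ ψ : Subgroup.closure (x '' {y | y ∈ l9}) →* Equiv.Perm (Fin 693),
      (∀ y ∈ l9, ∀ i : Fin 693, ((((ψ (xS x l9 y))⁻¹ : Equiv.Perm (Fin 693)) i : Fin 693) : ℕ) = (net L y).pos i) ∧
      ∀ h : Subgroup.closure (x '' {y | y ∈ l9}), ∀ i : Fin 3510, 1 ≤ (i : ℕ) → (i : ℕ) < 694 →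
        bet ((phi (h : Spor.Fi22) i : Fin 3510) : ℕ) = ((ψ h ⟨bet i, bet_lt i⟩ : Fin 693) : ℕ) :=
  exists_quot (k := 10) (ic := H8.Fi22R.ic) compat sys (by decide) inv_ok (by decide) hic22 bet_lt bet_surj hq

/-- the action on 693 points -/
noncomputable def psi : Subgroup.closure (x '' {y | y ∈ l9}) →* Equiv.Perm (Fin 693) := exists_psi.choose

theorem compatS : Compat psi (xS x l9) L :=
  compat_quot exists_psi.choose_spec.1 (by
    intro y hy
    interval_cases y
    · exact Or.inr rfl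
    · exact Or.inl (by decide)
    · exact Or.inr rfl
    · exact Or.inl (by decide)
    · exact Or.inl (by decide)
    · exact Or.inl (by decide)
    · exact Or.inl (by decide)
    · exact Or.inl (by decide)
    · exact Or.inl (by decide)
    · exact Or.inl (by decide)
    · exact Or.inl (by decide)
    · exact Or.inl (by decide)
    · exact Or.inr rfl
    · exact Or.inr rfl
    · exact Or.inr rfl
    · exact Or.inr rfl)

theorem cardH : Nat.card (Subgroup.closure (x '' {y | y ∈ l9})) = 18393661440 := by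
  have h1 := (Subgroup.closure (x '' {y | y ∈ l9})).card_mul_index
  have h2 : (Subgroup.closure (x '' {y | y ∈ l9})).index = 3510 := H_index.1
  rw [h2, main.1] at h1
  exact Nat.eq_of_mul_eq_mul_right (show 0 < 3510 by norm_num) (h1.trans (by norm_num))

/-! ### Labels -/

theorem vv_inj (i j : Fin 693) (h : ∃ c : F4, c ≠ 0 ∧ vv i = c • vv j) : i = j := by
  obtain ⟨c, hc, h⟩ := h
  obtain ⟨c', hc', hcc, hk⟩ := prop_kN (N := vN) (i := i) (j := j) hc (fun t => congrFun h t)
  have h1 := idx_ok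
  rw [List.all_eq_true] at h1
  have h2 := h1 i (List.mem_range.2 i.2)
  have h3 := h1 j (List.mem_range.2 j.2)
  simp only [Bool.and_eq_true] at h2 h3
  have e1 := Nat.eq_of_beq_eq_true h2.1.1
  rw [hk] at e1
  have hc0 : c' ≠ 0 := by
    rintro rfl
    apply hc
    rw [← hcc]
    rfl
  have e2 : idx (kN vN c' j) = j := by
    interval_cases c'
    · exact absurd rfl hc0
    · exact Nat.eq_of_beq_eq_true h3.1.1
    · exact Nat.eq_of_beq_eq_true h3.1.2
    · exact Nat.eq_of_beq_eq_true h3.2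
  rw [e2] at e1
  exact Fin.ext e1.symm

theorem hf_vc (N M : ℕ) (i j : ℕ) : hf (vc N i) (vc M j) = toF (bN N i M j) := (toF_bN N i M j).symm

theorem vv_iso (i : Fin 693) : hf (vv i) (vv i) = 0 := by
  have h1 := iso_ok
  rw [List.all_eq_true] at h1
  have h2 := Nat.eq_of_beq_eq_true (h1 i (List.mem_range.2 i.2))
  show hf (vc vN i) (vc vN i) = 0
  rw [hf_vc, h2]
  rfl

theorem vv_ne (i : Fin 693) : vv i ≠ 0 := by
  intro h
  have h1 : ∀ j : Fin 693, vv j = 0 → j = i := by
    intro j hj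
    exact vv_inj j i ⟨1, one_ne_zero, by rw [hj, h, smul_zero]⟩
  have h2 : i = 0 ∨ i ≠ 0 := em _
  have h3 : vv 0 ≠ 0 := by
    intro h0
    have h4 := congrFun h0
    have h5 : ¬ ∀ t : Fin 6, vc vN 0 t = 0 := by decide +kernel
    exact h5 h4
  have h4 : vv 1 ≠ 0 := by
    intro h0
    have h4 := congrFun h0
    have h5 : ¬ ∀ t : Fin 6, vc vN 1 t = 0 := by decide +kernel
    exact h5 h4
  obtain ⟨c, hc⟩ : ∃ c : F4, c ≠ 0 := ⟨1, one_ne_zero⟩
  -- the zero vector is proportional to itself only; compare the code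
  have h5 := idx_ok
  rw [List.all_eq_true] at h5
  have h6 := h5 i (List.mem_range.2 i.2)
  simp only [Bool.and_eq_true] at h6
  have h7 : kN vN 1 i = 0 := by
    have hz : ∀ t : Fin 6, cdN vN i t = 0 := by
      intro t
      apply toF_inj _ (cdN_lt _ _ _) 0 (by decide)
      exact congrFun h t
    have z0 := hz 0
    have z1 := hz 1
    have z2 := hz 2
    have z3 := hz 3
    have z4 := hz 4
    have z5 := hz 5
    unfold kN
    rw [show cdN vN i 0 = 0 from z0, show cdN vN i 1 = 0 from z1, show cdN vN i 2 = 0 from z2,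
      show cdN vN i 3 = 0 from z3, show cdN vN i 4 = 0 from z4, show cdN vN i 5 = 0 from z5]
    decide
  have h8 := Nat.eq_of_beq_eq_true h6.1.1
  rw [h7] at h8
  have h9 : idx 0 = 0 := by decide +kernel
  rw [h9] at h8
  have h10 : i = 0 := Fin.ext h8.symm
  rw [h10] at h
  exact h3 h

/-! ### The letters -/

theorem isow {y : ℕ} (hy : y ∈ [3, 4, 5, 6, 7, 8, 9, 10, 11]) : hf (vc wN y) (vc wN y) = 0 := by
  have h1 := isow_ok
  rw [List.all_eq_true] at h1
  rw [hf_vc, Nat.eq_of_beq_eq_true (h1 y hy)]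
  rfl

theorem tvY_ok {y : ℕ} (hy : y ∈ [3, 4, 5, 6, 7, 8, 9, 10, 11]) : tvY y = true := by
  simp only [List.mem_cons, List.not_mem_nil, or_false] at hy
  rcases hy with rfl | rfl | rfl | rfl | rfl | rfl | rfl | rfl | rfl
  exacts [tv3, tv4, tv5, tv6, tv7, tv8, tv9, tv10, tv11]

theorem let_mem {y : ℕ} (hy : y ∈ [3, 4, 5, 6, 7, 8, 9, 10, 11]) :
    (xS x l9 y, tvS (vc wN y) (isow hy)) ∈ labP psi rho vv := by
  have hy16 : y < 16 := by
    have : ∀ y ∈ [3, 4, 5, 6, 7, 8, 9, 10, 11], y < 16 := by decide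
    exact this y hy
  rw [mem_labP]
  intro j
  have h := tvY_ok hy
  rw [tvY, List.all_eq_true] at h
  have h2 := h (psi (xS x l9 y) j : Fin 693) (List.mem_range.2 (Fin.is_lt _))
  have h4 : (net L y).pos ((psi (xS x l9 y) j : Fin 693) : ℕ) = j := by
    rw [← compatS y hy16]
    exact congrArg Fin.val (Equiv.symm_apply_apply _ _)
  rw [h4] at h2
  obtain ⟨c, hc, h3⟩ := tvA_sound h2
  refine ⟨c, hc, ?_⟩
  rw [rho_tvS, tv_mulVec]
  ext t
  exact (h3 t).symm

theorem psi_one : psi (xS x l9 1) = 1 := by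
  rw [← inv_eq_one]
  ext i
  rw [compatS 1 (by decide) i]
  rfl

theorem labN_top : labN psi rho vv = ⊤ := by
  rw [eq_top_iff, ← xS_top (x := x) l9, Subgroup.closure_le]
  rintro _ ⟨y, hy, rfl⟩
  have hy' : y = 1 ∨ y ∈ [3, 4, 5, 6, 7, 8, 9, 10, 11] := by
    have : ∀ y ∈ l9, y = 1 ∨ y ∈ [3, 4, 5, 6, 7, 8, 9, 10, 11] := by decide
    exact this y hy
  rcases hy' with rfl | h
  · exact mem_labN.2 ⟨1, (lab_snd vv_inj).2 psi_one⟩
  · exact mem_labN.2 ⟨_, let_mem h⟩

/-! ### Scalars -/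

theorem wt (s t : Fin 6) (hst : s ≠ t) (l : ℕ) (hl : l = 1 ∨ l = 2) : ∃ i : Fin 693, ∃ m : ℕ, m < 4 ∧ m ≠ 0 ∧
    vv i = toF m • (Pi.single s 1 + toF l • Pi.single t 1) := by
  have h := wt_ok
  rw [List.all_eq_true] at h
  have h1 := h s (List.mem_range.2 s.2)
  rw [List.all_eq_true] at h1
  have h2 := h1 t (List.mem_range.2 t.2)
  rw [Bool.or_eq_true] at h2
  have h3 := h2.resolve_left (fun hh => hst (Fin.ext (Nat.eq_of_beq_eq_true hh)))
  simp only [Bool.and_eq_true] at h3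
  have key : ∀ l : ℕ, (l = 1 ∨ l = 2) → wtB s t l = true → Nat.blt (idx (Nat.add (Nat.pow 4 s) (Nat.mul l (Nat.pow 4 t)))) 693 = true →
      ∃ i : Fin 693, ∃ m : ℕ, m < 4 ∧ m ≠ 0 ∧ vv i = toF m • (Pi.single s 1 + toF l • Pi.single t 1) := by
    intro l hl0 hl1 hl2
    rw [wtB, List.any_eq_true] at hl1
    obtain ⟨m, hm, h4⟩ := hl1
    have hm4 : m < 4 ∧ m ≠ 0 := by
      have : ∀ m ∈ [1, 2, 3], m < 4 ∧ m ≠ 0 := by decide
      exact this m hm
    refine ⟨⟨_, blt_eq.1 hl2⟩, m, hm4.1, hm4.2, ?_⟩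
    rw [List.all_eq_true] at h4
    ext r
    have h5 := h4 r (List.mem_range.2 r.2)
    rw [wtC] at h5
    have h6 := congrArg toF (Nat.eq_of_beq_eq_true h5)
    show toF (cdN vN _ r) = _
    rw [h6]
    have hl4 : l < 4 := by
      rcases hl0 with rfl | rfl <;> decide
    rw [toF_mul m hm4.1 _ (by
      cases Nat.beq r s <;> cases Nat.beq r t
      exacts [show (0 : ℕ) < 4 by decide, hl4, show (1 : ℕ) < 4 by decide, show (1 : ℕ) < 4 by decide])]
    rw [Pi.smul_apply, smul_eq_mul]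
    congr 1
    rw [Pi.add_apply, Pi.smul_apply, smul_eq_mul]
    by_cases hrs : r = s
    · subst hrs
      rw [Nat.beq_refl, Pi.single_eq_same, Pi.single_eq_of_ne hst, mul_zero, add_zero]
      show toF 1 = 1
      decide
    · have e1 : Nat.beq r s = false := by
        apply Bool.eq_false_iff.2
        intro hh
        exact hrs (Fin.ext (Nat.eq_of_beq_eq_true hh))
      rw [e1, Pi.single_eq_of_ne hrs, zero_add]
      by_cases hrt : r = t
      · subst hrt
        rw [Nat.beq_refl, Pi.single_eq_same, mul_one]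
        rfl
      · have e2 : Nat.beq r t = false := by
          apply Bool.eq_false_iff.2
          intro hh
          exact hrt (Fin.ext (Nat.eq_of_beq_eq_true hh))
        rw [e2, Pi.single_eq_of_ne hrt, mul_zero]
        show toF 0 = 0
        decide
  rcases hl with rfl | rfl
  · exact key 1 (Or.inl rfl) h3.1.1.1 h3.1.2
  · exact key 2 (Or.inr rfl) h3.1.1.2 h3.2

/-- a matrix fixing enough lines is scalar -/
theorem scalar_of2 (A : Matrix (Fin 6) (Fin 6) F4)
    (h : ∀ s t : Fin 6, s ≠ t → ∀ l : F4, (l = 1 ∨ l = F4.mk 2) → ∃ c : F4, A *ᵥ (Pi.single s 1 + l • Pi.single t 1) =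
      c • (Pi.single s 1 + l • Pi.single t 1)) : ∃ c : F4, A = c • (1 : Matrix (Fin 6) (Fin 6) F4) := by
  have hcol : ∀ (s t : Fin 6) (l : F4) (r : Fin 6), (A *ᵥ (Pi.single s 1 + l • Pi.single t 1)) r = A r s + l * A r t := by
    intro s t l r
    rw [mulVec_add, mulVec_smul, Pi.add_apply, Pi.smul_apply, mulVec_single_one, mulVec_single_one]
    rfl
  have hoff : ∀ r t : Fin 6, r ≠ t → A r t = 0 := by
    intro r t hrt
    obtain ⟨s, hsr, hst⟩ : ∃ s : Fin 6, s ≠ r ∧ s ≠ t := by revert r t; decide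
    obtain ⟨c, hc⟩ := h s t hst 1 (Or.inl rfl)
    obtain ⟨d, hd⟩ := h s t hst (F4.mk 2) (Or.inr rfl)
    have e1 := congrFun hc r
    have e2 := congrFun hd r
    rw [hcol] at e1 e2
    have z : ∀ (c l : F4), (c • (Pi.single s (1 : F4) + l • Pi.single t (1 : F4) : Fin 6 → F4)) r = 0 := by
      intro c l
      rw [Pi.smul_apply, Pi.add_apply, Pi.smul_apply, Pi.single_eq_of_ne (Ne.symm hsr), Pi.single_eq_of_ne hrt]
      simp
    rw [z] at e1 e2
    generalize A r s = a at e1 e2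
    generalize A r t = b at e1 e2 ⊢
    revert a b
    decide
  have hdiag : ∀ s : Fin 6, A s s = A 0 0 := by
    intro s
    by_cases hs : s = 0
    · rw [hs]
    · obtain ⟨c, hc⟩ := h 0 s (Ne.symm hs) 1 (Or.inl rfl)
      have e1 := congrFun hc 0
      have e2 := congrFun hc s
      rw [hcol] at e1 e2
      rw [Pi.smul_apply, Pi.add_apply, Pi.smul_apply, Pi.single_eq_same, Pi.single_eq_of_ne (Ne.symm hs),
        hoff 0 s (Ne.symm hs)] at e1
      rw [Pi.smul_apply, Pi.add_apply, Pi.smul_apply, Pi.single_eq_same, Pi.single_eq_of_ne hs,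
        hoff s 0 hs] at e2
      simp only [smul_zero, add_zero, mul_zero, smul_eq_mul, mul_one, one_mul, zero_add] at e1 e2
      rw [e1, e2]
  refine ⟨A 0 0, ?_⟩
  ext r t
  rw [Matrix.smul_apply, smul_eq_mul]
  by_cases hrt : r = t
  · subst hrt; rw [hdiag, Matrix.one_apply_eq, mul_one]
  · rw [hoff r t hrt, Matrix.one_apply_ne hrt, mul_zero]

theorem hc1 (A : SU 6 F4 2) (hA : ((1 : Subgroup.closure (x '' {y | y ∈ l9})), A) ∈ labP psi rho vv) :
    A ∈ Subgroup.center (SU 6 F4 2) := by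
  rw [mem_labP] at hA
  obtain ⟨c, hc⟩ := scalar_of2 (rho A) (by
    intro s t hst l hl
    obtain ⟨l', hl', rfl⟩ : ∃ l' : ℕ, (l' = 1 ∨ l' = 2) ∧ toF l' = l := by
      rcases hl with rfl | rfl
      · exact ⟨1, Or.inl rfl, rfl⟩
      · exact ⟨2, Or.inr rfl, rfl⟩
    obtain ⟨i, m, hm4, hm0, hv⟩ := wt s t hst l' hl'
    obtain ⟨c, hc, e⟩ := hA i
    have hm : toF m ≠ 0 := toF_ne m hm4 hm0
    have e2 : rho A *ᵥ vv i = c • vv i := by
      rw [e, map_one]
      rfl
    rw [hv, mulVec_smul, smul_comm] at e2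
    refine ⟨c, ?_⟩
    have h3 := congrArg (fun w => (toF m)⁻¹ • w) e2
    simp only [smul_smul, inv_mul_cancel₀ hm, one_smul] at h3
    rwa [inv_mul_cancel_left₀ hm] at h3)
  exact center_of_scalar hc

theorem hc2 (A : SU 6 F4 2) (hA : A ∈ Subgroup.center (SU 6 F4 2)) :
    ((1 : Subgroup.closure (x '' {y | y ∈ l9})), A) ∈ labP psi rho vv := by
  rw [mem_labP]
  intro i
  obtain ⟨c, hc, e⟩ := central_eig hA (vv_iso i) (vv_ne i)
  refine ⟨c, hc, ?_⟩
  rw [e, map_one]
  rfl

theorem exists_F : ∃ F : Subgroup.closure (x '' {y | y ∈ l9}) →* PSU 6 F4 2,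
    ∀ h : Subgroup.closure (x '' {y | y ∈ l9}), F h = 1 ↔ psi h = 1 :=
  lab_hom_top hc1 hc2 vv_inj labN_top

/-- the kernel of the action -/
theorem ker_psi (h : Subgroup.closure (x '' {y | y ∈ l9})) (hh : psi h = 1) : h = 1 ∨ h = xS x l9 1 := by
  have hex := exists_g sys (by decide : 693 ≤ 2 ^ 10) compatS sg_ok (by decide +kernel)
  obtain ⟨bs, hbs⟩ := chain_sound sys hex levs [] [] rfl chain
  have h1 : Nat.card (stabs psi ([] : List (Fin 693))) = 18393661440 := by
    rw [stabs, Subgroup.card_top, cardH]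
  rw [h1, prodM_levs] at hbs
  have h2 : Nat.card psi.ker ≤ 2 := by
    have h3 : psi.ker ≤ stabs psi bs := by
      intro g hg
      rw [mem_stabs]
      intro b _
      rw [MonoidHom.mem_ker.1 hg]
      rfl
    have h4 := Subgroup.card_le_of_le h3
    omega
  have hx1 : xS x l9 1 ≠ 1 := by
    intro h3
    have h4 : x 1 = 1 := by
      have h5 := congrArg Subtype.val h3
      rwa [xS_coe (by decide)] at h5
    have h5 := @ev_ne _ _ 3510 _ _ _ compat [1] [] (by decide) (by simp) 3000 (by decide) (by decide +kernel)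
    rw [ev_cons, ev_nil, mul_one] at h5
    exact h5 h4
  by_contra hcon
  push Not at hcon
  have h5 : ({1, xS x l9 1, h} : Set (Subgroup.closure (x '' {y | y ∈ l9}))) ⊆ psi.ker := by
    rintro _ (rfl | rfl | rfl)
    · exact one_mem _
    · exact psi_one
    · exact hh
  have h6 := Set.ncard_le_ncard h5 (Set.toFinite _)
  rw [Set.ncard_insert_of_notMem (by
      rintro (h | h)
      · exact hx1 h.symm
      · exact hcon.1 h.symm) (Set.toFinite _), Set.ncard_pair (Ne.symm hcon.2)] at h6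
  have h7 : (psi.ker : Set (Subgroup.closure (x '' {y | y ∈ l9}))).ncard = Nat.card psi.ker := rfl
  omega

theorem card_PSU : Nat.card (PSU 6 F4 2) = 9196830720 := by
  have h := Cfsg.Agent.S0280.result (F := F4) (q := 2) (by rw [F4.card]; norm_num) 6 (by norm_num)
  have e1 : Nat.gcd 6 (2 + 1) = 3 := by decide
  rw [e1] at h
  simp only [Finset.prod_range_succ, Finset.prod_range_zero] at h
  norm_num at h
  omega

theorem psu_simple : IsSimpleGroup (PSU 6 F4 2) :=
  Cfsg.Agent.S0283.result (F := F4) (q := 2) (by rw [F4.card]; norm_num) 6 (by norm_num) (by omega)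

theorem psu_center : Subgroup.center (PSU 6 F4 2) = ⊥ := by
  haveI := psu_simple
  rcases psu_simple.eq_bot_or_eq_top_of_normal _ (inferInstance : (Subgroup.center (PSU 6 F4 2)).Normal) with h1 | h1
  · exact h1
  · exfalso
    have hcomm : ∀ a b : PSU 6 F4 2, a * b = b * a := by
      intro a b
      have : b ∈ Subgroup.center (PSU 6 F4 2) := by rw [h1]; exact Subgroup.mem_top b
      exact Subgroup.mem_center_iff.1 this a
    haveI : Finite (PSU 6 F4 2) := Nat.finite_of_card_ne_zero (by rw [card_PSU]; norm_num)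
    have hp : (Nat.card (PSU 6 F4 2)).Prime := by
      letI : CommGroup (PSU 6 F4 2) := { (inferInstance : Group (PSU 6 F4 2)) with mul_comm := hcomm }
      exact IsSimpleGroup.prime_card
    rw [card_PSU] at hp
    exact absurd (hp.eq_one_or_self_of_dvd 2 (by decide)) (by decide)

end Cfsg.Agent.H26.SpFi22
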