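import Cfsg.Agent.H8_Fi23A
import Cfsg.Agent.H8_Act2

/-! `Fi23`: network checks for the central involution. -/

set_option autoImplicit false
set_option maxRecDepth 100000

namespace Cfsg.Agent.H26.SpFi23

open Cfsg H8.CE H8.Net H8.Act

/-- the word of the central involution of the point stabiliser -/
@[irreducible] def zw : List ℕ := powW [2, 3, 4, 5, 6, 7, 9] 9

theorem zw_lt : (zw.all fun y => Nat.blt y 16) = true := by decide +kernel

theorem q0 : eqW H8.Fi23A.L 31671 15 (zw ++ zw) [] = true := by decide +kernel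

theorem c1 : eqW H8.Fi23A.L 31671 15 (1 :: zw) (zw ++ [1]) = true := by decide +kernel

theorem c2 : eqW H8.Fi23A.L 31671 15 (2 :: zw) (zw ++ [2]) = true := by decide +kernel

theorem c3 : eqW H8.Fi23A.L 31671 15 (3 :: zw) (zw ++ [3]) = true := by decide +kernel

theorem c4 : eqW H8.Fi23A.L 31671 15 (4 :: zw) (zw ++ [4]) = true := by decide +kernel

theorem c5 : eqW H8.Fi23A.L 31671 15 (5 :: zw) (zw ++ [5]) = true := by decide +kernel

theorem c6 : eqW H8.Fi23A.L 31671 15 (6 :: zw) (zw ++ [6]) = true := by decide +kernel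

theorem c7 : eqW H8.Fi23A.L 31671 15 (7 :: zw) (zw ++ [7]) = true := by decide +kernel

theorem c9 : eqW H8.Fi23A.L 31671 15 (9 :: zw) (zw ++ [9]) = true := by decide +kernel

theorem c10 : eqW H8.Fi23A.L 31671 15 (10 :: zw) (zw ++ [10]) = true := by decide +kernel

/-- to the orbit of length 3510 -/
@[irreducible] def w1 : List ℕ := [8, 7, 6, 5, 4, 3, 9, 4, 5, 6, 7, 8]

/-- its inverse -/
@[irreducible] def w1' : List ℕ := [8, 7, 6, 5, 4, 9, 3, 4, 5, 6, 7, 8]

theorem e1 : eqW H8.Fi23A.L 31671 15 (powW (zw ++ (w1' ++ (zw ++ w1))) 2) [] = true := by decide +kernel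

theorem e1' : eqW H8.Fi23A.L 31671 15 (w1' ++ w1) [] = true := by decide +kernel

theorem e2 : eqW H8.Fi23A.L 31671 15 (powW (zw ++ ([8] ++ (zw ++ [8]))) 3) [] = true := by decide +kernel

theorem e2' : eqW H8.Fi23A.L 31671 15 [8, 8] [] = true := by decide +kernel

end Cfsg.Agent.H26.SpFi23
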