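import Cfsg.Agent.H8_Fi22M
import Cfsg.Agent.H8_Fi22aT

set_option autoImplicit false
set_option maxRecDepth 100000
set_option linter.constructorNameAsVariable false

namespace Cfsg.Agent.H8.Fi22M

open CE Net Act Cox CS Fi22R Act2 Act3 Cfsg.Spor

theorem map_H : (Subgroup.closure ({Fi22.a, Fi22.c, Fi22.d, Fi22.e, Fi22.f, Fi22.g, Fi22.h, Fi22.i,
    (Fi22.a * Fi22.b * Fi22.c * Fi22.d * Fi22.e * Fi22.h) ^ 5} : Set (FreeGroup Fi22.Gen))).map
    (PresentedGroup.mk RR) = Hl [1, 3, 4, 5, 6, 7, 8, 9, 10] := by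
  apply map_closure_gens
  · intro s hs
    simp only [Set.mem_insert_iff, Set.mem_singleton_iff] at hs
    rcases hs with rfl | rfl | rfl | rfl | rfl | rfl | rfl | rfl | rfl
    exacts [⟨1, by decide, rfl⟩, ⟨3, by decide, rfl⟩, ⟨4, by decide, rfl⟩, ⟨5, by decide, rfl⟩,
      ⟨6, by decide, rfl⟩, ⟨7, by decide, rfl⟩, ⟨8, by decide, rfl⟩, ⟨9, by decide, rfl⟩, ⟨10, by decide, rfl⟩]
  · intro y hy
    simp only [List.mem_cons, List.not_mem_nil, or_false] at hy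
    rcases hy with rfl | rfl | rfl | rfl | rfl | rfl | rfl | rfl | rfl <;> simp [lm]

theorem map_K : (Subgroup.closure ({Fi22.b, Fi22.c, Fi22.d, Fi22.e, Fi22.f, Fi22.g, Fi22.h, Fi22.i} :
    Set (FreeGroup Fi22.Gen))).map (PresentedGroup.mk RR) = Hl [2, 3, 4, 5, 6, 7, 8, 9] := by
  apply map_closure_gens
  · intro s hs
    simp only [Set.mem_insert_iff, Set.mem_singleton_iff] at hs
    rcases hs with rfl | rfl | rfl | rfl | rfl | rfl | rfl | rfl
    exacts [⟨2, by decide, rfl⟩, ⟨3, by decide, rfl⟩, ⟨4, by decide, rfl⟩, ⟨5, by decide, rfl⟩,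
      ⟨6, by decide, rfl⟩, ⟨7, by decide, rfl⟩, ⟨8, by decide, rfl⟩, ⟨9, by decide, rfl⟩]
  · intro y hy
    simp only [List.mem_cons, List.not_mem_nil, or_false] at hy
    rcases hy with rfl | rfl | rfl | rfl | rfl | rfl | rfl | rfl <;> simp [lm]

/-- letters fixing the point `0` -/
abbrev l9 : List ℕ := [1, 3, 4, 5, 6, 7, 8, 9, 10, 11]

theorem Hl_eq : Hl [1, 3, 4, 5, 6, 7, 8, 9, 10] = Hl l9 :=
  closure_invLet hic (by decide) (by decide +kernel)

theorem hn0 : 0 < 3510 := by decide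

theorem htr : ∀ i : Fin 3510, ∃ g, phi g ⟨0, hn0⟩ = i :=
  trans_of Fi22A.sys compat (by decide) hn0 Fi22A.trans

theorem ba : (Hl l9).relIndex (Hl [1, 2, 3, 4, 5, 6, 7, 8, 9]) ≤ 3510 ∧
    (Hl l9).relIndex (Hl [1, 2, 3, 4, 5, 6, 7, 8, 9]) ≠ 0 := by
  have h := Fi22aT.bound (x := x) (H := Hl l9)
    hic h0 (sub_rels (by decide +kernel)) (by
      intro s hs
      simp only [Fi22aT.L, List.mem_cons, List.not_mem_nil, or_false] at hs
      rcases hs with rfl | rfl | rfl | rfl | rfl | rfl | rfl | rfl | rfl | rfl <;> exact mem_Hl (by decide))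
  have e : (x '' {y | 1 ≤ y ∧ y ≤ 9}) = x '' {y | y ∈ [1, 2, 3, 4, 5, 6, 7, 8, 9]} := by
    congr 1
    ext y
    simp only [Set.mem_ofPred_eq, List.mem_cons, List.not_mem_nil, or_false]
    omega
  rw [e] at h
  exact h

theorem H_index : (Hl l9).index = 3510 ∧ ∀ g, g ∈ Hl l9 ↔ phi g ⟨0, hn0⟩ = ⟨0, hn0⟩ := by
  have h := ba
  rw [Hl_top, Subgroup.relIndex_top_right] at h
  exact index_of_fix hn0 htr (fix_closure Fi22A.sys compat (by decide) hn0 Fi22A.hfix) h.1 h.2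

theorem S1687 : (Hl [1, 3, 4, 5, 6, 7, 8, 9, 10]).index = 3510 ∧ ∃ q₁ q₂ : Fi22 ⧸ Hl [1, 3, 4, 5, 6, 7, 8, 9, 10],
    (MulAction.orbit (Hl [1, 3, 4, 5, 6, 7, 8, 9, 10]) q₁).ncard = 693 ∧
    (MulAction.orbit (Hl [1, 3, 4, 5, 6, 7, 8, 9, 10]) q₂).ncard = 2816 := by
  rw [Hl_eq]
  obtain ⟨q₁, h₁, h₁'⟩ := orbit_iv Fi22A.sys compat (l := l9) (by decide) hn0 htr Fi22A.hfix rfl H_index.2
    (r := 30) (c := 1) (a := 1) (b := 694) (by decide) (by decide) (by decide) (by decide +kernel) (by decide +kernel)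
  obtain ⟨q₂, h₂, h₂'⟩ := orbit_iv Fi22A.sys compat (l := l9) (by decide) hn0 htr Fi22A.hfix rfl H_index.2
    (r := 30) (c := 694) (a := 694) (b := 3510) (by decide) (by decide) (by decide) (by decide +kernel) (by decide +kernel)
  exact ⟨H_index.1, q₁, q₂, h₁', h₂'⟩

/-- the index of `⟨b, …, i⟩` -/
theorem K_index : (Hl [2, 3, 4, 5, 6, 7, 8, 9]).index = 14080 := by
  have h1 := (Hl [2, 3, 4, 5, 6, 7, 8, 9]).card_mul_index
  rw [main.1] at h1
  have h2 := c2.1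
  have h3 := b1.1
  rw [Hl_top, Subgroup.relIndex_top_right] at h3
  refine le_antisymm h3 ?_
  by_contra hcon
  push Not at hcon
  have h4 : Nat.card (Hl [2, 3, 4, 5, 6, 7, 8, 9]) * (Hl [2, 3, 4, 5, 6, 7, 8, 9]).index ≤
      (3159 * (28 * (27 * (16 * 120)))) * 14079 := Nat.mul_le_mul h2 (by omega)
  rw [h1] at h4
  exact absurd h4 (by decide)

end Cfsg.Agent.H8.Fi22M
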