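import Cfsg.Agent.H8_Fi23N
import Cfsg.Agent.H8_Fi22N
import Cfsg.Agent.H26_Sp2
import Cfsg.Agent.H26_SpFi23E

/-! `Fi23`: the 3-transposition class and the double cover of `Fi22`. -/

set_option autoImplicit false
set_option maxRecDepth 100000

namespace Cfsg.Agent.H26.SpFi23

open Cfsg H8.CE H8.Net H8.Act H8.Cox H8.CS H8.Act2 H8.Act3 H8.Fi23M H26.Sp Cfsg.Spor

/-- the central involution -/
noncomputable def z : Fi23 := ev x zw

theorem eqv {u w : List ℕ} (hu : (u.all fun y => Nat.blt y 16) = true) (hw : (w.all fun y => Nat.blt y 16) = true)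
    (he : eqW H8.Fi23A.L 31671 15 u w = true) : ev x u = ev x w :=
  @evq _ _ 31671 15 _ _ _ compat main.2 H8.Fi23A.sys hn u w hu hw he

theorem z_sq' : ev x zw * ev x zw = 1 := by
  have h := eqv (u := zw ++ zw) (w := []) (by decide +kernel) (by decide) q0
  rw [ev_append, ev_nil] at h
  exact h

theorem z_sq : z * z = 1 := z_sq'

theorem zne0 : tr H8.Fi23A.L zw 4000 ≠ tr H8.Fi23A.L [] 4000 := by decide +kernel

theorem z_ne' : ev x zw ≠ ev x [] :=
  @ev_ne _ _ 31671 _ _ _ compat zw [] (lt16_of zw_lt) (by simp) 4000 (by decide) zne0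

theorem z_ne : z ≠ 1 := z_ne'

theorem z_comm (y : ℕ) (hy : (eqW H8.Fi23A.L 31671 15 (y :: zw) (zw ++ [y])) = true) (hy16 : Nat.blt y 16 = true) :
    x y * z = z * x y := by
  have h := eqv (u := y :: zw) (w := zw ++ [y]) (by rw [List.all_cons, hy16, zw_lt]; rfl)
    (by rw [List.all_append, zw_lt, List.all_cons, hy16]; rfl) hy
  rw [ev_cons, ev_append, ev_cons, ev_nil, mul_one] at h
  exact h

theorem z_cent : ∀ h ∈ Hl l9, h * z = z * h := by
  have h1 : Hl l9 ≤ Subgroup.centralizer ({z} : Set Fi23) := by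
    rw [Hl, Subgroup.closure_le]
    rintro _ ⟨y, hy, rfl⟩
    rw [SetLike.mem_coe, Subgroup.mem_centralizer_singleton_iff]
    simp only [l9, Set.mem_ofPred_eq, List.mem_cons, List.not_mem_nil, or_false] at hy
    rcases hy with rfl | rfl | rfl | rfl | rfl | rfl | rfl | rfl | rfl
    exacts [z_comm _ c1 rfl, z_comm _ c2 rfl, z_comm _ c3 rfl, z_comm _ c4 rfl, z_comm _ c5 rfl, z_comm _ c6 rfl,
      z_comm _ c7 rfl, z_comm _ c9 rfl, z_comm _ c10 rfl]
  intro h hh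
  exact Subgroup.mem_centralizer_singleton_iff.1 (h1 hh)

theorem r1 : reachIv H8.Fi23A.L l9 30 1 1 3511 = true := by decide +kernel
theorem r2 : reachIv H8.Fi23A.L l9 30 3511 3511 31671 = true := by decide +kernel
theorem t1 : tr H8.Fi23A.L w1 0 = 1 := by decide +kernel
theorem t2 : tr H8.Fi23A.L [8] 0 = 3511 := by decide +kernel
theorem w1_lt : (w1.all fun y => Nat.blt y 16) = true := by decide +kernel
theorem w1'_lt : (w1'.all fun y => Nat.blt y 16) = true := by decide +kernel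

/-- the set of double coset representatives -/
noncomputable def J : Set Fi23 := {(ev x w1)⁻¹, (ev x [8])⁻¹}

theorem l9_lt : ∀ y ∈ l9, y < 16 := by decide

theorem hdec (g : Fi23) : g ∈ Hl l9 ∨ ∃ u ∈ J, ∃ h ∈ Hl l9, ∃ h' ∈ Hl l9, g = h * u * h' := by
  by_cases h0 : ((phi g ⟨0, hn0⟩ : Fin 31671) : ℕ) = 0
  · left
    rw [H_index.2]
    exact Fin.ext h0
  · right
    have hlt := (phi g ⟨0, hn0⟩ : Fin 31671).2
    by_cases h1 : ((phi g ⟨0, hn0⟩ : Fin 31671) : ℕ) < 3511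
    · exact ⟨_, Or.inl rfl, @dec_of _ _ 31671 phi x H8.Fi23A.L H8.Fi23A.sys compat l9 l9_lt hn0 H8.Fi23A.hfix (Hl l9) rfl
        H_index.2 w1 (lt16_of w1_lt) 30 1 3511 r1 t1 (by decide) (by decide) g (by omega) h1⟩
    · exact ⟨_, Or.inr rfl, @dec_of _ _ 31671 phi x H8.Fi23A.L H8.Fi23A.sys compat l9 l9_lt hn0 H8.Fi23A.hfix (Hl l9) rfl
        H_index.2 [8] (by decide) 30 3511 31671 r2 t2 (by decide) (by decide) g (by omega) hlt⟩

theorem inv_of {u u' : List ℕ} (hu : (u.all fun y => Nat.blt y 16) = true) (hu' : (u'.all fun y => Nat.blt y 16) = true)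
    (h : eqW H8.Fi23A.L 31671 15 (u' ++ u) [] = true) : (ev x u)⁻¹ = ev x u' := by
  have h1 := eqv (u := u' ++ u) (w := []) (by rw [List.all_append, hu', hu]; rfl) rfl h
  rw [ev_append, ev_nil] at h1
  exact (eq_inv_of_mul_eq_one_left h1).symm

theorem pw (u u' : List ℕ) (m : ℕ) (hu : (u.all fun y => Nat.blt y 16) = true) (hu' : (u'.all fun y => Nat.blt y 16) = true)
    (h : eqW H8.Fi23A.L 31671 15 (powW (zw ++ (u' ++ (zw ++ u))) m) [] = true)
    (h' : eqW H8.Fi23A.L 31671 15 (u' ++ u) [] = true) :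
    (z * ((ev x u)⁻¹ * z * ((ev x u)⁻¹)⁻¹)) ^ m = 1 := by
  have h1 : ((powW (zw ++ (u' ++ (zw ++ u))) m).all fun y => Nat.blt y 16) = true := by
    rw [List.all_eq_true]
    intro y hy
    apply blt_eq.2
    refine powW_lt ?_ m y hy
    apply lt16_of
    rw [List.all_append, List.all_append, List.all_append, zw_lt, hu, hu']
    rfl
  have h2 := eqv h1 rfl h
  rw [ev_powW, ev_append, ev_append, ev_append, ev_nil] at h2
  rw [inv_of hu hu' h']
  have h3 : (ev x u')⁻¹ = ev x u := by rw [← inv_of hu hu' h', inv_inv]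
  rw [h3, z, mul_assoc (ev x u')]
  exact h2

theorem n1' : tr H8.Fi23A.L (w1' ++ (zw ++ w1)) 4000 ≠ tr H8.Fi23A.L zw 4000 := by decide +kernel
theorem n2' : tr H8.Fi23A.L ([8] ++ (zw ++ [8])) 3511 ≠ tr H8.Fi23A.L zw 3511 := by decide +kernel

theorem cne (u u' : List ℕ) (hu : (u.all fun y => Nat.blt y 16) = true) (hu' : (u'.all fun y => Nat.blt y 16) = true)
    (h' : eqW H8.Fi23A.L 31671 15 (u' ++ u) [] = true) (i : ℕ) (hi : i < 31671)
    (h : tr H8.Fi23A.L (u' ++ (zw ++ u)) i ≠ tr H8.Fi23A.L zw i) :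
    (ev x u)⁻¹ * z * ((ev x u)⁻¹)⁻¹ ≠ z := by
  have h1 : ((u' ++ (zw ++ u)).all fun y => Nat.blt y 16) = true := by
    rw [List.all_append, List.all_append, zw_lt, hu, hu']; rfl
  have h2 := @ev_ne _ _ 31671 _ _ _ compat (u' ++ (zw ++ u)) zw (lt16_of h1) (lt16_of zw_lt) i hi h
  rw [ev_append, ev_append] at h2
  have h3 : (ev x u')⁻¹ = ev x u := by rw [← inv_of hu hu' h', inv_inv]
  rw [inv_of hu hu' h', h3, mul_assoc]
  exact h2

theorem hJ : ∀ u ∈ J, ((z * (u * z * u⁻¹)) ^ 2 = 1 ∨ (z * (u * z * u⁻¹)) ^ 3 = 1) ∧ u * z * u⁻¹ ≠ z := by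
  rintro _ (rfl | rfl)
  · exact ⟨Or.inl (pw w1 w1' 2 w1_lt w1'_lt e1 e1'), cne w1 w1' w1_lt w1'_lt e1' 4000 (by decide) n1'⟩
  · exact ⟨Or.inr (pw [8] [8] 3 rfl rfl e2 e2'), cne [8] [8] rfl rfl e2' 3511 (by decide) n2'⟩

theorem main3 : Subgroup.centralizer ({z} : Set Fi23) = Hl l9 ∧ IsThreeTranspositionClass (conjugatesOf z) ∧
    Nat.card (conjugatesOf z) = (Hl l9).index :=
  three_transp simple z z_ne z_sq (Hl l9) z_cent J hdec hJ

end Cfsg.Agent.H26.SpFi23
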