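import Cfsg.Agent.H26_Sp2

/-! Induced actions and identification of groups by a labelling of points by vectors. -/

set_option autoImplicit false

namespace Cfsg.Agent.H26.Sp

open Cfsg H8.CE H8.Net H8.Act H8.Act2

section
variable {H T : Type*} [Group H] [Group T]

/-- a homomorphism from a graph -/
theorem graph_hom (R : Subgroup (H × T)) (G0 : Set H) (hG : Subgroup.closure G0 = ⊤) (h1 : ∀ g ∈ G0, ∃ t, (g, t) ∈ R)
    (h2 : ∀ t, ((1 : H), t) ∈ R → t = 1) : ∃ ψ : H →* T, ∀ h, (h, ψ h) ∈ R := by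
  have hall : ∀ h : H, ∃ t, (h, t) ∈ R := by
    have hT : (R.map (MonoidHom.fst H T)) = ⊤ := by
      rw [eq_top_iff, ← hG, Subgroup.closure_le]
      intro g hg
      obtain ⟨t, ht⟩ := h1 g hg
      exact ⟨(g, t), ht, rfl⟩
    intro h
    have : h ∈ R.map (MonoidHom.fst H T) := by rw [hT]; exact Subgroup.mem_top h
    obtain ⟨⟨a, t⟩, hat, rfl⟩ := this
    exact ⟨t, hat⟩
  choose f hf using hall
  have huniq : ∀ h t, (h, t) ∈ R → t = f h := by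
    intro h t ht
    have h3 := R.mul_mem (R.inv_mem (hf h)) ht
    have h4 : (h, f h)⁻¹ * (h, t) = ((1 : H), (f h)⁻¹ * t) := by
      ext <;> simp
    rw [h4] at h3
    have h5 := h2 _ h3
    rw [inv_mul_eq_one] at h5
    exact h5.symm
  refine ⟨MonoidHom.mk' f fun a b => (huniq (a * b) (f a * f b) (R.mul_mem (hf a) (hf b))).symm, fun h => hf h⟩

end

section
variable {G : Type*} [Group G] {n m : ℕ} {φ : G →* Equiv.Perm (Fin n)} {x : ℕ → G} {L Lm : List Nt}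

/-- the letters in the subgroup they generate -/
noncomputable def xS (x : ℕ → G) (l : List ℕ) (y : ℕ) : Subgroup.closure (x '' {y | y ∈ l}) := by
  classical
  exact if h : y ∈ l then ⟨x y, Subgroup.subset_closure ⟨y, h, rfl⟩⟩ else 1

theorem xS_coe {l : List ℕ} {y : ℕ} (h : y ∈ l) : ((xS x l y : Subgroup.closure (x '' {y | y ∈ l})) : G) = x y := by
  rw [xS, dif_pos h]

theorem xS_top (l : List ℕ) : Subgroup.closure (xS x l '' {y | y ∈ l}) = ⊤ := by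
  rw [eq_top_iff]
  rintro ⟨g, hg⟩ -
  refine Subgroup.closure_induction (p := fun g hg => (⟨g, hg⟩ : Subgroup.closure (x '' {y | y ∈ l})) ∈
    Subgroup.closure (xS x l '' {y | y ∈ l})) ?_ ?_ ?_ ?_ hg
  · rintro _ ⟨y, hy, rfl⟩
    refine Subgroup.subset_closure ⟨y, hy, ?_⟩
    exact Subtype.ext (xS_coe hy)
  · exact one_mem _
  · intro a b ha hb h1 h2
    exact mul_mem h1 h2
  · intro a ha h1
    exact inv_mem h1

/-- the Boolean check for an induced action -/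
def quotB (L Lm : List Nt) (l : List ℕ) (β : ℕ → ℕ) (a b : ℕ) : Bool :=
  l.all fun y => (List.range (b - a)).all fun i =>
    Nat.ble a ((net L y).pos (a + i)) && Nat.blt ((net L y).pos (a + i)) b &&
      Nat.beq (β ((net L y).pos (a + i))) ((net Lm y).pos (β (a + i)))

theorem quotB_sound {l : List ℕ} {β : ℕ → ℕ} {a b : ℕ} (h : quotB L Lm l β a b = true) {y : ℕ} (hy : y ∈ l) {i : ℕ}
    (hi : a ≤ i) (hi' : i < b) : a ≤ (net L y).pos i ∧ (net L y).pos i < b ∧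
      β ((net L y).pos i) = (net Lm y).pos (β i) := by
  rw [quotB, List.all_eq_true] at h
  have h1 := h y hy
  rw [List.all_eq_true] at h1
  have h2 := h1 (i - a) (List.mem_range.2 (by omega))
  rw [Nat.add_sub_cancel' hi] at h2
  simp only [Bool.and_eq_true] at h2
  exact ⟨Nat.le_of_ble_eq_true h2.1.1, blt_eq.1 h2.1.2, Nat.eq_of_beq_eq_true h2.2⟩

/-- the induced action on blocks of an interval -/
theorem exists_quot (hc : Compat φ x L) {ic k : ℕ} (hsm : sysOk Lm m = true) (hm : m ≤ 2 ^ k)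
    (him : invOk Lm m k ic = true) {l : List ℕ} (hl : ∀ y ∈ l, y < 16) (hic : ∀ y ∈ l, il ic y ∈ l ∧ x (il ic y) = (x y)⁻¹)
    {β : ℕ → ℕ} {a b : ℕ} (hβ : ∀ i, β i < m) (hsurj : ∀ j, j < m → ∃ i, a ≤ i ∧ i < b ∧ i < n ∧ β i = j)
    (hq : quotB L Lm l β a b = true) :
    ∃ ψ : Subgroup.closure (x '' {y | y ∈ l}) →* Equiv.Perm (Fin m),
      (∀ y ∈ l, ∀ i : Fin m, ((((ψ (xS x l y))⁻¹ : Equiv.Perm (Fin m)) i : Fin m) : ℕ) = (net Lm y).pos i) ∧
      ∀ h : Subgroup.closure (x '' {y | y ∈ l}), ∀ i : Fin n, a ≤ (i : ℕ) → (i : ℕ) < b →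
        β ((φ (h : G) i : Fin n) : ℕ) = ((ψ h ⟨β i, hβ i⟩ : Fin m) : ℕ) := by
  let R : Subgroup (Subgroup.closure (x '' {y | y ∈ l}) × Equiv.Perm (Fin m)) :=
    { carrier := {p | ∀ i : Fin n, a ≤ (i : ℕ) → (i : ℕ) < b →
        (a ≤ ((φ (p.1 : G) i : Fin n) : ℕ) ∧ ((φ (p.1 : G) i : Fin n) : ℕ) < b) ∧
        (a ≤ ((φ (p.1 : G)⁻¹ i : Fin n) : ℕ) ∧ ((φ (p.1 : G)⁻¹ i : Fin n) : ℕ) < b) ∧
        β ((φ (p.1 : G) i : Fin n) : ℕ) = ((p.2 ⟨β i, hβ i⟩ : Fin m) : ℕ)}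
      one_mem' := by
        intro i h1 h2
        have e1 : φ (((1 : Subgroup.closure (x '' {y | y ∈ l}) × Equiv.Perm (Fin m)).1 : G)) i = i := by
          rw [Prod.fst_one, Subgroup.coe_one, map_one]; rfl
        have e2 : φ (((1 : Subgroup.closure (x '' {y | y ∈ l}) × Equiv.Perm (Fin m)).1 : G))⁻¹ i = i := by
          rw [Prod.fst_one, Subgroup.coe_one, inv_one, map_one]; rfl
        rw [e1, e2]
        exact ⟨⟨h1, h2⟩, ⟨h1, h2⟩, rfl⟩
      mul_mem' := by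
        rintro ⟨g, p⟩ ⟨g', p'⟩ hg hg' i h1 h2
        obtain ⟨⟨h3, h4⟩, -, h5⟩ := hg' i h1 h2
        obtain ⟨⟨h6, h7⟩, -, h8⟩ := hg _ h3 h4
        obtain ⟨-, ⟨h9, h10⟩, -⟩ := hg i h1 h2
        obtain ⟨-, ⟨h11, h12⟩, -⟩ := hg' _ h9 h10
        refine ⟨?_, ?_, ?_⟩
        · show a ≤ ((φ ((g : G) * (g' : G)) i : Fin n) : ℕ) ∧ ((φ ((g : G) * (g' : G)) i : Fin n) : ℕ) < b
          rw [map_mul, Equiv.Perm.mul_apply]
          exact ⟨h6, h7⟩
        · show a ≤ ((φ ((g : G) * (g' : G))⁻¹ i : Fin n) : ℕ) ∧ ((φ ((g : G) * (g' : G))⁻¹ i : Fin n) : ℕ) < b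
          rw [mul_inv_rev, map_mul, Equiv.Perm.mul_apply]
          exact ⟨h11, h12⟩
        · show β ((φ ((g : G) * (g' : G)) i : Fin n) : ℕ) = (((p * p') ⟨β i, hβ i⟩ : Fin m) : ℕ)
          rw [map_mul, Equiv.Perm.mul_apply, h8, Equiv.Perm.mul_apply]
          congr 2
          exact Fin.ext h5
      inv_mem' := by
        rintro ⟨g, p⟩ hg i h1 h2
        obtain ⟨⟨h3, h4⟩, ⟨h5, h6⟩, h7⟩ := hg i h1 h2
        obtain ⟨-, -, h8⟩ := hg _ h5 h6
        refine ⟨⟨h5, h6⟩, ?_, ?_⟩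
        · show a ≤ ((φ ((g : G)⁻¹)⁻¹ i : Fin n) : ℕ) ∧ ((φ ((g : G)⁻¹)⁻¹ i : Fin n) : ℕ) < b
          rw [inv_inv]
          exact ⟨h3, h4⟩
        · show β ((φ ((g : G)⁻¹) i : Fin n) : ℕ) = ((p⁻¹ ⟨β i, hβ i⟩ : Fin m) : ℕ)
          have h9 : φ (g : G) (φ (g : G)⁻¹ i) = i := by
            rw [map_inv]; exact Equiv.apply_symm_apply _ _
          have h8' : β (i : ℕ) = ((p ⟨β ((φ (g : G)⁻¹ i : Fin n) : ℕ), hβ _⟩ : Fin m) : ℕ) := by
            rw [← h8]; rw [h9]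
          have h10 : (⟨β (i : ℕ), hβ _⟩ : Fin m) = p ⟨β ((φ (g : G)⁻¹ i : Fin n) : ℕ), hβ _⟩ := Fin.ext h8'
          rw [h10]
          exact congrArg Fin.val (Equiv.symm_apply_apply p ⟨β ((φ (g : G)⁻¹ i : Fin n) : ℕ), hβ _⟩).symm }
  have hgen : ∀ y ∈ l, (xS x l y, xP hsm hm him y) ∈ R := by
    intro y hy i h1 h2
    have hy16 := hl y hy
    obtain ⟨hyl, hyx⟩ := hic y hy
    have hp : ∀ y' ∈ l, ∀ j : Fin n, ((φ (x y')⁻¹ j : Fin n) : ℕ) = (net L y').pos j := by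
      intro y' hy' j
      rw [map_inv]
      exact hc y' (hl y' hy') j
    obtain ⟨h3, h4, h5⟩ := quotB_sound hq hy h1 h2
    obtain ⟨h6, h7, h8⟩ := quotB_sound hq hyl h1 h2
    have h9 : ((φ (x y) i : Fin n) : ℕ) = (net L (il ic y)).pos i := by
      rw [← hp _ hyl, hyx, inv_inv]
    refine ⟨?_, ?_, ?_⟩
    · rw [xS_coe hy, h9]
      exact ⟨h6, h7⟩
    · rw [xS_coe hy, hp y hy]
      exact ⟨h3, h4⟩
    · rw [xS_coe hy, h9, h8]
      have h10 := (invOk_sound hsm hm him y hy16).1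
      have h11 := xP_inv_apply hsm hm him y hy16 (xP hsm hm him y ⟨β i, hβ i⟩)
      have h11' : ((xP hsm hm him y)⁻¹ : Equiv.Perm (Fin m)) (xP hsm hm him y ⟨β i, hβ i⟩) = ⟨β i, hβ i⟩ :=
        Equiv.symm_apply_apply _ _
      rw [h11'] at h11
      have h12 := h10 ((xP hsm hm him y ⟨β i, hβ i⟩ : Fin m) : ℕ) (Fin.is_lt _)
      rw [← h11] at h12
      exact h12
  obtain ⟨ψ, hψ⟩ := graph_hom R _ (xS_top (x := x) l) (by
      rintro _ ⟨y, hy, rfl⟩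
      exact ⟨_, hgen y hy⟩) (by
      intro t ht
      ext j
      obtain ⟨i, h1, h2, h3, h4⟩ := hsurj j j.2
      obtain ⟨-, -, h5⟩ := ht ⟨i, h3⟩ h1 h2
      simp only [Subgroup.coe_one, map_one, Equiv.Perm.coe_one, id_eq] at h5
      have h6 : (⟨β i, hβ i⟩ : Fin m) = j := Fin.ext h4
      rw [h6, h4] at h5
      rw [← h5]
      rfl)
  refine ⟨ψ, ?_, fun h i h1 h2 => (hψ h i h1 h2).2.2⟩
  intro y hy i
  have h1 : ψ (xS x l y) = xP hsm hm him y := by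
    have h2 := R.mul_mem (R.inv_mem (hψ (xS x l y))) (hgen y hy)
    have h3 : (xS x l y, ψ (xS x l y))⁻¹ * (xS x l y, xP hsm hm him y) =
        ((1 : Subgroup.closure (x '' {y | y ∈ l})), (ψ (xS x l y))⁻¹ * xP hsm hm him y) := by
      ext <;> simp
    rw [h3] at h2
    have h4 : (ψ (xS x l y))⁻¹ * xP hsm hm him y = 1 := by
      ext j
      obtain ⟨i, h5, h6, h7, h8⟩ := hsurj j j.2
      obtain ⟨-, -, h9⟩ := h2 ⟨i, h7⟩ h5 h6
      simp only [Subgroup.coe_one, map_one, Equiv.Perm.coe_one, id_eq] at h9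
      have h10 : (⟨β i, hβ i⟩ : Fin m) = j := Fin.ext h8
      rw [h10, h8] at h9
      rw [← h9]
      rfl
    rw [inv_mul_eq_one] at h4
    exact h4
  rw [h1]
  exact xP_inv_apply hsm hm him y (hl y hy) i

end

end Cfsg.Agent.H26.Sp
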