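import Cfsg.Agent.H26_SpL

/-! Identification of a permutation group with a matrix group by a labelling of points by vectors. -/

set_option autoImplicit false

namespace Cfsg.Agent.H26.Sp

open Cfsg H8.CE H8.Net H8.Act H8.Act2

section
variable {G : Type*} [Group G] {m : ℕ} {x : ℕ → G} {Lm : List Nt}

theorem compat_quot {l : List ℕ} {ψ : Subgroup.closure (x '' {y | y ∈ l}) →* Equiv.Perm (Fin m)}
    (h : ∀ y ∈ l, ∀ i : Fin m, ((((ψ (xS x l y))⁻¹ : Equiv.Perm (Fin m)) i : Fin m) : ℕ) = (net Lm y).pos i)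
    (hnil : ∀ y, y < 16 → y ∈ l ∨ net Lm y = .nil) : Compat ψ (xS x l) Lm := by
  intro y hy i
  by_cases hyl : y ∈ l
  · exact h y hyl i
  · have h1 := (hnil y hy).resolve_left hyl
    rw [h1]
    have h2 : xS x l y = 1 := by rw [xS, dif_neg hyl]
    rw [h2, map_one, inv_one]
    rfl

end

section lab

open Matrix

variable {H S X ι K : Type*} [Group H] [Group S] [Fintype ι] [DecidableEq ι] [Field K]

/-- pairs of a permutation and a matrix which are compatible with a labelling by vectors -/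
def labP (ψ : H →* Equiv.Perm X) (ρ : S →* Matrix ι ι K) (v : X → ι → K) : Subgroup (H × S) where
  carrier := {p | ∀ i, ∃ c : K, c ≠ 0 ∧ ρ p.2 *ᵥ v i = c • v (ψ p.1 i)}
  one_mem' := by
    intro i
    refine ⟨1, one_ne_zero, ?_⟩
    rw [Prod.snd_one, Prod.fst_one, map_one, map_one, one_mulVec, one_smul]
    rfl
  mul_mem' := by
    rintro ⟨h, A⟩ ⟨h', A'⟩ h1 h2 i
    obtain ⟨c, hc, e1⟩ := h2 i
    obtain ⟨d, hd, e2⟩ := h1 (ψ h' i)
    refine ⟨c * d, mul_ne_zero hc hd, ?_⟩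
    show ρ (A * A') *ᵥ v i = (c * d) • v (ψ (h * h') i)
    rw [map_mul, ← mulVec_mulVec, e1, mulVec_smul, e2, smul_smul, map_mul]
    rfl
  inv_mem' := by
    rintro ⟨h, A⟩ h1 i
    obtain ⟨c, hc, e1⟩ := h1 (ψ h⁻¹ i)
    refine ⟨c⁻¹, inv_ne_zero hc, ?_⟩
    show ρ A⁻¹ *ᵥ v i = c⁻¹ • v (ψ h⁻¹ i)
    have h2 : ψ h (ψ h⁻¹ i) = i := by
      rw [map_inv]; exact Equiv.apply_symm_apply _ _
    have e1' : ρ A *ᵥ v (ψ h⁻¹ i) = c • v i := by
      rw [e1]
      show c • v (ψ h (ψ h⁻¹ i)) = _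
      rw [h2]
    have h3 : ρ A⁻¹ *ᵥ (ρ A *ᵥ v (ψ h⁻¹ i)) = v (ψ h⁻¹ i) := by
      rw [mulVec_mulVec, ← map_mul, inv_mul_cancel, map_one, one_mulVec]
    rw [e1', mulVec_smul] at h3
    rw [← h3, smul_smul, inv_mul_cancel₀ hc, one_smul]

variable {ψ : H →* Equiv.Perm X} {ρ : S →* Matrix ι ι K} {v : X → ι → K}

theorem mem_labP {h : H} {A : S} : (h, A) ∈ labP ψ ρ v ↔ ∀ i, ∃ c : K, c ≠ 0 ∧ ρ A *ᵥ v i = c • v (ψ h i) := Iff.rfl

theorem lab_snd_inj (hinj : Function.Injective ψ) (hv : ∀ i j, (∃ c : K, c ≠ 0 ∧ v i = c • v j) → i = j) {h : H}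
    (h1 : (h, (1 : S)) ∈ labP ψ ρ v) : h = 1 := by
  apply hinj
  rw [map_one]
  ext i
  obtain ⟨c, hc, e⟩ := h1 i
  rw [map_one, one_mulVec] at e
  exact (hv i _ ⟨c, hc, e⟩).symm

/-- the frobenius map normalizes -/
theorem lab_semi {σ : K →+* K} (hτ : ∀ A : S, ∃ A' : S, ρ A' = (ρ A).map σ) {s : H}
    (hs : ∀ i, ∃ c : K, c ≠ 0 ∧ v (ψ s i) = c • fun t => σ (v i t)) {h : H} {A : S} (hh : (h, A) ∈ labP ψ ρ v) :
    ∃ A' : S, (s * h * s⁻¹, A') ∈ labP ψ ρ v := by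
  obtain ⟨A', hA'⟩ := hτ A
  refine ⟨A', fun j => ?_⟩
  obtain ⟨i, rfl⟩ : ∃ i, ψ s i = j := ⟨ψ s⁻¹ j, by rw [map_inv]; exact Equiv.apply_symm_apply _ _⟩
  obtain ⟨c, hc, e1⟩ := hs i
  obtain ⟨d, hd, e2⟩ := hh i
  obtain ⟨c', hc', e3⟩ := hs (ψ h i)
  have h1 : ψ (s * h * s⁻¹) (ψ s i) = ψ s (ψ h i) := by
    rw [map_mul, map_mul, map_inv]
    show ψ s (ψ h ((ψ s)⁻¹ (ψ s i))) = _
    congr 2
    exact Equiv.symm_apply_apply _ _
  have h2 : ρ A' *ᵥ (fun t => σ (v i t)) = fun t => σ ((ρ A *ᵥ v i) t) := by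
    rw [hA']
    ext t
    simp only [mulVec, dotProduct, map_sum, map_mul, Matrix.map_apply]
  have h3 : (fun t => σ ((ρ A *ᵥ v i) t)) = σ d • fun t => σ (v (ψ h i) t) := by
    ext t
    show σ ((ρ A *ᵥ v i) t) = σ d * σ (v (ψ h i) t)
    rw [e2]
    show σ (d * v (ψ h i) t) = _
    rw [map_mul]
  have hsd : σ d ≠ 0 := by
    rw [Ne, map_eq_zero]; exact hd
  refine ⟨c * σ d * c'⁻¹, mul_ne_zero (mul_ne_zero hc hsd) (inv_ne_zero hc'), ?_⟩
  show ρ A' *ᵥ v (ψ s i) = (c * σ d * c'⁻¹) • v (ψ (s * h * s⁻¹) (ψ s i))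
  rw [h1, e1, mulVec_smul, h2, h3, e3, smul_smul, smul_smul, mul_assoc (c * σ d), inv_mul_cancel₀ hc', mul_one]

theorem lab_sq {σ : K →+* K} (hσ : ∀ a, σ (σ a) = a) {s : H}
    (hs : ∀ i, ∃ c : K, c ≠ 0 ∧ v (ψ s i) = c • fun t => σ (v i t)) : (s * s, (1 : S)) ∈ labP ψ ρ v := by
  intro i
  obtain ⟨c, hc, e1⟩ := hs i
  obtain ⟨d, hd, e2⟩ := hs (ψ s i)
  have h3 : v (ψ s (ψ s i)) = (d * σ c) • v i := by
    rw [e2, e1]
    ext t
    show d * σ (c * σ (v i t)) = d * σ c * v i t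
    rw [map_mul, hσ, mul_assoc]
  have h4 : d * σ c ≠ 0 := mul_ne_zero hd (by rw [Ne, map_eq_zero]; exact hc)
  refine ⟨(d * σ c)⁻¹, inv_ne_zero h4, ?_⟩
  show ρ 1 *ᵥ v i = (d * σ c)⁻¹ • v (ψ (s * s) i)
  rw [map_one, one_mulVec, map_mul]
  show v i = (d * σ c)⁻¹ • v (ψ s (ψ s i))
  rw [h3, smul_smul, inv_mul_cancel₀ h4, one_smul]

/-- the group of permutations which come from matrices -/
def labN (ψ : H →* Equiv.Perm X) (ρ : S →* Matrix ι ι K) (v : X → ι → K) : Subgroup H :=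
  (labP ψ ρ v).map (MonoidHom.fst H S)

theorem mem_labN {h : H} : h ∈ labN ψ ρ v ↔ ∃ A : S, (h, A) ∈ labP ψ ρ v := by
  constructor
  · rintro ⟨⟨h', A⟩, h1, rfl⟩
    exact ⟨A, h1⟩
  · rintro ⟨A, h1⟩
    exact ⟨(h, A), h1, rfl⟩

/-- identification with the matrix group -/
theorem lab_equiv [Finite S] [Finite H] (h1 : ∀ A : S, ((1 : H), A) ∈ labP ψ ρ v → A = 1)
    (h2 : ∀ h : H, (h, (1 : S)) ∈ labP ψ ρ v → h = 1) :
    Nat.card (labN ψ ρ v) ≤ Nat.card S ∧
    (Nat.card S ≤ Nat.card (labN ψ ρ v) → Nonempty (labN ψ ρ v ≃* S)) := by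
  let f : labP ψ ρ v →* S := (MonoidHom.snd H S).comp (labP ψ ρ v).subtype
  let g : labP ψ ρ v →* labN ψ ρ v := (MonoidHom.fst H S).subgroupMap (labP ψ ρ v)
  have hf : Function.Injective f := by
    rw [injective_iff_map_eq_one]
    rintro ⟨⟨h, A⟩, hA⟩ h3
    have h4 : A = 1 := h3
    subst h4
    have h5 := h2 h hA
    subst h5
    rfl
  have hg : Function.Bijective g := by
    refine ⟨?_, (MonoidHom.fst H S).subgroupMap_surjective _⟩
    rw [injective_iff_map_eq_one]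
    rintro ⟨⟨h, A⟩, hA⟩ h3
    have h4 : h = 1 := congrArg Subtype.val h3
    subst h4
    have h5 := h1 A hA
    subst h5
    rfl
  have c1 : Nat.card (labP ψ ρ v) = Nat.card (labN ψ ρ v) := Nat.card_eq_of_bijective g hg
  have c2 : Nat.card (labP ψ ρ v) ≤ Nat.card S := Nat.card_le_card_of_injective f hf
  refine ⟨by rw [← c1]; exact c2, fun h3 => ?_⟩
  have c3 : Nat.card (labP ψ ρ v) = Nat.card S := le_antisymm c2 (by rw [c1]; exact h3)
  have hf' : Function.Bijective f := by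
    rw [Nat.bijective_iff_injective_and_card]
    exact ⟨hf, c3⟩
  exact ⟨(MulEquiv.ofBijective g hg).symm.trans (MulEquiv.ofBijective f hf')⟩

/-- a group generated by a normalized subgroup and an element whose square is in the subgroup -/
theorem idx_le_two [Finite H] {N : Subgroup H} {s : H} (hs2 : s * s ∈ N) (hn : ∀ h ∈ N, s * h * s⁻¹ ∈ N) {G0 : Set H}
    (hG : Subgroup.closure G0 = ⊤) (hG0 : ∀ g ∈ G0, g ∈ N ∨ s * g ∈ N) : N.Normal ∧ N.index ≤ 2 := by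
  have hn' : ∀ h ∈ N, s⁻¹ * h * s ∈ N := by
    intro h hh
    have h1 := hn _ (N.mul_mem (N.mul_mem (N.inv_mem hs2) hh) hs2)
    have h2 : s * ((s * s)⁻¹ * h * (s * s)) * s⁻¹ = s⁻¹ * h * s := by group
    rwa [h2] at h1
  have hall : ∀ h : H, h ∈ N ∨ s * h ∈ N := by
    intro h
    have hh : h ∈ Subgroup.closure G0 := by rw [hG]; exact Subgroup.mem_top h
    refine Subgroup.closure_induction (p := fun h _ => h ∈ N ∨ s * h ∈ N) ?_ ?_ ?_ ?_ hh
    · exact fun g hg => hG0 g hg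
    · exact Or.inl (one_mem _)
    · rintro a b - - (ha | ha) (hb | hb)
      · exact Or.inl (N.mul_mem ha hb)
      · right
        have h1 := N.mul_mem (hn a ha) hb
        have h2 : s * a * s⁻¹ * (s * b) = s * (a * b) := by group
        rwa [h2] at h1
      · right
        have h1 := N.mul_mem ha hb
        rwa [mul_assoc] at h1
      · left
        have h1 := N.mul_mem (N.mul_mem (hn' _ ha) (N.inv_mem hs2)) hb
        have h2 : s⁻¹ * (s * a) * s * (s * s)⁻¹ * (s * b) = a * b := by group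
        rwa [h2] at h1
    · rintro a - (ha | ha)
      · exact Or.inl (N.inv_mem ha)
      · right
        have h1 := N.mul_mem (hn _ (N.inv_mem ha)) hs2
        have h2 : s * (s * a)⁻¹ * s⁻¹ * (s * s) = s * a⁻¹ := by group
        rwa [h2] at h1
  constructor
  · constructor
    intro a ha g
    rcases hall g with hg | hg
    · exact N.mul_mem (N.mul_mem hg ha) (N.inv_mem hg)
    · have h1 := hn' _ (N.mul_mem (N.mul_mem hg ha) (N.inv_mem hg))
      have h2 : s⁻¹ * (s * g * a * (s * g)⁻¹) * s = g * a * g⁻¹ := by group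
      rwa [h2] at h1
  · classical
    have h1 : ∀ q : H ⧸ N, q = ((1 : H) : H ⧸ N) ∨ q = ((s⁻¹ : H) : H ⧸ N) := by
      intro q
      obtain ⟨h, rfl⟩ := QuotientGroup.mk_surjective q
      rcases hall h with hh | hh
      · left
        rw [QuotientGroup.eq, mul_one]
        exact N.inv_mem hh
      · right
        rw [QuotientGroup.eq]
        have h2 := N.inv_mem hh
        rwa [_root_.mul_inv_rev] at h2
    have h2 : Function.Surjective (fun b : Bool => if b then ((1 : H) : H ⧸ N) else ((s⁻¹ : H) : H ⧸ N)) := by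
      intro q
      rcases h1 q with h | h
      · exact ⟨true, by simp [h]⟩
      · exact ⟨false, by simp [h]⟩
    have h3 := Nat.card_le_card_of_surjective _ h2
    rw [Nat.card_eq_fintype_card (α := Bool), Fintype.card_bool] at h3
    exact h3

end lab

end Cfsg.Agent.H26.Sp
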