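import Mathlib
import Cfsg.Agent.H12_ZJ5
import Cfsg.Agent.H27_GT1

/-! Axiomatic Glauberman--Thompson: group part. -/

set_option autoImplicit false
universe u v w
open Pointwise
open scoped commutatorElement

namespace Cfsg.Agent.H27.Ax

open Cfsg Subgroup Cfsg.Agent.H13.Syl Cfsg.Agent.H12.ZJ Cfsg.Agent.H12

variable {G : Type*} [Group G] [Finite G] {p : ℕ} [hp : Fact p.Prime]

theorem axi_inf {S : Subgroup G} (hS : IsSylIn p S ⊤) (𝒜 : Set (Subgroup G))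
    (h𝒜 : ∀ A ∈ 𝒜, A ≤ S ∧ ∀ x ∈ A, ∀ y ∈ A, x * y = y * x) (hne : 𝒜.Nonempty)
    (hSI : S ≤ normalizer ((sInf 𝒜 : Subgroup G) : Set G))
    (hmax : ∀ X : Subgroup G, S ≤ X → X = S ∨ X = ⊤)
    (hinv : ∀ R : Subgroup G, R.Normal → R ≤ S → (∃ A ∈ 𝒜, A ≤ R) → (sInf {A | A ∈ 𝒜 ∧ A ≤ R}).Normal)
    (hrep : ∀ B : Subgroup G, B.Normal → B ≤ S → ⁅⁅B, B⁆, B⁆ = ⊥ → (∃ A ∈ 𝒜, ⁅B, B⁆ ≤ A ∧ ¬ B ≤ A) →
      ∃ A ∈ 𝒜, ⁅B, B⁆ ≤ A ∧ ¬ B ≤ A ∧ B ≤ normalizer (A : Set G))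
    (hst : ∀ (P : Subgroup G) [P.Normal], IsPGroup p P → ∀ A : Subgroup G, A ≤ S →
      (∀ a ∈ A, ∀ b ∈ A, a * b = b * a) → P ≤ normalizer (A : Set G) → A ≤ pAct p P) (m : ℕ) :
    ∀ (B : Subgroup G), B.Normal → IsPGroup p B → Nat.card B = m → (B ⊓ sInf 𝒜).Normal := by
  induction m using Nat.strong_induction_on with
  | _ m ih =>
  intro B hB hBp hBm
  set Z := sInf 𝒜 with hZ
  have IH : ∀ B₁ : Subgroup G, B₁.Normal → B₁ < B → (B₁ ⊓ Z).Normal := fun B₁ h1 h2 =>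
    ih (Nat.card B₁) (hBm ▸ H2.Card.card_lt_of_lt h2) B₁ h1 (hBp.to_le h2.le) rfl
  have hcl : normalClosure ((B ⊓ Z : Subgroup G) : Set G) ≤ B := normalClosure_le_normal inf_le_left
  by_cases hBcl : normalClosure ((B ⊓ Z : Subgroup G) : Set G) = B
  swap
  · have h1 := IH _ normalClosure_normal (lt_of_le_of_ne hcl hBcl)
    have h2 : normalClosure ((B ⊓ Z : Subgroup G) : Set G) ⊓ Z = B ⊓ Z :=
      le_antisymm (inf_le_inf_right _ hcl) (le_inf subset_normalClosure inf_le_right)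
    rwa [h2] at h1
  by_cases hBb : B = ⊥
  · rw [hBb, bot_inf_eq]; infer_instance
  have hBS : B ≤ S := by
    obtain ⟨S', hS'⟩ := hS.exists_sylow_top
    rw [← hS']; exact hBp.le_sylow_of_normal S'
  have CL : ∀ K : Subgroup G, K.Normal → B ⊓ Z ≤ K → B ≤ K := fun K hK h => eq_of_normalClosure hBcl hK h
  have hB'n : (⁅B, B⁆ : Subgroup G).Normal := inferInstance
  have hB'lt := commutator_lt_of_isPGroup hBp hBb
  have hR : (⁅B, B⁆ ⊓ Z).Normal := IH _ hB'n hB'lt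
  have hBZZ : ∀ b ∈ B, ∀ z ∈ Z, ⁅b, z⁆ ∈ Z := by
    intro b hb z hz
    rw [commutatorElement_def]
    exact Z.mul_mem (((mem_normalizer_iff.mp (hSI (hBS hb))) z).mp hz) (Z.inv_mem hz)
  have hB'Z : ⁅B, B⁆ ≤ Z := by
    haveI := hR
    have h1 := CL _ (commute_mod_aux hB hR) (by
      rintro z ⟨hz1, hz2⟩
      rw [mem_commute_mod]
      intro b hb
      exact ⟨commutator_mem_commutator hb hz1, hBZZ b hb z hz2⟩)
    rw [commutator_le]
    intro a ha b hb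
    have h2 := h1 hb
    rw [mem_commute_mod] at h2
    exact (h2 a ha).2
  obtain ⟨A₀, hA₀⟩ := hne
  have hZA : ∀ A ∈ 𝒜, Z ≤ A := fun A hA => sInf_le hA
  have hcl2 : ⁅⁅B, B⁆, B⁆ = ⊥ := by
    have h1 := CL (centralizer ((⁅B, B⁆ : Subgroup G) : Set G)) inferInstance (by
      intro z hz
      rw [mem_centralizer_iff]
      intro y hy
      exact (h𝒜 A₀ hA₀).2 y (hZA A₀ hA₀ (hB'Z hy)) z (hZA A₀ hA₀ hz.2))
    rw [eq_bot_iff, commutator_le]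
    intro x hx b hb
    rw [mem_bot, commutatorElement_eq_one_iff_mul_comm]
    exact (mem_centralizer_iff.mp (h1 hb)) x hx
  by_cases hall : ∀ A ∈ 𝒜, B ≤ A
  · have : B ≤ Z := le_sInf hall
    rwa [inf_eq_left.2 this]
  exfalso
  push Not at hall
  obtain ⟨A₁, hA₁, hBA₁⟩ := hall
  obtain ⟨A, hA, hBA, hnBA, hBN⟩ := hrep B hB hBS hcl2 ⟨A₁, hA₁, hB'Z.trans (hZA A₁ hA₁), hBA₁⟩
  haveI := hB
  set E := pAct p B with hE
  haveI hEn : E.Normal := pAct_normal p B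
  have hAE : A ≤ E := hst B hBp A (h𝒜 A hA).1 (h𝒜 A hA).2 hBN
  have hAR : A ≤ S ⊓ E := le_inf (h𝒜 A hA).1 hAE
  have hSN : S ≤ normalizer ((S ⊓ E : Subgroup G) : Set G) := by
    intro s hs
    rw [mem_normalizer_iff]
    intro x
    constructor
    · rintro ⟨h1, h2⟩
      exact ⟨S.mul_mem (S.mul_mem hs h1) (S.inv_mem hs), hEn.conj_mem x h2 s⟩
    · rintro ⟨h1, h2⟩
      have e : x = s⁻¹ * (s * x * s⁻¹) * s⁻¹⁻¹ := by group
      constructor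
      · rw [e]; exact S.mul_mem (S.mul_mem (S.inv_mem hs) h1) (S.inv_mem (S.inv_mem hs))
      · rw [e]; exact hEn.conj_mem _ h2 s⁻¹
  rcases hmax _ hSN with h | h
  · -- `B ⊓ Z` is normal
    apply hnBA
    have hn : (B ⊓ Z).Normal := by
      rw [← normalizer_eq_top_iff, eq_top_iff]
      intro g _
      obtain ⟨c, hc, n, hn, rfl⟩ := frattini_pAct hS B g
      refine mul_mem ?_ ?_
      · rw [mem_normalizer_iff]
        intro x
        have key : ∀ c ∈ centralizer (B : Set G), ∀ x ∈ B ⊓ Z, c * x * c⁻¹ ∈ B ⊓ Z := by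
          intro c hc x hx
          rw [← (mem_centralizer_iff.1 hc) x hx.1, mul_inv_cancel_right]; exact hx
        refine ⟨key c hc x, fun hx => ?_⟩
        have := key c⁻¹ (inv_mem hc) _ hx
        simpa [mul_assoc] using this
      · have hnS : n ∈ S := by
          have : n ∈ normalizer ((S ⊓ E : Subgroup G) : Set G) := hn
          rwa [h] at this
        rw [mem_normalizer_iff]
        intro x
        rw [mem_inf, mem_inf, ← (mem_normalizer_iff.1 (hSI hnS) x)]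
        exact and_congr_left fun _ => ⟨fun hx => hB.conj_mem x hx n, fun hx => by
          have := hB.conj_mem _ hx n⁻¹
          simpa [mul_assoc] using this⟩
    exact (CL _ hn le_rfl).trans (inf_le_right.trans (hZA A hA))
  · -- `S ⊓ E` is normal
    have hRn : (S ⊓ E).Normal := normalizer_eq_top_iff.1 h
    have hIn := hinv _ hRn inf_le_left ⟨A, hA, hAR⟩
    have hZI : Z ≤ sInf {A | A ∈ 𝒜 ∧ A ≤ S ⊓ E} := sInf_le_sInf fun X hX => hX.1
    apply hnBA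
    exact (CL _ hIn (inf_le_right.trans hZI)).trans (sInf_le ⟨hA, hAR⟩)

theorem axi {S : Subgroup G} (hS : IsSylIn p S ⊤) (𝒜 : Set (Subgroup G))
    (h𝒜 : ∀ A ∈ 𝒜, A ≤ S ∧ ∀ x ∈ A, ∀ y ∈ A, x * y = y * x) (hne : 𝒜.Nonempty)
    (hSI : S ≤ normalizer ((sInf 𝒜 : Subgroup G) : Set G))
    (hmax : ∀ X : Subgroup G, S ≤ X → X = S ∨ X = ⊤)
    (hinv : ∀ R : Subgroup G, R.Normal → R ≤ S → (∃ A ∈ 𝒜, A ≤ R) → (sInf {A | A ∈ 𝒜 ∧ A ≤ R}).Normal)
    (hrep : ∀ B : Subgroup G, B.Normal → B ≤ S → ⁅⁅B, B⁆, B⁆ = ⊥ → (∃ A ∈ 𝒜, ⁅B, B⁆ ≤ A ∧ ¬ B ≤ A) →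
      ∃ A ∈ 𝒜, ⁅B, B⁆ ≤ A ∧ ¬ B ≤ A ∧ B ≤ normalizer (A : Set G))
    (hst : ∀ (P : Subgroup G) [P.Normal], IsPGroup p P → ∀ A : Subgroup G, A ≤ S →
      (∀ a ∈ A, ∀ b ∈ A, a * b = b * a) → P ≤ normalizer (A : Set G) → A ≤ pAct p P)
    (hc : centralizer (pCore p G : Set G) ≤ pCore p G) : (sInf 𝒜).Normal := by
  haveI : (pCore p G).Normal := H1.Nilp.pCore_normal p
  have hp1 : IsPGroup p (pCore p G) := H1.Nilp.pCore_isPGroup p
  have hOS : pCore p G ≤ S := by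
    obtain ⟨S', hS'⟩ := hS.exists_sylow_top
    rw [← hS']; exact hp1.le_sylow_of_normal S'
  obtain ⟨A₀, hA₀⟩ := id hne
  have hIA : sInf 𝒜 ≤ A₀ := sInf_le hA₀
  have h1 := hst (pCore p G) hp1 (sInf 𝒜) (hIA.trans (h𝒜 A₀ hA₀).1)
    (fun a ha b hb => (h𝒜 A₀ hA₀).2 a (hIA ha) b (hIA hb)) (hOS.trans hSI)
  have h2 : sInf 𝒜 ≤ pCore p G :=
    h1.trans (H1.Nilp.le_pCore (pAct_normal p _) (PStab.isPGroup_comap (hp1.to_le hc) (H1.Nilp.pCore_isPGroup p)))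
  have h3 := axi_inf hS 𝒜 h𝒜 hne hSI hmax hinv hrep hst _ (pCore p G) inferInstance hp1 rfl
  rwa [inf_eq_right.mpr h2] at h3

/-- stability on abelian subgroups from quadratic stability -/
theorem stab_of_quad {S : Subgroup G} (hSp : IsPGroup p S)
    (hst : ∀ (B : Subgroup G) [B.Normal], IsPGroup p B → ∀ a : G, ⁅⁅B, zpowers a⁆, zpowers a⁆ = ⊥ →
      (∃ k, a ^ (p ^ k) = 1) →
      (QuotientGroup.mk a : G ⧸ centralizer (B : Set G)) ∈ pCore p (G ⧸ centralizer (B : Set G))) :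
    ∀ (P : Subgroup G) [P.Normal], IsPGroup p P → ∀ A : Subgroup G, A ≤ S →
      (∀ a ∈ A, ∀ b ∈ A, a * b = b * a) → P ≤ normalizer (A : Set G) → A ≤ pAct p P := by
  intro B hB hBp A hAS hAc hBA a ha
  have h1 : ⁅⁅B, zpowers a⁆, zpowers a⁆ = ⊥ := by
    have haA : zpowers a ≤ A := by rw [zpowers_le]; exact ha
    have h2 : ⁅B, zpowers a⁆ ≤ A := by
      rw [commutator_le]
      intro b hb x hx
      rw [commutatorElement_def]
      exact mul_mem ((mem_normalizer_iff.1 (hBA hb) x).1 (haA hx)) (inv_mem (haA hx))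
    rw [eq_bot_iff, commutator_le]
    intro x hx y hy
    rw [mem_bot, commutatorElement_eq_one_iff_mul_comm]
    exact hAc x (h2 hx) y (haA hy)
  exact hst B hBp a h1 (by
    obtain ⟨k, hk⟩ := hSp ⟨a, hAS ha⟩
    exact ⟨k, congrArg Subtype.val hk⟩)

end Cfsg.Agent.H27.Ax
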