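import Mathlib
import Cfsg.Agent.H27_Ax1
import Cfsg.Agent.H27_Real

/-! Axiomatic Glauberman--Thompson criterion. -/

set_option autoImplicit false
universe u v w
open scoped commutatorElement

namespace Cfsg.Agent.H27.Fus

open Cfsg Cfsg.FusionSystem Cfsg.Agent.H27.Grp

/-- A sparse non-inner system, `p` odd: data of its model. -/
theorem sparse_model {p : ℕ} [Fact p.Prime] (hp2 : p ≠ 2) {Ω : Type u} [Group Ω] {S : Subgroup Ω} [Finite S]
    {E : FusionSystem S} (hS : IsPGroup p S) (hsp : Sparse p E) (hE : E.IsSaturated p)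
    (hni : ¬ ∀ P f, Map E P f → Map (innerFusionSystem S) P f) :
    ∃ (G : Type u) (_ : Group G) (_ : Finite G) (ι : S →* G) (T : Sylow p G), MD E p E.core G ι ∧
      (T : Subgroup G) = ι.range ∧ (∀ X : Subgroup G, (T : Subgroup G) ≤ X → X = T ∨ X = ⊤) ∧
      Cfsg.Agent.H2.Good.IsGood p G ∧ Subgroup.centralizer (pCore p G : Set G) ≤ pCore p G := by
  obtain ⟨hEs, Q₀, hQ₀, hQ₀c⟩ := sparse_odd hp2 hS hsp hE hni
  have hQ := core_normal E
  have hQS : E.core ≤ S := (isNormal_iff.1 hQ).1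
  have hQc : E.IsCentric E.core := by
    refine centric_of_core ?_
    have h1 : Q₀ ≤ E.core := le_core hQ₀
    have h2 : centralizerIn S E.core ≤ centralizerIn S Q₀ := fun x hx =>
      mem_cen.2 ⟨cen_le hx, fun y hy => (mem_cen.1 hx).2 y (h1 hy)⟩
    exact (h2.trans (IsCentric.cen_le hQ₀c)).trans h1
  obtain ⟨G, _, ι, hM⟩ := exists_model hS hE hQ hQc
  have hMD := MD.of_model hS hE hQ hQc hM
  haveI := hMD.fin
  obtain ⟨T, hT⟩ := hMD.syl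
  have hmax : ∀ X : Subgroup G, (T : Subgroup G) ≤ X → X = T ∨ X = ⊤ := by
    rw [hT]; exact Sparse.maximal hsp hMD
  have hQI : QInn E E.core := by
    by_cases hle : S ≤ E.core
    · intro R f hf _
      refine ⟨1, S.one_mem, fun x hx => hle ?_⟩
      have hxS := hf.le hx
      exact S.mul_mem (S.inv_mem (S.mul_mem (S.mul_mem S.one_mem hxS) (S.inv_mem S.one_mem))) (hf.mem hx)
    · have hQb : E.core ≠ ⊥ := by
        intro hb
        apply hle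
        have h1 : S ≤ centralizerIn S E.core := fun s hs => mem_cen.2 ⟨hs, fun y hy => by
          rw [hb, Subgroup.mem_bot] at hy; rw [hy]; group⟩
        exact h1.trans (IsCentric.cen_le hQc)
      refine qinn_odd hp2 hS hE hQb hle fun V hVS hVn hV => hsp.nmap hS hE hVS hVn fun h => hV (le_core h)
  haveI hQn := hMD.normal_map
  have hnpc := npc_of_qinn hS hMD hQI
  have hGp : ¬ IsPGroup p G := fun h => hni (inner_of_model_pgroup hMD h)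
  have hQp : IsPGroup p ((E.core.subgroupOf S).map ι) := (hS.to_subgroup _).map _
  refine ⟨G, inferInstance, inferInstance, ι, T, hMD, hT, hmax, GT.good_of_min T hQp hnpc hmax hGp, ?_⟩
  have h1 : (E.core.subgroupOf S).map ι ≤ pCore p G := Cfsg.Agent.H1.Nilp.le_pCore hQn hQp
  refine le_trans (Subgroup.centralizer_le h1) (le_trans ?_ h1)
  intro g hg
  obtain ⟨q, hq, hqg⟩ := hMD.cen g fun q hq => by
    have := Subgroup.mem_centralizer_iff.1 hg (tt ι q) ((mem_im_sub hQS).2 ⟨q, hq, rfl⟩)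
    exact this.symm
  exact (mem_im_sub hQS).2 ⟨q, hq, hqg⟩

theorem ax_inner {p : ℕ} [Fact p.Prime] (hp2 : p ≠ 2) {Ω : Type u} [Group Ω] {S : Subgroup Ω} [Finite S]
    (hS : IsPGroup p S) {F : FusionSystem S} (hF : F.IsSaturated p) (𝒜 : Set (Subgroup Ω))
    (h𝒜 : ∀ A ∈ 𝒜, A ≤ S ∧ ∀ x ∈ A, ∀ y ∈ A, x * y = y * x) (hne : 𝒜.Nonempty)
    (hinv : ∀ Q : Subgroup Ω, (∃ A ∈ 𝒜, A ≤ Q) → ∀ f, Iso F Q Q f →
      ∀ x ∈ Q, (∀ A ∈ 𝒜, A ≤ Q → x ∈ A) → ∀ A ∈ 𝒜, A ≤ Q → f x ∈ A)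
    (hrep : ∀ B : Subgroup Ω, B ≤ S → ⁅⁅B, B⁆, B⁆ = ⊥ → (∃ A ∈ 𝒜, ⁅B, B⁆ ≤ A ∧ ¬ B ≤ A) →
      ∃ A ∈ 𝒜, ⁅B, B⁆ ≤ A ∧ ¬ B ≤ A ∧ B ≤ Subgroup.normalizer (A : Set Ω))
    (h0 : ∀ P f, Nmap F (sInf 𝒜) P f → Map (innerFusionSystem S) P f) :
    ∀ P f, Map F P f → Map (innerFusionSystem S) P f := by
  by_contra hni
  obtain ⟨E, hE, hEF, hEni, hsp⟩ := exists_sparse hF hni
  obtain ⟨G, _, _, ι, T, hMD, hT, hmax, hgood, hc⟩ := sparse_model hp2 hS hsp hE hEni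
  obtain ⟨A₀, hA₀⟩ := id hne
  have hIS : sInf 𝒜 ≤ S := (sInf_le hA₀).trans (h𝒜 A₀ hA₀).1
  apply hEni
  suffices hn : E.IsNormal (sInf 𝒜) by
    intro P f hf
    obtain ⟨g, hg, hgf, hgI⟩ := (isNormal_iff.1 hn).2 P f hf
    have hIm : S ≤ normalizerIn S (sInf 𝒜) := StronglyClosed.le_normalizer (IsNormal.strong hn)
    exact h0 P f ⟨hf.le.trans hIm, fun x hx => hIm (hf.mem hx), g, hEF _ _ hg, hgf, hgI⟩
  -- transport
  let τ : Subgroup Ω → Subgroup G := fun A => (A.subgroupOf S).map ι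
  have hmτ : ∀ A ≤ S, ∀ g, g ∈ τ A ↔ ∃ x ∈ A, tt ι x = g := fun A hA g => mem_im_sub hA
  have hτm : ∀ A ≤ S, ∀ x ∈ S, tt ι x ∈ τ A ↔ x ∈ A := by
    intro A hA x hx
    rw [hmτ A hA]
    exact ⟨fun ⟨y, hy, hyx⟩ => by rw [← tt_inj hMD.inj (hA hy) hx hyx]; exact hy, fun h => ⟨x, h, rfl⟩⟩
  have hTm : ∀ g : G, g ∈ (T : Subgroup G) ↔ ∃ x ∈ S, tt ι x = g := by
    intro g; rw [hT]; exact mem_range_iff
  have hτT : ∀ A ≤ S, τ A ≤ T := fun A hA g hg => by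
    obtain ⟨x, hx, rfl⟩ := (hmτ A hA g).1 hg
    exact (hTm _).2 ⟨x, hA hx, rfl⟩
  let 𝒜' : Set (Subgroup G) := τ '' 𝒜
  have hmI : ∀ x ∈ S, tt ι x ∈ sInf 𝒜' ↔ x ∈ sInf 𝒜 := by
    intro x hx
    rw [Subgroup.mem_sInf, Subgroup.mem_sInf]
    constructor
    · intro h A hA
      exact (hτm A (h𝒜 A hA).1 x hx).1 (h _ ⟨A, hA, rfl⟩)
    · rintro h _ ⟨A, hA, rfl⟩
      exact (hτm A (h𝒜 A hA).1 x hx).2 (h A hA)
  have hI'S : sInf 𝒜' ≤ T := (sInf_le (show τ A₀ ∈ 𝒜' from ⟨A₀, hA₀, rfl⟩)).trans (hτT _ (h𝒜 A₀ hA₀).1)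
  -- preimage
  let σ : Subgroup G → Subgroup Ω := fun X => (X.comap ι).map S.subtype
  have hσS : ∀ X, σ X ≤ S := fun X => Subgroup.map_subtype_le _
  have hσm : ∀ X, ∀ x ∈ S, x ∈ σ X ↔ tt ι x ∈ X := by
    intro X x hx
    constructor
    · rintro ⟨z, hz, rfl⟩
      rw [show S.subtype z = (z : Ω) from rfl, tt_apply]; exact hz
    · intro h
      rw [tt_of_mem ι hx] at h
      exact ⟨⟨x, hx⟩, h, rfl⟩
  have hτσ : ∀ A ≤ S, ∀ X : Subgroup G, τ A ≤ X ↔ A ≤ σ X := by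
    intro A hA X
    constructor
    · intro h x hx
      exact (hσm X x (hA hx)).2 (h ((hτm A hA x (hA hx)).2 hx))
    · intro h g hg
      obtain ⟨x, hx, rfl⟩ := (hmτ A hA g).1 hg
      exact (hσm X x (hA hx)).1 (h hx)
  -- invariance of intersections
  have hinvI : ∀ s ∈ S, ∀ x ∈ sInf 𝒜, s * x * s⁻¹ ∈ sInf 𝒜 := by
    intro s hs x hx
    have hi : Iso F S S (fun x => s * x * s⁻¹) := by
      refine (map_conj F le_rfl hs).iso_of_im_eq ?_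
      exact StronglyClosed.im_eq (strongly_top F) (map_conj F le_rfl hs) le_rfl
    rw [Subgroup.mem_sInf]
    intro A hA
    exact hinv S ⟨A₀, hA₀, (h𝒜 A₀ hA₀).1⟩ _ hi x (hIS hx) (fun B hB _ => Subgroup.mem_sInf.1 hx B hB) A hA (h𝒜 A hA).1
  have hSI : (T : Subgroup G) ≤ Subgroup.normalizer ((sInf 𝒜' : Subgroup G) : Set G) := by
    refine le_normalizer_of fun t ht y hy => ?_
    obtain ⟨s, hs, rfl⟩ := (hTm t).1 ht
    obtain ⟨x, hx, rfl⟩ := (hTm y).1 (hI'S hy)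
    rw [← tt_conj ι hs hx]
    exact (hmI _ (S.mul_mem (S.mul_mem hs hx) (S.inv_mem hs))).2 (hinvI s hs x ((hmI x hx).1 hy))
  have hfin := Ax.axi (S := (T : Subgroup G)) (Cfsg.Agent.H13.Syl.isSylIn_sylow_top T) 𝒜' ?_ ⟨_, A₀, hA₀, rfl⟩ hSI hmax ?_ ?_
    (Ax.stab_of_quad T.2 (fun _ _ hB _ hq _ => hgood.stable hp2 hB hq)) hc
  · refine hMD.normal_of_nor hIS fun g x hx => ?_
    have h1 := hfin.conj_mem _ ((hmI x (hIS hx)).2 hx) g
    obtain ⟨y, hy, hyg⟩ := (hTm _).1 (hI'S h1)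
    exact ⟨y, (hmI y hy).1 (by rw [hyg]; exact h1), hyg⟩
  · rintro _ ⟨A, hA, rfl⟩
    refine ⟨hτT A (h𝒜 A hA).1, fun a ha b hb => ?_⟩
    obtain ⟨x, hx, rfl⟩ := (hmτ A (h𝒜 A hA).1 a).1 ha
    obtain ⟨y, hy, rfl⟩ := (hmτ A (h𝒜 A hA).1 b).1 hb
    rw [← tt_mul ι ((h𝒜 A hA).1 hx) ((h𝒜 A hA).1 hy), ← tt_mul ι ((h𝒜 A hA).1 hy) ((h𝒜 A hA).1 hx),
      (h𝒜 A hA).2 x hx y hy]
  · rintro R hR hRT ⟨_, ⟨A, hA, rfl⟩, hAR⟩
    refine ⟨fun y hy g => ?_⟩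
    have hyR : y ∈ R := (sInf_le (show τ A ∈ {A | A ∈ 𝒜' ∧ A ≤ R} from ⟨⟨A, hA, rfl⟩, hAR⟩)
      |>.trans hAR) hy
    obtain ⟨x, hx, rfl⟩ := (hTm y).1 (hRT hyR)
    have hxR : x ∈ σ R := (hσm R x hx).2 hyR
    have hnorm : ∀ z ∈ σ R, ∃ w ∈ σ R, tt ι w = g * tt ι z * g⁻¹ := by
      intro z hz
      have hzS := hσS R hz
      have h1 := hR.conj_mem _ ((hσm R z hzS).1 hz) g
      obtain ⟨w, hw, hwe⟩ := (hTm _).1 (hRT h1)
      exact ⟨w, (hσm R w hw).2 (by rw [hwe]; exact h1), hwe⟩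
    obtain ⟨f, hf, hfg⟩ := hMD.exists_map (hσS R) g (fun z hz => by
      obtain ⟨w, hw, hwe⟩ := hnorm z hz; exact ⟨w, hσS R hw, hwe⟩)
    haveI : Finite (σ R) := finite_of_le (hσS R)
    have hfR : im (σ R) f = σ R := by
      apply eq_of_le_of_card_le
      · rw [im_le_iff hf]
        intro z hz
        obtain ⟨w, hw, hwe⟩ := hnorm z hz
        have : f z = w := by
          apply tt_inj hMD.inj (hf.mem hz) (hσS R hw)
          rw [hfg z hz, hwe]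
        rw [this]; exact hw
      · rw [hf.card_im]
    have hfi : Iso F (σ R) (σ R) f := (hEF _ _ hf).iso_of_im_eq hfR
    rw [← hfg x hxR]
    rw [Subgroup.mem_sInf]
    rintro _ ⟨⟨B, hB, rfl⟩, hBR⟩
    have hBS := (h𝒜 B hB).1
    refine (hτm B hBS _ (hf.mem hxR)).2 ?_
    refine hinv (σ R) ⟨A, hA, (hτσ A (h𝒜 A hA).1 R).1 hAR⟩ f hfi x hxR (fun D hD hDR => ?_) B hB ((hτσ B hBS R).1 hBR)
    have hDS := (h𝒜 D hD).1
    refine (hτm D hDS x hx).1 ?_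
    exact (Subgroup.mem_sInf.1 hy) _ ⟨⟨D, hD, rfl⟩, (hτσ D hDS R).2 hDR⟩
  · rintro B hB hBT hcl ⟨_, ⟨A, hA, rfl⟩, hAB, hnAB⟩
    have hcomm : ∀ X Y : Subgroup G, X ≤ T → Y ≤ T → σ ⁅X, Y⁆ = ⁅σ X, σ Y⁆ := by
      intro X Y hX hY
      have h1 : ∀ Z : Subgroup G, Z ≤ T → ∀ W : Subgroup Ω, W ≤ S → (σ Z = W ↔ Z = τ W) := by
        intro Z hZ W hW
        constructor
        · rintro rfl
          ext g
          constructor
          · intro hg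
            obtain ⟨x, hx, rfl⟩ := (hTm g).1 (hZ hg)
            exact (hτm _ hW x hx).2 ((hσm Z x hx).2 hg)
          · intro hg
            obtain ⟨x, hx, rfl⟩ := (hmτ _ hW g).1 hg
            exact (hσm Z x (hW hx)).1 hx
        · rintro rfl
          ext x
          constructor
          · intro hx
            have hxS := hσS _ hx
            exact (hτm W hW x hxS).1 ((hσm _ x hxS).1 hx)
          · intro hx
            exact (hσm _ x (hW hx)).2 ((hτm W hW x (hW hx)).2 hx)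
      have hXY : ⁅X, Y⁆ ≤ T := (Subgroup.commutator_mono hX hY).trans (Subgroup.commutator_le_self _)
      have hsXY : ⁅σ X, σ Y⁆ ≤ S := (Subgroup.commutator_mono (hσS X) (hσS Y)).trans (Subgroup.commutator_le_self _)
      rw [h1 _ hXY _ hsXY]
      have e1 : X = τ (σ X) := (h1 X hX _ (hσS X)).1 rfl
      have e2 : Y = τ (σ Y) := (h1 Y hY _ (hσS Y)).1 rfl
      conv_lhs => rw [e1, e2]
      show ⁅((σ X).subgroupOf S).map ι, ((σ Y).subgroupOf S).map ι⁆ = (⁅σ X, σ Y⁆.subgroupOf S).map ι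
      rw [← Subgroup.map_commutator]
      congr 1
      apply Subgroup.map_injective S.subtype_injective
      rw [Subgroup.map_commutator, Subgroup.map_subgroupOf_eq_of_le (hσS X), Subgroup.map_subgroupOf_eq_of_le (hσS Y),
        Subgroup.map_subgroupOf_eq_of_le hsXY]
    have hBB : ⁅B, B⁆ ≤ T := (Subgroup.commutator_mono hBT hBT).trans (Subgroup.commutator_le_self _)
    have hcl' : ⁅⁅σ B, σ B⁆, σ B⁆ = ⊥ := by
      rw [← hcomm B B hBT hBT, ← hcomm _ B hBB hBT, hcl, eq_bot_iff]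
      intro x hx
      have hxS := hσS _ hx
      have h1 := (hσm _ x hxS).1 hx
      rw [Subgroup.mem_bot] at h1
      rw [Subgroup.mem_bot]
      apply tt_inj hMD.inj hxS S.one_mem
      rw [h1, tt_one]
    have hle : ∀ D ∈ 𝒜, (⁅B, B⁆ ≤ τ D ↔ ⁅σ B, σ B⁆ ≤ D) := by
      intro D hD
      have hDS := (h𝒜 D hD).1
      rw [← hcomm B B hBT hBT]
      constructor
      · intro h x hx
        have hxS := hσS _ hx
        exact (hτm D hDS x hxS).1 (h ((hσm _ x hxS).1 hx))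
      · intro h g hg
        obtain ⟨x, hx, rfl⟩ := (hTm g).1 (hBB hg)
        exact (hτm D hDS x hx).2 (h ((hσm _ x hx).2 hg))
    have hle2 : ∀ D ∈ 𝒜, (B ≤ τ D ↔ σ B ≤ D) := by
      intro D hD
      have hDS := (h𝒜 D hD).1
      constructor
      · intro h x hx
        have hxS := hσS _ hx
        exact (hτm D hDS x hxS).1 (h ((hσm _ x hxS).1 hx))
      · intro h g hg
        obtain ⟨x, hx, rfl⟩ := (hTm g).1 (hBT hg)
        exact (hτm D hDS x hx).2 (h ((hσm _ x hx).2 hg))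
    obtain ⟨D, hD, h1, h2, h3⟩ := hrep (σ B) (hσS B) hcl' ⟨A, hA, (hle A hA).1 hAB, fun h => hnAB ((hle2 A hA).2 h)⟩
    have hDS := (h𝒜 D hD).1
    refine ⟨τ D, ⟨D, hD, rfl⟩, (hle D hD).2 h1, fun h => h2 ((hle2 D hD).1 h), ?_⟩
    refine le_normalizer_of fun b hb y hy => ?_
    obtain ⟨z, hz, rfl⟩ := (hTm b).1 (hBT hb)
    obtain ⟨x, hx, rfl⟩ := (hmτ D hDS y).1 hy
    have hzB : z ∈ σ B := (hσm B z hz).2 hb
    rw [← tt_conj ι hz (hDS hx)]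
    exact (hτm D hDS _ (S.mul_mem (S.mul_mem hz (hDS hx)) (S.inv_mem hz))).2
      ((Subgroup.mem_normalizer_iff.1 (h3 hzB) x).1 hx)

end Cfsg.Agent.H27.Fus
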