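import Mathlib
import Cfsg.Agent.H27_Bs9

/-! Tate's theorem for fusion systems: extending homomorphisms from the hyperfocal subgroup. -/

set_option autoImplicit false

namespace Cfsg.Agent.H27.Bs

open Equiv Cfsg.FusionSystem Cfsg.Agent.H27.Fus Cfsg.Agent.H27.Grp

universe u

section
variable {Ω : Type u} [Group Ω] {S : Subgroup Ω} {F : FusionSystem S} {P Q R : Subgroup Ω} {f g : Ω → Ω}
  {I : Type u} [Fintype I] {A : Type*} [CommGroup A] {p : ℕ}

/-- a homomorphism on `T`, invariant under `S` -/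
structure IsInv (S T : Subgroup Ω) (l : Ω → A) : Prop where
  mul : ∀ x ∈ T, ∀ y ∈ T, l (x * y) = l x * l y
  conj : ∀ s ∈ S, ∀ t ∈ T, l (s * t * s⁻¹) = l t

theorem IsInv.one {T : Subgroup Ω} {l : Ω → A} (h : IsInv S T l) : l 1 = 1 := by
  have := h.mul 1 T.one_mem 1 T.one_mem
  rw [mul_one] at this
  exact mul_eq_left.1 this.symm

theorem IsInv.inv {T : Subgroup Ω} {l : Ω → A} (h : IsInv S T l) {x : Ω} (hx : x ∈ T) : l x⁻¹ = (l x)⁻¹ := by
  have := h.mul x hx x⁻¹ (T.inv_mem hx)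
  rw [mul_inv_cancel, h.one] at this
  exact eq_inv_of_mul_eq_one_right this.symm

theorem IsInv.pow {T : Subgroup Ω} {l : Ω → A} (h : IsInv S T l) {x : Ω} (hx : x ∈ T) (n : ℕ) : l (x ^ n) = l x ^ n := by
  induction n with
  | zero => rw [pow_zero, pow_zero, h.one]
  | succ n ih => rw [pow_succ, h.mul _ (T.pow_mem hx n) _ hx, ih, pow_succ]

/-- the homomorphism defined by an adapted cocycle -/
noncomputable def CB.w (B : CB F I) {T : Subgroup Ω} (hTn : ∀ s ∈ S, ∀ t ∈ T, s * t * s⁻¹ ∈ T)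
    (hB : ∀ (a : ↥S) (i : I), (B.c a i : Ω) * (a : Ω)⁻¹ ∈ T) {l : Ω → A} (hl : IsInv S T l) : ↥S →* A where
  toFun a := ∏ i, l ((B.c a i : Ω) * (a : Ω)⁻¹)
  map_one' := by simp [B.c_one, hl.one]
  map_mul' a b := by
    have h1 : ∀ i, l ((B.c (a * b) i : Ω) * ((a * b : ↥S) : Ω)⁻¹) =
        l ((B.c a (B.act b i) : Ω) * (a : Ω)⁻¹) * l ((B.c b i : Ω) * (b : Ω)⁻¹) := by
      intro i
      rw [B.coc]
      have e : ((B.c a (B.act b i) * B.c b i : ↥S) : Ω) * ((a * b : ↥S) : Ω)⁻¹ =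
          ((B.c a (B.act b i) : Ω) * (a : Ω)⁻¹) * ((a : Ω) * ((B.c b i : Ω) * (b : Ω)⁻¹) * (a : Ω)⁻¹) := by
        push_cast; group
      rw [e, hl.mul _ (hB _ _) _ (hTn _ a.2 _ (hB _ _)), hl.conj _ a.2 _ (hB _ _)]
    simp only [h1, Finset.prod_mul_distrib]
    congr 1
    exact (B.act b).prod_comp Finset.univ (fun i => l ((B.c a i : Ω) * (a : Ω)⁻¹)) (fun _ _ => Finset.mem_univ _)

theorem CB.w_apply (B : CB F I) {T : Subgroup Ω} (hTn : ∀ s ∈ S, ∀ t ∈ T, s * t * s⁻¹ ∈ T)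
    (hB : ∀ (a : ↥S) (i : I), (B.c a i : Ω) * (a : Ω)⁻¹ ∈ T) {l : Ω → A} (hl : IsInv S T l) (a : ↥S) :
    B.w hTn hB hl a = ∏ i, l ((B.c a i : Ω) * (a : Ω)⁻¹) := rfl

theorem CB.c_mem (B : CB F I) {T : Subgroup Ω} (hB : ∀ (a : ↥S) (i : I), (B.c a i : Ω) * (a : Ω)⁻¹ ∈ T) {t : ↥S}
    (ht : (t : Ω) ∈ T) (i : I) : (B.c t i : Ω) ∈ T := by
  have := T.mul_mem (hB t i) ht
  rwa [inv_mul_cancel_right] at this

theorem CB.w_T (B : CB F I) {T : Subgroup Ω} (hTn : ∀ s ∈ S, ∀ t ∈ T, s * t * s⁻¹ ∈ T)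
    (hB : ∀ (a : ↥S) (i : I), (B.c a i : Ω) * (a : Ω)⁻¹ ∈ T) {l : Ω → A} (hl : IsInv S T l) {t : ↥S}
    (ht : (t : Ω) ∈ T) : ∏ i, l (B.c t i : Ω) = B.w hTn hB hl t * l t ^ Fintype.card I := by
  rw [B.w_apply]
  have h1 : ∀ i, l (B.c t i : Ω) = l ((B.c t i : Ω) * (t : Ω)⁻¹) * l t := by
    intro i
    rw [← hl.mul _ (hB _ _) _ ht, inv_mul_cancel_right]
  rw [Finset.prod_congr rfl fun i _ => h1 i, Finset.prod_mul_distrib, Finset.prod_const, Finset.card_univ]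

/-- invariance of the transfer of `l` under the fusion system -/
theorem CB.v_inv (B : CB F I) {T : Subgroup Ω} (hTn : ∀ s ∈ S, ∀ t ∈ T, s * t * s⁻¹ ∈ T)
    (hB : ∀ (a : ↥S) (i : I), (B.c a i : Ω) * (a : Ω)⁻¹ ∈ T) {l : Ω → A} (hl : IsInv S T l)
    (hTs : F.StronglyClosed T) (hf : Map F P f) {q r : ↥S} (hq : (q : Ω) ∈ P) (hqT : (q : Ω) ∈ T) (hr : (r : Ω) = f q) :
    ∏ i, l (B.c r i : Ω) = ∏ i, l (B.c q i : Ω) := by
  obtain ⟨σ, d, h⟩ := B.stab P f hf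
  have hstr := (stronglyClosed_iff.1 hTs).2
  rw [← σ.prod_comp Finset.univ (fun i => l (B.c r i : Ω)) (fun _ _ => Finset.mem_univ _)]
  -- the coordinates `d` are constant modulo `T` on the orbits of `q`
  have hd : ∀ x : ↥S, (x : Ω) ∈ P → (x : Ω) ∈ T → ∀ i, (d (B.act x i) : Ω) * (d i : Ω)⁻¹ ∈ T := by
    intro x hx hxT i
    let y : ↥S := ⟨f x, hf.mem hx⟩
    have h1 := (h x y hx rfl i).2
    have hy : (y : Ω) ∈ T := hstr P f hf x hx hxT
    have h2 : (d (B.act x i) : Ω) * (d i : Ω)⁻¹ =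
        (B.c y (σ i) : Ω) * ((d i : Ω) * (B.c x i : Ω)⁻¹ * (d i : Ω)⁻¹) := by
      have h3 := congrArg Subtype.val h1
      simp only [Subgroup.coe_mul] at h3
      rw [← mul_inv_eq_iff_eq_mul] at h3
      rw [← h3]; group
    rw [h2]
    exact T.mul_mem (B.c_mem hB hy _) (hTn _ (d i).2 _ (T.inv_mem (B.c_mem hB hxT i)))
  have h1 := cob (K := ↥(Subgroup.zpowers q)) (A := A) (B.act.comp (Subgroup.zpowers q).subtype)
    (fun b i => l ((d (B.act b i) : Ω) * (d i : Ω)⁻¹)) (by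
      have hz : ∀ x : ↥(Subgroup.zpowers q), ((x : ↥S) : Ω) ∈ P ∧ ((x : ↥S) : Ω) ∈ T := by
        rintro ⟨x, hx⟩
        obtain ⟨k, rfl⟩ := Subgroup.mem_zpowers_iff.1 hx
        exact ⟨P.zpow_mem hq k, T.zpow_mem hqT k⟩
      intro x y i
      simp only [Subgroup.coe_mul, map_mul, Perm.mul_apply]
      simp only [MonoidHom.comp_apply, Subgroup.subtype_apply]
      rw [← hl.mul _ (hd x (hz x).1 (hz x).2 _) _ (hd y (hz y).1 (hz y).2 _)]
      congr 1; group) (by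
      rintro ⟨b, hb⟩ i hbi
      have hbi' : B.act b i = i := hbi
      show l ((d (B.act b i) : Ω) * (d i : Ω)⁻¹) = 1
      rw [hbi', mul_inv_cancel, hl.one]) ⟨q, Subgroup.mem_zpowers q⟩
  have h2 : ∏ i, l ((d (B.act q i) : Ω) * (d i : Ω)⁻¹) = 1 := h1
  have h3 : ∀ i, l (B.c r (σ i) : Ω) = l ((d (B.act q i) : Ω) * (d i : Ω)⁻¹) * l (B.c q i : Ω) := by
    intro i
    have h4 := congrArg Subtype.val (h q r hq hr i).2
    simp only [Subgroup.coe_mul] at h4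
    rw [← eq_mul_inv_iff_mul_eq] at h4
    have h5 : (d (B.act q i) : Ω) * (B.c q i : Ω) * (d i : Ω)⁻¹ =
        ((d (B.act q i) : Ω) * (d i : Ω)⁻¹) * ((d i : Ω) * (B.c q i : Ω) * (d i : Ω)⁻¹) := by group
    rw [h4, h5, hl.mul _ (hd q hq hqT i) _ (hTn _ (d i).2 _ (B.c_mem hB hqT i)), hl.conj _ (d i).2 _ (B.c_mem hB hqT i)]
  rw [Finset.prod_congr rfl fun i _ => h3 i, Finset.prod_mul_distrib, h2, one_mul]

/-- **Tate**: `S`-invariant homomorphisms on the hyperfocal subgroup extend to `S` (up to a `p'`-power). -/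
theorem tate_ext [Finite S] [hp : Fact p.Prime] (hS : IsPGroup p S) (hF : F.IsSaturated p) {l : Ω → A}
    (hl : IsInv S (F.hyperfocalSubgroup p) l) : ∃ (w : ↥S →* A) (m : ℕ), ¬ p ∣ m ∧
      ∀ t : ↥S, (t : Ω) ∈ F.hyperfocalSubgroup p → w t * l t ^ m = 1 := by
  obtain ⟨I, hI, B₀, hI'⟩ := exists_charCB hS hF
  have hTn : ∀ s ∈ S, ∀ t ∈ F.hyperfocalSubgroup p, s * t * s⁻¹ ∈ F.hyperfocalSubgroup p :=
    fun s hs t ht => hyp_conj_mem hs ht
  obtain ⟨B, hB⟩ := B₀.adapt hTn (map_mod_hyp' hS hF)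
  have hTs := hyp_strong hS hF
  refine ⟨B.w hTn hB hl, Fintype.card I, hI', ?_⟩
  let v : ↥S → A := fun t => B.w hTn hB hl t * l t ^ Fintype.card I
  have hv : ∀ t : ↥S, (t : Ω) ∈ F.hyperfocalSubgroup p → v t = ∏ i, l (B.c t i : Ω) := fun t ht =>
    (B.w_T hTn hB hl ht).symm
  have hvmul : ∀ s t : ↥S, (s : Ω) ∈ F.hyperfocalSubgroup p → (t : Ω) ∈ F.hyperfocalSubgroup p →
      v (s * t) = v s * v t := by
    intro s t hs ht
    show B.w hTn hB hl (s * t) * l (s * t) ^ _ = _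
    rw [map_mul, hl.mul _ hs _ ht, mul_pow, mul_mul_mul_comm]
  have hvone : v 1 = 1 := by
    show B.w hTn hB hl 1 * l (1 : Ω) ^ _ = _
    rw [map_one, hl.one, one_pow, mul_one]
  have hvinv : ∀ s : ↥S, (s : Ω) ∈ F.hyperfocalSubgroup p → v s⁻¹ = (v s)⁻¹ := by
    intro s hs
    apply eq_inv_of_mul_eq_one_left
    rw [← hvmul _ _ (Subgroup.inv_mem _ hs) hs, inv_mul_cancel, hvone]
  have hvpow : ∀ s : ↥S, (s : Ω) ∈ F.hyperfocalSubgroup p → ∀ n : ℕ, v (s ^ n) = v s ^ n := by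
    intro s hs n
    induction n with
    | zero => rw [pow_zero, pow_zero, hvone]
    | succ n ih => rw [pow_succ, hvmul _ _ (Subgroup.pow_mem _ hs n) hs, ih, pow_succ]
  -- the kernel of `v`
  let Kv : Subgroup Ω :=
    { carrier := {y | y ∈ F.hyperfocalSubgroup p ∧ ∀ hy : y ∈ S, v ⟨y, hy⟩ = 1}
      one_mem' := ⟨Subgroup.one_mem _, fun _ => hvone⟩
      mul_mem' := by
        rintro a b ⟨ha, ha'⟩ ⟨hb, hb'⟩
        refine ⟨Subgroup.mul_mem _ ha hb, fun _ => ?_⟩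
        have := hvmul ⟨a, hyp_le ha⟩ ⟨b, hyp_le hb⟩ ha hb
        rw [ha', hb', one_mul] at this
        exact this
      inv_mem' := by
        rintro a ⟨ha, ha'⟩
        refine ⟨Subgroup.inv_mem _ ha, fun _ => ?_⟩
        have := hvinv ⟨a, hyp_le ha⟩ ha
        rw [ha', inv_one] at this
        exact this }
  have hinv : ∀ P f, Map F P f → ∀ q r : ↥S, (q : Ω) ∈ P → (q : Ω) ∈ F.hyperfocalSubgroup p → (r : Ω) = f q →
      v r = v q := by
    intro P f hf q r hq hqT hr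
    have hrT : (r : Ω) ∈ F.hyperfocalSubgroup p := by
      rw [hr]; exact (stronglyClosed_iff.1 hTs).2 P f hf q hq hqT
    rw [hv r hrT, hv q hqT]
    exact B.v_inv hTn hB hl hTs hf hq hqT hr
  have key : F.hyperfocalSubgroup p ≤ Kv := by
    conv_lhs => rw [hyp_eq]
    rw [Subgroup.closure_le]
    rintro _ ⟨P, α, x, hP, hα, rfl⟩
    haveI : Finite P := fin_of_le hP
    -- the automorphisms moving things by elements of `Kv`
    let Z : Subgroup (MulAut P) :=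
      { carrier := {β | β ∈ opR p (F.autGroup P) ∧ ∀ y : P, (y : Ω)⁻¹ * (β y : P) ∈ Kv}
        one_mem' := ⟨Subgroup.one_mem _, fun y => by simp [Kv.one_mem]⟩
        mul_mem' := by
          rintro a b ⟨ha, ha'⟩ ⟨hb, hb'⟩
          refine ⟨Subgroup.mul_mem _ ha hb, fun y => ?_⟩
          have h1 : (y : Ω)⁻¹ * ((a * b) y : P) = ((y : Ω)⁻¹ * (b y : P)) * (((b y : P) : Ω)⁻¹ * (a (b y) : P)) := by
            rw [MulAut.mul_apply]; group
          rw [h1]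
          exact Kv.mul_mem (hb' y) (ha' _)
        inv_mem' := by
          rintro a ⟨ha, ha'⟩
          refine ⟨Subgroup.inv_mem _ ha, fun y => ?_⟩
          have h1 := ha' (a⁻¹ y)
          have h2 : a (a⁻¹ y) = y := by rw [← MulAut.mul_apply, mul_inv_cancel, MulAut.one_apply]
          rw [h2] at h1
          have h3 := Kv.inv_mem h1
          rwa [mul_inv_rev, inv_inv] at h3 }
    have hZ : opR p (F.autGroup P) ≤ Z := by
      conv_lhs => rw [opR_eq]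
      rw [Subgroup.closure_le]
      rintro β ⟨hβ, hβo⟩
      have hβR := mem_opR_of hβ hβo
      refine ⟨hβR, fun y => ?_⟩
      have hyT : (y : Ω)⁻¹ * (β y : P) ∈ F.hyperfocalSubgroup p := mem_hyp hP hβR y
      refine ⟨hyT, fun hy => ?_⟩
      -- all the images have the same `v`
      let z : P := y⁻¹ * β y
      have hz : ∀ k : ℕ, ((β ^ k) z : Ω) ∈ F.hyperfocalSubgroup p ∧
          v ⟨((β ^ k) z : P), hP ((β ^ k) z).2⟩ = v ⟨z, hP z.2⟩ := by
        intro k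
        have hm : Map F P (totA (β ^ k)) := by
          have := (mem_autGroup_iff hP).1 (Subgroup.pow_mem _ hβ k)
          exact this.map
        have hzT : (z : Ω) ∈ F.hyperfocalSubgroup p := hyT
        refine ⟨?_, ?_⟩
        · rw [← totA_apply]
          exact (stronglyClosed_iff.1 hTs).2 P _ hm z z.2 hzT
        · exact hinv P _ hm ⟨z, hP z.2⟩ ⟨_, hP ((β ^ k) z).2⟩ z.2 hzT (totA_apply _ _).symm
      have htel : ∀ k : ℕ, ∃ hk : ((y⁻¹ * (β ^ k) y : P) : Ω) ∈ F.hyperfocalSubgroup p,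
          v ⟨_, hyp_le hk⟩ = v ⟨z, hP z.2⟩ ^ k := by
        intro k
        induction k with
        | zero =>
          have h0 : ((y⁻¹ * (β ^ 0) y : P) : Ω) = 1 := by simp
          refine ⟨by rw [h0]; exact Subgroup.one_mem _, ?_⟩
          rw [pow_zero (v ⟨(z : Ω), hP z.2⟩), ← hvone]
          congr 1
          exact Subtype.ext h0
        | succ k ih =>
          obtain ⟨hk, hk'⟩ := ih
          have h1 : ((y⁻¹ * (β ^ (k + 1)) y : P) : Ω) = ((y⁻¹ * (β ^ k) y : P) : Ω) * ((β ^ k) z : P) := by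
            rw [← Subgroup.coe_mul]
            congr 1
            have e : (β ^ (k + 1)) y = (β ^ k) (β y) := by rw [pow_succ]; rfl
            show _ = y⁻¹ * (β ^ k) y * (β ^ k) (y⁻¹ * β y)
            rw [map_mul, e, map_inv]; group
          have h2 : ((y⁻¹ * (β ^ (k + 1)) y : P) : Ω) ∈ F.hyperfocalSubgroup p := by
            rw [h1]; exact Subgroup.mul_mem _ hk (hz k).1
          refine ⟨h2, ?_⟩
          rw [pow_succ (v ⟨(z : Ω), hP z.2⟩), ← hk', ← (hz k).2, ← hvmul _ _ hk (hz k).1]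
          congr 1
          exact Subtype.ext h1
      obtain ⟨hN, hN'⟩ := htel (orderOf β)
      have h3 : v ⟨z, hP z.2⟩ ^ orderOf β = 1 := by
        rw [← hN', ← hvone]
        congr 1
        apply Subtype.ext
        show ((y⁻¹ * (β ^ orderOf β) y : P) : Ω) = 1
        rw [pow_orderOf_eq_one]; simp
      obtain ⟨n, hn⟩ := hS ⟨z, hP z.2⟩
      have h4 : v ⟨z, hP z.2⟩ ^ (p ^ n) = 1 := by
        rw [← hvpow _ hyT, hn, hvone]
      have h5 : orderOf (v ⟨z, hP z.2⟩) ∣ 1 := by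
        rw [← (Nat.Coprime.pow_right n hβo : Nat.Coprime (orderOf β) (p ^ n))]
        exact Nat.dvd_gcd (orderOf_dvd_of_pow_eq_one h3) (orderOf_dvd_of_pow_eq_one h4)
      have h6 := orderOf_eq_one_iff.1 (Nat.dvd_one.1 h5)
      exact h6
    exact (hZ hα).2 x
  intro t ht
  exact (key ht).2 t.2

end

end Cfsg.Agent.H27.Bs
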