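import Mathlib
import Cfsg.Agent.H27_Bs10
import Cfsg.Agent.H1_Frattini

/-! Tate's theorem: consequences. -/

set_option autoImplicit false

namespace Cfsg.Agent.H27.Bs

open Equiv Cfsg.FusionSystem Cfsg.Agent.H27.Fus Cfsg.Agent.H27.Grp

universe u

section
variable {G : Type u} [Group G] [Finite G] {p : ℕ} [hp : Fact p.Prime]

/-- an invariant homomorphism separating two normal subgroups of a `p`-group -/
theorem exists_sep (hG : IsPGroup p G) {K T : Subgroup G} [hK : K.Normal] [hT : T.Normal] (hKT : K < T) :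
    ∃ (A : Type u) (_ : CommGroup A) (l : G → A), (∀ x ∈ T, ∀ y ∈ T, l (x * y) = l x * l y) ∧
      (∀ g : G, ∀ t ∈ T, l (g * t * g⁻¹) = l t) ∧ (∀ a : A, a ^ p = 1) ∧ (∀ k ∈ K, l k = 1) ∧ ∃ t ∈ T, l t ≠ 1 := by
  classical
  obtain ⟨M, hKM, hM⟩ := (Set.toFinite {M : Subgroup G | M.Normal ∧ K ≤ M ∧ M < T}).exists_le_maximal
    (a := K) ⟨hK, le_rfl, hKT⟩
  obtain ⟨⟨hMn, -, hMT⟩, hmax⟩ := hM
  have hq : IsPGroup p (G ⧸ M) := hG.to_quotient M
  haveI hTn : (T.map (QuotientGroup.mk' M)).Normal := hT.map _ (QuotientGroup.mk'_surjective M)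
  have hTne : T.map (QuotientGroup.mk' M) ≠ ⊥ := by
    intro h
    rw [Subgroup.map_eq_bot_iff, QuotientGroup.ker_mk'] at h
    exact absurd hMT (not_lt_of_ge h)
  have hne := H2.PGroup.inf_center_ne_bot hq hTne
  -- an element of order `p`
  obtain ⟨z, hz, hz1⟩ := (Subgroup.bot_or_exists_ne_one _).resolve_left hne
  obtain ⟨k, hk⟩ := IsPGroup.iff_orderOf.1 hq z
  have hk0 : k ≠ 0 := by
    rintro rfl
    rw [pow_zero, orderOf_eq_one_iff] at hk
    exact hz1 hk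
  obtain ⟨j, rfl⟩ := Nat.exists_eq_succ_of_ne_zero hk0
  let y : G ⧸ M := z ^ (p ^ j)
  have hyp : y ^ p = 1 := by
    show (z ^ (p ^ j)) ^ p = 1
    rw [← pow_mul, ← pow_succ, ← hk, pow_orderOf_eq_one]
  have hy1 : y ≠ 1 := by
    intro h
    have h1 := orderOf_dvd_of_pow_eq_one (show z ^ (p ^ j) = 1 from h)
    rw [hk] at h1
    have h2 := Nat.le_of_dvd (pow_pos hp.out.pos _) h1
    exact absurd h2 (not_le.2 (Nat.pow_lt_pow_right hp.out.one_lt (Nat.lt_succ_self j)))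
  have hyT : y ∈ T.map (QuotientGroup.mk' M) := Subgroup.pow_mem _ hz.1 _
  have hyc : y ∈ Subgroup.center (G ⧸ M) := Subgroup.pow_mem _ hz.2 _
  haveI hyn : (Subgroup.zpowers y).Normal := by
    refine ⟨fun a ha b => ?_⟩
    have hac : a ∈ Subgroup.center (G ⧸ M) := (Subgroup.zpowers_le.2 hyc) ha
    rw [Subgroup.mem_center_iff.1 hac b, mul_inv_cancel_right]; exact ha
  let M' : Subgroup G := (Subgroup.zpowers y).comap (QuotientGroup.mk' M)
  have hMM' : M < M' := by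
    refine lt_of_le_of_ne (fun x hx => ?_) fun h => hy1 ?_
    · have : (QuotientGroup.mk' M) x = 1 := (QuotientGroup.eq_one_iff x).2 hx
      show (QuotientGroup.mk' M) x ∈ Subgroup.zpowers y
      rw [this]; exact Subgroup.one_mem _
    · obtain ⟨x, hx⟩ := QuotientGroup.mk'_surjective M y
      have h1 : x ∈ M' := by
        show (QuotientGroup.mk' M) x ∈ Subgroup.zpowers y
        rw [hx]; exact Subgroup.mem_zpowers y
      rw [← h] at h1
      rw [← hx]; exact (QuotientGroup.eq_one_iff x).2 h1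
  have hM'T : M' ≤ T := by
    intro x hx
    have h1 : (QuotientGroup.mk' M) x ∈ T.map (QuotientGroup.mk' M) := (Subgroup.zpowers_le.2 hyT) hx
    obtain ⟨t, ht, htx⟩ := h1
    have h2 : t⁻¹ * x ∈ M := QuotientGroup.eq.1 htx
    have h3 := T.mul_mem ht (hMT.le h2)
    rwa [mul_inv_cancel_left] at h3
  have hM'eq : M' = T := by
    by_contra hne'
    have hlt : M' < T := lt_of_le_of_ne hM'T hne'
    have h1 := hmax (y := M') ⟨inferInstance, hKM.trans hMM'.le, hlt⟩ hMM'.le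
    exact absurd hMM' (not_lt_of_ge h1)
  have hT1 : ∀ t ∈ T, (QuotientGroup.mk' M) t ∈ Subgroup.zpowers y := by
    intro t ht
    rw [← hM'eq] at ht; exact ht
  have hT2 : ∀ t ∈ T, (QuotientGroup.mk' M) t ∈ Subgroup.center (G ⧸ M) := fun t ht =>
    (Subgroup.zpowers_le.2 hyc) (hT1 t ht)
  have hT3 : ∀ t ∈ T, ((QuotientGroup.mk' M) t) ^ p = 1 := by
    intro t ht
    obtain ⟨n, hn⟩ := Subgroup.mem_zpowers_iff.1 (hT1 t ht)
    rw [← hn, ← zpow_natCast, zpow_comm, zpow_natCast, hyp, one_zpow]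
  letI hcg : CommGroup ↥(Subgroup.zpowers y) := { (inferInstance : Group ↥(Subgroup.zpowers y)) with
    mul_comm := by
      rintro ⟨a, ha⟩ ⟨b, hb⟩
      obtain ⟨i, rfl⟩ := Subgroup.mem_zpowers_iff.1 ha
      obtain ⟨j, rfl⟩ := Subgroup.mem_zpowers_iff.1 hb
      exact Subtype.ext (zpow_mul_comm y i j) }
  let l : G → ↥(Subgroup.zpowers y) := fun x => if h : x ∈ T then ⟨(QuotientGroup.mk' M) x, hT1 x h⟩ else 1
  have hl : ∀ x (h : x ∈ T), l x = ⟨(QuotientGroup.mk' M) x, hT1 x h⟩ := fun x h => dif_pos h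
  refine ⟨↥(Subgroup.zpowers y), hcg, l, ?_, ?_, ?_, ?_, ?_⟩
  · intro x hx y' hy'
    rw [hl x hx, hl y' hy', hl _ (T.mul_mem hx hy')]
    exact Subtype.ext (map_mul _ _ _)
  · intro g t ht
    rw [hl t ht, hl _ (hT.conj_mem t ht g)]
    refine Subtype.ext ?_
    show (QuotientGroup.mk' M) (g * t * g⁻¹) = (QuotientGroup.mk' M) t
    rw [map_mul, map_mul, Subgroup.mem_center_iff.1 (hT2 t ht), map_inv, mul_inv_cancel_right]
  · rintro ⟨a, ha⟩
    obtain ⟨n, rfl⟩ := Subgroup.mem_zpowers_iff.1 ha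
    apply Subtype.ext
    show (y ^ n) ^ p = 1
    rw [← zpow_natCast, zpow_comm, zpow_natCast, hyp, one_zpow]
  · intro k hk
    rw [hl k (hKT.le hk)]
    exact Subtype.ext ((QuotientGroup.eq_one_iff k).2 (hKM hk))
  · obtain ⟨t, ht, htM⟩ := SetLike.exists_of_lt hMT
    refine ⟨t, ht, fun h => htM ?_⟩
    rw [hl t ht] at h
    exact (QuotientGroup.eq_one_iff t).1 (congrArg Subtype.val h)

/-- homomorphisms into groups of exponent `p` kill the Frattini subgroup -/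
theorem hom_frattini {A : Type*} [CommGroup A] (w : G →* A) (hA : ∀ x : A, x ^ p = 1) :
    frattini G ≤ w.ker := by
  apply Cfsg.Agent.H1.Frattini.frattini_le_of_elementary (p := p)
  · exact Abelianization.commutator_subset_ker w
  · intro x
    rw [MonoidHom.mem_ker, map_pow, hA]

end

section
variable {Ω : Type u} [Group Ω] {S : Subgroup Ω} {F : FusionSystem S} {P Q R : Subgroup Ω} {f g : Ω → Ω}
  {p : ℕ}

theorem tate_core [Finite S] [hp : Fact p.Prime] (hS : IsPGroup p S) (hF : F.IsSaturated p) {K : Subgroup Ω}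
    (hKn : ∀ s ∈ S, ∀ k ∈ K, s * k * s⁻¹ ∈ K) (hK : K < F.hyperfocalSubgroup p) :
    ∃ C : Subgroup Ω, K ≤ C ∧ (frattini ↥S).map S.subtype ≤ C ∧ ⁅S, S⁆ ≤ C ∧ ¬ F.hyperfocalSubgroup p ≤ C := by
  classical
  have hTS : F.hyperfocalSubgroup p ≤ S := hyp_le
  haveI h1 : (K.subgroupOf S).Normal := ⟨fun x hx g => hKn g g.2 x hx⟩
  haveI h2 : ((F.hyperfocalSubgroup p).subgroupOf S).Normal := ⟨fun x hx g => hyp_conj_mem g.2 hx⟩
  have hlt : K.subgroupOf S < (F.hyperfocalSubgroup p).subgroupOf S := by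
    refine lt_of_le_of_ne (fun x hx => hK.le hx) fun h => hK.ne ?_
    apply le_antisymm hK.le
    intro t ht
    have : (⟨t, hTS ht⟩ : ↥S) ∈ (F.hyperfocalSubgroup p).subgroupOf S := ht
    rw [← h] at this
    exact this
  obtain ⟨A, hA, l', hl1, hl2, hl3, hl4, t, ht, hlt'⟩ := exists_sep hS hlt
  let l : Ω → A := fun x => if h : x ∈ S then l' ⟨x, h⟩ else 1
  have hl : ∀ x (h : x ∈ S), l x = l' ⟨x, h⟩ := fun x h => dif_pos h
  have hinv : IsInv S (F.hyperfocalSubgroup p) l := by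
    constructor
    · intro x hx y hy
      rw [hl x (hTS hx), hl y (hTS hy), hl _ (S.mul_mem (hTS hx) (hTS hy))]
      exact hl1 ⟨x, hTS hx⟩ hx ⟨y, hTS hy⟩ hy
    · intro s hs x hx
      rw [hl x (hTS hx), hl _ (S.mul_mem (S.mul_mem hs (hTS hx)) (S.inv_mem hs))]
      exact hl2 ⟨s, hs⟩ ⟨x, hTS hx⟩ hx
  obtain ⟨w, m, hm, hw⟩ := tate_ext hS hF hinv
  refine ⟨w.ker.map S.subtype, fun k hk => ?_, Subgroup.map_mono (hom_frattini w hl3), ?_, ?_⟩
  · refine ⟨⟨k, hTS (hK.le hk)⟩, ?_, rfl⟩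
    have h3 := hw ⟨k, hTS (hK.le hk)⟩ (hK.le hk)
    have h4 : l k = 1 := by
      rw [hl k (hTS (hK.le hk))]; exact hl4 _ hk
    show w _ = 1
    rw [h4, one_pow, mul_one] at h3
    exact h3
  · have h5 : (commutator ↥S).map S.subtype = ⁅(S : Subgroup Ω), (S : Subgroup Ω)⁆ := by
      rw [commutator_def, Subgroup.map_commutator, ← MonoidHom.range_eq_map, Subgroup.range_subtype]
    rw [← h5]
    exact Subgroup.map_mono (Abelianization.commutator_subset_ker w)
  · intro h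
    obtain ⟨t', ht', htt⟩ := h ht
    have h6 : t' = t := Subtype.ext htt
    subst h6
    have h7 := hw t' ht
    have h8 : w t' = 1 := ht'
    rw [h8, one_mul, hl _ t'.2] at h7
    apply hlt'
    have h9 : orderOf (l' t') ∣ Nat.gcd p m := Nat.dvd_gcd (orderOf_dvd_of_pow_eq_one (hl3 _))
      (orderOf_dvd_of_pow_eq_one h7)
    rw [(Nat.Prime.coprime_iff_not_dvd hp.out).2 hm] at h9
    exact orderOf_eq_one_iff.1 (Nat.dvd_one.1 h9)

theorem hyp_mono {H : FusionSystem S} (h : ∀ P f, Map H P f → Map F P f) :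
    H.hyperfocalSubgroup p ≤ F.hyperfocalSubgroup p := by
  conv_lhs => rw [hyp_eq]
  rw [Subgroup.closure_le]
  rintro _ ⟨P, α, x, hP, hα, rfl⟩
  refine mem_hyp hP (opR_mono ?_ hα) x
  intro β hβ
  rw [mem_autGroup_iff hP] at hβ ⊢
  exact ⟨h _ _ hβ.map, hβ.maps, hβ.surj⟩

theorem foc_mono {H : FusionSystem S} (h : ∀ P f, Map H P f → Map F P f) :
    H.focalSubgroup ≤ F.focalSubgroup := by
  conv_lhs => rw [foc_eq]
  rw [Subgroup.closure_le]
  rintro _ ⟨P, f, hf, x, hx, rfl⟩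
  exact mem_foc (h P f hf) hx

theorem tate [Finite S] [hp : Fact p.Prime] (hS : IsPGroup p S) (hF : F.IsSaturated p) {H : FusionSystem S}
    (hH : H.IsSaturated p) (hHF : ∀ P f, Map H P f → Map F P f)
    (hE : F.focalSubgroup ≤ (frattini ↥S).map S.subtype ⊔ H.focalSubgroup) :
    F.hyperfocalSubgroup p = H.hyperfocalSubgroup p := by
  by_contra hne
  have hlt : H.hyperfocalSubgroup p < F.hyperfocalSubgroup p := lt_of_le_of_ne (hyp_mono hHF) (Ne.symm hne)
  obtain ⟨C, h1, h2, h3, h4⟩ := tate_core hS hF (fun s hs k hk => hyp_conj_mem hs hk) hlt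
  apply h4
  refine (hyp_le_foc.trans hE).trans (sup_le h2 ?_)
  rw [foc_eq_hyp hS hH]
  exact sup_le h1 h3

end

end Cfsg.Agent.H27.Bs
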