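import Mathlib
import Cfsg.Agent.H27_Bs8

/-! Counting fixed points in a characteristic cocycle; the Thompson transfer. -/

set_option autoImplicit false

namespace Cfsg.Agent.H27.Bs

open Equiv Cfsg.FusionSystem Cfsg.Agent.H27.Fus Cfsg.Agent.H27.Grp

universe u

theorem sum_invariant {G Y : Type*} [Group G] [Finite G] [Fintype Y] [MulAction G Y] (N : Y → ℕ) (M : ℕ)
    (hN : ∀ (g : G) y, N (g • y) = N y) (hd : ∀ y, M * Nat.card (MulAction.stabilizer G y) ∣ N y) :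
    M * Nat.card G ∣ ∑ y, N y := by
  classical
  rw [← Finset.sum_fiberwise Finset.univ (fun y => (Quotient.mk (MulAction.orbitRel G Y) y)) N]
  apply Finset.dvd_sum
  intro ω _
  induction ω using Quotient.inductionOn with
  | _ y =>
  have h1 : ∀ z ∈ Finset.univ.filter (fun z => Quotient.mk (MulAction.orbitRel G Y) z = Quotient.mk _ y), N z = N y := by
    intro z hz
    have h2 := Quotient.exact (Finset.mem_filter.1 hz).2
    obtain ⟨g, hg⟩ := h2
    have hg' : g • y = z := hg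
    rw [← hg', hN]
  rw [Finset.sum_congr rfl h1, Finset.sum_const, smul_eq_mul]
  have h3 : (Finset.univ.filter (fun z => Quotient.mk (MulAction.orbitRel G Y) z = Quotient.mk _ y)).card =
      Nat.card (MulAction.orbit G y) := by
    rw [Nat.card_eq_fintype_card, ← Fintype.card_subtype]
    apply Fintype.card_congr
    refine Equiv.subtypeEquivRight fun z => ?_
    constructor
    · intro h; exact Quotient.exact h
    · intro h; exact Quotient.sound h
  rw [h3]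
  obtain ⟨k, hk⟩ := hd y
  have h4 : Nat.card (MulAction.orbit G y) * Nat.card (MulAction.stabilizer G y) = Nat.card G := by
    rw [← Nat.card_prod]
    exact Nat.card_congr (MulAction.orbitProdStabilizerEquivGroup G y)
  rw [hk]
  refine ⟨k, ?_⟩
  rw [← h4]; ring

section
variable {Ω : Type u} [Group Ω] {S : Subgroup Ω} {F : FusionSystem S} {P Q R : Subgroup Ω} {f g : Ω → Ω}
  {I : Type u} [Fintype I]

/-- the points of the biset fixed by `(q, u)` -/
def CB.Fx (B : CB F I) (q u : ↥S) : Type u := {z : I × ↥S // B.act q z.1 = z.1 ∧ z.2⁻¹ * B.c q z.1 * z.2 = u}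

noncomputable instance (B : CB F I) [Finite S] (q u : ↥S) : Finite (B.Fx q u) := Subtype.finite

theorem CB.Fx_map (B : CB F I) (hf : Map F P f) {q r : ↥S} (hq : (q : Ω) ∈ P) (hr : (r : Ω) = f q) (u : ↥S) :
    Nat.card (B.Fx r u) = Nat.card (B.Fx q u) := by
  obtain ⟨σ, d, h⟩ := B.stab P f hf
  symm
  apply Nat.card_congr
  refine Equiv.ofBijective (fun z => ⟨(σ z.1.1, d z.1.1 * z.1.2), ?_, ?_⟩) ⟨?_, ?_⟩
  · show B.act r (σ z.1.1) = σ z.1.1
    rw [(h q r hq hr _).1, z.2.1]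
  · show (d z.1.1 * z.1.2)⁻¹ * B.c r (σ z.1.1) * (d z.1.1 * z.1.2) = u
    have h1 := (h q r hq hr z.1.1).2
    rw [z.2.1] at h1
    refine Eq.trans ?_ z.2.2
    have h2 : B.c r (σ z.1.1) = d z.1.1 * B.c q z.1.1 * (d z.1.1)⁻¹ := by rw [← h1]; group
    rw [h2]; group
  · rintro ⟨⟨j, b⟩, hz⟩ ⟨⟨j', b'⟩, hz'⟩ he
    have he' := congrArg Subtype.val he
    simp only [Prod.mk.injEq] at he'
    obtain ⟨h1, h2⟩ := he'
    have h3 := σ.injective h1
    subst h3
    apply Subtype.ext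
    simp only [Prod.mk.injEq, true_and]
    exact mul_left_cancel h2
  · rintro ⟨⟨j, b⟩, hz1, hz2⟩
    have hz1' : B.act r j = j := hz1
    have hz2' : b⁻¹ * B.c r j * b = u := hz2
    have h0 : σ (B.act q (σ⁻¹ j)) = j := by
      rw [← (h q r hq hr _).1]; simpa using hz1'
    have h1 : B.act q (σ⁻¹ j) = σ⁻¹ j := by
      rw [Perm.eq_inv_iff_eq]; exact h0
    refine ⟨⟨(σ⁻¹ j, (d (σ⁻¹ j))⁻¹ * b), h1, ?_⟩, ?_⟩
    · show ((d (σ⁻¹ j))⁻¹ * b)⁻¹ * B.c q (σ⁻¹ j) * ((d (σ⁻¹ j))⁻¹ * b) = u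
      have h2 := (h q r hq hr (σ⁻¹ j)).2
      rw [h1] at h2
      have h3 : σ (σ⁻¹ j) = j := by simp
      rw [h3] at h2
      rw [← hz2']
      have h4 : B.c q (σ⁻¹ j) = (d (σ⁻¹ j))⁻¹ * B.c r j * d (σ⁻¹ j) := by rw [mul_assoc, h2]; group
      rw [h4]; group
    · apply Subtype.ext
      show (σ (σ⁻¹ j), d (σ⁻¹ j) * ((d (σ⁻¹ j))⁻¹ * b)) = (j, b)
      simp

theorem CB.Fx_conj (B : CB F I) (q u s : ↥S) : Nat.card (B.Fx q (s * u * s⁻¹)) = Nat.card (B.Fx q u) := by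
  symm
  apply Nat.card_congr
  refine ⟨fun z => ⟨(z.1.1, z.1.2 * s⁻¹), z.2.1, ?_⟩, fun z => ⟨(z.1.1, z.1.2 * s), z.2.1, ?_⟩, ?_, ?_⟩
  · show (z.1.2 * s⁻¹)⁻¹ * B.c q z.1.1 * (z.1.2 * s⁻¹) = s * u * s⁻¹
    have h : z.1.2⁻¹ * B.c q z.1.1 * z.1.2 = u := z.2.2
    have h2 : (z.1.2 * s⁻¹)⁻¹ * B.c q z.1.1 * (z.1.2 * s⁻¹) = s * (z.1.2⁻¹ * B.c q z.1.1 * z.1.2) * s⁻¹ := by group
    rw [h2, h]
  · show (z.1.2 * s)⁻¹ * B.c q z.1.1 * (z.1.2 * s) = u
    have h : z.1.2⁻¹ * B.c q z.1.1 * z.1.2 = s * u * s⁻¹ := z.2.2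
    have h2 : (z.1.2 * s)⁻¹ * B.c q z.1.1 * (z.1.2 * s) = s⁻¹ * (z.1.2⁻¹ * B.c q z.1.1 * z.1.2) * s := by group
    rw [h2, h]; group
  · intro z; apply Subtype.ext; simp
  · intro z; apply Subtype.ext; simp

/-- the centralizer of `q` acts freely -/
theorem CB.dvd_Fx [Finite S] (B : CB F I) (q u : ↥S) :
    Nat.card (Subgroup.centralizer ({q} : Set ↥S)) ∣ Nat.card (B.Fx q u) := by
  classical
  have hc : ∀ a ∈ Subgroup.centralizer ({q} : Set ↥S), q * a = a * q := fun a ha =>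
    Subgroup.mem_centralizer_iff.1 ha q rfl
  have key : ∀ a ∈ Subgroup.centralizer ({q} : Set ↥S), ∀ j, B.act q j = j →
      B.c q (B.act a j) * B.c a j = B.c a j * B.c q j := by
    intro a ha j hj
    rw [← B.coc, hc a ha, B.coc, hj]
  letI : MulAction ↥(Subgroup.centralizer ({q} : Set ↥S)) (B.Fx q u) :=
    { smul := fun a z => ⟨(B.act a z.1.1, B.c a z.1.1 * z.1.2), by
        show B.act q (B.act a z.1.1) = B.act a z.1.1
        rw [← Perm.mul_apply, ← map_mul, hc a a.2, map_mul, Perm.mul_apply, z.2.1], by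
        show (B.c a z.1.1 * z.1.2)⁻¹ * B.c q (B.act a z.1.1) * (B.c a z.1.1 * z.1.2) = u
        have h1 := key a a.2 z.1.1 z.2.1
        refine Eq.trans ?_ z.2.2
        have h2 : B.c q (B.act a z.1.1) = B.c a z.1.1 * B.c q z.1.1 * (B.c a z.1.1)⁻¹ := by rw [← h1]; group
        rw [h2]; group⟩
      one_smul := by
        intro z
        apply Subtype.ext
        show (B.act (1 : ↥S) z.1.1, B.c (1 : ↥S) z.1.1 * z.1.2) = z.1
        rw [map_one, B.c_one]; simp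
      mul_smul := by
        intro a b z
        apply Subtype.ext
        show (B.act ((a : ↥S) * b) z.1.1, B.c ((a : ↥S) * b) z.1.1 * z.1.2) =
          (B.act a (B.act b z.1.1), B.c a (B.act b z.1.1) * (B.c b z.1.1 * z.1.2))
        rw [map_mul, B.coc, Perm.mul_apply, mul_assoc] }
  have hstab : ∀ z : B.Fx q u, MulAction.stabilizer ↥(Subgroup.centralizer ({q} : Set ↥S)) z = ⊥ := by
    intro z
    rw [eq_bot_iff]
    intro a ha
    have h0 : a • z = z := ha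
    have h1 : (a • z).1 = z.1 := by rw [h0]
    replace h1 : (B.act a z.1.1, B.c a z.1.1 * z.1.2) = z.1 := h1
    have h2 : B.act a z.1.1 = z.1.1 := congrArg Prod.fst h1
    have h3 : B.c a z.1.1 * z.1.2 = z.1.2 := congrArg Prod.snd h1
    have h4 : B.c a z.1.1 = 1 := mul_eq_right.1 h3
    obtain ⟨P, f, hf, h5, h6⟩ := B.map z.1.1
    have h7 := h6 a h2
    rw [h4] at h7
    have h8 : ((a : ↥S) : Ω) = 1 := hf.eq_one ((h5 a).2 h2) h7.symm
    rw [Subgroup.mem_bot]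
    exact Subtype.ext (Subtype.ext h8)
  haveI := Fintype.ofFinite (B.Fx q u)
  have h1 := sum_invariant (G := ↥(Subgroup.centralizer ({q} : Set ↥S))) (Y := B.Fx q u) (fun _ => 1) 1
    (fun _ _ => rfl) (fun z => by rw [hstab z]; simp)
  rw [one_mul, Finset.sum_const, Finset.card_univ, smul_eq_mul, mul_one] at h1
  rwa [Nat.card_eq_fintype_card (α := B.Fx q u)]

end

end Cfsg.Agent.H27.Bs
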