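import Mathlib
import Cfsg.Agent.H27_Bs13
import Cfsg.Agent.H27_FusSat
import Cfsg.Agent.H27_FusHyp

/-! The Thompson transfer for fusion systems. -/

set_option autoImplicit false

namespace Cfsg.Agent.H27.Bs

open Equiv Cfsg.FusionSystem Cfsg.Agent.H27.Fus Cfsg.Agent.H27.Grp

universe u

section
variable {Ω : Type u} [Group Ω] {S : Subgroup Ω} {F : FusionSystem S} {P Q R : Subgroup Ω} {f g : Ω → Ω}

theorem nrm_zpowers_inv {v : Ω} (hv : orderOf v = 2) {x : Ω} :
    x ∈ normalizerIn S (Subgroup.zpowers v) ↔ x ∈ S ∧ x * v * x⁻¹ = v := by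
  have hmem : ∀ y, y ∈ Subgroup.zpowers v ↔ y = 1 ∨ y = v := by
    intro y
    constructor
    · intro hy
      obtain ⟨k, rfl⟩ := Subgroup.mem_zpowers_iff.1 hy
      have h2 : v ^ 2 = 1 := by rw [← hv]; exact pow_orderOf_eq_one v
      rcases Int.even_or_odd' k with ⟨m, rfl | rfl⟩
      · left; rw [zpow_mul]; norm_cast; rw [h2, one_zpow]
      · right; rw [zpow_add, zpow_mul, zpow_one]; norm_cast; rw [h2, one_zpow, one_mul]
    · rintro (rfl | rfl)
      · exact Subgroup.one_mem _
      · exact Subgroup.mem_zpowers _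
  have hv1 : v ≠ 1 := by
    rintro rfl; rw [orderOf_one] at hv; omega
  rw [mem_nrm]
  constructor
  · rintro ⟨h1, h2⟩
    refine ⟨h1, ?_⟩
    rcases (hmem _).1 ((h2 v).1 (Subgroup.mem_zpowers v)) with h | h
    · exfalso
      apply hv1
      have : x⁻¹ * (x * v * x⁻¹) * x = x⁻¹ * 1 * x := by rw [h]
      simpa [mul_assoc] using this
    · exact h
  · rintro ⟨h1, h2⟩
    refine ⟨h1, fun y => ?_⟩
    rw [hmem, hmem]
    constructor
    · rintro (rfl | rfl)
      · left; simp
      · right; exact h2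
    · rintro (h | h)
      · left
        have : x⁻¹ * (x * y * x⁻¹) * x = x⁻¹ * 1 * x := by rw [h]
        simpa [mul_assoc] using this
      · right
        have h3 : x * y * x⁻¹ = x * v * x⁻¹ := h.trans h2.symm
        exact mul_left_cancel (mul_right_cancel h3)

theorem card_nrm_zpowers {v : ↥S} (hv : orderOf (v : Ω) = 2) :
    Nat.card (normalizerIn S (Subgroup.zpowers (v : Ω))) = Nat.card (Subgroup.centralizer ({v} : Set ↥S)) := by
  apply Nat.card_congr
  refine ⟨fun x => ⟨⟨x.1, ((nrm_zpowers_inv hv).1 x.2).1⟩, ?_⟩, fun x => ⟨x.1.1, ?_⟩, fun _ => rfl, fun _ => rfl⟩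
  · rw [Subgroup.mem_centralizer_iff]
    intro y hy
    rw [Set.mem_singleton_iff] at hy
    subst hy
    apply Subtype.ext
    have := ((nrm_zpowers_inv hv).1 x.2).2
    show (y : Ω) * x.1 = x.1 * y
    rw [mul_inv_eq_iff_eq_mul] at this
    exact this.symm
  · rw [nrm_zpowers_inv hv]
    refine ⟨x.1.2, ?_⟩
    have := congrArg Subtype.val ((Subgroup.mem_centralizer_iff.1 x.2) v rfl)
    show (x.1 : Ω) * v * (x.1 : Ω)⁻¹ = v
    rw [mul_inv_eq_iff_eq_mul]
    exact this.symm

theorem orderOf_map {x : Ω} (hf : Map F P f) (hx : x ∈ P) : orderOf (f x) = orderOf x := by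
  apply Nat.dvd_antisymm
  · rw [orderOf_dvd_iff_pow_eq_one, ← hf.pow hx, pow_orderOf_eq_one, hf.one]
  · rw [orderOf_dvd_iff_pow_eq_one]
    apply hf.eq_one (P.pow_mem hx _)
    rw [hf.pow hx, pow_orderOf_eq_one]

theorem dvd_of_lt_two_pow {a b : ℕ} (ha : ∃ n, a = 2 ^ n) (hb : ∃ n, b = 2 ^ n) (h : a < b) : 2 * a ∣ b := by
  obtain ⟨n, rfl⟩ := ha
  obtain ⟨m, rfl⟩ := hb
  have h1 := (Nat.pow_lt_pow_iff_right (by norm_num : 1 < 2)).1 h
  rw [← pow_succ']
  exact pow_dvd_pow 2 h1

theorem thompson_transfer [Finite S] (hS : IsPGroup 2 S) (hF : F.IsSaturated 2) {T : Subgroup Ω} (hTS : T ≤ S)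
    (hT : T.relIndex S = 2) {i : Ω} (hi : i ∈ S) (hi2 : orderOf i = 2)
    (h : ∀ j : Ω, F.IsConjElt i j → F.IsFullyNormalized (Subgroup.zpowers j) → j ∉ T) :
    i ∉ F.focalSubgroup := by
  classical
  haveI : Fact (Nat.Prime 2) := ⟨Nat.prime_two⟩
  intro hfoc
  obtain ⟨I, hI, B, hB⟩ := exists_charCB hS hF
  have hidx : (T.subgroupOf S).index = 2 := hT
  haveI hTn : (T.subgroupOf S).Normal := Subgroup.normal_of_index_eq_two hidx
  have hTn' : ∀ s ∈ S, ∀ t ∈ T, s * t * s⁻¹ ∈ T := fun s hs t ht =>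
    hTn.conj_mem (⟨t, hTS ht⟩ : ↥S) ht ⟨s, hs⟩
  let i' : ↥S := ⟨i, hi⟩
  have hi'2 : i' * i' = 1 := by
    apply Subtype.ext
    show i * i = 1
    rw [← pow_two, ← hi2, pow_orderOf_eq_one]
  -- the number of fixed cosets with image in `T` is even
  let J := {j : I // B.act i' j = j ∧ (B.c i' j : Ω) ∈ T}
  have hJ : 2 ∣ Nat.card J := by
    letI : MulAction ↥S {u : ↥S // (u : Ω) ∈ T} :=
      { smul := fun s u => ⟨s * u.1 * s⁻¹, hTn' s s.2 u.1 u.2⟩
        one_smul := fun u => Subtype.ext (by show 1 * u.1 * 1⁻¹ = u.1; simp)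
        mul_smul := fun a b u => Subtype.ext (by
          show a * b * u.1 * (a * b)⁻¹ = a * (b * u.1 * b⁻¹) * a⁻¹
          group) }
    haveI := Fintype.ofFinite {u : ↥S // (u : Ω) ∈ T}
    have h1 := sum_invariant (G := ↥S) (Y := {u : ↥S // (u : Ω) ∈ T}) (fun u => Nat.card (B.Fx i' u.1)) 2
      (fun s u => B.Fx_conj i' u.1 s) (by
      rintro ⟨u, hu⟩
      by_cases hN : Nat.card (B.Fx i' u) = 0
      · show _ ∣ Nat.card (B.Fx i' u)
        rw [hN]; exact dvd_zero _
      · obtain ⟨⟨⟨j, b⟩, hj, hju⟩⟩ := (Nat.card_pos_iff.1 (Nat.pos_of_ne_zero hN)).1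
        have hj' : B.act i' j = j := hj
        have hju' : b⁻¹ * B.c i' j * b = u := hju
        obtain ⟨P, f, hf, h2, h3⟩ := B.map j
        have hiP : i ∈ P := (h2 i').2 hj'
        have h3' : (B.c i' j : Ω) = f i := h3 i' hj'
        -- a map from `i` to `u`
        have hf1 : Map F P (fun x => (b : Ω)⁻¹ * f x * (b : Ω)⁻¹⁻¹) :=
          (map_conj F hf.im_le (S.inv_mem b.2)).comp hf fun x hx => hf.apply_mem_im hx
        have hf1i : (b : Ω)⁻¹ * f i * (b : Ω)⁻¹⁻¹ = u := by
          rw [inv_inv, ← h3']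
          exact congrArg Subtype.val hju'
        have hu2 : orderOf (u : Ω) = 2 := by
          rw [← hf1i, ← hi2]
          exact orderOf_map hf1 hiP
        obtain ⟨Q₀, hQ₀, hfn⟩ := exists_fullyNormalized F (P := Subgroup.zpowers (u : Ω)) (Subgroup.zpowers_le.2 u.2)
        obtain ⟨g, hg⟩ := isConj_iff.1 hQ₀
        have hgQ : Q₀ = Subgroup.zpowers (g u) := by
          apply le_antisymm
          · intro y hy
            obtain ⟨x, hx, rfl⟩ := hg.surj y hy
            obtain ⟨k, rfl⟩ := Subgroup.mem_zpowers_iff.1 hx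
            rw [hg.map.zpow (Subgroup.mem_zpowers _)]
            exact Subgroup.zpow_mem _ (Subgroup.mem_zpowers _) _
          · rw [Subgroup.zpowers_le]
            exact hg.maps _ (Subgroup.mem_zpowers _)
        -- the composite on `⟨i⟩`
        have hf2 : Map F (Subgroup.zpowers i) (fun x => (b : Ω)⁻¹ * f x * (b : Ω)⁻¹⁻¹) :=
          hf1.mono (Subgroup.zpowers_le.2 hiP)
        have hf3 := hg.map.comp hf2 (by
          intro x hx
          obtain ⟨k, rfl⟩ := Subgroup.mem_zpowers_iff.1 hx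
          rw [hf2.zpow (Subgroup.mem_zpowers _)]
          exact Subgroup.zpow_mem _ (by rw [hf1i]; exact Subgroup.mem_zpowers _) _)
        have hf3i : (g ∘ fun x => (b : Ω)⁻¹ * f x * (b : Ω)⁻¹⁻¹) i = g u := by
          show g ((b : Ω)⁻¹ * f i * (b : Ω)⁻¹⁻¹) = g u
          rw [hf1i]
        have hc0 : F.IsConjElt i (g u) := by
          rw [← hf3i]; exact isConjElt_of_map hf3 (Subgroup.mem_zpowers i)
        have hc1 : F.IsConjElt i u := by
          rw [← hf1i]; exact isConjElt_of_map hf2 (Subgroup.mem_zpowers i)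
        have hnfn : ¬ F.IsFullyNormalized (Subgroup.zpowers (u : Ω)) := fun h' => h u hc1 h' hu
        have hgS : g u ∈ S := hg.map.mem (Subgroup.mem_zpowers _)
        have hg2 : orderOf (g u) = 2 := by rw [← hu2]; exact orderOf_map hg.map (Subgroup.mem_zpowers _)
        have hlt : Nat.card (normalizerIn S (Subgroup.zpowers (u : Ω))) <
            Nat.card (normalizerIn S (Subgroup.zpowers (g u))) := by
          by_contra hle
          push Not at hle
          apply hnfn
          refine ⟨Subgroup.zpowers_le.2 u.2, fun Q hQ => ?_⟩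
          refine le_trans ?_ hle
          rw [← hgQ]
          exact hfn.2 Q (isConj_trans (isConj_symm hQ₀) hQ)
        rw [card_nrm_zpowers (v := u) hu2, card_nrm_zpowers (v := ⟨g u, hgS⟩) hg2] at hlt
        have hd := dvd_of_lt_two_pow (by
          rw [← card_nrm_zpowers (v := u) hu2]
          haveI : Finite (normalizerIn S (Subgroup.zpowers (u : Ω))) := fin_nrm
          exact IsPGroup.iff_card.1 (hS.to_le nrm_le)) (by
          rw [← card_nrm_zpowers (v := ⟨g u, hgS⟩) hg2]
          haveI : Finite (normalizerIn S (Subgroup.zpowers (((⟨g u, hgS⟩ : ↥S) : Ω)))) := fin_nrm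
          exact IsPGroup.iff_card.1 (hS.to_le nrm_le)) hlt
        have h5 : Nat.card (MulAction.stabilizer ↥S (⟨u, hu⟩ : {u : ↥S // (u : Ω) ∈ T})) =
            Nat.card (Subgroup.centralizer ({u} : Set ↥S)) := by
          apply Nat.card_congr
          refine Equiv.subtypeEquivRight fun s => ?_
          rw [Subgroup.mem_centralizer_iff]
          constructor
          · intro h' y hy
            rw [Set.mem_singleton_iff] at hy
            rw [hy]
            have h0 : s • (⟨u, hu⟩ : {u : ↥S // (u : Ω) ∈ T}) = ⟨u, hu⟩ := h'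
            have h6 : s * u * s⁻¹ = u := congrArg Subtype.val h0
            rw [mul_inv_eq_iff_eq_mul] at h6
            exact h6.symm
          · intro h'
            have h6 := h' u rfl
            apply Subtype.ext
            show s * u * s⁻¹ = u
            rw [mul_inv_eq_iff_eq_mul]; exact h6.symm
        show 2 * Nat.card (MulAction.stabilizer ↥S (⟨u, hu⟩ : {u : ↥S // (u : Ω) ∈ T})) ∣ Nat.card (B.Fx i' u)
        rw [h5]
        refine hd.trans ?_
        have h7 := B.Fx_map hf3 (q := i') (r := ⟨g u, hgS⟩) (Subgroup.mem_zpowers i) hf3i.symm u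
        rw [← h7]
        exact B.dvd_Fx ⟨g u, hgS⟩ u)
    have h2 : ∑ u : {u : ↥S // (u : Ω) ∈ T}, Nat.card (B.Fx i' u.1) = Nat.card J * Nat.card ↥S := by
      rw [← Nat.card_sigma, ← Nat.card_prod]
      apply Nat.card_congr
      refine ⟨fun z => (⟨z.2.1.1, z.2.2.1, ?_⟩, z.2.1.2), fun z => ⟨⟨z.2⁻¹ * B.c i' z.1.1 * z.2, ?_⟩,
        ⟨(z.1.1, z.2), z.1.2.1, rfl⟩⟩, ?_, ?_⟩
      · obtain ⟨⟨u, hu⟩, ⟨⟨j, b⟩, hj, hb⟩⟩ := z
        show (B.c i' j : Ω) ∈ T
        have hb' : b⁻¹ * B.c i' j * b = u := hb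
        have h3 : B.c i' j = b * u * b⁻¹ := by rw [← hb']; group
        rw [h3]
        exact hTn' b b.2 u hu
      · have := hTn' _ (S.inv_mem z.2.2) _ z.1.2.2
        rwa [inv_inv] at this
      · rintro ⟨⟨u, hu⟩, ⟨⟨j, b⟩, hj, hb⟩⟩
        have hb' : b⁻¹ * B.c i' j * b = u := hb
        subst hb'
        rfl
      · rintro ⟨⟨j, hj⟩, b⟩
        rfl
    rw [h2] at h1
    exact Nat.dvd_of_mul_dvd_mul_right Nat.card_pos h1
  -- the sign character
  let l : ↥S →* ℤˣ :=
    { toFun := fun s => if (s : Ω) ∈ T then 1 else -1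
      map_one' := by simp [T.one_mem]
      map_mul' := by
        intro a b
        have hab := Subgroup.mul_mem_iff_of_index_two hidx (a := a) (b := b)
        rw [Subgroup.mem_subgroupOf, Subgroup.mem_subgroupOf, Subgroup.mem_subgroupOf] at hab
        by_cases ha : (a : Ω) ∈ T <;> by_cases hb : (b : Ω) ∈ T
        · simp only [hab.2 (iff_of_true ha hb), ha, hb, if_true, mul_one]
        · have : ¬ (((a * b : ↥S) : Ω) ∈ T) := fun h' => hb ((hab.1 h').1 ha)
          simp only [this, ha, hb, if_true, if_false, one_mul]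
        · have : ¬ (((a * b : ↥S) : Ω) ∈ T) := fun h' => ha ((hab.1 h').2 hb)
          simp only [this, ha, hb, if_true, if_false, mul_one]
        · simp only [hab.2 (iff_of_false ha hb), ha, hb, if_true, if_false]
          norm_num }
  have hl : ∀ s, l s = if (s : Ω) ∈ T then 1 else -1 := fun _ => rfl
  have hV := B.V_foc l (x := i') hfoc
  rw [B.V_apply] at hV
  let b : I → ℤˣ := fun j => if B.act i' j = j ∧ (B.c i' j : Ω) ∈ T then -1 else 1
  have hprod : ∏ j, (l (B.c i' j) * (-1) * b j) = 1 := by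
    have hact : ∀ j, B.act i' (B.act i' j) = j := by
      intro j
      rw [← Perm.mul_apply, ← map_mul, hi'2, map_one]; rfl
    have hfix : ∀ j, B.act i' j = j → l (B.c i' j) * (-1) * b j = 1 := by
      intro j hj
      by_cases hc : (B.c i' j : Ω) ∈ T
      · simp only [b, hl, hj, hc, if_true, and_self]; norm_num
      · simp only [b, hl, hj, hc, if_true, if_false, and_false]; norm_num
    refine Finset.prod_involution (fun j _ => B.act i' j) ?_ ?_ (fun _ _ => Finset.mem_univ _) (fun j _ => hact j)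
    · intro j _
      by_cases hj : B.act i' j = j
      · rw [hj, hfix j hj, one_mul]
      · have hj' : ¬ (B.act i' (B.act i' j) = B.act i' j) := by
          rw [hact]; exact fun h' => hj h'.symm
        have h1 : l (B.c i' (B.act i' j)) * l (B.c i' j) = 1 := by
          rw [← map_mul, ← B.coc, hi'2, B.c_one, map_one]
        have hb1 : b j = 1 := if_neg fun h' => hj h'.1
        have hb2 : b (B.act i' j) = 1 := if_neg fun h' => hj' h'.1
        rw [hb1, hb2, mul_one, mul_one, mul_mul_mul_comm, mul_comm (l _) (l _), h1]; norm_num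
    · intro j _ hne h'
      exact hne (hfix j h')
  rw [Finset.prod_mul_distrib, Finset.prod_mul_distrib, hV, one_mul, Finset.prod_const, Finset.card_univ] at hprod
  have hb : ∏ j, b j = 1 := by
    show (∏ j, if B.act i' j = j ∧ (B.c i' j : Ω) ∈ T then (-1 : ℤˣ) else 1) = 1
    rw [Finset.prod_ite, Finset.prod_const_one, mul_one, Finset.prod_const]
    have h1 : (Finset.univ.filter (fun j => B.act i' j = j ∧ (B.c i' j : Ω) ∈ T)).card = Nat.card J := by
      rw [Nat.card_eq_fintype_card, Fintype.card_subtype]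
    rw [h1]
    exact Even.neg_one_pow (even_iff_two_dvd.2 hJ)
  rw [hb, mul_one, Odd.neg_one_pow (Nat.odd_iff.2 (Nat.two_dvd_ne_zero.1 hB))] at hprod
  exact absurd hprod (by decide)

end

end Cfsg.Agent.H27.Bs
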