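import Mathlib
import Cfsg.Agent.H27_Ix3
import Cfsg.Agent.H27_FusFac2
import Cfsg.Agent.H27_FusHypG
import Cfsg.Agent.H27_FusInv2

/-! Subsystems of `p`-power index: hyperfocal subgroups and normality. -/

set_option autoImplicit false

namespace Cfsg.Agent.H27.Ix

open Equiv Cfsg.FusionSystem Cfsg.Agent.H27.Fus Cfsg.Agent.H27.Grp

universe u

section res
variable {Ω : Type*} [Group Ω] {Q R : Subgroup Ω}

/-- restriction of automorphisms to an invariant subgroup -/
def resI (h : R ≤ Q) : ↥(StA Q R) →* MulAut R where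
  toFun α :=
    { toFun := fun x => ⟨((α : MulAut Q) ⟨x, h x.2⟩ : Q), (mem_StA.1 α.2 ⟨x, h x.2⟩).2 x.2⟩
      invFun := fun x => ⟨((α : MulAut Q)⁻¹ ⟨x, h x.2⟩ : Q), (mem_StA.1 (inv_mem α.2) ⟨x, h x.2⟩).2 x.2⟩
      left_inv := fun x => by
        apply Subtype.ext
        show (((α : MulAut Q)⁻¹ ((α : MulAut Q) ⟨x, h x.2⟩) : Q) : Ω) = x
        rw [MulAut.inv_apply_self]
      right_inv := fun x => by
        apply Subtype.ext
        show (((α : MulAut Q) ((α : MulAut Q)⁻¹ ⟨x, h x.2⟩) : Q) : Ω) = x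
        rw [MulAut.apply_inv_self]
      map_mul' := fun x y => by
        apply Subtype.ext
        show (((α : MulAut Q) ⟨x * y, _⟩ : Q) : Ω) = (((α : MulAut Q) ⟨x, h x.2⟩ : Q) : Ω) * (((α : MulAut Q) ⟨y, h y.2⟩ : Q) : Ω)
        exact congrArg Subtype.val (map_mul (α : MulAut Q) ⟨x, h x.2⟩ ⟨y, h y.2⟩) }
  map_one' := by ext x; rfl
  map_mul' α β := by ext x; rfl

theorem resI_apply (h : R ≤ Q) (α : ↥(StA Q R)) (x : R) : ((resI h α x : R) : Ω) = ((α : MulAut Q) ⟨x, h x.2⟩ : Q) := rfl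

end res

section
variable {Ω : Type*} [Group Ω] {S T U : Subgroup Ω} {F : FusionSystem S} {E : FusionSystem T} {D : FusionSystem U}
  {P Q R : Subgroup Ω} {f g : Ω → Ω} {p : ℕ} [Fact p.Prime]

/-- lift of a `p'`-automorphism through restriction -/
theorem exists_coprime_lift (hRQ : R ≤ Q) [Finite Q] {A : Subgroup (MulAut Q)} {b : MulAut Q} (hb : b ∈ A)
    {β : MulAut R} (hβ : (orderOf β).Coprime p) (h : ∀ x (hx : x ∈ R), (b ⟨x, hRQ hx⟩ : Ω) = β ⟨x, hx⟩) :
    ∃ b' ∈ A, (orderOf b').Coprime p ∧ ∀ x (hx : x ∈ R), (b' ⟨x, hRQ hx⟩ : Ω) = β ⟨x, hx⟩ := by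
  have hmem : b ∈ StA Q R := by
    rw [mem_StA]
    intro x
    have key : ∀ y : Q, (y : Ω) ∈ R → (b y : Ω) ∈ R := fun y hy => by
      have := h y hy
      have e : (⟨(y : Ω), hRQ hy⟩ : Q) = y := rfl
      rw [e] at this
      rw [this]; exact (β ⟨y, hy⟩).2
    refine ⟨fun hx => ?_, key x⟩
    have h1 : (β ⟨_, (β.symm ⟨_, hx⟩).2⟩ : Ω) = b x := by
      show (β (β.symm ⟨_, hx⟩) : Ω) = b x
      rw [MulEquiv.apply_symm_apply]
    have h2 := h (β.symm ⟨_, hx⟩) (β.symm ⟨_, hx⟩).2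
    rw [h1] at h2
    have h3 := b.injective (Subtype.ext h2)
    rw [← h3]; exact (β.symm ⟨_, hx⟩).2
  have hres : resI hRQ ⟨b, hmem⟩ = β := by
    ext x
    exact h x x.2
  obtain ⟨k, hk1, hk2⟩ := exists_pow_lift (p := p) (resI hRQ) ⟨b, hmem⟩ (by rw [hres]; exact hβ)
  refine ⟨b ^ k, A.pow_mem hb k, ?_, fun x hx => ?_⟩
  · have h1 : orderOf (⟨b, hmem⟩ ^ k : ↥(StA Q R)) = orderOf (b ^ k) := (Subgroup.orderOf_coe _).symm
    rw [← h1]; exact hk2
  · have h1 := congrArg (fun γ : MulAut R => ((γ ⟨x, hx⟩ : R) : Ω)) hk1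
    rw [hres] at h1
    exact h1

variable [Finite S]

/-- extension of a `p'`-automorphism to a `p'`-automorphism of the product with the centralizer -/
theorem exists_coprime_ext (hT : F.IsReceptive T) {β : MulAut T} (hβ : β ∈ F.autGroup T) (hord : (orderOf β).Coprime p) :
    ∃ b ∈ F.autGroup (T ⊔ centralizerIn S T), (orderOf b).Coprime p ∧ ∀ x (hx : x ∈ T),
      (b ⟨x, Subgroup.mem_sup_left hx⟩ : Ω) = β ⟨x, hx⟩ := by
  have hTS := hT.1
  have hle : T ⊔ centralizerIn S T ≤ S := sup_le hTS cen_le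
  have hfin : Finite ↥(T ⊔ centralizerIn S T) := finite_of_le hle
  have hi := (mem_autGroup_iff hTS).1 hβ
  obtain ⟨g, hg, hg'⟩ := receptive_ext' hT hi (N := T ⊔ centralizerIn S T) (sup_le hi.map.le_ext cen_le_ext)
  have hgi : Iso F T T g := hi.congr fun x hx => (hg' x hx).symm
  have hm : ∀ x ∈ T ⊔ centralizerIn S T, g x ∈ T ⊔ centralizerIn S T :=
    hg.maps_sup (fun x hx => Subgroup.mem_sup_left (by rw [← hgi.im_eq]; exact hgi.map.apply_mem_im hx))
      (fun x hx => Subgroup.mem_sup_right (hg.cen_mem' hgi le_sup_left (Subgroup.mem_sup_right hx) hx))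
  have hgI : Iso F (T ⊔ centralizerIn S T) (T ⊔ centralizerIn S T) g := iso_of_card_le hg hm le_rfl
  exact exists_coprime_lift (le_sup_left : T ≤ T ⊔ centralizerIn S T) hgI.aut_mem hord fun x hx => by
    rw [Iso.aut_apply]
    show g x = _
    rw [hg' x hx, totA_of_mem _ hx]

end

section
variable {Ω : Type u} [Group Ω] {S T U : Subgroup Ω} {F : FusionSystem S} {E : FusionSystem T} {D : FusionSystem U}
  {P Q R : Subgroup Ω} {f g : Ω → Ω} {p : ℕ} [Fact p.Prime]

/-- coprime action by counting powers -/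
theorem coprime_step (hP : ∃ n, ∀ x ∈ P, x ^ (p ^ n) = 1) {α : MulAut P} (hα : (orderOf α).Coprime p)
    {R H : Subgroup Ω} (hn : ∀ t ∈ R, ∀ h ∈ H, t * h * t⁻¹ ∈ H) (h1 : ∀ x : P, (x : Ω)⁻¹ * (α x : Ω) ∈ R)
    (h2 : ∀ x : P, (x : Ω) ∈ R → (x : Ω)⁻¹ * (α x : Ω) ∈ H) (x : P) : (x : Ω)⁻¹ * (α x : Ω) ∈ H := by
  set r : P := x⁻¹ * α x with hr
  have hrR : (r : Ω) ∈ R := h1 x
  have hin : ∀ y : P, (y : Ω) ∈ R → (α y : Ω) ∈ R := fun y hy => by
    have := R.mul_mem hy (h1 y)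
    rwa [mul_inv_cancel_left] at this
  have hk : ∀ k : ℕ, ((α ^ k) r : Ω) ∈ R ∧ (r : Ω)⁻¹ * ((α ^ k) r : Ω) ∈ H := by
    intro k
    induction k with
    | zero => exact ⟨hrR, by simp⟩
    | succ k ih =>
      rw [pow_succ', MulAut.mul_apply]
      refine ⟨hin _ ih.1, ?_⟩
      have h3 := H.mul_mem ih.2 (h2 _ ih.1)
      have h4 : (r : Ω)⁻¹ * ((α ^ k) r : Ω) * (((α ^ k) r : Ω)⁻¹ * (α ((α ^ k) r) : Ω)) = (r : Ω)⁻¹ * (α ((α ^ k) r) : Ω) := by
        group
      rwa [h4] at h3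
  have hx : ∀ k : ℕ, ∃ h ∈ H, ((α ^ k) x : Ω) = x * (r : Ω) ^ k * h := by
    intro k
    induction k with
    | zero => exact ⟨1, H.one_mem, by simp⟩
    | succ k ih =>
      obtain ⟨h, hh, h3⟩ := ih
      have h4 : (α ^ (k + 1)) x = (α ^ k) x * (α ^ k) r := by
        rw [← map_mul, hr, mul_inv_cancel_left, pow_succ, MulAut.mul_apply]
      refine ⟨(r : Ω)⁻¹ * h * (r : Ω)⁻¹⁻¹ * ((r : Ω)⁻¹ * ((α ^ k) r : Ω)), H.mul_mem (hn _ (R.inv_mem hrR) _ hh) (hk k).2, ?_⟩
      rw [h4, Subgroup.coe_mul, h3]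
      rw [pow_succ]; group
  obtain ⟨h, hh, h3⟩ := hx (orderOf α)
  rw [pow_orderOf_eq_one] at h3
  have h4 : (r : Ω) ^ orderOf α ∈ H := by
    have h5 : (x : Ω) = x * (r : Ω) ^ orderOf α * h := h3
    have h6 : (r : Ω) ^ orderOf α = h⁻¹ := by
      rw [mul_assoc] at h5
      have h7 := mul_eq_left.1 h5.symm
      exact eq_inv_of_mul_eq_one_left h7
    rw [h6]; exact H.inv_mem hh
  obtain ⟨n, hn'⟩ := hP
  have h5 : (r : Ω) ^ (p ^ n) = 1 := hn' _ r.2
  have hc : IsCoprime (p ^ n : ℤ) (orderOf α : ℤ) := by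
    have := Nat.isCoprime_iff_coprime.2 (Nat.Coprime.pow_left n hα.symm)
    push_cast at this
    exact this
  obtain ⟨u, v, huv⟩ := hc
  have h6 : (r : Ω) = ((r : Ω) ^ (p ^ n)) ^ u * ((r : Ω) ^ orderOf α) ^ v := by
    rw [← zpow_natCast, ← zpow_natCast, ← zpow_mul, ← zpow_mul, ← zpow_add]
    push_cast
    rw [mul_comm ((p : ℤ) ^ n) u, mul_comm (orderOf α : ℤ) v, huv, zpow_one]
  have h7 : (r : Ω) ∈ H := by
    rw [h6, h5, one_zpow, one_mul]
    exact H.zpow_mem h4 v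
  exact h7

/-- a subsystem of `p`-power index has the same hyperfocal subgroup -/
theorem PIx.hyp_eq [Finite S] (hS : IsPGroup p S) (hF : F.IsSaturated p) (h : PIx E F p) :
    E.hyperfocalSubgroup p = F.hyperfocalSubgroup p := by
  apply le_antisymm (hyp_mono' h.sub)
  have hTS := h.le
  have hs := (stronglyClosed_iff.1 (hyp_strong hS hF)).2
  rw [Cfsg.Agent.H27.Fus.hyp_eq (F := F), Subgroup.closure_le]
  rintro _ ⟨P, α, x, hP, hα, rfl⟩
  have hfinP : Finite P := finite_of_le hP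
  -- reduction to generators
  have hgen : ∀ α ∈ opR p (F.autGroup P), ∀ x : P, (x : Ω)⁻¹ * (α x : Ω) ∈ E.hyperfocalSubgroup p := by
    have hle : opR p (F.autGroup P) ≤
        { carrier := {α | ∀ x : P, (x : Ω)⁻¹ * (α x : Ω) ∈ E.hyperfocalSubgroup p}
          mul_mem' := by
            intro a b ha hb x
            have h1 := (E.hyperfocalSubgroup p).mul_mem (hb x) (ha (b x))
            rw [show ((x : Ω)⁻¹ * (b x : Ω)) * ((b x : Ω)⁻¹ * (a (b x) : Ω)) = (x : Ω)⁻¹ * (a (b x) : Ω) by group] at h1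
            exact h1
          one_mem' := by intro x; simp
          inv_mem' := by
            intro a ha x
            have h1 := (E.hyperfocalSubgroup p).inv_mem (ha (a⁻¹ x))
            rw [MulAut.apply_inv_self, mul_inv_rev, inv_inv] at h1
            exact h1 : Subgroup (MulAut P) } := by
      rw [opR_eq, Subgroup.closure_le]
      rintro α ⟨hα, hord⟩
      show ∀ x : P, (x : Ω)⁻¹ * (α x : Ω) ∈ E.hyperfocalSubgroup p
      have hαR : α ∈ opR p (F.autGroup P) := mem_opR_of hα hord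
      have hi := (mem_autGroup_iff hP).1 hα
      -- the intersection with the hyperfocal subgroup
      set R := P ⊓ F.hyperfocalSubgroup p with hR
      have hRT : R ≤ T := inf_le_right.trans h.hyp
      have hαRm : ∀ y : P, (y : Ω) ∈ R → (α y : Ω) ∈ R := fun y hy =>
        ⟨(α y).2, by rw [← totA_apply α y]; exact hs _ _ hi.map y y.2 hy.2⟩
      obtain ⟨n, hn⟩ := exists_pow_card hS
      refine coprime_step (R := R) ⟨n, fun x hx => hn x (hP hx)⟩ hord ?_ ?_ ?_
      · intro t ht y hy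
        exact hyp_conj_mem (hRT ht) hy
      · intro x
        exact ⟨P.mul_mem (P.inv_mem x.2) (α x).2, mem_hyp hP hαR x⟩
      · intro x hx
        -- restrict to `R`
        have hm : α ∈ StA P R := by
          rw [mem_StA]
          intro y
          refine ⟨fun hy => ⟨y.2, ?_⟩, hαRm y⟩
          have h1 := (mem_autGroup_iff hP).1 (inv_mem hα)
          have h2 := hs _ _ h1.map _ (α y).2 hy.2
          rwa [totA_apply, MulAut.inv_apply_self] at h2
        have hres : resI (inf_le_left : R ≤ P) ⟨α, hm⟩ ∈ opR p (F.autGroup R) := by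
          apply mem_opR_of
          · refine mem_autGroup_of (hi.map.mono (inf_le_left : R ≤ P)) fun y => ?_
            rw [resI_apply]
            exact (totA_of_mem α _).symm
          · refine Nat.Coprime.coprime_dvd_left ?_ hord
            have h1 := orderOf_map_dvd (resI (inf_le_left : R ≤ P)) ⟨α, hm⟩
            rwa [Subgroup.orderOf_mk] at h1
        have h3 : resI (inf_le_left : R ≤ P) ⟨α, hm⟩ ∈ opR p (E.autGroup R) := by
          have h4 := opR_mono (p := p) (h.aut R hRT)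
          rw [opR_opR] at h4
          exact h4 hres
        exact mem_hyp hRT h3 ⟨x, hx⟩
    exact fun α hα => hle hα
  exact hgen α hα x

/-- restriction of a residual automorphism to a strongly closed subgroup -/
theorem res_opR [Finite S] (hT : F.StronglyClosed T) (hP : P ≤ S) {α : MulAut P} (hα : α ∈ opR p (F.autGroup P)) :
    ∃ β ∈ opR p (F.autGroup (P ⊓ T)), ∀ x (hx : x ∈ P ⊓ T), ((β ⟨x, hx⟩ : ↥(P ⊓ T)) : Ω) = α ⟨x, hx.1⟩ := by
  have hs := (stronglyClosed_iff.1 hT).2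
  have hle : opR p (F.autGroup P) ≤ (StA P (P ⊓ T)) := by
    refine (opR_le _).trans ?_
    intro α hα
    have hi := (mem_autGroup_iff hP).1 hα
    rw [mem_StA]
    intro y
    constructor
    · intro hy
      refine ⟨y.2, ?_⟩
      have h1 := (mem_autGroup_iff hP).1 (inv_mem hα)
      have h2 := hs _ _ h1.map _ (α y).2 hy.2
      rwa [totA_apply, MulAut.inv_apply_self] at h2
    · intro hy
      exact ⟨(α y).2, by rw [← totA_apply α y]; exact hs _ _ hi.map y y.2 hy.2⟩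
  have key : ((opR p (F.autGroup P)).subgroupOf (StA P (P ⊓ T))).map (resI (inf_le_left : P ⊓ T ≤ P)) ≤
      opR p (F.autGroup (P ⊓ T)) := by
    have h1 : (opR p (F.autGroup P)).subgroupOf (StA P (P ⊓ T)) ≤
        Subgroup.closure {a : ↥(StA P (P ⊓ T)) | (a : MulAut P) ∈ F.autGroup P ∧ (orderOf a).Coprime p} := by
      rintro ⟨a, ha⟩ h2
      rw [Subgroup.mem_subgroupOf] at h2
      have h3 : a ∈ (Subgroup.closure {a : ↥(StA P (P ⊓ T)) | (a : MulAut P) ∈ F.autGroup P ∧ (orderOf a).Coprime p}).map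
          (StA P (P ⊓ T)).subtype := by
        have h4 : opR p (F.autGroup P) ≤ (Subgroup.closure {a : ↥(StA P (P ⊓ T)) | (a : MulAut P) ∈ F.autGroup P ∧ (orderOf a).Coprime p}).map
          (StA P (P ⊓ T)).subtype := by
          conv_lhs => rw [opR_eq]
          rw [Subgroup.closure_le]
          rintro b ⟨hb, hord⟩
          have hb' : b ∈ StA P (P ⊓ T) := hle (mem_opR_of hb hord)
          refine ⟨⟨b, hb'⟩, Subgroup.subset_closure ⟨hb, ?_⟩, rfl⟩
          rw [Subgroup.orderOf_mk]; exact hord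
        exact h4 h2
      obtain ⟨c, hc, hca⟩ := h3
      have : c = ⟨a, ha⟩ := Subtype.ext hca
      rw [← this]; exact hc
    refine (Subgroup.map_mono h1).trans ?_
    rw [MonoidHom.map_closure, Subgroup.closure_le]
    rintro _ ⟨a, ⟨ha, hord⟩, rfl⟩
    apply mem_opR_of
    · have hi := (mem_autGroup_iff hP).1 ha
      refine mem_autGroup_of (hi.map.mono (inf_le_left : P ⊓ T ≤ P)) fun y => ?_
      rw [resI_apply]
      exact (totA_of_mem _ _).symm
    · exact Nat.Coprime.coprime_dvd_left (orderOf_map_dvd _ _) hord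
  refine ⟨_, key ⟨⟨α, hle hα⟩, Subgroup.mem_subgroupOf.2 hα, rfl⟩, fun x hx => rfl⟩

end

end Cfsg.Agent.H27.Ix
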