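import Mathlib
import Cfsg.Agent.H27_Ix4
import Cfsg.Agent.H27_FusAlp2
import Cfsg.Agent.H27_FusNK

/-! Subsystems of `p`-power index over normal subgroups are normal. -/

set_option autoImplicit false

namespace Cfsg.Agent.H27.Ix

open Equiv Cfsg.FusionSystem Cfsg.Agent.H27.Fus Cfsg.Agent.H27.Grp

universe u

section
variable {Ω : Type u} [Group Ω] {S T U : Subgroup Ω} {F : FusionSystem S} {E : FusionSystem T}
  {P Q R : Subgroup Ω} {f g : Ω → Ω} {p : ℕ} [Fact p.Prime]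

theorem im_mono' {a : Ω → Ω} (h : P ≤ Q) : im P a ≤ im Q a := Subgroup.closure_mono (Set.image_mono h)

theorem PIx.strong [Finite S] (hS : IsPGroup p S) (hF : F.IsSaturated p) (h : PIx E F p)
    (hTn : ∀ s ∈ S, ∀ t ∈ T, s * t * s⁻¹ ∈ T) : F.StronglyClosed T := by
  rw [stronglyClosed_iff]
  refine ⟨h.le, fun P f hf x hx hxT => ?_⟩
  obtain ⟨s, hs, y, hy, hfx⟩ := map_mod_hyp hS hF P f hf x hx
  rw [hfx]
  exact T.mul_mem (hTn s hs x hxT) (h.hyp hy)

theorem conj_iso (hTS : T ≤ S) (hTn : ∀ s ∈ S, ∀ t ∈ T, s * t * s⁻¹ ∈ T) {s : Ω} (hs : s ∈ S) :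
    Iso F T T (fun x => s * x * s⁻¹) := by
  refine (map_conj F hTS hs).iso_of_im_eq ?_
  ext y
  rw [(map_conj F hTS hs).mem_im]
  constructor
  · rintro ⟨x, hx, rfl⟩; exact hTn s hs x hx
  · intro hy
    exact ⟨s⁻¹ * y * s⁻¹⁻¹, hTn _ (S.inv_mem hs) y hy, by group⟩

/-- invariance -/
theorem PIx.invariant [Finite S] (hS : IsPGroup p S) (hE : E.IsSaturated p) (h : PIx E F p) :
    ∀ P f a, Map E P f → Iso F T T a → ∃ g, Map E (im P a) g ∧ ∀ x ∈ P, g (a x) = a (f x) := by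
  intro P f a hf ha
  have hTS := h.le
  have hfinT : Finite T := finite_of_le hTS
  have hamem : ∀ x ∈ T, a x ∈ T := fun x hx => by
    have := ha.map.apply_mem_im hx
    rwa [ha.im_eq] at this
  have himT : ∀ P, P ≤ T → im P a ≤ T := fun P hP => (im_mono' hP).trans ha.im_eq.le
  have haI : ∀ P, P ≤ T → Iso F P (im P a) a := fun P hP => ha.restrict hP
  have hgen : ∀ P : Subgroup Ω, E.IsFullyNormalized P → ∀ f, Iso E P P f →
      ∃ g, Map E (im P a) g ∧ ∀ x ∈ P, g (a x) = a (f x) := by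
    intro P hP f hf
    have hPT := hP.1
    have hi := haI P hPT
    have hle : E.autGroup P ≤ (E.autGroup (im P a)).comap (MulAut.congr hi.equiv).toMonoidHom := by
      refine aut_le_of_res (hS.to_le hTS) hE hP ?_ ?_
      · rw [← Subgroup.map_le_iff_le_comap]
        refine (Subgroup.map_mono (opR_mono (autGroup_mono_of_sub h.sub hTS hPT))).trans ?_
        rw [hi.map_opR]
        exact h.aut _ (himT P hPT)
      · intro α hα
        obtain ⟨t, ht, hα'⟩ := mem_autInducedBy.1 hα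
        refine autInducedBy_le_autGroup E (himT P hPT) (mem_autInducedBy.2 ⟨a t, hamem t ht, fun y => ?_⟩)
        obtain ⟨x, rfl⟩ := hi.equiv.surjective y
        rw [congr_equiv_apply]
        show a (α x) = a t * a x * (a t)⁻¹
        rw [hα' x]
        exact ha.map.conj ht (hPT x.2)
    have h1 := hle hf.aut_mem
    have h2 := (mem_autGroup_iff (himT P hPT)).1 h1
    refine ⟨_, h2.map, fun x hx => ?_⟩
    have h3 : a x = (hi.equiv ⟨x, hx⟩ : im P a) := rfl
    rw [h3, totA_apply, congr_equiv_apply]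
    rfl
  have hsub : SubCls E (fun P f => ∃ g, Map E (im P a) g ∧ ∀ x ∈ P, g (a x) = a (f x)) := by
    refine ⟨?_, ?_, ?_, ?_⟩
    · rintro P f f' ⟨g, hg, hgf⟩ hff
      exact ⟨g, hg, fun x hx => by rw [hgf x hx, hff x hx]⟩
    · rintro P Q f ⟨g, hg, hgf⟩ hQP
      exact ⟨g, hg.mono (im_mono' hQP), fun x hx => hgf x (hQP hx)⟩
    · rintro P Q f f' hf hf' ⟨g, hg, hgf⟩ ⟨g', hg', hgf'⟩ hPQ
      have hm : ∀ y ∈ im P a, g y ∈ im Q a := by
        intro y hy
        obtain ⟨x, hx, rfl⟩ := (haI P hf.le).map.mem_im.1 hy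
        rw [hgf x hx]
        exact (haI Q hf'.le).map.apply_mem_im (hPQ x hx)
      refine ⟨g' ∘ g, hg'.comp hg hm, fun x hx => ?_⟩
      show g' (g (a x)) = a (f' (f x))
      rw [hgf x hx, hgf' _ (hPQ x hx)]
    · rintro P Q f hi ⟨g, hg, hgf⟩
      have him : im (im P a) g = im Q a := by
        ext y
        rw [hg.mem_im, (haI Q hi.le').map.mem_im]
        constructor
        · rintro ⟨z, hz, rfl⟩
          obtain ⟨x, hx, rfl⟩ := (haI P hi.le).map.mem_im.1 hz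
          exact ⟨f x, by rw [← hi.im_eq]; exact hi.map.apply_mem_im hx, (hgf x hx).symm⟩
        · rintro ⟨z, hz, rfl⟩
          rw [← hi.im_eq] at hz
          obtain ⟨x, hx, rfl⟩ := hi.map.mem_im.1 hz
          exact ⟨a x, (haI P hi.le).map.apply_mem_im hx, hgf x hx⟩
      have hgi : Iso E (im P a) (im Q a) g := hg.iso_of_im_eq him
      refine ⟨finv (im P a) g, hgi.symm.map, fun y hy => ?_⟩
      have h1 := hi.finv_mem hy
      have h2 : a y = g (a (finv P f y)) := by rw [hgf _ h1, hi.finv_right hy]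
      rw [h2, hgi.finv_left ((haI P hi.le).map.apply_mem_im h1)]
  exact alperin (hS.to_le hTS) hE hsub (fun f hf => hgen T (fn_top E) f hf) (fun P hP f hf => hgen P hP.2.1 f hf) P f hf

/-- Frattini -/
theorem PIx.frattini [Finite S] (hS : IsPGroup p S) (hF : F.IsSaturated p) (hE : E.IsSaturated p) (h : PIx E F p)
    (hTn : ∀ s ∈ S, ∀ t ∈ T, s * t * s⁻¹ ∈ T) :
    ∀ P f, Map F P f → ∃ s ∈ S, ∃ g, Map E (P ⊓ T) g ∧ ∀ x ∈ P ⊓ T, f x = s * g x * s⁻¹ := by
  have hTS := h.le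
  have hst := h.strong hS hF hTn
  have hs := (stronglyClosed_iff.1 hst).2
  have hinv := h.invariant hS hE
  have hconj : ∀ s ∈ S, ∀ P, P ≤ T → Map F P (fun x => s * x * s⁻¹) := fun s hs P hP => map_conj F (hP.trans hTS) hs
  have hsub : SubCls F (fun P f => ∃ s ∈ S, ∃ g, Map E (P ⊓ T) g ∧ ∀ x ∈ P ⊓ T, f x = s * g x * s⁻¹) := by
    refine ⟨?_, ?_, ?_, ?_⟩
    · rintro P f f' ⟨s, hs, g, hg, hgf⟩ hff
      exact ⟨s, hs, g, hg, fun x hx => by rw [← hff x hx.1, hgf x hx]⟩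
    · rintro P Q f ⟨s, hs, g, hg, hgf⟩ hQP
      exact ⟨s, hs, g, hg.mono (inf_le_inf_right _ hQP), fun x hx => hgf x ⟨hQP hx.1, hx.2⟩⟩
    · rintro P Q f f' hf hf' ⟨s, hs1, g, hg, hgf⟩ ⟨s', hs2, g', hg', hgf'⟩ hPQ
      obtain ⟨k, hk, hk'⟩ := hinv _ _ _ hg' (conj_iso (F := F) hTS hTn (S.inv_mem hs1))
      have hgm : ∀ x ∈ P ⊓ T, f x ∈ Q ⊓ T := fun x hx => ⟨hPQ x hx.1, hs _ _ hf x hx.1 hx.2⟩
      have e1 : ∀ x ∈ P ⊓ T, s⁻¹ * f x * s⁻¹⁻¹ = g x := fun x hx => by rw [hgf x hx]; group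
      refine ⟨s' * s, S.mul_mem hs2 hs1, k ∘ g, hk.comp hg fun x hx => ?_, fun x hx => ?_⟩
      · rw [← e1 x hx]
        exact (hconj _ (S.inv_mem hs1) _ inf_le_right).apply_mem_im (hgm x hx)
      · show f' (f x) = s' * s * k (g x) * (s' * s)⁻¹
        rw [hgf' _ (hgm x hx), ← e1 x hx, hk' _ (hgm x hx)]
        group
    · rintro P Q f hi ⟨s, hs1, g, hg, hgf⟩
      have hgi := hg.iso
      obtain ⟨k, hk, hk'⟩ := hinv _ _ _ hgi.symm.map (conj_iso (F := F) hTS hTn hs1)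
      have hmem : ∀ y ∈ Q ⊓ T, finv P f y ∈ P ⊓ T := fun y hy =>
        ⟨hi.finv_mem hy.1, hs _ _ hi.symm.map y hy.1 hy.2⟩
      have e1 : ∀ y ∈ Q ⊓ T, y = s * g (finv P f y) * s⁻¹ := fun y hy => by
        rw [← hgf _ (hmem y hy), hi.finv_right hy.1]
      have hle : Q ⊓ T ≤ im (im (P ⊓ T) g) (fun x => s * x * s⁻¹) := by
        intro y hy
        rw [e1 y hy]
        exact (hconj s hs1 _ (hgi.le')).apply_mem_im (hg.apply_mem_im (hmem y hy))
      refine ⟨s⁻¹, S.inv_mem hs1, k, hk.mono hle, fun y hy => ?_⟩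
      have h1 := hk' _ (hg.apply_mem_im (hmem y hy))
      have h2 : k y = s * finv (P ⊓ T) g (g (finv P f y)) * s⁻¹ := by
        rw [← h1, ← e1 y hy]
      rw [h2, hgi.finv_left (hmem y hy)]; group
  have hgen : ∀ P : Subgroup Ω, F.IsFullyNormalized P → ∀ f, Iso F P P f →
      ∃ s ∈ S, ∃ g, Map E (P ⊓ T) g ∧ ∀ x ∈ P ⊓ T, f x = s * g x * s⁻¹ := by
    intro P hP f hf
    have hfinP : Finite P := finite_of_le hP.1
    have hsyl := (isFullyAutomized_iff.1 (fn_automized hS hF hP)).2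
    obtain ⟨b, hb, t, ht, hbt⟩ := exists_opR_mul hsyl hf.aut_mem
    obtain ⟨s, hs1, hs2⟩ := mem_autInducedBy.1 ht
    obtain ⟨β, hβ, hβ'⟩ := res_opR hst hP.1 hb
    have hbF := (mem_autGroup_iff hP.1).1 (opR_le _ hb)
    have htF := (mem_autGroup_iff hP.1).1 (autInducedBy_le_autGroup F hP.1 ht)
    have hPT : P ⊓ T ≤ T := inf_le_right
    have c1 : ∃ s ∈ S, ∃ g, Map E (P ⊓ T) g ∧ ∀ x ∈ P ⊓ T, totA b x = s * g x * s⁻¹ := by
      refine ⟨1, S.one_mem, totA β, ((mem_autGroup_iff hPT).1 (h.aut _ hPT hβ)).map, fun x hx => ?_⟩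
      rw [totA_of_mem b hx.1, totA_of_mem β hx, hβ' x hx]; group
    have c2 : ∃ s ∈ S, ∃ g, Map E (P ⊓ T) g ∧ ∀ x ∈ P ⊓ T, totA t x = s * g x * s⁻¹ :=
      ⟨s, hs1, id, map_id E hPT, fun x hx => by rw [totA_of_mem t hx.1, hs2]; rfl⟩
    have c3 := hsub.comp htF.map hbF.map c2 c1 fun x hx => by rw [totA_of_mem t hx]; exact (t ⟨x, hx⟩).2
    refine hsub.congr c3 fun x hx => ?_
    show totA b (totA t x) = f x
    rw [totA_of_mem t hx, totA_apply]
    have := congrArg (fun γ : MulAut P => (γ ⟨x, hx⟩ : Ω)) hbt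
    exact this
  exact alperin hS hF hsub (fun f hf => hgen S (fn_top F) f hf) (fun P hP f hf => hgen P hP.2.1 f hf)

/-- a subsystem of `p`-power index over a normal subgroup is normal -/
theorem PIx.normal [Finite S] (hS : IsPGroup p S) (hF : F.IsSaturated p) (hE : E.IsSaturated p) (h : PIx E F p)
    (hTn : ∀ s ∈ S, ∀ t ∈ T, s * t * s⁻¹ ∈ T) : E.IsNormalIn F p := by
  have hTS := h.le
  have hst := h.strong hS hF hTn
  have hfinT : Finite T := finite_of_le hTS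
  rw [normalIn_iff]
  refine ⟨hE, hF, ⟨h.sub, hst, h.invariant hS hE, ?_⟩, ?_⟩
  · intro P f hP hf
    obtain ⟨s, hs, g, hg, hgf⟩ := h.frattini hS hF hE hTn P f hf
    rw [inf_eq_left.2 hP] at hg hgf
    exact ⟨_, g, conj_iso hTS hTn hs, hg, hgf⟩
  · intro a ha
    set W := T ⊔ centralizerIn S T with hW
    have hTW : T ≤ W := le_sup_left
    have hWS : W ≤ S := sup_le hTS cen_le
    have hKSt : KT' F W T ≤ StA W T := by
      intro κ hκ
      have h1 := (mem_KT'.1 hκ).2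
      rw [mem_StA]
      intro x
      constructor
      · intro hx
        have h2 := T.mul_mem hx (T.inv_mem (h1 x))
        rw [mul_inv_rev, inv_inv, mul_inv_cancel_left] at h2
        exact h2
      · intro hx
        have h2 := T.mul_mem hx (h1 x)
        rwa [mul_inv_cancel_left] at h2
    have hle : E.autGroup T ≤ ((KT' F W T).subgroupOf (StA W T)).map (resI hTW) := by
      refine aut_le_of_res (hS.to_le hTS) hE (fn_top E) ?_ ?_
      · rw [opR_eq, Subgroup.closure_le]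
        rintro β ⟨hβ, hord⟩
        obtain ⟨b, hb, hb1, hb2⟩ := exists_coprime_ext (fn_receptive hS hF (StronglyClosed.fn hst))
          (autGroup_mono_of_sub h.sub hTS le_rfl hβ) hord
        have hbK : b ∈ KT' F W T := mem_KT'.2 ⟨hb, fun x => h.hyp (mem_hyp hWS (mem_opR_of hb hb1) x)⟩
        refine ⟨⟨b, hKSt hbK⟩, Subgroup.mem_subgroupOf.2 hbK, ?_⟩
        ext x
        exact hb2 x x.2
      · intro α hα
        obtain ⟨t, ht, hα'⟩ := mem_autInducedBy.1 hα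
        have htW : t ∈ Subgroup.normalizer (W : Set Ω) := Subgroup.le_normalizer (hTW ht)
        have hbK : cjA W t htW ∈ KT' F W T := by
          refine mem_KT'.2 ⟨autInducedBy_le_autGroup F hWS (cjA_mem htW (hTS ht)), fun x => ?_⟩
          rw [cjA_apply]
          have h1 := hTn (x : Ω)⁻¹ (S.inv_mem (hWS x.2)) t ht
          have h2 : (x : Ω)⁻¹ * (t * x * t⁻¹) = (x : Ω)⁻¹ * t * (x : Ω)⁻¹⁻¹ * t⁻¹ := by group
          rw [h2]; exact T.mul_mem h1 (T.inv_mem ht)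
        refine ⟨⟨_, hKSt hbK⟩, Subgroup.mem_subgroupOf.2 hbK, ?_⟩
        ext x
        rw [resI_apply, hα' x]; rfl
    obtain ⟨⟨b, hbS⟩, hbK, hbr⟩ := hle ha.aut_mem
    rw [SetLike.mem_coe, Subgroup.mem_subgroupOf] at hbK
    have hbK' := mem_KT'.1 hbK
    have hbi := (mem_autGroup_iff hWS).1 hbK'.1
    have hres : ∀ x ∈ T, totA b x = a x := by
      intro x hx
      rw [totA_of_mem b (hTW hx)]
      exact congrArg (fun γ : MulAut T => ((γ ⟨x, hx⟩ : T) : Ω)) hbr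
    refine ⟨totA b, hbi, hres, fun c hc => ⟨?_, ?_⟩⟩
    · have hcW : c ∈ W := Subgroup.mem_sup_right hc
      rw [totA_of_mem b hcW]
      exact hbK'.2 ⟨c, hcW⟩
    · have hcW : c ∈ W := Subgroup.mem_sup_right hc
      have hbT : Iso F T T (totA b) := (ha.map.iso_of_im_eq ha.im_eq |> fun hh => (h.sub _ _ hh.map).iso_of_im_eq hh.im_eq).congr
        fun x hx => (hres x hx).symm
      have h1 := hbi.map.cen_mem' hbT hTW hcW hc
      exact Subgroup.mul_mem _ (Subgroup.inv_mem _ hc.2) h1.2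

end

end Cfsg.Agent.H27.Ix
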