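import Mathlib
import Cfsg.Agent.H27_FusNK
import Cfsg.Agent.H27_FusNorm
import Cfsg.Agent.H27_FusFac2
import Cfsg.Agent.H27_Ix5

/-! The saturation criterion, part one: moving to a fully normalized conjugate. -/

set_option autoImplicit false

namespace Cfsg.Agent.H27.Sc

open Cfsg.FusionSystem Cfsg.Agent.H27.Fus Cfsg.Agent.H27.Grp Cfsg.Agent.H27.Ix

universe u

section
variable {Ω : Type*} [Group Ω] {S : Subgroup Ω} {F : FusionSystem S} {P Q R U : Subgroup Ω} {f g : Ω → Ω}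

/-- some map of the normalizer of `P` carries `P` to `R` -/
def NM (F : FusionSystem S) (P R : Subgroup Ω) : Prop := ∃ f, Map F (normalizerIn S P) f ∧ Iso F P R f

theorem NM.refl (hP : P ≤ S) : NM F P P := ⟨id, map_id F nrm_le, iso_refl F hP⟩

theorem map_nrm {f : Ω → Ω} (hf : Map F (normalizerIn S P) f) (hi : Iso F P R f) :
    ∀ x ∈ normalizerIn S P, f x ∈ normalizerIn S R := fun x hx => by
  have h1 := hf.nrm_mem (le_nrm hi.le) hx hx
  rwa [hi.im_eq] at h1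

theorem NM.trans (h : NM F P Q) (h' : NM F Q R) : NM F P R := by
  obtain ⟨f, hf, hfi⟩ := h
  obtain ⟨g, hg, hgi⟩ := h'
  exact ⟨g ∘ f, hg.comp hf (map_nrm hf hfi), hfi.trans hgi⟩

theorem NM.le (h : NM F P Q) : P ≤ S := by obtain ⟨f, -, hi⟩ := h; exact hi.le
theorem NM.le' (h : NM F P Q) : Q ≤ S := by obtain ⟨f, -, hi⟩ := h; exact hi.le'
theorem NM.card (h : NM F P Q) : Nat.card P = Nat.card Q := by obtain ⟨f, -, hi⟩ := h; exact hi.card
theorem NM.isConj (h : NM F P Q) : F.IsConj P Q := by obtain ⟨f, -, hi⟩ := h; exact hi.isConj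

theorem iso_sub (h : Iso F Q R f) (hP : P ≤ Q) : Iso F (im P f) P (finv Q f) := by
  have hmono : im P f ≤ R := by
    rw [← h.im_eq]; exact im_mono' hP
  refine (h.symm.map.mono hmono).iso_of_im_eq ?_
  ext y
  rw [(h.symm.map.mono hmono).mem_im]
  constructor
  · rintro ⟨z, hz, rfl⟩
    obtain ⟨x, hx, rfl⟩ := (h.map.mono hP).mem_im.1 hz
    rwa [h.finv_left (hP hx)]
  · intro hy
    exact ⟨f y, (h.map.mono hP).apply_mem_im hy, h.finv_left (hP hy)⟩

/-- confluence -/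
theorem NM.conf {m q : ℕ} (ih : ∀ (P Q : Subgroup Ω) (f : Ω → Ω), q < Nat.card Q → Nat.card P = m → P < Q → Q ≤ normalizerIn S P → Map F Q f →
      ∃ R, NM F P R ∧ NM F (im P f) R) {P₂ R₁ R₂ : Subgroup Ω} [Finite S] (h1 : NM F P₂ R₁) (h2 : NM F P₂ R₂)
    (hm : Nat.card P₂ = m) (hq : q < Nat.card (normalizerIn S P₂)) (hmq : m < Nat.card (normalizerIn S P₂)) :
    ∃ R, NM F R₁ R ∧ NM F R₂ R := by
  have hP₂ := h1.le
  obtain ⟨g₁, hg₁, hi₁⟩ := h1
  obtain ⟨g₂, hg₂, hi₂⟩ := h2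
  have hle : P₂ ≤ normalizerIn S P₂ := le_nrm hP₂
  have hI := hg₁.iso
  have hR₁ : im P₂ g₁ = R₁ := hi₁.im_eq
  have hR₁le : R₁ ≤ im (normalizerIn S P₂) g₁ := by rw [← hR₁]; exact im_mono' hle
  have hlt : R₁ < im (normalizerIn S P₂) g₁ := by
    refine lt_of_le_of_ne hR₁le fun h => ?_
    have h3 := hI.card
    rw [← h, ← hi₁.card, hm] at h3
    omega
  have hNle : im (normalizerIn S P₂) g₁ ≤ normalizerIn S R₁ := by
    intro y hy
    obtain ⟨x, hx, rfl⟩ := hg₁.mem_im.1 hy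
    exact map_nrm hg₁ hi₁ x hx
  have hM : Map F (im (normalizerIn S P₂) g₁) (g₂ ∘ finv (normalizerIn S P₂) g₁) :=
    hg₂.comp hI.symm.map fun x hx => hI.finv_mem hx
  obtain ⟨R, h3, h4⟩ := ih R₁ _ _ (by rw [← hI.card]; exact hq) (by rw [← hi₁.card, hm]) hlt hNle hM
  refine ⟨R, h3, ?_⟩
  have him : im R₁ (g₂ ∘ finv (normalizerIn S P₂) g₁) = R₂ := by
    ext y
    rw [(hM.mono hR₁le).mem_im]
    constructor
    · rintro ⟨x, hx, rfl⟩
      rw [← hR₁] at hx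
      obtain ⟨z, hz, rfl⟩ := hi₁.map.mem_im.1 hx
      show g₂ (finv _ g₁ (g₁ z)) ∈ R₂
      rw [hI.finv_left (hle hz), ← hi₂.im_eq]
      exact hi₂.map.apply_mem_im hz
    · intro hy
      rw [← hi₂.im_eq] at hy
      obtain ⟨z, hz, rfl⟩ := hi₂.map.mem_im.1 hy
      refine ⟨g₁ z, by rw [← hR₁]; exact hi₁.map.apply_mem_im hz, ?_⟩
      show g₂ (finv _ g₁ (g₁ z)) = g₂ z
      rw [hI.finv_left (hle hz)]
  rw [← him]; exact h4

variable {p m : ℕ} [Fact p.Prime] [Finite S]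

/-- the automorphisms induced by the normalizer of a subgroup preserve it -/
theorem nrm_ind_le (hQ : Q ≤ S) : autInducedBy (normalizerIn S P) Q ≤ F.autGroup Q ⊓ StA Q P := by
  refine le_inf ((autInducedBy_mono nrm_le).trans (autInducedBy_le_autGroup F hQ)) ?_
  intro α hα
  obtain ⟨s, hs, h⟩ := mem_autInducedBy.1 hα
  rw [mem_StA]
  intro x
  rw [h x]
  exact ((mem_nrm.1 hs).2 x).symm

/-- joining the two ends of a map defined on a larger subgroup -/
theorem joint (hS : IsPGroup p S) (hbig : ∀ R ≤ S, m < Nat.card R → ∃ Q, F.IsConj R Q ∧ F.IsFullyAutomized p Q ∧ F.IsReceptive Q) :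
    ∀ (n : ℕ) (P Q : Subgroup Ω) (f : Ω → Ω), Nat.card S - Nat.card Q = n → Nat.card P = m → P < Q →
      Q ≤ normalizerIn S P → Map F Q f → ∃ R, NM F P R ∧ NM F (im P f) R := by
  intro n
  induction n using Nat.strong_induction_on with
  | _ n ih =>
  intro P Q f hn hm hPQ hQN hf
  have hQS : Q ≤ S := hf.le
  have hPS : P ≤ S := hPQ.le.trans hQS
  have hfinQ : Finite Q := finite_of_le hQS
  have hfinN : Finite (normalizerIn S P) := fin_nrm
  have hcardPQ := card_lt_of_lt hPQ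
  have hfi := hf.iso
  set P' := im P f with hP'
  set Q' := im Q f with hQ'
  have hPQ' : P' ≤ Q' := im_mono' hPQ.le
  have hQS' : Q' ≤ S := hfi.le'
  have hfinQ' : Finite Q' := finite_of_le hQS'
  have hfP : Map F P f := hf.mono hPQ.le
  have hcardP' : Nat.card P' = m := by rw [hP', hfP.card_im, hm]
  have hcardQ' : Nat.card Q' = Nat.card Q := hf.card_im
  have hQN' : Q' ≤ normalizerIn S P' := by
    intro y hy
    obtain ⟨x, hx, rfl⟩ := hf.mem_im.1 hy
    exact hf.nrm_mem hPQ.le hx (hQN hx)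
  by_cases h1 : Q = normalizerIn S P
  · subst h1
    exact ⟨P', ⟨f, hf, hfP.iso⟩, NM.refl (hPQ'.trans hQS')⟩
  by_cases h2 : Q' = normalizerIn S P'
  · refine ⟨P, NM.refl hPS, finv Q f, ?_, iso_sub hfi hPQ.le⟩
    rw [← h2]; exact hfi.symm.map
  have hlt : Q < normalizerIn S P := lt_of_le_of_ne hQN h1
  have hlt' : Q' < normalizerIn S P' := lt_of_le_of_ne hQN' h2
  obtain ⟨Q₂, hQ₂, hA₂, hR₂⟩ := hbig Q hQS (by omega)
  obtain ⟨h₀, hh₀⟩ := isConj_iff.1 hQ₂
  have hfinA := finite_autGroup (F := F) hQS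
  set A := F.autGroup Q ⊓ StA Q P with hA
  have hfinA' : Finite A := finite_of_le inf_le_left
  have hVA : autInducedBy (normalizerIn S P) Q ≤ A := nrm_ind_le hQS
  have hVp : IsPGroup p (autInducedBy (normalizerIn S P) Q) := isPGroup_autInducedBy (hS.to_le nrm_le)
  set V' := (autInducedBy (normalizerIn S P') Q').comap (MulAut.congr hfi.equiv).toMonoidHom with hV'
  have hmemV' : ∀ ξ ∈ V', ∃ s ∈ normalizerIn S P', ∀ x : Q, f (ξ x) = s * f x * s⁻¹ := by
    intro ξ hξ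
    obtain ⟨s, hs, h⟩ := mem_autInducedBy.1 (Subgroup.mem_comap.1 hξ)
    refine ⟨s, hs, fun x => ?_⟩
    have h3 := h (hfi.equiv x)
    rw [congr_equiv_apply] at h3
    exact h3
  have hinP : ∀ x ∈ Q, f x ∈ P' ↔ x ∈ P := by
    intro x hx
    constructor
    · intro h
      obtain ⟨y, hy, hyx⟩ := hfP.mem_im.1 h
      rw [← hf.inj (hPQ.le hy) hx hyx]; exact hy
    · intro h; exact hfP.apply_mem_im h
  have hV'A : V' ≤ A := by
    refine le_inf ?_ ?_
    · intro ξ hξ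
      have h3 : (MulAut.congr hfi.equiv).toMonoidHom ξ ∈ F.autGroup Q' :=
        ((autInducedBy_mono nrm_le).trans (autInducedBy_le_autGroup F hQS')) hξ
      rw [← hfi.map_autGroup] at h3
      obtain ⟨ξ', h4, h5⟩ := h3
      have : ξ' = ξ := (MulAut.congr hfi.equiv).injective h5
      rw [← this]; exact h4
    · intro ξ hξ
      obtain ⟨s, hs, h⟩ := hmemV' ξ hξ
      rw [mem_StA]
      intro x
      rw [← hinP _ (ξ x).2, h x, ← hinP x x.2]
      exact ((mem_nrm.1 hs).2 _).symm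
  have hV'p : IsPGroup p V' :=
    IsPGroup.comap_of_injective (isPGroup_autInducedBy (hS.to_le nrm_le)) _ (MulAut.congr hfi.equiv).injective
  obtain ⟨W, hVW, hW⟩ := exists_isSyl_ge hVA hVp
  obtain ⟨a, haA, haW⟩ := hW.conj hV'A hV'p
  obtain ⟨χ, hχ, hχW⟩ := exists_iso_conj_into hA₂ hh₀ (X := W) (hW.le.trans inf_le_left) hW.isPGroup
  have haI := (mem_autGroup_iff hQS).1 haA.1
  have haP : ∀ x ∈ Q, totA a x ∈ P ↔ x ∈ P := fun x hx => by
    rw [totA_of_mem a hx]; exact mem_StA.1 haA.2 ⟨x, hx⟩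
  -- first extension
  set N₁ := normalizerIn S P ⊓ normalizerIn S Q with hN₁
  have hext₁ : N₁ ≤ ext S Q χ := autInducedBy_conj_mem_ext hχ inf_le_right fun ξ hξ =>
    hχW ξ (hVW (autInducedBy_mono inf_le_left hξ))
  obtain ⟨χ₁, hχ₁, hχ₁'⟩ := receptive_ext' hR₂ hχ hext₁
  have hQN₁ : Q ≤ N₁ := le_inf hQN (le_nrm hQS)
  -- second extension
  have hκ : Iso F Q' Q₂ (χ ∘ totA a ∘ finv Q f) := (hfi.symm.trans haI).trans hχ
  set N₂ := normalizerIn S P' ⊓ normalizerIn S Q' with hN₂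
  have hext₂ : N₂ ≤ ext S Q' (χ ∘ totA a ∘ finv Q f) := by
    refine autInducedBy_conj_mem_ext hκ inf_le_right fun ξ hξ => ?_
    let ξ' : MulAut Q := (MulAut.congr hfi.equiv).symm ξ
    have hξ' : (MulAut.congr hfi.equiv).toMonoidHom ξ' = ξ := (MulAut.congr hfi.equiv).apply_symm_apply ξ
    have h3 : ξ' ∈ V' := by
      rw [hV', Subgroup.mem_comap, hξ']
      exact autInducedBy_mono inf_le_left hξ
    obtain ⟨s, hs, h4⟩ := hχW _ (haW (conj_mem_cj h3))
    refine ⟨s, hs, fun y => ?_⟩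
    have hy := hfi.finv_mem y.2
    have h5 := h4 (a ⟨_, hy⟩)
    have e1 : (a * ξ' * a⁻¹) (a ⟨finv Q f y, hy⟩) = a (ξ' ⟨finv Q f y, hy⟩) := by
      rw [MulAut.mul_apply, MulAut.mul_apply, MulAut.inv_apply_self]
    rw [e1] at h5
    have e2 : finv Q f (ξ y : Q') = (ξ' ⟨finv Q f y, hy⟩ : Q) := by
      have e3 : ξ y = hfi.equiv (ξ' ⟨finv Q f y, hy⟩) := by
        rw [← congr_equiv_apply hfi, hξ']
        congr 1
        exact Subtype.ext (hfi.finv_right y.2).symm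
      rw [e3]
      exact hfi.finv_left (ξ' _).2
    show χ (totA a (finv Q f (ξ y : Q'))) = s * χ (totA a (finv Q f y)) * s⁻¹
    rw [e2, totA_apply, totA_of_mem a hy]
    exact h5
  obtain ⟨χ₂, hχ₂, hχ₂'⟩ := receptive_ext' hR₂ hκ hext₂
  have hQN₂ : Q' ≤ N₂ := le_inf hQN' (le_nrm hQS')
  set P₂ := im P χ with hP₂
  have hχP : Map F P χ := hχ.map.mono hPQ.le
  have him₁ : im P χ₁ = P₂ := im_congr fun x hx => hχ₁' x (hPQ.le hx)
  have him₂ : im P' χ₂ = P₂ := by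
    ext y
    rw [(hχ₂.mono (hPQ'.trans hQN₂)).mem_im, hχP.mem_im]
    constructor
    · rintro ⟨z, hz, rfl⟩
      obtain ⟨x, hx, rfl⟩ := hfP.mem_im.1 hz
      refine ⟨totA a x, (haP x (hPQ.le hx)).2 hx, ?_⟩
      rw [hχ₂' _ (hPQ' hz)]
      show χ (totA a x) = χ (totA a (finv Q f (f x)))
      rw [hfi.finv_left (hPQ.le hx)]
    · rintro ⟨x, hx, rfl⟩
      have hx' : totA a⁻¹ x ∈ P := by
        rw [totA_of_mem _ (hPQ.le hx)]
        have := (mem_StA.1 (inv_mem haA.2) ⟨x, hPQ.le hx⟩)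
        exact this.2 hx
      have hx2 : totA a (totA a⁻¹ x) = x := by
        rw [totA_of_mem a⁻¹ (hPQ.le hx), totA_apply, MulAut.apply_inv_self]
      have hm' : f (totA a⁻¹ x) ∈ P' := hfP.apply_mem_im hx'
      refine ⟨f (totA a⁻¹ x), hm', ?_⟩
      rw [hχ₂' _ (hPQ' hm')]
      show χ (totA a (finv Q f (f (totA a⁻¹ x)))) = χ x
      rw [hfi.finv_left (hPQ.le hx'), hx2]
  -- sizes
  have hfinS := card_le_of_le hQS
  have big : ∀ {X Y : Subgroup Ω}, X ≤ S → Y < normalizerIn S X → Nat.card Y < Nat.card ↥(normalizerIn S X ⊓ normalizerIn S Y) := by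
    intro X Y hX hY
    have hfN : Finite (normalizerIn S X) := fin_nrm
    obtain ⟨x, hx, hxY, hxn⟩ := exists_mem_normalizer_of_lt (hS.to_le nrm_le) hY
    have hfN' : Finite ↥(normalizerIn S X ⊓ normalizerIn S Y) := finite_of_le inf_le_left
    refine card_lt_of_lt (lt_of_le_of_ne (le_inf hY.le (le_nrm (hY.le.trans nrm_le))) fun h => hxY ?_)
    rw [h]; exact ⟨hx, nrm_le hx, hxn⟩
  have hc₁ : Nat.card Q < Nat.card N₁ := big hPS hlt
  have hc₂ : Nat.card Q' < Nat.card N₂ := big (hPQ'.trans hQS') hlt'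
  have hcN₁ : Nat.card N₁ ≤ Nat.card S := card_le_of_le (inf_le_left.trans nrm_le)
  have hcN₂ : Nat.card N₂ ≤ Nat.card S := card_le_of_le (inf_le_left.trans nrm_le)
  obtain ⟨R₁, h3, h4⟩ := ih (Nat.card S - Nat.card N₁) (by omega) P N₁ χ₁ rfl hm (lt_of_lt_of_le hPQ hQN₁) inf_le_left hχ₁
  have hPQlt' : P' < Q' := lt_of_le_of_ne hPQ' fun h => by rw [← h] at hcardQ'; omega
  obtain ⟨R₂, h5, h6⟩ := ih (Nat.card S - Nat.card N₂) (by omega) P' N₂ χ₂ rfl hcardP' (lt_of_lt_of_le hPQlt' hQN₂)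
    inf_le_left hχ₂
  rw [him₁] at h4
  rw [him₂] at h6
  have hcP₂ : Nat.card P₂ = m := by rw [hP₂, hχP.card_im, hm]
  have hcN : Nat.card N₁ ≤ Nat.card (normalizerIn S P₂) := by
    have hfN : Finite (normalizerIn S P₂) := fin_nrm
    refine card_le_of_map hχ₁ fun x hx => ?_
    have := hχ₁.nrm_mem (hPQ.le.trans hQN₁) hx (inf_le_left (b := normalizerIn S Q) hx)
    rwa [him₁] at this
  obtain ⟨R, h7, h8⟩ := NM.conf (F := F) (m := m) (q := Nat.card Q) (fun P Q' f' hq hP hPQ hQ hf' =>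
    ih (Nat.card S - Nat.card Q') (by
      have := card_le_of_le hf'.le
      omega) P Q' f' rfl hP hPQ hQ hf') h4 h6 hcP₂ (by omega) (by omega)
  exact ⟨R, h3.trans h7, h5.trans h8⟩

end

end Cfsg.Agent.H27.Sc
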