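import Mathlib
import Cfsg.Agent.H27_Sc1

/-! The saturation criterion, part two: generation and the extension lemma. -/

set_option autoImplicit false

namespace Cfsg.Agent.H27.Sc

open Cfsg.FusionSystem Cfsg.Agent.H27.Fus Cfsg.Agent.H27.Grp Cfsg.Agent.H27.Ix

universe u

section
variable {Ω : Type*} [Group Ω] {S : Subgroup Ω} {F : FusionSystem S} {P Q R U : Subgroup Ω} {f g : Ω → Ω}

/-- composites of maps that extend to larger subgroups -/
inductive Cmp (F : FusionSystem S) : Subgroup Ω → (Ω → Ω) → Prop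
  | ext {P Q : Subgroup Ω} {f g : Ω → Ω} : P < Q → Map F Q g → (∀ x ∈ P, g x = f x) → Cmp F P f
  | comp {P : Subgroup Ω} {f g h : Ω → Ω} : Cmp F P f → Cmp F (im P f) g → (∀ x ∈ P, h x = g (f x)) → Cmp F P h

theorem Cmp.map (h : Cmp F P f) : Map F P f := by
  induction h with
  | ext h1 h2 h3 => exact (h2.mono h1.le).congr h3
  | comp h1 h2 h3 ih1 ih2 =>
    exact (ih2.comp ih1 fun x hx => ih1.apply_mem_im hx).congr fun x hx => (h3 x hx).symm

theorem Cmp.congr (h : Cmp F P f) (hfg : ∀ x ∈ P, f x = g x) : Cmp F P g := by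
  cases h with
  | ext h1 h2 h3 => exact Cmp.ext h1 h2 fun x hx => by rw [h3 x hx, hfg x hx]
  | comp h1 h2 h3 => exact Cmp.comp h1 h2 fun x hx => by rw [← hfg x hx, h3 x hx]

theorem Cmp.inv [Finite S] (h : Cmp F P f) : Cmp F (im P f) (finv P f) := by
  induction h with
  | @ext P Q f g h1 h2 h3 =>
    have hfin : Finite Q := finite_of_le h2.le
    have hfP : Map F P f := (h2.mono h1.le).congr h3
    have hfin' : Finite ↥(im Q g) := finite_of_le h2.im_le
    have hle : im P f ≤ im Q g := by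
      rw [← im_congr h3]; exact im_mono' h1.le
    have hlt : im P f < im Q g := by
      refine lt_of_le_of_ne hle fun h => ?_
      have h4 := card_lt_of_lt h1
      have h5 := h2.card_im
      rw [← h, hfP.card_im] at h5
      omega
    refine Cmp.ext hlt h2.iso.symm.map fun y hy => ?_
    obtain ⟨x, hx, rfl⟩ := hfP.mem_im.1 hy
    rw [hfP.iso.finv_left hx, ← h3 x hx, h2.iso.finv_left (h1.le hx)]
  | @comp P f g h h1 h2 h3 ih1 ih2 =>
    have m1 := h1.map
    have m2 := h2.map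
    have m3 : Map F P h := (m2.comp m1 fun x hx => m1.apply_mem_im hx).congr fun x hx => (h3 x hx).symm
    have e1 : im P h = im (im P f) g := by
      ext y
      rw [m3.mem_im, m2.mem_im]
      constructor
      · rintro ⟨x, hx, rfl⟩; exact ⟨f x, m1.apply_mem_im hx, (h3 x hx).symm⟩
      · rintro ⟨z, hz, rfl⟩
        obtain ⟨x, hx, rfl⟩ := m1.mem_im.1 hz
        exact ⟨x, hx, h3 x hx⟩
    rw [e1]
    have e2 : im (im (im P f) g) (finv (im P f) g) = im P f := m2.iso.symm.im_eq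
    refine Cmp.comp ih2 (by rw [e2]; exact ih1) fun y hy => ?_
    obtain ⟨z, hz, rfl⟩ := m2.mem_im.1 hy
    obtain ⟨x, hx, rfl⟩ := m1.mem_im.1 hz
    rw [m2.iso.finv_left hz, m1.iso.finv_left hx, ← h3 x hx, m3.iso.finv_left hx]

/-- every map on a class avoiding the generating family is a composite of maps that extend -/
theorem cmp_all [Finite S] (ℋ : Set (Subgroup Ω)) (hgen : ∀ E : FusionSystem S, (∀ P ∈ ℋ, F.Hom P ⊆ E.Hom P) → F ≤ E)
    (C : Set (Subgroup Ω)) (hCℋ : ∀ P ∈ C, P ∉ ℋ) (hCS : S ∉ C) (hCc : ∀ P ∈ C, ∀ f, Map F P f → im P f ∈ C) :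
    ∀ P ∈ C, ∀ f, Map F P f → Cmp F P f := by
  let M : Subgroup Ω → (Ω → Ω) → Prop := fun P f => Map F P f ∧ (P ∈ C → Cmp F P f)
  have hltS : ∀ P, P ≤ S → P ∈ C → P < S := fun P hPS hP => lt_of_le_of_ne hPS fun h => hCS (h ▸ hP)
  let E : FusionSystem S := mkFS S M
    (by
      rintro P f g ⟨h1, h2⟩ hfg
      exact ⟨h1.congr hfg, fun hP => (h2 hP).congr hfg⟩)
    (by
      rintro P f ⟨h1, -⟩
      exact ⟨h1.le, fun x hx => h1.mem hx⟩)
    (by
      rintro P f ⟨h1, -⟩ x hx y hy hxy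
      exact h1.inj hx hy hxy)
    (by
      intro P s hP hs
      exact ⟨map_conj F hP hs, fun hPC => Cmp.ext (hltS P hP hPC) (map_conj F le_rfl hs) fun x _ => rfl⟩)
    (by
      rintro P Q f g ⟨h1, h2⟩ ⟨h3, h4⟩ hPQ
      refine ⟨h3.comp h1 hPQ, fun hPC => ?_⟩
      have hle : im P f ≤ Q := by
        intro y hy
        obtain ⟨x, hx, rfl⟩ := h1.mem_im.1 hy
        exact hPQ x hx
      rcases eq_or_lt_of_le hle with h5 | h5
      · have h6 : Q ∈ C := h5 ▸ hCc P hPC f h1
        exact Cmp.comp (h2 hPC) (by rw [h5]; exact h4 h6) fun x _ => rfl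
      · exact Cmp.comp (h2 hPC) (Cmp.ext h5 h3 fun x _ => rfl) fun x _ => rfl)
    (by
      rintro P f R ⟨h1, h2⟩ hmul hR
      have hRi : R = im P f := by
        ext y
        rw [h1.mem_im, hR]
      subst hRi
      refine ⟨finv P f, ⟨h1.iso.symm.map, fun hRC => ?_⟩, fun x hx => h1.iso.finv_left hx⟩
      have h3 := hCc _ hRC _ h1.iso.symm.map
      rw [h1.iso.symm.im_eq] at h3
      exact (h2 h3).inv)
  have hE : ∀ P f, Map E P f ↔ M P f := fun P f => map_mkFS fun P f h => fun x hx y hy => h.1.mul hx hy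
  intro P hP f hf
  have h1 : F ≤ E := hgen E fun P hP φ hφ => by
    rw [hom_mem_iff_tot, hE]
    exact ⟨map_tot hφ, fun hPC => absurd hP (hCℋ P hPC)⟩
  exact (((hE P f).1 (map_of_le (h1 P) hf)).2 hP)

variable {p m : ℕ} [Fact p.Prime] [Finite S]

/-- the ends of a composite are joined -/
theorem Cmp.joint (hS : IsPGroup p S) (hbig : ∀ R ≤ S, m < Nat.card R → ∃ Q, F.IsConj R Q ∧ F.IsFullyAutomized p Q ∧ F.IsReceptive Q)
    (h : Cmp F P f) (hm : Nat.card P = m) (hmS : m < Nat.card S) : ∃ R, NM F P R ∧ NM F (im P f) R := by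
  induction h with
  | @ext P Q f g h1 h2 h3 =>
    have hfin : Finite Q := finite_of_le h2.le
    obtain ⟨x, hx, hxP, hxn⟩ := exists_mem_normalizer_of_lt (hS.to_le h2.le) h1
    have hle : normalizerIn Q P ≤ normalizerIn S P := inf_le_inf_right _ h2.le
    have hlt : P < normalizerIn Q P := by
      refine lt_of_le_of_ne (le_nrm h1.le) fun h => hxP ?_
      rw [h]; exact ⟨hx, hxn⟩
    have h4 := Sc.joint hS hbig _ P (normalizerIn Q P) g rfl hm hlt hle (h2.mono inf_le_left)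
    rwa [im_congr h3] at h4
  | @comp P f g h h1 h2 h3 ih1 ih2 =>
    have m1 := h1.map
    have m2 := h2.map
    have m3 : Map F P h := (m2.comp m1 fun x hx => m1.apply_mem_im hx).congr fun x hx => (h3 x hx).symm
    have e1 : im P h = im (im P f) g := by
      ext y
      rw [m3.mem_im, m2.mem_im]
      constructor
      · rintro ⟨x, hx, rfl⟩; exact ⟨f x, m1.apply_mem_im hx, (h3 x hx).symm⟩
      · rintro ⟨z, hz, rfl⟩
        obtain ⟨x, hx, rfl⟩ := m1.mem_im.1 hz
        exact ⟨x, hx, h3 x hx⟩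
    rw [e1]
    have hcm : Nat.card (im P f) = m := by rw [m1.card_im, hm]
    obtain ⟨R₁, j1, j2⟩ := ih1 hm
    obtain ⟨R₂, j3, j4⟩ := ih2 hcm
    have hlt : im P f < S := by
      refine lt_of_le_of_ne m1.im_le fun h => ?_
      rw [h] at hcm; omega
    obtain ⟨x, hx, hxP, hxn⟩ := exists_mem_normalizer_of_lt hS hlt
    have hfN : Finite (normalizerIn S (im P f)) := fin_nrm
    have hc : m < Nat.card (normalizerIn S (im P f)) := by
      rw [← hcm]
      refine card_lt_of_lt (lt_of_le_of_ne (le_nrm m1.im_le) fun h => hxP ?_)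
      rw [h]; exact ⟨hx, hxn⟩
    obtain ⟨R, j5, j6⟩ := NM.conf (F := F) (m := m) (q := m) (fun P' Q' f' _ hP hPQ hQ hf' =>
      Sc.joint hS hbig _ P' Q' f' rfl hP hPQ hQ hf') j2 j3 hcm hc hc
    exact ⟨R, j1.trans j5, j4.trans j6⟩

/-- all conjugates map to a fully normalized one -/
theorem NM_of_fn (hS : IsPGroup p S) (hbig : ∀ R ≤ S, m < Nat.card R → ∃ Q, F.IsConj R Q ∧ F.IsFullyAutomized p Q ∧ F.IsReceptive Q)
    (hcmp : ∀ P : Subgroup Ω, Nat.card P = m → F.IsConj P Q → ∀ f, Map F P f → Cmp F P f) (hm : Nat.card Q = m) (hmS : m < Nat.card S)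
    (hQ : F.IsFullyNormalized Q) (hPQ : F.IsConj P Q) : NM F P Q := by
  obtain ⟨f, hf⟩ := isConj_iff.1 hPQ
  have hmP : Nat.card P = m := by rw [hf.card, hm]
  obtain ⟨R, h1, h2⟩ := (hcmp P hmP hPQ f hf.map).joint hS hbig hmP hmS
  rw [hf.im_eq] at h2
  refine h1.trans ?_
  obtain ⟨g, hg, hgi⟩ := h2
  have hfR : Finite (normalizerIn S R) := fin_nrm
  have hI : Iso F (normalizerIn S Q) (normalizerIn S R) g := iso_of_card_le hg (map_nrm hg hgi) (hQ.2 R hgi.isConj)
  refine ⟨finv (normalizerIn S Q) g, hI.symm.map, ?_⟩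
  have h3 := iso_sub hI (le_nrm hQ.1)
  rwa [hgi.im_eq] at h3

end

end Cfsg.Agent.H27.Sc
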