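import Mathlib
import Cfsg.Agent.H27_Sc2

/-! The saturation criterion, part three: the extension lemma. -/

set_option autoImplicit false

namespace Cfsg.Agent.H27.Sc

open Cfsg.FusionSystem Cfsg.Agent.H27.Fus Cfsg.Agent.H27.Grp Cfsg.Agent.H27.Ix

universe u

section
variable {Ω : Type*} [Group Ω] {S : Subgroup Ω} {F : FusionSystem S} {P Q R U P₀ Q₁ : Subgroup Ω} {f g : Ω → Ω}
variable {p m : ℕ} [Fact p.Prime] [Finite S]

theorem push (hS : IsPGroup p S) (hPQ : P₀ ≤ Q₁) (hQS : Q₁ ≤ S)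
    (hsat : ∃ Q₂, F.IsConj Q₁ Q₂ ∧ F.IsFullyAutomized p Q₂ ∧ F.IsReceptive Q₂)
    (U : Subgroup (MulAut Q₁)) (hU : U ≤ F.autGroup Q₁ ⊓ StA Q₁ P₀) (hUp : IsPGroup p U)
    (hres : ∀ W : Subgroup ↥(StA Q₁ P₀), IsSyl p W ((F.autGroup Q₁).subgroupOf (StA Q₁ P₀)) →
      (autInducedBy (normalizerIn S P₀) Q₁).subgroupOf (StA Q₁ P₀) ≤ W →
      (U.subgroupOf (StA Q₁ P₀)).map (resI hPQ) ≤ W.map (resI hPQ)) :
    ∃ (a : MulAut Q₁) (Q₂ : Subgroup Ω) (χ : Ω → Ω), a ∈ F.autGroup Q₁ ∧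
      (∀ x (hx : x ∈ P₀), (a ⟨x, hPQ hx⟩ : Ω) = x) ∧ Iso F Q₁ Q₂ χ ∧ F.IsReceptive Q₂ ∧
      (∀ v ∈ autInducedBy (normalizerIn S P₀) Q₁, ∃ h ∈ S, ∀ x : Q₁, χ (v x) = h * χ x * h⁻¹) ∧
      (∀ u ∈ U, ∃ h ∈ S, ∀ x : Q₁, χ (a (u x)) = h * χ (a x) * h⁻¹) := by
  have hfin : Finite Q₁ := finite_of_le hQS
  have hfinA : Finite (MulAut Q₁) := Finite.of_injective (fun α : MulAut Q₁ => (α : Q₁ → Q₁)) DFunLike.coe_injective
  obtain ⟨Q₂, hQ₂, hA₂, hR₂⟩ := hsat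
  obtain ⟨h₀, hh₀⟩ := isConj_iff.1 hQ₂
  have hV := nrm_ind_le (F := F) (P := P₀) hQS
  have hVp : IsPGroup p ((autInducedBy (normalizerIn S P₀) Q₁).subgroupOf (StA Q₁ P₀)) :=
    (isPGroup_autInducedBy (hS.to_le nrm_le)).comap_of_injective _ Subtype.val_injective
  obtain ⟨W, hVW, hW⟩ := exists_isSyl_ge (A := (F.autGroup Q₁).subgroupOf (StA Q₁ P₀))
    (B := (autInducedBy (normalizerIn S P₀) Q₁).subgroupOf (StA Q₁ P₀))
    (fun x hx => Subgroup.mem_subgroupOf.2 (hV (Subgroup.mem_subgroupOf.1 hx)).1) hVp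
  have hUp' : IsPGroup p (U.subgroupOf (StA Q₁ P₀)) := hUp.comap_of_injective _ Subtype.val_injective
  obtain ⟨a, haA, ha1, haW⟩ := IsSyl.conj_ker (resI hPQ) hW (X := U.subgroupOf (StA Q₁ P₀))
    (fun x hx => Subgroup.mem_subgroupOf.2 (hU (Subgroup.mem_subgroupOf.1 hx)).1) hUp' (hres W hW hVW)
  have hWp : IsPGroup p (W.map (StA Q₁ P₀).subtype) := hW.isPGroup.map _
  have hWle : W.map (StA Q₁ P₀).subtype ≤ F.autGroup Q₁ := by
    rintro _ ⟨w, hw, rfl⟩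
    exact Subgroup.mem_subgroupOf.1 (hW.le hw)
  obtain ⟨χ, hχ, hχW⟩ := exists_iso_conj_into hA₂ hh₀ hWle hWp
  refine ⟨a, Q₂, χ, Subgroup.mem_subgroupOf.1 haA, fun x hx => ?_, hχ, hR₂, fun v hv => ?_, fun u hu => ?_⟩
  · exact congrArg (fun γ : MulAut P₀ => ((γ ⟨x, hx⟩ : P₀) : Ω)) ha1
  · exact hχW v ⟨⟨v, (hV hv).2⟩, hVW (Subgroup.mem_subgroupOf.2 hv), rfl⟩
  · have h1 := haW (conj_mem_cj (g := a) (a := ⟨u, (hU hu).2⟩) (Subgroup.mem_subgroupOf.2 hu))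
    obtain ⟨h, hh, h2⟩ := hχW _ ⟨_, h1, rfl⟩
    refine ⟨h, hh, fun x => ?_⟩
    have h3 := h2 ((a : MulAut Q₁) x)
    have e1 : ((StA Q₁ P₀).subtype (a * ⟨u, (hU hu).2⟩ * a⁻¹) : MulAut Q₁) ((a : MulAut Q₁) x) = (a : MulAut Q₁) (u x) := by
      show ((a : MulAut Q₁) * u * (a : MulAut Q₁)⁻¹) ((a : MulAut Q₁) x) = _
      rw [MulAut.mul_apply, MulAut.mul_apply, MulAut.inv_apply_self]
    rw [e1] at h3
    exact h3

/-- the automorphisms extending to `N^K` -/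
def GK (F : FusionSystem S) (P₀ : Subgroup Ω) (K : Subgroup (MulAut P₀)) (hle : P₀ ≤ NK S P₀ K) : Subgroup (MulAut P₀) where
  carrier := {α | ∃ b, Iso F (NK S P₀ K) (NK S P₀ K) b ∧ ∀ x : P₀, b x = α x}
  mul_mem' := by
    rintro α β ⟨b, hb, hb'⟩ ⟨c, hc, hc'⟩
    refine ⟨b ∘ c, hc.trans hb, fun x => ?_⟩
    show b (c x) = _
    rw [hc' x, hb']; rfl
  one_mem' := ⟨id, iso_refl F NK_le, fun _ => rfl⟩
  inv_mem' := by
    rintro α ⟨b, hb, hb'⟩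
    refine ⟨finv _ b, hb.symm, fun x => ?_⟩
    have h1 := hb' (α⁻¹ x)
    rw [MulAut.apply_inv_self] at h1
    rw [← h1, hb.finv_left (hle (α⁻¹ x).2)]

theorem mem_GK {K : Subgroup (MulAut P₀)} {hle : P₀ ≤ NK S P₀ K} {α : MulAut P₀} : α ∈ GK F P₀ K hle ↔
    ∃ b, Iso F (NK S P₀ K) (NK S P₀ K) b ∧ ∀ x : P₀, b x = α x := Iff.rfl

theorem conj_NK {K : Subgroup (MulAut P₀)} (hP : P₀ ≤ S) (hKn : F.autGroup P₀ ≤ Subgroup.normalizer (K : Set (MulAut P₀)))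
    {α : MulAut P₀} (hα : α ∈ F.autGroup P₀) {β : Ω → Ω} (hβ : Map F Q β) (hPQ : P₀ ≤ Q) (hαβ : ∀ x : P₀, β x = α x)
    (him : im P₀ β = P₀) {x : Ω} (hx : x ∈ NK S P₀ K) (hxQ : x ∈ Q) : β x ∈ NK S P₀ K := by
  obtain ⟨h1, κ, hκ, h2⟩ := mem_NK.1 hx
  have h3 := hβ.nrm_mem hPQ hxQ h1
  rw [him] at h3
  refine mem_NK.2 ⟨h3, α * κ * α⁻¹, ?_, fun y => ?_⟩
  · exact (Subgroup.mem_normalizer_iff.1 (hKn hα) κ).1 hκ
  · show ((α * κ * α⁻¹) y : Ω) = β x * y * (β x)⁻¹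
    have h4 : (y : Ω) = β (α⁻¹ y : P₀) := by rw [hαβ, MulAut.apply_inv_self]
    have h5 : (β x) * (y : Ω) * (β x)⁻¹ = β (x * (α⁻¹ y : P₀) * x⁻¹) := by
      rw [hβ.conj hxQ (hPQ (α⁻¹ y).2), ← h4]
    have h6 : (κ (α⁻¹ y) : Ω) = x * (α⁻¹ y : P₀) * x⁻¹ := h2 _
    rw [h5, ← h6, hαβ]
    rfl

theorem big (hS : IsPGroup p S) {X Y : Subgroup Ω} (hY : Y < normalizerIn S X) :
    Nat.card Y < Nat.card ↥(normalizerIn S X ⊓ normalizerIn S Y) := by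
  have hfN : Finite (normalizerIn S X) := fin_nrm
  obtain ⟨x, hx, hxY, hxn⟩ := exists_mem_normalizer_of_lt (hS.to_le nrm_le) hY
  have hfN' : Finite ↥(normalizerIn S X ⊓ normalizerIn S Y) := finite_of_le inf_le_left
  refine card_lt_of_lt (lt_of_le_of_ne (le_inf hY.le (le_nrm (hY.le.trans nrm_le))) fun h => hxY ?_)
  rw [h]; exact ⟨hx, nrm_le hx, hxn⟩

/-- the extension lemma for automorphisms extending to a larger subgroup -/
theorem ext_big (hS : IsPGroup p S) (hP₀ : P₀ ≤ S)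
    (hbig : ∀ R ≤ S, Nat.card P₀ < Nat.card R → ∃ Q, F.IsConj R Q ∧ F.IsFullyAutomized p Q ∧ F.IsReceptive Q)
    (hNM : ∀ P : Subgroup Ω, F.IsConj P P₀ → NM F P P₀) {K : Subgroup (MulAut P₀)} (hle : P₀ ≤ NK S P₀ K)
    (hKn : F.autGroup P₀ ≤ Subgroup.normalizer (K : Set (MulAut P₀))) (hKp : IsPGroup p K) :
    ∀ (n : ℕ) (Q : Subgroup Ω) (β : Ω → Ω), Nat.card S - Nat.card Q = n → P₀ < Q → Q ≤ normalizerIn S P₀ →
      Map F Q β → im P₀ β = P₀ → ∀ α : MulAut P₀, (∀ x : P₀, β x = α x) → α ∈ GK F P₀ K hle := by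
  intro n
  induction n using Nat.strong_induction_on with
  | _ n ih =>
  intro Q β hn hPQ hQN hβ him α hαβ
  set N := normalizerIn S P₀ with hN
  set Qh := NK S P₀ K with hQh
  have hQhN : Qh ≤ N := NK_le_nrm
  have hfinN : Finite N := fin_nrm
  have hQS : Q ≤ S := hβ.le
  have hfinQ : Finite Q := finite_of_le hQS
  have hα : α ∈ F.autGroup P₀ := mem_autGroup_of (hβ.mono hPQ.le) fun x => (hαβ x).symm
  have hinP : ∀ x ∈ Q, β x ∈ P₀ ↔ x ∈ P₀ := by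
    intro x hx
    constructor
    · intro h
      rw [← him] at h
      obtain ⟨y, hy, hyx⟩ := (hβ.mono hPQ.le).mem_im.1 h
      rw [← hβ.inj (hPQ.le hy) hx hyx]; exact hy
    · intro h
      have := (hβ.mono hPQ.le).apply_mem_im h
      rwa [him] at this
  by_cases hcase : Qh ≤ Q
  · have hfinQh : Finite Qh := finite_of_le hQhN
    refine ⟨β, iso_of_card_le (hβ.mono hcase) (fun x hx => ?_) le_rfl, hαβ⟩
    exact conj_NK hP₀ hKn hα hβ hPQ.le hαβ him hx (hcase hx)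
  have hQlt : Q < N := lt_of_le_of_ne hQN fun h => hcase (h ▸ hQhN)
  have hfi := hβ.iso
  set Q₁ := im Q β with hQ₁
  have hPQ₁ : P₀ ≤ Q₁ := by rw [← him]; exact im_mono' hPQ.le
  have hQS₁ : Q₁ ≤ S := hfi.le'
  have hfinQ₁ : Finite Q₁ := finite_of_le hQS₁
  have hcQ₁ : Nat.card Q₁ = Nat.card Q := hβ.card_im
  have hcPQ := card_lt_of_lt hPQ
  have hPlt₁ : P₀ < Q₁ := lt_of_le_of_ne hPQ₁ fun h => by rw [← h] at hcQ₁; omega
  have hQN₁ : Q₁ ≤ N := by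
    intro y hy
    obtain ⟨x, hx, rfl⟩ := hβ.mem_im.1 hy
    have := hβ.nrm_mem hPQ.le hx (hQN hx)
    rwa [him] at this
  have hQlt₁ : Q₁ < N := lt_of_le_of_ne hQN₁ fun h => by
    have := card_lt_of_lt hQlt
    rw [← h, hcQ₁] at this; omega
  -- the group `U`
  set Y := Qh ⊓ normalizerIn S Q with hY
  set U := (autInducedBy Y Q).map (MulAut.congr hfi.equiv).toMonoidHom with hUdef
  have hUel : ∀ u ∈ U, ∃ y ∈ Y, ∀ z : Q, (u (hfi.equiv z) : Ω) = β (y * z * y⁻¹) := by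
    rintro _ ⟨ξ, hξ, rfl⟩
    obtain ⟨y, hy, h⟩ := mem_autInducedBy.1 hξ
    refine ⟨y, hy, fun z => ?_⟩
    rw [congr_equiv_apply, ← h z]; rfl
  have hU : U ≤ F.autGroup Q₁ ⊓ StA Q₁ P₀ := by
    refine le_inf ?_ ?_
    · rw [hUdef, ← hfi.map_autGroup]
      exact Subgroup.map_mono ((autInducedBy_mono (inf_le_right.trans nrm_le)).trans (autInducedBy_le_autGroup F hQS))
    · intro u hu
      obtain ⟨y, hy, h⟩ := hUel u hu
      rw [mem_StA]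
      intro x
      obtain ⟨z, rfl⟩ := hfi.equiv.surjective x
      have hyz : y * z * y⁻¹ ∈ Q := nrm_conj_mem hy.2 z.2
      rw [h z, hinP _ hyz]
      have h1 := (mem_nrm.1 (hQhN hy.1)).2 z
      rw [← h1]
      exact (hinP z z.2).symm
  have hUp : IsPGroup p U := (isPGroup_autInducedBy (hS.to_le (inf_le_right.trans nrm_le))).map _
  have hUK : (U.subgroupOf (StA Q₁ P₀)).map (resI hPQ₁) ≤ K := by
    rintro _ ⟨u, hu, rfl⟩
    obtain ⟨y, hy, h⟩ := hUel u (Subgroup.mem_subgroupOf.1 hu)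
    obtain ⟨-, κ, hκ, h2⟩ := mem_NK.1 hy.1
    have h3 : resI hPQ₁ u = α * κ * α⁻¹ := by
      ext t
      rw [resI_apply]
      have ht : (⟨(t : Ω), hPQ₁ t.2⟩ : Q₁) = hfi.equiv ⟨(α⁻¹ t : P₀), hPQ.le (α⁻¹ t).2⟩ := by
        apply Subtype.ext
        rw [Iso.equiv_apply]
        show (t : Ω) = β (α⁻¹ t : P₀)
        rw [hαβ, MulAut.apply_inv_self]
      rw [ht, h]
      have h4 : (κ (α⁻¹ t) : Ω) = y * (α⁻¹ t : P₀) * y⁻¹ := h2 _
      show β (y * (α⁻¹ t : P₀) * y⁻¹) = _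
      rw [← h4, hαβ]; rfl
    rw [h3]
    exact (Subgroup.mem_normalizer_iff.1 (hKn hα) κ).1 hκ
  have hfinMA : Finite (MulAut Q₁) := Finite.of_injective (fun α : MulAut Q₁ => (α : Q₁ → Q₁)) DFunLike.coe_injective
  have hfinP₀ : Finite P₀ := finite_of_le hP₀
  have hfinMP : Finite (MulAut P₀) := Finite.of_injective (fun α : MulAut P₀ => (α : P₀ → P₀)) DFunLike.coe_injective
  have hAres : ((F.autGroup Q₁).subgroupOf (StA Q₁ P₀)).map (resI hPQ₁) ≤ F.autGroup P₀ := by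
    rintro _ ⟨a, ha, rfl⟩
    have h1 := ((mem_autGroup_iff hQS₁).1 (Subgroup.mem_subgroupOf.1 ha)).map.mono hPQ₁
    refine mem_autGroup_of h1 fun x => ?_
    rw [resI_apply]
    exact (totA_of_mem _ (hPQ₁ x.2)).symm
  obtain ⟨a, Q₂, χ, haF, haP, hχ, hR₂, hχV, hχU⟩ := push hS hPQ₁ hQS₁ (hbig Q₁ hQS₁ (by omega)) U hU hUp
    (fun W hW hVW => by
      have h1 := hW.map (resI hPQ₁)
      have h2 : (U.subgroupOf (StA Q₁ P₀)).map (resI hPQ₁) ≤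
          K ⊓ ((F.autGroup Q₁).subgroupOf (StA Q₁ P₀)).map (resI hPQ₁) := by
        refine le_inf hUK (Subgroup.map_mono fun x hx => ?_)
        exact Subgroup.mem_subgroupOf.2 (hU (Subgroup.mem_subgroupOf.1 hx)).1
      refine h2.trans (h1.normal_le inf_le_right ?_ (hKp.to_le inf_le_left))
      refine le_normalizer_of fun c hc x hx => ⟨?_, ?_⟩
      · exact (Subgroup.mem_normalizer_iff.1 (hKn (hAres hc)) x).1 hx.1
      · exact Subgroup.mul_mem _ (Subgroup.mul_mem _ hc hx.2) (Subgroup.inv_mem _ hc))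
  -- the first extension
  set M₁ := N ⊓ normalizerIn S Q₁ with hM₁
  obtain ⟨χ₁, hχ₁, hχ₁'⟩ := receptive_ext' hR₂ hχ (autInducedBy_conj_mem_ext hχ (N := M₁) inf_le_right fun ξ hξ =>
    hχV ξ (autInducedBy_mono inf_le_left hξ))
  have hQM₁ : Q₁ ≤ M₁ := le_inf hQN₁ (le_nrm hQS₁)
  -- the second extension
  have haI := (mem_autGroup_iff hQS₁).1 haF
  have hκ : Iso F Q Q₂ (χ ∘ totA a ∘ β) := (hfi.trans haI).trans hχ
  have hext : Q ⊔ Y ≤ ext S Q (χ ∘ totA a ∘ β) := by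
    refine sup_le hκ.map.le_ext (autInducedBy_conj_mem_ext hκ inf_le_right fun ξ hξ => ?_)
    obtain ⟨h, hh, h1⟩ := hχU _ ⟨ξ, hξ, rfl⟩
    refine ⟨h, hh, fun x => ?_⟩
    have h2 := h1 (hfi.equiv x)
    rw [congr_equiv_apply] at h2
    show χ (totA a (β (ξ x : Q))) = h * χ (totA a (β x)) * h⁻¹
    have e1 : ∀ z : Q, totA a (β z) = (a (hfi.equiv z) : Ω) := fun z => totA_of_mem a (hfi.equiv z).2
    rw [e1, e1]; exact h2
  obtain ⟨ξ, hξ, hξ'⟩ := receptive_ext' hR₂ hκ hext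
  -- back to `P₀`
  have hχP : Map F P₀ χ := hχ.map.mono hPQ₁
  set P₃ := im P₀ χ with hP₃
  obtain ⟨ω, hω, hωi⟩ := hNM P₃ (isConj_symm hχP.iso.isConj)
  have hδI : Iso F P₀ P₀ (ω ∘ χ) := hχP.iso.trans hωi
  have him₁ : im P₀ χ₁ = P₃ := im_congr fun x hx => hχ₁' x (hPQ₁ hx)
  have hδ : Map F M₁ (ω ∘ χ₁) := hω.comp hχ₁ fun x hx => by
    have := hχ₁.nrm_mem (hPQ₁.trans hQM₁) hx hx.1
    rwa [him₁] at this
  have hδeq : ∀ x ∈ P₀, (ω ∘ χ₁) x = (ω ∘ χ) x := fun x hx => by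
    show ω (χ₁ x) = ω (χ x)
    rw [hχ₁' x (hPQ₁ hx)]
  have hc₁ : Nat.card Q₁ < Nat.card M₁ := big hS hQlt₁
  have hcM₁ : Nat.card M₁ ≤ Nat.card S := card_le_of_le (inf_le_left.trans nrm_le)
  have hG₁ : hδI.aut ∈ GK F P₀ K hle := by
    refine ih (Nat.card S - Nat.card M₁) (by omega) M₁ (ω ∘ χ₁) rfl (lt_of_lt_of_le hPlt₁ hQM₁) inf_le_left hδ ?_ _
      (fun x => ?_)
    · rw [im_congr hδeq]; exact hδI.im_eq
    · rw [hδeq x x.2, Iso.aut_apply]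
  -- the second map
  have hYN : Q ⊔ Y ≤ N := sup_le hQN (inf_le_left.trans hQhN)
  have hξP : ∀ x ∈ P₀, ξ x = χ (β x) := by
    intro x hx
    rw [hξ' x (hPQ.le hx)]
    show χ (totA a (β x)) = χ (β x)
    have h1 : β x ∈ P₀ := (hinP x (hPQ.le hx)).2 hx
    rw [totA_of_mem a (hPQ₁ h1), haP _ h1]
  have him₂ : im P₀ ξ = P₃ := by
    ext y
    rw [((hξ.mono le_sup_left).mono hPQ.le).mem_im, hχP.mem_im]
    constructor
    · rintro ⟨x, hx, rfl⟩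
      exact ⟨β x, (hinP x (hPQ.le hx)).2 hx, (hξP x hx).symm⟩
    · rintro ⟨x, hx, rfl⟩
      have h1 : x ∈ im P₀ β := by rw [him]; exact hx
      obtain ⟨z, hz, rfl⟩ := (hβ.mono hPQ.le).mem_im.1 h1
      exact ⟨z, hz, hξP z hz⟩
  have hε : Map F (Q ⊔ Y) (ω ∘ ξ) := hω.comp hξ fun x hx => by
    have := hξ.nrm_mem (hPQ.le.trans le_sup_left) hx (hYN hx)
    rwa [him₂] at this
  have hfinSup : Finite ↥(Q ⊔ Y) := finite_of_le hξ.le
  have hc₂ : Nat.card Q < Nat.card ↥(Q ⊔ Y) := by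
    -- an element of `Y` outside `Q`
    have hlt : Q < Q ⊔ Qh := lt_of_le_of_ne le_sup_left fun h => hcase (by rw [h]; exact le_sup_right)
    have hle' : Q ⊔ Qh ≤ S := sup_le hQS NK_le
    have hfin' : Finite ↥(Q ⊔ Qh) := finite_of_le hle'
    obtain ⟨z, hz, hzQ, hzn⟩ := exists_mem_normalizer_of_lt (hS.to_le hle') hlt
    have hQn : Q ≤ Subgroup.normalizer (Qh : Set Ω) := by
      refine le_normalizer_of fun c hc x hx => ?_
      have hcN := hQN hc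
      have hcM := map_conj F (nrm_le (S := S) (P := P₀)) (nrm_mem_S hcN)
      have hcα : cjA P₀ c hcN.2 ∈ F.autGroup P₀ := autInducedBy_le_autGroup F hP₀ (cjA_mem hcN.2 (nrm_mem_S hcN))
      have himc : im P₀ (fun x => c * x * c⁻¹) = P₀ := by
        ext y
        rw [(hcM.mono (le_nrm hP₀)).mem_im]
        constructor
        · rintro ⟨x, hx, rfl⟩; exact nrm_conj_mem hcN hx
        · intro hy
          exact ⟨c⁻¹ * y * c⁻¹⁻¹, nrm_conj_mem (N.inv_mem hcN) hy, by group⟩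
      exact conj_NK hP₀ hKn hcα hcM (le_nrm hP₀) (fun x => rfl) himc hx (hQhN hx)
    obtain ⟨q, hq, y, hy, rfl⟩ := mem_sup_nrm hQn hz
    have hyn : y ∈ Subgroup.normalizer (Q : Set Ω) := by
      have := Subgroup.mul_mem _ (Subgroup.inv_mem _ (Subgroup.le_normalizer hq)) hzn
      rwa [inv_mul_cancel_left] at this
    have hyQ : y ∉ Q := fun h => hzQ (Q.mul_mem hq h)
    refine card_lt_of_lt (lt_of_le_of_ne le_sup_left fun h => hyQ ?_)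
    rw [h]; exact Subgroup.mem_sup_right ⟨hy, NK_le hy, hyn⟩
  have hcM₂ : Nat.card ↥(Q ⊔ Y) ≤ Nat.card S := card_le_of_le hξ.le
  have hG₂ : hδI.aut * α ∈ GK F P₀ K hle := by
    refine ih (Nat.card S - Nat.card ↥(Q ⊔ Y)) (by omega) (Q ⊔ Y) (ω ∘ ξ) rfl (lt_of_lt_of_le hPQ le_sup_left) hYN hε ?_ _
      (fun x => ?_)
    · ext y
      rw [(hε.mono (hPQ.le.trans le_sup_left)).mem_im]
      constructor
      · rintro ⟨x, hx, rfl⟩
        show ω (ξ x) ∈ P₀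
        have h1 : ξ x ∈ P₃ := by rw [← him₂]; exact (hξ.mono (hPQ.le.trans le_sup_left)).apply_mem_im hx
        rw [← hωi.im_eq]; exact hωi.map.apply_mem_im h1
      · intro hy
        rw [← hωi.im_eq] at hy
        obtain ⟨z, hz, rfl⟩ := hωi.map.mem_im.1 hy
        rw [← him₂] at hz
        obtain ⟨x, hx, rfl⟩ := (hξ.mono (hPQ.le.trans le_sup_left)).mem_im.1 hz
        exact ⟨x, hx, rfl⟩
    · show ω (ξ x) = ((hδI.aut (α x) : P₀) : Ω)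
      rw [hξP x x.2, Iso.aut_apply, hαβ]; rfl
  have h1 := Subgroup.mul_mem _ (Subgroup.inv_mem _ hG₁) hG₂
  rwa [inv_mul_cancel_left] at h1

end

end Cfsg.Agent.H27.Sc
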