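import Mathlib
import Cfsg.Agent.H27_Sc3

/-! The saturation criterion, part four: fully normalized members are fully automized and receptive. -/

set_option autoImplicit false

namespace Cfsg.Agent.H27.Sc

open Cfsg.FusionSystem Cfsg.Agent.H27.Fus Cfsg.Agent.H27.Grp Cfsg.Agent.H27.Ix

universe u

section
variable {Ω : Type*} [Group Ω] {S : Subgroup Ω} {F : FusionSystem S} {P Q R U P₀ Q₁ : Subgroup Ω} {f g : Ω → Ω}
variable {p m : ℕ} [Fact p.Prime] [Finite S]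

theorem iso_mem {f : Ω → Ω} (h : Iso F P Q f) {x : Ω} (hx : x ∈ P) : f x ∈ Q := by
  rw [← h.im_eq]; exact h.map.apply_mem_im hx

/-- the extension lemma -/
theorem ext_all (hS : IsPGroup p S) (hP₀ : P₀ ≤ S)
    (hbig : ∀ R ≤ S, Nat.card P₀ < Nat.card R → ∃ Q, F.IsConj R Q ∧ F.IsFullyAutomized p Q ∧ F.IsReceptive Q)
    (hcmp : ∀ P : Subgroup Ω, F.IsConj P P₀ → ∀ f, Map F P f → Cmp F P f)
    (hNM : ∀ P : Subgroup Ω, F.IsConj P P₀ → NM F P P₀) {K : Subgroup (MulAut P₀)} (hle : P₀ ≤ NK S P₀ K)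
    (hKn : F.autGroup P₀ ≤ Subgroup.normalizer (K : Set (MulAut P₀))) (hKp : IsPGroup p K) :
    F.autGroup P₀ ≤ GK F P₀ K hle := by
  have key : ∀ (P : Subgroup Ω) (f : Ω → Ω), Cmp F P f → F.IsConj P P₀ → ∀ ω₀ ω₁, Map F (normalizerIn S P) ω₀ →
      Iso F P P₀ ω₀ → Map F (normalizerIn S (im P f)) ω₁ → Iso F (im P f) P₀ ω₁ →
      ∀ α : MulAut P₀, (∀ x ∈ P, ω₁ (f x) = totA α (ω₀ x)) → α ∈ GK F P₀ K hle := by
    intro P f hPf
    induction hPf with
    | @ext P Q f g h1 h2 h3 =>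
      intro hconj ω₀ ω₁ hω₀ hi₀ hω₁ hi₁ α hα
      have hfin : Finite Q := finite_of_le h2.le
      obtain ⟨x, hx, hxP, hxn⟩ := exists_mem_normalizer_of_lt (hS.to_le h2.le) h1
      set Q' := normalizerIn Q P with hQ'
      have hQ'N : Q' ≤ normalizerIn S P := inf_le_inf_right _ h2.le
      have hPQ' : P ≤ Q' := le_nrm h1.le
      have hlt : P < Q' := by
        refine lt_of_le_of_ne hPQ' fun h => hxP ?_
        rw [h]; exact ⟨hx, hxn⟩
      have hg : Map F Q' g := h2.mono inf_le_left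
      have him : im P g = im P f := im_congr h3
      have hgm : ∀ x ∈ Q', g x ∈ normalizerIn S (im P f) := fun x hx => by
        have := hg.nrm_mem hPQ' hx (hQ'N hx)
        rwa [him] at this
      have hi := (hω₀.mono hQ'N).iso
      have hM : Map F (im Q' ω₀) (ω₁ ∘ g ∘ finv Q' ω₀) :=
        hω₁.comp (hg.comp hi.symm.map fun x hx => hi.finv_mem hx) fun x hx => hgm _ (hi.finv_mem hx)
      have hP₀le : P₀ ≤ im Q' ω₀ := by rw [← hi₀.im_eq]; exact im_mono' hPQ'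
      have hlt₀ : P₀ < im Q' ω₀ := by
        refine lt_of_le_of_ne hP₀le fun h => ?_
        have h4 := (hω₀.mono hQ'N).card_im
        rw [← h, ← hi₀.card] at h4
        have hfin' : Finite Q' := finite_of_le (inf_le_left : Q' ≤ Q)
        have := card_lt_of_lt hlt
        omega
      have hN₀ : im Q' ω₀ ≤ normalizerIn S P₀ := by
        intro y hy
        obtain ⟨x, hx, rfl⟩ := (hω₀.mono hQ'N).mem_im.1 hy
        exact map_nrm hω₀ hi₀ x (hQ'N hx)
      have hval : ∀ z ∈ P, (ω₁ ∘ g ∘ finv Q' ω₀) (ω₀ z) = totA α (ω₀ z) := by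
        intro z hz
        show ω₁ (g (finv Q' ω₀ (ω₀ z))) = _
        rw [hi.finv_left (hPQ' hz), h3 z hz, hα z hz]
      have hαβ : ∀ x : P₀, (ω₁ ∘ g ∘ finv Q' ω₀) x = α x := by
        intro x
        obtain ⟨z, hz, hzx⟩ := hi₀.map.mem_im.1 (by rw [hi₀.im_eq]; exact x.2)
        rw [← hzx, hval z hz, hzx, totA_apply]
      refine ext_big hS hP₀ hbig hNM hle hKn hKp _ _ _ rfl hlt₀ hN₀ hM ?_ α hαβ
      ext y
      rw [(hM.mono hP₀le).mem_im]
      constructor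
      · rintro ⟨x, hx, rfl⟩
        rw [hαβ ⟨x, hx⟩]; exact (α _).2
      · intro hy
        refine ⟨α⁻¹ ⟨y, hy⟩, (α⁻¹ ⟨y, hy⟩).2, ?_⟩
        rw [hαβ, MulAut.apply_inv_self]
    | @comp P f g h h1 h2 h3 ih1 ih2 =>
      intro hconj ω₀ ω₁ hω₀ hi₀ hω₁ hi₁ α hα
      have m1 := h1.map
      have m2 := h2.map
      have m3 : Map F P h := (m2.comp m1 fun x hx => m1.apply_mem_im hx).congr fun x hx => (h3 x hx).symm
      have e1 : im P h = im (im P f) g := by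
        ext y
        rw [m3.mem_im, m2.mem_im]
        constructor
        · rintro ⟨x, hx, rfl⟩; exact ⟨f x, m1.apply_mem_im hx, (h3 x hx).symm⟩
        · rintro ⟨z, hz, rfl⟩
          obtain ⟨x, hx, rfl⟩ := m1.mem_im.1 hz
          exact ⟨x, hx, h3 x hx⟩
      rw [e1] at hω₁ hi₁
      have hc2 : F.IsConj (im P f) P₀ := isConj_trans (isConj_symm m1.iso.isConj) hconj
      obtain ⟨ω₂, hω₂, hi₂⟩ := hNM _ hc2
      have hI₁ : Iso F P₀ P₀ (ω₂ ∘ f ∘ finv P ω₀) := (hi₀.symm.trans m1.iso).trans hi₂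
      have hI₂ : Iso F P₀ P₀ (ω₁ ∘ g ∘ finv (im P f) ω₂) := (hi₂.symm.trans m2.iso).trans hi₁
      have g1 : hI₁.aut ∈ GK F P₀ K hle := by
        refine ih1 hconj ω₀ ω₂ hω₀ hi₀ hω₂ hi₂ _ fun x hx => ?_
        rw [totA_of_mem _ (iso_mem hi₀ hx), Iso.aut_apply]
        show ω₂ (f x) = ω₂ (f (finv P ω₀ (ω₀ x)))
        rw [hi₀.finv_left hx]
      have g2 : hI₂.aut ∈ GK F P₀ K hle := by
        refine ih2 hc2 ω₂ ω₁ hω₂ hi₂ hω₁ hi₁ _ fun x hx => ?_
        rw [totA_of_mem _ (iso_mem hi₂ hx), Iso.aut_apply]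
        show ω₁ (g x) = ω₁ (g (finv (im P f) ω₂ (ω₂ x)))
        rw [hi₂.finv_left hx]
      have e2 : α = hI₂.aut * hI₁.aut := by
        ext x
        obtain ⟨z, hz, hzx⟩ := hi₀.map.mem_im.1 (by rw [hi₀.im_eq]; exact x.2)
        have h4 := hα z hz
        rw [hzx, totA_apply] at h4
        rw [← h4, MulAut.mul_apply, Iso.aut_apply, Iso.aut_apply, h3 z hz, ← hzx]
        show ω₁ (g (f z)) = ω₁ (g (finv (im P f) ω₂ (ω₂ (f (finv P ω₀ (ω₀ z))))))
        rw [hi₀.finv_left hz, hi₂.finv_left (m1.apply_mem_im hz)]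
      rw [e2]
      exact Subgroup.mul_mem _ g2 g1
  intro α hα
  have hi := (mem_autGroup_iff hP₀).1 hα
  have hc := hcmp P₀ (isConj_refl F hP₀) _ hi.map
  refine key P₀ _ hc (isConj_refl F hP₀) id id (map_id F nrm_le) (iso_refl F hP₀) (map_id F nrm_le) ?_ α fun x hx => rfl
  rw [hi.im_eq]; exact iso_refl F hP₀

theorem res_onto {K : Subgroup (MulAut P₀)} (hP₀ : P₀ ≤ S) {hle : P₀ ≤ NK S P₀ K} (h : F.autGroup P₀ ≤ GK F P₀ K hle) :
    ((F.autGroup (NK S P₀ K)).subgroupOf (StA (NK S P₀ K) P₀)).map (resI hle) = F.autGroup P₀ := by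
  apply le_antisymm
  · rintro _ ⟨a, ha, rfl⟩
    have h1 := ((mem_autGroup_iff NK_le).1 (Subgroup.mem_subgroupOf.1 ha)).map.mono hle
    refine mem_autGroup_of h1 fun x => ?_
    rw [resI_apply]
    exact (totA_of_mem _ (hle x.2)).symm
  · intro α hα
    obtain ⟨b, hb, hb'⟩ := h hα
    have hst : hb.aut ∈ StA (NK S P₀ K) P₀ := by
      rw [mem_StA]
      intro x
      rw [Iso.aut_apply]
      constructor
      · intro hx
        have h1 := hb' (α⁻¹ ⟨_, hx⟩)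
        rw [MulAut.apply_inv_self] at h1
        have h2 := hb.map.inj (hle (α⁻¹ ⟨_, hx⟩).2) x.2 h1
        rw [← h2]; exact (α⁻¹ ⟨_, hx⟩).2
      · intro hx
        rw [hb' ⟨x, hx⟩]; exact (α _).2
    refine ⟨⟨hb.aut, hst⟩, Subgroup.mem_subgroupOf.2 hb.aut_mem, ?_⟩
    ext x
    rw [resI_apply]
    exact hb' x

/-- fully normalized implies fully automized and receptive -/
theorem good_of (hS : IsPGroup p S) (hfn : F.IsFullyNormalized P₀)
    (hbig : ∀ R ≤ S, Nat.card P₀ < Nat.card R → ∃ Q, F.IsConj R Q ∧ F.IsFullyAutomized p Q ∧ F.IsReceptive Q)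
    (hcmp : ∀ P : Subgroup Ω, F.IsConj P P₀ → ∀ f, Map F P f → Cmp F P f)
    (hNM : ∀ P : Subgroup Ω, F.IsConj P P₀ → NM F P P₀) {K : Subgroup (MulAut P₀)} (hle : P₀ ≤ NK S P₀ K)
    (hKn : F.autGroup P₀ ≤ Subgroup.normalizer (K : Set (MulAut P₀))) (hKp : IsPGroup p K) (hne : P₀ ≠ NK S P₀ K) :
    F.IsFullyAutomized p P₀ ∧ F.IsReceptive P₀ := by
  have hP₀ := hfn.1
  have hfinP₀ : Finite P₀ := finite_of_le hP₀
  have hext := ext_all hS hP₀ hbig hcmp hNM hle hKn hKp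
  have honto := res_onto hP₀ hext
  set Qh := NK S P₀ K with hQh
  have hQhN : Qh ≤ normalizerIn S P₀ := NK_le_nrm
  have hQhS : Qh ≤ S := NK_le
  have hfinQh : Finite Qh := finite_of_le hQhS
  have hlt : P₀ < Qh := lt_of_le_of_ne hle hne
  have hsatQ := hbig Qh hQhS (card_lt_of_lt hlt)
  have hfinMQ : Finite (MulAut Qh) := Finite.of_injective (fun α : MulAut Qh => (α : Qh → Qh)) DFunLike.coe_injective
  have hfinMP : Finite (MulAut P₀) := Finite.of_injective (fun α : MulAut P₀ => (α : P₀ → P₀)) DFunLike.coe_injective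
  have hNn : normalizerIn S P₀ ≤ normalizerIn S Qh := by
    intro c hcN
    have hgen : ∀ c ∈ normalizerIn S P₀, ∀ x ∈ Qh, c * x * c⁻¹ ∈ Qh := by
      intro c hcN x hx
      have hcM := map_conj F (nrm_le (S := S) (P := P₀)) (nrm_mem_S hcN)
      have hcα : cjA P₀ c hcN.2 ∈ F.autGroup P₀ := autInducedBy_le_autGroup F hP₀ (cjA_mem hcN.2 (nrm_mem_S hcN))
      have himc : im P₀ (fun x => c * x * c⁻¹) = P₀ := by
        ext y
        rw [(hcM.mono (le_nrm hP₀)).mem_im]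
        constructor
        · rintro ⟨x, hx, rfl⟩; exact nrm_conj_mem hcN hx
        · intro hy
          exact ⟨c⁻¹ * y * c⁻¹⁻¹, nrm_conj_mem ((normalizerIn S P₀).inv_mem hcN) hy, by group⟩
      exact conj_NK hP₀ hKn hcα hcM (le_nrm hP₀) (fun x => rfl) himc hx (hQhN hx)
    refine ⟨nrm_mem_S hcN, Subgroup.mem_normalizer_iff.2 fun x => ⟨fun hx => hgen c hcN x hx, fun hx => ?_⟩⟩
    have := hgen c⁻¹ ((normalizerIn S P₀).inv_mem hcN) _ hx
    rwa [show c⁻¹ * (c * x * c⁻¹) * c⁻¹⁻¹ = x by group] at this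
  constructor
  · -- fully automized
    rw [isFullyAutomized_iff]
    refine ⟨hP₀, ?_⟩
    obtain ⟨Q₂, hQ₂, hA₂, hR₂⟩ := hsatQ
    obtain ⟨h₀, hh₀⟩ := isConj_iff.1 hQ₂
    obtain ⟨W, hW⟩ := exists_isSyl (p := p) ((F.autGroup Qh).subgroupOf (StA Qh P₀))
    have hWP := hW.map (resI hle)
    rw [honto] at hWP
    have hWle : W.map (StA Qh P₀).subtype ≤ F.autGroup Qh := by
      rintro _ ⟨w, hw, rfl⟩
      exact Subgroup.mem_subgroupOf.1 (hW.le hw)
    obtain ⟨χ, hχ, hχW⟩ := exists_iso_conj_into hA₂ hh₀ hWle (hW.isPGroup.map _)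
    have hχP : Map F P₀ χ := hχ.map.mono hle
    obtain ⟨ω, hω, hωi⟩ := hNM (im P₀ χ) (isConj_symm hχP.iso.isConj)
    have hI : Iso F P₀ P₀ (ω ∘ χ) := hχP.iso.trans hωi
    -- conjugate of the Sylow subgroup
    have hcj : cj hI.aut (W.map (resI hle)) ≤ autInducedBy S P₀ := by
      rw [cj_le]
      rintro _ ⟨w, hw, rfl⟩
      obtain ⟨h, hh, h1⟩ := hχW _ ⟨w, hw, rfl⟩
      -- `h` normalizes `χ P₀`
      have h2 : ∀ x ∈ P₀, ∀ (hx : x ∈ Qh), χ ((w : MulAut Qh) ⟨x, hx⟩) = h * χ x * h⁻¹ := fun x _ hx => h1 ⟨x, hx⟩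
      have hwP : ∀ x (hx : x ∈ P₀), ((w : MulAut Qh) ⟨x, hle hx⟩ : Ω) ∈ P₀ := fun x hx => (mem_StA.1 w.2 ⟨x, hle hx⟩).2 hx
      have hN : h ∈ normalizerIn S (im P₀ χ) := by
        have hfin3 : Finite ↥(im P₀ χ) := finite_of_le hχP.im_le
        refine mem_nrm_of_forall hχP.im_le hh fun y hy => ?_
        obtain ⟨x, hx, rfl⟩ := hχP.mem_im.1 hy
        rw [← h2 x hx (hle hx)]
        exact hχP.apply_mem_im (hwP x hx)
      refine mem_autInducedBy.2 ⟨ω h, nrm_mem_S (map_nrm hω hωi h hN), fun y => ?_⟩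
      obtain ⟨z, hz⟩ : ∃ z, z = hI.aut⁻¹ y := ⟨_, rfl⟩
      have hzy : y = hI.aut z := by rw [hz, MulAut.apply_inv_self]
      have e1 : (hI.aut * (resI hle) w * hI.aut⁻¹) y = hI.aut ((resI hle w) z) := by
        rw [hz]; rfl
      have hNle := le_nrm (S := S) hχP.im_le
      rw [e1, Iso.aut_apply, resI_apply]
      show ω (χ ((w : MulAut Qh) ⟨z, hle z.2⟩)) = ω h * y * (ω h)⁻¹
      rw [h2 z z.2 (hle z.2), hω.conj hN (hNle (hχP.apply_mem_im z.2)), hzy, Iso.aut_apply]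
      rfl
    have hp : IsPGroup p (autInducedBy S P₀) := isPGroup_autInducedBy hS
    refine isSyl_of_card_ge hWP (autInducedBy_le_autGroup F hP₀) hp ?_
    rw [← card_cj hI.aut]
    have hfin : Finite (autInducedBy S P₀) := inferInstance
    exact card_le_of_le hcj
  · -- receptive
    rw [isReceptive_iff]
    refine ⟨hP₀, fun P f hf => ?_⟩
    obtain ⟨ω, hω, hωi⟩ := hNM P hf.isConj
    have hI : Iso F P₀ P₀ (f ∘ finv P ω) := hωi.symm.trans hf
    obtain ⟨b, hb, hb'⟩ := hext hI.aut_mem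
    have hEN : ext S P f ≤ normalizerIn S P := ext_le_nrm
    set X := im (ext S P f) ω with hX
    have hωE : Map F (ext S P f) ω := hω.mono hEN
    have hXN : X ≤ normalizerIn S P₀ := by
      intro y hy
      obtain ⟨x, hx, rfl⟩ := hωE.mem_im.1 hy
      exact map_nrm hω hωi x (hEN hx)
    -- the action of `X` transported by `f ω⁻¹`
    have hact : ∀ y ∈ X, ∃ h ∈ S, ∀ z ∈ P₀, f (finv P ω (y * z * y⁻¹)) = h * f (finv P ω z) * h⁻¹ := by
      intro y hy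
      obtain ⟨x, hx, rfl⟩ := hωE.mem_im.1 hy
      obtain ⟨h1, h2, h, hh, h3⟩ := mem_ext.1 hx
      refine ⟨h, hh, fun z hz => ?_⟩
      have hz' := hωi.finv_mem hz
      have e1 : ω x * z * (ω x)⁻¹ = ω (x * finv P ω z * x⁻¹) := by
        rw [hω.conj (hEN hx) (le_nrm hωi.le hz'), hωi.finv_right hz]
      rw [e1, hωi.finv_left (nrm_conj_mem (hEN hx) hz')]
      exact h3 _ hz'
    set U := (autInducedBy X Qh).map (MulAut.congr hb.equiv).toMonoidHom with hUdef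
    have hbP : ∀ x ∈ Qh, b x ∈ P₀ ↔ x ∈ P₀ := by
      intro x hx
      constructor
      · intro h
        have h1 := hb' (hI.aut⁻¹ ⟨_, h⟩)
        rw [MulAut.apply_inv_self] at h1
        have h2 := hb.map.inj (hle (hI.aut⁻¹ ⟨_, h⟩).2) hx h1
        rw [← h2]; exact (hI.aut⁻¹ ⟨_, h⟩).2
      · intro h
        rw [hb' ⟨x, h⟩]; exact (hI.aut _).2
    have hUel : ∀ u ∈ U, ∃ y ∈ X, ∀ z : Qh, (u (hb.equiv z) : Ω) = b (y * z * y⁻¹) := by
      rintro _ ⟨ξ, hξ, rfl⟩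
      obtain ⟨y, hy, h⟩ := mem_autInducedBy.1 hξ
      refine ⟨y, hy, fun z => ?_⟩
      rw [congr_equiv_apply, ← h z]; rfl
    have hXQ : ∀ y ∈ X, ∀ z ∈ Qh, y * z * y⁻¹ ∈ Qh := fun y hy z hz => nrm_conj_mem (hNn (hXN hy)) hz
    have hU : U ≤ F.autGroup Qh ⊓ StA Qh P₀ := by
      refine le_inf ?_ ?_
      · rw [hUdef, ← hb.map_autGroup]
        exact Subgroup.map_mono ((autInducedBy_mono (hXN.trans nrm_le)).trans (autInducedBy_le_autGroup F hQhS))
      · intro u hu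
        obtain ⟨y, hy, h⟩ := hUel u hu
        rw [mem_StA]
        intro x
        obtain ⟨z, rfl⟩ := hb.equiv.surjective x
        rw [h z, hbP _ (hXQ y hy z z.2)]
        have h1 := (mem_nrm.1 (hXN hy)).2 z
        rw [← h1]
        exact (hbP z z.2).symm
    have hUp : IsPGroup p U := (isPGroup_autInducedBy (hS.to_le (hXN.trans nrm_le))).map _
    have hVres : (U.subgroupOf (StA Qh P₀)).map (resI hle) ≤
        ((autInducedBy (normalizerIn S P₀) Qh).subgroupOf (StA Qh P₀)).map (resI hle) := by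
      rintro _ ⟨u, hu, rfl⟩
      obtain ⟨y, hy, h⟩ := hUel u (Subgroup.mem_subgroupOf.1 hu)
      obtain ⟨c, hc, h1⟩ := hact y hy
      -- the effect of `u` on `P₀`
      have hu' : ∀ t : P₀, ((resI hle u t : P₀) : Ω) = c * t * c⁻¹ := by
        intro t
        rw [resI_apply]
        have ht : (⟨(t : Ω), hle t.2⟩ : Qh) = hb.equiv ⟨(hI.aut⁻¹ t : P₀), hle (hI.aut⁻¹ t).2⟩ := by
          apply Subtype.ext
          rw [Iso.equiv_apply]
          show (t : Ω) = b (hI.aut⁻¹ t : P₀)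
          rw [hb', MulAut.apply_inv_self]
        rw [ht, h]
        show b (y * (hI.aut⁻¹ t : P₀) * y⁻¹) = _
        have h2 : y * (hI.aut⁻¹ t : P₀) * y⁻¹ ∈ P₀ := nrm_conj_mem (hXN hy) (hI.aut⁻¹ t).2
        rw [hb' ⟨_, h2⟩, Iso.aut_apply]
        show f (finv P ω (y * (hI.aut⁻¹ t : P₀) * y⁻¹)) = _
        rw [h1 _ (hI.aut⁻¹ t).2]
        have h3 : f (finv P ω (hI.aut⁻¹ t : P₀)) = t := by
          have h4 : (hI.aut (hI.aut⁻¹ t) : Ω) = t := by rw [MulAut.apply_inv_self]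
          rw [Iso.aut_apply] at h4
          exact h4
        rw [h3]
      have hcN : c ∈ normalizerIn S P₀ := mem_nrm_of_forall hP₀ hc fun t ht => by
        rw [← hu' ⟨t, ht⟩]; exact (resI hle u ⟨t, ht⟩).2
      have hcQ := hNn hcN
      have hv : cjA Qh c hcQ.2 ∈ autInducedBy (normalizerIn S P₀) Qh := cjA_mem hcQ.2 hcN
      refine ⟨⟨cjA Qh c hcQ.2, (nrm_ind_le (F := F) hQhS hv).2⟩, Subgroup.mem_subgroupOf.2 hv, ?_⟩
      ext t
      rw [resI_apply, hu' t]; rfl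
    obtain ⟨a, Q₂, χ, haF, haP, hχ, hR₂, hχV, hχU⟩ := push hS hle hQhS hsatQ U hU hUp
      (fun W hW hVW => hVres.trans (Subgroup.map_mono hVW))
    -- the two extensions
    obtain ⟨χ₁, hχ₁, hχ₁'⟩ := receptive_ext' hR₂ hχ (autInducedBy_conj_mem_ext hχ (N := normalizerIn S P₀) hNn hχV)
    have haI := (mem_autGroup_iff hQhS).1 haF
    have hκ : Iso F Qh Q₂ (χ ∘ totA a ∘ b) := (hb.trans haI).trans hχ
    have hext2 : Qh ⊔ X ≤ ext S Qh (χ ∘ totA a ∘ b) := by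
      refine sup_le hκ.map.le_ext (autInducedBy_conj_mem_ext hκ (hXN.trans hNn) fun ξ hξ => ?_)
      obtain ⟨h, hh, h1⟩ := hχU _ ⟨ξ, hξ, rfl⟩
      refine ⟨h, hh, fun x => ?_⟩
      have h2 := h1 (hb.equiv x)
      rw [congr_equiv_apply] at h2
      show χ (totA a (b (ξ x : Qh))) = h * χ (totA a (b x)) * h⁻¹
      have e1 : ∀ z : Qh, totA a (b z) = (a (hb.equiv z) : Ω) := fun z => totA_of_mem a (hb.equiv z).2
      rw [e1, e1]; exact h2
    obtain ⟨ξ, hξ, hξ'⟩ := receptive_ext' hR₂ hκ hext2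
    have hχP : Map F P₀ χ := hχ.map.mono hle
    set P₂ := im P₀ χ with hP₂
    have hPN : P₀ ≤ normalizerIn S P₀ := le_nrm hP₀
    have him₁ : im P₀ χ₁ = P₂ := im_congr fun x hx => hχ₁' x (hle hx)
    have hfinN : Finite (normalizerIn S P₂) := fin_nrm
    have hχN : ∀ x ∈ normalizerIn S P₀, χ₁ x ∈ normalizerIn S P₂ := fun x hx => by
      have := hχ₁.nrm_mem hPN hx hx
      rwa [him₁] at this
    have hJ : Iso F (normalizerIn S P₀) (normalizerIn S P₂) χ₁ :=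
      iso_of_card_le hχ₁ hχN (hfn.2 P₂ hχP.iso.isConj)
    have hξP : ∀ x ∈ P₀, ξ x = χ (b x) := by
      intro x hx
      rw [hξ' x (hle hx)]
      show χ (totA a (b x)) = χ (b x)
      have h1 : b x ∈ P₀ := (hbP x (hle hx)).2 hx
      rw [totA_of_mem a (hle h1), haP _ h1]
    have him₂ : im P₀ ξ = P₂ := by
      ext y
      rw [((hξ.mono le_sup_left).mono hle).mem_im, hχP.mem_im]
      constructor
      · rintro ⟨x, hx, rfl⟩
        exact ⟨b x, (hbP x (hle hx)).2 hx, (hξP x hx).symm⟩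
      · rintro ⟨x, hx, rfl⟩
        refine ⟨hI.aut⁻¹ ⟨x, hx⟩, (hI.aut⁻¹ ⟨x, hx⟩).2, ?_⟩
        rw [hξP _ (hI.aut⁻¹ ⟨x, hx⟩).2, hb', MulAut.apply_inv_self]
    have hξX : Map F X ξ := hξ.mono le_sup_right
    have hξN : ∀ x ∈ X, ξ x ∈ normalizerIn S P₂ := fun x hx => by
      have := hξ.nrm_mem (hle.trans le_sup_left) (Subgroup.mem_sup_right hx) (hXN hx)
      rwa [him₂] at this
    refine ⟨finv (normalizerIn S P₀) χ₁ ∘ ξ ∘ ω, ?_, fun x hx => ?_⟩
    · exact hJ.symm.map.comp (hξX.comp hωE fun x hx => hωE.apply_mem_im hx) fun x hx => hξN _ (hωE.apply_mem_im hx)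
    · show finv (normalizerIn S P₀) χ₁ (ξ (ω x)) = f x
      have h1 : ω x ∈ P₀ := iso_mem hωi hx
      have h2 : b (ω x) = f x := by
        rw [hb' ⟨_, h1⟩, Iso.aut_apply]
        show f (finv P ω (ω x)) = f x
        rw [hωi.finv_left hx]
      have h3 : f x ∈ P₀ := iso_mem hf hx
      rw [hξP _ h1, h2, ← hχ₁' _ (hle h3), hJ.finv_left (hPN h3)]

end

end Cfsg.Agent.H27.Sc
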