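import Mathlib
import Cfsg.Agent.H27_Sc4

/-! The saturation criterion, part five: the general statement. -/

set_option autoImplicit false

namespace Cfsg.Agent.H27.Sc

open Cfsg.FusionSystem Cfsg.Agent.H27.Fus Cfsg.Agent.H27.Grp Cfsg.Agent.H27.Ix

universe u

section
variable {Ω : Type*} [Group Ω] {S : Subgroup Ω} {F : FusionSystem S} {P Q R U P₀ Q₁ : Subgroup Ω} {f g : Ω → Ω}
variable {p m : ℕ} [Fact p.Prime] [Finite S]

/-- `O_p(Aut_F(P))` inside `Aut(P)` -/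
def OpA (F : FusionSystem S) (p : ℕ) (P : Subgroup Ω) : Subgroup (MulAut P) :=
  (pCore p ↥(F.autGroup P)).map (F.autGroup P).subtype

theorem opA_le : OpA F p P ≤ F.autGroup P := Subgroup.map_subtype_le _

theorem opA_pgroup : IsPGroup p (OpA F p P) := (isPGroup_pCore' p _).map _

theorem opA_conj {α β : MulAut P} (hα : α ∈ F.autGroup P) (hβ : β ∈ OpA F p P) : α * β * α⁻¹ ∈ OpA F p P := by
  obtain ⟨b, hb, rfl⟩ := hβ
  exact ⟨⟨α, hα⟩ * b * ⟨α, hα⟩⁻¹, (pCore_normal' p _).conj_mem b hb ⟨α, hα⟩, rfl⟩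

theorem opA_norm : F.autGroup P ≤ Subgroup.normalizer (OpA F p P : Set (MulAut P)) := by
  intro α hα
  refine Subgroup.mem_normalizer_iff.2 fun β => ⟨fun h => opA_conj hα h, fun h => ?_⟩
  have := opA_conj (inv_mem hα) h
  rwa [show α⁻¹ * (α * β * α⁻¹) * α⁻¹⁻¹ = β by group] at this

theorem le_opA {X : Subgroup (MulAut P)} (hX : X ≤ F.autGroup P) (hp : IsPGroup p X)
    (hn : ∀ α ∈ F.autGroup P, ∀ β ∈ X, α * β * α⁻¹ ∈ X) : X ≤ OpA F p P := by
  have h1 : (X.subgroupOf (F.autGroup P)).Normal := ⟨fun b hb a => by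
    rw [Subgroup.mem_subgroupOf] at hb ⊢
    exact hn a a.2 b hb⟩
  have h2 : IsPGroup p (X.subgroupOf (F.autGroup P)) := hp.comap_of_injective _ (Subgroup.subtype_injective _)
  have h3 := le_pCore h1 h2
  intro β hβ
  exact ⟨⟨β, hX hβ⟩, h3 (Subgroup.mem_subgroupOf.2 hβ), rfl⟩

theorem inn_le_opA (hS : IsPGroup p S) (hP : P ≤ S) : Inn P ≤ OpA F p P := by
  refine le_opA ((inn_le_autInducedBy hP).trans (autInducedBy_le_autGroup F hP)) (isPGroup_inn hS hP) ?_
  intro α _ β hβ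
  obtain ⟨g, hg, h⟩ := mem_inn.1 hβ
  refine mem_inn.2 ⟨α ⟨g, hg⟩, (α _).2, fun x => ?_⟩
  have h1 : β (α⁻¹ x) = ⟨g, hg⟩ * α⁻¹ x * ⟨g, hg⟩⁻¹ := Subtype.ext (h _)
  show ((α (β (α⁻¹ x)) : P) : Ω) = _
  rw [h1, map_mul, map_mul, map_inv, MulAut.apply_inv_self]
  rfl

theorem opA_map (h : Iso F P Q f) {β : MulAut P} (hβ : β ∈ OpA F p P) :
    MulAut.congr h.equiv β ∈ OpA F p Q := by
  have : (OpA F p P).map (MulAut.congr h.equiv).toMonoidHom ≤ OpA F p Q := by
    refine le_opA ?_ (opA_pgroup.map _) ?_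
    · rw [← h.map_autGroup]; exact Subgroup.map_mono opA_le
    · intro α hα γ hγ
      rw [← h.map_autGroup] at hα
      obtain ⟨a, ha, rfl⟩ := hα
      obtain ⟨b, hb, rfl⟩ := hγ
      exact ⟨a * b * a⁻¹, opA_conj ha hb, by rw [map_mul, map_mul, map_inv]⟩
  exact this ⟨β, hβ, rfl⟩

theorem mem_NK_opA {x : Ω} (hx : x ∈ normalizerIn S P) {α : MulAut P} (hα : α ∈ OpA F p P)
    (h : ∀ y : P, (α y : Ω) = x * y * x⁻¹) : x ∈ NK S P (OpA F p P) :=
  mem_NK.2 ⟨hx, α, hα, h⟩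

theorem of_mem_NK_opA {x : Ω} (hx : x ∈ NK S P (OpA F p P)) : x ∈ normalizerIn S P ∧ ∃ α ∈ OpA F p P, ∀ y : P, (α y : Ω) = x * y * x⁻¹ := by
  obtain ⟨h1, α, hα, h2⟩ := mem_NK.1 hx
  exact ⟨h1, α, hα, h2⟩

/-- **saturation criterion** -/
theorem saturated_of (hS : IsPGroup p S) (ℋ : Set (Subgroup Ω))
    (hℋconj : ∀ P ∈ ℋ, ∀ Q, F.IsConj P Q → Q ∈ ℋ)
    (hsat : ∀ P ∈ ℋ, ∃ Q, F.IsConj P Q ∧ F.IsFullyAutomized p Q ∧ F.IsReceptive Q)
    (hgen : ∀ E : FusionSystem S, (∀ P ∈ ℋ, F.Hom P ⊆ E.Hom P) → F ≤ E)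
    (hstar : ∀ P : Subgroup Ω, P ≤ S → P ∉ ℋ → ∃ Q, F.IsConj P Q ∧ ∃ x ∈ normalizerIn S Q, x ∉ Q ∧
      ∃ α ∈ OpA F p Q, ∀ y : Q, (α y : Ω) = x * y * x⁻¹) : F.IsSaturated p := by
  have key : ∀ n : ℕ, ∀ P ≤ S, Nat.card S - Nat.card P = n → ∃ Q, F.IsConj P Q ∧ F.IsFullyAutomized p Q ∧ F.IsReceptive Q := by
    intro n
    induction n using Nat.strong_induction_on with
    | _ n ih =>
      intro P hP hn
      by_cases hPℋ : P ∈ ℋ
      · exact hsat P hPℋ
      · obtain ⟨P₀, hPP₀, hfn⟩ := exists_fullyNormalized F hP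
        have hP₀ := hfn.1
        have hcard : Nat.card P = Nat.card P₀ := isConj_card hPP₀
        have hPS : P₀ ≠ S := by
          intro h
          obtain ⟨Q, hQ, x, hx, hxQ, -⟩ := hstar P hP hPℋ
          have h1 : Nat.card Q = Nat.card S := by rw [← isConj_card hQ, hcard, h]
          have h2 : Q = S := Subgroup.eq_of_le_of_card_ge (isConj_le' hQ) h1.ge
          exact hxQ (h2 ▸ hx.1)
        have hlt : Nat.card P₀ < Nat.card S := card_lt_of_lt (lt_of_le_of_ne hP₀ hPS)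
        have hbig : ∀ R ≤ S, Nat.card P₀ < Nat.card R → ∃ Q, F.IsConj R Q ∧ F.IsFullyAutomized p Q ∧ F.IsReceptive Q := by
          intro R hR h
          refine ih (Nat.card S - Nat.card R) ?_ R hR rfl
          rw [← hcard] at h
          have := Subgroup.card_le_of_le hR
          omega
        have hcmp : ∀ R : Subgroup Ω, F.IsConj R P₀ → ∀ f, Map F R f → Cmp F R f := by
          refine cmp_all ℋ hgen {R | F.IsConj R P₀} (fun R hR h => hPℋ ?_) ?_ ?_
          · exact hℋconj R h P (isConj_trans hR (isConj_symm hPP₀))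
          · intro h
            have h1 : Nat.card S = Nat.card P₀ := isConj_card h
            omega
          · intro R hR f hf
            exact isConj_trans (isConj_symm hf.iso.isConj) hR
        have hNM : ∀ R : Subgroup Ω, F.IsConj R P₀ → NM F R P₀ := fun R hR =>
          NM_of_fn hS hbig (fun R _ hR => hcmp R hR) rfl hlt hfn hR
        have hle : P₀ ≤ NK S P₀ (OpA F p P₀) := by
          intro x hx
          exact mem_NK_opA (le_nrm hP₀ hx) (inn_le_opA hS hP₀ (mem_inn.2 ⟨x, hx, fun y => rfl⟩ : MulAut.conj (⟨x, hx⟩ : P₀) ∈ Inn P₀)) fun y => rfl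
        have hne : P₀ ≠ NK S P₀ (OpA F p P₀) := by
          intro h
          obtain ⟨Q, hQ, x, hx, hxQ, α, hα, hαx⟩ := hstar P hP hPℋ
          obtain ⟨ω, hω, hωi⟩ := hNM Q (isConj_trans (isConj_symm hQ) hPP₀)
          have h1 := map_nrm hω hωi x hx
          have hQS := hωi.le
          have h2 : ω x ∈ NK S P₀ (OpA F p P₀) := by
            refine mem_NK_opA h1 (opA_map hωi hα) fun y => ?_
            obtain ⟨z, rfl⟩ := hωi.equiv.surjective y
            have e1 := congr_equiv_apply hωi α z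
            rw [show MulAut.congr hωi.equiv α (hωi.equiv z) = hωi.equiv (α z) from e1, Iso.equiv_apply, Iso.equiv_apply, hαx z]
            exact hω.conj hx (le_nrm hQS z.2)
          rw [← h, ← hωi.im_eq, hωi.map.mem_im] at h2
          obtain ⟨z, hz, hzx⟩ := h2
          exact hxQ (by rw [← hω.inj (le_nrm hQS hz) hx hzx]; exact hz)
        obtain ⟨h1, h2⟩ := good_of hS hfn hbig hcmp hNM hle opA_norm opA_pgroup hne
        exact ⟨P₀, hPP₀, h1, h2⟩
  exact fun P hP => key _ P hP rfl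

end

end Cfsg.Agent.H27.Sc
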