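import Mathlib
import Cfsg.Agent.H27_Sc5

/-! Index prime to `p`, part one: constructions of fusion systems. -/

set_option autoImplicit false
set_option linter.all false

namespace Cfsg.Agent.H27.Pp

open Cfsg Cfsg.FusionSystem Cfsg.Agent.H27.Fus Cfsg.Agent.H27.Grp Cfsg.Agent.H27.Ix Cfsg.Agent.H27.Sc

universe u

section
variable {Ω : Type*} [Group Ω] {S T : Subgroup Ω} {P Q R U : Subgroup Ω} {f g : Ω → Ω}

/-- all injective homomorphisms -/
def univFS (S : Subgroup Ω) : FusionSystem S :=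
  mkFS S (fun P f => P ≤ S ∧ (∀ x ∈ P, f x ∈ S) ∧ (∀ x ∈ P, ∀ y ∈ P, f (x * y) = f x * f y) ∧
      ∀ x ∈ P, ∀ y ∈ P, f x = f y → x = y)
    (fun P f g h hfg => ⟨h.1, fun x hx => by rw [← hfg x hx]; exact h.2.1 x hx,
      fun x hx y hy => by rw [← hfg x hx, ← hfg y hy, ← hfg _ (P.mul_mem hx hy)]; exact h.2.2.1 x hx y hy,
      fun x hx y hy hxy => h.2.2.2 x hx y hy (by rw [hfg x hx, hfg y hy]; exact hxy)⟩)
    (fun P f h => ⟨h.1, h.2.1⟩)
    (fun P f h => h.2.2.2)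
    (fun P g hP hg => ⟨hP, fun x hx => S.mul_mem (S.mul_mem hg (hP hx)) (S.inv_mem hg), fun x _ y _ => by group,
      fun x _ y _ h => by simpa using h⟩)
    (fun P Q f g hf hg h => ⟨hf.1, fun x hx => hg.2.1 _ (h x hx), fun x hx y hy => by
        show g (f (x * y)) = _
        rw [hf.2.2.1 x hx y hy, hg.2.2.1 _ (h x hx) _ (h y hy)]; rfl,
      fun x hx y hy hxy => hf.2.2.2 x hx y hy (hg.2.2.2 _ (h x hx) _ (h y hy) hxy)⟩)
    (fun P f R hf hmul hR => by
      have key : ∀ x ∈ P, Function.invFunOn f (P : Set Ω) (f x) = x := fun x hx => by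
        have h1 : ∃ a ∈ (P : Set Ω), f a = f x := ⟨x, hx, rfl⟩
        exact hf.2.2.2 _ (Function.invFunOn_mem h1) _ hx (Function.invFunOn_eq h1)
      refine ⟨Function.invFunOn f (P : Set Ω), ⟨?_, ?_, ?_, ?_⟩, key⟩
      · intro y hy
        obtain ⟨x, hx, rfl⟩ := (hR y).1 hy
        exact hf.2.1 x hx
      · intro y hy
        obtain ⟨x, hx, rfl⟩ := (hR y).1 hy
        rw [key x hx]; exact hf.1 hx
      · intro y hy z hz
        obtain ⟨x, hx, rfl⟩ := (hR y).1 hy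
        obtain ⟨w, hw, rfl⟩ := (hR z).1 hz
        rw [← hmul x hx w hw, key _ (P.mul_mem hx hw), key x hx, key w hw]
      · intro y hy z hz h
        obtain ⟨x, hx, rfl⟩ := (hR y).1 hy
        obtain ⟨w, hw, rfl⟩ := (hR z).1 hz
        rw [key x hx, key w hw] at h
        rw [h])

theorem map_univ : Map (univFS S) P f ↔ P ≤ S ∧ (∀ x ∈ P, f x ∈ S) ∧ (∀ x ∈ P, ∀ y ∈ P, f (x * y) = f x * f y) ∧
      ∀ x ∈ P, ∀ y ∈ P, f x = f y → x = y :=
  map_mkFS fun P f h => h.2.2.1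

theorem univ_of {F : FusionSystem S} (h : Map F P f) : Map (univFS S) P f :=
  map_univ.2 ⟨h.le, fun x hx => h.mem hx, fun x hx y hy => h.mul hx hy, fun x hx y hy => h.inj hx hy⟩

theorem univ_iso {F : FusionSystem S} (h : Iso F P Q f) : Iso (univFS S) P Q f :=
  (univ_of h.map).iso_of_im_eq h.im_eq

theorem univ_aut (α : MulAut P) (hP : P ≤ S) : Iso (univFS S) P P (totA α) := by
  have h : Map (univFS S) P (totA α) := map_univ.2 ⟨hP, fun x hx => by rw [totA_of_mem α hx]; exact hP (α _).2,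
    fun x hx y hy => by
      rw [totA_of_mem α hx, totA_of_mem α hy, totA_of_mem α (P.mul_mem hx hy)]
      rw [show (⟨x * y, P.mul_mem hx hy⟩ : P) = ⟨x, hx⟩ * ⟨y, hy⟩ from rfl, map_mul]; rfl,
    fun x hx y hy hxy => by
      rw [totA_of_mem α hx, totA_of_mem α hy] at hxy
      have := α.injective (Subtype.ext hxy)
      exact congrArg Subtype.val this⟩
  refine h.iso_of_im_eq ?_
  ext y
  rw [h.mem_im]
  constructor
  · rintro ⟨x, hx, rfl⟩
    rw [totA_of_mem α hx]; exact (α _).2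
  · intro hy
    refine ⟨α⁻¹ ⟨y, hy⟩, (α⁻¹ ⟨y, hy⟩).2, ?_⟩
    rw [totA_apply, MulAut.apply_inv_self]

theorem totA_mul {α β : MulAut P} {x : Ω} (hx : x ∈ P) : totA (α * β) x = totA α (totA β x) := by
  rw [totA_of_mem _ hx, totA_of_mem β hx, totA_of_mem α (β ⟨x, hx⟩).2]
  rfl

theorem totA_mem {α : MulAut P} {x : Ω} (hx : x ∈ P) : totA α x ∈ P := by
  rw [totA_of_mem _ hx]; exact (α _).2

theorem totA_one {x : Ω} (hx : x ∈ P) : totA (1 : MulAut P) x = x := by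
  rw [totA_of_mem _ hx]; rfl

theorem totA_inv_self {α : MulAut P} {x : Ω} (hx : x ∈ P) : totA α⁻¹ (totA α x) = x := by
  rw [← totA_mul hx, inv_mul_cancel, totA_one hx]

theorem totA_self_inv {α : MulAut P} {x : Ω} (hx : x ∈ P) : totA α (totA α⁻¹ x) = x := by
  rw [← totA_mul hx, mul_inv_cancel, totA_one hx]

/-- `a` preserves the system `E` -/
def Pr (a : Ω → Ω) (E : FusionSystem S) : Prop :=
  ∀ P f, Map E P f → ∃ g, Map E (im P a) g ∧ ∀ x ∈ P, g (a x) = a (f x)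

theorem Pr.congr {a b : Ω → Ω} {E : FusionSystem S} (h : Pr a E) (hab : ∀ x ∈ S, a x = b x) : Pr b E := by
  intro P f hf
  obtain ⟨g, hg, h1⟩ := h P f hf
  have e : im P a = im P b := im_congr fun x hx => hab x (hf.le hx)
  refine ⟨g, e ▸ hg, fun x hx => ?_⟩
  rw [← hab x (hf.le hx), ← hab (f x) (hf.mem hx)]; exact h1 x hx

theorem im_comp {F : FusionSystem S} (hf : Map F P f) (hg : Map F (im P f) g) : im P (g ∘ f) = im (im P f) g := by
  have h := hg.comp hf fun x hx => hf.apply_mem_im hx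
  ext y
  rw [h.mem_im, hg.mem_im]
  constructor
  · rintro ⟨x, hx, rfl⟩; exact ⟨f x, hf.apply_mem_im hx, rfl⟩
  · rintro ⟨z, hz, rfl⟩
    obtain ⟨x, hx, rfl⟩ := hf.mem_im.1 hz
    exact ⟨x, hx, rfl⟩

theorem Pr.comp {a b : Ω → Ω} {E : FusionSystem S} (hb : Pr b E) (ha : Pr a E) (ha' : Map (univFS S) S a)
    (hb' : Map (univFS S) S b) : Pr (b ∘ a) E := by
  intro P f hf
  obtain ⟨g, hg, h1⟩ := ha P f hf
  obtain ⟨k, hk, h2⟩ := hb _ g hg
  have e : im P (b ∘ a) = im (im P a) b := im_comp (ha'.mono hf.le) (hb'.mono (ha'.mono hf.le).im_le)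
  refine ⟨k, e ▸ hk, fun x hx => ?_⟩
  show k (b (a x)) = b (a (f x))
  rw [h2 _ ((ha'.mono hf.le).apply_mem_im hx), h1 x hx]

theorem Pr.of_map {E : FusionSystem S} {a : Ω → Ω} (ha : Map E S a) : Pr a E := fun P f hf =>
  hf.transport hf.le (fun x hx => hf.mem hx) ha

theorem Inv.pr {E : FusionSystem T} {F : FusionSystem S} (h : Inv E F) {a : Ω → Ω} (ha : Iso F T T a) : Pr a E :=
  fun P f hf => h.inv P f a hf ha

/-- the transported system -/
def conjFS (a : Ω → Ω) (ha : Iso (univFS S) S S a) (E : FusionSystem S) : FusionSystem S :=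
  mkFS S (fun P f => P ≤ S ∧ (∀ x ∈ P, f x ∈ S) ∧ ∃ g, Map E (im P a) g ∧ ∀ x ∈ P, g (a x) = a (f x))
    (fun P f g h hfg => ⟨h.1, fun x hx => by rw [← hfg x hx]; exact h.2.1 x hx, by
      obtain ⟨k, hk, h1⟩ := h.2.2
      exact ⟨k, hk, fun x hx => by rw [← hfg x hx]; exact h1 x hx⟩⟩)
    (fun P f h => ⟨h.1, h.2.1⟩)
    (fun P f h x hx y hy hxy => by
      obtain ⟨k, hk, h1⟩ := h.2.2
      have hP := ha.map.mono h.1
      have h2 := h1 x hx
      rw [hxy, ← h1 y hy] at h2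
      exact hP.inj hx hy (hk.inj (hP.apply_mem_im hx) (hP.apply_mem_im hy) h2))
    (fun P s hP hs => ⟨hP, fun x hx => S.mul_mem (S.mul_mem hs (hP hx)) (S.inv_mem hs),
      fun y => a s * y * (a s)⁻¹, map_conj E (ha.map.mono hP).im_le (ha.map.mem hs), fun x hx => by
        rw [ha.map.conj hs (hP hx)]⟩)
    (fun P Q f g hf hg h => by
      obtain ⟨h1, h2, f', h3, h4⟩ := hf
      obtain ⟨k1, k2, g', k3, k4⟩ := hg
      have hP := ha.map.mono h1
      refine ⟨h1, fun x hx => k2 _ (h x hx), g' ∘ f', k3.comp h3 ?_, fun x hx => ?_⟩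
      · intro y hy
        obtain ⟨x, hx, rfl⟩ := hP.mem_im.1 hy
        rw [h4 x hx]; exact (ha.map.mono k1).apply_mem_im (h x hx)
      · show g' (f' (a x)) = a (g (f x))
        rw [h4 x hx, k4 _ (h x hx)])
    (fun P f R hf hmul hR => by
      obtain ⟨h1, h2, f', h3, h4⟩ := hf
      have hP := ha.map.mono h1
      have hRS : R ≤ S := fun y hy => by
        obtain ⟨x, hx, rfl⟩ := (hR y).1 hy
        exact h2 x hx
      have hRa := ha.map.mono hRS
      have hinj : ∀ x ∈ P, ∀ y ∈ P, f x = f y → x = y := fun x hx y hy hxy => by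
        have h5 := h4 x hx
        rw [hxy, ← h4 y hy] at h5
        exact hP.inj hx hy (h3.inj (hP.apply_mem_im hx) (hP.apply_mem_im hy) h5)
      have key : ∀ x ∈ P, finv P f (f x) = x := fun x hx => by
        have h1 : ∃ a ∈ (P : Set Ω), f a = f x := ⟨x, hx, rfl⟩
        exact hinj _ (Function.invFunOn_mem h1) _ hx (Function.invFunOn_eq h1)
      have e : im (im P a) f' = im R a := by
        ext y
        rw [h3.mem_im, hRa.mem_im]
        constructor
        · rintro ⟨x, hx, rfl⟩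
          obtain ⟨z, hz, rfl⟩ := hP.mem_im.1 hx
          exact ⟨f z, (hR _).2 ⟨z, hz, rfl⟩, (h4 z hz).symm⟩
        · rintro ⟨x, hx, rfl⟩
          obtain ⟨z, hz, rfl⟩ := (hR x).1 hx
          exact ⟨a z, hP.apply_mem_im hz, h4 z hz⟩
      refine ⟨finv P f, ⟨hRS, fun y hy => ?_, finv (im P a) f', ?_, fun y hy => ?_⟩, key⟩
      · obtain ⟨x, hx, rfl⟩ := (hR y).1 hy
        rw [key x hx]; exact h1 hx
      · rw [← e]; exact h3.iso.symm.map
      · obtain ⟨x, hx, rfl⟩ := (hR y).1 hy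
        rw [key x hx, ← h4 x hx, h3.iso.finv_left (hP.apply_mem_im hx)])

theorem map_conjFS {a : Ω → Ω} {ha : Iso (univFS S) S S a} {E : FusionSystem S} :
    Map (conjFS a ha E) P f ↔ P ≤ S ∧ (∀ x ∈ P, f x ∈ S) ∧ ∃ g, Map E (im P a) g ∧ ∀ x ∈ P, g (a x) = a (f x) := by
  refine map_mkFS fun P f h x hx y hy => ?_
  obtain ⟨h1, h2, g, h3, h4⟩ := h
  have hP := ha.map.mono h1
  refine ha.map.inj (h2 _ (P.mul_mem hx hy)) (S.mul_mem (h2 x hx) (h2 y hy)) ?_
  rw [ha.map.mul (h2 x hx) (h2 y hy), ← h4 _ (P.mul_mem hx hy), ← h4 x hx, ← h4 y hy, hP.mul hx hy,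
    h3.mul (hP.apply_mem_im hx) (hP.apply_mem_im hy)]

/-- the smallest fusion system with a property preserved under intersections -/
def leastFS (F : FusionSystem S) (X : FusionSystem S → Prop) (hF : X F) : FusionSystem S :=
  mkFS S (fun P f => ∀ E, X E → Map E P f)
    (fun P f g h hfg E hE => (h E hE).congr hfg)
    (fun P f h => ⟨(h F hF).le, fun x hx => (h F hF).mem hx⟩)
    (fun P f h x hx y hy => (h F hF).inj hx hy)
    (fun P g hP hg E hE => map_conj E hP hg)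
    (fun P Q f g hf hg h E hE => (hg E hE).comp (hf E hE) h)
    (fun P f R hf hmul hR => ⟨finv P f, fun E hE => by
      have h1 : R = im P f := by
        ext y; rw [hR, (hf E hE).mem_im]
      rw [h1]; exact (hf E hE).iso.symm.map, fun x hx => (hf F hF).iso.finv_left hx⟩)

theorem map_leastFS {F : FusionSystem S} {X : FusionSystem S → Prop} {hF : X F} :
    Map (leastFS F X hF) P f ↔ ∀ E, X E → Map E P f :=
  map_mkFS fun P f h x hx y hy => (h F hF).mul hx hy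

/-- maps of the form `α ∘ φ₀` -/
def Mx (E : FusionSystem S) (H : Subgroup (MulAut S)) (P : Subgroup Ω) (f : Ω → Ω) : Prop :=
  ∃ α ∈ H, ∃ g, Map E P g ∧ ∀ x ∈ P, f x = totA α (g x)

theorem Mx.univ {E : FusionSystem S} {H : Subgroup (MulAut S)} (h : Mx E H P f) : Map (univFS S) P f := by
  obtain ⟨α, -, g, hg, h1⟩ := h
  exact ((univ_aut α le_rfl).map.comp (univ_of hg) fun x hx => hg.mem hx).congr fun x hx => (h1 x hx).symm

theorem Mx.inv {E : FusionSystem S} {H : Subgroup (MulAut S)} (hH : ∀ α ∈ H, Pr (totA α) E) (h : Mx E H P f) :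
    Mx E H (im P f) (finv P f) := by
  have hu := h.univ
  obtain ⟨α, hα, g, hg, h1⟩ := h
  obtain ⟨k, hk, h2⟩ := hH α hα _ _ hg.iso.symm.map
  have hα' := (univ_aut α (le_refl S)).map
  have e : im (im P g) (totA α) = im P f := by
    rw [← im_comp (univ_of hg) (hα'.mono hg.im_le)]
    exact im_congr fun x hx => (h1 x hx).symm
  rw [e] at hk
  refine ⟨α⁻¹, H.inv_mem hα, k, hk, fun y hy => ?_⟩
  obtain ⟨x, hx, rfl⟩ := hu.mem_im.1 hy
  rw [hu.iso.finv_left hx, h1 x hx, h2 _ (hg.apply_mem_im hx), hg.iso.finv_left hx, totA_inv_self (hg.le hx)]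

theorem Mx.comp {E : FusionSystem S} {H : Subgroup (MulAut S)} (hH : ∀ α ∈ H, Pr (totA α) E) (h : Mx E H P f)
    (h' : Mx E H Q g) (hPQ : ∀ x ∈ P, f x ∈ Q) : Mx E H P (g ∘ f) := by
  obtain ⟨α, hα, f₀, hf₀, h1⟩ := h
  obtain ⟨β, hβ, g₀, hg₀, h2⟩ := h'
  -- `β g₀ α f₀ = β α (α⁻¹ g₀ α) f₀`
  have hQ := hg₀.le
  obtain ⟨k, hk, h3⟩ := hH α⁻¹ (H.inv_mem hα) _ _ hg₀
  have hα' := (univ_aut α⁻¹ (le_refl S)).map
  refine ⟨β * α, H.mul_mem hβ hα, k ∘ f₀, hk.comp hf₀ fun x hx => ?_, fun x hx => ?_⟩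
  · have h4 := (hα'.mono hQ).apply_mem_im (hPQ x hx)
    rwa [h1 x hx, totA_inv_self (hf₀.mem hx)] at h4
  · have h5 := hf₀.mem hx
    have h4 := h3 _ (hPQ x hx)
    rw [h1 x hx, totA_inv_self h5] at h4
    show g (f x) = totA (β * α) (k (f₀ x))
    have h6 : totA α (f₀ x) ∈ Q := by rw [← h1 x hx]; exact hPQ x hx
    rw [h2 _ (hPQ x hx), h4, h1 x hx, totA_mul (totA_mem (hg₀.mem h6)), totA_self_inv (hg₀.mem h6)]

def extFS (E : FusionSystem S) (H : Subgroup (MulAut S)) (hH : ∀ α ∈ H, Pr (totA α) E) : FusionSystem S :=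
  mkFS S (Mx E H)
    (fun P f g h hfg => by
      obtain ⟨α, hα, k, hk, h1⟩ := h
      exact ⟨α, hα, k, hk, fun x hx => by rw [← hfg x hx]; exact h1 x hx⟩)
    (fun P f h => ⟨h.univ.le, fun x hx => h.univ.mem hx⟩)
    (fun P f h x hx y hy => h.univ.inj hx hy)
    (fun P g hP hg => ⟨1, H.one_mem, _, map_conj E hP hg, fun x hx => (totA_one (S.mul_mem (S.mul_mem hg (hP hx)) (S.inv_mem hg))).symm⟩)
    (fun P Q f g hf hg h => Mx.comp hH hf hg h)
    (fun P f R hf hmul hR => ⟨finv P f, by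
      have h1 : R = im P f := by
        ext y; rw [hR, hf.univ.mem_im]
      rw [h1]; exact hf.inv hH, fun x hx => hf.univ.iso.finv_left hx⟩)

theorem map_extFS {E : FusionSystem S} {H : Subgroup (MulAut S)} {hH : ∀ α ∈ H, Pr (totA α) E} :
    Map (extFS E H hH) P f ↔ Mx E H P f :=
  map_mkFS fun P f h x hx y hy => h.univ.mul hx hy

theorem le_extFS {E : FusionSystem S} {H : Subgroup (MulAut S)} {hH : ∀ α ∈ H, Pr (totA α) E} (h : Map E P f) :
    Map (extFS E H hH) P f :=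
  map_extFS.2 ⟨1, H.one_mem, f, h, fun x hx => (totA_one (h.mem hx)).symm⟩

theorem ext_aut {E : FusionSystem S} {H : Subgroup (MulAut S)} {hH : ∀ α ∈ H, Pr (totA α) E} {α : MulAut S}
    (h : α ∈ H) (hP : P ≤ S) : Map (extFS E H hH) P (totA α) :=
  map_extFS.2 ⟨α, h, id, map_id E hP, fun x hx => rfl⟩

end

end Cfsg.Agent.H27.Pp
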