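import Mathlib
import Cfsg.Agent.H27_Pp1
import Cfsg.Agent.H27_FusInv3

/-! Index prime to `p`, part two: the generating system and the Frattini property. -/

set_option autoImplicit false
set_option linter.all false

namespace Cfsg.Agent.H27.Pp

open Cfsg Cfsg.FusionSystem Cfsg.Agent.H27.Fus Cfsg.Agent.H27.Grp Cfsg.Agent.H27.Ix Cfsg.Agent.H27.Sc

universe u

theorem frattini_syl {G : Type*} [Group G] {p : ℕ} [Fact p.Prime] {A N T : Subgroup G} [Finite A] (hT : IsSyl p T A)
    (hTN : T ≤ N) (hNA : N ≤ A) (hn : ∀ a ∈ A, ∀ x ∈ N, a * x * a⁻¹ ∈ N) {a : G} (ha : a ∈ A) :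
    ∃ n ∈ N, cj (n * a) T ≤ T := by
  have hfin : Finite N := finite_of_le hNA
  have h1 := hT.mono hTN hNA
  have h2 : cj a T ≤ N := by
    rw [cj_le]; exact fun x hx => hn a ha x (hTN hx)
  obtain ⟨n, hn, h3⟩ := h1.conj h2 (isPGroup_cj hT.isPGroup)
  exact ⟨n, hn, by rw [← cj_cj]; exact h3⟩

section
variable {Ω : Type*} [Group Ω] {S T : Subgroup Ω} {P Q R U : Subgroup Ω} {f g : Ω → Ω} {p : ℕ}
variable {F E : FusionSystem S} {ℋ : Set (Subgroup Ω)}

/-- `O^{p'}(Aut_F(P))` -/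
def Opp (F : FusionSystem S) (p : ℕ) (P : Subgroup Ω) : Subgroup (MulAut P) :=
  Subgroup.closure {α | α ∈ F.autGroup P ∧ ∃ k : ℕ, orderOf α = p ^ k}

theorem opp_eq : (Subgroup.closure {α : ↥(F.autGroup P) | ∃ k : ℕ, orderOf α = p ^ k}).map (F.autGroup P).subtype =
    Opp F p P := by
  rw [MonoidHom.map_closure]
  congr 1
  ext α
  constructor
  · rintro ⟨β, ⟨k, hk⟩, rfl⟩
    exact ⟨β.2, k, by rw [← hk]; exact Subgroup.orderOf_coe β⟩
  · rintro ⟨hα, k, hk⟩
    exact ⟨⟨α, hα⟩, ⟨k, by rw [← hk]; exact Subgroup.orderOf_mk α hα⟩, rfl⟩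

theorem opp_le : Opp F p P ≤ F.autGroup P := (Subgroup.closure_le _).2 fun α h => h.1

theorem opp_mono {F : FusionSystem S} {E : FusionSystem T} (h : E.autGroup P ≤ F.autGroup P) : Opp E p P ≤ Opp F p P :=
  Subgroup.closure_mono fun α hα => ⟨h hα.1, hα.2⟩

theorem mem_opp_of {α : MulAut P} (hα : α ∈ F.autGroup P) (hp : ∃ k : ℕ, orderOf α = p ^ k) : α ∈ Opp F p P :=
  Subgroup.subset_closure ⟨hα, hp⟩

theorem le_opp [Fact p.Prime] {X : Subgroup (MulAut P)} (hX : X ≤ F.autGroup P) (hp : IsPGroup p X) : X ≤ Opp F p P := by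
  intro α hα
  refine mem_opp_of (hX hα) ?_
  obtain ⟨k, hk⟩ := IsPGroup.iff_orderOf.1 hp ⟨α, hα⟩
  exact ⟨k, by rw [← hk]; exact (Subgroup.orderOf_mk α hα).symm⟩

theorem opp_conj {α β : MulAut P} (hα : α ∈ F.autGroup P) (hβ : β ∈ Opp F p P) : α * β * α⁻¹ ∈ Opp F p P := by
  have h : Opp F p P ≤ (Opp F p P).comap (MulAut.conj α).toMonoidHom := by
    rw [Opp, Subgroup.closure_le]
    rintro γ ⟨h1, k, hk⟩
    refine mem_opp_of (mul_mem (mul_mem hα h1) (inv_mem hα)) ⟨k, ?_⟩
    rw [← hk]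
    show orderOf ((MulAut.conj α) γ) = _
    exact MulEquiv.orderOf_eq _ _
  exact h hβ

/-- transport by a map preserving the system -/
theorem opp_pr {a : Ω → Ω} (ha : Iso (univFS S) S S a) (hF : Pr a F) (hP : P ≤ S) {β : MulAut P} (hβ : β ∈ Opp F p P) :
    MulAut.congr (ha.restrict hP).equiv β ∈ Opp F p (im P a) := by
  have h : Opp F p P ≤ (Opp F p (im P a)).comap (MulAut.congr (ha.restrict hP).equiv).toMonoidHom := by
    rw [Opp, Subgroup.closure_le]
    rintro γ ⟨h1, k, hk⟩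
    refine mem_opp_of ?_ ⟨k, ?_⟩
    · obtain ⟨g, hg, h2⟩ := hF P _ ((mem_autGroup_iff hP).1 h1).map
      refine mem_autGroup_of hg fun x => ?_
      obtain ⟨z, rfl⟩ := (ha.restrict hP).equiv.surjective x
      rw [congr_equiv_apply, Iso.equiv_apply, Iso.equiv_apply, h2 z z.2, totA_apply]
    · rw [← hk]
      exact MulEquiv.orderOf_eq _ _
  exact h hβ

theorem opp_iso (h : Iso F P Q f) {β : MulAut P} (hβ : β ∈ Opp F p P) :
    MulAut.congr h.equiv β ∈ Opp F p Q := by
  have h' : Opp F p P ≤ (Opp F p Q).comap (MulAut.congr h.equiv).toMonoidHom := by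
    rw [Opp, Subgroup.closure_le]
    rintro γ ⟨h1, k, hk⟩
    refine mem_opp_of ?_ ⟨k, ?_⟩
    · rw [← h.map_autGroup]; exact ⟨γ, h1, rfl⟩
    · rw [← hk]
      exact MulEquiv.orderOf_eq _ _
  exact h' hβ

/-- the smallest fusion system with all `O^{p'}(Aut_F(P))`, `P ∈ ℋ` -/
def Gen (F : FusionSystem S) (p : ℕ) (ℋ : Set (Subgroup Ω)) : FusionSystem S :=
  leastFS F (fun E => ∀ P ∈ ℋ, Opp F p P ≤ E.autGroup P) fun P _ => opp_le

theorem map_gen : Map (Gen F p ℋ) P f ↔ ∀ E : FusionSystem S, (∀ P ∈ ℋ, Opp F p P ≤ E.autGroup P) → Map E P f :=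
  map_leastFS

theorem gen_sub (h : Map (Gen F p ℋ) P f) : Map F P f := map_gen.1 h F fun P _ => opp_le

theorem gen_le {E : FusionSystem S} (hE : ∀ P ∈ ℋ, Opp F p P ≤ E.autGroup P) (h : Map (Gen F p ℋ) P f) : Map E P f :=
  map_gen.1 h E hE

theorem opp_le_gen (hP : P ∈ ℋ) (hPS : P ≤ S) : Opp F p P ≤ (Gen F p ℋ).autGroup P := by
  intro α hα
  rw [mem_autGroup_iff hPS]
  have h : Map (Gen F p ℋ) P (totA α) := map_gen.2 fun E hE => ((mem_autGroup_iff hPS).1 (hE P hP hα)).map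
  refine h.iso_of_im_eq ?_
  exact ((mem_autGroup_iff hPS).1 (opp_le hα)).im_eq

theorem gen_pr {a : Ω → Ω} (ha : Iso (univFS S) S S a) (hF : Pr a F) (hℋS : ∀ P ∈ ℋ, P ≤ S) (hℋ : ∀ P ∈ ℋ, im P a ∈ ℋ) :
    Pr a (Gen F p ℋ) := by
  intro P f hf
  have hPS := hf.le
  have haP := ha.restrict hPS
  refine ⟨a ∘ f ∘ finv P a, map_gen.2 fun E hE => ?_, fun x hx => ?_⟩
  · have h1 := gen_le (E := conjFS a ha E) ?_ hf
    · obtain ⟨-, -, g, hg, h2⟩ := map_conjFS.1 h1
      refine hg.congr fun y hy => ?_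
      obtain ⟨x, hx, rfl⟩ := haP.map.mem_im.1 hy
      show _ = a (f (finv P a (a x)))
      rw [h2 x hx, haP.finv_left hx]
    · intro Q hQ β hβ
      have hQS := hℋS Q hQ
      have hβ' := (mem_autGroup_iff hQS).1 (opp_le hβ)
      refine mem_autGroup_of (f := totA β) ?_ fun x => (totA_apply β x).symm
      refine map_conjFS.2 ⟨hQS, fun x hx => hβ'.map.mem hx, totA (MulAut.congr (ha.restrict hQS).equiv β), ?_, ?_⟩
      · exact ((mem_autGroup_iff (ha.restrict hQS).map.im_le).1 (hE _ (hℋ Q hQ) (opp_pr ha hF hQS hβ))).map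
      · intro x hx
        have h3 := totA_apply (MulAut.congr (ha.restrict hQS).equiv β) ((ha.restrict hQS).equiv ⟨x, hx⟩)
        rw [show MulAut.congr (ha.restrict hQS).equiv β ((ha.restrict hQS).equiv ⟨x, hx⟩) =
          (ha.restrict hQS).equiv (β ⟨x, hx⟩) from congr_equiv_apply (ha.restrict hQS) β ⟨x, hx⟩] at h3
        rw [totA_of_mem β hx]
        exact h3
  · show a (f (finv P a (a x))) = _
    rw [haP.finv_left hx]

/-- the families used -/
structure Fam (F : FusionSystem S) (p : ℕ) (ℋ : Set (Subgroup Ω)) : Prop where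
  conj : ∀ P ∈ ℋ, ∀ Q, F.IsConj P Q → Q ∈ ℋ
  up : ∀ P ∈ ℋ, ∀ Q, P ≤ Q → Q ≤ S → Q ∈ ℋ
  cen : ∀ P ∈ ℋ, F.IsCentric P
  star : ∀ P ≤ S, P ∉ ℋ → ∃ Q, F.IsConj P Q ∧ ∃ x ∈ normalizerIn S Q, x ∉ Q ∧
      ∃ α ∈ OpA F p Q, ∀ y : Q, (α y : Ω) = x * y * x⁻¹

theorem Fam.top [Finite S] (h : Fam F p ℋ) : S ∈ ℋ := by
  by_contra hS
  obtain ⟨Q, hQ, x, hx, hxQ, -⟩ := h.star S le_rfl hS
  have h2 : S = Q := (Subgroup.eq_of_le_of_card_ge (isConj_le' hQ) (isConj_card hQ).le).symm
  exact hxQ (h2 ▸ hx.1)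

theorem Fam.le (h : Fam F p ℋ) (hP : P ∈ ℋ) : P ≤ S := (h.cen P hP).1

theorem fam_centric [Finite S] : Fam F p {P | F.IsCentric P} where
  conj P hP Q hQ := IsCentric.conj hP hQ
  up P hP Q hPQ hQ := IsCentric.mono hP hPQ hQ
  cen P hP := hP
  star P hP hPℋ := by
    have h : ∃ Q, F.IsConj P Q ∧ ¬ centralizerIn S Q ≤ Q := by
      by_contra h
      push Not at h
      exact hPℋ ⟨hP, h⟩
    obtain ⟨Q, hQ, h⟩ := h
    rw [SetLike.not_le_iff_exists] at h
    obtain ⟨x, hx, hxQ⟩ := h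
    have hQS := isConj_le' hQ
    refine ⟨Q, hQ, x, cen_le_nrm hx, hxQ, 1, one_mem _, fun y => (cen_conj hx y.2).symm⟩

theorem gen_pr_aut (hFam : Fam F p ℋ) {a : Ω → Ω} (ha : Iso F S S a) : Pr a (Gen F p ℋ) :=
  gen_pr (univ_iso ha) (Pr.of_map ha.map) (fun P hP => hFam.le hP) fun P hP =>
    hFam.conj P hP _ (ha.restrict (hFam.le hP)).isConj

theorem gen_pr_aut' (hFam : Fam F p ℋ) : ∀ α ∈ F.autGroup S, Pr (totA α) (Gen F p ℋ) := fun α hα =>
  gen_pr_aut hFam ((mem_autGroup_iff le_rfl).1 hα)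

theorem Mx.sub (h : Mx (Gen F p ℋ) (F.autGroup S) P f) : Map F P f := by
  obtain ⟨α, hα, g, hg, h1⟩ := h
  exact (((mem_autGroup_iff le_rfl).1 hα).map.comp (gen_sub hg) fun x hx => hg.mem hx).congr fun x hx => (h1 x hx).symm

variable [Fact p.Prime] [Finite S]

/-- the Frattini property -/
theorem frat_gen (hS : IsPGroup p S) (hF : F.IsSaturated p) (hFam : Fam F p ℋ) :
    ∀ P f, Map F P f → Mx (Gen F p ℋ) (F.autGroup S) P f := by
  set EA := extFS (Gen F p ℋ) (F.autGroup S) (gen_pr_aut' hFam) with hEA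
  have key : ∀ (n : ℕ) (P : Subgroup Ω), Nat.card S - Nat.card P = n → ∀ f, Map F P f → Map EA P f := by
    intro n
    induction n using Nat.strong_induction_on with
    | _ n ih =>
      intro P hn f hf
      have hP := hf.le
      by_cases hPS : P = S
      · subst hPS
        have hi : Iso F P P f := hf.iso_of_im_eq (eq_of_le_of_card_le hf.im_le hf.card_im.ge)
        exact (ext_aut (P := P) (hH := gen_pr_aut' hFam) hi.aut_mem le_rfl).congr fun x hx => totA_of_mem _ hx
      have big : ∀ R : Subgroup Ω, Nat.card P < Nat.card R → ∀ g, Map F R g → Map EA R g := by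
        intro R hR g hg
        refine ih (Nat.card S - Nat.card R) ?_ R rfl g hg
        have := card_le_of_le hg.le
        omega
      obtain ⟨Q, hPQ, hQ⟩ := exists_fullyNormalized F hP
      have grow : ∀ R : Subgroup Ω, Nat.card R = Nat.card P → R ≤ S → Nat.card P < Nat.card (normalizerIn S R) := by
        intro R hR hRS
        have hne : R ≠ S := fun h => hPS (eq_of_le_of_card_le hP (by rw [← hR, h]))
        obtain ⟨x, hx, hxR, hxn⟩ := exists_mem_normalizer_of_lt hS (lt_of_le_of_ne hRS hne)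
        rw [← hR]
        have hfinN : Finite (normalizerIn S R) := fin_nrm
        exact card_lt_of_lt (lt_of_le_of_ne (le_nrm hRS) fun h => hxR (by rw [h]; exact ⟨hx, hxn⟩))
      -- automorphisms of `Q`
      have hcQ : Nat.card Q = Nat.card P := (isConj_card hPQ).symm
      have hQS := hQ.1
      have hfinQ : Finite Q := finite_of_le hQS
      have hQaut : ∀ g, Iso F Q Q g → Map EA Q g := by
        intro g hg
        have hsyl := (isFullyAutomized_iff.1 (fn_automized hS hF hQ)).2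
        have hrec := fn_receptive hS hF hQ
        have hfinA : Finite (F.autGroup Q) := finite_autGroup hQS
        by_cases hQℋ : Q ∈ ℋ
        · obtain ⟨n, hn, h1⟩ := frattini_syl hsyl (le_opp hsyl.le hsyl.isPGroup) opp_le
            (fun a ha x hx => opp_conj ha hx) hg.aut_mem
          have hnF : n ∈ F.autGroup Q := opp_le hn
          have hna : n * hg.aut ∈ F.autGroup Q := mul_mem hnF hg.aut_mem
          have hi := (mem_autGroup_iff hQS).1 hna
          have hext : normalizerIn S Q ≤ ext S Q (totA (n * hg.aut)) := by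
            refine autInducedBy_conj_mem_ext hi le_rfl fun ξ hξ => ?_
            have h2 : ξ ∈ autInducedBy S Q := autInducedBy_mono nrm_le hξ
            obtain ⟨h, hh, h3⟩ := mem_autInducedBy.1 (cj_le.1 h1 ξ h2)
            refine ⟨h, hh, fun x => ?_⟩
            have h4 := h3 ((n * hg.aut) x)
            rw [totA_apply, totA_apply, ← h4]
            simp [MulAut.mul_apply]
          obtain ⟨χ, hχ, h2⟩ := receptive_ext' hrec hi hext
          have h3 := big _ (grow Q hcQ hQS) χ hχ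
          have hn' : Map EA Q (totA n⁻¹) :=
            le_extFS ((mem_autGroup_iff hQS).1 (inv_mem (opp_le_gen hQℋ hQS hn))).map
          refine (hn'.comp (h3.mono (le_nrm hQS)) fun x hx => ?_).congr fun x hx => ?_
          · rw [h2 x hx]; exact totA_mem hx
          · show totA n⁻¹ (χ x) = g x
            rw [h2 x hx, totA_mul hx, totA_inv_self (totA_mem hx), totA_of_mem _ hx]; rfl
        · obtain ⟨Q₁, hQ₁, x, hx, hxQ, α, hα, hαx⟩ := hFam.star Q hQS hQℋ
          obtain ⟨ψ, hψ, hψi, hψn⟩ := fn_nrm_map hS hF hQ (isConj_symm hQ₁)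
          have hQ₁S := isConj_le' hQ₁
          set K := NK S Q (OpA F p Q) with hK
          have hy : ψ x ∈ K := by
            refine mem_NK_opA (hψn x hx) (opA_map hψi hα) fun y => ?_
            obtain ⟨z, rfl⟩ := hψi.equiv.surjective y
            have e1 := congr_equiv_apply hψi α z
            rw [show MulAut.congr hψi.equiv α (hψi.equiv z) = hψi.equiv (α z) from e1, Iso.equiv_apply, Iso.equiv_apply, hαx z]
            exact hψ.conj hx (le_nrm hQ₁S z.2)
          have hyQ : ψ x ∉ Q := by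
            intro h
            rw [← hψi.im_eq, hψi.map.mem_im] at h
            obtain ⟨z, hz, hzx⟩ := h
            exact hxQ (by rw [← hψ.inj (le_nrm hQ₁S hz) hx hzx]; exact hz)
          have hQK : Q ≤ K := by
            intro x hx
            exact mem_NK_opA (le_nrm hQS hx) (inn_le_opA hS hQS (mem_inn.2 ⟨x, hx, fun y => rfl⟩ : MulAut.conj (⟨x, hx⟩ : Q) ∈ Inn Q)) fun y => rfl
          have hlt : Q < K := lt_of_le_of_ne hQK fun h => hyQ (h ▸ hy)
          have hKS : K ≤ S := NK_le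
          have hfinK : Finite K := finite_of_le hKS
          have hext : K ≤ ext S Q g := by
            refine autInducedBy_conj_mem_ext hg NK_le_nrm fun ξ hξ => ?_
            obtain ⟨k, hk, hkξ⟩ := mem_autInducedBy.1 hξ
            obtain ⟨hk1, β, hβ, h1⟩ := of_mem_NK_opA hk
            have e : ξ = β := by ext x; rw [hkξ, h1]
            have h2 : hg.aut * β * hg.aut⁻¹ ∈ OpA F p Q := opA_conj hg.aut_mem hβ
            have h3 : OpA F p Q ≤ autInducedBy S Q := hsyl.normal_le opA_le opA_norm opA_pgroup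
            obtain ⟨h, hh, h4⟩ := mem_autInducedBy.1 (h3 h2)
            refine ⟨h, hh, fun x => ?_⟩
            have h5 := h4 (hg.aut x)
            rw [Iso.aut_apply] at h5
            rw [← h5, e]
            simp [MulAut.mul_apply]
          obtain ⟨χ, hχ, h2⟩ := receptive_ext' hrec hg hext
          have h3 := big K (by rw [← hcQ]; exact card_lt_of_lt hlt) χ hχ
          exact (h3.mono hQK).congr h2
      -- general maps
      obtain ⟨ψ, hψ, hψi, -⟩ := fn_nrm_map hS hF hQ hPQ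
      have hfi := hf.iso
      obtain ⟨ω, hω, hωi, -⟩ := fn_nrm_map hS hF hQ (isConj_trans (isConj_symm hfi.isConj) hPQ)
      have hψ' := (big _ (grow P rfl hP) ψ hψ).mono (le_nrm hP)
      have hω' := (big _ (grow _ hf.card_im hf.im_le) ω hω).mono (le_nrm hf.im_le)
      have hψA : Iso EA P Q ψ := hψ'.iso_of_im_eq hψi.im_eq
      have hωA : Iso EA (im P f) Q ω := hω'.iso_of_im_eq hωi.im_eq
      have hg : Iso F Q Q (ω ∘ f ∘ finv P ψ) := (hψi.symm.trans hfi).trans hωi
      have h1 := hQaut _ hg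
      have h2 := hωA.symm.map.comp (h1.comp hψ' fun x hx => by rw [← hψi.im_eq]; exact hψi.map.apply_mem_im hx) fun x hx => by
        show (ω ∘ f ∘ finv P ψ) (ψ x) ∈ Q
        show ω (f (finv P ψ (ψ x))) ∈ Q
        rw [hψi.finv_left hx, ← hωi.im_eq]
        exact hωi.map.apply_mem_im (hf.apply_mem_im hx)
      refine h2.congr fun x hx => ?_
      show finv (im P f) ω (ω (f (finv P ψ (ψ x)))) = f x
      rw [hψi.finv_left hx, hωi.finv_left (hf.apply_mem_im hx)]
  exact fun P f hf => map_extFS.1 (key _ P rfl f hf)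

end

end Cfsg.Agent.H27.Pp
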