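import Mathlib
import Cfsg.Agent.H27_Pp2

/-! Index prime to `p`, part three: saturation of the subsystems. -/

set_option autoImplicit false
set_option linter.all false

namespace Cfsg.Agent.H27.Pp

open Cfsg Cfsg.FusionSystem Cfsg.Agent.H27.Fus Cfsg.Agent.H27.Grp Cfsg.Agent.H27.Ix Cfsg.Agent.H27.Sc

universe u

section
variable {Ω : Type*} [Group Ω] {S T : Subgroup Ω} {P Q R U : Subgroup Ω} {f g : Ω → Ω} {p : ℕ}
variable {F E : FusionSystem S} {ℋ : Set (Subgroup Ω)}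
variable [Fact p.Prime] [Finite S]

/-- an isomorphism `h = a g` and the preimage under `a` -/
theorem split_iso (hS : IsPGroup p S) (hF : F.IsSaturated p) (hFam : Fam F p ℋ) (hf : Iso F P Q f) :
    ∃ α ∈ F.autGroup S, ∃ g, Map (Gen F p ℋ) P g ∧ (∀ x ∈ P, f x = totA α (g x)) ∧
      Iso F Q (im P g) (totA α⁻¹) := by
  obtain ⟨α, hα, g, hg, h1⟩ := frat_gen hS hF hFam P f hf.map
  refine ⟨α, hα, g, hg, h1, ?_⟩
  have h2 := ((mem_autGroup_iff le_rfl).1 (inv_mem hα)).map.mono hf.le'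
  refine h2.iso_of_im_eq ?_
  ext y
  rw [h2.mem_im, hg.mem_im]
  constructor
  · rintro ⟨x, hx, rfl⟩
    obtain ⟨z, hz, rfl⟩ := hf.map.mem_im.1 (by rw [hf.im_eq]; exact hx)
    exact ⟨z, hz, by rw [h1 z hz, totA_inv_self (hg.mem hz)]⟩
  · rintro ⟨z, hz, rfl⟩
    refine ⟨f z, by rw [← hf.im_eq]; exact hf.map.apply_mem_im hz, ?_⟩
    rw [h1 z hz, totA_inv_self (hg.mem hz)]

theorem opp_all (hS : IsPGroup p S) (hF : F.IsSaturated p) (hFam : Fam F p ℋ) (hP : P ≤ S) :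
    Opp F p P ≤ (Gen F p ℋ).autGroup P := by
  have hfin : Finite P := finite_of_le hP
  rw [Opp, Subgroup.closure_le]
  rintro α ⟨hα, k, hk⟩
  obtain ⟨Q, hPQ, hQ⟩ := exists_fullyNormalized F hP
  obtain ⟨f, hf⟩ := isConj_iff.1 hPQ
  have hX : Subgroup.zpowers α ≤ F.autGroup P := by
    rw [Subgroup.zpowers_le]; exact hα
  have hXp : IsPGroup p (Subgroup.zpowers α) := by
    refine IsPGroup.of_card (n := k) ?_
    rw [Nat.card_zpowers, hk]
  obtain ⟨h, hh, h1⟩ := exists_iso_conj_into (fn_automized hS hF hQ) hf hX hXp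
  obtain ⟨s, hs, h2⟩ := h1 α (Subgroup.mem_zpowers α)
  obtain ⟨β, hβ, g, hg, h3, h4⟩ := split_iso hS hF hFam hh
  have ht : totA β⁻¹ s ∈ S := totA_mem hs
  have hβ' := ((mem_autGroup_iff le_rfl).1 (inv_mem hβ)).map
  have key : ∀ x : P, g (α x) = totA β⁻¹ s * g x * (totA β⁻¹ s)⁻¹ := by
    intro x
    have e1 := h2 x
    rw [h3 x x.2, h3 _ (α x).2] at e1
    have e2 := congrArg (totA β⁻¹) e1
    rw [totA_inv_self (hg.mem (α x).2)] at e2
    rw [e2, hβ'.conj hs (totA_mem (hg.mem x.2)), totA_inv_self (hg.mem x.2)]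
  have hm : Map (Gen F p ℋ) P (finv P g ∘ (fun y => totA β⁻¹ s * y * (totA β⁻¹ s)⁻¹) ∘ g) := by
    refine hg.iso.symm.map.comp ((map_conj _ hg.im_le ht).comp hg fun x hx => hg.apply_mem_im hx) fun x hx => ?_
    show totA β⁻¹ s * g x * (totA β⁻¹ s)⁻¹ ∈ _
    rw [← key ⟨x, hx⟩]
    exact hg.apply_mem_im (α ⟨x, hx⟩).2
  refine mem_autGroup_of hm fun x => ?_
  show _ = finv P g (totA β⁻¹ s * g x * (totA β⁻¹ s)⁻¹)
  rw [← key x, hg.iso.finv_left (α x).2]

theorem cen_auto {a b : Ω → Ω} (ha : Iso F S S a) (hP : P ≤ S) (h : centralizerIn S P ≤ P) :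
    centralizerIn S (im P a) ≤ im P a := by
  intro y hy
  have hb := ha.symm
  have hPa := ha.restrict hP
  have h1 : finv S a y ∈ centralizerIn S P := by
    refine mem_cen.2 ⟨ha.finv_mem hy.1, fun x hx => ?_⟩
    have h2 := cen_comm hy (hPa.map.apply_mem_im hx)
    have h3 : a x * a (finv S a y) = a (finv S a y) * a x := by rw [ha.finv_right hy.1]; exact h2
    rw [← ha.map.mul (hP hx) (ha.finv_mem hy.1), ← ha.map.mul (ha.finv_mem hy.1) (hP hx)] at h3
    exact ha.map.inj (S.mul_mem (hP hx) (ha.finv_mem hy.1)) (S.mul_mem (ha.finv_mem hy.1) (hP hx)) h3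
  have h2 := hPa.map.apply_mem_im (h h1)
  rwa [ha.finv_right hy.1] at h2

theorem cen_of_gen (hS : IsPGroup p S) (hF : F.IsSaturated p) (hFam : Fam F p ℋ) (h : (Gen F p ℋ).IsCentric P) :
    F.IsCentric P := by
  refine ⟨h.1, fun Q hQ => ?_⟩
  obtain ⟨f, hf⟩ := isConj_iff.1 hQ
  obtain ⟨α, hα, g, hg, h1, h2⟩ := split_iso hS hF hFam hf
  have h3 := h.2 _ hg.iso.isConj
  have hα' := (mem_autGroup_iff le_rfl).1 hα
  have h4 := cen_auto (b := id) hα' hg.im_le h3
  have e : im (im P g) (totA α) = Q := by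
    rw [← hf.im_eq, ← im_comp (univ_of hg) (univ_of (hα'.map.mono hg.im_le))]
    exact im_congr fun x hx => (h1 x hx).symm
  rwa [e] at h4

theorem fn_auto {a : Ω → Ω} (ha : Iso F S S a) (hP : F.IsFullyNormalized P) : F.IsFullyNormalized (im P a) := by
  have hPS := hP.1
  have hPa := ha.restrict hPS
  refine ⟨hPa.map.im_le, fun Q hQ => ?_⟩
  refine (hP.2 Q (isConj_trans hPa.isConj hQ)).trans ?_
  have h1 : Map F (normalizerIn S P) a := ha.map.mono nrm_le
  have hfin : Finite (normalizerIn S (im P a)) := fin_nrm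
  exact card_le_of_map h1 fun x hx => h1.nrm_mem (le_nrm hPS) hx hx

/-- the class of a map is well defined -/
theorem theta {H : Subgroup (MulAut S)} (hH : ∀ α ∈ F.autGroup S, ∀ P ∈ ℋ, Map (Gen F p ℋ) P (totA α) → α ∈ H)
    (hFam : Fam F p ℋ) (hP : P ∈ ℋ) {α β : MulAut S} (hα : α ∈ F.autGroup S) (hβ : β ∈ F.autGroup S) {f g : Ω → Ω}
    (hf : Map (Gen F p ℋ) P f) (hg : Map (Gen F p ℋ) P g) (h : ∀ x ∈ P, totA α (f x) = totA β (g x)) (hαH : α ∈ H) :
    β ∈ H := by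
  have h1 : α⁻¹ * β ∈ H := by
    refine hH _ (mul_mem (inv_mem hα) hβ) (im P g) (hFam.conj P hP _ ((gen_sub hg).iso.isConj)) ?_
    refine (hf.comp hg.iso.symm.map fun x hx => hg.iso.finv_mem hx).congr fun y hy => ?_
    obtain ⟨x, hx, rfl⟩ := hg.mem_im.1 hy
    show f (finv P g (g x)) = _
    rw [hg.iso.finv_left hx, totA_mul (hg.mem hx), ← h x hx, totA_inv_self (hf.mem hx)]
  have := H.mul_mem hαH h1
  rwa [mul_inv_cancel_left] at this

/-- the subsystems `H · Gen` -/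
def EH (F : FusionSystem S) (p : ℕ) (ℋ : Set (Subgroup Ω)) (hFam : Fam F p ℋ) (H : Subgroup (MulAut S))
    (hH : H ≤ F.autGroup S) : FusionSystem S :=
  extFS (Gen F p ℋ) H fun α hα => gen_pr_aut' hFam α (hH hα)

theorem map_EH {hFam : Fam F p ℋ} {H : Subgroup (MulAut S)} {hH : H ≤ F.autGroup S} :
    Map (EH F p ℋ hFam H hH) P f ↔ ∃ α ∈ H, ∃ g, Map (Gen F p ℋ) P g ∧ ∀ x ∈ P, f x = totA α (g x) := map_extFS

theorem gen_EH {hFam : Fam F p ℋ} {H : Subgroup (MulAut S)} {hH : H ≤ F.autGroup S} (h : Map (Gen F p ℋ) P f) :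
    Map (EH F p ℋ hFam H hH) P f := le_extFS h

theorem EH_sub {hFam : Fam F p ℋ} {H : Subgroup (MulAut S)} {hH : H ≤ F.autGroup S} (h : Map (EH F p ℋ hFam H hH) P f) :
    Map F P f := by
  obtain ⟨α, hα, g, hg, h1⟩ := map_EH.1 h
  exact Mx.sub ⟨α, hH hα, g, hg, h1⟩

theorem opp_EH (hS : IsPGroup p S) (hF : F.IsSaturated p) {hFam : Fam F p ℋ} {H : Subgroup (MulAut S)} {hH : H ≤ F.autGroup S}
    (hP : P ≤ S) : Opp F p P ≤ (EH F p ℋ hFam H hH).autGroup P := by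
  intro α hα
  have h1 := (mem_autGroup_iff hP).1 (opp_all hS hF hFam hP hα)
  exact mem_autGroup_of (gen_EH h1.map) fun x => (totA_apply α x).symm

theorem EH_top {hFam : Fam F p ℋ} {H : Subgroup (MulAut S)} {hH : H ≤ F.autGroup S}
    (hH' : ∀ α ∈ F.autGroup S, ∀ P ∈ ℋ, Map (Gen F p ℋ) P (totA α) → α ∈ H) : (EH F p ℋ hFam H hH).autGroup S = H := by
  apply le_antisymm
  · intro α hα
    have h1 := ((mem_autGroup_iff le_rfl).1 hα).map
    obtain ⟨β, hβ, g, hg, h2⟩ := map_EH.1 h1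
    have hαF : α ∈ F.autGroup S := mem_autGroup_of (EH_sub h1) fun x => (totA_apply α x).symm
    exact theta hH' hFam hFam.top (hH hβ) hαF hg (map_id _ le_rfl) (fun x hx => (h2 x hx).symm) hβ
  · intro α hα
    exact mem_autGroup_of (ext_aut hα le_rfl) fun x => (totA_apply α x).symm

theorem EH_saturated (hS : IsPGroup p S) (hF : F.IsSaturated p) {hFam : Fam F p ℋ} {H : Subgroup (MulAut S)}
    {hH : H ≤ F.autGroup S} (hH' : ∀ α ∈ F.autGroup S, ∀ P ∈ ℋ, Map (Gen F p ℋ) P (totA α) → α ∈ H) :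
    (EH F p ℋ hFam H hH).IsSaturated p := by
  set E := EH F p ℋ hFam H hH with hE
  have hsub : ∀ {P f}, Map E P f → Map F P f := fun h => EH_sub h
  have hiso : ∀ {P Q f}, Iso E P Q f → Iso F P Q f := fun h => (hsub h.map).iso_of_im_eq h.im_eq
  refine saturated_of hS ℋ ?_ ?_ ?_ ?_
  · intro P hP Q hQ
    obtain ⟨f, hf⟩ := isConj_iff.1 hQ
    exact hFam.conj P hP Q (hiso hf).isConj
  · intro P hP
    have hPS := hFam.le hP
    obtain ⟨Q, hPQ, hQ⟩ := exists_fullyNormalized F hPS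
    obtain ⟨f, hf⟩ := isConj_iff.1 hPQ
    obtain ⟨α, hα, g, hg, h1, h2⟩ := split_iso hS hF hFam hf
    have hfn : F.IsFullyNormalized (im P g) := by
      have h3 := fn_auto ((mem_autGroup_iff le_rfl).1 (inv_mem hα)) hQ
      rwa [h2.im_eq] at h3
    have hgE : Iso E P (im P g) g := (gen_EH hg).iso
    have hQ'ℋ : im P g ∈ ℋ := hFam.conj P hP _ (hiso hgE).isConj
    refine ⟨im P g, hgE.isConj, ?_, ?_⟩
    · rw [isFullyAutomized_iff]
      refine ⟨hg.im_le, ?_⟩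
      have hfin : Finite (F.autGroup (im P g)) := finite_autGroup hg.im_le
      refine (isFullyAutomized_iff.1 (fn_automized hS hF hfn)).2.mono (autInducedBy_le_autGroup E hg.im_le) ?_
      exact autGroup_mono_of_sub (fun P f h => hsub h) le_rfl hg.im_le
    · rw [isReceptive_iff]
      refine ⟨hg.im_le, fun P₁ h hh => ?_⟩
      obtain ⟨χ, hχ, h3⟩ := receptive_ext (fn_receptive hS hF hfn) (hiso hh)
      have hP₁ : P₁ ∈ ℋ := hFam.conj _ hQ'ℋ _ (isConj_symm (hiso hh).isConj)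
      obtain ⟨β, hβ, k, hk, h4⟩ := frat_gen hS hF hFam _ _ hχ
      obtain ⟨γ, hγ, l, hl, h5⟩ := map_EH.1 hh.map
      refine ⟨χ, map_EH.2 ⟨β, ?_, k, hk, h4⟩, h3⟩
      have hPe : P₁ ≤ ext S P₁ h := hh.map.le_ext
      refine theta hH' hFam hP₁ (hH hγ) hβ hl (hk.mono hPe) (fun x hx => ?_) hγ
      rw [← h5 x hx, ← h4 x (hPe hx), h3 x hx]
  · intro E' hE'
    have h1 : ∀ P f, Map E P f → Map E' P f := by
      intro P f hf
      obtain ⟨α, hα, g, hg, h2⟩ := map_EH.1 hf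
      have h3 : Map E' P g := by
        refine gen_le (fun Q hQ => ?_) hg
        have hQS := hFam.le hQ
        refine (opp_le_gen hQ hQS).trans fun β hβ => ?_
        have h4 := gen_EH (hFam := hFam) (hH := hH) ((mem_autGroup_iff hQS).1 hβ).map
        exact mem_autGroup_of (map_of_le (hE' Q hQ) h4) fun x => (totA_apply β x).symm
      have h5 : Map E' S (totA α) := map_of_le (hE' S hFam.top) (ext_aut hα le_rfl)
      exact (h5.comp h3 fun x hx => h3.mem hx).congr fun x hx => (h2 x hx).symm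
    exact fun P => le_of_map h1 P
  · intro P hP hPℋ
    obtain ⟨Q, hPQ, x, hx, hxQ, α, hα, hαx⟩ := hFam.star P hP hPℋ
    obtain ⟨f, hf⟩ := isConj_iff.1 hPQ
    obtain ⟨β, hβ, g, hg, h1, h2⟩ := split_iso hS hF hFam hf
    have hgE : Iso E P (im P g) g := (gen_EH hg).iso
    have hb := ((mem_autGroup_iff le_rfl).1 (inv_mem hβ)).map
    have hQS := hf.le'
    have hxS := nrm_mem_S hx
    have hcx : ∀ y : im P g, ((MulAut.congr h2.equiv α) y : Ω) = totA β⁻¹ x * y * (totA β⁻¹ x)⁻¹ := by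
      intro y
      obtain ⟨z, rfl⟩ := h2.equiv.surjective y
      have e1 := congr_equiv_apply h2 α z
      rw [show MulAut.congr h2.equiv α (h2.equiv z) = h2.equiv (α z) from e1, Iso.equiv_apply, Iso.equiv_apply, hαx z]
      exact hb.conj hxS (hQS z.2)
    refine ⟨im P g, hgE.isConj, totA β⁻¹ x, ?_, ?_, MulAut.congr h2.equiv α, ?_, hcx⟩
    · have := (hb.mono nrm_le).nrm_mem' h2 (le_nrm hQS) hx hx
      exact this
    · intro h
      rw [← h2.im_eq, h2.map.mem_im] at h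
      obtain ⟨z, hz, hzx⟩ := h
      exact hxQ (by rw [← hb.inj (hQS hz) hxS hzx]; exact hz)
    · have h3 := opA_map h2 hα
      have h4 : MulAut.congr h2.equiv α ∈ E.autGroup (im P g) :=
        autInducedBy_le_autGroup E hg.im_le (mem_autInducedBy.2 ⟨_, totA_mem hxS, hcx⟩)
      have hle : OpA F p (im P g) ⊓ E.autGroup (im P g) ≤ OpA E p (im P g) := by
        refine le_opA inf_le_right (opA_pgroup.to_le inf_le_left) fun γ hγ δ hδ => ⟨?_, ?_⟩
        · exact opA_conj (autGroup_mono_of_sub (fun P f h => hsub h) le_rfl hg.im_le hγ) hδ.1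
        · exact (E.autGroup (im P g)).mul_mem ((E.autGroup (im P g)).mul_mem hγ hδ.2) ((E.autGroup (im P g)).inv_mem hγ)
      exact hle ⟨h3, h4⟩

end

end Cfsg.Agent.H27.Pp
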