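import Mathlib
import Cfsg.Agent.H27_Pp3

/-! Index prime to `p`, part four: the `p'`-residual subsystem. -/

set_option autoImplicit false
set_option linter.all false

namespace Cfsg.Agent.H27.Pp

open Cfsg Cfsg.FusionSystem Cfsg.Agent.H27.Fus Cfsg.Agent.H27.Grp Cfsg.Agent.H27.Ix Cfsg.Agent.H27.Sc

universe u

section
variable {Ω : Type*} [Group Ω] {S T : Subgroup Ω} {P Q R U : Subgroup Ω} {f g : Ω → Ω} {p : ℕ}
variable {F E : FusionSystem S} {ℋ : Set (Subgroup Ω)}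

theorem ppi_iff : E.HasPrimeToPIndexIn F p ↔ (∀ P f, Map E P f → Map F P f) ∧ ∀ P ≤ S, Opp F p P ≤ E.autGroup P := by
  unfold HasPrimeToPIndexIn
  rw [isSubsystemOf_iff]
  simp only [opp_eq]

variable [Fact p.Prime] [Finite S]

theorem s5114 (hS : IsPGroup p S) (hF : F.IsSaturated p) (hEF : ∀ P f, Map E P f → Map F P f)
    (h : ∀ P : Subgroup Ω, F.IsCentric P → Opp F p P ≤ E.autGroup P) :
    E.HasPrimeToPIndexIn F p ∧ (∀ P f, Map F P f → Mx E (F.autGroup S) P f) ∧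
      ∀ P : Subgroup Ω, E.IsCentric P ↔ F.IsCentric P := by
  have hFam : Fam F p {P | F.IsCentric P} := fam_centric
  have hgen : ∀ {P f}, Map (Gen F p {P | F.IsCentric P}) P f → Map E P f := fun hf => gen_le h hf
  refine ⟨ppi_iff.2 ⟨hEF, fun P hP α hα => ?_⟩, fun P f hf => ?_, fun P => ⟨fun hP => ?_, fun hP => centric_of_sub hEF hP⟩⟩
  · have h1 := ((mem_autGroup_iff hP).1 (opp_all hS hF hFam hP hα)).map
    exact mem_autGroup_of (hgen h1) fun x => (totA_apply α x).symm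
  · obtain ⟨α, hα, g, hg, h1⟩ := frat_gen hS hF hFam P f hf
    exact ⟨α, hα, g, hgen hg, h1⟩
  · exact cen_of_gen hS hF hFam (centric_of_sub (fun P f hf => hgen hf) hP)

/-- `Aut⁰` -/
def A0 (F : FusionSystem S) (p : ℕ) (ℋ : Set (Subgroup Ω)) : Subgroup (MulAut S) :=
  Subgroup.closure {α | α ∈ F.autGroup S ∧ ∃ P ∈ ℋ, Map (Gen F p ℋ) P (totA α)}

theorem a0_le : A0 F p ℋ ≤ F.autGroup S := (Subgroup.closure_le _).2 fun α h => h.1

theorem mem_a0 : ∀ α ∈ F.autGroup S, ∀ P ∈ ℋ, Map (Gen F p ℋ) P (totA α) → α ∈ A0 F p ℋ :=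
  fun α hα P hP h => Subgroup.subset_closure ⟨hα, P, hP, h⟩

/-- the `p'`-residual system -/
def Res (F : FusionSystem S) (p : ℕ) [Fact p.Prime] (hFam : Fam F p {P | F.IsCentric P}) : FusionSystem S :=
  EH F p {P | F.IsCentric P} hFam (A0 F p {P | F.IsCentric P}) a0_le

theorem res_min (hS : IsPGroup p S) (hF : F.IsSaturated p) {hFam : Fam F p {P | F.IsCentric P}} {D : FusionSystem S}
    (hD : D.IsSaturated p) (hDF : D.HasPrimeToPIndexIn F p) : ∀ P f, Map (Res F p hFam) P f → Map D P f := by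
  rw [ppi_iff] at hDF
  intro P f hf
  obtain ⟨α, hα, g, hg, h1⟩ := map_EH.1 hf
  have hgen : ∀ {P f}, Map (Gen F p {P | F.IsCentric P}) P f → Map D P f := fun hf =>
    gen_le (fun Q hQ => hDF.2 Q hQ.1) hf
  have h2 : A0 F p {P | F.IsCentric P} ≤ D.autGroup S := by
    rw [A0, Subgroup.closure_le]
    rintro β ⟨hβ, Q, hQ, h2⟩
    have h3 := mem_of_centric hS hD hF hDF.1 _ Q S (totA β) rfl hQ.1 hQ ((mem_autGroup_iff le_rfl).1 hβ).map (hgen h2)
    exact mem_autGroup_of h3 fun x => (totA_apply β x).symm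
  have h3 := ((mem_autGroup_iff le_rfl).1 (h2 hα)).map
  exact (h3.comp (hgen hg) fun x hx => (hgen hg).mem hx).congr fun x hx => (h1 x hx).symm

theorem res_is (hS : IsPGroup p S) (hF : F.IsSaturated p) (hFam : Fam F p {P | F.IsCentric P}) :
    F.IsPPrimeResidual p (Res F p hFam) := by
  refine ⟨EH_saturated hS hF mem_a0, ppi_iff.2 ⟨fun P f hf => EH_sub hf, fun P hP => opp_EH hS hF hP⟩, fun D hD hDF => ?_⟩
  exact isSubsystemOf_iff.2 (res_min hS hF hD hDF)

end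

end Cfsg.Agent.H27.Pp
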