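import Mathlib
import Cfsg.Agent.H27_Pp4
import Cfsg.Agent.H2_PGroup

/-! Index prime to `p`, part five: centric subgroups with noncentric intersection. -/

set_option autoImplicit false
set_option linter.all false

namespace Cfsg.Agent.H27.Pp

open Cfsg Cfsg.FusionSystem Cfsg.Agent.H27.Fus Cfsg.Agent.H27.Grp Cfsg.Agent.H27.Ix Cfsg.Agent.H27.Sc

universe u

section
variable {G : Type*} [Group G] {p : ℕ} [Fact p.Prime]

theorem exists_centralized {N Q X : Subgroup G} [Finite N] (hN : IsPGroup p N) (hQX : Q < X) (hXN : X ≤ N)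
    (hQ : ∀ n ∈ N, ∀ q ∈ Q, n * q * n⁻¹ ∈ Q) (hX : ∀ n ∈ N, ∀ x ∈ X, n * x * n⁻¹ ∈ X) :
    ∃ x ∈ X, x ∉ Q ∧ ∀ y ∈ N, x * y * x⁻¹ * y⁻¹ ∈ Q := by
  have hQn : (Q.subgroupOf N).Normal := ⟨fun q hq n => by
    rw [Subgroup.mem_subgroupOf] at hq ⊢
    exact hQ n n.2 q hq⟩
  have hXn : (X.subgroupOf N).Normal := ⟨fun q hq n => by
    rw [Subgroup.mem_subgroupOf] at hq ⊢
    exact hX n n.2 q hq⟩
  set π := QuotientGroup.mk' (Q.subgroupOf N) with hπ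
  have hM : ((X.subgroupOf N).map π).Normal := hXn.map π (QuotientGroup.mk'_surjective _)
  have hne : (X.subgroupOf N).map π ≠ ⊥ := by
    intro h
    rw [Subgroup.map_eq_bot_iff, hπ, QuotientGroup.ker_mk'] at h
    apply hQX.not_ge
    intro x hx
    exact Subgroup.mem_subgroupOf.1 (h (Subgroup.mem_subgroupOf.2 hx : (⟨x, hXN hx⟩ : N) ∈ _))
  have h1 := H2.PGroup.inf_center_ne_bot (p := p) (hN.to_quotient (Q.subgroupOf N)) (M := (X.subgroupOf N).map π) hne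
  obtain ⟨z, hz1⟩ := Subgroup.ne_bot_iff_exists_ne_one.1 h1
  obtain ⟨⟨x, hx, hxz⟩, hzc⟩ := z.2
  refine ⟨x, Subgroup.mem_subgroupOf.1 hx, fun h => hz1 ?_, fun y hy => ?_⟩
  · apply Subtype.ext
    rw [← hxz]
    exact (QuotientGroup.eq_one_iff x).2 (Subgroup.mem_subgroupOf.2 h)
  · have h2 := Subgroup.mem_center_iff.1 hzc (π ⟨y, hy⟩)
    rw [← hxz, ← map_mul, ← map_mul] at h2
    have h3 : x * ⟨y, hy⟩ * x⁻¹ * (⟨y, hy⟩ : N)⁻¹ ∈ Q.subgroupOf N := by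
      rw [← QuotientGroup.eq_one_iff]
      show π _ = 1
      rw [map_mul π _ (⟨y, hy⟩⁻¹ : N), map_mul π _ x⁻¹, ← h2, map_mul, map_inv, map_inv]
      group
    exact Subgroup.mem_subgroupOf.1 h3

end

section
variable {Ω : Type*} [Group Ω] {S T : Subgroup Ω} {P Q R U : Subgroup Ω} {f g : Ω → Ω} {p : ℕ}
variable {F : FusionSystem S}

/-- automorphisms of `P` trivial on `Q` and on `P/Q` -/
def ChA (F : FusionSystem S) (P Q : Subgroup Ω) : Subgroup (MulAut P) where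
  carrier := {α | α ∈ F.autGroup P ∧ (∀ x : P, (x : Ω) ∈ Q → α x = x) ∧ ∀ x : P, ((α x : P) : Ω) * (x : Ω)⁻¹ ∈ Q}
  one_mem' := ⟨one_mem _, fun x _ => rfl, fun x => by rw [MulAut.one_apply, mul_inv_cancel]; exact Q.one_mem⟩
  mul_mem' := by
    rintro α β ⟨h1, h2, h3⟩ ⟨k1, k2, k3⟩
    refine ⟨mul_mem h1 k1, fun x hx => ?_, fun x => ?_⟩
    · rw [MulAut.mul_apply, k2 x hx, h2 x hx]
    · have e : (((α * β) x : P) : Ω) * (x : Ω)⁻¹ = (α (β x) * (β x : Ω)⁻¹) * ((β x : Ω) * (x : Ω)⁻¹) := by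
        rw [MulAut.mul_apply]; group
      rw [e]; exact Q.mul_mem (h3 _) (k3 x)
  inv_mem' := by
    rintro α ⟨h1, h2, h3⟩
    refine ⟨inv_mem h1, fun x hx => ?_, fun x => ?_⟩
    · have h4 := h2 x hx
      calc α⁻¹ x = α⁻¹ (α x) := by rw [h4]
        _ = x := MulAut.inv_apply_self _ _ _
    · have h4 := Q.inv_mem (h3 (α⁻¹ x))
      rw [MulAut.apply_inv_self] at h4
      simpa using h4

theorem mem_ChA {α : MulAut P} : α ∈ ChA F P Q ↔ α ∈ F.autGroup P ∧ (∀ x : P, (x : Ω) ∈ Q → α x = x) ∧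
    ∀ x : P, ((α x : P) : Ω) * (x : Ω)⁻¹ ∈ Q := Iff.rfl

theorem ChA_pgroup [Fact p.Prime] [Finite S] (hS : IsPGroup p S) (hQS : Q ≤ S) : IsPGroup p (ChA F P Q) := by
  obtain ⟨n, hn⟩ := exists_pow_card (p := p) hS
  rintro ⟨α, h1, h2, h3⟩
  refine ⟨n, Subtype.ext ?_⟩
  ext x
  show (((α ^ (p ^ n)) x : P) : Ω) = x
  have key : ∀ k : ℕ, (((α ^ k) x : P) : Ω) = (((α x : P) : Ω) * (x : Ω)⁻¹) ^ k * x := by
    intro k
    induction k with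
    | zero => simp
    | succ k ih =>
      have e0 : (((α x : P) : Ω) * (x : Ω)⁻¹) ∈ P := P.mul_mem (α x).2 (P.inv_mem x.2)
      set q : P := ⟨((α x : P) : Ω) * (x : Ω)⁻¹, e0⟩ with hq
      have e1 : (α ^ k) x = q ^ k * x := Subtype.ext ih
      have e2 : α q = q := h2 q (h3 x)
      have e3 : α x = q * x := Subtype.ext (by show ((α x : P) : Ω) = _ * _; rw [hq]; simp)
      have e4 : (α ^ (k + 1)) x = q ^ (k + 1) * x := by
        rw [pow_succ', MulAut.mul_apply, e1, map_mul, map_pow, e2, e3, ← mul_assoc, ← pow_succ]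
      rw [e4]; rfl
  rw [key, hn _ (hQS (h3 x)), one_mul]

theorem ChA_conj [Finite S] (hT : F.StronglyClosed T) (hP : P ≤ S) {α β : MulAut P} (hα : α ∈ F.autGroup P)
    (hβ : β ∈ ChA F P (P ⊓ T)) : α * β * α⁻¹ ∈ ChA F P (P ⊓ T) := by
  obtain ⟨h1, h2, h3⟩ := hβ
  have hα' := ((mem_autGroup_iff hP).1 hα).map
  have hαi := ((mem_autGroup_iff hP).1 (inv_mem hα)).map
  have key : ∀ x : P, (x : Ω) ∈ T ↔ ((α x : P) : Ω) ∈ T := fun x => by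
    rw [← totA_apply, StronglyClosed.mem_iff hT hα' x.2]
  have keyi : ∀ x : P, (x : Ω) ∈ T ↔ ((α⁻¹ x : P) : Ω) ∈ T := fun x => by
    rw [← totA_apply, StronglyClosed.mem_iff hT hαi x.2]
  refine ⟨mul_mem (mul_mem hα h1) (inv_mem hα), fun x hx => ?_, fun x => ⟨?_, ?_⟩⟩
  · show α (β (α⁻¹ x)) = x
    rw [h2 _ ⟨(α⁻¹ x).2, (keyi x).1 hx.2⟩, MulAut.apply_inv_self]
  · exact P.mul_mem (Subtype.property _) (P.inv_mem x.2)
  · show (α (β (α⁻¹ x)) : Ω) * (x : Ω)⁻¹ ∈ T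
    have e : (α (β (α⁻¹ x)) : Ω) * (x : Ω)⁻¹ = ((α (β (α⁻¹ x) * (α⁻¹ x)⁻¹) : P) : Ω) := by
      rw [map_mul, map_inv, MulAut.apply_inv_self]; rfl
    rw [e, ← key]
    exact (h3 (α⁻¹ x)).2

theorem cen_norm (hT : F.StronglyClosed T) {n c : Ω} (hn : n ∈ normalizerIn S Q) (hc : c ∈ centralizerIn T Q) :
    n * c * n⁻¹ ∈ centralizerIn T Q := by
  refine mem_cen.2 ⟨StronglyClosed.conj_mem hT (nrm_mem_S hn) hc.1, fun y hy => ?_⟩
  have h1 : n⁻¹ * y * n⁻¹⁻¹ ∈ Q := nrm_conj_mem ((normalizerIn S Q).inv_mem hn) hy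
  have h2 := cen_comm hc h1
  calc y * (n * c * n⁻¹) = n * ((n⁻¹ * y * n⁻¹⁻¹) * c) * n⁻¹ := by group
    _ = n * (c * (n⁻¹ * y * n⁻¹⁻¹)) * n⁻¹ := by rw [h2]
    _ = _ := by group

theorem conj_sup {G : Type*} [Group G] {A B : Subgroup G} {n : G} (hA : ∀ a ∈ A, n * a * n⁻¹ ∈ A)
    (hB : ∀ a ∈ B, n * a * n⁻¹ ∈ B) {x : G} (hx : x ∈ A ⊔ B) : n * x * n⁻¹ ∈ A ⊔ B := by
  have h1 : A ⊔ B ≤ (A ⊔ B).comap (MulAut.conj n).toMonoidHom := by
    refine sup_le (fun q hq => ?_) (fun c hc => ?_)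
    · exact (le_sup_left : A ≤ A ⊔ B) (hA q hq)
    · exact (le_sup_right : B ≤ A ⊔ B) (hB c hc)
  exact h1 hx

variable [Fact p.Prime] [Finite S]

theorem exists_c (hS : IsPGroup p S) (hT : F.StronglyClosed T) (hQS : Q ≤ S) (hQT : Q ≤ T)
    (hne : ¬ centralizerIn T Q ≤ Q) : ∃ c ∈ centralizerIn T Q, c ∉ Q ∧ ∀ y ∈ normalizerIn S Q, c * y * c⁻¹ * y⁻¹ ∈ Q := by
  have hTS := hT.1
  have hnc : ∀ n ∈ normalizerIn S Q, ∀ c ∈ centralizerIn T Q, n * c * n⁻¹ ∈ centralizerIn T Q :=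
    fun n hn c hc => cen_norm hT hn hc
  have hQn : Q ≤ normalizerIn S Q := le_nrm hQS
  have hCn : centralizerIn T Q ≤ normalizerIn S Q := fun c hc => cen_le_nrm ⟨hTS hc.1, hc.2⟩
  have hfinN : Finite (normalizerIn S Q) := fin_nrm
  have hle : Q < Q ⊔ centralizerIn T Q :=
    lt_of_le_of_ne le_sup_left fun h => hne (le_of_le_of_eq le_sup_right h.symm)
  have h3 := exists_centralized (p := p) (hS.to_le nrm_le) hle (sup_le hQn hCn)
    (fun n hn q hq => nrm_conj_mem hn hq)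
    (fun n hn x hx => conj_sup (fun q hq => nrm_conj_mem hn hq) (fun c hc => hnc n hn c hc) hx)
  obtain ⟨x, hx, hxQ, hx2⟩ := h3
  obtain ⟨q, hq, c, hc, rfl⟩ := mem_sup_nrm (H := Q) (N := centralizerIn T Q) (fun q hq =>
    (Subgroup.mem_normalizer_iff.2 fun c => ⟨fun h => hnc q (hQn hq) c h, fun h => by
      have := hnc q⁻¹ (hQn (Q.inv_mem hq)) _ h
      rwa [show q⁻¹ * (q * c * q⁻¹) * q⁻¹⁻¹ = c by group] at this⟩)) hx
  refine ⟨c, hc, fun h => hxQ (Q.mul_mem hq h), fun y hy => ?_⟩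
  have h1 := hx2 _ hy
  have h2 := nrm_conj_mem hy hq
  have e : c * y * c⁻¹ * y⁻¹ = q⁻¹ * (q * c * y * (q * c)⁻¹ * y⁻¹) * (y * q * y⁻¹) := by group
  rw [e]
  exact Q.mul_mem (Q.mul_mem (Q.inv_mem hq) h1) h2

theorem star_of_noncentric (hS : IsPGroup p S) (hF : F.IsSaturated p) {E : FusionSystem T} (hT : F.StronglyClosed T)
    (hEF : ∀ P f, Map E P f → Map F P f) (hPS : P ≤ S) (hPT : ¬ E.IsCentric (P ⊓ T)) :
    ∃ Q, F.IsConj P Q ∧ ∃ x ∈ normalizerIn S Q, x ∉ Q ∧ ∃ α ∈ OpA F p Q, ∀ y : Q, (α y : Ω) = x * y * x⁻¹ := by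
  have hTS := hT.1
  obtain ⟨Q', hQ₀Q', hQ'⟩ := exists_fullyNormalized F (inf_le_left.trans hPS : P ⊓ T ≤ S)
  obtain ⟨f, hf, hfi, hfn⟩ := fn_nrm_map hS hF hQ' hQ₀Q'
  have hfinP : Finite P := finite_of_le hPS
  have hPN : P ≤ normalizerIn S (P ⊓ T) := by
    intro x hx
    refine mem_nrm_of_forall (inf_le_left.trans hPS) (hPS hx) fun y hy => ⟨?_, StronglyClosed.conj_mem hT (hPS hx) hy.2⟩
    exact P.mul_mem (P.mul_mem hx hy.1) (P.inv_mem hx)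
  have hfP := hf.mono hPN
  have hQ'T : Q' ≤ T := by
    intro y hy
    rw [← hfi.im_eq, hfi.map.mem_im] at hy
    obtain ⟨x, hx, rfl⟩ := hy
    exact (StronglyClosed.mem_iff hT hfi.map hx).2 hx.2
  have hQ'P : Q' ≤ im P f := by
    rw [← hfi.im_eq]; exact hfP.im_mono inf_le_left
  have hPT' : im P f ⊓ T ≤ Q' := by
    rintro y ⟨hy, hyT⟩
    obtain ⟨x, hx, rfl⟩ := hfP.mem_im.1 hy
    rw [← hfi.im_eq]
    exact hfi.map.apply_mem_im ⟨hx, (StronglyClosed.mem_iff hT hfP hx).1 hyT⟩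
  have hQ'S := hQ'.1
  have hne : ¬ centralizerIn T Q' ≤ Q' := by
    intro hc
    refine hPT ⟨inf_le_right, fun R hR => ?_⟩
    obtain ⟨k, hk⟩ := isConj_iff.1 hR
    have hRT := hk.le'
    have hkF : Iso F (P ⊓ T) R k := (hEF _ _ hk.map).iso_of_im_eq hk.im_eq
    obtain ⟨h, hh⟩ := isConj_iff.1 (isConj_trans (isConj_symm hkF.isConj) hQ₀Q')
    obtain ⟨g, hg, hgR⟩ := receptive_ext (fn_receptive hS hF hQ') hh
    intro x hx
    have hxS : x ∈ centralizerIn S R := ⟨hTS hx.1, hx.2⟩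
    have hxe : x ∈ ext S R h := cen_le_ext hxS
    have hRe : R ≤ ext S R h := hh.map.le_ext
    have hgi : Iso F R Q' g := (hh.congr fun x hx => (hgR x hx).symm)
    have h1 : g x ∈ centralizerIn S Q' := hg.cen_mem' hgi hRe hxe hxS
    have h2 : g x ∈ Q' := hc ⟨(StronglyClosed.mem_iff hT hg hxe).2 hx.1, h1.2⟩
    rw [← hgi.im_eq, hgi.map.mem_im] at h2
    obtain ⟨z, hz, hzx⟩ := h2
    rw [← hg.inj (hRe hz) hxe hzx]; exact hz
  obtain ⟨c, hc, hcQ, hc2'⟩ := exists_c hS hT hQ'S hQ'T hne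
  have hc2 : ∀ y ∈ im P f, c * y * c⁻¹ * y⁻¹ ∈ Q' := by
    intro y hy
    obtain ⟨z, hz, rfl⟩ := hfP.mem_im.1 hy
    exact hc2' _ (hfn z (hPN hz))
  have hPim := hfP.im_le
  have hcS : c ∈ S := hTS hc.1
  have hfin3 : Finite ↥(im P f) := finite_of_le hPim
  have hcN : c ∈ normalizerIn S (im P f) := by
    refine mem_nrm_of_forall hPim hcS fun y hy => ?_
    have h1 := (im P f).mul_mem (hQ'P (hc2 y hy)) hy
    rwa [inv_mul_cancel_right] at h1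
  refine ⟨im P f, hfP.iso.isConj, c, hcN, fun h => hcQ (hPT' ⟨h, hc.1⟩), cjA (im P f) c hcN.2, ?_, fun y => rfl⟩
  refine le_opA (X := ChA F (im P f) (im P f ⊓ T)) (fun α h => h.1) (ChA_pgroup hS (inf_le_left.trans hPim))
    (fun α hα β hβ => ChA_conj hT hPim hα hβ) ?_
  refine ⟨autInducedBy_le_autGroup F hPim (cjA_mem hcN.2 hcS), fun y hy => Subtype.ext ?_, fun y => ⟨?_, ?_⟩⟩
  · exact cen_conj hc (hPT' hy)
  · exact hQ'P (hc2 y y.2)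
  · exact hQ'T (hc2 y y.2)

end

end Cfsg.Agent.H27.Pp
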