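import Mathlib
import Cfsg.Agent.H27_Pp5

/-! Index prime to `p`, part six: the climbing lemma. -/

set_option autoImplicit false
set_option linter.all false

namespace Cfsg.Agent.H27.Pp

open Cfsg Cfsg.FusionSystem Cfsg.Agent.H27.Fus Cfsg.Agent.H27.Grp Cfsg.Agent.H27.Ix Cfsg.Agent.H27.Sc

universe u

section
variable {Ω : Type*} [Group Ω] {S T : Subgroup Ω} {P Q R U : Subgroup Ω} {f g : Ω → Ω} {p : ℕ}

/-- the situation of the climbing lemma -/
structure Climb (X : FusionSystem T) (C : Set (Subgroup Ω)) (A : Subgroup (MulAut T)) : Prop where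
  cen : ∀ P ∈ C, centralizerIn T P ≤ P
  le : ∀ P ∈ C, P ≤ T
  up : ∀ P ∈ C, ∀ Q, P ≤ Q → Q ≤ T → Q ∈ C
  conj : ∀ P ∈ C, ∀ f, Map X P f → im P f ∈ C
  pr : ∀ α ∈ A, Pr (totA α) X
  step : ∀ P ∈ C, P ≠ T → ∃ φ, Map X P φ ∧ ∀ α ∈ A, Map X (im P φ) (totA α) →
    ∃ Φ, Map X (normalizerIn T (im P φ)) Φ ∧ ∀ x ∈ im P φ, Φ x = totA α x

variable {X : FusionSystem T} {C : Set (Subgroup Ω)} {A : Subgroup (MulAut T)}

/-- automorphisms in `X` form a group -/
theorem pow_in (hpr : ∀ α ∈ A, Pr (totA α) X) {α : MulAut T} (hα : α ∈ A) (hPT : P ≤ T) (h : Map X P (totA α)) :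
    ∀ j : ℕ, Map X P (totA (α ^ j)) := by
  intro j
  induction j with
  | zero =>
    refine (map_id X hPT).congr fun x hx => ?_
    rw [pow_zero, totA_one (hPT hx)]; rfl
  | succ j ih =>
    obtain ⟨g, hg, h1⟩ := hpr _ (A.pow_mem hα j) P _ h
    refine (hg.comp ih fun x hx => ?_).congr fun x hx => ?_
    · exact ((univ_aut (α ^ j) (le_refl T)).map.mono hPT).apply_mem_im hx
    · show g (totA (α ^ j) x) = _
      rw [h1 x hx, pow_succ, totA_mul (hPT hx)]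

theorem top_mem_of {α : MulAut T} (h : Map X T (totA α)) : α ∈ X.autGroup T :=
  mem_autGroup_of h fun x => (totA_apply α x).symm

theorem climb [Fact p.Prime] [Finite T] (hT : IsPGroup p T) (h : Climb X C A) :
    ∀ (n : ℕ) (P : Subgroup Ω), Nat.card T - Nat.card P = n → P ∈ C → ∀ α ∈ A,
      (∃ m : ℕ, m.Coprime p ∧ α ^ m ∈ Inn T) → Map X P (totA α) → Map X T (totA α) := by
  intro n
  induction n using Nat.strong_induction_on with
  | _ n ih =>
    intro P hn hP α hα hm hPα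
    by_cases hPT : P = T
    · exact hPα.mono hPT.ge
    have hPT' := h.le P hP
    obtain ⟨φ, hφ, hstep⟩ := h.step P hP hPT
    set P₁ := im P φ with hP₁
    have hP₁C : P₁ ∈ C := h.conj P hP φ hφ
    have hP₁T := h.le P₁ hP₁C
    have hcard : Nat.card P₁ = Nat.card P := hφ.card_im
    have hU := (univ_aut α (le_refl T)).map
    -- `α` restricted to `P₁`
    have h1 : Map X P₁ (totA α) := by
      obtain ⟨g, hg, h2⟩ := h.pr α hα P φ hφ
      refine ((hg.comp hPα fun x hx => (hU.mono hPT').apply_mem_im hx).comp hφ.iso.symm.map fun x hx => hφ.iso.finv_mem hx).congr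
        fun y hy => ?_
      obtain ⟨x, hx, rfl⟩ := hφ.mem_im.1 hy
      show g (totA α (finv P φ (φ x))) = _
      rw [hφ.iso.finv_left hx, h2 x hx]
    obtain ⟨Φ, hΦ, hΦα⟩ := hstep α hα h1
    set N := normalizerIn T P₁ with hN
    have hNT : N ≤ T := nrm_le
    have hP₁N : P₁ ≤ N := le_nrm hP₁T
    have hNC : N ∈ C := h.up P₁ hP₁C N hP₁N hNT
    have hUi := (univ_aut α⁻¹ (le_refl T)).map
    -- `γ = α⁻¹ Φ`
    have hγP : ∀ x ∈ P₁, totA α⁻¹ (Φ x) = x := fun x hx => by rw [hΦα x hx, totA_inv_self (hP₁T hx)]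
    have hγmul : ∀ x ∈ N, ∀ y ∈ N, totA α⁻¹ (Φ (x * y)) = totA α⁻¹ (Φ x) * totA α⁻¹ (Φ y) := fun x hx y hy => by
      rw [hΦ.mul hx hy, hUi.mul (hΦ.mem hx) (hΦ.mem hy)]
    have hz : ∀ x ∈ N, x⁻¹ * totA α⁻¹ (Φ x) ∈ P₁ := by
      intro x hx
      have hγx : totA α⁻¹ (Φ x) ∈ T := totA_mem (hΦ.mem hx)
      refine h.cen P₁ hP₁C (mem_cen.2 ⟨T.mul_mem (T.inv_mem (hNT hx)) hγx, fun y hy => ?_⟩)
      have h2 : x * y * x⁻¹ ∈ P₁ := nrm_conj_mem hx hy
      have h3 := hγP _ h2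
      have h4 : Map (univFS T) N (totA α⁻¹ ∘ Φ) := hUi.comp (univ_of hΦ) fun x hx => hΦ.mem hx
      have h5 : (totA α⁻¹ ∘ Φ) (x * y * x⁻¹) = (totA α⁻¹ ∘ Φ) x * (totA α⁻¹ ∘ Φ) y * ((totA α⁻¹ ∘ Φ) x)⁻¹ := h4.conj hx (hP₁N hy)
      have h6 : x * y * x⁻¹ = totA α⁻¹ (Φ x) * y * (totA α⁻¹ (Φ x))⁻¹ := by
        rw [← h3]
        refine h5.trans ?_
        show totA α⁻¹ (Φ x) * totA α⁻¹ (Φ y) * (totA α⁻¹ (Φ x))⁻¹ = _
        rw [hγP y hy]
      calc y * (x⁻¹ * totA α⁻¹ (Φ x)) = x⁻¹ * (x * y * x⁻¹) * totA α⁻¹ (Φ x) := by group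
        _ = x⁻¹ * (totA α⁻¹ (Φ x) * y * (totA α⁻¹ (Φ x))⁻¹) * totA α⁻¹ (Φ x) := by rw [← h6]
        _ = x⁻¹ * totA α⁻¹ (Φ x) * y := by group
    have hΦ' : ∀ x ∈ N, Φ x = totA α (x * (x⁻¹ * totA α⁻¹ (Φ x))) := fun x hx => by
      rw [mul_inv_cancel_left, totA_self_inv (hΦ.mem hx)]
    have hzz : ∀ x ∈ N, ∀ j : ℕ, x * (x⁻¹ * totA α⁻¹ (Φ x)) ^ j ∈ N := fun x hx j => N.mul_mem hx (N.pow_mem (hP₁N (hz x hx)) j)
    have key : ∀ j : ℕ, Map X N (fun x => totA (α ^ j) (x * (x⁻¹ * totA α⁻¹ (Φ x)) ^ j)) := by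
      intro j
      induction j with
      | zero =>
        refine (map_id X hNT).congr fun x hx => ?_
        rw [pow_zero, pow_zero, mul_one, totA_one (hNT hx)]; rfl
      | succ j ihj =>
        obtain ⟨g, hg, h2⟩ := h.pr _ (A.pow_mem hα j) N Φ hΦ
        have hUj := (univ_aut (α ^ j) (le_refl T)).map
        refine (hg.comp ihj fun x hx => (hUj.mono hNT).apply_mem_im (hzz x hx j)).congr fun x hx => ?_
        show g (totA (α ^ j) (x * (x⁻¹ * totA α⁻¹ (Φ x)) ^ j)) = _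
        rw [h2 _ (hzz x hx j)]
        have hzx := hz x hx
        set z := x⁻¹ * totA α⁻¹ (Φ x) with hzdef
        have h3 : Φ (x * z ^ j) = totA α (x * z ^ (j + 1)) := by
          rw [hΦ' _ (hzz x hx j), hγmul x hx _ (hP₁N (P₁.pow_mem hzx j)), hγP _ (P₁.pow_mem hzx j)]
          congr 1
          have e : totA α⁻¹ (Φ x) = x * z := by rw [hzdef]; group
          rw [e, pow_succ']; group
        have h4 : x * z ^ (j + 1) ∈ T := hNT (hzz x hx (j + 1))
        rw [h3, pow_succ α j, totA_mul h4]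
    obtain ⟨k, hk⟩ := exists_pow_card (p := p) hT
    have h5 : Map X N (totA (α ^ (p ^ k))) := by
      refine (key (p ^ k)).congr fun x hx => ?_
      show totA (α ^ p ^ k) (x * (x⁻¹ * totA α⁻¹ (Φ x)) ^ p ^ k) = _
      rw [hk _ (hP₁T (hz x hx)), mul_one]
    have hlt : Nat.card P < Nat.card N := by
      rw [← hcard]
      have hne : P₁ ≠ T := fun hh => hPT (eq_of_le_of_card_le hPT' (by rw [← hcard, hh]))
      obtain ⟨x, hx, hxR, hxn⟩ := exists_mem_normalizer_of_lt hT (lt_of_le_of_ne hP₁T hne)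
      have hfinN : Finite N := finite_of_le hNT
      exact card_lt_of_lt (lt_of_le_of_ne hP₁N fun hh => hxR (by rw [hh]; exact ⟨hx, hxn⟩))
    obtain ⟨m, hm1, hm2⟩ := hm
    have h6 : Map X T (totA (α ^ (p ^ k))) := by
      refine ih (Nat.card T - Nat.card N) ?_ N rfl hNC _ (A.pow_mem hα _) ⟨m, hm1, ?_⟩ h5
      · have := card_le_of_le hNT
        omega
      · rw [← pow_mul, mul_comm, pow_mul]
        exact (Inn T).pow_mem hm2 _
    have h7 : α ^ (p ^ k) ∈ X.autGroup T := top_mem_of h6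
    have h8 : α ^ m ∈ X.autGroup T :=
      (inn_le_autInducedBy (le_refl T)).trans (autInducedBy_le_autGroup X le_rfl) hm2
    have h9 : α ∈ X.autGroup T := by
      have hcop : Nat.Coprime (p ^ k) m := Nat.Coprime.pow_left k hm1.symm
      have hb := Nat.gcd_eq_gcd_ab (p ^ k) m
      rw [hcop.gcd_eq_one] at hb
      have e : α = (α ^ (p ^ k)) ^ (Nat.gcdA (p ^ k) m) * (α ^ m) ^ (Nat.gcdB (p ^ k) m) := by
        conv_lhs => rw [← zpow_one α]
        rw [← zpow_natCast, ← zpow_natCast, ← zpow_mul, ← zpow_mul, ← zpow_add, ← hb]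
        simp
      rw [e]
      exact (X.autGroup T).mul_mem ((X.autGroup T).zpow_mem h7 _) ((X.autGroup T).zpow_mem h8 _)
    exact ((mem_autGroup_iff le_rfl).1 h9).map

end

end Cfsg.Agent.H27.Pp
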