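import Mathlib
import Cfsg.Agent.H27_Pp6
import Cfsg.Agent.H27_Aut2

/-! Index prime to `p`, part seven: applications of the climbing lemma. -/

set_option autoImplicit false
set_option linter.all false

namespace Cfsg.Agent.H27.Pp

open Cfsg Cfsg.FusionSystem Cfsg.Agent.H27.Fus Cfsg.Agent.H27.Grp Cfsg.Agent.H27.Ix Cfsg.Agent.H27.Sc

universe u

section
variable {Ω : Type*} [Group Ω] {S T : Subgroup Ω} {P Q R U : Subgroup Ω} {f g : Ω → Ω} {p : ℕ}
variable {F : FusionSystem S} {E D : FusionSystem T}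

def FC (F : FusionSystem S) (T : Subgroup Ω) : Set (Subgroup Ω) :=
  {P | P ≤ T ∧ ∀ R, F.IsConj P R → centralizerIn T R ≤ R}

theorem fc_conj (hT : F.StronglyClosed T) (hP : P ∈ FC F T) (h : F.IsConj P Q) : Q ∈ FC F T := by
  refine ⟨?_, fun R hR => hP.2 R (isConj_trans h hR)⟩
  obtain ⟨f, hf⟩ := isConj_iff.1 h
  intro y hy
  rw [← hf.im_eq, hf.map.mem_im] at hy
  obtain ⟨x, hx, rfl⟩ := hy
  exact (stronglyClosed_iff.1 hT).2 _ _ hf.map x hx (hP.1 hx)

theorem fc_up (hP : P ∈ FC F T) (h : P ≤ Q) (hQ : Q ≤ T) : Q ∈ FC F T := by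
  refine ⟨hQ, fun R hR => ?_⟩
  obtain ⟨f, hf⟩ := isConj_iff.1 hR
  have h1 := hP.2 _ (hf.map.mono h).iso.isConj
  have h2 : im P f ≤ R := by rw [← hf.im_eq]; exact hf.map.im_mono h
  refine fun x hx => h2 (h1 ⟨hx.1, ?_⟩)
  exact Subgroup.mem_centralizer_iff.2 fun y hy => Subgroup.mem_centralizer_iff.1 hx.2 y (h2 hy)

theorem fc_cen [Finite S] (hTS : T ≤ S) (hP : P ∈ FC F T) : centralizerIn T P ≤ P :=
  hP.2 P (isConj_refl F (hP.1.trans hTS))

/-- splitting for invariant subsystems -/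
theorem split_inv (hI : Inv E F) (hPT : P ≤ T) (hf : Iso F P Q f) :
    ∃ a g, Iso F T T a ∧ Map E P g ∧ (∀ x ∈ P, f x = a (g x)) ∧ im (im P g) a = Q ∧ im P g ≤ T := by
  obtain ⟨a, g, ha, hg, h1⟩ := hI.frat P f hPT hf.map
  have hTS := hI.strong.1
  refine ⟨a, g, ha, hg, h1, ?_, hg.im_le⟩
  rw [← hf.im_eq, ← im_comp (univ_of (hI.sub _ _ hg)) (univ_of (ha.map.mono hg.im_le))]
  exact im_congr fun x hx => (h1 x hx).symm

theorem univT (ha : Iso F T T f) : Iso (univFS T) T T f :=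
  (map_univ.2 ⟨le_rfl, fun x hx => by rw [← ha.im_eq]; exact ha.map.apply_mem_im hx,
    fun x hx y hy => ha.map.mul hx hy, fun x hx y hy => ha.map.inj hx hy⟩ : Map (univFS T) T f).iso_of_im_eq ha.im_eq

theorem cen_auto' [Finite T] (ha : Iso F T T f) (hP : P ≤ T) (h : centralizerIn T P ≤ P) :
    centralizerIn T (im P f) ≤ im P f :=
  cen_auto (b := id) (univT ha) hP h

theorem fc_iff [Finite T] (hI : Inv E F) : E.IsCentric P ↔ P ∈ FC F T := by
  constructor
  · intro hP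
    refine ⟨hP.1, fun R hR => ?_⟩
    obtain ⟨f, hf⟩ := isConj_iff.1 hR
    obtain ⟨a, g, ha, hg, h1, h2, h3⟩ := split_inv hI hP.1 hf
    rw [← h2]
    exact cen_auto' ha h3 (hP.2 _ hg.iso.isConj)
  · intro hP
    refine ⟨hP.1, fun R hR => hP.2 R ?_⟩
    obtain ⟨f, hf⟩ := isConj_iff.1 hR
    exact ((hI.sub _ _ hf.map).iso_of_im_eq hf.im_eq).isConj

theorem pr_of_inv (hI : Inv E F) : ∀ α ∈ F.autGroup T, Pr (totA α) E := fun α hα =>
  Inv.pr hI ((mem_autGroup_iff hI.strong.1).1 hα)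

variable [Fact p.Prime] [Finite S]

theorem fin_T (hT : F.StronglyClosed T) : Finite T := finite_of_le hT.1

/-- `N_T(P) ≤` the extender of an automorphism of `T` -/
theorem nrm_le_ext {α : MulAut T} (hP : P ≤ T) : normalizerIn T P ≤ ext T P (totA α) := by
  intro t ht
  have hU := (univ_aut α (le_refl T)).map
  refine mem_ext.2 ⟨ht.1, fun y => (mem_nrm.1 ht).2 y, totA α t, totA_mem ht.1, fun y hy => ?_⟩
  exact hU.conj ht.1 (hP hy)

theorem fn_auto' {α : MulAut T} (hD : Pr (totA α) D) [Finite T] (hP : D.IsFullyNormalized P) (h : D.IsConj P (im P (totA α))) :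
    D.IsFullyNormalized (im P (totA α)) := by
  have hU := (univ_aut α (le_refl T)).map
  refine ⟨isConj_le' h, fun R hR => ?_⟩
  refine (hP.2 R (isConj_trans h hR)).trans ?_
  have h1 : Map (univFS T) (normalizerIn T P) (totA α) := hU.mono nrm_le
  have hfin : Finite (normalizerIn T (im P (totA α))) := finite_of_le nrm_le
  exact card_le_of_map h1 fun x hx => h1.nrm_mem (le_nrm hP.1) hx hx

theorem climb_inv (hT : IsPGroup p T) [Finite T] (hI : Inv D F) (hD : D.IsSaturated p) {A : Subgroup (MulAut T)} (hA : A ≤ F.autGroup T) :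
    Climb D (FC F T) A where
  cen P hP := fc_cen hI.strong.1 hP
  le P hP := hP.1
  up P hP Q h hQ := fc_up hP h hQ
  conj P hP f hf := fc_conj hI.strong hP (hI.sub _ _ hf).iso.isConj
  pr α hα := pr_of_inv hI α (hA hα)
  step P hP hPT := by
    obtain ⟨P₁, hPP₁, hP₁⟩ := exists_fullyNormalized D hP.1
    obtain ⟨φ, hφ⟩ := isConj_iff.1 hPP₁
    refine ⟨φ, hφ.map, fun α hα h => ?_⟩
    rw [hφ.im_eq] at h ⊢
    have h1 := h.iso
    have h2 := fn_auto' (pr_of_inv hI α (hA hα)) hP₁ h1.isConj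
    exact receptive_ext' (fn_receptive hT hD h2) h1 (nrm_le_ext hP₁.1)

theorem inn_pow (hT : IsPGroup p T) [Finite T] (hE : E.IsSaturated p) {α : MulAut T} (hα : α ∈ E.autGroup T) :
    ∃ m : ℕ, m.Coprime p ∧ α ^ m ∈ Inn T := by
  have h1 := (isFullyAutomized_iff.1 (fn_automized hT hE (fn_top E))).2
  rw [autInducedBy_self] at h1
  have hn : ((Inn T).subgroupOf (E.autGroup T)).Normal := ⟨fun β hβ γ => by
    rw [Subgroup.mem_subgroupOf] at hβ ⊢
    have h := opA_conj (F := E) (p := p) (P := T) (α := γ) (β := β)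
    obtain ⟨t, ht, h2⟩ := mem_inn.1 hβ
    refine mem_inn.2 ⟨(γ : MulAut T) ⟨t, ht⟩, Subtype.property _, fun x => ?_⟩
    have h3 : (β : MulAut T) ((γ : MulAut T)⁻¹ x) = ⟨t, ht⟩ * (γ : MulAut T)⁻¹ x * ⟨t, ht⟩⁻¹ := Subtype.ext (h2 _)
    show (((γ : MulAut T) ((β : MulAut T) ((γ : MulAut T)⁻¹ x)) : T) : Ω) = _
    rw [h3, map_mul, map_mul, map_inv, MulAut.apply_inv_self]
    rfl⟩
  refine ⟨((Inn T).subgroupOf (E.autGroup T)).index, ?_, ?_⟩
  · exact ((Nat.Prime.coprime_iff_not_dvd Fact.out).2 h1.2.2).symm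
  · have h2 := Subgroup.pow_index_mem ((Inn T).subgroupOf (E.autGroup T)) ⟨α, hα⟩
    exact Subgroup.mem_subgroupOf.1 h2

theorem opp_le_inv (hT : IsPGroup p T) [Finite T] (hI : Inv D F) (hE : E.IsSaturated p) (hEF : ∀ P f, Map E P f → Map F P f) (hP : P ≤ T) :
    Opp E p P ≤ D.autGroup P := by
  have hfin : Finite P := finite_of_le hP
  rw [Opp, Subgroup.closure_le]
  rintro α ⟨hα, k, hk⟩
  obtain ⟨Q, hPQ, hQ⟩ := exists_fullyNormalized E hP
  obtain ⟨f, hf⟩ := isConj_iff.1 hPQ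
  have hX : Subgroup.zpowers α ≤ E.autGroup P := by
    rw [Subgroup.zpowers_le]; exact hα
  have hXp : IsPGroup p (Subgroup.zpowers α) := by
    refine IsPGroup.of_card (n := k) ?_
    rw [Nat.card_zpowers, hk]
  obtain ⟨h, hh, h1⟩ := exists_iso_conj_into (fn_automized hT hE hQ) hf hX hXp
  obtain ⟨s, hs, h2⟩ := h1 α (Subgroup.mem_zpowers α)
  obtain ⟨a, g, ha, hg, h3⟩ := hI.frat P h hP (hEF _ _ hh.map)
  have hai := ha.symm
  have ht : finv T a s ∈ T := ha.finv_mem hs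
  have key : ∀ x : P, g (α x) = finv T a s * g x * (finv T a s)⁻¹ := by
    intro x
    have e1 := h2 x
    rw [h3 x x.2, h3 _ (α x).2] at e1
    have e2 := congrArg (finv T a) e1
    rw [ha.finv_left (hg.mem (α x).2)] at e2
    rw [e2, hai.map.conj hs (iso_mem ha (hg.mem x.2)), ha.finv_left (hg.mem x.2)]
  have hm : Map D P (finv P g ∘ (fun y => finv T a s * y * (finv T a s)⁻¹) ∘ g) := by
    refine hg.iso.symm.map.comp ((map_conj _ hg.im_le ht).comp hg fun x hx => hg.apply_mem_im hx) fun x hx => ?_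
    show finv T a s * g x * (finv T a s)⁻¹ ∈ _
    rw [← key ⟨x, hx⟩]
    exact hg.apply_mem_im (α ⟨x, hx⟩).2
  refine mem_autGroup_of hm fun x => ?_
  show _ = finv P g (finv T a s * g x * (finv T a s)⁻¹)
  rw [← key x, hg.iso.finv_left (α x).2]

theorem s5142 (hS : IsPGroup p S) (hF : F.IsSaturated p) (hE : E.IsSaturated p) (hIE : Inv E F) {D' : FusionSystem T}
    (hD : E.IsPPrimeResidual p D) (hD' : D'.IsSaturated p) (hI : Inv D' F) : ∀ P f, Map D P f → Map D' P f := by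
  have hTS := hI.strong.1
  have hfinT : Finite T := finite_of_le hTS
  have hT : IsPGroup p T := hS.to_le hTS
  have hFam : Fam E p {P | E.IsCentric P} := fam_centric
  have h1 := res_is hT hE hFam
  intro P f hf
  have h2 := isSubsystemOf_iff.1 (hD.2.2 _ h1.1 h1.2.1) P f hf
  obtain ⟨α, hα, g, hg, h3⟩ := map_EH.1 h2
  have hgen : ∀ {P f}, Map (Gen E p {P | E.IsCentric P}) P f → Map D' P f := fun hf =>
    gen_le (fun Q hQ => opp_le_inv hT hI hE hIE.sub hQ.1) hf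
  have h4 : A0 E p {P | E.IsCentric P} ≤ D'.autGroup T := by
    rw [A0, Subgroup.closure_le]
    rintro β ⟨hβ, Q, hQ, h5⟩
    have hβF : β ∈ F.autGroup T := autGroup_mono_of_sub hIE.sub hTS le_rfl hβ
    exact top_mem_of (climb hT (climb_inv hT hI hD' (le_refl (F.autGroup T))) _ Q rfl ((fc_iff hIE).1 hQ) β hβF
      (inn_pow hT hE hβ) (hgen h5))
  have h5 := ((mem_autGroup_iff le_rfl).1 (h4 hα)).map
  exact (h5.comp (hgen hg) fun x hx => (hgen hg).mem hx).congr fun x hx => (h3 x hx).symm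

end

end Cfsg.Agent.H27.Pp
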