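import Mathlib
import Cfsg.Agent.H27_Pp7

/-! Index prime to `p`, part eight: the system of maps extending to `C_S(T)`. -/

set_option autoImplicit false
set_option linter.all false

namespace Cfsg.Agent.H27.Pp

open Cfsg Cfsg.FusionSystem Cfsg.Agent.H27.Fus Cfsg.Agent.H27.Grp Cfsg.Agent.H27.Ix Cfsg.Agent.H27.Sc

universe u

section
variable {Ω : Type*} [Group Ω] {S T : Subgroup Ω} {P Q R U : Subgroup Ω} {f g b : Ω → Ω} {p : ℕ}
variable {F : FusionSystem S} {E D : FusionSystem T}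

/-- `P C_S(T)` -/
abbrev PC (S T P : Subgroup Ω) : Subgroup Ω := P ⊔ centralizerIn S T

theorem cn_comm {c y : Ω} (hc : c ∈ centralizerIn S T) (hy : y ∈ T) : y * c = c * y := cen_comm hc hy

theorem mem_PC (hP : P ≤ T) {x : Ω} : x ∈ PC S T P ↔ ∃ y ∈ P, ∃ c ∈ centralizerIn S T, y * c = x := by
  constructor
  · intro hx
    refine mem_sup_nrm (fun y hy => Subgroup.mem_normalizer_iff.2 fun c => ?_) hx
    have key : ∀ z ∈ T, ∀ c ∈ centralizerIn S T, z * c * z⁻¹ = c := fun z hz c hc => by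
      rw [cn_comm hc hz]; group
    constructor
    · intro hc
      rw [key y (hP hy) c hc]; exact hc
    · intro hc
      have := key y⁻¹ (T.inv_mem (hP hy)) _ hc
      rw [show y⁻¹ * (y * c * y⁻¹) * y⁻¹⁻¹ = c by group] at this
      rw [this]; exact hc
  · rintro ⟨y, hy, c, hc, rfl⟩
    exact (PC S T P).mul_mem (Subgroup.mem_sup_left hy) (Subgroup.mem_sup_right hc)

theorem PC_le (hTS : T ≤ S) (hP : P ≤ T) : PC S T P ≤ S := sup_le (hP.trans hTS) cen_le

/-- the commutator with `C_S(T)` lies in the image of `P` -/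
theorem cu_mem (hT : F.StronglyClosed T) [Finite S] (hP : P ∈ FC F T) (hb : Map F (PC S T P) b)
    {c : Ω} (hc : c ∈ centralizerIn S T) (h : c⁻¹ * b c ∈ T) : c⁻¹ * b c ∈ im P b := by
  have hb' := hb.mono (le_sup_left : P ≤ _)
  have hi : im P b ∈ FC F T := fc_conj hT hP hb'.iso.isConj
  refine fc_cen hT.1 hi (mem_cen.2 ⟨h, fun y hy => ?_⟩)
  obtain ⟨x, hx, rfl⟩ := hb'.mem_im.1 hy
  have hcU : c ∈ PC S T P := Subgroup.mem_sup_right hc
  have hxU : x ∈ PC S T P := Subgroup.mem_sup_left hx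
  have h1 : b x * b c = b c * b x := by
    rw [← hb.mul hxU hcU, ← hb.mul hcU hxU, cn_comm hc (hP.1 hx)]
  have h2 : b x * c = c * b x := cn_comm hc (hi.1 (hb'.apply_mem_im hx))
  calc b x * (c⁻¹ * b c) = c⁻¹ * (c * b x) * c⁻¹ * b c := by group
    _ = c⁻¹ * (b x * c) * c⁻¹ * b c := by rw [h2]
    _ = c⁻¹ * (b x * b c) := by group
    _ = c⁻¹ * (b c * b x) := by rw [h1]
    _ = c⁻¹ * b c * b x := by group

/-- a map extends to `C_S(T)` -/
def Xt (F : FusionSystem S) (T P : Subgroup Ω) (f : Ω → Ω) : Prop :=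
  ∃ b, Map F (PC S T P) b ∧ (∀ x ∈ P, b x = f x) ∧ ∀ c ∈ centralizerIn S T, c⁻¹ * b c ∈ T

theorem Xt.comp [Finite S] (hT : F.StronglyClosed T) (hP : P ∈ FC F T) (hf : Xt F T P f) (hg : Xt F T Q g) (hQ : Q ≤ T)
    (h : ∀ x ∈ P, f x ∈ Q) : Xt F T P (g ∘ f) := by
  obtain ⟨b, hb, h1, h2⟩ := hf
  obtain ⟨b', hb', h1', h2'⟩ := hg
  have hbP := hb.mono (le_sup_left : P ≤ _)
  have hu : ∀ c ∈ centralizerIn S T, c⁻¹ * b c ∈ Q := by
    intro c hc
    obtain ⟨x, hx, hxe⟩ := hbP.mem_im.1 (cu_mem hT hP hb hc (h2 c hc))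
    rw [← hxe, h1 x hx]; exact h x hx
  have hmaps : ∀ x ∈ PC S T P, b x ∈ PC S T Q := by
    refine hb.maps_sup (fun x hx => ?_) fun c hc => ?_
    · rw [h1 x hx]; exact Subgroup.mem_sup_left (h x hx)
    · have e : b c = c * (c⁻¹ * b c) := by group
      rw [e]; exact Subgroup.mul_mem _ (Subgroup.mem_sup_right hc) (Subgroup.mem_sup_left (hu c hc))
  refine ⟨b' ∘ b, hb'.comp hb hmaps, fun x hx => ?_, fun c hc => ?_⟩
  · show b' (b x) = g (f x)
    rw [h1 x hx, h1' _ (h x hx)]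
  · have e : b c = c * (c⁻¹ * b c) := by group
    have hcQ : c ∈ PC S T Q := Subgroup.mem_sup_right hc
    have huQ : c⁻¹ * b c ∈ PC S T Q := Subgroup.mem_sup_left (hu c hc)
    show c⁻¹ * b' (b c) ∈ T
    have e2 : b' (b c) = b' c * b' (c⁻¹ * b c) := by
      conv_lhs => rw [e]
      exact hb'.mul hcQ huQ
    rw [e2, ← mul_assoc]
    refine T.mul_mem (h2' c hc) ?_
    exact (stronglyClosed_iff.1 hT).2 _ _ hb' _ huQ (hQ (hu c hc))

theorem PC_im [Finite S] (hT : F.StronglyClosed T) (hP : P ∈ FC F T) (hb : Map F (PC S T P) b)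
    (h2 : ∀ c ∈ centralizerIn S T, c⁻¹ * b c ∈ T) : im (PC S T P) b = PC S T (im P b) := by
  have hbP := hb.mono (le_sup_left : P ≤ _)
  apply le_antisymm
  · intro y hy
    obtain ⟨x, hx, rfl⟩ := hb.mem_im.1 hy
    refine hb.maps_sup (fun x hx => Subgroup.mem_sup_left (hbP.apply_mem_im hx)) (fun c hc => ?_) x hx
    have e : b c = c * (c⁻¹ * b c) := by group
    rw [e]; exact Subgroup.mul_mem _ (Subgroup.mem_sup_right hc) (Subgroup.mem_sup_left (cu_mem hT hP hb hc (h2 c hc)))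
  · refine sup_le (hb.im_mono le_sup_left) fun c hc => ?_
    have hcU : c ∈ PC S T P := Subgroup.mem_sup_right hc
    have e : c = b c * (c⁻¹ * b c)⁻¹ := by group
    rw [e]
    exact Subgroup.mul_mem _ (hb.apply_mem_im hcU) (Subgroup.inv_mem _ ((hb.im_mono le_sup_left) (cu_mem hT hP hb hc (h2 c hc))))

theorem Xt.inv [Finite S] (hT : F.StronglyClosed T) (hP : P ∈ FC F T) (hfm : Map F P f) (hf : Xt F T P f) :
    Xt F T (im P f) (finv P f) := by
  obtain ⟨b, hb, h1, h2⟩ := hf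
  have hbP := hb.mono (le_sup_left : P ≤ _)
  have e : im P b = im P f := im_congr h1
  have e2 := PC_im hT hP hb h2
  rw [e] at e2
  refine ⟨finv (PC S T P) b, ?_, fun y hy => ?_, fun c hc => ?_⟩
  · rw [← e2]; exact hb.iso.symm.map
  · obtain ⟨x, hx, rfl⟩ := hfm.mem_im.1 hy
    rw [hfm.iso.finv_left hx, ← h1 x hx, hb.iso.finv_left (Subgroup.mem_sup_left hx)]
  · obtain ⟨v, hv, hve⟩ := hbP.mem_im.1 (cu_mem hT hP hb hc (h2 c hc))
    have hcU : c ∈ PC S T P := Subgroup.mem_sup_right hc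
    have hvU : v ∈ PC S T P := Subgroup.mem_sup_left hv
    have e3 : b (c * v⁻¹) = c := by
      rw [hb.mul hcU (Subgroup.inv_mem _ hvU), hb.inv hvU, hve]; group
    have e4 : finv (PC S T P) b c = c * v⁻¹ := by
      conv_lhs => rw [← e3]
      exact hb.iso.finv_left (Subgroup.mul_mem _ hcU (Subgroup.inv_mem _ hvU))
    rw [e4, inv_mul_cancel_left]
    exact T.inv_mem (hP.1 hv)

def XM (F : FusionSystem S) (T P : Subgroup Ω) (f : Ω → Ω) : Prop :=
  Map F P f ∧ P ≤ T ∧ (∀ x ∈ P, f x ∈ T) ∧ (P ∈ FC F T → Xt F T P f)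

/-- the fusion system of maps extending to `C_S(T)` -/
def XFS (F : FusionSystem S) (T : Subgroup Ω) [Finite S] (hT : F.StronglyClosed T) : FusionSystem T :=
  mkFS T (XM F T)
    (fun P f g h hfg => ⟨h.1.congr hfg, h.2.1, fun x hx => by rw [← hfg x hx]; exact h.2.2.1 x hx, fun hP => by
      obtain ⟨b, hb, h1, h2⟩ := h.2.2.2 hP
      exact ⟨b, hb, fun x hx => by rw [h1 x hx, hfg x hx], h2⟩⟩)
    (fun P f h => ⟨h.2.1, h.2.2.1⟩)
    (fun P f h x hx y hy => h.1.inj hx hy)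
    (fun P t hP ht => ⟨map_conj F (hP.trans hT.1) (hT.1 ht), hP,
      fun x hx => T.mul_mem (T.mul_mem ht (hP hx)) (T.inv_mem ht),
      fun _ => ⟨_, map_conj F (PC_le hT.1 hP) (hT.1 ht), fun x hx => rfl, fun c hc => by
        have := cn_comm hc ht
        rw [this, mul_inv_cancel_right, inv_mul_cancel]; exact T.one_mem⟩⟩)
    (fun P Q f g hf hg h => ⟨hg.1.comp hf.1 h, hf.2.1, fun x hx => hg.2.2.1 _ (h x hx), fun hP => by
      have h1 : im P f ∈ FC F T := fc_conj hT hP hf.1.iso.isConj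
      have h2 : im P f ≤ Q := fun y hy => by
        obtain ⟨x, hx, rfl⟩ := hf.1.mem_im.1 hy
        exact h x hx
      exact (hf.2.2.2 hP).comp hT hP (hg.2.2.2 (fc_up h1 h2 hg.2.1)) hg.2.1 h⟩)
    (fun P f R hf hmul hR => ⟨finv P f, by
      have h1 : R = im P f := by
        ext y; rw [hR, hf.1.mem_im]
      rw [h1]
      refine ⟨hf.1.iso.symm.map, fun y hy => ?_, fun y hy => hf.2.1 (hf.1.iso.finv_mem hy), fun hP => ?_⟩
      · obtain ⟨x, hx, rfl⟩ := hf.1.mem_im.1 hy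
        exact hf.2.2.1 x hx
      · have hP' : P ∈ FC F T := fc_conj hT hP (isConj_symm hf.1.iso.isConj)
        exact (hf.2.2.2 hP').inv hT hP' hf.1, fun x hx => hf.1.iso.finv_left hx⟩)

theorem map_XFS [Finite S] {hT : F.StronglyClosed T} : Map (XFS F T hT) P f ↔ XM F T P f :=
  map_mkFS fun P f h x hx y hy => h.1.mul hx hy

/-- the extension of `F`-automorphisms of `T` to `T C_S(T)` -/
theorem exists_hat [Fact p.Prime] [Finite S] (hS : IsPGroup p S) (hF : F.IsSaturated p) (hT : F.StronglyClosed T) {a : Ω → Ω}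
    (ha : Iso F T T a) : ∃ â, Iso F (PC S T T) (PC S T T) â ∧ (∀ x ∈ T, â x = a x) ∧
      (∀ c ∈ centralizerIn S T, â c ∈ centralizerIn S T) ∧ ∀ c ∈ centralizerIn S T, ∃ d ∈ centralizerIn S T, â d = c := by
  obtain ⟨g, hg, hga⟩ := receptive_ext' (fn_receptive hS hF (StronglyClosed.fn hT)) ha
    (sup_le ha.map.le_ext cen_le_ext : PC S T T ≤ _)
  have hgi : Iso F T T g := ha.congr fun x hx => (hga x hx).symm
  have h1 : ∀ c ∈ centralizerIn S T, g c ∈ centralizerIn S T := fun c hc =>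
    hg.cen_mem' hgi le_sup_left (Subgroup.mem_sup_right hc) hc
  have hfin : Finite (centralizerIn S T) := finite_of_le cen_le
  have h2 := iso_of_card_le (hg.mono (le_sup_right : centralizerIn S T ≤ _)) h1 le_rfl
  have hfin2 : Finite (PC S T T) := finite_of_le hg.le
  refine ⟨g, iso_of_card_le hg (hg.maps_sup (fun x hx => Subgroup.mem_sup_left ?_) fun c hc => Subgroup.mem_sup_right (h1 c hc)) le_rfl,
    hga, h1, fun c hc => ?_⟩
  · exact iso_mem hgi hx
  · exact h2.map.mem_im.1 (by rw [h2.im_eq]; exact hc)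

theorem XFS_pr [Fact p.Prime] [Finite S] (hS : IsPGroup p S) (hF : F.IsSaturated p) (hT : F.StronglyClosed T) {a : Ω → Ω}
    (ha : Iso F T T a) : Pr a (XFS F T hT) := by
  intro P f hf
  obtain ⟨h1, h2, h3, h4⟩ := map_XFS.1 hf
  have haP := ha.restrict h2
  have hP' : im P a ≤ T := fun y hy => by
    obtain ⟨x, hx, rfl⟩ := haP.map.mem_im.1 hy
    exact iso_mem ha (h2 hx)
  have haf : ∀ x ∈ im P a, f (finv P a x) ∈ T := fun x hx => h3 _ (haP.finv_mem hx)
  refine ⟨a ∘ f ∘ finv P a, map_XFS.2 ⟨?_, hP', fun x hx => iso_mem ha (haf x hx), fun hPC => ?_⟩, fun x hx => ?_⟩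
  · exact ha.map.comp (h1.comp haP.symm.map fun x hx => haP.finv_mem hx) haf
  · have hPC' : P ∈ FC F T := fc_conj hT hPC (isConj_symm haP.isConj)
    obtain ⟨b, hb, hb1, hb2⟩ := h4 hPC'
    obtain ⟨â, hâ, hâ1, hâ2, hâ3⟩ := exists_hat hS hF hT ha
    have hPT : PC S T P ≤ PC S T T := sup_le_sup_right h2 _
    have hP'T : PC S T (im P a) ≤ PC S T T := sup_le_sup_right hP' _
    have hinv := hâ.symm.map.mono hP'T
    have m1 : ∀ y ∈ im P a, finv (PC S T T) â y = finv P a y := by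
      intro y hy
      obtain ⟨x, hx, rfl⟩ := haP.map.mem_im.1 hy
      rw [haP.finv_left hx, ← hâ1 x (h2 hx), hâ.finv_left (Subgroup.mem_sup_left (h2 hx))]
    have m2 : ∀ c ∈ centralizerIn S T, finv (PC S T T) â c ∈ centralizerIn S T := by
      intro c hc
      obtain ⟨d, hd, rfl⟩ := hâ3 c hc
      rw [hâ.finv_left (Subgroup.mem_sup_right hd)]; exact hd
    have hm : ∀ x ∈ PC S T (im P a), finv (PC S T T) â x ∈ PC S T P :=
      hinv.maps_sup (fun y hy => by rw [m1 y hy]; exact Subgroup.mem_sup_left (haP.finv_mem hy))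
        fun c hc => Subgroup.mem_sup_right (m2 c hc)
    have hbm : ∀ x ∈ PC S T P, b x ∈ PC S T T := by
      refine hb.maps_sup (fun x hx => ?_) fun c hc => ?_
      · rw [hb1 x hx]; exact Subgroup.mem_sup_left (h3 x hx)
      · have e : b c = c * (c⁻¹ * b c) := by group
        rw [e]; exact Subgroup.mul_mem _ (Subgroup.mem_sup_right hc) (Subgroup.mem_sup_left (hb2 c hc))
    refine ⟨â ∘ b ∘ finv (PC S T T) â, hâ.map.comp (hb.comp hinv hm) fun x hx => hbm _ (hm x hx), fun y hy => ?_, fun c hc => ?_⟩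
    · show â (b (finv (PC S T T) â y)) = a (f (finv P a y))
      rw [m1 y hy, hb1 _ (haP.finv_mem hy), hâ1 _ (haf y hy)]
    · obtain ⟨d, hd, rfl⟩ := hâ3 c hc
      show (â d)⁻¹ * â (b (finv (PC S T T) â (â d))) ∈ T
      have hdU : d ∈ PC S T T := Subgroup.mem_sup_right hd
      rw [hâ.finv_left hdU, ← hâ.map.inv hdU, ← hâ.map.mul (Subgroup.inv_mem _ hdU) (hbm d (Subgroup.mem_sup_right hd)),
        hâ1 _ (hb2 d hd)]
      exact iso_mem ha (hb2 d hd)
  · show a (f (finv P a (a x))) = _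
    rw [haP.finv_left hx]

end

end Cfsg.Agent.H27.Pp
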