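import Mathlib
import Cfsg.Agent.H27_Pp8

/-! Index prime to `p`, part nine: `p`-elements extend to `C_S(T)`. -/

set_option autoImplicit false
set_option linter.all false

namespace Cfsg.Agent.H27.Pp

open Cfsg Cfsg.FusionSystem Cfsg.Agent.H27.Fus Cfsg.Agent.H27.Grp Cfsg.Agent.H27.Ix Cfsg.Agent.H27.Sc

universe u

section
variable {Ω : Type*} [Group Ω] {S T : Subgroup Ω} {P Q R U : Subgroup Ω} {f g b : Ω → Ω} {p : ℕ}
variable {F : FusionSystem S} {E D : FusionSystem T}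
variable [Fact p.Prime] [Finite S]

theorem opp_le_X (hS : IsPGroup p S) (hF : F.IsSaturated p) (hE : E.IsSaturated p) (hI : Inv E F) (hP : P ∈ FC F T) :
    Opp E p P ≤ (XFS F T hI.strong).autGroup P := by
  have hT := hI.strong
  have hTS := hT.1
  have hPT := hP.1
  have hPS := hPT.trans hTS
  have hfinT : Finite T := finite_of_le hTS
  have hTp : IsPGroup p T := hS.to_le hTS
  rw [Opp, Subgroup.closure_le]
  rintro α ⟨hα, k, hk⟩
  obtain ⟨Q, hPQ, hQ⟩ := exists_fullyNormalized F hPS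
  obtain ⟨f, hf, hfi, hfn⟩ := fn_nrm_map hS hF hQ hPQ
  have hQC : Q ∈ FC F T := fc_conj hT hP hPQ
  have hQT := hQC.1
  have hQS := hQ.1
  have hfinP : Finite P := finite_of_le hPS
  have hfinQ : Finite Q := finite_of_le hQS
  have hαE := (mem_autGroup_iff hPT).1 hα
  -- transport to `Q`
  obtain ⟨g, hg, hgf⟩ := hI.sinv P P (totA α) f le_rfl hPT hαE.map (fun x hx => totA_mem hx) hfi.map
  rw [hfi.im_eq] at hg
  have hgQ : im Q g = Q := by
    ext y
    rw [hg.mem_im]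
    constructor
    · rintro ⟨x, hx, rfl⟩
      rw [← hfi.im_eq, hfi.map.mem_im] at hx
      obtain ⟨z, hz, rfl⟩ := hx
      rw [hgf z hz]; exact iso_mem hfi (totA_mem hz)
    · intro hy
      rw [← hfi.im_eq, hfi.map.mem_im] at hy
      obtain ⟨z, hz, rfl⟩ := hy
      refine ⟨f (totA α⁻¹ z), iso_mem hfi (totA_mem hz), ?_⟩
      rw [hgf _ (totA_mem hz), totA_self_inv hz]
  have hgi : Iso E Q Q g := hg.iso_of_im_eq hgQ
  have hcg : ∀ β : MulAut P, ∀ x ∈ P, totA (MulAut.congr hfi.equiv β) (f x) = f (totA β x) := by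
    intro β x hx
    have h3 := totA_apply (MulAut.congr hfi.equiv β) (hfi.equiv ⟨x, hx⟩)
    rw [show MulAut.congr hfi.equiv β (hfi.equiv ⟨x, hx⟩) = hfi.equiv (β ⟨x, hx⟩) from congr_equiv_apply hfi β ⟨x, hx⟩] at h3
    rw [totA_of_mem β hx]
    exact h3
  have hα' : MulAut.congr hfi.equiv α ∈ E.autGroup Q := by
    refine mem_autGroup_of hg fun x => ?_
    obtain ⟨z, hz⟩ := hfi.equiv.surjective x
    have e1 := hcg α z z.2
    have e2 : f z = (x : Ω) := by rw [← hz]; rfl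
    rw [e2, totA_apply] at e1
    rw [e1, ← hgf z z.2, e2]
  have hX : Subgroup.zpowers (MulAut.congr hfi.equiv α) ≤ E.autGroup Q := by
    rw [Subgroup.zpowers_le]; exact hα'
  have hXp : IsPGroup p (Subgroup.zpowers (MulAut.congr hfi.equiv α)) := by
    refine IsPGroup.of_card (n := k) ?_
    rw [Nat.card_zpowers, ← hk]
    exact MulEquiv.orderOf_eq _ _
  have hQE : E.IsFullyNormalized Q := fn_of_sub hS hF hT hI.sub hQT hQ
  obtain ⟨ε, hε, hε1⟩ := conj_into (fn_automized hTp hE hQE) hX hXp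
  obtain ⟨t, ht, hεt⟩ := mem_autInducedBy.1 (hε1 _ (Subgroup.mem_zpowers _))
  have hεF : ε ∈ F.autGroup Q := autGroup_mono_of_sub hI.sub hTS hQT hε
  have hεi := (mem_autGroup_iff hQS).1 hεF
  have hQW : Q ⊔ centralizerIn S Q ≤ ext S Q (totA ε) := sup_le hεi.map.le_ext cen_le_ext
  obtain ⟨e, he, he1⟩ := receptive_ext' (fn_receptive hS hF hQ) hεi hQW
  -- the map `h`
  have hCC : centralizerIn S T ≤ centralizerIn S P := cen_anti hPT
  have hPN : P ≤ normalizerIn S P := le_nrm hPS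
  have hCN : centralizerIn S P ≤ normalizerIn S P := cen_le_nrm
  have hPCN : PC S T P ≤ normalizerIn S P := sup_le hPN (hCC.trans hCN)
  have hfU := hf.mono hPCN
  have hfc : ∀ c ∈ centralizerIn S T, f c ∈ centralizerIn S Q := fun c hc => hf.cen_mem' hfi hPN (hCN (hCC hc)) (hCC hc)
  have hmaps : ∀ x ∈ PC S T P, f x ∈ Q ⊔ centralizerIn S Q :=
    hfU.maps_sup (fun x hx => Subgroup.mem_sup_left (iso_mem hfi hx)) fun c hc => Subgroup.mem_sup_right (hfc c hc)
  have hh : Map F (PC S T P) (e ∘ f) := he.comp hfU hmaps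
  have hei : Iso F Q Q e := hεi.congr fun x hx => (he1 x hx).symm
  have hhP : ∀ x ∈ P, e (f x) ∈ Q := fun x hx => iso_mem hei (iso_mem hfi hx)
  have hhc : ∀ c ∈ centralizerIn S T, e (f c) ∈ centralizerIn S Q := fun c hc =>
    he.cen_mem' hei le_sup_left (Subgroup.mem_sup_right (hfc c hc)) (hfc c hc)
  have hPU : P ≤ PC S T P := le_sup_left
  have himP : im P (e ∘ f) = Q := by
    have h1 : Iso F P Q (e ∘ f) := hfi.trans hei
    exact h1.im_eq
  have htα : ∀ x ∈ P, e (f (totA α x)) = t * e (f x) * t⁻¹ := by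
    intro x hx
    have hfx : f x ∈ Q := iso_mem hfi hx
    have h1 : e (f (totA α x)) = totA ε (totA (MulAut.congr hfi.equiv α) (f x)) := by
      rw [hcg α x hx, he1 _ (iso_mem hfi (totA_mem hx))]
    have h2 := hεt (ε ⟨f x, hfx⟩)
    rw [h1, he1 _ hfx, totA_of_mem ε hfx]
    rw [← h2, totA_of_mem _ hfx, totA_of_mem ε (Subtype.property _)]
    show _ = ((ε (MulAut.congr hfi.equiv α (ε⁻¹ (ε ⟨f x, hfx⟩))) : Q) : Ω)
    rw [MulAut.inv_apply_self]
  have htS : t ∈ S := hTS ht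
  have htQ : t ∈ normalizerIn S Q := by
    refine mem_nrm_of_forall hQS htS fun y hy => ?_
    rw [← himP, (hh.mono hPU).mem_im] at hy
    obtain ⟨x, hx, rfl⟩ := hy
    show t * e (f x) * t⁻¹ ∈ Q
    rw [← htα x hx]; exact hhP _ (totA_mem hx)
  -- the image is invariant under `t`
  have hw : ∀ c ∈ centralizerIn S T, ∃ v ∈ P, t * e (f c) * t⁻¹ = e (f (c * v)) := by
    intro c hc
    set y := e (f c) with hy
    have hyc : y ∈ centralizerIn S Q := hhc c hc
    have hyS := hyc.1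
    have h1 : t * y * t⁻¹ ∈ centralizerIn S Q := by
      refine mem_cen.2 ⟨S.mul_mem (S.mul_mem htS hyS) (S.inv_mem htS), fun z hz => ?_⟩
      have h2 : t⁻¹ * z * t⁻¹⁻¹ ∈ Q := nrm_conj_mem ((normalizerIn S Q).inv_mem htQ) hz
      have h3 := cen_comm hyc h2
      calc z * (t * y * t⁻¹) = t * ((t⁻¹ * z * t⁻¹⁻¹) * y) * t⁻¹ := by group
        _ = t * (y * (t⁻¹ * z * t⁻¹⁻¹)) * t⁻¹ := by rw [h3]
        _ = _ := by group
    have h2 : y⁻¹ * t * y⁻¹⁻¹ ∈ T := StronglyClosed.conj_mem hT (S.inv_mem hyS) ht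
    have h3 : y⁻¹ * (t * y * t⁻¹) ∈ centralizerIn T Q := by
      refine ⟨?_, ((centralizerIn S Q).mul_mem ((centralizerIn S Q).inv_mem hyc) h1).2⟩
      have : y⁻¹ * (t * y * t⁻¹) = y⁻¹ * t * y⁻¹⁻¹ * t⁻¹ := by group
      rw [this]; exact T.mul_mem h2 (T.inv_mem ht)
    have h4 := fc_cen hTS hQC h3
    rw [← himP, (hh.mono hPU).mem_im] at h4
    obtain ⟨v, hv, hve⟩ := h4
    refine ⟨v, hv, ?_⟩
    have h5 : (e ∘ f) (c * v) = (e ∘ f) c * (e ∘ f) v := hh.mul (Subgroup.mem_sup_right hc) (Subgroup.mem_sup_left hv)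
    show _ = (e ∘ f) (c * v)
    rw [h5, hve]
    show _ = y * (y⁻¹ * (t * y * t⁻¹))
    group
  have hct : Map F (PC S T P) ((fun y => t * y * t⁻¹) ∘ (e ∘ f)) :=
    (map_conj F hh.im_le htS).comp hh fun x hx => hh.apply_mem_im hx
  have hmt : ∀ x ∈ PC S T P, t * e (f x) * t⁻¹ ∈ im (PC S T P) (e ∘ f) := by
    refine hct.maps_sup (fun x hx => ?_) fun c hc => ?_
    · show t * e (f x) * t⁻¹ ∈ _
      rw [← htα x hx]
      exact hh.apply_mem_im (hPU (totA_mem hx))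
    · obtain ⟨v, hv, hve⟩ := hw c hc
      show t * e (f c) * t⁻¹ ∈ _
      rw [hve]
      exact hh.apply_mem_im (Subgroup.mul_mem _ (Subgroup.mem_sup_right hc) (Subgroup.mem_sup_left hv))
  refine mem_autGroup_of (f := totA α) (map_XFS.2 ⟨hI.sub _ _ hαE.map, hPT, fun x hx => hPT (totA_mem hx), fun _ => ?_⟩)
    fun x => (totA_apply α x).symm
  refine ⟨finv (PC S T P) (e ∘ f) ∘ ((fun y => t * y * t⁻¹) ∘ (e ∘ f)), hh.iso.symm.map.comp hct hmt, fun x hx => ?_, fun c hc => ?_⟩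
  · show finv (PC S T P) (e ∘ f) (t * e (f x) * t⁻¹) = _
    rw [← htα x hx]
    exact hh.iso.finv_left (hPU (totA_mem hx))
  · obtain ⟨v, hv, hve⟩ := hw c hc
    show c⁻¹ * finv (PC S T P) (e ∘ f) (t * e (f c) * t⁻¹) ∈ T
    rw [hve]
    have h1 : finv (PC S T P) (e ∘ f) (e (f (c * v))) = c * v :=
      hh.iso.finv_left (Subgroup.mul_mem _ (Subgroup.mem_sup_right hc) (Subgroup.mem_sup_left hv))
    rw [h1, inv_mul_cancel_left]
    exact hPT hv

end

end Cfsg.Agent.H27.Pp
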