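import Mathlib
import Cfsg.Agent.H27_Pp9

/-! Index prime to `p`, part ten: the extension step for the system of maps extending to `C_S(T)`. -/

set_option autoImplicit false
set_option linter.all false

namespace Cfsg.Agent.H27.Pp

open Cfsg Cfsg.FusionSystem Cfsg.Agent.H27.Fus Cfsg.Agent.H27.Grp Cfsg.Agent.H27.Ix Cfsg.Agent.H27.Sc

universe u

section
variable {Ω : Type*} [Group Ω] {S T : Subgroup Ω} {P Q R U : Subgroup Ω} {f g b : Ω → Ω} {p : ℕ}
variable {F : FusionSystem S} {E D : FusionSystem T}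

theorem im_im_finv {X : FusionSystem T} {a : Ω → Ω} (ha : Iso X T T a) (hR : R ≤ T) : im (im R a) (finv T a) = R := by
  have h1 := ha.map.mono hR
  have h2 := ha.symm.map.mono h1.im_le
  ext y
  rw [h2.mem_im]
  constructor
  · rintro ⟨x, hx, rfl⟩
    obtain ⟨z, hz, rfl⟩ := h1.mem_im.1 hx
    rw [ha.finv_left (hR hz)]; exact hz
  · intro hy
    exact ⟨a y, h1.apply_mem_im hy, ha.finv_left (hR hy)⟩

/-- commutators of `N_T(P)` with `P C_S(T)` -/
theorem comm_mem (hP : P ≤ T) {t x : Ω} (ht : t ∈ normalizerIn T P) (hx : x ∈ PC S T P) : x⁻¹ * (t * x * t⁻¹) ∈ P := by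
  obtain ⟨y, hy, c, hc, rfl⟩ := (mem_PC hP).1 hx
  have h1 := cn_comm hc ht.1
  have h2 : y⁻¹ * (t * y * t⁻¹) ∈ P := P.mul_mem (P.inv_mem hy) (nrm_conj_mem ht hy)
  have h3 := cn_comm hc (hP h2)
  have e : (y * c)⁻¹ * (t * (y * c) * t⁻¹) = c⁻¹ * (y⁻¹ * (t * y * t⁻¹)) * (t * c * t⁻¹) := by group
  rw [e, h1, mul_inv_cancel_right, mul_assoc, h3, inv_mul_cancel_left]
  exact h2

theorem nrm_PC (hTS : T ≤ S) (hP : P ≤ T) {t : Ω} (ht : t ∈ normalizerIn T P) : t ∈ normalizerIn S (PC S T P) := by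
  refine mem_nrm.2 ⟨hTS ht.1, fun x => ?_⟩
  have key : ∀ t ∈ normalizerIn T P, ∀ x ∈ PC S T P, t * x * t⁻¹ ∈ PC S T P := fun t ht x hx => by
    have h := Subgroup.mul_mem _ hx (Subgroup.mem_sup_left (comm_mem (S := S) hP ht hx) : _ ∈ PC S T P)
    rwa [mul_inv_cancel_left] at h
  refine ⟨key t ht x, fun h => ?_⟩
  have := key t⁻¹ ((normalizerIn T P).inv_mem ht) _ h
  rwa [show t⁻¹ * (t * x * t⁻¹) * t⁻¹⁻¹ = x by group] at this

/-- the `p`-group of automorphisms used in the extension -/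
def KX (F : FusionSystem S) (T P : Subgroup Ω) : Subgroup (MulAut ↥(PC S T P)) where
  carrier := {κ | κ ∈ F.autGroup (PC S T P) ∧ (∃ t ∈ normalizerIn T P, ∀ x : ↥(PC S T P), (x : Ω) ∈ P → (κ x : Ω) = t * x * t⁻¹) ∧
    ∀ x : ↥(PC S T P), (x : Ω)⁻¹ * κ x ∈ P}
  one_mem' := ⟨one_mem _, ⟨1, one_mem _, fun x _ => by rw [MulAut.one_apply]; group⟩, fun x => by
    rw [MulAut.one_apply, inv_mul_cancel]; exact P.one_mem⟩
  mul_mem' := by
    rintro κ μ ⟨h1, ⟨t, ht, h2⟩, h3⟩ ⟨k1, ⟨s, hs, k2⟩, k3⟩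
    refine ⟨mul_mem h1 k1, ⟨t * s, mul_mem ht hs, fun x hx => ?_⟩, fun x => ?_⟩
    · rw [MulAut.mul_apply, h2 _ ?_, k2 x hx]
      · group
      · rw [k2 x hx]; exact nrm_conj_mem hs hx
    · have e : (x : Ω)⁻¹ * ((κ * μ) x : ↥(PC S T P)) = ((x : Ω)⁻¹ * (μ x : ↥(PC S T P))) * ((μ x : Ω)⁻¹ * κ (μ x)) := by
        rw [MulAut.mul_apply]; group
      rw [e]; exact P.mul_mem (k3 x) (h3 _)
  inv_mem' := by
    rintro κ ⟨h1, ⟨t, ht, h2⟩, h3⟩
    have key : ∀ x : ↥(PC S T P), (x : Ω)⁻¹ * κ⁻¹ x ∈ P := fun x => by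
      have h4 := P.inv_mem (h3 (κ⁻¹ x))
      rw [MulAut.apply_inv_self] at h4
      simpa using h4
    refine ⟨inv_mem h1, ⟨t⁻¹, inv_mem ht, fun x hx => ?_⟩, key⟩
    have h5 : ((κ⁻¹ x : ↥(PC S T P)) : Ω) ∈ P := by
      have := P.mul_mem hx (key x)
      rwa [mul_inv_cancel_left] at this
    have h6 := h2 _ h5
    rw [MulAut.apply_inv_self] at h6
    rw [h6]; group

theorem mem_KX {κ : MulAut ↥(PC S T P)} : κ ∈ KX F T P ↔ κ ∈ F.autGroup (PC S T P) ∧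
    (∃ t ∈ normalizerIn T P, ∀ x : ↥(PC S T P), (x : Ω) ∈ P → (κ x : Ω) = t * x * t⁻¹) ∧
    ∀ x : ↥(PC S T P), (x : Ω)⁻¹ * κ x ∈ P := Iff.rfl

variable [Fact p.Prime] [Finite S]

theorem KX_pgroup (hS : IsPGroup p S) (hTS : T ≤ S) (hP : P ≤ T) : IsPGroup p (KX F T P) := by
  obtain ⟨n, hn⟩ := exists_pow_card (p := p) hS
  rintro ⟨κ, hκ⟩
  refine ⟨n + n, Subtype.ext ?_⟩
  ext x
  show (((κ ^ (p ^ (n + n))) x : ↥(PC S T P)) : Ω) = x
  obtain ⟨t, ht, h2⟩ := hκ.2.1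
  -- the power of `κ` is trivial on `P`
  have hpow : ∀ j : ℕ, ∀ x : ↥(PC S T P), (x : Ω) ∈ P → (((κ ^ j) x : ↥(PC S T P)) : Ω) = t ^ j * x * (t ^ j)⁻¹ := by
    intro j
    induction j with
    | zero => intro x hx; simp
    | succ j ih =>
      intro x hx
      rw [pow_succ', MulAut.mul_apply, h2 _ ?_, ih x hx, pow_succ']
      · group
      · rw [ih x hx]; exact nrm_conj_mem ((normalizerIn T P).pow_mem ht j) hx
  have hl : ∀ x : ↥(PC S T P), (x : Ω) ∈ P → (κ ^ (p ^ n)) x = x := fun x hx => Subtype.ext (by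
    rw [hpow _ x hx, hn t (hTS ht.1)]; group)
  have hκ' : κ ^ (p ^ n) ∈ KX F T P := (KX F T P).pow_mem hκ _
  set l := κ ^ (p ^ n) with hldef
  have hz := hκ'.2.2 x
  have hzU : (x : Ω)⁻¹ * l x ∈ PC S T P := Subgroup.mem_sup_left hz
  set z : ↥(PC S T P) := ⟨(x : Ω)⁻¹ * l x, hzU⟩ with hzdef
  have hlz : l z = z := hl z hz
  have hlx : l x = x * z := Subtype.ext (by show (l x : Ω) = _ * _; rw [hzdef]; simp)
  have key : ∀ j : ℕ, (l ^ j) x = x * z ^ j := by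
    intro j
    induction j with
    | zero => simp
    | succ j ih =>
      rw [pow_succ', MulAut.mul_apply, ih, map_mul, map_pow, hlz, hlx, mul_assoc, ← pow_succ']
  have e : κ ^ (p ^ (n + n)) = l ^ (p ^ n) := by rw [hldef, ← pow_mul, pow_add]
  rw [e, key]
  show (x : Ω) * (z : Ω) ^ (p ^ n) = x
  rw [hn _ (hTS (hP hz)), mul_one]

theorem ind_le_KX (hTS : T ≤ S) (hP : P ≤ T) : autInducedBy (normalizerIn T P) (PC S T P) ≤ KX F T P := by
  intro ξ hξ
  obtain ⟨t, ht, h1⟩ := mem_autInducedBy.1 hξ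
  refine ⟨autInducedBy_le_autGroup F (PC_le hTS hP) (mem_autInducedBy.2 ⟨t, hTS ht.1, h1⟩), ⟨t, ht, fun x _ => h1 x⟩, fun x => ?_⟩
  rw [h1 x]; exact comm_mem hP ht x.2

/-- the extension step -/
theorem X_step (hS : IsPGroup p S) (hF : F.IsSaturated p) (hI : Inv E F) {α : MulAut T} (hα : α ∈ F.autGroup T)
    (hP : P ∈ FC F T) (hfn : E.IsFullyNormalized P) (h : Map (XFS F T hI.strong) P (totA α)) :
    ∃ Φ, Map (XFS F T hI.strong) (normalizerIn T P) Φ ∧ ∀ x ∈ P, Φ x = totA α x := by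
  have hT := hI.strong
  have hTS := hT.1
  have hPT := hP.1
  have hfinT : Finite T := finite_of_le hTS
  obtain ⟨-, -, -, hX⟩ := map_XFS.1 h
  obtain ⟨b, hb, hb1, hb2⟩ := hX hP
  have hαU := (univ_aut α (le_refl T)).map
  have hbP := hb.mono (le_sup_left : P ≤ PC S T P)
  set P' := im P (totA α) with hP'def
  have himb : im P b = P' := im_congr hb1
  have hP'C : P' ∈ FC F T := by rw [← himb]; exact fc_conj hT hP hbP.iso.isConj
  have hP'T := hP'C.1
  have hUU : im (PC S T P) b = PC S T P' := by rw [PC_im hT hP hb hb2, himb]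
  have hbi : Iso F (PC S T P) (PC S T P') b := hb.iso_of_im_eq hUU
  have hmem' : ∀ x ∈ P, totA α x ∈ P' := fun x hx => (hαU.mono hPT).apply_mem_im hx
  obtain ⟨U'', hU1, hU2⟩ := exists_fullyNormalized F (PC_le hTS hPT : PC S T P ≤ S)
  obtain ⟨χ₀, hχ₀⟩ := isConj_iff.1 hU1
  obtain ⟨χ, hχ, hχK⟩ := exists_iso_conj_into (fn_automized hS hF hU2) hχ₀
    (fun κ (hκ : κ ∈ KX F T P) => hκ.1) (KX_pgroup hS hTS hPT)
  have hrec := fn_receptive hS hF hU2
  -- extension of `χ`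
  have hN₁ : normalizerIn T P ≤ ext S (PC S T P) χ :=
    autInducedBy_conj_mem_ext hχ (fun t ht => nrm_PC hTS hPT ht) fun ξ hξ => hχK ξ (ind_le_KX hTS hPT hξ)
  obtain ⟨χ', hχ', hχ'1⟩ := receptive_ext' hrec hχ (sup_le hN₁ hχ.map.le_ext : normalizerIn T P ⊔ PC S T P ≤ _)
  -- extension of `ω`
  have hω : Iso F (PC S T P') U'' (χ ∘ finv (PC S T P) b) := hbi.symm.trans hχ
  have hN₂ : normalizerIn T P' ≤ ext S (PC S T P') (χ ∘ finv (PC S T P) b) := by
    refine autInducedBy_conj_mem_ext hω (fun t ht => nrm_PC hTS hP'T ht) fun ξ hξ => ?_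
    obtain ⟨t, ht, hξt⟩ := mem_autInducedBy.1 hξ
    have hcg : ∀ x : ↥(PC S T P'), b (((MulAut.congr hbi.equiv.symm) ξ) (hbi.equiv.symm x) : ↥(PC S T P)) = ξ x := by
      intro x
      show b (hbi.equiv.symm (ξ (hbi.equiv (hbi.equiv.symm x))) : ↥(PC S T P)) = ξ x
      rw [MulEquiv.apply_symm_apply]
      show ((hbi.equiv (hbi.equiv.symm (ξ x)) : ↥(PC S T P')) : Ω) = ξ x
      rw [MulEquiv.apply_symm_apply]
    set κ := (MulAut.congr hbi.equiv.symm) ξ with hκdef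
    have hκb : ∀ y : ↥(PC S T P), b (κ y : ↥(PC S T P)) = t * b y * t⁻¹ := by
      intro y
      have h1 := hcg (hbi.equiv y)
      rw [MulEquiv.symm_apply_apply] at h1
      rw [h1, hξt]; rfl
    have hκF : κ ∈ F.autGroup (PC S T P) := by
      have hξF : ξ ∈ F.autGroup (PC S T P') :=
        autInducedBy_le_autGroup F (PC_le hTS hP'T) (mem_autInducedBy.2 ⟨t, hTS ht.1, hξt⟩)
      rw [← hbi.map_autGroup] at hξF
      obtain ⟨μ, hμ, hμξ⟩ := hξF
      have : κ = μ := by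
        rw [hκdef, ← hμξ]
        ext x
        show ((hbi.equiv.symm (hbi.equiv (μ (hbi.equiv.symm (hbi.equiv x)))) : ↥(PC S T P)) : Ω) = μ x
        rw [MulEquiv.symm_apply_apply, MulEquiv.symm_apply_apply]
      rw [this]; exact hμ
    have hsT : totA α⁻¹ t ∈ T := totA_mem ht.1
    have hs : totA α⁻¹ t ∈ normalizerIn T P := by
      refine mem_nrm_of_forall hPT hsT fun y hy => ?_
      have h1 : t * totA α y * t⁻¹ ∈ P' := nrm_conj_mem ht (hmem' y hy)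
      rw [hP'def, (hαU.mono hPT).mem_im] at h1
      obtain ⟨z, hz, hze⟩ := h1
      have h2 : totA α⁻¹ t * y * (totA α⁻¹ t)⁻¹ = z := by
        have h3 : totA α (totA α⁻¹ t * y * (totA α⁻¹ t)⁻¹) = totA α z := by
          rw [hαU.conj hsT (hPT hy), totA_self_inv ht.1, hze]
        exact hαU.inj (T.mul_mem (T.mul_mem hsT (hPT hy)) (T.inv_mem hsT)) (hPT hz) h3
      rw [h2]; exact hz
    have hκK : κ ∈ KX F T P := by
      refine ⟨hκF, ⟨totA α⁻¹ t, hs, fun y hy => ?_⟩, fun y => ?_⟩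
      · have h1 := hκb y
        rw [hb1 y hy] at h1
        have h2 : totA α⁻¹ t * y * (totA α⁻¹ t)⁻¹ ∈ P := nrm_conj_mem hs hy
        have h3 : b (totA α⁻¹ t * y * (totA α⁻¹ t)⁻¹) = t * totA α y * t⁻¹ := by
          rw [hb1 _ h2, hαU.conj hsT (hPT hy), totA_self_inv ht.1]
        exact hb.inj (κ y).2 (Subgroup.mem_sup_left h2) (h1.trans h3.symm)
      · have h1 : (b y)⁻¹ * (t * b y * t⁻¹) ∈ P' := comm_mem hP'T ht (iso_mem hbi y.2)
        rw [← hκb y, ← hb.inv y.2, ← hb.mul (Subgroup.inv_mem _ y.2) (κ y).2, ← himb, hbP.mem_im] at h1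
        obtain ⟨z, hz, hze⟩ := h1
        rw [← hb.inj (Subgroup.mem_sup_left hz) (Subgroup.mul_mem _ (Subgroup.inv_mem _ y.2) (κ y).2) hze]
        exact hz
    obtain ⟨s, hs, h1⟩ := hχK κ hκK
    refine ⟨s, hs, fun x => ?_⟩
    have h2 := h1 (hbi.equiv.symm x)
    show χ (finv (PC S T P) b (ξ x : ↥(PC S T P'))) = s * χ (finv (PC S T P) b x) * s⁻¹
    rw [← hbi.equiv_symm_apply x, ← h2, ← hcg x, hbi.finv_left (Subtype.property _)]
  obtain ⟨ω, hω', hω1⟩ := receptive_ext' hrec hω (sup_le hN₂ hω.map.le_ext : normalizerIn T P' ⊔ PC S T P' ≤ _)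
  -- comparison of the normalizers
  set N₁ := normalizerIn T P with hN₁def
  set N₂ := normalizerIn T P' with hN₂def
  have hN₁T : N₁ ≤ T := nrm_le
  have hN₂T : N₂ ≤ T := nrm_le
  have hPU : P ≤ PC S T P := le_sup_left
  have hP'U : P' ≤ PC S T P' := le_sup_left
  have hωb : ∀ x ∈ PC S T P, ω (b x) = χ x := by
    intro x hx
    rw [hω1 _ (iso_mem hbi hx)]
    show χ (finv (PC S T P) b (b x)) = χ x
    rw [hbi.finv_left hx]
  set P'' := im P χ with hP''def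
  have himχ' : im P χ' = P'' := im_congr fun x hx => hχ'1 x (hPU hx)
  have hχ'P := hχ'.mono (hPU.trans le_sup_right : P ≤ N₁ ⊔ PC S T P)
  have hωP' := hω'.mono (hP'U.trans le_sup_right : P' ≤ N₂ ⊔ PC S T P')
  have himω : im P' ω = P'' := by
    ext y
    rw [hωP'.mem_im, hP''def, (hχ.map.mono hPU).mem_im]
    constructor
    · rintro ⟨x, hx, rfl⟩
      rw [← himb, hbP.mem_im] at hx
      obtain ⟨z, hz, rfl⟩ := hx
      exact ⟨z, hz, (hωb z (hPU hz)).symm⟩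
    · rintro ⟨z, hz, rfl⟩
      exact ⟨b z, by rw [← himb]; exact hbP.apply_mem_im hz, hωb z (hPU hz)⟩
  have hP''F : F.IsConj P P'' := by rw [← himχ']; exact hχ'P.iso.isConj
  have hP''C : P'' ∈ FC F T := fc_conj hT hP hP''F
  have hmapN : ∀ {R : Subgroup Ω} {k : Ω → Ω} {V : Subgroup Ω}, Map F V k → R ≤ T → R ≤ V → normalizerIn T R ≤ V →
      ∀ x ∈ normalizerIn T R, k x ∈ normalizerIn T (im R k) := by
    intro R k V hk hRT hRV hNV x hx
    refine ⟨(stronglyClosed_iff.1 hT).2 _ _ hk x (hNV hx) hx.1, ?_⟩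
    exact (hk.nrm_mem hRV (hNV hx) ⟨hTS hx.1, hx.2⟩).2
  have hχ'N : ∀ x ∈ N₁, χ' x ∈ normalizerIn T P'' := fun x hx => by
    have := hmapN hχ' hPT (hPU.trans le_sup_right) le_sup_left x hx
    rwa [himχ'] at this
  have hωN : ∀ x ∈ N₂, ω x ∈ normalizerIn T P'' := fun x hx => by
    have := hmapN hω' hP'T (hP'U.trans le_sup_right) le_sup_left x hx
    rwa [himω] at this
  have hcardauto : ∀ {R : Subgroup Ω} {k : Ω → Ω}, Map (univFS T) T k → R ≤ T → im R k ≤ T →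
      Nat.card (normalizerIn T R) ≤ Nat.card (normalizerIn T (im R k)) := by
    intro R k hk hRT hRk
    have h1 : Map (univFS T) (normalizerIn T R) k := hk.mono nrm_le
    have hfin : Finite (normalizerIn T (im R k)) := finite_of_le nrm_le
    exact card_le_of_map h1 fun x hx => h1.nrm_mem (le_nrm hRT) hx hx
  have hc1 : Nat.card N₁ ≤ Nat.card N₂ := hcardauto hαU hPT hP'T
  have hc2 : Nat.card (normalizerIn T P'') ≤ Nat.card N₁ := by
    obtain ⟨k, hk⟩ := isConj_iff.1 hP''F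
    obtain ⟨a, g, ha, hg, h1, h2, h3⟩ := split_inv hI hPT hk
    refine le_trans ?_ (hfn.2 _ hg.iso.isConj)
    have hai := univT ha
    have h4 := hai.symm.map
    have e : im P'' (finv T a) = im P g := by
      rw [← h2]; exact im_im_finv hai h3
    have h5 := hcardauto h4 hP''C.1 (by rw [e]; exact h3)
    rwa [e] at h5
  have hfinN'' : Finite (normalizerIn T P'') := finite_of_le nrm_le
  have hω2 : Iso F N₂ (normalizerIn T P'') ω :=
    iso_of_card_le (hω'.mono le_sup_left) hωN (hc2.trans hc1)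
  have hmaps : ∀ x ∈ N₁ ⊔ PC S T P, χ' x ∈ im (N₂ ⊔ PC S T P') ω := by
    refine hχ'.maps_sup (fun x hx => ?_) fun x hx => ?_
    · have h1 := hχ'N x hx
      rw [← hω2.im_eq] at h1
      exact hω'.im_mono le_sup_left h1
    · rw [hχ'1 x hx, ← hωb x hx]
      exact hω'.apply_mem_im (Subgroup.mem_sup_right (iso_mem hbi hx))
  have hΦ : Map F (N₁ ⊔ PC S T P) (finv (N₂ ⊔ PC S T P') ω ∘ χ') := hω'.iso.symm.map.comp hχ' hmaps
  have hΦb : ∀ x ∈ PC S T P, finv (N₂ ⊔ PC S T P') ω (χ' x) = b x := by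
    intro x hx
    rw [hχ'1 x hx, ← hωb x hx]
    exact hω'.iso.finv_left (Subgroup.mem_sup_right (iso_mem hbi hx))
  refine ⟨finv (N₂ ⊔ PC S T P') ω ∘ χ', map_XFS.2 ⟨hΦ.mono le_sup_left, hN₁T, fun x hx => ?_, fun _ => ?_⟩, fun x hx => ?_⟩
  · exact (stronglyClosed_iff.1 hT).2 _ _ (hΦ.mono le_sup_left) x hx (hN₁T hx)
  · refine ⟨_, hΦ.mono (sup_le le_sup_left (le_sup_right.trans le_sup_right) : PC S T N₁ ≤ _), fun x hx => rfl, fun c hc => ?_⟩
    show c⁻¹ * finv (N₂ ⊔ PC S T P') ω (χ' c) ∈ T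
    rw [hΦb c (Subgroup.mem_sup_right hc)]
    exact hb2 c hc
  · show finv (N₂ ⊔ PC S T P') ω (χ' x) = _
    rw [hΦb x (hPU hx), hb1 x hx]

end

end Cfsg.Agent.H27.Pp
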