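import Mathlib
import Cfsg.Agent.H27_Pp10

/-! Index prime to `p`, part eleven: the `p'`-residual subsystem of a weakly normal subsystem is normal. -/

set_option autoImplicit false
set_option linter.all false

namespace Cfsg.Agent.H27.Pp

open Cfsg Cfsg.FusionSystem Cfsg.Agent.H27.Fus Cfsg.Agent.H27.Grp Cfsg.Agent.H27.Ix Cfsg.Agent.H27.Sc

universe u

section
variable {Ω : Type*} [Group Ω] {S T : Subgroup Ω} {P Q R U : Subgroup Ω} {f g b : Ω → Ω} {p : ℕ}
variable {F : FusionSystem S} {E D : FusionSystem T}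
variable [Fact p.Prime] [Finite S]

theorem gen_X (hS : IsPGroup p S) (hF : F.IsSaturated p) (hE : E.IsSaturated p) (hI : Inv E F)
    (h : Map (Gen E p {P | E.IsCentric P}) P f) : Map (XFS F T hI.strong) P f := by
  have hfinT : Finite T := finite_of_le hI.strong.1
  exact gen_le (fun Q hQ => opp_le_X hS hF hE hI ((fc_iff hI).1 hQ)) h

theorem climb_X (hS : IsPGroup p S) (hF : F.IsSaturated p) (hE : E.IsSaturated p) (hI : Inv E F) :
    Climb (XFS F T hI.strong) (FC F T) (E.autGroup T) where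
  cen P hP := fc_cen hI.strong.1 hP
  le P hP := hP.1
  up P hP Q h hQ := fc_up hP h hQ
  conj P hP f hf := fc_conj hI.strong hP (map_XFS.1 hf).1.iso.isConj
  pr α hα := XFS_pr hS hF hI.strong
    ((mem_autGroup_iff hI.strong.1).1 (autGroup_mono_of_sub hI.sub hI.strong.1 le_rfl hα))
  step P hP hPT := by
    have hTS := hI.strong.1
    have hfinT : Finite T := finite_of_le hTS
    have hTp : IsPGroup p T := hS.to_le hTS
    obtain ⟨Q', hPQ', hQ'⟩ := exists_fullyNormalized E hP.1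
    obtain ⟨e, he⟩ := isConj_iff.1 hPQ'
    obtain ⟨α, hα, g, hg, h1, h2⟩ := split_iso hTp hE fam_centric he
    have hfn : E.IsFullyNormalized (im P g) := by
      have h3 := fn_auto ((mem_autGroup_iff le_rfl).1 (inv_mem hα)) hQ'
      rwa [h2.im_eq] at h3
    have hgF := hI.sub _ _ (gen_sub hg)
    exact ⟨g, gen_X hS hF hE hI hg, fun β hβ h => X_step hS hF hI
      (autGroup_mono_of_sub hI.sub hI.strong.1 le_rfl hβ) (fc_conj hI.strong hP hgF.iso.isConj) hfn h⟩

theorem a0_le_X (hS : IsPGroup p S) (hF : F.IsSaturated p) (hE : E.IsSaturated p) (hI : Inv E F) :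
    A0 E p {P | E.IsCentric P} ≤ (XFS F T hI.strong).autGroup T := by
  have hTS := hI.strong.1
  have hfinT : Finite T := finite_of_le hTS
  have hTp : IsPGroup p T := hS.to_le hTS
  rw [A0, Subgroup.closure_le]
  rintro β ⟨hβ, Q, hQ, h5⟩
  exact top_mem_of (climb hTp (climb_X hS hF hE hI) _ Q rfl ((fc_iff hI).1 hQ) β hβ
    (inn_pow hTp hE hβ) (gen_X hS hF hE hI h5))

theorem cen_im (hI : Inv E F) {a : Ω → Ω} (ha : Iso F T T a) (hP : E.IsCentric P) : E.IsCentric (im P a) := by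
  have hfinT : Finite T := finite_of_le hI.strong.1
  exact (fc_iff hI).2 (fc_conj hI.strong ((fc_iff hI).1 hP) (ha.map.mono hP.1).iso.isConj)

theorem gen_pr_inv (hI : Inv E F) {a : Ω → Ω} (ha : Iso F T T a) : Pr a (Gen E p {P | E.IsCentric P}) :=
  gen_pr (univT ha) (Inv.pr hI ha) (fun P hP => hP.1) fun P hP => cen_im hI ha hP

theorem a0_conj (hI : Inv E F) {a β : MulAut T} (ha : a ∈ F.autGroup T)
    (hβ : β ∈ A0 E p {P | E.IsCentric P}) : a * β * a⁻¹ ∈ A0 E p {P | E.IsCentric P} := by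
  have hTS := hI.strong.1
  have hai := (mem_autGroup_iff hTS).1 ha
  have h : A0 E p {P | E.IsCentric P} ≤ (A0 E p {P | E.IsCentric P}).comap (MulAut.conj a).toMonoidHom := by
    rw [A0, Subgroup.closure_le]
    rintro γ ⟨h1, Q, hQ, h2⟩
    have hQT := hQ.1
    refine Subgroup.subset_closure ⟨SInv.conj_mem hI.sub hTS hI.sinv le_rfl ha h1, im Q (totA a), cen_im hI hai hQ, ?_⟩
    obtain ⟨g, hg, h3⟩ := gen_pr_inv (p := p) hI hai Q _ h2
    refine hg.congr fun y hy => ?_
    obtain ⟨x, hx, rfl⟩ := (hai.map.mono hQT).mem_im.1 hy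
    have hxT := hQT hx
    rw [h3 x hx]
    show _ = totA (a * γ * a⁻¹) (totA a x)
    rw [totA_mul (totA_mem hxT), totA_inv_self hxT, totA_mul hxT]
  exact h hβ

theorem s5141 (hS : IsPGroup p S) (hF : F.IsSaturated p) (hE : E.IsSaturated p) (hI : Inv E F)
    (hD : E.IsPPrimeResidual p D) : D.IsNormalIn F p := by
  have hTS := hI.strong.1
  have hfinT : Finite T := finite_of_le hTS
  have hTp : IsPGroup p T := hS.to_le hTS
  have hFam : Fam E p {P | E.IsCentric P} := fam_centric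
  have hres := res_is hTp hE hFam
  have hsame : ∀ P f, Map D P f ↔ Map (Res E p hFam) P f := fun P f =>
    ⟨fun h => isSubsystemOf_iff.1 (hD.2.2 _ hres.1 hres.2.1) P f h, fun h => res_min hTp hE hD.1 hD.2.1 P f h⟩
  have hsub : ∀ P f, Map D P f → Map F P f := fun P f h => hI.sub _ _ (EH_sub ((hsame P f).1 h))
  refine normalIn_iff.2 ⟨hD.1, hF, ⟨hsub, hI.strong, fun P f a hf ha => ?_, fun P f hPT hf => ?_⟩, fun a ha => ?_⟩
  · obtain ⟨α, hα, k, hk, h1⟩ := map_EH.1 ((hsame P f).1 hf)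
    obtain ⟨g, hg, h2⟩ := gen_pr_inv (p := p) hI ha P k hk
    have haA : ha.aut ∈ F.autGroup T := ha.aut_mem
    have hae : ∀ x ∈ T, totA ha.aut x = a x := fun x hx => totA_of_mem _ hx
    refine ⟨totA (ha.aut * α * ha.aut⁻¹) ∘ g, (hsame _ _).2 (map_EH.2 ⟨_, a0_conj hI haA hα, g, hg, fun x hx => rfl⟩), fun x hx => ?_⟩
    have hkx := hk.mem hx
    show totA (ha.aut * α * ha.aut⁻¹) (g (a x)) = a (f x)
    rw [h2 x hx, ← hae _ hkx, totA_mul (totA_mem hkx), totA_inv_self hkx, totA_mul hkx, ← h1 x hx, hae _ (hf.mem hx)]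
  · obtain ⟨a, e, ha, he, h1⟩ := hI.frat P f hPT hf
    obtain ⟨β, hβ, k, hk, h2⟩ := frat_gen hTp hE hFam P e he
    have hβF := (mem_autGroup_iff hTS).1 (autGroup_mono_of_sub hI.sub hTS le_rfl hβ)
    exact ⟨a ∘ totA β, k, hβF.trans ha, (hsame _ _).2 (gen_EH hk), fun x hx => by rw [h1 x hx, h2 x hx]; rfl⟩
  · have h1 : Iso (Res E p hFam) T T a := ((hsame _ _).1 ha.map).iso_of_im_eq ha.im_eq
    have h2 : h1.aut ∈ A0 E p {P | E.IsCentric P} := by
      have h3 := h1.aut_mem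
      unfold Res at h3
      rwa [EH_top mem_a0] at h3
    have h3 := ((mem_autGroup_iff le_rfl).1 (a0_le_X hS hF hE hI h2)).map
    obtain ⟨-, -, -, h4⟩ := map_XFS.1 h3
    have hTC : T ∈ FC F T := (fc_iff hI).1 (top_centric E)
    obtain ⟨b, hb, hb1, hb2⟩ := h4 hTC
    have hba : ∀ x ∈ T, b x = a x := fun x hx => by
      rw [hb1 x hx, totA_of_mem _ hx]; rfl
    have e1 : im T b = T := by rw [im_congr hba]; exact ha.im_eq
    have e2 : im (PC S T T) b = PC S T T := by rw [PC_im hI.strong hTC hb hb2, e1]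
    refine ⟨b, hb.iso_of_im_eq e2, hba, fun c hc => ?_⟩
    have hbT := hb.mono (le_sup_left : T ≤ PC S T T)
    have hbc : b c ∈ centralizerIn S T := by
      have h5 := hb.cen_mem (le_sup_left : T ≤ PC S T T) (Subgroup.mem_sup_right hc) hc
      rwa [e1] at h5
    exact ⟨hb2 c hc, ((centralizerIn S T).mul_mem ((centralizerIn S T).inv_mem hc) hbc).2⟩

end

end Cfsg.Agent.H27.Pp
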