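import Mathlib
import Cfsg.Agent.H27_Ix5
import Cfsg.Agent.H27_FusInv3
import Cfsg.Prelude.Def_FusionReduction

/-! The residual subsystems of groups; residual limits. -/

set_option autoImplicit false

namespace Cfsg.Agent.H27.Ix

open Equiv Cfsg.FusionSystem Cfsg.Agent.H27.Fus Cfsg.Agent.H27.Grp

universe u

section grp
variable {G : Type u} [Group G] [Finite G] {S : Subgroup G} {p : ℕ} [Fact p.Prime]

theorem pix_group (hS : IsSyl p S ⊤) : PIx (fusionSystemOfSubgroup (pResidual p G) (S ⊓ pResidual p G) inf_le_right)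
    (groupFusionSystem S) p := by
  have hn := Cfsg.Agent.H2.Fusion.pResidual_normal (G := G) p
  refine ⟨?_, (hyp_gfs hS).le, ?_⟩
  · intro P f hf
    obtain ⟨h1, h2, g, hg, hg'⟩ := map_fss.1 hf
    exact map_gfs.2 ⟨h1.trans inf_le_left, fun x hx => (h2 x hx).1, g, hg'⟩
  · intro P hP
    rw [opR_eq, Subgroup.closure_le]
    rintro α ⟨hα, hord⟩
    rw [autGroup_gfs (hP.trans inf_le_left)] at hα
    obtain ⟨g, hg, hgα⟩ := mem_autInducedBy.1 hα
    have hN : g ∈ Subgroup.normalizer (P : Set G) := autInducedBy_norm (K := ⊤) hgα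
    have e1 : P.normalizerMonoidHom ⟨g, hN⟩ = α := by
      ext y
      rw [hgα]; rfl
    obtain ⟨k, hk1, hk2⟩ := exists_pow_lift (p := p) P.normalizerMonoidHom ⟨g, hN⟩ (e1 ▸ hord)
    have hk3 : g ^ k ∈ pResidual p G := Cfsg.Agent.H2.Fusion.mem_pResidual (by
      rw [← Subgroup.orderOf_coe] at hk2
      exact hk2)
    have h3 : ∀ x : P, (α x : G) = g ^ k * x * (g ^ k)⁻¹ := by
      intro x
      rw [← e1, ← hk1]; rfl
    have hM : Map (fusionSystemOfSubgroup (pResidual p G) (S ⊓ pResidual p G) inf_le_right) P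
        (fun x => g ^ k * x * (g ^ k)⁻¹) :=
      map_fss.2 ⟨hP, fun x hx => hP (by rw [← h3 ⟨x, hx⟩]; exact (α ⟨x, hx⟩).2), g ^ k, hk3, fun _ _ => rfl⟩
    exact mem_autGroup_of hM h3

end grp

section lim
variable {Ω : Type u} [Group Ω] {p : ℕ} [Fact p.Prime]

/-- systems with the same maps over equal groups -/
def Same {S T : Subgroup Ω} (F : FusionSystem S) (E : FusionSystem T) : Prop :=
  S = T ∧ ∀ P f, Map F P f ↔ Map E P f

theorem Same.refl {S : Subgroup Ω} (F : FusionSystem S) : Same F F := ⟨rfl, fun _ _ => Iff.rfl⟩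
theorem Same.symm {S T : Subgroup Ω} {F : FusionSystem S} {E : FusionSystem T} (h : Same F E) : Same E F :=
  ⟨h.1.symm, fun P f => (h.2 P f).symm⟩
theorem Same.trans {S T U : Subgroup Ω} {F : FusionSystem S} {E : FusionSystem T} {D : FusionSystem U} (h : Same F E)
    (h' : Same E D) : Same F D := ⟨h.1.trans h'.1, fun P f => (h.2 P f).trans (h'.2 P f)⟩

theorem Same.subst {S T : Subgroup Ω} {F : FusionSystem S} {E : FusionSystem T} (h : Same F E)
    {C : ∀ {S : Subgroup Ω}, FusionSystem S → Prop} (hC : C F) : C E := by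
  obtain ⟨rfl, h⟩ := h
  have : F = E := fs_ext fun P => hom_eq_of_map fun f => h P f
  rwa [← this]

theorem Same.eq {S : Subgroup Ω} {F E : FusionSystem S} (h : Same F E) : F = E :=
  fs_ext fun P => hom_eq_of_map fun f => h.2 P f

theorem ppr_unique {S : Subgroup Ω} {F D D' : FusionSystem S} (h : F.IsPPrimeResidual p D) (h' : F.IsPPrimeResidual p D') :
    D = D' := by
  apply Same.eq
  refine ⟨rfl, fun P f => ⟨?_, ?_⟩⟩
  · exact isSubsystemOf_iff.1 (h.2.2 D' h'.1 h'.2.1) P f
  · exact isSubsystemOf_iff.1 (h'.2.2 D h.1 h.2.1) P f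

theorem pres_unique {S : Subgroup Ω} [Finite S] (hS : IsPGroup p S) {F : FusionSystem S}
    {D D' : FusionSystem (F.hyperfocalSubgroup p)} (h : F.IsPResidual p D) (h' : F.IsPResidual p D') : D = D' :=
  PIx.unique hS h.1 h'.1 (pix_iff.1 h.2) (pix_iff.1 h'.2)

omit [Fact p.Prime] in
/-- the limit of a stable system is itself -/
theorem limit_stable' {T S : Subgroup Ω} {E : FusionSystem T} {F : FusionSystem S} (h : E.IsResidualLimitOf F p) :
    ∀ (_ : Fact p.Prime) (_ : Finite S) (_ : IsPGroup p S), F.hyperfocalSubgroup p = S → F.IsPPrimeResidual p F → Same E F := by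
  induction h with
  | stable => exact fun _ _ _ _ _ => Same.refl _
  | @step S E F p D D' hD hD' hE ih =>
    intro hp hfin hS h1 h2
    have hDF : Same D F := ⟨h1, PIx.unique' hS h1 hD.1 h2.1 (pix_iff.1 hD.2) (PIx.refl F)⟩
    have hDst : D.hyperfocalSubgroup p = F.hyperfocalSubgroup p :=
      hDF.symm.subst (C := fun {U} K => K.hyperfocalSubgroup p = U) h1
    have hDp : D.IsPPrimeResidual p D := hDF.symm.subst (C := fun {U} K => K.IsPPrimeResidual p K) h2
    have hDD : D' = D := ppr_unique hD' hDp
    subst hDD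
    have hfin' : Finite ↥(F.hyperfocalSubgroup p) := finite_of_le hyp_le
    exact (ih hp hfin' (hS.to_le hyp_le) hDst hDp).trans hDF

theorem limit_stable {T S : Subgroup Ω} {E : FusionSystem T} {F : FusionSystem S} (h : E.IsResidualLimitOf F p)
    (hfin : Finite S) (hS : IsPGroup p S) (h1 : F.hyperfocalSubgroup p = S) (h2 : F.IsPPrimeResidual p F) : Same E F :=
  limit_stable' h inferInstance hfin hS h1 h2

omit [Fact p.Prime] in
/-- the residual limit is unique -/
theorem limit_unique' {T S : Subgroup Ω} {E : FusionSystem T} {F : FusionSystem S} (h : E.IsResidualLimitOf F p) :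
    ∀ (_ : Fact p.Prime) (_ : Finite S) (_ : IsPGroup p S) {T' : Subgroup Ω} {E' : FusionSystem T'},
      E'.IsResidualLimitOf F p → Same E E' := by
  induction h with
  | stable F p h1 h2 =>
    intro hp hfin hS T' E' h'
    exact (limit_stable h' hfin hS h1 h2).symm
  | @step S E F p D D' hD hD' hE ih =>
    intro hp hfin hS T' E' h'
    cases h' with
    | stable _ _ h1 h2 => exact limit_stable (IsResidualLimitOf.step F p D D' hD hD' hE) hfin hS h1 h2
    | step _ _ K K' hK hK' hE' =>
      have e1 : K = D := pres_unique hS hK hD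
      subst e1
      have e2 : K' = D' := ppr_unique hK' hD'
      subst e2
      exact ih hp (finite_of_le hyp_le) (hS.to_le hyp_le) hE'

theorem limit_unique {T S : Subgroup Ω} {E : FusionSystem T} {F : FusionSystem S} (h : E.IsResidualLimitOf F p)
    (hfin : Finite S) (hS : IsPGroup p S) {T' : Subgroup Ω} {E' : FusionSystem T'} (h' : E'.IsResidualLimitOf F p) :
    Same E E' := limit_unique' h inferInstance hfin hS h'

/-- a subsystem of `p`-power index has the same residual limit -/
theorem limit_pix {S T : Subgroup Ω} {F : FusionSystem S} {E : FusionSystem T} [Finite S] (hS : IsPGroup p S)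
    (hF : F.IsSaturated p) (hE : E.IsSaturated p) (h : PIx E F p) {U V : Subgroup Ω} {L : FusionSystem U}
    {L' : FusionSystem V} (hL : L.IsResidualLimitOf F p) (hL' : L'.IsResidualLimitOf E p) : Same L L' := by
  have hTS := h.le
  have hfinT : Finite T := finite_of_le hTS
  have hT := hS.to_le hTS
  have hhyp := h.hyp_eq hS hF
  -- the common `p`-residual
  have hres : ∀ (D : FusionSystem (F.hyperfocalSubgroup p)) (K : FusionSystem (E.hyperfocalSubgroup p)),
      F.IsPResidual p D → E.IsPResidual p K → Same D K := by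
    intro D K hD hK
    have h1 := (pix_iff.1 hK.2).trans h hhyp.ge
    exact ⟨hhyp.symm, PIx.unique' hS hhyp.symm hD.1 hK.1 (pix_iff.1 hD.2) h1⟩
  cases hL with
  | stable _ _ h1 h2 =>
    have hTS' : T = S := le_antisymm hTS (by rw [← h1]; exact h.hyp)
    have h3 : Same F E := ⟨hTS'.symm, PIx.unique' hS hTS'.symm hF hE (PIx.refl F) h⟩
    exact (limit_stable hL' hfinT hT (h3.subst (C := fun {U} K => K.hyperfocalSubgroup p = U) h1)
      (h3.subst (C := fun {U} K => K.IsPPrimeResidual p K) h2)).trans h3.symm |>.symm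
  | step _ _ D D' hD hD' hL1 =>
    cases hL' with
    | stable _ _ h1 h2 =>
      have h3 : Same D E := by
        have h4 : F.hyperfocalSubgroup p = T := by rw [← hhyp, h1]
        exact ⟨h4, PIx.unique' hS h4 hD.1 hE (pix_iff.1 hD.2) h⟩
      have h5 : D.IsPPrimeResidual p D := h3.symm.subst (C := fun {U} K => K.IsPPrimeResidual p K) h2
      have h6 : D' = D := ppr_unique hD' h5
      subst h6
      have h7 : D'.hyperfocalSubgroup p = F.hyperfocalSubgroup p :=
        h3.symm.subst (C := fun {U} K => K.hyperfocalSubgroup p = U) h1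
      exact (limit_stable hL1 (finite_of_le hyp_le) (hS.to_le hyp_le) h7 h5).trans h3
    | step _ _ K K' hK hK' hL2 =>
      have h3 := hres D K hD hK
      have h4 : Same D' K' := by
        obtain ⟨e, h4⟩ := h3
        have gen : ∀ {A B : Subgroup Ω} (e : A = B) {D D' : FusionSystem A} {K K' : FusionSystem B}
            (_ : ∀ P f, Map D P f ↔ Map K P f) (_ : D.IsPPrimeResidual p D') (_ : K.IsPPrimeResidual p K'), Same D' K' := by
          rintro A _ rfl D D' K K' h5 h6 h7
          have : D = K := Same.eq ⟨rfl, h5⟩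
          subst this
          rw [ppr_unique h6 h7]; exact Same.refl _
        exact gen e h4 hD' hK'
      have h5 : L.IsResidualLimitOf K' p := h4.subst (C := fun {U} K => L.IsResidualLimitOf K p) hL1
      have hfin' : Finite ↥(E.hyperfocalSubgroup p) := finite_of_le hyp_le
      exact limit_unique h5 hfin' (hT.to_le hyp_le) hL2

end lim

end Cfsg.Agent.H27.Ix
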