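import Mathlib
import Cfsg.Agent.H27_Ix6
import Cfsg.Agent.H27_Real

/-! Extremely sparse systems. -/

set_option autoImplicit false

namespace Cfsg.Agent.H27.Ix

open Equiv Cfsg.FusionSystem Cfsg.Agent.H27.Fus Cfsg.Agent.H27.Grp

universe u

section
variable {Ω : Type u} [Group Ω] {S P : Subgroup Ω} {F : FusionSystem S} {p : ℕ} [hp : Fact p.Prime]

/-- the system of `P ⋊ ⟨α⟩` -/
theorem exists_semi [Finite P] (hP : IsPGroup p P) (K : Subgroup (MulAut P)) (hK : ¬ p ∣ Nat.card K) :
    ∃ E : FusionSystem P, E.IsSaturated p ∧ ∀ R f, Map E R f ↔ R ≤ P ∧ (∀ x ∈ R, f x ∈ P) ∧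
      ∃ κ ∈ K, ∃ s ∈ P, ∀ x (_ : x ∈ R) (hx : x ∈ P), f x = s * (κ ⟨x, hx⟩ : P) * s⁻¹ := by
  classical
  have hfinK : Finite (MulAut P) := Finite.of_injective (fun α : MulAut P => (α : P → P)) DFunLike.coe_injective
  let φ : ↥K →* MulAut P := K.subtype
  let G' := ↥P ⋊[φ] ↥K
  haveI : Finite G' := Finite.of_equiv _ SemidirectProduct.equivProd.symm
  let ι : P →* G' := SemidirectProduct.inl
  have hinj : Function.Injective ι := SemidirectProduct.inl_injective
  have hsyl : ∃ T : Sylow p G', (T : Subgroup G') = ι.range := by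
    apply sylow_of_index
    · have : ι.range = (⊤ : Subgroup P).map ι := MonoidHom.range_eq_map ι
      rw [this]
      exact (hP.to_subgroup ⊤).map ι |> fun h => by
        exact h
    · have h1 : ι.range = (SemidirectProduct.rightHom : G' →* K).ker := SemidirectProduct.range_inl_eq_ker_rightHom
      rw [h1, Subgroup.index_ker, MonoidHom.range_eq_top.2 SemidirectProduct.rightHom_surjective, Subgroup.card_top]
      exact hK
  obtain ⟨E, hE, hm⟩ := exists_realFS_sat hinj hsyl ⊤ le_top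
  refine ⟨E, hE, fun R f => ?_⟩
  rw [hm]
  have htt : ∀ x (hx : x ∈ P), tt ι x = ι ⟨x, hx⟩ := fun x hx => tt_of_mem ι hx
  have hcj : ∀ (g : G') (y : P), g * ι y * g⁻¹ = ι (g.left * (g.right : MulAut P) y * g.left⁻¹) := by
    intro g y
    have h1 : g = SemidirectProduct.inl g.left * SemidirectProduct.inr g.right := (SemidirectProduct.inl_left_mul_inr_right g).symm
    have h2 : (SemidirectProduct.inr g.right : G') * SemidirectProduct.inl y * (SemidirectProduct.inr g.right)⁻¹ =
        SemidirectProduct.inl (φ g.right y) := by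
      rw [← map_inv, ← SemidirectProduct.inl_aut]
    calc g * ι y * g⁻¹ = SemidirectProduct.inl g.left * ((SemidirectProduct.inr g.right : G') * SemidirectProduct.inl y *
          (SemidirectProduct.inr g.right)⁻¹) * (SemidirectProduct.inl g.left)⁻¹ := by
            conv_lhs => rw [h1]
            show _ * (SemidirectProduct.inl y : G') * _ = _
            rw [mul_inv_rev]; simp only [mul_assoc]
      _ = _ := by rw [h2, ← map_mul, ← map_inv, ← map_mul]; rfl
  constructor
  · rintro ⟨h1, h2, h3, g, -, h4⟩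
    refine ⟨h1, h2, g.right, g.right.2, g.left, g.left.2, fun x hxR hx => ?_⟩
    have h5 := h4 x hxR
    rw [htt x hx, htt _ (h2 x hxR), hcj] at h5
    exact congrArg Subtype.val (hinj h5)
  · rintro ⟨h1, h2, κ, hκ, s, hs, h4⟩
    refine ⟨h1, h2, fun x hx y hy => ?_, ⟨⟨s, hs⟩, ⟨κ, hκ⟩⟩, trivial, fun x hx => ?_⟩
    · have e : (⟨x * y, P.mul_mem (h1 hx) (h1 hy)⟩ : P) = ⟨x, h1 hx⟩ * ⟨y, h1 hy⟩ := rfl
      rw [h4 _ (R.mul_mem hx hy) (P.mul_mem (h1 hx) (h1 hy)), h4 x hx (h1 hx), h4 y hy (h1 hy), e, map_mul,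
        Subgroup.coe_mul]
      group
    · rw [htt x (h1 hx), htt _ (h2 x hx), hcj]
      congr 1
      exact Subtype.ext (h4 x hx (h1 hx))

theorem opR_of_isPGroup {G : Type*} [Group G] {A : Subgroup G} (hA : IsPGroup p A) : opR p A = ⊥ := by
  rw [opR_eq, Subgroup.closure_eq_bot_iff]
  rintro a ⟨ha, hord⟩
  obtain ⟨k, hk⟩ := hA ⟨a, ha⟩
  have h1 : a ^ (p ^ k) = 1 := congrArg Subtype.val hk
  have h2 := orderOf_dvd_of_pow_eq_one h1
  have h3 : orderOf a = 1 := Nat.Coprime.eq_one_of_dvd (hord.pow_right k) h2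
  exact orderOf_eq_one_iff.1 h3

theorem aut_inner {T : Subgroup Ω} {P : Subgroup Ω} (hP : P ≤ T) : (innerFusionSystem T).autGroup P = autInducedBy T P := by
  apply le_antisymm
  · intro α hα
    have h1 := (mem_autGroup_iff hP).1 hα
    obtain ⟨-, s, hs, h2⟩ := map_inner.1 h1.map
    exact mem_autInducedBy.2 ⟨s, hs, fun x => by rw [← h2 x x.2, totA_apply]⟩
  · exact autInducedBy_le_autGroup _ hP

theorem hyp_inner {T : Subgroup Ω} (hT : IsPGroup p T) : (innerFusionSystem T).hyperfocalSubgroup p = ⊥ := by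
  rw [hyp_eq, Subgroup.closure_eq_bot_iff]
  rintro _ ⟨P, α, x, hP, hα, rfl⟩
  rw [aut_inner hP, opR_of_isPGroup (isPGroup_autInducedBy hT), Subgroup.mem_bot] at hα
  rw [hα]
  simp

/-- a saturated system with trivial hyperfocal subgroup is inner -/
theorem inner_of_hyp [Finite S] (hS : IsPGroup p S) (hF : F.IsSaturated p) (h : F.hyperfocalSubgroup p = ⊥) :
    ∀ P f, Map F P f → Map (innerFusionSystem S) P f := by
  refine le_of_res hS hF le_rfl fun P hP => ?_
  intro α hα
  have h1 : α = 1 := by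
    ext x
    have h2 := mem_hyp hP hα x
    rw [h, Subgroup.mem_bot, inv_mul_eq_one] at h2
    exact h2.symm
  rw [h1]; exact one_mem _

end

end Cfsg.Agent.H27.Ix
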