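import Mathlib
import Cfsg.Agent.H27_Pp11

/-! Index prime to `p`, part twelve: normal subsystems from homomorphisms of `Aut_F(T)`. -/

set_option autoImplicit false
set_option linter.all false

namespace Cfsg.Agent.H27.Pp

open Cfsg Cfsg.FusionSystem Cfsg.Agent.H27.Fus Cfsg.Agent.H27.Grp Cfsg.Agent.H27.Ix Cfsg.Agent.H27.Sc

universe u

section
variable {Ω : Type*} [Group Ω] {S T : Subgroup Ω} {P Q R U : Subgroup Ω} {f g b : Ω → Ω} {p : ℕ}

/-- the full subsystem over `T` -/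
def resFS (D : FusionSystem S) (T : Subgroup Ω) (hTS : T ≤ S) : FusionSystem T :=
  mkFS T (fun P f => P ≤ T ∧ (∀ x ∈ P, f x ∈ T) ∧ Map D P f)
    (fun P f g h hfg => ⟨h.1, fun x hx => by rw [← hfg x hx]; exact h.2.1 x hx, h.2.2.congr hfg⟩)
    (fun P f h => ⟨h.1, h.2.1⟩)
    (fun P f h x hx y hy => h.2.2.inj hx hy)
    (fun P t hP ht => ⟨hP, fun x hx => T.mul_mem (T.mul_mem ht (hP hx)) (T.inv_mem ht), map_conj D (hP.trans hTS) (hTS ht)⟩)
    (fun P Q f g hf hg h => ⟨hf.1, fun x hx => hg.2.1 _ (h x hx), hg.2.2.comp hf.2.2 h⟩)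
    (fun P f R hf hmul hR => ⟨finv P f, by
      have h1 : R = im P f := by
        ext y; rw [hR, hf.2.2.mem_im]
      rw [h1]
      refine ⟨fun y hy => ?_, fun y hy => hf.1 (hf.2.2.iso.finv_mem hy), hf.2.2.iso.symm.map⟩
      obtain ⟨x, hx, rfl⟩ := hf.2.2.mem_im.1 hy
      exact hf.2.1 x hx, fun x hx => hf.2.2.iso.finv_left hx⟩)

theorem map_resFS {D : FusionSystem S} {hTS : T ≤ S} : Map (resFS D T hTS) P f ↔ P ≤ T ∧ (∀ x ∈ P, f x ∈ T) ∧ Map D P f :=
  map_mkFS fun P f h x hx y hy => h.2.2.mul hx hy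

variable {F : FusionSystem S} {E D : FusionSystem T}

/-- the properties of the kernel -/
structure NN (F : FusionSystem S) (E : FusionSystem T) (p : ℕ) (N : Subgroup (MulAut T)) : Prop where
  le : N ≤ F.autGroup T
  ge : E.autGroup T ≤ N
  conj : ∀ a ∈ F.autGroup T, ∀ n ∈ N, a * n * a⁻¹ ∈ N
  pow : ∀ a ∈ F.autGroup T, ∀ k : ℕ, a ^ (p ^ k) ∈ N → a ∈ N

variable {N : Subgroup (MulAut T)} [Fact p.Prime] [Finite S]

theorem mem_N (hS : IsPGroup p S) (hE : E.IsSaturated p) (hI : Inv E F) (hN : NN F E p N)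
    {γ : MulAut T} (hγ : γ ∈ F.autGroup T) (hR : R ∈ FC F T) (h : Map E R (totA γ)) : γ ∈ N := by
  have hTS := hI.strong.1
  have hfinT : Finite T := finite_of_le hTS
  have hTp : IsPGroup p T := hS.to_le hTS
  have hfinM : Finite (MulAut T) := Finite.of_injective (fun α : MulAut T => (α : T → T)) DFunLike.coe_injective
  obtain ⟨k, m, hm, hkm⟩ := Nat.exists_eq_pow_mul_and_not_dvd (n := orderOf γ) (orderOf_pos γ).ne' p (Fact.out : p.Prime).ne_one
  refine hN.pow γ hγ k (hN.ge ?_)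
  have hpr : ∀ α ∈ F.autGroup T, Pr (totA α) E := pr_of_inv hI
  have h1 := pow_in hpr hγ hR.1 h (p ^ k)
  refine top_mem_of (climb hTp (climb_inv hTp hI hE (le_refl (F.autGroup T))) _ R rfl hR _ (pow_mem hγ _) ⟨m, ?_, ?_⟩ h1)
  · exact ((Nat.Prime.coprime_iff_not_dvd Fact.out).2 hm).symm
  · rw [← pow_mul, ← hkm, pow_orderOf_eq_one]; exact one_mem _

/-- the family -/
def HT (F : FusionSystem S) (E : FusionSystem T) : Set (Subgroup Ω) := {P | F.IsCentric P ∧ E.IsCentric (P ⊓ T)}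

theorem im_inf (hT : F.StronglyClosed T) (hf : Map F P f) : im (P ⊓ T) f = im P f ⊓ T := by
  ext y
  rw [(hf.mono inf_le_left).mem_im]
  constructor
  · rintro ⟨x, hx, rfl⟩
    exact ⟨hf.apply_mem_im hx.1, (StronglyClosed.mem_iff hT hf hx.1).2 hx.2⟩
  · rintro ⟨h1, h2⟩
    obtain ⟨x, hx, rfl⟩ := hf.mem_im.1 h1
    exact ⟨x, ⟨hx, (StronglyClosed.mem_iff hT hf hx).1 h2⟩, rfl⟩

theorem HT_fc (hI : Inv E F) (hP : P ∈ HT F E) : P ⊓ T ∈ FC F T := by
  have hfinT : Finite T := finite_of_le hI.strong.1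
  exact (fc_iff hI).1 hP.2

theorem fam_HT (hS : IsPGroup p S) (hF : F.IsSaturated p) (hI : Inv E F) : Fam F p (HT F E) where
  conj P hP Q hQ := by
    have hfinT : Finite T := finite_of_le hI.strong.1
    refine ⟨IsCentric.conj hP.1 hQ, (fc_iff hI).2 (fc_conj hI.strong (HT_fc hI hP) ?_)⟩
    obtain ⟨f, hf⟩ := isConj_iff.1 hQ
    have h := im_inf hI.strong hf.map
    rw [hf.im_eq] at h
    rw [← h]
    exact (hf.map.mono inf_le_left).iso.isConj
  up P hP Q hPQ hQ := by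
    have hfinT : Finite T := finite_of_le hI.strong.1
    exact ⟨IsCentric.mono hP.1 hPQ hQ, IsCentric.mono hP.2 (inf_le_inf_right _ hPQ) inf_le_right⟩
  cen P hP := hP.1
  star P hP hPℋ := by
    by_cases h : F.IsCentric P
    · exact star_of_noncentric hS hF hI.strong hI.sub hP fun h2 => hPℋ ⟨h, h2⟩
    · exact (fam_centric (F := F) (p := p)).star P hP h

def YM (F : FusionSystem S) (E : FusionSystem T) (N : Subgroup (MulAut T)) (P : Subgroup Ω) (f : Ω → Ω) : Prop :=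
  Map F P f ∧ (P ∈ HT F E → ∃ a ∈ N, ∃ e, Map E (P ⊓ T) e ∧ ∀ x ∈ P ⊓ T, f x = totA a (e x))

/-- composition of decompositions -/
theorem dec_comp (hI : Inv E F) {a a' : MulAut T} (ha : a ∈ F.autGroup T) {P Q : Subgroup Ω} {e e' f g : Ω → Ω}
    (he : Map E P e) (he' : Map E Q e') (hf : ∀ x ∈ P, f x = totA a (e x)) (hg : ∀ x ∈ Q, g x = totA a' (e' x))
    (h : ∀ x ∈ P, f x ∈ Q) : ∃ k, Map E P k ∧ ∀ x ∈ P, g (f x) = totA (a' * a) (k x) := by
  obtain ⟨k, hk, h1⟩ := pr_of_inv hI a⁻¹ (inv_mem ha) Q e' he'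
  have hU := (univ_aut a⁻¹ (le_refl T)).map
  have h2 : ∀ x ∈ P, e x = totA a⁻¹ (f x) := fun x hx => by rw [hf x hx, totA_inv_self (he.mem hx)]
  refine ⟨k ∘ e, hk.comp he fun x hx => ?_, fun x hx => ?_⟩
  · rw [h2 x hx]; exact (hU.mono he'.le).apply_mem_im (h x hx)
  · have h3 := he'.mem (h x hx)
    show g (f x) = totA (a' * a) (k (e x))
    rw [hg _ (h x hx), h2 x hx, h1 _ (h x hx), totA_mul (totA_mem h3), totA_self_inv h3]

def YFS (hS : IsPGroup p S) (hF : F.IsSaturated p) (hI : Inv E F) (hN : NN F E p N) : FusionSystem S :=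
  mkFS S (YM F E N)
    (fun P f g h hfg => ⟨h.1.congr hfg, fun hP => by
      obtain ⟨a, ha, e, he, h1⟩ := h.2 hP
      exact ⟨a, ha, e, he, fun x hx => by rw [← hfg x hx.1]; exact h1 x hx⟩⟩)
    (fun P f h => ⟨h.1.le, fun x hx => h.1.mem hx⟩)
    (fun P f h x hx y hy => h.1.inj hx hy)
    (fun P s hP hs => ⟨map_conj F hP hs, fun hP' => by
      have hsT : s ∈ Subgroup.normalizer (T : Set Ω) := (StronglyClosed.le_normalizer hI.strong hs).2
      have hcF : cjA T s hsT ∈ F.autGroup T := autInducedBy_le_autGroup F hI.strong.1 (cjA_mem hsT hs)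
      obtain ⟨k, hk⟩ := exists_pow_card (p := p) hS
      refine ⟨cjA T s hsT, hN.pow _ hcF k ?_, id, map_id E inf_le_right, fun x hx => ?_⟩
      · have e : cjA T s hsT ^ (p ^ k) = 1 := by
          unfold cjA
          rw [← map_pow]
          have : (⟨s, hsT⟩ : ↥(Subgroup.normalizer (T : Set Ω))) ^ (p ^ k) = 1 := Subtype.ext (hk s hs)
          rw [this, map_one]
        rw [e]; exact one_mem _
      · exact (totA_of_mem (cjA T s hsT) hx.2).symm⟩)
    (fun P Q f g hf hg h => ⟨hg.1.comp hf.1 h, fun hP => by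
      have h1 : im P f ∈ HT F E := (fam_HT hS hF hI).conj P hP _ hf.1.iso.isConj
      have h2 : im P f ≤ Q := fun y hy => by
        obtain ⟨x, hx, rfl⟩ := hf.1.mem_im.1 hy
        exact h x hx
      have hQ : Q ∈ HT F E := (fam_HT hS hF hI).up _ h1 _ h2 hg.1.le
      obtain ⟨a, ha, e, he, h3⟩ := hf.2 hP
      obtain ⟨a', ha', e', he', h3'⟩ := hg.2 hQ
      obtain ⟨k, hk, h4⟩ := dec_comp hI (hN.le ha) he he' h3 h3' fun x hx =>
        ⟨h x hx.1, (StronglyClosed.mem_iff hI.strong hf.1 hx.1).2 hx.2⟩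
      exact ⟨a' * a, mul_mem ha' ha, k, hk, h4⟩⟩)
    (fun P f R hf hmul hR => ⟨finv P f, by
      have h1 : R = im P f := by
        ext y; rw [hR, hf.1.mem_im]
      rw [h1]
      refine ⟨hf.1.iso.symm.map, fun hP => ?_⟩
      have hP' : P ∈ HT F E := (fam_HT hS hF hI).conj _ hP _ (isConj_symm hf.1.iso.isConj)
      obtain ⟨a, ha, e, he, h3⟩ := hf.2 hP'
      obtain ⟨k, hk, h4⟩ := pr_of_inv hI a (hN.le ha) _ _ he.iso.symm.map
      have e1 : im (im (P ⊓ T) e) (totA a) = im P f ⊓ T := by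
        rw [← im_inf hI.strong hf.1, ← im_comp (univ_of he) ((univ_aut a (le_refl T)).map.mono he.im_le)]
        exact im_congr fun x hx => (h3 x hx).symm
      rw [e1] at hk
      refine ⟨a⁻¹, inv_mem ha, k, hk, fun y hy => ?_⟩
      obtain ⟨x, hx, rfl⟩ := (hf.1.mono (inf_le_left : P ⊓ T ≤ P)).mem_im.1 (by rw [im_inf hI.strong hf.1]; exact hy)
      rw [hf.1.iso.finv_left hx.1, h3 x hx, h4 _ (he.apply_mem_im hx), he.iso.finv_left hx, totA_inv_self hx.2], fun x hx => hf.1.iso.finv_left hx⟩)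

theorem map_YFS {hS : IsPGroup p S} {hF : F.IsSaturated p} {hI : Inv E F} {hN : NN F E p N} :
    Map (YFS hS hF hI hN) P f ↔ YM F E N P f :=
  map_mkFS fun P f h x hx y hy => h.1.mul hx hy

theorem opp_le_Y (hS : IsPGroup p S) (hF : F.IsSaturated p) (hE : E.IsSaturated p) (hI : Inv E F) (hN : NN F E p N)
    (hP : P ∈ HT F E) : Opp F p P ≤ (YFS hS hF hI hN).autGroup P := by
  have hPS := hP.1.1
  have hTS := hI.strong.1
  rw [Opp, Subgroup.closure_le]
  rintro α ⟨hα, k, hk⟩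
  have hαF := ((mem_autGroup_iff hPS).1 hα).map
  obtain ⟨a, g, ha, hg, h1⟩ := hI.frat (P ⊓ T) (totA α) inf_le_right (hαF.mono inf_le_left)
  have haA : ha.aut ∈ F.autGroup T := ha.aut_mem
  have h1' : ∀ x ∈ P ⊓ T, totA α x = totA ha.aut (g x) := fun x hx => by
    rw [h1 x hx, totA_of_mem _ (hg.mem hx)]; rfl
  have hmem : ∀ j : ℕ, ∀ x ∈ P ⊓ T, totA (α ^ j) x ∈ P ⊓ T := fun j x hx => by
    have h2 := ((mem_autGroup_iff hPS).1 (pow_mem hα j)).map
    exact ⟨totA_mem hx.1, (StronglyClosed.mem_iff hI.strong h2 hx.1).2 hx.2⟩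
  have key : ∀ j : ℕ, ∃ g', Map E (P ⊓ T) g' ∧ ∀ x ∈ P ⊓ T, totA (α ^ j) x = totA (ha.aut ^ j) (g' x) := by
    intro j
    induction j with
    | zero => exact ⟨id, map_id E inf_le_right, fun x hx => by rw [pow_zero, pow_zero, totA_one hx.1]; exact (totA_one hx.2).symm⟩
    | succ j ih =>
      obtain ⟨g', hg', h2⟩ := ih
      obtain ⟨k, hk, h3⟩ := dec_comp hI (pow_mem haA j) hg' hg h2 h1' (hmem j)
      refine ⟨k, hk, fun x hx => ?_⟩
      rw [pow_succ', pow_succ', totA_mul hx.1, h3 x hx]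
  obtain ⟨g', hg', h2⟩ := key (p ^ k)
  have hN' : (ha.aut ^ (p ^ k))⁻¹ ∈ N := by
    refine mem_N hS hE hI hN (inv_mem (pow_mem haA _)) (HT_fc hI hP) (hg'.congr fun x hx => ?_)
    have h3 := h2 x hx
    rw [← hk, pow_orderOf_eq_one, totA_one hx.1] at h3
    rw [hk] at h3
    rw [h3, totA_inv_self (hg'.mem hx)]
    rw [← h3]
  have hN'' : ha.aut ∈ N := hN.pow _ haA k (by simpa using N.inv_mem hN')
  exact mem_autGroup_of (f := totA α) (map_YFS.2 ⟨hαF, fun _ => ⟨ha.aut, hN'', g, hg, h1'⟩⟩) fun x => (totA_apply α x).symm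

end

end Cfsg.Agent.H27.Pp
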