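import Mathlib
import Cfsg.Agent.H27_Pp12

/-! Index prime to `p`, part thirteen: the normal subsystem attached to a homomorphism of `Aut_F(T)`. -/

set_option autoImplicit false
set_option linter.all false

namespace Cfsg.Agent.H27.Pp

open Cfsg Cfsg.FusionSystem Cfsg.Agent.H27.Fus Cfsg.Agent.H27.Grp Cfsg.Agent.H27.Ix Cfsg.Agent.H27.Sc

universe u

section
variable {Ω : Type*} [Group Ω] {S T : Subgroup Ω} {P Q R U : Subgroup Ω} {f g b : Ω → Ω} {p : ℕ}
variable {F : FusionSystem S} {E D : FusionSystem T}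
variable {N : Subgroup (MulAut T)} [Fact p.Prime] [Finite S]

/-- the automorphisms of `S` restricting into `N` -/
def HN (F : FusionSystem S) (hTS : T ≤ S) (N : Subgroup (MulAut T)) : Subgroup (MulAut S) where
  carrier := {α | α ∈ F.autGroup S ∧ ∃ β ∈ N, ∀ t : T, ((β t : T) : Ω) = α ⟨t, hTS t.2⟩}
  one_mem' := ⟨one_mem _, 1, one_mem _, fun t => rfl⟩
  mul_mem' := by
    rintro α α' ⟨h1, β, hβ, h2⟩ ⟨k1, β', hβ', k2⟩
    refine ⟨mul_mem h1 k1, β * β', mul_mem hβ hβ', fun t => ?_⟩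
    have e : (⟨(β' t : Ω), hTS (β' t).2⟩ : S) = α' ⟨t, hTS t.2⟩ := Subtype.ext (k2 t)
    rw [MulAut.mul_apply, MulAut.mul_apply, h2, e]
  inv_mem' := by
    rintro α ⟨h1, β, hβ, h2⟩
    refine ⟨inv_mem h1, β⁻¹, inv_mem hβ, fun t => ?_⟩
    have h3 := h2 (β⁻¹ t)
    rw [MulAut.apply_inv_self] at h3
    have h4 : (⟨(t : Ω), hTS t.2⟩ : S) = α ⟨(β⁻¹ t : T), hTS (β⁻¹ t).2⟩ := Subtype.ext h3
    rw [h4, MulAut.inv_apply_self]

theorem HN_le {hTS : T ≤ S} : HN F hTS N ≤ F.autGroup S := fun α h => h.1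

/-- restriction of an automorphism of `S` to `T` -/
theorem exists_rest (hT : F.StronglyClosed T) {α : MulAut S} (hα : α ∈ F.autGroup S) :
    ∃ β ∈ F.autGroup T, ∀ t : T, ((β t : T) : Ω) = α ⟨t, hT.1 t.2⟩ := by
  have h1 := ((mem_autGroup_iff le_rfl).1 hα).map
  have h2 := StronglyClosed.im_eq hT h1 hT.1
  have h3 : Iso F T T (totA α) := (h1.mono hT.1).iso_of_im_eq h2
  refine ⟨h3.aut, h3.aut_mem, fun t => ?_⟩
  rw [Iso.aut_apply, totA_of_mem α (hT.1 t.2)]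

theorem hn_of_gen (hS : IsPGroup p S) (hF : F.IsSaturated p) (hE : E.IsSaturated p) (hI : Inv E F) (hN : NN F E p N) :
    ∀ α ∈ F.autGroup S, ∀ P ∈ HT F E, Map (Gen F p (HT F E)) P (totA α) → α ∈ HN F hI.strong.1 N := by
  intro α hα P hP h
  have h1 : Map (YFS hS hF hI hN) P (totA α) := gen_le (fun Q hQ => opp_le_Y hS hF hE hI hN hQ) h
  obtain ⟨-, h2⟩ := map_YFS.1 h1
  obtain ⟨a, ha, e, he, h3⟩ := h2 hP
  obtain ⟨β, hβ, h4⟩ := exists_rest hI.strong hα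
  have h5 : a⁻¹ * β ∈ N := by
    refine mem_N hS hE hI hN (mul_mem (inv_mem (hN.le ha)) hβ) (HT_fc hI hP) (he.congr fun x hx => ?_)
    have e1 : totA β x = totA α x := by
      rw [totA_of_mem β hx.2, h4, totA_of_mem α (hI.strong.1 hx.2)]
    rw [totA_mul hx.2, e1, h3 x hx, totA_inv_self (he.mem hx)]
  refine ⟨hα, β, ?_, h4⟩
  have := mul_mem ha h5
  rwa [mul_inv_cancel_left] at this

theorem U_mem (hS : IsPGroup p S) (hF : F.IsSaturated p) (hI : Inv E F) : PC S T T ∈ HT F E := by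
  have hT := hI.strong
  have hTS := hT.1
  have hfinT : Finite T := finite_of_le hTS
  have hUS : PC S T T ≤ S := PC_le hTS le_rfl
  have hTU : T ≤ PC S T T := le_sup_left
  refine ⟨⟨hUS, fun R hR => ?_⟩, ?_⟩
  · obtain ⟨f, hf⟩ := isConj_iff.1 hR
    have h1 : im T f = T := StronglyClosed.im_eq hT hf.map hTU
    have h2 : T ≤ R := by
      rw [← hf.im_eq]
      conv_lhs => rw [← h1]
      exact hf.map.im_mono hTU
    have hi : Iso F T T f := (hf.map.mono hTU).iso_of_im_eq h1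
    have hfin : Finite (centralizerIn S T) := finite_of_le cen_le
    have h3 := iso_of_card_le (hf.map.mono (le_sup_right : centralizerIn S T ≤ _))
      (fun c hc => hf.map.cen_mem' hi hTU (Subgroup.mem_sup_right hc) hc) le_rfl
    have h4 : centralizerIn S T ≤ R := by
      rw [← hf.im_eq]
      conv_lhs => rw [← h3.im_eq]
      exact hf.map.im_mono le_sup_right
    exact (cen_anti h2).trans h4
  · rw [inf_eq_right.2 hTU]
    exact top_centric E

/-- splitting automorphisms of `T` -/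
theorem split_T (hS : IsPGroup p S) (hF : F.IsSaturated p) (hE : E.IsSaturated p) (hI : Inv E F) (hN : NN F E p N)
    {a : MulAut T} (ha : a ∈ F.autGroup T) : ∃ α ∈ F.autGroup S, ∃ g, Map (Gen F p (HT F E)) T g ∧
      (∀ x ∈ T, totA a x = totA α (g x)) ∧ (a ∈ N → α ∈ HN F hI.strong.1 N) ∧ (α ∈ HN F hI.strong.1 N → a ∈ N) := by
  have hT := hI.strong
  have hTS := hT.1
  have hfinT : Finite T := finite_of_le hTS
  have hTU : T ≤ PC S T T := le_sup_left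
  obtain ⟨â, hâ, hâ1, -, -⟩ := exists_hat hS hF hT ((mem_autGroup_iff hTS).1 ha)
  have hFam := fam_HT hS hF hI
  obtain ⟨α, hα, g, hg, h1⟩ := frat_gen hS hF hFam _ _ hâ.map
  have h2 : Map (YFS hS hF hI hN) (PC S T T) g := gen_le (fun Q hQ => opp_le_Y hS hF hE hI hN hQ) hg
  obtain ⟨-, h3⟩ := map_YFS.1 h2
  obtain ⟨n, hn, e, he, h4⟩ := h3 (U_mem hS hF hI)
  rw [inf_eq_right.2 hTU] at he h4
  have heT : Iso E T T e := he.iso_of_im_eq (eq_of_le_of_card_le he.im_le he.card_im.ge)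
  have heN : heT.aut ∈ N := hN.ge heT.aut_mem
  obtain ⟨β, hβ, h5⟩ := exists_rest hT hα
  have h6 : ∀ x ∈ T, totA a x = totA α (g x) := fun x hx => by rw [← hâ1 x hx, h1 x (hTU hx)]
  have h7 : a = β * (n * heT.aut) := by
    ext x
    have e1 := h6 x x.2
    rw [h4 x x.2, totA_apply] at e1
    have e2 : totA n (e x) ∈ T := totA_mem (he.mem x.2)
    rw [e1, totA_of_mem α (hTS e2), ← h5 ⟨_, e2⟩]
    have e3 : (⟨totA n (e x), e2⟩ : T) = (n * heT.aut) x := Subtype.ext (by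
      show totA n (e x) = ((n (heT.aut x) : T) : Ω)
      rw [← totA_apply n (heT.aut x)]; rfl)
    rw [e3]; rfl
  have hne : n * heT.aut ∈ N := mul_mem hn heN
  refine ⟨α, hα, g, hg.mono hTU, h6, fun haN => ⟨hα, β, ?_, h5⟩, fun hαN => ?_⟩
  · have : β = a * (n * heT.aut)⁻¹ := by rw [h7, mul_inv_cancel_right]
    rw [this]; exact mul_mem haN (inv_mem hne)
  · obtain ⟨-, β', hβ', h8⟩ := hαN
    have e : β = β' := by
      ext t; rw [h5, h8]
    rw [h7, e]; exact mul_mem hβ' hne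

theorem HN_conj (hT : F.StronglyClosed T) (hN : NN F E p N) {a α : MulAut S} (ha : a ∈ F.autGroup S) (hα : α ∈ HN F hT.1 N) :
    a * α * a⁻¹ ∈ HN F hT.1 N := by
  obtain ⟨h1, β, hβ, h2⟩ := hα
  obtain ⟨c, hc, h3⟩ := exists_rest hT ha
  have h3' : ∀ t : T, ((c⁻¹ t : T) : Ω) = a⁻¹ ⟨t, hT.1 t.2⟩ := fun t => by
    have h4 := h3 (c⁻¹ t)
    rw [MulAut.apply_inv_self] at h4
    have h5 : (⟨(t : Ω), hT.1 t.2⟩ : S) = a ⟨(c⁻¹ t : T), hT.1 (c⁻¹ t).2⟩ := Subtype.ext h4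
    rw [h5, MulAut.inv_apply_self]
  refine ⟨mul_mem (mul_mem ha h1) (inv_mem ha), c * β * c⁻¹, hN.conj c hc β hβ, fun t => ?_⟩
  have e1 : (⟨(c⁻¹ t : T), hT.1 (c⁻¹ t).2⟩ : S) = a⁻¹ ⟨t, hT.1 t.2⟩ := Subtype.ext (h3' t)
  have e2 : (⟨(β (c⁻¹ t) : T), hT.1 (β (c⁻¹ t)).2⟩ : S) = α (a⁻¹ ⟨t, hT.1 t.2⟩) := Subtype.ext (by rw [h2, e1])
  show ((c (β (c⁻¹ t)) : T) : Ω) = ((a (α (a⁻¹ ⟨t, hT.1 t.2⟩)) : S) : Ω)
  rw [h3, e2]

theorem s5243 (hS : IsPGroup p S) (hF : F.IsSaturated p) (hE : E.IsSaturated p) (hI : Inv E F) (hN : NN F E p N) :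
    ∃ F₀ : FusionSystem S, F₀.IsNormalIn F p ∧ (N ≠ F.autGroup T → ¬ ∀ P, F₀.Hom P = F.Hom P) ∧ E.IsSubsystemOf F₀ ∧
      F₀.autGroup S = HN F hI.strong.1 N ∧ ∀ R : FusionSystem S, F.IsPPrimeResidual p R → R.IsSubsystemOf F₀ := by
  have hT := hI.strong
  have hTS := hT.1
  have hfinT : Finite T := finite_of_le hTS
  have hTp : IsPGroup p T := hS.to_le hTS
  have hFam := fam_HT hS hF hI
  have hgenH := hn_of_gen hS hF hE hI hN
  set F₀ := EH F p (HT F E) hFam (HN F hI.strong.1 N) HN_le with hF₀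
  have hsat : F₀.IsSaturated p := EH_saturated hS hF hgenH
  have htop : F₀.autGroup S = HN F hI.strong.1 N := EH_top hgenH
  refine ⟨F₀, ?_, fun hne h => hne ?_, ?_, htop, fun R hR => ?_⟩
  · refine normalIn_iff.2 ⟨hsat, hF, ⟨fun P f h => EH_sub h, stronglyClosed_iff.2 ⟨le_rfl, fun P f hf x hx _ => hf.mem hx⟩,
      fun P f a hf ha => ?_, fun P f hP hf => ?_⟩, fun a ha => ?_⟩
    · obtain ⟨α, hα, k, hk, h1⟩ := map_EH.1 hf
      obtain ⟨g, hg, h2⟩ := gen_pr_aut hFam ha P k hk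
      have hae : ∀ x ∈ S, totA ha.aut x = a x := fun x hx => totA_of_mem _ hx
      refine ⟨totA (ha.aut * α * ha.aut⁻¹) ∘ g, map_EH.2 ⟨_, HN_conj hT hN ha.aut_mem hα, g, hg, fun x hx => rfl⟩, fun x hx => ?_⟩
      have hkx := hk.mem hx
      show totA (ha.aut * α * ha.aut⁻¹) (g (a x)) = a (f x)
      rw [h2 x hx, ← hae _ hkx, totA_mul (totA_mem hkx), totA_inv_self hkx, totA_mul hkx, ← h1 x hx, hae _ (hf.mem hx)]
    · obtain ⟨α, hα, g, hg, h1⟩ := frat_gen hS hF hFam P f hf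
      exact ⟨totA α, g, (mem_autGroup_iff le_rfl).1 hα, gen_EH hg, h1⟩
    · have haF : Iso F S S a := (EH_sub ha.map).iso_of_im_eq ha.im_eq
      have e : S ⊔ centralizerIn S S = S := sup_eq_left.2 cen_le
      refine ⟨a, by rw [e]; exact haF, fun x _ => rfl, fun c hc => ?_⟩
      have hac : a c ∈ centralizerIn S S := by
        have := haF.map.cen_mem le_rfl hc.1 hc
        rwa [haF.im_eq] at this
      have := (centralizerIn S S).mul_mem ((centralizerIn S S).inv_mem hc) hac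
      exact this
  · refine le_antisymm hN.le fun a ha => ?_
    obtain ⟨α, hα, g, hg, h1, -, h2⟩ := split_T hS hF hE hI hN ha
    refine h2 ?_
    rw [← htop]
    exact mem_autGroup_of (map_of_le (h S).ge ((mem_autGroup_iff le_rfl).1 hα).map) fun x => (totA_apply α x).symm
  · refine isSubsystemOf_iff.2 fun P f hf => ?_
    obtain ⟨β, hβ, k, hk, h1⟩ := frat_gen hTp hE fam_centric P f hf
    have hk' : Map (resFS F₀ T hTS) P k := by
      refine gen_le (fun Q hQ α hα => ?_) hk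
      have hQT : Q ≤ T := hQ.1
      have h2 : α ∈ F₀.autGroup Q := opp_EH hS hF (hQT.trans hTS)
        (opp_mono (autGroup_mono_of_sub hI.sub hTS hQT) hα)
      refine mem_autGroup_of (f := totA α) (map_resFS.2 ⟨hQT, fun x hx => hQT (totA_mem hx),
        ((mem_autGroup_iff (hQT.trans hTS)).1 h2).map⟩) fun x => (totA_apply α x).symm
    obtain ⟨-, hk1, hk2⟩ := map_resFS.1 hk'
    have hβF : β ∈ F.autGroup T := autGroup_mono_of_sub hI.sub hTS le_rfl hβ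
    obtain ⟨α, hα, g, hg, h2, h3, -⟩ := split_T hS hF hE hI hN hβF
    have h4 : Map F₀ T (totA β) := map_EH.2 ⟨α, h3 (hN.ge hβ), g, hg, h2⟩
    exact (h4.comp hk2 hk1).congr fun x hx => (h1 x hx).symm
  · exact hR.2.2 F₀ hsat (ppi_iff.2 ⟨fun P f h => EH_sub h, fun P hP => opp_EH hS hF hP⟩)

end

end Cfsg.Agent.H27.Pp
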