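import Mathlib
import Cfsg.Agent.H27_Pp13
import Cfsg.Agent.H27_Ix7

/-! Residual theory, part one: extension of `p'`-automorphisms modulo a strongly closed subgroup. -/

set_option autoImplicit false
set_option linter.all false

namespace Cfsg.Agent.H27.Pp

open Cfsg Cfsg.FusionSystem Cfsg.Agent.H27.Fus Cfsg.Agent.H27.Grp Cfsg.Agent.H27.Ix Cfsg.Agent.H27.Sc

universe u

theorem coprime_pow {G : Type*} [Group G] {p : ℕ} (hp : p.Prime) {g : G} (hg : 0 < orderOf g) {m : ℕ} (hm : m.Coprime p) :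
    ∃ j : ℕ, j ≡ 1 [MOD m] ∧ (orderOf (g ^ j)).Coprime p := by
  obtain ⟨k, m', hm', hkm⟩ := Nat.exists_eq_pow_mul_and_not_dvd (n := orderOf g) hg.ne' p hp.ne_one
  obtain ⟨j, hj1, hj2⟩ := Nat.chineseRemainder (hm.pow_right k) 1 0
  refine ⟨j, hj1, ?_⟩
  have h1 : p ^ k ∣ j := (Nat.modEq_zero_iff_dvd).1 hj2
  have h2 : (g ^ j) ^ m' = 1 := by
    rw [← pow_mul]
    apply orderOf_dvd_iff_pow_eq_one.1
    rw [hkm]
    exact Nat.mul_dvd_mul_right h1 m'
  exact Nat.Coprime.coprime_dvd_left (orderOf_dvd_of_pow_eq_one h2) ((Nat.Prime.coprime_iff_not_dvd hp).2 hm').symm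

section
variable {Ω : Type*} [Group Ω] {S T : Subgroup Ω} {P Q R U : Subgroup Ω} {f g b : Ω → Ω} {p : ℕ}
variable {F : FusionSystem S} [Fact p.Prime] [Finite S]

/-- restriction to a strongly closed subgroup -/
theorem exists_restT (hT : F.StronglyClosed T) (hTR : T ≤ R) (hRS : R ≤ S) {γ : MulAut R} (hγ : γ ∈ F.autGroup R) :
    ∃ β ∈ F.autGroup T, (∀ t : T, ((β t : T) : Ω) = γ ⟨t, hTR t.2⟩) ∧ orderOf β ∣ orderOf γ := by
  have h1 := ((mem_autGroup_iff hRS).1 hγ).map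
  have h2 := StronglyClosed.im_eq hT h1 hTR
  have h3 : Iso F T T (totA γ) := (h1.mono hTR).iso_of_im_eq h2
  have h4 : ∀ t : T, ((h3.aut t : T) : Ω) = γ ⟨t, hTR t.2⟩ := fun t => by
    rw [Iso.aut_apply, totA_of_mem γ (hTR t.2)]
  refine ⟨h3.aut, h3.aut_mem, h4, orderOf_dvd_of_pow_eq_one ?_⟩
  have h5 : ∀ n : ℕ, ∀ t : T, (((h3.aut ^ n) t : T) : Ω) = (γ ^ n) ⟨t, hTR t.2⟩ := by
    intro n
    induction n with
    | zero => intro t; rfl
    | succ n ih =>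
      intro t
      rw [pow_succ, pow_succ, MulAut.mul_apply, MulAut.mul_apply, ih]
      congr 2
      exact Subtype.ext (h4 t)
  ext t
  rw [h5, pow_orderOf_eq_one]; rfl

/-- extension of a `p'`-automorphism modulo a strongly closed subgroup -/
theorem ext_coprime_mod (hS : IsPGroup p S) (hF : F.IsSaturated p) (hT : F.StronglyClosed T) (hP : P ≤ S)
    {α : MulAut P} (hα : α ∈ F.autGroup P) (hord : (orderOf α).Coprime p) :
    ∃ γ ∈ F.autGroup (P ⊔ T), (orderOf γ).Coprime p ∧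
      ∀ x : P, ((γ ⟨x, Subgroup.mem_sup_left x.2⟩ : ↥(P ⊔ T)) : Ω)⁻¹ * (α x : P) ∈ T := by
  have hαi := (mem_autGroup_iff hP).1 hα
  obtain ⟨g, hg, hg1⟩ := ext_mod hS hF hT P (totA α) hαi.map
  have hle : P ⊔ T ≤ S := hg.le
  have hfin : Finite ↥(P ⊔ T) := finite_of_le hle
  have hgT : ∀ x ∈ T, g x ∈ T := fun x hx => (StronglyClosed.mem_iff hT hg (Subgroup.mem_sup_right hx)).2 hx
  have hm : ∀ x ∈ P ⊔ T, g x ∈ P ⊔ T := by
    refine hg.maps_sup (fun x hx => ?_) fun x hx => Subgroup.mem_sup_right (hgT x hx)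
    have h1 := hg1 x hx
    have e : g x = totA α x * ((g x)⁻¹ * totA α x)⁻¹ := by group
    rw [e]
    exact Subgroup.mul_mem _ (Subgroup.mem_sup_left (totA_mem hx)) (Subgroup.mem_sup_right (T.inv_mem h1))
  have hgi : Iso F (P ⊔ T) (P ⊔ T) g := iso_of_card_le hg hm le_rfl
  set G := hgi.aut with hG
  have hGF : G ∈ F.autGroup (P ⊔ T) := hgi.aut_mem
  have hGT : ∀ n : ℕ, ∀ x (hx : x ∈ T), (((G ^ n) ⟨x, Subgroup.mem_sup_right hx⟩ : ↥(P ⊔ T)) : Ω) ∈ T := by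
    intro n x hx
    have h1 := ((mem_autGroup_iff hle).1 (pow_mem hGF n)).map
    have h2 := (StronglyClosed.mem_iff hT h1 (Subgroup.mem_sup_right hx)).2 hx
    rwa [totA_of_mem _ (Subgroup.mem_sup_right hx)] at h2
  have key : ∀ n : ℕ, ∀ x : P, (((G ^ n) ⟨x, Subgroup.mem_sup_left x.2⟩ : ↥(P ⊔ T)) : Ω)⁻¹ * ((α ^ n) x : P) ∈ T := by
    intro n
    induction n with
    | zero => intro x; simp
    | succ n ih =>
      intro x
      have h1 : (g x)⁻¹ * totA α x ∈ T := hg1 x x.2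
      rw [totA_apply] at h1
      set t := (g x)⁻¹ * (α x : P) with ht
      have e1 : G ⟨x, Subgroup.mem_sup_left x.2⟩ = ⟨(α x : P), Subgroup.mem_sup_left (α x).2⟩ * (⟨t, Subgroup.mem_sup_right h1⟩ : ↥(P ⊔ T))⁻¹ := by
        apply Subtype.ext
        show g x = (α x : P) * t⁻¹
        rw [ht]; group
      have e2 : (G ^ (n + 1)) ⟨x, Subgroup.mem_sup_left x.2⟩ = (G ^ n) ⟨(α x : P), Subgroup.mem_sup_left (α x).2⟩ *
          ((G ^ n) ⟨t, Subgroup.mem_sup_right h1⟩)⁻¹ := by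
        rw [pow_succ, MulAut.mul_apply, e1, map_mul, map_inv]
      have e3 : (α ^ (n + 1)) x = (α ^ n) (α x) := by rw [pow_succ, MulAut.mul_apply]
      rw [e2, e3]
      have h4 := T.mul_mem (hGT n t h1) (ih (α x))
      have e4 : ((((G ^ n) ⟨(α x : P), Subgroup.mem_sup_left (α x).2⟩ * ((G ^ n) ⟨t, Subgroup.mem_sup_right h1⟩)⁻¹ : ↥(P ⊔ T)) : Ω))⁻¹ *
          ((α ^ n) (α x) : P) = (((G ^ n) ⟨t, Subgroup.mem_sup_right h1⟩ : ↥(P ⊔ T)) : Ω) *
          ((((G ^ n) ⟨(α x : P), Subgroup.mem_sup_left (α x).2⟩ : ↥(P ⊔ T)) : Ω)⁻¹ * ((α ^ n) (α x) : P)) := by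
        push_cast
        group
      rw [e4]; exact h4
  have hfinM : Finite (MulAut ↥(P ⊔ T)) := Finite.of_injective (fun α : MulAut ↥(P ⊔ T) => (α : ↥(P ⊔ T) → ↥(P ⊔ T))) DFunLike.coe_injective
  obtain ⟨j, hj1, hj2⟩ := coprime_pow (Fact.out : p.Prime) (orderOf_pos G) hord
  refine ⟨G ^ j, pow_mem hGF j, hj2, fun x => ?_⟩
  have h1 := key j x
  have e : α ^ j = α := by
    conv_rhs => rw [← pow_one α]
    exact pow_eq_pow_iff_modEq.2 hj1
  rwa [e] at h1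

theorem s5198 (hS : IsPGroup p S) (hF : F.IsSaturated p) (hT : F.StronglyClosed T) :
    F.hyperfocalSubgroup p ≤ NK S T (opR p (F.autGroup T) ⊔ Inn T) := by
  have hTS := hT.1
  set M := opR p (F.autGroup T) ⊔ Inn T with hM
  have hTV : T ≤ NK S T M := fun t ht =>
    mem_NK.2 ⟨le_nrm hTS ht, MulAut.conj (⟨t, ht⟩ : T), Subgroup.mem_sup_right (mem_inn.2 ⟨t, ht, fun y => rfl⟩), fun y => rfl⟩
  rw [hyp_eq, Subgroup.closure_le]
  rintro _ ⟨P, α, x, hP, hα, rfl⟩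
  have hle : opR p (F.autGroup P) ≤ F.autGroup P := opR_le _
  -- all elements of the residual
  have key : ∀ α ∈ opR p (F.autGroup P), ∀ x : P, (x : Ω)⁻¹ * (α x : P) ∈ NK S T M := by
    intro α hα
    rw [opR_eq] at hα
    induction hα using Subgroup.closure_induction with
    | mem α h =>
      obtain ⟨hα, hord⟩ := h
      intro x
      obtain ⟨γ, hγ, hγo, hγ1⟩ := ext_coprime_mod hS hF hT hP hα hord
      have hRS : P ⊔ T ≤ S := sup_le hP hTS
      obtain ⟨β, hβ, hβ1, hβ2⟩ := exists_restT hT (le_sup_right : T ≤ P ⊔ T) hRS hγ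
      have hβo : (orderOf β).Coprime p := Nat.Coprime.coprime_dvd_left hβ2 hγo
      have hxS := hP x.2
      have hxN : (x : Ω) ∈ Subgroup.normalizer (T : Set Ω) := (StronglyClosed.le_normalizer hT hxS).2
      set c := cjA T x hxN with hc
      have hcF : c ∈ F.autGroup T := autInducedBy_le_autGroup F hTS (cjA_mem hxN hxS)
      set X : ↥(P ⊔ T) := ⟨x, Subgroup.mem_sup_left x.2⟩ with hX
      -- `c_x⁻¹ c_{γ x}`
      have h1 : (x : Ω)⁻¹ * (γ X : ↥(P ⊔ T)) ∈ NK S T M := by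
        have hyS : (x : Ω)⁻¹ * (γ X : ↥(P ⊔ T)) ∈ S := S.mul_mem (S.inv_mem hxS) (hRS (γ X).2)
        refine mem_NK.2 ⟨StronglyClosed.le_normalizer hT hyS, c⁻¹ * β * c * β⁻¹, Subgroup.mem_sup_left ?_, fun y => ?_⟩
        · have h2 := opR_conj_mem (p := p) (inv_mem hcF) (mem_opR_of hβ hβo)
          rw [inv_inv] at h2
          exact mul_mem h2 (inv_mem (mem_opR_of hβ hβo))
        · set z := β⁻¹ y with hz
          have hy : y = β z := by rw [hz, MulAut.apply_inv_self]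
          have e1 : (((c⁻¹ * β * c * β⁻¹) y : T) : Ω) = (x : Ω)⁻¹ * (β (c z) : T) * x := by
            have e2 : (c⁻¹ * β * c * β⁻¹) y = c⁻¹ (β (c z)) := by rw [hz]; rfl
            have e3 : c (c⁻¹ (β (c z))) = β (c z) := MulAut.apply_inv_self _ _ _
            have e4 : (x : Ω) * (c⁻¹ (β (c z)) : T) * (x : Ω)⁻¹ = (β (c z) : T) := congrArg Subtype.val e3
            rw [e2, ← e4]; group
          rw [e1, hβ1]
          have e5 : (⟨((c z : T) : Ω), Subgroup.mem_sup_right (c z).2⟩ : ↥(P ⊔ T)) = X * ⟨z, Subgroup.mem_sup_right z.2⟩ * X⁻¹ := rfl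
          rw [e5, map_mul, map_mul, map_inv]
          have e6 : ((γ ⟨z, Subgroup.mem_sup_right z.2⟩ : ↥(P ⊔ T)) : Ω) = y := by rw [← hβ1 z, ← hy]
          push_cast
          rw [e6]; group
      have h2 := (NK S T M).mul_mem h1 (hTV (hγ1 x))
      have e : (x : Ω)⁻¹ * (γ X : ↥(P ⊔ T)) * (((γ X : ↥(P ⊔ T)) : Ω)⁻¹ * (α x : P)) = (x : Ω)⁻¹ * (α x : P) := by group
      rwa [e] at h2
    | one => intro x; simp [one_mem]
    | mul α β hα hβ ihα ihβ =>
      intro x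
      have h := (NK S T M).mul_mem (ihβ x) (ihα (β x))
      have e : (x : Ω)⁻¹ * (β x : P) * (((β x : P) : Ω)⁻¹ * (α (β x) : P)) = (x : Ω)⁻¹ * ((α * β) x : P) := by
        rw [MulAut.mul_apply]; group
      rwa [e] at h
    | inv α hα ihα =>
      intro x
      have h := (NK S T M).inv_mem (ihα (α⁻¹ x))
      rw [MulAut.apply_inv_self] at h
      have e : (((α⁻¹ x : P) : Ω)⁻¹ * (x : Ω))⁻¹ = (x : Ω)⁻¹ * (α⁻¹ x : P) := by group
      rwa [e] at h
  exact key α hα x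

end

end Cfsg.Agent.H27.Pp
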