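import Mathlib
import Cfsg.Agent.H27_Rs1

/-! Residual theory, part two: invariance of residual subsystems, monotonicity. -/

set_option autoImplicit false
set_option linter.all false

namespace Cfsg.Agent.H27.Pp

open Cfsg Cfsg.FusionSystem Cfsg.Agent.H27.Fus Cfsg.Agent.H27.Grp Cfsg.Agent.H27.Ix Cfsg.Agent.H27.Sc

universe u

section
variable {Ω : Type u} [Group Ω] {S T U V : Subgroup Ω} {P Q R : Subgroup Ω} {f g b : Ω → Ω} {p : ℕ}
variable {F : FusionSystem S} {X : FusionSystem T} {D : FusionSystem V}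

/-- transport of the residual -/
theorem opR_pr {a : Ω → Ω} (ha : Iso (univFS T) T T a) (hF : Pr a X) (hP : P ≤ T) {β : MulAut P}
    (hβ : β ∈ opR p (X.autGroup P)) : MulAut.congr (ha.restrict hP).equiv β ∈ opR p (X.autGroup (im P a)) := by
  have h : opR p (X.autGroup P) ≤ (opR p (X.autGroup (im P a))).comap (MulAut.congr (ha.restrict hP).equiv).toMonoidHom := by
    conv_lhs => rw [opR_eq]
    rw [Subgroup.closure_le]
    rintro γ ⟨h1, hk⟩
    refine mem_opR_of ?_ ?_
    · obtain ⟨g, hg, h2⟩ := hF P _ ((mem_autGroup_iff hP).1 h1).map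
      refine mem_autGroup_of hg fun x => ?_
      obtain ⟨z, rfl⟩ := (ha.restrict hP).equiv.surjective x
      rw [congr_equiv_apply, Iso.equiv_apply, Iso.equiv_apply, h2 z z.2, totA_apply]
    · have e : orderOf ((MulAut.congr (ha.restrict hP).equiv).toMonoidHom γ) = orderOf γ := MulEquiv.orderOf_eq _ _
      rw [e]; exact hk
  exact h hβ

/-- a subsystem of `p`-power index is preserved by automorphisms preserving both -/
theorem pix_pr [Fact p.Prime] [Finite T] (hT : IsPGroup p T) (hD : D.IsSaturated p) (h : PIx D X p) {a : Ω → Ω}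
    (ha : Iso (univFS T) T T a) (hX : Pr a X) (haV : ∀ x ∈ V, a x ∈ V) : Pr a D := by
  have hVT : V ≤ T := h.le
  have hfinV : Finite V := finite_of_le hVT
  have hVp : IsPGroup p V := hT.to_le hVT
  have haV' : Iso (univFS V) V V a := by
    have h1 := ha.map.mono hVT
    have h2 : Map (univFS V) V a := map_univ.2 ⟨le_rfl, haV, fun x hx y hy => h1.mul hx hy, fun x hx y hy => h1.inj hx hy⟩
    exact iso_of_card_le h2 haV le_rfl
  have key : ∀ P f, Map D P f → Map (conjFS a haV' D) P f := by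
    refine le_of_res hVp hD le_rfl fun P hP β hβ => ?_
    have hβ' := (mem_autGroup_iff hP).1 (opR_le _ hβ)
    refine mem_autGroup_of (f := totA β) (map_conjFS.2 ⟨hP, fun x hx => hβ'.map.mem hx,
      totA (MulAut.congr (ha.restrict (hP.trans hVT)).equiv β), ?_, fun x hx => ?_⟩) fun x => (totA_apply β x).symm
    · have h1 : β ∈ opR p (X.autGroup P) := by
        refine opR_mono (fun γ hγ => ?_) hβ
        have h2 := (mem_autGroup_iff hP).1 hγ
        exact mem_autGroup_of (h.sub _ _ h2.map) fun x => (totA_apply γ x).symm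
      have h2 := opR_pr ha hX (hP.trans hVT) h1
      have hPV : im P a ≤ V := (haV'.map.mono hP).im_le
      exact ((mem_autGroup_iff hPV).1 (h.aut _ hPV h2)).map
    · have hPT := hP.trans hVT
      have h3 := totA_apply (MulAut.congr (ha.restrict hPT).equiv β) ((ha.restrict hPT).equiv ⟨x, hx⟩)
      rw [show MulAut.congr (ha.restrict hPT).equiv β ((ha.restrict hPT).equiv ⟨x, hx⟩) =
        (ha.restrict hPT).equiv (β ⟨x, hx⟩) from congr_equiv_apply (ha.restrict hPT) β ⟨x, hx⟩] at h3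
      rw [totA_of_mem β hx]
      exact h3
  intro P f hf
  obtain ⟨-, -, g, hg, h2⟩ := map_conjFS.1 (key P f hf)
  exact ⟨g, hg, h2⟩

variable [Fact p.Prime] [Finite S]

/-- subsystems of `p`-power index in an invariant system are invariant -/
theorem pix_inv (hS : IsPGroup p S) (hX : X.IsSaturated p) (hI : Inv X F) (hD : D.IsSaturated p) (h : PIx D X p)
    (hVn : ∀ t ∈ T, ∀ x ∈ V, t * x * t⁻¹ ∈ V) (hVa : ∀ a, Iso F T T a → ∀ x ∈ V, a x ∈ V) : Inv D F := by
  have hTS := hI.strong.1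
  have hfinT : Finite T := finite_of_le hTS
  have hTp : IsPGroup p T := hS.to_le hTS
  have hVT : V ≤ T := h.le
  have hfinV : Finite V := finite_of_le hVT
  have hVs : X.StronglyClosed V := PIx.strong hTp hX h hVn
  have hsV := (stronglyClosed_iff.1 hVs).2
  have hstr : F.StronglyClosed V := by
    refine stronglyClosed_iff.2 ⟨hVT.trans hTS, fun P f hf x hx hxV => ?_⟩
    have hPT : P ⊓ T ≤ T := inf_le_right
    obtain ⟨a, g, ha, hg, h1⟩ := hI.frat (P ⊓ T) f hPT (hf.mono inf_le_left)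
    have hx' : x ∈ P ⊓ T := ⟨hx, hVT hxV⟩
    rw [h1 x hx']
    exact hVa a ha _ (hsV _ _ hg x hx' hxV)
  have hpr : ∀ a, Iso F T T a → Pr a D := fun a ha => pix_pr hTp hD h (univT ha) (Inv.pr hI ha) (hVa a ha)
  have hpr' : ∀ a, Iso X V V a → Pr a D := fun a ha P f hf => h.invariant hTp hD P f a hf ha
  have hVim : ∀ a, Iso F T T a → Iso F V V a := fun a ha => iso_of_card_le (ha.map.mono hVT) (hVa a ha) le_rfl
  refine ⟨fun P f hf => hI.sub _ _ (h.sub _ _ hf), hstr, fun P f a hf ha => ?_, fun P f hP hf => ?_⟩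
  · -- `a = a₁ φ`
    obtain ⟨a₁, φ, ha₁, hφ, h1⟩ := hI.frat V a hVT ha.map
    have hφV : Iso X V V φ := iso_of_card_le hφ (fun x hx => hsV _ _ hφ x hx hx) le_rfl
    have h2 : Pr (a₁ ∘ φ) D := by
      refine Pr.comp (hpr a₁ ha₁) (hpr' φ hφV) ?_ ?_
      · exact map_univ.2 ⟨le_rfl, fun x hx => iso_mem hφV hx, fun x hx y hy => hφ.mul hx hy, fun x hx y hy => hφ.inj hx hy⟩
      · have h3 := ha₁.map.mono hVT
        exact map_univ.2 ⟨le_rfl, fun x hx => hVa a₁ ha₁ x hx, fun x hx y hy => h3.mul hx hy, fun x hx y hy => h3.inj hx hy⟩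
    exact h2.congr (fun x hx => (h1 x hx).symm) P f hf
  · obtain ⟨a₁, φ, ha₁, hφ, h1⟩ := hI.frat P f (hP.trans hVT) hf
    obtain ⟨s, hs, g, hg, h2⟩ := h.frattini hTp hX hD hVn P φ hφ
    rw [inf_eq_left.2 hP] at hg h2
    have hc : Iso F V V (fun x => s * x * s⁻¹) :=
      iso_of_card_le (map_conj F (hVT.trans hTS) (hTS hs)) (fun x hx => hVn s hs x hx) le_rfl
    exact ⟨a₁ ∘ (fun x => s * x * s⁻¹), g, hc.trans (hVim a₁ ha₁), hg, fun x hx => by rw [h1 x hx, h2 x hx]; rfl⟩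

/-- climbing in a system of index prime to `p` -/
theorem climb_pp (hS : IsPGroup p S) {F' : FusionSystem S} (hF : F.IsSaturated p) (hF' : F'.IsSaturated p) (hI : Inv F' F)
    (hopp : ∀ P ≤ S, Opp F p P ≤ F'.autGroup P) (hT : F.StronglyClosed T) :
    ∀ (n : ℕ) (P : Subgroup Ω), Nat.card T - Nat.card P = n → P ∈ FC F T → ∀ α ∈ F.autGroup T,
      Map F' P (totA α) → Map F' T (totA α) := by
  have hTS := hT.1
  have hfinT : Finite T := finite_of_le hTS
  have hTp : IsPGroup p T := hS.to_le hTS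
  intro n
  induction n using Nat.strong_induction_on with
  | _ n ih =>
    intro P hn hP α hα hPα
    by_cases hPT : P = T
    · exact hPα.mono hPT.ge
    have hPT' := hP.1
    have hPS := hPT'.trans hTS
    have hαi := (mem_autGroup_iff hTS).1 hα
    -- a fully normalized conjugate under `F'`
    obtain ⟨Q, hPQ, hQ⟩ := exists_fullyNormalized F hPS
    obtain ⟨f, hf⟩ := isConj_iff.1 hPQ
    obtain ⟨a, ψ, ha, hψ, h1⟩ := hI.frat P f hPS hf.map
    set P₁ := im P ψ with hP₁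
    have hψF := hI.sub _ _ hψ
    have hP₁C : P₁ ∈ FC F T := fc_conj hT hP hψF.iso.isConj
    have hP₁T := hP₁C.1
    have hP₁S := hP₁T.trans hTS
    have hcard : Nat.card P₁ = Nat.card P := hψ.card_im
    have hP₁fn : F.IsFullyNormalized P₁ := by
      have h2 := fn_auto ha.symm hQ
      have e : im Q (finv S a) = P₁ := by
        have h3 : im P₁ a = Q := by
          rw [hP₁, ← im_comp hψF (ha.map.mono hψF.im_le), ← hf.im_eq]
          exact im_congr fun x hx => (h1 x hx).symm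
        rw [← h3]; exact im_im_finv ha hP₁S
      rwa [e] at h2
    -- `α` on `P₁` is in `F'`
    have h2 : Map F' P₁ (totA α) := by
      obtain ⟨g, hg, h3⟩ := (hI.sinv) P T ψ (totA α) hPT' hTS hψ (fun x hx => hP₁T (hψ.apply_mem_im hx)) hαi.map
      refine ((hg.comp hPα fun x hx => (hαi.map.mono hPT').apply_mem_im hx).comp hψ.iso.symm.map fun x hx => hψ.iso.finv_mem hx).congr
        fun y hy => ?_
      obtain ⟨x, hx, rfl⟩ := hψ.mem_im.1 hy
      show g (totA α (finv P ψ (ψ x))) = _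
      rw [hψ.iso.finv_left hx, h3 x hx]
    -- the inverse extends
    have hα₁ := h2.iso
    set P₂ := im P₁ (totA α) with hP₂
    have hP₂C : P₂ ∈ FC F T := fc_conj hT hP₁C (hαi.map.mono hP₁T).iso.isConj
    have hP₂T := hP₂C.1
    have hαinv : ∀ x ∈ P₁, totA α⁻¹ (totA α x) = x := fun x hx => totA_inv_self (hP₁T hx)
    have hi2 : Iso F' P₂ P₁ (totA α⁻¹) := by
      refine hα₁.symm.congr fun y hy => ?_
      obtain ⟨x, hx, rfl⟩ := h2.mem_im.1 hy
      rw [hα₁.finv_left hx, hαinv x hx]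
    have hαim := (mem_autGroup_iff hTS).1 (inv_mem hα)
    have hN : normalizerIn T P₂ ≤ ext S P₂ (totA α⁻¹) := by
      intro t ht
      refine mem_ext.2 ⟨hTS ht.1, fun y => (mem_nrm.1 ht).2 y, totA α⁻¹ t, hTS (totA_mem ht.1), fun y hy => ?_⟩
      exact hαim.map.conj ht.1 (hP₂T hy)
    have hP₁fn' : F'.IsFullyNormalized P₁ := fn_of_sub hS hF (stronglyClosed_iff.2 ⟨le_rfl, fun P f hf x hx _ => hf.mem hx⟩) hI.sub hP₁S hP₁fn
    obtain ⟨Φ, hΦ, hΦ1⟩ := receptive_ext' (fn_receptive hS hF' hP₁fn') hi2 hN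
    set N := normalizerIn T P₂ with hNdef
    have hNT : N ≤ T := nrm_le
    have hNS : N ≤ S := hNT.trans hTS
    have hP₂N : P₂ ≤ N := le_nrm hP₂T
    have hΦT : ∀ x ∈ N, Φ x ∈ T := fun x hx => (StronglyClosed.mem_iff hT (hI.sub _ _ hΦ) hx).2 (hNT hx)
    have hΦF := hI.sub _ _ hΦ
    -- `α Φ` is a `p`-automorphism of `N`
    have hδ : Map F N (totA α ∘ Φ) := hαi.map.comp hΦF hΦT
    have hδ1 : ∀ x ∈ P₂, (totA α ∘ Φ) x = x := fun x hx => by
      show totA α (Φ x) = x
      rw [hΦ1 x hx, totA_self_inv (hP₂T hx)]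
    have hδT : ∀ x ∈ N, (totA α ∘ Φ) x ∈ T := fun x hx => totA_mem (hΦT x hx)
    have hz : ∀ x ∈ N, x⁻¹ * (totA α ∘ Φ) x ∈ P₂ := by
      intro x hx
      refine fc_cen hTS hP₂C (mem_cen.2 ⟨T.mul_mem (T.inv_mem (hNT hx)) (hδT x hx), fun y hy => ?_⟩)
      have h3 : x * y * x⁻¹ ∈ P₂ := nrm_conj_mem hx hy
      have h4 := hδ1 _ h3
      rw [hδ.conj hx (hP₂N hy), hδ1 y hy] at h4
      calc y * (x⁻¹ * (totA α ∘ Φ) x) = x⁻¹ * (x * y * x⁻¹) * (totA α ∘ Φ) x := by group
        _ = x⁻¹ * ((totA α ∘ Φ) x * y * ((totA α ∘ Φ) x)⁻¹) * (totA α ∘ Φ) x := by rw [← h4]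
        _ = x⁻¹ * (totA α ∘ Φ) x * y := by group
    have hδN : ∀ x ∈ N, (totA α ∘ Φ) x ∈ N := fun x hx => by
      have := N.mul_mem hx (hP₂N (hz x hx))
      rwa [mul_inv_cancel_left] at this
    have hfinN : Finite N := finite_of_le hNT
    have hδi : Iso F N N (totA α ∘ Φ) := iso_of_card_le hδ hδN le_rfl
    obtain ⟨k, hk⟩ := exists_pow_card (p := p) hTp
    have hpow : ∀ j : ℕ, ∀ x : N, (((hδi.aut ^ j) x : N) : Ω) = x * ((x : Ω)⁻¹ * (totA α ∘ Φ) x) ^ j := by
      intro j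
      induction j with
      | zero => intro x; simp
      | succ j ihj =>
        intro x
        have hzx := hz x x.2
        set z := (x : Ω)⁻¹ * (totA α ∘ Φ) x with hzdef
        have e1 : (hδi.aut ^ j) x = x * ⟨z, hP₂N hzx⟩ ^ j := Subtype.ext (ihj x)
        have e2 : hδi.aut ⟨z, hP₂N hzx⟩ = ⟨z, hP₂N hzx⟩ := Subtype.ext (hδ1 z hzx)
        have e3 : hδi.aut x = x * ⟨z, hP₂N hzx⟩ := Subtype.ext (by
          show (totA α ∘ Φ) x = (x : Ω) * z
          rw [hzdef]; group)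
        rw [pow_succ', MulAut.mul_apply, e1, map_mul, map_pow, e2, e3, mul_assoc, ← pow_succ']
        rfl
    have hδo : hδi.aut ∈ Opp F p N := by
      refine mem_opp_of hδi.aut_mem ?_
      have h3 : hδi.aut ^ (p ^ k) = 1 := by
        ext x
        rw [hpow, hk _ (hP₂T (hz x x.2)), mul_one]; rfl
      obtain ⟨j, -, hj⟩ := (Nat.dvd_prime_pow (Fact.out : p.Prime)).1 (orderOf_dvd_of_pow_eq_one h3)
      exact ⟨j, hj⟩
    have hδ' : Map F' N (totA α ∘ Φ) := by
      refine ((mem_autGroup_iff hNS).1 (hopp N hNS hδo)).map.congr fun x hx => ?_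
      rw [totA_of_mem _ hx]; rfl
    -- so `α` on the image of `Φ` is in `F'`
    set N₁ := im N Φ with hN₁
    have h5 : Map F' N₁ (totA α) := by
      refine (hδ'.comp hΦ.iso.symm.map fun x hx => hΦ.iso.finv_mem hx).congr fun y hy => ?_
      obtain ⟨x, hx, rfl⟩ := hΦ.mem_im.1 hy
      show totA α (Φ (finv N Φ (Φ x))) = _
      rw [hΦ.iso.finv_left hx]
    have hNC : N ∈ FC F T := fc_up hP₂C hP₂N hNT
    have hN₁C : N₁ ∈ FC F T := fc_conj hT hNC hΦF.iso.isConj
    have hcard2 : Nat.card P₂ = Nat.card P := by rw [hP₂, h2.card_im, hcard]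
    have hlt : Nat.card P < Nat.card N₁ := by
      rw [hN₁, hΦ.card_im, ← hcard2]
      have hne : P₂ ≠ T := fun hh => hPT (eq_of_le_of_card_le hPT' (by rw [← hcard2, hh]))
      obtain ⟨x, hx, hxR, hxn⟩ := exists_mem_normalizer_of_lt hTp (lt_of_le_of_ne hP₂T hne)
      exact card_lt_of_lt (lt_of_le_of_ne hP₂N fun hh => hxR (by rw [hh]; exact ⟨hx, hxn⟩))
    refine ih (Nat.card T - Nat.card N₁) ?_ N₁ rfl hN₁C α hα h5
    have := card_le_of_le hN₁C.1
    omega

/-- the `p'`-residual of an invariant subsystem lies in every invariant system of index prime to `p` -/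
theorem res_le_pp (hS : IsPGroup p S) {F' : FusionSystem S} (hF : F.IsSaturated p) (hF' : F'.IsSaturated p) (hI' : Inv F' F)
    (hopp : ∀ P ≤ S, Opp F p P ≤ F'.autGroup P) (hX : X.IsSaturated p) (hI : Inv X F)
    {Y : FusionSystem T} (hY : X.IsPPrimeResidual p Y) : ∀ P f, Map Y P f → Map F' P f := by
  have hTS := hI.strong.1
  have hfinT : Finite T := finite_of_le hTS
  have hTp : IsPGroup p T := hS.to_le hTS
  have hFam : Fam X p {P | X.IsCentric P} := fam_centric
  have hres := res_is hTp hX hFam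
  intro P f hf
  have h1 := isSubsystemOf_iff.1 (hY.2.2 _ hres.1 hres.2.1) P f hf
  obtain ⟨α, hα, g, hg, h2⟩ := map_EH.1 h1
  have hgen : ∀ {P f}, Map (Gen X p {P | X.IsCentric P}) P f → Map F' P f := by
    intro P f hf
    have h3 : Map (resFS F' T hTS) P f := by
      refine gen_le (fun Q hQ α hα => ?_) hf
      have hQT : Q ≤ T := hQ.1
      have h4 := hopp Q (hQT.trans hTS) (opp_mono (autGroup_mono_of_sub hI.sub hTS hQT) hα)
      exact mem_autGroup_of (f := totA α) (map_resFS.2 ⟨hQT, fun x hx => hQT (totA_mem hx),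
        ((mem_autGroup_iff (hQT.trans hTS)).1 h4).map⟩) fun x => (totA_apply α x).symm
    exact (map_resFS.1 h3).2.2
  have h3 : A0 X p {P | X.IsCentric P} ≤ (resFS F' T hTS).autGroup T := by
    rw [A0, Subgroup.closure_le]
    rintro β ⟨hβ, Q, hQ, h4⟩
    have hβF : β ∈ F.autGroup T := autGroup_mono_of_sub hI.sub hTS le_rfl hβ
    have h5 := climb_pp hS hF hF' hI' hopp hI.strong _ Q rfl ((fc_iff hI).1 hQ) β hβF (hgen h4)
    exact mem_autGroup_of (f := totA β) (map_resFS.2 ⟨le_rfl, fun x hx => totA_mem hx, h5⟩) fun x => (totA_apply β x).symm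
  have h4 := ((mem_autGroup_iff le_rfl).1 (h3 hα)).map
  obtain ⟨-, -, h5⟩ := map_resFS.1 h4
  exact (h5.comp (hgen hg) fun x hx => hg.mem hx).congr fun x hx => (h2 x hx).symm

end

end Cfsg.Agent.H27.Pp
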