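import Mathlib
import Cfsg.Agent.H27_Rs2

/-! Residual theory, part three: residual limits. -/

set_option autoImplicit false
set_option linter.all false

namespace Cfsg.Agent.H27.Pp

open Cfsg Cfsg.FusionSystem Cfsg.Agent.H27.Fus Cfsg.Agent.H27.Grp Cfsg.Agent.H27.Ix Cfsg.Agent.H27.Sc

universe u

section
variable {Ω : Type u} [Group Ω] {p : ℕ}

/-- an invariant subsystem is invariant in intermediate saturated systems -/
theorem inv_restrict [Fact p.Prime] {S V U : Subgroup Ω} {F : FusionSystem S} {D : FusionSystem V} {K : FusionSystem U}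
    [Finite V] (hV : IsPGroup p V) (hD : D.IsSaturated p) (hDF : ∀ P f, Map D P f → Map F P f) (hK : Inv K F)
    (hKD : ∀ P f, Map K P f → Map D P f) : Inv K D := by
  have hVS : V ≤ S := sub_le hDF
  have hUV : U ≤ V := sub_le hKD
  refine inv_of_sinv hV hD hKD (stronglyClosed_iff.2 ⟨hUV, fun P f hf x hx hxU => ?_⟩) ?_
  · exact (stronglyClosed_iff.1 hK.strong).2 P f (hDF _ _ hf) x hx hxU
  · intro P Q f h hPQ hQU hf hfQ hh
    exact hK.sinv P Q f h hPQ hQU hf hfQ (hDF _ _ hh)

/-- an automorphism preserving the system preserves the hyperfocal subgroup -/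
theorem hyp_pr {T : Subgroup Ω} {X : FusionSystem T} {a : Ω → Ω} (ha : Iso (univFS T) T T a) (hX : Pr a X) :
    ∀ x ∈ X.hyperfocalSubgroup p, a x ∈ X.hyperfocalSubgroup p := by
  have haT : ∀ x ∈ T, a x ∈ T := fun x hx => by
    have h := ha.map.apply_mem_im hx
    rwa [ha.im_eq] at h
  have h : X.hyperfocalSubgroup p ≤ ((X.hyperfocalSubgroup p).comap ((T.subtype.comp ha.aut.toMonoidHom))).map T.subtype := by
    conv_lhs => rw [hyp_eq]
    rw [Subgroup.closure_le]
    rintro _ ⟨P, α, x, hP, hα, rfl⟩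
    refine ⟨⟨(x : Ω)⁻¹ * (α x : P), T.mul_mem (T.inv_mem (hP x.2)) (hP (α x).2)⟩, ?_, rfl⟩
    show a ((x : Ω)⁻¹ * (α x : P)) ∈ X.hyperfocalSubgroup p
    rw [ha.map.mul (T.inv_mem (hP x.2)) (hP (α x).2), ha.map.inv (hP x.2)]
    have h1 := opR_pr ha hX hP hα
    have h2 := mem_hyp (p := p) ((ha.restrict hP).map.im_le) h1 ((ha.restrict hP).equiv x)
    rw [show MulAut.congr (ha.restrict hP).equiv α ((ha.restrict hP).equiv x) =
        (ha.restrict hP).equiv (α x) from congr_equiv_apply (ha.restrict hP) α x] at h2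
    exact h2
  intro x hx
  obtain ⟨y, hy, rfl⟩ := h hx
  exact hy

/-- properties of residual limits -/
theorem lim_props {U T : Subgroup Ω} {L : FusionSystem U} {X : FusionSystem T} (h : L.IsResidualLimitOf X p) :
    ∀ (_ : Fact p.Prime) {S : Subgroup Ω} (_ : Finite S) (_ : IsPGroup p S) (F : FusionSystem S) (_ : F.IsSaturated p)
      (_ : X.IsSaturated p) (_ : Inv X F), L.IsSaturated p ∧ Inv L F ∧ L.hyperfocalSubgroup p = U ∧
        L.IsPPrimeResidual p L ∧ ∀ P f, Map L P f → Map X P f := by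
  induction h with
  | stable X p h1 h2 =>
    intro hp S hfin hS F hF hX hI
    exact ⟨hX, hI, h1, h2, fun _ _ h => h⟩
  | @step T L X p D D' hD hD' hL ih =>
    intro hp S hfin hS F hF hX hI
    have hTS := hI.strong.1
    have hfinT : Finite T := finite_of_le hTS
    have hTp : IsPGroup p T := hS.to_le hTS
    have hpix := pix_iff.1 hD.2
    have hID : Inv D F := by
      refine pix_inv hS hX hI hD.1 hpix (fun t ht x hx => ?_) (fun a ha x hx => hyp_pr (univT ha) (Inv.pr hI ha) x hx)
      exact StronglyClosed.conj_mem (hyp_strong hTp hX) ht hx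
    have hID' : Inv D' F := (normalIn_iff.1 (s5141 hS hF hD.1 hID hD')).2.2.1
    obtain ⟨h1, h2, h3, h4, h5⟩ := ih hp hfin hS F hF hD'.1 hID'
    exact ⟨h1, h2, h3, h4, fun P f hf => hpix.sub _ _ (isSubsystemOf_iff.1 hD'.2.1.1 _ _ (h5 P f hf))⟩

/-- stable invariant subsystems lie in the residual limit -/
theorem stable_le_lim {U T : Subgroup Ω} {L : FusionSystem U} {X : FusionSystem T} (h : L.IsResidualLimitOf X p) :
    ∀ (_ : Fact p.Prime) {S : Subgroup Ω} (_ : Finite S) (_ : IsPGroup p S) (F : FusionSystem S) (_ : F.IsSaturated p)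
      (_ : X.IsSaturated p) (_ : Inv X F) {V : Subgroup Ω} (K : FusionSystem V) (_ : K.IsSaturated p) (_ : Inv K F)
      (_ : K.hyperfocalSubgroup p = V) (_ : K.IsPPrimeResidual p K) (_ : ∀ P f, Map K P f → Map X P f),
      ∀ P f, Map K P f → Map L P f := by
  induction h with
  | stable X p h1 h2 =>
    intro hp S hfin hS F hF hX hI V K hK hIK hKh hKp hKX P f hf
    exact hKX P f hf
  | @step T L X p D D' hD hD' hL ih =>
    intro hp S hfin hS F hF hX hI V K hK hIK hKh hKp hKX P f hf
    have hTS := hI.strong.1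
    have hfinT : Finite T := finite_of_le hTS
    have hTp : IsPGroup p T := hS.to_le hTS
    have hpix := pix_iff.1 hD.2
    have hID : Inv D F := by
      refine pix_inv hS hX hI hD.1 hpix (fun t ht x hx => ?_) (fun a ha x hx => hyp_pr (univT ha) (Inv.pr hI ha) x hx)
      exact StronglyClosed.conj_mem (hyp_strong hTp hX) ht hx
    have hID' : Inv D' F := (normalIn_iff.1 (s5141 hS hF hD.1 hID hD')).2.2.1
    have hHT : X.hyperfocalSubgroup p ≤ T := hyp_le
    have hfinH : Finite ↥(X.hyperfocalSubgroup p) := finite_of_le hHT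
    have hHp : IsPGroup p ↥(X.hyperfocalSubgroup p) := hTp.to_le hHT
    have hKD : ∀ P f, Map K P f → Map D P f := by
      refine hpix.contains hTp hK hKX ?_
      rw [← hKh]; exact hyp_mono' hKX
    have hIKD : Inv K D := inv_restrict hHp hD.1 hID.sub hIK hKD
    have hD'D : ∀ P f, Map D' P f → Map D P f := isSubsystemOf_iff.1 hD'.2.1.1
    have hID'D : Inv D' D := inv_restrict hHp hD.1 hID.sub hID' hD'D
    have hKD' : ∀ P f, Map K P f → Map D' P f :=
      res_le_pp hHp hD.1 hD'.1 hID'D (ppi_iff.1 hD'.2.1).2 hK hIKD hKp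
    exact ih hp hfin hS F hF hD'.1 hID' K hK hIK hKh hKp hKD' P f hf

/-- residual limits of `F` and of an invariant subsystem containing it agree -/
theorem same_lim [Fact p.Prime] {S T U V : Subgroup Ω} [Finite S] (hS : IsPGroup p S) {F : FusionSystem S} (hF : F.IsSaturated p)
    {X : FusionSystem T} (hX : X.IsSaturated p) (hI : Inv X F) {K : FusionSystem U} (hK : K.IsResidualLimitOf F p)
    {L : FusionSystem V} (hL : L.IsResidualLimitOf X p) (hKX : ∀ P f, Map K P f → Map X P f) : Same K L := by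
  have hFF : Inv F F := by
    refine ⟨fun _ _ h => h, stronglyClosed_iff.2 ⟨le_rfl, fun P f hf x hx _ => hf.mem hx⟩, fun P f a hf ha => ?_, fun P f hP hf => ?_⟩
    · exact Pr.of_map ha.map P f hf
    · exact ⟨id, f, iso_refl F le_rfl, hf, fun x hx => rfl⟩
  obtain ⟨h1, h2, h3, h4, h5⟩ := lim_props hK inferInstance inferInstance hS F hF hF hFF
  obtain ⟨k1, k2, k3, k4, k5⟩ := lim_props hL inferInstance inferInstance hS F hF hX hI
  have a1 := stable_le_lim hL inferInstance inferInstance hS F hF hX hI K h1 h2 h3 h4 hKX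
  have a2 := stable_le_lim hK inferInstance inferInstance hS F hF hF hFF L k1 k2 k3 k4 k2.sub
  exact ⟨le_antisymm (sub_le a1) (sub_le a2), fun P f => ⟨a1 P f, a2 P f⟩⟩

end

end Cfsg.Agent.H27.Pp
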