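import Mathlib
import Cfsg.Agent.H27_Rs3

/-! Residual theory, part four: descending through a `p`-solvable quotient of `Aut_F(T)`. -/

set_option autoImplicit false
set_option linter.all false

namespace Cfsg.Agent.H27.Pp

open Cfsg Cfsg.FusionSystem Cfsg.Agent.H27.Fus Cfsg.Agent.H27.Grp Cfsg.Agent.H27.Ix Cfsg.Agent.H27.Sc

universe u

section
variable {Ω : Type u} [Group Ω] {p : ℕ} {S T V : Subgroup Ω} {P Q R : Subgroup Ω} {f g : Ω → Ω}

/-- the invariant carried down -/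
structure GX (F : FusionSystem S) (E : FusionSystem T) (p : ℕ) (X : FusionSystem V) (N : Subgroup (MulAut T)) : Prop where
  sat : X.IsSaturated p
  inv : Inv X F
  sub : ∀ P f, Map E P f → Map X P f
  cen : centralizerIn S T ≤ V
  aut : X.autGroup T ≤ N
  lim : ∀ {U : Subgroup Ω} (K : FusionSystem U), K.IsSaturated p → Inv K F → K.hyperfocalSubgroup p = U →
    K.IsPPrimeResidual p K → ∀ P f, Map K P f → Map X P f

theorem inv_self (F : FusionSystem S) : Inv F F :=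
  ⟨fun _ _ h => h, stronglyClosed_iff.2 ⟨le_rfl, fun P f hf x hx _ => hf.mem hx⟩, fun P f a hf ha => Pr.of_map ha.map P f hf,
    fun P f hP hf => ⟨id, f, iso_refl F le_rfl, hf, fun x hx => rfl⟩⟩

theorem gx_top {F : FusionSystem S} {E : FusionSystem T} (hF : F.IsSaturated p) (hI : Inv E F) : GX F E p F (F.autGroup T) :=
  ⟨hF, inv_self F, hI.sub, cen_le, le_rfl, fun K _ hK _ _ => hK.sub⟩

variable {F : FusionSystem S} {E : FusionSystem T} {X : FusionSystem V} {M N : Subgroup (MulAut T)}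
variable [Fact p.Prime] [Finite S]

/-- conjugation by the image of an element -/
theorem conj_im (hT : F.StronglyClosed T) (hTV : T ≤ V) (hNn : ∀ a ∈ F.autGroup T, ∀ n ∈ N, a * n * a⁻¹ ∈ N)
    {a : Ω → Ω} (ha : Iso F V V a) {x : Ω} (hx : x ∈ NK V T N) : a x ∈ NK V T N := by
  obtain ⟨⟨hxV, -⟩, n, hn, h1⟩ := mem_NK.1 hx
  have hTS := hT.1
  have hVS := ha.le
  have haT : Iso F T T a := (ha.map.mono hTV).iso_of_im_eq (StronglyClosed.im_eq hT ha.map hTV)
  have haV : a x ∈ V := by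
    have := ha.map.apply_mem_im hxV
    rwa [ha.im_eq] at this
  have hnrm : a x ∈ normalizerIn V T := by
    have h2 := (StronglyClosed.le_normalizer hT (hVS haV)).2
    exact ⟨haV, h2⟩
  refine mem_NK.2 ⟨hnrm, haT.aut * n * haT.aut⁻¹, hNn _ haT.aut_mem n hn, fun y => ?_⟩
  set z := haT.aut⁻¹ y with hz
  have hy : y = haT.aut z := by rw [hz, MulAut.apply_inv_self]
  have e1 : (((haT.aut * n * haT.aut⁻¹) y : T) : Ω) = a ((n z : T) : Ω) := by
    rw [hz]; rfl
  rw [e1, h1 z]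
  have hzV : (z : Ω) ∈ V := hTV z.2
  rw [ha.map.conj hxV hzV, hy]; rfl

theorem GX.p_step (hS : IsPGroup p S) (hF : F.IsSaturated p) (hE : E.IsSaturated p) (hI : Inv E F) (h : GX F E p X M)
    (hEN : E.autGroup T ≤ N) (hNn : ∀ a ∈ F.autGroup T, ∀ n ∈ N, a * n * a⁻¹ ∈ N) (hop : opR p M ≤ N) :
    ∃ (V₂ : Subgroup Ω) (Y : FusionSystem V₂), GX F E p Y N := by
  have hVS := h.inv.strong.1
  have hfinV : Finite V := finite_of_le hVS
  have hVp : IsPGroup p V := hS.to_le hVS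
  have hTV : T ≤ V := sub_le h.sub
  have hTS := hI.strong.1
  have hIX : Inv E X := inv_restrict hVp h.sat h.inv.sub hI h.sub
  have hinn : Inn T ≤ N := by
    refine le_trans ?_ hEN
    exact (inn_le_autInducedBy (le_refl T)).trans (autInducedBy_le_autGroup E le_rfl)
  have hV₂ : X.hyperfocalSubgroup p ≤ NK V T N := by
    refine (s5198 hVp h.sat hIX.strong).trans fun x hx => ?_
    obtain ⟨h1, κ, hκ, h2⟩ := mem_NK.1 hx
    exact mem_NK.2 ⟨h1, κ, (sup_le ((opR_mono h.aut).trans hop) hinn) hκ, h2⟩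
  obtain ⟨Y, hY, hpix⟩ := exists_pix (p := p) _ hfinV X rfl hVp h.sat (NK_le : NK V T N ≤ V) hV₂
  have hTV₂ : T ≤ NK V T N := fun t ht => mem_NK.2 ⟨⟨hTV ht, (le_nrm hTS ht).2⟩, MulAut.conj (⟨t, ht⟩ : T),
    hinn (mem_inn.2 ⟨t, ht, fun y => rfl⟩), fun y => rfl⟩
  have hIY : Inv Y F := by
    refine pix_inv hS h.sat h.inv hY hpix (fun t ht x hx => ?_) (fun a ha x hx => conj_im hI.strong hTV hNn ha hx)
    exact conj_im hI.strong hTV hNn (conj_iso (F := F) hVS (fun s hs t ht => StronglyClosed.conj_mem h.inv.strong hs ht) (hVS ht)) hx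
  have hEY := hpix.contains hVp hE h.sub hTV₂
  have hfinV₂ : Finite ↥(NK V T N) := finite_of_le (NK_le : NK V T N ≤ V)
  have hV₂p : IsPGroup p ↥(NK V T N) := hVp.to_le NK_le
  have hIEY : Inv E Y := inv_restrict hV₂p hY hIY.sub hI hEY
  refine ⟨_, Y, hY, hIY, hEY, fun c hc => mem_NK.2 ⟨⟨h.cen hc, (cen_le_nrm hc).2⟩, 1, one_mem _, fun y => (cen_conj hc y.2).symm⟩, ?_,
    fun K hK hIK hKh hKp => ?_⟩
  · refine aut_le_of_res hV₂p hY (StronglyClosed.fn hIEY.strong) ?_ ?_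
    · refine le_trans (opR_mono ?_) hop
      exact (autGroup_mono_of_sub hpix.sub NK_le hTV₂).trans h.aut
    · intro α hα
      obtain ⟨s, hs, h1⟩ := mem_autInducedBy.1 hα
      obtain ⟨-, n, hn, h2⟩ := mem_NK.1 hs
      have e : α = n := by ext y; rw [h1, h2]
      rw [e]; exact hn
  · have hKX := h.lim K hK hIK hKh hKp
    refine hpix.contains hVp hK hKX ?_
    rw [← hKh]; exact (hyp_mono' hKX).trans hV₂

theorem GX.pp_step (hS : IsPGroup p S) (hF : F.IsSaturated p) (hE : E.IsSaturated p) (hI : Inv E F) (h : GX F E p X M)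
    (hEN : E.autGroup T ≤ N) (hNn : ∀ a ∈ F.autGroup T, ∀ n ∈ N, a * n * a⁻¹ ∈ N)
    (hpow : ∀ a ∈ M, ∀ k : ℕ, a ^ (p ^ k) ∈ N → a ∈ N) :
    ∃ (V₂ : Subgroup Ω) (Y : FusionSystem V₂), GX F E p Y N := by
  have hVS := h.inv.strong.1
  have hfinV : Finite V := finite_of_le hVS
  have hVp : IsPGroup p V := hS.to_le hVS
  have hTV : T ≤ V := sub_le h.sub
  have hTS := hI.strong.1
  have hfinT : Finite T := finite_of_le hTS
  have hTp : IsPGroup p T := hS.to_le hTS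
  have hIX : Inv E X := inv_restrict hVp h.sat h.inv.sub hI h.sub
  have hTX := hIX.strong
  have hN : NN X E p (N ⊓ X.autGroup T) := by
    refine ⟨inf_le_right, le_inf hEN (autGroup_mono_of_sub h.sub hTV le_rfl), fun a ha n hn => ⟨?_, ?_⟩, fun a ha k hk => ?_⟩
    · exact hNn a (autGroup_mono_of_sub h.inv.sub hVS hTV ha) n hn.1
    · exact (X.autGroup T).mul_mem ((X.autGroup T).mul_mem ha hn.2) ((X.autGroup T).inv_mem ha)
    · exact ⟨hpow a (h.aut ha) k hk.1, ha⟩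
  have hFam := fam_HT hVp h.sat hIX
  have hgenH := hn_of_gen hVp h.sat hE hIX hN
  set Y := EH X p (HT X E) hFam (HN X hTX.1 (N ⊓ X.autGroup T)) HN_le with hYdef
  have hY : Y.IsSaturated p := EH_saturated hVp h.sat hgenH
  have hYX : ∀ P f, Map Y P f → Map X P f := fun P f hf => EH_sub hf
  have hopp : ∀ P ≤ V, Opp X p P ≤ Y.autGroup P := fun P hP => opp_EH hVp h.sat hP
  -- `E` lies in `Y`
  have hEY : ∀ P f, Map E P f → Map Y P f := by
    intro P f hf
    obtain ⟨β, hβ, k, hk, h1⟩ := frat_gen hTp hE fam_centric P f hf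
    have hk' : Map (resFS Y T hTV) P k := by
      refine gen_le (fun Q hQ α hα => ?_) hk
      have hQT : Q ≤ T := hQ.1
      have h2 : α ∈ Y.autGroup Q := hopp Q (hQT.trans hTV) (opp_mono (autGroup_mono_of_sub hIX.sub hTV hQT) hα)
      refine mem_autGroup_of (f := totA α) (map_resFS.2 ⟨hQT, fun x hx => hQT (totA_mem hx),
        ((mem_autGroup_iff (hQT.trans hTV)).1 h2).map⟩) fun x => (totA_apply α x).symm
    obtain ⟨-, hk1, hk2⟩ := map_resFS.1 hk'
    have hβF : β ∈ X.autGroup T := autGroup_mono_of_sub hIX.sub hTV le_rfl hβ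
    obtain ⟨α, hα, g, hg, h2, h3, -⟩ := split_T hVp h.sat hE hIX hN hβF
    have h4 : Map Y T (totA β) := map_EH.2 ⟨α, h3 (hN.ge hβ), g, hg, h2⟩
    exact (h4.comp hk2 hk1).congr fun x hx => (h1 x hx).symm
  -- invariance
  have hIY : Inv Y F := by
    refine ⟨fun P f hf => h.inv.sub _ _ (hYX P f hf), h.inv.strong, fun P f a hf ha => ?_, fun P f hP hf => ?_⟩
    · obtain ⟨α, hα, k, hk, h1⟩ := map_EH.1 hf
      have hpra : Pr a (Gen X p (HT X E)) := by
        refine gen_pr (univT ha) (Inv.pr h.inv ha) (fun P hP => hP.1.1) fun P hP => ⟨?_, ?_⟩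
        · exact (fc_iff h.inv).2 (fc_conj h.inv.strong ((fc_iff h.inv).1 hP.1) (ha.map.mono hP.1.1).iso.isConj)
        · have h2 := im_inf hI.strong (ha.map.mono hP.1.1)
          rw [← h2]
          exact (fc_iff hI).2 (fc_conj hI.strong ((fc_iff hI).1 hP.2) ((ha.map.mono hP.1.1).mono inf_le_left).iso.isConj)
      obtain ⟨g, hg, h2⟩ := hpra P k hk
      have haA : ha.aut ∈ F.autGroup V := ha.aut_mem
      have hae : ∀ x ∈ V, totA ha.aut x = a x := fun x hx => totA_of_mem _ hx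
      have haT : Iso F T T a := (ha.map.mono hTV).iso_of_im_eq (StronglyClosed.im_eq hI.strong ha.map hTV)
      have hαN : ha.aut * α * ha.aut⁻¹ ∈ HN X hTX.1 (N ⊓ X.autGroup T) := by
        obtain ⟨h3, β, hβ, h4⟩ := hα
        refine ⟨SInv.conj_mem h.inv.sub hVS h.inv.sinv le_rfl haA h3, haT.aut * β * haT.aut⁻¹,
          ⟨hNn _ haT.aut_mem _ hβ.1, SInv.conj_mem h.inv.sub hVS h.inv.sinv hTV haT.aut_mem hβ.2⟩, fun t => ?_⟩
        set z := haT.aut⁻¹ t with hz
        have hzt : t = haT.aut z := by rw [hz, MulAut.apply_inv_self]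
        have e1 : (((haT.aut * β * haT.aut⁻¹) t : T) : Ω) = a ((β z : T) : Ω) := by rw [hz]; rfl
        have e2 : ha.aut⁻¹ ⟨t, hTV t.2⟩ = ⟨z, hTV z.2⟩ := by
          have e3 : (⟨(t : Ω), hTV t.2⟩ : V) = ha.aut ⟨z, hTV z.2⟩ := Subtype.ext (by rw [hzt]; rfl)
          rw [e3, MulAut.inv_apply_self]
        rw [e1, h4 z]
        show a (α ⟨z, hTV z.2⟩ : V) = ((ha.aut (α (ha.aut⁻¹ ⟨t, hTV t.2⟩)) : V) : Ω)
        rw [e2]; rfl
      refine ⟨totA (ha.aut * α * ha.aut⁻¹) ∘ g, map_EH.2 ⟨_, hαN, g, hg, fun x hx => rfl⟩, fun x hx => ?_⟩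
      have hkx := hk.mem hx
      show totA (ha.aut * α * ha.aut⁻¹) (g (a x)) = a (f x)
      rw [h2 x hx, ← hae _ hkx, totA_mul (totA_mem hkx), totA_inv_self hkx, totA_mul hkx, ← h1 x hx, hae _ (hf.mem hx)]
    · obtain ⟨a, x, ha, hx, h1⟩ := h.inv.frat P f hP hf
      obtain ⟨α, hα, k, hk, h2⟩ := frat_gen hVp h.sat hFam P x hx
      have hαF := (mem_autGroup_iff hVS).1 (autGroup_mono_of_sub h.inv.sub hVS le_rfl hα)
      exact ⟨a ∘ totA α, k, hαF.trans ha, gen_EH hk, fun y hy => by rw [h1 y hy, h2 y hy]; rfl⟩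
  have hIEY : Inv E Y := inv_restrict hVp hY hIY.sub hI hEY
  refine ⟨V, Y, hY, hIY, hEY, h.cen, fun a ha => ?_, fun K hK hIK hKh hKp => ?_⟩
  · -- automorphisms of `T`
    obtain ⟨â, hâ, hâ1, -, -⟩ := exists_hat hVp hY hIEY.strong ((mem_autGroup_iff hTV).1 ha)
    have hTU : T ≤ PC V T T := le_sup_left
    obtain ⟨α, ⟨hα, β, hβ, hβα⟩, g, hg, h1⟩ := map_EH.1 hâ.map
    have h2 : Map (YFS hVp h.sat hIX hN) (PC V T T) g := gen_le (fun Q hQ => opp_le_Y hVp h.sat hE hIX hN hQ) hg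
    obtain ⟨-, h3⟩ := map_YFS.1 h2
    obtain ⟨n, hn, e, he, h4⟩ := h3 (U_mem hVp h.sat hIX)
    rw [inf_eq_right.2 hTU] at he h4
    have heT : Iso E T T e := he.iso_of_im_eq (eq_of_le_of_card_le he.im_le he.card_im.ge)
    have heN : heT.aut ∈ N := hEN heT.aut_mem
    have e0 : a = β * (n * heT.aut) := by
      ext x
      have e1 : totA a x = totA α (g x) := by rw [← hâ1 x x.2, h1 x (hTU x.2)]
      rw [h4 x x.2, totA_apply] at e1
      have e2 : totA n (e x) ∈ T := totA_mem (he.mem x.2)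
      rw [e1, totA_of_mem α (hTV e2), ← hβα ⟨_, e2⟩]
      have e3 : (⟨totA n (e x), e2⟩ : T) = (n * heT.aut) x := Subtype.ext (by
        show totA n (e x) = ((n (heT.aut x) : T) : Ω)
        rw [← totA_apply n (heT.aut x)]; rfl)
      rw [e3]; rfl
    rw [e0]
    exact mul_mem hβ.1 (mul_mem hn.1 heN)
  · have hKX := h.lim K hK hIK hKh hKp
    have hIKX : Inv K X := inv_restrict hVp h.sat h.inv.sub hIK hKX
    have hIYX : Inv Y X := inv_restrict hVp h.sat h.inv.sub hIY hYX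
    exact res_le_pp hVp h.sat hY hIYX hopp hK hIKX hKp

end

end Cfsg.Agent.H27.Pp
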