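import Mathlib
import Cfsg.Agent.H27_Rs4
import Cfsg.Agent.H27_Aut2
import Cfsg.Prelude.Def_Local

/-! Residual theory, part five: the chain induction for `p`-solvable quotients of `Aut_F(T)`. -/

set_option autoImplicit false
set_option linter.all false

namespace Cfsg.Agent.H27.Pp

open Cfsg Cfsg.FusionSystem Cfsg.Agent.H27.Fus Cfsg.Agent.H27.Grp Cfsg.Agent.H27.Ix Cfsg.Agent.H27.Sc

universe u

/-- unpack a `p`-solvable quotient as a chain of subgroups -/
theorem exists_chain {G : Type*} [Group G] {p : ℕ} {A B : Subgroup G} (hBA : B ≤ A) [hn : (B.subgroupOf A).Normal]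
    (h : IsPSolvable p (↥A ⧸ B.subgroupOf A)) :
    ∃ (n : ℕ) (M : ℕ → Subgroup G), M 0 = B ∧ M n = A ∧ (∀ i, B ≤ M i) ∧ (∀ i, ∀ a ∈ A, ∀ x ∈ M i, a * x * a⁻¹ ∈ M i) ∧
      ∀ i < n, (∃ m : ℕ, ∀ a ∈ M (i + 1), a ^ (p ^ m) ∈ M i) ∨ (∃ k : ℕ, k.Coprime p ∧ ∀ a ∈ M (i + 1), a ^ k ∈ M i) := by
  obtain ⟨n, H, h0, h1, hm, hN, hst⟩ := h
  let π := QuotientGroup.mk' (B.subgroupOf A)
  let M : ℕ → Subgroup G := fun i => ((H (Fin.ofNat (n + 1) i)).comap π).map A.subtype
  have hM : ∀ i x, x ∈ M i ↔ ∃ hx : x ∈ A, π ⟨x, hx⟩ ∈ H (Fin.ofNat (n + 1) i) := by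
    intro i x
    simp only [M, Subgroup.mem_map, Subgroup.mem_comap, Subgroup.coe_subtype, Subtype.exists]
    constructor
    · rintro ⟨a, ha, h2, rfl⟩; exact ⟨ha, h2⟩
    · rintro ⟨hx, h2⟩; exact ⟨x, hx, h2, rfl⟩
  have hker : ∀ (x : G) (hx : x ∈ A), π ⟨x, hx⟩ = 1 ↔ x ∈ B := by
    intro x hx
    rw [← MonoidHom.mem_ker, QuotientGroup.ker_mk', Subgroup.mem_subgroupOf]
  refine ⟨n, M, ?_, ?_, ?_, ?_, ?_⟩
  · ext x
    rw [hM]
    have e : Fin.ofNat (n + 1) 0 = 0 := rfl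
    rw [e, h0]
    constructor
    · rintro ⟨hx, h2⟩; exact (hker x hx).1 (Subgroup.mem_bot.1 h2)
    · intro hx; exact ⟨hBA hx, Subgroup.mem_bot.2 ((hker x (hBA hx)).2 hx)⟩
  · ext x
    rw [hM]
    have e : Fin.ofNat (n + 1) n = Fin.last n := by ext; simp
    rw [e, h1]
    exact ⟨fun ⟨hx, _⟩ => hx, fun hx => ⟨hx, Subgroup.mem_top _⟩⟩
  · intro i x hx
    rw [hM]
    refine ⟨hBA hx, ?_⟩
    rw [(hker x (hBA hx)).2 hx]
    exact one_mem _
  · intro i a ha x hx
    rw [hM] at hx ⊢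
    obtain ⟨hxA, h2⟩ := hx
    refine ⟨mul_mem (mul_mem ha hxA) (inv_mem ha), ?_⟩
    have e : (⟨a * x * a⁻¹, mul_mem (mul_mem ha hxA) (inv_mem ha)⟩ : A) = ⟨a, ha⟩ * ⟨x, hxA⟩ * ⟨a, ha⟩⁻¹ := rfl
    rw [e, map_mul, map_mul, map_inv]
    exact (hN _).conj_mem _ h2 _
  · intro i hi
    have e1 : Fin.ofNat (n + 1) i = (⟨i, hi⟩ : Fin n).castSucc := by
      ext; simp [Nat.mod_eq_of_lt (show i < n + 1 by omega)]
    have e2 : Fin.ofNat (n + 1) (i + 1) = (⟨i, hi⟩ : Fin n).succ := by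
      ext; simp [Nat.mod_eq_of_lt (show i + 1 < n + 1 by omega)]
    have key : ∀ a ∈ M (i + 1), a ^ ((H (⟨i, hi⟩ : Fin n).castSucc).relIndex (H (⟨i, hi⟩ : Fin n).succ)) ∈ M i := by
      intro a ha
      rw [hM, e2] at ha
      rw [hM, e1]
      obtain ⟨haA, h2⟩ := ha
      refine ⟨pow_mem haA _, ?_⟩
      have := hN (⟨i, hi⟩ : Fin n).castSucc
      have h3 := Subgroup.pow_index_mem ((H (⟨i, hi⟩ : Fin n).castSucc).subgroupOf (H (⟨i, hi⟩ : Fin n).succ)) ⟨_, h2⟩
      exact h3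
    rcases hst ⟨i, hi⟩ with ⟨m, h2⟩ | h2
    · left
      refine ⟨m, fun a ha => ?_⟩
      have := key a ha
      rwa [h2] at this
    · right
      exact ⟨_, h2, key⟩

section
variable {Ω : Type u} [Group Ω] {p : ℕ} {S T V : Subgroup Ω} {P Q R : Subgroup Ω} {f g : Ω → Ω}
variable {F : FusionSystem S} {E : FusionSystem T} [Fact p.Prime] [Finite S]

theorem gx_chain (hS : IsPGroup p S) (hF : F.IsSaturated p) (hE : E.IsSaturated p) (hI : Inv E F)
    [hn : ((E.autGroup T).subgroupOf (F.autGroup T)).Normal]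
    (hsolv : IsPSolvable p (↥(F.autGroup T) ⧸ (E.autGroup T).subgroupOf (F.autGroup T))) :
    ∃ (V : Subgroup Ω) (X : FusionSystem V), GX F E p X (E.autGroup T) := by
  have hTS := hI.strong.1
  obtain ⟨n, M, h0, h1, h2, h3, h4⟩ := exists_chain (autGroup_mono_of_sub hI.sub hTS le_rfl) hsolv
  have : Finite (F.autGroup T) := finite_autGroup hTS
  have hT := finite_of_le hTS
  have key : ∀ j ≤ n, ∃ (V : Subgroup Ω) (X : FusionSystem V), GX F E p X (M (n - j)) := by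
    intro j
    induction j with
    | zero =>
      intro _
      refine ⟨S, F, ?_⟩
      rw [Nat.sub_zero, h1]
      exact gx_top hF hI
    | succ j ih =>
      intro hj
      obtain ⟨V, X, hX⟩ := ih (by omega)
      have e : n - j = n - (j + 1) + 1 := by omega
      rw [e] at hX
      rcases h4 (n - (j + 1)) (by omega) with ⟨m, h5⟩ | ⟨k, hk, h5⟩
      · refine hX.p_step hS hF hE hI (h2 _) (h3 _) ?_
        rw [opR_eq, Subgroup.closure_le]
        rintro a ⟨ha, ho⟩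
        have h6 := h5 a ha
        have h7 : a ∈ Subgroup.zpowers (a ^ p ^ m) := by
          have ho' : (orderOf a).Coprime (p ^ m) := Nat.Coprime.pow_right m ho
          obtain ⟨c, hc⟩ := exists_pow_eq_self_of_coprime ho'.symm
          exact ⟨c, by simpa using hc⟩
        exact (Subgroup.zpowers_le.2 h6) h7
      · refine hX.pp_step hS hF hE hI (h2 _) (h3 _) fun a ha l hl => ?_
        have h6 := h5 a ha
        have hc : (p ^ l).Coprime k := Nat.Coprime.pow_left l hk.symm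
        have h7 := Nat.gcd_eq_gcd_ab (p ^ l) k
        rw [hc] at h7
        have h8 : a = (a ^ (p ^ l)) ^ ((p ^ l).gcdA k) * (a ^ k) ^ ((p ^ l).gcdB k) := by
          rw [← zpow_natCast, ← zpow_natCast a k, ← zpow_mul, ← zpow_mul, ← zpow_add, ← h7, Nat.cast_one, zpow_one]
        rw [h8]
        exact mul_mem (zpow_mem hl _) (zpow_mem h6 _)
  obtain ⟨V, X, hX⟩ := key n le_rfl
  rw [Nat.sub_self, h0] at hX
  exact ⟨V, X, hX⟩

theorem gx_eq (hS : IsPGroup p S) (hF : F.IsSaturated p) (hE : E.IsSaturated p) (hI : Inv E F) {X : FusionSystem V}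
    (h : GX F E p X (E.autGroup T)) : V = T ⊔ centralizerIn S T := by
  have hTS := hI.strong.1
  have hVS := h.inv.strong.1
  have hT := finite_of_le hTS
  have hV := finite_of_le hVS
  have hTV : T ≤ V := sub_le h.sub
  refine le_antisymm (fun v hv => ?_) (sup_le hTV h.cen)
  have h1 : autInducedBy V T ≤ E.autGroup T := (autInducedBy_le_autGroup X hTV).trans h.aut
  have h2 := (isFullyAutomized_iff.1 (fn_automized (hS.to_le hTS) hE (fn_top E))).2
  have : Finite (E.autGroup T) := finite_autGroup le_rfl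
  have h3 : autInducedBy T T ≤ autInducedBy V T := by
    intro α hα
    obtain ⟨s, hs, h4⟩ := mem_autInducedBy.1 hα
    exact mem_autInducedBy.2 ⟨s, hTV hs, h4⟩
  have h4 := h2.eq_of_le h1 (isPGroup_autInducedBy (hS.to_le hVS)) h3
  have hvN : v ∈ normalizerIn S T := StronglyClosed.le_normalizer hI.strong (hVS hv)
  have hcI := conj_iso (F := F) hTS (fun s hs t ht => StronglyClosed.conj_mem hI.strong hs ht) (hVS hv)
  have hc : hcI.aut ∈ autInducedBy V T := mem_autInducedBy.2 ⟨v, hv, fun x => rfl⟩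
  rw [← h4] at hc
  obtain ⟨t, ht, h5⟩ := mem_autInducedBy.1 hc
  have h6 : t⁻¹ * v ∈ centralizerIn S T := by
    refine ⟨S.mul_mem (S.inv_mem (hTS ht)) (hVS hv), Subgroup.mem_centralizer_iff.2 fun x hx => ?_⟩
    have h7 : v * x * v⁻¹ = t * x * t⁻¹ := h5 ⟨x, hx⟩
    have h8 : t⁻¹ * (v * x * v⁻¹) * t = x := by rw [h7]; group
    calc x * (t⁻¹ * v) = (t⁻¹ * (v * x * v⁻¹) * t) * (t⁻¹ * v) := by rw [h8]
      _ = t⁻¹ * v * x := by group
  have h9 : v = t * (t⁻¹ * v) := by group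
  rw [h9]
  exact Subgroup.mul_mem_sup ht h6

/-- extension condition is trivial when the centralizer is inside -/
theorem extCond_triv {X : FusionSystem V} (hI : Inv X F) (h : centralizerIn S V ≤ V) : ExtCond X F := by
  intro a ha
  have hVS := hI.strong.1
  have e : V ⊔ centralizerIn S V = V := sup_eq_left.2 h
  have haF : Iso F V V a := ⟨hI.sub _ _ ha.map, ha.maps, ha.surj⟩
  refine ⟨a, by rw [e]; exact haF, fun x hx => rfl, fun c hc => ?_⟩
  have hcV := h hc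
  have h1 : a c ∈ V := haF.maps c hcV
  refine ⟨V.mul_mem (V.inv_mem hcV) h1, (Subgroup.centralizer (V : Set Ω)).mul_mem ((Subgroup.centralizer (V : Set Ω)).inv_mem hc.2) ?_⟩
  refine Subgroup.mem_centralizer_iff.2 fun x hx => ?_
  obtain ⟨y, hy, rfl⟩ := haF.surj x hx
  have h3 := Subgroup.mem_centralizer_iff.1 hc.2 y hy
  rw [← haF.map.mul hy hcV, ← haF.map.mul hcV hy, h3]

/-- the main result of this part -/
theorem s5202 (hS : IsPGroup p S) (hF : F.IsSaturated p) (hE : E.IsSaturated p) (hI : Inv E F)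
    [hn : ((E.autGroup T).subgroupOf (F.autGroup T)).Normal]
    (hsolv : IsPSolvable p (↥(F.autGroup T) ⧸ (E.autGroup T).subgroupOf (F.autGroup T))) :
    ∃ F₀ : FusionSystem (T ⊔ centralizerIn S T), F₀.IsSaturated p ∧ Inv F₀ F ∧ ExtCond F₀ F ∧ (∀ P f, Map E P f → Map F₀ P f) ∧
      F₀.autGroup T = E.autGroup T ∧ ∀ {U : Subgroup Ω} (K : FusionSystem U), K.IsResidualLimitOf F p →
        (∀ P f, Map K P f → Map F₀ P f) ∧ ∀ {V : Subgroup Ω} (L : FusionSystem V), L.IsResidualLimitOf F₀ p → Same K L := by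
  obtain ⟨V, X, hX⟩ := gx_chain hS hF hE hI hsolv
  have hV := gx_eq hS hF hE hI hX
  subst hV
  refine ⟨X, hX.sat, hX.inv, extCond_triv hX.inv ?_, hX.sub, le_antisymm hX.aut (autGroup_mono_of_sub hX.sub le_sup_left le_rfl),
    fun K hK => ?_⟩
  · intro x hx
    have h7 : x ∈ centralizerIn S T :=
      ⟨hx.1, Subgroup.centralizer_le (show (T : Set Ω) ⊆ ((T ⊔ centralizerIn S T : Subgroup Ω) : Set Ω) from
        fun y hy => Subgroup.mem_sup_left hy) hx.2⟩
    exact Subgroup.mem_sup_right h7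
  · obtain ⟨h1, h2, h3, h4, h5⟩ := lim_props hK ‹_› ‹_› hS F hF hF (inv_self F)
    have h6 := hX.lim K h1 h2 h3 h4
    exact ⟨h6, fun L hL => same_lim hS hF hX.sat hX.inv hK hL h6⟩

end

end Cfsg.Agent.H27.Pp
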