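import Mathlib
import Cfsg.Agent.H27_Rs5
import Cfsg.Agent.H27_Pp11

/-! Residual theory, part six: `p'`-automorphisms centralizing `T` and the centralizer of `E`. -/

set_option autoImplicit false
set_option linter.all false

namespace Cfsg.Agent.H27.Pp

open Cfsg Cfsg.FusionSystem Cfsg.Agent.H27.Fus Cfsg.Agent.H27.Grp Cfsg.Agent.H27.Ix Cfsg.Agent.H27.Sc

universe u

theorem exists_commuting {G : Type*} [Group G] {p q : ℕ} [Fact p.Prime] [hq : Fact q.Prime] (hpq : q ≠ p) {W : Subgroup G} [Finite W]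
    (hW : IsPGroup p W) {β b : G} (hβ : β ^ q = 1) (hWn : ∀ w ∈ W, β * w * β⁻¹ ∈ W) (hb : b⁻¹ * (β * b * β⁻¹) ∈ W) :
    ∃ w ∈ W, β * (b * w) * β⁻¹ = b * w := by
  classical
  have := Fintype.ofFinite W
  let f : W → W := fun w => ⟨b⁻¹ * (β * b * β⁻¹) * (β * w * β⁻¹), W.mul_mem hb (hWn _ w.2)⟩
  have hf : ∀ w : W, b * (f w : G) = β * (b * w) * β⁻¹ := fun w => by
    show b * (b⁻¹ * (β * b * β⁻¹) * (β * w * β⁻¹)) = _
    group
  have hn : ∀ (n : ℕ) (w : W), b * ((f^[n] w : W) : G) = β ^ n * (b * w) * (β ^ n)⁻¹ := by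
    intro n
    induction n with
    | zero => intro w; simp
    | succ n ih =>
      intro w
      rw [Function.iterate_succ_apply', hf, ih, pow_succ']
      group
  have hq1 : ∀ w : W, f^[q] w = w := by
    intro w
    have h := hn q w
    rw [hβ, one_mul, inv_one, mul_one] at h
    exact Subtype.ext (mul_left_cancel h)
  have hqpos : 0 < q := hq.out.pos
  let σ : Equiv.Perm W :=
    { toFun := f
      invFun := f^[q - 1]
      left_inv := fun w => by
        rw [← Function.iterate_succ_apply, Nat.succ_eq_add_one, Nat.sub_add_cancel hqpos]; exact hq1 w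
      right_inv := fun w => by
        show f (f^[q - 1] w) = w
        have h := Function.iterate_succ_apply' f (q - 1) w
        rw [← h, Nat.succ_eq_add_one, Nat.sub_add_cancel hqpos]; exact hq1 w }
  have hσ : σ ^ q ^ 1 = 1 := by
    rw [pow_one]
    ext w
    have key : ∀ n : ℕ, (σ ^ n) w = f^[n] w := by
      intro n
      induction n with
      | zero => rfl
      | succ n ih => rw [pow_succ', Equiv.Perm.mul_apply, ih, Function.iterate_succ_apply']; rfl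
    rw [key, hq1]; rfl
  have hcard : ¬ q ∣ Fintype.card W := by
    obtain ⟨n, hn⟩ := IsPGroup.iff_card.1 hW
    rw [← Nat.card_eq_fintype_card, hn]
    intro h
    exact hpq ((Nat.prime_dvd_prime_iff_eq hq.out (Fact.out)).1 (hq.out.dvd_of_dvd_pow h))
  obtain ⟨w, hw⟩ := Equiv.Perm.exists_fixed_point_of_prime hcard hσ
  have hw' : f w = w := hw
  exact ⟨w, w.2, by rw [← hf, hw']⟩

section
variable {Ω : Type u} [Group Ω] {S T Y : Subgroup Ω} {P Q R C : Subgroup Ω} {f g : Ω → Ω} {p : ℕ}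

/-- automorphisms acting trivially modulo `P` -/
def TrG (P Q : Subgroup Ω) : Subgroup (MulAut Q) where
  carrier := {w | ∀ x : Q, (x : Ω)⁻¹ * w x ∈ P}
  one_mem' := fun x => by simp [P.one_mem]
  mul_mem' := by
    rintro a b ha hb x
    have h := P.mul_mem (hb x) (ha (b x))
    have e : (x : Ω)⁻¹ * (b x : Q) * (((b x : Q) : Ω)⁻¹ * (a (b x) : Q)) = (x : Ω)⁻¹ * ((a * b) x : Q) := by
      rw [MulAut.mul_apply]; group
    rwa [e] at h
  inv_mem' := by
    rintro a ha x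
    have h := P.inv_mem (ha (a⁻¹ x))
    rw [MulAut.apply_inv_self] at h
    have e : (((a⁻¹ x : Q) : Ω)⁻¹ * (x : Ω))⁻¹ = (x : Ω)⁻¹ * (a⁻¹ x : Q) := by group
    rwa [e] at h

theorem mem_TrG {w : MulAut Q} : w ∈ TrG P Q ↔ ∀ x : Q, (x : Ω)⁻¹ * w x ∈ P := Iff.rfl

/-- automorphisms fixing `P` pointwise -/
def FxG (P Q : Subgroup Ω) : Subgroup (MulAut Q) where
  carrier := {w | ∀ x : Q, (x : Ω) ∈ P → w x = x}
  one_mem' := fun x _ => rfl
  mul_mem' := by
    rintro a b ha hb x hx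
    rw [MulAut.mul_apply, hb x hx, ha x hx]
  inv_mem' := by
    rintro a ha x hx
    conv_lhs => rw [← ha x hx]
    exact MulAut.inv_apply_self _ _ _

theorem mem_FxG {w : MulAut Q} : w ∈ FxG P Q ↔ ∀ x : Q, (x : Ω) ∈ P → w x = x := Iff.rfl

theorem TrG_conj {w d : MulAut Q} (hw : w ∈ TrG P Q) (hd : d ∈ FxG P Q) : d * w * d⁻¹ ∈ TrG P Q := by
  intro x
  set z := d⁻¹ x with hz
  have hx : x = d z := by rw [hz, MulAut.apply_inv_self]
  have e : (d * w * d⁻¹) x = d (w z) := rfl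
  have h := hw z
  have h2 : (((z⁻¹ * w z : Q)) : Ω) ∈ P := h
  have h3 := hd _ h2
  rw [map_mul, map_inv, ← hx] at h3
  rw [e]
  have h4 : (x : Ω)⁻¹ * (d (w z) : Q) = ((z⁻¹ * w z : Q) : Ω) := congrArg Subtype.val h3
  rw [h4]; exact h2

theorem tr_fx_pow {w : MulAut Q} (h1 : w ∈ TrG P Q) (h2 : w ∈ FxG P Q) : ∀ (k : ℕ) (x : Q), (w ^ k) x = x * (x⁻¹ * w x) ^ k := by
  intro k
  induction k with
  | zero => intro x; simp
  | succ k ih =>
    intro x
    have h3 : w (x⁻¹ * w x) = x⁻¹ * w x := h2 _ (h1 x)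
    rw [pow_succ', MulAut.mul_apply, ih x, map_mul, map_pow, h3, pow_succ', ← mul_assoc, mul_inv_cancel_left]

theorem tr_fx_pgroup [Fact p.Prime] [Finite P] (hP : IsPGroup p P) {W : Subgroup (MulAut Q)} (h1 : W ≤ TrG P Q) (h2 : W ≤ FxG P Q) :
    IsPGroup p W := by
  obtain ⟨n, hn⟩ := IsPGroup.iff_card.1 hP
  rintro ⟨w, hw⟩
  refine ⟨n, Subtype.ext ?_⟩
  show w ^ p ^ n = 1
  ext x
  rw [tr_fx_pow (h1 hw) (h2 hw)]
  have h3 : (x : Ω)⁻¹ * (w x : Q) ∈ P := h1 hw x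
  have h4 : ((⟨_, h3⟩ : P)) ^ p ^ n = 1 := by rw [← hn]; exact pow_card_eq_one'
  have h5 : ((x : Ω)⁻¹ * (w x : Q)) ^ p ^ n = 1 := congrArg Subtype.val h4
  push_cast
  rw [h5, mul_one]; rfl

variable {F : FusionSystem S} {E : FusionSystem T} [Fact p.Prime] [Finite S]

/-- a normal subsystem lies in the system of maps extending to `C_S(T)` -/
theorem e_le_X (hS : IsPGroup p S) (hF : F.IsSaturated p) (hE : E.IsSaturated p) (hI : Inv E F) (hx : ExtCond E F)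
    (h : Map E P f) : Map (XFS F T hI.strong) P f := by
  have hTS := hI.strong.1
  have hT := finite_of_le hTS
  obtain ⟨β, hβ, k, hk, h1⟩ := frat_gen (hS.to_le hTS) hE fam_centric P f h
  have h2 := gen_X hS hF hE hI hk
  have hβ' := (mem_autGroup_iff le_rfl).1 hβ
  have h3 : Map (XFS F T hI.strong) T (totA β) := by
    refine map_XFS.2 ⟨hI.sub _ _ hβ'.map, le_rfl, fun x hx => totA_mem hx, fun _ => ?_⟩
    obtain ⟨b, hb, hb1, hb2⟩ := hx _ hβ'
    exact ⟨b, hb.map, hb1, fun c hc => (hb2 c hc).1⟩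
  exact (h3.comp h2 fun x hx => h2.mem hx).congr fun x hx => (h1 x hx).symm

theorem cen_core (hS : IsPGroup p S) (hF : F.IsSaturated p) (hE : E.IsSaturated p) (hI : Inv E F) (hx : ExtCond E F)
    (hTR : T ≤ R) (hRS : R ≤ S) {δ : MulAut R} (hδ : δ ∈ F.autGroup R) (hδT : δ ∈ FxG T R)
    {q : ℕ} [Fact q.Prime] (hpq : q ≠ p) (hδq : δ ^ q = 1) (hP : P ∈ FC F T) (hf : Iso E P P f)
    (hY : Y ≤ Subgroup.closure {y | ∃ c : R, (c : Ω) ∈ centralizerIn S T ∧ y = (c : Ω)⁻¹ * δ c}) :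
    Y ≤ centralizerIn R T ∧ ∃ g, Map F (P ⊔ Y) g ∧ (∀ x ∈ P, g x = f x) ∧ ∀ y ∈ Y, g y = y := by
  have hTS := hI.strong.1
  have hPT : P ≤ T := hP.1
  have hδi := (mem_autGroup_iff hRS).1 hδ
  set C₁ := centralizerIn R T with hC₁
  have hC₁S : C₁ ≤ centralizerIn S T := fun x hx => ⟨hRS hx.1, hx.2⟩
  have hδC : ∀ x ∈ C₁, totA δ x ∈ C₁ := by
    intro x hx
    refine ⟨totA_mem hx.1, Subgroup.mem_centralizer_iff.2 fun t ht => ?_⟩
    have h1 : totA δ t = t := by rw [totA_of_mem _ (hTR ht), hδT ⟨t, hTR ht⟩ ht]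
    have h2 := Subgroup.mem_centralizer_iff.1 hx.2 t ht
    rw [← h1, ← hδi.map.mul (hTR ht) hx.1, ← hδi.map.mul hx.1 (hTR ht), h2]
  have hYC : Y ≤ C₁ := by
    refine hY.trans ((Subgroup.closure_le _).2 ?_)
    rintro _ ⟨c, hc, rfl⟩
    have h1 : (c : Ω) ∈ C₁ := ⟨c.2, hc.2⟩
    have h2 := hδC _ h1
    rw [totA_apply] at h2
    exact C₁.mul_mem (C₁.inv_mem h1) h2
  refine ⟨hYC, ?_⟩
  set Q := P ⊔ C₁ with hQ
  have hQR : Q ≤ R := sup_le (hPT.trans hTR) inf_le_left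
  have hQS := hQR.trans hRS
  have hfinQ : Finite Q := finite_of_le hQS
  have hfinP : Finite P := finite_of_le (hPT.trans hTS)
  obtain ⟨h1, h2, h3, h4⟩ := map_XFS.1 (e_le_X hS hF hE hI hx hf.map)
  obtain ⟨b, hb, hb1, hb2⟩ := h4 hP
  have himb : im P b = P := by rw [im_congr hb1]; exact hf.im_eq
  have hbQ : Map F Q b := hb.mono (sup_le_sup_left hC₁S _)
  have hu : ∀ c ∈ C₁, c⁻¹ * b c ∈ P := by
    intro c hc
    have h5 := cu_mem hI.strong hP hb (hC₁S hc) (hb2 c (hC₁S hc))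
    rwa [himb] at h5
  have hfP : ∀ x ∈ P, b x ∈ P := fun x hx => by rw [hb1 x hx]; exact hf.maps x hx
  have hbi : Iso F Q Q b := iso_of_card_le hbQ (hbQ.maps_sup (fun x hx => Subgroup.mem_sup_left (hfP x hx)) fun c hc => by
    have e : b c = c * (c⁻¹ * b c) := by group
    rw [e]; exact Q.mul_mem (Subgroup.mem_sup_right hc) (Subgroup.mem_sup_left (hu c hc))) le_rfl
  have hδP : ∀ x ∈ P, totA δ x = x := fun x hx => by
    rw [totA_of_mem _ (hTR (hPT hx)), hδT ⟨x, hTR (hPT hx)⟩ (hPT hx)]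
  have hδQ := hδi.map.mono hQR
  have hdi : Iso F Q Q (totA δ) := iso_of_card_le hδQ (hδQ.maps_sup (fun x hx => Subgroup.mem_sup_left (by rw [hδP x hx]; exact hx))
    fun c hc => Subgroup.mem_sup_right (hδC c hc)) le_rfl
  set B := hbi.aut with hB
  set D := hdi.aut with hD
  have hDF : D ∈ F.autGroup Q := hdi.aut_mem
  have hBF : B ∈ F.autGroup Q := hbi.aut_mem
  have hDn : ∀ (n : ℕ) (x : Q), (((D ^ n) x : Q) : Ω) = ((δ ^ n) ⟨x, hQR x.2⟩ : R) := by
    intro n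
    induction n with
    | zero => intro x; rfl
    | succ n ih =>
      intro x
      rw [pow_succ', pow_succ', MulAut.mul_apply, MulAut.mul_apply]
      show totA δ ((D ^ n) x : Q) = _
      rw [ih, totA_apply]
  have hDq : D ^ q = 1 := by
    ext x
    rw [hDn, hδq]; rfl
  have hDP : D ∈ FxG P Q := fun x hx => Subtype.ext (hδP x hx)
  have hcomm : ∀ x ∈ Q, ∀ c ∈ C₁, True := fun _ _ _ _ => trivial
  have hBT : B ∈ TrG P Q := by
    -- trivial modulo `P`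
    have key : ∀ x ∈ Q, ∃ y ∈ P, ∃ c ∈ C₁, y * c = x := by
      intro x hx
      refine mem_sup_nrm (fun y hy => Subgroup.mem_normalizer_iff.2 fun c => ?_) hx
      have key : ∀ z ∈ T, ∀ c ∈ C₁, z * c * z⁻¹ = c := fun z hz c hc => by
        rw [cn_comm (hC₁S hc) hz]; group
      constructor
      · intro hc
        rw [key y (hPT hy) c hc]; exact hc
      · intro hc
        have := key y⁻¹ (T.inv_mem (hPT hy)) _ hc
        rw [show y⁻¹ * (y * c * y⁻¹) * y⁻¹⁻¹ = c by group] at this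
        rw [this]; exact hc
    intro x
    obtain ⟨y, hy, c, hc, hyc⟩ := key x x.2
    show (x : Ω)⁻¹ * b x ∈ P
    rw [← hyc, hbQ.mul (Subgroup.mem_sup_left hy) (Subgroup.mem_sup_right hc)]
    have h5 := P.mul_mem (P.inv_mem hy) (hfP y hy)
    have h6 : y⁻¹ * b y * c = c * (y⁻¹ * b y) := cn_comm (hC₁S hc) (hPT h5)
    have e : (y * c)⁻¹ * (b y * b c) = c⁻¹ * (y⁻¹ * b y * c) * (c⁻¹ * b c) := by group
    rw [e, h6, ← mul_assoc c⁻¹ c, inv_mul_cancel, one_mul]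
    exact P.mul_mem h5 (hu c hc)
  have hBP : ∀ x : Q, (x : Ω) ∈ P → ((B x : Q) : Ω) ∈ P := fun x hx => hfP x hx
  set W : Subgroup (MulAut Q) := F.autGroup Q ⊓ (TrG P Q ⊓ FxG P Q) with hW
  have hWp : IsPGroup p W := tr_fx_pgroup (hS.to_le (hPT.trans hTS)) (inf_le_right.trans inf_le_left) (inf_le_right.trans inf_le_right)
  have : Finite (F.autGroup Q) := finite_autGroup hQS
  have hfinW : Finite W := finite_of_le (inf_le_left : W ≤ F.autGroup Q)
  have hBinv : ∀ x : Q, (x : Ω) ∈ P → B⁻¹ (B x) = x := fun x hx => MulAut.inv_apply_self _ _ _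
  obtain ⟨w, hw, hwe⟩ := exists_commuting (b := B) hpq hWp hDq (fun w hw => ⟨(F.autGroup Q).mul_mem ((F.autGroup Q).mul_mem hDF hw.1) ((F.autGroup Q).inv_mem hDF),
    TrG_conj hw.2.1 hDP, (FxG P Q).mul_mem ((FxG P Q).mul_mem hDP hw.2.2) ((FxG P Q).inv_mem hDP)⟩)
    ⟨(F.autGroup Q).mul_mem ((F.autGroup Q).inv_mem hBF) ((F.autGroup Q).mul_mem ((F.autGroup Q).mul_mem hDF hBF) ((F.autGroup Q).inv_mem hDF)),
      (TrG P Q).mul_mem ((TrG P Q).inv_mem hBT) (TrG_conj hBT hDP), fun x hx => by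
        have h5 : D⁻¹ x = x := (FxG P Q).inv_mem hDP x hx
        show B⁻¹ (D (B (D⁻¹ x))) = x
        rw [h5, hDP (B x) (hBP x hx), MulAut.inv_apply_self]⟩
  set G := B * w with hG
  have hGF : G ∈ F.autGroup Q := (F.autGroup Q).mul_mem hBF hw.1
  have hGT : G ∈ TrG P Q := (TrG P Q).mul_mem hBT hw.2.1
  have hGi := (mem_autGroup_iff hQS).1 hGF
  have hcom : ∀ x : Q, G (D x) = D (G x) := by
    intro x
    have h5 : D * G = G * D := mul_inv_eq_iff_eq_mul.1 hwe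
    exact (congrArg (fun a : MulAut Q => a x) h5).symm
  refine ⟨totA G, hGi.map.mono (sup_le_sup_left hYC _), fun x hx => ?_, fun y hy => ?_⟩
  · have hxQ : x ∈ Q := Subgroup.mem_sup_left hx
    rw [totA_of_mem _ hxQ]
    show ((B (w ⟨x, hxQ⟩) : Q) : Ω) = f x
    rw [hw.2.2 ⟨x, hxQ⟩ hx]
    exact hb1 x hx
  · have h5 : ∃ hy : y ∈ Q, ((G ⟨y, hy⟩ : Q) : Ω) = y := by
      have h6 := hY hy
      clear hy
      induction h6 using Subgroup.closure_induction with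
      | mem y h =>
        obtain ⟨c, hc, rfl⟩ := h
        have hcC : (c : Ω) ∈ C₁ := ⟨c.2, hc.2⟩
        have hcQ : (c : Ω) ∈ Q := Subgroup.mem_sup_right hcC
        set k : Q := ⟨c, hcQ⟩ with hk
        have e1 : (c : Ω)⁻¹ * (δ c : R) = ((k⁻¹ * D k : Q) : Ω) := by
          show _ = (c : Ω)⁻¹ * totA δ c
          rw [totA_apply]
        have hmem : (c : Ω)⁻¹ * (δ c : R) ∈ Q := by rw [e1]; exact (k⁻¹ * D k).2
        refine ⟨hmem, ?_⟩
        have e2 : (⟨(c : Ω)⁻¹ * (δ c : R), hmem⟩ : Q) = k⁻¹ * D k := Subtype.ext e1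
        rw [e2, map_mul, map_inv, hcom]
        set v : Q := k⁻¹ * G k with hv
        have hvP : (v : Ω) ∈ P := hGT k
        have e3 : G k = k * v := by rw [hv]; group
        rw [e3, map_mul, hDP v hvP]
        have e4 : (k * v)⁻¹ * (D k * v) = v⁻¹ * (k⁻¹ * D k) * v := by group
        rw [e4]
        have h7 : (((k⁻¹ * D k : Q)) : Ω) ∈ centralizerIn S T := by
          refine hC₁S ?_
          have := hδC c hcC
          exact C₁.mul_mem (C₁.inv_mem hcC) this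
        have h8 : (v : Ω) * ((k⁻¹ * D k : Q) : Ω) = ((k⁻¹ * D k : Q) : Ω) * v := cn_comm h7 (hPT hvP)
        have h9 : v * (k⁻¹ * D k) = (k⁻¹ * D k) * v := Subtype.ext h8
        have h10 : v⁻¹ * (k⁻¹ * D k) * v = k⁻¹ * D k := by rw [mul_assoc, ← h9]; group
        rw [h10, e1]
      | one => exact ⟨Q.one_mem, congrArg Subtype.val (map_one G)⟩
      | mul y z hy hz ihy ihz =>
        obtain ⟨h1, h2⟩ := ihy
        obtain ⟨h3, h4⟩ := ihz
        refine ⟨Q.mul_mem h1 h3, ?_⟩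
        have e : (⟨y * z, Q.mul_mem h1 h3⟩ : Q) = ⟨y, h1⟩ * ⟨z, h3⟩ := rfl
        rw [e, map_mul]
        show ((G ⟨y, h1⟩ : Q) : Ω) * (G ⟨z, h3⟩ : Q) = y * z
        rw [h2, h4]
      | inv y hy ihy =>
        obtain ⟨h1, h2⟩ := ihy
        refine ⟨Q.inv_mem h1, ?_⟩
        have e : (⟨y⁻¹, Q.inv_mem h1⟩ : Q) = ⟨y, h1⟩⁻¹ := rfl
        rw [e, map_inv]
        show ((G ⟨y, h1⟩ : Q) : Ω)⁻¹ = y⁻¹
        rw [h2]
    obtain ⟨hyQ, h6⟩ := h5
    rw [totA_of_mem _ hyQ, h6]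

end

end Cfsg.Agent.H27.Pp
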