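import Mathlib
import Cfsg.Agent.H27_Rs6

/-! Residual theory, part seven: the residual limit of a normal subsystem with small centralizer. -/

set_option autoImplicit false
set_option linter.all false

namespace Cfsg.Agent.H27.Pp

open Cfsg Cfsg.FusionSystem Cfsg.Agent.H27.Fus Cfsg.Agent.H27.Grp Cfsg.Agent.H27.Ix Cfsg.Agent.H27.Sc

universe u

section
variable {Ω : Type u} [Group Ω] {S T Y : Subgroup Ω} {P Q R C : Subgroup Ω} {f g : Ω → Ω} {p : ℕ}
variable {F : FusionSystem S} {E : FusionSystem T} [Fact p.Prime] [Finite S]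

theorem top_mem_FC (hI : Inv E F) (hT : Finite T) : T ∈ FC F T := (fc_iff hI).1 (by
  have := fc_iff (P := T) hI
  rw [this]
  refine ⟨le_rfl, fun R hR => ?_⟩
  obtain ⟨f, hf⟩ := isConj_iff.1 hR
  have h1 : im T f = T := StronglyClosed.im_eq hI.strong hf.map le_rfl
  rw [hf.im_eq] at h1
  rw [h1]; exact inf_le_left)

theorem e_le_cen (hS : IsPGroup p S) (hF : F.IsSaturated p) (hE : E.IsSaturated p) (hI : Inv E F) (hx : ExtCond E F)
    (hTR : T ≤ R) (hRS : R ≤ S) {δ : MulAut R} (hδ : δ ∈ F.autGroup R) (hδT : δ ∈ FxG T R)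
    {q : ℕ} [Fact q.Prime] (hpq : q ≠ p) (hδq : δ ^ q = 1)
    (hY : Y ≤ Subgroup.closure {y | ∃ c : R, (c : Ω) ∈ centralizerIn S T ∧ y = (c : Ω)⁻¹ * δ c})
    {C : FusionSystem (centralizerIn S Y)} (hC : F.IsCentralizerSystem Y C) : ∀ P f, Map E P f → Map C P f := by
  have hTS := hI.strong.1
  have hT := finite_of_le hTS
  have hid : Iso E T T id := iso_refl E le_rfl
  have hYR := (cen_core hS hF hE hI hx hTR hRS hδ hδT hpq hδq (top_mem_FC hI hT) hid hY).1
  have hTC : T ≤ centralizerIn S Y := fun t ht => mem_cen.2 ⟨hTS ht, fun y hy => (cn_comm (S := R) (hYR hy) ht).symm⟩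
  have core : ∀ P ∈ FC F T, ∀ f, Iso E P P f → Map C P f := by
    intro P hP f hf
    obtain ⟨-, g, hg, h1, h2⟩ := cen_core hS hF hE hI hx hTR hRS hδ hδT hpq hδq hP hf hY
    rw [map_of_isCentralizerSystem hC]
    refine ⟨?_, fun x hx => ?_, g, hg, h1, actsIn_bot_iff.2 h2⟩
    · rw [NK_bot]; exact hP.1.trans hTC
    · rw [NK_bot]; exact hTC (hP.1 (hf.maps x hx))
  refine alperin (hS.to_le hTS) hE ⟨fun h hfg => h.congr hfg, fun h hQ => h.mono hQ, fun _ _ h1 h2 hm => h2.comp h1 hm,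
    fun hi h => ?_⟩ (fun f hf => core T (top_mem_FC hI hT) f hf) (fun P hP f hf => core P ((fc_iff hI).1 hP.1) f hf)
  have h1 := h.iso
  rw [hi.im_eq] at h1
  exact h1.symm.map

/-- under the centralizer hypothesis, `p'`-automorphisms fixing `T` are trivial -/
theorem fix_trivial (hS : IsPGroup p S) (hF : F.IsSaturated p) (hE : E.IsSaturated p) (hI : Inv E F) (hx : ExtCond E F)
    (hCE : ∀ Y : Subgroup Ω, Y ≤ centralizerIn S T → (∀ C : FusionSystem (centralizerIn S Y), F.IsCentralizerSystem Y C →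
      ∀ P f, Map E P f → Map C P f) → Y ≤ T)
    (hTR : T ≤ R) (hR : R ≤ PC S T T) {δ : MulAut R} (hδ : δ ∈ F.autGroup R) (hδT : δ ∈ FxG T R) (ho : (orderOf δ).Coprime p) :
    δ = 1 := by
  have hTS := hI.strong.1
  have hT := finite_of_le hTS
  have hRS : R ≤ S := hR.trans (PC_le hTS le_rfl)
  have hfinR := finite_of_le hRS
  by_contra hne
  have ho1 : orderOf δ ≠ 1 := fun h => hne (orderOf_eq_one_iff.1 h)
  obtain ⟨q, hq, hqd⟩ := Nat.exists_prime_and_dvd ho1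
  have hfq : Fact q.Prime := ⟨hq⟩
  have hpq : q ≠ p := by
    rintro rfl
    have := Nat.Coprime.eq_one_of_dvd (Nat.Coprime.symm ho) hqd
    exact hq.one_lt.ne' this
  have hfinM : Finite (MulAut R) := Finite.of_injective (fun α : MulAut R => (α : R → R)) DFunLike.coe_injective
  have hop : orderOf δ ≠ 0 := (orderOf_pos δ).ne'
  set δ' := δ ^ (orderOf δ / q) with hδ'
  have ho' : orderOf δ' = q := orderOf_pow_orderOf_div hop hqd
  have hδq : δ' ^ q = 1 := by rw [← ho']; exact pow_orderOf_eq_one _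
  have hδ'F : δ' ∈ F.autGroup R := (F.autGroup R).pow_mem hδ _
  have hδ'T : δ' ∈ FxG T R := (FxG T R).pow_mem hδT _
  set Y := Subgroup.closure {y | ∃ c : R, (c : Ω) ∈ centralizerIn S T ∧ y = (c : Ω)⁻¹ * δ' c} with hY
  have hid : Iso E T T id := iso_refl E le_rfl
  have hYR := (cen_core (Y := Y) hS hF hE hI hx hTR hRS hδ'F hδ'T hpq hδq (top_mem_FC hI hT) hid le_rfl).1
  have hYT : Y ≤ T := hCE Y (hYR.trans fun x hx => ⟨hRS hx.1, hx.2⟩) fun C hC =>
    e_le_cen hS hF hE hI hx hTR hRS hδ'F hδ'T hpq hδq le_rfl hC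
  have hTr : δ' ∈ TrG T R := by
    intro x
    obtain ⟨t, ht, c, hc, h1⟩ := (mem_PC le_rfl).1 (hR x.2)
    have hcR : c ∈ R := by
      have e : c = t⁻¹ * x := by rw [← h1]; group
      rw [e]; exact R.mul_mem (R.inv_mem (hTR ht)) x.2
    have e : x = (⟨t, hTR ht⟩ : R) * ⟨c, hcR⟩ := Subtype.ext h1.symm
    rw [e, map_mul, hδ'T ⟨t, hTR ht⟩ ht]
    have h2 : c⁻¹ * (δ' ⟨c, hcR⟩ : R) ∈ T := hYT (Subgroup.subset_closure ⟨⟨c, hcR⟩, hc, rfl⟩)
    have e2 : (((⟨t, hTR ht⟩ : R) * ⟨c, hcR⟩ : R) : Ω)⁻¹ * ((⟨t, hTR ht⟩ * δ' ⟨c, hcR⟩ : R) : Ω) = c⁻¹ * (δ' ⟨c, hcR⟩ : R) := by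
      push_cast; group
    rw [e2]; exact h2
  have hp := tr_fx_pgroup (hS.to_le hTS) (Subgroup.zpowers_le.2 hTr) (Subgroup.zpowers_le.2 hδ'T)
  obtain ⟨n, hn⟩ := hp ⟨δ', Subgroup.mem_zpowers δ'⟩
  have h3 : δ' ^ p ^ n = 1 := congrArg Subtype.val hn
  have h4 : q ∣ p ^ n := by rw [← ho']; exact orderOf_dvd_of_pow_eq_one h3
  exact hpq ((Nat.prime_dvd_prime_iff_eq hq Fact.out).1 (hq.dvd_of_dvd_pow h4))

theorem tr_of_coprime (hS : IsPGroup p S) (hF : F.IsSaturated p) (hE : E.IsSaturated p) (hI : Inv E F) (hx : ExtCond E F)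
    (hCE : ∀ Y : Subgroup Ω, Y ≤ centralizerIn S T → (∀ C : FusionSystem (centralizerIn S Y), F.IsCentralizerSystem Y C →
      ∀ P f, Map E P f → Map C P f) → Y ≤ T)
    (hTR : T ≤ R) (hR : R ≤ PC S T T) {γ : MulAut R} (hγ : γ ∈ F.autGroup R) (ho : (orderOf γ).Coprime p)
    {a : Ω → Ω} (ha : Iso E T T a) (hγa : ∀ x (hx : x ∈ T), (γ ⟨x, hTR hx⟩ : Ω) = a x) : γ ∈ TrG T R := by
  have hTS := hI.strong.1
  have hT := finite_of_le hTS
  have hRS : R ≤ S := hR.trans (PC_le hTS le_rfl)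
  have hfinR := finite_of_le hRS
  obtain ⟨b, hb, hb1, hb2⟩ := hx a ha
  have hbR : Map F R b := hb.map.mono hR
  have haT : ∀ x ∈ T, a x ∈ T := fun x hx => ha.maps x hx
  have hbT : ∀ x ∈ R, x⁻¹ * b x ∈ T := by
    intro x hxR
    obtain ⟨t, ht, c, hc, rfl⟩ := (mem_PC le_rfl).1 (hR hxR)
    rw [hb.map.mul (Subgroup.mem_sup_left ht) (Subgroup.mem_sup_right hc), hb1 t ht]
    have h5 := T.mul_mem (T.inv_mem ht) (haT t ht)
    have h6 : t⁻¹ * a t * c = c * (t⁻¹ * a t) := cn_comm hc h5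
    have e : (t * c)⁻¹ * (a t * b c) = c⁻¹ * (t⁻¹ * a t * c) * (c⁻¹ * b c) := by group
    rw [e, h6, ← mul_assoc c⁻¹ c, inv_mul_cancel, one_mul]
    exact T.mul_mem h5 (hb2 c hc).1
  have hbi : Iso F R R b := iso_of_card_le hbR (fun x hxR => by
    have e : b x = x * (x⁻¹ * b x) := by group
    rw [e]; exact R.mul_mem hxR (hTR (hbT x hxR))) le_rfl
  set B := hbi.aut with hB
  have hBF : B ∈ F.autGroup R := hbi.aut_mem
  have hBT : B ∈ TrG T R := fun x => hbT x x.2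
  set δ := B⁻¹ * γ with hδ
  have hδF : δ ∈ F.autGroup R := (F.autGroup R).mul_mem ((F.autGroup R).inv_mem hBF) hγ
  have hδT : δ ∈ FxG T R := by
    intro x hxT
    have h1 : γ x = B x := Subtype.ext (by
      show (γ x : Ω) = b x
      rw [hb1 x hxT]; exact hγa x hxT)
    show B⁻¹ (γ x) = x
    rw [h1, MulAut.inv_apply_self]
  have hfinM : Finite (MulAut R) := Finite.of_injective (fun α : MulAut R => (α : R → R)) DFunLike.coe_injective
  obtain ⟨j, hj1, hj2⟩ := coprime_pow (Fact.out : p.Prime) (orderOf_pos δ) ho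
  have h1 : δ ^ j = 1 := fix_trivial hS hF hE hI hx hCE hTR hR ((F.autGroup R).pow_mem hδF _) ((FxG T R).pow_mem hδT _) hj2
  have h2 : γ ^ j = γ := by
    conv_rhs => rw [← pow_one γ]
    exact pow_eq_pow_iff_modEq.2 hj1
  have key : ∀ k : ℕ, γ ^ k * (δ ^ k)⁻¹ ∈ TrG T R := by
    intro k
    induction k with
    | zero => simp [(TrG T R).one_mem]
    | succ k ih =>
      have e : γ ^ (k + 1) * (δ ^ (k + 1))⁻¹ = B * (δ * (γ ^ k * (δ ^ k)⁻¹) * δ⁻¹) := by
        have e1 : γ = B * δ := by rw [hδ]; group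
        rw [pow_succ' γ, pow_succ' δ]
        conv_lhs => rw [e1]
        conv_rhs => rw [e1]
        rw [mul_inv_rev]
        simp only [mul_assoc]
      rw [e]
      exact (TrG T R).mul_mem hBT (TrG_conj ih hδT)
  have h3 := key j
  rwa [h1, h2, inv_one, mul_one] at h3

theorem hyp_le_T (hS : IsPGroup p S) (hF : F.IsSaturated p) (hE : E.IsSaturated p) (hI : Inv E F) (hx : ExtCond E F)
    (hCE : ∀ Y : Subgroup Ω, Y ≤ centralizerIn S T → (∀ C : FusionSystem (centralizerIn S Y), F.IsCentralizerSystem Y C →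
      ∀ P f, Map E P f → Map C P f) → Y ≤ T)
    {X : FusionSystem (T ⊔ centralizerIn S T)} (hX : X.IsSaturated p) (hIX : Inv X F) (hEX : ∀ P f, Map E P f → Map X P f)
    (haut : X.autGroup T = E.autGroup T) : X.hyperfocalSubgroup p ≤ T := by
  have hTS := hI.strong.1
  have hT := finite_of_le hTS
  have hVS := hIX.strong.1
  have hfinV := finite_of_le hVS
  have hVp := hS.to_le hVS
  have hIEX : Inv E X := inv_restrict hVp hX hIX.sub hI hEX
  have hTV : T ≤ T ⊔ centralizerIn S T := le_sup_left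
  rw [hyp_eq, Subgroup.closure_le]
  rintro _ ⟨P, α, x, hP, hα, rfl⟩
  have hle : opR p (X.autGroup P) ≤ TrG T P := by
    rw [opR_eq, Subgroup.closure_le]
    rintro α ⟨hα, hord⟩ x
    obtain ⟨γ, hγ, hγo, hγ1⟩ := ext_coprime_mod hVp hX hIEX.strong hP hα hord
    have hRV : P ⊔ T ≤ T ⊔ centralizerIn S T := sup_le hP hTV
    have hγi := (mem_autGroup_iff hRV).1 hγ
    have hTm : Map X T (totA γ) := hγi.map.mono le_sup_right
    have hTi : Iso X T T (totA γ) := hTm.iso_of_im_eq (StronglyClosed.im_eq hIEX.strong hTm le_rfl)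
    have h1 : hTi.aut ∈ E.autGroup T := by rw [← haut]; exact hTi.aut_mem
    have h2 := (mem_autGroup_iff (F := E) le_rfl).1 h1
    have h3 : γ ∈ TrG T (P ⊔ T) := by
      refine tr_of_coprime hS hF hE hI hx hCE le_sup_right hRV (autGroup_mono_of_sub hIX.sub hVS hRV hγ) hγo h2 fun y hy => ?_
      rw [totA_of_mem _ hy]
      show _ = totA γ y
      rw [totA_of_mem _ (Subgroup.mem_sup_right hy)]
    have h4 := T.mul_mem (h3 ⟨x, Subgroup.mem_sup_left x.2⟩) (hγ1 x)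
    have e : ((x : Ω))⁻¹ * (γ ⟨x, Subgroup.mem_sup_left x.2⟩ : ↥(P ⊔ T)) * (((γ ⟨x, Subgroup.mem_sup_left x.2⟩ : ↥(P ⊔ T)) : Ω)⁻¹ * (α x : P)) =
      (x : Ω)⁻¹ * (α x : P) := by group
    rwa [e] at h4
  exact hle hα x

theorem s5201 (hS : IsPGroup p S) (hF : F.IsSaturated p) (hE : E.IsSaturated p) (hI : Inv E F) (hx : ExtCond E F)
    (hCE : ∀ Y : Subgroup Ω, Y ≤ centralizerIn S T → (∀ C : FusionSystem (centralizerIn S Y), F.IsCentralizerSystem Y C →
      ∀ P f, Map E P f → Map C P f) → Y ≤ T)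
    [hn : ((E.autGroup T).subgroupOf (F.autGroup T)).Normal]
    (hsolv : IsPSolvable p (↥(F.autGroup T) ⧸ (E.autGroup T).subgroupOf (F.autGroup T)))
    {U V : Subgroup Ω} {K : FusionSystem U} (hK : K.IsResidualLimitOf F p) {L : FusionSystem V} (hL : L.IsResidualLimitOf E p) :
    Same K L := by
  obtain ⟨X, h1, h2, h3, h4, h5, h6⟩ := s5202 hS hF hE hI hsolv
  have hTS := hI.strong.1
  have hT := finite_of_le hTS
  have hVS := h2.strong.1
  have hfinV := finite_of_le hVS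
  have hVp := hS.to_le hVS
  have hIEX : Inv E X := inv_restrict hVp h1 h2.sub hI h4
  have hKX := (h6 K hK).1
  have hhyp := hyp_le_T hS hF hE hI hx hCE h1 h2 h4 h5
  have hpix : PIx E X p := by
    refine ⟨h4, hhyp, fun P hP => ?_⟩
    refine (opR_le _).trans fun α hα => ?_
    have hPV : P ≤ T ⊔ centralizerIn S T := hP.trans le_sup_left
    have hαi := (mem_autGroup_iff hPV).1 hα
    obtain ⟨a, g, ha, hg, h7⟩ := hIEX.frat P _ hP hαi.map
    have h8 : ha.aut ∈ E.autGroup T := by rw [← h5]; exact ha.aut_mem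
    have h9 := (mem_autGroup_iff (F := E) le_rfl).1 h8
    have h10 : Map E P (totA ha.aut ∘ g) := h9.map.comp hg fun x hx => hg.mem hx
    refine mem_autGroup_of (f := totA α) (h10.congr fun x hx => ?_) fun x => (totA_apply α x).symm
    rw [h7 x hx]
    show totA ha.aut (g x) = a (g x)
    rw [totA_of_mem _ (hg.mem hx)]; rfl
  obtain ⟨k1, k2, k3, k4, k5⟩ := lim_props hK ‹_› ‹_› hS F hF hF (inv_self F)
  have hUT : U ≤ T := by
    rw [← k3]; exact (hyp_mono' hKX).trans hhyp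
  have hKE : ∀ P f, Map K P f → Map E P f := hpix.contains hVp k1 hKX hUT
  exact same_lim hS hF hE hI hK hL hKE

end

end Cfsg.Agent.H27.Pp
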