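import Mathlib
import Cfsg.Agent.H27_Rs7

/-! The centralizer of a normal subsystem, part one. -/

set_option autoImplicit false
set_option linter.all false

namespace Cfsg.Agent.H27.Pp

open Cfsg Cfsg.FusionSystem Cfsg.Agent.H27.Fus Cfsg.Agent.H27.Grp Cfsg.Agent.H27.Ix Cfsg.Agent.H27.Sc

universe u

open scoped commutatorElement

theorem exists_commuting' {G : Type*} [Group G] {p q : ℕ} [Fact p.Prime] [hq : Fact q.Prime] (hpq : q ≠ p) {W : Subgroup G} [Finite W]
    (hW : IsPGroup p W) {β b : G} (hβ : ∀ w ∈ W, β ^ q * (b * w) * (β ^ q)⁻¹ = b * w) (hWn : ∀ w ∈ W, β * w * β⁻¹ ∈ W)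
    (hb : b⁻¹ * (β * b * β⁻¹) ∈ W) :
    ∃ w ∈ W, β * (b * w) * β⁻¹ = b * w := by
  classical
  have := Fintype.ofFinite W
  let f : W → W := fun w => ⟨b⁻¹ * (β * b * β⁻¹) * (β * w * β⁻¹), W.mul_mem hb (hWn _ w.2)⟩
  have hf : ∀ w : W, b * (f w : G) = β * (b * w) * β⁻¹ := fun w => by
    show b * (b⁻¹ * (β * b * β⁻¹) * (β * w * β⁻¹)) = _
    group
  have hn : ∀ (n : ℕ) (w : W), b * ((f^[n] w : W) : G) = β ^ n * (b * w) * (β ^ n)⁻¹ := by
    intro n
    induction n with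
    | zero => intro w; simp
    | succ n ih =>
      intro w
      rw [Function.iterate_succ_apply', hf, ih, pow_succ']
      group
  have hq1 : ∀ w : W, f^[q] w = w := by
    intro w
    have h := hn q w
    rw [hβ w w.2] at h
    exact Subtype.ext (mul_left_cancel h)
  have hqpos : 0 < q := hq.out.pos
  let σ : Equiv.Perm W :=
    { toFun := f
      invFun := f^[q - 1]
      left_inv := fun w => by
        rw [← Function.iterate_succ_apply, Nat.succ_eq_add_one, Nat.sub_add_cancel hqpos]; exact hq1 w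
      right_inv := fun w => by
        show f (f^[q - 1] w) = w
        have h := Function.iterate_succ_apply' f (q - 1) w
        rw [← h, Nat.succ_eq_add_one, Nat.sub_add_cancel hqpos]; exact hq1 w }
  have hσ : σ ^ q ^ 1 = 1 := by
    rw [pow_one]
    ext w
    have key : ∀ n : ℕ, (σ ^ n) w = f^[n] w := by
      intro n
      induction n with
      | zero => rfl
      | succ n ih => rw [pow_succ', Equiv.Perm.mul_apply, ih, Function.iterate_succ_apply']; rfl
    rw [key, hq1]; rfl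
  have hcard : ¬ q ∣ Fintype.card W := by
    obtain ⟨n, hn⟩ := IsPGroup.iff_card.1 hW
    rw [← Nat.card_eq_fintype_card, hn]
    intro h
    exact hpq ((Nat.prime_dvd_prime_iff_eq hq.out (Fact.out)).1 (hq.out.dvd_of_dvd_pow h))
  obtain ⟨w, hw⟩ := Equiv.Perm.exists_fixed_point_of_prime hcard hσ
  have hw' : f w = w := hw
  exact ⟨w, w.2, by rw [← hf, hw']⟩

theorem exists_commuting_coprime {G : Type*} [Group G] {p : ℕ} [hp : Fact p.Prime] : ∀ {n : ℕ} (_ : n.Coprime p) {W : Subgroup G} [Finite W]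
    {b : G} (_ : IsPGroup p W) {β : G} (_ : β ^ n = 1) (_ : ∀ w ∈ W, β * w * β⁻¹ ∈ W) (_ : b⁻¹ * (β * b * β⁻¹) ∈ W),
    ∃ w ∈ W, β * (b * w) * β⁻¹ = b * w := by
  intro n
  induction n using Nat.strong_induction_on with
  | _ n ih =>
  intro hn W hfin b hW β hβ hWn hb
  rcases eq_or_ne n 1 with rfl | hn1
  · rw [pow_one] at hβ
    exact ⟨1, W.one_mem, by rw [hβ]; group⟩
  have hn0 : n ≠ 0 := by
    rintro rfl
    rw [Nat.coprime_zero_left] at hn
    exact hp.out.one_lt.ne' hn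
  obtain ⟨q, hq, hqd⟩ := Nat.exists_prime_and_dvd hn1
  obtain ⟨m, rfl⟩ := hqd
  have hfq : Fact q.Prime := ⟨hq⟩
  have hpq : q ≠ p := by
    rintro rfl
    have := Nat.Coprime.eq_one_of_dvd (Nat.Coprime.symm hn) (Dvd.intro _ rfl)
    exact hq.one_lt.ne' this
  have hm0 : 0 < m := Nat.pos_of_ne_zero fun h => hn0 (by rw [h, mul_zero])
  have hm : m.Coprime p := Nat.Coprime.coprime_dvd_left (Dvd.intro_left _ rfl) hn
  have hlt : m < q * m := lt_mul_left hm0 hq.one_lt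
  have hWk : ∀ (k : ℕ), ∀ w ∈ W, β ^ k * w * (β ^ k)⁻¹ ∈ W := by
    intro k
    induction k with
    | zero => intro w hw; simpa using hw
    | succ k ihk =>
      intro w hw
      have h := hWn _ (ihk w hw)
      have e : β * (β ^ k * w * (β ^ k)⁻¹) * β⁻¹ = β ^ (k + 1) * w * (β ^ (k + 1))⁻¹ := by rw [pow_succ']; group
      rwa [e] at h
  have hbk : ∀ (k : ℕ), b⁻¹ * (β ^ k * b * (β ^ k)⁻¹) ∈ W := by
    intro k
    induction k with
    | zero => simp [W.one_mem]
    | succ k ihk =>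
      have h := W.mul_mem hb (hWn _ ihk)
      have e : b⁻¹ * (β * b * β⁻¹) * (β * (b⁻¹ * (β ^ k * b * (β ^ k)⁻¹)) * β⁻¹) = b⁻¹ * (β ^ (k + 1) * b * (β ^ (k + 1))⁻¹) := by
        rw [pow_succ']; group
      rwa [e] at h
  obtain ⟨w₁, hw₁, h1⟩ := ih m hlt hm hW (β := β ^ q) (by rw [← pow_mul]; exact hβ) (hWk q) (hbk q)
  set W₁ := W ⊓ Subgroup.centralizer {β ^ q} with hW₁
  have hfin₁ : Finite W₁ := Finite.of_injective (Subgroup.inclusion (inf_le_left : W₁ ≤ W)) (Subgroup.inclusion_injective _)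
  have hmem : ∀ x : G, x ∈ Subgroup.centralizer {β ^ q} ↔ β ^ q * x * (β ^ q)⁻¹ = x := by
    intro x
    rw [Subgroup.mem_centralizer_singleton_iff]
    constructor
    · intro h; rw [← h]; group
    · intro h
      have : β ^ q * x = x * β ^ q := mul_inv_eq_iff_eq_mul.1 h
      exact this.symm
  have hcomm : β * β ^ q = β ^ q * β := (pow_succ' β q).symm.trans (pow_succ β q)
  have hconj : ∀ x ∈ Subgroup.centralizer {β ^ q}, β * x * β⁻¹ ∈ Subgroup.centralizer {β ^ q} := by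
    intro x hx
    have hβm : β ∈ Subgroup.centralizer {β ^ q} := by
      rw [Subgroup.mem_centralizer_singleton_iff]; exact hcomm
    exact mul_mem (mul_mem hβm hx) (inv_mem hβm)
  have hbm : b * w₁ ∈ Subgroup.centralizer {β ^ q} := (hmem _).2 h1
  obtain ⟨w₂, hw₂, h2⟩ := exists_commuting' (b := b * w₁) (β := β) hpq (hW.to_le (inf_le_left : W₁ ≤ W))
    (fun w hw => (hmem _).1 (mul_mem hbm hw.2)) (fun w hw => ⟨hWn w hw.1, hconj w hw.2⟩)
    ⟨by
      have h := W.mul_mem (W.mul_mem (W.inv_mem hw₁) hb) (hWn _ hw₁)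
      have e : w₁⁻¹ * (b⁻¹ * (β * b * β⁻¹)) * (β * w₁ * β⁻¹) = (b * w₁)⁻¹ * (β * (b * w₁) * β⁻¹) := by group
      rwa [e] at h, (Subgroup.centralizer {β ^ q}).mul_mem ((Subgroup.centralizer {β ^ q}).inv_mem hbm) (hconj _ hbm)⟩
  exact ⟨w₁ * w₂, W.mul_mem hw₁ hw₂.1, by simpa only [mul_assoc] using h2⟩

theorem comm_fix {G : Type*} [Group G] {c d u v : G} (c1 : u * c = c * u) (c2 : u * d = d * u) (c3 : v * c = c * v)
    (c4 : v * d = d * v) (huv : u * v = v * u) : ⁅c * u, d * v⁆ = ⁅c, d⁆ := by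
  rw [commutatorElement_def, commutatorElement_def, mul_inv_rev, mul_inv_rev]
  calc c * u * (d * v) * (u⁻¹ * c⁻¹) * (v⁻¹ * d⁻¹) = c * (u * d) * v * u⁻¹ * (c⁻¹ * v⁻¹) * d⁻¹ := by group
    _ = c * (d * u) * v * u⁻¹ * (v⁻¹ * c⁻¹) * d⁻¹ := by
        rw [c2]
        have : c⁻¹ * v⁻¹ = v⁻¹ * c⁻¹ := by rw [← mul_inv_rev, ← mul_inv_rev, c3]
        rw [this]
    _ = c * d * (u * v) * u⁻¹ * v⁻¹ * c⁻¹ * d⁻¹ := by group
    _ = c * d * (v * u) * u⁻¹ * v⁻¹ * c⁻¹ * d⁻¹ := by rw [huv]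
    _ = c * d * c⁻¹ * d⁻¹ := by group

section
variable {Ω : Type u} [Group Ω] {S T Y : Subgroup Ω} {P Q R C : Subgroup Ω} {f g : Ω → Ω} {p : ℕ}
variable {F : FusionSystem S} {E : FusionSystem T} [Fact p.Prime] [Finite S]

theorem cen_core' (hS : IsPGroup p S) (hF : F.IsSaturated p) (hE : E.IsSaturated p) (hI : Inv E F) (hx : ExtCond E F)
    (hTR : T ≤ R) (hRS : R ≤ S) {δ : MulAut R} (hδ : δ ∈ F.autGroup R) (hδT : δ ∈ FxG T R)
    (hδo : (orderOf δ).Coprime p) (hP : P ∈ FC F T) (hf : Iso E P P f)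
    (hY : Y ≤ Subgroup.closure {y | ∃ c : R, (c : Ω) ∈ centralizerIn S T ∧ y = (c : Ω)⁻¹ * δ c}) :
    Y ≤ centralizerIn R T ∧ ∃ g, Map F (P ⊔ Y) g ∧ (∀ x ∈ P, g x = f x) ∧ ∀ y ∈ Y, g y = y := by
  have hTS := hI.strong.1
  have hPT : P ≤ T := hP.1
  have hδi := (mem_autGroup_iff hRS).1 hδ
  set C₁ := centralizerIn R T with hC₁
  have hC₁S : C₁ ≤ centralizerIn S T := fun x hx => ⟨hRS hx.1, hx.2⟩
  have hδC : ∀ x ∈ C₁, totA δ x ∈ C₁ := by
    intro x hx
    refine ⟨totA_mem hx.1, Subgroup.mem_centralizer_iff.2 fun t ht => ?_⟩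
    have h1 : totA δ t = t := by rw [totA_of_mem _ (hTR ht), hδT ⟨t, hTR ht⟩ ht]
    have h2 := Subgroup.mem_centralizer_iff.1 hx.2 t ht
    rw [← h1, ← hδi.map.mul (hTR ht) hx.1, ← hδi.map.mul hx.1 (hTR ht), h2]
  have hYC : Y ≤ C₁ := by
    refine hY.trans ((Subgroup.closure_le _).2 ?_)
    rintro _ ⟨c, hc, rfl⟩
    have h1 : (c : Ω) ∈ C₁ := ⟨c.2, hc.2⟩
    have h2 := hδC _ h1
    rw [totA_apply] at h2
    exact C₁.mul_mem (C₁.inv_mem h1) h2
  refine ⟨hYC, ?_⟩
  set Q := P ⊔ C₁ with hQ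
  have hQR : Q ≤ R := sup_le (hPT.trans hTR) inf_le_left
  have hQS := hQR.trans hRS
  have hfinQ : Finite Q := finite_of_le hQS
  have hfinP : Finite P := finite_of_le (hPT.trans hTS)
  obtain ⟨h1, h2, h3, h4⟩ := map_XFS.1 (e_le_X hS hF hE hI hx hf.map)
  obtain ⟨b, hb, hb1, hb2⟩ := h4 hP
  have himb : im P b = P := by rw [im_congr hb1]; exact hf.im_eq
  have hbQ : Map F Q b := hb.mono (sup_le_sup_left hC₁S _)
  have hu : ∀ c ∈ C₁, c⁻¹ * b c ∈ P := by
    intro c hc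
    have h5 := cu_mem hI.strong hP hb (hC₁S hc) (hb2 c (hC₁S hc))
    rwa [himb] at h5
  have hfP : ∀ x ∈ P, b x ∈ P := fun x hx => by rw [hb1 x hx]; exact hf.maps x hx
  have hbi : Iso F Q Q b := iso_of_card_le hbQ (hbQ.maps_sup (fun x hx => Subgroup.mem_sup_left (hfP x hx)) fun c hc => by
    have e : b c = c * (c⁻¹ * b c) := by group
    rw [e]; exact Q.mul_mem (Subgroup.mem_sup_right hc) (Subgroup.mem_sup_left (hu c hc))) le_rfl
  have hδP : ∀ x ∈ P, totA δ x = x := fun x hx => by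
    rw [totA_of_mem _ (hTR (hPT hx)), hδT ⟨x, hTR (hPT hx)⟩ (hPT hx)]
  have hδQ := hδi.map.mono hQR
  have hdi : Iso F Q Q (totA δ) := iso_of_card_le hδQ (hδQ.maps_sup (fun x hx => Subgroup.mem_sup_left (by rw [hδP x hx]; exact hx))
    fun c hc => Subgroup.mem_sup_right (hδC c hc)) le_rfl
  set B := hbi.aut with hB
  set D := hdi.aut with hD
  have hDF : D ∈ F.autGroup Q := hdi.aut_mem
  have hBF : B ∈ F.autGroup Q := hbi.aut_mem
  have hDn : ∀ (n : ℕ) (x : Q), (((D ^ n) x : Q) : Ω) = ((δ ^ n) ⟨x, hQR x.2⟩ : R) := by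
    intro n
    induction n with
    | zero => intro x; rfl
    | succ n ih =>
      intro x
      rw [pow_succ', pow_succ', MulAut.mul_apply, MulAut.mul_apply]
      show totA δ ((D ^ n) x : Q) = _
      rw [ih, totA_apply]
  have hDq : D ^ orderOf δ = 1 := by
    ext x
    rw [hDn, pow_orderOf_eq_one]; rfl
  have hDP : D ∈ FxG P Q := fun x hx => Subtype.ext (hδP x hx)
  have hcomm : ∀ x ∈ Q, ∀ c ∈ C₁, True := fun _ _ _ _ => trivial
  have hBT : B ∈ TrG P Q := by
    -- trivial modulo `P`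
    have key : ∀ x ∈ Q, ∃ y ∈ P, ∃ c ∈ C₁, y * c = x := by
      intro x hx
      refine mem_sup_nrm (fun y hy => Subgroup.mem_normalizer_iff.2 fun c => ?_) hx
      have key : ∀ z ∈ T, ∀ c ∈ C₁, z * c * z⁻¹ = c := fun z hz c hc => by
        rw [cn_comm (hC₁S hc) hz]; group
      constructor
      · intro hc
        rw [key y (hPT hy) c hc]; exact hc
      · intro hc
        have := key y⁻¹ (T.inv_mem (hPT hy)) _ hc
        rw [show y⁻¹ * (y * c * y⁻¹) * y⁻¹⁻¹ = c by group] at this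
        rw [this]; exact hc
    intro x
    obtain ⟨y, hy, c, hc, hyc⟩ := key x x.2
    show (x : Ω)⁻¹ * b x ∈ P
    rw [← hyc, hbQ.mul (Subgroup.mem_sup_left hy) (Subgroup.mem_sup_right hc)]
    have h5 := P.mul_mem (P.inv_mem hy) (hfP y hy)
    have h6 : y⁻¹ * b y * c = c * (y⁻¹ * b y) := cn_comm (hC₁S hc) (hPT h5)
    have e : (y * c)⁻¹ * (b y * b c) = c⁻¹ * (y⁻¹ * b y * c) * (c⁻¹ * b c) := by group
    rw [e, h6, ← mul_assoc c⁻¹ c, inv_mul_cancel, one_mul]
    exact P.mul_mem h5 (hu c hc)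
  have hBP : ∀ x : Q, (x : Ω) ∈ P → ((B x : Q) : Ω) ∈ P := fun x hx => hfP x hx
  set W : Subgroup (MulAut Q) := F.autGroup Q ⊓ (TrG P Q ⊓ FxG P Q) with hW
  have hWp : IsPGroup p W := tr_fx_pgroup (hS.to_le (hPT.trans hTS)) (inf_le_right.trans inf_le_left) (inf_le_right.trans inf_le_right)
  have : Finite (F.autGroup Q) := finite_autGroup hQS
  have hfinW : Finite W := finite_of_le (inf_le_left : W ≤ F.autGroup Q)
  have hBinv : ∀ x : Q, (x : Ω) ∈ P → B⁻¹ (B x) = x := fun x hx => MulAut.inv_apply_self _ _ _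
  obtain ⟨w, hw, hwe⟩ := exists_commuting_coprime hδo (b := B) hWp hDq (fun w hw => ⟨(F.autGroup Q).mul_mem ((F.autGroup Q).mul_mem hDF hw.1) ((F.autGroup Q).inv_mem hDF),
    TrG_conj hw.2.1 hDP, (FxG P Q).mul_mem ((FxG P Q).mul_mem hDP hw.2.2) ((FxG P Q).inv_mem hDP)⟩)
    ⟨(F.autGroup Q).mul_mem ((F.autGroup Q).inv_mem hBF) ((F.autGroup Q).mul_mem ((F.autGroup Q).mul_mem hDF hBF) ((F.autGroup Q).inv_mem hDF)),
      (TrG P Q).mul_mem ((TrG P Q).inv_mem hBT) (TrG_conj hBT hDP), fun x hx => by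
        have h5 : D⁻¹ x = x := (FxG P Q).inv_mem hDP x hx
        show B⁻¹ (D (B (D⁻¹ x))) = x
        rw [h5, hDP (B x) (hBP x hx), MulAut.inv_apply_self]⟩
  set G := B * w with hG
  have hGF : G ∈ F.autGroup Q := (F.autGroup Q).mul_mem hBF hw.1
  have hGT : G ∈ TrG P Q := (TrG P Q).mul_mem hBT hw.2.1
  have hGi := (mem_autGroup_iff hQS).1 hGF
  have hcom : ∀ x : Q, G (D x) = D (G x) := by
    intro x
    have h5 : D * G = G * D := mul_inv_eq_iff_eq_mul.1 hwe
    exact (congrArg (fun a : MulAut Q => a x) h5).symm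
  refine ⟨totA G, hGi.map.mono (sup_le_sup_left hYC _), fun x hx => ?_, fun y hy => ?_⟩
  · have hxQ : x ∈ Q := Subgroup.mem_sup_left hx
    rw [totA_of_mem _ hxQ]
    show ((B (w ⟨x, hxQ⟩) : Q) : Ω) = f x
    rw [hw.2.2 ⟨x, hxQ⟩ hx]
    exact hb1 x hx
  · have h5 : ∃ hy : y ∈ Q, ((G ⟨y, hy⟩ : Q) : Ω) = y := by
      have h6 := hY hy
      clear hy
      induction h6 using Subgroup.closure_induction with
      | mem y h =>
        obtain ⟨c, hc, rfl⟩ := h
        have hcC : (c : Ω) ∈ C₁ := ⟨c.2, hc.2⟩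
        have hcQ : (c : Ω) ∈ Q := Subgroup.mem_sup_right hcC
        set k : Q := ⟨c, hcQ⟩ with hk
        have e1 : (c : Ω)⁻¹ * (δ c : R) = ((k⁻¹ * D k : Q) : Ω) := by
          show _ = (c : Ω)⁻¹ * totA δ c
          rw [totA_apply]
        have hmem : (c : Ω)⁻¹ * (δ c : R) ∈ Q := by rw [e1]; exact (k⁻¹ * D k).2
        refine ⟨hmem, ?_⟩
        have e2 : (⟨(c : Ω)⁻¹ * (δ c : R), hmem⟩ : Q) = k⁻¹ * D k := Subtype.ext e1
        rw [e2, map_mul, map_inv, hcom]
        set v : Q := k⁻¹ * G k with hv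
        have hvP : (v : Ω) ∈ P := hGT k
        have e3 : G k = k * v := by rw [hv]; group
        rw [e3, map_mul, hDP v hvP]
        have e4 : (k * v)⁻¹ * (D k * v) = v⁻¹ * (k⁻¹ * D k) * v := by group
        rw [e4]
        have h7 : (((k⁻¹ * D k : Q)) : Ω) ∈ centralizerIn S T := by
          refine hC₁S ?_
          have := hδC c hcC
          exact C₁.mul_mem (C₁.inv_mem hcC) this
        have h8 : (v : Ω) * ((k⁻¹ * D k : Q) : Ω) = ((k⁻¹ * D k : Q) : Ω) * v := cn_comm h7 (hPT hvP)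
        have h9 : v * (k⁻¹ * D k) = (k⁻¹ * D k) * v := Subtype.ext h8
        have h10 : v⁻¹ * (k⁻¹ * D k) * v = k⁻¹ * D k := by rw [mul_assoc, ← h9]; group
        rw [h10, e1]
      | one => exact ⟨Q.one_mem, congrArg Subtype.val (map_one G)⟩
      | mul y z hy hz ihy ihz =>
        obtain ⟨h1, h2⟩ := ihy
        obtain ⟨h3, h4⟩ := ihz
        refine ⟨Q.mul_mem h1 h3, ?_⟩
        have e : (⟨y * z, Q.mul_mem h1 h3⟩ : Q) = ⟨y, h1⟩ * ⟨z, h3⟩ := rfl
        rw [e, map_mul]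
        show ((G ⟨y, h1⟩ : Q) : Ω) * (G ⟨z, h3⟩ : Q) = y * z
        rw [h2, h4]
      | inv y hy ihy =>
        obtain ⟨h1, h2⟩ := ihy
        refine ⟨Q.inv_mem h1, ?_⟩
        have e : (⟨y⁻¹, Q.inv_mem h1⟩ : Q) = ⟨y, h1⟩⁻¹ := rfl
        rw [e, map_inv]
        show ((G ⟨y, h1⟩ : Q) : Ω)⁻¹ = y⁻¹
        rw [h2]
    obtain ⟨hyQ, h6⟩ := h5
    rw [totA_of_mem _ hyQ, h6]

/-- enough to centralize on automorphisms of centric subgroups -/
theorem cen_of_core (hS : IsPGroup p S) (hE : E.IsSaturated p) (hI : Inv E F) (hY : Y ≤ centralizerIn S T)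
    (core : ∀ P ∈ FC F T, ∀ f, Iso E P P f → ∃ g, Map F (P ⊔ Y) g ∧ (∀ x ∈ P, g x = f x) ∧ ∀ y ∈ Y, g y = y) :
    ∀ P f, Map E P f → NKmap F Y ⊥ P f := by
  have hTS := hI.strong.1
  have hT := finite_of_le hTS
  obtain ⟨C, hC⟩ := exists_centralizerSystem F Y (hY.trans cen_le)
  have hTC : T ≤ centralizerIn S Y := fun t ht => mem_cen.2 ⟨hTS ht, fun y hy => (cn_comm (hY hy) ht).symm⟩
  have core' : ∀ P ∈ FC F T, ∀ f, Iso E P P f → Map C P f := by
    intro P hP f hf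
    obtain ⟨g, hg, h1, h2⟩ := core P hP f hf
    rw [map_of_isCentralizerSystem hC]
    refine ⟨?_, fun x hx => ?_, g, hg, h1, actsIn_bot_iff.2 h2⟩
    · rw [NK_bot]; exact hP.1.trans hTC
    · rw [NK_bot]; exact hTC (hP.1 (hf.maps x hx))
  have key : ∀ P f, Map E P f → Map C P f := by
    refine alperin (hS.to_le hTS) hE ⟨fun h hfg => h.congr hfg, fun h hQ => h.mono hQ, fun _ _ h1 h2 hm => h2.comp h1 hm,
      fun hi h => ?_⟩ (fun f hf => core' T (top_mem_FC hI hT) f hf) (fun P hP f hf => core' P ((fc_iff hI).1 hP.1) f hf)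
    have h1 := h.iso
    rw [hi.im_eq] at h1
    exact h1.symm.map
  exact fun P f hf => (map_of_isCentralizerSystem hC).1 (key P f hf)

theorem cenHom_iff {Y : Subgroup Ω} : (∀ P, E.Hom P ⊆ F.centralizerHom Y P) ↔ ∀ P f, Map E P f → NKmap F Y ⊥ P f := by
  constructor
  · rintro h P f ⟨φ, hφ, hf⟩
    exact (NKmap_iff_centralizerHom hf).1 (h P hφ)
  · intro h P φ hφ
    exact (NKmap_iff_centralizerHom fun x => (tot_apply φ x).symm).2 (h P _ (map_tot hφ))

/-- `[C_S(T), C_S(T)]` centralizes `E` -/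
theorem comm_cen (hS : IsPGroup p S) (hF : F.IsSaturated p) (hE : E.IsSaturated p) (hI : Inv E F) (hx : ExtCond E F) :
    ∀ P f, Map E P f → NKmap F ⁅centralizerIn S T, centralizerIn S T⁆ ⊥ P f := by
  have hle : ⁅centralizerIn S T, centralizerIn S T⁆ ≤ centralizerIn S T := Subgroup.commutator_le_self _
  refine cen_of_core hS hE hI hle fun P hP f hf => ?_
  obtain ⟨h1, h2, h3, h4⟩ := map_XFS.1 (e_le_X hS hF hE hI hx hf.map)
  obtain ⟨b, hb, hb1, hb2⟩ := h4 hP
  refine ⟨b, hb.mono (sup_le_sup_left hle _), hb1, fun y hy => ?_⟩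
  have hb' : Map F (centralizerIn S T) b := hb.mono le_sup_right
  set φ := homOf (centralizerIn S T) b (fun x hx y hy => hb'.mul hx hy) with hφ
  have key : ∀ y ∈ ⁅centralizerIn S T, centralizerIn S T⁆, ∃ hy : y ∈ centralizerIn S T, φ ⟨y, hy⟩ = y := by
    intro y hy
    refine Subgroup.closure_induction (p := fun y _ => ∃ hy : y ∈ centralizerIn S T, φ ⟨y, hy⟩ = y) ?_ ?_ ?_ ?_ hy
    · rintro _ ⟨c, hc, d, hd, rfl⟩
      have hm := hle (Subgroup.commutator_mem_commutator hc hd)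
      refine ⟨hm, ?_⟩
      have e : (⟨⁅c, d⁆, hm⟩ : centralizerIn S T) = ⁅(⟨c, hc⟩ : centralizerIn S T), (⟨d, hd⟩ : centralizerIn S T)⁆ := rfl
      rw [e, map_commutatorElement]
      have hu := hb2 c hc
      have hv := hb2 d hd
      set u := c⁻¹ * b c with hu'
      set v := d⁻¹ * b d with hv'
      have e1 : φ ⟨c, hc⟩ = c * u := by show b c = c * u; rw [hu']; group
      have e2 : φ ⟨d, hd⟩ = d * v := by show b d = d * v; rw [hv']; group
      have hP' := hP
      have huv : u * v = v * u := by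
        -- `v` lies in `T ∩ C_S(P')`, and `u` in the image of `P`
        have h5 := cu_mem hI.strong hP hb hc hu
        obtain ⟨x, hx, hxe⟩ := (hb.mono (le_sup_left : P ≤ _)).mem_im.1 h5
        have hxU : x ∈ PC S T P := Subgroup.mem_sup_left hx
        have hdU : d ∈ PC S T P := Subgroup.mem_sup_right hd
        have h6 : b x * b d = b d * b x := by
          rw [← hb.mul hxU hdU, ← hb.mul hdU hxU, cn_comm hd (hP.1 hx)]
        have h7 : u * d = d * u := cn_comm hd hu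
        rw [hxe] at h6
        calc u * v = u * (d⁻¹ * b d) := by rw [hv']
          _ = d⁻¹ * (d * u) * d⁻¹ * b d := by group
          _ = d⁻¹ * (u * d) * d⁻¹ * b d := by rw [h7]
          _ = d⁻¹ * (u * b d) := by group
          _ = d⁻¹ * (b d * u) := by rw [h6]
          _ = v * u := by rw [hv']; group
      have c1 : u * c = c * u := cn_comm hc hu
      have c2 : u * d = d * u := cn_comm hd hu
      have c3 : v * c = c * v := cn_comm hc hv
      have c4 : v * d = d * v := cn_comm hd hv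
      rw [e1, e2]
      exact comm_fix c1 c2 c3 c4 huv
    · exact ⟨one_mem _, map_one φ⟩
    · rintro x y - - ⟨h5, h6⟩ ⟨h7, h8⟩
      refine ⟨mul_mem h5 h7, ?_⟩
      have e : (⟨x * y, mul_mem h5 h7⟩ : centralizerIn S T) = ⟨x, h5⟩ * ⟨y, h7⟩ := rfl
      rw [e, map_mul, h6, h8]
    · rintro x - ⟨h5, h6⟩
      refine ⟨Subgroup.inv_mem _ h5, ?_⟩
      have e : (⟨x⁻¹, Subgroup.inv_mem _ h5⟩ : centralizerIn S T) = ⟨x, h5⟩⁻¹ := rfl
      rw [e, map_inv, h6]
  obtain ⟨hy', h5⟩ := key y hy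
  exact h5

theorem s5293 (hS : IsPGroup p S) (hF : F.IsSaturated p) (hE : E.IsSaturated p) (hI : Inv E F) (hx : ExtCond E F)
    {D : FusionSystem (centralizerIn S T)} (hD : F.IsCentralizerSystem T D) {C : Subgroup Ω}
    (hC : ∀ X : Subgroup Ω, X ≤ centralizerIn S T → (∀ P f, Map E P f → NKmap F X ⊥ P f) → X ≤ C) : D.focalSubgroup ≤ C := by
  have hTS := hI.strong.1
  have hT := finite_of_le hTS
  have hCp := hS.to_le (cen_le (S := S) (P := T))
  have hfinC : Finite (centralizerIn S T) := finite_of_le cen_le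
  have hDs := centralizerSystem_saturated hS hF (fn_fc hS hF (StronglyClosed.fn hI.strong)) hD
  rw [foc_eq_hyp hCp hDs]
  refine sup_le ?_ (hC _ (Subgroup.commutator_le_self _) (comm_cen hS hF hE hI hx))
  rw [hyp_eq, Subgroup.closure_le]
  rintro _ ⟨P, α, x, hP, hα, rfl⟩
  have hle : opR p (D.autGroup P) ≤ TrG C P := by
    rw [opR_eq, Subgroup.closure_le]
    rintro α ⟨hα, hord⟩ x
    have hαi := (mem_autGroup_iff hP).1 hα
    obtain ⟨-, -, g, hg, h1, h2⟩ := (map_of_isCentralizerSystem hD).1 hαi.map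
    rw [actsIn_bot_iff] at h2
    set R := P ⊔ T with hR
    have hRS : R ≤ S := hg.le
    have hfinR := finite_of_le hRS
    have hgi : Iso F R R g := iso_of_card_le hg (hg.maps_sup (fun y hy => by
      rw [h1 y hy]; exact Subgroup.mem_sup_left (totA_mem hy)) fun y hy => by
      rw [h2 y hy]; exact Subgroup.mem_sup_right hy) le_rfl
    set δ := hgi.aut with hδ
    have hδT : δ ∈ FxG T R := fun y hy => Subtype.ext (h2 y hy)
    have hδn : ∀ (n : ℕ) (y : P), (((δ ^ n) ⟨y, Subgroup.mem_sup_left y.2⟩ : R) : Ω) = ((α ^ n) y : P) := by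
      intro n
      induction n with
      | zero => intro y; rfl
      | succ n ih =>
        intro y
        rw [pow_succ', pow_succ', MulAut.mul_apply, MulAut.mul_apply]
        show g ((δ ^ n) ⟨y, Subgroup.mem_sup_left y.2⟩ : R) = _
        rw [ih, h1 _ ((α ^ n) y).2, totA_apply]
    have hδo : δ ^ orderOf α = 1 := by
      have hm : Map F R (totA (δ ^ orderOf α)) := ((mem_autGroup_iff hRS).1 (pow_mem hgi.aut_mem _)).map
      have hfix : ∀ y ∈ R, totA (δ ^ orderOf α) y = y := by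
        intro y hy
        have h3 : Map F R (totA (δ ^ orderOf α)) := hm
        have key : ∀ y ∈ R, y ∈ Subgroup.closure ((P : Set Ω) ∪ T) := fun y hy => by
          rw [Subgroup.closure_union, Subgroup.closure_eq, Subgroup.closure_eq]; exact hy
        have h4 := key y hy
        clear hy
        have hcl : Subgroup.closure ((P : Set Ω) ∪ T) ≤ R := by
          rw [Subgroup.closure_union, Subgroup.closure_eq, Subgroup.closure_eq]
        induction h4 using Subgroup.closure_induction with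
        | mem y hy =>
          rcases hy with hy | hy
          · rw [totA_of_mem _ (Subgroup.mem_sup_left hy : y ∈ R), hδn _ ⟨y, hy⟩, pow_orderOf_eq_one]; rfl
          · rw [totA_of_mem _ (Subgroup.mem_sup_right hy : y ∈ R), (FxG T R).pow_mem hδT _ ⟨y, Subgroup.mem_sup_right hy⟩ hy]
        | one => exact hm.one
        | mul a b ha hb iha ihb => rw [hm.mul (hcl ha) (hcl hb), iha, ihb]
        | inv a ha iha => rw [hm.inv (hcl ha), iha]
      ext y
      have h5 := hfix y y.2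
      rw [totA_apply] at h5
      exact h5
    have hδo' : (orderOf δ).Coprime p := Nat.Coprime.coprime_dvd_left (orderOf_dvd_of_pow_eq_one hδo) hord
    set Y := Subgroup.closure {y | ∃ c : R, (c : Ω) ∈ centralizerIn S T ∧ y = (c : Ω)⁻¹ * δ c} with hY
    have hid : Iso E T T id := iso_refl E le_rfl
    have hYR := (cen_core' (Y := Y) hS hF hE hI hx le_sup_right hRS hgi.aut_mem hδT hδo' (top_mem_FC hI hT) hid le_rfl).1
    have hYS : Y ≤ centralizerIn S T := hYR.trans fun x hx => ⟨hRS hx.1, hx.2⟩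
    have hYC : Y ≤ C := hC Y hYS (cen_of_core hS hE hI hYS fun P hP f hf =>
      (cen_core' hS hF hE hI hx le_sup_right hRS hgi.aut_mem hδT hδo' hP hf le_rfl).2)
    refine hYC (Subgroup.subset_closure ⟨⟨x, Subgroup.mem_sup_left x.2⟩, hP x.2, ?_⟩)
    show (x : Ω)⁻¹ * (α x : P) = (x : Ω)⁻¹ * g x
    rw [h1 x x.2, totA_apply]
  exact hle hα x

end

end Cfsg.Agent.H27.Pp
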