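import Mathlib
import Cfsg.Agent.H27_Ce1

/-! The centralizer of a normal subsystem, part two: `T C_S(T)` is strongly closed. -/

set_option autoImplicit false
set_option linter.all false

namespace Cfsg.Agent.H27.Pp

open Cfsg Cfsg.FusionSystem Cfsg.Agent.H27.Fus Cfsg.Agent.H27.Grp Cfsg.Agent.H27.Ix Cfsg.Agent.H27.Sc

universe u

section
variable {Ω : Type u} [Group Ω] {S T Y : Subgroup Ω} {P Q R C : Subgroup Ω} {f g : Ω → Ω} {p : ℕ}
variable {F : FusionSystem S} {E : FusionSystem T} [Fact p.Prime] [Finite S]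

omit [Fact p.Prime] in
theorem map_cen_mem (hT : F.StronglyClosed T) (hTP : T ≤ P) (hg : Map F P g) {c : Ω} (hcP : c ∈ P)
    (hc : c ∈ centralizerIn S T) : g c ∈ centralizerIn S T := by
  have him : im T g = T := StronglyClosed.im_eq hT (hg.mono hTP) le_rfl
  refine mem_cen.2 ⟨hg.mem hcP, fun y hy => ?_⟩
  rw [← him] at hy
  obtain ⟨t, ht, rfl⟩ := (hg.mono hTP).mem_im.1 hy
  rw [← hg.mul (hTP ht) hcP, ← hg.mul hcP (hTP ht), cn_comm hc ht]

theorem tc_strong (hS : IsPGroup p S) (hF : F.IsSaturated p) (hT : F.StronglyClosed T) :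
    F.StronglyClosed (T ⊔ centralizerIn S T) := by
  have hTS := hT.1
  have hfT : Finite T := finite_of_le hTS
  refine stronglyClosed_iff.2 ⟨sup_le hTS cen_le, fun P f hf x hxP hx => ?_⟩
  obtain ⟨g, hg, h1⟩ := ext_mod hS hF hT P f hf
  obtain ⟨t, ht, c, hc, rfl⟩ := (mem_PC le_rfl).1 hx
  have hTP : T ≤ P ⊔ T := le_sup_right
  have hcP : c ∈ P ⊔ T := by
    have e : c = t⁻¹ * (t * c) := by group
    rw [e]; exact Subgroup.mul_mem _ (Subgroup.inv_mem _ (hTP ht)) (Subgroup.mem_sup_left hxP)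
  have h2 : g c ∈ centralizerIn S T := map_cen_mem hT hTP hg hcP hc
  have h3 : g t ∈ T := (StronglyClosed.mem_iff hT hg (hTP ht)).2 ht
  have h4 : g (t * c) = g t * g c := hg.mul (hTP ht) hcP
  have h5 := h1 (t * c) hxP
  have e : f (t * c) = g t * g c * ((g (t * c))⁻¹ * f (t * c)) := by rw [h4]; group
  rw [e]
  exact Subgroup.mul_mem _ (Subgroup.mul_mem _ (Subgroup.mem_sup_left h3) (Subgroup.mem_sup_right h2)) (Subgroup.mem_sup_left h5)

end

end Cfsg.Agent.H27.Pp
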