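import Mathlib
import Cfsg.Agent.H27_Ce2

/-! The centralizer of a normal subsystem, part one: good extensions and uniqueness. -/

set_option autoImplicit false
set_option linter.all false

namespace Cfsg.Agent.H27.Pp

open Cfsg Cfsg.FusionSystem Cfsg.Agent.H27.Fus Cfsg.Agent.H27.Grp Cfsg.Agent.H27.Ix Cfsg.Agent.H27.Sc

universe u

section
variable {Ω : Type u} [Group Ω] {S T Y : Subgroup Ω} {P Q R C : Subgroup Ω} {f g : Ω → Ω} {p : ℕ}
variable {F : FusionSystem S} {E : FusionSystem T} [Fact p.Prime] [Finite S]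

theorem congr_tot (hf : Iso F P Q f) (β : MulAut P) {x : Ω} (hx : x ∈ P) :
    totA (MulAut.congr hf.equiv β) (f x) = f (totA β x) := by
  have h3 := totA_apply (MulAut.congr hf.equiv β) (hf.equiv ⟨x, hx⟩)
  rw [show MulAut.congr hf.equiv β (hf.equiv ⟨x, hx⟩) = hf.equiv (β ⟨x, hx⟩) from congr_equiv_apply hf β ⟨x, hx⟩] at h3
  rw [totA_of_mem β hx]
  exact h3

/-- `F`-isomorphisms carry `Aut_E(P)` to `Aut_E(Q)` -/
theorem aut_congr (hI : Inv E F) (hPT : P ≤ T) (hf : Iso F P Q f) {α : MulAut P} (hα : α ∈ E.autGroup P) :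
    MulAut.congr hf.equiv α ∈ E.autGroup Q := by
  have hαE := (mem_autGroup_iff hPT).1 hα
  obtain ⟨g, hg, hgf⟩ := hI.sinv P P (totA α) f le_rfl hPT hαE.map (fun x hx => totA_mem hx) hf.map
  rw [hf.im_eq] at hg
  refine mem_autGroup_of hg fun x => ?_
  obtain ⟨z, hz⟩ := hf.equiv.surjective x
  have e1 := congr_tot hf α z.2
  have e2 : f z = (x : Ω) := by rw [← hz]; rfl
  rw [e2, totA_apply] at e1
  rw [e1, ← hgf z z.2, e2]

/-- automorphisms of `P` in `F` extending to `P C_S(P)`, trivially modulo `P` -/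
def GdA (F : FusionSystem S) (P : Subgroup Ω) : Subgroup (MulAut P) where
  carrier := {φ | ∃ b, Map F (P ⊔ centralizerIn S P) b ∧ (∀ x : P, b x = φ x) ∧ ∀ x ∈ P ⊔ centralizerIn S P, x⁻¹ * b x ∈ P} ∪ {φ | φ = 1}
  one_mem' := Or.inr rfl
  mul_mem' := by
    rintro a b (⟨f, hf, h1, h2⟩ | rfl) (⟨g, hg, h3, h4⟩ | rfl)
    · refine Or.inl ⟨f ∘ g, hf.comp hg fun x hx => ?_, fun x => ?_, fun x hx => ?_⟩
      · have e : g x = x * (x⁻¹ * g x) := by group
        rw [e]; exact Subgroup.mul_mem _ hx (Subgroup.mem_sup_left (h4 x hx))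
      · show f (g x) = (a (b x) : P)
        rw [h3 x, h1]
      · have e : g x = x * (x⁻¹ * g x) := by group
        have h5 : g x ∈ P ⊔ centralizerIn S P := by
          rw [e]; exact Subgroup.mul_mem _ hx (Subgroup.mem_sup_left (h4 x hx))
        have e2 : x⁻¹ * (f ∘ g) x = (x⁻¹ * g x) * ((g x)⁻¹ * f (g x)) := by show x⁻¹ * f (g x) = _; group
        rw [e2]; exact P.mul_mem (h4 x hx) (h2 _ h5)
    · rw [mul_one]; exact Or.inl ⟨f, hf, h1, h2⟩
    · rw [one_mul]; exact Or.inl ⟨g, hg, h3, h4⟩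
    · rw [one_mul]; exact Or.inr rfl
  inv_mem' := by
    rintro a (⟨f, hf, h1, h2⟩ | rfl)
    · have hfin : Finite ↥(P ⊔ centralizerIn S P) := finite_of_le hf.le
      have hi : Iso F (P ⊔ centralizerIn S P) (P ⊔ centralizerIn S P) f := iso_of_card_le hf (fun x hx => by
        have e : f x = x * (x⁻¹ * f x) := by group
        rw [e]; exact Subgroup.mul_mem _ hx (Subgroup.mem_sup_left (h2 x hx))) le_rfl
      refine Or.inl ⟨finv (P ⊔ centralizerIn S P) f, hi.symm.map, fun x => ?_, fun x hx => ?_⟩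
      · have h3 : f (a⁻¹ x : P) = x := by rw [h1, MulAut.apply_inv_self]
        conv_lhs => rw [← h3]
        exact hi.finv_left (Subgroup.mem_sup_left (a⁻¹ x : P).2)
      · set y := finv (P ⊔ centralizerIn S P) f x with hy
        have hyP : y ∈ P ⊔ centralizerIn S P := hi.finv_mem hx
        have h3 : f y = x := hi.finv_right hx
        have h4 := P.inv_mem (h2 y hyP)
        rw [h3] at h4
        have e : (y⁻¹ * x)⁻¹ = x⁻¹ * y := by group
        rwa [e] at h4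
    · rw [inv_one]; exact Or.inr rfl

theorem mem_GdA (hP : P ≤ S) {φ : MulAut P} : φ ∈ GdA F P ↔ ∃ b, Map F (P ⊔ centralizerIn S P) b ∧ (∀ x : P, b x = φ x) ∧
    ∀ x ∈ P ⊔ centralizerIn S P, x⁻¹ * b x ∈ P := by
  refine ⟨fun h => ?_, Or.inl⟩
  rcases h with h | rfl
  · exact h
  · exact ⟨id, map_id F (sup_le hP cen_le), fun x => rfl, fun x hx => by simp [P.one_mem]⟩

/-- transport of good automorphisms along a map of normalizers -/
theorem GdA_back (hP : P ≤ S) (hf : Map F (normalizerIn S P) f) (hi : Iso F P Q f)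
    {φ : MulAut P} (h : MulAut.congr hi.equiv φ ∈ GdA F Q) : φ ∈ GdA F P := by
  have hQS := hi.le'
  obtain ⟨b, hb, h1, h2⟩ := (mem_GdA hQS).1 h
  have hPN : P ≤ normalizerIn S P := le_nrm hP
  have hCN : centralizerIn S P ≤ normalizerIn S P := cen_le_nrm
  have hPCN : P ⊔ centralizerIn S P ≤ normalizerIn S P := sup_le hPN hCN
  have hfU := hf.mono hPCN
  have hfc : ∀ c ∈ centralizerIn S P, f c ∈ centralizerIn S Q := fun c hc => hf.cen_mem' hi hPN (hCN hc) hc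
  have hmaps : ∀ x ∈ P ⊔ centralizerIn S P, f x ∈ Q ⊔ centralizerIn S Q :=
    hfU.maps_sup (fun x hx => Subgroup.mem_sup_left (iso_mem hi hx)) fun c hc => Subgroup.mem_sup_right (hfc c hc)
  have hbf : Map F (P ⊔ centralizerIn S P) (b ∘ f) := hb.comp hfU hmaps
  have hPim : ∀ q ∈ Q, ∃ x ∈ P, f x = q := fun q hq => by
    rw [← hi.im_eq, hi.map.mem_im] at hq; exact hq
  have hkey : ∀ x ∈ P ⊔ centralizerIn S P, ∃ v ∈ P, b (f x) = f (x * v) := by
    intro x hx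
    obtain ⟨v, hv, hv1⟩ := hPim _ (h2 _ (hmaps x hx))
    refine ⟨v, hv, ?_⟩
    rw [hfU.mul hx (Subgroup.mem_sup_left hv), hv1]; group
  have hm : ∀ x ∈ P ⊔ centralizerIn S P, (b ∘ f) x ∈ im (P ⊔ centralizerIn S P) f := by
    intro x hx
    obtain ⟨v, hv, hv1⟩ := hkey x hx
    show b (f x) ∈ _
    rw [hv1]; exact hfU.apply_mem_im (Subgroup.mul_mem _ hx (Subgroup.mem_sup_left hv))
  refine (mem_GdA hP).2 ⟨finv (P ⊔ centralizerIn S P) f ∘ (b ∘ f), hfU.iso.symm.map.comp hbf hm, fun x => ?_, fun x hx => ?_⟩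
  · show finv (P ⊔ centralizerIn S P) f (b (f x)) = _
    have h3 : b (f x) = f (φ x : P) := by
      have h4 := h1 (hi.equiv x)
      have h5 : b (f x) = ((MulAut.congr hi.equiv φ (hi.equiv x) : Q) : Ω) := h4
      have h6 : MulAut.congr hi.equiv φ (hi.equiv x) = hi.equiv (φ x) := congr_equiv_apply hi φ x
      rw [h5, h6]; rfl
    rw [h3]
    exact hfU.iso.finv_left (Subgroup.mem_sup_left (φ x).2)
  · obtain ⟨v, hv, hv1⟩ := hkey x hx
    show x⁻¹ * finv (P ⊔ centralizerIn S P) f (b (f x)) ∈ P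
    rw [hv1, hfU.iso.finv_left (Subgroup.mul_mem _ hx (Subgroup.mem_sup_left hv)), inv_mul_cancel_left]
    exact hv

/-- elements of `O^{p'}(Aut_E(P))` are good -/
theorem opp_le_GdA (hS : IsPGroup p S) (hF : F.IsSaturated p) (hE : E.IsSaturated p) (hI : Inv E F) (hP : P ∈ FC F T) :
    Opp E p P ≤ GdA F P := by
  have hT := hI.strong
  have hTS := hT.1
  have hPT := hP.1
  have hPS := hPT.trans hTS
  have hfinT : Finite T := finite_of_le hTS
  have hTp : IsPGroup p T := hS.to_le hTS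
  rw [Opp, Subgroup.closure_le]
  rintro α ⟨hα, k, hk⟩
  obtain ⟨Q, hPQ, hQ⟩ := exists_fullyNormalized F hPS
  obtain ⟨f, hf, hfi, hfn⟩ := fn_nrm_map hS hF hQ hPQ
  refine GdA_back hPS hf hfi ?_
  have hQC : Q ∈ FC F T := fc_conj hT hP hPQ
  have hQT := hQC.1
  have hQS := hQ.1
  have hα' := aut_congr hI hPT hfi hα
  set α' := MulAut.congr hfi.equiv α with hαd
  have hX : Subgroup.zpowers α' ≤ E.autGroup Q := Subgroup.zpowers_le.2 hα'
  have hXp : IsPGroup p (Subgroup.zpowers α') := by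
    refine IsPGroup.of_card (n := k) ?_
    rw [Nat.card_zpowers, ← hk]
    exact MulEquiv.orderOf_eq _ _
  have hQE : E.IsFullyNormalized Q := fn_of_sub hS hF hT hI.sub hQT hQ
  obtain ⟨ε, hε, hε1⟩ := conj_into (fn_automized hTp hE hQE) hX hXp
  obtain ⟨t, ht, hεt⟩ := mem_autInducedBy.1 (hε1 _ (Subgroup.mem_zpowers _))
  have hεF : ε ∈ F.autGroup Q := autGroup_mono_of_sub hI.sub hTS hQT hε
  have hεi := (mem_autGroup_iff hQS).1 hεF
  have hQW : Q ⊔ centralizerIn S Q ≤ ext S Q (totA ε) := sup_le hεi.map.le_ext cen_le_ext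
  obtain ⟨e, he, he1⟩ := receptive_ext' (fn_receptive hS hF hQ) hεi hQW
  have hei : Iso F Q Q e := hεi.congr fun x hx => (he1 x hx).symm
  have hec : ∀ c ∈ centralizerIn S Q, e c ∈ centralizerIn S Q := fun c hc =>
    he.cen_mem' hei le_sup_left (Subgroup.mem_sup_right hc) hc
  have hfinQ : Finite ↥(Q ⊔ centralizerIn S Q) := finite_of_le (sup_le hQS cen_le)
  have heI : Iso F (Q ⊔ centralizerIn S Q) (Q ⊔ centralizerIn S Q) e := iso_of_card_le he
    (he.maps_sup (fun x hx => Subgroup.mem_sup_left (iso_mem hei hx)) fun c hc => Subgroup.mem_sup_right (hec c hc)) le_rfl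
  have htS : t ∈ S := hTS ht
  have htn : t ∈ Subgroup.normalizer (Q : Set Ω) := autInducedBy_norm (K := T) hεt
  -- `t` acts on `Q C_S(Q)` trivially modulo `Q`
  have htc : ∀ x ∈ Q ⊔ centralizerIn S Q, x⁻¹ * (t * x * t⁻¹) ∈ Q := by
    intro x hx
    have hQn : Q ≤ Subgroup.normalizer (centralizerIn S Q : Set Ω) := le_normalizer_of fun a ha c hc => by
      have : a * c * a⁻¹ = c := by rw [cen_comm hc ha]; group
      rw [this]; exact hc
    obtain ⟨y, hy, c, hc, rfl⟩ := mem_sup_nrm hQn hx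
    have h1 : t * y * t⁻¹ ∈ Q := (Subgroup.mem_normalizer_iff.1 htn y).1 hy
    have h2 : t * c * t⁻¹ ∈ centralizerIn S Q := by
      refine mem_cen.2 ⟨S.mul_mem (S.mul_mem htS hc.1) (S.inv_mem htS), fun z hz => ?_⟩
      have h2 : t⁻¹ * z * t⁻¹⁻¹ ∈ Q := (Subgroup.mem_normalizer_iff.1 (Subgroup.inv_mem _ htn) z).1 hz
      have h3 := cen_comm hc h2
      calc z * (t * c * t⁻¹) = t * ((t⁻¹ * z * t⁻¹⁻¹) * c) * t⁻¹ := by group
        _ = t * (c * (t⁻¹ * z * t⁻¹⁻¹)) * t⁻¹ := by rw [h3]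
        _ = _ := by group
    have h3 : c⁻¹ * (t * c * t⁻¹) ∈ centralizerIn T Q := by
      refine ⟨?_, ((centralizerIn S Q).mul_mem ((centralizerIn S Q).inv_mem hc) h2).2⟩
      have h4 : c⁻¹ * t * c⁻¹⁻¹ ∈ T := StronglyClosed.conj_mem hT (S.inv_mem hc.1) ht
      have : c⁻¹ * (t * c * t⁻¹) = c⁻¹ * t * c⁻¹⁻¹ * t⁻¹ := by group
      rw [this]; exact T.mul_mem h4 (T.inv_mem ht)
    have h4 := fc_cen hTS hQC h3
    have h5 : (t * y * t⁻¹) * c = c * (t * y * t⁻¹) := cen_comm hc h1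
    have h6 : y⁻¹ * c = c * y⁻¹ := cen_comm hc (Q.inv_mem hy)
    have e : (y * c)⁻¹ * (t * (y * c) * t⁻¹) = c⁻¹ * y⁻¹ * ((t * y * t⁻¹) * c) * (c⁻¹ * (t * c * t⁻¹)) := by group
    rw [e, h5]
    have e2 : c⁻¹ * y⁻¹ * (c * (t * y * t⁻¹)) * (c⁻¹ * (t * c * t⁻¹)) = c⁻¹ * (y⁻¹ * c) * (t * y * t⁻¹) * (c⁻¹ * (t * c * t⁻¹)) := by group
    rw [e2, h6]
    have e3 : c⁻¹ * (c * y⁻¹) * (t * y * t⁻¹) * (c⁻¹ * (t * c * t⁻¹)) = y⁻¹ * (t * y * t⁻¹) * (c⁻¹ * (t * c * t⁻¹)) := by group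
    rw [e3]
    exact Q.mul_mem (Q.mul_mem (Q.inv_mem hy) h1) h4
  -- the extension is `e⁻¹ c_t e`
  have hmt : ∀ x ∈ Q ⊔ centralizerIn S Q, t * e x * t⁻¹ ∈ Q ⊔ centralizerIn S Q := fun x hx => by
    have h1 := heI.maps x hx
    have h2 : t * e x * t⁻¹ = e x * ((e x)⁻¹ * (t * e x * t⁻¹)) := by group
    rw [h2]; exact Subgroup.mul_mem _ h1 (Subgroup.mem_sup_left (htc _ h1))
  have hct : Map F (Q ⊔ centralizerIn S Q) ((fun y => t * y * t⁻¹) ∘ e) :=
    (map_conj F (sup_le hQS cen_le) htS).comp he heI.maps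
  refine (mem_GdA hQS).2 ⟨finv (Q ⊔ centralizerIn S Q) e ∘ ((fun y => t * y * t⁻¹) ∘ e), heI.symm.map.comp hct hmt, fun x => ?_, fun x hx => ?_⟩
  · show finv (Q ⊔ centralizerIn S Q) e (t * e x * t⁻¹) = _
    have h1 : t * e x * t⁻¹ = e (α' x : Q) := by
      have h2 := hεt (ε x)
      have h3 : (ε * α' * ε⁻¹) (ε x) = ε (α' x) := by
        show ε (α' (ε⁻¹ (ε x))) = _
        rw [MulAut.inv_apply_self]
      rw [h3] at h2
      rw [he1 x x.2, totA_apply, ← h2, he1 _ (α' x).2, totA_apply]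
    rw [h1]
    exact heI.finv_left (Subgroup.mem_sup_left (α' x).2)
  · show x⁻¹ * finv (Q ⊔ centralizerIn S Q) e (t * e x * t⁻¹) ∈ Q
    have h1 := heI.maps x hx
    obtain ⟨v, hv, hv1⟩ : ∃ v ∈ Q, e v = (e x)⁻¹ * (t * e x * t⁻¹) := by
      have h2 := htc _ h1
      rw [← hei.im_eq, hei.map.mem_im] at h2
      exact h2
    have h2 : t * e x * t⁻¹ = e (x * v) := by
      rw [he.mul hx (Subgroup.mem_sup_left hv), hv1]; group
    rw [h2, heI.finv_left (Subgroup.mul_mem _ hx (Subgroup.mem_sup_left hv)), inv_mul_cancel_left]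
    exact hv

end

end Cfsg.Agent.H27.Pp
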