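import Mathlib
import Cfsg.Agent.H27_Cs1

/-! The centralizer of a normal subsystem, part two: uniqueness of coprime lifts and the largest centralizing subgroup. -/

set_option autoImplicit false
set_option linter.all false

namespace Cfsg.Agent.H27.Pp

open Cfsg Cfsg.FusionSystem Cfsg.Agent.H27.Fus Cfsg.Agent.H27.Grp Cfsg.Agent.H27.Ix Cfsg.Agent.H27.Sc

universe u

theorem eq_of_commute {G : Type*} [Group G] {p n : ℕ} (hp : p.Prime) {β w₁ w₂ : G} (h1 : β * w₁ = w₁ * β) (h2 : β * w₂ = w₂ * β)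
    (hw₁ : w₁ ^ p ^ n = 1) (hw₂ : w₂ ^ p ^ n = 1) (ho₁ : (orderOf (β * w₁)).Coprime p) (ho₂ : (orderOf (β * w₂)).Coprime p) :
    β * w₁ = β * w₂ := by
  have e1 : (β * w₁) ^ p ^ n = β ^ p ^ n := by
    rw [Commute.mul_pow (show Commute β w₁ from h1), hw₁, mul_one]
  have e2 : (β * w₂) ^ p ^ n = β ^ p ^ n := by
    rw [Commute.mul_pow (show Commute β w₂ from h2), hw₂, mul_one]
  have hco : (p ^ n).Coprime (orderOf (β * w₁) * orderOf (β * w₂)) :=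
    Nat.Coprime.pow_left n (Nat.Coprime.mul_right ho₁.symm ho₂.symm)
  obtain ⟨k, hk1, hk2⟩ := Nat.chineseRemainder hco 0 1
  obtain ⟨j, rfl⟩ := (Nat.modEq_zero_iff_dvd).1 hk1
  have e3 : (β * w₁) ^ (p ^ n * j) = β * w₁ := by
    conv_rhs => rw [← pow_one (β * w₁)]
    exact pow_eq_pow_iff_modEq.2 (hk2.of_mul_right _)
  have e4 : (β * w₂) ^ (p ^ n * j) = β * w₂ := by
    conv_rhs => rw [← pow_one (β * w₂)]
    exact pow_eq_pow_iff_modEq.2 (hk2.of_mul_left _)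
  rw [← e3, ← e4, pow_mul, pow_mul, e1, e2]

section
variable {Ω : Type u} [Group Ω] {S T Y : Subgroup Ω} {P Q R C : Subgroup Ω} {f g : Ω → Ω} {p : ℕ}
variable {F : FusionSystem S} {E : FusionSystem T} [Fact p.Prime] [Finite S]

theorem opp_congr (hI : Inv E F) (hPT : P ≤ T) (hf : Iso F P Q f) {α : MulAut P} (hα : α ∈ Opp E p P) :
    MulAut.congr hf.equiv α ∈ Opp E p Q := by
  have h : (Opp E p P).map (MulAut.congr hf.equiv).toMonoidHom ≤ Opp E p Q := by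
    rw [Opp, MonoidHom.map_closure, Subgroup.closure_le]
    rintro _ ⟨β, ⟨hβ, k, hk⟩, rfl⟩
    exact Subgroup.subset_closure ⟨aut_congr hI hPT hf hβ, k, by rw [← hk]; exact MulEquiv.orderOf_eq _ _⟩
  exact h ⟨α, hα, rfl⟩

/-- all conjugates of the automorphism are good -/
def Gda (F : FusionSystem S) (P : Subgroup Ω) (φ : MulAut P) : Prop :=
  ∀ Q f (hf : Iso F P Q f), MulAut.congr hf.equiv φ ∈ GdA F Q

theorem gd_opp (hS : IsPGroup p S) (hF : F.IsSaturated p) (hE : E.IsSaturated p) (hI : Inv E F) (hP : P ∈ FC F T)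
    {φ : MulAut P} (hφ : φ ∈ Opp E p P) : Gda F P φ := fun Q f hf =>
  opp_le_GdA hS hF hE hI (fc_conj hI.strong hP hf.isConj) (opp_congr hI hP.1 hf hφ)

theorem gd_top (hI : Inv E F) (hx : ExtCond E F) {φ : MulAut T} (hφ : φ ∈ E.autGroup T) : Gda F T φ := by
  intro Q f hf
  have hQ : T = Q := by rw [← hf.im_eq]; exact (StronglyClosed.im_eq hI.strong hf.map le_rfl).symm
  subst hQ
  have h1 := aut_congr hI le_rfl hf hφ
  set ψ := MulAut.congr hf.equiv φ with hψ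
  obtain ⟨b, hb, hb1, hb2⟩ := hx _ ((mem_autGroup_iff le_rfl).1 h1)
  refine (mem_GdA hI.strong.1).2 ⟨b, hb.map, fun x => by rw [hb1 x x.2, totA_apply], fun x hxR => ?_⟩
  obtain ⟨t, ht, c, hc, rfl⟩ := (mem_PC le_rfl).1 hxR
  rw [hb.map.mul (Subgroup.mem_sup_left ht) (Subgroup.mem_sup_right hc), hb1 t ht]
  have h5 := T.mul_mem (T.inv_mem ht) (totA_mem (α := ψ) ht)
  have h6 : t⁻¹ * totA ψ t * c = c * (t⁻¹ * totA ψ t) := cn_comm hc h5
  have e : (t * c)⁻¹ * (totA ψ t * b c) = c⁻¹ * (t⁻¹ * totA ψ t * c) * (c⁻¹ * b c) := by group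
  rw [e, h6, ← mul_assoc c⁻¹ c, inv_mul_cancel, one_mul]
  exact T.mul_mem h5 (hb2 c hc).1

/-- the group of automorphisms of `P Y` trivial on `P` and modulo `P` -/
abbrev WW (F : FusionSystem S) (P R : Subgroup Ω) : Subgroup (MulAut R) := F.autGroup R ⊓ (TrG P R ⊓ FxG P R)

theorem exists_central (hS : IsPGroup p S) (hF : F.IsSaturated p) (hP : P ≤ S) (hY : Y ≤ centralizerIn S P) {φ : MulAut P}
    (hφ : Gda F P φ) : ∃ β ∈ F.autGroup (P ⊔ Y), β ∈ TrG P (P ⊔ Y) ∧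
      (∀ x (hx : x ∈ P), ((β ⟨x, Subgroup.mem_sup_left hx⟩ : ↥(P ⊔ Y)) : Ω) = φ ⟨x, hx⟩) ∧
      ∀ w ∈ WW F P (P ⊔ Y), β * w = w * β := by
  have hRS : P ⊔ Y ≤ S := sup_le hP (hY.trans cen_le)
  obtain ⟨R', hRR', hR'⟩ := exists_fullyNormalized F hRS
  obtain ⟨f₀, hf₀⟩ := isConj_iff.1 hRR'
  have hfinP : Finite P := finite_of_le hP
  have hWp : IsPGroup p (WW F P (P ⊔ Y)) := tr_fx_pgroup (hS.to_le hP) (inf_le_right.trans inf_le_left) (inf_le_right.trans inf_le_right)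
  obtain ⟨g, hg, hg1⟩ := exists_iso_conj_into (fn_automized hS hF hR') hf₀ (X := WW F P (P ⊔ Y)) inf_le_left hWp
  have hi : Iso F P (im P g) g := hg.restrict le_sup_left
  obtain ⟨b, hb, hb1, hb2⟩ := (mem_GdA hi.le').1 (hφ _ g hi)
  set P' := im P g with hP'
  have hYc : ∀ y ∈ Y, g y ∈ centralizerIn S P' := fun y hy =>
    hg.map.cen_mem' hi le_sup_left (Subgroup.mem_sup_right hy) (hY hy)
  have hP'R : P' ≤ R' := by rw [← hg.im_eq]; exact hg.map.im_mono le_sup_left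
  have hR'D : ∀ x ∈ R', x ∈ P' ⊔ centralizerIn S P' := by
    intro x hx
    rw [← hg.im_eq, hg.map.mem_im] at hx
    obtain ⟨z, hz, rfl⟩ := hx
    exact hg.map.maps_sup (R := P' ⊔ centralizerIn S P') (fun x hx => Subgroup.mem_sup_left (iso_mem hi hx))
      (fun c hc => Subgroup.mem_sup_right (hYc c hc)) z hz
  have hbR : ∀ x ∈ R', b x ∈ R' := fun x hx => by
    have e : b x = x * (x⁻¹ * b x) := by group
    rw [e]; exact R'.mul_mem hx (hP'R (hb2 x (hR'D x hx)))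
  have hfinR : Finite R' := finite_of_le hR'.1
  have hbi : Iso F R' R' b := iso_of_card_le (hb.mono hR'D) hbR le_rfl
  have hβi : Iso F (P ⊔ Y) (P ⊔ Y) (finv (P ⊔ Y) g ∘ (b ∘ g)) := (hg.trans hbi).trans hg.symm
  set β := hβi.aut with hβ
  have hβ1 : ∀ x : ↥(P ⊔ Y), g (β x : ↥(P ⊔ Y)) = b (g x) := fun x => by
    show g (finv (P ⊔ Y) g (b (g x))) = _
    exact hg.finv_right (hbR _ (iso_mem hg x.2))
  have hPim : ∀ q ∈ P', ∃ x ∈ P, g x = q := fun q hq => by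
    rw [hP', hi.map.mem_im] at hq; exact hq
  refine ⟨β, hβi.aut_mem, fun x => ?_, fun x hx => ?_, fun w hw => ?_⟩
  · have hx' := iso_mem hg x.2
    obtain ⟨v, hv, hv1⟩ := hPim _ (hb2 _ (hR'D _ hx'))
    have h1 : g (β x : ↥(P ⊔ Y)) = g (x * v) := by
      rw [hβ1, hg.map.mul x.2 (Subgroup.mem_sup_left hv), hv1]; group
    have h2 : (β x : Ω) = x * v := hg.map.inj (β x).2 (Subgroup.mul_mem _ x.2 (Subgroup.mem_sup_left hv)) h1
    rw [h2, inv_mul_cancel_left]; exact hv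
  · have h1 := hβ1 ⟨x, Subgroup.mem_sup_left hx⟩
    have h4 := hb1 (hi.equiv ⟨x, hx⟩)
    have h5 : b (g x) = ((MulAut.congr hi.equiv φ (hi.equiv ⟨x, hx⟩) : P') : Ω) := h4
    have h6 : MulAut.congr hi.equiv φ (hi.equiv ⟨x, hx⟩) = hi.equiv (φ ⟨x, hx⟩) := congr_equiv_apply hi φ ⟨x, hx⟩
    rw [h6] at h5
    have h7 : g (β ⟨x, Subgroup.mem_sup_left hx⟩ : ↥(P ⊔ Y)) = g (φ ⟨x, hx⟩ : P) := by rw [h1, h5]; rfl
    exact hg.map.inj (Subtype.property _) (Subgroup.mem_sup_left (φ ⟨x, hx⟩).2) h7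
  · obtain ⟨s, hs, hs1⟩ := hg1 w hw
    have hsc : s ∈ centralizerIn S P' := by
      refine mem_cen.2 ⟨hs, fun y hy => ?_⟩
      obtain ⟨z, hz, rfl⟩ := hPim y hy
      have h1 := hs1 ⟨z, Subgroup.mem_sup_left hz⟩
      rw [hw.2.2 ⟨z, Subgroup.mem_sup_left hz⟩ hz] at h1
      have h2 : g z = s * g z * s⁻¹ := h1
      rw [eq_mul_inv_iff_mul_eq] at h2
      exact h2
    have hsD : s ∈ P' ⊔ centralizerIn S P' := Subgroup.mem_sup_right hsc
    have hfinP' : Finite P' := finite_of_le hi.le'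
    have hbP : Iso F P' P' b := by
      refine iso_of_card_le (hb.mono le_sup_left) (fun x hx => ?_) le_rfl
      rw [hb1 ⟨x, hx⟩]; exact Subtype.property _
    have hbs : b s ∈ centralizerIn S P' := hb.cen_mem' hbP le_sup_left hsD hsc
    set z := s⁻¹ * b s with hz
    have hzP : z ∈ P' := hb2 s hsD
    have hzC : z ∈ centralizerIn S P' := (centralizerIn S P').mul_mem ((centralizerIn S P').inv_mem hsc) hbs
    have hzR : ∀ x ∈ R', x * z = z * x := by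
      intro x hx
      rw [← hg.im_eq] at hx
      have hx2 : x ∈ Subgroup.centralizer ({z} : Set Ω) := by
        have hle : im (P ⊔ Y) g ≤ Subgroup.centralizer ({z} : Set Ω) := by
          rw [hg.map.im_sup]
          refine sup_le (fun y hy => ?_) fun y hy => ?_
          · rw [Subgroup.mem_centralizer_singleton_iff]; exact cen_comm hzC hy
          · rw [(hg.map.mono le_sup_right).mem_im] at hy
            obtain ⟨y', hy', rfl⟩ := hy
            rw [Subgroup.mem_centralizer_singleton_iff]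
            exact (cen_comm (hYc y' hy') hzP).symm
        exact hle hx
      rw [Subgroup.mem_centralizer_singleton_iff] at hx2
      exact hx2
    have hbsx : ∀ x ∈ R', s * x * s⁻¹ ∈ R' → b (s * x * s⁻¹) = s * b x * s⁻¹ := by
      intro x hx hx2
      have hxD := hR'D x hx
      rw [hb.mul (Subgroup.mul_mem _ hsD hxD) (Subgroup.inv_mem _ hsD), hb.mul hsD hxD, hb.inv hsD]
      have e : b s = s * z := by rw [hz]; group
      have h3 := hzR (b x) (hbR x hx)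
      rw [e]
      have e2 : s * z * b x * (s * z)⁻¹ = s * (z * b x) * z⁻¹ * s⁻¹ := by group
      rw [e2, ← h3]; group
    ext x
    show ((β (w x) : ↥(P ⊔ Y)) : Ω) = (w (β x) : ↥(P ⊔ Y))
    refine hg.map.inj (β (w x)).2 (w (β x)).2 ?_
    rw [hβ1, hs1 (β x), hβ1, hs1 x]
    refine hbsx _ (iso_mem hg x.2) ?_
    rw [← hs1 x]; exact iso_mem hg (w x).2

/-- coprime lifts are unique -/
theorem unique_lift (hS : IsPGroup p S) (hF : F.IsSaturated p) (hP : P ≤ S) (hY : Y ≤ centralizerIn S P) {φ : MulAut P}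
    (hφ : Gda F P φ) {α₁ α₂ : MulAut ↥(P ⊔ Y)} (h₁ : α₁ ∈ F.autGroup (P ⊔ Y)) (h₂ : α₂ ∈ F.autGroup (P ⊔ Y))
    (t₁ : α₁ ∈ TrG P (P ⊔ Y)) (t₂ : α₂ ∈ TrG P (P ⊔ Y))
    (f₁ : ∀ x (hx : x ∈ P), ((α₁ ⟨x, Subgroup.mem_sup_left hx⟩ : ↥(P ⊔ Y)) : Ω) = φ ⟨x, hx⟩)
    (f₂ : ∀ x (hx : x ∈ P), ((α₂ ⟨x, Subgroup.mem_sup_left hx⟩ : ↥(P ⊔ Y)) : Ω) = φ ⟨x, hx⟩)
    (o₁ : (orderOf α₁).Coprime p) (o₂ : (orderOf α₂).Coprime p) : α₁ = α₂ := by
  obtain ⟨β, hβ, hβt, hβ1, hβc⟩ := exists_central hS hF hP hY hφ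
  have hfinP : Finite P := finite_of_le hP
  have hRS : P ⊔ Y ≤ S := sup_le hP (hY.trans cen_le)
  have hWp : IsPGroup p (WW F P (P ⊔ Y)) := tr_fx_pgroup (hS.to_le hP) (inf_le_right.trans inf_le_left) (inf_le_right.trans inf_le_right)
  have : Finite (F.autGroup (P ⊔ Y)) := finite_autGroup hRS
  have hfinW : Finite (WW F P (P ⊔ Y)) := finite_of_le inf_le_left
  obtain ⟨n, hn⟩ := IsPGroup.iff_card.1 hWp
  have hpw : ∀ w ∈ WW F P (P ⊔ Y), w ^ p ^ n = 1 := fun w hw => by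
    have : (⟨w, hw⟩ : WW F P (P ⊔ Y)) ^ p ^ n = 1 := by rw [← hn]; exact pow_card_eq_one'
    exact congrArg Subtype.val this
  have key : ∀ α ∈ F.autGroup (P ⊔ Y), α ∈ TrG P (P ⊔ Y) → (∀ x (hx : x ∈ P), ((α ⟨x, Subgroup.mem_sup_left hx⟩ : ↥(P ⊔ Y)) : Ω) = φ ⟨x, hx⟩) →
      β⁻¹ * α ∈ WW F P (P ⊔ Y) := by
    intro α hα ht hf
    refine ⟨(F.autGroup _).mul_mem ((F.autGroup _).inv_mem hβ) hα, (TrG _ _).mul_mem ((TrG _ _).inv_mem hβt) ht, fun x hx => ?_⟩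
    have h3 : α x = β x := Subtype.ext (by rw [hf x hx, hβ1 x hx])
    show β⁻¹ (α x) = x
    rw [h3, MulAut.inv_apply_self]
  have k₁ := key α₁ h₁ t₁ f₁
  have k₂ := key α₂ h₂ t₂ f₂
  have e1 : β * (β⁻¹ * α₁) = α₁ := by group
  have e2 : β * (β⁻¹ * α₂) = α₂ := by group
  have := eq_of_commute (n := n) (Fact.out : p.Prime) (hβc _ k₁) (hβc _ k₂) (hpw _ k₁) (hpw _ k₂) (by rw [e1]; exact o₁) (by rw [e2]; exact o₂)
  rwa [e1, e2] at this

/-- coprime lifts exist -/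
theorem exists_lift (hS : IsPGroup p S) (hF : F.IsSaturated p) (hP : P ≤ S) (hY : Y ≤ centralizerIn S P) {φ : MulAut P}
    (hφ : Gda F P φ) (ho : (orderOf φ).Coprime p) : ∃ α ∈ F.autGroup (P ⊔ Y), α ∈ TrG P (P ⊔ Y) ∧
      (∀ x (hx : x ∈ P), ((α ⟨x, Subgroup.mem_sup_left hx⟩ : ↥(P ⊔ Y)) : Ω) = φ ⟨x, hx⟩) ∧ (orderOf α).Coprime p := by
  obtain ⟨β, hβ, hβt, hβ1, -⟩ := exists_central hS hF hP hY hφ
  have hRS : P ⊔ Y ≤ S := sup_le hP (hY.trans cen_le)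
  have hfinR : Finite ↥(P ⊔ Y) := finite_of_le hRS
  have hfinM : Finite (MulAut ↥(P ⊔ Y)) := Finite.of_injective (fun α : MulAut ↥(P ⊔ Y) => (α : ↥(P ⊔ Y) → ↥(P ⊔ Y))) DFunLike.coe_injective
  obtain ⟨j, hj1, hj2⟩ := coprime_pow (Fact.out : p.Prime) (orderOf_pos β) ho
  have hφj : φ ^ j = φ := by
    conv_rhs => rw [← pow_one φ]
    exact pow_eq_pow_iff_modEq.2 hj1
  have hpow : ∀ (n : ℕ) x (hx : x ∈ P), (((β ^ n) ⟨x, Subgroup.mem_sup_left hx⟩ : ↥(P ⊔ Y)) : Ω) = (φ ^ n) ⟨x, hx⟩ := by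
    intro n
    induction n with
    | zero => intro x hx; rfl
    | succ n ih =>
      intro x hx
      rw [pow_succ', pow_succ', MulAut.mul_apply, MulAut.mul_apply]
      have h1 := ih x hx
      have h2 : (β ^ n) ⟨x, Subgroup.mem_sup_left hx⟩ = ⟨((φ ^ n) ⟨x, hx⟩ : P), Subgroup.mem_sup_left (Subtype.property _)⟩ := Subtype.ext h1
      rw [h2, hβ1]
  exact ⟨β ^ j, (F.autGroup _).pow_mem hβ j, (TrG _ _).pow_mem hβt j, fun x hx => by rw [hpow, hφj], hj2⟩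

/-- the coprime lift fixes every subgroup centralizing `E` -/
theorem lift_fix (hS : IsPGroup p S) (hF : F.IsSaturated p) (hI : Inv E F) (hPT : P ≤ T) (hY : Y ≤ centralizerIn S T)
    (hYE : ∀ P f, Map E P f → NKmap F Y ⊥ P f) {φ : MulAut P} (hφE : φ ∈ E.autGroup P)
    (hφ : Gda F P φ) {α : MulAut ↥(P ⊔ Y)} (h : α ∈ F.autGroup (P ⊔ Y))
    (t : α ∈ TrG P (P ⊔ Y)) (hf : ∀ x (hx : x ∈ P), ((α ⟨x, Subgroup.mem_sup_left hx⟩ : ↥(P ⊔ Y)) : Ω) = φ ⟨x, hx⟩)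
    (o : (orderOf α).Coprime p) : ∀ y (hy : y ∈ Y), ((α ⟨y, Subgroup.mem_sup_right hy⟩ : ↥(P ⊔ Y)) : Ω) = y := by
  have hPS := hPT.trans hI.strong.1
  have hYP : Y ≤ centralizerIn S P := hY.trans (cen_anti hPT)
  have hRS : P ⊔ Y ≤ S := sup_le hPS (hYP.trans cen_le)
  have hfinR : Finite ↥(P ⊔ Y) := finite_of_le hRS
  obtain ⟨-, -, g, hg, hg1, hg2⟩ := hYE P _ ((mem_autGroup_iff hPT).1 hφE).map
  rw [actsIn_bot_iff] at hg2
  have hgi : Iso F (P ⊔ Y) (P ⊔ Y) g := iso_of_card_le hg (hg.maps_sup (fun x hx => by rw [hg1 x hx]; exact Subgroup.mem_sup_left (totA_mem hx))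
    fun c hc => by rw [hg2 c hc]; exact Subgroup.mem_sup_right hc) le_rfl
  set γ := hgi.aut with hγ
  have hγ1 : ∀ x (hx : x ∈ P), ((γ ⟨x, Subgroup.mem_sup_left hx⟩ : ↥(P ⊔ Y)) : Ω) = φ ⟨x, hx⟩ := fun x hx => by
    show g x = _
    rw [hg1 x hx, totA_of_mem _ hx]
  have hγ2 : ∀ y (hy : y ∈ Y), ((γ ⟨y, Subgroup.mem_sup_right hy⟩ : ↥(P ⊔ Y)) : Ω) = y := fun y hy => hg2 y hy
  have hdec : ∀ x ∈ P ⊔ Y, ∃ a ∈ P, ∃ c ∈ Y, a * c = x := fun x hx => by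
    refine mem_sup_nrm (le_normalizer_of fun a ha c hc => ?_) hx
    have : a * c * a⁻¹ = c := by rw [cen_comm (hYP hc) ha]; group
    rw [this]; exact hc
  have hγt : γ ∈ TrG P (P ⊔ Y) := by
    intro x
    obtain ⟨a, ha, c, hc, hac⟩ := hdec x x.2
    show (x : Ω)⁻¹ * g x ∈ P
    rw [← hac, hg.mul (Subgroup.mem_sup_left ha) (Subgroup.mem_sup_right hc), hg2 c hc, hg1 a ha]
    have h5 := P.mul_mem (P.inv_mem ha) (totA_mem (α := φ) ha)
    have h6 : a⁻¹ * totA φ a * c = c * (a⁻¹ * totA φ a) := cen_comm (hYP hc) h5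
    have e : (a * c)⁻¹ * (totA φ a * c) = c⁻¹ * (a⁻¹ * totA φ a * c) := by group
    rw [e, h6, inv_mul_cancel_left]
    exact h5
  have hpow : ∀ (n : ℕ), (∀ x (hx : x ∈ P), (((γ ^ n) ⟨x, Subgroup.mem_sup_left hx⟩ : ↥(P ⊔ Y)) : Ω) = (φ ^ n) ⟨x, hx⟩) ∧
      ∀ y (hy : y ∈ Y), (((γ ^ n) ⟨y, Subgroup.mem_sup_right hy⟩ : ↥(P ⊔ Y)) : Ω) = y := by
    intro n
    induction n with
    | zero => exact ⟨fun x hx => rfl, fun y hy => rfl⟩
    | succ n ih =>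
      refine ⟨fun x hx => ?_, fun y hy => ?_⟩
      · rw [pow_succ', pow_succ', MulAut.mul_apply, MulAut.mul_apply]
        have h2 : (γ ^ n) ⟨x, Subgroup.mem_sup_left hx⟩ = ⟨((φ ^ n) ⟨x, hx⟩ : P), Subgroup.mem_sup_left (Subtype.property _)⟩ := Subtype.ext (ih.1 x hx)
        rw [h2, hγ1]
      · rw [pow_succ', MulAut.mul_apply]
        have h2 : (γ ^ n) ⟨y, Subgroup.mem_sup_right hy⟩ = ⟨y, Subgroup.mem_sup_right hy⟩ := Subtype.ext (ih.2 y hy)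
        rw [h2, hγ2 y hy]
  have hφo : (orderOf φ).Coprime p := by
    have hd : orderOf φ ∣ orderOf α := by
      refine orderOf_dvd_of_pow_eq_one ?_
      ext ⟨x, hx⟩
      have hpa : ∀ (n : ℕ) x (hx : x ∈ P), (((α ^ n) ⟨x, Subgroup.mem_sup_left hx⟩ : ↥(P ⊔ Y)) : Ω) = (φ ^ n) ⟨x, hx⟩ := by
        intro n
        induction n with
        | zero => intro x hx; rfl
        | succ n ih =>
          intro x hx
          rw [pow_succ', pow_succ', MulAut.mul_apply, MulAut.mul_apply]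
          have h2 : (α ^ n) ⟨x, Subgroup.mem_sup_left hx⟩ = ⟨((φ ^ n) ⟨x, hx⟩ : P), Subgroup.mem_sup_left (Subtype.property _)⟩ := Subtype.ext (ih x hx)
          rw [h2, hf]
      rw [← hpa, pow_orderOf_eq_one]; rfl
    exact Nat.Coprime.coprime_dvd_left hd o
  have hγo : (orderOf γ).Coprime p := by
    refine Nat.Coprime.coprime_dvd_left (orderOf_dvd_of_pow_eq_one (n := orderOf φ) ?_) hφo
    ext ⟨x, hx⟩
    obtain ⟨a, ha, c, hc, rfl⟩ := hdec x hx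
    have e : (⟨a * c, hx⟩ : ↥(P ⊔ Y)) = ⟨a, Subgroup.mem_sup_left ha⟩ * ⟨c, Subgroup.mem_sup_right hc⟩ := rfl
    rw [e, map_mul]
    show (((γ ^ orderOf φ) ⟨a, Subgroup.mem_sup_left ha⟩ : ↥(P ⊔ Y)) : Ω) * ((γ ^ orderOf φ) ⟨c, Subgroup.mem_sup_right hc⟩ : ↥(P ⊔ Y)) = a * c
    rw [(hpow _).1 a ha, (hpow _).2 c hc, pow_orderOf_eq_one]; rfl
  have := unique_lift hS hF hPS hYP hφ h hgi.aut_mem t hγt hf hγ1 o hγo
  intro y hy
  rw [this, hγ2 y hy]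

end

end Cfsg.Agent.H27.Pp
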