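import Mathlib
import Cfsg.Agent.H27_Cs2
import Cfsg.Agent.H27_Ix3
import Cfsg.Agent.H27_FusAlp2

/-! The centralizer of a normal subsystem, part three: the largest centralizing subgroup. -/

set_option autoImplicit false
set_option linter.all false

namespace Cfsg.Agent.H27.Pp

open Cfsg Cfsg.FusionSystem Cfsg.Agent.H27.Fus Cfsg.Agent.H27.Grp Cfsg.Agent.H27.Ix Cfsg.Agent.H27.Sc

universe u

section
variable {Ω : Type u} [Group Ω] {S T Y : Subgroup Ω} {P Q R C : Subgroup Ω} {f g : Ω → Ω} {p : ℕ}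
variable {F : FusionSystem S} {E : FusionSystem T}

/-- `X ≤ C_S(T)` centralizes `E` -/
def CE (F : FusionSystem S) (E : FusionSystem T) (X : Subgroup Ω) : Prop :=
  X ≤ centralizerIn S T ∧ ∀ P f, Map E P f → NKmap F X ⊥ P f

def CSE (F : FusionSystem S) (E : FusionSystem T) : Subgroup Ω := sSup {X | CE F E X}

theorem CSE_le : CSE F E ≤ centralizerIn S T := sSup_le fun X hX => hX.1

theorem le_CSE (h : CE F E Y) : Y ≤ CSE F E := le_sSup h

theorem CE_mono (h : CE F E Y) (hR : R ≤ Y) : CE F E R := by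
  refine ⟨hR.trans h.1, fun P f hf => ?_⟩
  obtain ⟨h1, h2, g, hg, h3, h4⟩ := h.2 P f hf
  rw [actsIn_bot_iff] at h4
  rw [NK_bot] at h1 h2
  have hc : centralizerIn S Y ≤ centralizerIn S R := cen_anti hR
  refine ⟨?_, ?_, g, hg.mono (sup_le_sup_left hR _), h3, actsIn_bot_iff.2 fun y hy => h4 y (hR hy)⟩
  · rw [NK_bot]; exact h1.trans hc
  · intro x hx; rw [NK_bot]; exact hc (h2 x hx)

variable [Fact p.Prime] [Finite S]

theorem core_lift (hS : IsPGroup p S) (hF : F.IsSaturated p) (hI : Inv E F) (hPT : P ≤ T)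
    {φ : MulAut P} (hφE : φ ∈ E.autGroup P) (hφ : Gda F P φ) (ho : (orderOf φ).Coprime p) :
    ∃ g, Map F (P ⊔ CSE F E) g ∧ (∀ x ∈ P, g x = totA φ x) ∧ ∀ y ∈ CSE F E, g y = y := by
  have hPS := hPT.trans hI.strong.1
  have hCP : CSE F E ≤ centralizerIn S P := CSE_le.trans (cen_anti hPT)
  obtain ⟨α, hα, ht, hα1, hαo⟩ := exists_lift hS hF hPS hCP hφ ho
  have hRS : P ⊔ CSE F E ≤ S := sup_le hPS (hCP.trans cen_le)
  have hfin : Finite ↥(P ⊔ CSE F E) := finite_of_le hRS
  have hαi := (mem_autGroup_iff hRS).1 hα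
  refine ⟨totA α, hαi.map, fun x hx => by rw [totA_of_mem _ (Subgroup.mem_sup_left hx), hα1 x hx, totA_of_mem _ hx], ?_⟩
  let Fx : Subgroup Ω := (MonoidHom.eqLocus α.toMonoidHom (MonoidHom.id _)).map (P ⊔ CSE F E).subtype
  have hle : CSE F E ≤ Fx := by
    refine sSup_le fun X hX => ?_
    have hXC : X ≤ CSE F E := le_CSE hX
    have hle : P ⊔ X ≤ P ⊔ CSE F E := sup_le_sup_left hXC _
    have hm : Map F (P ⊔ X) (totA α) := hαi.map.mono hle
    have htr : ∀ x ∈ P ⊔ X, x⁻¹ * totA α x ∈ P := fun x hx => by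
      rw [totA_of_mem _ (hle hx)]; exact ht ⟨x, hle hx⟩
    have hfin2 : Finite ↥(P ⊔ X) := finite_of_le (hle.trans hRS)
    have hi : Iso F (P ⊔ X) (P ⊔ X) (totA α) := iso_of_card_le hm (fun x hx => by
      have e : totA α x = x * (x⁻¹ * totA α x) := by group
      rw [e]; exact Subgroup.mul_mem _ hx (Subgroup.mem_sup_left (htr x hx))) le_rfl
    have hpow : ∀ (n : ℕ) (x : ↥(P ⊔ X)), (((hi.aut ^ n) x : ↥(P ⊔ X)) : Ω) = (α ^ n) ⟨x, hle x.2⟩ := by
      intro n
      induction n with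
      | zero => intro x; rfl
      | succ n ih =>
        intro x
        rw [pow_succ', pow_succ', MulAut.mul_apply, MulAut.mul_apply]
        show totA α ((hi.aut ^ n) x : ↥(P ⊔ X)) = _
        rw [ih, totA_apply]
    have ho' : (orderOf hi.aut).Coprime p := by
      refine Nat.Coprime.coprime_dvd_left (orderOf_dvd_of_pow_eq_one ?_) hαo
      ext x
      rw [hpow, pow_orderOf_eq_one]; rfl
    have h1 := lift_fix hS hF hI hPT hX.1 hX.2 hφE hφ hi.aut_mem (fun x => htr x x.2) (fun x hx => by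
      show totA α x = _
      rw [totA_of_mem _ (Subgroup.mem_sup_left hx), hα1 x hx]) ho'
    intro x hx
    have hxC : x ∈ P ⊔ CSE F E := Subgroup.mem_sup_right (hXC hx)
    refine ⟨⟨x, hxC⟩, Subtype.ext ?_, rfl⟩
    have h2 : totA α x = x := h1 x hx
    rw [totA_of_mem _ hxC] at h2
    exact h2
  intro y hy
  obtain ⟨z, hz, rfl⟩ := hle hy
  show totA α (z : Ω) = z
  rw [totA_apply]
  exact congrArg Subtype.val hz

/-- the largest centralizing subgroup centralizes -/
theorem CSE_cen (hS : IsPGroup p S) (hF : F.IsSaturated p) (hE : E.IsSaturated p) (hI : Inv E F) (hx : ExtCond E F) :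
    CE F E (CSE F E) := by
  refine ⟨CSE_le, ?_⟩
  have hTS := hI.strong.1
  have hTp := hS.to_le hTS
  have hT : Finite T := finite_of_le hTS
  have hCS : CSE F E ≤ S := CSE_le.trans cen_le
  obtain ⟨Cs, hCs⟩ := exists_centralizerSystem F (CSE F E) hCS
  have hTC : T ≤ centralizerIn S (CSE F E) := fun t ht => mem_cen.2 ⟨hTS ht, fun y hy => (cn_comm (CSE_le hy) ht).symm⟩
  have mk : ∀ (P : Subgroup Ω) (φ : MulAut P), P ≤ T → (∃ g, Map F (P ⊔ CSE F E) g ∧ (∀ x ∈ P, g x = totA φ x) ∧ ∀ y ∈ CSE F E, g y = y) →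
      φ ∈ Cs.autGroup P := by
    rintro P φ hPT ⟨g, hg, h1, h2⟩
    refine mem_autGroup_of (f := totA φ) ?_ fun x => (totA_apply φ x).symm
    rw [map_of_isCentralizerSystem hCs]
    refine ⟨?_, fun x hx => ?_, g, hg, h1, actsIn_bot_iff.2 h2⟩
    · rw [NK_bot]; exact hPT.trans hTC
    · rw [NK_bot]; exact hTC (hPT (totA_mem hx))
  have hind : ∀ P : Subgroup Ω, P ≤ T → autInducedBy T P ≤ Cs.autGroup P := by
    intro P hPT α hα
    obtain ⟨t, ht, h1⟩ := mem_autInducedBy.1 hα
    refine mk P α hPT ⟨fun x => t * x * t⁻¹, map_conj F (sup_le (hPT.trans hTS) hCS) (hTS ht), fun x hx => ?_, fun y hy => ?_⟩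
    · rw [totA_of_mem _ hx, h1]
    · have := cn_comm (CSE_le hy) ht
      show t * y * t⁻¹ = y
      rw [this]; group
  have key : ∀ P f, Map E P f → Map Cs P f := by
    refine alperin' hTp hE ⟨fun h hfg => h.congr hfg, fun h hQ => h.mono hQ, fun _ _ h1 h2 hm => h2.comp h1 hm,
      fun hi h => ?_⟩ (fun f hf => ?_) (fun P hP IH f hf => ?_)
    · have h1 := h.iso
      rw [hi.im_eq] at h1
      exact h1.symm.map
    · have h1 : E.autGroup T ≤ Cs.autGroup T := by
        refine aut_le_of_res hTp hE (fn_top E) ?_ (hind T le_rfl)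
        rw [opR_eq, Subgroup.closure_le]
        rintro φ ⟨hφ, ho⟩
        exact mk T φ le_rfl (core_lift hS hF hI le_rfl hφ (gd_top hI hx hφ) ho)
      exact map_of_mem_autGroup hTC (h1 hf.aut_mem) fun x => rfl
    · have hPT : P ≤ T := hf.le
      have hPC : P ∈ FC F T := (fc_iff hI).1 hP.1
      have hlt : P < T := essential_lt hTp hE hP
      have hfn : E.IsFullyNormalized P := hP.2.1
      have hfA : Finite (E.autGroup P) := finite_autGroup hPT
      obtain ⟨-, R, hR⟩ := fn_automized hTp hE hfn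
      have hsyl : IsSyl p (autInducedBy T P) (E.autGroup P) := (isSyl_iff (autInducedBy_le_autGroup E hPT)).2 ⟨R, hR⟩
      have hop : autInducedBy T P ≤ Opp E p P := le_opp (autInducedBy_le_autGroup E hPT) hsyl.isPGroup
      have hsylO : IsSyl p (autInducedBy T P) (Opp E p P) := hsyl.mono hop opp_le
      have hfO : Finite (Opp E p P) := finite_of_le (opp_le (F := E) (p := p) (P := P))
      have hO : Opp E p P ≤ Cs.autGroup P := by
        intro a ha
        obtain ⟨b, hb, t, ht, rfl⟩ := exists_opR_mul hsylO ha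
        refine (Cs.autGroup P).mul_mem ?_ (hind P hPT ht)
        have h1 : opR p (Opp E p P) ≤ Cs.autGroup P := by
          rw [opR_eq, Subgroup.closure_le]
          rintro φ ⟨hφ, ho⟩
          exact mk P φ hPT (core_lift hS hF hI hPT (opp_le hφ) (gd_opp hS hF hE hI hPC hφ) ho)
        exact h1 hb
      have hA : E.autGroup P ≤ Cs.autGroup P := by
        intro a ha
        obtain ⟨n, hn, h1⟩ := frattini_syl hsyl hop opp_le (fun a ha x hx => opp_conj ha hx) ha
        have hna : n * a ∈ E.autGroup P := (E.autGroup P).mul_mem (opp_le hn) ha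
        have hi := (mem_autGroup_iff hPT).1 hna
        -- extend `n * a` to `N_T(P)`
        have hext : normalizerIn T P ≤ ext T P (totA (n * a)) := by
          intro t ht
          have h2 := h1 (conj_mem_cj (cjA_mem (P := P) (K := T) ht.2 ht.1))
          obtain ⟨s, hs, h3⟩ := mem_autInducedBy.1 h2
          refine mem_ext.2 ⟨ht.1, ht.2, s, hs, fun y hy => ?_⟩
          have h4 := h3 ((n * a) ⟨y, hy⟩)
          have h5 : (n * a * cjA P t ht.2 * (n * a)⁻¹) ((n * a) ⟨y, hy⟩) = (n * a) (cjA P t ht.2 ⟨y, hy⟩) := by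
            show (n * a) (cjA P t ht.2 ((n * a)⁻¹ ((n * a) ⟨y, hy⟩))) = _
            rw [MulAut.inv_apply_self]
          rw [h5] at h4
          have hty : t * y * t⁻¹ ∈ P := nrm_conj_mem ht hy
          rw [totA_of_mem _ hty, totA_of_mem _ hy]
          have h6 : (⟨t * y * t⁻¹, hty⟩ : P) = cjA P t ht.2 ⟨y, hy⟩ := Subtype.ext rfl
          rw [h6]; exact h4
        obtain ⟨g, hg, hg1⟩ := receptive_ext' (fn_receptive hTp hE hfn) hi hext
        have hlt2 : Nat.card P < Nat.card (normalizerIn T P) := by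
          have : Finite (normalizerIn T P) := fin_nrm
          obtain ⟨s, hs, hsX, hsN⟩ := exists_mem_normalizer_of_lt hTp hlt
          refine card_lt_of_lt (lt_of_le_of_ne (le_nrm hPT) fun h => hsX ?_)
          rw [h]; exact ⟨hs, hsN⟩
        have h2 := (IH _ hlt2 g hg).mono (le_nrm hPT)
        have h3 : n * a ∈ Cs.autGroup P := mem_autGroup_of h2 fun x => by rw [hg1 x x.2, totA_apply]
        have h4 := (Cs.autGroup P).mul_mem ((Cs.autGroup P).inv_mem (hO hn)) h3
        rwa [inv_mul_cancel_left] at h4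
      exact map_of_mem_autGroup (hPT.trans hTC) (hA hf.aut_mem) fun x => rfl
  exact fun P f hf => (map_of_isCentralizerSystem hCs).1 (key P f hf)

end

end Cfsg.Agent.H27.Pp
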