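import Mathlib
import Cfsg.Agent.H27_Cs3
import Cfsg.Agent.H27_Pp12
import Cfsg.Agent.H27_FusFac2

/-! The centralizer of a normal subsystem, part four: strong closure. -/

set_option autoImplicit false
set_option linter.all false

namespace Cfsg.Agent.H27.Pp

open Cfsg Cfsg.FusionSystem Cfsg.Agent.H27.Fus Cfsg.Agent.H27.Grp Cfsg.Agent.H27.Ix Cfsg.Agent.H27.Sc

universe u

section
variable {Ω : Type u} [Group Ω] {S T Y : Subgroup Ω} {P Q R C : Subgroup Ω} {f g : Ω → Ω} {p : ℕ}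
variable {F : FusionSystem S} {E : FusionSystem T} [Fact p.Prime] [Finite S]

theorem TrG_conj2 {w d : MulAut Q} (hw : w ∈ TrG P Q) (hd : ∀ y : Q, (y : Ω) ∈ P → ((d y : Q) : Ω) ∈ P) : d * w * d⁻¹ ∈ TrG P Q := by
  intro x
  set z := d⁻¹ x with hz
  have hx : x = d z := by rw [hz, MulAut.apply_inv_self]
  have e : (d * w * d⁻¹) x = d (w z) := rfl
  have h2 : (((z⁻¹ * w z : Q)) : Ω) ∈ P := hw z
  have h3 := hd _ h2
  rw [map_mul, map_inv, ← hx] at h3
  rw [e]
  exact h3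

/-- hats preserve the family of centralizing subgroups -/
theorem hat_CE (hI : Inv E F) {b : Ω → Ω} (hb : Iso F (PC S T T) (PC S T T) b) (h : CE F E Y) : CE F E (im Y b) := by
  have hT := hI.strong
  have hTS := hT.1
  have hTfin := finite_of_le hTS
  have hYS := h.1.trans cen_le
  have hYP : Y ≤ PC S T T := h.1.trans le_sup_right
  have hTP : T ≤ PC S T T := le_sup_left
  have hbY := hb.map.mono hYP
  have hYc : ∀ y ∈ Y, b y ∈ centralizerIn S T := fun y hy => map_cen_mem hT hTP hb.map (hYP hy) (h.1 hy)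
  have hle : im Y b ≤ centralizerIn S T := fun z hz => by
    obtain ⟨y, hy, rfl⟩ := hbY.mem_im.1 hz
    exact hYc y hy
  refine ⟨hle, fun P f hf => ?_⟩
  have hTC : T ≤ centralizerIn S (im Y b) := fun t ht => mem_cen.2 ⟨hTS ht, fun y hy => (cn_comm (hle hy) ht).symm⟩
  have hbT : Iso F T T b := (hb.map.mono hTP).iso_of_im_eq (StronglyClosed.im_eq hT hb.map hTP)
  set b' := finv (PC S T T) b with hb'
  have hbi := hb.symm
  have hb'T : Iso F T T b' := (hbi.map.mono hTP).iso_of_im_eq (StronglyClosed.im_eq hT hbi.map hTP)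
  have hPT := hf.le
  have hPP := hPT.trans hTP
  obtain ⟨g, hg, hg1⟩ := hI.inv P f b' hf hb'T
  obtain ⟨-, -, k, hk, hk1, hk2⟩ := h.2 _ _ hg
  rw [actsIn_bot_iff] at hk2
  have him : im P b' ≤ T := hg.le
  refine ⟨?_, fun x hx => ?_, b ∘ (k ∘ b'), ?_, fun x hx => ?_, actsIn_bot_iff.2 fun z hz => ?_⟩
  · rw [NK_bot]; exact hPT.trans hTC
  · rw [NK_bot]; exact hTC (hf.mem hx)
  · have h1 : Map F (P ⊔ im Y b) b' := hbi.map.mono (sup_le hPP (hle.trans le_sup_right))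
    have h2 : ∀ x ∈ P ⊔ im Y b, b' x ∈ im P b' ⊔ Y := h1.maps_sup
      (fun x hx => Subgroup.mem_sup_left ((hbi.map.mono hPP).apply_mem_im hx)) fun z hz => by
        obtain ⟨y, hy, rfl⟩ := hbY.mem_im.1 hz
        rw [hb', hb.finv_left (hYP hy)]; exact Subgroup.mem_sup_right hy
    have h3 := hk.comp h1 h2
    refine hb.map.comp h3 (h3.maps_sup (fun x hx => ?_) fun z hz => ?_)
    · show k (b' x) ∈ _
      rw [hk1 _ ((hbi.map.mono hPP).apply_mem_im hx)]
      exact hTP (hg.mem ((hbi.map.mono hPP).apply_mem_im hx))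
    · obtain ⟨y, hy, rfl⟩ := hbY.mem_im.1 hz
      show k (b' (b y)) ∈ _
      rw [hb', hb.finv_left (hYP hy), hk2 y hy]; exact hYP hy
  · show b (k (b' x)) = f x
    rw [hk1 _ ((hbi.map.mono hPP).apply_mem_im hx), hg1 x hx, hb', hb.finv_right (hTP (hf.mem hx))]
  · obtain ⟨y, hy, rfl⟩ := hbY.mem_im.1 hz
    show b (k (b' (b y))) = b y
    rw [hb', hb.finv_left (hYP hy), hk2 y hy]

theorem strong_T (hS : IsPGroup p S) (hF : F.IsSaturated p) (hE : E.IsSaturated p) (hI : Inv E F) (hx : ExtCond E F)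
    (hf : Map F P f) (hTP : T ≤ P) {x : Ω} (hxP : x ∈ P) (hxC : x ∈ CSE F E) : f x ∈ CSE F E := by
  have hT := hI.strong
  have hTS := hT.1
  have hTfin := finite_of_le hTS
  have hfT : Iso F T T f := (hf.mono hTP).iso_of_im_eq (StronglyClosed.im_eq hT hf hTP)
  obtain ⟨a, ha, ha1, ha2, ha3⟩ := exists_hat hS hF hT hfT
  have hxc : x ∈ centralizerIn S T := CSE_le hxC
  set R := P ⊓ PC S T T with hR
  have hTR : T ≤ R := le_inf hTP le_sup_left
  have hxR : x ∈ R := ⟨hxP, Subgroup.mem_sup_right hxc⟩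
  have hfR : Map F R f := hf.mono inf_le_left
  have htc := tc_strong hS hF hT
  have hm : ∀ y ∈ R, f y ∈ PC S T T := fun y hy => (StronglyClosed.mem_iff htc hfR hy).2 hy.2
  have hk : Map F R (finv (PC S T T) a ∘ f) := ha.symm.map.comp hfR hm
  set k := finv (PC S T T) a ∘ f with hkd
  have hkT : ∀ t ∈ T, k t = t := fun t ht => by
    show finv (PC S T T) a (f t) = t
    rw [← ha1 t ht, ha.finv_left (Subgroup.mem_sup_left ht)]
  obtain ⟨D, hD⟩ := exists_centralizerSystem F T hTS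
  have hfoc := s5293 hS hF hE hI hx hD (C := CSE F E) fun X h1 h2 => le_CSE ⟨h1, h2⟩
  have hkD : Map D (R ⊓ centralizerIn S T) k := by
    rw [map_of_isCentralizerSystem hD]
    refine ⟨?_, fun y hy => ?_, k, hk.mono (sup_le inf_le_left hTR), fun y hy => rfl, actsIn_bot_iff.2 hkT⟩
    · rw [NK_bot]; exact inf_le_right
    · rw [NK_bot]; exact map_cen_mem hT hTR hk hy.1 hy.2
  have h1 : x⁻¹ * k x ∈ CSE F E := hfoc (mem_foc hkD ⟨hxR, hxc⟩)
  have h2 : k x ∈ CSE F E := by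
    have e : k x = x * (x⁻¹ * k x) := by group
    rw [e]; exact (CSE F E).mul_mem hxC h1
  have h3 : f x = a (k x) := (ha.finv_right (hm x hxR)).symm
  have hCP : CSE F E ≤ PC S T T := CSE_le.trans le_sup_right
  have h4 : im (CSE F E) a ≤ CSE F E := le_CSE (hat_CE hI ha (CSE_cen hS hF hE hI hx))
  rw [h3]
  exact h4 ((ha.map.mono hCP).apply_mem_im h2)

theorem strong_T_iff (hS : IsPGroup p S) (hF : F.IsSaturated p) (hE : E.IsSaturated p) (hI : Inv E F) (hx : ExtCond E F)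
    (hf : Map F P f) (hTP : T ≤ P) {x : Ω} (hxP : x ∈ P) : f x ∈ CSE F E ↔ x ∈ CSE F E := by
  refine ⟨fun h => ?_, strong_T hS hF hE hI hx hf hTP hxP⟩
  have hT := hI.strong
  have hTfin := finite_of_le hT.1
  have him : T ≤ im P f := by
    have h1 := StronglyClosed.im_eq hT hf hTP
    calc T = im T f := h1.symm
      _ ≤ im P f := hf.im_mono hTP
  have h2 := strong_T hS hF hE hI hx hf.iso.symm.map him (hf.apply_mem_im hxP) h
  rwa [hf.iso.finv_left hxP] at h2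

theorem ess_fc (hS : IsPGroup p S) (hF : F.IsSaturated p) (hI : Inv E F) (hP : F.IsEssential p P) : P ⊓ T ∈ FC F T := by
  have hTfin := finite_of_le hI.strong.1
  have hPS : P ≤ S := hP.1.1
  by_contra hcon
  obtain ⟨Q, hPQ, x, hx, hxQ, α, hα, h1⟩ := star_of_noncentric hS hF hI.strong hI.sub hPS fun h => hcon ((fc_iff hI).1 h)
  obtain ⟨f, hf⟩ := isConj_iff.1 hPQ
  have hrad : OpA F p P = Inn P := (essential_radical hS hP).2
  have h2 := opA_map hf.symm hα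
  rw [hrad, mem_inn] at h2
  obtain ⟨g, hg, h2⟩ := h2
  have h3 : ∀ y ∈ Q, x * y * x⁻¹ = f g * y * (f g)⁻¹ := by
    intro y hy
    have h4 := congr_tot hf.symm α hy
    have h5 : finv P f y ∈ P := hf.finv_mem hy
    rw [totA_of_mem _ h5, h2, totA_of_mem _ hy, h1] at h4
    have h6 : x * y * x⁻¹ ∈ Q := by
      have := (α ⟨y, hy⟩).2
      rwa [h1] at this
    have h7 := congrArg f h4
    have h8 : g * finv P f y * g⁻¹ ∈ P := P.mul_mem (P.mul_mem hg h5) (P.inv_mem hg)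
    have h9 : f (finv P f (x * y * x⁻¹)) = x * y * x⁻¹ := hf.finv_right h6
    have h10 : f (g * finv P f y * g⁻¹) = f g * f (finv P f y) * (f g)⁻¹ := by
      rw [hf.map.mul (P.mul_mem hg h5) (P.inv_mem hg), hf.map.mul hg h5, hf.map.inv hg]
    rw [hf.finv_right hy] at h10
    rw [← h9, ← h10]
    exact h7.symm
  have hfg : f g ∈ Q := hf.maps g hg
  have hQS := hf.le'
  have h4 : (f g)⁻¹ * x ∈ centralizerIn S Q := by
    refine mem_cen.2 ⟨S.mul_mem (S.inv_mem (hQS hfg)) hx.1, fun y hy => ?_⟩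
    have h5 := h3 y hy
    have e : (f g)⁻¹ * x * y = (f g)⁻¹ * (x * y * x⁻¹) * x := by group
    rw [e, h5]; group
  have h5 := hP.1.2 Q hPQ h4
  have e : x = f g * ((f g)⁻¹ * x) := by group
  exact hxQ (by rw [e]; exact Q.mul_mem hfg h5)

/-- the normal closure of `Aut_T(P)` in `Aut_F(P)` -/
def MP (F : FusionSystem S) (T P : Subgroup Ω) : Subgroup (MulAut P) :=
  Subgroup.closure {β | ∃ a ∈ F.autGroup P, ∃ τ ∈ autInducedBy T P, β = a * τ * a⁻¹}

theorem MP_le (hTS : T ≤ S) (hPS : P ≤ S) : MP F T P ≤ F.autGroup P := by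
  rw [MP, Subgroup.closure_le]
  rintro _ ⟨a, ha, τ, hτ, rfl⟩
  exact (F.autGroup P).mul_mem ((F.autGroup P).mul_mem ha (autInducedBy_le_autGroup F hPS (autInducedBy_mono hTS hτ))) ((F.autGroup P).inv_mem ha)

theorem MP_conj {a b : MulAut P} (ha : a ∈ F.autGroup P) (hb : b ∈ MP F T P) : a * b * a⁻¹ ∈ MP F T P := by
  rw [MP] at hb ⊢
  induction hb using Subgroup.closure_induction with
  | mem b hb =>
    obtain ⟨c, hc, τ, hτ, rfl⟩ := hb
    refine Subgroup.subset_closure ⟨a * c, (F.autGroup P).mul_mem ha hc, τ, hτ, ?_⟩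
    group
  | one => rw [mul_one, mul_inv_cancel]; exact Subgroup.one_mem _
  | mul b c _ _ ihb ihc =>
    have e : a * (b * c) * a⁻¹ = (a * b * a⁻¹) * (a * c * a⁻¹) := by group
    rw [e]; exact Subgroup.mul_mem _ ihb ihc
  | inv b _ ihb =>
    have e : a * b⁻¹ * a⁻¹ = (a * b * a⁻¹)⁻¹ := by group
    rw [e]; exact Subgroup.inv_mem _ ihb

/-- `M_P` acts trivially modulo `T` and as elements of `O^{p'}(Aut_E(P ∩ T))` on `P ∩ T` -/
theorem MP_res (hS : IsPGroup p S) (hI : Inv E F) (hPS : P ≤ S) {β : MulAut P} (hβ : β ∈ MP F T P) :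
    β ∈ TrG T P ∧ ∃ γ ∈ Opp E p (P ⊓ T), ∀ x (hx : x ∈ P ⊓ T), (γ ⟨x, hx⟩ : Ω) = β ⟨x, hx.1⟩ := by
  have hT := hI.strong
  have hTS := hT.1
  have hTfin := finite_of_le hTS
  have hpres : ∀ a ∈ F.autGroup P, ∀ y : P, ((a y : P) : Ω) ∈ T ↔ (y : Ω) ∈ T := fun a ha y => by
    rw [← totA_apply]; exact StronglyClosed.mem_iff hT ((mem_autGroup_iff hPS).1 ha).map y.2
  rw [MP] at hβ
  induction hβ using Subgroup.closure_induction with
  | mem b hb =>
    obtain ⟨a, ha, τ, hτ, rfl⟩ := hb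
    obtain ⟨t, ht, h1⟩ := mem_autInducedBy.1 hτ
    constructor
    · refine TrG_conj2 ?_ fun y hy => (hpres a ha y).2 hy
      intro x
      rw [h1]
      have h2 : (x : Ω)⁻¹ * t * (x : Ω)⁻¹⁻¹ ∈ T := StronglyClosed.conj_mem hT (S.inv_mem (hPS x.2)) ht
      have e : (x : Ω)⁻¹ * (t * x * t⁻¹) = (x : Ω)⁻¹ * t * (x : Ω)⁻¹⁻¹ * t⁻¹ := by group
      rw [e]; exact T.mul_mem h2 (T.inv_mem ht)
    · -- restrict `a` to `P ⊓ T`
      have hai := (mem_autGroup_iff hPS).1 ha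
      have hPTS : P ⊓ T ≤ S := inf_le_left.trans hPS
      have hfin : Finite ↥(P ⊓ T) := finite_of_le hPTS
      have ha0 : Iso F (P ⊓ T) (P ⊓ T) (totA a) := iso_of_card_le (hai.map.mono inf_le_left) (fun x hx => by
        rw [totA_of_mem _ hx.1]; exact ⟨(a ⟨x, hx.1⟩).2, (hpres a ha _).2 hx.2⟩) le_rfl
      have htn : t ∈ Subgroup.normalizer (P : Set Ω) := autInducedBy_norm (K := T) h1
      have htn2 : t ∈ Subgroup.normalizer ((P ⊓ T : Subgroup Ω) : Set Ω) := by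
        refine (mem_nrm_of_forall (S := S) hPTS (hTS ht) fun y hy => ⟨(Subgroup.mem_normalizer_iff.1 htn y).1 hy.1, ?_⟩).2
        exact T.mul_mem (T.mul_mem ht hy.2) (T.inv_mem ht)
      have hind : autInducedBy T (P ⊓ T) ≤ Opp E p (P ⊓ T) := by
        refine le_opp (autInducedBy_le_autGroup E inf_le_right) ?_
        exact isPGroup_autInducedBy (hS.to_le hTS)
      have h2 := opp_congr hI inf_le_right ha0 (hind (cjA_mem htn2 ht))
      refine ⟨_, h2, fun x hx => ?_⟩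
      obtain ⟨z, hz⟩ := ha0.equiv.surjective ⟨x, hx⟩
      have e2 : totA a (z : Ω) = x := congrArg Subtype.val hz
      have h3 := congr_tot ha0 (cjA (P ⊓ T) t htn2) z.2
      rw [e2, totA_of_mem _ hx, totA_apply, cjA_apply] at h3
      rw [h3]
      have hzP : (z : Ω) ∈ P := z.2.1
      have e3 : (a ⟨z, hzP⟩ : Ω) = x := by rw [← totA_of_mem]; exact e2
      have e4 : a⁻¹ ⟨x, hx.1⟩ = ⟨z, hzP⟩ := by
        have : (⟨x, hx.1⟩ : P) = a ⟨z, hzP⟩ := Subtype.ext e3.symm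
        rw [this, MulAut.inv_apply_self]
      show totA a (t * z * t⁻¹) = (a (τ (a⁻¹ ⟨x, hx.1⟩)) : P)
      rw [e4]
      have h5 := h1 ⟨z, hzP⟩
      have h6 : t * (z : Ω) * t⁻¹ = (τ ⟨z, hzP⟩ : P) := h5.symm
      rw [h6, totA_apply]
  | one => exact ⟨(TrG T P).one_mem, 1, (Opp E p (P ⊓ T)).one_mem, fun x hx => rfl⟩
  | mul b c _ _ ihb ihc =>
    obtain ⟨h1, γ, hγ, h2⟩ := ihb
    obtain ⟨h3, δ, hδ, h4⟩ := ihc
    refine ⟨(TrG T P).mul_mem h1 h3, γ * δ, (Opp E p (P ⊓ T)).mul_mem hγ hδ, fun x hx => ?_⟩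
    rw [MulAut.mul_apply, MulAut.mul_apply]
    have e := h4 x hx
    have e2 : (c ⟨x, hx.1⟩ : P) = ⟨(δ ⟨x, hx⟩ : ↥(P ⊓ T)), (δ ⟨x, hx⟩).2.1⟩ := Subtype.ext e.symm
    rw [e2]
    exact h2 _ (δ ⟨x, hx⟩).2
  | inv b _ ihb =>
    obtain ⟨h1, γ, hγ, h2⟩ := ihb
    refine ⟨(TrG T P).inv_mem h1, γ⁻¹, (Opp E p (P ⊓ T)).inv_mem hγ, fun x hx => ?_⟩
    have e := h2 _ (γ⁻¹ ⟨x, hx⟩).2
    have e2 : (⟨(γ⁻¹ ⟨x, hx⟩ : ↥(P ⊓ T)), (γ⁻¹ ⟨x, hx⟩).2⟩ : ↥(P ⊓ T)) = γ⁻¹ ⟨x, hx⟩ := rfl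
    rw [e2, MulAut.apply_inv_self] at e
    have e3 : (⟨x, hx.1⟩ : P) = b ⟨(γ⁻¹ ⟨x, hx⟩ : ↥(P ⊓ T)), (γ⁻¹ ⟨x, hx⟩).2.1⟩ := Subtype.ext e
    rw [e3, MulAut.inv_apply_self]

/-- coprime elements of `M_P` fix `C ∩ P` -/
theorem MP_fix (hS : IsPGroup p S) (hF : F.IsSaturated p) (hE : E.IsSaturated p) (hI : Inv E F) (hx : ExtCond E F)
    (hPS : P ≤ S) (hfc : P ⊓ T ∈ FC F T) : opR p (MP F T P) ≤ FxG (CSE F E) P := by
  have hTS := hI.strong.1
  rw [opR_eq, Subgroup.closure_le]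
  rintro β ⟨hβ, ho⟩ x hxC
  obtain ⟨ht, γ, hγ, hγ1⟩ := MP_res hS hI hPS hβ
  set P₀ := P ⊓ T with hP₀
  set Y := CSE F E ⊓ P with hY
  have hYc : Y ≤ centralizerIn S T := inf_le_left.trans CSE_le
  have hRP : P₀ ⊔ Y ≤ P := sup_le inf_le_left inf_le_right
  have hβi := (mem_autGroup_iff hPS).1 (MP_le hTS hPS hβ)
  have hfin : Finite ↥(P₀ ⊔ Y) := finite_of_le (hRP.trans hPS)
  have htr : ∀ x ∈ P₀ ⊔ Y, x⁻¹ * totA β x ∈ P₀ := fun x hx => by
    have hxP := hRP hx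
    rw [totA_of_mem _ hxP]
    exact ⟨P.mul_mem (P.inv_mem hxP) (β _).2, ht ⟨x, hxP⟩⟩
  have hm : Map F (P₀ ⊔ Y) (totA β) := hβi.map.mono hRP
  have hi : Iso F (P₀ ⊔ Y) (P₀ ⊔ Y) (totA β) := iso_of_card_le hm (fun x hx => by
    have e : totA β x = x * (x⁻¹ * totA β x) := by group
    rw [e]; exact Subgroup.mul_mem _ hx (Subgroup.mem_sup_left (htr x hx))) le_rfl
  have hpow : ∀ (n : ℕ) (x : ↥(P₀ ⊔ Y)), (((hi.aut ^ n) x : ↥(P₀ ⊔ Y)) : Ω) = (β ^ n) ⟨x, hRP x.2⟩ := by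
    intro n
    induction n with
    | zero => intro x; rfl
    | succ n ih =>
      intro x
      rw [pow_succ', pow_succ', MulAut.mul_apply, MulAut.mul_apply]
      show totA β ((hi.aut ^ n) x : ↥(P₀ ⊔ Y)) = _
      rw [ih, totA_apply]
  have ho' : (orderOf hi.aut).Coprime p := by
    refine Nat.Coprime.coprime_dvd_left (orderOf_dvd_of_pow_eq_one ?_) ho
    ext x
    rw [hpow, pow_orderOf_eq_one]; rfl
  have h1 := lift_fix hS hF hI hfc.1 hYc (CE_mono (CSE_cen hS hF hE hI hx) inf_le_left).2 (opp_le hγ) (gd_opp hS hF hE hI hfc hγ)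
    hi.aut_mem (fun x => htr x x.2) (fun x hx => by
      show totA β x = _
      rw [totA_of_mem _ hx.1]; exact (hγ1 x hx).symm) ho'
  have h2 : totA β x = x := h1 x ⟨hxC, x.2⟩
  rw [totA_apply] at h2
  exact Subtype.ext h2

theorem CSE_strong (hS : IsPGroup p S) (hF : F.IsSaturated p) (hE : E.IsSaturated p) (hI : Inv E F) (hx : ExtCond E F) :
    F.StronglyClosed (CSE F E) := by
  have hT := hI.strong
  have hTS := hT.1
  have hTfin := finite_of_le hTS
  have hsn : ∀ s ∈ S, ∀ x ∈ S, s * x * s⁻¹ ∈ CSE F E ↔ x ∈ CSE F E := fun s hs x hxS =>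
    strong_T_iff hS hF hE hI hx (map_conj F le_rfl hs) hTS hxS
  have key : ∀ P f, Map F P f → ∀ x ∈ P, f x ∈ CSE F E ↔ x ∈ CSE F E := by
    refine alperin' hS hF (C := fun P f => ∀ x ∈ P, f x ∈ CSE F E ↔ x ∈ CSE F E) ⟨fun h hfg x hx => by rw [← hfg x hx]; exact h x hx,
      fun h hQ x hx => h x (hQ hx), fun _ _ h1 h2 hm x hx => (h2 _ (hm x hx)).trans (h1 x hx), fun hi h y hy => ?_⟩
      (fun f hf x hxS => strong_T_iff hS hF hE hI hx hf.map hTS hxS) (fun P hP IH f hf => ?_)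
    · have h1 := h _ (hi.finv_mem hy)
      rw [hi.finv_right hy] at h1
      exact h1.symm
    have hPS : P ≤ S := hf.le
    by_cases hTP : T ≤ P
    · exact fun x hxP => strong_T_iff hS hF hE hI hx hf.map hTP hxP
    have hfc := ess_fc hS hF hI hP
    have hfnP : F.IsFullyNormalized P := hP.2.1
    have hfA : Finite (F.autGroup P) := finite_autGroup hPS
    obtain ⟨-, R, hR⟩ := fn_automized hS hF hfnP
    have hsyl : IsSyl p (autInducedBy S P) (F.autGroup P) := (isSyl_iff (autInducedBy_le_autGroup F hPS)).2 ⟨R, hR⟩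
    have hMle : MP F T P ≤ F.autGroup P := MP_le hTS hPS
    have hMn : F.autGroup P ≤ Subgroup.normalizer (MP F T P : Set (MulAut P)) := le_normalizer_of fun a ha b hb => MP_conj ha hb
    have hsylM : IsSyl p (autInducedBy S P ⊓ MP F T P) (MP F T P) := hsyl.inf hMle hMn
    have hfM : Finite (MP F T P) := finite_of_le hMle
    -- elements of `M_P` preserve `C`
    have hM : ∀ m ∈ MP F T P, m ∈ StA P (CSE F E) := by
      intro m hm
      obtain ⟨b, hb, s, hs, rfl⟩ := exists_opR_mul hsylM hm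
      refine (StA P (CSE F E)).mul_mem ?_ ?_
      · have h1 := MP_fix hS hF hE hI hx hPS hfc hb
        intro x
        constructor
        · intro h2
          have h3 := (FxG (CSE F E) P).inv_mem h1 _ h2
          rw [MulAut.inv_apply_self] at h3
          rw [h3]; exact h2
        · intro h2
          rw [h1 x h2]; exact h2
      · obtain ⟨s', hs', h1⟩ := mem_autInducedBy.1 hs.1
        intro x
        rw [h1]; exact hsn s' hs' x (hPS x.2)
    set a := hf.aut with ha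
    have haF : a ∈ F.autGroup P := hf.aut_mem
    have h1 : cj a (autInducedBy S P ⊓ MP F T P) ≤ MP F T P := cj_le.2 fun b hb => MP_conj haF hb.2
    obtain ⟨m, hm, h2⟩ := hsylM.conj h1 (isPGroup_cj hsylM.isPGroup)
    set n := m * a with hn
    have hnF : n ∈ F.autGroup P := (F.autGroup P).mul_mem (hMle hm) haF
    have hni := (mem_autGroup_iff hPS).1 hnF
    have hext : ∀ t ∈ normalizerIn T P, t ∈ ext S P (totA n) := by
      intro t ht
      have hc1 : cjA P t ht.2 ∈ autInducedBy T P := cjA_mem ht.2 ht.1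
      have hc2 : cjA P t ht.2 ∈ autInducedBy S P ⊓ MP F T P := ⟨autInducedBy_mono hTS hc1,
        Subgroup.subset_closure ⟨1, (F.autGroup P).one_mem, _, hc1, by group⟩⟩
      have h3 := h2 (conj_mem_cj (conj_mem_cj hc2))
      obtain ⟨s, hs, h4⟩ := mem_autInducedBy.1 h3.1
      refine mem_ext.2 ⟨hTS ht.1, ht.2, s, hs, fun y hy => ?_⟩
      have h5 := h4 (n ⟨y, hy⟩)
      have h6 : (m * (a * cjA P t ht.2 * a⁻¹) * m⁻¹) (n ⟨y, hy⟩) = n (cjA P t ht.2 ⟨y, hy⟩) := by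
        have : m * (a * cjA P t ht.2 * a⁻¹) * m⁻¹ = n * cjA P t ht.2 * n⁻¹ := by rw [hn]; group
        rw [this]
        show n (cjA P t ht.2 (n⁻¹ (n ⟨y, hy⟩))) = _
        rw [MulAut.inv_apply_self]
      rw [h6] at h5
      have hty : t * y * t⁻¹ ∈ P := nrm_conj_mem (S := T) ht hy
      rw [totA_of_mem _ hty, totA_of_mem _ hy]
      have h7 : (⟨t * y * t⁻¹, hty⟩ : P) = cjA P t ht.2 ⟨y, hy⟩ := Subtype.ext rfl
      rw [h7]; exact h5
    obtain ⟨g, hg, hg1⟩ := receptive_ext (fn_receptive hS hF hfnP) hni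
    have hlt : Nat.card P < Nat.card (ext S P (totA n)) := by
      have hfe : Finite (ext S P (totA n)) := finite_of_le ext_le
      refine card_lt_of_lt (lt_of_le_of_ne hni.map.le_ext fun h => ?_)
      -- `N_T(P) ≰ P`
      have hPT : P < P ⊔ T := lt_of_le_of_ne le_sup_left fun h' => hTP (by rw [h']; exact le_sup_right)
      have hPTS : P ⊔ T ≤ S := sup_le hPS hTS
      have hfPT : Finite ↥(P ⊔ T) := finite_of_le hPTS
      obtain ⟨x, hx1, hx2, hx3⟩ := exists_mem_normalizer_of_lt (hS.to_le hPTS) hPT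
      have hPn : P ≤ Subgroup.normalizer (T : Set Ω) := fun y hy => (StronglyClosed.le_normalizer hT (hPS hy)).2
      obtain ⟨y, hy, t, ht, rfl⟩ := mem_sup_nrm hPn hx1
      have htP : t ∉ P := fun h => hx2 (P.mul_mem hy h)
      have htn : t ∈ Subgroup.normalizer (P : Set Ω) := by
        have e : t = y⁻¹ * (y * t) := by group
        rw [e]; exact Subgroup.mul_mem _ (Subgroup.inv_mem _ (Subgroup.le_normalizer hy)) hx3
      exact htP (h ▸ hext t ⟨ht, htn⟩)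
    have hgC := IH _ hlt g hg
    have hnC : n ∈ StA P (CSE F E) := by
      intro x
      have h3 := hgC x (hni.map.le_ext x.2)
      rw [hg1 x x.2, totA_apply] at h3
      exact h3
    have haC : a ∈ StA P (CSE F E) := by
      have h3 := (StA P (CSE F E)).mul_mem ((StA P (CSE F E)).inv_mem (hM m hm)) hnC
      rwa [hn, inv_mul_cancel_left] at h3
    intro x hxP
    exact haC ⟨x, hxP⟩
  exact stronglyClosed_iff.2 ⟨CSE_le.trans cen_le, fun P f hf x hx hPx => (key P f hf x hx).2 hPx⟩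

end

end Cfsg.Agent.H27.Pp
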