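import Mathlib
import Cfsg.Agent.H27_Cs4
import Cfsg.Agent.H27_Ix5

/-! The centralizer of a normal subsystem, part five: the centralizer system. -/

set_option autoImplicit false
set_option linter.all false

namespace Cfsg.Agent.H27.Pp

open Cfsg Cfsg.FusionSystem Cfsg.Agent.H27.Fus Cfsg.Agent.H27.Grp Cfsg.Agent.H27.Ix Cfsg.Agent.H27.Sc

universe u

section
variable {Ω : Type u} [Group Ω] {S T Y : Subgroup Ω} {P Q R C : Subgroup Ω} {f g : Ω → Ω} {p : ℕ}
variable {F : FusionSystem S} {E : FusionSystem T} [Fact p.Prime] [Finite S]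

/-- data: `D` of `p`-power index in the centralizer system `𝒢` of `T`, over a strongly closed `Y` -/
structure CD (F : FusionSystem S) (T Y : Subgroup Ω) (𝒢 : FusionSystem (centralizerIn S T)) (D : FusionSystem Y) (p : ℕ) : Prop where
  hT : F.StronglyClosed T
  hY : F.StronglyClosed Y
  hYT : Y ≤ centralizerIn S T
  cen : F.IsCentralizerSystem T 𝒢
  sat : D.IsSaturated p
  pix : PIx D 𝒢 p

variable {𝒢 : FusionSystem (centralizerIn S T)} {D : FusionSystem Y}

theorem CD.T_le (h : CD F T Y 𝒢 D p) : T ≤ centralizerIn S Y := fun t ht =>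
  mem_cen.2 ⟨h.hT.1 ht, fun y hy => (cn_comm (h.hYT hy) ht).symm⟩

theorem map_cenT (hG : F.IsCentralizerSystem T 𝒢) (h : Map 𝒢 P f) :
    P ≤ centralizerIn S T ∧ ∃ g, Map F (P ⊔ T) g ∧ (∀ x ∈ P, g x = f x) ∧ ∀ x ∈ T, g x = x := by
  obtain ⟨h1, -, g, hg, h2, h3⟩ := (map_of_isCentralizerSystem hG).1 h
  rw [NK_bot] at h1
  exact ⟨h1, g, hg, h2, actsIn_bot_iff.1 h3⟩

theorem cenT_map (hG : F.IsCentralizerSystem T 𝒢) (hT : F.StronglyClosed T) (hP : P ≤ centralizerIn S T) (hg : Map F R g) (hTR : T ≤ R) (hPR : P ≤ R)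
    (h2 : ∀ x ∈ T, g x = x) : Map 𝒢 P g := by
  refine (map_of_isCentralizerSystem hG).2 ⟨by rw [NK_bot]; exact hP, fun x hx => ?_, g, hg.mono (sup_le hPR hTR), fun x _ => rfl,
    actsIn_bot_iff.2 h2⟩
  rw [NK_bot]; exact map_cen_mem hT hTR hg (hPR hx) (hP hx)

theorem CD.sub (h : CD F T Y 𝒢 D p) : ∀ P f, Map D P f → Map F P f := by
  intro P f hf
  obtain ⟨-, g, hg, h1, -⟩ := map_cenT h.cen (h.pix.sub _ _ hf)
  exact (hg.mono le_sup_left).congr h1

theorem CD.pr (hS : IsPGroup p S) (hF : F.IsSaturated p) (h : CD F T Y 𝒢 D p) {a : Ω → Ω} (ha : Iso F Y Y a) : Pr a D := by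
  have hT := h.hT
  have hTS := hT.1
  have hYS := h.hY.1
  have hYT := h.hYT
  have hYfin := finite_of_le hYS
  have hTfin := finite_of_le hTS
  have hYp := hS.to_le hYS
  have haU : Iso (univFS Y) Y Y a := univT ha
  -- extend `a` to `Y T`
  have hext : Y ⊔ T ≤ ext S Y a := sup_le ha.map.le_ext (h.T_le.trans cen_le_ext)
  obtain ⟨b, hb, hb1⟩ := receptive_ext' (fn_receptive hS hF (StronglyClosed.fn h.hY)) ha hext
  have hbT : Iso F T T b := (hb.mono le_sup_right).iso_of_im_eq (StronglyClosed.im_eq hT hb le_sup_right)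
  have hbY : Iso F Y Y b := ha.congr fun x hx => (hb1 x hx).symm
  have hfYT : Finite ↥(Y ⊔ T) := finite_of_le (sup_le hYS hTS)
  have hbi : Iso F (Y ⊔ T) (Y ⊔ T) b := iso_of_card_le hb (hb.maps_sup (fun x hx => Subgroup.mem_sup_left (hbY.maps x hx))
    fun x hx => Subgroup.mem_sup_right (hbT.maps x hx)) le_rfl
  have key : ∀ P f, Map D P f → Map (conjFS a haU D) P f := by
    refine le_of_res hYp h.sat le_rfl fun P hP => ?_
    rw [opR_eq, Subgroup.closure_le]
    rintro α ⟨hα, ho⟩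
    have hPS := hP.trans hYS
    have hfinP : Finite P := finite_of_le hPS
    obtain ⟨-, k, hk, hk1, hk2⟩ := map_cenT h.cen (h.pix.sub _ _ ((mem_autGroup_iff hP).1 hα).map)
    have haP : Iso F P (im P a) a := ha.restrict hP
    set P' := im P a with hP'
    have hP'Y : P' ≤ Y := fun y hy => by
      obtain ⟨x, hx, rfl⟩ := haP.map.mem_im.1 hy
      exact ha.maps x (hP hx)
    -- the conjugate lies in `𝒢`
    have hPYT : P ≤ Y ⊔ T := hP.trans le_sup_left
    have hm1 : Map F (P' ⊔ T) (finv (Y ⊔ T) b) := hbi.symm.map.mono (sup_le_sup_right hP'Y _)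
    have hi1 : ∀ x ∈ P, finv (Y ⊔ T) b (a x) = x := fun x hx => by
      rw [← hb1 x (hP hx), hbi.finv_left (hPYT hx)]
    have hi2 : ∀ t ∈ T, finv (Y ⊔ T) b (b t) = t := fun t ht => hbi.finv_left (Subgroup.mem_sup_right ht)
    have him : ∀ t ∈ T, ∃ s ∈ T, b s = t := fun t ht => by
      have := hbT.im_eq
      rw [← this, hbT.map.mem_im] at ht; exact ht
    have hm2 : ∀ x ∈ P' ⊔ T, finv (Y ⊔ T) b x ∈ P ⊔ T := hm1.maps_sup (fun y hy => by
        obtain ⟨x, hx, rfl⟩ := haP.map.mem_im.1 hy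
        rw [hi1 x hx]; exact Subgroup.mem_sup_left hx) fun t ht => by
        obtain ⟨s, hs, rfl⟩ := him t ht
        rw [hi2 s hs]; exact Subgroup.mem_sup_right hs
    have hm3 : Map F (P' ⊔ T) (k ∘ finv (Y ⊔ T) b) := hk.comp hm1 hm2
    have hm4 : ∀ x ∈ P' ⊔ T, k (finv (Y ⊔ T) b x) ∈ Y ⊔ T := hm3.maps_sup (fun y hy => by
        obtain ⟨x, hx, rfl⟩ := haP.map.mem_im.1 hy
        show k (finv (Y ⊔ T) b (a x)) ∈ _
        rw [hi1 x hx, hk1 x hx]; exact hPYT (totA_mem hx)) fun t ht => by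
        obtain ⟨s, hs, rfl⟩ := him t ht
        show k (finv (Y ⊔ T) b (b s)) ∈ _
        rw [hi2 s hs, hk2 s hs]; exact Subgroup.mem_sup_right hs
    have hm5 : Map F (P' ⊔ T) (b ∘ (k ∘ finv (Y ⊔ T) b)) := hb.comp hm3 hm4
    have hfix : ∀ t ∈ T, (b ∘ (k ∘ finv (Y ⊔ T) b)) t = t := fun t ht => by
      obtain ⟨s, hs, rfl⟩ := him t ht
      show b (k (finv (Y ⊔ T) b (b s))) = _
      rw [hi2 s hs, hk2 s hs]
    have hG : Map 𝒢 P' (b ∘ (k ∘ finv (Y ⊔ T) b)) := cenT_map h.cen hT (hP'Y.trans hYT) hm5 le_sup_right le_sup_left hfix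
    have hval : ∀ x ∈ P, (b ∘ (k ∘ finv (Y ⊔ T) b)) (a x) = a (totA α x) := fun x hx => by
      show b (k (finv (Y ⊔ T) b (a x))) = _
      rw [hi1 x hx, hk1 x hx, hb1 _ (hP (totA_mem hx))]
    have hc : ∀ {x : Ω}, x ∈ P → totA (MulAut.congr haP.equiv α) (a x) = a (totA α x) := fun hx => congr_tot haP α hx
    have hmemG : MulAut.congr haP.equiv α ∈ 𝒢.autGroup P' := by
      refine mem_autGroup_of hG fun y => ?_
      obtain ⟨x, hx⟩ := haP.equiv.surjective y
      have e2 : a x = (y : Ω) := by rw [← hx]; rfl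
      rw [← e2, hval x x.2, ← hc x.2, e2, totA_apply]
    have hoG : (orderOf (MulAut.congr haP.equiv α)).Coprime p := by
      have : orderOf (MulAut.congr haP.equiv α) = orderOf α := MulEquiv.orderOf_eq _ _
      rw [this]; exact ho
    have hD : MulAut.congr haP.equiv α ∈ D.autGroup P' := h.pix.aut P' hP'Y (mem_opR_of hmemG hoG)
    have hDm := ((mem_autGroup_iff hP'Y).1 hD).map
    refine mem_autGroup_of (f := totA α) (map_conjFS.2 ⟨hP, fun x hx => hP (totA_mem hx), _, hDm, fun x hx => hc hx⟩) fun x => (totA_apply α x).symm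
  intro P f hf
  exact (map_conjFS.1 (key P f hf)).2.2

theorem CD.frat (hS : IsPGroup p S) (hF : F.IsSaturated p) (h : CD F T Y 𝒢 D p) (hG : 𝒢.IsSaturated p) (hP : P ≤ Y) (hf : Map F P f) :
    Frat D F P f := by
  have hT := h.hT
  have hTS := hT.1
  have hYS := h.hY.1
  have hYT := h.hYT
  have hYfin := finite_of_le hYS
  have hTfin := finite_of_le hTS
  have hGp := hS.to_le (cen_le (S := S) (P := T))
  have hGfin : Finite (centralizerIn S T) := finite_of_le cen_le
  have core : ∀ (P Q : Subgroup Ω) (f : Ω → Ω), P ≤ Y → Iso F P Q f → F.IsFullyCentralized Q → Frat D F P f := by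
    intro P Q f hP hf hQ
    have hPT : T ≤ centralizerIn S P := fun t ht => mem_cen.2 ⟨hTS ht, fun y hy => (cn_comm (hYT (hP hy)) ht).symm⟩
    obtain ⟨k, hk, hk1⟩ := receptive_ext' (fc_receptive hS hF hQ) hf (N := P ⊔ T) (sup_le hf.map.le_ext (hPT.trans cen_le_ext))
    have hkT : Iso F T T k := (hk.mono le_sup_right).iso_of_im_eq (StronglyClosed.im_eq hT hk le_sup_right)
    obtain ⟨b, hb, hb1, hb2, hb3⟩ := exists_hat hS hF hT hkT
    have hQY : Q ≤ Y := fun y hy => by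
      rw [← hf.im_eq, hf.map.mem_im] at hy
      obtain ⟨x, hx, rfl⟩ := hy
      exact (StronglyClosed.mem_iff h.hY hf.map hx).2 (hP hx)
    have hkm : ∀ x ∈ P ⊔ T, k x ∈ PC S T T := hk.maps_sup (fun x hx => by
      rw [hk1 x hx]; exact Subgroup.mem_sup_right (hYT (hQY (hf.maps x hx)))) fun x hx => Subgroup.mem_sup_left (hkT.maps x hx)
    have hg : Map F (P ⊔ T) (finv (PC S T T) b ∘ k) := hb.symm.map.comp hk hkm
    have hgT : ∀ t ∈ T, (finv (PC S T T) b ∘ k) t = t := fun t ht => by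
      show finv (PC S T T) b (k t) = t
      rw [← hb1 t ht, hb.finv_left (Subgroup.mem_sup_left ht)]
    have hgG : Map 𝒢 P (finv (PC S T T) b ∘ k) := cenT_map h.cen hT (hP.trans hYT) hg le_sup_right le_sup_left hgT
    have hYn : ∀ s ∈ centralizerIn S T, ∀ t ∈ Y, s * t * s⁻¹ ∈ Y := fun s hs t ht => StronglyClosed.conj_mem h.hY hs.1 ht
    obtain ⟨s, hs, g, hgD, hg1⟩ := h.pix.frattini hGp hG h.sat hYn P _ hgG
    have hPY : P ⊓ Y = P := inf_eq_left.2 hP
    rw [hPY] at hgD hg1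
    have hYPC : Y ≤ PC S T T := hYT.trans le_sup_right
    have hbY : Iso F Y Y b := (hb.map.mono hYPC).iso_of_im_eq (StronglyClosed.im_eq h.hY hb.map hYPC)
    have hcs : Iso F Y Y (fun x => s * x * s⁻¹) := (map_conj F hYS hs.1).iso_of_im_eq
      (StronglyClosed.im_eq h.hY (map_conj F hYS hs.1) le_rfl)
    refine ⟨_, g, hcs.trans hbY, hgD, fun x hx => ?_⟩
    show f x = b (s * g x * s⁻¹)
    rw [← hg1 x hx]
    show f x = b (finv (PC S T T) b (k x))
    rw [hb.finv_right (hkm x (Subgroup.mem_sup_left hx)), hk1 x hx]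
  -- general case
  have hinv : ∀ P f a, Map D P f → Iso F Y Y a → ∃ g, Map D (im P a) g ∧ ∀ x ∈ P, g (a x) = a (f x) := fun P f a hf ha =>
    h.pr hS hF ha P f hf
  have hfi := hf.iso
  obtain ⟨Q', hQ, hQ'⟩ := exists_fullyCentralized F hfi.le'
  obtain ⟨g, hg⟩ := isConj_iff.1 hQ
  have himY : im P f ≤ Y := fun y hy => by
    obtain ⟨x, hx, rfl⟩ := hf.mem_im.1 hy
    exact (StronglyClosed.mem_iff h.hY hf hx).2 (hP hx)
  have h1 := core _ _ _ hP (hfi.trans hg) hQ'
  have h2 := core _ _ _ himY hg hQ'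
  have h3 := h2.inv h.sub hinv
  have h4 := h3.comp hinv h1 fun x hx => by
    exact (hg.restrict le_rfl).map.apply_mem_im (hf.apply_mem_im hx)
  exact h4.congr fun x hx => hg.finv_left (hf.apply_mem_im hx)

theorem CD.gda (hS : IsPGroup p S) (hF : F.IsSaturated p) (h : CD F T Y 𝒢 D p) : D.autGroup Y ≤ GdA F Y := by
  have hT := h.hT
  have hTS := hT.1
  have hYS := h.hY.1
  have hYT := h.hYT
  have hYfin := finite_of_le hYS
  have hTfin := finite_of_le hTS
  have hYp := hS.to_le hYS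
  have hTY := h.T_le
  set R := Y ⊔ centralizerIn S Y with hR
  have hRS : R ≤ S := sup_le hYS cen_le
  have hRfin : Finite R := finite_of_le hRS
  have hTR : T ≤ R := hTY.trans le_sup_right
  refine aut_le_of_res hYp h.sat (fn_top D) ?_ fun α hα => ?_
  · rw [opR_eq, Subgroup.closure_le]
    rintro α ⟨hα, ho⟩
    obtain ⟨-, k, hk, hk1, hk2⟩ := map_cenT h.cen (h.pix.sub _ _ ((mem_autGroup_iff le_rfl).1 hα).map)
    have hYTS : Y ⊔ T ≤ S := sup_le hYS hTS
    have hYTfin : Finite ↥(Y ⊔ T) := finite_of_le hYTS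
    have hki : Iso F (Y ⊔ T) (Y ⊔ T) k := iso_of_card_le hk (hk.maps_sup (fun x hx => by
      rw [hk1 x hx]; exact Subgroup.mem_sup_left (totA_mem hx)) fun x hx => by rw [hk2 x hx]; exact Subgroup.mem_sup_right hx) le_rfl
    have hn : ∀ s ∈ S, s ∈ normalizerIn S (Y ⊔ T) := by
      intro s hs
      refine mem_nrm_of_forall hYTS hs fun y hy => ?_
      exact (map_conj F hYTS hs).maps_sup (fun y hy => Subgroup.mem_sup_left (StronglyClosed.conj_mem h.hY hs hy))
        (fun y hy => Subgroup.mem_sup_right (StronglyClosed.conj_mem hT hs hy)) y hy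
    have hfn : F.IsFullyNormalized (Y ⊔ T) := ⟨hYTS, fun Q hQ => by
      have : Finite (normalizerIn S (Y ⊔ T)) := fin_nrm
      exact card_le_of_le (nrm_le.trans hn)⟩
    have hext : R ≤ ext S (Y ⊔ T) k := by
      refine sup_le (le_sup_left.trans hk.le_ext) fun s hs => mem_ext.2 ⟨hs.1, (hn s hs.1).2, s, hs.1, fun x hx => ?_⟩
      have h1 : Map F (Y ⊔ T) (k ∘ fun x => s * x * s⁻¹) := hk.comp (map_conj F hYTS hs.1) fun y hy => nrm_conj_mem (hn s hs.1) hy
      have h2 : Map F (Y ⊔ T) ((fun x => s * x * s⁻¹) ∘ k) := (map_conj F hYTS hs.1).comp hk hki.maps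
      refine h1.eq_on_sup h2 (fun y hy => ?_) (fun t ht => ?_) x hx
      · show k (s * y * s⁻¹) = s * k y * s⁻¹
        rw [cen_conj hs hy, hk1 y hy, cen_conj hs (totA_mem hy)]
      · show k (s * t * s⁻¹) = s * k t * s⁻¹
        rw [hk2 _ (StronglyClosed.conj_mem hT hs.1 ht), hk2 t ht]
    obtain ⟨b, hb, hb1⟩ := receptive_ext' (fn_receptive hS hF hfn) hki hext
    have hbY : ∀ y ∈ Y, b y = totA α y := fun y hy => by rw [hb1 y (Subgroup.mem_sup_left hy), hk1 y hy]
    have hbT : ∀ t ∈ T, b t = t := fun y hy => by rw [hb1 y (Subgroup.mem_sup_right hy), hk2 y hy]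
    have hbYi : Iso F Y Y b := iso_of_card_le (hb.mono le_sup_left) (fun y hy => by rw [hbY y hy]; exact totA_mem hy) le_rfl
    have hbi : Iso F R R b := iso_of_card_le hb (hb.maps_sup (fun x hx => Subgroup.mem_sup_left (hbYi.maps x hx))
      fun c hc => Subgroup.mem_sup_right (hb.cen_mem' hbYi le_sup_left (Subgroup.mem_sup_right hc) hc)) le_rfl
    set β := hbi.aut with hβ
    have hfinM : Finite (MulAut R) := Finite.of_injective (fun α : MulAut R => (α : R → R)) DFunLike.coe_injective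
    obtain ⟨j, hj1, hj2⟩ := coprime_pow (Fact.out : p.Prime) (orderOf_pos β) ho
    have hαj : α ^ j = α := by
      conv_rhs => rw [← pow_one α]
      exact pow_eq_pow_iff_modEq.2 hj1
    have hpow : ∀ (n : ℕ) x (hx : x ∈ Y), (((β ^ n) ⟨x, Subgroup.mem_sup_left hx⟩ : R) : Ω) = (α ^ n) ⟨x, hx⟩ := by
      intro n
      induction n with
      | zero => intro x hx; rfl
      | succ n ih =>
        intro x hx
        rw [pow_succ', pow_succ', MulAut.mul_apply, MulAut.mul_apply]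
        have h2 : (β ^ n) ⟨x, Subgroup.mem_sup_left hx⟩ = ⟨((α ^ n) ⟨x, hx⟩ : Y), Subgroup.mem_sup_left (Subtype.property _)⟩ := Subtype.ext (ih x hx)
        rw [h2]
        show b _ = _
        rw [hbY _ (Subtype.property _), totA_apply]
    have hpowT : ∀ (n : ℕ) x (hx : x ∈ T), (((β ^ n) ⟨x, hTR hx⟩ : R) : Ω) = x := by
      intro n
      induction n with
      | zero => intro x hx; rfl
      | succ n ih =>
        intro x hx
        rw [pow_succ', MulAut.mul_apply]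
        have h2 : (β ^ n) ⟨x, hTR hx⟩ = ⟨x, hTR hx⟩ := Subtype.ext (ih x hx)
        rw [h2]
        exact hbT x hx
    set γ := β ^ j with hγ
    have hγF : γ ∈ F.autGroup R := (F.autGroup R).pow_mem hbi.aut_mem j
    have hγi := (mem_autGroup_iff hRS).1 hγF
    have hγT : ∀ t ∈ T, totA γ t = t := fun t ht => by rw [totA_of_mem _ (hTR ht)]; exact hpowT j t ht
    have hstep : ∀ x : R, (x : Ω)⁻¹ * (γ x : R) ∈ Y := by
      refine coprime_step (exists_pow_card (hS.to_le hRS)) hj2 (R := centralizerIn S T) (H := Y)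
        (fun t ht y hy => StronglyClosed.conj_mem h.hY ht.1 hy) (fun x => ?_) fun x hx => ?_
      · refine mem_cen.2 ⟨S.mul_mem (S.inv_mem (hRS x.2)) (hRS (γ x).2), fun t ht => ?_⟩
        have h1 : (x : Ω) * t * (x : Ω)⁻¹ ∈ T := StronglyClosed.conj_mem hT (hRS x.2) ht
        have h2 := hγT _ h1
        rw [hγi.map.mul (R.mul_mem x.2 (hTR ht)) (R.inv_mem x.2), hγi.map.mul x.2 (hTR ht), hγi.map.inv x.2, hγT t ht, totA_apply] at h2
        have e : t * ((x : Ω)⁻¹ * (γ x : R)) = (x : Ω)⁻¹ * (x * t * (x : Ω)⁻¹) * (γ x : R) := by group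
        rw [e, ← h2]; group
      · set R₁ := R ⊓ centralizerIn S T with hR₁
        have hR₁fin : Finite R₁ := finite_of_le (inf_le_left : R ⊓ centralizerIn S T ≤ R)
        have hm : Map F R₁ (totA γ) := hγi.map.mono inf_le_left
        have hmaps : ∀ y ∈ R₁, totA γ y ∈ R₁ := fun y hy => ⟨totA_mem hy.1, map_cen_mem hT hTR hγi.map hy.1 hy.2⟩
        have hi : Iso F R₁ R₁ (totA γ) := iso_of_card_le hm hmaps le_rfl
        have hG : Map 𝒢 R₁ (totA γ) := cenT_map h.cen hT inf_le_right hγi.map hTR inf_le_left hγT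
        have hGi : Iso 𝒢 R₁ R₁ (totA γ) := hG.iso_of_im_eq hi.im_eq
        have hpow1 : ∀ (n : ℕ) (x : R₁), (((hGi.aut ^ n) x : R₁) : Ω) = (γ ^ n) ⟨x, x.2.1⟩ := by
          intro n
          induction n with
          | zero => intro x; rfl
          | succ n ih =>
            intro x
            rw [pow_succ', pow_succ', MulAut.mul_apply, MulAut.mul_apply]
            show totA γ ((hGi.aut ^ n) x : R₁) = _
            rw [ih, totA_apply]
        have ho' : (orderOf hGi.aut).Coprime p := by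
          refine Nat.Coprime.coprime_dvd_left (orderOf_dvd_of_pow_eq_one ?_) hj2
          ext x
          rw [hpow1, pow_orderOf_eq_one]; rfl
        have h1 := h.pix.hyp (mem_hyp (F := 𝒢) inf_le_right (mem_opR_of hGi.aut_mem ho') ⟨x, x.2, hx⟩)
        have h2 : ((hGi.aut ⟨x, x.2, hx⟩ : R₁) : Ω) = γ x := totA_apply γ x
        rw [h2] at h1
        exact h1
    refine (mem_GdA hYS).2 ⟨totA γ, hγi.map, fun x => ?_, fun x hx => ?_⟩
    · rw [totA_of_mem _ (Subgroup.mem_sup_left x.2)]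
      have := hpow j x x.2
      rw [hαj] at this
      exact this
    · rw [totA_of_mem _ hx]; exact hstep ⟨x, hx⟩
  · obtain ⟨y, hy, h1⟩ := mem_autInducedBy.1 hα
    refine (mem_GdA hYS).2 ⟨fun x => y * x * y⁻¹, map_conj F hRS (hYS hy), fun x => (h1 x).symm, fun x hx => ?_⟩
    have h2 : x⁻¹ * y * x⁻¹⁻¹ ∈ Y := StronglyClosed.conj_mem h.hY (S.inv_mem (hRS hx)) hy
    have e : x⁻¹ * (y * x * y⁻¹) = x⁻¹ * y * x⁻¹⁻¹ * y⁻¹ := by group
    rw [e]; exact Y.mul_mem h2 (Y.inv_mem hy)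

theorem CD.normal (hS : IsPGroup p S) (hF : F.IsSaturated p) (h : CD F T Y 𝒢 D p) (hG : 𝒢.IsSaturated p) : D.IsNormalIn F p := by
  have hYS := h.hY.1
  have hYfin := finite_of_le hYS
  refine normalIn_iff.2 ⟨h.sat, hF, ⟨h.sub, h.hY, fun P f a hf ha => h.pr hS hF ha P f hf, fun P f hP hf => h.frat hS hF hG hP hf⟩, fun a ha => ?_⟩
  obtain ⟨b, hb, h1, h2⟩ := (mem_GdA hYS).1 (h.gda hS hF ha.aut_mem)
  have hRfin : Finite ↥(Y ⊔ centralizerIn S Y) := finite_of_le (sup_le hYS cen_le)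
  have haF : Iso F Y Y a := (h.sub _ _ ha.map).iso_of_im_eq ha.im_eq
  have hbY : Iso F Y Y b := haF.congr fun x hx => (h1 ⟨x, hx⟩).symm
  have hbi : Iso F (Y ⊔ centralizerIn S Y) (Y ⊔ centralizerIn S Y) b := iso_of_card_le hb (hb.maps_sup (fun x hx => Subgroup.mem_sup_left (hbY.maps x hx))
      fun c hc => Subgroup.mem_sup_right (hb.cen_mem' hbY le_sup_left (Subgroup.mem_sup_right hc) hc)) le_rfl
  refine ⟨b, hbi, fun x hx => h1 ⟨x, hx⟩, fun c hc => ⟨h2 c (Subgroup.mem_sup_right hc), ?_⟩⟩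
  have h3 := hb.cen_mem' hbY le_sup_left (Subgroup.mem_sup_right hc) hc
  exact ((centralizerIn S Y).mul_mem ((centralizerIn S Y).inv_mem hc) h3).2

end

end Cfsg.Agent.H27.Pp
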