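import Mathlib
import Cfsg.Prelude.Def_TwoFusion
import Cfsg.Agent.H27_S4g
import Cfsg.Agent.H27_FusInv3
import Cfsg.Agent.H27_Model2
import Cfsg.Agent.S5097

/-! direct products of strongly closed subgroups -/

set_option autoImplicit false
set_option linter.unusedVariables false
set_option linter.unusedSectionVars false

namespace Cfsg.Agent.H27.Fus
open Cfsg Cfsg.FusionSystem Cfsg.Agent.H27.Grp

section
variable {Ω : Type*} [Group Ω] {S T : Subgroup Ω} {F : FusionSystem S} {P Q R : Subgroup Ω} {f g : Ω → Ω} {p : ℕ}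
  [Fact p.Prime] [Finite S]

/-- the full subsystem over a strongly closed subgroup `T` with `S = T C_S(T)` is saturated -/
theorem full_sat (hF : F.IsSaturated p) (hT : F.StronglyClosed T)
    (hgen : ∀ s ∈ S, ∃ t ∈ T, ∀ x ∈ T, s * x * s⁻¹ = t * x * t⁻¹) {R : FusionSystem T}
    (hR : ∀ P f, P ≤ T → (Map R P f ↔ Map F P f)) : R.IsSaturated p := by
  have hTS := hT.1
  have hTm := (stronglyClosed_iff.1 hT).2
  intro P hP
  obtain ⟨Q, hPQ, hQa, hQr⟩ := hF P (hP.trans hTS)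
  obtain ⟨f, hf⟩ := isConj_iff.1 hPQ
  have hQT : Q ≤ T := by
    rw [← hf.im_eq]
    exact (im_le_iff hf.map).2 fun x hx => hTm _ _ hf.map x hx (hP hx)
  have hiso : ∀ {A B : Subgroup Ω} {h : Ω → Ω}, A ≤ T → (Iso R A B h ↔ Iso F A B h) := by
    intro A B h hA
    constructor
    · intro hi; exact ((hR A h hA).1 hi.map).iso_of_im_eq hi.im_eq
    · intro hi; exact ((hR A h hA).2 hi.map).iso_of_im_eq hi.im_eq
  refine ⟨Q, isConj_iff.2 ⟨f, (hiso hP).2 hf⟩, ?_, ?_⟩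
  · -- fully automized
    have h1 : R.autGroup Q = F.autGroup Q := by
      ext α
      rw [mem_autGroup_iff hQT, mem_autGroup_iff (hQT.trans hTS), hiso hQT]
    have h2 : autInducedBy T Q = autInducedBy S Q := by
      refine le_antisymm (autInducedBy_mono hTS) fun α hα => ?_
      obtain ⟨s, hs, h⟩ := mem_autInducedBy.1 hα
      obtain ⟨t, ht, h'⟩ := hgen s hs
      exact mem_autInducedBy.2 ⟨t, ht, fun x => (h x).trans (h' x (hQT x.2))⟩
    unfold IsFullyAutomized at hQa ⊢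
    rw [h1, h2]
    exact ⟨hQT, hQa.2⟩
  · rw [isReceptive_iff] at hQr ⊢
    refine ⟨hQT, fun A h hh => ?_⟩
    have hAT : A ≤ T := hh.le
    obtain ⟨g, hg, hgh⟩ := hQr.2 A h ((hiso hAT).1 hh)
    have h3 : ext T A h ≤ ext S A h := by
      intro x hx
      obtain ⟨h4, h5⟩ := mem_ext.1 hx
      refine mem_ext.2 ⟨hTS h4, ?_⟩
      obtain ⟨h6, y, hy, h7⟩ := h5
      exact ⟨h6, y, hTS hy, h7⟩
    exact ⟨g, (hR _ _ ext_le).2 (hg.mono h3), hgh⟩

/-- an isomorphism `Q → Q'` extends over a strongly closed subgroup centralizing both -/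
theorem extCen (hS : IsPGroup p S) (hF : F.IsSaturated p) {C : Subgroup Ω} (hC : F.StronglyClosed C)
    (hh : Map F Q f) (h1 : ∀ x ∈ Q, ∀ c ∈ C, x * c = c * x) (h2 : ∀ x ∈ im Q f, ∀ c ∈ C, x * c = c * x) :
    ∃ w, Map F (Q ⊔ C) w ∧ ∀ x ∈ Q, w x = f x := by
  obtain ⟨Q₀, hQ, hfn⟩ := exists_fullyNormalized F hh.le
  obtain ⟨u, hu⟩ := isConj_iff.1 hQ
  have hr := fn_receptive hS hF hfn
  have hi := hh.iso
  have hv := hi.symm.trans hu
  have hcen : ∀ {A : Subgroup Ω}, (∀ x ∈ A, ∀ c ∈ C, x * c = c * x) → C ≤ centralizerIn S A := fun h c hc =>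
    mem_cen.2 ⟨hC.1 hc, fun x hx => h x hx c hc⟩
  obtain ⟨u', hu', hu1⟩ := receptive_ext' hr hu (sup_le hu.map.le_ext ((hcen h1).trans cen_le_ext))
  obtain ⟨v', hv', hv1⟩ := receptive_ext' hr hv (sup_le hv.map.le_ext ((hcen h2).trans cen_le_ext))
  have iu : Iso F (Q ⊔ C) (Q₀ ⊔ C) u' := hu'.iso_of_im_eq (by
    rw [hu'.im_sup, im_congr hu1, hu.im_eq, StronglyClosed.im_eq hC hu' le_sup_right])
  have iv : Iso F (im Q f ⊔ C) (Q₀ ⊔ C) v' := hv'.iso_of_im_eq (by
    rw [hv'.im_sup, im_congr hv1, hv.im_eq, StronglyClosed.im_eq hC hv' le_sup_right])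
  refine ⟨_, (iu.trans iv.symm).map, fun x hx => ?_⟩
  have hfx : f x ∈ im Q f ⊔ C := Subgroup.mem_sup_left (hh.apply_mem_im hx)
  show finv _ v' (u' x) = f x
  have h3 : v' (f x) = u' x := by
    rw [hv1 _ (hh.apply_mem_im hx), hu1 x hx]
    show u (finv Q f (f x)) = u x
    rw [hi.finv_left hx]
  rw [← h3, iv.finv_left hfx]

end

section
variable {Ω : Type*} [Group Ω] {S S₁ S₂ : Subgroup Ω} {F : FusionSystem S} {p : ℕ}
  [Fact p.Prime] [Finite S]

theorem dp_main (hS : IsPGroup p S) (hF : F.IsSaturated p) (hprod : Cfsg.IsInternalDirectProduct S₁ S₂ S)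
    (h₁ : F.StronglyClosed S₁) (h₂ : F.StronglyClosed S₂) (R R' : FusionSystem S₁)
    (hR : ∀ P : Subgroup Ω, P ≤ S₁ → R.Hom P = F.Hom P)
    (hR' : ∀ P : Subgroup Ω, P ≤ S₁ → R'.Hom P = F.centralizerHom S₂ P) :
    R.IsSaturated p ∧ R'.IsSaturated p ∧ R'.IsNormalIn F p ∧ R'.IsNormalIn R p ∧ R.IsWeaklyNormalIn F p := by
  obtain ⟨hS1, hS2, hcomm, hbot, htop⟩ := hprod
  have hgen : ∀ s ∈ S, ∃ t ∈ S₁, ∃ c ∈ S₂, s = t * c := by
    intro s hs
    rw [← htop] at hs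
    have hn : S₁ ≤ Subgroup.normalizer (S₂ : Set Ω) := fun a ha => by
      rw [Subgroup.mem_normalizer_iff]
      intro x
      constructor
      · intro hx; rw [hcomm a ha x hx, mul_inv_cancel_right]; exact hx
      · intro hx
        have h1 := hcomm a⁻¹ (S₁.inv_mem ha) _ hx
        have h2 : x = a⁻¹ * (a * x * a⁻¹) * a := by group
        rw [h2, h1, inv_mul_cancel_right]; exact hx
    obtain ⟨a, ha, b, hb, hab⟩ := mem_sup_nrm hn hs
    exact ⟨a, ha, b, hb, hab.symm⟩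
  have hgen' : ∀ s ∈ S, ∃ t ∈ S₁, ∀ x ∈ S₁, s * x * s⁻¹ = t * x * t⁻¹ := by
    intro s hs
    obtain ⟨t, ht, c, hc, rfl⟩ := hgen s hs
    refine ⟨t, ht, fun x hx => ?_⟩
    have h1 := hcomm x hx c hc
    calc t * c * x * (t * c)⁻¹ = t * (c * x) * c⁻¹ * t⁻¹ := by group
      _ = t * (x * c) * c⁻¹ * t⁻¹ := by rw [h1]
      _ = t * x * t⁻¹ := by group
  have hRm : ∀ P f, P ≤ S₁ → (Map R P f ↔ Map F P f) := fun P f hP =>
    ⟨fun h => map_of_le (hR P hP).le h, fun h => map_of_le (hR P hP).ge h⟩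
  have hRs : R.IsSaturated p := full_sat hF h₁ hgen' hRm
  -- the centralizer system
  obtain ⟨C, hC⟩ := Cfsg.Agent.S5097.result F S₂ hS2
  have hfn2 : F.IsFullyNormalized S₂ := by
    have h3 : normalizerIn S S₂ = S := le_antisymm nrm_le (StronglyClosed.le_normalizer h₂)
    refine ⟨hS2, fun Q _ => ?_⟩
    rw [h3]; exact card_le_of_le nrm_le
  have hCs : C.IsSaturated p := centralizerSystem_saturated hS hF (fn_fc hS hF hfn2) hC
  have hCS : centralizerIn S S₂ ≤ S := cen_le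
  haveI : Finite (centralizerIn S S₂) := finite_of_le hCS
  have hS1C : S₁ ≤ centralizerIn S S₂ := fun x hx => mem_cen.2 ⟨hS1 hx, fun y hy => (hcomm x hx y hy).symm⟩
  have hCF : ∀ P f, Map C P f → Map F P f := by
    intro P f hf
    obtain ⟨-, -, g, hg, hgf, -⟩ := (csys_map hC).1 hf
    exact (hg.mono le_sup_left).congr hgf
  have hC1 : C.StronglyClosed S₁ := by
    rw [stronglyClosed_iff]
    exact ⟨hS1C, fun P f hf x hx hx1 => (stronglyClosed_iff.1 h₁).2 P f (hCF P f hf) x hx hx1⟩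
  have hR'm : ∀ P f, P ≤ S₁ → (Map R' P f ↔ Map C P f) := fun P f hP =>
    ⟨fun h => map_of_le ((hR' P hP).trans (hC P).symm).le h, fun h => map_of_le ((hR' P hP).trans (hC P).symm).ge h⟩
  have hR's : R'.IsSaturated p := full_sat hCs hC1 (fun s hs => hgen' s (hCS hs)) hR'm
  haveI : Finite S₁ := finite_of_le hS1
  have hS1p : IsPGroup p S₁ := hS.to_le hS1
  have hR'F : ∀ P f, Map R' P f → Map F P f := fun P f hf => hCF P f ((hR'm P f hf.le).1 hf)
  have hR'R : ∀ P f, Map R' P f → Map R P f := fun P f hf => (hRm P f hf.le).2 (hR'F P f hf)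
  have hRF : ∀ P f, Map R P f → Map F P f := fun P f hf => (hRm P f hf.le).1 hf
  have himS1 : ∀ P f, P ≤ S₁ → Map F P f → im P f ≤ S₁ := fun P f hP hf =>
    (im_le_iff hf).2 fun x hx => (stronglyClosed_iff.1 h₁).2 P f hf x hx (hP hx)
  -- criterion for `R'`
  have hcrit : ∀ P f g, P ≤ S₁ → Map F (P ⊔ S₂) g → (∀ x ∈ P, g x = f x) → (∀ x ∈ S₂, g x = x) → Map R' P f := by
    intro P f g hP hg h1 h2
    refine (hR'm P f hP).2 ((csys_map hC).2 ⟨hP.trans hS1C, fun x hx => ?_, g, hg, h1, h2⟩)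
    have h3 : f x ∈ S₁ := by
      rw [← h1 x hx]
      exact (stronglyClosed_iff.1 h₁).2 _ _ hg x (Subgroup.mem_sup_left hx) (hP hx)
    exact hS1C h3
  have hsinv : SInv R' F := by
    intro P Q f h hPQ hQ hf hfQ hh
    obtain ⟨-, -, f', hf', hf1, hf2⟩ := (csys_map hC).1 ((hR'm P f hf.le).1 hf)
    obtain ⟨w, hw, hw1⟩ := extCen hS hF h₂ hh (fun x hx c hc => hcomm x (hQ hx) c hc)
      (fun x hx c hc => hcomm x (himS1 Q h hQ hh hx) c hc)
    have hle : P ⊔ S₂ ≤ Q ⊔ S₂ := sup_le_sup_right hPQ _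
    have hwi := (hw.mono hle).iso
    have hw2 : ∀ x ∈ S₂, w x ∈ S₂ := fun x hx => (stronglyClosed_iff.1 h₂).2 _ _ hw x (Subgroup.mem_sup_right hx) hx
    have e : im (P ⊔ S₂) w = im P h ⊔ S₂ := by
      rw [(hw.mono hle).im_sup, im_congr (fun x hx => hw1 x (hPQ hx)), StronglyClosed.im_eq h₂ (hw.mono hle) le_sup_right]
    have hf'm : ∀ x ∈ P ⊔ S₂, f' x ∈ Q ⊔ S₂ := hf'.maps_sup
      (fun x hx => by rw [hf1 x hx]; exact Subgroup.mem_sup_left (hfQ x hx))
      (fun x hx => by rw [hf2 x hx]; exact Subgroup.mem_sup_right hx)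
    have hg := (hw.comp hf' hf'm).comp hwi.symm.map (fun x hx => hwi.finv_mem hx)
    rw [e] at hg
    refine ⟨_, hcrit (im P h) _ _ (himS1 P h (hPQ.trans hQ) (hh.mono hPQ)) hg (fun x hx => rfl) ?_, ?_⟩
    · intro x hx
      have hx' : x ∈ im (P ⊔ S₂) w := by rw [e]; exact Subgroup.mem_sup_right hx
      have h3 := hwi.finv_mem hx'
      have h4 := hwi.finv_right hx'
      have h5 : finv (P ⊔ S₂) w x ∈ S₂ := by
        refine (StronglyClosed.mem_iff h₂ hwi.map h3).1 ?_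
        rw [h4]; exact hx
      show w (f' (finv (P ⊔ S₂) w x)) = x
      rw [hf2 _ h5, h4]
    · intro x hx
      have h3 : h x = w x := (hw1 x (hPQ hx)).symm
      show w (f' (finv (P ⊔ S₂) w (h x))) = h (f x)
      rw [h3, hwi.finv_left (Subgroup.mem_sup_left hx), hf1 x hx, hw1 _ (hfQ x hx)]
  have hsinvR : SInv R' R := by
    intro P Q f h hPQ hQ hf hfQ hh
    exact hsinv P Q f h hPQ hQ hf hfQ (hRF Q h hh)
  have hsinvRF : SInv R F := by
    intro P Q f h hPQ hQ hf hfQ hh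
    have hi := (hh.mono hPQ).iso
    have hg := (hh.comp (hRF P f hf) hfQ).comp hi.symm.map (fun x hx => hi.finv_mem hx)
    refine ⟨_, (hRm _ _ (himS1 P h (hPQ.trans hQ) (hh.mono hPQ))).2 hg, fun x hx => ?_⟩
    show h (f (finv P h (h x))) = h (f x)
    rw [hi.finv_left hx]
  have hinvF : Inv R' F := inv_of_sinv hS hF hR'F h₁ hsinv
  have hinvR : Inv R' R := inv_of_sinv hS1p hRs hR'R (strongly_top R) hsinvR
  have hinvRF : Inv R F := inv_of_sinv hS hF hRF h₁ hsinvRF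
  refine ⟨hRs, hR's, normalIn_iff.2 ⟨hR's, hF, hinvF, ?_⟩, normalIn_iff.2 ⟨hR's, hRs, hinvR, ?_⟩, hRs, hF, inv_iff.2 hinvRF⟩
  · intro a ha
    obtain ⟨-, -, b, hb, hb1, hb2⟩ := (csys_map hC).1 ((hR'm S₁ a le_rfl).1 ha.map)
    have e1 : S₁ ⊔ centralizerIn S S₁ = S := by
      have e2 : S₂ ≤ centralizerIn S S₁ := fun x hx => mem_cen.2 ⟨hS2 hx, fun y hy => hcomm y hy x hx⟩
      exact le_antisymm (sup_le hS1 cen_le) (htop.ge.trans (sup_le_sup_left e2 _))
    rw [e1]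
    rw [htop] at hb
    have hbi : Iso F S S b := by
      refine hb.iso_of_im_eq (Subgroup.eq_of_le_of_card_ge hb.im_le ?_)
      rw [hb.card_im]
    refine ⟨b, hbi, hb1, fun c hc => ?_⟩
    obtain ⟨t, ht, s, hs, rfl⟩ := hgen c (mem_cen.1 hc).1
    have htZ : ∀ y ∈ S₁, y * t = t * y := by
      intro y hy
      have h3 := (mem_cen.1 hc).2 y hy
      have h4 := hcomm y hy s hs
      have h5 : y * t * s = t * y * s := by
        calc y * t * s = y * (t * s) := by group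
          _ = t * s * y := h3
          _ = t * (s * y) := by group
          _ = t * (y * s) := by rw [h4]
          _ = t * y * s := by group
      exact mul_right_cancel h5
    have hbt : b t = a t := hb1 t ht
    have hat : a t ∈ S₁ := ha.im_eq ▸ ha.map.apply_mem_im ht
    have haZ : ∀ y ∈ S₁, y * a t = a t * y := by
      intro y hy
      have h3 := ha.finv_mem hy
      have h4 := ha.finv_right hy
      have h5 := congrArg a (htZ _ h3)
      rw [ha.map.mul h3 ht, ha.map.mul ht h3, h4] at h5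
      exact h5
    have h6 : (t * s)⁻¹ * b (t * s) = t⁻¹ * a t := by
      rw [hb.mul (hS1 ht) (hS2 hs), hbt, hb2 s hs]
      have h7 := hcomm (t⁻¹ * a t) (S₁.mul_mem (S₁.inv_mem ht) hat) s hs
      calc (t * s)⁻¹ * (a t * s) = s⁻¹ * ((t⁻¹ * a t) * s) := by group
        _ = s⁻¹ * (s * (t⁻¹ * a t)) := by rw [h7]
        _ = _ := by group
    rw [h6]
    refine ⟨S₁.mul_mem (S₁.inv_mem ht) hat, ?_⟩
    refine Subgroup.mul_mem _ (Subgroup.inv_mem _ ?_) ?_
    · exact Subgroup.mem_centralizer_iff.2 fun y hy => htZ y hy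
    · exact Subgroup.mem_centralizer_iff.2 fun y hy => haZ y hy
  · intro a ha
    have e1 : S₁ ⊔ centralizerIn S₁ S₁ = S₁ := le_antisymm (sup_le le_rfl cen_le) le_sup_left
    rw [e1]
    refine ⟨a, ((hR'R _ _ ha.map).iso_of_im_eq ha.im_eq), fun _ _ => rfl, fun t ht => ?_⟩
    have htS := (mem_cen.1 ht).1
    have hat : a t ∈ S₁ := ha.im_eq ▸ ha.map.apply_mem_im htS
    refine ⟨S₁.mul_mem (S₁.inv_mem htS) hat, ?_⟩
    refine Subgroup.mul_mem _ (Subgroup.inv_mem _ ?_) ?_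
    · exact Subgroup.mem_centralizer_iff.2 fun y hy => (mem_cen.1 ht).2 y hy
    · refine Subgroup.mem_centralizer_iff.2 fun y hy => ?_
      have h3 := ha.finv_mem hy
      have h4 := ha.finv_right hy
      have h5 := congrArg a ((mem_cen.1 ht).2 _ h3)
      rw [ha.map.mul h3 htS, ha.map.mul htS h3, h4] at h5
      exact h5

end

end Cfsg.Agent.H27.Fus
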