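import Mathlib
import Cfsg.Agent.H27_S4g

/-! The criterion with `C_F(Z(S))` and `N_F(J(S))`. -/

universe u v w
namespace Cfsg.Agent.H27.Fus

open Cfsg Cfsg.FusionSystem Cfsg.Agent.H27.Grp Cfsg.Agent.H12.ZJ

section aux

variable {Ω : Type*} [Group Ω] {S : Subgroup Ω} {n : ℕ}

theorem JJ_sub {D X : Subgroup Ω} (h : D ≤ X) : (JJ n (D.subgroupOf X)).map X.subtype = JJ n D := by
  rw [← H2.ZJ2.JJ_map X.subtype X.subtype_injective.injOn, Subgroup.map_subgroupOf_eq_of_le h]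

theorem ZJJ_sub {D X : Subgroup Ω} (h : D ≤ X) : (ZJJ n (D.subgroupOf X)).map X.subtype = ZJJ n D := by
  rw [← H2.ZJ2.ZJJ_map X.subtype X.subtype_injective.injOn, Subgroup.map_subgroupOf_eq_of_le h]

theorem ZZ_le_ZJJ [Finite S] : ZZ S ≤ ZJJ 0 S := by
  intro x hx
  obtain ⟨hxS, hxc⟩ := mem_ZZ.1 hx
  rw [← ZJJ_sub (le_refl S), Subgroup.subgroupOf_self]
  refine ⟨⟨x, hxS⟩, ?_, rfl⟩
  obtain ⟨A, hA⟩ := exists_MaxEA 0 (⊤ : Subgroup S)
  have hc : ∀ y : S, y * ⟨x, hxS⟩ = ⟨x, hxS⟩ * y := fun y => Subtype.ext (hxc y y.2)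
  refine ⟨hA.le_JJ (hA.mem_of trivial (pow_zero _) (fun a _ => hc a)), ?_⟩
  exact Subgroup.mem_centralizer_iff.2 fun y _ => hc y

theorem JJ_eq_of_le' [Finite S] {C : Subgroup Ω} (hC : C ≤ S) (hJ : JJ n S ≤ C) : JJ n C = JJ n S := by
  rw [← JJ_sub hC, ← JJ_sub (le_refl S)]
  congr 1
  apply JJ_eq_of_le (show C.subgroupOf S ≤ S.subgroupOf S from fun x hx => hC hx)
  intro x hx
  apply hJ
  rw [← JJ_sub (le_refl S)]
  exact ⟨x, hx, rfl⟩

theorem inner_of_bot [Finite S] {F : FusionSystem S} (h : S = ⊥) {P : Subgroup Ω} {f : Ω → Ω}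
    (hf : Map F P f) : Map (innerFusionSystem S) P f := by
  refine map_inner_iff.2 ⟨hf.le, 1, S.one_mem, fun x hx => ?_⟩
  have h1 : x = 1 := by have := hf.le hx; rwa [h, Subgroup.mem_bot] at this
  rw [h1, hf.one]; group

theorem JJ_le_cen [Finite S] : JJ n S ≤ centralizerIn S (ZJJ n S) := by
  intro x hx
  refine mem_cen.2 ⟨JJ_le n S hx, fun y hy => ?_⟩
  exact (Subgroup.mem_centralizer_iff.1 hy.2 x hx).symm

theorem ZJJ_le_cen [Finite S] : ZJJ n S ≤ centralizerIn S (ZJJ n S) := by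
  intro x hx
  exact JJ_le_cen hx.1

end aux

theorem tn_odd {p : ℕ} [Fact p.Prime] (hp2 : p ≠ 2) {Ω : Type u} [Group Ω] {S : Subgroup Ω} [Finite S]
    {F : FusionSystem S} (hS : IsPGroup p S) (hF : F.IsSaturated p)
    (hJ : ∀ P f, NCmap false F (JJ 0 S) P f → Map (innerFusionSystem S) P f)
    (hZ : ∀ P f, NCmap true F (ZZ S) P f → Map (innerFusionSystem S) P f) :
    ∀ P f, Map F P f → Map (innerFusionSystem S) P f := by
  by_cases hSb : S = ⊥
  · exact fun P f hf => inner_of_bot hSb hf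
  apply nilp_rel hp2 S F hS hF S (strongly_top F) hSb
  set V := ZJJ 0 S with hV
  have hVS : V ≤ S := ZJJ_le 0 S
  have hVn : S ≤ normalizerIn S V := ZJJ_strong_normal (strongly_top F)
  obtain ⟨N, hN⟩ := exists_normalizerSystem F V hVS
  have hVfn : F.IsFullyNormalized V := by
    refine ⟨hVS, fun X hX => ?_⟩
    haveI : Finite (normalizerIn S V) := fin_nrm
    exact card_le_of_le (nrm_le.trans hVn)
  have hNs := normalizerSystem_saturated hS hF hVfn hN
  have key : ∀ (R : Subgroup Ω) (E : FusionSystem R), R = S → E.IsSaturated p → (∀ P f, Map E P f ↔ Nmap F V P f) →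
      ∀ P f, Map E P f → Map (innerFusionSystem S) P f := by
    rintro R E rfl hE hEF
    have hEn : E.IsNormal V := by
      rw [isNormal_iff]
      refine ⟨hVS, fun P f hf => ?_⟩
      obtain ⟨h1, h2, g, h3, h4, h5⟩ := (hEF P f).1 hf
      refine ⟨g, (hEF _ _).2 ⟨h3.le.trans hVn, fun x hx => hVn (h3.mem hx), g, ?_, fun _ _ => rfl, h5⟩, h4, h5⟩
      rwa [sup_assoc, sup_idem]
    have hVC : V ⊔ centralizerIn R V = centralizerIn R V := sup_eq_right.2 ZJJ_le_cen
    refine lemmaR2 hS hE hEn (subCls_inner E) ?_ ?_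
    · rw [hVC]
      rintro P f ⟨h1, h2, g, h3, h4, h5⟩
      obtain ⟨-, -, g', h3', h4', -⟩ := (hEF _ _).1 h3
      have hg : Map F (P ⊔ centralizerIn R V) g := (h3'.mono le_sup_left).congr h4'
      have hJC : JJ 0 (centralizerIn R V) = JJ 0 R := JJ_eq_of_le' cen_le JJ_le_cen
      have h6 := JJ_im (n := 0) (hg.mono le_sup_right)
      rw [h5, hJC] at h6
      have hJn : R ≤ normalizerIn R (JJ 0 R) := JJ_strong_normal (strongly_top F)
      have hPS : P ≤ R := le_sup_left.trans h3.le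
      refine hJ P f ⟨hPS.trans hJn, fun x hx => hJn (nrm_le (h2 x hx)), g, hg.mono (sup_le_sup_left JJ_le_cen _), h4, h6.symm,
        fun h => absurd h (by decide)⟩
    · rintro P f ⟨g, h3, h4, s, hs, h5⟩
      obtain ⟨-, -, g', h3', h4', -⟩ := (hEF _ _).1 h3
      have hg : Map F (P ⊔ V) g := (h3'.mono le_sup_left).congr h4'
      have hPS : P ≤ R := le_sup_left.trans h3.le
      have hfix : ∀ x ∈ ZZ R, g x = x := by
        intro x hx
        rw [h5 x (ZZ_le_ZJJ hx), (mem_ZZ.1 hx).2 s hs]; group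
      refine hZ P f ⟨hPS.trans ZZ_nrm, fun x hx => ZZ_nrm ?_, g, hg.mono (sup_le_sup_left ZZ_le_ZJJ _), h4, im_of_id hfix,
        fun _ => hfix⟩
      rw [← h4 x hx]
      exact hg.mem (Subgroup.mem_sup_left hx)
  exact fun P f hf => key _ N (le_antisymm nrm_le hVn) hNs (fun P f => nsys_map hN) P f ((nsys_map hN).2 hf)

/-- Combined criterion. -/
theorem tn_both {p : ℕ} [Fact p.Prime] {Ω : Type u} [Group Ω] {S : Subgroup Ω} [Finite S]
    {F : FusionSystem S} (hS : IsPGroup p S) (hF : F.IsSaturated p)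
    (hp : p ≠ 2 ∨ F.IsSectionFree p (Equiv.Perm (Fin 4)))
    (hJ : ∀ P f, NCmap false F (JJ 0 S) P f → Map (innerFusionSystem S) P f)
    (hZ : ∀ P f, NCmap true F (ZZ S) P f → Map (innerFusionSystem S) P f) :
    ∀ P f, Map F P f → Map (innerFusionSystem S) P f := by
  by_cases hp2 : p = 2
  · subst hp2
    exact tn2_fus (dvd_zero 2) S F hS hF (hp.resolve_left (by simp)) hJ hZ
  · exact tn_odd hp2 hS hF hJ hZ

end Cfsg.Agent.H27.Fus
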