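import Mathlib
import Cfsg.Agent.H27_S4h
import Cfsg.Agent.H17_WC2

/-! Glauberman's theorem on weakly closed elements for fusion systems. -/

universe u v w
namespace Cfsg.Agent.H27.Fus

open Cfsg Cfsg.FusionSystem Cfsg.Agent.H27.Grp Cfsg.Agent.H12.ZJ

/-- The alternative in Glauberman's theorem. -/
def GlA {Ω : Type u} [Group Ω] {S : Subgroup Ω} (F : FusionSystem S) (p : ℕ) (x : Ω) : Prop :=
  p ≠ 2 ∨ (∃ z ∈ ZZ S, z ^ p = x) ∨ F.IsSectionFree p (Equiv.Perm (Fin 4))

theorem glau {p : ℕ} [Fact p.Prime] :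
    ∀ {Ω : Type u} [Group Ω] (S : Subgroup Ω) [Finite S] (F : FusionSystem S), IsPGroup p S → F.IsSaturated p →
      ∀ z ∈ S, GlA F p z → (∀ s ∈ S, s * z * s⁻¹ = z) → (∀ P f, Nmap F (JJ 0 S) P f → z ∈ P → f z = z) →
        ∀ P f, Map F P f → z ∈ P → f z = z := by
  apply sat_induction
  intro Ω _ S _ F hS hF IH1 IH2 z hzS hgl hzc hz
  have hp0 : p ∣ 0 := dvd_zero p
  have hzZ : z ∈ ZZ S := mem_ZZ.2 ⟨hzS, fun y hy => by have := hzc y hy; exact mul_inv_eq_iff_eq_mul.1 this⟩
  have hmem : z ∈ JJ 0 S := (ZZ_le_ZJJ hzZ).1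
  have hN : S ≤ normalizerIn S (JJ 0 S) := JJ_strong_normal (strongly_top F)
  have key : ∀ P f, Map F P f → Cz F z P f := by
    refine reduceK hS hF (subCls_Cz F z) (JJ 0) (fun R _ => JJ_le 0 R) (fun R f hf => JJ_im hf)
      (fun R hR _ hRb => by
        haveI : Finite R := finite_of_le hR
        exact JJ_ne hp0 (isPGroup_mono hS hR) hRb) ?_ ?_ ?_ ?_
    · intro P f hf
      have hf' := hf
      obtain ⟨e1, e2, g, e3, e4, e5⟩ := hf
      have hle : Subgroup.zpowers z ≤ JJ 0 S := by rw [Subgroup.zpowers_le]; exact hmem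
      refine ⟨g, e3.mono (sup_le_sup_left hle _), e4, ?_⟩
      refine hz (P ⊔ JJ 0 S) g ⟨?_, fun x hx => hN (e3.mem hx), g, ?_, fun _ _ => rfl, e5⟩ ((le_sup_right : JJ 0 S ≤ _) hmem)
      · exact e3.le.trans hN
      · rwa [sup_assoc, sup_idem]
    · -- subsystems
      intro V K R E hFKN hVK hRK hEm hRS hE hsub hlt hCR hEN
      have hzR : z ∈ R := hCR hzZ
      refine Cz_of_sys hS hRS hE hsub hzR ?_
      have hcond : ∀ P f, Nmap E (JJ 0 R) P f → z ∈ P → f z = z := fun P f hf hzP => Cz_fix (hEN P f hf) hzP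
      have hglE : GlA E p z := by
        rcases hgl with h | ⟨w, hw, hwz⟩ | h
        · exact Or.inl h
        · refine Or.inr (Or.inl ⟨w, mem_ZZ.2 ⟨hCR hw, fun y hy => (mem_ZZ.1 hw).2 y (hRS hy)⟩, hwz⟩)
        · exact Or.inr (Or.inr (sectionFree_NK hS hF h hFKN hVK hRK hEm))
      rcases hlt with hlt | hlt
      · haveI : Finite R := finite_of_le hRS
        exact IH1 R E (isPGroup_mono hS hRS) hE (card_lt_of_lt hlt) z hzR hglE (fun s hs => hzc s (hRS hs)) hcond
      · by_cases hRS' : R = S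
        · subst hRS'
          exact IH2 E hE hsub hlt z hzR hglE hzc hcond
        · haveI : Finite R := finite_of_le hRS
          exact IH1 R E (isPGroup_mono hS hRS) hE (card_lt_of_lt (lt_of_le_of_ne hRS hRS')) z hzR hglE (fun s hs => hzc s (hRS hs)) hcond
    · -- constrained
      intro hcen P f hf
      have hQ := core_normal F
      have hQS : F.core ≤ S := (isNormal_iff.1 hQ).1
      obtain ⟨G, _, ι, hM⟩ := exists_model hS hF hQ hcen
      have hMD := MD.of_model hS hF hQ hcen hM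
      haveI := hMD.fin
      obtain ⟨T, hT⟩ := hMD.syl
      have hTS : (T : Subgroup G) = (S.subgroupOf S).map ι := by
        rw [hT, Subgroup.subgroupOf_self, ← MonoidHom.range_eq_map]
      have hzQ : z ∈ F.core := by
        apply IsCentric.cen_le hcen
        exact mem_cen.2 ⟨hzS, fun y hy => (mem_ZZ.1 hzZ).2 y (hQS hy)⟩
      have hcore : ∀ g : G, g * tt ι z * g⁻¹ ∈ (T : Subgroup G) := by
        intro g
        obtain ⟨q', hq', h⟩ := hMD.nor g z hzQ
        rw [← h, hT]
        exact mem_range_iff.2 ⟨q', hQS hq', rfl⟩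
      have hfixG : ∀ g : G, g * tt ι z * g⁻¹ = tt ι z := by
        intro g
        refine H17.Tr.weakly_closed (P := (T : Subgroup G)) (p := p) (H17.Base.isSylowIn_coe T) (x := tt ι z) ?_ ?_ ?_ g (hcore g)
        · rw [hT]; exact mem_range_iff.2 ⟨z, hzS, rfl⟩
        · intro n hn
          rw [thompsonAOf_eq, hTS] at hn
          obtain ⟨f, hf, hfn⟩ := hMD.exists_iso (V := JJ 0 S) (JJ_le 0 S) (n := n) (by
            intro x hx
            exact (JJ_tt hMD.inj le_rfl).1 ((Subgroup.mem_normalizer_iff.1 hn (tt ι x)).1 ((JJ_tt hMD.inj le_rfl).2 ⟨x, hx, rfl⟩)))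
          have h2 := hfn z hmem
          rw [hz _ f (nmap_of_iso hf) hmem] at h2
          exact h2.symm
        · rcases hgl with h | ⟨w, hw, hwz⟩ | h
          · exact Or.inl h
          · refine Or.inr (Or.inl ⟨tt ι w, ?_, ?_, ?_⟩)
            · rw [hT]; exact mem_range_iff.2 ⟨w, (mem_ZZ.1 hw).1, rfl⟩
            · refine Subgroup.mem_centralizer_iff.2 ?_
              intro y hy
              have hy' : y ∈ (T : Subgroup G) := hy
              rw [hT] at hy'
              obtain ⟨v, hv, rfl⟩ := mem_range_iff.1 hy'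
              rw [← tt_mul ι hv (mem_ZZ.1 hw).1, ← tt_mul ι (mem_ZZ.1 hw).1 hv, (mem_ZZ.1 hw).2 v hv]
            · rw [← hwz, tt_of_mem ι (mem_ZZ.1 hw).1, ← map_pow, ← tt_apply]; rfl
          · right; right
            obtain ⟨E, hE⟩ := exists_normalizerSystem F F.core (isNormal_iff.1 hQ).1
            have hTeq : S = normalizerIn S F.core :=
              le_antisymm (StronglyClosed.le_normalizer (IsNormal.strong hQ)) nrm_le
            obtain ⟨ι₂, hM₂⟩ := IsModel_cast (E₂ := E) hTeq (fun A f => by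
              rw [nsys_map hE]
              constructor
              · intro hf
                obtain ⟨g, hg1, hg2, hg3⟩ := (isNormal_iff.1 hQ).2 A f hf
                exact ⟨hf.le.trans hTeq.le, fun x hx => hTeq.le (hf.mem hx), g, hg1, hg2, hg3⟩
              · rintro ⟨-, -, g, hg1, hg2, -⟩
                exact (hg1.mono le_sup_left).congr hg2) hM
            exact h F.core (normal_fn hQ) hcen E hE G ι₂ hM₂
      have h5 : P ⊔ Subgroup.zpowers z ≤ S := sup_le hf.le (by rw [Subgroup.zpowers_le]; exact hzS)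
      obtain ⟨g, hg⟩ := hMD.map_real hf
      obtain ⟨k, hk, hkg⟩ := hMD.exists_map_sup (A := P) (B := Subgroup.zpowers z) hf.le
        (by rw [Subgroup.zpowers_le]; exact hzS) g (fun x hx => ⟨f x, hf.mem hx, hg x hx⟩) (fun x hx => by
          obtain ⟨j, rfl⟩ := Subgroup.mem_zpowers_iff.1 hx
          refine ⟨z ^ j, S.zpow_mem hzS j, ?_⟩
          have h1 : tt ι (z ^ j) = (tt ι z) ^ j := by
            rw [tt_of_mem ι hzS, ← map_zpow, ← tt_apply]; rfl
          rw [h1, ← conj_zpow, hfixG])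
      refine ⟨k, hk, fun x hx => ?_, ?_⟩
      · apply tt_inj hMD.inj (hk.mem (Subgroup.mem_sup_left hx)) (hf.mem hx)
        rw [hkg x (Subgroup.mem_sup_left hx), hg x hx]
      · have hx' : z ∈ P ⊔ Subgroup.zpowers z := Subgroup.mem_sup_right (Subgroup.mem_zpowers z)
        apply tt_inj hMD.inj (hk.mem hx') hzS
        rw [hkg z hx', hfixG]
    · -- quotient
      intro hsc hQb hQc hV P f hf
      have hQ := core_normal F
      have hQs := IsNormal.strong hQ
      have hQS : F.core ≤ S := (isNormal_iff.1 hQ).1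
      obtain ⟨N, hNn, E, hpS', hE, hEs, hcard⟩ := exists_quo hS hF hQs hQb
      obtain ⟨hd, hm⟩ := isFactorSystem_iff.1 hE
      set θ := QuotientGroup.mk' N with hθ
      haveI : Finite (⊤ : Subgroup (S ⧸ N)) := finite_S' hd
      have hV'n : ⊤ ≤ normalizerIn ⊤ (JJ 0 (⊤ : Subgroup (S ⧸ N))) := JJ_strong_normal (strongly_top E)
      have hV'S : JJ 0 (⊤ : Subgroup (S ⧸ N)) ≤ ⊤ := le_top
      have hQneS : F.core ≠ S := by
        intro h
        apply hQc
        rw [h]; exact top_centric F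
      have hV'b : ¬ FusionSystem.preimageAlong θ (JJ 0 (⊤ : Subgroup (S ⧸ N))) ≤ F.core := by
        intro hle
        have hnb : (⊤ : Subgroup (S ⧸ N)) ≠ ⊥ := by
          intro hb
          apply hQneS
          apply le_antisymm hQS
          intro x hx
          have h1 : tt θ x ∈ (⊤ : Subgroup (S ⧸ N)) := trivial
          rw [hb, Subgroup.mem_bot, ← tt_one θ, hd.eq_iff hx S.one_mem] at h1
          simpa using h1
        apply JJ_ne hp0 hpS' hnb
        rw [eq_bot_iff]
        intro y hy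
        obtain ⟨x, hx, rfl⟩ := hd.pre_surj hV'S hy
        have h1 := hle hx
        rw [Subgroup.mem_bot, ← tt_one θ, hd.eq_iff (hQS h1) S.one_mem]
        simpa using h1
      have hVF := hV _ (preimageAlong_le _ _) (pre_normal hd hV'S hV'n) hV'b
      have hglE : GlA E p (tt θ z) := by
        rcases hgl with h | ⟨w, hw, hwz⟩ | h
        · exact Or.inl h
        · refine Or.inr (Or.inl ⟨tt θ w, mem_ZZ.2 ⟨trivial, fun y hy => ?_⟩, ?_⟩)
          · obtain ⟨v, hv, rfl⟩ := hd.surj hy
            rw [← tt_mul θ hv (mem_ZZ.1 hw).1, ← tt_mul θ (mem_ZZ.1 hw).1 hv, (mem_ZZ.1 hw).2 v hv]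
          · rw [← hwz, tt_of_mem θ (mem_ZZ.1 hw).1, ← map_pow, ← tt_apply]; rfl
        · exact Or.inr (Or.inr (sectionFree_quo hS hF hQ hE h))
      have hIH := IH1 (⊤ : Subgroup (S ⧸ N)) E hpS' hEs hcard (tt θ z) trivial hglE (by
        intro s hs
        obtain ⟨x, hx, rfl⟩ := hd.surj hs
        rw [← tt_conj θ hx hzS, hzc x hx]) (by
        intro P' f' hf' hzP'
        obtain ⟨g, hg, hgf⟩ := nmap_lift hE hQs hV'S hV'n hf'
        have hzpre : z ∈ FusionSystem.preimageAlong θ P' := (mem_preimageAlong θ).2 ⟨hzS, hzP'⟩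
        rw [hgf z hzpre, Cz_fix (hVF _ _ hg) hzpre])
      have hzE : tt θ z ∈ E.center := (mem_center_iff hpS' hEs).2 ⟨trivial, hIH⟩
      have hpre := lemmaR3 hS hF hQ hsc hE (IsCentral.normal (center_central E))
      have hzQ : z ∈ F.core := le_core hpre ((mem_preimageAlong θ).2 ⟨hzS, hzE⟩)
      obtain ⟨g, hg, hgf, s, hs, hgs⟩ := hsc P f hf
      refine ⟨g, hg.mono (sup_le_sup_left (by rw [Subgroup.zpowers_le]; exact hzQ) _), hgf, ?_⟩
      rw [hgs z hzQ, hzc s hs]
  intro P f hf hzP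
  exact Cz_fix (key P f hf) hzP

end Cfsg.Agent.H27.Fus
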