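import Mathlib
import Cfsg.Agent.H27_Glau

/-! Glauberman's theorem: center form. -/

universe u v w
namespace Cfsg.Agent.H27.Fus

open Cfsg Cfsg.FusionSystem Cfsg.Agent.H27.Grp Cfsg.Agent.H12.ZJ

theorem glau_center {p : ℕ} [Fact p.Prime] {Ω : Type u} [Group Ω] {S : Subgroup Ω} [Finite S] {F : FusionSystem S}
    (hS : IsPGroup p S) (hF : F.IsSaturated p) {J : Subgroup Ω} (hJ : J = JJ 0 S) {N : FusionSystem (normalizerIn S J)}
    (hN : F.IsNormalizerSystem J N) {x : Ω} (hx : x ∈ N.center) (hgl : GlA F p x) : x ∈ F.center := by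
  subst hJ
  have hJn : S ≤ normalizerIn S (JJ 0 S) := JJ_strong_normal (strongly_top F)
  have hfn : F.IsFullyNormalized (JJ 0 S) := by
    refine ⟨JJ_le 0 S, fun R hR => ?_⟩
    haveI : Finite (normalizerIn S (JJ 0 S)) := fin_nrm
    exact card_le_of_le (nrm_le.trans hJn)
  have hNs := normalizerSystem_saturated hS hF hfn hN
  haveI : Finite (normalizerIn S (JJ 0 S)) := fin_nrm
  obtain ⟨hx1, hx2⟩ := (mem_center_iff (isPGroup_mono hS nrm_le) hNs).1 hx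
  refine (mem_center_iff hS hF).2 ⟨nrm_le hx1, glau S F hS hF x (nrm_le hx1) hgl (fun s hs => ?_)
    (fun P f hf hxP => hx2 P f ((nsys_map hN).2 hf) hxP)⟩
  exact hx2 _ _ (map_conj N le_rfl (hJn hs)) hx1

theorem center_le_nsys {p : ℕ} [Fact p.Prime] {Ω : Type u} [Group Ω] {S : Subgroup Ω} [Finite S] {F : FusionSystem S}
    (hS : IsPGroup p S) (hF : F.IsSaturated p) {J : Subgroup Ω} (hJS : J ≤ S) (hJn : S ≤ normalizerIn S J)
    {N : FusionSystem (normalizerIn S J)}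
    (hN : F.IsNormalizerSystem J N) : F.center ≤ N.center := by
  have hfn : F.IsFullyNormalized J := by
    refine ⟨hJS, fun R hR => ?_⟩
    haveI : Finite (normalizerIn S J) := fin_nrm
    exact card_le_of_le (nrm_le.trans hJn)
  have hNs := normalizerSystem_saturated hS hF hfn hN
  haveI : Finite (normalizerIn S J) := fin_nrm
  intro x hx
  obtain ⟨hx1, hx2⟩ := (mem_center_iff hS hF).1 hx
  exact (mem_center_iff (isPGroup_mono hS nrm_le) hNs).2 ⟨hJn hx1, fun P f hf hxP => hx2 P f (nsys_sub hN hf) hxP⟩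

theorem pow_closure {Ω : Type*} [Group Ω] {Z : Subgroup Ω} (hZ : ∀ x ∈ Z, ∀ y ∈ Z, x * y = y * x) {p : ℕ} {x : Ω}
    (hx : x ∈ Subgroup.closure ((fun z : Ω => z ^ p) '' (Z : Set Ω))) : ∃ z ∈ Z, z ^ p = x := by
  refine Subgroup.closure_induction (p := fun x _ => ∃ z ∈ Z, z ^ p = x) ?_ ⟨1, Z.one_mem, one_pow p⟩ ?_ ?_ hx
  · rintro _ ⟨z, hz, rfl⟩; exact ⟨z, hz, rfl⟩
  · rintro _ _ _ _ ⟨z, hz, rfl⟩ ⟨w, hw, rfl⟩
    exact ⟨z * w, Z.mul_mem hz hw, (show Commute z w from hZ z hz w hw).mul_pow p⟩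
  · rintro _ _ ⟨z, hz, rfl⟩
    exact ⟨z⁻¹, Z.inv_mem hz, inv_pow z p⟩

end Cfsg.Agent.H27.Fus
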