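import Mathlib
import Cfsg.Agent.H1_SZ
import Cfsg.Agent.H1_Basic
import Cfsg.Agent.H27_Glau2

/-! Normal subgroups inside the Frattini subgroup of `S`. -/

universe u v w
namespace Cfsg.Agent.H27.Grp

open scoped Pointwise

theorem grpB {G : Type*} [Group G] [Finite G] {p : ℕ} [Fact p.Prime] (S : Sylow p G) (Q R : Subgroup G) [hQn : Q.Normal]
    [hRn : R.Normal] (hQR : Q ≤ R) (hRS : R ≤ (S : Subgroup G)) (hcen : Subgroup.centralizer (R : Set G) ≤ R)
    (htriv : ∀ g : G, ∀ x ∈ (S : Subgroup G), g * x * g⁻¹ ∈ (S : Subgroup G) → x⁻¹ * (g * x * g⁻¹) ∈ Q)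
    (hfrat : ∀ X : Subgroup G, X ≤ (S : Subgroup G) → Q ⊔ X = (S : Subgroup G) → X = (S : Subgroup G)) :
    (S : Subgroup G) = ⊤ := by
  classical
  have hQS := hQR.trans hRS
  have hpr : p.Prime := Fact.out
  set π := QuotientGroup.mk' Q with hπ
  have hπs : Function.Surjective π := QuotientGroup.mk'_surjective Q
  have hker : π.ker = Q := QuotientGroup.ker_mk' Q
  let Sb : Sylow p (G ⧸ Q) := S.mapSurjective hπs
  have hSb : (Sb : Subgroup (G ⧸ Q)) = (S : Subgroup G).map π := rfl
  have hmem : ∀ g : G, π g ∈ (Sb : Subgroup (G ⧸ Q)) ↔ g ∈ (S : Subgroup G) := by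
    intro g
    rw [hSb]
    constructor
    · rintro ⟨s, hs, hsg⟩
      have h1 : s⁻¹ * g ∈ Q := QuotientGroup.eq.1 hsg
      have : g = s * (s⁻¹ * g) := by group
      rw [this]
      exact (S : Subgroup G).mul_mem hs (hQS h1)
    · exact fun h => ⟨g, h, rfl⟩
  have hP : Subgroup.normalizer ((Sb : Subgroup (G ⧸ Q)) : Set (G ⧸ Q)) ≤ Subgroup.centralizer ((Sb : Subgroup (G ⧸ Q)) : Set (G ⧸ Q)) := by
    intro n hn
    rw [Subgroup.mem_centralizer_iff]
    intro x hx
    obtain ⟨g, rfl⟩ := hπs n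
    obtain ⟨y, rfl⟩ := hπs x
    have hy := (hmem y).1 hx
    have h1 := (Subgroup.mem_normalizer_iff.1 hn (π y)).1 hx
    rw [← map_mul, ← map_inv, ← map_mul] at h1
    have h2 := htriv g y hy ((hmem _).1 h1)
    have h3 : π y = π (g * y * g⁻¹) := QuotientGroup.eq.2 h2
    rw [map_mul, map_mul, map_inv] at h3
    calc π y * π g = (π g * π y * (π g)⁻¹) * π g := by rw [← h3]
      _ = π g * π y := by group
  set Kb := (MonoidHom.transferSylow Sb hP).ker with hKb
  have hcomp := MonoidHom.ker_transferSylow_isComplement' Sb hP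
  have hnd := MonoidHom.not_dvd_card_ker_transferSylow Sb hP
  set K := Kb.comap π with hK
  haveI : K.Normal := inferInstance
  have hQK : Q ≤ K := by
    intro q hq
    show π q ∈ Kb
    have : π q = 1 := (QuotientGroup.eq_one_iff q).2 hq
    rw [this]; exact Kb.one_mem
  have hKcard : Nat.card K = Nat.card Kb * Nat.card Q := by
    have h1 := Subgroup.card_mul_index K
    have h2 : K.index = Kb.index := Subgroup.index_comap_of_surjective Kb hπs
    have h3 := Subgroup.card_mul_index Kb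
    have h4 := Subgroup.card_mul_index Q
    have h5 : Q.index = Nat.card (G ⧸ Q) := rfl
    have h6 : 0 < Kb.index := Nat.pos_of_ne_zero Subgroup.index_ne_zero_of_finite
    apply Nat.eq_of_mul_eq_mul_right h6
    calc Nat.card K * Kb.index = Nat.card G := by rw [← h2]; exact h1
      _ = Nat.card Q * Q.index := h4.symm
      _ = Nat.card Q * (Nat.card Kb * Kb.index) := by rw [h5, h3]
      _ = _ := by ring
  have hQp : IsPGroup p Q := S.2.to_le hQS
  obtain ⟨n, hn⟩ := IsPGroup.iff_card.1 hQp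
  have hQpos : 0 < Nat.card Q := Nat.card_pos
  have hcop : (Nat.card (Q.subgroupOf K)).Coprime (Q.subgroupOf K).index := by
    have h1 : Nat.card (Q.subgroupOf K) = Nat.card Q := Nat.card_congr (Subgroup.subgroupOfEquivOfLe hQK).toEquiv
    have h2 : (Q.subgroupOf K).index = Nat.card Kb := by
      have h3 := Subgroup.card_mul_index (Q.subgroupOf K)
      rw [h1, hKcard] at h3
      exact Nat.eq_of_mul_eq_mul_left hQpos (by rw [h3]; ring)
    rw [h1, h2, hn]
    exact Nat.Coprime.pow_left _ ((Nat.Prime.coprime_iff_not_dvd hpr).2 hnd)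
  obtain ⟨H', hH'⟩ := Subgroup.exists_right_complement'_of_coprime hcop
  set H := H'.map K.subtype with hH
  have hHK : H ≤ K := Subgroup.map_subtype_le H'
  have hH'c : Nat.card H' = (Q.subgroupOf K).index := (Cfsg.Agent.H1.Basic.isComplement'_iff_card hcop).1 hH'
  have hHc : Nat.card H = (Q.subgroupOf K).index := by
    rw [hH, Subgroup.card_map_of_injective (Subgroup.subtype_injective K), hH'c]
  have hHsub : H.subgroupOf K = H' := by
    rw [hH]; exact Subgroup.comap_map_eq_self_of_injective (Subgroup.subtype_injective K) _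
  have hQsolv : Group.IsSolvable (Q.subgroupOf K) := by
    have h1 : IsPGroup p (Q.subgroupOf K) := hQp.comap_subtype
    haveI : Group.IsNilpotent (Q.subgroupOf K) := h1.isNilpotent
    infer_instance
  -- Frattini
  have hfr : ∀ g : G, ∃ q ∈ Q, q⁻¹ * g ∈ Subgroup.normalizer (H : Set G) := by
    intro g
    set H2 := MulAut.conj g • H with hH2
    have hH2K : H2 ≤ K := by
      rintro _ ⟨h, hh, rfl⟩
      exact (inferInstance : K.Normal).conj_mem h (hHK hh) g
    have hc2 : Nat.card (H2.subgroupOf K) = (Q.subgroupOf K).index := by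
      rw [Nat.card_congr (Subgroup.subgroupOfEquivOfLe hH2K).toEquiv, ← hHc]
      exact Nat.card_congr (Subgroup.equivSMul (MulAut.conj g) H).symm.toEquiv
    have hcomp2 : Subgroup.IsComplement' (Q.subgroupOf K) (H2.subgroupOf K) := Cfsg.Agent.H1.Basic.isComplement'_of_card hcop hc2
    obtain ⟨q, hq, hqe⟩ := H1.SZ.sz_conj (Q.subgroupOf K) hcop (Or.inl hQsolv) H' (H2.subgroupOf K) hH' hcomp2
    refine ⟨q, hq, ?_⟩
    rw [Subgroup.mem_normalizer_iff]
    have key : ∀ x : G, x ∈ H ↔ (q : G)⁻¹ * (g * x * g⁻¹) * q ∈ H := by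
      intro x
      constructor
      · intro hx
        have h1 : g * x * g⁻¹ ∈ H2 := ⟨x, hx, rfl⟩
        have h2 : (⟨g * x * g⁻¹, hH2K h1⟩ : K) ∈ MulAut.conj q • H' := by rw [hqe]; exact h1
        obtain ⟨y, hy, hye⟩ := h2
        have h3 : (q : G) * y * (q : G)⁻¹ = g * x * g⁻¹ := congrArg Subtype.val hye
        have h4 : (q : G)⁻¹ * (g * x * g⁻¹) * q = y := by rw [← h3]; group
        rw [h4]; exact ⟨y, hy, rfl⟩
      · rintro ⟨y, hy, hye⟩
        have h2 : (q * y * q⁻¹ : K) ∈ H2.subgroupOf K := by rw [← hqe]; exact ⟨y, hy, rfl⟩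
        obtain ⟨z, hz, hze⟩ := h2
        have h3 : g * z * g⁻¹ = (q : G) * y * (q : G)⁻¹ := hze
        have h4 : (y : G) = (q : G)⁻¹ * (g * x * g⁻¹) * q := hye
        have h5 : z = x := by
          have : g * z * g⁻¹ = g * x * g⁻¹ := by rw [h3, h4]; group
          simpa using this
        rwa [← h5]
    intro x
    rw [key x]
    have : (q : G)⁻¹ * (g * x * g⁻¹) * q = (q : G)⁻¹ * g * x * ((q : G)⁻¹ * g)⁻¹ := by group
    rw [this]
  have hX := hfrat ((S : Subgroup G) ⊓ Subgroup.normalizer (H : Set G)) inf_le_left (by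
    refine le_antisymm (sup_le hQS inf_le_left) fun s hs => ?_
    obtain ⟨q, hq, hqs⟩ := hfr s
    have : s = q * (q⁻¹ * s) := by group
    rw [this]
    exact Subgroup.mul_mem_sup hq ⟨(S : Subgroup G).mul_mem ((S : Subgroup G).inv_mem (hQS hq)) hs, hqs⟩)
  have hSN : (S : Subgroup G) ≤ Subgroup.normalizer (H : Set G) := by
    intro s hs
    rw [← hX] at hs
    exact hs.2
  have hHn : Subgroup.normalizer (H : Set G) = ⊤ := by
    rw [eq_top_iff]
    intro g _
    obtain ⟨q, hq, hqs⟩ := hfr g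
    have : g = q * (q⁻¹ * g) := by group
    rw [this]
    exact Subgroup.mul_mem _ (hSN (hQS hq)) hqs
  haveI : H.Normal := Subgroup.normalizer_eq_top_iff.1 hHn
  have hHcop : (Nat.card H).Coprime p := by
    rw [hHc]
    have h1 : Nat.card (Q.subgroupOf K) = Nat.card Q := Nat.card_congr (Subgroup.subgroupOfEquivOfLe hQK).toEquiv
    have h2 : (Q.subgroupOf K).index = Nat.card Kb := by
      have h3 := Subgroup.card_mul_index (Q.subgroupOf K)
      rw [h1, hKcard] at h3
      exact Nat.eq_of_mul_eq_mul_left hQpos (by rw [h3]; ring)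
    rw [h2]
    exact ((Nat.Prime.coprime_iff_not_dvd hpr).2 hnd).symm
  have hHS : H ⊓ (S : Subgroup G) = ⊥ := by
    apply Cfsg.Agent.H1.Basic.disjoint_of_coprime_card
    obtain ⟨m, hm⟩ := IsPGroup.iff_card.1 S.2
    rw [hm]
    exact Nat.Coprime.pow_right _ hHcop
  have hHR : H ≤ R := by
    refine le_trans ?_ hcen
    intro h hh
    rw [Subgroup.mem_centralizer_iff]
    intro r hr
    have h1 : r * h * r⁻¹ * h⁻¹ ∈ H ⊓ (S : Subgroup G) := by
      refine ⟨H.mul_mem ((inferInstance : H.Normal).conj_mem h hh r) (H.inv_mem hh), ?_⟩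
      have h2 : r * h * r⁻¹ * h⁻¹ = r * (h * r⁻¹ * h⁻¹) := by group
      rw [h2]
      exact (S : Subgroup G).mul_mem (hRS hr) (hRS (hRn.conj_mem _ (R.inv_mem hr) h))
    rw [hHS, Subgroup.mem_bot] at h1
    calc r * h = (r * h * r⁻¹ * h⁻¹) * (h * r) := by group
      _ = h * r := by rw [h1, one_mul]
  have hHbot : H = ⊥ := by
    rw [eq_bot_iff, ← hHS]
    exact le_inf le_rfl (hHR.trans hRS)
  have hKb1 : Kb = ⊥ := by
    have h1 : Nat.card H = 1 := by rw [hHbot]; exact Subgroup.card_bot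
    rw [hHc] at h1
    have h2 : Q.subgroupOf K = ⊤ := Subgroup.index_eq_one.1 h1
    rw [eq_bot_iff]
    intro x hx
    obtain ⟨g, rfl⟩ := hπs x
    have h3 : (⟨g, hx⟩ : K) ∈ Q.subgroupOf K := by rw [h2]; trivial
    exact Subgroup.mem_bot.2 ((QuotientGroup.eq_one_iff g).2 h3)
  have hSbt : (Sb : Subgroup (G ⧸ Q)) = ⊤ := by
    have h1 := hcomp
    rw [← hKb, hKb1] at h1
    exact Subgroup.isComplement'_bot_left.1 h1
  rw [eq_top_iff]
  intro g _
  refine (hmem g).1 ?_
  rw [hSbt]; trivial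

end Cfsg.Agent.H27.Grp
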