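import Mathlib
import Cfsg.Agent.H27_Fr1
import Cfsg.Agent.H27_Solv
import Cfsg.Agent.H27_FusAb
import Cfsg.Agent.H27_FusInv3
import Cfsg.Agent.H27_GT4

/-! Normal subgroups between `[S,S]` and `Φ(S)`. -/

universe u v w
namespace Cfsg.Agent.H27.Fus

open Cfsg Cfsg.FusionSystem Cfsg.Agent.H27.Grp
open scoped commutatorElement

section
variable {Ω : Type u} [Group Ω] {S Q : Subgroup Ω} {F : FusionSystem S} {p : ℕ} [Fact p.Prime] [Finite S]

theorem mod_of_comm (hS : IsPGroup p S) (hF : F.IsSaturated p) (hQ : F.StronglyClosed Q)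
    (hcomm : ∀ x ∈ S, ∀ y ∈ S, ⁅x, y⁆ ∈ Q) (haut : IsPGroup p (F.autGroup S)) :
    ∀ P f, Map F P f → ∀ x ∈ P, x⁻¹ * f x ∈ Q := by
  haveI hnor : (Q.subgroupOf S).Normal := ⟨fun x hx g => StronglyClosed.conj_mem hQ g.2 hx⟩
  have hd := facData_mk (F := F) hQ
  have hE := facFS_isFactor (F := F) hd hQ
  set E := facFS F hd hQ with hEdef
  have hEs := factor_saturated hS hF hE hQ
  set θ := QuotientGroup.mk' (Q.subgroupOf S) with hθ
  haveI : Finite (⊤ : Subgroup (S ⧸ Q.subgroupOf S)) := finite_S' hd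
  have hT' := isPGroup_S' hd hS
  have habE : ∀ x ∈ (⊤ : Subgroup (S ⧸ Q.subgroupOf S)), ∀ y ∈ (⊤ : Subgroup (S ⧸ Q.subgroupOf S)), x * y = y * x := by
    intro x _ y _
    obtain ⟨a, rfl⟩ := QuotientGroup.mk'_surjective _ x
    obtain ⟨b, rfl⟩ := QuotientGroup.mk'_surjective _ y
    rw [← map_mul, ← map_mul]
    refine QuotientGroup.eq.2 ?_
    show ((a * b)⁻¹ * (b * a) : S).1 ∈ Q
    have h1 := hcomm (b : Ω)⁻¹ (S.inv_mem b.2) (a : Ω)⁻¹ (S.inv_mem a.2)
    have h2 : (((a * b)⁻¹ * (b * a) : S) : Ω) = ⁅(b : Ω)⁻¹, (a : Ω)⁻¹⁆ := by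
      rw [commutatorElement_def]
      simp only [Subgroup.coe_mul, Subgroup.coe_inv]
      group
    rw [h2]; exact h1
  have hautE : IsPGroup p (E.autGroup (⊤ : Subgroup (S ⧸ Q.subgroupOf S))) := by
    have h1 := map_quoHom_autGroup hE hd hQ (le_refl (⊤ : Subgroup (S ⧸ Q.subgroupOf S)))
    rw [← h1]
    refine IsPGroup.map ?_ _
    have e : preimageAlong θ (⊤ : Subgroup (S ⧸ Q.subgroupOf S)) = S := pre_S' hd
    have h2 : IsPGroup p (F.autGroup (preimageAlong θ (⊤ : Subgroup (S ⧸ Q.subgroupOf S)))) := by rw [e]; exact haut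
    exact h2.comap_subtype
  have hinn := inner_of_abelian hT' hEs habE hautE
  have hsur := surjective_of_factor hS hF hE hQ
  obtain ⟨hm1, hm2⟩ := (isMorphism_iff _).1 hsur.1
  intro P f hf x hx
  obtain ⟨f', hf', hi⟩ := hm2 P f hf
  have h1 : Map (innerFusionSystem (⊤ : Subgroup (S ⧸ Q.subgroupOf S))) _ f' :=
    map_of_le (hinn _).le hf'
  obtain ⟨h2, s, hs', h3⟩ := map_inner.1 h1
  have hxS := hf.le hx
  have h4 : tt θ x ∈ imageAlong θ P := (mem_imageAlong _ hf.le).2 ⟨x, hx, rfl⟩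
  have h5 := h3 _ h4
  rw [hi x hx, habE s trivial _ trivial, mul_inv_cancel_right] at h5
  exact (FacData.eq_iff hd (hf.mem hx) hxS).1 h5

theorem inner_of_mod_frattini (hS : IsPGroup p S) (hF : F.IsSaturated p) (hQ : F.IsNormal Q)
    (hcomm : ∀ x ∈ S, ∀ y ∈ S, ⁅x, y⁆ ∈ Q) (hmod : ∀ P f, Map F P f → ∀ x ∈ P, x⁻¹ * f x ∈ Q)
    (hfrat : ∀ X ≤ S, Q ⊔ X = S → X = S) : ∀ P f, Map F P f → Map (innerFusionSystem S) P f := by
  have hQS := (isNormal_iff.1 hQ).1
  refine alperin_le hS hF fun P hP α hα => ?_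
  have hQP : Q ≤ P := by
    rcases hP with rfl | h
    · exact hQS
    · exact normal_le_radical hS hQ h.1 (essential_radical hS h)
  have hPc : F.IsCentric P := by
    rcases hP with rfl | h
    · refine ⟨le_rfl, fun R hR => ?_⟩
      obtain ⟨φ, hφ, rfl⟩ := hR
      rw [(StronglyClosed.weakly (strongly_top F)).2 φ hφ]; exact cen_le
    · exact h.1
  have hPfn : F.IsFullyNormalized P := by
    rcases hP with rfl | h
    · exact fn_top F
    · exact h.2.1
  have hPS := hPc.1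
  have hSn : S ≤ normalizerIn S P := fun s hs => mem_nrm_of_forall hPS hs fun y hy => by
    have h1 := hcomm s hs y (hPS hy)
    have h2 : s * y * s⁻¹ = ⁅s, y⁆ * y := by rw [commutatorElement_def]; group
    rw [h2]; exact P.mul_mem (hQP h1) hy
  obtain ⟨E, hE⟩ := exists_normalizerSystem F P hPS
  haveI : Finite (normalizerIn S P) := fin_nrm
  have hEs := normalizerSystem_saturated hS hF hPfn hE
  have hpN := isPGroup_mono hS (nrm_le (S := S) (P := P))
  have hEn := nsys_normal hE hPS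
  have hEc := centric_sub nrm_le (fun P f => nsys_sub hE) hPc (le_nrm hPS)
  obtain ⟨G, _, ι, hM⟩ := exists_model hpN hEs hEn hEc
  have hMD := MD.of_model hpN hEs hEn hEc hM
  haveI := hMD.fin
  obtain ⟨T, hT⟩ := hMD.syl
  -- images
  have hPN : P ≤ normalizerIn S P := le_nrm hPS
  let im' : Subgroup Ω → Subgroup G := fun X => (X.subgroupOf (normalizerIn S P)).map ι
  have hmemi : ∀ X ≤ normalizerIn S P, ∀ g, g ∈ im' X ↔ ∃ x ∈ X, tt ι x = g := by
    intro X hX g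
    constructor
    · rintro ⟨x, hx, rfl⟩
      exact ⟨x, hx, tt_apply ι x⟩
    · rintro ⟨x, hx, rfl⟩
      exact ⟨⟨x, hX hx⟩, hx, (tt_of_mem ι (hX hx)).symm⟩
  have hQN := hQP.trans hPN
  have hQnor : ∀ g : G, ∀ q ∈ Q, ∃ q' ∈ Q, tt ι q' = g * tt ι q * g⁻¹ := by
    intro g q hq
    obtain ⟨f, hf, hfg⟩ := hMD.exists_map hPN g (fun x hx => by
      obtain ⟨y, hy, hyx⟩ := hMD.nor g x hx
      exact ⟨y, hPN hy, hyx⟩)
    exact ⟨f q, (stronglyClosed_iff.1 (IsNormal.strong hQ)).2 P f (nsys_sub hE hf) q (hQP hq) hq, hfg q (hQP hq)⟩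
  haveI h1n : (im' Q).Normal := by
    refine ⟨fun n hn g => ?_⟩
    obtain ⟨q, hq, rfl⟩ := (hmemi Q hQN n).1 hn
    obtain ⟨q', hq', h⟩ := hQnor g q hq
    exact (hmemi Q hQN _).2 ⟨q', hq', h⟩
  haveI h2n : (im' P).Normal := by
    refine ⟨fun n hn g => ?_⟩
    obtain ⟨q, hq, rfl⟩ := (hmemi P hPN n).1 hn
    obtain ⟨q', hq', h⟩ := hMD.nor g q hq
    exact (hmemi P hPN _).2 ⟨q', hq', h⟩
  have hTm : ∀ g : G, g ∈ (T : Subgroup G) ↔ ∃ x ∈ normalizerIn S P, tt ι x = g := by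
    intro g; rw [hT]; exact mem_range_iff
  have htop : (T : Subgroup G) = ⊤ := by
    refine grpB T (im' Q) (im' P) ?_ ?_ ?_ ?_ ?_
    · intro g hg
      obtain ⟨q, hq, rfl⟩ := (hmemi Q hQN g).1 hg
      exact (hmemi P hPN _).2 ⟨q, hQP hq, rfl⟩
    · intro g hg
      obtain ⟨q, hq, rfl⟩ := (hmemi P hPN g).1 hg
      exact (hTm _).2 ⟨q, hPN hq, rfl⟩
    · intro g hg
      obtain ⟨q, hq, hqg⟩ := hMD.cen g (fun q hq => by
        have := Subgroup.mem_centralizer_iff.1 hg (tt ι q) ((hmemi P hPN _).2 ⟨q, hq, rfl⟩)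
        exact this.symm)
      exact (hmemi P hPN g).2 ⟨q, hq, hqg⟩
    · intro g x hx hgx
      obtain ⟨x, hxN, rfl⟩ := (hTm x).1 hx
      obtain ⟨y, hyN, hy⟩ := (hTm _).1 hgx
      obtain ⟨f, hf, hfg⟩ := hMD.exists_map (A := Subgroup.zpowers x) ((Subgroup.zpowers_le).2 hxN) g (fun z hz => by
        obtain ⟨n, rfl⟩ := Subgroup.mem_zpowers_iff.1 hz
        refine ⟨y ^ n, Subgroup.zpow_mem _ hyN n, ?_⟩
        have e1 : tt ι (y ^ n) = tt ι y ^ n := by
          rw [tt_of_mem ι (Subgroup.zpow_mem _ hyN n), tt_of_mem ι hyN, ← map_zpow]; rfl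
        have e2 : tt ι (x ^ n) = tt ι x ^ n := by
          rw [tt_of_mem ι (Subgroup.zpow_mem _ hxN n), tt_of_mem ι hxN, ← map_zpow]; rfl
        rw [e1, e2, hy, conj_zpow])
      have h3 := hmod _ f (nsys_sub hE hf) x (Subgroup.mem_zpowers x)
      have h4 := hfg x (Subgroup.mem_zpowers x)
      have hfN := hf.mem (Subgroup.mem_zpowers x)
      refine (hmemi Q hQN _).2 ⟨_, h3, ?_⟩
      rw [tt_mul ι (Subgroup.inv_mem _ hxN) hfN, tt_inv ι hxN, h4]
    · intro X hX hQX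
      let Y : Subgroup Ω := (X.comap ι).map (normalizerIn S P).subtype
      have hYN : Y ≤ normalizerIn S P := Subgroup.map_subtype_le _
      have hmY : ∀ y ∈ normalizerIn S P, y ∈ Y ↔ tt ι y ∈ X := by
        intro y hy
        constructor
        · rintro ⟨z, hz, rfl⟩
          rw [show (normalizerIn S P).subtype z = (z : Ω) from rfl, tt_apply]; exact hz
        · intro h
          rw [tt_of_mem ι hy] at h
          exact ⟨⟨y, hy⟩, h, rfl⟩
      have hQY : Q ⊔ Y = S := by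
        refine le_antisymm (sup_le hQS (hYN.trans nrm_le)) fun s hs => ?_
        have hsN := hSn hs
        have h5 : tt ι s ∈ im' Q ⊔ X := by rw [hQX]; exact (hTm _).2 ⟨s, hsN, rfl⟩
        obtain ⟨a, ha, b, hb, hab⟩ := Subgroup.mem_sup_of_normal_left.1 h5
        obtain ⟨q, hq, rfl⟩ := (hmemi Q hQN a).1 ha
        have h6 : tt ι (q⁻¹ * s) = b := by
          rw [tt_mul ι (Subgroup.inv_mem _ (hQN hq)) hsN, tt_inv ι (hQN hq), ← hab]; group
        have h7 : q⁻¹ * s ∈ Y := (hmY _ (Subgroup.mul_mem _ (Subgroup.inv_mem _ (hQN hq)) hsN)).2 (by rw [h6]; exact hb)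
        have h8 : s = q * (q⁻¹ * s) := by group
        rw [h8]
        exact Subgroup.mul_mem_sup hq h7
      have hYS := hfrat Y (hYN.trans nrm_le) hQY
      refine le_antisymm hX fun g hg => ?_
      obtain ⟨x, hx, rfl⟩ := (hTm g).1 hg
      exact (hmY x hx).1 (by rw [hYS]; exact nrm_le hx)
  have hi := (mem_autGroup_iff hPS).1 hα
  have hEm : Map E P (totA α) := nsys_of_ge hE le_rfl hPN hi.map hi.im_eq
  obtain ⟨g, hg⟩ := hMD.map_real hEm
  obtain ⟨s, hs, rfl⟩ := (hTm g).1 (by rw [htop]; trivial)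
  refine mem_autGroup_of (f := fun x => s * x * s⁻¹) (map_inner_iff.2 ⟨hPS, s, nrm_le hs, fun x hx => rfl⟩) fun x => ?_
  have hxN := hPN x.2
  have h9 := hg x x.2
  rw [totA_apply] at h9
  apply tt_inj hMD.inj (hPN (α x).2) (Subgroup.mul_mem _ (Subgroup.mul_mem _ hs hxN) (Subgroup.inv_mem _ hs))
  rw [h9, tt_conj ι hs hxN]

end

end Cfsg.Agent.H27.Fus
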