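import Mathlib
import Cfsg.Agent.H27_LG6

/-! Lifting classes of maps through factor systems. -/

set_option autoImplicit false
universe u v w
namespace Cfsg.Agent.H27.Fus

open Cfsg Cfsg.FusionSystem Cfsg.Agent.H27.Grp

section
variable {Ω : Type*} [Group Ω] {S T : Subgroup Ω} {F : FusionSystem S} {P Q R V : Subgroup Ω} {p : ℕ} {f g : Ω → Ω}
variable {Ω' : Type*} [Group Ω'] {S' V' : Subgroup Ω'}

theorem SubCls.mono {C : Subgroup Ω → (Ω → Ω) → Prop} (hC : SubCls F C) {E : FusionSystem R}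
    (hsub : ∀ P f, Map E P f → Map F P f) : SubCls E C where
  congr := hC.congr
  restrict := hC.restrict
  comp := fun hf hg h1 h2 hm => hC.comp (hsub _ _ hf) (hsub _ _ hg) h1 h2 hm
  inv := fun hi h => hC.inv (⟨hsub _ _ hi.map, hi.maps, hi.surj⟩) h

variable [Fact p.Prime] [Finite S]

theorem KT'_isPGroup (hS : IsPGroup p S) (hPS : P ≤ S) (hQs : F.StronglyClosed Q) (hQP : Q ≤ P)
    (hsc : ∀ P f, Map F P f → SCmap F Q P f) : IsPGroup p (KT' F P Q) := by
  obtain ⟨n, hn⟩ := exists_pow_card hS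
  apply isPGroup_of_pow
  intro γ hγ
  obtain ⟨hγ1, hγ2⟩ := mem_KT'.1 hγ
  have hγm := ((mem_autGroup_iff hPS).1 hγ1).map
  obtain ⟨k, hk, hkf, s, hs, hks⟩ := hsc P _ hγm
  have hγQ : ∀ x : P, (x : Ω) ∈ Q → (γ x : Ω) = s * x * s⁻¹ := by
    intro x hx
    rw [← hks x hx, hkf x x.2, totA_apply]
  have hpow : ∀ m : ℕ, ∀ x : P, (x : Ω) ∈ Q → ((γ ^ m) x : Ω) = s ^ m * x * (s ^ m)⁻¹ := by
    intro m
    induction m with
    | zero => intro x hx; simp
    | succ m ih =>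
      intro x hx
      rw [pow_succ, MulAut.mul_apply]
      have h1 : ((γ x : P) : Ω) ∈ Q := by
        rw [hγQ x hx]; exact StronglyClosed.conj_mem hQs hs hx
      rw [ih _ h1, hγQ x hx, pow_succ]; group
  obtain ⟨k', hk'⟩ := exists_pow_step (p := p) (P := P) (α := γ) (A := P) (B := Q) ⟨n, fun x hx => hn x (hPS hx)⟩ hQP
    ⟨n, fun x hx => Subtype.ext (by rw [hpow _ x hx, hn s hs]; group)⟩ (fun x _ => hγ2 x)
  exact ⟨k', fun x => hk' x x.2⟩

theorem lift_step (hQ : F.IsNormal Q) {θ : S →* Ω'} {E : FusionSystem S'} (hE : F.IsFactorSystem Q θ E)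
    {C : Subgroup Ω → (Ω → Ω) → Prop} (hC : SubCls F C) (hinn : ∀ P ≤ S, ∀ s ∈ S, C P (fun x => s * x * s⁻¹))
    (h : ∀ P' f', Map E P' f' → ∃ g, Map F (preimageAlong θ P') g ∧
      (∀ x ∈ preimageAlong θ P', f' (tt θ x) = tt θ (g x)) ∧ C (preimageAlong θ P') g)
    (hPS : P ≤ S) (hQP : Q ≤ P) (hX : KT' F P Q ≤ autInducedBy S P) (hf : Iso F P P f) : C P f := by
  obtain ⟨hd, hm⟩ := isFactorSystem_iff.1 hE
  have hQs := IsNormal.strong hQ
  haveI : Finite P := finite_of_le hPS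
  have hpreP : preimageAlong θ (imageAlong θ P) = P := by
    rw [pre_image hd hPS, sup_eq_left.2 hQP]
  have hP'S : imageAlong θ P ≤ S' := imageAlong_le hd hPS
  obtain ⟨f', hf', hind⟩ := exists_ind_map hE hQs hP'S (by rw [hpreP]; exact hf.map)
  rw [hpreP] at hind
  obtain ⟨g, hg, hgind, hgC⟩ := h _ f' hf'
  rw [hpreP] at hg hgind hgC
  have hθf : ∀ x ∈ P, tt θ (g x) = tt θ (f x) := by
    intro x hx
    rw [← hgind x hx, ← hind x hx]
  have hgP : ∀ x ∈ P, g x ∈ P := by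
    intro x hx
    have h1 := hθf x hx
    rw [hd.eq_iff (hg.mem hx) (hf.map.mem hx)] at h1
    have h2 : f x ∈ P := hf.maps x hx
    have := P.mul_mem h2 (hQP h1)
    rwa [mul_inv_cancel_left] at this
  have hgi : Iso F P P g := iso_of_card_le hg hgP le_rfl
  have hc : hgi.aut⁻¹ * hf.aut ∈ KT' F P Q := by
    rw [mem_KT']
    refine ⟨(F.autGroup P).mul_mem ((F.autGroup P).inv_mem hgi.aut_mem) hf.aut_mem, fun x => ?_⟩
    set c := (hgi.aut⁻¹ * hf.aut) x with hcdef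
    have h1 : hgi.aut c = hf.aut x := by
      rw [hcdef, MulAut.mul_apply]
      change (hgi.aut * hgi.aut⁻¹) (hf.aut x) = _
      rw [mul_inv_cancel]; rfl
    have h2 : g c = f x := congrArg Subtype.val h1
    have hQinv : g ((x : Ω)⁻¹ * c) ∈ Q := by
      rw [hgi.map.mul (P.inv_mem x.2) c.2, hgi.map.inv x.2, h2]
      have h3 := hθf x x.2
      rw [eq_comm, hd.eq_iff (hf.map.mem x.2) (hgi.map.mem x.2)] at h3
      exact h3
    exact (StronglyClosed.mem_iff hQs hgi.map (P.mul_mem (P.inv_mem x.2) c.2)).1 hQinv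
  obtain ⟨y, hy, hyx⟩ := mem_autInducedBy.1 (hX hc)
  have hfg : ∀ x ∈ P, f x = g (y * x * y⁻¹) := by
    intro x hx
    have h1 := hyx ⟨x, hx⟩
    set c := (hgi.aut⁻¹ * hf.aut) ⟨x, hx⟩ with hcdef
    have h2 : hgi.aut c = hf.aut ⟨x, hx⟩ := by
      rw [hcdef, MulAut.mul_apply]
      change (hgi.aut * hgi.aut⁻¹) (hf.aut ⟨x, hx⟩) = _
      rw [mul_inv_cancel]; rfl
    have h3 : g c = f x := congrArg Subtype.val h2
    rw [← h3, h1]
  have hyP : ∀ x ∈ P, y * x * y⁻¹ ∈ P := fun x hx => by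
    have h1 := hyx ⟨x, hx⟩
    rw [← h1]; exact SetLike.coe_mem _
  refine hC.congr (hC.comp (map_conj F hPS hy) hg (hinn P hPS y hy) hgC hyP) fun x hx => ?_
  rw [Function.comp_apply, ← hfg x hx]

theorem lift_cls (hS : IsPGroup p S) (hF : F.IsSaturated p) (hQ : F.IsNormal Q)
    (hsc : ∀ P f, Map F P f → SCmap F Q P f) {θ : S →* Ω'} {E : FusionSystem S'} (hE : F.IsFactorSystem Q θ E)
    {C : Subgroup Ω → (Ω → Ω) → Prop} (hC : SubCls F C) (hinn : ∀ P ≤ S, ∀ s ∈ S, C P (fun x => s * x * s⁻¹))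
    (h : ∀ P' f', Map E P' f' → ∃ g, Map F (preimageAlong θ P') g ∧
      (∀ x ∈ preimageAlong θ P', f' (tt θ x) = tt θ (g x)) ∧ C (preimageAlong θ P') g) :
    ∀ P f, Map F P f → C P f := by
  have hQs := IsNormal.strong hQ
  have hQS := hQs.1
  refine alperin hS hF hC (fun f hf => ?_) (fun P hP f hf => ?_)
  · refine lift_step hQ hE hC hinn h le_rfl hQS ?_ hf
    have h1 := fn_automized hS hF (fn_top F)
    have hp1 := KT'_isPGroup (F := F) hS le_rfl hQs hQS hsc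
    obtain ⟨α, hα, h2⟩ := conj_into h1 KT'_le hp1
    have hn := KT'_normal (F := F) (R := S) le_rfl hQs
    intro κ hκ
    have h3 : α⁻¹ * κ * α⁻¹⁻¹ ∈ KT' F S Q := (Subgroup.mem_normalizer_iff.1 (hn ((F.autGroup S).inv_mem hα)) κ).1 hκ
    have h4 := h2 _ h3
    have h5 : α * (α⁻¹ * κ * α⁻¹⁻¹) * α⁻¹ = κ := by group
    rwa [h5] at h4
  · have hPc := hP.1
    have hPS := hPc.1
    have hrad := essential_radical hS hP
    have hQP : Q ≤ P := normal_le_radical hS hQ hPc hrad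
    refine lift_step hQ hE hC hinn h hPS hQP ?_ hf
    have hXp := KT'_isPGroup (F := F) hS hPS hQs hQP hsc
    have hXn := KT'_normal (F := F) hPS hQs
    refine le_trans ?_ (inn_le_autInducedBy hPS)
    rw [← hrad.2]
    intro γ hγ
    have h1 : ((KT' F P Q).subgroupOf (F.autGroup P)).Normal := by
      refine ⟨fun a ha b => ?_⟩
      rw [Subgroup.mem_subgroupOf] at ha ⊢
      exact (Subgroup.mem_normalizer_iff.1 (hXn b.2) _).1 ha
    have h2 : IsPGroup p ((KT' F P Q).subgroupOf (F.autGroup P)) := hXp.comap_subtype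
    exact ⟨⟨γ, KT'_le hγ⟩, le_pCore h1 h2 hγ, rfl⟩

omit [Fact p.Prime] in
/-- the pushed class is closed -/
theorem subCls_push (hQ : F.IsNormal Q) {θ : S →* Ω'} {E : FusionSystem S'} (hE : F.IsFactorSystem Q θ E)
    {C : Subgroup Ω → (Ω → Ω) → Prop} (hC : SubCls F C) : SubCls E (fun P' f' => ∃ g, Map F (preimageAlong θ P') g ∧
      (∀ x ∈ preimageAlong θ P', f' (tt θ x) = tt θ (g x)) ∧ C (preimageAlong θ P') g) := by
  obtain ⟨hd, hm⟩ := isFactorSystem_iff.1 hE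
  have hQs := IsNormal.strong hQ
  have hmono : ∀ {P' Q' : Subgroup Ω'}, Q' ≤ P' → preimageAlong θ Q' ≤ preimageAlong θ P' := fun h x hx =>
    (mem_preimageAlong θ).2 ⟨((mem_preimageAlong θ).1 hx).1, h ((mem_preimageAlong θ).1 hx).2⟩
  refine ⟨?_, ?_, ?_, ?_⟩
  · rintro P' f' g' ⟨g, h1, h2, h3⟩ hfg
    exact ⟨g, h1, fun x hx => by rw [← hfg _ ((mem_preimageAlong θ).1 hx).2]; exact h2 x hx, h3⟩
  · rintro P' Q' f' ⟨g, h1, h2, h3⟩ hle
    exact ⟨g, h1.mono (hmono hle), fun x hx => h2 x (hmono hle hx), hC.restrict h3 (hmono hle)⟩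
  · rintro P' Q' f' g' hf' hg' ⟨f, h1, h2, h3⟩ ⟨g, h4, h5, h6⟩ hmaps
    have hm' : ∀ x ∈ preimageAlong θ P', f x ∈ preimageAlong θ Q' := fun x hx => by
      refine (mem_preimageAlong θ).2 ⟨h1.mem hx, ?_⟩
      rw [← h2 x hx]
      exact hmaps _ ((mem_preimageAlong θ).1 hx).2
    refine ⟨g ∘ f, h4.comp h1 hm', fun x hx => ?_, hC.comp h1 h4 h3 h6 hm'⟩
    rw [Function.comp_apply, Function.comp_apply, h2 x hx, h5 _ (hm' x hx)]
  · rintro P' Q' f' hi ⟨g, h1, h2, h3⟩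
    have hP'S := hi.le
    have hQ'S := hi.le'
    have hgm : ∀ x ∈ preimageAlong θ P', g x ∈ preimageAlong θ Q' := fun x hx => by
      refine (mem_preimageAlong θ).2 ⟨h1.mem hx, ?_⟩
      rw [← h2 x hx]
      exact hi.maps _ ((mem_preimageAlong θ).1 hx).2
    have hgs : ∀ y ∈ preimageAlong θ Q', ∃ x ∈ preimageAlong θ P', g x = y := by
      intro y hy
      obtain ⟨hyS, hyQ⟩ := (mem_preimageAlong θ).1 hy
      obtain ⟨x', hx', hxy⟩ := hi.surj _ hyQ
      obtain ⟨x, hx, rfl⟩ := hd.pre_surj hP'S hx'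
      rw [h2 x hx] at hxy
      -- `g x ≡ y mod Q`, correct by `Q = g Q`
      rw [eq_comm, hd.eq_iff hyS (h1.mem hx)] at hxy
      have hQP : Q ≤ preimageAlong θ P' := hd.le_pre P'
      have hgQ : im Q g = Q := StronglyClosed.im_eq hQs h1 hQP
      rw [← hgQ, (h1.mono hQP).mem_im] at hxy
      obtain ⟨q, hq, hqe⟩ := hxy
      refine ⟨x * q, Subgroup.mul_mem _ hx (hQP hq), ?_⟩
      rw [h1.mul hx (hQP hq), hqe]; group
    have hgi : Iso F (preimageAlong θ P') (preimageAlong θ Q') g := ⟨h1, hgm, hgs⟩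
    refine ⟨finv (preimageAlong θ P') g, hgi.symm.map, fun y hy => ?_, hC.inv hgi h3⟩
    have h7 := hgi.finv_mem hy
    have h8 := hgi.finv_right hy
    have h9 := h2 _ h7
    rw [h8] at h9
    have h10 := hi.finv_left ((mem_preimageAlong θ).1 h7).2
    rw [h9] at h10
    exact h10

end

end Cfsg.Agent.H27.Fus
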