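import Mathlib
import Cfsg.Agent.H2_MaxClass
import Cfsg.Agent.H27_FusAlp
import Cfsg.Agent.H27_FusNorm
import Cfsg.Agent.H27_FusFac2

/-! maximal class: the centralizer of the second centre -/

set_option autoImplicit false
set_option linter.unusedVariables false
set_option linter.unusedSectionVars false

namespace Cfsg.Agent.H27.Fus
open Cfsg Cfsg.FusionSystem Cfsg.Agent.H27.Grp

section grp
variable {G : Type*} [Group G] [Finite G] {p : ℕ} [Fact p.Prime]

theorem mc_grp {n : ℕ} (hn : Nat.card G = p ^ n) (h4 : 4 ≤ n)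
    (hmax : (⊤ : Subgroup G).lowerCentralSeries (n - 2) ≠ ⊥) :
    Nat.card (Subgroup.center G) = p ∧ ∃ v ∈ Subgroup.upperCentralSeries G 2, v ∉ Subgroup.center G ∧
      ∀ x ∈ Subgroup.upperCentralSeries G 2, ∃ k : ℤ, (v ^ k)⁻¹ * x ∈ Subgroup.center G := by
  have hpg : IsPGroup p G := IsPGroup.of_card hn
  have hnil : Group.IsNilpotent G := hpg.isNilpotent
  have hcl : Group.nilpotencyClass G = n - 1 := by
    have h1 := H2.MaxClass.class_le (p := p) n G hn (by omega)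
    rw [Ne, Subgroup.lowerCentralSeries_eq_bot_iff_nilpotencyClass_le] at hmax
    omega
  obtain ⟨h1, h2, h3⟩ := H2.MaxClass.center_of_max (p := p) hn (by omega) hcl
  obtain ⟨h5, -, -⟩ := H2.MaxClass.center_of_max (p := p) h2 (by omega) (by omega)
  refine ⟨h1, ?_⟩
  have hmem : ∀ x : G, x ∈ Subgroup.upperCentralSeries G 2 ↔ (x : G ⧸ Subgroup.center G) ∈ Subgroup.center (G ⧸ Subgroup.center G) := by
    intro x
    rw [show (2 : ℕ) = 1 + 1 from rfl, Subgroup.mem_upperCentralSeries_succ_iff, Subgroup.upperCentralSeries_one,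
      Subgroup.mem_center_iff]
    constructor
    · intro h y
      obtain ⟨y, rfl⟩ := QuotientGroup.mk_surjective y
      have h6 := h y
      rw [← QuotientGroup.mk_mul, ← QuotientGroup.mk_mul, QuotientGroup.eq]
      rw [commutatorElement_def] at h6
      have h7 := Subgroup.Normal.conj_mem (inferInstance : (Subgroup.center G).Normal) _ h6 (x * y)⁻¹
      have h8 : (x * y)⁻¹ * (x * y * x⁻¹ * y⁻¹) * ((x * y)⁻¹)⁻¹ = (y * x)⁻¹ * (x * y) := by group
      rw [h8] at h7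
      exact h7
    · intro h y
      have h6 := h (y : G ⧸ Subgroup.center G)
      rw [← QuotientGroup.mk_mul, ← QuotientGroup.mk_mul, QuotientGroup.eq] at h6
      have h7 := Subgroup.Normal.conj_mem (inferInstance : (Subgroup.center G).Normal) _ h6 (x * y)
      have h8 : (x * y) * ((y * x)⁻¹ * (x * y)) * (x * y)⁻¹ = x * y * x⁻¹ * y⁻¹ := by group
      rw [h8] at h7
      rw [commutatorElement_def]
      exact h7
  haveI : Fact (Nat.card (Subgroup.center (G ⧸ Subgroup.center G))).Prime := ⟨by rw [h5]; exact Fact.out⟩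
  have hne : ∃ c : Subgroup.center (G ⧸ Subgroup.center G), c ≠ 1 := by
    by_contra hcon
    push Not at hcon
    have h6 : Nat.card (Subgroup.center (G ⧸ Subgroup.center G)) = 1 := by
      rw [Nat.card_eq_one_iff_unique]
      exact ⟨⟨fun a b => (hcon a).trans (hcon b).symm⟩, ⟨1⟩⟩
    rw [h5] at h6
    exact (Fact.out : p.Prime).one_lt.ne' h6
  obtain ⟨⟨c, hc⟩, hc1⟩ := hne
  obtain ⟨v, rfl⟩ := QuotientGroup.mk_surjective c
  refine ⟨v, (hmem v).2 hc, fun h => hc1 (Subtype.ext ((QuotientGroup.eq_one_iff v).2 h)), fun x hx => ?_⟩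
  have h6 := mem_zpowers_of_prime_card (p := p) (G := Subgroup.center (G ⧸ Subgroup.center G)) h5 hc1 (g' := ⟨_, (hmem x).1 hx⟩)
  obtain ⟨k, hk⟩ := Subgroup.mem_zpowers_iff.1 h6
  refine ⟨k, ?_⟩
  have h7 := congrArg Subtype.val hk
  have h8 : ((v ^ k : G) : G ⧸ Subgroup.center G) = (x : G ⧸ Subgroup.center G) := h7
  exact (QuotientGroup.eq).1 h8

end grp

section
variable {Ω : Type*} [Group Ω] {S : Subgroup Ω} {F : FusionSystem S} {p : ℕ} [Fact p.Prime] [Finite S]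

theorem fn_of_normal {R : Subgroup Ω} (hRS : R ≤ S) (hR : S ≤ normalizerIn S R) : F.IsFullyNormalized R := by
  have h3 : normalizerIn S R = S := le_antisymm nrm_le hR
  refine ⟨hRS, fun Q _ => ?_⟩
  rw [h3]; exact card_le_of_le nrm_le

theorem cen_Z2_essential (hS : IsPGroup p S) (hF : F.IsSaturated p) {V Z : Subgroup Ω} (hVS : V ≤ S)
    (hZV : Z ≤ V) (hZ : ∀ x, x ∈ Z ↔ x ∈ S ∧ ∀ s ∈ S, s * x = x * s) (hZc : Nat.card Z = p)
    (hcomm : ∀ x ∈ V, ∀ s ∈ S, s * x * s⁻¹ * x⁻¹ ∈ Z) {v : Ω} (hv : v ∈ V) (hvZ : v ∉ Z)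
    (hgen : ∀ x ∈ V, ∃ k : ℤ, (v ^ k)⁻¹ * x ∈ Z) {f : Ω → Ω} (hf : Iso F V V f) {z : Ω} (hz : z ∈ Z) (hfz : f z ∉ Z) :
    F.IsEssential p (centralizerIn S V) := by
  set C := centralizerIn S V with hC
  have hZS : Z ≤ S := hZV.trans hVS
  have hCS : C ≤ S := cen_le
  -- `V` is abelian
  have hvx : ∀ x ∈ V, v * x = x * v := by
    intro x hx
    obtain ⟨k, hk⟩ := hgen x hx
    have h1 := ((hZ _).1 hk).2 v (hVS hv)
    have h2 : x = v ^ k * ((v ^ k)⁻¹ * x) := by group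
    calc v * x = v * (v ^ k * ((v ^ k)⁻¹ * x)) := by rw [← h2]
      _ = v ^ k * (v * ((v ^ k)⁻¹ * x)) := by
          rw [← mul_assoc, ((Commute.refl v).zpow_right k).eq, mul_assoc]
      _ = v ^ k * (((v ^ k)⁻¹ * x) * v) := by rw [h1]
      _ = x * v := by group
  have hcenv : ∀ s ∈ S, s * v = v * s → s ∈ C := by
    intro s hs h
    refine mem_cen.2 ⟨hs, fun x hx => ?_⟩
    obtain ⟨k, hk⟩ := hgen x hx
    have h1 := ((hZ _).1 hk).2 s hs
    have h2 : x = v ^ k * ((v ^ k)⁻¹ * x) := by group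
    have h3 : s * v ^ k = v ^ k * s := (show Commute s v from h).zpow_right k
    calc x * s = v ^ k * (((v ^ k)⁻¹ * x) * s) := by group
      _ = v ^ k * (s * ((v ^ k)⁻¹ * x)) := by rw [h1]
      _ = s * v ^ k * ((v ^ k)⁻¹ * x) := by rw [h3, mul_assoc]
      _ = s * x := by rw [mul_assoc, ← h2]
  have hVC : V ≤ C := by
    intro x hx
    exact hcenv x (hVS hx) (hvx x hx).symm
  -- `C` is maximal in `S`
  have hmaxl : ∀ R, C < R → R ≤ S → R = S := by
    intro R hCR hRS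
    obtain ⟨r, hr, hrC⟩ := SetLike.exists_of_lt hCR
    refine le_antisymm hRS fun s hs => ?_
    set l : Ω → Ω := fun s => s * v * s⁻¹ * v⁻¹ with hl
    have hlZ : ∀ s ∈ S, l s ∈ Z := fun s hs => hcomm v hv s hs
    have hlm : ∀ a ∈ S, ∀ b ∈ S, l (a * b) = l a * l b := by
      intro a ha b hb
      have h1 := ((hZ _).1 (hlZ b hb)).2 a ha
      have h2 := ((hZ _).1 (hlZ b hb)).2 (l a) (hZS (hlZ a ha))
      show a * b * v * (a * b)⁻¹ * v⁻¹ = l a * l b
      calc a * b * v * (a * b)⁻¹ * v⁻¹ = (a * (b * v * b⁻¹ * v⁻¹)) * (v * a⁻¹ * v⁻¹) := by group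
        _ = ((b * v * b⁻¹ * v⁻¹) * a) * (v * a⁻¹ * v⁻¹) := by rw [h1]
        _ = l b * l a := by simp only [hl]; group
        _ = l a * l b := h2.symm
    let L : S →* Z := MonoidHom.mk' (fun s => ⟨l s, hlZ s s.2⟩) fun a b => Subtype.ext (hlm a a.2 b b.2)
    have hLr : L ⟨r, hRS hr⟩ ≠ 1 := by
      intro h
      have h1 : r * v * r⁻¹ * v⁻¹ = 1 := congrArg Subtype.val h
      refine hrC (hcenv r (hRS hr) ?_)
      have h2 : r * v * r⁻¹ = v := mul_inv_eq_one.1 h1
      calc r * v = r * v * r⁻¹ * r := by group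
        _ = v * r := by rw [h2]
    obtain ⟨k, hk⟩ := Subgroup.mem_zpowers_iff.1 (mem_zpowers_of_prime_card (p := p) (G := Z) hZc hLr (g' := L ⟨s, hs⟩))
    have h3 : L ((⟨r, hRS hr⟩ : S) ^ (-k) * ⟨s, hs⟩) = 1 := by
      rw [map_mul, map_zpow, ← hk]; group
    have h4 := congrArg Subtype.val h3
    have h5 : (r ^ (-k) * s) * v * (r ^ (-k) * s)⁻¹ * v⁻¹ = 1 := h4
    have h6 : r ^ (-k) * s ∈ S := S.mul_mem (S.zpow_mem (hRS hr) _) hs
    have h7 : r ^ (-k) * s ∈ C := by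
      refine hcenv _ h6 ?_
      have h2 : (r ^ (-k) * s) * v * (r ^ (-k) * s)⁻¹ = v := mul_inv_eq_one.1 h5
      calc (r ^ (-k) * s) * v = (r ^ (-k) * s) * v * (r ^ (-k) * s)⁻¹ * (r ^ (-k) * s) := by group
        _ = v * (r ^ (-k) * s) := by rw [h2]
    have h8 : s = r ^ k * (r ^ (-k) * s) := by group
    rw [h8]
    exact R.mul_mem (R.zpow_mem hr k) (hCR.le h7)
  have hCltS : C < S := by
    refine lt_of_le_of_ne hCS fun h => hvZ ((hZ v).2 ⟨hVS hv, fun s hs => ?_⟩)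
    rw [← h] at hs
    exact ((mem_cen.1 hs).2 v hv).symm
  -- normality
  have hVn : ∀ s ∈ S, ∀ x ∈ V, s * x * s⁻¹ ∈ V := by
    intro s hs x hx
    have h1 := V.mul_mem (hZV (hcomm x hx s hs)) hx
    have h2 : s * x * s⁻¹ * x⁻¹ * x = s * x * s⁻¹ := by group
    rwa [h2] at h1
  have hVfn : F.IsFullyNormalized V := fn_of_normal hVS fun s hs => mem_nrm_of_forall hVS hs (hVn s hs)
  have hCfn : F.IsFullyNormalized C := fn_of_normal hCS fun s hs => mem_nrm_of_forall hCS hs fun x hx => by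
    refine mem_cen.2 ⟨S.mul_mem (S.mul_mem hs (hCS hx)) (S.inv_mem hs), fun y hy => ?_⟩
    have h1 := hVn s⁻¹ (S.inv_mem hs) y hy
    rw [inv_inv] at h1
    have h2 := (mem_cen.1 hx).2 _ h1
    calc y * (s * x * s⁻¹) = s * ((s⁻¹ * y * s) * x) * s⁻¹ := by group
      _ = s * (x * (s⁻¹ * y * s)) * s⁻¹ := by rw [h2]
      _ = s * x * s⁻¹ * y := by group
  -- extend `f`
  obtain ⟨g, hg, hgf⟩ := receptive_ext' (fn_receptive hS hF hVfn) hf (N := C) cen_le_ext
  have hgf' : ∀ x ∈ V, g x = f x := by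
    intro x hx
    exact hgf x hx
  have himV : im V g = V := by rw [im_congr hgf', hf.im_eq]
  have hgC : ∀ x ∈ C, g x ∈ C := by
    intro x hx
    have h1 := hg.cen_mem hVC hx hx
    rwa [himV] at h1
  haveI : Finite C := finite_of_le hCS
  have hgi : Iso F C C g := hg.iso_of_im_eq (Subgroup.eq_of_le_of_card_ge ((im_le_iff hg).2 hgC) (by rw [hg.card_im]))
  have hα := hgi.aut_mem
  rcases Hext_dichotomy hS hF hCltS hCfn with ⟨-, h2⟩ | ⟨h1, -⟩
  · exfalso
    have h3 : Hext F C ≤ StA C Z := by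
      unfold Hext
      rw [Subgroup.closure_le]
      intro β hβ
      obtain ⟨R, h, hCR, hh, hhβ⟩ := mem_Hext_gen.1 hβ
      have hR := hmaxl R hCR hh.le
      rw [hR] at hh
      have himS : im S h = S := Subgroup.eq_of_le_of_card_ge hh.im_le (by rw [hh.card_im])
      have hi : Iso F S S h := hh.iso_of_im_eq himS
      have key : ∀ {h : Ω → Ω}, Iso F S S h → ∀ x ∈ Z, h x ∈ Z := by
        intro h hi x hx
        refine (hZ _).2 ⟨hi.map.mem (hZS hx), fun s hs => ?_⟩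
        have h4 := hi.finv_mem hs
        have h5 := congrArg h (((hZ _).1 hx).2 _ h4)
        rwa [hi.map.mul h4 (hZS hx), hi.map.mul (hZS hx) h4, hi.finv_right hs] at h5
      refine mem_StA.2 fun x => ?_
      rw [← hhβ x]
      constructor
      · intro h4
        have h5 := key hi.symm _ h4
        rwa [hi.finv_left (hCS x.2)] at h5
      · intro h4; exact key hi _ h4
    have h4 := h3 (h2.symm ▸ hα)
    have h5 := (mem_StA.1 h4 ⟨z, hVC (hZV hz)⟩).2 hz
    rw [hgi.aut_apply] at h5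
    exact hfz (hgf' z (hZV hz) ▸ h5)
  · exact h1

end

end Cfsg.Agent.H27.Fus
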