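import Mathlib
import Cfsg.Agent.H27_Rs6
import Cfsg.Agent.H27_FusHypG

/-! Normal subsystems of the system of a strictly `p`-constrained group. -/

set_option autoImplicit false
set_option linter.all false

namespace Cfsg.Agent.H27.Ng

open Cfsg Cfsg.FusionSystem Cfsg.Agent.H27.Fus Cfsg.Agent.H27.Grp Cfsg.Agent.H27.Ix Cfsg.Agent.H27.Sc Cfsg.Agent.H27.Pp

universe u

section
variable {Ω : Type u} [Group Ω] {S T Y : Subgroup Ω} {P Q R C : Subgroup Ω} {f g : Ω → Ω} {p : ℕ}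

theorem TrG_conj' {w d : MulAut Q} (hw : w ∈ TrG P Q) (hd : ∀ y : Q, (y : Ω) ∈ P → ((d y : Q) : Ω) ∈ P) : d * w * d⁻¹ ∈ TrG P Q := by
  intro x
  set z := d⁻¹ x with hz
  have hx : x = d z := by rw [hz, MulAut.apply_inv_self]
  have e : (d * w * d⁻¹) x = d (w z) := rfl
  have h2 : (((z⁻¹ * w z : Q)) : Ω) ∈ P := hw z
  have h3 := hd _ h2
  rw [map_mul, map_inv, ← hx] at h3
  rw [e]
  exact h3

theorem FxG_conj' {w d : MulAut Q} (hw : w ∈ FxG P Q) (hd : ∀ y : Q, (y : Ω) ∈ P → ((d⁻¹ y : Q) : Ω) ∈ P) : d * w * d⁻¹ ∈ FxG P Q := by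
  intro x hx
  have e : (d * w * d⁻¹) x = d (w (d⁻¹ x)) := rfl
  rw [e, hw _ (hd x hx), MulAut.apply_inv_self]

/-- `p`-elements of `S` inducing elements of `Aut_E(P)` -/
theorem nk_act [Fact p.Prime] [Finite S] (hS : IsPGroup p S) {E : FusionSystem T} (hTS : T ≤ S) (hE : E.IsSaturated p)
    (hP : E.IsFullyNormalized P) {s : Ω} (hs : s ∈ NK S P (E.autGroup P)) : ∃ t ∈ normalizerIn T P, ∀ x ∈ P, s * x * s⁻¹ = t * x * t⁻¹ := by
  have hfT : Finite T := finite_of_le hTS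
  have hPT : P ≤ T := hP.1
  obtain ⟨-, R, hR⟩ := fn_automized (hS.to_le hTS) hE hP
  have hfA : Finite (E.autGroup P) := finite_autGroup hPT
  have hsyl : IsSyl p (autInducedBy T P) (E.autGroup P) := (isSyl_iff (autInducedBy_le_autGroup E hPT)).2 ⟨R, hR⟩
  have hle : autInducedBy T P ≤ autInducedBy (NK S P (E.autGroup P)) P := by
    intro α hα
    obtain ⟨t, ht, h⟩ := mem_autInducedBy.1 hα
    have hn := autInducedBy_norm (K := T) h
    refine mem_autInducedBy.2 ⟨t, ⟨⟨hTS ht, hn⟩, α, autInducedBy_le_autGroup E hPT hα, h⟩, h⟩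
  have hle2 : autInducedBy (NK S P (E.autGroup P)) P ≤ E.autGroup P := by
    intro α hα
    obtain ⟨t, ht, h⟩ := mem_autInducedBy.1 hα
    obtain ⟨-, β, hβ, h'⟩ := ht
    have : α = β := by
      ext x; rw [h, h']
    rw [this]; exact hβ
  have hpg : IsPGroup p (autInducedBy (NK S P (E.autGroup P)) P) :=
    (isPGroup_autInducedBy (P := P) hS).to_le (autInducedBy_mono NK_le)
  have heq := hsyl.eq_of_le hle2 hpg hle
  have hn : s ∈ Subgroup.normalizer (P : Set Ω) := hs.1.2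
  have h1 : cjA P s hn ∈ autInducedBy T P := by
    rw [heq]; exact cjA_mem hn hs
  obtain ⟨t, ht, h⟩ := mem_autInducedBy.1 h1
  have h2 : ∀ x : P, s * (x : Ω) * s⁻¹ = t * x * t⁻¹ := fun x => by rw [← h x, cjA_apply]
  exact ⟨t, ⟨ht, autInducedBy_norm (K := T) h⟩, fun x hx => h2 ⟨x, hx⟩⟩

/-- the automorphisms of `T` in `D` fixing a centric normal subgroup are inner -/
theorem fix_inn [Fact p.Prime] [Finite T] (hT : IsPGroup p T) {D : FusionSystem T} (hD : D.IsSaturated p) (hPT : P ≤ T)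
    (hPn : ∀ α ∈ D.autGroup T, ∀ y : T, (y : Ω) ∈ P → ((α y : T) : Ω) ∈ P) (hc : centralizerIn T P ≤ P)
    {κ : MulAut T} (hκ : κ ∈ D.autGroup T) (hfx : κ ∈ FxG P T) : κ ∈ Inn T := by
  have hfP := finite_of_le hPT
  have htr : ∀ κ ∈ D.autGroup T, κ ∈ FxG P T → κ ∈ TrG P T := by
    intro κ hκ hfx t
    have hinn : ∀ t : T, (t : Ω) ∈ T := fun t => t.2
    refine hc (mem_cen.2 ⟨T.mul_mem (T.inv_mem t.2) (κ t).2, fun y hy => ?_⟩)
    have hcj : autInducedBy T T ≤ D.autGroup T := autInducedBy_le_autGroup D le_rfl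
    have hn : (t : Ω) ∈ Subgroup.normalizer (T : Set Ω) := Subgroup.le_normalizer t.2
    have h1 := hPn _ (hcj (cjA_mem hn t.2)) ⟨y, hPT hy⟩ hy
    rw [cjA_apply] at h1
    have h2 := hfx (t * ⟨y, hPT hy⟩ * t⁻¹) h1
    rw [map_mul, map_mul, map_inv, hfx ⟨y, hPT hy⟩ hy] at h2
    have h3 : (κ t : Ω) * y * (κ t : Ω)⁻¹ = t * y * (t : Ω)⁻¹ := congrArg Subtype.val h2
    have h4 : y * ((t : Ω)⁻¹ * (κ t : T)) = (t : Ω)⁻¹ * (t * y * (t : Ω)⁻¹) * (κ t : T) := by group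
    rw [h4, ← h3]; group
  set W : Subgroup (MulAut T) := D.autGroup T ⊓ FxG P T with hW
  have hWp : IsPGroup p W := tr_fx_pgroup (hT.to_le hPT) (fun w hw => htr w hw.1 hw.2) inf_le_right
  obtain ⟨-, R, hR⟩ := fn_automized hT hD (fn_top D)
  have hfA : Finite (D.autGroup T) := finite_autGroup le_rfl
  have hsyl : IsSyl p (autInducedBy T T) (D.autGroup T) := (isSyl_iff (autInducedBy_le_autGroup D le_rfl)).2 ⟨R, hR⟩
  have hn : D.autGroup T ≤ Subgroup.normalizer (W : Set (MulAut T)) := le_normalizer_of fun a ha w hw =>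
    ⟨(D.autGroup T).mul_mem ((D.autGroup T).mul_mem ha hw.1) ((D.autGroup T).inv_mem ha),
      FxG_conj' hw.2 (hPn _ ((D.autGroup T).inv_mem ha))⟩
  have h5 := hsyl.normal_le inf_le_left hn hWp ⟨hκ, hfx⟩
  rwa [autInducedBy_self] at h5

end

open scoped commutatorElement

section
variable {G : Type u} [Group G] [Finite G] {p : ℕ} [Fact p.Prime] {S T Q Q₀ : Subgroup G}

theorem top_le_nrm {N : Subgroup G} (hN : N.Normal) : ⊤ ≤ Subgroup.normalizer (N : Set G) :=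
  le_normalizer_of fun a _ x hx => hN.conj_mem x hx a

theorem comap_conj_normal (N : Subgroup G) [hN : N.Normal] {A : Subgroup (MulAut N)}
    (h : ∀ (x : G), ∀ a ∈ A, MulAut.conjNormal x * a * (MulAut.conjNormal x)⁻¹ ∈ A) :
    (A.comap (MulAut.conjNormal (H := N))).Normal := by
  refine ⟨fun n hn g => ?_⟩
  rw [Subgroup.mem_comap] at hn ⊢
  rw [map_mul, map_mul, map_inv]
  exact h g _ hn

/-- elements centralizing `Q₀` and `Q` modulo `Q₀` lie in `Q` -/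
theorem mem_core (hC : Subgroup.centralizer (pCore p G : Set G) ≤ pCore p G) [hQ₀ : Q₀.Normal] (hle : Q₀ ≤ pCore p G) {g : G}
    (h1 : ∀ x ∈ Q₀, g * x * g⁻¹ = x) (h2 : ∀ q ∈ pCore p G, q⁻¹ * (g * q * g⁻¹) ∈ Q₀) : g ∈ pCore p G := by
  have hQn := pCore_normal' p G
  set Q := pCore p G with hQ
  have hQp : IsPGroup p Q := isPGroup_pCore' p G
  set N : Subgroup G := (TrG Q₀ Q ⊓ FxG Q₀ Q).comap (MulAut.conjNormal (H := Q)) with hN
  have hNn : N.Normal := by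
    refine comap_conj_normal Q fun x a ha => ⟨TrG_conj' ha.1 fun y hy => ?_, FxG_conj' ha.2 fun y hy => ?_⟩
    · rw [MulAut.conjNormal_apply]; exact hQ₀.conj_mem _ hy x
    · rw [← map_inv, MulAut.conjNormal_apply]; exact hQ₀.conj_mem _ hy x⁻¹
  have hW : IsPGroup p ↥(TrG Q₀ Q ⊓ FxG Q₀ Q) := tr_fx_pgroup (hQp.to_le hle) inf_le_left inf_le_right
  have hNp : IsPGroup p N := by
    rintro ⟨n, hn⟩
    obtain ⟨k, hk⟩ := hW ⟨MulAut.conjNormal n, hn⟩
    have hk' : MulAut.conjNormal (H := Q) (n ^ p ^ k) = 1 := by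
      rw [map_pow]; exact congrArg Subtype.val hk
    have h3 : n ^ p ^ k ∈ Q := by
      refine hC (Subgroup.mem_centralizer_iff.2 fun q hq => ?_)
      have h4 : ((MulAut.conjNormal (H := Q) (n ^ p ^ k) ⟨q, hq⟩ : Q) : G) = q := by rw [hk']; rfl
      rw [MulAut.conjNormal_apply] at h4
      rw [mul_inv_eq_iff_eq_mul] at h4
      exact h4.symm
    obtain ⟨m, hm⟩ := hQp ⟨_, h3⟩
    refine ⟨k + m, Subtype.ext ?_⟩
    have h5 : (n ^ p ^ k) ^ p ^ m = 1 := congrArg Subtype.val hm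
    show n ^ p ^ (k + m) = 1
    rw [pow_add, pow_mul, h5]
  refine Grp.le_pCore hNn hNp ?_
  rw [hN, Subgroup.mem_comap]
  refine ⟨fun x => ?_, fun x hx => Subtype.ext ?_⟩
  · rw [MulAut.conjNormal_apply]; exact h2 x x.2
  · rw [MulAut.conjNormal_apply]; exact h1 x hx

variable {E : FusionSystem T}

theorem core_le (hS : IsSyl p S ⊤) : pCore p G ≤ S :=
  hS.normal_le le_top (le_normalizer_of fun a _ x hx => (pCore_normal' p G).conj_mem x hx a) (isPGroup_pCore' p G)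

/-- strong closure in group terms -/
theorem sc_mem (hT : (groupFusionSystem S).StronglyClosed T) {x g : G} (hx : x ∈ T) (h : g * x * g⁻¹ ∈ S) : g * x * g⁻¹ ∈ T := by
  have hm : Map (groupFusionSystem S) (Subgroup.zpowers x) (fun y => g * y * g⁻¹) := by
    refine map_gfs.2 ⟨Subgroup.zpowers_le.2 (hT.1 hx), fun y hy => ?_, g, fun y _ => rfl⟩
    obtain ⟨n, rfl⟩ := Subgroup.mem_zpowers_iff.1 hy
    show g * x ^ n * g⁻¹ ∈ S
    have e : g * x ^ n * g⁻¹ = (g * x * g⁻¹) ^ n := by rw [conj_zpow]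
    rw [e]; exact S.zpow_mem h n
  exact (StronglyClosed.mem_iff hT hm (Subgroup.mem_zpowers x)).2 hx

theorem inf_normal (hS : IsSyl p S ⊤) (hT : (groupFusionSystem S).StronglyClosed T) : (T ⊓ pCore p G).Normal := by
  have hQn := pCore_normal' p G
  refine ⟨fun x hx g => ?_⟩
  have h1 := hQn.conj_mem x hx.2 g
  exact ⟨sc_mem hT hx.1 (core_le hS h1), h1⟩

theorem conj_T (hT : (groupFusionSystem S).StronglyClosed T) {s t : G} (hs : s ∈ S) (ht : t ∈ T) : s * t * s⁻¹ ∈ T :=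
  StronglyClosed.conj_mem hT hs ht

theorem cen_inf_le (hS : IsSyl p S ⊤) (hT : (groupFusionSystem S).StronglyClosed T)
    (hC : Subgroup.centralizer (pCore p G : Set G) ≤ pCore p G) : centralizerIn T (T ⊓ pCore p G) ≤ T ⊓ pCore p G := by
  intro c hc
  have hQn := pCore_normal' p G
  have hn := inf_normal hS hT
  refine ⟨hc.1, mem_core hC inf_le_right (fun x hx => cen_conj hc hx) fun q hq => ⟨?_, ?_⟩⟩
  · have h1 := conj_T hT (S.inv_mem (core_le hS hq)) hc.1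
    have e : q⁻¹ * (c * q * c⁻¹) = q⁻¹ * c * q⁻¹⁻¹ * c⁻¹ := by group
    rw [e]; exact T.mul_mem h1 (T.inv_mem hc.1)
  · exact (pCore p G).mul_mem ((pCore p G).inv_mem hq) (hQn.conj_mem q hq c)

/-- `p`-elements of `O^p(K)` lie in the commutator subgroup of `K` -/
theorem opR_comm {K : Subgroup G} [hK : K.Normal] {x : G} (hx : x ∈ opR p K) {n : ℕ} (hxp : x ^ p ^ n = 1) : x ∈ ⁅K, K⁆ := by
  set m := Nat.card G / p ^ (Nat.card G).factorization p with hm
  have hmc : m.Coprime p := (Nat.coprime_ordCompl (Fact.out : p.Prime) Nat.card_pos.ne').symm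
  let π := QuotientGroup.mk' (⁅K, K⁆ : Subgroup G)
  have hcom : ∀ a ∈ K, ∀ b ∈ K, Commute (π a) (π b) := by
    intro a ha b hb
    have h1 : ⁅a, b⁆ ∈ ⁅K, K⁆ := Subgroup.commutator_mem_commutator ha hb
    have h2 : π ⁅a, b⁆ = 1 := (QuotientGroup.eq_one_iff _).2 h1
    rw [map_commutatorElement, commutatorElement_eq_one_iff_mul_comm] at h2
    exact h2
  have key : x ∈ K ∧ π x ^ m = 1 := by
    clear hxp
    rw [opR_eq] at hx
    induction hx using Subgroup.closure_induction with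
    | mem a ha =>
      refine ⟨ha.1, ?_⟩
      have h1 : orderOf a ∣ m := by
        have h2 : orderOf a ∣ p ^ (Nat.card G).factorization p * m := by
          rw [hm, Nat.ordProj_mul_ordCompl_eq_self]; exact orderOf_dvd_natCard a
        exact (Nat.Coprime.pow_right _ ha.2).dvd_of_dvd_mul_left h2
      rw [← map_pow, orderOf_dvd_iff_pow_eq_one.1 h1, map_one]
    | one => exact ⟨K.one_mem, by simp⟩
    | mul a b _ _ iha ihb =>
      refine ⟨K.mul_mem iha.1 ihb.1, ?_⟩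
      rw [map_mul, (hcom a iha.1 b ihb.1).mul_pow, iha.2, ihb.2, one_mul]
    | inv a _ iha => exact ⟨K.inv_mem iha.1, by rw [map_inv, inv_pow, iha.2, inv_one]⟩
  have h1 : π x = 1 := by
    have h2 : orderOf (π x) ∣ m := orderOf_dvd_of_pow_eq_one key.2
    have h3 : orderOf (π x) ∣ p ^ n := orderOf_dvd_of_pow_eq_one (by rw [← map_pow, hxp, map_one])
    have h4 : orderOf (π x) ∣ 1 := by
      have := Nat.dvd_gcd h2 h3
      rwa [Nat.Coprime.gcd_eq_one (Nat.Coprime.pow_right n hmc)] at this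
    exact orderOf_eq_one_iff.1 (Nat.dvd_one.1 h4)
  exact (QuotientGroup.eq_one_iff _).1 h1

/-- the normal subgroup `K₁` of elements inducing `Aut_E(T ⊓ Q)` and acting trivially on `Q/(T ⊓ Q)` -/
def K1 (E : FusionSystem T) (p : ℕ) (hn : (T ⊓ pCore p G).Normal) (hQ : (pCore p G).Normal) : Subgroup G :=
  (E.autGroup (T ⊓ pCore p G)).comap (MulAut.conjNormal (H := T ⊓ pCore p G)) ⊓
    (TrG (T ⊓ pCore p G) (pCore p G)).comap (MulAut.conjNormal (H := pCore p G))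

theorem mem_K1 {hn : (T ⊓ pCore p G).Normal} {hQ : (pCore p G).Normal} {g : G} :
    g ∈ K1 E p hn hQ ↔ Map E (T ⊓ pCore p G) (fun x => g * x * g⁻¹) ∧ ∀ q ∈ pCore p G, q⁻¹ * (g * q * g⁻¹) ∈ T ⊓ pCore p G := by
  constructor
  · rintro ⟨h1, h2⟩
    refine ⟨map_of_mem_autGroup inf_le_left h1 fun x => MulAut.conjNormal_apply _ _, fun q hq => ?_⟩
    have := h2 ⟨q, hq⟩
    rwa [MulAut.conjNormal_apply] at this
  · rintro ⟨h1, h2⟩
    refine ⟨mem_autGroup_of h1 fun x => MulAut.conjNormal_apply _ _, fun x => ?_⟩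
    rw [MulAut.conjNormal_apply]; exact h2 x x.2

theorem K1_normal (hI : Inv E (groupFusionSystem S)) (hS : IsSyl p S ⊤) {hn : (T ⊓ pCore p G).Normal} {hQ : (pCore p G).Normal} :
    (K1 E p hn hQ).Normal := by
  have hTS := hI.strong.1
  have h1 : ((E.autGroup (T ⊓ pCore p G)).comap (MulAut.conjNormal (H := T ⊓ pCore p G))).Normal := by
    refine comap_conj_normal _ fun x a ha => ?_
    refine SInv.conj_mem hI.sub hTS hI.sinv inf_le_left ?_ ha
    rw [autGroup_gfs (inf_le_left.trans hTS)]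
    exact mem_autInducedBy.2 ⟨x, trivial, fun y => MulAut.conjNormal_apply _ _⟩
  have h2 : ((TrG (T ⊓ pCore p G) (pCore p G)).comap (MulAut.conjNormal (H := pCore p G))).Normal := by
    refine comap_conj_normal _ fun x a ha => TrG_conj' ha fun y hy => ?_
    rw [MulAut.conjNormal_apply]; exact hn.conj_mem _ hy x
  exact Subgroup.normal_inf_normal _ _

theorem T_le_K1 (hI : Inv E (groupFusionSystem S)) (hS : IsSyl p S ⊤) {hn : (T ⊓ pCore p G).Normal} {hQ : (pCore p G).Normal} :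
    T ≤ K1 E p hn hQ := by
  intro t ht
  refine mem_K1.2 ⟨(map_conj E le_rfl ht).mono inf_le_left, fun q hq => ⟨?_, ?_⟩⟩
  · have h1 := conj_T hI.strong (S.inv_mem (core_le hS hq)) ht
    have e : q⁻¹ * (t * q * t⁻¹) = q⁻¹ * t * q⁻¹⁻¹ * t⁻¹ := by group
    rw [e]; exact T.mul_mem h1 (T.inv_mem ht)
  · exact (pCore p G).mul_mem ((pCore p G).inv_mem hq) (hQ.conj_mem q hq t)

/-- decomposition of the elements of `S ⊓ K₁` -/
theorem sigma_dec (hE : E.IsSaturated p) (hI : Inv E (groupFusionSystem S)) (hS : IsSyl p S ⊤)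
    (hC : Subgroup.centralizer (pCore p G : Set G) ≤ pCore p G) {hn : (T ⊓ pCore p G).Normal} {hQ : (pCore p G).Normal}
    {s : G} (hs : s ∈ S) (hs1 : s ∈ K1 E p hn hQ) : ∃ t ∈ T, t⁻¹ * s ∈ pCore p G := by
  have hTS := hI.strong.1
  have h1 := mem_K1.1 hs1
  have hfn : E.IsFullyNormalized (T ⊓ pCore p G) := by
    refine ⟨inf_le_left, fun R hR => ?_⟩
    obtain ⟨f, hf⟩ := isConj_iff.1 hR
    obtain ⟨-, -, g, hg⟩ := map_gfs.1 (hI.sub _ _ hf.map)
    have : R = T ⊓ pCore p G := by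
      rw [← hf.im_eq, im_congr hg]
      have hm : Map (groupFusionSystem S) (T ⊓ pCore p G) (fun x => g * x * g⁻¹) := (hI.sub _ _ hf.map).congr hg
      refine Grp.eq_of_le_of_card_le (fun y hy => ?_) hm.card_im.ge
      obtain ⟨x, hx, rfl⟩ := hm.mem_im.1 hy
      exact hn.conj_mem x hx g
    rw [this]
  have hN : s ∈ NK S (T ⊓ pCore p G) (E.autGroup (T ⊓ pCore p G)) := by
    refine ⟨⟨hs, ?_⟩, _, hs1.1, fun x => MulAut.conjNormal_apply _ _⟩
    exact top_le_nrm hn trivial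
  obtain ⟨t, ht, h2⟩ := nk_act hS.isPGroup hTS hE hfn hN
  have h3 := (K1 E p hn hQ).mul_mem ((K1 E p hn hQ).inv_mem (T_le_K1 hI hS ht.1)) hs1
  refine ⟨t, ht.1, mem_core hC inf_le_right (fun x hx => ?_) (mem_K1.1 h3).2⟩
  have e : t⁻¹ * s * x * (t⁻¹ * s)⁻¹ = t⁻¹ * (s * x * s⁻¹) * t := by group
  rw [e, h2 x hx]; group

theorem sigma_conj (hE : E.IsSaturated p) (hI : Inv E (groupFusionSystem S)) (hS : IsSyl p S ⊤)
    (hC : Subgroup.centralizer (pCore p G : Set G) ≤ pCore p G) {hn : (T ⊓ pCore p G).Normal} {hQ : (pCore p G).Normal}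
    {s k : G} (hs : s ∈ S) (hs1 : s ∈ K1 E p hn hQ) (hk : k ∈ K1 E p hn hQ) (h : k * s * k⁻¹ ∈ S) : s⁻¹ * (k * s * k⁻¹) ∈ T := by
  obtain ⟨t, ht, hy⟩ := sigma_dec hE hI hS hC hs hs1
  set y := t⁻¹ * s with hy'
  have hT := hI.strong
  have h1 := ((mem_K1.1 hk).2 y hy).1
  have hyS := core_le hS hy
  have e1 : k * t * k⁻¹ = (k * s * k⁻¹) * (y * (y⁻¹ * (k * y * k⁻¹)))⁻¹ := by rw [hy']; group
  have h2 : k * t * k⁻¹ ∈ S := by
    rw [e1]; exact S.mul_mem h (S.inv_mem (S.mul_mem hyS (hT.1 h1)))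
  have h3 := sc_mem hT ht h2
  have e2 : s⁻¹ * (k * s * k⁻¹) = (y⁻¹ * (t⁻¹ * (k * t * k⁻¹)) * y⁻¹⁻¹) * (y⁻¹ * (k * y * k⁻¹)) := by rw [hy']; group
  rw [e2]
  exact T.mul_mem (conj_T hT (S.inv_mem hyS) (T.mul_mem (T.inv_mem ht) h3)) h1

theorem opR_inf (hE : E.IsSaturated p) (hI : Inv E (groupFusionSystem S)) (hS : IsSyl p S ⊤)
    (hC : Subgroup.centralizer (pCore p G : Set G) ≤ pCore p G) {hn : (T ⊓ pCore p G).Normal} {hQ : (pCore p G).Normal} :
    S ⊓ opR p (K1 E p hn hQ) ≤ T := by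
  intro x hx
  have hK := K1_normal (hn := hn) (hQ := hQ) hI hS
  have hsyl : IsSyl p (S ⊓ K1 E p hn hQ) (K1 E p hn hQ) := hS.inf le_top (top_le_nrm hK)
  obtain ⟨n, hn'⟩ := hS.isPGroup ⟨x, hx.1⟩
  have h1 : x ∈ ⁅K1 E p hn hQ, K1 E p hn hQ⁆ := opR_comm hx.2 (congrArg Subtype.val hn')
  have h2 : x ∈ (fusionSystemOfSubgroup (K1 E p hn hQ) (S ⊓ K1 E p hn hQ) hsyl.le).focalSubgroup := by
    rw [foc_fss hsyl]; exact ⟨⟨hx.1, opR_le _ hx.2⟩, h1⟩
  rw [foc_eq] at h2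
  refine (Subgroup.closure_le _).2 ?_ h2
  rintro _ ⟨P, f, hf, z, hz, rfl⟩
  obtain ⟨k1, k2, k, hk, k3⟩ := map_fss.1 hf
  rw [k3 z hz]
  exact sigma_conj hE hI hS hC (k1 hz).1 (k1 hz).2 hk (by rw [← k3 z hz]; exact (k2 z hz).1)

end

end Cfsg.Agent.H27.Ng
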