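import Mathlib
import Cfsg.Agent.H27_Ng1
import Cfsg.Agent.H27_Pp7
import Cfsg.Agent.H27_FusInv3
import Cfsg.Agent.H27_Rs1

/-! Normal subsystems of the system of a strictly `p`-constrained group, part two. -/

set_option autoImplicit false
set_option linter.all false

namespace Cfsg.Agent.H27.Ng

open Cfsg Cfsg.FusionSystem Cfsg.Agent.H27.Fus Cfsg.Agent.H27.Grp Cfsg.Agent.H27.Ix Cfsg.Agent.H27.Sc Cfsg.Agent.H27.Pp

universe u

section
variable {Ω : Type u} [Group Ω] {S T Y : Subgroup Ω} {P Q R C : Subgroup Ω} {f g : Ω → Ω} {p : ℕ}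
variable {F : FusionSystem S} {E D : FusionSystem T} [Fact p.Prime] [Finite S]

/-- two invariant subsystems over `T` compare by their automorphisms of `T` -/
theorem le_of_top (hS : IsPGroup p S) (hE : E.IsSaturated p) (hIE : Inv E F) (hD : D.IsSaturated p) (hID : Inv D F)
    (h : E.autGroup T ≤ D.autGroup T) : ∀ P f, Map E P f → Map D P f := by
  have hTS := hIE.strong.1
  have hT := finite_of_le hTS
  intro P f hf
  obtain ⟨α, hα, g, hg, h1⟩ := frat_gen (hS.to_le hTS) hE fam_centric P f hf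
  have h2 : Map D P g := gen_le (fun R hR => opp_le_inv (hS.to_le hTS) hID hE hIE.sub hR.1) hg
  have h3 := (mem_autGroup_iff le_rfl).1 (h hα)
  exact (h3.map.comp h2 fun x hx => h2.mem hx).congr fun x hx => (h1 x hx).symm

end

section
variable {G : Type u} [Group G] [Finite G] {p : ℕ} [Fact p.Prime] {S T : Subgroup G} {E : FusionSystem T}

def HH (E : FusionSystem T) (p : ℕ) (hn : (T ⊓ pCore p G).Normal) (hQ : (pCore p G).Normal) : Subgroup G :=
  T ⊔ opR p (K1 E p hn hQ)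

variable {hn : (T ⊓ pCore p G).Normal} {hQ : (pCore p G).Normal}

theorem opR_normal {K : Subgroup G} (hK : K.Normal) : (opR p K).Normal := by
  refine ⟨fun x hx g => ?_⟩
  have h1 : g * x * g⁻¹ ∈ cj g (opR p K) := conj_mem_cj hx
  rw [cj_opR] at h1
  have h2 : cj g K = K := by
    refine Grp.eq_of_le_of_card_le (cj_le.2 fun a ha => hK.conj_mem a ha g) (card_cj g K).ge
  rwa [h2] at h1

theorem mem_HH (hI : Inv E (groupFusionSystem S)) (hS : IsSyl p S ⊤) {x : G} : x ∈ HH E p hn hQ ↔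
    ∃ t ∈ T, ∃ b ∈ opR p (K1 E p hn hQ), t * b = x := by
  constructor
  · intro hx
    exact mem_sup_nrm (le_normalizer_of fun a _ x hx => (opR_normal (K1_normal hI hS)).conj_mem x hx a) hx
  · rintro ⟨t, ht, b, hb, rfl⟩
    exact Subgroup.mul_mem_sup ht hb

theorem HH_normal (hE : E.IsSaturated p) (hI : Inv E (groupFusionSystem S)) (hS : IsSyl p S ⊤)
    (hC : Subgroup.centralizer (pCore p G : Set G) ≤ pCore p G) : (HH E p hn hQ).Normal := by
  have hK : (K1 E p hn hQ).Normal := K1_normal hI hS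
  have hO := opR_normal (p := p) hK
  have hT := hI.strong
  have hsyl : IsSyl p (S ⊓ K1 E p hn hQ) (K1 E p hn hQ) := hS.inf le_top (top_le_nrm hK)
  refine ⟨fun x hx g => ?_⟩
  obtain ⟨t, ht, b, hb, rfl⟩ := (mem_HH hI hS).1 hx
  have e : g * (t * b) * g⁻¹ = (g * t * g⁻¹) * (g * b * g⁻¹) := by group
  rw [e]
  refine (HH E p hn hQ).mul_mem ?_ (Subgroup.mem_sup_right (hO.conj_mem b hb g))
  have h1 : cj g T ≤ K1 E p hn hQ := cj_le.2 fun a ha => hK.conj_mem a (T_le_K1 hI hS ha) g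
  have hTp : IsPGroup p T := hS.isPGroup.to_le hT.1
  obtain ⟨k, hk, h2⟩ := hsyl.conj h1 (isPGroup_cj hTp)
  have h3 : k * (g * t * g⁻¹) * k⁻¹ ∈ T := by
    have h4 : k * (g * t * g⁻¹) * k⁻¹ ∈ S := (h2 (conj_mem_cj (conj_mem_cj ht))).1
    have e : k * (g * t * g⁻¹) * k⁻¹ = (k * g) * t * (k * g)⁻¹ := by group
    rw [e] at h4 ⊢
    exact sc_mem hT ht h4
  obtain ⟨c, hc, s, hs, rfl⟩ := exists_opR_mul hsyl hk
  set t' := c * s * (g * t * g⁻¹) * (c * s)⁻¹ with ht'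
  have h5 : g * t * g⁻¹ = (s⁻¹ * t' * s⁻¹⁻¹) * (s⁻¹ * ((t'⁻¹ * c⁻¹ * t'⁻¹⁻¹) * c) * s⁻¹⁻¹) := by rw [ht']; group
  rw [h5]
  refine (HH E p hn hQ).mul_mem (Subgroup.mem_sup_left (conj_T hT (S.inv_mem hs.1) h3)) (Subgroup.mem_sup_right ?_)
  refine hO.conj_mem _ ((opR p (K1 E p hn hQ)).mul_mem (hO.conj_mem _ ((opR p (K1 E p hn hQ)).inv_mem hc) _) hc) _

theorem S_inf_HH (hE : E.IsSaturated p) (hI : Inv E (groupFusionSystem S)) (hS : IsSyl p S ⊤)
    (hC : Subgroup.centralizer (pCore p G : Set G) ≤ pCore p G) : S ⊓ HH E p hn hQ = T := by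
  have hT := hI.strong
  refine le_antisymm ?_ (le_inf hT.1 le_sup_left)
  intro x hx
  obtain ⟨t, ht, b, hb, rfl⟩ := (mem_HH hI hS).1 hx.2
  refine T.mul_mem ht (opR_inf hE hI hS hC ⟨?_, hb⟩)
  have e : b = t⁻¹ * (t * b) := by group
  rw [e]; exact S.mul_mem (S.inv_mem (hT.1 ht)) hx.1

theorem HH_le (hI : Inv E (groupFusionSystem S)) (hS : IsSyl p S ⊤) : HH E p hn hQ ≤ K1 E p hn hQ :=
  sup_le (T_le_K1 hI hS) (opR_le _)

theorem normal_fss' (hS : IsSyl p S ⊤) {H : Subgroup G} [hH : H.Normal] (h : S ⊓ H = T) :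
    ∃ hTH : T ≤ H, (fusionSystemOfSubgroup H T hTH).IsNormalIn (groupFusionSystem S) p := by
  subst h
  exact ⟨inf_le_right, normal_fss hS H⟩

/-- uniqueness -/
theorem HH_unique (hE : E.IsSaturated p) (hI : Inv E (groupFusionSystem S)) (hS : IsSyl p S ⊤)
    (hC : Subgroup.centralizer (pCore p G : Set G) ≤ pCore p G) {H : Subgroup G} (hH : H.Normal) (hTH : IsSyl p T H)
    (h : ∀ P f, Map E P f ↔ Map (fusionSystemOfSubgroup H T hTH.le) P f) : H = HH E p hn hQ := by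
  have hT := hI.strong
  have hinf : S ⊓ H = T := (hTH.eq_of_le inf_le_right (hS.isPGroup.to_le inf_le_left) (le_inf hT.1 hTH.le)).symm
  have hHK : H ≤ K1 E p hn hQ := by
    intro x hx
    refine mem_K1.2 ⟨(h _ _).2 (map_fss.2 ⟨inf_le_left, fun y hy => (hn.conj_mem y hy x).1, x, hx, fun y _ => rfl⟩), fun q hq => ?_⟩
    have h1 : q⁻¹ * (x * q * x⁻¹) ∈ pCore p G := (pCore p G).mul_mem ((pCore p G).inv_mem hq) (hQ.conj_mem q hq x)
    refine ⟨?_, h1⟩
    rw [← hinf]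
    refine ⟨core_le hS h1, ?_⟩
    have e : q⁻¹ * (x * q * x⁻¹) = (q⁻¹ * x * q⁻¹⁻¹) * x⁻¹ := by group
    rw [e]; exact H.mul_mem (hH.conj_mem x hx q⁻¹) (H.inv_mem hx)
  apply le_antisymm
  · intro x hx
    obtain ⟨b, hb, t, ht, rfl⟩ := exists_opR_mul hTH hx
    exact (HH E p hn hQ).mul_mem (Subgroup.mem_sup_right (opR_mono hHK hb)) (Subgroup.mem_sup_left ht)
  · refine sup_le hTH.le ?_
    rw [opR_eq, Subgroup.closure_le]
    rintro k ⟨hk, hko⟩
    obtain ⟨-, -, x, hx, h1⟩ := map_fss.1 ((h _ _).1 (mem_K1.1 hk).1)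
    have h2 : x⁻¹ * k ∈ pCore p G := by
      refine mem_core hC inf_le_right (fun y hy => ?_) (mem_K1.1 ((K1 E p hn hQ).mul_mem ((K1 E p hn hQ).inv_mem (hHK hx)) hk)).2
      have e : x⁻¹ * k * y * (x⁻¹ * k)⁻¹ = x⁻¹ * (k * y * k⁻¹) * x := by group
      have h3 : k * y * k⁻¹ = x * y * x⁻¹ := h1 y hy
      rw [e, h3]; group
    -- work in the quotient
    have h3 : QuotientGroup.mk' H k = QuotientGroup.mk' H (x⁻¹ * k) := by
      have hx1 : QuotientGroup.mk' H x = 1 := (QuotientGroup.eq_one_iff (N := H) x).2 hx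
      rw [map_mul, map_inv, hx1, inv_one, one_mul]
    obtain ⟨n, hn'⟩ := isPGroup_pCore' p G ⟨_, h2⟩
    have h4 : (x⁻¹ * k) ^ p ^ n = 1 := congrArg Subtype.val hn'
    have h5 : QuotientGroup.mk' H k = 1 := by
      have h6 : orderOf (QuotientGroup.mk' H k) ∣ p ^ n := orderOf_dvd_of_pow_eq_one (by rw [h3, ← map_pow, h4, map_one])
      have h7 : orderOf (QuotientGroup.mk' H k) ∣ orderOf k := orderOf_map_dvd _ k
      have h8 := Nat.dvd_gcd h7 h6
      rw [Nat.Coprime.gcd_eq_one (Nat.Coprime.pow_right n hko)] at h8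
      exact orderOf_eq_one_iff.1 (Nat.dvd_one.1 h8)
    exact (QuotientGroup.eq_one_iff (N := H) k).1 h5

/-- `p'`-automorphisms of `T` in `E` come from `K₁` -/
theorem exists_k (hE : E.IsSaturated p) (hF : (groupFusionSystem S).IsSaturated p) (hI : Inv E (groupFusionSystem S))
    (hx : ExtCond E (groupFusionSystem S)) (hS : IsSyl p S ⊤)
    {φ : MulAut T} (hφ : φ ∈ E.autGroup T) (ho : (orderOf φ).Coprime p) :
    ∃ k ∈ opR p (K1 E p hn hQ), ∀ t : T, (φ t : G) = k * t * k⁻¹ := by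
  have hT := hI.strong
  have hTS := hT.1
  have hSp := hS.isPGroup
  have hfT : Finite T := finite_of_le hTS
  obtain ⟨b, hb, hb1, hb2⟩ := hx _ ((mem_autGroup_iff le_rfl).1 hφ)
  set R := T ⊔ centralizerIn S T with hR
  have hRS : R ≤ S := sup_le hTS cen_le
  obtain ⟨-, -, g, hg⟩ := map_gfs.1 hb.map
  obtain ⟨j, hj1, hj2⟩ := coprime_pow (Fact.out : p.Prime) (orderOf_pos g) ho
  set k := g ^ j with hk
  have hφj : φ ^ j = φ := by
    conv_rhs => rw [← pow_one φ]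
    exact pow_eq_pow_iff_modEq.2 hj1
  have hgT : ∀ t : T, (φ t : G) = g * t * g⁻¹ := fun t => by
    rw [← hg t (Subgroup.mem_sup_left t.2), hb1 t t.2, totA_apply]
  have hkn : ∀ (n : ℕ) (t : T), ((φ ^ n) t : G) = g ^ n * t * (g ^ n)⁻¹ := by
    intro n
    induction n with
    | zero => intro t; simp
    | succ n ih =>
      intro t
      rw [pow_succ', MulAut.mul_apply, hgT, ih, pow_succ']; group
  have hkT : ∀ t : T, (φ t : G) = k * t * k⁻¹ := fun t => by rw [hk, ← hkn, hφj]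
  -- `R` is normalized by `g`, with `[R,g] ≤ T`
  have hbT : ∀ x ∈ R, x⁻¹ * b x ∈ T := by
    intro x hxR
    obtain ⟨t, ht, c, hc, rfl⟩ := (mem_PC le_rfl).1 hxR
    rw [hb.map.mul (Subgroup.mem_sup_left ht) (Subgroup.mem_sup_right hc), hb1 t ht]
    have h5 := T.mul_mem (T.inv_mem ht) (totA_mem (α := φ) ht)
    have h6 : t⁻¹ * totA φ t * c = c * (t⁻¹ * totA φ t) := cn_comm hc h5
    have e : (t * c)⁻¹ * (totA φ t * b c) = c⁻¹ * (t⁻¹ * totA φ t * c) * (c⁻¹ * b c) := by group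
    rw [e, h6, ← mul_assoc c⁻¹ c, inv_mul_cancel, one_mul]
    exact T.mul_mem h5 (hb2 c hc).1
  have hgR : ∀ x ∈ R, g * x * g⁻¹ ∈ R ∧ x⁻¹ * (g * x * g⁻¹) ∈ T := fun x hxR => by
    rw [← hg x hxR]; exact ⟨hb.maps x hxR, hbT x hxR⟩
  have hkR : ∀ (n : ℕ), ∀ x ∈ R, g ^ n * x * (g ^ n)⁻¹ ∈ R ∧ x⁻¹ * (g ^ n * x * (g ^ n)⁻¹) ∈ T := by
    intro n
    induction n with
    | zero => intro x hx; simp [hx, T.one_mem]
    | succ n ih =>
      intro x hxR
      obtain ⟨h1, h2⟩ := ih x hxR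
      obtain ⟨h3, h4⟩ := hgR _ h1
      have e : g ^ (n + 1) * x * (g ^ (n + 1))⁻¹ = g * (g ^ n * x * (g ^ n)⁻¹) * g⁻¹ := by rw [pow_succ']; group
      rw [e]
      refine ⟨h3, ?_⟩
      have := T.mul_mem h2 h4
      have e2 : x⁻¹ * (g ^ n * x * (g ^ n)⁻¹) * ((g ^ n * x * (g ^ n)⁻¹)⁻¹ * (g * (g ^ n * x * (g ^ n)⁻¹) * g⁻¹)) =
        x⁻¹ * (g * (g ^ n * x * (g ^ n)⁻¹) * g⁻¹) := by group
      rwa [e2] at this
  have hQS := core_le (p := p) hS
  -- commutators with `Q` lie in `R`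
  have hcomm : ∀ q ∈ pCore p G, q⁻¹ * (k * q * k⁻¹) ∈ R := by
    intro q hq
    have hqS := hQS hq
    have hsQ : q⁻¹ * (k * q * k⁻¹) ∈ pCore p G := (pCore p G).mul_mem ((pCore p G).inv_mem hq) (hQ.conj_mem q hq k)
    have hsS := hQS hsQ
    have hSn : ∀ s ∈ S, s ∈ Subgroup.normalizer (T : Set G) := fun s hs => (StronglyClosed.le_normalizer hT hs).2
    have hfn : E.IsFullyNormalized T := fn_top E
    have hq' : cjA T q⁻¹ (hSn _ (S.inv_mem hqS)) ∈ (groupFusionSystem S).autGroup T :=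
      autInducedBy_le_autGroup _ hTS (cjA_mem _ (S.inv_mem hqS))
    have h1 := SInv.conj_mem hI.sub hTS hI.sinv le_rfl hq' hφ
    have h2 := (E.autGroup T).mul_mem h1 ((E.autGroup T).inv_mem hφ)
    have hNK : q⁻¹ * (k * q * k⁻¹) ∈ NK S T (E.autGroup T) := by
      refine ⟨⟨hsS, hSn _ hsS⟩, _, h2, fun x => ?_⟩
      have hinv : ∀ y : T, ((φ⁻¹ y : T) : G) = k⁻¹ * y * k := fun y => by
        have := hkT (φ⁻¹ y)
        rw [MulAut.apply_inv_self] at this
        rw [this]; group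
      have hci : ∀ y : T, (((cjA T q⁻¹ (hSn _ (S.inv_mem hqS)))⁻¹ y : T) : G) = q * y * q⁻¹ := fun y => by
        have := cjA_apply (hSn _ (S.inv_mem hqS)) ((cjA T q⁻¹ (hSn _ (S.inv_mem hqS)))⁻¹ y)
        rw [MulAut.apply_inv_self] at this
        rw [this]; group
      rw [MulAut.mul_apply, MulAut.mul_apply, MulAut.mul_apply, cjA_apply, hkT, hci, hinv]; group
    obtain ⟨t, ht, h3⟩ := nk_act hSp hTS hE hfn hNK
    have h4 : t⁻¹ * (q⁻¹ * (k * q * k⁻¹)) ∈ centralizerIn S T := by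
      refine mem_cen.2 ⟨S.mul_mem (S.inv_mem (hTS ht.1)) hsS, fun y hy => ?_⟩
      have h5 := h3 y hy
      set s := q⁻¹ * (k * q * k⁻¹) with hs
      have e : t⁻¹ * s * y = t⁻¹ * (s * y * s⁻¹) * s := by group
      rw [e, h5]; group
    have e : q⁻¹ * (k * q * k⁻¹) = t * (t⁻¹ * (q⁻¹ * (k * q * k⁻¹))) := by group
    rw [e]; exact Subgroup.mul_mem_sup ht.1 h4
  have hkQ : ∀ q ∈ pCore p G, q⁻¹ * (k * q * k⁻¹) ∈ T := by
    intro q hq
    obtain ⟨n, hn'⟩ := IsPGroup.iff_card.1 (isPGroup_pCore' p G)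
    have hpw : ∃ n, ∀ x ∈ pCore p G, x ^ (p ^ n) = 1 := ⟨n, fun x hx => by
      have h1 : (⟨x, hx⟩ : pCore p G) ^ p ^ n = 1 := by rw [← hn']; exact pow_card_eq_one'
      exact congrArg Subtype.val h1⟩
    have hα : (orderOf (MulAut.conjNormal (H := pCore p G) k)).Coprime p :=
      Nat.Coprime.coprime_dvd_left (orderOf_map_dvd _ k) hj2
    have := coprime_step hpw hα (R := R) (H := T) (fun t ht h hh => conj_T hT (hRS ht) hh)
      (fun x => by rw [MulAut.conjNormal_apply]; exact hcomm x x.2)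
      (fun x hx => by rw [MulAut.conjNormal_apply]; exact (hkR j x hx).2) ⟨q, hq⟩
    rwa [MulAut.conjNormal_apply] at this
  refine ⟨k, mem_opR_of (mem_K1.2 ⟨?_, fun q hq => ⟨hkQ q hq, ?_⟩⟩) hj2, hkT⟩
  · have h1 := ((mem_autGroup_iff (F := E) le_rfl).1 hφ).map.mono (Q := T ⊓ pCore p G) inf_le_left
    exact h1.congr fun x hx => by rw [totA_of_mem _ hx.1, hkT]
  · exact (pCore p G).mul_mem ((pCore p G).inv_mem hq) (hQ.conj_mem q hq k)

theorem E_le_D (hE : E.IsSaturated p) (hF : (groupFusionSystem S).IsSaturated p) (hI : Inv E (groupFusionSystem S))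
    (hx : ExtCond E (groupFusionSystem S)) (hS : IsSyl p S ⊤) {hTH : T ≤ HH E p hn hQ}
    (hD : (fusionSystemOfSubgroup (HH E p hn hQ) T hTH).IsNormalIn (groupFusionSystem S) p) :
    ∀ P f, Map E P f → Map (fusionSystemOfSubgroup (HH E p hn hQ) T hTH) P f := by
  have hSp := hS.isPGroup
  have hTS := hI.strong.1
  have hfT : Finite T := finite_of_le hTS
  obtain ⟨hDs, -, hID, -⟩ := normalIn_iff.1 hD
  refine le_of_top hSp hE hI hDs hID ?_
  refine aut_le_of_res (hSp.to_le hTS) hE (fn_top E) ?_ (autInducedBy_le_autGroup _ le_rfl)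
  rw [opR_eq, Subgroup.closure_le]
  rintro φ ⟨hφ, ho⟩
  obtain ⟨k, hk, h1⟩ := exists_k (hn := hn) (hQ := hQ) hE hF hI hx hS hφ ho
  have h2 : Map (fusionSystemOfSubgroup (HH E p hn hQ) T hTH) T (fun x => k * x * k⁻¹) :=
    map_fss.2 ⟨le_rfl, fun x hx => by rw [← h1 ⟨x, hx⟩]; exact (φ ⟨x, hx⟩).2, k, Subgroup.mem_sup_right hk, fun x _ => rfl⟩
  exact mem_autGroup_of h2 fun x => h1 x

theorem D_le_E (hE : E.IsSaturated p) (hI : Inv E (groupFusionSystem S))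
    (hS : IsSyl p S ⊤) (hC : Subgroup.centralizer (pCore p G : Set G) ≤ pCore p G) {hTH : T ≤ HH E p hn hQ}
    (hD : (fusionSystemOfSubgroup (HH E p hn hQ) T hTH).IsNormalIn (groupFusionSystem S) p)
    (hED : ∀ P f, Map E P f → Map (fusionSystemOfSubgroup (HH E p hn hQ) T hTH) P f) :
    ∀ P f, Map (fusionSystemOfSubgroup (HH E p hn hQ) T hTH) P f → Map E P f := by
  have hSp := hS.isPGroup
  have hTS := hI.strong.1
  have hfT : Finite T := finite_of_le hTS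
  obtain ⟨hDs, -, hID, -⟩ := normalIn_iff.1 hD
  refine le_of_top hSp hDs hID hE hI ?_
  set Q₀ := T ⊓ pCore p G with hQ₀
  have hQT : Q₀ ≤ T := inf_le_left
  intro α hα
  have hα' := (mem_autGroup_iff le_rfl).1 hα
  obtain ⟨-, -, h, hh, h1⟩ := map_fss.1 hα'.map
  have h2 := (mem_K1.1 (HH_le hI hS hh)).1
  -- extend `c_h|Q₀` to `T` inside `E`
  have h2i : Iso E Q₀ Q₀ (fun x => h * x * h⁻¹) := by
    refine h2.iso_of_im_eq (Grp.eq_of_le_of_card_le (fun y hy => ?_) h2.card_im.ge)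
    obtain ⟨x, hx, rfl⟩ := h2.mem_im.1 hy
    exact hn.conj_mem x hx h
  have hfn : E.IsFullyNormalized Q₀ := by
    refine ⟨inf_le_left, fun R hR => ?_⟩
    obtain ⟨f, hf⟩ := isConj_iff.1 hR
    obtain ⟨-, -, g, hg⟩ := map_gfs.1 (hI.sub _ _ hf.map)
    have : R = T ⊓ pCore p G := by
      rw [← hf.im_eq, im_congr hg]
      have hm : Map (groupFusionSystem S) (T ⊓ pCore p G) (fun x => g * x * g⁻¹) := (hI.sub _ _ hf.map).congr hg
      refine Grp.eq_of_le_of_card_le (fun y hy => ?_) hm.card_im.ge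
      obtain ⟨x, hx, rfl⟩ := hm.mem_im.1 hy
      exact hn.conj_mem x hx g
    rw [this]
  have hrec := fn_receptive (hSp.to_le hTS) hE hfn
  have hTe : T ≤ ext T Q₀ (fun x => h * x * h⁻¹) := by
    intro t ht
    refine mem_ext.2 ⟨ht, ?_, h * t * h⁻¹, ?_, fun y hy => ?_⟩
    · exact top_le_nrm hn trivial
    · rw [← h1 t ht]; exact totA_mem ht
    · group
  obtain ⟨b, hb, hb1⟩ := receptive_ext' hrec h2i hTe
  have hbi : Iso E T T b := hb.iso_of_im_eq (Grp.eq_of_le_of_card_le hb.im_le hb.card_im.ge)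
  set β := hbi.aut with hβ
  have hβE : β ∈ E.autGroup T := hbi.aut_mem
  have hβD : β ∈ (fusionSystemOfSubgroup (HH E p hn hQ) T hTH).autGroup T := (autGroup_mono_of_sub hED le_rfl le_rfl) hβE
  have hκD := (Subgroup.mul_mem _ (Subgroup.inv_mem _ hβD) hα)
  have hfx : β⁻¹ * α ∈ FxG Q₀ T := by
    intro x hx
    have h3 : α x = β x := Subtype.ext (by
      show (α x : G) = b x
      rw [hb1 x hx, ← h1 x x.2, totA_apply])
    show β⁻¹ (α x) = x
    rw [h3, MulAut.inv_apply_self]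
  have hPn : ∀ α ∈ (fusionSystemOfSubgroup (HH E p hn hQ) T hTH).autGroup T, ∀ y : T, (y : G) ∈ Q₀ → ((α y : T) : G) ∈ Q₀ := by
    intro α hα y hy
    obtain ⟨-, -, h, hh, h1⟩ := map_fss.1 ((mem_autGroup_iff le_rfl).1 hα).map
    rw [← totA_apply, h1 y y.2]
    exact hn.conj_mem y hy h
  have h4 := fix_inn (hSp.to_le hTS) hDs hQT hPn (cen_inf_le hS hI.strong hC) hκD hfx
  have h5 : Inn T ≤ E.autGroup T := (inn_le_autInducedBy le_rfl).trans (autInducedBy_le_autGroup E le_rfl)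
  have h6 := (E.autGroup T).mul_mem hβE (h5 h4)
  rwa [mul_inv_cancel_left] at h6

theorem s5121 (hF : (groupFusionSystem S).IsSaturated p) (hS : IsSyl p S ⊤) (hC : Subgroup.centralizer (pCore p G : Set G) ≤ pCore p G)
    (hEF : E.IsNormalIn (groupFusionSystem S) p) :
    ∃ H : Subgroup G, H.Normal ∧ (∃ hTH : IsSyl p T H, ∀ P f, Map E P f ↔ Map (fusionSystemOfSubgroup H T hTH.le) P f) ∧
      ∀ H' : Subgroup G, H'.Normal → ∀ hTH' : IsSyl p T H', (∀ P f, Map E P f ↔ Map (fusionSystemOfSubgroup H' T hTH'.le) P f) →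
        H' = H := by
  obtain ⟨hE, -, hI, hx⟩ := normalIn_iff.1 hEF
  have hn := inf_normal hS hI.strong
  have hQ := pCore_normal' p G
  have hN := HH_normal (hn := hn) (hQ := hQ) hE hI hS hC
  have hinf := S_inf_HH (hn := hn) (hQ := hQ) hE hI hS hC
  have hsyl : IsSyl p T (HH E p hn hQ) := by
    have := hS.inf (N := HH E p hn hQ) le_top (top_le_nrm hN)
    rwa [hinf] at this
  obtain ⟨hTH, hD⟩ := normal_fss' hS (hH := hN) hinf
  have h1 := E_le_D (hn := hn) (hQ := hQ) hE hF hI hx hS hD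
  have h2 := D_le_E (hn := hn) (hQ := hQ) hE hI hS hC hD h1
  exact ⟨HH E p hn hQ, hN, ⟨hsyl, fun P f => ⟨h1 P f, h2 P f⟩⟩, fun H' hH' hTH' h => HH_unique hE hI hS hC hH' hTH' h⟩

end

end Cfsg.Agent.H27.Ng
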