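import Mathlib
import Cfsg.Agent.H22_Coprime3
import Cfsg.Agent.H27_FusNorm2
import Cfsg.Agent.H27_Solv

/-! Strongly closed subgroups and `Ω₁`, `p` odd. -/

set_option autoImplicit false
universe u v w
open scoped commutatorElement

namespace Cfsg.Agent.H27.Fus

open Cfsg Cfsg.FusionSystem Cfsg.Agent.H27.Grp

section aut
variable {Ω : Type*} [Group Ω] {P K : Subgroup Ω} {p : ℕ} [Fact p.Prime]

theorem aut_omega (hp2 : p ≠ 2) [Finite P] (hP : IsPGroup p P) {α : MulAut P}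
    (hα : ∀ x : P, (x : Ω) ∈ K → (α x : Ω) ∈ K) (h : ∀ x : P, (x : Ω) ∈ K → x ^ p = 1 → α x = x) :
    ∃ k, ∀ x : P, (x : Ω) ∈ K → (α ^ (p ^ k)) x = x := by
  classical
  haveI : Finite (MulAut P) := inferInstance
  let G := P ⋊[MonoidHom.id (MulAut P)] MulAut P
  haveI : Finite G := Finite.of_equiv _ (SemidirectProduct.equivProd).symm
  have hn : orderOf α ≠ 0 := (orderOf_pos α).ne'
  obtain ⟨k, m, hm, hkm⟩ := Nat.exists_eq_pow_mul_and_not_dvd hn p (Fact.out : p.Prime).ne_one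
  refine ⟨k, ?_⟩
  set β := α ^ (p ^ k) with hβ
  have hβm : β ^ m = 1 := by rw [hβ, ← pow_mul, ← hkm, pow_orderOf_eq_one]
  have hordβ : (orderOf β).Coprime p := by
    have h1 : orderOf β ∣ m := orderOf_dvd_of_pow_eq_one hβm
    exact Nat.Coprime.coprime_dvd_left h1 ((Nat.Prime.coprime_iff_not_dvd Fact.out).2 hm).symm
  have hβK : ∀ x : P, (x : Ω) ∈ K → (β x : Ω) ∈ K := fun x hx => pow_apply_mem (A := (K : Set Ω)) (B := (K : Set Ω)) hα _ x hx
  have hβf : ∀ x : P, (x : Ω) ∈ K → x ^ p = 1 → β x = x := by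
    intro x hx hxp
    have key : ∀ j : ℕ, (α ^ j) x = x := by
      intro j
      induction j with
      | zero => rfl
      | succ j ih => rw [pow_succ, MulAut.mul_apply, h x hx hxp, ih]
    exact key _
  let b : G := SemidirectProduct.inr β
  let A : Subgroup G := Subgroup.zpowers b
  let K' : Subgroup G := (K.subgroupOf P).map (SemidirectProduct.inl : P →* G)
  have hb : ∀ x : P, b * (SemidirectProduct.inl x : G) * b⁻¹ = SemidirectProduct.inl (β x) := by
    intro x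
    have := SemidirectProduct.inl_aut (φ := MonoidHom.id (MulAut P)) β x
    rw [MonoidHom.id_apply] at this
    rw [this, map_inv]
  have hA : A ≤ Subgroup.normalizer (K' : Set G) := by
    rw [Subgroup.zpowers_le, Subgroup.mem_normalizer_iff]
    haveI : Finite K' := inferInstance
    have hmap : ∀ g ∈ K', b * g * b⁻¹ ∈ K' := by
      rintro _ ⟨x, hx, rfl⟩
      rw [hb]
      exact ⟨β x, hβK x hx, rfl⟩
    intro g
    refine ⟨hmap g, fun hg => ?_⟩
    have hsurj : ∀ y ∈ K', ∃ x ∈ K', b * x * b⁻¹ = y := by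
      let f : K' → K' := fun x => ⟨b * x * b⁻¹, hmap x x.2⟩
      have hf : Function.Injective f := by
        intro x y hxy
        have h1 : b * (x : G) * b⁻¹ = b * (y : G) * b⁻¹ := congrArg Subtype.val hxy
        exact Subtype.ext (mul_left_cancel (mul_right_cancel h1))
      intro y hy
      obtain ⟨x, hx⟩ := Finite.surjective_of_injective hf ⟨y, hy⟩
      exact ⟨x, x.2, congrArg Subtype.val hx⟩
    obtain ⟨x, hx, hxe⟩ := hsurj _ hg
    have : x = g := mul_left_cancel (mul_right_cancel hxe)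
    rw [← this]; exact hx
  have hK'p : IsPGroup p K' := (hP.to_subgroup _).map _
  have hAc : (Nat.card A).Coprime p := by
    rw [Nat.card_zpowers]
    have : orderOf b = orderOf β := orderOf_injective _ SemidirectProduct.inr_injective β
    rw [this]; exact hordβ
  have hcen := Cfsg.Agent.H22.Coprime3.omega_one hp2 hA hK'p hAc (by
    rintro _ ⟨x, hx, rfl⟩ hxp a ha
    have hxp' : x ^ p = 1 := by
      apply SemidirectProduct.inl_injective (φ := MonoidHom.id (MulAut P))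
      rw [map_pow, map_one]; exact hxp
    have h1 : Commute b (SemidirectProduct.inl x : G) := by
      have h2 := hb x
      rw [hβf x hx hxp'] at h2
      show b * _ = _ * b
      calc b * (SemidirectProduct.inl x : G) = b * SemidirectProduct.inl x * b⁻¹ * b := (inv_mul_cancel_right _ _).symm
        _ = _ := by rw [h2]
    obtain ⟨j, rfl⟩ := Subgroup.mem_zpowers_iff.1 ha
    exact h1.zpow_left j)
  intro x hx
  have h1 := (Subgroup.mem_centralizer_iff.1 (hcen (Subgroup.mem_zpowers b))) _ ⟨x, hx, rfl⟩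
  have h2 := hb x
  rw [← h1, mul_inv_cancel_right] at h2
  exact (SemidirectProduct.inl_injective h2).symm

end aut

section crit
variable {Ω : Type*} [Group Ω] {S P Q R : Subgroup Ω} {F : FusionSystem S} {p : ℕ} [Fact p.Prime] [Finite S]

/-- criterion via `Ω₁`, sufficiency -/
theorem normal_of_omega (hp2 : p ≠ 2) (hS : IsPGroup p S) (hF : F.IsSaturated p) (hP : F.StronglyClosed P)
    (n : ℕ) (D : ℕ → Subgroup Ω) (hmono : ∀ i, D i ≤ D (i + 1)) (h0 : D 0 = ⊥) (hD : ∀ i, F.StronglyClosed (D i))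
    (hcomm : ∀ i, ∀ x ∈ P, ∀ y ∈ D (i + 1), y⁻¹ * (x * y * x⁻¹) ∈ D i) (hn : ∀ x ∈ P, x ^ p = 1 → x ∈ D n) :
    F.IsNormal P := by
  refine normal_of_strong hS hF hP fun R hRc hRr => ?_
  have hRS := hRc.1
  have hPS := hP.1
  have hRP : R ≤ Subgroup.normalizer (P : Set Ω) := fun x hx => (StronglyClosed.le_normalizer hP (hRS hx)).2
  have hinvP : AutInv F R P := autInv_of_strong hRS hP
  have hinvD : ∀ i, AutInv F R (D i) := fun i => autInv_of_strong hRS (hD i)
  haveI : Finite R := finite_of_le hRS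
  let X : Subgroup (MulAut R) :=
    { carrier := {α | α ∈ F.autGroup R ∧ (∀ x : R, (x : Ω)⁻¹ * (α x : Ω) ∈ P) ∧
        ∀ i, ∀ x : R, (x : Ω) ∈ D (i + 1) → (x : Ω)⁻¹ * (α x : Ω) ∈ D i}
      one_mem' := ⟨one_mem _, fun x => by rw [MulAut.one_apply, inv_mul_cancel]; exact P.one_mem,
        fun i x _ => by rw [MulAut.one_apply, inv_mul_cancel]; exact (D i).one_mem⟩
      mul_mem' := by
        rintro α β ⟨h1, h2, h3⟩ ⟨h4, h5, h6⟩
        refine ⟨mul_mem h1 h4, fun x => ?_, fun i x hx => ?_⟩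
        · rw [MulAut.mul_apply]
          have : (x : Ω)⁻¹ * (α (β x) : Ω) = ((x : Ω)⁻¹ * (β x : Ω)) * ((β x : Ω)⁻¹ * (α (β x) : Ω)) := by group
          rw [this]; exact P.mul_mem (h5 x) (h2 _)
        · rw [MulAut.mul_apply]
          have : (x : Ω)⁻¹ * (α (β x) : Ω) = ((x : Ω)⁻¹ * (β x : Ω)) * ((β x : Ω)⁻¹ * (α (β x) : Ω)) := by group
          rw [this]; exact (D i).mul_mem (h6 i x hx) (h3 i _ (hinvD (i + 1) β h4 x hx))
      inv_mem' := by
        rintro α ⟨h1, h2, h3⟩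
        refine ⟨inv_mem h1, fun x => ?_, fun i x hx => ?_⟩
        · have h4 := h2 (α⁻¹ x)
          rw [MulAut.apply_inv_self] at h4
          have : (x : Ω)⁻¹ * (α⁻¹ x : R) = (((α⁻¹ x : R) : Ω)⁻¹ * x)⁻¹ := by group
          rw [this]; exact P.inv_mem h4
        · have h4 := h3 i (α⁻¹ x) (hinvD (i + 1) α⁻¹ (inv_mem h1) x hx)
          rw [MulAut.apply_inv_self] at h4
          have : (x : Ω)⁻¹ * (α⁻¹ x : R) = (((α⁻¹ x : R) : Ω)⁻¹ * x)⁻¹ := by group
          rw [this]; exact (D i).inv_mem h4 }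
  have hXP : ∀ α, α ∈ X ↔ α ∈ F.autGroup R ∧ (∀ x : R, (x : Ω)⁻¹ * (α x : Ω) ∈ P) ∧
        ∀ i, ∀ x : R, (x : Ω) ∈ D (i + 1) → (x : Ω)⁻¹ * (α x : Ω) ∈ D i := fun α => Iff.rfl
  refine le_of_radical hS hRc hRr hPS hRP (X := X) (fun α hα => ((hXP α).1 hα).1) ?_ ?_ ?_
  · have key : ∀ α ∈ F.autGroup R, ∀ β ∈ X, α * β * α⁻¹ ∈ X := by
      intro α hα β hβ
      obtain ⟨h1, h2, h3⟩ := (hXP β).1 hβ
      refine (hXP _).2 ⟨mul_mem (mul_mem hα h1) (inv_mem hα), fun x => ?_, fun i x hx => ?_⟩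
      · have h4 := hinvP α hα ((α⁻¹ x)⁻¹ * β (α⁻¹ x)) (h2 (α⁻¹ x))
        rw [map_mul, map_inv, MulAut.apply_inv_self] at h4
        exact h4
      · have h4 := hinvD i α hα ((α⁻¹ x)⁻¹ * β (α⁻¹ x)) (h3 i (α⁻¹ x) (hinvD (i + 1) α⁻¹ (inv_mem hα) x hx))
        rw [map_mul, map_inv, MulAut.apply_inv_self] at h4
        exact h4
    intro α hα
    rw [Subgroup.mem_normalizer_iff]
    intro β
    refine ⟨key α hα β, fun h => ?_⟩
    have := key α⁻¹ (Subgroup.inv_mem _ hα) _ h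
    simpa [mul_assoc] using this
  · refine isPGroup_of_pow fun α hα => ?_
    obtain ⟨h1, h2, h3⟩ := (hXP α).1 hα
    obtain ⟨e, he⟩ := exists_pow_card hS
    have heR : ∃ n, ∀ x ∈ R, x ^ (p ^ n) = 1 := ⟨e, fun x hx => he x (hRS hx)⟩
    obtain ⟨k, hk⟩ := exists_pow_chain (P := R) heR D hmono ⟨0, fun x hx => by
      rw [h0, Subgroup.mem_bot] at hx
      have : x = 1 := Subtype.ext hx
      rw [this, map_one]⟩ h3 n
    set β := α ^ (p ^ k) with hβ
    have hβX : β ∈ X := pow_mem hα _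
    obtain ⟨g1, g2, g3⟩ := (hXP β).1 hβX
    obtain ⟨l, hl⟩ := aut_omega (K := P) hp2 (isPGroup_mono hS hRS) (α := β) (fun x hx => hinvP β g1 x hx)
      (fun x hx hxp => hk x (hn x hx (congrArg Subtype.val hxp)))
    obtain ⟨m, hm⟩ := exists_pow_step (P := R) (α := β) (A := ⊤) (B := P) heR le_top ⟨l, hl⟩ (fun x _ => g2 x)
    refine ⟨k + m, fun x => ?_⟩
    have := hm x trivial
    rw [hβ, ← pow_mul, ← pow_add] at this
    exact this
  · intro s hs hN
    refine (hXP _).2 ⟨autInducedBy_le_autGroup F hRS (cjA_mem hN (hPS hs)), fun x => ?_, fun i x hx => ?_⟩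
    · rw [cjA_apply]
      have h2 := StronglyClosed.conj_mem hP (S.inv_mem (hRS x.2)) hs
      have h3 := P.mul_mem h2 (P.inv_mem hs)
      simpa [mul_assoc] using h3
    · rw [cjA_apply]
      exact hcomm i s hs x hx

end crit

end Cfsg.Agent.H27.Fus
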