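import Cfsg.Agent.H27_Om1
import Cfsg.Statements.S5236

set_option autoImplicit false
open Cfsg

namespace Cfsg.Agent.H27.Fus

open FusionSystem

section
variable {Ω : Type*} [Group Ω] {S P Q R : Subgroup Ω} {F : FusionSystem S} {p : ℕ} [Fact p.Prime] [Finite S]

theorem omega_le (p : ℕ) (P : Subgroup Ω) : omegaOne p P ≤ P := by
  unfold omegaOne
  rw [Subgroup.closure_le]
  exact fun x hx => hx.1

theorem omega_char (p : ℕ) (P : Subgroup Ω) : ((omegaOne p P).subgroupOf P).Characteristic := by
  have h : (omegaOne p P).subgroupOf P = Subgroup.closure {x : P | x ^ p = 1} := by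
    apply Subgroup.map_injective (Subgroup.subtype_injective P)
    rw [Subgroup.map_subgroupOf_eq_of_le (omega_le p P), MonoidHom.map_closure]
    unfold omegaOne
    congr 1
    ext x
    constructor
    · rintro ⟨hx, hxp⟩
      exact ⟨⟨x, hx⟩, Subtype.ext hxp, rfl⟩
    · rintro ⟨y, hy, rfl⟩
      exact ⟨y.2, congrArg Subtype.val hy⟩
  rw [h, Subgroup.characteristic_iff_map_le]
  intro φ
  rw [MonoidHom.map_closure, Subgroup.closure_le]
  rintro _ ⟨x, hx, rfl⟩
  refine Subgroup.subset_closure ?_
  show (φ x) ^ p = 1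
  rw [← map_pow]
  have : x ^ p = 1 := hx
  rw [this, map_one]

/-- criterion via `Ω₁`, necessity -/
theorem omega_of_normal (hS : IsPGroup p S) (hP : F.IsNormal P) : ∃ (n : ℕ) (Q : Fin (n + 1) → Subgroup Ω), Q 0 = ⊥ ∧
    Q (Fin.last n) = omegaOne p P ∧ Monotone Q ∧ (∀ i, F.IsNormal (Q i)) ∧ ∀ i : Fin n, ⁅Q i.succ, P⁆ ≤ Q i.castSucc := by
  haveI hfP : Finite P := Finite.of_injective _ (Subgroup.inclusion_injective hP.1)
  have hnil : Group.IsNilpotent P := (hS.to_le hP.1).isNilpotent
  obtain ⟨n, hn⟩ := (Subgroup.isNilpotent_iff_lowerCentralSeries P).1 hnil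
  let D : ℕ → Subgroup Ω := fun i => Nat.rec (omegaOne p P) (fun _ X => ⁅X, P⁆) i
  have hD0 : D 0 = omegaOne p P := rfl
  have hDs : ∀ i, D (i + 1) = ⁅D i, P⁆ := fun i => rfl
  have hDl : ∀ i, D i ≤ P.lowerCentralSeries i := by
    intro i
    induction i with
    | zero => rw [hD0, Subgroup.lowerCentralSeries_zero]; exact omega_le p P
    | succ i ih =>
      rw [hDs, Subgroup.lowerCentralSeries_succ]
      exact Subgroup.commutator_mono ih le_rfl
  have hDP : ∀ i, D i ≤ P := fun i => (hDl i).trans (lcs_le _ _)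
  have hDc : ∀ i, ((D i).subgroupOf P).Characteristic := by
    intro i
    induction i with
    | zero => exact omega_char p P
    | succ i ih =>
      have h1 : (D (i + 1)).subgroupOf P = ⁅(D i).subgroupOf P, (⊤ : Subgroup P)⁆ := by
        apply Subgroup.map_injective (Subgroup.subtype_injective P)
        rw [Subgroup.map_subgroupOf_eq_of_le (hDP (i + 1)), Subgroup.map_commutator,
          Subgroup.map_subgroupOf_eq_of_le (hDP i), hDs, ← MonoidHom.range_eq_map, Subgroup.range_subtype]
      rw [h1]; infer_instance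
  have hDm : Antitone D := by
    refine antitone_nat_of_succ_le fun i => ?_
    rw [hDs, ← Subgroup.le_normalizer_iff_commutator_le_left]
    haveI h1 : ((D i).subgroupOf P).Characteristic := hDc i
    have h2 : ((D i).subgroupOf P).Normal := Subgroup.normal_of_characteristic _
    exact (Subgroup.normal_subgroupOf_iff_le_normalizer (hDP i)).1 h2
  refine ⟨n, fun i => D (n - i), ?_, ?_, ?_, fun i => IsNormal.char hP (hDP _) (hDc _), ?_⟩
  · show D (n - 0) = ⊥
    rw [eq_bot_iff, Nat.sub_zero, ← hn]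
    exact hDl n
  · show D (n - n) = _
    rw [Nat.sub_self, hD0]
  · intro i j hij
    exact hDm (by have : (i : ℕ) ≤ j := hij; omega)
  · intro i
    show ⁅D (n - (i + 1)), P⁆ ≤ D (n - i)
    have : n - (i : ℕ) = (n - (i + 1)) + 1 := by have := i.2; omega
    rw [this, hDs]

end

end Cfsg.Agent.H27.Fus
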