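import Cfsg.Prelude.Def_HallClasses
import Cfsg.Agent.H27_Grp2

set_option autoImplicit false
set_option linter.all false
open Cfsg

namespace Cfsg.Agent.H27.Pro

open Cfsg.Agent.H27.Grp

variable {G : Type*} [Group G]

theorem isPro_iff {H : Subgroup G} :
    IsPronormal H ↔ ∀ g : G, ∃ x ∈ H ⊔ cj g H, cj g H = cj x H := Iff.rfl

theorem cj_mono (g : G) {A B : Subgroup G} (h : A ≤ B) : cj g A ≤ cj g B := Subgroup.map_mono h

theorem cj_sup (g : G) (A B : Subgroup G) : cj g (A ⊔ B) = cj g A ⊔ cj g B := Subgroup.map_sup _ _ _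

theorem cj_inv_cj (g : G) (A : Subgroup G) : cj g⁻¹ (cj g A) = A := by
  rw [cj_cj, inv_mul_cancel, cj_one]

theorem cj_cj_inv (g : G) (A : Subgroup G) : cj g (cj g⁻¹ A) = A := by
  rw [cj_cj, mul_inv_cancel, cj_one]

theorem cj_normal (A : Subgroup G) [hA : A.Normal] (g : G) : cj g A = A := by
  apply le_antisymm
  · rw [cj_le]; intro a ha; exact hA.conj_mem a ha g
  · intro a ha
    exact ⟨g⁻¹ * a * g, by simpa using hA.conj_mem a ha g⁻¹, by simp [mul_assoc]⟩

theorem mem_normalizer_iff_cj {A : Subgroup G} {g : G} :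
    g ∈ Subgroup.normalizer (A : Set G) ↔ cj g A = A := by
  constructor
  · intro h
    apply le_antisymm
    · rw [cj_le]; intro a ha; exact (Subgroup.mem_normalizer_iff.mp h a).mp ha
    · intro a ha
      refine ⟨g⁻¹ * a * g, ?_, by simp [mul_assoc]⟩
      rw [SetLike.mem_coe]
      have := (Subgroup.mem_normalizer_iff.mp h (g⁻¹ * a * g))
      rw [this]
      have h2 : g * (g⁻¹ * a * g) * g⁻¹ = a := by group
      rwa [h2]
  · intro h
    rw [Subgroup.mem_normalizer_iff]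
    intro a
    constructor
    · intro ha; rw [← h]; exact conj_mem_cj ha
    · intro ha
      rw [← h] at ha
      obtain ⟨b, hb, hba⟩ := mem_cj.mp ha
      have : b = a := by
        have := mul_right_cancel hba
        exact mul_left_cancel this
      rwa [← this]

theorem cj_eq_of_card [Finite G] {g : G} {A B : Subgroup G} (h : cj g A ≤ B)
    (hc : Nat.card B ≤ Nat.card A) : cj g A = B :=
  eq_of_le_of_card_le h (by rw [card_cj]; exact hc)

theorem pronormal_cj {K : Subgroup G} {u : G} (h : IsPronormal (cj u K)) : IsPronormal K := by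
  rw [isPro_iff] at h ⊢
  intro g
  obtain ⟨x, hx, hxe⟩ := h (u * g * u⁻¹)
  have e1 : cj (u * g * u⁻¹) (cj u K) = cj u (cj g K) := by
    rw [cj_cj, cj_cj]; congr 1; group
  rw [e1] at hx hxe
  rw [← cj_sup] at hx
  obtain ⟨y, hy, rfl⟩ := mem_cj.mp hx
  refine ⟨y, hy, ?_⟩
  have e2 : cj (u * y * u⁻¹) (cj u K) = cj u (cj y K) := by
    rw [cj_cj, cj_cj]; congr 1; group
  rw [e2] at hxe
  have := congrArg (cj u⁻¹) hxe
  rwa [cj_inv_cj, cj_inv_cj] at this

section
variable [Finite G] {p : ℕ} [Fact p.Prime]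

theorem syl_conj_eq {T K0 : Subgroup G} (h : IsSyl p T K0) {g : G} (hg : cj g T ≤ K0) :
    ∃ k ∈ K0, cj k (cj g T) = T := by
  obtain ⟨k, hk, hk2⟩ := h.conj hg (isPGroup_cj h.2.1)
  exact ⟨k, hk, eq_of_le_of_card_le hk2 (by rw [card_cj, card_cj])⟩

theorem core (A : Subgroup G) [hAn : A.Normal]
    (hA : ∀ K : Subgroup ↥A, (∃ P : Sylow p ↥A, (P : Subgroup ↥A) ≤ K) → IsPronormal K)
    (T P : Subgroup G) (hT : IsSyl p T A) (hPT : P ⊓ A = T)
    (hi : ∀ M : Subgroup G, P ≤ M → M ≤ Subgroup.normalizer (T : Set G) →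
      ∀ a ∈ Subgroup.normalizer (T : Set G), ∃ y ∈ M ⊔ cj a M, cj a M = cj y M)
    (K : Subgroup G) (hPK : P ≤ K) (L : Subgroup G) (hKL : K ≤ L) (a : G) (haA : a ∈ A)
    (haL : cj a K ≤ L) : ∃ x ∈ L, cj a K = cj x K := by
  set K0 := K ⊓ A with hK0
  have hTK0 : T ≤ K0 := by rw [← hPT]; exact inf_le_inf_right A hPK
  have hsylT : IsSyl p T K0 := hT.mono hTK0 inf_le_right
  have hKN : K ≤ Subgroup.normalizer (K0 : Set G) := by
    intro k hk
    rw [mem_normalizer_iff_cj]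
    apply cj_eq_of_card _ le_rfl
    rw [cj_le]
    intro b hb
    exact ⟨K.mul_mem (K.mul_mem hk hb.1) (K.inv_mem hk), hAn.conj_mem b hb.2 k⟩
  -- step 1
  obtain ⟨y, hyA, hyL, hye⟩ : ∃ y ∈ A, y ∈ L ∧ cj a K0 = cj y K0 := by
    have h1 : ∃ P : Sylow p ↥A, (P : Subgroup ↥A) ≤ K0.subgroupOf A := by
      obtain ⟨P0, hP0⟩ := (isSyl_iff hT.1).1 hT
      exact ⟨P0, by rw [hP0]; exact Subgroup.comap_mono hTK0⟩
    obtain ⟨y', hy', hye'⟩ := isPro_iff.mp (hA _ h1) ⟨a, haA⟩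
    have e0 : (K0.subgroupOf A).map A.subtype = K0 := by
      rw [Subgroup.subgroupOf_map_subtype, inf_eq_left.mpr inf_le_right]
    have e1 : ∀ z : A, (cj z (K0.subgroupOf A)).map A.subtype = cj (z : G) K0 := by
      intro z
      have h2 : (cj z (K0.subgroupOf A)).map A.subtype = cj (z : G) ((K0.subgroupOf A).map A.subtype) := by
        unfold cj
        rw [Subgroup.map_map, Subgroup.map_map]
        congr 1
      rw [h2, e0]
    refine ⟨y', y'.2, ?_, ?_⟩
    · have h3 : (y' : G) ∈ (K0.subgroupOf A ⊔ cj ⟨a, haA⟩ (K0.subgroupOf A)).map A.subtype :=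
        ⟨y', hy', rfl⟩
      rw [Subgroup.map_sup, e0, e1] at h3
      exact (sup_le (inf_le_left.trans hKL) ((cj_mono a inf_le_left).trans haL)) h3
    · rw [← e1 y', ← e1 ⟨a, haA⟩, hye']
  -- step 2
  have cjL : ∀ (b : G), b ∈ L → ∀ X : Subgroup G, X ≤ L → cj b X ≤ L := by
    intro b hb X hX
    rw [cj_le]
    intro x hx
    exact L.mul_mem (L.mul_mem hb (hX hx)) (L.inv_mem hb)
  set a1 := y⁻¹ * a with ha1
  have ha1K0 : cj a1 K0 = K0 := by rw [ha1, ← cj_cj, hye, cj_inv_cj]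
  have ha1L : cj a1 K ≤ L := by
    rw [ha1, ← cj_cj]; exact cjL _ (L.inv_mem hyL) _ haL
  -- step 3
  obtain ⟨k, hk, hke⟩ := syl_conj_eq hsylT (g := a1) (by rw [← ha1K0]; exact cj_mono a1 hTK0)
  have hkL : k ∈ L := hKL hk.1
  set a2 := k * a1 with ha2
  have ha2T : cj a2 T = T := by rw [ha2, ← cj_cj, hke]
  have ha2K0 : cj a2 K0 = K0 := by rw [ha2, ← cj_cj, ha1K0, cj_eq_of_mem hk]
  have ha2L : cj a2 K ≤ L := by rw [ha2, ← cj_cj]; exact cjL _ hkL _ ha1L
  have ha2N : a2 ∈ Subgroup.normalizer (T : Set G) := mem_normalizer_iff_cj.mpr ha2T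
  -- step 4
  set M := K ⊓ Subgroup.normalizer (T : Set G) with hM
  have hPM : P ≤ M := by
    refine le_inf hPK ?_
    intro x hx
    rw [mem_normalizer_iff_cj]
    apply cj_eq_of_card _ le_rfl
    rw [cj_le]
    intro b hb
    rw [← hPT] at hb ⊢
    exact ⟨P.mul_mem (P.mul_mem hx hb.1) (P.inv_mem hx), hAn.conj_mem b hb.2 x⟩
  obtain ⟨y2, hy2, hy2e⟩ := hi M hPM inf_le_right a2 ha2N
  have hy2L : y2 ∈ L := (sup_le (inf_le_left.trans hKL) ((cj_mono a2 inf_le_left).trans ha2L)) hy2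
  -- step 5
  have ha2N0 : a2 ∈ Subgroup.normalizer (K0 : Set G) := mem_normalizer_iff_cj.mpr ha2K0
  have hy2N0 : y2 ∈ Subgroup.normalizer (K0 : Set G) := by
    have h1 : M ⊔ cj a2 M ≤ Subgroup.normalizer (K0 : Set G) := by
      apply sup_le (inf_le_left.trans hKN)
      rw [cj_le]
      intro m hm
      exact Subgroup.mul_mem _ (Subgroup.mul_mem _ ha2N0 (hKN hm.1)) (Subgroup.inv_mem _ ha2N0)
    exact h1 hy2
  have hy2K0 := mem_normalizer_iff_cj.mp hy2N0
  -- step 6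
  have hKKM : K = K0 ⊔ M := by
    apply le_antisymm
    · intro z hz
      have h1 : cj z T ≤ K0 := by
        rw [← mem_normalizer_iff_cj.mp (hKN hz)]
        exact cj_mono z hTK0
      obtain ⟨k0, hk0, hk0e⟩ := syl_conj_eq hsylT h1
      rw [cj_cj] at hk0e
      have h2 : k0 * z ∈ M := ⟨K.mul_mem hk0.1 hz, mem_normalizer_iff_cj.mpr hk0e⟩
      have h3 : z = k0⁻¹ * (k0 * z) := by group
      rw [h3]
      exact Subgroup.mul_mem _ (Subgroup.mem_sup_left (K0.inv_mem hk0)) (Subgroup.mem_sup_right h2)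
    · exact sup_le inf_le_left inf_le_left
  have hfin : cj a2 K = cj y2 K := by
    have h1 : cj a2 (K0 ⊔ M) = cj y2 (K0 ⊔ M) := by
      rw [cj_sup, cj_sup, ha2K0, hy2K0, hy2e]
    rwa [← hKKM] at h1
  refine ⟨y * k⁻¹ * y2, L.mul_mem (L.mul_mem hyL (L.inv_mem hkL)) hy2L, ?_⟩
  have h1 : a = y * k⁻¹ * a2 := by rw [ha2, ha1]; group
  rw [← cj_cj (y * k⁻¹) y2, ← hfin, cj_cj, ← h1]

/-- translation of the quotient hypothesis -/
theorem hi_of_quot (T P : Subgroup G) (hP : IsSyl p P ⊤) (hTP : T ≤ P)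
    (hPN : P ≤ Subgroup.normalizer (T : Set G))
    [(T.subgroupOf (Subgroup.normalizer (T : Set G))).Normal]
    (h : ∀ K : Subgroup (↥(Subgroup.normalizer (T : Set G)) ⧸ T.subgroupOf (Subgroup.normalizer (T : Set G))),
      (∃ P : Sylow p (↥(Subgroup.normalizer (T : Set G)) ⧸ T.subgroupOf (Subgroup.normalizer (T : Set G))),
        (P : Subgroup (↥(Subgroup.normalizer (T : Set G)) ⧸ T.subgroupOf (Subgroup.normalizer (T : Set G)))) ≤ K) →
      IsPronormal K)
    (M : Subgroup G) (hPM : P ≤ M) (hMN : M ≤ Subgroup.normalizer (T : Set G)) (a : G)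
    (ha : a ∈ Subgroup.normalizer (T : Set G)) : ∃ y ∈ M ⊔ cj a M, cj a M = cj y M := by
  set N := Subgroup.normalizer (T : Set G) with hN
  set TN := T.subgroupOf N with hTN
  set φ := QuotientGroup.mk' TN with hφ
  set MN := M.subgroupOf N with hMNdef
  have hker : φ.ker = TN := QuotientGroup.ker_mk' TN
  have hTMN : TN ≤ MN := Subgroup.comap_mono (hTP.trans hPM)
  obtain ⟨P', hP'⟩ := (isSyl_iff (A := N) hPN).1 (hP.mono hPN le_top)
  obtain ⟨y, hy, hye⟩ := isPro_iff.mp (h (MN.map φ)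
    ⟨P'.mapSurjective (QuotientGroup.mk'_surjective TN), by
      rw [Sylow.coe_mapSurjective, hP']
      exact Subgroup.map_mono (Subgroup.comap_mono hPM)⟩) (φ ⟨a, ha⟩)
  have e1 : ∀ z : N, cj (φ z) (MN.map φ) = (cj z MN).map φ := by
    intro z
    unfold cj
    rw [Subgroup.map_map, Subgroup.map_map]
    congr 1
  rw [e1, ← Subgroup.map_sup] at hy
  obtain ⟨y', hy', rfl⟩ := hy
  rw [e1, e1, Subgroup.map_eq_map_iff, hker] at hye
  have e2 : ∀ z : N, TN ≤ cj z MN := by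
    intro z
    rw [← cj_normal TN z]
    exact cj_mono z hTMN
  rw [sup_eq_left.mpr (e2 _), sup_eq_left.mpr (e2 _)] at hye
  have e0 : MN.map N.subtype = M := by
    rw [hMNdef, Subgroup.subgroupOf_map_subtype, inf_eq_left.mpr hMN]
  have e3 : ∀ z : N, (cj z MN).map N.subtype = cj (z : G) M := by
    intro z
    have h2 : (cj z MN).map N.subtype = cj (z : G) (MN.map N.subtype) := by
      unfold cj
      rw [Subgroup.map_map, Subgroup.map_map]
      congr 1
    rw [h2, e0]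
  refine ⟨y', ?_, ?_⟩
  · have h3 : (y' : G) ∈ (MN ⊔ cj ⟨a, ha⟩ MN).map N.subtype := ⟨y', hy', rfl⟩
    rwa [Subgroup.map_sup, e0, e3] at h3
  · rw [← e3 y', ← hye, e3]

/-- the property of `G` descends to `N_G(T)/T` -/
theorem quot_of (T P : Subgroup G) (hP : IsSyl p P ⊤) (hTP : T ≤ P)
    (hPN : P ≤ Subgroup.normalizer (T : Set G))
    [(T.subgroupOf (Subgroup.normalizer (T : Set G))).Normal]
    (h : ∀ K : Subgroup G, (∃ P : Sylow p G, (P : Subgroup G) ≤ K) → IsPronormal K)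
    (K : Subgroup (↥(Subgroup.normalizer (T : Set G)) ⧸ T.subgroupOf (Subgroup.normalizer (T : Set G))))
    (hK : ∃ P : Sylow p (↥(Subgroup.normalizer (T : Set G)) ⧸ T.subgroupOf (Subgroup.normalizer (T : Set G))),
        (P : Subgroup (↥(Subgroup.normalizer (T : Set G)) ⧸ T.subgroupOf (Subgroup.normalizer (T : Set G)))) ≤ K) :
    IsPronormal K := by
  set N := Subgroup.normalizer (T : Set G) with hN
  set TN := T.subgroupOf N with hTN
  set φ := QuotientGroup.mk' TN with hφ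
  have hφs : Function.Surjective φ := QuotientGroup.mk'_surjective TN
  obtain ⟨Q, hQK⟩ := hK
  obtain ⟨P', hP'⟩ := (isSyl_iff (A := N) hPN).1 (hP.mono hPN le_top)
  set K' := K.comap φ with hK'
  have hKmap : K'.map φ = K := Subgroup.map_comap_eq_self_of_surjective hφs K
  obtain ⟨g, hg⟩ := MulAction.exists_smul_eq (N ⧸ TN) (P'.mapSurjective hφs) Q
  obtain ⟨n, rfl⟩ := hφs g
  set KG := K'.map N.subtype with hKG
  have e0 : K'.map N.subtype = KG := rfl
  have e3 : ∀ z : N, (cj z K').map N.subtype = cj (z : G) KG := by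
    intro z
    unfold cj
    rw [Subgroup.map_map, hKG, Subgroup.map_map]
    congr 1
  have hsub : cj (n : G) P ≤ KG := by
    rw [cj_le]
    intro x hx
    refine ⟨n * ⟨x, hPN hx⟩ * n⁻¹, ?_, by simp⟩
    apply hQK
    rw [← hg, Sylow.coe_subgroup_smul, Subgroup.mem_pointwise_smul_iff_inv_smul_mem,
      Sylow.coe_mapSurjective, hP']
    refine ⟨⟨x, hPN hx⟩, hx, ?_⟩
    rw [← map_inv, MulAut.smul_def, MulAut.conj_apply, map_mul, map_mul, map_inv]
    group
  have hcjP : IsSyl p (cj (n : G) P) ⊤ := hP.cj_mem (Subgroup.mem_top _)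
  obtain ⟨P2, hP2⟩ := isSyl_top_iff.mp hcjP
  have hpro := isPro_iff.mp (h KG ⟨P2, by rw [hP2]; exact hsub⟩)
  rw [isPro_iff]
  intro g
  obtain ⟨m, rfl⟩ := hφs g
  obtain ⟨x, hx, hxe⟩ := hpro m
  have hx2 : x ∈ (K' ⊔ cj m K').map N.subtype := by
    rw [Subgroup.map_sup, e0, e3]; exact hx
  obtain ⟨x', hx', rfl⟩ := hx2
  have e1 : ∀ z : N, cj (φ z) K = (cj z K').map φ := by
    intro z
    conv_lhs => rw [← hKmap]
    unfold cj
    rw [Subgroup.map_map, Subgroup.map_map]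
    congr 1
  refine ⟨φ x', ?_, ?_⟩
  · rw [e1]
    have : K ⊔ (cj m K').map φ = (K' ⊔ cj m K').map φ := by rw [Subgroup.map_sup, hKmap]
    rw [this]
    exact ⟨x', hx', rfl⟩
  · rw [e1, e1]
    congr 1
    apply Subgroup.map_injective N.subtype_injective
    rw [e3, e3]
    exact hxe

/-- final assembly -/
theorem finish (A : Subgroup G) [hAn : A.Normal]
    (hA : ∀ K : Subgroup ↥A, (∃ P : Sylow p ↥A, (P : Subgroup ↥A) ≤ K) → IsPronormal K)
    (T : Subgroup G) (hT : IsSyl p T A)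
    [(T.subgroupOf (Subgroup.normalizer (T : Set G))).Normal]
    (h : ∀ K : Subgroup (↥(Subgroup.normalizer (T : Set G)) ⧸ T.subgroupOf (Subgroup.normalizer (T : Set G))),
      (∃ P : Sylow p (↥(Subgroup.normalizer (T : Set G)) ⧸ T.subgroupOf (Subgroup.normalizer (T : Set G))),
        (P : Subgroup (↥(Subgroup.normalizer (T : Set G)) ⧸ T.subgroupOf (Subgroup.normalizer (T : Set G)))) ≤ K) →
      IsPronormal K)
    (hred : ∀ (K P : Subgroup G), IsSyl p P ⊤ → P ≤ K → ∀ g : G, ∃ b ∈ K ⊔ cj g K,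
      ∃ n ∈ Subgroup.normalizer (K : Set G), b * g * n⁻¹ ∈ A)
    (K : Subgroup G) (hK : ∃ P : Sylow p G, (P : Subgroup G) ≤ K) : IsPronormal K := by
  obtain ⟨P0, hP0K⟩ := hK
  have hP0 : IsSyl p (P0 : Subgroup G) ⊤ := isSyl_top_iff.mpr ⟨P0, rfl⟩
  have hP0A : IsSyl p ((P0 : Subgroup G) ⊓ A) A :=
    hP0.inf le_top (by intro x _; rw [mem_normalizer_iff_cj]; exact cj_normal A x)
  obtain ⟨u, hu, hue⟩ := hT.conj hP0A.1 hP0A.2.1
  have hue' : cj u ((P0 : Subgroup G) ⊓ A) = T :=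
    eq_of_le_of_card_le hue (by rw [card_cj]; exact hP0A.card_le hT.1 hT.2.1)
  apply pronormal_cj (u := u)
  set P := cj u (P0 : Subgroup G) with hPdef
  have hP : IsSyl p P ⊤ := hP0.cj_mem (Subgroup.mem_top _)
  have hPT : P ⊓ A = T := by
    rw [← hue', hPdef]
    unfold cj
    rw [Subgroup.map_inf _ _ _ (MulAut.conj u).injective]
    congr 1
    exact (cj_normal A u).symm
  have hPK : P ≤ cj u K := cj_mono u hP0K
  have hTP : T ≤ P := by rw [← hPT]; exact inf_le_left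
  have hPN : P ≤ Subgroup.normalizer (T : Set G) := by
    intro x hx
    rw [mem_normalizer_iff_cj]
    apply cj_eq_of_card _ le_rfl
    rw [cj_le]
    intro b hb
    rw [← hPT] at hb ⊢
    exact ⟨P.mul_mem (P.mul_mem hx hb.1) (P.inv_mem hx), hAn.conj_mem b hb.2 x⟩
  rw [isPro_iff]
  intro g
  obtain ⟨b, hb, n, hn, hbn⟩ := hred (cj u K) P hP hPK g
  set K1 := cj u K with hK1
  set L := K1 ⊔ cj g K1 with hL
  have h1 : cj (b * g * n⁻¹) K1 = cj b (cj g K1) := by
    have e := mem_normalizer_iff_cj.mp (Subgroup.inv_mem _ hn)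
    calc cj (b * g * n⁻¹) K1 = cj (b * g) (cj n⁻¹ K1) := (cj_cj _ _ _).symm
      _ = cj (b * g) K1 := congrArg (cj (b * g)) e
      _ = cj b (cj g K1) := (cj_cj _ _ _).symm
  obtain ⟨x, hx, hxe⟩ := core A hA T P hT hPT
    (fun M hPM hMN a ha => hi_of_quot T P hP hTP hPN h M hPM hMN a ha) K1 hPK L le_sup_left
    (b * g * n⁻¹) hbn (by
      rw [h1, cj_le]
      intro z hz
      exact L.mul_mem (L.mul_mem hb ((le_sup_right : cj g K1 ≤ L) hz)) (L.inv_mem hb))
  refine ⟨b⁻¹ * x, L.mul_mem (L.inv_mem hb) hx, ?_⟩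
  rw [← cj_cj, ← hxe, h1, cj_inv_cj]

end

end Cfsg.Agent.H27.Pro
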