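import Mathlib
import Cfsg.Agent.H27_Pw1
import Cfsg.Agent.H12_ZJ2
import Cfsg.Agent.H18_Replace

/-! No quadratic elements implies `J(S) ≤ O_p(G)`. -/

set_option autoImplicit false
universe u v w
open scoped commutatorElement

namespace Cfsg.Agent.H27.Pw

open Cfsg Subgroup Cfsg.Agent.H13.Syl Cfsg.Agent.H12.ZJ

variable {G : Type*} [Group G] [Finite G] {p : ℕ} [hp : Fact p.Prime]

theorem maxEA_subgroupOf {S A : Subgroup G} (h : MaxEA 0 S A) : A.subgroupOf S ∈ maxAbelianSubgroups S := by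
  obtain ⟨h1, ⟨h2, -⟩, h3⟩ := h
  refine ⟨⟨⟨fun x y => Subtype.ext (Subtype.ext (h2 _ x.2 _ y.2))⟩⟩, fun B hB => ?_⟩
  have h4 := h3 (B.map S.subtype) (map_subtype_le _) ⟨by
    rintro _ ⟨x, hx, rfl⟩ _ ⟨y, hy, rfl⟩
    exact congrArg (fun z : B => ((z : S) : G)) (hB.1.comm ⟨x, hx⟩ ⟨y, hy⟩), fun _ _ => pow_zero _⟩
  rw [card_map_of_injective S.subtype_injective] at h4
  have h5 : Nat.card (A.subgroupOf S) = Nat.card A := by
    rw [← Subgroup.card_map_of_injective (K := A.subgroupOf S) S.subtype_injective, map_subgroupOf_eq_of_le h1]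
  rw [h5]; exact h4

theorem maxEA_map {S : Subgroup G} {A : Subgroup S} (h : A ∈ maxAbelianSubgroups S) : MaxEA 0 S (A.map S.subtype) := by
  refine ⟨map_subtype_le _, ⟨?_, fun _ _ => pow_zero _⟩, fun B hB hBE => ?_⟩
  · rintro _ ⟨x, hx, rfl⟩ _ ⟨y, hy, rfl⟩
    exact congrArg (fun z : A => ((z : S) : G)) (h.1.1.comm ⟨x, hx⟩ ⟨y, hy⟩)
  · have h1 := h.2 (B.subgroupOf S) ⟨⟨fun x y => Subtype.ext (Subtype.ext (hBE.1 _ x.2 _ y.2))⟩⟩
    rw [card_map_of_injective S.subtype_injective]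
    have h5 : Nat.card (B.subgroupOf S) = Nat.card B := by
      rw [← Subgroup.card_map_of_injective (K := B.subgroupOf S) S.subtype_injective, map_subgroupOf_eq_of_le hB]
    rw [← h5]; exact h1

theorem JJ_le_pCore {S : Subgroup G} (hS : IsSylIn p S ⊤) (hc : centralizer (pCore p G : Set G) ≤ pCore p G)
    (𝒢 : Subgroup G → Prop) (h1 : ∀ X : Subgroup G, S ≤ X → X ≠ ⊤ → 𝒢 X) (h2 : ¬ 𝒢 ⊤)
    (h3 : ∀ X : Subgroup G, X.Normal → 𝒢 (X ⊔ S) → 𝒢 (normalizer ((S ⊓ X : Subgroup G) : Set G)) → 𝒢 ⊤)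
    (h4 : ∀ X Y : Subgroup G, S ≤ X → X ≤ Y → 𝒢 Y → 𝒢 X) (Y : Set G)
    (hY : ∀ y ∈ Y, y ∈ S ∧ ∀ s ∈ S, s * y = y * s) (hYH : 𝒢 (centralizer ((fun y => y ^ p) '' Y))) :
    JJ 0 S ≤ pCore p G := by
  haveI hOn : (pCore p G).Normal := H1.Nilp.pCore_normal p
  have hOp : IsPGroup p (pCore p G) := H1.Nilp.pCore_isPGroup p
  have hOS : pCore p G ≤ S := by
    obtain ⟨S', hS'⟩ := hS.exists_sylow_top
    rw [← hS']; exact hOp.le_sylow_of_normal S'
  set M := pCore p G ⊓ centralizer (pCore p G : Set G) with hMdef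
  have hM : ∀ x, x ∈ M ↔ x ∈ pCore p G ∧ ∀ y ∈ pCore p G, y * x = x * y := fun x => by
    rw [hMdef, mem_inf, mem_centralizer_iff]; rfl
  haveI hMn : M.Normal := by
    haveI : (centralizer (pCore p G : Set G)).Normal := inferInstance
    rw [hMdef]; infer_instance
  have hMS : M ≤ S := inf_le_left.trans hOS
  have hnq := fun {g : G} (hgS : g ∈ S) (hg : ⁅⁅M, zpowers g⁆, zpowers g⁆ = ⊥) =>
    no_quad hS hc 𝒢 h1 h2 h3 h4 Y hY hYH hM hgS hg
  by_contra hJ
  have hex : ∃ A, MaxEA 0 S A ∧ ¬ A ≤ pCore p G := by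
    by_contra hcon
    push Not at hcon
    exact hJ (sSup_le hcon)
  obtain ⟨A, ⟨hA, hAO⟩, hmax⟩ := Set.Finite.exists_maximalFor (f := fun A : Subgroup G => Nat.card ↥(A ⊓ M))
    (s := {A : Subgroup G | MaxEA 0 S A ∧ ¬ A ≤ pCore p G}) (Set.toFinite _) hex
  by_cases hMA : M ≤ normalizer (A : Set G)
  · apply hAO
    intro a ha
    apply hnq (hA.1 ha)
    have haA : zpowers a ≤ A := by rw [zpowers_le]; exact ha
    have h2 : ⁅M, zpowers a⁆ ≤ A := by
      rw [commutator_le]
      intro b hb x hx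
      rw [commutatorElement_def]
      exact mul_mem ((mem_normalizer_iff.1 (hMA hb) x).1 (haA hx)) (inv_mem (haA hx))
    rw [eq_bot_iff, commutator_le]
    intro x hx y hy
    rw [mem_bot, commutatorElement_eq_one_iff_mul_comm]
    exact hA.2.1.1 x (h2 hx) y (haA hy)
  · obtain ⟨A', hA', hlt, hA'N⟩ := H18.Replace.replacement (p := p) hS.isPGroup (A := A.subgroupOf S)
      (B := M.subgroupOf S) (maxEA_subgroupOf hA)
      ⟨⟨fun x y => Subtype.ext (Subtype.ext (((hM _).1 y.2).2 _ ((hM _).1 x.2).1))⟩⟩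
      (by
        intro x _
        haveI : (M.subgroupOf S).Normal := inferInstance
        rw [normalizer_eq_top_iff.2 this]; trivial)
      (by
        intro hle
        apply hMA
        intro m hm
        have h5 := mem_normalizer_iff.1 (hle (show (⟨m, hMS hm⟩ : S) ∈ M.subgroupOf S from hm))
        rw [mem_normalizer_iff]
        intro x
        constructor
        · intro hx
          exact (h5 ⟨x, hA.1 hx⟩).1 hx
        · intro hx
          have hxS : x ∈ S := by
            have := S.mul_mem (S.mul_mem (S.inv_mem (hMS hm)) (hA.1 hx)) (hMS hm)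
            simpa [mul_assoc] using this
          exact (h5 ⟨x, hxS⟩).2 hx)
    have hA'' := maxEA_map hA'
    have hA'O : A'.map S.subtype ≤ pCore p G := by
      by_contra hcon
      have h5 := hmax (j := A'.map S.subtype) ⟨hA'', hcon⟩ ?_
      · have h6 : Nat.card ↥(A.subgroupOf S ⊓ M.subgroupOf S : Subgroup S) < Nat.card ↥(A' ⊓ M.subgroupOf S : Subgroup S) :=
          Cfsg.Agent.H2.Card.card_lt_of_lt hlt
        have e1 : (A.subgroupOf S ⊓ M.subgroupOf S : Subgroup S).map S.subtype = A ⊓ M := by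
          rw [map_inf _ _ _ S.subtype_injective, map_subgroupOf_eq_of_le hA.1, map_subgroupOf_eq_of_le hMS]
        have e2 : (A' ⊓ M.subgroupOf S : Subgroup S).map S.subtype = A'.map S.subtype ⊓ M := by
          rw [map_inf _ _ _ S.subtype_injective, map_subgroupOf_eq_of_le hMS]
        rw [← Subgroup.card_map_of_injective (K := A.subgroupOf S ⊓ M.subgroupOf S) S.subtype_injective, e1,
          ← Subgroup.card_map_of_injective (K := A' ⊓ M.subgroupOf S) S.subtype_injective, e2] at h6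
        exact absurd h5 (not_le.2 h6)
      · have h6 : Nat.card ↥(A.subgroupOf S ⊓ M.subgroupOf S : Subgroup S) < Nat.card ↥(A' ⊓ M.subgroupOf S : Subgroup S) :=
          Cfsg.Agent.H2.Card.card_lt_of_lt hlt
        have e1 : (A.subgroupOf S ⊓ M.subgroupOf S : Subgroup S).map S.subtype = A ⊓ M := by
          rw [map_inf _ _ _ S.subtype_injective, map_subgroupOf_eq_of_le hA.1, map_subgroupOf_eq_of_le hMS]
        have e2 : (A' ⊓ M.subgroupOf S : Subgroup S).map S.subtype = A'.map S.subtype ⊓ M := by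
          rw [map_inf _ _ _ S.subtype_injective, map_subgroupOf_eq_of_le hMS]
        rw [← Subgroup.card_map_of_injective (K := A.subgroupOf S ⊓ M.subgroupOf S) S.subtype_injective, e1,
          ← Subgroup.card_map_of_injective (K := A' ⊓ M.subgroupOf S) S.subtype_injective, e2] at h6
        exact h6.le
    have hMA' : M ≤ A'.map S.subtype := by
      intro m hm
      exact hA''.mem_of (hMS hm) (pow_zero _) (fun a ha => ((hM m).1 hm).2 a (hA'O ha))
    apply hMA
    intro m hm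
    obtain ⟨a, ha, rfl⟩ := hMA' hm
    have h5 := mem_normalizer_iff.1 (hA'N ha)
    rw [mem_normalizer_iff]
    intro x
    constructor
    · intro hx
      exact (h5 ⟨x, hA.1 hx⟩).1 hx
    · intro hx
      have hxS : x ∈ S := by
        have := S.mul_mem (S.mul_mem (S.inv_mem a.2) (hA.1 hx)) a.2
        simpa [mul_assoc] using this
      exact (h5 ⟨x, hxS⟩).2 hx

end Cfsg.Agent.H27.Pw
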