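import Mathlib
import Cfsg.Agent.H27_Pw2
import Cfsg.Agent.H27_Pw4
import Cfsg.Agent.H27_LG7
import Cfsg.Agent.H27_S4g
import Cfsg.Agent.H27_Real

/-! Classes of maps realized by subgroups of a model. -/

set_option autoImplicit false
universe u v w

namespace Cfsg.Agent.H27.Fus

open Cfsg Cfsg.FusionSystem Cfsg.Agent.H27.Grp Cfsg.Agent.H12.ZJ Cfsg.Agent.H13.Syl

section gc

variable {Ω : Type*} [Group Ω] {S T : Subgroup Ω} {F : FusionSystem S} {P Q R V X : Subgroup Ω} {p : ℕ} {f g : Ω → Ω}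
variable {G : Type*} [Group G] {ι : S →* G}

/-- all maps realized by `X` lie in the class `C` -/
def GC (ι : S →* G) (C : Subgroup Ω → (Ω → Ω) → Prop) (X : Subgroup G) : Prop :=
  ∀ P f, P ≤ S → (∀ x ∈ P, f x ∈ S) → (∀ x ∈ P, ∀ y ∈ P, f (x * y) = f x * f y) →
    (∃ g ∈ X, ∀ x ∈ P, tt ι (f x) = g * tt ι x * g⁻¹) → C P f

theorem GC_mono {C : Subgroup Ω → (Ω → Ω) → Prop} {X Y : Subgroup G} (hXY : X ≤ Y) (h : GC ι C Y) : GC ι C X := by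
  rintro P f h1 h2 h3 ⟨g, hg, h4⟩
  exact h P f h1 h2 h3 ⟨g, hXY hg, h4⟩

variable [Fact p.Prime] [Finite S]

theorem GC_frattini (h : MD F p Q G ι) {C : Subgroup Ω → (Ω → Ω) → Prop} (hC : SubCls F C)
    {T : Subgroup G} (hT : T = ι.range) {X : Subgroup G} (hX : X.Normal) (h1 : GC ι C (X ⊔ T))
    (h2 : GC ι C (Subgroup.normalizer ((T ⊓ X : Subgroup G) : Set G))) : GC ι C ⊤ := by
  haveI := h.fin
  obtain ⟨T', hT'⟩ := h.syl
  have hTT : (T' : Subgroup G) = T := by rw [hT', hT]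
  have hTs : IsSylIn p T ⊤ := by rw [← hTT]; exact isSylIn_sylow_top T'
  have hTm : ∀ g : G, g ∈ T ↔ ∃ x ∈ S, tt ι x = g := by intro g; rw [hT]; exact mem_range_iff
  rintro P f hPS hfS hmul ⟨g, -, hg⟩
  have hfm : Map F P f := (h.real P f hPS hfS hmul).2 ⟨g, hg⟩
  obtain ⟨x, hx, n, hn, rfl⟩ := frattini_top hTs hX g
  set N := Subgroup.normalizer ((T ⊓ X : Subgroup G) : Set G) with hN
  have hTN : T ≤ N := by
    refine le_normalizer_of fun t ht y hy => ?_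
    exact ⟨T.mul_mem (T.mul_mem ht hy.1) (T.inv_mem ht), hX.conj_mem y hy.2 t⟩
  -- the group `n P n⁻¹`
  let P₁ : Subgroup G := (P.subgroupOf S).map ι
  have hP₁ : ∀ y, y ∈ P₁ ↔ ∃ u ∈ P, tt ι u = y := fun y => mem_im_sub hPS
  have hP₁T : P₁ ≤ T := fun y hy => by
    obtain ⟨u, hu, rfl⟩ := (hP₁ y).1 hy
    exact (hTm _).2 ⟨u, hPS hu, rfl⟩
  let P₂ : Subgroup G := Grp.cj n P₁
  have hP₂p : IsPGroup p P₂ := (hTs.isPGroup.to_le hP₁T).map _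
  have hP₂N : P₂ ≤ (X ⊔ T) ⊓ N := by
    rintro _ ⟨y, hy, rfl⟩
    obtain ⟨u, hu, rfl⟩ := (hP₁ y).1 hy
    show n * tt ι u * n⁻¹ ∈ _
    refine ⟨?_, N.mul_mem (N.mul_mem hn (hTN (hP₁T hy))) (N.inv_mem hn)⟩
    have h3 := hg u hu
    have h4 : n * tt ι u * n⁻¹ = x⁻¹ * tt ι (f u) * x := by rw [h3]; group
    rw [h4]
    exact Subgroup.mul_mem _ (Subgroup.mul_mem _ (Subgroup.inv_mem _ (Subgroup.mem_sup_left hx))
      (Subgroup.mem_sup_right ((hTm _).2 ⟨f u, hfS u hu, rfl⟩))) (Subgroup.mem_sup_left hx)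
  have hTsyl : IsSylIn p T ((X ⊔ T) ⊓ N) := hTs.mono (le_inf le_sup_right hTN) le_top
  obtain ⟨y, hy, hyP⟩ := hTsyl.exists_conj_le hP₂p hP₂N
  have hyn : ∀ u ∈ P, ∃ v ∈ S, tt ι v = (y * n) * tt ι u * (y * n)⁻¹ := by
    intro u hu
    have h3 : y * (n * tt ι u * n⁻¹) * y⁻¹ ∈ T := hyP ⟨_, ⟨_, (hP₁ _).2 ⟨u, hu, rfl⟩, rfl⟩, rfl⟩
    obtain ⟨v, hv, hve⟩ := (hTm _).1 h3
    exact ⟨v, hv, by rw [hve]; group⟩
  obtain ⟨f₂, hf₂, hf₂e⟩ := h.exists_map hPS (y * n) hyn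
  have hC2 : C P f₂ := h2 P f₂ hPS (fun x hx => hf₂.mem hx) (fun x hx y hy => hf₂.mul hx hy)
    ⟨y * n, N.mul_mem hy.2 hn, hf₂e⟩
  have hi := hf₂.iso
  have hx' : ∀ u ∈ im P f₂, ∃ v ∈ S, tt ι v = (x * y⁻¹) * tt ι u * (x * y⁻¹)⁻¹ := by
    intro u hu
    obtain ⟨w, hw, rfl⟩ := hf₂.mem_im.1 hu
    refine ⟨f w, hfS w hw, ?_⟩
    rw [hf₂e w hw, hg w hw]; group
  obtain ⟨f₁, hf₁, hf₁e⟩ := h.exists_map (im P f₂ |> fun _ => hf₂.im_le) (x * y⁻¹) hx'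
  have hC1 : C (im P f₂) f₁ := h1 _ f₁ hf₂.im_le (fun x hx => hf₁.mem hx) (fun x hx y hy => hf₁.mul hx hy)
    ⟨x * y⁻¹, Subgroup.mul_mem _ (Subgroup.mem_sup_left hx) (Subgroup.inv_mem _ hy.1), hf₁e⟩
  refine hC.congr (hC.comp hf₂ hf₁ hC2 hC1 fun u hu => hf₂.apply_mem_im hu) fun u hu => ?_
  have hmem := hf₂.apply_mem_im hu
  apply tt_inj h.inj (hf₁.mem hmem) (hfS u hu)
  rw [hf₁e _ hmem, hf₂e u hu, hg u hu]; group

/-- proper overgroups of `S` in a model give proper subsystems -/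
theorem GC_proper (h : MD F p Q G ι) {C : Subgroup Ω → (Ω → Ω) → Prop}
    {T : Subgroup G} (hT : T = ι.range) {X : Subgroup G} (hTX : T ≤ X) (hX : X ≠ ⊤)
    (hind : ∀ E : FusionSystem S, E.IsSaturated p → (∀ P f, Map E P f → Map F P f) → (∃ P f, Map F P f ∧ ¬ Map E P f) →
      ∀ P f, Map E P f → C P f) : GC ι C X := by
  haveI := h.fin
  obtain ⟨T', hT'⟩ := h.syl
  obtain ⟨E, hEs, hE⟩ := exists_realFS_sat h.inj ⟨T', hT'⟩ X (by rw [← hT]; exact hTX)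
  have hsub : ∀ P f, Map E P f → Map F P f := by
    intro P f hf
    obtain ⟨h1, h2, h3, g, -, hg⟩ := (hE P f).1 hf
    exact (h.real P f h1 h2 h3).2 ⟨g, hg⟩
  rintro P f h1 h2 h3 h4
  refine hind E hEs hsub ?_ P f ((hE P f).2 ⟨h1, h2, h3, h4⟩)
  by_contra hcon
  push Not at hcon
  apply hX
  rw [eq_top_iff]
  intro g _
  obtain ⟨k, hk, hke⟩ := h.exists_map h.QS g (fun x hx => by
    obtain ⟨y, hy, hy'⟩ := h.nor g x hx; exact ⟨y, h.QS hy, hy'⟩)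
  obtain ⟨-, -, -, a, ha, hae⟩ := (hE _ _).1 (hcon _ _ hk)
  obtain ⟨q, hq, hqe⟩ := h.cen (a⁻¹ * g) (fun q hq => by
    have e1 := hke q hq
    rw [hae q hq] at e1
    calc a⁻¹ * g * tt ι q = a⁻¹ * (g * tt ι q * g⁻¹) * g := by group
      _ = a⁻¹ * (a * tt ι q * a⁻¹) * g := by rw [e1]
      _ = tt ι q * (a⁻¹ * g) := by group)
  have h5 : g = a * tt ι q := by rw [hqe]; group
  rw [h5]
  refine X.mul_mem ha (hTX ?_)
  rw [hT]; exact mem_range_iff.2 ⟨q, h.QS hq, rfl⟩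

theorem MD.charp (hS : IsPGroup p S) (h : MD F p Q G ι) : Subgroup.centralizer (pCore p G : Set G) ≤ pCore p G := by
  haveI := h.fin
  have hQp : IsPGroup p ((Q.subgroupOf S).map ι) := (hS.to_subgroup _).map _
  haveI hQn := h.normal_map
  have hle : (Q.subgroupOf S).map ι ≤ pCore p G := Cfsg.Agent.H1.Nilp.le_pCore hQn hQp
  refine le_trans (Subgroup.centralizer_le hle) (le_trans ?_ hle)
  intro g hg
  obtain ⟨q, hq, hqg⟩ := h.cen g fun q hq => by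
    have := Subgroup.mem_centralizer_iff.1 hg (tt ι q) ((mem_im_sub h.QS).2 ⟨q, hq, rfl⟩)
    exact this.symm
  exact (mem_im_sub h.QS).2 ⟨q, hq, hqg⟩

end gc

section pz

variable {Ω : Type*} [Group Ω] {S T : Subgroup Ω} {F : FusionSystem S} {P Q R V X : Subgroup Ω} {p : ℕ} {f g : Ω → Ω}

/-- `p`-th powers of the center -/
def PZ (p : ℕ) (R : Subgroup Ω) : Subgroup Ω := powerClosure p 1 (R ⊓ Subgroup.centralizer (R : Set Ω))

theorem mem_PZ {x : Ω} : x ∈ PZ p R ↔ ∃ y ∈ R ⊓ Subgroup.centralizer (R : Set Ω), x = y ^ p := by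
  constructor
  · intro hx
    refine Subgroup.closure_induction (p := fun z _ => ∃ y ∈ R ⊓ Subgroup.centralizer (R : Set Ω), z = y ^ p) ?_ ?_ ?_ ?_ hx
    · rintro _ ⟨y, hy, rfl⟩
      exact ⟨y, hy, by rw [pow_one]⟩
    · exact ⟨1, one_mem _, (one_pow p).symm⟩
    · rintro _ _ _ _ ⟨a, ha, rfl⟩ ⟨b, hb, rfl⟩
      refine ⟨a * b, mul_mem ha hb, ?_⟩
      rw [(show Commute a b from Subgroup.mem_centralizer_iff.1 hb.2 a ha.1).mul_pow]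
    · rintro _ _ ⟨a, ha, rfl⟩
      exact ⟨a⁻¹, inv_mem ha, by rw [inv_pow]⟩
  · rintro ⟨y, hy, rfl⟩
    exact Subgroup.subset_closure ⟨y, hy, by rw [pow_one]⟩

theorem PZ_le : PZ p R ≤ R := by
  intro x hx
  obtain ⟨y, hy, rfl⟩ := mem_PZ.1 hx
  exact R.pow_mem hy.1 p

theorem PZ_comm {x : Ω} (hx : x ∈ PZ p R) {r : Ω} (hr : r ∈ R) : r * x = x * r := by
  obtain ⟨y, hy, rfl⟩ := mem_PZ.1 hx
  exact (show Commute r y from Subgroup.mem_centralizer_iff.1 hy.2 r hr).pow_right p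

theorem PZ_im (hf : Map F R f) : PZ p (im R f) = im (PZ p R) f := by
  ext x
  rw [mem_PZ, (hf.mono PZ_le).mem_im]
  constructor
  · rintro ⟨y, ⟨hy1, hy2⟩, rfl⟩
    obtain ⟨u, hu, rfl⟩ := hf.mem_im.1 hy1
    refine ⟨u ^ p, mem_PZ.2 ⟨u, ⟨hu, Subgroup.mem_centralizer_iff.2 fun v hv => ?_⟩, rfl⟩, hf.pow hu p⟩
    apply hf.inj (R.mul_mem hv hu) (R.mul_mem hu hv)
    rw [hf.mul hv hu, hf.mul hu hv]
    exact Subgroup.mem_centralizer_iff.1 hy2 _ (hf.apply_mem_im hv)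
  · rintro ⟨z, hz, rfl⟩
    obtain ⟨y, ⟨hy1, hy2⟩, rfl⟩ := mem_PZ.1 hz
    refine ⟨f y, ⟨hf.apply_mem_im hy1, Subgroup.mem_centralizer_iff.2 fun v hv => ?_⟩, hf.pow hy1 p⟩
    obtain ⟨w, hw, rfl⟩ := hf.mem_im.1 hv
    rw [← hf.mul hw hy1, ← hf.mul hy1 hw, Subgroup.mem_centralizer_iff.1 hy2 w hw]

theorem PZ_mono (hRS : R ≤ S) (hZ : centralizerIn S S ≤ R) : PZ p S ≤ PZ p R := by
  intro x hx
  obtain ⟨y, ⟨hy1, hy2⟩, rfl⟩ := mem_PZ.1 hx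
  refine mem_PZ.2 ⟨y, ⟨hZ (mem_cen.2 ⟨hy1, fun s hs => Subgroup.mem_centralizer_iff.1 hy2 s hs⟩),
    Subgroup.mem_centralizer_iff.2 fun r hr => Subgroup.mem_centralizer_iff.1 hy2 r (hRS hr)⟩, rfl⟩

theorem PZ_nrm : S ≤ normalizerIn S (PZ p S) := by
  intro s hs
  refine mem_nrm.2 ⟨hs, fun y => ?_⟩
  constructor
  · intro hy
    rw [PZ_comm hy hs, mul_inv_cancel_right]; exact hy
  · intro hy
    have h1 := PZ_comm hy (S.inv_mem hs)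
    have h2 : s⁻¹ * (s * y * s⁻¹) * s = y := by group
    rw [h1, inv_mul_cancel_right] at h2
    rw [← h2]; exact hy

theorem ncmap_true_bot (hf : Map F P f) : NCmap true F ⊥ P f := by
  have hn : ∀ s ∈ S, s ∈ normalizerIn S (⊥ : Subgroup Ω) := fun s hs => mem_nrm.2 ⟨hs, fun y => by
    rw [Subgroup.mem_bot, Subgroup.mem_bot, conj_eq_one_iff]⟩
  refine ⟨fun x hx => hn x (hf.le hx), fun x hx => hn _ (hf.mem hx), f, by rwa [sup_bot_eq], fun _ _ => rfl, ?_, fun _ x hx => ?_⟩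
  · have h1 : Map F ⊥ f := hf.mono bot_le
    apply im_of_id
    intro x hx
    rw [Subgroup.mem_bot] at hx
    rw [hx, hf.one]
  · rw [Subgroup.mem_bot] at hx
    rw [hx, hf.one]

end pz

end Cfsg.Agent.H27.Fus
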