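import Mathlib
import Cfsg.Agent.H27_Pw5
import Cfsg.Agent.H27_LG5

/-! `F` is generated by `C_F(℧¹(Z(S)))` and `N_F(J(S))`. -/

set_option autoImplicit false
universe u v w

namespace Cfsg.Agent.H27.Fus

open Cfsg Cfsg.FusionSystem Cfsg.Agent.H27.Grp Cfsg.Agent.H12.ZJ Cfsg.Agent.H13.Syl

theorem NCmap.mono_sys {Ω : Type*} [Group Ω] {R S : Subgroup Ω} {E : FusionSystem R} {F : FusionSystem S} {b : Bool}
    {V P : Subgroup Ω} {f : Ω → Ω} (hRS : R ≤ S) (hsub : ∀ P f, Map E P f → Map F P f) (h : NCmap b E V P f) :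
    NCmap b F V P f := by
  obtain ⟨h1, h2, g, h3, h4⟩ := h
  have hle : normalizerIn R V ≤ normalizerIn S V := inf_le_inf_right _ hRS
  exact ⟨h1.trans hle, fun x hx => hle (h2 x hx), g, hsub _ _ h3, h4⟩

theorem gen_JZ {p : ℕ} [Fact p.Prime] :
    ∀ {Ω : Type u} [Group Ω] (S : Subgroup Ω) [Finite S] (F : FusionSystem S), IsPGroup p S → F.IsSaturated p →
      ∀ C : Subgroup Ω → (Ω → Ω) → Prop, SubCls F C → (∀ P f, NCmap false F (JJ 0 S) P f → C P f) →
        (∀ P f, NCmap true F (PZ p S) P f → C P f) → ∀ P f, Map F P f → C P f := by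
  apply sat_induction (p := p) (motive := fun {Ω} _ S F => ∀ C : Subgroup Ω → (Ω → Ω) → Prop, SubCls F C →
    (∀ P f, NCmap false F (JJ 0 S) P f → C P f) →
        (∀ P f, NCmap true F (PZ p S) P f → C P f) → ∀ P f, Map F P f → C P f)
  intro Ω _ S _ F hS hF IH1 IH2 C hC hJ hZ
  by_cases hZb : PZ p S = ⊥
  · intro P f hf
    apply hZ
    rw [hZb]; exact ncmap_true_bot hf
  have hJn : S ≤ normalizerIn S (JJ 0 S) := JJ_strong_normal (strongly_top F)
  have hinn : ∀ P ≤ S, ∀ s ∈ S, C P (fun x => s * x * s⁻¹) := by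
    intro P hP s hs
    apply hJ
    refine ⟨hP.trans hJn, fun x hx => hJn (S.mul_mem (S.mul_mem hs (hP hx)) (S.inv_mem hs)), _,
      map_conj F (sup_le hP (JJ_le 0 S)) hs, fun _ _ => rfl, ?_, fun h => absurd h (by decide)⟩
    have h1 : im S (fun x => s * x * s⁻¹) = S := StronglyClosed.im_eq (strongly_top F) (map_conj F le_rfl hs) le_rfl
    have h2 := JJ_im (n := 0) (map_conj F (le_refl S) hs)
    rw [h1] at h2
    exact h2.symm
  refine reduceM hS hF hC (fun b : Bool => fun R => if b then PZ p R else JJ 0 R) id false rfl ?_ ?_ ?_ ?_ ?_ ?_ ?_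
  · rintro (_ | _) R hR
    · exact JJ_le 0 R
    · exact PZ_le
  · rintro (_ | _) R f hf
    · exact JJ_im hf
    · exact PZ_im hf
  · rintro (_ | _) R hR hZR hRb
    · haveI : Finite R := finite_of_le hR
      exact JJ_ne (p := p) (dvd_zero p) (isPGroup_mono hS hR) hRb
    · intro h
      apply hZb
      rw [eq_bot_iff, ← h]
      exact PZ_mono hR hZR
  · rintro (_ | _) P f hf
    · exact hJ P f hf
    · exact hZ P f hf
  · -- subsystems
    intro V K R E _ _ _ _ hRS hE hsub hlt hCR hEN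
    have hC' : SubCls E C := hC.mono hsub
    have h1 : ∀ P f, NCmap false E (JJ 0 R) P f → C P f := fun P f => hEN false P f
    have h2 : ∀ P f, NCmap true E (PZ p R) P f → C P f := fun P f => hEN true P f
    haveI : Finite R := finite_of_le hRS
    rcases hlt with hlt | hlt
    · exact IH1 R E (isPGroup_mono hS hRS) hE (card_lt_of_lt hlt) C hC' h1 h2
    · by_cases hRS' : R = S
      · subst hRS'
        exact IH2 E hE hsub hlt C hC' h1 h2
      · exact IH1 R E (isPGroup_mono hS hRS) hE (card_lt_of_lt (lt_of_le_of_ne hRS hRS')) C hC' h1 h2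
  · -- constrained
    intro hcb hV hcen P f hf
    by_contra hcon
    have hQ := core_normal F
    have hQS : F.core ≤ S := (isNormal_iff.1 hQ).1
    obtain ⟨G, _, ι, hM⟩ := exists_model hS hF hQ hcen
    have hMD := MD.of_model hS hF hQ hcen hM
    haveI := hMD.fin
    obtain ⟨T, hT⟩ := hMD.syl
    have hcG := hMD.charp hS
    have hTm : ∀ g : G, g ∈ (T : Subgroup G) ↔ ∃ x ∈ S, tt ι x = g := by intro g; rw [hT]; exact mem_range_iff
    have hJO := Pw.JJ_le_pCore (p := p) (Cfsg.Agent.H13.Syl.isSylIn_sylow_top T) hcG (GC ι C) ?_ ?_ ?_ ?_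
      {y | y ∈ (T : Subgroup G) ∧ ∀ s ∈ (T : Subgroup G), s * y = y * s} (fun y hy => hy) ?_
    · -- conclusion
      have hOT : pCore p G ≤ (T : Subgroup G) := by
        haveI hOn : (pCore p G).Normal := H1.Nilp.pCore_normal p
        exact (H1.Nilp.pCore_isPGroup (G := G) p).le_sylow_of_normal T
      have hJJ : JJ 0 (T : Subgroup G) = JJ 0 (pCore p G) := (JJ_eq_of_le hOT hJO).symm
      have hJn' : (JJ 0 (T : Subgroup G)).Normal := by
        rw [hJJ]
        haveI hOn : (pCore p G).Normal := H1.Nilp.pCore_normal p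
        apply Subgroup.normalizer_eq_top_iff.1
        rw [eq_top_iff, ← Subgroup.normalizer_eq_top_iff.2 hOn]
        exact normalizer_le_JJ 0 (pCore p G)
      have hTS : (T : Subgroup G) = (S.subgroupOf S).map ι := by
        rw [hT, Subgroup.subgroupOf_self, MonoidHom.range_eq_map]
      have hm : ∀ y, y ∈ JJ 0 (T : Subgroup G) ↔ ∃ x ∈ JJ 0 S, tt ι x = y := by
        intro y
        rw [hTS]
        exact JJ_tt hMD.inj le_rfl
      have hN : F.IsNormal (JJ 0 S) := by
        refine hMD.normal_of_nor (JJ_le 0 S) fun g x hx => ?_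
        exact (hm _).1 (hJn'.conj_mem _ ((hm _).2 ⟨x, hx, rfl⟩) g)
      apply hcon
      exact hJ P f (nmap_of_normal hN hf).nc
    · -- proper overgroups
      intro X hTX hX
      refine GC_proper hMD hT hTX hX fun E hE hsub hex => ?_
      exact IH2 E hE hsub hex C (hC.mono hsub) (fun P f h => hJ P f (h.mono_sys le_rfl hsub))
        (fun P f h => hZ P f (h.mono_sys le_rfl hsub))
    · intro h
      apply hcon
      obtain ⟨g, hg⟩ := hMD.map_real hf
      exact h P f hf.le (fun x hx => hf.mem hx) (fun x hx y hy => hf.mul hx hy) ⟨g, trivial, hg⟩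
    · intro X hX h1 h2
      exact GC_frattini hMD hC hT hX h1 h2
    · intro X Y _ hXY h
      exact GC_mono hXY h
    · -- the centralizer
      rintro P f hPS hfS hmul ⟨g, hg, hge⟩
      apply hZ
      have hgc : ∀ x ∈ PZ p S, tt ι x = g * tt ι x * g⁻¹ := by
        intro x hx
        obtain ⟨y, ⟨hy1, hy2⟩, rfl⟩ := mem_PZ.1 hx
        have h1 := Subgroup.mem_centralizer_iff.1 hg (tt ι (y ^ p)) ⟨tt ι y, ⟨(hTm _).2 ⟨y, hy1, rfl⟩, fun s hs => ?_⟩, ?_⟩
        · rw [← h1, mul_inv_cancel_right]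
        · obtain ⟨u, hu, rfl⟩ := (hTm _).1 hs
          rw [← tt_mul ι hu hy1, ← tt_mul ι hy1 hu, Subgroup.mem_centralizer_iff.1 hy2 u hu]
        · show (tt ι y) ^ p = _
          rw [tt_of_mem ι hy1, ← map_pow, tt_of_mem ι (S.pow_mem hy1 p)]; rfl
      obtain ⟨k, hk, hke⟩ := hMD.exists_map_sup hPS (PZ_le (p := p) (R := S)) g
        (fun x hx => ⟨f x, hfS x hx, hge x hx⟩) (fun x hx => ⟨x, PZ_le hx, hgc x hx⟩)
      have hkZ : ∀ x ∈ PZ p S, k x = x := by
        intro x hx
        apply tt_inj hMD.inj (hk.mem (Subgroup.mem_sup_right hx)) (PZ_le hx)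
        rw [hke x (Subgroup.mem_sup_right hx), ← hgc x hx]
      refine ⟨hPS.trans PZ_nrm, fun x hx => PZ_nrm (hfS x hx), k, hk, fun x hx => ?_, im_of_id hkZ, fun _ => hkZ⟩
      apply tt_inj hMD.inj (hk.mem (Subgroup.mem_sup_left hx)) (hfS x hx)
      rw [hke x (Subgroup.mem_sup_left hx), hge x hx]
  · -- quotient
    intro hsc hQb hQc hV
    have hQ := core_normal F
    have hQs := IsNormal.strong hQ
    have hQS : F.core ≤ S := (isNormal_iff.1 hQ).1
    by_cases hZQ : PZ p S ≤ F.core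
    · intro P f hf
      obtain ⟨g, hg, hgf, s, hs, hgs⟩ := hsc P f hf
      apply hZ
      have hgZ : ∀ x ∈ PZ p S, g x = x := by
        intro x hx
        rw [hgs x (hZQ hx), PZ_comm hx hs, mul_inv_cancel_right]
      exact ⟨hf.le.trans PZ_nrm, fun x hx => PZ_nrm (hf.mem hx), g, hg.mono (sup_le_sup_left hZQ _), hgf,
        im_of_id hgZ, fun _ => hgZ⟩
    · obtain ⟨N, hNn, E, hpS', hE, hEs, hcard⟩ := exists_quo hS hF hQs hQb
      obtain ⟨hd, hm⟩ := isFactorSystem_iff.1 hE
      set θ := QuotientGroup.mk' N with hθ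
      haveI : Finite (⊤ : Subgroup (S ⧸ N)) := finite_S' hd
      have hnb : (⊤ : Subgroup (S ⧸ N)) ≠ ⊥ := by
        intro hb
        apply hZQ
        intro x hx
        have h1 : tt θ x ∈ (⊤ : Subgroup (S ⧸ N)) := trivial
        rw [hb, Subgroup.mem_bot, ← tt_one θ, hd.eq_iff (PZ_le hx) S.one_mem] at h1
        simpa using h1
      have key : ∀ V' : Subgroup (S ⧸ N), V' ≤ ⊤ → (⊤ : Subgroup (S ⧸ N)) ≤ normalizerIn ⊤ V' →
          ¬ preimageAlong θ V' ≤ F.core → ∀ P' f', Nmap E V' P' f' → ∃ g, Map F (preimageAlong θ P') g ∧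
          (∀ x ∈ preimageAlong θ P', f' (tt θ x) = tt θ (g x)) ∧ C (preimageAlong θ P') g := by
        intro V' hV'S hV'n hV'b P' f' hf'
        have hVF := hV _ (preimageAlong_le _ _) (pre_normal hd hV'S hV'n) hV'b
        obtain ⟨g, hg, hgf⟩ := nmap_lift hE hQs hV'S hV'n hf'
        exact ⟨g, hg.map, hgf, hVF _ _ hg⟩
      refine lift_cls hS hF hQ hsc hE hC hinn ?_
      refine IH1 (⊤ : Subgroup (S ⧸ N)) E hpS' hEs hcard _ (subCls_push hQ hE hC) ?_ ?_
      · intro P' f' hf'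
        refine key (JJ 0 ⊤) le_top (JJ_strong_normal (strongly_top E)) ?_ P' f' hf'.nmap
        intro hle
        apply JJ_ne (p := p) (dvd_zero p) hpS' hnb
        rw [eq_bot_iff]
        intro y hy
        obtain ⟨x, hx, rfl⟩ := hd.pre_surj le_top hy
        have h1 := hle hx
        rw [Subgroup.mem_bot, ← tt_one θ, hd.eq_iff (hQS h1) S.one_mem]
        simpa using h1
      · intro P' f' hf'
        refine key (PZ p ⊤) le_top PZ_nrm ?_ P' f' hf'.nmap
        intro hle
        apply hZQ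
        intro x hx
        apply hle
        refine (mem_preimageAlong θ).2 ⟨PZ_le hx, ?_⟩
        obtain ⟨y, ⟨hy1, hy2⟩, rfl⟩ := mem_PZ.1 hx
        refine mem_PZ.2 ⟨tt θ y, ⟨trivial, Subgroup.mem_centralizer_iff.2 fun s _ => ?_⟩, ?_⟩
        · obtain ⟨u, hu, rfl⟩ := hd.surj (show s ∈ (⊤ : Subgroup (S ⧸ N)) from trivial)
          rw [← tt_mul θ hu hy1, ← tt_mul θ hy1 hu, Subgroup.mem_centralizer_iff.1 hy2 u hu]
        · rw [tt_of_mem θ hy1, ← map_pow, tt_of_mem θ (S.pow_mem hy1 p)]; rfl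

end Cfsg.Agent.H27.Fus
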