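import Mathlib
import Cfsg.Agent.H27_Solv2
import Cfsg.Agent.H27_LG5
import Cfsg.Agent.H27_Emb4
import Cfsg.Agent.H27_GT3
import Cfsg.Agent.H27_S4h
import Cfsg.Agent.H27_Qd3
import Cfsg.Agent.H18_PStab
import Cfsg.Agent.H18_ZJF3

/-! `Qd(p)`-free systems (p odd) are solvable. -/

universe u v w
namespace Cfsg.Agent.H27.Fus

open Cfsg Cfsg.FusionSystem Cfsg.Agent.H27.Grp Cfsg.Agent.H12.ZJ

theorem ZJJ_map_top {G : Type*} [Group G] (D : Subgroup G) :
    (ZJJ 0 (⊤ : Subgroup D)).map D.subtype = ZJJ 0 D := by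
  rw [← H2.ZJ2.ZJJ_map D.subtype D.subtype_injective.injOn, ← MonoidHom.range_eq_map, Subgroup.range_subtype]

theorem zj_normal_qd {p : ℕ} [Fact p.Prime] (hp : p ≠ 2) {Ω : Type u} [Group Ω] (S : Subgroup Ω) [Finite S]
    (F : FusionSystem S) (hS : IsPGroup p S) (hF : F.IsSaturated p) (hfree : F.IsSectionFree p ↥(qd p)) :
    F.IsNormal (ZJJ 0 S) := by
  have h := functor_normal (p := p) (X := ↥(qd p)) (fun (Q : Type u) [Group Q] => ZJJ 0 (⊤ : Subgroup Q)) ?_ ?_ ?_ S F hS hF hfree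
  · have e : Wm (fun (Q : Type u) [Group Q] => ZJJ 0 (⊤ : Subgroup Q)) S = ZJJ 0 S := ZJJ_map_top S
    rwa [e] at h
  · intro Q _ _ hQ hnt
    haveI := hnt
    haveI : Finite (⊤ : Subgroup Q) := inferInstance
    refine ZJJ_ne (dvd_zero p) (hQ.to_subgroup ⊤) ?_
    exact top_ne_bot
  · intro Q R _ _ _ hQ φ
    have h1 := H2.ZJ2.ZJJ_map (n := 0) (D := (⊤ : Subgroup Q)) φ.toMonoidHom (φ.injective.injOn)
    rw [← h1, ← MonoidHom.range_eq_map, MonoidHom.range_eq_top.2 φ.surjective]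
  · intro L _ _ P hc hinv
    have hst : Cfsg.IsNormalizerPStable p L := H18.PStab.stable_of_qd hp hinv
    have h0 := H12.ZJ.zj_normal hp H12.ZJ.dvd_zero_aux (dvd_zero p) (H13.Syl.isSylIn_sylow_top P)
      (D := (P : Subgroup L)) le_rfl (fun x _ g hg => hg) (H12.ZJ.stab_of_isNormalizerPStable hst _) hc
    rw [ZJJ_map_top]
    exact h0

theorem qd_free_ch {p : ℕ} [Fact p.Prime] (hp : p ≠ 2) : ∀ (n : ℕ) {Ω : Type u} [Group Ω] (S : Subgroup Ω) [Finite S]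
    (F : FusionSystem S), Nat.card S = n → IsPGroup p S → F.IsSaturated p → F.IsSectionFree p ↥(qd p) → Ch F ⊥ S := by
  intro n
  induction n using Nat.strong_induction_on with
  | _ n ih =>
  intro Ω _ S _ F hn hS hF hfree
  by_cases hSb : S = ⊥
  · have h1 : Ch F ⊥ (⊥ : Subgroup Ω) := Ch.refl (IsNormal.strong (isNormal_bot F))
    exact (congrArg (fun X => Ch F ⊥ X) hSb.symm).mp h1
  have hW := zj_normal_qd hp S F hS hF hfree
  have hWs := IsNormal.strong hW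
  have hWne : ZJJ 0 S ≠ ⊥ := ZJJ_ne (dvd_zero p) hS hSb
  obtain ⟨N, _, E, hpE, hE, hEs, hcard⟩ := exists_quo hS hF hWs hWne
  have hEfree := sectionFree_quo hS hF hW hE hfree
  haveI : Finite (⊤ : Subgroup (S ⧸ N)) := finite_S' (isFactorSystem_iff.1 hE).1
  have hch := ih _ (hn ▸ hcard) (⊤ : Subgroup (S ⧸ N)) E rfl hpE hEs hEfree
  have hd := (isFactorSystem_iff.1 hE).1
  have h2 := ch_pre hS hF hWs hE hch
  have e1 : preimageAlong (QuotientGroup.mk' N) ⊥ = ZJJ 0 S := by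
    ext x
    rw [mem_preimageAlong]
    exact ⟨fun h => (hd.ker x h.1).1 (Subgroup.mem_bot.1 h.2), fun h => ⟨hWs.1 h, Subgroup.mem_bot.2 ((hd.ker x (hWs.1 h)).2 h)⟩⟩
  rw [e1, pre_S' hd] at h2
  refine Ch.trans (Ch.step ⊥ _ (Ch.refl (IsNormal.strong (isNormal_bot F))) hWs bot_le ?_) h2
  rw [Subgroup.commutator_le]
  intro a ha b hb
  rw [Subgroup.mem_bot, commutatorElement_eq_one_iff_mul_comm]
  have h3 : ZJJ 0 S ≤ centralizerIn S (ZJJ 0 S) := ZJJ_le_cen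
  exact ((mem_cen.1 (h3 ha)).2 b hb).symm

end Cfsg.Agent.H27.Fus
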