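import Mathlib

/-! A quadratic automorphism centralizes every abelian `p'`-group it normalizes (`p` odd). -/

universe u v w
namespace Cfsg.Agent.H27.Quad

theorem closure_comm {R : Type*} [Ring R] {K : Set R} (hKc : ∀ k ∈ K, ∀ l ∈ K, k * l = l * k) :
    ∀ a ∈ Subring.closure K, ∀ b ∈ Subring.closure K, a * b = b * a := by
  intro a ha b hb
  have h1 : Subring.closure K ≤ Subring.centralizer K := by
    rw [Subring.closure_le]
    intro k hk
    exact Subring.mem_centralizer_iff.2 fun l hl => hKc l hl k hk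
  have h2 : Subring.closure K ≤ Subring.centralizer (Subring.closure K : Set R) := by
    rw [Subring.closure_le]
    intro k hk
    refine Subring.mem_centralizer_iff.2 fun l hl => ?_
    exact (Subring.mem_centralizer_iff.1 (h1 hl) k hk).symm
  exact (Subring.mem_centralizer_iff.1 (h2 hb) a ha)

theorem closure_pow {R : Type*} [Ring R] {p : ℕ} [Fact p.Prime] [CharP R p] {K : Set R}
    (hKc : ∀ k ∈ K, ∀ l ∈ K, k * l = l * k) {m : ℕ} (hK : ∀ k ∈ K, k ^ p ^ m = k) :
    ∀ a ∈ Subring.closure K, a ^ p ^ m = a := by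
  have hc := closure_comm hKc
  have hpm : p ^ m ≠ 0 := pow_ne_zero _ (Fact.out : p.Prime).ne_zero
  intro a ha
  induction ha using Subring.closure_induction with
  | mem x hx => exact hK x hx
  | zero => exact zero_pow hpm
  | one => exact one_pow _
  | add x y hx hy ihx ihy =>
    rw [add_pow_char_pow_of_commute p m (hc x hx y hy : Commute x y), ihx, ihy]
  | neg x hx ih =>
    have h1 : (0 : R) = (x + -x) ^ p ^ m := by rw [add_neg_cancel, zero_pow hpm]
    rw [add_pow_char_pow_of_commute p m (Commute.neg_right (Commute.refl x)), ih] at h1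
    exact (neg_eq_of_add_eq_zero_right h1.symm).symm
  | mul x y hx hy ihx ihy =>
    have hxy : Commute x y := hc x hx y hy
    rw [hxy.mul_pow, ihx, ihy]

theorem quad_comm {R : Type*} [Ring R] {p : ℕ} [Fact p.Prime] [CharP R p] (hp : p ≠ 2) {x : R} (hx : x * x = 0)
    {K : Set R} (hKc : ∀ k ∈ K, ∀ l ∈ K, k * l = l * k) (hK2 : ∀ k ∈ K, k * k ∈ K) {n : ℕ} (hn : n.Coprime p)
    (hKn : ∀ k ∈ K, k ^ n = 1) (hKx : ∀ k ∈ K, (1 + x) * k * (1 - x) ∈ K)
    (hKx' : ∀ k ∈ K, (1 - x) * k * (1 + x) ∈ K) : ∀ k ∈ K, x * k = k * x := by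
  have hpp : p.Prime := Fact.out
  have hn0 : n ≠ 0 := by
    rintro rfl
    rw [Nat.coprime_zero_left] at hn
    exact hpp.one_lt.ne' hn
  set m := Nat.totient n with hm
  have hm0 : 0 < m := Nat.totient_pos.2 (Nat.pos_of_ne_zero hn0)
  have hmod : p ^ m ≡ 1 [MOD n] := Nat.ModEq.pow_totient hn.symm
  have hK : ∀ k ∈ K, k ^ p ^ m = k := by
    intro k hk
    have h1 : n ∣ p ^ m - 1 := (Nat.modEq_iff_dvd' (Nat.one_le_pow _ _ hpp.pos)).1 hmod.symm
    obtain ⟨c, hc⟩ := h1
    have h2 : p ^ m = n * c + 1 := by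
      have := Nat.one_le_pow m p hpp.pos
      omega
    rw [h2, pow_add, pow_mul, hKn k hk, one_pow, one_mul, pow_one]
  have hpow := closure_pow hKc hK
  have hred : ∀ y ∈ Subring.closure K, y * y = 0 → y = 0 := by
    intro y hy hyy
    rw [← hpow y hy]
    have h1 : 2 ≤ p ^ m := by
      calc 2 ≤ p := hpp.two_le
        _ = p ^ 1 := (pow_one p).symm
        _ ≤ p ^ m := Nat.pow_le_pow_right hpp.pos hm0
    obtain ⟨c, hc⟩ := Nat.exists_eq_add_of_le h1
    rw [hc, pow_add, pow_two, hyy, zero_mul]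
  have hxkx : ∀ k ∈ K, x * k * x = 0 := by
    intro k hk
    apply hred
    · -- `2 y` in the closure
      have h1 : (2 : R) * (x * k * x) ∈ Subring.closure K := by
        have h2 : (2 : R) * (x * k * x) = 2 * k - (1 + x) * k * (1 - x) - (1 - x) * k * (1 + x) := by
          noncomm_ring
        rw [h2]
        refine sub_mem (sub_mem ?_ (Subring.subset_closure (hKx k hk))) (Subring.subset_closure (hKx' k hk))
        rw [two_mul]
        exact add_mem (Subring.subset_closure hk) (Subring.subset_closure hk)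
      obtain ⟨c, hc⟩ := hpp.odd_of_ne_two hp
      have h3 : x * k * x = ((c + 1 : ℕ) : R) * ((2 : R) * (x * k * x)) := by
        have h4 : ((c + 1 : ℕ) : R) * 2 = 1 := by
          have h5 : ((c + 1 : ℕ) : R) * 2 = ((p + 1 : ℕ) : R) := by
            rw [hc]; push_cast; noncomm_ring
          rw [h5]; push_cast
          rw [CharP.cast_eq_zero, zero_add]
        rw [← mul_assoc, h4, one_mul]
      rw [h3]
      exact mul_mem (natCast_mem _ _) h1
    · calc x * k * x * (x * k * x) = x * k * (x * x) * k * x := by noncomm_ring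
        _ = 0 := by rw [hx]; simp
  intro k hk
  have h1 : x * k - k * x ∈ Subring.closure K := by
    have h2 : x * k - k * x = (1 + x) * k * (1 - x) - k + x * k * x := by noncomm_ring
    rw [h2, hxkx k hk, add_zero]
    exact sub_mem (Subring.subset_closure (hKx k hk)) (Subring.subset_closure hk)
  have h3 := hred _ h1 (by
    have h4 : (x * k - k * x) * (x * k - k * x) = (x * k * x) * k - x * (k * k) * x - k * (x * x) * k + k * (x * k * x) := by
      noncomm_ring
    rw [h4, hxkx k hk, hxkx _ (hK2 k hk), hx]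
    simp)
  exact sub_eq_zero.1 h3

theorem one_sub_mul_one_add {R : Type*} [Ring R] (x : R) : (1 - x) * (1 + x) = 1 - x * x := by noncomm_ring

/-- automorphisms as endomorphisms -/
def toEnd (V : Type*) [CommGroup V] : MulAut V →* AddMonoid.End (Additive V) where
  toFun α := (MulEquiv.toAdditive α).toAddMonoidHom
  map_one' := rfl
  map_mul' _ _ := rfl

theorem toEnd_inj (V : Type*) [CommGroup V] : Function.Injective (toEnd V) := by
  intro α β h
  ext v
  exact congrArg Additive.toMul (DFunLike.congr_fun h (Additive.ofMul v))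

theorem quad_aut {V : Type*} [CommGroup V] {p : ℕ} [Fact p.Prime] (hp : p ≠ 2) (hV : ∀ v : V, v ^ p = 1)
    {α : MulAut V} (hα : ∀ v, α (α v * v⁻¹) = α v * v⁻¹) (K : Subgroup (MulAut V)) (hKc : ∀ k ∈ K, ∀ l ∈ K, k * l = l * k)
    {n : ℕ} (hn : n.Coprime p) (hKn : ∀ k ∈ K, k ^ n = 1) (hKa : ∀ k ∈ K, α * k * α⁻¹ ∈ K)
    (hKa' : ∀ k ∈ K, α⁻¹ * k * α ∈ K) : ∀ k ∈ K, α * k = k * α := by
  classical
  by_cases htriv : Nontrivial V
  swap
  · rw [not_nontrivial_iff_subsingleton] at htriv
    intro k _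
    ext v
    exact Subsingleton.elim _ _
  haveI : Nontrivial (Additive V) := inferInstanceAs (Nontrivial V)
  set R := AddMonoid.End (Additive V) with hR
  haveI : Nontrivial R := by
    obtain ⟨v, hv⟩ := exists_ne (0 : Additive V)
    refine ⟨⟨0, 1, fun h => hv ?_⟩⟩
    have := DFunLike.congr_fun h v
    exact this.symm
  have hpR : (p : R) = 0 := by
    ext v
    rw [AddMonoid.End.natCast_apply]
    have := hV (Additive.toMul v)
    exact congrArg Additive.ofMul this
  haveI : CharP R p := (CharP.charP_iff_prime_eq_zero Fact.out).2 hpR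
  set x : R := toEnd V α - 1 with hx
  have hx1 : 1 + x = toEnd V α := by rw [hx, add_sub_cancel]
  have hxx : x * x = 0 := by
    ext v
    have h1 := hα (Additive.toMul v)
    have h2 : toEnd V α (toEnd V α v - v) = toEnd V α v - v := by
      rw [sub_eq_add_neg]
      exact congrArg Additive.ofMul h1
    show toEnd V α (toEnd V α v - v) - (toEnd V α v - v) = 0
    rw [h2, sub_self]
  have hx2 : 1 - x = toEnd V α⁻¹ := by
    have h1 : (1 - x) * toEnd V α = 1 := by
      rw [← hx1]
      have : (1 - x) * (1 + x) = 1 - x * x := one_sub_mul_one_add x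
      rw [this, hxx, sub_zero]
    have h2 : toEnd V α * toEnd V α⁻¹ = 1 := by rw [← map_mul, mul_inv_cancel, map_one]
    calc 1 - x = (1 - x) * (toEnd V α * toEnd V α⁻¹) := by rw [h2, mul_one]
      _ = toEnd V α⁻¹ := by rw [← mul_assoc, h1, one_mul]
  have key := quad_comm (R := R) (p := p) hp hxx (K := toEnd V '' (K : Set (MulAut V))) (by
      rintro _ ⟨k, hk, rfl⟩ _ ⟨l, hl, rfl⟩
      rw [← map_mul, hKc k hk l hl, map_mul]) (by
      rintro _ ⟨k, hk, rfl⟩
      exact ⟨k * k, K.mul_mem hk hk, map_mul _ _ _⟩) hn (by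
      rintro _ ⟨k, hk, rfl⟩
      rw [← map_pow, hKn k hk, map_one]) (by
      rintro _ ⟨k, hk, rfl⟩
      rw [hx1, hx2, ← map_mul, ← map_mul]
      exact ⟨_, hKa k hk, rfl⟩) (by
      rintro _ ⟨k, hk, rfl⟩
      rw [hx1, hx2, ← map_mul, ← map_mul]
      exact ⟨_, hKa' k hk, rfl⟩)
  intro k hk
  have h1 := key _ ⟨k, hk, rfl⟩
  apply toEnd_inj
  rw [map_mul, map_mul, ← hx1, add_mul, mul_add, h1, one_mul, mul_one]

end Cfsg.Agent.H27.Quad
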