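import Mathlib
import Cfsg.Agent.H27_S4h

/-! Sparse systems and the characteristic subgroup criterion. -/

universe u v w
namespace Cfsg.Agent.H27.Fus

open Cfsg Cfsg.FusionSystem Cfsg.Agent.H27.Grp Cfsg.Agent.H12.ZJ

theorem qinn_both {p : ℕ} [Fact p.Prime] {Ω : Type u} [Group Ω] {S : Subgroup Ω} [Finite S]
    {F : FusionSystem S} (hS : IsPGroup p S) (hF : F.IsSaturated p) (hp : p ≠ 2 ∨ F.IsSectionFree p (Equiv.Perm (Fin 4)))
    (hQb : F.core ≠ ⊥) (hQne : ¬ S ≤ F.core)
    (hV : ∀ V, V ≤ S → S ≤ normalizerIn S V → ¬ V ≤ F.core →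
      ∀ P f, Nmap F V P f → Map (innerFusionSystem S) P f) : QInn F F.core := by
  have hp0 : p ∣ 0 := dvd_zero p
  have hQ := core_normal F
  have hQs := IsNormal.strong hQ
  have hQS : F.core ≤ S := (isNormal_iff.1 hQ).1
  obtain ⟨N, hNn, E, hpS', hE, hEs, hcard⟩ := exists_quo hS hF hQs hQb
  obtain ⟨hd, hm⟩ := isFactorSystem_iff.1 hE
  haveI : Finite (⊤ : Subgroup (S ⧸ N)) := finite_S' hd
  have hnb : (⊤ : Subgroup (S ⧸ N)) ≠ ⊥ := by
    intro hb
    apply hQne
    intro x hx
    have h1 : tt (QuotientGroup.mk' N) x ∈ (⊤ : Subgroup (S ⧸ N)) := trivial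
    rw [hb, Subgroup.mem_bot, ← tt_one (QuotientGroup.mk' N), hd.eq_iff hx S.one_mem] at h1
    simpa using h1
  refine qinn_of_fac hE hQs (tn_both hpS' hEs (hp.imp_right fun h => sectionFree_quo hS hF hQ hE h) ?_ ?_)
  · intro P f hf
    exact quo_nmap_inner hE hQs hV (JJ_le 0 _) (JJ_strong_normal (strongly_top E)) (JJ_ne hp0 hpS' hnb) P f hf.nmap
  · intro P f hf
    exact quo_nmap_inner hE hQs hV cen_le ZZ_nrm (ZZ_ne hpS' hnb) P f hf.nmap

theorem sparse_both {p : ℕ} [Fact p.Prime] {Ω : Type u} [Group Ω] {S : Subgroup Ω} [Finite S]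
    {E : FusionSystem S} (hS : IsPGroup p S) (hsp : Sparse p E) (hE : E.IsSaturated p)
    (hp : p ≠ 2 ∨ E.IsSectionFree p (Equiv.Perm (Fin 4)))
    (hni : ¬ ∀ P f, Map E P f → Map (innerFusionSystem S) P f) : E.IsConstrained p := by
  have hSb : S ≠ ⊥ := fun h => hni fun P f hf => inner_of_bot h hf
  have hp0 : p ∣ 0 := dvd_zero p
  have hQb : E.core ≠ ⊥ := by
    intro hb
    apply hni
    apply tn_both hS hE hp
    · intro P f hf
      refine hsp.nmap hS hE (JJ_le 0 S) (JJ_strong_normal (strongly_top E)) ?_ P f hf.nmap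
      intro h
      apply JJ_ne hp0 hS hSb
      rw [← le_bot_iff, ← hb]
      exact le_core h
    · intro P f hf
      refine hsp.nmap hS hE cen_le ZZ_nrm ?_ P f hf.nmap
      intro h
      apply ZZ_ne hS hSb
      rw [← le_bot_iff, ← hb]
      exact le_core h
  apply hsp.constrained hS hE hQb hni
  intro hsc hncen hVV
  apply qinn_both hS hE hp hQb (fun h => ?_) hVV
  apply hncen
  have : E.core = S := le_antisymm (isNormal_iff.1 (core_normal E)).1 h
  rw [this]; exact top_centric E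

section char

variable {Ω : Type*} [Group Ω] {S : Subgroup Ω} {F : FusionSystem S} {J P : Subgroup Ω} {f : Ω → Ω} {p : ℕ}

theorem iter_map_iso [Finite S] (h : Iso F P P f) (n : ℕ) : Iso F P P f^[n] := iter_iso h n

/-- If `Aut_F(J)` is a `p`-group and `C_S(J) ≤ J ⊴ S` then `N_F(J)` is inner. -/
theorem inner_of_aut_pgroup [Fact p.Prime] [Finite S] (hS : IsPGroup p S) (hF : F.IsSaturated p) (hJS : J ≤ S)
    (hJn : S ≤ normalizerIn S J) (hJc : centralizerIn S J ≤ J) (hA : IsPGroup p (F.autGroup J)) :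
    ∀ P f, Nmap F J P f → Map (innerFusionSystem S) P f := by
  obtain ⟨N, hN⟩ := exists_normalizerSystem F J hJS
  have hfn : F.IsFullyNormalized J := by
    refine ⟨hJS, fun X hX => ?_⟩
    haveI : Finite (normalizerIn S J) := fin_nrm
    exact card_le_of_le (nrm_le.trans hJn)
  have hNs := normalizerSystem_saturated hS hF hfn hN
  obtain ⟨b, hb⟩ := IsPGroup.iff_card.1 hS
  have hpow : ∀ s ∈ S, s ^ p ^ b = 1 := by
    intro s hs
    rw [← hb]
    have := pow_card_eq_one' (x := (⟨s, hs⟩ : S))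
    exact congrArg Subtype.val this
  haveI : Finite (normalizerIn S J) := fin_nrm
  have key : ∀ P f, Map N P f → Map (innerFusionSystem (normalizerIn S J)) P f := by
    apply inner_of_iter (isPGroup_mono hS nrm_le) hNs
    intro P f hf
    obtain ⟨h1, h2, g, h3, h4, h5⟩ := (nsys_map hN).1 hf.map
    have hJi : Iso F J J g := (h3.mono le_sup_right).iso_of_im_eq h5
    have hgi : Iso F (P ⊔ J) (P ⊔ J) g := by
      apply h3.iso_of_im_eq
      rw [h3.im_sup, h5, im_congr h4, hf.im_eq]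
    obtain ⟨a, ha⟩ := hA ⟨hJi.aut, hJi.aut_mem⟩
    have haut : ∀ n, ∀ x : J, ((hJi.aut ^ n) x : Ω) = g^[n] x := by
      intro n
      induction n with
      | zero => intro x; rfl
      | succ n ih =>
        intro x
        rw [pow_succ', MulAut.mul_apply, Iso.aut_apply, ih, Function.iterate_succ_apply']
    have h6 : ∀ x ∈ J, g^[p ^ a] x = x := by
      intro x hx
      have h7 : hJi.aut ^ p ^ a = 1 := congrArg Subtype.val ha
      rw [← haut (p ^ a) ⟨x, hx⟩, h7]; rfl
    have hki := iter_iso hgi (p ^ a)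
    set k := g^[p ^ a] with hk
    have h8 : ∀ x ∈ P ⊔ J, x⁻¹ * k x ∈ J := by
      intro x hx
      have hxS := hgi.le hx
      apply hJc
      refine mem_cen.2 ⟨S.mul_mem (S.inv_mem hxS) (hki.map.mem hx), fun y hy => ?_⟩
      have h9 : x * y * x⁻¹ ∈ J := nrm_conj_mem (hJn hxS) hy
      have h10 : k (x * y * x⁻¹) = k x * y * (k x)⁻¹ := by
        rw [hki.map.conj hx (Subgroup.mem_sup_right hy), h6 y hy]
      rw [h6 _ h9] at h10
      calc y * (x⁻¹ * k x) = x⁻¹ * (x * y * x⁻¹) * k x := by group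
        _ = x⁻¹ * (k x * y * (k x)⁻¹) * k x := by rw [h10]
        _ = x⁻¹ * k x * y := by group
    have h9 : ∀ n, ∀ x ∈ P ⊔ J, k^[n] x = x * (x⁻¹ * k x) ^ n := by
      intro n
      induction n with
      | zero => intro x _; simp
      | succ n ih =>
        intro x hx
        have hm := h8 x hx
        rw [Function.iterate_succ_apply', ih x hx, hki.map.mul hx ((le_sup_right : J ≤ P ⊔ J) (J.pow_mem hm n)),
          h6 _ (J.pow_mem hm n), pow_succ', ← mul_assoc, mul_inv_cancel_left]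
    refine ⟨a + b, fun x hx => ?_⟩
    have hfg : ∀ n, ∀ x ∈ P, g^[n] x = f^[n] x := by
      intro n
      induction n with
      | zero => intro x _; rfl
      | succ n ih =>
        intro x hx
        rw [Function.iterate_succ_apply', Function.iterate_succ_apply', ih x hx, h4 _ ((iter_iso hf n).maps x hx)]
    have hxs : x ∈ P ⊔ J := (le_sup_left : P ≤ P ⊔ J) hx
    rw [← hfg _ x hx, pow_add, Function.iterate_mul, ← hk, h9 _ x hxs, hpow _ (hJS (h8 x hxs)), mul_one]
  intro P f hf
  exact inner_of_inner nrm_le (key P f ((nsys_map hN).2 hf))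

end char

end Cfsg.Agent.H27.Fus
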