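import Mathlib
import Cfsg.Agent.H27_S4i

/-! The characteristic subgroup criterion (Thompson). -/

universe u v w
namespace Cfsg.Agent.H27.Fus

open Cfsg Cfsg.FusionSystem Cfsg.Agent.H27.Grp Cfsg.Agent.H12.ZJ

section aux

variable {Ω : Type*} [Group Ω] {S : Subgroup Ω} {n : ℕ}

theorem cen_JJ_le [Finite S] : centralizerIn S (JJ 0 S) ≤ JJ 0 S := by
  intro x hx
  obtain ⟨hxS, hxc⟩ := mem_cen.1 hx
  rw [← JJ_sub (le_refl S), Subgroup.subgroupOf_self]
  refine ⟨⟨x, hxS⟩, ?_, rfl⟩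
  obtain ⟨A, hA⟩ := exists_MaxEA 0 (⊤ : Subgroup S)
  refine hA.le_JJ (hA.mem_of trivial (pow_zero _) (fun a ha => Subtype.ext (hxc a ?_)))
  rw [← JJ_sub (le_refl S), Subgroup.subgroupOf_self]
  exact ⟨a, hA.le_JJ ha, rfl⟩

theorem char_of_map {P : Subgroup Ω} (hP : P ≤ S) (h : ∀ σ : S ≃* S, ∀ x : S, (x : Ω) ∈ P → ((σ x : S) : Ω) ∈ P) :
    (P.subgroupOf S).Characteristic := by
  rw [Subgroup.characteristic_iff_map_le]
  rintro σ _ ⟨x, hx, rfl⟩
  exact h σ x hx

theorem map_of_char {P : Subgroup Ω} (h : (P.subgroupOf S).Characteristic) (σ : S ≃* S) {x : S} (hx : (x : Ω) ∈ P) :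
    ((σ x : S) : Ω) ∈ P := by
  have := Subgroup.characteristic_iff_map_le.1 h σ
  exact this ⟨x, hx, rfl⟩

theorem JJ_char : ((JJ n S).subgroupOf S).Characteristic := by
  apply char_of_map (JJ_le n S)
  intro σ x hx
  have h1 := JJ_sub (n := n) (le_refl S)
  rw [Subgroup.subgroupOf_self] at h1
  have h2 : JJ n ((⊤ : Subgroup S).map σ.toMonoidHom) = (JJ n (⊤ : Subgroup S)).map σ.toMonoidHom :=
    H2.ZJ2.JJ_map σ.toMonoidHom σ.injective.injOn
  have h3 : (⊤ : Subgroup S).map σ.toMonoidHom = ⊤ := by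
    rw [← MonoidHom.range_eq_map]; exact MonoidHom.range_eq_top.2 σ.surjective
  rw [h3] at h2
  rw [← h1] at hx ⊢
  obtain ⟨y, hy, hyx⟩ := hx
  have hyx' : y = x := Subtype.ext hyx
  subst hyx'
  refine ⟨σ y, ?_, rfl⟩
  rw [SetLike.mem_coe, h2]
  exact ⟨y, hy, rfl⟩

theorem pre_char {Ω' : Type*} [Group Ω'] {θ : S →* Ω'} {S' : Subgroup Ω'} {Q : Subgroup Ω} (hd : FacData Q θ S')
    (hQ : (Q.subgroupOf S).Characteristic) {P' : Subgroup Ω'} (hP' : P' ≤ S') (h : (P'.subgroupOf S').Characteristic) :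
    ((preimageAlong θ P').subgroupOf S).Characteristic := by
  apply char_of_map (preimageAlong_le _ _)
  intro σ x hx
  let τ : S →* S' := θ.codRestrict S' (fun y => by rw [← hd.range]; exact ⟨y, rfl⟩)
  have hτ : Function.Surjective τ := by
    intro y
    have hy := y.2
    have hy' : (y : Ω') ∈ θ.range := by rw [hd.range]; exact hy
    obtain ⟨z, hz⟩ := hy'
    exact ⟨z, Subtype.ext hz⟩
  have hker : τ.ker = Q.subgroupOf S := by
    ext y
    rw [MonoidHom.mem_ker, Subgroup.mem_subgroupOf, ← hd.ker y y.2, tt_apply]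
    exact Subtype.ext_iff
  have hk : τ.ker.map σ.toMonoidHom = τ.ker := by
    rw [hker]
    exact Subgroup.characteristic_iff_map_eq.1 hQ σ
  let e := QuotientGroup.quotientKerEquivOfSurjective τ hτ
  let σ' : S' ≃* S' := (e.symm.trans (QuotientGroup.congr τ.ker τ.ker σ hk)).trans e
  have he : ∀ y : S, e (y : S ⧸ τ.ker) = τ y := fun y => rfl
  have hσ' : σ' (τ x) = τ (σ x) := by
    show e (QuotientGroup.congr τ.ker τ.ker σ hk (e.symm (τ x))) = τ (σ x)
    rw [← he x, MulEquiv.symm_apply_apply, ← he (σ x)]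
    rfl
  obtain ⟨hx1, hx2⟩ := (mem_preimageAlong θ).1 hx
  rw [tt_apply] at hx2
  have h1 := map_of_char (S := S') h σ' (x := τ x) hx2
  rw [hσ'] at h1
  refine (mem_preimageAlong θ).2 ⟨(σ x).2, ?_⟩
  rw [tt_apply]
  exact h1

end aux

theorem char_crit {p : ℕ} [Fact p.Prime] :
    ∀ {Ω : Type u} [Group Ω] (S : Subgroup Ω) [Finite S] (F : FusionSystem S), IsPGroup p S → F.IsSaturated p →
      (p ≠ 2 ∨ F.IsSectionFree p (Equiv.Perm (Fin 4))) →
      (∀ Q : Subgroup Ω, Q ≤ S → Q ≠ ⊥ → (Q.subgroupOf S).Characteristic → IsPGroup p (F.autGroup Q)) →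
        ∀ P f, Map F P f → Map (innerFusionSystem S) P f := by
  apply sat_induction
  intro Ω _ S _ F hS hF IH1 _ hp h
  by_cases hSb : S = ⊥
  · exact fun P f hf => inner_of_bot hSb hf
  apply tn_both hS hF hp
  · intro P f hf
    refine inner_of_aut_pgroup hS hF (JJ_le 0 S) (JJ_strong_normal (strongly_top F)) cen_JJ_le
      (h _ (JJ_le 0 S) (JJ_ne (dvd_zero p) hS hSb) JJ_char) P f hf.nmap
  · -- the centralizer of the center
    obtain ⟨N, hN⟩ := exists_centralizerSystem F (ZZ S) cen_le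
    have hNs := centralizerSystem_saturated hS hF (zz_fc (F := F)) hN
    have hReq : centralizerIn S (ZZ S) = S := le_antisymm cen_le ZZ_cen
    have hNf : p ≠ 2 ∨ N.IsSectionFree p (Equiv.Perm (Fin 4)) := hp.imp_right fun hfree =>
      sectionFree_NK (Q := ZZ S) (K := ⊥) hS hF hfree (FKN_bot zz_fc) (by rw [NK_bot, hReq]; exact cen_le) NK_bot.symm
        (fun A f => map_of_isCentralizerSystem hN)
    have key : ∀ (R : Subgroup Ω) (E : FusionSystem R), R = S → E.IsSaturated p → (∀ P f, Map E P f → Map F P f) →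
        (∀ P f, Map E P f → ∃ g, Map E (P ⊔ ZZ S) g ∧ (∀ x ∈ P, g x = f x) ∧ ∀ x ∈ ZZ S, g x = x) →
        (p ≠ 2 ∨ E.IsSectionFree p (Equiv.Perm (Fin 4))) → ∀ P f, Map E P f → Map (innerFusionSystem S) P f := by
      rintro R E rfl hE hsub hext hEp
      have hZb : ZZ R ≠ ⊥ := ZZ_ne hS hSb
      have hZn : E.IsNormal (ZZ R) := by
        rw [isNormal_iff]
        refine ⟨cen_le, fun P f hf => ?_⟩
        obtain ⟨g, h1, h2, h3⟩ := hext P f hf
        exact ⟨g, h1, h2, im_of_id h3⟩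
      have hZs := IsNormal.strong hZn
      obtain ⟨M, hMn, E', hpS', hE', hEs', hcard⟩ := exists_quo hS hE hZs hZb
      obtain ⟨hd, hm⟩ := isFactorSystem_iff.1 hE'
      haveI : Finite (⊤ : Subgroup (R ⧸ M)) := finite_S' hd
      have hZc : ((ZZ R).subgroupOf R).Characteristic := by
        apply char_of_map cen_le
        intro σ x hx
        refine mem_ZZ.2 ⟨(σ x).2, fun y hy => ?_⟩
        have h1 := (mem_ZZ.1 hx).2 (σ.symm ⟨y, hy⟩) (σ.symm ⟨y, hy⟩).2
        have h2 : (σ.symm ⟨y, hy⟩) * x = x * (σ.symm ⟨y, hy⟩) := Subtype.ext h1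
        have h3 := congrArg σ h2
        rw [map_mul, map_mul, MulEquiv.apply_symm_apply] at h3
        exact congrArg Subtype.val h3
      refine inner_of_qinn hS hE hZn (fun P f hf => ?_) (qinn_of_fac hE' hZs (IH1 _ E' hpS' hEs' hcard
        (hEp.imp_right fun h => sectionFree_quo hS hE hZn hE' h) ?_))
      · obtain ⟨g, h1, h2, h3⟩ := hext P f hf
        exact ⟨g, h1, h2, 1, R.one_mem, fun x hx => by rw [h3 x hx]; group⟩
      · intro P' hP' hP'b hP'c
        have hc := pre_char hd hZc hP' hP'c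
        have hPb : preimageAlong (QuotientGroup.mk' M) P' ≠ ⊥ := by
          intro hb
          apply hZb
          rw [eq_bot_iff, ← hb]
          exact hd.le_pre P'
        have h1 := h _ (preimageAlong_le _ _) hPb hc
        have h2 : IsPGroup p (E.autGroup (preimageAlong (QuotientGroup.mk' M) P')) := by
          refine h1.to_le ?_
          intro α hα
          rw [mem_autGroup_iff (preimageAlong_le _ _)] at hα ⊢
          exact (hsub _ _ hα.map).iso_of_im_eq hα.im_eq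
        rw [← map_quoHom_autGroup hE' hd hZs hP']
        apply IsPGroup.map
        exact h2.comap_of_injective (Subgroup.subtype _) Subtype.val_injective
    intro P f hf
    obtain ⟨h1, h2, g, h3, h4, h5, h6⟩ := hf
    refine key _ N hReq hNs (fun P f hf => ?_) ?_ hNf P f ((csys_map hN).2 ⟨h1.trans (nrm_le.trans ZZ_cen),
      fun x hx => ZZ_cen (nrm_le (h2 x hx)), g, h3, h4, h6 rfl⟩)
    · obtain ⟨-, -, g, h3, h4, -⟩ := (csys_map hN).1 hf
      exact (h3.mono le_sup_left).congr h4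
    · intro P f hf
      obtain ⟨h1, h2, g, h3, h4, h5⟩ := (csys_map hN).1 hf
      refine ⟨g, (csys_map hN).2 ⟨h3.le.trans ZZ_cen, fun x hx => ZZ_cen (h3.mem hx), g, ?_, fun _ _ => rfl, h5⟩, h4, h5⟩
      rwa [sup_assoc, sup_idem]

end Cfsg.Agent.H27.Fus
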