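import Mathlib
import Cfsg.Agent.H27_Glau2
import Cfsg.Agent.H27_S4h

/-! Trace complement for coprime index; the centre of `F` is a direct factor of `Z(S)`. -/

universe u v w
namespace Cfsg.Agent.H27.Fus

open Cfsg Cfsg.FusionSystem Cfsg.Agent.H27.Grp Cfsg.Agent.H12.ZJ

theorem trace_compl {A C : Type*} [Group A] [Finite A] [CommGroup C] [Finite C] [MulDistribMulAction A C]
    (R : Subgroup A) (hR : (R.index).Coprime (Nat.card C)) :
    ∃ K : Subgroup C, (∀ x ∈ K, ∀ r ∈ R, r • x = x) ∧ (∀ x ∈ K, (∀ a : A, a • x = x) → x = 1) ∧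
      ∀ x, (∀ r ∈ R, r • x = x) → ∃ y k, (∀ a : A, a • y = y) ∧ k ∈ K ∧ x = y * k := by
  classical
  haveI : Fintype (A ⧸ R) := Fintype.ofFinite _
  have hidx : Fintype.card (A ⧸ R) = R.index := by
    rw [Subgroup.index, Nat.card_eq_fintype_card]
  let T : C → C := fun z => ∏ q : A ⧸ R, (Quotient.out q) • z
  have hT1 : T 1 = 1 := by simp [T]
  have hTm : ∀ x y, T (x * y) = T x * T y := fun x y => by
    show ∏ q : A ⧸ R, (Quotient.out q) • (x * y) = _
    rw [← Finset.prod_mul_distrib]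
    exact Finset.prod_congr rfl fun q _ => smul_mul' _ _ _
  have hTf : ∀ z, (∀ r ∈ R, r • z = z) → ∀ b : A, b • T z = T z := by
    intro z hz b
    show b • (∏ q : A ⧸ R, (Quotient.out q) • z) = ∏ q : A ⧸ R, (Quotient.out q) • z
    rw [Finset.smul_prod']
    refine Fintype.prod_equiv (MulAction.toPerm b) _ _ fun q => ?_
    show b • (Quotient.out q) • z = (Quotient.out (b • q)) • z
    rw [← mul_smul]
    have h1 : ((b * Quotient.out q : A) : A ⧸ R) = b • q := by
      conv_rhs => rw [← Quotient.out_eq' q]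
      rfl
    have h2 : ((Quotient.out (b • q) : A) : A ⧸ R) = b • q := Quotient.out_eq' _
    have h3 : (b * Quotient.out q)⁻¹ * Quotient.out (b • q) ∈ R := QuotientGroup.eq.1 (h1.trans h2.symm)
    have h4 := hz _ h3
    calc (b * Quotient.out q) • z = (b * Quotient.out q) • (((b * Quotient.out q)⁻¹ * Quotient.out (b • q)) • z) := by
          rw [h4]
      _ = _ := by rw [← mul_smul, mul_inv_cancel_left]
  have hTp : ∀ z, (∀ a : A, a • z = z) → T z = z ^ R.index := by
    intro z hz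
    calc ∏ q : A ⧸ R, (Quotient.out q) • z = ∏ q : A ⧸ R, z := Finset.prod_congr rfl fun q _ => hz _
      _ = z ^ R.index := by rw [Finset.prod_const, Finset.card_univ, hidx]
  let Th : C →* C := MonoidHom.mk' T hTm
  let K : Subgroup C :=
    { carrier := {x | (∀ r ∈ R, r • x = x) ∧ T x = 1}
      one_mem' := ⟨fun r _ => smul_one r, hT1⟩
      mul_mem' := fun {x y} hx hy => ⟨fun r hr => by rw [smul_mul', hx.1 r hr, hy.1 r hr], by
        rw [hTm, hx.2, hy.2, one_mul]⟩
      inv_mem' := fun {x} hx => ⟨fun r hr => by rw [smul_inv', hx.1 r hr], by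
        show Th x⁻¹ = 1
        rw [map_inv]
        show (T x)⁻¹ = 1
        rw [hx.2, inv_one]⟩ }
  refine ⟨K, fun x hx => hx.1, fun x hx hfix => ?_, fun x hx => ?_⟩
  · have h1 : x ^ R.index = 1 := by rw [← hTp x hfix]; exact hx.2
    have h2 : x ^ Nat.card C = 1 := pow_card_eq_one'
    have h3 : orderOf x ∣ 1 := by
      rw [← Nat.coprime_iff_gcd_eq_one.1 hR]
      exact Nat.dvd_gcd (orderOf_dvd_of_pow_eq_one h1) (orderOf_dvd_of_pow_eq_one h2)
    exact orderOf_eq_one_iff.1 (Nat.dvd_one.1 h3)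
  · have hpc : Function.Bijective (fun y : C => y ^ R.index) := by
      have := (powCoprime (G := C) hR.symm).bijective
      exact this
    obtain ⟨y, hy⟩ := hpc.2 (T x)
    simp only at hy
    have hyf : ∀ a : A, a • y = y := by
      intro a
      apply hpc.1
      simp only
      rw [← smul_pow', hy, hTf x hx a]
    refine ⟨y, y⁻¹ * x, hyf, ⟨fun r hr => ?_, ?_⟩, by group⟩
    · rw [smul_mul', smul_inv', hyf, hx r hr]
    · rw [hTm]
      have : T y⁻¹ = (T y)⁻¹ := map_inv Th y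
      rw [this, hTp y hyf, hy, inv_mul_cancel]

end Cfsg.Agent.H27.Fus

namespace Cfsg.Agent.H27.Fus

open Cfsg Cfsg.FusionSystem Cfsg.Agent.H27.Grp Cfsg.Agent.H12.ZJ

variable {Ω : Type u} [Group Ω] {S Q : Subgroup Ω} {F : FusionSystem S} {p : ℕ} [Fact p.Prime] [Finite S]

theorem center_direct (hS : IsPGroup p S) (hF : F.IsSaturated p) (hQ : F.IsNormal Q)
    (hZ : (S ⊓ Subgroup.centralizer (S : Set Ω)) ≤ Q) :
    ∃ K : Subgroup Ω, K ≤ (S ⊓ Subgroup.centralizer (S : Set Ω)) ∧ F.center ⊓ K = ⊥ ∧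
      F.center ⊔ K = (S ⊓ Subgroup.centralizer (S : Set Ω)) := by
  classical
  have hQS : Q ≤ S := (isNormal_iff.1 hQ).1
  haveI : Finite Q := finite_of_le hQS
  haveI : Finite (MulAut Q) := inferInstance
  let C := Subgroup.center Q
  letI : CommGroup C := { (inferInstance : Group C) with
    mul_comm := fun a b => Subtype.ext (Subgroup.mem_center_iff.1 b.2 a) }
  let A := F.autGroup Q
  have hAC : ∀ (a : A) (x : C), (a : MulAut Q) (x : Q) ∈ C := fun a x => by
    refine Subgroup.mem_center_iff.2 fun y => ?_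
    obtain ⟨y', rfl⟩ := (a : MulAut Q).surjective y
    rw [← map_mul, ← map_mul, Subgroup.mem_center_iff.1 x.2]
  letI : MulDistribMulAction A C :=
    { smul := fun a x => ⟨(a : MulAut Q) (x : Q), hAC a x⟩
      one_smul := fun x => Subtype.ext rfl
      mul_smul := fun a b x => Subtype.ext rfl
      smul_mul := fun a x y => Subtype.ext (map_mul (a : MulAut Q) _ _)
      smul_one := fun a => Subtype.ext (map_one (a : MulAut Q)) }
  have hsm : ∀ (a : A) (x : C), ((a • x : C) : Q) = (a : MulAut Q) (x : Q) := fun _ _ => rfl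
  let R : Subgroup A := (autInducedBy S Q).subgroupOf A
  have hsyl := (isFullyAutomized_iff.1 (fn_automized hS hF (normal_fn hQ))).2
  have hR : (R.index).Coprime (Nat.card C) := by
    have h1 : ¬ p ∣ R.index := hsyl.2.2
    have h2 : IsPGroup p C := (isPGroup_mono hS hQS).to_subgroup _
    obtain ⟨n, hn⟩ := IsPGroup.iff_card.1 h2
    rw [hn]
    exact (((Nat.Prime.coprime_iff_not_dvd Fact.out).2 h1).pow_left n).symm
  obtain ⟨K, hK1, hK2, hK3⟩ := trace_compl (A := A) (C := C) R hR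
  -- R-fixed elements of C = Z(S)
  have hRfix : ∀ x : C, (∀ r ∈ R, r • x = x) ↔ ((x : Q) : Ω) ∈ S ⊓ Subgroup.centralizer (S : Set Ω) := by
    intro x
    constructor
    · intro h
      refine ⟨hQS (x : Q).2, Subgroup.mem_centralizer_iff.2 fun s hs => ?_⟩
      have hsn := (StronglyClosed.le_normalizer (IsNormal.strong hQ)) hs
      let r : MulAut Q := cjA Q s hsn.2
      have hrI : r ∈ autInducedBy S Q := mem_autInducedBy.2 ⟨s, hs, fun y => rfl⟩
      have hrA : r ∈ A := autInducedBy_le_autGroup F hQS hrI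
      have h1 := h ⟨r, hrA⟩ hrI
      have h2 : s * ((x : Q) : Ω) * s⁻¹ = ((x : Q) : Ω) := congrArg (fun t : C => ((t : Q) : Ω)) h1
      calc s * ((x : Q) : Ω) = s * ((x : Q) : Ω) * s⁻¹ * s := by group
        _ = ((x : Q) : Ω) * s := by rw [h2]
    · intro h r hr
      obtain ⟨s, hs, hsr⟩ := mem_autInducedBy.1 (show (r : MulAut Q) ∈ autInducedBy S Q from hr)
      refine Subtype.ext (Subtype.ext ?_)
      rw [hsm, hsr, Subgroup.mem_centralizer_iff.1 h.2 s hs]
      group
  have hAfix : ∀ x : C, (∀ a : A, a • x = x) ↔ ((x : Q) : Ω) ∈ F.center := by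
    intro x
    rw [mem_center_iff hS hF]
    constructor
    · intro h
      refine ⟨hQS (x : Q).2, fun P f hf hxP => ?_⟩
      obtain ⟨g, hg, hgf, hgQ⟩ := (isNormal_iff.1 hQ).2 P f hf
      have hi : Iso F Q Q g := (hg.mono le_sup_right).iso_of_im_eq hgQ
      have h1 := h ⟨hi.aut, hi.aut_mem⟩
      have h2 : g ((x : Q) : Ω) = ((x : Q) : Ω) := congrArg (fun t : C => ((t : Q) : Ω)) h1
      rw [← hgf _ hxP, h2]
    · rintro ⟨-, h⟩ a
      refine Subtype.ext (Subtype.ext ?_)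
      have h1 := h Q _ ((mem_autGroup_iff hQS).1 a.2).map (x : Q).2
      rw [totA_apply] at h1
      exact h1
  have hinC : ∀ x ∈ S ⊓ Subgroup.centralizer (S : Set Ω), ∃ c : C, ((c : Q) : Ω) = x := fun x hx =>
    ⟨⟨⟨x, hZ hx⟩, Subgroup.mem_center_iff.2 fun y =>
      Subtype.ext (Subgroup.mem_centralizer_iff.1 hx.2 y (hQS y.2))⟩, rfl⟩
  have hcZ : F.center ≤ S ⊓ Subgroup.centralizer (S : Set Ω) := by
    intro x hx
    obtain ⟨h1, h2⟩ := (mem_center_iff hS hF).1 hx
    refine ⟨h1, Subgroup.mem_centralizer_iff.2 fun s hs => ?_⟩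
    have h3 : s * x * s⁻¹ = x := h2 _ _ (map_conj F le_rfl hs) h1
    calc s * x = s * x * s⁻¹ * s := by group
      _ = x * s := by rw [h3]
  have hKZ : K.map (Q.subtype.comp C.subtype) ≤ S ⊓ Subgroup.centralizer (S : Set Ω) := by
    rintro _ ⟨k, hk, rfl⟩
    exact (hRfix k).1 (hK1 k hk)
  refine ⟨K.map (Q.subtype.comp C.subtype), hKZ, ?_, le_antisymm (sup_le hcZ hKZ) fun x hx => ?_⟩
  · rw [eq_bot_iff]
    rintro _ ⟨hx, ⟨k, hk, rfl⟩⟩
    have := hK2 k hk ((hAfix k).2 hx)
    rw [this]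
    exact Subgroup.mem_bot.2 rfl
  · obtain ⟨c, rfl⟩ := hinC x hx
    obtain ⟨y, k, hy, hk, rfl⟩ := hK3 c ((hRfix c).2 hx)
    exact Subgroup.mul_mem_sup ((hAfix y).1 hy) ⟨k, hk, rfl⟩

theorem center_direct_odd (hp : p ≠ 2) (hS : IsPGroup p S) (hF : F.IsSaturated p) :
    ∃ K : Subgroup Ω, K ≤ (S ⊓ Subgroup.centralizer (S : Set Ω)) ∧ F.center ⊓ K = ⊥ ∧
      F.center ⊔ K = (S ⊓ Subgroup.centralizer (S : Set Ω)) := by
  have hJn : S ≤ normalizerIn S (JJ 0 S) := JJ_strong_normal (strongly_top F)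
  have hJe : normalizerIn S (JJ 0 S) = S := le_antisymm nrm_le hJn
  have hfn : F.IsFullyNormalized (JJ 0 S) := by
    refine ⟨JJ_le 0 S, fun R hR => ?_⟩
    haveI : Finite (normalizerIn S (JJ 0 S)) := fin_nrm
    exact card_le_of_le (nrm_le.trans hJn)
  obtain ⟨N, hN⟩ : ∃ N : FusionSystem (normalizerIn S (JJ 0 S)), F.IsNormalizerSystem (JJ 0 S) N :=
    exists_normalizerSystem F _ (JJ_le 0 S)
  have hNs := normalizerSystem_saturated hS hF hfn hN
  haveI : Finite (normalizerIn S (JJ 0 S)) := fin_nrm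
  have hce : N.center = F.center := le_antisymm
    (fun x hx => glau_center hS hF rfl hN hx (Or.inl hp)) (center_le_nsys hS hF (JJ_le 0 S) hJn hN)
  have hnor : N.IsNormal (JJ 0 S) := nsys_normal hN (JJ_le 0 S)
  have h := center_direct (isPGroup_mono hS nrm_le) hNs hnor ?_
  · rw [hce] at h
    rw [hJe] at h
    exact h
  · rw [hJe]
    intro x hx
    exact (inf_le_left : ZJJ 0 S ≤ JJ 0 S) (ZZ_le_ZJJ hx)

end Cfsg.Agent.H27.Fus
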