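import Mathlib
import Cfsg.Agent.H28_Pk

set_option autoImplicit false

/-!
Certificate trees for elements of `M24` (packed version): octad steps, several commutation relations, relations
`g ^ 2 = 1`, `g ^ 3 = 1` for the unknown element; the leaves carry a list and a second list, subject to a test `Q`.
-/

namespace Cfsg.Agent.H28.Tree

open Cfsg Cfsg.Agent.H7.Golay Cfsg.Agent.H7.Oct Cfsg.Agent.H7.M24 Cfsg.Agent.H28.Pk
open scoped Pointwise

/-- equality test of lists of naturals -/
def beqL : List ℕ → List ℕ → Bool
  | [], [] => true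
  | [], _ :: _ => false
  | _ :: _, [] => false
  | a :: l, b :: l' => Nat.beq a b && beqL l l'

theorem beqL_eq {l l' : List ℕ} (h : beqL l l' = true) : l = l' := by
  induction l generalizing l' with
  | nil => cases l' with
    | nil => rfl
    | cons b l' => exact absurd h (by simp [beqL])
  | cons a l ih => cases l' with
    | nil => exact absurd h (by simp [beqL])
    | cons b l' =>
      simp only [beqL, Bool.and_eq_true] at h
      rw [Nat.eq_of_beq_eq_true h.1, ih h.2]

theorem beqL_refl (l : List ℕ) : beqL l l = true := by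
  induction l with
  | nil => rfl
  | cons a l ih => simp only [beqL, Bool.and_eq_true]; exact ⟨Nat.beq_refl a, ih⟩

/-- the image of point `i` is one of those in field `i` of `P` -/
def Val (g : Equiv.Perm GolayPt) (P : ℕ) : Prop := ∀ i < 24, P.testBit (25 * i + ix (g (pt i))) = true

theorem land_testBit (a b j : ℕ) : (Nat.land a b).testBit j = (a.testBit j && b.testBit j) := Nat.testBit_and a b j
theorem lor_testBit (a b j : ℕ) : (Nat.lor a b).testBit j = (a.testBit j || b.testBit j) := Nat.testBit_or a b j

theorem val_top (g : Equiv.Perm GolayPt) : Val g FULL := by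
  intro i hi
  rw [FULL_eq, testBit_pk 25 _ (fun _ => by norm_num) 24 i _ hi ((ix_lt _).trans (by norm_num)), testBit_all (ix_lt _)]

/-- cut down at place `i` by `m` -/
def cut (P i m : ℕ) : ℕ := Nat.land P (Nat.xor FULL (Nat.shiftLeft (Nat.xor (Nat.land m 16777215) 16777215) (Nat.mul 25 i)))

theorem val_cut {g : Equiv.Perm GolayPt} {P : ℕ} (h : Val g P) {i m : ℕ}
    (hm : m.testBit (ix (g (pt i))) = true) : Val g (cut P i m) := by
  intro j hj
  have hx : ix (g (pt j)) < 24 := ix_lt _
  unfold cut
  rw [land_testBit, h j hj, Bool.true_and]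
  change (FULL ^^^ ((Nat.xor (Nat.land m 16777215) 16777215) <<< (25 * i))).testBit _ = true
  rw [Nat.testBit_xor, Nat.testBit_shiftLeft, val_top g j hj]
  by_cases hji : j = i
  · subst hji
    have e : 25 * j + ix (g (pt j)) - 25 * j = ix (g (pt j)) := by omega
    rw [e, testBit_compl hx, land_testBit, hm, testBit_all hx]
    simp
  · have : (decide (25 * j + ix (g (pt j)) ≥ 25 * i) &&
        (Nat.xor (Nat.land m 16777215) 16777215).testBit (25 * j + ix (g (pt j)) - 25 * i)) = false := by
      by_cases hle : 25 * j + ix (g (pt j)) ≥ 25 * i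
      · have h2 : 24 ≤ 25 * j + ix (g (pt j)) - 25 * i := by omega
        have h3 := compl_lt (and_all m)
        rw [testBit_of_lt h3 h2, Bool.and_false]
      · rw [decide_eq_false hle, Bool.false_and]
    rw [this]; rfl

/-- enough points of `o` (those of `w`) have their images in `o'` -/
def octOK (P o o' w : ℕ) : Bool := Nat.beq (Nat.land w o) w && (Nat.beq (pcs w) 5 &&
  Nat.beq (Nat.land P (Nat.mul (spread w) (Nat.xor o' 16777215))) 0)

/-- use of `g o = o'` -/
def octStep (P o o' : ℕ) : ℕ := Nat.land P (Nat.lor (Nat.mul (spread o) o')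
  (Nat.mul (spread (Nat.xor o 16777215)) (Nat.xor o' 16777215)))

theorem octOK_spec {g : Equiv.Perm GolayPt} (hg : g ∈ M24) {P : ℕ} (h : Val g P) {o o' w : ℕ} (ho : o ∈ octL)
    (ho' : o' ∈ octL) (hok : octOK P o o' w = true) : g • ofMask o = ofMask o' := by
  simp only [octOK, Bool.and_eq_true] at hok
  obtain ⟨h1, h2, h3⟩ := hok
  have hlt := octL_lt ho
  have hlt' := octL_lt ho'
  have h1 : w &&& o = w := Nat.eq_of_beq_eq_true h1
  have hw : w < 16777216 := by
    rw [← h1]; exact lt_of_le_of_lt Nat.and_le_right hlt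
  have h2 : pcs w = 5 := Nat.eq_of_beq_eq_true h2
  rw [pcs_eq hw, ← card_ofMask] at h2
  have h3 : Nat.land P (spread w * (Nat.xor o' 16777215)) = 0 := Nat.eq_of_beq_eq_true h3
  apply eq_of_five ((smul_mem_octads_iff hg).2 ((ofMask_mem_octads hlt).2 ho)) ((ofMask_mem_octads hlt').2 ho')
  have hcard : ((ofMask w).image g).card = 5 := by rw [Finset.card_image_of_injective _ g.injective, h2]
  rw [← hcard]
  apply Finset.card_le_card
  intro q hq
  rw [Finset.mem_image] at hq
  obtain ⟨p, hp, rfl⟩ := hq
  rw [Finset.mem_inter]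
  have hpw := hp
  rw [mem_ofMask] at hp
  constructor
  · rw [Finset.mem_smul_finset]
    refine ⟨p, ?_, rfl⟩
    rw [mem_ofMask]
    rw [← h1, Nat.testBit_and, Bool.and_eq_true] at hp
    exact hp.2
  · rw [mem_ofMask]
    by_contra hcon
    have hcon : o'.testBit (ix (g p)) = false := by simpa using hcon
    have h4 := h (ix p) (ix_lt p)
    rw [pt_ix] at h4
    have h5 : (Nat.land P (spread w * (Nat.xor o' 16777215))).testBit (25 * ix p + ix (g p)) = true := by
      rw [land_testBit, h4, testBit_spread_mul hw (lt_trans (compl_lt hlt') (by norm_num)) (ix_lt p)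
        ((ix_lt _).trans (by norm_num)), hp, testBit_compl (ix_lt _), hcon]
      rfl
    rw [h3, Nat.zero_testBit] at h5
    exact absurd h5 (by decide)

theorem val_octStep {g : Equiv.Perm GolayPt} (hg : g ∈ M24) {P : ℕ} (h : Val g P) {o o' w : ℕ} (ho : o ∈ octL)
    (ho' : o' ∈ octL) (hok : octOK P o o' w = true) : Val g (octStep P o o') := by
  have hgo := octOK_spec hg h ho ho' hok
  have hlt := octL_lt ho
  have hlt' := octL_lt ho'
  intro i hi
  have hx : ix (g (pt i)) < 25 := (ix_lt _).trans (by norm_num)
  have hmem : g (pt i) ∈ ofMask o' ↔ o.testBit i = true := by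
    rw [← hgo, Finset.mem_smul_finset]
    constructor
    · rintro ⟨q, hq, hqi⟩
      have : q = pt i := g.injective hqi
      rw [this, mem_ofMask, ix_pt i hi] at hq
      exact hq
    · intro hq
      exact ⟨pt i, by rw [mem_ofMask, ix_pt i hi]; exact hq, rfl⟩
  unfold octStep
  rw [land_testBit, h i hi, Bool.true_and, lor_testBit]
  change ((spread o * o').testBit _ || (spread (Nat.xor o 16777215) * (Nat.xor o' 16777215)).testBit _) = true
  rw [testBit_spread_mul hlt (hlt'.trans (by norm_num)) hi hx,
    testBit_spread_mul (compl_lt hlt) (lt_trans (compl_lt hlt') (by norm_num)) hi hx, testBit_compl hi,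
    testBit_compl (ix_lt _)]
  rw [mem_ofMask] at hmem
  by_cases hb : o.testBit i = true
  · rw [hb, hmem.2 hb]; rfl
  · have h1 : ¬ (o'.testBit (ix (g (pt i))) = true) := fun h' => hb (hmem.1 h')
    simp only [Bool.not_eq_true] at hb h1
    rw [hb, h1]; rfl

/-! ### commutation relations -/

/-- permute the bits of each field -/
noncomputable def permBits (v : List ℕ) : ℕ → ℕ :=
  List.rec (fun _ => 0) (fun a _ ih Q => Nat.lor (Nat.shiftLeft (Nat.land Q D25) a) (ih (Nat.shiftRight Q 1))) v

theorem permBits_spec (v : List ℕ) : ∀ (Q i x : ℕ) (hx : x < v.length), i < 24 → Q.testBit (25 * i + x) = true →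
    (permBits v Q).testBit (25 * i + v[x]) = true := by
  induction v with
  | nil => intro Q i x hx; simp at hx
  | cons a v ih =>
    intro Q i x hx hi h
    change (Nat.lor (Nat.shiftLeft (Nat.land Q D25) a) (permBits v (Nat.shiftRight Q 1))).testBit _ = true
    rw [lor_testBit, Bool.or_eq_true]
    cases x with
    | zero =>
      left
      change ((Nat.land Q D25) <<< a).testBit _ = true
      rw [Nat.testBit_shiftLeft, List.getElem_cons_zero]
      have e : 25 * i + a - a = 25 * i := by omega
      rw [e, land_testBit, testBit_D25]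
      rw [add_zero] at h
      rw [h]
      simp
      omega
    | succ x =>
      right
      rw [List.getElem_cons_succ]
      apply ih _ i x (by simpa using hx) hi
      change (Q >>> 1).testBit _ = true
      rw [Nat.testBit_shiftRight]
      have e : 1 + (25 * i + x) = 25 * i + (x + 1) := by omega
      rw [e, h]

/-- permute the fields -/
noncomputable def permFields (Q : ℕ) (v : List ℕ) : ℕ :=
  List.rec 0 (fun a _ ih => Nat.lor (Nat.land (Nat.shiftRight Q (Nat.mul 25 a)) 16777215) (Nat.shiftLeft ih 25)) v

theorem permFields_spec (Q : ℕ) (v : List ℕ) : ∀ (j x : ℕ) (hj : j < v.length), x < 24 →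
    Q.testBit (25 * v[j] + x) = true → (permFields Q v).testBit (25 * j + x) = true := by
  induction v with
  | nil => intro j x hj; simp at hj
  | cons a v ih =>
    intro j x hj hx h
    change (Nat.lor (Nat.land (Nat.shiftRight Q (Nat.mul 25 a)) 16777215) (Nat.shiftLeft (permFields Q v) 25)).testBit _
      = true
    rw [lor_testBit, Bool.or_eq_true]
    cases j with
    | zero =>
      left
      rw [land_testBit]
      change ((Q >>> (25 * a)).testBit _ && _) = true
      rw [Nat.testBit_shiftRight]
      rw [List.getElem_cons_zero] at h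
      have e : 25 * a + (25 * 0 + x) = 25 * a + x := by omega
      have e2 : 25 * 0 + x = x := by omega
      rw [e, h, e2, testBit_all hx]; rfl
    | succ j =>
      right
      rw [List.getElem_cons_succ] at h
      change ((permFields Q v) <<< 25).testBit _ = true
      rw [Nat.testBit_shiftLeft]
      have e : 25 * (j + 1) + x - 25 = 25 * j + x := by omega
      rw [e, ih j x (by simpa using hj) hx h]
      simp
      omega

/-- use of `g ∘ v = v' ∘ g`; `vi` is the list of the inverse of `v` -/
noncomputable def commStep (vi v' : List ℕ) (P : ℕ) : ℕ := Nat.land P (permFields (permBits v' P) vi)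

theorem val_commStep {g a a' : Equiv.Perm GolayPt} {vi v' : List ℕ} (hv : Rep a⁻¹ vi) (hv' : Rep a' v')
    (hc : g * a = a' * g) {P : ℕ} (h : Val g P) : Val g (commStep vi v' P) := by
  intro j hj
  unfold commStep
  rw [land_testBit, h j hj, Bool.true_and]
  have hj' : j < vi.length := by rw [hv.1]; exact hj
  have hvj : vi.getD j 0 = vi[j] := List.getD_eq_getElem _ _ hj'
  have h1 : a⁻¹ (pt j) = pt (vi.getD j 0) := hv.apply_pt hj
  have h2 : g (pt j) = a' (g (pt (vi.getD j 0))) := by
    rw [← h1]
    have := congrArg (fun f : Equiv.Perm GolayPt => f (a⁻¹ (pt j))) hc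
    simp only [Equiv.Perm.mul_apply] at this
    have e2 : a (a⁻¹ (pt j)) = pt j := a.apply_symm_apply _
    rw [e2] at this
    exact this
  have hlt : vi.getD j 0 < 24 := by
    have := hv.2 (pt j)
    rw [ix_pt j hj] at this
    rw [← this]; exact ix_lt _
  have h3 := h (vi.getD j 0) hlt
  apply permFields_spec _ _ j _ hj' (ix_lt _)
  rw [hvj] at h2 h3 hlt
  have h4 : ix (g (pt vi[j])) < v'.length := by rw [hv'.1]; exact ix_lt _
  have h5 := permBits_spec v' P vi[j] _ h4 hlt h3
  have h6 : ix (g (pt j)) = v'[ix (g (pt vi[j]))] := by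
    rw [h2, hv'.2, List.getD_eq_getElem _ _ h4]
  rw [h6]
  exact h5

/-! ### transposition -/

/-- the transposed matrix -/
noncomputable def transp (P : ℕ) : List ℕ → ℕ → ℕ :=
  List.rec (fun _ => 0) (fun E _ ih d => Nat.lor (Nat.lor
    (Nat.shiftLeft (Nat.land (Nat.shiftRight P (Nat.mul 25 d)) E) d)
    (Nat.shiftLeft (Nat.land (Nat.shiftRight P d) E) (Nat.mul 25 d))) (ih (Nat.succ d)))

/-- the masks for the transposition -/
def EL : List ℕ := (List.range 24).map fun d => E26 >>> (26 * d)

theorem EL_spec : ∀ d < 24, ∀ j < 24 - d, ((EL.getD d 0).testBit (26 * j)) = true := by decide +kernel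

theorem EL_length : EL.length = 24 := by simp [EL]

theorem transp_cons (P E d : ℕ) (L : List ℕ) : transp P (E :: L) d = Nat.lor (Nat.lor
    (Nat.shiftLeft (Nat.land (Nat.shiftRight P (Nat.mul 25 d)) E) d)
    (Nat.shiftLeft (Nat.land (Nat.shiftRight P d) E) (Nat.mul 25 d))) (transp P L (Nat.succ d)) := rfl

theorem transp_low (P : ℕ) (L : List ℕ) : ∀ (d k j : ℕ) (hk : k < L.length), (L[k]).testBit (26 * j) = true →
    P.testBit (25 * (j + (d + k)) + j) = true → (transp P L d).testBit (25 * j + (j + (d + k))) = true := by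
  induction L with
  | nil => intro d k j hk; simp at hk
  | cons E L ih =>
    intro d k j hk hE hP
    rw [transp_cons, lor_testBit, lor_testBit, Bool.or_eq_true, Bool.or_eq_true]
    cases k with
    | zero =>
      left; left
      rw [List.getElem_cons_zero] at hE
      change ((Nat.land (P >>> (25 * d)) E) <<< d).testBit _ = true
      rw [Nat.testBit_shiftLeft]
      have e : 25 * j + (j + (d + 0)) - d = 26 * j := by omega
      rw [e, land_testBit, Nat.testBit_shiftRight, hE]
      have e2 : 25 * d + 26 * j = 25 * (j + (d + 0)) + j := by ring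
      rw [e2, hP]
      simp
      omega
    | succ k =>
      right
      rw [List.getElem_cons_succ] at hE
      have e : d + (k + 1) = Nat.succ d + k := by omega
      rw [e] at hP ⊢
      exact ih (Nat.succ d) k j (by simpa using hk) hE hP

theorem transp_up (P : ℕ) (L : List ℕ) : ∀ (d k j : ℕ) (hk : k < L.length), (L[k]).testBit (26 * j) = true →
    P.testBit (25 * j + (j + (d + k))) = true → (transp P L d).testBit (25 * (j + (d + k)) + j) = true := by
  induction L with
  | nil => intro d k j hk; simp at hk
  | cons E L ih =>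
    intro d k j hk hE hP
    rw [transp_cons, lor_testBit, lor_testBit, Bool.or_eq_true, Bool.or_eq_true]
    cases k with
    | zero =>
      left; right
      rw [List.getElem_cons_zero] at hE
      change ((Nat.land (P >>> d) E) <<< (25 * d)).testBit _ = true
      rw [Nat.testBit_shiftLeft]
      have e : 25 * (j + (d + 0)) + j - 25 * d = 26 * j := by omega
      rw [e, land_testBit, Nat.testBit_shiftRight, hE]
      have e2 : d + 26 * j = 25 * j + (j + (d + 0)) := by ring
      rw [e2, hP]
      simp
      omega
    | succ k =>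
      right
      rw [List.getElem_cons_succ] at hE
      have e : d + (k + 1) = Nat.succ d + k := by omega
      rw [e] at hP ⊢
      exact ih (Nat.succ d) k j (by simpa using hk) hE hP

theorem transp_spec (P i j : ℕ) (hi : i < 24) (hj : j < 24) (h : P.testBit (25 * i + j) = true) :
    (transp P EL 0).testBit (25 * j + i) = true := by
  rcases le_total j i with hji | hij
  · obtain ⟨k, rfl⟩ := Nat.exists_eq_add_of_le hji
    have hk : k < EL.length := by rw [EL_length]; omega
    have hE := EL_spec k (by omega) j (by omega)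
    rw [List.getD_eq_getElem _ _ hk] at hE
    have e : j + k = j + (0 + k) := by omega
    rw [e] at h ⊢
    exact transp_low P EL 0 k j hk hE h
  · obtain ⟨k, rfl⟩ := Nat.exists_eq_add_of_le hij
    have hk : k < EL.length := by rw [EL_length]; omega
    have hE := EL_spec k (by omega) i (by omega)
    rw [List.getD_eq_getElem _ _ hk] at hE
    have e : i + k = i + (0 + k) := by omega
    rw [e] at h ⊢
    exact transp_up P EL 0 k i hk hE h

/-- use of `g * g = 1` -/
noncomputable def invStep (P : ℕ) : ℕ := Nat.land P (transp P EL 0)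

theorem val_invStep {g : Equiv.Perm GolayPt} (h2 : g * g = 1) {P : ℕ} (h : Val g P) : Val g (invStep P) := by
  intro j hj
  unfold invStep
  rw [land_testBit, h j hj, Bool.true_and]
  apply transp_spec P _ j (ix_lt _) hj
  have h3 := h (ix (g (pt j))) (ix_lt _)
  rw [pt_ix] at h3
  have h4 : g (g (pt j)) = pt j := by
    rw [← Equiv.Perm.mul_apply, h2]; rfl
  rwa [h4, ix_pt j hj] at h3

/-- square of the matrix -/
noncomputable def sqr (P : ℕ) : ℕ → ℕ → ℕ :=
  Nat.rec (fun _ => 0) (fun _ ih k => Nat.lor (Nat.mul (Nat.land (Nat.shiftRight P k) D25)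
    (Nat.land (Nat.shiftRight P (Nat.mul 25 k)) 16777215)) (ih (Nat.succ k)))

theorem land_D25_eq (Q : ℕ) : Nat.land Q D25 = pk 25 (fun i => if Q.testBit (25 * i) = true then 1 else 0) 24 := by
  have hf : ∀ i, (if Q.testBit (25 * i) = true then 1 else 0) < 2 ^ 25 := by intro i; split <;> norm_num
  apply Nat.eq_of_testBit_eq
  intro k
  rw [land_testBit, testBit_D25]
  by_cases hk : k < 600
  · have h1 : k = 25 * (k / 25) + k % 25 := (Nat.div_add_mod k 25).symm
    conv_rhs => rw [h1]
    rw [testBit_pk 25 _ hf 24 (k / 25) (k % 25) (by omega) (by omega)]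
    by_cases h0 : k % 25 = 0
    · rw [h0, add_zero] at h1
      rw [← h1, h0]
      cases Q.testBit k <;> simp [hk]
    · have : decide (k % 25 = 0 ∧ k < 600) = false := by simp [h0]
      rw [this, Bool.and_false]
      split
      · rw [testBit_one]; simp [h0]
      · rw [Nat.zero_testBit]
  · have e1 : decide (k % 25 = 0 ∧ k < 600) = false := by simp [hk]
    rw [e1, Bool.and_false, Nat.testBit_lt_two_pow]
    refine lt_of_lt_of_le (pk_lt 25 _ hf 24) ?_
    exact Nat.pow_le_pow_right (by norm_num) (by omega)

theorem sqr_spec (P : ℕ) : ∀ (n k0 k i j : ℕ), k0 ≤ k → k < k0 + n → i < 24 → j < 24 →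
    P.testBit (25 * i + k) = true → P.testBit (25 * k + j) = true → (sqr P n k0).testBit (25 * i + j) = true := by
  intro n
  induction n with
  | zero => intro k0 k i j h1 h2; omega
  | succ n ih =>
    intro k0 k i j h1 h2 hi hj hik hkj
    change (Nat.lor (Nat.mul (Nat.land (Nat.shiftRight P k0) D25)
      (Nat.land (Nat.shiftRight P (Nat.mul 25 k0)) 16777215)) (sqr P n (Nat.succ k0))).testBit _ = true
    rw [lor_testBit, Bool.or_eq_true]
    rcases Nat.eq_or_lt_of_le h1 with rfl | h1
    · left
      change ((Nat.land (P >>> k0) D25) * (Nat.land (P >>> (25 * k0)) 16777215)).testBit _ = true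
      rw [land_D25_eq, pk_mul, testBit_pk 25 _ _ 24 i j hi (by omega)]
      · have e : 25 * i + k0 = k0 + 25 * i := by omega
        have h5 : (P >>> k0).testBit (25 * i) = true := by rw [Nat.testBit_shiftRight, ← e, hik]
        rw [if_pos h5, one_mul, land_testBit, Nat.testBit_shiftRight, hkj, testBit_all hj]; rfl
      · intro i
        have h6 := and_all (P >>> (25 * k0))
        split
        · rw [one_mul]; omega
        · rw [zero_mul]; norm_num
    · right
      exact ih (Nat.succ k0) k i j h1 (by omega) hi hj hik hkj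

/-- use of `g * g * g = 1` -/
noncomputable def cubStep (P : ℕ) : ℕ := Nat.land P (transp (sqr P 24 0) EL 0)

theorem val_cubStep {g : Equiv.Perm GolayPt} (h2 : g * g * g = 1) {P : ℕ} (h : Val g P) : Val g (cubStep P) := by
  intro j hj
  unfold cubStep
  rw [land_testBit, h j hj, Bool.true_and]
  apply transp_spec _ _ j (ix_lt _) hj
  have h3 := h (ix (g (pt j))) (ix_lt _)
  rw [pt_ix] at h3
  have h4 := h (ix (g (g (pt j)))) (ix_lt _)
  rw [pt_ix] at h4
  have h5 : g (g (g (pt j))) = pt j := by
    rw [← Equiv.Perm.mul_apply, ← Equiv.Perm.mul_apply, h2]; rfl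
  rw [h5, ix_pt j hj] at h4
  exact sqr_spec P 24 0 _ _ _ (Nat.zero_le _) (by simpa using ix_lt _) (ix_lt _) hj h3 h4

/-! ### the trees -/

/-- packed list -/
noncomputable def packL (l : List ℕ) : ℕ :=
  List.rec 0 (fun a _ ih => Nat.lor (Nat.pow 2 a) (Nat.shiftLeft ih 25)) l

theorem packL_spec (l : List ℕ) (hl : ∀ a ∈ l, a < 24) : ∀ (i x : ℕ) (hi : i < l.length), x < 25 →
    (packL l).testBit (25 * i + x) = true → x = l[i] := by
  induction l with
  | nil => intro i x hi; simp at hi
  | cons a l ih =>
    intro i x hi hx h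
    have ha : a < 24 := hl a List.mem_cons_self
    change (Nat.lor (Nat.pow 2 a) (Nat.shiftLeft (packL l) 25)).testBit _ = true at h
    rw [lor_testBit, Bool.or_eq_true] at h
    change (2 ^ a).testBit _ = true ∨ ((packL l) <<< 25).testBit _ = true at h
    rw [Nat.testBit_two_pow, Nat.testBit_shiftLeft] at h
    cases i with
    | zero =>
      rw [List.getElem_cons_zero]
      rcases h with h | h
      · have := of_decide_eq_true h; omega
      · simp at h; omega
    | succ i =>
      rw [List.getElem_cons_succ]
      rcases h with h | h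
      · have := of_decide_eq_true h; omega
      · have e : 25 * (i + 1) + x - 25 = 25 * i + x := by omega
        rw [e, Bool.and_eq_true] at h
        exact ih (fun b hb => hl b (List.mem_cons_of_mem _ hb)) i x (by simpa using hi) hx h.2

/-- certificates -/
inductive Tr
  | bad (i : ℕ) : Tr
  | good (l k : List ℕ) : Tr
  | oct (a b w : ℕ) (n : Tr) : Tr
  | comm (k : ℕ) (n : Tr) : Tr
  | inv (n : Tr) : Tr
  | cub (n : Tr) : Tr
  | split (i m : ℕ) (a b : Tr) : Tr

/-- all entries are below 24 and there are 24 -/
noncomputable def okList (l : List ℕ) : Bool := Nat.beq l.length 24 && l.all fun a => Nat.blt a 24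

/-- the state is kept with a checksum in the low bits (the kernel hashes a number by its low 64 bits) -/
def mk (P : ℕ) : ℕ := Nat.lor (Nat.shiftLeft P 64) (Nat.mod P 2305843009213693951)

/-- the state without the checksum -/
def st (S : ℕ) : ℕ := Nat.shiftRight S 64

theorem st_mk (P : ℕ) : st (mk P) = P := by
  change ((P <<< 64) ||| (P % 2305843009213693951)) >>> 64 = P
  have h : P % 2305843009213693951 < 2 ^ 64 :=
    lt_trans (Nat.mod_lt _ (by norm_num)) (by norm_num)
  apply Nat.eq_of_testBit_eq
  intro i
  rw [Nat.testBit_shiftRight, Nat.testBit_or, Nat.testBit_shiftLeft]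
  have h2 : (P % 2305843009213693951).testBit (64 + i) = false := by
    apply Nat.testBit_lt_two_pow
    exact lt_of_lt_of_le h (Nat.pow_le_pow_right (by norm_num) (by omega))
  rw [h2, Bool.or_false]
  have e : 64 + i - 64 = i := by omega
  rw [e]
  simp

/-- the check -/
noncomputable def checkS (R : List (List ℕ × List ℕ)) (e : ℕ) (Q : List ℕ → List ℕ → Bool) (T : Tr) : ℕ → Bool :=
  Tr.rec (motive := fun _ => ℕ → Bool)
    (fun i S => Nat.blt i 24 && Nat.beq (Nat.land (Nat.shiftRight (st S) (Nat.mul 25 i)) 16777215) 0)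
    (fun l k S => Nat.beq (st S) (packL l) && (okList l && Q l k))
    (fun a b w _ ih S => Nat.blt a 759 && (Nat.blt b 759 && force (octAt a) fun o => force (octAt b) fun o' =>
      octOK (st S) o o' w && force (mk (octStep (st S) o o')) ih))
    (fun k _ ih S => Nat.blt k R.length &&
      force (mk (commStep (R.getD k ([], [])).1 (R.getD k ([], [])).2 (st S))) ih)
    (fun _ ih S => Nat.beq e 2 && force (mk (invStep (st S))) ih)
    (fun _ ih S => Nat.beq e 3 && force (mk (cubStep (st S))) ih)
    (fun i m _ _ iha ihb S => force (mk (cut (st S) i m)) iha && force (mk (cut (st S) i (Nat.xor m 16777215))) ihb)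
    T

/-- the check -/
noncomputable def check (R : List (List ℕ × List ℕ)) (e : ℕ) (Q : List ℕ → List ℕ → Bool) (T : Tr) (P : ℕ) : Bool :=
  force (mk P) (checkS R e Q T)

/-- the relations hold for `g` -/
def Rels (g : Equiv.Perm GolayPt) (R : List (List ℕ × List ℕ)) : Prop :=
  ∀ r ∈ R, ∃ a a' : Equiv.Perm GolayPt, Rep a⁻¹ r.1 ∧ Rep a' r.2 ∧ g * a = a' * g

theorem rels_nil (g : Equiv.Perm GolayPt) : Rels g [] := fun _ h => absurd h List.not_mem_nil

theorem checkS_spec {g : Equiv.Perm GolayPt} (hg : g ∈ M24) {R : List (List ℕ × List ℕ)} (hR : Rels g R) {e : ℕ}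
    (h2 : e = 2 → g * g = 1) (h3 : e = 3 → g * g * g = 1) (Q : List ℕ → List ℕ → Bool) :
    ∀ (T : Tr) (S : ℕ), checkS R e Q T S = true → Val g (st S) → ∃ l k, Rep g l ∧ Q l k = true := by
  intro T
  induction T with
  | bad i =>
    intro S h hP
    exfalso
    change (Nat.blt i 24 && Nat.beq (Nat.land (Nat.shiftRight (st S) (Nat.mul 25 i)) 16777215) 0) = true at h
    rw [Bool.and_eq_true] at h
    have hi : i < 24 := blt_lt h.1
    have h : Nat.land ((st S) >>> (25 * i)) 16777215 = 0 := Nat.eq_of_beq_eq_true h.2
    have h1 := hP i hi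
    have h4 : (Nat.land ((st S) >>> (25 * i)) 16777215).testBit (ix (g (pt i))) = true := by
      rw [land_testBit, Nat.testBit_shiftRight, h1, testBit_all (ix_lt _)]; rfl
    rw [h, Nat.zero_testBit] at h4
    exact absurd h4 (by decide)
  | good l k =>
    intro S h hP
    change (Nat.beq (st S) (packL l) && (okList l && Q l k)) = true at h
    simp only [okList, Bool.and_eq_true, List.all_eq_true] at h
    obtain ⟨h1, ⟨hlen, h4⟩, hQ⟩ := h
    have hlen := Nat.eq_of_beq_eq_true hlen
    refine ⟨l, k, ⟨hlen, fun p => ?_⟩, hQ⟩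
    have h5 := hP (ix p) (ix_lt p)
    rw [Nat.eq_of_beq_eq_true h1, pt_ix] at h5
    have h6 : ix p < l.length := by rw [hlen]; exact ix_lt p
    rw [List.getD_eq_getElem _ _ h6]
    exact packL_spec l (fun a ha => blt_lt (h4 a ha)) (ix p) _ h6 ((ix_lt _).trans (by norm_num)) h5
  | oct a b w n ih =>
    intro S h hP
    change (Nat.blt a 759 && (Nat.blt b 759 && force (octAt a) fun o => force (octAt b) fun o' =>
      octOK (st S) o o' w && force (mk (octStep (st S) o o')) (checkS R e Q n))) = true at h
    simp only [force_eq, Bool.and_eq_true] at h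
    obtain ⟨ha, hb, hok, hn⟩ := h
    exact ih _ hn (by rw [st_mk]; exact val_octStep hg hP (octAt_mem ha) (octAt_mem hb) hok)
  | comm k n ih =>
    intro S h hP
    change (Nat.blt k R.length && force (mk (commStep (R.getD k ([], [])).1 (R.getD k ([], [])).2 (st S)))
      (checkS R e Q n)) = true at h
    simp only [force_eq, Bool.and_eq_true] at h
    have hk : k < R.length := blt_lt h.1
    obtain ⟨a, a', ha, ha', hc⟩ := hR (R.getD k ([], [])) (by
      rw [List.getD_eq_getElem _ _ hk]; exact List.getElem_mem hk)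
    exact ih _ h.2 (by rw [st_mk]; exact val_commStep ha ha' hc hP)
  | inv n ih =>
    intro S h hP
    change (Nat.beq e 2 && force (mk (invStep (st S))) (checkS R e Q n)) = true at h
    simp only [force_eq, Bool.and_eq_true] at h
    exact ih _ h.2 (by rw [st_mk]; exact val_invStep (h2 (Nat.eq_of_beq_eq_true h.1)) hP)
  | cub n ih =>
    intro S h hP
    change (Nat.beq e 3 && force (mk (cubStep (st S))) (checkS R e Q n)) = true at h
    simp only [force_eq, Bool.and_eq_true] at h
    exact ih _ h.2 (by rw [st_mk]; exact val_cubStep (h3 (Nat.eq_of_beq_eq_true h.1)) hP)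
  | split i m A B iha ihb =>
    intro S h hP
    change (force (mk (cut (st S) i m)) (checkS R e Q A) &&
      force (mk (cut (st S) i (Nat.xor m 16777215))) (checkS R e Q B)) = true at h
    simp only [force_eq, Bool.and_eq_true] at h
    obtain ⟨h1, h2⟩ := h
    by_cases hm : m.testBit (ix (g (pt i))) = true
    · exact iha _ h1 (by rw [st_mk]; exact val_cut hP hm)
    · refine ihb _ h2 ?_
      rw [st_mk]
      refine val_cut hP ?_
      rw [testBit_compl (ix_lt _)]
      simpa using hm

theorem check_spec {g : Equiv.Perm GolayPt} (hg : g ∈ M24) {R : List (List ℕ × List ℕ)} (hR : Rels g R) {e : ℕ}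
    (h2 : e = 2 → g * g = 1) (h3 : e = 3 → g * g * g = 1) (Q : List ℕ → List ℕ → Bool) (T : Tr) (P : ℕ)
    (h : check R e Q T P = true) (hP : Val g P) : ∃ l k, Rep g l ∧ Q l k = true := by
  rw [check, force_eq] at h
  exact checkS_spec hg hR h2 h3 Q T _ h (by rw [st_mk]; exact hP)

/-- initial state: the image of `pt x.1` is in the mask `x.2` -/
def cuts (l : List (ℕ × ℕ)) : ℕ := l.foldl (fun P x => cut P x.1 x.2) FULL

theorem val_foldl {g : Equiv.Perm GolayPt} (l : List (ℕ × ℕ)) (h : ∀ x ∈ l, x.2.testBit (ix (g (pt x.1))) = true) :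
    ∀ P, Val g P → Val g (l.foldl (fun P x => cut P x.1 x.2) P) := by
  induction l with
  | nil => exact fun P hP => hP
  | cons x l ih =>
    intro P hP
    exact ih (fun y hy => h y (List.mem_cons_of_mem _ hy)) _ (val_cut hP (h x List.mem_cons_self))

theorem val_cuts {g : Equiv.Perm GolayPt} (l : List (ℕ × ℕ)) (h : ∀ x ∈ l, x.2.testBit (ix (g (pt x.1))) = true) :
    Val g (cuts l) := val_foldl l h _ (val_top g)

/-- the images of some points are given -/
def imgs (l : List (ℕ × ℕ)) : ℕ := cuts (l.map fun x => (x.1, Nat.pow 2 x.2))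

theorem val_imgs {g : Equiv.Perm GolayPt} (l : List (ℕ × ℕ)) (h : ∀ x ∈ l, x.2 < 24 ∧ g (pt x.1) = pt x.2) :
    Val g (imgs l) := by
  apply val_cuts
  intro y hy
  rw [List.mem_map] at hy
  obtain ⟨x, hx, rfl⟩ := hy
  rw [(h x hx).2, ix_pt _ (h x hx).1]
  exact Nat.testBit_two_pow_self

end Cfsg.Agent.H28.Tree
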