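import Mathlib
import Cfsg.Agent.H28_Tree
import Cfsg.Agent.H7_M24c

set_option autoImplicit false

/-!
The classes of involutions and of elements of order three of `M24`.
-/

namespace Cfsg.Agent.H28.Cls

open Cfsg Cfsg.Agent.H7.Golay Cfsg.Agent.H7.Oct Cfsg.Agent.H7.M24 Cfsg.Agent.H28.Pk Cfsg.Agent.H28.Tree
open Cfsg.Agent.H14.M24Eng hiding Tr check_spec Val
open scoped Pointwise

def lA : List ℕ := [0, 1, 2, 3, 4, 6, 5, 7, 18, 14, 10, 23, 12, 15, 9, 13, 21, 22, 8, 20, 19, 16, 17, 11]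
def lB : List ℕ := [1, 0, 3, 2, 5, 4, 19, 14, 22, 16, 17, 15, 23, 20, 7, 11, 9, 10, 21, 6, 13, 18, 8, 12]
def l3A : List ℕ := [0, 1, 2, 3, 4, 5, 21, 12, 11, 18, 7, 13, 10, 8, 17, 22, 6, 23, 19, 9, 15, 16, 20, 14]
def l3B : List ℕ := [1, 2, 0, 4, 5, 3, 13, 9, 15, 23, 19, 22, 18, 20, 12, 21, 11, 10, 14, 17, 6, 8, 16, 7]

theorem ok_A : isM24 lA = true := by decide +kernel
theorem ok_B : isM24 lB = true := by decide +kernel
theorem ok_3A : isM24 l3A = true := by decide +kernel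
theorem ok_3B : isM24 l3B = true := by decide +kernel

/-- an involution fixing the standard octad pointwise -/
noncomputable def zA : Equiv.Perm GolayPt := (exists_M24 ok_A).choose
/-- a fixed point free involution -/
noncomputable def zB : Equiv.Perm GolayPt := (exists_M24 ok_B).choose
/-- an element of order three with six fixed points -/
noncomputable def zC : Equiv.Perm GolayPt := (exists_M24 ok_3A).choose
/-- a fixed point free element of order three -/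
noncomputable def zD : Equiv.Perm GolayPt := (exists_M24 ok_3B).choose

theorem zA_mem : zA ∈ M24 := (exists_M24 ok_A).choose_spec.1
theorem zB_mem : zB ∈ M24 := (exists_M24 ok_B).choose_spec.1
theorem zC_mem : zC ∈ M24 := (exists_M24 ok_3A).choose_spec.1
theorem zD_mem : zD ∈ M24 := (exists_M24 ok_3B).choose_spec.1
theorem rep_zA : Rep zA lA := (exists_M24 ok_A).choose_spec.2
theorem rep_zB : Rep zB lB := (exists_M24 ok_B).choose_spec.2
theorem rep_zC : Rep zC l3A := (exists_M24 ok_3A).choose_spec.2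
theorem rep_zD : Rep zD l3B := (exists_M24 ok_3B).choose_spec.2

/-- test for conjugacy to one of two elements -/
noncomputable def conjQ (r r' : List ℕ) (l k : List ℕ) : Bool :=
  isM24 k && (beqL (comp k l) (comp r k) || beqL (comp k l) (comp r' k))

theorem conjQ_spec {r r' l k : List ℕ} {g z z' : Equiv.Perm GolayPt} (hz : Rep z r) (hz' : Rep z' r') (hg : Rep g l)
    (h : conjQ r r' l k = true) : ∃ c ∈ M24, c * g * c⁻¹ = z ∨ c * g * c⁻¹ = z' := by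
  simp only [conjQ, Bool.and_eq_true, Bool.or_eq_true] at h
  obtain ⟨h1, h2⟩ := h
  obtain ⟨c, hc, hr⟩ := exists_M24 h1
  refine ⟨c, hc, ?_⟩
  rcases h2 with h2 | h2
  · left
    have e := beqL_eq h2
    have : c * g = z * c := (rep_mul hr hg).unique (e ▸ rep_mul hz hr)
    rw [this]; group
  · right
    have e := beqL_eq h2
    have : c * g = z' * c := (rep_mul hr hg).unique (e ▸ rep_mul hz' hr)
    rw [this]; group

def tree2 : Tr := (.inv (.split 4 16 (.inv (.oct 758 758 31 (.split 7 128 (.inv (.split 10 1024 (.inv (.split 5 32 (.oct 499 675 4142 (.oct 757 757 47 (.oct 681 505 61 (.oct 738 723 4198407 (.inv (.oct 350 510 339970 (.good [1, 0, 3, 2, 4, 5, 9, 7, 15, 6, 10, 22, 12, 20, 14, 8, 19, 17, 21, 16, 13, 18, 11, 23] [14, 9, 20, 19, 12, 2, 22, 10, 15, 17, 4, 16, 1, 5, 0, 13, 11, 3, 8, 23, 6, 18, 21, 7]))))))) (.split 5 64 (.oct 749 728 4135 (.inv (.bad 5))) (.split 5 256 (.oct 663 440 4149 (.inv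 (.bad 5))) (.split 5 512 (.oct 753 735 55 (.inv (.bad 5))) (.split 5 2048 (.oct 675 490 4141 (.inv (.bad 5))) (.split 5 8192 (.oct 623 478 4153 (.inv (.bad 5))) (.split 5 16384 (.oct 499 668 4142 (.oct 487 614 4150 (.inv (.oct 150 255 8540168 (.inv (.oct 630 413 565253 (.good [1, 0, 3, 2, 4, 14, 6, 7, 16, 9, 10, 11, 12, 18, 5, 19, 8, 23, 13, 15, 21, 20, 22, 17] [17, 22, 6, 5, 7, 23, 3, 4, 8, 12, 2, 10, 1, 19, 11, 16, 18, 14, 20, 21, 13, 15, 0, 9]))))))) (.split 5 32768 (.oct 447 654 4154 (.inv (.bad 5))) (.split 5 65536 (.oct 499 673 4142 (.inv (.bad 5))) (.split 5 131072 (.oct 499 667 4142 (.oct 487 614 4150 (.inv (.oct 682 705 8781827 (.inv (.oct 25 11 5029888 (.good [1, 0, 3, 2, 4, 17, 11, 7, 19, 22, 10, 6, 12, 13, 23, 16, 15, 5, 18, 8, 20, 21, 9, 14] [21, 16, 15, 13, 7, 18, 11, 0, 14, 22, 1, 23, 10, 4, 19, 6, 5, 8, 12, 9, 2, 3, 17, 20]))))))) (.split 5 262144 (.oct 499 667 4142 (.inv (.bad 5)))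 (.split 5 524288 (.oct 447 654 4154 (.inv (.bad 5))) (.split 5 1048576 (.oct 487 614 4150 (.inv (.bad 5))) (.split 5 2097152 (.oct 487 614 4150 (.inv (.bad 5))) (.split 5 4194304 (.oct 499 668 4142 (.inv (.bad 5))) (.oct 499 673 4142 (.oct 447 654 4154 (.inv (.oct 586 469 8470537 (.oct 686 705 8585219 (.oct 3 26 1785856 (.good [1, 0, 3, 2, 4, 23, 22, 7, 8, 11, 10, 9, 12, 21, 17, 15, 16, 14, 20, 19, 18, 13, 6, 5] [11, 23, 18, 8, 12, 15, 14, 1, 4, 16, 0, 21, 2, 17, 6, 10, 7, 5, 19, 3, 20, 22, 9, 13]))))))))))))))))))))))) (.split 12 1024 (.split 5 32 (.oct 499 676 4142 (.inv (.oct 750 737 65559 (.bad 5)))) (.split 5 64 (.oct 749 729 4135 (.inv (.bad 5))) (.split 5 256 (.oct 663 441 4149 (.inv (.bad 5))) (.split 5 512 (.oct 753 735 55 (.inv (.bad 5))) (.split 5 2048 (.oct 675 492 4141 (.inv (.bad 5))) (.split 5 8192 (.oct 623 486 4153 (.inv (.bad 5))) (.split 5 16384 (.oct 609 460 4265 (.inv (.bad 5)))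 (.split 5 32768 (.oct 447 658 4154 (.inv (.bad 5))) (.split 5 65536 (.oct 737 750 59 (.inv (.bad 5))) (.split 5 131072 (.oct 447 657 4154 (.inv (.bad 5))) (.split 5 262144 (.oct 499 666 4142 (.inv (.bad 5))) (.split 5 524288 (.oct 447 655 4154 (.inv (.bad 5))) (.split 5 1048576 (.oct 487 620 4150 (.inv (.bad 5))) (.split 5 2097152 (.oct 487 616 4150 (.inv (.bad 5))) (.split 5 4194304 (.oct 499 666 4142 (.inv (.bad 5))) (.oct 487 615 4150 (.inv (.bad 5)))))))))))))))))) (.inv (.bad 10))))) (.split 7 1024 (.inv (.split 12 1024 (.split 10 128 (.inv (.bad 12)) (.split 10 1024 (.inv (.bad 7)) (.inv (.bad 7)))) (.inv (.split 10 128 (.split 5 32 (.oct 499 675 4142 (.oct 757 757 47 (.oct 681 505 61 (.oct 622 479 4194457 (.bad 14))))) (.split 5 64 (.oct 749 728 4135 (.inv (.bad 5))) (.split 5 256 (.oct 663 440 4149 (.inv (.bad 5))) (.split 5 512 (.oct 753 735 55 (.inv (.bad 5))) (.split 5 2048 (.oct 675 490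 4141 (.inv (.bad 5))) (.split 5 8192 (.oct 623 478 4153 (.inv (.bad 5))) (.split 5 16384 (.oct 609 464 4265 (.inv (.bad 5))) (.split 5 32768 (.oct 447 654 4154 (.inv (.bad 5))) (.split 5 65536 (.oct 499 673 4142 (.inv (.bad 5))) (.split 5 131072 (.oct 706 688 4259 (.inv (.bad 5))) (.split 5 262144 (.oct 499 667 4142 (.inv (.bad 5))) (.split 5 524288 (.oct 447 654 4154 (.inv (.bad 5))) (.split 5 1048576 (.oct 487 614 4150 (.inv (.bad 5))) (.split 5 2097152 (.oct 487 614 4150 (.inv (.bad 5))) (.split 5 4194304 (.oct 499 668 4142 (.inv (.bad 5))) (.oct 328 320 188 (.inv (.bad 5)))))))))))))))))) (.inv (.bad 7)))))) (.inv (.split 10 1024 (.inv (.split 12 128 (.split 5 32 (.oct 499 677 4142 (.inv (.oct 623 489 4153 (.bad 18)))) (.split 5 64 (.oct 749 730 4135 (.inv (.bad 5))) (.split 5 256 (.oct 663 446 4149 (.inv (.bad 5))) (.split 5 512 (.oct 753 735 55 (.inv (.bad 5))) (.split 5 2048 (.oct 675 495 4141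 (.inv (.bad 5))) (.split 5 8192 (.oct 623 482 4153 (.inv (.bad 5))) (.split 5 16384 (.oct 664 440 181 (.inv (.bad 5))) (.split 5 32768 (.oct 447 662 4154 (.inv (.bad 5))) (.split 5 65536 (.oct 499 670 4142 (.inv (.bad 5))) (.split 5 131072 (.oct 447 659 4154 (.inv (.bad 5))) (.split 5 262144 (.oct 623 484 4153 (.inv (.bad 5))) (.split 5 524288 (.oct 447 660 4154 (.inv (.bad 5))) (.split 5 1048576 (.oct 487 619 4150 (.inv (.bad 5))) (.split 5 2097152 (.oct 487 618 4150 (.inv (.bad 5))) (.split 5 4194304 (.oct 499 670 4142 (.inv (.bad 5))) (.oct 487 622 4150 (.inv (.bad 5)))))))))))))))))) (.inv (.bad 7)))) (.split 12 128 (.inv (.bad 10)) (.split 12 1024 (.inv (.bad 7)) (.inv (.bad 7)))))))))) (.split 4 32 (.oct 758 757 31 (.inv (.split 14 128 (.oct 502 677 16414 (.inv (.oct 681 505 61 (.oct 750 732 4194327 (.inv (.oct 682 697 172035 (.good [1, 0, 3, 2, 5, 4, 19, 14, 22, 16, 17, 15, 23, 20, 7, 11, 9,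 10, 21, 6, 13, 18, 8, 12] [17, 10, 1, 0, 3, 2, 8, 9, 7, 15, 21, 12, 19, 4, 16, 23, 11, 18, 13, 22, 5, 20, 14, 6]))))))) (.split 14 1024 (.oct 502 676 16414 (.inv (.oct 681 505 61 (.inv (.oct 754 756 8207 (.inv (.oct 210 161 1351684 (.good [1, 0, 3, 2, 5, 4, 18, 23, 15, 21, 14, 20, 17, 22, 10, 8, 19, 12, 6, 16, 11, 9, 13, 7] [7, 14, 4, 5, 16, 9, 18, 6, 23, 3, 11, 20, 8, 0, 15, 12, 17, 22, 21, 10, 13, 2, 1, 19])))))))) (.oct 502 675 16414 (.inv (.oct 444 649 4198426 (.oct 738 727 4198407 (.inv (.oct 330 507 4739074 (.good [1, 0, 3, 2, 5, 4, 9, 17, 20, 6, 23, 22, 14, 15, 12, 13, 18, 7, 16, 21, 8, 19, 11, 10] [15, 11, 19, 6, 3, 2, 16, 13, 23, 9, 1, 8, 21, 14, 18, 7, 17, 20, 10, 4, 12, 5, 22, 0]))))))))))) (.split 4 64 (.oct 758 756 31 (.inv (.split 9 128 (.oct 735 746 539 (.inv (.oct 737 752 91 (.oct 754 757 2097167 (.inv (.oct 506 340 475137 (.good [1, 0, 3, 2, 6, 20, 4, 9, 16, 7, 22, 12, 11, 23, 21, 19,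 8, 18, 17, 15, 5, 14, 10, 13] [7, 14, 21, 18, 9, 5, 16, 13, 3, 20, 19, 0, 1, 22, 10, 23, 2, 15, 11, 12, 4, 17, 6, 8]))))))) (.split 9 1024 (.oct 735 745 539 (.inv (.oct 737 752 91 (.oct 750 728 65559 (.inv (.oct 290 290 688140 (.good [1, 0, 3, 2, 6, 8, 4, 11, 5, 10, 9, 7, 22, 18, 16, 17, 14, 15, 13, 23, 21, 20, 12, 19] [9, 16, 11, 15, 0, 5, 1, 20, 4, 18, 21, 13, 3, 19, 10, 14, 17, 7, 6, 12, 8, 22, 2, 23]))))))) (.oct 735 749 539 (.inv (.oct 614 477 20505 (.inv (.oct 654 435 20501 (.oct 506 374 8671233 (.inv (.good [1, 0, 3, 2, 6, 14, 4, 22, 21, 12, 11, 10, 9, 15, 5, 13, 20, 23, 19, 18, 16, 8, 7, 17] [15, 11, 9, 16, 5, 19, 4, 23, 1, 17, 7, 14, 10, 3, 6, 2, 13, 8, 21, 18, 20, 0, 12, 22])))))))))))) (.split 4 128 (.inv (.oct 758 758 31 (.split 10 128 (.inv (.split 12 128 (.split 7 16 (.inv (.bad 10)) (.split 7 128 (.inv (.bad 4)) (.split 7 1024 (.inv (.bad 4)) (.inv (.bad 4))))) (.inv (.split 7 16 (.inv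 (.bad 10)) (.split 7 128 (.inv (.bad 4)) (.inv (.bad 4))))))) (.split 10 1024 (.inv (.split 12 128 (.split 7 16 (.inv (.bad 12)) (.split 7 128 (.inv (.bad 4)) (.inv (.bad 4)))) (.inv (.split 7 16 (.split 5 32 (.oct 757 757 47 (.oct 681 500 61 (.inv (.oct 654 422 36885 (.bad 14))))) (.split 5 64 (.oct 749 728 4135 (.inv (.bad 5))) (.split 5 256 (.oct 663 422 4149 (.inv (.bad 5))) (.split 5 512 (.oct 753 726 55 (.inv (.bad 5))) (.split 5 2048 (.oct 675 490 4141 (.inv (.bad 5))) (.split 5 8192 (.oct 623 459 4153 (.inv (.bad 5))) (.split 5 16384 (.oct 609 478 4265 (.inv (.bad 5))) (.split 5 32768 (.oct 447 636 4154 (.inv (.bad 5))) (.split 5 65536 (.oct 499 673 4142 (.inv (.bad 5))) (.split 5 131072 (.oct 447 643 4154 (.inv (.bad 5))) (.split 5 262144 (.oct 499 667 4142 (.inv (.bad 5))) (.split 5 524288 (.oct 447 634 4154 (.inv (.bad 5))) (.split 5 1048576 (.oct 487 595 4150 (.inv (.bad 5))) (.split 5 2097152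 (.oct 487 604 4150 (.inv (.bad 5))) (.split 5 4194304 (.oct 499 668 4142 (.inv (.bad 5))) (.oct 487 597 4150 (.inv (.bad 5)))))))))))))))))) (.inv (.bad 4)))))) (.inv (.split 7 16 (.inv (.split 12 1024 (.split 5 32 (.oct 499 676 4142 (.oct 757 757 47 (.oct 487 610 4150 (.oct 654 419 8392725 (.oct 150 213 8540168 (.inv (.oct 210 134 307204 (.good [1, 0, 3, 2, 7, 5, 11, 4, 8, 22, 12, 6, 10, 18, 14, 15, 16, 17, 13, 19, 21, 20, 9, 23] [11, 23, 8, 18, 19, 3, 16, 20, 1, 14, 17, 21, 22, 5, 7, 0, 12, 10, 6, 2, 13, 15, 9, 4])))))))) (.split 5 64 (.oct 749 729 4135 (.inv (.bad 5))) (.split 5 256 (.oct 499 669 4142 (.oct 749 729 4135 (.oct 706 713 4259 (.inv (.oct 682 696 425987 (.good [1, 0, 3, 2, 7, 8, 13, 4, 5, 21, 12, 18, 10, 6, 19, 23, 17, 16, 11, 14, 22, 9, 20, 15] [9, 16, 14, 7, 19, 11, 18, 6, 15, 5, 12, 2, 23, 21, 0, 8, 20, 13, 3, 1, 10, 4, 17, 22])))))) (.split 5 512 (.oct 753 726 55 (.inv (.bad 5)))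 (.split 5 2048 (.oct 675 492 4141 (.inv (.bad 5))) (.split 5 8192 (.oct 749 729 4135 (.inv (.bad 5))) (.split 5 16384 (.oct 499 674 4142 (.oct 314 320 4268 (.inv (.oct 502 677 16414 (.inv (.oct 3 72 2834432 (.good [1, 0, 3, 2, 7, 14, 22, 4, 19, 11, 12, 9, 10, 20, 5, 16, 15, 23, 21, 8, 13, 18, 6, 17] [23, 12, 7, 14, 8, 2, 17, 22, 19, 4, 11, 5, 15, 1, 3, 16, 9, 18, 13, 6, 0, 20, 10, 21]))))))) (.split 5 32768 (.oct 499 674 4142 (.oct 314 321 4268 (.inv (.oct 318 315 36892 (.inv (.oct 682 708 303107 (.good [1, 0, 3, 2, 7, 15, 18, 4, 23, 20, 12, 13, 10, 11, 16, 5, 14, 19, 6, 17, 9, 22, 21, 8] [10, 17, 13, 20, 5, 14, 3, 4, 23, 6, 1, 21, 0, 18, 11, 7, 15, 22, 2, 8, 19, 9, 16, 12]))))))) (.split 5 65536 (.oct 757 755 47 (.oct 681 498 61 (.inv (.oct 410 649 114698 (.oct 506 370 217089 (.inv (.good [1, 0, 3, 2, 7, 16, 20, 4, 17, 18, 12, 21, 10, 22, 15, 14, 5, 8, 9, 23, 6, 11, 13, 19] [11, 15, 21, 18, 3, 12,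 16, 2, 20, 10, 22, 6, 8, 5, 0, 1, 23, 13, 17, 7, 9, 19, 4, 14]))))))) (.split 5 131072 (.oct 499 669 4142 (.oct 749 725 4135 (.inv (.oct 738 731 135175 (.inv (.oct 142 263 5275784 (.good [1, 0, 3, 2, 7, 17, 9, 4, 16, 6, 12, 22, 10, 21, 23, 19, 8, 5, 20, 15, 18, 13, 11, 14] [11, 15, 8, 22, 18, 20, 16, 21, 7, 9, 3, 6, 2, 4, 0, 23, 14, 13, 10, 12, 17, 5, 19, 1]))))))) (.split 5 262144 (.oct 499 666 4142 (.inv (.bad 5))) (.split 5 524288 (.oct 499 666 4142 (.inv (.oct 749 725 4135 (.oct 586 477 8978441 (.inv (.oct 450 608 606214 (.good [1, 0, 3, 2, 7, 19, 21, 4, 14, 13, 12, 20, 10, 9, 8, 17, 23, 15, 22, 5, 11, 6, 18, 16] [2, 3, 8, 22, 11, 17, 23, 15, 6, 20, 21, 7, 18, 13, 19, 16, 4, 9, 0, 10, 14, 12, 1, 5]))))))) (.split 5 1048576 (.oct 681 496 61 (.inv (.bad 5))) (.split 5 2097152 (.oct 737 746 59 (.inv (.bad 5))) (.split 5 4194304 (.oct 499 666 4142 (.inv (.bad 5))) (.oct 499 666 4142 (.inv (.oct 680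 498 524317 (.inv (.oct 626 414 212997 (.inv (.oct 410 632 114698 (.oct 3 3 1785856 (.good [1, 0, 3, 2, 7, 23, 6, 4, 15, 9, 12, 11, 10, 13, 17, 8, 19, 14, 18, 16, 20, 21, 22, 5] [11, 23, 22, 17, 15, 20, 12, 13, 14, 3, 21, 4, 16, 1, 8, 9, 5, 18, 10, 6, 7, 0, 2, 19])))))))))))))))))))))))) (.inv (.bad 10)))) (.split 7 128 (.inv (.bad 4)) (.inv (.bad 4))))))))) (.split 4 256 (.oct 758 755 31 (.inv (.split 15 128 (.oct 681 496 32797 (.inv (.oct 442 649 8388762 (.oct 722 748 8421387 (.inv (.oct 506 376 12652545 (.good [1, 0, 3, 2, 8, 23, 18, 15, 4, 13, 19, 21, 16, 9, 17, 7, 12, 14, 6, 10, 22, 11, 20, 5] [16, 9, 15, 11, 5, 6, 18, 10, 4, 13, 7, 1, 23, 20, 8, 17, 12, 22, 21, 14, 3, 0, 2, 19]))))))) (.split 15 1024 (.oct 681 494 32797 (.inv (.oct 504 669 32798 (.oct 743 724 294919 (.inv (.oct 682 697 819203 (.good [1, 0, 3, 2, 8, 9, 17, 16, 4, 5, 15, 23, 19, 21, 22, 10, 7, 6, 20, 12, 18, 13, 14, 11] [0, 1, 12,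 23, 6, 8, 3, 17, 19, 22, 4, 15, 9, 20, 18, 5, 10, 2, 7, 16, 14, 13, 21, 11]))))))) (.oct 681 497 32797 (.oct 504 668 32798 (.inv (.oct 738 730 4198407 (.inv (.oct 589 463 5373961 (.good [1, 0, 3, 2, 8, 21, 22, 19, 4, 11, 16, 9, 15, 23, 18, 12, 10, 20, 14, 7, 17, 5, 6, 13] [0, 1, 15, 11, 14, 5, 22, 6, 7, 20, 23, 13, 16, 17, 18, 9, 12, 3, 21, 19, 2, 4, 8, 10]))))))))))) (.split 4 512 (.oct 758 756 31 (.inv (.split 6 128 (.oct 680 500 93 (.oct 504 672 94 (.inv (.oct 654 413 557077 (.inv (.oct 586 473 8929289 (.good [1, 0, 3, 2, 9, 13, 7, 6, 16, 4, 11, 10, 22, 5, 18, 19, 8, 21, 14, 15, 23, 17, 12, 20] [19, 6, 10, 17, 23, 3, 1, 0, 9, 12, 14, 7, 20, 2, 18, 5, 16, 8, 21, 4, 11, 22, 13, 15]))))))) (.split 6 1024 (.oct 680 494 93 (.oct 504 676 94 (.inv (.oct 478 594 270358 (.inv (.oct 626 433 155653 (.good [1, 0, 3, 2, 9, 15, 10, 22, 17, 4, 6, 12, 11, 18, 19, 5, 23, 8, 13, 14, 21, 20, 7, 16] [9, 16, 15, 11,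 7, 1, 17, 23, 3, 14, 10, 4, 5, 22, 13, 0, 21, 2, 8, 20, 19, 6, 12, 18]))))))) (.oct 680 493 93 (.inv (.oct 614 477 135193 (.oct 738 729 135175 (.inv (.oct 506 377 12718081 (.good [1, 0, 3, 2, 9, 14, 12, 11, 20, 4, 22, 7, 6, 19, 5, 18, 21, 23, 15, 13, 8, 16, 10, 17] [14, 7, 4, 5, 11, 10, 22, 6, 21, 15, 16, 19, 8, 1, 17, 13, 2, 12, 20, 0, 18, 3, 9, 23]))))))))))) (.split 4 1024 (.inv (.oct 758 758 31 (.split 7 128 (.inv (.split 12 1024 (.split 10 16 (.inv (.bad 12)) (.split 10 1024 (.inv (.bad 4)) (.inv (.bad 4)))) (.inv (.split 10 16 (.split 5 32 (.oct 499 675 4142 (.oct 681 501 61 (.inv (.oct 262 155 4751380 (.bad 16))))) (.split 5 64 (.oct 749 728 4135 (.inv (.bad 5))) (.split 5 256 (.oct 663 415 4149 (.inv (.bad 5))) (.split 5 512 (.oct 753 725 55 (.inv (.bad 5))) (.split 5 2048 (.oct 675 490 4141 (.inv (.bad 5))) (.split 5 8192 (.oct 623 456 4153 (.inv (.bad 5))) (.split 5 16384 (.oct 664 419 181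 (.inv (.bad 5))) (.split 5 32768 (.oct 447 629 4154 (.inv (.bad 5))) (.split 5 65536 (.oct 499 673 4142 (.inv (.bad 5))) (.split 5 131072 (.oct 447 628 4154 (.inv (.bad 5))) (.split 5 262144 (.oct 499 667 4142 (.inv (.bad 5))) (.split 5 524288 (.oct 447 642 4154 (.inv (.bad 5))) (.split 5 1048576 (.oct 487 588 4150 (.inv (.bad 5))) (.split 5 2097152 (.oct 487 593 4150 (.inv (.bad 5))) (.split 5 4194304 (.oct 499 668 4142 (.inv (.bad 5))) (.oct 487 591 4150 (.inv (.bad 5)))))))))))))))))) (.inv (.bad 4)))))) (.split 7 1024 (.inv (.split 12 1024 (.split 10 16 (.inv (.bad 7)) (.split 10 128 (.inv (.bad 4)) (.split 10 1024 (.inv (.bad 4)) (.inv (.bad 4))))) (.inv (.split 10 16 (.inv (.bad 7)) (.split 10 128 (.inv (.bad 4)) (.inv (.bad 4))))))) (.inv (.split 10 16 (.inv (.split 12 128 (.split 5 32 (.oct 499 677 4142 (.inv (.oct 754 754 262159 (.oct 478 596 266262 (.oct 309 309 270380 (.oct 150 222 159752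 (.oct 630 424 565253 (.good [1, 0, 3, 2, 10, 5, 22, 12, 16, 11, 4, 9, 7, 13, 14, 19, 8, 17, 18, 15, 20, 21, 6, 23] [22, 17, 18, 8, 13, 3, 6, 9, 23, 21, 15, 16, 14, 2, 4, 20, 11, 1, 12, 19, 10, 7, 5, 0])))))))) (.split 5 64 (.oct 749 730 4135 (.inv (.bad 5))) (.split 5 256 (.oct 475 597 4262 (.inv (.bad 5))) (.split 5 512 (.oct 753 725 55 (.inv (.bad 5))) (.split 5 2048 (.oct 675 495 4141 (.inv (.bad 5))) (.split 5 8192 (.oct 499 671 4142 (.oct 585 359 4273 (.inv (.oct 626 430 1187845 (.inv (.oct 7 69 1417216 (.good [1, 0, 3, 2, 10, 13, 19, 12, 9, 8, 4, 16, 7, 5, 21, 22, 11, 20, 23, 6, 17, 14, 15, 18] [6, 19, 3, 2, 16, 13, 23, 21, 22, 8, 9, 11, 18, 20, 17, 7, 15, 0, 5, 12, 1, 10, 14, 4]))))))) (.split 5 16384 (.oct 499 672 4142 (.oct 749 727 4135 (.inv (.oct 502 676 16414 (.inv (.oct 454 607 2121734 (.good [1, 0, 3, 2, 10, 14, 11, 12, 15, 22, 4, 6, 7, 21, 5, 8, 19, 23, 20, 16, 18, 13, 9, 17] [11, 15,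 8, 22, 21, 0, 5, 3, 16, 10, 18, 4, 2, 14, 1, 9, 6, 13, 23, 19, 12, 7, 17, 20]))))))) (.split 5 32768 (.oct 681 491 61 (.inv (.bad 5))) (.split 5 65536 (.oct 499 670 4142 (.inv (.bad 5))) (.split 5 131072 (.oct 499 670 4142 (.oct 749 730 4135 (.inv (.oct 682 701 401411 (.inv (.oct 7 7 1875968 (.oct 3 49 1785856 (.good [1, 0, 3, 2, 10, 17, 6, 12, 8, 9, 4, 11, 7, 20, 23, 15, 16, 5, 21, 19, 13, 18, 22, 14] [11, 23, 8, 18, 19, 15, 3, 22, 2, 10, 20, 7, 17, 9, 6, 1, 12, 13, 21, 0, 14, 16, 4, 5])))))))) (.split 5 262144 (.oct 757 754 47 (.oct 681 494 61 (.inv (.oct 450 611 1327110 (.oct 506 381 413697 (.inv (.good [1, 0, 3, 2, 10, 18, 16, 12, 22, 15, 4, 19, 7, 23, 20, 9, 6, 21, 5, 11, 14, 17, 8, 13] [5, 4, 8, 22, 15, 16, 12, 10, 14, 3, 11, 21, 17, 0, 20, 2, 23, 19, 9, 18, 13, 6, 7, 1]))))))) (.split 5 524288 (.oct 733 738 171 (.inv (.bad 5))) (.split 5 1048576 (.oct 499 672 4142 (.oct 749 730 4135 (.inv (.oct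 78 61 1191952 (.inv (.oct 7 69 1908736 (.good [1, 0, 3, 2, 10, 20, 15, 12, 11, 16, 4, 8, 7, 17, 18, 6, 9, 13, 14, 22, 5, 23, 19, 21] [10, 17, 18, 21, 4, 8, 6, 2, 23, 14, 5, 12, 3, 15, 13, 19, 7, 11, 20, 16, 22, 0, 9, 1]))))))) (.split 5 2097152 (.oct 499 670 4142 (.inv (.oct 680 494 131101 (.oct 583 340 393265 (.inv (.oct 626 411 57349 (.good [1, 0, 3, 2, 10, 21, 8, 12, 6, 19, 4, 15, 7, 14, 13, 11, 22, 18, 17, 9, 23, 5, 16, 20] [1, 0, 8, 22, 15, 14, 18, 20, 21, 17, 11, 4, 13, 16, 9, 5, 2, 23, 12, 10, 6, 7, 3, 19]))))))) (.split 5 4194304 (.oct 499 670 4142 (.inv (.bad 5))) (.oct 499 671 4142 (.oct 585 349 4273 (.inv (.oct 722 748 8392715 (.inv (.oct 31 50 13705216 (.good [1, 0, 3, 2, 10, 23, 9, 12, 19, 6, 4, 22, 7, 18, 17, 16, 15, 14, 13, 8, 21, 20, 11, 5] [8, 22, 11, 15, 14, 10, 19, 23, 21, 6, 7, 9, 12, 1, 5, 3, 2, 4, 0, 18, 13, 20, 16, 17])))))))))))))))))))))) (.inv (.bad 7)))) (.split 10 1024 (.inv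 (.bad 4)) (.inv (.bad 4))))))))) (.split 4 2048 (.oct 758 756 31 (.inv (.split 6 128 (.oct 680 495 93 (.inv (.oct 288 172 270420 (.inv (.oct 558 340 1318929 (.inv (.oct 506 370 413697 (.good [1, 0, 3, 2, 11, 16, 7, 6, 14, 12, 22, 4, 9, 18, 8, 23, 5, 19, 13, 17, 21, 20, 10, 15] [22, 8, 1, 0, 7, 21, 23, 12, 3, 19, 16, 14, 6, 11, 2, 4, 18, 10, 15, 17, 20, 13, 9, 5])))))))) (.split 6 1024 (.oct 680 492 93 (.inv (.oct 504 669 94 (.oct 750 723 8388631 (.inv (.oct 626 429 204805 (.good [1, 0, 3, 2, 11, 14, 10, 9, 18, 7, 6, 4, 22, 16, 5, 20, 13, 23, 8, 21, 15, 19, 12, 17] [14, 7, 17, 10, 3, 23, 1, 13, 9, 20, 0, 2, 18, 6, 12, 8, 19, 4, 16, 11, 22, 15, 21, 5]))))))) (.oct 680 490 93 (.inv (.oct 673 497 4173 (.oct 754 757 1048591 (.inv (.oct 518 346 1671169 (.good [1, 0, 3, 2, 11, 18, 12, 22, 16, 10, 9, 4, 6, 14, 13, 19, 8, 20, 5, 15, 17, 23, 7, 21] [2, 3, 0, 1, 17, 19, 7, 23, 21, 4, 5, 10, 14, 9, 16, 20, 18,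 8, 6, 13, 22, 11, 12, 15]))))))))))) (.split 4 4096 (.inv (.oct 758 758 31 (.split 7 128 (.inv (.split 10 1024 (.inv (.split 12 16 (.split 5 32 (.oct 499 681 4142 (.inv (.oct 743 733 4194439 (.bad 5)))) (.split 5 64 (.oct 585 399 4273 (.inv (.bad 5))) (.split 5 256 (.oct 663 440 4149 (.inv (.bad 5))) (.split 5 512 (.oct 651 446 4261 (.inv (.bad 5))) (.split 5 2048 (.oct 748 727 167 (.inv (.bad 5))) (.split 5 8192 (.oct 623 478 4153 (.inv (.bad 5))) (.split 5 16384 (.oct 609 483 4265 (.inv (.bad 5))) (.split 5 32768 (.oct 447 654 4154 (.inv (.bad 5))) (.split 5 65536 (.oct 499 678 4142 (.inv (.bad 5))) (.split 5 131072 (.oct 706 714 4259 (.inv (.bad 5))) (.split 5 262144 (.oct 499 678 4142 (.inv (.bad 5))) (.split 5 524288 (.oct 447 654 4154 (.inv (.bad 5))) (.split 5 1048576 (.oct 487 614 4150 (.inv (.bad 5))) (.split 5 2097152 (.oct 487 614 4150 (.inv (.bad 5))) (.split 5 4194304 (.oct 733 743 171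 (.inv (.bad 5))) (.oct 328 298 188 (.inv (.bad 5)))))))))))))))))) (.inv (.bad 4)))) (.split 12 16 (.inv (.bad 10)) (.split 12 1024 (.inv (.bad 4)) (.inv (.bad 4)))))) (.split 7 1024 (.inv (.split 10 128 (.inv (.split 12 16 (.split 5 32 (.oct 499 681 4142 (.inv (.oct 502 668 4194334 (.oct 738 736 4198407 (.inv (.oct 25 31 2932736 (.oct 510 390 1839105 (.good [1, 0, 3, 2, 12, 5, 6, 10, 19, 9, 7, 11, 4, 21, 14, 16, 15, 17, 20, 8, 18, 13, 22, 23] [5, 6, 11, 23, 9, 2, 1, 22, 15, 7, 17, 12, 14, 21, 4, 18, 8, 0, 19, 13, 20, 16, 3, 10])))))))) (.split 5 64 (.oct 499 680 4142 (.oct 487 621 4150 (.oct 623 485 4153 (.inv (.oct 626 416 204805 (.good [1, 0, 3, 2, 12, 6, 5, 10, 20, 14, 7, 23, 4, 16, 9, 21, 13, 22, 19, 18, 8, 15, 17, 11] [21, 18, 0, 1, 13, 7, 14, 3, 11, 23, 2, 4, 20, 6, 12, 16, 19, 17, 8, 22, 15, 9, 10, 5])))))) (.split 5 256 (.oct 663 440 4149 (.inv (.bad 5))) (.split 5 512 (.oct 499 679 4142 (.oct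 447 656 4154 (.oct 623 481 4153 (.inv (.oct 626 424 106501 (.good [1, 0, 3, 2, 12, 9, 14, 10, 18, 5, 7, 17, 4, 15, 6, 13, 21, 11, 8, 20, 19, 16, 23, 22] [20, 13, 15, 11, 8, 21, 3, 0, 9, 18, 1, 4, 22, 7, 2, 14, 23, 5, 16, 19, 6, 12, 17, 10])))))) (.split 5 2048 (.oct 499 678 4142 (.inv (.oct 654 444 20501 (.inv (.oct 738 735 4198407 (.inv (.oct 130 269 667656 (.good [1, 0, 3, 2, 12, 11, 23, 10, 21, 17, 7, 5, 4, 19, 22, 20, 18, 9, 16, 13, 15, 8, 14, 6] [10, 17, 12, 23, 5, 16, 22, 7, 3, 15, 14, 9, 4, 21, 6, 1, 20, 11, 13, 18, 0, 2, 19, 8])))))))) (.split 5 8192 (.oct 623 478 4153 (.inv (.bad 5))) (.split 5 16384 (.oct 499 678 4142 (.oct 487 614 4150 (.inv (.oct 695 704 4341763 (.inv (.oct 330 578 4222978 (.oct 210 183 1323012 (.good [1, 0, 3, 2, 12, 14, 9, 10, 8, 6, 7, 22, 4, 13, 5, 15, 16, 23, 18, 19, 20, 21, 11, 17] [17, 22, 11, 23, 18, 6, 13, 20, 2, 15, 19, 16, 8, 7, 5, 3, 4, 9, 1, 12, 0, 10, 21, 14]))))))))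 (.split 5 32768 (.oct 447 654 4154 (.inv (.bad 5))) (.split 5 65536 (.oct 499 678 4142 (.inv (.bad 5))) (.split 5 131072 (.oct 499 680 4142 (.oct 487 614 4150 (.inv (.oct 504 668 8388638 (.inv (.oct 630 427 565253 (.good [1, 0, 3, 2, 12, 17, 22, 10, 15, 11, 7, 9, 4, 18, 23, 8, 19, 5, 13, 16, 21, 20, 6, 14] [0, 1, 20, 13, 9, 5, 11, 6, 14, 8, 19, 22, 16, 2, 17, 7, 23, 4, 3, 12, 18, 21, 15, 10]))))))) (.split 5 262144 (.oct 499 678 4142 (.inv (.bad 5))) (.split 5 524288 (.oct 447 654 4154 (.inv (.bad 5))) (.split 5 1048576 (.oct 487 614 4150 (.inv (.bad 5))) (.split 5 2097152 (.oct 487 614 4150 (.inv (.bad 5))) (.split 5 4194304 (.oct 757 756 47 (.oct 749 736 4135 (.inv (.oct 722 753 4198411 (.inv (.oct 506 408 413697 (.good [1, 0, 3, 2, 12, 22, 17, 10, 13, 23, 7, 14, 4, 8, 11, 18, 20, 6, 15, 21, 16, 19, 5, 9] [0, 1, 16, 9, 13, 14, 3, 6, 17, 18, 19, 23, 20, 10, 12, 22, 15, 2, 8, 5, 11, 4, 7, 21])))))))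 (.oct 499 679 4142 (.oct 447 654 4154 (.inv (.oct 274 169 8536084 (.inv (.oct 450 607 344070 (.good [1, 0, 3, 2, 12, 23, 11, 10, 16, 22, 7, 6, 4, 20, 17, 19, 8, 14, 21, 15, 13, 18, 9, 5] [20, 13, 0, 1, 4, 15, 7, 17, 3, 23, 10, 14, 5, 9, 8, 18, 2, 22, 6, 21, 16, 19, 12, 11])))))))))))))))))))))) (.inv (.bad 4)))) (.split 10 1024 (.inv (.bad 7)) (.inv (.bad 7))))) (.inv (.split 10 1024 (.inv (.split 12 16 (.inv (.bad 7)) (.split 12 128 (.inv (.bad 4)) (.inv (.bad 4))))) (.split 12 16 (.inv (.bad 7)) (.split 12 128 (.inv (.bad 4)) (.split 12 1024 (.inv (.bad 4)) (.inv (.bad 4))))))))))) (.split 4 8192 (.oct 758 754 31 (.inv (.split 18 128 (.oct 504 671 262174 (.inv (.oct 733 753 8331 (.inv (.oct 558 406 4464657 (.inv (.oct 506 348 348161 (.good [1, 0, 3, 2, 13, 19, 11, 18, 17, 22, 21, 6, 20, 4, 16, 23, 14, 8, 7, 5, 12, 10, 9, 15] [12, 23, 0, 1, 8, 9, 7, 11, 19, 13, 18, 14, 2, 22, 17, 5, 10, 6, 15, 16,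 3, 21, 20, 4])))))))) (.split 18 1024 (.oct 504 676 262174 (.inv (.oct 680 505 8221 (.oct 478 616 270358 (.inv (.oct 506 337 413697 (.good [1, 0, 3, 2, 13, 6, 5, 20, 19, 23, 18, 17, 21, 4, 22, 16, 15, 11, 10, 8, 7, 12, 14, 9] [17, 10, 6, 19, 2, 20, 13, 22, 5, 12, 11, 1, 21, 3, 14, 16, 9, 0, 15, 4, 8, 18, 7, 23]))))))) (.oct 504 668 262174 (.inv (.oct 499 667 266254 (.inv (.oct 330 561 4239362 (.inv (.oct 13 48 446464 (.good [1, 0, 3, 2, 13, 17, 8, 21, 6, 16, 20, 19, 18, 4, 23, 22, 9, 5, 12, 11, 10, 7, 15, 14] [6, 19, 20, 13, 8, 9, 23, 10, 12, 18, 11, 7, 4, 22, 1, 2, 21, 16, 5, 14, 15, 17, 3, 0])))))))))))) (.split 4 16384 (.oct 758 757 31 (.inv (.split 5 128 (.oct 681 498 61 (.inv (.oct 502 678 16414 (.oct 668 503 4210701 (.inv (.oct 682 697 172035 (.good [1, 0, 3, 2, 14, 7, 15, 5, 9, 8, 23, 19, 17, 20, 4, 6, 22, 12, 21, 11, 13, 18, 16, 10] [4, 5, 8, 22, 1, 9, 23, 16, 7, 14, 20, 18, 19, 11, 0, 12, 3,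 6, 17, 21, 15, 10, 2, 13]))))))) (.split 5 1024 (.oct 681 494 61 (.inv (.oct 502 678 16414 (.inv (.oct 754 756 262159 (.inv (.oct 210 157 1351684 (.good [1, 0, 3, 2, 14, 10, 13, 17, 15, 20, 5, 21, 23, 6, 4, 8, 19, 7, 22, 16, 9, 11, 18, 12] [10, 17, 20, 13, 6, 18, 23, 16, 0, 7, 21, 8, 3, 12, 19, 1, 4, 9, 11, 5, 14, 22, 15, 2])))))))) (.oct 681 490 61 (.inv (.oct 728 753 20491 (.oct 722 748 4198411 (.inv (.oct 330 581 118786 (.good [1, 0, 3, 2, 14, 12, 9, 23, 13, 6, 17, 22, 5, 8, 4, 20, 21, 10, 19, 18, 15, 16, 11, 7] [20, 13, 22, 8, 4, 10, 11, 21, 7, 15, 2, 1, 17, 14, 5, 12, 19, 3, 16, 9, 23, 6, 0, 18]))))))))))) (.split 4 32768 (.oct 758 755 31 (.inv (.split 8 128 (.oct 736 743 283 (.inv (.oct 442 649 131226 (.oct 626 445 180229 (.inv (.oct 539 353 1126401 (.good [1, 0, 3, 2, 15, 23, 20, 8, 7, 21, 16, 13, 19, 11, 17, 4, 10, 14, 22, 12, 6, 9, 18, 5] [8, 22, 18, 21, 16, 11, 7, 6, 19, 13, 17, 0, 5, 1, 3,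 9, 10, 2, 12, 4, 14, 20, 23, 15]))))))) (.split 8 1024 (.oct 736 741 283 (.oct 752 731 279 (.inv (.oct 743 734 294919 (.inv (.oct 330 567 118786 (.good [1, 0, 3, 2, 15, 6, 5, 19, 10, 17, 8, 14, 16, 21, 11, 4, 12, 9, 20, 7, 18, 13, 23, 22] [23, 12, 11, 15, 2, 13, 20, 9, 19, 5, 6, 17, 21, 8, 10, 3, 18, 4, 14, 16, 7, 22, 0, 1]))))))) (.oct 736 749 283 (.inv (.oct 722 752 36875 (.oct 738 729 4198407 (.inv (.oct 3 40 1785856 (.good [1, 0, 3, 2, 15, 18, 22, 16, 12, 11, 19, 9, 8, 17, 21, 4, 7, 13, 5, 10, 23, 14, 6, 20] [16, 9, 17, 10, 1, 2, 19, 14, 12, 4, 13, 5, 23, 11, 8, 0, 7, 15, 3, 20, 18, 22, 6, 21]))))))))))) (.split 4 65536 (.oct 758 755 31 (.inv (.split 8 128 (.oct 736 748 283 (.inv (.oct 750 737 65559 (.oct 502 676 4194334 (.inv (.oct 210 176 4239364 (.good [1, 0, 3, 2, 16, 22, 23, 8, 7, 14, 19, 17, 15, 21, 9, 12, 4, 11, 20, 10, 18, 13, 5, 6] [9, 16, 5, 4, 12, 2, 18, 1, 0, 15, 13, 8, 7, 17, 11, 14,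 23, 22, 19, 20, 6, 10, 3, 21]))))))) (.split 8 1024 (.oct 736 745 283 (.inv (.oct 416 665 4260106 (.oct 750 737 65559 (.inv (.oct 586 487 2170889 (.oct 210 180 5283844 (.good [1, 0, 3, 2, 16, 13, 22, 15, 10, 11, 8, 9, 19, 5, 20, 7, 4, 18, 17, 12, 14, 23, 6, 21] [21, 18, 20, 13, 22, 23, 0, 6, 15, 3, 11, 2, 9, 12, 17, 19, 8, 5, 4, 16, 10, 7, 1, 14])))))))) (.oct 736 740 283 (.inv (.oct 750 737 65559 (.oct 738 727 4198407 (.inv (.oct 539 398 3215361 (.good [1, 0, 3, 2, 16, 23, 13, 19, 12, 18, 15, 20, 8, 6, 17, 10, 4, 14, 9, 7, 11, 22, 21, 5] [23, 12, 20, 13, 8, 1, 17, 11, 2, 19, 21, 16, 3, 10, 14, 18, 22, 7, 6, 15, 9, 5, 4, 0]))))))))))) (.split 4 131072 (.oct 758 757 31 (.inv (.split 5 128 (.oct 681 495 61 (.inv (.oct 680 503 131101 (.inv (.oct 290 322 1703948 (.inv (.oct 330 509 577538 (.good [1, 0, 3, 2, 17, 7, 9, 5, 21, 6, 14, 22, 23, 16, 10, 18, 13, 4, 15, 20, 19, 8, 11, 12] [9, 16, 1, 0, 11, 17,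 19, 10, 3, 6, 4, 13, 8, 12, 5, 18, 23, 15, 21, 7, 14, 2, 20, 22])))))))) (.split 5 1024 (.oct 681 491 61 (.inv (.oct 469 620 139302 (.oct 626 444 1187845 (.inv (.oct 338 507 5263362 (.good [1, 0, 3, 2, 17, 10, 16, 23, 11, 19, 5, 8, 14, 20, 12, 22, 6, 4, 21, 9, 13, 18, 15, 7] [17, 10, 9, 16, 3, 21, 20, 22, 14, 0, 18, 7, 11, 4, 15, 23, 13, 2, 19, 1, 5, 6, 12, 8]))))))) (.oct 681 497 61 (.inv (.oct 499 675 4142 (.inv (.oct 130 284 6426632 (.oct 231 181 2633732 (.inv (.good [1, 0, 3, 2, 17, 12, 20, 14, 15, 13, 23, 18, 5, 9, 7, 8, 19, 4, 11, 16, 6, 22, 21, 10] [1, 0, 4, 5, 14, 8, 18, 12, 10, 2, 11, 19, 22, 3, 23, 17, 13, 7, 6, 20, 21, 16, 9, 15])))))))))))) (.split 4 262144 (.oct 758 754 31 (.inv (.split 13 128 (.oct 750 726 8215 (.inv (.oct 680 495 8221 (.oct 558 392 4464657 (.inv (.oct 45 95 1466368 (.good [1, 0, 3, 2, 18, 8, 11, 13, 5, 22, 20, 6, 21, 7, 15, 14, 23, 19, 4, 17, 10, 12, 9, 16] [13, 20, 8,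 22, 14, 18, 0, 23, 21, 11, 16, 1, 6, 12, 10, 17, 4, 3, 7, 2, 9, 19, 15, 5]))))))) (.split 13 1024 (.oct 750 731 8215 (.inv (.oct 736 753 262171 (.oct 558 409 4464657 (.inv (.oct 330 555 552962 (.good [1, 0, 3, 2, 18, 22, 14, 21, 19, 17, 13, 23, 20, 10, 6, 16, 15, 9, 4, 8, 12, 7, 5, 11] [2, 3, 0, 1, 14, 9, 8, 17, 13, 19, 5, 15, 23, 4, 22, 21, 18, 6, 7, 20, 12, 10, 16, 11]))))))) (.oct 750 728 8215 (.inv (.oct 749 723 12295 (.inv (.oct 296 329 335884 (.inv (.oct 13 120 446464 (.good [1, 0, 3, 2, 18, 17, 16, 20, 9, 8, 21, 15, 13, 12, 23, 11, 6, 5, 4, 22, 7, 10, 19, 14] [1, 0, 10, 17, 6, 4, 23, 2, 8, 22, 16, 7, 18, 21, 13, 14, 12, 5, 19, 15, 3, 9, 11, 20])))))))))))) (.split 4 524288 (.oct 758 755 31 (.inv (.split 8 128 (.oct 736 746 283 (.inv (.oct 733 752 524427 (.oct 738 737 4718599 (.inv (.oct 3 125 1785856 (.good [1, 0, 3, 2, 19, 20, 22, 8, 7, 11, 15, 9, 16, 14, 13, 10, 12, 21, 23, 4, 5, 17, 6, 18]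 [3, 2, 6, 19, 10, 23, 18, 20, 13, 9, 5, 16, 1, 15, 11, 4, 0, 8, 7, 17, 12, 22, 21, 14]))))))) (.split 8 1024 (.oct 736 739 283 (.oct 752 725 279 (.inv (.oct 738 735 655367 (.inv (.oct 506 372 217089 (.good [1, 0, 3, 2, 19, 23, 21, 16, 10, 20, 8, 18, 15, 22, 17, 12, 7, 14, 11, 4, 9, 6, 13, 5] [6, 19, 23, 12, 10, 14, 11, 4, 18, 0, 21, 13, 3, 8, 9, 2, 5, 16, 20, 17, 1, 15, 22, 7]))))))) (.oct 736 738 283 (.inv (.oct 487 594 1052694 (.oct 450 620 1835014 (.inv (.oct 142 239 1097864 (.good [1, 0, 3, 2, 19, 11, 14, 15, 12, 23, 16, 5, 8, 21, 6, 7, 10, 22, 20, 4, 18, 13, 17, 9] [23, 12, 9, 16, 5, 8, 20, 3, 10, 11, 21, 22, 17, 14, 13, 2, 18, 0, 19, 4, 6, 7, 1, 15]))))))))))) (.split 4 1048576 (.oct 758 754 31 (.inv (.split 13 128 (.oct 750 730 8215 (.inv (.oct 733 744 8331 (.inv (.oct 626 443 1187845 (.oct 539 392 5316609 (.inv (.good [1, 0, 3, 2, 20, 9, 23, 13, 19, 5, 21, 14, 18, 7, 11, 16, 15, 22, 12, 8, 4,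 10, 17, 6] [22, 8, 6, 19, 2, 7, 4, 13, 16, 14, 1, 17, 18, 20, 10, 15, 11, 23, 21, 9, 3, 0, 12, 5])))))))) (.split 13 1024 (.oct 750 724 8215 (.oct 680 501 8221 (.inv (.oct 682 709 8527875 (.inv (.oct 7 109 1875968 (.good [1, 0, 3, 2, 20, 17, 19, 18, 11, 15, 13, 8, 21, 10, 23, 9, 22, 5, 7, 6, 4, 12, 16, 14] [11, 15, 6, 19, 14, 22, 3, 5, 18, 13, 12, 21, 10, 23, 9, 20, 0, 8, 4, 2, 7, 17, 1, 16]))))))) (.oct 750 732 8215 (.inv (.oct 738 735 1052679 (.oct 210 189 5255172 (.inv (.oct 25 24 2932736 (.good [1, 0, 3, 2, 20, 16, 11, 21, 23, 22, 18, 6, 13, 12, 19, 17, 5, 15, 10, 14, 4, 7, 9, 8] [18, 21, 23, 12, 13, 15, 14, 1, 5, 3, 16, 7, 6, 19, 17, 22, 11, 8, 9, 10, 20, 0, 2, 4]))))))))))) (.split 4 2097152 (.oct 758 754 31 (.inv (.split 13 128 (.oct 750 727 8215 (.inv (.oct 737 751 2097179 (.oct 586 483 2170889 (.oct 506 369 12664833 (.inv (.good [1, 0, 3, 2, 21, 17, 15, 13, 22, 19, 18, 16, 20, 7, 23, 6, 11,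 5, 10, 9, 12, 4, 8, 14] [6, 19, 1, 0, 17, 20, 14, 8, 2, 18, 5, 12, 11, 22, 9, 7, 23, 13, 4, 21, 15, 10, 3, 16]))))))) (.split 13 1024 (.oct 750 725 8215 (.inv (.oct 737 751 2097179 (.inv (.oct 626 434 204805 (.inv (.oct 330 546 61442 (.good [1, 0, 3, 2, 21, 15, 11, 20, 14, 22, 13, 6, 18, 10, 8, 5, 17, 16, 12, 23, 7, 4, 9, 19] [23, 12, 22, 8, 20, 3, 11, 0, 16, 14, 10, 15, 4, 17, 9, 2, 21, 18, 5, 19, 1, 13, 7, 6])))))))) (.oct 750 722 8215 (.inv (.oct 469 621 2170886 (.oct 330 515 110594 (.oct 506 360 4280321 (.inv (.good [1, 0, 3, 2, 21, 11, 17, 18, 19, 14, 20, 5, 13, 12, 9, 16, 15, 6, 7, 8, 10, 4, 23, 22] [18, 21, 6, 19, 7, 1, 13, 8, 2, 10, 11, 0, 12, 23, 17, 16, 9, 20, 22, 3, 15, 14, 5, 4]))))))))))) (.split 4 4194304 (.oct 758 756 31 (.inv (.split 6 128 (.oct 680 496 93 (.inv (.oct 502 681 4194334 (.inv (.oct 754 755 1048591 (.inv (.oct 510 333 3932161 (.good [1, 0, 3, 2, 22, 14, 7, 6, 13, 10, 9,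 12, 11, 8, 5, 21, 18, 23, 16, 20, 19, 15, 4, 17] [14, 7, 13, 20, 16, 12, 4, 5, 15, 17, 10, 6, 19, 11, 23, 3, 22, 1, 8, 21, 18, 2, 9, 0])))))))) (.split 6 1024 (.oct 680 491 93 (.inv (.oct 462 624 4227142 (.oct 738 735 4718599 (.inv (.oct 605 454 1703945 (.good [1, 0, 3, 2, 22, 21, 10, 11, 16, 12, 6, 7, 9, 17, 20, 19, 8, 13, 23, 15, 14, 5, 4, 18] [4, 5, 2, 3, 9, 20, 19, 12, 18, 7, 6, 23, 14, 11, 0, 17, 21, 15, 8, 10, 1, 13, 16, 22]))))))) (.oct 680 499 93 (.inv (.oct 502 681 4194334 (.inv (.oct 722 752 4198411 (.oct 13 68 1626112 (.inv (.good [1, 0, 3, 2, 22, 19, 12, 9, 23, 7, 11, 10, 6, 18, 15, 14, 17, 16, 13, 5, 21, 20, 4, 8] [7, 14, 10, 17, 8, 18, 6, 11, 20, 15, 9, 16, 19, 4, 3, 2, 1, 0, 5, 21, 12, 23, 22, 13])))))))))))) (.oct 758 757 31 (.inv (.split 5 128 (.oct 681 496 61 (.inv (.oct 645 446 8421413 (.oct 722 752 8421387 (.inv (.oct 330 512 4247554 (.good [1, 0, 3, 2, 23, 7, 21, 5, 15, 18, 17,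 13, 14, 11, 12, 8, 19, 10, 9, 16, 22, 6, 20, 4] [12, 23, 17, 10, 18, 2, 16, 3, 14, 6, 20, 11, 1, 15, 0, 7, 4, 13, 19, 5, 22, 9, 8, 21]))))))) (.split 5 1024 (.oct 681 492 61 (.inv (.oct 504 679 8388638 (.inv (.oct 290 318 10518540 (.inv (.oct 7 7 1679360 (.good [1, 0, 3, 2, 23, 10, 9, 14, 18, 6, 5, 22, 17, 19, 7, 21, 20, 12, 8, 13, 16, 15, 11, 4] [19, 6, 8, 22, 12, 5, 9, 17, 2, 16, 4, 11, 14, 20, 10, 18, 1, 7, 3, 13, 0, 21, 15, 23])))))))) (.oct 681 493 61 (.inv (.oct 499 675 4142 (.inv (.oct 423 660 13107210 (.inv (.oct 330 544 610306 (.good [1, 0, 3, 2, 23, 12, 8, 17, 6, 15, 14, 16, 5, 20, 10, 9, 11, 7, 21, 22, 13, 18, 19, 4] [11, 15, 12, 23, 20, 4, 2, 17, 3, 21, 0, 9, 5, 7, 1, 18, 16, 10, 22, 19, 14, 8, 6, 13]))))))))))))))))))))))))))))))))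

def tree3 : Tr := (.cub (.split 4 8 (.cub (.bad 3)) (.split 4 16 (.cub (.bad 3)) (.split 4 32 (.oct 758 753 31 (.cub (.split 7 16 (.cub (.split 10 16 (.cub (.split 12 16 (.cub (.bad 9)) (.split 12 32 (.cub (.bad 9)) (.split 12 512 (.cub (.bad 18)) (.split 12 262144 (.cub (.bad 9)) (.cub (.bad 9))))))) (.split 10 32 (.cub (.split 12 16 (.cub (.bad 9)) (.split 12 32 (.cub (.bad 9)) (.split 12 512 (.cub (.bad 18)) (.split 12 262144 (.cub (.bad 9)) (.cub (.bad 9))))))) (.split 10 512 (.cub (.split 12 16 (.cub (.bad 18)) (.split 12 32 (.cub (.bad 18)) (.split 12 512 (.cub (.bad 18)) (.split 12 262144 (.cub (.bad 19)) (.cub (.bad 18))))))) (.split 10 262144 (.cub (.split 12 16 (.cub (.bad 9)) (.split 12 32 (.cub (.bad 9)) (.split 12 512 (.cub (.bad 19)) (.split 12 262144 (.cub (.bad 9)) (.cub (.bad 9))))))) (.cub (.split 12 16 (.cub (.bad 9)) (.split 12 32 (.cub (.bad 9)) (.split 12 512 (.cub (.bad 18))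 (.split 12 262144 (.cub (.bad 9)) (.cub (.bad 9)))))))))))) (.split 7 32 (.cub (.split 10 16 (.cub (.split 12 16 (.cub (.bad 9)) (.split 12 32 (.cub (.bad 9)) (.split 12 512 (.cub (.bad 18)) (.split 12 262144 (.cub (.bad 9)) (.cub (.bad 9))))))) (.split 10 32 (.cub (.split 12 16 (.cub (.bad 9)) (.split 12 32 (.cub (.bad 9)) (.split 12 512 (.cub (.bad 18)) (.split 12 262144 (.cub (.bad 9)) (.cub (.bad 9))))))) (.split 10 512 (.cub (.split 12 16 (.cub (.bad 18)) (.split 12 32 (.cub (.bad 18)) (.split 12 512 (.cub (.bad 18)) (.split 12 262144 (.cub (.bad 19)) (.cub (.bad 18))))))) (.split 10 262144 (.cub (.split 12 16 (.cub (.bad 9)) (.split 12 32 (.cub (.bad 9)) (.split 12 512 (.cub (.bad 19)) (.split 12 262144 (.cub (.bad 9)) (.cub (.bad 9))))))) (.cub (.split 12 16 (.cub (.bad 9)) (.split 12 32 (.cub (.bad 9)) (.split 12 512 (.cub (.bad 18)) (.split 12 262144 (.cub (.bad 9)) (.cub (.bad 9))))))))))))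 (.split 7 512 (.cub (.split 10 16 (.cub (.split 12 16 (.cub (.bad 18)) (.split 12 32 (.cub (.bad 18)) (.split 12 512 (.cub (.bad 18)) (.split 12 262144 (.cub (.bad 19)) (.cub (.bad 18))))))) (.split 10 32 (.cub (.split 12 16 (.cub (.bad 18)) (.split 12 32 (.cub (.bad 18)) (.split 12 512 (.cub (.bad 18)) (.split 12 262144 (.cub (.bad 19)) (.cub (.bad 18))))))) (.split 10 512 (.cub (.split 12 16 (.cub (.bad 18)) (.split 12 32 (.cub (.bad 18)) (.split 12 512 (.cub (.bad 18)) (.split 12 262144 (.cub (.bad 19)) (.cub (.bad 18))))))) (.split 10 262144 (.cub (.split 12 16 (.cub (.bad 19)) (.split 12 32 (.cub (.bad 19)) (.split 12 512 (.cub (.bad 19)) (.split 12 262144 (.cub (.bad 19)) (.cub (.oct 681 737 61 (.cub (.oct 623 447 4153 (.oct 743 744 262279 (.bad 15))))))))))) (.cub (.split 12 16 (.cub (.bad 18)) (.split 12 32 (.cub (.bad 18)) (.split 12 512 (.cub (.bad 18)) (.split 12 262144 (.cub (.oct 681 737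 61 (.cub (.oct 623 449 4153 (.oct 484 649 262294 (.cub (.oct 510 362 1839105 (.cub (.good [1, 2, 0, 4, 5, 3, 13, 9, 15, 23, 19, 22, 18, 20, 12, 21, 11, 10, 14, 17, 6, 8, 16, 7] [2, 0, 1, 15, 21, 8, 20, 17, 18, 10, 11, 9, 4, 6, 3, 14, 7, 16, 5, 22, 13, 12, 23, 19]))))))))) (.cub (.bad 18)))))))))))) (.split 7 262144 (.cub (.split 10 16 (.cub (.split 12 16 (.cub (.bad 9)) (.split 12 32 (.cub (.bad 9)) (.split 12 512 (.cub (.bad 19)) (.split 12 262144 (.cub (.bad 9)) (.cub (.bad 9))))))) (.split 10 32 (.cub (.split 12 16 (.cub (.bad 9)) (.split 12 32 (.cub (.bad 9)) (.split 12 512 (.cub (.bad 19)) (.split 12 262144 (.cub (.bad 9)) (.cub (.bad 9))))))) (.split 10 512 (.cub (.split 12 16 (.cub (.bad 19)) (.split 12 32 (.cub (.bad 19)) (.split 12 512 (.cub (.bad 19)) (.split 12 262144 (.cub (.bad 19)) (.cub (.oct 681 737 61 (.cub (.oct 623 447 4153 (.oct 661 708 266261 (.cub (.oct 50 143 426528 (.cub (.good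 [1, 2, 0, 4, 5, 3, 8, 18, 22, 14, 9, 20, 19, 15, 10, 16, 13, 7, 17, 23, 21, 11, 6, 12] [3, 4, 5, 18, 14, 12, 22, 1, 16, 6, 20, 19, 7, 21, 13, 8, 15, 0, 2, 9, 17, 10, 11, 23])))))))))))))) (.split 10 262144 (.cub (.split 12 16 (.cub (.bad 9)) (.split 12 32 (.cub (.bad 9)) (.split 12 512 (.cub (.bad 19)) (.split 12 262144 (.cub (.bad 9)) (.cub (.bad 9))))))) (.cub (.split 12 16 (.cub (.bad 9)) (.split 12 32 (.cub (.bad 9)) (.split 12 512 (.cub (.oct 681 737 61 (.oct 623 448 4153 (.cub (.bad 7))))) (.split 12 262144 (.cub (.bad 9)) (.cub (.bad 9)))))))))))) (.cub (.split 10 16 (.cub (.split 12 16 (.cub (.bad 9)) (.split 12 32 (.cub (.bad 9)) (.split 12 512 (.cub (.bad 18)) (.split 12 262144 (.cub (.bad 9)) (.cub (.bad 9))))))) (.split 10 32 (.cub (.split 12 16 (.cub (.bad 9)) (.split 12 32 (.cub (.bad 9)) (.split 12 512 (.cub (.bad 18)) (.split 12 262144 (.cub (.bad 9)) (.cub (.bad 9))))))) (.split 10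 512 (.cub (.split 12 16 (.cub (.bad 18)) (.split 12 32 (.cub (.bad 18)) (.split 12 512 (.cub (.bad 18)) (.split 12 262144 (.cub (.oct 681 737 61 (.cub (.oct 623 449 4153 (.oct 595 389 266377 (.bad 20)))))) (.cub (.bad 18))))))) (.split 10 262144 (.cub (.split 12 16 (.cub (.bad 9)) (.split 12 32 (.cub (.bad 9)) (.split 12 512 (.cub (.oct 681 737 61 (.oct 623 448 4153 (.cub (.oct 200 118 266392 (.oct 141 88 8914440 (.cub (.good [1, 2, 0, 4, 5, 3, 11, 19, 20, 17, 18, 15, 9, 22, 7, 6, 8, 12, 23, 14, 16, 13, 21, 10] [16, 11, 22, 13, 20, 6, 12, 2, 9, 4, 19, 18, 3, 21, 1, 14, 7, 5, 17, 0, 23, 15, 8, 10])))))))) (.split 12 262144 (.cub (.bad 9)) (.cub (.bad 9))))))) (.cub (.split 12 16 (.cub (.bad 9)) (.split 12 32 (.cub (.bad 9)) (.split 12 512 (.cub (.bad 18)) (.split 12 262144 (.cub (.bad 9)) (.cub (.bad 9)))))))))))))))))) (.split 4 64 (.oct 758 752 31 (.cub (.split 7 16 (.cub (.split 10 16 (.cub (.split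 12 16 (.cub (.bad 8)) (.split 12 64 (.cub (.bad 8)) (.split 12 256 (.cub (.bad 14)) (.split 12 16384 (.cub (.bad 8)) (.cub (.bad 8))))))) (.split 10 64 (.cub (.split 12 16 (.cub (.bad 8)) (.split 12 64 (.cub (.bad 8)) (.split 12 256 (.cub (.bad 14)) (.split 12 16384 (.cub (.bad 8)) (.cub (.bad 8))))))) (.split 10 256 (.cub (.split 12 16 (.cub (.bad 14)) (.split 12 64 (.cub (.bad 14)) (.split 12 256 (.cub (.bad 14)) (.split 12 16384 (.cub (.bad 20)) (.cub (.bad 14))))))) (.split 10 16384 (.cub (.split 12 16 (.cub (.bad 8)) (.split 12 64 (.cub (.bad 8)) (.split 12 256 (.cub (.bad 20)) (.split 12 16384 (.cub (.bad 8)) (.cub (.bad 8))))))) (.cub (.split 12 16 (.cub (.bad 8)) (.split 12 64 (.cub (.bad 8)) (.split 12 256 (.cub (.bad 14)) (.split 12 16384 (.cub (.bad 8)) (.cub (.bad 8)))))))))))) (.split 7 64 (.cub (.split 10 16 (.cub (.split 12 16 (.cub (.bad 8)) (.split 12 64 (.cub (.bad 8)) (.split 12 256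 (.cub (.bad 14)) (.split 12 16384 (.cub (.bad 8)) (.cub (.bad 8))))))) (.split 10 64 (.cub (.split 12 16 (.cub (.bad 8)) (.split 12 64 (.cub (.bad 8)) (.split 12 256 (.cub (.bad 14)) (.split 12 16384 (.cub (.bad 8)) (.cub (.bad 8))))))) (.split 10 256 (.cub (.split 12 16 (.cub (.bad 14)) (.split 12 64 (.cub (.bad 14)) (.split 12 256 (.cub (.bad 14)) (.split 12 16384 (.cub (.bad 20)) (.cub (.bad 14))))))) (.split 10 16384 (.cub (.split 12 16 (.cub (.bad 8)) (.split 12 64 (.cub (.bad 8)) (.split 12 256 (.cub (.bad 20)) (.split 12 16384 (.cub (.bad 8)) (.cub (.bad 8))))))) (.cub (.split 12 16 (.cub (.bad 8)) (.split 12 64 (.cub (.bad 8)) (.split 12 256 (.cub (.bad 14)) (.split 12 16384 (.cub (.bad 8)) (.cub (.bad 8)))))))))))) (.split 7 256 (.cub (.split 10 16 (.cub (.split 12 16 (.cub (.bad 14)) (.split 12 64 (.cub (.bad 14)) (.split 12 256 (.cub (.bad 14)) (.split 12 16384 (.cub (.bad 20)) (.cub (.bad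 14))))))) (.split 10 64 (.cub (.split 12 16 (.cub (.bad 14)) (.split 12 64 (.cub (.bad 14)) (.split 12 256 (.cub (.bad 14)) (.split 12 16384 (.cub (.bad 20)) (.cub (.bad 14))))))) (.split 10 256 (.cub (.split 12 16 (.cub (.bad 14)) (.split 12 64 (.cub (.bad 14)) (.split 12 256 (.cub (.bad 14)) (.split 12 16384 (.cub (.bad 20)) (.cub (.bad 14))))))) (.split 10 16384 (.cub (.split 12 16 (.cub (.bad 20)) (.split 12 64 (.cub (.bad 20)) (.split 12 256 (.cub (.bad 20)) (.split 12 16384 (.cub (.bad 20)) (.cub (.oct 680 737 93 (.oct 673 734 4173 (.cub (.oct 618 397 524441 (.oct 654 698 528405 (.cub (.oct 506 374 217089 (.good [1, 2, 0, 4, 6, 18, 3, 8, 22, 10, 14, 12, 20, 21, 9, 13, 23, 5, 17, 16, 11, 15, 7, 19] [8, 15, 21, 0, 1, 3, 2, 9, 23, 20, 6, 12, 18, 22, 13, 11, 19, 5, 4, 10, 14, 16, 7, 17])))))))))))))) (.cub (.split 12 16 (.cub (.bad 14)) (.split 12 64 (.cub (.bad 14)) (.split 12 256 (.cub (.bad 14))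 (.split 12 16384 (.cub (.oct 680 737 93 (.cub (.oct 673 735 4173 (.oct 467 668 4294 (.bad 20)))))) (.cub (.bad 14)))))))))))) (.split 7 16384 (.cub (.split 10 16 (.cub (.split 12 16 (.cub (.bad 8)) (.split 12 64 (.cub (.bad 8)) (.split 12 256 (.cub (.bad 20)) (.split 12 16384 (.cub (.bad 8)) (.cub (.bad 8))))))) (.split 10 64 (.cub (.split 12 16 (.cub (.bad 8)) (.split 12 64 (.cub (.bad 8)) (.split 12 256 (.cub (.bad 20)) (.split 12 16384 (.cub (.bad 8)) (.cub (.bad 8))))))) (.split 10 256 (.cub (.split 12 16 (.cub (.bad 20)) (.split 12 64 (.cub (.bad 20)) (.split 12 256 (.cub (.bad 20)) (.split 12 16384 (.cub (.bad 20)) (.cub (.oct 680 737 93 (.oct 673 734 4173 (.cub (.oct 693 450 528515 (.bad 11))))))))))) (.split 10 16384 (.cub (.split 12 16 (.cub (.bad 8)) (.split 12 64 (.cub (.bad 8)) (.split 12 256 (.cub (.bad 20)) (.split 12 16384 (.cub (.bad 8)) (.cub (.bad 8))))))) (.cub (.split 12 16 (.cub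 (.bad 8)) (.split 12 64 (.cub (.bad 8)) (.split 12 256 (.cub (.oct 680 737 93 (.oct 673 736 4173 (.oct 749 755 4167 (.cub (.oct 111 72 2625584 (.cub (.oct 7 49 368896 (.good [1, 2, 0, 4, 6, 15, 3, 14, 9, 12, 20, 7, 8, 16, 11, 19, 18, 21, 13, 5, 22, 23, 10, 17] [23, 7, 9, 21, 8, 3, 15, 10, 18, 14, 1, 17, 12, 20, 19, 4, 6, 22, 13, 5, 2, 16, 0, 11]))))))))) (.split 12 16384 (.cub (.bad 8)) (.cub (.bad 8)))))))))))) (.cub (.split 10 16 (.cub (.split 12 16 (.cub (.bad 8)) (.split 12 64 (.cub (.bad 8)) (.split 12 256 (.cub (.bad 14)) (.split 12 16384 (.cub (.bad 8)) (.cub (.bad 8))))))) (.split 10 64 (.cub (.split 12 16 (.cub (.bad 8)) (.split 12 64 (.cub (.bad 8)) (.split 12 256 (.cub (.bad 14)) (.split 12 16384 (.cub (.bad 8)) (.cub (.bad 8))))))) (.split 10 256 (.cub (.split 12 16 (.cub (.bad 14)) (.split 12 64 (.cub (.bad 14)) (.split 12 256 (.cub (.bad 14)) (.split 12 16384 (.cub (.oct 680 737 93 (.oct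 673 735 4173 (.cub (.oct 728 502 4171 (.oct 454 646 24838 (.cub (.good [1, 2, 0, 4, 6, 23, 3, 20, 11, 7, 8, 10, 14, 5, 22, 17, 15, 16, 19, 21, 9, 18, 12, 13] [6, 13, 20, 11, 22, 5, 16, 21, 23, 15, 9, 7, 18, 4, 14, 2, 1, 0, 19, 17, 8, 10, 12, 3])))))))) (.cub (.bad 14))))))) (.split 10 16384 (.cub (.split 12 16 (.cub (.bad 8)) (.split 12 64 (.cub (.bad 8)) (.split 12 256 (.cub (.oct 680 737 93 (.cub (.oct 673 736 4173 (.oct 662 730 213 (.bad 16)))))) (.split 12 16384 (.cub (.bad 8)) (.cub (.bad 8))))))) (.cub (.split 12 16 (.cub (.bad 8)) (.split 12 64 (.cub (.bad 8)) (.split 12 256 (.cub (.bad 14)) (.split 12 16384 (.cub (.bad 8)) (.cub (.bad 8)))))))))))))))))) (.split 4 128 (.cub (.oct 758 758 31 (.split 10 16 (.cub (.split 12 16 (.split 7 8 (.cub (.bad 10)) (.split 7 16 (.cub (.bad 3)) (.split 7 128 (.cub (.bad 3)) (.split 7 1024 (.cub (.bad 3)) (.cub (.bad 3)))))) (.split 12 128 (.split 7 8 (.cub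 (.bad 10)) (.split 7 16 (.cub (.bad 3)) (.split 7 128 (.cub (.bad 3)) (.split 7 1024 (.cub (.bad 3)) (.cub (.bad 3)))))) (.cub (.split 7 8 (.cub (.bad 10)) (.split 7 16 (.cub (.bad 3)) (.split 7 128 (.cub (.bad 3)) (.cub (.bad 3))))))))) (.split 10 128 (.split 12 16 (.split 7 8 (.cub (.bad 10)) (.split 7 16 (.cub (.bad 3)) (.split 7 128 (.cub (.bad 3)) (.split 7 1024 (.cub (.bad 3)) (.cub (.bad 3)))))) (.split 12 128 (.split 7 8 (.cub (.bad 10)) (.split 7 16 (.cub (.bad 3)) (.split 7 128 (.cub (.bad 3)) (.split 7 1024 (.cub (.bad 3)) (.cub (.bad 3)))))) (.split 12 1024 (.split 7 8 (.cub (.bad 10)) (.split 7 16 (.cub (.bad 3)) (.split 7 128 (.cub (.bad 3)) (.split 7 1024 (.cub (.bad 3)) (.cub (.bad 3)))))) (.cub (.split 7 8 (.cub (.bad 10)) (.split 7 16 (.cub (.bad 3)) (.split 7 128 (.cub (.bad 3)) (.cub (.bad 3))))))))) (.split 10 1024 (.cub (.split 12 16 (.split 7 8 (.cub (.bad 12)) (.split 7 16 (.cub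 (.bad 3)) (.split 7 128 (.cub (.bad 3)) (.cub (.bad 3))))) (.split 12 128 (.split 7 8 (.cub (.bad 12)) (.split 7 16 (.cub (.bad 3)) (.split 7 128 (.cub (.bad 3)) (.cub (.bad 3))))) (.cub (.split 7 8 (.split 5 32 (.oct 499 663 4142 (.oct 757 753 47 (.oct 749 749 4135 (.oct 206 206 4280 (.cub (.oct 157 104 4460808 (.cub (.oct 130 87 921608 (.good [1, 2, 0, 4, 7, 5, 6, 3, 21, 20, 10, 14, 12, 13, 19, 15, 17, 18, 16, 11, 23, 22, 8, 9] [6, 21, 16, 20, 15, 5, 3, 22, 7, 13, 2, 17, 1, 4, 23, 0, 18, 19, 9, 14, 8, 12, 10, 11]))))))))) (.split 5 64 (.oct 499 661 4142 (.oct 757 752 47 (.cub (.oct 737 489 59 (.bad 6))))) (.split 5 256 (.oct 499 663 4142 (.oct 757 752 47 (.cub (.oct 418 318 69770 (.cub (.oct 680 718 131101 (.cub (.good [1, 2, 0, 4, 7, 8, 18, 3, 22, 9, 10, 19, 12, 11, 14, 23, 16, 6, 17, 13, 15, 21, 5, 20] [12, 10, 7, 19, 9, 14, 20, 18, 17, 2, 5, 11, 3, 8, 0, 6, 1, 22, 15, 13, 16, 4, 23, 21]))))))))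 (.split 5 512 (.oct 499 656 4142 (.cub (.oct 623 406 4153 (.bad 13)))) (.split 5 2048 (.oct 499 656 4142 (.cub (.oct 753 748 55 (.bad 9)))) (.split 5 8192 (.oct 499 656 4142 (.cub (.oct 623 406 4153 (.bad 13)))) (.split 5 16384 (.oct 499 654 4142 (.cub (.oct 753 743 55 (.bad 19)))) (.split 5 32768 (.oct 499 654 4142 (.cub (.oct 753 743 55 (.bad 19)))) (.split 5 65536 (.oct 499 663 4142 (.oct 757 750 47 (.cub (.bad 5)))) (.split 5 131072 (.oct 499 663 4142 (.oct 757 751 47 (.cub (.bad 5)))) (.split 5 262144 (.oct 499 661 4142 (.oct 487 634 4150 (.cub (.oct 399 301 2101394 (.bad 6))))) (.split 5 524288 (.oct 499 654 4142 (.cub (.oct 623 391 4153 (.bad 23)))) (.split 5 1048576 (.oct 499 656 4142 (.cub (.oct 753 748 55 (.bad 9)))) (.split 5 2097152 (.oct 499 661 4142 (.oct 757 751 47 (.oct 447 273 4154 (.cub (.oct 322 585 528412 (.cub (.oct 330 214 626690 (.good [1, 2, 0, 4, 7, 21, 16, 3, 5, 23, 10, 13,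 12, 14, 11, 9, 18, 17, 6, 19, 20, 8, 22, 15] [21, 16, 6, 14, 17, 22, 19, 23, 15, 8, 2, 10, 4, 7, 12, 13, 9, 3, 18, 5, 0, 20, 1, 11])))))))) (.split 5 4194304 (.oct 499 661 4142 (.oct 749 738 4135 (.cub (.oct 496 679 4194446 (.cub (.oct 558 345 5505041 (.oct 565 348 1573393 (.good [1, 2, 0, 4, 7, 22, 17, 3, 8, 15, 10, 11, 12, 19, 13, 20, 6, 16, 18, 14, 9, 5, 21, 23] [7, 12, 10, 21, 16, 18, 22, 6, 3, 14, 5, 0, 2, 8, 13, 17, 15, 20, 1, 11, 23, 9, 19, 4])))))))) (.oct 499 654 4142 (.cub (.oct 623 391 4153 (.bad 23))))))))))))))))))) (.split 7 16 (.cub (.bad 3)) (.cub (.bad 3)))))))) (.split 12 16 (.cub (.bad 10)) (.split 12 128 (.split 7 8 (.cub (.bad 10)) (.split 7 16 (.cub (.bad 3)) (.split 7 128 (.cub (.bad 3)) (.split 7 1024 (.cub (.bad 3)) (.cub (.bad 3)))))) (.split 12 1024 (.cub (.bad 10)) (.cub (.bad 10)))))))))) (.split 4 256 (.oct 758 752 31 (.cub (.split 7 16 (.cub (.split 10 16 (.cub (.split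 12 16 (.cub (.bad 6)) (.split 12 64 (.cub (.bad 14)) (.split 12 256 (.cub (.bad 6)) (.split 12 16384 (.cub (.bad 6)) (.cub (.bad 6))))))) (.split 10 64 (.cub (.split 12 16 (.cub (.bad 14)) (.split 12 64 (.cub (.bad 14)) (.split 12 256 (.cub (.bad 14)) (.split 12 16384 (.cub (.bad 20)) (.cub (.bad 14))))))) (.split 10 256 (.cub (.split 12 16 (.cub (.bad 6)) (.split 12 64 (.cub (.bad 14)) (.split 12 256 (.cub (.bad 6)) (.split 12 16384 (.cub (.bad 6)) (.cub (.bad 6))))))) (.split 10 16384 (.cub (.split 12 16 (.cub (.bad 6)) (.split 12 64 (.cub (.bad 20)) (.split 12 256 (.cub (.bad 6)) (.split 12 16384 (.cub (.bad 6)) (.cub (.bad 6))))))) (.cub (.split 12 16 (.cub (.bad 6)) (.split 12 64 (.cub (.bad 14)) (.split 12 256 (.cub (.bad 6)) (.split 12 16384 (.cub (.bad 6)) (.cub (.bad 6)))))))))))) (.split 7 64 (.cub (.split 10 16 (.cub (.split 12 16 (.cub (.bad 14)) (.split 12 64 (.cub (.bad 14)) (.split 12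 256 (.cub (.bad 14)) (.split 12 16384 (.cub (.bad 20)) (.cub (.bad 14))))))) (.split 10 64 (.cub (.split 12 16 (.cub (.bad 14)) (.split 12 64 (.cub (.bad 14)) (.split 12 256 (.cub (.bad 14)) (.split 12 16384 (.cub (.bad 20)) (.cub (.bad 14))))))) (.split 10 256 (.cub (.split 12 16 (.cub (.bad 14)) (.split 12 64 (.cub (.bad 14)) (.split 12 256 (.cub (.bad 14)) (.split 12 16384 (.cub (.bad 20)) (.cub (.bad 14))))))) (.split 10 16384 (.cub (.split 12 16 (.cub (.bad 20)) (.split 12 64 (.cub (.bad 20)) (.split 12 256 (.cub (.bad 20)) (.split 12 16384 (.cub (.bad 20)) (.cub (.oct 736 505 283 (.cub (.oct 712 496 4371 (.oct 323 575 8348 (.bad 18))))))))))) (.cub (.split 12 16 (.cub (.bad 14)) (.split 12 64 (.cub (.bad 14)) (.split 12 256 (.cub (.bad 14)) (.split 12 16384 (.cub (.oct 736 505 283 (.cub (.oct 712 494 4371 (.oct 671 717 8333 (.cub (.oct 128 71 262864 (.cub (.good [1, 2, 0, 4, 8, 21, 16, 6, 3, 22,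 20, 23, 14, 9, 15, 12, 7, 11, 5, 10, 19, 18, 13, 17] [22, 16, 11, 15, 21, 12, 7, 23, 8, 3, 13, 1, 17, 5, 10, 19, 9, 0, 14, 6, 20, 18, 4, 2]))))))))) (.cub (.bad 14)))))))))))) (.split 7 256 (.cub (.split 10 16 (.cub (.split 12 16 (.cub (.bad 6)) (.split 12 64 (.cub (.bad 14)) (.split 12 256 (.cub (.bad 6)) (.split 12 16384 (.cub (.bad 6)) (.cub (.bad 6))))))) (.split 10 64 (.cub (.split 12 16 (.cub (.bad 14)) (.split 12 64 (.cub (.bad 14)) (.split 12 256 (.cub (.bad 14)) (.split 12 16384 (.cub (.bad 20)) (.cub (.bad 14))))))) (.split 10 256 (.cub (.split 12 16 (.cub (.bad 6)) (.split 12 64 (.cub (.bad 14)) (.split 12 256 (.cub (.bad 6)) (.split 12 16384 (.cub (.bad 6)) (.cub (.bad 6))))))) (.split 10 16384 (.cub (.split 12 16 (.cub (.bad 6)) (.split 12 64 (.cub (.bad 20)) (.split 12 256 (.cub (.bad 6)) (.split 12 16384 (.cub (.bad 6)) (.cub (.bad 6))))))) (.cub (.split 12 16 (.cub (.bad 6)) (.split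 12 64 (.cub (.bad 14)) (.split 12 256 (.cub (.bad 6)) (.split 12 16384 (.cub (.bad 6)) (.cub (.bad 6)))))))))))) (.split 7 16384 (.cub (.split 10 16 (.cub (.split 12 16 (.cub (.bad 6)) (.split 12 64 (.cub (.bad 20)) (.split 12 256 (.cub (.bad 6)) (.split 12 16384 (.cub (.bad 6)) (.cub (.bad 6))))))) (.split 10 64 (.cub (.split 12 16 (.cub (.bad 20)) (.split 12 64 (.cub (.bad 20)) (.split 12 256 (.cub (.bad 20)) (.split 12 16384 (.cub (.bad 20)) (.cub (.oct 736 505 283 (.cub (.oct 712 496 4371 (.oct 406 219 12434 (.cub (.oct 652 693 4194405 (.cub (.good [1, 2, 0, 4, 8, 9, 15, 14, 3, 17, 6, 21, 20, 23, 19, 10, 12, 5, 13, 7, 16, 22, 11, 18] [9, 23, 7, 13, 20, 3, 0, 21, 6, 4, 2, 19, 16, 18, 8, 1, 22, 5, 12, 15, 11, 17, 10, 14])))))))))))))) (.split 10 256 (.cub (.split 12 16 (.cub (.bad 6)) (.split 12 64 (.cub (.bad 20)) (.split 12 256 (.cub (.bad 6)) (.split 12 16384 (.cub (.bad 6)) (.cub (.bad 6)))))))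 (.split 10 16384 (.cub (.split 12 16 (.cub (.bad 6)) (.split 12 64 (.cub (.bad 20)) (.split 12 256 (.cub (.bad 6)) (.split 12 16384 (.cub (.bad 6)) (.cub (.bad 6))))))) (.cub (.split 12 16 (.cub (.bad 6)) (.split 12 64 (.cub (.oct 736 505 283 (.cub (.oct 712 497 4371 (.oct 323 562 8348 (.bad 18)))))) (.split 12 256 (.cub (.bad 6)) (.split 12 16384 (.cub (.bad 6)) (.cub (.bad 6)))))))))))) (.cub (.split 10 16 (.cub (.split 12 16 (.cub (.bad 6)) (.split 12 64 (.cub (.bad 14)) (.split 12 256 (.cub (.bad 6)) (.split 12 16384 (.cub (.bad 6)) (.cub (.bad 6))))))) (.split 10 64 (.cub (.split 12 16 (.cub (.bad 14)) (.split 12 64 (.cub (.bad 14)) (.split 12 256 (.cub (.bad 14)) (.split 12 16384 (.cub (.oct 736 505 283 (.cub (.oct 712 494 4371 (.oct 566 348 12433 (.bad 17)))))) (.cub (.bad 14))))))) (.split 10 256 (.cub (.split 12 16 (.cub (.bad 6)) (.split 12 64 (.cub (.bad 14)) (.split 12 256 (.cub (.bad 6))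 (.split 12 16384 (.cub (.bad 6)) (.cub (.bad 6))))))) (.split 10 16384 (.cub (.split 12 16 (.cub (.bad 6)) (.split 12 64 (.cub (.oct 736 505 283 (.oct 712 497 4371 (.cub (.oct 306 618 8524 (.oct 539 377 3158017 (.cub (.good [1, 2, 0, 4, 8, 23, 19, 20, 3, 18, 14, 9, 6, 21, 16, 7, 10, 13, 11, 12, 15, 17, 5, 22] [17, 10, 19, 3, 4, 8, 9, 22, 5, 1, 20, 0, 7, 14, 6, 11, 13, 18, 2, 23, 16, 12, 21, 15])))))))) (.split 12 256 (.cub (.bad 6)) (.split 12 16384 (.cub (.bad 6)) (.cub (.bad 6))))))) (.cub (.split 12 16 (.cub (.bad 6)) (.split 12 64 (.cub (.bad 14)) (.split 12 256 (.cub (.bad 6)) (.split 12 16384 (.cub (.bad 6)) (.cub (.bad 6)))))))))))))))))) (.split 4 512 (.oct 758 753 31 (.cub (.split 7 16 (.cub (.split 10 16 (.cub (.split 12 16 (.cub (.bad 5)) (.split 12 32 (.cub (.bad 18)) (.split 12 512 (.cub (.bad 5)) (.split 12 262144 (.cub (.bad 5)) (.cub (.bad 5))))))) (.split 10 32 (.cub (.split 12 16 (.cub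 (.bad 18)) (.split 12 32 (.cub (.bad 18)) (.split 12 512 (.cub (.bad 18)) (.split 12 262144 (.cub (.bad 19)) (.cub (.bad 18))))))) (.split 10 512 (.cub (.split 12 16 (.cub (.bad 5)) (.split 12 32 (.cub (.bad 18)) (.split 12 512 (.cub (.bad 5)) (.split 12 262144 (.cub (.bad 5)) (.cub (.bad 5))))))) (.split 10 262144 (.cub (.split 12 16 (.cub (.bad 5)) (.split 12 32 (.cub (.bad 19)) (.split 12 512 (.cub (.bad 5)) (.split 12 262144 (.cub (.bad 5)) (.cub (.bad 5))))))) (.cub (.split 12 16 (.cub (.bad 5)) (.split 12 32 (.cub (.bad 18)) (.split 12 512 (.cub (.bad 5)) (.split 12 262144 (.cub (.bad 5)) (.cub (.bad 5)))))))))))) (.split 7 32 (.cub (.split 10 16 (.cub (.split 12 16 (.cub (.bad 18)) (.split 12 32 (.cub (.bad 18)) (.split 12 512 (.cub (.bad 18)) (.split 12 262144 (.cub (.bad 19)) (.cub (.bad 18))))))) (.split 10 32 (.cub (.split 12 16 (.cub (.bad 18)) (.split 12 32 (.cub (.bad 18)) (.split 12 512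 (.cub (.bad 18)) (.split 12 262144 (.cub (.bad 19)) (.cub (.bad 18))))))) (.split 10 512 (.cub (.split 12 16 (.cub (.bad 18)) (.split 12 32 (.cub (.bad 18)) (.split 12 512 (.cub (.bad 18)) (.split 12 262144 (.cub (.bad 19)) (.cub (.bad 18))))))) (.split 10 262144 (.cub (.split 12 16 (.cub (.bad 19)) (.split 12 32 (.cub (.bad 19)) (.split 12 512 (.cub (.bad 19)) (.split 12 262144 (.cub (.bad 19)) (.cub (.oct 740 755 4615 (.oct 493 680 4622 (.oct 667 734 4621 (.cub (.oct 259 539 8388836 (.cub (.good [1, 2, 0, 4, 9, 22, 12, 5, 14, 3, 18, 10, 19, 17, 16, 20, 8, 23, 11, 6, 21, 15, 7, 13] [5, 3, 4, 17, 10, 8, 1, 21, 9, 19, 18, 12, 2, 13, 23, 11, 7, 20, 14, 0, 22, 16, 15, 6]))))))))))))) (.cub (.split 12 16 (.cub (.bad 18)) (.split 12 32 (.cub (.bad 18)) (.split 12 512 (.cub (.bad 18)) (.split 12 262144 (.cub (.oct 667 736 4621 (.cub (.oct 323 625 668 (.bad 18))))) (.cub (.bad 18)))))))))))) (.split 7 512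 (.cub (.split 10 16 (.cub (.split 12 16 (.cub (.bad 5)) (.split 12 32 (.cub (.bad 18)) (.split 12 512 (.cub (.bad 5)) (.split 12 262144 (.cub (.bad 5)) (.cub (.bad 5))))))) (.split 10 32 (.cub (.split 12 16 (.cub (.bad 18)) (.split 12 32 (.cub (.bad 18)) (.split 12 512 (.cub (.bad 18)) (.split 12 262144 (.cub (.bad 19)) (.cub (.bad 18))))))) (.split 10 512 (.cub (.split 12 16 (.cub (.bad 5)) (.split 12 32 (.cub (.bad 18)) (.split 12 512 (.cub (.bad 5)) (.split 12 262144 (.cub (.bad 5)) (.cub (.bad 5))))))) (.split 10 262144 (.cub (.split 12 16 (.cub (.bad 5)) (.split 12 32 (.cub (.bad 19)) (.split 12 512 (.cub (.bad 5)) (.split 12 262144 (.cub (.bad 5)) (.cub (.bad 5))))))) (.cub (.split 12 16 (.cub (.bad 5)) (.split 12 32 (.cub (.bad 18)) (.split 12 512 (.cub (.bad 5)) (.split 12 262144 (.cub (.bad 5)) (.cub (.bad 5)))))))))))) (.split 7 262144 (.cub (.split 10 16 (.cub (.split 12 16 (.cub (.bad 5))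 (.split 12 32 (.cub (.bad 19)) (.split 12 512 (.cub (.bad 5)) (.split 12 262144 (.cub (.bad 5)) (.cub (.bad 5))))))) (.split 10 32 (.cub (.split 12 16 (.cub (.bad 19)) (.split 12 32 (.cub (.bad 19)) (.split 12 512 (.cub (.bad 19)) (.split 12 262144 (.cub (.bad 19)) (.cub (.oct 493 680 4622 (.cub (.oct 446 323 666 (.bad 19)))))))))) (.split 10 512 (.cub (.split 12 16 (.cub (.bad 5)) (.split 12 32 (.cub (.bad 19)) (.split 12 512 (.cub (.bad 5)) (.split 12 262144 (.cub (.bad 5)) (.cub (.bad 5))))))) (.split 10 262144 (.cub (.split 12 16 (.cub (.bad 5)) (.split 12 32 (.cub (.bad 19)) (.split 12 512 (.cub (.bad 5)) (.split 12 262144 (.cub (.bad 5)) (.cub (.bad 5))))))) (.cub (.split 12 16 (.cub (.bad 5)) (.split 12 32 (.cub (.oct 740 757 4615 (.oct 732 505 4619 (.oct 493 681 4622 (.cub (.oct 343 237 1312898 (.cub (.good [1, 2, 0, 4, 9, 11, 7, 18, 13, 3, 19, 12, 5, 20, 17, 16, 23, 21, 6, 22, 8, 14, 10, 15]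 [23, 7, 9, 12, 18, 22, 19, 17, 15, 14, 13, 16, 11, 21, 2, 3, 4, 0, 10, 20, 8, 1, 6, 5])))))))) (.split 12 512 (.cub (.bad 5)) (.split 12 262144 (.cub (.bad 5)) (.cub (.bad 5)))))))))))) (.cub (.split 10 16 (.cub (.split 12 16 (.cub (.bad 5)) (.split 12 32 (.cub (.bad 18)) (.split 12 512 (.cub (.bad 5)) (.split 12 262144 (.cub (.bad 5)) (.cub (.bad 5))))))) (.split 10 32 (.cub (.split 12 16 (.cub (.bad 18)) (.split 12 32 (.cub (.bad 18)) (.split 12 512 (.cub (.bad 18)) (.split 12 262144 (.cub (.oct 740 754 4615 (.cub (.oct 667 736 4621 (.oct 672 734 653 (.oct 663 699 4149 (.cub (.oct 682 455 172035 (.good [1, 2, 0, 4, 9, 6, 10, 19, 15, 3, 5, 7, 18, 16, 20, 17, 21, 8, 22, 11, 23, 13, 12, 14] [22, 16, 11, 15, 21, 20, 6, 23, 3, 8, 13, 9, 17, 0, 14, 4, 1, 5, 10, 7, 12, 2, 19, 18]))))))))) (.cub (.bad 18))))))) (.split 10 512 (.cub (.split 12 16 (.cub (.bad 5)) (.split 12 32 (.cub (.bad 18)) (.split 12 512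 (.cub (.bad 5)) (.split 12 262144 (.cub (.bad 5)) (.cub (.bad 5))))))) (.split 10 262144 (.cub (.split 12 16 (.cub (.bad 5)) (.split 12 32 (.cub (.oct 732 505 4619 (.cub (.oct 625 446 665 (.bad 5))))) (.split 12 512 (.cub (.bad 5)) (.split 12 262144 (.cub (.bad 5)) (.cub (.bad 5))))))) (.cub (.split 12 16 (.cub (.bad 5)) (.split 12 32 (.cub (.bad 18)) (.split 12 512 (.cub (.bad 5)) (.split 12 262144 (.cub (.bad 5)) (.cub (.bad 5)))))))))))))))))) (.split 4 1024 (.cub (.oct 758 758 31 (.split 7 16 (.cub (.split 12 16 (.split 10 8 (.cub (.bad 7)) (.split 10 16 (.cub (.bad 3)) (.split 10 128 (.cub (.bad 3)) (.split 10 1024 (.cub (.bad 3)) (.cub (.bad 3)))))) (.split 12 1024 (.split 10 8 (.cub (.bad 7)) (.split 10 16 (.cub (.bad 3)) (.split 10 128 (.cub (.bad 3)) (.split 10 1024 (.cub (.bad 3)) (.cub (.bad 3)))))) (.cub (.split 10 8 (.cub (.bad 7)) (.split 10 16 (.cub (.bad 3)) (.split 10 128 (.cub (.bad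 3)) (.cub (.bad 3))))))))) (.split 7 128 (.cub (.split 12 16 (.split 10 8 (.cub (.bad 12)) (.split 10 16 (.cub (.bad 3)) (.split 10 1024 (.cub (.bad 3)) (.cub (.bad 3))))) (.split 12 1024 (.split 10 8 (.cub (.bad 12)) (.split 10 16 (.cub (.bad 3)) (.split 10 1024 (.cub (.bad 3)) (.cub (.bad 3))))) (.cub (.split 10 8 (.split 5 32 (.oct 499 663 4142 (.oct 757 753 47 (.cub (.oct 749 749 4135 (.oct 748 748 167 (.oct 645 705 327717 (.cub (.oct 78 27 8466448 (.good [1, 2, 0, 4, 10, 5, 15, 7, 23, 21, 3, 11, 12, 6, 9, 13, 16, 19, 8, 22, 20, 14, 17, 18] [8, 11, 13, 10, 7, 1, 15, 5, 9, 16, 12, 3, 0, 20, 21, 22, 2, 17, 19, 23, 4, 6, 14, 18]))))))))) (.split 5 64 (.oct 499 661 4142 (.oct 757 752 47 (.oct 732 485 4139 (.cub (.oct 710 451 69651 (.oct 25 10 2408512 (.cub (.good [1, 2, 0, 4, 10, 6, 13, 7, 11, 16, 3, 23, 12, 5, 14, 15, 21, 20, 18, 17, 19, 9, 22, 8] [10, 7, 12, 19, 9, 6, 21, 3, 23, 22, 18, 14, 5, 16,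 1, 2, 20, 13, 4, 11, 8, 15, 0, 17])))))))) (.split 5 256 (.oct 499 663 4142 (.oct 757 752 47 (.cub (.oct 418 270 69770 (.bad 19))))) (.split 5 512 (.oct 487 642 4150 (.cub (.oct 585 349 4273 (.bad 6)))) (.split 5 2048 (.oct 499 656 4142 (.cub (.oct 748 748 167 (.bad 11)))) (.split 5 8192 (.oct 499 656 4142 (.oct 487 628 4150 (.cub (.oct 752 745 1048599 (.oct 478 629 135190 (.cub (.oct 506 335 217089 (.good [1, 2, 0, 4, 10, 13, 6, 7, 18, 14, 3, 8, 12, 15, 16, 5, 9, 22, 11, 19, 17, 21, 20, 23] [7, 12, 10, 16, 6, 17, 4, 2, 11, 19, 21, 8, 5, 23, 9, 14, 18, 20, 13, 1, 22, 3, 15, 0])))))))) (.split 5 16384 (.oct 314 570 4268 (.cub (.oct 732 478 4139 (.bad 8)))) (.split 5 32768 (.oct 499 654 4142 (.oct 314 566 4268 (.cub (.oct 752 747 1048599 (.cub (.oct 365 235 53282 (.cub (.oct 506 331 348161 (.good [1, 2, 0, 4, 10, 15, 5, 7, 8, 9, 3, 18, 12, 13, 21, 6, 14, 17, 23, 20, 22, 16, 19, 11] [12, 10, 7, 19, 9,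 16, 21, 3, 1, 0, 18, 22, 5, 2, 8, 6, 13, 4, 20, 17, 23, 11, 14, 15]))))))))) (.split 5 65536 (.oct 499 663 4142 (.oct 757 750 47 (.cub (.bad 5)))) (.split 5 131072 (.oct 499 663 4142 (.oct 757 751 47 (.cub (.bad 5)))) (.split 5 262144 (.oct 499 661 4142 (.oct 749 742 4135 (.cub (.oct 504 655 262174 (.bad 6))))) (.split 5 524288 (.oct 499 654 4142 (.cub (.oct 609 391 4265 (.bad 14)))) (.split 5 1048576 (.oct 499 656 4142 (.cub (.oct 748 748 167 (.bad 11)))) (.split 5 2097152 (.oct 499 661 4142 (.oct 757 751 47 (.oct 585 349 4273 (.cub (.oct 469 641 2162726 (.bad 8)))))) (.split 5 4194304 (.oct 499 661 4142 (.oct 487 629 4150 (.cub (.oct 379 234 6295586 (.bad 6))))) (.oct 499 654 4142 (.cub (.oct 609 391 4265 (.bad 14))))))))))))))))))) (.split 10 16 (.cub (.bad 3)) (.cub (.bad 3)))))))) (.split 7 1024 (.split 12 16 (.split 10 8 (.cub (.bad 7)) (.split 10 16 (.cub (.bad 3)) (.split 10 128 (.cub (.bad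 3)) (.split 10 1024 (.cub (.bad 3)) (.cub (.bad 3)))))) (.split 12 128 (.split 10 8 (.cub (.bad 7)) (.split 10 16 (.cub (.bad 3)) (.split 10 128 (.cub (.bad 3)) (.split 10 1024 (.cub (.bad 3)) (.cub (.bad 3)))))) (.split 12 1024 (.split 10 8 (.cub (.bad 7)) (.split 10 16 (.cub (.bad 3)) (.split 10 128 (.cub (.bad 3)) (.split 10 1024 (.cub (.bad 3)) (.cub (.bad 3)))))) (.cub (.split 10 8 (.cub (.bad 7)) (.split 10 16 (.cub (.bad 3)) (.split 10 128 (.cub (.bad 3)) (.cub (.bad 3))))))))) (.split 12 16 (.cub (.bad 7)) (.split 12 128 (.cub (.bad 7)) (.split 12 1024 (.split 10 8 (.cub (.bad 7)) (.split 10 16 (.cub (.bad 3)) (.split 10 128 (.cub (.bad 3)) (.split 10 1024 (.cub (.bad 3)) (.cub (.bad 3)))))) (.cub (.bad 7)))))))))) (.split 4 2048 (.oct 758 751 31 (.cub (.split 7 16 (.cub (.split 10 16 (.cub (.split 12 16 (.cub (.bad 15)) (.split 12 2048 (.cub (.bad 15)) (.split 12 32768 (.cub (.bad 17)) (.split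 12 131072 (.cub (.bad 15)) (.cub (.bad 15))))))) (.split 10 2048 (.cub (.split 12 16 (.cub (.bad 15)) (.split 12 2048 (.cub (.bad 15)) (.split 12 32768 (.cub (.bad 17)) (.split 12 131072 (.cub (.bad 15)) (.cub (.bad 15))))))) (.split 10 32768 (.cub (.split 12 16 (.cub (.bad 17)) (.split 12 2048 (.cub (.bad 17)) (.split 12 32768 (.cub (.bad 17)) (.split 12 131072 (.cub (.bad 21)) (.cub (.bad 17))))))) (.split 10 131072 (.cub (.split 12 16 (.cub (.bad 15)) (.split 12 2048 (.cub (.bad 15)) (.split 12 32768 (.cub (.bad 21)) (.split 12 131072 (.cub (.bad 15)) (.cub (.bad 15))))))) (.cub (.split 12 16 (.cub (.bad 15)) (.split 12 2048 (.cub (.bad 15)) (.split 12 32768 (.cub (.bad 17)) (.split 12 131072 (.cub (.bad 15)) (.cub (.bad 15)))))))))))) (.split 7 2048 (.cub (.split 10 16 (.cub (.split 12 16 (.cub (.bad 15)) (.split 12 2048 (.cub (.bad 15)) (.split 12 32768 (.cub (.bad 17)) (.split 12 131072 (.cub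 (.bad 15)) (.cub (.bad 15))))))) (.split 10 2048 (.cub (.split 12 16 (.cub (.bad 15)) (.split 12 2048 (.cub (.bad 15)) (.split 12 32768 (.cub (.bad 17)) (.split 12 131072 (.cub (.bad 15)) (.cub (.bad 15))))))) (.split 10 32768 (.cub (.split 12 16 (.cub (.bad 17)) (.split 12 2048 (.cub (.bad 17)) (.split 12 32768 (.cub (.bad 17)) (.split 12 131072 (.cub (.bad 21)) (.cub (.bad 17))))))) (.split 10 131072 (.cub (.split 12 16 (.cub (.bad 15)) (.split 12 2048 (.cub (.bad 15)) (.split 12 32768 (.cub (.bad 21)) (.split 12 131072 (.cub (.bad 15)) (.cub (.bad 15))))))) (.cub (.split 12 16 (.cub (.bad 15)) (.split 12 2048 (.cub (.bad 15)) (.split 12 32768 (.cub (.bad 17)) (.split 12 131072 (.cub (.bad 15)) (.cub (.bad 15)))))))))))) (.split 7 32768 (.cub (.split 10 16 (.cub (.split 12 16 (.cub (.bad 17)) (.split 12 2048 (.cub (.bad 17)) (.split 12 32768 (.cub (.bad 17)) (.split 12 131072 (.cub (.bad 21)) (.cub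 (.bad 17))))))) (.split 10 2048 (.cub (.split 12 16 (.cub (.bad 17)) (.split 12 2048 (.cub (.bad 17)) (.split 12 32768 (.cub (.bad 17)) (.split 12 131072 (.cub (.bad 21)) (.cub (.bad 17))))))) (.split 10 32768 (.cub (.split 12 16 (.cub (.bad 17)) (.split 12 2048 (.cub (.bad 17)) (.split 12 32768 (.cub (.bad 17)) (.split 12 131072 (.cub (.bad 21)) (.cub (.bad 17))))))) (.split 10 131072 (.cub (.split 12 16 (.cub (.bad 21)) (.split 12 2048 (.cub (.bad 21)) (.split 12 32768 (.cub (.bad 21)) (.split 12 131072 (.cub (.bad 21)) (.cub (.oct 734 505 2075 (.oct 723 502 6155 (.oct 742 754 6151 (.cub (.oct 115 11 1052976 (.cub (.oct 130 126 405512 (.good [1, 2, 0, 4, 11, 16, 12, 15, 18, 7, 17, 3, 21, 14, 23, 9, 19, 22, 20, 5, 8, 6, 10, 13] [11, 22, 16, 8, 15, 0, 20, 19, 14, 10, 9, 21, 6, 4, 5, 17, 1, 23, 12, 2, 18, 13, 7, 3])))))))))))))) (.cub (.split 12 16 (.cub (.bad 17)) (.split 12 2048 (.cub (.bad 17)) (.split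 12 32768 (.cub (.bad 17)) (.split 12 131072 (.cub (.oct 734 505 2075 (.oct 723 503 6155 (.cub (.oct 467 626 1052806 (.bad 9)))))) (.cub (.bad 17)))))))))))) (.split 7 131072 (.cub (.split 10 16 (.cub (.split 12 16 (.cub (.bad 15)) (.split 12 2048 (.cub (.bad 15)) (.split 12 32768 (.cub (.bad 21)) (.split 12 131072 (.cub (.bad 15)) (.cub (.bad 15))))))) (.split 10 2048 (.cub (.split 12 16 (.cub (.bad 15)) (.split 12 2048 (.cub (.bad 15)) (.split 12 32768 (.cub (.bad 21)) (.split 12 131072 (.cub (.bad 15)) (.cub (.bad 15))))))) (.split 10 32768 (.cub (.split 12 16 (.cub (.bad 21)) (.split 12 2048 (.cub (.bad 21)) (.split 12 32768 (.cub (.bad 21)) (.split 12 131072 (.cub (.bad 21)) (.cub (.oct 734 505 2075 (.cub (.oct 723 502 6155 (.oct 718 495 2195 (.bad 13))))))))))) (.split 10 131072 (.cub (.split 12 16 (.cub (.bad 15)) (.split 12 2048 (.cub (.bad 15)) (.split 12 32768 (.cub (.bad 21)) (.split 12 131072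 (.cub (.bad 15)) (.cub (.bad 15))))))) (.cub (.split 12 16 (.cub (.bad 15)) (.split 12 2048 (.cub (.bad 15)) (.split 12 32768 (.cub (.oct 734 505 2075 (.oct 723 504 6155 (.cub (.oct 490 681 6158 (.oct 645 689 10518533 (.cub (.good [1, 2, 0, 4, 11, 14, 7, 17, 16, 10, 21, 3, 15, 18, 20, 22, 23, 6, 19, 13, 5, 9, 12, 8] [11, 22, 16, 9, 23, 4, 0, 1, 8, 14, 12, 7, 20, 17, 5, 6, 15, 2, 10, 19, 3, 18, 13, 21])))))))) (.split 12 131072 (.cub (.bad 15)) (.cub (.bad 15)))))))))))) (.cub (.split 10 16 (.cub (.split 12 16 (.cub (.bad 15)) (.split 12 2048 (.cub (.bad 15)) (.split 12 32768 (.cub (.bad 17)) (.split 12 131072 (.cub (.bad 15)) (.cub (.bad 15))))))) (.split 10 2048 (.cub (.split 12 16 (.cub (.bad 15)) (.split 12 2048 (.cub (.bad 15)) (.split 12 32768 (.cub (.bad 17)) (.split 12 131072 (.cub (.bad 15)) (.cub (.bad 15))))))) (.split 10 32768 (.cub (.split 12 16 (.cub (.bad 17)) (.split 12 2048 (.cub (.bad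 17)) (.split 12 32768 (.cub (.bad 17)) (.split 12 131072 (.cub (.oct 734 505 2075 (.oct 723 503 6155 (.cub (.oct 449 263 1048730 (.oct 754 750 1048591 (.cub (.oct 330 241 61442 (.good [1, 2, 0, 4, 11, 18, 10, 21, 14, 12, 15, 3, 17, 16, 19, 6, 20, 9, 23, 8, 13, 22, 7, 5] [0, 1, 2, 10, 19, 8, 18, 13, 4, 16, 14, 17, 11, 23, 5, 12, 7, 22, 15, 3, 9, 20, 6, 21]))))))))) (.cub (.bad 17))))))) (.split 10 131072 (.cub (.split 12 16 (.cub (.bad 15)) (.split 12 2048 (.cub (.bad 15)) (.split 12 32768 (.cub (.oct 734 505 2075 (.cub (.oct 723 504 6155 (.oct 643 722 6277 (.bad 17)))))) (.split 12 131072 (.cub (.bad 15)) (.cub (.bad 15))))))) (.cub (.split 12 16 (.cub (.bad 15)) (.split 12 2048 (.cub (.bad 15)) (.split 12 32768 (.cub (.bad 17)) (.split 12 131072 (.cub (.bad 15)) (.cub (.bad 15)))))))))))))))))) (.split 4 4096 (.cub (.oct 758 758 31 (.split 7 16 (.cub (.split 10 16 (.split 12 8 (.cub (.bad 7)) (.split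 12 16 (.cub (.bad 3)) (.split 12 128 (.cub (.bad 3)) (.split 12 1024 (.cub (.bad 3)) (.cub (.bad 3)))))) (.split 10 1024 (.cub (.split 12 8 (.cub (.bad 7)) (.split 12 16 (.cub (.bad 3)) (.split 12 128 (.cub (.bad 3)) (.cub (.bad 3)))))) (.split 12 8 (.cub (.bad 7)) (.split 12 16 (.cub (.bad 3)) (.split 12 128 (.cub (.bad 3)) (.split 12 1024 (.cub (.bad 3)) (.cub (.bad 3))))))))) (.split 7 128 (.cub (.split 10 16 (.split 12 8 (.cub (.bad 10)) (.split 12 16 (.cub (.bad 3)) (.split 12 1024 (.cub (.bad 3)) (.cub (.bad 3))))) (.split 10 1024 (.cub (.split 12 8 (.split 5 32 (.oct 499 681 4142 (.oct 757 753 47 (.oct 487 675 4150 (.cub (.oct 228 525 1312900 (.cub (.oct 330 302 61442 (.good [1, 2, 0, 4, 12, 5, 23, 7, 8, 13, 10, 16, 3, 17, 18, 14, 20, 9, 15, 6, 11, 21, 22, 19] [13, 8, 11, 12, 10, 4, 9, 0, 2, 6, 5, 14, 7, 21, 22, 15, 17, 16, 20, 19, 23, 3, 1, 18])))))))) (.split 5 64 (.oct 499 680 4142 (.cub (.oct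 733 489 171 (.bad 13)))) (.split 5 256 (.oct 499 679 4142 (.cub (.oct 206 206 4280 (.bad 8)))) (.split 5 512 (.oct 499 679 4142 (.cub (.oct 651 726 4261 (.bad 9)))) (.split 5 2048 (.oct 499 678 4142 (.oct 447 319 4154 (.oct 487 675 4150 (.cub (.oct 330 293 4247554 (.oct 526 423 233473 (.oct 7 49 892928 (.good [1, 2, 0, 4, 12, 11, 6, 7, 13, 8, 10, 20, 3, 9, 15, 22, 16, 17, 18, 23, 5, 19, 14, 21] [9, 18, 19, 20, 15, 7, 0, 3, 14, 23, 1, 12, 22, 17, 16, 6, 5, 4, 2, 8, 10, 13, 21, 11])))))))) (.split 5 8192 (.oct 499 680 4142 (.cub (.oct 489 634 182 (.bad 6)))) (.split 5 16384 (.oct 499 678 4142 (.oct 487 668 4150 (.cub (.oct 660 693 4194453 (.bad 11))))) (.split 5 32768 (.oct 499 681 4142 (.oct 757 751 47 (.oct 732 504 4139 (.cub (.oct 478 668 266262 (.bad 14)))))) (.split 5 65536 (.oct 499 678 4142 (.oct 757 750 47 (.cub (.oct 755 751 65551 (.oct 585 418 4273 (.cub (.oct 330 297 110594 (.good [1, 2, 0,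 4, 12, 16, 19, 7, 17, 9, 10, 5, 3, 8, 22, 15, 11, 13, 14, 21, 20, 6, 18, 23] [12, 10, 7, 19, 9, 11, 16, 5, 17, 4, 3, 8, 18, 14, 20, 1, 13, 23, 22, 6, 0, 21, 15, 2])))))))) (.split 5 131072 (.oct 499 680 4142 (.cub (.oct 733 489 171 (.bad 13)))) (.split 5 262144 (.oct 499 678 4142 (.oct 675 736 4141 (.cub (.oct 618 399 262297 (.bad 19))))) (.split 5 524288 (.oct 499 680 4142 (.cub (.oct 489 634 182 (.bad 6)))) (.split 5 1048576 (.oct 499 681 4142 (.oct 757 752 47 (.oct 500 659 174 (.cub (.oct 211 608 1380356 (.cub (.oct 210 599 1347588 (.good [1, 2, 0, 4, 12, 20, 21, 7, 9, 17, 10, 11, 3, 13, 14, 18, 5, 8, 22, 19, 16, 23, 15, 6] [16, 6, 21, 15, 22, 11, 19, 2, 7, 12, 1, 0, 20, 5, 4, 23, 8, 10, 14, 3, 13, 9, 17, 18])))))))) (.split 5 2097152 (.oct 499 679 4142 (.cub (.oct 206 206 4280 (.bad 8)))) (.split 5 4194304 (.oct 499 681 4142 (.oct 757 750 47 (.cub (.bad 5)))) (.oct 499 679 4142 (.cub (.oct 651 726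 4261 (.bad 9))))))))))))))))))) (.split 12 16 (.cub (.bad 3)) (.cub (.bad 3))))) (.split 12 8 (.cub (.bad 10)) (.split 12 16 (.cub (.bad 3)) (.split 12 1024 (.cub (.bad 3)) (.cub (.bad 3)))))))) (.split 7 1024 (.split 10 16 (.cub (.bad 7)) (.split 10 128 (.cub (.bad 7)) (.split 10 1024 (.cub (.bad 7)) (.split 12 8 (.cub (.bad 7)) (.split 12 16 (.cub (.bad 3)) (.split 12 128 (.cub (.bad 3)) (.split 12 1024 (.cub (.bad 3)) (.cub (.bad 3))))))))) (.split 10 16 (.split 12 8 (.cub (.bad 7)) (.split 12 16 (.cub (.bad 3)) (.split 12 128 (.cub (.bad 3)) (.split 12 1024 (.cub (.bad 3)) (.cub (.bad 3)))))) (.split 10 128 (.split 12 8 (.cub (.bad 7)) (.split 12 16 (.cub (.bad 3)) (.split 12 128 (.cub (.bad 3)) (.split 12 1024 (.cub (.bad 3)) (.cub (.bad 3)))))) (.split 10 1024 (.cub (.split 12 8 (.cub (.bad 7)) (.split 12 16 (.cub (.bad 3)) (.split 12 128 (.cub (.bad 3)) (.cub (.bad 3)))))) (.split 12 8 (.cub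 (.bad 7)) (.split 12 16 (.cub (.bad 3)) (.split 12 128 (.cub (.bad 3)) (.split 12 1024 (.cub (.bad 3)) (.cub (.bad 3)))))))))))))) (.split 4 8192 (.oct 758 750 31 (.cub (.split 7 16 (.cub (.split 10 16 (.cub (.split 12 16 (.cub (.bad 16)) (.split 12 8192 (.cub (.bad 16)) (.split 12 65536 (.cub (.bad 22)) (.split 12 4194304 (.cub (.bad 16)) (.cub (.bad 16))))))) (.split 10 8192 (.cub (.split 12 16 (.cub (.bad 16)) (.split 12 8192 (.cub (.bad 16)) (.split 12 65536 (.cub (.bad 22)) (.split 12 4194304 (.cub (.bad 16)) (.cub (.bad 16))))))) (.split 10 65536 (.cub (.split 12 16 (.cub (.bad 22)) (.split 12 8192 (.cub (.bad 22)) (.split 12 65536 (.cub (.bad 22)) (.split 12 4194304 (.cub (.bad 23)) (.cub (.bad 22))))))) (.split 10 4194304 (.cub (.split 12 16 (.cub (.bad 16)) (.split 12 8192 (.cub (.bad 16)) (.split 12 65536 (.cub (.bad 23)) (.split 12 4194304 (.cub (.bad 16)) (.cub (.bad 16))))))) (.cub (.split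 12 16 (.cub (.bad 16)) (.split 12 8192 (.cub (.bad 16)) (.split 12 65536 (.cub (.bad 22)) (.split 12 4194304 (.cub (.bad 16)) (.cub (.bad 16)))))))))))) (.split 7 8192 (.cub (.split 10 16 (.cub (.split 12 16 (.cub (.bad 16)) (.split 12 8192 (.cub (.bad 16)) (.split 12 65536 (.cub (.bad 22)) (.split 12 4194304 (.cub (.bad 16)) (.cub (.bad 16))))))) (.split 10 8192 (.cub (.split 12 16 (.cub (.bad 16)) (.split 12 8192 (.cub (.bad 16)) (.split 12 65536 (.cub (.bad 22)) (.split 12 4194304 (.cub (.bad 16)) (.cub (.bad 16))))))) (.split 10 65536 (.cub (.split 12 16 (.cub (.bad 22)) (.split 12 8192 (.cub (.bad 22)) (.split 12 65536 (.cub (.bad 22)) (.split 12 4194304 (.cub (.bad 23)) (.cub (.bad 22))))))) (.split 10 4194304 (.cub (.split 12 16 (.cub (.bad 16)) (.split 12 8192 (.cub (.bad 16)) (.split 12 65536 (.cub (.bad 23)) (.split 12 4194304 (.cub (.bad 16)) (.cub (.bad 16))))))) (.cub (.split 12 16 (.cub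 (.bad 16)) (.split 12 8192 (.cub (.bad 16)) (.split 12 65536 (.cub (.bad 22)) (.split 12 4194304 (.cub (.bad 16)) (.cub (.bad 16)))))))))))) (.split 7 65536 (.cub (.split 10 16 (.cub (.split 12 16 (.cub (.bad 22)) (.split 12 8192 (.cub (.bad 22)) (.split 12 65536 (.cub (.bad 22)) (.split 12 4194304 (.cub (.bad 23)) (.cub (.bad 22))))))) (.split 10 8192 (.cub (.split 12 16 (.cub (.bad 22)) (.split 12 8192 (.cub (.bad 22)) (.split 12 65536 (.cub (.bad 22)) (.split 12 4194304 (.cub (.bad 23)) (.cub (.bad 22))))))) (.split 10 65536 (.cub (.split 12 16 (.cub (.bad 22)) (.split 12 8192 (.cub (.bad 22)) (.split 12 65536 (.cub (.bad 22)) (.split 12 4194304 (.cub (.bad 23)) (.cub (.bad 22))))))) (.split 10 4194304 (.cub (.split 12 16 (.cub (.bad 23)) (.split 12 8192 (.cub (.bad 23)) (.split 12 65536 (.cub (.bad 23)) (.split 12 4194304 (.cub (.bad 23)) (.cub (.oct 680 735 8221 (.oct 318 623 12316 (.cub (.oct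 757 751 8388623 (.cub (.oct 216 510 10555396 (.cub (.good [1, 2, 0, 4, 13, 17, 14, 16, 19, 8, 22, 6, 23, 3, 11, 5, 18, 15, 7, 9, 10, 12, 20, 21] [3, 4, 5, 22, 16, 9, 0, 14, 21, 15, 13, 2, 17, 11, 1, 7, 12, 23, 18, 8, 6, 19, 20, 10])))))))))))))) (.cub (.split 12 16 (.cub (.bad 22)) (.split 12 8192 (.cub (.bad 22)) (.split 12 65536 (.cub (.bad 22)) (.split 12 4194304 (.cub (.oct 680 735 8221 (.oct 318 616 12316 (.cub (.bad 10))))) (.cub (.bad 22)))))))))))) (.split 7 4194304 (.cub (.split 10 16 (.cub (.split 12 16 (.cub (.bad 16)) (.split 12 8192 (.cub (.bad 16)) (.split 12 65536 (.cub (.bad 23)) (.split 12 4194304 (.cub (.bad 16)) (.cub (.bad 16))))))) (.split 10 8192 (.cub (.split 12 16 (.cub (.bad 16)) (.split 12 8192 (.cub (.bad 16)) (.split 12 65536 (.cub (.bad 23)) (.split 12 4194304 (.cub (.bad 16)) (.cub (.bad 16))))))) (.split 10 65536 (.cub (.split 12 16 (.cub (.bad 23)) (.split 12 8192 (.cub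 (.bad 23)) (.split 12 65536 (.cub (.bad 23)) (.split 12 4194304 (.cub (.bad 23)) (.cub (.oct 680 735 8221 (.oct 318 623 12316 (.cub (.oct 597 398 8392841 (.bad 17))))))))))) (.split 10 4194304 (.cub (.split 12 16 (.cub (.bad 16)) (.split 12 8192 (.cub (.bad 16)) (.split 12 65536 (.cub (.bad 23)) (.split 12 4194304 (.cub (.bad 16)) (.cub (.bad 16))))))) (.cub (.split 12 16 (.cub (.bad 16)) (.split 12 8192 (.cub (.bad 16)) (.split 12 65536 (.cub (.oct 680 735 8221 (.oct 318 619 12316 (.cub (.oct 481 641 4198422 (.cub (.oct 701 475 3178499 (.cub (.oct 586 449 90121 (.good [1, 2, 0, 4, 13, 19, 15, 22, 6, 11, 23, 17, 16, 3, 5, 8, 20, 9, 10, 14, 12, 7, 21, 18] [21, 8, 15, 0, 1, 19, 4, 18, 3, 22, 9, 16, 6, 2, 10, 5, 13, 11, 7, 17, 20, 12, 14, 23])))))))))) (.split 12 4194304 (.cub (.bad 16)) (.cub (.bad 16)))))))))))) (.cub (.split 10 16 (.cub (.split 12 16 (.cub (.bad 16)) (.split 12 8192 (.cub (.bad 16))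 (.split 12 65536 (.cub (.bad 22)) (.split 12 4194304 (.cub (.bad 16)) (.cub (.bad 16))))))) (.split 10 8192 (.cub (.split 12 16 (.cub (.bad 16)) (.split 12 8192 (.cub (.bad 16)) (.split 12 65536 (.cub (.bad 22)) (.split 12 4194304 (.cub (.bad 16)) (.cub (.bad 16))))))) (.split 10 65536 (.cub (.split 12 16 (.cub (.bad 22)) (.split 12 8192 (.cub (.bad 22)) (.split 12 65536 (.cub (.bad 22)) (.split 12 4194304 (.cub (.oct 680 735 8221 (.cub (.oct 318 616 12316 (.oct 253 600 106628 (.cub (.oct 563 414 8398865 (.cub (.good [1, 2, 0, 4, 13, 6, 9, 23, 17, 5, 16, 19, 22, 3, 8, 11, 21, 14, 12, 15, 7, 10, 18, 20] [0, 1, 2, 13, 20, 11, 22, 18, 17, 16, 21, 23, 3, 6, 19, 9, 8, 10, 5, 7, 12, 15, 4, 14]))))))))) (.cub (.bad 22))))))) (.split 10 4194304 (.cub (.split 12 16 (.cub (.bad 16)) (.split 12 8192 (.cub (.bad 16)) (.split 12 65536 (.cub (.oct 680 735 8221 (.oct 318 619 12316 (.cub (.oct 717 469 8392723 (.bad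 6)))))) (.split 12 4194304 (.cub (.bad 16)) (.cub (.bad 16))))))) (.cub (.split 12 16 (.cub (.bad 16)) (.split 12 8192 (.cub (.bad 16)) (.split 12 65536 (.cub (.bad 22)) (.split 12 4194304 (.cub (.bad 16)) (.cub (.bad 16)))))))))))))))))) (.split 4 16384 (.oct 758 752 31 (.cub (.split 7 16 (.cub (.split 10 16 (.cub (.split 12 16 (.cub (.bad 6)) (.split 12 64 (.cub (.bad 8)) (.split 12 256 (.cub (.bad 6)) (.split 12 16384 (.cub (.bad 6)) (.cub (.bad 6))))))) (.split 10 64 (.cub (.split 12 16 (.cub (.bad 8)) (.split 12 64 (.cub (.bad 8)) (.split 12 256 (.cub (.bad 20)) (.split 12 16384 (.cub (.bad 8)) (.cub (.bad 8))))))) (.split 10 256 (.cub (.split 12 16 (.cub (.bad 6)) (.split 12 64 (.cub (.bad 20)) (.split 12 256 (.cub (.bad 6)) (.split 12 16384 (.cub (.bad 6)) (.cub (.bad 6))))))) (.split 10 16384 (.cub (.split 12 16 (.cub (.bad 6)) (.split 12 64 (.cub (.bad 8)) (.split 12 256 (.cub (.bad 6)) (.split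 12 16384 (.cub (.bad 6)) (.cub (.bad 6))))))) (.cub (.split 12 16 (.cub (.bad 6)) (.split 12 64 (.cub (.bad 8)) (.split 12 256 (.cub (.bad 6)) (.split 12 16384 (.cub (.bad 6)) (.cub (.bad 6)))))))))))) (.split 7 64 (.cub (.split 10 16 (.cub (.split 12 16 (.cub (.bad 8)) (.split 12 64 (.cub (.bad 8)) (.split 12 256 (.cub (.bad 20)) (.split 12 16384 (.cub (.bad 8)) (.cub (.bad 8))))))) (.split 10 64 (.cub (.split 12 16 (.cub (.bad 8)) (.split 12 64 (.cub (.bad 8)) (.split 12 256 (.cub (.bad 20)) (.split 12 16384 (.cub (.bad 8)) (.cub (.bad 8))))))) (.split 10 256 (.cub (.split 12 16 (.cub (.bad 20)) (.split 12 64 (.cub (.bad 20)) (.split 12 256 (.cub (.bad 20)) (.split 12 16384 (.cub (.bad 20)) (.cub (.oct 502 678 16414 (.cub (.oct 478 672 20502 (.oct 286 529 266388 (.cub (.oct 537 423 541057 (.cub (.good [1, 2, 0, 4, 14, 12, 17, 6, 23, 21, 8, 15, 20, 19, 3, 22, 13, 7, 9, 16, 5, 18, 11, 10] [18, 14, 12,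 7, 9, 3, 15, 8, 1, 20, 0, 17, 4, 22, 23, 10, 11, 21, 13, 16, 5, 6, 19, 2])))))))))))))) (.split 10 16384 (.cub (.split 12 16 (.cub (.bad 8)) (.split 12 64 (.cub (.bad 8)) (.split 12 256 (.cub (.bad 20)) (.split 12 16384 (.cub (.bad 8)) (.cub (.bad 8))))))) (.cub (.split 12 16 (.cub (.bad 8)) (.split 12 64 (.cub (.bad 8)) (.split 12 256 (.cub (.oct 502 678 16414 (.cub (.oct 478 668 20502 (.oct 618 407 262297 (.bad 19)))))) (.split 12 16384 (.cub (.bad 8)) (.cub (.bad 8)))))))))))) (.split 7 256 (.cub (.split 10 16 (.cub (.split 12 16 (.cub (.bad 6)) (.split 12 64 (.cub (.bad 20)) (.split 12 256 (.cub (.bad 6)) (.split 12 16384 (.cub (.bad 6)) (.cub (.bad 6))))))) (.split 10 64 (.cub (.split 12 16 (.cub (.bad 20)) (.split 12 64 (.cub (.bad 20)) (.split 12 256 (.cub (.bad 20)) (.split 12 16384 (.cub (.bad 20)) (.cub (.oct 502 678 16414 (.cub (.oct 478 672 20502 (.oct 618 404 262297 (.bad 19)))))))))))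 (.split 10 256 (.cub (.split 12 16 (.cub (.bad 6)) (.split 12 64 (.cub (.bad 20)) (.split 12 256 (.cub (.bad 6)) (.split 12 16384 (.cub (.bad 6)) (.cub (.bad 6))))))) (.split 10 16384 (.cub (.split 12 16 (.cub (.bad 6)) (.split 12 64 (.cub (.bad 20)) (.split 12 256 (.cub (.bad 6)) (.split 12 16384 (.cub (.bad 6)) (.cub (.bad 6))))))) (.cub (.split 12 16 (.cub (.bad 6)) (.split 12 64 (.cub (.oct 502 678 16414 (.cub (.oct 478 674 20502 (.oct 726 481 262283 (.cub (.oct 172 97 2424968 (.cub (.good [1, 2, 0, 4, 14, 7, 23, 8, 5, 22, 20, 13, 6, 21, 3, 19, 9, 10, 15, 18, 17, 11, 16, 12] [2, 0, 1, 23, 7, 10, 8, 19, 17, 12, 6, 11, 21, 22, 9, 5, 14, 20, 4, 3, 13, 16, 18, 15]))))))))) (.split 12 256 (.cub (.bad 6)) (.split 12 16384 (.cub (.bad 6)) (.cub (.bad 6)))))))))))) (.split 7 16384 (.cub (.split 10 16 (.cub (.split 12 16 (.cub (.bad 6)) (.split 12 64 (.cub (.bad 8)) (.split 12 256 (.cub (.bad 6)) (.split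 12 16384 (.cub (.bad 6)) (.cub (.bad 6))))))) (.split 10 64 (.cub (.split 12 16 (.cub (.bad 8)) (.split 12 64 (.cub (.bad 8)) (.split 12 256 (.cub (.bad 20)) (.split 12 16384 (.cub (.bad 8)) (.cub (.bad 8))))))) (.split 10 256 (.cub (.split 12 16 (.cub (.bad 6)) (.split 12 64 (.cub (.bad 20)) (.split 12 256 (.cub (.bad 6)) (.split 12 16384 (.cub (.bad 6)) (.cub (.bad 6))))))) (.split 10 16384 (.cub (.split 12 16 (.cub (.bad 6)) (.split 12 64 (.cub (.bad 8)) (.split 12 256 (.cub (.bad 6)) (.split 12 16384 (.cub (.bad 6)) (.cub (.bad 6))))))) (.cub (.split 12 16 (.cub (.bad 6)) (.split 12 64 (.cub (.bad 8)) (.split 12 256 (.cub (.bad 6)) (.split 12 16384 (.cub (.bad 6)) (.cub (.bad 6)))))))))))) (.cub (.split 10 16 (.cub (.split 12 16 (.cub (.bad 6)) (.split 12 64 (.cub (.bad 8)) (.split 12 256 (.cub (.bad 6)) (.split 12 16384 (.cub (.bad 6)) (.cub (.bad 6))))))) (.split 10 64 (.cub (.split 12 16 (.cub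 (.bad 8)) (.split 12 64 (.cub (.bad 8)) (.split 12 256 (.cub (.oct 502 678 16414 (.oct 478 668 20502 (.cub (.oct 592 442 278793 (.oct 363 221 1323010 (.cub (.good [1, 2, 0, 4, 14, 10, 5, 20, 17, 19, 6, 9, 8, 22, 3, 21, 15, 12, 13, 11, 23, 16, 18, 7] [6, 13, 20, 2, 0, 11, 16, 10, 9, 5, 22, 4, 7, 12, 1, 15, 8, 23, 14, 3, 19, 21, 18, 17])))))))) (.split 12 16384 (.cub (.bad 8)) (.cub (.bad 8))))))) (.split 10 256 (.cub (.split 12 16 (.cub (.bad 6)) (.split 12 64 (.cub (.oct 502 678 16414 (.cub (.oct 478 674 20502 (.oct 391 259 266386 (.bad 19)))))) (.split 12 256 (.cub (.bad 6)) (.split 12 16384 (.cub (.bad 6)) (.cub (.bad 6))))))) (.split 10 16384 (.cub (.split 12 16 (.cub (.bad 6)) (.split 12 64 (.cub (.bad 8)) (.split 12 256 (.cub (.bad 6)) (.split 12 16384 (.cub (.bad 6)) (.cub (.bad 6))))))) (.cub (.split 12 16 (.cub (.bad 6)) (.split 12 64 (.cub (.bad 8)) (.split 12 256 (.cub (.bad 6)) (.split 12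 16384 (.cub (.bad 6)) (.cub (.bad 6)))))))))))))))))) (.split 4 32768 (.oct 758 751 31 (.cub (.split 7 16 (.cub (.split 10 16 (.cub (.split 12 16 (.cub (.bad 11)) (.split 12 2048 (.cub (.bad 17)) (.split 12 32768 (.cub (.bad 11)) (.split 12 131072 (.cub (.bad 11)) (.cub (.bad 11))))))) (.split 10 2048 (.cub (.split 12 16 (.cub (.bad 17)) (.split 12 2048 (.cub (.bad 17)) (.split 12 32768 (.cub (.bad 17)) (.split 12 131072 (.cub (.bad 21)) (.cub (.bad 17))))))) (.split 10 32768 (.cub (.split 12 16 (.cub (.bad 11)) (.split 12 2048 (.cub (.bad 17)) (.split 12 32768 (.cub (.bad 11)) (.split 12 131072 (.cub (.bad 11)) (.cub (.bad 11))))))) (.split 10 131072 (.cub (.split 12 16 (.cub (.bad 11)) (.split 12 2048 (.cub (.bad 21)) (.split 12 32768 (.cub (.bad 11)) (.split 12 131072 (.cub (.bad 11)) (.cub (.bad 11))))))) (.cub (.split 12 16 (.cub (.bad 11)) (.split 12 2048 (.cub (.bad 17)) (.split 12 32768 (.cub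 (.bad 11)) (.split 12 131072 (.cub (.bad 11)) (.cub (.bad 11)))))))))))) (.split 7 2048 (.cub (.split 10 16 (.cub (.split 12 16 (.cub (.bad 17)) (.split 12 2048 (.cub (.bad 17)) (.split 12 32768 (.cub (.bad 17)) (.split 12 131072 (.cub (.bad 21)) (.cub (.bad 17))))))) (.split 10 2048 (.cub (.split 12 16 (.cub (.bad 17)) (.split 12 2048 (.cub (.bad 17)) (.split 12 32768 (.cub (.bad 17)) (.split 12 131072 (.cub (.bad 21)) (.cub (.bad 17))))))) (.split 10 32768 (.cub (.split 12 16 (.cub (.bad 17)) (.split 12 2048 (.cub (.bad 17)) (.split 12 32768 (.cub (.bad 17)) (.split 12 131072 (.cub (.bad 21)) (.cub (.bad 17))))))) (.split 10 131072 (.cub (.split 12 16 (.cub (.bad 21)) (.split 12 2048 (.cub (.bad 21)) (.split 12 32768 (.cub (.bad 21)) (.split 12 131072 (.cub (.bad 21)) (.cub (.oct 681 735 32797 (.cub (.oct 654 722 36885 (.oct 449 267 16538 (.bad 5))))))))))) (.cub (.split 12 16 (.cub (.bad 17)) (.split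 12 2048 (.cub (.bad 17)) (.split 12 32768 (.cub (.bad 17)) (.split 12 131072 (.cub (.oct 681 735 32797 (.oct 654 730 36885 (.cub (.oct 570 351 20625 (.oct 395 253 2228306 (.cub (.good [1, 2, 0, 4, 15, 14, 5, 11, 12, 18, 21, 19, 17, 23, 6, 3, 10, 8, 22, 7, 13, 16, 9, 20] [6, 13, 20, 2, 0, 4, 3, 7, 11, 15, 10, 9, 22, 12, 5, 1, 17, 16, 21, 23, 14, 19, 8, 18])))))))) (.cub (.bad 17)))))))))))) (.split 7 32768 (.cub (.split 10 16 (.cub (.split 12 16 (.cub (.bad 11)) (.split 12 2048 (.cub (.bad 17)) (.split 12 32768 (.cub (.bad 11)) (.split 12 131072 (.cub (.bad 11)) (.cub (.bad 11))))))) (.split 10 2048 (.cub (.split 12 16 (.cub (.bad 17)) (.split 12 2048 (.cub (.bad 17)) (.split 12 32768 (.cub (.bad 17)) (.split 12 131072 (.cub (.bad 21)) (.cub (.bad 17))))))) (.split 10 32768 (.cub (.split 12 16 (.cub (.bad 11)) (.split 12 2048 (.cub (.bad 17)) (.split 12 32768 (.cub (.bad 11)) (.split 12 131072 (.cub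 (.bad 11)) (.cub (.bad 11))))))) (.split 10 131072 (.cub (.split 12 16 (.cub (.bad 11)) (.split 12 2048 (.cub (.bad 21)) (.split 12 32768 (.cub (.bad 11)) (.split 12 131072 (.cub (.bad 11)) (.cub (.bad 11))))))) (.cub (.split 12 16 (.cub (.bad 11)) (.split 12 2048 (.cub (.bad 17)) (.split 12 32768 (.cub (.bad 11)) (.split 12 131072 (.cub (.bad 11)) (.cub (.bad 11)))))))))))) (.split 7 131072 (.cub (.split 10 16 (.cub (.split 12 16 (.cub (.bad 11)) (.split 12 2048 (.cub (.bad 21)) (.split 12 32768 (.cub (.bad 11)) (.split 12 131072 (.cub (.bad 11)) (.cub (.bad 11))))))) (.split 10 2048 (.cub (.split 12 16 (.cub (.bad 21)) (.split 12 2048 (.cub (.bad 21)) (.split 12 32768 (.cub (.bad 21)) (.split 12 131072 (.cub (.bad 21)) (.cub (.oct 681 735 32797 (.oct 654 722 36885 (.cub (.oct 410 328 2146314 (.oct 219 530 8540164 (.cub (.good [1, 2, 0, 4, 15, 13, 20, 17, 10, 6, 11, 8, 21, 18, 23, 3, 7, 16, 5, 12,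 9, 19, 14, 22] [20, 6, 13, 2, 0, 21, 5, 10, 11, 4, 22, 16, 7, 8, 14, 1, 17, 19, 15, 23, 3, 9, 18, 12]))))))))))))) (.split 10 32768 (.cub (.split 12 16 (.cub (.bad 11)) (.split 12 2048 (.cub (.bad 21)) (.split 12 32768 (.cub (.bad 11)) (.split 12 131072 (.cub (.bad 11)) (.cub (.bad 11))))))) (.split 10 131072 (.cub (.split 12 16 (.cub (.bad 11)) (.split 12 2048 (.cub (.bad 21)) (.split 12 32768 (.cub (.bad 11)) (.split 12 131072 (.cub (.bad 11)) (.cub (.bad 11))))))) (.cub (.split 12 16 (.cub (.bad 11)) (.split 12 2048 (.cub (.oct 681 735 32797 (.cub (.oct 654 731 36885 (.oct 270 525 20628 (.bad 20)))))) (.split 12 32768 (.cub (.bad 11)) (.split 12 131072 (.cub (.bad 11)) (.cub (.bad 11)))))))))))) (.cub (.split 10 16 (.cub (.split 12 16 (.cub (.bad 11)) (.split 12 2048 (.cub (.bad 17)) (.split 12 32768 (.cub (.bad 11)) (.split 12 131072 (.cub (.bad 11)) (.cub (.bad 11))))))) (.split 10 2048 (.cub (.split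 12 16 (.cub (.bad 17)) (.split 12 2048 (.cub (.bad 17)) (.split 12 32768 (.cub (.bad 17)) (.split 12 131072 (.cub (.oct 681 735 32797 (.cub (.oct 654 730 36885 (.oct 449 289 16538 (.bad 5)))))) (.cub (.bad 17))))))) (.split 10 32768 (.cub (.split 12 16 (.cub (.bad 11)) (.split 12 2048 (.cub (.bad 17)) (.split 12 32768 (.cub (.bad 11)) (.split 12 131072 (.cub (.bad 11)) (.cub (.bad 11))))))) (.split 10 131072 (.cub (.split 12 16 (.cub (.bad 11)) (.split 12 2048 (.cub (.oct 681 735 32797 (.cub (.oct 654 731 36885 (.oct 498 661 16526 (.cub (.oct 128 54 2359472 (.cub (.good [1, 2, 0, 4, 15, 9, 22, 21, 7, 23, 17, 16, 11, 6, 18, 3, 12, 19, 20, 10, 14, 8, 13, 5] [12, 18, 14, 23, 7, 6, 10, 2, 1, 13, 3, 8, 21, 17, 11, 9, 15, 4, 22, 5, 16, 0, 19, 20]))))))))) (.split 12 32768 (.cub (.bad 11)) (.split 12 131072 (.cub (.bad 11)) (.cub (.bad 11))))))) (.cub (.split 12 16 (.cub (.bad 11)) (.split 12 2048 (.cub (.bad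 17)) (.split 12 32768 (.cub (.bad 11)) (.split 12 131072 (.cub (.bad 11)) (.cub (.bad 11)))))))))))))))))) (.split 4 65536 (.oct 758 750 31 (.cub (.split 7 16 (.cub (.split 10 16 (.cub (.split 12 16 (.cub (.bad 13)) (.split 12 8192 (.cub (.bad 22)) (.split 12 65536 (.cub (.bad 13)) (.split 12 4194304 (.cub (.bad 13)) (.cub (.bad 13))))))) (.split 10 8192 (.cub (.split 12 16 (.cub (.bad 22)) (.split 12 8192 (.cub (.bad 22)) (.split 12 65536 (.cub (.bad 22)) (.split 12 4194304 (.cub (.bad 23)) (.cub (.bad 22))))))) (.split 10 65536 (.cub (.split 12 16 (.cub (.bad 13)) (.split 12 8192 (.cub (.bad 22)) (.split 12 65536 (.cub (.bad 13)) (.split 12 4194304 (.cub (.bad 13)) (.cub (.bad 13))))))) (.split 10 4194304 (.cub (.split 12 16 (.cub (.bad 13)) (.split 12 8192 (.cub (.bad 23)) (.split 12 65536 (.cub (.bad 13)) (.split 12 4194304 (.cub (.bad 13)) (.cub (.bad 13))))))) (.cub (.split 12 16 (.cub (.bad 13))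 (.split 12 8192 (.cub (.bad 22)) (.split 12 65536 (.cub (.bad 13)) (.split 12 4194304 (.cub (.bad 13)) (.cub (.bad 13)))))))))))) (.split 7 8192 (.cub (.split 10 16 (.cub (.split 12 16 (.cub (.bad 22)) (.split 12 8192 (.cub (.bad 22)) (.split 12 65536 (.cub (.bad 22)) (.split 12 4194304 (.cub (.bad 23)) (.cub (.bad 22))))))) (.split 10 8192 (.cub (.split 12 16 (.cub (.bad 22)) (.split 12 8192 (.cub (.bad 22)) (.split 12 65536 (.cub (.bad 22)) (.split 12 4194304 (.cub (.bad 23)) (.cub (.bad 22))))))) (.split 10 65536 (.cub (.split 12 16 (.cub (.bad 22)) (.split 12 8192 (.cub (.bad 22)) (.split 12 65536 (.cub (.bad 22)) (.split 12 4194304 (.cub (.bad 23)) (.cub (.bad 22))))))) (.split 10 4194304 (.cub (.split 12 16 (.cub (.bad 23)) (.split 12 8192 (.cub (.bad 23)) (.split 12 65536 (.cub (.bad 23)) (.split 12 4194304 (.cub (.bad 23)) (.cub (.oct 737 503 65563 (.cub (.oct 710 492 69651 (.oct 585 347 1052817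 (.bad 5))))))))))) (.cub (.split 12 16 (.cub (.bad 22)) (.split 12 8192 (.cub (.bad 22)) (.split 12 65536 (.cub (.bad 22)) (.split 12 4194304 (.cub (.oct 737 503 65563 (.oct 710 499 69651 (.cub (.oct 291 618 5308428 (.oct 266 511 5251092 (.cub (.good [1, 2, 0, 4, 16, 20, 17, 13, 10, 11, 23, 21, 22, 19, 6, 12, 3, 14, 5, 7, 18, 9, 15, 8] [8, 15, 21, 16, 11, 19, 6, 1, 14, 23, 12, 7, 5, 2, 20, 4, 22, 13, 10, 0, 17, 9, 3, 18])))))))) (.cub (.bad 22)))))))))))) (.split 7 65536 (.cub (.split 10 16 (.cub (.split 12 16 (.cub (.bad 13)) (.split 12 8192 (.cub (.bad 22)) (.split 12 65536 (.cub (.bad 13)) (.split 12 4194304 (.cub (.bad 13)) (.cub (.bad 13))))))) (.split 10 8192 (.cub (.split 12 16 (.cub (.bad 22)) (.split 12 8192 (.cub (.bad 22)) (.split 12 65536 (.cub (.bad 22)) (.split 12 4194304 (.cub (.bad 23)) (.cub (.bad 22))))))) (.split 10 65536 (.cub (.split 12 16 (.cub (.bad 13)) (.split 12 8192 (.cub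 (.bad 22)) (.split 12 65536 (.cub (.bad 13)) (.split 12 4194304 (.cub (.bad 13)) (.cub (.bad 13))))))) (.split 10 4194304 (.cub (.split 12 16 (.cub (.bad 13)) (.split 12 8192 (.cub (.bad 23)) (.split 12 65536 (.cub (.bad 13)) (.split 12 4194304 (.cub (.bad 13)) (.cub (.bad 13))))))) (.cub (.split 12 16 (.cub (.bad 13)) (.split 12 8192 (.cub (.bad 22)) (.split 12 65536 (.cub (.bad 13)) (.split 12 4194304 (.cub (.bad 13)) (.cub (.bad 13)))))))))))) (.split 7 4194304 (.cub (.split 10 16 (.cub (.split 12 16 (.cub (.bad 13)) (.split 12 8192 (.cub (.bad 23)) (.split 12 65536 (.cub (.bad 13)) (.split 12 4194304 (.cub (.bad 13)) (.cub (.bad 13))))))) (.split 10 8192 (.cub (.split 12 16 (.cub (.bad 23)) (.split 12 8192 (.cub (.bad 23)) (.split 12 65536 (.cub (.bad 23)) (.split 12 4194304 (.cub (.bad 23)) (.cub (.oct 737 503 65563 (.cub (.oct 710 492 69651 (.oct 672 719 1048717 (.cub (.oct 149 91 3146376 (.cub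 (.good [1, 2, 0, 4, 16, 9, 20, 22, 7, 14, 13, 6, 23, 15, 5, 10, 3, 18, 21, 12, 11, 17, 8, 19] [16, 11, 22, 19, 17, 1, 20, 5, 4, 2, 7, 13, 12, 9, 0, 23, 10, 21, 8, 14, 6, 15, 3, 18])))))))))))))) (.split 10 65536 (.cub (.split 12 16 (.cub (.bad 13)) (.split 12 8192 (.cub (.bad 23)) (.split 12 65536 (.cub (.bad 13)) (.split 12 4194304 (.cub (.bad 13)) (.cub (.bad 13))))))) (.split 10 4194304 (.cub (.split 12 16 (.cub (.bad 13)) (.split 12 8192 (.cub (.bad 23)) (.split 12 65536 (.cub (.bad 13)) (.split 12 4194304 (.cub (.bad 13)) (.cub (.bad 13))))))) (.cub (.split 12 16 (.cub (.bad 13)) (.split 12 8192 (.cub (.oct 737 503 65563 (.cub (.oct 710 498 69651 (.oct 326 562 1048732 (.bad 6)))))) (.split 12 65536 (.cub (.bad 13)) (.split 12 4194304 (.cub (.bad 13)) (.cub (.bad 13)))))))))))) (.cub (.split 10 16 (.cub (.split 12 16 (.cub (.bad 13)) (.split 12 8192 (.cub (.bad 22)) (.split 12 65536 (.cub (.bad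 13)) (.split 12 4194304 (.cub (.bad 13)) (.cub (.bad 13))))))) (.split 10 8192 (.cub (.split 12 16 (.cub (.bad 22)) (.split 12 8192 (.cub (.bad 22)) (.split 12 65536 (.cub (.bad 22)) (.split 12 4194304 (.cub (.oct 737 503 65563 (.cub (.oct 710 499 69651 (.oct 326 575 1048732 (.bad 6)))))) (.cub (.bad 22))))))) (.split 10 65536 (.cub (.split 12 16 (.cub (.bad 13)) (.split 12 8192 (.cub (.bad 22)) (.split 12 65536 (.cub (.bad 13)) (.split 12 4194304 (.cub (.bad 13)) (.cub (.bad 13))))))) (.split 10 4194304 (.cub (.split 12 16 (.cub (.bad 13)) (.split 12 8192 (.cub (.oct 737 503 65563 (.cub (.oct 710 498 69651 (.oct 393 244 1052818 (.cub (.oct 640 693 4325445 (.cub (.good [1, 2, 0, 4, 16, 17, 9, 23, 12, 18, 22, 5, 13, 8, 21, 7, 3, 11, 6, 10, 14, 20, 19, 15] [6, 13, 20, 0, 1, 15, 12, 9, 22, 18, 19, 8, 16, 11, 4, 7, 2, 21, 14, 10, 3, 5, 17, 23]))))))))) (.split 12 65536 (.cub (.bad 13)) (.split 12 4194304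 (.cub (.bad 13)) (.cub (.bad 13))))))) (.cub (.split 12 16 (.cub (.bad 13)) (.split 12 8192 (.cub (.bad 22)) (.split 12 65536 (.cub (.bad 13)) (.split 12 4194304 (.cub (.bad 13)) (.cub (.bad 13)))))))))))))))))) (.split 4 131072 (.oct 758 751 31 (.cub (.split 7 16 (.cub (.split 10 16 (.cub (.split 12 16 (.cub (.bad 11)) (.split 12 2048 (.cub (.bad 15)) (.split 12 32768 (.cub (.bad 11)) (.split 12 131072 (.cub (.bad 11)) (.cub (.bad 11))))))) (.split 10 2048 (.cub (.split 12 16 (.cub (.bad 15)) (.split 12 2048 (.cub (.bad 15)) (.split 12 32768 (.cub (.bad 21)) (.split 12 131072 (.cub (.bad 15)) (.cub (.bad 15))))))) (.split 10 32768 (.cub (.split 12 16 (.cub (.bad 11)) (.split 12 2048 (.cub (.bad 21)) (.split 12 32768 (.cub (.bad 11)) (.split 12 131072 (.cub (.bad 11)) (.cub (.bad 11))))))) (.split 10 131072 (.cub (.split 12 16 (.cub (.bad 11)) (.split 12 2048 (.cub (.bad 15)) (.split 12 32768 (.cub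 (.bad 11)) (.split 12 131072 (.cub (.bad 11)) (.cub (.bad 11))))))) (.cub (.split 12 16 (.cub (.bad 11)) (.split 12 2048 (.cub (.bad 15)) (.split 12 32768 (.cub (.bad 11)) (.split 12 131072 (.cub (.bad 11)) (.cub (.bad 11)))))))))))) (.split 7 2048 (.cub (.split 10 16 (.cub (.split 12 16 (.cub (.bad 15)) (.split 12 2048 (.cub (.bad 15)) (.split 12 32768 (.cub (.bad 21)) (.split 12 131072 (.cub (.bad 15)) (.cub (.bad 15))))))) (.split 10 2048 (.cub (.split 12 16 (.cub (.bad 15)) (.split 12 2048 (.cub (.bad 15)) (.split 12 32768 (.cub (.bad 21)) (.split 12 131072 (.cub (.bad 15)) (.cub (.bad 15))))))) (.split 10 32768 (.cub (.split 12 16 (.cub (.bad 21)) (.split 12 2048 (.cub (.bad 21)) (.split 12 32768 (.cub (.bad 21)) (.split 12 131072 (.cub (.bad 21)) (.cub (.oct 738 754 135175 (.oct 497 679 135182 (.cub (.oct 458 675 135302 (.oct 351 311 169986 (.cub (.good [1, 2, 0, 4, 17, 10, 8, 11, 9, 6, 15, 14,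 21, 22, 7, 5, 19, 3, 16, 18, 13, 23, 20, 12] [4, 5, 3, 6, 13, 17, 12, 7, 18, 14, 10, 9, 15, 1, 23, 19, 11, 20, 16, 22, 0, 21, 2, 8]))))))))))))) (.split 10 131072 (.cub (.split 12 16 (.cub (.bad 15)) (.split 12 2048 (.cub (.bad 15)) (.split 12 32768 (.cub (.bad 21)) (.split 12 131072 (.cub (.bad 15)) (.cub (.bad 15))))))) (.cub (.split 12 16 (.cub (.bad 15)) (.split 12 2048 (.cub (.bad 15)) (.split 12 32768 (.cub (.oct 478 667 135190 (.cub (.oct 706 490 135299 (.bad 18))))) (.split 12 131072 (.cub (.bad 15)) (.cub (.bad 15)))))))))))) (.split 7 32768 (.cub (.split 10 16 (.cub (.split 12 16 (.cub (.bad 11)) (.split 12 2048 (.cub (.bad 21)) (.split 12 32768 (.cub (.bad 11)) (.split 12 131072 (.cub (.bad 11)) (.cub (.bad 11))))))) (.split 10 2048 (.cub (.split 12 16 (.cub (.bad 21)) (.split 12 2048 (.cub (.bad 21)) (.split 12 32768 (.cub (.bad 21)) (.split 12 131072 (.cub (.bad 21)) (.cub (.oct 497 679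 135182 (.cub (.oct 442 324 131226 (.bad 21)))))))))) (.split 10 32768 (.cub (.split 12 16 (.cub (.bad 11)) (.split 12 2048 (.cub (.bad 21)) (.split 12 32768 (.cub (.bad 11)) (.split 12 131072 (.cub (.bad 11)) (.cub (.bad 11))))))) (.split 10 131072 (.cub (.split 12 16 (.cub (.bad 11)) (.split 12 2048 (.cub (.bad 21)) (.split 12 32768 (.cub (.bad 11)) (.split 12 131072 (.cub (.bad 11)) (.cub (.bad 11))))))) (.cub (.split 12 16 (.cub (.bad 11)) (.split 12 2048 (.cub (.oct 738 756 135175 (.oct 663 723 135189 (.oct 478 669 135190 (.cub (.oct 436 265 33066 (.cub (.oct 682 496 172035 (.good [1, 2, 0, 4, 17, 12, 18, 15, 16, 19, 21, 5, 11, 8, 10, 23, 13, 3, 20, 22, 6, 14, 9, 7] [2, 0, 1, 4, 5, 12, 8, 9, 22, 6, 19, 14, 18, 11, 10, 23, 16, 3, 15, 13, 21, 17, 20, 7]))))))))) (.split 12 32768 (.cub (.bad 11)) (.split 12 131072 (.cub (.bad 11)) (.cub (.bad 11)))))))))))) (.split 7 131072 (.cub (.split 10 16 (.cub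 (.split 12 16 (.cub (.bad 11)) (.split 12 2048 (.cub (.bad 15)) (.split 12 32768 (.cub (.bad 11)) (.split 12 131072 (.cub (.bad 11)) (.cub (.bad 11))))))) (.split 10 2048 (.cub (.split 12 16 (.cub (.bad 15)) (.split 12 2048 (.cub (.bad 15)) (.split 12 32768 (.cub (.bad 21)) (.split 12 131072 (.cub (.bad 15)) (.cub (.bad 15))))))) (.split 10 32768 (.cub (.split 12 16 (.cub (.bad 11)) (.split 12 2048 (.cub (.bad 21)) (.split 12 32768 (.cub (.bad 11)) (.split 12 131072 (.cub (.bad 11)) (.cub (.bad 11))))))) (.split 10 131072 (.cub (.split 12 16 (.cub (.bad 11)) (.split 12 2048 (.cub (.bad 15)) (.split 12 32768 (.cub (.bad 11)) (.split 12 131072 (.cub (.bad 11)) (.cub (.bad 11))))))) (.cub (.split 12 16 (.cub (.bad 11)) (.split 12 2048 (.cub (.bad 15)) (.split 12 32768 (.cub (.bad 11)) (.split 12 131072 (.cub (.bad 11)) (.cub (.bad 11)))))))))))) (.cub (.split 10 16 (.cub (.split 12 16 (.cub (.bad 11))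 (.split 12 2048 (.cub (.bad 15)) (.split 12 32768 (.cub (.bad 11)) (.split 12 131072 (.cub (.bad 11)) (.cub (.bad 11))))))) (.split 10 2048 (.cub (.split 12 16 (.cub (.bad 15)) (.split 12 2048 (.cub (.bad 15)) (.split 12 32768 (.cub (.oct 738 755 135175 (.oct 478 667 135190 (.cub (.oct 458 674 135302 (.oct 297 579 2131980 (.cub (.oct 330 237 61442 (.good [1, 2, 0, 4, 17, 7, 22, 21, 20, 13, 11, 23, 15, 18, 12, 14, 6, 3, 9, 8, 19, 5, 16, 10] [18, 14, 12, 3, 4, 11, 0, 22, 7, 6, 10, 19, 15, 13, 8, 21, 2, 5, 20, 23, 9, 16, 1, 17]))))))))) (.split 12 131072 (.cub (.bad 15)) (.cub (.bad 15))))))) (.split 10 32768 (.cub (.split 12 16 (.cub (.bad 11)) (.split 12 2048 (.cub (.oct 663 723 135189 (.cub (.oct 458 675 135302 (.bad 16))))) (.split 12 32768 (.cub (.bad 11)) (.split 12 131072 (.cub (.bad 11)) (.cub (.bad 11))))))) (.split 10 131072 (.cub (.split 12 16 (.cub (.bad 11)) (.split 12 2048 (.cub (.bad 15))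 (.split 12 32768 (.cub (.bad 11)) (.split 12 131072 (.cub (.bad 11)) (.cub (.bad 11))))))) (.cub (.split 12 16 (.cub (.bad 11)) (.split 12 2048 (.cub (.bad 15)) (.split 12 32768 (.cub (.bad 11)) (.split 12 131072 (.cub (.bad 11)) (.cub (.bad 11)))))))))))))))))) (.split 4 262144 (.oct 758 753 31 (.cub (.split 7 16 (.cub (.split 10 16 (.cub (.split 12 16 (.cub (.bad 5)) (.split 12 32 (.cub (.bad 9)) (.split 12 512 (.cub (.bad 5)) (.split 12 262144 (.cub (.bad 5)) (.cub (.bad 5))))))) (.split 10 32 (.cub (.split 12 16 (.cub (.bad 9)) (.split 12 32 (.cub (.bad 9)) (.split 12 512 (.cub (.bad 19)) (.split 12 262144 (.cub (.bad 9)) (.cub (.bad 9))))))) (.split 10 512 (.cub (.split 12 16 (.cub (.bad 5)) (.split 12 32 (.cub (.bad 19)) (.split 12 512 (.cub (.bad 5)) (.split 12 262144 (.cub (.bad 5)) (.cub (.bad 5))))))) (.split 10 262144 (.cub (.split 12 16 (.cub (.bad 5)) (.split 12 32 (.cub (.bad 9)) (.split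 12 512 (.cub (.bad 5)) (.split 12 262144 (.cub (.bad 5)) (.cub (.bad 5))))))) (.cub (.split 12 16 (.cub (.bad 5)) (.split 12 32 (.cub (.bad 9)) (.split 12 512 (.cub (.bad 5)) (.split 12 262144 (.cub (.bad 5)) (.cub (.bad 5)))))))))))) (.split 7 32 (.cub (.split 10 16 (.cub (.split 12 16 (.cub (.bad 9)) (.split 12 32 (.cub (.bad 9)) (.split 12 512 (.cub (.bad 19)) (.split 12 262144 (.cub (.bad 9)) (.cub (.bad 9))))))) (.split 10 32 (.cub (.split 12 16 (.cub (.bad 9)) (.split 12 32 (.cub (.bad 9)) (.split 12 512 (.cub (.bad 19)) (.split 12 262144 (.cub (.bad 9)) (.cub (.bad 9))))))) (.split 10 512 (.cub (.split 12 16 (.cub (.bad 19)) (.split 12 32 (.cub (.bad 19)) (.split 12 512 (.cub (.bad 19)) (.split 12 262144 (.cub (.bad 19)) (.cub (.oct 504 678 262174 (.cub (.oct 478 666 266262 (.oct 399 251 20626 (.bad 6))))))))))) (.split 10 262144 (.cub (.split 12 16 (.cub (.bad 9)) (.split 12 32 (.cub (.bad 9))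 (.split 12 512 (.cub (.bad 19)) (.split 12 262144 (.cub (.bad 9)) (.cub (.bad 9))))))) (.cub (.split 12 16 (.cub (.bad 9)) (.split 12 32 (.cub (.bad 9)) (.split 12 512 (.cub (.oct 504 678 262174 (.oct 478 667 266262 (.cub (.oct 606 442 279049 (.cub (.oct 429 268 41002 (.cub (.good [1, 2, 0, 4, 18, 21, 16, 5, 6, 13, 19, 22, 9, 12, 17, 14, 8, 15, 3, 20, 10, 7, 23, 11] [23, 7, 9, 17, 10, 13, 8, 6, 21, 4, 2, 22, 3, 5, 12, 14, 15, 18, 19, 0, 1, 20, 16, 11]))))))))) (.split 12 262144 (.cub (.bad 9)) (.cub (.bad 9)))))))))))) (.split 7 512 (.cub (.split 10 16 (.cub (.split 12 16 (.cub (.bad 5)) (.split 12 32 (.cub (.bad 19)) (.split 12 512 (.cub (.bad 5)) (.split 12 262144 (.cub (.bad 5)) (.cub (.bad 5))))))) (.split 10 32 (.cub (.split 12 16 (.cub (.bad 19)) (.split 12 32 (.cub (.bad 19)) (.split 12 512 (.cub (.bad 19)) (.split 12 262144 (.cub (.bad 19)) (.cub (.oct 504 678 262174 (.cub (.oct 478 666 266262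 (.oct 727 481 16523 (.cub (.oct 96 28 12583568 (.cub (.good [1, 2, 0, 4, 18, 13, 14, 9, 15, 20, 5, 8, 19, 10, 22, 11, 17, 23, 3, 21, 7, 12, 6, 16] [20, 6, 13, 21, 8, 2, 10, 5, 11, 3, 1, 16, 7, 0, 19, 22, 18, 14, 15, 9, 4, 23, 17, 12])))))))))))))) (.split 10 512 (.cub (.split 12 16 (.cub (.bad 5)) (.split 12 32 (.cub (.bad 19)) (.split 12 512 (.cub (.bad 5)) (.split 12 262144 (.cub (.bad 5)) (.cub (.bad 5))))))) (.split 10 262144 (.cub (.split 12 16 (.cub (.bad 5)) (.split 12 32 (.cub (.bad 19)) (.split 12 512 (.cub (.bad 5)) (.split 12 262144 (.cub (.bad 5)) (.cub (.bad 5))))))) (.cub (.split 12 16 (.cub (.bad 5)) (.split 12 32 (.cub (.oct 504 678 262174 (.cub (.oct 478 677 266262 (.oct 622 390 16537 (.bad 6)))))) (.split 12 512 (.cub (.bad 5)) (.split 12 262144 (.cub (.bad 5)) (.cub (.bad 5)))))))))))) (.split 7 262144 (.cub (.split 10 16 (.cub (.split 12 16 (.cub (.bad 5)) (.split 12 32 (.cub (.bad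 9)) (.split 12 512 (.cub (.bad 5)) (.split 12 262144 (.cub (.bad 5)) (.cub (.bad 5))))))) (.split 10 32 (.cub (.split 12 16 (.cub (.bad 9)) (.split 12 32 (.cub (.bad 9)) (.split 12 512 (.cub (.bad 19)) (.split 12 262144 (.cub (.bad 9)) (.cub (.bad 9))))))) (.split 10 512 (.cub (.split 12 16 (.cub (.bad 5)) (.split 12 32 (.cub (.bad 19)) (.split 12 512 (.cub (.bad 5)) (.split 12 262144 (.cub (.bad 5)) (.cub (.bad 5))))))) (.split 10 262144 (.cub (.split 12 16 (.cub (.bad 5)) (.split 12 32 (.cub (.bad 9)) (.split 12 512 (.cub (.bad 5)) (.split 12 262144 (.cub (.bad 5)) (.cub (.bad 5))))))) (.cub (.split 12 16 (.cub (.bad 5)) (.split 12 32 (.cub (.bad 9)) (.split 12 512 (.cub (.bad 5)) (.split 12 262144 (.cub (.bad 5)) (.cub (.bad 5)))))))))))) (.cub (.split 10 16 (.cub (.split 12 16 (.cub (.bad 5)) (.split 12 32 (.cub (.bad 9)) (.split 12 512 (.cub (.bad 5)) (.split 12 262144 (.cub (.bad 5)) (.cub (.bad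 5))))))) (.split 10 32 (.cub (.split 12 16 (.cub (.bad 9)) (.split 12 32 (.cub (.bad 9)) (.split 12 512 (.cub (.oct 504 678 262174 (.cub (.oct 478 667 266262 (.oct 622 395 16537 (.bad 6)))))) (.split 12 262144 (.cub (.bad 9)) (.cub (.bad 9))))))) (.split 10 512 (.cub (.split 12 16 (.cub (.bad 5)) (.split 12 32 (.cub (.oct 504 678 262174 (.cub (.oct 478 677 266262 (.oct 270 545 20628 (.cub (.oct 698 459 66115 (.cub (.good [1, 2, 0, 4, 18, 20, 11, 19, 23, 21, 9, 17, 5, 7, 8, 16, 22, 6, 3, 13, 12, 10, 15, 14] [23, 7, 9, 16, 11, 19, 13, 5, 18, 21, 15, 20, 10, 4, 12, 0, 1, 6, 22, 3, 17, 8, 2, 14]))))))))) (.split 12 512 (.cub (.bad 5)) (.split 12 262144 (.cub (.bad 5)) (.cub (.bad 5))))))) (.split 10 262144 (.cub (.split 12 16 (.cub (.bad 5)) (.split 12 32 (.cub (.bad 9)) (.split 12 512 (.cub (.bad 5)) (.split 12 262144 (.cub (.bad 5)) (.cub (.bad 5))))))) (.cub (.split 12 16 (.cub (.bad 5)) (.split 12 32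 (.cub (.bad 9)) (.split 12 512 (.cub (.bad 5)) (.split 12 262144 (.cub (.bad 5)) (.cub (.bad 5)))))))))))))))))) (.split 4 524288 (.oct 758 753 31 (.cub (.split 7 16 (.cub (.split 10 16 (.cub (.split 12 16 (.cub (.bad 5)) (.split 12 32 (.cub (.bad 9)) (.split 12 512 (.cub (.bad 5)) (.split 12 262144 (.cub (.bad 5)) (.cub (.bad 5))))))) (.split 10 32 (.cub (.split 12 16 (.cub (.bad 9)) (.split 12 32 (.cub (.bad 9)) (.split 12 512 (.cub (.bad 18)) (.split 12 262144 (.cub (.bad 9)) (.cub (.bad 9))))))) (.split 10 512 (.cub (.split 12 16 (.cub (.bad 5)) (.split 12 32 (.cub (.bad 18)) (.split 12 512 (.cub (.bad 5)) (.split 12 262144 (.cub (.bad 5)) (.cub (.bad 5))))))) (.split 10 262144 (.cub (.split 12 16 (.cub (.bad 5)) (.split 12 32 (.cub (.bad 9)) (.split 12 512 (.cub (.bad 5)) (.split 12 262144 (.cub (.bad 5)) (.cub (.bad 5))))))) (.cub (.split 12 16 (.cub (.bad 5)) (.split 12 32 (.cub (.bad 9)) (.split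 12 512 (.cub (.bad 5)) (.split 12 262144 (.cub (.bad 5)) (.cub (.bad 5)))))))))))) (.split 7 32 (.cub (.split 10 16 (.cub (.split 12 16 (.cub (.bad 9)) (.split 12 32 (.cub (.bad 9)) (.split 12 512 (.cub (.bad 18)) (.split 12 262144 (.cub (.bad 9)) (.cub (.bad 9))))))) (.split 10 32 (.cub (.split 12 16 (.cub (.bad 9)) (.split 12 32 (.cub (.bad 9)) (.split 12 512 (.cub (.bad 18)) (.split 12 262144 (.cub (.bad 9)) (.cub (.bad 9))))))) (.split 10 512 (.cub (.split 12 16 (.cub (.bad 18)) (.split 12 32 (.cub (.bad 18)) (.split 12 512 (.cub (.bad 18)) (.split 12 262144 (.cub (.oct 738 754 528391 (.oct 654 728 528405 (.cub (.oct 634 731 528517 (.oct 606 397 262697 (.cub (.oct 506 352 217089 (.good [1, 2, 0, 4, 19, 8, 23, 5, 7, 16, 9, 22, 18, 11, 6, 12, 10, 20, 15, 3, 21, 17, 13, 14] [17, 10, 19, 7, 9, 15, 1, 8, 21, 12, 14, 6, 11, 20, 0, 16, 18, 5, 22, 23, 3, 4, 13, 2]))))))))) (.cub (.bad 18))))))) (.split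 10 262144 (.cub (.split 12 16 (.cub (.bad 9)) (.split 12 32 (.cub (.bad 9)) (.split 12 512 (.cub (.oct 712 493 528403 (.cub (.oct 634 732 528517 (.bad 13))))) (.split 12 262144 (.cub (.bad 9)) (.cub (.bad 9))))))) (.cub (.split 12 16 (.cub (.bad 9)) (.split 12 32 (.cub (.bad 9)) (.split 12 512 (.cub (.bad 18)) (.split 12 262144 (.cub (.bad 9)) (.cub (.bad 9)))))))))))) (.split 7 512 (.cub (.split 10 16 (.cub (.split 12 16 (.cub (.bad 5)) (.split 12 32 (.cub (.bad 18)) (.split 12 512 (.cub (.bad 5)) (.split 12 262144 (.cub (.bad 5)) (.cub (.bad 5))))))) (.split 10 32 (.cub (.split 12 16 (.cub (.bad 18)) (.split 12 32 (.cub (.bad 18)) (.split 12 512 (.cub (.bad 18)) (.split 12 262144 (.cub (.oct 654 728 528405 (.cub (.oct 475 667 528518 (.bad 14))))) (.cub (.bad 18))))))) (.split 10 512 (.cub (.split 12 16 (.cub (.bad 5)) (.split 12 32 (.cub (.bad 18)) (.split 12 512 (.cub (.bad 5)) (.split 12 262144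 (.cub (.bad 5)) (.cub (.bad 5))))))) (.split 10 262144 (.cub (.split 12 16 (.cub (.bad 5)) (.split 12 32 (.cub (.oct 738 757 528391 (.oct 675 737 528397 (.oct 728 505 528395 (.cub (.oct 522 334 68225 (.cub (.good [1, 2, 0, 4, 19, 16, 11, 9, 10, 15, 18, 21, 5, 20, 13, 7, 12, 23, 8, 3, 14, 6, 17, 22] [17, 10, 19, 4, 5, 13, 1, 9, 22, 23, 16, 2, 6, 12, 14, 7, 20, 15, 11, 3, 18, 0, 8, 21])))))))) (.split 12 512 (.cub (.bad 5)) (.split 12 262144 (.cub (.bad 5)) (.cub (.bad 5))))))) (.cub (.split 12 16 (.cub (.bad 5)) (.split 12 32 (.cub (.bad 18)) (.split 12 512 (.cub (.bad 5)) (.split 12 262144 (.cub (.bad 5)) (.cub (.bad 5)))))))))))) (.split 7 262144 (.cub (.split 10 16 (.cub (.split 12 16 (.cub (.bad 5)) (.split 12 32 (.cub (.bad 9)) (.split 12 512 (.cub (.bad 5)) (.split 12 262144 (.cub (.bad 5)) (.cub (.bad 5))))))) (.split 10 32 (.cub (.split 12 16 (.cub (.bad 9)) (.split 12 32 (.cub (.bad 9)) (.split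 12 512 (.cub (.oct 738 756 528391 (.oct 712 493 528403 (.oct 654 725 528405 (.cub (.oct 606 397 2359817 (.cub (.good [1, 2, 0, 4, 19, 15, 20, 18, 12, 8, 5, 14, 9, 23, 17, 10, 7, 11, 16, 3, 22, 13, 6, 21] [5, 3, 4, 17, 10, 14, 9, 21, 1, 0, 18, 11, 2, 6, 22, 12, 15, 16, 8, 19, 23, 20, 7, 13])))))))) (.split 12 262144 (.cub (.bad 9)) (.cub (.bad 9))))))) (.split 10 512 (.cub (.split 12 16 (.cub (.bad 5)) (.split 12 32 (.cub (.oct 675 737 528397 (.cub (.oct 328 618 524444 (.bad 5))))) (.split 12 512 (.cub (.bad 5)) (.split 12 262144 (.cub (.bad 5)) (.cub (.bad 5))))))) (.split 10 262144 (.cub (.split 12 16 (.cub (.bad 5)) (.split 12 32 (.cub (.bad 9)) (.split 12 512 (.cub (.bad 5)) (.split 12 262144 (.cub (.bad 5)) (.cub (.bad 5))))))) (.cub (.split 12 16 (.cub (.bad 5)) (.split 12 32 (.cub (.bad 9)) (.split 12 512 (.cub (.bad 5)) (.split 12 262144 (.cub (.bad 5)) (.cub (.bad 5)))))))))))) (.cub (.split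 10 16 (.cub (.split 12 16 (.cub (.bad 5)) (.split 12 32 (.cub (.bad 9)) (.split 12 512 (.cub (.bad 5)) (.split 12 262144 (.cub (.bad 5)) (.cub (.bad 5))))))) (.split 10 32 (.cub (.split 12 16 (.cub (.bad 9)) (.split 12 32 (.cub (.bad 9)) (.split 12 512 (.cub (.bad 18)) (.split 12 262144 (.cub (.bad 9)) (.cub (.bad 9))))))) (.split 10 512 (.cub (.split 12 16 (.cub (.bad 5)) (.split 12 32 (.cub (.bad 18)) (.split 12 512 (.cub (.bad 5)) (.split 12 262144 (.cub (.bad 5)) (.cub (.bad 5))))))) (.split 10 262144 (.cub (.split 12 16 (.cub (.bad 5)) (.split 12 32 (.cub (.bad 9)) (.split 12 512 (.cub (.bad 5)) (.split 12 262144 (.cub (.bad 5)) (.cub (.bad 5))))))) (.cub (.split 12 16 (.cub (.bad 5)) (.split 12 32 (.cub (.bad 9)) (.split 12 512 (.cub (.bad 5)) (.split 12 262144 (.cub (.bad 5)) (.cub (.bad 5)))))))))))))))))) (.split 4 1048576 (.oct 758 752 31 (.cub (.split 7 16 (.cub (.split 10 16 (.cub (.split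 12 16 (.cub (.bad 6)) (.split 12 64 (.cub (.bad 8)) (.split 12 256 (.cub (.bad 6)) (.split 12 16384 (.cub (.bad 6)) (.cub (.bad 6))))))) (.split 10 64 (.cub (.split 12 16 (.cub (.bad 8)) (.split 12 64 (.cub (.bad 8)) (.split 12 256 (.cub (.bad 14)) (.split 12 16384 (.cub (.bad 8)) (.cub (.bad 8))))))) (.split 10 256 (.cub (.split 12 16 (.cub (.bad 6)) (.split 12 64 (.cub (.bad 14)) (.split 12 256 (.cub (.bad 6)) (.split 12 16384 (.cub (.bad 6)) (.cub (.bad 6))))))) (.split 10 16384 (.cub (.split 12 16 (.cub (.bad 6)) (.split 12 64 (.cub (.bad 8)) (.split 12 256 (.cub (.bad 6)) (.split 12 16384 (.cub (.bad 6)) (.cub (.bad 6))))))) (.cub (.split 12 16 (.cub (.bad 6)) (.split 12 64 (.cub (.bad 8)) (.split 12 256 (.cub (.bad 6)) (.split 12 16384 (.cub (.bad 6)) (.cub (.bad 6)))))))))))) (.split 7 64 (.cub (.split 10 16 (.cub (.split 12 16 (.cub (.bad 8)) (.split 12 64 (.cub (.bad 8)) (.split 12 256 (.cub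 (.bad 14)) (.split 12 16384 (.cub (.bad 8)) (.cub (.bad 8))))))) (.split 10 64 (.cub (.split 12 16 (.cub (.bad 8)) (.split 12 64 (.cub (.bad 8)) (.split 12 256 (.cub (.bad 14)) (.split 12 16384 (.cub (.bad 8)) (.cub (.bad 8))))))) (.split 10 256 (.cub (.split 12 16 (.cub (.bad 14)) (.split 12 64 (.cub (.bad 14)) (.split 12 256 (.cub (.bad 14)) (.split 12 16384 (.cub (.oct 710 490 1052691 (.cub (.oct 636 728 1052805 (.bad 15))))) (.cub (.bad 14))))))) (.split 10 16384 (.cub (.split 12 16 (.cub (.bad 8)) (.split 12 64 (.cub (.bad 8)) (.split 12 256 (.cub (.oct 738 755 1052679 (.oct 732 505 1052683 (.cub (.oct 690 497 1052803 (.oct 436 263 16714 (.cub (.good [1, 2, 0, 4, 20, 11, 18, 6, 13, 5, 14, 9, 8, 12, 21, 23, 22, 15, 7, 16, 3, 10, 19, 17] [11, 22, 16, 20, 6, 15, 10, 17, 1, 8, 4, 21, 0, 2, 5, 12, 23, 14, 19, 9, 13, 3, 7, 18])))))))) (.split 12 16384 (.cub (.bad 8)) (.cub (.bad 8))))))) (.cub (.split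 12 16 (.cub (.bad 8)) (.split 12 64 (.cub (.bad 8)) (.split 12 256 (.cub (.bad 14)) (.split 12 16384 (.cub (.bad 8)) (.cub (.bad 8)))))))))))) (.split 7 256 (.cub (.split 10 16 (.cub (.split 12 16 (.cub (.bad 6)) (.split 12 64 (.cub (.bad 14)) (.split 12 256 (.cub (.bad 6)) (.split 12 16384 (.cub (.bad 6)) (.cub (.bad 6))))))) (.split 10 64 (.cub (.split 12 16 (.cub (.bad 14)) (.split 12 64 (.cub (.bad 14)) (.split 12 256 (.cub (.bad 14)) (.split 12 16384 (.cub (.oct 738 757 1052679 (.oct 710 490 1052691 (.cub (.oct 690 494 1052803 (.oct 436 263 16714 (.cub (.oct 506 365 348161 (.good [1, 2, 0, 4, 20, 19, 13, 8, 21, 22, 6, 16, 14, 10, 18, 11, 15, 5, 12, 17, 3, 7, 23, 9] [12, 18, 14, 17, 10, 3, 23, 6, 13, 22, 9, 0, 21, 7, 8, 2, 1, 5, 15, 4, 19, 20, 16, 11]))))))))) (.cub (.bad 14))))))) (.split 10 256 (.cub (.split 12 16 (.cub (.bad 6)) (.split 12 64 (.cub (.bad 14)) (.split 12 256 (.cub (.bad 6)) (.split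 12 16384 (.cub (.bad 6)) (.cub (.bad 6))))))) (.split 10 16384 (.cub (.split 12 16 (.cub (.bad 6)) (.split 12 64 (.cub (.oct 487 673 1052694 (.cub (.oct 690 497 1052803 (.bad 23))))) (.split 12 256 (.cub (.bad 6)) (.split 12 16384 (.cub (.bad 6)) (.cub (.bad 6))))))) (.cub (.split 12 16 (.cub (.bad 6)) (.split 12 64 (.cub (.bad 14)) (.split 12 256 (.cub (.bad 6)) (.split 12 16384 (.cub (.bad 6)) (.cub (.bad 6)))))))))))) (.split 7 16384 (.cub (.split 10 16 (.cub (.split 12 16 (.cub (.bad 6)) (.split 12 64 (.cub (.bad 8)) (.split 12 256 (.cub (.bad 6)) (.split 12 16384 (.cub (.bad 6)) (.cub (.bad 6))))))) (.split 10 64 (.cub (.split 12 16 (.cub (.bad 8)) (.split 12 64 (.cub (.bad 8)) (.split 12 256 (.cub (.oct 732 505 1052683 (.cub (.oct 619 449 1048729 (.bad 8))))) (.split 12 16384 (.cub (.bad 8)) (.cub (.bad 8))))))) (.split 10 256 (.cub (.split 12 16 (.cub (.bad 6)) (.split 12 64 (.cub (.oct 738 756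 1052679 (.oct 487 673 1052694 (.oct 710 501 1052691 (.cub (.oct 436 263 16490 (.cub (.good [1, 2, 0, 4, 20, 23, 21, 14, 18, 15, 8, 17, 6, 7, 13, 19, 5, 22, 10, 9, 3, 12, 11, 16] [2, 0, 1, 9, 23, 11, 19, 20, 21, 18, 15, 5, 10, 13, 6, 14, 16, 3, 8, 12, 7, 17, 4, 22])))))))) (.split 12 256 (.cub (.bad 6)) (.split 12 16384 (.cub (.bad 6)) (.cub (.bad 6))))))) (.split 10 16384 (.cub (.split 12 16 (.cub (.bad 6)) (.split 12 64 (.cub (.bad 8)) (.split 12 256 (.cub (.bad 6)) (.split 12 16384 (.cub (.bad 6)) (.cub (.bad 6))))))) (.cub (.split 12 16 (.cub (.bad 6)) (.split 12 64 (.cub (.bad 8)) (.split 12 256 (.cub (.bad 6)) (.split 12 16384 (.cub (.bad 6)) (.cub (.bad 6)))))))))))) (.cub (.split 10 16 (.cub (.split 12 16 (.cub (.bad 6)) (.split 12 64 (.cub (.bad 8)) (.split 12 256 (.cub (.bad 6)) (.split 12 16384 (.cub (.bad 6)) (.cub (.bad 6))))))) (.split 10 64 (.cub (.split 12 16 (.cub (.bad 8)) (.split 12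 64 (.cub (.bad 8)) (.split 12 256 (.cub (.bad 14)) (.split 12 16384 (.cub (.bad 8)) (.cub (.bad 8))))))) (.split 10 256 (.cub (.split 12 16 (.cub (.bad 6)) (.split 12 64 (.cub (.bad 14)) (.split 12 256 (.cub (.bad 6)) (.split 12 16384 (.cub (.bad 6)) (.cub (.bad 6))))))) (.split 10 16384 (.cub (.split 12 16 (.cub (.bad 6)) (.split 12 64 (.cub (.bad 8)) (.split 12 256 (.cub (.bad 6)) (.split 12 16384 (.cub (.bad 6)) (.cub (.bad 6))))))) (.cub (.split 12 16 (.cub (.bad 6)) (.split 12 64 (.cub (.bad 8)) (.split 12 256 (.cub (.bad 6)) (.split 12 16384 (.cub (.bad 6)) (.cub (.bad 6)))))))))))))))))) (.split 4 2097152 (.oct 758 751 31 (.cub (.split 7 16 (.cub (.split 10 16 (.cub (.split 12 16 (.cub (.bad 11)) (.split 12 2048 (.cub (.bad 15)) (.split 12 32768 (.cub (.bad 11)) (.split 12 131072 (.cub (.bad 11)) (.cub (.bad 11))))))) (.split 10 2048 (.cub (.split 12 16 (.cub (.bad 15)) (.split 12 2048 (.cub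 (.bad 15)) (.split 12 32768 (.cub (.bad 17)) (.split 12 131072 (.cub (.bad 15)) (.cub (.bad 15))))))) (.split 10 32768 (.cub (.split 12 16 (.cub (.bad 11)) (.split 12 2048 (.cub (.bad 17)) (.split 12 32768 (.cub (.bad 11)) (.split 12 131072 (.cub (.bad 11)) (.cub (.bad 11))))))) (.split 10 131072 (.cub (.split 12 16 (.cub (.bad 11)) (.split 12 2048 (.cub (.bad 15)) (.split 12 32768 (.cub (.bad 11)) (.split 12 131072 (.cub (.bad 11)) (.cub (.bad 11))))))) (.cub (.split 12 16 (.cub (.bad 11)) (.split 12 2048 (.cub (.bad 15)) (.split 12 32768 (.cub (.bad 11)) (.split 12 131072 (.cub (.bad 11)) (.cub (.bad 11)))))))))))) (.split 7 2048 (.cub (.split 10 16 (.cub (.split 12 16 (.cub (.bad 15)) (.split 12 2048 (.cub (.bad 15)) (.split 12 32768 (.cub (.bad 17)) (.split 12 131072 (.cub (.bad 15)) (.cub (.bad 15))))))) (.split 10 2048 (.cub (.split 12 16 (.cub (.bad 15)) (.split 12 2048 (.cub (.bad 15)) (.split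 12 32768 (.cub (.bad 17)) (.split 12 131072 (.cub (.bad 15)) (.cub (.bad 15))))))) (.split 10 32768 (.cub (.split 12 16 (.cub (.bad 17)) (.split 12 2048 (.cub (.bad 17)) (.split 12 32768 (.cub (.bad 17)) (.split 12 131072 (.cub (.oct 502 679 2097182 (.cub (.oct 318 614 2101276 (.oct 743 748 32903 (.bad 14)))))) (.cub (.bad 17))))))) (.split 10 131072 (.cub (.split 12 16 (.cub (.bad 15)) (.split 12 2048 (.cub (.bad 15)) (.split 12 32768 (.cub (.oct 502 679 2097182 (.cub (.oct 318 618 2101276 (.oct 721 476 32915 (.cub (.oct 99 37 394320 (.cub (.oct 45 162 1466368 (.good [1, 2, 0, 4, 21, 14, 22, 11, 5, 16, 17, 13, 15, 7, 8, 18, 19, 20, 12, 9, 10, 3, 23, 6] [12, 18, 14, 21, 8, 4, 17, 20, 3, 9, 22, 6, 1, 13, 5, 2, 23, 16, 0, 7, 11, 15, 10, 19])))))))))) (.split 12 131072 (.cub (.bad 15)) (.cub (.bad 15))))))) (.cub (.split 12 16 (.cub (.bad 15)) (.split 12 2048 (.cub (.bad 15)) (.split 12 32768 (.cub (.bad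 17)) (.split 12 131072 (.cub (.bad 15)) (.cub (.bad 15)))))))))))) (.split 7 32768 (.cub (.split 10 16 (.cub (.split 12 16 (.cub (.bad 11)) (.split 12 2048 (.cub (.bad 17)) (.split 12 32768 (.cub (.bad 11)) (.split 12 131072 (.cub (.bad 11)) (.cub (.bad 11))))))) (.split 10 2048 (.cub (.split 12 16 (.cub (.bad 17)) (.split 12 2048 (.cub (.bad 17)) (.split 12 32768 (.cub (.bad 17)) (.split 12 131072 (.cub (.oct 502 679 2097182 (.cub (.oct 318 614 2101276 (.oct 721 462 32915 (.cub (.oct 88 40 1246224 (.cub (.good [1, 2, 0, 4, 21, 22, 19, 15, 6, 5, 11, 18, 17, 12, 23, 20, 14, 13, 10, 8, 7, 3, 9, 16] [7, 9, 23, 13, 20, 4, 14, 16, 18, 3, 21, 8, 2, 1, 10, 11, 17, 0, 15, 12, 22, 6, 5, 19]))))))))) (.cub (.bad 17))))))) (.split 10 32768 (.cub (.split 12 16 (.cub (.bad 11)) (.split 12 2048 (.cub (.bad 17)) (.split 12 32768 (.cub (.bad 11)) (.split 12 131072 (.cub (.bad 11)) (.cub (.bad 11))))))) (.split 10 131072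 (.cub (.split 12 16 (.cub (.bad 11)) (.split 12 2048 (.cub (.oct 502 679 2097182 (.oct 318 616 2101276 (.cub (.bad 7))))) (.split 12 32768 (.cub (.bad 11)) (.split 12 131072 (.cub (.bad 11)) (.cub (.bad 11))))))) (.cub (.split 12 16 (.cub (.bad 11)) (.split 12 2048 (.cub (.bad 17)) (.split 12 32768 (.cub (.bad 11)) (.split 12 131072 (.cub (.bad 11)) (.cub (.bad 11)))))))))))) (.split 7 131072 (.cub (.split 10 16 (.cub (.split 12 16 (.cub (.bad 11)) (.split 12 2048 (.cub (.bad 15)) (.split 12 32768 (.cub (.bad 11)) (.split 12 131072 (.cub (.bad 11)) (.cub (.bad 11))))))) (.split 10 2048 (.cub (.split 12 16 (.cub (.bad 15)) (.split 12 2048 (.cub (.bad 15)) (.split 12 32768 (.cub (.oct 502 679 2097182 (.cub (.oct 318 618 2101276 (.oct 307 583 37004 (.bad 19)))))) (.split 12 131072 (.cub (.bad 15)) (.cub (.bad 15))))))) (.split 10 32768 (.cub (.split 12 16 (.cub (.bad 11)) (.split 12 2048 (.cub (.oct 502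 679 2097182 (.oct 318 616 2101276 (.cub (.oct 192 125 37016 (.oct 107 45 166032 (.cub (.good [1, 2, 0, 4, 21, 19, 14, 17, 16, 6, 15, 20, 11, 10, 9, 13, 22, 18, 7, 23, 12, 3, 8, 5] [16, 11, 22, 19, 17, 20, 1, 5, 8, 0, 7, 18, 12, 23, 2, 9, 15, 3, 4, 6, 14, 10, 21, 13])))))))) (.split 12 32768 (.cub (.bad 11)) (.split 12 131072 (.cub (.bad 11)) (.cub (.bad 11))))))) (.split 10 131072 (.cub (.split 12 16 (.cub (.bad 11)) (.split 12 2048 (.cub (.bad 15)) (.split 12 32768 (.cub (.bad 11)) (.split 12 131072 (.cub (.bad 11)) (.cub (.bad 11))))))) (.cub (.split 12 16 (.cub (.bad 11)) (.split 12 2048 (.cub (.bad 15)) (.split 12 32768 (.cub (.bad 11)) (.split 12 131072 (.cub (.bad 11)) (.cub (.bad 11)))))))))))) (.cub (.split 10 16 (.cub (.split 12 16 (.cub (.bad 11)) (.split 12 2048 (.cub (.bad 15)) (.split 12 32768 (.cub (.bad 11)) (.split 12 131072 (.cub (.bad 11)) (.cub (.bad 11))))))) (.split 10 2048 (.cub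 (.split 12 16 (.cub (.bad 15)) (.split 12 2048 (.cub (.bad 15)) (.split 12 32768 (.cub (.bad 17)) (.split 12 131072 (.cub (.bad 15)) (.cub (.bad 15))))))) (.split 10 32768 (.cub (.split 12 16 (.cub (.bad 11)) (.split 12 2048 (.cub (.bad 17)) (.split 12 32768 (.cub (.bad 11)) (.split 12 131072 (.cub (.bad 11)) (.cub (.bad 11))))))) (.split 10 131072 (.cub (.split 12 16 (.cub (.bad 11)) (.split 12 2048 (.cub (.bad 15)) (.split 12 32768 (.cub (.bad 11)) (.split 12 131072 (.cub (.bad 11)) (.cub (.bad 11))))))) (.cub (.split 12 16 (.cub (.bad 11)) (.split 12 2048 (.cub (.bad 15)) (.split 12 32768 (.cub (.bad 11)) (.split 12 131072 (.cub (.bad 11)) (.cub (.bad 11)))))))))))))))))) (.split 4 4194304 (.oct 758 750 31 (.cub (.split 7 16 (.cub (.split 10 16 (.cub (.split 12 16 (.cub (.bad 13)) (.split 12 8192 (.cub (.bad 16)) (.split 12 65536 (.cub (.bad 13)) (.split 12 4194304 (.cub (.bad 13)) (.cub (.bad 13)))))))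 (.split 10 8192 (.cub (.split 12 16 (.cub (.bad 16)) (.split 12 8192 (.cub (.bad 16)) (.split 12 65536 (.cub (.bad 23)) (.split 12 4194304 (.cub (.bad 16)) (.cub (.bad 16))))))) (.split 10 65536 (.cub (.split 12 16 (.cub (.bad 13)) (.split 12 8192 (.cub (.bad 23)) (.split 12 65536 (.cub (.bad 13)) (.split 12 4194304 (.cub (.bad 13)) (.cub (.bad 13))))))) (.split 10 4194304 (.cub (.split 12 16 (.cub (.bad 13)) (.split 12 8192 (.cub (.bad 16)) (.split 12 65536 (.cub (.bad 13)) (.split 12 4194304 (.cub (.bad 13)) (.cub (.bad 13))))))) (.cub (.split 12 16 (.cub (.bad 13)) (.split 12 8192 (.cub (.bad 16)) (.split 12 65536 (.cub (.bad 13)) (.split 12 4194304 (.cub (.bad 13)) (.cub (.bad 13)))))))))))) (.split 7 8192 (.cub (.split 10 16 (.cub (.split 12 16 (.cub (.bad 16)) (.split 12 8192 (.cub (.bad 16)) (.split 12 65536 (.cub (.bad 23)) (.split 12 4194304 (.cub (.bad 16)) (.cub (.bad 16))))))) (.split 10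 8192 (.cub (.split 12 16 (.cub (.bad 16)) (.split 12 8192 (.cub (.bad 16)) (.split 12 65536 (.cub (.bad 23)) (.split 12 4194304 (.cub (.bad 16)) (.cub (.bad 16))))))) (.split 10 65536 (.cub (.split 12 16 (.cub (.bad 23)) (.split 12 8192 (.cub (.bad 23)) (.split 12 65536 (.cub (.bad 23)) (.split 12 4194304 (.cub (.bad 23)) (.cub (.oct 738 757 4198407 (.oct 722 504 4198411 (.oct 499 679 4198414 (.cub (.oct 381 217 2105538 (.cub (.good [1, 2, 0, 4, 22, 8, 12, 13, 19, 10, 16, 7, 23, 11, 20, 18, 9, 14, 21, 5, 17, 15, 3, 6] [3, 4, 5, 11, 22, 8, 20, 19, 15, 12, 18, 10, 6, 17, 2, 23, 14, 1, 7, 21, 0, 9, 16, 13]))))))))))))) (.split 10 4194304 (.cub (.split 12 16 (.cub (.bad 16)) (.split 12 8192 (.cub (.bad 16)) (.split 12 65536 (.cub (.bad 23)) (.split 12 4194304 (.cub (.bad 16)) (.cub (.bad 16))))))) (.cub (.split 12 16 (.cub (.bad 16)) (.split 12 8192 (.cub (.bad 16)) (.split 12 65536 (.cub (.oct 499 678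 4198414 (.cub (.oct 443 323 4194458 (.bad 16))))) (.split 12 4194304 (.cub (.bad 16)) (.cub (.bad 16)))))))))))) (.split 7 65536 (.cub (.split 10 16 (.cub (.split 12 16 (.cub (.bad 13)) (.split 12 8192 (.cub (.bad 23)) (.split 12 65536 (.cub (.bad 13)) (.split 12 4194304 (.cub (.bad 13)) (.cub (.bad 13))))))) (.split 10 8192 (.cub (.split 12 16 (.cub (.bad 23)) (.split 12 8192 (.cub (.bad 23)) (.split 12 65536 (.cub (.bad 23)) (.split 12 4194304 (.cub (.bad 23)) (.cub (.oct 722 504 4198411 (.cub (.oct 622 443 4194457 (.bad 23)))))))))) (.split 10 65536 (.cub (.split 12 16 (.cub (.bad 13)) (.split 12 8192 (.cub (.bad 23)) (.split 12 65536 (.cub (.bad 13)) (.split 12 4194304 (.cub (.bad 13)) (.cub (.bad 13))))))) (.split 10 4194304 (.cub (.split 12 16 (.cub (.bad 13)) (.split 12 8192 (.cub (.bad 23)) (.split 12 65536 (.cub (.bad 13)) (.split 12 4194304 (.cub (.bad 13)) (.cub (.bad 13))))))) (.cub (.split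 12 16 (.cub (.bad 13)) (.split 12 8192 (.cub (.oct 738 754 4198407 (.oct 668 735 4198413 (.oct 722 505 4198411 (.cub (.oct 551 376 66433 (.cub (.good [1, 2, 0, 4, 22, 17, 7, 16, 14, 12, 23, 10, 13, 9, 15, 8, 6, 21, 19, 20, 18, 5, 3, 11] [22, 16, 11, 12, 18, 19, 6, 13, 23, 21, 4, 3, 8, 15, 7, 9, 20, 17, 0, 1, 2, 10, 14, 5])))))))) (.split 12 65536 (.cub (.bad 13)) (.split 12 4194304 (.cub (.bad 13)) (.cub (.bad 13)))))))))))) (.split 7 4194304 (.cub (.split 10 16 (.cub (.split 12 16 (.cub (.bad 13)) (.split 12 8192 (.cub (.bad 16)) (.split 12 65536 (.cub (.bad 13)) (.split 12 4194304 (.cub (.bad 13)) (.cub (.bad 13))))))) (.split 10 8192 (.cub (.split 12 16 (.cub (.bad 16)) (.split 12 8192 (.cub (.bad 16)) (.split 12 65536 (.cub (.bad 23)) (.split 12 4194304 (.cub (.bad 16)) (.cub (.bad 16))))))) (.split 10 65536 (.cub (.split 12 16 (.cub (.bad 13)) (.split 12 8192 (.cub (.bad 23)) (.split 12 65536 (.cub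 (.bad 13)) (.split 12 4194304 (.cub (.bad 13)) (.cub (.bad 13))))))) (.split 10 4194304 (.cub (.split 12 16 (.cub (.bad 13)) (.split 12 8192 (.cub (.bad 16)) (.split 12 65536 (.cub (.bad 13)) (.split 12 4194304 (.cub (.bad 13)) (.cub (.bad 13))))))) (.cub (.split 12 16 (.cub (.bad 13)) (.split 12 8192 (.cub (.bad 16)) (.split 12 65536 (.cub (.bad 13)) (.split 12 4194304 (.cub (.bad 13)) (.cub (.bad 13)))))))))))) (.cub (.split 10 16 (.cub (.split 12 16 (.cub (.bad 13)) (.split 12 8192 (.cub (.bad 16)) (.split 12 65536 (.cub (.bad 13)) (.split 12 4194304 (.cub (.bad 13)) (.cub (.bad 13))))))) (.split 10 8192 (.cub (.split 12 16 (.cub (.bad 16)) (.split 12 8192 (.cub (.bad 16)) (.split 12 65536 (.cub (.oct 738 755 4198407 (.oct 499 678 4198414 (.oct 668 737 4198413 (.cub (.oct 254 510 8390820 (.cub (.good [1, 2, 0, 4, 22, 18, 10, 23, 21, 7, 13, 12, 16, 6, 5, 17, 11, 19, 14, 15, 8, 20, 3, 9] [12, 18, 14,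 0, 1, 16, 20, 19, 8, 10, 6, 5, 3, 13, 22, 9, 4, 23, 11, 7, 21, 15, 2, 17])))))))) (.split 12 4194304 (.cub (.bad 16)) (.cub (.bad 16))))))) (.split 10 65536 (.cub (.split 12 16 (.cub (.bad 13)) (.split 12 8192 (.cub (.oct 668 735 4198413 (.cub (.oct 323 622 4194460 (.bad 13))))) (.split 12 65536 (.cub (.bad 13)) (.split 12 4194304 (.cub (.bad 13)) (.cub (.bad 13))))))) (.split 10 4194304 (.cub (.split 12 16 (.cub (.bad 13)) (.split 12 8192 (.cub (.bad 16)) (.split 12 65536 (.cub (.bad 13)) (.split 12 4194304 (.cub (.bad 13)) (.cub (.bad 13))))))) (.cub (.split 12 16 (.cub (.bad 13)) (.split 12 8192 (.cub (.bad 16)) (.split 12 65536 (.cub (.bad 13)) (.split 12 4194304 (.cub (.bad 13)) (.cub (.bad 13)))))))))))))))))) (.oct 758 750 31 (.cub (.split 7 16 (.cub (.split 10 16 (.cub (.split 12 16 (.cub (.bad 13)) (.split 12 8192 (.cub (.bad 16)) (.split 12 65536 (.cub (.bad 13)) (.split 12 4194304 (.cub (.bad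 13)) (.cub (.bad 13))))))) (.split 10 8192 (.cub (.split 12 16 (.cub (.bad 16)) (.split 12 8192 (.cub (.bad 16)) (.split 12 65536 (.cub (.bad 22)) (.split 12 4194304 (.cub (.bad 16)) (.cub (.bad 16))))))) (.split 10 65536 (.cub (.split 12 16 (.cub (.bad 13)) (.split 12 8192 (.cub (.bad 22)) (.split 12 65536 (.cub (.bad 13)) (.split 12 4194304 (.cub (.bad 13)) (.cub (.bad 13))))))) (.split 10 4194304 (.cub (.split 12 16 (.cub (.bad 13)) (.split 12 8192 (.cub (.bad 16)) (.split 12 65536 (.cub (.bad 13)) (.split 12 4194304 (.cub (.bad 13)) (.cub (.bad 13))))))) (.cub (.split 12 16 (.cub (.bad 13)) (.split 12 8192 (.cub (.bad 16)) (.split 12 65536 (.cub (.bad 13)) (.split 12 4194304 (.cub (.bad 13)) (.cub (.bad 13)))))))))))) (.split 7 8192 (.cub (.split 10 16 (.cub (.split 12 16 (.cub (.bad 16)) (.split 12 8192 (.cub (.bad 16)) (.split 12 65536 (.cub (.bad 22)) (.split 12 4194304 (.cub (.bad 16)) (.cub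 (.bad 16))))))) (.split 10 8192 (.cub (.split 12 16 (.cub (.bad 16)) (.split 12 8192 (.cub (.bad 16)) (.split 12 65536 (.cub (.bad 22)) (.split 12 4194304 (.cub (.bad 16)) (.cub (.bad 16))))))) (.split 10 65536 (.cub (.split 12 16 (.cub (.bad 22)) (.split 12 8192 (.cub (.bad 22)) (.split 12 65536 (.cub (.bad 22)) (.split 12 4194304 (.cub (.oct 504 679 8388638 (.cub (.oct 487 666 8392726 (.oct 399 222 2101394 (.bad 6)))))) (.cub (.bad 22))))))) (.split 10 4194304 (.cub (.split 12 16 (.cub (.bad 16)) (.split 12 8192 (.cub (.bad 16)) (.split 12 65536 (.cub (.oct 504 679 8388638 (.oct 487 673 8392726 (.cub (.oct 586 449 10551305 (.oct 334 236 3158018 (.cub (.good [1, 2, 0, 4, 23, 12, 21, 13, 19, 11, 22, 15, 16, 14, 7, 9, 5, 10, 8, 18, 6, 20, 17, 3] [18, 14, 12, 6, 13, 23, 2, 5, 17, 8, 22, 15, 7, 3, 4, 21, 9, 11, 19, 10, 1, 0, 16, 20])))))))) (.split 12 4194304 (.cub (.bad 16)) (.cub (.bad 16))))))) (.cub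 (.split 12 16 (.cub (.bad 16)) (.split 12 8192 (.cub (.bad 16)) (.split 12 65536 (.cub (.bad 22)) (.split 12 4194304 (.cub (.bad 16)) (.cub (.bad 16)))))))))))) (.split 7 65536 (.cub (.split 10 16 (.cub (.split 12 16 (.cub (.bad 13)) (.split 12 8192 (.cub (.bad 22)) (.split 12 65536 (.cub (.bad 13)) (.split 12 4194304 (.cub (.bad 13)) (.cub (.bad 13))))))) (.split 10 8192 (.cub (.split 12 16 (.cub (.bad 22)) (.split 12 8192 (.cub (.bad 22)) (.split 12 65536 (.cub (.bad 22)) (.split 12 4194304 (.cub (.oct 504 679 8388638 (.cub (.oct 487 666 8392726 (.oct 727 485 2097291 (.cub (.oct 149 93 2359688 (.cub (.good [1, 2, 0, 4, 23, 10, 8, 16, 11, 20, 13, 6, 22, 5, 12, 21, 17, 7, 9, 15, 18, 19, 14, 3] [15, 21, 8, 2, 0, 14, 10, 20, 19, 16, 12, 17, 7, 18, 23, 5, 6, 13, 22, 4, 11, 3, 9, 1]))))))))) (.cub (.bad 22))))))) (.split 10 65536 (.cub (.split 12 16 (.cub (.bad 13)) (.split 12 8192 (.cub (.bad 22)) (.split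 12 65536 (.cub (.bad 13)) (.split 12 4194304 (.cub (.bad 13)) (.cub (.bad 13))))))) (.split 10 4194304 (.cub (.split 12 16 (.cub (.bad 13)) (.split 12 8192 (.cub (.oct 504 679 8388638 (.cub (.oct 487 671 8392726 (.oct 618 402 2097305 (.bad 15)))))) (.split 12 65536 (.cub (.bad 13)) (.split 12 4194304 (.cub (.bad 13)) (.cub (.bad 13))))))) (.cub (.split 12 16 (.cub (.bad 13)) (.split 12 8192 (.cub (.bad 22)) (.split 12 65536 (.cub (.bad 13)) (.split 12 4194304 (.cub (.bad 13)) (.cub (.bad 13)))))))))))) (.split 7 4194304 (.cub (.split 10 16 (.cub (.split 12 16 (.cub (.bad 13)) (.split 12 8192 (.cub (.bad 16)) (.split 12 65536 (.cub (.bad 13)) (.split 12 4194304 (.cub (.bad 13)) (.cub (.bad 13))))))) (.split 10 8192 (.cub (.split 12 16 (.cub (.bad 16)) (.split 12 8192 (.cub (.bad 16)) (.split 12 65536 (.cub (.oct 504 679 8388638 (.oct 487 673 8392726 (.cub (.oct 458 652 69766 (.bad 15)))))) (.split 12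 4194304 (.cub (.bad 16)) (.cub (.bad 16))))))) (.split 10 65536 (.cub (.split 12 16 (.cub (.bad 13)) (.split 12 8192 (.cub (.oct 504 679 8388638 (.cub (.oct 487 671 8392726 (.oct 273 527 2101396 (.cub (.oct 518 436 8487041 (.cub (.good [1, 2, 0, 4, 23, 7, 9, 22, 20, 19, 16, 18, 13, 17, 10, 8, 14, 12, 21, 6, 15, 11, 5, 3] [21, 8, 15, 22, 16, 3, 9, 4, 17, 23, 0, 20, 14, 12, 2, 19, 1, 18, 6, 7, 10, 13, 5, 11]))))))))) (.split 12 65536 (.cub (.bad 13)) (.split 12 4194304 (.cub (.bad 13)) (.cub (.bad 13))))))) (.split 10 4194304 (.cub (.split 12 16 (.cub (.bad 13)) (.split 12 8192 (.cub (.bad 16)) (.split 12 65536 (.cub (.bad 13)) (.split 12 4194304 (.cub (.bad 13)) (.cub (.bad 13))))))) (.cub (.split 12 16 (.cub (.bad 13)) (.split 12 8192 (.cub (.bad 16)) (.split 12 65536 (.cub (.bad 13)) (.split 12 4194304 (.cub (.bad 13)) (.cub (.bad 13)))))))))))) (.cub (.split 10 16 (.cub (.split 12 16 (.cub (.bad 13))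 (.split 12 8192 (.cub (.bad 16)) (.split 12 65536 (.cub (.bad 13)) (.split 12 4194304 (.cub (.bad 13)) (.cub (.bad 13))))))) (.split 10 8192 (.cub (.split 12 16 (.cub (.bad 16)) (.split 12 8192 (.cub (.bad 16)) (.split 12 65536 (.cub (.bad 22)) (.split 12 4194304 (.cub (.bad 16)) (.cub (.bad 16))))))) (.split 10 65536 (.cub (.split 12 16 (.cub (.bad 13)) (.split 12 8192 (.cub (.bad 22)) (.split 12 65536 (.cub (.bad 13)) (.split 12 4194304 (.cub (.bad 13)) (.cub (.bad 13))))))) (.split 10 4194304 (.cub (.split 12 16 (.cub (.bad 13)) (.split 12 8192 (.cub (.bad 16)) (.split 12 65536 (.cub (.bad 13)) (.split 12 4194304 (.cub (.bad 13)) (.cub (.bad 13))))))) (.cub (.split 12 16 (.cub (.bad 13)) (.split 12 8192 (.cub (.bad 16)) (.split 12 65536 (.cub (.bad 13)) (.split 12 4194304 (.cub (.bad 13)) (.cub (.bad 13)))))))))))))))))))))))))))))))))))))))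

theorem tree2_ok : check [] 2 (conjQ lA lB) tree2 (imgs [(0, 1), (1, 0), (2, 3), (3, 2)]) = true := by decide +kernel

theorem tree3_ok : check [] 3 (conjQ l3A l3B) tree3 (imgs [(0, 1), (1, 2), (2, 0), (3, 4)]) = true := by decide +kernel


theorem class_std2 {g : Equiv.Perm GolayPt} (hg : g ∈ M24) (h2 : g * g = 1)
    (h : ∀ x ∈ [(0, 1), (1, 0), (2, 3), (3, 2)], x.2 < 24 ∧ g (pt x.1) = pt x.2) :
    ∃ c ∈ M24, c * g * c⁻¹ = zA ∨ c * g * c⁻¹ = zB := by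
  obtain ⟨l, k, hl, hQ⟩ := check_spec hg (rels_nil g) (e := 2) (fun _ => h2) (fun h => absurd h (by norm_num))
    (conjQ lA lB) tree2 _ tree2_ok (val_imgs _ h)
  exact conjQ_spec rep_zA rep_zB hl hQ

theorem class_std3 {g : Equiv.Perm GolayPt} (hg : g ∈ M24) (h3 : g * g * g = 1)
    (h : ∀ x ∈ [(0, 1), (1, 2), (2, 0), (3, 4)], x.2 < 24 ∧ g (pt x.1) = pt x.2) :
    ∃ c ∈ M24, c * g * c⁻¹ = zC ∨ c * g * c⁻¹ = zD := by
  obtain ⟨l, k, hl, hQ⟩ := check_spec hg (rels_nil g) (e := 3) (fun h => absurd h (by norm_num)) (fun _ => h3)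
    (conjQ l3A l3B) tree3 _ tree3_ok (val_imgs _ h)
  exact conjQ_spec rep_zC rep_zD hl hQ

theorem orderOf_two {G : Type*} [Group G] {g : G} (h : orderOf g = 2) : g * g = 1 ∧ g ≠ 1 := by
  constructor
  · rw [← pow_two, ← h, pow_orderOf_eq_one]
  · rintro rfl; rw [orderOf_one] at h; omega

theorem orderOf_three {G : Type*} [Group G] {g : G} (h : orderOf g = 3) : g * g * g = 1 ∧ g ≠ 1 := by
  constructor
  · rw [← pow_three', ← h, pow_orderOf_eq_one]
  · rintro rfl; rw [orderOf_one] at h; omega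

/-- outside a set of at most 15 points a nontrivial element of `M24` moves something -/
theorem exists_moved {g : Equiv.Perm GolayPt} (hg : g ∈ M24) (h1 : g ≠ 1) (s : Finset GolayPt) (hs : s.card ≤ 15) :
    ∃ a, a ∉ s ∧ g a ≠ a := by
  by_contra hcon
  push Not at hcon
  apply h1
  apply H7.M24c.fix_nine hg sᶜ
  · rw [Finset.card_compl]
    have : Fintype.card GolayPt = 24 := by decide
    omega
  · intro p hp
    exact hcon p (Finset.mem_compl.1 hp)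

theorem inj4 {α : Type*} {a b c d : α} (h1 : a ≠ b) (h2 : a ≠ c) (h3 : a ≠ d) (h4 : b ≠ c) (h5 : b ≠ d)
    (h6 : c ≠ d) : Function.Injective ![a, b, c, d] := by
  intro i j hij
  fin_cases i <;> fin_cases j <;> first
    | rfl | exact absurd hij h1 | exact absurd hij h1.symm | exact absurd hij h2 | exact absurd hij h2.symm
    | exact absurd hij h3 | exact absurd hij h3.symm | exact absurd hij h4 | exact absurd hij h4.symm
    | exact absurd hij h5 | exact absurd hij h5.symm | exact absurd hij h6 | exact absurd hij h6.symm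

theorem inj5 {α : Type*} {a b c d e : α} (h1 : a ≠ b) (h2 : a ≠ c) (h3 : a ≠ d) (h4 : b ≠ c) (h5 : b ≠ d)
    (h6 : c ≠ d) (h7 : a ≠ e) (h8 : b ≠ e) (h9 : c ≠ e) (h10 : d ≠ e) : Function.Injective ![a, b, c, d, e] := by
  intro i j hij
  fin_cases i <;> fin_cases j <;> first
    | rfl | exact absurd hij h1 | exact absurd hij h1.symm | exact absurd hij h2 | exact absurd hij h2.symm
    | exact absurd hij h3 | exact absurd hij h3.symm | exact absurd hij h4 | exact absurd hij h4.symm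
    | exact absurd hij h5 | exact absurd hij h5.symm | exact absurd hij h6 | exact absurd hij h6.symm
    | exact absurd hij h7 | exact absurd hij h7.symm | exact absurd hij h8 | exact absurd hij h8.symm
    | exact absurd hij h9 | exact absurd hij h9.symm | exact absurd hij h10 | exact absurd hij h10.symm

theorem pt_injective (k : ℕ) (hk : k ≤ 24) : Function.Injective (fun i : Fin k => pt i.val) := by
  intro i j hij
  have : i.val = j.val := (pt_inj (by omega) (by omega)).1 hij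
  exact Fin.ext this

theorem inv_class {g : Equiv.Perm GolayPt} (hg : g ∈ M24) (h : orderOf g = 2) :
    ∃ c ∈ M24, c * g * c⁻¹ = zA ∨ c * g * c⁻¹ = zB := by
  obtain ⟨h2, h1⟩ := orderOf_two h
  have hgg : ∀ x, g (g x) = x := fun x => by rw [← Equiv.Perm.mul_apply, h2]; rfl
  obtain ⟨a, -, ha⟩ := exists_moved hg h1 ∅ (by simp)
  obtain ⟨b, hb, hb'⟩ := exists_moved hg h1 {a, g a} ((Finset.card_le_two).trans (by norm_num))
  rw [Finset.mem_insert, Finset.mem_singleton, not_or] at hb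
  have hgb : g b ≠ a := fun e => hb.2 (by rw [← e, hgg])
  have hgb' : g b ≠ g a := fun e => hb.1 (g.injective e)
  obtain ⟨c, hc, hx⟩ := H7.M24b.ktrans 4 (by norm_num) ![a, g a, b, g b] (fun i => pt i.val)
    (inj4 (Ne.symm ha) (Ne.symm hb.1) hgb.symm (Ne.symm hb.2) hgb'.symm (Ne.symm hb')) (pt_injective 4 (by norm_num))
  have e0 : c a = pt 0 := hx 0
  have e1 : c (g a) = pt 1 := hx 1
  have e2 : c b = pt 2 := hx 2
  have e3 : c (g b) = pt 3 := hx 3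
  have hk : (c * g * c⁻¹) * (c * g * c⁻¹) = 1 := by
    calc (c * g * c⁻¹) * (c * g * c⁻¹) = c * (g * g) * c⁻¹ := by group
      _ = 1 := by rw [h2]; group
  obtain ⟨d, hd, hdd⟩ := class_std2 (g := c * g * c⁻¹) (mul_mem (mul_mem hc hg) (inv_mem hc)) hk (by
    intro x hx
    simp only [List.mem_cons, List.not_mem_nil, or_false] at hx
    rcases hx with rfl | rfl | rfl | rfl
    · refine ⟨by norm_num, ?_⟩
      show c (g (c⁻¹ (pt 0))) = pt 1
      rw [← e0, ← Equiv.Perm.mul_apply c⁻¹ c, inv_mul_cancel, Equiv.Perm.one_apply, e1]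
    · refine ⟨by norm_num, ?_⟩
      show c (g (c⁻¹ (pt 1))) = pt 0
      rw [← e1, ← Equiv.Perm.mul_apply c⁻¹ c, inv_mul_cancel, Equiv.Perm.one_apply, hgg, e0]
    · refine ⟨by norm_num, ?_⟩
      show c (g (c⁻¹ (pt 2))) = pt 3
      rw [← e2, ← Equiv.Perm.mul_apply c⁻¹ c, inv_mul_cancel, Equiv.Perm.one_apply, e3]
    · refine ⟨by norm_num, ?_⟩
      show c (g (c⁻¹ (pt 3))) = pt 2
      rw [← e3, ← Equiv.Perm.mul_apply c⁻¹ c, inv_mul_cancel, Equiv.Perm.one_apply, hgg, e2])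
  refine ⟨d * c, mul_mem hd hc, ?_⟩
  have e : d * c * g * (d * c)⁻¹ = d * (c * g * c⁻¹) * d⁻¹ := by group
  rw [e]
  exact hdd

theorem three_class {g : Equiv.Perm GolayPt} (hg : g ∈ M24) (h : orderOf g = 3) :
    ∃ c ∈ M24, c * g * c⁻¹ = zC ∨ c * g * c⁻¹ = zD := by
  obtain ⟨h3, h1⟩ := orderOf_three h
  have hggg : ∀ x, g (g (g x)) = x := fun x => by
    rw [← Equiv.Perm.mul_apply, ← Equiv.Perm.mul_apply, h3]; rfl
  obtain ⟨a, -, ha⟩ := exists_moved hg h1 ∅ (by simp)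
  obtain ⟨b, hb, hb'⟩ := exists_moved hg h1 {a, g a, g (g a)} ((Finset.card_le_three).trans (by norm_num))
  simp only [Finset.mem_insert, Finset.mem_singleton, not_or] at hb
  obtain ⟨hb1, hb2, hb3⟩ := hb
  have hga2 : g (g a) ≠ a := by
    intro e
    have := hggg a
    rw [e] at this
    exact ha this
  have hga3 : g (g a) ≠ g a := fun e => ha (g.injective e)
  have hgb : g b ≠ a := fun e => hb3 (by rw [← e, hggg])
  have hgb' : g b ≠ g a := fun e => hb1 (g.injective e)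
  have hgb'' : g b ≠ g (g a) := fun e => hb2 (g.injective e)
  obtain ⟨c, hc, hx⟩ := H7.M24b.ktrans 5 (by norm_num) ![a, g a, g (g a), b, g b] (fun i => pt i.val)
    (inj5 (Ne.symm ha) hga2.symm (Ne.symm hb1) hga3.symm (Ne.symm hb2) (Ne.symm hb3) hgb.symm hgb'.symm hgb''.symm
      (Ne.symm hb')) (pt_injective 5 (by norm_num))
  have e0 : c a = pt 0 := hx 0
  have e1 : c (g a) = pt 1 := hx 1
  have e2 : c (g (g a)) = pt 2 := hx 2
  have e3 : c b = pt 3 := hx 3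
  have e4 : c (g b) = pt 4 := hx 4
  have hk : (c * g * c⁻¹) * (c * g * c⁻¹) * (c * g * c⁻¹) = 1 := by
    calc (c * g * c⁻¹) * (c * g * c⁻¹) * (c * g * c⁻¹) = c * (g * g * g) * c⁻¹ := by group
      _ = 1 := by rw [h3]; group
  obtain ⟨d, hd, hdd⟩ := class_std3 (g := c * g * c⁻¹) (mul_mem (mul_mem hc hg) (inv_mem hc)) hk (by
    intro x hx
    simp only [List.mem_cons, List.not_mem_nil, or_false] at hx
    rcases hx with rfl | rfl | rfl | rfl
    · refine ⟨by norm_num, ?_⟩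
      show c (g (c⁻¹ (pt 0))) = pt 1
      rw [← e0, ← Equiv.Perm.mul_apply c⁻¹ c, inv_mul_cancel, Equiv.Perm.one_apply, e1]
    · refine ⟨by norm_num, ?_⟩
      show c (g (c⁻¹ (pt 1))) = pt 2
      rw [← e1, ← Equiv.Perm.mul_apply c⁻¹ c, inv_mul_cancel, Equiv.Perm.one_apply, e2]
    · refine ⟨by norm_num, ?_⟩
      show c (g (c⁻¹ (pt 2))) = pt 0
      rw [← e2, ← Equiv.Perm.mul_apply c⁻¹ c, inv_mul_cancel, Equiv.Perm.one_apply, hggg, e0]
    · refine ⟨by norm_num, ?_⟩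
      show c (g (c⁻¹ (pt 3))) = pt 4
      rw [← e3, ← Equiv.Perm.mul_apply c⁻¹ c, inv_mul_cancel, Equiv.Perm.one_apply, e4])
  refine ⟨d * c, mul_mem hd hc, ?_⟩
  have e : d * c * g * (d * c)⁻¹ = d * (c * g * c⁻¹) * d⁻¹ := by group
  rw [e]
  exact hdd

end Cfsg.Agent.H28.Cls
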