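import Mathlib
import Cfsg.Agent.H28_Cls

set_option autoImplicit false

/-!
Fixed points of the class representatives, conjugation.
-/

namespace Cfsg.Agent.H28.Cls

open Cfsg Cfsg.Agent.H7.Golay Cfsg.Agent.H7.Oct Cfsg.Agent.H7.M24 Cfsg.Agent.H28.Pk Cfsg.Agent.H28.Tree
open Cfsg.Agent.H14.M24Eng hiding Tr check_spec Val
open scoped Pointwise

/-- fixed points -/
def fixF (g : Equiv.Perm GolayPt) : Finset GolayPt := Finset.univ.filter fun p => g p = p

theorem mem_fixF {g : Equiv.Perm GolayPt} {p : GolayPt} : p ∈ fixF g ↔ g p = p := by simp [fixF]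

theorem fixF_conj (c g : Equiv.Perm GolayPt) : fixF (c * g * c⁻¹) = c • fixF g := by
  ext p
  rw [mem_fixF, Finset.mem_smul_finset]
  constructor
  · intro h
    refine ⟨c⁻¹ p, ?_, by show c (c⁻¹ p) = p; exact c.apply_symm_apply p⟩
    rw [mem_fixF]
    apply c.injective
    have h2 : c (c⁻¹ p) = p := c.apply_symm_apply p
    rw [h2]
    exact h
  · rintro ⟨q, hq, rfl⟩
    rw [mem_fixF] at hq
    show c (g (c⁻¹ (c q))) = c q
    have h2 : c⁻¹ (c q) = q := c.symm_apply_apply q
    rw [h2, hq]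

theorem fixF_pow_le (g : Equiv.Perm GolayPt) (n : ℕ) : fixF g ⊆ fixF (g ^ n) := by
  intro p hp
  rw [mem_fixF] at hp ⊢
  induction n with
  | zero => rfl
  | succ n ih => rw [pow_succ, Equiv.Perm.mul_apply, hp, ih]

/-- mask of the fixed points -/
noncomputable def fixMask (l : List ℕ) : ℕ → ℕ :=
  List.rec (fun _ => 0) (fun a _ ih i => Nat.lor (bif Nat.beq a i then Nat.pow 2 i else 0) (ih (Nat.succ i))) l

theorem testBit_fixMask (l : List ℕ) : ∀ (n i : ℕ), (fixMask l n).testBit i = true ↔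
    ∃ h : i - n < l.length, n ≤ i ∧ l[i - n] = i := by
  induction l with
  | nil => intro n i; change (0 : ℕ).testBit i = true ↔ _; simp
  | cons a l ih =>
    intro n i
    change (Nat.lor (bif Nat.beq a n then Nat.pow 2 n else 0) (fixMask l (Nat.succ n))).testBit i = true ↔ _
    rw [lor_testBit, Bool.or_eq_true, ih]
    have h1 : (bif Nat.beq a n then Nat.pow 2 n else 0).testBit i = true ↔ a = n ∧ n = i := by
      by_cases h : a = n
      · have : Nat.beq a n = true := by rw [h]; exact Nat.beq_refl n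
        rw [this]
        change (2 ^ n).testBit i = true ↔ _
        rw [Nat.testBit_two_pow]
        simp [h]
      · have : Nat.beq a n = false := by
          by_contra hc
          exact h (Nat.eq_of_beq_eq_true (by simpa using hc))
        rw [this]
        change (0 : ℕ).testBit i = true ↔ _
        simp [h]
    rw [h1]
    constructor
    · rintro (⟨rfl, rfl⟩ | ⟨h, h2, h3⟩)
      · exact ⟨by simp, le_rfl, by simp⟩
      · have e : i - n = (i - Nat.succ n) + 1 := by omega
        refine ⟨by rw [e]; simpa using h, by omega, ?_⟩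
        simp only [e, List.getElem_cons_succ]
        exact h3
    · rintro ⟨h, h2, h3⟩
      rcases Nat.eq_or_lt_of_le h2 with rfl | h2
      · left
        simp only [Nat.sub_self, List.getElem_cons_zero] at h3
        exact ⟨h3, rfl⟩
      · right
        have e : i - n = (i - Nat.succ n) + 1 := by omega
        simp only [e, List.getElem_cons_succ] at h3
        exact ⟨by rw [e] at h; simpa using h, h2, h3⟩

theorem fixF_rep {g : Equiv.Perm GolayPt} {l : List ℕ} (h : Rep g l) : fixF g = ofMask (fixMask l 0) := by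
  ext p
  rw [mem_fixF, mem_ofMask, testBit_fixMask]
  have hlt : ix p < l.length := by rw [h.1]; exact ix_lt p
  have h2 := h.2 p
  rw [List.getD_eq_getElem _ _ hlt] at h2
  constructor
  · intro hp
    rw [hp] at h2
    refine ⟨by simpa using hlt, Nat.zero_le _, ?_⟩
    simp only [Nat.sub_zero]
    exact h2.symm
  · rintro ⟨_, _, h3⟩
    simp only [Nat.sub_zero] at h3
    apply ix_injective
    rw [h2, h3]

theorem fix_zA : fixF zA = ofMask 5279 := by
  rw [fixF_rep rep_zA]; congr 1

theorem fix_zB : fixF zB = ∅ := by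
  rw [fixF_rep rep_zB, ← ofMask_zero]; congr 1

theorem fix_zC : fixF zC = ofMask 63 := by
  rw [fixF_rep rep_zC]; congr 1

theorem fix_zD : fixF zD = ∅ := by
  rw [fixF_rep rep_zD, ← ofMask_zero]; congr 1

theorem mul_eq_one {g : Equiv.Perm GolayPt} {l : List ℕ} (h : Rep g l) (h2 : comp l l = List.range 24) : g * g = 1 :=
  (rep_mul h h).unique (h2 ▸ rep_one)

theorem mul_eq_one3 {g : Equiv.Perm GolayPt} {l : List ℕ} (h : Rep g l) (h2 : comp (comp l l) l = List.range 24) :
    g * g * g = 1 := (rep_mul (rep_mul h h) h).unique (h2 ▸ rep_one)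

theorem zA_sq : zA * zA = 1 := mul_eq_one rep_zA (by decide)
theorem zB_sq : zB * zB = 1 := mul_eq_one rep_zB (by decide)
theorem zC_cube : zC * zC * zC = 1 := mul_eq_one3 rep_zC (by decide)
theorem zD_cube : zD * zD * zD = 1 := mul_eq_one3 rep_zD (by decide)

theorem ne_one_of_fix {g : Equiv.Perm GolayPt} (h : (fixF g).card < 24) : g ≠ 1 := by
  rintro rfl
  have : fixF 1 = Finset.univ := by
    ext p; simp [mem_fixF]
  rw [this, Finset.card_univ] at h
  have : Fintype.card GolayPt = 24 := by decide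
  omega

theorem card_fix_zA : (fixF zA).card = 8 := by rw [fix_zA, card_ofMask]; decide
theorem card_fix_zB : (fixF zB).card = 0 := by rw [fix_zB]; rfl
theorem card_fix_zC : (fixF zC).card = 6 := by rw [fix_zC, card_ofMask]; decide
theorem card_fix_zD : (fixF zD).card = 0 := by rw [fix_zD]; rfl

theorem order_zA : orderOf zA = 2 := by
  apply orderOf_eq_prime _ (ne_one_of_fix (by rw [card_fix_zA]; norm_num))
  rw [pow_two, zA_sq]
theorem order_zB : orderOf zB = 2 := by
  apply orderOf_eq_prime _ (ne_one_of_fix (by rw [card_fix_zB]; norm_num))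
  rw [pow_two, zB_sq]
theorem order_zC : orderOf zC = 3 := by
  have : Fact (Nat.Prime 3) := ⟨Nat.prime_three⟩
  apply orderOf_eq_prime _ (ne_one_of_fix (by rw [card_fix_zC]; norm_num))
  rw [pow_three', zC_cube]
theorem order_zD : orderOf zD = 3 := by
  have : Fact (Nat.Prime 3) := ⟨Nat.prime_three⟩
  apply orderOf_eq_prime _ (ne_one_of_fix (by rw [card_fix_zD]; norm_num))
  rw [pow_three', zD_cube]

theorem card_fix_conj (c g : Equiv.Perm GolayPt) : (fixF (c * g * c⁻¹)).card = (fixF g).card := by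
  rw [fixF_conj, Finset.card_smul_finset]

theorem octad_zA : fixF zA ∈ octads := by
  rw [fix_zA]
  exact (ofMask_mem_octads (by norm_num)).2 octad0_mem

/-- an involution with fixed points is conjugate to `zA` -/
theorem class_A {g : Equiv.Perm GolayPt} (hg : g ∈ M24) (h : orderOf g = 2) (hf : (fixF g).card ≠ 0) :
    ∃ c ∈ M24, c * g * c⁻¹ = zA := by
  obtain ⟨c, hc, h1 | h1⟩ := inv_class hg h
  · exact ⟨c, hc, h1⟩
  · exfalso
    apply hf
    rw [← card_fix_conj c g, h1, card_fix_zB]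

theorem class_B {g : Equiv.Perm GolayPt} (hg : g ∈ M24) (h : orderOf g = 2) (hf : (fixF g).card ≠ 8) :
    ∃ c ∈ M24, c * g * c⁻¹ = zB := by
  obtain ⟨c, hc, h1 | h1⟩ := inv_class hg h
  · exfalso
    apply hf
    rw [← card_fix_conj c g, h1, card_fix_zA]
  · exact ⟨c, hc, h1⟩

theorem class_C {g : Equiv.Perm GolayPt} (hg : g ∈ M24) (h : orderOf g = 3) (hf : (fixF g).card ≠ 0) :
    ∃ c ∈ M24, c * g * c⁻¹ = zC := by
  obtain ⟨c, hc, h1 | h1⟩ := three_class hg h
  · exact ⟨c, hc, h1⟩
  · exfalso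
    apply hf
    rw [← card_fix_conj c g, h1, card_fix_zD]

theorem class_D {g : Equiv.Perm GolayPt} (hg : g ∈ M24) (h : orderOf g = 3) (hf : (fixF g).card ≠ 6) :
    ∃ c ∈ M24, c * g * c⁻¹ = zD := by
  obtain ⟨c, hc, h1 | h1⟩ := three_class hg h
  · exfalso
    apply hf
    rw [← card_fix_conj c g, h1, card_fix_zC]
  · exact ⟨c, hc, h1⟩

theorem card_zero_iff {g : Equiv.Perm GolayPt} : (fixF g).card = 0 ↔ ∀ p, g p ≠ p := by
  rw [Finset.card_eq_zero, Finset.eq_empty_iff_forall_notMem]
  exact forall_congr' fun p => by rw [mem_fixF]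

/-- the fixed points of an involution -/
theorem inv_fix {g : Equiv.Perm GolayPt} (hg : g ∈ M24) (h : orderOf g = 2) :
    fixF g ∈ octads ∨ (fixF g).card = 0 := by
  obtain ⟨c, hc, h1 | h1⟩ := inv_class hg h
  · left
    have h2 : c • fixF g ∈ octads := by rw [← fixF_conj, h1]; exact octad_zA
    exact (smul_mem_octads_iff hc).1 h2
  · right
    rw [← card_fix_conj c g, h1, card_fix_zB]

theorem three_fix {g : Equiv.Perm GolayPt} (hg : g ∈ M24) (h : orderOf g = 3) :
    (fixF g).card = 6 ∨ (fixF g).card = 0 := by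
  obtain ⟨c, hc, h1 | h1⟩ := three_class hg h
  · left; rw [← card_fix_conj c g, h1, card_fix_zC]
  · right; rw [← card_fix_conj c g, h1, card_fix_zD]

theorem conj_trans {g h z c d : Equiv.Perm GolayPt} (hc : c ∈ M24) (hd : d ∈ M24) (h1 : c * g * c⁻¹ = z)
    (h2 : d * h * d⁻¹ = z) : ∃ k ∈ M24, k * g * k⁻¹ = h := by
  refine ⟨d⁻¹ * c, mul_mem (inv_mem hd) hc, ?_⟩
  have : d⁻¹ * c * g * (d⁻¹ * c)⁻¹ = d⁻¹ * (c * g * c⁻¹) * d := by group
  rw [this, h1, ← h2]; group

theorem inv_conj {g h : Equiv.Perm GolayPt} (hg : g ∈ M24) (hh : h ∈ M24) (h1 : orderOf g = 2) (h2 : orderOf h = 2)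
    (hf : (fixF g).card = (fixF h).card) : ∃ k ∈ M24, k * g * k⁻¹ = h := by
  by_cases h0 : (fixF g).card = 0
  · obtain ⟨c, hc, e1⟩ := class_B hg h1 (by omega)
    obtain ⟨d, hd, e2⟩ := class_B hh h2 (by omega)
    exact conj_trans hc hd e1 e2
  · obtain ⟨c, hc, e1⟩ := class_A hg h1 h0
    obtain ⟨d, hd, e2⟩ := class_A hh h2 (by omega)
    exact conj_trans hc hd e1 e2

theorem three_conj {g h : Equiv.Perm GolayPt} (hg : g ∈ M24) (hh : h ∈ M24) (h1 : orderOf g = 3) (h2 : orderOf h = 3)
    (hf : (fixF g).card = (fixF h).card) : ∃ k ∈ M24, k * g * k⁻¹ = h := by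
  by_cases h0 : (fixF g).card = 0
  · obtain ⟨c, hc, e1⟩ := class_D hg h1 (by omega)
    obtain ⟨d, hd, e2⟩ := class_D hh h2 (by omega)
    exact conj_trans hc hd e1 e2
  · obtain ⟨c, hc, e1⟩ := class_C hg h1 h0
    obtain ⟨d, hd, e2⟩ := class_C hh h2 (by omega)
    exact conj_trans hc hd e1 e2

end Cfsg.Agent.H28.Cls
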