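import Cfsg.Agent.H28_F24L

set_option autoImplicit false
set_option maxRecDepth 1000000

namespace Cfsg.Agent.H28.F24

open Cfsg.Agent.H8.Net Cfsg.Agent.H8.Act5 BK

/-- squares and commutations on the same side -/
def pA : List (List ℕ × List ℕ) := [
  ([1, 1], []),
  ([2, 2], []),
  ([3, 3], []),
  ([4, 4], []),
  ([5, 5], []),
  ([6, 6], []),
  ([7, 7], []),
  ([8, 8], []),
  ([9, 9], []),
  ([10, 10], []),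
  ([11, 11], []),
  ([12, 12], []),
  ([1, 3], [3, 1]),
  ([1, 5], [5, 1]),
  ([1, 7], [7, 1]),
  ([1, 9], [9, 1]),
  ([1, 12], [12, 1]),
  ([3, 5], [5, 3]),
  ([3, 7], [7, 3]),
  ([3, 9], [9, 3]),
  ([3, 12], [12, 3]),
  ([5, 7], [7, 5]),
  ([5, 9], [9, 5]),
  ([5, 12], [12, 5]),
  ([7, 9], [9, 7]),
  ([7, 12], [12, 7]),
  ([9, 12], [12, 9]),
  ([2, 4], [4, 2]),
  ([2, 6], [6, 2]),
  ([2, 10], [10, 2]),
  ([2, 8], [8, 2]),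
  ([2, 11], [11, 2]),
  ([4, 6], [6, 4]),
  ([4, 10], [10, 4]),
  ([4, 8], [8, 4]),
  ([4, 11], [11, 4]),
  ([6, 10], [10, 6]),
  ([6, 8], [8, 6]),
  ([6, 11], [11, 6]),
  ([10, 8], [8, 10]),
  ([10, 11], [11, 10]),
  ([8, 11], [11, 8])]

/-- relations between the two sides -/
def pB : List (List ℕ × List ℕ) := [
  ([1, 13, 2, 14, 1], [13, 2, 14, 1, 13, 2, 14]),
  ([3, 13, 2, 14, 3], [13, 2, 14, 3, 13, 2, 14]),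
  ([5, 13, 2, 14], [13, 2, 14, 5]),
  ([7, 13, 2, 14], [13, 2, 14, 7]),
  ([9, 13, 2, 14], [13, 2, 14, 9]),
  ([12, 13, 2, 14], [13, 2, 14, 12]),
  ([1, 13, 4, 14], [13, 4, 14, 1]),
  ([3, 13, 4, 14, 3], [13, 4, 14, 3, 13, 4, 14]),
  ([5, 13, 4, 14, 5], [13, 4, 14, 5, 13, 4, 14]),
  ([7, 13, 4, 14], [13, 4, 14, 7]),
  ([9, 13, 4, 14, 9], [13, 4, 14, 9, 13, 4, 14]),
  ([12, 13, 4, 14], [13, 4, 14, 12]),
  ([1, 13, 6, 14], [13, 6, 14, 1]),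
  ([3, 13, 6, 14], [13, 6, 14, 3]),
  ([5, 13, 6, 14, 5], [13, 6, 14, 5, 13, 6, 14]),
  ([7, 13, 6, 14, 7], [13, 6, 14, 7, 13, 6, 14]),
  ([9, 13, 6, 14], [13, 6, 14, 9]),
  ([12, 13, 6, 14], [13, 6, 14, 12]),
  ([1, 13, 10, 14], [13, 10, 14, 1]),
  ([3, 13, 10, 14], [13, 10, 14, 3]),
  ([5, 13, 10, 14], [13, 10, 14, 5]),
  ([7, 13, 10, 14], [13, 10, 14, 7]),
  ([9, 13, 10, 14, 9], [13, 10, 14, 9, 13, 10, 14]),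
  ([12, 13, 10, 14], [13, 10, 14, 12]),
  ([1, 13, 8, 14], [13, 8, 14, 1]),
  ([3, 13, 8, 14], [13, 8, 14, 3]),
  ([5, 13, 8, 14], [13, 8, 14, 5]),
  ([7, 13, 8, 14, 7], [13, 8, 14, 7, 13, 8, 14]),
  ([9, 13, 8, 14], [13, 8, 14, 9]),
  ([12, 13, 8, 14], [13, 8, 14, 12]),
  ([1, 13, 11, 14, 1], [13, 11, 14, 1, 13, 11, 14]),
  ([3, 13, 11, 14], [13, 11, 14, 3]),
  ([5, 13, 11, 14], [13, 11, 14, 5]),
  ([7, 13, 11, 14], [13, 11, 14, 7]),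
  ([9, 13, 11, 14], [13, 11, 14, 9]),
  ([12, 13, 11, 14, 12], [13, 11, 14, 12, 13, 11, 14])]

/-- the ninth power -/
def pC : List (List ℕ × List ℕ) := [
  ([1, 3, 5, 9, 13, 2, 4, 6, 14, 1, 3, 5, 9, 13, 2, 4, 6, 14, 1, 3, 5, 9, 13, 2, 4, 6, 14, 1, 3, 5, 9, 13, 2, 4, 6, 14, 1, 3, 5, 9, 13, 2, 4, 6, 14, 1, 3, 5, 9, 13, 2, 4, 6, 14, 1, 3, 5, 9, 13, 2, 4, 6, 14, 1, 3, 5, 9, 13, 2, 4, 6, 14, 1, 3, 5, 9, 13, 2, 4, 6, 14], [12])]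

/-- the long word -/
def pV : List (List ℕ × List ℕ) := [
  ([15], [13, 4, 14, 3, 13, 2, 14, 1, 13, 11, 14, 12, 13, 4, 14, 5, 13, 6, 14, 7, 13, 8, 4, 14, 9, 13, 10, 14])]

/-- the 17th power -/
def pW : List (List ℕ × List ℕ) := [
  ([15, 15, 15, 15, 15, 15, 15, 15, 15, 15, 15, 15, 15, 15, 15, 15, 15], [])]

end Cfsg.Agent.H28.F24
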