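import Cfsg.Agent.H28_F24HA

set_option autoImplicit false
set_option maxRecDepth 1000000

namespace Cfsg.Agent.H28.F24

open Cfsg.Agent.H8.Act Cfsg.Agent.H8.Cox BK

theorem hk0 : (([[1, 2, 1, 2, 1, 2, 1, 2], [5, 6, 5, 6], [1, 3, 1, 3]] : List (List ℕ)).all fun w => fixW w gps) = true := by decide +kernel

theorem hk1 : (([[3, 4, 6, 7, 3, 4, 6, 7, 3, 4, 6, 7, 3, 4, 6, 7], [1, 7, 1, 7], [4, 4]] : List (List ℕ)).all fun w => fixW w gps) = true := by decide +kernel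

theorem hk2 : (([[6, 7, 6, 7, 6, 7, 6, 7], [5, 7, 5, 7], [3, 7, 3, 7], [1, 5, 1, 5], [3, 5, 3, 5], [5, 5], [3, 3]] : List (List ℕ)).all fun w => fixW w gps) = true := by decide +kernel

theorem hk3 : (([[5, 1, 2, 3, 1, 2, 3, 1, 2, 3], [1, 3, 4, 3, 4, 3, 4, 3, 4, 3, 4], [1, 6, 1, 6], [1, 1]] : List (List ℕ)).all fun w => fixW w gps) = true := by decide +kernel

theorem hk4 : (([[2, 3, 2, 3, 2, 3], [5, 6, 7, 6, 7], [1, 4, 1, 4]] : List (List ℕ)).all fun w => fixW w gps) = true := by decide +kernel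

theorem hk5 : (([[2, 7, 2, 7], [4, 6, 4, 6, 4, 6], [6, 6]] : List (List ℕ)).all fun w => fixW w gps) = true := by decide +kernel

theorem hk6 : (([[2, 6, 2, 6], [4, 7, 4, 7, 4, 7], [4, 5, 4, 5, 4, 5]] : List (List ℕ)).all fun w => fixW w gps) = true := by decide +kernel

theorem hk7 : (([[2, 4, 2, 4], [2, 2], [3, 6, 3, 6]] : List (List ℕ)).all fun w => fixW w gps) = true := by decide +kernel

theorem hk8 : (([[2, 5, 2, 5], [3, 4, 3, 4, 3, 4, 3, 4, 3, 4, 3, 4, 3, 4, 3, 4, 3, 4, 3, 4], [7, 7]] : List (List ℕ)).all fun w => fixW w gps) = true := by decide +kernel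

/-- all the relators -/
def hrs : List (List ℕ) := [[1, 2, 1, 2, 1, 2, 1, 2], [5, 6, 5, 6], [1, 3, 1, 3], [3, 4, 6, 7, 3, 4, 6, 7, 3, 4, 6, 7, 3, 4, 6, 7], [1, 7, 1, 7], [4, 4], [6, 7, 6, 7, 6, 7, 6, 7], [5, 7, 5, 7], [3, 7, 3, 7], [1, 5, 1, 5], [3, 5, 3, 5], [5, 5], [3, 3], [5, 1, 2, 3, 1, 2, 3, 1, 2, 3], [1, 3, 4, 3, 4, 3, 4, 3, 4, 3, 4], [1, 6, 1, 6], [1, 1], [2, 3, 2, 3, 2, 3], [5, 6, 7, 6, 7], [1, 4, 1, 4], [2, 7, 2, 7], [4, 6, 4, 6, 4, 6], [6, 6], [2, 6, 2, 6], [4, 7, 4, 7, 4, 7], [4, 5, 4, 5, 4, 5], [2, 4, 2, 4], [2, 2], [3, 6, 3, 6], [2, 5, 2, 5], [3, 4, 3, 4, 3, 4, 3, 4, 3, 4, 3, 4, 3, 4, 3, 4, 3, 4, 3, 4], [7, 7]]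

theorem hrs_ok : ∀ w ∈ hrs, fixW w gps = true := by
  have h : (hrs.all fun w => fixW w gps) = true := by
    have e : hrs = ([[1, 2, 1, 2, 1, 2, 1, 2], [5, 6, 5, 6], [1, 3, 1, 3]] : List (List ℕ)) ++ ([[3, 4, 6, 7, 3, 4, 6, 7, 3, 4, 6, 7, 3, 4, 6, 7], [1, 7, 1, 7], [4, 4]] : List (List ℕ)) ++ ([[6, 7, 6, 7, 6, 7, 6, 7], [5, 7, 5, 7], [3, 7, 3, 7], [1, 5, 1, 5], [3, 5, 3, 5], [5, 5], [3, 3]] : List (List ℕ)) ++ ([[5, 1, 2, 3, 1, 2, 3, 1, 2, 3], [1, 3, 4, 3, 4, 3, 4, 3, 4, 3, 4], [1, 6, 1, 6], [1, 1]] : List (List ℕ)) ++ ([[2, 3, 2, 3, 2, 3], [5, 6, 7, 6, 7], [1, 4, 1, 4]] : List (List ℕ)) ++ ([[2, 7, 2, 7], [4, 6, 4, 6, 4, 6], [6, 6]] : List (List ℕ)) ++ ([[2, 6, 2, 6], [4, 7, 4, 7, 4, 7], [4, 5, 4, 5, 4, 5]] : List (List ℕ)) ++ ([[2, 4, 2, 4], [2, 2], [3, 6, 3, 6]] : List (List ℕ)) ++ ([[2, 5, 2, 5], [3,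 4, 3, 4, 3, 4, 3, 4, 3, 4, 3, 4, 3, 4, 3, 4, 3, 4, 3, 4], [7, 7]] : List (List ℕ)) := rfl
    rw [e]
    simp only [List.all_append, hk0, hk1, hk2, hk3, hk4, hk5, hk6, hk7, hk8, Bool.and_self]
  rw [List.all_eq_true] at h
  exact h

end Cfsg.Agent.H28.F24
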