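import Cfsg.Agent.H28_F24L

set_option autoImplicit false
set_option maxRecDepth 1000000

namespace Cfsg.Agent.H28.F24

open Cfsg.Agent.H8.Net BK

/-- the deduction rules -/
def RR : List Rule := [
  (4, 10, [4, 10]),
  (3, 5, [3, 5]),
  (6, 10, [6, 10]),
  (4, 6, [4, 6]),
  (4, 11, [4, 11]),
  (10, 11, [10, 11]),
  (2, 10, [2, 10]),
  (7, 9, [7, 9]),
  (1, 5, [1, 5]),
  (6, 11, [6, 11]),
  (2, 11, [2, 11]),
  (5, 9, [5, 9]),
  (5, 7, [5, 7]),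
  (6, 8, [6, 8]),
  (5, 10, [5, 10]),
  (3, 9, [3, 9]),
  (8, 11, [8, 11]),
  (3, 10, [3, 10]),
  (6, 9, [6, 9]),
  (6, 4, [6, 4]),
  (3, 6, [3, 6]),
  (3, 7, [3, 7]),
  (2, 5, [2, 5]),
  (2, 4, [2, 4]),
  (2, 6, [2, 6]),
  (2, 9, [2, 9]),
  (5, 11, [5, 11]),
  (5, 1, [5, 1]),
  (3, 11, [3, 11]),
  (6, 3, [6, 3]),
  (6, 2, [6, 2]),
  (9, 11, [9, 11]),
  (3, 1, [3, 1]),
  (1, 10, [1, 10]),
  (1, 9, [1, 9]),
  (1, 4, [1, 4]),
  (1, 3, [1, 3]),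
  (1, 6, [1, 6]),
  (1, 7, [1, 7]),
  (6, 1, [6, 1]),
  (7, 10, [7, 10]),
  (7, 4, [7, 4]),
  (7, 3, [7, 3]),
  (7, 5, [7, 5]),
  (7, 2, [7, 2]),
  (7, 1, [7, 1]),
  (7, 11, [7, 11]),
  (2, 7, [2, 7]),
  (2, 8, [2, 8]),
  (5, 6, [5, 6, 5, 6]),
  (4, 5, [4, 5, 4, 5]),
  (8, 9, [8, 9]),
  (8, 10, [8, 10]),
  (8, 4, [8, 4]),
  (5, 8, [5, 8]),
  (8, 3, [8, 3]),
  (8, 2, [8, 2]),
  (8, 5, [8, 5]),
  (8, 6, [8, 6]),
  (4, 8, [4, 8]),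
  (8, 1, [8, 1]),
  (4, 7, [4, 7]),
  (9, 4, [9, 4, 9, 4]),
  (9, 3, [9, 3]),
  (9, 5, [9, 5]),
  (9, 7, [9, 7]),
  (9, 2, [9, 2]),
  (9, 1, [9, 1]),
  (10, 9, [10, 9, 10, 9]),
  (10, 4, [10, 4]),
  (10, 6, [10, 6]),
  (9, 6, [9, 6]),
  (3, 2, [3, 2, 3, 2]),
  (4, 3, [4, 3, 4, 3]),
  (4, 2, [4, 2]),
  (3, 4, [3, 4, 3, 4]),
  (2, 3, [2, 3, 2, 3]),
  (4, 1, [4, 1]),
  (5, 4, [5, 4, 5, 4]),
  (5, 3, [5, 3]),
  (10, 3, [10, 3]),
  (10, 2, [10, 2]),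
  (10, 5, [10, 5]),
  (1, 8, [1, 8]),
  (1, 2, [1, 2, 1, 2]),
  (2, 1, [2, 1, 2, 1]),
  (6, 5, [6, 5, 6, 5]),
  (7, 6, [7, 6, 7, 6]),
  (8, 7, [8, 7, 8, 7]),
  (7, 8, [7, 8, 7, 8]),
  (6, 7, [6, 7, 6, 7]),
  (3, 8, [3, 8]),
  (4, 9, [4, 9, 4, 9]),
  (10, 1, [10, 1]),
  (5, 2, [5, 2]),
  (10, 7, [10, 7]),
  (10, 8, [10, 8]),
  (11, 1, [11, 1, 11, 1]),
  (11, 2, [11, 2]),
  (9, 10, [9, 10, 9, 10]),
  (11, 4, [11, 4]),
  (12, 1, [12, 1]),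
  (3, 12, [3, 12]),
  (5, 12, [5, 12]),
  (7, 12, [7, 12]),
  (9, 12, [9, 12]),
  (11, 6, [11, 6]),
  (11, 3, [11, 3]),
  (12, 2, [12, 2]),
  (12, 3, [12, 3]),
  (1, 12, [1, 12]),
  (6, 12, [6, 12]),
  (8, 12, [8, 12]),
  (10, 12, [10, 12]),
  (9, 8, [9, 8]),
  (11, 10, [11, 10]),
  (11, 7, [11, 7]),
  (11, 8, [11, 8]),
  (11, 5, [11, 5]),
  (11, 9, [11, 9]),
  (1, 11, [1, 11, 1, 11]),
  (4, 12, [4, 12]),
  (12, 4, [12, 4]),
  (12, 5, [12, 5]),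
  (12, 9, [12, 9]),
  (12, 11, [12, 11, 12, 11]),
  (12, 6, [12, 6]),
  (12, 7, [12, 7]),
  (12, 10, [12, 10]),
  (12, 8, [12, 8]),
  (2, 12, [2, 12]),
  (11, 12, [11, 12, 11, 12]),
  (9, 6, [5, 4, 3, 2, 1, 12, 9, 6, 5, 4, 3, 2, 1, 9, 6, 5, 4, 3, 2, 1, 9, 6, 5, 4, 3, 2, 1, 9, 6, 5, 4, 3, 2, 1, 9, 6, 5, 4, 3, 2, 1, 9, 6, 5, 4, 3, 2, 1, 9, 6, 5, 4, 3, 2, 1, 9, 6, 5, 4, 3, 2, 1]),
  (2, 3, [4, 10, 9, 4, 6, 5, 4, 2, 3, 4, 10, 9, 4, 6, 5, 4, 2, 3, 4, 10, 9, 4, 6, 5, 4, 2, 3, 4, 10, 9, 4, 6, 5, 4, 2, 3, 4, 10, 9, 4, 6, 5, 4, 2, 3, 4, 10, 9, 4, 6, 5, 4, 2, 3, 4, 10, 9, 4, 6, 5, 4, 2, 3, 4, 10, 9, 4, 6, 5, 4, 2, 3, 4, 10, 9, 4, 6, 5, 4, 2, 3, 4, 10, 9, 4, 6, 5, 4]),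
  (6, 5, [4, 2, 3, 4, 10, 9, 4, 6, 5, 4, 2, 3, 4, 10, 9, 4, 6, 5, 4, 2, 3, 4, 10, 9, 4, 6, 5, 4, 2, 3, 4, 10, 9, 4, 6, 5, 4, 2, 3, 4, 10, 9, 4, 6, 5, 4, 2, 3, 4, 10, 9, 4, 6, 5, 4, 2, 3, 4, 10, 9, 4, 6, 5, 4, 2, 3, 4, 10, 9, 4, 6, 5, 4, 2, 3, 4, 10, 9, 4, 6, 5, 4, 2, 3, 4, 10, 9, 4]),
  (9, 4, [8, 7, 6, 5, 4, 12, 11, 1, 2, 3, 4, 10, 9, 4, 8, 7, 6, 5, 4, 12, 11, 1, 2, 3, 4, 10, 9, 4, 8, 7, 6, 5, 4, 12, 11, 1, 2, 3, 4, 10, 9, 4, 8, 7, 6, 5, 4, 12, 11, 1, 2, 3, 4, 10, 9, 4, 8, 7, 6, 5, 4, 12, 11, 1, 2, 3, 4, 10, 9, 4, 8, 7, 6, 5, 4, 12, 11, 1, 2, 3, 4, 10, 9, 4, 8, 7, 6, 5, 4, 12, 11, 1, 2, 3, 4, 10, 9, 4, 8, 7, 6, 5, 4, 12, 11, 1, 2, 3, 4, 10, 9, 4, 8, 7, 6, 5, 4, 12, 11, 1, 2, 3, 4, 10, 9, 4, 8, 7, 6, 5, 4, 12, 11, 1, 2, 3, 4, 10, 9, 4, 8, 7, 6, 5, 4, 12, 11, 1, 2, 3, 4, 10, 9, 4, 8, 7, 6, 5, 4, 12, 11, 1, 2, 3, 4, 10, 9, 4, 8, 7, 6, 5, 4, 12, 11, 1,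 2, 3, 4, 10, 9, 4, 8, 7, 6, 5, 4, 12, 11, 1, 2, 3, 4, 10, 9, 4, 8, 7, 6, 5, 4, 12, 11, 1, 2, 3, 4, 10, 9, 4, 8, 7, 6, 5, 4, 12, 11, 1, 2, 3, 4, 10, 9, 4, 8, 7, 6, 5, 4, 12, 11, 1, 2, 3, 4, 10])]

def os0 : List Op := [
  .dfn 11, .dfn 12, .dfn 1, .dfn 2, .dfn 3, .dfn 4, .dfn 5, .dfn 6, .dfn 7, .dfn 8, .dfn 9, .dfn 4,
  .dfn 3, .dfn 2, .dfn 1, .dfn 5, .dfn 4, .dfn 3, .dfn 2, .dfn 6, .dfn 5, .dfn 4, .dfn 3, .dfn 7,
  .dfn 6, .dfn 5, .dfn 4, .dfn 9, .dfn 10, .dfn 9, .dfn 4, .dfn 3, .dfn 2, .dfn 1, .dfn 5, .dfn 4,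
  .dfn 3, .dfn 2, .dfn 6, .dfn 5, .dfn 4, .dfn 3, .dfn 7, .dfn 6, .dfn 5, .dfn 4, .dfn 8, .dfn 7,
  .dfn 6, .dfn 5, .dfn 9, .dfn 4, .dfn 3, .dfn 2, .dfn 1, .dfn 5, .dfn 4, .dfn 3, .dfn 2, .dfn 6,
  .dfn 5, .dfn 4, .dfn 3, .dfn 7, .dfn 9, .dfn 4, .dfn 10, .dfn 9, .dfn 4, .dfn 3, .dfn 2, .dfn 1,
  .dfn 5, .dfn 4, .dfn 3, .dfn 2, .dfn 6, .dfn 5, .dfn 7, .dfn 6, .dfn 11, .dfn 1, .dfn 2, .dfn 3,
  .dfn 4, .dfn 5, .dfn 6, .dfn 7, .dfn 8, .dfn 9, .ded 0, .ded 1, .ded 2, .ded 3, .ded 4, .ded 5,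
  .ded 6, .ded 7, .ded 8, .ded 9, .ded 10, .ded 11, .ded 12, .ded 13, .ded 14, .ded 11, .ded 15, .ded 16,
  .ded 17, .ded 15, .ded 18, .ded 19, .ded 2, .ded 9, .ded 20, .ded 1, .ded 21, .ded 22, .ded 23, .ded 24,
  .ded 10, .ded 25, .ded 23, .ded 10, .ded 26, .ded 27, .ded 28, .ded 22, .ded 24, .ded 23, .ded 6, .ded 29,
  .ded 30, .ded 31, .ded 32, .ded 33, .ded 34, .ded 35, .ded 36, .ded 8, .ded 34, .ded 37, .ded 8, .ded 38,
  .ded 18, .ded 19, .ded 39, .ded 40, .ded 7, .ded 21, .ded 41, .ded 42, .ded 43, .ded 7, .ded 44, .ded 45,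
  .ded 41, .ded 42, .ded 43, .ded 7, .ded 46, .ded 38, .ded 47, .ded 24, .ded 48, .ded 49, .ded 12, .ded 50,
  .ded 3, .ded 23, .ded 51, .ded 52, .ded 53, .ded 48, .ded 54, .ded 12, .ded 55, .ded 56, .ded 57, .ded 53,
  .ded 58, .ded 59, .ded 51, .ded 53, .ded 60, .ded 55, .ded 56, .ded 53, .ded 57, .ded 58, .ded 53, .ded 61,
  .ded 59, .ded 3, .ded 62, .ded 63, .ded 64, .ded 7, .ded 34, .ded 65, .ded 66, .ded 67, .ded 68, .ded 69,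
  .ded 70, .ded 44, .ded 45, .ded 35, .ded 8, .ded 36, .ded 34, .ded 71, .ded 65, .ded 48, .ded 72, .ded 32,
  .ded 15, .ded 1, .ded 21, .ded 73, .ded 74, .ded 59, .ded 3, .ded 0, .ded 75, .ded 15, .ded 1, .ded 21,
  .ded 76, .ded 23, .ded 6, .ded 48, .ded 24, .ded 74, .ded 25, .ded 6, .ded 23, .ded 22, .ded 23, .ded 24,
  .ded 47, .ded 24, .ded 72, .ded 32, .ded 15, .ded 1, .ded 73, .ded 74, .ded 3, .ded 77, .ded 78, .ded 79,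
  .ded 11, .ded 0, .ded 53, .ded 80, .ded 81, .ded 0, .ded 82, .ded 70, .ded 69, .ded 33, .ded 34, .ded 83,
  .ded 37, .ded 8, .ded 38, .ded 84, .ded 36, .ded 35, .ded 36, .ded 34, .ded 8, .ded 85, .ded 24, .ded 23,
  .ded 6, .ded 48]

def os1 : List Op := [
  .ded 37, .ded 8, .ded 38, .ded 35, .ded 8, .ded 36, .ded 34, .ded 32, .ded 74, .ded 41, .ded 43, .ded 42,
  .ded 27, .ded 25, .ded 6, .ded 23, .ded 72, .ded 32, .ded 1, .ded 21, .ded 22, .ded 23, .ded 24, .ded 86,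
  .ded 19, .ded 2, .ded 30, .ded 29, .ded 30, .ded 18, .ded 19, .ded 2, .ded 13, .ded 87, .ded 43, .ded 45,
  .ded 42, .ded 88, .ded 53, .ded 58, .ded 55, .ded 56, .ded 53, .ded 51, .ded 53, .ded 52, .ded 89, .ded 45,
  .ded 43, .ded 42, .ded 60, .ded 57, .ded 53, .ded 58, .ded 56, .ded 16, .ded 55, .ded 56, .ded 53, .ded 90,
  .ded 13, .ded 2, .ded 30, .ded 3, .ded 51, .ded 53, .ded 52, .ded 7, .ded 49, .ded 12, .ded 1, .ded 19,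
  .ded 38, .ded 89, .ded 43, .ded 42, .ded 7, .ded 50, .ded 3, .ded 62, .ded 63, .ded 64, .ded 65, .ded 9,
  .ded 20, .ded 21, .ded 1, .ded 91, .ded 21, .ded 4, .ded 74, .ded 33, .ded 34, .ded 36, .ded 66, .ded 67,
  .ded 92, .ded 0, .ded 3, .ded 59, .ded 75, .ded 1, .ded 15, .ded 24, .ded 41, .ded 42, .ded 7, .ded 43,
  .ded 12, .ded 8, .ded 73, .ded 74, .ded 3, .ded 78, .ded 11, .ded 79, .ded 27, .ded 62, .ded 64, .ded 63,
  .ded 67, .ded 68, .ded 69, .ded 70, .ded 81, .ded 65, .ded 80, .ded 81, .ded 82, .ded 70, .ded 69, .ded 88,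
  .ded 58, .ded 56, .ded 53, .ded 93, .ded 90, .ded 52, .ded 21, .ded 0, .ded 83, .ded 38, .ded 85, .ded 23,
  .ded 24, .ded 10, .ded 44, .ded 45, .ded 12, .ded 36, .ded 94, .ded 71, .ded 57, .ded 53, .ded 19, .ded 64,
  .ded 37, .ded 38, .ded 30, .ded 20, .ded 76, .ded 23, .ded 65, .ded 86, .ded 19, .ded 2, .ded 49, .ded 50,
  .ded 3, .ded 0, .ded 75, .ded 1, .ded 15, .ded 95, .ded 70, .ded 61, .ded 3, .ded 21, .ded 40, .ded 7,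
  .ded 60, .ded 16, .ded 66, .ded 59, .ded 27, .ded 12, .ded 76, .ded 23, .ded 48, .ded 84, .ded 36, .ded 8,
  .ded 38, .ded 34, .ded 56, .ded 58, .ded 77, .ded 4, .ded 32, .ded 74, .ded 62, .ded 63, .ded 64, .ded 65,
  .ded 6, .ded 72, .ded 32, .ded 15, .ded 1, .ded 21, .ded 81, .ded 35, .ded 8, .ded 34, .ded 85, .ded 6,
  .ded 24, .ded 10, .ded 23, .ded 72, .ded 15, .ded 32, .ded 1, .ded 21, .ded 73, .ded 74, .ded 78, .ded 11,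
  .ded 59, .ded 62, .ded 64, .ded 68, .ded 69, .ded 70, .ded 79, .ded 86]

def os2 : List Op := [
  .ded 19, .ded 13, .ded 2, .ded 87, .ded 42, .ded 7, .ded 43, .ded 88, .ded 56, .ded 53, .ded 52, .ded 89,
  .ded 45, .ded 42, .ded 43, .ded 7, .ded 90, .ded 30, .ded 13, .ded 49, .ded 27, .ded 12, .ded 50, .ded 3,
  .ded 75, .ded 15, .ded 1, .ded 21, .ded 76, .ded 23, .ded 6, .ded 24, .ded 84, .ded 36, .ded 34, .ded 8,
  .ded 88, .ded 58, .ded 56, .ded 53, .ded 19, .ded 79, .ded 62, .ded 63, .ded 65, .ded 64, .ded 68, .ded 69,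
  .ded 81, .ded 70, .ded 85, .ded 24, .ded 23, .ded 6, .ded 72, .ded 73, .ded 21, .ded 32, .ded 1, .ded 74,
  .ded 78, .ded 11, .ded 62, .ded 64, .ded 67, .ded 63, .ded 65, .ded 4, .ded 79, .ded 27, .ded 12, .ded 68,
  .ded 69, .ded 70, .ded 86, .ded 19, .ded 15, .ded 84, .ded 36, .ded 8, .ded 38, .ded 34, .ded 10, .ded 80,
  .ded 81, .ded 82, .ded 69, .ded 96, .ded 70, .ded 44, .ded 45, .ded 41, .ded 42, .ded 7, .ded 18, .ded 28,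
  .ded 30, .ded 29, .ded 30, .ded 55, .ded 56, .ded 71, .ded 92, .ded 3, .ded 0, .ded 39, .ded 9, .ded 19,
  .ded 85, .ded 24, .ded 23, .ded 65, .ded 66, .ded 67, .ded 93, .ded 5, .ded 81, .ded 97, .ded 98, .ded 60,
  .ded 53, .ded 35, .ded 36, .ded 75, .ded 1, .ded 95, .ded 70, .ded 46, .ded 31, .ded 76, .ded 37, .ded 8,
  .ded 80, .ded 81, .ded 82, .ded 69, .ded 70, .ded 99, .ded 22, .ded 24, .ded 57, .ded 87, .ded 43, .ded 25,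
  .ded 77, .ded 4, .ded 49, .ded 12, .ded 23, .ded 84, .ded 100, .ded 92, .ded 44, .ded 45, .ded 94, .ded 27,
  .ded 93, .ded 73, .ded 74, .ded 26, .ded 101, .ded 72, .ded 32, .ded 102, .ded 103, .ded 104, .ded 105, .ded 85,
  .ded 82, .ded 77, .ded 65, .ded 34, .ded 80, .ded 20, .ded 75, .ded 1, .ded 21, .ded 44, .ded 42, .ded 76,
  .ded 23, .ded 48, .ded 24, .ded 10, .ded 84, .ded 36, .ded 8, .ded 38, .ded 34, .ded 97, .ded 100, .ded 106,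
  .ded 98, .ded 85, .ded 23]

def os3 : List Op := [
  .ded 24, .ded 10, .ded 6, .ded 72, .ded 15, .ded 1, .ded 21, .ded 32, .ded 73, .ded 74, .ded 59, .ded 3,
  .ded 78, .ded 11, .ded 79, .ded 12, .ded 27, .ded 86, .ded 19, .ded 2, .ded 30, .ded 87, .ded 42, .ded 43,
  .ded 7, .ded 45, .ded 44, .ded 45, .ded 90, .ded 19, .ded 13, .ded 9, .ded 49, .ded 12, .ded 79, .ded 11,
  .ded 50, .ded 3, .ded 59, .ded 74, .ded 0, .ded 62, .ded 63, .ded 64, .ded 67, .ded 65, .ded 68, .ded 69,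
  .ded 81, .ded 70, .ded 75, .ded 1, .ded 15, .ded 21, .ded 32, .ded 76, .ded 23, .ded 24, .ded 6, .ded 84,
  .ded 36, .ded 34, .ded 8, .ded 10, .ded 54, .ded 73, .ded 74, .ded 3, .ded 0, .ded 78, .ded 79, .ded 11,
  .ded 27, .ded 86, .ded 19, .ded 2, .ded 87, .ded 43, .ded 42, .ded 7, .ded 88, .ded 56, .ded 53, .ded 58,
  .ded 16, .ded 89, .ded 45, .ded 42, .ded 43, .ded 90, .ded 13, .ded 7, .ded 49, .ded 12, .ded 79, .ded 50,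
  .ded 3, .ded 74, .ded 75, .ded 15, .ded 1, .ded 32, .ded 76, .ded 23, .ded 84, .ded 36, .ded 8, .ded 34,
  .ded 88, .ded 58, .ded 56, .ded 53, .ded 62, .ded 63, .ded 64, .ded 67, .ded 30, .ded 19, .ded 57, .ded 53,
  .ded 38, .ded 4, .ded 68, .ded 69, .ded 81, .ded 70, .ded 27, .ded 73, .ded 74, .ded 78, .ded 11, .ded 79,
  .ded 27, .ded 24, .ded 66, .ded 67, .ded 65, .ded 71, .ded 86, .ded 19, .ded 85, .ded 10, .ded 24, .ded 23,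
  .ded 72, .ded 32, .ded 35, .ded 8, .ded 12, .ded 37, .ded 38, .ded 51, .ded 58, .ded 55, .ded 53, .ded 60,
  .ded 16, .ded 56, .ded 3, .ded 89, .ded 82, .ded 69, .ded 64, .ded 48, .ded 41, .ded 42, .ded 7, .ded 50,
  .ded 3, .ded 74, .ded 80, .ded 81, .ded 93, .ded 81, .ded 30, .ded 1, .ded 29, .ded 30, .ded 44, .ded 45,
  .ded 46, .ded 45, .ded 43, .ded 57, .ded 94, .ded 75, .ded 4, .ded 77, .ded 4, .ded 76, .ded 79, .ded 63,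
  .ded 58, .ded 21, .ded 34, .ded 78, .ded 79, .ded 18, .ded 22, .ded 23, .ded 62, .ded 61, .ded 59, .ded 40,
  .ded 44, .ded 42, .ded 41, .ded 42, .ded 7, .ded 90, .ded 13, .ded 30, .ded 19, .ded 49]

def os4 : List Op := [
  .ded 12, .ded 27, .ded 79, .ded 50, .ded 3, .ded 75, .ded 15, .ded 1, .ded 76, .ded 23, .ded 6, .ded 84,
  .ded 36, .ded 8, .ded 34, .ded 85, .ded 24, .ded 10, .ded 23, .ded 48, .ded 72, .ded 21, .ded 32, .ded 15,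
  .ded 1, .ded 73, .ded 74, .ded 4, .ded 78, .ded 11, .ded 79, .ded 86, .ded 19, .ded 62, .ded 64, .ded 63,
  .ded 3, .ded 87, .ded 42, .ded 43, .ded 88, .ded 56, .ded 53, .ded 58, .ded 30, .ded 67, .ded 68, .ded 69,
  .ded 70, .ded 81, .ded 65, .ded 35, .ded 34, .ded 8, .ded 37, .ded 8, .ded 36, .ded 27, .ded 76, .ded 23,
  .ded 24, .ded 10, .ded 45, .ded 29, .ded 30, .ded 19, .ded 7, .ded 92, .ded 3, .ded 74, .ded 75, .ded 1,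
  .ded 89, .ded 59, .ded 42, .ded 95, .ded 96, .ded 70, .ded 82, .ded 70, .ded 80, .ded 81, .ded 69, .ded 93,
  .ded 81, .ded 95, .ded 70, .ded 99, .ded 63, .ded 64, .ded 80, .ded 81, .ded 82, .ded 70, .ded 69, .ded 99,
  .ded 92, .ded 49, .ded 12, .ded 21, .ded 35, .ded 36, .ded 76, .ded 0, .ded 4, .ded 90, .ded 60, .ded 16,
  .ded 80, .ded 82, .ded 25, .ded 20, .ded 55, .ded 56, .ded 75, .ded 1, .ded 51, .ded 97, .ded 84, .ded 107,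
  .ded 100, .ded 77, .ded 74, .ded 78, .ded 79, .ded 11, .ded 86, .ded 19, .ded 30, .ded 87, .ded 43, .ded 42,
  .ded 7, .ded 45, .ded 88, .ded 58, .ded 53, .ded 56, .ded 89, .ded 42, .ded 7, .ded 43, .ded 45, .ded 90,
  .ded 30, .ded 13, .ded 19, .ded 2, .ded 49, .ded 27, .ded 79, .ded 11, .ded 12, .ded 87, .ded 45, .ded 43,
  .ded 42, .ded 7, .ded 88, .ded 56, .ded 53, .ded 52, .ded 58, .ded 89, .ded 45, .ded 42, .ded 43, .ded 7,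
  .ded 90, .ded 88, .ded 58, .ded 53, .ded 56, .ded 49, .ded 50, .ded 75, .ded 15, .ded 62, .ded 63, .ded 68,
  .ded 69, .ded 81, .ded 70, .ded 76, .ded 23, .ded 57, .ded 53, .ded 84, .ded 36, .ded 8, .ded 66]

def os5 : List Op := [
  .ded 67, .ded 30, .ded 19, .ded 58, .ded 55, .ded 56, .ded 51, .ded 53, .ded 92, .ded 4, .ded 60, .ded 89,
  .ded 78, .ded 79, .ded 82, .ded 69, .ded 3, .ded 71, .ded 93, .ded 5, .ded 22, .ded 24, .ded 72, .ded 32,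
  .ded 31, .ded 90, .ded 80, .ded 57, .ded 55, .ded 56, .ded 86, .ded 19, .ded 49, .ded 37, .ded 35, .ded 50,
  .ded 75, .ded 108, .ded 109, .ded 110, .ded 111, .ded 9, .ded 19, .ded 112, .ded 16, .ded 53, .ded 113, .ded 5,
  .ded 69, .ded 39, .ded 30, .ded 18, .ded 2, .ded 49, .ded 12, .ded 79, .ded 54, .ded 50, .ded 3, .ded 75,
  .ded 15, .ded 1, .ded 21, .ded 76, .ded 23, .ded 24, .ded 84, .ded 36, .ded 8, .ded 34, .ded 85, .ded 24,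
  .ded 10, .ded 23, .ded 72, .ded 21, .ded 1, .ded 73, .ded 59, .ded 3, .ded 78, .ded 11, .ded 86, .ded 19,
  .ded 2, .ded 87, .ded 42, .ded 43, .ded 7, .ded 88, .ded 56, .ded 53, .ded 89, .ded 45, .ded 42, .ded 43,
  .ded 7, .ded 90, .ded 30, .ded 49, .ded 88, .ded 56, .ded 58, .ded 53, .ded 50, .ded 62, .ded 63, .ded 68,
  .ded 81, .ded 69, .ded 75, .ded 15, .ded 76, .ded 23, .ded 44, .ded 45, .ded 84, .ded 66, .ded 67, .ded 60,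
  .ded 16, .ded 27, .ded 19, .ded 3, .ded 36, .ded 92, .ded 13, .ded 41, .ded 93, .ded 32, .ded 78, .ded 79,
  .ded 57, .ded 24, .ded 39, .ded 9, .ded 56, .ded 58, .ded 42, .ded 46, .ded 86, .ded 80, .ded 81, .ded 8,
  .ded 38, .ded 1, .ded 21, .ded 87, .ded 51, .ded 52, .ded 53, .ded 55, .ded 56, .ded 53, .ded 89, .ded 43,
  .ded 7, .ded 45, .ded 41, .ded 42, .ded 43, .ded 7, .ded 88, .ded 58, .ded 56, .ded 53, .ded 90, .ded 30,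
  .ded 19, .ded 13, .ded 49, .ded 12, .ded 27, .ded 79, .ded 50]

def os6 : List Op := [
  .ded 59, .ded 3, .ded 74, .ded 75, .ded 15, .ded 76, .ded 23, .ded 6, .ded 84, .ded 36, .ded 8, .ded 34,
  .ded 38, .ded 85, .ded 23, .ded 24, .ded 72, .ded 1, .ded 15, .ded 32, .ded 73, .ded 62, .ded 64, .ded 68,
  .ded 69, .ded 78, .ded 11, .ded 10, .ded 21, .ded 74, .ded 86, .ded 19, .ded 84, .ded 36, .ded 8, .ded 34,
  .ded 38, .ded 12, .ded 4, .ded 65, .ded 85, .ded 23, .ded 24, .ded 10, .ded 70, .ded 3, .ded 50, .ded 3,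
  .ded 75, .ded 1, .ded 87, .ded 71, .ded 32, .ded 76, .ded 88, .ded 35, .ded 36, .ded 37, .ded 8, .ded 79,
  .ded 63, .ded 9, .ded 29, .ded 30, .ded 23, .ded 24, .ded 49, .ded 27, .ded 94, .ded 79, .ded 84, .ded 80,
  .ded 34, .ded 15, .ded 39, .ded 66, .ded 67, .ded 20, .ded 21, .ded 73, .ded 74, .ded 26, .ded 43, .ded 22,
  .ded 31, .ded 82, .ded 70, .ded 69, .ded 99, .ded 65, .ded 92, .ded 59, .ded 75, .ded 1, .ded 76, .ded 23,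
  .ded 24, .ded 84, .ded 36, .ded 8, .ded 38, .ded 85, .ded 10, .ded 23, .ded 24, .ded 72, .ded 15, .ded 32,
  .ded 73, .ded 78, .ded 11, .ded 86, .ded 19, .ded 87, .ded 42, .ded 62, .ded 64, .ded 63, .ded 65, .ded 71,
  .ded 64, .ded 114, .ded 65, .ded 92, .ded 0, .ded 74, .ded 75, .ded 1, .ded 15, .ded 76, .ded 23, .ded 24,
  .ded 84, .ded 36, .ded 34, .ded 8, .ded 38, .ded 85, .ded 23, .ded 10, .ded 72, .ded 35, .ded 8, .ded 73,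
  .ded 74, .ded 78, .ded 79, .ded 11, .ded 27, .ded 68, .ded 69, .ded 62, .ded 64, .ded 63, .ded 67, .ded 68,
  .ded 69, .ded 81, .ded 94, .ded 80, .ded 81, .ded 93, .ded 66, .ded 29, .ded 30, .ded 19, .ded 77, .ded 71,
  .ded 44, .ded 45, .ded 27, .ded 36, .ded 39, .ded 22, .ded 82]

def os7 : List Op := [
  .ded 70, .ded 97, .ded 98, .ded 106, .ded 115, .ded 116, .ded 117, .ded 118, .ded 106, .ded 100, .ded 119, .ded 100,
  .ded 120, .ded 8, .ded 36, .ded 38, .ded 85, .ded 24, .ded 23, .ded 72, .ded 21, .ded 32, .ded 15, .ded 1,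
  .ded 73, .ded 59, .ded 3, .ded 74, .ded 78, .ded 11, .ded 12, .ded 86, .ded 2, .ded 19, .ded 87, .ded 42,
  .ded 43, .ded 7, .ded 88, .ded 56, .ded 53, .ded 60, .ded 89, .ded 42, .ded 43, .ded 7, .ded 90, .ded 30,
  .ded 16, .ded 49, .ded 88, .ded 58, .ded 56, .ded 53, .ded 50, .ded 62, .ded 63, .ded 68, .ded 69, .ded 81,
  .ded 70, .ded 64, .ded 9, .ded 75, .ded 15, .ded 76, .ded 23, .ded 84, .ded 97, .ded 44, .ded 45, .ded 65,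
  .ded 66, .ded 67, .ded 82, .ded 69, .ded 95, .ded 93, .ded 80, .ded 81, .ded 69, .ded 92, .ded 98, .ded 19,
  .ded 71, .ded 78, .ded 79, .ded 60, .ded 115, .ded 41, .ded 57, .ded 36, .ded 65, .ded 86, .ded 46, .ded 32,
  .ded 21, .ded 75, .ded 1, .ded 107, .ded 100, .ded 98, .ded 16, .ded 87, .ded 30, .ded 19, .ded 116, .ded 117,
  .ded 118, .ded 106, .ded 100, .ded 119, .ded 100, .ded 107, .ded 98, .ded 100, .ded 118, .ded 106, .ded 100, .ded 116,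
  .ded 117, .ded 106, .ded 120, .ded 8, .ded 36, .ded 34, .ded 107, .ded 98, .ded 119, .ded 115, .ded 100, .ded 118,
  .ded 100, .ded 106, .ded 119, .ded 115, .ded 107, .ded 98, .ded 100, .ded 118, .ded 100, .ded 116, .ded 106, .ded 107,
  .ded 98, .ded 119, .ded 100, .ded 118, .ded 100, .ded 106, .ded 107, .ded 100, .ded 120, .ded 85, .ded 118, .ded 119,
  .ded 98, .ded 100, .ded 72, .ded 29, .ded 30, .ded 39, .ded 9, .ded 49, .ded 94, .ded 22, .ded 121, .ded 4,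
  .ded 122, .ded 123, .ded 124, .ded 102, .ded 125, .ded 101, .ded 126, .ded 127, .ded 102, .ded 128, .ded 102, .ded 122,
  .ded 109, .ded 123, .ded 124, .ded 108, .ded 101, .ded 109, .ded 129]

def os8 : List Op := [
  .ded 122, .ded 109, .ded 123, .ded 124, .ded 103, .ded 105, .ded 126, .ded 123, .ded 127, .ded 122, .ded 123, .ded 124,
  .ded 109, .ded 108, .ded 101, .ded 109, .ded 126, .ded 127, .ded 123, .ded 129, .ded 127, .ded 122, .ded 123, .ded 124,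
  .ded 109, .ded 128, .ded 124, .ded 108, .ded 109, .ded 101, .ded 122, .ded 109, .ded 124, .ded 123, .ded 126, .ded 123,
  .ded 127, .ded 110, .ded 102, .ded 108, .ded 101, .ded 122, .ded 109, .ded 123, .ded 124, .ded 105, .ded 103, .ded 128,
  .ded 124, .ded 110, .ded 102, .ded 108, .ded 101, .ded 122, .ded 109, .ded 102, .ded 126, .ded 123, .ded 105, .ded 103,
  .ded 130, .ded 10, .ded 104, .ded 121, .ded 4, .ded 113, .ded 5, .ded 110, .ded 111, .ded 9, .ded 102, .ded 108,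
  .ded 101, .ded 102, .ded 28, .ded 32, .ded 31, .ded 26, .ded 27, .ded 30, .ded 103, .ded 67, .ded 74, .ded 126,
  .ded 46, .ded 45, .ded 105, .ded 39, .ded 77, .ded 3, .ded 130, .ded 122, .ded 84, .ded 102, .ded 76, .ded 23,
  .ded 22, .ded 24, .ded 47, .ded 48, .ded 73, .ded 61, .ded 83, .ded 25, .ded 18, .ded 51, .ded 62, .ded 64,
  .ded 71, .ded 65, .ded 114, .ded 131, .ded 120, .ded 85, .ded 72, .ded 73, .ded 78, .ded 62, .ded 86, .ded 87,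
  .ded 88, .ded 68, .ded 132, .ded 65, .ded 67, .ded 71, .ded 64, .ded 62, .ded 63, .ded 64, .ded 68, .ded 69,
  .ded 81, .ded 96, .ded 5, .ded 70, .ded 115, .ded 80, .ded 81, .ded 82, .ded 70, .ded 69, .ded 115, .ded 95,
  .ded 96, .ded 70, .ded 115, .ded 93, .ded 82, .ded 70, .ded 69, .ded 115, .ded 80, .ded 69, .ded 81, .ded 115,
  .ded 99, .ded 65, .ded 64, .ded 63, .ded 124, .ded 92, .ded 3, .ded 100, .ded 0, .ded 128, .ded 124, .ded 75]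

def os9 : List Op := [
  .ded 1, .ded 109, .ded 76, .ded 23, .ded 24, .ded 68, .ded 69, .ded 70, .ded 115, .ded 2, .ded 119, .ded 100,
  .ded 98, .ded 84, .ded 122, .ded 123, .ded 109, .ded 124, .ded 131, .ded 98, .ded 100, .ded 106, .ded 125, .ded 109,
  .ded 101, .ded 123, .ded 124, .ded 36, .ded 34, .ded 127, .ded 78, .ded 79, .ded 115, .ded 131, .ded 100, .ded 120,
  .ded 8, .ded 6, .ded 20, .ded 21, .ded 73, .ded 74, .ded 62, .ded 64, .ded 63, .ded 67, .ded 94, .ded 27,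
  .ded 122, .ded 123, .ded 82, .ded 0, .ded 80, .ded 81, .ded 70, .ded 2, .ded 109, .ded 69, .ded 3, .ded 75,
  .ded 1, .ded 32, .ded 14, .ded 118, .ded 106, .ded 22, .ded 108, .ded 7, .ded 77, .ded 47, .ded 24, .ded 18,
  .ded 19, .ded 87, .ded 43, .ded 88, .ded 53, .ded 41, .ded 42, .ded 7, .ded 86, .ded 19, .ded 126, .ded 44,
  .ded 85, .ded 88, .ded 53, .ded 66, .ded 93, .ded 71, .ded 109, .ded 72, .ded 41, .ded 90, .ded 49, .ded 92,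
  .ded 107, .ded 98, .ded 75, .ded 73, .ded 120, .ded 62, .ded 64, .ded 71, .ded 65, .ded 78, .ded 11, .ded 122,
  .ded 123, .ded 126, .ded 127, .ded 91, .ded 129, .ded 133, .ded 23, .ded 24, .ded 47, .ded 24, .ded 48, .ded 22,
  .ded 23, .ded 24, .ded 84, .ded 36, .ded 38, .ded 97, .ded 98, .ded 100, .ded 106, .ded 118, .ded 106, .ded 100,
  .ded 119, .ded 115, .ded 100, .ded 107, .ded 100, .ded 98, .ded 116, .ded 117, .ded 119, .ded 115, .ded 100, .ded 118]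

def os10 : List Op := [
  .ded 100, .ded 106, .ded 107, .ded 98, .ded 119, .ded 100, .ded 120, .ded 10, .ded 4, .ded 118, .ded 100, .ded 106,
  .ded 116, .ded 106, .ded 107, .ded 98, .ded 100, .ded 32, .ded 10, .ded 4, .ded 67, .ded 28, .ded 102, .ded 1,
  .ded 32, .ded 24, .ded 130, .ded 84, .ded 36, .ded 8, .ded 38, .ded 85, .ded 23, .ded 10, .ded 35, .ded 36,
  .ded 34, .ded 8, .ded 31, .ded 105, .ded 67, .ded 24, .ded 27, .ded 15, .ded 85, .ded 23, .ded 72, .ded 73,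
  .ded 10, .ded 78, .ded 11, .ded 1, .ded 62, .ded 64, .ded 68, .ded 35, .ded 8, .ded 119, .ded 37, .ded 4,
  .ded 5, .ded 118, .ded 22, .ded 24, .ded 71, .ded 86, .ded 72, .ded 26, .ded 31, .ded 134, .ded 30, .ded 19,
  .ded 29, .ded 30, .ded 19, .ded 71, .ded 65, .ded 67, .ded 71, .ded 64, .ded 7, .ded 114, .ded 65, .ded 51,
  .ded 53, .ded 58, .ded 62, .ded 64, .ded 63, .ded 67, .ded 71, .ded 65, .ded 92, .ded 0, .ded 59, .ded 74,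
  .ded 53, .ded 75, .ded 1, .ded 15, .ded 79, .ded 76, .ded 23, .ded 24, .ded 84, .ded 36, .ded 8, .ded 34,
  .ded 45, .ded 38, .ded 67, .ded 56, .ded 85, .ded 24, .ded 23, .ded 10, .ded 81, .ded 72, .ded 32, .ded 73,
  .ded 74, .ded 53, .ded 62, .ded 64, .ded 63, .ded 68, .ded 69, .ded 70, .ded 81, .ded 52, .ded 2, .ded 78,
  .ded 11, .ded 79, .ded 42, .ded 115, .ded 80, .ded 81, .ded 69, .ded 52, .ded 2, .ded 82, .ded 70, .ded 69,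
  .ded 115, .ded 52, .ded 21, .ded 65, .ded 35, .ded 45, .ded 7, .ded 37, .ded 38, .ded 8, .ded 27, .ded 34,
  .ded 6, .ded 55, .ded 56, .ded 57, .ded 53, .ded 51, .ded 53, .ded 48, .ded 52, .ded 89, .ded 19, .ded 65,
  .ded 30, .ded 42, .ded 43, .ded 58, .ded 90, .ded 70, .ded 106, .ded 13, .ded 30, .ded 106, .ded 19, .ded 2,
  .ded 115, .ded 100, .ded 24, .ded 81, .ded 1, .ded 15, .ded 93, .ded 81, .ded 0, .ded 6, .ded 70, .ded 66,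
  .ded 63, .ded 119, .ded 100, .ded 98, .ded 118, .ded 106, .ded 100, .ded 107]

def os11 : List Op := [
  .ded 98, .ded 100, .ded 116, .ded 117, .ded 106, .ded 98, .ded 9, .ded 97, .ded 98, .ded 106, .ded 10, .ded 4,
  .ded 118, .ded 100, .ded 106, .ded 107, .ded 98, .ded 100, .ded 119, .ded 100, .ded 120, .ded 8, .ded 38, .ded 5,
  .ded 74, .ded 34, .ded 49, .ded 12, .ded 103, .ded 32, .ded 10, .ded 44, .ded 42, .ded 45, .ded 67, .ded 92,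
  .ded 4, .ded 0, .ded 29, .ded 30, .ded 19, .ded 107, .ded 100, .ded 118, .ded 106, .ded 100, .ded 116, .ded 106,
  .ded 55, .ded 56, .ded 37, .ded 38, .ded 85, .ded 75, .ded 102, .ded 79, .ded 32, .ded 74, .ded 69, .ded 57,
  .ded 58, .ded 60, .ded 16, .ded 35, .ded 36, .ded 34, .ded 67, .ded 31, .ded 105, .ded 67, .ded 65, .ded 78,
  .ded 79, .ded 103, .ded 11, .ded 121, .ded 23, .ded 76, .ded 84, .ded 82, .ded 41, .ded 42, .ded 43, .ded 15,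
  .ded 97, .ded 98, .ded 100, .ded 106, .ded 116, .ded 117, .ded 106, .ded 119, .ded 115, .ded 100, .ded 118, .ded 100,
  .ded 106, .ded 73, .ded 107, .ded 98, .ded 100, .ded 68, .ded 69, .ded 94, .ded 79, .ded 32, .ded 30, .ded 10,
  .ded 4, .ded 66, .ded 86, .ded 19, .ded 27, .ded 79, .ded 71, .ded 44, .ded 62, .ded 64, .ded 65, .ded 31,
  .ded 105, .ded 85, .ded 98, .ded 71, .ded 62, .ded 63, .ded 64, .ded 67, .ded 66, .ded 67, .ded 34, .ded 32,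
  .ded 71, .ded 65, .ded 34, .ded 32, .ded 92, .ded 0, .ded 4, .ded 73, .ded 74, .ded 100, .ded 0, .ded 100,
  .ded 4, .ded 78, .ded 79, .ded 11, .ded 27, .ded 103, .ded 8, .ded 43, .ded 118, .ded 106, .ded 100, .ded 5,
  .ded 4, .ded 107, .ded 98, .ded 100, .ded 119, .ded 115, .ded 100, .ded 9, .ded 5, .ded 4, .ded 118, .ded 106,
  .ded 100, .ded 5, .ded 4, .ded 107, .ded 98, .ded 100, .ded 10, .ded 9, .ded 5, .ded 4, .ded 116, .ded 117,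
  .ded 106, .ded 4, .ded 9, .ded 5, .ded 10, .ded 74, .ded 26, .ded 27, .ded 103, .ded 12, .ded 8, .ded 43,
  .ded 1, .ded 79, .ded 64, .ded 118, .ded 100, .ded 106, .ded 9, .ded 98, .ded 31, .ded 105, .ded 15, .ded 34,
  .ded 7, .ded 67, .ded 119, .ded 100, .ded 5, .ded 9, .ded 4, .ded 10, .ded 115, .ded 107, .ded 98, .ded 100,
  .ded 9, .ded 4, .ded 70, .ded 5, .ded 46, .ded 104, .ded 45, .ded 43, .ded 21, .ded 2, .ded 38, .ded 11,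
  .ded 120, .ded 110, .ded 27, .ded 45, .ded 8, .ded 67, .ded 32, .ded 39, .ded 30, .ded 70, .ded 9, .ded 38,
  .ded 63, .ded 64, .ded 118, .ded 106, .ded 100, .ded 9, .ded 5, .ded 28, .ded 102, .ded 79, .ded 113, .ded 2,
  .ded 4, .ded 12, .ded 19, .ded 111, .ded 9, .ded 70, .ded 3, .ded 10, .ded 65, .ded 116, .ded 117, .ded 106,
  .ded 4, .ded 93, .ded 81, .ded 5, .ded 2, .ded 121, .ded 23, .ded 36, .ded 34, .ded 21, .ded 99, .ded 77,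
  .ded 18, .ded 19, .ded 70, .ded 49, .ded 12, .ded 79, .ded 86]

def os12 : List Op := [
  .ded 19, .ded 24, .ded 70, .ded 82, .ded 69, .ded 30, .ded 29, .ded 30, .ded 70, .ded 19, .ded 44, .ded 42,
  .ded 43, .ded 4, .ded 8, .ded 1, .ded 15, .ded 63, .ded 74, .ded 100, .ded 107, .ded 98, .ded 100, .ded 85,
  .ded 10, .ded 81, .ded 62, .ded 64, .ded 63, .ded 67, .ded 34, .ded 71, .ded 65, .ded 7, .ded 11, .ded 68,
  .ded 69, .ded 81, .ded 80, .ded 81, .ded 69, .ded 2, .ded 34, .ded 3, .ded 41, .ded 43, .ded 42, .ded 119,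
  .ded 100, .ded 115, .ded 4, .ded 45, .ded 78, .ded 11, .ded 79, .ded 8, .ded 64, .ded 23, .ded 32, .ded 66,
  .ded 67, .ded 18, .ded 19, .ded 120, .ded 82, .ded 0, .ded 70, .ded 32, .ded 24, .ded 50, .ded 74, .ded 3,
  .ded 62, .ded 63, .ded 64, .ded 68, .ded 69, .ded 14, .ded 16, .ded 12, .ded 48, .ded 110, .ded 13, .ded 92,
  .ded 75, .ded 97, .ded 98, .ded 125, .ded 109, .ded 100, .ded 94, .ded 123, .ded 107, .ded 10, .ded 98, .ded 82,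
  .ded 0, .ded 80, .ded 81, .ded 76, .ded 84, .ded 100, .ded 93, .ded 51, .ded 53, .ded 103, .ded 78, .ded 79,
  .ded 97, .ded 25, .ded 23, .ded 36, .ded 94, .ded 118, .ded 106, .ded 72, .ded 42, .ded 1, .ded 125, .ded 29,
  .ded 67, .ded 81, .ded 8, .ded 105, .ded 44, .ded 66, .ded 63, .ded 55, .ded 49, .ded 50, .ded 68, .ded 69,
  .ded 22, .ded 82, .ded 70, .ded 95, .ded 96, .ded 132, .ded 64, .ded 65, .ded 67, .ded 63, .ded 68, .ded 69,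
  .ded 70, .ded 81, .ded 2, .ded 115, .ded 80, .ded 69, .ded 2, .ded 81, .ded 115, .ded 82, .ded 69, .ded 70,
  .ded 115, .ded 119, .ded 100, .ded 115, .ded 9, .ded 5, .ded 131, .ded 116, .ded 117, .ded 106, .ded 9, .ded 5,
  .ded 98, .ded 2, .ded 115, .ded 118, .ded 106, .ded 9, .ded 107, .ded 98, .ded 100, .ded 9, .ded 5, .ded 4,
  .ded 97, .ded 98, .ded 9, .ded 106, .ded 5, .ded 115, .ded 119, .ded 115, .ded 100, .ded 9, .ded 5, .ded 4,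
  .ded 107, .ded 100, .ded 9, .ded 98, .ded 5, .ded 46]

def os13 : List Op := [
  .ded 45, .ded 104, .ded 43, .ded 65, .ded 7, .ded 12, .ded 116, .ded 9, .ded 117, .ded 106, .ded 5, .ded 16,
  .ded 4, .ded 100, .ded 10, .ded 13, .ded 70, .ded 115, .ded 2, .ded 111, .ded 106, .ded 70, .ded 3, .ded 9,
  .ded 26, .ded 27, .ded 103, .ded 118, .ded 100, .ded 5, .ded 106, .ded 9, .ded 16, .ded 4, .ded 31, .ded 105,
  .ded 67, .ded 7, .ded 39, .ded 9, .ded 70, .ded 30, .ded 106, .ded 81, .ded 98, .ded 38, .ded 24, .ded 120,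
  .ded 45, .ded 27, .ded 34, .ded 67, .ded 21, .ded 3, .ded 11, .ded 110, .ded 36, .ded 15, .ded 93, .ded 81,
  .ded 115, .ded 2, .ded 8, .ded 113, .ded 5, .ded 52, .ded 119, .ded 100, .ded 115, .ded 9, .ded 10, .ded 32,
  .ded 38, .ded 16, .ded 40, .ded 7, .ded 42, .ded 65, .ded 1, .ded 107, .ded 98, .ded 5, .ded 28, .ded 102,
  .ded 32, .ded 79, .ded 19, .ded 4, .ded 63, .ded 100, .ded 9, .ded 73, .ded 74, .ded 4, .ded 19, .ded 29,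
  .ded 19, .ded 30, .ded 24, .ded 70, .ded 71, .ded 7, .ded 64, .ded 67, .ded 45, .ded 15, .ded 78, .ded 79,
  .ded 27, .ded 11, .ded 103, .ded 86, .ded 19, .ded 24, .ded 43, .ded 64, .ded 9, .ded 87, .ded 43, .ded 65,
  .ded 34, .ded 106, .ded 45, .ded 8, .ded 12, .ded 52, .ded 42, .ded 63, .ded 71, .ded 7, .ded 11, .ded 65,
  .ded 64, .ded 63, .ded 12, .ded 67, .ded 7, .ded 85, .ded 10, .ded 81, .ded 30, .ded 74, .ded 21, .ded 70,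
  .ded 34, .ded 23, .ded 97, .ded 98, .ded 9, .ded 46, .ded 65, .ded 45, .ded 38, .ded 100, .ded 12, .ded 84,
  .ded 27, .ded 36, .ded 19, .ded 62, .ded 64, .ded 67, .ded 63, .ded 15, .ded 7, .ded 11, .ded 43, .ded 95,
  .ded 96, .ded 0, .ded 81, .ded 77, .ded 4, .ded 26, .ded 1, .ded 24, .ded 52, .ded 29, .ded 30, .ded 19,
  .ded 106, .ded 27, .ded 104, .ded 12, .ded 64, .ded 72, .ded 63, .ded 32, .ded 63, .ded 79, .ded 42, .ded 61,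
  .ded 74, .ded 66, .ded 11, .ded 7, .ded 6, .ded 8, .ded 1, .ded 117, .ded 80, .ded 93, .ded 5, .ded 67,
  .ded 24, .ded 14, .ded 81, .ded 107, .ded 10, .ded 39, .ded 44, .ded 22, .ded 103, .ded 35, .ded 135]

def os14 : List Op := [
  .ded 67, .ded 63, .ded 64, .ded 65, .ded 105, .ded 92, .ded 0, .ded 59, .ded 3, .ded 75, .ded 1, .ded 78,
  .ded 11, .ded 86, .ded 19, .ded 76, .ded 23, .ded 84, .ded 36, .ded 87, .ded 43, .ded 68, .ded 69, .ded 81,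
  .ded 96, .ded 12, .ded 21, .ded 74, .ded 97, .ded 98, .ded 88, .ded 58, .ded 114, .ded 65, .ded 10, .ded 71,
  .ded 64, .ded 70, .ded 30, .ded 56, .ded 42, .ded 77]

end Cfsg.Agent.H28.F24
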