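import Cfsg.Agent.H28_F78D

set_option autoImplicit false
set_option maxRecDepth 1000000

namespace Cfsg.Agent.H28.F78

open Cfsg.Agent.H28.PM

theorem g_mI : good (nat_lit 78) mI = true := by decide +kernel

theorem g_m_a : good (nat_lit 78) m_a = true := by decide +kernel

theorem g_m_b : good (nat_lit 78) m_b = true := by decide +kernel

theorem g_m_c : good (nat_lit 78) m_c = true := by decide +kernel

theorem g_m_d : good (nat_lit 78) m_d = true := by decide +kernel

theorem g_m_e : good (nat_lit 78) m_e = true := by decide +kernel

theorem g_m_f : good (nat_lit 78) m_f = true := by decide +kernel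

theorem g_m_g : good (nat_lit 78) m_g = true := by decide +kernel

theorem g_m_h : good (nat_lit 78) m_h = true := by decide +kernel

theorem g_m_i : good (nat_lit 78) m_i = true := by decide +kernel

theorem g_p1 : good (nat_lit 78) p1 = true := by decide +kernel

theorem g_p2 : good (nat_lit 78) p2 = true := by decide +kernel

theorem g_p3 : good (nat_lit 78) p3 = true := by decide +kernel

theorem g_p4 : good (nat_lit 78) p4 = true := by decide +kernel

theorem g_p5 : good (nat_lit 78) p5 = true := by decide +kernel

theorem g_p6 : good (nat_lit 78) p6 = true := by decide +kernel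

theorem g_p7 : good (nat_lit 78) p7 = true := by decide +kernel

theorem g_p8 : good (nat_lit 78) p8 = true := by decide +kernel

theorem g_p9 : good (nat_lit 78) p9 = true := by decide +kernel

theorem g_p10 : good (nat_lit 78) p10 = true := by decide +kernel

theorem g_p11 : good (nat_lit 78) p11 = true := by decide +kernel

theorem g_p12 : good (nat_lit 78) p12 = true := by decide +kernel

theorem g_p13 : good (nat_lit 78) p13 = true := by decide +kernel

theorem g_p14 : good (nat_lit 78) p14 = true := by decide +kernel

theorem g_p15 : good (nat_lit 78) p15 = true := by decide +kernel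

theorem g_p16 : good (nat_lit 78) p16 = true := by decide +kernel

theorem g_p17 : good (nat_lit 78) p17 = true := by decide +kernel

theorem g_p18 : good (nat_lit 78) p18 = true := by decide +kernel

theorem g_p19 : good (nat_lit 78) p19 = true := by decide +kernel

theorem g_p20 : good (nat_lit 78) p20 = true := by decide +kernel

theorem g_p21 : good (nat_lit 78) p21 = true := by decide +kernel

theorem g_p22 : good (nat_lit 78) p22 = true := by decide +kernel

theorem g_p23 : good (nat_lit 78) p23 = true := by decide +kernel

theorem g_p24 : good (nat_lit 78) p24 = true := by decide +kernel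

theorem g_p25 : good (nat_lit 78) p25 = true := by decide +kernel

theorem g_p26 : good (nat_lit 78) p26 = true := by decide +kernel

theorem g_p27 : good (nat_lit 78) p27 = true := by decide +kernel

theorem g_p28 : good (nat_lit 78) p28 = true := by decide +kernel

theorem g_p29 : good (nat_lit 78) p29 = true := by decide +kernel

theorem g_p30 : good (nat_lit 78) p30 = true := by decide +kernel

theorem g_p31 : good (nat_lit 78) p31 = true := by decide +kernel

theorem g_p32 : good (nat_lit 78) p32 = true := by decide +kernel

theorem g_p33 : good (nat_lit 78) p33 = true := by decide +kernel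

theorem g_p34 : good (nat_lit 78) p34 = true := by decide +kernel

theorem g_p35 : good (nat_lit 78) p35 = true := by decide +kernel

theorem g_p36 : good (nat_lit 78) p36 = true := by decide +kernel

theorem g_p37 : good (nat_lit 78) p37 = true := by decide +kernel

theorem g_p38 : good (nat_lit 78) p38 = true := by decide +kernel

theorem g_p39 : good (nat_lit 78) p39 = true := by decide +kernel

theorem g_p40 : good (nat_lit 78) p40 = true := by decide +kernel

theorem g_p41 : good (nat_lit 78) p41 = true := by decide +kernel

theorem g_p42 : good (nat_lit 78) p42 = true := by decide +kernel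

theorem g_p43 : good (nat_lit 78) p43 = true := by decide +kernel

theorem g_p44 : good (nat_lit 78) p44 = true := by decide +kernel

theorem g_p45 : good (nat_lit 78) p45 = true := by decide +kernel

theorem g_p46 : good (nat_lit 78) p46 = true := by decide +kernel

theorem g_p47 : good (nat_lit 78) p47 = true := by decide +kernel

theorem g_p48 : good (nat_lit 78) p48 = true := by decide +kernel

theorem g_p49 : good (nat_lit 78) p49 = true := by decide +kernel

theorem g_p50 : good (nat_lit 78) p50 = true := by decide +kernel

theorem g_p51 : good (nat_lit 78) p51 = true := by decide +kernel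

theorem g_p52 : good (nat_lit 78) p52 = true := by decide +kernel

theorem g_p53 : good (nat_lit 78) p53 = true := by decide +kernel

theorem g_p54 : good (nat_lit 78) p54 = true := by decide +kernel

theorem g_p55 : good (nat_lit 78) p55 = true := by decide +kernel

theorem g_p56 : good (nat_lit 78) p56 = true := by decide +kernel

theorem g_p57 : good (nat_lit 78) p57 = true := by decide +kernel

theorem g_p58 : good (nat_lit 78) p58 = true := by decide +kernel

theorem g_p59 : good (nat_lit 78) p59 = true := by decide +kernel

theorem g_p60 : good (nat_lit 78) p60 = true := by decide +kernel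

theorem g_p61 : good (nat_lit 78) p61 = true := by decide +kernel

theorem g_p62 : good (nat_lit 78) p62 = true := by decide +kernel

theorem g_p63 : good (nat_lit 78) p63 = true := by decide +kernel

theorem g_p64 : good (nat_lit 78) p64 = true := by decide +kernel

theorem g_p65 : good (nat_lit 78) p65 = true := by decide +kernel

theorem g_p66 : good (nat_lit 78) p66 = true := by decide +kernel

theorem g_p67 : good (nat_lit 78) p67 = true := by decide +kernel

theorem g_p68 : good (nat_lit 78) p68 = true := by decide +kernel

theorem g_p69 : good (nat_lit 78) p69 = true := by decide +kernel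

theorem g_p70 : good (nat_lit 78) p70 = true := by decide +kernel

theorem g_p71 : good (nat_lit 78) p71 = true := by decide +kernel

theorem g_p72 : good (nat_lit 78) p72 = true := by decide +kernel

theorem g_p73 : good (nat_lit 78) p73 = true := by decide +kernel

theorem g_p74 : good (nat_lit 78) p74 = true := by decide +kernel

theorem g_p75 : good (nat_lit 78) p75 = true := by decide +kernel

theorem g_p76 : good (nat_lit 78) p76 = true := by decide +kernel

theorem g_p77 : good (nat_lit 78) p77 = true := by decide +kernel

theorem g_p78 : good (nat_lit 78) p78 = true := by decide +kernel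

theorem k_m_a : colOk (nat_lit 78) (nat_lit 80) sm_a = true := by decide +kernel

theorem k_m_b : colOk (nat_lit 78) (nat_lit 80) sm_b = true := by decide +kernel

theorem k_m_c : colOk (nat_lit 78) (nat_lit 80) sm_c = true := by decide +kernel

theorem k_m_d : colOk (nat_lit 78) (nat_lit 80) sm_d = true := by decide +kernel

theorem k_m_e : colOk (nat_lit 78) (nat_lit 80) sm_e = true := by decide +kernel

theorem k_m_f : colOk (nat_lit 78) (nat_lit 80) sm_f = true := by decide +kernel

theorem k_m_g : colOk (nat_lit 78) (nat_lit 80) sm_g = true := by decide +kernel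

theorem k_m_h : colOk (nat_lit 78) (nat_lit 80) sm_h = true := by decide +kernel

theorem k_m_i : colOk (nat_lit 78) (nat_lit 80) sm_i = true := by decide +kernel

theorem k_p59 : colOk (nat_lit 78) (nat_lit 80) sp59 = true := by decide +kernel

theorem k_p60 : colOk (nat_lit 78) (nat_lit 80) sp60 = true := by decide +kernel

theorem k_p61 : colOk (nat_lit 78) (nat_lit 80) sp61 = true := by decide +kernel

theorem k_p62 : colOk (nat_lit 78) (nat_lit 80) sp62 = true := by decide +kernel

theorem k_p67 : colOk (nat_lit 78) (nat_lit 80) sp67 = true := by decide +kernel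

theorem k_p68 : colOk (nat_lit 78) (nat_lit 80) sp68 = true := by decide +kernel

theorem k_p69 : colOk (nat_lit 78) (nat_lit 80) sp69 = true := by decide +kernel

theorem k_p70 : colOk (nat_lit 78) (nat_lit 80) sp70 = true := by decide +kernel

theorem k_p75 : colOk (nat_lit 78) (nat_lit 80) sp75 = true := by decide +kernel

theorem k_p76 : colOk (nat_lit 78) (nat_lit 80) sp76 = true := by decide +kernel

theorem k_p77 : colOk (nat_lit 78) (nat_lit 80) sp77 = true := by decide +kernel

theorem k_p78 : colOk (nat_lit 78) (nat_lit 80) sp78 = true := by decide +kernel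

theorem id_mI : isId 78 mI = true := by decide +kernel

theorem c_p60_mI : mulOk (nat_lit 13) (nat_lit 78) (nat_lit 80) mI sp60 p60 = true := by decide +kernel

theorem c_p62_mI : mulOk (nat_lit 13) (nat_lit 78) (nat_lit 80) mI sp62 p62 = true := by decide +kernel

theorem c_p70_mI : mulOk (nat_lit 13) (nat_lit 78) (nat_lit 80) mI sp70 p70 = true := by decide +kernel

theorem c_p78_mI : mulOk (nat_lit 13) (nat_lit 78) (nat_lit 80) mI sp78 p78 = true := by decide +kernel

theorem c_p76_mI : mulOk (nat_lit 13) (nat_lit 78) (nat_lit 80) mI sp76 p76 = true := by decide +kernel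

theorem c_m_b_mI : mulOk (nat_lit 13) (nat_lit 78) (nat_lit 80) mI sm_b m_b = true := by decide +kernel

theorem c_m_f_mI : mulOk (nat_lit 13) (nat_lit 78) (nat_lit 80) mI sm_f m_f = true := by decide +kernel

theorem c_m_f_m_f : mulOk (nat_lit 13) (nat_lit 78) (nat_lit 80) m_f sm_f mI = true := by decide +kernel

theorem c_m_d_m_a : mulOk (nat_lit 13) (nat_lit 78) (nat_lit 80) m_a sm_d p5 = true := by decide +kernel

theorem c_m_b_p12 : mulOk (nat_lit 13) (nat_lit 78) (nat_lit 80) p12 sm_b p13 = true := by decide +kernel

theorem c_m_b_m_f : mulOk (nat_lit 13) (nat_lit 78) (nat_lit 80) m_f sm_b p16 = true := by decide +kernel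

theorem c_m_b_m_i : mulOk (nat_lit 13) (nat_lit 78) (nat_lit 80) m_i sm_b p19 = true := by decide +kernel

theorem c_m_f_m_c : mulOk (nat_lit 13) (nat_lit 78) (nat_lit 80) m_c sm_f p24 = true := by decide +kernel

theorem c_m_d_m_f : mulOk (nat_lit 13) (nat_lit 78) (nat_lit 80) m_f sm_d p31 = true := by decide +kernel

theorem c_m_d_p34 : mulOk (nat_lit 13) (nat_lit 78) (nat_lit 80) p34 sm_d p35 = true := by decide +kernel

theorem c_m_f_p37 : mulOk (nat_lit 13) (nat_lit 78) (nat_lit 80) p37 sm_f p39 = true := by decide +kernel

theorem c_m_f_m_h : mulOk (nat_lit 13) (nat_lit 78) (nat_lit 80) m_h sm_f p46 = true := by decide +kernel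

theorem c_m_i_m_h : mulOk (nat_lit 13) (nat_lit 78) (nat_lit 80) m_h sm_i p51 = true := by decide +kernel

theorem c_m_d_p55 : mulOk (nat_lit 13) (nat_lit 78) (nat_lit 80) p55 sm_d p56 = true := by decide +kernel

theorem c_m_b_p65 : mulOk (nat_lit 13) (nat_lit 78) (nat_lit 80) p65 sm_b p66 = true := by decide +kernel

theorem c_m_a_mI : mulOk (nat_lit 13) (nat_lit 78) (nat_lit 80) mI sm_a m_a = true := by decide +kernel

theorem c_m_h_mI : mulOk (nat_lit 13) (nat_lit 78) (nat_lit 80) mI sm_h m_h = true := by decide +kernel

theorem c_m_g_m_g : mulOk (nat_lit 13) (nat_lit 78) (nat_lit 80) m_g sm_g mI = true := by decide +kernel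

theorem c_m_a_m_c : mulOk (nat_lit 13) (nat_lit 78) (nat_lit 80) m_c sm_a p4 = true := by decide +kernel

theorem c_m_e_m_a : mulOk (nat_lit 13) (nat_lit 78) (nat_lit 80) m_a sm_e p6 = true := by decide +kernel

theorem c_m_a_m_h : mulOk (nat_lit 13) (nat_lit 78) (nat_lit 80) m_h sm_a p9 = true := by decide +kernel

theorem c_m_c_p11 : mulOk (nat_lit 13) (nat_lit 78) (nat_lit 80) p11 sm_c p13 = true := by decide +kernel

theorem c_m_c_m_d : mulOk (nat_lit 13) (nat_lit 78) (nat_lit 80) m_d sm_c p20 = true := by decide +kernel

theorem c_m_c_m_f : mulOk (nat_lit 13) (nat_lit 78) (nat_lit 80) m_f sm_c p24 = true := by decide +kernel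

theorem c_m_h_m_c : mulOk (nat_lit 13) (nat_lit 78) (nat_lit 80) m_c sm_h p26 = true := by decide +kernel

theorem c_m_g_m_d : mulOk (nat_lit 13) (nat_lit 78) (nat_lit 80) m_d sm_g p32 = true := by decide +kernel

theorem c_m_e_p38 : mulOk (nat_lit 13) (nat_lit 78) (nat_lit 80) p38 sm_e p39 = true := by decide +kernel

theorem c_m_h_m_e : mulOk (nat_lit 13) (nat_lit 78) (nat_lit 80) m_e sm_h p41 = true := by decide +kernel

theorem c_m_h_m_f : mulOk (nat_lit 13) (nat_lit 78) (nat_lit 80) m_f sm_h p46 = true := by decide +kernel

theorem c_m_h_m_i : mulOk (nat_lit 13) (nat_lit 78) (nat_lit 80) m_i sm_h p50 = true := by decide +kernel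

theorem c_m_e_p46 : mulOk (nat_lit 13) (nat_lit 78) (nat_lit 80) p46 sm_e p63 = true := by decide +kernel

theorem c_m_c_p73 : mulOk (nat_lit 13) (nat_lit 78) (nat_lit 80) p73 sm_c p74 = true := by decide +kernel

end Cfsg.Agent.H28.F78
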