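import Cfsg.Agent.H28_F78D

set_option autoImplicit false
set_option maxRecDepth 1000000

namespace Cfsg.Agent.H28.F78

open Cfsg.Agent.H28.PM

theorem c_p60_p60 : mulOk (nat_lit 13) (nat_lit 78) (nat_lit 80) p60 sp60 p61 = true := by decide +kernel

theorem c_p62_p60 : mulOk (nat_lit 13) (nat_lit 78) (nat_lit 80) p60 sp62 mI = true := by decide +kernel

theorem c_p70_p67 : mulOk (nat_lit 13) (nat_lit 78) (nat_lit 80) p67 sp70 mI = true := by decide +kernel

theorem c_p78_p75 : mulOk (nat_lit 13) (nat_lit 78) (nat_lit 80) p75 sp78 mI = true := by decide +kernel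

theorem c_p76_p76 : mulOk (nat_lit 13) (nat_lit 78) (nat_lit 80) p76 sp76 p77 = true := by decide +kernel

theorem c_m_d_mI : mulOk (nat_lit 13) (nat_lit 78) (nat_lit 80) mI sm_d m_d = true := by decide +kernel

theorem c_m_i_mI : mulOk (nat_lit 13) (nat_lit 78) (nat_lit 80) mI sm_i m_i = true := by decide +kernel

theorem c_m_i_m_i : mulOk (nat_lit 13) (nat_lit 78) (nat_lit 80) m_i sm_i mI = true := by decide +kernel

theorem c_m_f_m_a : mulOk (nat_lit 13) (nat_lit 78) (nat_lit 80) m_a sm_f p7 = true := by decide +kernel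

theorem c_m_b_m_d : mulOk (nat_lit 13) (nat_lit 78) (nat_lit 80) m_d sm_b p14 = true := by decide +kernel

theorem c_m_f_m_b : mulOk (nat_lit 13) (nat_lit 78) (nat_lit 80) m_b sm_f p16 = true := by decide +kernel

theorem c_m_i_m_b : mulOk (nat_lit 13) (nat_lit 78) (nat_lit 80) m_b sm_i p19 = true := by decide +kernel

theorem c_m_i_m_c : mulOk (nat_lit 13) (nat_lit 78) (nat_lit 80) m_c sm_i p27 = true := by decide +kernel

theorem c_m_f_m_d : mulOk (nat_lit 13) (nat_lit 78) (nat_lit 80) m_d sm_f p31 = true := by decide +kernel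

theorem c_m_d_m_i : mulOk (nat_lit 13) (nat_lit 78) (nat_lit 80) m_i sm_d p36 = true := by decide +kernel

theorem c_m_i_m_e : mulOk (nat_lit 13) (nat_lit 78) (nat_lit 80) m_e sm_i p42 = true := by decide +kernel

theorem c_m_f_m_i : mulOk (nat_lit 13) (nat_lit 78) (nat_lit 80) m_i sm_f p47 = true := by decide +kernel

theorem c_m_i_p50 : mulOk (nat_lit 13) (nat_lit 78) (nat_lit 80) p50 sm_i p52 = true := by decide +kernel

theorem c_m_b_p56 : mulOk (nat_lit 13) (nat_lit 78) (nat_lit 80) p56 sm_b p57 = true := by decide +kernel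

theorem c_m_f_p48 : mulOk (nat_lit 13) (nat_lit 78) (nat_lit 80) p48 sm_f p71 = true := by decide +kernel

theorem c_m_c_mI : mulOk (nat_lit 13) (nat_lit 78) (nat_lit 80) mI sm_c m_c = true := by decide +kernel

theorem c_m_a_m_a : mulOk (nat_lit 13) (nat_lit 78) (nat_lit 80) m_a sm_a mI = true := by decide +kernel

theorem c_m_h_m_h : mulOk (nat_lit 13) (nat_lit 78) (nat_lit 80) m_h sm_h mI = true := by decide +kernel

theorem c_m_c_m_a : mulOk (nat_lit 13) (nat_lit 78) (nat_lit 80) m_a sm_c p4 = true := by decide +kernel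

theorem c_m_a_m_f : mulOk (nat_lit 13) (nat_lit 78) (nat_lit 80) m_f sm_a p7 = true := by decide +kernel

theorem c_m_h_m_a : mulOk (nat_lit 13) (nat_lit 78) (nat_lit 80) m_a sm_h p9 = true := by decide +kernel

theorem c_m_e_m_b : mulOk (nat_lit 13) (nat_lit 78) (nat_lit 80) m_b sm_e p15 = true := by decide +kernel

theorem c_m_c_p21 : mulOk (nat_lit 13) (nat_lit 78) (nat_lit 80) p21 sm_c p22 = true := by decide +kernel

theorem c_m_c_m_g : mulOk (nat_lit 13) (nat_lit 78) (nat_lit 80) m_g sm_c p25 = true := by decide +kernel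

theorem c_m_c_m_i : mulOk (nat_lit 13) (nat_lit 78) (nat_lit 80) m_i sm_c p27 = true := by decide +kernel

theorem c_m_h_m_d : mulOk (nat_lit 13) (nat_lit 78) (nat_lit 80) m_d sm_h p34 = true := by decide +kernel

theorem c_m_e_m_g : mulOk (nat_lit 13) (nat_lit 78) (nat_lit 80) m_g sm_e p40 = true := by decide +kernel

theorem c_m_e_m_i : mulOk (nat_lit 13) (nat_lit 78) (nat_lit 80) m_i sm_e p42 = true := by decide +kernel

theorem c_m_g_m_h : mulOk (nat_lit 13) (nat_lit 78) (nat_lit 80) m_h sm_g p48 = true := by decide +kernel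

theorem c_m_h_p51 : mulOk (nat_lit 13) (nat_lit 78) (nat_lit 80) p51 sm_h p52 = true := by decide +kernel

theorem c_m_c_p64 : mulOk (nat_lit 13) (nat_lit 78) (nat_lit 80) p64 sm_c p65 = true := by decide +kernel

end Cfsg.Agent.H28.F78
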