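import Cfsg.Agent.H28_F78D

set_option autoImplicit false
set_option maxRecDepth 1000000

namespace Cfsg.Agent.H28.F78

open Cfsg.Agent.H28.PM

theorem c_p61_mI : mulOk (nat_lit 13) (nat_lit 78) (nat_lit 80) mI sp61 p61 = true := by decide +kernel

theorem c_p59_mI : mulOk (nat_lit 13) (nat_lit 78) (nat_lit 80) mI sp59 p59 = true := by decide +kernel

theorem c_p67_mI : mulOk (nat_lit 13) (nat_lit 78) (nat_lit 80) mI sp67 p67 = true := by decide +kernel

theorem c_p75_mI : mulOk (nat_lit 13) (nat_lit 78) (nat_lit 80) mI sp75 p75 = true := by decide +kernel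

theorem c_p68_mI : mulOk (nat_lit 13) (nat_lit 78) (nat_lit 80) mI sp68 p68 = true := by decide +kernel

theorem c_p69_mI : mulOk (nat_lit 13) (nat_lit 78) (nat_lit 80) mI sp69 p69 = true := by decide +kernel

theorem c_p77_mI : mulOk (nat_lit 13) (nat_lit 78) (nat_lit 80) mI sp77 p77 = true := by decide +kernel

theorem c_m_b_m_b : mulOk (nat_lit 13) (nat_lit 78) (nat_lit 80) m_b sm_b mI = true := by decide +kernel

theorem c_m_b_m_a : mulOk (nat_lit 13) (nat_lit 78) (nat_lit 80) m_a sm_b p2 = true := by decide +kernel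

theorem c_m_i_m_a : mulOk (nat_lit 13) (nat_lit 78) (nat_lit 80) m_a sm_i p10 = true := by decide +kernel

theorem c_m_d_m_b : mulOk (nat_lit 13) (nat_lit 78) (nat_lit 80) m_b sm_d p14 = true := by decide +kernel

theorem c_m_b_m_g : mulOk (nat_lit 13) (nat_lit 78) (nat_lit 80) m_g sm_b p17 = true := by decide +kernel

theorem c_m_d_m_c : mulOk (nat_lit 13) (nat_lit 78) (nat_lit 80) m_c sm_d p21 = true := by decide +kernel

theorem c_m_d_m_e : mulOk (nat_lit 13) (nat_lit 78) (nat_lit 80) m_e sm_d p28 = true := by decide +kernel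

theorem c_m_d_m_g : mulOk (nat_lit 13) (nat_lit 78) (nat_lit 80) m_g sm_d p32 = true := by decide +kernel

theorem c_m_i_m_d : mulOk (nat_lit 13) (nat_lit 78) (nat_lit 80) m_d sm_i p36 = true := by decide +kernel

theorem c_m_f_m_g : mulOk (nat_lit 13) (nat_lit 78) (nat_lit 80) m_g sm_f p43 = true := by decide +kernel

theorem c_m_i_m_f : mulOk (nat_lit 13) (nat_lit 78) (nat_lit 80) m_f sm_i p47 = true := by decide +kernel

theorem c_m_d_p50 : mulOk (nat_lit 13) (nat_lit 78) (nat_lit 80) p50 sm_d p53 = true := by decide +kernel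

theorem c_m_d_p58 : mulOk (nat_lit 13) (nat_lit 78) (nat_lit 80) p58 sm_d p59 = true := by decide +kernel

theorem c_m_d_p72 : mulOk (nat_lit 13) (nat_lit 78) (nat_lit 80) p72 sm_d p73 = true := by decide +kernel

theorem c_m_e_mI : mulOk (nat_lit 13) (nat_lit 78) (nat_lit 80) mI sm_e m_e = true := by decide +kernel

theorem c_m_c_m_c : mulOk (nat_lit 13) (nat_lit 78) (nat_lit 80) m_c sm_c mI = true := by decide +kernel

theorem c_m_a_m_b : mulOk (nat_lit 13) (nat_lit 78) (nat_lit 80) m_b sm_a p1 = true := by decide +kernel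

theorem c_m_a_m_d : mulOk (nat_lit 13) (nat_lit 78) (nat_lit 80) m_d sm_a p5 = true := by decide +kernel

theorem c_m_a_m_g : mulOk (nat_lit 13) (nat_lit 78) (nat_lit 80) m_g sm_a p8 = true := by decide +kernel

theorem c_m_a_m_i : mulOk (nat_lit 13) (nat_lit 78) (nat_lit 80) m_i sm_a p10 = true := by decide +kernel

theorem c_m_g_m_b : mulOk (nat_lit 13) (nat_lit 78) (nat_lit 80) m_b sm_g p17 = true := by decide +kernel

theorem c_m_c_m_e : mulOk (nat_lit 13) (nat_lit 78) (nat_lit 80) m_e sm_c p23 = true := by decide +kernel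

theorem c_m_g_m_c : mulOk (nat_lit 13) (nat_lit 78) (nat_lit 80) m_c sm_g p25 = true := by decide +kernel

theorem c_m_e_m_d : mulOk (nat_lit 13) (nat_lit 78) (nat_lit 80) m_d sm_e p29 = true := by decide +kernel

theorem c_m_h_p33 : mulOk (nat_lit 13) (nat_lit 78) (nat_lit 80) p33 sm_h p35 = true := by decide +kernel

theorem c_m_g_m_e : mulOk (nat_lit 13) (nat_lit 78) (nat_lit 80) m_e sm_g p40 = true := by decide +kernel

theorem c_m_g_m_f : mulOk (nat_lit 13) (nat_lit 78) (nat_lit 80) m_f sm_g p44 = true := by decide +kernel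

theorem c_m_h_m_g : mulOk (nat_lit 13) (nat_lit 78) (nat_lit 80) m_g sm_h p48 = true := by decide +kernel

theorem c_m_e_p54 : mulOk (nat_lit 13) (nat_lit 78) (nat_lit 80) p54 sm_e p55 = true := by decide +kernel

theorem c_m_a_p66 : mulOk (nat_lit 13) (nat_lit 78) (nat_lit 80) p66 sm_a p67 = true := by decide +kernel

end Cfsg.Agent.H28.F78
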