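import Cfsg.Agent.H28_F78D

set_option autoImplicit false
set_option maxRecDepth 1000000

namespace Cfsg.Agent.H28.F78

open Cfsg.Agent.H28.PM

theorem c_p61_p61 : mulOk (nat_lit 13) (nat_lit 78) (nat_lit 80) p61 sp61 p62 = true := by decide +kernel

theorem c_p59_p59 : mulOk (nat_lit 13) (nat_lit 78) (nat_lit 80) p59 sp59 p60 = true := by decide +kernel

theorem c_p67_p67 : mulOk (nat_lit 13) (nat_lit 78) (nat_lit 80) p67 sp67 p68 = true := by decide +kernel

theorem c_p75_p75 : mulOk (nat_lit 13) (nat_lit 78) (nat_lit 80) p75 sp75 p76 = true := by decide +kernel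

theorem c_p68_p68 : mulOk (nat_lit 13) (nat_lit 78) (nat_lit 80) p68 sp68 p69 = true := by decide +kernel

theorem c_p69_p69 : mulOk (nat_lit 13) (nat_lit 78) (nat_lit 80) p69 sp69 p70 = true := by decide +kernel

theorem c_p77_p77 : mulOk (nat_lit 13) (nat_lit 78) (nat_lit 80) p77 sp77 p78 = true := by decide +kernel

theorem c_m_d_m_d : mulOk (nat_lit 13) (nat_lit 78) (nat_lit 80) m_d sm_d mI = true := by decide +kernel

theorem c_m_b_p1 : mulOk (nat_lit 13) (nat_lit 78) (nat_lit 80) p1 sm_b p3 = true := by decide +kernel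

theorem c_m_b_m_c : mulOk (nat_lit 13) (nat_lit 78) (nat_lit 80) m_c sm_b p11 = true := by decide +kernel

theorem c_m_b_m_e : mulOk (nat_lit 13) (nat_lit 78) (nat_lit 80) m_e sm_b p15 = true := by decide +kernel

theorem c_m_b_m_h : mulOk (nat_lit 13) (nat_lit 78) (nat_lit 80) m_h sm_b p18 = true := by decide +kernel

theorem c_m_d_p20 : mulOk (nat_lit 13) (nat_lit 78) (nat_lit 80) p20 sm_d p22 = true := by decide +kernel

theorem c_m_d_p29 : mulOk (nat_lit 13) (nat_lit 78) (nat_lit 80) p29 sm_d p30 = true := by decide +kernel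

theorem c_m_d_m_h : mulOk (nat_lit 13) (nat_lit 78) (nat_lit 80) m_h sm_d p33 = true := by decide +kernel

theorem c_m_f_m_e : mulOk (nat_lit 13) (nat_lit 78) (nat_lit 80) m_e sm_f p38 = true := by decide +kernel

theorem c_m_f_p44 : mulOk (nat_lit 13) (nat_lit 78) (nat_lit 80) p44 sm_f p45 = true := by decide +kernel

theorem c_m_i_m_g : mulOk (nat_lit 13) (nat_lit 78) (nat_lit 80) m_g sm_i p49 = true := by decide +kernel

theorem c_m_f_p53 : mulOk (nat_lit 13) (nat_lit 78) (nat_lit 80) p53 sm_f p54 = true := by decide +kernel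

theorem c_m_d_p63 : mulOk (nat_lit 13) (nat_lit 78) (nat_lit 80) p63 sm_d p64 = true := by decide +kernel

theorem c_m_b_p74 : mulOk (nat_lit 13) (nat_lit 78) (nat_lit 80) p74 sm_b p75 = true := by decide +kernel

theorem c_m_g_mI : mulOk (nat_lit 13) (nat_lit 78) (nat_lit 80) mI sm_g m_g = true := by decide +kernel

theorem c_m_e_m_e : mulOk (nat_lit 13) (nat_lit 78) (nat_lit 80) m_e sm_e mI = true := by decide +kernel

theorem c_m_a_p2 : mulOk (nat_lit 13) (nat_lit 78) (nat_lit 80) p2 sm_a p3 = true := by decide +kernel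

theorem c_m_a_m_e : mulOk (nat_lit 13) (nat_lit 78) (nat_lit 80) m_e sm_a p6 = true := by decide +kernel

theorem c_m_g_m_a : mulOk (nat_lit 13) (nat_lit 78) (nat_lit 80) m_a sm_g p8 = true := by decide +kernel

theorem c_m_c_m_b : mulOk (nat_lit 13) (nat_lit 78) (nat_lit 80) m_b sm_c p12 = true := by decide +kernel

theorem c_m_h_m_b : mulOk (nat_lit 13) (nat_lit 78) (nat_lit 80) m_b sm_h p18 = true := by decide +kernel

theorem c_m_e_m_c : mulOk (nat_lit 13) (nat_lit 78) (nat_lit 80) m_c sm_e p23 = true := by decide +kernel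

theorem c_m_c_m_h : mulOk (nat_lit 13) (nat_lit 78) (nat_lit 80) m_h sm_c p26 = true := by decide +kernel

theorem c_m_e_p28 : mulOk (nat_lit 13) (nat_lit 78) (nat_lit 80) p28 sm_e p30 = true := by decide +kernel

theorem c_m_e_m_f : mulOk (nat_lit 13) (nat_lit 78) (nat_lit 80) m_f sm_e p37 = true := by decide +kernel

theorem c_m_e_m_h : mulOk (nat_lit 13) (nat_lit 78) (nat_lit 80) m_h sm_e p41 = true := by decide +kernel

theorem c_m_g_p43 : mulOk (nat_lit 13) (nat_lit 78) (nat_lit 80) p43 sm_g p45 = true := by decide +kernel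

theorem c_m_g_m_i : mulOk (nat_lit 13) (nat_lit 78) (nat_lit 80) m_i sm_g p49 = true := by decide +kernel

theorem c_m_c_p57 : mulOk (nat_lit 13) (nat_lit 78) (nat_lit 80) p57 sm_c p58 = true := by decide +kernel

theorem c_m_e_p71 : mulOk (nat_lit 13) (nat_lit 78) (nat_lit 80) p71 sm_e p72 = true := by decide +kernel

end Cfsg.Agent.H28.F78
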