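import Cfsg.Agent.H28_OA2
import Cfsg.Agent.H8_Fi22A

set_option autoImplicit false
set_option maxRecDepth 100000

namespace Cfsg.Agent.H28.O2

open Cfsg H8.CE H8.Net H8.Act H8.Act2 OA

def gp (s : ℕ) : ℕ := [0, 0, 695, 1, 3, 11, 38, 106, 14, 47].getD s 0

def X : List ℕ := [9, 2, 3, 4, 8, 5, 4, 3, 2, 1, 2, 3, 4, 5, 8, 4, 3, 2, 4, 3, 4, 8, 4, 8, 3, 6, 5, 7]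

def T : ℕ := 2 ^ 1 ||| 2 ^ 3 ||| 2 ^ 11 ||| 2 ^ 38 ||| 2 ^ 106 ||| 2 ^ 14 ||| 2 ^ 47

def good0 : List (ℕ × ℕ × List ℕ) := [(492, 1, [2, 3, 4, 5, 6, 7, 8, 4, 3, 2, 5, 4, 3, 6, 8, 9, 8, 4, 3, 5, 4, 6, 8]), (19, 3, [4, 5, 8, 4]), (40, 1, [2, 3, 4, 5, 6, 8, 4, 3, 2, 5, 4, 3, 8, 4]), (224, 1, [2, 3, 4, 5, 6, 8, 4, 3, 2, 5, 9, 8, 4, 3, 5]), (301, 1, [2, 3, 4, 5, 6, 8, 4, 3, 2, 5, 4, 9, 8, 4, 3, 5]), (79, 1, [2, 3, 4, 5, 8, 4, 3, 2, 9, 8, 4, 3, 5, 4, 6]), (131, 3, [4, 5, 6, 7, 8, 4, 9, 8]), (245, 1, [2, 3, 4, 5, 6, 7, 8, 4, 3, 2, 5, 4, 3, 6, 9, 8]), (282, 1, [2, 3, 4, 5, 6, 7, 8, 4, 3, 2, 5, 4, 6, 9, 8, 4]), (366, 1, [2, 3, 4, 5, 6, 7, 8, 4, 3, 2, 5, 4, 9, 8, 4, 5, 6]), (61, 3, [4, 5, 8, 4, 9, 8]), (83,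 3, [4, 5, 6, 7, 8, 4, 9]), (114, 1, [2, 3, 4, 5, 6, 7, 8, 4, 3, 2, 5, 4, 3, 6])]

def good1 : List (ℕ × ℕ × List ℕ) := [(164, 1, [2, 3, 4, 5, 6, 8, 4, 3, 2, 5, 9, 8, 4, 5, 6, 7]), (178, 1, [2, 3, 4, 5, 6, 7, 8, 4, 3, 2, 5, 4, 3, 6, 5, 4, 9, 8, 4]), (196, 1, [2, 3, 4, 5, 6, 7, 8, 4, 3, 2, 5, 6, 9]), (227, 1, [2, 3, 4, 5, 6, 8, 4, 3, 2, 5, 4, 8, 9, 8, 4, 5, 6]), (295, 1, [2, 3, 4, 5, 6, 7, 8, 4, 3, 2, 5, 4, 8, 9, 8, 4, 3, 5]), (296, 1, [2, 3, 4, 5, 6, 7, 8, 4, 3, 2, 5, 4, 8, 9, 8, 4, 5, 6]), (396, 3, [4, 5, 6, 7, 8, 4, 5, 6, 9, 8, 4, 5]), (432, 1, [2, 3, 4, 5, 6, 7, 8, 4, 3, 2, 5, 4, 6, 5, 9, 8, 4, 5]), (435, 1, [2, 3, 4, 5, 6, 7, 8, 4, 3, 2, 5, 4, 6, 9, 8, 4, 5, 6]), (3, 4, []), (7, 4, [8]), (11, 5,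 [])]

def good2 : List (ℕ × ℕ × List ℕ) := [(38, 6, []), (39, 5, [6, 7]), (50, 3, [4, 5, 6, 7, 8, 4]), (56, 3, [4, 5, 6, 8, 4, 9]), (66, 6, [7]), (91, 3, [4, 5, 6, 8, 4, 5, 9]), (128, 3, [4, 5, 6, 7, 8, 4, 5, 6]), (326, 1, [2, 3, 4, 5, 6, 7, 8, 4, 3, 2, 5, 4, 3, 6, 5, 8, 9, 8, 4]), (60, 1, [2, 3, 4, 5, 6, 8, 4, 3, 2, 5, 4, 8, 9, 8]), (100, 1, [2, 3, 4, 5, 8, 4, 3, 2, 9]), (106, 7, []), (288, 1, [2, 3, 4, 5, 6, 7, 8, 4, 3, 2, 5, 4, 6, 5, 8, 9, 8, 4]), (320, 1, [2, 3, 4, 5, 6, 7, 8, 4, 3, 2, 5, 4, 3, 8, 9, 8, 4, 5, 6])]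

def good3 : List (ℕ × ℕ × List ℕ) := [(5, 3, [4, 8]), (10, 3, [4, 8, 9]), (161, 1, [2, 3, 4, 5, 6, 8, 4, 3, 2, 5, 9, 8, 4, 5]), (332, 3, [4, 5, 6, 7, 8, 4, 5, 6, 9, 8, 4]), (2, 3, [4]), (25, 1, [2, 3, 4, 5, 6, 8, 4, 3, 2, 5, 4, 3, 8]), (183, 1, [2, 3, 4, 5, 6, 8, 4, 3, 2, 9, 8, 4, 3, 5, 4]), (395, 3, [4, 5, 6, 7, 8, 4, 5, 6, 9, 8, 4, 3]), (23, 4, [5, 6, 7]), (93, 3, [4, 5, 6, 8, 4, 9, 8])]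

def good : List (ℕ × ℕ × List ℕ) := good0 ++ good1 ++ good2 ++ good3

def bad : List (ℕ × ℕ × List ℕ) := [(1, 3, []), (8, 3, [4, 5, 6]), (12, 4, [5, 6]), (17, 3, [4, 5, 6, 8]), (24, 4, [5, 6, 8]), (47, 9, []), (65, 1, [2, 3, 4, 5, 8, 4, 3, 2, 9, 8, 4, 5, 6, 7]), (90, 1, [2, 3, 4, 5, 6, 7, 8, 4, 3, 2, 5, 4, 8, 9, 8]), (139, 1, [2, 3, 4, 5, 6, 7, 8, 4, 3, 2, 5, 4, 9, 8]), (260, 3, [4, 5, 6, 7, 8, 4, 5, 9, 8, 4]), (157, 1, [2, 3, 4, 5, 6, 8, 4, 3, 2, 5, 4, 9, 8, 4]), (506, 1, [2, 3, 4, 5, 6, 7, 8, 4, 3, 2, 5, 4, 6, 5, 9, 8, 4, 5, 6]), (243, 1, [2, 3, 4, 5, 6, 7, 8, 4, 3, 2, 5, 4, 3, 6, 5, 4]), (335, 3, [4, 5, 6, 7, 8, 4, 5, 9, 8, 4, 3]), (268, 1, [2, 3, 4, 5, 6, 7, 8, 4, 3, 2, 5, 4, 9, 8, 4, 3, 5, 4,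 6, 8])]

def r0 : ℕ × ℕ × List ℕ := (1, 3, [])

def T0 : ℕ := 2 ^ 14 ||| 2 ^ 47 ||| 2 ^ 1 ||| 2 ^ 12

def C0 : List (List ℕ × Bool) := [([1], true), (X, false)]

def C1 : List (List ℕ × Bool) := C0 ++ [(dwd [] 8, true), (dwd [] 9, true), (dwd [] 3, true), (dwd [5, 6] 4, true)]

end Cfsg.Agent.H28.O2
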