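import Cfsg.Agent.H28_OA3
import Cfsg.Agent.H28_O2D

/-! `Fi22`: sizes of the levels. -/

set_option autoImplicit false
set_option maxRecDepth 100000

namespace Cfsg.Agent.H28.O2

open Cfsg H8.CE H8.Net H8.Act H8.Act2 OA

theorem lv8 : lvB H8.Fi22A.L 3510 12 [] (gp 8) 3510 = true := by decide +kernel
theorem lv4 : lvB H8.Fi22A.L 3510 12 [8] (gp 4) 2816 = true := by decide +kernel
theorem lv6 : lvB H8.Fi22A.L 3510 12 [8, 4] (gp 6) 126 = true := by decide +kernel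
theorem lv7 : lvB H8.Fi22A.L 3510 12 [8, 4, 6] (gp 7) 80 = true := by decide +kernel
theorem lv1 : lvB H8.Fi22A.L 3510 12 [8, 4, 6, 7] (gp 1) 18 = true := by decide +kernel
theorem lv3 : lvB H8.Fi22A.L 3510 12 [8, 6, 7, 1, 4] (gp 3) 10 = true := by decide +kernel
theorem lv9 : lvB H8.Fi22A.L 3510 12 [4, 3, 6, 1, 7, 8] (gp 9) 2 = true := by decide +kernel
theorem lv2 : lvB H8.Fi22A.L 3510 12 [8, 4, 9, 6, 7, 1] (gp 2) 4 = true := by decide +kernel
theorem lv5 : lvB H8.Fi22A.L 3510 12 [8, 9, 7, 1, 2, 4, 3] (gp 5) 1 = true := by decide +kernel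

end Cfsg.Agent.H28.O2
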