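import Cfsg.Agent.H28_O2B
import Cfsg.Agent.H28_O2E0
import Cfsg.Agent.H28_O2E1
import Cfsg.Agent.H28_O2E2
import Cfsg.Agent.H28_O2E3
import Cfsg.Agent.H28_O2L

/-! `Fi22`: automorphisms preserve the transpositions; the bound on the automorphism group. -/

set_option autoImplicit false
set_option maxRecDepth 100000

namespace Cfsg.Agent.H28.O2

open Cfsg H8.CE H8.Net H8.Act H8.Act2 H8.Fi22M OA Cfsg.Spor

theorem hgood : ∀ c ∈ good, ∃ r, repB H8.Fi22A.L 9 gp X r T c = true := by
  intro c hc
  unfold good at hc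
  simp only [List.mem_append] at hc
  rcases hc with ((hc | hc) | hc) | hc
  · exact ⟨_, repsB_iff hgood0 c hc⟩
  · exact ⟨_, repsB_iff hgood1 c hc⟩
  · exact ⟨_, repsB_iff hgood2 c hc⟩
  · exact ⟨_, repsB_iff hgood3 c hc⟩

theorem U {y : Fi22} (hy2 : y * y = 1) (hyX : y * ev x X = ev x X * y) : y = 1 ∨ y = x 1 := by
  have h0 : FX phi y 0 := by
    have h1 := (patEq_iff dat.hs dat.hn fixX (phi y ⟨0, H8.Fi22M.hn0⟩).2).2 (by
      intro c hc
      simp only [List.mem_cons, List.not_mem_nil, or_false] at hc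
      rw [hc]
      rw [fix_of_comm compat (dat.lt16 Xok) hyX ⟨0, H8.Fi22M.hn0⟩]
      have h2 : tr H8.Fi22A.L X 0 = 0 := by decide +kernel
      simpa using h2)
    have h2 : ((phi y ⟨0, H8.Fi22M.hn0⟩ : Fin 3510) : ℕ) = 0 := by
      by_contra hne
      have : Nat.testBit 1 ((phi y ⟨0, H8.Fi22M.hn0⟩ : Fin 3510) : ℕ) = false := by
        apply Nat.testBit_lt_two_pow
        exact Nat.one_lt_two_pow hne
      rw [this] at h1; exact absurd h1 (by simp)
    exact ⟨H8.Fi22M.hn0, Fin.ext h2⟩
  have h1 : y * x 1 = x 1 * y := (cc1.iff y).1 h0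
  have e1 : ev x [1] = x 1 := by rw [ev_cons, ev_nil, mul_one]
  have hT : ∀ i, T.testBit i = true → FX phi y i := by
    refine dat.tgt Xok hy2 hyX (C0 := C0) (T := T) (T0 := T0) (r0 := r0) (good := good) (bad := bad)
      (P1 := [(14, 8, []), (47, 9, []), (1, 3, []), (12, 4, [5, 6])]) ?_ hgood ⟨_, hr0⟩ okP1 hC1 ⟨_, hbad⟩ hC0
    refine dat.pres ?_
    intro c hc
    unfold C0 at hc
    simp only [List.mem_cons, List.not_mem_nil, or_false] at hc
    rcases hc with rfl | rfl
    · rw [e1]; exact ⟨h1, by simp⟩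
    · exact ⟨hyX, dat.lt16 Xok⟩
  have hs : ∀ s, 3 ≤ s → s ≤ 9 → y * x s = x s * y := by
    intro s h3 h4
    rw [← (dat.cc s (by omega) h4).iff]
    apply hT
    have h5 := Tok
    rw [List.all_eq_true] at h5
    exact h5 s (by simp only [List.mem_cons, List.not_mem_nil, or_false]; omega)
  have hs' : ∀ s, s ≠ 2 → 1 ≤ s → s ≤ 9 → y * x s = x s * y := by
    intro s h3 h4 h5
    rcases Nat.lt_or_ge s 3 with h6 | h6
    · have : s = 1 := by omega
      rw [this]; exact h1
    · exact hs s h6 h5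
  have hb := dat.atom (y := y) (C := Cb) (p := 695) (q := 694) (by
    intro w hw
    unfold Cb at hw
    simp only [List.mem_cons, List.not_mem_nil, or_false] at hw
    rcases hw with rfl | rfl | rfl | rfl | rfl | rfl
    all_goals
      refine ⟨?_, by simp⟩
      rw [ev_cons, ev_nil, mul_one]
    · exact hs 4 (by decide) (by decide)
    · exact hs 5 (by decide) (by decide)
    · exact hs 6 (by decide) (by decide)
    · exact hs 7 (by decide) (by decide)
    · exact hs 9 (by decide) (by decide)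
    · exact hs 3 (by decide) (by decide)) at_b (by decide)
  have hfin : ∀ w : Fi22, (∀ s, s ≠ 2 → 1 ≤ s → s ≤ 9 → w * x s = x s * w) → FX phi w 695 → w = 1 := by
    intro w h2 h3
    refine dat.triv center gen ?_
    intro j h4 h5
    by_cases h6 : j = 2
    · rw [h6]; exact (cc2.iff w).1 h3
    · exact h2 j h6 h4 h5
  rcases hb with hb | hb
  · left
    exact hfin y hs' ⟨by decide, Fin.ext hb⟩
  · right
    have h2 : FX phi (x 1 * y) 695 := by
      refine ⟨by decide, ?_⟩
      rw [map_mul, Equiv.Perm.mul_apply]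
      have h3 : phi y ⟨695, by decide⟩ = ⟨694, by decide⟩ := Fin.ext hb
      rw [h3]
      have h4 := compat_ev compat [1] (by simp) ⟨695, by decide⟩
      have h5 : (phi (ev x [1]))⁻¹ ⟨695, by decide⟩ = (⟨694, by decide⟩ : Fin 3510) := Fin.ext (by rw [h4]; exact t694)
      rw [e1, Equiv.Perm.inv_eq_iff_eq] at h5
      exact h5.symm
    have h3 := hfin (x 1 * y) (by
      intro s h4 h5 h6
      have h7 := hs' s h4 h5 h6
      have h8 : x 1 * x s = x s * x 1 := by
        by_cases h9 : s = 1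
        · rw [h9]
        · have h10 : 3 ≤ s := by omega
          rw [← (dat.cc s h5 h6).iff]
          have e2 := FX_iff compat (w := [1]) (by simp) (dat.cc s h5 h6).1
          rw [e1] at e2
          rw [e2]
          have h11 : ([3, 4, 5, 6, 7, 8, 9].all fun s => Nat.beq (tr H8.Fi22A.L [1] (gp s)) (gp s)) = true := by decide +kernel
          rw [List.all_eq_true] at h11
          exact Nat.eq_of_beq_eq_true (h11 s (by simp only [List.mem_cons, List.not_mem_nil, or_false]; omega))
      rw [mul_assoc, h7, ← mul_assoc, h8, mul_assoc]) h2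
    have h4 : y = x 1 * (x 1 * y) := by rw [← mul_assoc, sqq 1 (by decide) (by decide), one_mul]
    rw [h4, h3, mul_one]

theorem comm1X : x 1 * ev x X = ev x X * x 1 := by
  have h : FX phi (ev x X) 0 := by
    rw [FX_iff compat (dat.lt16 Xok) (by decide)]
    decide +kernel
  exact ((cc1.iff _).1 h).symm

theorem finG : Finite Fi22 := Nat.finite_of_card_ne_zero (by rw [main.1]; decide)

theorem aut_letters (α : MulAut Fi22) : ∀ j, 1 ≤ j → j ≤ 9 → ∃ g, α (x j) = g * x j * g⁻¹ := by
  haveI := finG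
  haveI : Fact (Nat.Prime 11) := ⟨by norm_num⟩
  obtain ⟨c, hc⟩ := aut_sylow (p := 11) (by rw [main.1]; norm_num) ordX α
  refine conj_letters conj1 (s := 1) (by decide) (by decide) ?_
  have h1 := hc (x 1) comm1X
  have h2 : c * α (x 1) * c⁻¹ * (c * α (x 1) * c⁻¹) = 1 := by
    have : α (x 1) * α (x 1) = 1 := by rw [← map_mul, sqq 1 (by decide) (by decide), map_one]
    calc c * α (x 1) * c⁻¹ * (c * α (x 1) * c⁻¹) = c * (α (x 1) * α (x 1)) * c⁻¹ := by group
      _ = 1 := by rw [this]; group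
  rcases U h2 h1 with h3 | h3
  · exfalso
    have h4 : α (x 1) = 1 := by
      have : α (x 1) = c⁻¹ * (c * α (x 1) * c⁻¹) * c := by group
      rw [this, h3]; group
    exact x_ne (α.injective (by rw [h4, map_one]))
  · exact (isConj_iff.2 ⟨c, h3⟩ : IsConj (α (x 1)) (x 1)).symm

theorem card_aut_le : Nat.card (MulAut Fi22) ≤ 3510 * (2816 * (126 * (80 * (18 * (10 * (2 * (4 * (1 * 1)))))))) := by
  haveI := finG
  have h1 := dat.level aut_letters (l := []) (b := 8) (by decide) (by decide) (by simp) lv8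
  have h2 := dat.level aut_letters (l := [x 8]) (b := 4) (by decide) (by decide) (by simp) lv4
  have h3 := dat.level aut_letters (l := [x 4, x 8]) (b := 6) (by decide) (by decide) (by simp) lv6
  have h4 := dat.level aut_letters (l := [x 6, x 4, x 8]) (b := 7) (by decide) (by decide) (by simp) lv7
  have h5 := dat.level aut_letters (l := [x 7, x 6, x 4, x 8]) (b := 1) (by decide) (by decide) (by simp) lv1
  have h6 := dat.level aut_letters (l := [x 1, x 7, x 6, x 4, x 8]) (b := 3) (by decide) (by decide) (by simp) lv3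
  have h7 := dat.level aut_letters (l := [x 3, x 1, x 7, x 6, x 4, x 8]) (b := 9) (by decide) (by decide) (by simp) lv9
  have h8 := dat.level aut_letters (l := [x 9, x 3, x 1, x 7, x 6, x 4, x 8]) (b := 2) (by decide) (by decide) (by simp) lv2
  have h9 := dat.level aut_letters (l := [x 2, x 9, x 3, x 1, x 7, x 6, x 4, x 8]) (b := 5) (by decide) (by decide) (by simp) lv5
  have h10 := stabs_gen (G := Fi22) (l := [x 5, x 2, x 9, x 3, x 1, x 7, x 6, x 4, x 8]) (by
    rw [eq_top_iff, ← gen, Subgroup.closure_le]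
    rintro _ ⟨j, hj1, hj2, rfl⟩
    apply Subgroup.subset_closure
    obtain rfl | rfl | rfl | rfl | rfl | rfl | rfl | rfl | rfl : j = 1 ∨ j = 2 ∨ j = 3 ∨ j = 4 ∨ j = 5 ∨ j = 6 ∨ j = 7 ∨
      j = 8 ∨ j = 9 := by omega
    all_goals simp)
  have h11 : Nat.card (stabs (MulAut.toPerm Fi22) []) = Nat.card (MulAut Fi22) := Subgroup.card_top
  rw [h11] at h1
  rw [h10] at h9
  refine h1.trans (Nat.mul_le_mul_left _ (h2.trans (Nat.mul_le_mul_left _ (h3.trans (Nat.mul_le_mul_left _ (h4.trans
    (Nat.mul_le_mul_left _ (h5.trans (Nat.mul_le_mul_left _ (h6.trans (Nat.mul_le_mul_left _ (h7.trans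
    (Nat.mul_le_mul_left _ (h8.trans (Nat.mul_le_mul_left _ h9)))))))))))))))

theorem card_out_le : Nat.card (Cfsg.Out Fi22) ≤ 2 := by
  have h1 := card_aut_le
  rw [card_aut_eq center, main.1] at h1
  by_contra h2
  have h3 : 64561751654400 * 3 ≤ 64561751654400 * Nat.card (Cfsg.Out Fi22) := Nat.mul_le_mul_left _ (by omega)
  have h4 := h3.trans h1
  revert h4
  norm_num

end Cfsg.Agent.H28.O2
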