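import Cfsg.Agent.H28_O2S
import Cfsg.Agent.H28_O2U

/-! `Fi22`: the outer automorphism group has order `2`. -/

set_option autoImplicit false
set_option maxRecDepth 100000
set_option linter.constructorNameAsVariable false

namespace Cfsg.Agent.H28.O2

open Cfsg H8.CE H8.Net H8.Act H8.Act2 H8.Cox H8.Fi22R H8.Fi22M OA Cfsg.Spor

/-- images of the generators -/
noncomputable def fS : Fi22.Gen → Fi22
  | .a => x 7
  | .b => x 6
  | .c => x 5
  | .d => x 4
  | .e => x 3
  | .f => x 2
  | .g => x 1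
  | .h => x 8
  | .i => x 9

/-- words of the images of the letters -/
def tw (j : ℕ) : List ℕ := [[], [7], [6], [5], [4], [3], [2], [1], [8], [9], powW [7, 6, 5, 4, 3, 8] 5,
  (powW [7, 6, 5, 4, 3, 8] 5).reverse].getD j []

theorem tw_lok : lok 9 (powW [7, 6, 5, 4, 3, 8] 5) = true := by decide +kernel

theorem fS_x (j : ℕ) (hj : j < 16) : xF fS lm j = ev x (tw j) := by
  interval_cases j
  · simp [xF, lm, tw]
  · rw [x1]; simp [tw, fS]
  · rw [x2]; simp [tw, fS]
  · rw [x3]; simp [tw, fS]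
  · rw [x4]; simp [tw, fS]
  · rw [x5]; simp [tw, fS]
  · rw [x6]; simp [tw, fS]
  · rw [x7]; simp [tw, fS]
  · rw [x8]; simp [tw, fS]
  · rw [x9]; simp [tw, fS]
  · rw [x10]
    show _ = ev x (powW [7, 6, 5, 4, 3, 8] 5)
    rw [ev_powW]
    simp only [ev_cons, ev_nil, mul_one, fS, mul_assoc]
  · rw [x11]
    show _ = ev x (powW [7, 6, 5, 4, 3, 8] 5).reverse
    rw [ev_rev (fun y hy => sqq y (lok_sound tw_lok y hy).1 (lok_sound tw_lok y hy).2), ev_powW]
    simp only [ev_cons, ev_nil, mul_one, fS, mul_assoc]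
  all_goals simp [xF, lm, tw]

theorem ev_flat (w : List ℕ) (hw : (w.all fun y => Nat.blt y 16) = true) : ev (xF fS lm) w = ev x (w.flatMap tw) := by
  induction w with
  | nil => rfl
  | cons y w ih =>
    rw [List.all_cons, Bool.and_eq_true] at hw
    rw [ev_cons, List.flatMap_cons, ev_append, ih hw.2, fS_x y (blt_eq.1 hw.1)]

theorem rel_flat : (rels.all fun w => (w.all fun y => Nat.blt y 16) && (lok 9 (w.flatMap tw) &&
    [1, 2, 3, 4, 5, 6, 7, 8, 9].all fun s => Nat.beq (tr H8.Fi22A.L (w.flatMap tw) (gp s)) (gp s))) = true := by decide +kernel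

theorem relS : ∀ w ∈ rels, ev (xF fS lm) w = 1 := by
  intro w hw
  have h := rel_flat
  rw [List.all_eq_true] at h
  have h1 := h w hw
  rw [Bool.and_eq_true, Bool.and_eq_true] at h1
  obtain ⟨h2, h3, h4⟩ := h1
  rw [ev_flat w h2]
  refine dat.triv center gen ?_
  intro j h5 h6
  rw [← (dat.cc j h5 h6).iff, FX_iff compat (dat.lt16 h3) (dat.cc j h5 h6).1]
  rw [List.all_eq_true] at h4
  exact Nat.eq_of_beq_eq_true (h4 j (by simp only [List.mem_cons, List.not_mem_nil, or_false]; omega))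

theorem inv_x (s : ℕ) (h1 : 1 ≤ s) (h2 : s ≤ 9) : (x s)⁻¹ = x s := inv_eq_of_mul_eq_one_left (sqq s h1 h2)

theorem icS : ∀ y, y < 16 → xF fS lm (il ic y) = (xF fS lm y)⁻¹ := by
  intro y hy
  interval_cases y
  · rw [show il ic 0 = 0 by decide, fS_x 0 (by decide)]; simp [tw]
  · rw [show il ic 1 = 1 by decide, x1]; exact (inv_x 7 (by decide) (by decide)).symm
  · rw [show il ic 2 = 2 by decide, x2]; exact (inv_x 6 (by decide) (by decide)).symm
  · rw [show il ic 3 = 3 by decide, x3]; exact (inv_x 5 (by decide) (by decide)).symm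
  · rw [show il ic 4 = 4 by decide, x4]; exact (inv_x 4 (by decide) (by decide)).symm
  · rw [show il ic 5 = 5 by decide, x5]; exact (inv_x 3 (by decide) (by decide)).symm
  · rw [show il ic 6 = 6 by decide, x6]; exact (inv_x 2 (by decide) (by decide)).symm
  · rw [show il ic 7 = 7 by decide, x7]; exact (inv_x 1 (by decide) (by decide)).symm
  · rw [show il ic 8 = 8 by decide, x8]; exact (inv_x 8 (by decide) (by decide)).symm
  · rw [show il ic 9 = 9 by decide, x9]; exact (inv_x 9 (by decide) (by decide)).symm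
  · rw [show il ic 10 = 11 by decide, x11, x10]
  · rw [show il ic 11 = 10 by decide, x11, x10, inv_inv]
  all_goals
    rw [fS_x _ (by decide), fS_x _ (by decide)]
    simp [tw, show il ic 12 = 0 by decide, show il ic 13 = 0 by decide, show il ic 14 = 0 by decide, show il ic 15 = 0 by decide]

/-- the graph automorphism as a homomorphism -/
noncomputable def sigma : Fi22 →* Fi22 := PresentedGroup.toGroup (lifts fS icS relS)

theorem sigma_x (j : ℕ) (h1 : 1 ≤ j) (h2 : j ≤ 9) : sigma (x j) = x (sgm j) := by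
  have h3 : sigma (x j) = xF fS lm j := by
    unfold sigma x xG xF
    rfl
  rw [h3, fS_x j (by omega)]
  obtain rfl | rfl | rfl | rfl | rfl | rfl | rfl | rfl | rfl : j = 1 ∨ j = 2 ∨ j = 3 ∨ j = 4 ∨ j = 5 ∨ j = 6 ∨ j = 7 ∨
    j = 8 ∨ j = 9 := by omega
  all_goals
    refine Eq.trans ?_ ((show ∀ a, ev x [a] = x a from fun a => by rw [ev_cons, ev_nil, mul_one]) _)
    rfl

theorem sigma2 : sigma.comp sigma = MonoidHom.id Fi22 := by
  refine MonoidHom.eq_of_eqOn_dense gen ?_
  rintro _ ⟨j, h1, h2, rfl⟩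
  obtain ⟨_, h4, h5⟩ := sgm_mem h1 h2
  rw [MonoidHom.comp_apply, sigma_x j h1 h2, sigma_x _ h4 h5, MonoidHom.id_apply]
  obtain rfl | rfl | rfl | rfl | rfl | rfl | rfl | rfl | rfl : j = 1 ∨ j = 2 ∨ j = 3 ∨ j = 4 ∨ j = 5 ∨ j = 6 ∨ j = 7 ∨
    j = 8 ∨ j = 9 := by omega
  all_goals rfl

noncomputable def sigE : MulAut Fi22 := MonoidHom.toMulEquiv sigma sigma sigma2 sigma2

theorem card_out : Nat.card (Cfsg.Out Fi22) = 2 := by
  haveI := finG
  haveI : Finite (MulAut Fi22) := Finite.of_injective (fun α : MulAut Fi22 => (α : Fi22 → Fi22)) DFunLike.coe_injective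
  have h0 : 0 < Nat.card (Cfsg.Out Fi22) := Nat.card_pos
  have h1 := card_out_le
  have h2 : Nat.card (Cfsg.Out Fi22) ≠ 1 := by
    intro h
    have h3 : (Cfsg.Inn Fi22).index = 1 := h
    rw [Subgroup.index_eq_one] at h3
    have h4 : sigE ∈ Cfsg.Inn Fi22 := by rw [h3]; exact Subgroup.mem_top _
    obtain ⟨c, hc⟩ := h4
    refine not_inner (c := c) ?_
    intro j h5 h6
    have h7 := congrArg (fun α : MulAut Fi22 => α (x j)) hc
    have h8 : c * x j * c⁻¹ = sigma (x j) := h7
    rw [h8, sigma_x j h5 h6]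
  omega

end Cfsg.Agent.H28.O2
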