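import Cfsg.Agent.H28_OA3
import Cfsg.Agent.H28_O2D
import Cfsg.Agent.H26_SpFi22B

/-! `Fi22`: the set-up. -/

set_option autoImplicit false
set_option maxRecDepth 100000

namespace Cfsg.Agent.H28.O2

open Cfsg H8.CE H8.Net H8.Act H8.Act2 H8.Fi22M OA Cfsg.Spor

theorem sq_ok : ([1, 2, 3, 4, 5, 6, 7, 8, 9].all fun s => eqW H8.Fi22A.L 3510 12 [s, s] []) = true := by decide +kernel

theorem br_ok : ([(1, 2), (2, 3), (3, 4), (4, 5), (5, 6), (6, 7), (4, 8), (8, 9)].all fun e : ℕ × ℕ =>
    eqW H8.Fi22A.L 3510 12 (powW [e.1, e.2] 3) [] && (powW [e.1, e.2] 3).all fun y => Nat.blt y 16) = true := by decide +kernel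

theorem sqq (s : ℕ) (h1 : 1 ≤ s) (h2 : s ≤ 9) : x s * x s = 1 := by
  have h := sq_ok
  rw [List.all_eq_true] at h
  have h3 := h s (by
    simp only [List.mem_cons, List.not_mem_nil, or_false]
    omega)
  have h4 := H26.SpFi22.eqv (u := [s, s]) (w := []) (by
    rw [List.all_eq_true]; intro y hy
    simp only [List.mem_cons, List.not_mem_nil, or_false, or_self] at hy
    rw [hy, blt_eq]; omega) rfl h3
  simpa using h4

theorem br {u v : ℕ} (h : (u, v) ∈ [(1, 2), (2, 3), (3, 4), (4, 5), (5, 6), (6, 7), (4, 8), (8, 9)]) : (x u * x v) ^ 3 = 1 := by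
  have h1 := br_ok
  rw [List.all_eq_true] at h1
  have h3 := h1 _ h
  rw [Bool.and_eq_true] at h3
  have h4 := H26.SpFi22.eqv (u := powW [u, v] 3) (w := []) h3.2 rfl h3.1
  rw [ev_powW, ev_nil] at h4
  simpa only [ev_cons, ev_nil, mul_one] using h4

theorem cc1 : CC phi (x 1) 0 := by
  refine ⟨H8.Fi22M.hn0, fun g => ?_⟩
  rw [← H_index.2, ← H26.SpFi22.main3.1, Subgroup.mem_centralizer_singleton_iff]

theorem cc2 : CC phi (x 2) 695 := cc1.step compat (v := 2) (by decide) (by decide) (sqq 1 (by decide) (by decide))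
  (sqq 2 (by decide) (by decide)) (br (by decide)) (by decide +kernel)
theorem cc3 : CC phi (x 3) 1 := cc2.step compat (v := 3) (by decide) (by decide) (sqq 2 (by decide) (by decide))
  (sqq 3 (by decide) (by decide)) (br (by decide)) (by decide +kernel)
theorem cc4 : CC phi (x 4) 3 := cc3.step compat (v := 4) (by decide) (by decide) (sqq 3 (by decide) (by decide))
  (sqq 4 (by decide) (by decide)) (br (by decide)) (by decide +kernel)
theorem cc5 : CC phi (x 5) 11 := cc4.step compat (v := 5) (by decide) (by decide) (sqq 4 (by decide) (by decide))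
  (sqq 5 (by decide) (by decide)) (br (by decide)) (by decide +kernel)
theorem cc6 : CC phi (x 6) 38 := cc5.step compat (v := 6) (by decide) (by decide) (sqq 5 (by decide) (by decide))
  (sqq 6 (by decide) (by decide)) (br (by decide)) (by decide +kernel)
theorem cc7 : CC phi (x 7) 106 := cc6.step compat (v := 7) (by decide) (by decide) (sqq 6 (by decide) (by decide))
  (sqq 7 (by decide) (by decide)) (br (by decide)) (by decide +kernel)
theorem cc8 : CC phi (x 8) 14 := cc4.step compat (v := 8) (by decide) (by decide) (sqq 4 (by decide) (by decide))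
  (sqq 8 (by decide) (by decide)) (br (by decide)) (by decide +kernel)
theorem cc9 : CC phi (x 9) 47 := cc8.step compat (v := 9) (by decide) (by decide) (sqq 8 (by decide) (by decide))
  (sqq 9 (by decide) (by decide)) (br (by decide)) (by decide +kernel)

theorem dat : Dat phi x H8.Fi22A.L 12 9 gp where
  hs := H8.Fi22A.sys
  hn := H8.Fi22M.hn
  hc := compat
  hm := by decide
  sq := sqq
  cc := by
    intro s h1 h2
    obtain rfl | rfl | rfl | rfl | rfl | rfl | rfl | rfl | rfl : s = 1 ∨ s = 2 ∨ s = 3 ∨ s = 4 ∨ s = 5 ∨ s = 6 ∨ s = 7 ∨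
      s = 8 ∨ s = 9 := by omega
    exacts [cc1, cc2, cc3, cc4, cc5, cc6, cc7, cc8, cc9]

theorem conj1 : ∀ j, 1 ≤ j → j ≤ 9 → IsConj (x 1) (x j) := by
  have h1 : IsConj (x 1) (x 1) := IsConj.refl _
  have h2 := h1.trans (conj_braid (sqq 1 (by decide) (by decide)) (sqq 2 (by decide) (by decide)) (br (u := 1) (v := 2) (by decide)))
  have h3 := h2.trans (conj_braid (sqq 2 (by decide) (by decide)) (sqq 3 (by decide) (by decide)) (br (u := 2) (v := 3) (by decide)))
  have h4 := h3.trans (conj_braid (sqq 3 (by decide) (by decide)) (sqq 4 (by decide) (by decide)) (br (u := 3) (v := 4) (by decide)))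
  have h5 := h4.trans (conj_braid (sqq 4 (by decide) (by decide)) (sqq 5 (by decide) (by decide)) (br (u := 4) (v := 5) (by decide)))
  have h6 := h5.trans (conj_braid (sqq 5 (by decide) (by decide)) (sqq 6 (by decide) (by decide)) (br (u := 5) (v := 6) (by decide)))
  have h7 := h6.trans (conj_braid (sqq 6 (by decide) (by decide)) (sqq 7 (by decide) (by decide)) (br (u := 6) (v := 7) (by decide)))
  have h8 := h4.trans (conj_braid (sqq 4 (by decide) (by decide)) (sqq 8 (by decide) (by decide)) (br (u := 4) (v := 8) (by decide)))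
  have h9 := h8.trans (conj_braid (sqq 8 (by decide) (by decide)) (sqq 9 (by decide) (by decide)) (br (u := 8) (v := 9) (by decide)))
  intro s hs1 hs2
  obtain rfl | rfl | rfl | rfl | rfl | rfl | rfl | rfl | rfl : s = 1 ∨ s = 2 ∨ s = 3 ∨ s = 4 ∨ s = 5 ∨ s = 6 ∨ s = 7 ∨
      s = 8 ∨ s = 9 := by omega
  exacts [h1, h2, h3, h4, h5, h6, h7, h8, h9]

theorem x_ne : x 1 ≠ 1 := H26.SpFi22.x_ne

theorem center : Subgroup.center Fi22 = ⊥ := by
  haveI := simple
  refine H26.Sp.center_eq_bot_of_simple simple (a := x 1) (b := x 2) ?_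
  intro h
  have h1 : (x 1 * x 2) ^ 3 = 1 := br (u := 1) (v := 2) (by decide)
  have h2 : (x 1 * x 2) ^ 2 = 1 := by
    rw [pow_two]
    calc x 1 * x 2 * (x 1 * x 2) = x 1 * x 2 * (x 2 * x 1) := by rw [h]
      _ = x 1 * (x 2 * x 2) * x 1 := by simp only [mul_assoc]
      _ = 1 := by rw [sqq 2 (by decide) (by decide), mul_one, sqq 1 (by decide) (by decide)]
  have h3 : x 1 * x 2 = 1 := by
    have h4 : (x 1 * x 2) ^ 3 = (x 1 * x 2) ^ 2 * (x 1 * x 2) := pow_succ _ _
    rw [h1, h2, one_mul] at h4; exact h4.symm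
  have h4 : FX phi (x 2) 0 := by
    refine (cc1.iff (x 2)).2 h.symm
  have h5 : tr H8.Fi22A.L [2] 0 = 0 := by
    have h6 := FX_iff compat (w := [2]) (by simp) (show 0 < 3510 by decide)
    rw [ev_cons, ev_nil, mul_one] at h6
    exact h6.1 h4
  have h6 : tr H8.Fi22A.L [2] 0 = 694 := by decide +kernel
  omega

theorem gen : Subgroup.closure {g | ∃ j, 1 ≤ j ∧ j ≤ 9 ∧ g = x j} = ⊤ := by
  rw [eq_top_iff, ← Hl_top, Hl, Subgroup.closure_le]
  rintro _ ⟨y, hy, rfl⟩
  apply Subgroup.subset_closure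
  have : y ∈ [1, 2, 3, 4, 5, 6, 7, 8, 9] := hy
  simp only [List.mem_cons, List.not_mem_nil, or_false] at this
  exact ⟨y, by omega, by omega, rfl⟩

theorem Xok : lok 9 X = true := by decide

theorem X11 : ([1, 2, 3, 4, 5, 6, 7, 8, 9].all fun s => Nat.beq (tr H8.Fi22A.L (powW X 11) (gp s)) (gp s)) = true := by
  decide +kernel

theorem Xne : tr H8.Fi22A.L X 1 ≠ tr H8.Fi22A.L [] 1 := by decide +kernel

theorem ordX : orderOf (ev x X) = 11 := by
  haveI : Fact (Nat.Prime 11) := ⟨by norm_num⟩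
  refine orderOf_eq_prime ?_ ?_
  · rw [← ev_powW]
    refine dat.triv center gen ?_
    intro j h1 h2
    rw [← (dat.cc j h1 h2).iff, FX_iff compat (powW_lt (dat.lt16 Xok) 11) (dat.cc j h1 h2).1]
    have h3 := X11
    rw [List.all_eq_true] at h3
    exact Nat.eq_of_beq_eq_true (h3 j (by simp only [List.mem_cons, List.not_mem_nil, or_false]; omega))
  · exact H26.Sp.ev_ne compat (dat.lt16 Xok) (by simp) 1 (by decide) Xne

theorem fixX : patEq H8.Fi22A.L 3510 12 [(X, true)] 1 = true := by decide +kernel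

theorem okP1 : ptB H8.Fi22A.L 9 gp T0 [(14, 8, []), (47, 9, []), (1, 3, []), (12, 4, [5, 6])] = true := by decide +kernel

theorem Tok : ([3, 4, 5, 6, 7, 8, 9].all fun s => Nat.testBit T (gp s)) = true := by decide +kernel

def Cb : List (List ℕ) := [[4], [5], [6], [7], [9], [3]]

theorem at_b : patEq H8.Fi22A.L 3510 12 (bitsC H8.Fi22A.L Cb 695) (2 ^ 695 ||| 2 ^ 694) = true := by decide +kernel

theorem t694 : tr H8.Fi22A.L [1] 695 = 694 := by decide +kernel

end Cfsg.Agent.H28.O2
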