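import Cfsg.Agent.H28_O2B
import Cfsg.Agent.H28_O2N
import Mathlib.GroupTheory.Perm.Cycle.Type

/-! `Fi22`: the graph automorphism is outer. -/

set_option autoImplicit false
set_option maxRecDepth 100000

namespace Cfsg.Agent.H28.O2

open Cfsg H8.CE H8.Net H8.Act H8.Act2 H8.Cox H8.Fi22M OA Cfsg.Spor

/-- an involution moving 3150 points is odd -/
theorem sign_invol {n : ℕ} {f : Equiv.Perm (Fin n)} (h2 : f * f = 1) (hf : f.support.card = 3150) : Equiv.Perm.sign f = -1 := by
  have hne : f ≠ 1 := by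
    rintro rfl
    simp at hf
  have ho : orderOf f = 2 := orderOf_eq_prime (by rw [pow_two]; exact h2) hne
  obtain ⟨m, hm⟩ := Equiv.Perm.cycleType_prime_order (σ := f) (by rw [ho]; exact Nat.prime_two)
  have h3 := Equiv.Perm.sum_cycleType f
  have h4 : f.cycleType.card = m + 1 := by rw [hm, Multiset.card_replicate]
  rw [hm, Multiset.sum_replicate, ho, hf] at h3
  have h5 : m + 1 = 1575 := by
    simp only [smul_eq_mul] at h3
    omega
  rw [Equiv.Perm.sign_of_cycleType, h4, h5, Equiv.Perm.sum_cycleType, hf]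
  have : (3150 + 1575) = 2 * 2362 + 1 := by norm_num
  rw [this, pow_succ, pow_mul]
  simp

theorem sgn_one (g : Fi22) : Equiv.Perm.sign (phi g) = 1 := by
  haveI := simple
  have h1 : ((Equiv.Perm.sign.comp phi).ker).Normal := inferInstance
  rcases simple.eq_bot_or_eq_top_of_normal _ h1 with h2 | h2
  · exfalso
    have h3 : Function.Injective (Equiv.Perm.sign.comp phi) := (MonoidHom.ker_eq_bot_iff _).1 h2
    have h4 := Nat.card_le_card_of_injective _ h3
    rw [main.1] at h4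
    have h5 : Nat.card ℤˣ = 2 := by rw [Nat.card_eq_fintype_card]; rfl
    rw [h5] at h4
    revert h4; norm_num
  · have h3 : g ∈ (Equiv.Perm.sign.comp phi).ker := by rw [h2]; exact Subgroup.mem_top g
    exact h3

/-- the permutation of the letters -/
def sgm (j : ℕ) : ℕ := [0, 7, 6, 5, 4, 3, 2, 1, 8, 9].getD j 0

theorem sgm_mem {j : ℕ} (h1 : 1 ≤ j) (h2 : j ≤ 9) : (j, sgm j) ∈ sgl ∧ 1 ≤ sgm j ∧ sgm j ≤ 9 := by
  obtain rfl | rfl | rfl | rfl | rfl | rfl | rfl | rfl | rfl : j = 1 ∨ j = 2 ∨ j = 3 ∨ j = 4 ∨ j = 5 ∨ j = 6 ∨ j = 7 ∨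
      j = 8 ∨ j = 9 := by omega
  all_goals decide

theorem net2 {j : ℕ} (h1 : 1 ≤ j) (h2 : j ≤ 9) : net L2 j = net H8.Fi22A.L j := by
  obtain rfl | rfl | rfl | rfl | rfl | rfl | rfl | rfl | rfl : j = 1 ∨ j = 2 ∨ j = 3 ∨ j = 4 ∨ j = 5 ∨ j = 6 ∨ j = 7 ∨
      j = 8 ∨ j = 9 := by omega
  all_goals rfl

theorem pstep {u v : ℕ} (hu : u < 16) (hv : v < 16) (su : x u * x u = 1) (sv : x v * x v = 1)
    (hb : (x u * x v) ^ 3 = 1) {i j : ℕ} (hi : i < 3510) (hj' : j < 3510) (hj : tr H8.Fi22A.L [v, u] i = j) :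
    ∃ h, h * x u * h⁻¹ = x v ∧ phi h ⟨i, hi⟩ = ⟨j, hj'⟩ := by
  have iu : (x u)⁻¹ = x u := inv_eq_of_mul_eq_one_left su
  have iv : (x v)⁻¹ = x v := inv_eq_of_mul_eq_one_left sv
  have h3 : x u * x v * x u * x v * x u * x v = 1 := by
    rw [← hb]; simp only [pow_succ, pow_zero, one_mul, mul_assoc]
  have h4 : x u * x v * x u * x v * x u = x v := by
    rw [mul_eq_one_iff_eq_inv] at h3; rw [h3, iv]
  refine ⟨x u * x v, ?_, ?_⟩
  · rw [mul_inv_rev, iu, iv]
    calc x u * x v * x u * (x v * x u) = x u * x v * x u * x v * x u := by simp only [mul_assoc]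
      _ = x v := h4
  · have h5 := compat_ev compat [v, u] (by
      intro y hy
      simp only [List.mem_cons, List.not_mem_nil, or_false] at hy
      rcases hy with rfl | rfl
      · exact hv
      · exact hu) ⟨i, hi⟩
    have h6 : (ev x [v, u])⁻¹ = x u * x v := by
      rw [ev_cons, ev_cons, ev_nil, mul_one, mul_inv_rev, iu, iv]
    rw [← map_inv, h6] at h5
    exact Fin.ext (h5.trans hj)

theorem ptrans {a b c : Fi22} {i j k : Fin 3510} (h1 : ∃ h, h * a * h⁻¹ = b ∧ phi h i = j) (h2 : ∃ h, h * b * h⁻¹ = c ∧ phi h j = k) :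
    ∃ h, h * a * h⁻¹ = c ∧ phi h i = k := by
  obtain ⟨u, h3, h4⟩ := h1
  obtain ⟨v, h5, h6⟩ := h2
  refine ⟨v * u, ?_, ?_⟩
  · rw [← h5, ← h3]; group
  · rw [map_mul, Equiv.Perm.mul_apply, h4, h6]

theorem q12 : tr H8.Fi22A.L [2, 1] 0 = 695 := by decide +kernel
theorem q23 : tr H8.Fi22A.L [3, 2] 695 = 1 := by decide +kernel
theorem q34 : tr H8.Fi22A.L [4, 3] 1 = 3 := by decide +kernel
theorem q45 : tr H8.Fi22A.L [5, 4] 3 = 11 := by decide +kernel
theorem q56 : tr H8.Fi22A.L [6, 5] 11 = 38 := by decide +kernel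
theorem q67 : tr H8.Fi22A.L [7, 6] 38 = 106 := by decide +kernel

theorem p17 : ∃ h, h * x 1 * h⁻¹ = x 7 ∧ phi h ⟨0, H8.Fi22M.hn0⟩ = ⟨106, by decide⟩ := by
  refine ptrans (pstep (v := 2) (by decide) (by decide) (sqq 1 (by decide) (by decide)) (sqq 2 (by decide) (by decide))
    (br (by decide)) (by decide) (by decide) q12) ?_
  refine ptrans (pstep (v := 3) (by decide) (by decide) (sqq 2 (by decide) (by decide)) (sqq 3 (by decide) (by decide))
    (br (by decide)) (by decide) (by decide) q23) ?_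
  refine ptrans (pstep (v := 4) (by decide) (by decide) (sqq 3 (by decide) (by decide)) (sqq 4 (by decide) (by decide))
    (br (by decide)) (by decide) (by decide) q34) ?_
  refine ptrans (pstep (v := 5) (by decide) (by decide) (sqq 4 (by decide) (by decide)) (sqq 5 (by decide) (by decide))
    (br (by decide)) (by decide) (by decide) q45) ?_
  refine ptrans (pstep (v := 6) (by decide) (by decide) (sqq 5 (by decide) (by decide)) (sqq 6 (by decide) (by decide))
    (br (by decide)) (by decide) (by decide) q56) ?_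
  exact pstep (v := 7) (by decide) (by decide) (sqq 6 (by decide) (by decide)) (sqq 7 (by decide) (by decide))
    (br (by decide)) (by decide) (by decide) q67

theorem cjs {j : ℕ} (h1 : 1 ≤ j) (h2 : j ≤ 9) {i : ℕ} (hi : i < 3510) :
    tr L2 [10] (tr H8.Fi22A.L [j] i) = tr H8.Fi22A.L [sgm j] (tr L2 [10] i) := by
  obtain ⟨h3, h4, h5⟩ := sgm_mem h1 h2
  have h6 := cj
  rw [List.all_eq_true] at h6
  have h7 := eqW_sound sys2 H8.Fi22M.hn (h6 _ h3) i hi
  have h8 : tr L2 [j, 10] i = tr L2 [10] (tr H8.Fi22A.L [j] i) := by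
    show tr L2 [10] ((net L2 j).pos i) = tr L2 [10] ((net H8.Fi22A.L j).pos i)
    rw [net2 h1 h2]
  have h9 : tr L2 [10, sgm j] i = tr H8.Fi22A.L [sgm j] (tr L2 [10] i) := by
    show (net L2 (sgm j)).pos (tr L2 [10] i) = (net H8.Fi22A.L (sgm j)).pos (tr L2 [10] i)
    rw [net2 h4 h5]
  rw [← h8, ← h9]; exact h7

/-- the graph automorphism is not inner -/
theorem not_inner {c : Fi22} (hc : ∀ j, 1 ≤ j → j ≤ 9 → c * x j * c⁻¹ = x (sgm j)) : False := by
  have hj1 : ∀ j, 1 ≤ j → j ≤ 9 → ∀ i : Fin 3510, ((phi (x j) i : Fin 3510) : ℕ) = tr H8.Fi22A.L [j] i := by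
    intro j h1 h2 i
    have h3 := compat_ev compat [j] (by
      intro y hy
      simp only [List.mem_cons, List.not_mem_nil, or_false] at hy
      rw [hy]; omega) i
    have h4 : (ev x [j])⁻¹ = x j := by
      rw [ev_cons, ev_nil, mul_one]; exact inv_eq_of_mul_eq_one_left (sqq j h1 h2)
    rw [← map_inv, h4] at h3
    exact h3
  -- the permutation is given by the network
  let Q : Fin 3510 → Prop := fun i => ((phi c i : Fin 3510) : ℕ) = tr L2 [10] i
  have hQ0 : Q ⟨0, H8.Fi22M.hn0⟩ := by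
    obtain ⟨h, h1, h2⟩ := p17
    have h3 : (h⁻¹ * c) * x 1 = x 1 * (h⁻¹ * c) := by
      have h4 : c * x 1 * c⁻¹ = h * x 1 * h⁻¹ := by rw [hc 1 (by decide) (by decide), h1]; rfl
      calc (h⁻¹ * c) * x 1 = h⁻¹ * (c * x 1 * c⁻¹) * c := by group
        _ = h⁻¹ * (h * x 1 * h⁻¹) * c := by rw [h4]
        _ = x 1 * (h⁻¹ * c) := by group
    obtain ⟨_, h5⟩ := (cc1.iff _).2 h3
    rw [map_mul, map_inv, Equiv.Perm.mul_apply, Equiv.Perm.inv_eq_iff_eq] at h5
    show ((phi c ⟨0, H8.Fi22M.hn0⟩ : Fin 3510) : ℕ) = tr L2 [10] 0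
    rw [pt0, h5, h2]
  have hQs : ∀ j, 1 ≤ j → j ≤ 9 → ∀ i, Q i → Q (phi (x j) i) := by
    intro j h1 h2 i hi
    show ((phi c (phi (x j) i) : Fin 3510) : ℕ) = tr L2 [10] (phi (x j) i : Fin 3510)
    have h3 : phi c (phi (x j) i) = phi (x (sgm j)) (phi c i) := by
      rw [← Equiv.Perm.mul_apply, ← Equiv.Perm.mul_apply, ← map_mul, ← map_mul, ← hc j h1 h2]
      congr 2; group
    obtain ⟨_, h4, h5⟩ := sgm_mem h1 h2
    rw [h3, hj1 _ h4 h5, hj1 j h1 h2, cjs h1 h2 i.2]
    congr 1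
  have hQg : ∀ g : Fi22, ∀ i, Q i ↔ Q (phi g i) := by
    intro g
    have h2 : g ∈ Subgroup.closure {g | ∃ j, 1 ≤ j ∧ j ≤ 9 ∧ g = x j} := by rw [gen]; exact Subgroup.mem_top g
    induction h2 using Subgroup.closure_induction with
    | mem y hy =>
      obtain ⟨j, h3, h4, rfl⟩ := hy
      intro i
      refine ⟨hQs j h3 h4 i, fun h => ?_⟩
      have h5 := hQs j h3 h4 _ h
      rw [← Equiv.Perm.mul_apply, ← map_mul, sqq j h3 h4, map_one, Equiv.Perm.one_apply] at h5
      exact h5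
    | one => intro i; rw [map_one]; exact Iff.rfl
    | mul a b _ _ ha hb => intro i; rw [map_mul, Equiv.Perm.mul_apply, hb i, ha]
    | inv a _ ha =>
      intro i
      rw [ha (phi a⁻¹ i), ← Equiv.Perm.mul_apply, ← map_mul, mul_inv_cancel, map_one, Equiv.Perm.one_apply]
  have hQ : ∀ i, Q i := by
    intro i
    obtain ⟨g, hg⟩ := htr i
    rw [← hg]
    exact (hQg g _).1 hQ0
  -- it is an involution
  have hcc : c * c = 1 := by
    refine dat.triv center gen ?_
    intro j h1 h2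
    obtain ⟨_, h4, h5⟩ := sgm_mem h1 h2
    have h6 : sgm (sgm j) = j := by
      obtain rfl | rfl | rfl | rfl | rfl | rfl | rfl | rfl | rfl : j = 1 ∨ j = 2 ∨ j = 3 ∨ j = 4 ∨ j = 5 ∨ j = 6 ∨ j = 7 ∨
        j = 8 ∨ j = 9 := by omega
      all_goals rfl
    have h7 : c * (c * x j * c⁻¹) * c⁻¹ = x j := by
      rw [hc j h1 h2, hc _ h4 h5, h6]
    calc c * c * x j = c * (c * x j * c⁻¹) * c⁻¹ * (c * c) := by group
      _ = x j * (c * c) := by rw [h7]
  -- its fixed points
  have hfix : ((Finset.univ : Finset (Fin 3510)).filter fun i => phi c i = i).card = 360 := by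
    have h1 := patN_card sys2 H8.Fi22M.hn nfix
    rw [← h1]
    refine Finset.card_bij (fun i _ => (i : ℕ)) ?_ ?_ ?_
    · intro i hi
      rw [Finset.mem_filter] at hi
      rw [Finset.mem_filter, Finset.mem_range]
      refine ⟨i.2, ?_⟩
      intro d hd
      simp only [List.mem_cons, List.not_mem_nil, or_false] at hd
      rw [hd]
      have h2 := hQ i
      have h3 : ((phi c i : Fin 3510) : ℕ) = tr L2 [10] i := h2
      rw [hi.2] at h3
      simpa using h3.symm
    · intro i _ j _ hij; exact Fin.ext hij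
    · intro i hi
      rw [Finset.mem_filter, Finset.mem_range] at hi
      refine ⟨⟨i, hi.1⟩, ?_, rfl⟩
      rw [Finset.mem_filter]
      refine ⟨Finset.mem_univ _, Fin.ext ?_⟩
      have h3 : ((phi c ⟨i, hi.1⟩ : Fin 3510) : ℕ) = tr L2 [10] i := hQ ⟨i, hi.1⟩
      rw [h3]
      exact (hi.2 ([10], true) (by simp)).2 rfl
  have hsup : (phi c).support.card = 3150 := by
    have h1 := Finset.card_filter_add_card_filter_not (s := (Finset.univ : Finset (Fin 3510))) (fun i => phi c i = i)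
    rw [hfix, Finset.card_univ, Fintype.card_fin] at h1
    have h2 : (phi c).support = (Finset.univ : Finset (Fin 3510)).filter fun i => ¬ phi c i = i := by
      ext i
      rw [Equiv.Perm.mem_support, Finset.mem_filter]
      simp
    rw [h2]; omega
  have h1 := sign_invol (f := phi c) (by rw [← map_mul, hcc, map_one]) hsup
  rw [sgn_one] at h1
  exact absurd h1 (by decide)

end Cfsg.Agent.H28.O2
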