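import Cfsg.Agent.H8_Fi23A_L

set_option autoImplicit false
set_option maxRecDepth 1000000

namespace Cfsg.Agent.H8.Fi23A

open CE Net Act Act4 Act5

def levs : List Lev := [⟨[1, 2, 3, 4, 5, 6, 7, 8, 9, 10], 13, 0, 31671⟩,
  ⟨[1, 2, 3, 4, 5, 6, 7, 9, 10], 12, 3511, 28160⟩,
  ⟨[16, 17, 18], 10, 3713, 21840⟩,
  ⟨[19, 20, 21], 7, 4740, 7776⟩,
  ⟨[22, 23, 24], 2, 1, 27⟩]

theorem chain : chainB L (nat_lit 31671) (nat_lit 15) levs [] = true := by decide +kernel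

theorem prodM_levs : prodM levs = 4089470473293004800 := by decide +kernel

theorem trans : reachIv L [1, 2, 3, 4, 5, 6, 7, 8, 9, 10] 13 (nat_lit 0) (nat_lit 0) (nat_lit 31671) = true := by decide +kernel

theorem hfix : fixP L [1, 2, 3, 4, 5, 6, 7, 9, 10] [nat_lit 0] = true := by decide +kernel

def ods : List (ℕ × ℕ × ℕ) := [(28160, 12, 3511), (3510, 6, 1)]

theorem orbs : orbB L (nat_lit 31671) [1, 2, 3, 4, 5, 6, 7, 9, 10] ods = true := by decide +kernel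


end Cfsg.Agent.H8.Fi23A
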