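import Cfsg.Agent.H28_OA2
import Cfsg.Agent.H8_Fi23A

set_option autoImplicit false
set_option maxRecDepth 100000

namespace Cfsg.Agent.H28.O3

open Cfsg H8.CE H8.Net H8.Act H8.Act2 OA

def gp (s : ℕ) : ℕ := [0, 2400, 1826, 1825, 1822, 1823, 1824, 1827, 8895, 1821, 1828].getD s 0

def X : List ℕ := [8, 7, 6, 5, 7, 4, 7, 9, 10, 2, 3, 4, 9, 6, 5, 4, 3, 2, 1, 2, 3, 4, 5, 6, 9, 4, 3, 2, 10, 9, 3]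

def T : ℕ := 2 ^ 1825 ||| 2 ^ 1822 ||| 2 ^ 1823 ||| 2 ^ 1824 ||| 2 ^ 1827 ||| 2 ^ 8895 ||| 2 ^ 1535 ||| 2 ^ 121

def good0 : List (ℕ × ℕ × List ℕ) := [(1269, 1, [2, 3, 4, 5, 6, 9, 4, 3, 2, 10, 9, 4, 3, 5, 4]), (6355, 1, [2, 3, 4, 5, 6, 7, 8, 9, 4, 3, 2, 10, 9, 4, 3, 5, 4, 6, 7, 8]), (119, 3, [4, 5, 6, 7, 9, 4, 5, 10, 9]), (457, 1, [2, 3, 4, 5, 6, 7, 9, 4, 3, 2, 5, 6, 10, 9, 4]), (639, 1, [2, 3, 4, 5, 6, 7, 9, 4, 3, 2, 5, 6, 10, 9, 4, 3]), (1034, 1, [2, 3, 4, 5, 6, 7, 9, 4, 3, 2, 5, 10, 9, 4, 3, 5, 4, 6, 5, 7]), (1827, 7, [])]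

def good1 : List (ℕ × ℕ × List ℕ) := [(3658, 3, [4, 5, 6, 7, 8, 9, 4, 5, 6, 10, 9, 4, 3]), (3724, 3, [4, 5, 6, 7, 8, 9, 4, 5, 6, 7, 10, 9]), (3808, 3, [4, 5, 6, 7, 8, 9, 4, 5, 6, 10, 9]), (4336, 1, [2, 3, 4, 5, 6, 7, 8, 9, 4, 3, 2, 5, 6, 7, 10, 9, 4]), (6369, 1, [2, 3, 4, 5, 6, 7, 8, 9, 4, 3, 2, 5, 6, 10, 9, 4, 3, 5, 4, 6, 5, 7, 6, 8]), (6535, 1, [2, 3, 4, 5, 6, 7, 8, 9, 4, 3, 2, 10, 9, 4, 5, 6])]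

def good2 : List (ℕ × ℕ × List ℕ) := [(71, 3, [4, 5, 6, 7, 9, 4, 5, 6, 10, 9]), (193, 3, [4, 5, 6, 7, 9, 4, 10, 9]), (844, 1, [2, 3, 4, 5, 6, 9, 4, 3, 2, 5, 10, 9, 4]), (992, 3, [4, 5, 6]), (1030, 1, [2, 3, 4, 5, 6, 7, 9, 4, 3, 2, 10, 9, 4, 3, 5, 4, 6, 7]), (1252, 3, [4, 5]), (1526, 4, [5])]

def good3 : List (ℕ × ℕ × List ℕ) := [(1822, 4, []), (3615, 3, [4, 5, 6, 7, 8, 9, 4, 5, 6, 7, 10, 9, 4, 5]), (5382, 1, [2, 3, 4, 5, 6, 7, 8, 9, 4, 3, 2, 10, 9, 4]), (5407, 1, [2, 3, 4, 5, 6, 7, 8, 9, 4, 3, 2, 5, 6, 7, 10, 9, 4, 5, 6, 7]), (6280, 5, [6, 7, 8]), (7859, 7, [8]), (121, 3, [4, 5, 6, 9, 4, 5, 10, 9, 4])]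

def good4 : List (ℕ × ℕ × List ℕ) := [(763, 3, [4, 5, 6, 7]), (1002, 4, [5, 6, 7]), (1108, 1, [2, 3, 4, 5, 6, 7, 9, 4, 3, 2, 5, 6, 10, 9, 4, 5, 6, 7]), (1250, 4, [5, 6]), (1528, 3, [4]), (4947, 1, [2, 3, 4, 5, 6, 7, 8, 9, 4, 3, 2, 5, 10, 9, 4]), (6537, 1, [2, 3, 4, 5, 6, 7, 8, 9, 4, 3, 2, 5, 10, 9, 4, 3, 5, 6])]

def good5 : List (ℕ × ℕ × List ℕ) := [(6997, 6, [7, 8]), (8265, 1, [2, 3, 4, 5, 6, 7, 8, 9, 4, 3, 2, 5, 6, 10, 9, 4, 3, 5, 4, 6, 5, 7]), (72, 3, [4, 5, 6, 7, 9, 4, 5, 10, 9, 4]), (82, 1, [2, 3, 4, 5, 6, 7, 9, 4, 3, 2, 5, 4, 6, 5, 9, 4, 10, 9, 4]), (194, 3, [4, 5, 6, 9, 4, 5, 10, 9])]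

def good6 : List (ℕ × ℕ × List ℕ) := [(1263, 1, [2, 3, 4, 5, 6, 9, 4, 3, 2, 10, 9, 4, 3, 5, 6]), (4092, 3, [4, 5, 6, 7, 8, 9, 4, 10, 9]), (4307, 1, [2, 3, 4, 5, 6, 7, 8, 9, 4, 3, 2, 5, 4, 3, 6, 5, 4, 10, 9]), (5313, 1, [2, 3, 4, 5, 6, 7, 8, 9, 4, 3, 2, 5, 4, 3, 6, 5, 4, 10, 9, 4, 3, 5]), (1361, 1, [2, 3, 4, 5, 6, 7, 9, 4, 3, 2, 5, 10, 9, 4, 3, 5, 4])]

def good7 : List (ℕ × ℕ × List ℕ) := [(1824, 6, []), (3625, 1, [2, 3, 4, 5, 6, 7, 8, 9, 4, 3, 2, 5, 4, 6, 5, 7, 6, 9, 4, 5, 10, 9, 4]), (42, 3, [4, 5, 6, 7, 9, 4, 5, 10, 9, 4, 3]), (293, 3, [4, 5, 6, 9, 4, 10, 9])]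

def good : List (ℕ × ℕ × List ℕ) := good0 ++ good1 ++ good2 ++ good3 ++ good4 ++ good5 ++ good6 ++ good7

def bad : List (ℕ × ℕ × List ℕ) := [(13, 3, [4, 5, 6, 7, 9, 4, 5, 6, 10, 9, 4, 3, 5]), (23, 3, [4, 5, 6, 7, 9, 4, 5, 6, 10, 9, 4, 5]), (24, 3, [4, 5, 6, 7, 9, 4, 5, 6, 10, 9, 4, 3]), (1823, 5, []), (5769, 1, [2, 3, 4, 5, 6, 7, 9, 4, 3, 2, 10, 9, 4, 3, 5, 4, 6, 7, 8]), (427, 3, [4, 5, 9, 4, 10, 9]), (1543, 1, [2, 3, 4, 5, 6, 7, 9, 4, 3, 2, 10, 9, 4, 3, 5, 6]), (1346, 1, [2, 3, 4, 5, 6, 9, 4, 3, 2, 10, 9, 4, 5]), (3721, 3, [4, 5, 6, 7, 8, 9, 4, 5, 10, 9, 4, 3]), (852, 1, [2, 3, 4, 5, 6, 7, 9, 4, 3, 2, 5, 10, 9, 4, 5]), (3809, 3, [4, 5, 6, 7, 8, 9, 4, 5, 10, 9, 4]), (1825, 3, []), (5685, 4, [5, 6, 7, 8]), (1360,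 1, [2, 3, 4, 5, 6, 7, 9, 4, 3, 2, 10, 9, 4, 5, 6]), (5406, 1, [2, 3, 4, 5, 6, 7, 8, 9, 4, 3, 2, 5, 6, 7, 10, 9, 4, 3, 5, 6])]

def r0 : ℕ × ℕ × List ℕ := (1823, 5, [])

def T0 : ℕ := 2 ^ 1825 ||| 2 ^ 1823 ||| 2 ^ 5685 ||| 2 ^ 41

def C0 : List (List ℕ × Bool) := [([1], true), ([10], true), (X, false)]

def C1 : List (List ℕ × Bool) := C0 ++ [(dwd [] 3, true), (dwd [] 5, true), (dwd [5, 6, 7, 8] 4, true), (dwd [4, 5, 6, 7, 9, 4, 5, 6, 10, 9, 4] 3, true)]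

end Cfsg.Agent.H28.O3
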