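import Cfsg.Agent.H28_OA3
import Cfsg.Agent.H28_O3D
import Cfsg.Agent.H26_SpFi23

/-! `Fi23`: the set-up. -/

set_option autoImplicit false
set_option maxRecDepth 100000

namespace Cfsg.Agent.H28.O3

open Cfsg H8.CE H8.Net H8.Act H8.Act2 H8.Fi23M OA Cfsg.Spor

theorem sq_ok : ([1, 2, 3, 4, 5, 6, 7, 8, 9, 10].all fun s => eqW H8.Fi23A.L 31671 15 [s, s] []) = true := by decide +kernel

theorem br_ok : ([(1, 2), (2, 3), (3, 4), (4, 5), (5, 6), (6, 7), (7, 8), (4, 9), (9, 10)].all fun e : ℕ × ℕ =>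
    eqW H8.Fi23A.L 31671 15 (powW [e.1, e.2] 3) [] && (powW [e.1, e.2] 3).all fun y => Nat.blt y 16) = true := by decide +kernel

theorem sqq (s : ℕ) (h1 : 1 ≤ s) (h2 : s ≤ 10) : x s * x s = 1 := by
  have h := sq_ok
  rw [List.all_eq_true] at h
  have h3 := h s (by
    simp only [List.mem_cons, List.not_mem_nil, or_false]
    omega)
  have h4 := H26.SpFi23.eqv (u := [s, s]) (w := []) (by
    rw [List.all_eq_true]; intro y hy
    simp only [List.mem_cons, List.not_mem_nil, or_false, or_self] at hy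
    rw [hy, blt_eq]; omega) rfl h3
  simpa using h4

theorem br {u v : ℕ} (h : (u, v) ∈ [(1, 2), (2, 3), (3, 4), (4, 5), (5, 6), (6, 7), (7, 8), (4, 9), (9, 10)]) : (x u * x v) ^ 3 = 1 := by
  have h1 := br_ok
  rw [List.all_eq_true] at h1
  have h3 := h1 _ h
  rw [Bool.and_eq_true] at h3
  have h4 := H26.SpFi23.eqv (u := powW [u, v] 3) (w := []) h3.2 rfl h3.1
  rw [ev_powW, ev_nil] at h4
  simpa only [ev_cons, ev_nil, mul_one] using h4

theorem br_symm {a b : Fi23} (h : (a * b) ^ 3 = 1) : (b * a) ^ 3 = 1 := by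
  have e : b * a = b * (a * b) * b⁻¹ := by group
  rw [e, conj_pow, h]; group

theorem z8_ok : eqW H8.Fi23A.L 31671 15 (H26.SpFi23.zw ++ (8 :: (H26.SpFi23.zw ++ (8 :: H26.SpFi23.zw)))) [8] = true := by decide +kernel

theorem z8_pt : tr H8.Fi23A.L (8 :: H26.SpFi23.zw) 0 = 8895 := by decide +kernel

theorem z8_lt : ((8 :: H26.SpFi23.zw).all fun y => Nat.blt y 16) = true := by
  rw [List.all_cons, H26.SpFi23.zw_lt]; rfl

theorem ccz : CC phi H26.SpFi23.z 0 := by
  refine ⟨H8.Fi23M.hn0, fun g => ?_⟩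
  rw [← H_index.2, ← H26.SpFi23.main3.1, Subgroup.mem_centralizer_singleton_iff]

theorem cc8 : CC phi (x 8) 8895 := by
  have h1 := ccz.evw compat (w := 8 :: H26.SpFi23.zw) (H26.Sp.lt16_of z8_lt)
  rw [z8_pt] at h1
  have iz : (H26.SpFi23.z)⁻¹ = H26.SpFi23.z := inv_eq_of_mul_eq_one_left H26.SpFi23.z_sq
  have i8 : (x 8)⁻¹ = x 8 := inv_eq_of_mul_eq_one_left (sqq 8 (by decide) (by decide))
  have h2 := H26.SpFi23.eqv (u := H26.SpFi23.zw ++ (8 :: (H26.SpFi23.zw ++ (8 :: H26.SpFi23.zw)))) (w := [8]) (by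
    rw [List.all_append, List.all_cons, List.all_append, List.all_cons, H26.SpFi23.zw_lt]; rfl) (by decide) z8_ok
  rw [ev_append, ev_cons, ev_append, ev_cons, ev_cons, ev_nil, mul_one] at h2
  have e : (ev x (8 :: H26.SpFi23.zw))⁻¹ * H26.SpFi23.z * ev x (8 :: H26.SpFi23.zw) = x 8 := by
    rw [ev_cons, mul_inv_rev, i8]
    change (H26.SpFi23.z)⁻¹ * x 8 * H26.SpFi23.z * (x 8 * H26.SpFi23.z) = x 8
    rw [iz]
    have h3 : H26.SpFi23.z * (x 8 * (H26.SpFi23.z * (x 8 * H26.SpFi23.z))) = x 8 := h2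
    rw [← mul_assoc, ← mul_assoc] at h3
    simp only [mul_assoc] at h3 ⊢
    exact h3
  rw [e] at h1
  exact h1

theorem cc7 : CC phi (x 7) 1827 := cc8.step compat (v := 7) (by decide) (by decide) (sqq 8 (by decide) (by decide))
  (sqq 7 (by decide) (by decide)) (br_symm (br (by decide))) (by decide +kernel)
theorem cc6 : CC phi (x 6) 1824 := cc7.step compat (v := 6) (by decide) (by decide) (sqq 7 (by decide) (by decide))
  (sqq 6 (by decide) (by decide)) (br_symm (br (by decide))) (by decide +kernel)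
theorem cc5 : CC phi (x 5) 1823 := cc6.step compat (v := 5) (by decide) (by decide) (sqq 6 (by decide) (by decide))
  (sqq 5 (by decide) (by decide)) (br_symm (br (by decide))) (by decide +kernel)
theorem cc4 : CC phi (x 4) 1822 := cc5.step compat (v := 4) (by decide) (by decide) (sqq 5 (by decide) (by decide))
  (sqq 4 (by decide) (by decide)) (br_symm (br (by decide))) (by decide +kernel)
theorem cc3 : CC phi (x 3) 1825 := cc4.step compat (v := 3) (by decide) (by decide) (sqq 4 (by decide) (by decide))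
  (sqq 3 (by decide) (by decide)) (br_symm (br (by decide))) (by decide +kernel)
theorem cc2 : CC phi (x 2) 1826 := cc3.step compat (v := 2) (by decide) (by decide) (sqq 3 (by decide) (by decide))
  (sqq 2 (by decide) (by decide)) (br_symm (br (by decide))) (by decide +kernel)
theorem cc1 : CC phi (x 1) 2400 := cc2.step compat (v := 1) (by decide) (by decide) (sqq 2 (by decide) (by decide))
  (sqq 1 (by decide) (by decide)) (br_symm (br (by decide))) (by decide +kernel)
theorem cc9 : CC phi (x 9) 1821 := cc4.step compat (v := 9) (by decide) (by decide) (sqq 4 (by decide) (by decide))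
  (sqq 9 (by decide) (by decide)) (br (by decide)) (by decide +kernel)
theorem cc10 : CC phi (x 10) 1828 := cc9.step compat (v := 10) (by decide) (by decide) (sqq 9 (by decide) (by decide))
  (sqq 10 (by decide) (by decide)) (br (by decide)) (by decide +kernel)

theorem dat : Dat phi x H8.Fi23A.L 15 10 gp where
  hs := H8.Fi23A.sys
  hn := H8.Fi23M.hn
  hc := compat
  hm := by decide
  sq := sqq
  cc := by
    intro s h1 h2
    obtain rfl | rfl | rfl | rfl | rfl | rfl | rfl | rfl | rfl | rfl : s = 1 ∨ s = 2 ∨ s = 3 ∨ s = 4 ∨ s = 5 ∨ s = 6 ∨ s = 7 ∨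
      s = 8 ∨ s = 9 ∨ s = 10 := by omega
    exacts [cc1, cc2, cc3, cc4, cc5, cc6, cc7, cc8, cc9, cc10]

theorem conj1 : ∀ j, 1 ≤ j → j ≤ 10 → IsConj (x 1) (x j) := by
  have h1 : IsConj (x 1) (x 1) := IsConj.refl _
  have h2 := h1.trans (conj_braid (sqq 1 (by decide) (by decide)) (sqq 2 (by decide) (by decide)) (br (u := 1) (v := 2) (by decide)))
  have h3 := h2.trans (conj_braid (sqq 2 (by decide) (by decide)) (sqq 3 (by decide) (by decide)) (br (u := 2) (v := 3) (by decide)))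
  have h4 := h3.trans (conj_braid (sqq 3 (by decide) (by decide)) (sqq 4 (by decide) (by decide)) (br (u := 3) (v := 4) (by decide)))
  have h5 := h4.trans (conj_braid (sqq 4 (by decide) (by decide)) (sqq 5 (by decide) (by decide)) (br (u := 4) (v := 5) (by decide)))
  have h6 := h5.trans (conj_braid (sqq 5 (by decide) (by decide)) (sqq 6 (by decide) (by decide)) (br (u := 5) (v := 6) (by decide)))
  have h7 := h6.trans (conj_braid (sqq 6 (by decide) (by decide)) (sqq 7 (by decide) (by decide)) (br (u := 6) (v := 7) (by decide)))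
  have h8 := h7.trans (conj_braid (sqq 7 (by decide) (by decide)) (sqq 8 (by decide) (by decide)) (br (u := 7) (v := 8) (by decide)))
  have h9 := h4.trans (conj_braid (sqq 4 (by decide) (by decide)) (sqq 9 (by decide) (by decide)) (br (u := 4) (v := 9) (by decide)))
  have h10 := h9.trans (conj_braid (sqq 9 (by decide) (by decide)) (sqq 10 (by decide) (by decide)) (br (u := 9) (v := 10) (by decide)))
  intro s hs1 hs2
  obtain rfl | rfl | rfl | rfl | rfl | rfl | rfl | rfl | rfl | rfl : s = 1 ∨ s = 2 ∨ s = 3 ∨ s = 4 ∨ s = 5 ∨ s = 6 ∨ s = 7 ∨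
      s = 8 ∨ s = 9 ∨ s = 10 := by omega
  exacts [h1, h2, h3, h4, h5, h6, h7, h8, h9, h10]

theorem t2102 : tr H8.Fi23A.L [1] 1826 = 2102 := by decide +kernel

theorem x_ne : x 1 ≠ 1 := by
  have h := H26.Sp.ev_ne compat (u := [1]) (w := []) (by simp) (by simp) 1826 (by decide) (by rw [t2102]; decide)
  simpa using h

theorem center : Subgroup.center Fi23 = ⊥ := by
  haveI := simple
  refine H26.Sp.center_eq_bot_of_simple simple (a := x 1) (b := x 2) ?_
  intro h
  have h1 : (x 1 * x 2) ^ 3 = 1 := br (u := 1) (v := 2) (by decide)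
  have h2 : (x 1 * x 2) ^ 2 = 1 := by
    rw [pow_two]
    calc x 1 * x 2 * (x 1 * x 2) = x 1 * x 2 * (x 2 * x 1) := by rw [h]
      _ = x 1 * (x 2 * x 2) * x 1 := by simp only [mul_assoc]
      _ = 1 := by rw [sqq 2 (by decide) (by decide), mul_one, sqq 1 (by decide) (by decide)]
  have h3 : x 1 * x 2 = 1 := by
    have h4 : (x 1 * x 2) ^ 3 = (x 1 * x 2) ^ 2 * (x 1 * x 2) := pow_succ _ _
    rw [h1, h2, one_mul] at h4; exact h4.symm
  have h4 : FX phi (x 2) 2400 := by
    refine (cc1.iff (x 2)).2 h.symm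
  have h5 : tr H8.Fi23A.L [2] 2400 = 2400 := by
    have h6 := FX_iff compat (w := [2]) (by simp) (show 2400 < 31671 by decide)
    rw [ev_cons, ev_nil, mul_one] at h6
    exact h6.1 h4
  have h6 : tr H8.Fi23A.L [2] 2400 ≠ 2400 := by decide +kernel
  exact h6 h5

theorem gen : Subgroup.closure {g | ∃ j, 1 ≤ j ∧ j ≤ 10 ∧ g = x j} = ⊤ := by
  rw [eq_top_iff, ← Hl_top, Hl, Subgroup.closure_le]
  rintro _ ⟨y, hy, rfl⟩
  apply Subgroup.subset_closure
  have : y ∈ [1, 2, 3, 4, 5, 6, 7, 8, 9, 10] := hy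
  simp only [List.mem_cons, List.not_mem_nil, or_false] at this
  exact ⟨y, by omega, by omega, rfl⟩

theorem Xok : lok 10 X = true := by decide

theorem X11 : ([1, 2, 3, 4, 5, 6, 7, 8, 9, 10].all fun s => Nat.beq (tr H8.Fi23A.L (powW X 11) (gp s)) (gp s)) = true := by
  decide +kernel

theorem Xne : tr H8.Fi23A.L X 1 ≠ tr H8.Fi23A.L [] 1 := by decide +kernel

theorem ordX : orderOf (ev x X) = 11 := by
  haveI : Fact (Nat.Prime 11) := ⟨by norm_num⟩
  refine orderOf_eq_prime ?_ ?_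
  · rw [← ev_powW]
    refine dat.triv center gen ?_
    intro j h1 h2
    rw [← (dat.cc j h1 h2).iff, FX_iff compat (powW_lt (dat.lt16 Xok) 11) (dat.cc j h1 h2).1]
    have h3 := X11
    rw [List.all_eq_true] at h3
    exact Nat.eq_of_beq_eq_true (h3 j (by simp only [List.mem_cons, List.not_mem_nil, or_false]; omega))
  · exact H26.Sp.ev_ne compat (dat.lt16 Xok) (by simp) 1 (by decide) Xne

theorem fixX : patEq H8.Fi23A.L 31671 15 [(X, true)] (2 ^ 1828 ||| 2 ^ 2400) = true := by decide +kernel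

theorem okP1 : ptB H8.Fi23A.L 10 gp T0 [(1825, 3, []), (1823, 5, []), (5685, 4, [5, 6, 7, 8]),
  (41, 3, [4, 5, 6, 7, 9, 4, 5, 6, 10, 9, 4])] = true := by decide +kernel

theorem Tok : ([3, 4, 5, 6, 7, 8].all fun s => Nat.testBit T (gp s)) = true := by decide +kernel

def p1535 : List ℕ := [2, 3, 4, 5, 9, 4, 3, 2, 10, 9, 4, 3]

def p121 : List ℕ := [4, 5, 6, 9, 4, 5, 10, 9, 4]

theorem Tok2 : ptB H8.Fi23A.L 10 gp T [(1535, 1, p1535), (121, 3, p121)] = true := by decide +kernel

def Cb : List (List ℕ) := [[3], [4], [5], [6], [7], [8], dwd p1535 1]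

def Ch : List (List ℕ) := [[3], [4], [5], [6], [7], [8], dwd p121 3]

theorem at_b : patEq H8.Fi23A.L 31671 15 (bitsC H8.Fi23A.L Cb 1826) (2 ^ 1826 ||| 2 ^ 2102) = true := by decide +kernel

theorem at_h : patEq H8.Fi23A.L 31671 15 (bitsC H8.Fi23A.L Ch 1821) (2 ^ 1821 ||| 2 ^ 1533) = true := by decide +kernel

theorem at_s : patEq H8.Fi23A.L 31671 15 (bitsC H8.Fi23A.L Cb 1826 ++ [([1], true), ([10], false)]) 0 = true := by decide +kernel

theorem t1533 : tr H8.Fi23A.L [10] 1821 = 1533 := by decide +kernel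

end Cfsg.Agent.H28.O3
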