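import Cfsg.Agent.H28_O3D

set_option autoImplicit false
set_option maxRecDepth 100000

namespace Cfsg.Agent.H28.O3

open Cfsg H8.CE H8.Net H8.Act H8.Act2 OA

theorem hgood2 : repsB H8.Fi23A.L 10 gp X 13 T good2 = true := by decide +kernel

theorem hgood6 : repsB H8.Fi23A.L 10 gp X 16 T good6 = true := by decide +kernel

theorem hC1 : oddB H8.Fi23A.L 31671 15 C1 X good = true := by decide +kernel

end Cfsg.Agent.H28.O3
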