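import Cfsg.Agent.H28_O3D

set_option autoImplicit false
set_option maxRecDepth 100000

namespace Cfsg.Agent.H28.O3

open Cfsg H8.CE H8.Net H8.Act H8.Act2 OA

theorem hbad_0 : repB H8.Fi23A.L 10 gp X 5 (2 ^ 1823) (13, 3, [4, 5, 6, 7, 9, 4, 5, 6, 10, 9, 4, 3, 5]) = true := by decide +kernel

theorem hbad_1 : repB H8.Fi23A.L 10 gp X 8 (2 ^ 1823) (23, 3, [4, 5, 6, 7, 9, 4, 5, 6, 10, 9, 4, 5]) = true := by decide +kernel

theorem hbad_4 : repB H8.Fi23A.L 10 gp X 9 (2 ^ 1823) (5769, 1, [2, 3, 4, 5, 6, 7, 9, 4, 3, 2, 10, 9, 4, 3, 5, 4, 6, 7, 8]) = true := by decide +kernel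

theorem hbad_5 : repB H8.Fi23A.L 10 gp X 12 (2 ^ 1823) (427, 3, [4, 5, 9, 4, 10, 9]) = true := by decide +kernel

theorem hbad_8 : repB H8.Fi23A.L 10 gp X 8 (2 ^ 1823) (3721, 3, [4, 5, 6, 7, 8, 9, 4, 5, 10, 9, 4, 3]) = true := by decide +kernel

theorem hbad_9 : repB H8.Fi23A.L 10 gp X 6 (2 ^ 1823) (852, 1, [2, 3, 4, 5, 6, 7, 9, 4, 3, 2, 5, 10, 9, 4, 5]) = true := by decide +kernel

theorem hbad_12 : repB H8.Fi23A.L 10 gp X 7 (2 ^ 1823) (5685, 4, [5, 6, 7, 8]) = true := by decide +kernel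

end Cfsg.Agent.H28.O3
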