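import Cfsg.Agent.H28_O3D

set_option autoImplicit false
set_option maxRecDepth 100000

namespace Cfsg.Agent.H28.O3

open Cfsg H8.CE H8.Net H8.Act H8.Act2 OA

theorem hbad_2 : repB H8.Fi23A.L 10 gp X 10 (2 ^ 1823) (24, 3, [4, 5, 6, 7, 9, 4, 5, 6, 10, 9, 4, 3]) = true := by decide +kernel

theorem hbad_3 : repB H8.Fi23A.L 10 gp X 1 (2 ^ 1823) (1823, 5, []) = true := by decide +kernel

theorem hbad_6 : repB H8.Fi23A.L 10 gp X 7 (2 ^ 1823) (1543, 1, [2, 3, 4, 5, 6, 7, 9, 4, 3, 2, 10, 9, 4, 3, 5, 6]) = true := by decide +kernel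

theorem hbad_7 : repB H8.Fi23A.L 10 gp X 7 (2 ^ 1823) (1346, 1, [2, 3, 4, 5, 6, 9, 4, 3, 2, 10, 9, 4, 5]) = true := by decide +kernel

theorem hbad_10 : repB H8.Fi23A.L 10 gp X 6 (2 ^ 1823) (3809, 3, [4, 5, 6, 7, 8, 9, 4, 5, 10, 9, 4]) = true := by decide +kernel

theorem hbad_11 : repB H8.Fi23A.L 10 gp X 12 (2 ^ 1823) (1825, 3, []) = true := by decide +kernel

theorem hbad_13 : repB H8.Fi23A.L 10 gp X 10 (2 ^ 1823) (1360, 1, [2, 3, 4, 5, 6, 7, 9, 4, 3, 2, 10, 9, 4, 5, 6]) = true := by decide +kernel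

theorem hbad_14 : repB H8.Fi23A.L 10 gp X 3 (2 ^ 1823) (5406, 1, [2, 3, 4, 5, 6, 7, 8, 9, 4, 3, 2, 5, 6, 7, 10, 9, 4, 3, 5, 6]) = true := by decide +kernel

end Cfsg.Agent.H28.O3
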