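import Cfsg.Agent.H28_OA3
import Cfsg.Agent.H28_O3D

/-! `Fi23`: sizes of the levels. -/

set_option autoImplicit false
set_option maxRecDepth 100000

namespace Cfsg.Agent.H28.O3

open Cfsg H8.CE H8.Net H8.Act H8.Act2 OA

theorem lv8 : lvB H8.Fi23A.L 31671 15 [] (gp 8) 31671 = true := by decide +kernel
theorem lv7 : lvB H8.Fi23A.L 31671 15 [8] (gp 7) 28160 = true := by decide +kernel
theorem lv9 : lvB H8.Fi23A.L 31671 15 [8, 7] (gp 9) 351 = true := by decide +kernel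
theorem lv4 : lvB H8.Fi23A.L 31671 15 [8, 7, 9] (gp 4) 224 = true := by decide +kernel
theorem lv3 : lvB H8.Fi23A.L 31671 15 [8, 7, 9, 4] (gp 3) 82 = true := by decide +kernel
theorem lv5 : lvB H8.Fi23A.L 31671 15 [8, 7, 9, 3, 4] (gp 5) 32 = true := by decide +kernel
theorem lv2 : lvB H8.Fi23A.L 31671 15 [8, 7, 9, 4, 5, 3] (gp 2) 12 = true := by decide +kernel
theorem lv6 : lvB H8.Fi23A.L 31671 15 [8, 9, 4, 3, 2, 7, 5] (gp 6) 3 = true := by decide +kernel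
theorem lv1 : lvB H8.Fi23A.L 31671 15 [8, 7, 6, 5, 4, 9, 3] (gp 1) 1 = true := by decide +kernel
theorem lv10 : lvB H8.Fi23A.L 31671 15 [8, 7, 6, 5, 4, 3, 2, 1] (gp 10) 1 = true := by decide +kernel

end Cfsg.Agent.H28.O3
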