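import Cfsg.Agent.H28_OA3

/-!
Involutions commuting with a given element: a variant.
-/

set_option autoImplicit false

namespace Cfsg.Agent.H28.OA

open Cfsg H8.CE H8.Net H8.Act H8.Act2

section
variable {G : Type*} [Group G] {n k : ℕ} {φ : G →* Equiv.Perm (Fin n)} {x : ℕ → G} {L : List Nt}
variable {m : ℕ} {gp : ℕ → ℕ}

theorem Dat.tgt' (D : Dat φ x L k m gp) {X : List ℕ} (hX : lok m X = true) {y : G} (hy2 : y * y = 1)
    (hyX : y * ev x X = ev x X * y) {C0 : List (List ℕ × Bool)} {T T0 : ℕ} {r0 : ℕ × ℕ × List ℕ}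
    {good bad P1 : List (ℕ × ℕ × List ℕ)}
    (hC0p : ∀ i : Fin n, (∀ c ∈ C0, (tr L c.1 i = i ↔ c.2 = true)) → (∀ c ∈ C0, (tr L c.1 (φ y i) = φ y i ↔ c.2 = true)))
    (hgood : ∀ c ∈ good, ∃ r, repB L m gp X r T c = true)
    (hr0 : ∃ r, repB L m gp X r T0 r0 = true)
    (hP1 : ptB L m gp T0 P1 = true)
    (hC1 : oddB L n k (C0 ++ P1.map fun c => (dwd c.2.2 c.2.1, true)) X good = true)
    (hbad : ∀ c ∈ bad, ∃ r, repB L m gp X r (2 ^ r0.1) c = true)
    (hC0 : oddB L n k C0 X (good ++ bad) = true) : ∀ i, T.testBit i = true → FX φ y i := by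
  have hg : ∀ c ∈ good, FX φ y c.1 → ∀ i, T.testBit i = true → FX φ y i := by
    intro c hc hy
    obtain ⟨r, hr⟩ := hgood c hc
    obtain ⟨h1, h2, h3⟩ := repB_iff hr
    exact D.clo hX hyX h1 h2 h3 hy
  have hr : FX φ y r0.1 → ∀ i, T.testBit i = true → FX φ y i := by
    intro hy
    obtain ⟨r, hr⟩ := hr0
    obtain ⟨h1, h2, h3⟩ := repB_iff hr
    have h4 := D.clo hX hyX h1 h2 h3 hy
    have h5 := D.pts hP1 h4
    refine D.odd hX hy2 hyX (C := C0 ++ P1.map fun c => (dwd c.2.2 c.2.1, true)) ?_ hC1 hg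
    intro i hi c hc
    rw [List.mem_append] at hc
    rcases hc with hc | hc
    · exact hC0p i (fun c hc => hi c (List.mem_append.2 (Or.inl hc))) c hc
    · rw [List.mem_map] at hc
      obtain ⟨d, hd, rfl⟩ := hc
      have h6 := h5 d hd
      rw [fix_of_comm D.hc h6.2 h6.1 i]
      exact hi _ (List.mem_append.2 (Or.inr (List.mem_map.2 ⟨d, hd, rfl⟩)))
  have hb : ∀ c ∈ bad, FX φ y c.1 → ∀ i, T.testBit i = true → FX φ y i := by
    intro c hc hy
    obtain ⟨r, hrb⟩ := hbad c hc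
    obtain ⟨h1, h2, h3⟩ := repB_iff hrb
    refine hr (D.clo hX hyX h1 h2 h3 hy r0.1 ?_)
    rw [Nat.testBit_two_pow]; simp
  refine D.odd hX hy2 hyX (C := C0) hC0p hC0 ?_
  intro c hc
  rw [List.mem_append] at hc
  rcases hc with hc | hc
  · exact hg c hc
  · exact hb c hc

end

end Cfsg.Agent.H28.OA
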