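import Cfsg.Agent.H28_O3B
import Cfsg.Agent.H28_O3E0
import Cfsg.Agent.H28_O3F0
import Cfsg.Agent.H28_O3F1
import Cfsg.Agent.H28_O3F2
import Cfsg.Agent.H28_O3F3
import Cfsg.Agent.H28_OA4
import Cfsg.Agent.H28_O3E2
import Cfsg.Agent.H28_O3E3
import Cfsg.Agent.H28_O3L

/-! `Fi23`: automorphisms preserve the transpositions; the bound on the automorphism group. -/

set_option autoImplicit false
set_option maxRecDepth 100000

namespace Cfsg.Agent.H28.O3

open Cfsg H8.CE H8.Net H8.Act H8.Act2 H8.Fi23M OA Cfsg.Spor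

theorem hgood : ∀ c ∈ good, ∃ r, repB H8.Fi23A.L 10 gp X r T c = true := by
  intro c hc
  unfold good at hc
  simp only [List.mem_append] at hc
  rcases hc with ((((((hc | hc) | hc) | hc) | hc) | hc) | hc) | hc
  · exact ⟨_, repsB_iff hgood0 c hc⟩
  · exact ⟨_, repsB_iff hgood1 c hc⟩
  · exact ⟨_, repsB_iff hgood2 c hc⟩
  · exact ⟨_, repsB_iff hgood3 c hc⟩
  · exact ⟨_, repsB_iff hgood4 c hc⟩
  · exact ⟨_, repsB_iff hgood5 c hc⟩
  · exact ⟨_, repsB_iff hgood6 c hc⟩
  · exact ⟨_, repsB_iff hgood7 c hc⟩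

theorem hbad : ∀ c ∈ bad, ∃ r, repB H8.Fi23A.L 10 gp X r (2 ^ r0.1) c = true := by
  intro c hc
  unfold bad at hc
  simp only [List.mem_cons, List.not_mem_nil, or_false] at hc
  rcases hc with rfl | rfl | rfl | rfl | rfl | rfl | rfl | rfl | rfl | rfl | rfl | rfl | rfl | rfl | rfl
  exacts [⟨_, hbad_0⟩, ⟨_, hbad_1⟩, ⟨_, hbad_2⟩, ⟨_, hbad_3⟩, ⟨_, hbad_4⟩, ⟨_, hbad_5⟩, ⟨_, hbad_6⟩, ⟨_, hbad_7⟩,
    ⟨_, hbad_8⟩, ⟨_, hbad_9⟩, ⟨_, hbad_10⟩, ⟨_, hbad_11⟩, ⟨_, hbad_12⟩, ⟨_, hbad_13⟩, ⟨_, hbad_14⟩]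

theorem e1 : ev x [1] = x 1 := by rw [ev_cons, ev_nil, mul_one]
theorem e10 : ev x [10] = x 10 := by rw [ev_cons, ev_nil, mul_one]

/-- `y` acts on the two fixed points of `X` -/
theorem fix2 {y : Fi23} (hyX : y * ev x X = ev x X * y) :
    ((phi y ⟨1828, by decide⟩ : Fin 31671) : ℕ) = 1828 ∨ ((phi y ⟨1828, by decide⟩ : Fin 31671) : ℕ) = 2400 := by
  have h1 := (patEq_iff dat.hs dat.hn fixX (phi y ⟨1828, by decide⟩).2).2 (by
    intro c hc
    simp only [List.mem_cons, List.not_mem_nil, or_false] at hc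
    rw [hc]
    rw [fix_of_comm compat (dat.lt16 Xok) hyX ⟨1828, by decide⟩]
    have h2 : tr H8.Fi23A.L X 1828 = 1828 := by decide +kernel
    simpa using h2)
  rw [Nat.testBit_or, Bool.or_eq_true, Nat.testBit_two_pow, Nat.testBit_two_pow] at h1
  rcases h1 with h1 | h1
  · left; exact (of_decide_eq_true h1).symm
  · right; exact (of_decide_eq_true h1).symm

/-- `y` acts on the two fixed points of `X` -/
theorem fix2' {y : Fi23} (hyX : y * ev x X = ev x X * y) :
    ((phi y ⟨2400, by decide⟩ : Fin 31671) : ℕ) = 1828 ∨ ((phi y ⟨2400, by decide⟩ : Fin 31671) : ℕ) = 2400 := by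
  have h1 := (patEq_iff dat.hs dat.hn fixX (phi y ⟨2400, by decide⟩).2).2 (by
    intro c hc
    simp only [List.mem_cons, List.not_mem_nil, or_false] at hc
    rw [hc]
    rw [fix_of_comm compat (dat.lt16 Xok) hyX ⟨2400, by decide⟩]
    have h2 : tr H8.Fi23A.L X 2400 = 2400 := by decide +kernel
    simpa using h2)
  rw [Nat.testBit_or, Bool.or_eq_true, Nat.testBit_two_pow, Nat.testBit_two_pow] at h1
  rcases h1 with h1 | h1
  · left; exact (of_decide_eq_true h1).symm
  · right; exact (of_decide_eq_true h1).symm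

theorem rstep {u v i j : ℕ} (hu : u < 16) (hv : v < 16) (su : x u * x u = 1) (sv : x v * x v = 1)
    (hb : (x u * x v) ^ 3 = 1) (hi : i < 31671) (hj' : j < 31671) (hj : tr H8.Fi23A.L [v, u] i = j) :
    ∃ h, h * x u * h⁻¹ = x v ∧ phi h ⟨i, hi⟩ = ⟨j, hj'⟩ := by
  have iu : (x u)⁻¹ = x u := inv_eq_of_mul_eq_one_left su
  have iv : (x v)⁻¹ = x v := inv_eq_of_mul_eq_one_left sv
  have h3 : x u * x v * x u * x v * x u * x v = 1 := by
    rw [← hb]; simp only [pow_succ, pow_zero, one_mul, mul_assoc]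
  have h4 : x u * x v * x u * x v * x u = x v := by
    rw [mul_eq_one_iff_eq_inv] at h3; rw [h3, iv]
  refine ⟨x u * x v, ?_, ?_⟩
  · rw [mul_inv_rev, iu, iv]
    calc x u * x v * x u * (x v * x u) = x u * x v * x u * x v * x u := by simp only [mul_assoc]
      _ = x v := h4
  · have h5 := compat_ev compat [v, u] (by
      intro y hy
      simp only [List.mem_cons, List.not_mem_nil, or_false] at hy
      rcases hy with rfl | rfl
      · exact hv
      · exact hu) ⟨i, hi⟩
    have h6 : (ev x [v, u])⁻¹ = x u * x v := by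
      rw [ev_cons, ev_cons, ev_nil, mul_one, mul_inv_rev, iu, iv]
    rw [← map_inv, h6] at h5
    exact Fin.ext (h5.trans hj)

theorem rtrans {a b c : Fi23} {i j k : Fin 31671} (h1 : ∃ h, h * a * h⁻¹ = b ∧ phi h i = j) (h2 : ∃ h, h * b * h⁻¹ = c ∧ phi h j = k) :
    ∃ h, h * a * h⁻¹ = c ∧ phi h i = k := by
  obtain ⟨u, h3, h4⟩ := h1
  obtain ⟨v, h5, h6⟩ := h2
  refine ⟨v * u, ?_, ?_⟩
  · rw [← h5, ← h3]; group
  · rw [map_mul, Equiv.Perm.mul_apply, h4, h6]

theorem r12 : tr H8.Fi23A.L [2, 1] 2400 = 1826 := by decide +kernel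
theorem r23 : tr H8.Fi23A.L [3, 2] 1826 = 1825 := by decide +kernel
theorem r34 : tr H8.Fi23A.L [4, 3] 1825 = 1822 := by decide +kernel
theorem r49 : tr H8.Fi23A.L [9, 4] 1822 = 1821 := by decide +kernel
theorem r910 : tr H8.Fi23A.L [10, 9] 1821 = 1828 := by decide +kernel

theorem r110 : ∃ h, h * x 1 * h⁻¹ = x 10 ∧ phi h ⟨2400, by decide⟩ = ⟨1828, by decide⟩ := by
  refine rtrans (rstep (v := 2) (by decide) (by decide) (sqq 1 (by decide) (by decide)) (sqq 2 (by decide) (by decide))
    (br (by decide)) (by decide) (by decide) r12) ?_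
  refine rtrans (rstep (v := 3) (by decide) (by decide) (sqq 2 (by decide) (by decide)) (sqq 3 (by decide) (by decide))
    (br (by decide)) (by decide) (by decide) r23) ?_
  refine rtrans (rstep (v := 4) (by decide) (by decide) (sqq 3 (by decide) (by decide)) (sqq 4 (by decide) (by decide))
    (br (by decide)) (by decide) (by decide) r34) ?_
  refine rtrans (rstep (v := 9) (by decide) (by decide) (sqq 4 (by decide) (by decide)) (sqq 9 (by decide) (by decide))
    (br (by decide)) (by decide) (by decide) r49) ?_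
  exact rstep (v := 10) (by decide) (by decide) (sqq 9 (by decide) (by decide)) (sqq 10 (by decide) (by decide))
    (br (by decide)) (by decide) (by decide) r910

theorem letters_ok : ([3, 4, 5, 6, 7, 8, 9].all fun s => Nat.beq (tr H8.Fi23A.L [1] (gp s)) (gp s)) = true := by decide +kernel

theorem letters_ok' : ([1, 2, 3, 4, 5, 6, 7, 8].all fun s => Nat.beq (tr H8.Fi23A.L [10] (gp s)) (gp s)) = true := by decide +kernel

theorem comm1 {s : ℕ} (h2 : s ≠ 2) (h3 : 1 ≤ s) (h4 : s ≤ 10) : x 1 * x s = x s * x 1 := by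
  by_cases h9 : s = 1
  · rw [h9]
  · rw [← (dat.cc s h3 h4).iff]
    have e2 := FX_iff compat (w := [1]) (by simp) (dat.cc s h3 h4).1
    rw [e1] at e2
    rw [e2]
    by_cases h10 : s = 10
    · rw [h10]; decide +kernel
    · have h11 := letters_ok
      rw [List.all_eq_true] at h11
      exact Nat.eq_of_beq_eq_true (h11 s (by simp only [List.mem_cons, List.not_mem_nil, or_false]; omega))

theorem comm10 {s : ℕ} (h2 : s ≠ 9) (h3 : 1 ≤ s) (h4 : s ≤ 10) : x 10 * x s = x s * x 10 := by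
  by_cases h9 : s = 10
  · rw [h9]
  · rw [← (dat.cc s h3 h4).iff]
    have e2 := FX_iff compat (w := [10]) (by simp) (dat.cc s h3 h4).1
    rw [e10] at e2
    rw [e2]
    have h11 := letters_ok'
    rw [List.all_eq_true] at h11
    exact Nat.eq_of_beq_eq_true (h11 s (by simp only [List.mem_cons, List.not_mem_nil, or_false]; omega))

/-- common part -/
theorem U0 {y : Fi23} (hy2 : y * y = 1) (hyX : y * ev x X = ev x X * y)
    (hp : ∀ i : Fin 31671, (∀ c ∈ C0, (tr H8.Fi23A.L c.1 i = i ↔ c.2 = true)) →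
      (∀ c ∈ C0, (tr H8.Fi23A.L c.1 (phi y i) = phi y i ↔ c.2 = true))) :
    (∀ s, 3 ≤ s → s ≤ 8 → y * x s = x s * y) ∧ (∀ w ∈ Cb, y * ev x w = ev x w * y ∧ ∀ z ∈ w, z < 16) ∧
      (∀ w ∈ Ch, y * ev x w = ev x w * y ∧ ∀ z ∈ w, z < 16) := by
  have hT : ∀ i, T.testBit i = true → FX phi y i :=
    dat.tgt' Xok hy2 hyX (C0 := C0) (T := T) (T0 := T0) (r0 := r0) (good := good) (bad := bad)
      (P1 := [(1825, 3, []), (1823, 5, []), (5685, 4, [5, 6, 7, 8]), (41, 3, [4, 5, 6, 7, 9, 4, 5, 6, 10, 9, 4])])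
      hp hgood ⟨_, hr0⟩ okP1 hC1 hbad hC0
  have hs : ∀ s, 3 ≤ s → s ≤ 8 → y * x s = x s * y := by
    intro s h3 h4
    rw [← (dat.cc s (by omega) (by omega)).iff]
    apply hT
    have h5 := Tok
    rw [List.all_eq_true] at h5
    exact h5 s (by simp only [List.mem_cons, List.not_mem_nil, or_false]; omega)
  have hpt := dat.pts Tok2 hT
  have hb := hpt (1535, 1, p1535) (by simp)
  have hh := hpt (121, 3, p121) (by simp)
  refine ⟨hs, ?_, ?_⟩
  · intro w hw
    unfold Cb at hw
    simp only [List.mem_cons, List.not_mem_nil, or_false] at hw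
    rcases hw with rfl | rfl | rfl | rfl | rfl | rfl | rfl
    iterate 6
      · refine ⟨?_, by simp⟩
        rw [ev_cons, ev_nil, mul_one]
        exact hs _ (by decide) (by decide)
    exact hb
  · intro w hw
    unfold Ch at hw
    simp only [List.mem_cons, List.not_mem_nil, or_false] at hw
    rcases hw with rfl | rfl | rfl | rfl | rfl | rfl | rfl
    iterate 6
      · refine ⟨?_, by simp⟩
        rw [ev_cons, ev_nil, mul_one]
        exact hs _ (by decide) (by decide)
    exact hh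

/-- multiplying by `x 1` moves the image of a point -/
theorem fix_mul {t y : Fi23} {w : List ℕ} (hw : ∀ z ∈ w, z < 16) (ht : ev x w = t) {p q : ℕ} (hp : p < 31671)
    (hy : ((phi y ⟨p, hp⟩ : Fin 31671) : ℕ) = q) (hpq : tr H8.Fi23A.L w p = q) : FX phi (t * y) p := by
  refine ⟨hp, ?_⟩
  rw [map_mul, Equiv.Perm.mul_apply]
  have h4 := compat_ev compat w hw ⟨p, hp⟩
  rw [ht] at h4
  have h5 : (phi t)⁻¹ ⟨p, hp⟩ = phi y ⟨p, hp⟩ := Fin.ext (by rw [h4, hy]; exact hpq)
  rw [Equiv.Perm.inv_eq_iff_eq] at h5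
  exact h5.symm

/-- the case in which `y` fixes both points -/
theorem U1 {y : Fi23} (hy2 : y * y = 1) (hyX : y * ev x X = ev x X * y) (h1 : y * x 1 = x 1 * y) (h10 : y * x 10 = x 10 * y) :
    y = 1 ∨ y = x 1 ∨ y = x 10 ∨ y = x 1 * x 10 := by
  obtain ⟨hs, hb, hh⟩ := U0 hy2 hyX (dat.pres (by
    intro c hc
    unfold C0 at hc
    simp only [List.mem_cons, List.not_mem_nil, or_false] at hc
    rcases hc with rfl | rfl | rfl
    · rw [e1]; exact ⟨h1, by simp⟩
    · rw [e10]; exact ⟨h10, by simp⟩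
    · exact ⟨hyX, dat.lt16 Xok⟩))
  have hb' := dat.atom (y := y) (C := Cb) (p := 1826) (q := 2102) hb at_b (by decide)
  have hh' := dat.atom (y := y) (C := Ch) (p := 1821) (q := 1533) hh at_h (by decide)
  -- a general criterion
  have hfin : ∀ w : Fi23, (∀ s, s ≠ 2 → s ≠ 9 → 1 ≤ s → s ≤ 10 → w * x s = x s * w) → w * x 2 = x 2 * w → w * x 9 = x 9 * w →
      w = 1 := by
    intro w h2 h3 h4
    refine dat.triv center gen ?_
    intro j h5 h6
    by_cases h7 : j = 2
    · rw [h7]; exact h3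
    · by_cases h8 : j = 9
      · rw [h8]; exact h4
      · exact h2 j h7 h8 h5 h6
  have hys : ∀ s, s ≠ 2 → s ≠ 9 → 1 ≤ s → s ≤ 10 → y * x s = x s * y := by
    intro s h2 h3 h4 h5
    by_cases h6 : s = 1
    · rw [h6]; exact h1
    · by_cases h7 : s = 10
      · rw [h7]; exact h10
      · exact hs s (by omega) (by omega)
  -- `u` with `u * y` commuting with `b`
  have hu : ∃ u, (u = 1 ∨ u = x 1) ∧ (u * y) * x 2 = x 2 * (u * y) := by
    rcases hb' with h | h
    · refine ⟨1, Or.inl rfl, ?_⟩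
      rw [one_mul, ← cc2.iff]
      exact ⟨by decide, Fin.ext h⟩
    · refine ⟨x 1, Or.inr rfl, ?_⟩
      rw [← cc2.iff]
      exact fix_mul (w := [1]) (by simp) e1 _ h t2102
  have hv : ∃ v, (v = 1 ∨ v = x 10) ∧ (v * y) * x 9 = x 9 * (v * y) := by
    rcases hh' with h | h
    · refine ⟨1, Or.inl rfl, ?_⟩
      rw [one_mul, ← cc9.iff]
      exact ⟨by decide, Fin.ext h⟩
    · refine ⟨x 10, Or.inr rfl, ?_⟩
      rw [← cc9.iff]
      exact fix_mul (w := [10]) (by simp) e10 _ h t1533
  obtain ⟨u, hu1, hu2⟩ := hu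
  obtain ⟨v, hv1, hv2⟩ := hv
  have c1 : ∀ s, s ≠ 2 → 1 ≤ s → s ≤ 10 → u * x s = x s * u := by
    intro s h2 h3 h4
    rcases hu1 with rfl | rfl
    · simp
    · exact comm1 h2 h3 h4
  have c10 : ∀ s, s ≠ 9 → 1 ≤ s → s ≤ 10 → v * x s = x s * v := by
    intro s h2 h3 h4
    rcases hv1 with rfl | rfl
    · simp
    · exact comm10 h2 h3 h4
  have huv : u * v = v * u := by
    rcases hu1 with rfl | rfl
    · simp
    · exact (c10 1 (by decide) (by decide) (by decide)).symm
  have key : u * v * y = 1 := by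
    refine hfin _ ?_ ?_ ?_
    · intro s h2 h3 h4 h5
      have a1 := c1 s h2 h4 h5
      have a2 := c10 s h3 h4 h5
      have a3 := hys s h2 h3 h4 h5
      rw [mul_assoc, mul_assoc, a3, ← mul_assoc v, a2, mul_assoc, ← mul_assoc u, a1]
      simp only [mul_assoc]
    · calc u * v * y * x 2 = v * (u * y * x 2) := by rw [huv]; simp only [mul_assoc]
        _ = v * x 2 * (u * y) := by rw [hu2]; simp only [mul_assoc]
        _ = x 2 * v * (u * y) := by rw [c10 2 (by decide) (by decide) (by decide)]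
        _ = x 2 * (u * v * y) := by rw [huv]; simp only [mul_assoc]
    · calc u * v * y * x 9 = u * (v * y * x 9) := by simp only [mul_assoc]
        _ = u * x 9 * (v * y) := by rw [hv2]; simp only [mul_assoc]
        _ = x 9 * u * (v * y) := by rw [c1 9 (by decide) (by decide) (by decide)]
        _ = x 9 * (u * v * y) := by simp only [mul_assoc]
  have hy : y = (u * v)⁻¹ := (inv_eq_of_mul_eq_one_right key).symm
  have iu : u⁻¹ = u := by
    rcases hu1 with rfl | rfl
    · simp
    · exact inv_eq_of_mul_eq_one_left (sqq 1 (by decide) (by decide))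
  have iv : v⁻¹ = v := by
    rcases hv1 with rfl | rfl
    · simp
    · exact inv_eq_of_mul_eq_one_left (sqq 10 (by decide) (by decide))
  rw [mul_inv_rev, iu, iv, ← huv] at hy
  rcases hu1 with rfl | rfl
  · rcases hv1 with rfl | rfl
    · left; rw [hy, one_mul]
    · right; right; left; rw [hy, one_mul]
  · rcases hv1 with rfl | rfl
    · right; left; rw [hy, mul_one]
    · right; right; right; exact hy

/-- the case in which `y` swaps the points -/
theorem U2 {y : Fi23} (hy2 : y * y = 1) (hyX : y * ev x X = ev x X * y)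
    (h : ((phi y ⟨1828, by decide⟩ : Fin 31671) : ℕ) = 2400) : False := by
  have h1 : phi y ⟨1828, by decide⟩ = ⟨2400, by decide⟩ := Fin.ext h
  have h2 : phi y ⟨2400, by decide⟩ = ⟨1828, by decide⟩ := by
    rw [← h1, ← Equiv.Perm.mul_apply, ← map_mul, hy2, map_one, Equiv.Perm.one_apply]
  obtain ⟨u, hu1, hu2⟩ := r110
  have h4 : FX phi (u⁻¹ * y) 2400 := by
    refine ⟨by decide, ?_⟩
    rw [map_mul, map_inv, Equiv.Perm.mul_apply, h2, ← hu2, Equiv.Perm.inv_eq_iff_eq]
  have h5 := (cc1.iff _).1 h4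
  have hc : y * x 1 * y⁻¹ = x 10 := by
    rw [← hu1]
    calc y * x 1 * y⁻¹ = u * (u⁻¹ * y * x 1) * y⁻¹ := by group
      _ = u * (x 1 * (u⁻¹ * y)) * y⁻¹ := by rw [h5]
      _ = u * x 1 * u⁻¹ := by group
  have iy : y⁻¹ = y := inv_eq_of_mul_eq_one_left hy2
  rw [iy] at hc
  have hc' : y * x 10 * y = x 1 := by
    rw [← hc]
    calc y * (y * x 1 * y) * y = (y * y) * x 1 * (y * y) := by group
      _ = x 1 := by rw [hy2]; group
  have k1 : ∀ i : Fin 31671, (tr H8.Fi23A.L [10] (phi y i) = phi y i ↔ tr H8.Fi23A.L [1] i = i) := by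
    intro i
    have a1 := FX_iff compat (w := [10]) (by simp) (phi y i).2
    have a2 := FX_iff compat (w := [1]) (by simp) i.2
    rw [← a1, ← a2, e1, e10, ← hc]
    constructor
    · rintro ⟨_, h⟩
      refine ⟨i.2, ?_⟩
      have h' : phi (y * x 1 * y) (phi y i) = phi y i := h
      rw [map_mul, map_mul, Equiv.Perm.mul_apply, Equiv.Perm.mul_apply] at h'
      have h'' : phi y (phi y i) = i := by
        rw [← Equiv.Perm.mul_apply, ← map_mul, hy2, map_one, Equiv.Perm.one_apply]
      rw [h''] at h'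
      exact Equiv.injective _ h'
    · rintro ⟨_, h⟩
      refine ⟨(phi y i).2, ?_⟩
      show phi (y * x 1 * y) (phi y i) = phi y i
      have h' : phi (x 1) i = i := h
      rw [map_mul, map_mul, Equiv.Perm.mul_apply, Equiv.Perm.mul_apply]
      have h'' : phi y (phi y i) = i := by
        rw [← Equiv.Perm.mul_apply, ← map_mul, hy2, map_one, Equiv.Perm.one_apply]
      rw [h'', h']
  have k10 : ∀ i : Fin 31671, (tr H8.Fi23A.L [1] (phi y i) = phi y i ↔ tr H8.Fi23A.L [10] i = i) := by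
    intro i
    have h'' : phi y (phi y i) = i := by
      rw [← Equiv.Perm.mul_apply, ← map_mul, hy2, map_one, Equiv.Perm.one_apply]
    have := k1 (phi y i)
    rw [h''] at this
    exact this.symm
  have hp : ∀ i : Fin 31671, (∀ c ∈ C0, (tr H8.Fi23A.L c.1 i = i ↔ c.2 = true)) →
      (∀ c ∈ C0, (tr H8.Fi23A.L c.1 (phi y i) = phi y i ↔ c.2 = true)) := by
    intro i hi c hcc
    have i1 := hi ([1], true) (by simp [C0])
    have i10 := hi ([10], true) (by simp [C0])
    have iX := hi (X, false) (by simp [C0])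
    unfold C0 at hcc
    simp only [List.mem_cons, List.not_mem_nil, or_false] at hcc
    rcases hcc with rfl | rfl | rfl
    · exact (k10 i).trans i10
    · exact (k1 i).trans i1
    · rw [fix_of_comm compat (dat.lt16 Xok) hyX i]; exact iX
  obtain ⟨hs, hb, hh⟩ := U0 hy2 hyX hp
  have h6 := (patEq_iff dat.hs dat.hn at_s (phi y ⟨1826, by decide⟩).2).2 (by
    intro c hcc
    rw [List.mem_append] at hcc
    rcases hcc with hcc | hcc
    · obtain ⟨h7, h8⟩ := bitsC_mem hcc
      rw [fix_of_comm compat (hb _ h7).2 (hb _ h7).1 ⟨1826, by decide⟩]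
      exact h8
    · simp only [List.mem_cons, List.not_mem_nil, or_false] at hcc
      rcases hcc with rfl | rfl
      · rw [k10]
        have : tr H8.Fi23A.L [10] 1826 = 1826 := by decide +kernel
        simpa using this
      · rw [k1]
        have : tr H8.Fi23A.L [1] 1826 ≠ 1826 := by rw [t2102]; decide
        simpa using this)
  simp at h6

theorem U {y : Fi23} (hy2 : y * y = 1) (hyX : y * ev x X = ev x X * y) : y = 1 ∨ y = x 1 ∨ y = x 10 ∨ y = x 1 * x 10 := by
  rcases fix2 hyX with h | h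
  · have h1 : y * x 10 = x 10 * y := (cc10.iff y).1 ⟨by decide, Fin.ext h⟩
    have h2 : y * x 1 = x 1 * y := by
      rw [← cc1.iff]
      rcases fix2' hyX with h3 | h3
      · exfalso
        have h4 : phi y ⟨2400, by decide⟩ = phi y ⟨1828, by decide⟩ := Fin.ext (h3.trans h.symm)
        have h5 := Equiv.injective _ h4
        rw [Fin.mk.injEq] at h5
        omega
      · exact ⟨by decide, Fin.ext h3⟩
    exact U1 hy2 hyX h2 h1
  · exact (U2 hy2 hyX h).elim

theorem commX1 : x 1 * ev x X = ev x X * x 1 := by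
  have h : FX phi (ev x X) 2400 := by
    rw [FX_iff compat (dat.lt16 Xok) (by decide)]
    decide +kernel
  exact ((cc1.iff _).1 h).symm

theorem commX10 : x 10 * ev x X = ev x X * x 10 := by
  have h : FX phi (ev x X) 1828 := by
    rw [FX_iff compat (dat.lt16 Xok) (by decide)]
    decide +kernel
  exact ((cc10.iff _).1 h).symm

theorem finG : Finite Fi23 := Nat.finite_of_card_ne_zero (by rw [main.1]; decide)

theorem x1_ne_x10 : x 1 ≠ x 10 := by
  have h := H26.Sp.ev_ne compat (u := [1]) (w := [10]) (by simp) (by simp) 1826 (by decide) (by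
    rw [t2102]
    have : tr H8.Fi23A.L [10] 1826 = 1826 := by decide +kernel
    rw [this]; decide)
  rw [e1, e10] at h
  exact h

theorem aut_letters (α : MulAut Fi23) : ∀ j, 1 ≤ j → j ≤ 10 → ∃ g, α (x j) = g * x j * g⁻¹ := by
  haveI := finG
  haveI : Fact (Nat.Prime 11) := ⟨by norm_num⟩
  obtain ⟨c, hc⟩ := aut_sylow (p := 11) (by rw [main.1]; norm_num) ordX α
  have sqc : ∀ s, 1 ≤ s → s ≤ 10 → c * α (x s) * c⁻¹ * (c * α (x s) * c⁻¹) = 1 := by
    intro s h1 h2
    have : α (x s) * α (x s) = 1 := by rw [← map_mul, sqq s h1 h2, map_one]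
    calc c * α (x s) * c⁻¹ * (c * α (x s) * c⁻¹) = c * (α (x s) * α (x s)) * c⁻¹ := by group
      _ = 1 := by rw [this]; group
  have nec : ∀ s, x s ≠ 1 → c * α (x s) * c⁻¹ ≠ 1 := by
    intro s h1 h2
    have h4 : α (x s) = 1 := by
      have : α (x s) = c⁻¹ * (c * α (x s) * c⁻¹) * c := by group
      rw [this, h2]; group
    exact h1 (α.injective (by rw [h4, map_one]))
  have x10ne : x 10 ≠ 1 := by
    intro h
    have := conj1 10 (by decide) (by decide)
    rw [h, isConj_one_left] at this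
    exact x_ne this
  have fin : ∀ s, 1 ≤ s → s ≤ 10 → (c * α (x s) * c⁻¹ = x 1 ∨ c * α (x s) * c⁻¹ = x 10) → IsConj (x 1) (α (x s)) := by
    intro s h1 h2 h3
    rcases h3 with h3 | h3
    · exact (isConj_iff.2 ⟨c, h3⟩ : IsConj (α (x s)) (x 1)).symm
    · exact (conj1 10 (by decide) (by decide)).trans (isConj_iff.2 ⟨c, h3⟩ : IsConj (α (x s)) (x 10)).symm
  rcases U (sqc 1 (by decide) (by decide)) (hc (x 1) commX1) with h | h | h | h
  · exact absurd h (nec 1 x_ne)
  · exact conj_letters conj1 (s := 1) (by decide) (by decide) (fin 1 (by decide) (by decide) (Or.inl h))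
  · exact conj_letters conj1 (s := 1) (by decide) (by decide) (fin 1 (by decide) (by decide) (Or.inr h))
  · rcases U (sqc 10 (by decide) (by decide)) (hc (x 10) commX10) with h' | h' | h' | h'
    · exact absurd h' (nec 10 x10ne)
    · exact conj_letters conj1 (s := 10) (by decide) (by decide) (fin 10 (by decide) (by decide) (Or.inl h'))
    · exact conj_letters conj1 (s := 10) (by decide) (by decide) (fin 10 (by decide) (by decide) (Or.inr h'))
    · exfalso
      apply x1_ne_x10
      apply α.injective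
      have h5 : c * α (x 1) * c⁻¹ = c * α (x 10) * c⁻¹ := h.trans h'.symm
      exact mul_left_cancel (mul_right_cancel h5)

theorem card_aut_le : Nat.card (MulAut Fi23) ≤ 31671 * (28160 * (351 * (224 * (82 * (32 * (12 * (3 * (1 * (1 * 1))))))))) := by
  haveI := finG
  have h1 := dat.level aut_letters (l := []) (b := 8) (by decide) (by decide) (by simp) lv8
  have h2 := dat.level aut_letters (l := [x 8]) (b := 7) (by decide) (by decide) (by simp) lv7
  have h3 := dat.level aut_letters (l := [x 7, x 8]) (b := 9) (by decide) (by decide) (by simp) lv9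
  have h4 := dat.level aut_letters (l := [x 9, x 7, x 8]) (b := 4) (by decide) (by decide) (by simp) lv4
  have h5 := dat.level aut_letters (l := [x 4, x 9, x 7, x 8]) (b := 3) (by decide) (by decide) (by simp) lv3
  have h6 := dat.level aut_letters (l := [x 3, x 4, x 9, x 7, x 8]) (b := 5) (by decide) (by decide) (by simp) lv5
  have h7 := dat.level aut_letters (l := [x 5, x 3, x 4, x 9, x 7, x 8]) (b := 2) (by decide) (by decide) (by simp) lv2
  have h8 := dat.level aut_letters (l := [x 2, x 5, x 3, x 4, x 9, x 7, x 8]) (b := 6) (by decide) (by decide) (by simp) lv6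
  have h9 := dat.level aut_letters (l := [x 6, x 2, x 5, x 3, x 4, x 9, x 7, x 8]) (b := 1) (by decide) (by decide) (by simp) lv1
  have h9' := dat.level aut_letters (l := [x 1, x 6, x 2, x 5, x 3, x 4, x 9, x 7, x 8]) (b := 10) (by decide) (by decide) (by simp) lv10
  have h10 := stabs_gen (G := Fi23) (l := [x 10, x 1, x 6, x 2, x 5, x 3, x 4, x 9, x 7, x 8]) (by
    rw [eq_top_iff, ← gen, Subgroup.closure_le]
    rintro _ ⟨j, hj1, hj2, rfl⟩
    apply Subgroup.subset_closure
    obtain rfl | rfl | rfl | rfl | rfl | rfl | rfl | rfl | rfl | rfl : j = 1 ∨ j = 2 ∨ j = 3 ∨ j = 4 ∨ j = 5 ∨ j = 6 ∨ j = 7 ∨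
      j = 8 ∨ j = 9 ∨ j = 10 := by omega
    all_goals simp)
  have h11 : Nat.card (stabs (MulAut.toPerm Fi23) []) = Nat.card (MulAut Fi23) := Subgroup.card_top
  rw [h11] at h1
  rw [h10] at h9'
  exact h1.trans (Nat.mul_le_mul_left _ (h2.trans (Nat.mul_le_mul_left _ (h3.trans (Nat.mul_le_mul_left _ (h4.trans
    (Nat.mul_le_mul_left _ (h5.trans (Nat.mul_le_mul_left _ (h6.trans (Nat.mul_le_mul_left _ (h7.trans
    (Nat.mul_le_mul_left _ (h8.trans (Nat.mul_le_mul_left _ (h9.trans (Nat.mul_le_mul_left _ h9')))))))))))))))))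

theorem card_out : Nat.card (Cfsg.Out Fi23) = 1 := by
  haveI := finG
  haveI : Finite (MulAut Fi23) := Finite.of_injective (fun α : MulAut Fi23 => (α : Fi23 → Fi23)) DFunLike.coe_injective
  have h0 : 0 < Nat.card (Cfsg.Out Fi23) := Nat.card_pos
  have h1 := card_aut_le
  rw [card_aut_eq center, main.1] at h1
  by_contra h2
  have h3 : 4089470473293004800 * 2 ≤ 4089470473293004800 * Nat.card (Cfsg.Out Fi23) := Nat.mul_le_mul_left _ (by omega)
  have h4 := h3.trans h1
  revert h4
  norm_num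

end Cfsg.Agent.H28.O3
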