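import Cfsg.Agent.H26_Sp2
import Cfsg.Prelude.Def_KGroupFacts

/-!
Automorphisms of a 3-transposition group given by networks.
-/

set_option autoImplicit false

namespace Cfsg.Agent.H28.OA

open Cfsg H8.CE H8.Net H8.Act H8.Act2

/-! ### Masks -/

section masks
variable {L : List Nt} {n k : ℕ}

/-- points fixed by a word -/
noncomputable def fxK (L : List Nt) (n k : ℕ) (w : List ℕ) (j : ℕ) : ℕ → (ℕ → Bool) → Bool :=
  Nat.rec (motive := fun _ => ℕ → (ℕ → Bool) → Bool) (fun acc K => K acc)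
    (fun b ih acc K => runL (nw L w) (lab n k b) fun v =>
      N (Nat.land acc (Nat.xor (ones n) (Nat.xor (lab n k b) v))) fun acc' => ih acc' K) j

noncomputable def fxV (L : List Nt) (n k : ℕ) (w : List ℕ) : ℕ → ℕ → ℕ
  | 0, acc => acc
  | b + 1, acc => fxV L n k w b (Nat.land acc (Nat.xor (ones n) (Nat.xor (lab n k b) (apL (nw L w) (lab n k b)))))

theorem fxK_eq (w : List ℕ) : ∀ (j acc : ℕ) (K : ℕ → Bool), fxK L n k w j acc K = K (fxV L n k w j acc)
  | 0, acc, K => rfl
  | b + 1, acc, K => by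
    show runL (nw L w) (lab n k b) (fun v =>
      N (Nat.land acc (Nat.xor (ones n) (Nat.xor (lab n k b) v))) fun acc' => fxK L n k w b acc' K) = _
    rw [runL_eq, N_eq, fxK_eq w b]; rfl

theorem fxV_testBit (hs : sysOk L n = true) (hn : n ≤ 2 ^ k) (w : List ℕ) : ∀ (j acc i : ℕ), i < n →
    ((fxV L n k w j acc).testBit i = true ↔ acc.testBit i = true ∧ ∀ b < j, i.testBit b = (tr L w i).testBit b)
  | 0, acc, i, hi => by simp [fxV]
  | b + 1, acc, i, hi => by
    rw [fxV, fxV_testBit hs hn w b _ i hi]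
    have e : (Nat.land acc (Nat.xor (ones n) (Nat.xor (lab n k b) (apL (nw L w) (lab n k b))))).testBit i =
        (acc.testBit i && ((ones n).testBit i ^^ ((lab n k b).testBit i ^^ (apL (nw L w) (lab n k b)).testBit i))) := by
      show (acc &&& (ones n ^^^ (lab n k b ^^^ apL (nw L w) (lab n k b)))).testBit i = _
      rw [Nat.testBit_and, Nat.testBit_xor, Nat.testBit_xor]
    rw [e, ones_testBit, lab_testBit hn, apL_testBit _ (nw_ok hs w), posL_nw, lab_testBit hn]
    have h1 : tr L w i < n := (tr_lt hs w i).2 hi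
    simp only [hi, h1, decide_true, Bool.true_and]
    constructor
    · rintro ⟨h2, h3⟩
      rw [Bool.and_eq_true] at h2
      refine ⟨h2.1, fun c hc => ?_⟩
      rcases Nat.lt_succ_iff_lt_or_eq.1 hc with h | rfl
      · exact h3 c h
      · have := h2.2
        revert this
        cases i.testBit c <;> cases (tr L w i).testBit c <;> simp
    · rintro ⟨h2, h3⟩
      refine ⟨?_, fun c hc => h3 c (by omega)⟩
      rw [Bool.and_eq_true]
      refine ⟨h2, ?_⟩
      rw [h3 b (by omega)]
      cases (tr L w i).testBit b <;> rfl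

theorem fx_iff (hs : sysOk L n = true) (hn : n ≤ 2 ^ k) (w : List ℕ) {acc i : ℕ} (hi : i < n) :
    (fxV L n k w k acc).testBit i = true ↔ acc.testBit i = true ∧ tr L w i = i := by
  rw [fxV_testBit hs hn w k acc i hi]
  constructor
  · rintro ⟨h1, h2⟩
    refine ⟨h1, ?_⟩
    apply Nat.eq_of_testBit_eq
    intro b
    by_cases hb : b < k
    · exact (h2 b hb).symm
    · have h3 : i < 2 ^ b := lt_of_lt_of_le (lt_of_lt_of_le hi hn) (Nat.pow_le_pow_right (by norm_num) (not_lt.1 hb))
      have h4 : tr L w i < 2 ^ b :=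
        lt_of_lt_of_le (lt_of_lt_of_le ((tr_lt hs w i).2 hi) hn) (Nat.pow_le_pow_right (by norm_num) (not_lt.1 hb))
      rw [Nat.testBit_lt_two_pow h3, Nat.testBit_lt_two_pow h4]
  · rintro ⟨h1, h2⟩
    exact ⟨h1, fun b _ => by rw [h2]⟩

/-- points with a given pattern -/
noncomputable def patK (L : List Nt) (n k : ℕ) (C : List (List ℕ × Bool)) : ℕ → (ℕ → Bool) → Bool :=
  List.rec (motive := fun _ => ℕ → (ℕ → Bool) → Bool) (fun acc K => K acc)
    (fun c _ ih acc K => fxK L n k c.1 k (ones n) fun f =>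
      Bool.rec (N (Nat.land acc (Nat.xor (ones n) f)) fun a => ih a K) (N (Nat.land acc f) fun a => ih a K) c.2) C

noncomputable def patV (L : List Nt) (n k : ℕ) : List (List ℕ × Bool) → ℕ → ℕ
  | [], acc => acc
  | c :: C, acc => patV L n k C (bif c.2 then Nat.land acc (fxV L n k c.1 k (ones n)) else
      Nat.land acc (Nat.xor (ones n) (fxV L n k c.1 k (ones n))))

theorem patK_eq : ∀ (C : List (List ℕ × Bool)) (acc : ℕ) (K : ℕ → Bool), patK L n k C acc K = K (patV L n k C acc)
  | [], acc, K => rfl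
  | (w, b) :: C, acc, K => by
    have e : patK L n k ((w, b) :: C) acc K = fxK L n k w k (ones n) fun f =>
      Bool.rec (N (Nat.land acc (Nat.xor (ones n) f)) fun a => patK L n k C a K)
        (N (Nat.land acc f) fun a => patK L n k C a K) b := rfl
    rw [e, fxK_eq]
    cases b
    · show N _ _ = _
      rw [N_eq, patK_eq C]; rfl
    · show N _ _ = _
      rw [N_eq, patK_eq C]; rfl

theorem patV_iff (hs : sysOk L n = true) (hn : n ≤ 2 ^ k) : ∀ (C : List (List ℕ × Bool)) (acc i : ℕ), i < n →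
    ((patV L n k C acc).testBit i = true ↔ acc.testBit i = true ∧ ∀ c ∈ C, (tr L c.1 i = i ↔ c.2 = true))
  | [], acc, i, hi => by simp [patV]
  | (w, b) :: C, acc, i, hi => by
    rw [patV, patV_iff hs hn C _ i hi]
    have h1 : (ones n).testBit i = true := by rw [ones_testBit]; simpa using hi
    have h2 := fx_iff hs hn w (acc := ones n) hi
    rw [h1] at h2
    simp only [true_and] at h2
    rw [List.forall_mem_cons]
    cases b
    · have e : (Nat.land acc (Nat.xor (ones n) (fxV L n k w k (ones n)))).testBit i =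
          (acc.testBit i && (true ^^ (fxV L n k w k (ones n)).testBit i)) := by
        show (acc &&& (ones n ^^^ fxV L n k w k (ones n))).testBit i = _
        rw [Nat.testBit_and, Nat.testBit_xor, h1]
      simp only [cond_false]
      rw [e, Bool.and_eq_true, and_assoc]
      apply and_congr_right
      intro _
      apply and_congr_left
      intro _
      simp only [Bool.true_xor, Bool.not_eq_true', Bool.false_eq_true, iff_false]
      rw [← h2]
      cases (fxV L n k w k (ones n)).testBit i <;> simp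
    · have e : (Nat.land acc (fxV L n k w k (ones n))).testBit i = (acc.testBit i && (fxV L n k w k (ones n)).testBit i) := by
        show (acc &&& (fxV L n k w k (ones n))).testBit i = _
        rw [Nat.testBit_and]
      simp only [cond_true]
      rw [e, Bool.and_eq_true, and_assoc]
      apply and_congr_right
      intro _
      apply and_congr_left
      intro _
      simp only [iff_true]
      exact h2

theorem patV_lt (C : List (List ℕ × Bool)) : ∀ (acc i : ℕ), (patV L n k C acc).testBit i = true → acc.testBit i = true := by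
  induction C with
  | nil => intro acc i h; exact h
  | cons c C ih =>
    intro acc i h
    rw [patV] at h
    have h1 := ih _ i h
    cases hb : c.2
    · rw [hb] at h1
      have h2 : (acc &&& (ones n ^^^ fxV L n k c.1 k (ones n))).testBit i = true := h1
      rw [Nat.testBit_and, Bool.and_eq_true] at h2
      exact h2.1
    · rw [hb] at h1
      have h2 : (acc &&& (fxV L n k c.1 k (ones n))).testBit i = true := h1
      rw [Nat.testBit_and, Bool.and_eq_true] at h2
      exact h2.1

/-- the pattern set is the given mask -/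
noncomputable def patEq (L : List Nt) (n k : ℕ) (C : List (List ℕ × Bool)) (m : ℕ) : Bool :=
  patK L n k C (ones n) fun a => Nat.beq a m

theorem patEq_iff (hs : sysOk L n = true) (hn : n ≤ 2 ^ k) {C : List (List ℕ × Bool)} {m : ℕ} (h : patEq L n k C m = true) {i : ℕ}
    (hi : i < n) : (m.testBit i = true ↔ ∀ c ∈ C, (tr L c.1 i = i ↔ c.2 = true)) := by
  unfold patEq at h
  rw [patK_eq] at h
  have e := Nat.eq_of_beq_eq_true h
  rw [← e, patV_iff hs hn C _ i hi, ones_testBit]
  simp [hi]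

/-- the pattern set has the given size -/
noncomputable def patN (L : List Nt) (n k : ℕ) (C : List (List ℕ × Bool)) (m : ℕ) : Bool :=
  patK L n k C (ones n) fun a => Nat.beq (pc k a) m

theorem patN_card (hs : sysOk L n = true) (hn : n ≤ 2 ^ k) {C : List (List ℕ × Bool)} {m : ℕ} (h : patN L n k C m = true) :
    ((Finset.range n).filter fun i => ∀ c ∈ C, (tr L c.1 i = i ↔ c.2 = true)).card = m := by
  unfold patN at h
  rw [patK_eq] at h
  rw [← Nat.eq_of_beq_eq_true h, pc_eq]
  congr 1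
  ext i
  rw [Finset.mem_filter, Finset.mem_filter, Finset.mem_range, Finset.mem_range]
  constructor
  · rintro ⟨hi, h2⟩
    refine ⟨lt_of_lt_of_le hi hn, ?_⟩
    rw [patV_iff hs hn C _ i hi, ones_testBit]
    exact ⟨by simpa using hi, h2⟩
  · rintro ⟨hi, h2⟩
    have h3 := patV_lt C _ i h2
    rw [ones_testBit] at h3
    have hi' : i < n := by simpa using h3
    refine ⟨hi', ?_⟩
    rw [patV_iff hs hn C _ i hi'] at h2
    exact h2.2

/-! ### Closures -/

noncomputable def rndW (L : List Nt) (us : List (List ℕ)) : ℕ → (ℕ → Bool) → Bool :=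
  List.rec (motive := fun _ => ℕ → (ℕ → Bool) → Bool) (fun S K => K S)
    (fun w _ ih S K => runL (nw L w) S fun v => N (Nat.lor S v) fun S' => ih S' K) us

noncomputable def bfsW (L : List Nt) (us : List (List ℕ)) (r : ℕ) : ℕ → (ℕ → Bool) → Bool :=
  Nat.rec (motive := fun _ => ℕ → (ℕ → Bool) → Bool) (fun S K => K S)
    (fun _ ih S K => rndW L us S fun S' => ih S' K) r

theorem rndW_sound (hs : sysOk L n = true) {P : ℕ → Prop} : ∀ {us : List (List ℕ)},
    (∀ w ∈ us, ∀ i, P (tr L w i) → P i) → ∀ (S : ℕ) (K : ℕ → Bool), (∀ i, S.testBit i = true → P i) →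
    rndW L us S K = true → ∃ S', (∀ i, S'.testBit i = true → P i) ∧ K S' = true
  | [], _, S, K, hS, h => ⟨S, hS, h⟩
  | w :: us, hP, S, K, hS, h => by
    have e : rndW L (w :: us) S K = runL (nw L w) S fun v => N (Nat.lor S v) fun S' => rndW L us S' K := rfl
    rw [e, runL_eq, N_eq] at h
    refine rndW_sound hs (fun u hu => hP u (by simp [hu])) _ K ?_ h
    intro i hi
    have h2 : (S ||| apL (nw L w) S).testBit i = true := hi
    rw [Nat.testBit_or, apL_testBit _ (nw_ok hs w), posL_nw, Bool.or_eq_true] at h2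
    rcases h2 with h2 | h2
    · exact hS i h2
    · exact hP w (by simp) i (hS _ h2)

theorem bfsW_sound (hs : sysOk L n = true) {P : ℕ → Prop} {us : List (List ℕ)}
    (hP : ∀ w ∈ us, ∀ i, P (tr L w i) → P i) : ∀ (r S : ℕ) (K : ℕ → Bool), (∀ i, S.testBit i = true → P i) →
    bfsW L us r S K = true → ∃ S', (∀ i, S'.testBit i = true → P i) ∧ K S' = true
  | 0, S, K, hS, h => ⟨S, hS, h⟩
  | r + 1, S, K, hS, h => by
    have e : bfsW L us (r + 1) S K = rndW L us S fun S' => bfsW L us r S' K := rfl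
    rw [e] at h
    obtain ⟨S', hS', h2⟩ := rndW_sound hs hP S _ hS h
    exact bfsW_sound hs hP r S' K hS' h2

/-- the closure of `S` contains `T` -/
noncomputable def cloB (L : List Nt) (us : List (List ℕ)) (r S T : ℕ) : Bool := bfsW L us r S fun S' => Nat.beq (Nat.land S' T) T

theorem cloB_sound (hs : sysOk L n = true) {P : ℕ → Prop} {us : List (List ℕ)}
    (hP : ∀ w ∈ us, ∀ i, P (tr L w i) → P i) {r S T : ℕ} (hS : ∀ i, S.testBit i = true → P i)
    (h : cloB L us r S T = true) : ∀ i, T.testBit i = true → P i := by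
  obtain ⟨S', h1, h2⟩ := bfsW_sound hs hP r S _ hS h
  intro i hi
  apply h1
  have h3 : S' &&& T = T := Nat.eq_of_beq_eq_true h2
  have h4 : (S' &&& T).testBit i = true := by rw [h3]; exact hi
  rw [Nat.testBit_and, Bool.and_eq_true] at h4
  exact h4.1

end masks

/-! ### Points and transpositions -/

section pts
variable {G : Type*} [Group G] {n k : ℕ} {φ : G →* Equiv.Perm (Fin n)} {x : ℕ → G} {L : List Nt}

/-- the stabilizer of the point is the centralizer -/
def CC (φ : G →* Equiv.Perm (Fin n)) (t : G) (i : ℕ) : Prop :=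
  ∃ hi : i < n, ∀ g, φ g ⟨i, hi⟩ = ⟨i, hi⟩ ↔ g * t = t * g

/-- fixed points -/
def FX (φ : G →* Equiv.Perm (Fin n)) (g : G) (i : ℕ) : Prop := ∃ hi : i < n, φ g ⟨i, hi⟩ = ⟨i, hi⟩

theorem CC.iff {t : G} {i : ℕ} (h : CC φ t i) (g : G) : FX φ g i ↔ g * t = t * g := by
  obtain ⟨hi, h⟩ := h
  rw [← h g]
  exact ⟨fun ⟨_, h⟩ => h, fun h => ⟨hi, h⟩⟩

theorem CC.act {t : G} {i : ℕ} (h : CC φ t i) (c : G) {j : Fin n} (hj : φ c ⟨i, h.1⟩ = j) : CC φ (c * t * c⁻¹) j := by
  obtain ⟨hi, h⟩ := h
  refine ⟨j.2, fun g => ?_⟩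
  have e : (⟨(j : ℕ), j.2⟩ : Fin n) = j := rfl
  rw [e, ← hj]
  have h1 : φ g (φ c ⟨i, hi⟩) = φ c ⟨i, hi⟩ ↔ φ (c⁻¹ * g * c) ⟨i, hi⟩ = ⟨i, hi⟩ := by
    rw [map_mul, map_mul, map_inv, Equiv.Perm.mul_apply, Equiv.Perm.mul_apply, Equiv.Perm.inv_eq_iff_eq]
  rw [h1, h]
  constructor
  · intro h2
    have h3 : c * (c⁻¹ * g * c * t) * c⁻¹ = c * (t * (c⁻¹ * g * c)) * c⁻¹ := by rw [h2]
    calc g * (c * t * c⁻¹) = c * (c⁻¹ * g * c * t) * c⁻¹ := by group
      _ = c * (t * (c⁻¹ * g * c)) * c⁻¹ := h3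
      _ = c * t * c⁻¹ * g := by group
  · intro h2
    calc c⁻¹ * g * c * t = c⁻¹ * (g * (c * t * c⁻¹)) * c := by group
      _ = c⁻¹ * (c * t * c⁻¹ * g) * c := by rw [h2]
      _ = t * (c⁻¹ * g * c) := by group

theorem CC.evw (hc : Compat φ x L) {t : G} {i : ℕ} (h : CC φ t i) {w : List ℕ} (hw : ∀ y ∈ w, y < 16) :
    CC φ ((ev x w)⁻¹ * t * ev x w) (tr L w i) := by
  have h1 := compat_ev hc w hw ⟨i, h.1⟩
  have h2 := h.act (ev x w)⁻¹ (j := φ (ev x w)⁻¹ ⟨i, h.1⟩) rfl
  rw [map_inv, h1, inv_inv] at h2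
  exact h2

/-- a braid step -/
theorem CC.step (hc : Compat φ x L) {u v i j : ℕ} (h : CC φ (x u) i) (hu : u < 16) (hv : v < 16) (su : x u * x u = 1)
    (sv : x v * x v = 1) (hb : (x u * x v) ^ 3 = 1) (hj : tr L [v, u] i = j) : CC φ (x v) j := by
  have h1 := h.evw hc (w := [v, u]) (by
    intro y hy
    simp only [List.mem_cons, List.not_mem_nil, or_false] at hy
    rcases hy with rfl | rfl
    · exact hv
    · exact hu)
  rw [hj] at h1
  have iu : (x u)⁻¹ = x u := inv_eq_of_mul_eq_one_left su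
  have iv : (x v)⁻¹ = x v := inv_eq_of_mul_eq_one_left sv
  have e : (H8.CE.ev x [v, u])⁻¹ * x u * H8.CE.ev x [v, u] = x v := by
    rw [ev_cons, ev_cons, ev_nil, mul_one, mul_inv_rev, iu, iv]
    have h3 : x u * x v * x u * x v * x u * x v = 1 := by
      rw [← hb]; simp only [pow_succ, pow_zero, one_mul, mul_assoc]
    have h4 : x u * x v * x u * x v * x u = x v := by
      rw [mul_eq_one_iff_eq_inv] at h3; rw [h3, iv]
    calc x u * x v * x u * (x v * x u) = x u * x v * x u * x v * x u := by simp only [mul_assoc]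
      _ = x v := h4
  rw [e] at h1
  exact h1

theorem FX.tr_iff (hc : Compat φ x L) {g : G} {w : List ℕ} (hw : ∀ y ∈ w, y < 16) (hg : g * ev x w = ev x w * g)
    (hs : sysOk L n = true) {i : ℕ} : FX φ g (tr L w i) ↔ FX φ g i := by
  by_cases hi : i < n
  · have hlt : tr L w i < n := (tr_lt hs w i).2 hi
    have h1 := compat_ev hc w hw ⟨i, hi⟩
    have h2 : (φ (ev x w))⁻¹ ⟨i, hi⟩ = ⟨tr L w i, hlt⟩ := Fin.ext h1
    have h3 : φ g * (φ (ev x w))⁻¹ = (φ (ev x w))⁻¹ * φ g := by
      rw [← map_inv, ← map_mul, ← map_mul]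
      congr 1
      rw [eq_inv_mul_iff_mul_eq, ← mul_assoc, ← hg]; group
    constructor
    · rintro ⟨_, h⟩
      refine ⟨hi, ?_⟩
      rw [← h2, ← Equiv.Perm.mul_apply, h3, Equiv.Perm.mul_apply] at h
      exact Equiv.injective _ h
    · rintro ⟨_, h⟩
      refine ⟨hlt, ?_⟩
      rw [← h2, ← Equiv.Perm.mul_apply, h3, Equiv.Perm.mul_apply, h]
  · constructor
    · rintro ⟨h, _⟩; exact absurd ((tr_lt hs w i).1 h) hi
    · rintro ⟨h, _⟩; exact absurd h hi

/-- an element commuting with the word preserves its fixed points -/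
theorem fix_of_comm (hc : Compat φ x L) {g : G} {w : List ℕ} (hw : ∀ y ∈ w, y < 16) (hg : g * ev x w = ev x w * g) (i : Fin n) :
    tr L w (φ g i) = φ g i ↔ tr L w i = i := by
  have h3 : φ g * (φ (ev x w))⁻¹ = (φ (ev x w))⁻¹ * φ g := by
    rw [← map_inv, ← map_mul, ← map_mul]
    congr 1
    rw [eq_inv_mul_iff_mul_eq, ← mul_assoc, ← hg]; group
  rw [← compat_ev hc w hw, ← compat_ev hc w hw, ← Equiv.Perm.mul_apply, ← h3, Equiv.Perm.mul_apply]
  constructor
  · intro h
    have := Fin.ext h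
    rw [Equiv.injective _ this]
  · intro h
    have : (φ (ev x w))⁻¹ i = i := Fin.ext h
    rw [this]

theorem odd_fixed {S : Finset (Fin n)} {f : Equiv.Perm (Fin n)} (hodd : S.card % 2 = 1) (hf : ∀ i ∈ S, f i ∈ S)
    (h2 : ∀ i, f (f i) = i) : ∃ i ∈ S, f i = i := by
  by_contra hne
  push Not at hne
  have h : ∑ _i ∈ S, (1 : ZMod 2) = 0 := by
    refine Finset.sum_involution (fun a _ => f a) ?_ ?_ ?_ ?_
    · intro a _; decide
    · intro a ha _; exact hne a ha
    · intro a ha; exact hf a ha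
    · intro a _; exact h2 a
  rw [Finset.sum_const, nsmul_eq_mul, mul_one] at h
  have h3 := (ZMod.natCast_eq_zero_iff _ _).1 h
  omega

end pts

/-! ### Counting automorphisms -/

section count

theorem card_level_le {A : Type*} [Group A] [Finite A] {X : Type*} (φ : A →* Equiv.Perm X) (l : List X) (b : X)
    (F : Finset ℕ) (f : A → ℕ) (hF : ∀ g ∈ stabs φ l, f g ∈ F)
    (hf : ∀ g ∈ stabs φ l, ∀ g' ∈ stabs φ l, f g = f g' → φ g b = φ g' b) :
    Nat.card (stabs φ l) ≤ F.card * Nat.card (stabs φ (b :: l)) := by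
  classical
  let rep : ℕ → A := fun m => if h : ∃ g ∈ stabs φ l, f g = m then h.choose else 1
  have hrep : ∀ g ∈ stabs φ l, rep (f g) ∈ stabs φ l ∧ f (rep (f g)) = f g := by
    intro g hg
    have h : ∃ g' ∈ stabs φ l, f g' = f g := ⟨g, hg, rfl⟩
    have e : rep (f g) = h.choose := dif_pos h
    rw [e]
    exact h.choose_spec
  let F' : stabs φ l → {m // m ∈ F} × stabs φ (b :: l) := fun g =>
    ⟨⟨f g, hF g g.2⟩, ⟨(rep (f g))⁻¹ * g, by
      obtain ⟨h1, h2⟩ := hrep g g.2
      rw [stabs, Subgroup.mem_inf]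
      refine ⟨Subgroup.mul_mem _ (Subgroup.inv_mem _ h1) g.2, ?_⟩
      rw [Subgroup.mem_comap, MulAction.mem_stabilizer_iff, Equiv.Perm.smul_def, map_mul, map_inv, Equiv.Perm.mul_apply,
        Equiv.Perm.inv_eq_iff_eq]
      exact (hf _ h1 _ g.2 h2).symm⟩⟩
  have hinj : Function.Injective F' := by
    intro g g' h
    have h1 : f g = f g' := congrArg (fun z => (z.1 : ℕ)) h
    have h2 : (rep (f g))⁻¹ * (g : A) = (rep (f g'))⁻¹ * (g' : A) := congrArg (fun z => ((z.2 : stabs φ (b :: l)) : A)) h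
    rw [h1] at h2
    exact Subtype.ext (mul_left_cancel h2)
  have h1 := Nat.card_le_card_of_injective F' hinj
  rw [Nat.card_prod, Nat.card_eq_fintype_card (α := {i // i ∈ F}), Fintype.card_coe] at h1
  exact h1

end count

end Cfsg.Agent.H28.OA
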