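import Cfsg.Agent.H28_OA
import Cfsg.Agent.H14_Out

/-!
Automorphisms of a 3-transposition group given by networks: closures and counting.
-/

set_option autoImplicit false

namespace Cfsg.Agent.H28.OA

open Cfsg H8.CE H8.Net H8.Act H8.Act2

section
variable {G : Type*} [Group G] {n k : ℕ} {φ : G →* Equiv.Perm (Fin n)} {x : ℕ → G} {L : List Nt}

theorem FX_iff (hc : Compat φ x L) {w : List ℕ} (hw : ∀ y ∈ w, y < 16) {i : ℕ} (hi : i < n) :
    FX φ (ev x w) i ↔ tr L w i = i := by
  have h1 := compat_ev hc w hw ⟨i, hi⟩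
  constructor
  · rintro ⟨_, h⟩
    rw [Equiv.Perm.inv_eq_iff_eq.2 h.symm] at h1
    exact h1.symm
  · intro h
    refine ⟨hi, ?_⟩
    rw [h] at h1
    have h2 : (φ (ev x w))⁻¹ ⟨i, hi⟩ = ⟨i, hi⟩ := Fin.ext h1
    rw [Equiv.Perm.inv_eq_iff_eq] at h2
    exact h2.symm

/-- the transposition of a point -/
def dwd (path : List ℕ) (s : ℕ) : List ℕ := path.reverse ++ (s :: path)

/-- letters -/
def lok (m : ℕ) (w : List ℕ) : Bool := w.all fun y => Nat.ble 1 y && Nat.ble y m

theorem lok_sound {m : ℕ} {w : List ℕ} (h : lok m w = true) : ∀ y ∈ w, 1 ≤ y ∧ y ≤ m := by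
  intro y hy
  unfold lok at h
  rw [List.all_eq_true] at h
  have := h y hy
  rw [Bool.and_eq_true] at this
  exact ⟨Nat.le_of_ble_eq_true this.1, Nat.le_of_ble_eq_true this.2⟩

/-- the set-up -/
structure Dat (φ : G →* Equiv.Perm (Fin n)) (x : ℕ → G) (L : List Nt) (k m : ℕ) (gp : ℕ → ℕ) : Prop where
  hs : sysOk L n = true
  hn : n ≤ 2 ^ k
  hc : Compat φ x L
  hm : m < 16
  sq : ∀ s, 1 ≤ s → s ≤ m → x s * x s = 1
  cc : ∀ s, 1 ≤ s → s ≤ m → CC φ (x s) (gp s)

variable {m : ℕ} {gp : ℕ → ℕ}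

theorem ev_rev {w : List ℕ} (h : ∀ y ∈ w, x y * x y = 1) : ev x w.reverse = (ev x w)⁻¹ := by
  induction w with
  | nil => simp
  | cons y w ih =>
    have iy : (x y)⁻¹ = x y := inv_eq_of_mul_eq_one_left (h y (by simp))
    rw [List.reverse_cons, ev_append, ev_cons, ev_cons, ev_nil, mul_one, mul_inv_rev, ih (fun z hz => h z (by simp [hz])), iy]

theorem Dat.lt16 (D : Dat φ x L k m gp) {w : List ℕ} (h : lok m w = true) : ∀ y ∈ w, y < 16 := fun y hy =>
  lt_of_le_of_lt (lok_sound h y hy).2 D.hm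

theorem Dat.cc_dwd (D : Dat φ x L k m gp) {path : List ℕ} {s : ℕ} (h : lok m (dwd path s) = true) :
    CC φ (ev x (dwd path s)) (tr L path (gp s)) := by
  have h1 := lok_sound h
  have hs := h1 s (by simp [dwd])
  have hp : ∀ y ∈ path, 1 ≤ y ∧ y ≤ m := fun y hy => h1 y (by simp [dwd, hy])
  have h2 := (D.cc s hs.1 hs.2).evw D.hc (w := path) (fun y hy => lt_of_le_of_lt (hp y hy).2 D.hm)
  have e : ev x (dwd path s) = (ev x path)⁻¹ * x s * ev x path := by
    rw [dwd, ev_append, ev_cons, ev_rev (fun y hy => D.sq y (hp y hy).1 (hp y hy).2), mul_assoc]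
  rw [e]
  exact h2

/-- commuting with the transposition of a fixed point -/
theorem Dat.comm (D : Dat φ x L k m gp) {path : List ℕ} {s : ℕ} (h : lok m (dwd path s) = true) {y : G} {q : ℕ}
    (hq : tr L path (gp s) = q) (hy : FX φ y q) : y * ev x (dwd path s) = ev x (dwd path s) * y := by
  have h1 := D.cc_dwd h
  rw [hq] at h1
  exact (h1.iff y).1 hy

/-- closure of a fixed point -/
theorem Dat.clo (D : Dat φ x L k m gp) {X : List ℕ} (hX : lok m X = true) {y : G} (hyX : y * ev x X = ev x X * y)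
    {path : List ℕ} {s q r T : ℕ} (h : lok m (dwd path s) = true) (hq : tr L path (gp s) = q)
    (hcl : cloB L [dwd path s, X] r (2 ^ q) T = true) (hy : FX φ y q) : ∀ i, T.testBit i = true → FX φ y i := by
  refine cloB_sound D.hs (P := FX φ y) ?_ ?_ hcl
  · intro w hw i hi
    simp only [List.mem_cons, List.not_mem_nil, or_false] at hw
    rcases hw with rfl | rfl
    · exact (FX.tr_iff D.hc (D.lt16 h) (D.comm h hq hy) D.hs).1 hi
    · exact (FX.tr_iff D.hc (D.lt16 hX) hyX D.hs).1 hi
  · intro i hi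
    rw [Nat.testBit_two_pow] at hi
    have : q = i := by simpa using hi
    rw [← this]; exact hy

/-- a check for a representative: (point, (letter, path)) -/
noncomputable def repB (L : List Nt) (m : ℕ) (gp : ℕ → ℕ) (X : List ℕ) (r T : ℕ) (c : ℕ × ℕ × List ℕ) : Bool :=
  Bool.rec false (Bool.rec false (N (Nat.pow 2 c.1) fun S => cloB L [dwd c.2.2 c.2.1, X] r S T)
    (Nat.beq (tr L c.2.2 (gp c.2.1)) c.1)) (lok m (dwd c.2.2 c.2.1))

theorem repB_iff {X : List ℕ} {r T : ℕ} {c : ℕ × ℕ × List ℕ} (h : repB L m gp X r T c = true) :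
    lok m (dwd c.2.2 c.2.1) = true ∧ tr L c.2.2 (gp c.2.1) = c.1 ∧ cloB L [dwd c.2.2 c.2.1, X] r (2 ^ c.1) T = true := by
  unfold repB at h
  cases h1 : lok m (dwd c.2.2 c.2.1)
  · rw [h1] at h; exact absurd h (by simp)
  · rw [h1] at h
    cases h2 : Nat.beq (tr L c.2.2 (gp c.2.1)) c.1
    · rw [h2] at h; exact absurd h (by simp)
    · rw [h2] at h
      refine ⟨rfl, Nat.eq_of_beq_eq_true h2, ?_⟩
      have h3 : (N (Nat.pow 2 c.1) fun S => cloB L [dwd c.2.2 c.2.1, X] r S T) = true := h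
      rw [N_eq] at h3
      exact h3

/-- check a list of representatives -/
noncomputable def repsB (L : List Nt) (m : ℕ) (gp : ℕ → ℕ) (X : List ℕ) (r T : ℕ) (l : List (ℕ × ℕ × List ℕ)) : Bool :=
  List.rec (motive := fun _ => Bool) true (fun c _ ih => Bool.rec false ih (repB L m gp X r T c)) l

theorem repsB_iff {X : List ℕ} {r T : ℕ} {l : List (ℕ × ℕ × List ℕ)} (h : repsB L m gp X r T l = true) :
    ∀ c ∈ l, repB L m gp X r T c = true := by
  induction l with
  | nil => simp
  | cons c l ih =>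
    have h1 : (Bool.rec false (repsB L m gp X r T l) (repB L m gp X r T c) : Bool) = true := h
    cases h2 : repB L m gp X r T c
    · rw [h2] at h1; exact absurd h1 (by simp)
    · rw [h2] at h1
      intro d hd
      rcases List.mem_cons.1 hd with rfl | hd
      · exact h2
      · exact ih h1 d hd

/-- the mask of a list of representatives -/
noncomputable def rmK (l : List (ℕ × ℕ × List ℕ)) : ℕ → (ℕ → Bool) → Bool :=
  List.rec (motive := fun _ => ℕ → (ℕ → Bool) → Bool) (fun acc K => K acc)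
    (fun c _ ih acc K => N (Nat.lor acc (Nat.pow 2 c.1)) fun a => ih a K) l

theorem rmK_sound {P : ℕ → Prop} : ∀ {l : List (ℕ × ℕ × List ℕ)}, (∀ c ∈ l, P c.1) → ∀ (acc : ℕ) (K : ℕ → Bool),
    (∀ i, acc.testBit i = true → P i) → rmK l acc K = true → ∃ a, (∀ i, a.testBit i = true → P i) ∧ K a = true
  | [], _, acc, K, ha, h => ⟨acc, ha, h⟩
  | c :: l, hP, acc, K, ha, h => by
    have e : rmK (c :: l) acc K = N (Nat.lor acc (Nat.pow 2 c.1)) fun a => rmK l a K := rfl
    rw [e, N_eq] at h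
    refine rmK_sound (fun d hd => hP d (by simp [hd])) _ K ?_ h
    intro i hi
    have h2 : (acc ||| 2 ^ c.1).testBit i = true := hi
    rw [Nat.testBit_or, Bool.or_eq_true] at h2
    rcases h2 with h2 | h2
    · exact ha i h2
    · rw [Nat.testBit_two_pow] at h2
      have : c.1 = i := by simpa using h2
      rw [← this]; exact hP c (by simp)

/-- the pattern set has odd size and is contained in the orbits of the representatives -/
noncomputable def oddB (L : List Nt) (n k : ℕ) (C : List (List ℕ × Bool)) (X : List ℕ) (l : List (ℕ × ℕ × List ℕ)) : Bool :=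
  patK L n k C (ones n) fun a => Bool.rec false (rmK l 0 fun S => cloB L [X] 10 S a) (Nat.beq (Nat.mod (pc k a) 2) 1)

theorem Dat.odd (D : Dat φ x L k m gp) {X : List ℕ} (hX : lok m X = true) {y : G} (hy2 : y * y = 1)
    (hyX : y * ev x X = ev x X * y) {C : List (List ℕ × Bool)} {l : List (ℕ × ℕ × List ℕ)} {Q : Prop}
    (hC : ∀ i : Fin n, (∀ c ∈ C, (tr L c.1 i = i ↔ c.2 = true)) → (∀ c ∈ C, (tr L c.1 (φ y i) = φ y i ↔ c.2 = true)))
    (h : oddB L n k C X l = true) (hl : ∀ c ∈ l, FX φ y c.1 → Q) : Q := by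
  unfold oddB at h
  rw [patK_eq] at h
  set a := patV L n k C (ones n) with ha
  cases h1 : Nat.beq (Nat.mod (pc k a) 2) 1
  · rw [h1] at h; exact absurd h (by simp)
  · rw [h1] at h
    have h2 : (rmK l 0 fun S => cloB L [X] 10 S a) = true := h
    obtain ⟨S, hS, h3⟩ := rmK_sound (P := fun i => FX φ y i → Q) hl 0 _ (by intro i hi; simp at hi) h2
    have h4 := cloB_sound D.hs (P := fun i => FX φ y i → Q) (us := [X]) (by
      intro w hw i hi
      simp only [List.mem_cons, List.not_mem_nil, or_false] at hw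
      rw [hw] at hi
      intro h5
      exact hi ((FX.tr_iff D.hc (D.lt16 hX) hyX D.hs).2 h5)) hS h3
    have hmod : pc k a % 2 = 1 := Nat.eq_of_beq_eq_true h1
    have hio : ∀ i, a.testBit i = true → i < n := by
      intro i hi
      have h5 := patV_lt C _ i hi
      rw [ones_testBit] at h5
      simpa using h5
    have hcard : ((Finset.univ : Finset (Fin n)).filter fun i : Fin n => a.testBit (i : ℕ) = true).card = pc k a := by
      rw [pc_eq]
      refine Finset.card_bij (fun i _ => (i : ℕ)) ?_ ?_ ?_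
      · intro i hi
        rw [Finset.mem_filter] at hi
        rw [Finset.mem_filter, Finset.mem_range]
        exact ⟨lt_of_lt_of_le i.2 D.hn, hi.2⟩
      · intro i _ j _ hij; exact Fin.ext hij
      · intro i hi
        rw [Finset.mem_filter] at hi
        exact ⟨⟨i, hio i hi.2⟩, by rw [Finset.mem_filter]; exact ⟨Finset.mem_univ _, hi.2⟩, rfl⟩
    obtain ⟨i, hi, hfi⟩ := odd_fixed (S := (Finset.univ : Finset (Fin n)).filter fun i : Fin n => a.testBit (i : ℕ) = true) (f := φ y)
      (by rw [hcard]; exact hmod) (by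
        intro i hi
        rw [Finset.mem_filter] at hi ⊢
        refine ⟨Finset.mem_univ _, ?_⟩
        rw [ha, patV_iff D.hs D.hn C _ _ (φ y i).2, ones_testBit]
        refine ⟨by simp, hC i ?_⟩
        have h5 := hi.2
        rw [ha, patV_iff D.hs D.hn C _ _ i.2] at h5
        exact h5.2) (by
        intro i
        rw [← Equiv.Perm.mul_apply, ← map_mul, hy2, map_one, Equiv.Perm.one_apply])
    rw [Finset.mem_filter] at hi
    exact h4 i hi.2 ⟨i.2, hfi⟩

/-! ### Counting -/

/-- the number of points commuting with the letters in the way the letter `b` does -/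
noncomputable def lvB (L : List Nt) (n k : ℕ) (ls : List ℕ) (p c : ℕ) : Bool :=
  patN L n k (ls.map fun j => ([j], Nat.beq (tr L [j] p) p)) c

theorem Dat.level (D : Dat φ x L k m gp) [Finite G] (hin : ∀ (α : MulAut G) (j : ℕ), 1 ≤ j → j ≤ m → ∃ g, α (x j) = g * x j * g⁻¹)
    {l : List G} {ls : List ℕ} {b c : ℕ} (hb1 : 1 ≤ b) (hb2 : b ≤ m) (hls : ∀ j ∈ ls, x j ∈ l ∧ 1 ≤ j ∧ j ≤ m)
    (h : lvB L n k ls (gp b) c = true) :
    Nat.card (stabs (MulAut.toPerm G) l) ≤ c * Nat.card (stabs (MulAut.toPerm G) (x b :: l)) := by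
  classical
  haveI : Finite (MulAut G) := Finite.of_injective (fun α : MulAut G => (α : G → G)) DFunLike.coe_injective
  obtain ⟨hp, hcc⟩ := D.cc b hb1 hb2
  choose gg hgg using fun α : MulAut G => hin α b hb1 hb2
  have hcard := patN_card D.hs D.hn h
  rw [← hcard]
  refine card_level_le (MulAut.toPerm G) l (x b) _ (fun α => (φ (gg α) ⟨gp b, hp⟩ : Fin n)) ?_ ?_
  · intro α hα
    rw [Finset.mem_filter, Finset.mem_range]
    refine ⟨(φ (gg α) ⟨gp b, hp⟩).2, ?_⟩
    intro cc hcc2
    rw [List.mem_map] at hcc2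
    obtain ⟨j, hj, rfl⟩ := hcc2
    obtain ⟨hjl, hj1, hj2⟩ := hls j hj
    have hj16 : ∀ y ∈ [j], y < 16 := by
      intro y hy
      simp only [List.mem_cons, List.not_mem_nil, or_false] at hy
      rw [hy]; exact lt_of_le_of_lt hj2 D.hm
    have hfix : α (x j) = x j := (mem_stabs _ _ _).1 hα _ hjl
    have e1 : ev x [j] = x j := by rw [ev_cons, ev_nil, mul_one]
    have h1 := (D.cc b hb1 hb2).act (gg α) (j := φ (gg α) ⟨gp b, hp⟩) rfl
    rw [← hgg α] at h1
    have h2 := FX_iff D.hc hj16 (φ (gg α) ⟨gp b, hp⟩).2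
    rw [e1, h1.iff] at h2
    have h3 := FX_iff D.hc hj16 hp
    rw [e1, (D.cc b hb1 hb2).iff] at h3
    rw [← h2]
    have h4 : (Nat.beq (tr L [j] (gp b)) (gp b) = true) ↔ x j * x b = x b * x j := by
      rw [h3]
      exact ⟨Nat.eq_of_beq_eq_true, fun h => by rw [h]; exact Nat.beq_refl _⟩
    rw [h4]
    constructor
    · intro h5
      apply α.injective
      rw [map_mul, map_mul, hfix]; exact h5
    · intro h5
      have := congrArg α h5
      rw [map_mul, map_mul, hfix] at this; exact this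
  · intro α _ β _ hαβ
    show α (x b) = β (x b)
    have h1 : φ (gg α) ⟨gp b, hp⟩ = φ (gg β) ⟨gp b, hp⟩ := Fin.ext hαβ
    have h2 : φ ((gg β)⁻¹ * gg α) ⟨gp b, hp⟩ = ⟨gp b, hp⟩ := by
      rw [map_mul, map_inv, Equiv.Perm.mul_apply, h1, Equiv.Perm.inv_eq_iff_eq]
    rw [hcc] at h2
    rw [hgg α, hgg β]
    calc gg α * x b * (gg α)⁻¹ = gg β * ((gg β)⁻¹ * gg α * x b) * (gg α)⁻¹ := by group
      _ = gg β * (x b * ((gg β)⁻¹ * gg α)) * (gg α)⁻¹ := by rw [h2]
      _ = gg β * x b * (gg β)⁻¹ := by group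

/-- the last step: nothing is left when the letters generate -/
theorem stabs_gen {l : List G} (h : Subgroup.closure {g | g ∈ l} = ⊤) : Nat.card (stabs (MulAut.toPerm G) l) = 1 := by
  rw [Subgroup.card_eq_one, Subgroup.eq_bot_iff_forall]
  intro α hα
  have h1 := (mem_stabs _ _ _).1 hα
  ext g
  have h2 : g ∈ Subgroup.closure {g | g ∈ l} := by rw [h]; exact Subgroup.mem_top g
  show α g = g
  induction h2 using Subgroup.closure_induction with
  | mem y hy => exact h1 y hy
  | one => exact map_one α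
  | mul a b _ _ ha hb => rw [map_mul, ha, hb]
  | inv a _ ha => rw [map_inv, ha]

theorem card_aut_eq (hz : Subgroup.center G = ⊥) : Nat.card (MulAut G) = Nat.card G * Nat.card (Cfsg.Out G) := by
  have h1 := Subgroup.card_eq_card_quotient_mul_card_subgroup (Cfsg.Inn G)
  have h2 : Nat.card (Cfsg.Inn G) = Nat.card G := by
    have hinj : Function.Injective (MulAut.conj : G →* MulAut G) := by
      rw [← MonoidHom.ker_eq_bot_iff, eq_bot_iff, ← hz]
      intro g hg
      rw [Subgroup.mem_center_iff]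
      intro h
      rw [MonoidHom.mem_ker] at hg
      have := congrArg (fun α : MulAut G => α h) hg
      simp only [MulAut.conj_apply, MulAut.one_apply] at this
      calc h * g = g * h * g⁻¹ * g := by rw [this]
        _ = g * h := by group
    exact (Nat.card_congr (MonoidHom.ofInjective hinj).toEquiv).symm
  rw [h1, h2, mul_comm]

end

end Cfsg.Agent.H28.OA
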