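import Cfsg.Agent.H28_OA2

/-!
Involutions commuting with a given element.
-/

set_option autoImplicit false

namespace Cfsg.Agent.H28.OA

open Cfsg H8.CE H8.Net H8.Act H8.Act2

section
variable {G : Type*} [Group G] {n k : ℕ} {φ : G →* Equiv.Perm (Fin n)} {x : ℕ → G} {L : List Nt}
variable {m : ℕ} {gp : ℕ → ℕ}

/-- points with words -/
noncomputable def ptB (L : List Nt) (m : ℕ) (gp : ℕ → ℕ) (T : ℕ) (l : List (ℕ × ℕ × List ℕ)) : Bool :=
  l.all fun c => lok m (dwd c.2.2 c.2.1) && (Nat.beq (tr L c.2.2 (gp c.2.1)) c.1 && Nat.testBit T c.1)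

theorem Dat.pts (D : Dat φ x L k m gp) {T : ℕ} {l : List (ℕ × ℕ × List ℕ)} (h : ptB L m gp T l = true) {y : G}
    (hT : ∀ i, T.testBit i = true → FX φ y i) : ∀ c ∈ l, y * ev x (dwd c.2.2 c.2.1) = ev x (dwd c.2.2 c.2.1) * y ∧
      ∀ z ∈ dwd c.2.2 c.2.1, z < 16 := by
  intro c hc
  unfold ptB at h
  rw [List.all_eq_true] at h
  have h1 := h c hc
  rw [Bool.and_eq_true, Bool.and_eq_true] at h1
  exact ⟨D.comm h1.1 (Nat.eq_of_beq_eq_true h1.2.1) (hT _ h1.2.2), D.lt16 h1.1⟩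

/-- preservation of a pattern set -/
theorem Dat.pres (D : Dat φ x L k m gp) {y : G} {C : List (List ℕ × Bool)}
    (h : ∀ c ∈ C, y * ev x c.1 = ev x c.1 * y ∧ ∀ z ∈ c.1, z < 16) :
    ∀ i : Fin n, (∀ c ∈ C, (tr L c.1 i = i ↔ c.2 = true)) → (∀ c ∈ C, (tr L c.1 (φ y i) = φ y i ↔ c.2 = true)) := by
  intro i hi c hc
  rw [fix_of_comm D.hc (h c hc).2 (h c hc).1 i]
  exact hi c hc

theorem Dat.tgt (D : Dat φ x L k m gp) {X : List ℕ} (hX : lok m X = true) {y : G} (hy2 : y * y = 1)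
    (hyX : y * ev x X = ev x X * y) {C0 : List (List ℕ × Bool)} {T T0 : ℕ} {r0 : ℕ × ℕ × List ℕ}
    {good bad P1 : List (ℕ × ℕ × List ℕ)}
    (hC0p : ∀ i : Fin n, (∀ c ∈ C0, (tr L c.1 i = i ↔ c.2 = true)) → (∀ c ∈ C0, (tr L c.1 (φ y i) = φ y i ↔ c.2 = true)))
    (hgood : ∀ c ∈ good, ∃ r, repB L m gp X r T c = true)
    (hr0 : ∃ r, repB L m gp X r T0 r0 = true)
    (hP1 : ptB L m gp T0 P1 = true)
    (hC1 : oddB L n k (C0 ++ P1.map fun c => (dwd c.2.2 c.2.1, true)) X good = true)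
    (hbad : ∃ r, repsB L m gp X r (2 ^ r0.1) bad = true)
    (hC0 : oddB L n k C0 X (good ++ bad) = true) : ∀ i, T.testBit i = true → FX φ y i := by
  have hg : ∀ c ∈ good, FX φ y c.1 → ∀ i, T.testBit i = true → FX φ y i := by
    intro c hc hy
    obtain ⟨r, hr⟩ := hgood c hc
    obtain ⟨h1, h2, h3⟩ := repB_iff hr
    exact D.clo hX hyX h1 h2 h3 hy
  have hr : FX φ y r0.1 → ∀ i, T.testBit i = true → FX φ y i := by
    intro hy
    obtain ⟨r, hr⟩ := hr0
    obtain ⟨h1, h2, h3⟩ := repB_iff hr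
    have h4 := D.clo hX hyX h1 h2 h3 hy
    have h5 := D.pts hP1 h4
    refine D.odd hX hy2 hyX (C := C0 ++ P1.map fun c => (dwd c.2.2 c.2.1, true)) ?_ hC1 hg
    intro i hi c hc
    rw [List.mem_append] at hc
    rcases hc with hc | hc
    · exact hC0p i (fun c hc => hi c (List.mem_append.2 (Or.inl hc))) c hc
    · rw [List.mem_map] at hc
      obtain ⟨d, hd, rfl⟩ := hc
      have h6 := h5 d hd
      rw [fix_of_comm D.hc h6.2 h6.1 i]
      exact hi _ (List.mem_append.2 (Or.inr (List.mem_map.2 ⟨d, hd, rfl⟩)))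
  have hb : ∀ c ∈ bad, FX φ y c.1 → ∀ i, T.testBit i = true → FX φ y i := by
    intro c hc hy
    obtain ⟨r, hrb⟩ := hbad
    obtain ⟨h1, h2, h3⟩ := repB_iff (repsB_iff hrb c hc)
    refine hr (D.clo hX hyX h1 h2 h3 hy r0.1 ?_)
    rw [Nat.testBit_two_pow]; simp
  refine D.odd hX hy2 hyX (C := C0) hC0p hC0 ?_
  intro c hc
  rw [List.mem_append] at hc
  rcases hc with hc | hc
  · exact hg c hc
  · exact hb c hc

/-- the bits of a point -/
def bitsC (L : List Nt) (C : List (List ℕ)) (p : ℕ) : List (List ℕ × Bool) := C.map fun w => (w, Nat.beq (tr L w p) p)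

theorem bitsC_mem {C : List (List ℕ)} {p : ℕ} {c : List ℕ × Bool} (h : c ∈ bitsC L C p) :
    c.1 ∈ C ∧ (tr L c.1 p = p ↔ c.2 = true) := by
  unfold bitsC at h
  rw [List.mem_map] at h
  obtain ⟨w, hw, rfl⟩ := h
  exact ⟨hw, ⟨fun h => by show Nat.beq _ _ = true; rw [h]; exact Nat.beq_refl _, Nat.eq_of_beq_eq_true⟩⟩

/-- the image of a point with a given pattern -/
theorem Dat.atom (D : Dat φ x L k m gp) {y : G} {C : List (List ℕ)} {p q : ℕ}
    (hC : ∀ w ∈ C, y * ev x w = ev x w * y ∧ ∀ z ∈ w, z < 16) (h : patEq L n k (bitsC L C p) (2 ^ p ||| 2 ^ q) = true)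
    (hp : p < n) : ((φ y ⟨p, hp⟩ : Fin n) : ℕ) = p ∨ ((φ y ⟨p, hp⟩ : Fin n) : ℕ) = q := by
  have h1 := (patEq_iff D.hs D.hn h (φ y ⟨p, hp⟩).2).2 (by
    intro c hc
    obtain ⟨h2, h3⟩ := bitsC_mem hc
    rw [fix_of_comm D.hc (hC _ h2).2 (hC _ h2).1 ⟨p, hp⟩]
    exact h3)
  rw [Nat.testBit_or, Bool.or_eq_true, Nat.testBit_two_pow, Nat.testBit_two_pow] at h1
  rcases h1 with h1 | h1
  · left; exact (of_decide_eq_true h1).symm
  · right; exact (of_decide_eq_true h1).symm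

/-- an element fixing the points of the letters is trivial -/
theorem Dat.triv (D : Dat φ x L k m gp) (hz : Subgroup.center G = ⊥) (hgen : Subgroup.closure {g | ∃ j, 1 ≤ j ∧ j ≤ m ∧ g = x j} = ⊤)
    {y : G} (h : ∀ j, 1 ≤ j → j ≤ m → y * x j = x j * y) : y = 1 := by
  have h1 : y ∈ Subgroup.center G := by
    rw [Subgroup.mem_center_iff]
    intro g
    have h2 : g ∈ Subgroup.closure {g | ∃ j, 1 ≤ j ∧ j ≤ m ∧ g = x j} := by rw [hgen]; exact Subgroup.mem_top g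
    induction h2 using Subgroup.closure_induction with
    | mem g hg => obtain ⟨j, h3, h4, rfl⟩ := hg; exact (h j h3 h4).symm
    | one => simp
    | mul a b _ _ ha hb => rw [mul_assoc, hb, ← mul_assoc, ha, mul_assoc]
    | inv a _ ha => exact (Commute.inv_left (show Commute a y from ha) : a⁻¹ * y = y * a⁻¹)
  rw [hz, Subgroup.mem_bot] at h1
  exact h1

/-- all letters are conjugate to their images if one is -/
theorem conj_letters {α : MulAut G} (hbr : ∀ j, 1 ≤ j → j ≤ m → IsConj (x 1) (x j)) {s : ℕ} (hs1 : 1 ≤ s) (hs2 : s ≤ m)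
    (h : IsConj (x 1) (α (x s))) : ∀ j, 1 ≤ j → j ≤ m → ∃ g, α (x j) = g * x j * g⁻¹ := by
  intro j h1 h2
  have h3 : IsConj (α (x 1)) (α (x j)) := MonoidHom.map_isConj (α : G →* G) (hbr j h1 h2)
  have h4 : IsConj (α (x 1)) (α (x s)) := MonoidHom.map_isConj (α : G →* G) (hbr s hs1 hs2)
  have h5 : IsConj (x j) (α (x j)) := (hbr j h1 h2).symm.trans (h.trans (h4.symm.trans h3))
  obtain ⟨c, hc⟩ := isConj_iff.1 h5
  exact ⟨c, hc.symm⟩

theorem conj_braid {a b : G} (ha : a * a = 1) (hb : b * b = 1) (h : (a * b) ^ 3 = 1) : IsConj a b := by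
  rw [isConj_iff]
  refine ⟨a * b, ?_⟩
  have ia : a⁻¹ = a := inv_eq_of_mul_eq_one_left ha
  have ib : b⁻¹ = b := inv_eq_of_mul_eq_one_left hb
  have h3 : a * b * a * b * a * b = 1 := by
    rw [← h]; simp only [pow_succ, pow_zero, one_mul, mul_assoc]
  have h4 : a * b * a * b * a = b := by
    rw [mul_eq_one_iff_eq_inv] at h3; rw [h3, ib]
  rw [mul_inv_rev, ia, ib]
  calc a * b * a * (b * a) = a * b * a * b * a := by simp only [mul_assoc]
    _ = b := h4

/-- an automorphism normalizes a Sylow subgroup of prime order up to conjugation -/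
theorem aut_sylow [Finite G] {p : ℕ} [Fact p.Prime] (hcard : ¬ p ^ 2 ∣ Nat.card G) {s : G} (hs : orderOf s = p) (α : MulAut G) :
    ∃ c : G, ∀ t : G, t * s = s * t → (c * α t * c⁻¹) * s = s * (c * α t * c⁻¹) := by
  have h1 : orderOf (α s) = p := by
    rw [← hs]; exact orderOf_injective (α : G →* G) α.injective s
  obtain ⟨c, j, hj, h2⟩ := H14.Out.exists_conj_pow hcard s (α s) hs h1
  refine ⟨c, fun t ht => ?_⟩
  -- `s` is a power of `c (α s) c⁻¹`
  have h3 : orderOf (c * α s * c⁻¹) = p := by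
    rw [← h1]; exact orderOf_injective (MulAut.conj c : G →* G) (MulAut.conj c).injective (α s)
  have h4 : c * α s * c⁻¹ ∈ Subgroup.zpowers s := by rw [h2]; exact Subgroup.npow_mem_zpowers s j
  have h5 : Subgroup.zpowers (c * α s * c⁻¹) = Subgroup.zpowers s := by
    refine Subgroup.eq_of_le_of_card_ge (by rwa [Subgroup.zpowers_le]) ?_
    rw [Nat.card_zpowers, Nat.card_zpowers, h3, hs]
  have h6 : s ∈ Subgroup.zpowers (c * α s * c⁻¹) := by rw [h5]; exact Subgroup.mem_zpowers s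
  obtain ⟨i, hi⟩ := Subgroup.mem_zpowers_iff.1 h6
  have h7 : Commute (c * α t * c⁻¹) (c * α s * c⁻¹) := by
    have : Commute (α t) (α s) := (show Commute t s from ht).map (α : G →* G)
    show c * α t * c⁻¹ * (c * α s * c⁻¹) = c * α s * c⁻¹ * (c * α t * c⁻¹)
    calc c * α t * c⁻¹ * (c * α s * c⁻¹) = c * (α t * α s) * c⁻¹ := by group
      _ = c * (α s * α t) * c⁻¹ := by rw [this.eq]
      _ = _ := by group
  have h8 := h7.zpow_right i
  rw [hi] at h8
  exact h8.eq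

end

end Cfsg.Agent.H28.OA
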