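import Mathlib
import Cfsg.Agent.H7_M24c

set_option autoImplicit false

/-!
Transitivity of `M24` on sextuples of points (inside an octad, not inside an octad).
-/

namespace Cfsg.Agent.H28.Six

open Cfsg Cfsg.Agent.H7.Golay Cfsg.Agent.H7.Oct Cfsg.Agent.H7.M24 Cfsg.Agent.H7.M24c
open scoped Pointwise

def L16 : List ℕ := [5, 6, 8, 9, 11, 13, 14, 15, 16, 17, 18, 19, 20, 21, 22, 23]

theorem inv_out {l : List ℕ} (hl : [0, 1, 2, 3, 4].all (fun j => l.contains j) = true) :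
    ∀ g ∈ fixK M24 l, ix (g (pt 5)) ∈ L16 := by
  intro g hg
  have hinv := octad0_inv (le_refl M24) hl hg
  have h7 : pt 5 ∉ ofMask 0x149f := by rw [mem_ofMask]; decide
  have h8 : g (pt 5) ∉ ofMask 0x149f := by
    rw [← hinv, Finset.mem_smul_finset]
    rintro ⟨q, hq, h⟩
    have : q = pt 5 := g.injective h
    exact h7 (this ▸ hq)
  rw [mem_ofMask] at h8
  have h10 : ∀ i, i < 24 → ¬ Nat.testBit 0x149f i = true → i ∈ L16 := by decide
  exact h10 _ (ix_lt _) h8

theorem has6 {l : List ℕ} (h : (sg6.all fun r => l.all (fun j => Nat.beq (r.getD j 0) j)) = true) :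
    Has (fixK M24 l) sg6 := by
  intro r hr
  obtain ⟨g, hg, hgr⟩ := has_M24 sg6_ok r hr
  exact ⟨g, mem_fixK_of_rep hg hgr (List.all_eq_true.1 h r hr), hgr⟩

theorem card_in : Nat.card (fixK M24 [7, 4, 3, 2, 1, 0]) = 16 := by
  have c6 := card_fixK M24 [7, 4, 3, 2, 1, 0] 5 (by norm_num) L16 (by decide) (list_all_lt (by decide))
    (inv_out (by decide)) (descent_pt _ sg6 (has6 (by decide)) _ 5 (by decide +kernel))
  have c7 : Nat.card (fixK M24 [5, 7, 4, 3, 2, 1, 0]) = 1 := by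
    rw [fixK_last le_rfl]; exact Subgroup.card_bot
  rw [c6, c7]; rfl

theorem inv_in : ∀ g ∈ fixK M24 [4, 3, 2, 1, 0], ix (g (pt 7)) ∈ [7, 10, 12] := by
  intro g hg
  have hinv := octad0_inv (le_refl M24) (l := [4, 3, 2, 1, 0]) (by decide) hg
  have h7 : pt 7 ∈ ofMask 0x149f := by rw [mem_ofMask]; decide
  have h8 : g (pt 7) ∈ ofMask 0x149f := by
    rw [← hinv, Finset.mem_smul_finset]
    exact ⟨_, h7, rfl⟩
  rw [mem_ofMask] at h8
  have h9 := inv_free (K := M24) (l := [4, 3, 2, 1, 0]) (b := 7) (by norm_num) (List.range' 5 19) (by decide)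
    (by decide) g hg
  have h10 : ∀ i, i ∈ List.range' 5 19 → Nat.testBit 0x149f i = true → i ∈ [7, 10, 12] := by decide
  exact h10 _ h9 h8

theorem card_five : Nat.card (fixK M24 [4, 3, 2, 1, 0]) = 48 := by
  have c5 := card_fixK M24 [4, 3, 2, 1, 0] 7 (by norm_num) [7, 10, 12] (by decide) (list_all_lt (by decide)) inv_in
    (descent_pt _ sg5 ((has_M24 sg5_ok).fixK sg5_ok) _ 7 (by decide +kernel))
  rw [c5, card_in]; rfl

theorem card_out : Nat.card (fixK M24 [5, 4, 3, 2, 1, 0]) = 3 := by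
  have c6 := card_fixK M24 [4, 3, 2, 1, 0] 5 (by norm_num) L16 (by decide) (list_all_lt (by decide))
    (inv_out (by decide)) (descent_pt _ sg6 (has6 (by decide)) _ 5 (by decide +kernel))
  rw [card_five] at c6
  have : L16.length = 16 := rfl
  rw [this] at c6
  omega

/-- five points of an octad and a sixth one in the octad -/
theorem six_in (x : Fin 5 → GolayPt) (hx : Function.Injective x) {o : Finset GolayPt} (ho : o ∈ octads)
    (hxo : ∀ i, x i ∈ o) (y : GolayPt) (hy : y ∈ o) (hxy : ∀ i, x i ≠ y) :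
    ∃ g ∈ M24, (∀ i, g (x i) = pt i) ∧ g y = pt 7 := by
  obtain ⟨g, hg, h⟩ := H7.M24b.ktrans 5 (by norm_num) x (fun i => pt i.val) hx (by
    intro i j hij
    have : i.val = j.val := (pt_inj (by omega) (by omega)).1 hij
    exact Fin.ext this)
  have hgo : g • o = ofMask 0x149f := by
    apply eq_of_five ((smul_mem_octads_iff hg).2 ho) ((ofMask_mem_octads (by norm_num)).2 octad0_mem)
    have h5 : (Finset.univ.image (fun i : Fin 5 => pt i.val)).card = 5 := by
      rw [Finset.card_image_of_injective]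
      · simp
      · intro i j hij
        have : i.val = j.val := (pt_inj (by omega) (by omega)).1 hij
        exact Fin.ext this
    rw [← h5]
    apply Finset.card_le_card
    intro p hp
    obtain ⟨i, -, rfl⟩ := Finset.mem_image.1 hp
    rw [Finset.mem_inter]
    constructor
    · rw [Finset.mem_smul_finset]
      exact ⟨x i, hxo i, h i⟩
    · rw [mem_ofMask, ix_pt _ (by omega)]
      have : ∀ i : Fin 5, Nat.testBit 0x149f (i : ℕ) = true := by decide
      exact this i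
  have hgy : g y ∈ ofMask 0x149f := by
    rw [← hgo]; exact Finset.smul_mem_smul_finset hy
  have hL : ix (g y) ∈ [7, 10, 12] := by
    rw [mem_ofMask] at hgy
    have h10 : ∀ i, i < 24 → Nat.testBit 0x149f i = true → i < 5 ∨ i ∈ [7, 10, 12] := by decide
    rcases h10 _ (ix_lt _) hgy with h1 | h1
    · exfalso
      have h2 := h ⟨ix (g y), h1⟩
      have h3 : g (x ⟨ix (g y), h1⟩) = g y := by rw [h2]; exact pt_ix _
      exact hxy _ (g.injective h3)
    · exact h1
  obtain ⟨g', hg', h'⟩ := descent_pt _ sg5 ((has_M24 sg5_ok).fixK sg5_ok) _ 7 (by decide +kernel) _ hL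
  rw [pt_ix] at h'
  rw [mem_fixK] at hg'
  refine ⟨g' * g, mul_mem hg'.1 hg, fun i => ?_, h'⟩
  rw [Equiv.Perm.mul_apply, h i]
  refine hg'.2 _ ?_
  rw [ix_pt _ (by omega)]
  have : ∀ i : Fin 5, (i : ℕ) ∈ [4, 3, 2, 1, 0] := by decide
  exact this i

/-- standard position of six points -/
theorem six_norm (x : Fin 6 → GolayPt) (hx : Function.Injective x) :
    ((∃ o ∈ octads, ∀ i, x i ∈ o) → ∃ g ∈ M24, (∀ i : Fin 5, g (x i.castSucc) = pt i) ∧ g (x 5) = pt 7) ∧
    ((¬ ∃ o ∈ octads, ∀ i, x i ∈ o) → ∃ g ∈ M24, (∀ i : Fin 5, g (x i.castSucc) = pt i) ∧ g (x 5) = pt 5) := by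
  constructor
  · rintro ⟨o, ho, hxo⟩
    exact six_in (fun i => x i.castSucc) (fun i j h => Fin.castSucc_injective _ (hx h)) ho (fun i => hxo _) _ (hxo 5)
      (fun i h => by
        have := hx h
        have h2 := congrArg Fin.val this
        simp at h2
        omega)
  · intro hno
    have hc : (Finset.univ.image (fun i : Fin 5 => x i.castSucc)).card = 5 := by
      rw [Finset.card_image_of_injective _ (fun i j h => Fin.castSucc_injective _ (hx h))]; simp
    obtain ⟨o, ⟨ho, hso⟩, -⟩ := steiner.2 _ hc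
    have hxo : ∀ i : Fin 5, x i.castSucc ∈ o := fun i => hso (Finset.mem_image.2 ⟨i, Finset.mem_univ _, rfl⟩)
    have hy : x 5 ∉ o := by
      intro h5
      refine hno ⟨o, ho, fun i => ?_⟩
      refine Fin.lastCases ?_ (fun j => hxo j) i
      exact h5
    exact six_std (fun i => x i.castSucc) (fun i j h => Fin.castSucc_injective _ (hx h)) ho hxo _ hy

theorem six_trans (x y : Fin 6 → GolayPt) (hx : Function.Injective x) (hy : Function.Injective y)
    (h : (∃ o ∈ octads, ∀ i, x i ∈ o) ↔ (∃ o ∈ octads, ∀ i, y i ∈ o)) : ∃ g ∈ M24, ∀ i, g (x i) = y i := by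
  have key : ∀ (a b : Equiv.Perm GolayPt) (q : GolayPt), a ∈ M24 → b ∈ M24 →
      ((∀ i : Fin 5, a (x i.castSucc) = pt i) ∧ a (x 5) = q) → ((∀ i : Fin 5, b (y i.castSucc) = pt i) ∧ b (y 5) = q) →
      ∃ g ∈ M24, ∀ i, g (x i) = y i := by
    intro a b q ha hb h1 h2
    refine ⟨b⁻¹ * a, mul_mem (inv_mem hb) ha, fun i => ?_⟩
    rw [Equiv.Perm.mul_apply, Equiv.Perm.inv_eq_iff_eq]
    refine Fin.lastCases ?_ (fun j => ?_) i
    · exact h1.2.trans h2.2.symm
    · exact (h1.1 j).trans (h2.1 j).symm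
  by_cases hc : ∃ o ∈ octads, ∀ i, x i ∈ o
  · obtain ⟨a, ha, h1⟩ := (six_norm x hx).1 hc
    obtain ⟨b, hb, h2⟩ := (six_norm y hy).1 (h.1 hc)
    exact key a b _ ha hb h1 h2
  · obtain ⟨a, ha, h1⟩ := (six_norm x hx).2 hc
    obtain ⟨b, hb, h2⟩ := (six_norm y hy).2 (fun hc' => hc (h.2 hc'))
    exact key a b _ ha hb h1 h2

/-- pointwise stabiliser, as a number -/
theorem card_pw_conj (E : Finset GolayPt) {c : Equiv.Perm GolayPt} (hc : c ∈ M24) :
    Nat.card {g : Equiv.Perm GolayPt // g ∈ M24 ∧ ∀ p ∈ E, g p = p} =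
    Nat.card {g : Equiv.Perm GolayPt // g ∈ M24 ∧ ∀ p ∈ c • E, g p = p} := by
  apply Nat.card_congr
  refine ⟨fun g => ⟨c * g.1 * c⁻¹, mul_mem (mul_mem hc g.2.1) (inv_mem hc), ?_⟩,
    fun g => ⟨c⁻¹ * g.1 * c, mul_mem (mul_mem (inv_mem hc) g.2.1) hc, ?_⟩, ?_, ?_⟩
  · intro p hp
    obtain ⟨q, hq, rfl⟩ := Finset.mem_smul_finset.1 hp
    show c (g.1 (c⁻¹ (c q))) = c q
    have h2 : c⁻¹ (c q) = q := c.symm_apply_apply q
    rw [h2, g.2.2 q hq]
  · intro p hp
    show c⁻¹ (g.1 (c p)) = p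
    rw [g.2.2 (c p) (Finset.smul_mem_smul_finset hp)]
    exact c.symm_apply_apply p
  · intro g; apply Subtype.ext; simp [mul_assoc]
  · intro g; apply Subtype.ext; simp [mul_assoc]

theorem card_pw_fixK (l : List ℕ) (hl : ∀ i ∈ l, i < 24) :
    Nat.card {g : Equiv.Perm GolayPt // g ∈ M24 ∧ ∀ p ∈ (l.map pt).toFinset, g p = p} = Nat.card (fixK M24 l) := by
  apply Nat.card_congr
  refine Equiv.subtypeEquivRight fun g => ?_
  rw [mem_fixK, and_congr_right_iff]
  intro _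
  constructor
  · intro h p hp
    exact h p (by rw [List.mem_toFinset, List.mem_map]; exact ⟨_, hp, pt_ix p⟩)
  · intro h p hp
    rw [List.mem_toFinset, List.mem_map] at hp
    obtain ⟨i, hi, rfl⟩ := hp
    exact h _ (by rw [ix_pt i (hl i hi)]; exact hi)

/-- enumeration of a finset of size six -/
theorem enum6 (E : Finset GolayPt) (hE : E.card = 6) : ∃ x : Fin 6 → GolayPt, Function.Injective x ∧
    (∀ p, p ∈ E ↔ ∃ i, x i = p) := by
  let e := (E.equivFinOfCardEq hE).symm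
  refine ⟨fun i => (e i : GolayPt), fun i j h => e.injective (Subtype.ext h), fun p => ⟨fun hp => ?_, ?_⟩⟩
  · exact ⟨e.symm ⟨p, hp⟩, by simp⟩
  · rintro ⟨i, rfl⟩; exact (e i).2

theorem smul_eq_of_enum {E : Finset GolayPt} {x : Fin 6 → GolayPt} (hx : ∀ p, p ∈ E ↔ ∃ i, x i = p)
    {g : Equiv.Perm GolayPt} {q : ℕ} (h1 : ∀ i : Fin 5, g (x i.castSucc) = pt i) (h2 : g (x 5) = pt q) :
    g • E = ([q, 4, 3, 2, 1, 0].map pt).toFinset := by
  ext p
  rw [Finset.mem_smul_finset]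
  simp only [List.map_cons, List.map_nil, List.mem_toFinset, List.mem_cons, List.not_mem_nil, or_false]
  constructor
  · rintro ⟨r, hr, rfl⟩
    obtain ⟨i, rfl⟩ := (hx r).1 hr
    refine Fin.lastCases ?_ (fun j => ?_) i
    · exact Or.inl h2
    · have := h1 j
      change g (x j.castSucc) = _ ∨ g (x j.castSucc) = _ ∨ g (x j.castSucc) = _ ∨ g (x j.castSucc) = _ ∨
        g (x j.castSucc) = _ ∨ g (x j.castSucc) = _
      rw [this]
      fin_cases j <;> simp
  · have key : ∀ j : Fin 5, ∃ y ∈ E, g • y = pt j := fun j => ⟨x j.castSucc, (hx _).2 ⟨_, rfl⟩, h1 j⟩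
    rintro (rfl | rfl | rfl | rfl | rfl | rfl)
    · exact ⟨x 5, (hx _).2 ⟨5, rfl⟩, h2⟩
    · exact key 4
    · exact key 3
    · exact key 2
    · exact key 1
    · exact key 0

theorem card_pw_in {E : Finset GolayPt} (hE : E.card = 6) (h : ∃ o ∈ octads, E ⊆ o) :
    Nat.card {g : Equiv.Perm GolayPt // g ∈ M24 ∧ ∀ p ∈ E, g p = p} = 16 := by
  obtain ⟨x, hx, hxE⟩ := enum6 E hE
  obtain ⟨g, hg, h1, h2⟩ := (six_norm x hx).1 (by
    obtain ⟨o, ho, hEo⟩ := h
    exact ⟨o, ho, fun i => hEo ((hxE _).2 ⟨i, rfl⟩)⟩)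
  rw [card_pw_conj E hg, smul_eq_of_enum hxE h1 h2, card_pw_fixK _ (by decide), card_in]

theorem card_pw_out {E : Finset GolayPt} (hE : E.card = 6) (h : ¬ ∃ o ∈ octads, E ⊆ o) :
    Nat.card {g : Equiv.Perm GolayPt // g ∈ M24 ∧ ∀ p ∈ E, g p = p} = 3 := by
  obtain ⟨x, hx, hxE⟩ := enum6 E hE
  obtain ⟨g, hg, h1, h2⟩ := (six_norm x hx).2 (by
    rintro ⟨o, ho, hEo⟩
    refine h ⟨o, ho, fun p hp => ?_⟩
    obtain ⟨i, rfl⟩ := (hxE p).1 hp
    exact hEo i)
  rw [card_pw_conj E hg, smul_eq_of_enum hxE h1 h2, card_pw_fixK _ (by decide), card_out]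

/-- `M24` induces the full symmetric group on six points -/
theorem sym_six (E : Finset GolayPt) (hE : E.card = 6) (σ : Equiv.Perm ↥E) : ∃ g ∈ M24, ∀ p : ↥E, g p = σ p := by
  obtain ⟨x, hx, hxE⟩ := enum6 E hE
  have hm : ∀ i, x i ∈ E := fun i => (hxE _).2 ⟨i, rfl⟩
  obtain ⟨g, hg, h⟩ := six_trans x (fun i => (σ ⟨x i, hm i⟩ : GolayPt)) hx (by
    intro i j hij
    have := σ.injective (Subtype.ext hij)
    exact hx (congrArg Subtype.val this)) (by
    constructor
    · rintro ⟨o, ho, h⟩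
      refine ⟨o, ho, fun i => ?_⟩
      obtain ⟨j, hj⟩ := (hxE _).1 (σ ⟨x i, hm i⟩).2
      show ((σ ⟨x i, hm i⟩ : ↥E) : GolayPt) ∈ o
      rw [← hj]; exact h j
    · rintro ⟨o, ho, h⟩
      refine ⟨o, ho, fun i => ?_⟩
      obtain ⟨j, hj⟩ := (hxE _).1 (σ.symm ⟨x i, hm i⟩).2
      have h2 := h j
      have h3 : (⟨x j, hm j⟩ : ↥E) = σ.symm ⟨x i, hm i⟩ := Subtype.ext hj
      simp only [h3, Equiv.apply_symm_apply] at h2
      exact h2)
  refine ⟨g, hg, fun p => ?_⟩
  obtain ⟨i, hi⟩ := (hxE _).1 p.2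
  have h3 : p = ⟨x i, hm i⟩ := Subtype.ext hi.symm
  rw [h3]
  exact h i

/-- the action of a setwise stabiliser on the set -/
noncomputable def resHom (E : Finset GolayPt) : ↥(M24 ⊓ MulAction.stabilizer (Equiv.Perm GolayPt) E) →* Equiv.Perm ↥E :=
  MonoidHom.mk' (fun g => (g : Equiv.Perm GolayPt).subtypePerm (fun p => by
    have h : (g : Equiv.Perm GolayPt) • E = E := g.2.2
    constructor
    · intro hp
      have : (g : Equiv.Perm GolayPt) • p ∈ (g : Equiv.Perm GolayPt) • E := by rw [h]; exact hp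
      exact (Finset.smul_mem_smul_finset_iff _).1 this
    · intro hp
      have : (g : Equiv.Perm GolayPt) • p ∈ (g : Equiv.Perm GolayPt) • E := Finset.smul_mem_smul_finset hp
      rw [h] at this
      exact this)) (fun g g' => by ext p; rfl)

theorem resHom_apply (E : Finset GolayPt) (g : ↥(M24 ⊓ MulAction.stabilizer (Equiv.Perm GolayPt) E)) (p : ↥E) :
    ((resHom E g p : ↥E) : GolayPt) = (g : Equiv.Perm GolayPt) p := rfl

theorem card_stab6 {E : Finset GolayPt} (hE : E.card = 6) :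
    Nat.card ↥(M24 ⊓ MulAction.stabilizer (Equiv.Perm GolayPt) E) =
      Nat.card {g : Equiv.Perm GolayPt // g ∈ M24 ∧ ∀ p ∈ E, g p = p} * 720 := by
  have hsurj : Function.Surjective (resHom E) := by
    intro σ
    obtain ⟨g, hg, h⟩ := sym_six E hE σ
    have hst : g • E = E := by
      ext p
      rw [Finset.mem_smul_finset]
      constructor
      · rintro ⟨q, hq, rfl⟩
        have := h ⟨q, hq⟩
        show g q ∈ E
        rw [show g q = _ from this]
        exact (σ ⟨q, hq⟩).2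
      · intro hp
        refine ⟨σ.symm ⟨p, hp⟩, (σ.symm ⟨p, hp⟩).2, ?_⟩
        have := h (σ.symm ⟨p, hp⟩)
        rw [Equiv.apply_symm_apply] at this
        exact this
    refine ⟨⟨g, hg, hst⟩, ?_⟩
    apply Equiv.ext
    intro p
    exact Subtype.ext (h p)
  have h720 : Nat.card (Equiv.Perm ↥E) = 720 := by
    rw [Nat.card_perm, Nat.card_eq_fintype_card, Fintype.card_coe, hE]; rfl
  rw [← Subgroup.card_mul_index (resHom E).ker, Subgroup.index_ker, MonoidHom.range_eq_top.2 hsurj,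
    Subgroup.card_top, h720]
  congr 1
  apply Nat.card_congr
  refine ⟨fun g => ⟨g.1.1, g.1.2.1, fun p hp => ?_⟩, fun g => ⟨⟨g.1, g.2.1, ?_⟩, ?_⟩, fun g => rfl, fun g => rfl⟩
  · have h1 : resHom E g.1 = 1 := g.2
    have h2 := congrArg (fun f : Equiv.Perm ↥E => ((f ⟨p, hp⟩ : ↥E) : GolayPt)) h1
    exact h2
  · show g.1 • E = E
    ext p
    rw [Finset.mem_smul_finset]
    constructor
    · rintro ⟨q, hq, rfl⟩
      show g.1 q ∈ E
      rw [g.2.2 q hq]; exact hq
    · intro hp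
      exact ⟨p, hp, g.2.2 p hp⟩
  · rw [MonoidHom.mem_ker]
    apply Equiv.ext
    intro p
    exact Subtype.ext (g.2.2 p p.2)

end Cfsg.Agent.H28.Six
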