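import Cfsg.Agent.H8_CS

set_option autoImplicit false
set_option maxRecDepth 1000000

namespace Cfsg.Agent.H8.SpC3

open CE CS

def ic : ℕ := nat_lit 205163983024656

def rels : List (List ℕ) := [[nat_lit 1, nat_lit 2, nat_lit 1, nat_lit 2, nat_lit 1, nat_lit 2],
  [nat_lit 1, nat_lit 3, nat_lit 1, nat_lit 3],
  [nat_lit 1, nat_lit 4, nat_lit 1, nat_lit 4],
  [nat_lit 1, nat_lit 5, nat_lit 1, nat_lit 5],
  [nat_lit 1, nat_lit 6, nat_lit 1, nat_lit 6],
  [nat_lit 1, nat_lit 7, nat_lit 1, nat_lit 7],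
  [nat_lit 1, nat_lit 8, nat_lit 1, nat_lit 8],
  [nat_lit 1, nat_lit 9, nat_lit 1, nat_lit 9],
  [nat_lit 1, nat_lit 10, nat_lit 1, nat_lit 10],
  [nat_lit 2, nat_lit 3, nat_lit 2, nat_lit 3, nat_lit 2, nat_lit 3],
  [nat_lit 2, nat_lit 4, nat_lit 2, nat_lit 4],
  [nat_lit 2, nat_lit 5, nat_lit 2, nat_lit 5],
  [nat_lit 2, nat_lit 6, nat_lit 2, nat_lit 6],
  [nat_lit 2, nat_lit 7, nat_lit 2, nat_lit 7],
  [nat_lit 2, nat_lit 8, nat_lit 2, nat_lit 8],
  [nat_lit 2, nat_lit 9, nat_lit 2, nat_lit 9],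
  [nat_lit 2, nat_lit 10, nat_lit 2, nat_lit 10],
  [nat_lit 3, nat_lit 4, nat_lit 3, nat_lit 4, nat_lit 3, nat_lit 4],
  [nat_lit 3, nat_lit 5, nat_lit 3, nat_lit 5],
  [nat_lit 3, nat_lit 6, nat_lit 3, nat_lit 6],
  [nat_lit 3, nat_lit 7, nat_lit 3, nat_lit 7],
  [nat_lit 3, nat_lit 8, nat_lit 3, nat_lit 8],
  [nat_lit 3, nat_lit 9, nat_lit 3, nat_lit 9],
  [nat_lit 3, nat_lit 10, nat_lit 3, nat_lit 10],
  [nat_lit 4, nat_lit 5, nat_lit 4, nat_lit 5, nat_lit 4, nat_lit 5],
  [nat_lit 4, nat_lit 6, nat_lit 4, nat_lit 6],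
  [nat_lit 4, nat_lit 7, nat_lit 4, nat_lit 7],
  [nat_lit 4, nat_lit 8, nat_lit 4, nat_lit 8],
  [nat_lit 4, nat_lit 9, nat_lit 4, nat_lit 9, nat_lit 4, nat_lit 9],
  [nat_lit 4, nat_lit 10, nat_lit 4, nat_lit 10],
  [nat_lit 5, nat_lit 6, nat_lit 5, nat_lit 6, nat_lit 5, nat_lit 6],
  [nat_lit 5, nat_lit 7, nat_lit 5, nat_lit 7],
  [nat_lit 5, nat_lit 8, nat_lit 5, nat_lit 8],
  [nat_lit 5, nat_lit 9, nat_lit 5, nat_lit 9],
  [nat_lit 5, nat_lit 10, nat_lit 5, nat_lit 10],
  [nat_lit 6, nat_lit 7, nat_lit 6, nat_lit 7, nat_lit 6, nat_lit 7],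
  [nat_lit 6, nat_lit 8, nat_lit 6, nat_lit 8],
  [nat_lit 6, nat_lit 9, nat_lit 6, nat_lit 9],
  [nat_lit 6, nat_lit 10, nat_lit 6, nat_lit 10],
  [nat_lit 7, nat_lit 8, nat_lit 7, nat_lit 8, nat_lit 7, nat_lit 8],
  [nat_lit 7, nat_lit 9, nat_lit 7, nat_lit 9],
  [nat_lit 7, nat_lit 10, nat_lit 7, nat_lit 10],
  [nat_lit 8, nat_lit 9, nat_lit 8, nat_lit 9],
  [nat_lit 8, nat_lit 10, nat_lit 8, nat_lit 10],
  [nat_lit 9, nat_lit 10, nat_lit 9, nat_lit 10, nat_lit 9, nat_lit 10],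
  [nat_lit 4, nat_lit 3, nat_lit 2, nat_lit 4, nat_lit 5, nat_lit 6, nat_lit 4, nat_lit 9, nat_lit 10, nat_lit 4, nat_lit 3, nat_lit 2, nat_lit 4, nat_lit 5, nat_lit 6, nat_lit 4, nat_lit 9, nat_lit 10, nat_lit 4, nat_lit 3, nat_lit 2, nat_lit 4, nat_lit 5, nat_lit 6, nat_lit 4, nat_lit 9, nat_lit 10, nat_lit 4, nat_lit 3, nat_lit 2, nat_lit 4, nat_lit 5, nat_lit 6, nat_lit 4, nat_lit 9, nat_lit 10, nat_lit 4, nat_lit 3, nat_lit 2, nat_lit 4, nat_lit 5, nat_lit 6, nat_lit 4, nat_lit 9, nat_lit 10, nat_lit 4, nat_lit 3, nat_lit 2, nat_lit 4, nat_lit 5, nat_lit 6, nat_lit 4, nat_lit 9, nat_lit 10, nat_lit 4, nat_lit 3, nat_lit 2, nat_lit 4, nat_lit 5, nat_lit 6, nat_lit 4, nat_lit 9, nat_lit 10, nat_lit 4, nat_lit 3, nat_lit 2, nat_lit 4, nat_lit 5, nat_lit 6, nat_lit 4, nat_lit 9, nat_lit 10, nat_lit 4, nat_lit 3, nat_lit 2, nat_lit 4, nat_lit 5, nat_lit 6, nat_lit 4, nat_lit 9, nat_lit 10, nat_lit 4, nat_lit 3, nat_lit 2, nat_lit 4, nat_lit 5, nat_lit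 6, nat_lit 4, nat_lit 9, nat_lit 10],
  [nat_lit 11, nat_lit 2, nat_lit 3, nat_lit 4, nat_lit 5, nat_lit 6, nat_lit 7, nat_lit 9, nat_lit 2, nat_lit 3, nat_lit 4, nat_lit 5, nat_lit 6, nat_lit 7, nat_lit 9, nat_lit 2, nat_lit 3, nat_lit 4, nat_lit 5, nat_lit 6, nat_lit 7, nat_lit 9, nat_lit 2, nat_lit 3, nat_lit 4, nat_lit 5, nat_lit 6, nat_lit 7, nat_lit 9, nat_lit 2, nat_lit 3, nat_lit 4, nat_lit 5, nat_lit 6, nat_lit 7, nat_lit 9, nat_lit 2, nat_lit 3, nat_lit 4, nat_lit 5, nat_lit 6, nat_lit 7, nat_lit 9, nat_lit 2, nat_lit 3, nat_lit 4, nat_lit 5, nat_lit 6, nat_lit 7, nat_lit 9, nat_lit 2, nat_lit 3, nat_lit 4, nat_lit 5, nat_lit 6, nat_lit 7, nat_lit 9, nat_lit 2, nat_lit 3, nat_lit 4, nat_lit 5, nat_lit 6, nat_lit 7, nat_lit 9],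
  [nat_lit 11, nat_lit 1, nat_lit 11, nat_lit 1],
  [nat_lit 11, nat_lit 2, nat_lit 11, nat_lit 2],
  [nat_lit 11, nat_lit 3, nat_lit 11, nat_lit 3],
  [nat_lit 11, nat_lit 4, nat_lit 11, nat_lit 4],
  [nat_lit 11, nat_lit 5, nat_lit 11, nat_lit 5],
  [nat_lit 11, nat_lit 6, nat_lit 11, nat_lit 6],
  [nat_lit 11, nat_lit 7, nat_lit 11, nat_lit 7],
  [nat_lit 11, nat_lit 9, nat_lit 11, nat_lit 9],
  [nat_lit 11, nat_lit 10, nat_lit 11, nat_lit 10]]

def lets : Wd := (.cons (nat_lit 1) (nat_lit 0x100000) (.cons (nat_lit 2) (nat_lit 0x200000) (.cons (nat_lit 3) (nat_lit 0x300000) (.cons (nat_lit 4) (nat_lit 0x400000) (.cons (nat_lit 5) (nat_lit 0x500000) (.cons (nat_lit 6) (nat_lit 0x600000) (.cons (nat_lit 7) (nat_lit 0x700000) (.cons (nat_lit 8) (nat_lit 0x800000) (.cons (nat_lit 9) (nat_lit 0x900000) (.cons (nat_lit 10) (nat_lit 0xa00000) (.cons (nat_lit 11) (nat_lit 0xb00000) .nil)))))))))))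

def L : List ℕ := [nat_lit 1, nat_lit 2, nat_lit 3, nat_lit 4, nat_lit 5, nat_lit 6, nat_lit 7, nat_lit 9, nat_lit 10, nat_lit 11]

def rt : RS :=
 (.nd (nat_lit 61)
 (.nd (nat_lit 17)
 (.nd (nat_lit 8)
 (.nd (nat_lit 5)
 (.nd (nat_lit 3)
 (.nd (nat_lit 2)
 (.lf (nat_lit 33) (nat_lit 1) (nat_lit 8) (nat_lit 0x800000) (.cons (nat_lit 5) (nat_lit 0x500000) (.cons (nat_lit 8) (nat_lit 0x800000) (.cons (nat_lit 5) (nat_lit 0x500000) .nil))))
 (.lf (nat_lit 31) (nat_lit 1) (nat_lit 6) (nat_lit 0x600000) (.cons (nat_lit 5) (nat_lit 0x500000) (.cons (nat_lit 6) (nat_lit 0x600000) (.cons (nat_lit 5) (nat_lit 0x500000) (.cons (nat_lit 6) (nat_lit 0x600000) (.cons (nat_lit 5) (nat_lit 0x500000) .nil)))))))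
 (.nd (nat_lit 4)
 (.lf (nat_lit 18) (nat_lit 2) (nat_lit 3) (nat_lit 0x300000) (.cons (nat_lit 4) (nat_lit 0x400000) (.cons (nat_lit 3) (nat_lit 0x300000) (.cons (nat_lit 4) (nat_lit 0x400000) (.cons (nat_lit 3) (nat_lit 0x300000) (.cons (nat_lit 4) (nat_lit 0x400000) .nil))))))
 (.lf (nat_lit 8) (nat_lit 2) (nat_lit 1) (nat_lit 0x100000) (.cons (nat_lit 9) (nat_lit 0x900000) (.cons (nat_lit 1) (nat_lit 0x100000) (.cons (nat_lit 9) (nat_lit 0x900000) .nil))))))
 (.nd (nat_lit 7)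
 (.nd (nat_lit 6)
 (.lf (nat_lit 0) (nat_lit 0) (nat_lit 0) (nat_lit 0) (.cons (nat_lit 6) (nat_lit 0x600000) (.cons (nat_lit 0) (nat_lit 0) (.cons (nat_lit 6) (nat_lit 0x600000) .nil))))
 (.lf (nat_lit 4) (nat_lit 2) (nat_lit 1) (nat_lit 0x100000) (.cons (nat_lit 5) (nat_lit 0x500000) (.cons (nat_lit 1) (nat_lit 0x100000) (.cons (nat_lit 5) (nat_lit 0x500000) .nil)))))
 (.lf (nat_lit 13) (nat_lit 2) (nat_lit 2) (nat_lit 0x200000) (.cons (nat_lit 6) (nat_lit 0x600000) (.cons (nat_lit 2) (nat_lit 0x200000) (.cons (nat_lit 6) (nat_lit 0x600000) .nil))))))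
 (.nd (nat_lit 11)
 (.nd (nat_lit 9)
 (.lf (nat_lit 11) (nat_lit 2) (nat_lit 2) (nat_lit 0x200000) (.cons (nat_lit 4) (nat_lit 0x400000) (.cons (nat_lit 2) (nat_lit 0x200000) (.cons (nat_lit 4) (nat_lit 0x400000) .nil))))
 (.nd (nat_lit 10)
 (.lf (nat_lit 2) (nat_lit 2) (nat_lit 1) (nat_lit 0x100000) (.cons (nat_lit 3) (nat_lit 0x300000) (.cons (nat_lit 1) (nat_lit 0x100000) (.cons (nat_lit 3) (nat_lit 0x300000) .nil))))
 (.lf (nat_lit 21) (nat_lit 1) (nat_lit 7) (nat_lit 0x700000) (.cons (nat_lit 3) (nat_lit 0x300000) (.cons (nat_lit 7) (nat_lit 0x700000) (.cons (nat_lit 3) (nat_lit 0x300000) .nil))))))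
 (.nd (nat_lit 13)
 (.nd (nat_lit 12)
 (.lf (nat_lit 20) (nat_lit 1) (nat_lit 6) (nat_lit 0x600000) (.cons (nat_lit 3) (nat_lit 0x300000) (.cons (nat_lit 6) (nat_lit 0x600000) (.cons (nat_lit 3) (nat_lit 0x300000) .nil))))
 (.lf (nat_lit 43) (nat_lit 2) (nat_lit 8) (nat_lit 0x800000) (.cons (nat_lit 9) (nat_lit 0x900000) (.cons (nat_lit 8) (nat_lit 0x800000) (.cons (nat_lit 9) (nat_lit 0x900000) .nil)))))
 (.nd (nat_lit 15)
 (.nd (nat_lit 14)
 (.lf (nat_lit 7) (nat_lit 2) (nat_lit 1) (nat_lit 0x100000) (.cons (nat_lit 8) (nat_lit 0x800000) (.cons (nat_lit 1) (nat_lit 0x100000) (.cons (nat_lit 8) (nat_lit 0x800000) .nil))))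
 (.lf (nat_lit 40) (nat_lit 2) (nat_lit 7) (nat_lit 0x700000) (.cons (nat_lit 8) (nat_lit 0x800000) (.cons (nat_lit 7) (nat_lit 0x700000) (.cons (nat_lit 8) (nat_lit 0x800000) (.cons (nat_lit 7) (nat_lit 0x700000) (.cons (nat_lit 8) (nat_lit 0x800000) .nil)))))))
 (.nd (nat_lit 16)
 (.lf (nat_lit 51) (nat_lit 2) (nat_lit 11) (nat_lit 0xb00000) (.cons (nat_lit 4) (nat_lit 0x400000) (.cons (nat_lit 11) (nat_lit 0xb00000) (.cons (nat_lit 4) (nat_lit 0x400000) .nil))))
 (.lf (nat_lit 22) (nat_lit 1) (nat_lit 8) (nat_lit 0x800000) (.cons (nat_lit 3) (nat_lit 0x300000) (.cons (nat_lit 8) (nat_lit 0x800000) (.cons (nat_lit 3) (nat_lit 0x300000) .nil)))))))))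
 (.nd (nat_lit 49)
 (.nd (nat_lit 28)
 (.nd (nat_lit 21)
 (.nd (nat_lit 19)
 (.nd (nat_lit 18)
 (.lf (nat_lit 19) (nat_lit 1) (nat_lit 5) (nat_lit 0x500000) (.cons (nat_lit 3) (nat_lit 0x300000) (.cons (nat_lit 5) (nat_lit 0x500000) (.cons (nat_lit 3) (nat_lit 0x300000) .nil))))
 (.lf (nat_lit 29) (nat_lit 2) (nat_lit 4) (nat_lit 0x400000) (.cons (nat_lit 9) (nat_lit 0x900000) (.cons (nat_lit 4) (nat_lit 0x400000) (.cons (nat_lit 9) (nat_lit 0x900000) (.cons (nat_lit 4) (nat_lit 0x400000) (.cons (nat_lit 9) (nat_lit 0x900000) .nil)))))))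
 (.nd (nat_lit 20)
 (.lf (nat_lit 14) (nat_lit 1) (nat_lit 7) (nat_lit 0x700000) (.cons (nat_lit 2) (nat_lit 0x200000) (.cons (nat_lit 7) (nat_lit 0x700000) (.cons (nat_lit 2) (nat_lit 0x200000) .nil))))
 (.lf (nat_lit 0) (nat_lit 0) (nat_lit 0) (nat_lit 0) (.cons (nat_lit 5) (nat_lit 0x500000) (.cons (nat_lit 0) (nat_lit 0) (.cons (nat_lit 5) (nat_lit 0x500000) .nil))))))
 (.nd (nat_lit 24)
 (.nd (nat_lit 22)
 (.lf (nat_lit 0) (nat_lit 0) (nat_lit 0) (nat_lit 0) (.cons (nat_lit 1) (nat_lit 0x100000) (.cons (nat_lit 0) (nat_lit 0) (.cons (nat_lit 1) (nat_lit 0x100000) .nil))))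
 (.nd (nat_lit 23)
 (.lf (nat_lit 53) (nat_lit 2) (nat_lit 11) (nat_lit 0xb00000) (.cons (nat_lit 6) (nat_lit 0x600000) (.cons (nat_lit 11) (nat_lit 0xb00000) (.cons (nat_lit 6) (nat_lit 0x600000) .nil))))
 (.lf (nat_lit 50) (nat_lit 2) (nat_lit 11) (nat_lit 0xb00000) (.cons (nat_lit 3) (nat_lit 0x300000) (.cons (nat_lit 11) (nat_lit 0xb00000) (.cons (nat_lit 3) (nat_lit 0x300000) .nil))))))
 (.nd (nat_lit 26)
 (.nd (nat_lit 25)
 (.lf (nat_lit 15) (nat_lit 1) (nat_lit 8) (nat_lit 0x800000) (.cons (nat_lit 2) (nat_lit 0x200000) (.cons (nat_lit 8) (nat_lit 0x800000) (.cons (nat_lit 2) (nat_lit 0x200000) .nil))))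
 (.lf (nat_lit 49) (nat_lit 2) (nat_lit 11) (nat_lit 0xb00000) (.cons (nat_lit 2) (nat_lit 0x200000) (.cons (nat_lit 11) (nat_lit 0xb00000) (.cons (nat_lit 2) (nat_lit 0x200000) .nil)))))
 (.nd (nat_lit 27)
 (.lf (nat_lit 3) (nat_lit 1) (nat_lit 4) (nat_lit 0x400000) (.cons (nat_lit 1) (nat_lit 0x100000) (.cons (nat_lit 4) (nat_lit 0x400000) (.cons (nat_lit 1) (nat_lit 0x100000) .nil))))
 (.lf (nat_lit 4) (nat_lit 1) (nat_lit 5) (nat_lit 0x500000) (.cons (nat_lit 1) (nat_lit 0x100000) (.cons (nat_lit 5) (nat_lit 0x500000) (.cons (nat_lit 1) (nat_lit 0x100000) .nil))))))))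
 (.nd (nat_lit 40)
 (.nd (nat_lit 32)
 (.nd (nat_lit 30)
 (.nd (nat_lit 29)
 (.lf (nat_lit 5) (nat_lit 1) (nat_lit 6) (nat_lit 0x600000) (.cons (nat_lit 1) (nat_lit 0x100000) (.cons (nat_lit 6) (nat_lit 0x600000) (.cons (nat_lit 1) (nat_lit 0x100000) .nil))))
 (.lf (nat_lit 1) (nat_lit 1) (nat_lit 2) (nat_lit 0x200000) (.cons (nat_lit 1) (nat_lit 0x100000) (.cons (nat_lit 2) (nat_lit 0x200000) (.cons (nat_lit 1) (nat_lit 0x100000) (.cons (nat_lit 2) (nat_lit 0x200000) (.cons (nat_lit 1) (nat_lit 0x100000) .nil)))))))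
 (.nd (nat_lit 31)
 (.lf (nat_lit 2) (nat_lit 1) (nat_lit 3) (nat_lit 0x300000) (.cons (nat_lit 1) (nat_lit 0x100000) (.cons (nat_lit 3) (nat_lit 0x300000) (.cons (nat_lit 1) (nat_lit 0x100000) .nil))))
 (.lf (nat_lit 0) (nat_lit 0) (nat_lit 11) (nat_lit 0xb00000) (.cons (nat_lit 0) (nat_lit 0) (.cons (nat_lit 11) (nat_lit 0xb00000) .nil)))))
 (.nd (nat_lit 36)
 (.nd (nat_lit 34)
 (.nd (nat_lit 33)
 (.lf (nat_lit 40) (nat_lit 1) (nat_lit 8) (nat_lit 0x800000) (.cons (nat_lit 7) (nat_lit 0x700000) (.cons (nat_lit 8) (nat_lit 0x800000) (.cons (nat_lit 7) (nat_lit 0x700000) (.cons (nat_lit 8) (nat_lit 0x800000) (.cons (nat_lit 7) (nat_lit 0x700000) .nil))))))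
 (.lf (nat_lit 54) (nat_lit 2) (nat_lit 11) (nat_lit 0xb00000) (.cons (nat_lit 7) (nat_lit 0x700000) (.cons (nat_lit 11) (nat_lit 0xb00000) (.cons (nat_lit 7) (nat_lit 0x700000) .nil)))))
 (.nd (nat_lit 35)
 (.lf (nat_lit 6) (nat_lit 1) (nat_lit 7) (nat_lit 0x700000) (.cons (nat_lit 1) (nat_lit 0x100000) (.cons (nat_lit 7) (nat_lit 0x700000) (.cons (nat_lit 1) (nat_lit 0x100000) .nil))))
 (.lf (nat_lit 7) (nat_lit 1) (nat_lit 8) (nat_lit 0x800000) (.cons (nat_lit 1) (nat_lit 0x100000) (.cons (nat_lit 8) (nat_lit 0x800000) (.cons (nat_lit 1) (nat_lit 0x100000) .nil))))))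
 (.nd (nat_lit 38)
 (.nd (nat_lit 37)
 (.lf (nat_lit 55) (nat_lit 2) (nat_lit 11) (nat_lit 0xb00000) (.cons (nat_lit 9) (nat_lit 0x900000) (.cons (nat_lit 11) (nat_lit 0xb00000) (.cons (nat_lit 9) (nat_lit 0x900000) .nil))))
 (.lf (nat_lit 16) (nat_lit 1) (nat_lit 9) (nat_lit 0x900000) (.cons (nat_lit 2) (nat_lit 0x200000) (.cons (nat_lit 9) (nat_lit 0x900000) (.cons (nat_lit 2) (nat_lit 0x200000) .nil)))))
 (.nd (nat_lit 39)
 (.lf (nat_lit 47) (nat_lit 62) (nat_lit 7) (nat_lit 0x700000) (.cons (nat_lit 6) (nat_lit 0x600000) (.cons (nat_lit 5) (nat_lit 0x500000) (.cons (nat_lit 4) (nat_lit 0x400000) (.cons (nat_lit 3) (nat_lit 0x300000) (.cons (nat_lit 2) (nat_lit 0x200000) (.cons (nat_lit 9) (nat_lit 0x900000) (.cons (nat_lit 7) (nat_lit 0x700000) (.cons (nat_lit 6) (nat_lit 0x600000) (.cons (nat_lit 5) (nat_lit 0x500000) (.cons (nat_lit 4) (nat_lit 0x400000) (.cons (nat_lit 3) (nat_lit 0x300000) (.cons (nat_lit 2) (nat_lit 0x200000) (.cons (nat_lit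 9) (nat_lit 0x900000) (.cons (nat_lit 7) (nat_lit 0x700000) (.cons (nat_lit 6) (nat_lit 0x600000) (.cons (nat_lit 5) (nat_lit 0x500000) (.cons (nat_lit 4) (nat_lit 0x400000) (.cons (nat_lit 3) (nat_lit 0x300000) (.cons (nat_lit 2) (nat_lit 0x200000) (.cons (nat_lit 9) (nat_lit 0x900000) (.cons (nat_lit 7) (nat_lit 0x700000) (.cons (nat_lit 6) (nat_lit 0x600000) (.cons (nat_lit 5) (nat_lit 0x500000) (.cons (nat_lit 4) (nat_lit 0x400000) (.cons (nat_lit 3) (nat_lit 0x300000) (.cons (nat_lit 2) (nat_lit 0x200000) (.cons (nat_lit 9) (nat_lit 0x900000) (.cons (nat_lit 7) (nat_lit 0x700000) (.cons (nat_lit 6) (nat_lit 0x600000) (.cons (nat_lit 5) (nat_lit 0x500000) (.cons (nat_lit 4) (nat_lit 0x400000) (.cons (nat_lit 3) (nat_lit 0x300000) (.cons (nat_lit 2) (nat_lit 0x200000) (.cons (nat_lit 9) (nat_lit 0x900000) (.cons (nat_lit 7) (nat_lit 0x700000) (.cons (nat_lit 6) (nat_lit 0x600000) (.cons (nat_lit 5) (nat_lit 0x500000) (.cons (nat_lit 4) (nat_lit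 0x400000) (.cons (nat_lit 3) (nat_lit 0x300000) (.cons (nat_lit 2) (nat_lit 0x200000) (.cons (nat_lit 9) (nat_lit 0x900000) (.cons (nat_lit 7) (nat_lit 0x700000) (.cons (nat_lit 6) (nat_lit 0x600000) (.cons (nat_lit 5) (nat_lit 0x500000) (.cons (nat_lit 4) (nat_lit 0x400000) (.cons (nat_lit 3) (nat_lit 0x300000) (.cons (nat_lit 2) (nat_lit 0x200000) (.cons (nat_lit 9) (nat_lit 0x900000) (.cons (nat_lit 7) (nat_lit 0x700000) (.cons (nat_lit 6) (nat_lit 0x600000) (.cons (nat_lit 5) (nat_lit 0x500000) (.cons (nat_lit 4) (nat_lit 0x400000) (.cons (nat_lit 3) (nat_lit 0x300000) (.cons (nat_lit 2) (nat_lit 0x200000) (.cons (nat_lit 9) (nat_lit 0x900000) (.cons (nat_lit 7) (nat_lit 0x700000) (.cons (nat_lit 6) (nat_lit 0x600000) (.cons (nat_lit 5) (nat_lit 0x500000) (.cons (nat_lit 4) (nat_lit 0x400000) (.cons (nat_lit 3) (nat_lit 0x300000) (.cons (nat_lit 2) (nat_lit 0x200000) (.cons (nat_lit 11) (nat_lit 0xb00000) (.cons (nat_lit 9) (nat_lit 0x900000) .nil))))))))))))))))))))))))))))))))))))))))))))))))))))))))))))))))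
 (.lf (nat_lit 41) (nat_lit 3) (nat_lit 9) (nat_lit 0x900000) (.cons (nat_lit 7) (nat_lit 0x700000) (.cons (nat_lit 9) (nat_lit 0x900000) (.cons (nat_lit 7) (nat_lit 0x700000) .nil))))))))
 (.nd (nat_lit 48)
 (.nd (nat_lit 44)
 (.nd (nat_lit 42)
 (.nd (nat_lit 41)
 (.lf (nat_lit 33) (nat_lit 3) (nat_lit 8) (nat_lit 0x800000) (.cons (nat_lit 5) (nat_lit 0x500000) (.cons (nat_lit 8) (nat_lit 0x800000) (.cons (nat_lit 5) (nat_lit 0x500000) .nil))))
 (.lf (nat_lit 22) (nat_lit 0) (nat_lit 0) (nat_lit 0) (.cons (nat_lit 8) (nat_lit 0x800000) (.cons (nat_lit 3) (nat_lit 0x300000) (.cons (nat_lit 8) (nat_lit 0x800000) (.cons (nat_lit 3) (nat_lit 0x300000) .nil))))))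
 (.nd (nat_lit 43)
 (.lf (nat_lit 0) (nat_lit 0) (nat_lit 7) (nat_lit 0x700000) (.cons (nat_lit 0) (nat_lit 0) (.cons (nat_lit 7) (nat_lit 0x700000) .nil)))
 (.lf (nat_lit 103) (nat_lit 37) (nat_lit 0) (nat_lit 0) (.cons (nat_lit 7) (nat_lit 0x700000) (.cons (nat_lit 9) (nat_lit 0x900000) (.cons (nat_lit 2) (nat_lit 0x200000) (.cons (nat_lit 3) (nat_lit 0x300000) (.cons (nat_lit 4) (nat_lit 0x400000) (.cons (nat_lit 5) (nat_lit 0x500000) (.cons (nat_lit 6) (nat_lit 0x600000) (.cons (nat_lit 7) (nat_lit 0x700000) (.cons (nat_lit 9) (nat_lit 0x900000) (.cons (nat_lit 2) (nat_lit 0x200000) (.cons (nat_lit 3) (nat_lit 0x300000) (.cons (nat_lit 4) (nat_lit 0x400000) (.cons (nat_lit 5) (nat_lit 0x500000) (.cons (nat_lit 6) (nat_lit 0x600000) (.cons (nat_lit 7) (nat_lit 0x700000) (.cons (nat_lit 9) (nat_lit 0x900000) (.cons (nat_lit 2) (nat_lit 0x200000) (.cons (nat_lit 3) (nat_lit 0x300000) (.cons (nat_lit 4) (nat_lit 0x400000) (.cons (nat_lit 5) (nat_lit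 0x500000) (.cons (nat_lit 6) (nat_lit 0x600000) (.cons (nat_lit 7) (nat_lit 0x700000) (.cons (nat_lit 9) (nat_lit 0x900000) (.cons (nat_lit 2) (nat_lit 0x200000) (.cons (nat_lit 3) (nat_lit 0x300000) (.cons (nat_lit 4) (nat_lit 0x400000) (.cons (nat_lit 5) (nat_lit 0x500000) (.cons (nat_lit 6) (nat_lit 0x600000) (.cons (nat_lit 7) (nat_lit 0x700000) (.cons (nat_lit 9) (nat_lit 0x900000) (.cons (nat_lit 2) (nat_lit 0x200000) (.cons (nat_lit 3) (nat_lit 0x300000) (.cons (nat_lit 4) (nat_lit 0x400000) (.cons (nat_lit 5) (nat_lit 0x500000) (.cons (nat_lit 6) (nat_lit 0x600000) (.cons (nat_lit 7) (nat_lit 0x700000) (.cons (nat_lit 9) (nat_lit 0x900000) (.cons (nat_lit 11) (nat_lit 0xb00000) (.cons (nat_lit 2) (nat_lit 0x200000) (.cons (nat_lit 3) (nat_lit 0x300000) (.cons (nat_lit 4) (nat_lit 0x400000) (.cons (nat_lit 5) (nat_lit 0x500000) (.cons (nat_lit 6) (nat_lit 0x600000) (.cons (nat_lit 7) (nat_lit 0x700000) (.cons (nat_lit 9) (nat_lit 0x900000) (.cons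 (nat_lit 2) (nat_lit 0x200000) (.cons (nat_lit 3) (nat_lit 0x300000) (.cons (nat_lit 4) (nat_lit 0x400000) (.cons (nat_lit 5) (nat_lit 0x500000) (.cons (nat_lit 6) (nat_lit 0x600000) (.cons (nat_lit 7) (nat_lit 0x700000) (.cons (nat_lit 9) (nat_lit 0x900000) (.cons (nat_lit 2) (nat_lit 0x200000) (.cons (nat_lit 3) (nat_lit 0x300000) (.cons (nat_lit 4) (nat_lit 0x400000) (.cons (nat_lit 5) (nat_lit 0x500000) (.cons (nat_lit 6) (nat_lit 0x600000) (.cons (nat_lit 7) (nat_lit 0x700000) (.cons (nat_lit 9) (nat_lit 0x900000) (.cons (nat_lit 2) (nat_lit 0x200000) (.cons (nat_lit 3) (nat_lit 0x300000) (.cons (nat_lit 4) (nat_lit 0x400000) (.cons (nat_lit 5) (nat_lit 0x500000) (.cons (nat_lit 6) (nat_lit 0x600000) .nil)))))))))))))))))))))))))))))))))))))))))))))))))))))))))))))))))))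
 (.nd (nat_lit 46)
 (.nd (nat_lit 45)
 (.lf (nat_lit 52) (nat_lit 3) (nat_lit 5) (nat_lit 0x500000) (.cons (nat_lit 11) (nat_lit 0xb00000) (.cons (nat_lit 5) (nat_lit 0x500000) (.cons (nat_lit 11) (nat_lit 0xb00000) .nil))))
 (.lf (nat_lit 19) (nat_lit 3) (nat_lit 5) (nat_lit 0x500000) (.cons (nat_lit 3) (nat_lit 0x300000) (.cons (nat_lit 5) (nat_lit 0x500000) (.cons (nat_lit 3) (nat_lit 0x300000) .nil)))))
 (.nd (nat_lit 47)
 (.lf (nat_lit 8) (nat_lit 3) (nat_lit 9) (nat_lit 0x900000) (.cons (nat_lit 1) (nat_lit 0x100000) (.cons (nat_lit 9) (nat_lit 0x900000) (.cons (nat_lit 1) (nat_lit 0x100000) .nil))))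
 (.lf (nat_lit 16) (nat_lit 3) (nat_lit 9) (nat_lit 0x900000) (.cons (nat_lit 2) (nat_lit 0x200000) (.cons (nat_lit 9) (nat_lit 0x900000) (.cons (nat_lit 2) (nat_lit 0x200000) .nil)))))))
 (.lf (nat_lit 34) (nat_lit 1) (nat_lit 9) (nat_lit 0x900000) (.cons (nat_lit 5) (nat_lit 0x500000) (.cons (nat_lit 9) (nat_lit 0x900000) (.cons (nat_lit 5) (nat_lit 0x500000) .nil)))))))
 (.nd (nat_lit 57)
 (.nd (nat_lit 51)
 (.nd (nat_lit 50)
 (.lf (nat_lit 28) (nat_lit 1) (nat_lit 8) (nat_lit 0x800000) (.cons (nat_lit 4) (nat_lit 0x400000) (.cons (nat_lit 8) (nat_lit 0x800000) (.cons (nat_lit 4) (nat_lit 0x400000) .nil))))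
 (.lf (nat_lit 18) (nat_lit 1) (nat_lit 4) (nat_lit 0x400000) (.cons (nat_lit 3) (nat_lit 0x300000) (.cons (nat_lit 4) (nat_lit 0x400000) (.cons (nat_lit 3) (nat_lit 0x300000) (.cons (nat_lit 4) (nat_lit 0x400000) (.cons (nat_lit 3) (nat_lit 0x300000) .nil)))))))
 (.nd (nat_lit 52)
 (.lf (nat_lit 16) (nat_lit 2) (nat_lit 2) (nat_lit 0x200000) (.cons (nat_lit 9) (nat_lit 0x900000) (.cons (nat_lit 2) (nat_lit 0x200000) (.cons (nat_lit 9) (nat_lit 0x900000) .nil))))
 (.nd (nat_lit 56)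
 (.nd (nat_lit 54)
 (.nd (nat_lit 53)
 (.lf (nat_lit 43) (nat_lit 3) (nat_lit 9) (nat_lit 0x900000) (.cons (nat_lit 8) (nat_lit 0x800000) (.cons (nat_lit 9) (nat_lit 0x900000) (.cons (nat_lit 8) (nat_lit 0x800000) .nil))))
 (.lf (nat_lit 47) (nat_lit 46) (nat_lit 0) (nat_lit 0) (.cons (nat_lit 4) (nat_lit 0x400000) (.cons (nat_lit 3) (nat_lit 0x300000) (.cons (nat_lit 2) (nat_lit 0x200000) (.cons (nat_lit 9) (nat_lit 0x900000) (.cons (nat_lit 7) (nat_lit 0x700000) (.cons (nat_lit 6) (nat_lit 0x600000) (.cons (nat_lit 5) (nat_lit 0x500000) (.cons (nat_lit 4) (nat_lit 0x400000) (.cons (nat_lit 3) (nat_lit 0x300000) (.cons (nat_lit 2) (nat_lit 0x200000) (.cons (nat_lit 9) (nat_lit 0x900000) (.cons (nat_lit 7) (nat_lit 0x700000) (.cons (nat_lit 6) (nat_lit 0x600000) (.cons (nat_lit 5) (nat_lit 0x500000) (.cons (nat_lit 4) (nat_lit 0x400000) (.cons (nat_lit 3) (nat_lit 0x300000) (.cons (nat_lit 2) (nat_lit 0x200000) (.cons (nat_lit 9) (nat_lit 0x900000)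 (.cons (nat_lit 7) (nat_lit 0x700000) (.cons (nat_lit 6) (nat_lit 0x600000) (.cons (nat_lit 5) (nat_lit 0x500000) (.cons (nat_lit 4) (nat_lit 0x400000) (.cons (nat_lit 3) (nat_lit 0x300000) (.cons (nat_lit 2) (nat_lit 0x200000) (.cons (nat_lit 9) (nat_lit 0x900000) (.cons (nat_lit 7) (nat_lit 0x700000) (.cons (nat_lit 6) (nat_lit 0x600000) (.cons (nat_lit 5) (nat_lit 0x500000) (.cons (nat_lit 4) (nat_lit 0x400000) (.cons (nat_lit 3) (nat_lit 0x300000) (.cons (nat_lit 2) (nat_lit 0x200000) (.cons (nat_lit 9) (nat_lit 0x900000) (.cons (nat_lit 7) (nat_lit 0x700000) (.cons (nat_lit 6) (nat_lit 0x600000) (.cons (nat_lit 5) (nat_lit 0x500000) (.cons (nat_lit 4) (nat_lit 0x400000) (.cons (nat_lit 3) (nat_lit 0x300000) (.cons (nat_lit 2) (nat_lit 0x200000) (.cons (nat_lit 9) (nat_lit 0x900000) (.cons (nat_lit 7) (nat_lit 0x700000) (.cons (nat_lit 6) (nat_lit 0x600000) (.cons (nat_lit 5) (nat_lit 0x500000) (.cons (nat_lit 4) (nat_lit 0x400000) (.cons (nat_lit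 3) (nat_lit 0x300000) (.cons (nat_lit 2) (nat_lit 0x200000) (.cons (nat_lit 11) (nat_lit 0xb00000) (.cons (nat_lit 9) (nat_lit 0x900000) (.cons (nat_lit 7) (nat_lit 0x700000) (.cons (nat_lit 6) (nat_lit 0x600000) (.cons (nat_lit 5) (nat_lit 0x500000) (.cons (nat_lit 4) (nat_lit 0x400000) (.cons (nat_lit 3) (nat_lit 0x300000) (.cons (nat_lit 2) (nat_lit 0x200000) (.cons (nat_lit 9) (nat_lit 0x900000) (.cons (nat_lit 7) (nat_lit 0x700000) (.cons (nat_lit 6) (nat_lit 0x600000) (.cons (nat_lit 5) (nat_lit 0x500000) (.cons (nat_lit 4) (nat_lit 0x400000) (.cons (nat_lit 3) (nat_lit 0x300000) (.cons (nat_lit 2) (nat_lit 0x200000) (.cons (nat_lit 9) (nat_lit 0x900000) (.cons (nat_lit 7) (nat_lit 0x700000) (.cons (nat_lit 6) (nat_lit 0x600000) (.cons (nat_lit 5) (nat_lit 0x500000) .nil))))))))))))))))))))))))))))))))))))))))))))))))))))))))))))))))))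
 (.nd (nat_lit 55)
 (.lf (nat_lit 0) (nat_lit 0) (nat_lit 0) (nat_lit 0) (.cons (nat_lit 9) (nat_lit 0x900000) (.cons (nat_lit 0) (nat_lit 0) (.cons (nat_lit 9) (nat_lit 0x900000) .nil))))
 (.lf (nat_lit 0) (nat_lit 0) (nat_lit 8) (nat_lit 0x800000) (.cons (nat_lit 0) (nat_lit 0) (.cons (nat_lit 8) (nat_lit 0x800000) .nil)))))
 (.lf (nat_lit 6) (nat_lit 2) (nat_lit 1) (nat_lit 0x100000) (.cons (nat_lit 7) (nat_lit 0x700000) (.cons (nat_lit 1) (nat_lit 0x100000) (.cons (nat_lit 7) (nat_lit 0x700000) .nil)))))))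
 (.nd (nat_lit 59)
 (.nd (nat_lit 58)
 (.lf (nat_lit 33) (nat_lit 2) (nat_lit 5) (nat_lit 0x500000) (.cons (nat_lit 8) (nat_lit 0x800000) (.cons (nat_lit 5) (nat_lit 0x500000) (.cons (nat_lit 8) (nat_lit 0x800000) .nil))))
 (.lf (nat_lit 37) (nat_lit 2) (nat_lit 6) (nat_lit 0x600000) (.cons (nat_lit 8) (nat_lit 0x800000) (.cons (nat_lit 6) (nat_lit 0x600000) (.cons (nat_lit 8) (nat_lit 0x800000) .nil)))))
 (.nd (nat_lit 60)
 (.lf (nat_lit 32) (nat_lit 2) (nat_lit 5) (nat_lit 0x500000) (.cons (nat_lit 7) (nat_lit 0x700000) (.cons (nat_lit 5) (nat_lit 0x500000) (.cons (nat_lit 7) (nat_lit 0x700000) .nil))))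
 (.lf (nat_lit 14) (nat_lit 2) (nat_lit 2) (nat_lit 0x200000) (.cons (nat_lit 7) (nat_lit 0x700000) (.cons (nat_lit 2) (nat_lit 0x200000) (.cons (nat_lit 7) (nat_lit 0x700000) .nil)))))))))
 (.nd (nat_lit 82)
 (.nd (nat_lit 73)
 (.nd (nat_lit 66)
 (.nd (nat_lit 63)
 (.nd (nat_lit 62)
 (.lf (nat_lit 32) (nat_lit 1) (nat_lit 7) (nat_lit 0x700000) (.cons (nat_lit 5) (nat_lit 0x500000) (.cons (nat_lit 7) (nat_lit 0x700000) (.cons (nat_lit 5) (nat_lit 0x500000) .nil))))
 (.lf (nat_lit 34) (nat_lit 2) (nat_lit 5) (nat_lit 0x500000) (.cons (nat_lit 9) (nat_lit 0x900000) (.cons (nat_lit 5) (nat_lit 0x500000) (.cons (nat_lit 9) (nat_lit 0x900000) .nil)))))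
 (.nd (nat_lit 64)
 (.lf (nat_lit 29) (nat_lit 1) (nat_lit 9) (nat_lit 0x900000) (.cons (nat_lit 4) (nat_lit 0x400000) (.cons (nat_lit 9) (nat_lit 0x900000) (.cons (nat_lit 4) (nat_lit 0x400000) (.cons (nat_lit 9) (nat_lit 0x900000) (.cons (nat_lit 4) (nat_lit 0x400000) .nil))))))
 (.nd (nat_lit 65)
 (.lf (nat_lit 41) (nat_lit 1) (nat_lit 9) (nat_lit 0x900000) (.cons (nat_lit 7) (nat_lit 0x700000) (.cons (nat_lit 9) (nat_lit 0x900000) (.cons (nat_lit 7) (nat_lit 0x700000) .nil))))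
 (.lf (nat_lit 25) (nat_lit 1) (nat_lit 5) (nat_lit 0x500000) (.cons (nat_lit 4) (nat_lit 0x400000) (.cons (nat_lit 5) (nat_lit 0x500000) (.cons (nat_lit 4) (nat_lit 0x400000) (.cons (nat_lit 5) (nat_lit 0x500000) (.cons (nat_lit 4) (nat_lit 0x400000) .nil)))))))))
 (.nd (nat_lit 70)
 (.nd (nat_lit 68)
 (.nd (nat_lit 67)
 (.lf (nat_lit 36) (nat_lit 2) (nat_lit 6) (nat_lit 0x600000) (.cons (nat_lit 7) (nat_lit 0x700000) (.cons (nat_lit 6) (nat_lit 0x600000) (.cons (nat_lit 7) (nat_lit 0x700000) (.cons (nat_lit 6) (nat_lit 0x600000) (.cons (nat_lit 7) (nat_lit 0x700000) .nil))))))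
 (.lf (nat_lit 11) (nat_lit 1) (nat_lit 4) (nat_lit 0x400000) (.cons (nat_lit 2) (nat_lit 0x200000) (.cons (nat_lit 4) (nat_lit 0x400000) (.cons (nat_lit 2) (nat_lit 0x200000) .nil)))))
 (.nd (nat_lit 69)
 (.lf (nat_lit 12) (nat_lit 1) (nat_lit 5) (nat_lit 0x500000) (.cons (nat_lit 2) (nat_lit 0x200000) (.cons (nat_lit 5) (nat_lit 0x500000) (.cons (nat_lit 2) (nat_lit 0x200000) .nil))))
 (.lf (nat_lit 13) (nat_lit 1) (nat_lit 6) (nat_lit 0x600000) (.cons (nat_lit 2) (nat_lit 0x200000) (.cons (nat_lit 6) (nat_lit 0x600000) (.cons (nat_lit 2) (nat_lit 0x200000) .nil))))))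
 (.nd (nat_lit 72)
 (.nd (nat_lit 71)
 (.lf (nat_lit 10) (nat_lit 1) (nat_lit 3) (nat_lit 0x300000) (.cons (nat_lit 2) (nat_lit 0x200000) (.cons (nat_lit 3) (nat_lit 0x300000) (.cons (nat_lit 2) (nat_lit 0x200000) (.cons (nat_lit 3) (nat_lit 0x300000) (.cons (nat_lit 2) (nat_lit 0x200000) .nil))))))
 (.lf (nat_lit 0) (nat_lit 0) (nat_lit 0) (nat_lit 0) (.cons (nat_lit 7) (nat_lit 0x700000) (.cons (nat_lit 0) (nat_lit 0) (.cons (nat_lit 7) (nat_lit 0x700000) .nil)))))
 (.lf (nat_lit 15) (nat_lit 2) (nat_lit 2) (nat_lit 0x200000) (.cons (nat_lit 8) (nat_lit 0x800000) (.cons (nat_lit 2) (nat_lit 0x200000) (.cons (nat_lit 8) (nat_lit 0x800000) .nil)))))))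
 (.nd (nat_lit 78)
 (.nd (nat_lit 75)
 (.nd (nat_lit 74)
 (.lf (nat_lit 22) (nat_lit 2) (nat_lit 3) (nat_lit 0x300000) (.cons (nat_lit 8) (nat_lit 0x800000) (.cons (nat_lit 3) (nat_lit 0x300000) (.cons (nat_lit 8) (nat_lit 0x800000) .nil))))
 (.lf (nat_lit 28) (nat_lit 2) (nat_lit 4) (nat_lit 0x400000) (.cons (nat_lit 8) (nat_lit 0x800000) (.cons (nat_lit 4) (nat_lit 0x400000) (.cons (nat_lit 8) (nat_lit 0x800000) .nil)))))
 (.nd (nat_lit 76)
 (.lf (nat_lit 23) (nat_lit 2) (nat_lit 3) (nat_lit 0x300000) (.cons (nat_lit 9) (nat_lit 0x900000) (.cons (nat_lit 3) (nat_lit 0x300000) (.cons (nat_lit 9) (nat_lit 0x900000) .nil))))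
 (.nd (nat_lit 77)
 (.lf (nat_lit 0) (nat_lit 0) (nat_lit 0) (nat_lit 0) (.cons (nat_lit 3) (nat_lit 0x300000) (.cons (nat_lit 0) (nat_lit 0) (.cons (nat_lit 3) (nat_lit 0x300000) .nil))))
 (.lf (nat_lit 43) (nat_lit 1) (nat_lit 9) (nat_lit 0x900000) (.cons (nat_lit 8) (nat_lit 0x800000) (.cons (nat_lit 9) (nat_lit 0x900000) (.cons (nat_lit 8) (nat_lit 0x800000) .nil)))))))
 (.nd (nat_lit 80)
 (.nd (nat_lit 79)
 (.lf (nat_lit 27) (nat_lit 2) (nat_lit 4) (nat_lit 0x400000) (.cons (nat_lit 7) (nat_lit 0x700000) (.cons (nat_lit 4) (nat_lit 0x400000) (.cons (nat_lit 7) (nat_lit 0x700000) .nil))))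
 (.lf (nat_lit 26) (nat_lit 1) (nat_lit 6) (nat_lit 0x600000) (.cons (nat_lit 4) (nat_lit 0x400000) (.cons (nat_lit 6) (nat_lit 0x600000) (.cons (nat_lit 4) (nat_lit 0x400000) .nil)))))
 (.nd (nat_lit 81)
 (.lf (nat_lit 41) (nat_lit 2) (nat_lit 7) (nat_lit 0x700000) (.cons (nat_lit 9) (nat_lit 0x900000) (.cons (nat_lit 7) (nat_lit 0x700000) (.cons (nat_lit 9) (nat_lit 0x900000) .nil))))
 (.lf (nat_lit 38) (nat_lit 2) (nat_lit 6) (nat_lit 0x600000) (.cons (nat_lit 9) (nat_lit 0x900000) (.cons (nat_lit 6) (nat_lit 0x600000) (.cons (nat_lit 9) (nat_lit 0x900000) .nil))))))))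
 (.nd (nat_lit 100)
 (.nd (nat_lit 90)
 (.nd (nat_lit 86)
 (.nd (nat_lit 84)
 (.nd (nat_lit 83)
 (.lf (nat_lit 49) (nat_lit 1) (nat_lit 2) (nat_lit 0x200000) (.cons (nat_lit 11) (nat_lit 0xb00000) (.cons (nat_lit 2) (nat_lit 0x200000) (.cons (nat_lit 11) (nat_lit 0xb00000) .nil))))
 (.lf (nat_lit 51) (nat_lit 1) (nat_lit 4) (nat_lit 0x400000) (.cons (nat_lit 11) (nat_lit 0xb00000) (.cons (nat_lit 4) (nat_lit 0x400000) (.cons (nat_lit 11) (nat_lit 0xb00000) .nil)))))
 (.nd (nat_lit 85)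
 (.lf (nat_lit 52) (nat_lit 1) (nat_lit 5) (nat_lit 0x500000) (.cons (nat_lit 11) (nat_lit 0xb00000) (.cons (nat_lit 5) (nat_lit 0x500000) (.cons (nat_lit 11) (nat_lit 0xb00000) .nil))))
 (.lf (nat_lit 37) (nat_lit 1) (nat_lit 8) (nat_lit 0x800000) (.cons (nat_lit 6) (nat_lit 0x600000) (.cons (nat_lit 8) (nat_lit 0x800000) (.cons (nat_lit 6) (nat_lit 0x600000) .nil))))))
 (.nd (nat_lit 88)
 (.nd (nat_lit 87)
 (.lf (nat_lit 54) (nat_lit 1) (nat_lit 7) (nat_lit 0x700000) (.cons (nat_lit 11) (nat_lit 0xb00000) (.cons (nat_lit 7) (nat_lit 0x700000) (.cons (nat_lit 11) (nat_lit 0xb00000) .nil))))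
 (.lf (nat_lit 25) (nat_lit 2) (nat_lit 4) (nat_lit 0x400000) (.cons (nat_lit 5) (nat_lit 0x500000) (.cons (nat_lit 4) (nat_lit 0x400000) (.cons (nat_lit 5) (nat_lit 0x500000) (.cons (nat_lit 4) (nat_lit 0x400000) (.cons (nat_lit 5) (nat_lit 0x500000) .nil)))))))
 (.nd (nat_lit 89)
 (.lf (nat_lit 23) (nat_lit 1) (nat_lit 9) (nat_lit 0x900000) (.cons (nat_lit 3) (nat_lit 0x300000) (.cons (nat_lit 9) (nat_lit 0x900000) (.cons (nat_lit 3) (nat_lit 0x300000) .nil))))
 (.lf (nat_lit 31) (nat_lit 2) (nat_lit 5) (nat_lit 0x500000) (.cons (nat_lit 6) (nat_lit 0x600000) (.cons (nat_lit 5) (nat_lit 0x500000) (.cons (nat_lit 6) (nat_lit 0x600000) (.cons (nat_lit 5) (nat_lit 0x500000) (.cons (nat_lit 6) (nat_lit 0x600000) .nil)))))))))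
 (.nd (nat_lit 98)
 (.nd (nat_lit 94)
 (.nd (nat_lit 92)
 (.nd (nat_lit 91)
 (.lf (nat_lit 48) (nat_lit 1) (nat_lit 1) (nat_lit 0x100000) (.cons (nat_lit 11) (nat_lit 0xb00000) (.cons (nat_lit 1) (nat_lit 0x100000) (.cons (nat_lit 11) (nat_lit 0xb00000) .nil))))
 (.lf (nat_lit 52) (nat_lit 2) (nat_lit 11) (nat_lit 0xb00000) (.cons (nat_lit 5) (nat_lit 0x500000) (.cons (nat_lit 11) (nat_lit 0xb00000) (.cons (nat_lit 5) (nat_lit 0x500000) .nil)))))
 (.nd (nat_lit 93)
 (.lf (nat_lit 10) (nat_lit 2) (nat_lit 2) (nat_lit 0x200000) (.cons (nat_lit 3) (nat_lit 0x300000) (.cons (nat_lit 2) (nat_lit 0x200000) (.cons (nat_lit 3) (nat_lit 0x300000) (.cons (nat_lit 2) (nat_lit 0x200000) (.cons (nat_lit 3) (nat_lit 0x300000) .nil))))))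
 (.lf (nat_lit 0) (nat_lit 0) (nat_lit 0) (nat_lit 0) (.cons (nat_lit 2) (nat_lit 0x200000) (.cons (nat_lit 0) (nat_lit 0) (.cons (nat_lit 2) (nat_lit 0x200000) .nil))))))
 (.nd (nat_lit 96)
 (.nd (nat_lit 95)
 (.lf (nat_lit 0) (nat_lit 0) (nat_lit 0) (nat_lit 0) (.cons (nat_lit 8) (nat_lit 0x800000) (.cons (nat_lit 0) (nat_lit 0) (.cons (nat_lit 8) (nat_lit 0x800000) .nil))))
 (.lf (nat_lit 0) (nat_lit 0) (nat_lit 0) (nat_lit 0) (.cons (nat_lit 11) (nat_lit 0xb00000) (.cons (nat_lit 0) (nat_lit 0) (.cons (nat_lit 11) (nat_lit 0xb00000) .nil)))))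
 (.nd (nat_lit 97)
 (.lf (nat_lit 0) (nat_lit 0) (nat_lit 5) (nat_lit 0x500000) (.cons (nat_lit 0) (nat_lit 0) (.cons (nat_lit 5) (nat_lit 0x500000) .nil)))
 (.lf (nat_lit 0) (nat_lit 0) (nat_lit 0) (nat_lit 0) (.cons (nat_lit 4) (nat_lit 0x400000) (.cons (nat_lit 0) (nat_lit 0) (.cons (nat_lit 4) (nat_lit 0x400000) .nil)))))))
 (.nd (nat_lit 99)
 (.lf (nat_lit 21) (nat_lit 2) (nat_lit 3) (nat_lit 0x300000) (.cons (nat_lit 7) (nat_lit 0x700000) (.cons (nat_lit 3) (nat_lit 0x300000) (.cons (nat_lit 7) (nat_lit 0x700000) .nil))))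
 (.lf (nat_lit 26) (nat_lit 2) (nat_lit 4) (nat_lit 0x400000) (.cons (nat_lit 6) (nat_lit 0x600000) (.cons (nat_lit 4) (nat_lit 0x400000) (.cons (nat_lit 6) (nat_lit 0x600000) .nil)))))))
 (.nd (nat_lit 104)
 (.nd (nat_lit 102)
 (.nd (nat_lit 101)
 (.lf (nat_lit 19) (nat_lit 2) (nat_lit 3) (nat_lit 0x300000) (.cons (nat_lit 5) (nat_lit 0x500000) (.cons (nat_lit 3) (nat_lit 0x300000) (.cons (nat_lit 5) (nat_lit 0x500000) .nil))))
 (.lf (nat_lit 27) (nat_lit 1) (nat_lit 7) (nat_lit 0x700000) (.cons (nat_lit 4) (nat_lit 0x400000) (.cons (nat_lit 7) (nat_lit 0x700000) (.cons (nat_lit 4) (nat_lit 0x400000) .nil)))))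
 (.nd (nat_lit 103)
 (.lf (nat_lit 3) (nat_lit 2) (nat_lit 1) (nat_lit 0x100000) (.cons (nat_lit 4) (nat_lit 0x400000) (.cons (nat_lit 1) (nat_lit 0x100000) (.cons (nat_lit 4) (nat_lit 0x400000) .nil))))
 (.lf (nat_lit 20) (nat_lit 2) (nat_lit 3) (nat_lit 0x300000) (.cons (nat_lit 6) (nat_lit 0x600000) (.cons (nat_lit 3) (nat_lit 0x300000) (.cons (nat_lit 6) (nat_lit 0x600000) .nil))))))
 (.nd (nat_lit 107)
 (.nd (nat_lit 105)
 (.lf (nat_lit 12) (nat_lit 2) (nat_lit 2) (nat_lit 0x200000) (.cons (nat_lit 5) (nat_lit 0x500000) (.cons (nat_lit 2) (nat_lit 0x200000) (.cons (nat_lit 5) (nat_lit 0x500000) .nil))))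
 (.nd (nat_lit 106)
 (.lf (nat_lit 50) (nat_lit 1) (nat_lit 3) (nat_lit 0x300000) (.cons (nat_lit 11) (nat_lit 0xb00000) (.cons (nat_lit 3) (nat_lit 0x300000) (.cons (nat_lit 11) (nat_lit 0xb00000) .nil))))
 (.lf (nat_lit 53) (nat_lit 1) (nat_lit 6) (nat_lit 0x600000) (.cons (nat_lit 11) (nat_lit 0xb00000) (.cons (nat_lit 6) (nat_lit 0x600000) (.cons (nat_lit 11) (nat_lit 0xb00000) .nil))))))
 (.nd (nat_lit 109)
 (.nd (nat_lit 108)
 (.lf (nat_lit 55) (nat_lit 1) (nat_lit 9) (nat_lit 0x900000) (.cons (nat_lit 11) (nat_lit 0xb00000) (.cons (nat_lit 9) (nat_lit 0x900000) (.cons (nat_lit 11) (nat_lit 0xb00000) .nil))))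
 (.lf (nat_lit 5) (nat_lit 2) (nat_lit 1) (nat_lit 0x100000) (.cons (nat_lit 6) (nat_lit 0x600000) (.cons (nat_lit 1) (nat_lit 0x100000) (.cons (nat_lit 6) (nat_lit 0x600000) .nil)))))
 (.nd (nat_lit 110)
 (.lf (nat_lit 36) (nat_lit 1) (nat_lit 7) (nat_lit 0x700000) (.cons (nat_lit 6) (nat_lit 0x600000) (.cons (nat_lit 7) (nat_lit 0x700000) (.cons (nat_lit 6) (nat_lit 0x600000) (.cons (nat_lit 7) (nat_lit 0x700000) (.cons (nat_lit 6) (nat_lit 0x600000) .nil))))))
 (.lf (nat_lit 38) (nat_lit 1) (nat_lit 9) (nat_lit 0x900000) (.cons (nat_lit 6) (nat_lit 0x600000) (.cons (nat_lit 9) (nat_lit 0x900000) (.cons (nat_lit 6) (nat_lit 0x600000) .nil)))))))))))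

def fc : List ℕ := [nat_lit 0x280000200003000002000060000050000a0000080000f00000d000160000120002200001c0002f00002a0003f0000370005200004a0006900005f0008500007b000a2000092000c40000b3000e20000d7000f20000ea000fb0000f7000ff5000fc000ff6000f8000fc9000fe000fe6000fe000fe7000fe000fe8000f9000fd7000f8000fc4000f4000fc2000f5000fb2000f2000fb4000f1000fab000f6000fa2000ef000f39000f9000f92000ec000f77000f7000f72000ea000f78000eb000f67000e9000f66000f6000f54000e6000f53000f5000f43000f4000f42000e6000f32000e5000f34000e4000f21000e2000f12000e1000f13000f1000f02000e0000ef3000ef000ee2000de000eeb000e8000ed3000ed000ed6000dd000ed5000ed000ed4000ed000e59000ec000ec1000da000eb2000d3000ea1000d7000e95000e9000e98000d2000e92000d1000e86000e8000e87000d0000e76000ce000e75000e7000e67000e6000e69000e6000e66000e6000e65000e6000e53000e5000e54000c8000e51000c9000e42000c8000e43000e4000e32000c7000e34000c6000e24000c4000e17000e1000e19000e1000e01000c3000df2000c1000df3000df000de6000de000de3000be000de7000c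1000dd7000c0000ddb000ce000dc4000dc000dc5000dc000dc6000bd000dc7000dc000dc9000dc000cb5000cb000bc5000bc000bcb000a7000cd0000bc000bdb000a8000a900009c000cf0000bd000bf00008a000b000009e0009f000072000c200008f00097500097000ae5000ae000a75000a7000b9000097000d40000ae000cc0000a700096000077000af00008e000b800005e000d500007200098000079000b1000090000b37000b3000ba00005f000d6000074000d80000b30009900007b000b4000092000bb000061000d90000760009a00007c000b7000095000b68000b6000db8000db000db4000b6000db5000ca000c99000da000da7000ca000da6000da000d97000b7000d83000b4000d74000b3000d66000b4000d55000b1000d43000af000d31000b5000d22000ad000d11000b2000d02000ab000d08000ac000cf1000b0000ce7000aa000cd6000a9000cc1000af000cb6000a8000ca8000ca000c86000c8000c85000c8000c89000c8000c73000c7000c74000a5000c71000a6000c62000a5000c63000c6000c52000a4000c43000a2000c27000a1000c230009f000c19000c1000c11000a0000c03000c0000c09000c0000bf10009f000be4000be000bd70009d000bd10009e000bc9000bc000bc7000bc000bc60009c000b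c2000bc000bb70009a000ba600099000b9500097000b8500098000b720009a000b6300095000b52000b5000b53000b5000b5400094000b5b000a6000b32000b3000b3300092000b39000b3000ae4000ae000ae60008f000ad100093000ac20008d000ab100091000aa80008c000aa4000aa000a870008b000a810008f000a710008e000a760008a000a68000a6000a55000a5000a58000a5000a59000a5000a43000a4000a4100088000a3200087000a33000a3000a2200085000a19000a1000a1300084000a12000a1000a03000830009e7000820009d40009d0009d90009d0009d1000820009c1000800009c70007f0009b20009b0009b30009b0009b60007e0009b70009b0009760007a000974000780009520007c000959000950009450009400094300076000935000930009330009300093b0008800093200093000925000920009220007b00092400092000928000760009120009100091300074000919000910009020007900090700074000909000900008e6000720008e2000770008d1000750008b40008b0008b8000700008b1000730008a1000720008a70006f0008960006e00089100071000888000880008730006b0008770008700087800087000879000870008710006c000863000860008440006800083200069000822000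82000829000820008190006600081700068000807000670007f90007f0007f1000670007f20007f0007e50007e0007e7000640007e1000650007d70007d0007d20007d0007d30007d0007d40007d0007c60007c0007c30007c0007c40007c0007c50007c0007b8000610007a70006000079400079000793000790007970005f0007830006200077900077000777000770007760005e0007620006100076900076000752000750007530005c000757000750007590007500075b0006c000744000740007420005f0007480005c000732000730007340007300073900073000729000720007270005a0007220005e0007120005d00071300071000716000590007010005b0006f10005a0006f8000570006e7000560006e1000590006d1000580006c80006c0006b40006b0006a60006a0006a70006a0006a80006a0006a90006a0006a1000540006860006800068500068000679000670006720005200066200051000657000500006420006400064300064000645000640006460006400064100050000632000630006330006300063400063000635000630006310004f0006290004d0006220006200061500061000613000610006140006100061900061000609000600005f80004b0005e30005e0005e70004a0005d30004c0005d600049000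5d70005d0005c40005c0005c20004b0005c90005c0005b20005b0005b40005b0005b60005b0005b70005b0005b90005b0005bb000540005a90005a0005a8000470005a60005a0005a20004a0005920004900059700046000582000480005830005800057100047000563000560005680004400056100046000551000450005480005400053900053000531000420005380005300053700053000536000530005320005300052300052000513000400005020003f00050500050000506000500004f20003e0004e60004e0004e50004e0004e40004e0004e30004e0004e20004e0004e10003d0004d70004d0004d60003b0004c20004c0004b40004b0004b30004b0004b70004b0004b90004b0004a90004a0004a30004a0004a8000380004930003a00049500049000497000370004870004800048300039000484000480004790004700047b00042000477000470004760004700047200038000462000370004630004600046500046000466000460004680003500045200036000453000450004540004500044100035000433000430004310003400042800042000412000410004150004100041600041000417000410004180004100041100032000404000300003f30002f0003e30002e0003d60003d0003d50003d0003d40003d0003d200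02d0003c20003c0003c60003c0003c50003c0003c40003c0003c30003c0003b50003b0003b40002b0003a40003a0003970003900039200039000389000380003830003800038700038000386000380003730002a00037800028000363000290003640003600036500036000352000280003530003500035500035000356000350003570003500035b0003200034600034000345000340003440003400034300034000342000270003330003300032800032000312000310003180003100031700031000316000310003150003100031400031000305000240002f40002f0002f8000220002e4000230002d3000210002c30002c0002c60002c0002c50002c0002c40002c0002b90002b0002b70001e0002b30002b0002b20002b0002a40002a0002a80001c000292000290002940001d000295000290002830001c0002850002800028600028000287000280002760002700027500027000274000270002730001b000263000260002670002600026600026000265000260002640002600026b0002500025800025000257000250002560002500025500025000254000250002460001f0002350001800021400017000204000200002050002000020600020000201000200001f7000150001e60001e0001e5000150001d20001d0001d30001d00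01d90001d0001c40001c0001c50001c0001c60001c0001c70001c0001b60001b0001b50001b0001b4000130001b20001b0001a40001a0001a50001a0001a60001a0001a70001a0001ab00019000194000190001950001900019600019000197000190001980001900019100019000186000140001790001700017500010000165000160001610001600016600016000162000160001590001500015400015000153000150001520001500013900013000136000130001350000e00013300013000132000130001250001200012b0001100012700012000126000120001220001200011500011000111000110001180001100011700011000116000110001060000b0000f60000f0000f20000f0000f30000f0000f90000f0000f10000f0000e90000e0000e6000090000e40000e0000e30000e0000e20000e0000d60000d0000d20000d0000d30000d0000d70000d0000d90000d0000db0000c0000c60000c0000c30000c0000c70000c0000c80000c0000c10000c0000b7000090000a20000a0000a30000a0000a40000a0000a90000a0000a10000a000087000080000820000800008300008000084000080000890000800008b00007000077000070000730000700007400007000078000070000710000700006200006000063000060000640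0006000065000060000690000600006100006000052000050000530000500005400005000055000050000590000500005b000040000480000400004300004000044000040000450000400004100004000039000030000350000300003400003000033000030000320000300003100003000029000020000260000200002500002000024000020000230000200002200002000021000020000190000100001600001000015000010000140000100001300001000012000010000110000100000b0000000000a000000000090000000000700000000006000000000050000000000400000000003000000000020000000000100000000f79000ff000f75000fe000f69000fd000f38000fc000f06000fb000ee4000fa000eb5000f9000e99000f8000e96000f7000e84000f6000e58000f5000e48000f4000e37000f3000e06000f2000df6000f1000df4000f0000de4000ef000dd5000ee000dc2000ed000d35000ec000d26000eb000d16000ea000d04000e9000ce5000e8000cb2000e7000c88000e6000c77000e5000c67000e4000c56000e3000c36000e2000c16000e1000c14000e0000c05000df000bd5000de000bd2000dd000bc3000dc000b57000db000b55000da000b48000d9000b37000d8000b26000d7000b17000d6000af6000d50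00ae5000d4000ad6000d3000ac4000d2000ab4000d1000aa5000d0000a8b000cf000a82000ce000a7b000cd000a75000cc000a73000cb000a69000ca000a67000c9000a57000c8000a46000c7000a36000c6000a34000c5000a06000c4000a04000c30009eb000c20009d5000c10009d2000c00009cb000bf0009c5000be0009c3000bd0009b4000bc000998000bb000987000ba00096b000b9000966000b8000958000b7000947000b6000936000b5000927000b4000916000b3000914000b2000906000b10008fb000b00008e5000af0008e3000ae0008d4000ad0008c5000ac0008b5000ab0008b2000aa0008ab000a90008a3000a8000894000a7000886000a6000876000a5000874000a4000865000a3000836000a200082b000a1000825000a000080b0009f0008030009e0007f30009d0007e40009c0007d90009b0007c80009a0007b7000990007960009800077b00097000775000960007670009500075600094000754000930007460009200073500091000725000900007230008f0007140008e0007050008d0007020008c0006f30008b0006e40008a0006d9000890006c4000880006a5000870006a2000860006960008500067b00084000675000830006730008200065b00081000654000800006440007f0006390007e000636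0007d0006170007c0005f60007b0005eb0007a0005e5000790005db000780005d4000770005c6000760005b5000750005a5000740005a3000730005940007200058900071000573000700005640006f0005590006e0005560006d0005450006c0005350006b0005330006a0005250006900050b00068000504000670004fb000660004f9000650004e9000640004e7000630004cb000620004b6000610004ab000600004a50005f0004940005e0004890005d0004750005c0004730005b0004640005a000459000590004560005800044400057000439000560004370005500042300054000414000530003f4000520003eb000510003d9000500003d70004f0003c80004e00039b0004d0003990004c0003850004b0003740004a0003690004900036600048000354000470003490004600034700045000339000440003380004300032400042000319000410002eb000400002d90003f0002d70003e0002c80003d0002c10003c00029b0003b0002990003a00029600039000284000380002790003700027700036000269000350002680003400026100033000259000320002510003100023b000300002190002f0002170002e0002080002d0002020002c0001db0002b0001b90002a0001b7000290001a9000280001a8000270001a2000260001920002500018b000240001770002300016900022000168000210001630002000014b0001f00013b0001e0001370001d0001290001c0001280001b0001230001a00011300019000107000180000f8000170000f4000160000eb000150000e7000140000d8000130000d4000120000c4000110000a8000100000a50000f0000880000e0000850000d0000750000c0000680000b0000660000a0000580000900005600008000046000070000370000600002700005000017000040000280000300001b000020000080000100000000000]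

noncomputable def S : ℕ → ℕ := facts (nat_lit 0) (nat_lit 0) fc

theorem rt_chk : rt.chk ic (rels ++ rels.map (invw ic)) = true := by decide +kernel

theorem rels_lt : (rels.all fun w => w.all fun y => Nat.blt y 16) = true := by decide +kernel

theorem s0 : S 0 = 0 := by decide +kernel

theorem defs0 : withF (nat_lit 0) (nat_lit 0) fc (fun S => rangeS (nat_lit 256) (defC S) (nat_lit 9) (nat_lit 1)) = true := by decide +kernel

theorem defs : rangeS (nat_lit 256) (defC S) (nat_lit 9) (nat_lit 1) = true := by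
  have h := defs0
  rw [withF_eq] at h
  exact h

theorem ini0 : withF (nat_lit 0) (nat_lit 0) fc (fun S => initC S L (nat_lit 256)) = true := by decide +kernel

theorem ini : initC S L (nat_lit 256) = true := by
  have h := ini0
  rw [withF_eq] at h
  exact h

theorem lets_ok : letsOk ic (nat_lit 11) lets = true := by decide +kernel

def pc0 : List ℕ := [nat_lit 0xf8c0dc05e2c0611c08e280a0140de240f05012e20161841ce1c220d9a6e19b2179cce15e01304ae10521845fe0c690507be0885016a6e06c0176d5e02ef13307dff4118754dfb620576cdf773174fede778deb74d9f68d274ad334bd9766dd77cdef763f771dc35e3bcdecd333cc8edd6f58d675ace2e93009d1fe46916811fa4390a419007d9fc9bad6b42f330b8ab6a1683276ba304e1d033fd8760dc835de8fe3fc3e3e0f73fc51ddf6f3f0343f8f7d4cf73f802003fb6d3f83d3e76b3f8013e36a3f4503d3633f04a3d7643f0483cb5f3ec073c4f03ec633db5c3e80f3bf5d3e808dbb57d902f3b3553e4683df6ada76a3dc6d3ab513dc073af523dc553a74f3d8653db503d84f39b473d44a3d7483d4493d3443d04939b453d048397433cc3c393423cc4e38b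3e3c86c3873d3c4073c73c3c4673833d3c0083bf3ab9f3a3bc03378dd3b8683a3373b85b3b4dcb84dc3b446377343b4453b7353b4443b7363b443d5b0cd182e36b033b00634f023ac0735f013a86c3a4d0b34d03a44134aff3a431347003a4083a34ed374e3a002342fd3a03d33afa39c4539f3139c44398c8b18c83980e39af63984d39af83983a39af7398390000000000e5bd4e5188c8bd0e5138c9bcce50e0c8bc8e40f0e4bc4e4188c7bc0e301cc6314e318cc430ce218ce1ce73bce4e11b4e1bb0e11b8c3bace0198c1300df1a0dfba8df190decd335cd0de008be2f4de190c1b98de0f4c0b98dd04ccecb4dd064dc2f2b42f0dc0c8dccc0dc044bdb88dc02cdcb8cdc028dcb90dc160cbc90cb0b72fc932f0b0cdcb81fb8b2cbf00533f2b07cbfca8a917ee5ca6fe05697ca2e8054c2c9cb017c8fc9eed132d2c96d32ba9c9c6709bc799d674a829ea7c92a9ea5b56d6b531a2cc9198c73894608e276ac726ac2728f63e82207755d46a5a86adaa61d8659d66595686218f6d1e184e4aa228793a4da32beaf6bfbb82b000000000000000000000000000000000000000000000000000000000000000000000000000000000000000002dec8c6035322180ccc846025f202e45f2bb1fc104cb2b1fbec159bf1e2e005a771d354051e71cb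74142431bc14149cf192e847a7f1835847363170a87bc5adf01492c5706016d5c570813277c50bb17aa4c4cd91787cc4ae011c95c470911eafc46dc176dbc42db2dc29c3b0fc3831c36f9c34282dad836c4ec2cda36c3bc2cca3242732ad7b6ad9b62ad2526a9a66c9ae31171f57d9f87d1cf0e1a16819f0a0266699665d986643571da2609816017f0715b0697a5e5785dc2871dc611c5c1d895abaaf9ea799e27b1f2399baacb60dac28260000000000000000000000000000000000000000000000000000000000000000000000000000000000368b5aacb5368022dc95a90b43640e2d2d5360622ccb235c632d092a7cb1358422c490a74af354592bcae350642d6d134c6c2b6d0348082cacf344662acaa340682b2ce340012c2cb33c5a2aacc338132a6c93346a2beca330062a2c932c0b32ac83280c320a5a44a532042322c73203b322c53204031ec431c67294a431c6329ac331c6c296c23180731ac131867292c23140828abc31067286bb3085627c9e30869306b930430282b8304063009da0c9d30046302b93002527eb72fc5a2f89ca089c2f857276b62f40a27ab72f4092f09b9f09b2f03f00000002f2b22f065272b32f04f2f2b52f0082687c9dc992ec0e2647b9cc982e84225c962e454260799bc962e05926aaf2dc48256a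c2d8622d6a82d4072d6aa2d467250932d46329aa92d4162cea32cc0724aa22cc672cea12cc6e2b88e9748e2b83223e9d2b80b24e9b2b4662348c2b068246982ac06232992a8182aa9a2a84322e962a00a23e972a00923a9429c6622a9529c4f29a93298552948794c872945929690294552968f2946e2929295292290032228e2906621c8628c6828e8d28c642168b28807286892846b21082284692868a2845220c822806420a862780a2747f91c7f27432276852745820a842740920280270661fe812706526e7e26c33000000026e7d26c4b1f87d26c5126e7f26c501ea6f25c6a1e07725c531f26e2543c2566d25440250758b075250591da6b2506724c758b47524c4124e6b8c66b24c032226824c0f24e6c24c082487489874248591ee662480724a67248631da652485524664244681d0732446424662244301e65f240681d2602403d24261240301ca5c2384f1de5e238081d65b2340622c6f87c6f22c321c25922c101ce5a22c091ca57228661be58228651b86d224511c6562240422255220311ac6a21c6421e5221c3d21e5121c0121e5021c301b24f21c062186a8546a218461a067210531a64b20c6820a4b8524b2085c20a4c20858198652046b1a2492045619e492006500000001fc64830641fc3f19e441fc661fe481fc081f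a401f83e190631f8501963f1f8041f463838631f46d1f6431f4071f6421f4671f6411f4631f06180c611f0421f23b1f0621f23a1f04e1f23c1f03b186371ec55182351e8561e45e7f45e1e4571e6361e46417e351e43d18a341e0691dc5d7e45d1dc3f1de321dc6517a331dc4f186301d8071da2f1d86e1d62e1d4681705b1d4641d62b1d43d1d62a1d4301b2291d45b1d05a7c45a1d05717e251d068172271d0011ce25802251cc5c1cc5a7c85a1cc321ce281cc581c8597b0591c83f16a231c86517a241c808176221c4331c6211c44b164581c45116e201c00916a1d1bc6615e1e1bc31158551b85000000001661c1b8041621c1b46c1b21b1b0011ac53798531ac571aa161a80b1aa171a80a1aa181a8101aa1a1a858152191a8091a2101a06a1a2111a05419c507705019c3f14a1219c081460f198521404f194501920a190331920b1904b1920d1903e1920e19051142091900418e0a18c3c18e0b18c6218e0c18c4e18e0d18c3b13e0918c381344c1886b18a06188521844b7344b1845918604184671860518463186021846e182011806b12dff17c01179fe74dfe17803129fc17865131fa1744b1244817451175fb1745017047714471705712df417068171f81703016df473df416c5c16c477184716c3216df516c0b16df616c0a16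df816c58151f716c170000000168466fc461683f11def16831169f01684f129f316808125ee164331184516450121ee16007161ed1606711deb15c66159ea1584b110431580c119e915804115e915438151e81501014c416d44114c3f109e214c6614de314c3114de414c6514de514c4f14de714c08149e06cde014803101df144690fddb14033141dd1403e141de140510f9db13c3c139d91383a139d813839139d71384a139d613849139da138480f43c1380d135d2134560ec391346a131d11303312c386843812c5712dcf12c6412dce12c3d12dd012c3012837670371283f129cc69dcc128030e1cb128310e9ca1244b125c81243e0dc361245012036678361206d0e5ca1206700121c91206311c356583511c3f109c211c0f11dc311c6511dc411c4f0e1c711c080ddbd11833119be1184b119c01183e119c1118510d4341180c0d9bd1143c115be11462115bf1144e0d4331100410dbc10c490d03310c0d109bb10831105ba10433105b61043e105b710451105b810450105b91040c0c831104040c1b1100530bdb00fc4b0b9b00f8620f5ae0f43a0f5ad0f4390f5ac0f44a0b42c0f4480f02c6242c0f01d0f1ae0f01c0f1ad0f01b0f1ac0f01a0f1af0f01e0eda30ec540ada40ec530e9a460da40e8120e4295f8290e46d0e5a50e407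0e0285e8280e03f0e1a2609a20e0030e19f0e0650e1a00e04f0a99b0dc4b0a0270dc0c0a59b0d86200000000d99c0d84e0d99d0d83b0a0260d4330d59a0d44b0d5970d43e0d5980d4510d5990d4500c9950d4240d1980d03a0d1970d0390d1960d04a0d19a0d04909c260d0480cd9a0cc1e0c9940c80c0c4255c0250c41d0c5940c4230c5930c4220c5920c41c0c5910c41b0c5900c41a0918e0c0540bd8d5b98d0bc12088210bc0c08d8d0b84e084200b4490b0205a4200b0460b18a0b0450b18b0b0440b18c0b0430ad830ac6b0781d0ac560ad840ac690ad850ac520a97c5917c0a8120701b0a80c0a57b0a43c0757c0a44e0a57d0a43b0701a0a04b0a1790a03e0a1780a0510a1770a05009d7809c3a09d7909c3909d7a09c4a06c1a09c490981a56c1a098460000000000000997709813099780984509979098440997a0984309576098190957109418095720941309573094450957409444095750944307d6f0906a0616d08c3b05c160844a0801654816080320816c080110816a0800b0816b080090541407c56079630786a0556207854075600743c075610746207564074400701251812070120715f0703e0715c070510715d0705006d5c06c3a06d5f06c3904c1206c4a06d5b06c480681252012068320695f068110695c0680b069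5d0680a0655e068170641150c11064320655a06411065560640b065570640a065580641006559064090514e4fd550604205d5105c4d0400f05c390580f4f00f05841059500586600059540584f05953058080554f0546b0554d054530554c054690554b0545204d4604c4d04d4a04c3a0380d04c3904d4804c4904d4904c480480d4d80d04841045450480f04947048650494a0484f04949048080440c4c40c04441045400446604541044310454204465045440444f02c0a0403a03c0a4ac0a03c0203d3e03c6803d3d03c6403d3b03c3003d3a03c06039350384d024080383a039360384a0393703849039380384803408494080340203538034680353703464035390343d0353503430031340345b0300747c07030020313203064031330303d03130030010312f030060240500c0602c0e0292e028070292d028670292c028630292a0286e0000000029290286c02005458050206d021280200702127020670212602063021240206e01d230201601c0443c0401c6d01d2101c6701d2001c6301d2201c5501d1e01c6c019190183c0191a018620191b0184e0191c0183b0191d018400191801838015120143c0151301462015140144e015150143b015170144001002014210100141801010200110c010620110d0104e0110e0103b0110a0103800d1700c4d00d1500c3900d1400c4a00d1300c4900d1200c4800d1100c0d009100086b0090f0086a0090e008540090d008530090c008690090b008520090a0085a005070044d005050043a0050400439005030044a00502004490050100448005000040d]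

theorem prog0_0 : withF (nat_lit 0) (nat_lit 0) fc (fun S => dedProg S (nat_lit 256) (nat_lit 10) (nat_lit 1023) rt (nat_lit 399) (nat_lit 2048) (nat_lit 4) pc0 (nat_lit 266) (nat_lit 910)) = true := by decide +kernel

theorem prog0 : dedProg S (nat_lit 256) (nat_lit 10) (nat_lit 1023) rt (nat_lit 399) (nat_lit 2048) (nat_lit 4) pc0 (nat_lit 266) (nat_lit 910) = true := by
  have h := prog0_0
  rw [withF_eq] at h
  exact h

theorem facts_ok {G : Type*} [Group G] {x : ℕ → G} {H : Subgroup G}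
    (hic : ∀ y, y < 16 → x (il ic y) = (x y)⁻¹) (h0 : x 0 = 1) (hrels : ∀ w ∈ rels, ev x w = 1)
    (hst : ∀ g, g < (nat_lit 256) + L.length → VF H x (rho x S) (nat_lit 256) S g) :
    ∀ g, g < (nat_lit 910) → VF H x (rho x S) (nat_lit 256) S g := by
  have hv : rt.Valid x ic := RS.valid_of_chk hic h0 (relsAll_ok hic rels_lt hrels) rt rt_chk
  have hn : (nat_lit 256) ≤ 1048576 := Nat.le_of_ble_eq_true (by decide)
  have g0 : ∀ g, g < (nat_lit 266) → VF H x (rho x S) (nat_lit 256) S g := hst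

  have g1 := dedProg_sound (H := H) (ρ := rho x S) hic hn hv prog0 g0
  exact g1

def q0 : Wd := (.cons (nat_lit 11) (nat_lit 0xb00000) (.cons (nat_lit 8) (nat_lit 0x800000) (.cons (nat_lit 11) (nat_lit 0xb00000) (.cons (nat_lit 8) (nat_lit 0x800000) (.cons (nat_lit 11) (nat_lit 0xb00000) (.cons (nat_lit 8) (nat_lit 0x800000) .nil))))))

theorem qr0_0 : withF (nat_lit 0) (nat_lit 0) fc (fun S => wordProg S (nat_lit 910) (nat_lit 10) (nat_lit 1023) q0 (nat_lit 0x402e340200509)) = true := by decide +kernel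

theorem qr0 : wordProg S (nat_lit 910) (nat_lit 10) (nat_lit 1023) q0 (nat_lit 0x402e340200509) = true := by
  have h := qr0_0
  rw [withF_eq] at h
  exact h

theorem word0 {G : Type*} [Group G] {x : ℕ → G} {H : Subgroup G}
    (hic : ∀ y, y < 16 → x (il ic y) = (x y)⁻¹) (h0 : x 0 = 1) (hrels : ∀ w ∈ rels, ev x w = 1)
    (hL : ∀ s ∈ L, x s ∈ H) : ev x [11, 8, 11, 8, 11, 8] ∈ H :=
  word_of (kk := 9) hic h0 hL (by decide) (by decide) (by decide) (by decide)
    s0 defs ini (facts_ok hic h0 hrels) (u := q0) (by decide +kernel) qr0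


end Cfsg.Agent.H8.SpC3
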