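import Mathlib

set_option autoImplicit false

namespace Cfsg.Agent.H29.CVL2

theorem L2 {p : ℕ} [Fact p.Prime] {G : Type*} [Group G] [Finite G] (C : Subgroup G) [C.Normal]
    (P : Subgroup G) (hP : IsPGroup p P) (g : G) (hg : g ∈ Subgroup.normalizer (P : Set G))
    (hgp : (orderOf g).Coprime p) (v : G) (hv : v ∈ P) (k : ℕ)
    (hk : (fun a : G => a * g * a⁻¹ * g⁻¹)^[k] v ∈ C) : v * g * v⁻¹ * g⁻¹ ∈ C := by
  induction k generalizing v with
  | zero =>
    have hvC : v ∈ C := by simpa using hk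
    have h2 : g * v⁻¹ * g⁻¹ ∈ C := Subgroup.Normal.conj_mem inferInstance _ (C.inv_mem hvC) g
    have h3 := C.mul_mem hvC h2
    have e : v * g * v⁻¹ * g⁻¹ = v * (g * v⁻¹ * g⁻¹) := by group
    rw [e]; exact h3
  | succ k ih =>
    have hcP : v * g * v⁻¹ * g⁻¹ ∈ P := by
      have h2 : g * v⁻¹ * g⁻¹ ∈ P := (Subgroup.mem_normalizer_iff.mp hg v⁻¹).mp (P.inv_mem hv)
      have e : v * g * v⁻¹ * g⁻¹ = v * (g * v⁻¹ * g⁻¹) := by group
      rw [e]; exact P.mul_mem hv h2
    have hk' : (fun a : G => a * g * a⁻¹ * g⁻¹)^[k] (v * g * v⁻¹ * g⁻¹) ∈ C := by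
      rw [Function.iterate_succ_apply] at hk
      exact hk
    have h1 := ih (v * g * v⁻¹ * g⁻¹) hcP hk'
    set c := v * g * v⁻¹ * g⁻¹ with hc
    have hcomm : Commute (QuotientGroup.mk' C c) (QuotientGroup.mk' C g) := by
      have h2 : QuotientGroup.mk' C (c * g * c⁻¹ * g⁻¹) = 1 := by
        rw [QuotientGroup.mk'_apply]; exact (QuotientGroup.eq_one_iff _).mpr h1
      simp only [map_mul, map_inv] at h2
      show _ * _ = _ * _
      have h3 := mul_inv_eq_one.mp h2
      have h4 := mul_inv_eq_iff_eq_mul.mp h3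
      exact h4
    have hm : (QuotientGroup.mk' C c) ^ orderOf g = 1 := by
      have e1 : (QuotientGroup.mk' C c * QuotientGroup.mk' C g) ^ orderOf g = 1 := by
        rw [← map_mul, ← map_pow]
        have e2 : (c * g) ^ orderOf g = 1 := by
          have e3 : c * g = v * g * v⁻¹ := by rw [hc]; group
          rw [e3, conj_pow, pow_orderOf_eq_one]; group
        rw [e2, map_one]
      rw [hcomm.mul_pow, ← map_pow, ← map_pow, pow_orderOf_eq_one, map_one, mul_one] at e1
      rw [← map_pow]; exact e1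
    obtain ⟨s, hs⟩ := hP ⟨c, hcP⟩
    have hs' : c ^ p ^ s = 1 := by
      have := congrArg Subtype.val hs
      simpa using this
    have hps : (QuotientGroup.mk' C c) ^ p ^ s = 1 := by rw [← map_pow, hs', map_one]
    have hdvd : orderOf (QuotientGroup.mk' C c) ∣ Nat.gcd (orderOf g) (p ^ s) :=
      Nat.dvd_gcd (orderOf_dvd_of_pow_eq_one hm) (orderOf_dvd_of_pow_eq_one hps)
    have hgcd : Nat.gcd (orderOf g) (p ^ s) = 1 := Nat.Coprime.pow_right s hgp
    rw [hgcd] at hdvd
    have h5 : QuotientGroup.mk' C c = 1 := orderOf_eq_one_iff.mp (Nat.dvd_one.mp hdvd)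
    rw [QuotientGroup.mk'_apply] at h5
    exact (QuotientGroup.eq_one_iff _).mp h5

end Cfsg.Agent.H29.CVL2
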