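import Cfsg.Agent.H1_Hall

set_option autoImplicit false
open Pointwise

namespace Cfsg.Agent.H29.CVL3
open Cfsg.Agent Cfsg.Agent.H1.Basic Cfsg.Agent.H1.SZ Cfsg.Agent.H1.Factor

theorem cent_le {G : Type*} [Group G] [Finite G] [Group.IsSolvable G] {p : ℕ} [hp : Fact p.Prime]
    (h : Cfsg.pCore p G = ⊥) :
    Subgroup.centralizer (Cfsg.pPrimeCore p G : Set G) ≤ Cfsg.pPrimeCore p G := by
  have h1 : Cfsg.fittingSubgroup G ≤ Cfsg.pPrimeCore p G := by
    refine (H1.Nilp.fitting_le_sup p).trans ?_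
    rw [h, bot_sup_eq]
  exact (Subgroup.centralizer_le h1).trans (H1.Hall.centralizer_fitting_le.trans h1)

theorem L3 {p : ℕ} [hp : Fact p.Prime] {G : Type*} [Group G] [Finite G] [Group.IsSolvable G]
    (O : Subgroup G) [O.Normal] (hO : IsPGroup p O)
    (hmax : ∀ N : Subgroup G, N.Normal → IsPGroup p N → N ≤ O) :
    ∃ U : Subgroup G, (Nat.card U).Coprime p ∧ O ⊔ Subgroup.normalizer (U : Set G) = ⊤ ∧
      Subgroup.centralizer (U : Set G) ⊓ Subgroup.normalizer (U : Set G) ≤ O ⊔ U := by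
  classical
  have hbot : Cfsg.pCore p (G ⧸ O) = ⊥ := by
    have hn : (Cfsg.pCore p (G ⧸ O)).Normal := H1.Nilp.pCore_normal p
    have hpg : IsPGroup p (Cfsg.pCore p (G ⧸ O)) := H1.Nilp.pCore_isPGroup p
    have h1 : IsPGroup p ((Cfsg.pCore p (G ⧸ O)).comap (QuotientGroup.mk' O)) := by
      refine hpg.comap_of_ker_isPGroup _ ?_
      rw [QuotientGroup.ker_mk']; exact hO
    have h2 := hmax _ (hn.comap _) h1
    rw [eq_bot_iff]
    intro q hq
    obtain ⟨x, rfl⟩ := QuotientGroup.mk'_surjective O q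
    have h3 : x ∈ O := h2 (Subgroup.mem_comap.mpr hq)
    rw [Subgroup.mem_bot, QuotientGroup.mk'_apply]
    exact (QuotientGroup.eq_one_iff x).mpr h3
  have hcent := cent_le (G := G ⧸ O) (p := p) hbot
  have hTn : (Cfsg.pPrimeCore p (G ⧸ O)).Normal := H1.Nilp.pPrimeCore_normal p
  have hTp : (Nat.card (Cfsg.pPrimeCore p (G ⧸ O))).Coprime p := H1.Nilp.pPrimeCore_coprime p
  set T := Cfsg.pPrimeCore p (G ⧸ O) with hT
  set K : Subgroup G := T.comap (QuotientGroup.mk' O) with hK
  have hKn : K.Normal := hTn.comap _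
  have hOK : O ≤ K := by
    intro x hx
    rw [hK, Subgroup.mem_comap, QuotientGroup.mk'_apply, (QuotientGroup.eq_one_iff x).mpr hx]
    exact T.one_mem
  have hKc : Nat.card K = Nat.card T * Nat.card O := by
    have := H1.Hall.card_comap_mk O T
    rw [hK]; first | exact this | (rw [this, mul_comm]) | (rw [this])
  have hcop : (Nat.card T).Coprime (Nat.card O) := by
    obtain ⟨n, hn⟩ := IsPGroup.iff_card.mp hO
    rw [hn]; exact Nat.Coprime.pow_right n hTp
  obtain ⟨U', hU'⟩ := H1.Hall.hall_exists (G := K) (Nat.card T) (Nat.card O) hKc hcop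
  set U : Subgroup G := U'.map K.subtype with hU
  have hUc : Nat.card U = Nat.card T := by
    rw [hU, ← hU']
    exact (Nat.card_congr (U'.equivMapOfInjective K.subtype K.subtype_injective).toEquiv).symm
  have hUK : U ≤ K := Subgroup.map_subtype_le U'
  have hsup : O ⊔ U = K := by
    apply le_antisymm (sup_le hOK hUK)
    have h1 : Nat.card K ∣ Nat.card (O ⊔ U : Subgroup G) := by
      rw [hKc]
      refine hcop.mul_dvd_of_dvd_of_dvd ?_ (Subgroup.card_dvd_of_le le_sup_left)
      rw [← hUc]; exact Subgroup.card_dvd_of_le le_sup_right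
    have h2 : (O ⊔ U : Subgroup G) = K :=
      Subgroup.eq_of_le_of_card_ge (sup_le hOK hUK)
        (Nat.le_of_dvd Nat.card_pos h1)
    exact h2.ge
  refine ⟨U, by rw [hUc]; exact hTp, ?_, ?_⟩
  · have h1 : K ⊔ Subgroup.normalizer (U : Set G) = ⊤ := by
      refine H1.Hall.hall_frattini K inferInstance U hUK ?_
      have h2 : U.relIndex K * Nat.card U = Nat.card K := relIndex_mul_card hUK
      have h3 : U.relIndex K = Nat.card O := by
        rw [hUc, hKc, mul_comm] at h2
        exact Nat.eq_of_mul_eq_mul_left Nat.card_pos h2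
      rw [h3, hUc]; exact hcop
    rw [← hsup, sup_assoc, sup_eq_right.mpr (Subgroup.le_normalizer (H := U))] at h1
    exact h1
  · rintro x ⟨hx, -⟩
    rw [hsup]
    rw [hK, Subgroup.mem_comap]
    apply hcent
    rw [Subgroup.mem_centralizer_iff]
    intro q hq
    obtain ⟨y, rfl⟩ := QuotientGroup.mk'_surjective O q
    have hyK : y ∈ O ⊔ U := by rw [hsup]; exact hq
    obtain ⟨o, ho, u, hu, rfl⟩ := Subgroup.mem_sup_of_normal_left.mp hyK
    have h1 : QuotientGroup.mk' O (o * u) = QuotientGroup.mk' O u := by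
      rw [map_mul, QuotientGroup.mk'_apply O o, (QuotientGroup.eq_one_iff o).mpr ho, one_mul]
    rw [h1, ← map_mul, ← map_mul, Subgroup.mem_centralizer_iff.mp hx u hu]

end Cfsg.Agent.H29.CVL3
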