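import Mathlib

set_option autoImplicit false

namespace Cfsg.Agent.H29.CY

theorem CY (Q : Type*) [CommGroup Q] [Finite Q] : ∃ (n : ℕ) (x : Fin n → Q) (e : Fin n → ℕ),
    (∀ i, x i ^ e i = 1) ∧ Subgroup.closure (Set.range x) = ⊤ ∧ ∏ i, e i = Nat.card Q := by
  classical
  obtain ⟨ι, hι, m, hm, ⟨φ⟩⟩ := CommGroup.equiv_prod_multiplicative_zmod_of_finite Q
  -- index by Fin n
  let ε : ι ≃ Fin (Fintype.card ι) := Fintype.equivFin ι
  let b : ι → (∀ i : ι, Multiplicative (ZMod (m i))) := fun i => Pi.mulSingle i (Multiplicative.ofAdd 1)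
  refine ⟨Fintype.card ι, fun i => φ.symm (b (ε.symm i)), fun i => m (ε.symm i), ?_, ?_, ?_⟩
  · intro i
    rw [← map_pow]
    have h1 : b (ε.symm i) ^ m (ε.symm i) = 1 := by
      show (Pi.mulSingle (ε.symm i) (Multiplicative.ofAdd 1) : ∀ i : ι, Multiplicative (ZMod (m i))) ^ _ = 1
      rw [← Pi.mulSingle_pow, ← ofAdd_nsmul, nsmul_one, ZMod.natCast_self, ofAdd_zero, Pi.mulSingle_one]
    rw [h1, map_one]
  · rw [eq_top_iff]
    intro q _
    obtain ⟨y, rfl⟩ := φ.symm.surjective q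
    have h1 : y = ∏ i : ι, Pi.mulSingle i (y i) := (Finset.univ_prod_mulSingle y).symm
    rw [h1, map_prod]
    refine Subgroup.prod_mem _ fun i _ => ?_
    have h2 : (Pi.mulSingle i (y i) : ∀ i : ι, Multiplicative (ZMod (m i))) = b i ^ (Multiplicative.toAdd (y i)).val := by
      show _ = (Pi.mulSingle i (Multiplicative.ofAdd 1) : ∀ i : ι, Multiplicative (ZMod (m i))) ^ _
      have : NeZero (m i) := ⟨by have := hm i; omega⟩
      rw [← Pi.mulSingle_pow, ← ofAdd_nsmul, nsmul_one, ZMod.natCast_val, ZMod.cast_id]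
      rfl
    rw [h2, map_pow]
    have h3 : φ.symm (b i) ∈ Set.range (fun j : Fin (Fintype.card ι) => φ.symm (b (ε.symm j))) :=
      ⟨ε i, by simp only [ε.symm_apply_apply]⟩
    exact Subgroup.pow_mem _ (Subgroup.subset_closure h3) _
  · rw [Nat.card_congr φ.toEquiv, Nat.card_pi]
    rw [← Equiv.prod_comp ε.symm (fun i => Nat.card (Multiplicative (ZMod (m i))))]
    refine Finset.prod_congr rfl fun i _ => ?_
    rw [Nat.card_congr Multiplicative.toAdd, Nat.card_zmod]

end Cfsg.Agent.H29.CY
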