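import Mathlib
import Cfsg.Agent.H29_Or9

set_option autoImplicit false

/-! refinement of decompositions into three-spaces over the field with three elements -/

namespace Cfsg.Agent.H29.Fm

open Matrix Module Cfsg.Geo Cfsg.Agent.H29.Clifford Cfsg.Agent.H29.Asc Cfsg.Agent.H29.AscF Cfsg.Agent.H29.Trv
  Cfsg.Agent.H29.AscT
open scoped Kronecker commutatorElement

variable {F : Type*} [Field F] {n k m r w t : ℕ}
variable {f : (Fin n → F) → (Fin n → F) → F}
variable {G X : Subgroup (GL (Fin n) F)}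

/-- isometric subspaces and the bilinear form -/
theorem isom_bil (h : OrF f) {W W' : Submodule F (Fin n → F)} {φ : W ≃ₗ[F] W'}
    (hφ : ∀ w : W, f ((φ w : W') : Fin n → F) (φ w : W') = f (w : Fin n → F) w) (u v : W) :
    f ((φ u : W') : Fin n → F) (φ v : W') = f (u : Fin n → F) v := by
  have h1 := hφ (u + v)
  have h2 := hφ u
  have h3 := hφ v
  rw [map_add] at h1
  have h1' : f (((φ u : W') : Fin n → F) + ((φ v : W') : Fin n → F)) (((φ u : W') : Fin n → F) + ((φ v : W') : Fin n → F)) =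
    f ((u : Fin n → F) + (v : Fin n → F)) ((u : Fin n → F) + (v : Fin n → F)) := h1
  rw [h.sfm.add_left, h.sfm.add_right, h.sfm.add_right, h.sfm.add_left, h.sfm.add_right, h.sfm.add_right,
    h2, h3, h.symm' ((φ v : W') : Fin n → F) ((φ u : W') : Fin n → F), h.symm' (v : Fin n → F) (u : Fin n → F)] at h1'
  have h4 : (2 : F) * (f ((φ u : W') : Fin n → F) (φ v : W') - f (u : Fin n → F) v) = 0 := by linear_combination h1'
  exact sub_eq_zero.1 ((mul_eq_zero.1 h4).resolve_left h.two)

theorem refine_three [Fintype F] (h : OrF f) (hF : Fintype.card F = 3) {D : Fin t → Submodule F (Fin n → F)}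
    (hD : IsNondegenerateMDecomposition f 3 D) (hiso : ∀ i j, AreIsometricFor (fun v => f v v) (D i) (D j)) :
    ∃ D' : Fin (t * 3) → Submodule F (Fin n → F), IsNondegenerateMDecomposition f 1 D' ∧
      (∀ i j, AreIsometricFor (fun v => f v v) (D' i) (D' j)) ∧
      ∀ G : Subgroup (GL (Fin n) F), Fx f G → G ≤ decompositionStabilizer D → G ≤ decompositionStabilizer D' := by
  classical
  have ht := hD.decomp.two_le
  have htm := dec_card hD.decomp
  let i₀ : Fin t := ⟨0, by omega⟩
  let b₀ := Module.finBasisOfFinrankEq F (D i₀) (hD.decomp.finrank_eq i₀)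
  let L : (Fin 3 → F) ≃ₗ[F] D i₀ := b₀.equivFun.symm
  let A : Matrix (Fin 3) (Fin 3) F := Matrix.of fun a c => f (b₀ a : Fin n → F) (b₀ c)
  have hL : ∀ x, ((L x : D i₀) : Fin n → F) = ∑ a, x a • (b₀ a : Fin n → F) := by
    intro x
    have h1 : L x = ∑ a, x a • b₀ a := b₀.equivFun_symm_apply x
    rw [h1, AddSubmonoidClass.coe_finset_sum]
    rfl
  have hform : ∀ x y, f (L x : Fin n → F) (L y) = x ⬝ᵥ (A *ᵥ y) := by
    intro x y
    rw [hL, hL, h.sfm.sum_left]
    show _ = ∑ a, x a * ∑ c, A a c * y c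
    apply Finset.sum_congr rfl
    intro a _
    rw [h.sfm.smul_left, h.sfm.sum_right]
    congr 1
    apply Finset.sum_congr rfl
    intro c _
    rw [h.smul_right, mul_comm]
    rfl
  have hA : Aᵀ = A := by
    ext a c
    exact h.symm' _ _
  have hdet : A.det ≠ 0 := by
    intro h0
    obtain ⟨x, hx0, hx⟩ := Matrix.exists_vecMul_eq_zero_iff.2 h0
    have hLx : ((L x : D i₀) : Fin n → F) ≠ 0 := by
      intro h1
      apply hx0
      have h2 : L x = 0 := Subtype.ext h1
      exact (L.map_eq_zero_iff).1 h2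
    obtain ⟨-, y, hy, hyx⟩ := hD.nondegenerate i₀ _ (L x).2 hLx
    apply hyx
    obtain ⟨z, hz⟩ := L.surjective ⟨y, hy⟩
    have hz' : ((L z : D i₀) : Fin n → F) = y := congrArg Subtype.val hz
    rw [← hz', hform, Matrix.dotProduct_mulVec, hx, zero_dotProduct]
  obtain ⟨P, ε, hε, hP⟩ := sym_three hF hA hdet
  choose φ hφ using fun j => hiso i₀ j
  have hbil : ∀ j (u v : D i₀), f ((φ j u : D j) : Fin n → F) (φ j v : D j) = f (u : Fin n → F) v :=
    fun j => isom_bil h (hφ j)
  let v : Fin t × Fin 3 → (Fin n → F) := fun p => ((φ p.1 (L ((P : Matrix (Fin 3) (Fin 3) F) *ᵥ Pi.single p.2 1)) : D p.1) : Fin n → F)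
  have hvD : ∀ i a, v (i, a) ∈ D i := fun i a => (φ i _).2
  have hv : ∀ p q, f (v p) (v q) = if p = q then ε else 0 := by
    rintro ⟨i, a⟩ ⟨j, c⟩
    by_cases hij : i = j
    · subst hij
      have h1 : f (v (i, a)) (v (i, c)) = ((P : Matrix (Fin 3) (Fin 3) F)ᵀ * A * (P : Matrix (Fin 3) (Fin 3) F)) a c := by
        show f ((φ i _ : D i) : Fin n → F) (φ i _ : D i) = _
        rw [hbil, hform, gram_conj]
      rw [h1, hP, Matrix.smul_apply, Matrix.one_apply, smul_eq_mul]
      by_cases hac : a = c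
      · subst hac; simp
      · rw [if_neg hac, if_neg (fun h => hac (congrArg Prod.snd h)), mul_zero]
    · rw [if_neg (fun h => hij (congrArg Prod.fst h))]
      exact hD.orthogonal i j hij _ (hvD i a) _ (hvD j c)
  have hspan : ∀ i, ∀ x ∈ D i, ∃ c : Fin 3 → F, x = ∑ a, c a • v (i, a) := by
    intro i x hx
    obtain ⟨y, hy⟩ := (φ i).surjective ⟨x, hx⟩
    obtain ⟨z, rfl⟩ := L.surjective y
    set c := ((P⁻¹ : GL (Fin 3) F) : Matrix (Fin 3) (Fin 3) F) *ᵥ z with hc
    have hz : z = ∑ a, c a • ((P : Matrix (Fin 3) (Fin 3) F) *ᵥ Pi.single a 1) := by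
      have h1 : z = (P : Matrix (Fin 3) (Fin 3) F) *ᵥ c := by
        rw [hc, Matrix.mulVec_mulVec, ← Units.val_mul, mul_inv_cancel, Units.val_one, Matrix.one_mulVec]
      have h2 : c = ∑ a, c a • (Pi.single a (1 : F) : Fin 3 → F) := by
        funext j
        rw [Finset.sum_apply, Finset.sum_eq_single j]
        · rw [Pi.smul_apply, Pi.single_eq_same, smul_eq_mul, mul_one]
        · intro l _ hl
          rw [Pi.smul_apply, Pi.single_eq_of_ne (Ne.symm hl), smul_zero]
        · intro h; exact absurd (Finset.mem_univ _) h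
      conv_lhs => rw [h1, h2]
      rw [Matrix.mulVec_sum]
      apply Finset.sum_congr rfl
      intro a _
      rw [Matrix.mulVec_smul]
    refine ⟨c, ?_⟩
    have h3 : x = ((φ i (L z) : D i) : Fin n → F) := (congrArg Subtype.val hy).symm
    rw [h3]
    conv_lhs => rw [hz]
    rw [map_sum, map_sum]
    have h4 : ∀ s : Fin 3 → D i, ((∑ a, s a : D i) : Fin n → F) = ∑ a, (s a : Fin n → F) :=
      fun s => AddSubmonoidClass.coe_finset_sum _ _
    rw [h4]
    apply Finset.sum_congr rfl
    intro a _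
    rw [map_smul, map_smul]
    rfl
  let u : Fin (t * 3) × Fin 1 → (Fin n → F) := fun p => v (finProdFinEquiv.symm p.1)
  have hu : ∀ p q, f (u p) (u q) = if p = q then ε else 0 := by
    intro p q
    show f (v (finProdFinEquiv.symm p.1)) (v (finProdFinEquiv.symm q.1)) = _
    rw [hv]
    congr 1
    apply propext
    rw [EmbeddingLike.apply_eq_iff_eq]
    constructor
    · intro h1
      exact Prod.ext h1 (Subsingleton.elim _ _)
    · intro h1
      rw [h1]
  have hrange : ∀ i, Submodule.span F (Set.range (fun a => u (i, a))) = Submodule.span F {u (i, 0)} := by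
    intro i
    congr 1
    ext x
    constructor
    · rintro ⟨a, rfl⟩
      rw [Subsingleton.elim a 0]
      rfl
    · intro hx
      exact ⟨0, hx.symm⟩
  have hu0 : ∀ i, u (i, 0) ≠ 0 := by
    intro i h0
    have h1 := hu (i, 0) (i, 0)
    rw [h0, h.sfm.zero_left, if_pos rfl] at h1
    exact hε h1.symm
  have hdec := dec_onb h.sfm hε hu (by omega) (by omega) one_pos
  refine ⟨_, hdec, ?_, ?_⟩
  · intro i j
    show AreIsometricFor _ (Submodule.span F (Set.range (fun a => u (i, a)))) (Submodule.span F (Set.range (fun a => u (j, a))))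
    rw [hrange, hrange]
    apply isom_line h (hu0 i) (hu0 j)
    rw [hu, hu, if_pos rfl, if_pos rfl]
  intro G hG hle g hg
  obtain ⟨σ, hσ⟩ := hle hg
  apply mem_frame h.sfm hε hu (by omega) (by omega)
  intro i
  obtain ⟨⟨i', a⟩, rfl⟩ := finProdFinEquiv.surjective i
  have h1 : (g : Matrix (Fin n) (Fin n) F) *ᵥ v (i', a) ∈ D (σ i') := by
    rw [← hσ i']
    exact ⟨_, hvD i' a, rfl⟩
  obtain ⟨c, hc⟩ := hspan _ _ h1
  have h3 : f ((g : Matrix (Fin n) (Fin n) F) *ᵥ v (i', a)) ((g : Matrix (Fin n) (Fin n) F) *ᵥ v (i', a)) = ε := by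
    rw [hG g hg, hv, if_pos rfl]
  have h4 : f (∑ a, c a • v (σ i', a)) (∑ a, c a • v (σ i', a)) = ε * (c 0 * c 0 + c 1 * c 1 + c 2 * c 2) := by
    have hvv : ∀ a b, f (v (σ i', a)) (v (σ i', b)) = if a = b then ε else 0 := by
      intro a b
      rw [hv]
      congr 1
      apply propext
      exact ⟨fun h => congrArg Prod.snd h, fun h => by rw [h]⟩
    rw [Fin.sum_univ_three]
    simp only [h.sfm.add_left, h.sfm.add_right, h.sfm.smul_left, h.smul_right, hvv, if_true]
    rw [if_neg (by decide : ¬ (0 : Fin 3) = 1), if_neg (by decide : ¬ (0 : Fin 3) = 2), if_neg (by decide : ¬ (1 : Fin 3) = 0),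
      if_neg (by decide : ¬ (1 : Fin 3) = 2), if_neg (by decide : ¬ (2 : Fin 3) = 0), if_neg (by decide : ¬ (2 : Fin 3) = 1)]
    ring
  rw [hc, h4] at h3
  have h5 : c 0 * c 0 + c 1 * c 1 + c 2 * c 2 = 1 := by
    have h6 : ε * (c 0 * c 0 + c 1 * c 1 + c 2 * c 2 - 1) = 0 := by linear_combination h3
    exact sub_eq_zero.1 ((mul_eq_zero.1 h6).resolve_left hε)
  have hsq : ∀ z : F, z ≠ 0 → z * z = 1 := by
    intro z hz
    rcases three_cases hF z with h3 | h3 | h3
    · exact absurd h3 hz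
    · rw [h3, one_mul]
    · rw [h3]; ring
  have h30 := three_zero hF
  have hu' : ∀ x : Fin t × Fin 3, u (finProdFinEquiv x, 0) = v x := by
    intro x
    show v (finProdFinEquiv.symm (finProdFinEquiv x)) = v x
    rw [Equiv.symm_apply_apply]
  rw [Fin.sum_univ_three] at hc
  by_cases y0 : c 0 = 0 <;> by_cases y1 : c 1 = 0 <;> by_cases y2 : c 2 = 0
  · exfalso
    rw [y0, y1, y2] at h5
    have : (1 : F) = 0 := by linear_combination -h5
    exact one_ne_zero this
  · refine ⟨finProdFinEquiv (σ i', 2), c 2, ?_⟩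
    rw [hu', hu', hc, y0, y1, zero_smul, zero_smul, zero_add, zero_add]
  · refine ⟨finProdFinEquiv (σ i', 1), c 1, ?_⟩
    rw [hu', hu', hc, y0, y2, zero_smul, zero_smul, zero_add, add_zero]
  · exfalso
    rw [y0, hsq _ y1, hsq _ y2] at h5
    have : (1 : F) = 0 := by linear_combination h5
    exact one_ne_zero this
  · refine ⟨finProdFinEquiv (σ i', 0), c 0, ?_⟩
    rw [hu', hu', hc, y1, y2, zero_smul, zero_smul, add_zero, add_zero]
  · exfalso
    rw [y1, hsq _ y0, hsq _ y2] at h5
    have : (1 : F) = 0 := by linear_combination h5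
    exact one_ne_zero this
  · exfalso
    rw [y2, hsq _ y0, hsq _ y1] at h5
    have : (1 : F) = 0 := by linear_combination h5
    exact one_ne_zero this
  · exfalso
    rw [hsq _ y0, hsq _ y1, hsq _ y2] at h5
    apply h.two
    linear_combination h5

end Cfsg.Agent.H29.Fm
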