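import Mathlib

set_option autoImplicit false

/-! Orbits of Sylow subgroups in transitive groups; fixed-point-free elements of prime order. -/

namespace Cfsg.Agent.H29.SylowOrbit

open MulAction

variable {G Ω : Type*} [Group G] [Finite G] [MulAction G Ω] [Fintype Ω]

theorem card_orbit_mul (H : Subgroup G) (ω : Ω) :
    Nat.card (orbit H ω) * Nat.card (stabilizer H ω) = Nat.card H := by
  classical
  have : Fintype H := Fintype.ofFinite H
  have h1 := card_orbit_mul_card_stabilizer_eq_card_group H ω
  rw [← Nat.card_eq_fintype_card, ← Nat.card_eq_fintype_card, ← Nat.card_eq_fintype_card] at h1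
  exact h1

theorem card_trans (htr : IsPretransitive G Ω) (ω : Ω) :
    Fintype.card Ω * Nat.card (stabilizer G ω) = Nat.card G := by
  classical
  have : Fintype G := Fintype.ofFinite G
  have h1 := card_orbit_mul_card_stabilizer_eq_card_group G ω
  have h2 : Fintype.card (orbit G ω) = Fintype.card Ω := by
    have : orbit G ω = Set.univ := orbit_eq_univ G ω
    rw [← Nat.card_eq_fintype_card, this, Nat.card_congr (Equiv.Set.univ Ω), Nat.card_eq_fintype_card]
  rw [h2] at h1
  simp only [← Nat.card_eq_fintype_card] at h1 ⊢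
  exact h1

theorem card_stab_dvd (H : Subgroup G) (ω : Ω) :
    Nat.card (stabilizer H ω) ∣ Nat.card (stabilizer G ω) := by
  let f : stabilizer H ω →* stabilizer G ω :=
    { toFun := fun x => ⟨x.1.1, x.2⟩
      map_one' := rfl
      map_mul' := fun x y => rfl }
  have hf : Function.Injective f := by
    intro x y hxy
    have : x.1.1 = y.1.1 := congrArg (fun z : stabilizer G ω => z.1) hxy
    exact Subtype.ext (Subtype.ext this)
  exact Subgroup.card_dvd_of_injective f hf

theorem orbit_dvd (htr : IsPretransitive G Ω) {p : ℕ} [hp : Fact p.Prime] (P : Sylow p G) (ω : Ω) {k : ℕ}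
    (hk : p ^ k ∣ Fintype.card Ω) : p ^ k ∣ Nat.card (orbit P ω) := by
  have h1 := card_orbit_mul (P : Subgroup G) ω
  have h2 := card_trans htr ω
  have h3 := card_stab_dvd (P : Subgroup G) ω
  obtain ⟨i, hi⟩ := P.2.card_orbit ω
  have hstab : IsPGroup p (stabilizer (P : Subgroup G) ω) := P.2.to_subgroup _
  obtain ⟨j, hj⟩ := IsPGroup.iff_card.1 hstab
  have hi' : Nat.card (orbit (P : Subgroup G) ω) = p ^ i := hi
  rw [hi', hj, ← pow_add] at h1
  rw [hj] at h3
  -- p^(k + j) divides |G|
  have h4 : p ^ (k + j) ∣ Nat.card G := by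
    rw [← h2, pow_add]
    exact mul_dvd_mul hk h3
  have h5 : p ^ (k + j) ∣ Nat.card (P : Subgroup G) := P.pow_dvd_card_of_pow_dvd_card h4
  rw [← h1] at h5
  have h6 := (Nat.pow_dvd_pow_iff_le_right hp.1.one_lt).1 h5
  show p ^ k ∣ Nat.card (orbit (P : Subgroup G) ω)
  rw [hi']
  exact pow_dvd_pow p (by omega)

/-- Transitive group of degree `p^k`, `k ≥ 1`. -/
theorem exists_fpf_pow [FaithfulSMul G Ω] (htr : IsPretransitive G Ω)
    (p k : ℕ) (hp : p.Prime) (hk : 1 ≤ k) (hΩ : Fintype.card Ω = p ^ k) :
    ∃ g : G, orderOf g = p ∧ ∀ ω : Ω, g • ω ≠ ω := by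
  have : Fact p.Prime := ⟨hp⟩
  obtain ⟨P⟩ : Nonempty (Sylow p G) := inferInstance
  have hpos : 0 < Fintype.card Ω := by rw [hΩ]; exact pow_pos hp.pos k
  obtain ⟨ω₀⟩ := Fintype.card_pos_iff.1 hpos
  -- P transitive
  have horb : ∀ ω : Ω, orbit P ω = Set.univ := by
    intro ω
    have h1 := orbit_dvd htr P ω (k := k) (by rw [hΩ])
    have h2 : Nat.card (orbit P ω) ≤ Fintype.card Ω := by
      rw [← Nat.card_eq_fintype_card]
      exact Nat.card_le_card_of_injective Subtype.val Subtype.val_injective
    have h3 : 0 < Nat.card (orbit P ω) := by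
      have : Nonempty (orbit P ω) := ⟨⟨ω, mem_orbit_self ω⟩⟩
      exact Nat.card_pos
    have h4 := Nat.le_of_dvd h3 h1
    have h5 : Nat.card (orbit P ω) = Nat.card Ω := by
      rw [Nat.card_eq_fintype_card (α := Ω)]; omega
    apply Set.eq_univ_of_forall
    intro x
    have hb : Function.Bijective (Subtype.val : orbit P ω → Ω) := by
      classical
      rw [Fintype.bijective_iff_injective_and_card, ← Nat.card_eq_fintype_card, ← Nat.card_eq_fintype_card]
      exact ⟨Subtype.val_injective, h5⟩
    obtain ⟨y, rfl⟩ := hb.2 x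
    exact y.2
  have hnt : Nontrivial P := by
    have h1 := card_orbit_mul (P : Subgroup G) ω₀
    have h2 : Nat.card (orbit (P : Subgroup G) ω₀) = p ^ k := by
      have := horb ω₀
      have h3 : Nat.card (orbit (P : Subgroup G) ω₀) = Nat.card (Set.univ : Set Ω) := congrArg (fun s : Set Ω => Nat.card s) this
      rw [h3, Nat.card_congr (Equiv.Set.univ Ω), Nat.card_eq_fintype_card, hΩ]
    rw [h2] at h1
    have h3 : p ∣ Nat.card (P : Subgroup G) := by
      rw [← h1]; exact Dvd.dvd.mul_right (dvd_pow_self p (by omega)) _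
    have h4 : 1 < Nat.card (P : Subgroup G) := lt_of_lt_of_le hp.one_lt (Nat.le_of_dvd Nat.card_pos h3)
    exact Finite.one_lt_card_iff_nontrivial.1 h4
  have hc : Nontrivial (Subgroup.center P) := P.2.center_nontrivial
  have hcp : IsPGroup p (Subgroup.center P) := P.2.to_subgroup _
  obtain ⟨m, hm, hcard⟩ := hcp.nontrivial_iff_card.1 hc
  have hdvd : p ∣ Nat.card (Subgroup.center P) := by rw [hcard]; exact dvd_pow_self p (by omega)
  obtain ⟨z, hz⟩ := exists_prime_orderOf_dvd_card' p hdvd
  refine ⟨((z : P) : G), ?_, ?_⟩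
  · have h1 : orderOf ((z : P) : G) = orderOf z := by rw [Subgroup.orderOf_coe, Subgroup.orderOf_coe]
    exact h1.trans hz
  · intro ω hω
    have hz1 : z ≠ 1 := by
      rintro rfl
      rw [orderOf_one] at hz
      exact hp.one_lt.ne hz
    apply hz1
    have : ((z : P) : G) = 1 := by
      apply FaithfulSMul.eq_of_smul_eq_smul (α := Ω)
      intro x
      rw [one_smul]
      have hx : x ∈ orbit P ω := by rw [horb ω]; trivial
      obtain ⟨y, rfl⟩ := hx
      have hcomm : (y : G) * ((z : P) : G) = ((z : P) : G) * y := by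
        have := Subgroup.mem_center_iff.1 z.2 y
        exact congrArg Subtype.val this
      show ((z : P) : G) • ((y : G) • ω) = (y : G) • ω
      rw [← mul_smul, ← hcomm, mul_smul, hω]
    exact Subtype.ext (Subtype.ext this)

/-- Transitive group of degree `m p`, `m ≤ p`. -/
theorem exists_fpf_mul [FaithfulSMul G Ω] (htr : IsPretransitive G Ω)
    (p m : ℕ) (hp : p.Prime) (hm : 1 ≤ m) (hmp : m ≤ p) (hΩ : Fintype.card Ω = m * p) :
    ∃ g : G, orderOf g = p ∧ ∀ ω : Ω, g • ω ≠ ω := by
  classical
  rcases eq_or_lt_of_le hmp with rfl | hlt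
  · exact exists_fpf_pow htr m 2 hp (by norm_num) (by rw [hΩ, sq])
  have : Fact p.Prime := ⟨hp⟩
  obtain ⟨P⟩ : Nonempty (Sylow p G) := inferInstance
  have hpos : 0 < Fintype.card Ω := by rw [hΩ]; exact Nat.mul_pos hm hp.pos
  obtain ⟨ω₀⟩ := Fintype.card_pos_iff.1 hpos
  -- orbits of P have size p
  have horb : ∀ ω : Ω, Nat.card (orbit (P : Subgroup G) ω) = p := by
    intro ω
    have h1 : p ^ 1 ∣ Nat.card (orbit (P : Subgroup G) ω) := orbit_dvd htr P ω (k := 1) (by rw [hΩ, pow_one]; exact Dvd.intro_left m rfl)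
    obtain ⟨i, hi⟩ := P.2.card_orbit ω
    have hi' : Nat.card (orbit (P : Subgroup G) ω) = p ^ i := hi
    have h2 : Nat.card (orbit (P : Subgroup G) ω) ≤ Fintype.card Ω := by
      rw [← Nat.card_eq_fintype_card]
      exact Nat.card_le_card_of_injective Subtype.val Subtype.val_injective
    rw [hi', hΩ] at h2
    have h3 : p ^ i < p ^ 2 := by
      refine lt_of_le_of_lt h2 ?_
      rw [sq]; exact Nat.mul_lt_mul_of_pos_right hlt hp.pos
    have h4 : i < 2 := (Nat.pow_lt_pow_iff_right hp.one_lt).1 h3
    have h5 : 1 ≤ i := by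
      rw [hi'] at h1
      exact (Nat.pow_dvd_pow_iff_le_right hp.one_lt).1 h1
    have h6 : i = 1 := by omega
    rw [hi', h6, pow_one]
  obtain ⟨a, ha⟩ := IsPGroup.iff_card.1 P.2
  have hstab : ∀ ω : Ω, p * Nat.card (stabilizer (P : Subgroup G) ω) = Nat.card (P : Subgroup G) := by
    intro ω
    have := card_orbit_mul (P : Subgroup G) ω
    rwa [horb ω] at this
  have hPp : p ∣ Nat.card (P : Subgroup G) := ⟨_, (hstab ω₀).symm⟩
  have ha1 : 1 ≤ a := by
    by_contra hcon
    have : a = 0 := by omega
    have ha' : Nat.card (P : Subgroup G) = p ^ a := ha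
    rw [ha', this, pow_zero] at hPp
    exact hp.one_lt.ne' (Nat.dvd_one.1 hPp)
  have hnorm : ∀ ω : Ω, (stabilizer (P : Subgroup G) ω).Normal := by
    intro ω
    apply Subgroup.normal_of_index_eq_minFac_card
    have h1 := (stabilizer (P : Subgroup G) ω).index_mul_card
    have h2 := hstab ω
    have h3 : 0 < Nat.card (stabilizer (P : Subgroup G) ω) := Nat.card_pos
    have h4 : (stabilizer (P : Subgroup G) ω).index = p := by
      apply Nat.eq_of_mul_eq_mul_right h3
      rw [h1, h2]
    rw [h4]
    have ha' : Nat.card (P : Subgroup G) = p ^ a := ha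
    rw [ha', Nat.Prime.pow_minFac hp (by omega)]
  -- x fixes ω implies x fixes the P-orbit of ω
  have hfix : ∀ (x : (P : Subgroup G)) (ω : Ω), x • ω = ω → ∀ y : (P : Subgroup G), x • (y • ω) = y • ω := by
    intro x ω hx y
    have h1 : y⁻¹ * x * y ∈ stabilizer (P : Subgroup G) ω := by
      have := (hnorm ω).conj_mem x hx y⁻¹
      rwa [inv_inv] at this
    have h2 : (y⁻¹ * x * y) • ω = ω := h1
    rw [mul_smul, mul_smul, inv_smul_eq_iff] at h2
    exact h2
  -- all non-identity elements have order p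
  have hord : ∀ x : (P : Subgroup G), x ^ p = 1 := by
    intro x
    have h1 : ((x ^ p : (P : Subgroup G)) : G) = 1 := by
      apply FaithfulSMul.eq_of_smul_eq_smul (α := Ω)
      intro ω
      rw [one_smul]
      have := hnorm ω
      have h2 : x ^ p ∈ stabilizer (P : Subgroup G) ω := by
        have h3 : (stabilizer (P : Subgroup G) ω).index = p := by
          have h1 := (stabilizer (P : Subgroup G) ω).index_mul_card
          have h2 := hstab ω
          have h3 : 0 < Nat.card (stabilizer (P : Subgroup G) ω) := Nat.card_pos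
          apply Nat.eq_of_mul_eq_mul_right h3
          rw [h1, h2]
        have h4 := Subgroup.pow_index_mem (stabilizer (P : Subgroup G) ω) x
        rwa [h3] at h4
      exact h2
    exact Subtype.ext h1
  by_contra hcon
  push Not at hcon
  have hall : ∀ x : (P : Subgroup G), ∃ ω : Ω, x • ω = ω := by
    intro x
    by_cases hx : x = 1
    · exact ⟨ω₀, by rw [hx, one_smul]⟩
    · have h1 : orderOf x = p := orderOf_eq_prime (hord x) hx
      obtain ⟨ω, hω⟩ := hcon (x : G) (by rw [Subgroup.orderOf_coe, h1])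
      exact ⟨ω, hω⟩
  have : Fintype (P : Subgroup G) := Fintype.ofFinite _
  -- number of fixed points at least p
  have hlow : ∀ x : (P : Subgroup G), p ≤ Fintype.card (fixedBy Ω x) := by
    intro x
    obtain ⟨ω, hω⟩ := hall x
    refine le_trans (le_of_eq (horb ω).symm) ?_
    rw [← Nat.card_eq_fintype_card]
    apply Nat.card_le_card_of_injective (fun z : orbit (P : Subgroup G) ω => (⟨z.1, by
      obtain ⟨y, hy⟩ := z.2
      have : x • z.1 = z.1 := by
        rw [← hy]; exact hfix x ω hω y
      exact this⟩ : fixedBy Ω x))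
    intro z w hzw
    exact Subtype.ext (congrArg (fun u : fixedBy Ω x => (u : Ω)) hzw)
  have hone : Fintype.card (fixedBy Ω (1 : (P : Subgroup G))) = m * p := by
    rw [← hΩ]
    apply Fintype.card_congr
    exact ⟨fun z => z.1, fun z => ⟨z, one_smul _ z⟩, fun z => rfl, fun z => rfl⟩
  -- double count
  have hdc : ∑ x : (P : Subgroup G), Fintype.card (fixedBy Ω x) = ∑ ω : Ω, Fintype.card (stabilizer (P : Subgroup G) ω) := by
    simp only [← Nat.card_eq_fintype_card]
    have h1 : ∀ x : (P : Subgroup G), Nat.card (fixedBy Ω x) = ∑ ω : Ω, if x • ω = ω then 1 else 0 := by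
      intro x
      rw [Nat.card_eq_fintype_card, ← Finset.card_filter, ← Set.toFinset_card]
      congr 1
      ext; simp
    have h2 : ∀ ω : Ω, Nat.card (stabilizer (P : Subgroup G) ω) = ∑ x : (P : Subgroup G), if x • ω = ω then 1 else 0 := by
      intro ω
      rw [← Finset.card_filter, Nat.card_eq_fintype_card, Fintype.card_subtype]
      congr 1
    simp only [h1, h2]
    exact Finset.sum_comm
  have h7 : p * ∑ ω : Ω, Fintype.card (stabilizer (P : Subgroup G) ω) = (m * p) * Nat.card (P : Subgroup G) := by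
    rw [Finset.mul_sum]
    have : ∀ ω ∈ (Finset.univ : Finset Ω), p * Fintype.card (stabilizer (P : Subgroup G) ω) = Nat.card (P : Subgroup G) := by
      intro ω _
      rw [← Nat.card_eq_fintype_card]; exact hstab ω
    rw [Finset.sum_congr rfl this, Finset.sum_const, Finset.card_univ, hΩ, smul_eq_mul]
  have h8 : m * p + (Nat.card (P : Subgroup G) - 1) * p ≤ ∑ x : (P : Subgroup G), Fintype.card (fixedBy Ω x) := by
    rw [← Finset.add_sum_erase _ _ (Finset.mem_univ (1 : (P : Subgroup G))), hone]
    apply Nat.add_le_add_left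
    have h9 : ((Finset.univ : Finset (P : Subgroup G)).erase 1).card = Nat.card (P : Subgroup G) - 1 := by
      rw [Finset.card_erase_of_mem (Finset.mem_univ _), Finset.card_univ, Nat.card_eq_fintype_card]
    rw [← h9, ← smul_eq_mul]
    exact Finset.card_nsmul_le_sum _ _ _ fun x _ => hlow x
  rw [hdc] at h8
  have h10 : p * (m * p + (Nat.card (P : Subgroup G) - 1) * p) ≤ (m * p) * Nat.card (P : Subgroup G) := by
    rw [← h7]; exact Nat.mul_le_mul_left p h8
  obtain ⟨N, hN⟩ : ∃ N, Nat.card (P : Subgroup G) = N + 1 := ⟨Nat.card (P : Subgroup G) - 1, by have : 0 < Nat.card (P : Subgroup G) := Nat.card_pos; omega⟩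
  rw [hN] at h10 hPp
  simp only [Nat.add_sub_cancel] at h10
  have h11 : m * p + N * p ≤ m * (N + 1) := by
    have : p * (m * p + N * p) ≤ p * (m * (N + 1)) := by
      calc _ ≤ _ := h10
        _ = _ := by ring
    exact Nat.le_of_mul_le_mul_left this hp.pos
  have h12 : m * (N + 1) = m * N + m := by ring
  have h13 : m * N ≤ p * N := Nat.mul_le_mul_right N hlt.le
  have h14 : m < m * p := by
    calc m = m * 1 := (mul_one m).symm
      _ < m * p := Nat.mul_lt_mul_of_pos_left hp.one_lt (by omega)
  have h15 : N * p = p * N := mul_comm _ _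
  omega

end Cfsg.Agent.H29.SylowOrbit
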