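import Mathlib
import Cfsg.Prelude.Def_GeometricClasses
import Cfsg.Agent.H5_SL
import Cfsg.Agent.H5_Symp

set_option autoImplicit false

namespace Cfsg.Agent.H29.Trv

open Matrix

section Gen

variable {ι : Type*} [Fintype ι] [DecidableEq ι] {F : Type*} [Field F]

/-- equality of matrices from the action on vectors -/
theorem ext_mulVec {A B : Matrix ι ι F} (h : ∀ x, A *ᵥ x = B *ᵥ x) : A = B := by
  have : Matrix.toLin' A = Matrix.toLin' B := by
    ext1 i
    ext1
    simp only [LinearMap.comp_apply, Matrix.toLin'_apply, h]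
  exact Matrix.toLin'.injective this

theorem GL_ext {g h : GL ι F} (H : ∀ x, (g : Matrix ι ι F) *ᵥ x = (h : Matrix ι ι F) *ᵥ x) :
    g = h := Units.ext (ext_mulVec H)

theorem inv_mulVec_self (g : GL ι F) (x : ι → F) :
    ((g⁻¹ : GL ι F) : Matrix ι ι F) *ᵥ ((g : Matrix ι ι F) *ᵥ x) = x := by
  rw [mulVec_mulVec, ← Units.val_mul, inv_mul_cancel, Units.val_one, one_mulVec]

theorem self_inv_mulVec (g : GL ι F) (x : ι → F) :
    (g : Matrix ι ι F) *ᵥ (((g⁻¹ : GL ι F) : Matrix ι ι F) *ᵥ x) = x := by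
  rw [mulVec_mulVec, ← Units.val_mul, mul_inv_cancel, Units.val_one, one_mulVec]

theorem mul_apply (g h : GL ι F) (x : ι → F) :
    ((g * h : GL ι F) : Matrix ι ι F) *ᵥ x = (g : Matrix ι ι F) *ᵥ ((h : Matrix ι ι F) *ᵥ x) := by
  rw [Units.val_mul, mulVec_mulVec]

/-- The linear map of an element of `GL`. -/
def lin (g : GL ι F) : (ι → F) →ₗ[F] (ι → F) := Matrix.mulVecLin (g : Matrix ι ι F)

@[simp] theorem lin_apply (g : GL ι F) (x : ι → F) : lin g x = (g : Matrix ι ι F) *ᵥ x := rfl

/-- the linear equivalence of an element of `GL` -/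
def linE (g : GL ι F) : (ι → F) ≃ₗ[F] (ι → F) :=
  LinearEquiv.ofLinear (lin g) (lin g⁻¹)
    (by ext1 i; ext1; simp only [LinearMap.comp_apply, lin_apply, self_inv_mulVec]; rfl)
    (by ext1 i; ext1; simp only [LinearMap.comp_apply, lin_apply, inv_mulVec_self]; rfl)

@[simp] theorem linE_apply (g : GL ι F) (x : ι → F) : linE g x = (g : Matrix ι ι F) *ᵥ x := rfl

theorem mulVec_inj {g : GL ι F} {x y : ι → F}
    (h : (g : Matrix ι ι F) *ᵥ x = (g : Matrix ι ι F) *ᵥ y) : x = y := by
  have := congrArg (fun z => ((g⁻¹ : GL ι F) : Matrix ι ι F) *ᵥ z) h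
  simpa only [inv_mulVec_self] using this

/-- `T M v φ`: `φ v = 0` and the transvection `x ↦ x + φ(x) v` belongs to `M`. -/
def T (M : Subgroup (GL ι F)) (v : ι → F) (φ : (ι → F) →ₗ[F] F) : Prop :=
  φ v = 0 ∧ ∃ g ∈ M, ∀ x, (g : Matrix ι ι F) *ᵥ x = x + φ x • v

variable {M : Subgroup (GL ι F)}

theorem T.apply_self {v : ι → F} {φ : (ι → F) →ₗ[F] F} (h : T M v φ) : φ v = 0 := h.1

theorem T_zero_left (φ : (ι → F) →ₗ[F] F) : T M 0 φ :=
  ⟨map_zero φ, 1, M.one_mem, fun x => by simp⟩

theorem T_zero_right (v : ι → F) : T M v 0 :=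
  ⟨rfl, 1, M.one_mem, fun x => by simp⟩

theorem T.mono {N : Subgroup (GL ι F)} (h : M ≤ N) {v : ι → F} {φ : (ι → F) →ₗ[F] F}
    (hT : T M v φ) : T N v φ := by
  obtain ⟨h1, g, hg, h2⟩ := hT
  exact ⟨h1, g, h hg, h2⟩

theorem T.inv_apply {g : GL ι F} {v : ι → F} {φ : (ι → F) →ₗ[F] F} (h0 : φ v = 0)
    (h : ∀ x, (g : Matrix ι ι F) *ᵥ x = x + φ x • v) (x : ι → F) :
    ((g⁻¹ : GL ι F) : Matrix ι ι F) *ᵥ x = x - φ x • v := by
  have : (g : Matrix ι ι F) *ᵥ (x - φ x • v) = x := by
    rw [h, map_sub, map_smul, h0]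
    simp
  conv_lhs => rw [← this]
  rw [inv_mulVec_self]

theorem T.neg {v : ι → F} {φ : (ι → F) →ₗ[F] F} (h : T M v φ) : T M v (-φ) := by
  obtain ⟨h1, g, hg, h2⟩ := h
  refine ⟨by simp [h1], g⁻¹, M.inv_mem hg, fun x => ?_⟩
  rw [T.inv_apply h1 h2]
  simp [sub_eq_add_neg]

theorem T.add_right {v : ι → F} {φ ψ : (ι → F) →ₗ[F] F} (h : T M v φ) (h' : T M v ψ) :
    T M v (φ + ψ) := by
  obtain ⟨h1, g, hg, h2⟩ := h
  obtain ⟨h1', g', hg', h2'⟩ := h'
  refine ⟨by simp [h1, h1'], g * g', M.mul_mem hg hg', fun x => ?_⟩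
  rw [mul_apply, h2', h2, map_add, map_smul, h1]
  simp only [smul_zero, add_zero, LinearMap.add_apply, add_smul]
  abel

theorem T.add_left {v w : ι → F} {φ : (ι → F) →ₗ[F] F} (h : T M v φ) (h' : T M w φ) :
    T M (v + w) φ := by
  obtain ⟨h1, g, hg, h2⟩ := h
  obtain ⟨h1', g', hg', h2'⟩ := h'
  refine ⟨by simp [h1, h1'], g * g', M.mul_mem hg hg', fun x => ?_⟩
  rw [mul_apply, h2', h2, map_add, map_smul, h1']
  simp only [smul_zero, add_zero, smul_add]
  abel

theorem T_smul_iff {v : ι → F} {φ : (ι → F) →ₗ[F] F} (c : F) :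
    T M (c • v) φ ↔ T M v (c • φ) := by
  constructor
  · rintro ⟨h1, g, hg, h2⟩
    refine ⟨?_, g, hg, fun x => ?_⟩
    · rw [LinearMap.smul_apply, ← h1, map_smul]
    · rw [h2, smul_smul, LinearMap.smul_apply, smul_eq_mul, mul_comm]
  · rintro ⟨h1, g, hg, h2⟩
    refine ⟨?_, g, hg, fun x => ?_⟩
    · rw [map_smul]; exact h1
    · rw [h2, smul_smul, LinearMap.smul_apply, smul_eq_mul, mul_comm]

theorem T.conj {v : ι → F} {φ : (ι → F) →ₗ[F] F} (h : T M v φ) {g : GL ι F} (hg : g ∈ M) :
    T M ((g : Matrix ι ι F) *ᵥ v) (φ ∘ₗ lin g⁻¹) := by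
  obtain ⟨h1, t, ht, h2⟩ := h
  refine ⟨?_, g * t * g⁻¹, M.mul_mem (M.mul_mem hg ht) (M.inv_mem hg), fun x => ?_⟩
  · rw [LinearMap.comp_apply, lin_apply, inv_mulVec_self, h1]
  · rw [mul_apply, mul_apply, h2, mulVec_add, self_inv_mulVec, mulVec_smul, LinearMap.comp_apply,
      lin_apply]

theorem T.conj' {v : ι → F} {φ : (ι → F) →ₗ[F] F} {g : GL ι F} (hg : g ∈ M)
    (h : T M v (φ ∘ₗ lin g)) :
    T M ((g : Matrix ι ι F) *ᵥ v) φ := by
  have := h.conj hg
  have h2 : (φ ∘ₗ lin g) ∘ₗ lin g⁻¹ = φ := by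
    ext1 i
    ext1
    simp only [LinearMap.comp_apply, lin_apply, self_inv_mulVec]
  rwa [h2] at this

/-- from the transvections `(v, φ)` and `(w, ψ)` with `φ w = 0` we get `(w, ψ(v) φ)` -/
theorem T.comm {v w : ι → F} {φ ψ : (ι → F) →ₗ[F] F} (h : T M v φ) (h' : T M w ψ)
    (hw : φ w = 0) : T M w (ψ v • φ) := by
  obtain ⟨h1, g, hg, h2⟩ := h
  obtain ⟨h1', g', hg', h2'⟩ := h'
  refine ⟨by simp [hw], g * g'⁻¹ * g⁻¹ * g', M.mul_mem (M.mul_mem (M.mul_mem hg (M.inv_mem hg'))
    (M.inv_mem hg)) hg', fun x => ?_⟩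
  rw [mul_apply, mul_apply, mul_apply, h2', T.inv_apply h1 h2, T.inv_apply h1' h2', h2]
  simp only [map_add, map_sub, map_smul, h1, h1', hw, smul_eq_mul, mul_zero, add_zero, sub_zero,
    LinearMap.smul_apply]
  module

/-- the subspace of "full centres" of `M` -/
def ctr (M : Subgroup (GL ι F)) : Submodule F (ι → F) where
  carrier := {v | ∀ φ : (ι → F) →ₗ[F] F, φ v = 0 → T M v φ}
  zero_mem' := fun φ _ => T_zero_left φ
  smul_mem' := by
    intro c v hv φ hφ
    rw [T_smul_iff]
    apply hv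
    rw [LinearMap.smul_apply, smul_eq_mul]
    rwa [map_smul, smul_eq_mul] at hφ
  add_mem' := by
    intro u v hu hv ψ hψ
    by_cases h : u ∈ Submodule.span F {v}
    · obtain ⟨c, rfl⟩ := Submodule.mem_span_singleton.1 h
      have h1 : c • v + v = (c + 1) • v := by rw [add_smul, one_smul]
      rw [h1] at hψ ⊢
      rw [T_smul_iff]
      apply hv
      rwa [LinearMap.smul_apply, smul_eq_mul, ← smul_eq_mul, ← map_smul]
    · obtain ⟨φ, hφu, hφ⟩ := Submodule.exists_dual_map_eq_bot_of_notMem h inferInstance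
      have hφv : φ v = 0 := by
        have : φ v ∈ (Submodule.span F {v}).map φ :=
          Submodule.mem_map_of_mem (Submodule.mem_span_singleton_self v)
        rw [hφ] at this
        exact this
      obtain ⟨-, g, hg, h2⟩ := hv ((φ u)⁻¹ • φ) (by simp [hφv])
      have hgu : (g : Matrix ι ι F) *ᵥ u = u + v := by
        rw [h2, LinearMap.smul_apply, smul_eq_mul, inv_mul_cancel₀ hφu, one_smul]
      rw [← hgu]
      apply T.conj' hg
      apply hu
      rw [LinearMap.comp_apply, lin_apply, hgu, hψ]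

theorem mem_ctr {v : ι → F} : v ∈ ctr M ↔ ∀ φ : (ι → F) →ₗ[F] F, φ v = 0 → T M v φ := Iff.rfl

theorem ctr_conj {v : ι → F} (hv : v ∈ ctr M) {g : GL ι F} (hg : g ∈ M) :
    (g : Matrix ι ι F) *ᵥ v ∈ ctr M := by
  intro φ hφ
  exact T.conj' hg (hv _ hφ)

theorem exists_functional (W : Submodule F (ι → F)) (u : ι → F) (hu : u ∉ W) :
    ∃ φ : (ι → F) →ₗ[F] F, φ u = 1 ∧ ∀ w ∈ W, φ w = 0 := by
  obtain ⟨φ, hφu, hφ⟩ := Submodule.exists_dual_map_eq_bot_of_notMem hu inferInstance
  refine ⟨(φ u)⁻¹ • φ, by simp [hφu], fun w hw => ?_⟩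
  have : φ w ∈ W.map φ := Submodule.mem_map_of_mem hw
  rw [hφ] at this
  have h0 : φ w = 0 := this
  simp [h0]

end Gen

section SL

variable {ι : Type} [Fintype ι] [DecidableEq ι] {F : Type*} [Field F]
variable {M : Subgroup (GL ι F)}

/-- If all vectors are full centres then `M` contains `SL`. -/
theorem SL_le_of_ctr (h : ctr M = ⊤) : Cfsg.Geo.specialLinear ι F ≤ M := by
  rcases subsingleton_or_nontrivial ι with hι | hι
  · intro g hg
    have hg1 : g = 1 := by
      have hdet : (g : Matrix ι ι F).det = 1 := by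
        have : Matrix.GeneralLinearGroup.det g = 1 := hg
        have h2 := congrArg Units.val this
        simpa using h2
      apply Units.ext
      rcases isEmpty_or_nonempty ι with h0 | h0
      · ext i; exact (h0.false i).elim
      · obtain ⟨i⟩ := h0
        have : Unique ι := ⟨⟨i⟩, fun j => Subsingleton.elim _ _⟩
        rw [Matrix.det_unique] at hdet
        ext a b
        rw [Subsingleton.elim a default, Subsingleton.elim b default, hdet]
        simp
    rw [hg1]
    exact M.one_mem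
  · intro g hg
    have hdet : (g : Matrix ι ι F).det = 1 := by
      have : Matrix.GeneralLinearGroup.det g = 1 := hg
      have h2 := congrArg Units.val this
      simpa using h2
    let s : SpecialLinearGroup ι F := ⟨g, hdet⟩
    have hs : (SpecialLinearGroup.toGL s : GL ι F) = g := Units.ext rfl
    have key : ∀ s : SpecialLinearGroup ι F, (SpecialLinearGroup.toGL s : GL ι F) ∈ M := by
      intro s
      have : s ∈ (Subgroup.comap (SpecialLinearGroup.toGL (n := ι) (R := F)) M) := by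
        have htop : Subgroup.closure {g : SpecialLinearGroup ι F | ∃ (i j : ι) (hij : i ≠ j)
          (a : F), g = SpecialLinearGroup.transvection hij a} ≤
            (Subgroup.comap (SpecialLinearGroup.toGL (n := ι) (R := F)) M) := by
          rw [Subgroup.closure_le]
          rintro _ ⟨i, j, hij, a, rfl⟩
          show (SpecialLinearGroup.toGL (SpecialLinearGroup.transvection hij a) : GL ι F) ∈ M
          have hc : (Pi.single i 1 : ι → F) ∈ ctr M := by rw [h]; trivial
          obtain ⟨-, t, ht, h2⟩ := hc (a • LinearMap.proj j) (by simp [hij.symm])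
          have : (SpecialLinearGroup.toGL (SpecialLinearGroup.transvection hij a) : GL ι F) = t := by
            apply GL_ext
            intro x
            rw [h2]
            have h3 : ((SpecialLinearGroup.toGL (SpecialLinearGroup.transvection hij a) : GL ι F) :
              Matrix ι ι F) = Matrix.transvection i j a := rfl
            rw [h3, Matrix.transvection, add_mulVec, one_mulVec]
            congr 1
            ext k
            simp only [Matrix.mulVec, dotProduct, Matrix.single_apply, LinearMap.smul_apply,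
              LinearMap.proj_apply, smul_eq_mul, Pi.smul_apply, Pi.single_apply]
            by_cases hk : k = i
            · subst hk
              simp
            · simp [hk, Ne.symm hk]
          rw [this]
          exact ht
        apply htop
        rw [Cfsg.Agent.H5.SL.closure_transvections]
        trivial
      exact this
    rw [← hs]
    exact key s

end SL

end Cfsg.Agent.H29.Trv
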