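import Mathlib
import Cfsg.Agent.H29_Ut3

set_option autoImplicit false

/-! tables for the five-dimensional representation -/

namespace Cfsg.Agent.H29.Ut

open Matrix Module Cfsg.Geo Cfsg.Agent.H29.Fm Cfsg.Agent.H29.Us

/-- all codes -/
def al' (p : Bool × Bool → Bool) : Bool :=
  p (false, false) && p (false, true) && p (true, false) && p (true, true)

theorem of_al' {p : Bool × Bool → Bool} (h : al' p = true) (x : Bool × Bool) : p x = true := by
  unfold al' at h
  simp only [Bool.and_eq_true] at h
  obtain ⟨⟨⟨h1, h2⟩, h3⟩, h4⟩ := h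
  rcases x with ⟨_ | _, _ | _⟩
  · exact h1
  · exact h2
  · exact h3
  · exact h4

/-- the code of `w` -/
def w1 : Bool × Bool := (false, true)
/-- the code of `1 + w` -/
def w2 : Bool × Bool := (true, true)

/-- the index of a code vector -/
def en (a b c d e : Bool × Bool) : Nat :=
  cond a.1 1 0 + cond a.2 2 0 + cond b.1 4 0 + cond b.2 8 0 + cond c.1 16 0 + cond c.2 32 0 + cond d.1 64 0 + cond d.2 128 0 +
    cond e.1 256 0 + cond e.2 512 0

/-- the orbit -/
def iS (a b c d e : Bool × Bool) : Bool :=
  Nat.testBit 0x12000881026241153004150820000c06004080a28404028002120408c10180928400a02004c8204810a801040041821048003903210600014608001280001451980402050900a002006284000c804820202041c140081410840a120040120134083c600000010290000420906a08105c0a0000002850413100901050013953e (en a b c d e)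

theorem cD : al' (fun a => al' (fun b => al' (fun c => al' (fun d => al' (fun e =>
    !(iS a b c d e) || iS e (ad a (ml w2 e)) (ad b e) (ad c e) (ad d (ml w1 e))))))) = true := by
  decide +kernel

theorem cW : al' (fun a => al' (fun b => al' (fun c => al' (fun d => al' (fun e =>
    !(iS a b c d e) || iS (ml w1 a) (ml w1 b) (ml w1 c) (ml w1 d) (ml w1 e)))))) = true := by
  decide +kernel

theorem cF : al' (fun a => al' (fun b => al' (fun c => al' (fun d => al' (fun e =>
    !(iS a b c d e) || iS (ad a e) (ad (ad (ml w1 c) d) (ml w2 e)) (ad (ml w2 c) e) (ad (ml w1 c) e)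
      (ad (ad b (ml w2 c)) (ml w1 e))))))) = true := by
  decide +kernel

/-- the first functional -/
def fa (a b : Bool × Bool) : Bool × Bool := ad (ml w1 a) (ml w2 b)
/-- the second functional -/
def fb (a b c d e : Bool × Bool) : Bool × Bool := ad (ad (ad a b) (ad (ml w2 c) (ml w1 d))) (ml w2 e)

theorem cT : al' (fun a => al' (fun b => al' (fun c => al' (fun d => al' (fun e =>
    !(iS a b c d e) || iS (ad a (fb a b c d e)) (ad b (ml w2 (fb a b c d e))) c (ad d (fa a b))
      (ad (ad e (ml w2 (fa a b))) (ml w2 (fb a b c d e)))))))) = true := by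
  decide +kernel

theorem imp_of {p q : Bool} (h : (!p || q) = true) (hp : p = true) : q = true := by
  rw [hp] at h
  simpa using h

theorem sD {a b c d e : Bool × Bool} (h : iS a b c d e = true) : iS e (ad a (ml w2 e)) (ad b e) (ad c e) (ad d (ml w1 e)) = true :=
  imp_of (of_al' (of_al' (of_al' (of_al' (of_al' cD a) b) c) d) e) h

theorem sW {a b c d e : Bool × Bool} (h : iS a b c d e = true) : iS (ml w1 a) (ml w1 b) (ml w1 c) (ml w1 d) (ml w1 e) = true :=
  imp_of (of_al' (of_al' (of_al' (of_al' (of_al' cW a) b) c) d) e) h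

theorem sF {a b c d e : Bool × Bool} (h : iS a b c d e = true) : iS (ad a e) (ad (ad (ml w1 c) d) (ml w2 e)) (ad (ml w2 c) e)
    (ad (ml w1 c) e) (ad (ad b (ml w2 c)) (ml w1 e)) = true :=
  imp_of (of_al' (of_al' (of_al' (of_al' (of_al' cF a) b) c) d) e) h

theorem sT {a b c d e : Bool × Bool} (h : iS a b c d e = true) : iS (ad a (fb a b c d e)) (ad b (ml w2 (fb a b c d e))) c (ad d (fa a b))
      (ad (ad e (ml w2 (fa a b))) (ml w2 (fb a b c d e))) = true :=
  imp_of (of_al' (of_al' (of_al' (of_al' (of_al' cT a) b) c) d) e) h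

theorem sX : iS (false, false) w1 (false, false) (false, false) (false, false) = true := by decide +kernel

theorem sY : iS (false, false) w1 (false, false) (true, false) w2 = false := by decide +kernel

end Cfsg.Agent.H29.Ut
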