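import Mathlib
import Cfsg.Agent.H29_Un7
import Cfsg.Agent.H29_Wr7

set_option autoImplicit false

/-! maximal subgroups of special unitary groups, II -/

namespace Cfsg.Agent.H29.Fm

open Matrix Module Cfsg.Geo Cfsg.Agent.H29.Clifford Cfsg.Agent.H29.Asc Cfsg.Agent.H29.AscF Cfsg.Agent.H29.Trv
  Cfsg.Agent.H29.AscT
open scoped commutatorElement Kronecker

variable {F : Type*} [Field F] {n k m r t w : ℕ}

theorem SUmax' [Fintype F] {q : ℕ} (hF : Fintype.card F = q ^ 2) (hn : 5 ≤ n) {H : Subgroup (GL (Fin n) F)} (hH : IsMaximalIn (SUg n F q) H) :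
    (∃ W : Submodule F (Fin n → F), W ≠ ⊥ ∧ IsTotallySingularFor (Cfsg.hermForm n F q) W ∧
      H = subspaceStabilizer W ⊓ SUg n F q) ∨
    (∃ W : Submodule F (Fin n → F), W ≠ ⊥ ∧ IsNondegenerateOn (Cfsg.hermForm n F q) W ∧ 2 * finrank F W < n ∧
      H = subspaceStabilizer W ⊓ SUg n F q) ∨
    (∃ (t m : ℕ) (D : Fin t → Submodule F (Fin n → F)), t * m = n ∧ 2 ≤ t ∧ ¬ (m = 2 ∧ q = 2) ∧
      IsNondegenerateMDecomposition (Cfsg.hermForm n F q) m D ∧ H = decompositionStabilizer D ⊓ SUg n F q) ∨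
    (∃ (m : ℕ) (D : Fin 2 → Submodule F (Fin n → F)), 2 * m = n ∧ IsMDecomposition m D ∧
      (∀ i, IsTotallySingularFor (Cfsg.hermForm n F q) (D i)) ∧ H = decompositionStabilizer D ⊓ SUg n F q) ∨
    (∃ (r : ℕ) (K : Subalgebra F (Matrix (Fin n) (Fin n) F)), r.Prime ∧ Odd r ∧ r ∣ n ∧ IsFieldSubalgebra r K ∧
      IsAdjointClosedFor (Cfsg.hermForm n F q) K ∧ H = subalgebraNormalizer K ⊓ SUg n F q) ∨
    (∃ (n₁ n₂ : ℕ) (e : Fin n ≃ Fin n₁ × Fin n₂) (P : GL (Fin n) F) (f₁ : (Fin n₁ → F) → (Fin n₁ → F) → F)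
      (f₂ : (Fin n₂ → F) → (Fin n₂ → F) → F), 2 ≤ n₁ ∧ n₁ < n₂ ∧ n₁ * n₂ = n ∧ ¬ (n₁ = 2 ∧ q = 2) ∧
      IsUnitaryFormPow q f₁ ∧ IsUnitaryFormPow q f₂ ∧
      IsTensorFormStructure (fun x : F => x ^ q) (Cfsg.hermForm n F q) f₁ f₂ e P ∧
      H = tensorProductSubgroup n₁ n₂ e P ⊓ SUg n F q) ∨
    (∃ (F₀ : Subfield F) (r : ℕ) (P : GL (Fin n) F), r.Prime ∧ Odd r ∧ Fintype.card F = Nat.card F₀ ^ r ∧
      IsFormRationalStructure (Cfsg.hermForm n F q) F₀ 1 P ∧ H = subfieldSubgroup F₀ P ⊓ SUg n F q) ∨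
    (Odd q ∧ ∃ (F₀ : Subfield F) (P : GL (Fin n) F), Fintype.card F = Nat.card F₀ ^ 2 ∧
      IsFormRationalStructure (Cfsg.hermForm n F q) F₀ 1 P ∧ H = subfieldSubgroup F₀ P ⊓ SUg n F q) ∨
    (Even n ∧ ∃ (F₀ : Subfield F) (P : GL (Fin n) F) (ζ : F), Fintype.card F = Nat.card F₀ ^ 2 ∧ ζ ≠ 0 ∧
      ζ + ζ ^ q = 0 ∧ IsFormRationalStructure (Cfsg.hermForm n F q) F₀ ζ P ∧
      (∀ u : Fin n → F, (∀ i, u i ∈ F₀) → (Cfsg.hermForm n F q) ((P : Matrix (Fin n) (Fin n) F) *ᵥ u)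
        ((P : Matrix (Fin n) (Fin n) F) *ᵥ u) = 0) ∧ H = subfieldSubgroup F₀ P ⊓ SUg n F q) ∨
    (∃ (r : ℕ) (R : Subgroup (GL (Fin n) F)) (p e k : ℕ), IsSymplecticTypeGroup r R ∧
      ActsAbsolutelyIrreducibly (matrixSet R) ∧ R ≤ similarityGroup (Cfsg.hermForm n F q) ∧ r ≠ p ∧
      IsMinimalFieldFor (Nat.card (Subgroup.center R)) p e F ∧
      ((Odd r ∧ Nat.card (Subgroup.center R) = r ∧ 1 ≤ k ∧ Nat.card R = r ^ (1 + 2 * k)) ∨
       (r = 2 ∧ e = 2 ∧ Nat.card (Subgroup.center R) = 4 ∧ Nat.card R = 2 ^ (2 + 2 * k))) ∧ n = r ^ k ∧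
      H = subgroupNormalizer R ⊓ SUg n F q) ∨
    (∃ (k t : ℕ) (e : Fin n ≃ (Fin t → Fin k)) (P : GL (Fin n) F) (f₁ : (Fin k → F) → (Fin k → F) → F),
      3 ≤ k ∧ 2 ≤ t ∧ n = k ^ t ∧ ¬ (q = 2 ∧ k = 3) ∧ IsUnitaryFormPow q f₁ ∧
      IsTensorPowerFormStructure (fun x : F => x ^ q) (Cfsg.hermForm n F q) f₁ e P ∧
      H = tensorWreathSubgroup k t e P ⊓ SUg n F q) ∨
    InUnitaryResidualClass H := by
  classical
  by_contra hcon
  push Not at hcon
  obtain ⟨c1, c2, c3, c4, c5, c6, c7, c8, c9, c10, c11, c12⟩ := hcon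
  have hn0 : 0 < n := by omega
  set f := Cfsg.hermForm n F q with hfdef
  have hf : SFm (fq hF) 1 f := sfm_herm hF
  have hTV : TV f (SUg n F q) := tv_su hF
  have hSP : SPN f := spn_su hF (by omega)
  have hne := fq_ne hF
  have hfqe : (fun x : F => x ^ q) = (fq hF : F → F) := by
    funext x
    rw [fq_apply]
  rw [hfqe] at c6 c11
  have hHX : H ≤ SUg n F q := hH.1.le
  have hfix : Fx f H := fun g hg => fx_GU g (hHX hg).1
  have hq1 := Cfsg.Agent.H5.Fld.one_lt_q hF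
  have hq4 : q = 2 → Fintype.card F = 4 := by
    intro h
    rw [hF, h]
    norm_num
  have hmax : ∀ M : Subgroup (GL (Fin n) F), H ≤ M → ¬ SUg n F q ≤ M → H = M ⊓ SUg n F q := fun M h1 h2 =>
    eq_of_max' hH h1 h2
  have htop : ∀ {W : Submodule F (Fin n → F)}, 2 * finrank F W < n → W ≠ ⊤ := by
    intro W hW h
    rw [h, finrank_top, Module.finrank_fintype_fun_eq_card, Fintype.card_fin] at hW
    omega
  -- non-degenerate decompositions
  have d3 : ∀ (t k : ℕ) (D : Fin t → Submodule F (Fin n → F)), IsNondegenerateMDecomposition f k D →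
      ¬ H ≤ decompositionStabilizer D := by
    have key : ∀ (t k : ℕ) (D : Fin t → Submodule F (Fin n → F)), IsNondegenerateMDecomposition f k D →
        ¬ (k = 2 ∧ q = 2) → ¬ H ≤ decompositionStabilizer D := by
      intro t k D hD hkq hle
      refine c3 t k D (dec_card hD.decomp) hD.decomp.two_le (fun h1 h2 => hkq ⟨h1, h2⟩) hD (hmax _ hle ?_)
      have hk := hD.decomp.pos
      rcases Nat.lt_or_ge k 2 with h1 | h1
      · obtain rfl : k = 1 := by omega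
        refine not_le_frame hf hne hTV hD ?_
        by_cases h2 : (2 : F) = 0
        · exact Or.inr ⟨by omega, h2⟩
        · refine Or.inl ⟨by omega, 1, map_one _, one_ne_zero, ?_⟩
          intro h3
          apply h2
          linear_combination h3
      · exact not_le_dec hf hTV hSP hD.decomp h1
    intro t k D hD hle
    by_cases hkq : k = 2 ∧ q = 2
    · obtain ⟨rfl, hq⟩ := hkq
      subst hq
      obtain ⟨D', hD', h⟩ := refine_two hf (hq4 rfl) (fq_apply hF) hne hD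
      exact key _ _ D' hD' (by omega) (h H hfix hle)
    · exact key t k D hD hkq hle
  have d4 : ∀ (k : ℕ) (D : Fin 2 → Submodule F (Fin n → F)), IsMDecomposition k D →
      (∀ i, IsTotallySingularFor f (D i)) → ¬ H ≤ decompositionStabilizer D := by
    intro k D hD hts hle
    have h1 := dec_card hD
    exact c4 k D h1 hD hts (hmax _ hle (not_le_dec hf hTV hSP hD (by omega)))
  have hng : NG (fq hF) 1 f H := by
    refine ⟨hf, hfix, ?_, ?_, d3, d4, ?_⟩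
    · intro W h1 h2 hle
      refine c1 W h1 h2 (hmax _ hle (not_le_stab hf hTV hSP h1 ?_))
      rintro rfl
      obtain ⟨v, hv⟩ : ∃ v : Fin n → F, v ≠ 0 := by
        refine ⟨Pi.single ⟨0, hn0⟩ 1, fun h => ?_⟩
        have := congrFun h ⟨0, hn0⟩
        rw [Pi.single_eq_same] at this
        exact one_ne_zero this
      obtain ⟨x, hx⟩ := hf.nd v hv
      exact hx (h2 x trivial v trivial)
    · intro W h1 h2 h3 hle
      exact c2 W h1 h2 h3 (hmax _ hle (not_le_stab hf hTV hSP h1 (htop h3)))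
    · intro r K hr hodd hK hadj hle
      exact c5 r K hr (hodd hne) (fld_dvd hn0 hK) hK hadj (hmax _ hle (not_le_fld (by omega) hf hTV hSP hr.one_lt hK))
  apply c12
  have s1 : ∀ (F₀ : Subfield F) (r : ℕ) (P : GL (Fin n) F), r.Prime → Odd r → Fintype.card F = Nat.card F₀ ^ r →
      IsFormRationalStructure f F₀ 1 P → ¬ H ≤ subfieldSubgroup F₀ P := by
    intro F₀ r P hr hodd hcard hrat hle
    exact c7 F₀ r P hr hodd hcard hrat (hmax _ hle (su_not_sub hF (by omega) (sub_ne_top hr.one_lt hcard) P))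
  have s2 : ∀ (F₀ : Subfield F) (P : GL (Fin n) F), Odd q → Fintype.card F = Nat.card F₀ ^ 2 →
      IsFormRationalStructure f F₀ 1 P → ¬ H ≤ subfieldSubgroup F₀ P := by
    intro F₀ P hodd hcard hrat hle
    exact c8 hodd F₀ P hcard hrat (hmax _ hle (su_not_sub hF (by omega) (sub_ne_top one_lt_two hcard) P))
  have s3 : ∀ (F₀ : Subfield F) (P : GL (Fin n) F) (ζ : F), Even n → Fintype.card F = Nat.card F₀ ^ 2 → ζ ≠ 0 →
      ζ + ζ ^ q = 0 → IsFormRationalStructure f F₀ ζ P →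
      (∀ u : Fin n → F, (∀ i, u i ∈ F₀) → f ((P : Matrix (Fin n) (Fin n) F) *ᵥ u)
        ((P : Matrix (Fin n) (Fin n) F) *ᵥ u) = 0) → ¬ H ≤ subfieldSubgroup F₀ P := by
    intro F₀ P ζ hev hcard h0 h1 hrat h2 hle
    exact c9 hev F₀ P ζ hcard h0 h1 hrat h2 (hmax _ hle (su_not_sub hF (by omega) (sub_ne_top one_lt_two hcard) P))
  have s4 : ∀ (r : ℕ) (R : Subgroup (GL (Fin n) F)) (p e k : ℕ), IsSymplecticTypeGroup r R →
        ActsAbsolutelyIrreducibly (matrixSet R) → R ≤ similarityGroup f → r ≠ p →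
        IsMinimalFieldFor (Nat.card (Subgroup.center R)) p e F →
        ((Odd r ∧ Nat.card (Subgroup.center R) = r ∧ 1 ≤ k ∧ Nat.card R = r ^ (1 + 2 * k)) ∨
         (r = 2 ∧ e = 2 ∧ Nat.card (Subgroup.center R) = 4 ∧ Nat.card R = 2 ^ (2 + 2 * k))) → n = r ^ k →
        env R = ⊤ → (∀ x ∈ R, ∀ y ∈ R, ⁅x, y⁆ ∈ scalars (Fin n) F) → ¬ H ≤ subgroupNormalizer R := by
    intro r R p e k h1 h2 h3 h4 h5 h6 h7 h8 h9 hle
    exact c10 r R p e k h1 h2 h3 h4 h5 h6 h7 (hmax _ hle (not_le_norm hn hf hTV hSP h8 h9))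
  apply NU.residual (q := q) (τ := fq hF) (f := f) (by omega)
  refine ⟨hng, hF, fq_apply hF, hne, ?_, ?_, ?_, ?_, ?_, ?_, ?_⟩
  · intro n₁ n₂ e P f₁ f₂ h1 h2 hf₁ hf₂ hst hle
    obtain ⟨c, hc, hform⟩ := hst
    obtain ⟨hA, hdA⟩ := upow_gram hF hf₁
    obtain ⟨hB, hdB⟩ := upow_gram hF hf₂
    obtain ⟨Q, hQ, hQf⟩ := tens_orth hne hf.inv hA hB hdA hdB hform
    have hcard : n₁ * n₂ = n := by
      have := Fintype.card_congr e
      rw [Fintype.card_prod, Fintype.card_fin, Fintype.card_fin, Fintype.card_fin] at this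
      exact this.symm
    by_cases hq : n₁ = 2 ∧ q = 2
    · obtain ⟨rfl, hq⟩ := hq
      subst hq
      obtain ⟨D, hD, h⟩ := tens_two hf (hq4 rfl) (fq_apply hF) (by omega) hc hQf
      exact d3 _ _ D hD (h H hfix (hle.trans hQ))
    · refine c6 n₁ n₂ e P f₁ f₂ h1 h2 hcard (fun h h' => hq ⟨h, h'⟩) hf₁ hf₂ ⟨c, hc, hform⟩ (hmax _ hle ?_)
      intro h
      exact not_le_tens hf hne hTV h1 (by omega) hc hQf (h.trans hQ)
  · exact s1
  · exact s2
  · exact s3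
  · exact s4
  · intro k t e P f₁ h1 h2 h3 hf₁ hst hle
    have hcard : n = k ^ t := by
      have := Fintype.card_congr e
      rw [Fintype.card_fin, Fintype.card_fun, Fintype.card_fin, Fintype.card_fin] at this
      exact this
    refine c11 k t e P f₁ h1 h2 hcard (fun h h' => h3 ⟨h, h'⟩) hf₁ hst (hmax _ hle ?_)
    intro h
    obtain ⟨c, hc, hform⟩ := hst
    obtain ⟨hA, hdA⟩ := upow_gram hF hf₁
    obtain ⟨Q, hQ, hQf⟩ := wreath_orth hne hf.inv (B := fun _ => gramMatrix f₁) (fun _ => hA) (fun _ => hdA) hform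
    refine not_le_wr hf hne hTV h1 h2 hc ?_ (h.trans hQ)
    intro x y
    rw [hQf]
    have hK1 : K (fun _ => (1 : Matrix (Fin k) (Fin k) F) : Fin t → Matrix (Fin k) (Fin k) F) = 1 := K_one
    rw [hK1]
  · intro hq
    subst hq
    exact wr23_of (by omega) hf hne hF (fq_apply hF) hfix s1 s2 s3 s4

end Cfsg.Agent.H29.Fm
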