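import Mathlib
import Cfsg.Agent.H2_PF11
import Cfsg.Agent.H27_PV9
import Cfsg.Agent.H1_P13B

/-!
H2_C11: Peterfalvi §§10–11 — the structure `C11`: no type V, and the description of types III and IV.
-/

set_option autoImplicit false

universe u

namespace Cfsg.Agent.H2.C11

open Cfsg

/-- (10.10) + §11 -/
theorem c11 {G : Type u} [Group G] [Finite G] (hG : IsMinSimpleOddOrder G) : H1.P13.C11 G where
  h5 := fun M hM => by
    haveI := Fintype.ofFinite G
    exact H27.PV9.no_typeV hG hM
  h34 := fun M W₁ U W₂ hM ty hP => by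
    obtain ⟨h1, h2, h3, h4, h5, h6, h7, h8, -⟩ := H2.PF11.h34 hG hM ty hP
    exact ⟨h1, h2, h3, h4, h5, h6, h7, h8⟩

end Cfsg.Agent.H2.C11
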