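import Mathlib
import Cfsg.Prelude
import Cfsg.Agent.H12_Fit
import Cfsg.Agent.H12_Rank2
import Cfsg.Agent.H12_Rank2b
import Cfsg.Agent.H22_PSolv
import Cfsg.Agent.H2_PCons
import Cfsg.Agent.H2_Hup
import Cfsg.Agent.H2_AutEA
import Cfsg.Agent.H1_Super4

/-! Chief factors of p-solvable groups of p-rank two. -/

set_option autoImplicit false
set_option linter.unusedSectionVars false
set_option linter.style.haveILetI false

open Subgroup Cfsg
open scoped commutatorElement

universe u

namespace Cfsg.Agent.H2.ChiefR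

open Cfsg.Agent.H2.Card Cfsg.Agent.H22.PSolv

variable {G : Type u} [Group G] [Finite G] {p : ℕ} [hp : Fact p.Prime]

/-- chief factor -/
structure Ch (H K : Subgroup G) : Prop where
  hn : H.Normal
  kn : K.Normal
  lt : K < H
  chief : ∀ L : Subgroup G, L.Normal → K ≤ L → L ≤ H → L = K ∨ L = H

/-- `N` covers `H/K` -/
def Cov (H K N : Subgroup G) : Prop := ¬ H ⊓ N ≤ K

theorem Ch.sup {H K : Subgroup G} (h : Ch H K) {N : Subgroup G} (hN : N.Normal) (hc : Cov H K N) : (H ⊓ N) ⊔ K = H := by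
  haveI := h.hn
  haveI := h.kn
  rcases h.chief ((H ⊓ N) ⊔ K) inferInstance le_sup_right (sup_le inf_le_left h.lt.le) with h1 | h1
  · exfalso; apply hc; rw [← h1]; exact le_sup_left
  · exact h1

theorem Ch.step {H K : Subgroup G} (h : Ch H K) {N₁ N₂ : Subgroup G} (hN₁ : N₁.Normal) (hN₂ : N₂.Normal) (h1 : ¬ Cov H K N₁)
    (h2 : Cov H K N₂) (h12 : N₁ ≤ N₂) : K.relIndex H ∣ N₁.relIndex N₂ := by
  haveI := h.kn
  have e1 := h.sup hN₂ h2
  rw [Cov, not_not] at h1
  have e2 : K.relIndex H = K.relIndex (H ⊓ N₂) := by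
    conv_lhs => rw [← e1]
    exact relIndex_sup_of_le_normalizer le_normalizer_of_normal
  rw [e2]
  have e3 : K.relIndex (H ⊓ N₂) ∣ (N₁ ⊓ (H ⊓ N₂)).relIndex (H ⊓ N₂) := by
    apply relIndex_dvd_of_le_left
    refine le_trans ?_ h1
    rw [← inf_assoc, inf_comm N₁ H, inf_assoc]
    exact inf_le_inf le_rfl inf_le_left
  rw [inf_relIndex_right] at e3
  exact e3.trans (relIndex_dvd_relIndex_of_normal inf_le_right)

theorem index_frat_subgroup (T : Subgroup G) : ((frattini T).map T.subtype).relIndex T = (frattini T).index := by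
  rw [Subgroup.relIndex, ← Subgroup.comap_subtype, comap_map_eq_self_of_injective T.subtype_injective]

theorem Ch.frat {H K : Subgroup G} (h : Ch H K) (n : ℕ) : ∀ T : Subgroup G, Nat.card T ≤ n → T.Normal →
    (∀ S ≤ T, (frattini S).index ≤ p ^ 2) → Cov H K T → K.relIndex H ≤ p ^ 2 := by
  induction n with
  | zero => intro T hT; exact absurd (Nat.card_pos (α := T)) (by omega)
  | succ n ih =>
  intro T hT hTn hS hc
  set Φ := (frattini T).map T.subtype with hΦ
  haveI := hTn
  have hΦn : Φ.Normal := by rw [hΦ]; infer_instance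
  have hΦT : Φ ≤ T := map_subtype_le _
  by_cases hcΦ : Cov H K Φ
  · have hTne : Nontrivial T := by
      rw [Subgroup.nontrivial_iff_ne_bot]
      rintro rfl
      apply hc; rw [inf_bot_eq]; exact bot_le
    have hlt : Φ < T := by
      refine lt_of_le_of_ne hΦT fun he => ?_
      apply Cfsg.Agent.H2.Hup.frattini_ne_top (R := T)
      rw [eq_top_iff]
      rintro ⟨x, hx⟩ _
      rw [← he] at hx
      obtain ⟨y, hy, hyx⟩ := hx
      have : y = ⟨x, by rw [← he]; exact ⟨y, hy, hyx⟩⟩ := Subtype.ext hyx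
      rw [← this]; exact hy
    have h1 := card_lt_of_lt hlt
    exact ih Φ (by omega) hΦn (fun S hSΦ => hS S (hSΦ.trans hΦT)) hcΦ
  · have h1 := h.step hΦn hTn hcΦ hc hΦT
    rw [index_frat_subgroup] at h1
    exact (Nat.le_of_dvd (Nat.pos_of_ne_zero Subgroup.index_ne_zero_of_finite) h1).trans (hS T le_rfl)

section central

variable {T : Type u} [Group T] [Finite T]

theorem pow_inj (hp2 : p ≠ 2) (hT : IsPGroup p T) (hc : ∀ x : T, x ^ p = 1 → ∀ y : T, x * y = y * x) (n : ℕ) :
    ∀ x y : T, Nat.card (Reg.Pr x y) = n → x ^ p = y ^ p → (x⁻¹ * y) ^ p = 1 := by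
  induction n using Nat.strong_induction_on with
  | _ n ih =>
  intro x y hn h
  by_cases hxy : x * y = y * x
  · have hcm : Commute x⁻¹ y := (show Commute x y from hxy).inv_left
    rw [hcm.mul_pow, inv_pow, h, inv_mul_cancel]
  · set H := Reg.Pr x y with hH
    have hx := Reg.left_mem x y
    have hy := Reg.right_mem x y
    have hprop := Reg.proper hT hx hy hxy hx
    set x' := y * x * y⁻¹ with hx'
    have hle : Reg.Pr x x' ≤ zpowers x ⊔ ⁅H, H⁆ := by
      apply Reg.pr_le
      · exact (le_sup_left : zpowers x ≤ _) (mem_zpowers x)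
      · have e : x' = ⁅y, x⁆ * x := by rw [hx', commutatorElement_def]; group
        rw [e]
        exact mul_mem ((le_sup_right : ⁅H, H⁆ ≤ _) (commutator_mem_commutator hy hx)) ((le_sup_left : zpowers x ≤ _) (mem_zpowers x))
    have hlt : Nat.card (Reg.Pr x x') < n := by
      rw [← hn]
      exact card_lt_of_lt (lt_of_le_of_lt hle hprop)
    have hxp : x ^ p = x' ^ p := by
      rw [hx', conj_pow]
      have : y * x ^ p = x ^ p * y := by rw [h]; exact (Commute.refl y).pow_right p |>.eq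
      rw [this, mul_inv_cancel_right]
    have h1 := ih _ hlt x x' rfl hxp
    have h2 := hc _ h1
    have e1 : x⁻¹ * x' = ⁅x⁻¹, y⁆ := by rw [hx', commutatorElement_def]; group
    rw [e1] at h1 h2
    have e2 : ⁅y, x⁻¹⁆ = ⁅x⁻¹, y⁆⁻¹ := (commutatorElement_inv x⁻¹ y).symm
    have h3 : ∀ z : T, Commute z ⁅y, x⁻¹⁆ := by
      intro z
      rw [e2]
      exact (show Commute z ⁅x⁻¹, y⁆ from (h2 z).symm).inv_right
    rw [Cfsg.Agent.H2.Alperin.mul_pow_local (h3 x⁻¹) (h3 y), inv_pow, h, inv_mul_cancel, one_mul]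
    have h4 : p ∣ p.choose 2 := by
      have := Cfsg.Agent.H2.Alperin.dvd_choose_of_odd (n := 1) hp.out hp2
      simpa using this
    obtain ⟨k, hk⟩ := h4
    rw [hk, pow_mul, e2, inv_pow, h1, inv_one, one_pow]

theorem frat_index_le (hp2 : p ≠ 2) (hT : IsPGroup p T) (hc : ∀ x : T, x ^ p = 1 → ∀ y : T, x * y = y * x)
    (m : ℕ) (hm : ∀ D : Subgroup T, (∀ x ∈ D, x ^ p = 1) → Nat.card D ≤ m) : (frattini T).index ≤ m := by
  let D : Subgroup T :=
    { carrier := {x | x ^ p = 1}
      one_mem' := one_pow p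
      mul_mem' := by
        intro x y hx hy
        show (x * y) ^ p = 1
        rw [(show Commute x y from hc x hx y).mul_pow, hx, hy, one_mul]
      inv_mem' := by
        intro x hx
        show x⁻¹ ^ p = 1
        rw [inv_pow, hx, inv_one] }
  have hDm := hm D (fun x hx => hx)
  have hDn : D.Normal := by
    refine ⟨fun n hn g => ?_⟩
    have : g * n * g⁻¹ = n := by rw [← hc n hn g, mul_inv_cancel_right]
    rw [this]; exact hn
  let f : T ⧸ D → frattini T := Quotient.lift (fun x => ⟨x ^ p, Cfsg.Agent.H2.PGroup.pow_mem_frattini hT x⟩) (by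
    intro a b hab
    have h1 : a⁻¹ * b ∈ D := QuotientGroup.leftRel_apply.1 hab
    apply Subtype.ext
    show a ^ p = b ^ p
    have e : b = a * (a⁻¹ * b) := by group
    rw [e, (show Commute a (a⁻¹ * b) from (hc _ h1 a).symm).mul_pow, (show (a⁻¹ * b) ^ p = 1 from h1), mul_one])
  have hf : Function.Injective f := by
    intro x y hxy
    obtain ⟨a, rfl⟩ := QuotientGroup.mk_surjective x
    obtain ⟨b, rfl⟩ := QuotientGroup.mk_surjective y
    rw [QuotientGroup.eq]
    exact pow_inj hp2 hT hc _ a b rfl (congrArg Subtype.val hxy)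
  have h1 := Nat.card_le_card_of_injective f hf
  have h2 := Subgroup.card_eq_card_quotient_mul_card_subgroup D
  have h3 := (frattini T).card_mul_index
  have h4 : Nat.card (frattini T) * (frattini T).index ≤ Nat.card (frattini T) * Nat.card D := by
    rw [h3, h2]; exact Nat.mul_le_mul_right _ h1
  exact (Nat.le_of_mul_le_mul_left h4 Nat.card_pos).trans hDm

end central

/-- subgroups whose elements of order `p` are central -/
theorem central_case (hp2 : p ≠ 2) {T D : Subgroup G} (hT : IsPGroup p T) (hD : Nat.card D ≤ p ^ 2)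
    (h1 : ∀ x ∈ T, x ^ p = 1 → x ∈ D) (h2 : ∀ x ∈ D, ∀ y ∈ T, x * y = y * x) : ∀ S ≤ T, (frattini S).index ≤ p ^ 2 := by
  intro S hS
  apply frat_index_le hp2 (hT.to_le hS)
  · intro x hx y
    exact Subtype.ext (h2 x (h1 x (hS x.2) (congrArg Subtype.val hx)) y (hS y.2))
  · intro E hE
    rw [Nat.card_congr (E.equivMapOfInjective S.subtype S.subtype_injective).toEquiv]
    refine (Subgroup.card_le_of_le ?_).trans hD
    rintro _ ⟨x, hx, rfl⟩
    exact h1 x (hS x.2) (congrArg Subtype.val (hE x hx))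

/-- action on a normal subgroup of order at most `p` -/
theorem act_small (N : Subgroup G) [hN : N.Normal] (hc : Nat.card N = p ∨ Nat.card N = 1) :
    (∀ x y : G, ⁅x, y⁆ ∈ centralizer (N : Set G)) ∧ ∀ x : G, x ^ (p - 1) ∈ centralizer (N : Set G) := by
  rcases hc with hc | hc
  · have hcyc : IsCyclic N := isCyclic_of_prime_card hc
    have hcent : ∀ g : G, MulAut.conjNormal (H := N) g = 1 → g ∈ centralizer (N : Set G) := by
      intro g hg
      rw [mem_centralizer_iff]
      intro n hn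
      have h1 := congrArg (fun f : MulAut N => ((f ⟨n, hn⟩ : N) : G)) hg
      change g * n * g⁻¹ = n at h1
      nth_rewrite 1 [← h1]; group
    have hcomm : ∀ a b : MulAut N, a * b = b * a := by
      intro a b
      apply (IsCyclic.mulAutMulEquiv N).injective
      rw [map_mul, map_mul, mul_comm]
    have hcard : Nat.card (MulAut N) = p - 1 := Cfsg.Agent.H2.AutEA.card_mulAut_ea_one hc
    refine ⟨fun x y => hcent _ ?_, fun x => hcent _ ?_⟩
    · rw [map_commutatorElement, commutatorElement_eq_one_iff_mul_comm]; exact hcomm _ _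
    · rw [map_pow, ← hcard, pow_card_eq_one']
  · have hb : N = ⊥ := Subgroup.card_eq_one.1 hc
    subst hb
    have : ∀ g : G, g ∈ centralizer ((⊥ : Subgroup G) : Set G) := by
      intro g
      rw [mem_centralizer_iff]
      intro n hn
      rw [show n = 1 from hn, one_mul, mul_one]
    exact ⟨fun x y => this _, fun x => this _⟩

/-- the stabilizer of a section -/
def secCent (D Z : Subgroup G) [hD : D.Normal] [hZ : Z.Normal] : Subgroup G :=
  (centralizer ((D.map (QuotientGroup.mk' Z) : Subgroup (G ⧸ Z)) : Set (G ⧸ Z))).comap (QuotientGroup.mk' Z)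

theorem mem_secCent {D Z : Subgroup G} [hD : D.Normal] [hZ : Z.Normal] {g : G} :
    g ∈ secCent D Z ↔ ∀ d ∈ D, d⁻¹ * (g * d * g⁻¹) ∈ Z := by
  rw [secCent, mem_comap, mem_centralizer_iff]
  constructor
  · intro h d hd
    have h1 := h _ (mem_map_of_mem _ hd)
    rw [← map_mul, ← map_mul] at h1
    have h2 := QuotientGroup.eq.1 h1
    have e : d⁻¹ * (g * d * g⁻¹) = (g * ((d * g)⁻¹ * (g * d)) * g⁻¹) := by group
    rw [e]
    exact hZ.conj_mem _ h2 g
  · rintro h _ ⟨d, hd, rfl⟩
    rw [← map_mul, ← map_mul]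
    apply QuotientGroup.eq.2
    have e : (d * g)⁻¹ * (g * d) = g⁻¹ * (d⁻¹ * (g * d * g⁻¹)) * g⁻¹⁻¹ := by group
    rw [e]
    exact hZ.conj_mem _ (h d hd) _

theorem secCent_normal {D Z : Subgroup G} [hD : D.Normal] [hZ : Z.Normal] : (secCent D Z).Normal := by
  haveI : (D.map (QuotientGroup.mk' Z)).Normal := hD.map _ (QuotientGroup.mk'_surjective Z)
  rw [secCent]; infer_instance

theorem card_map_mk (D Z : Subgroup G) [hZ : Z.Normal] : Nat.card (D.map (QuotientGroup.mk' Z)) = Z.relIndex D := by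
  rw [← relIndex_ker, QuotientGroup.ker_mk']

/-- a `p'`-element acting trivially on a central series of length two -/
theorem fix_of_two {x d e : G} (hx : (orderOf x).Coprime p) (h1 : x * d * x⁻¹ = d * e) (h2 : x * e * x⁻¹ = e) (he : ∃ k, e ^ p ^ k = 1) :
    x * d * x⁻¹ = d := by
  have h3 : ∀ n : ℕ, x ^ n * d * (x ^ n)⁻¹ = d * e ^ n := by
    intro n
    induction n with
    | zero => simp
    | succ n ih =>
      have e1 : x ^ (n + 1) * d * (x ^ (n + 1))⁻¹ = x * (x ^ n * d * (x ^ n)⁻¹) * x⁻¹ := by rw [pow_succ']; group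
      rw [e1, ih]
      have e2 : x * (d * e ^ n) * x⁻¹ = (x * d * x⁻¹) * (x * e ^ n * x⁻¹) := by group
      rw [e2, h1, ← conj_pow, h2, pow_succ' e n, mul_assoc]
  have h4 := h3 (orderOf x)
  rw [pow_orderOf_eq_one, one_mul, inv_one, mul_one] at h4
  have h5 : e ^ orderOf x = 1 := by
    have : d * e ^ orderOf x = d * 1 := by rw [← h4, mul_one]
    exact mul_left_cancel this
  obtain ⟨k, hk⟩ := he
  have h6 : orderOf e ∣ 1 := by
    rw [← (hx.pow_right k)]
    exact Nat.dvd_gcd (orderOf_dvd_of_pow_eq_one h5) (orderOf_dvd_of_pow_eq_one hk)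
  have h7 : e = 1 := orderOf_eq_one_iff.1 (Nat.dvd_one.1 h6)
  rw [h1, h7, mul_one]

/-- two small factors -/
theorem two_small {D D₁ : Subgroup G} (hD : D.Normal) (hD₁ : D₁.Normal) (hDp : IsPGroup p D) (h1 : D₁ ≤ D)
    (hc1 : Nat.card D₁ = p ∨ Nat.card D₁ = 1) (hc2 : D₁.relIndex D = p ∨ D₁.relIndex D = 1)
    (hf : ∀ x : G, (orderOf x).Coprime p → (∀ d ∈ D, x * d * x⁻¹ = d) → x = 1) :
    (∀ x y : G, ⁅x, y⁆ ∈ pCore p G) ∧ ∀ x : G, x ^ (p - 1) ∈ pCore p G := by
  haveI := hD
  haveI := hD₁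
  set U := secCent D D₁ ⊓ centralizer (D₁ : Set G) with hU
  haveI : (secCent D D₁).Normal := secCent_normal
  have hUn : U.Normal := by rw [hU]; infer_instance
  have hUp : IsPGroup p U := by
    apply Cfsg.Agent.H2.PCons.isPGroup_of_forall_coprime
    rintro x ⟨hx1, hx2⟩ hxc
    apply hf x hxc
    intro d hd
    have h3 := mem_secCent.1 hx1 d hd
    have h4 := (mem_centralizer_iff.1 hx2) _ h3
    obtain ⟨k, hk⟩ := hDp ⟨_, h1 h3⟩
    refine fix_of_two (e := d⁻¹ * (x * d * x⁻¹)) hxc (by group) ?_ ⟨k, congrArg Subtype.val hk⟩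
    rw [← h4, mul_inv_cancel_right]
  have hUR : U ≤ pCore p G := Cfsg.Agent.H1.Nilp.le_pCore hUn hUp
  haveI : (D.map (QuotientGroup.mk' D₁)).Normal := hD.map _ (QuotientGroup.mk'_surjective D₁)
  have a1 := act_small (p := p) D₁ hc1
  have a2 := act_small (p := p) (D.map (QuotientGroup.mk' D₁)) (by rw [card_map_mk]; exact hc2)
  refine ⟨fun x y => hUR (mem_inf.2 ⟨?_, a1.1 x y⟩), fun x => hUR (mem_inf.2 ⟨?_, a1.2 x⟩)⟩
  · rw [secCent, mem_comap, map_commutatorElement]; exact a2.1 _ _
  · rw [secCent, mem_comap, map_pow]; exact a2.2 _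

/-- chief factors when `G/O_p(G)` is abelian of exponent dividing `p - 1` -/
theorem Ch.abel {H K : Subgroup G} (h : Ch H K) {n : ℕ} (hn : K.relIndex H = p ^ n)
    (h1 : ∀ x y : G, ⁅x, y⁆ ∈ pCore p G) (h2 : ∀ x : G, x ^ (p - 1) ∈ pCore p G) : K.relIndex H ≤ p := by
  haveI := h.hn
  haveI := h.kn
  haveI hRn : (pCore p G).Normal := Cfsg.Agent.H1.Nilp.pCore_normal p
  have hRp : IsPGroup p (pCore p G) := Cfsg.Agent.H1.Nilp.pCore_isPGroup p
  set π := QuotientGroup.mk' K with hπ
  have hsurj : Function.Surjective π := QuotientGroup.mk'_surjective K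
  set N := H.map π with hN
  haveI hNn : N.Normal := h.hn.map π hsurj
  have hNc : Nat.card N = p ^ n := by rw [hN, card_map_mk, hn]
  have hNp : IsPGroup p N := IsPGroup.of_card hNc
  have hNb : N ≠ ⊥ := by
    intro hb
    apply h.lt.not_ge
    intro x hx
    have : π x ∈ N := mem_map_of_mem π hx
    rw [hb, mem_bot] at this
    exact (QuotientGroup.eq_one_iff _).1 this
  have hmin : ∀ M : Subgroup (G ⧸ K), M.Normal → M ≤ N → M = ⊥ ∨ M = N := by
    intro M hM hMN
    have hcm : (N.comap π) = H := by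
      rw [hN, comap_map_eq, QuotientGroup.ker_mk']; exact sup_eq_left.2 h.lt.le
    rcases h.chief (M.comap π) (hM.comap π) (by
      intro k hk
      rw [mem_comap]
      have : π k = 1 := (QuotientGroup.eq_one_iff _).2 hk
      rw [this]; exact one_mem _) (by rw [← hcm]; exact comap_mono hMN) with h3 | h3
    · left
      rw [eq_bot_iff]
      intro y hy
      obtain ⟨w, rfl⟩ := hsurj y
      have : w ∈ M.comap π := hy
      rw [h3] at this
      exact (QuotientGroup.eq_one_iff _).2 this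
    · right
      rw [hN, ← h3, map_comap_eq_self_of_surjective hsurj]
  -- the image of the core
  set Q := (pCore p G).map π ⊔ N with hQ
  haveI : ((pCore p G).map π).Normal := hRn.map π hsurj
  haveI hQn : Q.Normal := by rw [hQ]; infer_instance
  have hQp : IsPGroup p Q := (hRp.map π).to_sup_of_normal_right hNp
  have hNQ : N ≤ Q := le_sup_right
  have hz : N ≤ centralizer (Q : Set (G ⧸ K)) := by
    have hne : N ⊓ centralizer (Q : Set (G ⧸ K)) ≠ ⊥ := by
      haveI : (N.subgroupOf Q).Normal := inferInstance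
      have h3 := Cfsg.Agent.H2.PGroup.inf_center_ne_bot hQp (M := N.subgroupOf Q) (by
        intro hb
        apply hNb
        rw [eq_bot_iff]
        intro y hy
        have : (⟨y, hNQ hy⟩ : Q) ∈ N.subgroupOf Q := mem_subgroupOf.2 hy
        rw [hb, mem_bot] at this
        exact congrArg Subtype.val this)
      intro hb
      apply h3
      rw [eq_bot_iff]
      rintro ⟨y, hyQ⟩ ⟨hy1, hy2⟩
      have : y ∈ N ⊓ centralizer (Q : Set (G ⧸ K)) := by
        refine ⟨mem_subgroupOf.1 hy1, ?_⟩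
        show y ∈ centralizer (Q : Set (G ⧸ K))
        rw [mem_centralizer_iff]
        intro q hq
        exact congrArg Subtype.val (mem_center_iff.1 hy2 ⟨q, hq⟩)
      rw [hb, mem_bot] at this
      rw [mem_bot]
      exact Subtype.ext this
    rcases hmin (N ⊓ centralizer (Q : Set (G ⧸ K))) inferInstance inf_le_left with h4 | h4
    · exact absurd h4 hne
    · exact inf_eq_left.1 h4
  have hcomm : IsMulCommutative N := ⟨⟨fun a b => Subtype.ext
    ((mem_centralizer_iff.1 (hz b.2) a (hNQ a.2)))⟩⟩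
  have hexp : ∀ x ∈ N, x ^ p = 1 := by
    -- `Ω₁(N)` is normal
    let M : Subgroup (G ⧸ K) :=
      { carrier := {x | x ∈ N ∧ x ^ p = 1}
        one_mem' := ⟨one_mem _, one_pow p⟩
        mul_mem' := by
          rintro x y ⟨hx, hx'⟩ ⟨hy, hy'⟩
          refine ⟨mul_mem hx hy, ?_⟩
          have : Commute x y := congrArg Subtype.val (hcomm.is_comm.comm (⟨x, hx⟩ : N) ⟨y, hy⟩)
          rw [this.mul_pow, hx', hy', one_mul]
        inv_mem' := by
          rintro x ⟨hx, hx'⟩
          exact ⟨inv_mem hx, by rw [inv_pow, hx', inv_one]⟩ }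
    have hM : M.Normal := by
      refine ⟨?_⟩
      rintro x ⟨hx, hx'⟩ g
      exact ⟨hNn.conj_mem x hx g, by rw [conj_pow, hx']; group⟩
    rcases hmin M hM (fun x hx => hx.1) with h3 | h3
    · exfalso
      have hdvd : p ∣ Nat.card N := by
        rw [hNc]
        apply dvd_pow_self
        rintro rfl
        rw [pow_zero] at hNc
        exact hNb (card_eq_one.1 hNc)
      obtain ⟨x, hx⟩ := exists_prime_orderOf_dvd_card' p hdvd
      have h4 : (x : G ⧸ K) ∈ M := by
        refine ⟨x.2, ?_⟩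
        have := pow_orderOf_eq_one x
        rw [hx] at this
        exact congrArg Subtype.val this
      rw [h3, mem_bot] at h4
      have : x = 1 := Subtype.ext h4
      rw [this, orderOf_one] at hx
      exact hp.out.one_lt.ne hx
    · intro x hx
      rw [← h3] at hx
      exact hx.2
  have hRC : (pCore p G).map π ≤ centralizer (N : Set (G ⧸ K)) := by
    rw [le_centralizer_iff]
    exact hz.trans (Subgroup.centralizer_le (show (((pCore p G).map π : Subgroup (G ⧸ K)) : Set (G ⧸ K)) ⊆ Q from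
      (le_sup_left : (pCore p G).map π ≤ Q)))
  have hcyc : IsCyclic N := by
    apply Cfsg.Agent.H1.Super4.isCyclic_of_exponent N hNb hmin hcomm p hexp
    · rw [_root_.commutator_def, commutator_le]
      intro a _ b _
      obtain ⟨a, rfl⟩ := hsurj a
      obtain ⟨b, rfl⟩ := hsurj b
      rw [← map_commutatorElement]
      exact hRC (mem_map_of_mem π (h1 a b))
    · intro a
      obtain ⟨a, rfl⟩ := hsurj a
      rw [← map_pow]
      exact hRC (mem_map_of_mem π (h2 a))
  obtain ⟨g, hg⟩ := hcyc.exists_generator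
  rw [← card_map_mk, ← hπ, ← hN, ← orderOf_eq_card_of_forall_mem_zpowers hg]
  apply Nat.le_of_dvd hp.out.pos
  apply orderOf_dvd_of_pow_eq_one
  exact Subtype.ext (hexp g g.2)

end Cfsg.Agent.H2.ChiefR
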