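import Mathlib
import Cfsg.Prelude
import Cfsg.Agent.H2_ChiefR
import Cfsg.Agent.H11_Cores

/-! Chief factors of p-solvable groups of p-rank two. -/

set_option autoImplicit false
set_option linter.unusedSectionVars false
set_option linter.style.haveILetI false

open Subgroup Cfsg
open scoped commutatorElement

universe u

namespace Cfsg.Agent.H2.ChiefR

open Cfsg.Agent.H2.Card Cfsg.Agent.H22.PSolv

variable {G : Type u} [Group G] [Finite G] {p : ℕ} [hp : Fact p.Prime]

/-- an elementary abelian subgroup of order at least `p ^ k` is its own centralizer in elements of order `p` -/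
theorem max_ea {k : ℕ} (hr : PRankLE p k G) {A : Subgroup G} (hA : ∀ a ∈ A, ∀ b ∈ A, a * b = b * a)
    (hexp : ∀ a ∈ A, a ^ p = 1) (hc : p ^ k ≤ Nat.card A) {x : G} (hx : x ^ p = 1) (hxA : ∀ a ∈ A, x * a = a * x) :
    x ∈ A := by
  let B : Subgroup G :=
    { carrier := {y | y ^ p = 1 ∧ ∃ a ∈ A, ∃ n : ℤ, y = a * x ^ n}
      one_mem' := ⟨one_pow p, 1, one_mem _, 0, by simp⟩
      mul_mem' := by
        rintro _ _ ⟨h1, a, ha, n, rfl⟩ ⟨h2, b, hb, m, rfl⟩
        have c1 : Commute (x ^ n) b := (show Commute x b from hxA b hb).zpow_left n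
        have e : a * x ^ n * (b * x ^ m) = (a * b) * x ^ (n + m) := by
          rw [mul_assoc, ← mul_assoc (x ^ n), c1.eq, mul_assoc b, ← zpow_add, ← mul_assoc]
        refine ⟨?_, a * b, mul_mem ha hb, n + m, e⟩
        rw [e]
        have c2 : Commute (a * b) (x ^ (n + m)) :=
          ((show Commute x (a * b) from hxA _ (mul_mem ha hb)).zpow_left _).symm
        rw [c2.mul_pow, hexp _ (mul_mem ha hb), one_mul, ← zpow_natCast, ← zpow_mul, mul_comm, zpow_mul, zpow_natCast, hx, one_zpow]
      inv_mem' := by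
        rintro _ ⟨h1, a, ha, n, rfl⟩
        refine ⟨by rw [inv_pow, h1, inv_one], a⁻¹, inv_mem ha, -n, ?_⟩
        have c1 : Commute (x ^ n) a := (show Commute x a from hxA a ha).zpow_left n
        rw [← c1.eq, mul_inv_rev, zpow_neg] }
  have hAB : A ≤ B := fun a ha => ⟨hexp a ha, a, ha, 0, by simp⟩
  have hxB : x ∈ B := ⟨hx, 1, one_mem _, 1, by simp⟩
  have hBc : Nat.card B ≤ p ^ k := by
    refine hr B ⟨⟨?_⟩⟩ (fun y hy => hy.1)
    rintro ⟨_, h1, a, ha, n, rfl⟩ ⟨_, h2, b, hb, m, rfl⟩
    apply Subtype.ext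
    show a * x ^ n * (b * x ^ m) = b * x ^ m * (a * x ^ n)
    have c1 : Commute (x ^ n) b := (show Commute x b from hxA b hb).zpow_left n
    have c2 : Commute (x ^ m) a := (show Commute x a from hxA a ha).zpow_left m
    have e1 : a * x ^ n * (b * x ^ m) = a * b * (x ^ n * x ^ m) := by
      rw [mul_assoc, ← mul_assoc (x ^ n), c1.eq]; group
    have e2 : b * x ^ m * (a * x ^ n) = b * a * (x ^ m * x ^ n) := by
      rw [mul_assoc, ← mul_assoc (x ^ m), c2.eq]; group
    rw [e1, e2, hA a ha b hb, ← zpow_add, ← zpow_add, add_comm]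
  have := Subgroup.eq_of_le_of_card_ge hAB (hBc.trans hc)
  rw [this]; exact hxB

theorem index_centralizer_dvd (N : Subgroup G) [hN : N.Normal] : (centralizer (N : Set G)).index ∣ Nat.card (MulAut N) := by
  have hk : (MulAut.conjNormal (H := N)).ker = centralizer (N : Set G) := by
    ext g
    rw [MonoidHom.mem_ker, mem_centralizer_iff]
    constructor
    · intro hg n hn
      have h1 := congrArg (fun f : MulAut N => ((f ⟨n, hn⟩ : N) : G)) hg
      change g * n * g⁻¹ = n at h1
      nth_rewrite 1 [← h1]; group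
    · intro hg
      apply MulEquiv.ext
      intro n
      apply Subtype.ext
      show g * n * g⁻¹ = n
      rw [← hg n n.2, mul_inv_cancel_right]
  rw [← hk, Subgroup.index_ker]
  exact Subgroup.card_subgroup_dvd_card _

theorem small_of_dvd {n : ℕ} (h : p ^ n ∣ (p ^ 2 - 1) * (p ^ 2 - p)) : p ^ n ≤ p ^ 2 := by
  have hpp := hp.out
  have e : (p ^ 2 - 1) * (p ^ 2 - p) = p * ((p ^ 2 - 1) * (p - 1)) := by
    have : p ^ 2 - p = p * (p - 1) := by rw [Nat.mul_sub, mul_one, sq]
    rw [this]; ring
  have hc1 : Nat.Coprime p (p - 1) := (Nat.coprime_self_sub_right hpp.one_lt.le).2 (Nat.coprime_one_right p)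
  have hc2 : Nat.Coprime p (p ^ 2 - 1) := by
    have h2 : 1 ≤ p ^ 2 := Nat.one_le_pow _ _ hpp.pos
    have h3 : Nat.Coprime (p ^ 2) (p ^ 2 - 1) := (Nat.coprime_self_sub_right h2).2 (Nat.coprime_one_right _)
    exact Nat.Coprime.coprime_dvd_left (dvd_pow_self p two_ne_zero) h3
  rw [e] at h
  have h2 : p ^ n ∣ p := Nat.Coprime.dvd_of_dvd_mul_right ((hc2.mul_right hc1).pow_left n) h
  exact (Nat.le_of_dvd hpp.pos h2).trans (Nat.le_self_pow two_ne_zero p)

theorem card_cases {D : Subgroup G} (hD : IsPGroup p D) (h : Nat.card D ≤ p ^ 2) :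
    Nat.card D = 1 ∨ Nat.card D = p ∨ Nat.card D = p ^ 2 := by
  obtain ⟨m, hm⟩ := IsPGroup.iff_card.1 hD
  rw [hm] at h
  have h2 := (Nat.pow_le_pow_iff_right hp.out.one_lt).1 h
  rw [hm]
  interval_cases m
  · left; rfl
  · right; left; rw [pow_one]
  · right; right; rfl

theorem comm_mul_central {a b z w : G} (h1 : z * a = a * z) (h2 : z * b = b * z) (h3 : w * a = a * w)
    (h4 : w * b = b * w) (h5 : z * w = w * z) : ⁅a * z, b * w⁆ = ⁅a, b⁆ := by
  have c1 : Commute z a := h1
  have c2 : Commute z b := h2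
  have c3 : Commute w a := h3
  have c4 : Commute w b := h4
  have c5 : Commute z w := h5
  rw [commutatorElement_def, commutatorElement_def]
  have e1 : (a * z)⁻¹ = a⁻¹ * z⁻¹ := by rw [mul_inv_rev]; exact (c1.inv_inv).eq
  have e2 : (b * w)⁻¹ = b⁻¹ * w⁻¹ := by rw [mul_inv_rev]; exact (c4.inv_inv).eq
  rw [e1, e2]
  calc a * z * (b * w) * (a⁻¹ * z⁻¹) * (b⁻¹ * w⁻¹) = a * (z * b) * w * a⁻¹ * z⁻¹ * b⁻¹ * w⁻¹ := by group
    _ = a * b * (z * w) * a⁻¹ * z⁻¹ * b⁻¹ * w⁻¹ := by rw [h2]; group
    _ = a * b * w * (z * a⁻¹) * z⁻¹ * b⁻¹ * w⁻¹ := by rw [h5]; group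
    _ = a * b * (w * a⁻¹) * b⁻¹ * w⁻¹ := by rw [c1.inv_right.eq]; group
    _ = a * b * a⁻¹ * (w * b⁻¹) * w⁻¹ := by rw [c3.inv_right.eq]; group
    _ = a * b * a⁻¹ * b⁻¹ := by rw [c4.inv_right.eq]; group

theorem core (hp2 : p ≠ 2) (hG : IsPSolvable p G) (h1 : pPrimeCore p G = ⊥) (hr : PRankLE p 2 G)
    {H K : Subgroup G} (h : Ch H K) {n : ℕ} (hn : K.relIndex H = p ^ n) : K.relIndex H ≤ p ^ 2 := by
  have hpp := hp.out
  set R := pCore p G with hR
  haveI hRn : R.Normal := Cfsg.Agent.H1.Nilp.pCore_normal p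
  have hRp : IsPGroup p R := Cfsg.Agent.H1.Nilp.pCore_isPGroup p
  have hCR : centralizer (R : Set G) ≤ R := centralizer_pCore_le hG h1
  obtain ⟨K', hK'c, hexp, hcom, hfaith⟩ := H12.Rank2.exists_crit hp2 hRp
  set D := K'.map R.subtype with hDdef
  haveI hDn : D.Normal := by rw [hDdef]; infer_instance
  have hDR : D ≤ R := map_subtype_le _
  have hDp : IsPGroup p D := hRp.to_le hDR
  have hf : ∀ x : G, (orderOf x).Coprime p → (∀ d ∈ D, x * d * x⁻¹ = d) → x = 1 := by
    intro x hx hxD
    have h2 : zpowers x ≤ centralizer (R : Set G) := by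
      apply hfaith
      · exact le_normalizer_of_normal
      · rw [Nat.card_zpowers]; exact hx
      · rw [zpowers_le, mem_centralizer_iff]
        intro d hd
        nth_rewrite 1 [← hxD d hd]; group
    have h3 : x ∈ R := hCR (h2 (mem_zpowers x))
    obtain ⟨k, hk⟩ := hRp ⟨x, h3⟩
    have h4 : x ^ p ^ k = 1 := congrArg Subtype.val hk
    have h5 : orderOf x ∣ 1 := by
      rw [← (hx.pow_right k)]
      exact Nat.dvd_gcd dvd_rfl (orderOf_dvd_of_pow_eq_one h4)
    exact orderOf_eq_one_iff.1 (Nat.dvd_one.1 h5)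
  -- finishing with an index
  have fin : ∀ X : Subgroup G, X ≤ R → ¬ Cov H K R → X.index ∣ (p ^ 2 - 1) * (p ^ 2 - p) → K.relIndex H ≤ p ^ 2 := by
    intro X hXR hc hX
    have h2 : Cov H K (⊤ : Subgroup G) := by
      rw [Cov, inf_top_eq]
      exact fun hh => h.lt.not_ge hh
    have h3 := h.step hRn inferInstance hc h2 le_top
    rw [relIndex_top_right] at h3
    have h4 := h3.trans ((Subgroup.index_dvd_of_le hXR).trans hX)
    rw [hn] at h4 ⊢
    exact small_of_dvd h4
  rcases H12.Rank2.card_of_exp (K := D) (p := p) (fun x => Subtype.ext (hexp x x.2)) (fun a b => by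
      rw [mem_center_iff]
      intro c
      apply Subtype.ext
      exact mem_centralizer_iff.1 (hcom a a.2 b (hDR b.2)) c c.2) (fun E hE => by
      rw [Nat.card_congr (E.equivMapOfInjective D.subtype D.subtype_injective).toEquiv]
      refine hr _ ⟨⟨?_⟩⟩ ?_
      · rintro ⟨_, a, ha, rfl⟩ ⟨_, b, hb, rfl⟩
        apply Subtype.ext
        have := congrArg (fun z : E => ((z : D) : G)) (hE.1.is_comm.comm ⟨a, ha⟩ ⟨b, hb⟩)
        exact this
      · rintro _ ⟨a, ha, rfl⟩
        exact hexp a a.2) with ⟨hab, hcard⟩ | ⟨⟨a, b, hab⟩, hc3, hcz, hcq⟩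
  · -- `D` abelian
    have hab' : ∀ a ∈ D, ∀ b ∈ D, a * b = b * a := fun a ha b hb => congrArg Subtype.val (hab ⟨a, ha⟩ ⟨b, hb⟩)
    set C := centralizer (D : Set G) with hC
    have hCp : IsPGroup p C := by
      apply Cfsg.Agent.H2.PCons.isPGroup_of_forall_coprime
      intro x hx hxc
      apply hf x hxc
      intro d hd
      rw [← mem_centralizer_iff.1 hx d hd, mul_inv_cancel_right]
    have hCR' : C ≤ R := Cfsg.Agent.H1.Nilp.le_pCore inferInstance hCp
    rcases card_cases hDp hcard with hc | hc | hc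
    · have h2 := two_small (p := p) (D := D) (D₁ := ⊥) hDn inferInstance hDp bot_le (Or.inr Subgroup.card_bot) (by
        rw [relIndex_bot_left]; right; exact hc) hf
      exact (h.abel hn h2.1 h2.2).trans (Nat.le_self_pow two_ne_zero p)
    · have h2 := two_small (p := p) (D := D) (D₁ := ⊥) hDn inferInstance hDp bot_le (Or.inr Subgroup.card_bot) (by
        rw [relIndex_bot_left]; left; exact hc) hf
      exact (h.abel hn h2.1 h2.2).trans (Nat.le_self_pow two_ne_zero p)
    · by_cases hRC : R ≤ C
      · by_cases hcov : Cov H K R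
        · refine h.frat _ R le_rfl hRn (central_case hp2 (D := D) hRp hcard ?_ ?_) hcov
          · intro x hx hxp
            exact max_ea hr hab' hexp hc.ge hxp (fun d hd => (mem_centralizer_iff.1 (hRC hx) d hd).symm)
          · intro x hx y hy
            exact mem_centralizer_iff.1 (hRC hy) x hx
        · refine fin C hCR' hcov ?_
          rw [← Cfsg.Agent.H2.AutEA.card_mulAut_ea_two (A := D) ⟨⟨fun a b => hab a b⟩⟩ (fun a => Subtype.ext (hexp a a.2)) hc]
          exact index_centralizer_dvd D
      · set D₁ := D ⊓ centralizer (R : Set G) with hD₁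
        have hD₁D : D₁ ≤ D := inf_le_left
        have hne : D₁ ≠ D := by
          intro he
          apply hRC
          rw [hC, le_centralizer_iff]
          exact inf_eq_left.1 he
        have hDb : D ≠ ⊥ := by
          intro hb
          rw [hb, card_bot] at hc
          exact absurd hc (Nat.one_lt_pow two_ne_zero hpp.one_lt).ne
        have hne2 : D₁ ≠ ⊥ := by
          haveI : (D.subgroupOf R).Normal := inferInstance
          have h3 := Cfsg.Agent.H2.PGroup.inf_center_ne_bot hRp (M := D.subgroupOf R) (by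
            intro hb
            apply hDb
            rw [eq_bot_iff]
            intro y hy
            have : (⟨y, hDR hy⟩ : R) ∈ D.subgroupOf R := mem_subgroupOf.2 hy
            rw [hb, mem_bot] at this
            exact congrArg Subtype.val this)
          intro hb
          apply h3
          rw [eq_bot_iff]
          rintro ⟨y, hyQ⟩ ⟨hy1, hy2⟩
          have : y ∈ D ⊓ centralizer (R : Set G) := by
            refine mem_inf.2 ⟨mem_subgroupOf.1 hy1, ?_⟩
            rw [mem_centralizer_iff]
            intro q hq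
            exact congrArg Subtype.val (mem_center_iff.1 hy2 ⟨q, hq⟩)
          rw [← hD₁, hb, mem_bot] at this
          rw [mem_bot]
          exact Subtype.ext this
        have hc1 : Nat.card D₁ = p := by
          have h3 : Nat.card D₁ < p ^ 2 := by rw [← hc]; exact card_lt_of_lt (lt_of_le_of_ne hD₁D hne)
          rcases card_cases (hDp.to_le hD₁D) h3.le with h4 | h4 | h4
          · exact absurd (card_eq_one.1 h4) hne2
          · exact h4
          · omega
        have hc2 : D₁.relIndex D = p := by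
          have h3 := Subgroup.relIndex_mul_relIndex ⊥ D₁ D bot_le hD₁D
          rw [relIndex_bot_left, relIndex_bot_left, hc1, hc, sq] at h3
          exact Nat.eq_of_mul_eq_mul_left hpp.pos h3
        have h2 := two_small (p := p) (D := D) (D₁ := D₁) hDn inferInstance hDp hD₁D (Or.inl hc1) (Or.inl hc2) hf
        exact (h.abel hn h2.1 h2.2).trans (Nat.le_self_pow two_ne_zero p)
  · -- `D` nonabelian
    set Z₀ := D ⊓ centralizer (D : Set G) with hZ₀
    have hZD : Z₀ ≤ D := inf_le_left
    have hZcard : Nat.card Z₀ = p := by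
      rw [← hcz]
      have e : Z₀ = (center D).map D.subtype := by
        ext x
        constructor
        · intro hx
          refine ⟨⟨x, hx.1⟩, ?_, rfl⟩
          rw [SetLike.mem_coe, mem_center_iff]
          intro d
          exact Subtype.ext (mem_centralizer_iff.1 hx.2 d d.2)
        · rintro ⟨y, hy, rfl⟩
          refine mem_inf.2 ⟨y.2, ?_⟩
          rw [mem_centralizer_iff]
          intro d hd
          exact congrArg Subtype.val (mem_center_iff.1 hy ⟨d, hd⟩)
      rw [e]
      exact (Nat.card_congr ((center D).equivMapOfInjective D.subtype D.subtype_injective).toEquiv).symm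
    have hZrel : Z₀.relIndex D = p ^ 2 := by
      have h3 := Subgroup.relIndex_mul_relIndex ⊥ Z₀ D bot_le hZD
      rw [relIndex_bot_left, relIndex_bot_left, hZcard, hc3, pow_succ'] at h3
      exact Nat.eq_of_mul_eq_mul_left hpp.pos h3
    haveI hZn : Z₀.Normal := by rw [hZ₀]; infer_instance
    -- commutator of `D` and `R`
    have hDRZ : ∀ d ∈ D, ∀ r ∈ R, ⁅d, r⁆ ∈ Z₀ := by
      intro d hd r hr
      refine mem_inf.2 ⟨?_, hcom d hd r hr⟩
      rw [commutatorElement_def]
      have e : d * r * d⁻¹ * r⁻¹ = d * (r * d⁻¹ * r⁻¹) := by group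
      rw [e]
      exact mul_mem hd (hDn.conj_mem _ (inv_mem hd) r)
    -- the commutator of the two generators
    have habD : (⁅(a : G), (b : G)⁆ : G) ∈ Z₀ := hDRZ a a.2 b (hDR b.2)
    have hab1 : (⁅(a : G), (b : G)⁆ : G) ≠ 1 := fun hh => hab (Subtype.ext hh)
    have hZgen : ∀ z ∈ Z₀, z ∈ zpowers (⁅(a : G), (b : G)⁆ : G) := by
      have h3 : zpowers (⁅(a : G), (b : G)⁆ : G) = Z₀ := by
        apply Subgroup.eq_of_le_of_card_ge (zpowers_le.2 habD)
        rw [hZcard, Nat.card_zpowers]
        have h4 : orderOf (⁅(a : G), (b : G)⁆ : G) = p :=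
          orderOf_eq_prime (hexp _ (hZD habD)) hab1
        exact h4.ge
      intro z hz
      rw [h3]; exact hz
    -- the only big nonabelian subgroup of `D` is `D`
    have hbig : ∀ t : G, t * a = a * t → t * b = b * t → ∀ d ∈ D, t * d = d * t := by
      intro t hta htb
      set M := D ⊓ centralizer ({t} : Set G) with hM
      have hMD : M ≤ D := inf_le_left
      have haM : (a : G) ∈ M := mem_inf.2 ⟨a.2, mem_centralizer_singleton_iff.2 hta.symm⟩
      have hbM : (b : G) ∈ M := mem_inf.2 ⟨b.2, mem_centralizer_singleton_iff.2 htb.symm⟩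
      have hMe : M = D := by
        apply Subgroup.eq_of_le_of_card_ge hMD
        by_contra hlt
        push Not at hlt
        obtain ⟨m, hm⟩ := IsPGroup.iff_card.1 (hDp.to_le hMD)
        rw [hc3, hm] at hlt
        have h3 := (Nat.pow_lt_pow_iff_right hpp.one_lt).1 hlt
        have h4 : IsMulCommutative M := by
          have h5 : Nat.card M ∣ p ^ 2 := by rw [hm]; exact pow_dvd_pow p (by omega)
          obtain ⟨j, hj, hj'⟩ := (Nat.dvd_prime_pow hpp).1 h5
          interval_cases j
          · have : M = ⊥ := card_eq_one.1 (by rw [hj', pow_zero])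
            rw [this]; infer_instance
          · have : IsCyclic M := isCyclic_of_prime_card (p := p) (by rw [hj', pow_one])
            infer_instance
          · exact IsPGroup.isMulCommutative_of_card_eq_prime_sq (p := p) hj'
        apply hab1
        rw [commutatorElement_eq_one_iff_mul_comm]
        exact congrArg Subtype.val (h4.is_comm.comm ⟨a, haM⟩ ⟨b, hbM⟩)
      intro d hd
      rw [← hMe] at hd
      exact (mem_centralizer_singleton_iff.1 (mem_inf.1 hd).2).symm
    set C := R ⊓ centralizer (D : Set G) with hC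
    haveI hCn : C.Normal := by rw [hC]; infer_instance
    by_cases hcC : Cov H K C
    · refine h.frat _ C le_rfl hCn (central_case hp2 (D := Z₀) (hRp.to_le inf_le_left) ?_ ?_ ?_) hcC
      · rw [hZcard]; exact Nat.le_self_pow two_ne_zero p
      · intro x hx hxp
        refine mem_inf.2 ⟨?_, (mem_inf.1 hx).2⟩
        -- an elementary abelian subgroup of order `p ^ 2`
        set A := Z₀ ⊔ zpowers (a : G) with hA
        have hAD : A ≤ D := sup_le hZD (zpowers_le.2 a.2)
        have hcA : A ≤ centralizer ((A : Subgroup G) : Set G) := by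
          rw [hA]
          refine sup_le ?_ ?_
          · exact (le_trans (inf_le_right : Z₀ ≤ _) (Subgroup.centralizer_le (show ((Z₀ ⊔ zpowers (a : G) : Subgroup G) : Set G) ⊆ D from hAD)))
          · rw [zpowers_le, ← hA]
            rw [← zpowers_le, le_centralizer_iff, hA]
            refine sup_le ?_ ?_
            · refine le_trans (inf_le_right : Z₀ ≤ _) (Subgroup.centralizer_le ?_)
              exact (zpowers_le.2 a.2 : zpowers (a : G) ≤ D)
            · exact le_centralizer _
        have hAab : ∀ x ∈ A, ∀ y ∈ A, x * y = y * x := fun x hx y hy => mem_centralizer_iff.1 (hcA hy) x hx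
        have hAc : p ^ 2 ≤ Nat.card A := by
          obtain ⟨m, hm⟩ := IsPGroup.iff_card.1 (hDp.to_le hAD)
          have h3 : Nat.card Z₀ < Nat.card A := by
            apply card_lt_of_lt
            refine lt_of_le_of_ne le_sup_left ?_
            intro he
            have h4 : (a : G) ∈ Z₀ := by rw [he]; exact (le_sup_right : zpowers (a : G) ≤ _) (mem_zpowers _)
            apply hab1
            rw [commutatorElement_eq_one_iff_mul_comm]
            exact (mem_centralizer_iff.1 (mem_inf.1 h4).2 b b.2).symm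
          rw [hZcard, hm] at h3
          rw [hm]
          apply Nat.pow_le_pow_right hpp.pos
          by_contra hlt
          have h4 : m ≤ 1 := by omega
          have h5 : p ^ m ≤ p ^ 1 := Nat.pow_le_pow_right hpp.pos h4
          rw [pow_one] at h5
          omega
        exact hAD (max_ea hr hAab (fun x hx => hexp x (hAD hx)) hAc hxp (fun y hy =>
          (mem_centralizer_iff.1 (mem_inf.1 hx).2 y (hAD hy)).symm))
      · intro x hx y hy
        exact mem_centralizer_iff.1 (mem_inf.1 hy).2 x (hZD hx)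
    · by_cases hcR : Cov H K R
      · have h3 := h.step hCn hRn hcC hcR inf_le_left
        refine (Nat.le_of_dvd (Nat.pos_of_ne_zero (Subgroup.index_ne_zero_of_finite (H := C.subgroupOf R))) h3).trans ?_
        let f : R ⧸ C.subgroupOf R → Z₀ × Z₀ := Quotient.lift (fun r => (⟨⁅(a : G), (r : G)⁆, hDRZ a a.2 r r.2⟩, ⟨⁅(b : G), (r : G)⁆, hDRZ b b.2 r r.2⟩)) (by
          intro r s hrs
          have h4 : r⁻¹ * s ∈ C.subgroupOf R := QuotientGroup.leftRel_apply.1 hrs
          have h5 : ∀ d ∈ D, ⁅d, (r : G)⁆ = ⁅d, (s : G)⁆ := by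
            intro d hd
            have h6 := mem_centralizer_iff.1 (mem_inf.1 (mem_subgroupOf.1 h4)).2 d⁻¹ (inv_mem hd)
            change d⁻¹ * ((r : G)⁻¹ * (s : G)) = (r : G)⁻¹ * (s : G) * d⁻¹ at h6
            have h7 : (r : G) * d⁻¹ * (r : G)⁻¹ = (s : G) * d⁻¹ * (s : G)⁻¹ := by
              have := congrArg (fun z => (r : G) * z * (s : G)⁻¹) h6
              simpa [mul_assoc] using this
            have e : ∀ t : G, d * t * d⁻¹ * t⁻¹ = d * (t * d⁻¹ * t⁻¹) := by intro t; group
            rw [commutatorElement_def, commutatorElement_def, e, e, h7]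
          exact Prod.ext (Subtype.ext (h5 a a.2)) (Subtype.ext (h5 b b.2)))
        have hfi : Function.Injective f := by
          intro x y hxy
          obtain ⟨r, rfl⟩ := QuotientGroup.mk_surjective x
          obtain ⟨s, rfl⟩ := QuotientGroup.mk_surjective y
          have h4 : ⁅(a : G), (r : G)⁆ = ⁅(a : G), (s : G)⁆ := congrArg (fun z : Z₀ × Z₀ => (z.1 : G)) hxy
          have h5 : ⁅(b : G), (r : G)⁆ = ⁅(b : G), (s : G)⁆ := congrArg (fun z : Z₀ × Z₀ => (z.2 : G)) hxy
          rw [QuotientGroup.eq, mem_subgroupOf]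
          refine mem_inf.2 ⟨(r⁻¹ * s).2, ?_⟩
          rw [mem_centralizer_iff]
          have key : ∀ d : G, ⁅d, (r : G)⁆ = ⁅d, (s : G)⁆ → (r : G)⁻¹ * s * d = d * ((r : G)⁻¹ * s) := by
            intro d hd
            rw [commutatorElement_def, commutatorElement_def] at hd
            have e1 : (r : G) * d⁻¹ * (r : G)⁻¹ = (s : G) * d⁻¹ * (s : G)⁻¹ := by
              have := congrArg (fun z => d⁻¹ * z) hd
              simpa [mul_assoc] using this
            have e2 : (r : G) * d * (r : G)⁻¹ = (s : G) * d * (s : G)⁻¹ := by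
              have := congrArg (fun z => z⁻¹) e1
              simpa [mul_assoc] using this
            have := congrArg (fun z => (r : G)⁻¹ * z * (s : G)) e2
            simp only [mul_assoc, inv_mul_cancel_left, inv_mul_cancel, mul_one] at this
            rw [mul_assoc]
            exact this.symm
          intro d hd
          exact (hbig _ (key a h4) (key b h5) d hd).symm
        have h6 := Nat.card_le_card_of_injective f hfi
        rw [Nat.card_prod, hZcard, ← sq] at h6
        exact h6
      · -- the top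
        set X := secCent D Z₀ with hX
        have hXp : IsPGroup p X := by
          apply Cfsg.Agent.H2.PCons.isPGroup_of_forall_coprime
          intro x hx hxc
          have hxZ : ∀ z ∈ Z₀, x * z * x⁻¹ = z := by
            have ha := mem_secCent.1 hx a a.2
            have hb := mem_secCent.1 hx b b.2
            have hza : ∀ z ∈ Z₀, ∀ d ∈ D, z * d = d * z := fun z hz d hd => (mem_centralizer_iff.1 (mem_inf.1 hz).2 d hd).symm
            have e0 : x * ⁅(a : G), (b : G)⁆ * x⁻¹ = ⁅(a : G), (b : G)⁆ := by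
              have e1 : x * ⁅(a : G), (b : G)⁆ * x⁻¹ = ⁅x * a * x⁻¹, x * b * x⁻¹⁆ := by
                simp only [commutatorElement_def]; group
              have e2 : x * a * x⁻¹ = a * ((a : G)⁻¹ * (x * a * x⁻¹)) := by group
              have e3 : x * b * x⁻¹ = b * ((b : G)⁻¹ * (x * b * x⁻¹)) := by group
              rw [e1, e2, e3]
              exact comm_mul_central (hza _ ha _ a.2) (hza _ ha _ b.2) (hza _ hb _ a.2) (hza _ hb _ b.2)
                (hza _ ha _ (hZD hb))
            intro z hz
            obtain ⟨k, rfl⟩ := mem_zpowers_iff.1 (hZgen z hz)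
            rw [← conj_zpow, e0]
          apply hf x hxc
          intro d hd
          have h3 := mem_secCent.1 hx d hd
          obtain ⟨k, hk⟩ := hDp ⟨_, hZD h3⟩
          refine fix_of_two (e := d⁻¹ * (x * d * x⁻¹)) hxc (by group) (hxZ _ h3) ⟨k, congrArg Subtype.val hk⟩
        have hXR : X ≤ R := Cfsg.Agent.H1.Nilp.le_pCore secCent_normal hXp
        refine fin X hXR hcR ?_
        have hDm : (D.map (QuotientGroup.mk' Z₀)).Normal := hDn.map _ (QuotientGroup.mk'_surjective Z₀)
        have hsc : Nat.card (D.map (QuotientGroup.mk' Z₀)) = p ^ 2 := by rw [card_map_mk, hZrel]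
        rw [← Cfsg.Agent.H2.AutEA.card_mulAut_ea_two (A := D.map (QuotientGroup.mk' Z₀)) ?_ ?_ hsc, hX, secCent,
          index_comap_of_surjective _ (QuotientGroup.mk'_surjective Z₀)]
        · exact index_centralizer_dvd _
        · exact IsPGroup.isMulCommutative_of_card_eq_prime_sq (p := p) hsc
        · rintro ⟨_, d, hd, rfl⟩
          apply Subtype.ext
          show (QuotientGroup.mk' Z₀ d) ^ p = 1
          rw [← map_pow, hexp d hd, map_one]

theorem main {G : Type u} [Group G] [Finite G] {p : ℕ} [hp : Fact p.Prime] (hp2 : p ≠ 2)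
    (hG : Cfsg.IsPSolvable p G) (hr : Cfsg.PRankLE p 2 G)
    (H K : Subgroup G) [hHn : H.Normal] [hKn : K.Normal] (hKH : K < H) (hpow : ∃ n : ℕ, K.relIndex H = p ^ n)
    (hchief : ∀ L : Subgroup G, L.Normal → K ≤ L → L ≤ H → L = K ∨ L = H) :
    K.relIndex H = p ∨ K.relIndex H = p ^ 2 := by
  have hpp := hp.out
  obtain ⟨n, hn⟩ := hpow
  have hne1 : K.relIndex H ≠ 1 := by
    intro h1
    exact hKH.not_ge (relIndex_eq_one.1 h1)
  have h : Ch H K := ⟨hHn, hKn, hKH, hchief⟩
  suffices hle : K.relIndex H ≤ p ^ 2 by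
    rw [hn] at hle hne1 ⊢
    have h2 := (Nat.pow_le_pow_iff_right hpp.one_lt).1 hle
    interval_cases n
    · exact absurd (pow_zero p) hne1
    · left; rw [pow_one]
    · right; rfl
  set O := pPrimeCore p G with hO
  haveI hOn : O.Normal := by rw [hO]; infer_instance
  have hOc : (Nat.card O).Coprime p := Cfsg.Agent.H11.Cores.pPrimeCore_coprime p
  have hcov : H ⊓ O ≤ K := by
    by_contra hc
    have h2 := h.sup hOn hc
    have e2 : K.relIndex H = K.relIndex (H ⊓ O) := by
      conv_lhs => rw [← h2]
      exact relIndex_sup_of_le_normalizer le_normalizer_of_normal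
    have h3 : K.relIndex H ∣ Nat.card O := by
      rw [e2]
      exact (Subgroup.relIndex_dvd_card K (H ⊓ O)).trans (Subgroup.card_dvd_of_le inf_le_right)
    apply hne1
    have h4 : (p ^ n).Coprime (Nat.card O) := (hOc.symm.pow_left n)
    rw [hn] at h3 ⊢
    exact Nat.Coprime.eq_one_of_dvd h4 h3
  set π := QuotientGroup.mk' O with hπ
  have hsurj : Function.Surjective π := QuotientGroup.mk'_surjective O
  have hrel : (K.map π).relIndex (H.map π) = K.relIndex H := by
    rw [relIndex_map_map, QuotientGroup.ker_mk']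
    have e1 : H ⊔ O = H ⊔ (K ⊔ O) := by rw [← sup_assoc, sup_eq_left.2 hKH.le]
    rw [e1, relIndex_sup_right, ← inf_relIndex_right]
    congr 1
    apply le_antisymm
    · rintro x ⟨hx1, hx2⟩
      obtain ⟨k, hk, o, ho, rfl⟩ := mem_sup_of_normal_right.1 (show x ∈ K ⊔ O from hx1)
      exact mul_mem hk (hcov ⟨(mul_mem_cancel_left (hKH.le hk)).1 hx2, ho⟩)
    · exact le_inf le_sup_left hKH.le
  have h' : Ch (H.map π) (K.map π) := by
    refine ⟨hHn.map π hsurj, hKn.map π hsurj, ?_, ?_⟩
    · refine lt_of_le_of_ne (map_mono hKH.le) ?_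
      intro he
      rw [he, relIndex_self] at hrel
      exact hne1 hrel.symm
    · intro L hL hKL hLH
      have h5 := hchief (L.comap π ⊓ H) inferInstance (le_inf (map_le_iff_le_comap.1 hKL) hKH.le) inf_le_right
      rcases h5 with h5 | h5
      · left
        apply le_antisymm _ hKL
        intro y hy
        obtain ⟨x, hx, rfl⟩ := hLH hy
        refine mem_map_of_mem π ?_
        rw [← h5]
        exact ⟨hy, hx⟩
      · right
        apply le_antisymm hLH
        rw [map_le_iff_le_comap]
        exact inf_eq_right.1 h5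
  rw [← hrel]
  refine core hp2 (isPSolvable_quotient O hG) (Cfsg.Agent.H11.Cores.pPrimeCore_quotient p) ?_ h' (hrel.trans hn)
  exact Cfsg.Agent.H12.Fit.pRankLE_quotient hr O (fun hd => by
    have := Nat.Coprime.eq_one_of_dvd hOc.symm hd
    exact hpp.one_lt.ne' this)

end Cfsg.Agent.H2.ChiefR
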