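import Mathlib
import Cfsg.Agent.S0205
import Cfsg.Agent.H11_Cores

set_option autoImplicit false
open Cfsg

namespace Cfsg.Agent.H2.EC

theorem eig {A : Type*} [CommGroup A] [Finite A] (hodd : Odd (Nat.card A)) {ι : Type*}
    (α : ι → A →* A) (h2 : ∀ i a, α i (α i a) = a) (hc : ∀ i j a, α i (α j a) = α j (α i a))
    (T : Finset ι) :
    ∀ a : A, a ∈ Subgroup.closure {b : A | ∀ i ∈ T, α i b = b ∨ α i b = b⁻¹} := by
  classical
  induction T using Finset.induction_on with
  | empty => intro a; exact Subgroup.subset_closure (by simp)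
  | insert i T hi ih =>
    intro a
    have key : {b : A | ∀ j ∈ T, α j b = b ∨ α j b = b⁻¹} ⊆
        (Subgroup.closure {b : A | ∀ j ∈ insert i T, α j b = b ∨ α j b = b⁻¹} : Set A) := by
      intro b hb
      have h3 : b * α i b ∈ {b : A | ∀ j ∈ insert i T, α j b = b ∨ α j b = b⁻¹} := by
        intro j hj
        rcases Finset.mem_insert.1 hj with rfl | hj
        · left; rw [map_mul, h2, mul_comm]
        · rcases hb j hj with h | h
          · left; rw [map_mul, hc, h]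
          · right; rw [map_mul, hc, h, map_inv, mul_inv]
      have h4 : b * (α i b)⁻¹ ∈ {b : A | ∀ j ∈ insert i T, α j b = b ∨ α j b = b⁻¹} := by
        intro j hj
        rcases Finset.mem_insert.1 hj with rfl | hj
        · right; rw [map_mul, map_inv, h2, mul_inv, inv_inv, mul_comm]
        · rcases hb j hj with h | h
          · left; rw [map_mul, map_inv, hc, h]
          · right; rw [map_mul, map_inv, hc, h, map_inv, mul_inv]
      have h5 : b ^ 2 ∈ Subgroup.closure {b : A | ∀ j ∈ insert i T, α j b = b ∨ α j b = b⁻¹} := by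
        have h6 : b ^ 2 = (b * α i b) * (b * (α i b)⁻¹) := by
          rw [mul_mul_mul_comm, mul_inv_cancel, mul_one, sq]
        rw [h6]
        exact Subgroup.mul_mem _ (Subgroup.subset_closure h3) (Subgroup.subset_closure h4)
      obtain ⟨k, hk⟩ := hodd
      have h7 : b = (b ^ 2) ^ (k + 1) := by
        rw [← pow_mul]
        have h8 : 2 * (k + 1) = Nat.card A + 1 := by omega
        rw [h8, pow_succ, pow_card_eq_one', one_mul]
      rw [h7]
      exact Subgroup.pow_mem _ h5 _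
    exact (Subgroup.closure_le _).2 key (ih a)

variable {G : Type*} [Group G]

/-- conjugation on an invariant subgroup -/
def cj (N : Subgroup G) (e : G) (h : ∀ x ∈ N, e * x * e⁻¹ ∈ N) : ↥N →* ↥N where
  toFun x := ⟨e * x * e⁻¹, h x x.2⟩
  map_one' := by ext; simp
  map_mul' x y := by ext; simp

theorem lift_fixed [Finite G] (N F : Subgroup G) (hF : ∀ x ∈ F, x * x = 1)
    (hN : Odd (Nat.card N)) (hinv : ∀ e ∈ F, ∀ x ∈ N, e * x * e⁻¹ ∈ N) (n0 : ↥N)
    (hfix : ∀ e (he : e ∈ F), Abelianization.of (cj N e (hinv e he) n0) = Abelianization.of n0) :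
    ∃ n1 : ↥N, Abelianization.of n1 = Abelianization.of n0 ∧ ∀ e ∈ F, (n1 : G) * e = e * n1 := by
  classical
  let f : ↥N →* Abelianization ↥N := Abelianization.of
  let X := {n : ↥N // f n = f n0}
  have hcard : Nat.card X = Nat.card f.ker := Nat.card_congr (MonoidHom.fiberEquivKer f n0)
  have hodd : ¬ 2 ∣ Nat.card X := by
    rw [hcard]
    intro h
    exact (Nat.not_even_iff_odd.2 hN) (even_iff_two_dvd.2 (h.trans (Subgroup.card_subgroup_dvd_card _)))
  have hstep : ∀ (e : ↥F) (x : X), f (cj N e (hinv e e.2) x.1) = f n0 := by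
    intro e x
    have h1 : x.1 * n0⁻¹ ∈ commutator ↥N := by
      rw [← Abelianization.ker_of]
      show f (x.1 * n0⁻¹) = 1
      rw [map_mul, map_inv, x.2, mul_inv_cancel]
    have h2 : f (cj N e (hinv e e.2) (x.1 * n0⁻¹)) = 1 := by
      have h3 : Abelianization.map (cj N e (hinv e e.2)) (f (x.1 * n0⁻¹)) = f (cj N e (hinv e e.2) (x.1 * n0⁻¹)) :=
        Abelianization.map_of _ _
      rw [← h3, map_mul, map_inv, x.2, mul_inv_cancel, map_one]
    rw [map_mul, map_mul, map_inv, map_inv] at h2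
    have h4 : f (cj N e (hinv e e.2) n0) = f n0 := hfix e e.2
    rw [h4] at h2
    exact mul_inv_eq_one.1 h2
  letI : MulAction ↥F X :=
    { smul := fun e x => ⟨cj N e (hinv e e.2) x.1, hstep e x⟩
      one_smul := by
        rintro ⟨x, hx⟩
        apply Subtype.ext
        apply Subtype.ext
        show ((1 : ↥F) : G) * x * ((1 : ↥F) : G)⁻¹ = x
        simp
      mul_smul := by
        rintro e e' ⟨x, hx⟩
        apply Subtype.ext
        apply Subtype.ext
        show ((e * e' : ↥F) : G) * x * ((e * e' : ↥F) : G)⁻¹ = e * (e' * x * (e' : G)⁻¹) * (e : G)⁻¹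
        push_cast
        group }
  have hp : IsPGroup 2 ↥F := by
    intro x
    refine ⟨1, ?_⟩
    apply Subtype.ext
    simp [sq, hF x x.2]
  obtain ⟨x, hx⟩ := hp.nonempty_fixed_point_of_prime_not_dvd_card X hodd
  refine ⟨x.1, x.2, fun e he => ?_⟩
  have h1 := hx ⟨e, he⟩
  have h2 : e * ((x.1 : ↥N) : G) * e⁻¹ = (x.1 : ↥N) :=
    congrArg (fun y : X => ((y.1 : ↥N) : G)) h1
  rw [← h2]
  simp only [inv_mul_cancel_right]
  rw [h2]

def RS (E F N : Subgroup G) : Set G :=
  {r | r ∈ N ∧ (∀ e ∈ E, ∃ f ∈ F, r * (e * f) = (e * f) * r) ∧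
    ∀ a ∈ E, ∀ b ∈ E, r * a ≠ a * r → r * b ≠ b * r → r * (a * b) = (a * b) * r}

theorem fac [Finite G] (E F : Subgroup G) (hE : ∀ x ∈ E, x * x = 1) (hFE : F ≤ E)
    (hidx : ∀ a ∈ E, ∀ b ∈ E, a ∉ F → b ∉ F → a * b ∈ F) :
    ∀ (n : ℕ) (N : Subgroup G), Nat.card N = n → Odd (Nat.card N) →
      (∀ e ∈ E, ∀ x ∈ N, e * x * e⁻¹ ∈ N) →
      ∀ x ∈ N, ∃ c ∈ N, (∀ f ∈ F, c * f = f * c) ∧ ∃ r ∈ Subgroup.closure (RS E F N), x = c * r := by
  classical
  intro n
  induction n using Nat.strong_induction_on with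
  | _ n ih =>
  intro N hn hodd hinv x hx
  by_cases hbot : N = ⊥
  · subst hbot
    refine ⟨1, Subgroup.one_mem _, by simp, 1, Subgroup.one_mem _, ?_⟩
    rw [Subgroup.mem_bot] at hx
    simp [hx]
  have hsol : Group.IsSolvable ↥N := Cfsg.Agent.S0205.result hodd
  have hcomm : ∀ a ∈ E, ∀ b ∈ E, a * b = b * a := by
    intro a ha b hb
    have h1 := hE (a * b) (E.mul_mem ha hb)
    have h2 := hE a ha
    have h3 := hE b hb
    calc a * b = (a * b)⁻¹ := (inv_eq_of_mul_eq_one_right h1).symm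
      _ = b⁻¹ * a⁻¹ := mul_inv_rev _ _
      _ = b * a := by rw [inv_eq_of_mul_eq_one_right h2, inv_eq_of_mul_eq_one_right h3]
  -- derived subgroup
  let D : Subgroup ↥N := commutator ↥N
  let N' : Subgroup G := D.map N.subtype
  have hN'le : N' ≤ N := Subgroup.map_subtype_le _
  have hDlt : D < ⊤ := by
    haveI : Nontrivial ↥N := (Subgroup.nontrivial_iff_ne_bot N).2 hbot
    exact IsSolvable.commutator_lt_top_of_nontrivial ↥N
  have hN'card : Nat.card N' < n := by
    have h1 : Nat.card N' = Nat.card D := Nat.card_congr (D.equivMapOfInjective N.subtype N.subtype_injective).toEquiv.symm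
    rw [h1, ← hn]
    exact Cfsg.Agent.H11.Cores.card_lt_of_lt_top hDlt
  have hN'odd : Odd (Nat.card N') := by
    rw [← Nat.not_even_iff_odd] at hodd ⊢
    intro h
    exact hodd (even_iff_two_dvd.2 ((even_iff_two_dvd.1 h).trans (Subgroup.card_dvd_of_le hN'le)))
  have hN'inv : ∀ e ∈ E, ∀ y ∈ N', e * y * e⁻¹ ∈ N' := by
    rintro e he y ⟨d, hd, rfl⟩
    refine ⟨cj N e (hinv e he) d, ?_, rfl⟩
    have h1 : D.map (cj N e (hinv e he)) ≤ D := by
      show (commutator ↥N).map _ ≤ commutator ↥N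
      rw [commutator_def, Subgroup.map_commutator]
      exact Subgroup.commutator_mono le_top le_top
    exact h1 ⟨d, hd, rfl⟩
  have hN'nor : ∀ r ∈ N, ∀ y ∈ N', r * y * r⁻¹ ∈ N' := by
    rintro r hr y ⟨d, hd, rfl⟩
    refine ⟨⟨r, hr⟩ * d * ⟨r, hr⟩⁻¹, ?_, rfl⟩
    exact (inferInstance : (commutator ↥N).Normal).conj_mem d hd ⟨r, hr⟩
  -- the action on the abelianization
  let A := Abelianization ↥N
  have hs : Function.Surjective (Abelianization.of : ↥N →* A) := QuotientGroup.mk_surjective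
  have hAodd : Odd (Nat.card A) := by
    rw [← Nat.not_even_iff_odd] at hodd ⊢
    intro h
    exact hodd (even_iff_two_dvd.2 ((even_iff_two_dvd.1 h).trans
      (Subgroup.card_dvd_of_surjective (Abelianization.of : ↥N →* A) hs)))
  let α : ↥E → A →* A := fun e => Abelianization.map (cj N e (hinv e e.2))
  have hα : ∀ (e : ↥E) (y : ↥N), α e (Abelianization.of y) = Abelianization.of (cj N e (hinv e e.2) y) :=
    fun e y => Abelianization.map_of _ _
  have hmul : ∀ (e e' : ↥E) (a : A), α e (α e' a) = α (e * e') a := by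
    intro e e' a
    obtain ⟨y, rfl⟩ := hs a
    rw [hα, hα, hα]
    congr 1
    apply Subtype.ext
    show (e : G) * (e' * y * (e' : G)⁻¹) * (e : G)⁻¹ = ((e * e' : ↥E) : G) * y * ((e * e' : ↥E) : G)⁻¹
    push_cast
    group
  have hα1 : ∀ a : A, α 1 a = a := by
    intro a
    obtain ⟨y, rfl⟩ := hs a
    rw [hα]
    congr 1
    apply Subtype.ext
    show ((1 : ↥E) : G) * y * ((1 : ↥E) : G)⁻¹ = y
    simp
  have hα2 : ∀ (e : ↥E) (a : A), α e (α e a) = a := by
    intro e a
    rw [hmul]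
    have h1 : e * e = 1 := Subtype.ext (hE e e.2)
    rw [h1, hα1]
  have hαc : ∀ (e e' : ↥E) (a : A), α e (α e' a) = α e' (α e a) := by
    intro e e' a
    rw [hmul, hmul]
    have h1 : e * e' = e' * e := Subtype.ext (hcomm e e.2 e' e'.2)
    rw [h1]
  haveI : Fintype ↥E := Fintype.ofFinite _
  have heig := eig hAodd α hα2 hαc Finset.univ
  -- decomposition in A
  have hdec : ∀ a : A, ∃ c : ↥N, (∀ f ∈ F, (c : G) * f = f * c) ∧ ∃ r : ↥N,
      (r : G) ∈ Subgroup.closure (RS E F N) ∧ a = Abelianization.of c * Abelianization.of r := by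
    intro a
    refine Subgroup.closure_induction (p := fun a _ => ∃ c : ↥N, (∀ f ∈ F, (c : G) * f = f * c) ∧ ∃ r : ↥N,
      (r : G) ∈ Subgroup.closure (RS E F N) ∧ a = Abelianization.of c * Abelianization.of r)
      ?_ ?_ ?_ ?_ (heig a)
    · intro b hb
      have hb' : ∀ e : ↥E, α e b = b ∨ α e b = b⁻¹ := fun e => hb e (Finset.mem_univ e)
      obtain ⟨n0, rfl⟩ := hs b
      by_cases hF : ∀ f (hf : f ∈ F), α ⟨f, hFE hf⟩ (Abelianization.of n0) = Abelianization.of n0
      · obtain ⟨n1, h1, h2⟩ := lift_fixed N F (fun x hx => hE x (hFE hx)) hodd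
          (fun e he => hinv e (hFE he)) n0 (fun e he => by
            rw [← hα ⟨e, hFE he⟩]; exact hF e he)
        refine ⟨n1, h2, 1, Subgroup.one_mem _, ?_⟩
        rw [h1, map_one, mul_one]
      · push Not at hF
        obtain ⟨f0, hf0, hf1⟩ := hF
        -- the subgroup fixing b
        let F' : Subgroup G :=
          { carrier := {e | ∃ he : e ∈ E, α ⟨e, he⟩ (Abelianization.of n0) = Abelianization.of n0}
            mul_mem' := by
              rintro a b ⟨ha, ha'⟩ ⟨hb, hb''⟩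
              refine ⟨E.mul_mem ha hb, ?_⟩
              have h1 : (⟨a * b, E.mul_mem ha hb⟩ : ↥E) = ⟨a, ha⟩ * ⟨b, hb⟩ := rfl
              rw [h1, ← hmul, hb'', ha']
            one_mem' := ⟨E.one_mem, hα1 _⟩
            inv_mem' := by
              rintro a ⟨ha, ha'⟩
              have h1 : a⁻¹ = a := inv_eq_of_mul_eq_one_right (hE a ha)
              rw [h1]
              exact ⟨ha, ha'⟩ }
        have hF'E : F' ≤ E := fun e he => he.1
        obtain ⟨n1, h1, h2⟩ := lift_fixed N F' (fun x hx => hE x (hF'E hx)) hodd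
          (fun e he => hinv e (hF'E he)) n0 (fun e he => by
            rw [← hα ⟨e, hF'E he⟩]; exact he.2)
        refine ⟨1, by simp, n1, ?_, by rw [map_one, one_mul, h1]⟩
        apply Subgroup.subset_closure
        refine ⟨n1.2, fun e he => ?_, fun a ha b hb hna hnb => ?_⟩
        swap
        · have ha1 : α ⟨a, ha⟩ (Abelianization.of n0) ≠ Abelianization.of n0 :=
            fun h => hna (h2 a ⟨ha, h⟩)
          have hb1 : α ⟨b, hb⟩ (Abelianization.of n0) ≠ Abelianization.of n0 :=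
            fun h => hnb (h2 b ⟨hb, h⟩)
          refine h2 (a * b) ⟨E.mul_mem ha hb, ?_⟩
          have h3 : (⟨a * b, E.mul_mem ha hb⟩ : ↥E) = ⟨a, ha⟩ * ⟨b, hb⟩ := rfl
          rw [h3, ← hmul, (hb' ⟨b, hb⟩).resolve_left hb1, map_inv,
            (hb' ⟨a, ha⟩).resolve_left ha1, inv_inv]
        by_cases hef : α ⟨e, he⟩ (Abelianization.of n0) = Abelianization.of n0
        · refine ⟨1, F.one_mem, ?_⟩
          rw [mul_one]
          exact h2 e ⟨he, hef⟩
        · refine ⟨f0, hf0, h2 (e * f0) ⟨E.mul_mem he (hFE hf0), ?_⟩⟩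
          have h3 : (⟨e * f0, E.mul_mem he (hFE hf0)⟩ : ↥E) = ⟨e, he⟩ * ⟨f0, hFE hf0⟩ := rfl
          rw [h3, ← hmul]
          have h4 := (hb' ⟨f0, hFE hf0⟩).resolve_left hf1
          have h5 := (hb' ⟨e, he⟩).resolve_left hef
          rw [h4, map_inv, h5, inv_inv]
    · exact ⟨1, by simp, 1, Subgroup.one_mem _, by simp⟩
    · rintro a b _ _ ⟨c1, hc1, r1, hr1, rfl⟩ ⟨c2, hc2, r2, hr2, rfl⟩
      refine ⟨c1 * c2, fun f hf => ?_, r1 * r2, Subgroup.mul_mem _ hr1 hr2, ?_⟩
      · push_cast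
        rw [mul_assoc, hc2 f hf, ← mul_assoc, hc1 f hf, mul_assoc]
      · rw [map_mul, map_mul, mul_mul_mul_comm]
    · rintro a _ ⟨c1, hc1, r1, hr1, rfl⟩
      refine ⟨c1⁻¹, fun f hf => ?_, r1⁻¹, Subgroup.inv_mem _ hr1, ?_⟩
      · push_cast
        rw [inv_mul_eq_iff_eq_mul, ← mul_assoc, hc1 f hf, mul_inv_cancel_right]
      · rw [map_inv, map_inv, mul_inv]
  obtain ⟨c, hc, r, hr, hxr⟩ := hdec (Abelianization.of ⟨x, hx⟩)
  -- m := (c r)⁻¹ x ∈ N'
  have hm : (r : G)⁻¹ * (c : G)⁻¹ * x ∈ N' := by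
    refine ⟨r⁻¹ * c⁻¹ * ⟨x, hx⟩, ?_, rfl⟩
    show _ ∈ commutator ↥N
    rw [← Abelianization.ker_of]
    show (Abelianization.of : ↥N →* A) _ = 1
    rw [map_mul, map_mul, map_inv, map_inv, hxr]
    group
  have hm' : (r : G) * ((r : G)⁻¹ * (c : G)⁻¹ * x) * (r : G)⁻¹ ∈ N' := hN'nor r r.2 _ hm
  obtain ⟨c', hc'N, hc', r', hr', hcr⟩ := ih (Nat.card N') hN'card N' rfl hN'odd hN'inv _ hm'
  refine ⟨c * c', N.mul_mem c.2 (hN'le hc'N), fun f hf => ?_, r' * r, Subgroup.mul_mem _ ?_ hr, ?_⟩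
  · rw [mul_assoc, hc' f hf, ← mul_assoc, hc f hf, mul_assoc]
  · refine Subgroup.closure_mono ?_ hr'
    rintro y ⟨hy1, hy2⟩
    exact ⟨hN'le hy1, hy2⟩
  · calc x = c * ((r : G) * ((r : G)⁻¹ * (c : G)⁻¹ * x) * (r : G)⁻¹) * r := by group
      _ = c * c' * (r' * r) := by rw [hcr]; group

end Cfsg.Agent.H2.EC
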