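import Mathlib
import Cfsg.Agent.H2_EC1

set_option autoImplicit false
open Cfsg

namespace Cfsg.Agent.H2.EC

variable {G : Type*} [Group G] [Finite G]

theorem odd_of_mem {Q : Subgroup G} (hQ : Odd (Nat.card Q)) {x : G} (hx : x ∈ Q) :
    Odd (orderOf x) := by
  rw [← Nat.not_even_iff_odd] at hQ ⊢
  intro h
  exact hQ (even_iff_two_dvd.2 ((even_iff_two_dvd.1 h).trans (Subgroup.orderOf_dvd_natCard Q hx)))

theorem eq_one_of_odd_sq {x : G} (h : Odd (orderOf x)) (h2 : x * x = 1) : x = 1 := by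
  have h1 : orderOf x ∣ 2 := orderOf_dvd_of_pow_eq_one (by rw [sq, h2])
  rcases (Nat.dvd_prime Nat.prime_two).1 h1 with h3 | h3
  · exact orderOf_eq_one_iff.1 h3
  · rw [h3] at h; exact absurd h (by decide)

theorem qf {Q A : Subgroup G} (hQ : Odd (Nat.card Q)) (hinv : ∀ a ∈ A, ∀ q ∈ Q, a * q * a⁻¹ ∈ Q)
    {q f : G} (hq : q ∈ Q) (hf : f ∈ A) (hf2 : f * f = 1) (h : Odd (orderOf (q * f))) : f = 1 := by
  have key : ∀ k : ℕ, (q * f) ^ k * (f ^ k)⁻¹ ∈ Q := by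
    intro k
    induction k with
    | zero => simp
    | succ k ih =>
      have h1 : (q * f) ^ (k + 1) * (f ^ (k + 1))⁻¹ =
          ((q * f) ^ k * (f ^ k)⁻¹) * (f ^ k * q * (f ^ k)⁻¹) := by
        rw [pow_succ, pow_succ f k]
        group
      rw [h1]
      exact Q.mul_mem ih (hinv _ (A.pow_mem hf k) _ hq)
  obtain ⟨k, hk⟩ := h
  have h1 := key (orderOf (q * f))
  rw [pow_orderOf_eq_one, one_mul, hk, pow_succ, pow_mul, sq, hf2, one_pow, one_mul] at h1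
  exact eq_one_of_odd_sq (odd_of_mem hQ (Q.inv_mem_iff.1 h1)) hf2

theorem k1_eq {Q A : Subgroup G} (hQ : Odd (Nat.card Q))
    (hinv : ∀ a ∈ A, ∀ q ∈ Q, a * q * a⁻¹ ∈ Q) (hA : ∀ a ∈ A, a * a = 1)
    {x y a b : G} (ha : a ∈ A) (hb : b ∈ A) (hxa : x * a ∈ Q) (hyb : y * b ∈ Q)
    (h : Odd (orderOf (x * y))) : a = b := by
  have ha2 := hA a ha
  have hb2 := hA b hb
  have h1 : x * y = ((x * a) * (a * (y * b) * a⁻¹)) * (a * b) := by
    calc x * y = x * (a * a) * y * (b * b) := by rw [ha2, hb2]; simp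
      _ = ((x * a) * (a * (y * b) * a⁻¹)) * (a * b) := by group
  have h2 : (a * b) * (a * b) = 1 := hA _ (A.mul_mem ha hb)
  rw [h1] at h
  have h3 := qf hQ hinv (Q.mul_mem hxa (hinv a ha _ hyb)) (A.mul_mem ha hb) h2 h
  calc a = a * (b * b) := by rw [hb2, mul_one]
    _ = (a * b) * b := by group
    _ = b := by rw [h3, one_mul]

omit [Finite G] in
theorem k1_mem {Q A : Subgroup G} 
    (hinv : ∀ a ∈ A, ∀ q ∈ Q, a * q * a⁻¹ ∈ Q) (hA : ∀ a ∈ A, a * a = 1)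
    {x y a : G} (ha : a ∈ A) (hxa : x * a ∈ Q) (hya : y * a ∈ Q) : x * y ∈ Q := by
  have ha2 := hA a ha
  have h1 : x * y = (x * a) * (a * (y * a) * a⁻¹) := by
    calc x * y = x * (a * a) * y := by rw [ha2]; simp
      _ = _ := by group
  rw [h1]
  exact Q.mul_mem hxa (hinv a ha _ hya)

def SS (H : Subgroup G) : Prop :=
  ∀ g : G, ∃ Q : Subgroup G, Odd (Nat.card Q) ∧ (∀ h ∈ H, ∀ q ∈ Q, h * q * h⁻¹ ∈ Q) ∧
    ∃ w ∈ Q, ∀ h ∈ H, w⁻¹ * (g * h * g⁻¹) * w ∈ H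

omit [Finite G] in
theorem comm_of_el {E : Subgroup G} (hE : ∀ x ∈ E, x * x = 1) {a b : G} (ha : a ∈ E) (hb : b ∈ E) :
    a * b = b * a := by
  have h1 := hE (a * b) (E.mul_mem ha hb)
  have h2 := hE a ha
  have h3 := hE b hb
  calc a * b = (a * b)⁻¹ := (inv_eq_of_mul_eq_one_right h1).symm
    _ = b⁻¹ * a⁻¹ := mul_inv_rev _ _
    _ = b * a := by rw [inv_eq_of_mul_eq_one_right h2, inv_eq_of_mul_eq_one_right h3]

variable {E : Subgroup G}

omit [Finite G] in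
/-- the E-component of w e w⁻¹ is e -/
theorem conj_comp {Q E : Subgroup G} (hE : ∀ x ∈ E, x * x = 1)
    (hinv : ∀ a ∈ E, ∀ q ∈ Q, a * q * a⁻¹ ∈ Q) {w e : G} (hw : w ∈ Q) (he : e ∈ E) :
    w * e * w⁻¹ * e ∈ Q := by
  have h1 : w * e * w⁻¹ * e = w * (e * w⁻¹ * e⁻¹) := by
    rw [inv_eq_of_mul_eq_one_right (hE e he)]; group
  rw [h1]
  exact Q.mul_mem hw (hinv e he _ (Q.inv_mem hw))

/-- structure of a conjugate -/
theorem conj_struct (hE : ∀ x ∈ E, x * x = 1) (hS : SS E) (g : G) :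
    ∃ Q : Subgroup G, Odd (Nat.card Q) ∧ (∀ h ∈ E, ∀ q ∈ Q, h * q * h⁻¹ ∈ Q) ∧
      ∃ w ∈ Q, ∀ e ∈ E, ∀ b ∈ E, Odd (orderOf (g * e * g⁻¹ * b)) → g * e * g⁻¹ = w * b * w⁻¹ := by
  obtain ⟨Q, hQ, hinv, w, hw, hwE⟩ := hS g
  refine ⟨Q, hQ, hinv, w, hw, fun e he b hb hodd => ?_⟩
  have h1 := hwE e he
  set e' := w⁻¹ * (g * e * g⁻¹) * w with he'
  have h2 : g * e * g⁻¹ = w * e' * w⁻¹ := by rw [he']; group
  have h3 := conj_comp hE hinv hw h1
  rw [← h2] at h3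
  have h4 : e' = b := k1_eq hQ hinv hE h1 hb h3 (by rw [hE b hb]; exact Q.one_mem) hodd
  rw [h2, h4]

/-- multiplicativity -/
theorem hmul (hE : ∀ x ∈ E, x * x = 1) (hS : SS E) (g k : G) {a a' b b' : G} (ha : a ∈ E)
    (ha' : a' ∈ E) (hb : b ∈ E) (hb' : b' ∈ E)
    (h1 : Odd (orderOf (g * a * g⁻¹ * (k * b * k⁻¹))))
    (h2 : Odd (orderOf (g * a' * g⁻¹ * (k * b' * k⁻¹)))) :
    Odd (orderOf (g * (a * a') * g⁻¹ * (k * (b * b') * k⁻¹))) := by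
  have hcj : ∀ a b : G, orderOf (g * a * g⁻¹ * (k * b * k⁻¹)) =
      orderOf ((k⁻¹ * g) * a * (k⁻¹ * g)⁻¹ * b) := by
    intro a b
    have h3 : g * a * g⁻¹ * (k * b * k⁻¹) =
        MulAut.conj k ((k⁻¹ * g) * a * (k⁻¹ * g)⁻¹ * b) := by
      rw [MulAut.conj_apply]; group
    rw [h3]
    exact orderOf_injective (MulAut.conj k).toMonoidHom (MulAut.conj k).injective _
  rw [hcj] at h1 h2 ⊢
  set l := k⁻¹ * g
  obtain ⟨Q, hQ, hinv, w, hw, hwE⟩ := conj_struct hE hS l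
  have h3 := hwE a ha b hb h1
  have h4 := hwE a' ha' b' hb' h2
  have h5 : l * (a * a') * l⁻¹ = w * (b * b') * w⁻¹ := by
    calc l * (a * a') * l⁻¹ = (l * a * l⁻¹) * (l * a' * l⁻¹) := by group
      _ = w * (b * b') * w⁻¹ := by rw [h3, h4]; group
  rw [h5]
  exact odd_of_mem hQ (conj_comp hE hinv hw (E.mul_mem hb hb'))

/-- the centralizer hypothesis -/
def CH (E : Subgroup G) : Prop :=
  ∀ t ∈ E, t ≠ 1 → ∃ O : Subgroup G, Odd (Nat.card O) ∧ (∀ e ∈ E, ∀ q ∈ O, e * q * e⁻¹ ∈ O) ∧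
    ∀ m, m * t = t * m → ∀ e ∈ E, ∀ e' ∈ E, Odd (orderOf (m * e * m⁻¹ * e')) →
      m * e * m⁻¹ * e' ∈ O

theorem main (hE : ∀ x ∈ E, x * x = 1) (hS : SS E) (hC : CH E) {F : Subgroup G} (hFE : F ≤ E)
    (hidx : ∀ a ∈ E, ∀ b ∈ E, a ∉ F → b ∉ F → a * b ∈ F) {t : G} (ht : t ∈ F) (ht1 : t ≠ 1)
    {Q' : Subgroup G} (hQ' : Odd (Nat.card Q')) (hinv' : ∀ a ∈ E, ∀ q ∈ Q', a * q * a⁻¹ ∈ Q')
    {r0 : G} (hr0 : r0 ∈ Q') (hr0F : ∀ f ∈ F, r0 * f = f * r0)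
    (g : G) {e y : G} (he : e ∈ E) (hy : y ∈ E) (h : Odd (orderOf (g * e * g⁻¹ * y))) :
    Odd (orderOf (g * e * g⁻¹ * (r0 * y * r0⁻¹))) := by
  obtain ⟨Q, hQ, hinv, w, hw, hwE⟩ := conj_struct hE hS g
  rw [hwE e he y hy h]
  clear h hwE he
  -- claim for all w ∈ Q
  obtain ⟨c, hcQ, hcF, r, hr, rfl⟩ := fac E F hE hFE hidx _ Q rfl hQ hinv w hw
  have claim : ∀ y ∈ E, Odd (orderOf ((c * r) * y * (c * r)⁻¹ * (r0 * y * r0⁻¹))) := by
    have hrQ : ∀ x ∈ Subgroup.closure (RS E F Q), x ∈ Q := fun x hx =>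
      (Subgroup.closure_le Q).2 (fun z hz => hz.1) hx
    have step : ∀ x ∈ Q, ∀ s ∈ Q, (∀ e ∈ E, ∃ f ∈ F, s * (e * f) = (e * f) * s) →
        (∀ y ∈ E, Odd (orderOf ((c * x) * y * (c * x)⁻¹ * (r0 * y * r0⁻¹)))) →
        ∀ y ∈ E, Odd (orderOf ((c * (x * s)) * y * (c * (x * s))⁻¹ * (r0 * y * r0⁻¹))) := by
      intro x hx s hs hsE hxc y hy
      obtain ⟨f, hf, hsf⟩ := hsE y hy
      have hfE := hFE hf
      have h1 := hxc (y * f) (E.mul_mem hy hfE)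
      have h2 : (c * x) * (y * f) * (c * x)⁻¹ = (c * (x * s)) * (y * f) * (c * (x * s))⁻¹ := by
        calc (c * x) * (y * f) * (c * x)⁻¹ = (c * x) * ((y * f) * s * s⁻¹) * (c * x)⁻¹ := by group
          _ = (c * x) * (s * (y * f) * s⁻¹) * (c * x)⁻¹ := by rw [hsf]
          _ = _ := by group
      rw [h2] at h1
      have h3 : Odd (orderOf ((c * (x * s)) * f * (c * (x * s))⁻¹ * (r0 * f * r0⁻¹))) := by
        rw [hr0F f hf, mul_inv_cancel_right]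
        exact odd_of_mem hQ (conj_comp hE hinv (Q.mul_mem hcQ (Q.mul_mem hx hs)) hfE)
      have h4 := hmul hE hS _ _ (E.mul_mem hy hfE) hfE (E.mul_mem hy hfE) hfE h1 h3
      have h5 : y * f * f = y := by rw [mul_assoc, hE f hfE, mul_one]
      rw [h5] at h4
      exact h4
    refine Subgroup.closure_induction_right (p := fun x _ => ∀ y ∈ E,
      Odd (orderOf ((c * x) * y * (c * x)⁻¹ * (r0 * y * r0⁻¹)))) ?_ ?_ ?_ hr
    · intro y hy
      rw [mul_one]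
      obtain ⟨O, hO, hOinv, hOm⟩ := hC t (hFE ht) ht1
      have h1 := hOm c (hcF t ht) y hy y hy (odd_of_mem hQ (conj_comp hE hinv hcQ hy))
      have h2 := hOm r0 (hr0F t ht) y hy y hy (odd_of_mem hQ' (conj_comp hE hinv' hr0 hy))
      exact odd_of_mem hO (k1_mem hOinv hE hy h1 h2)
    · intro x hx s hs hp
      exact step x (hrQ x hx) s hs.1 hs.2.1 hp
    · intro x hx s hs hp
      refine step x (hrQ x hx) s⁻¹ (Q.inv_mem hs.1) (fun e he => ?_) hp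
      obtain ⟨f, hf, hsf⟩ := hs.2.1 e he
      refine ⟨f, hf, ?_⟩
      rw [inv_mul_eq_iff_eq_mul, ← mul_assoc, hsf, mul_inv_cancel_right]
  exact claim y hy

theorem trans_aux (hE : ∀ x ∈ E, x * x = 1) (hS : SS E) (hC : CH E) {F : Subgroup G} (hFE : F ≤ E)
    (hidx : ∀ a ∈ E, ∀ b ∈ E, a ∉ F → b ∉ F → a * b ∈ F) {t : G} (ht : t ∈ F) (ht1 : t ≠ 1)
    {s : G} (hsE : s ∈ E) (hsF : s ∉ F)
    (g k : G) {e y b : G} (he : e ∈ E) (hy : y ∈ E) (hb : b ∈ E)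
    (h : Odd (orderOf (g * e * g⁻¹ * y))) (h' : Odd (orderOf (k * b * k⁻¹ * y))) :
    Odd (orderOf (g * e * g⁻¹ * (k * b * k⁻¹))) := by
  obtain ⟨Q, hQ, hinv, v, hv, hvE⟩ := conj_struct hE hS k
  rw [hvE b hb y hy h']
  clear h' hvE
  obtain ⟨c, hcQ, hcF, r, hr, rfl⟩ := fac E F hE hFE hidx _ Q rfl hQ hinv v hv
  -- property
  let P : G → Prop := fun v => ∀ (g : G), ∀ e ∈ E, ∀ y ∈ E, Odd (orderOf (g * e * g⁻¹ * y)) →
    Odd (orderOf (g * e * g⁻¹ * (v * y * v⁻¹)))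
  have hPmul : ∀ v1 v2, P v1 → P v2 → P (v1 * v2) := by
    intro v1 v2 h1 h2 g e he y hy h
    have h3 := h1 g e he y hy h
    have hcj : ∀ z : G, orderOf (g * e * g⁻¹ * (v1 * z * v1⁻¹)) =
        orderOf ((v1⁻¹ * g) * e * (v1⁻¹ * g)⁻¹ * z) := by
      intro z
      have h3 : g * e * g⁻¹ * (v1 * z * v1⁻¹) =
          MulAut.conj v1 ((v1⁻¹ * g) * e * (v1⁻¹ * g)⁻¹ * z) := by
        rw [MulAut.conj_apply]; group
      rw [h3]
      exact orderOf_injective (MulAut.conj v1).toMonoidHom (MulAut.conj v1).injective _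
    rw [hcj] at h3
    have h4 := h2 _ e he y hy h3
    rw [← hcj] at h4
    have h5 : v1 * (v2 * y * v2⁻¹) * v1⁻¹ = v1 * v2 * y * (v1 * v2)⁻¹ := by group
    rwa [h5] at h4
  have hPc : P c := fun g e he y hy h =>
    main hE hS hC hFE hidx ht ht1 hQ hinv hcQ hcF g he hy h
  have hPs : ∀ r ∈ Q, (∀ e ∈ E, ∃ f ∈ F, r * (e * f) = (e * f) * r) →
      (∀ a ∈ E, ∀ b ∈ E, r * a ≠ a * r → r * b ≠ b * r → r * (a * b) = (a * b) * r) → P r := by
    intro r hr hr1 hr2 g e he y hy h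
    let F' : Subgroup G := E ⊓ Subgroup.centralizer {r}
    have hF' : ∀ x, x ∈ F' ↔ x ∈ E ∧ r * x = x * r := by
      intro x
      rw [Subgroup.mem_inf, Subgroup.mem_centralizer_singleton_iff]
      exact ⟨fun h => ⟨h.1, h.2.symm⟩, fun h => ⟨h.1, h.2.symm⟩⟩
    obtain ⟨f, hf, hsf⟩ := hr1 s hsE
    refine main hE hS hC (F := F') inf_le_left ?_ (t := s * f) ((hF' _).2 ⟨E.mul_mem hsE (hFE hf), hsf⟩)
      ?_ hQ hinv hr (fun x hx => ((hF' x).1 hx).2) g he hy h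
    · intro a ha b hb ha' hb'
      refine (hF' _).2 ⟨E.mul_mem ha hb, hr2 a ha b hb ?_ ?_⟩
      · exact fun h => ha' ((hF' a).2 ⟨ha, h⟩)
      · exact fun h => hb' ((hF' b).2 ⟨hb, h⟩)
    · intro h1
      apply hsF
      have h2 : s = f⁻¹ := eq_inv_of_mul_eq_one_left h1
      rw [h2]
      exact F.inv_mem hf
  have hPr : P r := by
    refine Subgroup.closure_induction_right (p := fun x _ => P x) ?_ ?_ ?_ hr
    · intro g e he y hy h
      simpa using h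
    · intro x hx s hs hp
      exact hPmul _ _ hp (hPs s hs.1 hs.2.1 hs.2.2)
    · intro x hx s hs hp
      have hcom : ∀ a, s * a = a * s ↔ s⁻¹ * a = a * s⁻¹ := by
        intro a
        constructor
        · intro h
          rw [inv_mul_eq_iff_eq_mul, ← mul_assoc, h, mul_inv_cancel_right]
        · intro h
          have h2 : a * s = s * a := by
            calc a * s = s * (s⁻¹ * a) * s := by group
              _ = s * a := by rw [h]; group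
          exact h2.symm
      refine hPmul _ _ hp (hPs s⁻¹ (Q.inv_mem hs.1) (fun e he => ?_) (fun a ha b hb h1 h2 => ?_))
      · obtain ⟨f, hf, hsf⟩ := hs.2.1 e he
        exact ⟨f, hf, (hcom _).1 hsf⟩
      · exact (hcom _).1 (hs.2.2 a ha b hb (fun h => h1 ((hcom _).1 h)) (fun h => h2 ((hcom _).1 h)))
  exact hPmul c r hPc hPr g e he y hy h

end Cfsg.Agent.H2.EC
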