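import Mathlib
import Cfsg.Agent.H2_EC2
import Cfsg.Prelude.Def_CaseTheorems
import Cfsg.Agent.H11_Cores

set_option autoImplicit false
open Cfsg

namespace Cfsg.Agent.H2.EC

universe u

section
variable {G : Type*} [Group G] [Finite G]

theorem fix_conj {H Q1 : Subgroup G} (hH : IsPGroup 2 H) (hQ1 : Odd (Nat.card Q1))
    (hinv : ∀ h ∈ H, ∀ q ∈ Q1, h * q * h⁻¹ ∈ Q1) {g w : G}
    (hw : ∀ h ∈ H, w⁻¹ * (g * h * g⁻¹) * w ∈ H)
    (hQ : ∀ h ∈ H, (g * h * g⁻¹) * (w⁻¹ * (g * h * g⁻¹) * w)⁻¹ ∈ Q1) :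
    ∃ x ∈ Q1, ∀ h ∈ H, x⁻¹ * (g * h * g⁻¹) * x ∈ H := by
  have hst : ∀ h ∈ H, ∀ x ∈ Q1, (g * h * g⁻¹) * x * (w⁻¹ * (g * h * g⁻¹) * w)⁻¹ ∈ Q1 := by
    intro h hh x hx
    have h1 : (g * h * g⁻¹) * x * (w⁻¹ * (g * h * g⁻¹) * w)⁻¹ =
        ((g * h * g⁻¹) * (w⁻¹ * (g * h * g⁻¹) * w)⁻¹) *
          ((w⁻¹ * (g * h * g⁻¹) * w) * x * (w⁻¹ * (g * h * g⁻¹) * w)⁻¹) := by group
    rw [h1]
    exact Q1.mul_mem (hQ h hh) (hinv _ (hw h hh) x hx)
  letI : MulAction ↥H ↥Q1 :=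
    { smul := fun h x => ⟨(g * h * g⁻¹) * x * (w⁻¹ * (g * h * g⁻¹) * w)⁻¹, hst h h.2 x x.2⟩
      one_smul := by
        rintro ⟨x, hx⟩
        apply Subtype.ext
        show (g * ((1 : ↥H) : G) * g⁻¹) * x * (w⁻¹ * (g * ((1 : ↥H) : G) * g⁻¹) * w)⁻¹ = x
        simp
      mul_smul := by
        rintro a b ⟨x, hx⟩
        apply Subtype.ext
        show (g * ((a * b : ↥H) : G) * g⁻¹) * x * (w⁻¹ * (g * ((a * b : ↥H) : G) * g⁻¹) * w)⁻¹ =
          (g * (a : G) * g⁻¹) * ((g * (b : G) * g⁻¹) * x * (w⁻¹ * (g * (b : G) * g⁻¹) * w)⁻¹) *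
            (w⁻¹ * (g * (a : G) * g⁻¹) * w)⁻¹
        push_cast
        group }
  obtain ⟨x, hx⟩ := hH.nonempty_fixed_point_of_prime_not_dvd_card ↥Q1
    (fun h => (Nat.not_even_iff_odd.2 hQ1) (even_iff_two_dvd.2 h))
  refine ⟨x, x.2, fun h hh => ?_⟩
  have h1 := hx ⟨h, hh⟩
  have h2 : (g * h * g⁻¹) * x * (w⁻¹ * (g * h * g⁻¹) * w)⁻¹ = x :=
    congrArg (fun y : ↥Q1 => (y : G)) h1
  have h3 : (x : G)⁻¹ * (g * h * g⁻¹) * x = w⁻¹ * (g * h * g⁻¹) * w := by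
    rw [mul_inv_eq_iff_eq_mul] at h2
    rw [mul_assoc, h2]
    group
  rw [h3]
  exact hw h hh

theorem odd_of_le {A B : Subgroup G} (h : A ≤ B) (hB : Odd (Nat.card B)) : Odd (Nat.card A) := by
  rw [← Nat.not_even_iff_odd] at hB ⊢
  intro h1
  exact hB (even_iff_two_dvd.2 ((even_iff_two_dvd.1 h1).trans (Subgroup.card_dvd_of_le h)))

theorem SS_sub {H M : Subgroup G} (hH : IsPGroup 2 H) (hHM : H ≤ M) (hS : SS H) :
    SS (H.subgroupOf M) := by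
  intro g
  obtain ⟨Q, hQ, hinv, w, hw, hwH⟩ := hS g
  have hQ1 : Odd (Nat.card ↥(Q ⊓ M)) := odd_of_le inf_le_left hQ
  obtain ⟨x, hx, hxH⟩ := fix_conj (Q1 := Q ⊓ M) hH hQ1
    (fun h hh q hq => ⟨hinv h hh q hq.1, M.mul_mem (M.mul_mem (hHM hh) hq.2) (M.inv_mem (hHM hh))⟩)
    (g := g) (w := w) hwH (fun h hh => by
      refine ⟨?_, M.mul_mem (M.mul_mem (M.mul_mem g.2 (hHM hh)) (M.inv_mem g.2)) (M.inv_mem (hHM (hwH h hh)))⟩
      have h1 : ((g : G) * h * (g : G)⁻¹) * (w⁻¹ * ((g : G) * h * (g : G)⁻¹) * w)⁻¹ =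
        w * ((w⁻¹ * ((g : G) * h * (g : G)⁻¹) * w) * w⁻¹ * (w⁻¹ * ((g : G) * h * (g : G)⁻¹) * w)⁻¹) := by group
      show ((g : G) * h * (g : G)⁻¹) * (w⁻¹ * ((g : G) * h * (g : G)⁻¹) * w)⁻¹ ∈ Q
      rw [h1]
      exact Q.mul_mem hw (hinv _ (hwH h hh) _ (Q.inv_mem hw)))
  refine ⟨Q.subgroupOf M, ?_, ?_, ⟨x, hx.2⟩, hx.1, ?_⟩
  · rw [← Nat.not_even_iff_odd] at hQ ⊢
    intro h1
    exact hQ (even_iff_two_dvd.2 ((even_iff_two_dvd.1 h1).trans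
      (Subgroup.card_comap_dvd_of_injective Q M.subtype M.subtype_injective)))
  · intro h hh q hq
    exact hinv h hh q hq
  · intro h hh
    exact hxH h hh

theorem SS_quot {H : Subgroup G} (N : Subgroup G) [N.Normal] (hS : SS H) :
    SS (H.map (QuotientGroup.mk' N)) := by
  intro g
  obtain ⟨g, rfl⟩ := QuotientGroup.mk'_surjective N g
  obtain ⟨Q, hQ, hinv, w, hw, hwH⟩ := hS g
  refine ⟨Q.map (QuotientGroup.mk' N), ?_, ?_, QuotientGroup.mk' N w, ⟨w, hw, rfl⟩, ?_⟩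
  · rw [← Nat.not_even_iff_odd] at hQ ⊢
    intro h1
    exact hQ (even_iff_two_dvd.2 ((even_iff_two_dvd.1 h1).trans
      (Subgroup.card_dvd_of_surjective ((QuotientGroup.mk' N).subgroupMap Q)
        ((QuotientGroup.mk' N).subgroupMap_surjective Q))))
  · rintro _ ⟨h, hh, rfl⟩ _ ⟨q, hq, rfl⟩
    exact ⟨h * q * h⁻¹, hinv h hh q hq, by simp⟩
  · rintro _ ⟨h, hh, rfl⟩
    exact ⟨_, hwH h hh, by simp⟩

/-- central Sylow 2-subgroup -/
theorem CS {D Z : Subgroup G} [D.Normal] (hZD : Z ≤ D) (hZ : ∀ z ∈ Z, ∀ d ∈ D, z * d = d * z)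
    (hZ2 : IsPGroup 2 Z) (hidx : Odd (Z.relIndex D)) {d : G} (hd : d ∈ D) (hod : Odd (orderOf d)) :
    d ∈ oddCore G := by
  let Z' : Subgroup ↥D := Z.subgroupOf D
  haveI : Z'.Normal := ⟨fun z hz g => by
    have h1 : g * z * g⁻¹ = z := by
      apply Subtype.ext
      show (g : G) * z * (g : G)⁻¹ = z
      rw [← hZ z hz g g.2, mul_inv_cancel_right]
    rw [h1]; exact hz⟩
  have hcop : (Nat.card Z').Coprime Z'.index := by
    have h1 : IsPGroup 2 Z' := hZ2.comap_of_injective D.subtype D.subtype_injective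
    obtain ⟨k, hk⟩ := IsPGroup.iff_card.1 h1
    rw [hk]
    exact Nat.Coprime.pow_left _ ((Nat.coprime_two_left).2 hidx)
  obtain ⟨K, hK⟩ := Subgroup.exists_right_complement'_of_coprime hcop
  have hKodd : Odd (Nat.card K) := by
    rw [← hK.symm.index_eq_card]
    exact hidx
  have hdec : ∀ x : ↥D, ∃ z ∈ Z', ∃ k ∈ K, x = z * k := by
    intro x
    obtain ⟨⟨z, k⟩, h1⟩ := (hK.existsUnique x).exists
    exact ⟨z, z.2, k, k.2, h1.symm⟩
  have hchar : ∀ x : ↥D, Odd (orderOf x) → x ∈ K := by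
    intro x hx
    obtain ⟨z, hz, k, hk, rfl⟩ := hdec x
    have hcom : Commute z k := Subtype.ext (hZ z hz k k.2)
    have h1 : z ^ orderOf (z * k) * k ^ orderOf (z * k) = 1 := by
      rw [← hcom.mul_pow, pow_orderOf_eq_one]
    have h2 : z ^ orderOf (z * k) ∈ K := by
      rw [eq_inv_of_mul_eq_one_left h1]
      exact K.inv_mem (K.pow_mem hk _)
    have h3 : z ^ orderOf (z * k) = 1 :=
      Subgroup.disjoint_def.1 hK.disjoint (Z'.pow_mem hz _) h2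
    have h4 : orderOf z ∣ orderOf (z * k) := orderOf_dvd_of_pow_eq_one h3
    have h5 : z = 1 := by
      obtain ⟨m, hm⟩ := IsPGroup.iff_orderOf.1 hZ2 ⟨z, hz⟩
      have hm' : orderOf z = 2 ^ m := by
        rw [← hm, ← Subgroup.orderOf_coe, ← Subgroup.orderOf_coe]
      rcases Nat.eq_zero_or_pos m with h6 | h6
      · rw [h6, pow_zero] at hm'
        exact orderOf_eq_one_iff.1 hm'
      · exfalso
        rw [hm'] at h4
        exact (Nat.not_even_iff_odd.2 hx) (even_iff_two_dvd.2 ((dvd_pow_self 2 h6.ne').trans h4))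
    rw [h5, one_mul]; exact hk
  have hchar' : ∀ x : ↥D, x ∈ K → Odd (orderOf x) := by
    intro x hx
    rw [← Nat.not_even_iff_odd] at hKodd ⊢
    intro h
    exact hKodd (even_iff_two_dvd.2 ((even_iff_two_dvd.1 h).trans (Subgroup.orderOf_dvd_natCard K hx)))
  haveI hnor : (K.map D.subtype).Normal := by
    constructor
    rintro _ ⟨x, hx, rfl⟩ g
    have h1 : g * (x : G) * g⁻¹ ∈ D := (inferInstance : D.Normal).conj_mem x x.2 g
    refine ⟨⟨g * x * g⁻¹, h1⟩, hchar _ ?_, rfl⟩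
    rw [← Subgroup.orderOf_coe]
    show Odd (orderOf (MulAut.conj g (x : G)))
    have h2 : orderOf (MulAut.conj g (x : G)) = orderOf (x : G) :=
      orderOf_injective (MulAut.conj g).toMonoidHom (MulAut.conj g).injective _
    rw [h2, Subgroup.orderOf_coe]
    exact hchar' x hx
  have h1 : (Nat.card ↥(K.map D.subtype)).Coprime 2 := by
    rw [← Nat.card_congr (K.equivMapOfInjective D.subtype D.subtype_injective).toEquiv]
    exact (Nat.coprime_two_right).2 hKodd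
  exact Cfsg.Agent.H11.Cores.le_pPrimeCore 2 h1 ⟨⟨d, hd⟩, hchar _ (by rwa [← Subgroup.orderOf_coe]), rfl⟩

end

end Cfsg.Agent.H2.EC
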