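import Mathlib
import Cfsg.Agent.H2_EC3
import Cfsg.Agent.H4_ZStar

set_option autoImplicit false
open Cfsg

namespace Cfsg.Agent.H2.EC

universe u

section
variable {G : Type u} [Group G] [Finite G]

def R (x y : G) : Prop := Odd (orderOf (x * y))

omit [Finite G] in
theorem R_conj (k x y : G) : R (k * x * k⁻¹) (k * y * k⁻¹) ↔ R x y := by
  unfold R
  have h3 : k * x * k⁻¹ * (k * y * k⁻¹) = MulAut.conj k (x * y) := by
    rw [MulAut.conj_apply]; group
  rw [h3]
  have h4 : orderOf (MulAut.conj k (x * y)) = orderOf (x * y) :=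
    orderOf_injective (MulAut.conj k).toMonoidHom (MulAut.conj k).injective _
  rw [h4]

omit [Finite G] in
theorem R_symm {x y : G} (h : R x y) : R y x := by
  unfold R at *
  have h3 : y * x = MulAut.conj x⁻¹ (x * y) := by
    rw [MulAut.conj_apply]; group
  rw [h3]
  have h4 : orderOf (MulAut.conj x⁻¹ (x * y)) = orderOf (x * y) :=
    orderOf_injective (MulAut.conj x⁻¹).toMonoidHom (MulAut.conj x⁻¹).injective _
  rw [h4]; exact h

variable {E : Subgroup G}

/-- existence of a hyperplane -/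
theorem exists_hyper (hE : ∀ x ∈ E, x * x = 1) {t s : G} (ht : t ∈ E) (hs : s ∈ E) (ht1 : t ≠ 1)
    (hs1 : s ≠ 1) (hst : s ≠ t) : ∃ F : Subgroup G, F ≤ E ∧ t ∈ F ∧ s ∉ F ∧
      ∀ a ∈ E, ∀ b ∈ E, a ∉ F → b ∉ F → a * b ∈ F := by
  classical
  let 𝒮 : Set (Subgroup G) := {F | F ≤ E ∧ t ∈ F ∧ s ∉ F}
  have hfin : 𝒮.Finite := Set.toFinite _
  have hne : 𝒮.Nonempty := by
    refine ⟨Subgroup.zpowers t, (Subgroup.zpowers_le).2 ht, Subgroup.mem_zpowers t, ?_⟩
    intro h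
    obtain ⟨k, hk⟩ := Subgroup.mem_zpowers_iff.1 h
    have h2 : t ^ (2 : ℤ) = 1 := by
      rw [show (2 : ℤ) = 1 + 1 by norm_num, zpow_add, zpow_one]; exact hE t ht
    rcases Int.even_or_odd' k with ⟨m, hm | hm⟩
    · rw [hm, zpow_mul, h2, one_zpow] at hk
      exact hs1 hk.symm
    · rw [hm, zpow_add, zpow_mul, h2, one_zpow, one_mul, zpow_one] at hk
      exact hst hk.symm
  obtain ⟨F, hF⟩ := hfin.exists_maximal hne
  obtain ⟨⟨hFE, htF, hsF⟩, hmax⟩ := hF
  refine ⟨F, hFE, htF, hsF, ?_⟩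
  have key : ∀ a ∈ E, a ∉ F → s * a ∈ F := by
    intro a ha haF
    let K : Subgroup G :=
      { carrier := {x | x ∈ E ∧ (x ∈ F ∨ x * a ∈ F)}
        mul_mem' := by
          rintro x y ⟨hx, hx'⟩ ⟨hy, hy'⟩
          refine ⟨E.mul_mem hx hy, ?_⟩
          rcases hx' with hx' | hx' <;> rcases hy' with hy' | hy'
          · exact Or.inl (F.mul_mem hx' hy')
          · right; rw [mul_assoc]; exact F.mul_mem hx' hy'
          · right
            rw [mul_assoc, comm_of_el hE hy ha, ← mul_assoc]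
            exact F.mul_mem hx' hy'
          · left
            have h1 : x * y = (x * a) * (y * a) := by
              calc x * y = x * (a * a) * y := by rw [hE a ha, mul_one]
                _ = (x * a) * (a * y) := by group
                _ = (x * a) * (y * a) := by rw [comm_of_el hE ha hy]
            rw [h1]; exact F.mul_mem hx' hy'
        one_mem' := ⟨E.one_mem, Or.inl F.one_mem⟩
        inv_mem' := by
          rintro x ⟨hx, hx'⟩
          have h1 : x⁻¹ = x := inv_eq_of_mul_eq_one_right (hE x hx)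
          rw [h1]; exact ⟨hx, hx'⟩ }
    have hFK : F ≤ K := fun x hx => ⟨hFE hx, Or.inl hx⟩
    have haK : a ∈ K := ⟨ha, Or.inr (by rw [hE a ha]; exact F.one_mem)⟩
    by_contra hsa
    have hKS : K ∈ 𝒮 := ⟨fun x hx => hx.1, hFK htF, fun h => h.2.elim hsF hsa⟩
    exact haF (hmax hKS hFK haK)
  intro a ha b hb haF hbF
  have h1 : a * b = (s * a) * (s * b) := by
    calc a * b = a * (s * s) * b := by rw [hE s hs, mul_one]
      _ = (a * s) * (s * b) := by group
      _ = (s * a) * (s * b) := by rw [comm_of_el hE ha hs]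
  rw [h1]
  exact F.mul_mem (key a ha haF) (key b hb hbF)

/-- transitivity with centre in E -/
theorem transE (hE : ∀ x ∈ E, x * x = 1) (hS : SS E) (hC : CH E) (g k : G) {e y b : G}
    (he : e ∈ E) (hy : y ∈ E) (hb : b ∈ E) (h : R (g * e * g⁻¹) y) (h' : R (k * b * k⁻¹) y) :
    R (g * e * g⁻¹) (k * b * k⁻¹) := by
  by_cases hbig : ∃ t ∈ E, ∃ s ∈ E, t ≠ 1 ∧ s ≠ 1 ∧ s ≠ t
  · obtain ⟨t, ht, s, hs, ht1, hs1, hst⟩ := hbig
    obtain ⟨F, hFE, htF, hsF, hidx⟩ := exists_hyper hE ht hs ht1 hs1 hst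
    exact trans_aux hE hS hC hFE hidx htF ht1 hs hsF g k he hy hb h h'
  · push Not at hbig
    have hR1 : ∀ (g : G), ∀ e ∈ E, ∀ y ∈ E, R (g * e * g⁻¹) y → (e = 1 ↔ y = 1) := by
      intro g e he y hy h
      obtain ⟨Q, hQ, hinv, w, hw, hwE⟩ := conj_struct hE hS g
      have h1 := hwE e he y hy h
      constructor
      · rintro rfl
        have h2 : y = w⁻¹ * (g * 1 * g⁻¹) * w := by rw [h1]; group
        rw [h2]; group
      · rintro rfl
        have h2 : e = g⁻¹ * (w * 1 * w⁻¹) * g := by rw [← h1]; group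
        rw [h2]; group
    have h1 := hR1 g e he y hy h
    have h2 := hR1 k b hb y hy h'
    by_cases hy1 : y = 1
    · rw [h1.2 hy1, h2.2 hy1]
      unfold R
      simp
    · have he1 : e ≠ 1 := fun h => hy1 (h1.1 h)
      have hb1 : b ≠ 1 := fun h => hy1 (h2.1 h)
      have hey : e = b := hbig b hb e he hb1 he1
      subst hey
      rw [← R_conj k⁻¹]
      have h3 : k⁻¹ * (k * e * k⁻¹) * k⁻¹⁻¹ = e := by group
      have h4 : k⁻¹ * (g * e * g⁻¹) * k⁻¹⁻¹ = (k⁻¹ * g) * e * (k⁻¹ * g)⁻¹ := by group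
      rw [h3, h4]
      obtain ⟨Q, hQ, hinv, w, hw, hwE⟩ := hS (k⁻¹ * g)
      have h5 := hwE e he
      set e' := w⁻¹ * ((k⁻¹ * g) * e * (k⁻¹ * g)⁻¹) * w with he'
      have h6 : (k⁻¹ * g) * e * (k⁻¹ * g)⁻¹ = w * e' * w⁻¹ := by rw [he']; group
      have h7 : e' ≠ 1 := by
        intro h8
        apply he1
        have h9 : e = (k⁻¹ * g)⁻¹ * (w * e' * w⁻¹) * (k⁻¹ * g) := by rw [← h6]; group
        rw [h9, h8]; group
      have h8 : e' = e := hbig e he e' h5 he1 h7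
      rw [h6, h8]
      exact odd_of_mem hQ (conj_comp hE hinv hw he)

theorem transG (hE : ∀ x ∈ E, x * x = 1) (hS : SS E) (hC : CH E) (g h k : G) {e y b : G}
    (he : e ∈ E) (hy : y ∈ E) (hb : b ∈ E) (h1 : R (g * e * g⁻¹) (h * y * h⁻¹))
    (h2 : R (k * b * k⁻¹) (h * y * h⁻¹)) : R (g * e * g⁻¹) (k * b * k⁻¹) := by
  rw [← R_conj h⁻¹] at h1 h2 ⊢
  have h3 : h⁻¹ * (h * y * h⁻¹) * h⁻¹⁻¹ = y := by group
  have h4 : ∀ g e : G, h⁻¹ * (g * e * g⁻¹) * h⁻¹⁻¹ = (h⁻¹ * g) * e * (h⁻¹ * g)⁻¹ := by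
    intro g e; group
  rw [h3, h4] at h1 h2
  rw [h4, h4]
  exact transE hE hS hC _ _ he hy hb h1 h2

/-- the normal subgroup -/
def G0 (hE : ∀ x ∈ E, x * x = 1) (hS : SS E) (hC : CH E) : Subgroup G where
  carrier := {g | ∀ k : G, ∀ b ∈ E, R ((g * k) * b * (g * k)⁻¹) (k * b * k⁻¹)}
  mul_mem' := by
    intro g h hg hh k b hb
    have h1 := hg (h * k) b hb
    have h2 := hh k b hb
    rw [← mul_assoc] at h1
    exact transG hE hS hC _ _ _ hb hb hb h1 (R_symm h2)
  one_mem' := by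
    intro k b hb
    rw [one_mul]
    unfold R
    have h1 : k * b * k⁻¹ * (k * b * k⁻¹) = 1 := by
      calc k * b * k⁻¹ * (k * b * k⁻¹) = k * (b * b) * k⁻¹ := by group
        _ = 1 := by rw [hE b hb]; group
    rw [h1]; simp
  inv_mem' := by
    intro g hg k b hb
    have h1 := hg (g⁻¹ * k) b hb
    rw [mul_inv_cancel_left] at h1
    exact R_symm h1

instance G0_normal (hE : ∀ x ∈ E, x * x = 1) (hS : SS E) (hC : CH E) : (G0 hE hS hC).Normal := by
  constructor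
  intro n hn g k b hb
  have h1 := hn (g⁻¹ * k) b hb
  rw [← R_conj g] at h1
  have h2 : g * ((n * (g⁻¹ * k)) * b * (n * (g⁻¹ * k))⁻¹) * g⁻¹ =
      (g * n * g⁻¹ * k) * b * (g * n * g⁻¹ * k)⁻¹ := by group
  have h3 : g * ((g⁻¹ * k) * b * (g⁻¹ * k)⁻¹) * g⁻¹ = k * b * k⁻¹ := by group
  rwa [h2, h3] at h1

theorem E_le_G0 (hE : ∀ x ∈ E, x * x = 1) (hS : SS E) (hC : CH E) : E ≤ G0 hE hS hC := by
  intro a ha k b hb
  obtain ⟨Q, hQ, hinv, w, hw, hwE⟩ := hS k
  have h1 := hwE b hb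
  set b' := w⁻¹ * (k * b * k⁻¹) * w with hb'
  have h2 : k * b * k⁻¹ = w * b' * w⁻¹ := by rw [hb']; group
  have h3 : k * b * k⁻¹ * b' ∈ Q := by rw [h2]; exact conj_comp hE hinv hw h1
  have h4 : (a * k) * b * (a * k)⁻¹ * b' = a * (k * b * k⁻¹ * b') * a⁻¹ := by
    have h5 : b' * a = a * b' := comm_of_el hE h1 ha
    calc (a * k) * b * (a * k)⁻¹ * b' = a * (k * b * k⁻¹) * a⁻¹ * (b' * a) * a⁻¹ := by group
      _ = a * (k * b * k⁻¹) * a⁻¹ * (a * b') * a⁻¹ := by rw [h5]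
      _ = _ := by group
  exact odd_of_mem hQ (k1_mem hinv hE h1 (by rw [h4]; exact hinv a ha _ h3) h3)

/-- conclusion, given CH -/
theorem concl (hE : ∀ x ∈ E, x * x = 1) (hS : SS E) (hC : CH E) (g : G) {e e' : G}
    (he : e ∈ E) (he' : e' ∈ E) (h : R (g * e * g⁻¹) e') : g * e * g⁻¹ * e' ∈ oddCore G := by
  set N := G0 hE hS hC with hN
  have hEN : E ≤ N := E_le_G0 hE hS hC
  set x := g * e * g⁻¹ with hx
  have hx2 : x * x = 1 := by
    calc x * x = g * (e * e) * g⁻¹ := by rw [hx]; group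
      _ = 1 := by rw [hE e he]; group
  have he2 : e' * e' = 1 := hE e' he'
  have hxN : x ∈ N := (inferInstance : N.Normal).conj_mem e (hEN he) g
  by_cases he1 : e' = 1
  · rw [he1, mul_one]
    unfold R at h
    rw [he1, mul_one] at h
    rw [eq_one_of_odd_sq h hx2]
    exact Subgroup.one_mem _
  -- isolated
  have hiso : IsIsolatedInvolution (⟨e', hEN he'⟩ : ↥N) := by
    constructor
    · rw [← Subgroup.orderOf_coe]
      exact orderOf_eq_prime (by rw [sq, he2]) he1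
    · rintro ⟨n, hn⟩ hc
      have h1 : e' * (n * e' * n⁻¹) = (n * e' * n⁻¹) * e' := congrArg Subtype.val hc
      have h2 := hn 1 e' he'
      rw [mul_one, one_mul, inv_one, mul_one] at h2
      unfold R at h2
      have h3 : (n * e' * n⁻¹ * e') * (n * e' * n⁻¹ * e') = 1 := by
        calc (n * e' * n⁻¹ * e') * (n * e' * n⁻¹ * e')
            = (n * e' * n⁻¹) * (e' * (n * e' * n⁻¹)) * e' := by group
          _ = (n * e' * n⁻¹) * ((n * e' * n⁻¹) * e') * e' := by rw [h1]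
          _ = n * (e' * e') * n⁻¹ * (e' * e') := by group
          _ = 1 := by rw [he2]; group
      have h4 := eq_one_of_odd_sq h2 h3
      apply Subtype.ext
      show n * e' * n⁻¹ = e'
      calc n * e' * n⁻¹ = (n * e' * n⁻¹ * e') * e'⁻¹ := by group
        _ = e' := by rw [h4, one_mul, inv_eq_of_mul_eq_one_right he2]
  obtain ⟨k, hk⟩ := h
  set v := (x * e') ^ (k + 1) with hv
  have hvN : v ∈ N := N.pow_mem (N.mul_mem hxN (hEN he')) _
  have hvv : v * v = x * e' := by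
    rw [hv, ← pow_add]
    have h1 : k + 1 + (k + 1) = orderOf (x * e') + 1 := by omega
    rw [h1, pow_succ, pow_orderOf_eq_one, one_mul]
  have hinvu : e' * (x * e') * e'⁻¹ = (x * e')⁻¹ := by
    rw [mul_inv_rev, inv_eq_of_mul_eq_one_right he2, inv_eq_of_mul_eq_one_right hx2]
    calc e' * (x * e') * e' = e' * x * (e' * e') := by group
      _ = e' * x := by rw [he2, mul_one]
  have hev : e' * v * e'⁻¹ = v⁻¹ := by
    rw [hv, ← conj_pow, hinvu, inv_pow]
  have h5 := Cfsg.Agent.H4.ZStar.zstar hiso (⟨v, hvN⟩ : ↥N)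
  have h6 : e' * v * e'⁻¹ * v⁻¹ ∈ oddCore G := by
    have h7 : (oddCore ↥N).map N.subtype ≤ oddCore G := by
      have h8 := Cfsg.Agent.H11.Cores.map_pPrimeCore_of_isSubnormal 2 (H := N)
        (Subgroup.Normal.isSubnormal inferInstance)
      show (pPrimeCore 2 ↥N).map N.subtype ≤ pPrimeCore 2 G
      rw [h8]
      exact inf_le_left
    exact h7 ⟨_, h5, rfl⟩
  rw [hev] at h6
  have h9 : v⁻¹ * v⁻¹ = (x * e')⁻¹ := by rw [← hvv]; group
  rw [h9] at h6
  exact (Subgroup.inv_mem_iff _).1 h6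

end

end Cfsg.Agent.H2.EC
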