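import Mathlib
import Cfsg.Agent.H2_EC4
import Cfsg.Agent.H4_Util

set_option autoImplicit false
open Cfsg

namespace Cfsg.Agent.H2.EC

universe u

theorem isP_of_el {G : Type u} [Group G] {E : Subgroup G} (hE : ∀ x ∈ E, x * x = 1) :
    IsPGroup 2 E := by
  intro x
  refine ⟨1, ?_⟩
  apply Subtype.ext
  simp [sq, hE x x.2]

/-- odd elements in the preimage of the odd core over a central 2-subgroup -/
theorem central_lift {G : Type u} [Group G] [Finite G] {Z : Subgroup G} [Z.Normal]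
    (hZ : ∀ z ∈ Z, ∀ g : G, z * g = g * z) (hZ2 : IsPGroup 2 Z) {x : G}
    (hx : QuotientGroup.mk' Z x ∈ oddCore (G ⧸ Z)) (ho : Odd (orderOf x)) : x ∈ oddCore G := by
  let D : Subgroup G := (oddCore (G ⧸ Z)).comap (QuotientGroup.mk' Z)
  haveI hcn : (oddCore (G ⧸ Z)).Normal := by
    show (pPrimeCore 2 (G ⧸ Z)).Normal
    infer_instance
  haveI : D.Normal := Subgroup.Normal.comap hcn _
  have hZD : Z ≤ D := by
    intro z hz
    show QuotientGroup.mk' Z z ∈ oddCore (G ⧸ Z)
    have h1 : QuotientGroup.mk' Z z = 1 := (QuotientGroup.eq_one_iff z).2 hz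
    rw [h1]; exact Subgroup.one_mem _
  refine CS (D := D) (Z := Z) hZD (fun z hz d _ => hZ z hz d) hZ2 ?_ hx ho
  have h1 := Cfsg.Agent.H11.Cores.card_comap_of_surjective (QuotientGroup.mk' Z)
    (QuotientGroup.mk'_surjective Z) (oddCore (G ⧸ Z))
  rw [QuotientGroup.ker_mk'] at h1
  have h2 : Nat.card Z * Z.relIndex D = Nat.card D := by
    have h5 := Subgroup.relIndex_mul_relIndex ⊥ Z D bot_le hZD
    rwa [Subgroup.relIndex_bot_left, Subgroup.relIndex_bot_left] at h5
  have h3 : Z.relIndex D = Nat.card (oddCore (G ⧸ Z)) := by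
    have h4 : Nat.card Z * Z.relIndex D = Nat.card Z * Nat.card (oddCore (G ⧸ Z)) := by
      rw [h2, ← h1]
    exact Nat.eq_of_mul_eq_mul_left Nat.card_pos h4
  rw [h3]
  exact (Nat.coprime_two_right).1 (Cfsg.Agent.H11.Cores.pPrimeCore_coprime (G := G ⧸ Z) 2)

theorem thmA : ∀ (n : ℕ) (G : Type u) [Group G] [Finite G], Nat.card G = n → ∀ E : Subgroup G,
    (∀ x ∈ E, x * x = 1) → SS E → ∀ g : G, ∀ e ∈ E, ∀ e' ∈ E, R (g * e * g⁻¹) e' →
      g * e * g⁻¹ * e' ∈ oddCore G := by
  intro n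
  induction n using Nat.strong_induction_on with
  | _ n ih =>
  intro G _ _ hn E hE hS g e he e' he' h
  by_cases hcen : ∃ t ∈ E, t ≠ 1 ∧ ∀ g : G, t * g = g * t
  · obtain ⟨t, ht, ht1, htc⟩ := hcen
    let Z : Subgroup G := Subgroup.zpowers t
    have hZc : ∀ z ∈ Z, ∀ g : G, z * g = g * z := by
      intro z hz g
      obtain ⟨k, rfl⟩ := Subgroup.mem_zpowers_iff.1 hz
      exact ((show Commute t g from htc g).zpow_left k)
    haveI : Z.Normal := ⟨fun z hz g => by
      rw [← hZc z hz g, mul_inv_cancel_right]; exact hz⟩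
    have hZE : Z ≤ E := (Subgroup.zpowers_le).2 ht
    have hlt : Nat.card (G ⧸ Z) < n := by
      have h1 := Subgroup.card_eq_card_quotient_mul_card_subgroup Z
      have h2 : 1 < Nat.card Z := by
        rw [Nat.card_zpowers]
        have h3 : orderOf t ≠ 1 := fun h => ht1 (orderOf_eq_one_iff.1 h)
        have h4 : 0 < orderOf t := orderOf_pos t
        omega
      have h3 : 0 < Nat.card (G ⧸ Z) := Nat.card_pos
      rw [← hn, h1]
      nlinarith
    have h1 := ih _ hlt (G ⧸ Z) rfl (E.map (QuotientGroup.mk' Z)) (by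
      rintro _ ⟨x, hx, rfl⟩
      rw [← map_mul, hE x hx, map_one]) (SS_quot Z hS) (QuotientGroup.mk' Z g)
      (QuotientGroup.mk' Z e) ⟨e, he, rfl⟩ (QuotientGroup.mk' Z e') ⟨e', he', rfl⟩ (by
        unfold R at h ⊢
        rw [← map_inv, ← map_mul, ← map_mul, ← map_mul]
        rw [← Nat.not_even_iff_odd] at h ⊢
        intro h2
        exact h (even_iff_two_dvd.2 ((even_iff_two_dvd.1 h2).trans (orderOf_map_dvd _ _))))
    rw [← map_inv, ← map_mul, ← map_mul, ← map_mul] at h1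
    exact central_lift hZc ((isP_of_el hE).to_le hZE) h1 h
  · push Not at hcen
    refine concl hE hS ?_ g he he' h
    intro t ht ht1
    let M : Subgroup G := Subgroup.centralizer {t}
    have hM : ∀ m, m ∈ M ↔ m * t = t * m := fun m => by
      rw [Subgroup.mem_centralizer_singleton_iff]
    have hEM : E ≤ M := fun x hx => (hM x).2 (comm_of_el hE hx ht)
    have hlt : Nat.card ↥M < n := by
      rw [← hn]
      apply Cfsg.Agent.H11.Cores.card_lt_of_lt_top
      rw [lt_top_iff_ne_top]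
      intro h1
      obtain ⟨g, hg⟩ := hcen t ht ht1
      exact hg ((hM g).1 (h1 ▸ Subgroup.mem_top g)).symm
    have ihM := ih _ hlt ↥M rfl (E.subgroupOf M) (fun x hx => Subtype.ext (hE x hx))
      (SS_sub (isP_of_el hE) hEM hS)
    refine ⟨(oddCore ↥M).map M.subtype, ?_, ?_, ?_⟩
    · rw [← Nat.card_congr ((oddCore ↥M).equivMapOfInjective M.subtype M.subtype_injective).toEquiv]
      exact (Nat.coprime_two_right).1 (Cfsg.Agent.H11.Cores.pPrimeCore_coprime (G := ↥M) 2)
    · rintro e he _ ⟨q, hq, rfl⟩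
      haveI hcn : (oddCore ↥M).Normal := by
        show (pPrimeCore 2 ↥M).Normal
        infer_instance
      exact ⟨⟨e, hEM he⟩ * q * ⟨e, hEM he⟩⁻¹, hcn.conj_mem q hq _, rfl⟩
    · intro m hm e he e' he' h
      have hmM : m ∈ M := (hM m).2 hm
      exact ⟨_, ihM ⟨m, hmM⟩ ⟨e, hEM he⟩ he ⟨e', hEM he'⟩ he' (by
        unfold R
        rw [← Subgroup.orderOf_coe]
        exact h), rfl⟩

theorem qf' {G : Type u} [Group G] [Finite G] {Q A : Subgroup G} (hQ : Odd (Nat.card Q))
    (hinv : ∀ a ∈ A, ∀ q ∈ Q, a * q * a⁻¹ ∈ Q) (hA : IsPGroup 2 A)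
    {q f : G} (hq : q ∈ Q) (hf : f ∈ A) (h : Odd (orderOf (q * f))) : f = 1 := by
  have key : ∀ k : ℕ, (q * f) ^ k * (f ^ k)⁻¹ ∈ Q := by
    intro k
    induction k with
    | zero => simp
    | succ k ih =>
      have h1 : (q * f) ^ (k + 1) * (f ^ (k + 1))⁻¹ =
          ((q * f) ^ k * (f ^ k)⁻¹) * (f ^ k * q * (f ^ k)⁻¹) := by
        rw [pow_succ, pow_succ f k]
        group
      rw [h1]
      exact Q.mul_mem ih (hinv _ (A.pow_mem hf k) _ hq)
  have h1 := key (orderOf (q * f))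
  rw [pow_orderOf_eq_one, one_mul, Q.inv_mem_iff] at h1
  have h2 := odd_of_mem hQ h1
  obtain ⟨m, hm⟩ := IsPGroup.iff_orderOf.1 hA ⟨f, hf⟩
  have hm' : orderOf f = 2 ^ m := by
    rw [← hm, ← Subgroup.orderOf_coe]
  have h3 : (orderOf f).Coprime (orderOf (q * f)) := by
    rw [hm']
    exact Nat.Coprime.pow_left _ ((Nat.coprime_two_left).2 h)
  rw [Nat.Coprime.orderOf_pow h3, hm'] at h2
  rcases Nat.eq_zero_or_pos m with h6 | h6
  · rw [h6, pow_zero] at hm'
    exact orderOf_eq_one_iff.1 hm'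
  · exact absurd h2 (Nat.not_odd_iff_even.2 (even_iff_two_dvd.2 (dvd_pow_self 2 h6.ne')))

/-- Theorem B -/
theorem thmB : ∀ (n : ℕ) (G : Type u) [Group G] [Finite G], Nat.card G = n → ∀ H : Subgroup G,
    IsPGroup 2 H → (∀ x ∈ H, ∀ y ∈ H, x * y = y * x) → SS H →
    Subgroup.normalizer (H : Set G) ⊔ oddCore G = ⊤ := by
  intro n
  induction n using Nat.strong_induction_on with
  | _ n ih =>
  intro G _ _ hn H hH2 hHc hS
  have hON : (oddCore G).Normal := by
    show (pPrimeCore 2 G).Normal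
    infer_instance
  have hOodd : Odd (Nat.card (oddCore G)) :=
    (Nat.coprime_two_right).1 (Cfsg.Agent.H11.Cores.pPrimeCore_coprime (G := G) 2)
  by_cases hO : oddCore G = ⊥
  swap
  · -- pass to G / O(G)
    have hlt : Nat.card (G ⧸ oddCore G) < n := by
      have h1 := Subgroup.card_eq_card_quotient_mul_card_subgroup (oddCore G)
      have h2 : 1 < Nat.card (oddCore G) := (Subgroup.one_lt_card_iff_ne_bot _).2 hO
      have h3 : 0 < Nat.card (G ⧸ oddCore G) := Nat.card_pos
      rw [← hn, h1]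
      nlinarith
    have h1 := ih _ hlt (G ⧸ oddCore G) rfl (H.map (QuotientGroup.mk' (oddCore G)))
      (hH2.map _) (by
        rintro _ ⟨x, hx, rfl⟩ _ ⟨y, hy, rfl⟩
        rw [← map_mul, hHc x hx y hy, map_mul]) (SS_quot _ hS)
    have h2 : oddCore (G ⧸ oddCore G) = ⊥ := Cfsg.Agent.H11.Cores.pPrimeCore_quotient 2
    rw [h2, sup_bot_eq] at h1
    rw [eq_top_iff]
    intro g _
    obtain ⟨Q, hQ, hinv, w, hw, hwH⟩ := hS g
    have h3 : ∀ h ∈ H, (g * h * g⁻¹) * (w⁻¹ * (g * h * g⁻¹) * w)⁻¹ ∈ oddCore G := by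
      intro h hh
      have h4 : QuotientGroup.mk' (oddCore G) g ∈ Subgroup.normalizer
        ((H.map (QuotientGroup.mk' (oddCore G)) : Subgroup (G ⧸ oddCore G)) : Set (G ⧸ oddCore G)) := by
        rw [h1]; exact Subgroup.mem_top _
      obtain ⟨h', hh', h5⟩ := (Subgroup.mem_normalizer_iff.1 h4 (QuotientGroup.mk' _ h)).1 ⟨h, hh, rfl⟩
      have hy : (g * h * g⁻¹) * (w⁻¹ * (g * h * g⁻¹) * w)⁻¹ ∈ Q := by
        have h6 : (g * h * g⁻¹) * (w⁻¹ * (g * h * g⁻¹) * w)⁻¹ =
          w * ((w⁻¹ * (g * h * g⁻¹) * w) * w⁻¹ * (w⁻¹ * (g * h * g⁻¹) * w)⁻¹) := by group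
        rw [h6]
        exact Q.mul_mem hw (hinv _ (hwH h hh) _ (Q.inv_mem hw))
      have hyo := odd_of_mem hQ hy
      have h7 : QuotientGroup.mk' (oddCore G) ((g * h * g⁻¹) * (w⁻¹ * (g * h * g⁻¹) * w)⁻¹) =
          QuotientGroup.mk' (oddCore G) (h' * (w⁻¹ * (g * h * g⁻¹) * w)⁻¹) := by
        rw [map_mul, map_mul, map_mul, map_mul, map_inv, h5]
      have h8 : Odd (orderOf (QuotientGroup.mk' (oddCore G)
          (h' * (w⁻¹ * (g * h * g⁻¹) * w)⁻¹))) := by
        rw [← h7]
        rw [← Nat.not_even_iff_odd] at hyo ⊢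
        intro h2
        exact hyo (even_iff_two_dvd.2 ((even_iff_two_dvd.1 h2).trans (orderOf_map_dvd _ _)))
      have h9 : QuotientGroup.mk' (oddCore G) (h' * (w⁻¹ * (g * h * g⁻¹) * w)⁻¹) = 1 := by
        refine qf' (Q := ⊥) (A := H.map (QuotientGroup.mk' (oddCore G))) (q := 1) (by simp) ?_
          (hH2.map _) (Subgroup.one_mem _) ⟨_, H.mul_mem hh' (H.inv_mem (hwH h hh)), rfl⟩
          (by rw [one_mul]; exact h8)
        intro a _ q hq
        rw [Subgroup.mem_bot] at hq ⊢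
        rw [hq]; simp
      rw [h9] at h7
      exact (QuotientGroup.eq_one_iff _).1 h7
    obtain ⟨x, hx, hxH⟩ := fix_conj hH2 hOodd (fun h _ q hq => hON.conj_mem q hq h) hwH h3
    have h4 : x⁻¹ * g ∈ Subgroup.normalizer (H : Set G) := by
      apply Cfsg.Agent.H4.Util.mem_normalizer_of_forall
      intro y hy
      have h5 := hxH y hy
      have h6 : x⁻¹ * g * y * (x⁻¹ * g)⁻¹ = x⁻¹ * (g * y * g⁻¹) * x := by group
      rw [h6]; exact h5
    have h5 : g = x * (x⁻¹ * g) := by group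
    rw [h5]
    exact Subgroup.mul_mem _ (Subgroup.mem_sup_right hx) (Subgroup.mem_sup_left h4)
  · by_cases hHb : H = ⊥
    · rw [hHb, eq_top_iff]
      intro g _
      apply Subgroup.mem_sup_left
      apply Cfsg.Agent.H4.Util.mem_normalizer_of_forall
      intro y hy
      rw [Subgroup.mem_bot] at hy ⊢
      rw [hy]; simp
    -- Ω₁
    let E : Subgroup G :=
      { carrier := {x | x ∈ H ∧ x * x = 1}
        mul_mem' := by
          rintro a b ⟨ha, ha'⟩ ⟨hb, hb'⟩
          refine ⟨H.mul_mem ha hb, ?_⟩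
          calc a * b * (a * b) = a * (b * a) * b := by group
            _ = a * (a * b) * b := by rw [hHc b hb a ha]
            _ = (a * a) * (b * b) := by group
            _ = 1 := by rw [ha', hb', one_mul]
        one_mem' := ⟨H.one_mem, by simp⟩
        inv_mem' := by
          rintro a ⟨ha, ha'⟩
          refine ⟨H.inv_mem ha, ?_⟩
          rw [← mul_inv_rev, ha', inv_one] }
    have hEH : E ≤ H := fun x hx => hx.1
    have hE : ∀ x ∈ E, x * x = 1 := fun x hx => hx.2
    have hEb : E ≠ ⊥ := by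
      haveI : Nontrivial ↥H := (Subgroup.nontrivial_iff_ne_bot H).2 hHb
      obtain ⟨k, hk, hc⟩ := (hH2.nontrivial_iff_card).1 inferInstance
      have h2 : 2 ∣ Nat.card ↥H := by rw [hc]; exact dvd_pow_self 2 hk.ne'
      obtain ⟨x, hx⟩ := exists_prime_orderOf_dvd_card' 2 h2
      intro h3
      have h4 : (x : G) ∈ E := by
        refine ⟨x.2, ?_⟩
        have h5 := pow_orderOf_eq_one x
        rw [hx, sq] at h5
        exact congrArg Subtype.val h5
      rw [h3, Subgroup.mem_bot] at h4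
      have h5 : x = 1 := Subtype.ext h4
      rw [h5, orderOf_one] at hx
      exact absurd hx (by decide)
    have hSE : SS E := by
      intro g
      obtain ⟨Q, hQ, hinv, w, hw, hwH⟩ := hS g
      refine ⟨Q, hQ, fun h hh => hinv h (hEH hh), w, hw, fun h hh => ⟨hwH h (hEH hh), ?_⟩⟩
      calc w⁻¹ * (g * h * g⁻¹) * w * (w⁻¹ * (g * h * g⁻¹) * w) = w⁻¹ * g * (h * h) * g⁻¹ * w := by group
        _ = 1 := by rw [hE h hh]; group
    have hEn : E.Normal := by
      constructor
      intro e he g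
      obtain ⟨Q, hQ, hinv, w, hw, hwE⟩ := hSE g
      have h1 := hwE e he
      set e' := w⁻¹ * (g * e * g⁻¹) * w with he'
      have h2 : g * e * g⁻¹ = w * e' * w⁻¹ := by rw [he']; group
      have h3 : R (g * e * g⁻¹) e' := by
        rw [h2]; exact odd_of_mem hQ (conj_comp hE hinv hw h1)
      have h4 := thmA _ G rfl E hE hSE g e he e' h1 h3
      rw [hO, Subgroup.mem_bot] at h4
      rw [eq_inv_of_mul_eq_one_left h4]
      exact E.inv_mem h1
    have hlt : Nat.card (G ⧸ E) < n := by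
      have h1 := Subgroup.card_eq_card_quotient_mul_card_subgroup E
      have h2 : 1 < Nat.card E := (Subgroup.one_lt_card_iff_ne_bot _).2 hEb
      have h3 : 0 < Nat.card (G ⧸ E) := Nat.card_pos
      rw [← hn, h1]
      nlinarith
    have hB := ih _ hlt (G ⧸ E) rfl (H.map (QuotientGroup.mk' E)) (hH2.map _) (by
        rintro _ ⟨x, hx, rfl⟩ _ ⟨y, hy, rfl⟩
        rw [← map_mul, hHc x hx y hy, map_mul]) (SS_quot _ hS)
    have hcn : (oddCore (G ⧸ E)).Normal := by
      show (pPrimeCore 2 (G ⧸ E)).Normal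
      infer_instance
    have hcodd : Odd (Nat.card (oddCore (G ⧸ E))) :=
      (Nat.coprime_two_right).1 (Cfsg.Agent.H11.Cores.pPrimeCore_coprime (G := G ⧸ E) 2)
    let O : Subgroup G := (oddCore (G ⧸ E)).comap (QuotientGroup.mk' E)
    haveI hOn : O.Normal := Subgroup.Normal.comap hcn _
    let D : Subgroup G := O ⊓ Subgroup.centralizer (E : Set G)
    haveI hDn : D.Normal := by
      haveI : (Subgroup.centralizer (E : Set G)).Normal := Subgroup.normal_centralizer
      infer_instance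
    have hED : E ≤ D := by
      intro e he
      refine ⟨?_, ?_⟩
      · show QuotientGroup.mk' E e ∈ oddCore (G ⧸ E)
        have h1 : QuotientGroup.mk' E e = 1 := (QuotientGroup.eq_one_iff e).2 he
        rw [h1]; exact Subgroup.one_mem _
      · show e ∈ Subgroup.centralizer (E : Set G)
        rw [Subgroup.mem_centralizer_iff]
        intro x hx
        exact comm_of_el hE hx he
    have hDodd : ∀ y ∈ D, Odd (orderOf y) → y = 1 := by
      intro y hy hyo
      have h1 := CS (D := D) (Z := E) hED (fun z hz d hd =>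
        Subgroup.mem_centralizer_iff.1 hd.2 z hz) (isP_of_el hE) ?_ hy hyo
      · rw [hO, Subgroup.mem_bot] at h1; exact h1
      · have h1 := Cfsg.Agent.H11.Cores.card_comap_of_surjective (QuotientGroup.mk' E)
          (QuotientGroup.mk'_surjective E) (oddCore (G ⧸ E))
        rw [QuotientGroup.ker_mk'] at h1
        have h2 : Nat.card E * E.relIndex O = Nat.card O := by
          have h5 := Subgroup.relIndex_mul_relIndex ⊥ E O bot_le (hED.trans inf_le_left)
          rwa [Subgroup.relIndex_bot_left, Subgroup.relIndex_bot_left] at h5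
        have h3 : E.relIndex O = Nat.card (oddCore (G ⧸ E)) := by
          have h4 : Nat.card E * E.relIndex O = Nat.card E * Nat.card (oddCore (G ⧸ E)) := by
            rw [h2, ← h1]
          exact Nat.eq_of_mul_eq_mul_left Nat.card_pos h4
        have h5 := Subgroup.relIndex_mul_relIndex E D O hED inf_le_left
        rw [h3] at h5
        rw [← h5] at hcodd
        exact (Nat.odd_mul.1 hcodd).1
    rw [eq_top_iff]
    intro g _
    apply Subgroup.mem_sup_left
    obtain ⟨Q, hQ, hinv, w, hw, hwH⟩ := hS g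
    -- Q centralizes E
    have hQE : ∀ q ∈ Q, ∀ e ∈ E, e * q = q * e := by
      intro q hq e he
      have h1 : e * q * e⁻¹ * q⁻¹ ∈ Q := Q.mul_mem (hinv e (hEH he) q hq) (Q.inv_mem hq)
      have h2 : e * q * e⁻¹ * q⁻¹ ∈ E := by
        have h3 : e * q * e⁻¹ * q⁻¹ = e * (q * e⁻¹ * q⁻¹) := by group
        rw [h3]
        exact E.mul_mem he (hEn.conj_mem _ (E.inv_mem he) q)
      have h3 := eq_one_of_odd_sq (odd_of_mem hQ h1) (hE _ h2)
      calc e * q = (e * q * e⁻¹ * q⁻¹) * q * e := by group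
        _ = q * e := by rw [h3, one_mul]
    have hwc : ∀ h ∈ H, w * h * w⁻¹ * h⁻¹ = 1 := by
      intro h hh
      have hyQ : w * h * w⁻¹ * h⁻¹ ∈ Q := by
        have h1 : w * h * w⁻¹ * h⁻¹ = w * (h * w⁻¹ * h⁻¹) := by group
        rw [h1]
        exact Q.mul_mem hw (hinv h hh _ (Q.inv_mem hw))
      have hyo := odd_of_mem hQ hyQ
      refine hDodd _ ⟨?_, ?_⟩ hyo
      · show QuotientGroup.mk' E (w * h * w⁻¹ * h⁻¹) ∈ oddCore (G ⧸ E)
        set wb := QuotientGroup.mk' E w with hwb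
        set hb := QuotientGroup.mk' E h with hhb
        have hhb' : hb ∈ H.map (QuotientGroup.mk' E) := ⟨h, hh, rfl⟩
        have h1 : wb ∈ Subgroup.normalizer ((H.map (QuotientGroup.mk' E) : Subgroup (G ⧸ E)) : Set (G ⧸ E)) ⊔
            oddCore (G ⧸ E) := by rw [hB]; exact Subgroup.mem_top _
        obtain ⟨m, hm, o, ho, hmo⟩ := Subgroup.mem_sup_of_normal_right.1 h1
        have h2 : m * hb * m⁻¹ ∈ H.map (QuotientGroup.mk' E) := (Subgroup.mem_normalizer_iff.1 hm hb).1 hhb'
        have h3 : QuotientGroup.mk' E (w * h * w⁻¹ * h⁻¹) =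
            (m * (o * (hb * o⁻¹ * hb⁻¹)) * m⁻¹) * ((m * hb * m⁻¹) * hb⁻¹) := by
          rw [map_mul, map_mul, map_mul, map_inv, map_inv, ← hwb, ← hhb, ← hmo]
          group
        have h4 : m * (o * (hb * o⁻¹ * hb⁻¹)) * m⁻¹ ∈ oddCore (G ⧸ E) :=
          hcn.conj_mem _ (Subgroup.mul_mem _ ho (hcn.conj_mem _ (Subgroup.inv_mem _ ho) _)) _
        have h5 : Odd (orderOf (QuotientGroup.mk' E (w * h * w⁻¹ * h⁻¹))) := by
          rw [← Nat.not_even_iff_odd] at hyo ⊢
          intro h2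
          exact hyo (even_iff_two_dvd.2 ((even_iff_two_dvd.1 h2).trans (orderOf_map_dvd _ _)))
        rw [h3] at h5 ⊢
        have h6 := qf' hcodd (A := H.map (QuotientGroup.mk' E)) (fun a _ q hq => hcn.conj_mem q hq a)
          (hH2.map _) h4 (Subgroup.mul_mem _ h2 (Subgroup.inv_mem _ hhb')) h5
        rw [h6, mul_one]
        exact h4
      · show _ ∈ Subgroup.centralizer (E : Set G)
        rw [Subgroup.mem_centralizer_iff]
        intro x hx
        exact hQE _ hyQ x hx
    apply Cfsg.Agent.H4.Util.mem_normalizer_of_forall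
    intro y hy
    have h1 := hwH y hy
    have h2 := hwc _ h1
    have h3 : g * y * g⁻¹ = w⁻¹ * (g * y * g⁻¹) * w := by
      calc g * y * g⁻¹ = (w * (w⁻¹ * (g * y * g⁻¹) * w) * w⁻¹ * (w⁻¹ * (g * y * g⁻¹) * w)⁻¹) *
            (w⁻¹ * (g * y * g⁻¹) * w) := by group
        _ = w⁻¹ * (g * y * g⁻¹) * w := by rw [h2, one_mul]
    rw [h3]
    exact h1

end Cfsg.Agent.H2.EC
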