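import Mathlib
import Cfsg.Agent.H2_ZJ2
import Cfsg.Agent.H22_Basic

/-! Normal `p`-complement theorems for strongly closed subgroups. -/

set_option autoImplicit false
set_option linter.style.haveILetI false

open Subgroup Cfsg
open scoped commutatorElement Pointwise

universe u

namespace Cfsg.Agent.H2.PFunD

open Cfsg.Agent.H2.Basic Cfsg.Agent.H2.Good Cfsg.Agent.H1.Basic Cfsg.Agent.H2.PFun Cfsg.Agent.H12.ZJ Cfsg.Agent.H2.ZJ2
  Cfsg.Agent.H2.ThompFact

/-- `D` is strongly closed in `P` -/
def SC {G : Type u} [Group G] (P D : Subgroup G) : Prop := D ≤ P ∧ ∀ x ∈ D, ∀ g : G, g * x * g⁻¹ ∈ P → g * x * g⁻¹ ∈ D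

theorem SC.norm {G : Type u} [Group G] [Finite G] {P D : Subgroup G} (h : SC P D) : P ≤ normalizer (D : Set G) :=
  strongly_normalizes h.1 h.2

theorem SC.conj {G : Type u} [Group G] {P D : Subgroup G} (h : SC P D) (g : G) : SC (MulAut.conj g • P) (MulAut.conj g • D) := by
  refine ⟨?_, ?_⟩
  · intro x hx
    rw [mem_conj] at hx ⊢
    exact h.1 hx
  · intro x hx y hy
    rw [mem_conj] at hx hy ⊢
    have e : g⁻¹ * (y * x * y⁻¹) * g = (g⁻¹ * y * g) * (g⁻¹ * x * g) * (g⁻¹ * y * g)⁻¹ := by group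
    rw [e] at hy ⊢
    exact h.2 _ hx _ hy

/-- restriction to a subgroup -/
theorem SC.restrict {G : Type u} [Group G] {P D : Subgroup G} (h : SC P D) (K : Subgroup G) (T : Subgroup K)
    (hT : T.map K.subtype ≤ P) : SC T (D.subgroupOf K ⊓ T) := by
  refine ⟨inf_le_right, ?_⟩
  rintro x hx g hg
  obtain ⟨h1, h2⟩ := mem_inf.1 hx
  exact mem_inf.2 ⟨h.2 x h1 g (hT ⟨_, hg, rfl⟩), hg⟩

variable {p : ℕ} [hp : Fact p.Prime]

theorem npc_N_subtype (F : PF.{u} p) {G : Type u} [Group G] [Finite G] (K : Subgroup G) (T : Subgroup K)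
    (h : HasNormalPComplement p (normalizer (F.W (T.map K.subtype) : Set G))) : HasNormalPComplement p (normalizer (F.W T : Set K)) :=
  npc_Y_subtype F false K T h

theorem npc_of_bot (F : PF.{u} p) {G : Type u} [Group G] [Finite G]
    (h : HasNormalPComplement p (normalizer (F.W (⊥ : Subgroup G) : Set G))) : HasNormalPComplement p G := by
  have h1 : F.W (⊥ : Subgroup G) = ⊥ := le_bot_iff.1 (F.le _)
  rw [h1, normalizer_eq_top] at h
  exact npc_top h

/-- The structure of a minimal counterexample. -/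
theorem engine (F : PF.{u} p)
    (hF : ∀ (G : Type u) [Group G] [Finite G] (P : Sylow p G) (D : Subgroup G), SC (P : Subgroup G) D → IsGood p G →
      centralizer (pCore p G : Set G) ≤ pCore p G →
      HasNormalPComplement p (normalizer (F.W D : Set G)) → HasNormalPComplement p G) (n : ℕ) :
    ∀ (G : Type u) [Group G] [Finite G], Nat.card G = n → ∀ (P : Sylow p G) (D : Subgroup G), SC (P : Subgroup G) D →
      HasNormalPComplement p (normalizer (F.W D : Set G)) → HasNormalPComplement p G := by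
  classical
  induction n using Nat.strong_induction_on with
  | _ n ih =>
  intro G _ _ hn P D hPD hP
  by_contra hG
  have hDb : D ≠ ⊥ := by
    rintro rfl
    exact hG (npc_of_bot F hP)
  have hDP : D ≤ P := hPD.1
  -- heredity
  have hsub : ∀ (K : Subgroup G) (T : Sylow p K) (E : Subgroup K), SC (T : Subgroup K) E → K ≠ ⊤ →
      (HasNormalPComplement p (normalizer (F.W (E.map K.subtype) : Set G))) → HasNormalPComplement p K := by
    intro K T E hTE hK hT
    refine ih _ ?_ K rfl T E hTE (npc_N_subtype F K E hT)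
    rw [← hn]; exact Cfsg.Agent.H2.Card.card_lt_of_ne_top hK
  -- bad subgroups
  let bad : Subgroup G → Prop := fun Q => IsPGroup p Q ∧ Q ≠ ⊥ ∧ ¬ HasNormalPComplement p (normalizer (Q : Set G))
  obtain ⟨Q₀, hQ₀⟩ : ∃ Q, bad Q := by
    by_contra hno
    push Not at hno
    apply hG
    apply npc_local
    intro Q hQ hQ0
    by_contra hnot
    exact hno Q ⟨hQ, hQ0, hnot⟩
  let μ : Subgroup G → ℕ := fun Q => ex p (normalizer (Q : Set G)) * (Nat.card G + 1) + Nat.card Q
  obtain ⟨H, hHbad, hHmax⟩ := Set.Finite.exists_maximalFor μ {Q | bad Q} (Set.toFinite _) ⟨Q₀, hQ₀⟩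
  have hmax : ∀ Q, bad Q → μ Q ≤ μ H := by
    intro Q hQ
    by_contra hlt
    push Not at hlt
    exact absurd (hHmax hQ hlt.le) (not_le.2 hlt)
  have hcardle : ∀ Q : Subgroup G, Nat.card Q ≤ Nat.card G := fun Q => Nat.le_of_dvd Nat.card_pos (card_subgroup_dvd_card Q)
  have hgood1 : ∀ Q : Subgroup G, IsPGroup p Q → Q ≠ ⊥ → ex p (normalizer (H : Set G)) < ex p (normalizer (Q : Set G)) →
      HasNormalPComplement p (normalizer (Q : Set G)) := by
    intro Q hQ hQ0 hlt
    by_contra hnot
    have h1 : ex p (normalizer (Q : Set G)) * (Nat.card G + 1) + Nat.card Q ≤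
      ex p (normalizer (H : Set G)) * (Nat.card G + 1) + Nat.card H := hmax Q ⟨hQ, hQ0, hnot⟩
    have h2 := hcardle H
    have h3 : (ex p (normalizer (H : Set G)) + 1) * (Nat.card G + 1) ≤ ex p (normalizer (Q : Set G)) * (Nat.card G + 1) :=
      Nat.mul_le_mul_right _ hlt
    nlinarith
  have hgood2 : ∀ Q : Subgroup G, IsPGroup p Q → ex p (normalizer (H : Set G)) ≤ ex p (normalizer (Q : Set G)) →
      Nat.card H < Nat.card Q → HasNormalPComplement p (normalizer (Q : Set G)) := by
    intro Q hQ hle hlt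
    have hQ0 : Q ≠ ⊥ := by
      rintro rfl
      rw [card_bot] at hlt
      have : 0 < Nat.card H := Nat.card_pos
      omega
    by_contra hnot
    have h1 : ex p (normalizer (Q : Set G)) * (Nat.card G + 1) + Nat.card Q ≤
      ex p (normalizer (H : Set G)) * (Nat.card G + 1) + Nat.card H := hmax Q ⟨hQ, hQ0, hnot⟩
    have h3 : ex p (normalizer (H : Set G)) * (Nat.card G + 1) ≤ ex p (normalizer (Q : Set G)) * (Nat.card G + 1) :=
      Nat.mul_le_mul_right _ hle
    omega
  obtain ⟨hHp, hH0, hHn⟩ := hHbad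
  -- Step 2: `N(H) = G`
  have hNtop : normalizer (H : Set G) = ⊤ := by
    by_contra hne
    set N := normalizer (H : Set G) with hN
    apply hHn
    obtain ⟨T⟩ : Nonempty (Sylow p N) := inferInstance
    set T' := (T : Subgroup N).map N.subtype with hT'
    have hT'p : IsPGroup p T' := T.isPGroup'.map _
    have hT'c : Nat.card T' = p ^ ex p N := card_sylow_eq T
    have hHT' : H ≤ T' := by
      have h1 : (H.subgroupOf N) ≤ T := by
        haveI : (H.comap N.subtype).Normal := normal_in_normalizer (H := H)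
        exact IsPGroup.le_sylow_of_normal (hHp.comap_of_injective _ N.subtype_injective) T
      calc H = (H.subgroupOf N).map N.subtype := by
            rw [subgroupOf_map_subtype, inf_eq_left.2 le_normalizer]
        _ ≤ T' := map_mono h1
    have hT'0 : T' ≠ ⊥ := fun h => hH0 (le_bot_iff.1 (h ▸ hHT'))
    obtain ⟨P₁, hP₁⟩ := hT'p.exists_le_sylow
    obtain ⟨g, hg⟩ := MulAction.exists_smul_eq G P P₁
    have hP₁c : (P₁ : Subgroup G) = MulAut.conj g • (P : Subgroup G) := by rw [← hg]; rfl
    set D₁ := MulAut.conj g • D with hD₁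
    have hPD₁ : SC (P₁ : Subgroup G) D₁ := by rw [hP₁c]; exact hPD.conj g
    have hD₁b : D₁ ≠ ⊥ := by
      intro hb
      apply hDb
      rw [eq_bot_iff]
      intro x hx
      have h1 : g * x * g⁻¹ ∈ D₁ := by
        rw [hD₁, mem_conj]
        have e : g⁻¹ * (g * x * g⁻¹) * g = x := by group
        rw [e]; exact hx
      rw [hb, mem_bot] at h1
      rw [mem_bot]
      have e : x = g⁻¹ * (g * x * g⁻¹) * g := by group
      rw [e, h1]; group
    -- the strongly closed subgroup of `N`
    set E := D₁.subgroupOf N ⊓ (T : Subgroup N) with hE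
    have hTE : SC (T : Subgroup N) E := hPD₁.restrict N T hP₁
    have hE' : E.map N.subtype = D₁ ⊓ T' := by
      ext x
      constructor
      · rintro ⟨y, hy, rfl⟩
        obtain ⟨h1, h2⟩ := mem_inf.1 hy
        exact mem_inf.2 ⟨h1, ⟨y, h2, rfl⟩⟩
      · intro hx
        obtain ⟨h1, y, hy, rfl⟩ := mem_inf.1 hx
        exact ⟨y, mem_inf.2 ⟨h1, hy⟩, rfl⟩
    -- `T' = P₁ ∩ N`
    have hT'eq : (P₁ : Subgroup G) ⊓ N ≤ T' := by
      have h1 : IsPGroup p ((P₁ : Subgroup G).subgroupOf N) := P₁.isPGroup'.comap_subtype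
      have h2 : (T : Subgroup N) ≤ (P₁ : Subgroup G).subgroupOf N := by
        intro x hx
        exact hP₁ ⟨x, hx, rfl⟩
      have h3 := T.is_maximal' h1 h2
      intro x hx
      obtain ⟨h4, h5⟩ := mem_inf.1 hx
      refine ⟨⟨x, h5⟩, ?_, rfl⟩
      rw [SetLike.mem_coe, ← h3]
      exact h4
    have hE'b : D₁ ⊓ T' ≠ ⊥ := by
      intro hb
      have h1 := inf_centralizer_ne_bot P₁.isPGroup' hPD₁.1 hPD₁.norm hD₁b
      apply h1
      rw [eq_bot_iff, ← hb]
      intro x hx
      obtain ⟨h2, h3⟩ := mem_inf.1 hx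
      refine mem_inf.2 ⟨h2, hT'eq (mem_inf.2 ⟨hPD₁.1 h2, ?_⟩)⟩
      apply centralizer_le_normalizer
      rw [mem_centralizer_iff]
      intro y hy
      exact mem_centralizer_iff.1 h3 y (hP₁ (hHT' hy))
    apply hsub N T E hTE hne
    rw [hE']
    rcases eq_or_lt_of_le hP₁ with heq | hlt
    · have h1 : D₁ ⊓ T' = D₁ := by
        apply inf_eq_left.2
        rw [heq]; exact hPD₁.1
      rw [h1, hD₁, F.conj, normalizer_conj]
      exact npc_smul g hP
    · -- normalizers grow
      have hgrow : ∃ U : Subgroup G, T' < U ∧ U ≤ P₁ ∧ U ≤ normalizer (T' : Set G) := by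
        have := P₁.isPGroup'.isNilpotent
        have h1 : T'.subgroupOf P₁ < ⊤ := by
          rw [lt_top_iff_ne_top]
          intro h
          rw [subgroupOf_eq_top] at h
          exact hlt.not_ge h
        have h2 := (Group.normalizerCondition_of_isNilpotent (G := P₁)) _ h1
        refine ⟨(normalizer ((T'.subgroupOf P₁ : Subgroup P₁) : Set P₁)).map (P₁ : Subgroup G).subtype, ?_, map_subtype_le _, ?_⟩
        · have h3 : T' = (T'.subgroupOf P₁).map (P₁ : Subgroup G).subtype := by
            rw [subgroupOf_map_subtype, inf_eq_left.2 hP₁]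
          rw [h3]
          have h4 : ((T'.subgroupOf P₁).map (P₁ : Subgroup G).subtype).subgroupOf P₁ = T'.subgroupOf P₁ :=
            comap_map_eq_self_of_injective (subtype_injective _) _
          rw [h4]
          exact (map_lt_map_iff_of_injective (subtype_injective _)).2 h2
        · rintro _ ⟨x, hx, rfl⟩
          rw [mem_normalizer_iff]
          intro y
          constructor
          · intro hy
            exact (mem_normalizer_iff.1 hx ⟨y, hP₁ hy⟩).1 hy
          · intro hy
            have hy' : y ∈ P₁ := by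
              have h5 := hP₁ hy
              have h6 := mul_mem (mul_mem (inv_mem x.2) h5) x.2
              have h7 : (x : G)⁻¹ * ((x : G) * y * (x : G)⁻¹) * x = y := by group
              change (x : G)⁻¹ * ((x : G) * y * (x : G)⁻¹) * x ∈ P₁ at h6
              rwa [h7] at h6
            exact (mem_normalizer_iff.1 hx ⟨y, hy'⟩).2 hy
      obtain ⟨U, hTU, hUP, hUN⟩ := hgrow
      obtain ⟨j, hj⟩ := IsPGroup.iff_card.1 (P₁.isPGroup'.to_le hUP)
      have hUE : U ≤ normalizer ((D₁ ⊓ T' : Subgroup G) : Set G) :=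
        (le_inf (hUP.trans hPD₁.norm) hUN).trans inf_normalizer_le_normalizer_inf
      have h1 : j ≤ ex p (normalizer (F.W (D₁ ⊓ T') : Set G)) := ex_le_of_card (hUE.trans (F.normalizer_le _)) hj
      have h2 : ex p N < j := by
        have := Cfsg.Agent.H2.Card.card_lt_of_lt hTU
        rw [hT'c, hj] at this
        exact (Nat.pow_lt_pow_iff_right hp.out.one_lt).1 this
      have hEp : IsPGroup p (D₁ ⊓ T' : Subgroup G) := hT'p.to_le inf_le_right
      exact hgood1 (F.W (D₁ ⊓ T')) (hEp.to_le (F.le _)) (F.ne_bot hEp hE'b) (lt_of_lt_of_le h2 h1)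
  have hHnorm : H.Normal := normalizer_eq_top_iff.1 hNtop
  have hexH : ex p (normalizer (H : Set G)) = ex p (⊤ : Subgroup G) := by rw [hNtop]
  obtain ⟨e, he⟩ := IsPGroup.iff_card.1 P.isPGroup'
  have hexP : ∀ Q : Subgroup G, (P : Subgroup G) ≤ normalizer (Q : Set G) →
      ex p (normalizer (H : Set G)) ≤ ex p (normalizer (Q : Set G)) := by
    intro Q hQ
    rw [hexH]
    have h1 : Nat.card P = p ^ ex p (⊤ : Subgroup G) := by
      rw [ex, card_top]; exact P.card_eq_multiplicity
    exact ex_le_of_card hQ h1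
  -- Step 3: `O_{p'}(G) = 1`
  have hO : pPrimeCore p G = ⊥ := by
    by_contra hne
    have hKn := Cfsg.Agent.H1.Nilp.pPrimeCore_normal (G := G) p
    have hKc := Cfsg.Agent.H1.Nilp.pPrimeCore_coprime (G := G) p
    apply hG
    apply npc_of_quotient_p' (pPrimeCore p G) ((Nat.Prime.coprime_iff_not_dvd hp.out).1 hKc.symm)
    have hlt : Nat.card (G ⧸ pPrimeCore p G) < n := by rw [← hn]; exact Cfsg.Agent.H2.Card.card_quotient_lt hne
    set π := QuotientGroup.mk' (pPrimeCore p G) with hπ
    have hπs : Function.Surjective π := QuotientGroup.mk'_surjective _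
    refine ih _ hlt _ rfl (P.mapSurjective hπs) (D.map π) ⟨map_mono hDP, ?_⟩ ?_
    · rintro _ ⟨x, hx, rfl⟩ g' hg'
      obtain ⟨g, rfl⟩ := hπs g'
      have h1 : π (g * x * g⁻¹) ∈ (P : Subgroup G).map π := by
        rw [map_mul, map_mul, map_inv]; exact hg'
      have h2 : g * x * g⁻¹ ∈ (P : Subgroup G) ⊔ pPrimeCore p G := by
        have : g * x * g⁻¹ ∈ ((P : Subgroup G).map π).comap π := h1
        rwa [comap_map_eq, QuotientGroup.ker_mk'] at this
      have hS := (Cfsg.Agent.H13.Syl.isSylIn_sylow_top P).mono (le_sup_left : (P : Subgroup G) ≤ (P : Subgroup G) ⊔ pPrimeCore p G) le_top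
      have h3 : IsPGroup p (zpowers (g * x * g⁻¹)) := by
        have e : zpowers (g * x * g⁻¹) = (zpowers x).map (MulAut.conj g).toMonoidHom := by
          rw [MonoidHom.map_zpowers]; rfl
        rw [e]
        exact (P.isPGroup'.to_le (zpowers_le.2 (hDP hx))).map _
      obtain ⟨y, hy, hyP⟩ := hS.exists_conj_le h3 (zpowers_le.2 h2)
      obtain ⟨u, hu, o, ho, huo⟩ := (Cfsg.Agent.H22.Basic.mem_sup_of_le_normalizer' (N := pPrimeCore p G) (K := (P : Subgroup G))
        (by rw [normalizer_eq_top]; exact le_top)).1 (by rw [sup_comm]; exact hy)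
      have h4 : y * (g * x * g⁻¹) * y⁻¹ ∈ (P : Subgroup G) := hyP (Cfsg.Agent.H13.Syl.conj_mem_cj (mem_zpowers _))
      have h5 : o * (g * x * g⁻¹) * o⁻¹ ∈ (P : Subgroup G) := by
        have := mul_mem (mul_mem (inv_mem hu) h4) hu
        have e : u⁻¹ * (y * (g * x * g⁻¹) * y⁻¹) * u = o * (g * x * g⁻¹) * o⁻¹ := by rw [← huo]; group
        rwa [e] at this
      have h6 : o * g * x * (o * g)⁻¹ ∈ D := by
        apply hPD.2 x hx
        have e : o * g * x * (o * g)⁻¹ = o * (g * x * g⁻¹) * o⁻¹ := by group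
        rw [e]; exact h5
      refine ⟨_, h6, ?_⟩
      have ho1 : π o = 1 := (QuotientGroup.eq_one_iff o).2 ho
      rw [map_mul, map_mul, map_mul, map_inv, map_mul, ho1, one_mul]
    · exact npc_of_map _ (F.Y_quotient false (pPrimeCore p G) hKc (P.isPGroup'.to_le hDP)) hP
  -- Step 4: `H = O_p(G)`
  have hHO : H = pCore p G := by
    have hle : H ≤ pCore p G := Cfsg.Agent.H1.Nilp.le_pCore hHnorm hHp
    by_contra hne
    have hlt := Cfsg.Agent.H2.Card.card_lt_of_lt (lt_of_le_of_ne hle hne)
    have hOn : (pCore p G).Normal := Cfsg.Agent.H1.Nilp.pCore_normal p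
    have h1 := hgood2 (pCore p G) (Cfsg.Agent.H1.Nilp.pCore_isPGroup p)
      (hexP _ (by rw [normalizer_eq_top]; exact le_top)) hlt
    rw [normalizer_eq_top] at h1
    exact hG (npc_top h1)
  have hHP : H ≤ P := hHp.le_sylow_of_normal P
  -- Step 5
  have hDH : ¬ D ≤ H := by
    intro hle
    have hDn : D.Normal := ⟨fun x hx g => hPD.2 x hx g (hHP (hHnorm.conj_mem x (hle hx) g))⟩
    have h2 : normalizer (F.W D : Set G) = ⊤ := by
      rw [eq_top_iff]
      refine le_trans ?_ (F.normalizer_le _)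
      rw [normalizer_eq_top]
    rw [h2] at hP
    exact hG (npc_top hP)
  set π := QuotientGroup.mk' H with hπ
  have hπs : Function.Surjective π := QuotientGroup.mk'_surjective H
  have hπk : π.ker = H := QuotientGroup.ker_mk' H
  have hnpcQ : HasNormalPComplement p (G ⧸ H) := by
    have hlt : Nat.card (G ⧸ H) < n := by rw [← hn]; exact Cfsg.Agent.H2.Card.card_quotient_lt hH0
    set P' : Sylow p (G ⧸ H) := P.mapSurjective hπs with hP'
    set D' := D.map π with hD'
    have hD'0 : D' ≠ ⊥ := by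
      intro h
      rw [hD', Subgroup.map_eq_bot_iff, hπk] at h
      exact hDH h
    have hPD' : SC (P' : Subgroup (G ⧸ H)) D' := by
      refine ⟨map_mono hDP, ?_⟩
      rintro _ ⟨x, hx, rfl⟩ g' hg'
      obtain ⟨g, rfl⟩ := hπs g'
      have h1 : π (g * x * g⁻¹) ∈ (P : Subgroup G).map π := by
        rw [map_mul, map_mul, map_inv]; exact hg'
      have h2 : g * x * g⁻¹ ∈ (P : Subgroup G) := by
        have : g * x * g⁻¹ ∈ ((P : Subgroup G).map π).comap π := h1
        rwa [comap_map_eq, hπk, sup_eq_left.2 hHP] at this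
      exact ⟨_, hPD.2 x hx g h2, by rw [map_mul, map_mul, map_inv]⟩
    refine ih _ hlt _ rfl P' D' hPD' ?_
    have hD'p : IsPGroup p D' := P'.isPGroup'.to_le hPD'.1
    have hW0 := F.ne_bot hD'p hD'0
    have hWp : IsPGroup p (F.W D') := hD'p.to_le (F.le _)
    set R := (F.W D').comap π with hR
    have hRp : IsPGroup p R := hWp.comap_of_ker_isPGroup π (by rw [hπk]; exact hHp)
    have hHR : H < R := by
      have h1 : H ≤ R := by rw [← hπk]; exact π.ker_le_comap _
      refine lt_of_le_of_ne h1 ?_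
      intro heq
      apply hW0
      rw [eq_bot_iff]
      intro y hy
      obtain ⟨x, rfl⟩ := hπs y
      have h2 : x ∈ R := hy
      rw [← heq, ← hπk] at h2
      exact h2
    have hPR : (P : Subgroup G) ≤ normalizer (R : Set G) := by
      intro x hx
      have h1 : π x ∈ normalizer (F.W D' : Set (G ⧸ H)) :=
        F.normalizer_le _ (hPD'.norm (mem_map_of_mem π hx))
      rw [mem_normalizer_iff]
      intro y
      rw [hR, mem_comap, mem_comap, map_mul, map_mul, map_inv]
      exact (mem_normalizer_iff.1 h1) (π y)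
    have h1 := hgood2 R hRp (hexP R hPR) (Cfsg.Agent.H2.Card.card_lt_of_lt hHR)
    refine npc_of_map π (X := normalizer (R : Set G)) ?_ h1
    intro y hy
    obtain ⟨x, rfl⟩ := hπs y
    refine ⟨x, ?_, rfl⟩
    change x ∈ normalizer (R : Set G)
    rw [mem_normalizer_iff]
    intro z
    rw [hR, mem_comap, mem_comap, map_mul, map_mul, map_inv]
    exact (mem_normalizer_iff.1 hy) (π z)
  -- Step 6
  obtain ⟨K, hKn, hKp, k, hk⟩ := npc_iff.1 hnpcQ
  have hKcop : (Nat.card K).Coprime p := ((Nat.Prime.coprime_iff_not_dvd hp.out).2 hKp).symm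
  have hsolv : IsPSolvable p G := by
    obtain ⟨j, hj⟩ := IsPGroup.iff_card.1 hHp
    apply Cfsg.Agent.H22.PSolv.isPSolvable_of_quotient H (Or.inl ⟨j, hj⟩)
    apply Cfsg.Agent.H22.PSolv.isPSolvable_of_quotient K (Or.inr hKcop)
    apply Cfsg.Agent.H22.PSolv.isPSolvable_of_fac
    exact Or.inl ⟨k, by rw [← hk, Subgroup.index_eq_card]⟩
  have hcent : centralizer (pCore p G : Set G) ≤ pCore p G := Cfsg.Agent.H22.PSolv.centralizer_pCore_le hsolv hO
  have hcentH : centralizer (H : Set G) ≤ H := by rw [hHO]; exact hcent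
  -- Step 7
  have hmaxl : ∀ X : Subgroup G, (P : Subgroup G) ≤ X → X = P ∨ X = ⊤ := by
    intro X hPX
    by_cases hX : X = ⊤
    · exact Or.inr hX
    left
    have h1 : HasNormalPComplement p X := by
      have hT : ((P.subtype hPX : Sylow p X) : Subgroup X).map X.subtype = P := by
        rw [Sylow.coe_subtype, subgroupOf_map_subtype, inf_eq_left.2 hPX]
      apply hsub X (P.subtype hPX) _ (hPD.restrict X (P.subtype hPX : Sylow p X) hT.le) hX
      have h2 : (D.subgroupOf X ⊓ ((P.subtype hPX : Sylow p X) : Subgroup X)).map X.subtype = D := by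
        ext x
        constructor
        · rintro ⟨y, hy, rfl⟩
          exact (mem_inf.1 hy).1
        · intro hx
          exact ⟨⟨x, hPX (hDP hx)⟩, mem_inf.2 ⟨hx, hDP hx⟩, rfl⟩
      rw [h2]
      exact hP
    obtain ⟨D, hDn, hDp, j, hj⟩ := npc_iff.1 h1
    have hHX : H ≤ X := hHP.trans hPX
    have hHn' : (H.subgroupOf X).Normal := hHnorm.subgroupOf X
    have hDcop : (Nat.card D).Coprime p := ((Nat.Prime.coprime_iff_not_dvd hp.out).2 hDp).symm
    have hdisj : Disjoint D (H.subgroupOf X) := by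
      apply disjoint_of_coprime_natCard
      obtain ⟨i, hi⟩ := IsPGroup.iff_card.1 (hHp.comap_of_injective X.subtype X.subtype_injective)
      have : Nat.card (H.subgroupOf X) = p ^ i := hi
      rw [this]
      exact hDcop.pow_right i
    have hD0 : D = ⊥ := by
      have h2 := Subgroup.commutator_eq_bot_of_disjoint hdisj
      have h3 : D ≤ H.subgroupOf X := by
        intro d hd
        apply hcentH
        rw [mem_centralizer_iff]
        intro x hx
        have h4 : ⁅d, (⟨x, hHX hx⟩ : X)⁆ = 1 := by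
          rw [← mem_bot, ← h2]
          exact commutator_mem_commutator hd hx
        rw [commutatorElement_eq_one_iff_mul_comm] at h4
        exact (congrArg Subtype.val h4).symm
      rw [eq_bot_iff]
      exact (disjoint_iff.1 hdisj) ▸ le_inf le_rfl h3
    rw [hD0, index_bot] at hj
    have hXp : IsPGroup p X := IsPGroup.iff_card.2 ⟨j, hj⟩
    exact (P.is_maximal' hXp hPX)
  -- Step 8
  set P' : Sylow p (G ⧸ H) := P.mapSurjective hπs with hP'
  have hmaxQ : ∀ X : Subgroup (G ⧸ H), (P' : Subgroup (G ⧸ H)) ≤ X → X = P' ∨ X = ⊤ := by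
    intro X hX
    have h1 : (P : Subgroup G) ≤ X.comap π := by
      rw [← map_le_iff_le_comap]; exact hX
    rcases hmaxl _ h1 with h | h
    · left
      have h2 : X = (X.comap π).map π := (map_comap_eq_self_of_surjective hπs X).symm
      rw [h2, h]; rfl
    · right
      have h2 : X = (X.comap π).map π := (map_comap_eq_self_of_surjective hπs X).symm
      rw [h2, h, ← MonoidHom.range_eq_map, MonoidHom.range_eq_top.2 hπs]
  have hK0 : K ≠ ⊥ := by
    intro h
    rw [h, index_bot] at hk
    apply hG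
    apply npc_of_isPGroup
    obtain ⟨j, hj⟩ := IsPGroup.iff_card.1 hHp
    rw [IsPGroup.iff_card]
    exact ⟨j + k, by rw [← H.card_mul_index, hj, Subgroup.index_eq_card, hk, pow_add]⟩
  obtain ⟨m, hm⟩ := IsPGroup.iff_card.1 P'.isPGroup'
  have hcopPK : (Nat.card P').Coprime (Nat.card K) := by
    rw [hm]; exact (hKcop.pow_right m).symm
  have hfull : ∀ D : Subgroup (G ⧸ H), D ≤ K → (P' : Subgroup (G ⧸ H)) ≤ normalizer (D : Set (G ⧸ H)) → D ≠ ⊥ → D = K := by
    intro D hDK hPD hD0
    have hcopD : (Nat.card P').Coprime (Nat.card D) := hcopPK.coprime_dvd_right (card_dvd_of_le hDK)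
    have hdis : (P' : Subgroup (G ⧸ H)) ⊓ D = ⊥ := disjoint_iff.1 (disjoint_of_coprime_natCard hcopD)
    rcases hmaxQ ((P' : Subgroup (G ⧸ H)) ⊔ D) le_sup_left with h | h
    · exfalso
      apply hD0
      rw [← hdis, right_eq_inf, ← h]
      exact le_sup_right
    · have h1 := Cfsg.Agent.H2.Card.card_sup_mul_card_inf hPD
      rw [h, hdis, card_top, card_bot, mul_one] at h1
      have h2 : Nat.card K ∣ Nat.card P' * Nat.card D := h1 ▸ card_subgroup_dvd_card K
      have h3 : Nat.card K ∣ Nat.card D := hcopPK.symm.dvd_of_dvd_mul_left h2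
      exact eq_of_le_of_card_ge hDK (Nat.le_of_dvd Nat.card_pos h3)
  have hKab : ⁅K, K⁆ = ⊥ := by
    by_contra hne
    -- `K` is a `q`-group
    have hK1 : Nat.card K ≠ 1 := fun h => hK0 (card_eq_one.1 h)
    set q := (Nat.card K).minFac with hq
    haveI hqp : Fact q.Prime := ⟨Nat.minFac_prime hK1⟩
    obtain ⟨Q, hQ⟩ := Cfsg.Agent.H1.Coprime.invariant_sylow_exists (P' : Subgroup (G ⧸ H)) K
      (by rw [normalizer_eq_top]; exact le_top) hcopPK (Or.inl (by
        have := P'.isPGroup'.isNilpotent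
        infer_instance)) q
    have hQ0 : (Q : Subgroup K).map K.subtype ≠ ⊥ := by
      intro h
      have h1 : Nat.card ((Q : Subgroup K).map K.subtype) = 1 := by rw [h, card_bot]
      rw [card_map_of_injective K.subtype_injective] at h1
      have h2 : q ∣ (Q : Subgroup K).index := by
        have := (Q : Subgroup K).card_mul_index
        rw [h1, one_mul] at this
        rw [this]; exact Nat.minFac_dvd _
      exact Q.not_dvd_index h2
    have hQK := hfull _ (map_subtype_le _) hQ hQ0
    have hKq : IsPGroup q K := by rw [← hQK]; exact Q.isPGroup'.map _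
    have hKnil : Group.IsNilpotent K := hKq.isNilpotent
    have h1 := hfull ⁅K, K⁆ (commutator_le_left K K) (by rw [normalizer_eq_top]; exact le_top) hne
    have hKs : Group.IsSolvable K := inferInstance
    exact hK0 (Cfsg.Agent.H12.BG6.eq_bot_of_le_commutator hKs h1.ge)
  -- Step 9
  apply hG
  apply hF G P D hPD ?_ hcent hP
  exact isGood_of_surj π hπs (by rw [hπk]; exact hHp) K hKab hKcop hk

/-- the functor `Ω₁ZJ` -/
def ozjF (p n : ℕ) [hp : Fact p.Prime] (hn : p ∣ n) : PF.{u} p where
  W := fun T => omegaOne p (ZJJ n T)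
  le := fun T => (omegaOne_le _).trans (ZJJ_le n T)
  ne_bot := fun hT h => omegaOne_ne_bot (hT.to_le (ZJJ_le n _)) (ZJJ_ne_bot hn hT h)
  map := fun f T hf => by
    rw [ZJJ_map f hf]
    apply omegaOne_map
    intro x y hxy
    exact Subtype.ext (hf (ZJJ_le n T x.2) (ZJJ_le n T y.2) hxy)

theorem zjj_normal {G : Type u} [Group G] [Finite G] (hp2 : p ≠ 2) {n : ℕ} (hn : n = 0 ∨ n = p) (hG : IsGood p G)
    (hc : centralizer (pCore p G : Set G) ≤ pCore p G) (S : Sylow p G) (D : Subgroup G) (hD : SC (S : Subgroup G) D) :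
    (ZJJ n D).Normal := by
  have hn1 : n ∣ n * (n - 1) / 2 := by
    rcases hn with rfl | rfl
    · exact dvd_zero_aux
    · exact dvd_p_aux hp.out hp2
  have hn2 : p ∣ n := by
    rcases hn with rfl | rfl
    · exact dvd_zero p
    · exact dvd_rfl
  refine zj_normal hp2 hn1 hn2 (S := (S : Subgroup G)) (D := D) ?_ hD.1 hD.2 ?_ hc
  · exact Cfsg.Agent.H13.Syl.isSylIn_sylow_top S
  · intro B hB hBp A hAS hAc hBA a ha
    have h1 : ⁅⁅B, zpowers a⁆, zpowers a⁆ = ⊥ := by
      have haA : zpowers a ≤ A := by rw [zpowers_le]; exact ha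
      have h2 : ⁅B, zpowers a⁆ ≤ A := by
        rw [commutator_le]
        intro b hb x hx
        rw [commutatorElement_def]
        exact mul_mem ((mem_normalizer_iff.1 (hBA hb) x).1 (haA hx)) (inv_mem (haA hx))
      rw [eq_bot_iff, commutator_le]
      intro x hx y hy
      rw [mem_bot, commutatorElement_eq_one_iff_mul_comm]
      exact hAc x (h2 hx) y (haA hy)
    exact hG.stable hp2 hBp h1

theorem main {G : Type u} [Group G] [Finite G] (hp2 : p ≠ 2) (P : Sylow p G) (D : Subgroup G)
    (hD : Cfsg.IsStronglyClosed D (P : Subgroup G))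
    (h : Cfsg.HasNormalPComplement p ↥(Subgroup.normalizer ((Cfsg.centerThompsonAOf D) : Set G)) ∨
      Cfsg.HasNormalPComplement p ↥(Subgroup.normalizer ((Cfsg.omegaOne p (Cfsg.centerThompsonOf p D)) : Set G))) :
    Cfsg.HasNormalPComplement p G := by
  have hSC : SC (P : Subgroup G) D := hD
  rcases h with h | h
  · rw [← ZJJ_zero] at h
    refine engine (zjF p 0 (dvd_zero p)) ?_ _ G rfl P D hSC h
    intro G _ _ P D hPD hG hc hP
    have h1 := zjj_normal hp2 (Or.inl rfl) hG hc P D hPD
    change HasNormalPComplement p (normalizer (ZJJ 0 D : Set G)) at hP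
    rw [normalizer_eq_top] at hP
    exact npc_top hP
  · rw [← ZJJ_p] at h
    refine engine (ozjF p p dvd_rfl) ?_ _ G rfl P D hSC h
    intro G _ _ P D hPD hG hc hP
    have h1 := zjj_normal hp2 (Or.inr rfl) hG hc P D hPD
    have h2 : (omegaOne p (ZJJ p D)).Normal := omegaOne_normal h1
    change HasNormalPComplement p (normalizer (omegaOne p (ZJJ p D) : Set G)) at hP
    rw [normalizer_eq_top] at hP
    exact npc_top hP

end Cfsg.Agent.H2.PFunD
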