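import Mathlib
import Cfsg.Prelude
import Cfsg.Agent.H2_Glaub
import Cfsg.Agent.H2_ThompFact
import Cfsg.Agent.S0649

/-! Glauberman's replacement theorem with exponents and ranks. -/

set_option autoImplicit false
set_option linter.unusedSectionVars false
set_option linter.style.haveILetI false

open Subgroup Cfsg
open scoped commutatorElement

universe u

namespace Cfsg.Agent.H2.Repl

open Cfsg.Agent.H2.Glaub Cfsg.Agent.H2.Card Cfsg.Agent.H2.ThompFact

variable {S : Type u} [Group S] [Finite S] {A B : Subgroup S}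

theorem xi_pow {p : ℕ} [hp : Fact p.Prime] (hp2 : p ≠ 2) (hA : IsMulCommutative A) {b : S}
    (hbN : b ∈ normalizer ((normalizer (A : Set S) : Subgroup S) : Set S)) {a : S} (ha : a ∈ A) (hap : a ^ p = 1) :
    (xi b a) ^ p = 1 := by
  rw [xi_eq]
  set v := b⁻¹ * a⁻¹ * b with hv
  have hvb : b * v * b⁻¹ ∈ A := conj_mem ha
  have h3 : ⁅v, a⁆ ∈ D A b := by
    have h4 := (D A b).inv_mem (comm_mem_D hbN ha hvb)
    have e : (a * v * a⁻¹ * v⁻¹)⁻¹ = ⁅v, a⁆ := by rw [commutatorElement_def]; group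
    rwa [e] at h4
  have h5 : Commute a ⁅v, a⁆ := (D_comm_A hA h3 ha).symm
  have h6 : Commute v ⁅v, a⁆ := (D_comm_Ab hA h3 hvb).symm
  rw [Cfsg.Agent.H2.Alperin.mul_pow_local h5 h6, hap]
  have h7 : v ^ p = 1 := by
    have e : v = b⁻¹ * a⁻¹ * b⁻¹⁻¹ := by rw [hv, inv_inv]
    rw [e, conj_pow, inv_pow, hap]; group
  have h8 : ⁅v, a⁆ ^ p = 1 := by
    have h9 : (v * a * v⁻¹) ^ p = 1 := by rw [conj_pow, hap]; group
    have e : v * a * v⁻¹ = ⁅v, a⁆ * a := by rw [commutatorElement_def]; group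
    rw [e, h5.symm.mul_pow, hap, mul_one] at h9
    exact h9
  have h10 : p ∣ p.choose 2 := by
    have := Cfsg.Agent.H2.Alperin.dvd_choose_of_odd (n := 1) hp.out hp2
    simpa using this
  rw [h7, Cfsg.Agent.H2.Alperin.pow_eq_one_of_dvd h10 h8, mul_one, mul_one]

theorem rank_le {p : ℕ} [hp : Fact p.Prime] (hp2 : p ≠ 2) (hS : IsPGroup p S) (hBn : B.Normal) (hA : IsMulCommutative A)
    (hBA : ⁅B, B⁆ ≤ A) {b : S} (hb : b ∈ B)
    (hbN : b ∈ normalizer ((normalizer (A : Set S) : Subgroup S) : Set S)) :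
    Nat.card (omegaOne p A) ≤ Nat.card (omegaOne p (R A b)) := by
  have hAc : ∀ x ∈ A, ∀ y ∈ A, x * y = y * x := fun x hx y hy => cA hA hx hy
  have hRcomm := R_comm hBn hA hBA hb hbN hS (fun h => absurd h hp2)
  have hRc : ∀ x ∈ R A b, ∀ y ∈ R A b, x * y = y * x := fun x hx y hy => congrArg Subtype.val (hRcomm.is_comm.comm ⟨x, hx⟩ ⟨y, hy⟩)
  set E := omegaOne p A with hE
  set F := omegaOne p (R A b) with hF
  set D₀ := D A b ⊓ E with hD₀
  have hDE : D₀ ≤ E := inf_le_right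
  have hDF : D₀ ≤ F := by
    intro x hx
    obtain ⟨h1, h2⟩ := mem_inf.1 hx
    exact mem_omegaOne (mem_sup_left h1) ((mem_omegaOne_of_comm hAc).1 h2).2
  have hxF : ∀ a ∈ E, xi b a ∈ F := by
    intro a ha
    obtain ⟨h1, h2⟩ := (mem_omegaOne_of_comm hAc).1 ha
    exact mem_omegaOne (mem_sup_right (xi_mem_X h1)) (xi_pow hp2 hA hbN h1 h2)
  let f : E ⧸ D₀.subgroupOf E → F ⧸ D₀.subgroupOf F := fun q =>
    QuotientGroup.mk ⟨xi b (q.out : S), hxF _ (q.out : E).2⟩
  have hf : Function.Injective f := by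
    intro q q' h
    have h1 : (xi b (q.out : S))⁻¹ * xi b (q'.out : S) ∈ D₀ := by
      have := QuotientGroup.eq.1 h
      exact this
    rw [← QuotientGroup.out_eq' q, ← QuotientGroup.out_eq' q', QuotientGroup.eq, mem_subgroupOf]
    have h2 : ((q.out : E) : S) ∈ A := omegaOne_le A (q.out : E).2
    have h3 : ((q'.out : E) : S) ∈ A := omegaOne_le A (q'.out : E).2
    refine mem_inf.2 ⟨(xi_inv_mul_mem_iff hBn hBA hb hbN h2 h3).1 (mem_inf.1 h1).1, ?_⟩
    exact mul_mem (inv_mem (q.out : E).2) (q'.out : E).2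
  have h1 : D₀.relIndex E ≤ D₀.relIndex F := Nat.card_le_card_of_injective f hf
  rw [← card_mul_relIndex hDE, ← card_mul_relIndex hDF]
  exact Nat.mul_le_mul_left _ h1

theorem main {G : Type u} [Group G] [Finite G] {p : ℕ} [hpf : Fact p.Prime] (hp : p ≠ 2) (hG : IsPGroup p G) (A B : Subgroup G) (hA : IsMulCommutative A)
    (hBA : ⁅B, B⁆ ≤ A) (hAB : A ≤ Subgroup.normalizer (B : Set G)) (hBnA : ¬ B ≤ Subgroup.normalizer (A : Set G)) :
    ∃ Astar : Subgroup G, IsMulCommutative Astar ∧ Nat.card Astar = Nat.card A ∧ A ⊓ B < Astar ⊓ B ∧ Astar ≤ Subgroup.normalizer (A : Set G) ∧ Astar ≤ Subgroup.normalClosure (A : Set G) ∧ Monoid.exponent Astar ∣ Monoid.exponent A ∧ Nat.card (Cfsg.omegaOne p A) ≤ Nat.card (Cfsg.omegaOne p Astar) := by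
  set S := A ⊔ B with hS
  have hAS : A ≤ S := le_sup_left
  have hBS : B ≤ S := le_sup_right
  have hSp : IsPGroup p S := hG.to_subgroup S
  set A' := A.subgroupOf S with hA'
  set B' := B.subgroupOf S with hB'
  have hAm : A'.map S.subtype = A := map_subgroupOf_eq_of_le hAS
  have hBm : B'.map S.subtype = B := map_subgroupOf_eq_of_le hBS
  have hBn : B'.Normal := normal_subgroupOf_of_le_normalizer (sup_le hAB le_normalizer)
  have hA'c : IsMulCommutative A' := ⟨⟨fun x y => by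
    have := congrArg Subtype.val (hA.is_comm.comm (⟨((x : S) : G), x.2⟩ : A) ⟨((y : S) : G), y.2⟩)
    exact Subtype.ext (Subtype.ext this)⟩⟩
  have hBA' : ⁅B', B'⁆ ≤ A' := by
    rw [commutator_le]
    intro x hx y hy
    exact hBA (commutator_mem_commutator hx hy)
  have hnot' : ¬ B' ≤ normalizer ((A' : Subgroup S) : Set S) := by
    intro h
    apply hBnA
    intro x hx
    apply mem_normalizer_fintype
    intro a ha
    have h1 := h (show (⟨x, hBS hx⟩ : S) ∈ B' from hx)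
    exact (mem_normalizer_iff.1 h1 ⟨a, hAS ha⟩).1 ha
  have hB2 : p = 2 → IsMulCommutative B' := fun h => absurd h hp
  obtain ⟨b, hb, hbN, hbA⟩ := Cfsg.Agent.S0649.result hSp B' hB2 _ hA'c hBA' hnot'
  have h1 := R_comm hBn hA'c hBA' hb hbN hSp hB2
  have h2 := Cfsg.Agent.H2.Glaub.card_R hBn hA'c hBA' hb hbN
  have h3 := Cfsg.Agent.H2.Glaub.exponent_R hBn hA'c hBA' hb hbN hSp hB2 hp
  have h4 := Cfsg.Agent.H2.Glaub.inf_lt hBn hA'c hBA' hb hbN hbA
  have h5 := rank_le hp hSp hBn hA'c hBA' hb hbN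
  have h6 := R_le_N hA'c hbN
  set R := Cfsg.Agent.H2.Glaub.R A' b with hR
  have hinf : ∀ K : Subgroup S, K.map S.subtype ⊓ B = (K ⊓ B').map S.subtype := by
    intro K
    ext x
    constructor
    · rintro ⟨⟨y, hy, rfl⟩, hB⟩
      exact ⟨y, ⟨hy, hB⟩, rfl⟩
    · rintro ⟨y, ⟨hy, hB⟩, rfl⟩
      exact ⟨⟨y, hy, rfl⟩, hB⟩
  have hexp : ∀ K : Subgroup S, Monoid.exponent (K.map S.subtype) = Monoid.exponent K := by
    intro K
    exact (Monoid.exponent_eq_of_mulEquiv (K.equivMapOfInjective S.subtype S.subtype_injective)).symm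
  have hom : ∀ K : Subgroup S, Nat.card (omegaOne p (K.map S.subtype)) = Nat.card (omegaOne p K) := by
    intro K
    rw [omegaOne_map S.subtype K (S.subtype_injective.comp K.subtype_injective),
      card_map_of_injective S.subtype_injective]
  have e1 : Nat.card (A'.map S.subtype) = Nat.card A' := card_map_of_injective S.subtype_injective
  rw [hAm] at e1
  have e2 := hexp A'
  rw [hAm] at e2
  have e3 := hom A'
  rw [hAm] at e3
  refine ⟨R.map S.subtype, ?_, ?_, ?_, ?_, ?_, ?_, ?_⟩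
  · refine ⟨⟨?_⟩⟩
    rintro ⟨_, x, hx, rfl⟩ ⟨_, y, hy, rfl⟩
    apply Subtype.ext
    exact congrArg (fun z : R => ((z : S) : G)) (h1.is_comm.comm ⟨x, hx⟩ ⟨y, hy⟩)
  · rw [card_map_of_injective S.subtype_injective, h2, e1]
  · have e : A ⊓ B = (A' ⊓ B').map S.subtype := by rw [← hinf, hAm]
    rw [e, hinf]
    exact (map_lt_map_iff_of_injective S.subtype_injective).2 h4
  · rintro _ ⟨x, hx, rfl⟩
    apply mem_normalizer_fintype
    intro a ha
    exact (mem_normalizer_iff.1 (h6 hx) ⟨a, hAS ha⟩).1 ha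
  · rw [map_le_iff_le_comap]
    have hNn : (normalClosure (A : Set G)).Normal := normalClosure_normal
    exact R_le (D := (normalClosure (A : Set G)).comap S.subtype) (hNn.comap _) (fun x hx => subset_normalClosure (show (x : G) ∈ A from hx)) b
  · rw [hexp, e2]
    exact h3
  · rw [hom, e3]
    exact h5

end Cfsg.Agent.H2.Repl
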