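import Mathlib
import Cfsg.Agent.H2_EC3
import Cfsg.Agent.H11_FStar
import Cfsg.Prelude.Def_SubgroupEmbedding
import Cfsg.Prelude.Def_Local

set_option autoImplicit false
open Cfsg

namespace Cfsg.Agent.H2.SP

open Cfsg.Agent.H2.EC

universe u

section
variable {G : Type u} [Group G]

theorem sup_decomp {U N : Subgroup G} (hUN : ∀ u ∈ U, ∀ n ∈ N, u * n * u⁻¹ ∈ N) {x : G}
    (hx : x ∈ U ⊔ N) : ∃ n ∈ N, ∃ u ∈ U, x = n * u := by
  let K : Subgroup G :=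
    { carrier := {x | ∃ n ∈ N, ∃ u ∈ U, x = n * u}
      mul_mem' := by
        rintro _ _ ⟨n, hn, u, hu, rfl⟩ ⟨n', hn', u', hu', rfl⟩
        exact ⟨n * (u * n' * u⁻¹), N.mul_mem hn (hUN u hu n' hn'), u * u', U.mul_mem hu hu', by group⟩
      one_mem' := ⟨1, N.one_mem, 1, U.one_mem, by simp⟩
      inv_mem' := by
        rintro _ ⟨n, hn, u, hu, rfl⟩
        refine ⟨u⁻¹ * n⁻¹ * u, ?_, u⁻¹, U.inv_mem hu, by group⟩
        have h1 := hUN u⁻¹ (U.inv_mem hu) n⁻¹ (N.inv_mem hn)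
        rwa [inv_inv] at h1 }
  have h1 : U ⊔ N ≤ K := sup_le (fun u hu => ⟨1, N.one_mem, u, hu, by simp⟩)
    (fun n hn => ⟨n, hn, 1, U.one_mem, by simp⟩)
  exact h1 hx

theorem odd_mem {U N : Subgroup G} (hU : ∀ u ∈ U, u * u = 1)
    (hUN : ∀ u ∈ U, ∀ n ∈ N, u * n * u⁻¹ ∈ N) {x : G}
    (hx : x ∈ U ⊔ N) (ho : Odd (orderOf x)) : x ∈ N := by
  obtain ⟨n, hn, u, hu, rfl⟩ := sup_decomp hUN hx
  have key : ∀ k : ℕ, (n * u) ^ k * (u ^ k)⁻¹ ∈ N := by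
    intro k
    induction k with
    | zero => simp
    | succ k ih =>
      have h1 : (n * u) ^ (k + 1) * (u ^ (k + 1))⁻¹ =
          ((n * u) ^ k * (u ^ k)⁻¹) * (u ^ k * n * (u ^ k)⁻¹) := by
        rw [pow_succ, pow_succ u k]
        group
      rw [h1]
      exact N.mul_mem ih (hUN _ (U.pow_mem hu k) _ hn)
  obtain ⟨k, hk⟩ := ho
  have h1 := key (orderOf (n * u))
  rw [pow_orderOf_eq_one, one_mul, hk, pow_succ, pow_mul, sq, hU u hu, one_pow, one_mul,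
    N.inv_mem_iff] at h1
  exact N.mul_mem hn h1

/-- the induction hypothesis -/
def MinG (G : Type u) [Group G] : Prop :=
  ∀ (H : Type u) [Group H] [Finite H] (W : Subgroup H), Nat.card H < Nat.card G →
    Cfsg.IsElementaryAbelian 2 W → W ≠ ⊥ → Cfsg.IsSidkiPair W → W ⊓ Cfsg.pCore 2 H ≠ ⊥

theorem el_iff {W : Subgroup G} (h : ∀ x ∈ W, x * x = 1) : Cfsg.IsElementaryAbelian 2 W := by
  refine ⟨⟨⟨fun a b => Subtype.ext (comm_of_el h a.2 b.2)⟩⟩, fun a ha => ?_⟩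
  rw [sq]; exact h a ha

variable [Finite G]

theorem ind_sub (hmin : MinG G) {M W : Subgroup G} (hM : M ≠ ⊤) (hWM : W ≤ M)
    (hW : ∀ x ∈ W, x * x = 1) (hW1 : W ≠ ⊥)
    (hS : ∀ h ∈ M, ∀ v ∈ W, Odd (orderOf h) → v * h * v⁻¹ = h⁻¹ → ∃ w ∈ W, w ≠ 1 ∧ w * h = h * w) :
    ∃ x ∈ W, x ≠ 1 ∧ x ∈ (pCore 2 ↥M).map M.subtype := by
  have h1 : Nat.card ↥M < Nat.card G :=
    Cfsg.Agent.H11.Cores.card_lt_of_lt_top (lt_top_iff_ne_top.2 hM)
  have h2 := hmin ↥M (W.subgroupOf M) h1 (el_iff (fun x hx => Subtype.ext (hW x hx)))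
    (fun h => hW1 (by
      rw [eq_bot_iff]
      intro x hx
      have h3 : (⟨x, hWM hx⟩ : ↥M) ∈ W.subgroupOf M := hx
      rw [h, Subgroup.mem_bot] at h3
      exact congrArg Subtype.val h3))
    (by
      intro h v hv ho hinv
      obtain ⟨w, hw, hw1, hwc⟩ := hS h h.2 v hv (by rwa [Subgroup.orderOf_coe])
        (congrArg Subtype.val hinv)
      exact ⟨⟨w, hWM hw⟩, hw, fun h => hw1 (congrArg Subtype.val h), Subtype.ext hwc⟩)
  obtain ⟨y, hy⟩ := Subgroup.ne_bot_iff_exists_ne_one.1 h2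
  obtain ⟨x, hx⟩ := y
  exact ⟨x, hx.1, fun h => hy (Subtype.ext (Subtype.ext h)), ⟨x, hx.2, rfl⟩⟩

/-- elements of O₂(U N) centralize N when O₂(N) = 1 -/
theorem core_cent {U N : Subgroup G} (hUN : ∀ u ∈ U, ∀ n ∈ N, u * n * u⁻¹ ∈ N)
    (hN : pCore 2 ↥N = ⊥) {x : G} (hx : x ∈ (pCore 2 ↥(U ⊔ N)).map (U ⊔ N).subtype) :
    ∀ n ∈ N, x * n = n * x := by
  have hNn : (N.subgroupOf (U ⊔ N)).Normal := by
    constructor
    rintro ⟨n, hn'⟩ hn ⟨g, hg⟩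
    obtain ⟨m, hm, u, hu, rfl⟩ := sup_decomp hUN hg
    show m * u * n * (m * u)⁻¹ ∈ N
    have h1 : m * u * n * (m * u)⁻¹ = m * (u * n * u⁻¹) * m⁻¹ := by group
    rw [h1]
    exact N.mul_mem (N.mul_mem hm (hUN u hu n hn)) (N.inv_mem hm)
  obtain ⟨y, hy, rfl⟩ := hx
  have hcn : (pCore 2 ↥(U ⊔ N)).Normal := inferInstance
  have hcp : IsPGroup 2 (pCore 2 ↥(U ⊔ N)) := Cfsg.Agent.H11.Cores.pCore_isPGroup 2
  -- the intersection with N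
  let T : Subgroup ↥N := ((pCore 2 ↥(U ⊔ N)).map (U ⊔ N).subtype).subgroupOf N
  have hTn : T.Normal := by
    constructor
    rintro n ⟨z, hz, hzn⟩ g
    refine ⟨⟨(g : G), Subgroup.mem_sup_right g.2⟩ * z * ⟨(g : G), Subgroup.mem_sup_right g.2⟩⁻¹,
      hcn.conj_mem z hz _, ?_⟩
    show (g : G) * (z : G) * (g : G)⁻¹ = (g : G) * n * (g : G)⁻¹
    have h1 : (z : G) = n := hzn
    rw [h1]
  have hTp : IsPGroup 2 T := (hcp.map _).comap_of_injective N.subtype N.subtype_injective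
  have hT : T = ⊥ := by
    rw [eq_bot_iff, ← hN]
    exact Cfsg.Agent.H11.Cores.le_pCore 2 hTp
  intro n hn
  have hnM : n ∈ U ⊔ N := Subgroup.mem_sup_right hn
  have h1 : (y : G) * n * (y : G)⁻¹ * n⁻¹ ∈ N := by
    have h2 := hNn.conj_mem ⟨n, hnM⟩ hn y
    exact N.mul_mem h2 (N.inv_mem hn)
  have h2 : (⟨(y : G) * n * (y : G)⁻¹ * n⁻¹, h1⟩ : ↥N) ∈ T := by
    refine ⟨y * (⟨n, hnM⟩ * y⁻¹ * ⟨n, hnM⟩⁻¹), (pCore 2 ↥(U ⊔ N)).mul_mem hy
      (hcn.conj_mem _ ((pCore 2 ↥(U ⊔ N)).inv_mem hy) _), ?_⟩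
    show (y : G) * (n * (y : G)⁻¹ * n⁻¹) = (y : G) * n * (y : G)⁻¹ * n⁻¹
    group
  rw [hT, Subgroup.mem_bot] at h2
  have h3 : (y : G) * n * (y : G)⁻¹ * n⁻¹ = 1 := congrArg Subtype.val h2
  show (y : G) * n = n * (y : G)
  calc (y : G) * n = ((y : G) * n * (y : G)⁻¹ * n⁻¹) * (n * (y : G)) := by group
    _ = n * (y : G) := by rw [h3, one_mul]

/-- Key lemma: a faithful action is not Sidki -/
theorem key (hmin : MinG G) {U N : Subgroup G} (hU : ∀ u ∈ U, u * u = 1)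
    (hUN : ∀ u ∈ U, ∀ n ∈ N, u * n * u⁻¹ ∈ N) (hN : pCore 2 ↥N = ⊥) (hU1 : U ≠ ⊥)
    (hf : ∀ u ∈ U, (∀ n ∈ N, u * n = n * u) → u = 1) (hM : U ⊔ N ≠ ⊤) :
    ∃ u ∈ U, ∃ n ∈ N, Odd (orderOf n) ∧ u * n * u⁻¹ = n⁻¹ ∧ ∀ w ∈ U, w * n = n * w → w = 1 := by
  by_contra hcon
  push Not at hcon
  obtain ⟨x, hx, hx1, hxc⟩ := ind_sub hmin hM le_sup_left hU hU1 (fun h hh v hv ho hinv => by
    obtain ⟨w, hw, hwc, hw1⟩ := hcon v hv h (odd_mem hU hUN hh ho) ho hinv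
    exact ⟨w, hw, hw1, hwc⟩)
  exact hx1 (hf x hx (core_cent hUN hN hxc))

/-- V ∩ C_G(N) is a Sidki pair in C_G(N) -/
theorem sidC (hmin : MinG G) {V N : Subgroup G} [hNn : N.Normal] (hV : ∀ u ∈ V, u * u = 1)
    (hS : Cfsg.IsSidkiPair V) (hN : pCore 2 ↥N = ⊥)
    (hNC : ∀ z ∈ N, (∀ n ∈ N, z * n = n * z) → z * z = 1 → z = 1)
    (hprop : ∀ U : Subgroup G, U ≤ V → (∀ u ∈ U, (∀ n ∈ N, u * n = n * u) → u = 1) → U ⊔ N ≠ ⊤) :
    ∀ h : G, (∀ n ∈ N, h * n = n * h) → ∀ v ∈ V, (∀ n ∈ N, v * n = n * v) → Odd (orderOf h) →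
      v * h * v⁻¹ = h⁻¹ → ∃ w ∈ V, (∀ n ∈ N, w * n = n * w) ∧ w ≠ 1 ∧ w * h = h * w := by
  intro h hh v hv hvc ho hinv
  by_contra hcon
  push Not at hcon
  let U : Subgroup G := V ⊓ Subgroup.centralizer {h}
  have hUm : ∀ w, w ∈ U ↔ w ∈ V ∧ w * h = h * w := by
    intro w
    rw [Subgroup.mem_inf, Subgroup.mem_centralizer_singleton_iff]
  have hUV : U ≤ V := inf_le_left
  have hf : ∀ u ∈ U, (∀ n ∈ N, u * n = n * u) → u = 1 := by
    intro u hu huc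
    by_contra hu1
    exact hcon u (hUV hu) huc hu1 ((hUm u).1 hu).2
  have hU1 : U ≠ ⊥ := by
    obtain ⟨w, hw, hw1, hwc⟩ := hS h v hv ho hinv
    intro h1
    have h2 : w ∈ U := (hUm w).2 ⟨hw, hwc⟩
    rw [h1, Subgroup.mem_bot] at h2
    exact hw1 h2
  obtain ⟨u, hu, n, hn, hno, huinv, hun⟩ := key hmin (fun u hu => hV u (hUV hu))
    (fun u _ n hn => hNn.conj_mem n hn u) hN hU1 hf (hprop U hUV hf)
  have huh := ((hUm u).1 hu).2
  have hhn : Commute h n := hh n hn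
  have hodd : Odd (orderOf (h * n)) := by
    have h1 : orderOf (h * n) ∣ orderOf h * orderOf n := hhn.orderOf_mul_dvd_mul_orderOf
    exact (Nat.odd_mul.2 ⟨ho, hno⟩).of_dvd_nat h1
  have hinv2 : (v * u) * (h * n) * (v * u)⁻¹ = (h * n)⁻¹ := by
    have h1 : u * h * u⁻¹ = h := by rw [huh, mul_inv_cancel_right]
    have h2 : v * n⁻¹ * v⁻¹ = n⁻¹ := by
      rw [hvc n⁻¹ (N.inv_mem hn), mul_inv_cancel_right]
    calc (v * u) * (h * n) * (v * u)⁻¹ = v * ((u * h * u⁻¹) * (u * n * u⁻¹)) * v⁻¹ := by group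
      _ = v * (h * n⁻¹) * v⁻¹ := by rw [h1, huinv]
      _ = (v * h * v⁻¹) * (v * n⁻¹ * v⁻¹) := by group
      _ = h⁻¹ * n⁻¹ := by rw [hinv, h2]
      _ = (h * n)⁻¹ := by rw [hhn.eq, mul_inv_rev]
  obtain ⟨w, hw, hw1, hwc⟩ := hS (h * n) (v * u) (V.mul_mem hv (hUV hu)) hodd hinv2
  have hwn : w * n * w⁻¹ ∈ N := hNn.conj_mem n hn w
  set z := h⁻¹ * (w * h * w⁻¹) with hz
  have hz2 : z = n * (w * n * w⁻¹)⁻¹ := by
    have h1 : (w * h * w⁻¹) * (w * n * w⁻¹) = h * n := by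
      calc (w * h * w⁻¹) * (w * n * w⁻¹) = w * (h * n) * w⁻¹ := by group
        _ = h * n := by rw [hwc, mul_inv_cancel_right]
    rw [hz, eq_mul_inv_iff_mul_eq, mul_assoc, h1]
    group
  have hzN : z ∈ N := by rw [hz2]; exact N.mul_mem hn (N.inv_mem hwn)
  have hwhc : ∀ m ∈ N, (w * h * w⁻¹) * m = m * (w * h * w⁻¹) := by
    intro m hm
    have h1 := hh (w⁻¹ * m * w) (by simpa using hNn.conj_mem m hm w⁻¹)
    calc (w * h * w⁻¹) * m = w * (h * (w⁻¹ * m * w)) * w⁻¹ := by group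
      _ = w * ((w⁻¹ * m * w) * h) * w⁻¹ := by rw [h1]
      _ = m * (w * h * w⁻¹) := by group
  have hzc : ∀ m ∈ N, z * m = m * z := by
    intro m hm
    have h1 : h⁻¹ * m = m * h⁻¹ := by
      rw [inv_mul_eq_iff_eq_mul, ← mul_assoc, hh m hm, mul_inv_cancel_right]
    rw [hz, mul_assoc, hwhc m hm, ← mul_assoc, h1, mul_assoc]
  have hwh : w * h * w⁻¹ = h * z := by rw [hz]; group
  have hvw : v * w = w * v := comm_of_el hV hv hw
  have hz3 : z * z = 1 := by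
    have h1 : v * (w * h * w⁻¹) * v⁻¹ = (w * h * w⁻¹)⁻¹ := by
      calc v * (w * h * w⁻¹) * v⁻¹ = (v * w) * h * (v * w)⁻¹ := by group
        _ = (w * v) * h * (w * v)⁻¹ := by rw [hvw]
        _ = w * (v * h * v⁻¹) * w⁻¹ := by group
        _ = (w * h * w⁻¹)⁻¹ := by rw [hinv]; group
    have h2 : v * z * v⁻¹ = z := by rw [hvc z hzN, mul_inv_cancel_right]
    have h3 : v * (h * z) * v⁻¹ = h⁻¹ * z := by
      calc v * (h * z) * v⁻¹ = (v * h * v⁻¹) * (v * z * v⁻¹) := by group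
        _ = h⁻¹ * z := by rw [hinv, h2]
    rw [hwh, h3, mul_inv_rev] at h1
    -- h⁻¹ z = z⁻¹ h⁻¹
    have h4 : h * z = z * h := hh z hzN
    have h5 : h⁻¹ * z = z * h⁻¹ := by
      rw [inv_mul_eq_iff_eq_mul, ← mul_assoc, h4, mul_inv_cancel_right]
    rw [h5] at h1
    have h6 := mul_right_cancel h1
    rw [h6]
    nth_rewrite 2 [← h6]
    rw [inv_mul_cancel]
  have hz1 : z = 1 := hNC z hzN hzc hz3
  rw [hz1, mul_one] at hwh
  have hwh' : w * h = h * w := by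
    calc w * h = (w * h * w⁻¹) * w := by group
      _ = h * w := by rw [hwh]
  have hwn' : w * n = n * w := by
    rw [hz1] at hz2
    have h1 : w * n * w⁻¹ = n := (mul_inv_eq_one.1 hz2.symm).symm
    calc w * n = (w * n * w⁻¹) * w := by group
      _ = n * w := by rw [h1]
  exact hw1 (hun w ((hUm w).2 ⟨hw, hwh'⟩) hwn')

end

end Cfsg.Agent.H2.SP
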