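import Mathlib
import Cfsg.Agent.H2_SP1

set_option autoImplicit false
open Cfsg

namespace Cfsg.Agent.H2.SP

open Cfsg.Agent.H2.EC

universe u

section
variable {G : Type u} [Group G] [Finite G]

theorem sid_quot {V N : Subgroup G} [N.Normal] (hV : ∀ u ∈ V, u * u = 1) (hVN : V ⊓ N = ⊥)
    (hS : Cfsg.IsSidkiPair V) : Cfsg.IsSidkiPair (V.map (QuotientGroup.mk' N)) := by
  rintro hb _ ⟨v, hv, rfl⟩ ho hinv
  set π := QuotientGroup.mk' N with hπ
  obtain ⟨m, hm⟩ := ho
  obtain ⟨k, hk⟩ := QuotientGroup.mk'_surjective N (hb ^ (m + 1))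
  -- v inverts k̄
  have hinvk : π v * π k * (π v)⁻¹ = (π k)⁻¹ := by
    rw [hk, ← conj_pow, hinv, inv_pow]
  have hkk : π k * π k = hb := by
    rw [hk, ← pow_add]
    have h1 : m + 1 + (m + 1) = orderOf hb + 1 := by omega
    rw [h1, pow_succ, pow_orderOf_eq_one, one_mul]
  have hv2 : v * v = 1 := hV v hv
  have hvi : v⁻¹ = v := inv_eq_of_mul_eq_one_right hv2
  set x := k * (v * k⁻¹ * v⁻¹) with hx
  have hπx : π x = hb := by
    rw [hx, map_mul, map_mul, map_mul, map_inv, map_inv]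
    have h1 : π v * (π k)⁻¹ * (π v)⁻¹ = (π v * π k * (π v)⁻¹)⁻¹ := by group
    rw [h1, hinvk, inv_inv, hkk]
  have hvx : v * x * v⁻¹ = x⁻¹ := by
    rw [hx, hvi]
    calc v * (k * (v * k⁻¹ * v)) * v = v * k * v * k⁻¹ * (v * v) := by group
      _ = v * k * v * k⁻¹ := by rw [hv2, mul_one]
      _ = (v⁻¹ * k⁻¹⁻¹ * v⁻¹ * k⁻¹) := by rw [hvi, inv_inv]
      _ = (k * (v * k⁻¹ * v))⁻¹ := by group
  -- odd part of x
  obtain ⟨a, b, hb1, hab⟩ := Nat.exists_eq_two_pow_mul_odd (orderOf_pos x).ne'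
  have hcop : (2 ^ a).Coprime b := Nat.Coprime.pow_left _ ((Nat.coprime_two_left).2 hb1)
  obtain ⟨j, hj1, hj2⟩ := Nat.chineseRemainder hcop 0 1
  have hj1' : 2 ^ a ∣ j := (Nat.modEq_zero_iff_dvd).1 hj1
  have hxj : orderOf (x ^ j) ∣ b := by
    apply orderOf_dvd_of_pow_eq_one
    obtain ⟨c, hc⟩ := hj1'
    rw [← pow_mul, hc]
    have h1 : 2 ^ a * c * b = orderOf x * c := by rw [hab]; ring
    rw [h1, pow_mul, pow_orderOf_eq_one, one_pow]
  have hodd : Odd (orderOf (x ^ j)) := hb1.of_dvd_nat hxj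
  have hmb : orderOf hb ∣ b := by
    have h1 : orderOf hb ∣ orderOf x := by rw [← hπx]; exact orderOf_map_dvd _ _
    rw [hab] at h1
    have h2 : (orderOf hb).Coprime (2 ^ a) :=
      Nat.Coprime.pow_right _ ((Nat.coprime_two_right).2 ⟨m, hm⟩)
    exact h2.dvd_of_dvd_mul_left h1
  have hπj : π (x ^ j) = hb := by
    rw [map_pow, hπx]
    have h1 : j ≡ 1 [MOD orderOf hb] := hj2.of_dvd hmb
    have h2 : hb ^ j = hb ^ 1 := pow_eq_pow_iff_modEq.2 h1
    rw [h2, pow_one]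
  obtain ⟨w, hw, hw1, hwc⟩ := hS (x ^ j) v hv hodd (by rw [← conj_pow, hvx, inv_pow])
  refine ⟨π w, ⟨w, hw, rfl⟩, ?_, ?_⟩
  · intro h1
    have h2 : w ∈ N := (QuotientGroup.eq_one_iff w).1 h1
    have h3 : w ∈ V ⊓ N := ⟨hw, h2⟩
    rw [hVN, Subgroup.mem_bot] at h3
    exact hw1 h3
  · rw [← hπj, ← map_mul, hwc, map_mul]

theorem ind_quot (hmin : MinG G) {V N : Subgroup G} [N.Normal] (hV : ∀ u ∈ V, u * u = 1)
    (hV1 : V ≠ ⊥) (hN1 : N ≠ ⊥) (hVN : V ⊓ N = ⊥) (hS : Cfsg.IsSidkiPair V) :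
    ∃ x ∈ V, x ≠ 1 ∧ QuotientGroup.mk' N x ∈ pCore 2 (G ⧸ N) := by
  have hlt : Nat.card (G ⧸ N) < Nat.card G := by
    have h1 := Subgroup.card_eq_card_quotient_mul_card_subgroup N
    have h2 : 1 < Nat.card N := (Subgroup.one_lt_card_iff_ne_bot _).2 hN1
    have h3 : 0 < Nat.card (G ⧸ N) := Nat.card_pos
    rw [h1]
    nlinarith
  have h2 := hmin (G ⧸ N) (V.map (QuotientGroup.mk' N)) hlt
    (el_iff (by rintro _ ⟨x, hx, rfl⟩; rw [← map_mul, hV x hx, map_one]))
    (by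
      obtain ⟨v, hv⟩ := Subgroup.ne_bot_iff_exists_ne_one.1 hV1
      intro h
      have h3 : QuotientGroup.mk' N (v : G) ∈ V.map (QuotientGroup.mk' N) := ⟨v, v.2, rfl⟩
      rw [h, Subgroup.mem_bot] at h3
      have h4 : (v : G) ∈ V ⊓ N := ⟨v.2, (QuotientGroup.eq_one_iff _).1 h3⟩
      rw [hVN, Subgroup.mem_bot] at h4
      exact hv (Subtype.ext h4))
    (sid_quot hV hVN hS)
  obtain ⟨y, hy⟩ := Subgroup.ne_bot_iff_exists_ne_one.1 h2
  obtain ⟨y, ⟨x, hx, rfl⟩, hy2⟩ := y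
  exact ⟨x, hx, fun h => hy (Subtype.ext (by show QuotientGroup.mk' N x = 1; rw [h]; exact map_one _)), hy2⟩

theorem csgen {D Z : Subgroup G} [D.Normal] (hZ : ∀ z ∈ Z, ∀ d ∈ D, z * d = d * z) (hZD : Z ≤ D)
    (hcop : (Nat.card Z).Coprime (Z.relIndex D)) :
    ∃ K : Subgroup G, K.Normal ∧ Nat.card K = Z.relIndex D ∧
      ∀ d ∈ D, (orderOf d).Coprime (Nat.card Z) → d ∈ K := by
  let Z' : Subgroup ↥D := Z.subgroupOf D
  have hZc : Nat.card Z' = Nat.card Z := Nat.card_congr (Subgroup.subgroupOfEquivOfLe hZD).toEquiv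
  haveI : Z'.Normal := ⟨fun z hz g => by
    have h1 : g * z * g⁻¹ = z := by
      apply Subtype.ext
      show (g : G) * z * (g : G)⁻¹ = z
      rw [← hZ z hz g g.2, mul_inv_cancel_right]
    rw [h1]; exact hz⟩
  obtain ⟨K, hK⟩ := Subgroup.exists_right_complement'_of_coprime (N := Z') (by rw [hZc]; exact hcop)
  have hKc : Nat.card K = Z.relIndex D := hK.symm.index_eq_card.symm
  have hchar : ∀ x : ↥D, (orderOf x).Coprime (Nat.card Z) → x ∈ K := by
    intro x hx
    obtain ⟨⟨z, k⟩, h1⟩ := (hK.existsUnique x).exists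
    have h1' : (z : ↥D) * (k : ↥D) = x := h1
    have hcom : Commute (z : ↥D) (k : ↥D) := Subtype.ext (hZ _ z.2 _ (k : ↥D).2)
    have h2 : (z : ↥D) ^ orderOf x * (k : ↥D) ^ orderOf x = 1 := by
      rw [← hcom.mul_pow, h1', pow_orderOf_eq_one]
    have h3 : (z : ↥D) ^ orderOf x ∈ K := by
      rw [eq_inv_of_mul_eq_one_left h2]
      exact K.inv_mem (K.pow_mem k.2 _)
    have h4 : (z : ↥D) ^ orderOf x = 1 :=
      Subgroup.disjoint_def.1 hK.disjoint (Z'.pow_mem z.2 _) h3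
    have h5 : orderOf (z : ↥D) ∣ orderOf x := orderOf_dvd_of_pow_eq_one h4
    have h6 : orderOf (z : ↥D) ∣ Nat.card Z := by
      rw [← hZc]; exact Subgroup.orderOf_dvd_natCard Z' z.2
    have h7 : (z : ↥D) = 1 := orderOf_eq_one_iff.1 (Nat.eq_one_of_dvd_coprimes hx h5 h6)
    rw [← h1', h7, one_mul]
    exact k.2
  refine ⟨K.map D.subtype, ?_, ?_, ?_⟩
  · constructor
    rintro _ ⟨x, hx, rfl⟩ g
    have h1 : g * (x : G) * g⁻¹ ∈ D := (inferInstance : D.Normal).conj_mem x x.2 g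
    refine ⟨⟨g * x * g⁻¹, h1⟩, hchar _ ?_, rfl⟩
    rw [← Subgroup.orderOf_coe]
    show (orderOf (MulAut.conj g (x : G))).Coprime (Nat.card Z)
    have h2 : orderOf (MulAut.conj g (x : G)) = orderOf (x : G) :=
      orderOf_injective (MulAut.conj g).toMonoidHom (MulAut.conj g).injective _
    rw [h2, Subgroup.orderOf_coe]
    have h3 : orderOf x ∣ Z.relIndex D := by rw [← hKc]; exact Subgroup.orderOf_dvd_natCard K hx
    exact (hcop.symm.coprime_dvd_left h3)
  · rw [← hKc]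
    exact Nat.card_congr (K.equivMapOfInjective D.subtype D.subtype_injective).toEquiv.symm
  · intro d hd ho
    exact ⟨⟨d, hd⟩, hchar _ (by rwa [← Subgroup.orderOf_coe]), rfl⟩

theorem stepB (hmin : MinG G) {V : Subgroup G} (hV : ∀ u ∈ V, u * u = 1) (hV1 : V ≠ ⊥)
    (hVO : V ⊓ pCore 2 G = ⊥) (hS : Cfsg.IsSidkiPair V) : pCore 2 G = ⊥ := by
  by_contra hT
  obtain ⟨x, hx, hx1, hxc⟩ := ind_quot hmin (N := pCore 2 G) hV hV1 hT hVO hS
  have hp : IsPGroup 2 ((pCore 2 (G ⧸ pCore 2 G)).comap (QuotientGroup.mk' (pCore 2 G))) := by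
    apply (Cfsg.Agent.H11.Cores.pCore_isPGroup (G := G ⧸ pCore 2 G) 2).comap_of_ker_isPGroup
    rw [QuotientGroup.ker_mk']
    exact Cfsg.Agent.H11.Cores.pCore_isPGroup 2
  have hn : ((pCore 2 (G ⧸ pCore 2 G)).comap (QuotientGroup.mk' (pCore 2 G))).Normal :=
    Subgroup.Normal.comap inferInstance _
  have h1 : x ∈ pCore 2 G := Cfsg.Agent.H11.Cores.le_pCore 2 hp hxc
  have h2 : x ∈ V ⊓ pCore 2 G := ⟨hx, h1⟩
  rw [hVO, Subgroup.mem_bot] at h2
  exact hx1 h2

theorem pCore_odd {N : Subgroup G} (hN : Odd (Nat.card N)) : pCore 2 ↥N = ⊥ := by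
  have h1 : IsPGroup 2 (pCore 2 ↥N) := Cfsg.Agent.H11.Cores.pCore_isPGroup 2
  obtain ⟨k, hk⟩ := IsPGroup.iff_card.1 h1
  have h2 : Nat.card (pCore 2 ↥N) ∣ Nat.card ↥N := Subgroup.card_subgroup_dvd_card _
  rw [hk] at h2
  have h3 : 2 ^ k = 1 := by
    rcases Nat.eq_zero_or_pos k with h | h
    · rw [h, pow_zero]
    · exfalso
      exact (Nat.not_even_iff_odd.2 hN) (even_iff_two_dvd.2 ((dvd_pow_self 2 h.ne').trans h2))
  rw [h3] at hk
  exact Subgroup.card_eq_one.1 hk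

/-- core of the centralizer argument: if `V ∩ C(N) ≠ 1` is a Sidki pair in `C(N) ≠ G`, contradiction -/
theorem cent_contra (hmin : MinG G) {V N : Subgroup G} [hNn : N.Normal] (hV : ∀ u ∈ V, u * u = 1)
    (hG2 : pCore 2 G = ⊥)
    (hsid : ∀ h : G, (∀ n ∈ N, h * n = n * h) → ∀ v ∈ V, (∀ n ∈ N, v * n = n * v) →
      Odd (orderOf h) → v * h * v⁻¹ = h⁻¹ → ∃ w ∈ V, (∀ n ∈ N, w * n = n * w) ∧ w ≠ 1 ∧ w * h = h * w)
    (hC : Subgroup.centralizer (N : Set G) ≠ ⊤) {x : G} (hx : x ∈ V) (hx1 : x ≠ 1)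
    (hxN : ∀ n ∈ N, x * n = n * x) : False := by
  have hm : ∀ y, y ∈ Subgroup.centralizer (N : Set G) ↔ ∀ n ∈ N, y * n = n * y := by
    intro y
    rw [Subgroup.mem_centralizer_iff]
    exact ⟨fun h n hn => (h n hn).symm, fun h n hn => (h n hn).symm⟩
  obtain ⟨y, hy, hy1, hyc⟩ := ind_sub hmin (M := Subgroup.centralizer (N : Set G))
    (W := V ⊓ Subgroup.centralizer (N : Set G)) hC inf_le_right (fun u hu => hV u hu.1)
    (fun h => by
      have h2 : x ∈ V ⊓ Subgroup.centralizer (N : Set G) := ⟨hx, (hm x).2 hxN⟩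
      rw [h, Subgroup.mem_bot] at h2
      exact hx1 h2)
    (fun h hh v hv ho hinv => by
      obtain ⟨w, hw, hwN, hw1, hwc⟩ := hsid h ((hm h).1 hh) v hv.1 ((hm v).1 hv.2) ho hinv
      exact ⟨w, ⟨hw, (hm w).2 hwN⟩, hw1, hwc⟩)
  haveI : (Subgroup.centralizer (N : Set G)).Normal := Subgroup.normal_centralizer
  have h1 := Cfsg.Agent.H11.Cores.map_pCore_of_isSubnormal (G := G) 2
    (H := Subgroup.centralizer (N : Set G)) (Subgroup.Normal.isSubnormal inferInstance)
  rw [h1, hG2, bot_inf_eq, Subgroup.mem_bot] at hyc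
  exact hy1 hyc

theorem stepA (hmin : MinG G) {V : Subgroup G} (hV : ∀ u ∈ V, u * u = 1) (hV1 : V ≠ ⊥)
    (hG2 : pCore 2 G = ⊥) (hS : Cfsg.IsSidkiPair V) : oddCore G = ⊥ := by
  by_contra hO
  have hOn : (oddCore G).Normal := by show (pPrimeCore 2 G).Normal; infer_instance
  have hOodd : Odd (Nat.card (oddCore G)) :=
    (Nat.coprime_two_right).1 (Cfsg.Agent.H11.Cores.pPrimeCore_coprime (G := G) 2)
  obtain ⟨N, hNmin⟩ := Set.Finite.exists_minimal (s := {N : Subgroup G | N.Normal ∧ N ≠ ⊥ ∧ N ≤ oddCore G})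
    (Set.toFinite _) ⟨oddCore G, hOn, hO, le_rfl⟩
  obtain ⟨⟨hNn, hN1, hNO⟩, hNm⟩ := hNmin
  have hmin' : ∀ K : Subgroup G, K.Normal → K ≠ ⊥ → K ≤ N → K = N := fun K hK hK1 hKN =>
    le_antisymm hKN (hNm ⟨hK, hK1, hKN.trans hNO⟩ hKN)
  have hNodd : Odd (Nat.card N) := odd_of_le hNO hOodd
  have hN2 : pCore 2 ↥N = ⊥ := pCore_odd hNodd
  have hodd1 : ∀ z ∈ N, z * z = 1 → z = 1 := fun z hz h => eq_one_of_odd_sq (odd_of_mem hNodd hz) h
  -- N abelian
  have hab : ∀ a ∈ N, ∀ b ∈ N, a * b = b * a := by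
    have hsol : Group.IsSolvable ↥N := Cfsg.Agent.S0205.result hNodd
    haveI : Nontrivial ↥N := (Subgroup.nontrivial_iff_ne_bot N).2 hN1
    have hlt : commutator ↥N < ⊤ := IsSolvable.commutator_lt_top_of_nontrivial ↥N
    have hle : ⁅N, N⁆ ≤ N := Subgroup.commutator_le_right N N
    have hne : ⁅N, N⁆ ≠ N := by
      intro h
      apply hlt.ne
      have h1 : (commutator ↥N).map N.subtype = ⁅N, N⁆ := by
        rw [commutator_def, Subgroup.map_commutator, ← MonoidHom.range_eq_map, Subgroup.range_subtype]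
      rw [h] at h1
      rw [eq_top_iff]
      intro y _
      have h2 : (y : G) ∈ (commutator ↥N).map N.subtype := by rw [h1]; exact y.2
      obtain ⟨z, hz, hzy⟩ := h2
      have h3 : z = y := Subtype.ext hzy
      rw [← h3]; exact hz
    have hbot : ⁅N, N⁆ = ⊥ := by
      by_contra h
      exact hne (hmin' _ inferInstance h hle)
    intro a ha b hb
    have h1 := Subgroup.commutator_mem_commutator ha hb
    rw [hbot, Subgroup.mem_bot] at h1
    exact commutatorElement_eq_one_iff_mul_comm.1 h1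
  have hVNb : V ⊓ N = ⊥ := by
    rw [eq_bot_iff]
    intro x hx
    exact hodd1 x hx.2 (hV x hx.1)
  by_cases hc : ∃ x ∈ V, x ≠ 1 ∧ ∀ n ∈ N, x * n = n * x
  · obtain ⟨x, hx, hx1, hxN⟩ := hc
    by_cases hC : Subgroup.centralizer (N : Set G) = ⊤
    · have hcen : ∀ z ∈ N, ∀ g : G, z * g = g * z := by
        intro z hz g
        have h1 : g ∈ Subgroup.centralizer (N : Set G) := by rw [hC]; exact Subgroup.mem_top _
        exact Subgroup.mem_centralizer_iff.1 h1 z hz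
      obtain ⟨y, hy, hy1, hyc⟩ := ind_quot hmin (N := N) hV hV1 hN1 hVNb hS
      let D : Subgroup G := (pCore 2 (G ⧸ N)).comap (QuotientGroup.mk' N)
      haveI hDn : D.Normal := Subgroup.Normal.comap inferInstance _
      have hND : N ≤ D := by
        intro z hz
        show QuotientGroup.mk' N z ∈ pCore 2 (G ⧸ N)
        have h1 : QuotientGroup.mk' N z = 1 := (QuotientGroup.eq_one_iff z).2 hz
        rw [h1]; exact Subgroup.one_mem _
      have hrel : N.relIndex D = Nat.card (pCore 2 (G ⧸ N)) := by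
        have h1 := Cfsg.Agent.H11.Cores.card_comap_of_surjective (QuotientGroup.mk' N)
          (QuotientGroup.mk'_surjective N) (pCore 2 (G ⧸ N))
        rw [QuotientGroup.ker_mk'] at h1
        have h5 := Subgroup.relIndex_mul_relIndex ⊥ N D bot_le hND
        rw [Subgroup.relIndex_bot_left, Subgroup.relIndex_bot_left] at h5
        have h4 : Nat.card N * N.relIndex D = Nat.card N * Nat.card (pCore 2 (G ⧸ N)) := by
          rw [h5, ← h1]
        exact Nat.eq_of_mul_eq_mul_left Nat.card_pos h4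
      obtain ⟨k, hk⟩ := IsPGroup.iff_card.1 (Cfsg.Agent.H11.Cores.pCore_isPGroup (G := G ⧸ N) 2)
      obtain ⟨K, hKn, hKc, hKm⟩ := csgen (D := D) (Z := N) (fun z hz d _ => hcen z hz d) hND
        (by rw [hrel, hk]; exact Nat.Coprime.pow_right _ ((Nat.coprime_two_right).2 hNodd))
      have hK2 : IsPGroup 2 K := IsPGroup.iff_card.2 ⟨k, by rw [hKc, hrel, hk]⟩
      have h1 : y ∈ K := hKm y hyc (by
        have h2 : orderOf y ∣ 2 := orderOf_dvd_of_pow_eq_one (by rw [sq, hV y hy])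
        exact Nat.Coprime.coprime_dvd_left h2 ((Nat.coprime_two_left).2 hNodd))
      have h2 : y ∈ pCore 2 G := Cfsg.Agent.H11.Cores.le_pCore 2 hK2 h1
      rw [hG2, Subgroup.mem_bot] at h2
      exact hy1 h2
    · refine cent_contra hmin (N := N) hV hG2 (sidC hmin hV hS hN2 (fun z hz _ h => hodd1 z hz h) ?_) hC hx hx1 hxN
      intro U hUV hU htop
      -- x ∈ U N
      have h1 : x ∈ U ⊔ N := by rw [htop]; exact Subgroup.mem_top _
      obtain ⟨n, hn, u, hu, hxe⟩ := sup_decomp (fun u _ n hn => hNn.conj_mem n hn u) h1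
      have h2 : u = 1 := by
        apply hU u hu
        intro m hm
        have h3 : u = n⁻¹ * x := by rw [hxe]; group
        rw [h3, mul_assoc, hxN m hm, ← mul_assoc, hab n⁻¹ (N.inv_mem hn) m hm, mul_assoc]
      rw [h2, mul_one] at hxe
      exact hx1 (hodd1 x (by rw [hxe]; exact hn) (hV x hx))
  · push Not at hc
    have hf : ∀ x ∈ V, (∀ n ∈ N, x * n = n * x) → x = 1 := by
      intro x hx hxn
      by_contra h1
      obtain ⟨n, hn, hne⟩ := hc x hx h1
      exact hne (hxn n hn)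
    by_cases htop : V ⊔ N = ⊤
    · -- V inverts N
      obtain ⟨v, hv⟩ := Subgroup.ne_bot_iff_exists_ne_one.1 hV1
      obtain ⟨n, hn⟩ := Subgroup.ne_bot_iff_exists_ne_one.1 hN1
      have hfix : ∀ w ∈ V, w ≠ 1 → ∀ m ∈ N, w * m = m * w → m = 1 := by
        intro w hw hw1 m hm hwm
        by_contra hm1
        let K : Subgroup G := N ⊓ Subgroup.centralizer {w}
        have hKm : ∀ y, y ∈ K ↔ y ∈ N ∧ y * w = w * y := by
          intro y
          rw [Subgroup.mem_inf, Subgroup.mem_centralizer_singleton_iff]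
        have hKn : K.Normal := by
          constructor
          intro y hy g
          obtain ⟨hyN, hyw⟩ := (hKm y).1 hy
          have hg : g ∈ V ⊔ N := by rw [htop]; exact Subgroup.mem_top _
          obtain ⟨a, ha, u, hu, rfl⟩ := sup_decomp (fun u _ n hn => hNn.conj_mem n hn u) hg
          have h1 : u * y * u⁻¹ ∈ N := hNn.conj_mem y hyN u
          have h2 : a * u * y * (a * u)⁻¹ = u * y * u⁻¹ := by
            calc a * u * y * (a * u)⁻¹ = a * (u * y * u⁻¹) * a⁻¹ := by group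
              _ = (u * y * u⁻¹) * a * a⁻¹ := by rw [hab a ha _ h1]
              _ = u * y * u⁻¹ := by group
          rw [h2]
          refine (hKm _).2 ⟨h1, ?_⟩
          have h3 : u * w = w * u := comm_of_el hV hu hw
          have h4 : u⁻¹ * w = w * u⁻¹ := by
            rw [inv_mul_eq_iff_eq_mul, ← mul_assoc, h3, mul_inv_cancel_right]
          calc u * y * u⁻¹ * w = u * y * (u⁻¹ * w) := by group
            _ = u * (y * w) * u⁻¹ := by rw [h4]; group
            _ = (u * w) * y * u⁻¹ := by rw [hyw]; group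
            _ = w * (u * y * u⁻¹) := by rw [h3]; group
        have hK1 : K ≠ ⊥ := by
          intro h
          have h2 : m ∈ K := (hKm m).2 ⟨hm, hwm.symm⟩
          rw [h, Subgroup.mem_bot] at h2
          exact hm1 h2
        have hKN := hmin' K hKn hK1 inf_le_left
        apply hw1
        apply hf w hw
        intro n hn
        rw [← hKN] at hn
        exact ((hKm n).1 hn).2.symm
      have hinv : (v : G) * n * (v : G)⁻¹ = (n : G)⁻¹ := by
        have h1 : (v : G) * n * (v : G)⁻¹ ∈ N := hNn.conj_mem n n.2 v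
        have hv2 := hV v v.2
        have h2 := hfix v v.2 (fun h => hv (Subtype.ext h)) ((n : G) * ((v : G) * n * (v : G)⁻¹))
          (N.mul_mem n.2 h1) (by
            have hvi : (v : G)⁻¹ = v := inv_eq_of_mul_eq_one_right hv2
            have h3 : ((v : G) * n * (v : G)⁻¹) * n = n * ((v : G) * n * (v : G)⁻¹) :=
              hab _ h1 _ n.2
            rw [hvi] at h3 ⊢
            calc (v : G) * (n * (v * n * v)) = (v * n * v) * n * v := by group
              _ = n * (v * n * v) * v := by rw [h3])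
        exact (inv_eq_of_mul_eq_one_right h2).symm
      obtain ⟨w, hw, hw1, hwc⟩ := hS n v v.2 (odd_of_mem hNodd n.2) hinv
      exact hn (Subtype.ext (hfix w hw hw1 n n.2 hwc))
    · obtain ⟨x, hx, hx1, hxc⟩ := ind_sub hmin htop le_sup_left hV hV1
        (fun h _ v hv ho hinv => hS h v hv ho hinv)
      exact hx1 (hf x hx (core_cent (fun u _ n hn => hNn.conj_mem n hn u) hN2 hxc))

end

end Cfsg.Agent.H2.SP
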