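import Mathlib
import Cfsg.Agent.H2_SP2

set_option autoImplicit false
open Cfsg

namespace Cfsg.Agent.H2.SP

open Cfsg.Agent.H2.EC

universe u

section
variable {G : Type u} [Group G] [Finite G]

theorem sn_pCore (hG2 : pCore 2 G = ⊥) {L : Subgroup G} (hL : L.IsSubnormal) : pCore 2 ↥L = ⊥ := by
  have h1 := Cfsg.Agent.H11.Cores.map_pCore_of_isSubnormal (G := G) 2 (H := L) hL
  rw [hG2, bot_inf_eq] at h1
  exact (Subgroup.map_eq_bot_iff_of_injective _ L.subtype_injective).1 h1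

theorem fit_bot (hG2 : pCore 2 G = ⊥) (hGO : oddCore G = ⊥) : fittingSubgroup G = ⊥ := by
  rw [Cfsg.Agent.H11.Cores.fittingSubgroup_eq_iSup_pCore, eq_bot_iff]
  apply iSup_le
  intro q
  by_cases hq : (q : ℕ) = 2
  · rw [hq, hG2]
  · rw [← hGO]
    haveI : Fact (q : ℕ).Prime := ⟨q.2⟩
    apply Cfsg.Agent.H11.Cores.le_pPrimeCore 2
    obtain ⟨k, hk⟩ := IsPGroup.iff_card.1 (Cfsg.Agent.H11.Cores.pCore_isPGroup (G := G) (q : ℕ))
    rw [hk]
    exact Nat.Coprime.pow_left _ ((Nat.coprime_primes q.2 Nat.prime_two).2 hq)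

theorem sn_abelian (hG2 : pCore 2 G = ⊥) (hGO : oddCore G = ⊥) {A : Subgroup G} (hA : A.IsSubnormal)
    (hab : ∀ a ∈ A, ∀ b ∈ A, a * b = b * a) : A = ⊥ := by
  rw [eq_bot_iff, ← fit_bot hG2 hGO]
  apply Cfsg.Agent.H11.Cores.le_fittingSubgroup_of_isSubnormal hA
  apply Cfsg.Agent.H11.FStar.isNilpotent_of_isMulCommutative
  exact ⟨⟨fun a b => Subtype.ext (hab a a.2 b b.2)⟩⟩

theorem sn_center (hG2 : pCore 2 G = ⊥) (hGO : oddCore G = ⊥) {L : Subgroup G} (hL : L.IsSubnormal)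
    {z : G} (hz : z ∈ L) (hzL : ∀ n ∈ L, z * n = n * z) : z = 1 := by
  have h1 : ((Subgroup.center ↥L).map L.subtype).IsSubnormal :=
    Subgroup.IsSubnormal.trans' (Subgroup.Normal.isSubnormal inferInstance) hL
  have h2 := sn_abelian hG2 hGO h1 (by
    rintro _ ⟨a, ha, rfl⟩ _ ⟨b, hb, rfl⟩
    exact congrArg Subtype.val ((Subgroup.mem_center_iff.1 hb) a))
  have h3 : z ∈ (Subgroup.center ↥L).map L.subtype :=
    ⟨⟨z, hz⟩, Subgroup.mem_center_iff.2 (fun g => Subtype.ext (hzL g g.2).symm), rfl⟩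
  rw [h2, Subgroup.mem_bot] at h3
  exact h3

theorem cent_bot (hG2 : pCore 2 G = ⊥) {U N : Subgroup G} [hNn : N.Normal] (hU : ∀ u ∈ U, u * u = 1)
    (hNZ : ∀ z ∈ N, (∀ n ∈ N, z * n = n * z) → z = 1) (htop : U ⊔ N = ⊤) {y : G}
    (hy : ∀ n ∈ N, y * n = n * y) : y = 1 := by
  have hsq : ∀ y : G, (∀ n ∈ N, y * n = n * y) → y * y = 1 := by
    intro y hy
    apply hNZ
    · have h1 : y ∈ U ⊔ N := by rw [htop]; exact Subgroup.mem_top _
      obtain ⟨n, hn, u, hu, hye⟩ := sup_decomp (fun u _ n hn => hNn.conj_mem n hn u) h1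
      have h2 : y * y = n * (u * n * u⁻¹) * (u * u) := by rw [hye]; group
      rw [h2, hU u hu, mul_one]
      exact N.mul_mem hn (hNn.conj_mem n hn u)
    · intro n hn
      rw [mul_assoc, hy n hn, ← mul_assoc, hy n hn, mul_assoc]
  have hm : ∀ y, y ∈ Subgroup.centralizer (N : Set G) → ∀ n ∈ N, y * n = n * y := by
    intro y h n hn
    exact (Subgroup.mem_centralizer_iff.1 h n hn).symm
  have h1 : IsPGroup 2 (Subgroup.centralizer (N : Set G)) := by
    intro x
    refine ⟨1, Subtype.ext ?_⟩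
    show (x : G) ^ (2 ^ 1) = 1
    rw [pow_one, sq]
    exact hsq x (hm x x.2)
  haveI : (Subgroup.centralizer (N : Set G)).Normal := Subgroup.normal_centralizer
  have h2 : Subgroup.centralizer (N : Set G) ≤ pCore 2 G := Cfsg.Agent.H11.Cores.le_pCore 2 h1
  rw [hG2, le_bot_iff] at h2
  have h3 : y ∈ Subgroup.centralizer (N : Set G) :=
    Subgroup.mem_centralizer_iff.2 (fun n hn => (hy n hn).symm)
  rw [h2, Subgroup.mem_bot] at h3
  exact h3

theorem vn_top (hmin : MinG G) {V N : Subgroup G} [hNn : N.Normal] (hV : ∀ u ∈ V, u * u = 1)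
    (hV1 : V ≠ ⊥) (hG2 : pCore 2 G = ⊥) (hGO : oddCore G = ⊥) (hS : Cfsg.IsSidkiPair V)
    (hN1 : N ≠ ⊥) : V ⊔ N = ⊤ := by
  by_contra htop
  have hNs : N.IsSubnormal := Subgroup.Normal.isSubnormal hNn
  have hN2 := sn_pCore hG2 hNs
  have hNZ : ∀ z ∈ N, (∀ n ∈ N, z * n = n * z) → z = 1 := fun z hz h => sn_center hG2 hGO hNs hz h
  obtain ⟨x, hx, hx1, hxc⟩ := ind_sub hmin htop le_sup_left hV hV1
    (fun h _ v hv ho hinv => hS h v hv ho hinv)
  have hxN := core_cent (fun u _ n hn => hNn.conj_mem n hn u) hN2 hxc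
  refine cent_contra hmin (N := N) hV hG2 (sidC hmin hV hS hN2 (fun z hz h _ => hNZ z hz h) ?_) ?_
    hx hx1 hxN
  · intro U hUV _ hU
    exact hx1 (cent_bot hG2 (fun u hu => hV u (hUV hu)) hNZ hU hxN)
  · intro hC
    apply hN1
    rw [eq_bot_iff]
    intro z hz
    apply Subgroup.mem_bot.2
    apply hNZ z hz
    intro n hn
    have h1 : z ∈ Subgroup.centralizer (N : Set G) := by rw [hC]; exact Subgroup.mem_top _
    exact (Subgroup.mem_centralizer_iff.1 h1 n hn).symm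

theorem simple_step (hmin : MinG G) {V N : Subgroup G} [hNn : N.Normal] (hV : ∀ u ∈ V, u * u = 1)
    (hV1 : V ≠ ⊥)
    (hG2 : pCore 2 G = ⊥) (hGO : oddCore G = ⊥) (hS : Cfsg.IsSidkiPair V)
    (hNm : ∀ K : Subgroup G, K.Normal → K ≠ ⊥ → K ≤ N → K = N)
    (htop : V ⊔ N = ⊤) (hcN : ∀ y : G, (∀ n ∈ N, y * n = n * y) → y = 1)
    {L : Subgroup G} (hLN : L ≤ N) (hL1 : L ≠ ⊥) (hLn : ∀ n ∈ N, ∀ x ∈ L, n * x * n⁻¹ ∈ L)
    (hLm : ∀ K : Subgroup G, K ≤ L → K ≠ ⊥ → (∀ n ∈ N, ∀ x ∈ K, n * x * n⁻¹ ∈ K) → K = L) :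
    L = N := by
  by_contra hne
  have hLs : L.IsSubnormal := by
    refine Subgroup.IsSubnormal.trans hLN (Subgroup.Normal.isSubnormal ?_)
      (Subgroup.Normal.isSubnormal hNn)
    exact ⟨fun x hx g => hLn g g.2 x hx⟩
  have hL2 := sn_pCore hG2 hLs
  have factA : ∀ w x : G, x ∈ L → x ≠ 1 → w * x * w⁻¹ ∈ L → ∀ y ∈ L, w * y * w⁻¹ ∈ L := by
    intro w x hx hx1 hwx y hy
    let K : Subgroup G := L ⊓ L.comap (MulAut.conj w).toMonoidHom
    have hKm : ∀ z, z ∈ K ↔ z ∈ L ∧ w * z * w⁻¹ ∈ L := fun z => Iff.rfl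
    have hKL : K = L := by
      apply hLm K inf_le_left
      · intro h
        have h1 : x ∈ K := (hKm x).2 ⟨hx, hwx⟩
        rw [h, Subgroup.mem_bot] at h1
        exact hx1 h1
      · intro n hn z hz
        obtain ⟨hz1, hz2⟩ := (hKm z).1 hz
        refine (hKm _).2 ⟨hLn n hn z hz1, ?_⟩
        have h1 : w * (n * z * n⁻¹) * w⁻¹ = (w * n * w⁻¹) * (w * z * w⁻¹) * (w * n * w⁻¹)⁻¹ := by
          group
        rw [h1]
        exact hLn _ (hNn.conj_mem n hn w) _ hz2
    have h1 : y ∈ K := by rw [hKL]; exact hy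
    exact ((hKm y).1 h1).2
  have factB : ∀ w : G, (¬ ∀ y ∈ L, w * y * w⁻¹ ∈ L) → ∀ x ∈ L, ∀ y ∈ L,
      x * (w * y * w⁻¹) = (w * y * w⁻¹) * x := by
    intro w hw x hx y hy
    by_contra hcon
    have hc : w * ((w⁻¹ * x * w) * y * (w⁻¹ * x * w)⁻¹ * y⁻¹) * w⁻¹ =
        x * ((w * y * w⁻¹) * x⁻¹ * (w * y * w⁻¹)⁻¹) := by group
    have hwx : w⁻¹ * x * w ∈ N := by
      have h1 := hNn.conj_mem x (hLN hx) w⁻¹
      rwa [inv_inv] at h1
    have h1 : (w⁻¹ * x * w) * y * (w⁻¹ * x * w)⁻¹ * y⁻¹ ∈ L :=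
      L.mul_mem (hLn _ hwx y hy) (L.inv_mem hy)
    have h2 : x * ((w * y * w⁻¹) * x⁻¹ * (w * y * w⁻¹)⁻¹) ∈ L :=
      L.mul_mem hx (hLn _ (hNn.conj_mem y (hLN hy) w) _ (L.inv_mem hx))
    refine hw (factA w _ h1 ?_ (by rw [hc]; exact h2))
    intro h3
    apply hcon
    rw [h3, mul_one, mul_inv_cancel] at hc
    have h4 : x * (w * y * w⁻¹) * x⁻¹ = w * y * w⁻¹ := by
      have h5 : x * ((w * y * w⁻¹) * x⁻¹ * (w * y * w⁻¹)⁻¹) =
        (x * (w * y * w⁻¹) * x⁻¹) * (w * y * w⁻¹)⁻¹ := by group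
      rw [h5] at hc
      exact (mul_inv_eq_one.1 hc.symm)
    calc x * (w * y * w⁻¹) = (x * (w * y * w⁻¹) * x⁻¹) * x := by group
      _ = (w * y * w⁻¹) * x := by rw [h4]
  have hvi : ∀ v ∈ V, v⁻¹ = v := fun v hv => inv_eq_of_mul_eq_one_right (hV v hv)
  let V0 : Subgroup G :=
    { carrier := {v | v ∈ V ∧ ∀ y ∈ L, v * y * v⁻¹ ∈ L}
      mul_mem' := by
        rintro a b ⟨ha, ha'⟩ ⟨hb, hb'⟩
        refine ⟨V.mul_mem ha hb, fun y hy => ?_⟩
        have h1 : a * b * y * (a * b)⁻¹ = a * (b * y * b⁻¹) * a⁻¹ := by group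
        rw [h1]
        exact ha' _ (hb' y hy)
      one_mem' := ⟨V.one_mem, fun y hy => by simpa using hy⟩
      inv_mem' := by
        rintro a ⟨ha, ha'⟩
        rw [Set.mem_setOf_eq, hvi a ha]
        exact ⟨ha, ha'⟩ }
  have hV0m : ∀ v, v ∈ V0 ↔ v ∈ V ∧ ∀ y ∈ L, v * y * v⁻¹ ∈ L := fun v => Iff.rfl
  by_cases hV0 : V0 = ⊥
  · -- no nontrivial element of V normalizes L
    have hnn : ∀ v ∈ V, v ≠ 1 → ¬ ∀ y ∈ L, v * y * v⁻¹ ∈ L := by
      intro v hv hv1 h
      have h1 : v ∈ V0 := (hV0m v).2 ⟨hv, h⟩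
      rw [hV0, Subgroup.mem_bot] at h1
      exact hv1 h1
    obtain ⟨v, hv⟩ := Subgroup.ne_bot_iff_exists_ne_one.1 hV1
    have hvV := v.2
    have hv1 : (v : G) ≠ 1 := fun h => hv (Subtype.ext h)
    generalize (v : G) = v at hvV hv1
    -- an odd element
    have hodd : ∃ a ∈ L, Odd (orderOf a) ∧ a ≠ 1 := by
      by_contra hcon
      push Not at hcon
      have h1 : IsPGroup 2 (⊤ : Subgroup ↥L) := by
        rintro ⟨x, -⟩
        obtain ⟨k, b, hb1, hab⟩ := Nat.exists_eq_two_pow_mul_odd (orderOf_pos (x : G)).ne'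
        have h2 : (x : G) ^ 2 ^ k = 1 := by
          apply hcon _ (L.pow_mem x.2 _)
          apply hb1.of_dvd_nat
          apply orderOf_dvd_of_pow_eq_one
          rw [← pow_mul, ← hab, pow_orderOf_eq_one]
        exact ⟨k, Subtype.ext (Subtype.ext h2)⟩
      have h2 : (⊤ : Subgroup ↥L) ≤ pCore 2 ↥L := Cfsg.Agent.H11.Cores.le_pCore 2 h1
      rw [hL2] at h2
      apply hL1
      rw [eq_bot_iff]
      intro x hx
      have h3 : (⟨x, hx⟩ : ↥L) ∈ (⊥ : Subgroup ↥L) := h2 (Subgroup.mem_top _)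
      exact congrArg Subtype.val (Subgroup.mem_bot.1 h3)
    obtain ⟨a, ha, hao, ha1⟩ := hodd
    have hBv := factB v (hnn v hvV hv1)
    have hvv := hV v hvV
    have hvinv := hvi v hvV
    set b := v * a * v⁻¹ with hb
    have hbo : orderOf b = orderOf a := by
      rw [hb]
      exact orderOf_injective (MulAut.conj v).toMonoidHom (MulAut.conj v).injective a
    have hab : Commute a b := hBv a ha a ha
    have hvb : v * b * v⁻¹ = a := by
      rw [hb, hvinv]
      calc v * (v * a * v) * v = (v * v) * a * (v * v) := by group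
        _ = a := by rw [hvv]; group
    set h := a⁻¹ * b with hh
    have hho : Odd (orderOf h) := by
      have h1 : orderOf (a⁻¹ * b) ∣ orderOf a⁻¹ * orderOf b :=
        (hab.inv_left).orderOf_mul_dvd_mul_orderOf
      rw [orderOf_inv, hbo] at h1
      exact (Nat.odd_mul.2 ⟨hao, hao⟩).of_dvd_nat h1
    have hvh : v * h * v⁻¹ = h⁻¹ := by
      calc v * h * v⁻¹ = (v * a * v⁻¹)⁻¹ * (v * b * v⁻¹) := by rw [hh]; group
        _ = b⁻¹ * a := by rw [hvb, ← hb]
        _ = h⁻¹ := by rw [hh]; group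
    obtain ⟨w, hw, hw1, hwc⟩ := hS h v hvV hho hvh
    have hwh : w * h * w⁻¹ = h := by rw [hwc, mul_inv_cancel_right]
    by_cases hwv : w = v
    · rw [hwv, hvh] at hwh
      have h1 : h * h = 1 := by
        nth_rewrite 1 [← hwh]
        rw [inv_mul_cancel]
      have h2 : orderOf h ∣ 2 := orderOf_dvd_of_pow_eq_one (by rw [sq, h1])
      have h3 : h = 1 := by
        rw [← orderOf_eq_one_iff]
        exact Nat.eq_one_of_dvd_coprimes ((Nat.coprime_two_right).2 hho) (dvd_refl _) h2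
      have h4 : b = a := by
        rw [hh] at h3
        exact (inv_mul_eq_one.1 h3).symm
      exact hnn v hvV hv1 (factA v a ha ha1 (by rw [← hb, h4]; exact ha))
    · have hBw := factB w (hnn w hw hw1)
      have hwv1 : w * v ≠ 1 := by
        intro h1
        apply hwv
        rw [← hvi v hvV]
        exact eq_inv_of_mul_eq_one_left h1
      have hBwv := factB (w * v) (hnn (w * v) (V.mul_mem hw hvV) hwv1)
      have hxh : ∀ x ∈ L, Commute x h := by
        intro x hx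
        have h1 : h = (w * a * w⁻¹)⁻¹ * (w * v * a * (w * v)⁻¹) := by
          rw [← hwh, hh, hb]; group
        rw [h1]
        have h2 : Commute x (w * a * w⁻¹) := hBw x hx a ha
        have h3 : Commute x (w * v * a * (w * v)⁻¹) := hBwv x hx a ha
        exact (h2.inv_right).mul_right h3
      apply ha1
      apply sn_center hG2 hGO hLs ha
      intro x hx
      have h1 : Commute x b := hBv x hx a ha
      have h2 : a = b * h⁻¹ := by
        rw [hh, mul_inv_rev, inv_inv]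
        group
      have h3 : Commute x a := by
        rw [h2]
        exact h1.mul_right (hxh x hx).inv_right
      exact h3.eq.symm
  · -- V0 ≠ 1
    have hf : ∀ u ∈ V0, (∀ n ∈ L, u * n = n * u) → u = 1 := by
      intro u hu huc
      have huV := ((hV0m u).1 hu).1
      have hcl : Subgroup.normalClosure (L : Set G) = N := by
        apply hNm _ inferInstance
        · intro h
          apply hL1
          rw [eq_bot_iff, ← h]
          exact Subgroup.le_normalClosure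
        · exact Subgroup.normalClosure_le_normal hLN
      have hle : Subgroup.normalClosure (L : Set G) ≤ Subgroup.centralizer {u} := by
        rw [Subgroup.normalClosure, Subgroup.closure_le]
        intro x hx
        obtain ⟨y, hy, hyx⟩ := Group.mem_conjugatesOfSet_iff.1 hx
        obtain ⟨g, rfl⟩ := isConj_iff.1 hyx
        have hg : g ∈ V ⊔ N := by rw [htop]; exact Subgroup.mem_top _
        obtain ⟨n, hn, v, hv, rfl⟩ := sup_decomp (fun u _ n hn => hNn.conj_mem n hn u) hg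
        have hn' : v⁻¹ * n * v ∈ N := by
          have h1 := hNn.conj_mem n hn v⁻¹
          rwa [inv_inv] at h1
        have hy' := hLn _ hn' y hy
        set y' := (v⁻¹ * n * v) * y * (v⁻¹ * n * v)⁻¹ with hy'e
        have h1 : n * v * y * (n * v)⁻¹ = v * y' * v⁻¹ := by rw [hy'e]; group
        rw [SetLike.mem_coe, Subgroup.mem_centralizer_singleton_iff, h1]
        have h2 : u * v = v * u := comm_of_el hV huV hv
        have h3 : u * v⁻¹ = v⁻¹ * u := by rw [hvi v hv]; exact h2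
        calc v * y' * v⁻¹ * u = v * y' * (u * v⁻¹) := by rw [h3]; group
          _ = v * (u * y') * v⁻¹ := by rw [huc y' hy']; group
          _ = (u * v) * y' * v⁻¹ := by rw [h2]; group
          _ = u * (v * y' * v⁻¹) := by group
      apply hcN
      intro n hn
      rw [← hcl] at hn
      exact ((Subgroup.mem_centralizer_singleton_iff).1 (hle hn)).symm
    have hnt : V0 ⊔ L ≠ ⊤ := by
      intro h
      apply hne
      apply hNm L _ hL1 hLN
      constructor
      intro y hy g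
      have hg : g ∈ V0 ⊔ L := by rw [h]; exact Subgroup.mem_top _
      obtain ⟨l, hl, v, hv, rfl⟩ := sup_decomp (fun u hu n hn => ((hV0m u).1 hu).2 n hn) hg
      have h1 : l * v * y * (l * v)⁻¹ = l * (v * y * v⁻¹) * l⁻¹ := by group
      rw [h1]
      exact hLn l (hLN hl) _ (((hV0m v).1 hv).2 y hy)
    obtain ⟨u, hu, n, hn, hno, huinv, hun⟩ := key hmin (fun u hu => hV u ((hV0m u).1 hu).1)
      (fun u hu n hn => ((hV0m u).1 hu).2 n hn) hL2 hV0 hf hnt
    obtain ⟨w, hw, hw1, hwc⟩ := hS n u ((hV0m u).1 hu).1 hno huinv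
    have hn1 : n ≠ 1 := by
      intro h
      apply hV0
      rw [eq_bot_iff]
      intro w hw
      exact Subgroup.mem_bot.2 (hun w hw (by rw [h]; group))
    have h1 : w ∈ V0 := (hV0m w).2 ⟨hw, factA w n hn hn1 (by rw [hwc, mul_inv_cancel_right]; exact hn)⟩
    exact hw1 (hun w h1 hwc)

theorem final (hmin : MinG G) {V : Subgroup G} (hV : ∀ u ∈ V, u * u = 1) (hV1 : V ≠ ⊥)
    (hVO : V ⊓ Cfsg.pCore 2 G = ⊥) (hS : Cfsg.IsSidkiPair V) :
    IsSimpleGroup ↥(Cfsg.generalizedFittingSubgroup G) ∧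
      ¬ IsMulCommutative ↥(Cfsg.generalizedFittingSubgroup G) ∧
      V ⊔ Cfsg.generalizedFittingSubgroup G = ⊤ := by
  have hG2 := stepB hmin hV hV1 hVO hS
  have hGO := stepA hmin hV hV1 hG2 hS
  have hGnt : (⊤ : Subgroup G) ≠ ⊥ := by
    intro h
    apply hV1
    rw [eq_bot_iff, ← h]
    exact le_top
  obtain ⟨N, hNmin⟩ := Set.Finite.exists_minimal (s := {N : Subgroup G | N.Normal ∧ N ≠ ⊥})
    (Set.toFinite _) ⟨⊤, inferInstance, hGnt⟩
  obtain ⟨⟨hNn, hN1⟩, hNm⟩ := hNmin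
  have hmin' : ∀ K : Subgroup G, K.Normal → K ≠ ⊥ → K ≤ N → K = N := fun K hK hK1 hKN =>
    le_antisymm hKN (hNm ⟨hK, hK1⟩ hKN)
  have hNs : N.IsSubnormal := Subgroup.Normal.isSubnormal hNn
  have hNZ : ∀ z ∈ N, (∀ n ∈ N, z * n = n * z) → z = 1 := fun z hz h => sn_center hG2 hGO hNs hz h
  have htop := vn_top hmin (N := N) hV hV1 hG2 hGO hS hN1
  have hcN : ∀ y : G, (∀ n ∈ N, y * n = n * y) → y = 1 := fun y hy =>
    cent_bot (N := N) hG2 hV hNZ htop hy
  haveI : Nontrivial ↥N := (Subgroup.nontrivial_iff_ne_bot N).2 hN1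
  have hsimp : IsSimpleGroup ↥N := by
    refine ⟨fun K hK => ?_⟩
    by_cases hK1 : K = ⊥
    · exact Or.inl hK1
    right
    obtain ⟨L, hLmin⟩ := Set.Finite.exists_minimal
      (s := {L : Subgroup G | L ≤ K.map N.subtype ∧ L ≠ ⊥ ∧ ∀ n ∈ N, ∀ x ∈ L, n * x * n⁻¹ ∈ L})
      (Set.toFinite _) ⟨K.map N.subtype, le_rfl,
        (fun h => hK1 ((Subgroup.map_eq_bot_iff_of_injective _ N.subtype_injective).1 h)), (by
          rintro n hn _ ⟨x, hx, rfl⟩
          exact ⟨⟨n, hn⟩ * x * ⟨n, hn⟩⁻¹, hK.conj_mem x hx _, rfl⟩)⟩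
    obtain ⟨⟨hLK, hL1, hLn⟩, hLm⟩ := hLmin
    have hKN : K.map N.subtype ≤ N := by
      rintro _ ⟨x, hx, rfl⟩
      exact x.2
    have hLN : L = N := simple_step hmin hV hV1 hG2 hGO hS hmin' htop hcN (hLK.trans hKN) hL1 hLn
      (fun K' hK' hK1' hKn' => le_antisymm hK' (hLm ⟨hK'.trans hLK, hK1', hKn'⟩ hK'))
    rw [eq_top_iff]
    intro x _
    have h1 : (x : G) ∈ K.map N.subtype := hLK (by rw [hLN]; exact x.2)
    obtain ⟨y, hy, hyx⟩ := h1
    have h2 : y = x := Subtype.ext hyx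
    rw [← h2]; exact hy
  have hna : ¬ IsMulCommutative ↥N := by
    intro h
    apply hN1
    apply sn_abelian hG2 hGO hNs
    intro a ha b hb
    exact congrArg Subtype.val (h.is_comm.comm (⟨a, ha⟩ : ↥N) ⟨b, hb⟩)
  have hcomp : IsComponent N :=
    ⟨hNs, Cfsg.Agent.H11.Components.isQuasisimple_of_isSimpleGroup hna⟩
  have hFN : Cfsg.generalizedFittingSubgroup G = N := by
    rw [generalizedFittingSubgroup, fit_bot hG2 hGO, sup_bot_eq]
    apply le_antisymm
    · rw [Cfsg.Agent.H11.Components.layer_le_iff]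
      intro K hK
      rcases Cfsg.Agent.H11.Components.le_or_commutator_eq_bot hK hNs with h | h
      · exact h
      · exfalso
        apply Cfsg.Agent.H11.Components.IsComponent.ne_bot hK
        rw [eq_bot_iff]
        intro y hy
        apply Subgroup.mem_bot.2
        apply hcN
        intro n hn
        have h1 := Subgroup.commutator_mem_commutator hy hn
        rw [h, Subgroup.mem_bot] at h1
        exact commutatorElement_eq_one_iff_mul_comm.1 h1
    · exact Cfsg.Agent.H11.Components.le_layer hcomp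
  rw [hFN]
  exact ⟨hsimp, hna, htop⟩

end

end Cfsg.Agent.H2.SP
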