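import Mathlib
import Cfsg.Agent.H2_ZJ2
import Cfsg.Agent.S0607

/-! The characteristic subgroup `W(S)` (`stableNormalClosure`). -/

set_option autoImplicit false
set_option linter.style.haveILetI false

open Subgroup Cfsg
open scoped commutatorElement Pointwise

universe u

namespace Cfsg.Agent.H2.WS

open Cfsg.Agent.H2.Basic Cfsg.Agent.H2.Good Cfsg.Agent.H1.Basic Cfsg.Agent.H2.Thompson Cfsg.Agent.H2.ThompFact
  Cfsg.Agent.H2.Quad

theorem quad_of_elt {G : Type*} [Group G] {V : Subgroup G} (_hV : ∀ x ∈ V, ∀ y ∈ V, x * y = y * x) {h : G}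
    (hh : h ∈ normalizer (V : Set G)) (hq : ∀ v ∈ V, ⁅h, ⁅h, v⁆⁆ = 1) :
    ⁅⁅V, zpowers h⁆, zpowers h⁆ = ⊥ := by
  have key : ∀ g ∈ zpowers h, (∀ v ∈ V, h * ⁅v, g⁆ = ⁅v, g⁆ * h ∧ ⁅v, g⁆ ∈ V) ∧
      ∀ u ∈ V, h * u = u * h → g * u = u * g := by
    intro g hg
    rw [zpowers_eq_closure] at hg
    have h0 : ∀ g ∈ closure {h}, ∀ u ∈ V, h * u = u * h → g * u = u * g := by
      intro g hg u hu huh
      induction hg using closure_induction with
      | mem x hx => rw [Set.mem_singleton_iff.1 hx]; exact huh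
      | one => rw [one_mul, mul_one]
      | mul x y _ _ hx hy => rw [mul_assoc, hy, ← mul_assoc, hx, mul_assoc]
      | inv x _ hx =>
        have : Commute x u := hx
        exact this.inv_left.eq
    refine ⟨?_, h0 g hg⟩
    induction hg using closure_induction with
    | mem x hx =>
      intro v hv
      rw [Set.mem_singleton_iff.1 hx]
      have h1 : ⁅h, v⁆ ∈ V := by
        rw [commutatorElement_def]
        exact mul_mem ((mem_normalizer_iff.1 hh v).1 hv) (inv_mem hv)
      have h2 : ⁅v, h⁆ = ⁅h, v⁆⁻¹ := (commutatorElement_inv h v).symm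
      have h3 : Commute h ⁅h, v⁆ := commutatorElement_eq_one_iff_commute.1 (hq v hv)
      rw [h2]
      exact ⟨h3.inv_right.eq, inv_mem h1⟩
    | one =>
      intro v hv
      rw [commutatorElement_one_right, mul_one, one_mul]
      exact ⟨rfl, one_mem _⟩
    | mul x y hxc hyc hx hy =>
      intro v hv
      have h1 : ⁅v, x * y⁆ = ⁅v, x⁆ * ⁅v, y⁆ := by
        have h2 : x * ⁅v, y⁆ = ⁅v, y⁆ * x := h0 x hxc _ (hy v hv).2 (hy v hv).1
        calc ⁅v, x * y⁆ = ⁅v, x⁆ * (x * ⁅v, y⁆) * x⁻¹ := by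
              simp only [commutatorElement_def]; group
          _ = ⁅v, x⁆ * ⁅v, y⁆ := by rw [h2]; group
      rw [h1]
      refine ⟨?_, mul_mem (hx v hv).2 (hy v hv).2⟩
      rw [← mul_assoc, (hx v hv).1, mul_assoc, (hy v hv).1, mul_assoc]
    | inv x hxc hx =>
      intro v hv
      have h1 : ⁅v, x⁻¹⁆ = ⁅v, x⁆⁻¹ := by
        have h2 : Commute x ⁅v, x⁆ := h0 x hxc _ (hx v hv).2 (hx v hv).1
        calc ⁅v, x⁻¹⁆ = x⁻¹ * (⁅v, x⁆⁻¹ * x) := by
              simp only [commutatorElement_def]; group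
          _ = ⁅v, x⁆⁻¹ := by rw [← h2.inv_right.eq]; group
      rw [h1]
      have h3 : Commute h ⁅v, x⁆ := (hx v hv).1
      exact ⟨h3.inv_right.eq, inv_mem (hx v hv).2⟩
  rw [eq_bot_iff, commutator_le]
  intro x hx y hy
  rw [mem_bot, commutatorElement_eq_one_iff_mul_comm]
  have h1 : ⁅V, zpowers h⁆ ≤ V ⊓ centralizer {h} := by
    rw [commutator_le]
    intro v hv g hg
    obtain ⟨h2, h3⟩ := (key g hg).1 v hv
    exact ⟨h3, mem_centralizer_singleton_iff.2 h2.symm⟩
  obtain ⟨h2, h3⟩ := h1 hx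
  exact ((key y hy).2 x h2 (mem_centralizer_singleton_iff.1 h3).symm).symm

/-- The set of elements acting quadratically on a normal abelian subgroup `V`, under stability, is
contained in `C(V) (S ∩ D)`. -/
theorem quad_decomp {H : Type u} [Group H] [Finite H] {p : ℕ} [hp : Fact p.Prime] {V : Subgroup H} [hVn : V.Normal]
    (hV : ∀ x ∈ V, ∀ y ∈ V, x * y = y * x) (hst : IsPStableOn p V) (P : Sylow p H) {h : H}
    (hq : ∀ v ∈ V, ⁅h, ⁅h, v⁆⁆ = 1) : ∃ c ∈ centralizer (V : Set H), ∃ s ∈ (P : Subgroup H), h = c * s := by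
  set C := centralizer (V : Set H) with hC
  have h1 := hst h (quad_of_elt hV (by rw [normalizer_eq_top]; trivial) hq)
  set D := (pCore p (H ⧸ C)).comap (QuotientGroup.mk' C) with hD
  have hDn : D.Normal := (Cfsg.Agent.H1.Nilp.pCore_normal p).comap _
  have hhD : h ∈ D := h1
  have hCD : C ≤ D := Cfsg.Agent.H1.Hall.le_comap_mk _ _
  -- `D = C (P ∩ D)`
  obtain ⟨k, hk⟩ : ∃ k, C.relIndex D = p ^ k := by
    rw [Cfsg.Agent.H1.Hall.relIndex_comap_mk]
    exact IsPGroup.iff_card.1 (Cfsg.Agent.H1.Nilp.pCore_isPGroup p)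
  have h2 : ¬ p ∣ ((P : Subgroup H) ⊓ D).relIndex D := Cfsg.Agent.H2.Fusion.not_dvd_relIndex_inf P D
  have h3 : C ⊔ ((P : Subgroup H) ⊓ D) = D := by
    apply le_antisymm (sup_le hCD inf_le_right)
    rw [← relIndex_eq_one]
    have a1 : (C ⊔ ((P : Subgroup H) ⊓ D)).relIndex D ∣ p ^ k := by
      rw [← hk]; exact relIndex_dvd_of_le_left D le_sup_left
    have a2 : (C ⊔ ((P : Subgroup H) ⊓ D)).relIndex D ∣ ((P : Subgroup H) ⊓ D).relIndex D :=
      relIndex_dvd_of_le_left D le_sup_right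
    obtain ⟨j, -, hj⟩ := (Nat.dvd_prime_pow hp.out).1 a1
    rcases j with _ | j
    · rw [hj, pow_zero]
    · exfalso
      apply h2
      refine dvd_trans ?_ a2
      rw [hj]; exact dvd_pow_self p (by omega)
  rw [← h3, mem_sup_of_normal_left] at hhD
  obtain ⟨c, hc, s, hs, h4⟩ := hhD
  exact ⟨c, hc, s, hs.1, h4.symm⟩

/-- key closure property: if all quadratic elements of the Sylow subgroup `P` centralize `U ≤ V` then all
quadratic elements of `H` do. -/
theorem centralizes_of_sylow {H : Type u} [Group H] [Finite H] {p : ℕ} [hp : Fact p.Prime] {V : Subgroup H} [hVn : V.Normal]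
    (hV : ∀ x ∈ V, ∀ y ∈ V, x * y = y * x) (hst : IsPStableOn p V) (P : Sylow p H) {u : H} (hu : u ∈ V)
    (hs : ∀ s ∈ (P : Subgroup H), (∀ v ∈ V, ⁅s, ⁅s, v⁆⁆ = 1) → s * u = u * s) {h : H}
    (hq : ∀ v ∈ V, ⁅h, ⁅h, v⁆⁆ = 1) : h * u = u * h := by
  obtain ⟨c, hc, s, hsP, rfl⟩ := quad_decomp hV hst P hq
  have hcv : ∀ v ∈ V, c * v = v * c := fun v hv => ((mem_centralizer_iff.1 hc) v hv).symm
  have hact : ∀ v ∈ V, ⁅c * s, v⁆ = ⁅s, v⁆ := by
    intro v hv
    have h1 : s * v * s⁻¹ ∈ V := hVn.conj_mem v hv s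
    have h2 := hcv _ h1
    rw [commutatorElement_def, commutatorElement_def]
    calc c * s * v * (c * s)⁻¹ * v⁻¹ = (c * (s * v * s⁻¹)) * c⁻¹ * v⁻¹ := by group
      _ = s * v * s⁻¹ * v⁻¹ := by rw [h2]; group
  have hsq : ∀ v ∈ V, ⁅s, ⁅s, v⁆⁆ = 1 := by
    intro v hv
    have h1 := hq v hv
    rw [hact v hv] at h1
    have h2 : ⁅s, v⁆ ∈ V := by
      rw [commutatorElement_def]
      exact mul_mem (hVn.conj_mem v hv s) (inv_mem hv)
    rwa [hact _ h2] at h1
  have h1 := hs s hsP hsq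
  rw [mul_assoc, h1, ← mul_assoc, hcv u hu, mul_assoc]

/-! ### The family defining `W(S)` -/

section family

variable {p : ℕ}

/-- the family of subgroups in the definition of `stableNormalClosure` -/
def Fam (p : ℕ) (S : Type u) [Group S] (W : Subgroup S) : Prop :=
  omegaOne p (center S) ≤ W ∧ ∀ (H : Type u) [Group H] (τ : S →* H), IsStableEmbedding p τ → (W.map τ).Normal

theorem snc_le {S : Type u} [Group S] {W : Subgroup S} (h : Fam p S W) : stableNormalClosure p S ≤ W := sInf_le h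

theorem OZ_le_snc {S : Type u} [Group S] : omegaOne p (center S) ≤ stableNormalClosure p S :=
  le_sInf fun _ h => h.1

theorem oct_map_equiv {S S' : Type*} [Group S] [Group S'] (e : S ≃* S') :
    (omegaCenterThompson p S).map e.toMonoidHom = omegaCenterThompson p S' := by
  rw [omegaCenterThompson, omegaCenterThompson, ← omegaOne_map _ _ (e.injective.comp Subtype.val_injective),
    Cfsg.Agent.H2.ZJ2.center_map _ e.injective.injOn, thompson_map_equiv]

theorem oct_fam {S : Type u} [Group S] [Finite S] : Fam p S (omegaCenterThompson p S) := by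
  constructor
  · rw [omegaOne, closure_le]
    rintro x ⟨hx, hxp⟩
    obtain ⟨A, hA⟩ := exists_max p S
    have h1 : x ∈ A := by
      refine mem_of_centralizes (H := ⊤) le_top hA.1 (fun B _ hB => hA.2 B hB) (mem_top x) hxp ?_
      rw [mem_centralizer_iff]
      intro a _
      exact (mem_center_iff.1 hx) a
    refine mem_omegaOne ⟨le_thompson hA h1, ?_⟩ hxp
    refine mem_centralizer_iff.2 ?_
    intro a _
    exact (mem_center_iff.1 hx) a
  · intro H _ τ hτ
    obtain ⟨hinj, hfin, -, -, hn, -⟩ := hτ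
    rw [omegaCenterThompson, ← omegaOne_map _ _ (hinj.comp Subtype.val_injective),
      Cfsg.Agent.H2.ZJ2.center_map _ hinj.injOn]
    apply omegaOne_normal
    infer_instance

theorem snc_le_oct {S : Type u} [Group S] [Finite S] : stableNormalClosure p S ≤ omegaCenterThompson p S :=
  snc_le oct_fam

theorem snc_ea {S : Type u} [Group S] [Finite S] : IsElementaryAbelian p (stableNormalClosure p S) :=
  ea_of_le (omegaOne_ea (comm_center _)) snc_le_oct

theorem snc_fam {S : Type u} [Group S] [Finite S] : Fam p S (stableNormalClosure p S) := by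
  refine ⟨OZ_le_snc, ?_⟩
  intro H _ τ hτ
  refine ⟨?_⟩
  rintro _ ⟨w, hw, rfl⟩ g
  obtain ⟨w', hw', h⟩ := ((oct_fam (p := p) (S := S)).2 H τ hτ).conj_mem _ ⟨w, snc_le_oct hw, rfl⟩ g
  refine ⟨w', ?_, h⟩
  refine mem_sInf.2 ?_
  intro W hW
  obtain ⟨w₂, hw₂, h₂⟩ := (hW.2 H τ hτ).conj_mem _ ⟨w, (mem_sInf.1 hw) W hW, rfl⟩ g
  have : w' = w₂ := hτ.1 (h.trans h₂.symm)
  rw [this]; exact hw₂

theorem stable_comp {S S' H : Type u} [Group S] [Group S'] [Group H] (e : S ≃* S') {τ : S' →* H}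
    (h : IsStableEmbedding p τ) : IsStableEmbedding p (τ.comp e.toMonoidHom) := by
  obtain ⟨h1, h2, ⟨P, h3⟩, h4, h5, h6⟩ := h
  refine ⟨h1.comp e.injective, h2, ⟨P, ?_⟩, h4, ?_, ?_⟩
  · have : e.toMonoidHom.range = ⊤ := MonoidHom.range_eq_top.2 e.surjective
    rw [h3, MonoidHom.range_comp, this, MonoidHom.range_eq_map]
  · rw [← map_map, thompson_map_equiv]; exact h5
  · intro V _ hV
    apply h6 V
    rwa [← map_map, oct_map_equiv] at hV

theorem fam_comap {S S' : Type u} [Group S] [Group S'] (e : S ≃* S') {W : Subgroup S'} (h : Fam p S' W) :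
    Fam p S (W.comap e.toMonoidHom) := by
  constructor
  · rw [omegaOne, closure_le]
    rintro x ⟨hx, hxp⟩
    apply h.1
    refine mem_omegaOne ?_ ?_
    · rw [mem_center_iff]
      intro y
      obtain ⟨z, rfl⟩ := e.surjective y
      change e z * e x = e x * e z
      rw [← map_mul, (mem_center_iff.1 hx) z, map_mul]
    · change (e x) ^ p = 1
      rw [← map_pow, hxp, map_one]
  · intro H _ τ hτ
    have h1 : (W.comap e.toMonoidHom).map τ = W.map (τ.comp e.symm.toMonoidHom) := by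
      rw [← map_map]
      congr 1
      ext x
      constructor
      · intro hx
        exact ⟨e x, hx, e.symm_apply_apply x⟩
      · rintro ⟨y, hy, rfl⟩
        change e (e.symm y) ∈ W
        rw [e.apply_symm_apply]; exact hy
    rw [h1]
    exact h.2 H _ (stable_comp e.symm hτ)

theorem snc_map_equiv_le {S S' : Type u} [Group S] [Group S'] (e : S ≃* S') :
    (stableNormalClosure p S).map e.toMonoidHom ≤ stableNormalClosure p S' := by
  refine le_sInf fun W hW => ?_
  rw [map_le_iff_le_comap]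
  exact snc_le (fam_comap e hW)

theorem snc_map_equiv {S S' : Type u} [Group S] [Group S'] (e : S ≃* S') :
    (stableNormalClosure p S).map e.toMonoidHom = stableNormalClosure p S' := by
  apply le_antisymm (snc_map_equiv_le e)
  intro x hx
  have h1 := snc_map_equiv_le (p := p) e.symm ⟨x, hx, rfl⟩
  exact ⟨e.symm x, h1, e.apply_symm_apply x⟩

/-- No element of `S` acts quadratically and nontrivially on `W(S)`. -/
theorem snc_quad {S : Type u} [Group S] [Finite S] [hp : Fact p.Prime] {x : S}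
    (hq : ∀ w ∈ stableNormalClosure p S, ⁅x, ⁅x, w⁆⁆ = 1) : ∀ w ∈ stableNormalClosure p S, x * w = w * x := by
  set W := stableNormalClosure p S with hW
  set Qd : Set S := {x | ∀ w ∈ W, ⁅x, ⁅x, w⁆⁆ = 1} with hQd
  have hWc : ∀ x ∈ W, ∀ y ∈ W, x * y = y * x := fun x hx y hy => comm_of_ea snc_ea hx hy
  have hfam : Fam p S (W ⊓ centralizer Qd) := by
    constructor
    · refine le_inf OZ_le_snc ?_
      refine (omegaOne_le _).trans ?_
      intro z hz
      rw [mem_centralizer_iff]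
      intro a _
      exact (mem_center_iff.1 hz) a
    · intro H _ τ hτ
      obtain ⟨h1, h2, ⟨P, h3⟩, h4, h5, h6⟩ := id hτ
      have hVn : (W.map τ).Normal := snc_fam.2 H τ hτ
      have hVst : IsPStableOn p (W.map τ) := h6 (W.map τ) (map_mono snc_le_oct)
      have hVc : ∀ x ∈ W.map τ, ∀ y ∈ W.map τ, x * y = y * x := by
        rintro _ ⟨a, ha, rfl⟩ _ ⟨b, hb, rfl⟩
        rw [← map_mul, ← map_mul, hWc a ha b hb]
      refine ⟨?_⟩
      rintro _ ⟨u, ⟨huW, huC⟩, rfl⟩ g
      obtain ⟨u', hu', hu'e⟩ := hVn.conj_mem _ ⟨u, huW, rfl⟩ g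
      refine ⟨u', ⟨hu', ?_⟩, hu'e⟩
      refine mem_centralizer_iff.2 ?_
      intro s hs
      have hq1 : ∀ v ∈ W.map τ, ⁅g⁻¹ * τ s * g, ⁅g⁻¹ * τ s * g, v⁆⁆ = 1 := by
        intro v hv
        obtain ⟨w, hw, hwe⟩ := hVn.conj_mem _ hv g
        have e1 : ⁅g⁻¹ * τ s * g, ⁅g⁻¹ * τ s * g, v⁆⁆ = g⁻¹ * ⁅τ s, ⁅τ s, g * v * g⁻¹⁆⁆ * g := by
          simp only [commutatorElement_def]; group
        rw [e1, ← hwe, ← map_commutatorElement, ← map_commutatorElement, hs w hw, map_one]; group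
      have h7 := centralizes_of_sylow hVc hVst P (mem_map_of_mem τ huW) (by
        intro s' hs' hq'
        rw [h3] at hs'
        obtain ⟨s₁, rfl⟩ := hs'
        have h8 : s₁ ∈ Qd := by
          intro w hw
          apply h1
          rw [map_commutatorElement, map_commutatorElement, map_one]
          exact hq' _ ⟨w, hw, rfl⟩
        rw [← map_mul, ← map_mul, (mem_centralizer_iff.1 huC) s₁ h8]) hq1
      apply h1
      rw [map_mul, map_mul, hu'e]
      calc τ s * (g * τ u * g⁻¹) = g * ((g⁻¹ * τ s * g) * τ u) * g⁻¹ := by group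
        _ = g * (τ u * (g⁻¹ * τ s * g)) * g⁻¹ := by rw [h7]
        _ = g * τ u * g⁻¹ * τ s := by group
  intro w hw
  have h1 := snc_le hfam hw
  exact (mem_centralizer_iff.1 h1.2) x hq

end family

/-! ### the normality theorem -/

section main

variable {G : Type u} [Group G] [Finite G] {p : ℕ} [hp : Fact p.Prime]

/-- `W(S)` inside `G` -/
def WS (p : ℕ) {G : Type u} [Group G] (S : Subgroup G) : Subgroup G := (stableNormalClosure p ↥S).map S.subtype

theorem WS_le (S : Subgroup G) : WS p S ≤ S := map_subtype_le _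

theorem WS_map {G' : Type u} [Group G'] (f : G →* G') {S : Subgroup G} (hf : Set.InjOn f S) :
    WS p (S.map f) = (WS p S).map f := by
  have hbij : Function.Bijective (f.subgroupMap S) := by
    refine ⟨?_, f.subgroupMap_surjective S⟩
    intro x y hxy
    exact Subtype.ext (hf x.2 y.2 (congrArg Subtype.val hxy))
  have h1 := snc_map_equiv (p := p) (MulEquiv.ofBijective (f.subgroupMap S) hbij)
  rw [WS, ← h1, WS, map_map, map_map]
  rfl

theorem WS_conj (g : G) (S : Subgroup G) : WS p (MulAut.conj g • S) = MulAut.conj g • WS p S :=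
  WS_map (MulAut.conj g).toMonoidHom (MulAut.conj g).injective.injOn

theorem normalizer_le_WS (S : Subgroup G) : normalizer (S : Set G) ≤ normalizer (WS p S : Set G) := by
  intro g hg
  rw [← conj_eq_iff_mem_normalizer] at hg ⊢
  rw [← WS_conj, hg]

theorem WS_ea (S : Subgroup G) : IsElementaryAbelian p (WS p S) := ea_map _ snc_ea

theorem WS_quad (S : Subgroup G) {x : G} (hxS : x ∈ S) (hq : ∀ w ∈ WS p S, ⁅x, ⁅x, w⁆⁆ = 1) :
    ∀ w ∈ WS p S, x * w = w * x := by
  rintro _ ⟨w, hw, rfl⟩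
  refine congrArg Subtype.val (snc_quad (x := (⟨x, hxS⟩ : S)) ?_ w hw)
  intro v hv
  exact Subtype.ext (hq v ⟨v, hv, rfl⟩)

theorem WS_le_OZJ (S : Subgroup G) : WS p S ≤ (omegaCenterThompson p ↥S).map S.subtype := map_mono snc_le_oct

/-- the normalizer of `J(S)` normalizes `W(S)` -/
theorem normalizer_J_le (hst : IsActionPStable p G) (hc : centralizer (pCore p G : Set G) ≤ pCore p G) (S : Sylow p G) :
    normalizer (thompsonSubgroupOf p (S : Subgroup G) : Set G) ≤ normalizer (WS p (S : Subgroup G) : Set G) := by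
  set N := normalizer (thompsonSubgroupOf p (S : Subgroup G) : Set G) with hN
  have hSN : (S : Subgroup G) ≤ N := le_normalizer.trans (normalizer_le_normalizer_thompsonOf _)
  set τ : ↥(S : Subgroup G) →* ↥N := inclusion hSN with hτ
  have hτs : N.subtype.comp τ = (S : Subgroup G).subtype := rfl
  have hOp : IsPGroup p (pCore p G) := Cfsg.Agent.H1.Nilp.pCore_isPGroup p
  have hOn : (pCore p G).Normal := Cfsg.Agent.H1.Nilp.pCore_normal p
  have hOS : pCore p G ≤ S := hOp.le_sylow_of_normal S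
  have hOO : (pCore p G).subgroupOf N ≤ pCore p N :=
    Cfsg.Agent.H1.Nilp.le_pCore (hOn.subgroupOf N) (hOp.comap_of_injective _ N.subtype_injective)
  have hstab : IsStableEmbedding p τ := by
    refine ⟨inclusion_injective hSN, inferInstance, ⟨S.subtype hSN, ?_⟩, ?_, ?_, ?_⟩
    · rw [Sylow.coe_subtype, hτ, Subgroup.inclusion_range]
    · intro x hx
      apply hOO
      change (x : G) ∈ pCore p G
      apply hc
      rw [mem_centralizer_iff]
      intro y hy
      exact congrArg Subtype.val ((mem_centralizer_iff.1 hx) ⟨y, hSN (hOS hy)⟩ (hOO hy))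
    · have h1 : ((thompsonSubgroup p ↥(S : Subgroup G)).map τ) = (thompsonSubgroupOf p (S : Subgroup G)).subgroupOf N := by
        rw [subgroupOf, thompsonSubgroupOf, ← hτs, ← map_map,
          comap_map_eq_self_of_injective N.subtype_injective]
      rw [h1]
      exact normal_in_normalizer
    · intro V _ hV
      apply hst.2.2 S V
      have h1 := map_mono (f := N.subtype) hV
      rwa [map_map] at h1
  have h1 := (snc_fam (p := p) (S := ↥(S : Subgroup G))).2 N τ hstab
  intro x hx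
  apply mem_normalizer_fintype
  rintro _ ⟨w, hw, rfl⟩
  obtain ⟨w', hw', h⟩ := h1.conj_mem _ ⟨w, hw, rfl⟩ ⟨x, hx⟩
  exact ⟨w', hw', congrArg Subtype.val h⟩

theorem WS_le_pCore (hst : IsActionPStable p G) (hc : centralizer (pCore p G : Set G) ≤ pCore p G) (S : Sylow p G) :
    WS p (S : Subgroup G) ≤ pCore p G := by
  set W := WS p (S : Subgroup G) with hW
  set Q := pCore p G with hQ
  have hOp : IsPGroup p Q := Cfsg.Agent.H1.Nilp.pCore_isPGroup p
  have hOn : Q.Normal := Cfsg.Agent.H1.Nilp.pCore_normal p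
  have hOS : Q ≤ S := hOp.le_sylow_of_normal S
  have hSW : (S : Subgroup G) ≤ normalizer (W : Set G) := le_normalizer.trans (normalizer_le_WS _)
  have hWc : ∀ x ∈ W, ∀ y ∈ W, x * y = y * x := fun x hx y hy => comm_of_ea (WS_ea _) hx hy
  intro w hw
  have hwW : zpowers w ≤ W := by rw [zpowers_le]; exact hw
  have h1 : ⁅⁅Q, zpowers w⁆, zpowers w⁆ = ⊥ := by
    rw [eq_bot_iff, commutator_le]
    intro x hx y hy
    have h2 : ⁅Q, zpowers w⁆ ≤ W := by
      rw [commutator_le]
      intro q hq y hy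
      rw [commutatorElement_def]
      exact mul_mem ((mem_normalizer_iff.1 (hSW (hOS hq)) y).1 (hwW hy)) (inv_mem (hwW hy))
    rw [mem_bot, commutatorElement_eq_one_iff_mul_comm]
    exact hWc x (h2 hx) y (hwW hy)
  set Φ := (frattini ↥Q).map Q.subtype with hΦ
  obtain ⟨D, hDn, hKD, ⟨k, hk⟩, hwD⟩ := hst.2.1 w (by rw [h1]; exact bot_le)
  -- the kernel is a `p`-group
  have hKp : IsPGroup p (sectionKernel Q Φ) := by
    intro x
    obtain ⟨k, hk⟩ := exists_pow_coprime (p := p) (x : G)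
    refine ⟨k, Subtype.ext ?_⟩
    set z : G := (x : G) ^ (p ^ k) with hz
    have hzK : z ∈ sectionKernel Q Φ := pow_mem x.2 _
    have hzC : zpowers z ≤ centralizer (Q : Set G) := by
      apply Cfsg.Agent.H1.Coprime.trivial_on_frattini_quotient (zpowers z) Q (by rw [normalizer_eq_top]; exact le_top)
      · rw [Nat.card_zpowers]
        obtain ⟨j, hj⟩ := IsPGroup.iff_card.1 hOp
        have h2 : Nat.card (frattini Q) ∣ p ^ j := hj ▸ card_subgroup_dvd_card _
        exact (hk.pow_right j).coprime_dvd_right h2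
      · intro a ha q hq
        have haK : a ∈ sectionKernel Q Φ := by
          have : zpowers z ≤ sectionKernel Q Φ := by rw [zpowers_le]; exact hzK
          exact this ha
        have h3 : (QuotientGroup.mk' Φ a) ∈ centralizer ((Q.map (QuotientGroup.mk' Φ) : Subgroup (G ⧸ Φ)) : Set (G ⧸ Φ)) := haK
        have h4 := (mem_centralizer_iff.1 h3) (QuotientGroup.mk' Φ q) ⟨q, hq, rfl⟩
        have h5 : (QuotientGroup.mk' Φ) (a * q * a⁻¹ * q⁻¹) = 1 := by
          rw [map_mul, map_mul, map_mul, ← h4, map_inv, map_inv]; group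
        exact (QuotientGroup.eq_one_iff _).1 h5
    have hzQ : z ∈ Q := hc (hzC (mem_zpowers z))
    obtain ⟨j, hj⟩ := IsPGroup.iff_card.1 hOp
    have h2 : orderOf z ∣ p ^ j := hj ▸ Subgroup.orderOf_dvd_natCard _ hzQ
    have h3 : orderOf z = 1 := Nat.eq_one_of_dvd_coprimes (hk.pow_right j) dvd_rfl h2
    exact orderOf_eq_one_iff.1 h3
  have hDp : IsPGroup p D := by
    obtain ⟨j, hj⟩ := IsPGroup.iff_card.1 hKp
    rw [IsPGroup.iff_card]
    exact ⟨j + k, by rw [← Cfsg.Agent.H2.Card.card_mul_relIndex hKD, hj, hk, pow_add]⟩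
  exact Cfsg.Agent.H1.Nilp.le_pCore hDn hDp hwD

theorem WS_normal (hst : IsActionPStable p G) (hc : centralizer (pCore p G : Set G) ≤ pCore p G) (S : Sylow p G) :
    (WS p (S : Subgroup G)).Normal := by
  set W := WS p (S : Subgroup G) with hW
  set Q := pCore p G with hQ
  have hOp : IsPGroup p Q := Cfsg.Agent.H1.Nilp.pCore_isPGroup p
  have hOn : Q.Normal := Cfsg.Agent.H1.Nilp.pCore_normal p
  have hOS : Q ≤ S := hOp.le_sylow_of_normal S
  have hSW : (S : Subgroup G) ≤ normalizer (W : Set G) := le_normalizer.trans (normalizer_le_WS _)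
  have hWe : IsElementaryAbelian p W := WS_ea _
  have hWc : ∀ x ∈ W, ∀ y ∈ W, x * y = y * x := fun x hx y hy => comm_of_ea hWe hx hy
  have hWQ : W ≤ Q := WS_le_pCore hst hc S
  -- Step C: conjugates of `W` commute with `W`
  have hcom : ∀ g : G, ∀ x ∈ W, ∀ w ∈ W, (g * x * g⁻¹) * w = w * (g * x * g⁻¹) := by
    intro g x hx w hw
    have hy : g * x * g⁻¹ ∈ Q := hOn.conj_mem x (hWQ hx) g
    refine WS_quad (S : Subgroup G) (hOS hy) ?_ w hw
    intro v hv
    rw [commutatorElement_eq_one_iff_mul_comm]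
    -- `[y, v] ∈ W^g`
    have h1 : g⁻¹ * (⁅g * x * g⁻¹, v⁆) * g ∈ W := by
      have h2 : g⁻¹ * v * g ∈ Q := by
        have := hOn.conj_mem v (hWQ hv) g⁻¹
        rwa [inv_inv] at this
      have h3 : (g⁻¹ * v * g) * x⁻¹ * (g⁻¹ * v * g)⁻¹ ∈ W := (mem_normalizer_iff.1 (hSW (hOS h2)) x⁻¹).1 (inv_mem hx)
      have h4 : g⁻¹ * (⁅g * x * g⁻¹, v⁆) * g = x * ((g⁻¹ * v * g) * x⁻¹ * (g⁻¹ * v * g)⁻¹) := by
        rw [commutatorElement_def]; group
      rw [h4]
      exact mul_mem hx h3
    have h5 := hWc x hx _ h1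
    calc g * x * g⁻¹ * ⁅g * x * g⁻¹, v⁆ = g * (x * (g⁻¹ * ⁅g * x * g⁻¹, v⁆ * g)) * g⁻¹ := by group
      _ = g * ((g⁻¹ * ⁅g * x * g⁻¹, v⁆ * g) * x) * g⁻¹ := by rw [h5]
      _ = ⁅g * x * g⁻¹, v⁆ * (g * x * g⁻¹) := by group
  set W₁ := normalClosure (W : Set G) with hW₁
  have hWW₁ : W ≤ W₁ := subset_normalClosure
  have hW₁Q : W₁ ≤ Q := normalClosure_le_normal hWQ
  have hWcent : W ≤ centralizer (W₁ : Set G) := by
    rw [le_centralizer_iff, hW₁, normalClosure, closure_le]
    intro y hy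
    rw [Group.mem_conjugatesOfSet_iff] at hy
    obtain ⟨x, hx, hxy⟩ := hy
    obtain ⟨g, rfl⟩ := isConj_iff.1 hxy
    rw [SetLike.mem_coe, mem_centralizer_iff]
    intro w hw
    exact (hcom g x hx w hw).symm
  have hW₁c : ∀ x ∈ W₁, ∀ y ∈ W₁, x * y = y * x := by
    have h1 : W₁ ≤ centralizer (W₁ : Set G) := normalClosure_le_normal hWcent
    intro x hx y hy
    exact ((mem_centralizer_iff.1 (h1 hx)) y hy).symm
  have hW₁e : IsElementaryAbelian p W₁ := by
    refine ⟨isMulCommutative_of_forall hW₁c, ?_⟩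
    intro y hy
    have h1 : omegaOne p W₁ = W₁ := by
      apply le_antisymm (omegaOne_le _)
      have : (omegaOne p W₁).Normal := omegaOne_normal normalClosure_normal
      refine normalClosure_le_normal ?_
      intro w hw
      exact mem_omegaOne (hWW₁ hw) (hWe.2 w hw)
    rw [← h1] at hy
    exact ((mem_omegaOne_of_comm hW₁c).1 hy).2
  have hst₁ : IsPStableOn p W₁ := hst.1 W₁ hW₁e
  -- Step D: quadratic elements centralize `W₁`
  have hE : ∀ h : G, (∀ v ∈ W₁, ⁅h, ⁅h, v⁆⁆ = 1) → ∀ w ∈ W, h * w = w * h := by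
    intro h hh w hw
    refine centralizes_of_sylow hW₁c hst₁ S (hWW₁ hw) ?_ hh
    intro s hs hq
    exact WS_quad (S : Subgroup G) hs (fun v hv => hq v (hWW₁ hv)) w hw
  have hE' : ∀ h : G, (∀ v ∈ W₁, ⁅h, ⁅h, v⁆⁆ = 1) → h ∈ centralizer (W₁ : Set G) := by
    intro h hh
    set E : Set G := {h | ∀ v ∈ W₁, ⁅h, ⁅h, v⁆⁆ = 1} with hEdef
    have hn : (centralizer E).Normal := by
      refine ⟨fun y hy g => ?_⟩
      rw [mem_centralizer_iff] at hy ⊢
      intro e he
      have h1 : g⁻¹ * e * g ∈ E := by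
        intro v hv
        have h2 := he _ (normalClosure_normal.conj_mem v hv g)
        have e1 : ⁅g⁻¹ * e * g, ⁅g⁻¹ * e * g, v⁆⁆ = g⁻¹ * ⁅e, ⁅e, g * v * g⁻¹⁆⁆ * g := by
          simp only [commutatorElement_def]; group
        rw [e1, h2]; group
      have h3 := hy _ h1
      calc e * (g * y * g⁻¹) = g * ((g⁻¹ * e * g) * y) * g⁻¹ := by group
        _ = g * (y * (g⁻¹ * e * g)) * g⁻¹ := by rw [h3]
        _ = _ := by group
    have h1 : W₁ ≤ centralizer E := by
      refine normalClosure_le_normal ?_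
      intro w hw
      rw [SetLike.mem_coe, mem_centralizer_iff]
      intro e he
      exact hE e he w hw
    rw [mem_centralizer_iff]
    intro v hv
    exact ((mem_centralizer_iff.1 (h1 hv)) h hh).symm
  -- Step E: `J(S)` centralizes `W₁`
  have hJ : thompsonSubgroupOf p (S : Subgroup G) ≤ centralizer (W₁ : Set G) := by
    rw [thompsonOf_le_iff]
    intro A hAS hA hmax
    have hAmax : A ∈ maxElementaryAbelianSubgroups p G := ⟨hA, thompsonOf_sylow_max S hAS hA hmax⟩
    obtain ⟨h1, h2, h3⟩ := Cfsg.Agent.S0607.result W₁ hW₁e A hAmax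
    by_contra hne
    have h4 : ⁅W₁, A⁆ ≠ ⊥ := by
      intro h
      rw [commutator_comm, commutator_eq_bot_iff_le_centralizer] at h
      exact hne h
    apply h3 h4
    set A₀ := ⁅W₁, A⁆ ⊔ (A ⊓ centralizer ((⁅W₁, A⁆ : Subgroup G) : Set G)) with hA₀
    rw [commutator_comm, commutator_eq_bot_iff_le_centralizer]
    intro a ha
    apply hE'
    intro v hv
    have h5 : ⁅⁅v, a⁆, a⁆ = 1 := by
      rw [← mem_bot, ← h2]
      exact commutator_mem_commutator (commutator_mem_commutator hv ha) ha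
    rw [commutatorElement_eq_one_iff_commute] at h5 ⊢
    have h6 : ⁅a, v⁆ = ⁅v, a⁆⁻¹ := (commutatorElement_inv v a).symm
    rw [h6]
    exact (h5.inv_left).symm
  -- Step F
  have hSC : thompsonSubgroupOf p ((S : Subgroup G) ⊓ centralizer (W₁ : Set G)) = thompsonSubgroupOf p (S : Subgroup G) :=
    thompsonOf_eq_of_le inf_le_left (le_inf (thompsonOf_le _) hJ)
  refine ⟨fun w hw g => ?_⟩
  obtain ⟨c, hcC, n, hn, rfl⟩ := frattini_inf S (centralizer (W₁ : Set G)) g
  have h1 : n ∈ normalizer (W : Set G) := by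
    apply normalizer_J_le hst hc S
    rw [← hSC]
    exact normalizer_le_normalizer_thompsonOf _ hn
  have h2 : n * w * n⁻¹ ∈ W := (mem_normalizer_iff.1 h1 w).1 hw
  have h3 := (mem_centralizer_iff.1 hcC) _ (hWW₁ h2)
  have h4 : c * n * w * (c * n)⁻¹ = n * w * n⁻¹ := by
    calc c * n * w * (c * n)⁻¹ = (c * (n * w * n⁻¹)) * c⁻¹ := by group
      _ = _ := by rw [← h3]; group
  rw [h4]; exact h2

end main

end Cfsg.Agent.H2.WS
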