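import Mathlib
import Cfsg.Agent.H2_WS
import Cfsg.Agent.H2_PFun

/-! `W(S)` for good groups; the normal p-complement theorem. -/

set_option autoImplicit false
set_option linter.style.haveILetI false

open Subgroup Cfsg
open scoped commutatorElement Pointwise

universe u

namespace Cfsg.Agent.H2.WS

open Cfsg.Agent.H2.Basic Cfsg.Agent.H2.Good Cfsg.Agent.H1.Basic Cfsg.Agent.H2.Thompson Cfsg.Agent.H2.ThompFact
  Cfsg.Agent.H2.Quad Cfsg.Agent.H2.PFun

variable {G : Type u} [Group G] [Finite G] {p : ℕ} [hp : Fact p.Prime]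

theorem stableOnSection {K N : Subgroup G} [hN : N.Normal] [hK : K.Normal]
    (h : ∀ a : G ⧸ N, ⁅⁅K.map (QuotientGroup.mk' N), zpowers a⁆, zpowers a⁆ = ⊥ →
      (QuotientGroup.mk a : (G ⧸ N) ⧸ centralizer ((K.map (QuotientGroup.mk' N) : Subgroup (G ⧸ N)) : Set (G ⧸ N))) ∈
        pCore p ((G ⧸ N) ⧸ centralizer ((K.map (QuotientGroup.mk' N) : Subgroup (G ⧸ N)) : Set (G ⧸ N)))) :
    IsPStableOnSection p K N := by
  intro a ha
  set π := QuotientGroup.mk' N with hπ
  have hπs : Function.Surjective π := QuotientGroup.mk'_surjective N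
  haveI hKn : (K.map π).Normal := hK.map π hπs
  set C := centralizer ((K.map π : Subgroup (G ⧸ N)) : Set (G ⧸ N)) with hC
  have h1 := h (π a) (by
    rw [← MonoidHom.map_zpowers, ← Subgroup.map_commutator, ← Subgroup.map_commutator, Subgroup.map_eq_bot_iff,
      QuotientGroup.ker_mk']
    exact ha)
  set D := ((pCore p ((G ⧸ N) ⧸ C)).comap (QuotientGroup.mk' C)) with hD
  have hDn : D.Normal := (Cfsg.Agent.H1.Nilp.pCore_normal p).comap _
  have hCD : C ≤ D := Cfsg.Agent.H1.Hall.le_comap_mk _ _
  refine ⟨D.comap π, hDn.comap π, comap_mono hCD, ?_, h1⟩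
  have h2 : (sectionKernel K N).relIndex (D.comap π) = C.relIndex D :=
    Cfsg.Agent.H22.PSolv.relIndex_comap_comap hπs C D
  rw [h2, Cfsg.Agent.H1.Hall.relIndex_comap_mk]
  exact IsPGroup.iff_card.1 (Cfsg.Agent.H1.Nilp.pCore_isPGroup p)

theorem actionPStable_of_good (hp2 : p ≠ 2) (hG : IsGood p G) : IsActionPStable p G := by
  refine ⟨?_, ?_, ?_⟩
  · intro V _ hV a ha
    exact hG.stable hp2 (ea_isPGroup hV) ha
  · set Q := pCore p G with hQ
    haveI hQn : Q.Normal := Cfsg.Agent.H1.Nilp.pCore_normal p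
    have hQp : IsPGroup p Q := Cfsg.Agent.H1.Nilp.pCore_isPGroup p
    apply stableOnSection
    intro a ha
    haveI : (Q.map (QuotientGroup.mk' ((frattini ↥Q).map Q.subtype))).Normal :=
      hQn.map _ (QuotientGroup.mk'_surjective _)
    exact (hG.of_surjective _ (QuotientGroup.mk'_surjective _)).stable hp2 (hQp.map _) ha
  · intro S V _ hV a ha
    refine (hG.of_injective _ (subtype_injective _)).stable hp2 ?_ ha
    have h1 : V.map (normalizer (thompsonSubgroupOf p (S : Subgroup G) : Set G)).subtype ≤ S :=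
      hV.trans (map_subtype_le _)
    have h2 := S.isPGroup'.to_le h1
    exact h2.of_equiv (V.equivMapOfInjective _ (subtype_injective _)).symm

/-- the functor `W` -/
def wF (p : ℕ) [hp : Fact p.Prime] : PF.{u} p where
  W := fun T => WS p T
  le := fun _ => map_subtype_le _
  ne_bot := by
    intro G _ _ T hT h
    have h1 : Nontrivial T := (nontrivial_iff_ne_bot T).2 h
    have h2 : center T ≠ ⊥ := by
      have := hT.center_nontrivial
      exact (nontrivial_iff_ne_bot _).1 this
    have h3 := omegaOne_ne_bot (p := p) (hT.to_subgroup _) h2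
    intro h4
    apply h3
    rw [eq_bot_iff]
    refine (OZ_le_snc (p := p)).trans ?_
    rw [WS, Subgroup.map_eq_bot_iff_of_injective _ T.subtype_injective] at h4
    rw [h4]
  map := fun f _ hf => WS_map f hf

theorem npc_of_WS (hp2 : p ≠ 2) (P : Sylow p G)
    (h : HasNormalPComplement p (normalizer (WS p (P : Subgroup G) : Set G))) : HasNormalPComplement p G := by
  refine engine (ι := Unit) (fun _ => wF p) (fun _ => false) ⟨(), rfl⟩ ?_ _ G rfl P fun _ => h
  intro G _ _ P hG hc _ hP
  have h1 := WS_normal (actionPStable_of_good hp2 hG) hc P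
  have h2 := hP ()
  change HasNormalPComplement p (normalizer (WS p (P : Subgroup G) : Set G)) at h2
  rw [normalizer_eq_top] at h2
  exact npc_top h2

end Cfsg.Agent.H2.WS
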