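import Mathlib
import Cfsg.Agent.H2_WS2
import Cfsg.Agent.H2_ZJ4
import Cfsg.Agent.S0625

/-! `W(S)` for `p`-separable groups, `p ≥ 5`. -/

set_option autoImplicit false
set_option linter.style.haveILetI false

open Subgroup Cfsg

namespace Cfsg.Agent.H2.WS3

universe u

theorem sup_eq_top {G : Type u} [Group G] [Finite G] {p : ℕ} [Fact p.Prime] (hp : 5 ≤ p) (hsep : IsPSolvable p G) (S : Sylow p G) :
    pPrimeCore p G ⊔ normalizer (((stableNormalClosure p ↥(S : Subgroup G)).map (S : Subgroup G).subtype) : Set G) = ⊤ := by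
  have hKn := Cfsg.Agent.H1.Nilp.pPrimeCore_normal (G := G) p
  have hKc := Cfsg.Agent.H1.Nilp.pPrimeCore_coprime (G := G) p
  change pPrimeCore p G ⊔ normalizer (WS.WS p (S : Subgroup G) : Set G) = ⊤
  apply Cfsg.Agent.H12.Puig.sup_normalizer_of_map_normal (S.isPGroup'.to_le (WS.WS_le _)) hKc
  have hinj : Set.InjOn (QuotientGroup.mk' (pPrimeCore p G)) (S : Subgroup G) := by
    intro x hx y hy hxy
    have := (Cfsg.Agent.H2.ThompFact.injective_comp (pPrimeCore p G) hKc S S.isPGroup') (a₁ := ⟨x, hx⟩) (a₂ := ⟨y, hy⟩) hxy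
    exact congrArg Subtype.val this
  rw [← WS.WS_map _ hinj]
  have hsep' : IsPSolvable p (G ⧸ pPrimeCore p G) :=
    Cfsg.Agent.H22.PSolv.isPSolvable_of_surjective (QuotientGroup.mk' (pPrimeCore p G)) (QuotientGroup.mk'_surjective _) hsep
  exact WS.WS_normal (Cfsg.Agent.S0625.result hp hsep')
    (Cfsg.Agent.H22.PSolv.centralizer_pCore_le hsep' (Cfsg.Agent.H11.Cores.pPrimeCore_quotient p))
    (S.mapSurjective (QuotientGroup.mk'_surjective (pPrimeCore p G)))

end Cfsg.Agent.H2.WS3
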