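import Mathlib
import Cfsg.Prelude.Def_Characters
import Cfsg.Agent.H3_GalProd
import Cfsg.Agent.H3_Clifford

/-!
# Galois action on the constituents of a restriction
-/

set_option autoImplicit false

open scoped ComplexConjugate

namespace Cfsg.Agent.H3.GalOrb

open Cfsg Cfsg.Agent.H3.CharBasic Cfsg.Agent.H3.CharIrr Cfsg.Agent.H3.CharComplete Cfsg.Agent.H3.CharInd
  Cfsg.Agent.H3.CharMult Cfsg.Agent.H3.Clifford Cfsg.Agent.H3.GalProd

/-- the composite with a power map -/
def sg {A : Type*} [Group A] (k : ℕ) (f : A → ℂ) : A → ℂ := fun x => f (x ^ k)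

theorem exists_fixed {α : Type*} [Fintype α] [DecidableEq α] (f : α → α) {p e : ℕ} [Fact p.Prime] (hf : f^[p ^ e] = id)
    (hα : ¬ p ∣ Fintype.card α) : ∃ a, f a = a := by
  by_contra hcon
  push Not at hcon
  let F : Function.End α := f
  have hF : ∀ n : ℕ, F ^ n = (f^[n] : α → α) := by
    intro n
    induction n with
    | zero => rfl
    | succ n ih => rw [pow_succ, ih]; rfl
  have h1 := Equiv.Perm.card_fixedPoints_modEq (f := F) (p := p) (n := e) (by
    rw [hF, hf]; rfl)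
  have h2 : Fintype.card (Function.fixedPoints f) = 0 := by
    rw [Fintype.card_eq_zero_iff]
    exact ⟨fun x => hcon x.1 x.2⟩
  apply hα
  rw [Nat.dvd_iff_mod_eq_zero]
  have h3 : Fintype.card α % p = Fintype.card (Function.fixedPoints f) % p := h1
  rw [h3, h2, Nat.zero_mod]

variable {G : Type*} [Group G] [Fintype G] {N : Subgroup G} (hN : N.Normal) [Fintype N]

include hN in
theorem main {p : ℕ} [Fact p.Prime] (hidx : ¬ p ∣ N.index) {k e : ℕ} (hk : k.Coprime (Nat.card G))
    (hke : k ^ (p ^ e) ≡ 1 [MOD Nat.card G]) {χ : G → ℂ} (hχ : IsIrrCharacter G χ) (hχk : ∀ g, χ (g ^ k) = χ g)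
    {θ : N → ℂ} (hθ : IsIrrCharacter N θ) (hc : classInner (fun n : N => χ n) θ ≠ 0) (n : N) : θ (n ^ k) = θ n := by
  classical
  have hkN : (Nat.card N).Coprime k := (Nat.Coprime.coprime_dvd_right (Subgroup.card_subgroup_dvd_card N) hk).symm
  have hpow : ∀ x : N, x ^ (k ^ (p ^ e)) = x := by
    intro x
    have h1 : k ^ (p ^ e) ≡ 1 [MOD orderOf x] := hke.of_dvd ((orderOf_dvd_natCard x).trans (Subgroup.card_subgroup_dvd_card N))
    have := pow_eq_pow_iff_modEq.mpr h1
    rwa [pow_one] at this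
  have hsθ : IsIrrCharacter N (sg k θ) := isIrr_pow hkN hθ
  obtain ⟨g0, hg0⟩ := eq_cj_of_constituents hN hχ hθ hsθ hc (by
    have h1 : (fun n : N => χ n) = fun n : N => (fun m : N => χ m) (n ^ k) := by
      funext n
      show χ n = χ ((n ^ k : N) : G)
      rw [Subgroup.coe_pow, hχk]
    rw [h1]
    have h2 := ci_pow hkN (fun m : N => χ m) θ
    intro h0
    exact hc (h2.symm.trans h0))
  have hsc : ∀ (g : G) (f : N → ℂ), sg k (cj hN g f) = cj hN g (sg k f) := by
    intro g f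
    funext n
    rw [sg, cj_apply, cj_apply, sg]
    refine congrArg f (Subtype.ext ?_)
    push_cast
    rw [conj_pow]
  let f : orb hN θ → orb hN θ := fun ψ => ⟨sg k ψ.1, by
    obtain ⟨g, hg⟩ := (mem_orb hN θ _).mp ψ.2
    rw [← hg, hsc, hg0, cj_cj]
    exact (mem_orb hN θ _).mpr ⟨_, rfl⟩⟩
  have hit : ∀ (j : ℕ) (ψ : orb hN θ), ((f^[j] ψ : orb hN θ) : N → ℂ) = sg (k ^ j) ψ.1 := by
    intro j
    induction j with
    | zero => intro ψ; funext n; simp [sg]
    | succ j ih =>
      intro ψ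
      rw [Function.iterate_succ_apply, ih]
      funext n
      show (ψ : N → ℂ) ((n ^ k ^ j) ^ k) = (ψ : N → ℂ) (n ^ k ^ (j + 1))
      rw [← pow_mul, ← pow_succ]
  obtain ⟨⟨ψ, hψ⟩, hfix⟩ := exists_fixed f (p := p) (e := e) (by
    funext ψ
    apply Subtype.ext
    rw [hit]
    funext n
    show (ψ : N → ℂ) (n ^ k ^ p ^ e) = (ψ : N → ℂ) n
    rw [hpow]) (by
    rw [Fintype.card_coe, card_orb_eq_index]
    intro h
    exact hidx (h.trans (Subgroup.index_dvd_of_le (le_inertia hN (IsIrr.isClass hθ)))))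
  obtain ⟨g, rfl⟩ := (mem_orb hN θ _).mp hψ
  have h1 : sg k (cj hN g θ) = cj hN g θ := congrArg Subtype.val hfix
  rw [hsc] at h1
  have h2 : sg k θ = θ := by
    have := congrArg (cj hN g⁻¹) h1
    rw [cj_cj, cj_cj, mul_inv_cancel, cj_one, cj_one] at this
    exact this
  exact congrFun h2 n

end Cfsg.Agent.H3.GalOrb
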