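import Mathlib
import Cfsg.Agent.H25_Glaub3
import Cfsg.Agent.H25_Clifford
import Cfsg.Agent.H1_Coprime
import Cfsg.Agent.H3_CharMult
import Cfsg.Agent.H3_Clifford
import Cfsg.Agent.H3_Clifford2
import Cfsg.Agent.H3_CharQuot
import Cfsg.Agent.H3_Lift

/-!
# Invariant constituents under coprime operators
-/

set_option autoImplicit false

open scoped ComplexConjugate commutatorElement

namespace Cfsg.Agent.H3.GlInv

open Cfsg Cfsg.Agent.H3.CharBasic Cfsg.Agent.H3.CharIrr Cfsg.Agent.H3.CharComplete Cfsg.Agent.H3.CharInd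
  Cfsg.Agent.H3.CharMult Cfsg.Agent.H25.GlaubCore Cfsg.Agent.H25.Glaub Cfsg.Agent.H25.Glaub2 Cfsg.Agent.H25.Glaub3
  Cfsg.Agent.H25.Clifford Cfsg.Agent.H3.Clifford Cfsg.Agent.H3.CharQuot Cfsg.Agent.H3.Lift

variable {Γ : Type*} [Group Γ] [Fintype Γ]

theorem glaub_perm {Y : Type*} [Finite Y] {A K : Subgroup (Equiv.Perm Y)} (hAK : Nrm A K)
    (hcop : (Nat.card A).Coprime (Nat.card K)) (hsolv : Group.IsSolvable A ∨ Group.IsSolvable K) (s : Set Y) (hs : s.Nonempty)
    (hA : ∀ a ∈ A, ∀ y ∈ s, a y ∈ s) (hK : ∀ k ∈ K, ∀ y ∈ s, k y ∈ s) (htrans : ∀ y ∈ s, ∀ z ∈ s, ∃ k ∈ K, k y = z) :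
    ∃ y ∈ s, ∀ a ∈ A, a y = y :=
  H1.Coprime.glauberman_exists (le_normalizer_of_nrm hAK) hcop hsolv s hs hA hK htrans

/-- conjugation action on irreducible characters -/
noncomputable def prm {A N : Subgroup Γ} [Fintype N] (h : Nrm A N) : A →* Equiv.Perm (IrrCharacter N) :=
  letI := conjAct N A h
  letI := irrAct N A
  MulAction.toPermHom A (IrrCharacter N)

theorem prm_apply {A N : Subgroup Γ} [Fintype N] (h : Nrm A N) (a : A) (χ : IrrCharacter N) (n : N) :
    ((prm h a χ : IrrCharacter N) : N → ℂ) n = (χ : N → ℂ) ⟨(a : Γ)⁻¹ * n * ((a : Γ)⁻¹)⁻¹, h _ (A.inv_mem a.2) n n.2⟩ := rfl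

theorem prm_inv {A N : Subgroup Γ} [Fintype N] (h : Nrm A N) (χ : IrrCharacter N) :
    TInv A (χ : N → ℂ) ↔ ∀ a : A, prm h a χ = χ := by
  rw [tinv_iff h]
  let _ := conjAct N A h
  exact inv_iff χ

theorem prm_conj {A G N : Subgroup Γ} [Fintype N] (hAG : Nrm A G) (hAN : Nrm A N) (hGN : Nrm G N) (a : A) (g : G) :
    prm hAN a * prm hGN g * (prm hAN a)⁻¹ = prm hGN ⟨a * g * (a : Γ)⁻¹, hAG a a.2 g g.2⟩ := by
  rw [mul_inv_eq_iff_eq_mul]
  apply Equiv.ext
  intro χ
  apply Subtype.ext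
  funext n
  rw [Equiv.Perm.mul_apply, Equiv.Perm.mul_apply, prm_apply, prm_apply, prm_apply, prm_apply]
  refine congrArg (χ : N → ℂ) (Subtype.ext ?_)
  simp only
  group

theorem nrm_range {A G N : Subgroup Γ} [Fintype N] (hAG : Nrm A G) (hAN : Nrm A N) (hGN : Nrm G N) :
    Nrm (prm hAN).range (prm hGN).range := by
  rintro _ ⟨a, rfl⟩ _ ⟨g, rfl⟩
  exact ⟨_, (prm_conj hAG hAN hGN a g).symm⟩

theorem prm_self {N G : Subgroup Γ} [Fintype N] (hGN : Nrm G N) {n : G} (hn : (n : Γ) ∈ N) : prm hGN n = 1 := by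
  apply Equiv.ext
  intro χ
  apply Subtype.ext
  funext m
  rw [prm_apply, Equiv.Perm.one_apply]
  have := IsIrr.isClass χ.2 m (⟨n, hn⟩ : N)⁻¹
  exact this

theorem sub_le_ker {N G : Subgroup Γ} [Fintype N] (hGN : Nrm G N) : N.subgroupOf G ≤ (prm hGN).ker := by
  intro n hn
  exact prm_self hGN (Subgroup.mem_subgroupOf.mp hn)

theorem card_range_dvd {N G : Subgroup Γ} [Fintype N] (hGN : Nrm G N) : Nat.card (prm hGN).range ∣ N.relIndex G := by
  rw [← Subgroup.index_ker]
  exact Subgroup.index_dvd_of_le (sub_le_ker hGN)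

/-- an invariant constituent of the restriction of an invariant character -/
theorem down {G S N : Subgroup Γ} [Fintype G] [Fintype N] (hSG : Nrm S G) (hSN : Nrm S N) (hNG : N ≤ G) (hGN : Nrm G N)
    (hcop : (N.relIndex G).Coprime (Nat.card S)) (hsolv : Group.IsSolvable S ∨ ∀ h : (N.subgroupOf G).Normal, Group.IsSolvable (G ⧸ N.subgroupOf G))
    (χ : IrrCharacter G) (hχ : TInv S (χ : G → ℂ)) :
    ∃ θ : IrrCharacter N, mlt (Subgroup.inclusion hNG) χ θ ≠ 0 ∧ TInv S (θ : N → ℂ) := by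
  have hn : (N.subgroupOf G).Normal := ⟨fun n hn g => Subgroup.mem_subgroupOf.mpr (hGN g g.2 n (Subgroup.mem_subgroupOf.mp hn))⟩
  obtain ⟨θ, h1, h2⟩ := glaub_perm (Y := IrrCharacter N) (A := (prm hSN).range) (K := (prm hGN).range) (nrm_range hSG hSN hGN)
    (by
      apply Nat.Coprime.coprime_dvd_left (Subgroup.card_range_dvd (prm hSN))
      exact Nat.Coprime.coprime_dvd_right (card_range_dvd hGN) hcop.symm)
    (by
      rcases hsolv with h | h
      · left
        have := h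
        exact Group.isSolvable_of_surjective (prm hSN).rangeRestrict_surjective
      · right
        have := h hn
        let f : G ⧸ N.subgroupOf G →* (prm hGN).range := QuotientGroup.lift _ (prm hGN).rangeRestrict (by
          intro x hx
          apply Subtype.ext
          exact sub_le_ker hGN hx)
        have hf : Function.Surjective f := by
          rintro ⟨_, g, rfl⟩
          exact ⟨QuotientGroup.mk g, rfl⟩
        exact Group.isSolvable_of_surjective hf)
    {θ | mlt (Subgroup.inclusion hNG) χ θ ≠ 0}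
    (by
      obtain ⟨θ, hθ, h⟩ := exists_constituent (IsChar.comp (IsIrr.isCharacter χ.2) (Subgroup.inclusion hNG)) (by
        intro h
        exact IsIrr.one_ne_zero χ.2 (congrFun h 1))
      refine ⟨⟨θ, hθ⟩, ?_⟩
      intro h0
      apply h
      have := mlt_spec (Subgroup.inclusion hNG) χ ⟨θ, hθ⟩
      rw [h0, Nat.cast_zero] at this
      exact this)
    (by
      rintro _ ⟨s, rfl⟩ θ hθ
      show mlt (Subgroup.inclusion hNG) χ _ ≠ 0
      have h3 : Tw (s : Γ) (θ : N → ℂ) ((prm hSN s θ : IrrCharacter N) : N → ℂ) := by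
        intro g g' hg
        rw [prm_apply]
        refine congrArg (θ : N → ℂ) (Subtype.ext ?_)
        simp only [hg]
        group
      have h4 : Tw (s : Γ) (χ : G → ℂ) (χ : G → ℂ) := fun g g' hg => hχ s s.2 g g' hg
      have h5 := mlt_tw hSG hSN hNG s.2 h4 h3
      rw [h5]
      exact hθ)
    (by
      rintro _ ⟨g, rfl⟩ θ hθ
      show mlt (Subgroup.inclusion hNG) χ _ ≠ 0
      have h3 : Tw (g : Γ) (θ : N → ℂ) ((prm hGN g θ : IrrCharacter N) : N → ℂ) := by
        intro x x' hx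
        rw [prm_apply]
        refine congrArg (θ : N → ℂ) (Subtype.ext ?_)
        simp only [hx]
        group
      have h4 : Tw (g : Γ) (χ : G → ℂ) (χ : G → ℂ) := by
        intro x x' hx
        have := IsIrr.isClass χ.2 x g
        rw [← this]
        exact congrArg (χ : G → ℂ) (Subtype.ext hx)
      have h5 := mlt_tw (A := G) (Nrm.self G) hGN hNG g.2 h4 h3
      rw [h5]
      exact hθ)
    (by
      intro θ hθ ψ hψ
      let _ := conjAct N G hGN
      obtain ⟨g, hg⟩ := clifford (N := N) (G := G) (j := Subgroup.inclusion hNG) (Subgroup.inclusion_injective hNG)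
        (fun g n => rfl) hθ hψ
      exact ⟨prm hGN g, ⟨g, rfl⟩, hg⟩)
  refine ⟨θ, h1, ?_⟩
  rw [prm_inv hSN]
  intro a
  exact h2 _ ⟨a, rfl⟩

omit [Fintype Γ] in
theorem ci_ne_zero {X : Type*} [Group X] [Fintype X] {A B θ : X → ℂ} (hA : IsCharacter X A) (hB : IsCharacter X B)
    (hθ : IsIrrCharacter X θ) (h1 : classInner A θ ≠ 0) (h2 : classInner B θ ≠ 0) : classInner A B ≠ 0 := by
  obtain ⟨n, hn⟩ := ci_char_nat hB (IsIrr.isCharacter hθ)
  have hn1 : 1 ≤ n := by
    rcases Nat.eq_zero_or_pos n with h | h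
    · rw [h, Nat.cast_zero] at hn; exact absurd hn h2
    · exact h
  have h3 := IsChar.sub_constituent hB hθ hn hn1
  obtain ⟨a, ha⟩ := ci_char_nat hA (IsIrr.isCharacter hθ)
  obtain ⟨b, hb⟩ := ci_char_nat hA h3
  rw [ci_sub_right] at hb
  have h4 : classInner A (((1 : ℕ) : ℂ) • θ) = a := by
    rw [Nat.cast_one, one_smul, ha]
  rw [h4] at hb
  intro h0
  rw [h0, zero_sub] at hb
  have h5 : ((a + b : ℕ) : ℂ) = 0 := by push_cast; rw [← hb]; ring
  have h6 : a + b = 0 := by exact_mod_cast h5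
  have h7 : a = 0 := by omega
  rw [h7, Nat.cast_zero] at ha
  exact h1 ha

omit [Fintype Γ] in
/-- linear characters of the abelian quotient act transitively on the characters above a given one -/
theorem trans_lin {X : Type*} [Group X] [Fintype X] {Y : Subgroup X} (hY : Y.Normal) [Fintype Y]
    (hab : ∀ a b : X, a * b * a⁻¹ * b⁻¹ ∈ Y) {χ ψ : X → ℂ} (hχ : IsIrrCharacter X χ) (hψ : IsIrrCharacter X ψ)
    (h0 : classInner (fun n : Y => ψ n) (fun n : Y => χ n) ≠ 0) :
    ∃ f : X →* ℂˣ, (∀ y ∈ Y, f y = 1) ∧ ∀ x, ψ x = f x * χ x := by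
  classical
  have hγ : IsCharacter X (avg Y (ψ * fun g => conj (χ g))) :=
    avg_isChar hY (IsChar.mul (IsIrr.isCharacter hψ) (IsChar.conj (IsIrr.isCharacter hχ)))
  have hγ1 : avg Y (ψ * fun g => conj (χ g)) 1 ≠ 0 := by
    have h1 : avg Y (ψ * fun g => conj (χ g)) 1 = classInner (fun n : Y => ψ n) (fun n : Y => χ n) := by
      simp only [avg, classInner, Pi.mul_apply, mul_one]
    rw [h1]; exact h0
  obtain ⟨β, hβ, hβc⟩ := exists_constituent hγ (fun h => hγ1 (by rw [h]; rfl))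
  have hβk : InKer Y β := by
    rcases avg_irr hY hβ with h | h
    · exact h
    · exfalso
      apply hβc
      have h2 := ci_avg_left (N := Y) (avg Y (ψ * fun g => conj (χ g))) β
      rw [(avg_inKer (ψ * fun g => conj (χ g))).avg_eq, h] at h2
      rw [h2, ci_zero_right]
  have hker : ∀ n ∈ Y, β n = β 1 := fun n hn => by
    have := hβk n hn 1
    rwa [mul_one] at this
  obtain ⟨β', hβ', hββ⟩ := IsIrr.descend hβ Y hker
  have hβ1 : β 1 = 1 := by
    rw [← hββ 1]
    exact IsIrr.one_of_comm (A := X ⧸ Y) (by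
      intro a b
      obtain ⟨a, rfl⟩ := QuotientGroup.mk_surjective a
      obtain ⟨b, rfl⟩ := QuotientGroup.mk_surjective b
      have h1 : ((a * b * a⁻¹ * b⁻¹ : X) : X ⧸ Y) = 1 := (QuotientGroup.eq_one_iff _).mpr (hab a b)
      have h2 : ((a * b * a⁻¹ * b⁻¹ : X) : X ⧸ Y) = (a : X ⧸ Y) * b * (a : X ⧸ Y)⁻¹ * (b : X ⧸ Y)⁻¹ := rfl
      rw [h2, mul_inv_eq_one, mul_inv_eq_iff_eq_mul] at h1
      exact h1) hβ'
  obtain ⟨f, hf⟩ := IsChar.hom_units_of_one (IsIrr.isCharacter hβ) hβ1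
  refine ⟨f, ?_, ?_⟩
  · intro y hy
    apply Units.ext
    rw [← hf, hker y hy, hβ1]; rfl
  · have h3 : classInner (ψ * fun g => conj (χ g)) β = classInner ψ (β * χ) := by
      simp only [classInner, Pi.mul_apply, map_mul]
      congr 1
      refine Finset.sum_congr rfl fun g _ => ?_
      ring
    have h4 : ψ = β * χ := by
      by_contra hne
      apply hβc
      rw [ci_avg_left, hβk.avg_eq, h3, ci_irr hψ (IsIrr.mul_linear hχ (IsIrr.isCharacter hβ) hβ1), if_neg hne]
    intro x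
    rw [h4, Pi.mul_apply, hf]

/-- multiplication by linear characters -/
noncomputable def mulP (G : Type*) [Group G] [Finite G] : (G →* ℂˣ) →* Equiv.Perm (IrrCharacter G) where
  toFun f :=
    { toFun := fun χ => ⟨fun g => (f g : ℂ) * (χ : G → ℂ) g, by
        have := Fintype.ofFinite G
        exact IsIrr.mul_linear χ.2 (IsIrr.isCharacter (isIrr_of_hom_units f)) (by simp)⟩
      invFun := fun χ => ⟨fun g => ((f⁻¹ : G →* ℂˣ) g : ℂ) * (χ : G → ℂ) g, by
        have := Fintype.ofFinite G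
        exact IsIrr.mul_linear χ.2 (IsIrr.isCharacter (isIrr_of_hom_units f⁻¹)) (by simp)⟩
      left_inv := fun χ => Subtype.ext (funext fun g => by
        show ((f⁻¹ : G →* ℂˣ) g : ℂ) * ((f g : ℂ) * (χ : G → ℂ) g) = _
        rw [← mul_assoc, ← Units.val_mul, MonoidHom.inv_apply, inv_mul_cancel, Units.val_one, one_mul])
      right_inv := fun χ => Subtype.ext (funext fun g => by
        show (f g : ℂ) * (((f⁻¹ : G →* ℂˣ) g : ℂ) * (χ : G → ℂ) g) = _
        rw [← mul_assoc, ← Units.val_mul, MonoidHom.inv_apply, mul_inv_cancel, Units.val_one, one_mul]) }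
  map_one' := Equiv.ext fun χ => Subtype.ext (funext fun g => by
    show (((1 : G →* ℂˣ) g : ℂˣ) : ℂ) * (χ : G → ℂ) g = (χ : G → ℂ) g
    simp)
  map_mul' f f' := Equiv.ext fun χ => Subtype.ext (funext fun g => by
    show (((f * f' : G →* ℂˣ) g : ℂˣ) : ℂ) * (χ : G → ℂ) g = (f g : ℂ) * ((f' g : ℂ) * (χ : G → ℂ) g)
    rw [MonoidHom.mul_apply, Units.val_mul, mul_assoc])

theorem mulP_apply {G : Type*} [Group G] [Finite G] (f : G →* ℂˣ) (χ : IrrCharacter G) (g : G) :
    ((mulP G f χ : IrrCharacter G) : G → ℂ) g = (f g : ℂ) * (χ : G → ℂ) g := rfl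

theorem coprime_of_exponent {A : Type*} [Group A] [Finite A] {m s : ℕ} (h : ∀ x : A, x ^ m = 1) (hms : m.Coprime s) :
    (Nat.card A).Coprime s := by
  by_contra hne
  obtain ⟨p, hp, hpA, hps⟩ := Nat.Prime.not_coprime_iff_dvd.mp hne
  have : Fact p.Prime := ⟨hp⟩
  obtain ⟨x, hx⟩ := exists_prime_orderOf_dvd_card' (G := A) p hpA
  have h1 : p ∣ m := by
    rw [← hx]; exact orderOf_dvd_of_pow_eq_one (h x)
  exact hp.one_lt.ne' (Nat.eq_one_of_dvd_coprimes hms h1 hps)

/-- the abelian step -/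
theorem up_abelian {G S K : Subgroup Γ} [Fintype G] [Fintype K] (hSG : Nrm S G) (hSK : Nrm S K) (hKG : K ≤ G)
    (hab : ∀ a ∈ G, ∀ b ∈ G, a * b * a⁻¹ * b⁻¹ ∈ K) (hcop : (K.relIndex G).Coprime (Nat.card S))
    (θ : IrrCharacter K) (hθ : TInv S (θ : K → ℂ)) :
    ∃ χ : IrrCharacter G, mlt (Subgroup.inclusion hKG) χ θ ≠ 0 ∧ TInv S (χ : G → ℂ) := by
  classical
  have hGK : Nrm G K := by
    intro g hg k hk
    have h1 := K.mul_mem (hab g hg k (hKG hk)) hk
    rwa [inv_mul_cancel_right] at h1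
  have hn : (K.subgroupOf G).Normal := ⟨fun n hn g => Subgroup.mem_subgroupOf.mpr (hGK g g.2 n (Subgroup.mem_subgroupOf.mp hn))⟩
  let L : Subgroup (G →* ℂˣ) :=
    { carrier := {f | ∀ k : G, (k : Γ) ∈ K → f k = 1}
      mul_mem' := fun {a b} ha hb k hk => by rw [MonoidHom.mul_apply, ha k hk, hb k hk, mul_one]
      one_mem' := fun k _ => rfl
      inv_mem' := fun {a} ha k hk => by rw [MonoidHom.inv_apply, ha k hk, inv_one] }
  have hL : ∀ f ∈ L, f ^ (K.relIndex G) = 1 := by
    intro f hf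
    apply MonoidHom.ext
    intro g
    rw [MonoidHom.pow_apply, ← map_pow, MonoidHom.one_apply]
    apply hf
    have h1 : g ^ (K.subgroupOf G).index ∈ K.subgroupOf G := Subgroup.pow_index_mem _ g
    exact Subgroup.mem_subgroupOf.mp h1
  obtain ⟨χ, h1, h2⟩ := glaub_perm (Y := IrrCharacter G) (A := (prm hSG).range) (K := L.map (mulP G)) (by
      rintro _ ⟨s, rfl⟩ _ ⟨f, hf, rfl⟩
      have hs' : ∀ g : G, (s : Γ)⁻¹ * g * ((s : Γ)⁻¹)⁻¹ ∈ G := fun g => hSG _ (S.inv_mem s.2) g g.2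
      let f' : G →* ℂˣ :=
        { toFun := fun g => f ⟨(s : Γ)⁻¹ * g * ((s : Γ)⁻¹)⁻¹, hs' g⟩
          map_one' := by
            rw [← map_one f]; exact congrArg f (Subtype.ext (by simp))
          map_mul' := fun a b => by
            rw [← map_mul]; exact congrArg f (Subtype.ext (by push_cast; group)) }
      refine ⟨f', ?_, ?_⟩
      · intro k hk
        apply hf
        exact hSK _ (S.inv_mem s.2) k hk
      · rw [eq_mul_inv_iff_mul_eq]
        apply Equiv.ext
        intro χ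
        apply Subtype.ext
        funext g
        rw [Equiv.Perm.mul_apply, Equiv.Perm.mul_apply, mulP_apply, prm_apply, prm_apply, mulP_apply]
        rfl)
    (by
      apply Nat.Coprime.coprime_dvd_left (Subgroup.card_range_dvd (prm hSG))
      apply Nat.Coprime.symm
      apply coprime_of_exponent (m := K.relIndex G) _ hcop
      rintro ⟨_, f, hf, rfl⟩
      apply Subtype.ext
      show (mulP G f) ^ (K.relIndex G) = 1
      rw [← map_pow, hL f hf, map_one])
    (by
      right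
      apply Group.isSolvable_of_comm
      rintro ⟨_, f, hf, rfl⟩ ⟨_, f', hf', rfl⟩
      apply Subtype.ext
      show mulP G f * mulP G f' = mulP G f' * mulP G f
      rw [← map_mul, ← map_mul]
      exact congrArg _ (MonoidHom.ext fun g => mul_comm _ _))
    {χ | mlt (Subgroup.inclusion hKG) χ θ ≠ 0}
    (by
      obtain ⟨β, hβ⟩ := exists_over (Subgroup.inclusion_injective hKG) θ
      exact ⟨β, hβ⟩)
    (by
      rintro _ ⟨s, rfl⟩ χ hχ
      show mlt (Subgroup.inclusion hKG) _ θ ≠ 0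
      have h3 : Tw (s : Γ) (χ : G → ℂ) ((prm hSG s χ : IrrCharacter G) : G → ℂ) := by
        intro g g' hg
        rw [prm_apply]
        refine congrArg (χ : G → ℂ) (Subtype.ext ?_)
        simp only [hg]
        group
      have h4 : Tw (s : Γ) (θ : K → ℂ) (θ : K → ℂ) := fun g g' hg => hθ s s.2 g g' hg
      have h5 := mlt_tw hSG hSK hKG s.2 h3 h4
      rw [h5]
      exact hχ)
    (by
      rintro _ ⟨f, hf, rfl⟩ χ hχ
      show mlt (Subgroup.inclusion hKG) _ θ ≠ 0
      have h5 : mlt (Subgroup.inclusion hKG) (mulP G f χ) θ = mlt (Subgroup.inclusion hKG) χ θ := by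
        apply mlt_eq
        rw [← mlt_spec]
        have h6 : (fun c : K => ((mulP G f χ : IrrCharacter G) : G → ℂ) (Subgroup.inclusion hKG c)) =
            fun c : K => (χ : G → ℂ) (Subgroup.inclusion hKG c) := by
          funext c
          rw [mulP_apply, hf _ c.2, Units.val_one, one_mul]
        rw [h6]
      rw [h5]
      exact hχ)
    (by
      intro χ hχ ψ hψ
      have hf : Fintype (K.subgroupOf G) := Fintype.ofFinite _
      obtain ⟨f, hf1, hf2⟩ := trans_lin (Y := K.subgroupOf G) hn (by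
          intro a b
          exact Subgroup.mem_subgroupOf.mpr (hab a a.2 b b.2)) χ.2 ψ.2 (by
        -- both contain θ
        let e : K ≃* K.subgroupOf G := (Subgroup.subgroupOfEquivOfLe hKG).symm
        have h7 : classInner (fun n : K.subgroupOf G => (ψ : G → ℂ) n) (fun n : K.subgroupOf G => (χ : G → ℂ) n) =
            classInner (fun c : K => (ψ : G → ℂ) (Subgroup.inclusion hKG c)) (fun c : K => (χ : G → ℂ) (Subgroup.inclusion hKG c)) := by
          rw [classInner, classInner, ← Equiv.sum_comp e.toEquiv, Nat.card_congr e.toEquiv]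
          rfl
        rw [h7]
        exact ci_ne_zero (IsChar.comp (IsIrr.isCharacter ψ.2) (Subgroup.inclusion hKG)) (IsChar.comp (IsIrr.isCharacter χ.2) (Subgroup.inclusion hKG))
          θ.2 (by rw [mlt_spec]; exact_mod_cast hψ) (by rw [mlt_spec]; exact_mod_cast hχ))
      refine ⟨mulP G f, ⟨f, ?_, rfl⟩, ?_⟩
      · intro k hk
        exact hf1 k (Subgroup.mem_subgroupOf.mpr hk)
      · apply Subtype.ext
        funext g
        rw [mulP_apply]
        exact (hf2 g).symm)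
  refine ⟨χ, h1, ?_⟩
  rw [prm_inv hSG]
  intro a
  exact h2 _ ⟨a, rfl⟩

omit [Fintype Γ] in
theorem comm_mem {X : Type*} [Group X] (N : Subgroup X) [hN : N.Normal] (D : Subgroup X) {a b : X} (ha : a ∈ N ⊔ D) (hb : b ∈ N ⊔ D) :
    a * b * a⁻¹ * b⁻¹ ∈ N ⊔ ⁅D, D⁆ := by
  rw [← QuotientGroup.comap_map_mk' N] at ha hb ⊢
  obtain ⟨d, hd, hda⟩ := ha
  obtain ⟨e, he, heb⟩ := hb
  refine ⟨d * e * d⁻¹ * e⁻¹, Subgroup.commutator_mem_commutator hd he, ?_⟩
  rw [map_mul, map_mul, map_mul, map_inv, map_inv, hda, heb]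
  rfl

omit [Fintype Γ] in
theorem Nrm.comm {A H : Subgroup Γ} (h : Nrm A H) : Nrm A ⁅H, H⁆ := by
  intro a ha x hx
  have h1 : ⁅H, H⁆.map (MulAut.conj a).toMonoidHom ≤ ⁅H, H⁆ := by
    rw [Subgroup.map_commutator]
    apply Subgroup.commutator_mono <;>
    · rintro _ ⟨y, hy, rfl⟩
      exact h a ha y hy
  exact h1 ⟨x, hx, rfl⟩

/-- the chain of subgroups -/
def Ch (G N : Subgroup Γ) (i : ℕ) : Subgroup Γ := (N.subgroupOf G ⊔ derivedSeries G i).map G.subtype

theorem up_solv {G S N : Subgroup Γ} [Fintype G] [Fintype N] (hSG : Nrm S G) (hSN : Nrm S N) (hNG : N ≤ G) (hGN : Nrm G N)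
    (hcop : (N.relIndex G).Coprime (Nat.card S)) (hsolv : ∀ _ : (N.subgroupOf G).Normal, Group.IsSolvable (G ⧸ N.subgroupOf G))
    (θ : IrrCharacter N) (hθ : TInv S (θ : N → ℂ)) :
    ∃ χ : IrrCharacter G, mlt (Subgroup.inclusion hNG) χ θ ≠ 0 ∧ TInv S (χ : G → ℂ) := by
  classical
  have hn : (N.subgroupOf G).Normal := ⟨fun n hn g => Subgroup.mem_subgroupOf.mpr (hGN g g.2 n (Subgroup.mem_subgroupOf.mp hn))⟩
  have hCG : ∀ i, Ch G N i ≤ G := fun i => Subgroup.map_subtype_le _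
  have hNC : ∀ i, N ≤ Ch G N i := by
    intro i
    have h1 : (N.subgroupOf G).map G.subtype ≤ Ch G N i := Subgroup.map_mono le_sup_left
    rwa [Subgroup.map_subgroupOf_eq_of_le hNG] at h1
  have hanti : ∀ i, Ch G N (i + 1) ≤ Ch G N i := fun i => Subgroup.map_mono (sup_le_sup_left (derivedSeries_antitone G (Nat.le_succ i)) _)
  have hSC : ∀ i, Nrm S (Ch G N i) := by
    intro i
    have h1 : Nrm S ((derivedSeries G i).map G.subtype) := by
      induction i with
      | zero =>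
        rw [derivedSeries_zero, ← MonoidHom.range_eq_map, Subgroup.range_subtype]
        exact hSG
      | succ i ih =>
        rw [derivedSeries_succ, Subgroup.map_commutator]
        exact Nrm.comm ih
    intro s hs x hx
    rw [Ch, Subgroup.map_sup, Subgroup.map_subgroupOf_eq_of_le hNG] at hx ⊢
    have h2 : (N ⊔ (derivedSeries G i).map G.subtype).map (MulAut.conj s).toMonoidHom ≤ N ⊔ (derivedSeries G i).map G.subtype := by
      rw [Subgroup.map_sup]
      apply sup_le_sup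
      · rintro _ ⟨y, hy, rfl⟩; exact hSN s hs y hy
      · rintro _ ⟨y, hy, rfl⟩; exact h1 s hs y hy
    exact h2 ⟨x, hx, rfl⟩
  have hab : ∀ i, ∀ a ∈ Ch G N i, ∀ b ∈ Ch G N i, a * b * a⁻¹ * b⁻¹ ∈ Ch G N (i + 1) := by
    rintro i _ ⟨a, ha, rfl⟩ _ ⟨b, hb, rfl⟩
    refine ⟨a * b * a⁻¹ * b⁻¹, ?_, by simp⟩
    rw [derivedSeries_succ]
    exact comm_mem _ _ ha hb
  obtain ⟨m, hm⟩ : ∃ m, Ch G N m = N := by
    obtain ⟨m, hm⟩ := (hsolv hn).solvable
    refine ⟨m, le_antisymm ?_ (hNC m)⟩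
    rintro _ ⟨x, hx, rfl⟩
    have h1 : derivedSeries G m ≤ N.subgroupOf G := by
      have h2 := map_derivedSeries_eq (QuotientGroup.mk'_surjective (N.subgroupOf G)) m
      rw [hm, Subgroup.map_eq_bot_iff, QuotientGroup.ker_mk'] at h2
      exact h2
    have h3 : N.subgroupOf G ⊔ derivedSeries G m ≤ N.subgroupOf G := sup_le le_rfl h1
    exact Subgroup.mem_subgroupOf.mp (h3 hx)
  have hC0 : Ch G N 0 = G := by
    rw [Ch, derivedSeries_zero, sup_top_eq, ← MonoidHom.range_eq_map, Subgroup.range_subtype]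
  have hF : ∀ i, Fintype (Ch G N i) := fun i => Fintype.ofFinite _
  have key : ∀ k i, i + k = m → ∃ χ : IrrCharacter (Ch G N i), mlt (Subgroup.inclusion (hNC i)) χ θ ≠ 0 ∧ TInv S (χ : Ch G N i → ℂ) := by
    intro k
    induction k with
    | zero =>
      intro i hi
      rw [add_zero] at hi
      subst hi
      -- transport along the equality
      have hle : Ch G N i ≤ N := le_of_eq hm
      let e : Ch G N i ≃* N := MulEquiv.subgroupCongr hm
      refine ⟨⟨fun x => (θ : N → ℂ) (e x), (isIrr_comp_iff e).mpr θ.2⟩, ?_, ?_⟩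
      · have h1 := mlt_spec (Subgroup.inclusion (hNC i)) ⟨fun x => (θ : N → ℂ) (e x), (isIrr_comp_iff e).mpr θ.2⟩ θ
        intro h0
        rw [h0] at h1
        have h2 : (fun c : N => (fun x : Ch G N i => (θ : N → ℂ) (e x)) (Subgroup.inclusion (hNC i) c)) = (θ : N → ℂ) := by
          funext c
          exact congrArg (θ : N → ℂ) (Subtype.ext rfl)
        rw [h2, ci_irr_self θ.2] at h1
        simp at h1
      · intro s hs g g' hg
        exact hθ s hs (e g) (e g') hg
    | succ k ih =>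
      intro i hi
      obtain ⟨χ, h1, h2⟩ := ih (i + 1) (by omega)
      obtain ⟨ψ, h3, h4⟩ := up_abelian (G := Ch G N i) (S := S) (K := Ch G N (i + 1)) (hSC i) (hSC (i + 1)) (hanti i) (hab i) (by
        refine Nat.Coprime.coprime_dvd_left ?_ hcop
        have e1 := Subgroup.relIndex_mul_relIndex N (Ch G N (i + 1)) (Ch G N i) (hNC _) (hanti i)
        have e2 := Subgroup.relIndex_mul_relIndex N (Ch G N i) G (hNC _) (hCG i)
        rw [← e2, ← e1]
        exact Dvd.dvd.mul_right (Dvd.intro_left _ rfl) _) χ h2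
      refine ⟨ψ, ?_, h4⟩
      have : Fintype (IrrCharacter (Ch G N (i + 1))) := Fintype.ofFinite _
      have e3 : Subgroup.inclusion (hNC i) = (Subgroup.inclusion (hanti i)).comp (Subgroup.inclusion (hNC (i + 1))) := rfl
      rw [e3, mlt_trans]
      intro h0
      rw [Finset.sum_eq_zero_iff] at h0
      have := h0 χ (Finset.mem_univ _)
      rcases Nat.mul_eq_zero.mp this with h | h
      · exact h3 h
      · exact h1 h
  obtain ⟨χ, h1, h2⟩ := key m 0 (by omega)
  let e : G ≃* Ch G N 0 := MulEquiv.subgroupCongr hC0.symm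
  refine ⟨⟨fun x => (χ : Ch G N 0 → ℂ) (e x), (isIrr_comp_iff e).mpr χ.2⟩, ?_, ?_⟩
  · intro h0
    apply h1
    apply mlt_eq
    have h5 := mlt_spec (Subgroup.inclusion hNG) ⟨fun x => (χ : Ch G N 0 → ℂ) (e x), (isIrr_comp_iff e).mpr χ.2⟩ θ
    rw [h0] at h5
    exact h5
  · intro s hs g g' hg
    exact h2 s hs (e g) (e g') hg

end Cfsg.Agent.H3.GlInv
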