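import Mathlib
import Cfsg.Prelude.Def_Characters
import Cfsg.Prelude.Def_CharExt
import Cfsg.Prelude.Def_Transfer
import Cfsg.Agent.H3_CharComplete
import Cfsg.Agent.H3_CharMult
import Cfsg.Agent.H3_Clifford
import Cfsg.Agent.H3_Lift
import Cfsg.Agent.H25_Orbit
import Cfsg.Agent.H17_Base
import Cfsg.Agent.H13_Sgn
import Cfsg.Agent.H26_Ext2
import Cfsg.Agent.S0867

/-!
# Characters of `p'`-degree above the `p`-residual
-/

set_option autoImplicit false

open scoped ComplexConjugate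

namespace Cfsg.Agent.H3.PRes

open Cfsg Cfsg.Agent.H3.CharBasic Cfsg.Agent.H3.CharIrr Cfsg.Agent.H3.CharComplete Cfsg.Agent.H3.CharInd
  Cfsg.Agent.H3.CharMult Cfsg.Agent.H3.Clifford Cfsg.Agent.H3.Lift Cfsg.Agent.H26.Ext2

/-- a group without `p`-quotients has determinantal orders prime to `p` -/
theorem detOrder_coprime {X : Type*} [Group X] [Finite X] {p : ℕ} [hp : Fact p.Prime] (hX : pResidual p X = ⊤) {ψ : X → ℂ}
    (hψ : IsCharacter X ψ) : (detOrder ψ).Coprime p := by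
  obtain ⟨f, hf⟩ := exists_detHom hψ
  rw [Nat.coprime_comm, Nat.Prime.coprime_iff_not_dvd hp.out]
  rintro ⟨m, hm⟩
  have hpos : 0 < detOrder ψ := by
    rw [detOrder, orderOf_pos_iff, isOfFinOrder_iff_pow_eq_one]
    refine ⟨Nat.card X, Nat.card_pos, ?_⟩
    funext x
    rw [Pi.pow_apply, hf, ← Units.val_pow_eq_pow_val, ← map_pow, pow_card_eq_one', map_one]
    rfl
  have h1 : (detChar ψ) ^ (p * m) = 1 := by rw [← hm]; exact pow_orderOf_eq_one _
  have h2 : (f ^ m : X →* ℂˣ).ker = ⊤ := by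
    rw [eq_top_iff, ← hX, pResidual, Subgroup.closure_le]
    intro x hx
    show (f ^ m) x = 1
    have h3 : ((f ^ m) x) ^ p = 1 := by
      apply Units.ext
      have := congrFun h1 x
      rw [Pi.pow_apply, hf] at this
      rw [MonoidHom.pow_apply, ← pow_mul, mul_comm m p, Units.val_pow_eq_pow_val, this]
      rfl
    have h4 : orderOf ((f ^ m) x) ∣ orderOf x := orderOf_map_dvd _ x
    have h5 : orderOf ((f ^ m) x) ∣ p := orderOf_dvd_of_pow_eq_one h3
    exact orderOf_eq_one_iff.mp (Nat.eq_one_of_dvd_coprimes hx h4 h5)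
  have h3 : (detChar ψ) ^ m = 1 := by
    funext x
    have h4 : x ∈ (f ^ m : X →* ℂˣ).ker := by rw [h2]; trivial
    have h5 : (f x) ^ m = 1 := h4
    rw [Pi.pow_apply, hf, ← Units.val_pow_eq_pow_val, h5]
    rfl
  have h4 : detOrder ψ ∣ m := orderOf_dvd_of_pow_eq_one h3
  rw [hm] at h4 hpos
  have h5 : 0 < m := Nat.pos_of_mul_pos_left hpos
  have h6 := Nat.le_of_dvd h5 h4
  have h7 := hp.out.two_le
  nlinarith

/-- characters of `p'`-degree restrict irreducibly to normal subgroups of `p`-power index -/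
theorem res_irr {G : Type*} [Group G] [Fintype G] (N : Subgroup G) [hN : N.Normal] [Fintype N] {p k : ℕ} (hp : p.Prime)
    (hidx : N.index = p ^ k) {χ : G → ℂ} (hχ : IsIrrCharacter G χ) {d : ℕ} (hd : χ 1 = d) (hpd : ¬ p ∣ d) :
    IsIrrCharacter N (fun n : N => χ n) := by
  obtain ⟨θ, hθ, hc⟩ := exists_constituent_res (H := N) hχ
  obtain ⟨b, hb, hbi⟩ := degree_dvd N hχ hθ hc
  obtain ⟨t, ht⟩ := IsChar.one_eq_nat (IsIrr.isCharacter hθ)
  have h1 : d = b * t := by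
    rw [hd, ht] at hb
    exact_mod_cast hb
  rw [hidx] at hbi
  have h2 : b = 1 := by
    have h3 : b.Coprime p := by
      rw [Nat.coprime_comm, Nat.Prime.coprime_iff_not_dvd hp]
      intro h
      exact hpd (h1 ▸ h.mul_right t)
    exact Nat.eq_one_of_dvd_coprimes (Nat.Coprime.pow_right k h3) dvd_rfl hbi
  have h3 : (fun n : N => χ n) = θ := IsChar.eq_of_degree (IsChar.res (IsIrr.isCharacter hχ) N) hθ hc (by
    show χ ((1 : N) : G) = θ 1
    rw [OneMemClass.coe_one, hb, h2, Nat.cast_one, one_mul])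
  rw [h3]; exact hθ

/-- conjugation action of a subgroup on the irreducible characters of a normal subgroup -/
@[reducible]
noncomputable def act {G : Type*} [Group G] (P : Subgroup G) (N : Subgroup G) [hN : N.Normal] : MulAction P (IrrCharacter N) where
  smul g ψ := ⟨cj hN (g : G)⁻¹ ψ, (cj_isIrr hN _).mpr ψ.2⟩
  one_smul ψ := Subtype.ext (by
    show cj hN (((1 : P) : G))⁻¹ ψ = ψ
    rw [OneMemClass.coe_one, inv_one, cj_one])
  mul_smul a b ψ := Subtype.ext (by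
    show cj hN ((a * b : P) : G)⁻¹ ψ = cj hN (a : G)⁻¹ (cj hN (b : G)⁻¹ ψ)
    rw [cj_cj, Subgroup.coe_mul, mul_inv_rev])

theorem inv_of_sylow {G : Type*} [Group G] {N P : Subgroup G} [hN : N.Normal] (htop : N ⊔ P = ⊤) {ψ : N → ℂ}
    (hψ : IsClassFunction N ψ) (h : ∀ x ∈ P, cj hN x ψ = ψ) (g : G) : cj hN g ψ = ψ := by
  have hg : g ∈ N ⊔ P := by rw [htop]; trivial
  obtain ⟨n, hn, x, hx, rfl⟩ := Subgroup.mem_sup_of_normal_left.mp hg
  rw [← cj_cj, cj_mem hN hψ hn, h x hx]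

theorem charDegree_eq {G : Type*} [Group G] {χ : G → ℂ} {d : ℕ} (hd : χ 1 = d) : charDegree χ = d := by
  rw [charDegree, hd]; simp

theorem charDegree_cast {G : Type*} [Group G] [Finite G] {χ : G → ℂ} (hχ : IsCharacter G χ) : χ 1 = (charDegree χ : ℂ) := by
  obtain ⟨d, hd⟩ := IsChar.one_eq_nat hχ
  rw [hd, charDegree_eq hd]

theorem index_pResidual {G : Type*} [Group G] [Finite G] (p : ℕ) [hp : Fact p.Prime] : ∃ k, (pResidual p G).index = p ^ k := by
  obtain ⟨n, hn⟩ := IsPGroup.iff_card.1 (H17.Base.pResidual_quotient_isPGroup (p := p) (G := G))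
  exact ⟨n, by rw [Subgroup.index_eq_card, hn]⟩

open Classical in
noncomputable def AA (p : ℕ) (G : Type*) [Group G] [Fintype (IrrCharacter G)] : Finset (IrrCharacter G) :=
  Finset.univ.filter (fun χ : IrrCharacter G => ¬ p ∣ charDegree (χ : G → ℂ) ∧ ¬ p ∣ detOrder (χ : G → ℂ))

theorem mem_AA {p : ℕ} {G : Type*} [Group G] [Fintype (IrrCharacter G)] {χ : IrrCharacter G} :
    χ ∈ AA p G ↔ ¬ p ∣ charDegree (χ : G → ℂ) ∧ ¬ p ∣ detOrder (χ : G → ℂ) := by
  classical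
  rw [AA, Finset.mem_filter]
  exact ⟨fun h => h.2, fun h => ⟨Finset.mem_univ _, h⟩⟩

open Classical in
noncomputable def BB (p : ℕ) {G : Type*} [Group G] (N : Subgroup G) [hN : N.Normal] [Fintype (IrrCharacter N)] : Finset (IrrCharacter N) :=
  Finset.univ.filter (fun ψ : IrrCharacter N => ¬ p ∣ charDegree (ψ : N → ℂ) ∧ ∀ g, cj hN g (ψ : N → ℂ) = ψ)

theorem mem_BB {p : ℕ} {G : Type*} [Group G] {N : Subgroup G} [hN : N.Normal] [Fintype (IrrCharacter N)] {ψ : IrrCharacter N} :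
    ψ ∈ BB p N ↔ ¬ p ∣ charDegree (ψ : N → ℂ) ∧ ∀ g, cj hN g (ψ : N → ℂ) = ψ := by
  classical
  rw [BB, Finset.mem_filter]
  exact ⟨fun h => h.2, fun h => ⟨Finset.mem_univ _, h⟩⟩

theorem sum_eq {G : Type*} [Group G] [Fintype G] (p : ℕ) [hp : Fact p.Prime] [Fintype (IrrCharacter G)] (N : Subgroup G) [hN : N.Normal]
    (hNe : N = pResidual p G) [Fintype (IrrCharacter N)] :
    ∑ χ ∈ AA p G, (charDegree (χ : G → ℂ) : ℤ) ^ 2 = ∑ ψ ∈ BB p N, (charDegree (ψ : N → ℂ) : ℤ) ^ 2 := by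
  have : Fintype N := Fintype.ofFinite _
  obtain ⟨k, hk⟩ := index_pResidual (G := G) p
  rw [← hNe] at hk
  have hNres : pResidual p N = ⊤ := by
    rw [hNe]; exact H13.Sgn.pResidual_pResidual p G
  have hres : ∀ χ : IrrCharacter G, ¬ p ∣ charDegree (χ : G → ℂ) → IsIrrCharacter N (fun n : N => (χ : G → ℂ) n) := by
    intro χ hχ
    exact res_irr N hp.out hk χ.2 (charDegree_cast (IsIrr.isCharacter χ.2)) hχ
  have hdeg : ∀ χ : G → ℂ, charDegree (fun n : N => χ n) = charDegree χ := by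
    intro χ
    rw [charDegree, charDegree, OneMemClass.coe_one]
  have huniq := fun (ϑ : N → ℂ) (hϑ : IsIrrCharacter N ϑ) (hinv : ∀ g, cj hN g ϑ = ϑ) (hd : ¬ p ∣ charDegree ϑ) =>
    S0867.result N ϑ hϑ (fun g n => congrFun (hinv g) n) (charDegree ϑ) (charDegree_cast (IsIrr.isCharacter hϑ)) (by
      rw [hk]
      apply Nat.Coprime.pow_left
      rw [Nat.coprime_mul_iff_right]
      exact ⟨(detOrder_coprime hNres (IsIrr.isCharacter hϑ)).symm, (Nat.Prime.coprime_iff_not_dvd hp.out).mpr hd⟩)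
  refine Finset.sum_bij (fun χ hχ => ⟨fun n : N => (χ : G → ℂ) n, hres χ (mem_AA.mp hχ).1⟩) ?_ ?_ ?_ ?_
  · intro χ hχ
    rw [mem_AA] at hχ
    rw [mem_BB]
    refine ⟨?_, ?_⟩
    · rw [hdeg]; exact hχ.1
    · intro g
      exact cj_res hN (IsIrr.isClass χ.2) g
  · intro χ hχ χ' hχ' h
    rw [mem_AA] at hχ hχ'
    have h1 : ∀ n : N, (χ : G → ℂ) n = (χ' : G → ℂ) n := fun n => congrFun (congrArg Subtype.val h) n
    obtain ⟨ξ, -, hu⟩ := huniq (fun n : N => (χ : G → ℂ) n) (hres χ hχ.1) (fun g => cj_res hN (IsIrr.isClass χ.2) g) (by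
      rw [hdeg]; exact hχ.1)
    have hcop : ∀ n : ℕ, ¬ p ∣ n → Nat.Coprime N.index n := by
      intro n hn
      rw [hk]
      exact Nat.Coprime.pow_left _ ((Nat.Prime.coprime_iff_not_dvd hp.out).mpr hn)
    have e1 := hu χ χ.2 (fun n => rfl) (hcop _ hχ.2)
    have e2 := hu χ' χ'.2 (fun n => (h1 n).symm) (hcop _ hχ'.2)
    exact Subtype.ext (e1.trans e2.symm)
  · intro ψ hψ
    rw [mem_BB] at hψ
    obtain ⟨χ, ⟨h1, h2, h3⟩, -⟩ := huniq ψ ψ.2 hψ.2 hψ.1
    refine ⟨⟨χ, h1⟩, ?_, ?_⟩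
    · rw [mem_AA]
      refine ⟨?_, ?_⟩
      · rw [← hdeg]
        have : (fun n : N => χ n) = (ψ : N → ℂ) := funext h2
        show ¬ p ∣ charDegree (fun n : N => χ n)
        rw [this]; exact hψ.1
      · show ¬ p ∣ detOrder χ
        rw [h3]
        exact (Nat.Prime.coprime_iff_not_dvd hp.out).mp (detOrder_coprime hNres (IsIrr.isCharacter ψ.2)).symm
    · exact Subtype.ext (funext h2)
  · intro χ hχ
    rw [hdeg]

theorem main' {G : Type*} [Group G] [Fintype G] [Fintype (IrrCharacter G)] (p : ℕ) [hp : Fact p.Prime] :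
    (Nat.card (Cfsg.pResidual p G) : ℤ) ≡ ∑ χ ∈ AA p G, (charDegree (χ : G → ℂ) : ℤ) ^ 2 [ZMOD p] := by
  classical
  obtain ⟨N, hNe⟩ : ∃ N, N = pResidual p G := ⟨_, rfl⟩
  have hN : N.Normal := by rw [hNe]; exact H13.Sgn.pResidual_normal p G
  have : Fintype N := Fintype.ofFinite _
  have : Fintype (IrrCharacter N) := Fintype.ofFinite _
  rw [sum_eq p N hNe, ← hNe]
  have h2 : (Nat.card N : ℤ) = ∑ ψ : IrrCharacter N, (charDegree (ψ : N → ℂ) : ℤ) ^ 2 := by
    have h3 := sum_sq (G := N)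
    have h4 : ∑ χ : IrrCharacter N, (χ : N → ℂ) 1 ^ 2 = ((∑ ψ : IrrCharacter N, (charDegree (ψ : N → ℂ) : ℤ) ^ 2 : ℤ) : ℂ) := by
      push_cast
      refine Finset.sum_congr rfl fun χ _ => ?_
      rw [charDegree_cast (IsIrr.isCharacter χ.2)]
    rw [h4] at h3
    exact_mod_cast h3.symm
  let P : Sylow p G := default
  have htop : N ⊔ (P : Subgroup G) = ⊤ := by rw [hNe]; exact H17.Base.pResidual_sup_sylow P
  let _ := act (P : Subgroup G) N
  obtain ⟨y, -, hy⟩ := H25.Orbit.sum_fixed (P := (P : Subgroup G)) P.2 (fun ψ : IrrCharacter N => (charDegree (ψ : N → ℂ) : ℤ) ^ 2) (by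
    intro g ψ
    have : charDegree ((g • ψ : IrrCharacter N) : N → ℂ) = charDegree (ψ : N → ℂ) := by
      rw [charDegree, charDegree]
      have : ((g • ψ : IrrCharacter N) : N → ℂ) 1 = (ψ : N → ℂ) 1 := cj_apply_one hN _ _
      rw [this]
    rw [this])
  have h5 : ∀ ψ : IrrCharacter N, (∀ g : (P : Subgroup G), g • ψ = ψ) ↔ ∀ g, cj hN g (ψ : N → ℂ) = ψ := by
    intro ψ
    constructor
    · intro h
      apply inv_of_sylow htop (IsIrr.isClass ψ.2)
      intro x hx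
      have := congrArg Subtype.val (h (⟨x, hx⟩ : (P : Subgroup G))⁻¹)
      have h6 : cj hN (((⟨x, hx⟩ : (P : Subgroup G))⁻¹ : (P : Subgroup G)) : G)⁻¹ (ψ : N → ℂ) = ψ := this
      rwa [Subgroup.coe_inv, inv_inv] at h6
    · intro h g
      exact Subtype.ext (h _)
  rw [h2]
  have h6 : ∑ ψ ∈ Finset.univ.filter (fun ψ : IrrCharacter N => ∀ g : (P : Subgroup G), g • ψ = ψ), (charDegree (ψ : N → ℂ) : ℤ) ^ 2 ≡
      ∑ ψ ∈ BB p N, (charDegree (ψ : N → ℂ) : ℤ) ^ 2 [ZMOD p] := by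
    rw [BB, Finset.sum_filter, Finset.sum_filter]
    apply Int.ModEq.symm
    rw [Int.modEq_iff_dvd, ← Finset.sum_sub_distrib]
    refine Finset.dvd_sum fun ψ _ => ?_
    by_cases h7 : ∀ g, cj hN g (ψ : N → ℂ) = ψ
    · rw [if_pos ((h5 ψ).mpr h7)]
      by_cases h8 : p ∣ charDegree (ψ : N → ℂ)
      · rw [if_neg (fun h => h.1 h8), sub_zero]
        exact (Int.natCast_dvd_natCast.mpr h8).pow two_ne_zero
      · rw [if_pos ⟨h8, h7⟩, sub_self]
        exact dvd_zero _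
    · rw [if_neg (fun h => h7 ((h5 ψ).mp h)), if_neg (fun h => h7 h.2), sub_self]
      exact dvd_zero _
  refine Int.ModEq.trans ?_ h6
  apply Int.ModEq.symm
  rw [Int.modEq_iff_dvd, hy]
  exact ⟨y, by simp⟩

theorem main {G : Type*} [Group G] [Finite G] (p : ℕ) (hp : p.Prime) : (Nat.card (Cfsg.pResidual p G) : ℤ) ≡ (∑ᶠ χ ∈ {χ : Cfsg.IrrCharacter G | ¬ p ∣ Cfsg.charDegree (χ : G → ℂ) ∧ ¬ p ∣ Cfsg.detOrder (χ : G → ℂ)}, (Cfsg.charDegree (χ : G → ℂ) : ℤ) ^ 2) [ZMOD p] := by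
  classical
  have := Fact.mk hp
  have : Fintype G := Fintype.ofFinite _
  have : Fintype (IrrCharacter G) := Fintype.ofFinite _
  have h1 : (∑ᶠ χ ∈ {χ : Cfsg.IrrCharacter G | ¬ p ∣ Cfsg.charDegree (χ : G → ℂ) ∧ ¬ p ∣ Cfsg.detOrder (χ : G → ℂ)}, (Cfsg.charDegree (χ : G → ℂ) : ℤ) ^ 2) =
      ∑ χ ∈ AA p G, (charDegree (χ : G → ℂ) : ℤ) ^ 2 := by
    rw [← finsum_mem_coe_finset]
    refine finsum_mem_congr ?_ (fun _ _ => rfl)
    ext χ
    exact mem_AA.symm
  rw [h1]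
  exact main' p

/-- Thompson's theorem on characters of degree prime to `p` -/
theorem thompson {G : Type*} [Group G] [Finite G] (p : ℕ) (hp : p.Prime) (hdeg : ∀ χ : Cfsg.IrrCharacter G, Cfsg.charDegree (χ : G → ℂ) ≠ 1 → p ∣ Cfsg.charDegree (χ : G → ℂ)) :
    ¬ p ∣ Nat.card (Cfsg.pResidual p G) := by
  classical
  have := Fact.mk hp
  have : Fintype G := Fintype.ofFinite _
  have : Fintype (IrrCharacter G) := Fintype.ofFinite _
  have h1 := main' (G := G) p
  have hdeg1 : ∀ χ ∈ AA p G, charDegree (χ : G → ℂ) = 1 := by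
    intro χ hχ
    by_contra h
    exact (mem_AA.mp hχ).1 (hdeg χ h)
  rw [Finset.sum_congr rfl (g := fun _ => (1 : ℤ)) (fun χ hχ => by rw [hdeg1 χ hχ]; rfl), Finset.sum_const, nsmul_eq_mul, mul_one] at h1
  obtain ⟨a, m, hm, hcard⟩ := Nat.exists_eq_pow_mul_and_not_dvd (Nat.card_pos (α := G)).ne' p hp.ne_one
  have hirr : ∀ f : G →* ℂˣ, IsIrrCharacter G (fun g => (f g : ℂ)) := fun f => isIrr_of_hom ((Units.coeHom ℂ).comp f)
  let D : Subgroup (G →* ℂˣ) := (powMonoidHom m : (G →* ℂˣ) →* (G →* ℂˣ)).ker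
  have hord : ∀ f : G →* ℂˣ, detOrder (fun g => (f g : ℂ)) = orderOf f := by
    intro f
    rw [detOrder]
    have h2 : detChar (fun g => (f g : ℂ)) = fun g => (f g : ℂ) := funext fun g => detChar_linear f g
    rw [h2]
    let F : (G →* ℂˣ) →* (G → ℂ) :=
      { toFun := fun f g => (f g : ℂ)
        map_one' := rfl
        map_mul' := fun a b => rfl }
    exact orderOf_injective F (by
      intro a b hab
      ext g
      exact congrFun hab g) f
  have hfo : ∀ f : G →* ℂˣ, f ^ Nat.card G = 1 := by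
    intro f
    ext g
    rw [MonoidHom.pow_apply, ← map_pow, pow_card_eq_one', map_one]
    rfl
  have hmem : ∀ f : G →* ℂˣ, f ∈ D ↔ ¬ p ∣ orderOf f := by
    intro f
    have h2 : f ∈ D ↔ orderOf f ∣ m := by
      rw [orderOf_dvd_iff_pow_eq_one]
      exact Iff.rfl
    rw [h2]
    constructor
    · intro h h3
      exact hm (h3.trans h)
    · intro h
      have h3 : orderOf f ∣ p ^ a * m := by
        rw [← hcard]
        exact orderOf_dvd_of_pow_eq_one (hfo f)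
      exact (Nat.Coprime.pow_right a ((Nat.Prime.coprime_iff_not_dvd hp).mpr h).symm).dvd_of_dvd_mul_left h3
  let φ : D → {χ // χ ∈ AA p G} := fun f => ⟨⟨fun g => ((f : G →* ℂˣ) g : ℂ), hirr f⟩, by
    rw [mem_AA]
    refine ⟨?_, ?_⟩
    · show ¬ p ∣ charDegree (fun g => ((f : G →* ℂˣ) g : ℂ))
      rw [charDegree_eq (d := 1) (by simp)]
      exact fun h => hp.one_lt.not_ge (Nat.le_of_dvd one_pos h)
    · show ¬ p ∣ detOrder (fun g => ((f : G →* ℂˣ) g : ℂ))
      rw [hord]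
      exact (hmem f).mp f.2⟩
  have hφ : Function.Bijective φ := by
    constructor
    · intro a b hab
      apply Subtype.ext
      ext g
      exact congrFun (congrArg (fun x : {χ // χ ∈ AA p G} => ((x.1 : IrrCharacter G) : G → ℂ)) hab) g
    · rintro ⟨χ, hχ⟩
      obtain ⟨f, hf⟩ := IsChar.hom_units_of_one (IsIrr.isCharacter χ.2) (by
        rw [charDegree_cast (IsIrr.isCharacter χ.2), hdeg1 χ hχ, Nat.cast_one])
      have hfe : (χ : G → ℂ) = fun g => (f g : ℂ) := funext hf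
      have h3 : ¬ p ∣ orderOf f := by
        rw [← hord, ← hfe]
        exact (mem_AA.mp hχ).2
      exact ⟨⟨f, (hmem f).mpr h3⟩, Subtype.ext (Subtype.ext hfe.symm)⟩
  have hDfin : Finite D := Finite.of_injective φ hφ.1
  have hcD : Nat.card D = (AA p G).card := by
    rw [Nat.card_congr (Equiv.ofBijective φ hφ), Nat.card_eq_fintype_card, Fintype.card_coe]
  have hpD : ¬ p ∣ Nat.card D := by
    intro h
    obtain ⟨x, hx⟩ := exists_prime_orderOf_dvd_card' p h
    have h3 := (hmem x).mp x.2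
    apply h3
    rw [← Subgroup.orderOf_coe] at hx
    rw [hx]
  rw [← hcD] at h1
  intro hcon
  apply hpD
  have h2 := Int.ModEq.dvd h1
  have h3 : (p : ℤ) ∣ (Nat.card (pResidual p G) : ℤ) := Int.natCast_dvd_natCast.mpr hcon
  have h4 := dvd_add h2 h3
  rw [sub_add_cancel] at h4
  exact Int.natCast_dvd_natCast.mp h4

end Cfsg.Agent.H3.PRes
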