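import Mathlib
import Cfsg.Prelude.Def_Characters
import Cfsg.Prelude.Def_CharExt
import Cfsg.Agent.H3_GK
import Cfsg.Agent.H3_CharGal
import Cfsg.Agent.H3_GalProd
import Cfsg.Agent.H3_CharCalc
import Cfsg.Agent.H3_CharMult

/-!
# The Glauberman correspondence for cyclic operator groups
-/

set_option autoImplicit false

open scoped ComplexConjugate

namespace Cfsg.Agent.H3.GlCyc

open Cfsg Cfsg.Agent.H3.CharBasic Cfsg.Agent.H3.CharIrr Cfsg.Agent.H3.CharInt
  Cfsg.Agent.H3.CharComplete Cfsg.Agent.H3.CharInd Cfsg.Agent.H3.Clifford Cfsg.Agent.H3.Lift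
  Cfsg.Agent.H26.Ext2 Cfsg.Agent.H3.CharGal Cfsg.Agent.H3.GalProd Cfsg.Agent.H3.CharCalc
  Cfsg.Agent.H3.CharMult

/-- determinant of a Galois conjugate -/
theorem detChar_pow {Γ : Type*} [Group Γ] [Finite Γ] {m : ℕ} (hm : (Nat.card Γ).Coprime m) {χ : Γ → ℂ} (hχ : IsIrrCharacter Γ χ) :
    detChar (fun g => χ (g ^ m)) = (detChar χ) ^ m := by
  funext x
  have : Fintype Γ := Fintype.ofFinite _
  let f : Subgroup.zpowers x →* Γ :=
    { toFun := fun z => (z : Γ) ^ m
      map_one' := by simp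
      map_mul' := fun a b => by
        obtain ⟨a, i, rfl⟩ := a
        obtain ⟨b, j, rfl⟩ := b
        show (x ^ i * x ^ j) ^ m = (x ^ i) ^ m * (x ^ j) ^ m
        exact ((Commute.refl x).zpow_zpow i j).mul_pow m }
  have h1 := detChar_comp (IsIrr.isCharacter (isIrr_pow hm hχ)) (Subgroup.zpowers x).subtype ⟨x, Subgroup.mem_zpowers x⟩
  have h2 := detChar_comp (IsIrr.isCharacter hχ) f ⟨x, Subgroup.mem_zpowers x⟩
  have h3 : (fun z : Subgroup.zpowers x => (fun g => χ (g ^ m)) ((Subgroup.zpowers x).subtype z)) = fun z => χ (f z) := rfl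
  rw [h3, h2] at h1
  have h4 : detChar (fun g => χ (g ^ m)) x = detChar χ (x ^ m) := h1.symm
  rw [h4]
  obtain ⟨g, hg⟩ := exists_detHom (IsIrr.isCharacter hχ)
  rw [Pi.pow_apply, hg, hg, map_pow, Units.val_pow_eq_pow_val]

theorem detOrder_pow {Γ : Type*} [Group Γ] [Finite Γ] {m : ℕ} (hm : (Nat.card Γ).Coprime m) {χ : Γ → ℂ} (hχ : IsIrrCharacter Γ χ) :
    detOrder (fun g => χ (g ^ m)) ∣ detOrder χ := by
  rw [detOrder, detOrder, detChar_pow hm hχ]
  exact orderOf_pow_dvd m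

/-- canonical extensions are unique -/
theorem canon_unique {Γ : Type*} [Group Γ] [Finite Γ] {G : Subgroup Γ} [hG : G.Normal] (hcop : (Nat.card G).Coprime G.index)
    {χ χ' : Γ → ℂ} (hχ : IsIrrCharacter Γ χ) (hχ' : IsIrrCharacter Γ χ') (hr : IsIrrCharacter G (fun g : G => χ g))
    (heq : ∀ g : G, χ' g = χ g) (hd : (detOrder χ).Coprime G.index) (hd' : (detOrder χ').Coprime G.index) : χ' = χ := by
  have : Fintype Γ := Fintype.ofFinite _
  obtain ⟨ψ, -, h⟩ := Cfsg.Agent.H3.GK.canon G hcop hr (fun g n => IsChar.isClass (IsIrr.isCharacter hχ) (n : Γ) g)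
  rw [h χ hχ (fun _ => rfl) hd.symm, h χ' hχ' heq hd'.symm]

/-- canonical extensions are invariant under the Galois automorphisms fixing the roots of unity of order `|G|` -/
theorem power {Γ : Type*} [Group Γ] [Finite Γ] {G : Subgroup Γ} [hG : G.Normal] (hcop : (Nat.card G).Coprime G.index)
    {χ : Γ → ℂ} (hχ : IsIrrCharacter Γ χ) (hr : IsIrrCharacter G (fun g : G => χ g)) (hd : (detOrder χ).Coprime G.index)
    {m : ℕ} (hm1 : m ≡ 1 [MOD Nat.card G]) (hm2 : G.index.Coprime m) (x : Γ) : χ (x ^ m) = χ x := by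
  have : Fintype Γ := Fintype.ofFinite _
  have hm : (Nat.card Γ).Coprime m := by
    rw [← Subgroup.index_mul_card G]
    apply Nat.Coprime.mul_left hm2
    have h1 := Nat.ModEq.gcd_eq hm1
    rw [Nat.gcd_one_left] at h1
    exact Nat.coprime_comm.mp h1
  have h := canon_unique hcop hχ (isIrr_pow hm hχ) hr (fun g => by
    have h1 : g ^ m = g := by
      conv_rhs => rw [← pow_one g]
      rw [← pow_mod_natCard g m, ← pow_mod_natCard g 1, hm1]
    have h2 : (g : Γ) ^ m = g := by exact_mod_cast congrArg Subtype.val h1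
    simp only [h2]) hd (Nat.Coprime.coprime_dvd_left (detOrder_pow hm hχ) hd)
  exact congrFun h x

/-- orthogonality on cosets -/
theorem coset_self {Γ : Type*} [Group Γ] [Fintype Γ] {G : Subgroup Γ} [hG : G.Normal] [Fintype G] {χ : Γ → ℂ} (hχ : IsIrrCharacter Γ χ)
    (hr : IsIrrCharacter G (fun g : G => χ g)) (s : Γ) : ∑ g : G, χ (g * s) * conj (χ (g * s)) = Nat.card G := by
  have h1 := congrFun (avg_norm_sq hG hχ hr) s
  simp only [avg, Pi.mul_apply] at h1
  have h2 : (Nat.card G : ℂ) ≠ 0 := by exact_mod_cast Nat.card_pos.ne'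
  rw [inv_mul_eq_iff_eq_mul₀ h2, mul_one] at h1
  exact h1

theorem IsChar.zero_of_one {Γ : Type*} [Group Γ] {χ : Γ → ℂ} (hχ : IsCharacter Γ χ) (h : χ 1 = 0) : χ = 0 := by
  obtain ⟨n, ρ, rfl⟩ := hχ
  rw [Representation.char_one, Module.finrank_fin_fun] at h
  have : n = 0 := by exact_mod_cast h
  subst this
  funext g
  rw [Representation.character, Subsingleton.elim (ρ g) 0, map_zero]; rfl

theorem coset_ne {Γ : Type*} [Group Γ] [Fintype Γ] {G : Subgroup Γ} [hG : G.Normal] [Fintype G] {χ χ' : Γ → ℂ} (hχ : IsIrrCharacter Γ χ)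
    (hχ' : IsIrrCharacter Γ χ') (hr : IsIrrCharacter G (fun g : G => χ g)) (hr' : IsIrrCharacter G (fun g : G => χ' g))
    (hne : (fun g : G => χ g) ≠ fun g : G => χ' g) (s : Γ) : ∑ g : G, χ (g * s) * conj (χ' (g * s)) = 0 := by
  have h1 : IsCharacter Γ (avg G (χ * fun g => conj (χ' g))) :=
    avg_isChar hG (IsChar.mul (IsIrr.isCharacter hχ) (IsChar.conj (IsIrr.isCharacter hχ')))
  have h2 : avg G (χ * fun g => conj (χ' g)) 1 = 0 := by
    have := ci_irr_ne hr hr' hne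
    simp only [avg, Pi.mul_apply, mul_one]
    exact this
  have h3 := congrFun (IsChar.zero_of_one h1 h2) s
  simp only [avg, Pi.mul_apply, Pi.zero_apply] at h3
  rcases mul_eq_zero.mp h3 with h4 | h4
  · exfalso
    rw [inv_eq_zero] at h4
    exact (by exact_mod_cast Nat.card_pos.ne' : (Nat.card G : ℂ) ≠ 0) h4
  · exact h4

/-- transfer of sums from the coset `G s` to `C s` -/
theorem transfer {Γ : Type*} [Group Γ] [Finite Γ] {G C : Subgroup Γ} [hG : G.Normal] [Fintype G] [Fintype C] {s : Γ}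
    (hcop : (Nat.card G).Coprime (orderOf s)) (hC : C = G ⊓ Subgroup.centralizer ({s} : Set Γ)) (F : Γ → ℂ)
    (hF : ∀ g ∈ G, ∀ y, F (g * y * g⁻¹) = F y) :
    (Nat.card G : ℂ) * ∑ c : C, F (c * s) = (Nat.card C : ℂ) * ∑ g : G, F (g * s) := by
  classical
  have hCG : C ≤ G := by rw [hC]; exact inf_le_left
  have hCs : ∀ c ∈ C, c * s = s * c := by
    intro c hc
    rw [hC] at hc
    exact Subgroup.mem_centralizer_singleton_iff.mp hc.2
  have hPhi : ∀ (g : G) (c : C), (g : Γ) * c * s * (g : Γ)⁻¹ * s⁻¹ ∈ G := by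
    intro g c
    have : (g : Γ) * c * s * (g : Γ)⁻¹ * s⁻¹ = (g : Γ) * c * (s * (g : Γ)⁻¹ * s⁻¹) := by group
    rw [this]
    exact G.mul_mem (G.mul_mem g.2 (hCG c.2)) (hG.conj_mem _ (G.inv_mem g.2) s)
  let Φ : G × C → G := fun x => ⟨(x.1 : Γ) * x.2 * s * (x.1 : Γ)⁻¹ * s⁻¹, hPhi x.1 x.2⟩
  have hΦs : ∀ x : G × C, (Φ x : Γ) * s = (x.1 : Γ) * (x.2 * s) * (x.1 : Γ)⁻¹ := by
    intro x
    show (x.1 : Γ) * x.2 * s * (x.1 : Γ)⁻¹ * s⁻¹ * s = _
    group
  -- the power `a`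
  obtain ⟨a, ha1, ha2⟩ := Nat.chineseRemainder hcop 0 1
  have hpow : ∀ c ∈ C, (c * s) ^ a = s := by
    intro c hc
    have hcomm : Commute c s := hCs c hc
    rw [hcomm.mul_pow]
    have h1 : c ^ a = 1 := by
      have h2 : (⟨c, hCG hc⟩ : G) ^ a = 1 := by
        rw [← pow_mod_natCard, ha1]; simp
      have h3 := congrArg (fun z : G => (z : Γ)) h2
      simpa using h3
    have h2 : s ^ a = s := by
      conv_rhs => rw [← pow_one s]
      rw [← pow_mod_orderOf s a, ← pow_mod_orderOf s 1, ha2]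
    rw [h1, h2, one_mul]
  have hfib : ∀ y : G, (Finset.univ.filter (fun x : G × C => Φ x = y)).card ≤ Fintype.card C := by
    intro y
    rcases (Finset.univ.filter (fun x : G × C => Φ x = y)).eq_empty_or_nonempty with h0 | ⟨x0, hx0⟩
    · rw [h0]; simp
    · rw [Finset.mem_filter] at hx0
      have hx0 := hx0.2
      rw [← Finset.card_univ]
      have hmem : ∀ x : G × C, Φ x = y → (x0.1 : Γ)⁻¹ * x.1 ∈ C := by
        intro x hx
        have h1 : (x.1 : Γ) * (x.2 * s) * (x.1 : Γ)⁻¹ = (x0.1 : Γ) * (x0.2 * s) * (x0.1 : Γ)⁻¹ := by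
          rw [← hΦs, ← hΦs, hx, hx0]
        have h2 : (x.1 : Γ) * s * (x.1 : Γ)⁻¹ = (x0.1 : Γ) * s * (x0.1 : Γ)⁻¹ := by
          have h3 := congrArg (fun z => z ^ a) h1
          simp only [conj_pow] at h3
          rwa [hpow _ x.2.2, hpow _ x0.2.2] at h3
        have hCm : ∀ z, z ∈ C ↔ z ∈ G ∧ z * s = s * z := by
          intro z
          rw [hC]
          exact and_congr Iff.rfl Subgroup.mem_centralizer_singleton_iff
        rw [hCm]
        refine ⟨G.mul_mem (G.inv_mem x0.1.2) x.1.2, ?_⟩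
        have h4 : (x0.1 : Γ)⁻¹ * ((x.1 : Γ) * s * (x.1 : Γ)⁻¹) * x.1 = (x0.1 : Γ)⁻¹ * ((x0.1 : Γ) * s * (x0.1 : Γ)⁻¹) * x.1 := by rw [h2]
        have h5 : (x0.1 : Γ)⁻¹ * ((x.1 : Γ) * s * (x.1 : Γ)⁻¹) * x.1 = (x0.1 : Γ)⁻¹ * x.1 * s := by group
        have h6 : (x0.1 : Γ)⁻¹ * ((x0.1 : Γ) * s * (x0.1 : Γ)⁻¹) * x.1 = s * ((x0.1 : Γ)⁻¹ * x.1) := by group
        rw [← h5, ← h6, h4]
      apply Finset.card_le_card_of_injOn (fun x => if h : (x0.1 : Γ)⁻¹ * x.1 ∈ C then ⟨_, h⟩ else 1) (fun x _ => Finset.mem_univ _)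
      intro x hx x' hx' hxx
      simp only [Finset.coe_filter, Finset.mem_univ, true_and, Set.mem_ofPred_eq] at hx hx'
      simp only [hmem x hx, hmem x' hx', dif_pos] at hxx
      have h1 : x.1 = x'.1 := Subtype.ext (mul_left_cancel (congrArg Subtype.val hxx))
      have h2 : (x.1 : Γ) * (x.2 * s) * (x.1 : Γ)⁻¹ = (x'.1 : Γ) * (x'.2 * s) * (x'.1 : Γ)⁻¹ := by
        rw [← hΦs, ← hΦs, hx, hx']
      rw [h1] at h2
      have h3 : (x.2 : Γ) = x'.2 := by
        have := mul_right_cancel h2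
        have := mul_left_cancel this
        exact mul_right_cancel this
      exact Prod.ext h1 (Subtype.ext h3)
  have htot : ∑ y : G, (Finset.univ.filter (fun x : G × C => Φ x = y)).card = Fintype.card G * Fintype.card C := by
    rw [← Fintype.card_prod, ← Finset.card_univ]
    exact (Finset.card_eq_sum_card_fiberwise (fun x _ => Finset.mem_univ (Φ x))).symm
  have hfib' : ∀ y : G, (Finset.univ.filter (fun x : G × C => Φ x = y)).card = Fintype.card C := by
    have h1 : ∑ y : G, (Finset.univ.filter (fun x : G × C => Φ x = y)).card = ∑ y : G, Fintype.card C := by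
      rw [htot]; simp
    have h2 := (Finset.sum_eq_sum_iff_of_le (fun y _ => hfib y)).mp h1
    exact fun y => h2 y (Finset.mem_univ _)
  have h1 : ∑ x : G × C, F ((Φ x : Γ) * s) = (Nat.card G : ℂ) * ∑ c : C, F (c * s) := by
    rw [Fintype.sum_prod_type]
    have h2 : ∀ g : G, ∑ c : C, F ((Φ (g, c) : Γ) * s) = ∑ c : C, F (c * s) := by
      intro g
      refine Finset.sum_congr rfl fun c _ => ?_
      rw [hΦs, hF _ g.2]
    rw [Finset.sum_congr rfl fun g _ => h2 g, Finset.sum_const, Finset.card_univ, ← Nat.card_eq_fintype_card, nsmul_eq_mul]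
  rw [← h1]
  have h2 := Finset.sum_fiberwise (Finset.univ : Finset (G × C)) Φ (fun x => F ((Φ x : Γ) * s))
  rw [← h2, Finset.mul_sum]
  refine Finset.sum_congr rfl fun y _ => ?_
  rw [Finset.sum_congr rfl (g := fun _ => F ((y : Γ) * s)) (fun x hx => by
    rw [Finset.mem_filter] at hx
    rw [hx.2]), Finset.sum_const, hfib' y, Nat.card_eq_fintype_card, nsmul_eq_mul]

end Cfsg.Agent.H3.GlCyc
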