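import Mathlib
import Cfsg.Prelude.Def_Characters
import Cfsg.Prelude.Def_CharExt
import Cfsg.Agent.H3_PRes
import Cfsg.Agent.H3_GalProd
import Cfsg.Agent.H3_GlCyc
import Cfsg.Agent.H3_GalOrb
import Cfsg.Agent.H1_HC

/-!
# Real characters and the abelianization of a Sylow 2-subgroup
-/

set_option autoImplicit false

open scoped ComplexConjugate commutatorElement

namespace Cfsg.Agent.H3.Syl2

open Cfsg Cfsg.Agent.H3.CharBasic Cfsg.Agent.H3.CharIrr Cfsg.Agent.H3.CharComplete Cfsg.Agent.H3.CharInd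
  Cfsg.Agent.H3.CharMult Cfsg.Agent.H3.Clifford Cfsg.Agent.H3.Lift Cfsg.Agent.H26.Ext2 Cfsg.Agent.H3.PRes
  Cfsg.Agent.H3.GalProd Cfsg.Agent.H3.GalOrb

/-- the exponent inverting `p`-elements and fixing `p'`-elements -/
theorem exists_exp (n p : ℕ) (hn : n ≠ 0) (hp : p.Prime) : ∃ k : ℕ, k.Coprime n ∧ (∀ j, p ^ j ∣ n → k + 1 ≡ 0 [MOD p ^ j]) ∧ k * k ≡ 1 [MOD n] := by
  obtain ⟨a, m, hm, hcard⟩ := Nat.exists_eq_pow_mul_and_not_dvd hn p hp.ne_one
  have hcop : (p ^ a).Coprime m := Nat.Coprime.pow_left _ ((Nat.Prime.coprime_iff_not_dvd hp).mpr hm)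
  obtain ⟨k, hk1, hk2⟩ := Nat.chineseRemainder hcop (p ^ a - 1) 1
  have hpos : 0 < p ^ a := pow_pos hp.pos a
  have h1 : k + 1 ≡ 0 [MOD p ^ a] := by
    have := hk1.add_right 1
    rw [Nat.sub_add_cancel hpos] at this
    exact this.trans (Nat.modEq_zero_iff_dvd.mpr dvd_rfl)
  have h2 : k * k ≡ 1 [MOD p ^ a] := by
    rw [← Int.natCast_modEq_iff] at h1 ⊢
    push_cast at h1 ⊢
    have h3 : (k : ℤ) ≡ -1 [ZMOD (p : ℤ) ^ a] := by
      have := h1.sub_right 1
      simpa using this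
    have := h3.mul h3
    simpa using this
  have h3 : k * k ≡ 1 [MOD m] := by
    have := hk2.mul hk2
    simpa using this
  have h4 : k * k ≡ 1 [MOD n] := by
    rw [hcard]
    exact (Nat.modEq_and_modEq_iff_modEq_mul hcop).mp ⟨h2, h3⟩
  refine ⟨k, ?_, ?_, h4⟩
  · rw [Nat.coprime_iff_gcd_eq_one]
    have h5 : Nat.gcd k n ∣ 1 := by
      have h6 : Nat.gcd k n ∣ k * k := (Nat.gcd_dvd_left k n).mul_right k
      exact ((h4.of_dvd (Nat.gcd_dvd_right k n)).dvd_iff dvd_rfl).mp h6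
    exact Nat.dvd_one.mp h5
  · intro j hj
    apply h1.of_dvd
    rw [hcard] at hj
    have h5 : (p ^ j).Coprime m := Nat.Coprime.pow_left _ ((Nat.Prime.coprime_iff_not_dvd hp).mpr hm)
    exact h5.dvd_of_dvd_mul_right hj

theorem odd_detOrder {X : Type*} [Group X] [Finite X] {p : ℕ} (hX : (Nat.card (Abelianization X)).Coprime p) {ψ : X → ℂ}
    (hψ : IsCharacter X ψ) : (detOrder ψ).Coprime p := by
  obtain ⟨f, hf⟩ := exists_detHom hψ
  apply Nat.Coprime.coprime_dvd_left _ hX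
  apply orderOf_dvd_of_pow_eq_one
  funext x
  rw [Pi.pow_apply, hf]
  have h1 : f x = Abelianization.lift f (Abelianization.of x) := (Abelianization.lift_apply_of f x).symm
  rw [h1, ← Units.val_pow_eq_pow_val, ← map_pow, pow_card_eq_one', map_one]
  rfl

section Core

/-- sum formula -/
theorem sum_mult {N : Type*} [Group N] [Fintype N] [Fintype (IrrCharacter N)] {Q : Subgroup N} [Fintype Q] (μ : Q → ℂ) (hμ1 : μ 1 = 1)
    (n : IrrCharacter N → ℕ) (hn : ∀ ψ : IrrCharacter N, classInner (fun q : Q => (ψ : N → ℂ) q) μ = n ψ) :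
    ∑ ψ : IrrCharacter N, n ψ * charDegree (ψ : N → ℂ) = Q.index := by
  have h1 := expand_apply (indFun Q μ) (ind_isClass Q μ) 1
  rw [ind_one, hμ1, mul_one] at h1
  have h2 : ∑ χ : IrrCharacter N, classInner (indFun Q μ) (χ : N → ℂ) * (χ : N → ℂ) 1 = ((∑ ψ : IrrCharacter N, n ψ * charDegree (ψ : N → ℂ) : ℕ) : ℂ) := by
    push_cast
    refine Finset.sum_congr rfl fun χ _ => ?_
    rw [frobenius Q μ _ (IsIrr.isClass χ.2), ← ci_conj_symm, hn, map_natCast, charDegree_cast (IsIrr.isCharacter χ.2)]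
  rw [h2] at h1
  exact_mod_cast h1.symm

theorem even_of_involution {α : Type*} [DecidableEq α] (s : Finset α) (w : α → ℕ) (τ : α → α) (hτ : ∀ x ∈ s, τ x ∈ s)
    (hττ : ∀ x ∈ s, τ (τ x) = x) (hw : ∀ x ∈ s, w (τ x) = w x) (hfix : ∀ x ∈ s, τ x = x → Even (w x)) : Even (∑ x ∈ s, w x) := by
  have h1 : ∑ x ∈ s, (w x : ZMod 2) = 0 := by
    refine Finset.sum_involution (fun x _ => τ x) ?_ ?_ hτ hττ
    · intro x hx
      rw [hw x hx]
      exact CharTwo.add_self_eq_zero _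
    · intro x hx h0 h1
      exact h0 ((ZMod.natCast_eq_zero_iff_even).mpr (hfix x hx h1))
  rw [← Nat.cast_sum] at h1
  exact (ZMod.natCast_eq_zero_iff_even).mp h1

variable {G : Type*} [Group G] [Fintype G] {N P : Subgroup G} [hN : N.Normal]

theorem index_pow {p : ℕ} [Fact p.Prime] (hP : IsPGroup p P) (htop : N ⊔ P = ⊤) : ∃ k, N.index = p ^ k := by
  obtain ⟨k, hk⟩ := IsPGroup.iff_card.mp hP
  have h1 : N.index = N.relIndex P := by
    rw [← Subgroup.relIndex_top_right, ← htop, sup_comm, Subgroup.relIndex_sup_right]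
  have h2 : N.relIndex P ∣ p ^ k := by
    rw [← hk]; exact Subgroup.relIndex_dvd_card N P
  obtain ⟨j, -, hj⟩ := (Nat.dvd_prime_pow Fact.out).mp h2
  exact ⟨j, h1.trans hj⟩

theorem core (hP : IsPGroup 2 P) (htop : N ⊔ P = ⊤) (hodd : (Nat.card (Abelianization N)).Coprime 2)
    (hQ : Odd ((P ⊓ N).subgroupOf N).index) (lam : P →* ℂˣ) (hlQ : ∀ q : P, (q : G) ∈ N → lam q ^ 2 = 1)
    (hβ : ∀ f : P →* ℂˣ, (∀ q : P, (q : G) ∈ N → f q = 1) → ∀ x, f x ^ 2 = 1) (x : P) : lam x ^ 2 = 1 := by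
  classical
  by_contra hx
  have hF2 : Fact (Nat.Prime 2) := ⟨Nat.prime_two⟩
  have : Fintype N := Fintype.ofFinite _
  have : Fintype P := Fintype.ofFinite _
  obtain ⟨Q, hQdef⟩ : ∃ Q : Subgroup N, Q = (P ⊓ N).subgroupOf N := ⟨_, rfl⟩
  have hQP : ∀ q : Q, ((q : N) : G) ∈ P := fun q => by
    have h : (q : N) ∈ (P ⊓ N).subgroupOf N := by rw [← hQdef]; exact q.2
    exact (Subgroup.mem_subgroupOf.mp h).1
  have hQmem : ∀ n : N, (n : G) ∈ P → n ∈ Q := fun n hn => by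
    rw [hQdef, Subgroup.mem_subgroupOf]; exact ⟨hn, n.2⟩
  have : Fintype Q := Fintype.ofFinite _
  have : Fintype (IrrCharacter N) := Fintype.ofFinite _
  have : Fintype (IrrCharacter P) := Fintype.ofFinite _
  let qP : Q →* P := MonoidHom.mk' (fun q => ⟨((q : N) : G), hQP q⟩) (fun a b => rfl)
  obtain ⟨μ, hμdef⟩ : ∃ μ : Q → ℂ, ∀ q, μ q = (lam (qP q) : ℂ) := ⟨_, fun q => rfl⟩
  have hμe : μ = fun q => ((lam.comp qP) q : ℂ) := funext hμdef
  have hμi : IsIrrCharacter Q μ := by rw [hμe]; exact isIrr_of_hom_units _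
  have hμ1 : μ 1 = 1 := by rw [hμdef, map_one, map_one]; rfl
  obtain ⟨k, hk, hk2, hkk⟩ := exists_exp (Nat.card G) 2 Nat.card_pos.ne' Nat.prime_two
  have hkN : (Nat.card N).Coprime k := (Nat.Coprime.coprime_dvd_right (Subgroup.card_subgroup_dvd_card N) hk).symm
  have hkP : (Nat.card P).Coprime k := (Nat.Coprime.coprime_dvd_right (Subgroup.card_subgroup_dvd_card P) hk).symm
  have hkQ : (Nat.card Q).Coprime k := Nat.Coprime.coprime_dvd_left (Subgroup.card_subgroup_dvd_card Q) hkN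
  have hPinv : ∀ y : P, y ^ k = y⁻¹ := by
    intro y
    obtain ⟨j, hj⟩ := (IsPGroup.iff_orderOf.mp hP) y
    have h1 : 2 ^ j ∣ Nat.card G := by
      rw [← hj]; exact (orderOf_dvd_natCard y).trans (Subgroup.card_subgroup_dvd_card P)
    have h2 := hk2 j h1
    rw [← hj] at h2
    have h3 : y ^ (k + 1) = 1 := orderOf_dvd_iff_pow_eq_one.mp ((Nat.modEq_zero_iff_dvd).mp h2)
    rw [pow_succ] at h3
    exact eq_inv_of_mul_eq_one_left h3
  have hkk' : ∀ g : G, (g ^ k) ^ k = g := by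
    intro g
    rw [← pow_mul]
    have := pow_eq_pow_iff_modEq.mpr (hkk.of_dvd (orderOf_dvd_natCard g))
    rwa [pow_one] at this
  have hμk : ∀ q : Q, μ (q ^ k) = μ q := by
    intro q
    rw [hμdef, hμdef, map_pow, hPinv, map_inv]
    have h1 : lam (qP q) ^ 2 = 1 := hlQ _ (q : N).2
    rw [inv_eq_of_mul_eq_one_left (by rw [← pow_two]; exact h1)]
  -- multiplicities
  have hmul : ∀ ψ : IrrCharacter N, ∃ n : ℕ, classInner (fun q : Q => (ψ : N → ℂ) q) μ = n := fun ψ =>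
    ci_char_nat (IsChar.res (IsIrr.isCharacter ψ.2) Q) (IsIrr.isCharacter hμi)
  choose n hn using hmul
  have hsum := sum_mult μ hμ1 n hn
  rw [hQdef] at hsum
  rw [← hsum] at hQ
  -- the action of `P`
  let _ := act P N
  have hninv : ∀ (g : P) (ψ : IrrCharacter N), n (g • ψ) = n ψ := by
    intro g ψ
    have h1 : (n (g • ψ) : ℂ) = n ψ := by
      rw [← hn, ← hn]
      let e : Q ≃ Q :=
        { toFun := fun q => ⟨⟨(g : G)⁻¹ * ((q : N) : G) * (g : G)⁻¹⁻¹, hN.conj_mem _ (q : N).2 _⟩,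
            hQmem _ (P.mul_mem (P.mul_mem (P.inv_mem g.2) (hQP q)) (P.inv_mem (P.inv_mem g.2)))⟩
          invFun := fun q => ⟨⟨(g : G) * ((q : N) : G) * (g : G)⁻¹, hN.conj_mem _ (q : N).2 _⟩,
            hQmem _ (P.mul_mem (P.mul_mem g.2 (hQP q)) (P.inv_mem g.2))⟩
          left_inv := fun q => by
            apply Subtype.ext; apply Subtype.ext
            show (g : G) * ((g : G)⁻¹ * ((q : N) : G) * (g : G)⁻¹⁻¹) * (g : G)⁻¹ = ((q : N) : G)
            group
          right_inv := fun q => by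
            apply Subtype.ext; apply Subtype.ext
            show (g : G)⁻¹ * ((g : G) * ((q : N) : G) * (g : G)⁻¹) * (g : G)⁻¹⁻¹ = ((q : N) : G)
            group }
      simp only [classInner]
      congr 1
      refine Eq.trans ?_ (Equiv.sum_comp e (fun q => (ψ : N → ℂ) q * conj (μ q)))
      refine Finset.sum_congr rfl fun q _ => ?_
      have h2 : μ (e q) = μ q := by
        rw [hμdef, hμdef]
        have h3 : qP (e q) = g⁻¹ * qP q * (g⁻¹)⁻¹ := rfl
        rw [h3, map_mul, map_mul, map_inv lam g⁻¹, mul_inv_cancel_comm]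
      rw [h2]
      rfl
    exact_mod_cast h1
  have hdinv : ∀ (g : P) (ψ : IrrCharacter N), charDegree ((g • ψ : IrrCharacter N) : N → ℂ) = charDegree (ψ : N → ℂ) := by
    intro g ψ
    rw [charDegree, charDegree]
    have : ((g • ψ : IrrCharacter N) : N → ℂ) 1 = (ψ : N → ℂ) 1 := cj_apply_one hN _ _
    rw [this]
  obtain ⟨y, -, hy⟩ := H25.Orbit.sum_fixed (P := P) hP (fun ψ : IrrCharacter N => ((n ψ * charDegree (ψ : N → ℂ) : ℕ) : ℤ)) (by
    intro g ψ
    rw [hninv, hdinv])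
  obtain ⟨s, hs⟩ : ∃ s : Finset (IrrCharacter N), s = Finset.univ.filter (fun ψ : IrrCharacter N => ∀ g : P, g • ψ = ψ) := ⟨_, rfl⟩
  have hsodd : ¬ Even (∑ ψ ∈ s, n ψ * charDegree (ψ : N → ℂ)) := by
    intro hev
    rw [← hs] at hy
    rw [← Nat.cast_sum, ← Nat.cast_sum] at hy
    have h1 : Even ((∑ ψ : IrrCharacter N, n ψ * charDegree (ψ : N → ℂ) : ℕ) : ℤ) := by
      have h2 : ((∑ ψ : IrrCharacter N, n ψ * charDegree (ψ : N → ℂ) : ℕ) : ℤ) = 2 • y + ((∑ ψ ∈ s, n ψ * charDegree (ψ : N → ℂ) : ℕ) : ℤ) := by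
        rw [← hy]; ring
      rw [h2]
      refine Even.add ?_ (by exact_mod_cast hev)
      exact ⟨y, two_smul ℕ y⟩
    have h3 : Even (∑ ψ : IrrCharacter N, n ψ * charDegree (ψ : N → ℂ)) := by exact_mod_cast h1
    exact (Nat.not_even_iff_odd.mpr hQ) h3
  let σ : IrrCharacter N → IrrCharacter N := fun ψ => ⟨sg k (ψ : N → ℂ), isIrr_pow hkN ψ.2⟩
  have hσσ : ∀ ψ, σ (σ ψ) = ψ := by
    intro ψ
    apply Subtype.ext
    funext m
    show (ψ : N → ℂ) ((m ^ k) ^ k) = (ψ : N → ℂ) m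
    refine congrArg (ψ : N → ℂ) (Subtype.ext ?_)
    push_cast
    exact hkk' _
  have hσg : ∀ (g : P) (ψ : IrrCharacter N), g • σ ψ = σ (g • ψ) := by
    intro g ψ
    apply Subtype.ext
    funext m
    show (ψ : N → ℂ) (_ ^ k) = (ψ : N → ℂ) _
    refine congrArg (ψ : N → ℂ) (Subtype.ext ?_)
    push_cast
    rw [conj_pow]
  have hmem : ∀ ψ, ψ ∈ s ↔ ∀ g : P, g • ψ = ψ := by
    intro ψ; rw [hs]; simp
  have hex : ∃ ψ ∈ s, σ ψ = ψ ∧ ¬ Even (n ψ * charDegree (ψ : N → ℂ)) := by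
    by_contra hcon
    push Not at hcon
    apply hsodd
    refine even_of_involution s (fun ψ => n ψ * charDegree (ψ : N → ℂ)) σ ?_ (fun ψ _ => hσσ ψ) ?_ hcon
    · intro ψ hψ
      rw [hmem] at hψ ⊢
      intro g
      rw [hσg, hψ g]
    · intro ψ _
      have h1 : n (σ ψ) = n ψ := by
        have h2 : (n (σ ψ) : ℂ) = n ψ := by
          rw [← hn, ← hn, ← ci_pow hkQ (fun q : Q => (ψ : N → ℂ) q) μ, show (fun g => μ (g ^ k)) = μ from funext hμk]
          rfl
        exact_mod_cast h2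
      have h2 : charDegree ((σ ψ : IrrCharacter N) : N → ℂ) = charDegree (ψ : N → ℂ) := by
        rw [charDegree, charDegree]
        have : ((σ ψ : IrrCharacter N) : N → ℂ) 1 = (ψ : N → ℂ) 1 := congrArg (ψ : N → ℂ) (one_pow k)
        rw [this]
      show n (σ ψ) * charDegree ((σ ψ : IrrCharacter N) : N → ℂ) = _
      rw [h1, h2]
  obtain ⟨ψ, hψs, hψσ, hψodd⟩ := hex
  have hnodd : Odd (n ψ) := by
    rw [← Nat.not_even_iff_odd]; intro h; exact hψodd (h.mul_right _)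
  have hdodd : Odd (charDegree (ψ : N → ℂ)) := by
    rw [← Nat.not_even_iff_odd]; intro h; exact hψodd (h.mul_left _)
  have hψinv : ∀ g, cj hN g (ψ : N → ℂ) = ψ := by
    apply inv_of_sylow htop (IsIrr.isClass ψ.2)
    intro z hz
    have h6 : cj hN (((⟨z, hz⟩ : P)⁻¹ : P) : G)⁻¹ (ψ : N → ℂ) = ψ := congrArg Subtype.val ((hmem ψ).mp hψs (⟨z, hz⟩ : P)⁻¹)
    rwa [Subgroup.coe_inv, inv_inv] at h6
  obtain ⟨j, hj⟩ := index_pow hP htop
  have hdet := odd_detOrder hodd (IsIrr.isCharacter ψ.2)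
  obtain ⟨χ, ⟨hχ, hχN, hχd⟩, huniq⟩ := S0867.result N (ψ : N → ℂ) ψ.2 (fun g n => congrFun (hψinv g) n) (charDegree (ψ : N → ℂ))
    (charDegree_cast (IsIrr.isCharacter ψ.2)) (by
      rw [hj]
      apply Nat.Coprime.pow_left
      rw [Nat.coprime_mul_iff_right]
      exact ⟨hdet.symm, Nat.coprime_two_left.mpr hdodd⟩)
  have hχk : ∀ g, χ (g ^ k) = χ g := by
    have h1 := huniq (fun g => χ (g ^ k)) (isIrr_pow hk.symm hχ) (fun m => by
      show χ ((m : G) ^ k) = (ψ : N → ℂ) m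
      rw [← Subgroup.coe_pow, hχN]
      exact congrFun (congrArg Subtype.val hψσ) m) (by
      rw [hj]
      apply Nat.Coprime.pow_left
      have h2 := GlCyc.detOrder_pow hk.symm hχ
      apply Nat.Coprime.coprime_dvd_right h2
      rw [hχd]; exact hdet.symm)
    exact fun g => congrFun h1 g
  -- restrict to `P`
  obtain ⟨R, hR⟩ : ∃ R : Subgroup P, R = N.subgroupOf P := ⟨_, rfl⟩
  have hRN : ∀ r : R, ((r : P) : G) ∈ N := fun r => by
    have h : (r : P) ∈ N.subgroupOf P := by rw [← hR]; exact r.2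
    exact Subgroup.mem_subgroupOf.mp h
  have hRmem : ∀ r : P, (r : G) ∈ N → r ∈ R := fun r hr => by
    rw [hR]; exact Subgroup.mem_subgroupOf.mpr hr
  have hRn : R.Normal := by rw [hR]; infer_instance
  have : Fintype R := Fintype.ofFinite _
  have hkR : (Nat.card R).Coprime k := Nat.Coprime.coprime_dvd_left (Subgroup.card_subgroup_dvd_card R) hkP
  obtain ⟨ν, hνdef⟩ : ∃ ν : R → ℂ, ∀ r, ν r = (lam r : ℂ) := ⟨_, fun r => rfl⟩
  have hνi : IsIrrCharacter R ν := by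
    have : ν = fun r => ((lam.comp R.subtype) r : ℂ) := funext hνdef
    rw [this]; exact isIrr_of_hom_units _
  have hν1 : ν 1 = 1 := by rw [hνdef, OneMemClass.coe_one, map_one]; rfl
  have hνk : ∀ r : R, ν (r ^ k) = ν r := by
    intro r
    rw [hνdef, hνdef, Subgroup.coe_pow, hPinv, map_inv]
    have h1 : lam (r : P) ^ 2 = 1 := hlQ _ (hRN r)
    rw [inv_eq_of_mul_eq_one_left (by rw [← pow_two]; exact h1)]
  have hQR : classInner (fun q : Q => (ψ : N → ℂ) q) μ = classInner (fun r : R => χ ((r : P) : G)) ν := by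
    let e : Q ≃ R :=
      { toFun := fun q => ⟨⟨((q : N) : G), hQP q⟩, hRmem _ (q : N).2⟩
        invFun := fun r => ⟨⟨((r : P) : G), hRN r⟩, hQmem _ (r : P).2⟩
        left_inv := fun q => rfl
        right_inv := fun r => rfl }
    simp only [classInner]
    rw [Nat.card_congr e]
    congr 1
    refine Eq.trans ?_ (Equiv.sum_comp e (fun r => χ ((r : P) : G) * conj (ν r)))
    refine Finset.sum_congr rfl fun q _ => ?_
    have h1 : (ψ : N → ℂ) q = χ (((e q : R) : P) : G) := (hχN q).symm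
    have h2 : μ q = ν (e q) := by rw [hμdef, hνdef]; rfl
    rw [h1, h2]
  have hχP : IsCharacter P (fun x : P => χ x) := IsChar.res (IsIrr.isCharacter hχ) P
  obtain ⟨a, ha, hχa⟩ := IsChar.eq_sum_nat hχP
  have hmulb : ∀ ρ : IrrCharacter P, ∃ n : ℕ, classInner (fun r : R => (ρ : P → ℂ) r) ν = n := fun ρ =>
    ci_char_nat (IsChar.res (IsIrr.isCharacter ρ.2) R) (IsIrr.isCharacter hνi)
  choose b hb using hmulb
  have hnab : n ψ = ∑ ρ : IrrCharacter P, a ρ * b ρ := by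
    have h1 : (n ψ : ℂ) = ((∑ ρ : IrrCharacter P, a ρ * b ρ : ℕ) : ℂ) := by
      rw [← hn, hQR]
      have h2 : (fun r : R => χ ((r : P) : G)) = ∑ ρ : IrrCharacter P, (a ρ : ℂ) • fun r : R => (ρ : P → ℂ) r := by
        funext r
        have := congrFun hχa r
        simp only [Finset.sum_apply, Pi.smul_apply] at this ⊢
        exact this
      rw [h2, ci_sum_left]
      push_cast
      refine Finset.sum_congr rfl fun ρ _ => ?_
      rw [ci_smul_left, hb]
    exact_mod_cast h1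
  let σ' : IrrCharacter P → IrrCharacter P := fun ρ => ⟨sg k (ρ : P → ℂ), isIrr_pow hkP ρ.2⟩
  have hσσ' : ∀ ρ, σ' (σ' ρ) = ρ := by
    intro ρ
    apply Subtype.ext
    funext m
    show (ρ : P → ℂ) ((m ^ k) ^ k) = (ρ : P → ℂ) m
    refine congrArg (ρ : P → ℂ) (Subtype.ext ?_)
    push_cast
    exact hkk' _
  have haσ : ∀ ρ, a (σ' ρ) = a ρ := by
    intro ρ
    have h2 : (a (σ' ρ) : ℂ) = a ρ := by
      rw [← ha, ← ha, ← ci_pow hkP (fun x : P => χ x) (ρ : P → ℂ)]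
      have h3 : (fun g : P => χ ((g ^ k : P) : G)) = fun g : P => χ g := by
        funext g
        rw [Subgroup.coe_pow, hχk]
      rw [h3]
      rfl
    exact_mod_cast h2
  have hbσ : ∀ ρ, b (σ' ρ) = b ρ := by
    intro ρ
    have h2 : (b (σ' ρ) : ℂ) = b ρ := by
      rw [← hb, ← hb, ← ci_pow hkR (fun r : R => (ρ : P → ℂ) r) ν, show (fun g => ν (g ^ k)) = ν from funext hνk]
      rfl
    exact_mod_cast h2
  apply (Nat.not_even_iff_odd.mpr hnodd)
  rw [hnab]
  refine even_of_involution Finset.univ (fun ρ => a ρ * b ρ) σ' (fun _ _ => Finset.mem_univ _) (fun ρ _ => hσσ' ρ)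
    (fun ρ _ => by show a (σ' ρ) * b (σ' ρ) = _; rw [haσ, hbσ]) ?_
  intro ρ _ hρσ
  apply Even.mul_left
  by_cases hb0 : b ρ = 0
  · rw [hb0]; exact Even.zero
  have hcl := clifford_invariant hRn ρ.2 hνi (by
    rw [hb]; exact_mod_cast hb0) (by
    intro g
    funext r
    rw [cj_apply, hνdef, hνdef]
    show (lam (g * (r : P) * g⁻¹) : ℂ) = lam r
    rw [map_mul, map_mul, map_inv, mul_inv_cancel_comm])
  rw [hb] at hcl
  have hρ1 : (ρ : P → ℂ) 1 = b ρ := by
    have := congrFun hcl 1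
    rw [Pi.smul_apply, hν1, smul_eq_mul, mul_one] at this
    exact this
  by_cases hb1 : b ρ = 1
  · exfalso
    rw [hb1, Nat.cast_one] at hρ1 hcl
    obtain ⟨f, hf⟩ := IsChar.hom_units_of_one (IsIrr.isCharacter ρ.2) hρ1
    have h1 : ∀ q : P, (q : G) ∈ N → f q = lam q := by
      intro q hq
      apply Units.ext
      rw [← hf]
      have := congrFun hcl ⟨q, hRmem q hq⟩
      rw [one_smul, hνdef] at this
      exact this
    have h2 : (f x) ^ 2 = lam x ^ 2 := by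
      have h3 := hβ (f * lam⁻¹) (by
        intro q hq
        rw [MonoidHom.mul_apply, MonoidHom.inv_apply, h1 q hq, mul_inv_cancel]) x
      rw [MonoidHom.mul_apply, MonoidHom.inv_apply, mul_pow, inv_pow, mul_inv_eq_one] at h3
      exact h3
    have h3 : f x ^ 2 = 1 := by
      have h4 : (ρ : P → ℂ) (x ^ k) = (ρ : P → ℂ) x := congrFun (congrArg Subtype.val hρσ) x
      rw [hPinv, hf, hf] at h4
      have h5 : f x⁻¹ = f x := Units.ext h4
      rw [map_inv] at h5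
      rw [pow_two]
      nth_rewrite 1 [← h5]
      exact inv_mul_cancel _
    exact hx (h2 ▸ h3)
  · obtain ⟨d, hd, hdd⟩ : ∃ d : ℕ, (ρ : P → ℂ) 1 = d ∧ d ∣ Nat.card P := by
      obtain ⟨d, -, hd, hdd⟩ := CharInt.IsIrr.dvd_card ρ.2
      exact ⟨d, hd, hdd⟩
    have h1 : d = b ρ := by rw [hd] at hρ1; exact_mod_cast hρ1
    obtain ⟨i, hi⟩ := IsPGroup.iff_card.mp hP
    rw [h1, hi] at hdd
    obtain ⟨l, -, hl⟩ := (Nat.dvd_prime_pow Nat.prime_two).mp hdd
    rw [hl]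
    rcases Nat.eq_zero_or_pos l with h0 | h0
    · rw [h0, pow_zero] at hl; exact absurd hl hb1
    · exact (Nat.even_pow.mpr ⟨even_two, h0.ne'⟩)

end Core

theorem final {G : Type*} [Group G] [Finite G] {N P : Subgroup G} [hN : N.Normal] (hP : IsPGroup 2 P)
    (hodd : Odd (Nat.card (Abelianization N))) (hQ : Odd ((P ⊓ N).relIndex N)) (lam : P →* ℂˣ)
    (hlQ : ∀ q : P, (q : G) ∈ N → lam q ^ 2 = 1)
    (hβ : ∀ f : P →* ℂˣ, (∀ q : P, (q : G) ∈ N → f q = 1) → ∀ x, f x ^ 2 = 1) (x : P) : lam x ^ 2 = 1 := by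
  obtain ⟨H, hH⟩ : ∃ H : Subgroup G, H = N ⊔ P := ⟨_, rfl⟩
  have hNH : N ≤ H := by rw [hH]; exact le_sup_left
  have hPH : P ≤ H := by rw [hH]; exact le_sup_right
  have : Fintype H := Fintype.ofFinite _
  let e : P.subgroupOf H ≃* P := Subgroup.subgroupOfEquivOfLe hPH
  let eN : N.subgroupOf H ≃* N := Subgroup.subgroupOfEquivOfLe hNH
  have h1 := core (G := H) (N := N.subgroupOf H) (P := P.subgroupOf H) (hP.of_equiv e.symm) (by
    rw [← Subgroup.subgroupOf_sup hNH hPH, ← hH, Subgroup.subgroupOf_self]) (by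
    rw [Nat.card_congr eN.abelianizationCongr.toEquiv]
    exact Nat.coprime_two_right.mpr hodd) (by
    have h2 : ((P.subgroupOf H ⊓ N.subgroupOf H).subgroupOf (N.subgroupOf H)).index = (P ⊓ N).relIndex N := by
      have h3 : P.subgroupOf H ⊓ N.subgroupOf H = (P ⊓ N).subgroupOf H := rfl
      rw [h3]
      exact Subgroup.relIndex_subgroupOf hNH
    rw [h2]; exact hQ) (lam.comp e.toMonoidHom) (by
    intro q hq
    exact hlQ (e q) (Subgroup.mem_subgroupOf.mp hq)) (by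
    intro f hf y
    have h2 := hβ (f.comp e.symm.toMonoidHom) (by
      intro q hq
      exact hf _ (Subgroup.mem_subgroupOf.mpr hq)) (e y)
    have h3 : (f.comp e.symm.toMonoidHom) (e y) = f y := by
      show f (e.symm (e y)) = f y
      rw [e.symm_apply_apply]
    rwa [h3] at h2) (e.symm x)
  have h2 : (lam.comp e.toMonoidHom) (e.symm x) = lam x := by
    show lam (e (e.symm x)) = lam x
    rw [e.apply_symm_apply]
  rwa [h2] at h1

theorem result' {G : Type*} [Group G] [Finite G] (N : Subgroup G) [N.Normal] (P : Sylow 2 G)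
    (hP : ∀ x ∈ (P : Subgroup G), x ^ 2 ∈ ((P : Subgroup G) ⊓ N) ⊔ ⁅(P : Subgroup G), (P : Subgroup G)⁆)
    (hQ : ∀ x ∈ (P : Subgroup G) ⊓ N, x ^ 2 ∈ ⁅(P : Subgroup G) ⊓ N, (P : Subgroup G) ⊓ N⁆)
    (hodd : Odd (Nat.card (Abelianization N))) :
    ∀ x ∈ (P : Subgroup G), x ^ 2 ∈ ⁅(P : Subgroup G), (P : Subgroup G)⁆ := by
  classical
  intro x hx
  by_contra hcon
  obtain ⟨S, hS⟩ : ∃ S : Subgroup G, S = P := ⟨_, rfl⟩
  have hP2 : IsPGroup 2 S := by rw [hS]; exact P.2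
  rw [← hS] at hP hQ hx hcon
  have hkill : ∀ (f : S →* ℂˣ) (y : S), (y : G) ∈ ⁅S, S⁆ → f y = 1 := by
    intro f y hy
    have h1 : ⁅S, S⁆ ≤ f.ker.map S.subtype := by
      rw [Subgroup.commutator_le]
      intro a ha b hb
      refine ⟨⁅(⟨a, ha⟩ : S), (⟨b, hb⟩ : S)⁆, ?_, rfl⟩
      show f _ = 1
      rw [map_commutatorElement, commutatorElement_eq_one_iff_mul_comm, mul_comm]
    obtain ⟨z, hz, hzy⟩ := h1 hy
    have : z = y := Subtype.ext hzy
    rw [← this]; exact hz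
  have hx2 : (⟨x, hx⟩ : S) ^ 2 ∉ commutator S := by
    intro h
    apply hcon
    have h1 : (commutator S).map S.subtype = ⁅S, S⁆ := by
      rw [_root_.commutator_def, Subgroup.map_commutator, ← MonoidHom.range_eq_map, Subgroup.range_subtype]
    rw [← h1]
    exact ⟨_, h, rfl⟩
  have hab : (Abelianization.of (⟨x, hx⟩ : S)) ^ 2 ≠ 1 := by
    intro h
    apply hx2
    rw [← map_pow] at h
    exact (QuotientGroup.eq_one_iff _).mp h
  obtain ⟨φ, hφ⟩ := CommGroup.exists_apply_ne_one_of_hasEnoughRootsOfUnity (Abelianization S) ℂ hab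
  have h1 := final (N := N) hP2 hodd (by
    have h2 : S.relIndex N ∣ S.index := H1.HC.relIndex_dvd_index_of_normal_right S N
    have h3 : (S ⊓ N).relIndex N = S.relIndex N := Subgroup.inf_relIndex_right S N
    rw [h3]
    have h4 : ¬ 2 ∣ S.index := by rw [hS]; exact P.not_dvd_index
    exact (Nat.not_even_iff_odd.mp (fun h => h4 h.two_dvd)).of_dvd_nat h2) (φ.comp Abelianization.of) (by
    intro q hq
    rw [← map_pow]
    apply hkill
    exact (Subgroup.commutator_mono inf_le_left inf_le_left) (hQ q ⟨q.2, hq⟩)) (by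
    intro f hf y
    rw [← map_pow]
    have h2 : (S ⊓ N) ⊔ ⁅S, S⁆ ≤ f.ker.map S.subtype := by
      apply sup_le
      · intro z hz
        exact ⟨⟨z, hz.1⟩, hf _ hz.2, rfl⟩
      · intro z hz
        have hzS : z ∈ S := (Subgroup.commutator_le.mpr (fun a ha b hb => by
          rw [commutatorElement_def]
          exact S.mul_mem (S.mul_mem (S.mul_mem ha hb) (S.inv_mem ha)) (S.inv_mem hb)) : ⁅S, S⁆ ≤ S) hz
        exact ⟨⟨z, hzS⟩, hkill f _ hz, rfl⟩
    obtain ⟨z, hz, hzy⟩ := h2 (hP y y.2)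
    have : z = y ^ 2 := Subtype.ext hzy
    rw [← this]; exact hz) ⟨x, hx⟩
  apply hφ
  rw [map_pow]
  exact h1

end Cfsg.Agent.H3.Syl2
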