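import Mathlib
import Cfsg.Prelude.Def_Characters
import Cfsg.Prelude.Def_CharExt
import Cfsg.Prelude.Def_Blocks
import Cfsg.Agent.H3_Syl2
import Cfsg.Agent.H3_PRes
import Cfsg.Agent.H3_GalProd
import Cfsg.Agent.H3_GalOrb
import Cfsg.Agent.H3_InvSum
import Cfsg.Agent.H10_BlockMax
import Cfsg.Agent.H10_BlockCov
import Cfsg.Agent.H10_BlockOrth
import Cfsg.Agent.H10_PPart
import Cfsg.Agent.H3_GlInv
import Cfsg.Agent.H3_Clifford2
import Cfsg.Agent.H1_HC

/-!
# Galois action on the characters of the principal block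
-/

set_option autoImplicit false

open scoped ComplexConjugate

namespace Cfsg.Agent.H3.BlkGal

open Cfsg Cfsg.Agent.H3.CharBasic Cfsg.Agent.H3.CharIrr Cfsg.Agent.H3.CharComplete Cfsg.Agent.H3.CharInd
  Cfsg.Agent.H3.CharMult Cfsg.Agent.H3.Clifford Cfsg.Agent.H3.PRes
  Cfsg.Agent.H3.GalProd Cfsg.Agent.H3.GalOrb Cfsg.Agent.H10.BlockLoc Cfsg.Agent.H10.BlockAlg Cfsg.Agent.H10.BlockIdem
  Cfsg.Agent.H10.BlockMax Cfsg.Agent.H10.BlockCov Cfsg.Agent.H10.BlockOrth

variable {G : Type*} [Group G] [Fintype G] {p : ℕ} {M : Ideal AlgInt}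

/-- the Galois conjugate of an irreducible character -/
def sI {k : ℕ} (hk : (Nat.card G).Coprime k) (χ : IrrCharacter G) : IrrCharacter G := ⟨sg k (χ : G → ℂ), isIrr_pow hk χ.2⟩

theorem sI_apply {k : ℕ} (hk : (Nat.card G).Coprime k) (χ : IrrCharacter G) (g : G) :
    ((sI hk χ : IrrCharacter G) : G → ℂ) g = (χ : G → ℂ) (g ^ k) := rfl

theorem sameBlock_sI (hM : IsPModular p M) {k : ℕ} (hk : (Nat.card G).Coprime k) (hk₂ : ∀ g : G, ¬ p ∣ orderOf g → g ^ k = g)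
    (χ : IrrCharacter G) : SameBlock M (χ : G → ℂ) ((sI hk χ : IrrCharacter G) : G → ℂ) := by
  have := hM.2.1
  apply sameBlock_of_regular hM
  intro g hg
  rw [om_cs, om_cs]
  have : centralChar ((sI hk χ : IrrCharacter G) : G → ℂ) g = centralChar (χ : G → ℂ) g := by
    rw [centralChar, centralChar, sI_apply, sI_apply, hk₂ g hg, one_pow]
  rw [this, sub_self]
  exact ideal_zero

theorem mem_principal_iff (hM : IsPModular p M) (χ : IrrCharacter G) :
    χ ∈ principalBlock M G ↔ SameBlock M (fun _ : G => (1 : ℂ)) (χ : G → ℂ) := Iff.rfl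

theorem sI_principal (hM : IsPModular p M) {k : ℕ} (hk : (Nat.card G).Coprime k) (hk₂ : ∀ g : G, ¬ p ∣ orderOf g → g ^ k = g)
    {χ : IrrCharacter G} (h : χ ∈ principalBlock M G) : sI hk χ ∈ principalBlock M G :=
  have := hM.2.1
  sameBlock_trans (χ := (⟨fun _ => 1, isIrr_one⟩ : IrrCharacter G)) h (sameBlock_sI hM hk hk₂ χ)

/-- the number of characters of odd degree in a `2`-block of a group of even order is even -/
theorem even_odd {M : Ideal AlgInt} (hM : IsPModular 2 M) (hev : Even (Nat.card G)) {B : Set (IrrCharacter G)} (hB : IsPBlock M B) :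
    Even (Nat.card {χ : IrrCharacter G // χ ∈ B ∧ Odd (charDegree (χ : G → ℂ))}) := by
  classical
  have : Fintype (IrrCharacter G) := Fintype.ofFinite _
  have := Fact.mk Nat.prime_two
  obtain ⟨t, ht⟩ := exists_prime_orderOf_dvd_card' 2 hev.two_dvd
  have h1 := weak_orth' hM hB 1 t (by rw [orderOf_one]; decide) (by rw [ht])
  have htt : t * t = 1 := by rw [← pow_two, ← ht, pow_orderOf_eq_one]
  have h2 : ∀ χ : IrrCharacter G, ∃ c : ℤ, (χ : G → ℂ) t * (χ : G → ℂ) 1 = ((charDegree (χ : G → ℂ) : ℤ) ^ 2 + 2 * c : ℤ) := by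
    intro χ
    obtain ⟨a, n, ha, hn, ⟨b, hb⟩, -⟩ := InvSum.char_invol (IsIrr.isCharacter χ.2) htt
    refine ⟨-(b * n), ?_⟩
    rw [charDegree_eq hn, ha, hn]
    have h3 : (a : ℤ) = n - 2 * b := by omega
    rw [h3]
    push_cast
    ring
  choose c hc using h2
  have h3 : ∑ χ : IrrCharacter G, (if χ ∈ B then (charDegree (χ : G → ℂ) : ℤ) ^ 2 + 2 * c χ else 0) = 0 := by
    have h4 : ((∑ χ : IrrCharacter G, (if χ ∈ B then (charDegree (χ : G → ℂ) : ℤ) ^ 2 + 2 * c χ else 0) : ℤ) : ℂ) = 0 := by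
      rw [← h1]
      push_cast
      refine Finset.sum_congr rfl fun χ _ => ?_
      split_ifs
      · rw [hc]; push_cast; ring
      · rfl
    exact_mod_cast h4
  have h4 := congrArg (fun z : ℤ => (z : ZMod 2)) h3
  simp only [Int.cast_sum, Int.cast_zero] at h4
  have h5 : ∀ χ : IrrCharacter G, (((if χ ∈ B then (charDegree (χ : G → ℂ) : ℤ) ^ 2 + 2 * c χ else 0 : ℤ)) : ZMod 2) =
      if χ ∈ B ∧ Odd (charDegree (χ : G → ℂ)) then 1 else 0 := by
    intro χ
    by_cases hB' : χ ∈ B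
    · rw [if_pos hB']
      push_cast
      rw [show (2 : ZMod 2) = 0 from rfl, zero_mul, add_zero]
      by_cases ho : Odd (charDegree (χ : G → ℂ))
      · rw [if_pos ⟨hB', ho⟩, (ZMod.natCast_eq_one_iff_odd).mpr ho, one_pow]
      · rw [if_neg (fun h => ho h.2), (ZMod.natCast_eq_zero_iff_even).mpr (Nat.not_odd_iff_even.mp ho), zero_pow two_ne_zero]
    · rw [if_neg hB', if_neg (fun h => hB' h.1), Int.cast_zero]
  rw [Finset.sum_congr rfl (fun χ _ => h5 χ), Finset.sum_boole] at h4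
  rw [Nat.card_eq_fintype_card, Fintype.card_subtype]
  exact (ZMod.natCast_eq_zero_iff_even).mp h4

theorem card_fixed_mod {α : Type*} [Finite α] (f : α → α) {p e : ℕ} [Fact p.Prime] (hf : f^[p ^ e] = id) :
    Nat.card α ≡ Nat.card {a // f a = a} [MOD p] := by
  classical
  have : Fintype α := Fintype.ofFinite _
  let F : Function.End α := f
  have hF : ∀ n : ℕ, F ^ n = (f^[n] : α → α) := by
    intro n
    induction n with
    | zero => rfl
    | succ n ih => rw [pow_succ, ih]; rfl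
  have h1 := Equiv.Perm.card_fixedPoints_modEq (f := F) (p := p) (n := e) (by
    rw [hF, hf]; rfl)
  rw [Nat.card_eq_fintype_card, Nat.card_eq_fintype_card]
  exact h1.trans (by
    have : Fintype.card (Function.fixedPoints f) = Fintype.card {a // f a = a} := Fintype.card_congr (Equiv.refl _)
    show Fintype.card (Function.fixedPoints f) ≡ _ [MOD p]
    rw [this])

omit [Fintype G] in
theorem coprime_of_pow [Finite G] (hp : p.Prime) {k l : ℕ} (hk₁ : ∀ g : G, (∃ j : ℕ, orderOf g = p ^ j) → g ^ k = g ^ l) (hl : l.Coprime p)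
    (hk₂ : ∀ g : G, ¬ p ∣ orderOf g → g ^ k = g) : (Nat.card G).Coprime k := by
  rw [Nat.coprime_iff_gcd_eq_one]
  by_contra hne
  obtain ⟨q, hq, hqd⟩ := Nat.exists_prime_and_dvd hne
  have hq1 : q ∣ Nat.card G := hqd.trans (Nat.gcd_dvd_left _ _)
  have hq2 : q ∣ k := hqd.trans (Nat.gcd_dvd_right _ _)
  have := Fact.mk hq
  obtain ⟨g, hg⟩ := exists_prime_orderOf_dvd_card' q hq1
  have h1 : g ^ k = 1 := orderOf_dvd_iff_pow_eq_one.mp (by rw [hg]; exact hq2)
  by_cases hqp : q = p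
  · rw [hk₁ g ⟨1, by rw [hg, hqp, pow_one]⟩] at h1
    have h2 : orderOf g ∣ l := orderOf_dvd_of_pow_eq_one h1
    rw [hg, hqp] at h2
    exact ((Nat.Prime.coprime_iff_not_dvd hp).mp hl.symm) h2
  · rw [hk₂ g (by
      rw [hg]
      intro h
      exact hqp ((Nat.prime_dvd_prime_iff_eq hp hq).mp h).symm)] at h1
    rw [h1, orderOf_one] at hg
    exact hq.one_lt.ne hg

omit [Fintype G] in
theorem pow_iter [Finite G] [hp : Fact p.Prime] {k l : ℕ} (hk₁ : ∀ g : G, (∃ j : ℕ, orderOf g = p ^ j) → g ^ k = g ^ l)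
    (hk₂ : ∀ g : G, ¬ p ∣ orderOf g → g ^ k = g) (n : ℕ) (hn : ∀ a : ℕ, p ^ a ∣ Nat.card G → l ^ n ≡ 1 [MOD p ^ a]) (g : G) : g ^ (k ^ n) = g := by
  obtain ⟨x, y, hxy, hc, ⟨a, ha⟩, hy⟩ := H10.PPart.exists_ppart (p := p) g
  have h1 : x ^ (k ^ n) = x ^ (l ^ n) := by
    have : ∀ n, x ^ (k ^ n) = x ^ (l ^ n) := by
      intro n
      induction n with
      | zero => rfl
      | succ n ih =>
        rw [pow_succ k, pow_mul, ih, pow_succ l, pow_mul]
        apply hk₁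
        have h2 : orderOf (x ^ l ^ n) ∣ p ^ a := by rw [← ha]; exact orderOf_pow_dvd _
        obtain ⟨b, -, hb⟩ := (Nat.dvd_prime_pow hp.out).mp h2
        exact ⟨b, hb⟩
    exact this n
  have h2 : y ^ (k ^ n) = y := by
    have : ∀ n, y ^ (k ^ n) = y := by
      intro n
      induction n with
      | zero => rw [pow_zero, pow_one]
      | succ n ih => rw [pow_succ k, pow_mul, ih]; exact hk₂ y hy
    exact this n
  have h3 : x ^ (l ^ n) = x := by
    have h4 : l ^ n ≡ 1 [MOD orderOf x] := by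
      rw [ha]
      exact hn a (by rw [← ha]; exact orderOf_dvd_natCard x)
    have := pow_eq_pow_iff_modEq.mpr h4
    rwa [pow_one] at this
  rw [← hxy, hc.mul_pow, h1, h2, h3]

theorem result4550 {G : Type*} [Group G] [Finite G] (M : Ideal Cfsg.AlgInt) (hM : Cfsg.IsPModular 2 M) (hev : Even (Nat.card G)) (k : ℕ) (hk₁ : ∀ g : G, (∃ j : ℕ, orderOf g = 2 ^ j) → g ^ k = g ^ 3) (hk₂ : ∀ g : G, Odd (orderOf g) → g ^ k = g) : Even (Nat.card {χ : Cfsg.IrrCharacter G // χ ∈ Cfsg.principalBlock M G ∧ Odd (Cfsg.charDegree (χ : G → ℂ)) ∧ ∀ g : G, (χ : G → ℂ) (g ^ k) = (χ : G → ℂ) g}) := by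
  classical
  have : Fintype G := Fintype.ofFinite _
  have := Fact.mk Nat.prime_two
  have hk₂' : ∀ g : G, ¬ 2 ∣ orderOf g → g ^ k = g := fun g hg => hk₂ g (Nat.odd_iff.mpr (by omega))
  have hk : (Nat.card G).Coprime k := coprime_of_pow Nat.prime_two hk₁ (by decide) hk₂'
  obtain ⟨e, m, hm, hcard⟩ := Nat.exists_eq_pow_mul_and_not_dvd (Nat.card_pos (α := G)).ne' 2 (by decide)
  have hiter : ∀ g : G, g ^ (k ^ (2 ^ e)) = g := pow_iter hk₁ hk₂' (2 ^ e) (by
    intro a ha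
    have h1 : a ≤ e := by
      have h2 : (2 ^ a).Coprime m := Nat.Coprime.pow_left _ ((Nat.Prime.coprime_iff_not_dvd Nat.prime_two).mpr hm)
      rw [hcard] at ha
      exact (Nat.pow_dvd_pow_iff_le_right (by decide)).mp (h2.dvd_of_dvd_mul_right ha)
    rcases Nat.eq_zero_or_pos a with h0 | h0
    · rw [h0, pow_zero]; exact Nat.modEq_one
    · have h2 : 3 ^ Nat.totient (2 ^ a) ≡ 1 [MOD 2 ^ a] := Nat.ModEq.pow_totient (Nat.Coprime.pow_right a (by decide))
      have h3 : Nat.totient (2 ^ a) ∣ 2 ^ e := by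
        rw [Nat.totient_prime_pow Nat.prime_two h0]
        simp only [Nat.add_one_sub_one, mul_one]
        exact pow_dvd_pow 2 (by omega)
      obtain ⟨c, hc⟩ := h3
      rw [hc, pow_mul]
      have := h2.pow c
      rwa [one_pow] at this)
  let α := {χ : IrrCharacter G // χ ∈ principalBlock M G ∧ Odd (charDegree (χ : G → ℂ))}
  have hdeg : ∀ χ : IrrCharacter G, charDegree ((sI hk χ : IrrCharacter G) : G → ℂ) = charDegree (χ : G → ℂ) := by
    intro χ
    rw [charDegree, charDegree, sI_apply, one_pow]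
  let f : α → α := fun χ => ⟨sI hk χ.1, sI_principal hM hk hk₂' χ.2.1, by rw [hdeg]; exact χ.2.2⟩
  have hit : ∀ (j : ℕ) (χ : α) (g : G), ((f^[j] χ : α).1 : G → ℂ) g = (χ.1 : G → ℂ) (g ^ (k ^ j)) := by
    intro j
    induction j with
    | zero => intro χ g; simp
    | succ j ih =>
      intro χ g
      rw [Function.iterate_succ_apply', sI_apply, ih, ← pow_mul, mul_comm k, ← pow_succ]
  have hf : f^[2 ^ e] = id := by
    funext χ
    apply Subtype.ext
    apply Subtype.ext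
    funext g
    rw [hit, hiter]
    rfl
  have h1 := card_fixed_mod f hf
  have h2 := even_odd hM hev (B := principalBlock M G) ⟨⟨fun _ => 1, isIrr_one⟩, rfl⟩
  have h3 : Nat.card {a // f a = a} = Nat.card {χ : Cfsg.IrrCharacter G // χ ∈ Cfsg.principalBlock M G ∧ Odd (Cfsg.charDegree (χ : G → ℂ)) ∧ ∀ g : G, (χ : G → ℂ) (g ^ k) = (χ : G → ℂ) g} := by
    refine Nat.card_congr
      { toFun := fun a => ⟨a.1.1, a.1.2.1, a.1.2.2, fun g => ?_⟩
        invFun := fun χ => ⟨⟨χ.1, χ.2.1, χ.2.2.1⟩, ?_⟩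
        left_inv := fun a => rfl
        right_inv := fun χ => rfl }
    · have := congrArg (fun x : α => (x.1 : G → ℂ) g) a.2
      exact this
    · apply Subtype.ext
      apply Subtype.ext
      funext g
      exact χ.2.2.2 g
  rw [← h3]
  rw [Nat.even_iff]
  rw [Nat.even_iff] at h2
  exact (show _ % 2 = _ % 2 from h1).symm.trans h2

theorem regular_mem (N : Subgroup G) [hN : N.Normal] (hp : p.Prime) {k : ℕ} (hidx : N.index = p ^ k) {g : G} (hg : ¬ p ∣ orderOf g) : g ∈ N := by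
  have h1 : orderOf (QuotientGroup.mk g : G ⧸ N) ∣ orderOf g := orderOf_map_dvd (QuotientGroup.mk' N) g
  have h2 : orderOf (QuotientGroup.mk g : G ⧸ N) ∣ p ^ k := by
    rw [← hidx, Subgroup.index]
    exact orderOf_dvd_natCard _
  have h3 : (p ^ k).Coprime (orderOf g) := Nat.Coprime.pow_left _ ((Nat.Prime.coprime_iff_not_dvd hp).mpr hg)
  exact (QuotientGroup.eq_one_iff g).mp (orderOf_eq_one_iff.mp (Nat.eq_one_of_dvd_coprimes h3 h2 h1))

theorem centralChar_res (N : Subgroup G) [hN : N.Normal] (n : N) : ∃ c : ℕ, ∀ (χ : G → ℂ), centralChar χ (n : G) = c * centralChar (fun m : N => χ m) n := by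
  have h1 : (Subgroup.centralizer ({(n : G)} : Set G)).relIndex N ∣ (Subgroup.centralizer ({(n : G)} : Set G)).index :=
    H1.HC.relIndex_dvd_index_of_normal_right _ N
  obtain ⟨c, hc⟩ := h1
  refine ⟨c, fun χ => ?_⟩
  have h2 : (Subgroup.centralizer ({n} : Set N)).index = (Subgroup.centralizer ({(n : G)} : Set G)).relIndex N := by
    rw [Subgroup.relIndex]
    congr 1
    ext m
    rw [Subgroup.mem_subgroupOf, Subgroup.mem_centralizer_singleton_iff, Subgroup.mem_centralizer_singleton_iff]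
    exact ⟨fun h => congrArg Subtype.val h, fun h => Subtype.ext h⟩
  rw [centralChar, centralChar, hc, h2]
  push_cast
  ring

theorem block_up (hM : IsPModular p M) (N : Subgroup G) [hN : N.Normal] {k : ℕ} (hidx : N.index = p ^ k)
    {χ : IrrCharacter G} {θ : IrrCharacter N} (hr : ∀ n : N, (χ : G → ℂ) n = (θ : N → ℂ) n) (hθ : θ ∈ principalBlock M N) :
    χ ∈ principalBlock M G := by
  have := hM.2.1
  refine sameBlock_of_regular (χ := (⟨fun _ => 1, isIrr_one⟩ : IrrCharacter G)) hM ?_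
  intro g hg
  have hgN := regular_mem N hM.1 hidx hg
  obtain ⟨c, hc⟩ := centralChar_res N ⟨g, hgN⟩
  rw [om_cs, om_cs]
  have h1 := hc (fun _ => 1)
  have h2 := hc (χ : G → ℂ)
  rw [show (fun m : N => (χ : G → ℂ) m) = (θ : N → ℂ) from funext hr] at h2
  show MemLocalIdeal M (centralChar (fun _ => 1) g - centralChar (χ : G → ℂ) g)
  rw [h1, h2, ← mul_sub]
  exact ideal_mul_left (ring_natCast c) (hθ ⟨g, hgN⟩)

theorem block_down (hM : IsPModular p M) (N : Subgroup G) [hN : N.Normal]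
    {χ : IrrCharacter G} {θ : IrrCharacter N} (hr : ∀ n : N, (χ : G → ℂ) n = (θ : N → ℂ) n) (hχ : χ ∈ principalBlock M G) :
    θ ∈ principalBlock M N := by
  classical
  have := hM.2.1
  have : Fintype N := Fintype.ofFinite _
  have : Fintype (IrrCharacter N) := Fintype.ofFinite _
  have : Fintype (IrrCharacter G) := Fintype.ofFinite _
  obtain ⟨oG, hoG⟩ : ∃ oG : IrrCharacter G, (oG : G → ℂ) = fun _ => 1 := ⟨⟨fun _ => 1, isIrr_one⟩, rfl⟩
  obtain ⟨oN, hoN⟩ : ∃ oN : IrrCharacter N, (oN : N → ℂ) = fun _ => 1 := ⟨⟨fun _ => 1, isIrr_one⟩, rfl⟩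
  have hB : IsPBlock M (principalBlock M G) := ⟨oG, by rw [hoG]; rfl⟩
  have hb : IsPBlock M (principalBlock M N) := ⟨oN, by rw [hoN]; rfl⟩
  have hGm : oG ∈ principalBlock M G := by
    show SameBlock M _ (oG : G → ℂ)
    rw [← hoG]; exact sameBlock_refl _
  have hNm : oN ∈ principalBlock M N := by
    show SameBlock M _ (oN : N → ℂ)
    rw [← hoN]; exact sameBlock_refl _
  have c1 : classInner (fun n : N => (oG : G → ℂ) n) (oN : N → ℂ) ≠ 0 := by
    rw [hoG, hoN, ci_irr_self isIrr_one]; exact one_ne_zero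
  have c2 : classInner (fun n : N => (χ : G → ℂ) n) (θ : N → ℂ) ≠ 0 := by
    rw [show (fun m : N => (χ : G → ℂ) m) = (θ : N → ℂ) from funext hr, ci_irr_self θ.2]; exact one_ne_zero
  obtain ⟨θ', hθ', g, hg⟩ := constituents_conj hN hB hb hGm hχ hNm c1 c2
  have h1 : SameBlock M (oN : N → ℂ) (θ' : N → ℂ) := by rw [hoN]; exact hθ'
  have h2 := sameBlock_cjI hN h1 g
  have h3 : ((cjI hN g oN : IrrCharacter N) : N → ℂ) = fun _ => 1 := by
    rw [cjI_coe, hoN]; rfl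
  rw [h3, ← hg] at h2
  exact h2

omit [Fintype G] in
theorem card_L [Finite G] (N : Subgroup G) [hN : N.Normal] [hp : Fact p.Prime] {k : ℕ} (hidx : N.index = p ^ k) (hcyc : IsCyclic (G ⧸ N)) (hnt : N ≠ ⊤) :
    Nat.card {f : G →* ℂˣ // (∀ n ∈ N, f n = 1) ∧ ∀ g, f g ^ p = 1} = p := by
  let _ : CommGroup (G ⧸ N) := IsCyclic.commGroup
  obtain ⟨e⟩ := CommGroup.monoidHom_mulEquiv_of_hasEnoughRootsOfUnity (G ⧸ N) ℂ
  have h1 : Nat.card {f : G →* ℂˣ // (∀ n ∈ N, f n = 1) ∧ ∀ g, f g ^ p = 1} = Nat.card {x : G ⧸ N // x ^ p = 1} := by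
    refine Nat.card_congr
      { toFun := fun f => ⟨e (QuotientGroup.lift N f.1 (fun n hn => f.2.1 n hn)), ?_⟩
        invFun := fun x => ⟨(e.symm x.1).comp (QuotientGroup.mk' N), ?_, ?_⟩
        left_inv := fun f => ?_
        right_inv := fun x => ?_ }
    · rw [← map_pow]
      have : (QuotientGroup.lift N f.1 (fun n hn => f.2.1 n hn)) ^ p = 1 := by
        ext g
        exact congrArg Units.val (f.2.2 g)
      rw [this, map_one]
    · intro n hn
      show e.symm x.1 (QuotientGroup.mk' N n) = 1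
      rw [QuotientGroup.mk'_apply, (QuotientGroup.eq_one_iff n).mpr hn, map_one]
    · intro g
      show (e.symm x.1 (QuotientGroup.mk' N g)) ^ p = 1
      have h2 : (e.symm x.1) ^ p = 1 := by rw [← map_pow, x.2, map_one]
      have := congrArg (fun f : (G ⧸ N) →* ℂˣ => f (QuotientGroup.mk' N g)) h2
      exact this
    · apply Subtype.ext
      show (e.symm (e _)).comp (QuotientGroup.mk' N) = f.1
      rw [e.symm_apply_apply]
      ext g
      rfl
    · apply Subtype.ext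
      show e (QuotientGroup.lift N ((e.symm x.1).comp (QuotientGroup.mk' N)) _) = x.1
      have : QuotientGroup.lift N ((e.symm x.1).comp (QuotientGroup.mk' N)) (fun n hn => by
          show e.symm x.1 (QuotientGroup.mk' N n) = 1
          rw [QuotientGroup.mk'_apply, (QuotientGroup.eq_one_iff n).mpr hn, map_one]) = e.symm x.1 := by
        ext g
        rfl
      rw [this, e.apply_symm_apply]
  rw [h1]
  have h2 : Nat.card {x : G ⧸ N // x ^ p = 1} = Nat.card (powMonoidHom p : (G ⧸ N) →* (G ⧸ N)).ker := rfl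
  rw [h2, IsCyclic.card_powMonoidHom_ker]
  have h3 : Nat.card (G ⧸ N) = p ^ k := by rw [← hidx]; rfl
  rw [h3]
  have h4 : k ≠ 0 := by
    rintro rfl
    rw [pow_zero, Subgroup.index_eq_one] at hidx
    exact hnt hidx
  exact Nat.gcd_eq_right (dvd_pow_self p h4)

/-- the main count -/
theorem count4553 {G : Type*} [Group G] [Finite G] (p : ℕ) [hp : Fact p.Prime] (M : Ideal Cfsg.AlgInt) (hM : Cfsg.IsPModular p M) (P : Sylow p G) (N : Subgroup G) [hN : N.Normal] (hNres : N = Cfsg.pResidual p G) (hcyc : IsCyclic (G ⧸ N)) (hnt : N ≠ ⊤) (k : ℕ) (hk₁ : ∀ g : G, (∃ j : ℕ, orderOf g = p ^ j) → g ^ k = g ^ (1 + p)) (hk₂ : ∀ g : G, Nat.Coprime (orderOf g) p → g ^ k = g) : Nat.card {χ : Cfsg.IrrCharacter G // χ ∈ Cfsg.principalBlock M G ∧ ¬ p ∣ Cfsg.charDegree (χ : G → ℂ) ∧ ∀ g : G, (χ : G → ℂ) (g ^ k) = (χ : G → ℂ) g} = p * Nat.card {θ : Cfsg.IrrCharacter ↥N // θ ∈ Cfsg.principalBlock M ↥N ∧ ¬ p ∣ Cfsg.charDegree (θ : ↥N → ℂ)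 ∧ (∀ x ∈ (P : Subgroup G), ∀ n : ↥N, (θ : ↥N → ℂ) ⟨x * n * x⁻¹, hN.conj_mem n n.2 x⟩ = (θ : ↥N → ℂ) n) ∧ ∀ n : ↥N, (θ : ↥N → ℂ) (n ^ k) = (θ : ↥N → ℂ) n} := by
  classical
  have : Fintype G := Fintype.ofFinite _
  have : Fintype N := Fintype.ofFinite _
  have hk₂' : ∀ g : G, ¬ p ∣ orderOf g → g ^ k = g := fun g hg => hk₂ g ((Nat.Prime.coprime_iff_not_dvd hp.out).mpr hg).symm
  have hk : (Nat.card G).Coprime k := coprime_of_pow hp.out hk₁ (by simp) hk₂'
  obtain ⟨j, hj⟩ := index_pResidual (G := G) p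
  rw [← hNres] at hj
  have hNr : pResidual p N = ⊤ := by
    rw [hNres]; exact H13.Sgn.pResidual_pResidual p G
  have htop : N ⊔ (P : Subgroup G) = ⊤ := by rw [hNres]; exact H17.Base.pResidual_sup_sylow P
  have hres : ∀ χ : IrrCharacter G, ¬ p ∣ charDegree (χ : G → ℂ) → IsIrrCharacter N (fun n : N => (χ : G → ℂ) n) := by
    intro χ hχ
    exact res_irr N hp.out hj χ.2 (charDegree_cast (IsIrr.isCharacter χ.2)) hχ
  have hdeg : ∀ χ : G → ℂ, charDegree (fun n : N => χ n) = charDegree χ := by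
    intro χ
    rw [charDegree, charDegree, OneMemClass.coe_one]
  have hext : ∀ θ : {θ : Cfsg.IrrCharacter ↥N // θ ∈ Cfsg.principalBlock M ↥N ∧ ¬ p ∣ Cfsg.charDegree (θ : ↥N → ℂ) ∧ (∀ x ∈ (P : Subgroup G), ∀ n : ↥N, (θ : ↥N → ℂ) ⟨x * n * x⁻¹, hN.conj_mem n n.2 x⟩ = (θ : ↥N → ℂ) n) ∧ ∀ n : ↥N, (θ : ↥N → ℂ) (n ^ k) = (θ : ↥N → ℂ) n},
      ∃ χ : G → ℂ, IsIrrCharacter G χ ∧ (∀ n : N, χ n = (θ.1 : N → ℂ) n) ∧ ∀ g, χ (g ^ k) = χ g := by
    intro θ
    obtain ⟨θ, h1, h2, h3, h4⟩ := θ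
    have hinv : ∀ g, cj hN g (θ : N → ℂ) = θ := inv_of_sylow htop (IsIrr.isClass θ.2) (fun x hx => funext fun n => h3 x hx n)
    have hd := detOrder_coprime hNr (IsIrr.isCharacter θ.2)
    obtain ⟨χ, ⟨hχ, hχN, hχd⟩, huniq⟩ := S0867.result N (θ : N → ℂ) θ.2 (fun g n => congrFun (hinv g) n) (charDegree (θ : N → ℂ)) (charDegree_cast (IsIrr.isCharacter θ.2)) (by
      rw [hj]
      apply Nat.Coprime.pow_left
      rw [Nat.coprime_mul_iff_right]
      exact ⟨hd.symm, (Nat.Prime.coprime_iff_not_dvd hp.out).mpr h2⟩)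
    refine ⟨χ, hχ, hχN, ?_⟩
    have h5 := huniq (fun g => χ (g ^ k)) (isIrr_pow hk hχ) (fun m => by
      show χ ((m : G) ^ k) = (θ : N → ℂ) m
      rw [← Subgroup.coe_pow, hχN]
      exact h4 m) (by
      rw [hj]
      apply Nat.Coprime.pow_left
      have h2 := GlCyc.detOrder_pow hk hχ
      apply Nat.Coprime.coprime_dvd_right h2
      rw [hχd]; exact hd.symm)
    exact fun g => congrFun h5 g
  choose E hE1 hE2 hE3 using hext
  have hfp : ∀ f : G →* ℂˣ, (∀ n ∈ N, f n = 1) → ∀ g, f (g ^ k) = f g * f g ^ p := by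
    intro f hf g
    obtain ⟨x, y, hxy, hc, hx, hy⟩ := H10.PPart.exists_ppart (p := p) g
    have hyN := regular_mem N hp.out hj hy
    have h1 : f g = f x := by rw [← hxy, map_mul, hf y hyN, mul_one]
    have h2 : f (g ^ k) = f (x ^ k) := by
      rw [← hxy, hc.mul_pow, map_mul, hf (y ^ k) (N.pow_mem hyN k), mul_one]
    rw [h2, hk₁ x hx, h1, map_pow, pow_add, pow_one]
  have hab : ∀ a b : G, a * b * a⁻¹ * b⁻¹ ∈ N := by
    intro a b
    have hc : IsMulCommutative (G ⧸ N) := inferInstance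
    rw [← QuotientGroup.eq_one_iff]
    have h2 : ((a * b * a⁻¹ * b⁻¹ : G) : G ⧸ N) = (a : G ⧸ N) * b * (a : G ⧸ N)⁻¹ * (b : G ⧸ N)⁻¹ := rfl
    rw [h2, hc.is_comm.comm (a : G ⧸ N) b, mul_inv_cancel_right, mul_inv_cancel]
  have hgal : ∀ (f f' : G →* ℂˣ) (χ : G → ℂ), IsIrrCharacter G χ → IsIrrCharacter N (fun n : N => χ n) → (∀ n ∈ N, f n = 1) → (∀ n ∈ N, f' n = 1) →
      (∀ g, (f g : ℂ) * χ g = f' g * χ g) → f = f' := by
    intro f f' χ hχ hr hf hf' h
    have hk1 : ∀ f : G →* ℂˣ, (∀ n ∈ N, f n = 1) → InKer N (fun g => (f g : ℂ)) := by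
      intro f hf n hn g
      show (f (n * g) : ℂ) = f g
      rw [map_mul, hf n hn, one_mul]
    have h1 := gallagher_inner hN hχ hr (hk1 f hf) (hk1 f' hf')
    have h2 : (fun g => (f g : ℂ)) * χ = (fun g => (f' g : ℂ)) * χ := funext h
    rw [h2] at h1
    have hi : IsIrrCharacter G ((fun g => (f' g : ℂ)) * χ) :=
      IsIrr.mul_linear hχ (IsIrr.isCharacter (isIrr_of_hom_units f')) (by simp)
    rw [ci_irr_self hi, ci_irr (isIrr_of_hom_units f) (isIrr_of_hom_units f')] at h1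
    by_contra hne
    rw [if_neg (fun he => hne (by
      ext g
      exact congrFun he g))] at h1
    exact one_ne_zero h1
  have hErN : ∀ θ, IsIrrCharacter N (fun n : N => E θ n) := by
    intro θ
    rw [show (fun n : N => E θ n) = (θ.1 : N → ℂ) from funext (hE2 θ)]
    exact θ.1.2
  have hL := card_L N hj hcyc hnt
  rw [mul_comm]
  refine Eq.trans ?_ (congrArg (HMul.hMul _) hL)
  rw [← Nat.card_prod]
  symm
  apply Nat.card_congr
  refine Equiv.ofBijective (fun x => ⟨⟨(fun g => (x.2.1 g : ℂ)) * E x.1, IsIrr.mul_linear (hE1 x.1) (IsIrr.isCharacter (isIrr_of_hom_units x.2.1)) (by simp)⟩, ?_, ?_, ?_⟩) ⟨?_, ?_⟩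
  · refine block_up hM N hj (θ := x.1.1) ?_ x.1.2.1
    intro n
    show (x.2.1 (n : G) : ℂ) * E x.1 n = _
    rw [x.2.2.1 n n.2, Units.val_one, one_mul, hE2]
  · have h1 : (fun n : N => ((fun g => (x.2.1 g : ℂ)) * E x.1) n) = (x.1.1 : N → ℂ) := by
      funext n
      show (x.2.1 (n : G) : ℂ) * E x.1 n = _
      rw [x.2.2.1 n n.2, Units.val_one, one_mul, hE2]
    show ¬ p ∣ charDegree ((fun g => (x.2.1 g : ℂ)) * E x.1)
    rw [← hdeg, h1]
    exact x.1.2.2.1
  · intro g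
    show (x.2.1 (g ^ k) : ℂ) * E x.1 (g ^ k) = (x.2.1 g : ℂ) * E x.1 g
    rw [hfp x.2.1 x.2.2.1, x.2.2.2, mul_one, hE3]
  · rintro ⟨θ, f⟩ ⟨θ', f'⟩ h
    have h1 : ∀ g, (f.1 g : ℂ) * E θ g = (f'.1 g : ℂ) * E θ' g := fun g => congrArg (fun x : {χ : Cfsg.IrrCharacter G // χ ∈ Cfsg.principalBlock M G ∧ ¬ p ∣ Cfsg.charDegree (χ : G → ℂ) ∧ ∀ g : G, (χ : G → ℂ) (g ^ k) = (χ : G → ℂ) g} => (x.1 : G → ℂ) g) h
    have h2 : θ = θ' := by
      apply Subtype.ext
      apply Subtype.ext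
      funext n
      have h3 := h1 n
      rw [f.2.1 n n.2, f'.2.1 n n.2, hE2, hE2, Units.val_one, one_mul, one_mul] at h3
      exact h3
    subst h2
    have h3 := hgal f.1 f'.1 (E θ) (hE1 θ) (hErN θ) f.2.1 f'.2.1 h1
    exact Prod.ext rfl (Subtype.ext h3)
  · rintro ⟨χ, h1, h2, h3⟩
    obtain ⟨θ, hθ⟩ : ∃ θ : {θ : Cfsg.IrrCharacter ↥N // θ ∈ Cfsg.principalBlock M ↥N ∧ ¬ p ∣ Cfsg.charDegree (θ : ↥N → ℂ) ∧ (∀ x ∈ (P : Subgroup G), ∀ n : ↥N, (θ : ↥N → ℂ) ⟨x * n * x⁻¹, hN.conj_mem n n.2 x⟩ = (θ : ↥N → ℂ) n) ∧ ∀ n : ↥N, (θ : ↥N → ℂ) (n ^ k) = (θ : ↥N → ℂ) n},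
        (θ.1 : N → ℂ) = fun n : N => (χ : G → ℂ) n := by
      refine ⟨⟨⟨fun n : N => (χ : G → ℂ) n, hres χ h2⟩, ?_, ?_, ?_, ?_⟩, rfl⟩
      · exact block_down hM N (χ := χ) (fun n => rfl) h1
      · show ¬ p ∣ charDegree (fun n : N => (χ : G → ℂ) n)
        rw [hdeg]; exact h2
      · intro x _ n
        exact congrFun (cj_res hN (IsIrr.isClass χ.2) x) n
      · intro n
        show (χ : G → ℂ) ((n ^ k : N) : G) = (χ : G → ℂ) n
        rw [Subgroup.coe_pow, h3]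
    obtain ⟨f, hf1, hf2⟩ := GlInv.trans_lin hN hab (hE1 θ) χ.2 (by
      rw [show (fun n : N => E θ n) = (θ.1 : N → ℂ) from funext (hE2 θ), ← hθ, ci_irr_self θ.1.2]
      exact one_ne_zero)
    have h4 : ∀ g, f g ^ p = 1 := by
      have h5 := hgal (f * f ^ p) f (E θ) (hE1 θ) (hErN θ) (by
        intro n hn
        rw [MonoidHom.mul_apply, MonoidHom.pow_apply, hf1 n hn, one_pow, one_mul]) hf1 (by
        intro g
        rw [← hf2, ← h3, hf2, hE3, hfp f hf1, MonoidHom.mul_apply, MonoidHom.pow_apply])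
      intro g
      have h6 := congrArg (fun F : G →* ℂˣ => F g) h5
      simp only [MonoidHom.mul_apply, MonoidHom.pow_apply] at h6
      exact mul_eq_left.mp h6
    refine ⟨(θ, ⟨f, hf1, h4⟩), ?_⟩
    apply Subtype.ext
    apply Subtype.ext
    funext g
    exact (hf2 g).symm

end Cfsg.Agent.H3.BlkGal
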