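import Mathlib
import Cfsg.Agent.H17_CV

set_option autoImplicit false

namespace Cfsg.Agent.H3.CVL

open Cfsg.Agent.H17.CV

theorem LC {G : Type*} [Group G] (k : ℕ) : ∀ (M : Subgroup G) [M.Normal] (_h : ∀ x ∈ V G k, x ∈ M),
    (⊤ : Subgroup G).lowerCentralSeries k ≤ M := by
  induction k with
  | zero =>
    intro M _ h x _
    exact h x trivial
  | succ k ih =>
    intro M hM h
    obtain ⟨M', hM'⟩ : ∃ M' : Subgroup G, ∀ a, a ∈ M' ↔ ∀ b, a * b * a⁻¹ * b⁻¹ ∈ M := by
      refine ⟨(Subgroup.center (G ⧸ M)).comap (QuotientGroup.mk' M), fun a => ?_⟩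
      rw [Subgroup.mem_comap, Subgroup.mem_center_iff]
      constructor
      · intro h1 b
        have h2 := h1 (b : G ⧸ M)
        rw [QuotientGroup.mk'_apply] at h2
        rw [← QuotientGroup.eq_one_iff, QuotientGroup.mk_mul, QuotientGroup.mk_mul, QuotientGroup.mk_mul, ← h2,
          QuotientGroup.mk_inv, QuotientGroup.mk_inv]
        group
      · intro h1 b
        obtain ⟨b, rfl⟩ := QuotientGroup.mk_surjective b
        have h2 := (QuotientGroup.eq_one_iff _).mpr (h1 b)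
        rw [QuotientGroup.mk_mul, QuotientGroup.mk_mul, QuotientGroup.mk_mul, QuotientGroup.mk_inv, QuotientGroup.mk_inv,
          mul_inv_eq_one, mul_inv_eq_iff_eq_mul] at h2
        exact h2.symm
    have hM'n : M'.Normal := by
      refine ⟨fun n hn g => ?_⟩
      rw [hM'] at hn ⊢
      intro b
      have h1 := hM.conj_mem _ (hn (g⁻¹ * b * g)) g
      have h2 : g * n * g⁻¹ * b * (g * n * g⁻¹)⁻¹ * b⁻¹ = g * (n * (g⁻¹ * b * g) * n⁻¹ * (g⁻¹ * b * g)⁻¹) * g⁻¹ := by group
      rw [h2]; exact h1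
    have h1 := ih M' (fun x hx => by
      rw [hM']
      intro b
      exact h _ ⟨x, hx, b, rfl⟩)
    rw [Subgroup.lowerCentralSeries_succ, Subgroup.commutator_le]
    intro p hp q _
    exact (hM' p).mp (h1 hp) q

theorem VS {G H : Type*} [Group G] [Group H] (f : H →* G) (hf : Function.Surjective f) (k : ℕ) :
    ∀ y ∈ V G k, ∃ x ∈ V H k, f x = y := by
  induction k with
  | zero =>
    intro y _
    obtain ⟨x, hx⟩ := hf y
    exact ⟨x, trivial, hx⟩
  | succ k ih =>
    rintro y ⟨a, ha, b, rfl⟩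
    obtain ⟨a', ha', rfl⟩ := ih a ha
    obtain ⟨b', rfl⟩ := hf b
    exact ⟨a' * b' * a'⁻¹ * b'⁻¹, ⟨a', ha', b', rfl⟩, by simp⟩

end Cfsg.Agent.H3.CVL
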