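import Mathlib
import Cfsg.Prelude.Def_Characters
import Cfsg.Agent.H3_CharInt
import Cfsg.Agent.H3_Clifford

/-!
# Characters over a character of a central subgroup
-/

set_option autoImplicit false

open scoped ComplexConjugate

namespace Cfsg.Agent.H3.CentOver

open Cfsg Cfsg.Agent.H3.CharBasic Cfsg.Agent.H3.CharIrr Cfsg.Agent.H3.CharComplete Cfsg.Agent.H3.CharInd
  Cfsg.Agent.H3.CharMult Cfsg.Agent.H3.CharInt Cfsg.Agent.H3.Clifford

variable {G : Type*} [Group G] [Fintype G] {N : Subgroup G} [Fintype N] (hN : N ≤ Subgroup.center G)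

include hN

theorem normal_of : N.Normal := ⟨fun n hn g => by
  have h := Subgroup.mem_center_iff.mp (hN hn) g
  rw [h, mul_assoc, mul_inv_cancel, mul_one]; exact hn⟩

theorem comm_of (a b : N) : a * b = b * a := Subtype.ext (Subgroup.mem_center_iff.mp (hN b.2) a)

theorem psi_one {ψ : N → ℂ} (hψ : IsIrrCharacter N ψ) : ψ 1 = 1 := IsIrr.one_of_comm (comm_of hN) hψ

theorem mul_over {ψ : N → ℂ} (hψ : IsIrrCharacter N ψ) {χ : G → ℂ} (hχ : IsIrrCharacter G χ)
    (hover : classInner (fun n : N => χ n) ψ ≠ 0) (g : G) (n : N) : χ (g * n) = ψ n * χ g := by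
  obtain ⟨c, -, hc⟩ := IsIrr.central hχ (hN n.2)
  have h1 := clifford_invariant (normal_of hN) hχ hψ hover (by
    intro x
    funext m
    rw [cj_apply]
    congr 1
    apply Subtype.ext
    have h := Subgroup.mem_center_iff.mp (hN m.2) x
    show x * (m : G) * x⁻¹ = m
    rw [h, mul_assoc, mul_inv_cancel, mul_one])
  have h2 := congrFun h1 1
  have h3 := congrFun h1 n
  simp only [Pi.smul_apply, smul_eq_mul, Subgroup.coe_one] at h2 h3
  rw [psi_one hN hψ, mul_one] at h2
  have h4 : χ 1 ≠ 0 := IsIrr.one_ne_zero hχ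
  have h5 := hc 1
  rw [one_mul, h3, ← h2] at h5
  have h6 : c = ψ n := by
    apply mul_right_cancel₀ h4
    rw [← h5]; ring
  rw [hc g, h6]

theorem ci_of_mul_over {ψ : N → ℂ} (hψ : IsIrrCharacter N ψ) {χ : G → ℂ} (hχ : IsIrrCharacter G χ)
    (h : ∀ (g : G) (n : N), χ (g * n) = ψ n * χ g) : classInner (fun n : N => χ n) ψ ≠ 0 := by
  have h1 : (fun n : N => χ n) = χ 1 • ψ := by
    funext n
    have := h 1 n
    rw [one_mul] at this
    rw [this, Pi.smul_apply, smul_eq_mul, mul_comm]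
  rw [h1, ci_smul_left, ci_irr_self hψ, mul_one]
  exact IsIrr.one_ne_zero hχ

omit hN in
/-- two elements of the group ring algebra acting: class functions transforming by `ψ` -/
def WW (N : Subgroup G) (ψ : N → ℂ) : Submodule ℂ (G → ℂ) where
  carrier := {f | IsClassFunction G f ∧ ∀ (g : G) (n : N), f (g * n) = ψ n * f g}
  add_mem' := by
    intro a b ha hb
    refine ⟨isClass_add _ _ ha.1 hb.1, fun g n => ?_⟩
    rw [Pi.add_apply, Pi.add_apply, ha.2, hb.2]; ring
  zero_mem' := ⟨fun _ _ => rfl, fun g n => by simp⟩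
  smul_mem' := by
    intro c a ha
    refine ⟨isClass_smul c _ ha.1, fun g n => ?_⟩
    rw [Pi.smul_apply, Pi.smul_apply, ha.2, smul_eq_mul, smul_eq_mul]; ring

/-- the dimension of `WW` is the number of irreducible characters over `ψ` -/
theorem finrank_irr {ψ : N → ℂ} (hψ : IsIrrCharacter N ψ) :
    Module.finrank ℂ (WW N ψ) = Nat.card {χ : IrrCharacter G // classInner (fun n : N => (χ : G → ℂ) n) ψ ≠ 0} := by
  classical
  have : Fintype (IrrCharacter G) := Fintype.ofFinite _
  let ι := {χ : IrrCharacter G // classInner (fun n : N => (χ : G → ℂ) n) ψ ≠ 0}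
  have : Fintype ι := Fintype.ofFinite _
  let φ : (ι → ℂ) →ₗ[ℂ] WW N ψ :=
    { toFun := fun c => ⟨∑ i : ι, c i • ((i : IrrCharacter G) : G → ℂ), Submodule.sum_mem _ fun i _ =>
        Submodule.smul_mem _ _ ⟨IsIrr.isClass i.1.2, mul_over hN hψ i.1.2 i.2⟩⟩
      map_add' := fun a b => by
        apply Subtype.ext
        simp only [Pi.add_apply, add_smul, Finset.sum_add_distrib]
        rfl
      map_smul' := fun a b => by
        apply Subtype.ext
        simp only [Pi.smul_apply, smul_eq_mul, mul_smul, ← Finset.smul_sum]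
        rfl }
  have hval : ∀ (c : ι → ℂ) (j : ι), classInner ((φ c : WW N ψ) : G → ℂ) ((j : IrrCharacter G) : G → ℂ) = c j := by
    intro c j
    show classInner (∑ i : ι, c i • ((i : IrrCharacter G) : G → ℂ)) _ = _
    rw [ci_sum_left, Finset.sum_eq_single j]
    · rw [ci_smul_left, ci_irr_self j.1.2, mul_one]
    · intro i _ hij
      rw [ci_smul_left, ci_irr_ne i.1.2 j.1.2 (fun h => hij (Subtype.ext (Subtype.ext h))), mul_zero]
    · intro h; exact absurd (Finset.mem_univ _) h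
  have hbij : Function.Bijective φ := by
    constructor
    · intro a b hab
      funext j
      rw [← hval a j, ← hval b j, hab]
    · intro f
      let c : ι → ℂ := fun i => classInner (f : G → ℂ) ((i : IrrCharacter G) : G → ℂ)
      refine ⟨c, ?_⟩
      apply Subtype.ext
      apply ext_inner (φ c).2.1 f.2.1
      intro χ hχ
      by_cases hover : classInner (fun n : N => χ n) ψ ≠ 0
      · exact hval _ ⟨⟨χ, hχ⟩, hover⟩
      · have key : ∀ h ∈ WW N ψ, classInner h χ = 0 := by
          intro h hh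
          -- the central character of χ
          by_contra hne
          apply hover
          apply ci_of_mul_over hN hψ hχ
          intro g n
          obtain ⟨c, hc1, hc⟩ := IsIrr.central hχ (hN n.2)
          rw [hc]
          congr 1
          have hcn : ‖c‖ = 1 := norm_eq_one_of_pow (orderOf_pos _).ne' hc1
          have h2 : classInner h χ = ψ n * conj c * classInner h χ := by
            have h2' : ∑ x : G, h x * conj (χ x) = ψ n * conj c * ∑ x : G, h x * conj (χ x) := by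
              rw [Finset.mul_sum]
              refine (Equiv.sum_comp (Equiv.mulRight (n : G)) (fun x => h x * conj (χ x))).symm.trans (Finset.sum_congr rfl fun x _ => ?_)
              rw [Equiv.coe_mulRight, hh.2 x n, hc x, map_mul]
              ring
            rw [classInner, mul_left_comm, ← h2']
          have h3 : ψ n * conj c = 1 := by
            have h4 : (1 - ψ n * conj c) * classInner h χ = 0 := by rw [sub_mul, one_mul, ← h2, sub_self]
            exact (sub_eq_zero.mp ((mul_eq_zero.mp h4).resolve_right hne)).symm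
          have h5 : c * conj c = 1 := by rw [Complex.mul_conj, Complex.normSq_eq_norm_sq, hcn]; simp
          have h6 : conj c ≠ 0 := by
            intro h; rw [h, mul_zero] at h5; exact zero_ne_one h5
          exact mul_right_cancel₀ h6 (h5.trans h3.symm)
        rw [key _ (φ c).2, key _ f.2]
  have h1 := (LinearEquiv.ofBijective φ hbij).finrank_eq
  rw [← h1, Module.finrank_fintype_fun_eq_card, Nat.card_eq_fintype_card]

omit hN [Fintype N] [Fintype G] in
/-- special elements -/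
def Sp (N : Subgroup G) (g : G) : Prop := ∀ x : G, x⁻¹ * g⁻¹ * x * g ∈ N → x * g = g * x

theorem Sp.conj_mul {g : G} (h : Sp N g) (y : G) (n : N) : Sp N (y * g * y⁻¹ * n) := by
  intro x hx
  have hc : ∀ (a : G), a * (n : G) = n * a := fun a => Subgroup.mem_center_iff.mp (hN n.2) a
  have hn' : ∀ (a : G), a * (n : G)⁻¹ = (n : G)⁻¹ * a := fun a => Subgroup.mem_center_iff.mp (hN (N.inv_mem n.2)) a
  have h1 : x⁻¹ * (y * g * y⁻¹ * n)⁻¹ * x * (y * g * y⁻¹ * n) = x⁻¹ * (y * g⁻¹ * y⁻¹) * x * (y * g * y⁻¹) := by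
    have e1 : (y * g * y⁻¹ * n)⁻¹ = y * g⁻¹ * y⁻¹ * (n : G)⁻¹ := by
      rw [hn' (y * g⁻¹ * y⁻¹)]; group
    rw [e1]
    have e2 : x⁻¹ * (y * g⁻¹ * y⁻¹ * (n : G)⁻¹) * x * (y * g * y⁻¹ * n) = x⁻¹ * (y * g⁻¹ * y⁻¹) * ((n : G)⁻¹ * (x * (y * g * y⁻¹))) * n := by group
    rw [e2, ← hn']; group
  rw [h1] at hx
  have h2 : (y⁻¹ * x * y)⁻¹ * g⁻¹ * (y⁻¹ * x * y) * g ∈ N := by
    have e3 : (y⁻¹ * x * y)⁻¹ * g⁻¹ * (y⁻¹ * x * y) * g = y⁻¹ * (x⁻¹ * (y * g⁻¹ * y⁻¹) * x * (y * g * y⁻¹)) * y := by group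
    rw [e3]
    have h4 := (normal_of hN).conj_mem _ hx y⁻¹
    rwa [inv_inv] at h4
  have h3 := h _ h2
  have h4 : x * (y * g * y⁻¹) = (y * g * y⁻¹) * x := by
    have : x * (y * g * y⁻¹) = y * ((y⁻¹ * x * y) * g) * y⁻¹ := by group
    rw [this, h3]; group
  rw [← mul_assoc, h4, mul_assoc, hc x, ← mul_assoc]

theorem finrank_sp [hNn : N.Normal] {ψ : N → ℂ} (hψ : IsIrrCharacter N ψ) (hfaith : ∀ n : N, ψ n = ψ 1 → n = 1) :
    Module.finrank ℂ (WW N ψ) = Nat.card {C : ConjClasses (G ⧸ N) // ∃ g : G, ConjClasses.mk (g : G ⧸ N) = C ∧ Sp N g} := by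
  classical
  let ι := {C : ConjClasses (G ⧸ N) // ∃ g : G, ConjClasses.mk (g : G ⧸ N) = C ∧ Sp N g}
  have : Fintype ι := Fintype.ofFinite _
  let r : ι → G := fun i => i.2.choose
  have hr1 : ∀ i : ι, ConjClasses.mk ((r i : G) : G ⧸ N) = i.1 := fun i => i.2.choose_spec.1
  have hr2 : ∀ i : ι, Sp N (r i) := fun i => i.2.choose_spec.2
  have hψ1 := psi_one hN hψ
  have hmul : ∀ a b : N, ψ (a * b) = ψ a * ψ b := by
    intro a b
    obtain ⟨c, -, hc⟩ := IsIrr.central hψ (z := b) (Subgroup.mem_center_iff.mpr fun x => comm_of hN x b)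
    have h1 := hc 1
    rw [one_mul, hψ1, mul_one] at h1
    rw [hc a, h1]; ring
  let φ : WW N ψ →ₗ[ℂ] (ι → ℂ) :=
    { toFun := fun f i => (f : G → ℂ) (r i)
      map_add' := fun a b => rfl
      map_smul' := fun a b => rfl }
  -- conjugates in the quotient
  have hconj : ∀ (g h : G), ConjClasses.mk (g : G ⧸ N) = ConjClasses.mk (h : G ⧸ N) → ∃ (y : G) (n : N), g = y * h * y⁻¹ * n := by
    intro g h hgh
    rw [ConjClasses.mk_eq_mk_iff_isConj, isConj_comm, isConj_iff] at hgh
    obtain ⟨c, hc⟩ := hgh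
    obtain ⟨y, rfl⟩ := QuotientGroup.mk_surjective c
    have h1 : ((y * h * y⁻¹ : G) : G ⧸ N) = g := hc
    rw [QuotientGroup.eq] at h1
    exact ⟨y, ⟨_, h1⟩, by group⟩
  have hinj : Function.Injective φ := by
    rw [← LinearMap.ker_eq_bot, LinearMap.ker_eq_bot']
    intro f hf
    apply Subtype.ext
    funext g
    show (f : G → ℂ) g = 0
    by_cases hg : Sp N g
    · let i : ι := ⟨ConjClasses.mk (g : G ⧸ N), g, rfl, hg⟩
      obtain ⟨y, n, hy⟩ := hconj g (r i) (hr1 i).symm
      rw [hy, f.2.2, f.2.1]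
      have := congrFun hf i
      rw [show (f : G → ℂ) (r i) = 0 from this, mul_zero]
    · unfold Sp at hg
      push Not at hg
      obtain ⟨x, hx, hne⟩ := hg
      have h1 : (f : G → ℂ) g = ψ ⟨_, hx⟩ * (f : G → ℂ) g := by
        rw [← f.2.2 g ⟨_, hx⟩]
        have h2 : g * (x⁻¹ * g⁻¹ * x * g) = x * g * x⁻¹ := by
          have h5 : x * (x⁻¹ * g⁻¹ * x * g) * x⁻¹ = x⁻¹ * g⁻¹ * x * g := by
            rw [Subgroup.mem_center_iff.mp (hN hx) x]; group
          rw [← h5]; group
        show _ = (f : G → ℂ) (g * (x⁻¹ * g⁻¹ * x * g))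
        rw [h2, f.2.1]
      have h3 : ψ ⟨_, hx⟩ ≠ 1 := by
        intro h
        rw [← hψ1] at h
        have h4 := congrArg (fun z : N => (z : G)) (hfaith _ h)
        apply hne
        have h5 : x⁻¹ * g⁻¹ * x * g = 1 := h4
        have h6 : x * g = g * x * (x⁻¹ * g⁻¹ * x * g) := by group
        rw [h6, h5, mul_one]
      have h7 : (1 - ψ ⟨_, hx⟩) * (f : G → ℂ) g = 0 := by rw [sub_mul, one_mul, ← h1, sub_self]
      exact (mul_eq_zero.mp h7).resolve_left (sub_ne_zero.mpr h3.symm)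
  have hcent : ∀ (a : G) (n : N), a * (n : G) = n * a := fun a n => Subgroup.mem_center_iff.mp (hN n.2) a
  let F : ι → G → ℂ := fun i g => ∑ x : G, ∑ n : N, if x⁻¹ * (g * n) * x = r i then conj (ψ n) else 0
  have hF : ∀ i, F i ∈ WW N ψ := by
    intro i
    constructor
    · intro g h
      show ∑ x : G, ∑ n : N, (if x⁻¹ * (h * g * h⁻¹ * n) * x = r i then conj (ψ n) else 0) = ∑ x : G, ∑ n : N, if x⁻¹ * (g * n) * x = r i then conj (ψ n) else 0
      rw [← Equiv.sum_comp (Equiv.mulLeft h)]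
      refine Finset.sum_congr rfl fun x _ => Finset.sum_congr rfl fun n _ => ?_
      have : (Equiv.mulLeft h x)⁻¹ * (h * g * h⁻¹ * n) * (Equiv.mulLeft h x) = x⁻¹ * (g * n) * x := by
        rw [Equiv.coe_mulLeft]
        have h1 : (h * x)⁻¹ * (h * g * h⁻¹ * n) * (h * x) = x⁻¹ * (g * (h⁻¹ * (n : G) * h)) * x := by group
        rw [h1, mul_assoc h⁻¹, ← hcent h n, ← mul_assoc h⁻¹, inv_mul_cancel, one_mul]
      rw [this]
    · intro g m
      show ∑ x : G, ∑ n : N, (if x⁻¹ * (g * m * n) * x = r i then conj (ψ n) else 0) = ψ m * ∑ x : G, ∑ n : N, if x⁻¹ * (g * n) * x = r i then conj (ψ n) else 0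
      rw [Finset.mul_sum]
      refine Finset.sum_congr rfl fun x _ => ?_
      rw [Finset.mul_sum, ← Equiv.sum_comp (Equiv.mulLeft m) (fun n : N => ψ m * if x⁻¹ * (g * n) * x = r i then conj (ψ n) else 0)]
      refine Finset.sum_congr rfl fun n _ => ?_
      rw [Equiv.coe_mulLeft, Subgroup.coe_mul, ← mul_assoc g]
      by_cases h : x⁻¹ * (g * m * n) * x = r i
      · rw [if_pos h, if_pos h, hmul, map_mul, ← mul_assoc]
        obtain ⟨c, hc1, hc⟩ := IsIrr.central hψ (z := m) (Subgroup.mem_center_iff.mpr fun x => comm_of hN x m)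
        have h1 := hc 1
        rw [one_mul, hψ1, mul_one] at h1
        have hcn : ‖c‖ = 1 := norm_eq_one_of_pow (orderOf_pos _).ne' hc1
        rw [h1, Complex.mul_conj, Complex.normSq_eq_norm_sq, hcn]; simp
      · rw [if_neg h, if_neg h, mul_zero]
  have hFne : ∀ i j, j ≠ i → F i (r j) = 0 := by
    intro i j hij
    refine Finset.sum_eq_zero fun x _ => Finset.sum_eq_zero fun n _ => ?_
    rw [if_neg]
    intro h
    apply hij
    apply Subtype.ext
    rw [← hr1 i, ← hr1 j, ConjClasses.mk_eq_mk_iff_isConj, isConj_iff]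
    refine ⟨(x⁻¹ : G), ?_⟩
    rw [← h]
    have h1 : ((n : G) : G ⧸ N) = 1 := (QuotientGroup.eq_one_iff _).mpr n.2
    have h2 : ((x⁻¹ * (r j * (n : G)) * x : G) : G ⧸ N) = (x : G ⧸ N)⁻¹ * ((r j : G ⧸ N) * ((n : G) : G ⧸ N)) * (x : G ⧸ N) := rfl
    have h3 : ((x⁻¹ : G) : G ⧸ N) = (x : G ⧸ N)⁻¹ := rfl
    rw [h2, h1, mul_one, h3, inv_inv]
  have hFeq : ∀ i, F i (r i) ≠ 0 := by
    intro i
    have h1 : F i (r i) = ∑ x : G, if x⁻¹ * r i * x = r i then (1 : ℂ) else 0 := by
      refine Finset.sum_congr rfl fun x _ => ?_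
      rw [Finset.sum_eq_single (1 : N)]
      · rw [Subgroup.coe_one, mul_one, hψ1, map_one]
      · intro n _ hn
        rw [if_neg]
        intro h
        have h2 : x⁻¹ * (r i)⁻¹ * x * r i = n := by
          have h3 : x⁻¹ * (r i * n) * x = x⁻¹ * (r i) * x * n := by
            rw [mul_assoc (x⁻¹ * r i), hcent x n]; group
          rw [h3] at h
          calc x⁻¹ * (r i)⁻¹ * x * r i = x⁻¹ * (r i)⁻¹ * x * (x⁻¹ * (r i) * x * n) := by rw [h]
            _ = n := by group
        have h4 := hr2 i x (by rw [h2]; exact n.2)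
        apply hn
        apply Subtype.ext
        rw [← h2, mul_assoc, h4]; group; rfl
      · intro h; exact absurd (Finset.mem_univ _) h
    rw [h1, Finset.sum_boole]
    have h2 : (1 : G) ∈ Finset.univ.filter (fun x : G => x⁻¹ * r i * x = r i) := by simp
    have h3 : (Finset.univ.filter (fun x : G => x⁻¹ * r i * x = r i)).card ≠ 0 := Finset.card_ne_zero_of_mem h2
    exact_mod_cast h3
  have hsurj : Function.Surjective φ := by
    intro c
    refine ⟨⟨∑ i, (c i / F i (r i)) • F i, Submodule.sum_mem _ fun i _ => Submodule.smul_mem _ _ (hF i)⟩, ?_⟩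
    funext j
    show (∑ i, (c i / F i (r i)) • F i) (r j) = c j
    rw [Finset.sum_apply, Finset.sum_eq_single j]
    · rw [Pi.smul_apply, smul_eq_mul, div_mul_cancel₀ _ (hFeq j)]
    · intro i _ hij
      rw [Pi.smul_apply, hFne i j hij.symm, smul_zero]
    · intro h; exact absurd (Finset.mem_univ _) h
  have h1 := (LinearEquiv.ofBijective φ ⟨hinj, hsurj⟩).finrank_eq
  rw [h1, Module.finrank_fintype_fun_eq_card, Nat.card_eq_fintype_card]

end Cfsg.Agent.H3.CentOver
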