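import Mathlib
import Cfsg.Prelude.Def_Characters
import Cfsg.Agent.H3_Feit8
import Cfsg.Agent.H3_Clifford2

/-!
# Abelian subgroups whose conjugates are separated by centralizers
-/

set_option autoImplicit false

open scoped ComplexConjugate

namespace Cfsg.Agent.H3.CentTI

open Cfsg Cfsg.Agent.H3.CharBasic Cfsg.Agent.H3.CharIrr Cfsg.Agent.H3.CharInt Cfsg.Agent.H3.CharCalc
  Cfsg.Agent.H3.CharComplete Cfsg.Agent.H3.CharInd Cfsg.Agent.H3.CharMult Cfsg.Agent.H3.CharQuot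
  Cfsg.Agent.H3.Clifford

section Norm

variable {G : Type*} [Group G] [Fintype G]

theorem nsq_eq (f : G → ℂ) : ((∑ x : G, ‖f x‖ ^ 2 : ℝ) : ℂ) = (Nat.card G : ℂ) * classInner f f := by
  rw [classInner, mul_inv_cancel_left₀ (by exact_mod_cast Nat.card_pos.ne')]
  push_cast
  apply Finset.sum_congr rfl
  intro x _
  rw [Complex.mul_conj, Complex.normSq_eq_norm_sq]
  push_cast; rfl

theorem nsq_irr {χ : G → ℂ} (hχ : IsIrrCharacter G χ) : ∑ x : G, ‖χ x‖ ^ 2 = Nat.card G := by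
  have h1 := nsq_eq χ
  rw [ci_irr_self hχ, mul_one] at h1
  exact_mod_cast h1

theorem norm_le' {χ : G → ℂ} {n : ℕ} (h : IsCharacter G χ) (hn : χ 1 = n) (g : G) : ‖χ g‖ ≤ n := by
  have := IsChar.norm_le h g
  rw [hn, Complex.natCast_re] at this
  exact this

theorem central_norm {χ : G → ℂ} (hχ : IsIrrCharacter G χ) {z : G} (hz : z ∈ Subgroup.center G) (g : G) :
    ‖χ (g * z)‖ = ‖χ g‖ := by
  obtain ⟨c, hc, h⟩ := IsIrr.central hχ hz
  rw [h, norm_mul]
  have h1 : ‖c‖ ^ orderOf z = 1 := by rw [← norm_pow, hc, norm_one]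
  have h2 : ‖c‖ = 1 := (pow_eq_one_iff_of_nonneg (norm_nonneg c) (orderOf_pos z).ne').mp h1
  rw [h2, one_mul]

end Norm

section Normal

variable {L : Type*} [Group L] [Fintype L] {K : Subgroup L} [Fintype K]

theorem avg_of_free (hK : K.Normal) {χ : L → ℂ} (hχ : IsClassFunction L χ) {g : L}
    (hg : ∀ k ∈ K, k * g = g * k → k = 1) : avg K χ g = χ g := by
  classical
  have hmem : ∀ k : K, (k : L) * g * (k : L)⁻¹ * g⁻¹ ∈ K := by
    intro k
    have := hK.conj_mem _ (K.inv_mem k.2) g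
    have h2 : (k : L) * g * (k : L)⁻¹ * g⁻¹ = k * (g * (k : L)⁻¹ * g⁻¹) := by group
    rw [h2]
    exact K.mul_mem k.2 this
  have hinj : Function.Injective (fun k : K => (⟨_, hmem k⟩ : K)) := by
    intro k l hkl
    have h1 : (k : L) * g * (k : L)⁻¹ * g⁻¹ = (l : L) * g * (l : L)⁻¹ * g⁻¹ := congrArg Subtype.val hkl
    have h2 : (k : L) * g * (k : L)⁻¹ = (l : L) * g * (l : L)⁻¹ := mul_right_cancel h1
    have h3 := hg ((l : L)⁻¹ * k) (K.mul_mem (K.inv_mem l.2) k.2) (by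
      calc (l : L)⁻¹ * k * g = (l : L)⁻¹ * (k * g * (k : L)⁻¹) * k := by group
        _ = (l : L)⁻¹ * (l * g * (l : L)⁻¹) * k := by rw [h2]
        _ = g * ((l : L)⁻¹ * k) := by group)
    exact Subtype.ext (inv_mul_eq_one.mp h3).symm
  have hbij := Finite.injective_iff_bijective.mp hinj
  have h1 : ∑ k : K, χ (k * g) = ∑ k : K, χ g := by
    rw [← Function.Bijective.sum_comp hbij (fun k : K => χ (k * g))]
    apply Finset.sum_congr rfl
    intro k _
    simp only [inv_mul_cancel_right]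
    exact hχ g k
  rw [avg, h1, Finset.sum_const, nsmul_eq_mul, Finset.card_univ, ← Nat.card_eq_fintype_card,
    inv_mul_cancel_left₀ (by exact_mod_cast Nat.card_pos.ne')]

omit [Fintype L] in
theorem avg_avg (f : L → ℂ) : avg K (avg K f) = avg K f := by
  funext g
  have h1 : ∀ k : K, avg K f (k * g) = avg K f g := by
    intro k
    rw [avg, avg]
    congr 1
    exact Fintype.sum_equiv (Equiv.mulRight k) _ _ (fun l => by
      simp only [Equiv.coe_mulRight, Subgroup.coe_mul, mul_assoc])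
  rw [avg, Finset.sum_congr rfl (fun k _ => h1 k), Finset.sum_const, nsmul_eq_mul, Finset.card_univ,
    ← Nat.card_eq_fintype_card, inv_mul_cancel_left₀ (by exact_mod_cast Nat.card_pos.ne')]

/-- Pythagoras -/
theorem pyth (χ : L → ℂ) :
    classInner χ χ = classInner (avg K χ) (avg K χ) + classInner (χ - avg K χ) (χ - avg K χ) := by
  have h1 : classInner (avg K χ) χ = classInner (avg K χ) (avg K χ) := by
    rw [ci_avg_left, ci_avg_left, avg_avg]
  have h2 : classInner χ (avg K χ) = classInner (avg K χ) (avg K χ) := by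
    rw [← ci_avg_left, ← ci_avg_left, avg_avg]
  rw [ci_sub_left, ci_sub_right, ci_sub_right, h1, h2]
  ring

/-- the part on which `K` acts nontrivially has norm at least one -/
theorem one_le_norm (hK : K.Normal) {χ : L → ℂ} (hχ : IsCharacter L χ) (hne : ∃ k ∈ K, χ k ≠ χ 1) :
    1 ≤ (classInner (χ - avg K χ) (χ - avg K χ)).re := by
  classical
  have : Fintype (IrrCharacter L) := Fintype.ofFinite _
  have hcl : IsClassFunction L (χ - avg K χ) := isClass_sub _ _ (IsChar.isClass hχ) (avg_isClass hK (IsChar.isClass hχ))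
  -- a constituent
  obtain ⟨θ, hθ1, hθ2⟩ : ∃ θ : IrrCharacter L, classInner χ (θ : L → ℂ) ≠ 0 ∧ ¬ InKer K (θ : L → ℂ) := by
    by_contra hcon
    push Not at hcon
    obtain ⟨k, hk, hne⟩ := hne
    apply hne
    rw [expand_apply χ (IsChar.isClass hχ) k, expand_apply χ (IsChar.isClass hχ) 1]
    apply Finset.sum_congr rfl
    intro θ _
    by_cases h1 : classInner χ (θ : L → ℂ) = 0
    · rw [h1]; simp
    · have := hcon θ h1 k hk 1
      rw [mul_one] at this
      rw [this]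
  have h3 : avg K (θ : L → ℂ) = 0 := (avg_irr hK θ.2).resolve_left hθ2
  have h4 : classInner (χ - avg K χ) (θ : L → ℂ) = classInner χ (θ : L → ℂ) := by
    rw [ci_sub_left, ci_avg_left, h3, ci_zero_right, sub_zero]
  obtain ⟨m, hm⟩ := ci_char_nat hχ (IsIrr.isCharacter θ.2)
  have hm0 : 1 ≤ m := by
    rw [Nat.one_le_iff_ne_zero]
    rintro rfl
    exact hθ1 (by rw [hm]; simp)
  rw [ci_eq_sum _ _ hcl, Complex.re_sum]
  have h5 : ∀ η : IrrCharacter L, (classInner (χ - avg K χ) (η : L → ℂ) *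
      conj (classInner (χ - avg K χ) (η : L → ℂ))).re = ‖classInner (χ - avg K χ) (η : L → ℂ)‖ ^ 2 := by
    intro η
    rw [Complex.mul_conj, Complex.normSq_eq_norm_sq, Complex.ofReal_re]
  rw [Finset.sum_congr rfl (fun η _ => h5 η)]
  refine le_trans ?_ (Finset.single_le_sum (f := fun η : IrrCharacter L => ‖classInner (χ - avg K χ) (η : L → ℂ)‖ ^ 2)
    (fun _ _ => by positivity) (Finset.mem_univ θ))
  rw [h4, hm]
  have : (1 : ℝ) ≤ m := by exact_mod_cast hm0
  simp only [Complex.norm_natCast]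
  nlinarith

theorem sum_S_ge (hK : K.Normal) {χ : L → ℂ} (hχ : IsCharacter L χ) (hne : ∃ k ∈ K, χ k ≠ χ 1) (S : Finset L)
    (hS : ∀ g, g ∉ S → ∀ k ∈ K, k * g = g * k → k = 1) :
    ∑ g ∈ S, ‖avg K χ g‖ ^ 2 + Nat.card L ≤ ∑ g ∈ S, ‖χ g‖ ^ 2 := by
  classical
  have h1 := nsq_eq χ
  have h2 := nsq_eq (avg K χ)
  have h3 := one_le_norm hK hχ hne
  rw [pyth (K := K), mul_add, ← h2] at h1
  have h4 := congrArg Complex.re h1
  rw [Complex.add_re, Complex.ofReal_re, Complex.ofReal_re, ← Complex.ofReal_natCast, Complex.re_ofReal_mul] at h4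
  have h5 : (Nat.card L : ℝ) ≤ Nat.card L * (classInner (χ - avg K χ) (χ - avg K χ)).re :=
    le_mul_of_one_le_right (by positivity) h3
  rw [← Finset.sum_add_sum_compl S, ← Finset.sum_add_sum_compl S] at h4
  have h6 : ∑ g ∈ Sᶜ, ‖avg K χ g‖ ^ 2 = ∑ g ∈ Sᶜ, ‖χ g‖ ^ 2 := by
    apply Finset.sum_congr rfl
    intro g hg
    rw [avg_of_free hK (IsChar.isClass hχ) (hS g (Finset.mem_compl.mp hg))]
  rw [h6] at h4
  linarith

end Normal

section Main

variable {G : Type*} [Group G] [Fintype G] (H : Subgroup G) [Fintype H]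
  (hab : ∀ a ∈ H, ∀ b ∈ H, a * b = b * a) (hZ : H ⊓ Subgroup.center G = ⊥)
  (hone : ∀ g : G, g ∉ Subgroup.center G → ∀ a b : G,
    Subgroup.centralizer ({g} : Set G) ⊓ H.map (MulAut.conj a).toMonoidHom ≠ ⊥ →
    Subgroup.centralizer ({g} : Set G) ⊓ H.map (MulAut.conj b).toMonoidHom ≠ ⊥ →
    H.map (MulAut.conj a).toMonoidHom = H.map (MulAut.conj b).toMonoidHom)

include hone in
omit [Fintype G] [Fintype H] in
theorem hone' {g : G} (hg : g ∉ Subgroup.center G) {a b u v : G} (hu : u ∈ H) (hu1 : u ≠ 1) (hv : v ∈ H) (hv1 : v ≠ 1)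
    (h1 : (a * u * a⁻¹) * g = g * (a * u * a⁻¹)) (h2 : (b * v * b⁻¹) * g = g * (b * v * b⁻¹)) :
    a⁻¹ * b ∈ Subgroup.normalizer (H : Set G) := by
  have key : ∀ (a u : G), u ∈ H → u ≠ 1 → (a * u * a⁻¹) * g = g * (a * u * a⁻¹) →
      Subgroup.centralizer ({g} : Set G) ⊓ H.map (MulAut.conj a).toMonoidHom ≠ ⊥ := by
    intro a u hu hu1 h1 h3
    have h4 : a * u * a⁻¹ ∈ Subgroup.centralizer ({g} : Set G) ⊓ H.map (MulAut.conj a).toMonoidHom := by
      rw [Subgroup.mem_inf, Subgroup.mem_centralizer_singleton_iff]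
      exact ⟨h1, ⟨u, hu, rfl⟩⟩
    rw [h3, Subgroup.mem_bot] at h4
    apply hu1
    calc u = a⁻¹ * (a * u * a⁻¹) * a := by group
      _ = 1 := by rw [h4]; group
  have h3 := hone g hg a b (key a u hu hu1 h1) (key b v hv hv1 h2)
  rw [Subgroup.mem_normalizer_iff]
  intro x
  constructor
  · intro hx
    have h4 : b * x * b⁻¹ ∈ H.map (MulAut.conj a).toMonoidHom := by rw [h3]; exact ⟨x, hx, rfl⟩
    obtain ⟨y, hy, hxy⟩ := h4
    have h5 : a * y * a⁻¹ = b * x * b⁻¹ := hxy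
    have h6 : a⁻¹ * b * x * (a⁻¹ * b)⁻¹ = y := by
      calc a⁻¹ * b * x * (a⁻¹ * b)⁻¹ = a⁻¹ * (b * x * b⁻¹) * a := by group
        _ = y := by rw [← h5]; group
    rw [h6]; exact hy
  · intro hx
    have h4 : a * (a⁻¹ * b * x * (a⁻¹ * b)⁻¹) * a⁻¹ ∈ H.map (MulAut.conj b).toMonoidHom := by
      rw [← h3]; exact ⟨_, hx, rfl⟩
    obtain ⟨y, hy, hxy⟩ := h4
    have h5 : b * y * b⁻¹ = a * (a⁻¹ * b * x * (a⁻¹ * b)⁻¹) * a⁻¹ := hxy
    have h6 : x = y := by
      have : b * y * b⁻¹ = b * x * b⁻¹ := by rw [h5]; group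
      exact (mul_left_cancel (mul_right_cancel this)).symm
    rw [h6]; exact hy

include hZ in
omit [Fintype G] [Fintype H] in
theorem nc {h : G} (hh : h ∈ H) (h1 : h ≠ 1) : h ∉ Subgroup.center G := by
  intro h2
  apply h1
  have : h ∈ H ⊓ Subgroup.center G := ⟨hh, h2⟩
  rwa [hZ, Subgroup.mem_bot] at this

include hab hZ hone in
theorem main1 {χ : G → ℂ} (hχ : IsIrrCharacter G χ) {n c : ℕ} (hn : χ 1 = n)
    (hc : classInner (fun h : H => χ h) (fun _ => 1) = c) (hker : ∃ h ∈ H, χ h ≠ χ 1) :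
    Nat.card H * c ^ 2 < n ^ 2 := by
  classical
  obtain ⟨h₀, hh₀, hne₀⟩ := hker
  have hh₀1 : h₀ ≠ 1 := by rintro rfl; exact hne₀ rfl
  obtain ⟨N, hN⟩ : ∃ N : Subgroup G, N = Subgroup.normalizer (H : Set G) := ⟨_, rfl⟩
  have hHN : H ≤ N := by rw [hN]; exact Subgroup.le_normalizer
  have hn0 : 0 < n := by
    obtain ⟨m, hm, hm'⟩ := IsIrr.one_eq_nat hχ
    rw [hn] at hm'
    have : n = m := by exact_mod_cast hm'
    omega
  obtain ⟨T, hT⟩ : ∃ T : Finset G, ∀ g, g ∈ T ↔ ∃ h ∈ H, h ≠ 1 ∧ h * g = g * h :=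
    ⟨Finset.univ.filter (fun g => ∃ h ∈ H, h ≠ 1 ∧ h * g = g * h), fun g => by simp⟩
  have hTN : ∀ g ∈ T, g ∈ N := by
    intro g hg
    obtain ⟨h, hh, h1, hc⟩ := (hT g).mp hg
    have := hone' H hone (nc H hZ hh h1) (a := 1) (b := g) hh h1 hh h1 (by group) (by rw [← hc]; group)
    rw [inv_one, one_mul] at this
    rw [hN]; exact this
  have hZT : ∀ z ∈ Subgroup.center G, z ∈ T := by
    intro z hz
    rw [hT]
    exact ⟨h₀, hh₀, hh₀1, (Subgroup.mem_center_iff.mp hz h₀)⟩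
  have : Fintype N := Fintype.ofFinite _
  obtain ⟨K, hK⟩ : ∃ K : Subgroup N, K = H.subgroupOf N := ⟨_, rfl⟩
  have hKn : K.Normal := by
    rw [hK]
    refine ⟨fun u hu b => ?_⟩
    rw [Subgroup.mem_subgroupOf] at *
    have h1 : (b : G) ∈ Subgroup.normalizer (H : Set G) := hN ▸ b.2
    exact (Subgroup.mem_normalizer_iff.mp h1 _).mp hu
  have : Fintype K := Fintype.ofFinite _
  have hKmem : ∀ x : N, x ∈ K ↔ (x : G) ∈ H := fun x => by rw [hK]; exact Subgroup.mem_subgroupOf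
  have hKcard : Nat.card K = Nat.card H := by
    rw [hK]; exact Nat.card_congr (Subgroup.subgroupOfEquivOfLe hHN).toEquiv
  obtain ⟨χN, hχN⟩ : ∃ f : N → ℂ, f = fun x : N => χ x := ⟨_, rfl⟩
  have hχNc : IsCharacter N χN := by rw [hχN]; exact IsChar.res (IsIrr.isCharacter hχ) N
  obtain ⟨S, hS⟩ : ∃ S : Finset N, ∀ x, x ∈ S ↔ (x : G) ∈ T := ⟨Finset.univ.filter (fun x : N => (x : G) ∈ T), fun x => by simp⟩
  have hge := sum_S_ge (K := K) hKn hχNc ⟨⟨h₀, hHN hh₀⟩, (hKmem _).mpr hh₀, by rw [hχN]; exact hne₀⟩ S (by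
    intro g hg k hk hkg
    by_contra hk1
    apply hg
    rw [hS, hT]
    exact ⟨k, (hKmem k).mp hk, fun h => hk1 (Subtype.ext h), congrArg Subtype.val hkg⟩)
  have hST : ∑ x ∈ S, ‖χN x‖ ^ 2 = ∑ g ∈ T, ‖χ g‖ ^ 2 := by
    apply Finset.sum_bij (fun (x : N) _ => (x : G))
    · intro x hx; exact (hS x).mp hx
    · intro x _ y _ hxy; exact Subtype.ext hxy
    · intro g hg; exact ⟨⟨g, hTN g hg⟩, (hS _).mpr hg, rfl⟩
    · intro x _; rw [hχN]
  rw [hST] at hge
  -- averages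
  have : Fintype (Subgroup.center G) := Fintype.ofFinite _
  have havg1 : avg K χN 1 = c := by
    rw [← hc, avg, classInner, hKcard, hχN]
    congr 1
    have h3 : ∀ h : H, χ h * conj (1 : ℂ) = χ h := fun h => by rw [map_one, mul_one]
    rw [Finset.sum_congr rfl (fun h _ => h3 h)]
    subst hK
    exact Fintype.sum_equiv (Subgroup.subgroupOfEquivOfLe hHN).toEquiv _ _ (fun k => by
      rw [mul_one]; rfl)
  have havgK : ∀ k ∈ K, ∀ x, avg K χN (k * x) = avg K χN x := by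
    intro k hk x
    rw [avg, avg]
    congr 1
    exact Fintype.sum_equiv (Equiv.mulRight (⟨k, hk⟩ : K)) _ _ (fun l => by
      simp only [Equiv.coe_mulRight, Subgroup.coe_mul, mul_assoc])
  have havgZ : ∀ (h : G) (hh : h ∈ H) (z : G) (hz : z ∈ Subgroup.center G) (hm : h * z ∈ N),
      ‖avg K χN ⟨h * z, hm⟩‖ = c := by
    intro h hh z hz hm
    obtain ⟨w, hw, hwz⟩ := IsIrr.central hχ hz
    have hw1 : ‖w‖ = 1 := by
      have h1 : ‖w‖ ^ orderOf z = 1 := by rw [← norm_pow, hw, norm_one]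
      exact (pow_eq_one_iff_of_nonneg (norm_nonneg w) (orderOf_pos z).ne').mp h1
    have h2 : avg K χN ⟨h * z, hm⟩ = w * avg K χN ⟨h, hHN hh⟩ := by
      rw [avg, avg, mul_left_comm]
      congr 1
      rw [Finset.mul_sum]
      apply Finset.sum_congr rfl
      intro k _
      rw [hχN]
      simp only [Subgroup.coe_mul]
      rw [← mul_assoc]
      exact hwz _
    have h3 : avg K χN ⟨h, hHN hh⟩ = c := by
      have := havgK ⟨h, hHN hh⟩ ((hKmem _).mpr hh) 1
      rw [mul_one] at this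
      rw [this, havg1]
    rw [h2, h3, norm_mul, hw1, one_mul, Complex.norm_natCast]
  have hlow : (Nat.card H : ℝ) * Nat.card (Subgroup.center G) * c ^ 2 ≤ ∑ g ∈ S, ‖avg K χN g‖ ^ 2 := by
    have hZN : ∀ z ∈ Subgroup.center G, z ∈ N := fun z hz => hTN z (hZT z hz)
    obtain ⟨φ, hφ⟩ : ∃ φ : H × Subgroup.center G → N, ∀ p, (φ p : G) = p.1 * p.2 :=
      ⟨fun p => ⟨p.1 * p.2, N.mul_mem (hHN p.1.2) (hZN _ p.2.2)⟩, fun p => rfl⟩
    have hinj : Function.Injective φ := by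
      rintro ⟨h, z⟩ ⟨h', z'⟩ hp
      have h1 : (h : G) * z = h' * z' := by rw [← hφ (h, z), ← hφ (h', z'), hp]
      have h2 : (h' : G)⁻¹ * h = z' * (z : G)⁻¹ := by
        calc (h' : G)⁻¹ * h = (h' : G)⁻¹ * (h * z) * (z : G)⁻¹ := by group
          _ = z' * (z : G)⁻¹ := by rw [h1]; group
      have h3 : (h' : G)⁻¹ * h ∈ H ⊓ Subgroup.center G :=
        ⟨H.mul_mem (H.inv_mem h'.2) h.2, by
          rw [h2]; exact (Subgroup.center G).mul_mem z'.2 ((Subgroup.center G).inv_mem z.2)⟩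
      rw [hZ, Subgroup.mem_bot] at h3
      have h4 : h' = h := Subtype.ext (inv_mul_eq_one.mp h3)
      rw [h3] at h2
      have h5 : z' = z := Subtype.ext (mul_inv_eq_one.mp h2.symm)
      rw [h4, h5]
    have h1 : ∑ x ∈ Finset.univ.image φ, ‖avg K χN x‖ ^ 2 = (Nat.card H : ℝ) * Nat.card (Subgroup.center G) * c ^ 2 := by
      rw [Finset.sum_image (fun a _ b _ h => hinj h)]
      have h2 : ∀ p : H × Subgroup.center G, ‖avg K χN (φ p)‖ ^ 2 = (c : ℝ) ^ 2 := by
        intro p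
        have h3 : φ p = ⟨p.1 * p.2, N.mul_mem (hHN p.1.2) (hZN _ p.2.2)⟩ := Subtype.ext (hφ p)
        rw [h3, havgZ p.1 p.1.2 p.2 p.2.2]
      rw [Finset.sum_congr rfl (fun p _ => h2 p), Finset.sum_const, nsmul_eq_mul, Finset.card_univ,
        Fintype.card_prod, ← Nat.card_eq_fintype_card, ← Nat.card_eq_fintype_card]
      push_cast; ring
    rw [← h1]
    apply Finset.sum_le_sum_of_subset_of_nonneg
    · intro x hx
      obtain ⟨p, -, rfl⟩ := Finset.mem_image.mp hx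
      rw [hS, hT]
      refine ⟨h₀, hh₀, hh₀1, ?_⟩
      rw [hφ]
      have e1 := hab h₀ hh₀ p.1 p.1.2
      have e2 := Subgroup.mem_center_iff.mp p.2.2 h₀
      rw [← mul_assoc, e1, mul_assoc, e2, mul_assoc]
    · intro _ _ _; positivity
  -- class counting
  obtain ⟨Dset, hD⟩ : ∃ D : Finset G, ∀ g, g ∈ D ↔ g ∈ T ∧ g ∉ Subgroup.center G :=
    ⟨T.filter (fun g => g ∉ Subgroup.center G), fun g => by simp⟩
  have hcount : ∀ y : G, ((Finset.univ.filter (fun g : G => g⁻¹ * y * g ∈ Dset)).card : ℝ) ≤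
      if y ∈ Subgroup.center G then (0 : ℝ) else (Nat.card N : ℝ) := by
    intro y
    split_ifs with hy
    · have : Finset.univ.filter (fun g : G => g⁻¹ * y * g ∈ Dset) = ∅ := by
        rw [Finset.filter_eq_empty_iff]
        intro g _ hg
        rw [hD] at hg
        apply hg.2
        have : g⁻¹ * y * g = y := by
          have := Subgroup.mem_center_iff.mp hy g
          rw [mul_assoc, ← this]; group
        rw [this]; exact hy
      rw [this]; simp
    · rcases (Finset.univ.filter (fun g : G => g⁻¹ * y * g ∈ Dset)).eq_empty_or_nonempty with h1 | ⟨g₀, hg₀⟩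
      · rw [h1]; simp
      · have hg₀' := ((hD _).mp (Finset.mem_filter.mp hg₀).2).1
        obtain ⟨u, hu, hu1, huc⟩ := (hT _).mp hg₀'
        have h2 : (Finset.univ.filter (fun g : G => g⁻¹ * y * g ∈ Dset)).card ≤ (Finset.univ.filter (fun g : G => g ∈ N)).card := by
          apply Finset.card_le_card_of_injOn (fun g => g₀⁻¹ * g)
          · intro g hg
            rw [Finset.mem_coe, Finset.mem_filter] at hg
            have hg' := ((hD _).mp hg.2).1
            obtain ⟨v, hv, hv1, hvc⟩ := (hT _).mp hg'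
            rw [Finset.mem_coe, Finset.mem_filter]
            refine ⟨Finset.mem_univ _, ?_⟩
            rw [hN]
            apply hone' H hone hy hu hu1 hv hv1
            · calc g₀ * u * g₀⁻¹ * y = g₀ * (u * (g₀⁻¹ * y * g₀)) * g₀⁻¹ := by group
                _ = y * (g₀ * u * g₀⁻¹) := by rw [huc]; group
            · calc g * v * g⁻¹ * y = g * (v * (g⁻¹ * y * g)) * g⁻¹ := by group
                _ = y * (g * v * g⁻¹) := by rw [hvc]; group
          · intro a _ b _ h3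
            exact mul_left_cancel h3
        have h3 : (Finset.univ.filter (fun g : G => g ∈ N)).card = Nat.card N := by
          rw [Nat.card_eq_fintype_card, Fintype.card_subtype]
        rw [h3] at h2
        exact_mod_cast h2
  have hswap : (Nat.card G : ℝ) * ∑ x ∈ Dset, ‖χ x‖ ^ 2 =
      ∑ y : G, ‖χ y‖ ^ 2 * (Finset.univ.filter (fun g : G => g⁻¹ * y * g ∈ Dset)).card := by
    have h1 : ∀ g : G, ∑ y : G, (if g⁻¹ * y * g ∈ Dset then ‖χ y‖ ^ 2 else 0) = ∑ x ∈ Dset, ‖χ x‖ ^ 2 := by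
      intro g
      rw [← Finset.sum_filter]
      symm
      apply Finset.sum_bij (fun x _ => g * x * g⁻¹)
      · intro x hx
        rw [Finset.mem_filter]
        refine ⟨Finset.mem_univ _, ?_⟩
        have : g⁻¹ * (g * x * g⁻¹) * g = x := by group
        rw [this]; exact hx
      · intro x _ y _ hxy
        exact mul_left_cancel (mul_right_cancel hxy)
      · intro y hy
        rw [Finset.mem_filter] at hy
        exact ⟨g⁻¹ * y * g, hy.2, by group⟩
      · intro x _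
        rw [IsIrr.isClass hχ]
    have h2 : ∑ g : G, ∑ y : G, (if g⁻¹ * y * g ∈ Dset then ‖χ y‖ ^ 2 else 0) = (Nat.card G : ℝ) * ∑ x ∈ Dset, ‖χ x‖ ^ 2 := by
      rw [Finset.sum_congr rfl (fun g _ => h1 g), Finset.sum_const, nsmul_eq_mul, Finset.card_univ,
        ← Nat.card_eq_fintype_card]
    rw [← h2, Finset.sum_comm]
    apply Finset.sum_congr rfl
    intro y _
    rw [← Finset.sum_filter, Finset.sum_const, nsmul_eq_mul, mul_comm]
  have hle : (Nat.card G : ℝ) * ∑ x ∈ Dset, ‖χ x‖ ^ 2 ≤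
      Nat.card N * ∑ y ∈ Finset.univ.filter (fun y : G => y ∉ Subgroup.center G), ‖χ y‖ ^ 2 := by
    rw [hswap, Finset.mul_sum, Finset.sum_filter]
    apply Finset.sum_le_sum
    intro y _
    have h1 := hcount y
    by_cases hy : y ∈ Subgroup.center G
    · rw [if_pos hy] at h1
      rw [if_neg (not_not.mpr hy)]
      exact mul_nonpos_of_nonneg_of_nonpos (by positivity) h1
    · rw [if_neg hy] at h1
      rw [if_pos hy, mul_comm]
      exact mul_le_mul_of_nonneg_right h1 (by positivity)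
  -- central elements
  have hcen : ∀ z ∈ Subgroup.center G, ‖χ z‖ ^ 2 = (n : ℝ) ^ 2 := by
    intro z hz
    have := central_norm hχ hz 1
    rw [one_mul, hn, Complex.norm_natCast] at this
    rw [this]
  have hZsum : ∑ z ∈ Finset.univ.filter (fun y : G => y ∈ Subgroup.center G), ‖χ z‖ ^ 2 =
      Nat.card (Subgroup.center G) * (n : ℝ) ^ 2 := by
    rw [Finset.sum_congr rfl (fun z hz => hcen z (Finset.mem_filter.mp hz).2), Finset.sum_const, nsmul_eq_mul]
    congr 2
    rw [Nat.card_eq_fintype_card, Fintype.card_subtype]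
  have htot := nsq_irr hχ
  rw [← Finset.sum_filter_add_sum_filter_not Finset.univ (fun y : G => y ∈ Subgroup.center G), hZsum] at htot
  have hTsum : ∑ g ∈ T, ‖χ g‖ ^ 2 = Nat.card (Subgroup.center G) * (n : ℝ) ^ 2 + ∑ x ∈ Dset, ‖χ x‖ ^ 2 := by
    rw [← Finset.sum_filter_add_sum_filter_not T (fun y : G => y ∈ Subgroup.center G), ← hZsum]
    congr 1
    · apply Finset.sum_congr _ (fun _ _ => rfl)
      ext z
      rw [Finset.mem_filter, Finset.mem_filter]
      exact ⟨fun h => ⟨Finset.mem_univ _, h.2⟩, fun h => ⟨hZT z h.2, h.2⟩⟩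
    · apply Finset.sum_congr _ (fun _ _ => rfl)
      ext z
      rw [Finset.mem_filter, hD]
  -- conclusion
  have hGpos : (0 : ℝ) < Nat.card G := by exact_mod_cast Nat.card_pos
  have hNpos : (0 : ℝ) < Nat.card N := by exact_mod_cast Nat.card_pos
  have hZpos : (0 : ℝ) < Nat.card (Subgroup.center G) := by exact_mod_cast Nat.card_pos
  have hnpos : (0 : ℝ) < n := by exact_mod_cast hn0
  obtain ⟨sD, hsD⟩ : ∃ s : ℝ, s = ∑ x ∈ Dset, ‖χ x‖ ^ 2 := ⟨_, rfl⟩
  obtain ⟨gG, hgG⟩ : ∃ s : ℝ, s = Nat.card G := ⟨_, rfl⟩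
  obtain ⟨gN, hgN⟩ : ∃ s : ℝ, s = Nat.card N := ⟨_, rfl⟩
  obtain ⟨gZ, hgZ⟩ : ∃ s : ℝ, s = Nat.card (Subgroup.center G) := ⟨_, rfl⟩
  obtain ⟨gH, hgH⟩ : ∃ s : ℝ, s = Nat.card H := ⟨_, rfl⟩
  rw [← hsD] at hTsum hle
  rw [hTsum] at hge
  rw [← hgZ] at hZpos hge htot hlow
  rw [← hgN] at hNpos hle hge
  rw [← hgG] at hGpos hle htot
  rw [← hgH] at hlow
  have e1 : ∑ y ∈ Finset.univ.filter (fun y : G => y ∉ Subgroup.center G), ‖χ y‖ ^ 2 = gG - gZ * n ^ 2 := by
    linarith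
  rw [e1] at hle
  have e2 : gH * gZ * c ^ 2 + gN ≤ gZ * n ^ 2 + sD := by linarith
  have e3 : gG * (gH * gZ * c ^ 2 + gN - gZ * n ^ 2) ≤ gG * sD := mul_le_mul_of_nonneg_left (by linarith) hGpos.le
  have e4 : gG * gZ * (gH * c ^ 2 - n ^ 2) ≤ - (gN * (gZ * n ^ 2)) := by nlinarith
  have e5 : 0 < gN * (gZ * n ^ 2) := by positivity
  have e6 : gH * c ^ 2 < n ^ 2 := by
    by_contra hcon
    push Not at hcon
    have : 0 ≤ gG * gZ * (gH * c ^ 2 - n ^ 2) := mul_nonneg (by positivity) (by linarith)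
    linarith
  rw [hgH] at e6
  exact_mod_cast e6

include hab hZ hone in
theorem main2 {χ : G → ℂ} (hχ : IsIrrCharacter G χ) {n : ℕ} (hn : χ 1 = n) (hn1 : n ≠ 1)
    (hM : ∀ M : Subgroup G, M.Normal → H ≤ M → M = ⊤) : Nat.card H < (1 + n) ^ 2 := by
  classical
  have : Fintype (IrrCharacter G) := Fintype.ofFinite _
  have : Fintype (IrrCharacter H) := Fintype.ofFinite _
  have hn0 : 0 < n := by
    obtain ⟨m, hm, hm'⟩ := IsIrr.one_eq_nat hχ
    rw [hn] at hm'
    have : n = m := by exact_mod_cast hm'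
    omega
  obtain ⟨F, hF⟩ : ∃ F : G → ℂ, F = χ * (fun g => (starRingEnd ℂ) (χ g)) := ⟨_, rfl⟩
  have hFc : IsCharacter G F := by
    rw [hF]; exact IsChar.mul (IsIrr.isCharacter hχ) (IsChar.conj (IsIrr.isCharacter hχ))
  obtain ⟨a, ha, hFa⟩ := IsChar.eq_sum_nat hFc
  -- degrees and fixed points of the constituents
  have hd : ∀ ξ : IrrCharacter G, ∃ d c : ℕ, (ξ : G → ℂ) 1 = d ∧
      classInner (fun h : H => (ξ : G → ℂ) h) (fun _ => 1) = c ∧
      (ξ ≠ ⟨fun _ => 1, isIrr_one⟩ → Nat.card H * c ^ 2 < d ^ 2) := by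
    intro ξ
    obtain ⟨d, hd, hd'⟩ := IsIrr.one_eq_nat ξ.2
    obtain ⟨c, hc⟩ := ci_char_nat (IsChar.res (IsIrr.isCharacter ξ.2) H) (IsChar.one (G := H))
    refine ⟨d, c, hd', hc, fun hne => ?_⟩
    apply main1 H hab hZ hone ξ.2 hd' hc
    by_contra hcon
    push Not at hcon
    have h1 := hM (chKer (ξ : G → ℂ) (IsIrr.isCharacter ξ.2)) (chKer_normal _) (fun h hh => hcon h hh)
    apply hne
    apply Subtype.ext
    have h2 : ∀ g, (ξ : G → ℂ) g = (ξ : G → ℂ) 1 := fun g => by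
      have : g ∈ chKer (ξ : G → ℂ) (IsIrr.isCharacter ξ.2) := by rw [h1]; trivial
      exact this
    by_contra h3
    have h4 := ci_irr_ne ξ.2 (isIrr_one (G := G)) h3
    rw [classInner] at h4
    have h5 := (mul_eq_zero.mp h4).resolve_left (inv_ne_zero (by exact_mod_cast Nat.card_pos.ne'))
    simp only [map_one, mul_one] at h5
    rw [Finset.sum_congr rfl (fun g _ => h2 g), Finset.sum_const, nsmul_eq_mul, mul_eq_zero] at h5
    rcases h5 with h6 | h6
    · have : (Finset.univ : Finset G).card ≠ 0 := by rw [Finset.card_univ]; exact Fintype.card_ne_zero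
      exact this (by exact_mod_cast h6)
    · exact IsIrr.one_ne_zero ξ.2 h6
  choose d c hd1 hc1 hdc using hd
  obtain ⟨i1, hi1⟩ : ∃ i : IrrCharacter G, i = ⟨fun _ => 1, isIrr_one⟩ := ⟨_, rfl⟩
  rw [← hi1] at hdc
  have ha1 : a i1 = 1 := by
    have h1 := ha i1
    have h2 : classInner F ((i1 : IrrCharacter G) : G → ℂ) = classInner χ χ := by
      rw [hF, hi1, classInner, classInner]
      congr 1
      apply Finset.sum_congr rfl
      intro g _
      change χ g * (starRingEnd ℂ) (χ g) * (starRingEnd ℂ) 1 = _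
      rw [map_one, mul_one]
    rw [h2, ci_irr_self hχ] at h1
    exact_mod_cast h1.symm
  have hd11 : d i1 = 1 := by
    have := hd1 i1
    rw [hi1] at this
    have h2 : ((d i1 : ℕ) : ℂ) = 1 := by rw [hi1]; exact this.symm
    exact_mod_cast h2
  have hc11 : c i1 = 1 := by
    have h1 := hc1 i1
    have h2 : classInner (fun h : H => (i1 : G → ℂ) h) (fun _ => 1) = 1 := by
      rw [hi1]; exact ci_irr_self (isIrr_one (G := H))
    rw [h2] at h1
    exact_mod_cast h1.symm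
  -- degree of `F`
  have hdegF : n ^ 2 = ∑ ξ : IrrCharacter G, a ξ * d ξ := by
    have h1 := congrFun hFa 1
    rw [Finset.sum_apply] at h1
    have h2 : F 1 = n ^ 2 := by
      rw [hF]
      change χ 1 * (starRingEnd ℂ) (χ 1) = _
      rw [hn, Complex.conj_natCast]; ring
    rw [h2] at h1
    have h3 : ((n ^ 2 : ℕ) : ℂ) = ((∑ ξ : IrrCharacter G, a ξ * d ξ : ℕ) : ℂ) := by
      push_cast
      rw [h1]
      apply Finset.sum_congr rfl
      intro ξ _
      rw [Pi.smul_apply, smul_eq_mul, hd1]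
    exact_mod_cast h3
  -- fixed points of `F`
  have hfixF : classInner (fun h : H => F h) (fun _ => 1) = ((∑ ξ : IrrCharacter G, a ξ * c ξ : ℕ) : ℂ) := by
    have h1 : (fun h : H => F h) = ∑ ξ : IrrCharacter G, (a ξ : ℂ) • (fun h : H => (ξ : G → ℂ) h) := by
      funext h
      have := congrFun hFa (h : G)
      rw [Finset.sum_apply] at this ⊢
      exact this
    rw [h1, ci_sum_left]
    push_cast
    apply Finset.sum_congr rfl
    intro ξ _
    rw [ci_smul_left, hc1]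
  have hfixF2 : classInner (fun h : H => F h) (fun _ => 1) = classInner (fun h : H => χ h) (fun h : H => χ h) := by
    rw [hF, classInner, classInner]
    congr 1
    apply Finset.sum_congr rfl
    intro g _
    change χ g * (starRingEnd ℂ) (χ g) * (starRingEnd ℂ) 1 = _
    rw [map_one, mul_one]
  have hge : n ≤ ∑ ξ : IrrCharacter G, a ξ * c ξ := by
    obtain ⟨m, hm, hχm⟩ := IsChar.eq_sum_nat (IsChar.res (IsIrr.isCharacter hχ) H)
    have h1 : ∀ l : IrrCharacter H, (l : H → ℂ) 1 = 1 := fun l =>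
      IsIrr.one_of_comm (fun x y => Subtype.ext (hab x x.2 y y.2)) l.2
    have h2 : n = ∑ l : IrrCharacter H, m l := by
      have h3 := congrFun hχm 1
      rw [Finset.sum_apply] at h3
      have h4 : ((n : ℕ) : ℂ) = ((∑ l : IrrCharacter H, m l : ℕ) : ℂ) := by
        push_cast
        rw [← hn]
        refine h3.trans ?_
        apply Finset.sum_congr rfl
        intro l _
        rw [Pi.smul_apply, smul_eq_mul, h1, mul_one]
      exact_mod_cast h4
    have h3 : classInner (fun h : H => χ h) (fun h : H => χ h) = ((∑ l : IrrCharacter H, m l * m l : ℕ) : ℂ) := by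
      rw [ci_eq_sum _ _ (IsChar.isClass (IsChar.res (IsIrr.isCharacter hχ) H))]
      push_cast
      apply Finset.sum_congr rfl
      intro l _
      rw [hm, Complex.conj_natCast]
    have h4 : ∑ ξ : IrrCharacter G, a ξ * c ξ = ∑ l : IrrCharacter H, m l * m l := by
      have := hfixF.symm.trans (hfixF2.trans h3)
      exact_mod_cast this
    rw [h4, h2]
    apply Finset.sum_le_sum
    intro l _
    exact Nat.le_mul_self _
  rw [← Finset.add_sum_erase Finset.univ _ (Finset.mem_univ i1), ha1, hd11] at hdegF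
  rw [← Finset.add_sum_erase Finset.univ _ (Finset.mem_univ i1), ha1, hc11] at hge
  by_contra hcon
  push Not at hcon
  have hsq : (1 + (n : ℝ)) ≤ Real.sqrt (Nat.card H) := by
    apply Real.le_sqrt_of_sq_le
    exact_mod_cast hcon
  obtain ⟨r, hr⟩ : ∃ r, r = Real.sqrt (Nat.card H) := ⟨_, rfl⟩
  rw [← hr] at hsq
  have hr2 : r ^ 2 = Nat.card H := by rw [hr]; exact Real.sq_sqrt (by positivity)
  have hr0 : 0 ≤ r := by rw [hr]; exact Real.sqrt_nonneg _
  have hterm : ∀ ξ ∈ Finset.univ.erase i1, r * (a ξ * c ξ) ≤ a ξ * d ξ := by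
    intro ξ hξ
    have h1 := hdc ξ (Finset.ne_of_mem_erase hξ)
    have h2 : (r * c ξ) ^ 2 ≤ (d ξ : ℝ) ^ 2 := by
      rw [mul_pow, hr2]
      exact_mod_cast h1.le
    have h3 : r * c ξ ≤ d ξ := by
      exact (pow_le_pow_iff_left₀ (by positivity) (by positivity) two_ne_zero).mp h2
    calc r * ((a ξ : ℝ) * c ξ) = a ξ * (r * c ξ) := by ring
      _ ≤ a ξ * d ξ := mul_le_mul_of_nonneg_left h3 (by positivity)
  -- some constituent is nontrivial
  have hex : ∃ ξ ∈ Finset.univ.erase i1, a ξ ≠ 0 := by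
    by_contra h1
    push Not at h1
    rw [Finset.sum_eq_zero (fun ξ hξ => by rw [h1 ξ hξ, zero_mul])] at hdegF
    have : n ^ 2 = 1 := by omega
    exact hn1 (Nat.pow_eq_one.mp this |>.resolve_right (by norm_num))
  have hstrict : ∃ ξ ∈ Finset.univ.erase i1, r * ((a ξ : ℝ) * c ξ) < a ξ * d ξ := by
    obtain ⟨ξ, hξ, h0⟩ := hex
    refine ⟨ξ, hξ, ?_⟩
    have h1 := hdc ξ (Finset.ne_of_mem_erase hξ)
    have h2 : (r * c ξ) ^ 2 < (d ξ : ℝ) ^ 2 := by
      rw [mul_pow, hr2]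
      exact_mod_cast h1
    have h3 : r * c ξ < d ξ := by
      exact (pow_lt_pow_iff_left₀ (by positivity) (by positivity) two_ne_zero).mp h2
    have h4 : (0 : ℝ) < a ξ := by exact_mod_cast Nat.pos_of_ne_zero h0
    calc r * ((a ξ : ℝ) * c ξ) = a ξ * (r * c ξ) := by ring
      _ < a ξ * d ξ := mul_lt_mul_of_pos_left h3 h4
  have hlt := Finset.sum_lt_sum hterm hstrict
  rw [← Finset.mul_sum] at hlt
  have hdegF' : (n : ℝ) ^ 2 = 1 + ∑ ξ ∈ Finset.univ.erase i1, (a ξ : ℝ) * d ξ := by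
    have : ((n ^ 2 : ℕ) : ℝ) = ((1 * 1 + ∑ ξ ∈ Finset.univ.erase i1, a ξ * d ξ : ℕ) : ℝ) := by rw [hdegF]
    push_cast at this
    linarith
  have hge' : (n : ℝ) ≤ 1 + ∑ ξ ∈ Finset.univ.erase i1, (a ξ : ℝ) * c ξ := by
    have : ((n : ℕ) : ℝ) ≤ ((1 * 1 + ∑ ξ ∈ Finset.univ.erase i1, a ξ * c ξ : ℕ) : ℝ) := by exact_mod_cast hge
    push_cast at this
    linarith
  have h1 : r * ((n : ℝ) - 1) < (n : ℝ) ^ 2 - 1 := by
    have : r * ((n : ℝ) - 1) ≤ r * ∑ ξ ∈ Finset.univ.erase i1, (a ξ : ℝ) * c ξ :=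
      mul_le_mul_of_nonneg_left (by linarith) hr0
    linarith
  have hn2 : (1 : ℝ) < n := by
    have : 1 < n := by omega
    exact_mod_cast this
  nlinarith

end Main

end Cfsg.Agent.H3.CentTI
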