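import Mathlib
import Cfsg.Agent.H3_FS2
import Cfsg.Agent.H3_Clifford
import Cfsg.Agent.H3_CharQuot

/-!
# Counting square roots; the Brauer-Fowler bounds
-/

set_option autoImplicit false

open scoped ComplexConjugate

namespace Cfsg.Agent.H3.InvCount

open Cfsg Cfsg.Agent.H3.CharBasic Cfsg.Agent.H3.CharIrr Cfsg.Agent.H3.CharComplete
  Cfsg.Agent.H3.CharInd

/-- the Frobenius-Schur indicator -/
noncomputable def nu {G : Type*} [Group G] [Fintype G] (χ : G → ℂ) : ℂ := (Nat.card G : ℂ)⁻¹ * ∑ g : G, χ (g * g)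

variable {G : Type*} [Group G] [Fintype G]

theorem nu_cases {χ : G → ℂ} (hχ : IsIrrCharacter G χ) :
    (nu χ = 0 ∧ ¬ ∀ g, (χ g).im = 0) ∨ ((∀ g, (χ g).im = 0) ∧ (nu χ = 1 ∨ nu χ = -1)) := by
  obtain ⟨n, ρ, hirr, rfl⟩ := hχ
  rcases FS.indicator ρ ⟨n, ρ, hirr, rfl⟩ with ⟨h1, h2⟩ | ⟨h1, c, B, hc, -, -, -, h2⟩
  · refine Or.inl ⟨h1, fun h => h2 (funext fun g => (Complex.conj_eq_iff_im.mpr (h g)).symm)⟩
  · refine Or.inr ⟨fun g => Complex.conj_eq_iff_im.mp (congrFun h1 g).symm, ?_⟩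
    rw [nu, h2]
    exact hc

theorem conj_nu {χ : G → ℂ} (hχ : IsIrrCharacter G χ) : conj (nu χ) = nu χ := by
  rcases nu_cases hχ with ⟨h, -⟩ | ⟨-, h | h⟩ <;> rw [h] <;> simp

theorem count_sq [DecidableEq G] [Fintype (IrrCharacter G)] (g : G) :
    ((Finset.univ.filter (fun x : G => x * x = g)).card : ℂ) = ∑ χ : IrrCharacter G, nu (χ : G → ℂ) * (χ : G → ℂ) g := by
  let θ : G → ℂ := fun g => ((Finset.univ.filter (fun x : G => x * x = g)).card : ℂ)
  have hθ : IsClassFunction G θ := by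
    intro h x
    show ((Finset.univ.filter (fun y : G => y * y = _)).card : ℂ) = ((Finset.univ.filter (fun y : G => y * y = _)).card : ℂ)
    congr 1
    refine Finset.card_bij' (fun y _ => x⁻¹ * y * x) (fun y _ => x * y * x⁻¹) ?_ ?_ ?_ ?_
    · intro y hy
      rw [Finset.mem_filter] at hy ⊢
      refine ⟨Finset.mem_univ _, ?_⟩
      calc x⁻¹ * y * x * (x⁻¹ * y * x) = x⁻¹ * (y * y) * x := by group
        _ = h := by rw [hy.2]; group
    · intro y hy
      rw [Finset.mem_filter] at hy ⊢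
      refine ⟨Finset.mem_univ _, ?_⟩
      calc x * y * x⁻¹ * (x * y * x⁻¹) = x * (y * y) * x⁻¹ := by group
        _ = x * h * x⁻¹ := by rw [hy.2]
    · intro y _
      group
    · intro y _
      group
  have h1 : ∀ χ : IrrCharacter G, classInner θ (χ : G → ℂ) = nu (χ : G → ℂ) := by
    intro χ
    rw [← conj_nu χ.2, classInner, nu, map_mul, map_inv₀, Complex.conj_natCast, map_sum]
    congr 1
    have h2 : ∀ g : G, θ g * conj ((χ : G → ℂ) g) = ∑ x : G, if x * x = g then conj ((χ : G → ℂ) (x * x)) else 0 := by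
      intro g
      rw [← Finset.sum_filter, Finset.sum_congr rfl (g := fun _ => conj ((χ : G → ℂ) g)) (fun x hx => by rw [(Finset.mem_filter.mp hx).2]),
        Finset.sum_const, nsmul_eq_mul]
    rw [Finset.sum_congr rfl fun g _ => h2 g, Finset.sum_comm]
    exact Finset.sum_congr rfl fun x _ => by rw [Finset.sum_ite_eq, if_pos (Finset.mem_univ _)]
  have h3 := expand_apply θ hθ g
  rw [Finset.sum_congr rfl fun χ _ => by rw [h1 χ]] at h3
  exact h3

end Cfsg.Agent.H3.InvCount
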