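import Mathlib
import Cfsg.Agent.H3_InvCount
import Cfsg.Agent.H3_PRes

/-!
# Brauer-Fowler bounds
-/

set_option autoImplicit false

open scoped ComplexConjugate

namespace Cfsg.Agent.H3.InvCount

open Cfsg Cfsg.Agent.H3.CharBasic Cfsg.Agent.H3.CharIrr Cfsg.Agent.H3.CharComplete
  Cfsg.Agent.H3.CharInd

variable {G : Type*} [Group G] [Fintype G]

theorem card_sq_one [DecidableEq G] : (Finset.univ.filter (fun x : G => x * x = 1)).card = Nat.card {x : G // orderOf x = 2} + 1 := by
  have h1 : Finset.univ.filter (fun x : G => x * x = 1) = insert 1 (Finset.univ.filter (fun x : G => orderOf x = 2)) := by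
    ext x
    rw [Finset.mem_filter, Finset.mem_insert, Finset.mem_filter]
    constructor
    · rintro ⟨-, h⟩
      by_cases h1 : x = 1
      · exact Or.inl h1
      · exact Or.inr ⟨Finset.mem_univ _, orderOf_eq_prime (by rw [sq]; exact h) h1⟩
    · rintro (h | ⟨-, h⟩)
      · subst h
        exact ⟨Finset.mem_univ _, one_mul 1⟩
      · refine ⟨Finset.mem_univ _, ?_⟩
        rw [← sq, ← h, pow_orderOf_eq_one]
  rw [h1, Finset.card_insert_of_notMem (by rw [Finset.mem_filter, orderOf_one]; rintro ⟨-, h⟩; omega), Nat.card_eq_fintype_card, Fintype.card_subtype]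

open Classical in
/-- the non-principal real-valued irreducible characters -/
noncomputable def RR (G : Type*) [Group G] [Fintype (IrrCharacter G)] : Finset (IrrCharacter G) :=
  Finset.univ.filter (fun χ : IrrCharacter G => (χ : G → ℂ) ≠ (fun _ => 1) ∧ ∀ g, ((χ : G → ℂ) g).im = 0)

theorem mem_RR {G : Type*} [Group G] [Fintype (IrrCharacter G)] {χ : IrrCharacter G} :
    χ ∈ RR G ↔ (χ : G → ℂ) ≠ (fun _ => 1) ∧ ∀ g, ((χ : G → ℂ) g).im = 0 := by
  classical
  rw [RR, Finset.mem_filter]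
  exact ⟨fun h => h.2, fun h => ⟨Finset.mem_univ _, h⟩⟩

/-- `ε ∈ {-1,0,1}` -/
theorem exists_eps {χ : G → ℂ} (hχ : IsIrrCharacter G χ) : ∃ e : ℤ, nu χ = e ∧ |e| ≤ 1 ∧ ((¬ ∀ g, (χ g).im = 0) → e = 0) := by
  rcases nu_cases hχ with ⟨h, -⟩ | ⟨h0, h | h⟩
  · exact ⟨0, by rw [h, Int.cast_zero], by simp, fun _ => rfl⟩
  · exact ⟨1, by rw [h, Int.cast_one], by simp, fun h1 => absurd h0 h1⟩
  · exact ⟨-1, by rw [h]; simp, by simp, fun h1 => absurd h0 h1⟩

theorem le_sum [Fintype (IrrCharacter G)] : Nat.card {x : G // orderOf x = 2} ≤ ∑ χ ∈ RR G, charDegree (χ : G → ℂ) := by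
  classical
  choose e he1 he2 he3 using fun χ : IrrCharacter G => exists_eps χ.2
  have h1 := count_sq (1 : G)
  rw [card_sq_one (G := G), Finset.sum_congr rfl fun χ _ => by rw [he1 χ, PRes.charDegree_cast (IsIrr.isCharacter χ.2)]] at h1
  have h2 : ((Nat.card {x : G // orderOf x = 2} + 1 : ℕ) : ℤ) = ∑ χ : IrrCharacter G, e χ * charDegree (χ : G → ℂ) := by
    exact_mod_cast h1
  let o : IrrCharacter G := ⟨fun _ => 1, isIrr_one⟩
  have ho : charDegree (o : G → ℂ) = 1 := PRes.charDegree_eq (by simp [o])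
  rw [← Finset.add_sum_erase _ _ (Finset.mem_univ o), ho] at h2
  have h3 : e o ≤ 1 := (abs_le.mp (he2 o)).2
  have h4 : ∑ χ ∈ Finset.univ.erase o, e χ * (charDegree (χ : G → ℂ) : ℤ) ≤ ∑ χ ∈ RR G, (charDegree (χ : G → ℂ) : ℤ) := by
    have hsub : RR G ⊆ Finset.univ.erase o := by
      intro χ hχ
      rw [Finset.mem_erase]
      refine ⟨?_, Finset.mem_univ _⟩
      rintro rfl
      exact (mem_RR.mp hχ).1 rfl
    rw [← Finset.sum_subset hsub (f := fun χ => e χ * (charDegree (χ : G → ℂ) : ℤ))]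
    · refine Finset.sum_le_sum fun χ _ => ?_
      have h5 : e χ ≤ 1 := (abs_le.mp (he2 χ)).2
      have h6 : (0 : ℤ) ≤ charDegree (χ : G → ℂ) := by positivity
      nlinarith
    · intro χ hχ hχ2
      have : e χ = 0 := by
        apply he3
        intro h
        refine hχ2 (mem_RR.mpr ⟨fun h' => (Finset.mem_erase.mp hχ).1 (Subtype.ext h'), h⟩)
      rw [this, zero_mul]
  have h5 : ((Nat.card {x : G // orderOf x = 2} : ℕ) : ℤ) ≤ ∑ χ ∈ RR G, (charDegree (χ : G → ℂ) : ℤ) := by
    push_cast at h2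
    linarith
  exact_mod_cast h5

theorem sum_sq_le [Fintype (IrrCharacter G)] : ∑ χ ∈ RR G, charDegree (χ : G → ℂ) ^ 2 + 1 ≤ Nat.card G := by
  classical
  have h1 := sum_sq (G := G)
  rw [Finset.sum_congr rfl fun χ _ => by rw [PRes.charDegree_cast (IsIrr.isCharacter χ.2)]] at h1
  have h2 : ∑ χ : IrrCharacter G, charDegree (χ : G → ℂ) ^ 2 = Nat.card G := by exact_mod_cast h1
  let o : IrrCharacter G := ⟨fun _ => 1, isIrr_one⟩
  have ho : charDegree (o : G → ℂ) = 1 := PRes.charDegree_eq (by simp [o])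
  rw [← Finset.add_sum_erase _ _ (Finset.mem_univ o), ho] at h2
  have hsub : RR G ⊆ Finset.univ.erase o := by
    intro χ hχ
    rw [Finset.mem_erase]
    refine ⟨?_, Finset.mem_univ _⟩
    rintro rfl
    exact (mem_RR.mp hχ).1 rfl
  have h3 := Finset.sum_le_sum_of_subset (f := fun χ : IrrCharacter G => charDegree (χ : G → ℂ) ^ 2) hsub
  omega

theorem card_RR [Fintype (IrrCharacter G)] : (RR G).card + 1 ≤ Nat.card (ConjClasses G) := by
  classical
  let o : IrrCharacter G := ⟨fun _ => 1, isIrr_one⟩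
  have hsub : insert o (RR G) ⊆ Finset.univ := Finset.subset_univ _
  have h1 := Finset.card_le_card hsub
  rw [Finset.card_insert_of_notMem (fun h => (mem_RR.mp h).1 rfl), Finset.card_univ, ← Nat.card_eq_fintype_card, card_irr] at h1
  exact h1

theorem sum_cent : ∑ x : G, Nat.card (Subgroup.centralizer ({x} : Set G)) = Nat.card (ConjClasses G) * Nat.card G := by
  classical
  rw [← card_comm_eq_card_conjClasses_mul_card]
  have e : {p : G × G // Commute p.1 p.2} ≃ (x : G) × Subgroup.centralizer ({x} : Set G) :=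
    { toFun := fun p => ⟨p.1.1, ⟨p.1.2, by
        rw [Subgroup.mem_centralizer_singleton_iff]
        exact p.2.symm.eq⟩⟩
      invFun := fun q => ⟨(q.1, (q.2 : G)), by
        have := Subgroup.mem_centralizer_singleton_iff.mp q.2.2
        exact (show (q.1 : G) * q.2 = q.2 * q.1 from this.symm)⟩
      left_inv := fun p => rfl
      right_inv := fun q => rfl }
  rw [Nat.card_congr e, Nat.card_sigma]

theorem brauerFowler (heven : Even (Nat.card G)) (t : ℕ) (ht : Nat.card {x : G // orderOf x = 2} = t) :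
    (∃ x : G, x ≠ 1 ∧ ((Subgroup.centralizer ({x} : Set G)).index : ℚ) ≤ (((Nat.card G : ℚ) - 1) / t) ^ 2) ∧
      ∃ χ : IrrCharacter G, (χ : G → ℂ) ≠ (fun _ => 1) ∧ (∀ g : G, ((χ : G → ℂ) g).im = 0) ∧
        (charDegree (χ : G → ℂ) : ℚ) ≤ ((Nat.card G : ℚ) - 1) / t := by
  classical
  have := Fintype.ofFinite (IrrCharacter G)
  have : Fact (Nat.Prime 2) := ⟨Nat.prime_two⟩
  have hGpos : 0 < Nat.card G := Nat.card_pos
  have ht0 : 0 < t := by
    rw [← ht]
    obtain ⟨x, hx⟩ := exists_prime_orderOf_dvd_card' (G := G) 2 (even_iff_two_dvd.mp heven)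
    have : Nonempty {x : G // orderOf x = 2} := ⟨⟨x, hx⟩⟩
    exact Nat.card_pos
  have hg1 : 1 < Nat.card G := by
    obtain ⟨k, hk⟩ := heven
    omega
  have hle := le_sum (G := G)
  rw [ht] at hle
  have hsq := sum_sq_le (G := G)
  have hRpos : 0 < (RR G).card := by
    rw [Finset.card_pos]
    by_contra hcon
    rw [Finset.not_nonempty_iff_eq_empty] at hcon
    rw [hcon, Finset.sum_empty] at hle
    omega
  have htq : (0 : ℚ) < t := by exact_mod_cast ht0
  have hleq : (t : ℚ) ≤ ∑ χ ∈ RR G, (charDegree (χ : G → ℂ) : ℚ) := by exact_mod_cast hle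
  have hsqq : ∑ χ ∈ RR G, (charDegree (χ : G → ℂ) : ℚ) ^ 2 ≤ (Nat.card G : ℚ) - 1 := by
    have : (∑ χ ∈ RR G, (charDegree (χ : G → ℂ) : ℚ) ^ 2) + 1 ≤ Nat.card G := by exact_mod_cast hsq
    linarith
  have hgq : (0 : ℚ) < (Nat.card G : ℚ) - 1 := by
    have : (1 : ℚ) < Nat.card G := by exact_mod_cast hg1
    linarith
  constructor
  · by_contra hcon
    push Not at hcon
    have hcs : (t : ℚ) ^ 2 ≤ (RR G).card * ((Nat.card G : ℚ) - 1) := by
      have h1 := Finset.sum_mul_sq_le_sq_mul_sq (RR G) (fun χ => (charDegree (χ : G → ℂ) : ℚ)) (fun _ => 1)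
      simp only [mul_one, one_pow, Finset.sum_const, nsmul_eq_mul] at h1
      calc (t : ℚ) ^ 2 ≤ (∑ χ ∈ RR G, (charDegree (χ : G → ℂ) : ℚ)) ^ 2 := by
            exact pow_le_pow_left₀ htq.le hleq 2
        _ ≤ _ := h1
        _ ≤ ((Nat.card G : ℚ) - 1) * (RR G).card := by
            apply mul_le_mul_of_nonneg_right hsqq
            positivity
        _ = _ := mul_comm _ _
    have hk : ((RR G).card : ℚ) + 1 ≤ Nat.card (ConjClasses G) := by exact_mod_cast card_RR (G := G)
    have hsum := sum_cent (G := G)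
    have hsumq : ∑ x : G, (Nat.card (Subgroup.centralizer ({x} : Set G)) : ℚ) = Nat.card (ConjClasses G) * Nat.card G := by exact_mod_cast hsum
    rw [← Finset.add_sum_erase _ _ (Finset.mem_univ (1 : G))] at hsumq
    have hc1 : (Nat.card (Subgroup.centralizer ({(1 : G)} : Set G)) : ℚ) = Nat.card G := by
      have : Subgroup.centralizer ({(1 : G)} : Set G) = ⊤ := by
        rw [eq_top_iff]
        intro x _
        rw [Subgroup.mem_centralizer_singleton_iff, mul_one, one_mul]
      rw [this, Subgroup.card_top]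
    have hlt : ∑ x ∈ Finset.univ.erase (1 : G), (Nat.card (Subgroup.centralizer ({x} : Set G)) : ℚ) <
        ∑ x ∈ Finset.univ.erase (1 : G), (Nat.card G : ℚ) * t ^ 2 / ((Nat.card G : ℚ) - 1) ^ 2 := by
      refine Finset.sum_lt_sum_of_nonempty ?_ fun x hx => ?_
      · rw [← Finset.card_pos, Finset.card_erase_of_mem (Finset.mem_univ _), Finset.card_univ, ← Nat.card_eq_fintype_card]
        omega
      · have h1 := hcon x (Finset.mem_erase.mp hx).1
        have h2 := (Subgroup.centralizer ({x} : Set G)).card_mul_index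
        have h3 : (Nat.card (Subgroup.centralizer ({x} : Set G)) : ℚ) * (Subgroup.centralizer ({x} : Set G)).index = Nat.card G := by
          exact_mod_cast h2
        have h4 : (0 : ℚ) < Nat.card (Subgroup.centralizer ({x} : Set G)) := by exact_mod_cast Nat.card_pos
        rw [lt_div_iff₀ (by positivity)]
        rw [div_pow, div_lt_iff₀ (by positivity)] at h1
        calc (Nat.card (Subgroup.centralizer ({x} : Set G)) : ℚ) * ((Nat.card G : ℚ) - 1) ^ 2 <
              (Nat.card (Subgroup.centralizer ({x} : Set G)) : ℚ) * ((Subgroup.centralizer ({x} : Set G)).index * t ^ 2) :=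
              mul_lt_mul_of_pos_left h1 h4
          _ = _ := by rw [← mul_assoc, h3]
    rw [Finset.sum_const, Finset.card_erase_of_mem (Finset.mem_univ _), Finset.card_univ, ← Nat.card_eq_fintype_card, nsmul_eq_mul,
      Nat.cast_sub hGpos, Nat.cast_one] at hlt
    have h6 : ((Nat.card G : ℚ) - 1) * ((Nat.card G : ℚ) * t ^ 2 / ((Nat.card G : ℚ) - 1) ^ 2) = (Nat.card G : ℚ) * (t ^ 2 / ((Nat.card G : ℚ) - 1)) := by
      field_simp
    rw [h6] at hlt
    have h7 : (t : ℚ) ^ 2 / ((Nat.card G : ℚ) - 1) ≤ (RR G).card := by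
      rw [div_le_iff₀ hgq]
      exact hcs
    have hGq : (0 : ℚ) < Nat.card G := by exact_mod_cast hGpos
    rw [hc1] at hsumq
    have h8 : (Nat.card G : ℚ) * (t ^ 2 / ((Nat.card G : ℚ) - 1)) ≤ (Nat.card G : ℚ) * (RR G).card := mul_le_mul_of_nonneg_left h7 hGq.le
    have h9 : (((RR G).card : ℚ) + 1) * Nat.card G ≤ Nat.card (ConjClasses G) * Nat.card G := mul_le_mul_of_nonneg_right hk hGq.le
    linarith
  · by_contra hcon
    push Not at hcon
    have h1 : ∀ χ ∈ RR G, ((Nat.card G : ℚ) - 1) / t < charDegree (χ : G → ℂ) := fun χ hχ =>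
      hcon χ (mem_RR.mp hχ).1 (mem_RR.mp hχ).2
    have h2 : ∑ χ ∈ RR G, ((Nat.card G : ℚ) - 1) / t * charDegree (χ : G → ℂ) < ∑ χ ∈ RR G, (charDegree (χ : G → ℂ) : ℚ) ^ 2 := by
      refine Finset.sum_lt_sum_of_nonempty (Finset.card_pos.mp hRpos) fun χ hχ => ?_
      have h3 := h1 χ hχ
      have h4 : (0 : ℚ) < ((Nat.card G : ℚ) - 1) / t := by positivity
      rw [sq]
      exact mul_lt_mul_of_pos_right h3 (h4.trans h3)
    rw [← Finset.mul_sum] at h2
    have h3 : ((Nat.card G : ℚ) - 1) / t * t ≤ ((Nat.card G : ℚ) - 1) / t * ∑ χ ∈ RR G, (charDegree (χ : G → ℂ) : ℚ) :=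
      mul_le_mul_of_nonneg_left hleq (by positivity)
    rw [div_mul_cancel₀ _ htq.ne'] at h3
    linarith

end Cfsg.Agent.H3.InvCount
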