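import Mathlib
import Cfsg.Prelude.Def_Characters
import Cfsg.Agent.H3_CharCalc
import Cfsg.Agent.H3_CharInt
import Cfsg.Agent.H3_CharQuot
import Cfsg.Agent.H3_Extraspecial
import Cfsg.Agent.H3_Feit8

/-!
# Characters of small degree and Sylow subgroups
-/

set_option autoImplicit false

open scoped ComplexConjugate

namespace Cfsg.Agent.H3.SmallDeg

open Cfsg Cfsg.Agent.H3.CharBasic Cfsg.Agent.H3.CharIrr Cfsg.Agent.H3.CharInt Cfsg.Agent.H3.CharCalc
  Cfsg.Agent.H3.CharComplete Cfsg.Agent.H3.CharInd Cfsg.Agent.H3.CharMult Cfsg.Agent.H3.CharQuot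

/-- characters of degree less than `p` of a `p`-group have the commutator subgroup in the kernel -/
theorem pgroup_small {P : Type*} [Group P] [Fintype P] {p : ℕ} (hp : p.Prime) (hP : IsPGroup p P) {χ : P → ℂ}
    (hχ : IsCharacter P χ) {n : ℕ} (hn : χ 1 = n) (hlt : n < p) {z : P} (hz : z ∈ commutator P) : χ z = χ 1 := by
  classical
  have : Fact p.Prime := ⟨hp⟩
  have : Fintype (IrrCharacter P) := Fintype.ofFinite _
  obtain ⟨k, hk⟩ := IsPGroup.iff_card.mp hP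
  obtain ⟨m, -, hm⟩ := IsChar.eq_sum_nat hχ
  have hval : ∀ x, χ x = ∑ ψ : IrrCharacter P, (m ψ : ℂ) * (ψ : P → ℂ) x := by
    intro x
    have := congrFun hm x
    rw [Finset.sum_apply] at this
    exact this
  have hdeg : ∀ ψ : IrrCharacter P, ∃ d : ℕ, (ψ : P → ℂ) 1 = d ∧ 0 < d ∧ d ∣ p ^ k := by
    intro ψ
    obtain ⟨d, hd, hd1, hd2⟩ := IsIrr.dvd_card ψ.2
    exact ⟨d, hd1, hd, by rw [← hk]; exact hd2⟩
  choose d hd1 hd0 hdk using hdeg
  have hsum : n = ∑ ψ : IrrCharacter P, m ψ * d ψ := by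
    have h1 := hval 1
    rw [hn] at h1
    have h2 : (n : ℂ) = ((∑ ψ : IrrCharacter P, m ψ * d ψ : ℕ) : ℂ) := by
      rw [h1]; push_cast
      exact Finset.sum_congr rfl (fun ψ _ => by rw [hd1])
    exact_mod_cast h2
  rw [hval, hval 1]
  apply Finset.sum_congr rfl
  intro ψ _
  by_cases hm0 : m ψ = 0
  · rw [hm0]; simp
  have h1 : d ψ < p := by
    have h2 : m ψ * d ψ ≤ ∑ ψ : IrrCharacter P, m ψ * d ψ :=
      Finset.single_le_sum (f := fun ψ : IrrCharacter P => m ψ * d ψ) (fun _ _ => Nat.zero_le _) (Finset.mem_univ ψ)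
    have h3 : 1 * d ψ ≤ m ψ * d ψ := Nat.mul_le_mul_right _ (Nat.one_le_iff_ne_zero.mpr hm0)
    omega
  have h2 : d ψ = 1 := by
    obtain ⟨j, -, hj⟩ := (Nat.dvd_prime_pow hp).mp (hdk ψ)
    rcases Nat.eq_zero_or_pos j with h3 | h3
    · rw [hj, h3, pow_zero]
    · exfalso
      have : p ∣ d ψ := by rw [hj]; exact dvd_pow_self p h3.ne'
      have := Nat.le_of_dvd (hd0 ψ) this
      omega
  have h3 : (ψ : P → ℂ) 1 = 1 := by rw [hd1, h2]; simp
  rw [Cfsg.Agent.H3.Extraspecial.commutator_of_one (IsIrr.isCharacter ψ.2) h3 z hz]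

/-- the restriction to a Sylow subgroup -/
theorem sylow_small {G : Type*} [Group G] [Finite G] {p : ℕ} [hp : Fact p.Prime] (P : Sylow p G) {χ : G → ℂ}
    (hχ : IsCharacter G χ) {n : ℕ} (hn : χ 1 = n) (hlt : n < p) {a b : G} (ha : a ∈ P) (hb : b ∈ P) :
    χ (a * b * a⁻¹ * b⁻¹) = χ 1 := by
  classical
  have : Fintype G := Fintype.ofFinite _
  have : Fintype P := Fintype.ofFinite _
  have h1 := pgroup_small hp.out P.2 (IsChar.res hχ (P : Subgroup G)) (n := n) hn hlt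
    (z := ⟨a, ha⟩ * ⟨b, hb⟩ * ⟨a, ha⟩⁻¹ * ⟨b, hb⟩⁻¹)
    (Subgroup.commutator_mem_commutator (Subgroup.mem_top _) (Subgroup.mem_top _))
  exact h1

end Cfsg.Agent.H3.SmallDeg
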