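import Mathlib
import Cfsg.Prelude.Def_Characters
import Cfsg.Agent.H3_CentTI
import Cfsg.Agent.H3_SmallDeg

/-!
# Normal Sylow subgroups of groups with a representation of small degree
-/

set_option autoImplicit false

open scoped ComplexConjugate

namespace Cfsg.Agent.H3.SmallRep

open Cfsg Cfsg.Agent.H3.CharBasic Cfsg.Agent.H3.CharIrr Cfsg.Agent.H3.CharInt Cfsg.Agent.H3.CharCalc
  Cfsg.Agent.H3.CharComplete Cfsg.Agent.H3.CharInd Cfsg.Agent.H3.CharMult Cfsg.Agent.H3.CharQuot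
  Cfsg.Agent.H3.Clifford Cfsg.Agent.H3.CentTI

section Fin

variable {G : Type*} [Group G] [Fintype G] {p : ℕ} (hp : p.Prime) {n : ℕ} (hn : n + 1 < p)
  {χ : G → ℂ} (hχ : IsCharacter G χ) (hχn : χ 1 = n) (hf : ∀ g, χ g = χ 1 → g = 1)
  (P : Subgroup G) (hP : IsPGroup p P)
  (K : Subgroup G) (hK : K.Normal) (hpK : ¬ p ∣ Nat.card K)

include hp hP hpK in
omit [Fintype G] in
/-- coprime action -/
theorem kk {k x : G} (hk : k ∈ K) (hx : x ∈ P) (hxk : x * k * x⁻¹ ∈ K)
    (hc : x * (x * k * x⁻¹ * k⁻¹) = (x * k * x⁻¹ * k⁻¹) * x) : x * k = k * x := by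
  obtain ⟨c, hcdef⟩ : ∃ c, c = x * k * x⁻¹ * k⁻¹ := ⟨_, rfl⟩
  rw [← hcdef] at hc
  have hcK : c ∈ K := by rw [hcdef]; exact K.mul_mem hxk (K.inv_mem hk)
  have h1 : x * k * x⁻¹ = c * k := by rw [hcdef]; group
  have h2 : ∀ i : ℕ, x ^ i * k * (x ^ i)⁻¹ = c ^ i * k := by
    intro i
    induction i with
    | zero => simp
    | succ i ih =>
      have hc' : x * c ^ i = c ^ i * x := (show Commute x c from hc).pow_right i
      calc x ^ (i + 1) * k * (x ^ (i + 1))⁻¹ = x * (x ^ i * k * (x ^ i)⁻¹) * x⁻¹ := by rw [pow_succ']; group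
        _ = x * (c ^ i * k) * x⁻¹ := by rw [ih]
        _ = (x * c ^ i) * k * x⁻¹ := by group
        _ = c ^ i * (x * k * x⁻¹) := by rw [hc']; group
        _ = c ^ (i + 1) * k := by rw [h1, pow_succ]; group
  obtain ⟨a, ha⟩ := hP ⟨x, hx⟩
  have ha' : x ^ p ^ a = 1 := congrArg Subtype.val ha
  have h3 := h2 (p ^ a)
  rw [ha', one_mul, inv_one, mul_one] at h3
  have h4 : c ^ p ^ a = 1 := (mul_eq_right.mp h3.symm)
  have h5 : orderOf c ∣ p ^ a := orderOf_dvd_of_pow_eq_one h4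
  have h6 : orderOf c ∣ Nat.card K := by
    have := orderOf_dvd_natCard (⟨c, hcK⟩ : K)
    rwa [Subgroup.orderOf_mk] at this
  have h7 : orderOf c = 1 := by
    have h8 : (p ^ a).Coprime (Nat.card K) := Nat.Coprime.pow_left a ((Nat.Prime.coprime_iff_not_dvd hp).mpr hpK)
    exact Nat.eq_one_of_dvd_coprimes h8 h5 h6
  rw [orderOf_eq_one_iff] at h7
  rw [h7, one_mul] at h1
  exact mul_inv_eq_iff_eq_mul.mp h1

include hp hn hχ hχn hf hP hK hpK in
theorem fin_contra (hKi : ∃ j, K.index = p ^ j) (hKcomm : ⁅K, K⁆ ≠ K)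
    (hprop : ∀ L : Subgroup G, L < K → (∀ x ∈ P, ∀ l ∈ L, x * l * x⁻¹ ∈ L) → ∀ x ∈ P, ∀ l ∈ L, x * l = l * x)
    (hnc : ∃ x ∈ P, ∃ k ∈ K, x * k ≠ k * x) : False := by
  classical
  have : Fact p.Prime := ⟨hp⟩
  have : Fintype K := Fintype.ofFinite _
  have : Fintype (IrrCharacter G) := Fintype.ofFinite _
  have hKinv : ∀ x k : G, k ∈ K → x * k * x⁻¹ ∈ K := fun x k hk => hK.conj_mem k hk x
  obtain ⟨C, hC⟩ : ∃ C : Subgroup G, ∀ c, c ∈ C ↔ c ∈ K ∧ ∀ x ∈ P, x * c = c * x :=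
    ⟨K ⊓ Subgroup.centralizer (P : Set G), fun c => by
      rw [Subgroup.mem_inf, Subgroup.mem_centralizer_iff]; rfl⟩
  -- (b)
  have hKKn : (⁅K, K⁆ : Subgroup G).Normal := Subgroup.commutator_normal K K
  have hKKle : ⁅K, K⁆ ≤ K := Cfsg.Agent.H3.Feit.comm_le K
  have hKKC : ⁅K, K⁆ ≤ C := by
    intro c hc
    rw [hC]
    exact ⟨hKKle hc, fun x hx => hprop ⁅K, K⁆ (lt_of_le_of_ne hKKle hKcomm)
      (fun x _ l hl => hKKn.conj_mem l hl x) x hx c hc⟩
  have hkk : ∀ x ∈ P, ∀ k ∈ K, x * k * x⁻¹ * k⁻¹ ∈ C → x * k = k * x := fun x hx k hk h =>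
    kk hp P hP K hpK hk hx (hKinv x k hk) (((hC _).mp h).2 x hx)
  have hcomm : ∀ k ∈ K, ∀ l ∈ K, k * l * k⁻¹ * l⁻¹ ∈ C := fun k hk l hl =>
    hKKC (Subgroup.commutator_mem_commutator hk hl)
  -- (d)
  have hCc : ∀ c ∈ C, ∀ k ∈ K, c * k = k * c := by
    obtain ⟨E, hE⟩ : ∃ E : Subgroup G, ∀ k, k ∈ E ↔ k ∈ K ∧ ∀ c ∈ C, c * k = k * c :=
      ⟨K ⊓ Subgroup.centralizer (C : Set G), fun c => by
        rw [Subgroup.mem_inf, Subgroup.mem_centralizer_iff]; rfl⟩
    have hin : ∀ x ∈ P, ∀ k ∈ K, x * k * x⁻¹ * k⁻¹ ∈ E := by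
      intro x hx k hk
      rw [hE]
      refine ⟨K.mul_mem (hKinv x k hk) (K.inv_mem hk), fun c hc => ?_⟩
      have hcK := ((hC c).mp hc).1
      have h1 : k⁻¹ * c * k ∈ C := by
        have h2 := C.mul_mem hc (hcomm c⁻¹ (K.inv_mem hcK) k⁻¹ (K.inv_mem hk))
        have h3 : c * (c⁻¹ * k⁻¹ * c⁻¹⁻¹ * k⁻¹⁻¹) = k⁻¹ * c * k := by group
        rwa [h3] at h2
      have h2 := ((hC _).mp h1).2 x hx
      have h3 := ((hC _).mp hc).2 x hx
      have h4 : (x * k * x⁻¹)⁻¹ * c * (x * k * x⁻¹) = k⁻¹ * c * k := by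
        calc (x * k * x⁻¹)⁻¹ * c * (x * k * x⁻¹) = x * k⁻¹ * (x⁻¹ * (c * x)) * k * x⁻¹ := by group
          _ = x * k⁻¹ * (x⁻¹ * (x * c)) * k * x⁻¹ := by rw [h3]
          _ = (x * (k⁻¹ * c * k)) * x⁻¹ := by group
          _ = ((k⁻¹ * c * k) * x) * x⁻¹ := by rw [h2]
          _ = k⁻¹ * c * k := by group
      calc c * (x * k * x⁻¹ * k⁻¹) = (x * k * x⁻¹) * ((x * k * x⁻¹)⁻¹ * c * (x * k * x⁻¹)) * k⁻¹ := by group
        _ = (x * k * x⁻¹) * (k⁻¹ * c * k) * k⁻¹ := by rw [h4]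
        _ = x * k * x⁻¹ * k⁻¹ * c := by group
    have hEK : E ≤ K := fun k hk => ((hE k).mp hk).1
    by_contra hcon
    have hEne : E ≠ K := by
      intro h1
      apply hcon
      intro c hc k hk
      rw [← h1] at hk
      exact ((hE k).mp hk).2 c hc
    have h2 := hprop E (lt_of_le_of_ne hEK hEne) (fun x hx l hl => by
      rw [hE] at hl ⊢
      refine ⟨hKinv x l hl.1, fun c hc => ?_⟩
      have h3 := ((hC _).mp hc).2 x hx
      have h4 := hl.2 c hc
      calc c * (x * l * x⁻¹) = (c * x) * l * x⁻¹ := by group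
        _ = x * (c * l) * x⁻¹ := by rw [← h3]; group
        _ = x * l * (x⁻¹ * (x * c)) * x⁻¹ := by rw [h4]; group
        _ = x * l * x⁻¹ * c := by rw [h3]; group)
    obtain ⟨x, hx, k, hk, hne⟩ := hnc
    apply hne
    apply hkk x hx k hk
    rw [hC]
    have h3 := hin x hx k hk
    exact ⟨hEK h3, fun y hy => h2 y hy _ h3⟩
  -- (e)
  obtain ⟨m, hm, hχm⟩ := IsChar.eq_sum_nat hχ
  have hdeg : ∀ ξ : IrrCharacter G, ∃ d : ℕ, 0 < d ∧ (ξ : G → ℂ) 1 = d := fun ξ => IsIrr.one_eq_nat ξ.2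
  choose dd hdd0 hdd using hdeg
  have hval : ∀ g, χ g = ∑ ξ : IrrCharacter G, (m ξ : ℂ) * (ξ : G → ℂ) g := by
    intro g
    have := congrFun hχm g
    rw [Finset.sum_apply] at this
    exact this
  obtain ⟨ξ, hξm, k₀, hk₀, hξk⟩ : ∃ ξ : IrrCharacter G, m ξ ≠ 0 ∧ ∃ k ∈ K, (ξ : G → ℂ) k ≠ (ξ : G → ℂ) 1 := by
    by_contra hcon
    push Not at hcon
    obtain ⟨x, hx, k, hk, hne⟩ := hnc
    apply hne
    have : k = 1 := by
      apply hf
      rw [hval, hval 1]
      apply Finset.sum_congr rfl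
      intro ξ _
      by_cases h1 : m ξ = 0
      · rw [h1]; simp
      · rw [hcon ξ h1 k hk]
    rw [this]; group
  have hξn : dd ξ ≤ n := by
    have h1 : n = ∑ ξ : IrrCharacter G, m ξ * dd ξ := by
      have h2 := hval 1
      rw [hχn] at h2
      have h3 : (n : ℂ) = ((∑ ξ : IrrCharacter G, m ξ * dd ξ : ℕ) : ℂ) := by
        rw [h2]; push_cast
        exact Finset.sum_congr rfl (fun ψ _ => by rw [hdd])
      exact_mod_cast h3
    have h2 : m ξ * dd ξ ≤ ∑ ψ : IrrCharacter G, m ψ * dd ψ :=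
      Finset.single_le_sum (f := fun ψ : IrrCharacter G => m ψ * dd ψ) (fun _ _ => Nat.zero_le _) (Finset.mem_univ ξ)
    have h3 : 1 * dd ξ ≤ m ξ * dd ξ := Nat.mul_le_mul_right _ (Nat.one_le_iff_ne_zero.mpr hξm)
    omega
  -- (f)
  obtain ⟨θ, hθ, hθne⟩ := exists_constituent_res (H := K) ξ.2
  obtain ⟨e, he⟩ := ci_char_nat (IsChar.res (IsIrr.isCharacter ξ.2) K) (IsIrr.isCharacter hθ)
  obtain ⟨d, hd0, hd⟩ := IsIrr.one_eq_nat hθ
  have hcd := clifford_degree hK ξ.2 hθ hθne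
  rw [hdd, he, hd] at hcd
  have hcd' : dd ξ = e * (inertia hK θ).index * d := by exact_mod_cast hcd
  have hle : d ≤ n := by
    have h1 : 0 < e * (inertia hK θ).index := by
      rcases Nat.eq_zero_or_pos (e * (inertia hK θ).index) with h2 | h2
      · rw [h2, zero_mul] at hcd'
        have := hdd0 ξ
        omega
      · exact h2
    have h2 : 1 * d ≤ e * (inertia hK θ).index * d := Nat.mul_le_mul_right _ h1
    omega
  have hI : (inertia hK θ).index = 1 := by
    obtain ⟨j, hj⟩ := hKi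
    have h1 : (inertia hK θ).index ∣ p ^ j := by
      rw [← hj]; exact Subgroup.index_dvd_of_le (le_inertia hK (IsIrr.isClass hθ))
    obtain ⟨i, -, hi⟩ := (Nat.dvd_prime_pow hp).mp h1
    rcases Nat.eq_zero_or_pos i with h2 | h2
    · rw [hi, h2, pow_zero]
    · exfalso
      have h3 : p ∣ (inertia hK θ).index := by rw [hi]; exact dvd_pow_self p h2.ne'
      have h4 : p ∣ dd ξ := by rw [hcd']; exact (h3.mul_left e).mul_right d
      have := Nat.le_of_dvd (hdd0 ξ) h4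
      omega
  have hIt : inertia hK θ = ⊤ := Subgroup.index_eq_one.mp hI
  have hinv : ∀ g : G, cj hK g θ = θ := fun g => by
    have : g ∈ inertia hK θ := by rw [hIt]; trivial
    exact this
  have hθinv : ∀ (g : G) (k : K), θ ⟨g * k * g⁻¹, hK.conj_mem k k.2 g⟩ = θ k := fun g k => congrFun (hinv g) k
  have hres := clifford_invariant hK ξ.2 hθ hθne hinv
  have hθk : θ ⟨k₀, hk₀⟩ ≠ θ 1 := by
    intro h1
    apply hξk
    have h2 := congrFun hres ⟨k₀, hk₀⟩
    have h3 := congrFun hres 1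
    simp only [Pi.smul_apply, smul_eq_mul] at h2 h3
    rw [h1, ← h3] at h2
    exact h2
  -- (g)
  have hθc := IsIrr.isCharacter hθ
  have hkern := chKer_normal hθc
  have hzero : ∀ k : K, (k : G) ∉ C → θ k = 0 := by
    intro k hkC
    obtain ⟨l, hl⟩ : ∃ l : K, θ (l * k * l⁻¹ * k⁻¹) ≠ θ 1 := by
      by_contra hcon
      push Not at hcon
      obtain ⟨Y, hY⟩ : ∃ Y : Subgroup K, ∀ y, y ∈ Y ↔ ∀ l : K, l * y * l⁻¹ * y⁻¹ ∈ chKer θ hθc := by
        refine ⟨{ carrier := {y | ∀ l : K, l * y * l⁻¹ * y⁻¹ ∈ chKer θ hθc}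
                  mul_mem' := ?_
                  one_mem' := ?_
                  inv_mem' := ?_ }, fun y => Iff.rfl⟩
        · intro a b ha hb l
          have h1 := hkern.conj_mem _ (hb l) a
          have h2 := (chKer θ hθc).mul_mem (ha l) h1
          have h3 : l * a * l⁻¹ * a⁻¹ * (a * (l * b * l⁻¹ * b⁻¹) * a⁻¹) = l * (a * b) * l⁻¹ * (a * b)⁻¹ := by group
          rwa [h3] at h2
        · intro l
          have : l * 1 * l⁻¹ * 1⁻¹ = 1 := by group
          rw [this]; exact (chKer θ hθc).one_mem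
        · intro a ha l
          have h1 := hkern.conj_mem _ ((chKer θ hθc).inv_mem (ha l)) a⁻¹
          have h3 : a⁻¹ * (l * a * l⁻¹ * a⁻¹)⁻¹ * a⁻¹⁻¹ = l * a⁻¹ * l⁻¹ * a⁻¹⁻¹ := by group
          rwa [h3] at h1
      have hkY : k ∈ Y := (hY k).mpr (fun l => hcon l)
      -- `Y` mapped to `G`
      obtain ⟨Y', hY'⟩ : ∃ Y' : Subgroup G, Y' = Y.map K.subtype := ⟨_, rfl⟩
      have hY'K : Y' ≤ K := by rw [hY']; rintro _ ⟨y, -, rfl⟩; exact y.2
      have hmemY' : ∀ y : K, (y : G) ∈ Y' ↔ y ∈ Y := by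
        intro y
        rw [hY']
        constructor
        · rintro ⟨z, hz, hzy⟩
          have : z = y := Subtype.ext hzy
          rw [← this]; exact hz
        · intro h; exact ⟨y, h, rfl⟩
      have hY'inv : ∀ x ∈ P, ∀ l ∈ Y', x * l * x⁻¹ ∈ Y' := by
        intro x hx y hy
        have hyK := hY'K hy
        have hy' := (hmemY' ⟨y, hyK⟩).mp hy
        rw [hY] at hy'
        apply (hmemY' ⟨x * y * x⁻¹, hKinv x y hyK⟩).mpr
        rw [hY]
        intro l
        have h1 := hy' ⟨x⁻¹ * l * x⁻¹⁻¹, hKinv x⁻¹ l l.2⟩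
        rw [mem_chKer] at h1 ⊢
        have h2 := hθinv x (⟨x⁻¹ * l * x⁻¹⁻¹, hKinv x⁻¹ l l.2⟩ * ⟨y, hyK⟩ * ⟨x⁻¹ * l * x⁻¹⁻¹, hKinv x⁻¹ l l.2⟩⁻¹ * ⟨y, hyK⟩⁻¹)
        rw [h1] at h2
        rw [← h2]
        congr 1
        apply Subtype.ext
        simp only [Subgroup.coe_mul, Subgroup.coe_inv]
        group
      by_cases hYK : Y' = K
      · -- `θ` is linear
        have hlin : θ 1 = 1 := by
          apply Cfsg.Agent.H3.Extraspecial.one_of_commutator hθ
          intro z hz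
          have hle : commutator K ≤ chKer θ hθc := by
            rw [commutator_def, Subgroup.commutator_le]
            intro a _ b _
            have hb : b ∈ Y := (hmemY' b).mp (by rw [hYK]; exact b.2)
            exact (hY b).mp hb a
          exact hle hz
        obtain ⟨f, hf'⟩ := IsChar.hom_units_of_one hθc hlin
        obtain ⟨L, hL⟩ : ∃ L : Subgroup G, L = (chKer θ hθc).map K.subtype := ⟨_, rfl⟩
        have hLK : L ≤ K := by rw [hL]; rintro _ ⟨y, -, rfl⟩; exact y.2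
        have hmemL : ∀ y : K, (y : G) ∈ L ↔ θ y = θ 1 := by
          intro y
          rw [hL]
          constructor
          · rintro ⟨z, hz, hzy⟩
            have : z = y := Subtype.ext hzy
            rw [← this]; exact hz
          · intro h; exact ⟨y, h, rfl⟩
        have hLne : L ≠ K := by
          intro h1
          apply hθk
          rw [← hmemL, h1]
          exact hk₀
        have h2 := hprop L (lt_of_le_of_ne hLK hLne) (fun x hx l hl => by
          have hlK := hLK hl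
          have h3 := (hmemL ⟨l, hlK⟩).mp hl
          apply (hmemL ⟨x * l * x⁻¹, hKinv x l hlK⟩).mpr
          rw [← h3]
          exact hθinv x ⟨l, hlK⟩)
        obtain ⟨x, hx, k', hk', hne⟩ := hnc
        apply hne
        apply hkk x hx k' hk'
        rw [hC]
        have h3 : x * k' * x⁻¹ * k'⁻¹ ∈ L := by
          apply (hmemL ⟨x * k' * x⁻¹ * k'⁻¹, K.mul_mem (hKinv x k' hk') (K.inv_mem hk')⟩).mpr
          have h4 : (⟨x * k' * x⁻¹ * k'⁻¹, K.mul_mem (hKinv x k' hk') (K.inv_mem hk')⟩ : K) =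
              ⟨x * k' * x⁻¹, hKinv x k' hk'⟩ * (⟨k', hk'⟩ : K)⁻¹ := rfl
          have h5 := hθinv x ⟨k', hk'⟩
          have h6 : f ⟨x * k' * x⁻¹, hKinv x k' hk'⟩ = f ⟨k', hk'⟩ := by
            apply Units.ext
            rw [← hf', ← hf']
            exact h5
          rw [h4, hf', map_mul, map_inv, h6, mul_inv_cancel, hf', map_one]
        exact ⟨hLK h3, fun y hy => h2 y hy _ h3⟩
      · have h2 := hprop Y' (lt_of_le_of_ne hY'K hYK) hY'inv
        apply hkC
        rw [hC]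
        exact ⟨k.2, fun x hx => h2 x hx k ((hmemY' k).mpr hkY)⟩
    -- the commutator is central
    obtain ⟨z, hz⟩ : ∃ z : K, z = l * k * l⁻¹ * k⁻¹ := ⟨_, rfl⟩
    have hzC : (z : G) ∈ C := by
      rw [hz]
      exact hcomm l l.2 k k.2
    have hzcen : z ∈ Subgroup.center K := by
      rw [Subgroup.mem_center_iff]
      intro g
      exact Subtype.ext (hCc z hzC g g.2).symm
    obtain ⟨c, -, hc⟩ := IsIrr.central hθ hzcen
    have h1 : θ (k * z) = θ k := by
      have h2 : k * z = z * k := (Subgroup.mem_center_iff.mp hzcen k)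
      rw [h2, hz]
      have h3 : l * k * l⁻¹ * k⁻¹ * k = l * k * l⁻¹ := by group
      rw [h3]
      exact IsIrr.isClass hθ k l
    have h2 : θ z = c * θ 1 := by
      have := hc 1
      rwa [one_mul] at this
    rw [hc k] at h1
    have h3 : (c - 1) * θ k = 0 := by linear_combination h1
    rcases mul_eq_zero.mp h3 with h4 | h4
    · exfalso
      apply hl
      rw [← hz, h2, sub_eq_zero.mp h4, one_mul]
    · exact h4
  -- (i)
  have hCcard : Nat.card C * d ^ 2 = Nat.card K := by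
    have h1 := nsq_irr hθ
    rw [← Finset.sum_filter_add_sum_filter_not Finset.univ (fun k : K => (k : G) ∈ C)] at h1
    rw [Finset.sum_eq_zero (s := Finset.univ.filter (fun k : K => ¬ (k : G) ∈ C)) (fun k hk => by
      rw [hzero k (Finset.mem_filter.mp hk).2]; simp), add_zero] at h1
    have h2 : ∀ k ∈ Finset.univ.filter (fun k : K => (k : G) ∈ C), ‖θ k‖ ^ 2 = (d : ℝ) ^ 2 := by
      intro k hk
      have hkC := (Finset.mem_filter.mp hk).2
      have hkcen : k ∈ Subgroup.center K := by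
        rw [Subgroup.mem_center_iff]
        intro g
        exact Subtype.ext (hCc k hkC g g.2).symm
      have := central_norm hθ hkcen 1
      rw [one_mul, hd, Complex.norm_natCast] at this
      rw [this]
    rw [Finset.sum_congr rfl h2, Finset.sum_const, nsmul_eq_mul] at h1
    have h3 : (Finset.univ.filter (fun k : K => (k : G) ∈ C)).card = Nat.card C := by
      have hCK : C ≤ K := fun c hc => ((hC c).mp hc).1
      rw [← Nat.card_congr (Subgroup.subgroupOfEquivOfLe hCK).toEquiv, Nat.card_eq_fintype_card, Fintype.card_subtype]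
      rfl
    rw [h3] at h1
    exact_mod_cast h1
  -- (j)
  have hmod : Nat.card K ≡ Nat.card C [MOD p] := by
    let _ : MulAction P K :=
      { smul := fun x k => ⟨(x : G) * k * (x : G)⁻¹, hKinv x k k.2⟩
        one_smul := fun k => by
          apply Subtype.ext
          change ((1 : P) : G) * k * ((1 : P) : G)⁻¹ = k
          simp
        mul_smul := fun a b k => by
          apply Subtype.ext
          change ((a * b : P) : G) * k * ((a * b : P) : G)⁻¹ = (a : G) * ((b : G) * k * (b : G)⁻¹) * (a : G)⁻¹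
          rw [Subgroup.coe_mul]; group }
    have h1 := hP.card_modEq_card_fixedPoints K
    have h2 : Nat.card (MulAction.fixedPoints P K) = Nat.card C := by
      apply Nat.card_congr
      refine ⟨fun k => ⟨k.1, (hC _).mpr ⟨k.1.2, fun x hx => ?_⟩⟩, fun c => ⟨⟨c, ((hC _).mp c.2).1⟩, fun x => ?_⟩,
        fun _ => rfl, fun _ => rfl⟩
      · have h3 : (x : G) * k.1 * (x : G)⁻¹ = k.1 := congrArg Subtype.val (k.2 ⟨x, hx⟩)
        exact mul_inv_eq_iff_eq_mul.mp h3
      · apply Subtype.ext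
        change (x : G) * c * (x : G)⁻¹ = c
        rw [((hC _).mp c.2).2 x x.2, mul_inv_cancel_right]
    rwa [h2] at h1
  -- (k)
  rw [← hCcard] at hmod
  have hpC : ¬ p ∣ Nat.card C := by
    intro h1
    apply hpK
    rw [← hCcard]
    exact h1.mul_right _
  have h1 : (p : ℤ) ∣ (d : ℤ) ^ 2 - 1 := by
    have h2 := (Nat.modEq_iff_dvd.mp hmod)
    push_cast at h2
    have h3 : (p : ℤ) ∣ (Nat.card C : ℤ) * ((d : ℤ) ^ 2 - 1) := by
      have h4 : (Nat.card C : ℤ) * ((d : ℤ) ^ 2 - 1) = -((Nat.card C : ℤ) - Nat.card C * (d : ℤ) ^ 2) := by ring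
      rw [h4]
      exact (dvd_neg).mpr h2
    rcases (Nat.prime_iff_prime_int.mp hp).dvd_or_dvd h3 with h4 | h4
    · exact absurd (by exact_mod_cast h4) hpC
    · exact h4
  have h2 : (d : ℤ) ^ 2 - 1 = ((d : ℤ) - 1) * (d + 1) := by ring
  rw [h2] at h1
  have hd1 : d ≠ 1 := by
    rintro rfl
    rw [one_pow, mul_one] at hCcard
    have hCK : C ≤ K := fun c hc => ((hC c).mp hc).1
    have h3 : C = K := Subgroup.eq_of_le_of_card_ge hCK hCcard.ge
    obtain ⟨x, hx, k, hk, hne⟩ := hnc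
    rw [← h3] at hk
    exact hne (((hC k).mp hk).2 x hx)
  rcases (Nat.prime_iff_prime_int.mp hp).dvd_or_dvd h1 with h3 | h3
  · have := Int.le_of_dvd (by omega) h3
    omega
  · have := Int.le_of_dvd (by omega) h3
    omega

end Fin

end Cfsg.Agent.H3.SmallRep
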