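import Mathlib
import Cfsg.Prelude.Def_Characters
import Cfsg.Agent.H3_CentTI
import Cfsg.Agent.H3_SmallDeg
import Cfsg.Agent.H3_SmallRep

/-!
# Normal Sylow subgroups of groups with a representation of small degree: the induction
-/

set_option autoImplicit false

open scoped ComplexConjugate

namespace Cfsg.Agent.H3.SmallRep

open Cfsg Cfsg.Agent.H3.CharBasic Cfsg.Agent.H3.CharIrr Cfsg.Agent.H3.CharInt Cfsg.Agent.H3.CharCalc
  Cfsg.Agent.H3.CharComplete Cfsg.Agent.H3.CharInd Cfsg.Agent.H3.CharMult Cfsg.Agent.H3.CharQuot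
  Cfsg.Agent.H3.Clifford Cfsg.Agent.H3.CentTI

/-- products of `p`-elements of `K` are `p`-elements -/
def NS {G : Type*} [Group G] (p : ℕ) (K : Subgroup G) : Prop :=
  ∀ x ∈ K, ∀ y ∈ K, (∃ a, x ^ p ^ a = 1) → (∃ b, y ^ p ^ b = 1) → ∃ c, (x * y) ^ p ^ c = 1

section NS

variable {G : Type*} [Group G] {p : ℕ} {K : Subgroup G}

theorem NS.exists_sub (h : NS p K) : ∃ S : Subgroup G, ∀ x, x ∈ S ↔ x ∈ K ∧ ∃ a, x ^ p ^ a = 1 := by
  refine ⟨{ carrier := {x | x ∈ K ∧ ∃ a, x ^ p ^ a = 1}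
            mul_mem' := ?_
            one_mem' := ?_
            inv_mem' := ?_ }, fun x => Iff.rfl⟩
  · rintro x y ⟨hx, hx'⟩ ⟨hy, hy'⟩
    exact ⟨K.mul_mem hx hy, h x hx y hy hx' hy'⟩
  · exact ⟨K.one_mem, 0, by simp⟩
  · rintro x ⟨hx, a, ha⟩
    exact ⟨K.inv_mem hx, a, by rw [inv_pow, ha, inv_one]⟩

theorem pel_of_mem (P : Sylow p G) {x : G} (hx : x ∈ P) : ∃ a, x ^ p ^ a = 1 := by
  obtain ⟨a, ha⟩ := P.2 ⟨x, hx⟩
  exact ⟨a, congrArg Subtype.val ha⟩

theorem pel_conj {x : G} (hx : ∃ a, x ^ p ^ a = 1) (g : G) : ∃ a, (g * x * g⁻¹) ^ p ^ a = 1 := by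
  obtain ⟨a, ha⟩ := hx
  exact ⟨a, by rw [conj_pow, ha]; group⟩

theorem isPGroup_of {S : Subgroup G} (hS : ∀ x ∈ S, ∃ a, x ^ p ^ a = 1) : IsPGroup p S := by
  rintro ⟨x, hx⟩
  obtain ⟨a, ha⟩ := hS x hx
  exact ⟨a, Subtype.ext ha⟩

theorem exists_sylow [Finite G] [Fact p.Prime] {S : Subgroup G} (hS : ∀ x ∈ S, ∃ a, x ^ p ^ a = 1) :
    ∃ Q : Sylow p G, S ≤ Q := (isPGroup_of hS).exists_le_sylow

theorem NS.mem_sylow (h : NS p K) (P : Sylow p G) (hPK : (P : Subgroup G) ≤ K) {x : G} (hx : x ∈ K)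
    (hxp : ∃ a, x ^ p ^ a = 1) : x ∈ P := by
  obtain ⟨S, hS⟩ := h.exists_sub
  have h1 : S = P := P.is_maximal' (isPGroup_of (fun x hx => ((hS x).mp hx).2))
    (fun y hy => (hS y).mpr ⟨hPK hy, pel_of_mem P hy⟩)
  have h2 : x ∈ S := (hS x).mpr ⟨hx, hxp⟩
  rw [h1] at h2
  exact h2

theorem NS_top_of_normal [Finite G] [Fact p.Prime] (P : Sylow p G) (hP : (P : Subgroup G).Normal) : NS p (⊤ : Subgroup G) := by
  have hmem : ∀ x : G, (∃ a, x ^ p ^ a = 1) → x ∈ P := by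
    rintro x ⟨a, ha⟩
    have h1 : IsPGroup p (Subgroup.zpowers x) := by
      rintro ⟨_, k, rfl⟩
      refine ⟨a, Subtype.ext ?_⟩
      change (x ^ k) ^ p ^ a = 1
      rw [← zpow_natCast, ← zpow_mul, mul_comm, zpow_mul, zpow_natCast, ha, one_zpow]
    have h2 := P.is_maximal' (h1.to_sup_of_normal_right P.2) le_sup_right
    have h3 : x ∈ Subgroup.zpowers x ⊔ (P : Subgroup G) := (le_sup_left : Subgroup.zpowers x ≤ _) (Subgroup.mem_zpowers x)
    rw [h2] at h3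
    exact h3
  intro x _ y _ hx hy
  exact pel_of_mem P (mul_mem (hmem x hx) (hmem y hy))

theorem normal_of_NS_top (h : NS p (⊤ : Subgroup G)) (P : Sylow p G) : (P : Subgroup G).Normal := by
  refine ⟨fun x hx g => ?_⟩
  exact h.mem_sylow P le_top (Subgroup.mem_top _) (pel_conj (pel_of_mem P hx) g)

end NS

section Gen

variable {G : Type*} [Group G] [Fintype G] {p : ℕ} [hp : Fact p.Prime] (P : Sylow p G)

/-- transfer into an abelian Sylow subgroup -/
theorem inf_center_commutator (hab : ∀ a ∈ P, ∀ b ∈ P, a * b = b * a) {z : G} (hz : z ∈ P) (hzc : z ∈ Subgroup.center G)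
    (hzG : z ∈ commutator G) : z = 1 := by
  classical
  letI : CommGroup P := { (inferInstance : Group P) with
    mul_comm := fun a b => Subtype.ext (hab a a.2 b b.2) }
  have hfi : (P : Subgroup G).FiniteIndex := inferInstance
  have key : ∀ (k : ℕ) (g₀ : G), g₀⁻¹ * z ^ k * g₀ ∈ (P : Subgroup G) → g₀⁻¹ * z ^ k * g₀ = z ^ k := by
    intro k g₀ _
    have h1 : z ^ k ∈ Subgroup.center G := Subgroup.pow_mem _ hzc k
    rw [mul_assoc, Subgroup.mem_center_iff.mp h1 g₀ |>.symm]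
    group
  have h1 := MonoidHom.transfer_eq_pow (MonoidHom.id (P : Subgroup G)) z key
  have h2 : MonoidHom.transfer (MonoidHom.id (P : Subgroup G)) z = 1 :=
    (MonoidHom.mem_ker).mp ((Abelianization.commutator_subset_ker _) hzG)
  rw [h2] at h1
  have h3 : z ^ (P : Subgroup G).index = 1 := (congrArg Subtype.val h1).symm
  obtain ⟨a, ha⟩ := pel_of_mem P hz
  have h4 : ¬ p ∣ (P : Subgroup G).index := P.not_dvd_index
  have h5 : (p ^ a).Coprime (P : Subgroup G).index := Nat.Coprime.pow_left a ((Nat.Prime.coprime_iff_not_dvd hp.out).mpr h4)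
  have h6 : orderOf z = 1 := Nat.eq_one_of_dvd_coprimes h5 (orderOf_dvd_of_pow_eq_one ha) (orderOf_dvd_of_pow_eq_one h3)
  exact orderOf_eq_one_iff.mp h6

/-- the centralizer of a normal subgroup, elementwise -/
theorem exists_cent {N : Subgroup G} (hN : ∀ g n, n ∈ N → g * n * g⁻¹ ∈ N) :
    ∃ C : Subgroup G, C.Normal ∧ ∀ c, c ∈ C ↔ ∀ n ∈ N, n * c = c * n := by
  refine ⟨Subgroup.centralizer (N : Set G), ⟨fun c hc g => ?_⟩, fun c => by rw [Subgroup.mem_centralizer_iff]; rfl⟩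
  rw [Subgroup.mem_centralizer_iff] at hc ⊢
  intro n hn
  have h1 := hc (g⁻¹ * n * g⁻¹⁻¹) (hN g⁻¹ n hn)
  calc n * (g * c * g⁻¹) = g * ((g⁻¹ * n * g⁻¹⁻¹) * c) * g⁻¹ := by group
    _ = g * (c * (g⁻¹ * n * g⁻¹⁻¹)) * g⁻¹ := by rw [h1]
    _ = (g * c * g⁻¹) * n := by group

end Gen

section Min

variable {G : Type*} [Group G] [Fintype G] {p : ℕ} [hp : Fact p.Prime] (P : Sylow p G)
  (hab : ∀ a ∈ P, ∀ b ∈ P, a * b = b * a) (hNS : ∀ K : Subgroup G, K ≠ ⊤ → NS p K)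
  (hnn : ¬ (P : Subgroup G).Normal)

include hNS hnn in
omit [Fintype G] hp in
theorem step3 (M : Subgroup G) (hM : M.Normal) (hPM : (P : Subgroup G) ≤ M) : M = ⊤ := by
  by_contra hne
  apply hnn
  refine ⟨fun x hx g => ?_⟩
  exact (hNS M hne).mem_sylow P hPM (hM.conj_mem x (hPM hx) g) (pel_conj (pel_of_mem P hx) g)

include hab in
theorem comm_of_NS (K : Subgroup G) (hK : NS p K) {x y : G} (hx : x ∈ K) (hy : y ∈ K) (hxp : ∃ a, x ^ p ^ a = 1)
    (hyp : ∃ a, y ^ p ^ a = 1) : x * y = y * x := by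
  obtain ⟨S, hS⟩ := hK.exists_sub
  obtain ⟨Q, hQ⟩ := exists_sylow (p := p) (S := S) (fun x hx => ((hS x).mp hx).2)
  obtain ⟨g, hg⟩ := MulAction.exists_smul_eq G P Q
  have hxQ : x ∈ Q := hQ ((hS x).mpr ⟨hx, hxp⟩)
  have hyQ : y ∈ Q := hQ ((hS y).mpr ⟨hy, hyp⟩)
  rw [← hg] at hxQ hyQ
  obtain ⟨x', hx', hxe⟩ := hxQ
  obtain ⟨y', hy', hye⟩ := hyQ
  have h1 := hab x' hx' y' hy'
  have hxe' : x = g * x' * g⁻¹ := hxe.symm
  have hye' : y = g * y' * g⁻¹ := hye.symm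
  rw [hxe', hye']
  calc g * x' * g⁻¹ * (g * y' * g⁻¹) = g * (x' * y') * g⁻¹ := by group
    _ = g * (y' * x') * g⁻¹ := by rw [h1]
    _ = _ := by group

include hab in
theorem sylow_comm (Q : Sylow p G) {x y : G} (hx : x ∈ Q) (hy : y ∈ Q) : x * y = y * x :=
  comm_of_NS P hab (Q : Subgroup G) (fun a ha b hb _ _ => pel_of_mem Q (mul_mem ha hb)) hx hy (pel_of_mem Q hx)
    (pel_of_mem Q hy)

omit [Fintype G] in
theorem cent_ne_top {g : G} (hg : g ∉ Subgroup.center G) : Subgroup.centralizer ({g} : Set G) ≠ ⊤ := by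
  intro h1
  apply hg
  rw [Subgroup.mem_center_iff]
  intro h
  have : h ∈ Subgroup.centralizer ({g} : Set G) := by rw [h1]; trivial
  rw [Subgroup.mem_centralizer_singleton_iff] at this
  exact this

include hab hNS in
theorem mem_of_cent (Q : Sylow p G) {x y : G} (hx : x ∈ Q) (hxc : x ∉ Subgroup.center G) (hxy : y * x = x * y)
    (hyp : ∃ a, y ^ p ^ a = 1) : y ∈ Q := by
  have h1 : (Q : Subgroup G) ≤ Subgroup.centralizer ({x} : Set G) := by
    intro q hq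
    rw [Subgroup.mem_centralizer_singleton_iff]
    exact sylow_comm P hab Q hq hx
  exact (hNS _ (cent_ne_top hxc)).mem_sylow Q h1 ((Subgroup.mem_centralizer_singleton_iff).mpr hxy) hyp

include hab hNS in
theorem step4 (hZ : (P : Subgroup G) ⊓ Subgroup.center G = ⊥) :
    ∀ g : G, g ∉ Subgroup.center G → ∀ a b : G,
      Subgroup.centralizer ({g} : Set G) ⊓ (P : Subgroup G).map (MulAut.conj a).toMonoidHom ≠ ⊥ →
      Subgroup.centralizer ({g} : Set G) ⊓ (P : Subgroup G).map (MulAut.conj b).toMonoidHom ≠ ⊥ →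
      (P : Subgroup G).map (MulAut.conj a).toMonoidHom = (P : Subgroup G).map (MulAut.conj b).toMonoidHom := by
  intro g hg a b ha hb
  have hc : ∀ (c x : G), x ∈ (c • P : Sylow p G) → x ≠ 1 → x ∉ Subgroup.center G := by
    rintro c x ⟨y, hy, hyx⟩ hx1 hxZ
    apply hx1
    have h1 : c * y * c⁻¹ = x := hyx
    have h2 : x ∈ (P : Subgroup G) := by
      have h3 : y = x := by
        have h4 : y = c⁻¹ * x * c := by rw [← h1]; group
        rw [h4, mul_assoc, ← Subgroup.mem_center_iff.mp hxZ c]; group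
      rw [← h3]; exact hy
    have h3 : x ∈ (P : Subgroup G) ⊓ Subgroup.center G := ⟨h2, hxZ⟩
    rw [hZ] at h3
    exact h3
  have hex : ∀ c : G, Subgroup.centralizer ({g} : Set G) ⊓ (P : Subgroup G).map (MulAut.conj c).toMonoidHom ≠ ⊥ →
      ∃ x : G, x ∈ (c • P : Sylow p G) ∧ x ≠ 1 ∧ x * g = g * x := by
    intro c hc
    rw [Ne, Subgroup.eq_bot_iff_forall] at hc
    push Not at hc
    obtain ⟨x, hx, hx1⟩ := hc
    rw [Subgroup.mem_inf, Subgroup.mem_centralizer_singleton_iff] at hx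
    exact ⟨x, hx.2, hx1, hx.1⟩
  obtain ⟨x, hx, hx1, hxg⟩ := hex a ha
  obtain ⟨y, hy, hy1, hyg⟩ := hex b hb
  have hxy : x * y = y * x := comm_of_NS P hab _ (hNS _ (cent_ne_top hg)) (Subgroup.mem_centralizer_singleton_iff.mpr hxg)
    (Subgroup.mem_centralizer_singleton_iff.mpr hyg) (pel_of_mem _ hx) (pel_of_mem _ hy)
  have hya : y ∈ (a • P : Sylow p G) := mem_of_cent P hab hNS (a • P) hx (hc a x hx hx1) hxy.symm (pel_of_mem _ hy)
  have hyc := hc b y hy hy1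
  have h1 : ((a • P : Sylow p G) : Subgroup G) ≤ ((b • P : Sylow p G) : Subgroup G) := by
    intro q hq
    exact mem_of_cent P hab hNS (b • P) hy hyc (sylow_comm P hab (a • P) hq hya) (pel_of_mem _ hq)
  have h2 : ((b • P : Sylow p G) : Subgroup G) ≤ ((a • P : Sylow p G) : Subgroup G) := by
    intro q hq
    exact mem_of_cent P hab hNS (a • P) hya hyc (sylow_comm P hab (b • P) hq hy) (pel_of_mem _ hq)
  exact le_antisymm h1 h2

end Min

end Cfsg.Agent.H3.SmallRep
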