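import Mathlib
import Cfsg.Prelude.Def_Characters
import Cfsg.Agent.H3_CharMult
import Cfsg.Agent.H3_CharCalc
import Cfsg.Agent.H3_CharQuot
import Cfsg.Agent.H3_Clifford2
import Cfsg.Agent.H3_Monomial
import Cfsg.Agent.H1_Basic

/-!
# Irreducible characters of powers and wreath products of M-groups
-/

set_option autoImplicit false

open scoped ComplexConjugate

namespace Cfsg.Agent.H3.Wreath

open Cfsg Cfsg.Agent.H3.CharBasic Cfsg.Agent.H3.CharIrr Cfsg.Agent.H3.CharComplete
  Cfsg.Agent.H3.CharMult Cfsg.Agent.H3.CharInd Cfsg.Agent.H3.CharInt Cfsg.Agent.H3.CharCalc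
  Cfsg.Agent.H3.Clifford Cfsg.Agent.H3.CharQuot Cfsg.Agent.H3.Monomial

universe u v

/-- Irreducible characters of a power are products. -/
theorem isIrr_pi (M : Type v) [Group M] [Finite M] (ι : Type u) [Finite ι] :
    ∀ [Fintype ι] (ψ : (ι → M) → ℂ), IsIrrCharacter (ι → M) ψ →
      ∃ θ : ι → M → ℂ, (∀ i, IsIrrCharacter M (θ i)) ∧ ∀ b, ψ b = ∏ i, θ i (b i) := by
  refine Finite.induction_empty_option (P := fun ι => ∀ [Fintype ι] (ψ : (ι → M) → ℂ),
    IsIrrCharacter (ι → M) ψ →
      ∃ θ : ι → M → ℂ, (∀ i, IsIrrCharacter M (θ i)) ∧ ∀ b, ψ b = ∏ i, θ i (b i)) ?_ ?_ ?_ ι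
  · intro α β e ih _ ψ hψ
    have : Fintype α := Fintype.ofEquiv β e.symm
    let f : (α → M) ≃* (β → M) :=
      { toFun := fun a b => a (e.symm b), invFun := fun b a => b (e a),
        left_inv := fun a => by ext x; simp, right_inv := fun b => by ext x; simp,
        map_mul' := fun a b => rfl }
    obtain ⟨θ, hθ, h⟩ := ih (fun a => ψ (f a)) ((isIrr_comp_iff f).mpr hψ)
    refine ⟨fun b => θ (e.symm b), fun b => hθ _, fun b => ?_⟩
    have h1 := h (f.symm b)
    rw [MulEquiv.apply_symm_apply] at h1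
    rw [h1, ← Equiv.prod_comp e.symm]
    refine Finset.prod_congr rfl fun i _ => ?_
    show θ (e.symm i) (b (e (e.symm i))) = _
    rw [Equiv.apply_symm_apply]
  · intro _ ψ hψ
    refine ⟨fun i => i.elim, fun i => i.elim, fun b => ?_⟩
    rw [Finset.univ_eq_empty, Finset.prod_empty, Subsingleton.elim b 1]
    exact IsIrr.one_of_comm (fun a b => Subsingleton.elim _ _) hψ
  · intro α _ ih instO ψ hψ
    obtain rfl : instO = instFintypeOption := Subsingleton.elim _ _
    let f : M × (α → M) ≃* (Option α → M) :=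
      { toFun := fun x o => o.elim x.1 x.2
        invFun := fun b => (b none, fun a => b (some a))
        left_inv := fun x => rfl
        right_inv := fun b => by ext o; cases o <;> rfl
        map_mul' := fun a b => by ext o; cases o <;> rfl }
    obtain ⟨φ, ψ', hφ, hψ', h⟩ := (isIrr_prod_iff _).mp ((isIrr_comp_iff f).mpr hψ)
    obtain ⟨θ, hθ, h2⟩ := ih ψ' hψ'
    refine ⟨fun o => o.elim φ θ, fun o => by cases o <;> simp [hφ, hθ], fun b => ?_⟩
    have h1 := congrFun h (f.symm b)
    simp only [MulEquiv.apply_symm_apply] at h1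
    rw [h1, h2, Fintype.prod_option]
    rfl

section Chain

variable {G : Type*} [Group G] [Fintype G]

theorem ci_chain {K B : Subgroup G} [Fintype K] [Fintype B] (hKB : K ≤ B) {χ : G → ℂ}
    (hχ : IsCharacter G χ) {ψ : B → ℂ} (hψ : IsIrrCharacter B ψ)
    (h1 : classInner (fun b : B => χ b) ψ ≠ 0) {Λ : K → ℂ} (hΛ : IsIrrCharacter K Λ)
    (h2 : classInner (fun k : K => ψ ⟨k, hKB k.2⟩) Λ ≠ 0) :
    classInner (fun k : K => χ k) Λ ≠ 0 := by
  classical
  have := Fintype.ofFinite (IrrCharacter B)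
  obtain ⟨n, hn, hsum⟩ := IsChar.eq_sum_nat (IsChar.res hχ B)
  have hres : (fun k : K => χ k) = ∑ φ : IrrCharacter B, (n φ : ℂ) •
      (fun k : K => (φ : B → ℂ) ⟨(k : G), hKB k.2⟩) := by
    ext k
    have := congrFun hsum ⟨k, hKB k.2⟩
    simp only [Finset.sum_apply, Pi.smul_apply] at this ⊢
    exact this
  have hnat : ∀ φ : IrrCharacter B, ∃ m : ℕ,
      classInner (fun k : K => (φ : B → ℂ) ⟨(k : G), hKB k.2⟩) Λ = m := fun φ =>
    ci_char_nat (IsChar.comp (IsIrr.isCharacter φ.2) (Subgroup.inclusion hKB))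
      (IsIrr.isCharacter hΛ)
  choose m hm using hnat
  rw [hres, ci_sum_left]
  have h3 : ∑ φ : IrrCharacter B, classInner ((n φ : ℂ) •
      (fun k : K => (φ : B → ℂ) ⟨(k : G), hKB k.2⟩)) Λ = ((∑ φ : IrrCharacter B, n φ * m φ : ℕ) : ℂ) := by
    push_cast
    refine Finset.sum_congr rfl fun φ _ => ?_
    rw [ci_smul_left, hm]
  rw [h3]
  intro h0
  have h4 : ∑ φ : IrrCharacter B, n φ * m φ = 0 := by exact_mod_cast h0
  rw [Finset.sum_eq_zero_iff] at h4
  have h5 := h4 ⟨ψ, hψ⟩ (Finset.mem_univ _)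
  rcases Nat.mul_eq_zero.mp h5 with h | h
  · exact h1 (by rw [hn ⟨ψ, hψ⟩, h]; simp)
  · exact h2 (by
      have := hm ⟨ψ, hψ⟩
      rw [h] at this
      simpa using this)

/-- Lemma U -/
theorem isMon_of_inner {K : Subgroup G} [Fintype K] {χ : G → ℂ} (hχ : IsIrrCharacter G χ)
    (Λ : K →* ℂˣ) (h1 : classInner (fun k : K => χ k) (fun k => (Λ k : ℂ)) ≠ 0)
    {d : ℕ} (hd : χ 1 = d) (hK : K.index ≤ d) : IsMon χ := by
  have hΛ := isIrr_of_hom_units Λ
  refine ⟨K, Λ, ?_⟩
  have h2 : classInner (indFun K (fun k => (Λ k : ℂ))) χ ≠ 0 :=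
    (constituent_ind_iff (IsIrr.isCharacter hχ)).mpr h1
  have hind := IsChar.ind (IsIrr.isCharacter hΛ)
  have h3 : indFun K (fun k => (Λ k : ℂ)) 1 = (K.index : ℂ) := by
    rw [ind_one, map_one, Units.val_one, mul_one]
  have h4 := IsChar.degree_le' hind hχ h2 h3 hd
  have h5 : K.index = d := le_antisymm hK h4
  exact (IsChar.eq_of_degree hind hχ h2 (by rw [h3, hd, h5])).symm

/-- Lemma V -/
theorem isMon_of_inner_ext {L K : Subgroup G} [Fintype L] [Fintype K] (hKL : K ≤ L)
    (hn : (K.subgroupOf L).Normal) (hc : ∀ a b : L, a * b * a⁻¹ * b⁻¹ ∈ K.subgroupOf L)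
    {χ : G → ℂ} (hχ : IsIrrCharacter G χ) (lam : L →* ℂˣ)
    (h1 : classInner (fun k : K => χ k) (fun k : K => (lam ⟨k, hKL k.2⟩ : ℂ)) ≠ 0)
    {d : ℕ} (hd : χ 1 = d) (hL : L.index ≤ d) : IsMon χ := by
  classical
  have hfK : Fintype (K.subgroupOf L) := Fintype.ofFinite _
  have := Fintype.ofFinite (IrrCharacter L)
  have hlc : IsCharacter L (fun x : L => conj (lam x : ℂ)) :=
    CharIrr.IsChar.conj (IsIrr.isCharacter (isIrr_of_hom_units lam))
  let ξ : L → ℂ := (fun x : L => conj (lam x : ℂ)) * (fun x : L => χ x)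
  have hξ : IsCharacter L ξ := IsChar.mul hlc (IsChar.res (IsIrr.isCharacter hχ) L)
  obtain ⟨n, hn', hsum⟩ := IsChar.eq_sum_nat hξ
  have h2 : classInner (fun x : K.subgroupOf L => ξ x) (fun _ => 1) ≠ 0 := by
    have h3 := ci_subgroupOf hKL (fun k : K => χ k) (fun k : K => (lam ⟨k, hKL k.2⟩ : ℂ))
    rw [← h3] at h1
    intro h0
    apply h1
    rw [← h0]
    simp only [classInner]
    congr 1
    refine Finset.sum_congr rfl fun x _ => ?_
    simp only [ξ, Pi.mul_apply, map_one, mul_one]
    rw [mul_comm]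
  have h3 : ∃ φ : IrrCharacter L, n φ ≠ 0 ∧
      classInner (fun x : K.subgroupOf L => (φ : L → ℂ) x) (fun _ => 1) ≠ 0 := by
    by_contra hne
    push Not at hne
    apply h2
    have hres : (fun x : K.subgroupOf L => ξ x) = ∑ φ : IrrCharacter L, (n φ : ℂ) •
        (fun x : K.subgroupOf L => (φ : L → ℂ) x) := by
      ext x
      have := congrFun hsum x
      simp only [Finset.sum_apply, Pi.smul_apply] at this ⊢
      exact this
    rw [hres, ci_sum_left, Finset.sum_eq_zero]
    intro φ _
    rw [ci_smul_left]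
    by_cases h0 : n φ = 0
    · rw [h0]; simp
    · rw [hne φ h0, mul_zero]
  obtain ⟨φ, hφn, hφ⟩ := h3
  have h4 : InKer (K.subgroupOf L) (φ : L → ℂ) := (inKer_iff_inner hn φ.2).mpr hφ
  obtain ⟨φ', hφ', hφe⟩ := IsIrr.descend φ.2 (K.subgroupOf L) (fun x hx => by
    have := h4 x hx 1
    rwa [mul_one] at this)
  have hφ1 : (φ : L → ℂ) 1 = 1 := by
    have hcomm : ∀ a b : L ⧸ K.subgroupOf L, a * b = b * a := by
      intro a b
      induction a using QuotientGroup.induction_on with | H a => ?_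
      induction b using QuotientGroup.induction_on with | H b => ?_
      rw [← QuotientGroup.mk_mul, ← QuotientGroup.mk_mul, QuotientGroup.eq]
      have h5 := hc b⁻¹ a⁻¹
      have h6 : b⁻¹ * a⁻¹ * (b⁻¹)⁻¹ * (a⁻¹)⁻¹ = (a * b)⁻¹ * (b * a) := by group
      rwa [h6] at h5
    have := IsIrr.one_of_comm hcomm hφ'
    rw [← hφe 1]
    exact this
  obtain ⟨f, hf⟩ := IsChar.hom_units_of_one (IsIrr.isCharacter φ.2) hφ1
  refine isMon_of_inner hχ (lam * f) ?_ hd hL
  have h5 : classInner ξ (φ : L → ℂ) ≠ 0 := by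
    rw [hn' φ]; exact_mod_cast hφn
  intro h0
  apply h5
  rw [← h0]
  simp only [classInner]
  congr 1
  refine Finset.sum_congr rfl fun x _ => ?_
  simp only [ξ, Pi.mul_apply, MonoidHom.mul_apply, Units.val_mul, map_mul]
  rw [hf x]
  ring

end Chain

section W

open RegularWreathProduct

variable {M : Type u} {Q : Type u} [Group M] [Group Q]

/-- functions with values in given subgroups -/
def KH (H : Q → Subgroup M) : Subgroup (RegularWreathProduct M Q) where
  carrier := {w | w.right = 1 ∧ ∀ x, w.left x ∈ H x}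
  one_mem' := ⟨rfl, fun x => (H x).one_mem⟩
  mul_mem' := by
    rintro a b ⟨ha1, ha2⟩ ⟨hb1, hb2⟩
    refine ⟨by rw [mul_right, ha1, hb1, one_mul], fun x => ?_⟩
    rw [mul_left, ha1]
    simp only [Pi.mul_apply, inv_one, one_mul]
    exact (H x).mul_mem (ha2 x) (hb2 x)
  inv_mem' := by
    rintro a ⟨ha1, ha2⟩
    refine ⟨by rw [inv_right, ha1, inv_one], fun x => ?_⟩
    rw [inv_left, ha1]
    simp only [Pi.inv_apply, one_mul]
    exact (H x).inv_mem (ha2 x)

theorem mem_KH {H : Q → Subgroup M} {w : RegularWreathProduct M Q} :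
    w ∈ KH H ↔ w.right = 1 ∧ ∀ x, w.left x ∈ H x := Iff.rfl

/-- the group `KH` as a product -/
def eK (H : Q → Subgroup M) : KH H ≃* (∀ x, H x) where
  toFun w := fun x => ⟨(w : RegularWreathProduct M Q).left x, w.2.2 x⟩
  invFun h := ⟨⟨fun x => h x, 1⟩, rfl, fun x => (h x).2⟩
  left_inv w := by
    obtain ⟨⟨l, r⟩, h1, h2⟩ := w
    obtain rfl : r = 1 := h1
    rfl
  right_inv h := rfl
  map_mul' a b := by
    obtain ⟨⟨l, r⟩, h1, h2⟩ := a
    obtain rfl : r = 1 := h1
    ext x
    show (l * fun x ↦ (b : RegularWreathProduct M Q).left (1⁻¹ * x)) x = _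
    simp

/-- wreath product with a subgroup -/
def LH (Q : Type u) [Group Q] (H : Subgroup M) : Subgroup (RegularWreathProduct M Q) where
  carrier := {w | ∀ x, w.left x ∈ H}
  one_mem' := fun x => H.one_mem
  mul_mem' := by
    rintro a b ha hb x
    rw [mul_left]
    exact H.mul_mem (ha x) (hb _)
  inv_mem' := by
    rintro a ha x
    rw [inv_left]
    exact H.inv_mem (ha _)

theorem mem_LH {H : Subgroup M} {w : RegularWreathProduct M Q} :
    w ∈ LH Q H ↔ ∀ x, w.left x ∈ H := Iff.rfl

/-- as a set -/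
def eL (H : Subgroup M) : LH Q H ≃ (Q → H) × Q where
  toFun w := (fun x => ⟨(w : RegularWreathProduct M Q).left x, w.2 x⟩, (w : RegularWreathProduct M Q).right)
  invFun h := ⟨⟨fun x => h.1 x, h.2⟩, fun x => (h.1 x).2⟩
  left_inv _ := rfl
  right_inv _ := rfl

theorem KH_le_LH (H : Subgroup M) : KH (fun _ : Q => H) ≤ LH Q H := fun _ hw => hw.2

theorem KH_mono {H H' : Q → Subgroup M} (h : ∀ x, H x ≤ H' x) : KH H ≤ KH H' :=
  fun _ hw => ⟨hw.1, fun x => h x (hw.2 x)⟩

variable [Fintype Q]

/-- the extension of a linear character -/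
def lamL {H : Subgroup M} (lam : H →* ℂˣ) : LH Q H →* ℂˣ where
  toFun w := ∏ x, lam ⟨(w : RegularWreathProduct M Q).left x, w.2 x⟩
  map_one' := by
    refine Finset.prod_eq_one fun x _ => ?_
    exact map_one lam
  map_mul' a b := by
    have h1 : ∏ x, lam ⟨(b : RegularWreathProduct M Q).left x, b.2 x⟩ =
        ∏ x, lam ⟨(b : RegularWreathProduct M Q).left ((a : RegularWreathProduct M Q).right⁻¹ * x), b.2 _⟩ :=
      (Equiv.prod_comp (Equiv.mulLeft (a : RegularWreathProduct M Q).right⁻¹)
        (fun x => lam ⟨(b : RegularWreathProduct M Q).left x, b.2 x⟩)).symm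
    rw [h1, ← Finset.prod_mul_distrib]
    refine Finset.prod_congr rfl fun x _ => ?_
    rw [← map_mul]
    rfl

/-- product of linear characters -/
def lamK {H : Q → Subgroup M} (lam : ∀ x, H x →* ℂˣ) : KH H →* ℂˣ where
  toFun w := ∏ x, lam x ⟨(w : RegularWreathProduct M Q).left x, w.2.2 x⟩
  map_one' := by
    refine Finset.prod_eq_one fun x _ => ?_
    exact map_one (lam x)
  map_mul' a b := by
    rw [← Finset.prod_mul_distrib]
    refine Finset.prod_congr rfl fun x _ => ?_
    rw [← map_mul]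
    congr 1
    ext
    have hr : (a : RegularWreathProduct M Q).right = 1 := a.2.1
    show (a : RegularWreathProduct M Q).left x * (b : RegularWreathProduct M Q).left
      ((a : RegularWreathProduct M Q).right⁻¹ * x) =
      (a : RegularWreathProduct M Q).left x * (b : RegularWreathProduct M Q).left x
    rw [hr, inv_one, one_mul]

theorem card_KH [Finite M] (H : Q → Subgroup M) : Nat.card (KH H) = ∏ x, Nat.card (H x) := by
  rw [Nat.card_congr (eK H).toEquiv, Nat.card_pi]

theorem card_LH [Finite M] (H : Subgroup M) :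
    Nat.card (LH Q H) = Nat.card H ^ Nat.card Q * Nat.card Q := by
  rw [Nat.card_congr (eL H), Nat.card_prod, Nat.card_fun]

theorem index_KH [Finite M] (H : Q → Subgroup M) :
    (KH H).index = Nat.card Q * ∏ x, (H x).index := by
  have h1 := (KH H).card_mul_index
  rw [RegularWreathProduct.card, card_KH] at h1
  have h2 : Nat.card M ^ Nat.card Q = (∏ x, Nat.card (H x)) * ∏ x, (H x).index := by
    rw [← Finset.prod_mul_distrib, Finset.prod_congr rfl fun x _ => (H x).card_mul_index,
      Finset.prod_const, Finset.card_univ, Nat.card_eq_fintype_card (α := Q)]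
  rw [h2] at h1
  have h3 : 0 < ∏ x, Nat.card (H x) := Finset.prod_pos fun x _ => Nat.card_pos
  refine Nat.eq_of_mul_eq_mul_left h3 ?_
  rw [h1]
  ring

theorem index_LH [Finite M] (H : Subgroup M) : (LH Q H).index = H.index ^ Nat.card Q := by
  have h1 := (LH Q H).card_mul_index
  rw [RegularWreathProduct.card, card_LH, ← H.card_mul_index, mul_pow] at h1
  have h3 : 0 < Nat.card H ^ Nat.card Q * Nat.card Q := by
    have : Nonempty Q := ⟨1⟩
    exact Nat.mul_pos (pow_pos Nat.card_pos _) Nat.card_pos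
  refine Nat.eq_of_mul_eq_mul_left h3 ?_
  rw [h1]
  ring

theorem ci_prod [Finite M] (H : Q → Subgroup M) [Fintype (KH H)] [∀ x, Fintype (H x)]
    (θ : Q → M → ℂ) (lam : ∀ x, H x →* ℂˣ) :
    classInner (fun k : KH H => ∏ x, θ x ((k : RegularWreathProduct M Q).left x))
      (fun k => (lamK lam k : ℂ)) =
    ∏ x, classInner (fun h : H x => θ x h) (fun h => (lam x h : ℂ)) := by
  classical
  simp only [classInner]
  rw [Finset.prod_mul_distrib, card_KH]
  congr 1
  · push_cast
    rw [Finset.prod_inv_distrib]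
  · rw [Finset.prod_univ_sum, Fintype.piFinset_univ]
    refine Fintype.sum_equiv (eK H).toEquiv _ _ fun k => ?_
    simp only [lamK, MonoidHom.coe_mk, OneHom.coe_mk, Units.coe_prod, map_prod]
    rw [← Finset.prod_mul_distrib]
    rfl

theorem wreath_mon [Fintype M] [Fintype (RegularWreathProduct M Q)] (hp : (Nat.card Q).Prime)
    (hcomm : ∀ a b : Q, a * b = b * a)
    (hM : ∀ χ : M → ℂ, IsIrrCharacter M χ → IsMon χ) (χ : RegularWreathProduct M Q → ℂ)
    (hχ : IsIrrCharacter (RegularWreathProduct M Q) χ) : IsMon χ := by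
  classical
  set B : Subgroup (RegularWreathProduct M Q) := KH (fun _ => ⊤) with hB
  have hBn : B.Normal := by
    have h1 : B = (rightHom : RegularWreathProduct M Q →* Q).ker := by
      ext w
      rw [MonoidHom.mem_ker, hB, mem_KH]
      simp
    rw [h1]; infer_instance
  let eB : B ≃* (Q → M) := (eK (fun _ => (⊤ : Subgroup M))).trans
    (MulEquiv.piCongrRight fun _ => Subgroup.topEquiv)
  have heB : ∀ b x, eB b x = (b : RegularWreathProduct M Q).left x := fun b x => rfl
  have hfB : Fintype B := Fintype.ofFinite _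
  obtain ⟨ψ, hψ, h1⟩ := exists_constituent_res (H := B) hχ
  obtain ⟨θ, hθ, hψe⟩ := isIrr_pi M Q (fun b => ψ (eB.symm b)) ((isIrr_comp_iff eB.symm).mpr hψ)
  have hψe' : ∀ b : B, ψ b = ∏ x, θ x ((b : RegularWreathProduct M Q).left x) := by
    intro b
    have := hψe (eB b)
    rw [MulEquiv.symm_apply_apply] at this
    exact this
  have key : ∀ (H : Q → Subgroup M) (lam : ∀ x, H x →* ℂˣ),
      (∀ x, θ x = indFun (H x) (fun h => (lam x h : ℂ))) → ∀ [Fintype (KH H)],
      classInner (fun k : KH H => χ k) (fun k => (lamK lam k : ℂ)) ≠ 0 := by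
    intro H lam hl _
    have hf : ∀ x, Fintype (H x) := fun x => Fintype.ofFinite _
    refine ci_chain (KH_mono fun x => le_top) (IsIrr.isCharacter hχ) hψ h1
      (isIrr_of_hom_units (lamK lam)) ?_
    have h2 := ci_prod H θ lam
    have h3 : (fun k : KH H => ψ ⟨k, KH_mono (fun x => le_top) k.2⟩) =
        (fun k : KH H => ∏ x, θ x ((k : RegularWreathProduct M Q).left x)) := by
      ext k; exact hψe' _
    rw [h3, h2, Finset.prod_ne_zero_iff]
    intro x _
    rw [← constituent_ind_iff (IsIrr.isCharacter (hθ x)), ← hl x, ci_irr_self (hθ x)]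
    exact one_ne_zero
  have hdeg : ∀ (H : Q → Subgroup M) (lam : ∀ x, H x →* ℂˣ),
      (∀ x, θ x = indFun (H x) (fun h => (lam x h : ℂ))) → ψ 1 = ((∏ x, (H x).index : ℕ) : ℂ) := by
    intro H lam hl
    rw [hψe']
    push_cast
    refine Finset.prod_congr rfl fun x _ => ?_
    rw [hl x]
    show indFun (H x) _ 1 = _
    rw [ind_one, map_one, Units.val_one, mul_one]
  obtain ⟨n, hn⟩ := ci_char_nat (IsChar.res (IsIrr.isCharacter hχ) B) (IsIrr.isCharacter hψ)
  have hn1 : 1 ≤ n := by
    rcases Nat.eq_zero_or_pos n with rfl | h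
    · exact absurd (by rw [hn]; simp) h1
    · exact h
  have hcl := clifford_degree hBn hχ hψ h1
  rw [hn] at hcl
  have hpos : ∀ H : Q → Subgroup M, 0 < ∏ x, (H x).index := fun H =>
    Finset.prod_pos fun x _ => Nat.pos_of_ne_zero Subgroup.index_ne_zero_of_finite
  by_cases hT : inertia hBn ψ = ⊤
  · -- the invariant case
    have hinv : ∀ w : RegularWreathProduct M Q, cj hBn w ψ = ψ := fun w => by
      rw [← mem_inertia, hT]; trivial
    have hsame : ∀ q : Q, θ q = θ 1 := by
      intro q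
      -- evaluate at a single-supported function
      have hb : ∀ m : M, θ q m * (∏ y ∈ Finset.univ.erase (1 : Q), θ (q * y) 1) =
          θ 1 m * (∏ y ∈ Finset.univ.erase (1 : Q), θ y 1) := by
        intro m
        let b : B := ⟨⟨Pi.mulSingle 1 m, 1⟩, rfl, fun _ => trivial⟩
        have h2 := congrFun (hinv (inl q)) b
        rw [cj_apply, hψe', hψe'] at h2
        have h3 : ∏ x, θ x ((inl q * (b : RegularWreathProduct M Q) * (inl q)⁻¹).left x) =
            ∏ y, θ (q * y) (Pi.mulSingle (M := fun _ => M) 1 m y) := by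
          rw [← Equiv.prod_comp (Equiv.mulLeft q)]
          refine Finset.prod_congr rfl fun y _ => ?_
          congr 1
          simp [b]
        have h4 : ∏ x, θ x ((b : RegularWreathProduct M Q).left x) =
            ∏ y, θ y (Pi.mulSingle (M := fun _ => M) 1 m y) := rfl
        have h2' : ∏ x, θ x ((inl q * (b : RegularWreathProduct M Q) * (inl q)⁻¹).left x) =
          ∏ x, θ x ((b : RegularWreathProduct M Q).left x) := h2
        rw [h3, h4, ← Finset.mul_prod_erase Finset.univ _ (Finset.mem_univ (1 : Q)),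
          ← Finset.mul_prod_erase Finset.univ (fun y => θ y _) (Finset.mem_univ (1 : Q))] at h2'
        rw [mul_one, Pi.mulSingle_eq_same] at h2'
        have h5 : ∀ (g : Q → Q), ∏ y ∈ Finset.univ.erase (1 : Q), θ (g y) (Pi.mulSingle (M := fun _ => M) 1 m y) =
            ∏ y ∈ Finset.univ.erase (1 : Q), θ (g y) 1 := by
          intro g
          refine Finset.prod_congr rfl fun y hy => ?_
          rw [Pi.mulSingle_eq_of_ne (Finset.ne_of_mem_erase hy)]
        rw [h5 (fun y => q * y), h5 (fun y => y)] at h2'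
        exact h2'
      set C1 := ∏ y ∈ Finset.univ.erase (1 : Q), θ (q * y) 1 with hC1
      set C2 := ∏ y ∈ Finset.univ.erase (1 : Q), θ y 1 with hC2
      have hC1' : C1 ≠ 0 := Finset.prod_ne_zero_iff.mpr fun y _ => IsIrr.one_ne_zero (hθ _)
      have hC2' : C2 ≠ 0 := Finset.prod_ne_zero_iff.mpr fun y _ => IsIrr.one_ne_zero (hθ _)
      have hc : θ q = (C2 / C1) • θ 1 := by
        ext m
        have := hb m
        rw [Pi.smul_apply, smul_eq_mul]
        field_simp
        rw [this, mul_comm]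
      have h6 : classInner (θ q) (θ 1) ≠ 0 := by
        rw [hc, ci_smul_left, ci_irr_self (hθ 1), mul_one]
        exact div_ne_zero hC2' hC1'
      rw [ci_irr (hθ q) (hθ 1)] at h6
      by_contra hne
      rw [if_neg hne] at h6
      exact h6 rfl
    obtain ⟨H, lam, hl⟩ := hM (θ 1) (hθ 1)
    have hl' : ∀ x, θ x = indFun H (fun h => (lam h : ℂ)) := fun x => (hsame x).trans hl
    have hfK : Fintype (KH (fun _ : Q => H)) := Fintype.ofFinite _
    have hfL : Fintype (LH Q H) := Fintype.ofFinite _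
    have h2 := key (fun _ => H) (fun _ => lam) hl'
    have h3 := hdeg (fun _ => H) (fun _ => lam) hl'
    have hKn : ((KH (fun _ : Q => H)).subgroupOf (LH Q H)).Normal := by
      constructor
      intro a ha g
      rw [Subgroup.mem_subgroupOf, mem_KH] at ha ⊢
      refine ⟨?_, fun x => (g * a * g⁻¹).2 x⟩
      rw [Subgroup.coe_mul, Subgroup.coe_mul, mul_right, mul_right, ha.1, Subgroup.coe_inv, inv_right]
      group
    refine isMon_of_inner_ext (L := LH Q H) (K := KH (fun _ => H)) (KH_le_LH H) hKn ?_ hχ (lamL lam)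
      h2 (d := n * 1 * ∏ _x : Q, H.index) ?_ ?_
    · intro a b
      rw [Subgroup.mem_subgroupOf, mem_KH]
      refine ⟨?_, fun x => (a * b * a⁻¹ * b⁻¹).2 x⟩
      simp only [Subgroup.coe_mul, mul_right, Subgroup.coe_inv, inv_right]
      rw [hcomm (a : RegularWreathProduct M Q).right (b : RegularWreathProduct M Q).right]
      group
    · rw [hcl, h3, hT, Subgroup.index_top]
      push_cast
      ring
    · rw [index_LH, Finset.prod_const, Finset.card_univ, ← Nat.card_eq_fintype_card, mul_one]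
      exact Nat.le_mul_of_pos_left _ hn1
  · -- the non invariant case
    choose H lam hl using fun x => hM (θ x) (hθ x)
    have hfK : Fintype (KH H) := Fintype.ofFinite _
    have hidx : (inertia hBn ψ).index = Nat.card Q := by
      have h2 : B.index = Nat.card Q := by
        rw [hB, index_KH]; simp
      have h3 : (inertia hBn ψ).index ∣ Nat.card Q := by
        rw [← h2]; exact Subgroup.index_dvd_of_le (le_inertia hBn (IsIrr.isClass hψ))
      rcases (Nat.dvd_prime hp).mp h3 with h | h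
      · exact absurd (Subgroup.index_eq_one.mp h) hT
      · exact h
    refine isMon_of_inner hχ (lamK lam) (key H lam hl) (d := n * Nat.card Q * ∏ x, (H x).index) ?_ ?_
    · rw [hcl, hdeg H lam hl, hidx]
      push_cast
      ring
    · rw [index_KH, mul_assoc]
      exact Nat.le_mul_of_pos_left _ hn1

end W

section Embed

open RegularWreathProduct

/-- Kaloujnine--Krasner embedding. -/
theorem exists_embed {G : Type u} [Group G] (N : Subgroup G) [N.Normal] :
    ∃ f : G →* RegularWreathProduct N (G ⧸ N), Function.Injective f := by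
  have hmem : ∀ (g : G) (q : G ⧸ N), (q.out)⁻¹ * g * (((g : G ⧸ N)⁻¹ * q).out) ∈ N := by
    intro g q
    rw [← QuotientGroup.eq_one_iff]
    rw [QuotientGroup.mk_mul, QuotientGroup.mk_mul, QuotientGroup.mk_inv, QuotientGroup.out_eq',
      QuotientGroup.out_eq']
    group
  refine ⟨{ toFun := fun g => ⟨fun q => ⟨(q.out)⁻¹ * g * (((g : G ⧸ N)⁻¹ * q).out), hmem g q⟩, (g : G ⧸ N)⟩,
            map_one' := ?_, map_mul' := ?_ }, ?_⟩
  · ext q
    · show (q.out)⁻¹ * 1 * (((1 : G) : G ⧸ N)⁻¹ * q).out = 1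
      rw [QuotientGroup.mk_one, inv_one, one_mul, mul_one, inv_mul_cancel]
    · rfl
  · intro g h
    ext q
    · show (q.out)⁻¹ * (g * h) * (((g * h : G) : G ⧸ N)⁻¹ * q).out =
        (q.out)⁻¹ * g * (((g : G ⧸ N)⁻¹ * q).out) *
          ((((g : G ⧸ N)⁻¹ * q).out)⁻¹ * h * (((h : G ⧸ N)⁻¹ * ((g : G ⧸ N)⁻¹ * q)).out))
      have h1 : (((g * h : G) : G ⧸ N)⁻¹ * q) = ((h : G ⧸ N)⁻¹ * ((g : G ⧸ N)⁻¹ * q)) := by
        rw [QuotientGroup.mk_mul]; group
      rw [h1]
      group
    · rfl
  · intro g h hgh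
    have h1 := congrArg RegularWreathProduct.right hgh
    have h2 := congrFun (congrArg RegularWreathProduct.left hgh) 1
    have h1' : (g : G ⧸ N) = (h : G ⧸ N) := h1
    have h3 : ((1 : G ⧸ N).out)⁻¹ * g * (((g : G ⧸ N)⁻¹ * 1).out) =
      ((1 : G ⧸ N).out)⁻¹ * h * (((h : G ⧸ N)⁻¹ * 1).out) := congrArg Subtype.val h2
    rw [h1'] at h3
    exact mul_left_cancel (mul_right_cancel h3)

/-- functoriality -/
theorem exists_map {D D' Q : Type u} [Group D] [Group D'] [Group Q] (f : D →* D')
    (hf : Function.Injective f) :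
    ∃ F : RegularWreathProduct D Q →* RegularWreathProduct D' Q, Function.Injective F := by
  refine ⟨{ toFun := fun w => ⟨fun x => f (w.left x), w.right⟩, map_one' := ?_, map_mul' := ?_ }, ?_⟩
  · ext q
    · exact map_one f
    · rfl
  · intro a b
    ext q
    · exact map_mul f _ _
    · rfl
  · intro a b hab
    have h1 := congrArg RegularWreathProduct.right hab
    have h2 := congrArg RegularWreathProduct.left hab
    ext q
    · exact hf (congrFun h2 q)
    · exact h1

theorem solvable_embeds (n : ℕ) : ∀ (G : Type u) [Group G] [Finite G], Nat.card G ≤ n →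
    Group.IsSolvable G → ∃ (M : Type u) (_ : Group M) (_ : Fintype M),
      (∀ χ : M → ℂ, IsIrrCharacter M χ → IsMon χ) ∧ ∃ f : G →* M, Function.Injective f := by
  classical
  induction n with
  | zero =>
    intro G _ _ hc
    have : 0 < Nat.card G := Nat.card_pos
    omega
  | succ n ih =>
    intro G _ _ hc hs
    rcases subsingleton_or_nontrivial G with hG | hG
    · have := Fintype.ofFinite G
      refine ⟨G, inferInstance, inferInstance, fun χ hχ => IsMon.of_one hχ
        (IsIrr.one_of_comm (fun a b => Subsingleton.elim _ _) hχ), MonoidHom.id G, fun a b h => h⟩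
    · obtain ⟨N, hN, hNp, -⟩ := Cfsg.Agent.H1.Basic.exists_normal_index_prime (G := G)
      have hcard : Nat.card N ≤ n := by
        have h1 := N.card_mul_index
        have h2 := hNp.two_le
        have h3 : 0 < Nat.card N := Nat.card_pos
        nlinarith
      obtain ⟨M, hMg, hMf, hM, f, hf⟩ := ih N hcard inferInstance
      have hQf : Fintype (G ⧸ N) := Fintype.ofFinite _
      have hWf : Fintype (RegularWreathProduct M (G ⧸ N)) := Fintype.ofFinite _
      obtain ⟨F1, hF1⟩ := exists_embed N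
      obtain ⟨F2, hF2⟩ := exists_map (Q := G ⧸ N) f hf
      refine ⟨RegularWreathProduct M (G ⧸ N), inferInstance, hWf, ?_, F2.comp F1, hF2.comp hF1⟩
      intro χ hχ
      have hp : (Nat.card (G ⧸ N)).Prime := hNp
      have : Fact (Nat.card (G ⧸ N)).Prime := ⟨hp⟩
      have hcyc : IsCyclic (G ⧸ N) := isCyclic_of_prime_card rfl
      have hcomm : ∀ a b : G ⧸ N, a * b = b * a := by
        have := hcyc.commGroup
        intro a b
        exact (IsCyclic.commGroup (α := G ⧸ N)).mul_comm a b
      exact wreath_mon hp hcomm hM χ hχ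

end Embed

end Cfsg.Agent.H3.Wreath
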