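import Mathlib

/-!
Minimal non-soluble groups: the Frattini subgroup and the centre.
-/

set_option autoImplicit false

namespace Cfsg.Agent.H4.CVL6

theorem L6 {G : Type*} [Group G] [Finite G] (_hsol : ∀ H : Subgroup G, H ≠ ⊤ → Group.IsSolvable H) (hns : ¬ Group.IsSolvable G)
    (hcen : ∀ N : Subgroup G, N.Normal → N ≠ ⊤ → N ≤ Subgroup.center G) :
    IsSimpleGroup (G ⧸ Subgroup.center G) := by
  have hne : Subgroup.center G ≠ ⊤ := by
    intro h
    apply hns
    exact Group.isSolvable_of_comm (fun a b => by
      have : b ∈ Subgroup.center G := by rw [h]; trivial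
      exact (Subgroup.mem_center_iff.1 this a))
  have : Nontrivial (G ⧸ Subgroup.center G) := by
    rw [QuotientGroup.nontrivial_iff]; exact hne
  refine ⟨fun N hN => ?_⟩
  have hNn : (N.comap (QuotientGroup.mk' (Subgroup.center G))).Normal := hN.comap _
  by_cases h : N.comap (QuotientGroup.mk' (Subgroup.center G)) = ⊤
  · right
    rw [eq_top_iff]
    intro g _
    obtain ⟨g, rfl⟩ := QuotientGroup.mk'_surjective _ g
    have : g ∈ N.comap (QuotientGroup.mk' (Subgroup.center G)) := by rw [h]; trivial
    exact this
  · left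
    rw [eq_bot_iff]
    intro g hg
    obtain ⟨g, rfl⟩ := QuotientGroup.mk'_surjective _ g
    have h1 : g ∈ Subgroup.center G := hcen _ hNn h hg
    exact (QuotientGroup.eq_one_iff g).2 h1

theorem L7 {G : Type*} [Group G] [Finite G] (hsol : ∀ H : Subgroup G, H ≠ ⊤ → Group.IsSolvable H) (hns : ¬ Group.IsSolvable G) :
    ∃ F : Subgroup G, F.Normal ∧ F ≠ ⊤ ∧ Group.IsNilpotent F ∧
      ∀ N : Subgroup G, N.Normal → N ≠ ⊤ → N ≤ F := by
  have hnt : Nontrivial G := by
    by_contra h
    rw [not_nontrivial_iff_subsingleton] at h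
    exact hns inferInstance
  have hnil : Group.IsNilpotent (frattini G) := frattini_nilpotent
  refine ⟨frattini G, inferInstance, ?_, hnil, ?_⟩
  · intro h
    apply hns
    have h1 : Group.IsSolvable (frattini G) := inferInstance
    have h2 : Function.Injective ((MonoidHom.id G).codRestrict (frattini G) (fun x => by rw [h]; trivial)) := by
      intro a b hab
      exact congrArg Subtype.val hab
    exact Group.isSolvable_of_isSolvable_injective h2
  · intro N hN hNt
    by_contra hle
    have hex : ∃ M : Subgroup G, IsCoatom M ∧ ¬ N ≤ M := by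
      by_contra hcon
      push Not at hcon
      apply hle
      unfold frattini Order.radical
      refine le_iInf₂ fun M hM => hcon M hM
    obtain ⟨M, hM, hNM⟩ := hex
    have htop : M ⊔ N = ⊤ := by
      apply hM.2
      exact lt_of_le_of_ne le_sup_left (fun h => hNM (by rw [h]; exact le_sup_right))
    have h1 : Group.IsSolvable N := hsol N hNt
    have h2 : Group.IsSolvable M := hsol M hM.1
    apply hns
    let f : M →* G ⧸ N := (QuotientGroup.mk' N).comp M.subtype
    have hf : Function.Surjective f := by
      intro g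
      obtain ⟨g, rfl⟩ := QuotientGroup.mk'_surjective N g
      have hg : g ∈ M ⊔ N := by rw [htop]; trivial
      obtain ⟨m, hm, x, hx, rfl⟩ := Subgroup.mem_sup_of_normal_right.1 hg
      refine ⟨⟨m, hm⟩, ?_⟩
      show QuotientGroup.mk' N m = QuotientGroup.mk' N (m * x)
      rw [map_mul, (show QuotientGroup.mk' N x = 1 from (QuotientGroup.eq_one_iff x).2 hx), mul_one]
    have h3 : Group.IsSolvable (G ⧸ N) := Group.isSolvable_of_surjective hf
    exact Group.isSolvable_of_ker_le_range N.subtype (QuotientGroup.mk' N) (by
      rw [QuotientGroup.ker_mk', Subgroup.range_subtype])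

end Cfsg.Agent.H4.CVL6
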