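import Cfsg.Agent.H4_MfR

set_option autoImplicit false
set_option maxRecDepth 1000000

namespace Cfsg.Agent.H4.MfA

open Cfsg.Agent.H8 Cfsg.Agent.H8.CE Cfsg.Agent.H8.Net Cfsg.Agent.H8.Act

def n1 : Nt := (.st (nat_lit 32) (nat_lit 0x1fa00002)
  (.st (nat_lit 16) (nat_lit 0x17a000000080)
  (.st (nat_lit 8) (nat_lit 0x1c00e00000)
  (.st (nat_lit 4) (nat_lit 0x20f000a0008)
  (.st (nat_lit 2) (nat_lit 0x200012000200003)
  (.st (nat_lit 1) (nat_lit 0x100101100410000)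
  (.st (nat_lit 2) (nat_lit 0x200000200200000)
  (.st (nat_lit 4) (nat_lit 0x20000020008)
  (.st (nat_lit 8) (nat_lit 0x1c00e00000)
  (.st (nat_lit 16) (nat_lit 0x17a000000080)
  (.st (nat_lit 32) (nat_lit 0x1f200000)
  .nil)))))))))))

def n2 : Nt := (.st (nat_lit 16) (nat_lit 0x6000)
  (.st (nat_lit 8) (nat_lit 0x700000)
  (.st (nat_lit 4) (nat_lit 0x80004020000)
  (.st (nat_lit 2) (nat_lit 0x210201200000)
  (.st (nat_lit 1) (nat_lit 0x40005010450004)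
  (.st (nat_lit 2) (nat_lit 0x200000)
  (.st (nat_lit 4) (nat_lit 0x80004020000)
  (.st (nat_lit 8) (nat_lit 0x700000)
  (.st (nat_lit 16) (nat_lit 0x6000)
  .nil)))))))))

def n3 : Nt := (.st (nat_lit 16) (nat_lit 0x8000)
  (.st (nat_lit 8) (nat_lit 0xa000a00000)
  (.st (nat_lit 4) (nat_lit 0xc0400080808)
  (.st (nat_lit 2) (nat_lit 0x20123020003020)
  (.st (nat_lit 1) (nat_lit 0x40000101040010)
  (.st (nat_lit 2) (nat_lit 0x20000000000020)
  (.st (nat_lit 4) (nat_lit 0xc0400080808)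
  (.st (nat_lit 8) (nat_lit 0xa000a00000)
  (.st (nat_lit 16) (nat_lit 0x8000)
  .nil)))))))))

def n4 : Nt := (.st (nat_lit 32) (nat_lit 0x80000000)
  (.st (nat_lit 16) (nat_lit 0x800100000000)
  (.st (nat_lit 8) (nat_lit 0x8000a000000000)
  (.st (nat_lit 4) (nat_lit 0x80008000c0400)
  (.st (nat_lit 2) (nat_lit 0x2301202301200)
  (.st (nat_lit 1) (nat_lit 0x11000104000010)
  (.st (nat_lit 2) (nat_lit 0x2000202000000)
  (.st (nat_lit 4) (nat_lit 0x80008000c0400)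
  (.st (nat_lit 8) (nat_lit 0x8000a000000000)
  (.st (nat_lit 32) (nat_lit 0x80000000)
  .nil))))))))))

def n5 : Nt := (.st (nat_lit 16) (nat_lit 0xd000)
  (.st (nat_lit 8) (nat_lit 0xc0004000e0)
  (.st (nat_lit 4) (nat_lit 0x8060000040800)
  (.st (nat_lit 2) (nat_lit 0x21010020022200)
  (.st (nat_lit 1) (nat_lit 0x10500014004040)
  (.st (nat_lit 2) (nat_lit 0x20000020002000)
  (.st (nat_lit 4) (nat_lit 0x8060000000800)
  (.st (nat_lit 8) (nat_lit 0xc0004000e0)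
  (.st (nat_lit 16) (nat_lit 0xd000)
  .nil)))))))))

def n6 : Nt := (.st (nat_lit 16) (nat_lit 0x400000000000)
  (.st (nat_lit 8) (nat_lit 0x40000000000060)
  (.st (nat_lit 4) (nat_lit 0x4040008000e00)
  (.st (nat_lit 2) (nat_lit 0x3320030003120)
  (.st (nat_lit 1) (nat_lit 0x510050015040)
  (.st (nat_lit 2) (nat_lit 0x20000000020)
  (.st (nat_lit 4) (nat_lit 0x4040008000e00)
  (.st (nat_lit 8) (nat_lit 0x40000000000060)
  (.st (nat_lit 16) (nat_lit 0x400000000000)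
  .nil)))))))))

def n7 : Nt := (.st (nat_lit 16) (nat_lit 0x400000000000)
  (.st (nat_lit 8) (nat_lit 0x40000000a00040)
  (.st (nat_lit 4) (nat_lit 0x4000202000200)
  (.st (nat_lit 2) (nat_lit 0x13000320102120)
  (.st (nat_lit 1) (nat_lit 0x5001001004000)
  (.st (nat_lit 2) (nat_lit 0x2000)
  (.st (nat_lit 4) (nat_lit 0x4000202000200)
  (.st (nat_lit 8) (nat_lit 0x40000000a00040)
  (.st (nat_lit 16) (nat_lit 0x400000000000)
  .nil)))))))))

def n16 : Nt := (.st (nat_lit 32) (nat_lit 0x80000000)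
  (.st (nat_lit 16) (nat_lit 0xf40000008000)
  (.st (nat_lit 8) (nat_lit 0xa400a800a80020)
  (.st (nat_lit 4) (nat_lit 0x40b020d02040700)
  (.st (nat_lit 2) (nat_lit 0x1003201020100320)
  (.st (nat_lit 1) (nat_lit 0x1011000505400050)
  (.st (nat_lit 4) (nat_lit 0x4080c00000008)
  (.st (nat_lit 8) (nat_lit 0xb000a800a80008)
  (.st (nat_lit 16) (nat_lit 0xf40000008000)
  (.st (nat_lit 32) (nat_lit 0x80000000)
  .nil))))))))))

def n17 : Nt := (.st (nat_lit 32) (nat_lit 0xe0000000)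
  (.st (nat_lit 16) (nat_lit 0xb00100000410)
  (.st (nat_lit 8) (nat_lit 0xd00015001600d2)
  (.st (nat_lit 4) (nat_lit 0xf04000f02090a)
  (.st (nat_lit 2) (nat_lit 0x1020332110001122)
  (.st (nat_lit 1) (nat_lit 0x1014410140111450)
  (.st (nat_lit 2) (nat_lit 0x20020200000)
  (.st (nat_lit 4) (nat_lit 0x80a040e080002)
  (.st (nat_lit 8) (nat_lit 0xe00092001800e2)
  (.st (nat_lit 16) (nat_lit 0x500000000100)
  (.st (nat_lit 32) (nat_lit 0xe0000000)
  .nil)))))))))))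

def n18 : Nt := (.st (nat_lit 32) (nat_lit 0x80000000)
  (.st (nat_lit 16) (nat_lit 0xd00000000000)
  (.st (nat_lit 8) (nat_lit 0xf400a800a80040)
  (.st (nat_lit 4) (nat_lit 0x40a00090a040b00)
  (.st (nat_lit 2) (nat_lit 0x1012201221102120)
  (.st (nat_lit 1) (nat_lit 0x1011000505004010)
  (.st (nat_lit 2) (nat_lit 0x2000000000000)
  (.st (nat_lit 4) (nat_lit 0x402080c00000a00)
  (.st (nat_lit 8) (nat_lit 0xf400a800a80040)
  (.st (nat_lit 16) (nat_lit 0xd00000000000)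
  (.st (nat_lit 32) (nat_lit 0x80000000)
  .nil)))))))))))

def n19 : Nt := (.st (nat_lit 32) (nat_lit 0xe0000000)
  (.st (nat_lit 16) (nat_lit 0xa5f900006000)
  (.st (nat_lit 8) (nat_lit 0xf100ea00c10084)
  (.st (nat_lit 4) (nat_lit 0xb020a0a000e0800)
  (.st (nat_lit 2) (nat_lit 0x1203201330300230)
  (.st (nat_lit 1) (nat_lit 0x440101554000040)
  (.st (nat_lit 2) (nat_lit 0x2002000000)
  (.st (nat_lit 4) (nat_lit 0xa06080a00080004)
  (.st (nat_lit 8) (nat_lit 0xb000e000c00094)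
  (.st (nat_lit 16) (nat_lit 0x25f800006000)
  (.st (nat_lit 32) (nat_lit 0xe0000000)
  .nil)))))))))))

def n20 : Nt := (.st (nat_lit 16) (nat_lit 0xd000)
  (.st (nat_lit 8) (nat_lit 0xc0004000e0)
  (.st (nat_lit 4) (nat_lit 0x8060000040800)
  (.st (nat_lit 2) (nat_lit 0x21010020022200)
  (.st (nat_lit 1) (nat_lit 0x10500014004040)
  (.st (nat_lit 2) (nat_lit 0x20000020002000)
  (.st (nat_lit 4) (nat_lit 0x8060000000800)
  (.st (nat_lit 8) (nat_lit 0xc0004000e0)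
  (.st (nat_lit 16) (nat_lit 0xd000)
  .nil)))))))))

def n21 : Nt := (.st (nat_lit 16) (nat_lit 0x400000000000)
  (.st (nat_lit 8) (nat_lit 0x40000000a00040)
  (.st (nat_lit 4) (nat_lit 0x4000202000200)
  (.st (nat_lit 2) (nat_lit 0x13000320102120)
  (.st (nat_lit 1) (nat_lit 0x5001001004000)
  (.st (nat_lit 2) (nat_lit 0x2000)
  (.st (nat_lit 4) (nat_lit 0x4000202000200)
  (.st (nat_lit 8) (nat_lit 0x40000000a00040)
  (.st (nat_lit 16) (nat_lit 0x400000000000)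
  .nil)))))))))

def n22 : Nt := (.st (nat_lit 16) (nat_lit 0x400000000000)
  (.st (nat_lit 8) (nat_lit 0x40000000000060)
  (.st (nat_lit 4) (nat_lit 0x4040008000e00)
  (.st (nat_lit 2) (nat_lit 0x3320030003120)
  (.st (nat_lit 1) (nat_lit 0x510050015040)
  (.st (nat_lit 2) (nat_lit 0x20000000020)
  (.st (nat_lit 4) (nat_lit 0x4040008000e00)
  (.st (nat_lit 8) (nat_lit 0x40000000000060)
  (.st (nat_lit 16) (nat_lit 0x400000000000)
  .nil)))))))))

def n23 : Nt := (.st (nat_lit 16) (nat_lit 0x400000000000)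
  (.st (nat_lit 8) (nat_lit 0x40000000000060)
  (.st (nat_lit 4) (nat_lit 0x4040008000e00)
  (.st (nat_lit 2) (nat_lit 0x3320030003120)
  (.st (nat_lit 1) (nat_lit 0x510050015040)
  (.st (nat_lit 2) (nat_lit 0x20000000020)
  (.st (nat_lit 4) (nat_lit 0x4040008000e00)
  (.st (nat_lit 8) (nat_lit 0x40000000000060)
  (.st (nat_lit 16) (nat_lit 0x400000000000)
  .nil)))))))))

def L : List Nt := [.nil, n1, n2, n3, n4, n5, n6, n7, .nil, .nil, .nil, .nil, .nil, .nil, .nil, .nil, n16, n17, n18, n19, n20, n21, n22, n23]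

theorem sys : sysOk L (nat_lit 56) = true := by decide +kernel

theorem inv_ok : invOk L (nat_lit 56) (nat_lit 6) Cfsg.Agent.H4.MfR.ic = true := by decide +kernel

theorem rel_ok : eqAll L (nat_lit 56) (nat_lit 6) (Cfsg.Agent.H4.MfR.rels.map fun w => (w, [])) = true := by decide +kernel

def sg : List (List ℕ) := [[7, 6, 3, 6, 4, 5, 5, 3, 7, 4, 7, 2, 5, 2, 5],
  [7, 6, 6, 2, 2, 6, 7, 3, 5, 4, 5, 6, 6, 2, 4, 2, 4, 5],
  [17, 17, 16, 16, 16, 17, 16, 17, 16, 16, 16, 17, 17, 16, 17, 17],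
  [16, 16, 16, 17, 16, 17, 16, 17, 16, 16, 17, 17, 17],
  [18, 19, 19, 19, 18, 18, 18, 18, 19, 18, 19, 19, 19, 19, 19, 18],
  [19, 18, 19, 19, 19, 18, 19, 19, 18, 19, 18, 19, 18, 19, 19, 18, 18, 19, 18, 19, 19, 18],
  [19, 19, 18, 19, 19, 19, 18, 19, 19, 18, 18],
  [20, 21, 21, 22, 21, 20, 22, 21, 20]]

theorem sg_ok : sgB L (nat_lit 56) (nat_lit 6) sg 16 = true := by decide +kernel

def levs : List Lev := [⟨[1, 2, 3, 4, 5, 6, 7], 9, 0, 56⟩,
  ⟨[2, 3, 4, 5, 6, 7], 4, 2, 27⟩,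
  ⟨[16, 17], 3, 3, 16⟩,
  ⟨[18, 19], 3, 4, 10⟩,
  ⟨[20, 21, 22], 1, 5, 6⟩,
  ⟨[23], 1, 6, 2⟩]

theorem chain : chainB L (nat_lit 56) (nat_lit 6) levs [] = true := by decide +kernel

theorem prodM_levs : prodM levs = 2903040 := by decide +kernel

theorem cox18 : eqW L (nat_lit 56) (nat_lit 6) (powW [1, 2, 3, 4, 5, 6, 7] 18) [] = true := by decide +kernel

theorem cen : (List.range 8).all (fun y => eqW L (nat_lit 56) (nat_lit 6) (powW [1, 2, 3, 4, 5, 6, 7] 9 ++ [y]) (y :: powW [1, 2, 3, 4, 5, 6, 7] 9)) = true := by decide +kernel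

theorem trans : reachIv L [1, 2, 3, 4, 5, 6, 7] 9 (nat_lit 0) (nat_lit 0) (nat_lit 56) = true := by decide +kernel

theorem hfix : fixP L [2, 3, 4, 5, 6, 7] [nat_lit 0] = true := by decide +kernel

def ods : List (ℕ × ℕ × ℕ) := [(27, 8, 29), (27, 4, 2), (1, 0, 1)]

theorem orbs : orbB L (nat_lit 56) [2, 3, 4, 5, 6, 7] ods = true := by decide +kernel


end Cfsg.Agent.H4.MfA
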