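import Cfsg.Agent.H4_MfR

set_option autoImplicit false
set_option maxRecDepth 1000000

namespace Cfsg.Agent.H4.MfB

open Cfsg.Agent.H8 Cfsg.Agent.H8.CE Cfsg.Agent.H8.Net Cfsg.Agent.H8.Act

def n1 : Nt := (.st (nat_lit 16) (nat_lit 0x8000)
  (.st (nat_lit 8) (nat_lit 0x140000)
  (.st (nat_lit 4) (nat_lit 0x9000000)
  (.st (nat_lit 2) (nat_lit 0x2010000)
  (.st (nat_lit 1) (nat_lit 0x4400001)
  (.st (nat_lit 2) (nat_lit 0x2000000)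
  (.st (nat_lit 8) (nat_lit 0x140000)
  (.st (nat_lit 16) (nat_lit 0x8000)
  .nil))))))))

def n2 : Nt := (.st (nat_lit 16) (nat_lit 0x2000)
  (.st (nat_lit 8) (nat_lit 0xa00000)
  (.st (nat_lit 4) (nat_lit 0xe0000)
  (.st (nat_lit 2) (nat_lit 0x20302002)
  (.st (nat_lit 1) (nat_lit 0x511004)
  (.st (nat_lit 2) (nat_lit 0x2002)
  (.st (nat_lit 4) (nat_lit 0xe0000)
  (.st (nat_lit 8) (nat_lit 0xa00000)
  (.st (nat_lit 16) (nat_lit 0x2000)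
  .nil)))))))))

def n3 : Nt := (.st (nat_lit 16) (nat_lit 0x4000)
  (.st (nat_lit 8) (nat_lit 0xd00000)
  (.st (nat_lit 4) (nat_lit 0x8040c00)
  (.st (nat_lit 2) (nat_lit 0x12023000)
  (.st (nat_lit 1) (nat_lit 0x1040004)
  (.st (nat_lit 2) (nat_lit 0x2020000)
  (.st (nat_lit 4) (nat_lit 0x8040c00)
  (.st (nat_lit 8) (nat_lit 0xd00000)
  (.st (nat_lit 16) (nat_lit 0x4000)
  .nil)))))))))

def n4 : Nt := (.st (nat_lit 4) (nat_lit 0x40008)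
  (.st (nat_lit 2) (nat_lit 0x120320)
  (.st (nat_lit 1) (nat_lit 0x1000010)
  (.st (nat_lit 2) (nat_lit 0x20)
  (.st (nat_lit 4) (nat_lit 0x40008)
  .nil)))))

def n5 : Nt := (.st (nat_lit 16) (nat_lit 0x2000)
  (.st (nat_lit 8) (nat_lit 0x200048)
  (.st (nat_lit 4) (nat_lit 0x20408)
  (.st (nat_lit 2) (nat_lit 0x2010100)
  (.st (nat_lit 1) (nat_lit 0x4000050)
  (.st (nat_lit 2) (nat_lit 0x2000000)
  (.st (nat_lit 4) (nat_lit 0x408)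
  (.st (nat_lit 8) (nat_lit 0x200048)
  (.st (nat_lit 16) (nat_lit 0x2000)
  .nil)))))))))

def n6 : Nt := (.st (nat_lit 16) (nat_lit 0x8000)
  (.st (nat_lit 8) (nat_lit 0x800000)
  (.st (nat_lit 4) (nat_lit 0x80000)
  (.st (nat_lit 2) (nat_lit 0x20020)
  (.st (nat_lit 1) (nat_lit 0x4011500)
  (.st (nat_lit 2) (nat_lit 0x20000)
  (.st (nat_lit 4) (nat_lit 0x80000)
  (.st (nat_lit 8) (nat_lit 0x800000)
  (.st (nat_lit 16) (nat_lit 0x8000)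
  .nil)))))))))

def n7 : Nt := (.st (nat_lit 8) (nat_lit 0x4000a0)
  (.st (nat_lit 4) (nat_lit 0x4020200)
  (.st (nat_lit 2) (nat_lit 0x1222010)
  (.st (nat_lit 1) (nat_lit 0x100100)
  (.st (nat_lit 2) (nat_lit 0x200000)
  (.st (nat_lit 4) (nat_lit 0x4020200)
  (.st (nat_lit 8) (nat_lit 0x4000a0)
  .nil)))))))

def n16 : Nt := (.st (nat_lit 16) (nat_lit 0x4000)
  (.st (nat_lit 8) (nat_lit 0xd40090)
  (.st (nat_lit 4) (nat_lit 0x90a0308)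
  (.st (nat_lit 2) (nat_lit 0x13000320)
  (.st (nat_lit 1) (nat_lit 0x5400050)
  (.st (nat_lit 2) (nat_lit 0x200000)
  (.st (nat_lit 4) (nat_lit 0x808080c)
  (.st (nat_lit 8) (nat_lit 0xd40084)
  (.st (nat_lit 16) (nat_lit 0x4000)
  .nil)))))))))

def n17 : Nt := (.st (nat_lit 16) (nat_lit 0x8208)
  (.st (nat_lit 8) (nat_lit 0x8b0016)
  (.st (nat_lit 4) (nat_lit 0x8080104)
  (.st (nat_lit 2) (nat_lit 0x3123300)
  (.st (nat_lit 1) (nat_lit 0x1414114)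
  (.st (nat_lit 2) (nat_lit 0x22222)
  (.st (nat_lit 4) (nat_lit 0x40008)
  (.st (nat_lit 8) (nat_lit 0x8c000e)
  (.st (nat_lit 16) (nat_lit 0x8080)
  .nil)))))))))

def n18 : Nt := (.st (nat_lit 8) (nat_lit 0x4000a0)
  (.st (nat_lit 4) (nat_lit 0x4040a08)
  (.st (nat_lit 2) (nat_lit 0x1122330)
  (.st (nat_lit 1) (nat_lit 0x1400410)
  (.st (nat_lit 2) (nat_lit 0x220)
  (.st (nat_lit 4) (nat_lit 0x4060208)
  (.st (nat_lit 8) (nat_lit 0x4000a0)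
  .nil)))))))

def n19 : Nt := (.st (nat_lit 16) (nat_lit 0xb000)
  (.st (nat_lit 8) (nat_lit 0xe00042)
  (.st (nat_lit 4) (nat_lit 0x80f0408)
  (.st (nat_lit 2) (nat_lit 0x1300110)
  (.st (nat_lit 1) (nat_lit 0x51000040)
  (.st (nat_lit 2) (nat_lit 0x20)
  (.st (nat_lit 4) (nat_lit 0x80c000a)
  (.st (nat_lit 8) (nat_lit 0x60004a)
  (.st (nat_lit 16) (nat_lit 0xb000)
  .nil)))))))))

def n20 : Nt := (.st (nat_lit 16) (nat_lit 0x2000)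
  (.st (nat_lit 8) (nat_lit 0x200048)
  (.st (nat_lit 4) (nat_lit 0x20408)
  (.st (nat_lit 2) (nat_lit 0x2010100)
  (.st (nat_lit 1) (nat_lit 0x4000050)
  (.st (nat_lit 2) (nat_lit 0x2000000)
  (.st (nat_lit 4) (nat_lit 0x408)
  (.st (nat_lit 8) (nat_lit 0x200048)
  (.st (nat_lit 16) (nat_lit 0x2000)
  .nil)))))))))

def n21 : Nt := (.st (nat_lit 8) (nat_lit 0x4000a0)
  (.st (nat_lit 4) (nat_lit 0x4020200)
  (.st (nat_lit 2) (nat_lit 0x1222010)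
  (.st (nat_lit 1) (nat_lit 0x100100)
  (.st (nat_lit 2) (nat_lit 0x200000)
  (.st (nat_lit 4) (nat_lit 0x4020200)
  (.st (nat_lit 8) (nat_lit 0x4000a0)
  .nil)))))))

def n22 : Nt := (.st (nat_lit 16) (nat_lit 0x8000)
  (.st (nat_lit 8) (nat_lit 0x800000)
  (.st (nat_lit 4) (nat_lit 0x80000)
  (.st (nat_lit 2) (nat_lit 0x20020)
  (.st (nat_lit 1) (nat_lit 0x4011500)
  (.st (nat_lit 2) (nat_lit 0x20000)
  (.st (nat_lit 4) (nat_lit 0x80000)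
  (.st (nat_lit 8) (nat_lit 0x800000)
  (.st (nat_lit 16) (nat_lit 0x8000)
  .nil)))))))))

def n23 : Nt := (.st (nat_lit 16) (nat_lit 0x8000)
  (.st (nat_lit 8) (nat_lit 0x800000)
  (.st (nat_lit 4) (nat_lit 0x80000)
  (.st (nat_lit 2) (nat_lit 0x20020)
  (.st (nat_lit 1) (nat_lit 0x4011500)
  (.st (nat_lit 2) (nat_lit 0x20000)
  (.st (nat_lit 4) (nat_lit 0x80000)
  (.st (nat_lit 8) (nat_lit 0x800000)
  (.st (nat_lit 16) (nat_lit 0x8000)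
  .nil)))))))))

def L : List Nt := [.nil, n1, n2, n3, n4, n5, n6, n7, .nil, .nil, .nil, .nil, .nil, .nil, .nil, .nil, n16, n17, n18, n19, n20, n21, n22, n23]

theorem sys : sysOk L (nat_lit 28) = true := by decide +kernel

theorem inv_ok : invOk L (nat_lit 28) (nat_lit 5) Cfsg.Agent.H4.MfS.ic = true := by decide +kernel

theorem rel_ok : eqAll L (nat_lit 28) (nat_lit 5) (Cfsg.Agent.H4.MfS.rels.map fun w => (w, [])) = true := by decide +kernel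

def sg : List (List ℕ) := [[7, 6, 3, 6, 4, 5, 5, 3, 7, 4, 7, 2, 5, 2, 5],
  [7, 6, 6, 2, 2, 6, 7, 3, 5, 4, 5, 6, 6, 2, 4, 2, 4, 5],
  [17, 17, 16, 16, 16, 17, 16, 17, 16, 16, 16, 17, 17, 16, 17, 17],
  [16, 16, 16, 17, 16, 17, 16, 17, 16, 16, 17, 17, 17],
  [18, 19, 19, 19, 18, 18, 18, 18, 19, 18, 19, 19, 19, 19, 19, 18],
  [19, 18, 19, 19, 19, 18, 19, 19, 18, 19, 18, 19, 18, 19, 19, 18, 18, 19, 18, 19, 19, 18],
  [19, 19, 18, 19, 19, 19, 18, 19, 19, 18, 18],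
  [20, 21, 21, 22, 21, 20, 22, 21, 20]]

theorem sg_ok : sgB L (nat_lit 28) (nat_lit 5) sg 16 = true := by decide +kernel

def levs : List Lev := [⟨[1, 2, 3, 4, 5, 6, 7], 4, 0, 28⟩,
  ⟨[2, 3, 4, 5, 6, 7], 4, 1, 27⟩,
  ⟨[16, 17], 3, 2, 16⟩,
  ⟨[18, 19], 3, 3, 10⟩,
  ⟨[20, 21, 22], 1, 4, 6⟩,
  ⟨[23], 1, 5, 2⟩]

theorem chain : chainB L (nat_lit 28) (nat_lit 5) levs [] = true := by decide +kernel

theorem prodM_levs : prodM levs = 1451520 := by decide +kernel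

theorem trans : reachIv L [1, 2, 3, 4, 5, 6, 7] 4 (nat_lit 0) (nat_lit 0) (nat_lit 28) = true := by decide +kernel

theorem hfix : fixP L [2, 3, 4, 5, 6, 7] [nat_lit 0] = true := by decide +kernel

def ods : List (ℕ × ℕ × ℕ) := [(27, 4, 1)]

theorem orbs : orbB L (nat_lit 28) [2, 3, 4, 5, 6, 7] ods = true := by decide +kernel

def pws : List (ℕ × List ℕ) := [(1, [3, 6, 1, 2, 3, 1, 5, 4, 3, 7, 5, 2, 4]),
  (2, [4, 3, 6, 4, 1, 5, 2, 4, 3, 2, 7]),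
  (3, [6, 4, 1, 3, 2, 5, 4, 7]),
  (4, [6, 7, 5, 1, 4, 3, 7, 2]),
  (5, [1, 7, 4, 3, 5, 6, 2, 4]),
  (6, [1, 3, 5, 7, 4, 3, 6, 5, 2, 4]),
  (7, [2, 4, 5, 3, 4, 6, 5, 1])]

theorem pw_ok : pwB L (nat_lit 28) (nat_lit 5) Cfsg.Agent.H4.MfS.ic 7 pws = true := by decide +kernel


end Cfsg.Agent.H4.MfB
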