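import Cfsg.Agent.H8_CS

set_option autoImplicit false
set_option maxRecDepth 1000000

namespace Cfsg.Agent.H4.MfQb

open Cfsg.Agent.H8 Cfsg.Agent.H8.CE Cfsg.Agent.H8.CS

def ic : ℕ := nat_lit 1985229328

def rels : List (List ℕ) := [[nat_lit 1, nat_lit 2, nat_lit 1, nat_lit 2, nat_lit 1, nat_lit 2],
  [nat_lit 1, nat_lit 3, nat_lit 1, nat_lit 3],
  [nat_lit 1, nat_lit 4, nat_lit 1, nat_lit 4],
  [nat_lit 1, nat_lit 5, nat_lit 1, nat_lit 5],
  [nat_lit 1, nat_lit 6, nat_lit 1, nat_lit 6],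
  [nat_lit 1, nat_lit 7, nat_lit 1, nat_lit 7],
  [nat_lit 2, nat_lit 3, nat_lit 2, nat_lit 3, nat_lit 2, nat_lit 3],
  [nat_lit 2, nat_lit 4, nat_lit 2, nat_lit 4],
  [nat_lit 2, nat_lit 5, nat_lit 2, nat_lit 5],
  [nat_lit 2, nat_lit 6, nat_lit 2, nat_lit 6],
  [nat_lit 2, nat_lit 7, nat_lit 2, nat_lit 7],
  [nat_lit 3, nat_lit 4, nat_lit 3, nat_lit 4, nat_lit 3, nat_lit 4],
  [nat_lit 3, nat_lit 5, nat_lit 3, nat_lit 5],
  [nat_lit 3, nat_lit 6, nat_lit 3, nat_lit 6, nat_lit 3, nat_lit 6],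
  [nat_lit 3, nat_lit 7, nat_lit 3, nat_lit 7],
  [nat_lit 4, nat_lit 5, nat_lit 4, nat_lit 5, nat_lit 4, nat_lit 5],
  [nat_lit 4, nat_lit 6, nat_lit 4, nat_lit 6],
  [nat_lit 4, nat_lit 7, nat_lit 4, nat_lit 7],
  [nat_lit 5, nat_lit 6, nat_lit 5, nat_lit 6],
  [nat_lit 5, nat_lit 7, nat_lit 5, nat_lit 7],
  [nat_lit 6, nat_lit 7, nat_lit 6, nat_lit 7, nat_lit 6, nat_lit 7],
  [nat_lit 3, nat_lit 4, nat_lit 5, nat_lit 3, nat_lit 2, nat_lit 1, nat_lit 3, nat_lit 6, nat_lit 7, nat_lit 3, nat_lit 4, nat_lit 5, nat_lit 3, nat_lit 2, nat_lit 1, nat_lit 3, nat_lit 6, nat_lit 7, nat_lit 3, nat_lit 4, nat_lit 5, nat_lit 3, nat_lit 2, nat_lit 1, nat_lit 3, nat_lit 6, nat_lit 7, nat_lit 3, nat_lit 4, nat_lit 5, nat_lit 3, nat_lit 2, nat_lit 1, nat_lit 3, nat_lit 6, nat_lit 7, nat_lit 3, nat_lit 4, nat_lit 5, nat_lit 3, nat_lit 2, nat_lit 1, nat_lit 3, nat_lit 6, nat_lit 7, nat_lit 3, nat_lit 4, nat_lit 5, nat_lit 3, nat_lit 2, nat_lit 1, nat_lit 3,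 nat_lit 6, nat_lit 7, nat_lit 3, nat_lit 4, nat_lit 5, nat_lit 3, nat_lit 2, nat_lit 1, nat_lit 3, nat_lit 6, nat_lit 7, nat_lit 3, nat_lit 4, nat_lit 5, nat_lit 3, nat_lit 2, nat_lit 1, nat_lit 3, nat_lit 6, nat_lit 7, nat_lit 3, nat_lit 4, nat_lit 5, nat_lit 3, nat_lit 2, nat_lit 1, nat_lit 3, nat_lit 6, nat_lit 7, nat_lit 3, nat_lit 4, nat_lit 5, nat_lit 3, nat_lit 2, nat_lit 1, nat_lit 3, nat_lit 6, nat_lit 7]]

def lets : Wd := (.cons (nat_lit 1) (nat_lit 0x100000) (.cons (nat_lit 2) (nat_lit 0x200000) (.cons (nat_lit 3) (nat_lit 0x300000) (.cons (nat_lit 4) (nat_lit 0x400000) (.cons (nat_lit 5) (nat_lit 0x500000) (.cons (nat_lit 6) (nat_lit 0x600000) (.cons (nat_lit 7) (nat_lit 0x700000) .nil)))))))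

def L : List ℕ := [nat_lit 1, nat_lit 2, nat_lit 3, nat_lit 4, nat_lit 5, nat_lit 6]

def rt : RS :=
 (.nd (nat_lit 56)
 (.nd (nat_lit 30)
 (.nd (nat_lit 8)
 (.nd (nat_lit 3)
 (.nd (nat_lit 2)
 (.lf (nat_lit 9) (nat_lit 2) (nat_lit 2) (nat_lit 0x200000) (.cons (nat_lit 5) (nat_lit 0x500000) (.cons (nat_lit 2) (nat_lit 0x200000) (.cons (nat_lit 5) (nat_lit 0x500000) .nil))))
 (.lf (nat_lit 4) (nat_lit 2) (nat_lit 1) (nat_lit 0x100000) (.cons (nat_lit 5) (nat_lit 0x500000) (.cons (nat_lit 1) (nat_lit 0x100000) (.cons (nat_lit 5) (nat_lit 0x500000) .nil)))))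
 (.nd (nat_lit 5)
 (.nd (nat_lit 4)
 (.lf (nat_lit 11) (nat_lit 1) (nat_lit 7) (nat_lit 0x700000) (.cons (nat_lit 2) (nat_lit 0x200000) (.cons (nat_lit 7) (nat_lit 0x700000) (.cons (nat_lit 2) (nat_lit 0x200000) .nil))))
 (.lf (nat_lit 19) (nat_lit 2) (nat_lit 5) (nat_lit 0x500000) (.cons (nat_lit 6) (nat_lit 0x600000) (.cons (nat_lit 5) (nat_lit 0x500000) (.cons (nat_lit 6) (nat_lit 0x600000) .nil)))))
 (.nd (nat_lit 6)
 (.lf (nat_lit 18) (nat_lit 1) (nat_lit 7) (nat_lit 0x700000) (.cons (nat_lit 4) (nat_lit 0x400000) (.cons (nat_lit 7) (nat_lit 0x700000) (.cons (nat_lit 4) (nat_lit 0x400000) .nil))))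
 (.nd (nat_lit 7)
 (.lf (nat_lit 15) (nat_lit 3) (nat_lit 0) (nat_lit 0) (.cons (nat_lit 3) (nat_lit 0x300000) (.cons (nat_lit 7) (nat_lit 0x700000) (.cons (nat_lit 3) (nat_lit 0x300000) (.cons (nat_lit 7) (nat_lit 0x700000) .nil)))))
 (.lf (nat_lit 0) (nat_lit 0) (nat_lit 7) (nat_lit 0x700000) (.cons (nat_lit 0) (nat_lit 0) (.cons (nat_lit 7) (nat_lit 0x700000) .nil)))))))
 (.nd (nat_lit 16)
 (.nd (nat_lit 12)
 (.nd (nat_lit 10)
 (.nd (nat_lit 9)
 (.lf (nat_lit 5) (nat_lit 2) (nat_lit 1) (nat_lit 0x100000) (.cons (nat_lit 6) (nat_lit 0x600000) (.cons (nat_lit 1) (nat_lit 0x100000) (.cons (nat_lit 6) (nat_lit 0x600000) .nil))))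
 (.lf (nat_lit 17) (nat_lit 2) (nat_lit 4) (nat_lit 0x400000) (.cons (nat_lit 6) (nat_lit 0x600000) (.cons (nat_lit 4) (nat_lit 0x400000) (.cons (nat_lit 6) (nat_lit 0x600000) .nil)))))
 (.nd (nat_lit 11)
 (.lf (nat_lit 19) (nat_lit 3) (nat_lit 6) (nat_lit 0x600000) (.cons (nat_lit 5) (nat_lit 0x500000) (.cons (nat_lit 6) (nat_lit 0x600000) (.cons (nat_lit 5) (nat_lit 0x500000) .nil))))
 (.lf (nat_lit 14) (nat_lit 4) (nat_lit 3) (nat_lit 0x300000) (.cons (nat_lit 6) (nat_lit 0x600000) (.cons (nat_lit 3) (nat_lit 0x300000) (.cons (nat_lit 6) (nat_lit 0x600000) (.cons (nat_lit 3) (nat_lit 0x300000) (.cons (nat_lit 6) (nat_lit 0x600000) .nil))))))))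
 (.nd (nat_lit 14)
 (.nd (nat_lit 13)
 (.lf (nat_lit 8) (nat_lit 2) (nat_lit 2) (nat_lit 0x200000) (.cons (nat_lit 4) (nat_lit 0x400000) (.cons (nat_lit 2) (nat_lit 0x200000) (.cons (nat_lit 4) (nat_lit 0x400000) .nil))))
 (.lf (nat_lit 6) (nat_lit 1) (nat_lit 7) (nat_lit 0x700000) (.cons (nat_lit 1) (nat_lit 0x100000) (.cons (nat_lit 7) (nat_lit 0x700000) (.cons (nat_lit 1) (nat_lit 0x100000) .nil)))))
 (.nd (nat_lit 15)
 (.lf (nat_lit 9) (nat_lit 1) (nat_lit 5) (nat_lit 0x500000) (.cons (nat_lit 2) (nat_lit 0x200000) (.cons (nat_lit 5) (nat_lit 0x500000) (.cons (nat_lit 2) (nat_lit 0x200000) .nil))))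
 (.lf (nat_lit 0) (nat_lit 0) (nat_lit 0) (nat_lit 0) (.cons (nat_lit 2) (nat_lit 0x200000) (.cons (nat_lit 0) (nat_lit 0) (.cons (nat_lit 2) (nat_lit 0x200000) (.cons (nat_lit 0) (nat_lit 0) .nil))))))))
 (.nd (nat_lit 22)
 (.nd (nat_lit 18)
 (.nd (nat_lit 17)
 (.lf (nat_lit 10) (nat_lit 3) (nat_lit 6) (nat_lit 0x600000) (.cons (nat_lit 2) (nat_lit 0x200000) (.cons (nat_lit 6) (nat_lit 0x600000) (.cons (nat_lit 2) (nat_lit 0x200000) .nil))))
 (.lf (nat_lit 8) (nat_lit 3) (nat_lit 4) (nat_lit 0x400000) (.cons (nat_lit 2) (nat_lit 0x200000) (.cons (nat_lit 4) (nat_lit 0x400000) (.cons (nat_lit 2) (nat_lit 0x200000) .nil)))))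
 (.nd (nat_lit 20)
 (.nd (nat_lit 19)
 (.lf (nat_lit 18) (nat_lit 3) (nat_lit 0) (nat_lit 0) (.cons (nat_lit 4) (nat_lit 0x400000) (.cons (nat_lit 7) (nat_lit 0x700000) (.cons (nat_lit 4) (nat_lit 0x400000) (.cons (nat_lit 7) (nat_lit 0x700000) .nil)))))
 (.lf (nat_lit 20) (nat_lit 3) (nat_lit 0) (nat_lit 0) (.cons (nat_lit 5) (nat_lit 0x500000) (.cons (nat_lit 7) (nat_lit 0x700000) (.cons (nat_lit 5) (nat_lit 0x500000) (.cons (nat_lit 7) (nat_lit 0x700000) .nil))))))
 (.nd (nat_lit 21)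
 (.lf (nat_lit 21) (nat_lit 4) (nat_lit 0) (nat_lit 0) (.cons (nat_lit 7) (nat_lit 0x700000) (.cons (nat_lit 6) (nat_lit 0x600000) (.cons (nat_lit 7) (nat_lit 0x700000) (.cons (nat_lit 6) (nat_lit 0x600000) (.cons (nat_lit 7) (nat_lit 0x700000) (.cons (nat_lit 6) (nat_lit 0x600000) .nil)))))))
 (.lf (nat_lit 14) (nat_lit 3) (nat_lit 6) (nat_lit 0x600000) (.cons (nat_lit 3) (nat_lit 0x300000) (.cons (nat_lit 6) (nat_lit 0x600000) (.cons (nat_lit 3) (nat_lit 0x300000) (.cons (nat_lit 6) (nat_lit 0x600000) (.cons (nat_lit 3) (nat_lit 0x300000) .nil)))))))))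
 (.nd (nat_lit 26)
 (.nd (nat_lit 24)
 (.nd (nat_lit 23)
 (.lf (nat_lit 15) (nat_lit 3) (nat_lit 7) (nat_lit 0x700000) (.cons (nat_lit 3) (nat_lit 0x300000) (.cons (nat_lit 7) (nat_lit 0x700000) (.cons (nat_lit 3) (nat_lit 0x300000) .nil))))
 (.lf (nat_lit 9) (nat_lit 3) (nat_lit 5) (nat_lit 0x500000) (.cons (nat_lit 2) (nat_lit 0x200000) (.cons (nat_lit 5) (nat_lit 0x500000) (.cons (nat_lit 2) (nat_lit 0x200000) .nil)))))
 (.nd (nat_lit 25)
 (.lf (nat_lit 2) (nat_lit 0) (nat_lit 0) (nat_lit 0) (.cons (nat_lit 3) (nat_lit 0x300000) (.cons (nat_lit 1) (nat_lit 0x100000) (.cons (nat_lit 3) (nat_lit 0x300000) (.cons (nat_lit 1) (nat_lit 0x100000) .nil)))))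
 (.lf (nat_lit 12) (nat_lit 2) (nat_lit 3) (nat_lit 0x300000) (.cons (nat_lit 4) (nat_lit 0x400000) (.cons (nat_lit 3) (nat_lit 0x300000) (.cons (nat_lit 4) (nat_lit 0x400000) (.cons (nat_lit 3) (nat_lit 0x300000) (.cons (nat_lit 4) (nat_lit 0x400000) .nil))))))))
 (.nd (nat_lit 28)
 (.nd (nat_lit 27)
 (.lf (nat_lit 16) (nat_lit 1) (nat_lit 5) (nat_lit 0x500000) (.cons (nat_lit 4) (nat_lit 0x400000) (.cons (nat_lit 5) (nat_lit 0x500000) (.cons (nat_lit 4) (nat_lit 0x400000) (.cons (nat_lit 5) (nat_lit 0x500000) (.cons (nat_lit 4) (nat_lit 0x400000) .nil))))))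
 (.lf (nat_lit 19) (nat_lit 0) (nat_lit 5) (nat_lit 0x500000) (.cons (nat_lit 6) (nat_lit 0x600000) (.cons (nat_lit 5) (nat_lit 0x500000) (.cons (nat_lit 6) (nat_lit 0x600000) .nil)))))
 (.nd (nat_lit 29)
 (.lf (nat_lit 20) (nat_lit 0) (nat_lit 5) (nat_lit 0x500000) (.cons (nat_lit 7) (nat_lit 0x700000) (.cons (nat_lit 5) (nat_lit 0x500000) (.cons (nat_lit 7) (nat_lit 0x700000) .nil))))
 (.lf (nat_lit 1) (nat_lit 5) (nat_lit 0) (nat_lit 0) (.cons (nat_lit 1) (nat_lit 0x100000) (.cons (nat_lit 2) (nat_lit 0x200000) (.cons (nat_lit 1) (nat_lit 0x100000) (.cons (nat_lit 2) (nat_lit 0x200000) (.cons (nat_lit 1) (nat_lit 0x100000) (.cons (nat_lit 2) (nat_lit 0x200000) .nil)))))))))))))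
 (.nd (nat_lit 48)
 (.nd (nat_lit 46)
 (.nd (nat_lit 38)
 (.nd (nat_lit 34)
 (.nd (nat_lit 32)
 (.nd (nat_lit 31)
 (.lf (nat_lit 5) (nat_lit 3) (nat_lit 6) (nat_lit 0x600000) (.cons (nat_lit 1) (nat_lit 0x100000) (.cons (nat_lit 6) (nat_lit 0x600000) (.cons (nat_lit 1) (nat_lit 0x100000) .nil))))
 (.lf (nat_lit 17) (nat_lit 3) (nat_lit 6) (nat_lit 0x600000) (.cons (nat_lit 4) (nat_lit 0x400000) (.cons (nat_lit 6) (nat_lit 0x600000) (.cons (nat_lit 4) (nat_lit 0x400000) .nil)))))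
 (.nd (nat_lit 33)
 (.lf (nat_lit 21) (nat_lit 3) (nat_lit 7) (nat_lit 0x700000) (.cons (nat_lit 6) (nat_lit 0x600000) (.cons (nat_lit 7) (nat_lit 0x700000) (.cons (nat_lit 6) (nat_lit 0x600000) (.cons (nat_lit 7) (nat_lit 0x700000) (.cons (nat_lit 6) (nat_lit 0x600000) .nil))))))
 (.lf (nat_lit 21) (nat_lit 5) (nat_lit 0) (nat_lit 0) (.cons (nat_lit 6) (nat_lit 0x600000) (.cons (nat_lit 7) (nat_lit 0x700000) (.cons (nat_lit 6) (nat_lit 0x600000) (.cons (nat_lit 7) (nat_lit 0x700000) (.cons (nat_lit 6) (nat_lit 0x600000) (.cons (nat_lit 7) (nat_lit 0x700000) .nil)))))))))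
 (.nd (nat_lit 36)
 (.nd (nat_lit 35)
 (.lf (nat_lit 17) (nat_lit 0) (nat_lit 4) (nat_lit 0x400000) (.cons (nat_lit 6) (nat_lit 0x600000) (.cons (nat_lit 4) (nat_lit 0x400000) (.cons (nat_lit 6) (nat_lit 0x600000) .nil))))
 (.lf (nat_lit 3) (nat_lit 3) (nat_lit 4) (nat_lit 0x400000) (.cons (nat_lit 1) (nat_lit 0x100000) (.cons (nat_lit 4) (nat_lit 0x400000) (.cons (nat_lit 1) (nat_lit 0x100000) .nil)))))
 (.nd (nat_lit 37)
 (.lf (nat_lit 16) (nat_lit 3) (nat_lit 5) (nat_lit 0x500000) (.cons (nat_lit 4) (nat_lit 0x400000) (.cons (nat_lit 5) (nat_lit 0x500000) (.cons (nat_lit 4) (nat_lit 0x400000) (.cons (nat_lit 5) (nat_lit 0x500000) (.cons (nat_lit 4) (nat_lit 0x400000) .nil))))))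
 (.lf (nat_lit 16) (nat_lit 5) (nat_lit 0) (nat_lit 0) (.cons (nat_lit 4) (nat_lit 0x400000) (.cons (nat_lit 5) (nat_lit 0x500000) (.cons (nat_lit 4) (nat_lit 0x400000) (.cons (nat_lit 5) (nat_lit 0x500000) (.cons (nat_lit 4) (nat_lit 0x400000) (.cons (nat_lit 5) (nat_lit 0x500000) .nil))))))))))
 (.nd (nat_lit 42)
 (.nd (nat_lit 40)
 (.nd (nat_lit 39)
 (.lf (nat_lit 12) (nat_lit 0) (nat_lit 3) (nat_lit 0x300000) (.cons (nat_lit 4) (nat_lit 0x400000) (.cons (nat_lit 3) (nat_lit 0x300000) (.cons (nat_lit 4) (nat_lit 0x400000) (.cons (nat_lit 3) (nat_lit 0x300000) (.cons (nat_lit 4) (nat_lit 0x400000) .nil))))))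
 (.lf (nat_lit 1) (nat_lit 4) (nat_lit 1) (nat_lit 0x100000) (.cons (nat_lit 2) (nat_lit 0x200000) (.cons (nat_lit 1) (nat_lit 0x100000) (.cons (nat_lit 2) (nat_lit 0x200000) (.cons (nat_lit 1) (nat_lit 0x100000) (.cons (nat_lit 2) (nat_lit 0x200000) .nil)))))))
 (.nd (nat_lit 41)
 (.lf (nat_lit 1) (nat_lit 4) (nat_lit 0) (nat_lit 0) (.cons (nat_lit 2) (nat_lit 0x200000) (.cons (nat_lit 1) (nat_lit 0x100000) (.cons (nat_lit 2) (nat_lit 0x200000) (.cons (nat_lit 1) (nat_lit 0x100000) (.cons (nat_lit 2) (nat_lit 0x200000) (.cons (nat_lit 1) (nat_lit 0x100000) .nil)))))))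
 (.lf (nat_lit 14) (nat_lit 2) (nat_lit 3) (nat_lit 0x300000) (.cons (nat_lit 6) (nat_lit 0x600000) (.cons (nat_lit 3) (nat_lit 0x300000) (.cons (nat_lit 6) (nat_lit 0x600000) (.cons (nat_lit 3) (nat_lit 0x300000) (.cons (nat_lit 6) (nat_lit 0x600000) .nil))))))))
 (.nd (nat_lit 44)
 (.nd (nat_lit 43)
 (.lf (nat_lit 44) (nat_lit 5) (nat_lit 0) (nat_lit 0) (.cons (nat_lit 2) (nat_lit 0x200000) (.cons (nat_lit 1) (nat_lit 0x100000) (.cons (nat_lit 3) (nat_lit 0x300000) (.cons (nat_lit 6) (nat_lit 0x600000) (.cons (nat_lit 7) (nat_lit 0x700000) (.cons (nat_lit 3) (nat_lit 0x300000) (.cons (nat_lit 4) (nat_lit 0x400000) (.cons (nat_lit 5) (nat_lit 0x500000) (.cons (nat_lit 3) (nat_lit 0x300000) (.cons (nat_lit 2) (nat_lit 0x200000) (.cons (nat_lit 1) (nat_lit 0x100000) (.cons (nat_lit 3) (nat_lit 0x300000) (.cons (nat_lit 6) (nat_lit 0x600000) (.cons (nat_lit 7) (nat_lit 0x700000) (.cons (nat_lit 3) (nat_lit 0x300000) (.cons (nat_lit 4) (nat_lit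 0x400000) (.cons (nat_lit 5) (nat_lit 0x500000) (.cons (nat_lit 3) (nat_lit 0x300000) (.cons (nat_lit 2) (nat_lit 0x200000) (.cons (nat_lit 1) (nat_lit 0x100000) (.cons (nat_lit 3) (nat_lit 0x300000) (.cons (nat_lit 6) (nat_lit 0x600000) (.cons (nat_lit 7) (nat_lit 0x700000) (.cons (nat_lit 3) (nat_lit 0x300000) (.cons (nat_lit 4) (nat_lit 0x400000) (.cons (nat_lit 5) (nat_lit 0x500000) (.cons (nat_lit 3) (nat_lit 0x300000) (.cons (nat_lit 2) (nat_lit 0x200000) (.cons (nat_lit 1) (nat_lit 0x100000) (.cons (nat_lit 3) (nat_lit 0x300000) (.cons (nat_lit 6) (nat_lit 0x600000) (.cons (nat_lit 7) (nat_lit 0x700000) (.cons (nat_lit 3) (nat_lit 0x300000) (.cons (nat_lit 4) (nat_lit 0x400000) (.cons (nat_lit 5) (nat_lit 0x500000) (.cons (nat_lit 3) (nat_lit 0x300000) (.cons (nat_lit 2) (nat_lit 0x200000) (.cons (nat_lit 1) (nat_lit 0x100000) (.cons (nat_lit 3) (nat_lit 0x300000) (.cons (nat_lit 6) (nat_lit 0x600000) (.cons (nat_lit 7) (nat_lit 0x700000)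 (.cons (nat_lit 3) (nat_lit 0x300000) (.cons (nat_lit 4) (nat_lit 0x400000) (.cons (nat_lit 5) (nat_lit 0x500000) (.cons (nat_lit 3) (nat_lit 0x300000) (.cons (nat_lit 2) (nat_lit 0x200000) (.cons (nat_lit 1) (nat_lit 0x100000) (.cons (nat_lit 3) (nat_lit 0x300000) (.cons (nat_lit 6) (nat_lit 0x600000) (.cons (nat_lit 7) (nat_lit 0x700000) (.cons (nat_lit 3) (nat_lit 0x300000) (.cons (nat_lit 4) (nat_lit 0x400000) (.cons (nat_lit 5) (nat_lit 0x500000) (.cons (nat_lit 3) (nat_lit 0x300000) (.cons (nat_lit 2) (nat_lit 0x200000) (.cons (nat_lit 1) (nat_lit 0x100000) (.cons (nat_lit 3) (nat_lit 0x300000) (.cons (nat_lit 6) (nat_lit 0x600000) (.cons (nat_lit 7) (nat_lit 0x700000) (.cons (nat_lit 3) (nat_lit 0x300000) (.cons (nat_lit 4) (nat_lit 0x400000) (.cons (nat_lit 5) (nat_lit 0x500000) (.cons (nat_lit 3) (nat_lit 0x300000) (.cons (nat_lit 2) (nat_lit 0x200000) (.cons (nat_lit 1) (nat_lit 0x100000) (.cons (nat_lit 3) (nat_lit 0x300000) (.cons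 (nat_lit 6) (nat_lit 0x600000) (.cons (nat_lit 7) (nat_lit 0x700000) (.cons (nat_lit 3) (nat_lit 0x300000) (.cons (nat_lit 4) (nat_lit 0x400000) (.cons (nat_lit 5) (nat_lit 0x500000) (.cons (nat_lit 3) (nat_lit 0x300000) (.cons (nat_lit 2) (nat_lit 0x200000) (.cons (nat_lit 1) (nat_lit 0x100000) (.cons (nat_lit 3) (nat_lit 0x300000) (.cons (nat_lit 6) (nat_lit 0x600000) (.cons (nat_lit 7) (nat_lit 0x700000) (.cons (nat_lit 3) (nat_lit 0x300000) (.cons (nat_lit 4) (nat_lit 0x400000) (.cons (nat_lit 5) (nat_lit 0x500000) (.cons (nat_lit 3) (nat_lit 0x300000) (.cons (nat_lit 2) (nat_lit 0x200000) (.cons (nat_lit 1) (nat_lit 0x100000) (.cons (nat_lit 3) (nat_lit 0x300000) (.cons (nat_lit 6) (nat_lit 0x600000) (.cons (nat_lit 7) (nat_lit 0x700000) (.cons (nat_lit 3) (nat_lit 0x300000) (.cons (nat_lit 4) (nat_lit 0x400000) (.cons (nat_lit 5) (nat_lit 0x500000) (.cons (nat_lit 3) (nat_lit 0x300000) .nil)))))))))))))))))))))))))))))))))))))))))))))))))))))))))))))))))))))))))))))))))))))))))))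
 (.lf (nat_lit 0) (nat_lit 0) (nat_lit 0) (nat_lit 0) (.cons (nat_lit 0) (nat_lit 0) (.cons (nat_lit 1) (nat_lit 0x100000) (.cons (nat_lit 0) (nat_lit 0) (.cons (nat_lit 1) (nat_lit 0x100000) .nil))))))
 (.nd (nat_lit 45)
 (.lf (nat_lit 0) (nat_lit 0) (nat_lit 0) (nat_lit 0) (.cons (nat_lit 5) (nat_lit 0x500000) (.cons (nat_lit 0) (nat_lit 0) (.cons (nat_lit 5) (nat_lit 0x500000) (.cons (nat_lit 0) (nat_lit 0) .nil)))))
 (.lf (nat_lit 0) (nat_lit 0) (nat_lit 0) (nat_lit 0) (.cons (nat_lit 7) (nat_lit 0x700000) (.cons (nat_lit 0) (nat_lit 0) (.cons (nat_lit 7) (nat_lit 0x700000) (.cons (nat_lit 0) (nat_lit 0) .nil)))))))))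
 (.nd (nat_lit 47)
 (.lf (nat_lit 0) (nat_lit 0) (nat_lit 0) (nat_lit 0) (.cons (nat_lit 3) (nat_lit 0x300000) (.cons (nat_lit 0) (nat_lit 0) (.cons (nat_lit 3) (nat_lit 0x300000) .nil))))
 (.lf (nat_lit 18) (nat_lit 2) (nat_lit 4) (nat_lit 0x400000) (.cons (nat_lit 7) (nat_lit 0x700000) (.cons (nat_lit 4) (nat_lit 0x400000) (.cons (nat_lit 7) (nat_lit 0x700000) .nil))))))
 (.nd (nat_lit 50)
 (.nd (nat_lit 49)
 (.lf (nat_lit 20) (nat_lit 2) (nat_lit 5) (nat_lit 0x500000) (.cons (nat_lit 7) (nat_lit 0x700000) (.cons (nat_lit 5) (nat_lit 0x500000) (.cons (nat_lit 7) (nat_lit 0x700000) .nil))))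
 (.lf (nat_lit 15) (nat_lit 1) (nat_lit 7) (nat_lit 0x700000) (.cons (nat_lit 3) (nat_lit 0x300000) (.cons (nat_lit 7) (nat_lit 0x700000) (.cons (nat_lit 3) (nat_lit 0x300000) .nil)))))
 (.nd (nat_lit 52)
 (.nd (nat_lit 51)
 (.lf (nat_lit 0) (nat_lit 0) (nat_lit 0) (nat_lit 0) (.cons (nat_lit 1) (nat_lit 0x100000) (.cons (nat_lit 0) (nat_lit 0) (.cons (nat_lit 1) (nat_lit 0x100000) .nil))))
 (.lf (nat_lit 0) (nat_lit 0) (nat_lit 4) (nat_lit 0x400000) (.cons (nat_lit 0) (nat_lit 0) (.cons (nat_lit 4) (nat_lit 0x400000) .nil))))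
 (.nd (nat_lit 53)
 (.lf (nat_lit 3) (nat_lit 1) (nat_lit 4) (nat_lit 0x400000) (.cons (nat_lit 1) (nat_lit 0x100000) (.cons (nat_lit 4) (nat_lit 0x400000) (.cons (nat_lit 1) (nat_lit 0x100000) .nil))))
 (.nd (nat_lit 55)
 (.nd (nat_lit 54)
 (.lf (nat_lit 0) (nat_lit 0) (nat_lit 0) (nat_lit 0) (.cons (nat_lit 0) (nat_lit 0) (.cons (nat_lit 2) (nat_lit 0x200000) (.cons (nat_lit 0) (nat_lit 0) (.cons (nat_lit 2) (nat_lit 0x200000) .nil)))))
 (.lf (nat_lit 0) (nat_lit 0) (nat_lit 0) (nat_lit 0) (.cons (nat_lit 0) (nat_lit 0) (.cons (nat_lit 3) (nat_lit 0x300000) (.cons (nat_lit 0) (nat_lit 0) (.cons (nat_lit 3) (nat_lit 0x300000) (.cons (nat_lit 0) (nat_lit 0) .nil)))))))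
 (.lf (nat_lit 0) (nat_lit 0) (nat_lit 5) (nat_lit 0x500000) (.cons (nat_lit 0) (nat_lit 0) (.cons (nat_lit 5) (nat_lit 0x500000) .nil)))))))))
 (.nd (nat_lit 73)
 (.nd (nat_lit 61)
 (.nd (nat_lit 58)
 (.nd (nat_lit 57)
 (.lf (nat_lit 0) (nat_lit 0) (nat_lit 3) (nat_lit 0x300000) (.cons (nat_lit 0) (nat_lit 0) (.cons (nat_lit 3) (nat_lit 0x300000) .nil)))
 (.lf (nat_lit 11) (nat_lit 2) (nat_lit 2) (nat_lit 0x200000) (.cons (nat_lit 7) (nat_lit 0x700000) (.cons (nat_lit 2) (nat_lit 0x200000) (.cons (nat_lit 7) (nat_lit 0x700000) .nil)))))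
 (.nd (nat_lit 59)
 (.lf (nat_lit 13) (nat_lit 2) (nat_lit 3) (nat_lit 0x300000) (.cons (nat_lit 5) (nat_lit 0x500000) (.cons (nat_lit 3) (nat_lit 0x300000) (.cons (nat_lit 5) (nat_lit 0x500000) .nil))))
 (.nd (nat_lit 60)
 (.lf (nat_lit 0) (nat_lit 0) (nat_lit 0) (nat_lit 0) (.cons (nat_lit 2) (nat_lit 0x200000) (.cons (nat_lit 0) (nat_lit 0) (.cons (nat_lit 2) (nat_lit 0x200000) .nil))))
 (.lf (nat_lit 10) (nat_lit 2) (nat_lit 2) (nat_lit 0x200000) (.cons (nat_lit 6) (nat_lit 0x600000) (.cons (nat_lit 2) (nat_lit 0x200000) (.cons (nat_lit 6) (nat_lit 0x600000) .nil)))))))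
 (.nd (nat_lit 65)
 (.nd (nat_lit 63)
 (.nd (nat_lit 62)
 (.lf (nat_lit 4) (nat_lit 1) (nat_lit 5) (nat_lit 0x500000) (.cons (nat_lit 1) (nat_lit 0x100000) (.cons (nat_lit 5) (nat_lit 0x500000) (.cons (nat_lit 1) (nat_lit 0x100000) .nil))))
 (.lf (nat_lit 0) (nat_lit 0) (nat_lit 0) (nat_lit 0) (.cons (nat_lit 7) (nat_lit 0x700000) (.cons (nat_lit 0) (nat_lit 0) (.cons (nat_lit 7) (nat_lit 0x700000) .nil)))))
 (.nd (nat_lit 64)
 (.lf (nat_lit 0) (nat_lit 0) (nat_lit 0) (nat_lit 0) (.cons (nat_lit 4) (nat_lit 0x400000) (.cons (nat_lit 0) (nat_lit 0) (.cons (nat_lit 4) (nat_lit 0x400000) .nil))))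
 (.lf (nat_lit 14) (nat_lit 1) (nat_lit 6) (nat_lit 0x600000) (.cons (nat_lit 3) (nat_lit 0x300000) (.cons (nat_lit 6) (nat_lit 0x600000) (.cons (nat_lit 3) (nat_lit 0x300000) (.cons (nat_lit 6) (nat_lit 0x600000) (.cons (nat_lit 3) (nat_lit 0x300000) .nil))))))))
 (.nd (nat_lit 69)
 (.nd (nat_lit 67)
 (.nd (nat_lit 66)
 (.lf (nat_lit 0) (nat_lit 0) (nat_lit 6) (nat_lit 0x600000) (.cons (nat_lit 0) (nat_lit 0) (.cons (nat_lit 6) (nat_lit 0x600000) .nil)))
 (.lf (nat_lit 7) (nat_lit 3) (nat_lit 3) (nat_lit 0x300000) (.cons (nat_lit 2) (nat_lit 0x200000) (.cons (nat_lit 3) (nat_lit 0x300000) (.cons (nat_lit 2) (nat_lit 0x200000) (.cons (nat_lit 3) (nat_lit 0x300000) (.cons (nat_lit 2) (nat_lit 0x200000) .nil)))))))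
 (.nd (nat_lit 68)
 (.lf (nat_lit 17) (nat_lit 1) (nat_lit 6) (nat_lit 0x600000) (.cons (nat_lit 4) (nat_lit 0x400000) (.cons (nat_lit 6) (nat_lit 0x600000) (.cons (nat_lit 4) (nat_lit 0x400000) .nil))))
 (.lf (nat_lit 0) (nat_lit 0) (nat_lit 2) (nat_lit 0x200000) (.cons (nat_lit 0) (nat_lit 0) (.cons (nat_lit 2) (nat_lit 0x200000) .nil)))))
 (.nd (nat_lit 71)
 (.nd (nat_lit 70)
 (.lf (nat_lit 3) (nat_lit 2) (nat_lit 1) (nat_lit 0x100000) (.cons (nat_lit 4) (nat_lit 0x400000) (.cons (nat_lit 1) (nat_lit 0x100000) (.cons (nat_lit 4) (nat_lit 0x400000) .nil))))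
 (.lf (nat_lit 12) (nat_lit 1) (nat_lit 4) (nat_lit 0x400000) (.cons (nat_lit 3) (nat_lit 0x300000) (.cons (nat_lit 4) (nat_lit 0x400000) (.cons (nat_lit 3) (nat_lit 0x300000) (.cons (nat_lit 4) (nat_lit 0x400000) (.cons (nat_lit 3) (nat_lit 0x300000) .nil)))))))
 (.nd (nat_lit 72)
 (.lf (nat_lit 8) (nat_lit 1) (nat_lit 4) (nat_lit 0x400000) (.cons (nat_lit 2) (nat_lit 0x200000) (.cons (nat_lit 4) (nat_lit 0x400000) (.cons (nat_lit 2) (nat_lit 0x200000) .nil))))
 (.lf (nat_lit 0) (nat_lit 0) (nat_lit 1) (nat_lit 0x100000) (.cons (nat_lit 0) (nat_lit 0) (.cons (nat_lit 1) (nat_lit 0x100000) .nil))))))))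
 (.nd (nat_lit 80)
 (.nd (nat_lit 76)
 (.nd (nat_lit 74)
 (.lf (nat_lit 15) (nat_lit 2) (nat_lit 3) (nat_lit 0x300000) (.cons (nat_lit 7) (nat_lit 0x700000) (.cons (nat_lit 3) (nat_lit 0x300000) (.cons (nat_lit 7) (nat_lit 0x700000) .nil))))
 (.nd (nat_lit 75)
 (.lf (nat_lit 6) (nat_lit 2) (nat_lit 1) (nat_lit 0x100000) (.cons (nat_lit 7) (nat_lit 0x700000) (.cons (nat_lit 1) (nat_lit 0x100000) (.cons (nat_lit 7) (nat_lit 0x700000) .nil))))
 (.lf (nat_lit 5) (nat_lit 1) (nat_lit 6) (nat_lit 0x600000) (.cons (nat_lit 1) (nat_lit 0x100000) (.cons (nat_lit 6) (nat_lit 0x600000) (.cons (nat_lit 1) (nat_lit 0x100000) .nil))))))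
 (.nd (nat_lit 78)
 (.nd (nat_lit 77)
 (.lf (nat_lit 0) (nat_lit 0) (nat_lit 0) (nat_lit 0) (.cons (nat_lit 5) (nat_lit 0x500000) (.cons (nat_lit 0) (nat_lit 0) (.cons (nat_lit 5) (nat_lit 0x500000) .nil))))
 (.lf (nat_lit 0) (nat_lit 0) (nat_lit 0) (nat_lit 0) (.cons (nat_lit 6) (nat_lit 0x600000) (.cons (nat_lit 0) (nat_lit 0) (.cons (nat_lit 6) (nat_lit 0x600000) .nil)))))
 (.nd (nat_lit 79)
 (.lf (nat_lit 20) (nat_lit 1) (nat_lit 7) (nat_lit 0x700000) (.cons (nat_lit 5) (nat_lit 0x500000) (.cons (nat_lit 7) (nat_lit 0x700000) (.cons (nat_lit 5) (nat_lit 0x500000) .nil))))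
 (.lf (nat_lit 0) (nat_lit 0) (nat_lit 0) (nat_lit 0) (.cons (nat_lit 0) (nat_lit 0) (.cons (nat_lit 0) (nat_lit 0) .nil))))))
 (.nd (nat_lit 82)
 (.nd (nat_lit 81)
 (.lf (nat_lit 2) (nat_lit 2) (nat_lit 1) (nat_lit 0x100000) (.cons (nat_lit 3) (nat_lit 0x300000) (.cons (nat_lit 1) (nat_lit 0x100000) (.cons (nat_lit 3) (nat_lit 0x300000) .nil))))
 (.lf (nat_lit 13) (nat_lit 1) (nat_lit 5) (nat_lit 0x500000) (.cons (nat_lit 3) (nat_lit 0x300000) (.cons (nat_lit 5) (nat_lit 0x500000) (.cons (nat_lit 3) (nat_lit 0x300000) .nil)))))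
 (.nd (nat_lit 85)
 (.nd (nat_lit 84)
 (.nd (nat_lit 83)
 (.lf (nat_lit 0) (nat_lit 0) (nat_lit 0) (nat_lit 0) (.cons (nat_lit 3) (nat_lit 0x300000) (.cons (nat_lit 0) (nat_lit 0) (.cons (nat_lit 3) (nat_lit 0x300000) (.cons (nat_lit 0) (nat_lit 0) .nil)))))
 (.lf (nat_lit 10) (nat_lit 1) (nat_lit 6) (nat_lit 0x600000) (.cons (nat_lit 2) (nat_lit 0x200000) (.cons (nat_lit 6) (nat_lit 0x600000) (.cons (nat_lit 2) (nat_lit 0x200000) .nil)))))
 (.lf (nat_lit 2) (nat_lit 1) (nat_lit 3) (nat_lit 0x300000) (.cons (nat_lit 1) (nat_lit 0x100000) (.cons (nat_lit 3) (nat_lit 0x300000) (.cons (nat_lit 1) (nat_lit 0x100000) .nil)))))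
 (.nd (nat_lit 86)
 (.lf (nat_lit 7) (nat_lit 2) (nat_lit 2) (nat_lit 0x200000) (.cons (nat_lit 3) (nat_lit 0x300000) (.cons (nat_lit 2) (nat_lit 0x200000) (.cons (nat_lit 3) (nat_lit 0x300000) (.cons (nat_lit 2) (nat_lit 0x200000) (.cons (nat_lit 3) (nat_lit 0x300000) .nil))))))
 (.lf (nat_lit 19) (nat_lit 1) (nat_lit 6) (nat_lit 0x600000) (.cons (nat_lit 5) (nat_lit 0x500000) (.cons (nat_lit 6) (nat_lit 0x600000) (.cons (nat_lit 5) (nat_lit 0x500000) .nil))))))))))

def fc : List ℕ := [nat_lit 0x4b10004b0004b30004b0000b40004b0004c00004b000bc00004c000bb00004b000b800004b0004a300048000b900000b000fc0000b9000ba00004b0004e00004b000bb00004e000fb00004b000f800004a000fd00004b000f700004a000487000480004f00004a000f900000c0004f300048000ba00004e000f800004f00048600046000f700004f00049000048000b500004f000b4000048000be000048000b000004800046300046000f6000051000be0000b0000470000460003c50003c0003c30003e000ad000052000bf000046000b30000b10003d00003c000540000450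00c20000b1000f50000580009d00009b000ae000058000ed0000ec000c10000aa000fe0000a8000f40000a80010a0000f3000f20000a6000c30000a6000fe0000f4000f20000c30010b3000ef0010b1000f00010a6000f2001093000eb001085000e7001083000e8001073000e3001071000e4001063000e1001055000dd001053000de001043000da001041000db001033000d6001025000d3001023000d4001013000d0001011000d1001003000cd000ff5000ca000ff3000cb000fe1000c3000fd3000fd000fd2000f7000fc4000ba000fc2000f9000fb6000fb000fb3000ba000fb2000f8000fb1000bc000fa2000b8000fa7000f8000f97000b7000f86000f8000f76000b5000f75000f6000f55000b3000f53000ae000f41000f2000f32000ed000f25000a6000f22000f0000b23000b200046200046000af000046000ab000045000a9000044000f12000a4000f11000f1000f07000a3000f06000ec000ef6000ea000ee1000a0000ed6000a0000ed5000ec000eb4000e7000a21000a2000a12000a10009f20009f0009e20009e000ea2000ea000ea50009e000e93000e9000e94000e5000e82000e4000e6300099000e5200098000e4700097000e36000e0000e2100093000e14000dd000e05000900009540009500037400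037000960000370009400003600091000035000df40008e000df5000df000de2000db000dc30008a0008b50008b0008c40008c0008a40008a00088400088000db4000db000db700088000db6000d7000da6000d5000d9100087000d8600087000d85000d7000d74000d7000d64000d3000d5500085000d42000d1000d230007d000d170007a000d06000cc000cf10007900080300080000286000280007f0000280007e0000270007b000026000ce600079000ce7000ce000cd4000ca000cc500077000cb2000c700075700075000766000760007360007300071600071000ca6000ca000ca2000c6000ca100071000c9300070000c820006f000c87000c6000c770006e000c730006c000c71000c7000c66000c6000c5300064000c4500060000c43000c0000c35000c3000c27000bf000c1100059000c070005b000c0200057000bf6000be000bf3000bf000bf100057000be2000be000be7000be000be5000520006b10006b000683000680001b10001b0006900001b000192000190006700001a0006600001900065000019000620000180005b30005f00061000018000173000150005e0000170005c00005b0005a00001700015100015000160000150005d0000550005420005400052200052000bd3000bd000bd200051000b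c3000bb000bb1000ba000ba2000b5000b92000b7000b810004d000b67000b4000b570004a000b46000b2000b15000ae000b05000ad000af5000ab000ae4000aa000ac500047000ab4000a9000aa3000a8000a81000a6000a71000a5000a62000a0000a52000a3000a4100044000a170009f000a07000410009f60009e0009e30009c0009d50009b0009c50009a0009a400098000992000970009810003b000967000940009460009100093700038000926000900009030008f0008f50008d0008e5000350008d4000890008c10008a0008a200088000891000320008770002f00086600085000853000830008450008200083500081000824000800008140007c0007f10007e0007e20007b0007d20007a0007c1000290007970002600078600077000773000740007650007300074500072000734000710007240006f0007020006e0006f1000200006d70006a0006c6000630006b70001d0006a60006800069600067000673000650006650006200065500061000644000600006350001a0006240005e0006140005a0005f30005c0005d1000550005a20005a0005a1000170005950005900059700056000587000540005830005800056500056000566000530005570001500054600052000543000540005350005300052300051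0005150004f00050400050000505000110004f70004f0004f20004e0004f10000f0004e30004e0004e10004e00013300013000132000150001400001300012300012000106000100000f60000f0000d40000f0000d30000d0000e00000d0000c50000c0000c30000c0000b50000b0000b10000b000095000090000940000900009200009000091000090000d60000d0000c70000c0000c60000c0000b70000b0000b60000b000097000090000930000b0000a000009000016000090000150000100008000001000070000010000150000700001400001000060000010000140000600005000001000040000010000130000100003000001000020000010000120000100001100001000006000000000050000000000400000000003000000000020000000000100000000ee50010b000ec20010a000ea700109000e6700108000e2500107000e0700106000dc700105000d9500104000d5700103000d2700102000cf500101000cc700100000c97000ff000c13000fe000ba6000fd000b97000fc000b87000fb000b63000fa000b54000f9000b43000f8000b03000f7000ad3000f6000ac7000f5000a77000f4000a66000f3000a57000f2000a23000f1000a05000f00009f5000ef0009f3000ee0009d3000ed0009b3000ec0009a70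00eb0009a3000ea0009a2000e9000997000e8000987000e7000985000e6000953000e5000935000e4000925000e3000923000e20008d7000e10008d3000e00008b3000df0008a7000de000897000dd000895000dc000875000db000865000da000863000d9000843000d8000823000d7000817000d6000813000d50007d7000d40007c7000d30007c5000d2000795000d1000785000d0000783000cf000753000ce000727000cd000723000cc000707000cb0006f7000ca0006f5000c90006d3000c80006b5000c70006a3000c6000637000c50005f7000c4000593000c3000585000c2000584000c1000555000c0000545000bf0004f3000be0004e5000bd0004d7000bc0004c7000bb0004b7000ba0004b4000b90004b3000b80004a4000b7000492000b6000483000b5000482000b4000477000b3000472000b2000467000b1000466000b0000462000af000457000ae000456000ad000453000ac000452000ab000447000aa000442000a9000437000a8000435000a7000427000a6000425000a5000423000a4000415000a3000402000a2000401000a10003f3000a00003f10009f0003e10009e0003d60009d0003d10009c0003c60009b0003c10009a0003950009900039300098000385000970003740009600037200095000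36400094000363000930003610009200035400091000351000900003410008f0003330008e0003310008d0003150008c0003140008b0003050008a000303000890002f5000880002d3000870002d1000860002c1000850002b6000840002b1000830002a6000820002a100081000296000800002860007f0002760007e0002750007d0002730007c0002660007b0002650007a0002430007900024100078000231000770002270007600022600075000221000740002170007300021100072000207000710001e5000700001e30006f0001d50006e0001c20006d0001b50006c0001b30006b0001b20006a0001b1000690001a2000680001a100067000192000660001910006500018700064000183000630001820006200018100061000177000600001750005f0001720005e0001670005d0001650005c0001550005b0001530005a0001340005900013100058000125000570001240005600012200055000121000540001140005300011100052000101000510000f3000500000c40004f0000b40004e0004c30004d0004b10004c0004a20004b0004930004a0004870004900047600048000463000470004550004600044400045000433000440004210004300041200042000403000410003f7000400003e60003f0003d30003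e0003c50003d0003b40003c0003a30003b0003910003a0003820003900037300038000367000370003560003600034300035000335000340003240003300031300032000301000310002f2000300002e30002f0002d70002e0002c60002d0002b30002c0002a50002b0002940002a0002830002900027100028000262000270002530002600024700025000236000240002230002300021500022000204000210001f3000200001e10001f0001d20001e0001c30001d0001b70001c0001a60001b0001930001a0001850001900017400018000163000170001510001600014200015000133000140001270001300011600012000103000110000f5000100000e40000f0000d30000e0000c10000d0000b20000c0000a30000b0000970000a00008600009000073000080000650000700005400006000043000050000310000400002200003000013000020000070000100000000000]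

noncomputable def S : ℕ → ℕ := facts (nat_lit 0) (nat_lit 0) fc

theorem rt_chk : rt.chk ic (rels ++ rels.map (invw ic)) = true := by decide +kernel

theorem rels_lt : (rels.all fun w => w.all fun y => Nat.blt y 16) = true := by decide +kernel

theorem s0 : S 0 = 0 := by decide +kernel

theorem defs0 : withF (nat_lit 0) (nat_lit 0) fc (fun S => rangeS (nat_lit 268) (defC S) (nat_lit 9) (nat_lit 1)) = true := by decide +kernel

theorem defs : rangeS (nat_lit 268) (defC S) (nat_lit 9) (nat_lit 1) = true := by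
  have h := defs0
  rw [withF_eq] at h
  exact h

theorem ini0 : withF (nat_lit 0) (nat_lit 0) fc (fun S => initC S L (nat_lit 268)) = true := by decide +kernel

theorem ini : initC S L (nat_lit 268) = true := by
  have h := ini0
  rw [withF_eq] at h
  exact h

theorem lets_ok : letsOk ic (nat_lit 7) lets = true := by decide +kernel

def pc0 : List ℕ := [nat_lit 0x1326b120b89a0382e6660ce682e2696626a0d84c9861b0ca639884f97e2297cb814a5a970380325b87e650d4b9992200fe639644f9861d9653b1493a965970c84b9821c0ee5c9604f12e5e8843b9725613c499540764a544f83e13e543e43f2d6540e13d951960ee542d6533e0522c2511054193e15132526c2521242d2fa522d42e949b1948b403e519384f1224d2c04d0011e4d0e142928f60b8b0925b4134b1920b30f83d91c370fa470e145918ad134b1915b80fa4530a448502c26e432744d2ba425283e642423084c5264284c2e3b2413b42e306406343f42a3d8443b62a3f3f82e8fa3a13d898ee238e82b3ce3c8d84d8ee3913e108e5b9132128e6230c8c3530594e4130481114599668bd1392248d204591244d1647d1b458014450e4310d439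1043d0e005204892d0312f4c04f2f9b06d1b36c9b56e9bb551bc3155b6fdbe72e24895cd8990075a2889dd98a62a76e2b40de08b62c7a62e8bdf28c1067d2328c5f88ce3480635426058e23783c2a3bcee42c3a3c20442c0283e06428533acea4244939ce6420303a1f742049000000038ce241c3a391f341c02384e041849374dc41430379e841449368d94103a36ddf41002358d540c4934cd240830351d840849340cf4043a345d540402334cc40049328c93fc3032dc33fc4930db73f8503f61d87a1d3f429859963f43c2e8b93f02f861953f03987217870102e8b83ec498661a3ec392f1943ec4a2e04b128b63e8553e1933e8312dd923e4053e191839913e0402d44811cb03dc403d98f3dc512cd8c3d4302b8ac3d4493c9883d04a80d873cc3c298a53c83081d863c8392c847834472c8422be0c1104682d8e130458298b0fd8582608825852a42829042104a23c4553c6003c45028d833c04e80a033c0567ed823bc562809f3b850002803f0f89d3b4403b1803b45139d7e3ac2f288a17fca128827611fe61039609fd6083c7edfc7ec013a8e97e8e93a8556057f3a8517e4e57c0e57e4267d97e3a4477d57d3a039264983983a260390e0953945525d793904e7c57838c5624c9238850375743842f5dd7638051255ef25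411259ee0cc377b57b0f8367b17a135757adea7ad7524425238330c88b37c4637de737c517897237839228893703a22c8c7988c22c245cde55cc235c9e45c811789e37882f785dc784222217036c4e775de36c567696f3685621c863645021c2d0b0843604035d6d3605135d6b7516b35c4634d6a3582f5b96c3545175d67350391f47c3483a1e9653444e731643405600000001e47833c502002974c292000b1fdd210428745690c827741680ed6573dce73d651ec211e42408c7533840339ca338313295f3342f58d61330517015e32c391d476724761d420589c85880a581c75801f711c67101e715bd71410705c2328391c55d3284a1c06f3243a1bc1e0746d320553195c320311b95a31c4e1b06b31c3a31dae31c02319596b5593184019063314491805f310306d9a53104930d4c30c512fd4a3084e164583044516d463004e15c55300016bd452fc562fd442fc3a15c542fc022f93d4ed3d2f8552f93e2f831509412f8511adac1ac501a01a6a81a1a0421a5ab1201b6a558134666a044069a755c2e065a65584c065a45544c0000018689520fd5068438061a05443f169a00e1a0539a01780f16d9e1704c05d9e1682e0599e121466745d0f8551519c1505553c1d5159b5143c5099966999508552f53b2f43a5053d2f4012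ec4d2f0492e84c2ec4a6484b2e8392dc4b2e40c1344c2e0502d0492d803128492d4312c8482d0532b8462c4302b4462c0042ac462bc0e2a8452b82f11c462b0512a4452ac472a0442a849298432a04a2944329c0260c422983928c4229401110432905027c402840d10440280312783f27c4b2703e2785426c3d274042683d2703d5f03c2683425c39264010ec3a26050250372580524436250430e03724c31240362484b23c35240542343423c3d0d43423851005c43323434228312300222030228010c831224500bc2e21c312142d2184b20c2c214542082b210042042b20c3d2002a208095982a204341f8281fc081ec271f83c1e8271f4010a4281f050098251e4311dc241e04b1d0231dc541cc221d8301c8221d03d1c4211cc2f574211c8341b81e1c0010801f1bc501a81c1b40354c1b1b0560741c1ac311a01b1a85319c1b1a44b1941a19c54188191980e184191943d180181902f0681918c51178181884753418184341701717c3a518161744a169384e5381685505c161685052d4852c1c1581316405150131600d161391605451d4351c1b14c12158434e01315403148121504b151361505414d3f5013f14c1a000000014411148544f0101443d141334c93314046044101405113d2713c051380c13c0c4cc0d13c45139224ad22138191392d13845051370e0154dc4404d3604c1401812045350441202c104d010029334a13310c0f4c433039310e00d4bc0d038180312e03017031224a922030424892c4885148929488504811f480044811b48009481134803c4811248008035260344b0312503003031240305348923488164892045920488150292101c0b4843848001444014800a05009478414711d0dd16474080b801440014701301d1a0dd19468330050f005190480646033459170142e4491501032009140e113450030ec0143801008060050d004390050c0044a]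

theorem prog0_0 : withF (nat_lit 0) (nat_lit 0) fc (fun S => dedProg S (nat_lit 268) (nat_lit 10) (nat_lit 1023) rt (nat_lit 399) (nat_lit 2048) (nat_lit 4) pc0 (nat_lit 274) (nat_lit 623)) = true := by decide +kernel

theorem prog0 : dedProg S (nat_lit 268) (nat_lit 10) (nat_lit 1023) rt (nat_lit 399) (nat_lit 2048) (nat_lit 4) pc0 (nat_lit 274) (nat_lit 623) = true := by
  have h := prog0_0
  rw [withF_eq] at h
  exact h

theorem facts_ok {G : Type*} [Group G] {x : ℕ → G} {H : Subgroup G}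
    (hic : ∀ y, y < 16 → x (il ic y) = (x y)⁻¹) (h0 : x 0 = 1) (hrels : ∀ w ∈ rels, ev x w = 1)
    (hst : ∀ g, g < (nat_lit 268) + L.length → VF H x (rho x S) (nat_lit 268) S g) :
    ∀ g, g < (nat_lit 623) → VF H x (rho x S) (nat_lit 268) S g := by
  have hv : rt.Valid x ic := RS.valid_of_chk hic h0 (relsAll_ok hic rels_lt hrels) rt rt_chk
  have hn : (nat_lit 268) ≤ 1048576 := Nat.le_of_ble_eq_true (by decide)
  have g0 : ∀ g, g < (nat_lit 274) → VF H x (rho x S) (nat_lit 268) S g := hst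

  have g1 := dedProg_sound (H := H) (ρ := rho x S) hic hn hv prog0 g0
  exact g1

def q0 : Wd := (.cons (nat_lit 3) (nat_lit 0x300000) (.cons (nat_lit 2) (nat_lit 0x200000) (.cons (nat_lit 1) (nat_lit 0x100000) (.cons (nat_lit 3) (nat_lit 0x300000) (.cons (nat_lit 4) (nat_lit 0x400000) (.cons (nat_lit 5) (nat_lit 0x500000) (.cons (nat_lit 3) (nat_lit 0x300000) (.cons (nat_lit 6) (nat_lit 0x600000) (.cons (nat_lit 7) (nat_lit 0x700000) (.cons (nat_lit 3) (nat_lit 0x300000) (.cons (nat_lit 2) (nat_lit 0x200000) (.cons (nat_lit 1) (nat_lit 0x100000) (.cons (nat_lit 3) (nat_lit 0x300000) (.cons (nat_lit 4) (nat_lit 0x400000) (.cons (nat_lit 5) (nat_lit 0x500000) (.cons (nat_lit 3) (nat_lit 0x300000) (.cons (nat_lit 6) (nat_lit 0x600000) (.cons (nat_lit 7) (nat_lit 0x700000) (.cons (nat_lit 3) (nat_lit 0x300000) (.cons (nat_lit 2) (nat_lit 0x200000) (.cons (nat_lit 1) (nat_lit 0x100000) (.cons (nat_lit 3) (nat_lit 0x300000) (.cons (nat_lit 4)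 (nat_lit 0x400000) (.cons (nat_lit 5) (nat_lit 0x500000) (.cons (nat_lit 3) (nat_lit 0x300000) (.cons (nat_lit 6) (nat_lit 0x600000) (.cons (nat_lit 7) (nat_lit 0x700000) (.cons (nat_lit 3) (nat_lit 0x300000) (.cons (nat_lit 2) (nat_lit 0x200000) (.cons (nat_lit 1) (nat_lit 0x100000) (.cons (nat_lit 3) (nat_lit 0x300000) (.cons (nat_lit 4) (nat_lit 0x400000) (.cons (nat_lit 5) (nat_lit 0x500000) (.cons (nat_lit 3) (nat_lit 0x300000) (.cons (nat_lit 6) (nat_lit 0x600000) (.cons (nat_lit 7) (nat_lit 0x700000) (.cons (nat_lit 3) (nat_lit 0x300000) (.cons (nat_lit 2) (nat_lit 0x200000) (.cons (nat_lit 1) (nat_lit 0x100000) (.cons (nat_lit 3) (nat_lit 0x300000) (.cons (nat_lit 4) (nat_lit 0x400000) (.cons (nat_lit 5) (nat_lit 0x500000) (.cons (nat_lit 3) (nat_lit 0x300000) (.cons (nat_lit 6) (nat_lit 0x600000) (.cons (nat_lit 7) (nat_lit 0x700000) (.cons (nat_lit 3) (nat_lit 0x300000) (.cons (nat_lit 2) (nat_lit 0x200000) (.cons (nat_lit 1) (nat_lit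 0x100000) (.cons (nat_lit 3) (nat_lit 0x300000) (.cons (nat_lit 4) (nat_lit 0x400000) (.cons (nat_lit 5) (nat_lit 0x500000) (.cons (nat_lit 3) (nat_lit 0x300000) (.cons (nat_lit 6) (nat_lit 0x600000) (.cons (nat_lit 7) (nat_lit 0x700000) (.cons (nat_lit 3) (nat_lit 0x300000) (.cons (nat_lit 2) (nat_lit 0x200000) (.cons (nat_lit 1) (nat_lit 0x100000) (.cons (nat_lit 3) (nat_lit 0x300000) (.cons (nat_lit 4) (nat_lit 0x400000) (.cons (nat_lit 5) (nat_lit 0x500000) (.cons (nat_lit 3) (nat_lit 0x300000) (.cons (nat_lit 6) (nat_lit 0x600000) (.cons (nat_lit 7) (nat_lit 0x700000) (.cons (nat_lit 3) (nat_lit 0x300000) (.cons (nat_lit 2) (nat_lit 0x200000) (.cons (nat_lit 1) (nat_lit 0x100000) (.cons (nat_lit 3) (nat_lit 0x300000) (.cons (nat_lit 4) (nat_lit 0x400000) (.cons (nat_lit 5) (nat_lit 0x500000) (.cons (nat_lit 3) (nat_lit 0x300000) (.cons (nat_lit 6) (nat_lit 0x600000) (.cons (nat_lit 7) (nat_lit 0x700000) (.cons (nat_lit 3) (nat_lit 0x300000)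 (.cons (nat_lit 2) (nat_lit 0x200000) (.cons (nat_lit 1) (nat_lit 0x100000) (.cons (nat_lit 3) (nat_lit 0x300000) (.cons (nat_lit 4) (nat_lit 0x400000) (.cons (nat_lit 5) (nat_lit 0x500000) (.cons (nat_lit 3) (nat_lit 0x300000) (.cons (nat_lit 6) (nat_lit 0x600000) (.cons (nat_lit 7) (nat_lit 0x700000) (.cons (nat_lit 3) (nat_lit 0x300000) (.cons (nat_lit 2) (nat_lit 0x200000) (.cons (nat_lit 1) (nat_lit 0x100000) (.cons (nat_lit 3) (nat_lit 0x300000) (.cons (nat_lit 4) (nat_lit 0x400000) (.cons (nat_lit 5) (nat_lit 0x500000) (.cons (nat_lit 3) (nat_lit 0x300000) (.cons (nat_lit 6) (nat_lit 0x600000) (.cons (nat_lit 7) (nat_lit 0x700000) .nil))))))))))))))))))))))))))))))))))))))))))))))))))))))))))))))))))))))))))))))))))))))))))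

theorem qr0_0 : withF (nat_lit 0) (nat_lit 0) fc (fun S => wordProg S (nat_lit 623) (nat_lit 10) (nat_lit 1023) q0 (nat_lit 0x5204892e9b26d9b84b99e5d95e501184511043108411003f92e4c0f03b0e8390e0370d8350d0330c8310c02f0b82d0b02b0a8290a0270982509023088210801f0781d0701b06819061a367d384e41304811041334c80d0312248d204591f46d1644913458014450e4410f4390c4350e)) = true := by decide +kernel

theorem qr0 : wordProg S (nat_lit 623) (nat_lit 10) (nat_lit 1023) q0 (nat_lit 0x5204892e9b26d9b84b99e5d95e501184511043108411003f92e4c0f03b0e8390e0370d8350d0330c8310c02f0b82d0b02b0a8290a0270982509023088210801f0781d0701b06819061a367d384e41304811041334c80d0312248d204591f46d1644913458014450e4410f4390c4350e) = true := by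
  have h := qr0_0
  rw [withF_eq] at h
  exact h

theorem word0 {G : Type*} [Group G] {x : ℕ → G} {H : Subgroup G}
    (hic : ∀ y, y < 16 → x (il ic y) = (x y)⁻¹) (h0 : x 0 = 1) (hrels : ∀ w ∈ rels, ev x w = 1)
    (hL : ∀ s ∈ L, x s ∈ H) : ev x [3, 2, 1, 3, 4, 5, 3, 6, 7, 3, 2, 1, 3, 4, 5, 3, 6, 7, 3, 2, 1, 3, 4, 5, 3, 6, 7, 3, 2, 1, 3, 4, 5, 3, 6, 7, 3, 2, 1, 3, 4, 5, 3, 6, 7, 3, 2, 1, 3, 4, 5, 3, 6, 7, 3, 2, 1, 3, 4, 5, 3, 6, 7, 3, 2, 1, 3, 4, 5, 3, 6, 7, 3, 2, 1, 3, 4, 5, 3, 6, 7, 3, 2, 1, 3, 4, 5, 3, 6, 7] ∈ H :=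
  word_of (kk := 9) hic h0 hL (by decide) (by decide) (by decide) (by decide)
    s0 defs ini (facts_ok hic h0 hrels) (u := q0) (by decide +kernel) qr0


end Cfsg.Agent.H4.MfQb
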