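import Cfsg.Agent.H8_CS

set_option autoImplicit false
set_option maxRecDepth 1000000

namespace Cfsg.Agent.H4.MfT

open Cfsg.Agent.H8 Cfsg.Agent.H8.CE Cfsg.Agent.H8.CS

def ic : ℕ := nat_lit 1985229328

def rels : List (List ℕ) := [[nat_lit 1, nat_lit 2, nat_lit 1, nat_lit 2, nat_lit 1, nat_lit 2],
  [nat_lit 1, nat_lit 3, nat_lit 1, nat_lit 3],
  [nat_lit 1, nat_lit 4, nat_lit 1, nat_lit 4],
  [nat_lit 1, nat_lit 5, nat_lit 1, nat_lit 5],
  [nat_lit 1, nat_lit 6, nat_lit 1, nat_lit 6],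
  [nat_lit 1, nat_lit 7, nat_lit 1, nat_lit 7],
  [nat_lit 2, nat_lit 3, nat_lit 2, nat_lit 3, nat_lit 2, nat_lit 3],
  [nat_lit 2, nat_lit 4, nat_lit 2, nat_lit 4],
  [nat_lit 2, nat_lit 5, nat_lit 2, nat_lit 5],
  [nat_lit 2, nat_lit 6, nat_lit 2, nat_lit 6],
  [nat_lit 2, nat_lit 7, nat_lit 2, nat_lit 7],
  [nat_lit 3, nat_lit 4, nat_lit 3, nat_lit 4, nat_lit 3, nat_lit 4],
  [nat_lit 3, nat_lit 5, nat_lit 3, nat_lit 5],
  [nat_lit 3, nat_lit 6, nat_lit 3, nat_lit 6],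
  [nat_lit 3, nat_lit 7, nat_lit 3, nat_lit 7],
  [nat_lit 4, nat_lit 5, nat_lit 4, nat_lit 5, nat_lit 4, nat_lit 5],
  [nat_lit 4, nat_lit 6, nat_lit 4, nat_lit 6],
  [nat_lit 4, nat_lit 7, nat_lit 4, nat_lit 7, nat_lit 4, nat_lit 7],
  [nat_lit 5, nat_lit 6, nat_lit 5, nat_lit 6, nat_lit 5, nat_lit 6],
  [nat_lit 5, nat_lit 7, nat_lit 5, nat_lit 7],
  [nat_lit 6, nat_lit 7, nat_lit 6, nat_lit 7],
  [nat_lit 1, nat_lit 2, nat_lit 3, nat_lit 4, nat_lit 5, nat_lit 6, nat_lit 7, nat_lit 1, nat_lit 2, nat_lit 3, nat_lit 4, nat_lit 5, nat_lit 6, nat_lit 7, nat_lit 1, nat_lit 2, nat_lit 3, nat_lit 4, nat_lit 5, nat_lit 6, nat_lit 7, nat_lit 1, nat_lit 2, nat_lit 3, nat_lit 4, nat_lit 5, nat_lit 6, nat_lit 7, nat_lit 1, nat_lit 2, nat_lit 3, nat_lit 4, nat_lit 5, nat_lit 6, nat_lit 7, nat_lit 1, nat_lit 2, nat_lit 3, nat_lit 4, nat_lit 5, nat_lit 6, nat_lit 7, nat_lit 1, nat_lit 2, nat_lit 3, nat_lit 4, nat_lit 5, nat_lit 6, nat_lit 7, nat_lit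 1, nat_lit 2, nat_lit 3, nat_lit 4, nat_lit 5, nat_lit 6, nat_lit 7, nat_lit 1, nat_lit 2, nat_lit 3, nat_lit 4, nat_lit 5, nat_lit 6, nat_lit 7]]

def lets : Wd := (.cons (nat_lit 1) (nat_lit 0x100000) (.cons (nat_lit 2) (nat_lit 0x200000) (.cons (nat_lit 3) (nat_lit 0x300000) (.cons (nat_lit 4) (nat_lit 0x400000) (.cons (nat_lit 5) (nat_lit 0x500000) (.cons (nat_lit 6) (nat_lit 0x600000) (.cons (nat_lit 7) (nat_lit 0x700000) .nil)))))))

def L : List ℕ := [nat_lit 2, nat_lit 3, nat_lit 4, nat_lit 5, nat_lit 6, nat_lit 7]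

def rt : RS :=
 (.nd (nat_lit 18)
 (.nd (nat_lit 9)
 (.nd (nat_lit 5)
 (.nd (nat_lit 3)
 (.nd (nat_lit 2)
 (.lf (nat_lit 3) (nat_lit 1) (nat_lit 4) (nat_lit 0x400000) (.cons (nat_lit 1) (nat_lit 0x100000) (.cons (nat_lit 4) (nat_lit 0x400000) (.cons (nat_lit 1) (nat_lit 0x100000) .nil))))
 (.lf (nat_lit 6) (nat_lit 1) (nat_lit 7) (nat_lit 0x700000) (.cons (nat_lit 1) (nat_lit 0x100000) (.cons (nat_lit 7) (nat_lit 0x700000) (.cons (nat_lit 1) (nat_lit 0x100000) .nil)))))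
 (.nd (nat_lit 4)
 (.lf (nat_lit 8) (nat_lit 1) (nat_lit 4) (nat_lit 0x400000) (.cons (nat_lit 2) (nat_lit 0x200000) (.cons (nat_lit 4) (nat_lit 0x400000) (.cons (nat_lit 2) (nat_lit 0x200000) .nil))))
 (.lf (nat_lit 11) (nat_lit 1) (nat_lit 7) (nat_lit 0x700000) (.cons (nat_lit 2) (nat_lit 0x200000) (.cons (nat_lit 7) (nat_lit 0x700000) (.cons (nat_lit 2) (nat_lit 0x200000) .nil))))))
 (.nd (nat_lit 7)
 (.nd (nat_lit 6)
 (.lf (nat_lit 2) (nat_lit 2) (nat_lit 1) (nat_lit 0x100000) (.cons (nat_lit 3) (nat_lit 0x300000) (.cons (nat_lit 1) (nat_lit 0x100000) (.cons (nat_lit 3) (nat_lit 0x300000) .nil))))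
 (.lf (nat_lit 13) (nat_lit 1) (nat_lit 5) (nat_lit 0x500000) (.cons (nat_lit 3) (nat_lit 0x300000) (.cons (nat_lit 5) (nat_lit 0x500000) (.cons (nat_lit 3) (nat_lit 0x300000) .nil)))))
 (.nd (nat_lit 8)
 (.lf (nat_lit 14) (nat_lit 1) (nat_lit 6) (nat_lit 0x600000) (.cons (nat_lit 3) (nat_lit 0x300000) (.cons (nat_lit 6) (nat_lit 0x600000) (.cons (nat_lit 3) (nat_lit 0x300000) .nil))))
 (.lf (nat_lit 15) (nat_lit 1) (nat_lit 7) (nat_lit 0x700000) (.cons (nat_lit 3) (nat_lit 0x300000) (.cons (nat_lit 7) (nat_lit 0x700000) (.cons (nat_lit 3) (nat_lit 0x300000) .nil)))))))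
 (.nd (nat_lit 14)
 (.nd (nat_lit 11)
 (.nd (nat_lit 10)
 (.lf (nat_lit 18) (nat_lit 2) (nat_lit 4) (nat_lit 0x400000) (.cons (nat_lit 7) (nat_lit 0x700000) (.cons (nat_lit 4) (nat_lit 0x400000) (.cons (nat_lit 7) (nat_lit 0x700000) (.cons (nat_lit 4) (nat_lit 0x400000) (.cons (nat_lit 7) (nat_lit 0x700000) .nil))))))
 (.lf (nat_lit 12) (nat_lit 1) (nat_lit 4) (nat_lit 0x400000) (.cons (nat_lit 3) (nat_lit 0x300000) (.cons (nat_lit 4) (nat_lit 0x400000) (.cons (nat_lit 3) (nat_lit 0x300000) (.cons (nat_lit 4) (nat_lit 0x400000) (.cons (nat_lit 3) (nat_lit 0x300000) .nil)))))))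
 (.nd (nat_lit 13)
 (.nd (nat_lit 12)
 (.lf (nat_lit 15) (nat_lit 0) (nat_lit 3) (nat_lit 0x300000) (.cons (nat_lit 7) (nat_lit 0x700000) (.cons (nat_lit 3) (nat_lit 0x300000) (.cons (nat_lit 7) (nat_lit 0x700000) .nil))))
 (.lf (nat_lit 4) (nat_lit 1) (nat_lit 5) (nat_lit 0x500000) (.cons (nat_lit 1) (nat_lit 0x100000) (.cons (nat_lit 5) (nat_lit 0x500000) (.cons (nat_lit 1) (nat_lit 0x100000) .nil)))))
 (.lf (nat_lit 4) (nat_lit 2) (nat_lit 1) (nat_lit 0x100000) (.cons (nat_lit 5) (nat_lit 0x500000) (.cons (nat_lit 1) (nat_lit 0x100000) (.cons (nat_lit 5) (nat_lit 0x500000) .nil))))))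
 (.nd (nat_lit 16)
 (.nd (nat_lit 15)
 (.lf (nat_lit 9) (nat_lit 2) (nat_lit 2) (nat_lit 0x200000) (.cons (nat_lit 5) (nat_lit 0x500000) (.cons (nat_lit 2) (nat_lit 0x200000) (.cons (nat_lit 5) (nat_lit 0x500000) .nil))))
 (.lf (nat_lit 13) (nat_lit 2) (nat_lit 3) (nat_lit 0x300000) (.cons (nat_lit 5) (nat_lit 0x500000) (.cons (nat_lit 3) (nat_lit 0x300000) (.cons (nat_lit 5) (nat_lit 0x500000) .nil)))))
 (.nd (nat_lit 17)
 (.lf (nat_lit 6) (nat_lit 2) (nat_lit 1) (nat_lit 0x100000) (.cons (nat_lit 7) (nat_lit 0x700000) (.cons (nat_lit 1) (nat_lit 0x100000) (.cons (nat_lit 7) (nat_lit 0x700000) .nil))))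
 (.lf (nat_lit 11) (nat_lit 2) (nat_lit 2) (nat_lit 0x200000) (.cons (nat_lit 7) (nat_lit 0x700000) (.cons (nat_lit 2) (nat_lit 0x200000) (.cons (nat_lit 7) (nat_lit 0x700000) .nil))))))))
 (.nd (nat_lit 28)
 (.nd (nat_lit 22)
 (.nd (nat_lit 20)
 (.nd (nat_lit 19)
 (.lf (nat_lit 15) (nat_lit 2) (nat_lit 3) (nat_lit 0x300000) (.cons (nat_lit 7) (nat_lit 0x700000) (.cons (nat_lit 3) (nat_lit 0x300000) (.cons (nat_lit 7) (nat_lit 0x700000) .nil))))
 (.lf (nat_lit 21) (nat_lit 2) (nat_lit 6) (nat_lit 0x600000) (.cons (nat_lit 7) (nat_lit 0x700000) (.cons (nat_lit 6) (nat_lit 0x600000) (.cons (nat_lit 7) (nat_lit 0x700000) .nil)))))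
 (.nd (nat_lit 21)
 (.lf (nat_lit 20) (nat_lit 2) (nat_lit 5) (nat_lit 0x500000) (.cons (nat_lit 7) (nat_lit 0x700000) (.cons (nat_lit 5) (nat_lit 0x500000) (.cons (nat_lit 7) (nat_lit 0x700000) .nil))))
 (.lf (nat_lit 16) (nat_lit 1) (nat_lit 5) (nat_lit 0x500000) (.cons (nat_lit 4) (nat_lit 0x400000) (.cons (nat_lit 5) (nat_lit 0x500000) (.cons (nat_lit 4) (nat_lit 0x400000) (.cons (nat_lit 5) (nat_lit 0x500000) (.cons (nat_lit 4) (nat_lit 0x400000) .nil))))))))
 (.nd (nat_lit 24)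
 (.nd (nat_lit 23)
 (.lf (nat_lit 20) (nat_lit 1) (nat_lit 7) (nat_lit 0x700000) (.cons (nat_lit 5) (nat_lit 0x500000) (.cons (nat_lit 7) (nat_lit 0x700000) (.cons (nat_lit 5) (nat_lit 0x500000) .nil))))
 (.lf (nat_lit 19) (nat_lit 1) (nat_lit 6) (nat_lit 0x600000) (.cons (nat_lit 5) (nat_lit 0x500000) (.cons (nat_lit 6) (nat_lit 0x600000) (.cons (nat_lit 5) (nat_lit 0x500000) (.cons (nat_lit 6) (nat_lit 0x600000) (.cons (nat_lit 5) (nat_lit 0x500000) .nil)))))))
 (.nd (nat_lit 26)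
 (.nd (nat_lit 25)
 (.lf (nat_lit 5) (nat_lit 1) (nat_lit 6) (nat_lit 0x600000) (.cons (nat_lit 1) (nat_lit 0x100000) (.cons (nat_lit 6) (nat_lit 0x600000) (.cons (nat_lit 1) (nat_lit 0x100000) .nil))))
 (.lf (nat_lit 9) (nat_lit 1) (nat_lit 5) (nat_lit 0x500000) (.cons (nat_lit 2) (nat_lit 0x200000) (.cons (nat_lit 5) (nat_lit 0x500000) (.cons (nat_lit 2) (nat_lit 0x200000) .nil)))))
 (.nd (nat_lit 27)
 (.lf (nat_lit 10) (nat_lit 1) (nat_lit 6) (nat_lit 0x600000) (.cons (nat_lit 2) (nat_lit 0x200000) (.cons (nat_lit 6) (nat_lit 0x600000) (.cons (nat_lit 2) (nat_lit 0x200000) .nil))))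
 (.lf (nat_lit 7) (nat_lit 2) (nat_lit 2) (nat_lit 0x200000) (.cons (nat_lit 3) (nat_lit 0x300000) (.cons (nat_lit 2) (nat_lit 0x200000) (.cons (nat_lit 3) (nat_lit 0x300000) (.cons (nat_lit 2) (nat_lit 0x200000) (.cons (nat_lit 3) (nat_lit 0x300000) .nil))))))))))
 (.nd (nat_lit 39)
 (.nd (nat_lit 32)
 (.nd (nat_lit 30)
 (.nd (nat_lit 29)
 (.lf (nat_lit 12) (nat_lit 2) (nat_lit 3) (nat_lit 0x300000) (.cons (nat_lit 4) (nat_lit 0x400000) (.cons (nat_lit 3) (nat_lit 0x300000) (.cons (nat_lit 4) (nat_lit 0x400000) (.cons (nat_lit 3) (nat_lit 0x300000) (.cons (nat_lit 4) (nat_lit 0x400000) .nil))))))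
 (.lf (nat_lit 16) (nat_lit 2) (nat_lit 4) (nat_lit 0x400000) (.cons (nat_lit 5) (nat_lit 0x500000) (.cons (nat_lit 4) (nat_lit 0x400000) (.cons (nat_lit 5) (nat_lit 0x500000) (.cons (nat_lit 4) (nat_lit 0x400000) (.cons (nat_lit 5) (nat_lit 0x500000) .nil)))))))
 (.nd (nat_lit 31)
 (.lf (nat_lit 18) (nat_lit 1) (nat_lit 7) (nat_lit 0x700000) (.cons (nat_lit 4) (nat_lit 0x400000) (.cons (nat_lit 7) (nat_lit 0x700000) (.cons (nat_lit 4) (nat_lit 0x400000) (.cons (nat_lit 7) (nat_lit 0x700000) (.cons (nat_lit 4) (nat_lit 0x400000) .nil))))))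
 (.lf (nat_lit 7) (nat_lit 1) (nat_lit 3) (nat_lit 0x300000) (.cons (nat_lit 2) (nat_lit 0x200000) (.cons (nat_lit 3) (nat_lit 0x300000) (.cons (nat_lit 2) (nat_lit 0x200000) (.cons (nat_lit 3) (nat_lit 0x300000) (.cons (nat_lit 2) (nat_lit 0x200000) .nil))))))))
 (.nd (nat_lit 35)
 (.nd (nat_lit 33)
 (.lf (nat_lit 1) (nat_lit 1) (nat_lit 2) (nat_lit 0x200000) (.cons (nat_lit 1) (nat_lit 0x100000) (.cons (nat_lit 2) (nat_lit 0x200000) (.cons (nat_lit 1) (nat_lit 0x100000) (.cons (nat_lit 2) (nat_lit 0x200000) (.cons (nat_lit 1) (nat_lit 0x100000) .nil))))))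
 (.nd (nat_lit 34)
 (.lf (nat_lit 1) (nat_lit 2) (nat_lit 1) (nat_lit 0x100000) (.cons (nat_lit 2) (nat_lit 0x200000) (.cons (nat_lit 1) (nat_lit 0x100000) (.cons (nat_lit 2) (nat_lit 0x200000) (.cons (nat_lit 1) (nat_lit 0x100000) (.cons (nat_lit 2) (nat_lit 0x200000) .nil))))))
 (.lf (nat_lit 5) (nat_lit 2) (nat_lit 1) (nat_lit 0x100000) (.cons (nat_lit 6) (nat_lit 0x600000) (.cons (nat_lit 1) (nat_lit 0x100000) (.cons (nat_lit 6) (nat_lit 0x600000) .nil))))))
 (.nd (nat_lit 37)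
 (.nd (nat_lit 36)
 (.lf (nat_lit 10) (nat_lit 2) (nat_lit 2) (nat_lit 0x200000) (.cons (nat_lit 6) (nat_lit 0x600000) (.cons (nat_lit 2) (nat_lit 0x200000) (.cons (nat_lit 6) (nat_lit 0x600000) .nil))))
 (.lf (nat_lit 14) (nat_lit 2) (nat_lit 3) (nat_lit 0x300000) (.cons (nat_lit 6) (nat_lit 0x600000) (.cons (nat_lit 3) (nat_lit 0x300000) (.cons (nat_lit 6) (nat_lit 0x600000) .nil)))))
 (.nd (nat_lit 38)
 (.lf (nat_lit 17) (nat_lit 2) (nat_lit 4) (nat_lit 0x400000) (.cons (nat_lit 6) (nat_lit 0x600000) (.cons (nat_lit 4) (nat_lit 0x400000) (.cons (nat_lit 6) (nat_lit 0x600000) .nil))))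
 (.lf (nat_lit 19) (nat_lit 2) (nat_lit 5) (nat_lit 0x500000) (.cons (nat_lit 6) (nat_lit 0x600000) (.cons (nat_lit 5) (nat_lit 0x500000) (.cons (nat_lit 6) (nat_lit 0x600000) (.cons (nat_lit 5) (nat_lit 0x500000) (.cons (nat_lit 6) (nat_lit 0x600000) .nil))))))))))
 (.nd (nat_lit 41)
 (.nd (nat_lit 40)
 (.lf (nat_lit 3) (nat_lit 2) (nat_lit 1) (nat_lit 0x100000) (.cons (nat_lit 4) (nat_lit 0x400000) (.cons (nat_lit 1) (nat_lit 0x100000) (.cons (nat_lit 4) (nat_lit 0x400000) .nil))))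
 (.lf (nat_lit 8) (nat_lit 2) (nat_lit 2) (nat_lit 0x200000) (.cons (nat_lit 4) (nat_lit 0x400000) (.cons (nat_lit 2) (nat_lit 0x200000) (.cons (nat_lit 4) (nat_lit 0x400000) .nil)))))
 (.nd (nat_lit 42)
 (.lf (nat_lit 17) (nat_lit 1) (nat_lit 6) (nat_lit 0x600000) (.cons (nat_lit 4) (nat_lit 0x400000) (.cons (nat_lit 6) (nat_lit 0x600000) (.cons (nat_lit 4) (nat_lit 0x400000) .nil))))
 (.nd (nat_lit 44)
 (.nd (nat_lit 43)
 (.lf (nat_lit 22) (nat_lit 7) (nat_lit 1) (nat_lit 0x100000) (.cons (nat_lit 7) (nat_lit 0x700000) (.cons (nat_lit 6) (nat_lit 0x600000) (.cons (nat_lit 5) (nat_lit 0x500000) (.cons (nat_lit 4) (nat_lit 0x400000) (.cons (nat_lit 3) (nat_lit 0x300000) (.cons (nat_lit 2) (nat_lit 0x200000) (.cons (nat_lit 1) (nat_lit 0x100000) (.cons (nat_lit 7) (nat_lit 0x700000) (.cons (nat_lit 6) (nat_lit 0x600000) (.cons (nat_lit 5) (nat_lit 0x500000) (.cons (nat_lit 4) (nat_lit 0x400000) (.cons (nat_lit 3) (nat_lit 0x300000) (.cons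 (nat_lit 2) (nat_lit 0x200000) (.cons (nat_lit 1) (nat_lit 0x100000) (.cons (nat_lit 7) (nat_lit 0x700000) (.cons (nat_lit 6) (nat_lit 0x600000) (.cons (nat_lit 5) (nat_lit 0x500000) (.cons (nat_lit 4) (nat_lit 0x400000) (.cons (nat_lit 3) (nat_lit 0x300000) (.cons (nat_lit 2) (nat_lit 0x200000) (.cons (nat_lit 1) (nat_lit 0x100000) (.cons (nat_lit 7) (nat_lit 0x700000) (.cons (nat_lit 6) (nat_lit 0x600000) (.cons (nat_lit 5) (nat_lit 0x500000) (.cons (nat_lit 4) (nat_lit 0x400000) (.cons (nat_lit 3) (nat_lit 0x300000) (.cons (nat_lit 2) (nat_lit 0x200000) (.cons (nat_lit 1) (nat_lit 0x100000) (.cons (nat_lit 7) (nat_lit 0x700000) (.cons (nat_lit 6) (nat_lit 0x600000) (.cons (nat_lit 5) (nat_lit 0x500000) (.cons (nat_lit 4) (nat_lit 0x400000) (.cons (nat_lit 3) (nat_lit 0x300000) (.cons (nat_lit 2) (nat_lit 0x200000) (.cons (nat_lit 1) (nat_lit 0x100000) (.cons (nat_lit 7) (nat_lit 0x700000) (.cons (nat_lit 6) (nat_lit 0x600000) (.cons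 (nat_lit 5) (nat_lit 0x500000) (.cons (nat_lit 4) (nat_lit 0x400000) (.cons (nat_lit 3) (nat_lit 0x300000) (.cons (nat_lit 2) (nat_lit 0x200000) (.cons (nat_lit 1) (nat_lit 0x100000) (.cons (nat_lit 7) (nat_lit 0x700000) (.cons (nat_lit 6) (nat_lit 0x600000) (.cons (nat_lit 5) (nat_lit 0x500000) (.cons (nat_lit 4) (nat_lit 0x400000) (.cons (nat_lit 3) (nat_lit 0x300000) (.cons (nat_lit 2) (nat_lit 0x200000) (.cons (nat_lit 1) (nat_lit 0x100000) (.cons (nat_lit 7) (nat_lit 0x700000) (.cons (nat_lit 6) (nat_lit 0x600000) (.cons (nat_lit 5) (nat_lit 0x500000) (.cons (nat_lit 4) (nat_lit 0x400000) (.cons (nat_lit 3) (nat_lit 0x300000) (.cons (nat_lit 2) (nat_lit 0x200000) (.cons (nat_lit 1) (nat_lit 0x100000) (.cons (nat_lit 7) (nat_lit 0x700000) (.cons (nat_lit 6) (nat_lit 0x600000) (.cons (nat_lit 5) (nat_lit 0x500000) (.cons (nat_lit 4) (nat_lit 0x400000) (.cons (nat_lit 3) (nat_lit 0x300000) (.cons (nat_lit 2) (nat_lit 0x200000) .nil)))))))))))))))))))))))))))))))))))))))))))))))))))))))))))))))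
 (.lf (nat_lit 6) (nat_lit 3) (nat_lit 7) (nat_lit 0x700000) (.cons (nat_lit 1) (nat_lit 0x100000) (.cons (nat_lit 7) (nat_lit 0x700000) (.cons (nat_lit 1) (nat_lit 0x100000) .nil)))))
 (.lf (nat_lit 2) (nat_lit 1) (nat_lit 3) (nat_lit 0x300000) (.cons (nat_lit 1) (nat_lit 0x100000) (.cons (nat_lit 3) (nat_lit 0x300000) (.cons (nat_lit 1) (nat_lit 0x100000) .nil))))))))))

def fc : List ℕ := [nat_lit 0x1930001b0001970001a0001b10001a0001b40001b0001b60001b0001b50001b0001b2000180001a40001a0001a20001a0001a60001a0001a50001a000195000190001960001900019200019000191000170001840001800018600018000185000180001830001800018100018000175000170001760001700017200015000166000160001670001600016300016000162000160001610001400015500015000153000150001560001500015100015000146000140001470001400014300014000142000110001320001300013700013000136000120001340001300013300013000122000120001270001200012500012000124000120001230001200011600011000117000110001130000e000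1110001100010300010000107000100001060000f000104000100000f30000f0000f70000f0000f50000f0000f40000f0000e60000e0000e40000e0000e70000e0000e20000e0000e10000e0000d40000d0000d70000d0000d60000c0000d10000d0000c40000c0000c70000c0000c50000c0000c10000c0000b70000b0000b60000a0000b20000b0000b10000b0000a70000a0000a50000a0000a20000a0000a10000a0000960000800009500009000093000090000920000900009100009000085000060000830000800008200008000081000080000750000700007400007000073000070000720000700007100007000064000060000660000600006300006000062000060000610000600005400005000053000050000520000500005100005000043000040000460000400004200004000041000040000320000300003700003000036000030000350000300003100003000021000020000270000200002600002000025000020000240000200001700001000016000010000150000100001400001000013000010000070000000000600000000005000000000040000000000300000000002000000001770001b0001730001a000164000190001570001800014400017000135000160001140001500010500014000101000130000f1000120000d5000110000d2000100000c20000f0000b50000e0000b30000d0000a30000c0000940000b0000840000a00007700009000057000080000560000700004700006000045000050000340000400002300003000012000020000010000100000000000]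

noncomputable def S : ℕ → ℕ := facts (nat_lit 0) (nat_lit 0) fc

theorem rt_chk : rt.chk ic (rels ++ rels.map (invw ic)) = true := by decide +kernel

theorem rels_lt : (rels.all fun w => w.all fun y => Nat.blt y 16) = true := by decide +kernel

theorem s0 : S 0 = 0 := by decide +kernel

theorem defs0 : withF (nat_lit 0) (nat_lit 0) fc (fun S => rangeS (nat_lit 28) (defC S) (nat_lit 5) (nat_lit 1)) = true := by decide +kernel

theorem defs : rangeS (nat_lit 28) (defC S) (nat_lit 5) (nat_lit 1) = true := by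
  have h := defs0
  rw [withF_eq] at h
  exact h

theorem ini0 : withF (nat_lit 0) (nat_lit 0) fc (fun S => initC S L (nat_lit 28)) = true := by decide +kernel

theorem ini : initC S L (nat_lit 28) = true := by
  have h := ini0
  rw [withF_eq] at h
  exact h

theorem lets_ok : letsOk ic (nat_lit 7) lets = true := by decide +kernel

def pc0 : List ℕ := [nat_lit 0x1b1a990b981b8c2b921a1714666312716d6e6f747513100d0b4a4b0835363738053306393a3b3d464b093e3f40414207084344450a4e525350510d5b116c6b6977781786851b2a1b1779171b091b851b131b861b1418841b111a1778171a0a1a847d841a1b1a851a071a861a061916731619151983192919801928177f192718156b151809187c1813187e1814187d1812187b1810171465141715177a17291577172816746f741617167516161672160f1676160e1413160d15115b111515156a5f6a151c156c152915691527146662661417146714161468140f1110140e1310581013201367130212661318136513011368132c120f540f1220126312021262120c126112011264122c115955591117115a11160e0d110f1158110d100d510d10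1f105a10040f59101a105b10030f0c4d0c0f1f0f560f040f550f190f570f030e524e520e170e0b4a0b0e1d0e530e160e510e0e0e500e0d00000d0b490b0d0a0d530d080c520d070d500d050c0a450a0c0a0c4f0c080c4e0c060c4c0c050b0941090b1e0a4b0b290b480b280b470b270a0838080a1e0a463d460a150a440a280a430a27080709130942091409400912093f0911093e0910060508140837081208360811083508100705330507260738072507370724073607230735072206042f0406090633061306340612063206110631061005042d04051d0534050f0532050e0531050d04032703041c042e042904300428042c042703022202031b032a03080329030703280306032b030502011c010221022602040225021a02240219022302030121010201200118011f010c011e0101011d012c]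

theorem prog0_0 : withF (nat_lit 0) (nat_lit 0) fc (fun S => dedProg S (nat_lit 28) (nat_lit 8) (nat_lit 255) rt (nat_lit 399) (nat_lit 2048) (nat_lit 4) pc0 (nat_lit 34) (nat_lit 155)) = true := by decide +kernel

theorem prog0 : dedProg S (nat_lit 28) (nat_lit 8) (nat_lit 255) rt (nat_lit 399) (nat_lit 2048) (nat_lit 4) pc0 (nat_lit 34) (nat_lit 155) = true := by
  have h := prog0_0
  rw [withF_eq] at h
  exact h

def cc0 : List ℕ := [nat_lit 0x1b9695979a949801999190931a929801998e8f199a8d8c01188a898b889487011b8586171a848c018283161981807f01187c7e157d847b01797a141778777f01757416737276130170746f6e6d7112016b6c11156a776901676614656810130163666261640f12015e600e5f6a5d5c015a59115b0d105801565955570c0f540153520e0b0d5150014f524e0a0c4d4c01094b4a0b49484701084b460a4544430109074241403f3e01063c463d3b3a3901080705383736350106330504343231012f2e2d0403302c012a29282703022b01262524232202010121201f1e1d1c0101]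

theorem clo0_0 : withF (nat_lit 0) (nat_lit 0) fc (fun S => cloProg S (nat_lit 155) (nat_lit 8) (nat_lit 255) lets (nat_lit 399) (nat_lit 2048) (nat_lit 4) cc0 (nat_lit 0) (nat_lit 0) (nat_lit 28) (nat_lit 28)) = true := by decide +kernel

theorem clo0 : cloProg S (nat_lit 155) (nat_lit 8) (nat_lit 255) lets (nat_lit 399) (nat_lit 2048) (nat_lit 4) cc0 (nat_lit 0) (nat_lit 0) (nat_lit 28) (nat_lit 28) = true := by
  have h := clo0_0
  rw [withF_eq] at h
  exact h

theorem facts_ok {G : Type*} [Group G] {x : ℕ → G} {H : Subgroup G}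
    (hic : ∀ y, y < 16 → x (il ic y) = (x y)⁻¹) (h0 : x 0 = 1) (hrels : ∀ w ∈ rels, ev x w = 1)
    (hst : ∀ g, g < (nat_lit 28) + L.length → VF H x (rho x S) (nat_lit 28) S g) :
    ∀ g, g < (nat_lit 155) → VF H x (rho x S) (nat_lit 28) S g := by
  have hv : rt.Valid x ic := RS.valid_of_chk hic h0 (relsAll_ok hic rels_lt hrels) rt rt_chk
  have hn : (nat_lit 28) ≤ 1048576 := Nat.le_of_ble_eq_true (by decide)
  have g0 : ∀ g, g < (nat_lit 34) → VF H x (rho x S) (nat_lit 28) S g := hst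

  have g1 := dedProg_sound (H := H) (ρ := rho x S) hic hn hv prog0 g0
  exact g1

theorem bound {G : Type*} [Group G] {x : ℕ → G} {H : Subgroup G}
    (hic : ∀ y, y < 16 → x (il ic y) = (x y)⁻¹) (h0 : x 0 = 1) (hrels : ∀ w ∈ rels, ev x w = 1)
    (hL : ∀ s ∈ L, x s ∈ H) :
    H.relIndex (Subgroup.closure (x '' {y | 1 ≤ y ∧ y ≤ 7})) ≤ 28 ∧
      H.relIndex (Subgroup.closure (x '' {y | 1 ≤ y ∧ y ≤ 7})) ≠ 0 :=
  bound_of (k := 7) (n := 28) (kk := 5) hic h0 hL (by decide) (by decide) (by decide) (by decide) (by decide) lets_ok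
    s0 defs ini (facts_ok hic h0 hrels) clo0


end Cfsg.Agent.H4.MfT
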