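import Mathlib
import Cfsg.Agent.H4_Pd3
import Cfsg.Agent.H4_BRcore
import Cfsg.Agent.H4_S3
import Cfsg.Agent.H9_Burnside
import Cfsg.Agent.H3_CharPerm2

/-! Transitive groups of prime degree with a Sylow normalizer of order `2p`. -/

set_option autoImplicit false

namespace Cfsg.Agent.H4.PdA

open Cfsg Cfsg.Agent.H3.CharIrr Cfsg.Agent.H3.CharComplete Cfsg.Agent.H3.CharInd
  Cfsg.Agent.H3.CharMult Cfsg.Agent.H3.CharInt Cfsg.Agent.H4.BRgr
  Cfsg.Agent.H4.BRdata Cfsg.Agent.H4.Pd1 Cfsg.Agent.H3.CharPerm2
open Cfsg.Agent.H10.BlockKer (triv triv_coe ker_mul)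
open scoped ComplexConjugate

/-- `|P| = p` or `P` is normal -/
theorem card_P {G : Type*} [Group G] [Finite G] {p : ℕ} [hp : Fact p.Prime] (hp2 : 2 < p) (P : Sylow p G)
    (hN : Nat.card (Subgroup.normalizer ((P : Subgroup G) : Set G)) = 2 * p)
    (hn : ¬ (P : Subgroup G).Normal) : Nat.card P = p := by
  obtain ⟨k, hk⟩ := IsPGroup.iff_card.mp P.isPGroup'
  have h1 : Nat.card P ∣ 2 * p := by
    rw [← hN]
    exact Subgroup.card_dvd_of_le Subgroup.le_normalizer
  rw [hk] at h1 ⊢
  have hk1 : k < 2 := by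
    by_contra h
    push Not at h
    have h2 : p ^ 2 ∣ 2 * p := (pow_dvd_pow p h).trans h1
    rw [sq] at h2
    have h3 := Nat.dvd_of_mul_dvd_mul_right hp.out.pos h2
    have := Nat.le_of_dvd (by norm_num) h3
    omega
  have hk0 : k ≠ 0 := by
    rintro rfl
    apply hn
    have h3 : (P : Subgroup G) = ⊥ := by
      apply Subgroup.eq_bot_of_card_eq
      rw [pow_zero] at hk
      exact hk
    rw [h3]; infer_instance
  obtain rfl : k = 1 := by omega
  exact pow_one p

/-- a `p`-group acting faithfully... nontrivially on `p` points is transitive -/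
theorem transitive {α G : Type*} [Fintype α] [Group G] [Finite G] [MulAction G α] [FaithfulSMul G α] {p : ℕ}
    [hp : Fact p.Prime] (hα : Fintype.card α = p) (hG : Nat.card G = p) : MulAction.IsPretransitive G α := by
  classical
  obtain ⟨g, a, hga⟩ : ∃ (g : G) (a : α), g • a ≠ a := by
    by_contra hcon
    push Not at hcon
    haveI : Subsingleton G := ⟨fun g h => by
      apply FaithfulSMul.eq_of_smul_eq_smul (α := α)
      intro a
      rw [hcon, hcon]⟩
    have h1 := Finite.card_le_one_iff_subsingleton.mpr this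
    rw [hG] at h1
    exact absurd hp.out.one_lt (by omega)
  have h1 := MulAction.index_stabilizer G a
  have h2 : (MulAction.stabilizer G a).index ∣ p := by
    rw [← hG]; exact Subgroup.index_dvd_card _
  have h3 : (MulAction.stabilizer G a).index = p := by
    rcases (Nat.dvd_prime hp.out).mp h2 with h | h
    · exfalso
      rw [Subgroup.index_eq_one] at h
      have : g ∈ MulAction.stabilizer G a := by rw [h]; trivial
      exact hga this
    · exact h
  rw [h3] at h1
  have h4 : MulAction.orbit G a = Set.univ := by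
    apply Set.eq_univ_of_univ_subset
    have h5 : (Set.univ : Set α).ncard = p := by rw [Set.ncard_univ, Nat.card_eq_fintype_card, hα]
    exact (Set.eq_of_subset_of_ncard_le (Set.subset_univ (MulAction.orbit G a)) (by rw [h5, ← h1])
      (Set.toFinite _)).symm.subset
  exact (MulAction.isPretransitive_iff_orbit_eq_univ a).mpr h4

section

variable {α G : Type*} [Fintype α] [Group G] [Finite G] [MulAction G α] [FaithfulSMul G α] {p : ℕ}
    [hp : Fact p.Prime]

/-- a Sylow subgroup acting regularly is self-centralizing -/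
theorem cent_eq (hα : Fintype.card α = p) {P : Sylow p G} (hP : Nat.card P = p)
    (htr : MulAction.IsPretransitive (P : Subgroup G) α) :
    Subgroup.centralizer ((P : Subgroup G) : Set G) = (P : Subgroup G) := by
  classical
  haveI : IsCyclic (P : Subgroup G) := isCyclic_of_prime_card hP
  haveI : IsMulCommutative (P : Subgroup G) := IsCyclic.isMulCommutative
  have hle : (P : Subgroup G) ≤ Subgroup.centralizer ((P : Subgroup G) : Set G) :=
    Subgroup.le_centralizer _
  symm
  apply Subgroup.eq_of_le_of_card_ge hle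
  obtain ⟨a⟩ : Nonempty α := Fintype.card_pos_iff.1 (by rw [hα]; exact hp.out.pos)
  have hinj : Function.Injective (fun c : Subgroup.centralizer ((P : Subgroup G) : Set G) => (c : G) • a) := by
    intro c d hcd
    apply Subtype.ext
    apply FaithfulSMul.eq_of_smul_eq_smul (α := α)
    intro b
    obtain ⟨x, hx⟩ := MulAction.exists_smul_eq (P : Subgroup G) a b
    have hx' : (x : G) • a = b := hx
    have h1 := Subgroup.mem_centralizer_iff.mp c.2 x x.2
    have h2 := Subgroup.mem_centralizer_iff.mp d.2 x x.2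
    rw [← hx', ← mul_smul, ← mul_smul, ← h1, ← h2, mul_smul, mul_smul]
    exact congrArg _ hcd
  have h1 := Nat.card_le_card_of_injective _ hinj
  rw [Nat.card_eq_fintype_card (α := α), hα] at h1
  exact h1.trans hP.ge

theorem relIndex_eq {P : Sylow p G} (hP : Nat.card P = p)
    (hN : Nat.card (Subgroup.normalizer ((P : Subgroup G) : Set G)) = 2 * p)
    (hC : Subgroup.centralizer ((P : Subgroup G) : Set G) = (P : Subgroup G)) :
    (Subgroup.centralizer ((P : Subgroup G) : Set G)).relIndex
      (Subgroup.normalizer ((P : Subgroup G) : Set G)) = 2 := by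
  rw [hC]
  have h1 := Subgroup.card_mul_index ((P : Subgroup G).subgroupOf (Subgroup.normalizer ((P : Subgroup G) : Set G)))
  rw [hN] at h1
  have h2 : Nat.card ((P : Subgroup G).subgroupOf (Subgroup.normalizer ((P : Subgroup G) : Set G))) = p := by
    refine Eq.trans ?_ hP
    exact Nat.card_congr (Subgroup.subgroupOfEquivOfLe Subgroup.le_normalizer).toEquiv
  rw [h2] at h1
  have h3 : p * ((P : Subgroup G).subgroupOf (Subgroup.normalizer ((P : Subgroup G) : Set G))).index = p * 2 := by
    rw [h1, mul_comm]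
  exact Nat.eq_of_mul_eq_mul_left hp.out.pos h3

theorem normal_of_aff (hα : Fintype.card α = p) {P : Sylow p G}
    (hN : Nat.card (Subgroup.normalizer ((P : Subgroup G) : Set G)) = 2 * p)
    (hA : H9.PrimeDeg.Aff p G α) : (P : Subgroup G).Normal := by
  classical
  obtain ⟨e, he⟩ := hA
  choose a b hab using he
  have hinj : Function.Injective (fun g : G => (a g, b g)) := by
    intro g h hgh
    have h1 := (Prod.mk.injEq _ _ _ _).mp hgh
    apply FaithfulSMul.eq_of_smul_eq_smul (α := α)
    intro y
    obtain ⟨x, rfl⟩ := e.surjective y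
    rw [hab g, hab h, h1.1, h1.2]
  haveI : NeZero p := ⟨hp.out.pos.ne'⟩
  have h1 := Nat.card_le_card_of_injective _ hinj
  rw [Nat.card_prod, Nat.card_zmod] at h1
  have h2 : Nat.card G = 2 * p * Nat.card (Sylow p G) := by
    rw [P.card_eq_index_normalizer, ← hN]
    exact (Subgroup.card_mul_index _).symm
  have h3 : Nat.card (Sylow p G) ≡ 1 [MOD p] := card_sylow_modEq_one p G
  have h4 : Nat.card (Sylow p G) = 1 := by
    by_contra hne
    have h5 : p ∣ Nat.card (Sylow p G) - 1 := (Nat.modEq_iff_dvd' Nat.card_pos).mp h3.symm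
    have h6 : 0 < Nat.card (Sylow p G) := Nat.card_pos
    have h7 := Nat.le_of_dvd (by omega) h5
    have h8 : 2 * p * (p + 1) ≤ p * p := by
      calc 2 * p * (p + 1) ≤ 2 * p * Nat.card (Sylow p G) := Nat.mul_le_mul_left _ (by omega)
        _ ≤ p * p := by rw [← h2]; exact h1
    have := hp.out.pos
    nlinarith
  rw [P.card_eq_index_normalizer, Subgroup.index_eq_one] at h4
  exact Subgroup.normalizer_eq_top_iff.mp h4

/-- elements of order divisible by `p` have no fixed points -/
theorem fixed_sing {P : Sylow p G} (hP : Nat.card (P : Subgroup G) = p) (hC : Subgroup.centralizer ((P : Subgroup G) : Set G) = (P : Subgroup G))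
    (hPf : ∀ x ∈ (P : Subgroup G), x ≠ 1 → ∀ a : α, x • a ≠ a) {g : G} (hg : p ∣ orderOf g) (a : α) :
    g • a ≠ a := by
  intro h
  obtain ⟨k, h1, h2⟩ := exists_conj_mem hP hC hg
  apply hPf _ h1 h2 (k • a)
  rw [mul_smul, mul_smul, inv_smul_smul, h]

theorem main (hp2 : 2 < p) (hα : Fintype.card α = p) (P : Sylow p G)
    (hN : Nat.card (Subgroup.normalizer ((P : Subgroup G) : Set G)) = 2 * p) :
    (P : Subgroup G).Normal ∨ ∃ (a : ℕ) (F : Type) (_ : Field F) (_ : Fintype F),
      p = 2 ^ a + 1 ∧ Fintype.card F = 2 ^ a ∧ Nonempty (G ≃* Matrix.SpecialLinearGroup (Fin 2) F) := by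
  classical
  by_cases hn : (P : Subgroup G).Normal
  · exact Or.inl hn
  right
  haveI : Fintype G := Fintype.ofFinite G
  have hP := card_P hp2 P hN hn
  haveI htrP := transitive (p := p) hα (G := (P : Subgroup G)) hP
  have htr : MulAction.IsPretransitive G α := ⟨fun a b => by
    obtain ⟨x, hx⟩ := MulAction.exists_smul_eq (P : Subgroup G) a b
    exact ⟨x, hx⟩⟩
  have hC := cent_eq hα hP htrP
  have he := relIndex_eq hP hN hC
  have hA : ¬ H9.PrimeDeg.Aff p G α := fun h => hn (normal_of_aff hα hN h)
  have hp3 : 3 < p := by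
    by_contra h
    exact hA (H9.Burnside.aff_of_le_three (p := p) hα (by omega))
  have h2t := H9.Burnside.burnside hα hA
  obtain ⟨t, ht⟩ : ∃ t, p = 2 * t + 1 := by
    rcases hp.out.eq_two_or_odd' with h | h
    · omega
    · exact h
  have ht2 : 2 ≤ t := by omega
  have hcα : Nat.card α = p := by rw [Nat.card_eq_fintype_card, hα]
  -- fixed points of elements of `P`
  have hPf : ∀ x ∈ (P : Subgroup G), x ≠ 1 → ∀ a : α, x • a ≠ a := by
    intro x hx hx1 a ha
    apply hx1
    apply FaithfulSMul.eq_of_smul_eq_smul (α := α)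
    intro b
    rw [one_smul]
    obtain ⟨y, hy⟩ := MulAction.exists_smul_eq (P : Subgroup G) a b
    have hy' : (y : G) • a = b := hy
    have hyC : (y : G) ∈ Subgroup.centralizer ((P : Subgroup G) : Set G) := by rw [hC]; exact y.2
    rw [← hy', ← mul_smul, Subgroup.mem_centralizer_iff.mp hyC x hx, mul_smul, ha]
  have hsing : ∀ g : G, p ∣ orderOf g → perm G α g = 0 := by
    intro g hg
    have : IsEmpty (MulAction.fixedBy α g) := ⟨fun a => fixed_sing hP hC hPf hg (a : α) a.2⟩
    show (Nat.card (MulAction.fixedBy α g) : ℂ) = 0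
    rw [Nat.card_of_isEmpty]; simp
  -- the character
  have hirr := (irr_iff_two_pretransitive (G := G) α (by omega)).mpr h2t
  let χ : IrrCharacter G := ⟨fun g => perm G α g - 1, hirr⟩
  have hχ : ∀ g, (χ : G → ℂ) g = (Nat.card (MulAction.fixedBy α g) : ℂ) - 1 := fun g => rfl
  have hχP : ∀ x ∈ (P : Subgroup G), x ≠ 1 → (χ : G → ℂ) x = ((-1 : ℤ) : ℂ) := by
    intro x hx hx1
    show perm G α x - 1 = _
    rw [hsing x (dvd_of_mem hP hx hx1)]
    simp
  have hone : Nat.card (MulAction.fixedBy α (1 : G)) = p := by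
    rw [← hcα]
    exact Nat.card_congr (Equiv.subtypeUnivEquiv (fun a => by rw [MulAction.mem_fixedBy, one_smul]))
  have hχd : charDegree (χ : G → ℂ) = 2 * t := by
    have h1 := deg_eq χ
    rw [hχ, hone, ht] at h1
    have h2 : (charDegree (χ : G → ℂ) : ℂ) = ((2 * t : ℕ) : ℂ) := by
      rw [← h1]; push_cast; ring
    exact_mod_cast h2
  obtain ⟨X, Y, δ, ε, D⟩ := BRcore.exists_BD (by omega : p ≠ 2) hP he (t := t) (by omega)
  obtain ⟨x₀, hx₀, hx₁⟩ := pt_ne hP
  have hχX : χ ∈ X := by
    by_contra hnX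
    have h1 := not_mem_Y D hP hC he ht2 hχP
    have h2 := D.van hC χ (by
      rw [Finset.mem_union, not_or]; exact ⟨hnX, h1⟩) x₀ hx₀ hx₁
    rw [hχP x₀ hx₀ hx₁] at h2
    norm_num at h2
  have hχt : χ ≠ triv G := by
    intro h
    have h1 := hχP x₀ hx₀ hx₁
    rw [h, triv_coe] at h1
    norm_num at h1
  have C := mkPd D hP hC he ht2 ht hχX hχt hχd
  obtain ⟨θ, hθ⟩ : Y.Nonempty := by
    rw [← Finset.card_pos, D.cY]; omega
  -- the relation in terms of numbers of fixed points
  obtain ⟨f, hf⟩ : ∃ f : G → ℕ, ∀ g, f g = Nat.card (MulAction.fixedBy α g) := ⟨_, fun _ => rfl⟩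
  have hrel : ∀ g : G, ¬ p ∣ orderOf g → ((f (g * g) : ℤ) - 2) = ((f g : ℤ) - 2) * (((f g : ℤ) - 2) - 2 * (t - 1)) := by
    intro g hg
    have hg2 : ¬ p ∣ orderOf (g * g) := by
      rw [← sq]
      intro h
      exact hg (h.trans (orderOf_pow_dvd 2))
    have h1 := C.sq_rel hθ hg
    rw [C.val hθ hg, C.val hθ hg2, hχ, hχ, ← hf, ← hf] at h1
    have h2 : ((f (g * g) : ℂ) - 2) = ((f g : ℂ) - 2) * (((f g : ℂ) - 2) - 2 * (t - 1)) := by
      linear_combination h1
    exact_mod_cast h2
  have hfle : ∀ g : G, f g ≤ p := by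
    intro g
    rw [hf, ← hcα]
    exact Nat.card_le_card_of_injective _ Subtype.val_injective
  have hmono : ∀ g : G, f g ≤ f (g * g) := by
    intro g
    rw [hf, hf]
    refine Nat.card_le_card_of_injective (fun a : MulAction.fixedBy α g => (⟨a, by
      have h1 : g • (a : α) = a := a.2
      rw [MulAction.mem_fixedBy, mul_smul, h1, h1]⟩ : MulAction.fixedBy α (g * g))) ?_
    intro a b hab
    exact Subtype.ext (congrArg (fun z : MulAction.fixedBy α (g * g) => (z : α)) hab)
  have hfull : ∀ g : G, f g = p → g = 1 := by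
    intro g hg
    rw [hf] at hg
    apply FaithfulSMul.eq_of_smul_eq_smul (α := α)
    intro a
    have h1 : MulAction.fixedBy α g = Set.univ := by
      apply Set.eq_univ_of_univ_subset
      have h5 : (Set.univ : Set α).ncard = p := by rw [Set.ncard_univ, hcα]
      rw [Nat.card_coe_set_eq] at hg
      exact (Set.eq_of_subset_of_ncard_le (Set.subset_univ (MulAction.fixedBy α g)) (by rw [h5, hg])
        (Set.toFinite _)).symm.subset
    have h2 : a ∈ MulAction.fixedBy α g := by rw [h1]; trivial
    rw [one_smul]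
    exact h2
  have hsmall : ∀ g : G, ¬ p ∣ orderOf g → g ≠ 1 → f g = 1 ∨ f g = 2 := by
    intro g hg hg1
    have h1 := hrel g hg
    have h2 := hfle g
    have h3 := hfle (g * g)
    have h4 := hmono g
    have h5 : f g ≠ p := fun h => hg1 (hfull g h)
    have h6 : (f g : ℤ) ≠ 0 := by
      intro h
      rw [h] at h1
      have : (f (g * g) : ℤ) = 4 * t + 2 := by linarith
      omega
    by_contra hcon
    push Not at hcon
    have h7 : 3 ≤ f g := by omega
    have h8 : (3 : ℤ) ≤ f g := by exact_mod_cast h7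
    have h9 : (f g : ℤ) ≤ 2 * t := by
      have : f g ≤ 2 * t := by omega
      exact_mod_cast this
    have h10 : (f g : ℤ) ≤ f (g * g) := by exact_mod_cast h4
    nlinarith
  have hcardG := C.card (fun g hg hg1 => by
    rw [hχ, ← hf]
    rcases hsmall g hg hg1 with h | h
    · right; rw [h]; simp
    · left; rw [h]; norm_num)
  -- sharply triply transitive
  have hfix3 : ∀ g : G, 3 ≤ Nat.card (MulAction.fixedBy α g) → g = 1 := by
    intro g hg
    by_contra hg1
    by_cases hd : p ∣ orderOf g
    · have h1 := hsing g hd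
      have h2 : Nat.card (MulAction.fixedBy α g) = 0 := by
        have h3 : (Nat.card (MulAction.fixedBy α g) : ℂ) = 0 := h1
        exact_mod_cast h3
      omega
    · have := hsmall g hd hg1
      rw [hf] at this
      omega
  have h3t : MulAction.IsMultiplyPretransitive G α 3 := by
    obtain ⟨x⟩ : Nonempty (Fin 3 ↪ α) := Function.Embedding.nonempty_of_card_le (by
      rw [Fintype.card_fin, hα]; omega)
    have hinj : Function.Injective (fun g : G => g • x) := by
      intro g h hgh
      have h1 : h⁻¹ * g = 1 := by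
        apply hfix3
        have h2 : (h⁻¹ * g) • x = x := by
          rw [mul_smul, inv_smul_eq_iff]; exact hgh
        have h3 : Fintype.card (Fin 3) = 3 := Fintype.card_fin 3
        rw [← Nat.card_eq_fintype_card] at h3
        rw [← h3]
        refine Nat.card_le_card_of_injective (fun i : Fin 3 => (⟨x i, by
          rw [MulAction.mem_fixedBy]
          exact DFunLike.congr_fun h2 i⟩ : MulAction.fixedBy α (h⁻¹ * g))) ?_
        intro i j hij
        exact x.injective (congrArg (fun z : MulAction.fixedBy α (h⁻¹ * g) => (z : α)) hij)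
      exact (inv_mul_eq_one.1 h1).symm
    have hcard2 : Nat.card G = Nat.card (Fin 3 ↪ α) := by
      rw [hcardG, Nat.card_eq_fintype_card (α := Fin 3 ↪ α), Fintype.card_embedding_eq, Fintype.card_fin, hα]
      rw [Nat.descFactorial_succ, Nat.descFactorial_succ, Nat.descFactorial_succ, Nat.descFactorial_zero]
      simp only [Nat.sub_zero, mul_one]
      ring
    have hbij : Function.Bijective (fun g : G => g • x) :=
      (Nat.bijective_iff_injective_and_card _).mpr ⟨hinj, hcard2⟩
    constructor
    intro y z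
    obtain ⟨g, hg⟩ := hbij.2 y
    obtain ⟨h, hh⟩ := hbij.2 z
    refine ⟨h * g⁻¹, ?_⟩
    have hg' : g • x = y := hg
    have hh' : h • x = z := hh
    rw [← hg', ← hh', mul_smul, inv_smul_smul]
  obtain ⟨a, -, ha, F, i1, i2, hF, e⟩ := S3.main (G := G) (α := α) (by omega) (by
    rw [hα, ht]; exact ⟨t, rfl⟩) (S3.mk_S3 h3t hfix3)
  exact ⟨a, F, i1, i2, by rw [← hα, ha], hF, e⟩

end

end Cfsg.Agent.H4.PdA
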