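import Mathlib
import Cfsg.Agent.H4_PdA
import Cfsg.Agent.H9_Comm4

/-! Primitive groups of degree `2p` with a Sylow normalizer of order `2p`: simplicity. -/

set_option autoImplicit false

namespace Cfsg.Agent.H4.PdB

open Cfsg Cfsg.Agent.H4.BRgr Cfsg.Agent.H4.BRdata Cfsg.Agent.H4.Pd1

variable {Ω G : Type*} [Fintype Ω] [Group G] [Finite G] [MulAction G Ω] [FaithfulSMul G Ω] {p : ℕ}
    [hp : Fact p.Prime]

theorem dvd_of_trans {H : Type*} [Group H] [Finite H] [MulAction H Ω] (h : MulAction.IsPretransitive H Ω)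
    [Nonempty Ω] : Fintype.card Ω ∣ Nat.card H := by
  obtain ⟨a⟩ := ‹Nonempty Ω›
  have := MulAction.index_stabilizer_of_transitive H a
  rw [← Nat.card_eq_fintype_card, ← this]
  exact Subgroup.index_dvd_card _

theorem normal_trans (hprim : MulAction.IsPreprimitive G Ω) {N : Subgroup G} (hN : N.Normal) (hb : N ≠ ⊥) :
    MulAction.IsPretransitive N Ω := by
  haveI := hprim
  apply MulAction.IsQuasiPreprimitive.isPretransitive_of_normal (G := G)
  intro h
  apply hb
  rw [Subgroup.eq_bot_iff_forall]
  intro n hn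
  apply FaithfulSMul.eq_of_smul_eq_smul (α := Ω)
  intro a
  have h1 : a ∈ MulAction.fixedPoints N Ω := by rw [h]; trivial
  rw [one_smul]
  exact h1 ⟨n, hn⟩

/-- the Sylow subgroup lies in each normal subgroup of order divisible by `p` -/
theorem P_le {P : Sylow p G} (hP : Nat.card P = p) {N : Subgroup G} (hN : N.Normal) (hd : p ∣ Nat.card N) :
    (P : Subgroup G) ≤ N := by
  obtain ⟨y, hy⟩ := exists_prime_orderOf_dvd_card' (G := N) p hd
  have hy' : orderOf (y : G) = p := by rw [Subgroup.orderOf_coe]; exact hy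
  haveI := Fintype.ofFinite G
  obtain ⟨h, hh⟩ := BRv.exists_conj_of_orderOf (P := P) hy'
  have h1 : h * y * h⁻¹ ≠ 1 := by
    intro h2
    have h3 : (y : G) = 1 := by
      have : h * (y : G) * h⁻¹ = h * 1 * h⁻¹ := by rw [h2]; group
      exact mul_left_cancel (mul_right_cancel this)
    rw [h3, orderOf_one] at hy'
    exact hp.out.one_lt.ne hy'
  rw [← zpowers_eq hP hh h1, Subgroup.zpowers_le]
  exact hN.conj_mem _ y.2 _

theorem card_P' (hp2 : 2 < p) (P : Sylow p G)
    (hN : Nat.card (Subgroup.normalizer ((P : Subgroup G) : Set G)) = 2 * p)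
    (hd : p ∣ Nat.card G) : Nat.card P = p := by
  by_cases hn : (P : Subgroup G).Normal
  · obtain ⟨k, hk⟩ := IsPGroup.iff_card.mp P.isPGroup'
    have h1 : Nat.card P ∣ 2 * p := by
      rw [← hN]
      exact Subgroup.card_dvd_of_le Subgroup.le_normalizer
    have hdP : p ∣ Nat.card P := P.dvd_card_of_dvd_card hd
    rw [hk] at h1 hdP ⊢
    have hk1 : k < 2 := by
      by_contra h
      push Not at h
      have h2 : p ^ 2 ∣ 2 * p := (pow_dvd_pow p h).trans h1
      rw [sq] at h2
      have h3 := Nat.dvd_of_mul_dvd_mul_right hp.out.pos h2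
      have := Nat.le_of_dvd (by norm_num) h3
      omega
    have hk0 : k ≠ 0 := by
      rintro rfl
      rw [pow_zero] at hdP
      exact hp.out.one_lt.ne' (Nat.dvd_one.mp hdP)
    obtain rfl : k = 1 := by omega
    exact pow_one p
  · exact PdA.card_P hp2 P hN hn

/-- the normal `p`-complement argument -/
theorem no_complement (hprim : MulAction.IsPreprimitive G Ω) (hΩ : Fintype.card Ω = 2 * p)
    {P : Sylow p G} (hP : Nat.card P = p) {N : Subgroup G} (hN : N.Normal) (hPN : (P : Subgroup G) ≤ N)
    (h2 : 2 * p ∣ Nat.card N)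
    (hc : ∀ x ∈ N, x ∈ Subgroup.normalizer ((P : Subgroup G) : Set G) →
      x ∈ Subgroup.centralizer ((P : Subgroup G) : Set G)) : False := by
  classical
  haveI : Nonempty Ω := Fintype.card_pos_iff.1 (by rw [hΩ]; have := hp.out.pos; omega)
  let Q : Sylow p N := P.subtype hPN
  have hQm : ∀ x : N, x ∈ (Q : Subgroup N) ↔ (x : G) ∈ (P : Subgroup G) := fun x => by
    show x ∈ (P.subtype hPN : Subgroup N) ↔ _
    rw [Sylow.coe_subtype, Subgroup.mem_subgroupOf]
  have hle : Subgroup.normalizer ((Q : Subgroup N) : Set N) ≤ Subgroup.centralizer ((Q : Subgroup N) : Set N) := by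
    intro x hx
    have h1 : (x : G) ∈ Subgroup.normalizer ((P : Subgroup G) : Set G) := by
      rw [Subgroup.mem_normalizer_iff] at hx ⊢
      intro h
      constructor
      · intro hh
        have := (hx ⟨h, hPN hh⟩).mp ((hQm _).mpr hh)
        exact (hQm _).mp this
      · intro hh
        have h3 : h ∈ N := by
          have h4 := hN.conj_mem _ (hPN hh) ((x : G)⁻¹)
          have h5 : (x : G)⁻¹ * ((x : G) * h * (x : G)⁻¹) * ((x : G)⁻¹)⁻¹ = h := by group
          rwa [h5] at h4
        exact (hQm _).mp ((hx ⟨h, h3⟩).mpr ((hQm _).mpr hh))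
    have h2 := hc x x.2 h1
    rw [Subgroup.mem_centralizer_iff] at h2 ⊢
    intro y hy
    exact Subtype.ext (h2 y ((hQm y).mp hy))
  have hcomp : Subgroup.IsComplement' (MonoidHom.transferSylow Q hle).ker (Q : Subgroup N) :=
    MonoidHom.ker_transferSylow_isComplement' Q hle
  set K := (MonoidHom.transferSylow Q hle).ker with hK
  have hQc : Nat.card (Q : Subgroup N) = p := by
    refine Eq.trans ?_ hP
    exact Nat.card_congr (Subgroup.subgroupOfEquivOfLe hPN).toEquiv
  have hKc : Nat.card K * p = Nat.card N := by rw [← hQc]; exact hcomp.card_mul_card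
  -- `K` has order prime to `p`
  have hKp : ¬ p ∣ Nat.card K := by
    have h1 := MonoidHom.not_dvd_card_ker_transferSylow Q hle
    exact h1
  have hmem : ∀ x : N, x ∈ K ↔ ¬ p ∣ orderOf x := by
    intro x
    constructor
    · intro hx hd
      exact hKp (hd.trans (Subgroup.orderOf_dvd_natCard K hx))
    · intro hx
      rw [hK, MonoidHom.mem_ker]
      have h1 : orderOf (MonoidHom.transferSylow Q hle x) ∣ orderOf x := orderOf_map_dvd _ x
      have h2 : orderOf (MonoidHom.transferSylow Q hle x) ∣ p :=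
        (orderOf_dvd_natCard _).trans (dvd_of_eq hQc)
      rcases (Nat.dvd_prime hp.out).mp h2 with h3 | h3
      · exact orderOf_eq_one_iff.mp h3
      · rw [h3] at h1; exact absurd h1 hx
  let K' : Subgroup G := K.map N.subtype
  have hK'n : K'.Normal := ⟨by
    rintro _ ⟨k, hk, rfl⟩ g
    refine ⟨⟨g * k * g⁻¹, hN.conj_mem _ k.2 g⟩, ?_, rfl⟩
    have hk' := (hmem k).mp hk
    refine (hmem _).mpr ?_
    rw [← Subgroup.orderOf_coe] at hk' ⊢
    have h3 : orderOf (g * (k : G) * g⁻¹) = orderOf (k : G) := by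
      have := orderOf_injective (MulAut.conj g).toMonoidHom (MulAut.conj g).injective (k : G)
      simpa using this
    show ¬ p ∣ orderOf (g * (k : G) * g⁻¹)
    rw [h3]; exact hk'⟩
  have hK'c : Nat.card K' = Nat.card K := Subgroup.card_map_of_injective N.subtype_injective
  by_cases hKb : K' = ⊥
  · rw [← hK'c, hKb, Subgroup.card_bot, one_mul] at hKc
    rw [← hKc] at h2
    have h3 := Nat.le_of_dvd hp.out.pos h2
    have := hp.out.pos
    omega
  · have h3 := dvd_of_trans (Ω := Ω) (normal_trans hprim hK'n hKb)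
    rw [hK'c, hΩ] at h3
    exact hKp ((Dvd.intro_left 2 rfl).trans h3)

theorem simple (hp2 : 2 < p) (hprim : MulAction.IsPreprimitive G Ω) (hΩ : Fintype.card Ω = 2 * p)
    {P : Sylow p G} (hP : Nat.card P = p)
    (hN : Nat.card (Subgroup.normalizer ((P : Subgroup G) : Set G)) = 2 * p)
    {N : Subgroup G} (hNn : N.Normal) (hNb : N ≠ ⊥) : N = ⊤ := by
  classical
  haveI : Nonempty Ω := Fintype.card_pos_iff.1 (by rw [hΩ]; have := hp.out.pos; omega)
  have h1 := dvd_of_trans (Ω := Ω) (normal_trans hprim hNn hNb)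
  rw [hΩ] at h1
  have hPN := P_le hP hNn ((Dvd.intro_left 2 rfl).trans h1)
  have h2 : Subgroup.normalizer ((P : Subgroup G) : Set G) ⊔ N = ⊤ := Sylow.normalizer_sup_eq_top' P hPN
  have h3 : Subgroup.normalizer ((P : Subgroup G) : Set G) ≤ N := by
    by_contra hnot
    have h4 : ∀ x ∈ N, x ∈ Subgroup.normalizer ((P : Subgroup G) : Set G) → x ∈ (P : Subgroup G) := by
      have h5 : (P : Subgroup G) ≤ N ⊓ Subgroup.normalizer ((P : Subgroup G) : Set G) :=
        le_inf hPN Subgroup.le_normalizer
      have h6 : N ⊓ Subgroup.normalizer ((P : Subgroup G) : Set G) < Subgroup.normalizer ((P : Subgroup G) : Set G) :=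
        lt_of_le_of_ne inf_le_right (fun h => hnot (inf_eq_right.mp h))
      have h7 := Subgroup.card_dvd_of_le h6.le
      have h8 := Subgroup.card_dvd_of_le h5
      have h9 : Nat.card (N ⊓ Subgroup.normalizer ((P : Subgroup G) : Set G) : Subgroup G) <
          Nat.card (Subgroup.normalizer ((P : Subgroup G) : Set G)) := by
        by_contra hlt
        push Not at hlt
        exact h6.ne (Subgroup.eq_of_le_of_card_ge h6.le hlt)
      have hPc : Nat.card (P : Subgroup G) = p := hP
      rw [hPc] at h8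
      rw [hN] at h7 h9
      obtain ⟨c, hc⟩ := h8
      rw [hc] at h7 h9
      have h10 : c < 2 := by
        by_contra hlt
        push Not at hlt
        have := Nat.mul_le_mul_left p hlt
        omega
      have h11 : c ≠ 0 := by
        rintro rfl
        rw [mul_zero] at hc
        exact Nat.card_pos.ne' hc
      obtain rfl : c = 1 := by omega
      have h12 : (P : Subgroup G) = N ⊓ Subgroup.normalizer ((P : Subgroup G) : Set G) :=
        Subgroup.eq_of_le_of_card_ge h5 (by rw [hc, hPc, mul_one])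
      intro x hx1 hx2
      rw [h12]
      exact Subgroup.mem_inf.mpr ⟨hx1, hx2⟩
    haveI : IsCyclic (P : Subgroup G) := isCyclic_of_prime_card hP
    haveI : IsMulCommutative (P : Subgroup G) := IsCyclic.isMulCommutative
    exact no_complement hprim hΩ hP hNn hPN h1 (fun x hx hx2 =>
      Subgroup.le_centralizer _ (h4 x hx hx2))
  rw [sup_eq_right.mpr h3] at h2
  exact h2

end Cfsg.Agent.H4.PdB
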