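import Mathlib
import Cfsg.Agent.H4_PdB

/-! Primitive groups of degree `2p` with a Sylow normalizer of order `2p`: the permutation character. -/

set_option autoImplicit false

namespace Cfsg.Agent.H4.PdC

open Cfsg Cfsg.Agent.H3.CharIrr Cfsg.Agent.H3.CharComplete Cfsg.Agent.H3.CharInd
  Cfsg.Agent.H3.CharMult Cfsg.Agent.H3.CharInt Cfsg.Agent.H4.BRgr Cfsg.Agent.H4.BRavg
  Cfsg.Agent.H4.BRdata Cfsg.Agent.H4.Pd1 Cfsg.Agent.H3.CharPerm2 Cfsg.Agent.H9.Comm Cfsg.Agent.H4.PdB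
  Cfsg.Agent.H4.BRv
open Cfsg.Agent.H10.BlockKer (triv triv_coe ker_mul)
open scoped ComplexConjugate

/-- sums of characters over subgroups -/
theorem sum_dvd {G : Type*} [Group G] [Finite G] (H : Subgroup G) [Fintype H] {ψ : G → ℂ} (h : IsCharacter G ψ) :
    ∃ n : ℕ, ∑ x : H, ψ x = (Nat.card H : ℂ) * n := by
  obtain ⟨n, hn⟩ := ci_char_nat (IsChar.res h H) (IsChar.one (G := H))
  refine ⟨n, ?_⟩
  rw [← hn, classInner]
  simp only [map_one, mul_one]
  have h0 : (Nat.card H : ℂ) ≠ 0 := by exact_mod_cast Nat.card_pos.ne'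
  rw [← mul_assoc, mul_inv_cancel₀ h0, one_mul]

theorem arith1 {t d a s R p : ℤ} (ht : 2 ≤ t) (hp : p = 2 * t + 1) (hd : p + 1 ≤ d) (ha : 0 ≤ a) (hs : 0 ≤ s)
    (hR : 0 ≤ R) (h1 : 2 * p = 1 + a * d + (d + 1) * s + R)
    (h2 : 2 * p = p + a * (d + 2 * t) + (d - 1) * s + R) : False := by
  have h3 : a = 0 := by
    by_contra h
    have h4 : 1 ≤ a := by omega
    have h5 : 0 ≤ (d - 1) * s := mul_nonneg (by omega) hs
    nlinarith
  subst h3
  have h4 : s = t := by linarith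
  subst h4
  nlinarith

theorem arith2 {t k a s R p : ℤ} (ht : 2 ≤ t) (hp : p = 2 * t + 1) (hk : 1 ≤ k) (ha : 0 ≤ a) (hs : 0 ≤ s)
    (hR : 0 ≤ R) (h1 : 2 * p = 1 + a * (k * p - 1) + (k * p - 2) * s + R)
    (h2 : 2 * p = p + a * (k * p - 1 - 2 * t) + k * p * s + R) :
    s = 0 ∧ a = 1 ∧ ((k = 1 ∧ R = p) ∨ (k = 2 ∧ R = 0)) := by
  have h3 : s = t * (a - 1) := by
    have h4 : 2 * s = 2 * (t * (a - 1)) := by rw [hp] at h1 h2; linear_combination h1 - h2
    linarith
  have hkp : k * p - 1 - 2 * t = (k - 1) * p := by rw [hp]; ring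
  rw [hkp] at h2
  have hp0 : 0 < p := by omega
  have h5 : 0 ≤ a * ((k - 1) * p) := mul_nonneg ha (mul_nonneg (by omega) hp0.le)
  have hs1 : s ≤ 1 := by
    by_contra h
    push Not at h
    have h6 : p * 2 ≤ k * p * s := by
      calc p * 2 ≤ (k * p) * 2 := by nlinarith
        _ ≤ k * p * s := mul_le_mul_of_nonneg_left (by omega) (mul_nonneg (by omega) hp0.le)
    linarith
  have ha1 : a = 1 := by
    rcases lt_trichotomy a 1 with h | h | h
    · have : a = 0 := by omega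
      subst this
      omega
    · exact h
    · nlinarith
  subst ha1
  have hs0 : s = 0 := by rw [h3]; ring
  refine ⟨hs0, rfl, ?_⟩
  rw [hs0] at h2
  have h6 : (k - 1) * p + R = p := by linarith
  have h7 : k ≤ 2 := by
    by_contra h
    push Not at h
    nlinarith
  rcases (by omega : k = 1 ∨ k = 2) with h | h
  · left; refine ⟨h, ?_⟩; rw [h] at h6; linarith
  · right; refine ⟨h, ?_⟩; rw [h] at h6; linarith

section

variable {Ω G : Type*} [Fintype Ω] [Group G] [MulAction G Ω] [FaithfulSMul G Ω] {p : ℕ}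
    [hp : Fact p.Prime]

theorem perfect [Finite G] (hp2 : 2 < p) (hprim : MulAction.IsPreprimitive G Ω) (hΩ : Fintype.card Ω = 2 * p)
    {P : Sylow p G} (hP : Nat.card P = p)
    (hN : Nat.card (Subgroup.normalizer ((P : Subgroup G) : Set G)) = 2 * p) : commutator G = ⊤ := by
  by_contra hne
  have hb : commutator G = ⊥ := by
    by_contra hb
    exact hne (simple hp2 hprim hΩ hP hN inferInstance hb)
  haveI : Nonempty Ω := Fintype.card_pos_iff.1 (by rw [hΩ]; have := hp.out.pos; omega)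
  have htr := hprim.toIsPretransitive
  have h1 := dvd_of_trans (Ω := Ω) htr
  rw [hΩ] at h1
  have hcomm : ∀ a b : G, a * b = b * a := by
    intro a b
    rw [commutator_def] at hb
    have := Subgroup.commutator_le.mp hb.le a (Subgroup.mem_top a) b (Subgroup.mem_top b)
    rw [Subgroup.mem_bot, commutatorElement_eq_one_iff_mul_comm] at this
    exact this
  have hPn : (P : Subgroup G).Normal := ⟨fun x hx g => by
    rw [hcomm g x, mul_assoc, mul_inv_cancel, mul_one]; exact hx⟩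
  have hPc : Nat.card (P : Subgroup G) = p := hP
  by_cases hPb : (P : Subgroup G) = ⊥
  · rw [hPb, Subgroup.card_bot] at hPc
    exact hp.out.one_lt.ne hPc
  · have h2 := simple hp2 hprim hΩ hP hN hPn hPb
    rw [h2, Subgroup.card_top] at hPc
    rw [hPc] at h1
    have := Nat.le_of_dvd hp.out.pos h1
    have := hp.out.pos
    omega

theorem cent [Finite G] (hp2 : 2 < p) (hprim : MulAction.IsPreprimitive G Ω) (hΩ : Fintype.card Ω = 2 * p)
    {P : Sylow p G} (hP : Nat.card P = p)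
    (hN : Nat.card (Subgroup.normalizer ((P : Subgroup G) : Set G)) = 2 * p) :
    Subgroup.centralizer ((P : Subgroup G) : Set G) = (P : Subgroup G) := by
  have hperf := perfect hp2 hprim hΩ hP hN
  obtain ⟨e, he⟩ : ∃ e, (Subgroup.centralizer ((P : Subgroup G) : Set G)).relIndex
      (Subgroup.normalizer ((P : Subgroup G) : Set G)) = e := ⟨_, rfl⟩
  obtain ⟨he2, -⟩ := BRcore.e_facts hperf hP he
  have hPc : Nat.card (P : Subgroup G) = p := hP
  haveI : IsCyclic (P : Subgroup G) := isCyclic_of_prime_card hP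
  haveI : IsMulCommutative (P : Subgroup G) := IsCyclic.isMulCommutative
  have hle : (P : Subgroup G) ≤ Subgroup.centralizer ((P : Subgroup G) : Set G) :=
    Subgroup.le_centralizer _
  have hle2 : Subgroup.centralizer ((P : Subgroup G) : Set G) ≤ Subgroup.normalizer ((P : Subgroup G) : Set G) :=
    Subgroup.centralizer_le_normalizer _
  symm
  apply Subgroup.eq_of_le_of_card_ge hle
  have h1 := Subgroup.card_mul_index ((Subgroup.centralizer ((P : Subgroup G) : Set G)).subgroupOf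
    (Subgroup.normalizer ((P : Subgroup G) : Set G)))
  rw [hN, Nat.card_congr (Subgroup.subgroupOfEquivOfLe hle2).toEquiv] at h1
  have h2 : Nat.card (Subgroup.centralizer ((P : Subgroup G) : Set G)) * e = 2 * p := by
    rw [← h1, ← he]; rfl
  rw [hPc]
  by_contra hlt
  push Not at hlt
  have h3 : (p + 1) * 2 ≤ Nat.card (Subgroup.centralizer ((P : Subgroup G) : Set G)) * e :=
    Nat.mul_le_mul hlt he2
  omega

theorem nofix [Finite G] (hprim : MulAction.IsPreprimitive G Ω) (hΩ : Fintype.card Ω = 2 * p)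
    {P : Sylow p G} (hP : Nat.card P = p) : ∀ x ∈ (P : Subgroup G), x ≠ 1 → ∀ a : Ω, x • a ≠ a := by
  intro x hx hx1 a ha
  have htr := hprim.toIsPretransitive
  have h1 : x ∈ MulAction.stabilizer G a := ha
  have h2 : p ∣ Nat.card (MulAction.stabilizer G a) := by
    rw [← orderOf_eq hP hx hx1]
    exact Subgroup.orderOf_dvd_natCard _ h1
  have h3 := Subgroup.card_mul_index (MulAction.stabilizer G a)
  rw [MulAction.index_stabilizer_of_transitive, Nat.card_eq_fintype_card (α := Ω), hΩ] at h3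
  obtain ⟨c, hc⟩ := h2
  have h4 : p ^ 2 ∣ Nat.card G := ⟨c * 2, by rw [← h3, hc]; ring⟩
  have h5 := P.pow_dvd_card_of_pow_dvd_card h4
  have hPc : Nat.card (P : Subgroup G) = p := hP
  have h6 := Nat.le_of_dvd Nat.card_pos h5
  rw [hPc] at h6
  have := hp.out.one_lt
  nlinarith

theorem pch_eq' [Fintype G] [Fintype (IrrCharacter G)] (g : G) :
    (Nat.card (MulAction.fixedBy Ω g) : ℂ) = ∑ ψ : IrrCharacter G, (ml G Ω ψ : ℂ) * (ψ : G → ℂ) g := by
  have h1 := expand_apply (pch G Ω) pch_class g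
  simp only [ml_spec] at h1
  exact h1

theorem exists_cfg [Fintype G] (hp3 : 3 < p) (hprim : MulAction.IsPreprimitive G Ω) (hΩ : Fintype.card Ω = 2 * p)
    (hnot2 : ¬ MulAction.IsMultiplyPretransitive G Ω 2)
    {P : Sylow p G} (hP : Nat.card P = p)
    (hN : Nat.card (Subgroup.normalizer ((P : Subgroup G) : Set G)) = 2 * p) :
    ∃ (t : ℕ) (X Y : Finset (IrrCharacter G)) (δ : IrrCharacter G → ℤ) (χ ψ₀ : IrrCharacter G),
      Pd P t X Y δ χ ∧ ψ₀ ∉ X ∪ Y ∧ charDegree (ψ₀ : G → ℂ) = p ∧ ml G Ω χ = 1 ∧ ml G Ω ψ₀ = 1 ∧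
      ∀ ψ : IrrCharacter G, ψ ≠ triv G → ψ ≠ χ → ψ ≠ ψ₀ → ml G Ω ψ = 0 := by
  classical
  haveI : Fintype (IrrCharacter G) := Fintype.ofFinite _
  haveI : Fintype (P : Subgroup G) := Fintype.ofFinite _
  haveI : Nonempty Ω := Fintype.card_pos_iff.1 (by rw [hΩ]; omega)
  haveI htr : MulAction.IsPretransitive G Ω := hprim.toIsPretransitive
  have hC := cent (by omega) hprim hΩ hP hN
  have hperf := perfect (by omega) hprim hΩ hP hN
  have he := PdA.relIndex_eq hP hN hC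
  have hnf := nofix hprim hΩ hP
  obtain ⟨t, hpt⟩ : ∃ t, p = 2 * t + 1 := by
    rcases hp.out.eq_two_or_odd' with h | h
    · omega
    · exact h
  have ht2 : 2 ≤ t := by omega
  obtain ⟨X, Y, δ, ε, D⟩ := BRcore.exists_BD (by omega : p ≠ 2) hP he (t := t) (by omega)
  have htX := triv_mem_X D hP hC he ht2
  obtain ⟨χ, hχX, hχt⟩ : ∃ χ ∈ X, χ ≠ triv G := by
    by_contra hcon
    push Not at hcon
    have h1 : X ⊆ {triv G} := fun ψ hψ => by rw [Finset.mem_singleton]; exact hcon ψ hψ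
    have h2 := Finset.card_le_card h1
    rw [D.cX, Finset.card_singleton] at h2
    omega
  obtain ⟨θ, hθ⟩ : Y.Nonempty := by
    rw [← Finset.card_pos, D.cY]; omega
  have hrel := relDeg' D hP htX hχX hχt hθ
  have hsplit : ∀ F : IrrCharacter G → ℂ, ∑ ψ : IrrCharacter G, F ψ = F (triv G) + F χ + ∑ ψ ∈ Y, F ψ +
      ∑ ψ ∈ (X ∪ Y)ᶜ, F ψ := by
    intro F
    rw [← Finset.sum_add_sum_compl (X ∪ Y), Finset.sum_union D.disj, sum_X D htX hχX hχt]
  have hpc : (p : ℂ) = 2 * t + 1 := by exact_mod_cast hpt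
  have ht0 : (t : ℂ) ≠ 0 := by exact_mod_cast (by omega : t ≠ 0)
  obtain ⟨d, hd⟩ : ∃ d : ℕ, d = charDegree (χ : G → ℂ) := ⟨_, rfl⟩
  obtain ⟨dθ, hdθ⟩ : ∃ d : ℕ, d = charDegree (θ : G → ℂ) := ⟨_, rfl⟩
  obtain ⟨s, hs⟩ : ∃ s : ℕ, s = ∑ ψ ∈ Y, ml G Ω ψ := ⟨_, rfl⟩
  obtain ⟨R, hR⟩ : ∃ R : ℕ, R = ∑ ψ ∈ (X ∪ Y)ᶜ, ml G Ω ψ * charDegree (ψ : G → ℂ) := ⟨_, rfl⟩
  obtain ⟨a, ha⟩ : ∃ a : ℕ, a = ml G Ω χ := ⟨_, rfl⟩
  rw [← hd, ← hdθ] at hrel
  -- degree equation
  have e1 : (2 * p : ℂ) = 1 + a * d + dθ * s + R := by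
    have h1 := pch_eq' (G := G) (Ω := Ω) 1
    have h2 : Nat.card (MulAction.fixedBy Ω (1 : G)) = 2 * p := by
      rw [← hΩ, ← Nat.card_eq_fintype_card]
      exact Nat.card_congr (Equiv.subtypeUnivEquiv (fun a => by rw [MulAction.mem_fixedBy, one_smul]))
    rw [h2, hsplit, ml_triv, triv_coe, ← ha, deg_eq, ← hd] at h1
    push_cast at h1
    rw [h1, hs, hR]
    push_cast
    have h3 : ∑ ψ ∈ Y, (ml G Ω ψ : ℂ) * (ψ : G → ℂ) 1 = dθ * ∑ ψ ∈ Y, (ml G Ω ψ : ℂ) := by
      rw [Finset.mul_sum]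
      refine Finset.sum_congr rfl fun ψ hψ => ?_
      rw [deg_eq, D.degY hψ hθ, ← hdθ]; ring
    rw [h3]
    simp only [deg_eq]
    ring
  have e2 : (2 * p : ℂ) = p + a * (d + 2 * t * δ χ) + (dθ - 2 * ε) * s + R := by
    have h1 : ∑ x : (P : Subgroup G), (Nat.card (MulAction.fixedBy Ω (x : G)) : ℂ) = 2 * p := by
      rw [sum_P hP (f := fun x => (Nat.card (MulAction.fixedBy Ω x) : ℂ)) (c := 0) (fun x hx hx1 => by
        have : IsEmpty (MulAction.fixedBy Ω x) := ⟨fun a => hnf x hx hx1 (a : Ω) a.2⟩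
        rw [Nat.card_of_isEmpty]; simp)]
      have h2 : Nat.card (MulAction.fixedBy Ω (1 : G)) = 2 * p := by
        rw [← hΩ, ← Nat.card_eq_fintype_card]
        exact Nat.card_congr (Equiv.subtypeUnivEquiv (fun a => by rw [MulAction.mem_fixedBy, one_smul]))
      rw [h2]; push_cast; ring
    rw [← h1, Finset.sum_congr rfl (fun (x : (P : Subgroup G)) _ => pch_eq' (Ω := Ω) (x : G)), Finset.sum_comm, hsplit]
    have c0 : ∀ ψ : IrrCharacter G, ∑ x : (P : Subgroup G), (ml G Ω ψ : ℂ) * (ψ : G → ℂ) x =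
        (ml G Ω ψ : ℂ) * ∑ x : (P : Subgroup G), (ψ : G → ℂ) x := fun ψ => by rw [Finset.mul_sum]
    have c1 : ∑ x : (P : Subgroup G), ((triv G : IrrCharacter G) : G → ℂ) x = p := by
      rw [sum_P hP (c := 1) (fun x _ _ => by rw [triv_coe]), triv_coe, hpc]
      ring
    have c2 : ∑ x : (P : Subgroup G), (χ : G → ℂ) x = d + 2 * t * δ χ := by
      rw [sum_P hP (c := (δ χ : ℂ)) (fun x hx hx1 => D.val hχX hx hx1), deg_eq, ← hd, hpc]
      ring
    have c3 : ∑ ψ ∈ Y, ∑ x : (P : Subgroup G), (ml G Ω ψ : ℂ) * (ψ : G → ℂ) x = (dθ - 2 * ε) * s := by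
      rw [hs]
      push_cast
      rw [Finset.mul_sum]
      refine Finset.sum_congr rfl fun ψ hψ => ?_
      rw [c0, sum_exc D hP hC he le_rfl hψ, D.degY hψ hθ, ← hdθ, hpc]
      field_simp
      ring
    have c4 : ∑ ψ ∈ (X ∪ Y)ᶜ, ∑ x : (P : Subgroup G), (ml G Ω ψ : ℂ) * (ψ : G → ℂ) x = R := by
      rw [hR]
      push_cast
      refine Finset.sum_congr rfl fun ψ hψ => ?_
      rw [c0, sum_P hP (c := 0) (D.van hC ψ (Finset.mem_compl.mp hψ)), deg_eq]
      ring
    rw [c0, c0, c1, c2, c3, c4, ml_triv, ← ha]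
    ring
  have f1 : (2 * p : ℤ) = 1 + a * d + dθ * s + R := by exact_mod_cast e1
  have f2 : (2 * p : ℤ) = p + a * (d + 2 * t * δ χ) + (dθ - 2 * ε) * s + R := by exact_mod_cast e2
  have hdpos : 0 < d := by rw [hd]; exact deg_pos χ
  have hdθpos : 0 < dθ := by rw [hdθ]; exact deg_pos θ
  have hcong := D.dX χ hχX
  rw [← hd] at hcong
  have hptz : (p : ℤ) = 2 * t + 1 := by exact_mod_cast hpt
  rcases D.sX χ hχX with hδ | hδ
  · exfalso
    rw [hδ, one_mul] at hrel
    rw [hδ] at hcong f2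
    have hε : ε = 1 := by
      rcases D.sε with h | h
      · exact h
      · rw [h] at hrel; omega
    rw [hε, one_mul] at hrel
    rw [hε] at f2
    have h1 : (p : ℤ) ∣ (d : ℤ) - 1 := (Int.modEq_iff_dvd.mp hcong.symm)
    have h2 : d ≠ 1 := by
      intro h
      exact hχt (eq_triv hperf (by rw [← hd, h]))
    have h3 := Int.le_of_dvd (by omega) h1
    exact arith1 (t := t) (d := d) (a := a) (s := s) (R := R) (p := p) (by omega) hptz (by omega) (by omega)
      (by omega) (by omega) (by rw [f1, hrel]; ring) (by rw [f2, hrel]; ring)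
  · rw [hδ] at hrel hcong f2
    have h1 : (p : ℤ) ∣ (d : ℤ) + 1 := by
      have := Int.modEq_iff_dvd.mp hcong.symm
      rwa [sub_neg_eq_add] at this
    obtain ⟨k, hk⟩ := h1
    have hk1 : 1 ≤ k := by
      by_contra h
      push Not at h
      have : (p : ℤ) * k ≤ 0 := mul_nonpos_of_nonneg_of_nonpos (by omega) (by omega)
      omega
    have hd2 : 4 ≤ (d : ℤ) := by
      have : (p : ℤ) ≤ p * k := by nlinarith
      omega
    have hε : ε = -1 := by
      rcases D.sε with h | h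
      · rw [h] at hrel; omega
      · exact h
    rw [hε] at hrel f2
    have hdθ' : (dθ : ℤ) = k * p - 2 := by
      have : (dθ : ℤ) = d - 1 := by linarith
      rw [this]; linarith
    have hd' : (d : ℤ) = k * p - 1 := by linarith
    obtain ⟨g1, g2, g3⟩ := arith2 (t := t) (k := k) (a := a) (s := s) (R := R) (p := p) (by omega) hptz hk1 (by omega)
      (by omega) (by omega) (by rw [f1, hdθ', hd']) (by rw [f2, hdθ', hd']; ring)
    have hs0 : s = 0 := by exact_mod_cast g1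
    have ha1 : a = 1 := by exact_mod_cast g2
    have hY0 : ∀ ψ ∈ Y, ml G Ω ψ = 0 := by
      rw [hs0] at hs
      exact fun ψ hψ => (Finset.sum_eq_zero_iff.mp hs.symm) ψ hψ
    rcases g3 with ⟨hk, hR'⟩ | ⟨hk, hR'⟩
    · have hRp : R = p := by exact_mod_cast hR'
      have hdt : charDegree (χ : G → ℂ) = 2 * t := by
        rw [hk] at hd'
        omega
      have C := mkPd D hP hC he ht2 hpt hχX hχt hdt
      -- degrees of the remaining characters
      have hdvd : ∀ ψ ∈ (X ∪ Y)ᶜ, p ≤ charDegree (ψ : G → ℂ) := by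
        intro ψ hψ
        obtain ⟨n, hn⟩ := sum_dvd (P : Subgroup G) (IsIrr.isCharacter ψ.2)
        rw [sum_P hP (c := 0) (D.van hC ψ (Finset.mem_compl.mp hψ)), deg_eq, mul_zero, add_zero] at hn
        have h2 : charDegree (ψ : G → ℂ) = Nat.card (P : Subgroup G) * n := by exact_mod_cast hn
        have h3 : p ∣ charDegree (ψ : G → ℂ) := by
          rw [h2]
          exact Dvd.dvd.mul_right (dvd_of_eq hP.symm) n
        exact Nat.le_of_dvd (deg_pos ψ) h3
      obtain ⟨ψ₀, hψ₀, hψ₀'⟩ : ∃ ψ₀ ∈ (X ∪ Y)ᶜ, ml G Ω ψ₀ ≠ 0 := by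
        by_contra hcon
        push Not at hcon
        rw [Finset.sum_eq_zero (fun ψ hψ => by rw [hcon ψ hψ, zero_mul])] at hR
        omega
      have h4 : ml G Ω ψ₀ * charDegree (ψ₀ : G → ℂ) ≤ p := by
        rw [← hRp, hR]
        exact Finset.single_le_sum (f := fun ψ : IrrCharacter G => ml G Ω ψ * charDegree (ψ : G → ℂ))
          (fun _ _ => Nat.zero_le _) hψ₀
      have h5 := hdvd ψ₀ hψ₀
      have h6 : ml G Ω ψ₀ = 1 ∧ charDegree (ψ₀ : G → ℂ) = p := by
        have h7 : 1 ≤ ml G Ω ψ₀ := Nat.one_le_iff_ne_zero.mpr hψ₀'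
        have h8 : ml G Ω ψ₀ < 2 := by
          by_contra hlt
          push Not at hlt
          have : 2 * p ≤ ml G Ω ψ₀ * charDegree (ψ₀ : G → ℂ) := Nat.mul_le_mul hlt h5
          omega
        have h9 : ml G Ω ψ₀ = 1 := by omega
        rw [h9, one_mul] at h4
        exact ⟨h9, le_antisymm h4 h5⟩
      refine ⟨t, X, Y, δ, χ, ψ₀, C, Finset.mem_compl.mp hψ₀, h6.2, by rw [← ha]; exact ha1, h6.1, ?_⟩
      intro ψ hψ1 hψ2 hψ3
      by_cases hψX : ψ ∈ X
      · rcases (X_eq D htX hχX hχt ψ).mp hψX with h | h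
        · exact absurd h hψ1
        · exact absurd h hψ2
      · by_cases hψY : ψ ∈ Y
        · exact hY0 ψ hψY
        · have hψc : ψ ∈ ((X ∪ Y)ᶜ).erase ψ₀ := by
            rw [Finset.mem_erase, Finset.mem_compl, Finset.mem_union, not_or]
            exact ⟨hψ3, hψX, hψY⟩
          have h10 := Finset.add_sum_erase _ (fun ψ : IrrCharacter G => ml G Ω ψ * charDegree (ψ : G → ℂ)) hψ₀
          rw [← hR, h6.1, h6.2, hRp] at h10
          have h11 : ∑ ψ ∈ ((X ∪ Y)ᶜ).erase ψ₀, ml G Ω ψ * charDegree (ψ : G → ℂ) = 0 := by omega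
          have h12 := (Finset.sum_eq_zero_iff.mp h11) ψ hψc
          exact (mul_eq_zero.mp h12).resolve_right (deg_pos ψ).ne'
    · exfalso
      have hR0 : R = 0 := by exact_mod_cast hR'
      rw [hR0] at hR
      have hc0 : ∀ ψ ∈ (X ∪ Y)ᶜ, ml G Ω ψ = 0 := by
        intro ψ hψ
        have h12 := (Finset.sum_eq_zero_iff.mp hR.symm) ψ hψ
        exact (mul_eq_zero.mp h12).resolve_right (deg_pos ψ).ne'
      apply hnot2
      rw [← irr_iff_two_pretransitive (G := G) Ω (by rw [Nat.card_eq_fintype_card, hΩ]; omega)]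
      have h2 : (fun g => perm G Ω g - 1) = (χ : G → ℂ) := by
        funext g
        have h3 : perm G Ω g = _ := pch_eq' (Ω := Ω) g
        rw [h3, hsplit, ml_triv, triv_coe, ← ha, ha1, Finset.sum_eq_zero (fun ψ hψ => by rw [hY0 ψ hψ]; simp),
          Finset.sum_eq_zero (fun ψ hψ => by rw [hc0 ψ hψ]; simp)]
        push_cast
        ring
      rw [h2]
      exact χ.2

end

end Cfsg.Agent.H4.PdC
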