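import Mathlib
import Cfsg.Agent.H4_PdC
import Cfsg.Agent.H3_CharGal
import Cfsg.Agent.H3_GalProd

/-! Values of the small character. -/

set_option autoImplicit false

namespace Cfsg.Agent.H4.PdD

open Cfsg Cfsg.Agent.H3.CharIrr Cfsg.Agent.H3.CharComplete Cfsg.Agent.H3.CharInd
  Cfsg.Agent.H3.CharMult Cfsg.Agent.H3.CharInt Cfsg.Agent.H4.BRgr Cfsg.Agent.H4.BRavg
  Cfsg.Agent.H4.BRdata Cfsg.Agent.H4.Pd1 Cfsg.Agent.H3.CharPerm2 Cfsg.Agent.H9.Comm Cfsg.Agent.H4.PdB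
  Cfsg.Agent.H4.BRv Cfsg.Agent.H4.PdC Cfsg.Agent.H3.CharGal
open Cfsg.Agent.H10.BlockKer (triv triv_coe ker_mul)
open scoped ComplexConjugate

theorem int_of_pow {G : Type*} [Group G] [Finite G] {χ : G → ℂ} (h : IsCharacter G χ)
    (hk : ∀ k : ℕ, k.Coprime (Nat.card G) → ∀ g, χ (g ^ k) = χ g) (g : G) : ∃ n : ℤ, χ g = n := by
  haveI : NeZero (Nat.card G) := ⟨Nat.card_pos.ne'⟩
  have hg : g ^ Nat.card G = 1 := pow_card_eq_one'
  let x : Cyc (Nat.card G) := ⟨χ g, IsChar.mem_cyc h g hg⟩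
  obtain ⟨q, hq⟩ := rat_of_fixed x (fun σ => by
    obtain ⟨m, hm, hσ⟩ := gal_actsAs (Nat.card G) σ
    apply Subtype.ext
    have h1 := IsChar.gal h g hg hσ x rfl
    rw [h1, hk m hm g])
  have hq' : χ g = (q : ℂ) := hq
  have hint := IsChar.isIntegral h g
  rw [hq'] at hint
  obtain ⟨n, hn⟩ := exists_int_of_isIntegral hint
  exact ⟨n, by rw [hq', hn]; simp⟩

theorem re_sq_le {G : Type*} [Group G] [Finite G] {χ : G → ℂ} (h : IsCharacter G χ) (g : G) :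
    (χ 1 - χ (g * g)).re ≤ 4 * (χ 1 - χ g).re := by
  obtain ⟨d, z, h1, h2, h3⟩ := IsChar.exists_roots h (Nat.card G) Nat.card_pos.ne' g pow_card_eq_one'
  have e1 := h3 1
  have e2 := h3 2
  rw [pow_one] at e1
  rw [sq] at e2
  have e0 : χ 1 = ∑ i : Fin d, (1 : ℂ) := by rw [h1]; simp
  rw [e0, e1, e2, ← Finset.sum_sub_distrib, ← Finset.sum_sub_distrib, Complex.re_sum, Complex.re_sum, Finset.mul_sum]
  apply Finset.sum_le_sum
  intro i _
  have hz : ‖z i‖ = 1 := Cfsg.Agent.H3.CharBasic.norm_eq_one_of_pow Nat.card_pos.ne' (h2 i)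
  have h4 : (z i).re ^ 2 + (z i).im ^ 2 = 1 := by
    have h5 : ‖z i‖ ^ 2 = 1 := by rw [hz]; norm_num
    rw [← Complex.normSq_eq_norm_sq, Complex.normSq_apply] at h5
    nlinarith
  rw [pow_one, Complex.sub_re, Complex.sub_re, Complex.one_re, sq (z i), Complex.mul_re]
  nlinarith [sq_nonneg ((z i).re - 1)]

section

variable {Ω G : Type*} [Fintype Ω] [Group G] [Fintype G] [MulAction G Ω] 

theorem fixedBy_pow {m : ℕ} (hm : (Nat.card G).Coprime m) (g : G) :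
    MulAction.fixedBy Ω (g ^ m) = MulAction.fixedBy Ω g := by
  have key : ∀ (g : G) (n : ℕ), MulAction.fixedBy Ω g ⊆ MulAction.fixedBy Ω (g ^ n) := by
    intro g n a ha
    have ha' : g • a = a := ha
    show g ^ n • a = a
    induction n with
    | zero => rw [pow_zero, one_smul]
    | succ n ih => rw [pow_succ, mul_smul, ha', ih]
  apply Set.Subset.antisymm _ (key g m)
  obtain ⟨k, hk⟩ : ∃ k : ℕ, (g ^ m) ^ k = g := by
    have h1 : (orderOf g).Coprime m := Nat.Coprime.coprime_dvd_left (orderOf_dvd_natCard g) hm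
    obtain ⟨k, hk⟩ := exists_pow_eq_self_of_coprime h1.symm
    exact ⟨k, hk⟩
  have h2 := key (g ^ m) k
  rwa [hk] at h2

theorem ml_pow {m : ℕ} (hm : (Nat.card G).Coprime m) (χ : IrrCharacter G) :
    ml G Ω ⟨fun g => (χ : G → ℂ) (g ^ m), Cfsg.Agent.H3.GalProd.isIrr_pow hm χ.2⟩ = ml G Ω χ := by
  have h1 := ml_spec (Ω := Ω) (⟨fun g => (χ : G → ℂ) (g ^ m), Cfsg.Agent.H3.GalProd.isIrr_pow hm χ.2⟩ : IrrCharacter G)
  have h2 := ml_spec (Ω := Ω) χ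
  have h3 := Cfsg.Agent.H3.GalProd.ci_pow hm (pch G Ω) (χ : G → ℂ)
  have h4 : (fun g : G => pch G Ω (g ^ m)) = pch G Ω := by
    funext g
    show (Nat.card (MulAction.fixedBy Ω (g ^ m)) : ℂ) = (Nat.card (MulAction.fixedBy Ω g) : ℂ)
    rw [fixedBy_pow hm]
  rw [h4, h2] at h3
  have h5 : (ml G Ω ⟨fun g => (χ : G → ℂ) (g ^ m), Cfsg.Agent.H3.GalProd.isIrr_pow hm χ.2⟩ : ℂ) = ml G Ω χ := by
    rw [← h1]; exact h3
  exact_mod_cast h5

end

variable {Ω G : Type*} [Fintype Ω] [Group G] [Fintype G] [MulAction G Ω] {p : ℕ} [hp : Fact p.Prime]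
  {P : Sylow p G} {t : ℕ} {X Y : Finset (IrrCharacter G)} {δ : IrrCharacter G → ℤ} {χ ψ₀ : IrrCharacter G}

theorem χ_int (C : Pd P t X Y δ χ) (h1 : charDegree (ψ₀ : G → ℂ) = p) (h2 : ml G Ω χ = 1)
    (h3 : ∀ ψ : IrrCharacter G, ψ ≠ triv G → ψ ≠ χ → ψ ≠ ψ₀ → ml G Ω ψ = 0) (g : G) :
    ∃ n : ℤ, (χ : G → ℂ) g = n := by
  apply int_of_pow (IsIrr.isCharacter χ.2)
  intro m hm g
  have h4 := ml_pow (Ω := Ω) hm.symm χ
  set χ' : IrrCharacter G := ⟨fun g => (χ : G → ℂ) (g ^ m), Cfsg.Agent.H3.GalProd.isIrr_pow hm.symm χ.2⟩ with hχ'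
  have h5 : (χ' : G → ℂ) 1 = (χ : G → ℂ) 1 := by
    show (χ : G → ℂ) (1 ^ m) = _
    rw [one_pow]
  have h6 : charDegree (χ' : G → ℂ) = 2 * t := by
    rw [deg_eq, deg_eq, C.χd] at h5
    exact_mod_cast h5
  have h7 : χ' = χ := by
    by_contra hne
    have h8 : χ' ≠ triv G := by
      intro h
      rw [h, deg_triv] at h6
      have := C.ht
      omega
    have h9 : χ' ≠ ψ₀ := by
      intro h
      rw [h, h1] at h6
      have := C.hpt
      omega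
    rw [h3 χ' h8 hne h9, h2] at h4
    omega
  exact congrFun (congrArg Subtype.val h7) g

end Cfsg.Agent.H4.PdD
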