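import Mathlib
import Cfsg.Agent.H4_PdD

/-! Element orders from the values of the small character. -/

set_option autoImplicit false

namespace Cfsg.Agent.H4.PdE

open Cfsg Cfsg.Agent.H3.CharIrr Cfsg.Agent.H3.CharComplete Cfsg.Agent.H3.CharInd
  Cfsg.Agent.H3.CharMult Cfsg.Agent.H3.CharInt Cfsg.Agent.H4.BRgr Cfsg.Agent.H4.BRavg
  Cfsg.Agent.H4.BRdata Cfsg.Agent.H4.Pd1 Cfsg.Agent.H3.CharPerm2 Cfsg.Agent.H9.Comm Cfsg.Agent.H4.PdB
  Cfsg.Agent.H4.BRv Cfsg.Agent.H4.PdC Cfsg.Agent.H4.PdD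
open Cfsg.Agent.H10.BlockKer (triv triv_coe ker_mul)
open scoped ComplexConjugate

/-- properties of the values -/
structure Val {G : Type*} [Group G] [Finite G] (p t : ℕ) (y : G → ℤ) : Prop where
  one : y 1 = 2 * t - 1
  rel : ∀ g, ¬ p ∣ orderOf g → y (g * g) = y g * (y g - 2 * (t - 1))
  hi : ∀ g, ¬ p ∣ orderOf g → y g ≤ 2 * t - 1
  inj : ∀ g, ¬ p ∣ orderOf g → y g = 2 * t - 1 → g = 1
  sqb : ∀ g, ¬ p ∣ orderOf g → (2 * t - 1) - y (g * g) ≤ 4 * ((2 * t - 1) - y g)
  sum : ∀ (H : Subgroup G) [Fintype H], ¬ p ∣ Nat.card H → (Nat.card H : ℤ) ∣ ∑ h : H, y h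
  sum2 : ∀ (H : Subgroup G) [Fintype H], ¬ p ∣ Nat.card H → (Nat.card H : ℤ) ∣ ∑ h : H, y h ^ 2

theorem mkVal {G : Type*} [Group G] [Fintype G] {p : ℕ} [hp : Fact p.Prime]
    {P : Sylow p G} {t : ℕ} {X Y : Finset (IrrCharacter G)} {δ : IrrCharacter G → ℤ} {χ : IrrCharacter G}
    (C : Pd P t X Y δ χ) (hs : ∀ N : Subgroup G, N.Normal → N ≠ ⊥ → N = ⊤) {y : G → ℤ}
    (hy : ∀ g, (χ : G → ℂ) g = y g + 1) : Val p t y := by
  classical
  have ht := C.ht
  obtain ⟨θ, hθ⟩ : Y.Nonempty := by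
    rw [← Finset.card_pos, C.D.cY]; omega
  have hyθ : ∀ g, ¬ p ∣ orderOf g → (θ : G → ℂ) g = y g := by
    intro g hg
    rw [C.val hθ hg, hy]; ring
  have hone : y 1 = 2 * t - 1 := by
    have h1 := hy 1
    rw [deg_eq, C.χd] at h1
    have h2 : ((2 * t : ℕ) : ℤ) = y 1 + 1 := by exact_mod_cast h1
    push_cast at h2
    omega
  have hreg2 : ∀ g : G, ¬ p ∣ orderOf g → ¬ p ∣ orderOf (g * g) := by
    intro g hg h
    rw [← sq] at h
    exact hg (h.trans (orderOf_pow_dvd 2))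
  have hHreg : ∀ (H : Subgroup G), ¬ p ∣ Nat.card H → ∀ h : H, ¬ p ∣ orderOf (h : G) := by
    intro H hH h hd
    exact hH (hd.trans (Subgroup.orderOf_dvd_natCard H h.2))
  have hθ1 : (θ : G → ℂ) 1 = ((2 * t - 1 : ℤ) : ℂ) := by rw [hyθ 1 not_dvd_one, hone]
  refine ⟨hone, ?_, ?_, ?_, ?_, ?_, ?_⟩
  · intro g hg
    have h1 := C.sq_rel hθ hg
    rw [hyθ g hg, hyθ _ (hreg2 g hg)] at h1
    have h2 : (y (g * g) : ℂ) = ((y g * (y g - 2 * (t - 1)) : ℤ) : ℂ) := by
      rw [h1]; push_cast; ring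
    exact_mod_cast h2
  · intro g hg
    have h1 := IsChar.norm_le (IsIrr.isCharacter θ.2) g
    rw [hyθ g hg, hθ1] at h1
    have h3 : ‖((y g : ℤ) : ℂ)‖ = |(y g : ℝ)| := by
      rw [← Complex.ofReal_intCast, Complex.norm_real, Real.norm_eq_abs]
    rw [h3] at h1
    have h4 : (y g : ℝ) ≤ (2 * t - 1 : ℤ) := by
      refine (le_abs_self _).trans (h1.trans ?_)
      have : (((2 * t - 1 : ℤ) : ℂ)).re = ((2 * t - 1 : ℤ) : ℝ) := by
        rw [← Complex.ofReal_intCast, Complex.ofReal_re]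
      rw [this]
    exact_mod_cast h4
  · intro g hg hyg
    -- the kernel
    have hk : ∀ a : G, (θ : G → ℂ) a = (θ : G → ℂ) 1 → ∀ b, (θ : G → ℂ) (a * b) = (θ : G → ℂ) b :=
      fun a ha b => (ker_mul (IsIrr.isCharacter θ.2) ha b).1
    let K : Subgroup G :=
      { carrier := {a | (θ : G → ℂ) a = (θ : G → ℂ) 1}
        one_mem' := rfl
        mul_mem' := by
          intro a b ha hb
          show (θ : G → ℂ) (a * b) = _
          rw [hk a ha b]; exact hb
        inv_mem' := by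
          intro a ha
          show (θ : G → ℂ) a⁻¹ = _
          rw [← hk a ha a⁻¹, mul_inv_cancel] }
    have hKn : K.Normal := ⟨fun a ha b => by
      show (θ : G → ℂ) (b * a * b⁻¹) = _
      rw [IsIrr.isClass θ.2 a b]; exact ha⟩
    have hKt : K ≠ ⊤ := by
      intro h
      -- then θ is constant, but inverse class sums vanish
      obtain ⟨x, hx, hx1⟩ := pt_ne C.hP
      haveI : Fintype (P : Subgroup G) := Fintype.ofFinite _
      have h1 := C.sumθ hθ
      rw [sum_P C.hP (c := (θ : G → ℂ) 1) (fun x hx hx1 => by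
        have : x ∈ K := by rw [h]; trivial
        exact this), hθ1] at h1
      have h2 : (p : ℂ) * ((2 * t - 1 : ℤ) : ℂ) = p * 1 := by
        linear_combination h1
      have h3 := mul_left_cancel₀ (by exact_mod_cast hp.out.pos.ne') h2
      have h4 : (2 * t - 1 : ℤ) = 1 := by exact_mod_cast h3
      omega
    have hKb : K = ⊥ := by
      by_contra hb
      exact hKt (hs K hKn hb)
    have h1 : g ∈ K := by
      show (θ : G → ℂ) g = (θ : G → ℂ) 1
      rw [hyθ g hg, hθ1, hyg]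
    rw [hKb, Subgroup.mem_bot] at h1
    exact h1
  · intro g hg
    have h1 := re_sq_le (IsIrr.isCharacter θ.2) g
    rw [hyθ g hg, hyθ _ (hreg2 g hg), hθ1] at h1
    have h2 : (((2 * t - 1 : ℤ) : ℂ) - (y (g * g) : ℂ)).re = (((2 * t - 1) - y (g * g) : ℤ) : ℝ) := by
      rw [← Int.cast_sub, ← Complex.ofReal_intCast, Complex.ofReal_re]
    have h3 : (((2 * t - 1 : ℤ) : ℂ) - (y g : ℂ)).re = (((2 * t - 1) - y g : ℤ) : ℝ) := by
      rw [← Int.cast_sub, ← Complex.ofReal_intCast, Complex.ofReal_re]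
    rw [h2, h3] at h1
    exact_mod_cast h1
  · intro H _ hH
    obtain ⟨n, hn⟩ := sum_dvd H (IsIrr.isCharacter θ.2)
    refine ⟨n, ?_⟩
    rw [Finset.sum_congr rfl (fun (h : H) _ => hyθ (h : G) (hHreg H hH h))] at hn
    exact_mod_cast hn
  · intro H _ hH
    obtain ⟨n, hn⟩ := sum_dvd H (IsChar.pow (IsIrr.isCharacter θ.2) 2)
    refine ⟨n, ?_⟩
    rw [Finset.sum_congr rfl (fun (h : H) _ => by
      rw [Pi.pow_apply, hyθ (h : G) (hHreg H hH h)])] at hn
    exact_mod_cast hn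

section

variable {G : Type*} [Group G] [Finite G] {p t : ℕ} [hp : Fact p.Prime] {y : G → ℤ}

theorem reg2 {g : G} (hg : ¬ p ∣ orderOf g) : ¬ p ∣ orderOf (g * g) := by
  intro h
  rw [← sq] at h
  exact hg (h.trans (orderOf_pow_dvd 2))

theorem Val.lo (V : Val p t y) (ht : 2 ≤ t) {g : G} (hg : ¬ p ∣ orderOf g) : -1 ≤ y g := by
  by_contra h
  push Not at h
  have h1 := V.rel g hg
  have h2 := V.hi _ (reg2 hg)
  have h3 : (2 : ℤ) * (2 * t) ≤ y g * (y g - 2 * (t - 1)) := by nlinarith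
  omega

theorem Val.zero_or (V : Val p t y) (ht : 3 ≤ t) {g : G} (hg : ¬ p ∣ orderOf g) (hg1 : g ≠ 1) :
    y g = -1 ∨ y g = 0 := by
  have h0 := V.lo (by omega) hg
  have h1 := V.rel g hg
  have h2 := V.hi _ hg
  have h3 := V.lo (by omega) (reg2 hg)
  have h4 := V.sqb g hg
  have h5 : y g ≠ 2 * t - 1 := fun h => hg1 (V.inj g hg h)
  by_contra hcon
  push Not at hcon
  have h6 : 1 ≤ y g := by omega
  have h7 : y g ≤ 2 * t - 2 := by omega
  rcases h7.eq_or_lt with h8 | h8
  · rw [h8] at h1 h4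
    have h9 : (2 * (t : ℤ) - 2) * (2 * t - 2 - 2 * (t - 1)) = 0 := by ring
    rw [h9] at h1
    rw [h1] at h4
    omega
  · have h10 : (2 * (t : ℤ) - 3) ≤ y g * (2 * t - 2 - y g) := by nlinarith
    have h11 : y (g * g) = -(y g * (2 * t - 2 - y g)) := by rw [h1]; ring
    omega

theorem Val.neg_one (V : Val p t y) {g : G} (hg : ¬ p ∣ orderOf g) (h : y g = -1) : g * g = 1 := by
  apply V.inj _ (reg2 hg)
  rw [V.rel g hg, h]; ring

theorem Val.invol (V : Val p t y) {g : G} (hg : ¬ p ∣ orderOf g) (hg1 : g ≠ 1) (h : g * g = 1) : y g = -1 := by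
  have h1 := V.rel g hg
  rw [h, V.one] at h1
  have h2 : (y g - (2 * t - 1)) * (y g + 1) = 0 := by linear_combination -h1
  rcases mul_eq_zero.mp h2 with h3 | h3
  · exact absurd (V.inj g hg (by linarith)) hg1
  · linarith

theorem Val.zero_pow (V : Val p t y) {g : G} (hg : ¬ p ∣ orderOf g) (h : y g = 0) (k : ℕ) : y (g ^ 2 ^ k) = 0 := by
  induction k with
  | zero => rw [pow_zero, pow_one]; exact h
  | succ k ih =>
    rw [pow_succ, pow_mul, sq, V.rel _ (fun h => hg (h.trans (orderOf_pow_dvd _))), ih, zero_mul]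

/-- no element of order 4 -/
theorem Val.no_four (V : Val p t y) (ht : 3 ≤ t) {g : G} (hp2 : p ≠ 2) (h4 : orderOf g = 4) : False := by
  have hg : ¬ p ∣ orderOf g := by
    rw [h4]
    intro h
    have h1 : p ∣ 2 ^ 2 := by norm_num; exact h
    exact hp2 ((Nat.prime_dvd_prime_iff_eq hp.out Nat.prime_two).mp (hp.out.dvd_of_dvd_pow h1))
  have hg1 : g ≠ 1 := by rintro rfl; rw [orderOf_one] at h4; omega
  have hgg : g * g ≠ 1 := by
    intro h
    have : orderOf g ∣ 2 := orderOf_dvd_of_pow_eq_one (by rw [sq]; exact h)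
    rw [h4] at this
    omega
  have h1 : y g = 0 := by
    rcases V.zero_or ht hg hg1 with h | h
    · exact absurd (V.neg_one hg h) hgg
    · exact h
  have h2 := V.rel g hg
  rw [h1, zero_mul] at h2
  have h3 : (g * g) * (g * g) = 1 := by
    have : g ^ 4 = 1 := by rw [← h4]; exact pow_orderOf_eq_one g
    rw [← pow_two, ← pow_two, ← pow_mul]
    exact this
  have h5 := V.invol (reg2 hg) hgg h3
  omega

/-- the sum over a subgroup -/
theorem Val.sumH (V : Val p t y) (ht : 3 ≤ t) (H : Subgroup G) (hH : ¬ p ∣ Nat.card H) :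
    (Nat.card H : ℤ) ∣ (2 * t - 1) - (Nat.card {h : H // h ≠ 1 ∧ h * h = 1} : ℤ) := by
  classical
  haveI : Fintype H := Fintype.ofFinite H
  have h1 := V.sum H hH
  have hreg : ∀ h : H, ¬ p ∣ orderOf (h : G) := fun h hd =>
    hH (hd.trans (Subgroup.orderOf_dvd_natCard H h.2))
  have h2 : ∑ h : H, y h = (2 * t - 1) - (Nat.card {h : H // h ≠ 1 ∧ h * h = 1} : ℤ) := by
    rw [Nat.card_eq_fintype_card, Fintype.card_subtype]
    rw [Finset.sum_congr rfl (g := fun h : H => (if h = 1 then (2 * (t : ℤ) - 1) else 0) -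
      (if h ≠ 1 ∧ h * h = 1 then 1 else 0))]
    · rw [Finset.sum_sub_distrib, Finset.sum_ite_eq' Finset.univ (1 : H), if_pos (Finset.mem_univ _)]
      rw [Finset.sum_ite, Finset.sum_const_zero, add_zero, Finset.sum_const, nsmul_eq_mul, mul_one]
    · intro h _
      by_cases h1 : h = 1
      · rw [if_pos h1, if_neg (fun hh => hh.1 h1), h1]
        show y 1 = _
        rw [V.one]; ring
      · have h1' : (h : G) ≠ 1 := fun hh => h1 (Subtype.ext hh)
        rw [if_neg h1]
        by_cases h2 : h * h = 1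
        · rw [if_pos ⟨h1, h2⟩, V.invol (hreg h) h1' (by
            have := congrArg Subtype.val h2; exact this)]; ring
        · rw [if_neg (fun hh => h2 hh.2)]
          rcases V.zero_or ht (hreg h) h1' with h3 | h3
          · exact absurd (Subtype.ext (V.neg_one (hreg h) h3)) h2
          · rw [h3]; ring
  rwa [h2] at h1

/-- no element of odd prime order commutes with an involution -/
theorem Val.no_2r (V : Val p t y) (ht : 3 ≤ t) {u c : G} (hp2 : p ≠ 2) (hu : orderOf u = 2) {r : ℕ} (hr : r.Prime)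
    (hr2 : r ≠ 2) (hrp : r ≠ p) (hc : orderOf c = r) (hcomm : Commute u c) : False := by
  classical
  have hcop : (orderOf u).Coprime (orderOf c) := by
    rw [hu, hc]
    exact (Nat.coprime_primes Nat.prime_two hr).mpr (Ne.symm hr2)
  have ho : orderOf (u * c) = 2 * r := by
    rw [hcomm.orderOf_mul_eq_mul_orderOf_of_coprime hcop, hu, hc]
  have hpr : ¬ p ∣ r := fun h => hrp ((Nat.prime_dvd_prime_iff_eq hp.out hr).mp h).symm
  have hp2r : ¬ p ∣ 2 * r := by
    intro h
    rcases (hp.out.dvd_mul).mp h with h1 | h1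
    · exact hp2 ((Nat.prime_dvd_prime_iff_eq hp.out Nat.prime_two).mp h1)
    · exact hpr h1
  -- the group generated by c
  have h1 := V.sumH ht (Subgroup.zpowers c) (by rw [Nat.card_zpowers, hc]; exact hpr)
  have h2 := V.sumH ht (Subgroup.zpowers (u * c)) (by rw [Nat.card_zpowers, ho]; exact hp2r)
  have e1 : Nat.card {h : Subgroup.zpowers c // h ≠ 1 ∧ h * h = 1} = 0 := by
    haveI : IsEmpty {h : Subgroup.zpowers c // h ≠ 1 ∧ h * h = 1} := ⟨by
      rintro ⟨h, h1, h2⟩
      have h3 : orderOf h ∣ 2 := orderOf_dvd_of_pow_eq_one (by rw [sq]; exact h2)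
      have h4 : orderOf h ∣ r := by
        have := orderOf_dvd_natCard h
        rwa [Nat.card_zpowers, hc] at this
      have h5 : orderOf h ∣ Nat.gcd 2 r := Nat.dvd_gcd h3 h4
      rw [(Nat.coprime_primes Nat.prime_two hr).mpr (Ne.symm hr2), Nat.dvd_one, orderOf_eq_one_iff] at h5
      exact h1 h5⟩
    exact Nat.card_of_isEmpty
  have e2 : Nat.card {h : Subgroup.zpowers (u * c) // h ≠ 1 ∧ h * h = 1} = 1 := by
    rw [Nat.card_eq_one_iff_unique]
    have hcy : IsCyclic (Subgroup.zpowers (u * c)) := inferInstance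
    have hmem : u ∈ Subgroup.zpowers (u * c) := by
      have h3 : (u * c) ^ r = u := by
        rw [hcomm.mul_pow, ← hc, pow_orderOf_eq_one, mul_one, hc]
        obtain ⟨m, hm⟩ := hr.eq_two_or_odd'.resolve_left hr2
        rw [hm, pow_add, pow_mul, pow_one]
        have : u ^ 2 = 1 := by rw [← hu]; exact pow_orderOf_eq_one u
        rw [this, one_pow, one_mul]
      have h3' := Subgroup.npow_mem_zpowers (u * c) r
      rwa [h3] at h3'
    have hu1 : u ≠ 1 := by rintro rfl; rw [orderOf_one] at hu; omega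
    have huu : u * u = 1 := by rw [← sq, ← hu]; exact pow_orderOf_eq_one u
    refine ⟨⟨?_⟩, ⟨⟨⟨u, hmem⟩, fun h => hu1 (congrArg Subtype.val h), Subtype.ext huu⟩⟩⟩
    rintro ⟨a, ha1, ha2⟩ ⟨b, hb1, hb2⟩
    by_contra hne
    have hab : a ≠ b := fun h => hne (Subtype.ext h)
    haveI : Fintype (Subgroup.zpowers (u * c)) := Fintype.ofFinite _
    have h3 := IsCyclic.card_pow_eq_one_le (α := Subgroup.zpowers (u * c)) (n := 2) (by norm_num)
    have h4 : ({1, a, b} : Finset (Subgroup.zpowers (u * c))) ⊆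
        Finset.univ.filter (fun x : Subgroup.zpowers (u * c) => x ^ 2 = 1) := by
      intro x hx
      rw [Finset.mem_filter]
      refine ⟨Finset.mem_univ _, ?_⟩
      rw [Finset.mem_insert, Finset.mem_insert, Finset.mem_singleton] at hx
      rcases hx with rfl | rfl | rfl
      · rw [one_pow]
      · rw [sq]; exact ha2
      · rw [sq]; exact hb2
    have h5 := Finset.card_le_card h4
    rw [Finset.card_insert_of_notMem (by
      rw [Finset.mem_insert, Finset.mem_singleton, not_or]; exact ⟨Ne.symm ha1, Ne.symm hb1⟩),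
      Finset.card_pair hab] at h5
    have h6 : Fintype.card (Subgroup.zpowers (u * c)) = Fintype.card (Subgroup.zpowers (u * c)) := rfl
    omega
  rw [e1, Nat.card_zpowers, hc] at h1
  rw [e2, Nat.card_zpowers, ho] at h2
  have h3 : (r : ℤ) ∣ (2 * t - 1) - 0 := by simpa using h1
  have h4 : (r : ℤ) ∣ (2 * t - 1) - 1 := by
    refine Dvd.dvd.trans ?_ h2
    push_cast
    exact Dvd.intro_left 2 rfl
  have h5 : (r : ℤ) ∣ 1 := by
    have := dvd_sub h3 h4
    have e : ((2 * (t : ℤ) - 1) - 0) - ((2 * t - 1) - 1) = 1 := by ring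
    rwa [e] at this
  have h6 := Int.le_of_dvd one_pos h5
  have := hr.two_le
  omega

end

end Cfsg.Agent.H4.PdE
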