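import Mathlib
import Cfsg.Agent.H4_PdE
import Cfsg.Agent.S0719
import Cfsg.Agent.S1230
import Cfsg.Agent.S0253
import Cfsg.Agent.H5_SmallIso
import Cfsg.Agent.H4_BRmain

/-! Primitive groups of degree `2p`: conclusion. -/

set_option autoImplicit false

namespace Cfsg.Agent.H4.PdF

open Cfsg Cfsg.Agent.H3.CharIrr Cfsg.Agent.H3.CharComplete Cfsg.Agent.H3.CharInd
  Cfsg.Agent.H3.CharMult Cfsg.Agent.H3.CharInt Cfsg.Agent.H4.BRgr Cfsg.Agent.H4.BRavg
  Cfsg.Agent.H4.BRdata Cfsg.Agent.H4.Pd1 Cfsg.Agent.H3.CharPerm2 Cfsg.Agent.H9.Comm Cfsg.Agent.H4.PdB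
  Cfsg.Agent.H4.BRv Cfsg.Agent.H4.PdC Cfsg.Agent.H4.PdD Cfsg.Agent.H4.PdE
open Cfsg.Agent.H10.BlockKer (triv triv_coe ker_mul)
open scoped ComplexConjugate

section

variable {G : Type*} [Group G] [Finite G] {p t : ℕ} [hp : Fact p.Prime] {P : Sylow p G} {y : G → ℤ}

/-- an element of order divisible by `p` does not commute with an involution -/
theorem reg_of_comm (hp2 : p ≠ 2) (hP : Nat.card P = p)
    (hC : Subgroup.centralizer ((P : Subgroup G) : Set G) = (P : Subgroup G)) {u c : G} (hu : orderOf u = 2)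
    (hcomm : Commute u c) : ¬ p ∣ orderOf c := by
  intro hd
  haveI := Fintype.ofFinite G
  obtain ⟨h, h1, h2⟩ := exists_conj_mem hP hC hd
  have h3 : h * u * h⁻¹ ∈ Subgroup.centralizer ({h * c * h⁻¹} : Set G) := by
    rw [Subgroup.mem_centralizer_singleton_iff]
    have : u * c = c * u := hcomm
    calc h * u * h⁻¹ * (h * c * h⁻¹) = h * (u * c) * h⁻¹ := by group
      _ = h * (c * u) * h⁻¹ := by rw [this]
      _ = h * c * h⁻¹ * (h * u * h⁻¹) := by group
  rw [centralizer_eq hP h1 h2, hC] at h3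
  have h4 : orderOf (h * u * h⁻¹) = 2 := by
    have := orderOf_injective (MulAut.conj h).toMonoidHom (MulAut.conj h).injective u
    rw [← hu]
    simpa using this
  have h5 : h * u * h⁻¹ ≠ 1 := by
    intro h
    rw [h, orderOf_one] at h4
    omega
  rw [orderOf_eq hP h3 h5] at h4
  exact hp2 h4

theorem cent_exp (V : Val p t y) (ht : 3 ≤ t) (hp2 : p ≠ 2) (hP : Nat.card P = p)
    (hC : Subgroup.centralizer ((P : Subgroup G) : Set G) = (P : Subgroup G)) {u c : G} (hu : orderOf u = 2)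
    (hcomm : Commute u c) : c ^ 2 = 1 := by
  by_contra hc
  have hreg := reg_of_comm hp2 hP hC hu hcomm
  have hc1 : 2 < orderOf c := by
    by_contra hlt
    push Not at hlt
    have h0 := orderOf_pos c
    apply hc
    rcases (by omega : orderOf c = 1 ∨ orderOf c = 2) with h | h
    · rw [orderOf_eq_one_iff.mp h, one_pow]
    · rw [← h]; exact pow_orderOf_eq_one c
  have hpos := orderOf_pos c
  rcases Nat.four_dvd_or_exists_odd_prime_and_dvd_of_two_lt hc1 with h | ⟨r, hr, hrd, hro⟩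
  · obtain ⟨m, hm⟩ := h
    have hm0 : m ≠ 0 := by rintro rfl; omega
    have h1 : orderOf (c ^ m) = 4 := by
      rw [orderOf_pow_of_dvd hm0 (by rw [hm]; exact Dvd.intro_left 4 rfl), hm, Nat.mul_div_cancel _ (by omega)]
    exact V.no_four ht hp2 h1
  · obtain ⟨m, hm⟩ := hrd
    have hm0 : m ≠ 0 := by rintro rfl; omega
    have h1 : orderOf (c ^ m) = r := by
      rw [orderOf_pow_of_dvd hm0 (by rw [hm]; exact Dvd.intro_left r rfl), hm, Nat.mul_div_cancel _ (by omega)]
    have hrp : r ≠ p := by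
      rintro rfl
      exact hreg (by rw [hm]; exact Dvd.intro _ rfl)
    have hr2 : r ≠ 2 := by
      rintro rfl
      exact absurd hro (by decide)
    exact V.no_2r ht hp2 hu hr hr2 hrp h1 (hcomm.pow_right m)

theorem case3 (V : Val p t y) (ht : 3 ≤ t) (hp2 : p ≠ 2) (hP : Nat.card P = p)
    (hC : Subgroup.centralizer ((P : Subgroup G) : Set G) = (P : Subgroup G))
    (hs : ∀ N : Subgroup G, N.Normal → N ≠ ⊥ → N = ⊤) (hcard : Nat.card G = p * (p - 1) * (p - 2))
    (h4 : 4 ∣ p - 1) : ∃ k, p - 1 = 2 ^ k := by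
  classical
  obtain ⟨T⟩ : Nonempty (Sylow 2 G) := inferInstance
  have h4G : 2 ^ 2 ∣ Nat.card G := by
    rw [hcard]
    exact (Dvd.dvd.mul_left h4 p).mul_right _
  have h4T := T.pow_dvd_card_of_pow_dvd_card h4G
  have hTnt : Nontrivial (T : Subgroup G) := by
    rw [← Finite.one_lt_card_iff_nontrivial]
    have := Nat.le_of_dvd Nat.card_pos h4T
    omega
  have hTexp : ∀ x ∈ (T : Subgroup G), x ^ 2 = 1 := by
    have hZ := IsPGroup.center_nontrivial T.isPGroup'
    obtain ⟨z, hz⟩ := exists_prime_orderOf_dvd_card' (G := Subgroup.center (T : Subgroup G)) 2 (by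
      obtain ⟨k, hk⟩ := IsPGroup.iff_card.mp (T.isPGroup'.to_subgroup (Subgroup.center (T : Subgroup G)))
      have h1 := Finite.one_lt_card_iff_nontrivial.mpr hZ
      rw [hk] at h1 ⊢
      apply dvd_pow_self
      rintro rfl
      simp at h1)
    have hu : orderOf ((z : (T : Subgroup G)) : G) = 2 := by
      rw [Subgroup.orderOf_coe, Subgroup.orderOf_coe]; exact hz
    intro x hx
    refine cent_exp V ht hp2 hP hC hu ?_
    have h1 := Subgroup.mem_center_iff.mp z.2 ⟨x, hx⟩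
    exact (congrArg Subtype.val h1).symm
  have hnc : ¬ IsCyclic (T : Subgroup G) := by
    intro hcy
    obtain ⟨g, hg⟩ := hcy.exists_generator
    have h1 : Nat.card (T : Subgroup G) ∣ 2 := by
      rw [← orderOf_eq_card_of_forall_mem_zpowers hg]
      exact orderOf_dvd_of_pow_eq_one (Subtype.ext (hTexp g g.2))
    have := Nat.le_of_dvd (by norm_num) h1
    have := Nat.le_of_dvd Nat.card_pos h4T
    omega
  have hp3 := hp.out.two_le
  have hnn : ¬ (T : Subgroup G).Normal := by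
    intro hn
    have h1 := hs _ hn (by
      intro hb
      rw [hb] at hTnt
      exact not_subsingleton _ (inferInstance : Subsingleton (⊥ : Subgroup G)))
    obtain ⟨k, hk⟩ := IsPGroup.iff_card.mp T.isPGroup'
    have h2 : p ∣ Nat.card G := by rw [hcard, mul_assoc]; exact Dvd.intro _ rfl
    rw [← Subgroup.card_top (G := G), ← h1, hk] at h2
    exact hp2 ((Nat.prime_dvd_prime_iff_eq hp.out Nat.prime_two).mp (hp.out.dvd_of_dvd_pow h2))
  obtain ⟨F, hF, hFf, hFc, ⟨e⟩⟩ := Cfsg.Agent.S1230.result T hnc hnn (fun u hu => by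
    have hexp : ∀ c ∈ Subgroup.centralizer ({u} : Set G), c ^ 2 = 1 := by
      intro c hc
      refine cent_exp V ht hp2 hP hC hu ?_
      rw [Subgroup.mem_centralizer_singleton_iff] at hc
      exact hc.symm
    refine ⟨⟨⟨?_⟩⟩, hexp⟩
    intro a b
    have h1 := hexp _ (Subgroup.mul_mem _ a.2 b.2)
    have h2 := hexp _ a.2
    have h3 := hexp _ b.2
    apply Subtype.ext
    show (a : G) * b = b * a
    rw [pow_two] at h1 h2 h3
    have e1 : (a : G)⁻¹ = a := inv_eq_of_mul_eq_one_left h2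
    have e2 : (b : G)⁻¹ = b := inv_eq_of_mul_eq_one_left h3
    have e3 : ((a : G) * b)⁻¹ = a * b := inv_eq_of_mul_eq_one_left h1
    rw [mul_inv_rev, e1, e2] at e3
    exact e3.symm)
  obtain ⟨k, hk⟩ := IsPGroup.iff_card.mp T.isPGroup'
  have hq : Fintype.card F = 2 ^ k := by rw [hFc]; exact hk
  have hk0 : k ≠ 0 := by
    rintro rfl
    have := Nat.le_of_dvd Nat.card_pos h4T
    rw [hk] at this
    omega
  refine ⟨k, ?_⟩
  have h5 := Cfsg.Agent.H5.SmallIso.card_PSL2 (F := F)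
  rw [hq] at h5
  have h6 : Nat.gcd 2 (2 ^ k - 1) = 1 := by
    have h1 : 2 ∣ 2 ^ k := dvd_pow_self 2 hk0
    have h2 : 0 < 2 ^ k := by positivity
    have h3 : ¬ 2 ∣ 2 ^ k - 1 := by omega
    exact (Nat.Prime.coprime_iff_not_dvd Nat.prime_two).mpr h3
  rw [h6, one_mul, ← Nat.card_congr e.toEquiv, hcard] at h5
  -- compare
  obtain ⟨Q, hQ⟩ : ∃ Q, Q = 2 ^ k := ⟨_, rfl⟩
  rw [← hQ] at h5 ⊢
  have hQ2 : 2 ≤ Q := by
    rw [hQ]
    calc 2 = 2 ^ 1 := by norm_num
      _ ≤ 2 ^ k := Nat.pow_le_pow_right (by norm_num) (by omega)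
  obtain ⟨a, rfl⟩ : ∃ a, p = a + 2 := ⟨p - 2, by omega⟩
  obtain ⟨b, rfl⟩ : ∃ b, Q = b + 1 := ⟨Q - 1, by omega⟩
  have e1 : a + 2 - 1 = a + 1 := by omega
  have e2 : a + 2 - 2 = a := by omega
  have e3 : b + 1 - 1 = b := by omega
  rw [e1, e2, e3] at h5
  rw [e1]
  have h7 : a = b := by
    rcases lt_trichotomy a b with h | h | h
    · exfalso
      have h8 : (a + 2) * (a + 1) * a < (b + 1) * b * (b + 1 + 1) := by
        calc (a + 2) * (a + 1) * a = (a + 2) * ((a + 1) * a) := by ring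
          _ ≤ (b + 1 + 1) * ((a + 1) * a) := Nat.mul_le_mul_right _ (by omega)
          _ ≤ (b + 1 + 1) * (b * a) := Nat.mul_le_mul_left _ (Nat.mul_le_mul_right _ (by omega))
          _ < (b + 1 + 1) * ((b + 1) * b) := by
            apply Nat.mul_lt_mul_of_pos_left _ (by omega)
            nlinarith
          _ = (b + 1) * b * (b + 1 + 1) := by ring
      omega
    · exact h
    · exfalso
      have h8 : (b + 1) * b * (b + 1 + 1) < (a + 2) * (a + 1) * a := by
        calc (b + 1) * b * (b + 1 + 1) = (b + 2) * ((b + 1) * b) := by ring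
          _ ≤ (a + 2) * ((b + 1) * b) := Nat.mul_le_mul_right _ (by omega)
          _ ≤ (a + 2) * (a * b) := Nat.mul_le_mul_left _ (Nat.mul_le_mul_right _ (by omega))
          _ < (a + 2) * ((a + 1) * a) := by
            apply Nat.mul_lt_mul_of_pos_left _ (by omega)
            nlinarith
          _ = (a + 2) * (a + 1) * a := by ring
      omega
  rw [h7]

theorem pow_two_orderOf {G : Type*} [Group G] [Finite G] {g : G} (hg : Odd (orderOf g)) : ∃ k : ℕ, g ^ 2 ^ (k + 1) = g := by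
  have h1 : Nat.Coprime 2 (orderOf g) := by
    rw [Nat.coprime_two_left]; exact hg
  have h2 := Nat.ModEq.pow_totient h1
  have hpos : 0 < Nat.totient (orderOf g) := Nat.totient_pos.mpr (orderOf_pos g)
  refine ⟨Nat.totient (orderOf g) - 1, ?_⟩
  rw [Nat.sub_add_cancel hpos]
  calc g ^ 2 ^ Nat.totient (orderOf g) = g ^ 1 := pow_eq_pow_iff_modEq.mpr h2
    _ = g := pow_one g

theorem odd_zero (V : Val p 2 y) {g : G} (hg : ¬ p ∣ orderOf g) (hg1 : g ≠ 1) (ho : Odd (orderOf g)) : y g = 0 := by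
  have h1 := V.lo le_rfl hg
  have h2 := V.hi g hg
  have h3 := V.rel g hg
  push_cast at h2 h3
  have h4 : y g ≠ 3 := fun h => hg1 (V.inj g hg (by push_cast; omega))
  obtain ⟨k, hk⟩ := pow_two_orderOf ho
  have hgg : g ^ 2 ^ (k + 1) = (g * g) ^ 2 ^ k := by
    rw [← pow_two, ← pow_mul, ← pow_succ']
  rw [hgg] at hk
  rcases (by omega : y g = -1 ∨ y g = 0 ∨ y g = 1 ∨ y g = 2) with h | h | h | h
  · exfalso
    have h5 := V.neg_one hg h
    rw [h5, one_pow] at hk
    exact hg1 hk.symm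
  · exact h
  · exfalso
    have h5 : y (g * g) = -1 := by rw [h3, h]; norm_num
    have h6 := V.neg_one (reg2 hg) h5
    have h7 : orderOf g ∣ 2 ^ 2 := by
      apply orderOf_dvd_of_pow_eq_one
      rw [show (2 : ℕ) ^ 2 = 2 * 2 by norm_num, pow_mul, pow_two, pow_two]
      exact h6
    have h8 : orderOf g = 1 := by
      have h9 : (orderOf g).Coprime (2 ^ 2) := by
        apply Nat.Coprime.pow_right
        rw [Nat.coprime_two_right]; exact ho
      exact Nat.Coprime.eq_one_of_dvd h9 h7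
    exact hg1 (orderOf_eq_one_iff.mp h8)
  · have h5 : y (g * g) = 0 := by rw [h3, h]; norm_num
    have h6 := V.zero_pow (reg2 hg) h5 k
    rw [hk] at h6
    exact h6

theorem two_pm (V : Val p 2 y) {g : G} (hg : ¬ p ∣ orderOf g) (hg1 : g ≠ 1) {k : ℕ} (ho : orderOf g = 2 ^ k) :
    y g ^ 2 = 1 := by
  have h1 := V.lo le_rfl hg
  have h2 := V.hi g hg
  have h3 := V.rel g hg
  have hone := V.one
  push_cast at h2 h3 hone
  have h4 : y g ≠ 3 := fun h => hg1 (V.inj g hg (by push_cast; omega))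
  have hk1 : g ^ 2 ^ k = 1 := by rw [← ho]; exact pow_orderOf_eq_one g
  rcases (by omega : y g = -1 ∨ y g = 0 ∨ y g = 1 ∨ y g = 2) with h | h | h | h
  · rw [h]; norm_num
  · exfalso
    have h5 := V.zero_pow hg h k
    rw [hk1, hone] at h5
    omega
  · rw [h]; norm_num
  · exfalso
    have h5 : y (g * g) = 0 := by rw [h3, h]; norm_num
    have h6 := V.zero_pow (reg2 hg) h5 k
    have h7 : (g * g) ^ 2 ^ k = 1 := by
      rw [← pow_two, ← pow_mul, mul_comm, pow_mul, hk1, one_pow]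
    rw [h7, hone] at h6
    omega

theorem dvd_120 (V : Val 5 2 y) [Fact (Nat.Prime 5)] {P : Sylow 5 G} (hP : Nat.card P = 5) : Nat.card G ∣ 120 := by
  classical
  rw [Nat.dvd_iff_prime_pow_dvd_dvd]
  intro r k hr hd
  haveI : Fact r.Prime := ⟨hr⟩
  by_cases hr5 : r = 5
  · subst hr5
    have h1 := P.pow_dvd_card_of_pow_dvd_card hd
    have hPc : Nat.card (P : Subgroup G) = 5 := hP
    rw [hPc] at h1
    exact h1.trans (by norm_num)
  obtain ⟨R⟩ : Nonempty (Sylow r G) := inferInstance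
  have h1 := R.pow_dvd_card_of_pow_dvd_card hd
  obtain ⟨m, hm⟩ := IsPGroup.iff_card.mp R.isPGroup'
  have h5R : ¬ 5 ∣ Nat.card (R : Subgroup G) := by
    intro h
    rw [hm] at h
    have h2 := Nat.Prime.dvd_of_dvd_pow (by norm_num : Nat.Prime 5) h
    exact hr5 ((Nat.prime_dvd_prime_iff_eq (by norm_num) hr).mp h2).symm
  have hreg : ∀ x : (R : Subgroup G), ¬ 5 ∣ orderOf (x : G) := fun x hx =>
    h5R (hx.trans (Subgroup.orderOf_dvd_natCard _ x.2))
  haveI : Fintype (R : Subgroup G) := Fintype.ofFinite _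
  have hone := V.one
  push_cast at hone
  by_cases hr2 : r = 2
  · subst hr2
    have h2 := V.sum2 (R : Subgroup G) h5R
    have h3 : ∑ h : (R : Subgroup G), y h ^ 2 = 8 + (Nat.card (R : Subgroup G) : ℤ) := by
      rw [Finset.sum_congr rfl (g := fun h : (R : Subgroup G) => (if h = 1 then (8 : ℤ) else 0) + 1)]
      · rw [Finset.sum_add_distrib, Finset.sum_ite_eq' Finset.univ (1 : (R : Subgroup G)), if_pos (Finset.mem_univ _),
          Finset.sum_const, Finset.card_univ, nsmul_eq_mul, mul_one, Nat.card_eq_fintype_card]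
      · intro h _
        by_cases h1 : h = 1
        · rw [if_pos h1, h1]
          show y 1 ^ 2 = _
          rw [hone]; norm_num
        · rw [if_neg h1]
          obtain ⟨j, hj⟩ := (IsPGroup.iff_orderOf.mp R.isPGroup') h
          rw [two_pm V (hreg h) (fun hh => h1 (Subtype.ext hh)) (k := j) (by rw [Subgroup.orderOf_coe]; exact hj)]
          norm_num
    rw [h3] at h2
    have h4 : (Nat.card (R : Subgroup G) : ℤ) ∣ 8 := by
      have := dvd_sub h2 (dvd_refl (Nat.card (R : Subgroup G) : ℤ))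
      rwa [add_sub_cancel_right] at this
    have h5 : Nat.card (R : Subgroup G) ∣ 8 := by exact_mod_cast h4
    exact h1.trans (h5.trans (by norm_num))
  · have h2 := V.sum (R : Subgroup G) h5R
    have h3 : ∑ h : (R : Subgroup G), y h = 3 := by
      rw [Finset.sum_eq_single (1 : (R : Subgroup G))]
      · show y 1 = 3
        linarith
      · intro h _ hh
        obtain ⟨j, hj⟩ := (IsPGroup.iff_orderOf.mp R.isPGroup') h
        refine odd_zero V (hreg h) (fun hh' => hh (Subtype.ext hh')) ?_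
        rw [Subgroup.orderOf_coe, hj]
        exact (hr.eq_two_or_odd'.resolve_left hr2).pow
      · intro hh; exact absurd (Finset.mem_univ _) hh
    rw [h3] at h2
    have h5 : Nat.card (R : Subgroup G) ∣ 3 := by exact_mod_cast h2
    exact h1.trans (h5.trans (by norm_num))

end

theorem case2 {G : Type*} [Group G] [Fintype G] {y : G → ℤ} [Fact (Nat.Prime 5)] {P : Sylow 5 G} (V : Val 5 2 y)
    (hP : Nat.card P = 5)
    (hC : Subgroup.centralizer ((P : Subgroup G) : Set G) = (P : Subgroup G))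
    (hN : Nat.card (Subgroup.normalizer ((P : Subgroup G) : Set G)) = 2 * 5)
    (hs : ∀ N : Subgroup G, N.Normal → N ≠ ⊥ → N = ⊤) (hperf : commutator G = ⊤) :
    Nonempty (G ≃* alternatingGroup (Fin 5)) := by
  classical
  have h1 := dvd_120 V hP
  have h2 : Nat.card G = 2 * 5 * Nat.card (Sylow 5 G) := by
    rw [P.card_eq_index_normalizer, ← hN]
    exact (Subgroup.card_mul_index _).symm
  have h3 : Nat.card (Sylow 5 G) ≡ 1 [MOD 5] := card_sylow_modEq_one 5 G
  have hPc : Nat.card (P : Subgroup G) = 5 := hP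
  have h4 : Nat.card (Sylow 5 G) ≠ 1 := by
    intro h
    rw [P.card_eq_index_normalizer, Subgroup.index_eq_one] at h
    have h5 : (P : Subgroup G).Normal := Subgroup.normalizer_eq_top_iff.mp h
    have h6 := hs _ h5 (by
      intro hb
      rw [hb, Subgroup.card_bot] at hPc
      omega)
    rw [h6, Subgroup.card_top] at hPc
    have h' : Subgroup.normalizer ((P : Subgroup G) : Set G) = ⊤ := h
    have h7 : Nat.card (Subgroup.normalizer ((P : Subgroup G) : Set G)) = Nat.card G := by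
      rw [h', Subgroup.card_top]
    omega
  have h5 : Nat.card (Sylow 5 G) = 6 := by
    have h6 : Nat.card (Sylow 5 G) ∣ 12 := by
      have : 2 * 5 * Nat.card (Sylow 5 G) ∣ 2 * 5 * 12 := by rw [← h2]; exact h1
      exact Nat.dvd_of_mul_dvd_mul_left (by norm_num) this
    have h7 := Nat.le_of_dvd (by norm_num) h6
    have h8 : Nat.card (Sylow 5 G) % 5 = 1 := h3
    have h9 : 0 < Nat.card (Sylow 5 G) := Nat.card_pos
    obtain ⟨N, hN'⟩ : ∃ N, N = Nat.card (Sylow 5 G) := ⟨_, rfl⟩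
    rw [← hN'] at h4 h6 h7 h8 h9 ⊢
    interval_cases N <;> omega
  rcases BRmain.main (P := P) hperf hP (n := 1) (by rw [h5]) with hA | ⟨hle, hcase⟩
  · exact absurd (BRmain.alt_bound hA) (by norm_num)
  have hcb : pPrimeCore 5 G = ⊥ := by
    by_contra hb
    have h6 := hs _ (Cfsg.Agent.H1.Nilp.pPrimeCore_normal 5) hb
    rw [h6, hC, top_le_iff] at hle
    rw [hle, Subgroup.card_top] at hPc
    omega
  have e0 : Nonempty (G ⧸ pPrimeCore 5 G ≃* G) :=
    ⟨(QuotientGroup.quotientMulEquivOfEq hcb).trans QuotientGroup.quotientBot⟩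
  obtain ⟨e0⟩ := e0
  rcases hcase with ⟨F, i1, i2, hF, -, ⟨e⟩⟩ | ⟨m, F, i1, i2, hF, hm, -, ⟨e⟩⟩
  · obtain ⟨e3⟩ := Cfsg.Agent.S0253.result hF
    exact ⟨(e0.symm.trans e).trans e3⟩
  · have h6 : Fintype.card F = 4 := by rw [hF]; omega
    haveI : CharP F 2 := S3.even_card_charTwo (by rw [h6]; decide)
    obtain ⟨e3⟩ := Cfsg.Agent.H5.SmallIso.psl2_4 h6
    exact ⟨((e0.symm.trans e).trans (H21.SL2e.equivPSL (F := F))).trans e3⟩

theorem main {Ω G : Type*} [Fintype Ω] [Group G] [Finite G] [MulAction G Ω] [FaithfulSMul G Ω] {p : ℕ}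
    [hp : Fact p.Prime] (hp3 : 3 < p) (hprim : MulAction.IsPreprimitive G Ω) (hΩ : Fintype.card Ω = 2 * p)
    (hnot2 : ¬ MulAction.IsMultiplyPretransitive G Ω 2) (P : Sylow p G)
    (hN : Nat.card (Subgroup.normalizer ((P : Subgroup G) : Set G)) = 2 * p) :
    p = 5 ∧ Nonempty (G ≃* alternatingGroup (Fin 5)) := by
  classical
  haveI : Fintype G := Fintype.ofFinite G
  haveI : Fintype (IrrCharacter G) := Fintype.ofFinite _
  haveI hne : Nonempty Ω := Fintype.card_pos_iff.1 (by rw [hΩ]; omega)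
  haveI htr : MulAction.IsPretransitive G Ω := hprim.toIsPretransitive
  have hdG := dvd_of_trans (Ω := Ω) htr
  rw [hΩ] at hdG
  have hP := card_P' (by omega) P hN ((Dvd.intro_left 2 rfl).trans hdG)
  have hs : ∀ N : Subgroup G, N.Normal → N ≠ ⊥ → N = ⊤ := fun N h1 h2 => simple (by omega) hprim hΩ hP hN h1 h2
  have hperf := perfect (by omega) hprim hΩ hP hN
  obtain ⟨t, X, Y, δ, χ, ψ₀, C, hψ, hψd, hm1, hm2, hm0⟩ := exists_cfg hp3 hprim hΩ hnot2 hP hN
  have hint := χ_int C hψd hm1 hm0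
  choose y0 hy0 using hint
  have V : Val p t (fun g => y0 g - 1) := mkVal C hs (fun g => by rw [hy0 g]; push_cast; ring)
  have hpt := C.hpt
  rcases (by have := C.ht; omega : t = 2 ∨ 3 ≤ t) with h | h
  · subst h
    have hp5 : p = 5 := by omega
    subst hp5
    exact ⟨rfl, case2 V hP C.hC hN hs hperf⟩
  · exfalso
    have hcard := C.card (fun g hg hg1 => by
      have h1 : y0 g - 1 = -1 ∨ y0 g - 1 = 0 := V.zero_or h hg hg1
      rcases h1 with h1 | h1
      · right
        rw [hy0 g, show y0 g = 0 by omega]; simp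
      · left
        rw [hy0 g, show y0 g = 1 by omega]; simp)
    have hχψ : χ ≠ ψ₀ := by
      intro hh
      apply hψ
      rw [← hh]
      exact Finset.mem_union_left _ C.χX
    have hψt : ψ₀ ≠ triv G := by
      intro hh
      rw [hh, deg_triv] at hψd
      omega
    -- rank
    have hrank : ∀ a : Ω, Nat.card (MulAction.orbitRel.Quotient (MulAction.stabilizer G a) Ω) = 3 := by
      intro a
      rw [← rank_sum a, ← Finset.add_sum_erase _ _ (Finset.mem_univ (triv G)),
        ← Finset.add_sum_erase _ _ (Finset.mem_erase.mpr ⟨C.χne, Finset.mem_univ χ⟩),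
        ← Finset.add_sum_erase _ _ (Finset.mem_erase.mpr ⟨hχψ.symm, Finset.mem_erase.mpr ⟨hψt, Finset.mem_univ ψ₀⟩⟩),
        Finset.sum_eq_zero, ml_triv, hm1, hm2]
      · norm_num
      intro ψ hψ'
      rw [Finset.mem_erase, Finset.mem_erase, Finset.mem_erase] at hψ'
      rw [hm0 ψ hψ'.2.2.1 hψ'.2.1 hψ'.1]; norm_num
    have hπ : ∀ g : G, (Nat.card (MulAction.fixedBy Ω g) : ℂ) = 1 + (χ : G → ℂ) g + (ψ₀ : G → ℂ) g := by
      intro g
      rw [pch_eq', ← Finset.add_sum_erase _ _ (Finset.mem_univ (triv G)),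
        ← Finset.add_sum_erase _ _ (Finset.mem_erase.mpr ⟨C.χne, Finset.mem_univ χ⟩),
        ← Finset.add_sum_erase _ _ (Finset.mem_erase.mpr ⟨hχψ.symm, Finset.mem_erase.mpr ⟨hψt, Finset.mem_univ ψ₀⟩⟩),
        Finset.sum_eq_zero, ml_triv, hm1, hm2, triv_coe]
      · push_cast; ring
      · intro ψ hψ'
        rw [Finset.mem_erase, Finset.mem_erase, Finset.mem_erase] at hψ'
        rw [hm0 ψ hψ'.2.2.1 hψ'.2.1 hψ'.1]; simp
    obtain ⟨a₀⟩ := hne
    obtain ⟨a, ha0, ha, -⟩ := Cfsg.Agent.S0719.result hprim hΩ a₀ (hrank a₀) (χ : G → ℂ) (ψ₀ : G → ℂ) χ.2 ψ₀.2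
      (funext hπ) (by
        rw [deg_eq, C.χd, hpt]; push_cast; ring) (by rw [deg_eq, hψd])
    have hp1 : p - 1 = 2 * (a * (a + 1)) := by
      rw [ha]
      have : 2 * a ^ 2 + 2 * a + 1 - 1 = 2 * a ^ 2 + 2 * a := by omega
      rw [this]; ring
    have h4 : 4 ∣ p - 1 := by
      rw [hp1]
      obtain ⟨b, hb⟩ := (Nat.even_mul_succ_self a).two_dvd
      rw [hb]
      exact ⟨b, by ring⟩
    obtain ⟨k, hk⟩ := case3 V h (by omega) hP C.hC hs hcard h4
    rw [hp1] at hk
    have hk0 : k ≠ 0 := by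
      rintro rfl
      omega
    obtain ⟨j, rfl⟩ := Nat.exists_eq_succ_of_ne_zero hk0
    have hk' : a * (a + 1) = 2 ^ j := by
      rw [Nat.succ_eq_add_one, pow_succ, mul_comm] at hk
      exact Nat.eq_of_mul_eq_mul_right (by norm_num) hk
    obtain ⟨i1, -, h1⟩ := (Nat.dvd_prime_pow Nat.prime_two).mp (Dvd.intro _ hk' : a ∣ 2 ^ j)
    obtain ⟨i2, -, h2⟩ := (Nat.dvd_prime_pow Nat.prime_two).mp (Dvd.intro_left _ hk' : a + 1 ∣ 2 ^ j)
    have ha1 : a = 1 := by
      rcases Nat.eq_zero_or_pos i1 with h3 | h3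
      · rw [h1, h3, pow_zero]
      · exfalso
        have h5 : 2 ∣ a := by rw [h1]; exact dvd_pow_self 2 h3.ne'
        rcases Nat.eq_zero_or_pos i2 with h6 | h6
        · rw [h6, pow_zero] at h2; omega
        · have h7 : 2 ∣ a + 1 := by rw [h2]; exact dvd_pow_self 2 h6.ne'
          omega
    rw [ha1] at ha
    omega

end Cfsg.Agent.H4.PdF
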