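import Cfsg.Agent.H4_PlR

set_option autoImplicit false
set_option maxRecDepth 1000000

namespace Cfsg.Agent.H4.PlA3

open Cfsg.Agent.H8 Cfsg.Agent.H8.CE Cfsg.Agent.H8.Net Cfsg.Agent.H8.Act

def n1 : Nt := (.st (nat_lit 32) (nat_lit 0xd705f71f)
  (.st (nat_lit 16) (nat_lit 0x5b900000bc1)
  (.st (nat_lit 8) (nat_lit 0x85006d000f000c)
  (.st (nat_lit 4) (nat_lit 0x8040e0a0505090f)
  (.st (nat_lit 2) (nat_lit 0x1023312111211230)
  (.st (nat_lit 1) (nat_lit 0x4141144410551140)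
  (.st (nat_lit 2) (nat_lit 0x2202000200000000)
  (.st (nat_lit 4) (nat_lit 0xa02080a0204080c)
  (.st (nat_lit 8) (nat_lit 0x7a0040002a00f4)
  (.st (nat_lit 16) (nat_lit 0x1098000010bc)
  (.st (nat_lit 32) (nat_lit 0xc75d81cc)
  .nil)))))))))))

def n2 : Nt := (.st (nat_lit 32) (nat_lit 0x38a27e33)
  (.st (nat_lit 16) (nat_lit 0xef4500008025)
  (.st (nat_lit 8) (nat_lit 0xe4004500f800f5)
  (.st (nat_lit 4) (nat_lit 0xe070a0f060a030c)
  (.st (nat_lit 2) (nat_lit 0x1322201120131323)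
  (.st (nat_lit 1) (nat_lit 0x1441510405514041)
  (.st (nat_lit 2) (nat_lit 0x20000000020000)
  (.st (nat_lit 4) (nat_lit 0xc06080804080c04)
  (.st (nat_lit 8) (nat_lit 0x280054001400a8)
  (.st (nat_lit 16) (nat_lit 0xf41a00006020)
  (.st (nat_lit 32) (nat_lit 0x28fa08e0)
  .nil)))))))))))

def n3 : Nt := (.st (nat_lit 32) (nat_lit 0x923c7dd7)
  (.st (nat_lit 16) (nat_lit 0xaa54000000fe)
  (.st (nat_lit 8) (nat_lit 0xe50035003f0054)
  (.st (nat_lit 4) (nat_lit 0x505070f02050c0e)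
  (.st (nat_lit 2) (nat_lit 0x3003311032012221)
  (.st (nat_lit 1) (nat_lit 0x5540451441104110)
  (.st (nat_lit 2) (nat_lit 0x2220202020)
  (.st (nat_lit 4) (nat_lit 0xc00060404080608)
  (.st (nat_lit 8) (nat_lit 0xea003800320072)
  (.st (nat_lit 16) (nat_lit 0xba1400003556)
  (.st (nat_lit 32) (nat_lit 0xda846a9e)
  .nil)))))))))))

def n4 : Nt := (.st (nat_lit 32) (nat_lit 0x257b9561)
  (.st (nat_lit 16) (nat_lit 0x8ad60000ba14)
  (.st (nat_lit 8) (nat_lit 0x5c006a001500a5)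
  (.st (nat_lit 4) (nat_lit 0x6050f080f06090b)
  (.st (nat_lit 2) (nat_lit 0x1210302130122123)
  (.st (nat_lit 1) (nat_lit 0x111510004554451)
  (.st (nat_lit 2) (nat_lit 0x202000000000200)
  (.st (nat_lit 4) (nat_lit 0x8000e040a000800)
  (.st (nat_lit 8) (nat_lit 0x22004e001a0002)
  (.st (nat_lit 16) (nat_lit 0xaa540000aa54)
  (.st (nat_lit 32) (nat_lit 0x6dc38228)
  .nil)))))))))))

def n5 : Nt := (.st (nat_lit 32) (nat_lit 0x4cedccc9)
  (.st (nat_lit 16) (nat_lit 0xccc20000730f)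
  (.st (nat_lit 8) (nat_lit 0x5500c000c0)
  (.st (nat_lit 4) (nat_lit 0xb050a04020c070c)
  (.st (nat_lit 2) (nat_lit 0x2230101311212210)
  (.st (nat_lit 1) (nat_lit 0x5515515500440000)
  (.st (nat_lit 2) (nat_lit 0x20000)
  (.st (nat_lit 4) (nat_lit 0x2080000000004)
  (.st (nat_lit 8) (nat_lit 0xf8005200f400f4)
  (.st (nat_lit 16) (nat_lit 0x80040000b40a)
  (.st (nat_lit 32) (nat_lit 0x2666e264)
  .nil)))))))))))

def n6 : Nt := (.st (nat_lit 32) (nat_lit 0x2666e266)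
  (.st (nat_lit 16) (nat_lit 0x800100004001)
  (.st (nat_lit 8) (nat_lit 0xf800bc00f400f4)
  (.st (nat_lit 4) (nat_lit 0x70c0308020c0d00)
  (.st (nat_lit 2) (nat_lit 0x1113222011102201)
  (.st (nat_lit 1) (nat_lit 0x5554555100000041)
  (.st (nat_lit 2) (nat_lit 0x22)
  (.st (nat_lit 4) (nat_lit 0x200080004000c)
  (.st (nat_lit 8) (nat_lit 0x8800c000c0)
  (.st (nat_lit 16) (nat_lit 0xccc80000b330)
  (.st (nat_lit 32) (nat_lit 0x4cedccc8)
  .nil)))))))))))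

def n7 : Nt := .nil

def n8 : Nt := .nil

def L : List Nt := [.nil, n1, n2, n3, n4, n5, n6, n7, n8, .nil, .nil, .nil, .nil, .nil, .nil, .nil]

theorem sys : sysOk L (nat_lit 63) = true := by decide +kernel

theorem inv_ok : invOk L (nat_lit 63) (nat_lit 6) Cfsg.Agent.H4.PlT.ic = true := by decide +kernel

theorem rel_ok : eqAll L (nat_lit 63) (nat_lit 6) (Cfsg.Agent.H4.PlT.rels3.map fun w => (w, [])) = true := by decide +kernel

theorem mv : (net L 5).pos 0 ≠ 0 := by decide +kernel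



end Cfsg.Agent.H4.PlA3
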