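import Cfsg.Agent.H4_PlR

set_option autoImplicit false
set_option maxRecDepth 1000000

namespace Cfsg.Agent.H4.PlP

open Cfsg.Agent.H8 Cfsg.Agent.H8.CE Cfsg.Agent.H8.Net Cfsg.Agent.H8.Act

def n1 : Nt := (.st (nat_lit 16) (nat_lit 0x102)
  (.st (nat_lit 8) (nat_lit 0x1500a6)
  (.st (nat_lit 4) (nat_lit 0x5000608)
  (.st (nat_lit 2) (nat_lit 0x10023213)
  (.st (nat_lit 1) (nat_lit 0x5014)
  (.st (nat_lit 2) (nat_lit 0x22)
  (.st (nat_lit 4) (nat_lit 0x4000c0c)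
  (.st (nat_lit 8) (nat_lit 0x140042)
  (.st (nat_lit 16) (nat_lit 0x10c)
  .nil)))))))))

def n2 : Nt := (.st (nat_lit 16) (nat_lit 0x10c)
  (.st (nat_lit 8) (nat_lit 0x1009e)
  (.st (nat_lit 4) (nat_lit 0x10e0d)
  (.st (nat_lit 2) (nat_lit 0x31230)
  (.st (nat_lit 1) (nat_lit 0x4411)
  (.st (nat_lit 2) (nat_lit 0x2202)
  (.st (nat_lit 4) (nat_lit 0x80e)
  (.st (nat_lit 8) (nat_lit 0x54)
  (.st (nat_lit 16) (nat_lit 0x102)
  .nil)))))))))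

def n3 : Nt := (.st (nat_lit 8) (nat_lit 0x60)
  (.st (nat_lit 4) (nat_lit 0x50408)
  (.st (nat_lit 2) (nat_lit 0x101330)
  (.st (nat_lit 1) (nat_lit 0x15004)
  (.st (nat_lit 2) (nat_lit 0x20002)
  (.st (nat_lit 4) (nat_lit 0x40a04)
  (.st (nat_lit 8) (nat_lit 0x90)
  .nil)))))))

def n4 : Nt := (.st (nat_lit 8) (nat_lit 0x90)
  (.st (nat_lit 4) (nat_lit 0xb0a04)
  (.st (nat_lit 2) (nat_lit 0x212332)
  (.st (nat_lit 1) (nat_lit 0x105004)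
  (.st (nat_lit 4) (nat_lit 0xa0408)
  (.st (nat_lit 8) (nat_lit 0x60)
  .nil))))))

def n16 : Nt := (.st (nat_lit 8) (nat_lit 0x54)
  (.st (nat_lit 4) (nat_lit 0xa040a)
  (.st (nat_lit 2) (nat_lit 0x1012)
  (.st (nat_lit 1) (nat_lit 0x101114)
  (.st (nat_lit 2) (nat_lit 0x200202)
  (.st (nat_lit 4) (nat_lit 0xa0404)
  (.st (nat_lit 8) (nat_lit 0x80)
  .nil)))))))

def n17 : Nt := (.st (nat_lit 16) (nat_lit 0x536)
  (.st (nat_lit 8) (nat_lit 0x1c0062)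
  (.st (nat_lit 4) (nat_lit 0x1000c08)
  (.st (nat_lit 1) (nat_lit 0x4010444)
  (.st (nat_lit 2) (nat_lit 0x222)
  (.st (nat_lit 4) (nat_lit 0x20c00)
  (.st (nat_lit 8) (nat_lit 0x1800a0)
  (.st (nat_lit 16) (nat_lit 0x526)
  .nil))))))))

def n18 : Nt := (.st (nat_lit 16) (nat_lit 0xaa5c)
  (.st (nat_lit 8) (nat_lit 0xf2007c)
  (.st (nat_lit 4) (nat_lit 0x80a0800)
  (.st (nat_lit 2) (nat_lit 0x10020110)
  (.st (nat_lit 1) (nat_lit 0x40011000)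
  (.st (nat_lit 2) (nat_lit 0x22000)
  (.st (nat_lit 4) (nat_lit 0x8000804)
  (.st (nat_lit 8) (nat_lit 0xf0007c)
  (.st (nat_lit 16) (nat_lit 0xaa58)
  .nil)))))))))

def n19 : Nt := (.st (nat_lit 16) (nat_lit 0xf700)
  (.st (nat_lit 8) (nat_lit 0xe600c0)
  (.st (nat_lit 4) (nat_lit 0x102000c)
  (.st (nat_lit 2) (nat_lit 0x10020)
  (.st (nat_lit 1) (nat_lit 0x404040)
  (.st (nat_lit 4) (nat_lit 0x8080c)
  (.st (nat_lit 8) (nat_lit 0xf000c0)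
  (.st (nat_lit 16) (nat_lit 0xf700)
  .nil))))))))

def n20 : Nt := (.st (nat_lit 16) (nat_lit 0xb0)
  (.st (nat_lit 8) (nat_lit 0x4)
  (.st (nat_lit 4) (nat_lit 0xa0904)
  (.st (nat_lit 2) (nat_lit 0x203110)
  (.st (nat_lit 1) (nat_lit 0x151404)
  (.st (nat_lit 2) (nat_lit 0x202000)
  (.st (nat_lit 4) (nat_lit 0xa0404)
  (.st (nat_lit 8) (nat_lit 0x4)
  (.st (nat_lit 16) (nat_lit 0xb0)
  .nil)))))))))

def n21 : Nt := (.st (nat_lit 16) (nat_lit 0x6f80)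
  (.st (nat_lit 8) (nat_lit 0xee0040)
  (.st (nat_lit 4) (nat_lit 0x80f0008)
  (.st (nat_lit 2) (nat_lit 0x3013020)
  (.st (nat_lit 1) (nat_lit 0x1401010)
  (.st (nat_lit 2) (nat_lit 0x2002000)
  (.st (nat_lit 4) (nat_lit 0x80c0008)
  (.st (nat_lit 8) (nat_lit 0xe40040)
  (.st (nat_lit 16) (nat_lit 0x6f80)
  .nil)))))))))

def L : List Nt := [.nil, n1, n2, n3, n4, .nil, .nil, .nil, .nil, .nil, .nil, .nil, .nil, .nil, .nil, .nil, n16, n17, n18, n19, n20, n21]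

theorem sys : sysOk L (nat_lit 21) = true := by decide +kernel

theorem inv_ok : invOk L (nat_lit 21) (nat_lit 5) Cfsg.Agent.H4.PlS.ic = true := by decide +kernel

theorem rel_ok : eqAll L (nat_lit 21) (nat_lit 5) (Cfsg.Agent.H4.PlS.rels.map fun w => (w, [])) = true := by decide +kernel

def sg : List (List ℕ) := [[4, 1, 3, 2, 3, 2, 1, 3, 1, 3, 1, 1, 4, 1, 1, 3, 1, 2, 2, 3, 3, 2, 2],
  [2, 4, 1, 3, 3, 2, 2, 4, 1, 3, 2, 1, 1, 3, 4, 1, 3, 1, 1],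
  [16, 17, 17, 16, 16, 17, 16, 17, 17, 16, 16, 17, 16],
  [16, 17, 17, 16, 17, 16, 17, 17, 16, 17, 17, 17, 17, 16, 16, 17, 16],
  [16, 16, 17, 17, 17, 17, 17, 17, 17, 17, 16, 17, 17, 16, 17, 17, 17, 16, 17, 16, 17, 16, 16],
  [19, 20, 19, 18, 18, 19, 20, 20, 20, 18, 20, 19, 20]]

theorem sg_ok : sgB L (nat_lit 21) (nat_lit 5) sg 16 = true := by decide +kernel

def levs : List Lev := [⟨[1, 2, 3, 4], 3, 0, 21⟩,
  ⟨[16, 17], 4, 1, 20⟩,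
  ⟨[18, 19, 20], 2, 2, 16⟩,
  ⟨[21], 2, 3, 3⟩]

theorem chain : chainB L (nat_lit 21) (nat_lit 5) levs [] = true := by decide +kernel

theorem prodM_levs : prodM levs = 20160 := by decide +kernel

theorem trans : reachIv L [1, 2, 3, 4] 3 (nat_lit 0) (nat_lit 0) (nat_lit 21) = true := by decide +kernel

theorem hfix : fixP L [3, 4] [nat_lit 0] = true := by decide +kernel

def ods : List (ℕ × ℕ × ℕ) := [(5, 2, 16), (5, 2, 11), (5, 2, 6), (5, 2, 1)]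

theorem orbs : orbB L (nat_lit 21) [3, 4] ods = true := by decide +kernel

def pws : List (ℕ × List ℕ) := [(1, [1, 1]),
  (3, [1, 3])]

theorem pw_ok : pwB L (nat_lit 21) (nat_lit 5) Cfsg.Agent.H4.PlS.ic 7 pws = true := by decide +kernel


end Cfsg.Agent.H4.PlP
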