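import Mathlib
import Cfsg.Prelude.Def_Involutions
import Cfsg.Agent.H4_Inv
import Cfsg.Agent.H4_Util
import Cfsg.Agent.H4_SE

set_option autoImplicit false

/-!
Normalizers of `p`-subgroups controlling conjugation into a subgroup.
-/

namespace Cfsg.Agent.H4.SE2

open Cfsg.Agent.H4.Inv Cfsg.Agent.H4.Util

variable {G : Type*} [Group G]

theorem conj_map_map (X : Subgroup G) (a b : G) :
    (X.map (MulAut.conj b).toMonoidHom).map (MulAut.conj a).toMonoidHom =
      X.map (MulAut.conj (a * b)).toMonoidHom := by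
  rw [Subgroup.map_map]
  congr 1
  ext x
  simp [mul_assoc]

theorem conj_map_one (X : Subgroup G) : X.map (MulAut.conj (1 : G)).toMonoidHom = X := by
  have : (MulAut.conj (1 : G)).toMonoidHom = MonoidHom.id G := by ext; simp
  rw [this, Subgroup.map_id]

theorem conj_map_of_mem {H : Subgroup G} {h : G} (hh : h ∈ H) :
    H.map (MulAut.conj h).toMonoidHom = H := by
  ext x
  rw [mem_conj_map]
  constructor
  · intro hx
    have := H.mul_mem (H.mul_mem hh hx) (H.inv_mem hh)
    have e : h * (h⁻¹ * x * h) * h⁻¹ = x := by group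
    rwa [e] at this
  · intro hx
    exact H.mul_mem (H.mul_mem (H.inv_mem hh) hx) hh

theorem normalizer_conj_le {X H : Subgroup G} {a : G}
    (h : Subgroup.normalizer ((X.map (MulAut.conj a).toMonoidHom : Subgroup G) : Set G) ≤
      H.map (MulAut.conj a).toMonoidHom) : Subgroup.normalizer (X : Set G) ≤ H := by
  intro n hn
  have h1 : a * n * a⁻¹ ∈ Subgroup.normalizer ((X.map (MulAut.conj a).toMonoidHom : Subgroup G) : Set G) := by
    rw [Subgroup.mem_normalizer_iff]
    intro y
    rw [mem_conj_map, mem_conj_map]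
    have e : a⁻¹ * (a * n * a⁻¹ * y * (a * n * a⁻¹)⁻¹) * a = n * (a⁻¹ * y * a) * n⁻¹ := by group
    rw [e]
    exact Subgroup.mem_normalizer_iff.mp hn _
  have h2 := h h1
  rw [mem_conj_map] at h2
  have e : a⁻¹ * (a * n * a⁻¹) * a = n := by group
  rwa [e] at h2

theorem normalizer_le_of_good [Finite G] {p : ℕ} [Fact p.Prime] (good : Subgroup G → Prop)
    (hgc : ∀ (X : Subgroup G) (g : G), good X → good (X.map (MulAut.conj g).toMonoidHom))
    (H : Subgroup G) (P : Sylow p H)
    (hN : ∀ X : Subgroup G, X ≤ (P : Subgroup H).map H.subtype → good X →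
      Subgroup.normalizer (X : Set G) ≤ H)
    (X : Subgroup G) (hX : IsPGroup p X) (hXH : X ≤ H) (hgX : good X) :
    Subgroup.normalizer (X : Set G) ≤ H := by
  have h1 : IsPGroup p (X.subgroupOf H) := hX.of_equiv (Subgroup.subgroupOfEquivOfLe hXH).symm
  obtain ⟨a, ha⟩ := exists_conj_le P (X.subgroupOf H) h1
  have h2 : X.map (MulAut.conj (a : G)).toMonoidHom ≤ (P : Subgroup H).map H.subtype := by
    rintro _ ⟨x, hx, rfl⟩
    refine ⟨a * ⟨x, hXH hx⟩ * a⁻¹, ha _ (Subgroup.mem_subgroupOf.mpr hx), ?_⟩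
    simp
  apply normalizer_conj_le (a := (a : G))
  rw [conj_map_of_mem a.2]
  exact hN _ h2 (hgc X a hgX)

theorem mem_of_good [Finite G] {p : ℕ} [Fact p.Prime] (good : Subgroup G → Prop)
    (hgm : ∀ X Y : Subgroup G, X ≤ Y → good X → good Y)
    (hgc : ∀ (X : Subgroup G) (g : G), good X → good (X.map (MulAut.conj g).toMonoidHom))
    (H : Subgroup G) (P : Sylow p H)
    (hN : ∀ X : Subgroup G, X ≤ (P : Subgroup H).map H.subtype → good X →
      Subgroup.normalizer (X : Set G) ≤ H) (g : G) :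
    ∀ (n : ℕ) (R : Subgroup G), Nat.card G - Nat.card R = n → IsPGroup p R → good R → R ≤ H →
      R ≤ H.map (MulAut.conj g).toMonoidHom → g ∈ H := by
  intro n
  induction n using Nat.strong_induction_on with
  | _ n ih =>
  intro R hn hR hgR hRH hRHg
  have hN' := normalizer_le_of_good good hgc H P hN
  obtain ⟨S, hS⟩ := hR.exists_le_sylow
  by_cases hRS : R = S
  · -- R is Sylow
    have hSH : (S : Subgroup G) ≤ H := hRS ▸ hRH
    have hRg : R.map (MulAut.conj g⁻¹).toMonoidHom ≤ H := by
      rintro _ ⟨x, hx, rfl⟩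
      have := hRHg hx
      rw [mem_conj_map] at this
      simpa using this
    let S1 : Sylow p H := S.subtype hSH
    have hRg2 : IsPGroup p ((R.map (MulAut.conj g⁻¹).toMonoidHom).subgroupOf H) :=
      (hR.map _).of_equiv (Subgroup.subgroupOfEquivOfLe hRg).symm
    obtain ⟨a, ha⟩ := exists_conj_le S1 _ hRg2
    -- a g⁻¹ normalizes R
    have h3 : ((a : G) * g⁻¹) ∈ Subgroup.normalizer (R : Set G) := by
      apply mem_normalizer_of_forall
      intro y hy
      have hmem : (⟨g⁻¹ * y * g, hRg ⟨y, hy, by simp⟩⟩ : H) ∈ (R.map (MulAut.conj g⁻¹).toMonoidHom).subgroupOf H := by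
        rw [Subgroup.mem_subgroupOf, mem_conj_map]
        simp only
        have e : g⁻¹⁻¹ * (g⁻¹ * y * g) * g⁻¹ = y := by group
        rw [e]; exact hy
      have h4 := ha _ hmem
      have h5 : ((a * ⟨g⁻¹ * y * g, hRg ⟨y, hy, by simp⟩⟩ * a⁻¹ : H) : G) ∈ (S : Subgroup G) := h4
      rw [hRS]
      have e : (a : G) * g⁻¹ * y * ((a : G) * g⁻¹)⁻¹ = ((a * ⟨g⁻¹ * y * g, hRg ⟨y, hy, by simp⟩⟩ * a⁻¹ : H) : G) := by
        simp only [Subgroup.coe_mul, Subgroup.coe_inv]; group
      rw [e]; exact h5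
    have h4 := hN' R hR hRH hgR h3
    have h5 := H.mul_mem (H.inv_mem a.2) h4
    rw [inv_mul_cancel_left] at h5
    exact (Subgroup.inv_mem_iff _).mp h5
  · have hlt : R < S := lt_of_le_of_ne hS hRS
    obtain ⟨t, htS, htR, htN⟩ := exists_normalizer_gt (p := p) S.isPGroup' hlt
    set R' := R ⊔ Subgroup.zpowers t with hR'
    have hR'S : R' ≤ S := sup_le hS (by rw [Subgroup.zpowers_le]; exact htS)
    have hR'N : R' ≤ Subgroup.normalizer (R : Set G) :=
      sup_le Subgroup.le_normalizer (by rw [Subgroup.zpowers_le]; exact htN)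
    have hRR' : R ≤ R' := le_sup_left
    have hlt2 : Nat.card R < Nat.card R' := by
      refine lt_of_le_of_ne (Nat.le_of_dvd Nat.card_pos (Subgroup.card_dvd_of_le hRR')) ?_
      intro h
      have := Subgroup.eq_of_le_of_card_ge hRR' h.ge
      apply htR
      rw [this]
      exact Subgroup.mem_sup_right (Subgroup.mem_zpowers t)
    have hle : Nat.card R' ≤ Nat.card G := Subgroup.card_le_card_group R'
    apply ih (Nat.card G - Nat.card R') (by omega) R' rfl (S.isPGroup'.to_le hR'S) (hgm R R' hRR' hgR)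
    · exact hR'N.trans (hN' R hR hRH hgR)
    · refine hR'N.trans ?_
      have hRg : R.map (MulAut.conj g⁻¹).toMonoidHom ≤ H := by
        rintro _ ⟨x, hx, rfl⟩
        have := hRHg hx
        rw [mem_conj_map] at this
        simpa using this
      have h6 := hN' _ (hR.map _) hRg (hgc R g⁻¹ hgR)
      apply normalizer_conj_le (a := g⁻¹)
      rw [conj_map_map, inv_mul_cancel, conj_map_one]
      exact h6

end Cfsg.Agent.H4.SE2
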