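import Cfsg.Agent.H8_Cox
import Cfsg.Prelude.Def_KGroupFacts

/-!
Generic lemmas on stem extensions.
-/

set_option autoImplicit false

namespace Cfsg.Agent.H4.Stem

open Cfsg.Agent.H8 Cfsg.Agent.H8.CE

theorem braid_of_pow3 {G : Type*} [Group G] {a b : G} (ha : a * a = 1) (hb : b * b = 1) (h : (a * b) ^ 3 = 1) :
    a * b * a = b * a * b := by
  have h1 : (a * b * a) * (b * a * b) = 1 := by rw [← h, pow_succ, pow_succ, pow_one]; simp only [mul_assoc]
  have h2 : (b * a * b) * (b * a * b) = 1 := by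
    calc (b * a * b) * (b * a * b) = b * a * (b * b) * a * b := by group
      _ = b * (a * a) * b := by rw [hb]; group
      _ = 1 := by rw [ha, mul_one, hb]
  exact mul_right_cancel (h1.trans h2.symm)

theorem comm_of_pow2 {G : Type*} [Group G] {a b : G} (ha : a * a = 1) (hb : b * b = 1) (h : (a * b) ^ 2 = 1) :
    a * b = b * a := by
  have h1 : (a * b) * (a * b) = 1 := by rw [← h, pow_succ, pow_one]
  have h2 : (b * a) * (a * b) = 1 := by
    calc (b * a) * (a * b) = b * (a * a) * b := by group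
      _ = 1 := by rw [ha, mul_one, hb]
  exact mul_right_cancel (h1.trans h2.symm)

theorem ev_mul_cen {G : Type*} [Group G] {y y' : ℕ → G} {z : G} (hz : z ∈ Subgroup.center G) (l : List ℕ)
    (h : ∀ i ∈ l, y' i = y i * z) : ev y' l = ev y l * z ^ l.length := by
  induction l with
  | nil => simp
  | cons i l ih =>
    have c := Subgroup.mem_center_iff.1 hz
    rw [ev_cons, ev_cons, List.length_cons, h i (by simp), ih (fun j hj => h j (by simp [hj]))]
    calc y i * z * (ev y l * z ^ l.length) = y i * (z * ev y l) * z ^ l.length := by group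
      _ = y i * (ev y l * z) * z ^ l.length := by rw [c (ev y l)]
      _ = y i * ev y l * z ^ (l.length + 1) := by rw [pow_succ']; group

/-- a stem extension with a section is trivial -/
theorem stem_trivial {Γ G : Type*} [Group Γ] [Group G] {σ : Γ →* G} (h : Cfsg.IsStemExtension σ) {θ : G →* Γ}
    (hθ : σ.comp θ = MonoidHom.id G) : σ.ker = ⊥ := by
  obtain ⟨_, hz, hc⟩ := h
  have hst : ∀ g : G, σ (θ g) = g := fun g => DFunLike.congr_fun hθ g
  have h1 : commutator Γ ≤ θ.range := by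
    rw [commutator_eq_closure, Subgroup.closure_le]
    rintro _ ⟨a, b, rfl⟩
    have ha : a * (θ (σ a))⁻¹ ∈ σ.ker := by
      rw [MonoidHom.mem_ker, map_mul, map_inv, hst, mul_inv_cancel]
    have hb : b * (θ (σ b))⁻¹ ∈ σ.ker := by
      rw [MonoidHom.mem_ker, map_mul, map_inv, hst, mul_inv_cancel]
    have ca := Subgroup.mem_center_iff.1 (hz ha)
    have cb := Subgroup.mem_center_iff.1 (hz hb)
    refine ⟨σ a * σ b * (σ a)⁻¹ * (σ b)⁻¹, ?_⟩
    rw [map_mul, map_mul, map_mul, map_inv, map_inv]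
    generalize hza : a * (θ (σ a))⁻¹ = za at ca
    generalize hzb : b * (θ (σ b))⁻¹ = zb at cb
    have ea : a = za * θ (σ a) := by rw [← hza]; group
    have eb : b = zb * θ (σ b) := by rw [← hzb]; group
    generalize θ (σ a) = a' at ea
    generalize θ (σ b) = b' at eb
    subst ea eb
    rw [commutatorElement_def]
    have hcc : ∀ g, za * g = g * za := fun g => (ca g).symm
    have hcd : ∀ g, zb * g = g * zb := fun g => (cb g).symm
    calc a' * b' * a'⁻¹ * b'⁻¹ = (a' * b' * a'⁻¹ * b'⁻¹) * (za * (zb * (za⁻¹ * zb⁻¹))) := by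
          have : za * (zb * (za⁻¹ * zb⁻¹)) = 1 := by
            rw [← mul_assoc za zb, hcc zb]; group
          rw [this, mul_one]
      _ = za * a' * (zb * b') * (za * a')⁻¹ * (zb * b')⁻¹ := by
          have e1 : za * a' * (zb * b') * (za * a')⁻¹ * (zb * b')⁻¹ = za * (a' * zb) * b' * a'⁻¹ * za⁻¹ * b'⁻¹ * zb⁻¹ := by
            group
          rw [e1, ← hcd a']
          have e2 : za * (zb * a') * b' * a'⁻¹ * za⁻¹ * b'⁻¹ * zb⁻¹ = za * (zb * (a' * b' * a'⁻¹ * (za⁻¹ * b'⁻¹))) * zb⁻¹ := by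
            group
          have e3 : za⁻¹ * b'⁻¹ = b'⁻¹ * za⁻¹ := by
            rw [← mul_inv_rev, ← mul_inv_rev, hcc b']
          rw [e2, e3]
          have e4 : za * (zb * (a' * b' * a'⁻¹ * (b'⁻¹ * za⁻¹))) * zb⁻¹ = (za * (zb * (a' * b' * a'⁻¹ * b'⁻¹))) * za⁻¹ * zb⁻¹ := by
            group
          have e5 : za * ((a' * b' * a'⁻¹ * b'⁻¹) * zb) * za⁻¹ * zb⁻¹ =
              (za * (a' * b' * a'⁻¹ * b'⁻¹)) * (zb * za⁻¹ * zb⁻¹) := by group
          rw [e4, hcd (a' * b' * a'⁻¹ * b'⁻¹), e5, hcc (a' * b' * a'⁻¹ * b'⁻¹)]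
          group
  rw [eq_bot_iff]
  intro z hzk
  obtain ⟨g, rfl⟩ := h1 (hc hzk)
  have h2 : σ (θ g) = 1 := hzk
  rw [hst g] at h2
  rw [h2, map_one]
  exact Subgroup.one_mem _

end Cfsg.Agent.H4.Stem
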