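import Cfsg.Agent.H4_SzR

set_option autoImplicit false
set_option maxRecDepth 1000000

namespace Cfsg.Agent.H4.SzP

open Cfsg.Agent.H8 Cfsg.Agent.H8.CE Cfsg.Agent.H8.Net Cfsg.Agent.H8.Act

def n1 : Nt := (.st (nat_lit 64) (nat_lit 0x2000000000000000)
  (.st (nat_lit 32) (nat_lit 0x20000000000000005d51f43a)
  (.st (nat_lit 16) (nat_lit 0x200000003f11000034b4)
  (.st (nat_lit 8) (nat_lit 0x2000b100a5002f00b8)
  (.st (nat_lit 4) (nat_lit 0x2040b020606010102)
  (.st (nat_lit 2) (nat_lit 0x3212103013303302)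
  (.st (nat_lit 1) (nat_lit 0x15011114414114454)
  (.st (nat_lit 2) (nat_lit 0x2000022202)
  (.st (nat_lit 4) (nat_lit 0x20204000e0e08000a)
  (.st (nat_lit 8) (nat_lit 0x2000d400b8004a00a0)
  (.st (nat_lit 16) (nat_lit 0x2000000022b000003a16)
  (.st (nat_lit 32) (nat_lit 0x2000000000000000c3aa0bc4)
  (.st (nat_lit 64) (nat_lit 0x2000000000000000)
  .nil)))))))))))))

def n2 : Nt := (.st (nat_lit 64) (nat_lit 0x100000014004000)
  (.st (nat_lit 32) (nat_lit 0x100000000000000f865a9ed)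
  (.st (nat_lit 16) (nat_lit 0x150000006eef00003898)
  (.st (nat_lit 8) (nat_lit 0x1100080066009900cb)
  (.st (nat_lit 4) (nat_lit 0x40102050c0f04040c00)
  (.st (nat_lit 2) (nat_lit 0x1002032122203323201)
  (.st (nat_lit 1) (nat_lit 0x4454005114054111)
  (.st (nat_lit 2) (nat_lit 0x200000220002022)
  (.st (nat_lit 4) (nat_lit 0x808040c040a0000)
  (.st (nat_lit 8) (nat_lit 0x1000ac009a009000de)
  (.st (nat_lit 16) (nat_lit 0x150000006aa000001200)
  (.st (nat_lit 32) (nat_lit 0x100000000000000fa45a862)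
  (.st (nat_lit 64) (nat_lit 0x100000014004000)
  .nil)))))))))))))

def n3 : Nt := (.st (nat_lit 64) (nat_lit 0x100000014004000)
  (.st (nat_lit 32) (nat_lit 0x10000000000000005ba579d)
  (.st (nat_lit 16) (nat_lit 0x1500000012000000945f)
  (.st (nat_lit 8) (nat_lit 0x45006f0021004600ac)
  (.st (nat_lit 4) (nat_lit 0x1000a04000000060603)
  (.st (nat_lit 2) (nat_lit 0x13123211020102003)
  (.st (nat_lit 1) (nat_lit 0x511141114014445)
  (.st (nat_lit 2) (nat_lit 0x20222020220)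
  (.st (nat_lit 4) (nat_lit 0x40404000c080c0c08)
  (.st (nat_lit 8) (nat_lit 0x440066003400380008)
  (.st (nat_lit 16) (nat_lit 0x15000000389800009010)
  (.st (nat_lit 32) (nat_lit 0x100000000000000079a5612)
  (.st (nat_lit 64) (nat_lit 0x100000014004000)
  .nil)))))))))))))

def n4 : Nt := (.st (nat_lit 64) (nat_lit 0xc020500200000000)
  (.st (nat_lit 32) (nat_lit 0xc02050020000000021bb4580)
  (.st (nat_lit 16) (nat_lit 0xc0200000fd1b0000782c)
  (.st (nat_lit 8) (nat_lit 0xd0000400f200940078)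
  (.st (nat_lit 4) (nat_lit 0x30a08060604030f06)
  (.st (nat_lit 2) (nat_lit 0x102210001232031302)
  (.st (nat_lit 1) (nat_lit 0x410010510150105110)
  (.st (nat_lit 2) (nat_lit 0x20000200000220)
  (.st (nat_lit 4) (nat_lit 0xc080404080200)
  (.st (nat_lit 8) (nat_lit 0xd000c000cc002000ec)
  (.st (nat_lit 16) (nat_lit 0x80200000d19a00004fe2)
  (.st (nat_lit 32) (nat_lit 0xc0205002000000001870e940)
  (.st (nat_lit 64) (nat_lit 0xc020500200000000)
  .nil)))))))))))))

def n5 : Nt := (.st (nat_lit 64) (nat_lit 0xc020500200000000)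
  (.st (nat_lit 32) (nat_lit 0xc0205002000000001870e940)
  (.st (nat_lit 16) (nat_lit 0x802000002e6500004fe2)
  (.st (nat_lit 8) (nat_lit 0xd000cc009c00a400ec)
  (.st (nat_lit 4) (nat_lit 0xf05060e0804070d04)
  (.st (nat_lit 2) (nat_lit 0x30012122032301222)
  (.st (nat_lit 1) (nat_lit 0x111501400040114510)
  (.st (nat_lit 2) (nat_lit 0x20002200000000000)
  (.st (nat_lit 4) (nat_lit 0xc08040008040c0002)
  (.st (nat_lit 8) (nat_lit 0xd000f2007000a40078)
  (.st (nat_lit 16) (nat_lit 0xc020000002e40000782c)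
  (.st (nat_lit 32) (nat_lit 0xc02050020000000021bb4580)
  (.st (nat_lit 64) (nat_lit 0xc020500200000000)
  .nil)))))))))))))

def n16 : Nt := (.st (nat_lit 64) (nat_lit 0x2000000901000600)
  (.st (nat_lit 32) (nat_lit 0x2100020900000000f50d58be)
  (.st (nat_lit 16) (nat_lit 0x10000002000000017080000c7fa)
  (.st (nat_lit 8) (nat_lit 0x300000024005b00a400b3007c)
  (.st (nat_lit 4) (nat_lit 0x209030e000a0c0804)
  (.st (nat_lit 2) (nat_lit 0x11001101202011110)
  (.st (nat_lit 1) (nat_lit 0x1000000050514404010044154)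
  (.st (nat_lit 2) (nat_lit 0x20002000000202)
  (.st (nat_lit 4) (nat_lit 0x202060806080c0008)
  (.st (nat_lit 8) (nat_lit 0x200000024008600340022002a)
  (.st (nat_lit 16) (nat_lit 0x100000020000000abf80000470c)
  (.st (nat_lit 32) (nat_lit 0x2100020800000000f712885c)
  (.st (nat_lit 64) (nat_lit 0x2000000901000600)
  .nil)))))))))))))

def n17 : Nt := (.st (nat_lit 64) (nat_lit 0x140508000000010)
  (.st (nat_lit 32) (nat_lit 0x14050800000000079189a16)
  (.st (nat_lit 16) (nat_lit 0x140000083af0000bb10)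
  (.st (nat_lit 8) (nat_lit 0x910074005c000d0078)
  (.st (nat_lit 4) (nat_lit 0x5000c01060504060802)
  (.st (nat_lit 2) (nat_lit 0x21101222012003303030)
  (.st (nat_lit 1) (nat_lit 0x10001145044101114454)
  (.st (nat_lit 2) (nat_lit 0x20000220002000202000)
  (.st (nat_lit 4) (nat_lit 0x40004000c04080e000c)
  (.st (nat_lit 8) (nat_lit 0x80006000d2006800c8)
  (.st (nat_lit 16) (nat_lit 0x140000009a000001be8)
  (.st (nat_lit 32) (nat_lit 0x140508000000000c39d355e)
  (.st (nat_lit 64) (nat_lit 0x140508000000010)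
  .nil)))))))))))))

def n18 : Nt := (.st (nat_lit 64) (nat_lit 0x10000052202000)
  (.st (nat_lit 32) (nat_lit 0x10000000000000528fe642)
  (.st (nat_lit 16) (nat_lit 0x523000009ad200008e10)
  (.st (nat_lit 8) (nat_lit 0x42001b006800590010)
  (.st (nat_lit 4) (nat_lit 0x10d060c0a070b0d0e)
  (.st (nat_lit 2) (nat_lit 0x201010222320300210)
  (.st (nat_lit 1) (nat_lit 0x411001414140045104)
  (.st (nat_lit 2) (nat_lit 0x200002220220000002)
  (.st (nat_lit 4) (nat_lit 0x204080402000a0004)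
  (.st (nat_lit 8) (nat_lit 0x72003200a000800020)
  (.st (nat_lit 16) (nat_lit 0x52300000179e00002504)
  (.st (nat_lit 32) (nat_lit 0x10000000000000720c6c06)
  (.st (nat_lit 64) (nat_lit 0x10000052202000)
  .nil)))))))))))))

def L : List Nt := [.nil, n1, n2, n3, n4, n5, .nil, .nil, .nil, .nil, .nil, .nil, .nil, .nil, .nil, .nil, n16, n17, n18]

theorem sys : sysOk L (nat_lit 65) = true := by decide +kernel

theorem inv_ok : invOk L (nat_lit 65) (nat_lit 7) Cfsg.Agent.H4.SzS.ic = true := by decide +kernel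

theorem rel_ok : eqAll L (nat_lit 65) (nat_lit 7) (Cfsg.Agent.H4.SzS.rels.map fun w => (w, [])) = true := by decide +kernel

def sg : List (List ℕ) := [[1, 3, 2, 1, 1, 3, 3, 5, 1, 4, 1, 3, 1, 2, 1, 2],
  [5, 5, 3, 1, 5, 2, 2, 5, 3, 1, 5, 5, 3, 4, 1, 2],
  [16, 17, 17, 16, 16, 17, 17, 16, 17, 17, 17, 17, 17, 17, 17, 17, 17, 16, 17, 17]]

theorem sg_ok : sgB L (nat_lit 65) (nat_lit 7) sg 16 = true := by decide +kernel

def levs : List Lev := [⟨[1, 2, 3, 4, 5], 3, 0, 65⟩,
  ⟨[16, 17], 6, 1, 64⟩,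
  ⟨[18], 6, 2, 7⟩]

theorem chain : chainB L (nat_lit 65) (nat_lit 7) levs [] = true := by decide +kernel

theorem prodM_levs : prodM levs = 29120 := by decide +kernel

theorem trans : reachIv L [1, 2, 3, 4, 5] 3 (nat_lit 0) (nat_lit 0) (nat_lit 65) = true := by decide +kernel

theorem hfix : fixP L [1, 4, 5] [nat_lit 0] = true := by decide +kernel

def ods : List (ℕ × ℕ × ℕ) := [(56, 4, 9), (8, 2, 1)]

theorem orbs : orbB L (nat_lit 65) [1, 4, 5] ods = true := by decide +kernel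

def pws : List (ℕ × List ℕ) := [(1, [4, 4, 3]),
  (2, [3, 4, 1]),
  (4, [3, 1])]

theorem pw_ok : pwB L (nat_lit 65) (nat_lit 7) Cfsg.Agent.H4.SzS.ic 13 pws = true := by decide +kernel


end Cfsg.Agent.H4.SzP
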