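import Mathlib
import Cfsg.Agent.H4_B0Sec
import Cfsg.Agent.H4_Util
import Cfsg.Agent.H4_Transfer
import Cfsg.Agent.H5_SmallIso
import Cfsg.Agent.S0111
import Cfsg.Agent.S0112
import Cfsg.Agent.S0113

set_option autoImplicit false

/-! Simple groups with a Klein four Sylow subgroup centralized by the centralizer of an involution. -/

namespace Cfsg.Agent.H4.V4Fin

open Cfsg
open scoped ComplexConjugate

open Cfsg.Agent.H4.Inv Cfsg.Agent.H4.Iso Cfsg.Agent.H4.Util

universe u

/-- 2-elements of C lie in a normal subgroup of odd index -/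
theorem mem_of_odd_index {C : Type u} [Group C] [Finite C] (V : Subgroup C) [V.Normal] (hodd : ¬ 2 ∣ V.index)
    {y : C} {k : ℕ} (hy : orderOf y = 2 ^ k) : y ∈ V := by
  have h1 : y ^ V.index ∈ V := Subgroup.pow_index_mem V y
  have hcop : Nat.Coprime V.index (orderOf y) := by
    rw [hy]
    apply Nat.Coprime.pow_right
    rw [Nat.coprime_comm]
    exact (Nat.Prime.coprime_iff_not_dvd Nat.prime_two).mpr hodd
  obtain ⟨m, hm⟩ := exists_pow_eq_self_of_coprime hcop
  rw [← hm]
  exact V.pow_mem h1 m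

theorem no_index_two {G : Type u} [Group G] [Finite G] [hs : IsSimpleGroup G] (h : 2 < Nat.card G) (M : Subgroup G)
    (hM : M.index = 2) : False := by
  have hn : M.Normal := Subgroup.normal_of_index_eq_two hM
  rcases hs.eq_bot_or_eq_top_of_normal M hn with h1 | h1
  · rw [h1, Subgroup.index_bot] at hM; omega
  · rw [h1, Subgroup.index_top] at hM; omega

theorem sylow_eq {G : Type u} [Group G] [Finite G] [IsSimpleGroup G] (x : G) (hx : orderOf x = 2)
    (V : Subgroup G) (hle : V ≤ Subgroup.centralizer ({x} : Set G)) (hK : IsKleinFour ↥V)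
    (hodd : ¬ 2 ∣ V.relIndex (Subgroup.centralizer ({x} : Set G)))
    (hn : (V.subgroupOf (Subgroup.centralizer ({x} : Set G))).Normal) :
    x ∈ V ∧ ∃ S : Sylow 2 G, (S : Subgroup G) = V := by
  classical
  have hf : Fact (Nat.Prime 2) := ⟨Nat.prime_two⟩
  have hcard4 : Nat.card V = 4 := hK.card_four
  have hmem : ∀ y ∈ Subgroup.centralizer ({x} : Set G), ∀ k : ℕ, orderOf y = 2 ^ k → y ∈ V := by
    intro y hy k hk
    have h1 := mem_of_odd_index (V.subgroupOf (Subgroup.centralizer ({x} : Set G))) hodd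
      (y := ⟨y, hy⟩) (k := k) (by rw [← Subgroup.orderOf_coe]; exact hk)
    exact h1
  have hxV : x ∈ V := hmem x (by rw [Subgroup.mem_centralizer_singleton_iff]) 1 (by rw [hx, pow_one])
  refine ⟨hxV, ?_⟩
  have hVp : IsPGroup 2 V := IsPGroup.of_card (n := 2) (by rw [hcard4]; norm_num)
  obtain ⟨S, hS⟩ := hVp.exists_le_sylow
  refine ⟨S, ?_⟩
  by_contra hne
  have hlt : V < (S : Subgroup G) := lt_of_le_of_ne hS (fun h => hne h.symm)
  obtain ⟨n, hn'⟩ := (IsPGroup.iff_card (p := 2)).mp S.2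
  have hcS : ∀ s ∈ (S : Subgroup G), s * x = x * s → s ∈ V := by
    intro s hs hsx
    obtain ⟨k, hk⟩ := (IsPGroup.iff_orderOf.mp S.2) ⟨s, hs⟩
    rw [← Subgroup.orderOf_coe] at hk
    exact hmem s (by rw [Subgroup.mem_centralizer_singleton_iff]; exact hsx) k hk
  have hn3 : 3 ≤ n := by
    have h1 := Cfsg.Agent.H11.Cores.card_lt_card hlt
    rw [hcard4, hn'] at h1
    by_contra h
    have h2 : (2:ℕ) ^ n ≤ 2 ^ 2 := Nat.pow_le_pow_right (by norm_num) (by omega)
    omega
  have hA : Nat.card (V.subgroupOf (S : Subgroup G)) = 2 ^ 2 := by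
    rw [Nat.card_congr (Subgroup.subgroupOfEquivOfLe hS).toEquiv, hcard4]; norm_num
  have hVab : ∀ a ∈ V, ∀ b ∈ V, a * b = b * a := by
    intro a ha b hb
    have := mul_comm_of_exponent_two (G := V) hK.exponent_two ⟨a, ha⟩ ⟨b, hb⟩
    exact congrArg (fun x : V => (x : G)) this
  have hC : Subgroup.centralizer ((V.subgroupOf (S : Subgroup G) : Subgroup ↥(S : Subgroup G)) : Set ↥(S : Subgroup G)) =
      V.subgroupOf (S : Subgroup G) := by
    apply le_antisymm
    · intro s hs
      rw [Subgroup.mem_centralizer_iff] at hs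
      have h1 := hs ⟨x, hS hxV⟩ hxV
      exact hcS s s.2 (congrArg (fun x : (S : Subgroup G) => (x : G)) h1).symm
    · intro s hs
      rw [Subgroup.mem_centralizer_iff]
      intro t ht
      exact Subtype.ext (hVab t ht s hs)
  have hcl := Cfsg.Agent.S0112.result (p := 2) n hn' _ hA hC
  obtain ⟨C, hCc, hCi⟩ := Cfsg.Agent.S0113.result n hn3 hn' hcl
  have hCn : C.Normal := Subgroup.normal_of_index_eq_two hCi
  have hCcard : Nat.card C * 2 = 2 ^ n := by
    have := Subgroup.card_mul_index C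
    rwa [hCi, hn'] at this
  have hxC : (⟨x, hS hxV⟩ : (S : Subgroup G)) ∉ C := by
    intro hxC
    have hle : C ≤ V.subgroupOf (S : Subgroup G) := by
      intro c hc
      apply hcS c c.2
      letI : CommGroup C := IsCyclic.commGroup
      have := mul_comm (⟨c, hc⟩ : C) ⟨_, hxC⟩
      have h2 := congrArg (fun x : C => (((x : (S : Subgroup G))) : G)) this
      exact h2
    have heq : C = V.subgroupOf (S : Subgroup G) := by
      apply Cfsg.Agent.H11.Cores.eq_of_le_of_card_le hle
      rw [hA]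
      have : (2:ℕ) ^ 3 ≤ 2 ^ n := Nat.pow_le_pow_right (by norm_num) hn3
      omega
    have hcyc : IsCyclic V := by
      rw [heq] at hCc
      exact (MulEquiv.isCyclic (Subgroup.subgroupOfEquivOfLe hS)).mp hCc
    obtain ⟨g, hg⟩ := hcyc.exists_generator
    have h1 : orderOf g = 4 := by
      rw [← hcard4]; exact orderOf_eq_card_of_forall_mem_zpowers hg
    have h2 : g ^ 2 = 1 := by
      rw [← hK.exponent_two]; exact Monoid.pow_exponent_eq_one g
    have h3 := orderOf_dvd_of_pow_eq_one h2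
    rw [h1] at h3
    omega
  have hGc : 2 < Nat.card G := by
    have := Subgroup.card_le_card_group V
    omega
  have hQi : (C.map (S : Subgroup G).subtype).relIndex (S : Subgroup G) = 2 := by
    rw [Subgroup.relIndex, Subgroup.subgroupOf, Subgroup.comap_map_eq_self_of_injective (Subgroup.subtype_injective _), hCi]
  rcases Cfsg.Agent.S0111.result S (C.map (S : Subgroup G).subtype) (Subgroup.map_subtype_le C) hQi x hx (hS hxV) (by
    rintro ⟨c, hc, hcx⟩
    apply hxC
    have : (⟨x, hS hxV⟩ : (S : Subgroup G)) = c := Subtype.ext hcx.symm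
    rw [this]; exact hc) with ⟨M, -, hM, -⟩ | ⟨g, c, hc, hcg⟩
  · exact no_index_two hGc M hM
  · have hco : orderOf (c : G) = 2 := by
      have : (c : G) = g * x * g⁻¹ := hcg
      rw [this, orderOf_conj]; exact hx
    have hcen : ∀ s ∈ (S : Subgroup G), s * (g * x * g⁻¹) = (g * x * g⁻¹) * s := by
      intro s hs
      have h1 : (⟨s, hs⟩ : (S : Subgroup G)) * c * (⟨s, hs⟩ : (S : Subgroup G))⁻¹ ∈ C := hCn.conj_mem c hc _
      have h2 : (⟨_, h1⟩ : C) = ⟨c, hc⟩ := cyclic_unique_involution hCc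
        (by rw [← Subgroup.orderOf_coe, ← Subgroup.orderOf_coe]
            simp only [Subgroup.coe_mul, Subgroup.coe_inv]
            rw [orderOf_conj]; exact hco)
        (by rw [← Subgroup.orderOf_coe, ← Subgroup.orderOf_coe]; exact hco)
      have h3 := congrArg (fun x : C => (((x : (S : Subgroup G))) : G)) h2
      simp only [Subgroup.coe_mul, Subgroup.coe_inv] at h3
      have : (c : G) = g * x * g⁻¹ := hcg
      rw [this] at h3
      exact mul_inv_eq_iff_eq_mul.mp h3
    -- S conjugated by g⁻¹ lies in C(x)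
    have hle2 : (S : Subgroup G).map (MulAut.conj g⁻¹).toMonoidHom ≤ Subgroup.centralizer ({x} : Set G) := by
      rintro _ ⟨s, hs, rfl⟩
      rw [Subgroup.mem_centralizer_singleton_iff]
      simp only [MulEquiv.toMonoidHom_eq_coe, MonoidHom.coe_coe, MulAut.conj_apply, inv_inv]
      have := hcen s hs
      calc g⁻¹ * s * g * x = g⁻¹ * (s * (g * x * g⁻¹)) * g := by group
        _ = _ := by rw [this]; group
    have hle3 : (S : Subgroup G).map (MulAut.conj g⁻¹).toMonoidHom ≤ V := by
      intro y hy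
      obtain ⟨s, hs, hsy⟩ := hy
      obtain ⟨k, hk⟩ := (IsPGroup.iff_orderOf.mp S.2) ⟨s, hs⟩
      rw [← Subgroup.orderOf_coe] at hk
      refine hmem y (hle2 ⟨s, hs, hsy⟩) k ?_
      rw [← hsy]
      simp only [MulEquiv.toMonoidHom_eq_coe, MonoidHom.coe_coe, MulAut.conj_apply]
      rw [orderOf_conj]; exact hk
    have h4 := Cfsg.Agent.H11.Cores.card_le_card hle3
    rw [Subgroup.card_map_of_injective (MulAut.conj g⁻¹).injective] at h4
    have h5 := Cfsg.Agent.H11.Cores.card_lt_card hlt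
    omega

open Classical in
theorem fiber_card {G : Type u} [Group G] [Fintype G] (x i : G) :
    (Finset.univ.filter (fun q : G => q * x * q⁻¹ = i)).card =
      if IsConj x i then Nat.card (Subgroup.centralizer ({x} : Set G)) else 0 := by
  split_ifs with h
  · obtain ⟨c, hc⟩ := isConj_iff.mp h
    rw [← Fintype.card_coe, ← Nat.card_eq_fintype_card]
    symm
    apply Nat.card_congr
    refine ⟨fun a => ⟨c * a, ?_⟩, fun b => ⟨c⁻¹ * b, ?_⟩, ?_, ?_⟩
    · rw [Finset.mem_filter]
      have := Subgroup.mem_centralizer_singleton_iff.mp a.2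
      refine ⟨Finset.mem_univ _, ?_⟩
      rw [← hc]
      calc c * a * x * (c * a)⁻¹ = c * (a * x) * (a : G)⁻¹ * c⁻¹ := by group
        _ = _ := by rw [this]; group
    · have := (Finset.mem_filter.mp b.2).2
      rw [Subgroup.mem_centralizer_singleton_iff]
      have h2 : (b : G) * x * (b : G)⁻¹ = c * x * c⁻¹ := by rw [this, hc]
      calc c⁻¹ * b * x = c⁻¹ * ((b : G) * x * (b : G)⁻¹) * b := by group
        _ = _ := by rw [h2]; group
    · intro a; exact Subtype.ext (by simp)
    · intro b; exact Subtype.ext (by simp)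
  · rw [Finset.card_eq_zero, Finset.filter_eq_empty_iff]
    intro q _ hq
    exact h (isConj_iff.mpr ⟨q, hq⟩)

open Classical in
theorem pair_card {G : Type u} [Group G] [Fintype G] (x g : G) :
    (Finset.univ.filter (fun q : G × G => q.1 * x * q.1⁻¹ * (q.2 * x * q.2⁻¹) = g)).card =
      Nat.card (Subgroup.centralizer ({x} : Set G)) * (Finset.univ.filter (fun q : G =>
        IsConj x ((q * x * q⁻¹)⁻¹ * g))).card := by
  have h1 : (Finset.univ.filter (fun q : G × G => q.1 * x * q.1⁻¹ * (q.2 * x * q.2⁻¹) = g)).card =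
      ∑ a : G, (Finset.univ.filter (fun q : G => q * x * q⁻¹ = (a * x * a⁻¹)⁻¹ * g)).card := by
    rw [Finset.card_filter, ← Finset.univ_product_univ, Finset.sum_product]
    refine Finset.sum_congr rfl fun a _ => ?_
    rw [Finset.card_filter]
    refine Finset.sum_congr rfl fun b _ => ?_
    congr 1
    apply propext
    constructor
    · intro h; rw [← h]; group
    · intro h
      simp only at h ⊢
      rw [h]; group
  rw [h1]
  simp only [fiber_card]
  rw [Finset.card_filter, Finset.mul_sum]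
  refine Finset.sum_congr rfl fun a _ => ?_
  split_ifs <;> simp

theorem numeric {n f2 f3 f4 : ℕ} {ε : ℤ} (hε : ε = 1 ∨ ε = -1) (h2 : (4 : ℤ) ∣ (f2 : ℤ) - 1)
    (h3 : (4 : ℤ) ∣ (f3 : ℤ) - ε) (h4 : (4 : ℤ) ∣ (f4 : ℤ) + 1) (h21 : f2 ≠ 1) (h31 : f3 ≠ 1)
    (p2 : 0 < f2) (p3 : 0 < f3) (p4 : 0 < f4) (hsum : 1 + (f2 : ℤ) + ε * f3 - f4 = 0)
    (hn : (8 : ℚ) / 3 = n * (1 + 1 / f2 + ε / f3 - 1 / f4)) : n ≤ 5 := by
  have q2 : (0 : ℚ) < f2 := by exact_mod_cast p2
  have q3 : (0 : ℚ) < f3 := by exact_mod_cast p3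
  have q4 : (0 : ℚ) < f4 := by exact_mod_cast p4
  by_contra hcon
  have hn6 : (6 : ℚ) ≤ n := by
    have : 6 ≤ n := by omega
    exact_mod_cast this
  have key : ∀ s : ℚ, (4 : ℚ) / 9 < s → (8 : ℚ) / 3 ≠ n * s := by
    intro s hs h
    have : (6 : ℚ) * s ≤ n * s := mul_le_mul_of_nonneg_right hn6 (by linarith)
    linarith
  rcases hε with rfl | rfl
  · refine key _ ?_ hn
    have : (1 : ℚ) / f4 ≤ 1 / 3 := by
      apply one_div_le_one_div_of_le (by norm_num)
      have : 3 ≤ f4 := by omega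
      exact_mod_cast this
    have h5 : (0 : ℚ) < 1 / f2 := by positivity
    have h6 : (0 : ℚ) < 1 / f3 := by positivity
    push_cast
    linarith
  · refine key _ ?_ hn
    have e3 : 3 ≤ f3 := by omega
    have e4 : 3 ≤ f4 := by omega
    have h5 : (0 : ℚ) < 1 / f2 := by positivity
    by_cases hc : f3 = 3 ∧ f4 = 3
    · obtain ⟨rfl, rfl⟩ := hc
      have : f2 = 5 := by omega
      subst this
      norm_num
    · have h7 : 7 ≤ f3 ∨ 7 ≤ f4 := by omega
      rcases h7 with h7 | h7
      · have a1 : (1 : ℚ) / f3 ≤ 1 / 7 := by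
          apply one_div_le_one_div_of_le (by norm_num); exact_mod_cast h7
        have a2 : (1 : ℚ) / f4 ≤ 1 / 3 := by
          apply one_div_le_one_div_of_le (by norm_num); exact_mod_cast e4
        push_cast
        rw [neg_div]
        linarith
      · have a1 : (1 : ℚ) / f3 ≤ 1 / 3 := by
          apply one_div_le_one_div_of_le (by norm_num); exact_mod_cast e3
        have a2 : (1 : ℚ) / f4 ≤ 1 / 7 := by
          apply one_div_le_one_div_of_le (by norm_num); exact_mod_cast h7
        push_cast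
        rw [neg_div]
        linarith

theorem finish {G : Type u} [Group G] [Fintype G] [hs : IsSimpleGroup G] (S : Sylow 2 G)
    (hK : IsKleinFour (S : Subgroup G)) {x : G} (hxS : x ∈ (S : Subgroup G)) (hx : orderOf x = 2)
    (hcen : ∀ c : G, c * x = x * c → ∀ s ∈ (S : Subgroup G), c * s = s * c) :
    Nonempty (G ≃* ↥(alternatingGroup (Fin 5))) := by
  classical
  have hf : Fact (Nat.Prime 2) := ⟨Nat.prime_two⟩
  haveI : Fintype (IrrCharacter G) := Fintype.ofFinite _
  have hR := Cfsg.Agent.H10.BlockV4.R2.of_klein hK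
  have hx1 : x ≠ 1 := ne_one hx
  have hS4 : Nat.card (S : Subgroup G) = 4 := hK.card_four
  have hGc : 2 < Nat.card G := by
    have := Subgroup.card_le_card_group (S : Subgroup G)
    omega
  have hSab : IsMulCommutative (S : Subgroup G) := by
    constructor; constructor
    intro a b; exact Subtype.ext (hR.hab a a.2 b b.2)
  obtain ⟨n₀, hn₀, hn₀x⟩ : ∃ n ∈ Subgroup.normalizer ((S : Subgroup G) : Set G), n * x ≠ x * n := by
    by_contra hcon
    push Not at hcon
    obtain ⟨M, hM⟩ := Cfsg.Agent.H4.Transfer.exists_index_two_of_central S hSab x hxS hx1 hcon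
    exact no_index_two hGc M hM
  have hrel : (Subgroup.centralizer ((S : Subgroup G) : Set G)).relIndex
      (Subgroup.normalizer ((S : Subgroup G) : Set G)) = 3 := by
    rcases Cfsg.Agent.H10.Homo.relIndex_eq S hR with h | h
    · exfalso
      rw [Subgroup.relIndex_eq_one] at h
      exact hn₀x ((Subgroup.mem_centralizer_iff.mp (h hn₀)) x hxS).symm
    · exact h
  obtain ⟨b, hb, hb2, hxb, hall⟩ := hR.basis hxS hx
  have horb := Cfsg.Agent.H10.Homo.relIndex_orbit S hR hxS hx1
  have hsub := Cfsg.Agent.H10.Homo.orbit_subset S hR hxS hx hall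
  rw [hrel] at horb
  have heq := Set.eq_of_subset_of_ncard_le hsub
    ((Cfsg.Agent.H10.Homo.ncard_three_le x b (x * b)).trans horb.le) (Set.toFinite _)
  have hconjS : ∀ y ∈ (S : Subgroup G), orderOf y = 2 → IsConj x y := by
    intro y hy hy2
    have h1 : y ∈ ({x, b, x * b} : Set G) := by
      rcases hall y hy hy2 with h | h | h
      · rw [h]; simp
      · rw [h]; simp
      · rw [h]; simp
    rw [← heq] at h1
    obtain ⟨g, hg⟩ := h1
    exact isConj_iff.mpr ⟨g, hg⟩
  have hone1 : ∀ s : G, orderOf s = 2 → IsConj x s := by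
    intro s hs2
    obtain ⟨g, hg⟩ := Cfsg.Agent.H10.Homo.conj_into_sylow S (s := s) ⟨1, by rw [hs2, pow_one]⟩
    have h1 := hconjS _ hg (by rw [orderOf_conj]; exact hs2)
    exact h1.trans (isConj_iff.mpr ⟨g⁻¹, by group⟩)
  have hone : ∀ s t : G, orderOf s = 2 → orderOf t = 2 → IsConj s t := fun s t h1 h2 =>
    (hone1 s h1).symm.trans (hone1 t h2)
  obtain ⟨K, hKn, hK2, hKi⟩ := Cfsg.Agent.H10.Homo.centralizer_complement S hR hxS hx1
  have hKi4 : K.index = 4 := hKi.trans hS4
  haveI : Fintype K := Fintype.ofFinite _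
  obtain ⟨M, hM⟩ := Cfsg.Agent.H10.BlockKn.exists_modular Nat.prime_two
  haveI := hM.2.1
  obtain ⟨c, hc⟩ : ∃ c, c = Nat.card (Subgroup.centralizer ({x} : Set G)) := ⟨_, rfl⟩
  have hcK : Nat.card K * 4 = c := by rw [hc, ← hKi4]; exact Subgroup.card_mul_index K
  -- the counting
  have hxx : x * x = 1 := mul_self hx
  have hclaim : ∀ (k : K) (q : G), IsConj x ((q * x * q⁻¹)⁻¹ *
      (((k : Subgroup.centralizer ({x} : Set G)) : G) * x)) → k = 1 ∧ q * x * q⁻¹ ∈ (S : Subgroup G) ∧
      q * x * q⁻¹ ≠ x := by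
    intro k q hq
    obtain ⟨i, hi⟩ : ∃ i, i = q * x * q⁻¹ := ⟨_, rfl⟩
    rw [← hi] at hq ⊢
    have hi2 : orderOf i = 2 := by rw [hi, orderOf_conj]; exact hx
    obtain ⟨w, hw⟩ : ∃ w : G, w = ((k : Subgroup.centralizer ({x} : Set G)) : G) := ⟨_, rfl⟩
    rw [← hw] at hq
    have hj2 : orderOf (i⁻¹ * (w * x)) = 2 := by
      obtain ⟨g, hg⟩ := isConj_iff.mp hq
      rw [← hg, orderOf_conj]; exact hx
    have hwx : w * x = x * w := by
      rw [hw]; exact Subgroup.mem_centralizer_singleton_iff.mp (k : Subgroup.centralizer ({x} : Set G)).2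
    have hinv : i * (w * x) * i⁻¹ = (w * x)⁻¹ := by
      have h1 : i⁻¹ * (w * x) * (i⁻¹ * (w * x)) = 1 := mul_self hj2
      have h2 := inv_eq hi2
      have h3 : i⁻¹ * (w * x) * i⁻¹ = (w * x)⁻¹ := by
        rw [← mul_assoc] at h1
        exact eq_inv_of_mul_eq_one_left h1
      rwa [h2] at h3 ⊢
    have hwodd : Odd (orderOf w) := by
      have h1 : orderOf (k : Subgroup.centralizer ({x} : Set G)) ∣ Nat.card K := by
        rw [Subgroup.orderOf_coe]; exact orderOf_dvd_natCard k
      rw [hw, Subgroup.orderOf_coe]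
      by_contra h
      rw [Nat.not_odd_iff_even] at h
      exact hK2 (h.two_dvd.trans h1)
    obtain ⟨m, hm⟩ := hwodd
    have hpow : (w * x) ^ (orderOf w) = x := by
      have h1 : Commute w x := hwx
      rw [h1.mul_pow, pow_orderOf_eq_one, one_mul, hm, pow_succ, pow_mul, pow_two, hxx, one_pow, one_mul]
    have hix : i * x * i⁻¹ = x := by
      have h1 : (i * (w * x) * i⁻¹) ^ (orderOf w) = ((w * x)⁻¹) ^ (orderOf w) := by rw [hinv]
      rw [conj_pow, inv_pow, hpow, inv_eq hx] at h1
      exact h1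
    have hic : i * x = x * i := mul_inv_eq_iff_eq_mul.mp hix
    have hiS : i ∈ (S : Subgroup G) := by
      apply Cfsg.Agent.H10.Homo.mem_of_normalizes S _ ⟨1, by rw [hi2, pow_one]⟩
      apply Subgroup.centralizer_le_normalizer
      rw [Subgroup.mem_centralizer_iff]
      intro s hs'
      exact (hcen i hic s hs').symm
    have hwi : w * i = i * w := hcen w hwx i hiS
    have hsq : (w * x) * (w * x) = 1 := by
      have h1 : i * (w * x) * i⁻¹ = w * x := by
        calc i * (w * x) * i⁻¹ = (i * w) * x * i⁻¹ := by group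
          _ = w * (i * x) * i⁻¹ := by rw [← hwi]; group
          _ = w * x := by rw [hic]; group
      rw [hinv] at h1
      nth_rewrite 1 [← h1]
      group
    have hw1 : w = 1 := by
      have h1 : w * w = 1 := by
        calc w * w = w * (x * x) * w := by rw [hxx]; group
          _ = (w * x) * (x * w) := by group
          _ = (w * x) * (w * x) := by rw [hwx]
          _ = 1 := hsq
      have h2 : orderOf w ∣ 2 := orderOf_dvd_of_pow_eq_one (by rw [pow_two]; exact h1)
      rw [hm] at h2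
      have h3 : orderOf w = 1 := by
        rw [hm]
        have := Nat.le_of_dvd (by norm_num) h2
        omega
      exact orderOf_eq_one_iff.mp h3
    refine ⟨?_, hiS, ?_⟩
    · apply Subtype.ext; apply Subtype.ext; rw [← hw]; exact hw1
    · intro hix'
      rw [hix', hw1, one_mul, inv_mul_cancel, orderOf_one] at hj2
      norm_num at hj2
  have hbx : IsConj x b := hconjS b hb hb2
  have hxb2 : orderOf (x * b) = 2 := Cfsg.Agent.H4.ZRank.two_mul hx hb2 hxb.symm (hR.hab x hxS b hb)
  have hxbx : IsConj x (x * b) := hconjS _ ((S : Subgroup G).mul_mem hxS hb) hxb2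
  have hcount1 : (Finset.univ.filter (fun q : G => IsConj x ((q * x * q⁻¹)⁻¹ *
      ((((1 : K) : Subgroup.centralizer ({x} : Set G)) : G) * x)))).card = 2 * c := by
    have h1 : (Finset.univ.filter (fun q : G => IsConj x ((q * x * q⁻¹)⁻¹ *
        ((((1 : K) : Subgroup.centralizer ({x} : Set G)) : G) * x)))) =
        (Finset.univ.filter (fun q : G => q * x * q⁻¹ = b)) ∪
        (Finset.univ.filter (fun q : G => q * x * q⁻¹ = x * b)) := by
      ext q
      simp only [Finset.mem_filter, Finset.mem_union, Finset.mem_univ, true_and]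
      constructor
      · intro h
        obtain ⟨-, h2, h3⟩ := hclaim 1 q h
        rcases hall _ h2 (by rw [orderOf_conj]; exact hx) with h4 | h4 | h4
        · exact absurd h4 h3
        · exact Or.inl h4
        · exact Or.inr h4
      · have hxb' := hR.hab x hxS b hb
        rintro (h | h)
        · rw [h, inv_eq hb2]
          simp only [OneMemClass.coe_one, one_mul]
          rw [← hxb']; exact hxbx
        · rw [h, inv_eq hxb2]
          simp only [OneMemClass.coe_one, one_mul]
          rw [hxb', mul_assoc, hxx, mul_one]; exact hbx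
    rw [h1, Finset.card_union_of_disjoint, fiber_card, fiber_card, if_pos hbx, if_pos hxbx, ← hc]
    · ring
    · rw [Finset.disjoint_filter]
      intro q _ h2 h3
      rw [h2] at h3
      exact hx1 (mul_eq_right.mp h3.symm)
  have hsum : (∑ k : K, ((Finset.univ.filter (fun q : G × G => q.1 * x * q.1⁻¹ * (q.2 * x * q.2⁻¹) =
      ((k : Subgroup.centralizer ({x} : Set G)) : G) * x)).card : ℂ)) = 2 * (c : ℂ) ^ 2 := by
    rw [Finset.sum_eq_single (1 : K)]
    · rw [pair_card, hcount1, ← hc]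
      push_cast
      ring
    · intro k _ hk
      rw [pair_card, Nat.cast_eq_zero, Nat.mul_eq_zero]
      right
      rw [Finset.card_eq_zero, Finset.filter_eq_empty_iff]
      intro q _ hq
      exact hk (hclaim k q hq).1
    · intro h; exact absurd (Finset.mem_univ _) h
  rw [Cfsg.Agent.H4.B0Sec.section_count hM ⟨1, by rw [hx, pow_one]⟩ hKn hK2 ⟨2, by rw [hKi4]; norm_num⟩] at hsum
  obtain ⟨ζ₂, ζ₃, ζ₄, ε, hε, n2, n3, n4, n23, n24, n34, hB, hval, d2, d3, d4, hreg⟩ :=
    Cfsg.Agent.H10.BlockV4.v4_structure hM S hK hone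
  obtain ⟨v2, v3, v4⟩ := hval x (by rw [hx])
  have e2 := Cfsg.Agent.H10.Char.charDegree_eq ζ₂.2
  have e3 := Cfsg.Agent.H10.Char.charDegree_eq ζ₃.2
  have e4 := Cfsg.Agent.H10.Char.charDegree_eq ζ₄.2
  obtain ⟨m2, p2, q2⟩ := Cfsg.Agent.H3.CharIrr.IsIrr.one_eq_nat ζ₂.2
  obtain ⟨m3, p3, q3⟩ := Cfsg.Agent.H3.CharIrr.IsIrr.one_eq_nat ζ₃.2
  obtain ⟨m4, p4, q4⟩ := Cfsg.Agent.H3.CharIrr.IsIrr.one_eq_nat ζ₄.2
  have f2 : charDegree (ζ₂ : G → ℂ) = m2 := by rw [q2] at e2; exact_mod_cast e2
  have f3 : charDegree (ζ₃ : G → ℂ) = m3 := by rw [q3] at e3; exact_mod_cast e3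
  have f4 : charDegree (ζ₄ : G → ℂ) = m4 := by rw [q4] at e4; exact_mod_cast e4
  rw [f2] at d2; rw [f3] at d3; rw [f4] at d4
  have hreg1 : 1 + (m2 : ℤ) + ε * m3 - m4 = 0 := by
    have := hreg 1 (by rw [orderOf_one]; norm_num)
    rw [q2, q3, q4] at this
    exact_mod_cast this
  have hBset : principalBlock M G = ((({Cfsg.Agent.H10.BlockKer.triv G, ζ₂, ζ₃, ζ₄} :
      Finset (IrrCharacter G))) : Set (IrrCharacter G)) := by
    ext χ; rw [hB χ]; simp
  have hεε : (ε : ℂ) * (ε : ℂ) * conj (ε : ℂ) = ε := by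
    rcases hε with rfl | rfl <;> simp
  rw [hBset, finsum_mem_coe_finset, Finset.sum_insert (by simp [n2.symm, n3.symm, n4.symm]),
    Finset.sum_insert (by simp [n23, n24]), Finset.sum_pair n34, v2, v3, v4, q2, q3, q4, hεε] at hsum
  simp only [Cfsg.Agent.H10.BlockKer.triv_coe, map_one, map_neg] at hsum
  -- group orders
  have hCS : Subgroup.centralizer ({x} : Set G) = Subgroup.centralizer ((S : Subgroup G) : Set G) := by
    apply le_antisymm
    · intro g hg
      rw [Subgroup.mem_centralizer_singleton_iff] at hg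
      rw [Subgroup.mem_centralizer_iff]
      intro s hs'
      exact (hcen g hg s hs').symm
    · intro g hg
      rw [Subgroup.mem_centralizer_iff] at hg
      rw [Subgroup.mem_centralizer_singleton_iff]
      exact (hg x hxS).symm
  obtain ⟨n, hn⟩ : ∃ n, n = (Subgroup.normalizer ((S : Subgroup G) : Set G)).index := ⟨_, rfl⟩
  have hN3 : Nat.card (Subgroup.normalizer ((S : Subgroup G) : Set G)) = 3 * c := by
    have h1 := Subgroup.card_mul_index ((Subgroup.centralizer ((S : Subgroup G) : Set G)).subgroupOf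
      (Subgroup.normalizer ((S : Subgroup G) : Set G)))
    have h2 : ((Subgroup.centralizer ((S : Subgroup G) : Set G)).subgroupOf
      (Subgroup.normalizer ((S : Subgroup G) : Set G))).index = 3 := hrel
    rw [h2, Nat.card_congr (Subgroup.subgroupOfEquivOfLe (Subgroup.centralizer_le_normalizer _)).toEquiv,
      ← hCS, ← hc] at h1
    omega
  have hGn : Nat.card G = n * (3 * c) := by
    rw [← hN3, hn, mul_comm]; exact (Subgroup.card_mul_index _).symm
  have hkpos : 0 < Nat.card K := Nat.card_pos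
  have hq : (8 : ℚ) / 3 = n * (1 + 1 / m2 + ε / m3 - 1 / m4) := by
    have h1 : ((Nat.card G : ℚ) * (Nat.card K : ℚ) * (1 + (1 / m2 + (ε / m3 + -1 / m4)))) = 2 * (c : ℚ) ^ 2 := by
      have h2 : (((Nat.card G : ℚ) * (Nat.card K : ℚ) * (1 + (1 / m2 + (ε / m3 + -1 / m4))) : ℚ) : ℂ) =
          ((2 * (c : ℚ) ^ 2 : ℚ) : ℂ) := by
        push_cast
        rw [← hsum]
        ring
      exact_mod_cast h2
    have hkq : (Nat.card K : ℚ) ≠ 0 := by exact_mod_cast hkpos.ne'
    rw [hGn, ← hcK] at h1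
    push_cast at h1
    have h3 : (Nat.card K : ℚ) ^ 2 * (n * (1 + 1 / m2 + ε / m3 - 1 / m4)) = (Nat.card K : ℚ) ^ 2 * (8 / 3) := by
      linear_combination h1 / 12
    exact (mul_left_cancel₀ (pow_ne_zero 2 hkq) h3).symm
  have hGna : ∃ a b : G, a * b ≠ b * a := ⟨n₀, x, hn₀x⟩
  have hlin : ∀ χ : IrrCharacter G, χ ≠ Cfsg.Agent.H10.BlockKer.triv G → (χ : G → ℂ) 1 ≠ 1 := by
    intro χ hχ h1
    obtain ⟨f, hf⟩ := Cfsg.Agent.H3.CharInd.IsChar.hom_of_one (Cfsg.Agent.H3.CharIrr.IsIrr.isCharacter χ.2) h1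
    have h2 : (χ : G → ℂ) (n₀ * x * n₀⁻¹ * x⁻¹) = (χ : G → ℂ) 1 := by
      rw [hf, hf, map_mul, map_mul, map_mul, map_one]
      have h3 : f n₀ * f n₀⁻¹ = 1 := by rw [← map_mul, mul_inv_cancel, map_one]
      have h4 : f x * f x⁻¹ = 1 := by rw [← map_mul, mul_inv_cancel, map_one]
      calc f n₀ * f x * f n₀⁻¹ * f x⁻¹ = (f n₀ * f n₀⁻¹) * (f x * f x⁻¹) := by ring
        _ = 1 := by rw [h3, h4, one_mul]
    have h5 := Cfsg.Agent.H4.B0Ker.eq_one_of_simple hs hχ h2
    apply hn₀x
    have h6 : n₀ * x * n₀⁻¹ = x := by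
      have := mul_eq_one_iff_eq_inv.mp h5
      rwa [inv_inv] at this
    exact mul_inv_eq_iff_eq_mul.mp h6
  have hn5 : n ≤ 5 := by
    refine numeric hε d2 d3 d4 ?_ ?_ p2 p3 p4 hreg1 hq
    · rintro rfl; exact hlin ζ₂ n2 (by rw [q2]; simp)
    · rintro rfl; exact hlin ζ₃ n3 (by rw [q3]; simp)
  have hSn : Nat.card (Sylow 2 G) = n := by rw [hn]; exact S.card_eq_index_normalizer
  have hnodd : ¬ 2 ∣ n := by rw [← hSn]; exact not_dvd_card_sylow 2 G
  have hntop : Subgroup.normalizer ((S : Subgroup G) : Set G) ≠ ⊤ := by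
    intro h
    have hSn : (S : Subgroup G).Normal := Subgroup.normalizer_eq_top_iff.mp h
    rcases hs.eq_bot_or_eq_top_of_normal (S : Subgroup G) hSn with h1 | h1
    · rw [h1, Subgroup.card_bot] at hS4; omega
    · apply hn₀x
      exact hR.hab n₀ (by rw [h1]; trivial) x hxS
  have hinj : Function.Injective (MulAction.toPermHom G (Sylow 2 G)) := by
    rw [← MonoidHom.ker_eq_bot_iff]
    rcases hs.eq_bot_or_eq_top_of_normal (MulAction.toPermHom G (Sylow 2 G)).ker inferInstance with h | h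
    · exact h
    · exfalso
      apply hntop
      rw [eq_top_iff]
      intro g _
      have h1 : g ∈ (MulAction.toPermHom G (Sylow 2 G)).ker := by rw [h]; trivial
      rw [MonoidHom.mem_ker] at h1
      have h2 : g • S = S := congrArg (fun σ : Equiv.Perm (Sylow 2 G) => σ S) h1
      exact Sylow.smul_eq_iff_mem_normalizer.mp h2
  have hdvd : Nat.card G ∣ n.factorial := by
    have h1 := Subgroup.card_dvd_of_injective (MulAction.toPermHom G (Sylow 2 G)) hinj
    rwa [Nat.card_perm, hSn] at h1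
  have hn135 : n = 1 ∨ n = 3 ∨ n = 5 := by omega
  have hn5' : n = 5 := by
    rcases hn135 with h | h | h
    · exfalso
      rw [hn, Subgroup.index_eq_one] at h
      exact hntop h
    · exfalso
      rw [hGn, ← hcK, h] at hdvd
      have := Nat.le_of_dvd (Nat.factorial_pos 3) hdvd
      have h6 : Nat.factorial 3 = 6 := rfl
      rw [h6] at this
      omega
    · exact h
  subst hn5'
  have hk1 : Nat.card K = 1 := by
    rw [hGn, ← hcK] at hdvd
    have h1 : 5 * (3 * (Nat.card K * 4)) = 60 * Nat.card K := by ring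
    rw [h1, show Nat.factorial 5 = 60 * 2 by norm_num [Nat.factorial]] at hdvd
    have h2 := Nat.dvd_of_mul_dvd_mul_left (by norm_num) hdvd
    rcases (Nat.dvd_prime Nat.prime_two).mp h2 with h3 | h3
    · exact h3
    · exact absurd (by rw [h3]) hK2
  apply Cfsg.Agent.H5.SmallIso.alt_of_hom (by norm_num) hSn _ hinj
  rw [hGn, ← hcK, hk1]
  norm_num [Nat.factorial]

end Cfsg.Agent.H4.V4Fin
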