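import Mathlib
import Cfsg.Agent.H5_V4c
import Cfsg.Agent.H5_Rec

set_option autoImplicit false

/-! Conjugation of anticommuting pairs; `A_4` and `S_4` in `PSL_2(q)`. -/

namespace Cfsg.Agent.H5.V4

open Matrix SL2 SL2Quat

variable {F : Type*} [Field F] [Fintype F]

/-- standard second member -/
def tt0 (a b : F) (h : a ^ 2 + b ^ 2 = -1) : S F := mk2 a b b (-a) (by linear_combination -h)

theorem IsPair.std (hF : Odd (Fintype.card F)) {s t : S F} (h : IsPair s t) :
    ∃ (k : S F) (a b : F) (hab : a ^ 2 + b ^ 2 = -1), s = k * w 1 * k⁻¹ ∧ t = k * tt0 a b hab * k⁻¹ := by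
  obtain ⟨k, hk⟩ := conj_w hF s h.ss
  set t' := k⁻¹ * t * k with ht'
  have hw : w 1 = k⁻¹ * s * k := by rw [hk]; group
  have h1 : t' * w 1 = -(w 1 * t') := by
    have h4 : t * s = -(s * t) := by rw [h.st, neg_neg]
    calc t' * w 1 = k⁻¹ * (t * s) * k := by rw [hw, ht']; group
      _ = k⁻¹ * (-(s * t)) * k := by rw [h4]
      _ = -(k⁻¹ * (s * t) * k) := by simp
      _ = _ := by rw [hw, ht']; congr 1; group
  have h00 := congrArg (fun g : S F => g.1 0 0) h1
  have h01 := congrArg (fun g : S F => g.1 0 1) h1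
  simp [mul00, mul01, neg00, neg01] at h00 h01
  have hd := det_eq t'
  have h11 : t'.1 1 1 = - t'.1 0 0 := h01.symm
  have hab : (t'.1 0 0) ^ 2 + (t'.1 1 0) ^ 2 = -1 := by
    rw [h11, h00] at hd
    linear_combination -hd
  refine ⟨k, t'.1 0 0, t'.1 1 0, hab, hk, ?_⟩
  have : tt0 (t'.1 0 0) (t'.1 1 0) hab = t' := by
    apply ext2
    · rfl
    · change t'.1 1 0 = t'.1 0 1; rw [h00]
    · rfl
    · change - t'.1 0 0 = t'.1 1 1; rw [h11]
  rw [this, ht']; group

theorem tt0_00 (a b : F) (h : a ^ 2 + b ^ 2 = -1) : (tt0 a b h).1 0 0 = a := rfl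
theorem tt0_01 (a b : F) (h : a ^ 2 + b ^ 2 = -1) : (tt0 a b h).1 0 1 = b := rfl
theorem tt0_10 (a b : F) (h : a ^ 2 + b ^ 2 = -1) : (tt0 a b h).1 1 0 = b := rfl
theorem tt0_11 (a b : F) (h : a ^ 2 + b ^ 2 = -1) : (tt0 a b h).1 1 1 = -a := rfl

theorem isPair_std (a b : F) (h : a ^ 2 + b ^ 2 = -1) : IsPair (w 1) (tt0 a b h) := by
  refine ⟨?_, ?_, ?_⟩
  · apply ext2 <;> simp [mul00, mul01, mul10, mul11, neg00, neg01, neg10, neg11, one00, one01, one10, one11]
  · apply ext2 <;> simp [mul00, mul01, mul10, mul11, neg00, neg01, neg10, neg11, one00, one01, one10, one11,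
      tt0_00, tt0_01, tt0_10, tt0_11]
    · linear_combination h
    · ring
    · ring
    · linear_combination h
  · apply ext2 <;> simp [mul00, mul01, mul10, mul11, neg00, neg01, neg10, neg11,
      tt0_00, tt0_01, tt0_10, tt0_11]

theorem exists_pair (hF : Odd (Fintype.card F)) : ∃ s t : S F, IsPair s t := by
  obtain ⟨a, b, hab⟩ := sum_two_sq hF (-1 : F)
  exact ⟨_, _, isPair_std a b hab⟩

/-- the centraliser of a pair is `{±1}` -/
theorem IsPair.cent (hF : Odd (Fintype.card F)) {s t : S F} (h : IsPair s t) {g : S F} (h1 : g * s = s * g)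
    (h2 : g * t = t * g) : g = 1 ∨ g = -1 := by
  have h20 := two_ne_zero' hF
  obtain ⟨k, a, b, hab, rfl, rfl⟩ := h.std hF
  set g' := k⁻¹ * g * k with hg'
  have h3 : g' * w 1 = w 1 * g' := by
    calc g' * w 1 = k⁻¹ * (g * (k * w 1 * k⁻¹)) * k := by rw [hg']; group
      _ = k⁻¹ * ((k * w 1 * k⁻¹) * g) * k := by rw [h1]
      _ = _ := by rw [hg']; group
  have h4 : g' * tt0 a b hab = tt0 a b hab * g' := by
    calc g' * tt0 a b hab = k⁻¹ * (g * (k * tt0 a b hab * k⁻¹)) * k := by rw [hg']; group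
      _ = k⁻¹ * ((k * tt0 a b hab * k⁻¹) * g) * k := by rw [h2]
      _ = _ := by rw [hg']; group
  have h00 := congrArg (fun g : S F => g.1 0 0) h3
  have h01 := congrArg (fun g : S F => g.1 0 1) h3
  simp [mul00, mul01] at h00 h01
  have k00 := congrArg (fun g : S F => g.1 0 0) h4
  have k01 := congrArg (fun g : S F => g.1 0 1) h4
  simp [mul00, mul01, tt0_00, tt0_01, tt0_10, tt0_11] at k00 k01
  have hd := det_eq g'
  have hy : g'.1 1 0 = 0 := by
    have e1 : g'.1 1 0 * b = 0 := by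
      have : 2 * (g'.1 1 0 * b) = 0 := by rw [h00] at k00; linear_combination -k00
      exact (mul_eq_zero.mp this).resolve_left h20
    have e2 : g'.1 1 0 * a = 0 := by
      have : 2 * (g'.1 1 0 * a) = 0 := by rw [h00] at k01; linear_combination k01 - b * h01
      exact (mul_eq_zero.mp this).resolve_left h20
    have : g'.1 1 0 * (a ^ 2 + b ^ 2) = 0 := by linear_combination a * e2 + b * e1
    rw [hab] at this
    simpa using this
  have hg : g' = 1 ∨ g' = -1 := by
    rw [h00, hy, ← h01] at hd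
    have h5 : (g'.1 0 0 - 1) * (g'.1 0 0 + 1) = 0 := by linear_combination hd
    rcases mul_eq_zero.mp h5 with h6 | h6
    · left
      apply ext2
      · rw [one00]; exact sub_eq_zero.mp h6
      · rw [one01, h00, hy, neg_zero]
      · rw [one10, hy]
      · rw [one11, ← h01]; exact sub_eq_zero.mp h6
    · right
      apply ext2
      · rw [neg00, one00]; exact eq_neg_of_add_eq_zero_left h6
      · rw [neg01, one01, h00, hy]
      · rw [neg10, one10, hy, neg_zero]
      · rw [neg11, one11, ← h01]; exact eq_neg_of_add_eq_zero_left h6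
  have hgk : g = k * g' * k⁻¹ := by rw [hg']; group
  rcases hg with h5 | h5
  · left; rw [hgk, h5]; group
  · right; rw [hgk, h5]; simp

theorem IsPair.sign1 {s t : S F} (h : IsPair s t) : s * s * s⁻¹ = s ∧ s * t * s⁻¹ = -t := by
  constructor
  · group
  · rw [h.st]; simp

theorem IsPair.sign2 {s t : S F} (h : IsPair s t) : t * s * t⁻¹ = -s ∧ t * t * t⁻¹ = t := by
  constructor
  · have : t * s = -(s * t) := by rw [h.st, neg_neg]
    rw [this]; simp
  · group

theorem IsPair.swap (hF : Odd (Fintype.card F)) {s t : S F} (h : IsPair s t) {ρ : F} (hρ : ρ * ρ = 2) :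
    ∃ r : S F, r * s * r⁻¹ = t ∧ r * t * r⁻¹ = s := by
  have h20 := two_ne_zero' hF
  have hρ0 : ρ ≠ 0 := by rintro rfl; simp at hρ; exact h20 hρ.symm
  obtain ⟨k, a, b, hab, rfl, rfl⟩ := h.std hF
  let R : S F := mk2 (a / ρ) ((b - 1) / ρ) ((b + 1) / ρ) (-a / ρ) (by
    field_simp
    linear_combination -hab - hρ)
  have r00 : R.1 0 0 = a / ρ := rfl
  have r01 : R.1 0 1 = (b - 1) / ρ := rfl
  have r10 : R.1 1 0 = (b + 1) / ρ := rfl
  have r11 : R.1 1 1 = -a / ρ := rfl
  have h1 : R * w 1 = tt0 a b hab * R := by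
    apply ext2 <;> simp only [mul00, mul01, mul10, mul11, r00, r01, r10, r11, w00, w01, w10, w11, tt0_00, tt0_01, tt0_10, tt0_11, Units.val_one, inv_one]
    · field_simp; linear_combination -hab
    · field_simp; ring
    · field_simp; ring
    · field_simp; linear_combination -hab
  have h2 : R * tt0 a b hab = w 1 * R := by
    apply ext2 <;> simp only [mul00, mul01, mul10, mul11, r00, r01, r10, r11, w00, w01, w10, w11, tt0_00, tt0_01, tt0_10, tt0_11, Units.val_one, inv_one]
    · field_simp; linear_combination hab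
    · field_simp; ring
    · field_simp; ring
    · field_simp; linear_combination hab
  refine ⟨k * R * k⁻¹, ?_, ?_⟩
  · calc k * R * k⁻¹ * (k * w 1 * k⁻¹) * (k * R * k⁻¹)⁻¹ = k * (R * w 1 * R⁻¹) * k⁻¹ := by group
      _ = _ := by rw [h1]; group
  · calc k * R * k⁻¹ * (k * tt0 a b hab * k⁻¹) * (k * R * k⁻¹)⁻¹ = k * (R * tt0 a b hab * R⁻¹) * k⁻¹ := by group
      _ = _ := by rw [h2]; group

omit [Fintype F] in
theorem cube_of_trace (R : S F) (ht : R.1 0 0 + R.1 1 1 = 1) : R * R * R = -1 := by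
  have hd := det_eq R
  apply ext2 <;> simp only [mul00, mul01, mul10, mul11, neg00, neg01, neg10, neg11, one00, one01, one10, one11]
  · linear_combination -(2 * R.1 0 0 + R.1 1 1) * hd + (R.1 0 0 * R.1 1 1 + (R.1 0 0) ^ 2 + R.1 0 0 - 1) * ht
  · linear_combination -(R.1 0 1) * hd + R.1 0 1 * (R.1 0 0 + R.1 1 1 + 1) * ht
  · linear_combination -(R.1 1 0) * hd + R.1 1 0 * (R.1 0 0 + R.1 1 1 + 1) * ht
  · linear_combination -(2 * R.1 1 1 + R.1 0 0) * hd + (R.1 0 0 * R.1 1 1 + (R.1 1 1) ^ 2 + R.1 1 1 - 1) * ht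

theorem IsPair.cyc (hF : Odd (Fintype.card F)) {s t : S F} (h : IsPair s t) :
    ∃ c : S F, c * s * c⁻¹ = t ∧ c * t * c⁻¹ = s * t ∧ c * c * c = -1 := by
  have h20 := two_ne_zero' hF
  obtain ⟨k, a, b, hab, rfl, rfl⟩ := h.std hF
  let R : S F := mk2 ((1 + a - b) / 2) ((-1 + a + b) / 2) ((1 + a + b) / 2) ((1 - a + b) / 2) (by
    field_simp
    linear_combination -2 * hab)
  have r00 : R.1 0 0 = (1 + a - b) / 2 := rfl
  have r01 : R.1 0 1 = (-1 + a + b) / 2 := rfl
  have r10 : R.1 1 0 = (1 + a + b) / 2 := rfl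
  have r11 : R.1 1 1 = (1 - a + b) / 2 := rfl
  have h1 : R * w 1 = tt0 a b hab * R := by
    apply ext2 <;> simp only [mul00, mul01, mul10, mul11, r00, r01, r10, r11, w00, w01, w10, w11, tt0_00, tt0_01, tt0_10, tt0_11, Units.val_one, inv_one]
    · field_simp; linear_combination -hab
    · field_simp; linear_combination -hab
    · field_simp; linear_combination hab
    · field_simp; linear_combination -hab
  have h2 : R * tt0 a b hab = (w 1 * tt0 a b hab) * R := by
    apply ext2 <;> simp only [mul00, mul01, mul10, mul11, r00, r01, r10, r11, w00, w01, w10, w11, tt0_00, tt0_01, tt0_10, tt0_11, Units.val_one, inv_one]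
    · field_simp; ring
    · field_simp; ring
    · field_simp; ring
    · field_simp; ring
  have h3 : R * R * R = -1 := by
    apply cube_of_trace
    rw [r00, r11]; field_simp; ring
  refine ⟨k * R * k⁻¹, ?_, ?_, ?_⟩
  · calc k * R * k⁻¹ * (k * w 1 * k⁻¹) * (k * R * k⁻¹)⁻¹ = k * (R * w 1 * R⁻¹) * k⁻¹ := by group
      _ = _ := by rw [h1]; group
  · calc k * R * k⁻¹ * (k * tt0 a b hab * k⁻¹) * (k * R * k⁻¹)⁻¹ = k * (R * tt0 a b hab * R⁻¹) * k⁻¹ := by group
      _ = _ := by rw [h2]; group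
  · calc k * R * k⁻¹ * (k * R * k⁻¹) * (k * R * k⁻¹) = k * (R * R * R) * k⁻¹ := by group
      _ = -1 := by rw [h3]; simp

end Cfsg.Agent.H5.V4
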