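import Mathlib

set_option autoImplicit false

/-! The von Dyck group `(2,3,5)` is `A_5`. -/

namespace Cfsg.Agent.H5.VD

open MulAction

section
variable {G X : Type*} [Group G] [MulAction G X] {a b : G}

theorem closed12 (ha : a * a = 1) (hb : b * b * b = 1) (hab : (a * b) ^ 5 = 1) (x1 : X) (h1 : a • b • x1 = x1) :
    ∃ x : Fin 12 → X, x 0 = x1 ∧ (∀ i, ∃ j, a • x i = x j) ∧ (∀ i, ∃ j, b • x i = x j) := by
  have haa : ∀ y : X, a • a • y = y := fun y => by rw [← mul_smul, ha, one_smul]
  have hbb : ∀ y : X, b • b • b • y = y := fun y => by rw [← mul_smul, ← mul_smul, hb, one_smul]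
  have hr : ∀ y : X, a • b • a • b • a • b • a • b • a • b • y = y := fun y => by
    have h : (a * b) ^ 5 • y = a • b • a • b • a • b • a • b • a • b • y := by
      simp only [pow_succ, pow_zero, one_mul, mul_smul]
    rw [← h, hab, one_smul]
  set x2 := a • x1 with hx2
  set x3 := b • x2 with hx3
  set x4 := a • x3 with hx4
  set x5 := b • x4 with hx5
  set x6 := b • x5 with hx6
  set x7 := a • x5 with hx7
  set x8 := a • x6 with hx8
  set x9 := b • x8 with hx9
  set x10 := a • x9 with hx10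
  set x11 := b • x10 with hx11
  set x12 := b • x11 with hx12
  have b1 : b • x1 = x2 := by rw [hx2, ← haa (b • x1), h1]
  have a2 : a • x2 = x1 := by rw [hx2, haa]
  have b3 : b • x3 = x1 := by rw [hx3, ← b1, hbb]
  have a4 : a • x4 = x3 := by rw [hx4, haa]
  have b6 : b • x6 = x4 := by rw [hx6, hx5, hbb]
  have a7 : a • x7 = x5 := by rw [hx7, haa]
  have a8 : a • x8 = x6 := by rw [hx8, haa]
  have b7 : b • x7 = x8 := by
    have h := hr x3
    rw [b3, ← hx2, ← hx3, ← hx4, ← hx5, ← hx7] at h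
    -- a b a b x7 = x3
    have h2 : b • a • b • x7 = x4 := by rw [← haa (b • a • b • x7), h, hx4]
    have h3 : b • a • b • x7 = b • x6 := by rw [h2, b6]
    have h4 := smul_left_cancel b h3
    rw [← haa (b • x7), h4]
  have b9 : b • x9 = x7 := by rw [hx9, ← b7, hbb]
  have a10 : a • x10 = x9 := by rw [hx10, haa]
  have b12 : b • x12 = x10 := by rw [hx12, hx11, hbb]
  have a11 : a • x11 = x12 := by
    have h := hr x9
    rw [b9, a7, ← hx6, ← hx8, ← hx9, ← hx10, ← hx11] at h
    -- a b a x11 = x9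
    have h2 : b • a • x11 = x10 := by rw [← haa (b • a • x11), h]
    have h3 : b • a • x11 = b • x12 := by rw [h2, b12]
    exact smul_left_cancel b h3
  have a12 : a • x12 = x11 := by rw [← a11, haa]
  refine ⟨![x1, x2, x3, x4, x5, x6, x7, x8, x9, x10, x11, x12], rfl, ?_, ?_⟩
  · intro i
    fin_cases i
    · exact ⟨1, rfl⟩
    · exact ⟨0, a2⟩
    · exact ⟨3, rfl⟩
    · exact ⟨2, a4⟩
    · exact ⟨6, rfl⟩
    · exact ⟨7, rfl⟩
    · exact ⟨4, a7⟩
    · exact ⟨5, a8⟩
    · exact ⟨9, rfl⟩
    · exact ⟨8, a10⟩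
    · exact ⟨11, a11⟩
    · exact ⟨10, a12⟩
  · intro i
    fin_cases i
    · exact ⟨1, b1⟩
    · exact ⟨2, rfl⟩
    · exact ⟨0, b3⟩
    · exact ⟨4, rfl⟩
    · exact ⟨5, rfl⟩
    · exact ⟨3, b6⟩
    · exact ⟨7, b7⟩
    · exact ⟨8, rfl⟩
    · exact ⟨6, b9⟩
    · exact ⟨10, rfl⟩
    · exact ⟨11, rfl⟩
    · exact ⟨9, b12⟩

end

theorem card_le {G : Type*} [Group G] {a b : G} (ha : a * a = 1) (hb : b * b * b = 1) (hab : (a * b) ^ 5 = 1)
    (hgen : Subgroup.closure {a, b} = ⊤) : Finite G ∧ Nat.card G ≤ 60 := by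
  set C := Subgroup.zpowers (a * b)
  have hC : Finite C ∧ Nat.card C ≤ 5 := by
    have hfo : IsOfFinOrder (a * b) := isOfFinOrder_iff_pow_eq_one.mpr ⟨5, by norm_num, hab⟩
    have h1 : Finite C := (finite_zpowers.mpr hfo).to_subtype
    refine ⟨h1, ?_⟩
    rw [Nat.card_zpowers]
    exact orderOf_le_of_pow_eq_one (by norm_num) hab
  obtain ⟨x, hx0, hxa, hxb⟩ := closed12 (X := G ⧸ C) ha hb hab (QuotientGroup.mk 1 : G ⧸ C) (by
    rw [← mul_smul, MulAction.Quotient.smul_mk, smul_eq_mul, mul_one, QuotientGroup.eq]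
    rw [mul_one]
    exact C.inv_mem (Subgroup.mem_zpowers _))
  have hall : ∀ g : G, ∀ i, ∃ j, g • x i = x j := by
    intro g
    have hg : g ∈ Subgroup.closure {a, b} := by rw [hgen]; exact Subgroup.mem_top g
    induction hg using Subgroup.closure_induction with
    | mem y hy =>
      rcases hy with rfl | rfl
      · exact hxa
      · exact hxb
    | one => intro i; exact ⟨i, one_smul _ _⟩
    | mul y z _ _ hy hz =>
      intro i
      obtain ⟨j, hj⟩ := hz i
      obtain ⟨k, hk⟩ := hy j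
      exact ⟨k, by rw [mul_smul, hj, hk]⟩
    | inv y _ hy =>
      -- y permutes the finite set of values
      intro i
      let S := Set.range x
      have hS : Finite S := Set.finite_range x
      let f : S → S := fun s => ⟨y • s.1, by
        obtain ⟨j, hj⟩ := s.2
        obtain ⟨k, hk⟩ := hy j
        exact ⟨k, by rw [← hj, hk]⟩⟩
      have hf : Function.Injective f := by
        intro s t h
        exact Subtype.ext (smul_left_cancel y (congrArg Subtype.val h))
      obtain ⟨t, ht⟩ := (Finite.injective_iff_surjective.mp hf) ⟨x i, i, rfl⟩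
      obtain ⟨j, hj⟩ := t.2
      refine ⟨j, ?_⟩
      rw [inv_smul_eq_iff, hj]
      exact (congrArg Subtype.val ht).symm
  have hsurj : Function.Surjective x := by
    intro y
    induction y using QuotientGroup.induction_on with | H g =>
    obtain ⟨j, hj⟩ := hall g 0
    refine ⟨j, ?_⟩
    rw [← hj, hx0, MulAction.Quotient.smul_mk, smul_eq_mul, mul_one]
  have hfin : Finite (G ⧸ C) := Finite.of_surjective x hsurj
  have h12 : Nat.card (G ⧸ C) ≤ 12 := by
    have := Nat.card_le_card_of_surjective x hsurj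
    simpa using this
  have hcard := C.card_eq_card_quotient_mul_card_subgroup
  have hCfin := hC.1
  have hpos : 0 < Nat.card C := Nat.card_pos
  have hpos' : 0 < Nat.card (G ⧸ C) := Nat.card_pos
  constructor
  · apply Nat.finite_of_card_ne_zero
    rw [hcard]
    positivity
  · rw [hcard]
    calc Nat.card (G ⧸ C) * Nat.card C ≤ 12 * 5 := Nat.mul_le_mul h12 hC.2
      _ = 60 := rfl

def eA : alternatingGroup (Fin 5) := ⟨Equiv.swap 0 1 * Equiv.swap 2 3, by rw [Equiv.Perm.mem_alternatingGroup]; decide⟩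
def eB : alternatingGroup (Fin 5) := ⟨Equiv.swap 0 2 * Equiv.swap 2 4, by rw [Equiv.Perm.mem_alternatingGroup]; decide⟩

theorem eA2 : eA * eA = 1 := Subtype.ext (by rw [eA]; decide)
set_option maxRecDepth 10000 in
theorem eB3 : eB * eB * eB = 1 := Subtype.ext (by
  change (Equiv.swap (0 : Fin 5) 2 * Equiv.swap 2 4) * (Equiv.swap 0 2 * Equiv.swap 2 4) * (Equiv.swap 0 2 * Equiv.swap 2 4) = 1
  decide)
set_option maxRecDepth 10000 in
theorem eAB5 : (eA * eB) ^ 5 = 1 := Subtype.ext (by
  change ((Equiv.swap (0 : Fin 5) 1 * Equiv.swap 2 3) * (Equiv.swap 0 2 * Equiv.swap 2 4)) ^ 5 = 1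
  decide)
theorem eA_ne : eA ≠ 1 := by
  intro h
  have h' : Equiv.swap (0 : Fin 5) 1 * Equiv.swap 2 3 = 1 := congrArg Subtype.val h
  exact absurd h' (by decide)
theorem eB_ne : eB ≠ 1 := by
  intro h
  have h' : Equiv.swap (0 : Fin 5) 2 * Equiv.swap 2 4 = 1 := congrArg Subtype.val h
  exact absurd h' (by decide)
theorem eAB_ne : eA * eB ≠ 1 := by
  intro h
  have h' : (Equiv.swap (0 : Fin 5) 1 * Equiv.swap 2 3) * (Equiv.swap 0 2 * Equiv.swap 2 4) = 1 := congrArg Subtype.val h
  exact absurd h' (by decide)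

theorem perm_gen : Subgroup.closure ({eA, eB} : Set (alternatingGroup (Fin 5))) = ⊤ := by
  set A := eA with hAA
  set B := eB with hBB
  set C := Subgroup.closure ({A, B} : Set (alternatingGroup (Fin 5)))
  have hA : A ∈ C := Subgroup.subset_closure (by simp)
  have hB : B ∈ C := Subgroup.subset_closure (by simp)
  have h2 : orderOf A = 2 := orderOf_eq_prime (by rw [sq]; exact eA2) eA_ne
  have h3 : orderOf B = 3 := by
    have : Fact (Nat.Prime 3) := ⟨Nat.prime_three⟩
    exact orderOf_eq_prime (by rw [pow_succ, sq]; exact eB3) eB_ne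
  have h5 : orderOf (A * B) = 5 := by
    have : Fact (Nat.Prime 5) := ⟨Nat.prime_five⟩
    exact orderOf_eq_prime eAB5 eAB_ne
  have hd : ∀ x ∈ C, orderOf x ∣ Nat.card C := by
    intro x hx
    rw [← Subgroup.orderOf_mk x hx]
    exact orderOf_dvd_natCard _
  have d2 := hd A hA
  have d3 := hd B hB
  have d5 := hd _ (C.mul_mem hA hB)
  rw [h2] at d2
  rw [h3] at d3
  rw [h5] at d5
  have h6 : 6 ∣ Nat.card C := (Nat.Coprime.mul_dvd_of_dvd_of_dvd (by norm_num) d2 d3 : 2 * 3 ∣ _)
  have h30 : 30 ∣ Nat.card C := (Nat.Coprime.mul_dvd_of_dvd_of_dvd (by norm_num) h6 d5 : 6 * 5 ∣ _)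
  have hA5 : Nat.card (alternatingGroup (Fin 5)) = 60 := by
    rw [nat_card_alternatingGroup, Nat.card_eq_fintype_card, Fintype.card_fin]; decide
  have hle := C.card_mul_index
  rw [hA5] at hle
  obtain ⟨c, hc⟩ := h30
  have hcard : C.index = 1 ∨ C.index = 2 := by
    rw [hc, mul_assoc] at hle
    have h7 : c * C.index = 2 := by omega
    have h8 : C.index ∣ 2 := ⟨c, by rw [mul_comm]; exact h7.symm⟩
    exact (Nat.dvd_prime Nat.prime_two).mp h8
  rcases hcard with h | h
  · exact Subgroup.index_eq_one.mp h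
  · exfalso
    have hn : C.Normal := Subgroup.normal_of_index_eq_two h
    have hs : IsSimpleGroup (alternatingGroup (Fin 5)) := inferInstance
    rcases hs.eq_bot_or_eq_top_of_normal C hn with h9 | h9
    · rw [h9] at hA
      have : A = 1 := hA
      rw [this] at h2; simp at h2
    · rw [h9] at h; simp at h

theorem a5_of_235 {G : Type*} [Group G] [Nontrivial G] {a b : G} (ha : a * a = 1) (hb : b * b * b = 1) (hab : (a * b) ^ 5 = 1)
    (hgen : Subgroup.closure {a, b} = ⊤) : Nonempty (G ≃* alternatingGroup (Fin 5)) := by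
  set A := eA with hA
  set B := eB with hB
  set D := Subgroup.closure ({(a, A), (b, B)} : Set (G × alternatingGroup (Fin 5))) with hD
  have hmA : (a, A) ∈ D := Subgroup.subset_closure (by simp)
  have hmB : (b, B) ∈ D := Subgroup.subset_closure (by simp)
  have hDle : Finite D ∧ Nat.card D ≤ 60 := by
    apply card_le (a := (⟨(a, A), hmA⟩ : D)) (b := (⟨(b, B), hmB⟩ : D))
    · apply Subtype.ext
      change ((a * a, A * A) : G × alternatingGroup (Fin 5)) = 1
      rw [ha, show A * A = 1 from eA2]; rfl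
    · apply Subtype.ext
      change ((b * b * b, B * B * B) : G × alternatingGroup (Fin 5)) = 1
      rw [hb, show B * B * B = 1 from eB3]; rfl
    · apply Subtype.ext
      change (((a * b), (A * B)) : G × alternatingGroup (Fin 5)) ^ 5 = 1
      rw [Prod.pow_mk, hab, show (A * B) ^ 5 = 1 from eAB5]; rfl
    · rw [eq_top_iff]
      rintro ⟨x, hx⟩ -
      induction hx using Subgroup.closure_induction with
      | mem y hy =>
        apply Subgroup.subset_closure
        rcases hy with rfl | rfl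
        · left; rfl
        · right; rfl
      | one => exact Subgroup.one_mem _
      | mul y z hy hz h1 h2 => exact Subgroup.mul_mem _ h1 h2
      | inv y hy h1 => exact Subgroup.inv_mem _ h1
  have hDfin := hDle.1
  let p1 : D →* G := (MonoidHom.fst _ _).comp D.subtype
  let p2 : D →* alternatingGroup (Fin 5) := (MonoidHom.snd _ _).comp D.subtype
  have hp1 : Function.Surjective p1 := by
    rw [← MonoidHom.range_eq_top, eq_top_iff, ← hgen, Subgroup.closure_le]
    rintro y (rfl | rfl)
    · exact ⟨⟨_, hmA⟩, rfl⟩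
    · exact ⟨⟨_, hmB⟩, rfl⟩
  have hp2 : Function.Surjective p2 := by
    rw [← MonoidHom.range_eq_top, eq_top_iff, ← perm_gen, Subgroup.closure_le]
    rintro y (rfl | rfl)
    · exact ⟨⟨_, hmA⟩, rfl⟩
    · exact ⟨⟨_, hmB⟩, rfl⟩
  have hA5 : Nat.card (alternatingGroup (Fin 5)) = 60 := by
    rw [nat_card_alternatingGroup, Nat.card_eq_fintype_card, Fintype.card_fin]; decide
  have hb2 : Function.Bijective p2 := by
    apply (Nat.bijective_iff_surjective_and_card p2).mpr
    refine ⟨hp2, le_antisymm ?_ ?_⟩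
    · rw [hA5]; exact hDle.2
    · exact Nat.card_le_card_of_surjective p2 hp2
  let e2 : D ≃* alternatingGroup (Fin 5) := MulEquiv.ofBijective p2 hb2
  have hs : IsSimpleGroup (alternatingGroup (Fin 5)) := inferInstance
  have hsD : IsSimpleGroup D := e2.isSimpleGroup
  have hker : p1.ker = ⊥ := by
    rcases hsD.eq_bot_or_eq_top_of_normal p1.ker inferInstance with h | h
    · exact h
    · exfalso
      obtain ⟨x, y, hxy⟩ := exists_pair_ne G
      obtain ⟨x', rfl⟩ := hp1 x
      obtain ⟨y', rfl⟩ := hp1 y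
      apply hxy
      have h1 : x' ∈ p1.ker := by rw [h]; exact Subgroup.mem_top _
      have h2 : y' ∈ p1.ker := by rw [h]; exact Subgroup.mem_top _
      rw [MonoidHom.mem_ker] at h1 h2
      rw [h1, h2]
  let e1 : D ≃* G := MulEquiv.ofBijective p1 ⟨(MonoidHom.ker_eq_bot_iff _).mp hker, hp1⟩
  exact ⟨e1.symm.trans e2⟩

end Cfsg.Agent.H5.VD
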