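import Mathlib
import Cfsg.Agent.H5_VD
import Cfsg.Agent.H5_V4d
import Cfsg.Agent.H5_SL2Tor
import Cfsg.Agent.H5_SL2Quat

set_option autoImplicit false

/-! `A_5` in `PSL_2(q)`. -/

namespace Cfsg.Agent.H5.A5

open Matrix Cfsg.Agent.H5.SL2 Cfsg.Agent.H5.V4

variable {F : Type*} [Field F]

theorem sq_eq {g : S F} {τ : F} (ht : g.1 0 0 + g.1 1 1 = τ) : g.1 * g.1 = τ • g.1 - 1 := by
  have h := SL2Tor.cayley g
  rw [Matrix.trace_fin_two, ht] at h
  rw [eq_sub_iff_add_eq]
  have : g.1 * g.1 + 1 = (g.1 * g.1 - τ • g.1 + 1) + τ • g.1 := by abel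
  rw [this, h, zero_add]

theorem pow5 {g : S F} {τ : F} (ht : g.1 0 0 + g.1 1 1 = τ) (hτ : τ ^ 2 = τ + 1) : g ^ 5 = -1 := by
  have hM := sq_eq ht
  set M := g.1 with hMdef
  have h4 : (M * M) * (M * M) = M - τ • (1 : Matrix (Fin 2) (Fin 2) F) := by
    have e0 : (M * M) * (M * M) = (τ ^ 2) • (M * M) - (2 * τ) • M + 1 := by
      conv_lhs => rw [hM]
      simp only [sub_mul, mul_sub, smul_mul_assoc, mul_smul_comm, mul_one, one_mul, smul_smul]
      module
    rw [e0, hM]
    have e1 : τ ^ 2 • (τ • M - 1) - (2 * τ) • M + 1 = (τ ^ 2 * τ - 2 * τ) • M + (1 - τ ^ 2) • (1 : Matrix (Fin 2) (Fin 2) F) := by module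
    have e2 : τ ^ 2 * τ - 2 * τ = 1 := by linear_combination (τ + 1) * hτ
    have e3 : 1 - τ ^ 2 = -τ := by linear_combination -hτ
    rw [e1, e2, e3]; module
  have h5 : (M * M) * (M * M) * M = -1 := by
    rw [h4, sub_mul, hM, smul_mul_assoc, one_mul]
    abel
  apply Subtype.ext
  have e : ((g ^ 5 : S F) : Matrix (Fin 2) (Fin 2) F) = (M * M) * (M * M) * M := by
    rw [Matrix.SpecialLinearGroup.coe_pow, ← hMdef]
    simp only [pow_succ, pow_zero, one_mul, mul_assoc]
  rw [e, h5]; rfl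

theorem nontrivial_trace {g : S F} (h : g = 1 ∨ g = -1) : g.1 0 0 + g.1 1 1 = 2 ∨ g.1 0 0 + g.1 1 1 = -2 := by
  rcases h with rfl | rfl
  · left; rw [one00, one11]; norm_num
  · right; rw [neg00, neg11, one00, one11]; norm_num

/-- two elements of `SL_2(F)` with traces `0, 1, τ` generate `A_5` modulo `±1`. -/
theorem a5_of {A B : S F} {τ : F} (h2 : (2 : F) ≠ 0) (hA : A.1 0 0 + A.1 1 1 = 0) (hB : B.1 0 0 + B.1 1 1 = 1)
    (hAB : (A * B).1 0 0 + (A * B).1 1 1 = τ) (hτ : τ ^ 2 = τ + 1) :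
    Nonempty (Subgroup.closure {π A, π B} ≃* alternatingGroup (Fin 5)) := by
  set H := Subgroup.closure {π A, π B}
  have hmA : π A ∈ H := Subgroup.subset_closure (by simp)
  have hmB : π B ∈ H := Subgroup.subset_closure (by simp)
  have hneg : π (-1 : S F) = 1 := π_eq_one.mpr (Or.inr rfl)
  have hA1 : π A ≠ 1 := by
    intro h
    rcases nontrivial_trace (π_eq_one.mp h) with h | h
    · rw [hA] at h; exact h2 h.symm
    · rw [hA] at h; exact h2 (neg_eq_zero.mp h.symm)
  have : Nontrivial H := ⟨⟨π A, hmA⟩, 1, fun h => hA1 (congrArg Subtype.val h)⟩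
  apply VD.a5_of_235 (a := (⟨π A, hmA⟩ : H)) (b := (⟨π B, hmB⟩ : H))
  · apply Subtype.ext
    change π A * π A = 1
    rw [← map_mul, sq_of_trace_zero hA, hneg]
  · apply Subtype.ext
    change π B * π B * π B = 1
    rw [← map_mul, ← map_mul, cube_of_trace B hB, hneg]
  · apply Subtype.ext
    change (π A * π B) ^ 5 = 1
    rw [← map_mul, ← map_pow, pow5 hAB hτ, hneg]
  · have := Subgroup.closure_closure_coe_preimage (k := {π A, π B})
    rw [← this]
    congr 1
    ext x
    constructor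
    · rintro (rfl | rfl)
      · left; rfl
      · right; rfl
    · rintro (h | h)
      · left; exact Subtype.ext h
      · right; exact Subtype.ext h

theorem exists_pair [Fintype F] (hF : Odd (Fintype.card F)) (τ : F) : ∃ A B : S F, A.1 0 0 + A.1 1 1 = 0 ∧ B.1 0 0 + B.1 1 1 = 1 ∧
    (A * B).1 0 0 + (A * B).1 1 1 = τ := by
  have h2 : (2 : F) ≠ 0 := SL2Quat.two_ne_zero' hF
  have h4 : (4 : F) ≠ 0 := by
    have : (4 : F) = 2 * 2 := by norm_num
    rw [this]; exact mul_ne_zero h2 h2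
  obtain ⟨a, b, hab⟩ := SL2Quat.sum_two_sq hF ((τ ^ 2 - 3) / 4)
  have hab' : 4 * (a ^ 2 + b ^ 2) = τ ^ 2 - 3 := by rw [hab]; field_simp
  refine ⟨w 1, mk2 (a + 1 / 2) (b + τ / 2) (b - τ / 2) (1 / 2 - a) ?_, ?_, ?_, ?_⟩
  · field_simp
    linear_combination -hab'
  · simp
  · simp; field_simp; ring
  · simp [mul00, mul01, mul10, mul11]
    field_simp; ring

theorem exists_golden [Fintype F] (p : ℕ) [Fact p.Prime] [CharP F p] (h : 5 ∣ Fintype.card F * (Fintype.card F ^ 2 - 1)) : ∃ τ : F, τ ^ 2 = τ + 1 := by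
  have hp : p.Prime := Fact.out
  have h5 : Nat.Prime 5 := Nat.prime_five
  obtain ⟨n, hn, hq⟩ := GL2.exists_card_eq (F := F) p
  have hq1 : 1 < Fintype.card F := Fintype.one_lt_card
  rcases h5.dvd_mul.mp h with h | h
  · rw [hq] at h
    have h6 : 5 = p := (Nat.prime_dvd_prime_iff_eq h5 hp).mp (h5.dvd_of_dvd_pow h)
    subst h6
    refine ⟨3, ?_⟩
    have h7 : ((5 : ℕ) : F) = 0 := CharP.cast_eq_zero F 5
    push_cast at h7
    linear_combination h7
  · have h6 : 5 ∣ Fintype.card F - 1 ∨ 5 ∣ Fintype.card F + 1 := by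
      have : Fintype.card F ^ 2 - 1 = (Fintype.card F - 1) * (Fintype.card F + 1) := by
        rw [mul_comm, ← Nat.sq_sub_sq, one_pow]
      rw [this] at h
      exact h5.dvd_mul.mp h
    obtain ⟨g, hg⟩ : ∃ g : S F, orderOf g = 5 := by
      rcases h6 with ⟨c, hc⟩ | ⟨c, hc⟩
      · obtain ⟨g, hg⟩ := SL2Tor.exists_order_sub (F := F)
        refine ⟨g ^ c, ?_⟩
        have hc0 : c ≠ 0 := by rintro rfl; omega
        rw [orderOf_pow_of_dvd hc0 (by rw [hg, hc]; exact dvd_mul_left _ _), hg, hc]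
        exact Nat.mul_div_cancel _ (Nat.pos_of_ne_zero hc0)
      · obtain ⟨g, hg⟩ := SL2Tor.exists_order_add (F := F)
        refine ⟨g ^ c, ?_⟩
        have hc0 : c ≠ 0 := by rintro rfl; omega
        rw [orderOf_pow_of_dvd hc0 (by rw [hg, hc]; exact dvd_mul_left _ _), hg, hc]
        exact Nat.mul_div_cancel _ (Nat.pos_of_ne_zero hc0)
    set t := g.1 0 0 + g.1 1 1 with ht
    -- from `g^5 = 1`
    have hM := sq_eq ht.symm
    set M := g.1 with hMdef
    have hg5 : (M * M) * (M * M) * M = 1 := by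
      have h7 : g ^ 5 = 1 := by rw [← hg]; exact pow_orderOf_eq_one g
      have h8 := congrArg Subtype.val h7
      have e : ((g ^ 5 : S F) : Matrix (Fin 2) (Fin 2) F) = (M * M) * (M * M) * M := by
        rw [Matrix.SpecialLinearGroup.coe_pow, ← hMdef]
        simp only [pow_succ, pow_zero, one_mul, mul_assoc]
      rw [← e]; exact h8
    have h9 : (M * M) * (M * M) * M = (t ^ 4 - 3 * t ^ 2 + 1) • M - (t ^ 3 - 2 * t) • (1 : Matrix (Fin 2) (Fin 2) F) := by
      have e0 : (M * M) * (M * M) = (t ^ 3 - 2 * t) • M - (t ^ 2 - 1) • (1 : Matrix (Fin 2) (Fin 2) F) := by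
        have e1 : (M * M) * (M * M) = (t ^ 2) • (M * M) - (2 * t) • M + 1 := by
          conv_lhs => rw [hM]
          simp only [sub_mul, mul_sub, smul_mul_assoc, mul_smul_comm, mul_one, one_mul, smul_smul]
          module
        rw [e1, hM]; module
      rw [e0, sub_mul, smul_mul_assoc, hM, smul_mul_assoc, one_mul]; module
    rw [hg5] at h9
    have h10 : (t ^ 4 - 3 * t ^ 2 + 1) • M = (t ^ 3 - 2 * t + 1) • (1 : Matrix (Fin 2) (Fin 2) F) := by
      have : (t ^ 3 - 2 * t + 1) • (1 : Matrix (Fin 2) (Fin 2) F) = 1 + (t ^ 3 - 2 * t) • (1 : Matrix (Fin 2) (Fin 2) F) := by module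
      rw [this]
      exact eq_add_of_sub_eq h9.symm
    by_cases hz : t ^ 4 - 3 * t ^ 2 + 1 = 0
    · -- (t^2 - t - 1)(t^2 + t - 1) = 0
      have h11 : (t ^ 2 - (t + 1)) * ((-t) ^ 2 - (-t + 1)) = 0 := by linear_combination hz
      rcases mul_eq_zero.mp h11 with h | h
      · exact ⟨t, sub_eq_zero.mp h⟩
      · exact ⟨-t, sub_eq_zero.mp h⟩
    · exfalso
      -- `M` is scalar
      have e01 : M 0 1 = 0 := by
        have := congrFun (congrFun h10 0) 1
        simp only [Matrix.smul_apply, smul_eq_mul, Matrix.one_apply_ne (by decide : (0 : Fin 2) ≠ 1), mul_zero] at this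
        exact (mul_eq_zero.mp this).resolve_left hz
      have e10 : M 1 0 = 0 := by
        have := congrFun (congrFun h10 1) 0
        simp only [Matrix.smul_apply, smul_eq_mul, Matrix.one_apply_ne (by decide : (1 : Fin 2) ≠ 0), mul_zero] at this
        exact (mul_eq_zero.mp this).resolve_left hz
      have e00 : M 0 0 = M 1 1 := by
        have h0 := congrFun (congrFun h10 0) 0
        have h1 := congrFun (congrFun h10 1) 1
        simp only [Matrix.smul_apply, smul_eq_mul, Matrix.one_apply_eq, mul_one] at h0 h1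
        exact mul_left_cancel₀ hz (by rw [h0, h1])
      have hd := det_eq g
      rw [← hMdef, e01, zero_mul, sub_zero, ← e00] at hd
      have h12 : g * g = 1 := by
        apply ext2 <;> simp only [mul00, mul01, mul10, mul11, one00, one01, one10, one11, ← hMdef, e01, e10, ← e00]
        · linear_combination hd
        · ring
        · ring
        · linear_combination hd
      have h13 : orderOf g ∣ 2 := orderOf_dvd_of_pow_eq_one (by rw [sq, h12])
      rw [hg] at h13
      norm_num at h13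

theorem exists_a5 [Fintype F] (hF : Odd (Fintype.card F)) (h : 5 ∣ Fintype.card F * (Fintype.card F ^ 2 - 1)) :
    ∃ H : Subgroup (PS F), Nonempty (H ≃* alternatingGroup (Fin 5)) := by
  obtain ⟨p, hp⟩ := CharP.exists F
  have : Fact p.Prime := ⟨CharP.char_is_prime F p⟩
  obtain ⟨τ, hτ⟩ := exists_golden p h
  obtain ⟨A, B, hA, hB, hAB⟩ := exists_pair hF τ
  exact ⟨_, a5_of (SL2Quat.two_ne_zero' hF) hA hB hAB hτ⟩

end Cfsg.Agent.H5.A5
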