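import Mathlib
import Cfsg.Agent.H11_Sub
import Cfsg.Agent.H11_LB2
import Cfsg.Agent.H11_Dich2

/-! Components of involution centralizers in groups with `L_{2'}(G) = E(G)`. -/

set_option autoImplicit false

open Subgroup Cfsg
open scoped commutatorElement

universe u

namespace Cfsg.Agent.H5.CInv

open Cfsg.Agent.H11.Components

theorem comm_in {G : Type u} [Group G] {D : Subgroup G} {k w m : G} (hk : k ∈ normalizer (D : Set G))
    (hw : w ∈ normalizer (D : Set G)) (hm : m ∈ D) (hkw : k * w = w * k) : ⁅k, w * m⁆ ∈ D := by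
  have h1 : k * m * k⁻¹ * m⁻¹ ∈ D := mul_mem ((mem_normalizer_iff.1 hk m).1 hm) (inv_mem hm)
  have h2 := (mem_normalizer_iff.1 hw _).1 h1
  have h3 : ⁅k, w * m⁆ = w * (k * m * k⁻¹ * m⁻¹) * w⁻¹ := by
    rw [commutatorElement_def]
    calc k * (w * m) * k⁻¹ * (w * m)⁻¹ = (k * w) * m * k⁻¹ * m⁻¹ * w⁻¹ := by group
      _ = (w * k) * m * k⁻¹ * m⁻¹ * w⁻¹ := by rw [hkw]
      _ = w * (k * m * k⁻¹ * m⁻¹) * w⁻¹ := by group
  rw [h3]; exact h2

theorem main {G : Type u} [Group G] [Finite G] (hL2 : Cfsg.pLayer 2 G = Cfsg.layer G) (t : G) (ht : orderOf t = 2)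
    (L : Subgroup G) (hL : Cfsg.IsComponentOf L (centralizer ({t} : Set G))) (h2 : 2 ∣ Nat.card L) :
    ∃ D : Subgroup G, Cfsg.IsComponent D ∧ (L = D ∨ (L < D ∧ D = ⁅D, Subgroup.zpowers t⁆) ∨
      (D.map (MulAut.conj t).toMonoidHom ≠ D ∧ L = (Cfsg.layer ↥((D ⊔ D.map (MulAut.conj t).toMonoidHom) ⊓ Subgroup.centralizer ({t} : Set G))).map ((D ⊔ D.map (MulAut.conj t).toMonoidHom) ⊓ Subgroup.centralizer ({t} : Set G)).subtype)) := by
  haveI : Fact (Nat.Prime 2) := ⟨Nat.prime_two⟩
  have ht2 : t * t = 1 := by rw [← pow_two, ← ht, pow_orderOf_eq_one]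
  have hti : t⁻¹ = t := inv_eq_of_mul_eq_one_left ht2
  have hpc := Cfsg.Agent.H11.Sub.relPC_of_isComponentOf hL h2
  have hT : IsPGroup 2 (zpowers t) := by
    rw [IsPGroup.iff_card]
    exact ⟨1, by rw [Nat.card_zpowers, ht, pow_one]⟩
  have hLE : L ≤ layer G := by
    rw [← hL2]
    apply Cfsg.Agent.H11.LB.L_balance hT
    rw [← Cfsg.Agent.H11.Bal.centralizer_singleton_eq]
    exact hpc
  obtain ⟨D, hD, h⟩ := Cfsg.Agent.H11.Dich.dichotomy ht hpc hLE
  refine ⟨D, hD, ?_⟩
  rcases h with ⟨htD, hLD⟩ | ⟨htD, φ, hφ, hLφ⟩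
  · have hND : ⁅D, zpowers t⁆ ≤ D := by
      rw [commutator_le]
      intro d hd z hz
      rw [commutatorElement_def, mul_assoc, mul_assoc]
      refine mul_mem hd ?_
      rw [← mul_assoc]
      exact (mem_normalizer_iff.1 ((zpowers_le.2 htD) hz) _).1 (inv_mem hd)
    have hn : (⁅D, zpowers t⁆.subgroupOf D).Normal := by
      rw [normal_subgroupOf_iff_le_normalizer hND]
      exact normalizer_commutator_ge_left D (zpowers t)
    rcases IsQuasisimple.normal_eq_top_or_le_center hD.2 (⁅D, zpowers t⁆.subgroupOf D) with h | h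
    · rw [subgroupOf_eq_top] at h
      rcases eq_or_lt_of_le hLD with h1 | h1
      · exact Or.inl h1
      · exact Or.inr (Or.inl ⟨h1, le_antisymm h hND⟩)
    · left
      have h1 : ⁅⁅D, zpowers t⁆, D⁆ = ⊥ := by
        rw [eq_bot_iff, commutator_le]
        intro x hx y hy
        have h3 := mem_center_iff.1 (h (show (⟨x, hND hx⟩ : D) ∈ ⁅D, zpowers t⁆.subgroupOf D from hx)) ⟨y, hy⟩
        have h4 : y * x = x * y := congrArg Subtype.val h3
        rw [mem_bot, commutatorElement_eq_one_iff_mul_comm, h4]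
      have h2 := commutator_eq_bot_of_perfect (IsComponent.perfect hD) h1
      rw [commutator_eq_bot_iff_le_centralizer, ← Cfsg.Agent.H11.Bal.centralizer_singleton_eq] at h2
      have h3 := eq_of_le_of_isComponent hL.2 (IsComponent.subgroupOf hD h2) (comap_mono hLD)
      have h4 := congrArg (Subgroup.map (centralizer ({t} : Set G)).subtype) h3
      rwa [map_subgroupOf_eq_of_le hL.1, map_subgroupOf_eq_of_le h2] at h4
  · right; right
    set D' := D.map (MulAut.conj t).toMonoidHom with hD'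
    have hmem' : ∀ d ∈ D, t * d * t⁻¹ ∈ D' := fun d hd => ⟨d, hd, rfl⟩
    have hne : D' ≠ D := by
      intro h
      apply htD
      rw [mem_normalizer_iff]
      intro d
      constructor
      · intro hd
        have h3 := hmem' d hd
        rwa [h] at h3
      · intro hd
        have hd2 : t * d * t⁻¹ ∈ D' := by rw [h]; exact hd
        obtain ⟨e, he, hee⟩ := hd2
        have : t * e * t⁻¹ = t * d * t⁻¹ := hee
        have h3 : e = d := by simpa using this
        rw [← h3]; exact he
    have hDc' : IsComponent D' := (isComponent_map_conj D t).2 hD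
    have hcomm := commutator_eq_bot_of_ne hD hDc' hne.symm
    have hcm : ∀ x ∈ D, ∀ y ∈ D', x * y = y * x := by
      intro x hx y hy
      have h1 : ⁅x, y⁆ ∈ ⁅D, D'⁆ := commutator_mem_commutator hx hy
      rw [hcomm, mem_bot, commutatorElement_eq_one_iff_mul_comm] at h1
      exact h1
    have hdec : ∀ k ∈ D ⊔ D', ∃ a ∈ D, ∃ b ∈ D, k = a * (t * b * t⁻¹) := by
      intro k hk
      have h1 : ∀ (x : D) (y : D'), Commute (D.subtype x) (D'.subtype y) := fun x y => hcm _ x.2 _ y.2
      have h3 : k ∈ (MonoidHom.noncommCoprod D.subtype D'.subtype h1).range := by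
        rw [MonoidHom.noncommCoprod_range, range_subtype, range_subtype]
        exact hk
      obtain ⟨⟨a, b⟩, hab⟩ := h3
      obtain ⟨c, hc, hcb⟩ := b.2
      refine ⟨a, a.2, c, hc, ?_⟩
      rw [← hab]
      have : t * c * t⁻¹ = (b : G) := hcb
      rw [this]; rfl
    have hφ' : ∀ d : D, φ d = (d : G) * (t * d * t⁻¹) := by
      intro d
      rw [hφ.eq d, pow_two, hti]
      group
    have hφL : ∀ d : D, φ d ∈ L := fun d => by rw [hLφ]; exact ⟨d, rfl⟩
    have hDN : D ⊔ D' ≤ normalizer (D : Set G) := by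
      refine sup_le le_normalizer (le_trans ?_ (centralizer_le_normalizer _))
      rw [← commutator_eq_bot_iff_le_centralizer, commutator_comm]; exact hcomm
    have hDN' : D ⊔ D' ≤ normalizer (D' : Set G) := by
      refine sup_le (le_trans ?_ (centralizer_le_normalizer _)) le_normalizer
      rw [← commutator_eq_bot_iff_le_centralizer]; exact hcomm
    have hLS : L ≤ D ⊔ D' := by
      rw [hLφ]
      rintro _ ⟨d, rfl⟩
      rw [hφ']
      exact mul_mem ((le_sup_left : D ≤ D ⊔ D') d.2) ((le_sup_right : D' ≤ D ⊔ D') (hmem' _ d.2))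
    set M := (D ⊔ D') ⊓ centralizer ({t} : Set G) with hM
    have hLM : L ≤ M := le_inf hLS hL.1
    have hLcM : IsComponentOf L M := Cfsg.Agent.H11.CompOf.mono_of hL hLM inf_le_right
    refine ⟨hne, le_antisymm ?_ ?_⟩
    · have h1 := map_mono (f := M.subtype) (le_layer hLcM.2)
      rwa [map_subgroupOf_eq_of_le hLM] at h1
    · rw [map_le_iff_le_comap, layer_le_iff]
      intro K hK
      by_cases hKL : K = L.subgroupOf M
      · rw [hKL]; exact le_rfl
      · exfalso
        have h1 := commutator_eq_bot_of_ne hK hLcM.2 hKL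
        have hKc : ∀ k ∈ K, ∀ d : D, (k : G) * φ d = φ d * k := by
          intro k hk d
          have h3 : ⁅k, (⟨φ d, hLM (hφL d)⟩ : M)⁆ ∈ ⁅K, L.subgroupOf M⁆ :=
            commutator_mem_commutator hk (show φ d ∈ L from hφL d)
          rw [h1, mem_bot, commutatorElement_eq_one_iff_mul_comm] at h3
          exact congrArg Subtype.val h3
        have hKK : ∀ k ∈ K, ∀ k' ∈ K, ⁅(k : G), (k' : G)⁆ ∈ D ⊓ D' := by
          intro k hk k' hk'
          obtain ⟨a, ha, b, hb, hab⟩ := hdec k' k'.2.1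
          have hkS : (k : G) ∈ D ⊔ D' := k.2.1
          constructor
          · have h3 : (k' : G) = φ ⟨b, hb⟩ * (b⁻¹ * a) := by
              rw [hab, hφ', mul_assoc _ (t * b * t⁻¹), ← hcm (b⁻¹ * a) (mul_mem (inv_mem hb) ha) _ (hmem' b hb)]
              group
            rw [h3]
            exact comm_in (hDN hkS) (hDN (hLS (hφL _))) (mul_mem (inv_mem hb) ha) (hKc k hk _)
          · have h3 : (k' : G) = φ ⟨a, ha⟩ * ((t * a * t⁻¹)⁻¹ * (t * b * t⁻¹)) := by
              rw [hab, hφ']; group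
            rw [h3]
            exact comm_in (hDN' hkS) (hDN' (hLS (hφL _))) (mul_mem (inv_mem (hmem' _ ha)) (hmem' _ hb)) (hKc k hk _)
        have hKle : K ≤ (D ⊓ D').subgroupOf M := by
          rw [← IsComponent.perfect hK, commutator_le]
          intro k hk k' hk'
          exact hKK k hk k' hk'
        apply IsQuasisimple.not_isMulCommutative hK.2
        refine ⟨⟨fun a b => ?_⟩⟩
        apply Subtype.ext
        apply Subtype.ext
        exact hcm _ (hKle a.2).1 _ (hKle b.2).2

end Cfsg.Agent.H5.CInv
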