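import Mathlib
import Cfsg.Agent.H5_Dk4

set_option autoImplicit false

/-! Subgroups of `PSL_2(F)` of order divisible by `p`: the counting data. -/

namespace Cfsg.Agent.H5.Dk

open MulAction Cfsg.Agent.H5.SL2 Cfsg.Agent.H5.V4
open scoped MatrixGroups OnePoint
open scoped Classical

attribute [local instance] inst

theorem card_dvd_of_free {G X : Type*} [Group G] [Finite G] [MulAction G X] [Finite X]
    (h : ∀ (g : G) (x : X), g • x = x → g = 1) : Nat.card G ∣ Nat.card X := by
  have := Fintype.ofFinite G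
  have := Fintype.ofFinite X
  rw [Nat.card_eq_fintype_card, Nat.card_eq_fintype_card, MulAction.card_eq_sum_card_group_div_card_stabilizer G X]
  apply Finset.dvd_sum
  intro ω _
  have h1 : stabilizer G ω.out = ⊥ := by
    rw [eq_bot_iff]
    intro g hg
    exact Subgroup.mem_bot.mpr (h g _ hg)
  have h2 : Fintype.card (stabilizer G ω.out) = 1 := by
    rw [← Nat.card_eq_fintype_card, h1, Subgroup.card_bot]
  rw [h2, Nat.div_one]

variable {F : Type*} [Field F]

/-- the unipotent subgroup of `PSL_2(F)` -/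
def Ub (F : Type*) [Field F] : Subgroup (PS F) := (U F).map π

theorem mem_Ub {g : PS F} : g ∈ Ub F ↔ ∃ x, g = π (u x) := by
  rw [Ub, Subgroup.mem_map]
  constructor
  · rintro ⟨s, hs, rfl⟩
    obtain ⟨x, rfl⟩ := mem_U.mp hs
    exact ⟨x, rfl⟩
  · rintro ⟨x, rfl⟩
    exact ⟨u x, mem_U.mpr ⟨x, rfl⟩, rfl⟩

def Ag (H : Subgroup (PS F)) : AddSubgroup F where
  carrier := {x | π (u x) ∈ H}
  zero_mem' := by
    change π (u 0) ∈ H
    rw [u_zero, map_one]; exact H.one_mem
  add_mem' := by
    intro x y hx hy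
    change π (u (x + y)) ∈ H
    rw [← u_mul, map_mul]; exact H.mul_mem hx hy
  neg_mem' := by
    intro x hx
    change π (u (-x)) ∈ H
    rw [← u_inv, map_inv]; exact H.inv_mem hx

theorem mem_Ag {H : Subgroup (PS F)} {x : F} : x ∈ Ag H ↔ π (u x) ∈ H := Iff.rfl

theorem πu_inj {x y : F} (h : π (u x) = π (u y)) : x = y := by
  rcases π_eq.mp h with h | h
  · exact u_inj h
  · have h1 : (1 : F) = -1 := by
      have := congrArg (fun s : S F => s.1 0 0) h
      simpa [neg00] using this
    have h2 := congrArg (fun s : S F => s.1 0 1) h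
    simp only [u01, neg01] at h2
    rw [h2, ← one_mul (-y), h1, neg_mul_neg, one_mul]

theorem card_Ag (H : Subgroup (PS F)) : Nat.card (Ag H) = Nat.card (H ⊓ Ub F : Subgroup (PS F)) := by
  apply Nat.card_congr
  refine Equiv.ofBijective (fun x => ⟨π (u x.1), Subgroup.mem_inf.mpr ⟨x.2, mem_Ub.mpr ⟨_, rfl⟩⟩⟩) ⟨?_, ?_⟩
  · intro x y h
    exact Subtype.ext (πu_inj (congrArg Subtype.val h))
  · rintro ⟨g, hg⟩
    obtain ⟨h1, h2⟩ := Subgroup.mem_inf.mp hg
    obtain ⟨x, rfl⟩ := mem_Ub.mp h2
    exact ⟨⟨x, h1⟩, rfl⟩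

theorem ud_mul (b b' : F) (a a' : Fˣ) : (u b * d a) * (u b' * d a') = u (b + (a : F) ^ 2 * b') * d (a * a') := by
  apply ext2 <;> simp only [mul00, mul01, mul10, mul11, u00, u01, u10, u11, d00, d01, d10, d11, Units.val_mul, mul_inv, Units.val_inv_eq_inv_val]
  · ring
  · have := a.ne_zero
    field_simp; ring
  · ring
  · ring

def Dg (H : Subgroup (PS F)) : Subgroup Fˣ where
  carrier := {c | ∃ (a : Fˣ) (b : F), c = a ^ 2 ∧ π (u b * d a) ∈ H}
  one_mem' := ⟨1, 0, by simp, by rw [u_zero, d_one, mul_one, map_one]; exact H.one_mem⟩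
  mul_mem' := by
    rintro _ _ ⟨a, b, rfl, h⟩ ⟨a', b', rfl, h'⟩
    refine ⟨a * a', b + (a : F) ^ 2 * b', by rw [mul_pow], ?_⟩
    rw [← ud_mul, map_mul]; exact H.mul_mem h h'
  inv_mem' := by
    rintro _ ⟨a, b, rfl, h⟩
    refine ⟨a⁻¹, - ((a⁻¹ : Fˣ) : F) ^ 2 * b, by rw [inv_pow], ?_⟩
    have : (u b * d a)⁻¹ = u (- ((a⁻¹ : Fˣ) : F) ^ 2 * b) * d a⁻¹ := by
      rw [inv_eq_iff_mul_eq_one, ud_mul, mul_inv_cancel, d_one, mul_one]
      have : b + (a : F) ^ 2 * (- ((a⁻¹ : Fˣ) : F) ^ 2 * b) = 0 := by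
        have := a.ne_zero
        rw [Units.val_inv_eq_inv_val]; field_simp; ring
      rw [this, u_zero]
    rw [← this, map_inv]; exact H.inv_mem h

theorem mem_Dg {H : Subgroup (PS F)} {c : Fˣ} : c ∈ Dg H ↔ ∃ (a : Fˣ) (b : F), c = a ^ 2 ∧ π (u b * d a) ∈ H := Iff.rfl

theorem Dg_smul {H : Subgroup (PS F)} {c : Fˣ} (hc : c ∈ Dg H) {x : F} (hx : x ∈ Ag H) : (c : F) * x ∈ Ag H := by
  obtain ⟨a, b, rfl, h⟩ := hc
  rw [mem_Ag] at hx ⊢
  have h1 : u ((a : F) ^ 2 * x) = (u b * d a) * u x * (u b * d a)⁻¹ := by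
    rw [conj_u (by simp [mul10]) x]
    congr 1
    simp [mul00]
  rw [Units.val_pow_eq_pow_val, h1, map_mul, map_mul, map_inv]
  exact H.mul_mem (H.mul_mem h hx) (H.inv_mem h)

theorem Dg_dvd [Finite F] (H : Subgroup (PS F)) : Nat.card (Dg H) ∣ Nat.card (Ag H) - 1 := by
  have hAfin : Finite (Ag H) := inferInstance
  let X := {x : Ag H // x ≠ 0}
  have hX : Nat.card X = Nat.card (Ag H) - 1 := by
    have := Fintype.ofFinite (Ag H)
    rw [Nat.card_eq_fintype_card, Nat.card_eq_fintype_card, Fintype.card_subtype_compl, Fintype.card_subtype_eq]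
  rw [← hX]
  let act : MulAction (Dg H) X :=
    { smul := fun c x => ⟨⟨(c : Fˣ) * x.1.1, Dg_smul c.2 x.1.2⟩, by
        intro h
        have h' := congrArg Subtype.val h
        have h'' : ((c : Fˣ) : F) * x.1.1 = 0 := h'
        rcases mul_eq_zero.mp h'' with h3 | h3
        · exact (c : Fˣ).ne_zero h3
        · exact x.2 (Subtype.ext h3)⟩
      one_smul := fun x => Subtype.ext (Subtype.ext (one_mul _))
      mul_smul := fun c d x => Subtype.ext (Subtype.ext (mul_assoc _ _ _)) }
  apply card_dvd_of_free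
  intro c x hx
  have h1 : ((c : Fˣ) : F) * x.1.1 = x.1.1 := congrArg (fun y : X => y.1.1) hx
  have h2 : x.1.1 ≠ 0 := fun h => x.2 (Subtype.ext h)
  have h3 : ((c : Fˣ) : F) = 1 := mul_right_cancel₀ h2 (by rw [h1, one_mul])
  exact Subtype.ext (Units.ext h3)

section K
variable (K : Type*) [Field K] [Algebra F K]

theorem smul_infty_iff {s : S F} : (π s) • (∞ : OnePoint K) = ∞ ↔ s.1 1 0 = 0 := by
  rw [smul_π, OnePoint.smul_infty_eq_self_iff, ρ_apply, map_eq_zero]

theorem card_stab_infty [Fintype F] (H : Subgroup (PS F)) :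
    Nat.card (stabilizer H (∞ : OnePoint K)) = Nat.card (Ag H) * Nat.card (Dg H) := by
  set T0 := H ⊓ stabilizer (PS F) (∞ : OnePoint K) with hT0
  have e0 : Nat.card (stabilizer H (∞ : OnePoint K)) = Nat.card T0 := by
    apply Nat.card_congr
    exact
      { toFun := fun g => ⟨g.1.1, Subgroup.mem_inf.mpr ⟨g.1.2, g.2⟩⟩
        invFun := fun g => ⟨⟨g.1, (Subgroup.mem_inf.mp g.2).1⟩, (Subgroup.mem_inf.mp g.2).2⟩
        left_inv := fun g => rfl
        right_inv := fun g => rfl }
  set T := T0.comap π with hT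
  set E := (H ⊓ Ub F).comap π with hE
  have hmemT : ∀ s : S F, s ∈ T ↔ π s ∈ H ∧ s.1 1 0 = 0 := by
    intro s
    rw [hT, Subgroup.mem_comap, hT0, Subgroup.mem_inf, mem_stabilizer_iff, smul_infty_iff]
  have hmemE : ∀ s : S F, s ∈ E ↔ π s ∈ H ∧ s.1 1 0 = 0 ∧ (s.1 0 0) ^ 2 = 1 := by
    intro s
    rw [hE, Subgroup.mem_comap, Subgroup.mem_inf, mem_Ub]
    constructor
    · rintro ⟨h1, x, h2⟩
      refine ⟨h1, ?_⟩
      rcases π_eq.mp h2 with rfl | rfl
      · simp
      · simp [neg10, neg00]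
    · rintro ⟨h1, h2, h3⟩
      refine ⟨h1, ?_⟩
      have h4 : (s.1 0 0 - 1) * (s.1 0 0 + 1) = 0 := by linear_combination h3
      have hd := det_eq s
      rw [h2, mul_zero, sub_zero] at hd
      rcases mul_eq_zero.mp h4 with h | h
      · have h5 : s.1 0 0 = 1 := sub_eq_zero.mp h
        rw [h5, one_mul] at hd
        refine ⟨s.1 0 1, ?_⟩
        congr 1
        exact ext2 (by rw [h5, u00]) (by rw [u01]) (by rw [h2, u10]) (by rw [hd, u11])
      · have h5 : s.1 0 0 = -1 := eq_neg_of_add_eq_zero_left h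
        have h6 : s.1 1 1 = -1 := by rw [h5] at hd; linear_combination -hd
        refine ⟨-s.1 0 1, ?_⟩
        rw [π_eq]; right
        exact ext2 (by rw [h5, neg00, u00]) (by rw [neg01, u01, neg_neg]) (by rw [h2, neg10, u10, neg_zero]) (by rw [h6, neg11, u11])
  let f : T →* Fˣ :=
    { toFun := fun s => ⟨(s.1.1 0 0) ^ 2, (s.1.1 1 1) ^ 2, by
        have hd := det_eq s.1
        rw [((hmemT _).mp s.2).2, mul_zero, sub_zero] at hd
        rw [← mul_pow, hd, one_pow], by
        have hd := det_eq s.1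
        rw [((hmemT _).mp s.2).2, mul_zero, sub_zero] at hd
        rw [← mul_pow, mul_comm, hd, one_pow]⟩
      map_one' := by
        apply Units.ext
        simp [one00]
      map_mul' := by
        intro s t
        apply Units.ext
        change ((s.1 * t.1 : S F).1 0 0) ^ 2 = (s.1.1 0 0) ^ 2 * (t.1.1 0 0) ^ 2
        rw [mul00, ((hmemT _).mp t.2).2]; ring }
  have hker : f.ker = E.subgroupOf T := by
    ext s
    rw [MonoidHom.mem_ker, Subgroup.mem_subgroupOf, hmemE]
    constructor
    · intro h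
      refine ⟨((hmemT _).mp s.2).1, ((hmemT _).mp s.2).2, ?_⟩
      have := congrArg Units.val h
      exact this
    · intro h
      apply Units.ext
      exact h.2.2
  have hrange : f.range = Dg H := by
    ext c
    rw [MonoidHom.mem_range, mem_Dg]
    constructor
    · rintro ⟨s, rfl⟩
      obtain ⟨h1, h2⟩ := (hmemT _).mp s.2
      obtain ⟨a, x, hx⟩ := borel s.1 h2
      refine ⟨a, x, ?_, by rw [← hx]; exact h1⟩
      apply Units.ext
      change (s.1.1 0 0) ^ 2 = _
      rw [hx]
      simp [mul00]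
    · rintro ⟨a, b, rfl, h⟩
      refine ⟨⟨u b * d a, (hmemT _).mpr ⟨h, by simp [mul10]⟩⟩, ?_⟩
      apply Units.ext
      change ((u b * d a : S F).1 0 0) ^ 2 = _
      simp [mul00]
  have h1 : Nat.card T = Nat.card f.ker * Nat.card f.range := by
    rw [← Nat.card_congr (QuotientGroup.quotientKerEquivRange f).toEquiv, mul_comm]
    exact Subgroup.card_eq_card_quotient_mul_card_subgroup _
  have hEle : E ≤ T := by
    intro s hs
    have := (hmemE s).mp hs
    exact (hmemT s).mpr ⟨this.1, this.2.1⟩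
  rw [hker, hrange, Nat.card_congr (Subgroup.subgroupOfEquivOfLe hEle).toEquiv, hT, hE, card_comap_π, card_comap_π, ← card_Ag, ← e0,
    mul_assoc] at h1
  exact Nat.eq_of_mul_eq_mul_left (Nat.gcd_pos_of_pos_left _ (by norm_num)) h1

end K

section std
variable [Fintype F] (p : ℕ) [Fact p.Prime] [CharP F p]

theorem isPGroup_Ub : IsPGroup p (Ub F) := (isPGroup_U p).map π

theorem not_dvd_index_Ub : ¬ p ∣ (Ub F).index := by
  intro h
  apply not_dvd_index_U (F := F) p
  rw [← Subgroup.index_comap_of_surjective (Ub F) (π_surj (F := F))] at h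
  exact h.trans (Subgroup.index_dvd_of_le (Subgroup.le_comap_map _ _))

noncomputable def UbS : Sylow p (PS F) := (isPGroup_Ub p).toSylow (not_dvd_index_Ub p)

theorem coe_UbS : ((UbS p : Sylow p (PS F)) : Subgroup (PS F)) = Ub F := rfl

def Std (p : ℕ) (H : Subgroup (PS F)) : Prop := ¬ p ∣ ((Ub F).subgroupOf H).index

open scoped Pointwise in
theorem mem_conj {G : Type*} [Group G] {g x : G} {H : Subgroup G} : x ∈ MulAut.conj g • H ↔ g⁻¹ * x * g ∈ H := by
  rw [Subgroup.mem_pointwise_smul_iff_inv_smul_mem, MulAut.smul_def, ← map_inv, MulAut.conj_apply, inv_inv]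

theorem card_subgroupOf {G : Type*} [Group G] (A H : Subgroup G) : Nat.card (A.subgroupOf H) = Nat.card (H ⊓ A : Subgroup G) := by
  rw [← Subgroup.inf_subgroupOf_left]
  exact Nat.card_congr (Subgroup.subgroupOfEquivOfLe inf_le_left).toEquiv

open scoped Pointwise in
theorem card_conj {G : Type*} [Group G] (g : G) (H : Subgroup G) : Nat.card (MulAut.conj g • H : Subgroup G) = Nat.card H :=
  (Nat.card_congr (Subgroup.equivSMul (MulAut.conj g) H).toEquiv).symm

open scoped Pointwise in
theorem exists_std (H : Subgroup (PS F)) : ∃ g : PS F, Std p (MulAut.conj g • H) := by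
  obtain ⟨P⟩ : Nonempty (Sylow p H) := inferInstance
  have hP : IsPGroup p ((P : Subgroup H).map H.subtype) := P.2.map H.subtype
  obtain ⟨Q, hQ⟩ := hP.exists_le_sylow
  obtain ⟨g, hg⟩ := MulAction.exists_smul_eq (PS F) Q (UbS p)
  refine ⟨g, ?_⟩
  rw [Std]
  have hcard : Nat.card (P : Subgroup H) ∣ Nat.card ((Ub F).subgroupOf (MulAut.conj g • H)) := by
    rw [card_subgroupOf]
    have h1 : Nat.card (P : Subgroup H) = Nat.card (MulAut.conj g • ((P : Subgroup H).map H.subtype) : Subgroup (PS F)) := by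
      rw [card_conj]
      exact Nat.card_congr ((P : Subgroup H).equivMapOfInjective _ H.subtype_injective).toEquiv
    rw [h1]
    apply Subgroup.card_dvd_of_le
    intro x hx
    rw [Subgroup.mem_inf]
    rw [mem_conj] at hx ⊢
    constructor
    · obtain ⟨y, hy, hy'⟩ := hx
      rw [← hy']; exact y.2
    · rw [← coe_UbS p, ← hg, Sylow.coe_subgroup_smul, mem_conj]
      exact hQ hx
  obtain ⟨c, hc⟩ := hcard
  have h2 := ((Ub F).subgroupOf (MulAut.conj g • H)).index_mul_card
  have h3 := (P : Subgroup H).index_mul_card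
  rw [hc, card_conj, ← h3] at h2
  have h4 : ((Ub F).subgroupOf (MulAut.conj g • H)).index * c = (P : Subgroup H).index := by
    apply Nat.eq_of_mul_eq_mul_right (Nat.card_pos (α := (P : Subgroup H)))
    rw [← h2]; ring
  intro h
  exact P.not_dvd_index (h.trans (h4 ▸ dvd_mul_right _ _))

end std


section pd
variable [Fintype F] (K : Type*) [Field K] [Fintype K] [Algebra F K] (p : ℕ) [Fact p.Prime] [CharP F p]

include p in
theorem mem_Ub_iff (hsp : ∀ τ : F, ∃ l : K, l ^ 2 - algebraMap F K τ * l + 1 = 0) (g : PS F) :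
    g ∈ Ub F ↔ g • (∞ : OnePoint K) = ∞ ∧ (g = 1 ∨ fx (OnePoint K) g = 1) := by
  rw [mem_Ub]
  constructor
  · rintro ⟨x, rfl⟩
    refine ⟨(smul_infty_iff K).mpr (by simp), ?_⟩
    by_cases h : π (u x) = 1
    · exact Or.inl h
    · right
      rcases fx_cases (K := K) p hsp h with h1 | h1
      · exact h1.1
      · exfalso; apply h1.2
        rw [← map_pow]
        have : u x ^ p = 1 := by
          have h2 := (isPGroup_U (F := F) p)
          have h3 : ∀ n : ℕ, u x ^ n = u (n * x) := by
            intro n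
            induction n with
            | zero => simp [u_zero]
            | succ n ih => rw [pow_succ, ih, u_mul]; congr 1; push_cast; ring
          rw [h3, CharP.cast_eq_zero, zero_mul, u_zero]
        rw [this, map_one]
  · rintro ⟨h1, h2⟩
    obtain ⟨s, rfl⟩ := π_surj g
    rw [smul_infty_iff] at h1
    rcases h2 with h2 | h2
    · exact ⟨0, by rw [h2, u_zero, map_one]⟩
    · have h10 : (ρ F K s) 1 0 = 0 := by rw [ρ_apply, h1, map_zero]
      have hfx : fx (OnePoint K) (π s) = fx (OnePoint K) (ρ F K s) := fx_eq_of_smul (fun x => smul_π K s x)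
      have h00 : (ρ F K s) 0 0 = (ρ F K s) 1 1 := by
        by_contra hne
        rw [hfx, fx_upper_ne h10 hne] at h2
        omega
      rw [ρ_apply, ρ_apply] at h00
      have h00' := (algebraMap F K).injective h00
      have hd := det_eq s
      rw [h1, mul_zero, sub_zero, ← h00'] at hd
      have h4 : (s.1 0 0 - 1) * (s.1 0 0 + 1) = 0 := by linear_combination hd
      rcases mul_eq_zero.mp h4 with h | h
      · have h5 : s.1 0 0 = 1 := sub_eq_zero.mp h
        refine ⟨s.1 0 1, ?_⟩
        congr 1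
        exact ext2 (by rw [h5, u00]) (by rw [u01]) (by rw [h1, u10]) (by rw [← h00', h5, u11])
      · have h5 : s.1 0 0 = -1 := eq_neg_of_add_eq_zero_left h
        refine ⟨-s.1 0 1, ?_⟩
        rw [π_eq]; right
        exact ext2 (by rw [h5, neg00, u00]) (by rw [neg01, u01, neg_neg]) (by rw [h1, neg10, u10, neg_zero]) (by rw [← h00', h5, neg11, u11])

variable {p}
/-- the Sylow subgroup -/
noncomputable def stdSylow {H : Subgroup (PS F)} (hstd : Std p H) : Sylow p H :=
  ((isPGroup_Ub (F := F) p).comap_subtype (K := H)).toSylow hstd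

theorem coe_stdSylow {H : Subgroup (PS F)} (hstd : Std p H) : (stdSylow hstd : Subgroup H) = (Ub F).subgroupOf H := rfl

open scoped Pointwise in
theorem pdata (hsp : ∀ τ : F, ∃ l : K, l ^ 2 - algebraMap F K τ * l + 1 = 0) {H : Subgroup (PS F)} (hstd : Std p H)
    (hp : p ∣ Nat.card H) (hnot : ∃ g ∈ H, g • (∞ : OnePoint K) ≠ ∞) :
    ∃ N, PData H (∞ : OnePoint K) ((Ub F).subgroupOf H) (Nat.card (Ag H)) (Nat.card (Dg H)) N := by
  have hpp : p.Prime := Fact.out
  have hcardP : Nat.card ((Ub F).subgroupOf H) = Nat.card (Ag H) := by rw [card_subgroupOf, card_Ag]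
  have hfree : ∀ (g : (Ub F).subgroupOf H) (x : OnePoint K), x ≠ ∞ → (g : H) • x = x → g = 1 := by
    intro g x hx hgx
    obtain ⟨h1, h2⟩ := (mem_Ub_iff K p hsp (g.1 : PS F)).mp g.2
    rcases h2 with h2 | h2
    · exact Subtype.ext (Subtype.ext h2)
    · exfalso
      have h3 : ({∞, x} : Finset (OnePoint K)) ⊆ Finset.univ.filter (fun y : OnePoint K => (g.1 : PS F) • y = y) := by
        intro y hy
        simp only [Finset.mem_insert, Finset.mem_singleton] at hy
        simp only [Finset.mem_filter, Finset.mem_univ, true_and]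
        rcases hy with rfl | rfl
        · exact h1
        · exact hgx
      have h4 := Finset.card_le_card h3
      rw [Finset.card_pair hx.symm] at h4
      rw [fx] at h2
      omega
  have hdvd : Nat.card ((Ub F).subgroupOf H) ∣ ((O H (∞ : OnePoint K)).erase ∞).card := by
    let X := {x : OnePoint K // x ∈ (O H (∞ : OnePoint K)).erase ∞}
    have hX : Nat.card X = ((O H (∞ : OnePoint K)).erase ∞).card := by
      rw [Nat.card_eq_fintype_card, Fintype.card_coe]
    rw [← hX]
    have hinv : ∀ (g : (Ub F).subgroupOf H), (g : H) • (∞ : OnePoint K) = ∞ := fun g => ((mem_Ub_iff K p hsp (g.1 : PS F)).mp g.2).1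
    let act : MulAction ((Ub F).subgroupOf H) X :=
      { smul := fun g x => ⟨(g : H) • x.1, by
          obtain ⟨h1, h2⟩ := Finset.mem_erase.mp x.2
          rw [Finset.mem_erase]
          refine ⟨?_, ?_⟩
          · intro h
            apply h1
            apply smul_left_cancel (g : H)
            rw [h, hinv]
          · obtain ⟨k, hk⟩ := mem_O.mp h2
            rw [mem_O]
            exact ⟨g * k, by rw [mul_smul, hk]⟩⟩
        one_smul := fun x => Subtype.ext (one_smul H x.1)
        mul_smul := fun g k x => Subtype.ext (mul_smul (g : H) (k : H) x.1) }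
    apply card_dvd_of_free
    intro g x hx
    exact hfree g x.1 (Finset.mem_erase.mp x.2).1 (congrArg Subtype.val hx)
  obtain ⟨N, hN⟩ := hdvd
  rw [Finset.card_erase_of_mem (self_mem_O _), hcardP] at hN
  have hOpos := O_card_pos (G := H) (∞ : OnePoint K)
  refine ⟨N, ?_, ?_, ?_, hcardP, ?_, ?_, ?_, ?_, ?_⟩
  · intro g
    rw [Subgroup.mem_subgroupOf, mem_Ub_iff K p hsp, fx_sub]
    constructor
    · rintro ⟨h1, h2⟩
      exact ⟨h1, h2.imp (fun h => Subtype.ext h) id⟩
    · rintro ⟨h1, h2⟩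
      exact ⟨h1, h2.imp (fun h => congrArg Subtype.val h) id⟩
  · intro g hg
    have hg1 : g ≠ 1 := by
      rintro rfl
      rw [fx] at hg
      simp only [one_smul, Finset.filter_true, Finset.card_univ] at hg
      have : Fintype.card (OnePoint K) = Fintype.card K + 1 := Fintype.card_option
      rw [this] at hg
      have := Fintype.card_pos (α := K)
      omega
    have hgp : g ^ p = 1 := by
      rw [fx_sub] at hg
      have hg' : (g : PS F) ≠ 1 := fun h => hg1 (Subtype.ext h)
      rcases fx_cases (K := K) p hsp hg' with h1 | h1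
      · exact Subtype.ext h1.2
      · omega
    have hpg : IsPGroup p (Subgroup.zpowers g) := by
      apply IsPGroup.of_card (n := 1)
      rw [Nat.card_zpowers, pow_one]
      exact orderOf_eq_prime hgp hg1
    obtain ⟨P, hP⟩ := hpg.exists_le_sylow
    obtain ⟨k, hk⟩ := MulAction.exists_smul_eq H P (stdSylow hstd)
    have h1 : k * g * k⁻¹ ∈ (Ub F).subgroupOf H := by
      rw [← coe_stdSylow hstd, ← hk, Sylow.coe_subgroup_smul, mem_conj]
      have : k⁻¹ * (k * g * k⁻¹) * k = g := by group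
      rw [this]
      exact hP (Subgroup.mem_zpowers g)
    have h2 : (k * g * k⁻¹) • (∞ : OnePoint K) = ∞ := ((mem_Ub_iff K p hsp _).mp h1).1
    refine ⟨k⁻¹ • ∞, mem_O.mpr ⟨k⁻¹, rfl⟩, ?_⟩
    rw [mul_smul, mul_smul] at h2
    rw [eq_inv_smul_iff, h2]
  · intro g hg
    rw [fx_sub]
    have hg' : (g : PS F) ≠ 1 := fun h => hg (Subtype.ext h)
    rcases fx_cases (K := K) p hsp hg' with h1 | h1
    · exact Or.inl h1.1
    · exact Or.inr h1.1
  · exact card_stab_infty K H
  · rw [mul_comm N, ← hN]; omega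
  · exact Dg_dvd H
  · rcases Nat.eq_zero_or_pos N with h | h
    · exfalso
      rw [h, mul_zero] at hN
      obtain ⟨g, hg, hg'⟩ := hnot
      apply hg'
      have h1 : (O H (∞ : OnePoint K)).card ≤ 1 := by omega
      rw [Finset.card_le_one] at h1
      exact h1 _ (mem_O.mpr ⟨⟨g, hg⟩, rfl⟩) _ (self_mem_O _)
    · exact h
  · have h1 := ((Ub F).subgroupOf H).index_mul_card
    have h2 : p ∣ Nat.card ((Ub F).subgroupOf H) := by
      rw [← h1] at hp
      rcases hpp.dvd_mul.mp hp with h | h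
      · exact absurd h hstd
      · exact h
    rw [hcardP] at h2
    have h3 : 0 < Nat.card (Ag H) := Nat.card_pos
    exact hpp.two_le.trans (Nat.le_of_dvd h3 h2)

end pd


end Cfsg.Agent.H5.Dk
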