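import Mathlib
import Cfsg.Agent.H5_Dk5
import Cfsg.Agent.H5_V4b

set_option autoImplicit false

/-! Subfield subgroups of `PSL_2(F)`. -/

namespace Cfsg.Agent.H5.Dk

open MulAction Cfsg.Agent.H5.SL2 Cfsg.Agent.H5.V4
open scoped MatrixGroups OnePoint
open scoped Classical

attribute [local instance] inst

/-- A finite additive subgroup containing `1` and closed under `x ↦ (m x)⁻¹` is a subfield containing `m`. -/
theorem exists_subfield {F : Type*} [Field F] [Finite F] (A : AddSubgroup F) (h1 : (1 : F) ∈ A) {m : F} (hm : m ≠ 0)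
    (hinv : ∀ x ∈ A, x ≠ 0 → (m * x)⁻¹ ∈ A) : ∃ K0 : Subfield F, (∀ x, x ∈ K0 ↔ x ∈ A) ∧ m ∈ K0 := by
  have hh : ∀ x ∈ A, ∀ y ∈ A, m * x ^ 2 * y ∈ A := by
    intro x hx y hy
    by_cases hx0 : x = 0
    · rw [hx0]; simp [A.zero_mem]
    by_cases hy0 : y = 0
    · rw [hy0]; simp [A.zero_mem]
    by_cases hxy : m * x * y = 1
    · have : m * x ^ 2 * y = x := by linear_combination x * hxy
      rw [this]; exact hx
    · have hz : (m * y)⁻¹ - x ∈ A := A.sub_mem (hinv y hy hy0) hx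
      have hz0 : (m * y)⁻¹ - x ≠ 0 := by
        intro h
        apply hxy
        have h2 : x = (m * y)⁻¹ := (sub_eq_zero.mp h).symm
        rw [h2]; field_simp
      have h3 := A.add_mem (hinv x hx hx0) (hinv _ hz hz0)
      have hne : 1 - m * x * y ≠ 0 := fun h => hxy (sub_eq_zero.mp h).symm
      have e1 : (m * x)⁻¹ + (m * ((m * y)⁻¹ - x))⁻¹ = (m * x * (1 - m * x * y))⁻¹ := by
        have e2 : (m * y)⁻¹ - x = (1 - m * x * y) / (m * y) := by field_simp
        rw [e2]
        field_simp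
        ring
      rw [e1] at h3
      have h4 := hinv _ h3 (inv_ne_zero (mul_ne_zero (mul_ne_zero hm hx0) hne))
      have e3 : (m * (m * x * (1 - m * x * y))⁻¹)⁻¹ = x - m * x ^ 2 * y := by
        field_simp
      rw [e3] at h4
      have := A.sub_mem hx h4
      rwa [sub_sub_cancel] at this
  have hfin : Finite A := inferInstance
  have hmA : ∀ y ∈ A, m * y ∈ A := by
    intro y hy
    have := hh 1 h1 y hy
    rwa [one_pow, mul_one] at this
  have hsurj : ∀ y ∈ A, ∃ y' ∈ A, m * y' = y := by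
    let f : A → A := fun y => ⟨m * y.1, hmA _ y.2⟩
    have hf : Function.Injective f := by
      intro y z h
      exact Subtype.ext (mul_left_cancel₀ hm (congrArg Subtype.val h))
    intro y hy
    obtain ⟨y', hy'⟩ := (Finite.injective_iff_surjective.mp hf) ⟨y, hy⟩
    exact ⟨y'.1, y'.2, congrArg Subtype.val hy'⟩
  have h2 : ∀ x ∈ A, ∀ y ∈ A, x ^ 2 * y ∈ A := by
    intro x hx y hy
    obtain ⟨y', hy', rfl⟩ := hsurj y hy
    have := hh x hx y' hy'
    convert this using 1; ring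
  have hmul : ∀ x ∈ A, ∀ y ∈ A, x * y ∈ A := by
    intro x hx y hy
    by_cases hc : (2 : F) = 0
    · -- squaring is surjective
      let f : A → A := fun y => ⟨y.1 ^ 2, by have := h2 y.1 y.2 1 h1; rwa [mul_one] at this⟩
      have hf : Function.Injective f := by
        intro y z h
        have h' : y.1 ^ 2 = z.1 ^ 2 := congrArg Subtype.val h
        have h3 : (y.1 - z.1) ^ 2 = 0 := by
          have h5 : (y.1 - z.1) ^ 2 = (y.1 ^ 2 - z.1 ^ 2) + 2 * (z.1 ^ 2 - y.1 * z.1) := by ring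
          rw [h5, h', hc]; ring
        exact Subtype.ext (sub_eq_zero.mp (pow_eq_zero_iff (two_ne_zero) |>.mp h3))
      obtain ⟨x', hx'⟩ := (Finite.injective_iff_surjective.mp hf) ⟨x, hx⟩
      have : x'.1 ^ 2 = x := congrArg Subtype.val hx'
      rw [← this]
      exact h2 _ x'.2 _ hy
    · have hsq : ∀ z ∈ A, z ^ 2 ∈ A := by
        intro z hz
        have := h2 z hz 1 h1; rwa [mul_one] at this
      have h3 : 2 * (x * y) ∈ A := by
        have := A.sub_mem (A.sub_mem (hsq _ (A.add_mem hx hy)) (hsq x hx)) (hsq y hy)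
        convert this using 1; ring
      have hdiv : ∀ z, 2 * z ∈ A → z ∈ A := by
        let f : A → A := fun y => ⟨2 * y.1, by
          have := A.add_mem y.2 y.2
          rwa [← two_mul] at this⟩
        have hf : Function.Injective f := by
          intro y z h
          exact Subtype.ext (mul_left_cancel₀ hc (congrArg Subtype.val h))
        intro z hz
        obtain ⟨z', hz'⟩ := (Finite.injective_iff_surjective.mp hf) ⟨_, hz⟩
        have : 2 * z'.1 = 2 * z := congrArg Subtype.val hz'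
        rw [← mul_left_cancel₀ hc this]
        exact z'.2
      exact hdiv _ h3
  refine ⟨{ carrier := A, mul_mem' := fun {a b} ha hb => hmul a ha b hb, one_mem' := h1, add_mem' := fun ha hb => A.add_mem ha hb, zero_mem' := A.zero_mem, neg_mem' := fun ha => A.neg_mem ha, inv_mem' := ?_ }, fun x => Iff.rfl, ?_⟩
  · intro x hx
    by_cases h0 : x = 0
    · rw [h0, inv_zero]; exact A.zero_mem
    · have h5 := hmA _ (hinv x hx h0)
      have : m * (m * x)⁻¹ = x⁻¹ := by field_simp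
      rw [this] at h5
      exact h5
  · have := hmA 1 h1
    rw [mul_one] at this
    exact this

variable {F : Type*} [Field F]

theorem wuw {c : Fˣ} (a : F) : w c * u a * w c = -l (-(c : F) ^ 2 * a) := by
  apply ext2 <;> simp only [mul00, mul01, mul10, mul11, u00, u01, u10, u11, w00, w01, w10, w11, neg00, neg01, neg10, neg11, l00, l01, l10, l11, Units.val_inv_eq_inv_val]
  · have := c.ne_zero; field_simp; ring
  · ring
  · ring
  · have := c.ne_zero; field_simp; ring

theorem π_neg (s : S F) : π (-s) = π s := π_eq.mpr (Or.inr rfl)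

structure Norm (H : Subgroup (PS F)) : Prop where
  norm : ∀ s : S F, π s ∈ H → s.1 1 0 ≠ 0 → s.1 0 0 / s.1 1 0 ∈ Ag H
  ex : ∃ s : S F, π s ∈ H ∧ s.1 1 0 ≠ 0

namespace Norm
variable {H : Subgroup (PS F)} (hN : Norm H)
include hN

theorem norm' {s : S F} (hs : π s ∈ H) (h : s.1 1 0 ≠ 0) : s.1 1 1 / s.1 1 0 ∈ Ag H := by
  have h1 := hN.norm s⁻¹ (by rw [map_inv]; exact H.inv_mem hs) (by rw [inv10]; exact neg_ne_zero.mpr h)
  rw [inv00, inv10, div_neg] at h1
  have := (Ag H).neg_mem h1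
  rwa [neg_neg] at this

theorem w_mem {s : S F} (hs : π s ∈ H) {c : Fˣ} (h : s.1 1 0 = c) : π (w c) ∈ H := by
  have h0 : s.1 1 0 ≠ 0 := by rw [h]; exact c.ne_zero
  have h1 := bruhat s c h
  have h2 : π s = π (u (s.1 0 0 / c)) * π (w c) * π (u (s.1 1 1 / c)) := by
    rw [← map_mul, ← map_mul, ← h1]
  have h3 : π (w c) = (π (u (s.1 0 0 / c)))⁻¹ * π s * (π (u (s.1 1 1 / c)))⁻¹ := by
    rw [h2]; group
  rw [h3]
  have h4 := hN.norm s hs h0
  have h5 := hN.norm' hs h0
  rw [h] at h4 h5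
  exact H.mul_mem (H.mul_mem (H.inv_mem h4) hs) (H.inv_mem h5)

theorem inv_mem' {c : Fˣ} (hc : π (w c) ∈ H) {a : F} (ha : a ∈ Ag H) (ha0 : a ≠ 0) : ((c : F) ^ 2 * a)⁻¹ ∈ Ag H := by
  have h1 : π (l (-(c : F) ^ 2 * a)) ∈ H := by
    rw [← π_neg, ← wuw, map_mul, map_mul]
    exact H.mul_mem (H.mul_mem hc ha) hc
  have h2 : (l (-(c : F) ^ 2 * a)).1 1 0 ≠ 0 := by
    rw [l10]
    exact mul_ne_zero (neg_ne_zero.mpr (pow_ne_zero _ c.ne_zero)) ha0
  have h3 := (Ag H).neg_mem (hN.norm _ h1 h2)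
  rw [l00, l10] at h3
  convert h3 using 1
  rw [one_div, neg_mul, inv_neg, neg_neg]

theorem l_mem {c : Fˣ} (hc : π (w c) ∈ H) {a : F} (ha : a ∈ Ag H) : π (l ((c : F) ^ 2 * a)) ∈ H := by
  have h1 : π (l (-(c : F) ^ 2 * (-a))) ∈ H := by
    rw [← π_neg, ← wuw, map_mul, map_mul]
    exact H.mul_mem (H.mul_mem hc ((Ag H).neg_mem ha)) hc
  convert h1 using 3
  ring

theorem d_mem {a : Fˣ} {b : F} (h : π (u b * d a) ∈ H) : π (d a) ∈ H ∧ b ∈ Ag H := by
  obtain ⟨s, hs, hs0⟩ := hN.ex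
  have hw := hN.w_mem hs (c := Units.mk0 _ hs0) rfl
  set c := Units.mk0 _ hs0
  have h1 : π (u b * d a * w c) ∈ H := by
    rw [map_mul]; exact H.mul_mem h hw
  have h2 : (u b * d a * w c : S F).1 1 0 = (a⁻¹ : Fˣ) * c := by
    simp [mul10, mul11]
  have h3 : (u b * d a * w c : S F).1 0 0 = b * ((a⁻¹ : Fˣ) * c) := by
    simp [mul00, mul01]; ring
  have hne : ((a⁻¹ : Fˣ) : F) * c ≠ 0 := mul_ne_zero (Units.ne_zero _) (Units.ne_zero _)
  have h4 := hN.norm _ h1 (by rw [h2]; exact hne)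
  rw [h2, h3, mul_div_assoc, div_self hne, mul_one] at h4
  refine ⟨?_, h4⟩
  have h5 : π (d a) = (π (u b))⁻¹ * π (u b * d a) := by rw [map_mul]; group
  rw [h5]
  exact H.mul_mem (H.inv_mem h4) h

end Norm

structure SubData (H : Subgroup (PS F)) (e : Fˣ) (K0 : Subfield F) : Prop where
  hu : ∀ x ∈ K0, π (u (e * x)) ∈ H
  hl : ∀ x ∈ K0, π (l ((e⁻¹ : Fˣ) * x)) ∈ H
  htr : ∀ s, π s ∈ H → (s.1 0 0 + s.1 1 1) ^ 2 ∈ K0
  hcard : Nat.card (Ag H) = Nat.card K0
  hD : ∀ c ∈ Dg H, (c : F) ∈ K0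
  hD' : ∀ c ∈ Dg H, ∃ a : Fˣ, a ^ 2 = c ∧ π (d a) ∈ H

theorem Norm.exists_sub [Finite F] {H : Subgroup (PS F)} (hN : Norm H) (hA : 2 ≤ Nat.card (Ag H)) :
    ∃ (e : Fˣ) (K0 : Subfield F), SubData H e K0 := by
  obtain ⟨e0, he0, he⟩ : ∃ e0 ∈ Ag H, e0 ≠ 0 := by
    by_contra hcon
    push Not at hcon
    have : Ag H = ⊥ := by
      rw [eq_bot_iff]
      intro x hx
      exact hcon x hx
    rw [this] at hA
    simp at hA
  set e := Units.mk0 e0 he
  obtain ⟨s0, hs0, hs00⟩ := hN.ex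
  have hw0 := hN.w_mem hs0 (c := Units.mk0 _ hs00) rfl
  set c0 := Units.mk0 _ hs00
  let A : AddSubgroup F := (Ag H).comap (AddMonoidHom.mulLeft (e : F))
  have hmA : ∀ x, x ∈ A ↔ (e : F) * x ∈ Ag H := fun x => Iff.rfl
  have h1A : (1 : F) ∈ A := by rw [hmA, mul_one]; exact he0
  have key : ∀ c : Fˣ, π (w c) ∈ H → ∀ x ∈ A, x ≠ 0 → ((c : F) ^ 2 * (e : F) ^ 2 * x)⁻¹ ∈ A := by
    intro c hc x hx hx0
    rw [hmA] at hx ⊢
    have := hN.inv_mem' hc hx (mul_ne_zero e.ne_zero hx0)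
    convert this using 1
    have := c.ne_zero
    have := e.ne_zero
    field_simp
  obtain ⟨K0, hK, hm0⟩ := exists_subfield A h1A (mul_ne_zero (pow_ne_zero 2 c0.ne_zero) (pow_ne_zero 2 e.ne_zero)) (key c0 hw0)
  have hm : ∀ c : Fˣ, π (w c) ∈ H → (c : F) ^ 2 * (e : F) ^ 2 ∈ K0 := by
    intro c hc
    have h1 := key c hc 1 h1A one_ne_zero
    rw [mul_one, ← hK] at h1
    have := K0.inv_mem h1
    rwa [inv_inv] at this
  have hDK : ∀ c ∈ Dg H, (c : F) ∈ K0 := by
    intro c hc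
    have := Dg_smul hc he0
    rw [hK, hmA, mul_comm]
    exact this
  refine ⟨e, K0, ?_, ?_, ?_, ?_, hDK, ?_⟩
  · intro x hx
    exact (hmA x).mp ((hK x).mp hx)
  · intro x hx
    have h1 : ((c0 : F) ^ 2 * (e : F) ^ 2)⁻¹ * x ∈ K0 := K0.mul_mem (K0.inv_mem hm0) hx
    rw [hK, hmA] at h1
    have := hN.l_mem hw0 h1
    convert this using 3
    have := c0.ne_zero
    have := e.ne_zero
    rw [Units.val_inv_eq_inv_val]
    field_simp
  · intro s hs
    by_cases h10 : s.1 1 0 = 0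
    · obtain ⟨a, x, hx⟩ := borel s h10
      have hc : a ^ 2 ∈ Dg H := ⟨a, x, rfl, by rw [← hx]; exact hs⟩
      have h1 := hDK _ hc
      rw [Units.val_pow_eq_pow_val] at h1
      have h2 : (s.1 0 0 + s.1 1 1) ^ 2 = (a : F) ^ 2 + 2 + ((a : F) ^ 2)⁻¹ := by
        rw [hx]
        simp only [mul00, mul11, u00, u01, u10, u11, d00, d01, d10, d11, Units.val_inv_eq_inv_val]
        have := a.ne_zero
        field_simp; ring
      rw [h2]
      exact K0.add_mem (K0.add_mem h1 (ofNat_mem K0 2)) (K0.inv_mem h1)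
    · have hc := hN.w_mem hs (c := Units.mk0 _ h10) rfl
      have h1 := hm _ hc
      rw [Units.val_mk0] at h1
      have h2 := (Ag H).add_mem (hN.norm s hs h10) (hN.norm' hs h10)
      have h3 : (s.1 0 0 / s.1 1 0 + s.1 1 1 / s.1 1 0) / e ∈ K0 := by
        rw [hK, hmA, mul_div_cancel₀ _ e.ne_zero]
        exact h2
      have h4 : (s.1 0 0 + s.1 1 1) ^ 2 = (s.1 1 0) ^ 2 * (e : F) ^ 2 * ((s.1 0 0 / s.1 1 0 + s.1 1 1 / s.1 1 0) / e) ^ 2 := by
        have := e.ne_zero
        field_simp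
      rw [h4]
      exact K0.mul_mem h1 (K0.pow_mem h3 2)
  · symm
    apply Nat.card_congr
    refine Equiv.ofBijective (fun x => ⟨e * x.1, (hmA _).mp ((hK _).mp x.2)⟩) ⟨?_, ?_⟩
    · intro x y h
      exact Subtype.ext (mul_left_cancel₀ e.ne_zero (congrArg Subtype.val h))
    · rintro ⟨y, hy⟩
      refine ⟨⟨y / e, ?_⟩, ?_⟩
      · rw [hK, hmA, mul_div_cancel₀ _ e.ne_zero]; exact hy
      · exact Subtype.ext (mul_div_cancel₀ _ e.ne_zero)
  · rintro _ ⟨a, b, rfl, h⟩
    exact ⟨a, rfl, (hN.d_mem h).1⟩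

open scoped Pointwise

theorem π_mem_conj {H : Subgroup (PS F)} {y : F} {s : S F} :
    π s ∈ MulAut.conj (π (u y)) • H ↔ π (u (-y) * s * u y) ∈ H := by
  rw [mem_conj, ← map_inv, u_inv, ← map_mul, ← map_mul]

theorem Ag_conj (H : Subgroup (PS F)) (y : F) : Ag (MulAut.conj (π (u y)) • H) = Ag H := by
  ext x
  rw [mem_Ag, mem_Ag, π_mem_conj, u_mul, u_mul]
  have : -y + x + y = x := by ring
  rw [this]

theorem Dg_conj_le (H : Subgroup (PS F)) (y : F) : Dg (MulAut.conj (π (u y)) • H) ≤ Dg H := by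
  rintro _ ⟨a, b, rfl, h⟩
  rw [π_mem_conj] at h
  refine ⟨a, -y + b + (a : F) ^ 2 * y, rfl, ?_⟩
  have h1 : u (-y) * (u b * d a) * u y = u (-y + b + (a : F) ^ 2 * y) * d a := by
    have h2 := ud_mul b y a 1
    rw [d_one, mul_one, mul_one] at h2
    have h3 : u (-y) * (u b * d a) * u y = u (-y) * ((u b * d a) * u y) := by group
    rw [h3, h2, ← mul_assoc, u_mul, add_assoc]
  rw [← h1]; exact h

theorem Dg_conj (H : Subgroup (PS F)) (y : F) : Dg (MulAut.conj (π (u y)) • H) = Dg H := by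
  apply le_antisymm (Dg_conj_le H y)
  have h := Dg_conj_le (MulAut.conj (π (u y)) • H) (-y)
  have h1 : MulAut.conj (π (u (-y))) • MulAut.conj (π (u y)) • H = H := by
    rw [← mul_smul, ← map_mul, ← map_mul, u_mul, neg_add_cancel, u_zero, map_one, map_one, one_smul]
  rwa [h1] at h

theorem sub_of_pdata [Fintype F] {K : Type*} [Field K] [Fintype K] [Algebra F K] {H : Subgroup (PS F)}
    (D : PData H (∞ : OnePoint K) ((Ub F).subgroupOf H) (Nat.card (Ag H)) (Nat.card (Dg H)) 1) :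
    ∃ (g : PS F) (e : Fˣ) (K0 : Subfield F), SubData (MulAut.conj g • H) e K0 ∧
      Nat.card H = (1 + Nat.card K0) * (Nat.card K0 * Nat.card (Dg (MulAut.conj g • H))) ∧
      Nat.card K0 = Nat.card (Ag H) ∧ Nat.card (Dg (MulAut.conj g • H)) = Nat.card (Dg H) := by
  have hcO := D.cardO
  rw [one_mul] at hcO
  have hq := D.hq
  -- an element moving ∞
  obtain ⟨s0, hs0, hs00⟩ : ∃ s : S F, π s ∈ H ∧ s.1 1 0 ≠ 0 := by
    by_contra hcon
    push Not at hcon
    have : (O H (∞ : OnePoint K)).card ≤ 1 := by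
      rw [Finset.card_le_one]
      have hall : ∀ y ∈ O H (∞ : OnePoint K), y = ∞ := by
        intro y hy
        obtain ⟨⟨g, hg⟩, rfl⟩ := mem_O.mp hy
        obtain ⟨s, rfl⟩ := π_surj g
        exact (smul_infty_iff K).mpr (hcon s hg)
      intro y hy z hz
      rw [hall y hy, hall z hz]
    omega
  have hpt : ∀ s : S F, s.1 1 0 ≠ 0 → (π s) • (∞ : OnePoint K) = ((algebraMap F K (s.1 0 0 / s.1 1 0) : K) : OnePoint K) := by
    intro s hs
    rw [smul_π, OnePoint.smul_infty_eq_ite, ρ_apply, ρ_apply, if_neg (by rw [map_eq_zero]; exact hs), map_div₀]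
  set k0 := s0.1 0 0 / s0.1 1 0
  have hcA : Fintype.card (Ag H) = ((O H (∞ : OnePoint K)).erase ∞).card := by
    rw [Finset.card_erase_of_mem (self_mem_O _), hcO, ← Nat.card_eq_fintype_card]; omega
  let f : Ag H → OnePoint K := fun x => ((algebraMap F K (k0 + x.1) : K) : OnePoint K)
  have hf : Function.Injective f := by
    intro x y h
    have h1 := OnePoint.coe_injective h
    have h2 := (algebraMap F K).injective h1
    exact Subtype.ext (add_left_cancel h2)
  have himg : Finset.univ.image f = (O H (∞ : OnePoint K)).erase ∞ := by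
    apply Finset.eq_of_subset_of_card_le
    · intro z hz
      obtain ⟨x, -, rfl⟩ := Finset.mem_image.mp hz
      rw [Finset.mem_erase]
      refine ⟨OnePoint.coe_ne_infty _, ?_⟩
      rw [mem_O]
      refine ⟨⟨π (u x.1 * s0), by rw [map_mul]; exact H.mul_mem x.2 hs0⟩, ?_⟩
      have h10 : (u x.1 * s0 : S F).1 1 0 = s0.1 1 0 := by simp [mul10]
      change π (u x.1 * s0) • (∞ : OnePoint K) = _
      rw [hpt _ (by rw [h10]; exact hs00)]
      change _ = ((algebraMap F K (k0 + x.1) : K) : OnePoint K)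
      congr 2
      rw [h10, mul00, u00, u01, one_mul, add_div, mul_div_assoc, div_self hs00, mul_one]
    · rw [Finset.card_image_of_injective _ hf, Finset.card_univ, hcA]
  have hall : ∀ s : S F, π s ∈ H → s.1 1 0 ≠ 0 → s.1 0 0 / s.1 1 0 - k0 ∈ Ag H := by
    intro s hs hs1
    have h1 : π s • (∞ : OnePoint K) ∈ (O H (∞ : OnePoint K)).erase ∞ := by
      rw [Finset.mem_erase, hpt s hs1]
      refine ⟨OnePoint.coe_ne_infty _, ?_⟩
      rw [← hpt s hs1]
      exact mem_O.mpr ⟨⟨π s, hs⟩, rfl⟩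
    rw [← himg, hpt s hs1] at h1
    obtain ⟨x, -, hx⟩ := Finset.mem_image.mp h1
    have h2 := (algebraMap F K).injective (OnePoint.coe_injective hx)
    rw [← h2, add_sub_cancel_left]
    exact x.2
  have hNorm : Norm (MulAut.conj (π (u (-k0))) • H) := by
    constructor
    · intro s hs hs1
      rw [Ag_conj]
      rw [π_mem_conj, neg_neg] at hs
      have h10 : (u k0 * s * u (-k0) : S F).1 1 0 = s.1 1 0 := by simp [mul10, mul11]
      have h00 : (u k0 * s * u (-k0) : S F).1 0 0 = s.1 0 0 + k0 * s.1 1 0 := by simp [mul00, mul01]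
      have h := hall _ hs (by rw [h10]; exact hs1)
      rw [h10, h00, add_div, mul_div_assoc, div_self hs1, mul_one, add_sub_cancel_right] at h
      exact h
    · refine ⟨u (-k0) * s0 * u k0, ?_, ?_⟩
      · rw [π_mem_conj, neg_neg]
        have : u k0 * (u (-k0) * s0 * u k0) * u (-k0) = s0 := by
          rw [← u_inv]; group
        rw [this]; exact hs0
      · simp [mul10, mul11]; exact hs00
  obtain ⟨e, K0, hS⟩ := hNorm.exists_sub (by rw [Ag_conj]; exact hq)
  refine ⟨_, e, K0, hS, ?_, ?_, ?_⟩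
  · rw [D.card_G, Dg_conj, ← hS.hcard, Ag_conj, one_mul]
  · rw [← hS.hcard, Ag_conj]
  · rw [Dg_conj]


section iso

/-- conjugation by `diag(e, 1)`. -/
noncomputable def tw (e : Fˣ) : S F →* S F where
  toFun s := mk2 (s.1 0 0) (e * s.1 0 1) ((e⁻¹ : Fˣ) * s.1 1 0) (s.1 1 1) (by
    have := det_eq s
    have he := e.ne_zero
    rw [Units.val_inv_eq_inv_val]
    field_simp
    linear_combination this)
  map_one' := by
    apply ext2 <;> simp [one00, one01, one10, one11]
  map_mul' s t := by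
    have he := e.ne_zero
    apply ext2 <;> simp only [mk00, mk01, mk10, mk11, mul00, mul01, mul10, mul11, Units.val_inv_eq_inv_val] <;> field_simp

theorem tw00 (e : Fˣ) (s : S F) : (tw e s).1 0 0 = s.1 0 0 := rfl
theorem tw01 (e : Fˣ) (s : S F) : (tw e s).1 0 1 = e * s.1 0 1 := rfl
theorem tw10 (e : Fˣ) (s : S F) : (tw e s).1 1 0 = (e⁻¹ : Fˣ) * s.1 1 0 := rfl
theorem tw11 (e : Fˣ) (s : S F) : (tw e s).1 1 1 = s.1 1 1 := rfl

variable {L : Type*} [Field L]

/-- `SL_2(L) → PSL_2(F)` -/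
noncomputable def ψ (e : Fˣ) (ι : L →+* F) : S L →* PS F :=
  (π.comp (tw e)).comp (Matrix.SpecialLinearGroup.map ι)

theorem map_entry (ι : L →+* F) (s : S L) (i j : Fin 2) : (Matrix.SpecialLinearGroup.map ι s).1 i j = ι (s.1 i j) := rfl

theorem ψ_u (e : Fˣ) (ι : L →+* F) (x : L) : ψ e ι (u x) = π (u (e * ι x)) := by
  change π _ = π _
  congr 1
  apply ext2 <;> simp [tw00, tw01, tw10, tw11]

theorem ψ_l (e : Fˣ) (ι : L →+* F) (x : L) : ψ e ι (l x) = π (l ((e⁻¹ : Fˣ) * ι x)) := by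
  change π _ = π _
  congr 1
  apply ext2 <;> simp [tw00, tw01, tw10, tw11]

theorem ψ_ker (e : Fˣ) (ι : L →+* F) : (ψ e ι).ker = Subgroup.center (S L) := by
  ext s
  rw [MonoidHom.mem_ker, mem_center]
  change π (tw e (Matrix.SpecialLinearGroup.map ι s)) = 1 ↔ _
  rw [π_eq_one]
  have hinj : ∀ t : S L, tw e (Matrix.SpecialLinearGroup.map ι s) = tw e (Matrix.SpecialLinearGroup.map ι t) → s = t := by
    intro t h
    have h00 := congrArg (fun x : S F => x.1 0 0) h
    have h01 := congrArg (fun x : S F => x.1 0 1) h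
    have h10 := congrArg (fun x : S F => x.1 1 0) h
    have h11 := congrArg (fun x : S F => x.1 1 1) h
    simp only [tw00, tw01, tw10, tw11, map_entry] at h00 h01 h10 h11
    exact ext2 (ι.injective h00) (ι.injective (mul_left_cancel₀ e.ne_zero h01))
      (ι.injective (mul_left_cancel₀ (Units.ne_zero _) h10)) (ι.injective h11)
  have hneg : tw e (Matrix.SpecialLinearGroup.map ι (-1)) = -1 := by
    apply ext2 <;> simp only [tw00, tw01, tw10, tw11, map_entry, neg00, neg01, neg10, neg11, one00, one01, one10, one11, map_neg, map_one,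
      map_zero, neg_zero, mul_zero]
  constructor
  · rintro (h | h)
    · left; apply hinj; rw [h, map_one, map_one]
    · right; apply hinj; rw [h, hneg]
  · rintro (rfl | rfl)
    · left; rw [map_one, map_one]
    · right; exact hneg

noncomputable def ψe (e : Fˣ) (ι : L →+* F) : PS L ≃* (ψ e ι).range :=
  (QuotientGroup.quotientMulEquivOfEq (ψ_ker e ι).symm).trans (QuotientGroup.quotientKerEquivRange (ψ e ι))

theorem ψ_range_le {H : Subgroup (PS F)} (e : Fˣ) (ι : L →+* F) (hu : ∀ x, π (u (e * ι x)) ∈ H)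
    (hl : ∀ x, π (l ((e⁻¹ : Fˣ) * ι x)) ∈ H) : (ψ e ι).range ≤ H := by
  have : H.comap (ψ e ι) = ⊤ := by
    apply eq_top_of_ul
    · intro x
      rw [Subgroup.mem_comap, ψ_u]; exact hu x
    · intro x
      rw [Subgroup.mem_comap, ψ_l]; exact hl x
  rintro _ ⟨s, rfl⟩
  have h : s ∈ H.comap (ψ e ι) := by rw [this]; exact Subgroup.mem_top s
  exact h

theorem pglMap_injective (ι : L →+* F) : Function.Injective (Matrix.ProjGenLinGroup.map (n := Fin 2) ι) := by
  rw [injective_iff_map_eq_one]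
  intro g
  induction g using Matrix.ProjGenLinGroup.induction_on with | mk g =>
  intro h
  rw [Matrix.ProjGenLinGroup.map_mk, ← map_one Matrix.ProjGenLinGroup.mk, Matrix.ProjGenLinGroup.mk_eq_mk_iff] at h
  obtain ⟨c, hc⟩ := h
  have he : ∀ i j, ι (g i j) * c = (1 : Matrix (Fin 2) (Fin 2) F) i j := by
    intro i j
    have := congrArg (fun m : GL (Fin 2) F => m i j) hc
    simp only [Units.val_mul, Matrix.GeneralLinearGroup.coe_scalar, Units.val_one] at this
    rw [← this]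
    simp [Matrix.mul_apply, Matrix.scalar_apply, Matrix.diagonal_apply]
  have h01 := he 0 1
  have h10 := he 1 0
  have h00 := he 0 0
  have h11 := he 1 1
  simp only [Matrix.one_apply_eq, ne_eq, zero_ne_one, one_ne_zero, not_false_eq_true, Matrix.one_apply_ne, mul_eq_zero, Units.ne_zero, or_false,
    map_eq_zero] at h01 h10 h00 h11
  have h5 : g 0 0 = g 1 1 := ι.injective (mul_right_cancel₀ c.ne_zero (by rw [h00, h11]))
  have hg0 : g 0 0 ≠ 0 := by
    intro h; rw [h, map_zero, zero_mul] at h00; exact zero_ne_one h00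
  rw [← map_one Matrix.ProjGenLinGroup.mk, Matrix.ProjGenLinGroup.mk_eq_mk_iff]
  refine ⟨(Units.mk0 _ hg0)⁻¹, ?_⟩
  apply Matrix.GeneralLinearGroup.ext
  intro i j
  simp only [Units.val_mul, Matrix.GeneralLinearGroup.coe_scalar, Units.val_one, Matrix.mul_apply, Fin.sum_univ_two, Matrix.scalar_apply,
    Matrix.diagonal_apply, Units.val_inv_eq_inv_val, Units.val_mk0]
  fin_cases i <;> fin_cases j <;> simp [h01, h10, ← h5, hg0]

end iso


section pgl
variable {L : Type*} [Field L]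
open Matrix Matrix.ProjGenLinGroup

noncomputable def dg {k : Type*} [Field k] (c : kˣ) : GL (Fin 2) k :=
  Matrix.GeneralLinearGroup.mkOfDetNeZero !![(c : k), 0; 0, 1] (by simp [Matrix.det_fin_two])

theorem dg_coe {k : Type*} [Field k] (c : kˣ) : (dg c).1 = !![(c : k), 0; 0, 1] := rfl

theorem dg_mul {k : Type*} [Field k] (c c' : kˣ) : dg c * dg c' = dg (c * c') := by
  apply Matrix.GeneralLinearGroup.ext
  intro i j
  rw [Units.val_mul, dg_coe, dg_coe, dg_coe]
  fin_cases i <;> fin_cases j <;> simp [Matrix.mul_apply, Fin.sum_univ_two]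

theorem dg_one {k : Type*} [Field k] : dg (1 : kˣ) = 1 := by
  apply Matrix.GeneralLinearGroup.ext
  intro i j
  rw [dg_coe]
  fin_cases i <;> fin_cases j <;> simp

theorem gl_decomp {k : Type*} [Field k] (g : GL (Fin 2) k) :
    ∃ (s : S k) (c : kˣ), g = Matrix.SpecialLinearGroup.toGL s * dg c := by
  set c := Matrix.GeneralLinearGroup.det g
  have hdet : (g * dg c⁻¹).1.det = 1 := by
    rw [Units.val_mul, Matrix.det_mul, dg_coe]
    have : g.1.det = c := rfl
    rw [this]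
    simp [Matrix.det_fin_two]
  refine ⟨⟨(g * dg c⁻¹).1, hdet⟩, c, ?_⟩
  have : Matrix.SpecialLinearGroup.toGL (⟨(g * dg c⁻¹).1, hdet⟩ : S k) = g * dg c⁻¹ := Units.ext rfl
  rw [this, mul_assoc, dg_mul, inv_mul_cancel, dg_one, mul_one]

noncomputable def Φ (e : Fˣ) (ι : L →+* F) : ProjGenLinGroup (Fin 2) L →* ProjGenLinGroup (Fin 2) F :=
  (MulAut.conj (mk (dg e))).toMonoidHom.comp (ProjGenLinGroup.map ι)

theorem Φ_injective (e : Fˣ) (ι : L →+* F) : Function.Injective (Φ e ι) :=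
  (MulAut.conj (mk (dg e))).injective.comp (pglMap_injective ι)

theorem Φ_mk (e : Fˣ) (ι : L →+* F) (g : GL (Fin 2) L) : Φ e ι (mk g) = mk (dg e * Matrix.GeneralLinearGroup.map ι g * (dg e)⁻¹) := by
  rw [map_mul, map_mul, map_inv]
  rfl

theorem J_π (s : S F) : ProjectiveSpecialLinearGroup.toPGL (π s) = mk (SpecialLinearGroup.toGL s) := rfl

theorem Φ_toGL (e : Fˣ) (ι : L →+* F) (s : S L) :
    Φ e ι (mk (SpecialLinearGroup.toGL s)) = ProjectiveSpecialLinearGroup.toPGL (ψ e ι s) := by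
  rw [Φ_mk]
  change _ = ProjectiveSpecialLinearGroup.toPGL (π (tw e (Matrix.SpecialLinearGroup.map ι s)))
  rw [J_π]
  congr 1
  rw [mul_inv_eq_iff_eq_mul]
  apply Matrix.GeneralLinearGroup.ext
  intro i j
  simp only [Units.val_mul, dg_coe, Matrix.mul_apply, Fin.sum_univ_two, Matrix.GeneralLinearGroup.map_apply]
  have hc : ∀ i j, (SpecialLinearGroup.toGL (tw e (Matrix.SpecialLinearGroup.map ι s)) : GL (Fin 2) F) i j = (tw e (Matrix.SpecialLinearGroup.map ι s)).1 i j := fun _ _ => rfl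
  have hd : ∀ i j, (SpecialLinearGroup.toGL s : GL (Fin 2) L) i j = s.1 i j := fun _ _ => rfl
  have he := e.ne_zero
  fin_cases i <;> fin_cases j <;> simp [hc, hd, tw00, tw01, tw10, tw11, map_entry, mul_comm]

theorem Φ_dg (e : Fˣ) (ι : L →+* F) (c : Lˣ) (a : Fˣ) (h : (a : F) ^ 2 = ι c) :
    Φ e ι (mk (dg c)) = ProjectiveSpecialLinearGroup.toPGL (π (d a)) := by
  rw [Φ_mk, J_π]
  symm
  rw [mk_eq_mk_iff]
  refine ⟨a, ?_⟩
  rw [eq_mul_inv_iff_mul_eq]
  apply Matrix.GeneralLinearGroup.ext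
  intro i j
  have hd : ∀ i j, (SpecialLinearGroup.toGL (d a) : GL (Fin 2) F) i j = (d a).1 i j := fun _ _ => rfl
  simp only [Units.val_mul, dg_coe, Matrix.mul_apply, Fin.sum_univ_two, Matrix.GeneralLinearGroup.map_apply, Matrix.GeneralLinearGroup.coe_scalar,
    Matrix.scalar_apply, Matrix.diagonal_apply, hd]
  fin_cases i <;> fin_cases j <;> simp [← h]
  ring

theorem pgl_equiv [Fintype F] [Fintype L] {H : Subgroup (PS F)} (e : Fˣ) (ι : L →+* F) (hu : ∀ x, π (u (e * ι x)) ∈ H)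
    (hl : ∀ x, π (l ((e⁻¹ : Fˣ) * ι x)) ∈ H) (hd : ∀ c : Lˣ, ∃ a : Fˣ, (a : F) ^ 2 = ι c ∧ π (d a) ∈ H)
    (hcard : Nat.card H = Nat.card (ProjGenLinGroup (Fin 2) L)) : Nonempty (H ≃* ProjGenLinGroup (Fin 2) L) := by
  have hle : (Φ e ι).range ≤ H.map ProjectiveSpecialLinearGroup.toPGL := by
    rintro _ ⟨g, rfl⟩
    induction g using Matrix.ProjGenLinGroup.induction_on with | mk g =>
    obtain ⟨s, c, rfl⟩ := gl_decomp g
    rw [map_mul, map_mul]
    apply Subgroup.mul_mem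
    · rw [Φ_toGL]
      exact ⟨_, ψ_range_le e ι hu hl ⟨s, rfl⟩, rfl⟩
    · obtain ⟨a, ha, hda⟩ := hd c
      rw [Φ_dg e ι c a ha]
      exact ⟨_, hda, rfl⟩
  have hinjJ : Function.Injective (ProjectiveSpecialLinearGroup.toPGL : PS F →* _) := ProjectiveSpecialLinearGroup.toPGL_injective
  let eJ : H ≃* H.map ProjectiveSpecialLinearGroup.toPGL := H.equivMapOfInjective _ hinjJ
  let eΦ : ProjGenLinGroup (Fin 2) L ≃* (Φ e ι).range := MonoidHom.ofInjective (Φ_injective e ι)
  have hfinG : Finite (ProjGenLinGroup (Fin 2) F) := inferInstanceAs (Finite (GL (Fin 2) F ⧸ _))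
  have heq : (Φ e ι).range = H.map ProjectiveSpecialLinearGroup.toPGL := by
    apply Subgroup.eq_of_le_of_card_ge hle
    rw [← Nat.card_congr eJ.toEquiv, hcard, Nat.card_congr eΦ.toEquiv]
  exact ⟨eJ.trans ((MulEquiv.subgroupCongr heq.symm).trans eΦ.symm)⟩

theorem psl_equiv [Fintype F] [Fintype L] {H : Subgroup (PS F)} (e : Fˣ) (ι : L →+* F) (hu : ∀ x, π (u (e * ι x)) ∈ H)
    (hl : ∀ x, π (l ((e⁻¹ : Fˣ) * ι x)) ∈ H)
    (hcard : Nat.card H = Nat.card (PS L)) : Nonempty (H ≃* PS L) := by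
  have heq : (ψ e ι).range = H := by
    apply Subgroup.eq_of_le_of_card_ge (ψ_range_le e ι hu hl)
    rw [hcard, Nat.card_congr (ψe e ι).toEquiv]
  exact ⟨(MulEquiv.subgroupCongr heq.symm).trans (ψe e ι).symm⟩

end pgl


section hub
open scoped Pointwise
variable [Fintype F]

theorem sub_final {H : Subgroup (PS F)} {e : Fˣ} {K0 : Subfield F} (hS : SubData H e K0)
    (hcard : Nat.card H = (1 + Nat.card K0) * (Nat.card K0 * Nat.card (Dg H)))
    (ht : Nat.card (Dg H) = Nat.card K0 - 1 ∨ 2 * Nat.card (Dg H) = Nat.card K0 - 1)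
    {L : Type*} [Field L] [Fintype L] (ι : L →+* F) (hι : ∀ x, x ∈ K0 ↔ ∃ y, ι y = x) :
    Nonempty (H ≃* PS L) ∨ Nonempty (H ≃* Matrix.ProjGenLinGroup (Fin 2) L) := by
  have hcL : Nat.card K0 = Fintype.card L := by
    rw [← Nat.card_eq_fintype_card]
    symm
    apply Nat.card_congr
    refine Equiv.ofBijective (fun x => ⟨ι x, (hι _).mpr ⟨x, rfl⟩⟩) ⟨?_, ?_⟩
    · intro x y h
      exact ι.injective (congrArg Subtype.val h)
    · rintro ⟨y, hy⟩
      obtain ⟨x, rfl⟩ := (hι _).mp hy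
      exact ⟨x, rfl⟩
  have hu : ∀ x : L, π (u (e * ι x)) ∈ H := fun x => hS.hu _ ((hι _).mpr ⟨x, rfl⟩)
  have hl : ∀ x : L, π (l ((e⁻¹ : Fˣ) * ι x)) ∈ H := fun x => hS.hl _ ((hι _).mpr ⟨x, rfl⟩)
  have hL1 : 1 < Fintype.card L := Fintype.one_lt_card
  rw [hcL] at hcard ht
  have hSL := card_SL2 (F := L)
  rcases ht with ht | ht
  · right
    apply pgl_equiv e ι hu hl
    · intro c
      have h1 : ∀ c : Fˣ, c ∈ Dg H ↔ (c : F) ∈ K0 := by
        -- both are subgroups of the same order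
        let B : Subgroup Fˣ :=
          { carrier := {c | (c : F) ∈ K0}
            one_mem' := K0.one_mem
            mul_mem' := fun ha hb => K0.mul_mem ha hb
            inv_mem' := by
              intro x hx
              change ((x⁻¹ : Fˣ) : F) ∈ K0
              rw [Units.val_inv_eq_inv_val]; exact K0.inv_mem hx }
        have hle : Dg H ≤ B := hS.hD
        have hB : Nat.card B = Fintype.card L - 1 := by
          have h2 : Nat.card B = Nat.card Lˣ := by
            symm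
            apply Nat.card_congr
            refine Equiv.ofBijective (fun x => ⟨Units.map ι.toMonoidHom x, (hι _).mpr ⟨x, rfl⟩⟩) ⟨?_, ?_⟩
            · intro x y h
              have := congrArg (fun z : B => ((z.1 : Fˣ) : F)) h
              exact Units.ext (ι.injective this)
            · rintro ⟨y, hy⟩
              obtain ⟨x, hx⟩ := (hι _).mp hy
              have hx0 : x ≠ 0 := by
                rintro rfl
                rw [map_zero] at hx
                exact y.ne_zero hx.symm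
              exact ⟨Units.mk0 x hx0, Subtype.ext (Units.ext hx)⟩
          rw [h2, Nat.card_eq_fintype_card, Fintype.card_units]
        have := Subgroup.eq_of_le_of_card_ge hle (by rw [hB, ht])
        intro c
        rw [this]; rfl
      have h2 : Units.map ι.toMonoidHom c ∈ Dg H := (h1 _).mpr ((hι _).mpr ⟨c, rfl⟩)
      obtain ⟨a, ha, hda⟩ := hS.hD' _ h2
      refine ⟨a, ?_, hda⟩
      rw [← Units.val_pow_eq_pow_val, ha]; rfl
    · rw [GL.card_PGL]
      change _ = Nat.card (S L)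
      rw [hSL, hcard, ht]; ring
  · left
    apply psl_equiv e ι hu hl
    have h1 := GL.card_PSL_mul (F := L) rfl 2 (by norm_num)
    change _ * Nat.card (PS L) = Nat.card (S L) at h1
    have h2 : Nat.gcd 2 (Fintype.card L - 1) = 2 := Nat.gcd_eq_left ⟨_, ht.symm⟩
    rw [h2, hSL] at h1
    apply Nat.eq_of_mul_eq_mul_left (show 0 < 2 by norm_num)
    rw [h1, hcard, ← ht]; ring

theorem exists_model (p : ℕ) [Fact p.Prime] [CharP F p] (K0 : Subfield F) :
    ∃ (L : Type) (_ : Field L) (_ : Fintype L) (ι : L →+* F) (m : ℕ), (∀ x, x ∈ K0 ↔ ∃ y, ι y = x) ∧ Fintype.card L ^ m = Fintype.card F := by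
  have hp : p.Prime := Fact.out
  have : CharP K0 p := inferInstance
  obtain ⟨n, hn, hc⟩ := GL2.exists_card_eq (F := K0) p
  let L := GaloisField p n
  have hLfin : Finite L := inferInstance
  letI : Fintype L := Fintype.ofFinite L
  have hcL : Fintype.card L = Fintype.card K0 := by
    rw [hc, ← Nat.card_eq_fintype_card, GaloisField.card p n (by omega)]
  let e : L ≃+* K0 := FiniteField.ringEquivOfCardEq hcL
  refine ⟨L, inferInstance, inferInstance, K0.subtype.comp e.toRingHom, Module.finrank K0 F, ?_, ?_⟩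
  · intro x
    constructor
    · intro hx
      exact ⟨e.symm ⟨x, hx⟩, by simp⟩
    · rintro ⟨y, rfl⟩
      exact (e y).2
  · rw [hcL]
    exact (Module.card_eq_pow_finrank (K := K0) (V := F)).symm

/-- Dickson's theorem for subgroups of order divisible by `p`. -/
theorem hub (p : ℕ) [Fact p.Prime] [CharP F p] (H : Subgroup (PS F)) (hp : p ∣ Nat.card H) : ∃ g : PS F,
    (∀ s : S F, π s ∈ MulAut.conj g • H → s.1 1 0 = 0) ∨
    (p = 2 ∧ ∃ k, (k ∣ (Fintype.card F + 1) / Nat.gcd 2 (Fintype.card F - 1) ∨ k ∣ (Fintype.card F - 1) / Nat.gcd 2 (Fintype.card F - 1)) ∧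
      Nonempty (H ≃* DihedralGroup k)) ∨
    (p = 3 ∧ Nat.card H = 60 ∧ Nonempty (H ≃* alternatingGroup (Fin 5))) ∨
    (∃ (e : Fˣ) (K0 : Subfield F), SubData (MulAut.conj g • H) e K0 ∧
      Nat.card H = (1 + Nat.card K0) * (Nat.card K0 * Nat.card (Dg (MulAut.conj g • H))) ∧
      (Nat.card (Dg (MulAut.conj g • H)) = Nat.card K0 - 1 ∨ 2 * Nat.card (Dg (MulAut.conj g • H)) = Nat.card K0 - 1)) := by
  have hpp : p.Prime := Fact.out
  let K := FiniteField.Extension F p 2
  letI : Fintype K := Fintype.ofFinite K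
  have hsp : ∀ τ : F, ∃ l : K, l ^ 2 - algebraMap F K τ * l + 1 = 0 := hsp_ext p
  obtain ⟨g, hstd⟩ := exists_std p H
  set H' := MulAut.conj g • H with hH'
  have hcH : Nat.card H' = Nat.card H := card_conj g H
  have eH : H ≃* H' := Subgroup.equivSMul (MulAut.conj g) H
  by_cases hfix : ∀ s : S F, π s ∈ H' → s.1 1 0 = 0
  · exact ⟨g, Or.inl hfix⟩
  push Not at hfix
  obtain ⟨s1, hs1, hs1'⟩ := hfix
  obtain ⟨N, D⟩ := pdata K hsp hstd (by rw [hcH]; exact hp) ⟨π s1, hs1, fun h => hs1' ((smul_infty_iff K).mp h)⟩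
  have hA : ∀ r : ℕ, r.Prime → Nat.card (Ag H') = r → p = r := by
    intro r hr h
    have h1 : IsPGroup p ((Ub F).subgroupOf H') := (isPGroup_Ub (F := F) p).comap_subtype (K := H')
    obtain ⟨n, hn⟩ := h1.exists_card_eq
    rw [D.cardP, h] at hn
    exact ((Nat.prime_dvd_prime_iff_eq hr hpp).mp (hr.dvd_of_dvd_pow (dvd_of_eq hn))).symm
  rcases D.cases with ⟨h2, y, hy, hy2⟩ | ⟨hN1, ht⟩ | ⟨h3, ht2, hN3, h60, y, hcov, hy5⟩
  · -- dihedral
    refine ⟨g, Or.inr (Or.inl ⟨hA 2 Nat.prime_two h2, ?_⟩)⟩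
    have hp2 := hA 2 Nat.prime_two h2
    have ht1 : Nat.card (Dg H') = 1 := by
      have := D.ht
      rw [h2] at this
      exact Nat.dvd_one.mp this
    have hG := D.card_G
    have hO := card_O (G := H') y
    rw [hy2] at hO
    rw [h2, ht1] at hG
    have hst : Nat.card (stabilizer H' y) = 1 + N * 2 := by
      rw [hG] at hO; omega
    have hodd : ¬ p ∣ Nat.card (stabilizer H' y) := by
      rw [hst, hp2]; omega
    obtain ⟨hcyc, hdiv⟩ := stab_sub p hsp H' y hodd
    refine ⟨_, hdiv, ?_⟩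
    obtain ⟨e⟩ := dihedral_case (G := H') (X := OnePoint K) (fun x hx => by
      rcases D.fx12 x hx with h | h <;> omega) (fun x hx => by
      rcases D.fx12 x hx with h | h <;> omega) hcyc hy2 hy
    exact ⟨eH.trans e⟩
  · subst hN1
    obtain ⟨g', e, K0, hS, hc, hK, hDD⟩ := sub_of_pdata D
    refine ⟨g' * g, Or.inr (Or.inr (Or.inr ⟨e, K0, ?_⟩))⟩
    have hgg : MulAut.conj (g' * g) • H = MulAut.conj g' • H' := by
      rw [map_mul, mul_smul]
    rw [hgg]
    refine ⟨hS, by rw [← hcH, hc], ?_⟩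
    rw [hK, hDD]; exact ht
  · refine ⟨g, Or.inr (Or.inr (Or.inl ⟨hA 3 Nat.prime_three h3, by rw [← hcH]; exact h60, ?_⟩))⟩
    obtain ⟨e⟩ := D.a5 h60 h3 ht2 hcov hy5
    exact ⟨eH.trans e⟩

end hub


end Cfsg.Agent.H5.Dk
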