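import Mathlib
import Cfsg.Agent.H5_Dk6
import Cfsg.Agent.H5_DihPS
import Cfsg.Agent.H5_SmallIso

set_option autoImplicit false

/-! Proper subgroups of `PSL_2(q)`. -/

namespace Cfsg.Agent.H5.Dk

open MulAction Cfsg.Agent.H5.SL2 Cfsg.Agent.H5.V4
open scoped Pointwise

variable {F : Type*} [Field F]

/-- Borel subgroup of `SL_2(F)` -/
def Bs (F : Type*) [Field F] : Subgroup (S F) where
  carrier := {s | s.1 1 0 = 0}
  one_mem' := one10
  mul_mem' := by
    intro s t hs ht
    have hs : s.1 1 0 = 0 := hs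
    have ht : t.1 1 0 = 0 := ht
    change (s * t).1 1 0 = 0
    rw [mul10, hs, ht, zero_mul, mul_zero, add_zero]
  inv_mem' := by
    intro s hs
    have hs : s.1 1 0 = 0 := hs
    change (s⁻¹).1 1 0 = 0
    rw [inv10, hs, neg_zero]

theorem mem_Bs {s : S F} : s ∈ Bs F ↔ s.1 1 0 = 0 := Iff.rfl

/-- Borel subgroup of `PSL_2(F)` -/
def Bb (F : Type*) [Field F] : Subgroup (PS F) := (Bs F).map π

theorem mem_Bb {s : S F} : π s ∈ Bb F ↔ s.1 1 0 = 0 := by
  rw [Bb, Subgroup.mem_map]
  constructor
  · rintro ⟨t, ht, h⟩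
    rw [mem_Bs] at ht
    rcases π_eq.mp h with rfl | rfl
    · exact ht
    · rw [neg10, neg_eq_zero] at ht; exact ht
  · intro h
    exact ⟨s, h, rfl⟩

theorem comap_Bb : (Bb F).comap π = Bs F := by
  ext s
  rw [Subgroup.mem_comap, mem_Bb, mem_Bs]

theorem card_Bs [Fintype F] : Nat.card (Bs F) = Fintype.card F * (Fintype.card F - 1) := by
  have h1 : Nat.card (F × Fˣ) = Fintype.card F * (Fintype.card F - 1) := by
    classical
    rw [Nat.card_prod, Nat.card_eq_fintype_card, Nat.card_eq_fintype_card, Fintype.card_units]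
  rw [← h1]
  symm
  apply Nat.card_congr
  refine Equiv.ofBijective (fun x => ⟨u x.1 * d x.2, by rw [mem_Bs]; simp [mul10]⟩) ⟨?_, ?_⟩
  · rintro ⟨x, a⟩ ⟨y, b⟩ h
    have h := congrArg Subtype.val h
    have e00 := congrArg (fun m : S F => m.1 0 0) h
    have e01 := congrArg (fun m : S F => m.1 0 1) h
    simp only [mul00, mul01, u00, u01, d00, d01, d10, d11, one_mul, mul_zero, add_zero, zero_add] at e00 e01
    have hab : a = b := Units.ext e00
    subst hab
    rw [Prod.mk.injEq]
    exact ⟨mul_right_cancel₀ (Units.ne_zero _) e01, rfl⟩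
  · rintro ⟨s, hs⟩
    obtain ⟨a, x, hx⟩ := borel s hs
    exact ⟨(x, a), Subtype.ext hx.symm⟩

theorem card_Bb [Fintype F] : Nat.gcd 2 (Fintype.card F - 1) * Nat.card (Bb F) = Fintype.card F * (Fintype.card F - 1) := by
  rw [← card_Bs, ← comap_Bb, card_comap_π]

theorem pgl_even {L : Type*} [Field L] [Fintype L] (h : Fintype.card L % 2 = 0) :
    Nonempty (Matrix.ProjGenLinGroup (Fin 2) L ≃* PS L) := by
  have hinj : Function.Injective (Matrix.ProjectiveSpecialLinearGroup.toPGL : PS L →* _) := Matrix.ProjectiveSpecialLinearGroup.toPGL_injective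
  have hcard : Nat.card (PS L) = Nat.card (Matrix.ProjGenLinGroup (Fin 2) L) := by
    rw [GL.card_PGL, ← GL.card_PSL_mul (F := L) rfl 2 (by norm_num)]
    have hq1 : 1 < Fintype.card L := Fintype.one_lt_card
    rcases DihPS.gcd_cases (F := L) with ⟨h1, h2⟩ | ⟨h1, h2⟩
    · rw [h1, one_mul]
    · omega
  have hfin : Finite (Matrix.ProjGenLinGroup (Fin 2) L) := inferInstanceAs (Finite (GL (Fin 2) L ⧸ _))
  have hb : Function.Bijective (Matrix.ProjectiveSpecialLinearGroup.toPGL : PS L →* _) :=
    (Nat.bijective_iff_injective_and_card _).mpr ⟨hinj, hcard⟩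
  exact ⟨(MulEquiv.ofBijective _ hb).symm⟩

theorem proper_list [Fintype F] {q : ℕ} (hF : Fintype.card F = q) {M : Subgroup (PS F)} (hM : M ≠ ⊤) :
    (∃ k : ℕ, (k ∣ (q + 1) / Nat.gcd 2 (q - 1) ∨ k ∣ (q - 1) / Nat.gcd 2 (q - 1)) ∧
      ((IsCyclic M ∧ Nat.card M = k) ∨ Nonempty (M ≃* DihedralGroup k))) ∨
    (∃ g : PS F, MulAut.conj g • M ≤ Bb F) ∨
    Nonempty (M ≃* alternatingGroup (Fin 4)) ∨ Nonempty (M ≃* Equiv.Perm (Fin 4)) ∨ Nonempty (M ≃* alternatingGroup (Fin 5)) ∨
    (∃ (L : Type) (_ : Field L) (_ : Fintype L) (m : ℕ), 2 ≤ m ∧ Fintype.card L ^ m = q ∧ Nonempty (M ≃* PS L)) ∨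
    (∃ (L : Type) (_ : Field L) (_ : Fintype L) (m : ℕ), 2 ≤ m ∧ q % 2 = 1 ∧ Fintype.card L ^ m = q ∧
      Nonempty (M ≃* Matrix.ProjGenLinGroup (Fin 2) L)) := by
  subst hF
  obtain ⟨p, hp⟩ := CharP.exists F
  have hpp : Fact p.Prime := ⟨CharP.char_is_prime F p⟩
  have hq1 : 1 < Fintype.card F := Fintype.one_lt_card
  by_cases hp : p ∣ Nat.card M
  · obtain ⟨g, h | h | h | ⟨e, K0, hS, hc, ht⟩⟩ := hub p M hp
    · right; left
      refine ⟨g, ?_⟩
      intro x hx
      obtain ⟨s, rfl⟩ := π_surj x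
      exact mem_Bb.mpr (h s hx)
    · obtain ⟨-, k, hk, hk'⟩ := h
      exact Or.inl ⟨k, hk, Or.inr hk'⟩
    · right; right; right; right; left
      exact h.2.2
    · obtain ⟨L, iL, iL', ι, m, hι, hm⟩ := exists_model p K0
      have hl1 : 1 < Fintype.card L := Fintype.one_lt_card
      have eH : M ≃* (MulAut.conj g • M : Subgroup _) := Subgroup.equivSMul (MulAut.conj g) M
      have hm0 : m ≠ 0 := by rintro rfl; simp at hm; omega
      have hpar : Fintype.card F % 2 = Fintype.card L % 2 := by
        rw [← hm]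
        rcases Nat.mod_two_eq_zero_or_one (Fintype.card L) with h | h
        · have := Nat.even_iff.mp (Nat.even_pow.mpr ⟨Nat.even_iff.mpr h, hm0⟩)
          omega
        · rw [Nat.pow_mod, h, one_pow]; norm_num
      have hcPS : Fintype.card L = Fintype.card F → Nat.card (PS L) = Nat.card (PS F) := by
        intro h
        have h1 := GL.card_PSL_mul (F := L) rfl 2 (by norm_num)
        have h2 := GL.card_PSL_mul (F := F) rfl 2 (by norm_num)
        have h3 : Nat.card (S L) = Nat.card (S F) := by rw [card_SL2, card_SL2, h]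
        change _ * Nat.card (PS L) = Nat.card (S L) at h1
        change _ * Nat.card (PS F) = Nat.card (S F) at h2
        rw [h3, ← h2, h] at h1
        exact Nat.eq_of_mul_eq_mul_left (Nat.gcd_pos_of_pos_left _ (by norm_num)) h1
      have hpsl : Nonempty (M ≃* PS L) → 2 ≤ m := by
        rintro ⟨e1⟩
        by_contra hcon
        have hm1 : m = 1 := by omega
        subst hm1
        rw [pow_one] at hm
        apply hM
        apply Subgroup.eq_top_of_card_eq
        rw [Nat.card_congr e1.toEquiv, hcPS hm]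
      have hfin := sub_final hS (by rw [← hc]; exact card_conj g M) ht ι hι
      have hcase : Nonempty (M ≃* PS L) ∨ (Fintype.card L % 2 = 1 ∧ Nonempty (M ≃* Matrix.ProjGenLinGroup (Fin 2) L)) := by
        rcases hfin with h1 | h1
        · left; obtain ⟨e1⟩ := h1; exact ⟨eH.trans e1⟩
        · obtain ⟨e1⟩ := h1
          rcases Nat.mod_two_eq_zero_or_one (Fintype.card L) with h | h
          · left
            obtain ⟨e2⟩ := pgl_even h
            exact ⟨(eH.trans e1).trans e2⟩
          · right; exact ⟨h, ⟨eH.trans e1⟩⟩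
      rcases hcase with h1 | ⟨h0, h1⟩
      · right; right; right; right; right; left
        exact ⟨L, iL, iL', m, hpsl h1, hm, h1⟩
      · right; right; right; right; right; right
        refine ⟨L, iL, iL', m, ?_, by rw [hpar]; exact h0, hm, h1⟩
        obtain ⟨e1⟩ := h1
        by_contra hcon
        have hm1 : m = 1 := by omega
        subst hm1
        rw [pow_one] at hm
        have h2 := Subgroup.card_subgroup_dvd_card M
        have hfin : Finite (PS F) := inferInstance
        have h3 : 0 < Nat.card (PS F) := Nat.card_pos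
        have h4 := Nat.le_of_dvd h3 h2
        rw [Nat.card_congr e1.toEquiv, GL.card_PGL, ← GL.card_PSL_mul (F := L) rfl 2 (by norm_num)] at h4
        rcases DihPS.gcd_cases (F := L) with ⟨h5, h6⟩ | ⟨h5, h6⟩
        · omega
        · rw [h5] at h4
          have h7 : Nat.card (Matrix.ProjectiveSpecialLinearGroup (Fin 2) L) = Nat.card (PS F) := hcPS hm
          rw [h7] at h4
          omega
  · letI : Fintype (FiniteField.Extension F p 2) := Fintype.ofFinite _
    classical
    rcases hub_coprime (K := FiniteField.Extension F p 2) p (hsp_ext p) M hp with h | h | h | h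
    · exact Or.inl h
    · exact Or.inr (Or.inr (Or.inl h))
    · exact Or.inr (Or.inr (Or.inr (Or.inl h)))
    · exact Or.inr (Or.inr (Or.inr (Or.inr (Or.inl h))))

theorem even_cases [Fintype F] (h : Fintype.card F % 2 = 0) : Fintype.card F = 2 ∨ Fintype.card F = 4 ∨ Fintype.card F = 8 ∨ 16 ≤ Fintype.card F := by
  obtain ⟨p, hp⟩ := CharP.exists F
  have hpp : Fact p.Prime := ⟨CharP.char_is_prime F p⟩
  obtain ⟨n, hn, hq⟩ := GL2.exists_card_eq (F := F) p
  have hp2 : p = 2 := by
    rcases (Fact.out : p.Prime).eq_two_or_odd with h2 | h2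
    · exact h2
    · exfalso
      rw [hq, Nat.pow_mod, h2, one_pow] at h
      norm_num at h
  subst hp2
  rw [hq]
  rcases Nat.lt_or_ge n 4 with h4 | h4
  · interval_cases n <;> simp
  · right; right; right
    calc 16 = 2 ^ 4 := by norm_num
      _ ≤ 2 ^ n := Nat.pow_le_pow_right (by norm_num) h4

theorem card_PS_mul [Fintype F] : Nat.gcd 2 (Fintype.card F - 1) * Nat.card (PS F) = Fintype.card F * (Fintype.card F - 1) * (Fintype.card F + 1) :=
  SmallIso.card_PSL2

theorem card_A4 : Nat.card (alternatingGroup (Fin 4)) = 12 := by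
  rw [nat_card_alternatingGroup, Nat.card_eq_fintype_card, Fintype.card_fin]; decide
theorem card_A5 : Nat.card (alternatingGroup (Fin 5)) = 60 := by
  rw [nat_card_alternatingGroup, Nat.card_eq_fintype_card, Fintype.card_fin]; decide
theorem card_S4 : Nat.card (Equiv.Perm (Fin 4)) = 24 := by
  rw [Nat.card_perm, Nat.card_eq_fintype_card, Fintype.card_fin]; decide
theorem card_dih {k : ℕ} : Nat.card (DihedralGroup k) = 2 * k := DihedralGroup.nat_card

theorem card_PGL2 {L : Type*} [Field L] [Fintype L] : Nat.card (Matrix.ProjGenLinGroup (Fin 2) L) = Fintype.card L * (Fintype.card L - 1) * (Fintype.card L + 1) := by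
  rw [GL.card_PGL]; exact card_SL2

end Cfsg.Agent.H5.Dk
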