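import Mathlib
import Cfsg.Agent.H5_DkL

set_option autoImplicit false

/-! Dihedral subgroups inside `A_4`, `S_4`, `A_5`; numerical data. -/

namespace Cfsg.Agent.H5.Dk

open Cfsg.Agent.H5.SL2 Cfsg.Agent.H5.V4
open scoped Pointwise

theorem ord_A4 : ∀ x : alternatingGroup (Fin 4), x ^ 2 = 1 ∨ x ^ 3 = 1 := by decide +kernel
theorem ord_S4 : ∀ x : Equiv.Perm (Fin 4), x ^ 3 = 1 ∨ x ^ 4 = 1 := by decide +kernel
theorem ord_A5 : ∀ x : alternatingGroup (Fin 5), x ^ 2 = 1 ∨ x ^ 3 = 1 ∨ x ^ 5 = 1 := by decide +kernel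
theorem comm_A4 : ∀ x y : alternatingGroup (Fin 4), x * x = 1 → y * y = 1 → x * y = y * x := by decide +kernel

theorem dih_in {G Q : Type*} [Group G] [Group Q] {H M : Subgroup G} (hHM : H ≤ M) {k : ℕ} (e : H ≃* DihedralGroup k) (e' : M ≃* Q) :
    ∃ φ : DihedralGroup k →* Q, Function.Injective φ :=
  ⟨e'.toMonoidHom.comp ((Subgroup.inclusion hHM).comp e.symm.toMonoidHom),
    e'.injective.comp ((Subgroup.inclusion_injective hHM).comp e.symm.injective)⟩

theorem dih_A4 {k : ℕ} [NeZero k] (φ : DihedralGroup k →* alternatingGroup (Fin 4)) (h : Function.Injective φ) : k = 1 ∨ k = 2 := by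
  have h1 : orderOf (φ (DihedralGroup.r 1)) = k := by
    rw [orderOf_injective φ h, DihedralGroup.orderOf_r_one]
  have h2 : k ∣ 2 ∨ k ∣ 3 := by
    rcases ord_A4 (φ (DihedralGroup.r 1)) with h2 | h2
    · left; rw [← h1]; exact orderOf_dvd_of_pow_eq_one h2
    · right; rw [← h1]; exact orderOf_dvd_of_pow_eq_one h2
  rcases h2 with h2 | h2
  · exact (Nat.dvd_prime Nat.prime_two).mp h2
  · rcases (Nat.dvd_prime Nat.prime_three).mp h2 with h3 | h3
    · exact Or.inl h3
    · exfalso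
      subst h3
      have h4 := comm_A4 (φ (DihedralGroup.sr 0)) (φ (DihedralGroup.sr 1)) (by rw [← map_mul, DihedralGroup.sr_mul_self, map_one])
        (by rw [← map_mul, DihedralGroup.sr_mul_self, map_one])
      rw [← map_mul, ← map_mul] at h4
      have h5 := h h4
      revert h5; decide

theorem dih_S4 {k : ℕ} [NeZero k] (φ : DihedralGroup k →* Equiv.Perm (Fin 4)) (h : Function.Injective φ) : k ≤ 4 := by
  have h1 : orderOf (φ (DihedralGroup.r 1)) = k := by
    rw [orderOf_injective φ h, DihedralGroup.orderOf_r_one]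
  rcases ord_S4 (φ (DihedralGroup.r 1)) with h2 | h2
  · have := Nat.le_of_dvd (by norm_num) (orderOf_dvd_of_pow_eq_one h2)
    omega
  · have := Nat.le_of_dvd (by norm_num) (orderOf_dvd_of_pow_eq_one h2)
    omega

theorem dih_A5 {k : ℕ} [NeZero k] (φ : DihedralGroup k →* alternatingGroup (Fin 5)) (h : Function.Injective φ) : k = 1 ∨ k = 2 ∨ k = 3 ∨ k = 5 := by
  have h1 : orderOf (φ (DihedralGroup.r 1)) = k := by
    rw [orderOf_injective φ h, DihedralGroup.orderOf_r_one]
  rcases ord_A5 (φ (DihedralGroup.r 1)) with h2 | h2 | h2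
  · have h3 := orderOf_dvd_of_pow_eq_one h2
    rw [h1] at h3
    rcases (Nat.dvd_prime Nat.prime_two).mp h3 with h4 | h4 <;> omega
  · have h3 := orderOf_dvd_of_pow_eq_one h2
    rw [h1] at h3
    rcases (Nat.dvd_prime Nat.prime_three).mp h3 with h4 | h4 <;> omega
  · have h3 := orderOf_dvd_of_pow_eq_one h2
    rw [h1] at h3
    rcases (Nat.dvd_prime Nat.prime_five).mp h3 with h4 | h4 <;> omega

variable {F : Type*} [Field F]

theorem le_of_list [Fintype F] {k : ℕ} (hk : k ∣ (Fintype.card F + 1) / Nat.gcd 2 (Fintype.card F - 1) ∨ k ∣ (Fintype.card F - 1) / Nat.gcd 2 (Fintype.card F - 1)) :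
    Nat.gcd 2 (Fintype.card F - 1) * k ≤ Fintype.card F + 1 := by
  have hq1 : 1 < Fintype.card F := Fintype.one_lt_card
  have hd := DihPS.gcd_cases (F := F)
  have hdpos : 0 < Nat.gcd 2 (Fintype.card F - 1) := Nat.gcd_pos_of_pos_left _ (by norm_num)
  have h1 : k ≤ (Fintype.card F + 1) / Nat.gcd 2 (Fintype.card F - 1) := by
    rcases hk with hk | hk
    · exact Nat.le_of_dvd (Nat.div_pos (by omega) hdpos) hk
    · have : 0 < (Fintype.card F - 1) / Nat.gcd 2 (Fintype.card F - 1) := Nat.div_pos (by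
        rcases hd with h | h
        · omega
        · omega) hdpos
      exact (Nat.le_of_dvd this hk).trans (Nat.div_le_div_right (by omega))
  calc Nat.gcd 2 (Fintype.card F - 1) * k ≤ Nat.gcd 2 (Fintype.card F - 1) * ((Fintype.card F + 1) / Nat.gcd 2 (Fintype.card F - 1)) := Nat.mul_le_mul_left _ h1
    _ ≤ Fintype.card F + 1 := Nat.mul_div_le _ _

theorem gcd_sub [Fintype F] {L : Type*} [Field L] [Fintype L] {m : ℕ} (hm : 1 ≤ m) (h : Fintype.card L ^ m = Fintype.card F) :
    Nat.gcd 2 (Fintype.card L - 1) = Nat.gcd 2 (Fintype.card F - 1) := by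
  have hpar : Fintype.card F % 2 = Fintype.card L % 2 := by
    rw [← h]
    rcases Nat.mod_two_eq_zero_or_one (Fintype.card L) with h | h
    · have := Nat.even_iff.mp (Nat.even_pow.mpr ⟨Nat.even_iff.mpr h, (by omega : m ≠ 0)⟩)
      omega
    · rw [Nat.pow_mod, h, one_pow]; norm_num
  rcases DihPS.gcd_cases (F := F) with ⟨h1, h2⟩ | ⟨h1, h2⟩ <;> rcases DihPS.gcd_cases (F := L) with ⟨h3, h4⟩ | ⟨h3, h4⟩ <;> omega

theorem sq_sub_eq (r : ℕ) : r * (r - 1) * (r + 1) = r * (r * r - 1) := by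
  have : (r - 1) * (r + 1) = r * r - 1 := by rw [mul_comm, ← Nat.sq_sub_sq, one_pow, sq]
  rw [mul_assoc, this]

theorem order_PS [Fintype F] (p : ℕ) [Fact p.Prime] [CharP F p] (x : PS F) (hx : ¬ p ∣ orderOf x) :
    orderOf x ∣ (Fintype.card F + 1) / Nat.gcd 2 (Fintype.card F - 1) ∨ orderOf x ∣ (Fintype.card F - 1) / Nat.gcd 2 (Fintype.card F - 1) := by
  classical
  letI : Fintype (FiniteField.Extension F p 2) := Fintype.ofFinite _
  letI := inst F (FiniteField.Extension F p 2)
  obtain ⟨s, rfl⟩ := π_surj x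
  obtain ⟨z, hz⟩ := exists_fixed (K := FiniteField.Extension F p 2) (hsp_ext p) s
  have h := stab_data (K := FiniteField.Extension F p 2) p (hsp_ext p) (Subgroup.zpowers (π s)) (by rw [Nat.card_zpowers]; exact hx) z (by
    intro g hg
    have h1 : π s ∈ MulAction.stabilizer (PS F) z := by
      rw [MulAction.mem_stabilizer_iff, smul_π]; exact hz
    exact (Subgroup.zpowers_le.mpr h1) hg)
  rw [Nat.card_zpowers] at h
  exact h.2

theorem sq_mem_PSL {L : Type*} [Field L] (x : Matrix.ProjGenLinGroup (Fin 2) L) :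
    ∃ y : PS L, Matrix.ProjectiveSpecialLinearGroup.toPGL y = x ^ 2 := by
  induction x using Matrix.ProjGenLinGroup.induction_on with | mk g =>
  set c := Matrix.GeneralLinearGroup.det g
  have hdet : (g * g * (Matrix.GeneralLinearGroup.scalar (Fin 2) c)⁻¹).1.det = 1 := by
    have h1 : Matrix.GeneralLinearGroup.det (g * g * (Matrix.GeneralLinearGroup.scalar (Fin 2) c)⁻¹) = 1 := by
      rw [map_mul, map_mul, map_inv]
      have h2 : Matrix.GeneralLinearGroup.det (Matrix.GeneralLinearGroup.scalar (Fin 2) c) = c * c := by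
        apply Units.ext
        rw [Matrix.GeneralLinearGroup.val_det_apply, Matrix.GeneralLinearGroup.coe_scalar, Matrix.scalar_apply, Matrix.det_diagonal]
        simp [sq]
      rw [h2, mul_inv_cancel]
    exact congrArg Units.val h1
  let t : S L := ⟨(g * g * (Matrix.GeneralLinearGroup.scalar (Fin 2) c)⁻¹).1, hdet⟩
  have ht : Matrix.SpecialLinearGroup.toGL t = g * g * (Matrix.GeneralLinearGroup.scalar (Fin 2) c)⁻¹ := Units.ext rfl
  refine ⟨π t, ?_⟩
  rw [J_π, ht, ← map_pow, Matrix.ProjGenLinGroup.mk_eq_mk_iff]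
  refine ⟨c, ?_⟩
  rw [inv_mul_cancel_right, sq]

theorem invol_Bb [Fintype F] (h2 : (2 : F) = 0) {z : PS F} (hz : z ∈ Bb F) (hz2 : z * z = 1) : z ∈ Ub F := by
  obtain ⟨s, rfl⟩ := π_surj z
  have h10 := mem_Bb.mp hz
  obtain ⟨a, x, rfl⟩ := borel s h10
  rw [← map_mul, π_eq_one] at hz2
  have h3 : (a : F) ^ 2 = 1 ∨ (a : F) ^ 2 = -1 := by
    rcases hz2 with h | h
    · left
      have := congrArg (fun m : S F => m.1 0 0) h
      simp only [mul00, mul10, mul01, u00, u01, u10, u11, d00, d01, d10, d11, one00] at this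
      linear_combination this
    · right
      have := congrArg (fun m : S F => m.1 0 0) h
      simp only [mul00, mul10, mul01, u00, u01, u10, u11, d00, d01, d10, d11, one00, neg00] at this
      linear_combination this
  have h4 : (a : F) ^ 2 = 1 := by
    rcases h3 with h | h
    · exact h
    · rw [h]; linear_combination -h2
  have h5 : ((a : F) - 1) ^ 2 = 0 := by linear_combination h4 + (1 - a) * h2
  have h6 : (a : F) = 1 := sub_eq_zero.mp (pow_eq_zero_iff (two_ne_zero) |>.mp h5)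
  have h7 : a = 1 := Units.ext h6
  rw [h7, d_one, mul_one]
  exact mem_Ub.mpr ⟨x, rfl⟩

theorem Ub_sq (h2 : (2 : F) = 0) {z : PS F} (hz : z ∈ Ub F) : z * z = 1 := by
  obtain ⟨x, rfl⟩ := mem_Ub.mp hz
  rw [← map_mul, u_mul]
  have : x + x = 0 := by linear_combination x * h2
  rw [this, u_zero, map_one]


end Cfsg.Agent.H5.Dk
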