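import Mathlib
import Cfsg.Agent.H5_V4d

set_option autoImplicit false

/-! `A_4` and `S_4` in `PSL_2(q)`, `q` odd; conjugacy of four-groups. -/

namespace Cfsg.Agent.H5.V4

open Matrix SL2 SL2Quat Rec

theorem exists_s4_of {G : Type*} [Group G] [Finite G] {a b c r : G} (h : IsCPair a b) (hca : c * a * c⁻¹ = b)
    (hcb : c * b * c⁻¹ = a * b) (hc : c * c * c = 1) (hra : r * a * r⁻¹ = b) (hrb : r * b * r⁻¹ = a) (hr : r * r = 1)
    (hcent : ∀ g : G, g * a = a * g → g * b = b * g → g ∈ klein h) :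
    ∃ H : Subgroup G, Nonempty (H ≃* Equiv.Perm (Fin 4)) := by
  obtain ⟨A, ha, hb, hcA, hA12, hAmem, -⟩ := exists_a4 h hca hcb hc
  have hcab := cab h hca hcb
  have haab : a ≠ a * b := fun h' => h.b1 (mul_eq_left.mp h'.symm)
  have hbab : b ≠ a * b := fun h' => h.a1 (mul_eq_right.mp h'.symm)
  have hrab : r * (a * b) * r⁻¹ = a * b := by
    calc r * (a * b) * r⁻¹ = (r * a * r⁻¹) * (r * b * r⁻¹) := by group
      _ = a * b := by rw [hra, hrb, h.ab]
  have hri : r⁻¹ = r := inv_eq_of_mul_eq_one_left hr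
  have hKA : klein h ≤ A := fun x hx => (hAmem x).mpr ⟨x, hx, 1, Subgroup.one_mem _, by simp⟩
  have hrK : ∀ k ∈ klein h, r * k * r⁻¹ ∈ klein h := by
    intro k hk
    rcases (mem_klein h k).mp hk with rfl | rfl | rfl | rfl
    · left; group
    · right; right; left; exact hra
    · right; left; exact hrb
    · right; right; right; exact hrab
  have hcinv : c⁻¹ * a * c = a * b ∧ c⁻¹ * b * c = a := by
    constructor
    · calc c⁻¹ * a * c = c⁻¹ * (c * (a * b) * c⁻¹) * c := by rw [hcab]
        _ = a * b := by group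
    · calc c⁻¹ * b * c = c⁻¹ * (c * a * c⁻¹) * c := by rw [hca]
        _ = a := by group
  have hrc : r * c * r⁻¹ * c ∈ klein h := by
    apply hcent
    · -- r c r⁻¹ c a = r c r⁻¹ b c = r c a r⁻¹ c = r b c r⁻¹ c = a r c r⁻¹ c
      have e1 : c * a = b * c := mul_inv_eq_iff_eq_mul.mp hca
      have e2 : r⁻¹ * b = a * r⁻¹ := by rw [← hra]; group
      have e3 : r * b = a * r := mul_inv_eq_iff_eq_mul.mp hrb
      calc r * c * r⁻¹ * c * a = r * c * r⁻¹ * (c * a) := by group
        _ = r * c * (r⁻¹ * b) * c := by rw [e1]; group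
        _ = r * (c * a) * r⁻¹ * c := by rw [e2]; group
        _ = (r * b) * c * r⁻¹ * c := by rw [e1]; group
        _ = a * (r * c * r⁻¹ * c) := by rw [e3]; group
    · have e1 : c * b = a * b * c := mul_inv_eq_iff_eq_mul.mp hcb
      have e2 : r⁻¹ * (a * b) = a * b * r⁻¹ := by
        calc r⁻¹ * (a * b) = r⁻¹ * (r * (a * b) * r⁻¹) := by rw [hrab]
          _ = _ := by group
      have e3 : c * (a * b) = a * c := mul_inv_eq_iff_eq_mul.mp hcab
      have e4 : r * a = b * r := mul_inv_eq_iff_eq_mul.mp hra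
      calc r * c * r⁻¹ * c * b = r * c * r⁻¹ * (c * b) := by group
        _ = r * c * (r⁻¹ * (a * b)) * c := by rw [e1]; group
        _ = r * (c * (a * b)) * r⁻¹ * c := by rw [e2]; group
        _ = (r * a) * c * r⁻¹ * c := by rw [e3]; group
        _ = b * (r * c * r⁻¹ * c) := by rw [e4]; group
  have hrcA : r * c * r⁻¹ ∈ A := by
    have : r * c * r⁻¹ = (r * c * r⁻¹ * c) * c⁻¹ := by group
    rw [this]
    exact A.mul_mem (hKA hrc) (A.inv_mem hcA)
  have hrA : ∀ x ∈ A, r * x * r⁻¹ ∈ A := by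
    intro x hx
    obtain ⟨k, hk, y, hy, rfl⟩ := (hAmem x).mp hx
    have h1 : r * (k * y) * r⁻¹ = (r * k * r⁻¹) * (r * y * r⁻¹) := by group
    rw [h1]
    apply A.mul_mem (hKA (hrK k hk))
    obtain ⟨n, hn⟩ := hy
    have hn : c ^ n = y := hn
    have h2 : r * y * r⁻¹ = (r * c * r⁻¹) ^ n := by
      rw [conj_zpow, hn]
    rw [h2]
    exact A.zpow_mem hrcA n
  have hz : ∀ x ∈ Subgroup.zpowers r, x = 1 ∨ x = r := by
    rintro x ⟨n, rfl⟩
    change r ^ n = 1 ∨ r ^ n = r
    rcases Int.even_or_odd n with ⟨m, rfl⟩ | ⟨m, rfl⟩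
    · left; rw [← two_mul, _root_.zpow_mul, _root_.zpow_two, hr, _root_.one_zpow]
    · right; rw [_root_.zpow_add, _root_.zpow_mul, _root_.zpow_two, hr, _root_.one_zpow, one_mul, _root_.zpow_one]
  have hn : ∀ x ∈ Subgroup.zpowers r, ∀ k ∈ A, x * k * x⁻¹ ∈ A := by
    intro x hx k hk
    rcases hz x hx with rfl | rfl
    · simpa using hk
    · exact hrA k hk
  -- r ∉ A
  have hrnot : r ∉ A := by
    intro hrA'
    obtain ⟨k, hk, y, hy, hky⟩ := (hAmem r).mp hrA'
    -- k acts trivially; y acts as a power of c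
    have hkst : ∀ x ∈ klein h, k * x * k⁻¹ = x := by
      intro x hx
      have hcomm : k * x = x * k := by
        have hK := isKleinFour_klein h
        have := IsKleinFour.isMulCommutative (G := klein h)
        exact congrArg Subtype.val (this.is_comm.comm (⟨k, hk⟩ : klein h) ⟨x, hx⟩)
      rw [hcomm]; group
    have hyab : y * (a * b) * y⁻¹ = a * b := by
      have h1 := hrab
      rw [hky] at h1
      have h2 : y * (a * b) * y⁻¹ ∈ klein h := klein_norm_zpowers h hca hcb hc y hy _ (Or.inr (Or.inr (Or.inr rfl)))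
      have h3 := hkst _ h2
      calc y * (a * b) * y⁻¹ = k * (y * (a * b) * y⁻¹) * k⁻¹ := h3.symm
        _ = k * y * (a * b) * (k * y)⁻¹ := by group
        _ = a * b := h1
    have hy1 : y = 1 := by
      by_contra hy1
      exact no_comm h hca hcb hc hy hy1 (Or.inr (Or.inr (Or.inr rfl))) (ab_ne_one h) (mul_inv_eq_iff_eq_mul.mp hyab)
    rw [hy1, mul_one] at hky
    rw [hky] at hra
    rw [hkst a (Or.inr (Or.inl rfl))] at hra
    exact h.ne hra
  have hd : ∀ x, x ∈ A → x ∈ Subgroup.zpowers r → x = 1 := by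
    intro x hx hx'
    rcases hz x hx' with h1 | h1
    · exact h1
    · rw [h1] at hx; exact absurd hx hrnot
  set H := prodSub A (Subgroup.zpowers r) hn with hH
  have hr1 : r ≠ 1 := by rintro rfl; exact hrnot A.one_mem
  have hor : orderOf r = 2 := orderOf_eq_prime (by rw [sq, hr]) hr1
  have hcard : Nat.card H = 24 := by
    rw [hH, card_prodSub hd, hA12, Nat.card_zpowers, hor]
  have hAH : A ≤ H := fun x hx => ⟨x, hx, 1, Subgroup.one_mem _, by simp⟩
  have hrH : r ∈ H := ⟨1, A.one_mem, r, Subgroup.mem_zpowers r, by simp⟩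
  have h' : IsCPair (⟨a, hAH ha⟩ : H) ⟨b, hAH hb⟩ :=
    ⟨Subtype.ext h.aa, Subtype.ext h.bb, Subtype.ext h.ab, fun h' => h.a1 (congrArg Subtype.val h'),
      fun h' => h.b1 (congrArg Subtype.val h'), fun h' => h.ne (congrArg Subtype.val h')⟩
  exact ⟨H, s4_rec (c := ⟨c, hAH hcA⟩) (r := ⟨r, hrH⟩) hcard h' (Subtype.ext hca) (Subtype.ext hcb) (Subtype.ext hc)
    (Subtype.ext hra) (Subtype.ext hrb)⟩

variable {F : Type*} [Field F] [Fintype F]

theorem conj_eq_of {G : Type*} [Group G] (x y : G) : x * y * x⁻¹ = x * y * x⁻¹ := rfl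

/-- the centraliser of a four-group in `PSL_2` is itself -/
theorem cent_klein (hF : Odd (Fintype.card F)) {s t : S F} (h : IsPair s t) (hc : IsCPair (π s) (π t)) (g : PS F)
    (h1 : g * π s = π s * g) (h2 : g * π t = π t * g) : g ∈ klein hc := by
  obtain ⟨g, rfl⟩ := π_surj g
  rw [← map_mul, ← map_mul] at h1 h2
  have key : ∀ g : S F, g * s = s * g → g * t = t * g → π g = 1 := fun g h1 h2 => π_eq_one.mpr (h.cent hF h1 h2)
  have hts : t * s = -(s * t) := by rw [h.st, neg_neg]
  have hsi : s⁻¹ = -s := by rw [inv_eq_iff_mul_eq_one, mul_neg, h.ss, neg_neg]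
  have hti : t⁻¹ = -t := by rw [inv_eq_iff_mul_eq_one, mul_neg, h.tt, neg_neg]
  rw [mem_klein]
  rcases π_eq.mp h1 with h1 | h1 <;> rcases π_eq.mp h2 with h2 | h2
  · left; exact key g h1 h2
  · -- commutes with s, anticommutes with t: multiply by s
    right; left
    have h3 : π (g * s) = 1 := by
      apply key
      · rw [h1]; simp [mul_assoc, h1]
      · calc g * s * t = g * (s * t) := by group
          _ = g * (-(t * s)) := by rw [h.st]
          _ = -(g * t * s) := by simp [mul_assoc]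
          _ = -(-(t * g) * s) := by rw [h2]
          _ = t * (g * s) := by simp [mul_assoc]
    rw [map_mul] at h3
    have h4 := eq_inv_of_mul_eq_one_left h3
    rw [h4, inv_eq_of_mul_eq_one_left hc.aa]
  · right; right; left
    have h3 : π (g * t) = 1 := by
      apply key
      · calc g * t * s = g * (t * s) := by group
          _ = g * (-(s * t)) := by rw [hts]
          _ = -(g * s * t) := by simp [mul_assoc]
          _ = -(-(s * g) * t) := by rw [h1]
          _ = s * (g * t) := by simp [mul_assoc]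
      · rw [h2]; simp [mul_assoc, h2]
    rw [map_mul] at h3
    have h4 := eq_inv_of_mul_eq_one_left h3
    rw [h4, inv_eq_of_mul_eq_one_left hc.bb]
  · right; right; right
    have h3 : π (g * (s * t)) = 1 := by
      apply key
      · calc g * (s * t) * s = g * s * (t * s) := by group
          _ = -(s * g) * (-(s * t)) := by rw [h1, hts]
          _ = s * (g * (s * t)) := by simp [mul_assoc]
      · calc g * (s * t) * t = g * (-(t * s)) * t := by rw [h.st]
          _ = -(g * t) * (s * t) := by simp [mul_assoc]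
          _ = t * (g * (s * t)) := by rw [h2]; simp [mul_assoc]
    rw [map_mul, map_mul] at h3
    have h4 := eq_inv_of_mul_eq_one_left h3
    have h5 : (π s * π t)⁻¹ = π s * π t := by
      rw [_root_.mul_inv_rev, inv_eq_of_mul_eq_one_left hc.aa, inv_eq_of_mul_eq_one_left hc.bb, hc.ab]
    rw [h4, h5]

theorem π_conj {x y z : S F} (h : x * y * x⁻¹ = z) : π x * π y * (π x)⁻¹ = π z := by
  rw [← h, map_mul, map_mul, map_inv]

theorem exists_A4 (hF : Odd (Fintype.card F)) : ∃ H : Subgroup (PS F), Nonempty (H ≃* alternatingGroup (Fin 4)) := by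
  have h2 := two_ne_zero' hF
  obtain ⟨s, t, h⟩ := exists_pair hF
  obtain ⟨c, h3, h4, h5⟩ := h.cyc hF
  have hc := h.toCPair h2
  obtain ⟨H, -, -, -, -, -, hH⟩ := exists_a4 hc (π_conj h3) (by rw [π_conj h4, map_mul])
    (by rw [← map_mul, ← map_mul, h5]; exact π_eq_one.mpr (Or.inr rfl))
  exact ⟨H, hH⟩

theorem exists_S4 (hF : Odd (Fintype.card F)) {ρ : F} (hρ : ρ * ρ = 2) :
    ∃ H : Subgroup (PS F), Nonempty (H ≃* Equiv.Perm (Fin 4)) := by
  have h2 := two_ne_zero' hF
  obtain ⟨s, t, h⟩ := exists_pair hF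
  obtain ⟨c, h3, h4, h5⟩ := h.cyc hF
  obtain ⟨r, h6, h7⟩ := h.swap hF hρ
  have hc := h.toCPair h2
  have hr2 : π r * π r = 1 := by
    -- r² commutes with s and t
    rw [← map_mul]
    apply π_eq_one.mpr
    apply h.cent hF
    · have e1 : r * s = t * r := mul_inv_eq_iff_eq_mul.mp h6
      have e2 : r * t = s * r := mul_inv_eq_iff_eq_mul.mp h7
      calc r * r * s = r * (r * s) := by group
        _ = (r * t) * r := by rw [e1]; group
        _ = s * (r * r) := by rw [e2]; group
    · have e1 : r * s = t * r := mul_inv_eq_iff_eq_mul.mp h6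
      have e2 : r * t = s * r := mul_inv_eq_iff_eq_mul.mp h7
      calc r * r * t = r * (r * t) := by group
        _ = (r * s) * r := by rw [e2]; group
        _ = t * (r * r) := by rw [e1]; group
  exact exists_s4_of hc (π_conj h3) (by rw [π_conj h4, map_mul])
    (by rw [← map_mul, ← map_mul, h5]; exact π_eq_one.mpr (Or.inr rfl)) (π_conj h6) (π_conj h7) hr2
    (cent_klein hF h hc)

end Cfsg.Agent.H5.V4
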