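import Cfsg.Statements.S0802
import Mathlib
import Cfsg.Agent.H5_V4e

set_option autoImplicit false
open Cfsg

namespace Cfsg.Agent.S0802

open Cfsg.Agent.H5.V4 Cfsg.Agent.H5.SL2 Cfsg.Agent.H5.SL2Quat Cfsg.Agent.H5 Cfsg.Agent.H5.Rec

theorem neg_one_eq {F : Type*} [Field F] [CharP F 2] : (-1 : S F) = 1 := by
  have h20 : (2 : F) = 0 := CharTwo.two_eq_zero
  have : (-1 : F) = 1 := by linear_combination -h20
  apply ext2 <;> simp [neg00, neg01, neg10, neg11, one00, one01, one10, one11, this]

theorem π_inj2 {F : Type*} [Field F] [CharP F 2] {x y : S F} (h : π x = π y) : x = y := by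
  rcases π_eq.mp h with h | h
  · exact h
  · rw [h]
    have := neg_one_eq (F := F)
    calc -y = (-1) * y := by simp
      _ = y := by rw [this, one_mul]

theorem no_a4 {F : Type*} [Field F] [Fintype F] [CharP F 2] (h3 : Nat.Coprime 3 (Fintype.card F - 1)) {s t c : S F}
    (hs : s * s = 1) (hs1 : s ≠ 1) (hst : s * t = t * s) (hne : s ≠ t) (hcs : c * s * c⁻¹ = t) (hc : c ^ 3 = 1) : False := by
  have : Fact (Nat.Prime 2) := ⟨Nat.prime_two⟩
  obtain ⟨k, x, hk⟩ := exists_conj_mem 2 (g := s) ⟨1, by rw [pow_one, sq]; exact hs⟩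
  have hx : x ≠ 0 := by
    rintro rfl; apply hs1; rw [hk, u_zero]; simp
  set t' := k⁻¹ * t * k with ht'
  set c' := k⁻¹ * c * k with hc'
  have h1 : u x * t' = t' * u x := by
    have hux : u x = k⁻¹ * s * k := by rw [hk]; group
    calc u x * t' = k⁻¹ * (s * t) * k := by rw [hux, ht']; group
      _ = k⁻¹ * (t * s) * k := by rw [hst]
      _ = t' * u x := by rw [hux, ht']; group
  have h2 : c' * u x * c'⁻¹ = t' := by
    have hux : u x = k⁻¹ * s * k := by rw [hk]; group
    rw [ht', ← hcs, hux, hc']; group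
  have hc3 : c' ^ 3 = 1 := by
    have : c' ^ 3 = k⁻¹ * c ^ 3 * k := by
      rw [hc', pow_succ, sq, pow_succ, sq]; group
    rw [this, hc]; simp
  have ht10 := tri_of_conj hx h1
  have h01 := congrArg (fun g : S F => g.1 0 1) h1
  simp only [mul01, u00, u01, u11] at h01
  have ht00 : t'.1 0 0 = t'.1 1 1 := by
    have : x * (t'.1 1 1 - t'.1 0 0) = 0 := by linear_combination h01
    exact (sub_eq_zero.mp ((mul_eq_zero.mp this).resolve_left hx)).symm
  have hd := det_eq t'
  rw [ht10, ← ht00, mul_zero, sub_zero] at hd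
  have h00 : t'.1 0 0 = 1 := by
    have h20 : (2 : F) = 0 := CharTwo.two_eq_zero
    have : (t'.1 0 0 - 1) ^ 2 = 0 := by linear_combination hd - (t'.1 0 0 - 1) * h20
    exact sub_eq_zero.mp (pow_eq_zero_iff (by norm_num) |>.mp this)
  have htu : t' = u (t'.1 0 1) := by
    apply ext2
    · rw [u00, h00]
    · rw [u01]
    · rw [u10, ht10]
    · rw [u11, ← ht00, h00]
  have h4 : u (t'.1 0 1) * c' = c' * u x := by
    rw [← htu, ← h2]; group
  have hc10 := tri_of_conj hx h4
  have hdc := det_eq c'
  rw [hc10, mul_zero, sub_zero] at hdc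
  have hc00 : (c'.1 0 0) ^ 3 = 1 := by
    have := congrArg (fun g : S F => g.1 0 0) hc3
    simp only [pow_succ, pow_zero, one_mul, mul00, mul10, hc10, one00] at this
    linear_combination this
  have hc0 : c'.1 0 0 ≠ 0 := left_ne_zero_of_mul_eq_one hdc
  have hq1 := FiniteField.pow_card_sub_one_eq_one _ hc0
  have hone : c'.1 0 0 = 1 := by
    have h5 : orderOf (c'.1 0 0) ∣ 3 := orderOf_dvd_of_pow_eq_one hc00
    have h6 : orderOf (c'.1 0 0) ∣ Fintype.card F - 1 := orderOf_dvd_of_pow_eq_one hq1
    have h7 : orderOf (c'.1 0 0) ∣ 1 := by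
      have := Nat.dvd_gcd h5 h6
      rwa [h3] at this
    exact orderOf_eq_one_iff.mp (Nat.dvd_one.mp h7)
  have h8 : c' * u x * c'⁻¹ = u x := by
    rw [conj_u hc10, hone]; simp
  apply hne
  have h9 : t' = u x := by rw [← h2, h8]
  calc s = k * u x * k⁻¹ := hk
    _ = k * t' * k⁻¹ := by rw [h9]
    _ = t := by rw [ht']; group
/-- elements of `A_4` -/
def aA : alternatingGroup (Fin 4) := ⟨c[0, 1] * c[2, 3], Equiv.Perm.mem_alternatingGroup.mpr (by decide)⟩
def bA : alternatingGroup (Fin 4) := ⟨c[0, 2] * c[1, 3], Equiv.Perm.mem_alternatingGroup.mpr (by decide)⟩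
def cA : alternatingGroup (Fin 4) := ⟨c[1, 2, 3], Equiv.Perm.mem_alternatingGroup.mpr (by decide)⟩
theorem haa : aA * aA = 1 := by decide
theorem hab : aA * bA = bA * aA := by decide
theorem ha1 : aA ≠ 1 := by decide
theorem hne : aA ≠ bA := by decide
theorem hca : cA * aA * cA⁻¹ = bA := by decide
theorem hcc : cA ^ 3 = 1 := by decide

/-- PSL_2(p^n) has a subgroup isomorphic to A_4 if and only if it is not the case that p = 2 and n is odd. -/
theorem result {F : Type*} [Field F] [Fintype F] (p n : ℕ) [Fact p.Prime] [CharP F p] (hF : Fintype.card F = p ^ n) : (∃ H : Subgroup (Matrix.ProjectiveSpecialLinearGroup (Fin 2) F), Nonempty (H ≃* alternatingGroup (Fin 4))) ↔ ¬ (p = 2 ∧ Odd n) := by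
  classical
  have hp : p.Prime := Fact.out
  have hn0 : n ≠ 0 := by
    rintro rfl
    have : 1 < Fintype.card F := Fintype.one_lt_card
    rw [hF] at this; simp at this
  constructor
  · rintro ⟨H, ⟨e⟩⟩ ⟨rfl, hn⟩
    let f : alternatingGroup (Fin 4) →* PS F := H.subtype.comp e.symm.toMonoidHom
    have hf : Function.Injective f := H.subtype_injective.comp e.symm.injective
    obtain ⟨s, hs⟩ := π_surj (f aA)
    obtain ⟨t, ht⟩ := π_surj (f bA)
    obtain ⟨k, hk⟩ := π_surj (f cA)
    have hcop : Nat.Coprime 3 (Fintype.card F - 1) := by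
      rw [hF, Nat.Prime.coprime_iff_not_dvd Nat.prime_three]
      obtain ⟨m, hm⟩ := hn
      have h1 : 4 ^ m % 3 = 1 := by rw [Nat.pow_mod]; norm_num
      have h2 : 2 ^ n = 2 * 4 ^ m := by
        rw [hm, pow_succ, pow_mul]; norm_num; ring
      omega
    apply no_a4 hcop (s := s) (t := t) (c := k)
    · apply π_inj2; rw [map_mul, hs, ← map_mul, haa, map_one, map_one]
    · intro h; rw [h, map_one] at hs; exact ha1 (hf (hs.symm.trans (map_one f).symm))
    · apply π_inj2; rw [map_mul, map_mul, hs, ht, ← map_mul, hab, map_mul]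
    · intro h; rw [h, ht] at hs; exact hne (hf hs.symm)
    · apply π_inj2; rw [map_mul, map_mul, map_inv, hs, ht, hk, ← map_mul, ← map_inv, ← map_mul, hca]
    · apply π_inj2; rw [map_pow, hk, ← map_pow, hcc, map_one, map_one]
  · intro h
    by_cases hp2 : p = 2
    · subst hp2
      have hn : Even n := by
        rw [← Nat.not_odd_iff_even]; exact fun h' => h ⟨rfl, h'⟩
      obtain ⟨m, hm⟩ := hn
      have h3 : 3 ∣ Fintype.card Fˣ := by
        rw [Fintype.card_units, hF, hm]
        have h1 : 4 ^ m % 3 = 1 := by rw [Nat.pow_mod]; norm_num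
        have h2 : 2 ^ (m + m) = 4 ^ m := by rw [← two_mul, pow_mul]; norm_num
        have h3 : 0 < 4 ^ m := by positivity
        omega
      have : Fact (Nat.Prime 3) := ⟨Nat.prime_three⟩
      obtain ⟨ζ, hζ⟩ := exists_prime_orderOf_dvd_card 3 h3
      have h1 : (ζ : F) ^ 3 = 1 := by
        have := pow_orderOf_eq_one ζ
        rw [hζ] at this
        rw [← Units.val_pow_eq_pow_val, this]; rfl
      have hz1 : (ζ : F) ≠ 1 := by
        intro h'
        have : ζ = 1 := Units.ext h'
        rw [this] at hζ; simp at hζ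
      have h2 : (ζ : F) ^ 2 + ζ + 1 = 0 := by
        have : ((ζ : F) - 1) * ((ζ : F) ^ 2 + ζ + 1) = 0 := by linear_combination h1
        exact (mul_eq_zero.mp this).resolve_left (sub_ne_zero.mpr hz1)
      have h20 : (2 : F) = 0 := CharTwo.two_eq_zero
      have hadd : ∀ x : F, x + x = 0 := fun x => CharTwo.add_self_eq_zero x
      have hinj : ∀ x y : F, π (u x) = π (u y) → x = y := fun x y h => u_inj (π_inj2 h)
      have hz0 : (ζ : F) ≠ 0 := ζ.ne_zero
      have hcp : IsCPair (π (u (1 : F))) (π (u ((ζ : F) ^ 2))) := by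
        refine ⟨?_, ?_, ?_, ?_, ?_, ?_⟩
        · rw [← map_mul, u_mul, hadd, u_zero, map_one]
        · rw [← map_mul, u_mul, hadd, u_zero, map_one]
        · rw [← map_mul, ← map_mul, u_mul, u_mul, add_comm]
        · intro h'
          rw [← map_one π, ← u_zero] at h'
          exact one_ne_zero (hinj _ _ h')
        · intro h'
          rw [← map_one π, ← u_zero] at h'
          exact pow_ne_zero 2 hz0 (hinj _ _ h')
        · intro h'
          have h4 := hinj _ _ h'
          have : (ζ : F) = 0 := by linear_combination h2 + h4 - h20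
          exact hz0 this
      have hd : ∀ y : F, d ζ * u y * (d ζ)⁻¹ = u ((ζ : F) ^ 2 * y) := fun y => by
        rw [conj_u (d10 ζ)]; rfl
      obtain ⟨H, -, -, -, -, -, hH⟩ := exists_a4 (c := π (d ζ)) hcp
        (π_conj (by rw [hd, mul_one]))
        (by
          rw [π_conj (hd _), ← map_mul, u_mul]
          congr 2
          linear_combination (ζ : F) * h1 + h2 - (1 + (ζ : F) ^ 2) * h20)
        (by
          rw [← map_mul, ← map_mul, d_mul, d_mul]
          have : ζ * ζ * ζ = 1 := by
            apply Units.ext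
            rw [Units.val_mul, Units.val_mul, Units.val_one]
            linear_combination h1
          rw [this, d_one, map_one])
      exact ⟨H, hH⟩
    · exact exists_A4 (by rw [hF]; exact (hp.odd_of_ne_two hp2).pow)

end Cfsg.Agent.S0802
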