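import Cfsg.Statements.S0803
import Mathlib
import Cfsg.Agent.H5_V4e
import Cfsg.Agent.H5_Quad

set_option autoImplicit false
open Cfsg

namespace Cfsg.Agent.S0803

open Cfsg.Agent.H5.V4 Cfsg.Agent.H5.SL2 Cfsg.Agent.H5.SL2Quat Cfsg.Agent.H5

theorem no4 {F : Type*} [Field F] [Fintype F] (hF : ¬ Odd (Fintype.card F)) (x : PS F) (h : x ^ 4 = 1) : x ^ 2 = 1 := by
  have hc := Cfsg.Agent.H5.Quad.charP_two_of_even (F := F) hF
  obtain ⟨s, rfl⟩ := π_surj x
  have h20 : (2 : F) = 0 := CharTwo.two_eq_zero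
  have hneg : (-1 : S F) = 1 := by
    have : (-1 : F) = 1 := by linear_combination -h20
    apply ext2 <;> simp [neg00, neg01, neg10, neg11, one00, one01, one10, one11, this]
  have h4 : s ^ 4 = 1 := by
    rw [← map_pow, π_eq_one, hneg, or_self] at h
    exact h
  have : Fact (Nat.Prime 2) := ⟨Nat.prime_two⟩
  obtain ⟨k, x, hk⟩ := exists_conj_mem 2 (g := s) ⟨2, h4⟩
  have h2 : s * s = 1 := by
    rw [hk]
    calc k * u x * k⁻¹ * (k * u x * k⁻¹) = k * (u x * u x) * k⁻¹ := by group
      _ = 1 := by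
        rw [u_mul]
        have : x + x = 0 := CharTwo.add_self_eq_zero x
        rw [this, u_zero]; simp
  rw [← map_pow, sq, h2, map_one]

/-- PSL_2(q) has a subgroup isomorphic to S_4 iff q² ≡ 1 (mod 16). -/
theorem result {F : Type*} [Field F] [Fintype F] {q : ℕ} (hF : Fintype.card F = q) : (∃ H : Subgroup (Matrix.ProjectiveSpecialLinearGroup (Fin 2) F), Nonempty (H ≃* Equiv.Perm (Fin 4))) ↔ q ^ 2 % 16 = 1 := by
  classical
  constructor
  · rintro ⟨H, ⟨e⟩⟩
    have hcard : Nat.card H = 24 := by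
      rw [Nat.card_congr e.toEquiv, Nat.card_eq_fintype_card, Fintype.card_perm]; rfl
    have hdvd := Subgroup.card_subgroup_dvd_card H
    rw [hcard] at hdvd
    by_cases hodd : Odd (Fintype.card F)
    · have hc := Cfsg.Agent.H5.SmallIso.card_PSL2 (F := F)
      rw [hF] at hc hodd
      have hg : Nat.gcd 2 (q - 1) = 2 := by
        apply Nat.gcd_eq_left
        obtain ⟨k, hk⟩ := hodd; omega
      rw [hg] at hc
      obtain ⟨m, hm⟩ := hdvd
      rw [hm] at hc
      obtain ⟨k, hk⟩ := hodd
      have h16 : 16 ∣ q * ((q - 1) * (q + 1)) := by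
        rw [← mul_assoc, ← hc]
        exact ⟨3 * m, by ring⟩
      have hcop : Nat.Coprime 16 q := by
        have : Nat.Coprime 2 q := by rw [Nat.coprime_two_left]; exact ⟨k, hk⟩
        exact this.pow_left 4
      have h1 := hcop.dvd_of_dvd_mul_left h16
      have h2 : (q - 1) * (q + 1) = q ^ 2 - 1 := by
        rw [mul_comm, ← Nat.sq_sub_sq]
      rw [h2] at h1
      have h3 : 1 ≤ q ^ 2 := Nat.one_le_pow _ _ (by omega)
      omega
    · exfalso
      let c : Equiv.Perm (Fin 4) := c[0, 1, 2, 3]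
      have hc4 : c ^ 4 = 1 := by decide
      have h4 : (e.symm c) ^ 4 = 1 := by rw [← map_pow, hc4, map_one]
      have h5 := no4 hodd (e.symm c : PS F) (by exact_mod_cast congrArg Subtype.val h4)
      have h6 : (e.symm c) ^ 2 = 1 := Subtype.ext h5
      rw [← map_pow] at h6
      have h7 : c ^ 2 = 1 := by
        have := congrArg e h6
        rwa [e.apply_symm_apply, map_one] at this
      revert h7; decide
  · intro h
    have h8 : q % 8 = 1 ∨ q % 8 = 7 := by
      have h1 : (q % 16) ^ 2 % 16 = 1 := by rw [← Nat.pow_mod]; exact h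
      have h2 : q % 16 < 16 := Nat.mod_lt _ (by norm_num)
      have h3 : q % 8 = (q % 16) % 8 := by omega
      rw [h3]
      generalize q % 16 = r at h1 h2
      interval_cases r <;> omega
    have hodd : Odd (Fintype.card F) := by rw [hF, Nat.odd_iff]; omega
    have hsq : IsSquare (2 : F) := by
      rw [FiniteField.isSquare_two_iff, hF]; omega
    obtain ⟨ρ, hρ⟩ := hsq
    exact exists_S4 hodd hρ.symm

end Cfsg.Agent.S0803
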