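import Cfsg.Statements.S0804
import Mathlib
import Cfsg.Agent.H5_A5
import Cfsg.Agent.H5_Dk6
import Cfsg.Agent.H5_SmallIso
import Cfsg.Agent.H5_FF

set_option autoImplicit false
open Cfsg

namespace Cfsg.Agent.S0804

open Cfsg.Agent.H5 Cfsg.Agent.H5.SL2 Cfsg.Agent.H5.V4 Cfsg.Agent.H5.Dk

/-- PSL_2(q) has a subgroup isomorphic to A_5 iff 5 ∣ q(q² − 1). -/
theorem result {F : Type*} [Field F] [Fintype F] {q : ℕ} (hF : Fintype.card F = q) : (∃ H : Subgroup (Matrix.ProjectiveSpecialLinearGroup (Fin 2) F), Nonempty (H ≃* alternatingGroup (Fin 5))) ↔ 5 ∣ q * (q ^ 2 - 1) := by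
  subst hF
  have hA5 : Nat.card (alternatingGroup (Fin 5)) = 60 := by
    rw [nat_card_alternatingGroup, Nat.card_eq_fintype_card, Fintype.card_fin]; decide
  have hq1 : 1 < Fintype.card F := Fintype.one_lt_card
  constructor
  · rintro ⟨H, ⟨e⟩⟩
    have h1 : Nat.card H = 60 := by rw [Nat.card_congr e.toEquiv, hA5]
    have h2 : 5 ∣ Nat.card (PS F) := (show 5 ∣ Nat.card H by rw [h1]; norm_num).trans (Subgroup.card_subgroup_dvd_card H)
    have h3 := SmallIso.card_PSL2 (F := F)
    have h4 : 5 ∣ Fintype.card F * (Fintype.card F - 1) * (Fintype.card F + 1) := by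
      rw [← h3]; exact h2.mul_left _
    have h5 : Fintype.card F * (Fintype.card F ^ 2 - 1) = Fintype.card F * (Fintype.card F - 1) * (Fintype.card F + 1) := by
      have : Fintype.card F ^ 2 - 1 = (Fintype.card F + 1) * (Fintype.card F - 1) := by
        rw [← Nat.sq_sub_sq, one_pow]
      rw [this]; ring
    rw [h5]; exact h4
  · intro h
    by_cases hodd : Odd (Fintype.card F)
    · exact A5.exists_a5 hodd h
    · obtain ⟨p, hp⟩ := CharP.exists F
      have hpp : Fact p.Prime := ⟨CharP.char_is_prime F p⟩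
      obtain ⟨n, hn, hq⟩ := GL2.exists_card_eq (F := F) p
      have hp2 : p = 2 := by
        rcases (Fact.out : p.Prime).eq_two_or_odd' with h2 | h2
        · exact h2
        · exfalso; apply hodd; rw [hq]; exact h2.pow
      subst hp2
      have hn2 : Even n := by
        by_contra hn2
        rw [Nat.not_even_iff_odd] at hn2
        obtain ⟨m, hm⟩ := hn2
        have h5 : Nat.Prime 5 := Nat.prime_five
        rw [hq] at h
        rcases h5.dvd_mul.mp h with h6 | h6
        · have := (Nat.prime_dvd_prime_iff_eq h5 Nat.prime_two).mp (h5.dvd_of_dvd_pow h6)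
          omega
        · have e : (2 ^ n) ^ 2 = 16 ^ m * 4 := by
            rw [hm, ← pow_mul, show (16 : ℕ) = 2 ^ 4 by norm_num, show (4 : ℕ) = 2 ^ 2 by norm_num, ← pow_mul, ← pow_add]
            congr 1; ring
          have h7 : (16 ^ m * 4) % 5 = 4 := by
            rw [Nat.mul_mod, Nat.pow_mod]; norm_num
          rw [e] at h6
          omega
      obtain ⟨m, hm⟩ := hn2
      let K := GaloisField 2 2
      letI : Fintype K := Fintype.ofFinite K
      have hK : Fintype.card K = 4 := by
        rw [← Nat.card_eq_fintype_card, GaloisField.card 2 2 (by norm_num)]; norm_num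
      obtain ⟨ι, -⟩ := FF.exists_embedding (F := F) (K := K) (q := 4) (r := m) hK (by
        rw [hq, hm, show (4 : ℕ) = 2 ^ 2 by norm_num, ← pow_mul]; congr 1; ring) (by omega)
      obtain ⟨e⟩ := SmallIso.psl2_4 hK
      exact ⟨_, ⟨(ψe 1 ι).symm.trans e⟩⟩

end Cfsg.Agent.S0804
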