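import Cfsg.Statements.S0805
import Mathlib
import Cfsg.Agent.H5_Dk6
import Cfsg.Agent.H5_SmallIso
import Cfsg.Agent.H5_FF

set_option autoImplicit false
open Cfsg

namespace Cfsg.Agent.S0805

open Cfsg.Agent.H5 Cfsg.Agent.H5.SL2 Cfsg.Agent.H5.V4 Cfsg.Agent.H5.Dk
open Matrix Matrix.ProjGenLinGroup

theorem parity {x : ℕ} (hx : x % 2 = 1) (m : ℕ) : ∃ S, x ^ m = (x - 1) * S + 1 ∧ S % 2 = m % 2 := by
  induction m with
  | zero => exact ⟨0, by simp, rfl⟩
  | succ m ih =>
    obtain ⟨S, hS, hS'⟩ := ih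
    refine ⟨x * S + 1, ?_, ?_⟩
    · obtain ⟨y, rfl⟩ : ∃ y, x = y + 1 := ⟨x - 1, by omega⟩
      rw [pow_succ, hS, Nat.add_sub_cancel]; ring
    · rw [Nat.add_mod, Nat.mul_mod, hx, hS', one_mul, Nat.mod_mod]
      omega

/-- Subfield subgroups: let F be a finite field of odd order q and K a finite field with |K|^m = q, m ≥ 1. Then PSL_2(F) has a subgroup isomorphic to PSL_2(K), and has a subgroup isomorphic to PGL_2(K) if and only if m is even. -/
theorem result {F K : Type*} [Field F] [Fintype F] [Field K] [Fintype K] {q : ℕ} (hF : Fintype.card F = q) (hodd : Odd q) (m : ℕ) (hm : 1 ≤ m) (hK : Fintype.card K ^ m = q) : (∃ H : Subgroup (Matrix.ProjectiveSpecialLinearGroup (Fin 2) F), Nonempty (H ≃* Matrix.ProjectiveSpecialLinearGroup (Fin 2) K)) ∧ ((∃ H : Subgroup (Matrix.ProjectiveSpecialLinearGroup (Fin 2) F), Nonempty (H ≃* Matrix.ProjGenLinGroup (Fin 2) K)) ↔ Even m) := by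
  subst hF
  have hm0 : m ≠ 0 := by omega
  obtain ⟨ι, hι⟩ := FF.exists_embedding (F := F) (K := K) (q := Fintype.card K) (r := m) rfl hK.symm hm0
  refine ⟨⟨_, ⟨(ψe 1 ι).symm⟩⟩, ?_⟩
  have hq1 : 1 < Fintype.card F := Fintype.one_lt_card
  have hk1 : 1 < Fintype.card K := Fintype.one_lt_card
  have hkodd : Fintype.card K % 2 = 1 := by
    by_contra h
    have h1 : Even (Fintype.card K) := Nat.even_iff.mpr (by omega)
    have h2 : Even (Fintype.card K ^ m) := Nat.even_pow.mpr ⟨h1, hm0⟩
    rw [hK] at h2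
    exact (Nat.not_even_iff_odd.mpr hodd) h2
  constructor
  · rintro ⟨H, ⟨e⟩⟩
    by_contra hme
    rw [Nat.not_even_iff_odd] at hme
    have h1 : Nat.card H = Nat.card (S K) := by
      rw [Nat.card_congr e.toEquiv, GL.card_PGL]
    have h2 : Nat.card H ∣ Nat.card (PS F) := Subgroup.card_subgroup_dvd_card H
    have h3 := SmallIso.card_PSL2 (F := F)
    have hg : Nat.gcd 2 (Fintype.card F - 1) = 2 := by
      apply Nat.gcd_eq_left
      obtain ⟨c, hc⟩ := hodd
      exact ⟨c, by omega⟩
    rw [hg] at h3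
    have h4 : 2 * Nat.card (S K) ∣ Fintype.card F * (Fintype.card F - 1) * (Fintype.card F + 1) := by
      rw [← h3, ← h1]; exact Nat.mul_dvd_mul_left 2 h2
    rw [card_SL2, ← hK] at h4
    set k := Fintype.card K
    obtain ⟨T, hT, hT'⟩ := parity (x := k * k) (by rw [Nat.mul_mod, hkodd]) m
    have h5 : k ^ m * (k ^ m - 1) * (k ^ m + 1) = k ^ m * ((k * k - 1) * T) := by
      have e1 : (k ^ m - 1) * (k ^ m + 1) = (k * k) ^ m - 1 := by
        rw [mul_comm, ← Nat.sq_sub_sq, one_pow, ← pow_mul, mul_comm m 2, pow_mul, sq]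
      rw [mul_assoc, e1, hT, Nat.add_sub_cancel]
    have h6 : 2 * (k * (k - 1) * (k + 1)) = (k * k - 1) * (2 * k) := by
      have e1 : (k - 1) * (k + 1) = k * k - 1 := by
        rw [mul_comm, ← Nat.sq_sub_sq, one_pow, sq]
      rw [mul_assoc, e1]; ring
    rw [h5, h6] at h4
    have h7 : k ^ m * ((k * k - 1) * T) = (k * k - 1) * (k ^ m * T) := by ring
    rw [h7] at h4
    have hpos : 0 < k * k - 1 := by
      have : 1 < k * k := by nlinarith
      omega
    have h8 : 2 * k ∣ k ^ m * T := Nat.dvd_of_mul_dvd_mul_left hpos h4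
    have h9 : 2 ∣ k ^ m * T := (dvd_mul_right 2 k).trans h8
    have h10 : (k ^ m * T) % 2 = 1 := by
      rw [Nat.mul_mod, Nat.pow_mod, hkodd, one_pow, hT', Nat.odd_iff.mp hme]; norm_num
    omega
  · rintro ⟨n, hn⟩
    -- every element of `K` is a square in `F`
    have hsq : ∀ c : Kˣ, ∃ a : Fˣ, (a : F) ^ 2 = ι c := by
      intro c
      have h1 : IsSquare (ι c) := by
        have hchar : ringChar F ≠ 2 := by
          intro h
          have : Even (Fintype.card F) := by
            rw [Nat.even_iff]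
            exact FiniteField.even_card_iff_char_two.mp h
          exact (Nat.not_even_iff_odd.mpr hodd) this
        rw [FiniteField.isSquare_iff hchar (by rw [Ne, map_eq_zero]; exact c.ne_zero), ← map_pow]
        have h2 : Fintype.card K - 1 ∣ Fintype.card F / 2 := by
          have h3 : Fintype.card K - 1 ∣ Fintype.card K ^ n - 1 := by
            have := Nat.sub_dvd_pow_sub_pow (Fintype.card K) 1 n
            rwa [one_pow] at this
          have h4 : (Fintype.card K ^ n) % 2 = 1 := by rw [Nat.pow_mod, hkodd, one_pow]; norm_num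
          have hpos : 0 < Fintype.card K ^ n := by positivity
          obtain ⟨y, hy⟩ : ∃ y, Fintype.card K ^ n = 2 * y + 1 := ⟨Fintype.card K ^ n / 2, by omega⟩
          have h5 : Fintype.card F / 2 = (Fintype.card K ^ n - 1) * (y + 1) := by
            rw [← hK, hn, pow_add, hy, Nat.add_sub_cancel]
            have : (2 * y + 1) * (2 * y + 1) = 2 * (2 * y * (y + 1)) + 1 := by ring
            rw [this]; omega
          rw [h5]
          exact h3.mul_right _
        obtain ⟨r, hr⟩ := h2
        have h6 : (c : K) ^ (Fintype.card K - 1) = 1 := FiniteField.pow_card_sub_one_eq_one _ c.ne_zero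
        rw [hr, pow_mul, h6, one_pow, map_one]
      obtain ⟨a, ha⟩ := h1
      have ha0 : a ≠ 0 := by
        rintro rfl
        rw [mul_zero, map_eq_zero] at ha
        exact c.ne_zero ha
      exact ⟨Units.mk0 a ha0, by rw [Units.val_mk0, sq, ha]⟩
    have hle : (Φ 1 ι).range ≤ (⊤ : Subgroup (PS F)).map ProjectiveSpecialLinearGroup.toPGL := by
      rintro _ ⟨g, rfl⟩
      induction g using Matrix.ProjGenLinGroup.induction_on with | mk g =>
      obtain ⟨s, c, rfl⟩ := gl_decomp g
      rw [map_mul, map_mul]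
      apply Subgroup.mul_mem
      · rw [Φ_toGL]
        exact ⟨_, Subgroup.mem_top _, rfl⟩
      · obtain ⟨a, ha⟩ := hsq c
        rw [Φ_dg 1 ι c a ha]
        exact ⟨_, Subgroup.mem_top _, rfl⟩
    have hinjJ : Function.Injective (ProjectiveSpecialLinearGroup.toPGL : PS F →* _) := ProjectiveSpecialLinearGroup.toPGL_injective
    refine ⟨(Φ 1 ι).range.comap ProjectiveSpecialLinearGroup.toPGL, ?_⟩
    have h2 : ((Φ 1 ι).range.comap (ProjectiveSpecialLinearGroup.toPGL : PS F →* _)).map ProjectiveSpecialLinearGroup.toPGL = (Φ 1 ι).range := by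
      apply Subgroup.map_comap_eq_self
      exact hle.trans (Subgroup.map_le_range _ _)
    let eΦ : ProjGenLinGroup (Fin 2) K ≃* (Φ 1 ι).range := MonoidHom.ofInjective (Φ_injective 1 ι)
    exact ⟨(Subgroup.equivMapOfInjective _ _ hinjJ).trans ((MulEquiv.subgroupCongr h2).trans eΦ.symm)⟩

end Cfsg.Agent.S0805
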