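import Mathlib
import Cfsg.Agent.H5_DkM
import Cfsg.Agent.S0802
import Cfsg.Agent.S0803
import Cfsg.Agent.S0804
import Cfsg.Agent.S0805

set_option autoImplicit false

/-! Overgroups of subfield / polyhedral subgroups of `PSL_2(q)`. -/

namespace Cfsg.Agent.H5.Dk

open Cfsg.Agent.H5.SL2 Cfsg.Agent.H5.V4
open scoped Pointwise

theorem sq_dih {k : ℕ} (a b : DihedralGroup k) : (a*a)*(b*b) = (b*b)*(a*a) := by
  rcases a with i | i <;> rcases b with j | j
  · simp only [DihedralGroup.r_mul_r]; congr 1; ring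
  · simp only [DihedralGroup.r_mul_r, DihedralGroup.sr_mul_self, mul_one, one_mul]
  · simp only [DihedralGroup.r_mul_r, DihedralGroup.sr_mul_self, mul_one, one_mul]
  · simp only [DihedralGroup.sr_mul_self]

variable {F : Type*} [Field F]

theorem Ub_comm {x y : PS F} (hx : x ∈ Ub F) (hy : y ∈ Ub F) : x * y = y * x := by
  obtain ⟨a, rfl⟩ := mem_Ub.mp hx
  obtain ⟨b, rfl⟩ := mem_Ub.mp hy
  rw [← map_mul, ← map_mul, u_mul, u_mul, add_comm]

theorem Bb_comm {x y : PS F} (hx : x ∈ Bb F) (hy : y ∈ Bb F) : x * y * (y * x)⁻¹ ∈ Ub F := by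
  obtain ⟨s, rfl⟩ := π_surj x
  obtain ⟨t, rfl⟩ := π_surj y
  obtain ⟨a, b, rfl⟩ := borel s (mem_Bb.mp hx)
  obtain ⟨a', b', rfl⟩ := borel t (mem_Bb.mp hy)
  rw [← map_mul, ← map_mul, ud_mul, ud_mul, ← map_inv, ← map_mul, mul_comm a' a]
  have : u (b + (a : F) ^ 2 * b') * d (a * a') * (u (b' + (a' : F) ^ 2 * b) * d (a * a'))⁻¹ = u ((b + (a : F) ^ 2 * b') - (b' + (a' : F) ^ 2 * b)) := by
    rw [mul_inv_rev, u_inv, mul_assoc, mul_inv_cancel_left, u_mul, sub_eq_add_neg]
  rw [this]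
  exact mem_Ub.mpr ⟨_, rfl⟩

def Rich (H : Subgroup (PS F)) : Prop :=
  (∃ x ∈ H, ∃ y ∈ H, x*x*(y*y) ≠ y*y*(x*x)) ∧ ∀ g : PS F, ¬ MulAut.conj g • H ≤ Bb F

theorem Rich.mono {H H' : Subgroup (PS F)} (hr : Rich H) (h : H ≤ H') : Rich H' := by
  obtain ⟨⟨x, hx, y, hy, hxy⟩, h2⟩ := hr
  refine ⟨⟨x, h hx, y, h hy, hxy⟩, fun g hg => h2 g (le_trans ?_ hg)⟩
  exact Subgroup.pointwise_smul_le_pointwise_smul_iff.mpr h

theorem Rich.not_cyc {H : Subgroup (PS F)} (hr : Rich H) : ¬ IsCyclic H := by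
  intro hc
  obtain ⟨⟨x, hx, y, hy, hxy⟩, -⟩ := hr
  letI := hc.commGroup
  apply hxy
  have := mul_comm ((⟨x, hx⟩ : H) * ⟨x, hx⟩) ((⟨y, hy⟩ : H) * ⟨y, hy⟩)
  exact congrArg Subtype.val this

theorem Rich.not_dih {H : Subgroup (PS F)} (hr : Rich H) {k : ℕ} (e : H ≃* DihedralGroup k) : False := by
  obtain ⟨⟨x, hx, y, hy, hxy⟩, -⟩ := hr
  apply hxy
  have := sq_dih (e ⟨x, hx⟩) (e ⟨y, hy⟩)
  rw [← map_mul, ← map_mul, ← map_mul, ← map_mul] at this
  exact congrArg Subtype.val (e.injective this)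

theorem Rich.list [Fintype F] {M : Subgroup (PS F)} (hr : Rich M) (hM : M ≠ ⊤) :
    Nonempty (M ≃* alternatingGroup (Fin 4)) ∨ Nonempty (M ≃* Equiv.Perm (Fin 4)) ∨ Nonempty (M ≃* alternatingGroup (Fin 5)) ∨
    (∃ (L : Type) (_ : Field L) (_ : Fintype L) (m : ℕ), 2 ≤ m ∧ Fintype.card L ^ m = Fintype.card F ∧ Nonempty (M ≃* PS L)) ∨
    (∃ (L : Type) (_ : Field L) (_ : Fintype L) (m : ℕ), 2 ≤ m ∧ Fintype.card F % 2 = 1 ∧ Fintype.card L ^ m = Fintype.card F ∧
      Nonempty (M ≃* Matrix.ProjGenLinGroup (Fin 2) L)) := by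
  rcases proper_list (F := F) rfl hM with ⟨k, -, h | ⟨⟨e⟩⟩⟩ | ⟨g, hg⟩ | h
  · exact absurd h.1 hr.not_cyc
  · exact (hr.not_dih e).elim
  · exact absurd hg (hr.2 g)
  · exact h

theorem a4_noncomm : ∃ x y : alternatingGroup (Fin 4), x * x * (y * y) ≠ y * y * (x * x) := by decide +kernel
theorem a4_comm : ∃ x y : alternatingGroup (Fin 4), x * y * (y * x)⁻¹ ≠ 1 ∧ (x * y * (y * x)⁻¹) * (x * y * (y * x)⁻¹) = 1 := by decide +kernel

theorem odd_two [Fintype F] (hodd : Fintype.card F % 2 = 1) : (2 : F) ≠ 0 := by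
  intro h
  have h1 : ringChar F = 2 := by
    have h2 : ringChar F ∣ 2 := (ringChar.spec F 2).mp (by exact_mod_cast h)
    rcases (Nat.dvd_prime Nat.prime_two).mp h2 with h3 | h3
    · exact absurd h3 (CharP.ringChar_ne_one)
    · exact h3
  have := FiniteField.even_card_iff_char_two.mp h1
  omega

theorem rich_A4 [Fintype F] (hodd : Fintype.card F % 2 = 1) {H : Subgroup (PS F)} (φ : alternatingGroup (Fin 4) →* H) (hφ : Function.Injective φ) : Rich H := by
  constructor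
  · obtain ⟨x, y, hxy⟩ := a4_noncomm
    refine ⟨φ x, (φ x).2, φ y, (φ y).2, fun h => hxy (hφ ?_)⟩
    rw [map_mul, map_mul, map_mul, map_mul, map_mul, map_mul]
    exact Subtype.ext h
  · intro g hg
    obtain ⟨x, y, h1, h2⟩ := a4_comm
    let ψ : alternatingGroup (Fin 4) →* PS F := (MulAut.conj g).toMonoidHom.comp (H.subtype.comp φ)
    have hψ : Function.Injective ψ := (MulAut.conj g).injective.comp (H.subtype_injective.comp hφ)
    have hm : ∀ z, ψ z ∈ Bb F := by
      intro z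
      apply hg
      exact Subgroup.smul_mem_pointwise_smul _ _ _ (φ z).2
    have h3 := Bb_comm (hm x) (hm y)
    rw [← map_mul, ← map_mul, ← map_inv, ← map_mul] at h3
    obtain ⟨b, hb⟩ := mem_Ub.mp h3
    have h4 : ψ ((x * y * (y * x)⁻¹) * (x * y * (y * x)⁻¹)) = ψ 1 := by rw [h2]
    rw [map_mul, hb, ← map_mul, u_mul, map_one, ← map_one π, ← u_zero] at h4
    have h5 := πu_inj h4
    have h6 : b = 0 := by
      have : (2 : F) * b = 0 := by linear_combination h5
      exact (mul_eq_zero.mp this).resolve_left (odd_two hodd)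
    rw [h6, u_zero, map_one] at hb
    exact h1 (hψ (by rw [hb, map_one]))

theorem even_two [Fintype F] (h : Fintype.card F % 2 = 0) : (2 : F) = 0 := by
  have h3 := FiniteField.even_card_iff_char_two.mpr h
  have h4 : ((2 : ℕ) : F) = 0 := by
    rw [← h3]; exact ringChar.Nat.cast_ringChar
  exact_mod_cast h4

theorem π_inj_even (h20 : (2 : F) = 0) {x y : S F} (h : π x = π y) : x = y := by
  haveI : CharP F 2 := CharTwo.of_one_ne_zero_of_two_eq_zero one_ne_zero h20
  exact Cfsg.Agent.S0802.π_inj2 h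

theorem rich_PS [Fintype F] (hev : Fintype.card F % 2 = 0) {K : Type*} [Field K] [Fintype K] (hK : Fintype.card K % 2 = 0) (hK4 : 4 ≤ Fintype.card K)
    {H : Subgroup (PS F)} (e : PS K ≃* H) : Rich H := by
  classical
  have h20 := even_two hK
  obtain ⟨a, ha0, ha1⟩ : ∃ a : K, a ≠ 0 ∧ a ≠ 1 := by
    by_contra hcon
    push Not at hcon
    have : (Finset.univ : Finset K) ⊆ {0, 1} := by
      intro x _
      rw [Finset.mem_insert, Finset.mem_singleton]
      by_cases h : x = 0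
      · exact Or.inl h
      · exact Or.inr (hcon x h)
    have h2 := Finset.card_le_card this
    have h3 := Finset.card_le_two (a := (0 : K)) (b := 1)
    rw [Finset.card_univ] at h2
    omega
  have hsq : a ^ 2 - 1 ≠ 0 := by
    intro h
    have : (a - 1) ^ 2 = 0 := by linear_combination h + (1 - a) * h20
    exact ha1 (sub_eq_zero.mp (pow_eq_zero_iff (two_ne_zero) |>.mp this))
  set A : Kˣ := Units.mk0 a ha0 with hA
  have hAc : (A : K) = a := rfl
  have hAi : ((A⁻¹ : Kˣ) : K) = a⁻¹ := by rw [Units.val_inv_eq_inv_val, hAc]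
  constructor
  · refine ⟨e (π (d A)), (e _).2, e (π (u 1 * d A * u (-1))), (e _).2, fun h => ?_⟩
    have h1 : π (d A) * π (d A) * (π (u 1 * d A * u (-1)) * π (u 1 * d A * u (-1))) =
        π (u 1 * d A * u (-1)) * π (u 1 * d A * u (-1)) * (π (d A) * π (d A)) := by
      apply e.injective
      rw [map_mul e, map_mul e, map_mul e, map_mul e, map_mul e, map_mul e]
      exact Subtype.ext h
    rw [← map_mul, ← map_mul, ← map_mul, ← map_mul] at h1
    have h2 := congrArg (fun m : S K => m.1 0 1) (π_inj_even h20 h1)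
    simp only [mul00, mul01, mul10, mul11, u00, u01, u10, u11, d00, d01, d10, d11, hAc, hAi] at h2
    have h3 : (a ^ 4 - 1) ^ 2 = 0 := by
      field_simp at h2
      linear_combination -h2
    have h4 := pow_eq_zero_iff (two_ne_zero) |>.mp h3
    have h5 : (a ^ 2 - 1) ^ 2 = 0 := by linear_combination h4 + (1 - a ^ 2) * h20
    exact hsq (pow_eq_zero_iff (two_ne_zero) |>.mp h5)
  · intro g hg
    let ψ : PS K →* PS F := (MulAut.conj g).toMonoidHom.comp (H.subtype.comp e.toMonoidHom)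
    have hψ : Function.Injective ψ := (MulAut.conj g).injective.comp (H.subtype_injective.comp e.injective)
    have hm : ∀ z, ψ z ∈ Bb F := by
      intro z
      apply hg
      exact Subgroup.smul_mem_pointwise_smul _ _ _ (e z).2
    have h1 := Bb_comm (hm (π (d A))) (hm (π (u 1)))
    have h2 := Bb_comm (hm (π (d A))) (hm (π (l 1)))
    rw [← map_mul ψ, ← map_mul ψ, ← map_inv ψ, ← map_mul ψ, ← map_mul (π (F := K)), ← map_mul (π (F := K)), ← map_inv (π (F := K)), ← map_mul (π (F := K))] at h1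
    rw [← map_mul ψ, ← map_mul ψ, ← map_inv ψ, ← map_mul ψ, ← map_mul (π (F := K)), ← map_mul (π (F := K)), ← map_inv (π (F := K)), ← map_mul (π (F := K))] at h2
    have h3 := Ub_comm h1 h2
    rw [← map_mul ψ, ← map_mul ψ, ← map_mul (π (F := K)), ← map_mul (π (F := K))] at h3
    have h4 := π_inj_even h20 (hψ h3)
    have e1 : d A * u 1 * (u 1 * d A)⁻¹ = u (a ^ 2 - 1) := by
      apply ext2 <;> simp only [mul00, mul01, mul10, mul11, inv00, inv01, inv10, inv11, u00, u01, u10, u11, d00, d01, d10, d11, hAc, hAi] <;> field_simp <;> ring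
    have e2 : d A * l 1 * (l 1 * d A)⁻¹ = l (a⁻¹ ^ 2 - 1) := by
      apply ext2 <;> simp only [mul00, mul01, mul10, mul11, inv00, inv01, inv10, inv11, l00, l01, l10, l11, d00, d01, d10, d11, hAc, hAi] <;> field_simp <;> ring
    rw [e1, e2] at h4
    have h5 := congrArg (fun m : S K => m.1 0 0) h4
    simp only [mul00, mul01, mul10, mul11, u00, u01, u10, u11, l00, l01, l10, l11] at h5
    have h6 : (a ^ 2 - 1) ^ 2 = 0 := by
      field_simp at h5
      linear_combination -h5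
    exact hsq (pow_eq_zero_iff (two_ne_zero) |>.mp h6)


theorem deg_aux {p a b : ℕ} (hp : 2 ≤ p) (hb : 0 < b) (ha : 0 < a) (h : p ^ (2 * b) - 1 ∣ 2 * (p ^ (2 * a) - 1)) : b ∣ a := by
  have hg := Nat.pow_sub_one_gcd_pow_sub_one p (2 * b) (2 * a)
  rw [Nat.gcd_mul_left] at hg
  set g := Nat.gcd b a with hgdef
  have hg0 : 0 < g := Nat.gcd_pos_of_pos_left _ hb
  have h1 : p ^ (2 * b) - 1 ∣ 2 * (p ^ (2 * g) - 1) := by
    rw [← hg, ← Nat.gcd_mul_left]
    exact Nat.dvd_gcd (dvd_mul_left _ _) h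
  have hp1 : 1 < p ^ (2 * g) := Nat.one_lt_pow (by omega) (by omega)
  have h2 := Nat.le_of_dvd (by omega) h1
  have hgb : g ∣ b := Nat.gcd_dvd_left _ _
  have hgle : g ≤ b := Nat.le_of_dvd hb hgb
  rcases Nat.eq_or_lt_of_le hgle with h3 | h3
  · rw [← h3]; exact Nat.gcd_dvd_right _ _
  · exfalso
    have h4 : p ^ (2 * g + 2) ≤ p ^ (2 * b) := Nat.pow_le_pow_right (by omega) (by omega)
    rw [pow_add] at h4
    have h5 : p ^ (2 * g) * 4 ≤ p ^ (2 * g) * p ^ 2 := Nat.mul_le_mul_left _ (by nlinarith)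
    omega

/-- subfield comparison -/
theorem deg_eq {F K L : Type*} [Field F] [Fintype F] [Field K] [Fintype K] [Field L] [Fintype L] {r m : ℕ} (hr : r.Prime)
    (hK : Fintype.card F = Fintype.card K ^ r) (hm : 2 ≤ m) (hL : Fintype.card L ^ m = Fintype.card F)
    (h : Fintype.card K * (Fintype.card K * Fintype.card K - 1) ∣ 2 * (Fintype.card L * (Fintype.card L * Fintype.card L - 1))) :
    m = r ∧ Fintype.card L = Fintype.card K := by
  obtain ⟨p, hp⟩ := CharP.exists K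
  have hpp : Fact p.Prime := ⟨CharP.char_is_prime K p⟩
  obtain ⟨b, hb, hKb⟩ := GL2.exists_card_eq (F := K) p
  obtain ⟨p', hp'⟩ := CharP.exists L
  have hpp' : Fact p'.Prime := ⟨CharP.char_is_prime L p'⟩
  obtain ⟨a, ha, hLa⟩ := GL2.exists_card_eq (F := L) p'
  have hr0 : r ≠ 0 := hr.ne_zero
  have heq : p' = p := by
    have h1 : p' ∣ p ^ (b * r) := by
      rw [pow_mul, ← hKb, ← hK, ← hL, hLa, ← pow_mul]
      exact dvd_pow_self _ (by positivity)
    exact (Nat.prime_dvd_prime_iff_eq hpp'.out hpp.out).mp (hpp'.out.dvd_of_dvd_pow h1)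
  subst heq
  have h2 : 2 ≤ p' := hpp.out.two_le
  have hab : a * m = b * r := by
    have : p' ^ (a * m) = p' ^ (b * r) := by
      rw [pow_mul, ← hLa, hL, hK, hKb, ← pow_mul]
    exact Nat.pow_right_injective h2 this
  have hcop : Nat.Coprime (p' ^ (2 * b) - 1) (p' ^ a) := by
    apply Nat.Coprime.pow_right
    rw [Nat.coprime_comm, Nat.Prime.coprime_iff_not_dvd hpp.out]
    intro hd
    have h3 : p' ∣ p' ^ (2 * b) := dvd_pow_self _ (by omega)
    have h4 := Nat.dvd_sub h3 hd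
    have h5 : 1 < p' ^ (2 * b) := Nat.one_lt_pow (by omega) (by omega)
    rw [Nat.sub_sub_self (by omega)] at h4
    exact hpp.out.one_lt.ne' (Nat.dvd_one.mp h4)
  have hsqK : Fintype.card K * Fintype.card K = p' ^ (2 * b) := by rw [hKb, ← pow_add]; congr 1; omega
  have hsqL : Fintype.card L * Fintype.card L = p' ^ (2 * a) := by rw [hLa, ← pow_add]; congr 1; omega
  rw [hsqK, hsqL] at h
  have h3 : p' ^ (2 * b) - 1 ∣ p' ^ a * (2 * (p' ^ (2 * a) - 1)) := by
    have := (dvd_mul_left _ _).trans h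
    rw [hLa] at this
    rwa [mul_left_comm] at this
  have h4 := deg_aux h2 hb ha (hcop.dvd_of_dvd_mul_left h3)
  obtain ⟨c, rfl⟩ := h4
  have h5 : c * m = r := by
    have : b * (c * m) = b * r := by rw [← hab]; ring
    exact Nat.eq_of_mul_eq_mul_left hb this
  have h6 : c = 1 := by
    rcases (Nat.dvd_prime hr).mp ⟨m, h5.symm⟩ with h | h
    · exact h
    · exfalso
      rw [h] at h5
      have : r * 2 ≤ r * m := Nat.mul_le_mul_left _ hm
      have := hr.pos
      omega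
  subst h6
  refine ⟨by omega, ?_⟩
  rw [hLa, hKb, mul_one]


theorem sub_lt {F : Type*} [Field F] {H M : Subgroup (PS F)} [Finite (PS F)] (h : H < M) : Nat.card H ∣ Nat.card M ∧ Nat.card H ≠ Nat.card M := by
  refine ⟨Subgroup.card_dvd_of_le h.le, fun he => h.ne (Subgroup.eq_of_le_of_card_ge h.le he.ge)⟩

theorem no_sub_prime {F L : Type*} [Field F] [Fintype F] [Field L] [Fintype L] {m : ℕ} (hF : (Fintype.card F).Prime) (hm : 2 ≤ m)
    (h : Fintype.card L ^ m = Fintype.card F) : False := by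
  rw [← h] at hF
  exact Nat.Prime.not_prime_pow hm hF

end Cfsg.Agent.H5.Dk
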