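import Cfsg.Statements.S2299
import Cfsg.Agent.H15_ST4

set_option autoImplicit false
open Cfsg

namespace Cfsg.Agent.S2299

open Cfsg.Agent.H15.PS Cfsg.Agent.H15.M2 in
theorem key {F : Type*} [Field F] [Fintype F] [DecidableEq F] (hodd : Odd (Fintype.card F)) (hq : 5 ≤ Fintype.card F) :
      Nat.card {χ : Cfsg.IrrCharacter (Matrix.SpecialLinearGroup (Fin 2) F) // (χ : Matrix.SpecialLinearGroup (Fin 2) F → ℂ) 1 = 1} = 1 ∧
      Nat.card {χ : Cfsg.IrrCharacter (Matrix.SpecialLinearGroup (Fin 2) F) // (χ : Matrix.SpecialLinearGroup (Fin 2) F → ℂ) 1 = (Fintype.card F : ℂ)} = 1 ∧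
      Nat.card {χ : Cfsg.IrrCharacter (Matrix.SpecialLinearGroup (Fin 2) F) // (χ : Matrix.SpecialLinearGroup (Fin 2) F → ℂ) 1 = (Fintype.card F : ℂ) + 1} = (Fintype.card F - 3) / 2 ∧
      Nat.card {χ : Cfsg.IrrCharacter (Matrix.SpecialLinearGroup (Fin 2) F) // (χ : Matrix.SpecialLinearGroup (Fin 2) F → ℂ) 1 = (Fintype.card F : ℂ) - 1} = (Fintype.card F - 1) / 2 ∧
      Nat.card {χ : Cfsg.IrrCharacter (Matrix.SpecialLinearGroup (Fin 2) F) // (χ : Matrix.SpecialLinearGroup (Fin 2) F → ℂ) 1 = (((Fintype.card F + 1) / 2 : ℕ) : ℂ)} = 2 ∧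
      Nat.card {χ : Cfsg.IrrCharacter (Matrix.SpecialLinearGroup (Fin 2) F) // (χ : Matrix.SpecialLinearGroup (Fin 2) F → ℂ) 1 = (((Fintype.card F - 1) / 2 : ℕ) : ℂ)} = 2 := by
  have h2 : (2 : F) ≠ 0 := by
    intro h
    haveI : CharP F 2 := CharTwo.of_one_ne_zero_of_two_eq_zero one_ne_zero h
    have h1 := FiniteField.even_card_iff_char_two.mp (ringChar.eq_iff.mpr (inferInstance : CharP F 2))
    rw [Nat.odd_iff] at hodd
    omega
  have hq4 : 4 ≤ Fintype.card F := by omega
  have hp := half_p hodd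
  have hm := half_m hodd
  obtain ⟨hCC, hCD⟩ := card_CC_CD_odd h2
  have hCP := card_CP (F := F)
  have hsq := card_sq_ne_odd h2
  refine ⟨?_, ?_, ?_, ?_, ?_, ?_⟩
  · rw [card_deg {jO} 1 (fun χ => ?_), Finset.card_singleton]
    rw [Finset.mem_singleton]
    constructor
    · intro h
      apply Subtype.ext
      rcases class_T χ.2 with h' | h' | h' | h' | h' | h'
      · exact h'
      · rw [h', StS_one] at h; exact absurd h.symm one_lt_card_c
      · rw [h'.deg] at h; exact absurd (by linear_combination h) (q_ne (F := F))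
      · have := h'.deg; rw [h] at this; exact absurd (by linear_combination this) (one_lt_card_c (F := F))
      · rw [h'.deg] at h; exact absurd (by linear_combination h) (qne2 (F := F) (by omega))
      · have := h'.deg; rw [h] at this; exact absurd (by linear_combination -this) (qne3 (F := F) (by omega))
    · rintro rfl; rfl
  · rw [card_deg {jS} _ (fun χ => ?_), Finset.card_singleton]
    rw [Finset.mem_singleton]
    constructor
    · intro h
      exact Subtype.ext (deg_q χ.2 h)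
    · rintro rfl; exact StS_one
  · rw [card_deg CP _ (fun χ => ⟨fun h => mem_CP.mpr (deg_qp χ.2 h), fun h => (mem_CP.mp h).deg⟩)]
    omega
  · rw [card_deg CC _ (fun χ => ⟨fun h => mem_CC.mpr (deg_qm hq4 χ.2 h), fun h => (mem_CC.mp h).deg⟩)]
    omega
  · rw [card_deg CH _ (fun χ => ⟨fun h => mem_CH.mpr (deg_hp hq4 χ.2 (by rw [h, hp])), fun h =>
      mul_left_cancel₀ two_ne_zero (by rw [(mem_CH.mp h).deg, hp])⟩), card_CH_odd h2]
  · rw [card_deg CD _ (fun χ => ⟨fun h => mem_CD.mpr (deg_hm hq4 χ.2 (by rw [h, hm])), fun h =>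
      mul_left_cancel₀ two_ne_zero (by rw [(mem_CD.mp h).deg, hm])⟩), hCD]


/-- Over a finite field F with q elements, q odd, every irreducible complex character of SL₂ has degree 1, q, q + 1, q − 1, (q + 1)/2 or (q − 1)/2; and when q ≥ 5 (so that these six numbers are distinct) there are exactly one irreducible character of degree 1, one of degree q, (q − 3)/2 of degree q + 1, (q − 1)/2 of degree q − 1, two of degree (q + 1)/2 and two of degree (q − 1)/2. -/
theorem result {F : Type*} [Field F] [Fintype F] (hodd : Odd (Fintype.card F)) :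
    (∀ χ : Matrix.SpecialLinearGroup (Fin 2) F → ℂ, Cfsg.IsIrrCharacter (Matrix.SpecialLinearGroup (Fin 2) F) χ →
      χ 1 = 1 ∨ χ 1 = (Fintype.card F : ℂ) ∨ χ 1 = (Fintype.card F : ℂ) + 1 ∨ χ 1 = (Fintype.card F : ℂ) - 1 ∨
        χ 1 = (((Fintype.card F + 1) / 2 : ℕ) : ℂ) ∨ χ 1 = (((Fintype.card F - 1) / 2 : ℕ) : ℂ)) ∧
    (5 ≤ Fintype.card F →
      Nat.card {χ : Cfsg.IrrCharacter (Matrix.SpecialLinearGroup (Fin 2) F) // (χ : Matrix.SpecialLinearGroup (Fin 2) F → ℂ) 1 = 1} = 1 ∧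
      Nat.card {χ : Cfsg.IrrCharacter (Matrix.SpecialLinearGroup (Fin 2) F) // (χ : Matrix.SpecialLinearGroup (Fin 2) F → ℂ) 1 = (Fintype.card F : ℂ)} = 1 ∧
      Nat.card {χ : Cfsg.IrrCharacter (Matrix.SpecialLinearGroup (Fin 2) F) // (χ : Matrix.SpecialLinearGroup (Fin 2) F → ℂ) 1 = (Fintype.card F : ℂ) + 1} = (Fintype.card F - 3) / 2 ∧
      Nat.card {χ : Cfsg.IrrCharacter (Matrix.SpecialLinearGroup (Fin 2) F) // (χ : Matrix.SpecialLinearGroup (Fin 2) F → ℂ) 1 = (Fintype.card F : ℂ) - 1} = (Fintype.card F - 1) / 2 ∧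
      Nat.card {χ : Cfsg.IrrCharacter (Matrix.SpecialLinearGroup (Fin 2) F) // (χ : Matrix.SpecialLinearGroup (Fin 2) F → ℂ) 1 = (((Fintype.card F + 1) / 2 : ℕ) : ℂ)} = 2 ∧
      Nat.card {χ : Cfsg.IrrCharacter (Matrix.SpecialLinearGroup (Fin 2) F) // (χ : Matrix.SpecialLinearGroup (Fin 2) F → ℂ) 1 = (((Fintype.card F - 1) / 2 : ℕ) : ℂ)} = 2) := by
  classical
  have hp := Cfsg.Agent.H15.PS.half_p hodd
  have hm := Cfsg.Agent.H15.PS.half_m hodd
  constructor
  · intro χ hχ
    rcases Cfsg.Agent.H15.PS.class_T hχ with h' | h' | h' | h' | h' | h'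
    · left; rw [h']
    · right; left; rw [h', Cfsg.Agent.H15.PS.StS_one]
    · right; right; left; exact h'.deg
    · right; right; right; right; left
      exact mul_left_cancel₀ two_ne_zero (by rw [h'.deg, hp])
    · right; right; right; left; exact h'.deg
    · right; right; right; right; right
      exact mul_left_cancel₀ two_ne_zero (by rw [h'.deg, hm])
  · intro hq
    exact key hodd hq

end Cfsg.Agent.S2299
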