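import Cfsg.Statements.S2300
import Cfsg.Agent.H15_ST4

set_option autoImplicit false
open Cfsg

namespace Cfsg.Agent.S2300

open Cfsg.Agent.H15.PS Cfsg.Agent.H15.M2 in
theorem key {F : Type*} [Field F] [Fintype F] [DecidableEq F] (h2 : (2 : F) = 0) (hq4 : 4 ≤ Fintype.card F) :
      Nat.card {χ : Cfsg.IrrCharacter (Matrix.SpecialLinearGroup (Fin 2) F) // (χ : Matrix.SpecialLinearGroup (Fin 2) F → ℂ) 1 = 1} = 1 ∧
      Nat.card {χ : Cfsg.IrrCharacter (Matrix.SpecialLinearGroup (Fin 2) F) // (χ : Matrix.SpecialLinearGroup (Fin 2) F → ℂ) 1 = (Fintype.card F : ℂ)} = 1 ∧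
      Nat.card {χ : Cfsg.IrrCharacter (Matrix.SpecialLinearGroup (Fin 2) F) // (χ : Matrix.SpecialLinearGroup (Fin 2) F → ℂ) 1 = (Fintype.card F : ℂ) + 1} = (Fintype.card F - 2) / 2 ∧
      Nat.card {χ : Cfsg.IrrCharacter (Matrix.SpecialLinearGroup (Fin 2) F) // (χ : Matrix.SpecialLinearGroup (Fin 2) F → ℂ) 1 = (Fintype.card F : ℂ) - 1} = Fintype.card F / 2 := by
  have hCC := card_CC_even h2
  have hCP := card_CP (F := F)
  have hsq := card_sq_ne_even h2
  refine ⟨?_, ?_, ?_, ?_⟩
  · rw [card_deg {jO} 1 (fun χ => ?_), Finset.card_singleton]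
    rw [Finset.mem_singleton]
    constructor
    · intro h
      apply Subtype.ext
      rcases class_T χ.2 with h' | h' | h' | h' | h' | h'
      · exact h'
      · rw [h', StS_one] at h; exact absurd h.symm one_lt_card_c
      · rw [h'.deg] at h; exact absurd (by linear_combination h) (q_ne (F := F))
      · have := h'.deg; rw [h] at this; exact absurd (by linear_combination this) (one_lt_card_c (F := F))
      · rw [h'.deg] at h; exact absurd (by linear_combination h) (qne2 (F := F) (by omega))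
      · have := h'.deg; rw [h] at this; exact absurd (by linear_combination -this) (qne3 (F := F) (by omega))
    · rintro rfl; rfl
  · rw [card_deg {jS} _ (fun χ => ?_), Finset.card_singleton]
    rw [Finset.mem_singleton]
    constructor
    · intro h
      exact Subtype.ext (deg_q χ.2 h)
    · rintro rfl; exact StS_one
  · rw [card_deg CP _ (fun χ => ⟨fun h => mem_CP.mpr (deg_qp χ.2 h), fun h => (mem_CP.mp h).deg⟩)]
    omega
  · rw [card_deg CC _ (fun χ => ⟨fun h => mem_CC.mpr (deg_qm hq4 χ.2 h), fun h => (mem_CC.mp h).deg⟩)]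
    omega


/-- Over a finite field F with q elements, q even, every irreducible complex character of SL₂ has degree 1, q − 1, q or q + 1; and when q ≥ 4 (so that these four numbers are distinct) there are exactly one irreducible character of degree 1, one of degree q, (q − 2)/2 of degree q + 1 and q/2 of degree q − 1. -/
theorem result {F : Type*} [Field F] [Fintype F] [CharP F 2] :
    (∀ χ : Matrix.SpecialLinearGroup (Fin 2) F → ℂ, Cfsg.IsIrrCharacter (Matrix.SpecialLinearGroup (Fin 2) F) χ →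
      χ 1 = 1 ∨ χ 1 = (Fintype.card F : ℂ) - 1 ∨ χ 1 = (Fintype.card F : ℂ) ∨ χ 1 = (Fintype.card F : ℂ) + 1) ∧
    (4 ≤ Fintype.card F →
      Nat.card {χ : Cfsg.IrrCharacter (Matrix.SpecialLinearGroup (Fin 2) F) // (χ : Matrix.SpecialLinearGroup (Fin 2) F → ℂ) 1 = 1} = 1 ∧
      Nat.card {χ : Cfsg.IrrCharacter (Matrix.SpecialLinearGroup (Fin 2) F) // (χ : Matrix.SpecialLinearGroup (Fin 2) F → ℂ) 1 = (Fintype.card F : ℂ)} = 1 ∧
      Nat.card {χ : Cfsg.IrrCharacter (Matrix.SpecialLinearGroup (Fin 2) F) // (χ : Matrix.SpecialLinearGroup (Fin 2) F → ℂ) 1 = (Fintype.card F : ℂ) + 1} = (Fintype.card F - 2) / 2 ∧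
      Nat.card {χ : Cfsg.IrrCharacter (Matrix.SpecialLinearGroup (Fin 2) F) // (χ : Matrix.SpecialLinearGroup (Fin 2) F → ℂ) 1 = (Fintype.card F : ℂ) - 1} = Fintype.card F / 2) := by
  classical
  have h2 : (2 : F) = 0 := CharTwo.two_eq_zero
  constructor
  · intro χ hχ
    rcases Cfsg.Agent.H15.PS.class_T hχ with h' | h' | h' | h' | h' | h'
    · left; rw [h']
    · right; right; left; rw [h', Cfsg.Agent.H15.PS.StS_one]
    · right; right; right; exact h'.deg
    · obtain ⟨α, ψ', h3, h4, _⟩ := h'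
      exact absurd (Cfsg.Agent.H15.PS.mulChar_even h2 h3) h4
    · right; left; exact h'.deg
    · obtain ⟨_, _, _, _, _, h, _⟩ := h'
      exact absurd h2 h
  · intro hq
    exact key h2 hq

end Cfsg.Agent.S2300
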