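import Cfsg.Statements.S2434
import Cfsg.Agent.H15_XT5

set_option autoImplicit false
open Cfsg

namespace Cfsg.Agent.S2434

open Cfsg.Agent.H15.PS Cfsg.Agent.H15.M2 in
theorem part1 {F : Type*} [Field F] [Fintype F] [DecidableEq F] (c₀ : Matrix.SpecialLinearGroup (Fin 2) F)
    (hc : Ell (c₀ : Matrix (Fin 2) (Fin 2) F)) (θ : TE c₀ →* ℂˣ) (hθ : ∃ c : TE c₀, θ c ^ 2 ≠ 1) :
      ∃ χ : Matrix.SpecialLinearGroup (Fin 2) F → ℂ, Cfsg.IsIrrCharacter (Matrix.SpecialLinearGroup (Fin 2) F) χ ∧ χ 1 = (Fintype.card F : ℂ) - 1 ∧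
        (∀ c : TE c₀, (c : Matrix.SpecialLinearGroup (Fin 2) F) ∉ Subgroup.center (Matrix.SpecialLinearGroup (Fin 2) F) → χ c = -((θ c).val + (θ c)⁻¹.val)) ∧
        (∀ c : TE c₀, (c : Matrix.SpecialLinearGroup (Fin 2) F) ∈ Subgroup.center (Matrix.SpecialLinearGroup (Fin 2) F) → ∀ g : Matrix.SpecialLinearGroup (Fin 2) F, χ ((c : Matrix.SpecialLinearGroup (Fin 2) F) * g) = (θ c).val * χ g) ∧
        (∀ g : Matrix.SpecialLinearGroup (Fin 2) F, (g : Matrix (Fin 2) (Fin 2) F) 0 1 = 0 → (g : Matrix (Fin 2) (Fin 2) F) 1 0 = 0 → (g : Matrix (Fin 2) (Fin 2) F) 0 0 ^ 2 ≠ 1 → χ g = 0) ∧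
        (∀ g : Matrix.SpecialLinearGroup (Fin 2) F, (g : Matrix (Fin 2) (Fin 2) F) 1 0 = 0 → (g : Matrix (Fin 2) (Fin 2) F) 0 0 = 1 → (g : Matrix (Fin 2) (Fin 2) F) 1 1 = 1 → (g : Matrix (Fin 2) (Fin 2) F) 0 1 ≠ 0 → χ g = -1) := by
  have hθ' : θ ^ 2 ≠ 1 := by
    obtain ⟨c, h⟩ := hθ
    intro h1
    apply h
    rw [← MonoidHom.pow_apply, h1, MonoidHom.one_apply]
  have hirr := isIrr_XT hc hθ'
  refine ⟨XT θ, hirr, XT_one hc θ, ?_, ?_, ?_, ?_⟩
  · intro c hcc
    rw [center_iff, not_not] at hcc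
    rw [XT_ell hc θ c hcc, map_inv]
  · intro c hcc g
    obtain ⟨a, ha, h1⟩ := (not_NS_iff (c : Matrix.SpecialLinearGroup (Fin 2) F)).mp ((center_iff _).mp hcc)
    obtain ⟨ω, _, hω⟩ := Cfsg.Agent.H3.CharInt.IsIrr.central hirr hcc
    have h2 := hω 1
    rw [one_mul, XT_one hc, h1, XT_sc hc] at h2
    have h3 : zv θ (a : F) (val_sq ha) = (θ c).val := by
      rw [zv]
      congr 2
      exact Subtype.ext h1.symm
    have h4 : ω = (θ c).val := by
      rw [← h3]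
      apply mul_right_cancel₀ (q1_ne (F := F))
      rw [← h2]; ring
    have h5 : (c : Matrix.SpecialLinearGroup (Fin 2) F) * g = g * c := (Subgroup.mem_center_iff.mp hcc g).symm
    rw [h5, hω g, h4]
  · intro g h01 h10 h00
    obtain ⟨a, ha, _, rfl⟩ := eq_utS h01 h10 h00
    exact XT_split hc θ ha 0
  · intro g h10 h00 h11 h01
    have hg : g = up 1 ((g : Matrix (Fin 2) (Fin 2) F) 0 1) (one_mul 1) := by
      apply Subtype.ext
      ext i j
      fin_cases i <;> fin_cases j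
      · exact h00
      · rfl
      · exact h10
      · exact h11
    rw [hg, XT_up hc θ _ h01, zv_one]

open Cfsg.Agent.H15.PS Cfsg.Agent.H15.M2 in
theorem part2 {F : Type*} [Field F] [Fintype F] [DecidableEq F] (hodd : Odd (Fintype.card F)) (c₀ : Matrix.SpecialLinearGroup (Fin 2) F)
    (hc : Ell (c₀ : Matrix (Fin 2) (Fin 2) F)) (χ : Matrix.SpecialLinearGroup (Fin 2) F → ℂ)
    (hχ : Cfsg.IsIrrCharacter (Matrix.SpecialLinearGroup (Fin 2) F) χ) (hd : χ 1 = (Fintype.card F : ℂ) - 1) :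
      ∃ θ : TE c₀ →* ℂˣ, (∃ c : TE c₀, θ c ^ 2 ≠ 1) ∧
        ∀ c : TE c₀, (c : Matrix.SpecialLinearGroup (Fin 2) F) ∉ Subgroup.center (Matrix.SpecialLinearGroup (Fin 2) F) → χ c = -((θ c).val + (θ c)⁻¹.val) := by
  classical
  have hex : ∀ θ : TE c₀ →* ℂˣ, θ ^ 2 ≠ 1 → ∃ c : TE c₀, θ c ^ 2 ≠ 1 := by
    intro θ hθ
    by_contra hcon
    push Not at hcon
    apply hθ
    ext x
    rw [MonoidHom.pow_apply, hcon x]; rfl
  have hTC : TC χ → ∃ θ : TE c₀ →* ℂˣ, (∃ c : TE c₀, θ c ^ 2 ≠ 1) ∧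
        ∀ c : TE c₀, (c : Matrix.SpecialLinearGroup (Fin 2) F) ∉ Subgroup.center (Matrix.SpecialLinearGroup (Fin 2) F) → χ c = -((θ c).val + (θ c)⁻¹.val) := by
    intro h
    obtain ⟨θ, hθ, rfl⟩ := (TC_iff hc hχ).mp h
    refine ⟨θ, hex θ hθ, fun c hcc => ?_⟩
    rw [center_iff, not_not] at hcc
    rw [XT_ell hc θ c hcc, map_inv]
  by_cases h4 : 4 ≤ Fintype.card F
  · exact hTC (deg_qm h4 hχ hd)
  · have h3 : Fintype.card F = 3 := by
      have := one_lt_q (F := F)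
      obtain ⟨k, hk⟩ := hodd
      omega
    have h3c : (Fintype.card F : ℂ) = 3 := by rw [h3]; norm_num
    have key : (∀ x : TE c₀, NS ((x : Matrix.SpecialLinearGroup (Fin 2) F) : Matrix (Fin 2) (Fin 2) F) → χ x = 0) → ∃ θ : TE c₀ →* ℂˣ, (∃ c : TE c₀, θ c ^ 2 ≠ 1) ∧
        ∀ c : TE c₀, (c : Matrix.SpecialLinearGroup (Fin 2) F) ∉ Subgroup.center (Matrix.SpecialLinearGroup (Fin 2) F) → χ c = -((θ c).val + (θ c)⁻¹.val) := by
      intro h0
      have hne : (Finset.univ.filter (fun θ : TE c₀ →* ℂˣ => θ ^ 2 = 1)) ≠ Finset.univ := by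
        intro h
        have h1 := card_sq_hom hc
        rw [h, Finset.card_univ, card_homs hc] at h1
        omega
      obtain ⟨θ, hθ⟩ : ∃ θ : TE c₀ →* ℂˣ, θ ^ 2 ≠ 1 := by
        by_contra hcon
        push Not at hcon
        apply hne
        exact Finset.filter_true_of_mem (fun θ _ => hcon θ)
      refine ⟨θ, hex θ hθ, fun c hcc => ?_⟩
      rw [center_iff, not_not] at hcc
      have h1 := three_val h3 hc hθ hcc
      rw [h0 c hcc, ← map_inv, h1, neg_zero]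
    rcases class_T hχ with h | h | h | h | h | h
    · rw [h, h3c] at hd; norm_num at hd
    · rw [h, StS_one] at hd; exact absurd (by linear_combination hd) (one_ne_zero (α := ℂ))
    · rw [h.deg] at hd; exact absurd (by linear_combination hd) (two_ne_zero (α := ℂ))
    · obtain ⟨α, ψ', _, _, hH⟩ := h
      apply key
      intro x hx
      have hE := ell_of_mem hc x.2 hx
      have h1 := hH.val (InvC.ell hE)
      rw [RS_ell _ hE] at h1
      exact (mul_eq_zero.mp h1).resolve_left two_ne_zero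
    · exact hTC h
    · have := h.deg
      rw [hd, h3c] at this
      norm_num at this


/-- Let F be a finite field with q elements, q odd, and C a cyclic subgroup of order q + 1 of SL₂ over F (a non-split torus; it contains the centre). For every homomorphism θ from C to the non-zero complex numbers with θ² ≠ 1 there is an irreducible complex character χ of degree q − 1 such that χ(c) = −θ(c) − θ(c)⁻¹ for every non-central c in C, χ(zg) = θ(z)χ(g) for central z in C, χ vanishes at diagonal elements with entry a, a² ≠ 1, and χ takes the value −1 at every upper unitriangular element other than 1. Conversely every irreducible character of degree q − 1 has, for some such θ, the values −θ(c) − θ(c)⁻¹ at the non-central elements c of C (for q ≥ 5 these are exactly the cuspidal characters of degree q − 1). -/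
theorem result {F : Type*} [Field F] [Fintype F] (hodd : Odd (Fintype.card F))
    (C : Subgroup (Matrix.SpecialLinearGroup (Fin 2) F)) (hC : IsCyclic C) (hcard : Nat.card C = Fintype.card F + 1) :
    (∀ θ : C →* ℂˣ, (∃ c : C, θ c ^ 2 ≠ 1) →
      ∃ χ : Matrix.SpecialLinearGroup (Fin 2) F → ℂ, Cfsg.IsIrrCharacter (Matrix.SpecialLinearGroup (Fin 2) F) χ ∧ χ 1 = (Fintype.card F : ℂ) - 1 ∧
        (∀ c : C, (c : Matrix.SpecialLinearGroup (Fin 2) F) ∉ Subgroup.center (Matrix.SpecialLinearGroup (Fin 2) F) → χ c = -((θ c).val + (θ c)⁻¹.val)) ∧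
        (∀ c : C, (c : Matrix.SpecialLinearGroup (Fin 2) F) ∈ Subgroup.center (Matrix.SpecialLinearGroup (Fin 2) F) → ∀ g : Matrix.SpecialLinearGroup (Fin 2) F, χ ((c : Matrix.SpecialLinearGroup (Fin 2) F) * g) = (θ c).val * χ g) ∧
        (∀ g : Matrix.SpecialLinearGroup (Fin 2) F, (g : Matrix (Fin 2) (Fin 2) F) 0 1 = 0 → (g : Matrix (Fin 2) (Fin 2) F) 1 0 = 0 → (g : Matrix (Fin 2) (Fin 2) F) 0 0 ^ 2 ≠ 1 → χ g = 0) ∧
        (∀ g : Matrix.SpecialLinearGroup (Fin 2) F, (g : Matrix (Fin 2) (Fin 2) F) 1 0 = 0 → (g : Matrix (Fin 2) (Fin 2) F) 0 0 = 1 → (g : Matrix (Fin 2) (Fin 2) F) 1 1 = 1 → (g : Matrix (Fin 2) (Fin 2) F) 0 1 ≠ 0 → χ g = -1)) ∧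
    (∀ χ : Matrix.SpecialLinearGroup (Fin 2) F → ℂ, Cfsg.IsIrrCharacter (Matrix.SpecialLinearGroup (Fin 2) F) χ → χ 1 = (Fintype.card F : ℂ) - 1 →
      ∃ θ : C →* ℂˣ, (∃ c : C, θ c ^ 2 ≠ 1) ∧
        ∀ c : C, (c : Matrix.SpecialLinearGroup (Fin 2) F) ∉ Subgroup.center (Matrix.SpecialLinearGroup (Fin 2) F) → χ c = -((θ c).val + (θ c)⁻¹.val)) := by
  classical
  obtain ⟨c₀, hc, rfl⟩ := Cfsg.Agent.H15.PS.exists_ell_of_cyclic hodd C hC hcard
  exact ⟨fun θ hθ => part1 c₀ hc θ hθ, fun χ hχ hd => part2 hodd c₀ hc χ hχ hd⟩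

end Cfsg.Agent.S2434
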