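import Mathlib
import Cfsg.Prelude.Def_DegreeGraph
import Cfsg.Agent.H5_DkN
import Cfsg.Agent.H5_SL2Quat
import Cfsg.Agent.H3_CharQuot
import Cfsg.Agent.H1_Deg
import Cfsg.Agent.H15_BL1
import Cfsg.Agent.H15_ST4
import Cfsg.Agent.S2299
import Cfsg.Agent.S2300
import Cfsg.Agent.S2306
import Cfsg.Agent.S2433
import Cfsg.Agent.S2434

set_option autoImplicit false

/-! Character degrees of `PSL_2(q)`. -/

namespace Cfsg.Agent.H5.PDeg

open Cfsg Cfsg.Agent.H3.CharIrr Cfsg.Agent.H3.CharInd Cfsg.Agent.H5.SL2 Cfsg.Agent.H5.V4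

theorem mem_degs {G : Type*} [Group G] [Finite G] {d : ℕ} : d ∈ charDegrees G ↔ ∃ χ : G → ℂ, IsIrrCharacter G χ ∧ χ 1 = d := by
  constructor
  · rintro ⟨χ, hχ⟩
    refine ⟨χ, χ.2, ?_⟩
    rw [← Cfsg.Agent.H1.Deg.coe_deg (IsIrr.isCharacter χ.2), hχ]
  · rintro ⟨χ, hχ, h⟩
    refine ⟨⟨χ, hχ⟩, ?_⟩
    have := Cfsg.Agent.H1.Deg.coe_deg (IsIrr.isCharacter hχ)
    rw [h] at this
    exact_mod_cast this

theorem degs_surj {G H : Type*} [Group G] [Group H] [Finite G] [Finite H] (f : G →* H) (hf : Function.Surjective f) :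
    charDegrees H ⊆ charDegrees G := by
  intro d hd
  obtain ⟨χ, hχ, h⟩ := mem_degs.mp hd
  exact mem_degs.mpr ⟨_, IsIrr.comp hχ f hf, by rw [map_one]; exact h⟩

theorem degs_iso {G H : Type*} [Group G] [Group H] [Finite G] [Finite H] (e : G ≃* H) : charDegrees G = charDegrees H :=
  Set.Subset.antisymm (degs_surj e.symm.toMonoidHom e.symm.surjective) (degs_surj e.toMonoidHom e.surjective)

variable {F : Type*} [Field F] [Fintype F]

theorem π_one_iff {s : S F} : s ∈ Subgroup.center (S F) ↔ s = 1 ∨ s = -1 := by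
  rw [← π_eq_one]
  exact (QuotientGroup.eq_one_iff s).symm

/-- descend a character of `SL_2` which is the same at `-1` and `1` -/
theorem descend {χ : S F → ℂ} (hχ : IsIrrCharacter (S F) χ) (h : χ (-1) = χ 1) :
    ∃ χ' : PS F → ℂ, IsIrrCharacter (PS F) χ' ∧ ∀ g : S F, χ' (π g) = χ g := by
  obtain ⟨χ', h1, h2⟩ := Cfsg.Agent.H3.CharQuot.IsIrr.descend hχ (Subgroup.center (S F)) (by
    intro n hn
    rcases π_one_iff.mp hn with rfl | rfl
    · rfl
    · exact h)
  exact ⟨χ', h1, h2⟩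

theorem mem_PS_degs {χ : S F → ℂ} (hχ : IsIrrCharacter (S F) χ) (h : χ (-1) = χ 1) {d : ℕ} (hd : χ 1 = d) : d ∈ charDegrees (PS F) := by
  obtain ⟨χ', h1, h2⟩ := descend hχ h
  refine mem_degs.mpr ⟨χ', h1, ?_⟩
  rw [← hd, ← h2 1, map_one]

theorem inflate {χ : PS F → ℂ} (hχ : IsIrrCharacter (PS F) χ) : IsIrrCharacter (S F) (fun g => χ (π g)) :=
  IsIrr.comp hχ π π_surj

theorem degs_even [CharP F 2] (h4 : 4 ≤ Fintype.card F) {d : ℕ} :
    d ∈ charDegrees (S F) ↔ d = 1 ∨ d = Fintype.card F - 1 ∨ d = Fintype.card F ∨ d = Fintype.card F + 1 := by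
  obtain ⟨hall, hcnt⟩ := Cfsg.Agent.S2300.result (F := F)
  obtain ⟨c1, c2, c3, c4⟩ := hcnt h4
  rw [mem_degs]
  constructor
  · rintro ⟨χ, hχ, hd⟩
    rcases hall χ hχ with h | h | h | h <;> rw [hd] at h
    · left; exact_mod_cast h
    · right; left
      have h' : (d : ℂ) + 1 = (Fintype.card F : ℂ) := by rw [h]; ring
      have : d + 1 = Fintype.card F := by exact_mod_cast h'
      omega
    · right; right; left; exact_mod_cast h
    · right; right; right; exact_mod_cast h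
  · have key : ∀ (v : ℂ), (d : ℂ) = v → Nat.card {χ : IrrCharacter (S F) // (χ : S F → ℂ) 1 = v} ≠ 0 →
        ∃ χ : S F → ℂ, IsIrrCharacter (S F) χ ∧ χ 1 = d := by
      intro v hv hc
      obtain ⟨⟨χ, hχ⟩⟩ := (Nat.card_ne_zero.mp hc).1
      exact ⟨χ, χ.2, by rw [hχ, hv]⟩
    rintro (h | h | h | h)
    · exact key 1 (by rw [h, Nat.cast_one]) (by rw [c1]; norm_num)
    · refine key _ (by rw [h, Nat.cast_sub (by omega), Nat.cast_one]) ?_
      rw [c4]; omega
    · exact key _ (by rw [h]) (by rw [c2]; norm_num)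
    · refine key ((Fintype.card F : ℂ) + 1) (by rw [h]; push_cast; ring) ?_
      rw [c3]; omega

theorem degs_odd (hodd : Odd (Fintype.card F)) {d : ℕ} (h : d ∈ charDegrees (S F)) :
    d = 1 ∨ d = Fintype.card F ∨ d = Fintype.card F + 1 ∨ d = Fintype.card F - 1 ∨ d = (Fintype.card F + 1) / 2 ∨ d = (Fintype.card F - 1) / 2 := by
  obtain ⟨hall, -⟩ := Cfsg.Agent.S2299.result hodd
  obtain ⟨χ, hχ, hd⟩ := mem_degs.mp h
  rcases hall χ hχ with h | h | h | h | h | h <;> rw [hd] at h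
  · left; exact_mod_cast h
  · right; left; exact_mod_cast h
  · right; right; left; exact_mod_cast h
  · right; right; right; left
    have h' : (d : ℂ) + 1 = (Fintype.card F : ℂ) := by rw [h]; ring
    have : d + 1 = Fintype.card F := by exact_mod_cast h'
    omega
  · right; right; right; right; left; exact_mod_cast h
  · right; right; right; right; right; exact_mod_cast h

theorem q_mem : Fintype.card F ∈ charDegrees (PS F) := by
  classical
  exact mem_PS_degs Cfsg.Agent.H15.PS.isIrr_StS Cfsg.Agent.H15.BL.St_neg Cfsg.Agent.H15.PS.StS_one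

theorem qp_mem (hodd : Odd (Fintype.card F)) (h5 : 5 < Fintype.card F) : Fintype.card F + 1 ∈ charDegrees (PS F) := by
  classical
  have hn : Fintype.card F - 1 ≠ 0 := by omega
  obtain ⟨χ₀, hχ₀⟩ := MulChar.exists_mulChar_orderOf F (dvd_refl (Fintype.card F - 1)) (Complex.isPrimitiveRoot_exp _ hn)
  have hα : (χ₀ ^ 2) ^ 2 ≠ 1 := by
    intro h
    rw [← pow_mul] at h
    have := orderOf_dvd_of_pow_eq_one h
    rw [hχ₀] at this
    have := Nat.le_of_dvd (by norm_num) this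
    obtain ⟨k, hk⟩ := hodd
    omega
  have hirr := (Cfsg.Agent.S2306.result (χ₀ ^ 2)).mpr hα
  have h1 : (χ₀ ^ 2) (-1 : F) = 1 := by
    rw [MulChar.pow_apply' _ two_ne_zero, ← map_pow]
    norm_num
  refine mem_PS_degs hirr ?_ ?_
  · rw [(Cfsg.Agent.S2433.result hodd (χ₀ ^ 2) (-1)).2.2.2 (by simp) (by simp) (by simp),
      (Cfsg.Agent.S2433.result hodd (χ₀ ^ 2) 1).2.2.2 (by simp) (by simp) (by simp)]
    congr 1
    have e1 : ((-1 : S F) : Matrix (Fin 2) (Fin 2) F) 0 0 = -1 := by simp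
    have e2 : ((1 : S F) : Matrix (Fin 2) (Fin 2) F) 0 0 = 1 := by simp
    rw [e1, e2, h1, map_one]
  · rw [(Cfsg.Agent.S2433.result hodd (χ₀ ^ 2) 1).2.2.2 (by simp) (by simp) (by simp)]
    have e2 : ((1 : S F) : Matrix (Fin 2) (Fin 2) F) 0 0 = 1 := by simp
    rw [e2, map_one]; push_cast; ring

theorem qm_mem (hodd : Odd (Fintype.card F)) (h5 : 5 < Fintype.card F) : Fintype.card F - 1 ∈ charDegrees (PS F) := by
  classical
  obtain ⟨s, hs⟩ := SL2Tor.exists_order_add (F := F)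
  have hcyc : IsCyclic (Subgroup.zpowers s) := inferInstance
  obtain ⟨k, hk⟩ := hodd
  obtain ⟨hθ, -⟩ := Cfsg.Agent.S2434.result ⟨k, hk⟩ (Subgroup.zpowers s) hcyc (by rw [Nat.card_zpowers, hs])
  have hn : Fintype.card F + 1 ≠ 0 := by omega
  have hζ := Complex.isPrimitiveRoot_exp _ hn
  set ζ := Complex.exp (2 * Real.pi * Complex.I / ((Fintype.card F + 1 : ℕ) : ℂ)) with hζd
  let z : ℂˣ := Units.mk0 ζ (hζ.ne_zero hn)
  have hz : IsPrimitiveRoot z (Fintype.card F + 1) := IsPrimitiveRoot.coe_units_iff.mp hζ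
  let sg : Subgroup.zpowers s := ⟨s, Subgroup.mem_zpowers s⟩
  have hsg : ∀ x : Subgroup.zpowers s, x ∈ Subgroup.zpowers sg := by
    rintro ⟨x, j, rfl⟩
    exact ⟨j, Subtype.ext rfl⟩
  have hso : orderOf sg = Fintype.card F + 1 := by
    rw [← hs, ← Subgroup.orderOf_coe]
  have hd : orderOf z ∣ orderOf sg := by rw [hso, ← hz.eq_orderOf]
  let θ₀ : Subgroup.zpowers s →* ℂˣ := monoidHomOfForallMemZpowers hsg hd
  have hθ₀ : θ₀ sg = z := monoidHomOfForallMemZpowers_apply_gen hsg hd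
  obtain ⟨χ, hχ, hd1, -, hcen, -⟩ := hθ (θ₀ ^ 2) ⟨sg, by
    rw [MonoidHom.pow_apply, hθ₀, ← pow_mul]
    intro h
    have := orderOf_dvd_of_pow_eq_one h
    rw [← hz.eq_orderOf] at this
    have := Nat.le_of_dvd (by norm_num) this
    omega⟩
  have h20 : (2 : F) ≠ 0 := Cfsg.Agent.H5.Dk.odd_two (by omega)
  have hneg : s ^ ((Fintype.card F + 1) / 2) = -1 := by
    apply SL2Quat.eq_neg_one h20
    · rw [← pow_add, show (Fintype.card F + 1) / 2 + (Fintype.card F + 1) / 2 = Fintype.card F + 1 by omega, ← hs, pow_orderOf_eq_one]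
    · intro h
      have := orderOf_dvd_of_pow_eq_one h
      rw [hs] at this
      have := Nat.le_of_dvd (by omega) this
      omega
  refine mem_PS_degs hχ ?_ (by rw [hd1, Nat.cast_sub (by omega), Nat.cast_one])
  have h1 := hcen (sg ^ ((Fintype.card F + 1) / 2)) (by
    rw [Subgroup.coe_pow]
    change s ^ _ ∈ _
    rw [hneg]; exact V4.mem_center.mpr (Or.inr rfl)) 1
  rw [Subgroup.coe_pow] at h1
  change χ (s ^ _ * 1) = _ at h1
  rw [hneg, mul_one, MonoidHom.pow_apply, map_pow, hθ₀, ← pow_mul] at h1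
  have h2 : (Fintype.card F + 1) / 2 * 2 = Fintype.card F + 1 := by omega
  rw [h2, hz.pow_eq_one, Units.val_one, one_mul] at h1
  exact h1

end Cfsg.Agent.H5.PDeg
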