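import Cfsg.Statements.S5893
import Mathlib
import Cfsg.Agent.H5_DkL
import Cfsg.Agent.H5_DkM
import Cfsg.Agent.H5_FF

set_option autoImplicit false
open Cfsg

namespace Cfsg.Agent.S5893

open Cfsg.Agent.H5 Cfsg.Agent.H5.SL2 Cfsg.Agent.H5.V4 Cfsg.Agent.H5.Dk
open scoped Pointwise

theorem le_norm {G : Type*} [Group G] {M : Subgroup G} {z : G} (h : ∀ y ∈ M, y * z * y⁻¹ ∈ Subgroup.zpowers z) :
    M ≤ Subgroup.normalizer (Subgroup.zpowers z) := by
  intro y hy
  rw [Subgroup.mem_normalizer_iff]
  intro w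
  constructor
  · rintro ⟨j, rfl⟩
    change y * z ^ j * y⁻¹ ∈ _
    rw [← conj_zpow]
    exact Subgroup.zpow_mem _ (h y hy) j
  · rintro ⟨j, hj⟩
    have hj' : z ^ j = y * w * y⁻¹ := hj
    have h1 : w = y⁻¹ * z ^ j * y⁻¹⁻¹ := by rw [hj']; group
    rw [h1, ← conj_zpow]
    exact Subgroup.zpow_mem _ (h y⁻¹ (inv_mem hy)) j

theorem norm_of {G : Type*} [Group G] {x y z : G} (h : y * x * y⁻¹ = x ∨ y * x * y⁻¹ = x⁻¹) (hz : z ∈ Subgroup.zpowers x) :
    y * z * y⁻¹ ∈ Subgroup.zpowers z := by
  obtain ⟨j, rfl⟩ := hz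
  change y * x ^ j * y⁻¹ ∈ Subgroup.zpowers (x ^ j)
  rw [← conj_zpow]
  rcases h with h | h
  · rw [h]; exact Subgroup.mem_zpowers _
  · rw [h, inv_zpow]; exact inv_mem (Subgroup.mem_zpowers _)

/-- rotation of a dihedral subgroup -/
theorem dih_rot {G : Type*} [Group G] {M : Subgroup G} {k : ℕ} (e : M ≃* DihedralGroup k) :
    ∃ x ∈ M, orderOf x = k ∧ (∀ y ∈ M, y * x * y⁻¹ = x ∨ y * x * y⁻¹ = x⁻¹) ∧ Nat.card M ∣ 2 * k := by
  refine ⟨(e.symm (DihedralGroup.r 1) : M), SetLike.coe_mem _, ?_, ?_, ?_⟩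
  · rw [Subgroup.orderOf_coe, e.symm.orderOf_eq, DihedralGroup.orderOf_r_one]
  · intro y hy
    obtain ⟨w, hw⟩ := e.symm.surjective ⟨y, hy⟩
    have hy' : y = (e.symm w : M) := by rw [hw]
    rw [hy', ← Subgroup.coe_inv, ← Subgroup.coe_inv, ← Subgroup.coe_mul, ← Subgroup.coe_mul, ← map_inv, ← map_inv, ← map_mul, ← map_mul]
    rcases w with i | i
    · left
      congr 2
      rw [DihedralGroup.inv_r, DihedralGroup.r_mul_r, DihedralGroup.r_mul_r]
      congr 1; ring
    · right
      congr 2
      rw [DihedralGroup.inv_sr, DihedralGroup.sr_mul_r, DihedralGroup.sr_mul_sr, DihedralGroup.inv_r]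
      congr 1; ring
  · rw [Nat.card_congr e.toEquiv, DihedralGroup.nat_card]

theorem cyc_rot {G : Type*} [Group G] {M : Subgroup G} {k : ℕ} (h : IsCyclic M) (hk : Nat.card M = k) :
    ∃ x ∈ M, orderOf x = k ∧ (∀ y ∈ M, y * x * y⁻¹ = x ∨ y * x * y⁻¹ = x⁻¹) ∧ Nat.card M ∣ 2 * k := by
  obtain ⟨g, hg⟩ := IsCyclic.exists_generator (α := M)
  refine ⟨g, g.2, ?_, ?_, ?_⟩
  · rw [Subgroup.orderOf_coe, orderOf_eq_card_of_forall_mem_zpowers hg, hk]
  · intro y hy
    left
    obtain ⟨j, hj⟩ := hg ⟨y, hy⟩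
    have : y = (g : G) ^ j := by rw [← Subgroup.coe_zpow]; exact (congrArg Subtype.val hj).symm
    rw [this, ((Commute.refl (g : G)).zpow_left j).eq, mul_inv_cancel_right]
  · rw [hk]; exact dvd_mul_left _ _

theorem max_eq {G : Type*} [Group G] [Finite G] {M N : Subgroup G} (hM : IsCoatom M) {g : G} (h : MulAut.conj g • M ≤ N) (hN : N ≠ ⊤) :
    MulAut.conj g • M = N := by
  have h1 : M ≤ (MulAut.conj g)⁻¹ • N := Subgroup.subset_pointwise_smul_iff.mpr (by rw [inv_inv]; exact h)
  have h2 : (MulAut.conj g)⁻¹ • N ≠ ⊤ := by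
    intro h3
    apply hN
    have : N = MulAut.conj g • ((MulAut.conj g)⁻¹ • N) := (smul_inv_smul _ _).symm
    rw [this, h3, Subgroup.pointwise_smul_def]
    exact Subgroup.map_top_of_surjective _ (MulAut.conj g).surjective
  rcases hM.le_iff.mp h1 with h3 | h3
  · exact absurd h3 h2
  · rw [← h3, smul_inv_smul]

theorem sylow_cyc {G : Type*} [Group G] [Finite G] {ℓ n m : ℕ} [Fact ℓ.Prime] {r c : G} (hr : orderOf r = n) (hG : Nat.card G = n * m)
    (hm : ¬ ℓ ∣ m) (hc : orderOf c = ℓ) : ∃ g : G, g * c * g⁻¹ ∈ Subgroup.zpowers r := by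
  have hℓ : ℓ.Prime := Fact.out
  have hn0 : n ≠ 0 := by rw [← hr]; exact (orderOf_pos r).ne'
  have hm0 : m ≠ 0 := by rintro rfl; exact hm (dvd_zero _)
  have h1 : n / ℓ ^ n.factorization ℓ ∣ orderOf r := by rw [hr]; exact Nat.ordCompl_dvd n ℓ
  have h2 : n / ℓ ^ n.factorization ℓ ≠ 0 := (Nat.div_pos (Nat.ordProj_le ℓ hn0) (pow_pos hℓ.pos _)).ne'
  have h3 : Nat.card (Subgroup.zpowers (r ^ (n / ℓ ^ n.factorization ℓ))) = ℓ ^ (Nat.card G).factorization ℓ := by
    rw [Nat.card_zpowers, orderOf_pow_of_dvd h2 h1, hr, Nat.div_div_self (Nat.ordProj_dvd n ℓ) hn0, hG, Nat.factorization_mul hn0 hm0,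
      Finsupp.add_apply, Nat.factorization_eq_zero_of_not_dvd hm, add_zero]
  let P : Sylow ℓ G := Sylow.ofCard _ h3
  have hcp : IsPGroup ℓ (Subgroup.zpowers c) := IsPGroup.of_card (n := 1) (by rw [Nat.card_zpowers, hc, pow_one])
  obtain ⟨Q, hQ⟩ := hcp.exists_le_sylow
  obtain ⟨g, hg⟩ := MulAction.exists_smul_eq G Q P
  refine ⟨g, ?_⟩
  have h4 : g * c * g⁻¹ ∈ ((g • Q : Sylow ℓ G) : Subgroup G) := by
    rw [Sylow.coe_subgroup_smul]
    exact Subgroup.smul_mem_pointwise_smul c (MulAut.conj g) _ (hQ (Subgroup.mem_zpowers c))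
  rw [hg] at h4
  have h5 : (P : Subgroup G) ≤ Subgroup.zpowers r := by
    change Subgroup.zpowers (r ^ (n / ℓ ^ n.factorization ℓ)) ≤ _
    rw [Subgroup.zpowers_le]
    exact Subgroup.npow_mem_zpowers r _
  exact h5 h4

theorem tor_case {G : Type*} [Group G] [Finite G] [IsSimpleGroup G] {M D : Subgroup G} (hM : IsCoatom M) {k n m ℓ : ℕ} (hℓ : ℓ.Prime)
    (hG : Nat.card G = n * m) (hm : ¬ ℓ ∣ m) (hm1 : 1 < m) (hlk : ℓ ∣ k) (e : D ≃* DihedralGroup n) {x : G} (hxM : x ∈ M) (hx : orderOf x = k)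
    (hnx : ∀ y ∈ M, y * x * y⁻¹ = x ∨ y * x * y⁻¹ = x⁻¹) (hMk : Nat.card M ∣ 2 * k) (hln : ℓ ∣ n)
    (hkn : n ∣ k → k = n) : Nonempty (M ≃* DihedralGroup n) := by
  have : Fact ℓ.Prime := ⟨hℓ⟩
  have hk0 : k ≠ 0 := by rw [← hx]; exact (orderOf_pos x).ne'
  obtain ⟨r, hrD, hr, hnr, hD2⟩ := dih_rot e
  have hc : orderOf (x ^ (k / ℓ)) = ℓ := by
    rw [orderOf_pow_of_dvd (Nat.div_pos (Nat.le_of_dvd (by omega) hlk) hℓ.pos).ne' (by rw [hx]; exact Nat.div_dvd_of_dvd hlk), hx,
      Nat.div_div_self hlk hk0]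
  obtain ⟨g, hg⟩ := sylow_cyc hr hG hm hc
  have hc' : orderOf (g * x ^ (k / ℓ) * g⁻¹) = ℓ := ((MulAut.conj g).orderOf_eq (x ^ (k / ℓ))).trans hc
  have h1 : MulAut.conj g • M ≤ Subgroup.normalizer (Subgroup.zpowers (g * x ^ (k / ℓ) * g⁻¹)) := by
    apply le_norm
    rintro y ⟨w, hw, rfl⟩
    change g * w * g⁻¹ * (g * x ^ (k / ℓ) * g⁻¹) * (g * w * g⁻¹)⁻¹ ∈ _
    have h2 := norm_of (hnx w hw) (Subgroup.npow_mem_zpowers x (k / ℓ))
    obtain ⟨j, hj⟩ := h2
    have hj' : (x ^ (k / ℓ)) ^ j = w * x ^ (k / ℓ) * w⁻¹ := hj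
    refine ⟨j, ?_⟩
    change (g * x ^ (k / ℓ) * g⁻¹) ^ j = _
    rw [conj_zpow, hj']
    group
  have h2 : D ≤ Subgroup.normalizer (Subgroup.zpowers (g * x ^ (k / ℓ) * g⁻¹)) := by
    apply le_norm
    intro y hy
    exact norm_of (hnr y hy) hg
  have hlG : ℓ < Nat.card G := by
    have hpos : 0 < Nat.card G := Nat.card_pos
    have h3 : ℓ ≤ n := Nat.le_of_dvd (by
      rcases Nat.eq_zero_or_pos n with h | h
      · rw [h, zero_mul] at hG; omega
      · exact h) hln
    have h4 : 0 < n := lt_of_lt_of_le hℓ.pos h3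
    rw [hG]
    calc ℓ ≤ n := h3
      _ = n * 1 := (mul_one n).symm
      _ < n * m := Nat.mul_lt_mul_of_pos_left hm1 h4
  have h3 : Subgroup.normalizer (Subgroup.zpowers (g * x ^ (k / ℓ) * g⁻¹)) ≠ (⊤ : Subgroup G) := by
    intro h
    have h4 : (Subgroup.zpowers (g * x ^ (k / ℓ) * g⁻¹)).Normal := Subgroup.normalizer_eq_top_iff.mp h
    rcases h4.eq_bot_or_eq_top with h5 | h5
    · have := congrArg (fun H : Subgroup G => Nat.card H) h5
      simp only [Nat.card_zpowers, Subgroup.card_bot] at this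
      rw [hc'] at this
      exact hℓ.one_lt.ne' this
    · have := congrArg (fun H : Subgroup G => Nat.card H) h5
      simp only [Nat.card_zpowers, Subgroup.card_top] at this
      omega
  have h4 := max_eq hM h1 h3
  have h5 : Nat.card D ∣ Nat.card M := by
    rw [← card_conj g M, h4]
    exact Subgroup.card_dvd_of_le h2
  have hcD : Nat.card D = 2 * n := by rw [Nat.card_congr e.toEquiv, DihedralGroup.nat_card]
  have h6 : n ∣ k := by
    have := h5.trans hMk
    rw [hcD] at this
    exact Nat.dvd_of_mul_dvd_mul_left (by norm_num) this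
  have h7 := hkn h6
  have h8 : Nat.card M = Nat.card D := by
    rw [h7, ← hcD] at hMk
    exact Nat.dvd_antisymm hMk h5
  have h9 : D = MulAut.conj g • M := by
    rw [h4]
    apply Subgroup.eq_of_le_of_card_ge h2
    rw [← h4, card_conj g M, h8]
  exact ⟨(Subgroup.equivSMul (MulAut.conj g) M).trans ((MulEquiv.subgroupCongr h9.symm).trans e)⟩


theorem cube_lt {a b : ℕ} (ha : 1 ≤ a) (h : a < b) : a * (a - 1) * (a + 1) < b * (b - 1) * (b + 1) := by
  obtain ⟨c, rfl⟩ : ∃ c, a = c + 1 := ⟨a - 1, by omega⟩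
  obtain ⟨e, rfl⟩ : ∃ e, b = e + 1 := ⟨b - 1, by omega⟩
  rw [Nat.add_sub_cancel, Nat.add_sub_cancel]
  have h1 : c < e := by omega
  have h2 : (c + 1) * c ≤ (e + 1) * e := Nat.mul_le_mul (by omega) (by omega)
  have h3 : 0 < (e + 1) * e := Nat.mul_pos (by omega) (by omega)
  calc (c + 1) * c * (c + 1 + 1) ≤ (e + 1) * e * (c + 1 + 1) := Nat.mul_le_mul_right _ h2
    _ < (e + 1) * e * (e + 1 + 1) := Nat.mul_lt_mul_of_pos_left (by omega) h3

theorem card_even {L : Type*} [Field L] [Fintype L] (h : Fintype.card L % 2 = 0) :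
    Nat.card (PS L) = Fintype.card L * (Fintype.card L - 1) * (Fintype.card L + 1) := by
  have h1 := card_PS_mul (F := L)
  rcases DihPS.gcd_cases (F := L) with ⟨h2, -⟩ | ⟨-, h2⟩
  · rw [h2, one_mul] at h1; exact h1
  · omega

section main
variable {F : Type*} [Field F] [Fintype F]

theorem rot_case (hev : Fintype.card F % 2 = 0) (h4 : 4 ≤ Fintype.card F) (hd : 4 ∣ Fintype.card F) {M : Subgroup (PS F)} (hM : IsCoatom M) {k : ℕ}
    (hk : k ∣ Fintype.card F + 1 ∨ k ∣ Fintype.card F - 1) {x : PS F} (hxM : x ∈ M) (hx : orderOf x = k)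
    (hnx : ∀ y ∈ M, y * x * y⁻¹ = x ∨ y * x * y⁻¹ = x⁻¹) (hMk : Nat.card M ∣ 2 * k) :
    Nonempty (M ≃* DihedralGroup (Fintype.card F - 1)) ∨ Nonempty (M ≃* DihedralGroup (Fintype.card F + 1)) := by
  classical
  have hsim : IsSimpleGroup (PS F) := Matrix.ProjectiveSpecialLinearGroup.rank_two_simple (by rw [Nat.card_eq_fintype_card]; exact h4)
  have hcG := card_even hev
  have hg1 : Nat.gcd 2 (Fintype.card F - 1) = 1 := by
    rcases DihPS.gcd_cases (F := F) with ⟨h2, -⟩ | ⟨-, h2⟩
    · exact h2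
    · omega
  by_cases hk1 : k = 1
  · exfalso
    subst hk1
    have : Fact (Nat.Prime 2) := ⟨Nat.prime_two⟩
    have hM2 : IsPGroup 2 M := by
      have hMk' : Nat.card M ∣ 2 := by rw [mul_one] at hMk; exact hMk
      rcases (Nat.dvd_prime Nat.prime_two).mp hMk' with h | h
      · exact IsPGroup.of_card (n := 0) (by rw [h, pow_zero])
      · exact IsPGroup.of_card (n := 1) (by rw [h, pow_one])
    obtain ⟨P, hP⟩ := hM2.exists_le_sylow
    have hP2 : (P : Subgroup (PS F)) ≠ ⊤ := by
      intro h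
      obtain ⟨j, hj⟩ := IsPGroup.iff_card.mp P.2
      rw [h, Subgroup.card_top] at hj
      have h5 : Fintype.card F + 1 ∣ 2 ^ j := by rw [← hj, hcG]; exact dvd_mul_left _ _
      have h6 : Nat.Coprime (Fintype.card F + 1) (2 ^ j) := by
        apply Nat.Coprime.pow_right
        rw [Nat.coprime_two_right, Nat.odd_iff]; omega
      have := Nat.eq_one_of_dvd_coprimes h6 dvd_rfl h5
      omega
    rcases hM.le_iff.mp hP with h | h
    · exact hP2 h
    · have h5 : 2 ^ 2 ∣ Nat.card P := Sylow.pow_dvd_card_of_pow_dvd_card P (by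
        rw [hcG]; exact (hd.mul_right _).mul_right _)
      have h6 : Nat.card P = Nat.card M := by rw [← h]
      rw [h6] at h5
      have := Nat.le_of_dvd (by norm_num) hMk
      have := Nat.le_of_dvd Nat.card_pos h5
      omega
  · obtain ⟨ℓ, hℓ, hlk⟩ := Nat.exists_prime_and_dvd hk1
    have hq0 : 0 < Fintype.card F := by omega
    rcases hk with hk | hk
    · right
      have hodd : ℓ ≠ 2 := by
        rintro rfl
        have := hlk.trans hk
        omega
      have hnot1 : ¬ ℓ ∣ Fintype.card F := by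
        intro h
        have := (Nat.dvd_add_right h).mp (hlk.trans hk)
        exact hℓ.one_lt.ne' (Nat.dvd_one.mp this)
      have hnot2 : ¬ ℓ ∣ Fintype.card F - 1 := by
        intro h
        have h5 : Fintype.card F + 1 = (Fintype.card F - 1) + 2 := by omega
        have := (Nat.dvd_add_right h).mp (h5 ▸ (hlk.trans hk))
        exact hodd ((Nat.prime_dvd_prime_iff_eq hℓ Nat.prime_two).mp this)
      obtain ⟨D, ⟨e⟩⟩ := DihPS.exists_dihedral_add (F := F)
      rw [hg1, Nat.div_one] at e
      refine tor_case (m := Fintype.card F * (Fintype.card F - 1)) hM hℓ (by rw [hcG]; ring) ?_ ?_ hlk e hxM hx hnx hMk (hlk.trans hk)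
        (fun h => Nat.dvd_antisymm hk h)
      · intro h
        rcases hℓ.dvd_mul.mp h with h | h
        · exact hnot1 h
        · exact hnot2 h
      · nlinarith [show 1 ≤ Fintype.card F - 1 by omega]
    · left
      have hodd : ℓ ≠ 2 := by
        rintro rfl
        have := hlk.trans hk
        omega
      have hnot1 : ¬ ℓ ∣ Fintype.card F := by
        intro h
        have h5 : Fintype.card F = (Fintype.card F - 1) + 1 := by omega
        rw [h5] at h
        have := (Nat.dvd_add_right (hlk.trans hk)).mp h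
        exact hℓ.one_lt.ne' (Nat.dvd_one.mp this)
      have hnot2 : ¬ ℓ ∣ Fintype.card F + 1 := by
        intro h
        have h5 : Fintype.card F + 1 = (Fintype.card F - 1) + 2 := by omega
        rw [h5] at h
        have := (Nat.dvd_add_right (hlk.trans hk)).mp h
        exact hodd ((Nat.prime_dvd_prime_iff_eq hℓ Nat.prime_two).mp this)
      obtain ⟨D, ⟨e⟩⟩ := DihPS.exists_dihedral_sub (F := F)
      rw [hg1, Nat.div_one] at e
      refine tor_case (m := Fintype.card F * (Fintype.card F + 1)) hM hℓ (by rw [hcG]; ring) ?_ ?_ hlk e hxM hx hnx hMk (hlk.trans hk)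
        (fun h => Nat.dvd_antisymm hk h)
      · intro h
        rcases hℓ.dvd_mul.mp h with h | h
        · exact hnot1 h
        · exact hnot2 h
      · nlinarith

end main

/-- Let F be a finite field of even order q ≥ 4 and let M be a maximal subgroup of PSL₂(F) (= SL₂(F) = PGL₂(F)). Then one of the following holds: |M| = q(q − 1) (the stabiliser of a point of the projective line, elementary abelian of order q extended by a cyclic group of order q − 1); M is dihedral of order 2(q − 1); M is dihedral of order 2(q + 1); or q = q₀^r for a prime r with q₀ ≠ 2 and M ≅ PSL₂(F₀) with |F₀| = q₀. -/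
theorem result {F : Type*} [Field F] [Fintype F]
    (heven : Even (Fintype.card F)) (h4 : 4 ≤ Fintype.card F) (M : Subgroup (Matrix.ProjectiveSpecialLinearGroup (Fin 2) F)) (hM : IsCoatom M) :
    Nat.card M = Fintype.card F * (Fintype.card F - 1) ∨
    Nonempty (M ≃* DihedralGroup (Fintype.card F - 1)) ∨
    Nonempty (M ≃* DihedralGroup (Fintype.card F + 1)) ∨
    (∃ (F₀ : Type) (_ : Field F₀) (_ : Fintype F₀) (r : ℕ), r.Prime ∧ Fintype.card F₀ ≠ 2 ∧
        Fintype.card F = Fintype.card F₀ ^ r ∧ Nonempty (M ≃* Matrix.ProjectiveSpecialLinearGroup (Fin 2) F₀)) := by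
  classical
  have hev : Fintype.card F % 2 = 0 := Nat.even_iff.mp heven
  have hq1 : 1 < Fintype.card F := Fintype.one_lt_card
  have hcG := card_even hev
  have hg1 : Nat.gcd 2 (Fintype.card F - 1) = 1 := by
    rcases DihPS.gcd_cases (F := F) with ⟨h2, -⟩ | ⟨-, h2⟩
    · exact h2
    · omega
  obtain ⟨p, hp⟩ := CharP.exists F
  have hpp : Fact p.Prime := ⟨CharP.char_is_prime F p⟩
  obtain ⟨f, hf, hqf⟩ := GL2.exists_card_eq (F := F) p
  have hp2 : p = 2 := by
    rcases (Fact.out : p.Prime).eq_two_or_odd with h2 | h2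
    · exact h2
    · exfalso
      rw [hqf, Nat.pow_mod, h2, one_pow] at hev
      norm_num at hev
  subst hp2
  have hd4 : 4 ∣ Fintype.card F := by
    have hf2 : 2 ≤ f := by
      by_contra hcon
      have : f = 1 := by omega
      rw [this] at hqf
      omega
    rw [hqf]
    exact pow_dvd_pow 2 hf2
  by_cases h2M : 2 ∣ Nat.card M
  · obtain ⟨g, h | h | h | ⟨e, K0, hS, hc, ht⟩⟩ := hub 2 M h2M
    · left
      have h1 : MulAut.conj g • M ≤ Bb F := by
        intro x hx
        obtain ⟨s, rfl⟩ := π_surj x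
        exact mem_Bb.mpr (h s hx)
      have h2 : Bb F ≠ ⊤ := by
        intro h3
        have h5 := card_Bb (F := F)
        rw [h3, Subgroup.card_top, hg1, one_mul, hcG] at h5
        have : 0 < Fintype.card F * (Fintype.card F - 1) := Nat.mul_pos (by omega) (by omega)
        nlinarith
      have h3 := max_eq hM h1 h2
      have h5 := card_Bb (F := F)
      rw [hg1, one_mul, ← h3, card_conj g M] at h5
      exact h5
    · obtain ⟨-, k, hk, ⟨e⟩⟩ := h
      rw [hg1, Nat.div_one, Nat.div_one] at hk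
      obtain ⟨x, hx1, hx2, hx3, hx4⟩ := dih_rot e
      rcases rot_case hev h4 hd4 hM hk hx1 hx2 hx3 hx4 with h | h
      · exact Or.inr (Or.inl h)
      · exact Or.inr (Or.inr (Or.inl h))
    · exact absurd h.1 (by norm_num)
    · obtain ⟨L, iL, iL', ι, m, hι, hm⟩ := Dk.exists_model 2 K0
      have hl1 : 1 < Fintype.card L := Fintype.one_lt_card
      have eH : M ≃* (MulAut.conj g • M : Subgroup _) := Subgroup.equivSMul (MulAut.conj g) M
      have hm0 : m ≠ 0 := by rintro rfl; simp at hm; omega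
      have hLe : Fintype.card L % 2 = 0 := by
        rcases Nat.mod_two_eq_zero_or_one (Fintype.card L) with h | h
        · exact h
        · exfalso; rw [← hm, Nat.pow_mod, h, one_pow] at hev; norm_num at hev
      have hcL : Nat.card K0 = Fintype.card L := by
        rw [← Nat.card_eq_fintype_card]
        symm
        apply Nat.card_congr
        refine Equiv.ofBijective (fun x => ⟨ι x, (hι _).mpr ⟨x, rfl⟩⟩) ⟨?_, ?_⟩
        · intro x y h
          exact ι.injective (congrArg Subtype.val h)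
        · rintro ⟨y, hy⟩
          obtain ⟨x, rfl⟩ := (hι _).mp hy
          exact ⟨x, rfl⟩
      have hcM : Nat.card M = Fintype.card L * (Fintype.card L - 1) * (Fintype.card L + 1) := by
        rw [hcL] at hc ht
        have : Nat.card (Dg (MulAut.conj g • M)) = Fintype.card L - 1 := by
          rcases ht with h | h
          · exact h
          · omega
        rw [hc, this]; ring
      have hle : (ψ e ι).range ≤ MulAut.conj g • M :=
        ψ_range_le e ι (fun x => hS.hu _ ((hι _).mpr ⟨x, rfl⟩)) (fun x => hS.hl _ ((hι _).mpr ⟨x, rfl⟩))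
      have hcr : ∀ {L' : Type} [Field L'] [Fintype L'] (ι' : L' →+* F), Fintype.card L' % 2 = 0 →
          Nat.card (ψ e ι').range = Fintype.card L' * (Fintype.card L' - 1) * (Fintype.card L' + 1) := by
        intro L' _ _ ι' h
        rw [← card_even h]
        exact (Nat.card_congr (ψe e ι').toEquiv).symm
      have heq : (ψ e ι).range = MulAut.conj g • M := by
        apply Subgroup.eq_of_le_of_card_ge hle
        rw [card_conj g M, hcM, hcr ι hLe]
      by_cases hL2 : Fintype.card L = 2
      · have hcM6 : Nat.card M = 6 := by rw [hcM, hL2]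
        have : Fact (Nat.Prime 3) := ⟨Nat.prime_three⟩
        obtain ⟨x, hx⟩ := exists_prime_orderOf_dvd_card' (G := M) 3 (by rw [hcM6]; norm_num)
        have hidx : (Subgroup.zpowers x).index = 2 := by
          have := Subgroup.card_mul_index (Subgroup.zpowers x)
          rw [Nat.card_zpowers, hx, hcM6] at this
          omega
        have hnorm := Subgroup.normal_of_index_eq_two hidx
        have h3 : 3 ∣ (Fintype.card F + 1) ∨ 3 ∣ Fintype.card F - 1 := by
          have h5 : Fintype.card F % 3 ≠ 0 := by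
            intro h6
            have h7 : 3 ∣ 2 ^ f := by rw [← hqf]; exact Nat.dvd_of_mod_eq_zero h6
            have := Nat.prime_three.dvd_of_dvd_pow h7
            omega
          have h6 : Fintype.card F % 3 = 1 ∨ Fintype.card F % 3 = 2 := by omega
          rcases h6 with h6 | h6
          · right; omega
          · left; omega
        rcases rot_case hev h4 hd4 hM (k := 3) h3 x.2 (by rw [Subgroup.orderOf_coe]; exact hx) (by
          intro y hy
          have h5 : (⟨y, hy⟩ : M) * x * (⟨y, hy⟩ : M)⁻¹ ∈ Subgroup.zpowers x := hnorm.conj_mem x (Subgroup.mem_zpowers x) _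
          obtain ⟨j, hj⟩ := h5
          have hj' : x ^ j = (⟨y, hy⟩ : M) * x * (⟨y, hy⟩ : M)⁻¹ := hj
          rw [← zpow_mod_orderOf, hx] at hj'
          have hj3 : j % ((3 : ℕ) : ℤ) = 0 ∨ j % ((3 : ℕ) : ℤ) = 1 ∨ j % ((3 : ℕ) : ℤ) = 2 := by omega
          rcases hj3 with h6 | h6 | h6
          · exfalso
            rw [h6, zpow_zero] at hj'
            have h7 : x = 1 := by
              have := congrArg (fun w => (⟨y, hy⟩ : M)⁻¹ * w * (⟨y, hy⟩ : M)) hj'
              group at this
              exact this.symm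
            rw [h7, orderOf_one] at hx
            norm_num at hx
          · left
            rw [h6, zpow_one] at hj'
            exact (congrArg Subtype.val hj').symm
          · right
            rw [h6] at hj'
            have h7 : x ^ (2 : ℤ) = x⁻¹ := by
              have h8 : x ^ 3 = 1 := by rw [← hx]; exact pow_orderOf_eq_one x
              rw [eq_inv_iff_mul_eq_one, ← h8]
              group
            rw [h7] at hj'
            exact (congrArg Subtype.val hj').symm) (by rw [hcM6]) with h | h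
        · exact Or.inr (Or.inl h)
        · exact Or.inr (Or.inr (Or.inl h))
      · right; right; right
        refine ⟨L, iL, iL', m, ?_, hL2, hm.symm, ?_⟩
        · by_contra hmp
          have hm1 : m ≠ 1 := by
            rintro rfl
            rw [pow_one] at hm
            apply hM.1
            apply Subgroup.eq_top_of_card_eq
            rw [hcM, hcG, hm]
          have hrp : m.minFac.Prime := Nat.minFac_prime hm1
          have hrd : m.minFac ∣ m := Nat.minFac_dvd m
          have hrm : m.minFac < m := lt_of_le_of_ne (Nat.minFac_le (by omega)) (fun h => hmp (h ▸ hrp))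
          set r := m.minFac with hr
          obtain ⟨p', hp'⟩ := CharP.exists L
          have hpp' : Fact p'.Prime := ⟨CharP.char_is_prime L p'⟩
          obtain ⟨b, hb, hqb⟩ := GL2.exists_card_eq (F := L) p'
          let L1 := GaloisField p' (b * r)
          have hLfin : Finite L1 := inferInstance
          letI : Fintype L1 := Fintype.ofFinite L1
          have hcL1 : Fintype.card L1 = Fintype.card L ^ r := by
            rw [← Nat.card_eq_fintype_card, GaloisField.card p' (b * r) (Nat.mul_ne_zero (by omega) hrp.ne_zero), hqb, pow_mul]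
          have hmr : m / r ≠ 0 := (Nat.div_pos hrm.le hrp.pos).ne'
          obtain ⟨ι1, hι1⟩ := FF.exists_embedding (F := F) (K := L1) (q := Fintype.card L ^ r) (r := m / r) hcL1
            (by rw [← pow_mul, Nat.mul_div_cancel' hrd, hm]) hmr
          have hx1 : ∀ x : L, ∃ y : L1, ι1 y = ι x := by
            intro x
            have h1 : (ι x) ^ (Fintype.card L ^ r) = ι x := by rw [← map_pow, FiniteField.pow_card_pow]
            exact (hι1 _).mp h1
          have hle1 : MulAut.conj g • M ≤ (ψ e ι1).range := by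
            rw [← heq]
            apply ψ_range_le
            · intro x
              obtain ⟨y, hy⟩ := hx1 x
              rw [← hy]
              exact ⟨u y, ψ_u e ι1 y⟩
            · intro x
              obtain ⟨y, hy⟩ := hx1 x
              rw [← hy]
              exact ⟨l y, ψ_l e ι1 y⟩
          have hlt1 : Fintype.card L < Fintype.card L1 := by
            rw [hcL1]
            calc Fintype.card L = Fintype.card L ^ 1 := (pow_one _).symm
              _ < Fintype.card L ^ r := Nat.pow_lt_pow_right hl1 hrp.one_lt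
          have hlt2 : Fintype.card L1 < Fintype.card F := by
            rw [hcL1, ← hm]
            exact Nat.pow_lt_pow_right hl1 hrm
          have hL1e : Fintype.card L1 % 2 = 0 := by
            rw [hcL1]
            exact Nat.even_iff.mp (Nat.even_pow.mpr ⟨Nat.even_iff.mpr hLe, hrp.ne_zero⟩)
          have hne : (ψ e ι1).range ≠ ⊤ := by
            intro h
            have h1 := hcr ι1 hL1e
            rw [h, Subgroup.card_top, hcG] at h1
            exact (cube_lt (by omega) hlt2).ne' h1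
          have h2 := max_eq hM hle1 hne
          have h3 := hcr ι1 hL1e
          rw [← h2, card_conj g M, hcM] at h3
          exact (cube_lt (by omega) hlt1).ne h3
        · exact ⟨eH.trans ((MulEquiv.subgroupCongr heq.symm).trans (ψe e ι).symm)⟩
  · have hModd : Nat.card M % 2 = 1 := by omega
    letI : Fintype (FiniteField.Extension F 2 2) := Fintype.ofFinite _
    rcases hub_coprime (K := FiniteField.Extension F 2 2) 2 (hsp_ext 2) M h2M with h | ⟨⟨e⟩⟩ | ⟨⟨e⟩⟩ | ⟨⟨e⟩⟩
    · obtain ⟨k, hk, hk'⟩ := h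
      rw [hg1, Nat.div_one, Nat.div_one] at hk
      obtain ⟨x, hx1, hx2, hx3, hx4⟩ : ∃ x ∈ M, orderOf x = k ∧ (∀ y ∈ M, y * x * y⁻¹ = x ∨ y * x * y⁻¹ = x⁻¹) ∧ Nat.card M ∣ 2 * k := by
        rcases hk' with ⟨h1, h2⟩ | ⟨⟨e⟩⟩
        · exact cyc_rot h1 h2
        · exact dih_rot e
      rcases rot_case hev h4 hd4 hM hk hx1 hx2 hx3 hx4 with h | h
      · exact Or.inr (Or.inl h)
      · exact Or.inr (Or.inr (Or.inl h))
    · rw [Nat.card_congr e.toEquiv, card_A4] at hModd; norm_num at hModd
    · rw [Nat.card_congr e.toEquiv, card_S4] at hModd; norm_num at hModd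
    · rw [Nat.card_congr e.toEquiv, card_A5] at hModd; norm_num at hModd

end Cfsg.Agent.S5893
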