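import Mathlib
import Cfsg.Agent.S5893
import Cfsg.Agent.H5_DkN

set_option autoImplicit false

/-! Solubilizers in `PSL_2(2^p)`. -/

namespace Cfsg.Agent.H5.Sol

open Cfsg.Agent.H5 Cfsg.Agent.H5.SL2 Cfsg.Agent.H5.V4 Cfsg.Agent.H5.Dk Cfsg.Agent.S5893
open scoped Pointwise

variable {F : Type*} [Field F]

section general

/-- `⟨x, y⟩` solvable when `y` normalizes `x` up to inversion -/
theorem solv_norm {G : Type*} [Group G] {x y : G} (h : y * x * y⁻¹ = x ∨ y * x * y⁻¹ = x⁻¹) :
    Group.IsSolvable (Subgroup.closure ({x, y} : Set G)) := by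
  set K := Subgroup.closure ({x, y} : Set G) with hK
  have hx : x ∈ K := Subgroup.subset_closure (by simp)
  have hy : y ∈ K := Subgroup.subset_closure (by simp)
  have hN : K ≤ Subgroup.normalizer (Subgroup.zpowers x) := by
    rw [hK, Subgroup.closure_le]
    rintro z (rfl | rfl)
    · exact Subgroup.le_normalizer (Subgroup.mem_zpowers _)
    · change z ∈ Subgroup.normalizer _
      rw [Subgroup.mem_normalizer_iff]
      intro w
      have h2 : z⁻¹ * x * z = x ∨ z⁻¹ * x * z = x⁻¹ := by
        rcases h with h | h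
        · left
          have h3 : z⁻¹ * (z * x * z⁻¹) * z = x := by group
          rw [h] at h3; exact h3
        · right
          have h3 : x⁻¹ = z⁻¹ * x * z := by
            have h4 : (z * x * z⁻¹)⁻¹ = x := by rw [h, inv_inv]
            calc x⁻¹ = z⁻¹ * (z * x⁻¹ * z⁻¹) * z := by group
              _ = z⁻¹ * (z * x * z⁻¹)⁻¹ * z := by group
              _ = z⁻¹ * x * z := by rw [h4]
          exact h3.symm
      constructor
      · rintro ⟨j, rfl⟩
        change z * x ^ j * z⁻¹ ∈ _
        rw [← conj_zpow]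
        rcases h with h | h
        · rw [h]; exact Subgroup.zpow_mem _ (Subgroup.mem_zpowers x) j
        · rw [h]; exact Subgroup.zpow_mem _ (inv_mem (Subgroup.mem_zpowers x)) j
      · rintro ⟨j, hj⟩
        have hj' : x ^ j = z * w * z⁻¹ := hj
        have h1 : w = z⁻¹ * x ^ j * z⁻¹⁻¹ := by rw [hj']; group
        rw [h1, ← conj_zpow, inv_inv]
        rcases h2 with h2 | h2
        · rw [h2]; exact Subgroup.zpow_mem _ (Subgroup.mem_zpowers x) j
        · rw [h2]; exact Subgroup.zpow_mem _ (inv_mem (Subgroup.mem_zpowers x)) j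
  let N : Subgroup K := (Subgroup.zpowers x).subgroupOf K
  have hNn : N.Normal := by
    constructor
    intro n hn g
    have h1 := (Subgroup.mem_normalizer_iff.mp (hN g.2) n).mp hn
    exact h1
  have hNs : Group.IsSolvable N := by
    have hc : IsCyclic N := by
      let f : N →* Subgroup.zpowers x := { toFun := fun n => ⟨(n : K), n.2⟩, map_one' := rfl, map_mul' := fun _ _ => rfl }
      exact isCyclic_of_injective f (fun a b h => Subtype.ext (Subtype.ext (congrArg (fun t : Subgroup.zpowers x => (t : G)) h)))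
    exact isSolvable_of_comm (fun a b => (IsCyclic.commGroup (α := N)).mul_comm a b)
  have hQ : Group.IsSolvable (K ⧸ N) := by
    have hgen : ∀ q : K ⧸ N, q ∈ Subgroup.zpowers (QuotientGroup.mk' N ⟨y, hy⟩) := by
      intro q
      obtain ⟨k, rfl⟩ := QuotientGroup.mk'_surjective N q
      have h1 : K ≤ ((Subgroup.zpowers (QuotientGroup.mk' N ⟨y, hy⟩)).comap (QuotientGroup.mk' N)).map K.subtype := by
        conv_lhs => rw [hK]
        rw [Subgroup.closure_le]
        rintro z (rfl | rfl)
        · refine ⟨⟨z, hx⟩, ?_, rfl⟩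
          show QuotientGroup.mk' N ⟨z, hx⟩ ∈ Subgroup.zpowers (QuotientGroup.mk' N ⟨y, hy⟩)
          have : QuotientGroup.mk' N ⟨z, hx⟩ = 1 := (QuotientGroup.eq_one_iff _).mpr (Subgroup.mem_zpowers z)
          rw [this]; exact one_mem _
        · exact ⟨⟨z, hy⟩, Subgroup.mem_zpowers _, rfl⟩
      obtain ⟨k', hk', he⟩ := h1 k.2
      have : k' = k := Subtype.ext he
      rw [← this]; exact hk'
    have hc : IsCyclic (K ⧸ N) := ⟨⟨_, hgen⟩⟩
    exact isSolvable_of_comm (fun a b => (IsCyclic.commGroup (α := K ⧸ N)).mul_comm a b)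
  exact solvable_of_ker_le_range N.subtype (QuotientGroup.mk' N) (by rw [QuotientGroup.ker_mk', Subgroup.range_subtype])

theorem solv_mono {G : Type*} [Group G] {K H : Subgroup G} (hK : Group.IsSolvable H) (h : K ≤ H) : Group.IsSolvable K :=
  solvable_of_solvable_injective (Subgroup.inclusion_injective h)

theorem solv_inv2 {G : Type*} [Group G] {x y : G} (hx : x * x = 1) (hy : y * y = 1) : Group.IsSolvable (Subgroup.closure ({x, y} : Set G)) := by
  have hx' : x⁻¹ = x := inv_eq_of_mul_eq_one_left hx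
  have hy' : y⁻¹ = y := inv_eq_of_mul_eq_one_left hy
  have h1 := solv_norm (x := x * y) (y := y) (Or.inr (by rw [mul_inv_rev, hx', hy', ← mul_assoc, mul_assoc _ y y, hy, mul_one]))
  apply solv_mono h1
  rw [Subgroup.closure_le]
  have hy1 : y ∈ Subgroup.closure ({x * y, y} : Set G) := Subgroup.subset_closure (by simp)
  have hxy : x * y ∈ Subgroup.closure ({x * y, y} : Set G) := Subgroup.subset_closure (by simp)
  rintro z (rfl | rfl)
  · have := mul_mem hxy (inv_mem hy1)
    rwa [mul_inv_cancel_right] at this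
  · exact hy1

theorem solv_inv2' {G : Type*} [Group G] {x y : G} (hx : x * x = 1) (hxy : (x * y) * (x * y) = 1) :
    Group.IsSolvable (Subgroup.closure ({x, y} : Set G)) := by
  apply solv_mono (solv_inv2 hx hxy)
  rw [Subgroup.closure_le]
  have hy1 : x ∈ Subgroup.closure ({x, x * y} : Set G) := Subgroup.subset_closure (by simp)
  have hxy : x * y ∈ Subgroup.closure ({x, x * y} : Set G) := Subgroup.subset_closure (by simp)
  rintro z (rfl | rfl)
  · exact hy1
  · have := mul_mem (inv_mem hy1) hxy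
    rwa [inv_mul_cancel_left] at this

/-- number of `y` with `⟨x, y⟩` solvable -/
noncomputable def Sol {G : Type*} [Group G] (x : G) : ℕ := Nat.card {y : G // Group.IsSolvable (Subgroup.closure ({x, y} : Set G))}

theorem solv_conj {G : Type*} [Group G] (g x y : G) (h : Group.IsSolvable (Subgroup.closure ({x, y} : Set G))) :
    Group.IsSolvable (Subgroup.closure ({g * x * g⁻¹, g * y * g⁻¹} : Set G)) := by
  have h1 : Subgroup.closure ({g * x * g⁻¹, g * y * g⁻¹} : Set G) = (Subgroup.closure ({x, y} : Set G)).map (MulAut.conj g).toMonoidHom := by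
    rw [MonoidHom.map_closure, Set.image_insert_eq, Set.image_singleton]
    rfl
  rw [h1]
  exact @solvable_of_surjective _ _ _ _ (Subgroup.equivMapOfInjective (Subgroup.closure ({x, y} : Set G)) (MulAut.conj g).toMonoidHom (MulAut.conj g).injective).toMonoidHom
    (Subgroup.equivMapOfInjective (Subgroup.closure ({x, y} : Set G)) (MulAut.conj g).toMonoidHom (MulAut.conj g).injective).surjective h

theorem Sol_conj {G : Type*} [Group G] (g x : G) : Sol (g * x * g⁻¹) = Sol x := by
  unfold Sol
  symm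
  apply Nat.card_congr
  refine Equiv.subtypeEquiv (MulAut.conj g).toEquiv ?_
  intro y
  constructor
  · intro h; exact solv_conj g x y h
  · intro h
    have := solv_conj g⁻¹ _ _ h
    have e1 : g⁻¹ * (g * x * g⁻¹) * g⁻¹⁻¹ = x := by group
    have e2 : g⁻¹ * ((MulAut.conj g).toEquiv y) * g⁻¹⁻¹ = y := by
      change g⁻¹ * (g * y * g⁻¹) * g⁻¹⁻¹ = y
      group
    rw [e1, e2] at this
    exact this

end general

theorem Bb_solv : Group.IsSolvable (Bb F) := by
  have h1 : ⁅(⊤ : Subgroup (Bb F)), (⊤ : Subgroup (Bb F))⁆ ≤ (Ub F).subgroupOf (Bb F) := by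
    rw [Subgroup.commutator_le]
    intro a _ b _
    have := Bb_comm a.2 b.2
    change (((a * b * a⁻¹ * b⁻¹ : Bb F)) : PS F) ∈ Ub F
    have e : ((a * b * a⁻¹ * b⁻¹ : Bb F) : PS F) = (a : PS F) * b * ((b : PS F) * a)⁻¹ := by
      push_cast; group
    rw [e]; exact this
  have h2 : ⁅⁅(⊤ : Subgroup (Bb F)), (⊤ : Subgroup (Bb F))⁆, ⁅(⊤ : Subgroup (Bb F)), (⊤ : Subgroup (Bb F))⁆⁆ = (⊥ : Subgroup (Bb F)) := by
    rw [eq_bot_iff, Subgroup.commutator_le]
    intro a ha b hb
    have := Ub_comm (h1 ha) (h1 hb)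
    rw [Subgroup.mem_bot, commutatorElement_eq_one_iff_mul_comm]
    exact Subtype.ext this
  exact ⟨⟨2, by rw [derivedSeries_succ, derivedSeries_succ, derivedSeries_zero]; exact h2⟩⟩

theorem solv_borel {g x y : PS F} (hx : g * x * g⁻¹ ∈ Bb F) (hy : g * y * g⁻¹ ∈ Bb F) :
    Group.IsSolvable (Subgroup.closure ({x, y} : Set (PS F))) := by
  have h1 : Group.IsSolvable (Subgroup.closure ({g * x * g⁻¹, g * y * g⁻¹} : Set (PS F))) := by
    apply solv_mono (Bb_solv (F := F))
    rw [Subgroup.closure_le]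
    rintro z (rfl | rfl)
    · exact hx
    · exact hy
  have := solv_conj g⁻¹ _ _ h1
  have e1 : g⁻¹ * (g * x * g⁻¹) * g⁻¹⁻¹ = x := by group
  have e2 : g⁻¹ * (g * y * g⁻¹) * g⁻¹⁻¹ = y := by group
  rw [e1, e2] at this
  exact this

theorem not_solv [Fintype F] (h4 : 4 ≤ Fintype.card F) : ¬ Group.IsSolvable (PS F) := by
  intro h
  have hsim : IsSimpleGroup (PS F) := Matrix.ProjectiveSpecialLinearGroup.rank_two_simple (by rw [Nat.card_eq_fintype_card]; exact h4)
  have hcomm := IsSimpleGroup.comm_iff_isSolvable.mpr h (π (u 1)) (π (w (1 : Fˣ)))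
  rw [← map_mul, ← map_mul, π_eq] at hcomm
  rcases hcomm with h | h
  · have := congrArg (fun s : S F => s.1 0 0) h
    simp only [mul00, u00, u01, w00, w10, w01, u10] at this
    norm_num at this
  · have := congrArg (fun s : S F => s.1 0 0) h
    simp only [neg00, mul00, u00, u01, w00, w10, w01, u10] at this
    norm_num at this

end Cfsg.Agent.H5.Sol
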