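import Mathlib
import Cfsg.Agent.H5_Sol2

set_option autoImplicit false

/-! Proper subgroups of `PSL_2(2^p)`, `p` prime. -/

namespace Cfsg.Agent.H5.Sol

open Cfsg.Agent.H5 Cfsg.Agent.H5.SL2 Cfsg.Agent.H5.V4 Cfsg.Agent.H5.Dk Cfsg.Agent.S5893
open scoped Pointwise

variable {F : Type*} [Field F]

/-- dihedral or cyclic with rotations of order dividing `q ± 1` -/
def DD [Fintype F] (M : Subgroup (PS F)) : Prop :=
  ∃ x0 ∈ M, (orderOf x0 ∣ Fintype.card F + 1 ∨ orderOf x0 ∣ Fintype.card F - 1) ∧ Nat.card M ∣ 2 * orderOf x0 ∧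
    ∀ y ∈ M, y ∈ Subgroup.zpowers x0 ∨ (y * y = 1 ∧ y * x0 * y⁻¹ = x0⁻¹)

theorem dd_dih [Fintype F] {M : Subgroup (PS F)} {k : ℕ} (e : M ≃* DihedralGroup k) (hk : k ∣ Fintype.card F + 1 ∨ k ∣ Fintype.card F - 1) : DD M := by
  refine ⟨(e.symm (DihedralGroup.r 1) : M), SetLike.coe_mem _, ?_, ?_, ?_⟩
  · rw [Subgroup.orderOf_coe, e.symm.orderOf_eq, DihedralGroup.orderOf_r_one]; exact hk
  · rw [Subgroup.orderOf_coe, e.symm.orderOf_eq, DihedralGroup.orderOf_r_one, Nat.card_congr e.toEquiv, DihedralGroup.nat_card]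
  · intro y hy
    obtain ⟨w, hw⟩ := e.symm.surjective ⟨y, hy⟩
    have hy' : y = (e.symm w : M) := by rw [hw]
    rw [hy']
    rcases w with i | i
    · left
      obtain ⟨j, hj⟩ := ZMod.intCast_surjective i
      refine ⟨j, ?_⟩
      change ((e.symm (DihedralGroup.r 1) : M) : PS F) ^ j = _
      rw [← Subgroup.coe_zpow, ← map_zpow]
      congr 2
      rw [DihedralGroup.r_one_zpow, hj]
    · right
      constructor
      · rw [← Subgroup.coe_mul, ← map_mul, DihedralGroup.sr_mul_self, map_one, Subgroup.coe_one]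
      · rw [← Subgroup.coe_inv, ← Subgroup.coe_inv, ← Subgroup.coe_mul, ← Subgroup.coe_mul, ← map_inv, ← map_inv, ← map_mul, ← map_mul]
        congr 2
        rw [DihedralGroup.inv_sr, DihedralGroup.sr_mul_r, DihedralGroup.sr_mul_sr, DihedralGroup.inv_r]
        congr 1; ring

theorem dd_cyc [Fintype F] {M : Subgroup (PS F)} {k : ℕ} (h : IsCyclic M) (hM : Nat.card M = k) (hk : k ∣ Fintype.card F + 1 ∨ k ∣ Fintype.card F - 1) : DD M := by
  obtain ⟨g, hg⟩ := IsCyclic.exists_generator (α := M)
  have ho : orderOf (g : PS F) = k := by rw [Subgroup.orderOf_coe, orderOf_eq_card_of_forall_mem_zpowers hg, hM]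
  refine ⟨g, g.2, by rw [ho]; exact hk, by rw [ho, hM]; exact dvd_mul_left _ _, ?_⟩
  intro y hy
  left
  obtain ⟨j, hj⟩ := hg ⟨y, hy⟩
  exact ⟨j, by change (g : PS F) ^ j = y; rw [← Subgroup.coe_zpow]; exact congrArg Subtype.val hj⟩

theorem two_or_odd [Fintype F] (h2 : (2 : F) = 0) (s : S F) : s * s = 1 ∨ s ^ (Fintype.card F - 1) = 1 ∨ s ^ (Fintype.card F + 1) = 1 := by
  by_cases h : ∃ lam : F, lam ^ 2 - s.1.trace * lam + 1 = 0
  · obtain ⟨lam, hl⟩ := h
    by_cases hne : lam ^ 2 = 1
    · left
      have hlam : lam = 1 := by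
        have h5 : (lam - 1) ^ 2 = 0 := by linear_combination hne + (1 - lam) * h2
        exact sub_eq_zero.mp (pow_eq_zero_iff (two_ne_zero) |>.mp h5)
      rw [hlam, Matrix.trace_fin_two] at hl
      have ht : s.1 0 0 = s.1 1 1 := by linear_combination -hl + (1 - s.1 1 1) * h2
      have hd := det_eq s
      apply ext2 <;> simp only [mul00, mul01, mul10, mul11, one00, one01, one10, one11]
      · rw [← ht] at hd; linear_combination hd + s.1 0 1 * s.1 1 0 * h2
      · rw [← ht]; linear_combination s.1 0 0 * s.1 0 1 * h2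
      · rw [← ht]; linear_combination s.1 0 0 * s.1 1 0 * h2
      · rw [ht] at hd; linear_combination hd + s.1 0 1 * s.1 1 0 * h2
    · exact Or.inr (Or.inl (SL2Tor.split_case hl hne))
  · push Not at h
    exact Or.inr (Or.inr (SL2Tor.nonsplit_case h))

theorem main_list [Fintype F] {p : ℕ} (hp : p.Prime) (hF : Fintype.card F = 2 ^ p) {M : Subgroup (PS F)} (hM : M ≠ ⊤) :
    (∃ g : PS F, MulAut.conj g • M ≤ Bb F) ∨ DD M := by
  classical
  have hev : Fintype.card F % 2 = 0 := by
    rw [hF]
    exact Nat.even_iff.mp (Nat.even_pow.mpr ⟨even_two, hp.ne_zero⟩)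
  have h4 : 4 ≤ Fintype.card F := by
    rw [hF]
    calc 4 = 2 ^ 2 := by norm_num
      _ ≤ 2 ^ p := Nat.pow_le_pow_right (by norm_num) hp.two_le
  have h20 : (2 : F) = 0 := Dk.even_two hev
  have hcG := card_even hev
  have hg1 : Nat.gcd 2 (Fintype.card F - 1) = 1 := by
    rcases DihPS.gcd_cases (F := F) with ⟨h2, -⟩ | ⟨-, h2⟩
    · exact h2
    · omega
  have hch : CharP F 2 := CharTwo.of_one_ne_zero_of_two_eq_zero one_ne_zero h20
  have hf2 : Fact (Nat.Prime 2) := ⟨Nat.prime_two⟩
  by_cases h2M : 2 ∣ Nat.card M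
  · obtain ⟨g, h | h | h | ⟨e, K0, hS, hc, ht⟩⟩ := hub 2 M h2M
    · left
      refine ⟨g, ?_⟩
      intro x hx
      obtain ⟨s, rfl⟩ := π_surj x
      exact mem_Bb.mpr (h s hx)
    · right
      obtain ⟨-, k, hk, ⟨e⟩⟩ := h
      rw [hg1, Nat.div_one, Nat.div_one] at hk
      exact dd_dih e hk
    · exact absurd h.1 (by norm_num)
    · right
      obtain ⟨L, iL, iL', ι, m, hι, hm⟩ := Dk.exists_model 2 K0
      have hl1 : 1 < Fintype.card L := Fintype.one_lt_card
      have hcL : Nat.card K0 = Fintype.card L := by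
        rw [← Nat.card_eq_fintype_card]
        symm
        apply Nat.card_congr
        refine Equiv.ofBijective (fun x => ⟨ι x, (hι _).mpr ⟨x, rfl⟩⟩) ⟨?_, ?_⟩
        · intro x y h
          exact ι.injective (congrArg Subtype.val h)
        · rintro ⟨y, hy⟩
          obtain ⟨x, rfl⟩ := (hι _).mp hy
          exact ⟨x, rfl⟩
      have hm0 : m ≠ 0 := by rintro rfl; simp at hm; omega
      have hL2 : ∃ a, Fintype.card L = 2 ^ a := by
        have h1 : Fintype.card L ∣ 2 ^ p := by rw [← hF, ← hm]; exact dvd_pow_self _ hm0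
        obtain ⟨a, -, ha⟩ := (Nat.dvd_prime_pow Nat.prime_two).mp h1
        exact ⟨a, ha⟩
      obtain ⟨a, ha⟩ := hL2
      have hLe : Fintype.card L % 2 = 0 := by
        rw [ha]
        have ha0 : a ≠ 0 := by rintro rfl; rw [pow_zero] at ha; omega
        exact Nat.even_iff.mp (Nat.even_pow.mpr ⟨even_two, ha0⟩)
      have hcM : Nat.card M = Fintype.card L * (Fintype.card L - 1) * (Fintype.card L + 1) := by
        rw [hcL] at hc ht
        have : Nat.card (Dg (MulAut.conj g • M)) = Fintype.card L - 1 := by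
          rcases ht with h | h
          · exact h
          · omega
        rw [hc, this]; ring
      have ham : a * m = p := by
        have h1 : 2 ^ (a * m) = 2 ^ p := by rw [pow_mul, ← ha, hm, hF]
        exact Nat.pow_right_injective (le_refl 2) h1
      have ha1 : a = 1 := by
        rcases (Nat.dvd_prime hp).mp ⟨m, ham.symm⟩ with h | h
        · exact h
        · exfalso
          apply hM
          apply Subgroup.eq_top_of_card_eq
          rw [hcM, hcG, ha, h, hF]
      rw [ha1, pow_one] at ha
      have hcM6 : Nat.card M = 6 := by rw [hcM, ha]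
      have : Fact (Nat.Prime 3) := ⟨Nat.prime_three⟩
      obtain ⟨x, hx⟩ := exists_prime_orderOf_dvd_card' (G := M) 3 (by rw [hcM6]; norm_num)
      have hidx : (Subgroup.zpowers x).index = 2 := by
        have := Subgroup.card_mul_index (Subgroup.zpowers x)
        rw [Nat.card_zpowers, hx, hcM6] at this
        omega
      have hnorm := Subgroup.normal_of_index_eq_two hidx
      have h3 : 3 ∣ (Fintype.card F + 1) ∨ 3 ∣ Fintype.card F - 1 := by
        have h5 : Fintype.card F % 3 ≠ 0 := by
          intro h6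
          have h7 : 3 ∣ 2 ^ p := by rw [← hF]; exact Nat.dvd_of_mod_eq_zero h6
          have := Nat.prime_three.dvd_of_dvd_pow h7
          omega
        have h6 : Fintype.card F % 3 = 1 ∨ Fintype.card F % 3 = 2 := by omega
        rcases h6 with h6 | h6
        · right; omega
        · left; omega
      -- elements of `M` have order 1, 2 or 3
      have hord : ∀ w : M, w * w = 1 ∨ w ^ 3 = 1 := by
        intro w
        obtain ⟨s, hs⟩ := π_surj (w : PS F)
        have h6 : w ^ 6 = 1 := by rw [← hcM6]; exact pow_card_eq_one'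
        rcases two_or_odd h20 s with h | h | h
        · left
          apply Subtype.ext
          rw [Subgroup.coe_mul, ← hs, ← map_mul, h, map_one]; rfl
        · right
          have h7 : w ^ (Fintype.card F - 1) = 1 := by
            apply Subtype.ext
            rw [Subgroup.coe_pow, ← hs, ← map_pow, h, map_one]; rfl
          have h8 := orderOf_dvd_of_pow_eq_one h6
          have h9 := orderOf_dvd_of_pow_eq_one h7
          have h10 : ¬ 2 ∣ orderOf w := fun h10 => by have := h10.trans h9; omega
          have h11 : Nat.Coprime (orderOf w) 2 := by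
            rw [Nat.coprime_comm, Nat.prime_two.coprime_iff_not_dvd]; exact h10
          exact orderOf_dvd_iff_pow_eq_one.mp (h11.dvd_of_dvd_mul_left (by exact h8 : orderOf w ∣ 2 * 3))
        · right
          have h7 : w ^ (Fintype.card F + 1) = 1 := by
            apply Subtype.ext
            rw [Subgroup.coe_pow, ← hs, ← map_pow, h, map_one]; rfl
          have h8 := orderOf_dvd_of_pow_eq_one h6
          have h9 := orderOf_dvd_of_pow_eq_one h7
          have h10 : ¬ 2 ∣ orderOf w := fun h10 => by have := h10.trans h9; omega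
          have h11 : Nat.Coprime (orderOf w) 2 := by
            rw [Nat.coprime_comm, Nat.prime_two.coprime_iff_not_dvd]; exact h10
          exact orderOf_dvd_iff_pow_eq_one.mp (h11.dvd_of_dvd_mul_left (by exact h8 : orderOf w ∣ 2 * 3))
      have hx3 : x ^ 3 = 1 := by rw [← hx]; exact pow_orderOf_eq_one x
      have hx1 : x ≠ 1 := by rintro rfl; rw [orderOf_one] at hx; norm_num at hx
      refine ⟨x, x.2, by rw [Subgroup.orderOf_coe, hx]; exact h3, by rw [Subgroup.orderOf_coe, hx, hcM6], ?_⟩
      intro y hy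
      by_cases hyx : (⟨y, hy⟩ : M) ∈ Subgroup.zpowers x
      · left
        obtain ⟨j, hj⟩ := hyx
        exact ⟨j, by change (x : PS F) ^ j = y; rw [← Subgroup.coe_zpow]; exact congrArg Subtype.val hj⟩
      · right
        set y' : M := ⟨y, hy⟩ with hy'
        have hsq : y' * y' ∈ Subgroup.zpowers x := Subgroup.mul_self_mem_of_index_two hidx y'
        have hy2 : y' * y' = 1 := by
          rcases hord y' with h | h
          · exact h
          · exfalso
            apply hyx
            have h5 : y' = y' ^ 3 * (y' * y')⁻¹ := by rw [pow_succ, sq]; group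
            rw [h5, h, one_mul]
            exact inv_mem hsq
        refine ⟨congrArg Subtype.val hy2, ?_⟩
        have h5 : y' * x * y'⁻¹ ∈ Subgroup.zpowers x := hnorm.conj_mem x (Subgroup.mem_zpowers x) _
        obtain ⟨j, hj⟩ := h5
        have hj' : x ^ j = y' * x * y'⁻¹ := hj
        rw [← zpow_mod_orderOf, hx] at hj'
        have hj3 : j % ((3 : ℕ) : ℤ) = 0 ∨ j % ((3 : ℕ) : ℤ) = 1 ∨ j % ((3 : ℕ) : ℤ) = 2 := by omega
        rcases hj3 with h6 | h6 | h6
        · exfalso
          rw [h6, zpow_zero] at hj'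
          apply hx1
          have := congrArg (fun w => y'⁻¹ * w * y') hj'
          group at this
          exact this.symm
        · exfalso
          rw [h6, zpow_one] at hj'
          have hcomm : Commute y' x := by
            have := congrArg (fun w => w * y') hj'
            simp only [inv_mul_cancel_right] at this
            exact this.symm
          rcases hord (y' * x) with h | h
          · have h7 : y' * x * (y' * x) = (y' * y') * (x * x) := by
              rw [mul_assoc, ← mul_assoc x y' x, ← hcomm.eq, mul_assoc, mul_assoc]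
            rw [h7, hy2, one_mul] at h
            apply hx1
            have h8 : x = x ^ 3 * (x * x)⁻¹ := by rw [pow_succ, sq]; group
            rw [h8, hx3, h, one_mul, inv_one]
          · rw [hcomm.mul_pow, hx3, mul_one] at h
            apply hyx
            have h5 : y' = y' ^ 3 * (y' * y')⁻¹ := by rw [pow_succ, sq]; group
            rw [h5, h, one_mul]
            exact inv_mem hsq
        · rw [h6] at hj'
          have h7 : x ^ (2 : ℤ) = x⁻¹ := by
            rw [eq_inv_iff_mul_eq_one, ← hx3]
            group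
          rw [h7] at hj'
          exact (congrArg Subtype.val hj').symm
  · right
    have hModd : Nat.card M % 2 = 1 := by omega
    letI : Fintype (FiniteField.Extension F 2 2) := Fintype.ofFinite _
    rcases hub_coprime (K := FiniteField.Extension F 2 2) 2 (hsp_ext 2) M h2M with h | ⟨⟨e⟩⟩ | ⟨⟨e⟩⟩ | ⟨⟨e⟩⟩
    · obtain ⟨k, hk, hk'⟩ := h
      rw [hg1, Nat.div_one, Nat.div_one] at hk
      rcases hk' with ⟨h1, h2⟩ | ⟨⟨e⟩⟩
      · exact dd_cyc h1 h2 hk
      · exact dd_dih e hk
    · rw [Nat.card_congr e.toEquiv, card_A4] at hModd; norm_num at hModd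
    · rw [Nat.card_congr e.toEquiv, card_S4] at hModd; norm_num at hModd
    · rw [Nat.card_congr e.toEquiv, card_A5] at hModd; norm_num at hModd

end Cfsg.Agent.H5.Sol
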