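import Cfsg.Statements.S2257
import Mathlib
import Cfsg.Agent.H5_Sol3

set_option autoImplicit false
open Cfsg

namespace Cfsg.Agent.S2257

open Cfsg.Agent.H5 Cfsg.Agent.H5.SL2 Cfsg.Agent.H5.V4 Cfsg.Agent.H5.Dk Cfsg.Agent.S5893 Cfsg.Agent.H5.Sol
open scoped Pointwise

variable {F : Type*} [Field F]

theorem card_param [Fintype F] (φ : F → F → F) :
    Nat.card {s : S F // s.1 1 0 ≠ 0 ∧ s.1 1 1 = φ (s.1 0 0) (s.1 1 0)} = Fintype.card F * (Fintype.card F - 1) := by
  classical
  have h1 : Fintype.card F * (Fintype.card F - 1) = Nat.card (F × Fˣ) := by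
    rw [Nat.card_prod, Nat.card_eq_fintype_card, Nat.card_eq_fintype_card, Fintype.card_units]
  rw [h1]
  apply Nat.card_congr
  refine Equiv.mk (fun s => (s.1.1 0 0, Units.mk0 _ s.2.1))
    (fun ac => ⟨⟨!![ac.1, (ac.1 * φ ac.1 ac.2 - 1) / ac.2; (ac.2 : F), φ ac.1 ac.2], by
      rw [Matrix.det_fin_two_of]; field_simp; ring⟩, ac.2.ne_zero, rfl⟩) ?_ ?_
  · rintro ⟨s, hs0, hs⟩
    apply Subtype.ext
    have hd := det_eq s
    apply ext2
    · rfl
    · change (s.1 0 0 * φ (s.1 0 0) (s.1 1 0) - 1) / s.1 1 0 = s.1 0 1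
      rw [← hs, div_eq_iff hs0]
      linear_combination hd
    · rfl
    · exact hs.symm
  · rintro ⟨a, c⟩
    exact Prod.ext rfl (Units.ext rfl)

/-- number of `s` with lower left entry zero -/
theorem card_tri [Fintype F] : Nat.card {s : S F // s.1 1 0 = 0} = Fintype.card F * (Fintype.card F - 1) := card_Bs

theorem conj_diag [Fintype F] {s : S F} {lam : F} (hl : lam ^ 2 - s.1.trace * lam + 1 = 0) (hne : lam ^ 2 ≠ 1) :
    ∃ (t : S F) (a : Fˣ), (a : F) ^ 2 ≠ 1 ∧ s = t * d a * t⁻¹ := by
  have hl0 : lam ≠ 0 := by rintro rfl; simp at hl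
  -- triangular case
  have tri : ∀ s : S F, s.1 1 0 = 0 → (s.1 0 0) ^ 2 ≠ 1 → ∃ (t : S F) (a : Fˣ), (a : F) ^ 2 ≠ 1 ∧ s = t * d a * t⁻¹ := by
    intro s hs h2
    obtain ⟨a, x, rfl⟩ := borel s hs
    have ha : ((u x * d a : S F)).1 0 0 = a := by simp only [mul00, u00, u01, d00, d10]; ring
    rw [ha] at h2
    have h3 : (1 - (a : F) ^ 2) ≠ 0 := fun h => h2 (by linear_combination -h)
    refine ⟨u (x / (1 - (a : F) ^ 2)), a, h2, ?_⟩
    rw [u_inv]
    apply ext2 <;> simp only [mul00, mul01, mul10, mul11, u00, u01, u10, u11, d00, d01, d10, d11]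
    · ring
    · have haa : (a : F) * ((a⁻¹ : Fˣ) : F) = 1 := by rw [← Units.val_mul, mul_inv_cancel, Units.val_one]
      have h4 : x = (x / (1 - (a : F) ^ 2)) * (1 - (a : F) ^ 2) := (div_mul_cancel₀ _ h3).symm
      have h5 : x * ((a⁻¹ : Fˣ) : F) = (x / (1 - (a : F) ^ 2)) * (1 - (a : F) ^ 2) * ((a⁻¹ : Fˣ) : F) := by rw [← h4]
      linear_combination h5 - (x / (1 - (a : F) ^ 2)) * (a : F) * haa
    · ring
    · ring
  by_cases hc : s.1 1 0 = 0
  · apply tri s hc
    intro h
    have hd := det_eq s
    rw [hc, mul_zero, sub_zero] at hd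
    rw [Matrix.trace_fin_two] at hl
    have h1 : (lam - s.1 0 0) * (lam - s.1 1 1) = 0 := by linear_combination hl + hd
    rcases mul_eq_zero.mp h1 with h2 | h2
    · rw [sub_eq_zero.mp h2] at hne; exact hne h
    · have h3 : lam = s.1 1 1 := sub_eq_zero.mp h2
      apply hne
      rw [h3]
      have h4 : (s.1 0 0 * s.1 1 1) ^ 2 = 1 := by rw [hd]; ring
      rw [mul_pow, h, one_mul] at h4
      exact h4
  · have hdet : (!![lam - s.1 1 1, -(s.1 1 0)⁻¹; s.1 1 0, 0] : Matrix (Fin 2) (Fin 2) F).det = 1 := by
      rw [Matrix.det_fin_two_of]; field_simp; ring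
    obtain ⟨t, ht⟩ : ∃ t : S F, t.1 = !![lam - s.1 1 1, -(s.1 1 0)⁻¹; s.1 1 0, 0] := ⟨⟨_, hdet⟩, rfl⟩
    have t00 : t.1 0 0 = lam - s.1 1 1 := by rw [ht]; rfl
    have t01 : t.1 0 1 = -(s.1 1 0)⁻¹ := by rw [ht]; rfl
    have t10 : t.1 1 0 = s.1 1 0 := by rw [ht]; rfl
    have t11 : t.1 1 1 = 0 := by rw [ht]; rfl
    have hd := det_eq s
    rw [Matrix.trace_fin_two] at hl
    have hci : s.1 1 0 * (s.1 1 0)⁻¹ = 1 := mul_inv_cancel₀ hc
    obtain ⟨r, a, h2, hr⟩ := tri (t⁻¹ * s * t) (by
      simp only [mul00, mul10, mul01, mul11, inv00, inv01, inv10, inv11, t00, t01, t10, t11]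
      linear_combination (s.1 1 0) * hl + s.1 1 0 * hd) (by
      have h5 : (t⁻¹ * s * t).1 0 0 = lam := by
        simp only [mul00, mul10, mul01, mul11, inv00, inv01, inv10, inv11, t00, t01, t10, t11]
        linear_combination lam * hci
      rw [h5]; exact hne)
    refine ⟨t * r, a, h2, ?_⟩
    have h6 : s = t * (t⁻¹ * s * t) * t⁻¹ := by group
    rw [h6, hr]; group

theorem card_or {α : Type*} [Finite α] (P Q : α → Prop) (h : ∀ a, P a → ¬ Q a) :
    Nat.card {a // P a ∨ Q a} = Nat.card {a // P a} + Nat.card {a // Q a} := by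
  change Nat.card ↥({a | P a} ∪ {a | Q a}) = Nat.card ↥{a | P a} + Nat.card ↥{a | Q a}
  rw [Nat.card_coe_set_eq, Nat.card_coe_set_eq, Nat.card_coe_set_eq, Set.ncard_union_eq]
  rw [Set.disjoint_left]
  exact h

theorem sq_one (h2 : (2 : F) = 0) {s : S F} (ht : s.1 1 1 = s.1 0 0) : s * s = 1 := by
  have hd := det_eq s
  apply ext2 <;> simp only [mul00, mul01, mul10, mul11, one00, one01, one10, one11]
  · rw [ht] at hd; linear_combination hd + s.1 0 1 * s.1 1 0 * h2
  · rw [ht]; linear_combination s.1 0 0 * s.1 0 1 * h2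
  · rw [ht]; linear_combination s.1 0 0 * s.1 1 0 * h2
  · rw [ht] at hd ⊢; linear_combination hd + s.1 0 1 * s.1 1 0 * h2

theorem sq_one' {s : S F} (h : s * s = 1) : s.1 1 1 = s.1 0 0 := by
  have h1 : s = s⁻¹ := eq_inv_of_mul_eq_one_left h
  have h2 := congrArg (fun t : S F => t.1 1 1) h1
  simp only [inv11] at h2
  exact h2

theorem odd_zp {G : Type*} [Group G] {x0 z : G} (ho : orderOf x0 % 2 = 1) (hz : z ∈ Subgroup.zpowers x0) (hzz : z * z = 1) : z = 1 := by
  have h1 : orderOf z ∣ orderOf x0 := orderOf_dvd_of_mem_zpowers hz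
  have h2 : orderOf z ∣ 2 := orderOf_dvd_of_pow_eq_one (by rw [sq]; exact hzz)
  rcases (Nat.dvd_prime Nat.prime_two).mp h2 with h3 | h3
  · exact orderOf_eq_one_iff.mp h3
  · rw [h3] at h1; omega

theorem Sol_eq [Fintype F] (h2 : (2 : F) = 0) (x : PS F) (P : S F → Prop)
    (h : ∀ s, Group.IsSolvable (Subgroup.closure ({x, π s} : Set (PS F))) ↔ P s) : Sol x = Nat.card {s // P s} := by
  unfold Sol
  symm
  apply Nat.card_congr
  exact Equiv.subtypeEquiv (Equiv.ofBijective π ⟨fun x y h => π_inj_even h2 h, π_surj⟩) (fun s => (h s).symm)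

section cases
variable [Fintype F] {p : ℕ}

theorem ne_top_of_solv (h4 : 4 ≤ Fintype.card F) {K : Subgroup (PS F)} (h : Group.IsSolvable K) : K ≠ ⊤ := by
  rintro rfl
  exact not_solv h4 (@solvable_of_surjective _ _ _ _ (Subgroup.topEquiv (G := PS F)).toMonoidHom (Subgroup.topEquiv (G := PS F)).surjective h)

theorem case_invol (hp : p.Prime) (hF : Fintype.card F = 2 ^ p) (h2 : (2 : F) = 0) (h4 : 4 ≤ Fintype.card F) (hev : Fintype.card F % 2 = 0)
    {a : F} (ha : a ≠ 0) : Sol (π (u a)) = 3 * Fintype.card F * (Fintype.card F - 1) := by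
  have hxx : π (u a) * π (u a) = 1 := by
    rw [← map_mul, u_mul, show a + a = 0 by linear_combination a * h2, u_zero, map_one]
  have hx1 : π (u a) ≠ 1 := by
    intro h
    rw [← map_one π] at h
    have := π_inj_even h2 h
    rw [← u_zero] at this
    exact ha (u_inj this)
  rw [Sol_eq h2 (π (u a)) (fun s => s.1 1 0 = 0 ∨ ((s.1 1 0 ≠ 0 ∧ s.1 1 1 = s.1 0 0) ∨ (s.1 1 0 ≠ 0 ∧ s.1 1 1 = s.1 0 0 + a * s.1 1 0)))]
  · rw [card_or, card_or, card_tri, card_param (fun x _ => x), card_param (fun x c => x + a * c)]
    · ring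
    · rintro s ⟨h1, h3⟩ ⟨-, h5⟩
      rw [h3] at h5
      have : a * s.1 1 0 = 0 := by linear_combination -h5
      rcases mul_eq_zero.mp this with h | h
      · exact ha h
      · exact h1 h
    · rintro s h1 (⟨h3, -⟩ | ⟨h3, -⟩)
      · exact h3 h1
      · exact h3 h1
  · intro s
    constructor
    · intro hs
      have hxM : π (u a) ∈ Subgroup.closure ({π (u a), π s} : Set (PS F)) := Subgroup.subset_closure (by simp)
      have hyM : π s ∈ Subgroup.closure ({π (u a), π s} : Set (PS F)) := Subgroup.subset_closure (by simp)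
      rcases main_list hp hF (ne_top_of_solv h4 hs) with ⟨g, hg⟩ | ⟨x0, hx0M, ho, -, hall⟩
      · left
        obtain ⟨t, rfl⟩ := π_surj g
        have h1 : π (t * u a * t⁻¹) ∈ Bb F := by
          have := hg (Subgroup.smul_mem_pointwise_smul _ (MulAut.conj (π t)) _ hxM)
          rw [map_mul, map_mul, map_inv]; exact this
        have h3 : π (t * s * t⁻¹) ∈ Bb F := by
          have := hg (Subgroup.smul_mem_pointwise_smul _ (MulAut.conj (π t)) _ hyM)
          rw [map_mul, map_mul, map_inv]; exact this
        rw [mem_Bb] at h1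
        have h5 : a * (t.1 1 0) ^ 2 = 0 := by
          simp only [mul00, mul10, mul01, mul11, inv00, inv01, inv10, inv11, u00, u01, u10, u11] at h1
          linear_combination -h1
        have ht : t.1 1 0 = 0 := by
          rcases mul_eq_zero.mp h5 with h | h
          · exact absurd h ha
          · exact pow_eq_zero_iff (two_ne_zero) |>.mp h
        have h6 : π t ∈ Bb F := mem_Bb.mpr ht
        have h7 : π s = (π t)⁻¹ * π (t * s * t⁻¹) * π t := by
          rw [map_mul, map_mul, map_inv]; group
        have h8 : π s ∈ Bb F := by rw [h7]; exact mul_mem (mul_mem (inv_mem h6) h3) h6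
        exact mem_Bb.mp h8
      · by_cases hs0 : s.1 1 0 = 0
        · exact Or.inl hs0
        right
        have hodd : orderOf x0 % 2 = 1 := by
          have : ¬ 2 ∣ orderOf x0 := by
            intro h
            rcases ho with ho | ho
            · have := h.trans ho; omega
            · have := h.trans ho; omega
          omega
        have hx : π (u a) ∉ Subgroup.zpowers x0 := fun h => hx1 (odd_zp hodd h hxx)
        by_cases hy : π s ∈ Subgroup.zpowers x0
        · right
          refine ⟨hs0, ?_⟩
          have h1 : π (u a) * π s ∉ Subgroup.zpowers x0 := by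
            intro h
            apply hx
            have := mul_mem h (inv_mem hy)
            rwa [mul_inv_cancel_right] at this
          rcases hall _ (mul_mem hxM hyM) with h | ⟨h, -⟩
          · exact absurd h h1
          · rw [← map_mul, ← map_mul, ← map_one π] at h
            have := sq_one' (π_inj_even h2 h)
            simp only [mul00, mul11, u00, u01, u10, u11] at this
            linear_combination this
        · left
          refine ⟨hs0, ?_⟩
          rcases hall _ hyM with h | ⟨h, -⟩
          · exact absurd h hy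
          · rw [← map_mul, ← map_one π] at h
            exact sq_one' (π_inj_even h2 h)
    · rintro (h | ⟨-, h⟩ | ⟨-, h⟩)
      · apply solv_borel (g := 1)
        · rw [one_mul, inv_one, mul_one]; exact mem_Bb.mpr rfl
        · rw [one_mul, inv_one, mul_one]; exact mem_Bb.mpr h
      · apply solv_inv2 hxx
        rw [← map_mul, sq_one h2 h, map_one]
      · apply solv_inv2' hxx
        rw [← map_mul, ← map_mul, sq_one h2, map_one]
        simp only [mul00, mul11, u00, u01, u10, u11]
        linear_combination h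

theorem case_split (hp : p.Prime) (hF : Fintype.card F = 2 ^ p) (h2 : (2 : F) = 0) (h4 : 4 ≤ Fintype.card F) (hev : Fintype.card F % 2 = 0)
    {a : Fˣ} (ha : (a : F) ^ 2 ≠ 1) (ho1 : orderOf (π (d a)) % 2 = 1) : Sol (π (d a)) = 2 * Fintype.card F * (Fintype.card F - 1) := by
  have hx1 : π (d a) ≠ 1 := by
    intro h
    rw [← map_one π] at h
    have := π_inj_even h2 h
    rw [← d_one] at this
    apply ha
    rw [d_inj this]; simp
  have haa : (a : F) * ((a⁻¹ : Fˣ) : F) = 1 := by rw [← Units.val_mul, mul_inv_cancel, Units.val_one]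
  have hne : (a : F) - ((a⁻¹ : Fˣ) : F) ≠ 0 := by
    intro h
    apply ha
    have : (a : F) = ((a⁻¹ : Fˣ) : F) := sub_eq_zero.mp h
    rw [sq]; nth_rewrite 2 [this]; exact haa
  rw [Sol_eq h2 (π (d a)) (fun s => s.1 1 0 = 0 ∨ (s.1 1 0 ≠ 0 ∧ s.1 1 1 = (s.1 0 0)⁻¹))]
  · rw [card_or, card_tri, card_param (fun x _ => x⁻¹)]
    · ring
    · rintro s h1 ⟨h3, -⟩
      exact h3 h1
  · intro s
    constructor
    · intro hs
      by_cases hs0 : s.1 1 0 = 0
      · exact Or.inl hs0
      right
      refine ⟨hs0, ?_⟩
      suffices h : s.1 0 1 = 0 ∨ (s.1 0 0 = 0 ∧ s.1 1 1 = 0) by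
        rcases h with h | ⟨h, h'⟩
        · have hd := det_eq s
          rw [h, zero_mul, sub_zero] at hd
          exact eq_inv_of_mul_eq_one_right hd
        · rw [h, h', inv_zero]
      have hxM : π (d a) ∈ Subgroup.closure ({π (d a), π s} : Set (PS F)) := Subgroup.subset_closure (by simp)
      have hyM : π s ∈ Subgroup.closure ({π (d a), π s} : Set (PS F)) := Subgroup.subset_closure (by simp)
      rcases main_list hp hF (ne_top_of_solv h4 hs) with ⟨g, hg⟩ | ⟨x0, hx0M, ho, -, hall⟩
      · left
        obtain ⟨t, rfl⟩ := π_surj g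
        have h1 : π (t * d a * t⁻¹) ∈ Bb F := by
          have := hg (Subgroup.smul_mem_pointwise_smul _ (MulAut.conj (π t)) _ hxM)
          rw [map_mul, map_mul, map_inv]; exact this
        have h3 : π (t * s * t⁻¹) ∈ Bb F := by
          have := hg (Subgroup.smul_mem_pointwise_smul _ (MulAut.conj (π t)) _ hyM)
          rw [map_mul, map_mul, map_inv]; exact this
        rw [mem_Bb] at h1
        have h5 : t.1 1 0 * t.1 1 1 * ((a : F) - ((a⁻¹ : Fˣ) : F)) = 0 := by
          simp only [mul00, mul10, mul01, mul11, inv00, inv01, inv10, inv11, d00, d01, d10, d11] at h1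
          linear_combination h1
        have ht : t.1 1 0 * t.1 1 1 = 0 := by
          rcases mul_eq_zero.mp h5 with h | h
          · exact h
          · exact absurd h hne
        rcases mul_eq_zero.mp ht with ht | ht
        · exfalso
          have h6 : π t ∈ Bb F := mem_Bb.mpr ht
          have h7 : π s = (π t)⁻¹ * π (t * s * t⁻¹) * π t := by
            rw [map_mul, map_mul, map_inv]; group
          have h8 : π s ∈ Bb F := by rw [h7]; exact mul_mem (mul_mem (inv_mem h6) h3) h6
          exact hs0 (mem_Bb.mp h8)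
        · rw [mem_Bb] at h3
          have ht0 : t.1 1 0 ≠ 0 := by
            intro h
            have := det_eq t
            rw [ht, h, mul_zero, mul_zero, sub_zero] at this
            exact zero_ne_one this
          have h9 : (t.1 1 0) ^ 2 * s.1 0 1 = 0 := by
            simp only [mul00, mul10, mul01, mul11, inv00, inv01, inv10, inv11, ht] at h3
            linear_combination -h3
          rcases mul_eq_zero.mp h9 with h | h
          · exact absurd (pow_eq_zero_iff (two_ne_zero) |>.mp h) ht0
          · exact h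
      · have hodd : orderOf x0 % 2 = 1 := by
          have : ¬ 2 ∣ orderOf x0 := by
            intro h
            rcases ho with ho | ho
            · have := h.trans ho; omega
            · have := h.trans ho; omega
          omega
        have hx : π (d a) ∈ Subgroup.zpowers x0 := by
          rcases hall _ hxM with h | ⟨h, -⟩
          · exact h
          · exfalso
            exact hx1 (odd_zp ho1 (Subgroup.mem_zpowers _) h)
        have hy : π s * π (d a) * (π s)⁻¹ = π (d a) ∨ π s * π (d a) * (π s)⁻¹ = (π (d a))⁻¹ := by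
          obtain ⟨j, hj⟩ := hx
          have hj' : x0 ^ j = π (d a) := hj
          rcases hall _ hyM with h | ⟨-, h⟩
          · left
            obtain ⟨i, hi⟩ := h
            have hi' : x0 ^ i = π s := hi
            rw [← hj', ← hi', ← zpow_add, ← zpow_neg, ← zpow_add]; congr 1; ring
          · right
            rw [← hj', ← conj_zpow, h, inv_zpow]
        rcases hy with h | h
        · left
          rw [← map_inv, ← map_mul, ← map_mul] at h
          have h1 := π_inj_even h2 h
          rw [mul_inv_eq_iff_eq_mul] at h1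
          have h3 := congrArg (fun t : S F => t.1 0 1) h1
          simp only [mul00, mul10, mul01, mul11, d00, d01, d10, d11] at h3
          have h5 : s.1 0 1 * ((a : F) - ((a⁻¹ : Fˣ) : F)) = 0 := by linear_combination -h3
          rcases mul_eq_zero.mp h5 with h | h
          · exact h
          · exact absurd h hne
        · right
          rw [← map_inv, ← map_inv, ← map_mul, ← map_mul] at h
          have h1 := π_inj_even h2 h
          rw [mul_inv_eq_iff_eq_mul, d_inv] at h1
          have h3 := congrArg (fun t : S F => t.1 0 0) h1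
          have h5 := congrArg (fun t : S F => t.1 1 1) h1
          simp only [mul00, mul10, mul01, mul11, d00, d01, d10, d11, inv_inv] at h3 h5
          constructor
          · have h6 : s.1 0 0 * ((a : F) - ((a⁻¹ : Fˣ) : F)) = 0 := by linear_combination h3
            rcases mul_eq_zero.mp h6 with h | h
            · exact h
            · exact absurd h hne
          · have h6 : s.1 1 1 * ((a : F) - ((a⁻¹ : Fˣ) : F)) = 0 := by linear_combination -h5
            rcases mul_eq_zero.mp h6 with h | h
            · exact h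
            · exact absurd h hne
    · rintro (h | ⟨hs0, h⟩)
      · apply solv_borel (g := 1)
        · rw [one_mul, inv_one, mul_one]; exact mem_Bb.mpr rfl
        · rw [one_mul, inv_one, mul_one]; exact mem_Bb.mpr h
      · by_cases h0 : s.1 0 0 = 0
        · rw [h0, inv_zero] at h
          apply solv_norm
          right
          rw [← map_inv, ← map_inv, ← map_mul, ← map_mul]
          congr 1
          rw [mul_inv_eq_iff_eq_mul, d_inv]
          apply ext2 <;> simp only [mul00, mul01, mul10, mul11, d00, d01, d10, d11, h0, h, inv_inv] <;> ring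
        · have h01 : s.1 0 1 = 0 := by
            have hd := det_eq s
            rw [h, mul_inv_cancel₀ h0] at hd
            have : s.1 0 1 * s.1 1 0 = 0 := by linear_combination -hd
            rcases mul_eq_zero.mp this with h | h
            · exact h
            · exact absurd h hs0
          apply solv_borel (g := π (w (1 : Fˣ)))
          · rw [← map_inv, ← map_mul, ← map_mul, mem_Bb]
            simp only [mul00, mul10, mul01, mul11, inv00, inv01, inv10, inv11, d00, d01, d10, d11, w00, w01, w10, w11]
            ring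
          · rw [← map_inv, ← map_mul, ← map_mul, mem_Bb]
            simp only [mul00, mul10, mul01, mul11, inv00, inv01, inv10, inv11, h01, w00, w01, w10, w11]
            ring

end cases

/-- Let G = PSL_2(F) with F a field of order q = 2^p, p prime, and for x ∈ G call the solubilizer of x the set of y ∈ G such that x and y generate a solvable subgroup. Then the solubilizer of an involution has 3q(q − 1) elements; that of a non-identity element of order dividing q − 1 has 2q(q − 1) elements; and that of a non-identity element of order dividing q + 1 has 2(q + 1) elements. -/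
theorem result (p : ℕ) (hp : p.Prime) {F : Type*} [Field F] [Fintype F]
    (hF : Fintype.card F = 2 ^ p) (x : Matrix.ProjectiveSpecialLinearGroup (Fin 2) F) :
    (orderOf x = 2 → Nat.card {y : Matrix.ProjectiveSpecialLinearGroup (Fin 2) F // Group.IsSolvable ↥(Subgroup.closure ({x, y} : Set (Matrix.ProjectiveSpecialLinearGroup (Fin 2) F)))} = 3 * 2 ^ p * (2 ^ p - 1)) ∧
    (x ≠ 1 → orderOf x ∣ 2 ^ p - 1 → Nat.card {y : Matrix.ProjectiveSpecialLinearGroup (Fin 2) F // Group.IsSolvable ↥(Subgroup.closure ({x, y} : Set (Matrix.ProjectiveSpecialLinearGroup (Fin 2) F)))} = 2 * 2 ^ p * (2 ^ p - 1)) ∧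
    (x ≠ 1 → orderOf x ∣ 2 ^ p + 1 → Nat.card {y : Matrix.ProjectiveSpecialLinearGroup (Fin 2) F // Group.IsSolvable ↥(Subgroup.closure ({x, y} : Set (Matrix.ProjectiveSpecialLinearGroup (Fin 2) F)))} = 2 * (2 ^ p + 1)) := by
  classical
  have hev : Fintype.card F % 2 = 0 := by
    rw [hF]
    exact Nat.even_iff.mp (Nat.even_pow.mpr ⟨even_two, hp.ne_zero⟩)
  have h4 : 4 ≤ Fintype.card F := by
    rw [hF]
    calc 4 = 2 ^ 2 := by norm_num
      _ ≤ 2 ^ p := Nat.pow_le_pow_right (by norm_num) hp.two_le
  have h2 : (2 : F) = 0 := Dk.even_two hev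
  have hcG := card_even hev
  have hg1 : Nat.gcd 2 (Fintype.card F - 1) = 1 := by
    rcases DihPS.gcd_cases (F := F) with ⟨h2, -⟩ | ⟨-, h2⟩
    · exact h2
    · omega
  have hch : CharP F 2 := CharTwo.of_one_ne_zero_of_two_eq_zero one_ne_zero h2
  have hf2 : Fact (Nat.Prime 2) := ⟨Nat.prime_two⟩
  have hsim : IsSimpleGroup (PS F) := Matrix.ProjectiveSpecialLinearGroup.rank_two_simple (by rw [Nat.card_eq_fintype_card]; exact h4)
  rw [← hF]
  obtain ⟨s, rfl⟩ := π_surj x
  change (_ → Sol (π s) = _) ∧ (_ → _ → Sol (π s) = _) ∧ (_ → _ → Sol (π s) = _)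
  refine ⟨?_, ?_, ?_⟩
  · intro ho
    have hss : s ^ 2 ^ 1 = 1 := by
      apply π_inj_even h2
      rw [map_pow, map_one, pow_one]
      exact orderOf_dvd_iff_pow_eq_one.mp (dvd_of_eq ho)
    obtain ⟨k, a, rfl⟩ := exists_conj_mem (p := 2) ⟨1, hss⟩
    have ha : a ≠ 0 := by
      rintro rfl
      rw [u_zero, mul_one, mul_inv_cancel, map_one, orderOf_one] at ho
      norm_num at ho
    rw [map_mul, map_mul, map_inv, Sol_conj]
    exact case_invol hp hF h2 h4 hev ha
  · intro hx1 ho
    have hodd : orderOf (π s) % 2 = 1 := by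
      have : ¬ 2 ∣ orderOf (π s) := by intro h; have := h.trans ho; omega
      omega
    have hs1 : s ^ (Fintype.card F - 1) = 1 := by
      apply π_inj_even h2
      rw [map_pow, map_one]; exact orderOf_dvd_iff_pow_eq_one.mp ho
    have hroot : ∃ lam : F, lam ^ 2 - s.1.trace * lam + 1 = 0 := by
      by_contra hcon
      push Not at hcon
      have h5 := SL2Tor.nonsplit_case hcon
      apply hx1
      have h6 : Nat.Coprime (Fintype.card F - 1) (Fintype.card F + 1) := by
        rw [Nat.coprime_iff_gcd_eq_one]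
        have hd1 := Nat.gcd_dvd_left (Fintype.card F - 1) (Fintype.card F + 1)
        have hd2 := Nat.gcd_dvd_right (Fintype.card F - 1) (Fintype.card F + 1)
        have hd3 : Nat.gcd (Fintype.card F - 1) (Fintype.card F + 1) ∣ 2 := by
          have h7 : Fintype.card F + 1 = (Fintype.card F - 1) + 2 := by omega
          rw [h7] at hd2 ⊢
          exact (Nat.dvd_add_right (by rw [h7] at hd1; exact hd1)).mp hd2
        rcases (Nat.dvd_prime Nat.prime_two).mp hd3 with h7 | h7
        · exact h7
        · rw [h7] at hd1; omega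
      have h7 := Nat.dvd_gcd (orderOf_dvd_of_pow_eq_one hs1) (orderOf_dvd_of_pow_eq_one h5)
      rw [h6, Nat.dvd_one, orderOf_eq_one_iff] at h7
      rw [h7, map_one]
    obtain ⟨lam, hl⟩ := hroot
    have hne : lam ^ 2 ≠ 1 := by
      intro h
      have hlam : lam = 1 := by
        have h5 : (lam - 1) ^ 2 = 0 := by linear_combination h + (1 - lam) * h2
        exact sub_eq_zero.mp (pow_eq_zero_iff (two_ne_zero) |>.mp h5)
      rw [hlam, Matrix.trace_fin_two] at hl
      have ht : s.1 1 1 = s.1 0 0 := by linear_combination -hl + (1 - s.1 0 0) * h2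
      apply hx1
      exact odd_zp hodd (Subgroup.mem_zpowers _) (by rw [← map_mul, sq_one h2 ht, map_one])
    obtain ⟨t, a, ha, rfl⟩ := conj_diag hl hne
    have e1 : orderOf (π (t * d a * t⁻¹)) = orderOf (π (d a)) := by
      rw [map_mul, map_mul, map_inv]
      exact (MulAut.conj (π t)).orderOf_eq (π (d a))
    rw [e1] at hodd
    rw [map_mul, map_mul, map_inv, Sol_conj]
    exact case_split hp hF h2 h4 hev ha hodd
  · intro hx1 ho
    have hk1 : orderOf (π s) ≠ 1 := fun h => hx1 (orderOf_eq_one_iff.mp h)
    set x := π s with hxs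
    have hodd : orderOf x % 2 = 1 := by
      have : ¬ 2 ∣ orderOf x := by intro h; have := h.trans ho; omega
      omega
    obtain ⟨ℓ, hℓ, hlk⟩ := Nat.exists_prime_and_dvd hk1
    have : Fact ℓ.Prime := ⟨hℓ⟩
    have hlq := hlk.trans ho
    have hnot1 : ¬ ℓ ∣ Fintype.card F := by
      intro h
      have := (Nat.dvd_add_right h).mp hlq
      exact hℓ.one_lt.ne' (Nat.dvd_one.mp this)
    have hnot2 : ¬ ℓ ∣ Fintype.card F - 1 := by
      intro h
      have h5 : Fintype.card F + 1 = (Fintype.card F - 1) + 2 := by omega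
      have := (Nat.dvd_add_right h).mp (h5 ▸ hlq)
      have := (Nat.prime_dvd_prime_iff_eq hℓ Nat.prime_two).mp this
      rw [this] at hlk
      omega
    have hcop : ∀ z : PS F, z ∈ Subgroup.zpowers x → (∃ g : PS F, g * z * g⁻¹ ∈ Bb F) → z = 1 := by
      rintro z hz ⟨g, hg⟩
      have h5 : orderOf z ∣ Fintype.card F + 1 := (orderOf_dvd_of_mem_zpowers hz).trans ho
      have h6 : orderOf z ∣ Fintype.card F * (Fintype.card F - 1) := by
        have h7 := card_Bb (F := F)
        rw [hg1, one_mul] at h7
        rw [← h7]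
        have h8 : orderOf (g * z * g⁻¹) = orderOf z := (MulAut.conj g).orderOf_eq z
        rw [← h8, ← Subgroup.orderOf_mk _ hg]
        exact orderOf_dvd_natCard _
      by_contra hz1
      obtain ⟨r, hr, hrz⟩ := Nat.exists_prime_and_dvd (fun h => hz1 (orderOf_eq_one_iff.mp h) : orderOf z ≠ 1)
      have h9 := hrz.trans h5
      rcases (hr.dvd_mul).mp (hrz.trans h6) with h | h
      · have := (Nat.dvd_add_right h).mp h9
        exact hr.one_lt.ne' (Nat.dvd_one.mp this)
      · have h5 : Fintype.card F + 1 = (Fintype.card F - 1) + 2 := by omega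
        have := (Nat.dvd_add_right h).mp (h5 ▸ h9)
        have := (Nat.prime_dvd_prime_iff_eq hr Nat.prime_two).mp this
        rw [this] at h9
        omega
    -- the normalizer of a subgroup of prime order
    have hk0 : orderOf x ≠ 0 := (orderOf_pos x).ne'
    set c := x ^ (orderOf x / ℓ) with hc
    have hco : orderOf c = ℓ := by
      rw [hc, orderOf_pow_of_dvd (Nat.div_pos (Nat.le_of_dvd (by omega) hlk) hℓ.pos).ne' (Nat.div_dvd_of_dvd hlk), Nat.div_div_self hlk hk0]
    have hcx : c ∈ Subgroup.zpowers x := Subgroup.npow_mem_zpowers x _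
    obtain ⟨D, ⟨e⟩⟩ := DihPS.exists_dihedral_add (F := F)
    rw [hg1, Nat.div_one] at e
    obtain ⟨r, hrD, hr, hnr, -⟩ := dih_rot e
    obtain ⟨g, hg⟩ := sylow_cyc (m := Fintype.card F * (Fintype.card F - 1)) hr (by rw [hcG]; ring) (by
      intro h
      rcases hℓ.dvd_mul.mp h with h | h
      · exact hnot1 h
      · exact hnot2 h) hco
    set N := Subgroup.normalizer (Subgroup.zpowers c : Set (PS F)) with hN
    have hNtop : N ≠ ⊤ := by
      intro h
      have h4' : (Subgroup.zpowers c).Normal := Subgroup.normalizer_eq_top_iff.mp h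
      rcases h4'.eq_bot_or_eq_top with h5 | h5
      · have := congrArg (fun H : Subgroup (PS F) => Nat.card H) h5
        simp only [Nat.card_zpowers, Subgroup.card_bot] at this
        rw [hco] at this
        exact hℓ.one_lt.ne' this
      · have := congrArg (fun H : Subgroup (PS F) => Nat.card H) h5
        simp only [Nat.card_zpowers, Subgroup.card_top] at this
        have h6 := Nat.le_of_dvd (by omega) hlq
        rw [hco, hcG] at this
        have h7 : 1 < Fintype.card F * (Fintype.card F - 1) := by nlinarith [show 1 ≤ Fintype.card F - 1 by omega]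
        nlinarith
    have hxN : x ∈ N := by
      apply le_norm (M := Subgroup.zpowers x)
      · intro y hy
        exact norm_of (Or.inl (by
          obtain ⟨j, hj⟩ := hy
          have hj' : x ^ j = y := hj
          rw [← hj', ((Commute.refl x).zpow_left j).eq, mul_inv_cancel_right])) hcx
      · exact Subgroup.mem_zpowers x
    rcases main_list hp hF hNtop with ⟨g', hg'⟩ | ⟨x0, hx0N, ho0, hcN, hall⟩
    · exfalso
      apply hx1
      apply hcop x (Subgroup.mem_zpowers x)
      exact ⟨g', hg' (Subgroup.smul_mem_pointwise_smul _ (MulAut.conj g') _ hxN)⟩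
    have hDN : MulAut.conj g⁻¹ • D ≤ N := by
      apply le_norm
      rintro y ⟨w, hw, rfl⟩
      change g⁻¹ * w * g⁻¹⁻¹ * c * (g⁻¹ * w * g⁻¹⁻¹)⁻¹ ∈ _
      obtain ⟨j, hj⟩ := norm_of (hnr w hw) hg
      have hj' : (g * c * g⁻¹) ^ j = w * (g * c * g⁻¹) * w⁻¹ := hj
      refine ⟨j, ?_⟩
      change c ^ j = _
      have h5 : c ^ j = g⁻¹ * (g * c * g⁻¹) ^ j * g := by rw [conj_zpow]; group
      rw [h5, hj']; group
    have hcD : Nat.card D = 2 * (Fintype.card F + 1) := by rw [Nat.card_congr e.toEquiv, DihedralGroup.nat_card]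
    have h5 : 2 * (Fintype.card F + 1) ∣ Nat.card N := by
      rw [← hcD, ← card_conj g⁻¹ D]
      exact Subgroup.card_dvd_of_le hDN
    have h6 : Fintype.card F + 1 ∣ orderOf x0 := Nat.dvd_of_mul_dvd_mul_left (by norm_num) (h5.trans hcN)
    have h7 : orderOf x0 = Fintype.card F + 1 := by
      rcases ho0 with h | h
      · exact Nat.dvd_antisymm h h6
      · have := Nat.le_of_dvd (by omega) (h6.trans h); omega
    have hcN2 : Nat.card N = 2 * (Fintype.card F + 1) := by
      rw [h7] at hcN
      exact Nat.dvd_antisymm hcN h5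
    have hx0 : x ∈ Subgroup.zpowers x0 := by
      rcases hall _ hxN with h | ⟨h, -⟩
      · exact h
      · exact absurd (odd_zp hodd (Subgroup.mem_zpowers _) h) hx1
    have hchar : ∀ y : PS F, Group.IsSolvable (Subgroup.closure ({x, y} : Set (PS F))) ↔ y ∈ N := by
      intro y
      constructor
      · intro hs
        have hxM : x ∈ Subgroup.closure ({x, y} : Set (PS F)) := Subgroup.subset_closure (by simp)
        have hyM : y ∈ Subgroup.closure ({x, y} : Set (PS F)) := Subgroup.subset_closure (by simp)
        have hyx : y * x * y⁻¹ = x ∨ y * x * y⁻¹ = x⁻¹ := by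
          rcases main_list hp hF (ne_top_of_solv h4 hs) with ⟨g', hg'⟩ | ⟨z0, hz0M, hoz, -, hallz⟩
          · exfalso
            apply hx1
            apply hcop x (Subgroup.mem_zpowers x)
            exact ⟨g', hg' (Subgroup.smul_mem_pointwise_smul _ (MulAut.conj g') _ hxM)⟩
          · have hx : x ∈ Subgroup.zpowers z0 := by
              rcases hallz _ hxM with h | ⟨h, -⟩
              · exact h
              · exact absurd (odd_zp hodd (Subgroup.mem_zpowers _) h) hx1
            obtain ⟨j, hj⟩ := hx
            have hj' : z0 ^ j = x := hj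
            rcases hallz _ hyM with h | ⟨-, h⟩
            · left
              obtain ⟨i, hi⟩ := h
              have hi' : z0 ^ i = y := hi
              rw [← hj', ← hi', ← zpow_add, ← zpow_neg, ← zpow_add]; congr 1; ring
            · right
              rw [← hj', ← conj_zpow, h, inv_zpow]
        have h8 := norm_of hyx hcx
        apply Subgroup.mem_normalizer_fintype
        rintro z ⟨i, rfl⟩
        change y * c ^ i * y⁻¹ ∈ Subgroup.zpowers c
        rw [← conj_zpow]
        exact Subgroup.zpow_mem _ h8 i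
      · intro hy
        apply solv_norm
        obtain ⟨j, hj⟩ := hx0
        have hj' : x0 ^ j = x := hj
        rcases hall _ hy with h | ⟨-, h⟩
        · left
          obtain ⟨i, hi⟩ := h
          have hi' : x0 ^ i = y := hi
          rw [← hj', ← hi', ← zpow_add, ← zpow_neg, ← zpow_add]; congr 1; ring
        · right
          rw [← hj', ← conj_zpow, h, inv_zpow]
    unfold Sol
    rw [← hcN2]
    exact Nat.card_congr (Equiv.subtypeEquivRight hchar)

end Cfsg.Agent.S2257
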