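import Mathlib
import Cfsg.Agent.S2257
import Cfsg.Agent.H5_SL2Quat

set_option autoImplicit false

/-! Solubilizers in `PSL_2(3^p)`. -/

namespace Cfsg.Agent.H5.Sol

open Cfsg.Agent.H5 Cfsg.Agent.H5.SL2 Cfsg.Agent.H5.V4 Cfsg.Agent.H5.Dk Cfsg.Agent.S5893 Cfsg.Agent.S2257
open scoped Pointwise

theorem solv_ext {G : Type*} [Group G] {x y : G} (V : Subgroup G) (hV : ∀ a ∈ V, ∀ b ∈ V, a * b = b * a) (hxV : x ∈ V)
    (hy1 : ∀ v ∈ V, y * v * y⁻¹ ∈ V) (hy2 : ∀ v ∈ V, y⁻¹ * v * y ∈ V) : Group.IsSolvable (Subgroup.closure ({x, y} : Set G)) := by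
  set K := Subgroup.closure ({x, y} : Set G) with hK
  have hx : x ∈ K := Subgroup.subset_closure (by simp)
  have hy : y ∈ K := Subgroup.subset_closure (by simp)
  have hN : K ≤ Subgroup.normalizer V := by
    rw [hK, Subgroup.closure_le]
    rintro z (rfl | rfl)
    · exact Subgroup.le_normalizer hxV
    · change z ∈ Subgroup.normalizer _
      rw [Subgroup.mem_normalizer_iff]
      intro w
      constructor
      · intro hw; exact hy1 w hw
      · intro hw
        have := hy2 _ hw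
        have e : z⁻¹ * (z * w * z⁻¹) * z = w := by group
        rw [e] at this; exact this
  let N : Subgroup K := V.subgroupOf K
  have hNn : N.Normal := by
    constructor
    intro n hn g
    exact (Subgroup.mem_normalizer_iff.mp (hN g.2) n).mp hn
  have hNs : Group.IsSolvable N := isSolvable_of_comm (fun a b => Subtype.ext (Subtype.ext (hV _ a.2 _ b.2)))
  have hQ : Group.IsSolvable (K ⧸ N) := by
    have hgen : ∀ q : K ⧸ N, q ∈ Subgroup.zpowers (QuotientGroup.mk' N ⟨y, hy⟩) := by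
      intro q
      obtain ⟨k, rfl⟩ := QuotientGroup.mk'_surjective N q
      have h1 : K ≤ ((Subgroup.zpowers (QuotientGroup.mk' N ⟨y, hy⟩)).comap (QuotientGroup.mk' N)).map K.subtype := by
        conv_lhs => rw [hK]
        rw [Subgroup.closure_le]
        rintro z (rfl | rfl)
        · refine ⟨⟨z, hx⟩, ?_, rfl⟩
          show QuotientGroup.mk' N ⟨z, hx⟩ ∈ Subgroup.zpowers (QuotientGroup.mk' N ⟨y, hy⟩)
          have : QuotientGroup.mk' N ⟨z, hx⟩ = 1 := (QuotientGroup.eq_one_iff _).mpr hxV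
          rw [this]; exact one_mem _
        · exact ⟨⟨z, hy⟩, Subgroup.mem_zpowers _, rfl⟩
      obtain ⟨k', hk', he⟩ := h1 k.2
      have : k' = k := Subtype.ext he
      rw [← this]; exact hk'
    have hc : IsCyclic (K ⧸ N) := ⟨⟨_, hgen⟩⟩
    exact isSolvable_of_comm (fun a b => (IsCyclic.commGroup (α := K ⧸ N)).mul_comm a b)
  exact solvable_of_ker_le_range N.subtype (QuotientGroup.mk' N) (by rw [QuotientGroup.ker_mk', Subgroup.range_subtype])

/-- the group `⟨x, y | x², y³, (xy)³⟩` is solvable -/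
theorem solv_A4 {G : Type*} [Group G] {x y : G} (hx : x * x = 1) (hy : y ^ 3 = 1) (hxy : (x * y) ^ 3 = 1) :
    Group.IsSolvable (Subgroup.closure ({x, y} : Set G)) := by
  have hxi : x⁻¹ = x := inv_eq_of_mul_eq_one_left hx
  have hy2 : y * y = y⁻¹ := by
    rw [eq_inv_iff_mul_eq_one, ← hy, pow_succ, sq]
  have e1 : x * (y * x * y⁻¹) * (y⁻¹ * x * y) = 1 := by
    have h1 : (x * y) ^ 3 = x * (y * x * y⁻¹) * ((y * y) * x * y) := by rw [pow_succ, sq]; group
    rw [h1, hy2] at hxy
    exact hxy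
  have h1s : (y * x * y⁻¹) * (y * x * y⁻¹) = 1 := by
    have : (y * x * y⁻¹) * (y * x * y⁻¹) = y * (x * x) * y⁻¹ := by group
    rw [this, hx]; group
  have h2s : (y⁻¹ * x * y) * (y⁻¹ * x * y) = 1 := by
    have : (y⁻¹ * x * y) * (y⁻¹ * x * y) = y⁻¹ * (x * x) * y := by group
    rw [this, hx]; group
  have e2 : y⁻¹ * x * y = x * (y * x * y⁻¹) := by
    have h3 := eq_inv_of_mul_eq_one_left e1
    rw [h3, inv_eq_of_mul_eq_one_left h2s]
  have hcomm : x * (y * x * y⁻¹) = (y * x * y⁻¹) * x := by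
    have h3 : (x * (y * x * y⁻¹)) * (x * (y * x * y⁻¹)) = 1 := by rw [← e2]; exact h2s
    have h4 := inv_eq_of_mul_eq_one_left h3
    rw [mul_inv_rev, hxi, inv_eq_of_mul_eq_one_left h1s] at h4
    exact h4.symm
  set x1 := y * x * y⁻¹ with hx1
  set V := Subgroup.closure ({x, x1} : Set G) with hVd
  have hxV : x ∈ V := Subgroup.subset_closure (by simp)
  have hx1V : x1 ∈ V := Subgroup.subset_closure (by simp)
  have hVc : V ≤ Subgroup.centralizer ({x, x1} : Set G) := by
    rw [hVd, Subgroup.closure_le]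
    rintro z (rfl | rfl)
    · change z ∈ Subgroup.centralizer _
      rw [Subgroup.mem_centralizer_iff]
      rintro z' (rfl | rfl)
      · rfl
      · exact hcomm.symm
    · change x1 ∈ Subgroup.centralizer _
      rw [Subgroup.mem_centralizer_iff]
      rintro z' (rfl | rfl)
      · exact hcomm
      · rfl
  have hVV : V ≤ Subgroup.centralizer (V : Set G) := by
    conv_lhs => rw [hVd]
    rw [Subgroup.closure_le]
    rintro z hz
    change z ∈ Subgroup.centralizer _
    rw [Subgroup.mem_centralizer_iff]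
    intro v hv
    exact ((Subgroup.mem_centralizer_iff.mp (hVc hv)) z hz).symm
  refine solv_ext V ?_ hxV ?_ ?_
  · intro a ha b hb
    exact ((Subgroup.mem_centralizer_iff.mp (hVV ha)) b hb).symm
  · have : V ≤ V.comap (MulAut.conj y).toMonoidHom := by
      conv_lhs => rw [hVd]
      rw [Subgroup.closure_le]
      rintro z (rfl | rfl)
      · exact hx1V
      · change y * (y * x * y⁻¹) * y⁻¹ ∈ V
        have h5 : y * (y * x * y⁻¹) * y⁻¹ = (y * y) * x * (y * y)⁻¹ := by group
        rw [h5, hy2, inv_inv, e2]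
        exact mul_mem hxV hx1V
    intro v hv
    exact this hv
  · have : V ≤ V.comap (MulAut.conj y⁻¹).toMonoidHom := by
      conv_lhs => rw [hVd]
      rw [Subgroup.closure_le]
      rintro z (rfl | rfl)
      · change y⁻¹ * z * y⁻¹⁻¹ ∈ V
        rw [inv_inv, e2]
        exact mul_mem hxV hx1V
      · change y⁻¹ * (y * x * y⁻¹) * y⁻¹⁻¹ ∈ V
        have h5 : y⁻¹ * (y * x * y⁻¹) * y⁻¹⁻¹ = x := by group
        rw [h5]; exact hxV
    intro v hv
    have := this hv
    change y⁻¹ * v * y⁻¹⁻¹ ∈ V at this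
    rwa [inv_inv] at this

variable {F : Type*} [Field F]

/-- dihedral or cyclic with rotations of order dividing `(q ± 1)/2` -/
def DD3 [Fintype F] (M : Subgroup (PS F)) : Prop :=
  ∃ x0 ∈ M, (orderOf x0 ∣ (Fintype.card F + 1) / 2 ∨ orderOf x0 ∣ (Fintype.card F - 1) / 2) ∧ Nat.card M ∣ 2 * orderOf x0 ∧
    ∀ y ∈ M, y ∈ Subgroup.zpowers x0 ∨ (y * y = 1 ∧ y * x0 * y⁻¹ = x0⁻¹)

/-- all traces in the field with 3 elements -/
def TT (M : Subgroup (PS F)) : Prop := ∀ s : S F, π s ∈ M → (s.1 0 0 + s.1 1 1) ^ 3 = s.1 0 0 + s.1 1 1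

theorem dd3_dih [Fintype F] {M : Subgroup (PS F)} {k : ℕ} (e : M ≃* DihedralGroup k)
    (hk : k ∣ (Fintype.card F + 1) / 2 ∨ k ∣ (Fintype.card F - 1) / 2) : DD3 M := by
  refine ⟨(e.symm (DihedralGroup.r 1) : M), SetLike.coe_mem _, ?_, ?_, ?_⟩
  · rw [Subgroup.orderOf_coe, e.symm.orderOf_eq, DihedralGroup.orderOf_r_one]; exact hk
  · rw [Subgroup.orderOf_coe, e.symm.orderOf_eq, DihedralGroup.orderOf_r_one, Nat.card_congr e.toEquiv, DihedralGroup.nat_card]
  · intro y hy
    obtain ⟨w, hw⟩ := e.symm.surjective ⟨y, hy⟩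
    have hy' : y = (e.symm w : M) := by rw [hw]
    rw [hy']
    rcases w with i | i
    · left
      obtain ⟨j, hj⟩ := ZMod.intCast_surjective i
      refine ⟨j, ?_⟩
      change ((e.symm (DihedralGroup.r 1) : M) : PS F) ^ j = _
      rw [← Subgroup.coe_zpow, ← map_zpow]
      congr 2
      rw [DihedralGroup.r_one_zpow, hj]
    · right
      constructor
      · rw [← Subgroup.coe_mul, ← map_mul, DihedralGroup.sr_mul_self, map_one, Subgroup.coe_one]
      · rw [← Subgroup.coe_inv, ← Subgroup.coe_inv, ← Subgroup.coe_mul, ← Subgroup.coe_mul, ← map_inv, ← map_inv, ← map_mul, ← map_mul]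
        congr 2
        rw [DihedralGroup.inv_sr, DihedralGroup.sr_mul_r, DihedralGroup.sr_mul_sr, DihedralGroup.inv_r]
        congr 1; ring

theorem dd3_cyc [Fintype F] {M : Subgroup (PS F)} {k : ℕ} (h : IsCyclic M) (hM : Nat.card M = k)
    (hk : k ∣ (Fintype.card F + 1) / 2 ∨ k ∣ (Fintype.card F - 1) / 2) : DD3 M := by
  obtain ⟨g, hg⟩ := IsCyclic.exists_generator (α := M)
  have ho : orderOf (g : PS F) = k := by rw [Subgroup.orderOf_coe, orderOf_eq_card_of_forall_mem_zpowers hg, hM]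
  refine ⟨g, g.2, by rw [ho]; exact hk, by rw [ho, hM]; exact dvd_mul_left _ _, ?_⟩
  intro y hy
  left
  obtain ⟨j, hj⟩ := hg ⟨y, hy⟩
  exact ⟨j, by change (g : PS F) ^ j = y; rw [← Subgroup.coe_zpow]; exact congrArg Subtype.val hj⟩

theorem three_pow_mod {p : ℕ} (hodd : Odd p) : 3 ^ p % 8 = 3 ∧ (3 ^ p) ^ 2 % 5 = 4 := by
  obtain ⟨k, rfl⟩ := hodd
  constructor
  · rw [pow_succ, pow_mul, Nat.mul_mod, Nat.pow_mod]; norm_num
  · have : (3 ^ (2 * k + 1)) ^ 2 = 9 * 81 ^ k := by
      rw [← pow_mul, show (2 * k + 1) * 2 = 4 * k + 2 by ring, pow_add, pow_mul]; norm_num; ring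
    rw [this, Nat.mul_mod, Nat.pow_mod]; norm_num

theorem trace_conj (t s : S F) : (t * s * t⁻¹).1 0 0 + (t * s * t⁻¹).1 1 1 = s.1 0 0 + s.1 1 1 := by
  have hd := det_eq t
  simp only [mul00, mul10, mul01, mul11, inv00, inv01, inv10, inv11]
  linear_combination (s.1 0 0 + s.1 1 1) * hd

theorem main_list3 [Fintype F] {p : ℕ} (hp : p.Prime) (hodd : Odd p) (hF : Fintype.card F = 3 ^ p) {M : Subgroup (PS F)} (hM : M ≠ ⊤) :
    (∃ g : PS F, MulAut.conj g • M ≤ Bb F) ∨ DD3 M ∨ TT M := by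
  classical
  obtain ⟨h8, h25⟩ := three_pow_mod hodd
  rw [← hF] at h8 h25
  have h3F : CharP F 3 := by
    obtain ⟨r, hr⟩ := CharP.exists F
    have : Fact r.Prime := ⟨CharP.char_is_prime F r⟩
    obtain ⟨n, hn, hc⟩ := FiniteField.card F r
    have h1 : r ∣ 3 ^ p := by rw [← hF, hc]; exact dvd_pow_self r n.pos.ne'
    have h2 := (Nat.prime_dvd_prime_iff_eq Fact.out Nat.prime_three).mp (Nat.Prime.dvd_of_dvd_pow Fact.out h1)
    rw [← h2]; exact hr
  have hg2 : Nat.gcd 2 (Fintype.card F - 1) = 2 := by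
    rcases DihPS.gcd_cases (F := F) with ⟨-, h2⟩ | ⟨h2, -⟩
    · omega
    · exact h2
  have hcG := card_PS_mul (F := F)
  rw [hg2] at hcG
  have hf3 : Fact (Nat.Prime 3) := ⟨Nat.prime_three⟩
  have hq1 : 1 < Fintype.card F := Fintype.one_lt_card
  by_cases h3M : 3 ∣ Nat.card M
  · obtain ⟨g, h | h | h | ⟨e, K0, hS, hc, ht⟩⟩ := hub 3 M h3M
    · left
      refine ⟨g, ?_⟩
      intro x hx
      obtain ⟨s, rfl⟩ := π_surj x
      exact mem_Bb.mpr (h s hx)
    · exact absurd h.1 (by norm_num)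
    · exfalso
      have h60 := Subgroup.card_subgroup_dvd_card M
      rw [h.2.1] at h60
      have h5 : 5 ∣ Fintype.card F * (Fintype.card F - 1) * (Fintype.card F + 1) := by
        rw [← hcG]; exact ((by norm_num : 5 ∣ 60).trans h60).mul_left _
      have h6 : Fintype.card F * (Fintype.card F - 1) * (Fintype.card F + 1) = Fintype.card F * (Fintype.card F ^ 2 - 1) := by
        have := Nat.sq_sub_sq (Fintype.card F) 1
        rw [one_pow] at this
        rw [this]; ring
      rw [h6] at h5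
      rcases (Nat.prime_five.dvd_mul).mp h5 with h7 | h7
      · have : 5 ∣ Fintype.card F ^ 2 := dvd_pow h7 (by norm_num)
        omega
      · have : 1 ≤ Fintype.card F ^ 2 := Nat.one_le_pow _ _ (by omega)
        omega
    · right
      obtain ⟨L, iL, iL', ι, m, hι, hm⟩ := Dk.exists_model 3 K0
      have hl1 : 1 < Fintype.card L := Fintype.one_lt_card
      have hcL : Nat.card K0 = Fintype.card L := by
        rw [← Nat.card_eq_fintype_card]
        symm
        apply Nat.card_congr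
        refine Equiv.ofBijective (fun x => ⟨ι x, (hι _).mpr ⟨x, rfl⟩⟩) ⟨?_, ?_⟩
        · intro x y h
          exact ι.injective (congrArg Subtype.val h)
        · rintro ⟨y, hy⟩
          obtain ⟨x, rfl⟩ := (hι _).mp hy
          exact ⟨x, rfl⟩
      have hm0 : m ≠ 0 := by rintro rfl; simp at hm; omega
      obtain ⟨a, ha⟩ : ∃ a, Fintype.card L = 3 ^ a := by
        have h1 : Fintype.card L ∣ 3 ^ p := by rw [← hF, ← hm]; exact dvd_pow_self _ hm0
        obtain ⟨a, -, ha⟩ := (Nat.dvd_prime_pow Nat.prime_three).mp h1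
        exact ⟨a, ha⟩
      have ham : a * m = p := by
        have h1 : 3 ^ (a * m) = 3 ^ p := by rw [pow_mul, ← ha, hm, hF]
        exact Nat.pow_right_injective (by norm_num : 2 ≤ 3) h1
      have ha1 : a = 1 := by
        rcases (Nat.dvd_prime hp).mp ⟨m, ham.symm⟩ with h | h
        · exact h
        · exfalso
          rw [hcL, ha, h, ← hF] at hc ht
          have hpos : 0 < Nat.card (PS F) := Nat.card_pos
          rcases ht with ht | ht
          · rw [ht] at hc
            have h1 : Nat.card M = 2 * Nat.card (PS F) := by rw [hc, hcG]; ring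
            have h2 := Nat.le_of_dvd hpos (Subgroup.card_subgroup_dvd_card M)
            omega
          · apply hM
            apply Subgroup.eq_top_of_card_eq
            have h1 : 2 * Nat.card M = 2 * Nat.card (PS F) := by rw [hcG, hc, ← ht]; ring
            omega
      right
      rw [ha1, pow_one] at ha
      obtain ⟨t, rfl⟩ := π_surj g
      intro s hs
      have h1 : π (t * s * t⁻¹) ∈ MulAut.conj (π t) • M := by
        have := Subgroup.smul_mem_pointwise_smul _ (MulAut.conj (π t)) _ hs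
        rw [map_mul, map_mul, map_inv]; exact this
      have h2 := hS.htr _ h1
      rw [trace_conj] at h2
      set τ := s.1 0 0 + s.1 1 1 with hτ
      have h3 : (τ ^ 2) ^ 3 = τ ^ 2 := by
        letI : Fintype K0 := Fintype.ofFinite K0
        have h4 : Fintype.card K0 = 3 := by rw [← Nat.card_eq_fintype_card, hcL, ha]
        have h5 := FiniteField.pow_card (⟨τ ^ 2, h2⟩ : K0)
        rw [h4] at h5
        exact congrArg Subtype.val h5
      have h4 : τ ^ 2 * ((τ ^ 2 - 1) * (τ ^ 2 + 1)) = 0 := by linear_combination h3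
      rcases mul_eq_zero.mp h4 with h5 | h5
      · rw [pow_eq_zero_iff two_ne_zero |>.mp h5]; ring
      · rcases mul_eq_zero.mp h5 with h5 | h5
        · linear_combination τ * h5
        · exfalso
          have h6 : IsSquare (-1 : F) := ⟨τ, by linear_combination -h5⟩
          rw [FiniteField.isSquare_neg_one_iff] at h6
          omega
  · right; left
    letI : Fintype (FiniteField.Extension F 3 2) := Fintype.ofFinite _
    rcases hub_coprime (K := FiniteField.Extension F 3 2) 3 (hsp_ext 3) M h3M with h | ⟨⟨e⟩⟩ | ⟨⟨e⟩⟩ | ⟨⟨e⟩⟩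
    · obtain ⟨k, hk, hk'⟩ := h
      rw [hg2] at hk
      rcases hk' with ⟨h1, h2⟩ | ⟨⟨e⟩⟩
      · exact dd3_cyc h1 h2 hk
      · exact dd3_dih e hk
    · rw [Nat.card_congr e.toEquiv, card_A4] at h3M; norm_num at h3M
    · rw [Nat.card_congr e.toEquiv, card_S4] at h3M; norm_num at h3M
    · rw [Nat.card_congr e.toEquiv, card_A5] at h3M; norm_num at h3M

end Cfsg.Agent.H5.Sol
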