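import Mathlib
import Cfsg.Agent.H5_Symp
import Cfsg.Agent.S0752

set_option autoImplicit false
set_option linter.unusedSectionVars false

/-! `S_{2n}` inside `Sp_{2n-2}(2)`. -/

namespace Cfsg.Agent.H5.SymSp

open Matrix Module Conc

/-- a nondegenerate alternating form of dimension `2m` is isometric to the standard one -/
theorem exists_isometry {F V : Type*} [Field F] [AddCommGroup V] [Module F V] [FiniteDimensional F V]
    (B : LinearMap.BilinForm F V) (hA : B.IsAlt) (hnd : ∀ x, (∀ y, B x y = 0) → x = 0) {m : ℕ} (hV : finrank F V = 2 * m) :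
    ∃ φ : V ≃ₗ[F] (Fin m ⊕ Fin m → F), ∀ x y, Cfsg.sympForm m F (φ x) (φ y) = B x y := by
  obtain ⟨m', k, b, h1, h2, h3, h4⟩ := S0752.result B hA
  have hk : k = 0 := by
    by_contra hk
    have h5 : b (Sum.inr ⟨0, Nat.pos_of_ne_zero hk⟩) = 0 := hnd _ (fun y => h4 _ y)
    exact b.ne_zero _ h5
  subst hk
  have hm : m' = m := by
    have := finrank_eq_card_basis b
    rw [hV] at this
    simp at this
    omega
  subst hm
  let e : (Fin m' ⊕ Fin m') ⊕ Fin 0 ≃ Fin m' ⊕ Fin m' := (Equiv.sumEmpty _ _).trans (Equiv.sumComm _ _)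
  let c := b.reindex e
  have c1 : ∀ i, c (Sum.inl i) = b (Sum.inl (Sum.inr i)) := fun i => by
    rw [Basis.reindex_apply]; rfl
  have c2 : ∀ i, c (Sum.inr i) = b (Sum.inl (Sum.inl i)) := fun i => by
    rw [Basis.reindex_apply]; rfl
  refine ⟨c.equivFun, ?_⟩
  have key : ((sympB m' F).comp c.equivFun.toLinearMap c.equivFun.toLinearMap) = B := by
    apply LinearMap.BilinForm.ext_basis c
    intro i j
    rw [LinearMap.BilinForm.comp_apply, sympB_apply]
    have e0 : ∀ i, c.equivFun (c i) = Pi.single i 1 := by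
      intro i; ext j; rw [Basis.equivFun_self]; simp [Pi.single_apply, eq_comm]
    rw [LinearEquiv.coe_coe, e0, e0]
    have hsw : ∀ x y, B y x = - B x y := fun x y => by rw [← LinearMap.BilinForm.IsAlt.neg_eq hA x y]
    rcases i with i | i <;> rcases j with j | j
    · rw [sympForm_single_inl, c1, c1, h3]; simp
    · rw [sympForm_single_inl, c1, c2, hsw, h1]
      simp [Pi.single_apply, eq_comm]
    · rw [sympForm_single_inr, c1, c2, h1]
      simp [Pi.single_apply]
    · rw [sympForm_single_inr, c2, c2, h2]; simp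
  intro x y
  rw [← key, LinearMap.BilinForm.comp_apply, sympB_apply]
  rfl

section Two

variable {F : Type*} [Field F] [CharP F 2] {n : ℕ}

theorem two_zero : (2 : F) = 0 := by exact_mod_cast CharP.cast_eq_zero F 2

theorem add_self_zero (a : F) : a + a = 0 := by rw [← two_mul, two_zero, zero_mul]

local notation "V" => (Fin (2 * n + 6) → F)

/-- sum of coordinates -/
def sm : V →ₗ[F] F where
  toFun v := ∑ i, v i
  map_add' x y := by simp [Finset.sum_add_distrib]
  map_smul' c x := by simp [Finset.mul_sum]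

theorem sm_apply (v : V) : sm v = ∑ i, v i := rfl

/-- the module: sum zero and first coordinate zero -/
def U0 (n : ℕ) (F : Type*) [Field F] : Submodule F (Fin (2 * n + 6) → F) where
  carrier := {v | v 0 = 0 ∧ ∑ i, v i = 0}
  add_mem' := by
    rintro x y ⟨h1, h2⟩ ⟨h3, h4⟩
    exact ⟨by rw [Pi.add_apply, h1, h3, add_zero], by simp only [Pi.add_apply]; rw [Finset.sum_add_distrib, h2, h4, add_zero]⟩
  zero_mem' := by simp
  smul_mem' := by
    rintro c x ⟨h1, h2⟩
    refine ⟨by rw [Pi.smul_apply, h1, smul_zero], ?_⟩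
    simp only [Pi.smul_apply, smul_eq_mul]
    rw [← Finset.mul_sum, h2, mul_zero]

theorem mem_U0 {v : V} : v ∈ U0 n F ↔ v 0 = 0 ∧ ∑ i, v i = 0 := Iff.rfl

/-- the dot product -/
noncomputable def dotB : LinearMap.BilinForm F V := Matrix.toBilin' (1 : Matrix (Fin (2 * n + 6)) (Fin (2 * n + 6)) F)

theorem dotB_apply (x y : V) : dotB x y = ∑ i, x i * y i := by
  rw [dotB, Matrix.toBilin'_apply']
  simp [dotProduct]

/-- the vector `e_i + e_j` -/
def ee (i j : Fin (2 * n + 6)) : V := Pi.single i 1 + Pi.single j 1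

theorem ee_mem {i j : Fin (2 * n + 6)} (hi : i ≠ 0) (hj : j ≠ 0) : (ee i j : V) ∈ U0 n F := by
  constructor
  · simp [ee, hi.symm, hj.symm]
  · simp [ee, Finset.sum_add_distrib, add_self_zero]

theorem finrank_U0 : finrank F (U0 n F) = 2 * (n + 2) := by
  let f : V →ₗ[F] F × F := (LinearMap.proj 0).prod sm
  have hker : LinearMap.ker f = U0 n F := by
    ext v
    rw [LinearMap.mem_ker, mem_U0]
    show (v 0, sm v) = 0 ↔ _
    rw [Prod.mk_eq_zero, sm_apply]
  have hsurj : Function.Surjective f := by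
    rintro ⟨a, b⟩
    refine ⟨Pi.single 0 a + Pi.single 1 (b - a), ?_⟩
    show ((Pi.single 0 a + Pi.single 1 (b - a) : V) 0, sm (Pi.single 0 a + Pi.single 1 (b - a) : V)) = (a, b)
    rw [sm_apply]
    simp [Finset.sum_add_distrib]
  have h := f.finrank_range_add_finrank_ker
  rw [LinearMap.range_eq_top.2 hsurj, finrank_top, hker, Module.finrank_prod, Module.finrank_self, Module.finrank_fin_fun] at h
  omega

/-- the restricted form -/
noncomputable def B0 : LinearMap.BilinForm F (U0 n F) := (dotB (F := F) (n := n)).restrict (U0 n F)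

theorem B0_apply (x y : U0 n F) : B0 x y = ∑ i, (x : V) i * (y : V) i := dotB_apply _ _

theorem B0_nd (hF : ∀ a : F, a = 0 ∨ a = 1) (x : U0 n F) (h : ∀ y, B0 x y = 0) : x = 0 := by
  have h1 : ∀ i j : Fin (2 * n + 6), i ≠ 0 → j ≠ 0 → (x : V) i = (x : V) j := by
    intro i j hi hj
    have h2 := h ⟨ee i j, ee_mem hi hj⟩
    rw [B0_apply] at h2
    simp [ee, mul_add, Finset.sum_add_distrib, Pi.single_apply] at h2
    linear_combination h2 - ((x : V) j) * (two_zero (F := F))
  have h01 : (1 : Fin (2 * n + 6)) ≠ 0 := by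
    rw [Ne, Fin.one_eq_zero_iff]; omega
  apply Subtype.ext
  have h2 : (x : V) = Function.update (fun _ => (x : V) 1) 0 0 := by
    ext i
    by_cases hi : i = 0
    · subst hi
      rw [Function.update_self]; exact x.2.1
    · rw [Function.update_of_ne hi]; exact h1 i 1 hi h01
  have h3 := x.2.2
  rw [h2, Finset.sum_update_of_mem (Finset.mem_univ _), zero_add, Finset.sum_const, Finset.card_sdiff] at h3
  simp at h3
  have h4 : ((x : V) 1) = 0 := by
    have e : ((2 * n + 5 : ℕ) : F) = 1 := by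
      push_cast
      linear_combination (n + 2 : F) * two_zero (F := F)
    have h5 : ((2 * n + 5 : ℕ) : F) * (x : V) 1 = 0 := by
      push_cast
      rcases h3 with h3 | h3
      · rw [h3, zero_mul]
      · rw [h3, mul_zero]
    rw [e, one_mul] at h5
    exact h5
  rw [h2, h4]
  ext i
  by_cases hi : i = 0
  · subst hi; simp
  · rw [Function.update_of_ne hi]; rfl

theorem B0_alt (hF : ∀ a : F, a = 0 ∨ a = 1) : (B0 (F := F) (n := n)).IsAlt := by
  intro x
  rw [B0_apply]
  have : ∀ a : F, a * a = a := by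
    intro a
    rcases hF a with rfl | rfl <;> simp
  simp only [this]
  exact x.2.2

/-- normalisation -/
def nm : V →ₗ[F] V where
  toFun v := fun i => v i - v 0
  map_add' x y := by ext i; simp; ring
  map_smul' c x := by ext i; simp; ring

theorem nm_apply (v : V) (i : Fin (2 * n + 6)) : nm v i = v i - v 0 := rfl

/-- permutation action -/
def pm (s : Equiv.Perm (Fin (2 * n + 6))) : V →ₗ[F] V where
  toFun v := fun i => v (s⁻¹ i)
  map_add' _ _ := rfl
  map_smul' _ _ := rfl

theorem pm_apply (s : Equiv.Perm (Fin (2 * n + 6))) (v : V) (i : Fin (2 * n + 6)) : pm s v i = v (s⁻¹ i) := rfl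

theorem sum_nm (v : V) : ∑ i, nm v i = ∑ i, v i := by
  simp only [nm_apply]
  rw [Finset.sum_sub_distrib, Finset.sum_const, Finset.card_univ, Fintype.card_fin, nsmul_eq_mul]
  push_cast
  linear_combination (-(n + 3 : F) * v 0) * two_zero (F := F)

theorem sum_pm (s : Equiv.Perm (Fin (2 * n + 6))) (v : V) : ∑ i, pm s v i = ∑ i, v i := Equiv.sum_comp s⁻¹ v

/-- the action on `U0` -/
noncomputable def rho (s : Equiv.Perm (Fin (2 * n + 6))) : U0 n F →ₗ[F] U0 n F :=
  LinearMap.codRestrict (U0 n F) (nm ∘ₗ pm s ∘ₗ (U0 n F).subtype) (fun v => by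
    constructor
    · show nm (pm s (v : V)) 0 = 0
      rw [nm_apply, sub_self]
    · show ∑ i, nm (pm s (v : V)) i = 0
      rw [sum_nm, sum_pm]; exact v.2.2)

theorem rho_apply (s : Equiv.Perm (Fin (2 * n + 6))) (v : U0 n F) (i : Fin (2 * n + 6)) :
    ((rho s v : U0 n F) : V) i = (v : V) (s⁻¹ i) - (v : V) (s⁻¹ 0) := rfl

theorem rho_one : rho (1 : Equiv.Perm (Fin (2 * n + 6))) = (LinearMap.id : U0 n F →ₗ[F] U0 n F) := by
  apply LinearMap.ext
  intro v
  apply Subtype.ext
  ext i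
  rw [rho_apply]
  have : (v : V) 0 = 0 := v.2.1
  simp [this]

theorem rho_mul (s t : Equiv.Perm (Fin (2 * n + 6))) : rho (s * t) = (rho s ∘ₗ rho t : U0 n F →ₗ[F] U0 n F) := by
  apply LinearMap.ext
  intro v
  apply Subtype.ext
  ext i
  rw [LinearMap.comp_apply, rho_apply, rho_apply, rho_apply, rho_apply, _root_.mul_inv_rev, Equiv.Perm.mul_apply,
    Equiv.Perm.mul_apply]
  ring

theorem rho_B0 (hF : ∀ a : F, a = 0 ∨ a = 1) (s : Equiv.Perm (Fin (2 * n + 6))) (x y : U0 n F) : B0 (rho s x) (rho s y) = B0 x y := by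
  rw [B0_apply, B0_apply]
  simp only [rho_apply]
  have e1 : ∀ i, ((x : V) (s⁻¹ i) - (x : V) (s⁻¹ 0)) * ((y : V) (s⁻¹ i) - (y : V) (s⁻¹ 0)) =
      (x : V) (s⁻¹ i) * (y : V) (s⁻¹ i) - (y : V) (s⁻¹ 0) * (x : V) (s⁻¹ i) - (x : V) (s⁻¹ 0) * (y : V) (s⁻¹ i)
        + (x : V) (s⁻¹ 0) * (y : V) (s⁻¹ 0) := fun i => by ring
  simp only [e1]
  rw [Finset.sum_add_distrib, Finset.sum_sub_distrib, Finset.sum_sub_distrib, ← Finset.mul_sum, ← Finset.mul_sum,
    Equiv.sum_comp s⁻¹ (x : V), Equiv.sum_comp s⁻¹ (y : V), x.2.2, y.2.2, Finset.sum_const, Finset.card_univ, Fintype.card_fin,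
    nsmul_eq_mul, Equiv.sum_comp s⁻¹ (fun i => (x : V) i * (y : V) i)]
  push_cast
  linear_combination ((n + 3 : F) * ((x : V) (s⁻¹ 0) * (y : V) (s⁻¹ 0))) * two_zero (F := F)

theorem rho_inj (s : Equiv.Perm (Fin (2 * n + 6))) (h : rho s = (LinearMap.id : U0 n F →ₗ[F] U0 n F)) : s = 1 := by
  have h1 : ∀ (v : V), v ∈ U0 n F → ∀ i, v (s⁻¹ i) - v (s⁻¹ 0) = v i := by
    intro v hv i
    have h2 := congrArg (fun f : U0 n F →ₗ[F] U0 n F => ((f ⟨v, hv⟩ : U0 n F) : V) i) h
    exact h2
  have h3 : ∀ i j : Fin (2 * n + 6), i ≠ 0 → j ≠ 0 → i ≠ j → s⁻¹ i = i ∨ s⁻¹ i = j := by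
    intro i j hi hj hij
    have h4 := h1 _ (ee_mem hi hj)
    obtain ⟨t, ht⟩ : ∃ t, t ∉ ({i, j, s i, s j} : Finset (Fin (2 * n + 6))) := by
      by_contra hcon
      push Not at hcon
      have h5 : (Finset.univ : Finset (Fin (2 * n + 6))) ⊆ {i, j, s i, s j} := fun t _ => hcon t
      have h6 := Finset.card_le_card h5
      rw [Finset.card_univ, Fintype.card_fin] at h6
      have h7 : ({i, j, s i, s j} : Finset (Fin (2 * n + 6))).card ≤ 4 := Finset.card_le_four
      omega
    simp only [Finset.mem_insert, Finset.mem_singleton, not_or] at ht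
    obtain ⟨t1, t2, t3, t4⟩ := ht
    have hz : ∀ k, k ≠ i → k ≠ j → (ee i j : V) k = 0 := by
      intro k hk1 hk2
      simp [ee, hk1, hk2]
    have h8 := h4 t
    rw [hz t t1 t2, hz (s⁻¹ t) (fun h => t3 (by rw [← h]; simp)) (fun h => t4 (by rw [← h]; simp)), zero_sub, neg_eq_zero] at h8
    have h9 := h4 i
    rw [h8, sub_zero] at h9
    have h10 : (ee i j : V) i = 1 := by simp [ee, hij]
    rw [h10] at h9
    by_contra hcon
    push Not at hcon
    rw [hz _ hcon.1 hcon.2] at h9
    exact zero_ne_one h9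
  have h4 : ∀ i, i ≠ 0 → s⁻¹ i = i := by
    intro i hi
    obtain ⟨j, k, hj, hk, hij, hik, hjk⟩ : ∃ j k : Fin (2 * n + 6), j ≠ 0 ∧ k ≠ 0 ∧ i ≠ j ∧ i ≠ k ∧ j ≠ k := by
      obtain ⟨j, hj⟩ : ∃ j, j ∉ ({0, i} : Finset (Fin (2 * n + 6))) := by
        by_contra hcon
        push Not at hcon
        have h5 : (Finset.univ : Finset (Fin (2 * n + 6))) ⊆ {0, i} := fun t _ => hcon t
        have h6 := Finset.card_le_card h5
        rw [Finset.card_univ, Fintype.card_fin] at h6
        have h7 : ({0, i} : Finset (Fin (2 * n + 6))).card ≤ 2 := Finset.card_le_two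
        omega
      obtain ⟨k, hk⟩ : ∃ k, k ∉ ({0, i, j} : Finset (Fin (2 * n + 6))) := by
        by_contra hcon
        push Not at hcon
        have h5 : (Finset.univ : Finset (Fin (2 * n + 6))) ⊆ {0, i, j} := fun t _ => hcon t
        have h6 := Finset.card_le_card h5
        rw [Finset.card_univ, Fintype.card_fin] at h6
        have h7 : ({0, i, j} : Finset (Fin (2 * n + 6))).card ≤ 3 := Finset.card_le_three
        omega
      simp only [Finset.mem_insert, Finset.mem_singleton, not_or] at hj hk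
      exact ⟨j, k, hj.1, hk.1, Ne.symm hj.2, Ne.symm hk.2.1, Ne.symm hk.2.2⟩
    rcases h3 i j hi hj hij with h5 | h5
    · exact h5
    · rcases h3 i k hi hk hik with h6 | h6
      · exact h6
      · exact absurd (h5.symm.trans h6) hjk
  have h5 : s⁻¹ = 1 := by
    ext1 i
    by_cases hi : i = 0
    · subst hi
      by_contra hne
      rw [Equiv.Perm.one_apply] at hne
      have h6 := h4 _ hne
      exact hne (s⁻¹.injective h6)
    · rw [h4 i hi]; rfl
  rwa [inv_eq_one] at h5

theorem exists_hom (hF : ∀ a : F, a = 0 ∨ a = 1) (n : ℕ) :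
    ∃ f : Equiv.Perm (Fin (2 * n + 6)) →* Matrix.symplecticGroup (Fin (n + 2)) F, Function.Injective f := by
  obtain ⟨φ, hφ⟩ := exists_isometry (B0 (F := F) (n := n)) (B0_alt hF) (B0_nd hF) finrank_U0
  have hmul : ∀ s (w : Fin (n + 2) ⊕ Fin (n + 2) → F),
      LinearMap.toMatrix' (φ.toLinearMap ∘ₗ rho s ∘ₗ φ.symm.toLinearMap) *ᵥ w = φ (rho s (φ.symm w)) := by
    intro s w
    rw [← Matrix.toLin'_apply, Matrix.toLin'_toMatrix']
    rfl
  let f : Equiv.Perm (Fin (2 * n + 6)) →* Matrix.symplecticGroup (Fin (n + 2)) F :=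
    { toFun := fun s => ⟨LinearMap.toMatrix' (φ.toLinearMap ∘ₗ rho s ∘ₗ φ.symm.toLinearMap), by
        rw [mem_symplecticGroup_iff]
        intro u v
        rw [hmul, hmul, hφ, rho_B0 hF, ← hφ, LinearEquiv.apply_symm_apply, LinearEquiv.apply_symm_apply]⟩
      map_one' := by
        apply Subtype.ext
        show LinearMap.toMatrix' (φ.toLinearMap ∘ₗ rho 1 ∘ₗ φ.symm.toLinearMap) = 1
        rw [rho_one, LinearMap.id_comp, ← LinearMap.toMatrix'_id]
        congr 1
        apply LinearMap.ext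
        intro w
        exact φ.apply_symm_apply w
      map_mul' := fun s t => by
        apply Subtype.ext
        show LinearMap.toMatrix' (φ.toLinearMap ∘ₗ rho (s * t) ∘ₗ φ.symm.toLinearMap) =
          LinearMap.toMatrix' (φ.toLinearMap ∘ₗ rho s ∘ₗ φ.symm.toLinearMap) *
          LinearMap.toMatrix' (φ.toLinearMap ∘ₗ rho t ∘ₗ φ.symm.toLinearMap)
        rw [rho_mul, ← LinearMap.toMatrix'_comp]
        congr 1
        apply LinearMap.ext
        intro w
        show φ (rho s (rho t (φ.symm w))) = φ (rho s (φ.symm (φ (rho t (φ.symm w)))))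
        rw [LinearEquiv.symm_apply_apply] }
  refine ⟨f, ?_⟩
  rw [injective_iff_map_eq_one]
  intro s hs
  apply rho_inj (F := F)
  apply LinearMap.ext
  intro v
  have h1 := hmul s (φ v)
  rw [LinearEquiv.symm_apply_apply] at h1
  have h2 : LinearMap.toMatrix' (φ.toLinearMap ∘ₗ rho s ∘ₗ φ.symm.toLinearMap) = 1 := congrArg Subtype.val hs
  rw [h2, one_mulVec] at h1
  exact (φ.injective h1).symm

end Two

end Cfsg.Agent.H5.SymSp
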