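import Mathlib
import Cfsg.Agent.H5_SymSp
import Cfsg.Agent.H16_Mat
import Cfsg.Agent.H16_Quad6
import Cfsg.Agent.H16_Std

set_option autoImplicit false
set_option linter.unusedSectionVars false

/-! `O_6^+(2) ≅ S_8` and `O_4^-(2) ≅ S_5`. -/

namespace Cfsg.Agent.H5.SymO

open Matrix Module
open QuadraticMap (polar)
open Cfsg.Agent.H16.Quad hiding map_smul map_add map_sub
open Cfsg.Agent.H5.SymSp (two_zero add_self_zero)

/-- isomorphism criterion -/
theorem perm_iso {F U G : Type*} [Field F] [Finite F] [AddCommGroup U] [Module F U] [Group G] [Finite G] {ι : Type} [Fintype ι]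
    [DecidableEq ι] (Q : (ι → F) → F) (QU : U → F) (Φ : U ≃ₗ[F] (ι → F)) (hΦ : ∀ u, Q (Φ u) = QU u)
    (ρ : G → U →ₗ[F] U) (h1 : ρ 1 = LinearMap.id) (hm : ∀ s t, ρ (s * t) = ρ s ∘ₗ ρ t) (hQ : ∀ s u, QU (ρ s u) = QU u)
    (hinj : ∀ s, ρ s = LinearMap.id → s = 1) (hcard : Nat.card (Cfsg.isometryGroup F Q) = Nat.card G) :
    Nonempty (Cfsg.isometryGroup F Q ≃* G) := by
  let f0 : G →* Matrix ι ι F :=
    { toFun := fun s => LinearMap.toMatrix' (Φ.toLinearMap ∘ₗ ρ s ∘ₗ Φ.symm.toLinearMap)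
      map_one' := by
        rw [h1, LinearMap.id_comp, ← LinearMap.toMatrix'_id]
        congr 1
        apply LinearMap.ext
        intro w
        exact Φ.apply_symm_apply w
      map_mul' := fun s t => by
        rw [hm, ← LinearMap.toMatrix'_comp]
        congr 1
        apply LinearMap.ext
        intro w
        show Φ (ρ s (ρ t (Φ.symm w))) = Φ (ρ s (Φ.symm (Φ (ρ t (Φ.symm w)))))
        rw [LinearEquiv.symm_apply_apply] }
  have hf0 : ∀ s w, f0 s *ᵥ w = Φ (ρ s (Φ.symm w)) := by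
    intro s w
    show LinearMap.toMatrix' (Φ.toLinearMap ∘ₗ ρ s ∘ₗ Φ.symm.toLinearMap) *ᵥ w = _
    rw [← Matrix.toLin'_apply, Matrix.toLin'_toMatrix']
    rfl
  let f : G →* Cfsg.isometryGroup F Q := (f0.toHomUnits).codRestrict _ (fun s => by
    rw [mem_isometryGroup]
    intro v
    show Q (f0 s *ᵥ v) = Q v
    rw [hf0, hΦ, hQ, ← hΦ, LinearEquiv.apply_symm_apply])
  have hfi : Function.Injective f := by
    rw [injective_iff_map_eq_one]
    intro s hs
    apply hinj
    apply LinearMap.ext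
    intro v
    have h2 := hf0 s (Φ v)
    rw [LinearEquiv.symm_apply_apply] at h2
    have h3 : f0 s = 1 := congrArg (fun x : Cfsg.isometryGroup F Q => (x.1 : Matrix ι ι F)) hs
    rw [h3, one_mulVec] at h2
    exact (Φ.injective h2).symm
  have hb : Function.Bijective f := by
    rw [Nat.bijective_iff_injective_and_card]
    exact ⟨hfi, hcard.symm⟩
  exact ⟨(MulEquiv.ofBijective f hb).symm⟩

section QN

variable {F : Type*} [Field F] [CharP F 2] {N : ℕ}

noncomputable def TT (N : ℕ) (F : Type*) [Field F] : LinearMap.BilinForm F (Fin N → F) :=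
  Matrix.toBilin' (Matrix.of fun i j => if i < j then 1 else 0)

theorem TT_apply (x y : Fin N → F) : TT N F x y = ∑ i, ∑ j, if i < j then x i * y j else 0 := by
  rw [TT, Matrix.toBilin'_apply]
  apply Finset.sum_congr rfl
  intro i _
  apply Finset.sum_congr rfl
  intro j _
  rw [Matrix.of_apply]
  split_ifs <;> ring

/-- the second elementary symmetric function -/
noncomputable def QN (N : ℕ) (F : Type*) [Field F] : QuadraticForm F (Fin N → F) := LinearMap.BilinMap.toQuadraticMap (TT N F)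

theorem QN_apply (v : Fin N → F) : QN N F v = ∑ i, ∑ j, if i < j then v i * v j else 0 := TT_apply v v

theorem polar_QN (x y : Fin N → F) : polar (QN N F) x y = (∑ i, x i) * (∑ i, y i) - ∑ i, x i * y i := by
  rw [QN, LinearMap.BilinMap.polar_toQuadraticMap, TT_apply, TT_apply, Finset.sum_comm (γ := Fin N) (f := fun i j => if i < j then y i * x j else 0),
    ← Finset.sum_add_distrib, Finset.sum_mul_sum, ← Finset.sum_sub_distrib]
  apply Finset.sum_congr rfl
  intro i _
  rw [← Finset.sum_add_distrib, eq_sub_iff_add_eq]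
  have : x i * y i = ∑ j, if j = i then x i * y j else 0 := by simp
  rw [this, ← Finset.sum_add_distrib]
  apply Finset.sum_congr rfl
  intro j _
  rcases lt_trichotomy i j with h | h | h
  · rw [if_pos h, if_neg (not_lt.2 h.le), if_neg h.ne']; ring
  · subst h; simp
  · rw [if_neg (not_lt.2 h.le), if_pos h, if_neg h.ne]; ring

theorem QN_single (i : Fin N) (c : F) : QN N F (Pi.single i c) = 0 := by
  rw [QN_apply]
  apply Finset.sum_eq_zero
  intro a _
  apply Finset.sum_eq_zero
  intro b _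
  split_ifs with h
  · by_cases ha : a = i
    · subst ha
      rw [Pi.single_eq_of_ne (h.ne'), mul_zero]
    · rw [Pi.single_eq_of_ne ha, zero_mul]
  · rfl

theorem quad_ext {Q1 Q2 : QuadraticForm F (Fin N → F)} (hp : ∀ x y, polar Q1 x y = polar Q2 x y)
    (hs : ∀ i, Q1 (Pi.single i 1) = Q2 (Pi.single i 1)) (v : Fin N → F) : Q1 v = Q2 v := by
  have hv : v ∈ Submodule.span F (Set.range (fun i : Fin N => (Pi.single i 1 : Fin N → F))) := by
    have := (Pi.basisFun F (Fin N)).span_eq
    have e : Set.range ⇑(Pi.basisFun F (Fin N)) = Set.range (fun i : Fin N => (Pi.single i 1 : Fin N → F)) := by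
      congr 1; ext i j; simp
    rw [← e, this]; trivial
  induction hv using Submodule.span_induction with
  | mem x hx => obtain ⟨i, rfl⟩ := hx; exact hs i
  | zero => simp
  | add x y _ _ hx hy => rw [H16.Quad.map_add, H16.Quad.map_add, hx, hy, hp]
  | smul c x _ hx => rw [H16.Quad.map_smul, H16.Quad.map_smul, hx]

/-- permutation action -/
def pm (s : Equiv.Perm (Fin N)) : (Fin N → F) →ₗ[F] (Fin N → F) where
  toFun v := fun i => v (s⁻¹ i)
  map_add' _ _ := rfl
  map_smul' _ _ := rfl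

theorem pm_apply (s : Equiv.Perm (Fin N)) (v : Fin N → F) (i : Fin N) : pm s v i = v (s⁻¹ i) := rfl

theorem sum_pm (s : Equiv.Perm (Fin N)) (v : Fin N → F) : ∑ i, pm s v i = ∑ i, v i := Equiv.sum_comp s⁻¹ v

theorem pm_single (s : Equiv.Perm (Fin N)) (i : Fin N) (c : F) : pm s (Pi.single i c) = Pi.single (s i) c := by
  ext j
  rw [pm_apply, Pi.single_apply, Pi.single_apply]
  have : s⁻¹ j = i ↔ j = s i := by rw [Equiv.Perm.inv_eq_iff_eq]
  simp only [this]

theorem QN_pm (s : Equiv.Perm (Fin N)) (v : Fin N → F) : QN N F (pm s v) = QN N F v := by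
  have h := quad_ext (Q1 := (QN N F).comp (pm s)) (Q2 := QN N F) (by
    intro x y
    have : polar ((QN N F).comp (pm s)) x y = polar (QN N F) (pm s x) (pm s y) := by
      simp only [polar, QuadraticMap.comp_apply, _root_.map_add]
    rw [this, polar_QN, polar_QN, sum_pm, sum_pm]
    congr 1
    exact Equiv.sum_comp s⁻¹ (fun i => x i * y i)) (by
    intro i
    rw [QuadraticMap.comp_apply, pm_single, QN_single, QN_single]) v
  exact h

theorem cast_zero_of_even {k : ℕ} (h : k % 2 = 0) : (k : F) = 0 := by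
  rw [CharP.cast_eq_zero_iff F 2]
  omega

theorem cast_one_of_odd {k : ℕ} (h : k % 2 = 1) : (k : F) = 1 := by
  obtain ⟨j, rfl⟩ : ∃ j, k = 2 * j + 1 := ⟨k / 2, by omega⟩
  push_cast
  rw [two_zero]; ring

/-- indicator vector -/
def vec (F : Type*) [Field F] (b : Fin N → Bool) : Fin N → F := fun i => if b i then 1 else 0

/-- number of pairs -/
def cnt (b : Fin N → Bool) : ℕ := ∑ i, ∑ j, if i < j ∧ b i ∧ b j then 1 else 0
/-- number of common points -/
def cdt (b c : Fin N → Bool) : ℕ := ∑ i, if b i ∧ c i then 1 else 0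
/-- number of points -/
def cwt (b : Fin N → Bool) : ℕ := ∑ i, if b i then 1 else 0

theorem QN_vec (b : Fin N → Bool) : QN N F (vec F b) = (cnt b : F) := by
  rw [QN_apply, cnt]
  push_cast
  apply Finset.sum_congr rfl
  intro i _
  apply Finset.sum_congr rfl
  intro j _
  simp only [vec]
  by_cases h1 : i < j <;> by_cases h2 : b i <;> by_cases h3 : b j <;> simp [h1, h2, h3]

theorem sum_vec (b : Fin N → Bool) : ∑ i, vec F b i = (cwt b : F) := by
  rw [cwt]; push_cast; rfl

theorem dot_vec (b c : Fin N → Bool) : ∑ i, vec F b i * vec F c i = (cdt b c : F) := by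
  rw [cdt]; push_cast
  apply Finset.sum_congr rfl
  intro i _
  simp only [vec]
  by_cases h2 : b i <;> by_cases h3 : c i <;> simp [h2, h3]

end QN

section Eight

open Cfsg.Agent.H5.SymSp (U0 mem_U0 rho nm rho_apply rho_one rho_mul rho_inj finrank_U0)

variable {F : Type*} [Field F] [CharP F 2]

local notation "U" => U0 1 F

theorem vec_mem {b : Fin 8 → Bool} (h0 : b 0 = false) (h : cwt b % 2 = 0) : vec F b ∈ U0 1 F := by
  refine mem_U0.2 ⟨?_, ?_⟩
  · show (if b 0 = true then (1 : F) else 0) = 0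
    rw [h0]; simp
  · have := sum_vec (F := F) b
    rw [cast_zero_of_even h] at this
    exact this

def EB : Fin 3 → Fin 8 → Bool := ![![false, true, false, true, false, true, false, true],
  ![false, false, true, true, false, false, true, true], ![false, false, false, false, true, true, true, true]]
def FB : Fin 3 → Fin 8 → Bool := ![![false, true, true, false, true, false, true, false],
  ![false, false, true, true, false, true, true, false], ![false, false, true, false, true, true, false, true]]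

/-- the quadratic form on `U` -/
noncomputable def Q8 (F : Type*) [Field F] : QuadraticForm F (U0 1 F) := (QN 8 F).comp (U0 1 F).subtype

theorem Q8_apply (x : U) : Q8 F x = QN 8 F (x : Fin 8 → F) := rfl

theorem polar_Q8 (x y : U) : polar (Q8 F) x y = ∑ i, (x : Fin 8 → F) i * (y : Fin 8 → F) i := by
  have h : polar (Q8 F) x y = polar (QN 8 F) (x : Fin 8 → F) (y : Fin 8 → F) := by
    simp only [polar, Q8_apply, Submodule.coe_add]
  rw [h, polar_QN]
  have h1 : ∑ i, (x : Fin 8 → F) i = 0 := x.2.2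
  rw [h1, zero_mul, zero_sub]
  exact neg_eq_of_add_eq_zero_left (add_self_zero _)

theorem isPlus8 (hF : ∀ a : F, a = 0 ∨ a = 1) : IsPlus (Q8 F) 3 := by
  refine ⟨finrank_U0, fun k => ⟨vec F (EB k), vec_mem (by revert k; decide) (by revert k; decide)⟩,
    fun k => ⟨vec F (FB k), vec_mem (by revert k; decide) (by revert k; decide)⟩, ?_⟩
  refine ⟨?_, ?_, ?_, ?_, ?_⟩
  · intro k
    rw [Q8_apply, QN_vec]
    exact cast_zero_of_even (by revert k; decide)
  · intro k
    rw [Q8_apply, QN_vec]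
    exact cast_zero_of_even (by revert k; decide)
  · intro k l
    rw [polar_Q8, dot_vec]
    split_ifs with h
    · subst h
      exact cast_one_of_odd (by revert k; decide)
    · exact cast_zero_of_even (by revert k l; decide)
  · intro k l
    rw [polar_Q8, dot_vec]
    exact cast_zero_of_even (by revert k l; decide)
  · intro k l
    rw [polar_Q8, dot_vec]
    exact cast_zero_of_even (by revert k l; decide)

theorem one_eq_vec : (fun _ => 1 : Fin 8 → F) = vec F (fun _ => true) := by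
  ext i; simp [vec]

theorem Q8_rho (s : Equiv.Perm (Fin 8)) (x : U) : Q8 F (rho (n := 1) s x) = Q8 F x := by
  have h1 : ((rho (n := 1) s x : U0 1 F) : Fin 8 → F) = pm s (x : Fin 8 → F) + (-(x : Fin 8 → F) (s⁻¹ 0)) • (fun _ => 1 : Fin 8 → F) := by
    ext i
    refine (rho_apply (n := 1) s x i).trans ?_
    show (x : Fin 8 → F) (s⁻¹ i) - (x : Fin 8 → F) (s⁻¹ 0) = (x : Fin 8 → F) (s⁻¹ i) + (-(x : Fin 8 → F) (s⁻¹ 0)) * (1 : F)
    ring
  rw [Q8_apply, Q8_apply, h1, H16.Quad.map_add, H16.Quad.map_smul, QN_pm, one_eq_vec, QN_vec, polar_smul_right, polar_QN, sum_pm]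
  have h2 : ∑ i, (x : Fin 8 → F) i = 0 := x.2.2
  have h3 : ∑ i, pm s (x : Fin 8 → F) i * vec F (fun _ => true) i = 0 := by
    have : ∀ i, pm s (x : Fin 8 → F) i * vec F (fun _ => true) i = pm s (x : Fin 8 → F) i := by intro i; simp [vec]
    simp only [this]
    rw [sum_pm, h2]
  rw [h2, h3, cast_zero_of_even (F := F) (k := cnt (fun _ : Fin 8 => true)) (by decide)]
  ring

end Eight


section EightMain

open Cfsg.Agent.H5.SymSp (U0 mem_U0 rho nm rho_apply rho_one rho_mul rho_inj finrank_U0)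

variable {F : Type*} [Field F] [CharP F 2]

theorem iso8 [Finite F] (hF : ∀ a : F, a = 0 ∨ a = 1)
    (hcard : Nat.card (Cfsg.isometryGroup F (Cfsg.quadFormPlus 3 F)) = Nat.card (Equiv.Perm (Fin 8))) :
    Nonempty (Cfsg.isometryGroup F (Cfsg.quadFormPlus 3 F) ≃* Equiv.Perm (Fin 8)) := by
  obtain ⟨φ, hφ⟩ := (isPlus8 hF).isom (plusQ_isPlus (F := F) 3)
  refine perm_iso (Cfsg.quadFormPlus 3 F) (Q8 F) φ (fun u => ?_) (rho (n := 1)) (rho_one (n := 1)) (fun s t => rho_mul (n := 1) s t) Q8_rho (fun s hs => rho_inj (n := 1) s hs) hcard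
  rw [← coe_plusQ]
  exact hφ u

end EightMain

section Five

variable {F : Type*} [Field F] [CharP F 2]

/-- explicit coordinates -/
def E5 (F : Type*) [Field F] : Submodule F (Fin 5 → F) where
  carrier := {v | ∑ i, v i = 0}
  add_mem' := by
    intro x y h1 h2
    show ∑ i, (x + y) i = 0
    simp only [Pi.add_apply]
    rw [Finset.sum_add_distrib, show ∑ i, x i = 0 from h1, show ∑ i, y i = 0 from h2, add_zero]
  zero_mem' := by simp
  smul_mem' := by
    intro c x h1
    show ∑ i, (c • x) i = 0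
    simp only [Pi.smul_apply, smul_eq_mul]
    rw [← Finset.mul_sum, show ∑ i, x i = 0 from h1, mul_zero]

theorem mem_E5 {v : Fin 5 → F} : v ∈ E5 F ↔ ∑ i, v i = 0 := Iff.rfl

/-- coordinates on `E5` -/
noncomputable def psi5 : E5 F ≃ₗ[F] ((Fin 1 ⊕ Fin 1) ⊕ Fin 2 → F) where
  toFun v := Sum.elim (Sum.elim (fun _ => v.1 1) (fun _ => v.1 0)) ![v.1 2 - v.1 0 - v.1 1, v.1 4 - v.1 0 - v.1 1]
  invFun x := ⟨![x (.inl (.inr 0)), x (.inl (.inl 0)), x (.inl (.inl 0)) + x (.inl (.inr 0)) + x (.inr 0),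
    x (.inl (.inl 0)) + x (.inl (.inr 0)) + x (.inr 0) + x (.inr 1), x (.inl (.inl 0)) + x (.inl (.inr 0)) + x (.inr 1)], by
    rw [mem_E5]
    simp [Fin.sum_univ_five]
    linear_combination (2 * x (.inl (.inl 0)) + 2 * x (.inl (.inr 0)) + x (.inr 0) + x (.inr 1)) * two_zero (F := F)⟩
  map_add' u v := by
    ext ((i | i) | i)
    · rfl
    · rfl
    · fin_cases i <;> simp <;> ring
  map_smul' c v := by
    ext ((i | i) | i)
    · rfl
    · rfl
    · fin_cases i <;> simp <;> ring
  left_inv v := by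
    apply Subtype.ext
    have h : ∑ i, v.1 i = 0 := v.2
    rw [Fin.sum_univ_five] at h
    ext i
    fin_cases i
    · simp
    · simp
    · simp; ring
    · simp
      linear_combination h - (v.1 0 + v.1 1 + v.1 3) * two_zero (F := F)
    · simp; ring
  right_inv x := by
    ext ((i | i) | i)
    · have : i = 0 := Subsingleton.elim _ _
      subst this; rfl
    · have : i = 0 := Subsingleton.elim _ _
      subst this; rfl
    · fin_cases i <;> simp <;> ring

theorem psi5_symm_Q (x : (Fin 1 ⊕ Fin 1) ⊕ Fin 2 → F) : QN 5 F (psi5.symm x).1 = Cfsg.quadFormMinus 1 F 1 1 x := by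
  have h : (psi5.symm x).1 = ![x (.inl (.inr 0)), x (.inl (.inl 0)), x (.inl (.inl 0)) + x (.inl (.inr 0)) + x (.inr 0),
    x (.inl (.inl 0)) + x (.inl (.inr 0)) + x (.inr 0) + x (.inr 1), x (.inl (.inl 0)) + x (.inl (.inr 0)) + x (.inr 1)] := rfl
  rw [QN_apply, Cfsg.quadFormMinus, h]
  rw [Fin.sum_univ_one]
  generalize x (.inl (.inl 0)) = a
  generalize x (.inl (.inr 0)) = b
  generalize x (.inr 0) = c
  generalize x (.inr 1) = d
  simp [Fin.sum_univ_succ]
  linear_combination (3*a^2+6*a*b+3*a*c+3*a*d+3*b^2+3*b*c+3*b*d+c*d) * two_zero (F := F)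

theorem psi5_Q (v : E5 F) : Cfsg.quadFormMinus 1 F 1 1 (psi5 v) = QN 5 F v.1 := by
  rw [← psi5_symm_Q, LinearEquiv.symm_apply_apply]

/-- the action -/
noncomputable def rho5 (s : Equiv.Perm (Fin 5)) : E5 F →ₗ[F] E5 F :=
  LinearMap.codRestrict (E5 F) (pm s ∘ₗ (E5 F).subtype) (fun v => by
    show ∑ i, pm s (v : Fin 5 → F) i = 0
    rw [sum_pm]; exact v.2)

theorem rho5_apply (s : Equiv.Perm (Fin 5)) (v : E5 F) : ((rho5 s v : E5 F) : Fin 5 → F) = pm s (v : Fin 5 → F) := rfl

theorem rho5_inj (s : Equiv.Perm (Fin 5)) (h : rho5 s = (LinearMap.id : E5 F →ₗ[F] E5 F)) : s = 1 := by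
  have h1 : ∀ i j : Fin 5, i ≠ j → s⁻¹ i = i ∨ s⁻¹ i = j := by
    intro i j hij
    have hm : (Pi.single i 1 + Pi.single j 1 : Fin 5 → F) ∈ E5 F := by
      rw [mem_E5]
      simp [Finset.sum_add_distrib, add_self_zero]
    have h2 := congrArg (fun f : E5 F →ₗ[F] E5 F => ((f ⟨_, hm⟩ : E5 F) : Fin 5 → F) i) h
    have h3 : (Pi.single i 1 + Pi.single j 1 : Fin 5 → F) (s⁻¹ i) = (Pi.single i 1 + Pi.single j 1 : Fin 5 → F) i := h2
    by_contra hcon
    push Not at hcon
    rw [Pi.add_apply, Pi.add_apply, Pi.single_eq_of_ne hcon.1, Pi.single_eq_of_ne hcon.2, Pi.single_eq_same,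
      Pi.single_eq_of_ne hij, add_zero, add_zero] at h3
    exact zero_ne_one h3
  have h4 : ∀ i, s⁻¹ i = i := by
    intro i
    obtain ⟨j, k, hij, hik, hjk⟩ : ∃ j k : Fin 5, i ≠ j ∧ i ≠ k ∧ j ≠ k := by revert i; decide
    rcases h1 i j hij with h5 | h5
    · exact h5
    · rcases h1 i k hik with h6 | h6
      · exact h6
      · exact absurd (h5.symm.trans h6) hjk
  have h5 : s⁻¹ = 1 := Equiv.ext h4
  rwa [inv_eq_one] at h5

theorem iso5 [Finite F] (hcard : Nat.card (Cfsg.isometryGroup F (Cfsg.quadFormMinus 1 F 1 1)) = Nat.card (Equiv.Perm (Fin 5))) :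
    Nonempty (Cfsg.isometryGroup F (Cfsg.quadFormMinus 1 F 1 1) ≃* Equiv.Perm (Fin 5)) := by
  refine perm_iso (Cfsg.quadFormMinus 1 F 1 1) (fun u : E5 F => QN 5 F u.1) psi5 psi5_Q rho5 ?_ ?_ ?_ rho5_inj hcard
  · rfl
  · intro s t
    rfl
  · intro s u
    show QN 5 F (rho5 s u).1 = QN 5 F u.1
    rw [rho5_apply, QN_pm]

end Five


end Cfsg.Agent.H5.SymO
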