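import Mathlib

set_option autoImplicit false
set_option linter.dupNamespace false

namespace Cfsg.Agent.H6.CY

theorem CY (Q : Type*) [CommGroup Q] [Finite Q] :
    ∃ (n : ℕ) (x : Fin n → Q) (e : Fin n → ℕ), (∀ i, x i ^ e i = 1) ∧
      Subgroup.closure (Set.range x) = ⊤ ∧ ∏ i, e i = Nat.card Q := by
  classical
  obtain ⟨ι, _, m, hm, ⟨φ⟩⟩ := CommGroup.equiv_prod_multiplicative_zmod_of_finite Q
  let E := Fintype.equivFin ι
  refine ⟨Fintype.card ι, fun i => φ.symm (Pi.mulSingle (E.symm i) (Multiplicative.ofAdd (1 : ZMod (m (E.symm i))))),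
    fun i => m (E.symm i), ?_, ?_, ?_⟩
  · intro i
    have h1 : (Multiplicative.ofAdd (1 : ZMod (m (E.symm i)))) ^ m (E.symm i) = 1 := by
      rw [← ofAdd_nsmul, nsmul_eq_mul, ZMod.natCast_self, zero_mul, ofAdd_zero]
    simp only
    rw [← map_pow, ← Pi.mulSingle_pow, h1, Pi.mulSingle_one, map_one]
  · rw [eq_top_iff]
    intro q _
    have h1 : q = φ.symm (φ q) := (φ.symm_apply_apply q).symm
    have h2 : φ q = ∏ j, Pi.mulSingle j (φ q j) := (Finset.univ_prod_mulSingle (φ q)).symm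
    rw [h1, h2, map_prod]
    refine Subgroup.prod_mem _ (fun j _ => ?_)
    have : NeZero (m j) := ⟨by have := hm j; omega⟩
    have h3 : φ q j = (Multiplicative.ofAdd (1 : ZMod (m j))) ^ (Multiplicative.toAdd (φ q j)).val := by
      rw [← ofAdd_nsmul, nsmul_eq_mul, mul_one, ZMod.natCast_zmod_val, ofAdd_toAdd]
    rw [h3, Pi.mulSingle_pow, map_pow]
    apply Subgroup.pow_mem
    apply Subgroup.subset_closure
    refine Set.mem_range.2 ⟨E j, ?_⟩
    rw [E.symm_apply_apply]
  · rw [Nat.card_congr φ.toEquiv, Nat.card_pi]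
    rw [Equiv.prod_comp E.symm (fun j => m j)]
    refine Finset.prod_congr rfl (fun j _ => ?_)
    rw [Nat.card_congr Multiplicative.toAdd, Nat.card_zmod]

end Cfsg.Agent.H6.CY
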