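import Cfsg.Agent.H6_ChevRk1
import Cfsg.Prelude.Def_Steinberg

/-!
Steinberg's presentation.
-/

set_option autoImplicit false
set_option linter.unusedSectionVars false

namespace Cfsg.Agent.H6.Chev

open Cfsg Cfsg.Lie Cfsg.Lie.ChevalleyDatum

namespace Model

variable {D : ChevalleyDatum} {F : Type*} [Field F]

/-- decomposition of `±p_i` as part of a commutator of roots different from `±p_i` -/
def Dec (m : Model D) : Prop := ∀ i < D.rank, ∀ p : ℕ, p = D.simple i ∨ p = D.neg (D.simple i) →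
  ∃ α < D.nroots, ∃ β < D.nroots, β ≠ α ∧ β ≠ D.neg α ∧ (α ≠ D.simple i ∧ α ≠ D.neg (D.simple i)) ∧
    (β ≠ D.simple i ∧ β ≠ D.neg (D.simple i)) ∧
    ∃ l₁ l₂ : List (ℕ × ℤ × ℕ × ℕ), ∃ (C : ℤ) (a b : ℕ), D.commTerms α β = l₁ ++ (p, C, a, b) :: l₂ ∧
      (C = 1 ∨ C = -1) ∧ (a = 1 ∨ b = 1) ∧ ∀ e ∈ l₁ ++ l₂, e.1 ≠ D.simple i ∧ e.1 ≠ D.neg (D.simple i)

variable (m : Model D)

include m

theorem exists_other {i : ℕ} (hi : i < D.rank) {s : ℕ} (hs : s < D.nroots) (hsN : m.N ≤ s)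
    (hne : s ≠ D.simple i) : ∃ j < D.rank, j ≠ i ∧ 0 < m.coef s j := by
  by_contra hc
  push Not at hc
  have h1 : ∀ j < D.rank, j ≠ i → m.coef s j = 0 := fun j hj hji =>
    le_antisymm (hc j hj hji) (m.coef_nonneg s hsN hs j hj)
  have h2 := m.refl_pos i hi s hsN hs hne
  have h3 := m.refl_lt i hi s hs
  have h4 := m.coef_refl i hi s hs i hi
  rw [if_pos rfl, m.cartan_lin i hi s hs, Finset.sum_eq_single i
    (fun j hj hji => by rw [h1 j (Finset.mem_range.1 hj) hji, zero_mul])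
    (fun h => absurd (Finset.mem_range.2 hi) h), m.cartan_self i hi] at h4
  have h5 := m.coef_nonneg _ h2 h3 i hi
  have h6 := m.coef_nonneg s hsN hs i hi
  have h7 : m.coef s i = 0 := by linarith
  have h8 : m.lam s = 0 := by
    unfold lam
    apply Finset.sum_eq_zero
    intro j hj
    by_cases hji : j = i
    · rw [hji, h7, zero_mul]
    · rw [h1 j (Finset.mem_range.1 hj) hji, zero_mul]
  have := m.lam_pos hs hsN
  omega

theorem pos_of_coef {s j : ℕ} (hs : s < D.nroots) (hj : j < D.rank) (h : 0 < m.coef s j) : m.N ≤ s := by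
  by_contra hc
  rw [not_le] at hc
  have h1 : m.N ≤ D.neg s := by
    rw [m.neg_eq s hs]; have := m.nroots_eq; omega
  have h2 := m.coef_nonneg _ h1 (m.neg_lt hs) j hj
  rw [m.coef_neg s hs j hj] at h2
  omega

theorem neg_of_coef {s j : ℕ} (hs : s < D.nroots) (hj : j < D.rank) (h : m.coef s j < 0) : s < m.N := by
  by_contra hc
  rw [not_lt] at hc
  have h2 := m.coef_nonneg _ hc hs j hj
  omega

theorem exists_other' {i : ℕ} (hi : i < D.rank) {s : ℕ} (hs : s < D.nroots) (hsN : s < m.N)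
    (hne : s ≠ D.neg (D.simple i)) : ∃ j < D.rank, j ≠ i ∧ m.coef s j < 0 := by
  have h1 : m.N ≤ D.neg s := by
    rw [m.neg_eq s hs]; have := m.nroots_eq; omega
  obtain ⟨j, hj, hji, h⟩ := m.exists_other hi (m.neg_lt hs) h1 (fun h => hne (by rw [← h, m.neg_neg hs]))
  rw [m.coef_neg s hs j hj] at h
  exact ⟨j, hj, hji, by omega⟩

/-- `ε = 1`: positive roots other than `p_i`; `ε = -1`: negative roots other than `-p_i` -/
def Ri (i : ℕ) (ε : ℤ) (s : ℕ) : Prop := ∃ j < D.rank, j ≠ i ∧ 0 < ε * m.coef s j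

theorem Ri_comm {i : ℕ} (hi : i < D.rank) {ε : ℤ} {k s : ℕ} (hk : k = D.simple i ∨ k = D.neg (D.simple i))
    (hs : s < D.nroots) (hR : m.Ri i ε s) : s ≠ k ∧ s ≠ D.neg k ∧ k < D.nroots ∧
      ∀ c ∈ D.commTerms k s, c.1 < D.nroots ∧ m.Ri i ε c.1 := by
  obtain ⟨j, hj, hji, h⟩ := hR
  have hp := m.simple_lt i hi
  have hk' : k < D.nroots := by
    rcases hk with rfl | rfl
    · exact hp
    · exact m.neg_lt hp
  have hcoef : m.coef k j = 0 := by
    rcases hk with rfl | rfl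
    · rw [m.coef_simple i hi j hj, if_neg (Ne.symm hji)]
    · rw [m.coef_neg _ hp j hj, m.coef_simple i hi j hj, if_neg (Ne.symm hji)]; rfl
  have h1 : s ≠ k := by rintro rfl; rw [hcoef] at h; simp at h
  have h2 : s ≠ D.neg k := by
    rintro rfl
    rw [m.coef_neg k hk' j hj, hcoef] at h
    simp at h
  refine ⟨h1, h2, hk', fun c hc => ?_⟩
  have h3 := m.comm_lt k hk' s hs h1 h2 c hc
  refine ⟨h3.1, j, hj, hji, ?_⟩
  rw [h3.2.2.2 j hj, hcoef, mul_zero, zero_add, mul_left_comm]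
  exact mul_pos (by exact_mod_cast h3.2.2.1) h

end Model

/-- a system of root elements satisfying Steinberg's relations, mapped to the Chevalley group -/
structure Sys {D : ChevalleyDatum} (m : Model D) (F : Type*) [Field F] (Γ : Type*) [Group Γ] where
  x : ℕ → F → Γ
  x_add : ∀ (r : ℕ) (t u : F), x r (t + u) = x r t * x r u
  x_comm : ∀ {r s : ℕ}, r < D.nroots → s < D.nroots → s ≠ r → s ≠ D.neg r → ∀ t u : F,
    x s u * x r t = x r t * x s u * ((D.commWord F r s t u).map fun p => x p.1 p.2).prod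
  h_mul' : ∀ {r : ℕ}, r < D.nroots → ∀ s t : F, s ≠ 0 → t ≠ 0 →
    (x r s * x (D.neg r) (-s⁻¹) * x r s * (x r (-1) * x (D.neg r) (-(-1)⁻¹) * x r (-1))) *
    (x r t * x (D.neg r) (-t⁻¹) * x r t * (x r (-1) * x (D.neg r) (-(-1)⁻¹) * x r (-1))) =
    x r (s * t) * x (D.neg r) (-(s * t)⁻¹) * x r (s * t) * (x r (-1) * x (D.neg r) (-(-1)⁻¹) * x r (-1))
  θ : Γ →* GL D.Idx F
  θ_x : ∀ (r : ℕ) (t : F), θ (x r t) = m.X r t

namespace Sys

variable {D : ChevalleyDatum} {m : Model D} {F : Type*} [Field F] {Γ : Type*} [Group Γ] (S : Sys m F Γ)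

theorem x_zero (r : ℕ) : S.x r 0 = 1 := by
  have := S.x_add r 0 0
  rw [add_zero] at this
  exact left_eq_mul.1 this

theorem x_neg (r : ℕ) (t : F) : S.x r (-t) = (S.x r t)⁻¹ := by
  rw [eq_inv_iff_mul_eq_one, ← S.x_add, neg_add_cancel, x_zero]

/-- words -/
def wd (w : List (ℕ × F)) : Γ := (w.map fun p => S.x p.1 p.2).prod

@[simp] theorem wd_nil : S.wd [] = 1 := rfl
@[simp] theorem wd_cons (p : ℕ × F) (w : List (ℕ × F)) : S.wd (p :: w) = S.x p.1 p.2 * S.wd w := by simp [wd]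
@[simp] theorem wd_append (w w' : List (ℕ × F)) : S.wd (w ++ w') = S.wd w * S.wd w' := by simp [wd]

theorem θ_wd (w : List (ℕ × F)) : S.θ (S.wd w) = m.word w := by
  induction w with
  | nil => simp
  | cons a w ih => rw [wd_cons, map_mul, ih, S.θ_x, Model.word_cons]

/-- subgroup generated by root subgroups -/
def G (R : ℕ → Prop) : Subgroup Γ := Subgroup.closure {g | ∃ (r : ℕ) (t : F), r < D.nroots ∧ R r ∧ g = S.x r t}

theorem x_mem {R : ℕ → Prop} {r : ℕ} (hr : r < D.nroots) (h : R r) (t : F) : S.x r t ∈ S.G R :=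
  Subgroup.subset_closure ⟨r, t, hr, h, rfl⟩

theorem G_induction {R : ℕ → Prop} {p : Γ → Prop} (h1 : p 1)
    (hx : ∀ r < D.nroots, R r → ∀ u : F, ∀ g ∈ S.G R, p g → p (S.x r u * g)) {g : Γ} (hg : g ∈ S.G R) : p g := by
  refine Subgroup.closure_induction_left (p := fun g _ => p g) h1 ?_ ?_ hg
  · rintro _ ⟨r, t, hr, hR, rfl⟩ y hy ih
    exact hx r hr hR t y hy ih
  · rintro _ ⟨r, t, hr, hR, rfl⟩ y hy ih
    rw [← S.x_neg]
    exact hx r hr hR _ y hy ih

theorem G_le {R : ℕ → Prop} {K : Subgroup Γ} (h : ∀ r < D.nroots, R r → ∀ t : F, S.x r t ∈ K) : S.G R ≤ K := by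
  unfold G
  rw [Subgroup.closure_le]
  rintro _ ⟨r, t, hr, hR, rfl⟩
  exact h r hr hR t

theorem G_mono {R R' : ℕ → Prop} (h : ∀ r < D.nroots, R r → R' r) : S.G R ≤ S.G R' :=
  S.G_le fun r hr hR t => S.x_mem hr (h r hr hR) t

theorem wd_mem {R : ℕ → Prop} {w : List (ℕ × F)} (h : ∀ p ∈ w, p.1 < D.nroots ∧ R p.1) : S.wd w ∈ S.G R := by
  induction w with
  | nil => exact one_mem _
  | cons a w ih =>
    rw [wd_cons]
    have := h a List.mem_cons_self
    exact mul_mem (S.x_mem this.1 this.2 _) (ih fun p hp => h p (List.mem_cons_of_mem _ hp))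

theorem θ_mem {R : ℕ → Prop} {g : Γ} (hg : g ∈ S.G R) : S.θ g ∈ m.gen F R := by
  refine S.G_induction (p := fun g => S.θ g ∈ m.gen F R) ?_ ?_ hg
  · rw [map_one]; exact one_mem _
  · intro r hr hR u g _ ih
    rw [map_mul, S.θ_x]
    exact mul_mem (m.X_mem_gen (R := R) hR u) ih

theorem x_comm' {r s : ℕ} (hr : r < D.nroots) (hs : s < D.nroots) (hsr : s ≠ r) (hsn : s ≠ D.neg r) (t u : F) :
    S.x s u * S.x r t = S.x r t * S.x s u * S.wd (D.commWord F r s t u) := S.x_comm hr hs hsr hsn t u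

/-- conjugation of a generated subgroup by a root element -/
theorem conj_G {R : ℕ → Prop} {k : ℕ} (hk : k < D.nroots) (h : ∀ s < D.nroots, R s → s ≠ D.neg k ∧
    (s ≠ k → ∀ c ∈ D.commTerms k s, c.1 < D.nroots ∧ R c.1)) (t : F) {g : Γ} (hg : g ∈ S.G R) :
    (S.x k t)⁻¹ * g * S.x k t ∈ S.G R := by
  refine S.G_induction (p := fun g => (S.x k t)⁻¹ * g * S.x k t ∈ S.G R) ?_ ?_ hg
  · simp
  · intro s hs hRs u g _ ih
    obtain ⟨h1, h2⟩ := h s hs hRs
    have e : (S.x k t)⁻¹ * (S.x s u * g) * S.x k t =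
        ((S.x k t)⁻¹ * S.x s u * S.x k t) * ((S.x k t)⁻¹ * g * S.x k t) := by group
    rw [e]
    refine mul_mem ?_ ih
    by_cases hsk : s = k
    · subst hsk
      rw [mul_assoc, ← S.x_add, add_comm, S.x_add, inv_mul_cancel_left]
      exact S.x_mem hs hRs u
    · rw [mul_assoc, S.x_comm' hk hs hsk h1, mul_assoc, inv_mul_cancel_left]
      refine mul_mem (S.x_mem hs hRs u) (S.wd_mem ?_)
      intro p hp
      unfold ChevalleyDatum.commWord at hp
      rw [List.mem_map] at hp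
      obtain ⟨c, hc, rfl⟩ := hp
      exact h2 hsk c hc

/-! ### Injectivity on unipotent subgroups -/

theorem shift {w : Equiv.Perm (Fin D.nroots)} (hw : w ∈ m.Wg) {r s : Fin D.nroots} (hr : m.N ≤ r)
    (hs : m.N ≤ s) (hrs : r ≠ s) {c : ℕ × ℤ × ℕ × ℕ} (hc : c ∈ D.commTerms (w r) (w s)) :
    ∃ c' : Fin D.nroots, c.1 = w c' ∧ r < c' ∧ s < c' := by
  have h1 : ((w s : Fin D.nroots) : ℕ) ≠ (w r : Fin D.nroots) := fun h => hrs (w.injective (Fin.ext h)).symm
  have h2 : ((w s : Fin D.nroots) : ℕ) ≠ D.neg (w r : Fin D.nroots) := by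
    intro h
    rw [← m.coe_ng, ← (m.isW hw).neg] at h
    have h3 := w.injective (Fin.ext h)
    have h4 := (m.ng_lt_iff r).2 hr
    rw [← h3] at h4
    omega
  have h3 := m.comm_lt _ (w r).2 _ (w s).2 h1 h2 c hc
  refine ⟨w⁻¹ ⟨c.1, h3.1⟩, ?_, ?_⟩
  · rw [← Equiv.Perm.mul_apply, mul_inv_cancel, Equiv.Perm.one_apply]
  · have hwi := m.isW (inv_mem hw)
    have key : m.lam (w⁻¹ ⟨c.1, h3.1⟩ : Fin D.nroots) = c.2.2.1 * m.lam r + c.2.2.2 * m.lam s := by
      have e := m.comm_lam (w r).2 (w s).2 h1 h2 hc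
        (fun k => if h : k < D.rank then m.evr m.wt (w⁻¹ (m.p ⟨k, h⟩) : Fin D.nroots) else 0)
      rw [m.lam_eq_evr, hwi.evr, e, ← hwi.evr, ← hwi.evr, ← Equiv.Perm.mul_apply, inv_mul_cancel,
        Equiv.Perm.one_apply, ← Equiv.Perm.mul_apply, inv_mul_cancel, Equiv.Perm.one_apply,
        m.lam_eq_evr, m.lam_eq_evr]
    have h5 : (1 : ℤ) ≤ (c.2.2.1 : ℤ) := by exact_mod_cast h3.2.1
    have h6 : (1 : ℤ) ≤ (c.2.2.2 : ℤ) := by exact_mod_cast h3.2.2.1
    have h7 := m.lam_pos r.2 hr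
    have h8 := m.lam_pos s.2 hs
    constructor
    · rw [Fin.lt_def, ← m.lam_lt_iff r.2 (Fin.is_lt _), key]; nlinarith
    · rw [Fin.lt_def, ← m.lam_lt_iff s.2 (Fin.is_lt _), key]; nlinarith

/-- images of roots of index at least `k` -/
def Rw (w : Equiv.Perm (Fin D.nroots)) (k : ℕ) (s : ℕ) : Prop := ∃ r : Fin D.nroots, k ≤ r ∧ s = (w r : Fin D.nroots)

theorem exists_mul {w : Equiv.Perm (Fin D.nroots)} (hw : w ∈ m.Wg) {k : Fin D.nroots} (hk : m.N ≤ k) {g : Γ}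
    (hg : g ∈ S.G (Rw w k)) : ∃ t : F, ∃ g' ∈ S.G (Rw w (k + 1)), g = S.x (w k : Fin D.nroots) t * g' := by
  refine S.G_induction (p := fun g => ∃ t : F, ∃ g' ∈ S.G (Rw w (k + 1)), g = S.x (w k : Fin D.nroots) t * g')
    ?_ ?_ hg
  · exact ⟨0, 1, one_mem _, by rw [S.x_zero, one_mul]⟩
  · rintro _ hr ⟨s, hs, rfl⟩ u g _ ⟨t, g', hg', rfl⟩
    by_cases hsk : s = k
    · subst hsk
      exact ⟨u + t, g', hg', by rw [S.x_add, mul_assoc]⟩
    · have hks : k < s := lt_of_le_of_ne hs (fun h => hsk h.symm)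
      have h1 : (S.x (w k : Fin D.nroots) t)⁻¹ * S.x (w s : Fin D.nroots) u * S.x (w k : Fin D.nroots) t ∈
          S.G (Rw w (k + 1)) := by
        apply S.conj_G (w k).2
        · rintro _ _ ⟨a, ha, rfl⟩
          constructor
          · intro h
            rw [← m.coe_ng, ← (m.isW hw).neg] at h
            have h3 := w.injective (Fin.ext h)
            have h4 := (m.ng_lt_iff k).2 hk
            rw [← h3] at h4
            omega
          · intro hne c hc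
            obtain ⟨c', hc', hkc, hac⟩ := shift hw hk (by omega) (fun h => hne (by rw [h])) hc
            rw [hc']
            exact ⟨(w c').2, c', by omega, rfl⟩
        · exact S.x_mem (w s).2 ⟨s, by omega, rfl⟩ u
      refine ⟨t, (S.x (w k : Fin D.nroots) t)⁻¹ * S.x (w s : Fin D.nroots) u * S.x (w k : Fin D.nroots) t * g',
        mul_mem h1 hg', ?_⟩
      group

theorem inj_aux {w : Equiv.Perm (Fin D.nroots)} (hw : w ∈ m.Wg) : ∀ (d k : ℕ), m.N ≤ k → D.nroots ≤ k + d →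
    ∀ g ∈ S.G (Rw w k), S.θ g = 1 → g = 1 := by
  intro d
  induction d with
  | zero =>
    intro k hkN hk g hg _
    have : S.G (Rw w k) ≤ ⊥ := S.G_le fun r hr hR t => by
      obtain ⟨s, hs, -⟩ := hR
      have := s.2
      omega
    exact this hg
  | succ d ih =>
    intro k hkN hk g hg h1
    by_cases hkn : k < D.nroots
    · obtain ⟨t, g', hg', rfl⟩ := S.exists_mul hw (k := ⟨k, hkn⟩) hkN hg
      have ht : t = 0 := by
        rw [map_mul, S.θ_x] at h1
        obtain ⟨l, hl⟩ := m.exists_wl (inv_mem hw)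
        have hact := m.acts_nl (F := F) l
        rw [hl] at hact
        have h2 := S.θ_mem hg'
        have h3 := m.map_gen_acts hact (R := Rw w (k + 1)) (R' := fun s => k + 1 ≤ s) (by
          rintro r ⟨s, hs, he⟩
          have : r = w s := Fin.ext he
          rw [this, ← Equiv.Perm.mul_apply, inv_mul_cancel, Equiv.Perm.one_apply]
          exact hs) ⟨_, h2, rfl⟩
        change m.nl F l * S.θ g' * (m.nl F l)⁻¹ ∈ _ at h3
        obtain ⟨c, hact⟩ := hact
        have h4 := hact.X (w ⟨k, hkn⟩) t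
        rw [← Equiv.Perm.mul_apply w⁻¹, inv_mul_cancel, Equiv.Perm.one_apply] at h4
        have h5 : S.θ g' = (m.X (w ⟨k, hkn⟩ : Fin D.nroots) t)⁻¹ := by
          rw [eq_inv_iff_mul_eq_one]
          exact mul_eq_one_comm.1 h1
        have h6 : (m.nl F l * S.θ g' * (m.nl F l)⁻¹)⁻¹ =
            m.X k (((c (w ⟨k, hkn⟩) : Fˣ) : F) * t) := by
          have h7 : m.X (F := F) ((⟨k, hkn⟩ : Fin D.nroots) : ℕ) (((c (w ⟨k, hkn⟩) : Fˣ) : F) * t) =
            m.nl F l * m.X (w ⟨k, hkn⟩ : Fin D.nroots) t * (m.nl F l)⁻¹ := by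
            rw [h4]; group
          change _ = m.X ((⟨k, hkn⟩ : Fin D.nroots) : ℕ) _
          rw [h7, h5]
          group
        have h7 := inv_mem h3
        rw [h6, ← m.UL_range (by omega)] at h7
        have hgood := m.good_range (k := k) hkN (by omega)
        have e1 : D.nroots - k = (D.nroots - (k + 1)) + 1 := by omega
        rw [e1, List.range'_succ] at hgood
        have h8 := hgood.eq_zero h7
        exact (mul_eq_zero.1 h8).resolve_left (Units.ne_zero _)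
      subst ht
      rw [S.x_zero, one_mul] at h1 ⊢
      exact ih (k + 1) (by omega) (by omega) g' hg' h1
    · have : S.G (Rw w k) ≤ ⊥ := S.G_le fun r hr hR t => by
        obtain ⟨s, hs, -⟩ := hR
        have := s.2
        omega
      exact this hg

theorem inj {w : Equiv.Perm (Fin D.nroots)} (hw : w ∈ m.Wg) {g g' : Γ} (hg : g ∈ S.G (Rw w m.N))
    (hg' : g' ∈ S.G (Rw w m.N)) (h : S.θ g = S.θ g') : g = g' := by
  have := S.inj_aux hw D.nroots m.N le_rfl (by omega) (g * g'⁻¹) (mul_mem hg (inv_mem hg'))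
    (by rw [map_mul, map_inv, h, mul_inv_cancel])
  exact mul_inv_eq_one.1 this

theorem inj_pos {g g' : Γ} (hg : g ∈ S.G (fun r => m.N ≤ r)) (hg' : g' ∈ S.G (fun r => m.N ≤ r))
    (h : S.θ g = S.θ g') : g = g' := by
  have hle : S.G (fun r => m.N ≤ r) ≤ S.G (Rw (1 : Equiv.Perm (Fin D.nroots)) m.N) :=
    S.G_mono fun r hr hR => ⟨⟨r, hr⟩, hR, rfl⟩
  exact S.inj (one_mem _) (hle hg) (hle hg') h

theorem inj_neg {g g' : Γ} (hg : g ∈ S.G (fun r => r < m.N)) (hg' : g' ∈ S.G (fun r => r < m.N))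
    (h : S.θ g = S.θ g') : g = g' := by
  obtain ⟨w, hw, hneg⟩ := m.exists_longest
  have hle : S.G (fun r => r < m.N) ≤ S.G (Rw w m.N) := by
    apply S.G_mono
    intro r hr hR
    refine ⟨w⁻¹ ⟨r, hr⟩, ?_, by rw [← Equiv.Perm.mul_apply, mul_inv_cancel, Equiv.Perm.one_apply]⟩
    by_contra hc
    rw [not_le] at hc
    have h1 := hneg (m.ng (w⁻¹ ⟨r, hr⟩)) ((m.ng_ge_iff _).2 hc)
    rw [(m.isW hw).neg, ← Equiv.Perm.mul_apply, mul_inv_cancel, Equiv.Perm.one_apply, m.ng_lt_iff] at h1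
    change m.N ≤ r at h1
    omega
  exact S.inj hw (hle hg) (hle hg') h

/-! ### The elements `n̄_i(t)`, `h̄_i(t)` -/

/-- `n̄_r(t)` -/
def nb (r : ℕ) (t : F) : Γ := S.x r t * S.x (D.neg r) (-t⁻¹) * S.x r t
/-- `h̄_r(t)` -/
def hb (r : ℕ) (t : F) : Γ := S.nb r t * S.nb r (-1)

theorem θ_nb (r : ℕ) (t : F) : S.θ (S.nb r t) = m.nn r t := by
  unfold nb Model.nn
  simp only [map_mul, S.θ_x]

theorem θ_hb (r : ℕ) (t : F) : S.θ (S.hb r t) = m.hh r t := by
  unfold hb Model.hh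
  rw [map_mul, θ_nb, θ_nb]

theorem nb_neg (r : ℕ) (t : F) : S.nb r (-t) = (S.nb r t)⁻¹ := by
  rw [nb, nb, mul_inv_rev, mul_inv_rev, ← x_neg, ← x_neg, ← mul_assoc, inv_neg]

theorem h_mul {r : ℕ} (hr : r < D.nroots) {s t : F} (hs : s ≠ 0) (ht : t ≠ 0) :
    S.hb r s * S.hb r t = S.hb r (s * t) := S.h_mul' hr s t hs ht

theorem nb_eq (r : ℕ) (t : F) : S.nb r t = S.hb r t * S.nb r 1 := by
  rw [hb, S.nb_neg r 1]; group

theorem hb_one (r : ℕ) : S.hb r 1 = 1 := by rw [hb, nb_neg, mul_inv_cancel]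

theorem hb_inv {r : ℕ} (hr : r < D.nroots) {t : F} (ht : t ≠ 0) : (S.hb r t)⁻¹ = S.hb r t⁻¹ := by
  rw [inv_eq_iff_mul_eq_one, S.h_mul hr ht (inv_ne_zero ht), mul_inv_cancel₀ ht, hb_one]

/-- lifting of conjugation formulas -/
theorem lift {i : ℕ} (hi : i < D.rank) {ε : ℤ} (hε : ε = 1 ∨ ε = -1) {g : Γ}
    (hg : ∀ y ∈ S.G (m.Ri i ε), g * y * g⁻¹ ∈ S.G (m.Ri i ε)) {s s' : ℕ} (hs : s < D.nroots)
    (hs' : s' < D.nroots) (hR : m.Ri i ε s) (hR' : m.Ri i ε s') {u v : F}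
    (h : S.θ g * m.X s u = m.X s' v * S.θ g) : g * S.x s u = S.x s' v * g := by
  rw [← mul_inv_eq_iff_eq_mul]
  have h1 := hg _ (S.x_mem hs hR u)
  have h2 := S.x_mem (R := m.Ri i ε) hs' hR' v
  have h3 : S.θ (g * S.x s u * g⁻¹) = S.θ (S.x s' v) := by
    rw [map_mul, map_mul, map_inv, S.θ_x, S.θ_x, h]; group
  rcases hε with rfl | rfl
  · have hle : S.G (m.Ri i 1) ≤ S.G (fun r => m.N ≤ r) := by
      apply S.G_mono
      rintro r hr ⟨j, hj, _, h⟩
      rw [one_mul] at h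
      exact m.pos_of_coef hr hj h
    exact S.inj_pos (hle h1) (hle h2) h3
  · have hle : S.G (m.Ri i (-1)) ≤ S.G (fun r => r < m.N) := by
      apply S.G_mono
      rintro r hr ⟨j, hj, _, h⟩
      exact m.neg_of_coef hr hj (by linarith)
    exact S.inj_neg (hle h1) (hle h2) h3

theorem x_conj_Ri {i : ℕ} (hi : i < D.rank) (ε : ℤ) {k : ℕ}
    (hk : k = D.simple i ∨ k = D.neg (D.simple i)) (t : F) {y : Γ} (hy : y ∈ S.G (m.Ri i ε)) :
    S.x k t * y * (S.x k t)⁻¹ ∈ S.G (m.Ri i ε) := by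
  have hk' : k < D.nroots := by
    rcases hk with rfl | rfl
    · exact m.simple_lt i hi
    · exact m.neg_lt (m.simple_lt i hi)
  have := S.conj_G (R := m.Ri i ε) hk' (fun s hs hR => by
    obtain ⟨h1, h2, h3, h4⟩ := m.Ri_comm hi hk hs hR
    exact ⟨h2, fun _ => h4⟩) (-t) hy
  rwa [S.x_neg, inv_inv] at this

theorem nb_conj_Ri {i : ℕ} (hi : i < D.rank) (ε : ℤ) (t : F) {y : Γ} (hy : y ∈ S.G (m.Ri i ε)) :
    S.nb (D.simple i) t * y * (S.nb (D.simple i) t)⁻¹ ∈ S.G (m.Ri i ε) := by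
  have h1 := S.x_conj_Ri hi ε (Or.inl rfl) t hy
  have h2 := S.x_conj_Ri hi ε (Or.inr rfl) (-t⁻¹) h1
  have h3 := S.x_conj_Ri hi ε (Or.inl rfl) t h2
  unfold nb
  convert h3 using 1
  group

theorem hb_conj_Ri {i : ℕ} (hi : i < D.rank) (ε : ℤ) (t : F) {y : Γ} (hy : y ∈ S.G (m.Ri i ε)) :
    S.hb (D.simple i) t * y * (S.hb (D.simple i) t)⁻¹ ∈ S.G (m.Ri i ε) := by
  have h3 := S.nb_conj_Ri hi ε t (S.nb_conj_Ri hi ε (-1) hy)
  unfold hb
  convert h3 using 1
  group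

theorem Ri_cases {i : ℕ} (hi : i < D.rank) {s : ℕ} (hs : s < D.nroots) (h1 : s ≠ D.simple i)
    (h2 : s ≠ D.neg (D.simple i)) : ∃ ε : ℤ, (ε = 1 ∨ ε = -1) ∧ m.Ri i ε s := by
  rcases Nat.lt_or_ge s m.N with h | h
  · obtain ⟨j, hj, hji, h3⟩ := m.exists_other' hi hs h h2
    exact ⟨-1, Or.inr rfl, j, hj, hji, by linarith⟩
  · obtain ⟨j, hj, hji, h3⟩ := m.exists_other hi hs h h1
    exact ⟨1, Or.inl rfl, j, hj, hji, by linarith⟩

theorem Ri_refl {i : ℕ} (hi : i < D.rank) {ε : ℤ} {s : ℕ} (hs : s < D.nroots) (h : m.Ri i ε s) :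
    m.Ri i ε (D.reflectRoot i s) := by
  obtain ⟨j, hj, hji, h⟩ := h
  refine ⟨j, hj, hji, ?_⟩
  rw [m.coef_refl i hi s hs j hj, if_neg (Ne.symm hji), sub_zero]
  exact h

/-- the formal transport argument -/
theorem transport {g : Γ} {w : ℕ → ℕ} {c : ℕ → F} {α β p : ℕ} (hα : α < D.nroots) (hβ : β < D.nroots)
    (hβα : β ≠ α) (hβn : β ≠ D.neg α) (hwα : w α < D.nroots) (hwβ : w β < D.nroots)
    (hwβα : w β ≠ w α) (hwβn : w β ≠ D.neg (w α))
    {l₁ l₂ : List (ℕ × ℤ × ℕ × ℕ)} {C : ℤ} {a b : ℕ} (he : D.commTerms α β = l₁ ++ (p, C, a, b) :: l₂)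
    (hC : C = 1 ∨ C = -1) (hab : a = 1 ∨ b = 1)
    (h1 : ∀ t, g * S.x α t = S.x (w α) (c α * t) * g) (h2 : ∀ t, g * S.x β t = S.x (w β) (c β * t) * g)
    (hrel : ∀ t u, D.commWord F (w α) (w β) (c α * t) (c β * u) =
      (D.commWord F α β t u).map fun q => (w q.1, c q.1 * q.2))
    (h3 : ∀ e ∈ l₁ ++ l₂, ∀ v, g * S.x e.1 v = S.x (w e.1) (c e.1 * v) * g) (v : F) :
    g * S.x p v = S.x (w p) (c p * v) * g := by
  -- the action on words
  have hwd : ∀ l : List (ℕ × F), (∀ q ∈ l, ∀ v, g * S.x q.1 v = S.x (w q.1) (c q.1 * v) * g) →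
      g * S.wd l = S.wd (l.map fun q => (w q.1, c q.1 * q.2)) * g := by
    intro l
    induction l with
    | nil => intro _; simp
    | cons q l ih =>
      intro h
      rw [wd_cons, List.map_cons, wd_cons, ← mul_assoc, h q List.mem_cons_self, mul_assoc,
        ih fun q' hq' => h q' (List.mem_cons_of_mem _ hq'), mul_assoc]
  -- all values are attained
  have hval : ∃ t u : F, (C : F) * (-t) ^ a * u ^ b = v := by
    have hC2 : (C : F) * (C : F) = 1 := by rcases hC with rfl | rfl <;> simp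
    rcases hab with rfl | rfl
    · exact ⟨-((C : F) * v), 1, by rw [_root_.neg_neg, pow_one, one_pow, mul_one, ← mul_assoc, hC2, one_mul]⟩
    · exact ⟨-1, (C : F) * v, by rw [_root_.neg_neg, one_pow, mul_one, pow_one, ← mul_assoc, hC2, one_mul]⟩
  obtain ⟨t, u, hv⟩ := hval
  let f : ℕ × ℤ × ℕ × ℕ → ℕ × F := fun c => (c.1, (c.2.1 : F) * (-t) ^ c.2.2.1 * u ^ c.2.2.2)
  have hcw : D.commWord F α β t u = l₁.map f ++ (p, v) :: l₂.map f := by
    have : D.commWord F α β t u = (D.commTerms α β).map f := rfl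
    rw [this, he, List.map_append, List.map_cons]
    congr 2
    exact Prod.ext rfl hv
  have e1 : S.wd (D.commWord F α β t u) = (S.x α t * S.x β u)⁻¹ * (S.x β u * S.x α t) := by
    rw [S.x_comm' hα hβ hβα hβn]; group
  have e2 : S.wd (D.commWord F (w α) (w β) (c α * t) (c β * u)) =
      (S.x (w α) (c α * t) * S.x (w β) (c β * u))⁻¹ * (S.x (w β) (c β * u) * S.x (w α) (c α * t)) := by
    rw [S.x_comm' hwα hwβ hwβα hwβn]; group
  have e3 : g * S.wd (D.commWord F α β t u) =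
      S.wd ((D.commWord F α β t u).map fun q => (w q.1, c q.1 * q.2)) * g := by
    rw [← hrel, e1, e2]
    have q1 : g * (S.x α t * S.x β u) = S.x (w α) (c α * t) * S.x (w β) (c β * u) * g := by
      rw [← mul_assoc, h1, mul_assoc, h2, mul_assoc]
    have q2 : g * (S.x β u * S.x α t) = S.x (w β) (c β * u) * S.x (w α) (c α * t) * g := by
      rw [← mul_assoc, h2, mul_assoc, h1, mul_assoc]
    have q3 : g * (S.x α t * S.x β u)⁻¹ = (S.x (w α) (c α * t) * S.x (w β) (c β * u))⁻¹ * g := by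
      rw [eq_inv_mul_iff_mul_eq, ← mul_assoc, ← q1]; group
    rw [← mul_assoc, q3, mul_assoc, q2, ← mul_assoc]
  have g1 := hwd (l₁.map f) (by
    intro q hq
    rw [List.mem_map] at hq
    obtain ⟨e, he, rfl⟩ := hq
    exact h3 e (List.mem_append_left _ he))
  have g2 := hwd (l₂.map f) (by
    intro q hq
    rw [List.mem_map] at hq
    obtain ⟨e, he, rfl⟩ := hq
    exact h3 e (List.mem_append_right _ he))
  rw [hcw, List.map_append, List.map_cons, wd_append, wd_append, wd_cons, wd_cons, ← mul_assoc, g1,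
    mul_assoc, mul_assoc] at e3
  have e4 := mul_left_cancel e3
  rw [mul_assoc, ← g2, ← mul_assoc, ← mul_assoc] at e4
  exact mul_right_cancel e4

end Sys

end Cfsg.Agent.H6.Chev
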