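import Cfsg.Agent.H6_ChevSt

/-!
Steinberg's presentation, part 2: actions and the kernel.
-/

set_option autoImplicit false
set_option linter.unusedSectionVars false

namespace Cfsg.Agent.H6.Chev

open Cfsg Cfsg.Lie Cfsg.Lie.ChevalleyDatum

namespace Model

variable {D : ChevalleyDatum} {F : Type*} [Field F] (m : Model D)

include m

theorem commWord_refl {i r s : ℕ} (hi : i < D.rank) (hr : r < D.nroots) (hs : s < D.nroots)
    (hrs : s ≠ r) (hneg : s ≠ D.neg r) (t u : F) :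
    D.commWord F (D.reflectRoot i r) (D.reflectRoot i s) (((m.eta i r : ℤ) : F) * t) (((m.eta i s : ℤ) : F) * u) =
      (D.commWord F r s t u).map fun p => (D.reflectRoot i p.1, ((m.eta i p.1 : ℤ) : F) * p.2) := by
  unfold ChevalleyDatum.commWord
  rw [m.comm_refl i hi r hr s hs hrs hneg, mapComm, List.map_map, List.map_map]
  apply List.map_congr_left
  intro c hc
  simp only [Function.comp, Prod.mk.injEq, true_and]
  have h1 := m.etaF_mul_self (F := F) hi hr
  have h2 := m.etaF_mul_self (F := F) hi hs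
  have h3 : ((m.eta i r : ℤ) : F) ^ c.2.2.1 * ((m.eta i r : ℤ) : F) ^ c.2.2.1 = 1 := by
    rw [← mul_pow, h1, one_pow]
  have h4 : ((m.eta i s : ℤ) : F) ^ c.2.2.2 * ((m.eta i s : ℤ) : F) ^ c.2.2.2 = 1 := by
    rw [← mul_pow, h2, one_pow]
  push_cast
  rw [← mul_neg, mul_pow, mul_pow]
  calc _ = (((m.eta i r : ℤ) : F) ^ c.2.2.1 * ((m.eta i r : ℤ) : F) ^ c.2.2.1) *
        (((m.eta i s : ℤ) : F) ^ c.2.2.2 * ((m.eta i s : ℤ) : F) ^ c.2.2.2) *
        (((m.eta i c.1 : ℤ) : F) * ((c.2.1 : F) * (-t) ^ c.2.2.1 * u ^ c.2.2.2)) := by ring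
    _ = _ := by rw [h3, h4]; ring

theorem commWord_chi (χ : ℕ → Fˣ) {r s : ℕ} (hr : r < D.nroots) (hs : s < D.nroots)
    (hrs : s ≠ r) (hneg : s ≠ D.neg r) (t u : F) :
    D.commWord F r s (((m.chi χ r : Fˣ) : F) * t) (((m.chi χ s : Fˣ) : F) * u) =
      (D.commWord F r s t u).map fun p => (p.1, ((m.chi χ p.1 : Fˣ) : F) * p.2) := by
  unfold ChevalleyDatum.commWord
  rw [List.map_map]
  apply List.map_congr_left
  intro c hc
  simp only [Function.comp, Prod.mk.injEq, true_and]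
  have h1 := m.comm_lt r hr s hs hrs hneg c hc
  rw [m.chi_lin χ h1.2.2.2, zpow_natCast, zpow_natCast]
  push_cast
  rw [← mul_neg, mul_pow, mul_pow]
  ring

end Model

namespace Sys

variable {D : ChevalleyDatum} {m : Model D} {F : Type*} [Field F] {Γ : Type*} [Group Γ] (S : Sys m F Γ)

theorem hb_x (dec : m.Dec) {i : ℕ} (hi : i < D.rank) (t : Fˣ) {s : ℕ} (hs : s < D.nroots) (u : F) :
    S.hb (D.simple i) (t : F) * S.x s u =
      S.x s (((m.chi (Model.hc D (D.simple i) t) s : Fˣ) : F) * u) * S.hb (D.simple i) (t : F) := by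
  have key : ∀ s < D.nroots, s ≠ D.simple i → s ≠ D.neg (D.simple i) → ∀ u : F,
      S.hb (D.simple i) (t : F) * S.x s u =
      S.x s (((m.chi (Model.hc D (D.simple i) t) s : Fˣ) : F) * u) * S.hb (D.simple i) (t : F) := by
    intro s hs h1 h2 u
    obtain ⟨ε, hε, hR⟩ := Ri_cases hi hs h1 h2
    refine S.lift hi hε (fun y hy => S.hb_conj_Ri hi ε _ hy) hs hs hR hR ?_
    rw [S.θ_hb, m.hh_simple hi, m.dm_X]
  by_cases hp : s = D.simple i ∨ s = D.neg (D.simple i)
  · obtain ⟨α, hα, β, hβ, hβα, hβn, h1, h2, l₁, l₂, C, a, b, he, hC, hab, h3⟩ := dec i hi s hp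
    have hrel := fun t' u' => m.commWord_chi (F := F) (Model.hc D (D.simple i) t) hα hβ hβα hβn t' u'
    exact S.transport (w := fun r => r) (c := fun r => ((m.chi (Model.hc D (D.simple i) t) r : Fˣ) : F))
      hα hβ hβα hβn hα hβ hβα hβn he hC hab (key α hα h1.1 h1.2) (key β hβ h2.1 h2.2) hrel
      (fun e he' v => key e.1 (by
        have : e ∈ D.commTerms α β := by
          rw [he]
          rcases List.mem_append.1 he' with h | h
          · exact List.mem_append_left _ h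
          · exact List.mem_append_right _ (List.mem_cons_of_mem _ h)
        exact (m.comm_lt α hα β hβ hβα hβn e this).1) (h3 e he').1 (h3 e he').2 v) u
  · push Not at hp
    exact key s hs hp.1 hp.2 u

theorem nb_x (dec : m.Dec) {i : ℕ} (hi : i < D.rank) {s : ℕ} (hs : s < D.nroots) (u : F) :
    S.nb (D.simple i) 1 * S.x s u =
      S.x (D.reflectRoot i s) (((m.eta i s : ℤ) : F) * u) * S.nb (D.simple i) 1 := by
  have key : ∀ s < D.nroots, s ≠ D.simple i → s ≠ D.neg (D.simple i) → ∀ u : F,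
      S.nb (D.simple i) 1 * S.x s u =
      S.x (D.reflectRoot i s) (((m.eta i s : ℤ) : F) * u) * S.nb (D.simple i) 1 := by
    intro s hs h1 h2 u
    obtain ⟨ε, hε, hR⟩ := Ri_cases hi hs h1 h2
    refine S.lift hi hε (fun y hy => S.nb_conj_Ri hi ε _ hy) hs (m.refl_lt i hi s hs) hR (Ri_refl hi hs hR) ?_
    rw [S.θ_nb]
    exact m.n_X hi hs u
  by_cases hp : s = D.simple i ∨ s = D.neg (D.simple i)
  · obtain ⟨α, hα, β, hβ, hβα, hβn, h1, h2, l₁, l₂, C, a, b, he, hC, hab, h3⟩ := dec i hi s hp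
    have hrel := fun t' u' => m.commWord_refl (F := F) hi hα hβ hβα hβn t' u'
    have hwα := m.refl_lt i hi α hα
    have hwβ := m.refl_lt i hi β hβ
    exact S.transport (w := D.reflectRoot i) (c := fun r => ((m.eta i r : ℤ) : F))
      hα hβ hβα hβn hwα hwβ (fun h => hβα (m.refl_inj hi hβ hα h))
      (fun h => hβn (m.refl_inj hi hβ (m.neg_lt hα) (by rw [h, m.refl_neg hi hα])))
      he hC hab (key α hα h1.1 h1.2) (key β hβ h2.1 h2.2) hrel
      (fun e he' v => key e.1 (by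
        have : e ∈ D.commTerms α β := by
          rw [he]
          rcases List.mem_append.1 he' with h | h
          · exact List.mem_append_left _ h
          · exact List.mem_append_right _ (List.mem_cons_of_mem _ h)
        exact (m.comm_lt α hα β hβ hβα hβn e this).1) (h3 e he').1 (h3 e he').2 v) u
  · push Not at hp
    exact key s hs hp.1 hp.2 u

/-- `g` acts through `w` with scalars `c` -/
structure SAct (g : Γ) (w : Equiv.Perm (Fin D.nroots)) (c : Fin D.nroots → Fˣ) : Prop where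
  x : ∀ (r : Fin D.nroots) (t : F), g * S.x r t = S.x (w r) (((c r : Fˣ) : F) * t) * g
  θ : m.ActsC (S.θ g) w c

def SActs (g : Γ) (w : Equiv.Perm (Fin D.nroots)) : Prop := ∃ c, S.SAct g w c

variable {S}

theorem SAct.mul {g g' : Γ} {w w' : Equiv.Perm (Fin D.nroots)} {c c' : Fin D.nroots → Fˣ}
    (h : S.SAct g w c) (h' : S.SAct g' w' c') : S.SAct (g * g') (w * w') (fun r => c (w' r) * c' r) where
  x := fun r t => by
    rw [mul_assoc, h'.x, ← mul_assoc, h.x, mul_assoc, Equiv.Perm.mul_apply]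
    congr 2
    push_cast
    ring
  θ := by rw [map_mul]; exact h.θ.mul h'.θ

theorem SActs.mul {g g' : Γ} {w w' : Equiv.Perm (Fin D.nroots)}
    (h : S.SActs g w) (h' : S.SActs g' w') : S.SActs (g * g') (w * w') := by
  obtain ⟨c, h⟩ := h
  obtain ⟨c', h'⟩ := h'
  exact ⟨_, h.mul h'⟩

variable (S)

theorem sacts_n (dec : m.Dec) (i : Fin D.rank) : S.SActs (S.nb (D.simple i) 1) (m.sr i) := by
  obtain ⟨c, hc⟩ := m.acts_n (F := F) i
  refine ⟨c, ?_, by rw [S.θ_nb]; exact hc⟩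
  intro r t
  rw [S.nb_x dec i.2 r.2]
  have h1 := hc.X r 1
  rw [m.n_X i.2 r.2 1] at h1
  have h2 := mul_right_cancel h1
  have h3 := m.X_inj (m.refl_lt i i.2 r r.2) h2
  rw [mul_one, mul_one] at h3
  rw [h3]
  rfl

/-- `H̄` -/
def Hb : Subgroup Γ := Subgroup.closure {h | ∃ (i : ℕ) (t : F), i < D.rank ∧ t ≠ 0 ∧ h = S.hb (D.simple i) t}

theorem hb_mem {i : ℕ} (hi : i < D.rank) (t : Fˣ) : S.hb (D.simple i) (t : F) ∈ S.Hb :=
  Subgroup.subset_closure ⟨i, t, hi, t.ne_zero, rfl⟩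

/-- elements of `H̄` act by characters -/
theorem Hb_acts (dec : m.Dec) {h : Γ} (hh : h ∈ S.Hb) : ∃ χ : ℕ → Fˣ, S.θ h = m.dmHom χ ∧
    ∀ s < D.nroots, ∀ u : F, h * S.x s u = S.x s (((m.chi χ s : Fˣ) : F) * u) * h := by
  refine Subgroup.closure_induction (p := fun h _ => ∃ χ : ℕ → Fˣ, S.θ h = m.dmHom χ ∧
    ∀ s < D.nroots, ∀ u : F, h * S.x s u = S.x s (((m.chi χ s : Fˣ) : F) * u) * h) ?_ ?_ ?_ ?_ hh
  · rintro _ ⟨i, t, hi, ht, rfl⟩
    refine ⟨Model.hc D (D.simple i) (Units.mk0 t ht), ?_, fun s hs u => S.hb_x dec hi (Units.mk0 t ht) hs u⟩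
    rw [S.θ_hb]
    exact m.hh_simple hi (Units.mk0 t ht)
  · refine ⟨1, by rw [map_one, map_one], fun s _ u => ?_⟩
    rw [m.chi_one]; simp
  · rintro a b _ _ ⟨χ, h1, h2⟩ ⟨χ', h3, h4⟩
    refine ⟨χ * χ', by rw [map_mul, map_mul, h1, h3], fun s hs u => ?_⟩
    rw [mul_assoc, h4 s hs, ← mul_assoc, h2 s hs, mul_assoc, m.chi_mul]
    congr 2
    push_cast
    ring
  · rintro a _ ⟨χ, h1, h2⟩
    refine ⟨χ⁻¹, by rw [map_inv, map_inv, h1], fun s hs u => ?_⟩
    have h3 := h2 s hs ((((m.chi χ s)⁻¹ : Fˣ) : F) * u)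
    rw [← mul_assoc, Units.mul_inv, one_mul] at h3
    rw [m.chi_inv, inv_mul_eq_iff_eq_mul, ← mul_assoc, h3]
    group

theorem hb_nb (dec : m.Dec) {i j : ℕ} (hi : i < D.rank) (hj : j < D.rank) (t : Fˣ) (u : F) :
    S.hb (D.simple i) (t : F) * S.nb (D.simple j) u =
      S.nb (D.simple j) (((m.chi (Model.hc D (D.simple i) t) (D.simple j) : Fˣ) : F) * u) * S.hb (D.simple i) (t : F) := by
  have hj' := m.simple_lt j hj
  have h1 := S.hb_x dec hi t hj' u
  have h2 := S.hb_x dec hi t (m.neg_lt hj') (-u⁻¹)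
  rw [m.chi_neg _ hj'] at h2
  unfold nb
  rw [← mul_assoc, ← mul_assoc, h1, mul_assoc (S.x _ _) (S.hb _ _), h2, ← mul_assoc, mul_assoc _ (S.hb _ _), h1,
    ← mul_assoc, mul_inv, Units.val_inv_eq_inv_val, mul_neg]

theorem n_hb (dec : m.Dec) {i j : ℕ} (hi : i < D.rank) (hj : j < D.rank) (t : Fˣ) :
    S.nb (D.simple j) 1 * S.hb (D.simple i) (t : F) * (S.nb (D.simple j) 1)⁻¹ =
      S.hb (D.simple i) (t : F) *
        S.hb (D.simple j) (((m.chi (Model.hc D (D.simple i) t) (D.simple j))⁻¹ : Fˣ) : F) := by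
  have h1 := S.hb_nb dec hi hj t (((m.chi (Model.hc D (D.simple i) t) (D.simple j))⁻¹ : Fˣ) : F)
  rw [Units.mul_inv] at h1
  rw [← h1, S.nb_eq (D.simple j) (((m.chi (Model.hc D (D.simple i) t) (D.simple j))⁻¹ : Fˣ) : F)]
  group

theorem nb_conj_Hb (dec : m.Dec) {j : ℕ} (hj : j < D.rank) {h : Γ} (hh : h ∈ S.Hb) :
    S.nb (D.simple j) 1 * h * (S.nb (D.simple j) 1)⁻¹ ∈ S.Hb := by
  refine Subgroup.closure_induction (p := fun h _ => S.nb (D.simple j) 1 * h * (S.nb (D.simple j) 1)⁻¹ ∈ S.Hb)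
    ?_ ?_ ?_ ?_ hh
  · rintro _ ⟨i, t, hi, ht, rfl⟩
    have := S.n_hb dec hi hj (Units.mk0 t ht)
    rw [Units.val_mk0] at this
    rw [this]
    exact mul_mem (S.hb_mem hi (Units.mk0 t ht)) (S.hb_mem hj _)
  · simp
  · intro a b _ _ ha hb
    have e : S.nb (D.simple j) 1 * (a * b) * (S.nb (D.simple j) 1)⁻¹ =
      (S.nb (D.simple j) 1 * a * (S.nb (D.simple j) 1)⁻¹) * (S.nb (D.simple j) 1 * b * (S.nb (D.simple j) 1)⁻¹) := by
      group
    rw [e]; exact mul_mem ha hb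
  · intro a _ ha
    have e : S.nb (D.simple j) 1 * a⁻¹ * (S.nb (D.simple j) 1)⁻¹ =
      (S.nb (D.simple j) 1 * a * (S.nb (D.simple j) 1)⁻¹)⁻¹ := by group
    rw [e]; exact inv_mem ha

theorem nb_sq {j : ℕ} (hj : j < D.rank) : S.nb (D.simple j) 1 * S.nb (D.simple j) 1 ∈ S.Hb := by
  have h1 := S.hb_mem hj (-1)
  rw [Units.val_neg, Units.val_one] at h1
  unfold hb at h1
  rw [nb_neg, ← mul_inv_rev] at h1
  exact inv_mem_iff.1 h1

/-- product of the `n̄_i` -/
def nlb (l : List (Fin D.rank)) : Γ := (l.map fun i : Fin D.rank => S.nb (D.simple i) 1).prod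

@[simp] theorem nlb_nil : S.nlb [] = 1 := rfl
@[simp] theorem nlb_cons (i : Fin D.rank) (l : List (Fin D.rank)) :
    S.nlb (i :: l) = S.nb (D.simple i) 1 * S.nlb l := by simp [nlb]
@[simp] theorem nlb_append (l l' : List (Fin D.rank)) : S.nlb (l ++ l') = S.nlb l * S.nlb l' := by simp [nlb]

theorem sacts_nlb (dec : m.Dec) (l : List (Fin D.rank)) : S.SActs (S.nlb l) (m.wl l) := by
  induction l with
  | nil =>
    obtain ⟨c, hc⟩ := m.acts_dm (F := F) 1
    refine ⟨c, ?_, by rw [nlb_nil, map_one, ← map_one (m.dmHom (F := F))]; exact hc⟩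
    intro r t
    have h1 := hc.X r t
    rw [map_one, one_mul, mul_one] at h1
    have h3 := m.X_inj r.2 h1
    rw [nlb_nil, one_mul, mul_one]
    change _ = S.x r _
    rw [← h3]
  | cons a l ih => rw [nlb_cons, Model.wl_cons]; exact (S.sacts_n dec a).mul ih

theorem nlb_conj_Hb (dec : m.Dec) (l : List (Fin D.rank)) {h : Γ} (hh : h ∈ S.Hb) :
    S.nlb l * h * (S.nlb l)⁻¹ ∈ S.Hb := by
  induction l generalizing h with
  | nil => simpa using hh
  | cons a l ih =>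
    have h1 := S.nb_conj_Hb dec a.2 (ih hh)
    rw [nlb_cons]
    convert h1 using 1
    group

/-- conjugate of `n̄_j` under an element mapping `p_j` to `p_i` -/
theorem conj_nb {g : Γ} {w : Equiv.Perm (Fin D.nroots)} (h : S.SActs g w) {i j : Fin D.rank}
    (hij : w (m.p j) = m.p i) : ∃ x ∈ S.Hb, g * S.nb (D.simple j) 1 * g⁻¹ = x * S.nb (D.simple i) 1 := by
  obtain ⟨c, h⟩ := h
  refine ⟨S.hb (D.simple i) ((c (m.p j) : Fˣ) : F), S.hb_mem i.2 _, ?_⟩
  have h1 := h.x (m.p j)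
  have h2 := h.x (m.ng (m.p j))
  rw [h.θ.neg, h.θ.isW.neg, hij] at h2
  rw [hij] at h1
  rw [mul_inv_eq_iff_eq_mul, ← S.nb_eq]
  have e1 : S.nb (D.simple j) (1 : F) = S.x (m.p j) 1 * S.x (m.ng (m.p j)) (-1) * S.x (m.p j) 1 := by
    rw [nb, inv_one]; rfl
  have e2 : S.nb (D.simple i) ((c (m.p j) : Fˣ) : F) = S.x (m.p i) ((c (m.p j) : Fˣ) : F) *
      S.x (m.ng (m.p i)) (-((c (m.p j) : Fˣ) : F)⁻¹) * S.x (m.p i) ((c (m.p j) : Fˣ) : F) := rfl
  rw [e1, e2, ← mul_assoc, ← mul_assoc, h1, mul_assoc (S.x _ _) g, h2, ← mul_assoc,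
    mul_assoc _ g, h1]
  simp only [← mul_assoc, mul_one]
  congr 4
  push_cast
  ring

theorem nlb_mem_Hb (dec : m.Dec) : ∀ (k : ℕ) (l : List (Fin D.rank)), l.length = k → m.wl l = 1 →
    S.nlb l ∈ S.Hb := by
  intro k
  induction k using Nat.strong_induction_on with
  | _ k ih =>
    intro l hl h1
    match l with
    | [] => exact one_mem _
    | i :: l' =>
      have h2 : ((m.wl l')⁻¹ (m.p i) : ℕ) < m.N := by
        have h3 : (m.wl l')⁻¹ = m.sr i := by
          rw [Model.wl_cons] at h1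
          exact inv_eq_of_mul_eq_one_left h1
        rw [h3, m.sr_p, m.ng_lt_iff]
        exact m.p_pos i
      obtain ⟨l₁, j, l₂, rfl, h3⟩ := m.exchange_root l' _ (m.p_pos i) h2
      obtain ⟨x, hx, h4⟩ := S.conj_nb (S.sacts_nlb dec l₁) h3
      have h5 := (m.isW_wl l₁).conj h3
      have h6 : m.wl (l₁ ++ l₂) = 1 := by
        rw [Model.wl_cons, Model.wl_append, Model.wl_cons, ← mul_assoc, ← mul_assoc, h5, mul_assoc (m.wl l₁),
          m.sr_mul_self, mul_one, ← Model.wl_append] at h1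
        exact h1
      have h7 := ih (l₁ ++ l₂).length (by rw [← hl]; simp) (l₁ ++ l₂) rfl h6
      have e : S.nlb (i :: (l₁ ++ j :: l₂)) =
          (S.nb (D.simple i) 1 * x * (S.nb (D.simple i) 1)⁻¹) * (S.nb (D.simple i) 1 * S.nb (D.simple i) 1) *
            S.nlb (l₁ ++ l₂) := by
        rw [nlb_cons, nlb_append, nlb_cons, nlb_append]
        have h8 : S.nlb l₁ * S.nb (D.simple j) 1 = x * S.nb (D.simple i) 1 * S.nlb l₁ := by
          rw [← h4]; group
        rw [← mul_assoc (S.nlb l₁), h8]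
        group
      rw [e]
      exact mul_mem (mul_mem (S.nb_conj_Hb dec i.2 hx) (S.nb_sq i.2)) h7

end Sys

end Cfsg.Agent.H6.Chev
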