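import Mathlib

set_option autoImplicit false

namespace Cfsg.Agent.H6.DetN

open MonoidAlgebra

/-- an element of `ℤ[Q]` killed by all `x - 1`, `x` in a generating set, is `c • ∑ q`. -/
theorem eq_smul_norm {Q : Type*} [CommGroup Q] [Fintype Q] {n : ℕ} (x : Fin n → Q)
    (hx : Subgroup.closure (Set.range x) = ⊤) (r : MonoidAlgebra ℤ Q)
    (h : ∀ j, r * (MonoidAlgebra.of ℤ Q (x j) - 1) = 0) : r = (r.coeff 1) • ∑ q : Q, MonoidAlgebra.of ℤ Q q := by
  classical
  have h1 : ∀ q : Q, r * MonoidAlgebra.of ℤ Q q = r := by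
    intro q
    have hq : q ∈ Subgroup.closure (Set.range x) := hx ▸ Subgroup.mem_top q
    induction hq using Subgroup.closure_induction with
    | mem y hy =>
      obtain ⟨j, rfl⟩ := hy
      have := h j
      rw [mul_sub, mul_one, sub_eq_zero] at this
      exact this
    | one => rw [map_one, mul_one]
    | mul a b _ _ ha hb => rw [map_mul, ← mul_assoc, ha, hb]
    | inv a _ ha =>
      conv_lhs => rw [← ha]
      rw [mul_assoc, ← map_mul, mul_inv_cancel, map_one, mul_one]
  have h2 : ∀ q : Q, r.coeff q = r.coeff 1 := by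
    intro q
    have := congrArg (fun s : MonoidAlgebra ℤ Q => s.coeff q) (h1 q)
    simp only [MonoidAlgebra.of_apply] at this
    rw [MonoidAlgebra.coeff_mul_single_apply] at this
    rw [mul_inv_cancel, mul_one] at this
    exact this.symm
  apply MonoidAlgebra.coeff_injective
  ext q
  rw [h2 q, MonoidAlgebra.coeff_smul, MonoidAlgebra.coeff_sum]
  simp [MonoidAlgebra.of_apply, Finsupp.single_apply]

/-- a square matrix `m` over `ℤ[Q]` with `m (x - 1) = 0` and augmentation `diag (e)`, `∏ e = |Q|`, has `det m = ∑ q`. -/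
theorem det_eq_norm {Q : Type*} [CommGroup Q] [Fintype Q] {n : ℕ} (x : Fin n → Q)
    (hx : Subgroup.closure (Set.range x) = ⊤) (m : Matrix (Fin n) (Fin n) (MonoidAlgebra ℤ Q))
    (h : ∀ i, ∑ j, m i j * (MonoidAlgebra.of ℤ Q (x j) - 1) = 0)
    (ε : MonoidAlgebra ℤ Q →+* ℤ) (hε : ∀ q, ε (MonoidAlgebra.of ℤ Q q) = 1) (e : Fin n → ℕ)
    (he : ∀ i j, ε (m i j) = if i = j then (e i : ℤ) else 0) (hcard : ∏ i, e i = Nat.card Q) :
    m.det = ∑ q : Q, MonoidAlgebra.of ℤ Q q := by
  classical
  have h1 : m.mulVec (fun j => MonoidAlgebra.of ℤ Q (x j) - 1) = 0 := by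
    ext1 i
    exact h i
  have h2 : ∀ j, m.det * (MonoidAlgebra.of ℤ Q (x j) - 1) = 0 := by
    intro j
    have := congrArg (fun v => m.adjugate.mulVec v j) h1
    simp only [Matrix.mulVec_mulVec, Matrix.adjugate_mul, Matrix.mulVec_zero, Matrix.smul_mulVec,
      Matrix.one_mulVec] at this
    simpa using this
  have h3 := eq_smul_norm x hx m.det h2
  set c := m.det.coeff 1
  have h4 : ε m.det = Nat.card Q := by
    rw [RingHom.map_det]
    have : ε.mapMatrix m = Matrix.diagonal (fun i => (e i : ℤ)) := by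
      ext i j
      rw [RingHom.mapMatrix_apply, Matrix.map_apply, he, Matrix.diagonal_apply]
    rw [this, Matrix.det_diagonal, ← hcard]
    push_cast
    rfl
  rw [h3, map_zsmul, map_sum] at h4
  simp only [hε, Finset.sum_const, Finset.card_univ, nsmul_eq_mul, mul_one, smul_eq_mul, Nat.card_eq_fintype_card] at h4
  have h5 : (Fintype.card Q : ℤ) ≠ 0 := by exact_mod_cast Fintype.card_ne_zero
  have h6 : c = 1 := by
    apply mul_right_cancel₀ h5
    rw [h4, one_mul]
  rw [h3, h6, one_smul]

end Cfsg.Agent.H6.DetN
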