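import Mathlib
import Cfsg.Agent.H6_MR2
import Cfsg.Prelude.Def_E6

/-!
The twenty-seven-dimensional representation of Steinberg's group of type `E₆`.
-/

set_option autoImplicit false
set_option linter.unusedSectionVars false
set_option maxRecDepth 100000

namespace Cfsg.Agent.H6.E6

open Cfsg.Lie
open Cfsg.Agent.H6.MR

/-- the packed root matrices -/
def gE : ℕ := 0x902f81ccaf82ee35a46bec5ea950f194290ef99cb25735a432874d693cedd87a678db0d5febb4618992a1c9b7e64486d0a29b91f58d2bb24430e1dbda640bc4908c09bf1f9deb5c1d82f61e3dd786e48758ba9db131d2b041a60ca6d47b4f0864948f8872f613f24f24c3de7cc586029809f89e9e7149d12632121a2d7d078be478730aea89271fa1b52fa5165347763aaf0e296480af5191af238458e54c7877cd7cc795e80cf5de23953185765bc1673ebf8ba035a4b21196a8c2d632a913e36c6b08b88d0614b494d15315600dd6b7567a550560049491d53da1a39466e01bd2502940e49989870897da5a3c02865ec1c738974d506ba61245441e93ac4de97bee57c87cee13d62eb7d539be22c1ba95c8a6547acd0900a50fa5b022134e41a81ccb926d29511fa8cf0bdfbb7e5ac8ba714b3632ae0408208810458f2ef0fe079d9b7b68662871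03a9cb2d1dd35b09606a21c12782e4024818aff479722b524a312c0d2070cd5c770bfb213c59c29918c09ec744f6deb386682c4ea8f5029bc2281b1372363fc61c6f8379c12c53ba1610c15e1f40f4f893442055afb471212132543eececfc52a7d099892b371696522b270266cb4f766e7d87e05db29155b622d20618ad65048b81f42280daf734e159ba30452aa45195ccadce3966a9546dc4359320586adcba666a48b4029ab3061b42c92de0baa3517488854e619dacd31d471ef3aa252b242558a890ed09bac3301981f133c17eafc1e6ce898d2864aef33e1387607c01ad2d6da6ad31521fcb555ca9d3835b68cec25555c4acc41822b0d55dc2355098076c155348084444059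

/-- one entry -/
def ent (k : ℕ) : ℕ × ℕ × ℤ :=
  let c := Nat.land (Nat.shiftRight gE (11 * k)) 2047
  (c / 54, c / 2 % 27, cond (Nat.beq (c % 2) 1) (-1) 1)

/-- the root matrices -/
def EE (r : ℕ) : SM := cond (Nat.blt r 72) [ent (6 * r), ent (6 * r + 1), ent (6 * r + 2), ent (6 * r + 3), ent (6 * r + 4),
  ent (6 * r + 5)] []

/-- the packed cubic form -/
def gT : ℕ := 0x315b311f30e32b072acb2a8f24b32477243b204320071fcb19ef19b31977139b135f13230f2b0eef0eb308d7089b085f02830247020b76bd7688714070d96b916b5c4183414e3c063b9f365736220c490c1406cc0665011d00e8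

/-- one monomial -/
def mon (k : ℕ) : ℕ × ℕ × ℕ × ℤ :=
  let c := Nat.land (Nat.shiftRight gT (16 * k)) 65535
  (c / 1458, c / 54 % 27, c / 2 % 27, cond (Nat.beq (c % 2) 1) (-1) 1)

/-- the monomials of the cubic form -/
def listT : List (ℕ × ℕ × ℕ × ℤ) := (List.range 45).map mon

/-- coding of the index set -/
def code (k : I27) : ℕ := 9 * k.1.val + 3 * k.2.1.val + k.2.2.val

theorem code_inj : Function.Injective code := by decide +kernel

theorem code_lt : ∀ k, code k < 27 := by decide +kernel

/-- decoding -/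
def dec (k : ℕ) : I27 := (⟨k / 9 % 3, Nat.mod_lt _ (by norm_num)⟩, ⟨k / 3 % 3, Nat.mod_lt _ (by norm_num)⟩,
  ⟨k % 3, Nat.mod_lt _ (by norm_num)⟩)

theorem code_dec' : ∀ k : Fin 27, code (dec k) = k := by decide +kernel

theorem code_dec {k : ℕ} (hk : k < 27) : code (dec k) = k := code_dec' ⟨k, hk⟩

theorem dec_code (k : I27) : dec (code k) = k := code_inj (code_dec (code_lt k))

theorem ckE : (List.range 72).all (fun r => ckRow chevE6 EE r) = true := by decide +kernel

theorem bdE (r : ℕ) : Bd code (EE r) := by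
  intro e he
  have h1 : ∀ k, (ent k).2.1 < 27 := fun k => Nat.mod_lt _ (by norm_num)
  have h : e.2.1 < 27 := by
    unfold EE at he
    cases hb : Nat.blt r 72 with
    | true =>
      rw [hb, cond_true] at he
      simp only [List.mem_cons, List.not_mem_nil, or_false] at he
      rcases he with rfl | rfl | rfl | rfl | rfl | rfl <;> exact h1 _
    | false =>
      rw [hb, cond_false] at he
      simp at he
  exact ⟨dec e.2.1, code_dec h⟩

theorem repE6 : Rep chevE6 code EE where
  inj := code_inj
  bd := bdE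
  ge := fun r hr => by
    have hr' : 72 ≤ r := hr
    unfold EE
    have : Nat.blt r 72 = false := by
      cases hb : Nat.blt r 72
      · rfl
      · have : r < 72 := by simpa [Nat.blt] using hb
        omega
    rw [this, cond_false]
  ck := fun r hr => List.all_eq_true.1 ckE r (List.mem_range.2 hr)

end Cfsg.Agent.H6.E6
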