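import Mathlib
import Cfsg.Agent.H24_Zas18

/-!
Lifting representations of `p'`-groups; fixed-point-free representations in characteristic zero.
-/

set_option autoImplicit false
set_option linter.unusedSectionVars false

namespace Cfsg.Agent.H6.FR

open Subgroup Matrix

universe u v

/-! ### lifting along a surjective ring homomorphism with nil kernel -/

theorem units_surj {R S : Type*} [Ring R] [Ring S] (f : R →+* S) (hf : Function.Surjective f)
    (hnil : ∀ x, f x = 0 → IsNilpotent x) (s : Sˣ) : ∃ u : Rˣ, f u = s := by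
  obtain ⟨a, ha⟩ := hf s
  obtain ⟨b, hb⟩ := hf (s⁻¹ : Sˣ)
  have h1 : IsUnit (a * b) := by
    have : IsNilpotent (a * b - 1) := hnil _ (by rw [map_sub, map_mul, ha, hb, Units.mul_inv, map_one, sub_self])
    have := this.isUnit_one_add
    rwa [add_sub_cancel] at this
  have h2 : IsUnit (b * a) := by
    have : IsNilpotent (b * a - 1) := hnil _ (by rw [map_sub, map_mul, ha, hb, Units.inv_mul, map_one, sub_self])
    have := this.isUnit_one_add
    rwa [add_sub_cancel] at this
  obtain ⟨u, hu⟩ := h1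
  obtain ⟨w, hw⟩ := h2
  have e1 : a * (b * (u⁻¹ : Rˣ)) = 1 := by rw [← mul_assoc, ← hu, Units.mul_inv]
  have e2 : ((w⁻¹ : Rˣ) : R) * b * a = 1 := by rw [mul_assoc, ← hw, Units.inv_mul]
  have e3 : ((w⁻¹ : Rˣ) : R) * b = b * (u⁻¹ : Rˣ) := left_inv_eq_right_inv e2 e1
  exact ⟨⟨a, b * (u⁻¹ : Rˣ), e1, by rw [← e3]; exact e2⟩, ha⟩

theorem lift_units {R S : Type*} [Ring R] [Ring S] [Finite R] (f : R →+* S) (hf : Function.Surjective f)
    (hnil : ∀ x, f x = 0 → IsNilpotent x) {G : Type*} [Group G] [Finite G] (hcop : (Nat.card R).Coprime (Nat.card G))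
    (ρ : G →* Sˣ) : ∃ ρ' : G →* Rˣ, ∀ g, f (ρ' g) = ρ g := by
  classical
  let π : Rˣ →* Sˣ := Units.map (f : R →* S)
  have hπ : Function.Surjective π := fun s => by
    obtain ⟨u, hu⟩ := units_surj f hf hnil s
    exact ⟨u, Units.ext hu⟩
  let P : Subgroup (G × Rˣ) := (ρ.comp (MonoidHom.fst G Rˣ)).eqLocus (π.comp (MonoidHom.snd G Rˣ))
  have hP : ∀ x : G × Rˣ, x ∈ P ↔ ρ x.1 = π x.2 := fun x => Iff.rfl
  let q : P →* G := (MonoidHom.fst G Rˣ).comp P.subtype
  have hq : Function.Surjective q := fun g => by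
    obtain ⟨u, hu⟩ := hπ (ρ g)
    exact ⟨⟨(g, u), (hP _).2 hu.symm⟩, rfl⟩
  have hcard : Nat.card q.ker ∣ Nat.card R := by
    have h1 : Nat.card q.ker = Nat.card f.toAddMonoidHom.ker := by
      refine Nat.card_congr
        { toFun := fun x => ⟨((x : P) : G × Rˣ).2 - 1, ?_⟩
          invFun := fun y => ⟨⟨(1, ?_), ?_⟩, ?_⟩
          left_inv := ?_
          right_inv := ?_ }
      · have h1 : ((x : P) : G × Rˣ).1 = 1 := x.2
        have h2 := (hP _).1 (x : P).2
        rw [h1, map_one] at h2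
        have h3 : f (((x : P) : G × Rˣ).2 : R) = 1 := (congrArg Units.val h2).symm
        change f ((((x : P) : G × Rˣ).2 : R) - 1) = 0
        rw [map_sub, h3, map_one, sub_self]
      · exact ((hnil (y : R) y.2).isUnit_one_add).unit
      · rw [hP]
        rw [map_one]
        symm
        apply Units.ext
        change f (1 + (y : R)) = 1
        have : f (y : R) = 0 := y.2
        rw [map_add, map_one, this, add_zero]
      · rfl
      · intro x
        apply Subtype.ext
        apply Subtype.ext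
        refine Prod.ext ?_ ?_
        · exact (show ((x : P) : G × Rˣ).1 = 1 from x.2).symm
        · apply Units.ext
          change 1 + ((((x : P) : G × Rˣ).2 : R) - 1) = _
          rw [add_sub_cancel]
      · intro y
        apply Subtype.ext
        change 1 + (y : R) - 1 = y
        rw [add_sub_cancel_left]
    rw [h1]
    exact AddSubgroup.card_addSubgroup_dvd_card _
  have hidx : q.ker.index = Nat.card G := by
    rw [Subgroup.index_ker, MonoidHom.range_eq_top.2 hq]
    exact Nat.card_congr Subgroup.topEquiv.toEquiv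
  obtain ⟨H, hH⟩ := Subgroup.exists_right_complement'_of_coprime (N := q.ker) (by
    rw [hidx]; exact Nat.Coprime.coprime_dvd_left hcard hcop)
  let s : H →* G := q.comp H.subtype
  have hsinj : Function.Injective s := by
    rw [injective_iff_map_eq_one]
    intro x hx
    have : (x : P) ∈ q.ker ⊓ H := ⟨hx, x.2⟩
    rw [hH.disjoint.eq_bot, Subgroup.mem_bot] at this
    exact Subtype.ext this
  have hssurj : Function.Surjective s := by
    intro g
    obtain ⟨x, hx⟩ := hq g
    have hx2 : x ∈ q.ker ⊔ H := by rw [hH.sup_eq_top]; trivial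
    obtain ⟨y, hy, z, hz, hyz⟩ := Subgroup.mem_sup_of_normal_left.1 hx2
    refine ⟨⟨z, hz⟩, ?_⟩
    change q z = g
    rw [← hx, ← hyz, map_mul, (show q y = 1 from hy), one_mul]
  let e : H ≃* G := MulEquiv.ofBijective s ⟨hsinj, hssurj⟩
  refine ⟨(MonoidHom.snd G Rˣ).comp (P.subtype.comp (H.subtype.comp e.symm.toMonoidHom)), fun g => ?_⟩
  have h1 : (((e.symm g : H) : P) : G × Rˣ).1 = g := e.apply_symm_apply g
  have h2 := (hP _).1 ((e.symm g : H) : P).2
  rw [h1] at h2
  exact (congrArg Units.val h2).symm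

/-! ### representations with vanishing traces -/

structure FRep (A : Type u) [CommRing A] (G : Type v) [Group G] (d : ℕ) where
  a : G → Matrix (Fin d) (Fin d) A
  one : a 1 = 1
  mul : ∀ g h, a (g * h) = a g * a h
  tr : ∀ g, g ≠ 1 → ∑ i ∈ Finset.range (orderOf g), a (g ^ i) = 0

namespace FRep

variable {A : Type*} [CommRing A] {G : Type v} [Group G] {d : ℕ}

/-- transfer of the relations -/
def transfer {Q F L : Type*} [CommRing Q] [CommRing F] [CommRing L] (φ : Q →+* F) (ψ : Q →+* L)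
    (hk : ∀ y, φ y = 0 → ψ y = 0) (R : FRep F G d) (x : G → Matrix (Fin d) (Fin d) Q)
    (hx : ∀ g i j, φ (x g i j) = R.a g i j) : FRep L G d where
  a g := (x g).map ψ
  one := by
    ext i j
    have h1 : φ (x 1 i j - (1 : Matrix (Fin d) (Fin d) Q) i j) = 0 := by
      rw [map_sub, hx, R.one]
      by_cases h : i = j
      · subst h; simp
      · rw [Matrix.one_apply_ne h, Matrix.one_apply_ne h]; simp
    have h2 := hk _ h1
    rw [map_sub, sub_eq_zero] at h2
    rw [Matrix.map_apply, h2]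
    by_cases h : i = j
    · subst h; simp
    · rw [Matrix.one_apply_ne h, Matrix.one_apply_ne h]; simp
  mul g h := by
    ext i j
    have h1 : φ (x (g * h) i j - ∑ k, x g i k * x h k j) = 0 := by
      rw [map_sub, hx, R.mul, Matrix.mul_apply, map_sum]
      simp only [map_mul, hx, sub_self]
    have h2 := hk _ h1
    rw [map_sub, sub_eq_zero, map_sum] at h2
    rw [Matrix.map_apply, h2, Matrix.mul_apply]
    simp only [map_mul, Matrix.map_apply]
  tr g hg := by
    ext i j
    have h1 : φ (∑ k ∈ Finset.range (orderOf g), x (g ^ k) i j) = 0 := by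
      rw [map_sum]
      simp only [hx]
      have := congrFun (congrFun (R.tr g hg) i) j
      rw [Matrix.sum_apply] at this
      exact this
    have h2 := hk _ h1
    rw [map_sum] at h2
    rw [Matrix.sum_apply]
    simp only [Matrix.map_apply]
    exact h2

/-- products -/
def pi {ι : Type*} {B : ι → Type*} [∀ i, CommRing (B i)] (R : ∀ i, FRep (B i) G d) : FRep (∀ i, B i) G d where
  a g := Matrix.of fun j k => fun i => (R i).a g j k
  one := by
    ext j k i
    change (R i).a 1 j k = (1 : Matrix (Fin d) (Fin d) (∀ i, B i)) j k i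
    rw [(R i).one]
    by_cases h : j = k
    · subst h; simp
    · rw [Matrix.one_apply_ne h, Matrix.one_apply_ne h]; simp
  mul g h := by
    ext j k i
    rw [Matrix.mul_apply, Finset.sum_apply]
    change (R i).a (g * h) j k = _
    rw [(R i).mul, Matrix.mul_apply]
    rfl
  tr g hg := by
    ext j k i
    rw [Matrix.sum_apply, Finset.sum_apply]
    have := congrFun (congrFun ((R i).tr g hg) j) k
    rw [Matrix.sum_apply] at this
    exact this

end FRep

/-! ### the tower -/

theorem mem_ker_cast {r n : ℕ} (hr : r ≠ 0) (x : ZMod (r ^ (n + 1)))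
    (hx : ZMod.castHom (dvd_pow_self r (Nat.succ_ne_zero n)) (ZMod r) x = 0) : ∃ y : ZMod (r ^ (n + 1)), x = (r : ZMod (r ^ (n + 1))) * y := by
  have : NeZero r := ⟨hr⟩
  have : NeZero (r ^ (n + 1)) := ⟨pow_ne_zero _ hr⟩
  have h1 : ((x.val : ℕ) : ZMod r) = 0 := by
    rw [← ZMod.natCast_zmod_val x, map_natCast] at hx
    exact hx
  obtain ⟨c, hc⟩ := (ZMod.natCast_eq_zero_iff _ _).1 h1
  refine ⟨(c : ZMod (r ^ (n + 1))), ?_⟩
  rw [← ZMod.natCast_zmod_val x, hc]
  push_cast
  rfl

theorem trace_shift {S : Type*} [Ring S] {G : Type*} [Group G] (ρ : G →* Sˣ) (g : G) :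
    ((ρ g : Sˣ) : S) * ∑ i ∈ Finset.range (orderOf g), ((ρ (g ^ i) : Sˣ) : S) =
      ∑ i ∈ Finset.range (orderOf g), ((ρ (g ^ i) : Sˣ) : S) := by
  rw [Finset.mul_sum]
  have h1 := Finset.sum_range_succ (fun i => ((ρ (g ^ i) : Sˣ) : S)) (orderOf g)
  have h2 := Finset.sum_range_succ' (fun i => ((ρ (g ^ i) : Sˣ) : S)) (orderOf g)
  rw [h1, pow_orderOf_eq_one, pow_zero] at h2
  rw [add_right_cancel h2]
  apply Finset.sum_congr rfl
  intro i _
  rw [← Units.val_mul, ← map_mul, ← pow_succ']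

theorem trace_sq {S : Type*} [Ring S] {G : Type*} [Group G] (ρ : G →* Sˣ) (g : G) (t : S)
    (ht : t = ∑ i ∈ Finset.range (orderOf g), ((ρ (g ^ i) : Sˣ) : S)) :
    t * t = (orderOf g : S) * t := by
  have h3 := trace_shift ρ g
  rw [← ht] at h3
  have h4 : ∀ i : ℕ, ((ρ (g ^ i) : Sˣ) : S) * t = t := by
    intro i
    induction i with
    | zero => rw [pow_zero, map_one, Units.val_one, one_mul]
    | succ i ih => rw [pow_succ, map_mul, Units.val_mul, mul_assoc, h3, ih]
  conv_lhs => arg 1; rw [ht]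
  rw [Finset.sum_mul, Finset.sum_congr rfl (fun i _ => h4 i), Finset.sum_const, Finset.card_range, nsmul_eq_mul]

theorem trace_zero {S : Type*} [Ring S] {G : Type*} [Group G] (ρ : G →* Sˣ) (g : G) (t : S)
    (ht : t = ∑ i ∈ Finset.range (orderOf g), ((ρ (g ^ i) : Sˣ) : S)) (hn : IsNilpotent t)
    (hu : IsUnit (orderOf g : S)) : t = 0 := by
  have h2 := trace_sq ρ g t ht
  obtain ⟨k, hk⟩ := hn
  have h3 : ∀ k : ℕ, t ^ (k + 1) = (orderOf g : S) ^ k * t := by
    intro k
    induction k with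
    | zero => rw [zero_add, pow_one, pow_zero, one_mul]
    | succ k ih => rw [pow_succ, ih, mul_assoc, h2, ← mul_assoc, ← pow_succ]
  have h4 := h3 k
  rw [pow_succ, hk, zero_mul] at h4
  exact ((hu.pow k).mul_right_eq_zero).1 h4.symm

theorem exists_tower {G : Type v} [Group G] [Finite G] {r d : ℕ} (hr : r.Prime) (hrG : ¬ r ∣ Nat.card G)
    (ρ : G →* (Matrix (Fin d) (Fin d) (ZMod r))ˣ)
    (hfpf : ∀ g, g ≠ 1 → ∀ v : Fin d → ZMod r, ((ρ g : (Matrix (Fin d) (Fin d) (ZMod r))ˣ) : Matrix (Fin d) (Fin d) (ZMod r)) *ᵥ v = v → v = 0)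
    (n : ℕ) : Nonempty (FRep (ZMod (r ^ (n + 1))) G d) := by
  classical
  have : NeZero r := ⟨hr.ne_zero⟩
  have : NeZero (r ^ (n + 1)) := ⟨pow_ne_zero _ hr.ne_zero⟩
  let c : ZMod (r ^ (n + 1)) →+* ZMod r := ZMod.castHom (dvd_pow_self r (Nat.succ_ne_zero n)) (ZMod r)
  let f : Matrix (Fin d) (Fin d) (ZMod (r ^ (n + 1))) →+* Matrix (Fin d) (Fin d) (ZMod r) := c.mapMatrix
  have hf : Function.Surjective f := by
    intro M
    have hc : Function.Surjective c := ZMod.castHom_surjective _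
    refine ⟨Matrix.of fun i j => Function.surjInv hc (M i j), ?_⟩
    ext i j
    exact Function.surjInv_eq hc _
  have hnil : ∀ x, f x = 0 → IsNilpotent x := by
    intro M hM
    have h1 : ∀ i j, ∃ y, M i j = (r : ZMod (r ^ (n + 1))) * y := fun i j =>
      mem_ker_cast hr.ne_zero _ (congrFun (congrFun hM i) j)
    choose Y hY using h1
    have h2 : M = (r : ZMod (r ^ (n + 1))) • Matrix.of Y := by
      ext i j
      rw [Matrix.smul_apply, Matrix.of_apply, hY, smul_eq_mul]
    refine ⟨n + 1, ?_⟩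
    rw [h2, smul_pow]
    have h3 : (r : ZMod (r ^ (n + 1))) ^ (n + 1) = 0 := by
      have := ZMod.natCast_self (r ^ (n + 1))
      rwa [Nat.cast_pow] at this
    rw [h3, zero_smul]
  have hcop : (Nat.card (Matrix (Fin d) (Fin d) (ZMod (r ^ (n + 1))))).Coprime (Nat.card G) := by
    have h1 : Nat.card (Matrix (Fin d) (Fin d) (ZMod (r ^ (n + 1)))) = ((r ^ (n + 1)) ^ d) ^ d := by
      unfold Matrix
      rw [Nat.card_fun, Nat.card_fun, Nat.card_zmod, Nat.card_eq_fintype_card, Fintype.card_fin]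
    rw [h1]
    exact Nat.Coprime.pow_left _ (Nat.Coprime.pow_left _ (Nat.Coprime.pow_left _ ((Nat.Prime.coprime_iff_not_dvd hr).2 hrG)))
  obtain ⟨ρ', hρ'⟩ := lift_units f hf hnil hcop ρ
  refine ⟨⟨fun g => (ρ' g : Matrix (Fin d) (Fin d) (ZMod (r ^ (n + 1)))), by rw [map_one]; rfl, fun g h => by rw [map_mul]; rfl, ?_⟩⟩
  intro g hg
  set t := ∑ i ∈ Finset.range (orderOf g), (ρ' (g ^ i) : Matrix (Fin d) (Fin d) (ZMod (r ^ (n + 1)))) with ht
  have h1 : f t = 0 := by
    rw [ht, map_sum]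
    simp only [hρ']
    have h2 := trace_shift ρ g
    ext i j
    have h3 := congrFun (hfpf g hg ((∑ i ∈ Finset.range (orderOf g), ((ρ (g ^ i) : (Matrix (Fin d) (Fin d) (ZMod r))ˣ) :
      Matrix (Fin d) (Fin d) (ZMod r))) *ᵥ Pi.single j 1) (by rw [Matrix.mulVec_mulVec, h2])) i
    rw [Matrix.mulVec_single_one] at h3
    exact h3
  have hu : IsUnit (orderOf g : ZMod (r ^ (n + 1))) := by
    rw [ZMod.isUnit_iff_coprime]
    apply Nat.Coprime.pow_right
    rw [Nat.coprime_comm]
    exact (Nat.Prime.coprime_iff_not_dvd hr).2 fun h => hrG (h.trans (orderOf_dvd_natCard g))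
  have hu' : IsUnit (orderOf g : Matrix (Fin d) (Fin d) (ZMod (r ^ (n + 1)))) := by
    have := hu.map (algebraMap (ZMod (r ^ (n + 1))) (Matrix (Fin d) (Fin d) (ZMod (r ^ (n + 1)))))
    rwa [map_natCast] at this
  exact trace_zero ρ' g t ht (hnil t h1) hu'

end Cfsg.Agent.H6.FR
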