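import Mathlib
import Cfsg.Agent.H6_FR1

/-!
Fixed-point-free actions give fixed-point-free representations over `𝔽_r`, and then in
characteristic zero.
-/

set_option autoImplicit false
set_option linter.unusedSectionVars false
set_option linter.style.haveILetI false

namespace Cfsg.Agent.H6.FR

open Subgroup Matrix Cfsg.Agent.H24.Zas

universe u v

theorem exists_zmod {K : Type u} [Group K] [Finite K] [Nontrivial K] {G : Type v} [Group G] [Finite G] [Nontrivial G]
    (φ : G →* MulAut K) (hφ : ∀ g, g ≠ 1 → ∀ k, φ g k = k → k = 1) :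
    ∃ r : ℕ, r.Prime ∧ ¬ r ∣ Nat.card G ∧ ∃ d : ℕ, 0 < d ∧ ∃ ρ : G →* (Matrix (Fin d) (Fin d) (ZMod r))ˣ,
      ∀ g, g ≠ 1 → ∀ v : Fin d → ZMod r, ((ρ g : (Matrix (Fin d) (Fin d) (ZMod r))ˣ) : Matrix (Fin d) (Fin d) (ZMod r)) *ᵥ v = v → v = 0 := by
  classical
  have hnil : Group.IsNilpotent K := by
    obtain ⟨g, hg⟩ := exists_ne (1 : G)
    obtain ⟨p, hp, hpd⟩ := Nat.exists_prime_and_dvd (fun h => hg (orderOf_eq_one_iff.1 h))
    haveI : Fact p.Prime := ⟨hp⟩
    obtain ⟨x, hx⟩ := exists_prime_orderOf_dvd_card' (G := G) p (hpd.trans (orderOf_dvd_natCard g))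
    have hx1 : x ≠ 1 := by
      rintro rfl
      rw [orderOf_one] at hx
      exact hp.one_lt.ne hx
    refine H3.Fpf.nilpotent_of_fp p hp _ K (φ x) rfl ⟨hφ x hx1, ?_⟩
    rw [← map_pow, ← hx, pow_orderOf_eq_one, map_one]
  have hZ : Nontrivial (center K) := by
    rw [Subgroup.nontrivial_iff_ne_bot]
    exact Group.IsNilpotent.center_ne_bot K
  obtain ⟨r, hr, hrd⟩ := Nat.exists_prime_and_dvd (n := Nat.card (center K)) (fun h => by
    have := (Nat.card_eq_one_iff_unique.1 h).1
    exact not_subsingleton (center K) this)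
  haveI : Fact r.Prime := ⟨hr⟩
  obtain ⟨⟨w, hwc⟩, hw⟩ := exists_prime_orderOf_dvd_card' (G := center K) r hrd
  rw [Subgroup.orderOf_mk] at hw
  have hw1 : w ≠ 1 := by
    rintro rfl
    rw [orderOf_one] at hw
    exact hr.one_lt.ne hw
  have hwT : w ∈ cenT K r := ⟨hwc, by rw [← hw]; exact pow_orderOf_eq_one w⟩
  have hcomm : ∀ a b : cenT K r, a * b = b * a := fun a b => Subtype.ext (mem_center_iff.1 b.2.1 a)
  have hpow : ∀ a : cenT K r, a ^ r = 1 := fun a => Subtype.ext a.2.2
  have hrdT : r ∣ Nat.card (cenT K r) := by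
    have := Subgroup.orderOf_dvd_natCard _ hwT
    rwa [hw] at this
  let ψ : G →* MulAut (cenT K r) := (resT K r).comp φ
  have hψ : ∀ g, g ≠ 1 → ∀ k, ψ g k = k → k = 1 := by
    intro g hg k hk
    apply Subtype.ext
    exact hφ g hg k (congrArg Subtype.val hk)
  have hrG : ¬ r ∣ Nat.card G := by
    intro h
    obtain ⟨g, hg⟩ := exists_prime_orderOf_dvd_card' (G := G) r h
    have hg1 : g ≠ 1 := by
      rintro rfl
      rw [orderOf_one] at hg
      exact hr.one_lt.ne hg
    let P : Subgroup G := zpowers g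
    have hP : IsPGroup r P := IsPGroup.of_card (n := 1) (by rw [Nat.card_zpowers, hg, pow_one])
    letI : MulAction P (cenT K r) := MulAction.compHom _ (ψ.comp P.subtype)
    obtain ⟨b, hb, hb1⟩ := hP.exists_fixed_point_of_prime_dvd_card_of_fixed_point (cenT K r) hrdT
      (a := (1 : cenT K r)) (fun p => map_one (ψ (p : G)))
    apply hb1
    exact (hψ g hg1 b (hb ⟨g, mem_zpowers g⟩)).symm
  letI : CommGroup (cenT K r) := { (inferInstance : Group (cenT K r)) with mul_comm := hcomm }
  letI : Module (ZMod r) (Additive (cenT K r)) := AddCommGroup.zmodModule (n := r) (fun x => hpow x.toMul)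
  haveI : Finite (Additive (cenT K r)) := inferInstance
  haveI : Module.Finite (ZMod r) (Additive (cenT K r)) := Module.Finite.of_finite
  haveI : Nontrivial (Additive (cenT K r)) := ⟨⟨Additive.ofMul ⟨w, hwT⟩, 0, fun h => hw1 (congrArg Subtype.val h)⟩⟩
  let b := Module.finBasis (ZMod r) (Additive (cenT K r))
  let M : G →* Module.End (ZMod r) (Additive (cenT K r)) :=
    { toFun := fun g => (MonoidHom.toAdditive (ψ g).toMonoidHom).toZModLinearMap r
      map_one' := by
        refine LinearMap.ext fun v => ?_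
        change Additive.ofMul (ψ 1 v.toMul) = v
        rw [map_one]; rfl
      map_mul' := fun g h => by
        refine LinearMap.ext fun v => ?_
        change Additive.ofMul (ψ (g * h) v.toMul) = Additive.ofMul (ψ g (ψ h v.toMul))
        rw [map_mul]; rfl }
  refine ⟨r, hr, hrG, Module.finrank (ZMod r) (Additive (cenT K r)), Module.finrank_pos,
    (((LinearMap.toMatrixAlgEquiv b : _ ≃ₐ[ZMod r] _) : _ →* _).comp M).toHomUnits, ?_⟩
  intro g hg v hv
  let x : Additive (cenT K r) := b.equivFun.symm v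
  have hx : b.repr x = v := by
    have := b.equivFun.apply_symm_apply v
    exact this
  have h1 := LinearMap.toMatrix_mulVec_repr b b (M g) x
  rw [hx] at h1
  have h2 : v = ⇑(b.repr (M g x)) := by
    rw [← h1]
    exact hv.symm
  have h3 : b.repr (M g x) = b.repr x := by
    apply Finsupp.ext
    intro i
    rw [← congrFun h2 i, ← congrFun hx i]
  have h4 : M g x = x := b.repr.injective h3
  have h5 : x = 0 := hψ g hg x.toMul h4
  rw [← hx, h5, map_zero]
  rfl

/-- base change -/
noncomputable def FRep.map {A B : Type*} [CommRing A] [CommRing B] {G : Type*} [Group G] {d : ℕ} (R : FRep A G d) (f : A →+* B) :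
    FRep B G d := R.transfer (RingHom.id A) f (fun y hy => by rw [RingHom.id_apply] at hy; rw [hy, map_zero]) R.a (fun _ _ _ => rfl)

theorem exists_charZero {G : Type v} [Group G] {d r : ℕ} (hr : r.Prime)
    (hT : ∀ n, Nonempty (FRep (ZMod (r ^ (n + 1))) G d)) :
    ∃ (F : Type) (_ : Field F) (_ : CharZero F), Nonempty (FRep F G d) := by
  let R := ∀ n : ℕ, ZMod (r ^ (n + 1))
  let R0 : FRep R G d := FRep.pi (fun n => Classical.choice (hT n))
  have hne : ∀ m : ℕ, m ≠ 0 → (m : R) ≠ 0 := by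
    intro m hm h
    have h1 : ((m : ℕ) : ZMod (r ^ (m + 1))) = 0 := by
      have := congrFun h m
      rwa [Pi.natCast_apply, Pi.zero_apply] at this
    rw [ZMod.natCast_eq_zero_iff] at h1
    have h2 := Nat.le_of_dvd (Nat.pos_of_ne_zero hm) h1
    have h3 : m + 1 < r ^ (m + 1) := Nat.lt_pow_self hr.one_lt
    omega
  let S : Submonoid R := Submonoid.map (Nat.castRingHom R) (nonZeroDivisors ℕ)
  have hdis : Disjoint (((⊥ : Ideal R) : Set R)) (S : Set R) := by
    rw [Set.disjoint_left]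
    rintro x hx ⟨m, hm, rfl⟩
    have h1 : (m : R) = 0 := hx
    exact hne m (nonZeroDivisors.ne_zero hm) h1
  obtain ⟨p, hp, -, hpS⟩ := Ideal.exists_le_prime_disjoint (⊥ : Ideal R) S hdis
  have hcz : CharZero (R ⧸ p) := by
    refine charZero_of_inj_zero fun m hm => ?_
    by_contra h0
    have h1 : (m : R) ∈ p := by
      rw [← Ideal.Quotient.eq_zero_iff_mem, map_natCast]; exact hm
    exact Set.disjoint_left.1 hpS h1 ⟨m, mem_nonZeroDivisors_of_ne_zero h0, rfl⟩
  refine ⟨FractionRing (R ⧸ p), inferInstance, ?_, ⟨R0.map ((algebraMap (R ⧸ p) (FractionRing (R ⧸ p))).comp (Ideal.Quotient.mk p))⟩⟩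
  exact charZero_of_injective_algebraMap (IsFractionRing.injective (R ⧸ p) (FractionRing (R ⧸ p)))

theorem exists_Qbar {G : Type v} [Group G] [Finite G] {d : ℕ} {F : Type*} [Field F] [CharZero F] (R : FRep F G d) :
    Nonempty (FRep (AlgebraicClosure ℚ) G d) := by
  classical
  let Q := MvPolynomial (G × Fin d × Fin d) ℚ
  let φ : Q →ₐ[ℚ] F := MvPolynomial.aeval (fun p => R.a p.1 p.2.1 p.2.2)
  obtain ⟨M, hM, hle⟩ := Ideal.exists_le_maximal (RingHom.ker (φ : Q →+* F)) (RingHom.ker_ne_top _)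
  let L := Q ⧸ M
  letI : Field L := Ideal.Quotient.field M
  haveI : Algebra.FiniteType ℚ L := inferInstance
  haveI : Module.Finite ℚ L := finite_of_finite_type_of_isJacobsonRing ℚ L
  haveI : Algebra.IsAlgebraic ℚ L := inferInstance
  let ψ : Q →+* AlgebraicClosure ℚ := ((IsAlgClosed.lift : L →ₐ[ℚ] AlgebraicClosure ℚ) : L →+* AlgebraicClosure ℚ).comp (Ideal.Quotient.mk M)
  refine ⟨R.transfer (φ : Q →+* F) ψ ?_ (fun g => Matrix.of fun i j => MvPolynomial.X (g, i, j)) ?_⟩
  · intro y hy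
    have h1 : y ∈ M := hle hy
    change (IsAlgClosed.lift : L →ₐ[ℚ] AlgebraicClosure ℚ) (Ideal.Quotient.mk M y) = 0
    rw [Ideal.Quotient.eq_zero_iff_mem.2 h1, map_zero]
  · intro g i j
    exact MvPolynomial.aeval_X _ _

end Cfsg.Agent.H6.FR
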