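import Mathlib
import Cfsg.Agent.H6_FR2

/-!
Irreducible fixed-point-free representations.
-/

set_option autoImplicit false
set_option linter.unusedSectionVars false
set_option linter.style.haveILetI false

namespace Cfsg.Agent.H6.FR

open Subgroup Matrix Cfsg.Agent.H24.Zas

universe u v

theorem FRep.fpf {A : Type*} [Field A] {G : Type*} [Group G] {d : ℕ} (R : FRep A G d) (g : G) (hg : g ≠ 1)
    (ho : (orderOf g : A) ≠ 0) (v : Fin d → A) (hv : R.a g *ᵥ v = v) : v = 0 := by
  have h1 : ∀ i : ℕ, R.a (g ^ i) *ᵥ v = v := by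
    intro i
    induction i with
    | zero => rw [pow_zero, R.one, Matrix.one_mulVec]
    | succ i ih => rw [pow_succ, R.mul, ← Matrix.mulVec_mulVec, hv, ih]
  have h2 : (∑ i ∈ Finset.range (orderOf g), R.a (g ^ i)) *ᵥ v = (orderOf g : A) • v := by
    rw [Matrix.sum_mulVec, Finset.sum_congr rfl (fun i _ => h1 i), Finset.sum_const, Finset.card_range, ← Nat.cast_smul_eq_nsmul A]
  rw [R.tr g hg, Matrix.zero_mulVec] at h2
  rcases smul_eq_zero.1 h2.symm with h | h
  · exact absurd h ho
  · exact h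

theorem exists_irr {k : Type*} [Field k] {V : Type*} [AddCommGroup V] [Module k V] [FiniteDimensional k V] [Nontrivial V]
    {G : Type*} [Group G] (ρ : G →* Module.End k V) (hf : ∀ g : G, g ≠ 1 → ∀ v : V, ρ g v = v → v = 0) :
    ∃ (n : ℕ) (ρ' : G →* GL (Fin n) k), 0 < n ∧ Function.Injective ρ' ∧
      (∀ W : Submodule k (Fin n → k),
        (∀ g : G, ∀ w ∈ W, ((ρ' g : GL (Fin n) k) : Matrix (Fin n) (Fin n) k).mulVec w ∈ W) → W = ⊥ ∨ W = ⊤) ∧
      ∀ g : G, g ≠ 1 → ∀ v : Fin n → k,
        ((ρ' g : GL (Fin n) k) : Matrix (Fin n) (Fin n) k).mulVec v = v → v = 0 := by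
  classical
  have hex : ∃ n : ℕ, ∃ W : Submodule k V, W ≠ ⊥ ∧ (∀ g, ∀ w ∈ W, ρ g w ∈ W) ∧ Module.finrank k W = n :=
    ⟨_, ⊤, top_ne_bot, fun _ _ _ => Submodule.mem_top, rfl⟩
  obtain ⟨W, hW0, hWi, hWn⟩ := Nat.find_spec hex
  have hmin : ∀ W' : Submodule k V, W' ≠ ⊥ → (∀ g, ∀ w ∈ W', ρ g w ∈ W') → Nat.find hex ≤ Module.finrank k W' :=
    fun W' h1 h2 => Nat.find_min' hex ⟨W', h1, h2, rfl⟩
  generalize Nat.find hex = n at hWn hmin
  have hn0 : 0 < n := by
    rw [← hWn]
    have : Nontrivial W := Submodule.nontrivial_iff_ne_bot.2 hW0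
    exact Module.finrank_pos
  let b := Module.finBasisOfFinrankEq k W hWn
  let M : G →* Module.End k W :=
    { toFun := fun g => (ρ g).restrict (hWi g)
      map_one' := by
        refine LinearMap.ext fun v => Subtype.ext ?_
        change ρ 1 v = v
        rw [map_one]; rfl
      map_mul' := fun g h => by
        refine LinearMap.ext fun v => Subtype.ext ?_
        change ρ (g * h) v = ρ g (ρ h v)
        rw [map_mul]; rfl }
  let ρ' : G →* GL (Fin n) k := (((LinearMap.toMatrixAlgEquiv b : _ ≃ₐ[k] _) : _ →* _).comp M).toHomUnits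
  have key : ∀ g, ∀ x : W, ((ρ' g : GL (Fin n) k) : Matrix (Fin n) (Fin n) k) *ᵥ (b.equivFun x) = b.equivFun (M g x) :=
    fun g x => LinearMap.toMatrix_mulVec_repr b b (M g) x
  have hfp : ∀ g : G, g ≠ 1 → ∀ v : Fin n → k,
      ((ρ' g : GL (Fin n) k) : Matrix (Fin n) (Fin n) k).mulVec v = v → v = 0 := by
    intro g hg v hv
    obtain ⟨x, rfl⟩ := b.equivFun.surjective v
    rw [key] at hv
    have h1 := b.equivFun.injective hv
    have h2 : (x : V) = 0 := hf g hg x (congrArg Subtype.val h1)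
    have h3 : x = 0 := Subtype.ext h2
    rw [h3, map_zero]
  refine ⟨n, ρ', hn0, ?_, ?_, hfp⟩
  · rw [injective_iff_map_eq_one]
    intro g hg
    by_contra hg1
    have h1 := hfp g hg1 (Pi.single (⟨0, hn0⟩ : Fin n) 1) (by rw [hg]; exact Matrix.one_mulVec _)
    have h2 := congrFun h1 ⟨0, hn0⟩
    rw [Pi.single_eq_same] at h2
    exact one_ne_zero h2
  · intro W' hW'
    by_cases h0 : W' = ⊥
    · exact Or.inl h0
    · right
      let e : (Fin n → k) →ₗ[k] V := W.subtype.comp b.equivFun.symm.toLinearMap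
      have he : Function.Injective e := fun x y hxy => b.equivFun.symm.injective (Subtype.ext hxy)
      have h1 : W'.map e ≠ ⊥ := by
        intro h
        apply h0
        rw [eq_bot_iff]
        intro x hx
        have h3 : e x = 0 := by
          have : e x ∈ W'.map e := ⟨x, hx, rfl⟩
          rwa [h, Submodule.mem_bot] at this
        rw [Submodule.mem_bot]
        apply he
        rw [h3, map_zero]
      have h2 : ∀ g, ∀ w ∈ W'.map e, ρ g w ∈ W'.map e := by
        rintro g _ ⟨x, hx, rfl⟩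
        refine ⟨_, hW' g x hx, ?_⟩
        obtain ⟨y, rfl⟩ := b.equivFun.surjective x
        rw [key]
        change ((b.equivFun.symm (b.equivFun (M g y)) : W) : V) = ρ g ((b.equivFun.symm (b.equivFun y) : W) : V)
        rw [b.equivFun.symm_apply_apply, b.equivFun.symm_apply_apply]
        rfl
      have h3 := hmin _ h1 h2
      rw [← (Submodule.equivMapOfInjective e he W').finrank_eq] at h3
      apply Submodule.eq_top_of_finrank_eq
      rw [Module.finrank_fin_fun]
      refine le_antisymm ?_ h3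
      have := Submodule.finrank_le W'
      rwa [Module.finrank_fin_fun] at this

/-- matrices to endomorphisms -/
noncomputable def FRep.toEnd {A : Type*} [CommRing A] {G : Type*} [Group G] {d : ℕ} (R : FRep A G d) : G →* Module.End A (Fin d → A) where
  toFun g := Matrix.mulVecLin (R.a g)
  map_one' := by rw [R.one, Matrix.mulVecLin_one]; rfl
  map_mul' g h := by rw [R.mul, Matrix.mulVecLin_mul]; rfl

/-- Frobenius complements have `FRep`s in characteristic zero -/
theorem exists_FRep {G : Type*} [Group G] [Finite G]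
    (hFC : ∃ (L : Type) (_ : Group L) (_ : Finite L) (H : Subgroup L), Cfsg.IsFrobeniusComplement H ∧ Nonempty (G ≃* H)) :
    ∃ d, 0 < d ∧ Nonempty (FRep (AlgebraicClosure ℚ) G d) := by
  obtain ⟨L, _, _, H, hH, ⟨e⟩⟩ := hFC
  obtain ⟨N, hN, hNn, hact⟩ := exists_act H hH
  haveI := hN
  haveI := hNn
  haveI : Nontrivial G := by
    haveI : Nontrivial H := by rw [Subgroup.nontrivial_iff_ne_bot]; exact hH.1
    exact e.toEquiv.nontrivial
  obtain ⟨r, hr, hrG, d, hd, ρ, hρ⟩ := exists_zmod (K := N) ((MulAut.conjNormal : L →* MulAut N).comp (H.subtype.comp e.toMonoidHom)) (by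
    intro g hg k hk
    exact hact (e g) (fun h => hg (e.injective (by rw [h, map_one]))) k hk)
  obtain ⟨F, _, _, ⟨R⟩⟩ := exists_charZero hr (fun n => exists_tower hr hrG ρ hρ n)
  exact ⟨d, hd, exists_Qbar R⟩

end Cfsg.Agent.H6.FR
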