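import Mathlib
import Cfsg.Agent.H6_FR3
import Cfsg.Agent.H24_FrobEx2

/-!
Direct products of Frobenius complements.
-/

set_option autoImplicit false
set_option linter.unusedSectionVars false
set_option linter.style.haveILetI false

namespace Cfsg.Agent.H6.FR

open Subgroup Matrix Cfsg.Agent.H24.Zas

universe u v

theorem FRep.fpfL {A : Type*} [Field A] {G : Type*} [Group G] {d : ℕ} (R : FRep A G d) (g : G) (hg : g ≠ 1)
    (ho : (orderOf g : A) ≠ 0) {m : Type*} (X : Matrix (Fin d) m A) (hv : R.a g * X = X) : X = 0 := by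
  have h1 : ∀ i : ℕ, R.a (g ^ i) * X = X := by
    intro i
    induction i with
    | zero => rw [pow_zero, R.one, Matrix.one_mul]
    | succ i ih => rw [pow_succ, R.mul, Matrix.mul_assoc, hv, ih]
  have h2 : (∑ i ∈ Finset.range (orderOf g), R.a (g ^ i)) * X = (orderOf g : A) • X := by
    rw [Matrix.sum_mul, Finset.sum_congr rfl (fun i _ => h1 i), Finset.sum_const, Finset.card_range, ← Nat.cast_smul_eq_nsmul A]
  rw [R.tr g hg, Matrix.zero_mul] at h2
  rcases smul_eq_zero.1 h2.symm with h | h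
  · exact absurd h ho
  · exact h

theorem FRep.fpfR {A : Type*} [Field A] {G : Type*} [Group G] {d : ℕ} (R : FRep A G d) (g : G) (hg : g ≠ 1)
    (ho : (orderOf g : A) ≠ 0) {m : Type*} (X : Matrix m (Fin d) A) (hv : X * R.a g = X) : X = 0 := by
  have h1 : ∀ i : ℕ, X * R.a (g ^ i) = X := by
    intro i
    induction i with
    | zero => rw [pow_zero, R.one, Matrix.mul_one]
    | succ i ih => rw [pow_succ, R.mul, ← Matrix.mul_assoc, ih, hv]
  have h2 : X * (∑ i ∈ Finset.range (orderOf g), R.a (g ^ i)) = (orderOf g : A) • X := by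
    rw [Matrix.mul_sum, Finset.sum_congr rfl (fun i _ => h1 i), Finset.sum_const, Finset.card_range, ← Nat.cast_smul_eq_nsmul A]
  rw [R.tr g hg, Matrix.mul_zero] at h2
  rcases smul_eq_zero.1 h2.symm with h | h
  · exact absurd h ho
  · exact h

theorem jacobson_int : IsJacobsonRing ℤ := by
  rw [isJacobsonRing_iff_prime_eq]
  intro P hP
  by_cases h : P = ⊥
  · subst h
    rw [eq_bot_iff]
    intro x hx
    rw [Ideal.mem_jacobson_bot] at hx
    rw [Ideal.mem_bot]
    by_contra hx0
    have h1 := hx 3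
    have h2 := hx (-3)
    rw [Int.isUnit_iff] at h1 h2
    omega
  · have := hP.isMaximal h
    exact Ideal.jacobson_eq_self_of_isMaximal

/-- fields of finite type over `ℤ` are finite -/
theorem finite_field_of_finiteType {k : Type*} [Field k] [Algebra.FiniteType ℤ k] : Finite k := by
  haveI := jacobson_int
  haveI : Module.Finite ℤ k := finite_of_finite_type_of_isJacobsonRing ℤ k
  haveI : Algebra.IsIntegral ℤ k := inferInstance
  have h0 : ¬ CharZero k := by
    intro h
    have h1 : Function.Injective (algebraMap ℤ k) := by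
      intro a b hab
      rw [eq_intCast, eq_intCast] at hab
      exact Int.cast_injective hab
    have h2 := isField_of_isIntegral_of_isField h1 (Field.toIsField k)
    exact Int.not_isField h2
  obtain ⟨p, hp⟩ := CharP.exists k
  have hp0 : p ≠ 0 := by
    rintro rfl
    exact h0 (CharP.charP_to_charZero k)
  apply Module.finite_of_fg_torsion k
  intro x
  refine ⟨⟨(p : ℤ), mem_nonZeroDivisors_of_ne_zero (by exact_mod_cast hp0)⟩, ?_⟩
  change (p : ℤ) • x = 0
  rw [zsmul_eq_mul, Int.cast_natCast, CharP.cast_eq_zero, zero_mul]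

theorem exists_finite' {A : Type u} {B : Type v} [Group A] [Finite A] [Group B] [Finite B] {F : Type*} [Field F] [CharZero F]
    {d₁ d₂ : ℕ} (RA : FRep F A d₁) (RB : FRep F B d₂) (N : ℕ) (hN : N ≠ 0) :
    ∃ (k : Type (max u v)) (_ : Field k) (_ : Finite k), (N : k) ≠ 0 ∧ Nonempty (FRep k A d₁) ∧ Nonempty (FRep k B d₂) := by
  classical
  let σ : Type (max u v) := (A × Fin d₁ × Fin d₁) ⊕ (B × Fin d₂ × Fin d₂) ⊕ Unit
  let Q : Type (max u v) := MvPolynomial σ ℤ
  let φ : Q →ₐ[ℤ] F := MvPolynomial.aeval (Sum.elim (fun p => RA.a p.1 p.2.1 p.2.2) (Sum.elim (fun p => RB.a p.1 p.2.1 p.2.2) (fun _ => (N : F)⁻¹)))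
  obtain ⟨M, hM, hle⟩ := Ideal.exists_le_maximal (RingHom.ker (φ : Q →+* F)) (RingHom.ker_ne_top _)
  let k : Type (max u v) := Q ⧸ M
  have hft : Algebra.FiniteType ℤ (Q ⧸ M) := Algebra.FiniteType.of_surjective (Ideal.Quotient.mkₐ ℤ M) (Ideal.Quotient.mkₐ_surjective ℤ M)
  letI : Field k := Ideal.Quotient.field M
  haveI : Finite k := by
    have h : @Algebra.FiniteType ℤ k _ _ (Ring.toIntAlgebra k) := by
      have e : (Ring.toIntAlgebra k : Algebra ℤ k) = (inferInstance : Algebra ℤ (Q ⧸ M)) := Subsingleton.elim _ _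
      rw [e]; exact hft
    exact @finite_field_of_finiteType k _ h
  have hker : ∀ y : Q, φ y = 0 → Ideal.Quotient.mk M y = 0 := fun y hy => Ideal.Quotient.eq_zero_iff_mem.2 (hle hy)
  refine ⟨k, inferInstance, inferInstance, ?_, ⟨RA.transfer (φ : Q →+* F) (Ideal.Quotient.mk M) hker (fun g => Matrix.of fun i j => MvPolynomial.X (Sum.inl (g, i, j))) ?_⟩,
    ⟨RB.transfer (φ : Q →+* F) (Ideal.Quotient.mk M) hker (fun g => Matrix.of fun i j => MvPolynomial.X (Sum.inr (Sum.inl (g, i, j)))) ?_⟩⟩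
  · intro h0
    have h1 : φ ((N : Q) * MvPolynomial.X (Sum.inr (Sum.inr ())) - 1) = 0 := by
      rw [map_sub, map_mul, map_natCast, map_one]
      have : φ (MvPolynomial.X (Sum.inr (Sum.inr ()))) = (N : F)⁻¹ := MvPolynomial.aeval_X _ _
      rw [this, mul_inv_cancel₀ (Nat.cast_ne_zero.2 hN), sub_self]
    have h2 := hker _ h1
    rw [map_sub, map_mul, map_natCast, map_one, sub_eq_zero] at h2
    have h3 : (N : k) * Ideal.Quotient.mk M (MvPolynomial.X (Sum.inr (Sum.inr ()))) = 1 := h2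
    rw [h0, zero_mul] at h3
    exact zero_ne_one h3
  · intro g i j
    exact MvPolynomial.aeval_X _ _
  · intro g i j
    exact MvPolynomial.aeval_X _ _

/-- the action on rectangular matrices -/
noncomputable def actProd {k : Type*} [Field k] {A B : Type*} [Group A] [Group B] {d₁ d₂ : ℕ} (RA : FRep k A d₁) (RB : FRep k B d₂) :
    A × B →* Module.End k (Matrix (Fin d₁) (Fin d₂) k) where
  toFun x :=
    { toFun := fun X => RA.a x.1 * X * RB.a x.2⁻¹
      map_add' := fun X Y => by rw [Matrix.mul_add, Matrix.add_mul]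
      map_smul' := fun c X => by rw [Matrix.mul_smul, Matrix.smul_mul]; rfl }
  map_one' := by
    refine LinearMap.ext fun X => ?_
    change RA.a 1 * X * RB.a (1⁻¹) = X
    rw [inv_one, RA.one, RB.one, Matrix.one_mul, Matrix.mul_one]
  map_mul' x y := by
    refine LinearMap.ext fun X => ?_
    change RA.a (x.1 * y.1) * X * RB.a (x.2 * y.2)⁻¹ = RA.a x.1 * (RA.a y.1 * X * RB.a y.2⁻¹) * RB.a x.2⁻¹
    rw [RA.mul, _root_.mul_inv_rev, RB.mul]
    simp only [Matrix.mul_assoc]

theorem actProd_fpf {k : Type*} [Field k] {A B : Type*} [Group A] [Finite A] [Group B] [Finite B] {d₁ d₂ : ℕ} (RA : FRep k A d₁) (RB : FRep k B d₂)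
    (hcop : (Nat.card A).Coprime (Nat.card B)) (hA : (Nat.card A : k) ≠ 0) (hB : (Nat.card B : k) ≠ 0)
    (x : A × B) (hx : x ≠ 1) (X : Matrix (Fin d₁) (Fin d₂) k) (hX : actProd RA RB x X = X) : X = 0 := by
  have hp : ∀ n : ℕ, actProd RA RB (x ^ n) X = X := by
    intro n
    induction n with
    | zero => rw [pow_zero, map_one]; rfl
    | succ n ih =>
      rw [pow_succ, map_mul]
      change actProd RA RB (x ^ n) (actProd RA RB x X) = X
      rw [hX, ih]
  have hoA : ∀ g : A, (orderOf g : k) ≠ 0 := by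
    intro g h
    obtain ⟨c, hc⟩ := orderOf_dvd_natCard g
    rw [hc, Nat.cast_mul, h, zero_mul] at hA
    exact hA rfl
  have hoB : ∀ g : B, (orderOf g : k) ≠ 0 := by
    intro g h
    obtain ⟨c, hc⟩ := orderOf_dvd_natCard g
    rw [hc, Nat.cast_mul, h, zero_mul] at hB
    exact hB rfl
  by_cases h1 : x.1 = 1
  · have h2 : x.2 ≠ 1 := fun h => hx (Prod.ext h1 h)
    have h3 : RA.a x.1 * X * RB.a x.2⁻¹ = X := hX
    rw [h1, RA.one, Matrix.one_mul] at h3
    exact RB.fpfR _ (inv_ne_one.2 h2) (hoB _) X h3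
  · have h3 : RA.a (x ^ Nat.card B).1 * X * RB.a (x ^ Nat.card B).2⁻¹ = X := hp _
    rw [Prod.pow_fst, Prod.pow_snd, pow_card_eq_one', inv_one, RB.one, Matrix.mul_one] at h3
    refine RA.fpfL _ ?_ (hoA _) X h3
    intro h4
    apply h1
    rw [← orderOf_eq_one_iff, ← Nat.dvd_one, ← hcop]
    exact Nat.dvd_gcd (orderOf_dvd_natCard _) (orderOf_dvd_of_pow_eq_one h4)

end Cfsg.Agent.H6.FR
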