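import Mathlib

/-!
Additive maps of finite fields of characteristic two.
-/

set_option autoImplicit false

namespace Cfsg.Agent.H6.Fld2

variable {F : Type*} [Field F] [Fintype F] [CharP F 2]

theorem li : LinearIndependent F (fun σ : F ≃+* F => ((σ : F →+* F) : F → F)) := by
  have h := linearIndependent_monoidHom F F
  have h2 := h.comp (fun σ : F ≃+* F => ((σ : F →+* F) : F →* F)) (by
    intro σ τ h
    ext x
    exact DFunLike.congr_fun h x)
  exact h2

theorem card_aut : Nat.card (F ≃+* F) = @Module.finrank (ZMod 2) F _ _ (@Algebra.toModule _ _ _ _ (ZMod.algebra F 2)) := by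
  letI : Algebra (ZMod 2) F := ZMod.algebra F 2
  rw [← IsGalois.card_aut_eq_finrank (ZMod 2) F]
  apply Nat.card_congr
  exact
    { toFun := fun σ => AlgEquiv.ofRingEquiv (f := σ) (fun x => by
        have : (σ : F →+* F).comp (algebraMap (ZMod 2) F) = algebraMap (ZMod 2) F := Subsingleton.elim _ _
        exact RingHom.congr_fun this x)
      invFun := fun σ => (σ : F ≃+* F)
      left_inv := fun σ => by ext x; rfl
      right_inv := fun σ => by ext x; rfl }

theorem add_map (f : F →+ F) : ∃ c : (F ≃+* F) → F, ∀ x : F, f x = ∑ᶠ σ, c σ * σ x := by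
  classical
  letI : Algebra (ZMod 2) F := ZMod.algebra F 2
  have : Finite (F ≃+* F) := Finite.of_injective (fun σ : F ≃+* F => (σ : F → F)) (fun σ τ h => by
    ext x; exact congrFun h x)
  have : Fintype (F ≃+* F) := Fintype.ofFinite _
  let b : (F ≃+* F) → (F →ₗ[ZMod 2] F) := fun σ => AddMonoidHom.toZModLinearMap 2 ((σ : F →+* F) : F →+ F)
  have hb : LinearIndependent F b := by
    apply LinearIndependent.of_comp (LinearMap.ltoFun (ZMod 2) F F F)
    exact li
  have hc : Fintype.card (F ≃+* F) = Module.finrank F (F →ₗ[ZMod 2] F) := by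
    rw [Module.finrank_linearMap_self, ← Nat.card_eq_fintype_card, card_aut]
  have hs := hb.span_eq_top_of_card_eq_finrank' hc
  have hf : AddMonoidHom.toZModLinearMap 2 f ∈ Submodule.span F (Set.range b) := by rw [hs]; trivial
  rw [Submodule.mem_span_range_iff_exists_fun] at hf
  obtain ⟨c, hc⟩ := hf
  refine ⟨c, fun x => ?_⟩
  have h1 := LinearMap.congr_fun hc x
  rw [finsum_eq_sum_of_fintype]
  change f x = _
  rw [LinearMap.sum_apply] at h1
  exact h1.symm

theorem fin_aut : Finite (F ≃+* F) :=
  Finite.of_injective (fun σ : F ≃+* F => (σ : F → F)) (fun σ τ h => by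
    ext x; exact congrFun h x)

theorem add_map' [Fintype (F ≃+* F)] (f : F →+ F) :
    ∃ c : (F ≃+* F) → F, ∀ x : F, f x = ∑ σ, c σ * σ x := by
  obtain ⟨c, hc⟩ := add_map f
  refine ⟨c, fun x => ?_⟩
  rw [hc, finsum_eq_sum_of_fintype]

theorem coef_unique [Fintype (F ≃+* F)] (c d : (F ≃+* F) → F)
    (h : ∀ x : F, ∑ σ, c σ * σ x = ∑ σ, d σ * σ x) : c = d := by
  have h1 := Fintype.linearIndependent_iff.1 (li (F := F)) (fun σ => c σ - d σ) (by
    funext x
    simp only [Finset.sum_apply, Pi.smul_apply, smul_eq_mul, Pi.zero_apply, sub_mul,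
      Finset.sum_sub_distrib]
    rw [sub_eq_zero]
    exact h x)
  funext σ
  exact sub_eq_zero.1 (h1 σ)

theorem biadd_map' [Fintype (F ≃+* F)] (B : F →+ F →+ F) :
    ∃ c : (F ≃+* F) × (F ≃+* F) → F, ∀ x y : F, B x y = ∑ p, c p * (p.1 x * p.2 y) := by
  choose c hc using fun x => add_map' (B x)
  have hadd : ∀ x x', c (x + x') = c x + c x' := by
    intro x x'
    apply coef_unique
    intro y
    rw [← hc, map_add]
    simp only [AddMonoidHom.add_apply, Pi.add_apply, add_mul, Finset.sum_add_distrib, ← hc]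
  have h0 : c 0 = 0 := by
    have := hadd 0 0
    rw [add_zero] at this
    exact left_eq_add.1 this
  let g : (F ≃+* F) → (F →+ F) := fun σ =>
    { toFun := fun x => c x σ
      map_zero' := by rw [h0]; rfl
      map_add' := fun x y => by rw [hadd]; rfl }
  choose d hd using fun σ => add_map' (g σ)
  refine ⟨fun p => d p.2 p.1, fun x y => ?_⟩
  rw [hc, Fintype.sum_prod_type_right]
  refine Finset.sum_congr rfl fun σ _ => ?_
  have : c x σ = ∑ τ, d σ τ * τ x := hd σ x
  rw [this, Finset.sum_mul]
  refine Finset.sum_congr rfl fun τ _ => ?_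
  ring

end Cfsg.Agent.H6.Fld2
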