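import Mathlib
import Cfsg.Agent.H6_Inv10

/-! Involutions of groups of type F4: tables. -/

set_option autoImplicit false
set_option maxRecDepth 100000
set_option linter.unusedSimpArgs false

namespace Cfsg.Agent.H6.Chev

open Cfsg Cfsg.Lie Cfsg.Lie.ChevalleyDatum

def ivF4 : ℕ := 0xe0b06030f0a07020c0904010d080500

theorem ckivF4 : tabF4.ckVec ivF4 = true := by
  decide +kernel


def hmF40 : ℕ := 0x2030100

def subF40 : SubD where
  M := 1
  W := [([], 3), ([], 2), ([1], 2), ([], 0)]
  B := [24, 25, 30, 33]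
  sT := 0x2f2e2d28201f1e2c2726251d1c1b0e2b2a292423221a19181716150d0c0b060504211413120a09080311100f070201002f2b2a2c2e2d2924272621282322251a18111d141320191f10160f1c1b121e17150a0d0c070e09080b060201030504002f2d2e2c2a2b2928262725242223211f201e1d1b1c18161a151917131412110f100e0c0d0b0a080907060405030102002e2f2d2c2b292a2827252623242221201e1f1c1d1b191a1718151614121310110f0e0d0b0c090a080705060403020001

def stsF40 : List StD := [
  ⟨13, 8, 0x8070600000005000000000000000000000000000000000000040000000302010000000000000000, [1, 1, 1, 1, 1, 1, 1, 1]⟩,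
  ⟨12, 0, 0x605000000000004000000000000000000000300000201, [1, 1, 1, 1, 1, 1]⟩,
  ⟨8, 1, 0x4000000000003000000000000000000000200000100, [1, 1, 1, 1]⟩,
  ⟨0, 3, 0x200000001000000, [1, 1]⟩]

theorem ckclsF40 : tabF4.ckCls subF40.M hmF40 3 = true := by
  decide +kernel

theorem cksubF40 : tabF4.ckSub subF40 = true := by
  decide +kernel

theorem ckchF40 : tabF4.ckCh subF40 15 stsF40 = true := by
  decide +kernel

theorem ckpF40 : tabF4.ckP subF40.M 16 = true := by
  decide +kernel

theorem pr1F40 : prP stsF40 1 = 384 := by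
  decide +kernel


set_option maxHeartbeats 4000000 in
theorem przF40 (x : ℤ) : (x - 1) ^ 4 * (poly [1, 1, 1, 1, 1, 1, 1, 1] x * poly [1, 1, 1, 1, 1, 1] x * poly [1, 1, 1, 1] x * poly [1, 1] x) = (x ^ 2 - 1) * (x ^ 4 - 1) * (x ^ 6 - 1) * (x ^ 8 - 1) := by
  simp only [poly, Nat.cast_ofNat, Nat.cast_one, Nat.cast_zero]
  ring


def hmF41 : ℕ := 0x4030702050406030302080100000000

def subF41 : SubD where
  M := 4
  W := [([], 2), ([3, 2], 1), ([1], 2), ([], 0)]
  B := [25, 29, 30, 33]
  sT := 0x2f2e2d28201f1e2c2726251d1c1b0e2b2a292423221a19181716150d0c0b060504211413120a09080311100f070201002f2b2a2c2e2d2924272621282322251a18111d141320191f10160f1c1b121e17150a0d0c070e09080b06020103050400292e2d2c2b2a2f252322282127262417151e121c1b10190f20161f14131d111a180b09080e070d0c0a000504030201062f2d2e2c2a2b2928262725242223211f201e1d1b1c18161a151917131412110f100e0c0d0b0a08090706040503010200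

def stsF41 : List StD := [
  ⟨14, 22, 0x200000100000000000000000000000000000000000000000000, [1, 1]⟩,
  ⟨12, 0, 0x60000000000050000000000000000000004000000000000000000000000030000000000000000000002000000000001, [1, 1, 1, 1, 1, 1]⟩,
  ⟨8, 1, 0x4000000000003000000000000000000000200000100, [1, 1, 1, 1]⟩,
  ⟨0, 3, 0x200000001000000, [1, 1]⟩]

theorem ckclsF41 : tabF4.ckCls subF41.M hmF41 12 = true := by
  decide +kernel

theorem cksubF41 : tabF4.ckSub subF41 = true := by
  decide +kernel

theorem ckchF41 : tabF4.ckCh subF41 15 stsF41 = true := by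
  decide +kernel

theorem ckpF41 : tabF4.ckP subF41.M 10 = true := by
  decide +kernel

theorem pr1F41 : prP stsF41 1 = 96 := by
  decide +kernel


set_option maxHeartbeats 4000000 in
theorem przF41 (x : ℤ) : (x - 1) ^ 4 * (poly [1, 1] x * poly [1, 1, 1, 1, 1, 1] x * poly [1, 1, 1, 1] x * poly [1, 1] x) = (x ^ 2 - 1) ^ 2 * (x ^ 4 - 1) * (x ^ 6 - 1) := by
  simp only [poly, Nat.cast_ofNat, Nat.cast_one, Nat.cast_zero]
  ring


theorem ckcovF4 : tabF4.ckCov2 hmF40 hmF41 = true := by
  decide +kernel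


end Cfsg.Agent.H6.Chev
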