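import Cfsg.Agent.H6_R5
import Cfsg.Agent.H3_Fpf
import Cfsg.Agent.H1_Partition
import Cfsg.Agent.H1_Nilp

/-!
The rank-one set-up: change of base point, nilpotency of `Q`, central involutions.
-/

set_option autoImplicit false
set_option linter.unusedSectionVars false

namespace Cfsg.Agent.H6.R1

open Cfsg
open scoped Pointwise

variable {G Ω : Type*} [Group G] [Finite G] [MulAction G Ω] {a : Ω} {t : G} {Q : Subgroup G}

local notation "𝔾" => MulAction.stabilizer G a
local notation "𝔻" => (MulAction.stabilizer G a ⊓ MulAction.stabilizer G (t • a))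
local notation "𝕂" => invertedBy (MulAction.stabilizer G a ⊓ MulAction.stabilizer G (t • a)) t
local notation "𝕀" => involutionsIn (MulAction.stabilizer G a : Set G)

section

variable (S : IsRankOneSetup G Ω a t Q)

include S

/-- change of the base point and the involution -/
theorem transport (g : G) {t' : G} (h1 : t' * t' = 1) (h2 : t' ≠ 1) (h3 : t' • g • a ≠ g • a) :
    IsRankOneSetup G Ω (g • a) t' (Q.map (MulAut.conj g).toMonoidHom) := by
  have hstab : ∀ x : G, x ∈ MulAction.stabilizer G (g • a) ↔ g⁻¹ * x * g ∈ 𝔾 := by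
    intro x
    rw [MulAction.mem_stabilizer_iff, MulAction.mem_stabilizer_iff, mul_smul, mul_smul, inv_smul_eq_iff]
  have hmap : ∀ x : G, x ∈ Q.map (MulAut.conj g).toMonoidHom ↔ g⁻¹ * x * g ∈ Q := by
    intro x
    rw [Subgroup.mem_map]
    constructor
    · rintro ⟨y, hy, rfl⟩
      change g⁻¹ * (g * y * g⁻¹) * g ∈ Q
      have e : g⁻¹ * (g * y * g⁻¹) * g = y := by group
      rw [e]; exact hy
    · intro h
      exact ⟨_, h, by change g * (g⁻¹ * x * g) * g⁻¹ = x; group⟩
  have hne : g⁻¹ • t' • g • a ≠ a := by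
    intro h
    exact h3 (by rw [inv_smul_eq_iff] at h; exact h)
  refine ⟨S.two_transitive, h1, h2, h3, ?_, ?_, ?_, ?_, ?_, ?_⟩
  · intro x hx
    rw [hmap] at hx
    rw [hstab]
    exact S.le hx
  · intro h hh x hx
    rw [hmap] at hx ⊢
    rw [hstab] at hh
    have e : g⁻¹ * (h * x * h⁻¹) * g = (g⁻¹ * h * g) * (g⁻¹ * x * g) * (g⁻¹ * h * g)⁻¹ := by group
    rw [e]
    exact S.conj_mem _ hh _ hx
  · rw [Subgroup.eq_bot_iff_forall]
    rintro x ⟨hx, hx2⟩
    have hx := (hmap x).1 hx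
    have hx2 : x • t' • g • a = t' • g • a := hx2
    have h4 := eq_one_of_fix S hx hne (by rw [mul_smul, mul_smul, smul_inv_smul, hx2])
    have e : x = g * (g⁻¹ * x * g) * g⁻¹ := by group
    rw [e, h4]; group
  · apply le_antisymm
    · apply sup_le
      · intro x hx
        rw [hmap] at hx
        rw [hstab]
        exact S.le hx
      · exact inf_le_left
    · intro h hh
      have hh' := (hstab h).1 hh
      have hh1 : (g⁻¹ * h * g) • g⁻¹ • t' • g • a ≠ a := by
        intro h4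
        apply hne
        have h5 : (g⁻¹ * h * g) • a = a := hh'
        rw [← h5] at h4
        have h6 := smul_left_cancel _ h4
        rw [h5] at h6
        exact h6
      obtain ⟨x, hx, he⟩ := trans S hne hh1
      have e : h = (g * x * g⁻¹) * ((g * x * g⁻¹)⁻¹ * h) := by group
      rw [e]
      apply mul_mem
      · apply Subgroup.mem_sup_left
        rw [hmap]
        have e2 : g⁻¹ * (g * x * g⁻¹) * g = x := by group
        rw [e2]; exact hx
      · apply Subgroup.mem_sup_right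
        refine ⟨?_, ?_⟩
        · change _ ∈ MulAction.stabilizer G (g • a)
          rw [hstab]
          have e3 : g⁻¹ * ((g * x * g⁻¹)⁻¹ * h) * g = x⁻¹ * (g⁻¹ * h * g) := by group
          rw [e3]
          exact mul_mem (inv_mem (S.le hx)) hh'
        · change ((g * x * g⁻¹)⁻¹ * h) • t' • g • a = t' • g • a
          have he' : (g * x * g⁻¹) • t' • g • a = h • t' • g • a := by
            have h7 := congrArg (g • ·) he
            simp only [smul_smul] at h7 ⊢
            have e4 : g * (g⁻¹ * h * g) * g⁻¹ = h := by group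
            rw [← mul_assoc, ← mul_assoc] at h7
            convert h7 using 2
            group
          rw [mul_smul, ← he', inv_smul_smul]
  · have := Nat.card_congr (Q.equivMapOfInjective (MulAut.conj g).toMonoidHom (MulAut.conj g).injective).toEquiv
    rw [← this]; exact S.even_card
  · obtain ⟨k, hk1, hk2⟩ := two_trans S (ta_ne S).symm (Ne.symm h3)
    have : MulAction.stabilizer G (g • a) ⊓ MulAction.stabilizer G (t' • g • a) =
        (𝔻).map (MulAut.conj k).toMonoidHom := by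
      ext x
      rw [Subgroup.mem_map]
      constructor
      · rintro ⟨hx1, hx2⟩
        have hx1 : x • g • a = g • a := hx1
        have hx2 : x • t' • g • a = t' • g • a := hx2
        refine ⟨k⁻¹ * x * k, ⟨?_, ?_⟩, by change k * (k⁻¹ * x * k) * k⁻¹ = x; group⟩
        · change (k⁻¹ * x * k) • a = a
          rw [mul_smul, hk1, mul_smul, hx1, ← hk1, inv_smul_smul]
        · change (k⁻¹ * x * k) • t • a = t • a
          rw [mul_smul, hk2, mul_smul, hx2, ← hk2, inv_smul_smul]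
      · rintro ⟨y, ⟨hy1, hy2⟩, rfl⟩
        have hy1 : y • a = a := hy1
        have hy2 : y • t • a = t • a := hy2
        refine ⟨?_, ?_⟩
        · change (k * y * k⁻¹) • g • a = g • a
          rw [← hk1, mul_smul, inv_smul_smul, mul_smul, hy1]
        · change (k * y * k⁻¹) • t' • g • a = t' • g • a
          rw [← hk2, mul_smul, inv_smul_smul, mul_smul, hy2]
    rw [this, ← Nat.card_congr ((𝔻).equivMapOfInjective (MulAut.conj k).toMonoidHom (MulAut.conj k).injective).toEquiv]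
    exact S.odd_card

end

section two

variable (S : IsRankOneSetup G Ω a t Q)
  (h2 : ∃ x y : G, x ≠ 1 ∧ y ≠ 1 ∧ x ≠ y ∧ x * x = 1 ∧ y * y = 1 ∧ x * y = y * x)

include S h2

/-- two distinct commuting involutions of `G_a` -/
theorem exists_two : ∃ s ∈ 𝕀, ∃ s' ∈ 𝕀, s ≠ s' ∧ s * s' = s' * s := by
  obtain ⟨x, y, hx1, hy1, hxy, hx2, hy2, hc⟩ := h2
  obtain ⟨g, hg⟩ := exists_conj_Q S hx2
  have hfx : x • g • a = g • a := by
    have := Qa S hg
    rw [mul_smul, mul_smul, inv_smul_eq_iff] at this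
    exact this
  have hfy : y • g • a = g • a := comm_fix S hx1 hx2 hfx hc.symm
  refine ⟨g⁻¹ * x * g, ⟨?_, ?_, ?_⟩, g⁻¹ * y * g, ⟨?_, ?_, ?_⟩, ?_, ?_⟩
  · change (g⁻¹ * x * g) • a = a
    rw [mul_smul, mul_smul, hfx, inv_smul_smul]
  · intro h
    apply hx1
    have e : x = g * (g⁻¹ * x * g) * g⁻¹ := by group
    rw [e, h]; group
  · have e : g⁻¹ * x * g * (g⁻¹ * x * g) = g⁻¹ * (x * x) * g := by group
    rw [e, hx2]; group
  · change (g⁻¹ * y * g) • a = a
    rw [mul_smul, mul_smul, hfy, inv_smul_smul]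
  · intro h
    apply hy1
    have e : y = g * (g⁻¹ * y * g) * g⁻¹ := by group
    rw [e, h]; group
  · have e : g⁻¹ * y * g * (g⁻¹ * y * g) = g⁻¹ * (y * y) * g := by group
    rw [e, hy2]; group
  · intro h
    apply hxy
    have := mul_right_cancel h
    exact mul_left_cancel this
  · calc g⁻¹ * x * g * (g⁻¹ * y * g) = g⁻¹ * (x * y) * g := by group
      _ = g⁻¹ * (y * x) * g := by rw [hc]
      _ = _ := by group

theorem exists_K_ne : ∃ k ∈ 𝕂, k ≠ 1 := by
  obtain ⟨s, hs, s', hs', hne, -⟩ := exists_two S h2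
  have hc : Nat.card 𝕂 = Nat.card 𝕀 := card_K S
  by_contra hcon
  push Not at hcon
  have h1 : Nat.card 𝕂 ≤ 1 := by
    have : Subsingleton 𝕂 := ⟨fun x y => Subtype.ext ((hcon x x.2).trans (hcon y y.2).symm)⟩
    exact Finite.card_le_one_iff_subsingleton.2 this
  rw [hc] at h1
  have h3 := Finite.card_le_one_iff_subsingleton.1 h1
  exact hne (congrArg Subtype.val (h3.elim ⟨s, hs⟩ ⟨s', hs'⟩))

/-- an element of `𝕂` of prime order -/
theorem exists_K_prime : ∃ p : ℕ, p.Prime ∧ ∃ k ∈ 𝕂, orderOf k = p := by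
  obtain ⟨k, hk, hk1⟩ := exists_K_ne S h2
  have h1 : orderOf k ≠ 1 := fun h => hk1 (orderOf_eq_one_iff.1 h)
  obtain ⟨p, hp, n, hn⟩ := Nat.exists_prime_and_dvd h1
  have hpos : 0 < orderOf k := orderOf_pos k
  have hn0 : n ≠ 0 := by rintro rfl; omega
  refine ⟨p, hp, k ^ n, K_pow S hk n, ?_⟩
  rw [orderOf_pow' k hn0, hn, Nat.gcd_eq_right (Dvd.intro_left p rfl)]
  exact Nat.mul_div_cancel p (Nat.pos_of_ne_zero hn0)

/-- S1129 -/
theorem nilp : Group.IsNilpotent Q := by
  obtain ⟨p, hp, k, hk, hord⟩ := exists_K_prime S h2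
  have hk1 : k ≠ 1 := by
    rintro rfl
    rw [orderOf_one] at hord
    exact hp.one_lt.ne hord
  have hka : k ∈ 𝔾 := hk.1.1
  let φ : ↥Q ≃* ↥Q :=
    { toFun := fun x => ⟨k * x * k⁻¹, S.conj_mem k hka x x.2⟩
      invFun := fun x => ⟨k⁻¹ * x * k, by
        have := S.conj_mem k⁻¹ (inv_mem hka) x x.2
        rwa [inv_inv] at this⟩
      left_inv := fun x => Subtype.ext (by change k⁻¹ * (k * x * k⁻¹) * k = x; group)
      right_inv := fun x => Subtype.ext (by change k * (k⁻¹ * x * k) * k⁻¹ = x; group)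
      map_mul' := fun x y => Subtype.ext (by change k * (x * y) * k⁻¹ = k * x * k⁻¹ * (k * y * k⁻¹); group) }
  have hpow : ∀ n : ℕ, ∀ x : ↥Q, (((φ ^ n) x : ↥Q) : G) = k ^ n * x * (k ^ n)⁻¹ := by
    intro n
    induction n with
    | zero => intro x; rw [pow_zero, pow_zero]; change (x : G) = _; group
    | succ n ih =>
      intro x
      rw [pow_succ, pow_succ]
      change (((φ ^ n) (φ x) : ↥Q) : G) = _
      rw [ih]
      change k ^ n * (k * x * k⁻¹) * (k ^ n)⁻¹ = _
      group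
  apply Cfsg.Agent.H3.Fpf.nilpotent_of_fp p hp _ ↥Q φ rfl
  refine ⟨fun g hg => ?_, ?_⟩
  · have h3 : (g : G) ∈ Q ⊓ Subgroup.centralizer {k} := by
      refine ⟨g.2, (mem_cen S).2 ?_⟩
      have h4 : k * g * k⁻¹ = g := congrArg Subtype.val hg
      calc (g : G) * k = (k * g * k⁻¹) * k := by rw [h4]
        _ = k * g := by group
    rw [fpf S hk hk1] at h3
    exact Subtype.ext (Subgroup.mem_bot.1 h3)
  · ext x
    rw [hpow, ← hord, pow_orderOf_eq_one]
    change 1 * (x : G) * 1⁻¹ = x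
    group

/-- S1130 -/
theorem I_central {s : G} (hs : s ∈ 𝕀) {x : G} (hx : x ∈ Q) : s * x = x * s := by
  have hn := nilp S h2
  -- a central involution of `Q`
  have hcen : ∃ z : ↥Q, z ∈ Subgroup.center ↥Q ∧ z ≠ 1 ∧ z * z = 1 := by
    have hev : 2 ∣ Nat.card ↥Q := S.even_card.two_dvd
    have : Fact (Nat.Prime 2) := ⟨Nat.prime_two⟩
    obtain ⟨P⟩ : Nonempty (Sylow 2 ↥Q) := inferInstance
    have hPn : (P : Subgroup ↥Q).Normal :=
      Group.isNilpotent_of_finite_tfae.out 0 3 rfl rfl |>.mp hn 2 inferInstance P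
    have hPb : (P : Subgroup ↥Q) ≠ ⊥ := by
      intro hb
      have h3 := P.card_eq_multiplicity
      rw [hb, Subgroup.card_bot] at h3
      have h4 : 1 ≤ (Nat.card ↥Q).factorization 2 :=
        (Nat.Prime.dvd_iff_one_le_factorization Nat.prime_two Nat.card_pos.ne').1 hev
      have h5 : 1 < 2 ^ (Nat.card ↥Q).factorization 2 := Nat.one_lt_pow (by omega) (by norm_num)
      omega
    have h6 := Cfsg.Agent.H1.Nilp.normal_inf_center_ne_bot (P : Subgroup ↥Q) hPb
    have h7 : IsPGroup 2 ↥((P : Subgroup ↥Q) ⊓ Subgroup.center ↥Q) :=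
      P.isPGroup'.to_le inf_le_left
    obtain ⟨n, hn⟩ := IsPGroup.iff_card.1 h7
    have hn0 : n ≠ 0 := by
      rintro rfl
      rw [pow_zero] at hn
      exact h6 (Subgroup.card_eq_one.1 hn)
    have h8 : 2 ∣ Nat.card ↥((P : Subgroup ↥Q) ⊓ Subgroup.center ↥Q) := by
      rw [hn]; exact dvd_pow_self 2 hn0
    obtain ⟨z, hz⟩ := exists_prime_orderOf_dvd_card' 2 h8
    refine ⟨z, z.2.2, ?_, ?_⟩
    · intro h9
      have : z = 1 := Subtype.ext h9
      rw [this, orderOf_one] at hz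
      norm_num at hz
    · have h9 := pow_orderOf_eq_one z
      rw [hz, pow_two] at h9
      exact congrArg Subtype.val h9
  obtain ⟨z, hz, hz1, hz2⟩ := hcen
  have hzI : (z : G) ∈ 𝕀 := (mem_I S).2 ⟨z.2, fun h => hz1 (Subtype.ext h), congrArg Subtype.val hz2⟩
  obtain ⟨k, hk, he⟩ := K_trans S z hzI s hs
  have h7 : k * x * k⁻¹ ∈ Q := S.conj_mem k hk.1.1 x hx
  have h8 : (z : G) * (k * x * k⁻¹) = (k * x * k⁻¹) * z :=
    (congrArg Subtype.val (Subgroup.mem_center_iff.1 hz ⟨_, h7⟩)).symm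
  calc s * x = k⁻¹ * (z * (k * x * k⁻¹)) * k := by rw [← he]; group
    _ = k⁻¹ * ((k * x * k⁻¹) * z) * k := by rw [h8]
    _ = x * s := by rw [← he]; group

/-- S1130, second part -/
theorem I_closed {s s' : G} (hs : s ∈ 𝕀) (hs' : s' ∈ 𝕀) : s * s' = 1 ∨ s * s' ∈ 𝕀 := by
  by_cases h : s * s' = 1
  · exact Or.inl h
  · refine Or.inr ((mem_I S).2 ⟨mul_mem ((mem_I S).1 hs).1 ((mem_I S).1 hs').1, h, ?_⟩)
    have h1 := I_central S h2 hs ((mem_I S).1 hs').1
    calc s * s' * (s * s') = s * (s' * s) * s' := by group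
      _ = s * (s * s') * s' := by rw [h1]
      _ = (s * s) * (s' * s') := by group
      _ = 1 := by rw [hs.2.2, hs'.2.2, one_mul]

/-- two involutions with the same fixed point commute -/
theorem comm_of_fix {u v : G} (hu1 : u ≠ 1) (hu2 : u * u = 1) (hv1 : v ≠ 1) (hv2 : v * v = 1) {c : Ω}
    (hu : u • c = c) (hv : v • c = c) : u * v = v * u := by
  have := pretrans S
  obtain ⟨g, hg⟩ := MulAction.exists_smul_eq G a c
  subst hg
  have hI : ∀ w : G, w ≠ 1 → w * w = 1 → w • g • a = g • a → g⁻¹ * w * g ∈ 𝕀 := by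
    intro w hw1 hw2 hw
    refine ⟨?_, ?_, ?_⟩
    · change (g⁻¹ * w * g) • a = a
      rw [mul_smul, mul_smul, hw, inv_smul_smul]
    · intro h
      apply hw1
      have e : w = g * (g⁻¹ * w * g) * g⁻¹ := by group
      rw [e, h]; group
    · have e : g⁻¹ * w * g * (g⁻¹ * w * g) = g⁻¹ * (w * w) * g := by group
      rw [e, hw2]; group
  have h3 := I_central S h2 (hI u hu1 hu2 hu) ((mem_I S).1 (hI v hv1 hv2 hv)).1
  calc u * v = g * (g⁻¹ * u * g * (g⁻¹ * v * g)) * g⁻¹ := by group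
    _ = g * (g⁻¹ * v * g * (g⁻¹ * u * g)) * g⁻¹ := by rw [h3]
    _ = v * u := by group

/-- the involutions fixing `c` are permuted transitively by `G_{c,d}` -/
theorem conj_two {c d : Ω} (hcd : c ≠ d) {u v : G} (hu1 : u ≠ 1) (hu2 : u * u = 1) (hv1 : v ≠ 1) (hv2 : v * v = 1)
    (hu : u • c = c) (hv : v • c = c) : ∃ k : G, k • c = c ∧ k • d = d ∧ k * u * k⁻¹ = v := by
  obtain ⟨g, hg1, hg2⟩ := two_trans S (ta_ne S).symm hcd
  subst hg1
  subst hg2
  have hI : ∀ w : G, w ≠ 1 → w * w = 1 → w • g • a = g • a → g⁻¹ * w * g ∈ 𝕀 := by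
    intro w hw1 hw2 hw
    refine ⟨?_, ?_, ?_⟩
    · change (g⁻¹ * w * g) • a = a
      rw [mul_smul, mul_smul, hw, inv_smul_smul]
    · intro h
      apply hw1
      have e : w = g * (g⁻¹ * w * g) * g⁻¹ := by group
      rw [e, h]; group
    · have e : g⁻¹ * w * g * (g⁻¹ * w * g) = g⁻¹ * (w * w) * g := by group
      rw [e, hw2]; group
  obtain ⟨k, hk, he⟩ := K_trans S _ (hI u hu1 hu2 hu) _ (hI v hv1 hv2 hv)
  have hka : k • a = a := hk.1.1
  have hkb : k • t • a = t • a := hk.1.2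
  refine ⟨g * k⁻¹ * g⁻¹, ?_, ?_, ?_⟩
  · rw [mul_smul, mul_smul, inv_smul_smul, inv_smul_eq_iff.2 hka.symm]
  · rw [mul_smul, mul_smul, inv_smul_smul, inv_smul_eq_iff.2 hkb.symm]
  · calc g * k⁻¹ * g⁻¹ * u * (g * k⁻¹ * g⁻¹)⁻¹ = g * (k⁻¹ * (g⁻¹ * u * g) * k) * g⁻¹ := by group
      _ = g * (g⁻¹ * v * g) * g⁻¹ := by rw [he]
      _ = v := by group

/-- S1135, first part -/
theorem prod_conj {u v : G} (hu1 : u ≠ 1) (hu2 : u * u = 1) (hv1 : v ≠ 1) (hv2 : v * v = 1)
    (hx : (u * v) * (u * v) ≠ 1) : ∃ g : G, ∃ u' ∈ 𝕀, g * (u * v) * g⁻¹ = u' * t := by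
  obtain ⟨c, hc, -⟩ := exists_fix S hu1 hu2
  obtain ⟨d, hd, -⟩ := exists_fix S hv1 hv2
  have hcd : c ≠ d := by
    rintro rfl
    apply hx
    have h3 := comm_of_fix S h2 hu1 hu2 hv1 hv2 hc hd
    calc u * v * (u * v) = u * (v * u) * v := by group
      _ = u * (u * v) * v := by rw [h3]
      _ = (u * u) * (v * v) := by group
      _ = 1 := by rw [hu2, hv2, one_mul]
  obtain ⟨e, he, -⟩ := exists_fix S S.ne_one S.mul_self
  have hea : a ≠ e := by
    rintro rfl
    exact S.not_mem he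
  obtain ⟨g, hg1, hg2⟩ := two_trans S hcd hea
  have hv' : (g * v * g⁻¹) • e = e := by
    rw [← hg2, mul_smul, mul_smul, inv_smul_smul, hd]
  have hv1' : g * v * g⁻¹ ≠ 1 := by
    intro h
    apply hv1
    have e : v = g⁻¹ * (g * v * g⁻¹) * g := by group
    rw [e, h]; group
  have hv2' : (g * v * g⁻¹) * (g * v * g⁻¹) = 1 := by
    have e : (g * v * g⁻¹) * (g * v * g⁻¹) = g * (v * v) * g⁻¹ := by group
    rw [e, hv2]; group
  obtain ⟨k, hk1, hk2, hk3⟩ := conj_two S h2 hea.symm hv1' hv2' S.ne_one S.mul_self hv' he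
  refine ⟨k * g, (k * g) * u * (k * g)⁻¹, ⟨?_, ?_, ?_⟩, ?_⟩
  · change ((k * g) * u * (k * g)⁻¹) • a = a
    have h3 : (k * g)⁻¹ • a = c := by
      rw [inv_smul_eq_iff, mul_smul, hg1, hk2]
    rw [mul_smul, h3, mul_smul, hc, mul_smul, hg1, hk2]
  · intro h
    apply hu1
    have e : u = (k * g)⁻¹ * (k * g * u * (k * g)⁻¹) * (k * g) := by group
    rw [e, h]; group
  · have e : (k * g) * u * (k * g)⁻¹ * ((k * g) * u * (k * g)⁻¹) = (k * g) * (u * u) * (k * g)⁻¹ := by group
    rw [e, hu2]; group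
  · calc k * g * (u * v) * (k * g)⁻¹ = k * g * u * (k * g)⁻¹ * (k * (g * v * g⁻¹) * k⁻¹) := by group
      _ = _ := by rw [hk3]

/-- S1135, second part -/
theorem prod_cen {u v : G} (hu1 : u ≠ 1) (hu2 : u * u = 1) (hv1 : v ≠ 1) (hv2 : v * v = 1)
    (hx : (u * v) * (u * v) ≠ 1) : Odd (Nat.card ↥(Subgroup.centralizer {u * v})) := by
  by_contra hodd
  rw [Nat.not_odd_iff_even] at hodd
  have : Fact (Nat.Prime 2) := ⟨Nat.prime_two⟩
  obtain ⟨z, hz⟩ := exists_prime_orderOf_dvd_card' 2 hodd.two_dvd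
  have hz1 : (z : G) ≠ 1 := by
    intro h
    have h1 : z = 1 := Subtype.ext h
    rw [h1, orderOf_one] at hz
    norm_num at hz
  have hz2 : (z : G) * z = 1 := by
    have h9 := pow_orderOf_eq_one z
    rw [hz, pow_two] at h9
    exact congrArg Subtype.val h9
  have hzc : (z : G) * (u * v) = (u * v) * z := (mem_cen S).1 z.2
  obtain ⟨c, hc, -⟩ := exists_fix S hz1 hz2
  have hxc : (u * v) • c = c := comm_fix S hz1 hz2 hc hzc.symm
  have hui : u⁻¹ = u := inv_eq_of_mul_eq_one_left hu2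
  have hvi : v⁻¹ = v := inv_eq_of_mul_eq_one_left hv2
  have hinv : u * (u * v) * u⁻¹ = (u * v)⁻¹ := by
    rw [mul_inv_rev, hui, hvi, ← mul_assoc, hu2, one_mul]
  by_cases huc : u • c = c
  · -- both fix `c`, so they commute
    apply hx
    have hvc : v • c = c := by
      have h3 := hxc
      rw [mul_smul] at h3
      have h4 : v • c = u • c := by
        have h5 : v • c = u⁻¹ • c := by rw [eq_inv_smul_iff, h3]
        rw [h5, hui]
      rw [h4, huc]
    have h3 := comm_of_fix S h2 hu1 hu2 hv1 hv2 huc hvc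
    calc u * v * (u * v) = u * (v * u) * v := by group
      _ = u * (u * v) * v := by rw [h3]
      _ = (u * u) * (v * v) := by group
      _ = 1 := by rw [hu2, hv2, one_mul]
  · have := pretrans S
    obtain ⟨g, hg⟩ := MulAction.exists_smul_eq G a c
    subst hg
    have S' := transport S g hu2 hu1 huc
    have hxK : u * v ∈ invertedBy (MulAction.stabilizer G (g • a) ⊓ MulAction.stabilizer G (u • g • a)) u := by
      refine ⟨⟨hxc, ?_⟩, hinv⟩
      change (u * v) • u • g • a = u • g • a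
      have h3 : (u * v)⁻¹ • g • a = g • a := by rw [inv_smul_eq_iff, hxc]
      rw [← hinv] at h3
      rw [mul_smul, hui, mul_smul] at h3
      have h4 := eq_inv_smul_iff.2 h3
      rw [hui] at h4
      exact h4
    have hx1 : u * v ≠ 1 := by
      intro h
      apply hx
      rw [h, one_mul]
    have h5 := fpf S' hxK hx1
    have h6 : (z : G) ∈ Q.map (MulAut.conj g).toMonoidHom ⊓ Subgroup.centralizer {u * v} := by
      refine ⟨?_, z.2⟩
      exact inv_mem_Q S' hc hz2
    rw [h5] at h6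
    exact hz1 (Subgroup.mem_bot.1 h6)

omit h2 in
/-- involutions with different fixed points have product of odd order -/
theorem odd_mul' {u v : G} (hu1 : u ≠ 1) (hu2 : u * u = 1) (hv1 : v ≠ 1) (hv2 : v * v = 1)
    {c : Ω} (hu : u • c = c) (hv : v • c ≠ c) : Odd (orderOf (u * v)) := by
  have := pretrans S
  obtain ⟨g, hg⟩ := MulAction.exists_smul_eq G a c
  subst hg
  exact odd_mul (transport S g hv2 hv1 hv) (s := u) (u := v) hu hu1 hu2 hv hv1 hv2

/-- S1134 -/
theorem fusion {X : Set G} (hX : X ⊆ ((𝔻 ⊓ Subgroup.centralizer {t} : Subgroup G) : Set G)) (g : G)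
    (hY : (fun x => g * x * g⁻¹) '' X ⊆ ((𝔻 ⊓ Subgroup.centralizer {t} : Subgroup G) : Set G)) :
    ∃ v ∈ 𝔻 ⊓ Subgroup.centralizer {t}, ∀ x ∈ X, v * x * v⁻¹ = g * x * g⁻¹ := by
  obtain ⟨e, he, -⟩ := exists_fix S S.ne_one S.mul_self
  have hea : e ≠ a := by
    rintro rfl
    exact S.not_mem he
  have hta := tta S
  have heb : e ≠ t • a := by
    rintro rfl
    rw [hta] at he
    exact ta_ne S he.symm
  set Y := (fun x => g * x * g⁻¹) '' X with hYdef
  have hYfix : ∀ y ∈ Y, y • e = e := fun y hy =>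
    comm_fix S S.ne_one S.mul_self he ((mem_cen S).1 (hY hy).2)
  have hYD : ∀ y ∈ Y, y ∈ 𝔻 := fun y hy => (hY hy).1
  have hY3 : ∃ b c d : Ω, b ≠ c ∧ b ≠ d ∧ c ≠ d ∧ ∀ x ∈ Y, x • b = b ∧ x • c = c ∧ x • d = d :=
    ⟨a, t • a, e, (ta_ne S).symm, hea.symm, heb.symm, fun y hy => ⟨(hYD y hy).1, (hYD y hy).2, hYfix y hy⟩⟩
  -- the involution `g t g⁻¹` centralizes `Y`
  have hg1 : g * t * g⁻¹ ≠ 1 := by
    intro h
    apply S.ne_one
    have e : t = g⁻¹ * (g * t * g⁻¹) * g := by group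
    rw [e, h]; group
  have hg2 : (g * t * g⁻¹) * (g * t * g⁻¹) = 1 := by
    have e : (g * t * g⁻¹) * (g * t * g⁻¹) = g * (t * t) * g⁻¹ := by group
    rw [e, S.mul_self]; group
  have hgY : ∀ y ∈ Y, y * (g * t * g⁻¹) = (g * t * g⁻¹) * y := by
    rintro _ ⟨x, hx, rfl⟩
    have h3 : x * t = t * x := (mem_cen S).1 (hX hx).2
    calc g * x * g⁻¹ * (g * t * g⁻¹) = g * (x * t) * g⁻¹ := by group
      _ = g * (t * x) * g⁻¹ := by rw [h3]
      _ = _ := by group
  -- an element of `C(Y)` conjugating `g t g⁻¹` to `t`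
  have hconj : ∃ c ∈ Subgroup.centralizer Y, c * (g * t * g⁻¹) * c⁻¹ = t := by
    -- first move the fixed point of `g t g⁻¹` to `a`
    obtain ⟨e', he', -⟩ := exists_fix S hg1 hg2
    have he'Y : ∀ y ∈ Y, y • e' = e' := fun y hy => comm_fix S hg1 hg2 he' (hgY y hy)
    obtain ⟨c₀, hc₀, hce⟩ := cen_trans S hYD hY3 he'Y
    set s := c₀⁻¹ * (g * t * g⁻¹) * c₀ with hs
    have hsY : s ∈ Subgroup.centralizer Y := by
      refine mul_mem (mul_mem (inv_mem hc₀) ?_) hc₀
      exact Subgroup.mem_centralizer_iff.2 fun y hy => hgY y hy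
    have htY : t ∈ Subgroup.centralizer Y :=
      Subgroup.mem_centralizer_iff.2 fun y hy => (mem_cen S).1 (hY hy).2
    have hsa : s • a = a := by
      rw [hs, mul_smul, mul_smul, hce, he', inv_smul_eq_iff, hce]
    have hs1 : s ≠ 1 := by
      intro h
      apply hg1
      have e : g * t * g⁻¹ = c₀ * s * c₀⁻¹ := by rw [hs]; group
      rw [e, h]; group
    have hs2 : s * s = 1 := by
      have e : s * s = c₀⁻¹ * ((g * t * g⁻¹) * (g * t * g⁻¹)) * c₀ := by rw [hs]; group
      rw [e, hg2]; group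
    have hodd := odd_mul S hsa hs1 hs2 S.not_mem S.ne_one S.mul_self
    obtain ⟨c₁, hc₁⟩ := conj_of_odd (G := ↥(Subgroup.centralizer Y)) (s := ⟨s, hsY⟩) (u := ⟨t, htY⟩)
      (Subtype.ext hs2) (Subtype.ext S.mul_self) (by
        rw [← orderOf_injective (Subgroup.centralizer Y).subtype Subtype.val_injective]
        exact hodd)
    have hc₁ : (c₁ : G) * s * (c₁ : G)⁻¹ = t := congrArg Subtype.val hc₁
    refine ⟨c₁ * c₀⁻¹, mul_mem c₁.2 (inv_mem hc₀), ?_⟩
    calc (c₁ : G) * c₀⁻¹ * (g * t * g⁻¹) * ((c₁ : G) * c₀⁻¹)⁻¹ = c₁ * s * (c₁ : G)⁻¹ := by rw [hs]; group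
      _ = t := hc₁
  obtain ⟨c, hc, hct⟩ := hconj
  -- `g' = c g` centralizes `t`
  have hg't : (c * g) * t = t * (c * g) := by
    calc (c * g) * t = (c * (g * t * g⁻¹) * c⁻¹) * (c * g) := by group
      _ = _ := by rw [hct]
  have hg'X : ∀ x ∈ X, (c * g) * x * (c * g)⁻¹ = g * x * g⁻¹ := by
    intro x hx
    have h3 : (g * x * g⁻¹) * c = c * (g * x * g⁻¹) := Subgroup.mem_centralizer_iff.1 hc _ ⟨x, hx, rfl⟩
    calc (c * g) * x * (c * g)⁻¹ = (c * (g * x * g⁻¹)) * c⁻¹ := by group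
      _ = (g * x * g⁻¹) * c * c⁻¹ := by rw [h3]
      _ = _ := by group
  have hg'e : (c * g) • e = e := comm_fix S S.ne_one S.mul_self he hg't
  -- decompose `g'` in `G_e`
  obtain ⟨h, hh⟩ : ∃ h : G, h • a = e := by
    have := pretrans S
    exact MulAction.exists_smul_eq G a e
  obtain ⟨w, hw⟩ : ∃ w : G, w * w = 1 ∧ w ≠ 1 ∧ w • e ≠ e := by
    refine ⟨h * t * h⁻¹, ?_, ?_, ?_⟩
    · have e : (h * t * h⁻¹) * (h * t * h⁻¹) = h * (t * t) * h⁻¹ := by group
      rw [e, S.mul_self]; group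
    · intro h4
      apply S.ne_one
      have e : t = h⁻¹ * (h * t * h⁻¹) * h := by group
      rw [e, h4]; group
    · rw [← hh, mul_smul, mul_smul, inv_smul_smul]
      exact fun h5 => ta_ne S (smul_left_cancel _ h5)
  have S' := transport S h hw.1 hw.2.1 (by rw [hh]; exact hw.2.2)
  rw [hh] at S'
  set Q' := Q.map (MulAut.conj h).toMonoidHom with hQ'
  have hg'a : (c * g) • a ≠ e := by
    rw [← hg'e]
    exact fun h5 => hea (smul_left_cancel _ h5).symm
  obtain ⟨q, hq, hqa⟩ := trans S' hea.symm hg'a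
  have h2' := h2
  have htI : t ∈ involutionsIn (MulAction.stabilizer G e : Set G) := ⟨he, S.ne_one, S.mul_self⟩
  have hqt := I_central S' h2 htI hq
  set v := q⁻¹ * (c * g) with hv
  have hvt : v * t = t * v := by
    calc v * t = q⁻¹ * ((c * g) * t) := by rw [hv]; group
      _ = q⁻¹ * (t * (c * g)) := by rw [hg't]
      _ = q⁻¹ * (t * q) * (q⁻¹ * (c * g)) := by group
      _ = q⁻¹ * (q * t) * (q⁻¹ * (c * g)) := by rw [hqt]
      _ = _ := by rw [hv]; group
  have hva : v • a = a := by rw [hv, mul_smul, ← hqa, inv_smul_smul]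
  have hvb : v • t • a = t • a := by rw [smul_smul, hvt, mul_smul, hva]
  refine ⟨v, ⟨⟨hva, hvb⟩, (mem_cen S).2 hvt⟩, fun x hx => ?_⟩
  rw [← hg'X x hx]
  -- `q` centralizes `v x v⁻¹`
  have hx' : v * x * v⁻¹ ∈ 𝔻 ⊓ Subgroup.centralizer {t} := by
    have hvV : v ∈ 𝔻 ⊓ Subgroup.centralizer {t} := ⟨⟨hva, hvb⟩, (mem_cen S).2 hvt⟩
    exact mul_mem (mul_mem hvV (hX hx)) (inv_mem hvV)
  have hxa : (v * x * v⁻¹) • a = a := hx'.1.1
  have hxe : (v * x * v⁻¹) • e = e := comm_fix S S.ne_one S.mul_self he ((mem_cen S).1 hx'.2)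
  have hqx : q * (v * x * v⁻¹) * q⁻¹ = (c * g) * x * (c * g)⁻¹ := by rw [hv]; group
  have hqa' : (q * (v * x * v⁻¹) * q⁻¹) • a = a := by
    rw [hqx, hg'X x hx]
    exact (hY ⟨x, hx, rfl⟩).1.1
  -- the commutator lies in `Q'` and fixes `a`
  have h6 : (v * x * v⁻¹) * q⁻¹ * (v * x * v⁻¹)⁻¹ ∈ Q' :=
    S'.conj_mem _ hxe _ (inv_mem hq)
  have h7 : q * ((v * x * v⁻¹) * q⁻¹ * (v * x * v⁻¹)⁻¹) ∈ Q' := mul_mem hq h6
  have h8 := eq_one_of_fix S' h7 hea.symm (by
    have e : q * ((v * x * v⁻¹) * q⁻¹ * (v * x * v⁻¹)⁻¹) = (q * (v * x * v⁻¹) * q⁻¹) * (v * x * v⁻¹)⁻¹ := by group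
    rw [e, mul_smul, inv_smul_eq_iff.2 hxa.symm, hqa'])
  calc v * x * v⁻¹ = (q * ((v * x * v⁻¹) * q⁻¹ * (v * x * v⁻¹)⁻¹))⁻¹ * (q * (v * x * v⁻¹) * q⁻¹) := by group
    _ = (c * g) * x * (c * g)⁻¹ := by rw [h8, hqx]; group

/-- S1120 -/
theorem core_eq : pPrimeCore 2 G = (𝔾).normalCore := by
  apply le_antisymm
  · apply sSup_le
    rintro N ⟨hN, hcop⟩
    rw [Subgroup.normal_le_normalCore]
    obtain ⟨s, hs, s', hs', hne, hcomm⟩ := exists_two S h2
    set A : Subgroup G := Subgroup.closure {s, s'} with hA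
    have hAG : A ≤ 𝔾 := by
      rw [hA, Subgroup.closure_le]
      rintro x (rfl | rfl)
      · exact hs.1
      · exact hs'.1
    have hcm : ∀ x ∈ A, ∀ y ∈ A, x * y = y * x := by
      have h3 : IsMulCommutative A := by
        apply Subgroup.isMulCommutative_closure
        rintro x (rfl | rfl) y (rfl | rfl)
        · rfl
        · exact hcomm
        · exact hcomm.symm
        · rfl
      intro x hx y hy
      exact congrArg Subtype.val (mul_comm' (⟨x, hx⟩ : A) ⟨y, hy⟩)
    have hsq : ∀ x ∈ A, x * x = 1 := by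
      intro x hx
      induction hx using Subgroup.closure_induction with
      | mem x hx =>
        rcases hx with rfl | rfl
        · exact hs.2.2
        · exact hs'.2.2
      | one => exact one_mul 1
      | mul x y hx hy h3 h4 =>
        calc x * y * (x * y) = x * (y * x) * y := by group
          _ = x * (x * y) * y := by rw [hcm y hy x hx]
          _ = (x * x) * (y * y) := by group
          _ = 1 := by rw [h3, h4, one_mul]
      | inv x hx h3 => rw [← mul_inv_rev, h3, inv_one]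
    have hAc : IsMulCommutative A := ⟨⟨fun x y => Subtype.ext (hcm x x.2 y y.2)⟩⟩
    have hAp : IsPGroup 2 A := fun x => ⟨1, Subtype.ext (by rw [pow_one, pow_two]; exact hsq x x.2)⟩
    have hnc : ¬ IsCyclic A := by
      classical
      intro hcyc
      have : Fintype A := Fintype.ofFinite A
      have h4 := IsCyclic.card_pow_eq_one_le (α := A) (n := 2) (by norm_num)
      have hsA : s ∈ A := Subgroup.subset_closure (Or.inl rfl)
      have hsA' : s' ∈ A := Subgroup.subset_closure (Or.inr rfl)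
      have h5 : ({1, ⟨s, hsA⟩, ⟨s', hsA'⟩} : Finset A) ⊆ Finset.univ.filter (fun x : A => x ^ 2 = 1) := by
        intro x hx
        rw [Finset.mem_filter]
        refine ⟨Finset.mem_univ _, Subtype.ext ?_⟩
        rw [pow_two]
        exact hsq x x.2
      have h6 := Finset.card_le_card h5
      rw [Finset.card_insert_of_notMem, Finset.card_insert_of_notMem, Finset.card_singleton] at h6
      · omega
      · simp only [Finset.mem_singleton]
        exact fun h => hne (congrArg Subtype.val h)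
      · simp only [Finset.mem_insert, Finset.mem_singleton]
        rintro (h | h)
        · exact hs.2.1 (congrArg Subtype.val h).symm
        · exact hs'.2.1 (congrArg Subtype.val h).symm
    have hcop2 : (Nat.card A).Coprime (Nat.card N) := by
      obtain ⟨n, hn⟩ := IsPGroup.iff_card.1 hAp
      rw [hn]
      exact Nat.Coprime.pow_left n hcop.symm
    have hnorm : A ≤ Subgroup.normalizer (N : Set G) := by
      rw [Subgroup.normalizer_eq_top]
      exact le_top
    rw [← Cfsg.Agent.H1.Partition.generation A N hnc hnorm hcop2]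
    apply iSup₂_le
    rintro b ⟨hb, hb1⟩ x ⟨-, hx⟩
    exact comm_fix S hb1 (hsq b hb) (hAG hb) ((mem_cen S).1 hx)
  · apply le_sSup
    refine ⟨inferInstance, ?_⟩
    have hle : (𝔾).normalCore ≤ 𝔻 := by
      intro x hx
      refine ⟨Subgroup.normalCore_le _ hx, ?_⟩
      have h3 := hx t
      change x • t • a = t • a
      have h4 : (t * x * t⁻¹) • a = a := h3
      rw [tinv S] at h4
      rw [mul_smul, mul_smul] at h4
      have h5 := eq_inv_smul_iff.2 h4
      rw [tinv S] at h5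
      exact h5
    have h6 : Odd (Nat.card ↥(𝔾).normalCore) :=
      S.odd_card.of_dvd_nat (Subgroup.card_dvd_of_le hle)
    exact (Nat.coprime_two_left.2 h6).symm

end two

end Cfsg.Agent.H6.R1
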