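import Cfsg.Agent.H6_TwPf2
import Cfsg.Agent.H6_ChevRk1
import Cfsg.Agent.H6_TwHF4

/-!
The Ree groups `²G₂(q)`: explicit structure.
-/

set_option autoImplicit false
set_option linter.unusedSectionVars false
set_option maxRecDepth 100000

namespace Cfsg.Agent.H6.Ree

open Cfsg Cfsg.Lie Cfsg.Lie.ChevalleyDatum Cfsg.Agent.H6.Chev

section sixm

variable {K : Type*} [Field K] {G : Type*} [Group G] {A B C D E F : K → G}

theorem sixmul (hA : ∀ x y, A (x + y) = A x * A y) (hB : ∀ x y, B (x + y) = B x * B y)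
    (hC : ∀ x y, C (x + y) = C x * C y) (hD : ∀ x y, D (x + y) = D x * D y)
    (hE : ∀ x y, E (x + y) = E x * E y) (hF : ∀ x y, F (x + y) = F x * F y)
    (hrel : ∀ x y : K, B y * A x = A x * (B y * (C (x * y) * (D (x ^ 2 * y) * (E (-(x ^ 3 * y)) * F (-(x ^ 3 * y ^ 2)))))))
    (rCA : ∀ x y, C y * A x = A x * (C y * D (-(x * y))))
    (rEB : ∀ x y, E y * B x = B x * (E y * F (-(x * y))))
    (hDA : ∀ x y, D x * A y = A y * D x) (hEA : ∀ x y, E x * A y = A y * E x) (hFA : ∀ x y, F x * A y = A y * F x)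
    (hCB : ∀ x y, C x * B y = B y * C x) (hDB : ∀ x y, D x * B y = B y * D x) (hFB : ∀ x y, F x * B y = B y * F x)
    (hDC : ∀ x y, D x * C y = C y * D x) (hEC : ∀ x y, E x * C y = C y * E x) (hFC : ∀ x y, F x * C y = C y * F x)
    (hED : ∀ x y, E x * D y = D y * E x) (hFD : ∀ x y, F x * D y = D y * F x) (hFE : ∀ x y, F x * E y = E y * F x)
    (a b c d e f a' b' c' d' e' f' : K) :
    (A a * (B b * (C c * (D d * (E e * F f))))) * (A a' * (B b' * (C c' * (D d' * (E e' * F f'))))) =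
      A (a + a') * (B (b + b') * (C (c + c' + a' * b) * (D (d + d' - a' * c + a' ^ 2 * b) *
        (E (e + e' - a' ^ 3 * b) * F (f + f' - a' ^ 3 * b ^ 2 - b' * (e - a' ^ 3 * b)))))) := by
  have lift : ∀ {x y z : G}, x * y = z → ∀ g, x * (y * g) = z * g := fun h g => by rw [← mul_assoc, h]
  have sA : ∀ x y g, A x * (A y * g) = A (x + y) * g := fun x y g => lift (hA x y).symm g
  have sB : ∀ x y g, B x * (B y * g) = B (x + y) * g := fun x y g => lift (hB x y).symm g
  have sC : ∀ x y g, C x * (C y * g) = C (x + y) * g := fun x y g => lift (hC x y).symm g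
  have sD : ∀ x y g, D x * (D y * g) = D (x + y) * g := fun x y g => lift (hD x y).symm g
  have sE : ∀ x y g, E x * (E y * g) = E (x + y) * g := fun x y g => lift (hE x y).symm g
  have sF0 : ∀ x y, F x * F y = F (x + y) := fun x y => (hF x y).symm
  have mBA : ∀ x y g, B y * (A x * g) = A x * (B y * (C (x * y) * (D (x ^ 2 * y) * (E (-(x ^ 3 * y)) *
      (F (-(x ^ 3 * y ^ 2)) * g))))) := fun x y g => by rw [lift (hrel x y) g]; simp only [mul_assoc]
  have mCA : ∀ x y g, C y * (A x * g) = A x * (C y * (D (-(x * y)) * g)) := fun x y g => by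
    rw [lift (rCA x y) g]; simp only [mul_assoc]
  have mEB : ∀ x y g, E y * (B x * g) = B x * (E y * (F (-(x * y)) * g)) := fun x y g => by
    rw [lift (rEB x y) g]; simp only [mul_assoc]
  have mDA : ∀ x y g, D x * (A y * g) = A y * (D x * g) := fun x y g => by rw [lift (hDA x y) g, mul_assoc]
  have mEA : ∀ x y g, E x * (A y * g) = A y * (E x * g) := fun x y g => by rw [lift (hEA x y) g, mul_assoc]
  have mFA : ∀ x y g, F x * (A y * g) = A y * (F x * g) := fun x y g => by rw [lift (hFA x y) g, mul_assoc]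
  have mCB : ∀ x y g, C x * (B y * g) = B y * (C x * g) := fun x y g => by rw [lift (hCB x y) g, mul_assoc]
  have mDB : ∀ x y g, D x * (B y * g) = B y * (D x * g) := fun x y g => by rw [lift (hDB x y) g, mul_assoc]
  have mFB : ∀ x y g, F x * (B y * g) = B y * (F x * g) := fun x y g => by rw [lift (hFB x y) g, mul_assoc]
  have mDC : ∀ x y g, D x * (C y * g) = C y * (D x * g) := fun x y g => by rw [lift (hDC x y) g, mul_assoc]
  have mEC : ∀ x y g, E x * (C y * g) = C y * (E x * g) := fun x y g => by rw [lift (hEC x y) g, mul_assoc]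
  have mFC : ∀ x y g, F x * (C y * g) = C y * (F x * g) := fun x y g => by rw [lift (hFC x y) g, mul_assoc]
  have mED : ∀ x y g, E x * (D y * g) = D y * (E x * g) := fun x y g => by rw [lift (hED x y) g, mul_assoc]
  have mFD : ∀ x y g, F x * (D y * g) = D y * (F x * g) := fun x y g => by rw [lift (hFD x y) g, mul_assoc]
  have mFE : ∀ x y g, F x * (E y * g) = E y * (F x * g) := fun x y g => by rw [lift (hFE x y) g, mul_assoc]
  simp only [mul_assoc, mFA, mEA, mDA, mCA, mBA, mFB, mEB, mDB, mCB, mFC, mEC, mDC, mFD, mED, mFE, sA, sB, sC, sD,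
    sE, sF0]
  congr 2
  congr 1
  · ring_nf
  congr 1
  · ring_nf
  congr 1
  · ring_nf
  congr 1
  ring_nf

end sixm

/-! ### The abstract structure -/

/-- explicit description of a Ree group -/
structure RG (K : Type*) [Field K] (G : Type*) [Group G] where
  φ : K ≃+* K
  char3 : (3 : K) = 0
  φ2 : ∀ x, φ (φ x) ^ 3 = x
  w : K → K → K → G
  h : Kˣ →* G
  sl : Matrix.SpecialLinearGroup (Fin 2) K →* G
  wmul : ∀ t u v t' u' v', w t u v * w t' u' v' =
    w (t + t') (u + u' - φ t' ^ 3 * t) (v + v' - t' * u + φ t' ^ 3 * t * t' - φ t' ^ 3 * t ^ 2)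
  winj : ∀ {t u v t' u' v'}, w t u v = w t' u' v' → t = t' ∧ u = u' ∧ v = v'
  hinj : Function.Injective h
  hw : ∀ (s : Kˣ) (t u v : K), h s * w t u v * (h s)⁻¹ =
    w ((s : K) ^ 2 * (φ s ^ 3)⁻¹ * t) (φ s ^ 3 * (s : K)⁻¹ * u) (s * v)
  slU : ∀ (g : Matrix.SpecialLinearGroup (Fin 2) K) (x : K),
    (g : Matrix (Fin 2) (Fin 2) K) = !![1, x; 0, 1] → sl g = w 0 x 0
  slT : ∀ (g : Matrix.SpecialLinearGroup (Fin 2) K) (t : Kˣ),
    (g : Matrix (Fin 2) (Fin 2) K) = !![(t : K), 0; 0, (t : K)⁻¹] → sl g = h ((Units.map (φ : K →* K) t) ^ 3 * t)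
  n : G
  sln : ∀ g : Matrix.SpecialLinearGroup (Fin 2) K, (g : Matrix (Fin 2) (Fin 2) K) = !![0, 1; -1, 0] → sl g = n
  nn : n * n = 1
  nh : ∀ s, n * h s * n⁻¹ = (h s)⁻¹
  wh : ∀ {t u v s}, w t u v = h s → s = 1
  nB : ∀ {t u v s}, n ≠ w t u v * h s
  cov : ∀ g, (∃ t u v s, g = w t u v * h s) ∨ (∃ t u v s t' u' v', g = w t u v * h s * n * w t' u' v')
  dis : ∀ {t u v t' u' v' s}, n * w t u v * n⁻¹ = w t' u' v' * h s → w t u v = w 0 0 0

/-! ### The concrete group -/

section conc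

variable {K : Type*} [Field K] [CharP K 3] (φ : K ≃+* K) (hperf : ∀ x : K, ∃ y : K, y ^ 3 = x)
  (hφ2 : ∀ x : K, φ (φ x) ^ 3 = x) {e : ℕ} (hφ : ∀ x, φ x = x ^ e)

include hφ2

theorem reeP_mul (t u v t' u' v' : K) : (reeP φ hperf).w t u v * (reeP φ hperf).w t' u' v' =
    (reeP φ hperf).w (t + t') (u + u' - φ t' ^ 3 * t)
      (v + v' - t' * u + φ t' ^ 3 * t * t' - φ t' ^ 3 * t ^ 2) := by
  have h3 : (3 : K) = 0 := by exact_mod_cast CharP.cast_eq_zero K 3
  have c0 : ∀ {a c : ℕ} (h : (Nat.blt a tabG2.n && (Nat.blt c tabG2.n && tabG2.comOK 3 a c)) = true) (x y : K),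
    modelG2.X a x * modelG2.X c y = modelG2.X c y * modelG2.X a x := fun h x y => comG2 h x y
  have hrel := (reeP φ hperf).hrel
  have key := sixmul (A := modelG2.X (F := K) 7) (B := modelG2.X (F := K) 6) (C := modelG2.X (F := K) 8)
    (D := modelG2.X (F := K) 9) (E := modelG2.X (F := K) 10) (F := modelG2.X (F := K) 11)
    (modelG2.X_add _) (modelG2.X_add _) (modelG2.X_add _) (modelG2.X_add _) (modelG2.X_add _) (modelG2.X_add _)
    (by
      intro x y
      have h1 : modelG2.X 7 x * modelG2.X 6 y = modelG2.X 6 y * modelG2.X 7 x * (modelG2.X 8 (-(x * y)) *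
        (modelG2.X 9 (-(x ^ 2 * y)) * (modelG2.X 10 (x ^ 3 * y) * modelG2.X 11 (x ^ 3 * y ^ 2)))) := hrel x y
      have e1 : modelG2.X 8 (-(x * y)) * (modelG2.X 9 (-(x ^ 2 * y)) * (modelG2.X 10 (x ^ 3 * y) *
        modelG2.X 11 (x ^ 3 * y ^ 2))) * (modelG2.X 8 (x * y) * (modelG2.X 9 (x ^ 2 * y) *
        (modelG2.X 10 (-(x ^ 3 * y)) * modelG2.X 11 (-(x ^ 3 * y ^ 2))))) = 1 := by
        have f1 := c0 (a := 11) (c := 8) (by decide +kernel) (x ^ 3 * y ^ 2) (x * y)
        have f2 := c0 (a := 10) (c := 8) (by decide +kernel) (x ^ 3 * y) (x * y)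
        have f3 := c0 (a := 9) (c := 8) (by decide +kernel) (-(x ^ 2 * y)) (x * y)
        have f4 := c0 (a := 11) (c := 9) (by decide +kernel) (x ^ 3 * y ^ 2) (x ^ 2 * y)
        have f5 := c0 (a := 10) (c := 9) (by decide +kernel) (x ^ 3 * y) (x ^ 2 * y)
        have f6 := c0 (a := 11) (c := 10) (by decide +kernel) (x ^ 3 * y ^ 2) (-(x ^ 3 * y))
        rw [modelG2.X_neg, modelG2.X_neg, modelG2.X_neg, modelG2.X_neg] at *
        calc _ = (modelG2.X 8 (x * y))⁻¹ * ((modelG2.X 9 (x ^ 2 * y))⁻¹ * (modelG2.X 10 (x ^ 3 * y) *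
              (modelG2.X 11 (x ^ 3 * y ^ 2) * modelG2.X 8 (x * y)))) * (modelG2.X 9 (x ^ 2 * y) *
              ((modelG2.X 10 (x ^ 3 * y))⁻¹ * (modelG2.X 11 (x ^ 3 * y ^ 2))⁻¹)) := by group
          _ = (modelG2.X 8 (x * y))⁻¹ * ((modelG2.X 9 (x ^ 2 * y))⁻¹ * ((modelG2.X 10 (x ^ 3 * y) *
              modelG2.X 8 (x * y)) * modelG2.X 11 (x ^ 3 * y ^ 2))) * (modelG2.X 9 (x ^ 2 * y) *
              ((modelG2.X 10 (x ^ 3 * y))⁻¹ * (modelG2.X 11 (x ^ 3 * y ^ 2))⁻¹)) := by rw [f1]; group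
          _ = (modelG2.X 8 (x * y))⁻¹ * (((modelG2.X 9 (x ^ 2 * y))⁻¹ * modelG2.X 8 (x * y)) *
              modelG2.X 10 (x ^ 3 * y)) * (modelG2.X 11 (x ^ 3 * y ^ 2) * modelG2.X 9 (x ^ 2 * y)) *
              ((modelG2.X 10 (x ^ 3 * y))⁻¹ * (modelG2.X 11 (x ^ 3 * y ^ 2))⁻¹) := by rw [f2]; group
          _ = (modelG2.X 9 (x ^ 2 * y))⁻¹ * (modelG2.X 10 (x ^ 3 * y) * modelG2.X 9 (x ^ 2 * y)) *
              (modelG2.X 11 (x ^ 3 * y ^ 2) * (modelG2.X 10 (x ^ 3 * y))⁻¹) * (modelG2.X 11 (x ^ 3 * y ^ 2))⁻¹ := by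
            rw [f3, f4]; group
          _ = 1 := by rw [f5, f6]; group
      have e2 := mul_eq_one_iff_eq_inv.1 e1
      rw [← mul_assoc (modelG2.X 7 x), h1, e2]
      group)
    (by
      intro x y
      have h1 := rel_of modelG2 baseG2 checksG2 (a := 7) (c := 8) (L := [(9, 2, 1, 1), (11, 3, 2, 1), (10, -3, 1, 2)])
        (by decide +kernel) (by decide +kernel) x y
      simp only [List.map_cons, List.map_nil, Model.word_cons, Model.word_nil, mul_one, pow_one] at h1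
      have e1 : ((3 : ℤ) : K) * (-y) ^ 2 * x = 0 := by push_cast; rw [h3]; ring
      have e2 : ((-3 : ℤ) : K) * -y * x ^ 2 = 0 := by push_cast; rw [h3]; ring
      have e3 : ((2 : ℤ) : K) * -y * x = x * y := by
        push_cast; linear_combination (-(x * y)) * h3
      rw [e1, e2, e3, modelG2.X_zero, modelG2.X_zero, mul_one, mul_one] at h1
      have h2 := c0 (a := 9) (c := 7) (by decide +kernel) (-(x * y)) x
      have h4 := c0 (a := 9) (c := 8) (by decide +kernel) (-(x * y)) y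
      rw [← mul_assoc, h1, modelG2.X_neg, mul_inv_cancel_right])
    (by
      intro x y
      have h1 := rel_of modelG2 baseG2 checksG2 (a := 6) (c := 10) (L := [(11, -1, 1, 1)])
        (by decide +kernel) (by decide +kernel) x y
      simp only [List.map_cons, List.map_nil, Model.word_cons, Model.word_nil, mul_one, pow_one] at h1
      have e3 : ((-1 : ℤ) : K) * -y * x = x * y := by push_cast; ring
      rw [e3] at h1
      rw [← mul_assoc, h1, modelG2.X_neg, mul_inv_cancel_right])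
    (fun x y => c0 (by decide +kernel) x y) (fun x y => c0 (by decide +kernel) x y) (fun x y => c0 (by decide +kernel) x y)
    (fun x y => c0 (by decide +kernel) x y) (fun x y => c0 (by decide +kernel) x y) (fun x y => c0 (by decide +kernel) x y)
    (fun x y => c0 (by decide +kernel) x y) (fun x y => c0 (by decide +kernel) x y) (fun x y => c0 (by decide +kernel) x y)
    (fun x y => c0 (by decide +kernel) x y) (fun x y => c0 (by decide +kernel) x y) (fun x y => c0 (by decide +kernel) x y)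
  have h := key (φ t) t (φ t * t + φ u) (φ t ^ 2 * t + φ v) u v (φ t') t' (φ t' * t' + φ u') (φ t' ^ 2 * t' + φ v') u' v'
  refine Eq.trans h ?_
  unfold ReeSys.w
  have g1 : φ (t + t') = φ t + φ t' := map_add _ _ _
  have g2 : φ (u + u' - φ t' ^ 3 * t) = φ u + φ u' - t' * φ t := by
    rw [map_sub, map_add, map_mul, map_pow, hφ2]
  have g3 : φ (v + v' - t' * u + φ t' ^ 3 * t * t' - φ t' ^ 3 * t ^ 2) =
      φ v + φ v' - φ t' * φ u + t' * φ t * φ t' - t' * φ t ^ 2 := by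
    simp only [map_sub, map_add, map_mul, map_pow, hφ2]
  rw [g1, g2, g3]
  change modelG2.X 7 _ * (modelG2.X 6 _ * (modelG2.X 8 _ * (modelG2.X 9 _ * (modelG2.X 10 _ * modelG2.X 11 _)))) =
    modelG2.X 7 _ * (modelG2.X 6 _ * (modelG2.X 8 _ * (modelG2.X 9 _ * (modelG2.X 10 _ * modelG2.X 11 _))))
  have q1 : φ t * t + φ u + (φ t' * t' + φ u') + φ t' * t = (φ t + φ t') * (t + t') + (φ u + φ u' - t' * φ t) := by ring
  have q2 : φ t ^ 2 * t + φ v + (φ t' ^ 2 * t' + φ v') - φ t' * (φ t * t + φ u) + φ t' ^ 2 * t =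
      (φ t + φ t') ^ 2 * (t + t') + (φ v + φ v' - φ t' * φ u + t' * φ t * φ t' - t' * φ t ^ 2) := by
    linear_combination (-(φ t * φ t' * t) - φ t * φ t' * t') * h3
  have q3 : v + v' - φ t' ^ 3 * t ^ 2 - t' * (u - φ t' ^ 3 * t) =
      v + v' - t' * u + φ t' ^ 3 * t * t' - φ t' ^ 3 * t ^ 2 := by ring
  rw [q1, q2, q3]

end conc

end Cfsg.Agent.H6.Ree
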