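import Cfsg.Agent.H6_Ree7

/-!
The Ree groups: fusion of involutions, the normaliser of a Sylow `2`-subgroup.
-/

set_option autoImplicit false
set_option linter.unusedSectionVars false

namespace Cfsg.Agent.H6.Ree

open Cfsg Cfsg.Lie
open scoped Pointwise

local notation "SL2" => Matrix.SpecialLinearGroup (Fin 2)

section sl2

variable {K : Type*} [Field K]

def jj (h3 : (3 : K) = 0) : SL2 K := ⟨!![1, 1; 1, -1], by
  rw [Matrix.det_fin_two_of]; linear_combination (-1 : K) * h3⟩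

def xx : SL2 K := ⟨!![0, 1; -1, -1], by rw [Matrix.det_fin_two_of]; ring⟩

variable (h3 : (3 : K) = 0)

theorem sl2_ext' {g g' : SL2 K} {a b c d a' b' c' d' : K} (h : (g : Matrix (Fin 2) (Fin 2) K) = !![a, b; c, d])
    (h' : (g' : Matrix (Fin 2) (Fin 2) K) = !![a', b'; c', d']) (h1 : a = a') (h2 : b = b') (h4 : c = c') (h5 : d = d') :
    g = g' := by
  apply Subtype.ext
  rw [h, h', h1, h2, h4, h5]

theorem mul_form {g g' : SL2 K} {a b c d a' b' c' d' : K} (h : (g : Matrix (Fin 2) (Fin 2) K) = !![a, b; c, d])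
    (h' : (g' : Matrix (Fin 2) (Fin 2) K) = !![a', b'; c', d']) : ((g * g' : SL2 K) : Matrix (Fin 2) (Fin 2) K) =
      !![a * a' + b * c', a * b' + b * d'; c * a' + d * c', c * b' + d * d'] := by
  rw [Matrix.SpecialLinearGroup.coe_mul, h, h', Matrix.mul_fin_two]

theorem neg_form {g : SL2 K} {a b c d : K} (h : (g : Matrix (Fin 2) (Fin 2) K) = !![a, b; c, d]) :
    ((-g : SL2 K) : Matrix (Fin 2) (Fin 2) K) = !![-a, -b; -c, -d] := by
  rw [Matrix.SpecialLinearGroup.coe_neg, h]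
  ext i j
  fin_cases i <;> fin_cases j <;> rfl

theorem one_form : ((1 : SL2 K) : Matrix (Fin 2) (Fin 2) K) = !![1, 0; 0, 1] := by
  rw [Matrix.SpecialLinearGroup.coe_one]
  exact Matrix.one_fin_two

theorem ww_form : ((ww : SL2 K) : Matrix (Fin 2) (Fin 2) K) = !![0, 1; -1, 0] := rfl
theorem jj_form : ((jj h3 : SL2 K) : Matrix (Fin 2) (Fin 2) K) = !![1, 1; 1, -1] := rfl
theorem xx_form : ((xx : SL2 K) : Matrix (Fin 2) (Fin 2) K) = !![0, 1; -1, -1] := rfl

theorem ww_sq : (ww : SL2 K) * ww = -1 :=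
  sl2_ext' (mul_form ww_form ww_form) (neg_form one_form) (by ring) (by ring) (by ring) (by ring)

theorem jj_sq : jj h3 * jj h3 = -1 :=
  sl2_ext' (mul_form (jj_form h3) (jj_form h3)) (neg_form one_form) (by linear_combination h3) (by ring) (by ring)
    (by linear_combination h3)

theorem ww_jj : ww * jj h3 = -(jj h3 * ww) :=
  sl2_ext' (mul_form ww_form (jj_form h3)) (neg_form (mul_form (jj_form h3) ww_form)) (by ring) (by ring) (by ring)
    (by ring)

theorem xx_ww : xx * ww = jj h3 * xx :=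
  sl2_ext' (mul_form xx_form ww_form) (mul_form (jj_form h3) xx_form) (by ring) (by ring)
    (by ring) (by linear_combination (-1 : K) * h3)

theorem xx_jj : xx * jj h3 = ww * jj h3 * xx :=
  sl2_ext' (mul_form xx_form (jj_form h3)) (mul_form (mul_form ww_form (jj_form h3)) xx_form) (by ring)
    (by linear_combination (-1 : K) * h3) (by linear_combination (-1 : K) * h3) (by ring)

/-- the elements commuting with `ww` and `jj` -/
theorem comm_both {x : SL2 K} (h1 : x * ww = ww * x) (h2 : x * jj h3 = jj h3 * x) : x = 1 ∨ x = -1 := by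
  have hx : (x : Matrix (Fin 2) (Fin 2) K) = !![x 0 0, x 0 1; x 1 0, x 1 1] := Matrix.eta_fin_two _
  have hdet : x 0 0 * x 1 1 - x 0 1 * x 1 0 = 1 := by
    have := x.2
    rwa [Matrix.det_fin_two] at this
  have e1 := congrArg (fun g : SL2 K => (g : Matrix (Fin 2) (Fin 2) K)) h1
  have e2 := congrArg (fun g : SL2 K => (g : Matrix (Fin 2) (Fin 2) K)) h2
  rw [mul_form hx ww_form, mul_form ww_form hx] at e1
  rw [mul_form hx (jj_form h3), mul_form (jj_form h3) hx] at e2
  have a1 : x 0 0 * 0 + x 0 1 * -1 = 0 * x 0 0 + 1 * x 1 0 := congrFun (congrFun e1 0) 0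
  have a2 : x 0 0 * 1 + x 0 1 * 0 = 0 * x 0 1 + 1 * x 1 1 := congrFun (congrFun e1 0) 1
  have a3 : x 0 0 * 1 + x 0 1 * 1 = 1 * x 0 0 + 1 * x 1 0 := congrFun (congrFun e2 0) 0
  have a4 : x 1 0 * 1 + x 1 1 * 1 = 1 * x 0 0 + -1 * x 1 0 := congrFun (congrFun e2 1) 0
  have hbc : x 0 1 = x 1 0 := by linear_combination a3
  have hb0 : x 1 0 = 0 := by linear_combination a1 + hbc + x 1 0 * h3
  have hb1 : x 0 1 = 0 := by rw [hbc, hb0]
  have hda : x 1 1 = x 0 0 := by linear_combination (-1 : K) * a2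
  have hsq : (x 0 0 - 1) * (x 0 0 + 1) = 0 := by
    rw [hda, hb0] at hdet
    linear_combination hdet
  rcases mul_eq_zero.1 hsq with h | h
  · left
    exact sl2_ext' hx one_form (sub_eq_zero.1 h) hb1 hb0 (hda.trans (sub_eq_zero.1 h))
  · right
    have h' := eq_neg_of_add_eq_zero_left h
    exact sl2_ext' hx (neg_form one_form) h' (by rw [hb1]; ring) (by rw [hb0]; ring) (hda.trans h')

theorem sl2_neg_neg (x : SL2 K) : -(-x) = x := by
  apply Subtype.ext
  rw [Matrix.SpecialLinearGroup.coe_neg, Matrix.SpecialLinearGroup.coe_neg, neg_neg]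

theorem sl2_neg_mul (x y : SL2 K) : -x * y = -(x * y) := by
  apply Subtype.ext
  rw [Matrix.SpecialLinearGroup.coe_neg, Matrix.SpecialLinearGroup.coe_mul, Matrix.SpecialLinearGroup.coe_mul,
    Matrix.SpecialLinearGroup.coe_neg, Matrix.neg_mul]

theorem sl2_mul_neg (x y : SL2 K) : x * -y = -(x * y) := by
  apply Subtype.ext
  rw [Matrix.SpecialLinearGroup.coe_neg, Matrix.SpecialLinearGroup.coe_mul, Matrix.SpecialLinearGroup.coe_mul,
    Matrix.SpecialLinearGroup.coe_neg, Matrix.mul_neg]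

theorem jj_ww : jj h3 * ww = -(ww * jj h3) := by
  rw [ww_jj, sl2_neg_neg]

/-- the elements commuting with `ww` and `jj` up to sign -/
theorem comm_both_pm {x : SL2 K} (h1 : x * ww = ww * x ∨ x * ww = -(ww * x))
    (h2 : x * jj h3 = jj h3 * x ∨ x * jj h3 = -(jj h3 * x)) :
    (x = 1 ∨ x = -1) ∨ (x = ww ∨ x = -ww) ∨ (x = jj h3 ∨ x = -jj h3) ∨ (x = ww * jj h3 ∨ x = -(ww * jj h3)) := by
  have hwi : (ww : SL2 K) * -ww = 1 := by rw [sl2_mul_neg, ww_sq, sl2_neg_neg]
  have hji : jj h3 * -jj h3 = 1 := by rw [sl2_mul_neg, jj_sq, sl2_neg_neg]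
  rcases h1 with h1 | h1 <;> rcases h2 with h2 | h2
  · exact Or.inl (comm_both h3 h1 h2)
  · right; left
    have k1 : (x * ww) * ww = ww * (x * ww) := by rw [h1, mul_assoc, h1]
    have k2 : (x * ww) * jj h3 = jj h3 * (x * ww) := by
      rw [mul_assoc, ww_jj, sl2_mul_neg, ← mul_assoc, h2, sl2_neg_mul, sl2_neg_neg, mul_assoc]
    rcases comm_both h3 k1 k2 with k | k
    · right
      have : x = (x * ww) * -ww := by rw [mul_assoc, hwi, mul_one]
      rw [this, k, one_mul]
    · left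
      have : x = (x * ww) * -ww := by rw [mul_assoc, hwi, mul_one]
      rw [this, k, sl2_mul_neg, sl2_neg_mul, sl2_neg_neg, one_mul]
  · right; right; left
    have k1 : (x * jj h3) * ww = ww * (x * jj h3) := by
      rw [mul_assoc, jj_ww, sl2_mul_neg, ← mul_assoc, h1, sl2_neg_mul, sl2_neg_neg, mul_assoc]
    have k2 : (x * jj h3) * jj h3 = jj h3 * (x * jj h3) := by rw [h2, mul_assoc, h2]
    rcases comm_both h3 k1 k2 with k | k
    · right
      have : x = (x * jj h3) * -jj h3 := by rw [mul_assoc, hji, mul_one]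
      rw [this, k, one_mul]
    · left
      have : x = (x * jj h3) * -jj h3 := by rw [mul_assoc, hji, mul_one]
      rw [this, k, sl2_mul_neg, sl2_neg_mul, sl2_neg_neg, one_mul]
  · right; right; right
    have k1 : (x * (jj h3 * ww)) * ww = ww * (x * (jj h3 * ww)) := by
      calc (x * (jj h3 * ww)) * ww = x * (jj h3 * ww) * ww := rfl
        _ = x * -(ww * jj h3) * ww := by rw [jj_ww]
        _ = -((x * ww) * (jj h3 * ww)) := by rw [sl2_mul_neg, sl2_neg_mul]; simp only [mul_assoc]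
        _ = ww * (x * (jj h3 * ww)) := by rw [h1, sl2_neg_mul, sl2_neg_neg]; simp only [mul_assoc]
    have k2 : (x * (jj h3 * ww)) * jj h3 = jj h3 * (x * (jj h3 * ww)) := by
      calc (x * (jj h3 * ww)) * jj h3 = (x * jj h3) * (ww * jj h3) := by simp only [mul_assoc]
        _ = -(jj h3 * x) * -(jj h3 * ww) := by rw [h2, ww_jj]
        _ = jj h3 * (x * (jj h3 * ww)) := by rw [sl2_neg_mul, sl2_mul_neg, sl2_neg_neg]; simp only [mul_assoc]
    have hi : (jj h3 * ww) * (ww * jj h3) = 1 := by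
      calc (jj h3 * ww) * (ww * jj h3) = jj h3 * (ww * ww) * jj h3 := by simp only [mul_assoc]
        _ = 1 := by rw [ww_sq, sl2_mul_neg, mul_one, sl2_neg_mul, jj_sq, sl2_neg_neg]
    have e : x = (x * (jj h3 * ww)) * (ww * jj h3) := by rw [mul_assoc, hi, mul_one]
    rcases comm_both h3 k1 k2 with k | k
    · left
      rw [e, k, one_mul]
    · right
      rw [e, k, sl2_neg_mul, one_mul]

theorem ww_ne (h : (ww : SL2 K) = 1 ∨ (ww : SL2 K) = -1) : False := by
  rcases h with h | h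
  · have := congrArg (fun g : SL2 K => (g : Matrix (Fin 2) (Fin 2) K)) h
    have h1 : (1 : K) = 0 := congrFun (congrFun this 0) 1
    exact one_ne_zero h1
  · have := congrArg (fun g : SL2 K => (g : Matrix (Fin 2) (Fin 2) K)) h
    rw [neg_form one_form, ww_form] at this
    have h1 : (1 : K) = -0 := congrFun (congrFun this 0) 1
    rw [neg_zero] at h1
    exact one_ne_zero h1

end sl2

/-! ### orbits -/

section orbit

variable {G : Type*} [Group G]

theorem card_orb [Finite G] (N : Subgroup G) (a : G) :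
    Nat.card N = Nat.card {y : G // ∃ g ∈ N, y = g * a * g⁻¹} * Nat.card ↥(N ⊓ Subgroup.centralizer {a}) := by
  let act : MulAction N G := MulAction.compHom G (ConjAct.toConjAct.toMonoidHom.comp N.subtype)
  have hs : ∀ (g : N) (y : G), g • y = (g : G) * y * (g : G)⁻¹ := fun g y => rfl
  have h1 := Subgroup.card_eq_card_quotient_mul_card_subgroup (MulAction.stabilizer N a)
  rw [← Nat.card_congr (MulAction.orbitEquivQuotientStabilizer N a)] at h1
  rw [h1]
  congr 1
  · apply Nat.card_congr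
    refine Equiv.subtypeEquivRight fun y => ?_
    constructor
    · rintro ⟨g, hg⟩
      exact ⟨g, g.2, hg.symm⟩
    · rintro ⟨g, hg, h⟩
      exact ⟨⟨g, hg⟩, h.symm⟩
  · symm
    apply Nat.card_congr
    refine Equiv.ofBijective (fun g => ⟨⟨g.1, g.2.1⟩, ?_⟩) ⟨?_, ?_⟩
    · rw [MulAction.mem_stabilizer_iff, hs]
      have := Subgroup.mem_centralizer_iff.1 g.2.2 a rfl
      change (g : G) * a * (g : G)⁻¹ = a
      rw [← this]; group
    · intro g g' h
      exact Subtype.ext (congrArg (fun z : MulAction.stabilizer N a => ((z : N) : G)) h)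
    · rintro ⟨⟨g, hg⟩, h⟩
      refine ⟨⟨g, hg, ?_⟩, rfl⟩
      rw [MulAction.mem_stabilizer_iff, hs] at h
      change g ∈ Subgroup.centralizer ({a} : Set G)
      rw [Subgroup.mem_centralizer_iff]
      intro b hb
      have hb' : b = a := hb
      have h : g * a * g⁻¹ = a := h
      rw [hb']
      exact (mul_inv_eq_iff_eq_mul.1 h).symm

end orbit

namespace RG

variable {K : Type*} [Field K] {G : Type*} [Group G] (R : RG K G)

include R

/-- the involution `j` -/
def j : G := R.sl (jj R.char3)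

/-- an element of order three normalising the Sylow `2`-subgroup -/
def x3 : G := R.sl xx

theorem sl_neg (g : SL2 K) : R.sl (-g) = R.sl g := by
  have e : -g = -1 * g := by rw [sl2_neg_mul, one_mul]
  rw [e, map_mul, R.sl_one_iff.2 (Or.inr rfl), one_mul]

theorem sl_inj {g g' : SL2 K} (h : R.sl g = R.sl g') : g = g' ∨ g = -g' := by
  have h1 : R.sl (g * g'⁻¹) = 1 := by rw [map_mul, map_inv, h, mul_inv_cancel]
  rcases R.sl_one_iff.1 h1 with h2 | h2
  · exact Or.inl (mul_inv_eq_one.1 h2)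
  · right
    rw [mul_inv_eq_iff_eq_mul] at h2
    rw [h2, sl2_neg_mul, one_mul]

theorem jj_one : R.j * R.j = 1 := by
  rw [j, ← map_mul, jj_sq]
  exact R.sl_one_iff.2 (Or.inr rfl)

theorem n_j : R.n * R.j = R.j * R.n := by
  rw [j, ← R.sl_ww, ← map_mul, ← map_mul, ww_jj, R.sl_neg]

theorem a_j : R.a * R.j = R.j * R.a := R.a_sl _

theorem x3_a : R.x3 * R.a = R.a * R.x3 := (R.a_sl _).symm

theorem x3_n : R.x3 * R.n * R.x3⁻¹ = R.j := by
  rw [mul_inv_eq_iff_eq_mul, x3, j, ← R.sl_ww, ← map_mul, ← map_mul, xx_ww R.char3]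

theorem x3_j : R.x3 * R.j * R.x3⁻¹ = R.n * R.j := by
  rw [mul_inv_eq_iff_eq_mul, x3, j, ← R.sl_ww, ← map_mul, ← map_mul, ← map_mul, xx_jj R.char3]

theorem x3_nj : R.x3 * (R.n * R.j) * R.x3⁻¹ = R.n := by
  have e : R.x3 * (R.n * R.j) * R.x3⁻¹ = (R.x3 * R.n * R.x3⁻¹) * (R.x3 * R.j * R.x3⁻¹) := by group
  rw [e, x3_n, x3_j, ← mul_assoc, ← R.n_j, mul_assoc, jj_one, mul_one]

/-- the elements commuting with `a`, `n`, `j` -/
theorem cen_three [Fintype K] {m : ℕ} (hK : Fintype.card K = 3 ^ (2 * m + 1)) {y : G} (h1 : R.a * y = y * R.a)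
    (h2 : R.n * y = y * R.n) (h3 : R.j * y = y * R.j) :
    y ∈ ({1, R.a, R.n, R.j, R.n * R.j, R.a * R.n, R.a * R.j, R.a * (R.n * R.j)} : Set G) := by
  have key : ∀ x : SL2 K, R.n * R.sl x = R.sl x * R.n → R.j * R.sl x = R.sl x * R.j →
      R.sl x = 1 ∨ R.sl x = R.n ∨ R.sl x = R.j ∨ R.sl x = R.n * R.j := by
    intro x h2 h3
    rw [← R.sl_ww, ← map_mul, ← map_mul] at h2
    rw [j, ← map_mul, ← map_mul] at h3
    rcases comm_both_pm R.char3 (R.sl_inj h2.symm) (R.sl_inj h3.symm) with k | k | k | k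
    · exact Or.inl (R.sl_one_iff.2 k)
    · right; left
      rcases k with k | k
      · rw [k, R.sl_ww]
      · rw [k, R.sl_neg, R.sl_ww]
    · right; right; left
      rcases k with k | k
      · rw [k, j]
      · rw [k, R.sl_neg, j]
    · right; right; right
      rcases k with k | k
      · rw [k, map_mul, R.sl_ww, j]
      · rw [k, R.sl_neg, map_mul, R.sl_ww, j]
  simp only [Set.mem_insert_iff, Set.mem_singleton_iff]
  obtain ⟨x, hx | hx⟩ := R.cen_a hK h1
  · rw [hx] at h2 h3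
    rcases key x h2 h3 with k | k | k | k
    · rw [hx, k]; simp
    · rw [hx, k]; simp
    · rw [hx, k]; simp
    · rw [hx, k]; simp
  · have k2 : R.n * R.sl x = R.sl x * R.n := by
      rw [hx] at h2
      apply mul_left_cancel (a := R.a)
      calc R.a * (R.n * R.sl x) = (R.a * R.n) * R.sl x := by group
        _ = R.n * (R.a * R.sl x) := by rw [R.a_n]; group
        _ = R.a * (R.sl x * R.n) := by rw [h2]; group
    have k3 : R.j * R.sl x = R.sl x * R.j := by
      rw [hx] at h3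
      apply mul_left_cancel (a := R.a)
      calc R.a * (R.j * R.sl x) = (R.a * R.j) * R.sl x := by group
        _ = R.j * (R.a * R.sl x) := by rw [R.a_j]; group
        _ = R.a * (R.sl x * R.j) := by rw [h3]; group
    rcases key x k2 k3 with k | k | k | k
    · rw [hx, k]; simp
    · rw [hx, k]; simp
    · rw [hx, k]; simp
    · rw [hx, k]; simp

theorem n_ne : R.n ≠ 1 := fun h => R.n_not_mem (by rw [h]; exact one_mem _)

/-- every involution is conjugate to `n` or `a * n` -/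
theorem inv_conj [Fintype K] {m : ℕ} (hK : Fintype.card K = 3 ^ (2 * m + 1)) {z : G} (hz : z * z = 1) (hz1 : z ≠ 1) :
    ∃ g : G, g⁻¹ * z * g = R.n ∨ g⁻¹ * z * g = R.a * R.n := by
  -- first find a point moved
  have h1 : ∃ g : G, g⁻¹ * z * g ∉ R.B := by
    by_contra hcon
    push Not at hcon
    have k1 : ∀ g : G, z ∈ MulAction.stabilizer G (g : G ⧸ R.B) := fun g => R.mem_stab.2 (hcon g)
    have k2 : z ∈ R.H := by
      have := R.stab_two.1 ⟨k1 1, k1 (1 * R.n)⟩
      simpa using this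
    have k3 := fun (b : G) (hb : b ∈ R.U) => (R.stab_three (g := 1) hb).1 ⟨⟨k1 1, k1 _⟩, k1 _⟩
    obtain ⟨s, hs⟩ := R.mem_H.1 k2
    have k4 := (k3 (R.w 1 0 0) (R.w_mem _ _ _)).2
    have e : (1 : G)⁻¹ * z * 1 = z := by group
    rw [e, hs] at k4
    rcases ((R.h_comm_iff _ _ _ _).1 k4).1 with k5 | k5
    · exact one_ne_zero k5
    · apply hz1
      rw [hs, k5, map_one]
  obtain ⟨g, hg⟩ := h1
  -- `z` interchanges `g B` and `z g B`
  have h2 : (g : G ⧸ R.B) ≠ ((z * g : G) : G ⧸ R.B) := by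
    intro h
    apply hg
    rw [R.mk_eq_iff] at h
    have e : g⁻¹ * (z * g) = g⁻¹ * z * g := by group
    rwa [e] at h
  obtain ⟨k, hk1, hk2⟩ := R.two_trans h2
  have e1 : ((z * k : G) : G ⧸ R.B) = ((k * R.n : G) : G ⧸ R.B) := by
    rw [← hk2]
    change z • ((k : G) : G ⧸ R.B) = z • ((g : G) : G ⧸ R.B)
    rw [hk1]
  have e2 : ((z * (k * R.n) : G) : G ⧸ R.B) = ((k : G) : G ⧸ R.B) := by
    have : z • (((k * R.n : G) : G) : G ⧸ R.B) = z • (((z * k : G) : G) : G ⧸ R.B) := by rw [e1]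
    change ((z * (k * R.n) : G) : G ⧸ R.B) = ((z * (z * k) : G) : G ⧸ R.B) at this
    rw [this, ← mul_assoc, hz, one_mul]
  set y := k⁻¹ * z * k with hy
  have h3 : y * R.n ∈ R.B := by
    have := R.mk_eq_iff.1 e2.symm
    have e : k⁻¹ * (z * (k * R.n)) = y * R.n := by rw [hy]; group
    rwa [e] at this
  have h4 : R.n * y ∈ R.B := by
    have := R.mk_eq_iff.1 e1
    have e : (z * k)⁻¹ * (k * R.n) = (R.n * y)⁻¹ := by
      rw [hy, mul_inv_rev, mul_inv_rev, R.n_inv]; group
    rw [e] at this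
    exact R.B.inv_mem_iff.1 this
  have h5 : y * R.n ∈ R.H := R.n_conj_B' h3 (by
    have e : R.n * (y * R.n) * R.n = R.n * y * (R.n * R.n) := by group
    rw [e, R.nn, mul_one]
    exact h4)
  obtain ⟨s, hs⟩ := R.mem_H.1 h5
  have h6 : y = R.h s * R.n := by rw [← hs, mul_assoc, R.nn, mul_one]
  -- every unit is `±` a square
  have h7 : ∃ t : Kˣ, s = t ^ 2 ∨ s = -t ^ 2 := by
    have hodd : ∀ s : Kˣ, Odd (orderOf s) → ∃ t : Kˣ, s = t ^ 2 := by
      intro s ⟨l, hl⟩
      refine ⟨s ^ (l + 1), ?_⟩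
      rw [← pow_mul]
      have e : (l + 1) * 2 = orderOf s + 1 := by rw [hl]; ring
      rw [e, pow_succ, pow_orderOf_eq_one, one_mul]
    rcases pm_odd hK R.char3 s with h | h
    · obtain ⟨t, ht⟩ := hodd s h
      exact ⟨t, Or.inl ht⟩
    · obtain ⟨t, ht⟩ := hodd _ h
      exact ⟨t, Or.inr (by rw [← ht, neg_neg])⟩
  obtain ⟨t, ht⟩ := h7
  have h8 : ∀ x : Kˣ, (R.h t)⁻¹ * (R.h x * R.n) * R.h t = R.h (x * (t ^ 2)⁻¹) * R.n := by
    intro x
    calc (R.h t)⁻¹ * (R.h x * R.n) * R.h t = (R.h t)⁻¹ * R.h x * (R.n * R.h t) := by group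
      _ = (R.h t)⁻¹ * R.h x * (R.h t⁻¹ * R.n) := by rw [R.nhc]
      _ = R.h (x * (t ^ 2)⁻¹) * R.n := by
        rw [← mul_assoc, ← map_inv, ← map_mul, ← map_mul]
        congr 2
        rw [pow_two, mul_inv]
        ac_rfl
  refine ⟨k * R.h t, ?_⟩
  have e3 : (k * R.h t)⁻¹ * z * (k * R.h t) = (R.h t)⁻¹ * y * R.h t := by rw [hy]; group
  rw [e3, h6, h8]
  rcases ht with ht | ht
  · left
    rw [ht, mul_inv_cancel, map_one, one_mul]
  · right
    rw [ht, a]
    congr 2
    rw [neg_mul, mul_inv_cancel]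

end RG

end Cfsg.Agent.H6.Ree
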