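import Cfsg.Agent.H6_Ree10

/-!
The Ree groups: the Sylow `2`-normaliser.
-/

set_option autoImplicit false
set_option linter.unusedSectionVars false

namespace Cfsg.Agent.H6.Ree

open Cfsg Cfsg.Lie
open scoped Pointwise

theorem comm_of_sq {G : Type*} [Group G] {x y : G} (h1 : x * x = 1) (h2 : y * y = 1) (h3 : x * y * (x * y) = 1) :
    x * y = y * x := by
  have h : (x * y)⁻¹ = x * y := inv_eq_of_mul_eq_one_left h3
  rw [← h, mul_inv_rev, inv_eq_of_mul_eq_one_left h1, inv_eq_of_mul_eq_one_left h2]

theorem card_list {G : Type*} {s : Set G} {l : List G} (hl : l.Nodup) (h : ∀ y, y ∈ s ↔ y ∈ l) : Nat.card s = l.length := by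
  classical
  have h1 : s = (l.toFinset : Set G) := by
    ext y
    rw [h, Finset.mem_coe, List.mem_toFinset]
  change s.ncard = _
  rw [h1, Set.ncard_coe_finset, List.toFinset_card_of_nodup hl]

namespace RG

variable {K : Type*} [Field K] {G : Type*} [Group G] (R : RG K G)

include R

section fin

variable [Fintype K] [Finite G] {m : ℕ} (hK : Fintype.card K = 3 ^ (2 * m + 1))

include hK

/-- the standard Sylow `2`-subgroup -/
theorem exists_S : ∃ S : Sylow 2 G, (∀ y, y ∈ S ↔
    y ∈ ({1, R.a, R.n, R.j, R.n * R.j, R.a * R.n, R.a * R.j, R.a * (R.n * R.j)} : Set G)) := by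
  have : Fact (Nat.Prime 2) := ⟨Nat.prime_two⟩
  have hcl : ∀ x ∈ Subgroup.closure ({R.a, R.n, R.j} : Set G), x * x = 1 := by
    have hcm : IsMulCommutative (Subgroup.closure ({R.a, R.n, R.j} : Set G)) := by
      refine Subgroup.isMulCommutative_closure fun x hx y hy => ?_
      simp only [Set.mem_insert_iff, Set.mem_singleton_iff] at hx hy
      rcases hx with rfl | rfl | rfl <;> rcases hy with rfl | rfl | rfl
      · rfl
      · exact R.a_n
      · exact R.a_j
      · exact R.a_n.symm
      · rfl
      · exact R.n_j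
      · exact R.a_j.symm
      · exact R.n_j.symm
      · rfl
    intro x hx
    induction hx using Subgroup.closure_induction with
    | mem x hx =>
      simp only [Set.mem_insert_iff, Set.mem_singleton_iff] at hx
      rcases hx with rfl | rfl | rfl
      · exact R.aa
      · exact R.nn
      · exact R.jj_one
    | one => rw [one_mul]
    | mul x y hx hy h1 h2 =>
      have h3 : x * y = y * x := congrArg Subtype.val (hcm.is_comm.comm ⟨x, hx⟩ ⟨y, hy⟩)
      calc x * y * (x * y) = x * (y * x) * y := by group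
        _ = (x * x) * (y * y) := by rw [← h3]; group
        _ = 1 := by rw [h1, h2, one_mul]
    | inv x hx h => rw [← mul_inv_rev, h, inv_one]
  have hp : IsPGroup 2 (Subgroup.closure ({R.a, R.n, R.j} : Set G)) := by
    rintro ⟨x, hx⟩
    exact ⟨1, Subtype.ext (by
      change x ^ 2 ^ 1 = 1
      rw [pow_one, pow_two]
      exact hcl x hx)⟩
  obtain ⟨S, hS⟩ := hp.exists_le_sylow
  have ha : R.a ∈ S := hS (Subgroup.subset_closure (by simp))
  have hn : R.n ∈ S := hS (Subgroup.subset_closure (by simp))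
  have hj : R.j ∈ S := hS (Subgroup.subset_closure (by simp))
  refine ⟨S, fun y => ⟨fun hy => ?_, fun hy => ?_⟩⟩
  · have hcomm : ∀ x ∈ S, x * y = y * x := by
      intro x hx
      have h1 := (R.sylow2 hK S).2 x hx
      have h2 := (R.sylow2 hK S).2 y hy
      have h3 := (R.sylow2 hK S).2 (x * y) (mul_mem hx hy)
      exact comm_of_sq h1 h2 h3
    exact R.cen_three hK (hcomm _ ha) (hcomm _ hn) (hcomm _ hj)
  · simp only [Set.mem_insert_iff, Set.mem_singleton_iff] at hy
    rcases hy with rfl | rfl | rfl | rfl | rfl | rfl | rfl | rfl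
    · exact one_mem _
    · exact ha
    · exact hn
    · exact hj
    · exact mul_mem hn hj
    · exact mul_mem ha hn
    · exact mul_mem ha hj
    · exact mul_mem ha (mul_mem hn hj)

/-- the list of the elements of `S` has no repetitions -/
theorem nodup_S {S : Sylow 2 G} (hS : ∀ y, y ∈ S ↔
    y ∈ ({1, R.a, R.n, R.j, R.n * R.j, R.a * R.n, R.a * R.j, R.a * (R.n * R.j)} : Set G)) :
    ([1, R.a, R.n, R.j, R.n * R.j, R.a * R.n, R.a * R.j, R.a * (R.n * R.j)] : List G).Nodup := by
  classical
  have h8 := (R.sylow2 hK S).1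
  set l : List G := [1, R.a, R.n, R.j, R.n * R.j, R.a * R.n, R.a * R.j, R.a * (R.n * R.j)] with hl
  have h1 : Nat.card S = l.toFinset.card := by
    rw [← Fintype.card_coe, ← Nat.card_eq_fintype_card]
    apply Nat.card_congr
    refine Equiv.subtypeEquivRight fun y => ?_
    rw [List.mem_toFinset, hl]
    have := hS y
    simp only [Set.mem_insert_iff, Set.mem_singleton_iff] at this
    simp only [List.mem_cons, List.not_mem_nil, or_false]
    exact this
  rw [← Multiset.coe_nodup, ← Multiset.toFinset_card_eq_card_iff_nodup]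
  change l.toFinset.card = 8
  rw [← h1, h8]

theorem main_S {S : Sylow 2 G} (hS : ∀ y, y ∈ S ↔
    y ∈ ({1, R.a, R.n, R.j, R.n * R.j, R.a * R.n, R.a * R.j, R.a * (R.n * R.j)} : Set G)) :
    (Subgroup.centralizer ((S : Subgroup G) : Set G) = S ∧
      Nat.card (Subgroup.normalizer ((S : Subgroup G) : Set G)) = 168) ∧
    ∀ z : G, z * z = 1 → z ≠ 1 → ∃ g, g⁻¹ * z * g = R.a := by
  classical
  have : Fact (Nat.Prime 2) := ⟨Nat.prime_two⟩
  have hnd := R.nodup_S hK hS
  simp only [Set.mem_insert_iff, Set.mem_singleton_iff] at hS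
  obtain ⟨h8, hsq⟩ := R.sylow2 hK S
  set a := R.a with ha0
  set n := R.n with hn0
  set j := R.j with hj0
  have ha : a ∈ S := (hS a).2 (by simp)
  have hn : n ∈ S := (hS n).2 (by simp)
  have hj : j ∈ S := (hS j).2 (by simp)
  have hcomm : ∀ x ∈ S, ∀ y ∈ S, x * y = y * x := fun x hx y hy =>
    comm_of_sq (hsq x hx) (hsq y hy) (hsq _ (mul_mem hx hy))
  have hcS : ∀ y, a * y = y * a → n * y = y * n → j * y = y * j → y ∈ S := by
    intro y h1 h2 h3
    have := R.cen_three hK h1 h2 h3
    simp only [Set.mem_insert_iff, Set.mem_singleton_iff] at this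
    exact (hS y).2 this
  have hCS : Subgroup.centralizer ((S : Subgroup G) : Set G) = S := by
    apply le_antisymm
    · intro y hy
      rw [Subgroup.mem_centralizer_iff] at hy
      exact hcS y (hy a ha) (hy n hn) (hy j hj)
    · intro y hy
      rw [Subgroup.mem_centralizer_iff]
      intro x hx
      exact hcomm x hx y hy
  have hmc : IsMulCommutative S := ⟨⟨fun x y => Subtype.ext (hcomm x x.2 y y.2)⟩⟩
  set N := Subgroup.normalizer ((S : Subgroup G) : Set G) with hN
  have hNS : ∀ g ∈ N, ∀ x ∈ S, g * x * g⁻¹ ∈ S := fun g hg x hx => (Subgroup.mem_normalizer_iff.1 hg x).1 hx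
  -- conjugation by `x₃`
  set c := R.x3 with hc
  have ca : c * a * c⁻¹ = a := by rw [mul_inv_eq_iff_eq_mul]; exact R.x3_a
  have cn : c * n * c⁻¹ = j := R.x3_n
  have cj : c * j * c⁻¹ = n * j := R.x3_j
  have cnj : c * (n * j) * c⁻¹ = n := R.x3_nj
  have cmul : ∀ x y, c * (x * y) * c⁻¹ = (c * x * c⁻¹) * (c * y * c⁻¹) := fun x y => by group
  have can : c * (a * n) * c⁻¹ = a * j := by rw [cmul, ca, cn]
  have caj : c * (a * j) * c⁻¹ = a * (n * j) := by rw [cmul, ca, cj]
  have canj : c * (a * (n * j)) * c⁻¹ = a * n := by rw [cmul, ca, cnj]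
  have hcN : c ∈ N := by
    apply Subgroup.mem_normalizer_fintype
    intro y hy
    rcases (hS y).1 hy with rfl | rfl | rfl | rfl | rfl | rfl | rfl | rfl
    · rw [mul_one, mul_inv_cancel]; exact one_mem S
    · rw [ca]; exact ha
    · rw [cn]; exact hj
    · rw [cj]; exact mul_mem hn hj
    · rw [cnj]; exact hn
    · rw [can]; exact mul_mem ha hj
    · rw [caj]; exact mul_mem ha (mul_mem hn hj)
    · rw [canj]; exact mul_mem ha hn
  -- parity
  have h16 : ∀ (M : Subgroup G), ¬ 16 ∣ Nat.card M := by
    intro M h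
    have h1 : 16 ∣ Nat.card G := h.trans (Subgroup.card_subgroup_dvd_card M)
    obtain ⟨r, k, hr, hk, e1, e2⟩ := R.two_part hK
    rw [e2, e1] at h1
    have h2 : Odd (r * k) := hr.mul hk
    obtain ⟨l, hl⟩ := h2
    have h3 : 8 * r * k = 8 * (2 * l + 1) := by rw [← hl]; ring
    rw [h3] at h1
    omega
  have hSdvd : ∀ (M : Subgroup G), (S : Subgroup G) ≤ M → 8 ∣ Nat.card M := by
    intro M hM
    rw [← h8]
    exact Subgroup.card_dvd_of_le hM
  have hodd : ∀ (M M' : Subgroup G) (t : ℕ), Nat.card M = t * Nat.card M' → (S : Subgroup G) ≤ M' → t % 2 = 1 := by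
    intro M M' t h1 h2
    obtain ⟨l, hl⟩ := hSdvd M' h2
    have h3 := h16 M
    rw [h1, hl] at h3
    by_contra h4
    apply h3
    obtain ⟨u, hu⟩ : ∃ u, t = 2 * u := ⟨t / 2, by omega⟩
    exact ⟨u * l, by rw [hu]; ring⟩
  have hSN : (S : Subgroup G) ≤ N := Subgroup.le_normalizer
  have hSca : ∀ x ∈ S, (S : Subgroup G) ≤ Subgroup.centralizer {x} := by
    intro x hx y hy
    rw [Subgroup.mem_centralizer_iff]
    rintro z rfl
    exact hcomm z hx y hy
  -- the orbit of `a`
  have e1 := card_orb N a
  have o1 := hodd _ _ _ e1 (le_inf hSN (hSca a ha))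
  have hOc : ∀ y, (∃ g ∈ N, y = g * a * g⁻¹) → ∃ g ∈ N, c * y * c⁻¹ = g * a * g⁻¹ := by
    rintro _ ⟨g, hg, rfl⟩
    exact ⟨c * g, mul_mem hcN hg, by group⟩
  have hOS : ∀ y, (∃ g ∈ N, y = g * a * g⁻¹) → y ∈ S := by
    rintro _ ⟨g, hg, rfl⟩
    exact hNS g hg a ha
  have hO1 : ¬ ∃ g ∈ N, (1 : G) = g * a * g⁻¹ := by
    rintro ⟨g, hg, h⟩
    apply R.a_ne
    have : a = g⁻¹ * (g * a * g⁻¹) * g := by group
    rw [← ha0, this, ← h]; group
  have hOa : ∃ g ∈ N, a = g * a * g⁻¹ := ⟨1, one_mem _, by group⟩
  have hOn : (∃ g ∈ N, n = g * a * g⁻¹) ∨ ∃ g ∈ N, a * n = g * a * g⁻¹ := by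
    obtain ⟨g, hg | hg⟩ := R.inv_conj hK R.aa R.a_ne
    · left
      obtain ⟨k, hk, h⟩ := S.conj_eq_normalizer_conj_of_mem a g ha (by rw [hg]; exact hn)
      refine ⟨k⁻¹, inv_mem hk, ?_⟩
      rw [inv_inv, ← h, hg]
    · right
      obtain ⟨k, hk, h⟩ := S.conj_eq_normalizer_conj_of_mem a g ha (by rw [hg]; exact mul_mem ha hn)
      refine ⟨k⁻¹, inv_mem hk, ?_⟩
      rw [inv_inv, ← h, hg]
  set O : Set G := {y | ∃ g ∈ N, y = g * a * g⁻¹} with hO
  change Nat.card N = Nat.card O * _ at e1
  change Nat.card O % 2 = 1 at o1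
  change ∀ y, y ∈ O → c * y * c⁻¹ ∈ O at hOc
  change ∀ y, y ∈ O → y ∈ S at hOS
  change ¬ (1 ∈ O) at hO1
  change a ∈ O at hOa
  change n ∈ O ∨ a * n ∈ O at hOn
  have T1 : n ∈ O → j ∈ O ∧ n * j ∈ O := fun h => by
    have h1 := hOc _ h
    rw [cn] at h1
    have h2 := hOc _ h1
    rw [cj] at h2
    exact ⟨h1, h2⟩
  have T1' : n * j ∈ O → n ∈ O := fun h => by
    have h1 := hOc _ h
    rwa [cnj] at h1
  have T1'' : j ∈ O → n ∈ O := fun h => by
    have h1 := hOc _ h
    rw [cj] at h1
    exact T1' h1
  have T2 : a * n ∈ O → a * j ∈ O ∧ a * (n * j) ∈ O := fun h => by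
    have h1 := hOc _ h
    rw [can] at h1
    have h2 := hOc _ h1
    rw [caj] at h2
    exact ⟨h1, h2⟩
  have T2' : a * (n * j) ∈ O → a * n ∈ O := fun h => by
    have h1 := hOc _ h
    rwa [canj] at h1
  have T2'' : a * j ∈ O → a * n ∈ O := fun h => by
    have h1 := hOc _ h
    rw [caj] at h1
    exact T2' h1
  have hOall : n ∈ O ∧ a * n ∈ O := by
    by_cases c1 : n ∈ O <;> by_cases c2 : a * n ∈ O
    · exact ⟨c1, c2⟩
    · exfalso
      have h1 : Nat.card O = [a, n, j, n * j].length := by
        apply card_list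
        · exact hnd.sublist (List.Sublist.cons _ (List.take_sublist 4 [a, n, j, n * j, a * n, a * j, a * (n * j)]))
        · intro y
          simp only [List.mem_cons, List.not_mem_nil, or_false]
          constructor
          · intro hy
            rcases (hS y).1 (hOS y hy) with rfl | rfl | rfl | rfl | rfl | rfl | rfl | rfl
            · exact absurd hy hO1
            · simp
            · simp
            · simp
            · simp
            · exact absurd hy c2
            · exact absurd (T2'' hy) c2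
            · exact absurd (T2' hy) c2
          · rintro (rfl | rfl | rfl | rfl)
            · exact hOa
            · exact c1
            · exact (T1 c1).1
            · exact (T1 c1).2
      rw [h1] at o1
      simp at o1
    · exfalso
      have h1 : Nat.card O = [a, a * n, a * j, a * (n * j)].length := by
        apply card_list
        · exact hnd.sublist (List.Sublist.cons _ (List.Sublist.cons_cons _ (List.Sublist.cons _ (List.Sublist.cons _
            (List.Sublist.cons _ (List.Sublist.refl [a * n, a * j, a * (n * j)]))))))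
        · intro y
          simp only [List.mem_cons, List.not_mem_nil, or_false]
          constructor
          · intro hy
            rcases (hS y).1 (hOS y hy) with rfl | rfl | rfl | rfl | rfl | rfl | rfl | rfl
            · exact absurd hy hO1
            · simp
            · exact absurd hy c1
            · exact absurd (T1'' hy) c1
            · exact absurd (T1' hy) c1
            · simp
            · simp
            · simp
          · rintro (rfl | rfl | rfl | rfl)
            · exact hOa
            · exact c2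
            · exact (T2 c2).1
            · exact (T2 c2).2
      rw [h1] at o1
      simp at o1
    · exact absurd hOn (not_or.2 ⟨c1, c2⟩)
  obtain ⟨c1, c2⟩ := hOall
  have h7 : Nat.card O = 7 := by
    have h1 : Nat.card O = [a, n, j, n * j, a * n, a * j, a * (n * j)].length := by
      apply card_list
      · exact hnd.of_cons
      · intro y
        simp only [List.mem_cons, List.not_mem_nil, or_false]
        constructor
        · intro hy
          rcases (hS y).1 (hOS y hy) with h | h
          · rw [h] at hy; exact absurd hy hO1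
          · exact h
        · rintro (rfl | rfl | rfl | rfl | rfl | rfl | rfl)
          · exact hOa
          · exact c1
          · exact (T1 c1).1
          · exact (T1 c1).2
          · exact c2
          · exact (T2 c2).1
          · exact (T2 c2).2
    rw [h1]; rfl
  -- the orbit of `n` in the stabiliser of `a`
  set M := N ⊓ Subgroup.centralizer {a} with hM
  have hSM : (S : Subgroup G) ≤ M := le_inf hSN (hSca a ha)
  have e2 := card_orb M n
  have o2 := hodd _ _ _ e2 (le_inf hSM (hSca n hn))
  have hcM : c ∈ M := ⟨hcN, by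
    change c ∈ Subgroup.centralizer ({a} : Set G)
    rw [Subgroup.mem_centralizer_iff]
    rintro z rfl
    exact R.x3_a.symm⟩
  have hMa : ∀ g ∈ M, g * a * g⁻¹ = a := by
    intro g hg
    rw [← Subgroup.mem_centralizer_iff.1 hg.2 a rfl]; group
  set Q : Set G := {y | ∃ g ∈ M, y = g * n * g⁻¹} with hQ
  change Nat.card M = Nat.card Q * _ at e2
  change Nat.card Q % 2 = 1 at o2
  have hQc : ∀ y, y ∈ Q → c * y * c⁻¹ ∈ Q := by
    rintro _ ⟨g, hg, rfl⟩
    exact ⟨c * g, mul_mem hcM hg, by group⟩
  have hQS : ∀ y, y ∈ Q → y ∈ S := by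
    rintro _ ⟨g, hg, rfl⟩
    exact hNS g hg.1 n hn
  have hQ1 : (1 : G) ∉ Q := by
    rintro ⟨g, hg, h⟩
    apply R.n_ne
    have : n = g⁻¹ * (g * n * g⁻¹) * g := by group
    rw [← hn0, this, ← h]; group
  have hne_an : a ≠ n := by
    have h1 := hnd.of_cons
    rw [List.nodup_cons] at h1
    intro h
    apply h1.1
    rw [h]; simp
  have hQa : a ∉ Q := by
    rintro ⟨g, hg, h⟩
    have h1 := hMa g⁻¹ (inv_mem hg)
    apply hne_an
    have h2 : n = g⁻¹ * (g * n * g⁻¹) * g⁻¹⁻¹ := by group
    rw [h2, ← h, h1]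
  have hQn : n ∈ Q := ⟨1, one_mem _, by group⟩
  have hQj : j ∈ Q := by have := hQc _ hQn; rwa [cn] at this
  have hQnj : n * j ∈ Q := by have := hQc _ hQj; rwa [cj] at this
  have hQan : a * n ∉ Q := by
    intro h
    have hQaj : a * j ∈ Q := by have := hQc _ h; rwa [can] at this
    have hQanj : a * (n * j) ∈ Q := by have := hQc _ hQaj; rwa [caj] at this
    have h1 : Nat.card Q = [n, j, n * j, a * n, a * j, a * (n * j)].length := by
      apply card_list
      · exact hnd.of_cons.of_cons
      · intro y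
        simp only [List.mem_cons, List.not_mem_nil, or_false]
        constructor
        · intro hy
          rcases (hS y).1 (hQS y hy) with h | h | h
          · rw [h] at hy; exact absurd hy hQ1
          · rw [h] at hy; exact absurd hy hQa
          · exact h
        · rintro (rfl | rfl | rfl | rfl | rfl | rfl)
          · exact hQn
          · exact hQj
          · exact hQnj
          · exact h
          · exact hQaj
          · exact hQanj
    rw [h1] at o2
    simp at o2
  have hQanj : a * (n * j) ∉ Q := fun h => hQan (by have := hQc _ h; rwa [canj] at this)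
  have hQaj : a * j ∉ Q := fun h => hQanj (by have := hQc _ h; rwa [caj] at this)
  have h3 : Nat.card Q = 3 := by
    have h1 : Nat.card Q = [n, j, n * j].length := by
      apply card_list
      · exact hnd.of_cons.of_cons.sublist (List.take_sublist 3 [n, j, n * j, a * n, a * j, a * (n * j)])
      · intro y
        simp only [List.mem_cons, List.not_mem_nil, or_false]
        constructor
        · intro hy
          rcases (hS y).1 (hQS y hy) with rfl | rfl | rfl | rfl | rfl | rfl | rfl | rfl
          · exact absurd hy hQ1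
          · exact absurd hy hQa
          · simp
          · simp
          · simp
          · exact absurd hy hQan
          · exact absurd hy hQaj
          · exact absurd hy hQanj
        · rintro (rfl | rfl | rfl)
          · exact hQn
          · exact hQj
          · exact hQnj
    rw [h1]; rfl
  have h4 : M ⊓ Subgroup.centralizer {n} = S := by
    apply le_antisymm _ (le_inf hSM (hSca n hn))
    rintro y ⟨hyM, hyn⟩
    have ya : y * a * y⁻¹ = a := hMa y hyM
    have yn : y * n * y⁻¹ = n := by
      rw [← Subgroup.mem_centralizer_iff.1 hyn n rfl]; group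
    have yan : y * (a * n) * y⁻¹ = a * n := by
      calc y * (a * n) * y⁻¹ = (y * a * y⁻¹) * (y * n * y⁻¹) := by group
        _ = a * n := by rw [ya, yn]
    have inj : ∀ x z, y * x * y⁻¹ = y * z * y⁻¹ → x = z := fun x z h =>
      mul_left_cancel (mul_right_cancel h)
    have hjne : j ≠ 1 ∧ j ≠ a ∧ j ≠ n ∧ j ≠ a * n := by
      have h1 := hnd
      simp only [List.nodup_cons, List.mem_cons, not_or] at h1
      exact ⟨fun h => h1.1.2.2.1 h.symm, fun h => h1.2.1.2.1 h.symm, fun h => h1.2.2.1.1 h.symm, h1.2.2.2.1.2.1⟩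
    have hs : ∃ s, s * s = 1 ∧ y * s * y⁻¹ = s ∧ y * j * y⁻¹ = s * j := by
      rcases (hS _).1 (hNS y hyM.1 j hj) with h | h | h | h | h | h | h | h
      · exfalso
        apply hjne.1
        apply inj
        rw [h]; group
      · exact absurd (inj j a (by rw [h, ya])) hjne.2.1
      · exact absurd (inj j n (by rw [h, yn])) hjne.2.2.1
      · exact ⟨1, one_mul 1, by group, by rw [h, one_mul]⟩
      · exact ⟨n, R.nn, yn, h⟩
      · exact absurd (inj j (a * n) (by rw [h, yan])) hjne.2.2.2
      · exact ⟨a, R.aa, ya, h⟩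
      · exact ⟨a * n, hsq _ (mul_mem ha hn), yan, by rw [h, mul_assoc]⟩
    obtain ⟨s, hss, hys, hyj⟩ := hs
    have hy2j : (y * y) * j * (y * y)⁻¹ = j := by
      calc (y * y) * j * (y * y)⁻¹ = y * (y * j * y⁻¹) * y⁻¹ := by group
        _ = y * (s * j) * y⁻¹ := by rw [hyj]
        _ = (y * s * y⁻¹) * (y * j * y⁻¹) := by group
        _ = (s * s) * j := by rw [hys, hyj, mul_assoc]
        _ = j := by rw [hss, one_mul]
    have hy2a : (y * y) * a * (y * y)⁻¹ = a := by
      calc (y * y) * a * (y * y)⁻¹ = y * (y * a * y⁻¹) * y⁻¹ := by group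
        _ = a := by rw [ya, ya]
    have hy2n : (y * y) * n * (y * y)⁻¹ = n := by
      calc (y * y) * n * (y * y)⁻¹ = y * (y * n * y⁻¹) * y⁻¹ := by group
        _ = n := by rw [yn, yn]
    have hyS : y * y ∈ S := hcS _ (mul_inv_eq_iff_eq_mul.1 hy2a).symm (mul_inv_eq_iff_eq_mul.1 hy2n).symm
      (mul_inv_eq_iff_eq_mul.1 hy2j).symm
    have hy4 := hsq _ hyS
    have hp : IsPGroup 2 (Subgroup.zpowers y) := by
      rw [IsPGroup.iff_card]
      have h1 : orderOf y ∣ 2 ^ 2 := by
        apply orderOf_dvd_of_pow_eq_one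
        rw [show 2 ^ 2 = 2 + 2 from rfl, pow_add, pow_two]
        exact hy4
      obtain ⟨k, -, hk⟩ := (Nat.dvd_prime_pow Nat.prime_two).1 h1
      exact ⟨k, by rw [Nat.card_zpowers, hk]⟩
    have h1 := IsPGroup.inf_normalizer_sylow hp S
    have h2 : y ∈ Subgroup.zpowers y ⊓ (S : Subgroup G) := by
      rw [← h1]
      exact ⟨Subgroup.mem_zpowers y, hyM.1⟩
    exact h2.2
  refine ⟨⟨hCS, ?_⟩, ?_⟩
  · rw [e1, e2, h7, h3, h4, h8]
  · intro z hz hz1
    obtain ⟨g, hg | hg⟩ := R.inv_conj hK hz hz1
    · obtain ⟨k, hk, h⟩ := c1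
      refine ⟨g * k, ?_⟩
      calc (g * k)⁻¹ * z * (g * k) = k⁻¹ * (g⁻¹ * z * g) * k := by group
        _ = k⁻¹ * (k * a * k⁻¹) * k := by rw [hg, ← h]
        _ = a := by group
    · obtain ⟨k, hk, h⟩ := c2
      refine ⟨g * k, ?_⟩
      calc (g * k)⁻¹ * z * (g * k) = k⁻¹ * (g⁻¹ * z * g) * k := by group
        _ = k⁻¹ * (k * a * k⁻¹) * k := by rw [hg, ← h]
        _ = a := by group

theorem inv_conj_a {z : G} (hz : z * z = 1) (hz1 : z ≠ 1) : ∃ g, g⁻¹ * z * g = R.a := by
  obtain ⟨S, hS⟩ := R.exists_S hK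
  exact (R.main_S hK hS).2 z hz hz1

/-- S1157 -/
theorem sylow2_norm (S : Sylow 2 G) : Subgroup.centralizer ((S : Subgroup G) : Set G) = S ∧
      Nat.card (Subgroup.normalizer ((S : Subgroup G) : Set G)) = 168 := by
  have : Fact (Nat.Prime 2) := ⟨Nat.prime_two⟩
  obtain ⟨S₀, hS₀⟩ := R.exists_S hK
  obtain ⟨⟨h1, h2⟩, -⟩ := R.main_S hK hS₀
  constructor
  · apply le_antisymm
    · obtain ⟨g, hg⟩ := MulAction.exists_smul_eq G S₀ S
      intro y hy
      have hmem : ∀ x, x ∈ S ↔ g⁻¹ * x * g ∈ S₀ := by
        intro x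
        rw [← hg]
        have := Subgroup.mem_pointwise_smul_iff_inv_smul_mem (a := MulAut.conj g) (S := (S₀ : Subgroup G)) (x := x)
        have e : (MulAut.conj g)⁻¹ • x = g⁻¹ * x * g := by
          rw [← map_inv]
          change g⁻¹ * x * g⁻¹⁻¹ = _
          rw [inv_inv]
        rw [e] at this
        exact this
      change y ∈ S
      rw [hmem]
      change g⁻¹ * y * g ∈ (S₀ : Subgroup G)
      rw [← h1, Subgroup.mem_centralizer_iff]
      intro x hx
      have h3 : g * x * g⁻¹ ∈ S := by
        rw [hmem]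
        have e : g⁻¹ * (g * x * g⁻¹) * g = x := by group
        rw [e]; exact hx
      have h4 := Subgroup.mem_centralizer_iff.1 hy _ h3
      calc x * (g⁻¹ * y * g) = g⁻¹ * ((g * x * g⁻¹) * y) * g := by group
        _ = g⁻¹ * (y * (g * x * g⁻¹)) * g := by rw [h4]
        _ = _ := by group
    · intro y hy
      rw [Subgroup.mem_centralizer_iff]
      intro x hx
      have hsq := (R.sylow2 hK S).2
      exact comm_of_sq (hsq x hx) (hsq y hy) (hsq _ (mul_mem hx hy))
  · rw [← h2]
    have e1 : Nat.card (Sylow 2 G) = (Subgroup.normalizer ((S : Subgroup G) : Set G)).index := S.card_eq_index_normalizer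
    have e2 : Nat.card (Sylow 2 G) = (Subgroup.normalizer ((S₀ : Subgroup G) : Set G)).index := S₀.card_eq_index_normalizer
    have e3 := Subgroup.card_mul_index (Subgroup.normalizer ((S : Subgroup G) : Set G))
    have e4 := Subgroup.card_mul_index (Subgroup.normalizer ((S₀ : Subgroup G) : Set G))
    rw [← e1] at e3
    rw [← e2, ← e3] at e4
    have hpos : 0 < Nat.card (Sylow 2 G) := Nat.card_pos
    exact (Nat.eq_of_mul_eq_mul_right hpos e4).symm

end fin

end RG

end Cfsg.Agent.H6.Ree
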