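import Cfsg.Agent.H6_Ree11

/-!
The Ree groups: the non-split torus of `SL₂`.
-/

set_option autoImplicit false
set_option linter.unusedSectionVars false

namespace Cfsg.Agent.H6.Ree

open Cfsg Cfsg.Lie
open scoped Pointwise

local notation "SL2" => Matrix.SpecialLinearGroup (Fin 2)

section torus

variable {K : Type*} [Field K]

/-- the matrix of an element of the quadratic extension -/
theorem comm_ww_iff {g : SL2 K} : g * ww = ww * g ↔ g 1 1 = g 0 0 ∧ g 1 0 = - g 0 1 := by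
  have hx : (g : Matrix (Fin 2) (Fin 2) K) = !![g 0 0, g 0 1; g 1 0, g 1 1] := Matrix.eta_fin_two _
  constructor
  · intro h
    have e1 := congrArg (fun g : SL2 K => (g : Matrix (Fin 2) (Fin 2) K)) h
    rw [mul_form hx ww_form, mul_form ww_form hx] at e1
    have a1 : g 0 0 * 0 + g 0 1 * -1 = 0 * g 0 0 + 1 * g 1 0 := congrFun (congrFun e1 0) 0
    have a2 : g 0 0 * 1 + g 0 1 * 0 = 0 * g 0 1 + 1 * g 1 1 := congrFun (congrFun e1 0) 1
    exact ⟨by linear_combination -a2, by linear_combination -a1⟩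
  · rintro ⟨h1, h2⟩
    exact sl2_ext' (mul_form hx ww_form) (mul_form ww_form hx) (by rw [h2]; ring) (by rw [h1]; ring) (by rw [h1]; ring)
      (by rw [h2]; ring)

end torus

section fin

variable {K : Type*} [Field K] [Fintype K] {m : ℕ} (hK : Fintype.card K = 3 ^ (2 * m + 1)) (h3 : (3 : K) = 0)

include hK h3

theorem no_i (x : K) : x ^ 2 ≠ -1 := by
  intro h2
  have hx : x ≠ 0 := by
    rintro rfl
    rw [zero_pow two_ne_zero] at h2
    exact one_ne_zero (neg_eq_zero.1 h2.symm)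
  have h3' := pow_card_eq_one' (x := Units.mk0 x hx)
  rw [card_units' hK, ← two_half hK, pow_mul] at h3'
  have h4 : (Units.mk0 x hx) ^ 2 = -1 := Units.ext (by
    rw [Units.val_pow_eq_pow_val, Units.val_mk0, h2]; simp)
  rw [h4, Odd.neg_one_pow (Nat.odd_iff.2 (half_odd hK))] at h3'
  have h5 := congrArg Units.val h3'
  rw [Units.val_neg, Units.val_one] at h5
  have : (1 : K) = 0 := by linear_combination h3 + h5
  exact one_ne_zero this

omit h3 in
/-- the Frobenius map of the quadratic extension -/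
theorem frob_star (z : QuadraticAlgebra K (-1) 0) : z ^ (3 ^ (2 * m + 1)) = ⟨z.re, -z.im⟩ := by
  have hcK : CharP K 3 := Chev.charP_of_card Nat.prime_three (by omega) hK
  have : Fact (Nat.Prime 3) := ⟨Nat.prime_three⟩
  have hcL : CharP (QuadraticAlgebra K (-1) 0) 3 :=
    charP_of_injective_algebraMap (R := K) (A := QuadraticAlgebra K (-1) 0) (fun x y h => congrArg QuadraticAlgebra.re h) 3
  have hz : z = algebraMap K (QuadraticAlgebra K (-1) 0) z.re + algebraMap K (QuadraticAlgebra K (-1) 0) z.im *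
      QuadraticAlgebra.omega := by
    apply QuadraticAlgebra.ext
    · rw [QuadraticAlgebra.re_add, QuadraticAlgebra.re_mul]; simp
    · rw [QuadraticAlgebra.im_add, QuadraticAlgebra.im_mul]; simp
  have hc : ∀ c : K, (algebraMap K (QuadraticAlgebra K (-1) 0) c) ^ (3 ^ (2 * m + 1)) = algebraMap K _ c := by
    intro c
    rw [← map_pow, ← hK, FiniteField.pow_card]
  have hom2 : (QuadraticAlgebra.omega : QuadraticAlgebra K (-1) 0) ^ 2 = -1 := by
    rw [pow_two, QuadraticAlgebra.omega_mul_omega_eq_mk]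
    apply QuadraticAlgebra.ext
    · rfl
    · exact neg_zero.symm
  have hom : (QuadraticAlgebra.omega : QuadraticAlgebra K (-1) 0) ^ (3 ^ (2 * m + 1)) = -QuadraticAlgebra.omega := by
    have h8 := pow_mod8 m
    obtain ⟨l, hl⟩ : ∃ l, 3 ^ (2 * m + 1) = 2 * (2 * l + 1) + 1 := ⟨(3 ^ (2 * m + 1) - 3) / 4, by omega⟩
    rw [hl, pow_succ, pow_mul, hom2, Odd.neg_one_pow ⟨l, rfl⟩, neg_one_mul]
  conv_lhs => rw [hz]
  rw [add_pow_char_pow, mul_pow, hc, hc, hom]
  apply QuadraticAlgebra.ext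
  · rw [QuadraticAlgebra.re_add, QuadraticAlgebra.re_mul]; simp
  · rw [QuadraticAlgebra.im_add, QuadraticAlgebra.im_mul]; simp

omit h3 in
theorem pow_norm (z : QuadraticAlgebra K (-1) 0) : z ^ (3 ^ (2 * m + 1) + 1) = ⟨z.re * z.re + z.im * z.im, 0⟩ := by
  rw [pow_succ, frob_star hK]
  apply QuadraticAlgebra.ext
  · rw [QuadraticAlgebra.re_mul]; ring
  · rw [QuadraticAlgebra.im_mul]; ring

/-- the centraliser of `ww` in `SL₂` -/
theorem cen_ww : IsCyclic (Subgroup.centralizer ({ww} : Set (SL2 K))) ∧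
    Nat.card (Subgroup.centralizer ({ww} : Set (SL2 K))) = 3 ^ (2 * m + 1) + 1 := by
  have hfact : Fact (∀ r : K, r ^ 2 ≠ (-1) + 0 * r) := ⟨fun r => by
    rw [zero_mul, add_zero]; exact no_i hK h3 r⟩
  let L := QuadraticAlgebra K (-1) 0
  have memC : ∀ g : SL2 K, g ∈ Subgroup.centralizer ({ww} : Set (SL2 K)) ↔ g 1 1 = g 0 0 ∧ g 1 0 = - g 0 1 := by
    intro g
    rw [← comm_ww_iff, Subgroup.mem_centralizer_iff]
    simp only [Set.mem_singleton_iff, forall_eq]
    exact eq_comm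
  let f : Subgroup.centralizer ({ww} : Set (SL2 K)) →* L :=
    { toFun := fun g => ⟨g.1 0 0, g.1 0 1⟩
      map_one' := by
        apply QuadraticAlgebra.ext
        · rfl
        · rfl
      map_mul' := fun g g' => by
        obtain ⟨h1, h2⟩ := (memC _).1 g.2
        obtain ⟨h1', h2'⟩ := (memC _).1 g'.2
        have hg : ((g : SL2 K) : Matrix (Fin 2) (Fin 2) K) = !![g.1 0 0, g.1 0 1; g.1 1 0, g.1 1 1] := Matrix.eta_fin_two _
        have hg' : ((g' : SL2 K) : Matrix (Fin 2) (Fin 2) K) = !![g'.1 0 0, g'.1 0 1; g'.1 1 0, g'.1 1 1] := Matrix.eta_fin_two _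
        have hm := mul_form hg hg'
        apply QuadraticAlgebra.ext
        · have e : ((g : SL2 K) * (g' : SL2 K)) 0 0 = g.1 0 0 * g'.1 0 0 + g.1 0 1 * g'.1 1 0 :=
            congrFun (congrFun hm 0) 0
          rw [QuadraticAlgebra.re_mul]
          change ((g : SL2 K) * (g' : SL2 K)) 0 0 = _
          rw [e, h2']
          ring
        · have e : ((g : SL2 K) * (g' : SL2 K)) 0 1 = g.1 0 0 * g'.1 0 1 + g.1 0 1 * g'.1 1 1 :=
            congrFun (congrFun hm 0) 1
          rw [QuadraticAlgebra.im_mul]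
          change ((g : SL2 K) * (g' : SL2 K)) 0 1 = _
          rw [e, h1']
          ring }
  have hf : Function.Injective f := by
    intro g g' h
    obtain ⟨h1, h2⟩ := (memC _).1 g.2
    obtain ⟨h1', h2'⟩ := (memC _).1 g'.2
    have e1 : g.1 0 0 = g'.1 0 0 := congrArg QuadraticAlgebra.re h
    have e2 : g.1 0 1 = g'.1 0 1 := congrArg QuadraticAlgebra.im h
    have hg : ((g : SL2 K) : Matrix (Fin 2) (Fin 2) K) = !![g.1 0 0, g.1 0 1; g.1 1 0, g.1 1 1] := Matrix.eta_fin_two _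
    have hg' : ((g' : SL2 K) : Matrix (Fin 2) (Fin 2) K) = !![g'.1 0 0, g'.1 0 1; g'.1 1 0, g'.1 1 1] := Matrix.eta_fin_two _
    exact Subtype.ext (sl2_ext' hg hg' e1 e2 (by rw [h2, h2', e2]) (by rw [h1, h1', e1]))
  refine ⟨isCyclic_of_injective_ringHom f hf, ?_⟩
  classical
  let : Fintype L := Fintype.ofEquiv (K × K) (QuadraticAlgebra.equivProd (-1) 0).symm
  have hcard : Fintype.card L = 3 ^ (2 * m + 1) * 3 ^ (2 * m + 1) := by
    rw [Fintype.card_congr (QuadraticAlgebra.equivProd (-1 : K) 0), Fintype.card_prod, hK]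
  have h1 : Nat.card {z : Lˣ // z ^ (3 ^ (2 * m + 1) + 1) = 1} = 3 ^ (2 * m + 1) + 1 := by
    rw [Chev.card_units_pow, Nat.card_units, Nat.card_eq_fintype_card, hcard]
    have h8 := pow_mod8 m
    apply Nat.gcd_eq_right
    refine ⟨3 ^ (2 * m + 1) - 1, ?_⟩
    generalize 3 ^ (2 * m + 1) = q at h8
    obtain ⟨j, rfl⟩ : ∃ j, q = j + 1 := ⟨q - 1, by omega⟩
    rw [Nat.add_sub_cancel]
    have : (j + 1) * (j + 1) = (j + 1 + 1) * j + 1 := by ring
    omega
  rw [← h1]
  apply Nat.card_congr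
  have hdet : ∀ g : SL2 K, g 0 0 * g 1 1 - g 0 1 * g 1 0 = 1 := fun g => by
    have := g.2
    rwa [Matrix.det_fin_two] at this
  have hf1 : ∀ g, (f g) ^ (3 ^ (2 * m + 1) + 1) = 1 := by
    intro g
    obtain ⟨h1, h2⟩ := (memC _).1 g.2
    rw [pow_norm hK]
    apply QuadraticAlgebra.ext
    · have := hdet g.1
      rw [h1, h2] at this
      change g.1 0 0 * g.1 0 0 + g.1 0 1 * g.1 0 1 = 1
      linear_combination this
    · rfl
  refine Equiv.ofBijective (fun g => ⟨Units.ofPowEqOne (f g) _ (hf1 g) (by omega), ?_⟩) ⟨?_, ?_⟩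
  · exact Units.ext (by
      rw [Units.val_pow_eq_pow_val, Units.val_ofPowEqOne, hf1]; rfl)
  · intro g g' h
    apply hf
    have := congrArg (fun z : {z : Lˣ // z ^ (3 ^ (2 * m + 1) + 1) = 1} => ((z : Lˣ) : L)) h
    simpa using this
  · rintro ⟨z, hz⟩
    have hz' : (z : L) ^ (3 ^ (2 * m + 1) + 1) = 1 := by
      rw [← Units.val_pow_eq_pow_val, hz]; rfl
    rw [pow_norm hK] at hz'
    have hn : (z : L).re * (z : L).re + (z : L).im * (z : L).im = 1 := congrArg QuadraticAlgebra.re hz'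
    let g : SL2 K := ⟨!![(z : L).re, (z : L).im; -(z : L).im, (z : L).re], by
      rw [Matrix.det_fin_two_of]; linear_combination hn⟩
    refine ⟨⟨g, (memC g).2 ⟨rfl, rfl⟩⟩, ?_⟩
    apply Subtype.ext
    apply Units.ext
    rw [Units.val_ofPowEqOne]
    rfl

end fin

end Cfsg.Agent.H6.Ree
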