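import Cfsg.Agent.H6_Ree12

/-!
The Ree groups: the torus `W₀` of order `q + 1`.
-/

set_option autoImplicit false
set_option linter.unusedSectionVars false

namespace Cfsg.Agent.H6.Ree

open Cfsg Cfsg.Lie
open scoped Pointwise

local notation "SL2" => Matrix.SpecialLinearGroup (Fin 2)

section sl2

variable {K : Type*} [Field K]

theorem eta_form (g : SL2 K) : (g : Matrix (Fin 2) (Fin 2) K) = !![g 0 0, g 0 1; g 1 0, g 1 1] := Matrix.eta_fin_two _

theorem comm_iff_cross {g x : SL2 K} : g * x = x * g ↔ g 0 1 * x 1 0 = g 1 0 * x 0 1 ∧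
    g 0 1 * (x 0 0 - x 1 1) = x 0 1 * (g 0 0 - g 1 1) ∧ g 1 0 * (x 0 0 - x 1 1) = x 1 0 * (g 0 0 - g 1 1) := by
  constructor
  · intro h
    have e1 := congrArg (fun g : SL2 K => (g : Matrix (Fin 2) (Fin 2) K)) h
    rw [mul_form (eta_form g) (eta_form x), mul_form (eta_form x) (eta_form g)] at e1
    have a1 : g 0 0 * x 0 0 + g 0 1 * x 1 0 = x 0 0 * g 0 0 + x 0 1 * g 1 0 := congrFun (congrFun e1 0) 0
    have a2 : g 0 0 * x 0 1 + g 0 1 * x 1 1 = x 0 0 * g 0 1 + x 0 1 * g 1 1 := congrFun (congrFun e1 0) 1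
    have a3 : g 1 0 * x 0 0 + g 1 1 * x 1 0 = x 1 0 * g 0 0 + x 1 1 * g 1 0 := congrFun (congrFun e1 1) 0
    exact ⟨by linear_combination a1, by linear_combination -a2, by linear_combination a3⟩
  · rintro ⟨h1, h2, h3⟩
    exact sl2_ext' (mul_form (eta_form g) (eta_form x)) (mul_form (eta_form x) (eta_form g))
      (by linear_combination h1) (by linear_combination -h2) (by linear_combination h3) (by linear_combination -h1)

/-- centralisers of non-central elements are abelian -/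
theorem sl2_comm_trans {x g g' : SL2 K} (hx1 : x ≠ 1) (hx2 : x ≠ -1) (h : g * x = x * g) (h' : g' * x = x * g') :
    g * g' = g' * g := by
  -- each is `α + β x`
  have key : ∀ g : SL2 K, g * x = x * g → ∃ β : K, g 0 1 = β * x 0 1 ∧ g 1 0 = β * x 1 0 ∧
      g 0 0 - g 1 1 = β * (x 0 0 - x 1 1) := by
    intro g hg
    obtain ⟨h1, h2, h3⟩ := comm_iff_cross.1 hg
    by_cases c1 : x 0 1 = 0
    · by_cases c2 : x 1 0 = 0
      · by_cases c3 : x 0 0 - x 1 1 = 0
        · exfalso
          have hdet : x 0 0 * x 1 1 - x 0 1 * x 1 0 = 1 := by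
            have := x.2
            rwa [Matrix.det_fin_two] at this
          have c4 : x 1 1 = x 0 0 := (sub_eq_zero.1 c3).symm
          rw [c1, c4, zero_mul, sub_zero] at hdet
          have hsq : (x 0 0 - 1) * (x 0 0 + 1) = 0 := by linear_combination hdet
          rcases mul_eq_zero.1 hsq with h | h
          · exact hx1 (sl2_ext' (eta_form x) one_form (sub_eq_zero.1 h) c1 c2 (c4.trans (sub_eq_zero.1 h)))
          · have h' := eq_neg_of_add_eq_zero_left h
            exact hx2 (sl2_ext' (eta_form x) (neg_form one_form) h' (by rw [c1]; ring) (by rw [c2]; ring) (c4.trans h'))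
        · refine ⟨(g 0 0 - g 1 1) / (x 0 0 - x 1 1), ?_, ?_, ?_⟩
          · rw [c1, zero_mul] at h2 
            rw [c1, mul_zero]
            exact (mul_eq_zero.1 h2).resolve_right c3
          · rw [c2, zero_mul] at h3 
            rw [c2, mul_zero]
            exact (mul_eq_zero.1 h3).resolve_right c3
          · field_simp
      · refine ⟨g 1 0 / x 1 0, ?_, ?_, ?_⟩
        · rw [c1, mul_zero] at h1 ⊢
          exact (mul_eq_zero.1 h1).resolve_right c2
        · field_simp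
        · field_simp
          linear_combination -h3
    · refine ⟨g 0 1 / x 0 1, ?_, ?_, ?_⟩
      · field_simp
      · field_simp
        linear_combination -h1
      · field_simp
        linear_combination -h2
  obtain ⟨β, k1, k2, k3⟩ := key g h
  obtain ⟨β', k1', k2', k3'⟩ := key g' h'
  rw [comm_iff_cross, k1, k2, k3, k1', k2', k3']
  exact ⟨by ring, by ring, by ring⟩

theorem sl2_neg_pow (x : SL2 K) {k : ℕ} (hk : Odd k) : (-x) ^ k = -(x ^ k) := by
  obtain ⟨l, rfl⟩ := hk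
  have e : -x * -x = x * x := by rw [sl2_neg_mul, sl2_mul_neg, sl2_neg_neg]
  rw [pow_succ, pow_succ, pow_mul, pow_mul, pow_two, pow_two, e, sl2_mul_neg]

theorem ww_mem_cen : (ww : SL2 K) ∈ Subgroup.centralizer ({ww} : Set (SL2 K)) := by
  rw [Subgroup.mem_centralizer_iff]
  rintro _ rfl
  rfl

theorem mem_cen_ww {g : SL2 K} : g ∈ Subgroup.centralizer ({ww} : Set (SL2 K)) ↔ g * ww = ww * g := by
  rw [Subgroup.mem_centralizer_iff]
  simp only [Set.mem_singleton_iff, forall_eq]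
  exact eq_comm

end sl2

namespace RG

variable {K : Type*} [Field K] {G : Type*} [Group G] (R : RG K G)

include R

theorem one_ne_neg : (1 : SL2 K) ≠ -1 := by
  intro h
  have := congrArg (fun g : SL2 K => (g : Matrix (Fin 2) (Fin 2) K)) h
  rw [neg_form one_form, one_form] at this
  have h1 : (1 : K) = -1 := congrFun (congrFun this 0) 0
  exact R.neg_one_ne h1.symm

/-- the torus of order `q + 1` -/
def W0 : Subgroup G where
  carrier := {g | ∃ z : SL2 K, z * ww = ww * z ∧ (g = R.sl z ∨ g = R.a * R.sl z)}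
  one_mem' := ⟨1, by rw [one_mul, mul_one], Or.inl (map_one _).symm⟩
  mul_mem' := by
    rintro _ _ ⟨z, hz, h⟩ ⟨z', hz', h'⟩
    refine ⟨z * z', by rw [mul_assoc, hz', ← mul_assoc, hz, mul_assoc], ?_⟩
    rw [map_mul]
    rcases h with rfl | rfl <;> rcases h' with rfl | rfl
    · exact Or.inl rfl
    · right
      rw [← mul_assoc, ← R.a_sl, mul_assoc]
    · right
      rw [mul_assoc]
    · left
      calc R.a * R.sl z * (R.a * R.sl z') = R.a * (R.sl z * R.a) * R.sl z' := by group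
        _ = (R.a * R.a) * (R.sl z * R.sl z') := by rw [← R.a_sl]; group
        _ = _ := by rw [R.aa, one_mul]
  inv_mem' := by
    rintro _ ⟨z, hz, h⟩
    refine ⟨z⁻¹, (show Commute z ww from hz).inv_left, ?_⟩
    rw [map_inv]
    rcases h with rfl | rfl
    · exact Or.inl rfl
    · right
      rw [R.a_sl, mul_inv_rev, inv_eq_of_mul_eq_one_left R.aa]

theorem mem_W0 {g : G} : g ∈ R.W0 ↔ ∃ z : SL2 K, z * ww = ww * z ∧ (g = R.sl z ∨ g = R.a * R.sl z) := Iff.rfl

theorem a_W0 : R.a ∈ R.W0 := ⟨1, by rw [one_mul, mul_one], Or.inr (by rw [map_one, mul_one])⟩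

theorem n_W0 : R.n ∈ R.W0 := ⟨ww, rfl, Or.inl R.sl_ww.symm⟩

section fin

variable [Fintype K] {m : ℕ} (hK : Fintype.card K = 3 ^ (2 * m + 1))

include hK

theorem T_comm {z z' : SL2 K} (h : z * ww = ww * z) (h' : z' * ww = ww * z') : z * z' = z' * z := by
  obtain ⟨hc, -⟩ := cen_ww hK R.char3
  have := hc.commGroup.mul_comm ⟨z, mem_cen_ww.2 h⟩ ⟨z', mem_cen_ww.2 h'⟩
  exact congrArg Subtype.val this

theorem W0_comm {x y : G} (hx : x ∈ R.W0) (hy : y ∈ R.W0) : x * y = y * x := by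
  obtain ⟨z, hz, hx⟩ := hx
  obtain ⟨z', hz', hy⟩ := hy
  have h1 : R.sl z * R.sl z' = R.sl z' * R.sl z := by rw [← map_mul, R.T_comm hK hz hz', map_mul]
  rcases hx with rfl | rfl <;> rcases hy with rfl | rfl
  · exact h1
  · calc R.sl z * (R.a * R.sl z') = (R.sl z * R.a) * R.sl z' := by group
      _ = R.a * (R.sl z * R.sl z') := by rw [← R.a_sl]; group
      _ = _ := by rw [h1]; group
  · calc R.a * R.sl z * R.sl z' = R.a * (R.sl z * R.sl z') := by group
      _ = (R.a * R.sl z') * R.sl z := by rw [h1]; group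
      _ = _ := by rw [R.a_sl]; group
  · calc R.a * R.sl z * (R.a * R.sl z') = R.a * (R.sl z * R.a) * R.sl z' := by group
      _ = R.a * R.a * (R.sl z * R.sl z') := by rw [← R.a_sl]; group
      _ = R.a * R.a * (R.sl z' * R.sl z) := by rw [h1]
      _ = R.a * (R.a * R.sl z') * R.sl z := by group
      _ = _ := by
        conv_lhs => rw [R.a_sl z']
        group

/-- elements of odd order centralising `a` are in the image of `SL₂` -/
theorem odd_sl {t : G} (hta : R.a * t = t * R.a) {k : ℕ} (hk : Odd k) (htk : t ^ k = 1) :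
    ∃ x, t = R.sl x ∧ x ^ k = 1 := by
  have h1 : ∃ x, t = R.sl x := by
    obtain ⟨x, hx | hx⟩ := R.cen_a hK hta
    · exact ⟨x, hx⟩
    · exfalso
      have hc : Commute R.a (R.sl x) := R.a_sl x
      rw [hx, hc.mul_pow, ← map_pow] at htk
      obtain ⟨l, rfl⟩ := hk
      rw [pow_succ, pow_mul, pow_two, R.aa, one_pow, one_mul] at htk
      apply R.a_not_sl hK (x ^ (2 * l + 1))⁻¹
      rw [map_inv]
      exact (eq_inv_of_mul_eq_one_left htk).symm
  obtain ⟨x, hx⟩ := h1
  have h2 : R.sl (x ^ k) = 1 := by rw [map_pow, ← hx, htk]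
  rcases R.sl_one_iff.1 h2 with h3 | h3
  · exact ⟨x, hx, h3⟩
  · refine ⟨-x, by rw [R.sl_neg, hx], ?_⟩
    rw [sl2_neg_pow x hk, h3, sl2_neg_neg]

theorem cen_odd {x : SL2 K} {k : ℕ} (hk : Odd k) (hxk : x ^ k = 1) {g : G} (hga : R.a * g = g * R.a)
    (hgx : g * R.sl x = R.sl x * g) : ∃ y, y * x = x * y ∧ (g = R.sl y ∨ g = R.a * R.sl y) := by
  have key : ∀ y, R.sl y * R.sl x = R.sl x * R.sl y → y * x = x * y := by
    intro y hy
    rw [← map_mul, ← map_mul] at hy
    rcases R.sl_inj hy with h | h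
    · exact h
    · exfalso
      -- `y x y⁻¹ = -x`
      have h1 : y * x * y⁻¹ = -x := by
        rw [mul_inv_eq_iff_eq_mul, sl2_neg_mul, h]
      have h2 : (y * x * y⁻¹) ^ k = 1 := by rw [conj_pow, hxk]; group
      rw [h1, sl2_neg_pow x hk, hxk] at h2
      exact R.one_ne_neg h2.symm
  obtain ⟨y, hy | hy⟩ := R.cen_a hK hga
  · refine ⟨y, key y ?_, Or.inl hy⟩
    rwa [hy] at hgx
  · refine ⟨y, key y ?_, Or.inr hy⟩
    rw [hy] at hgx
    apply mul_left_cancel (a := R.a)
    calc R.a * (R.sl y * R.sl x) = R.a * R.sl y * R.sl x := by group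
      _ = R.sl x * R.a * R.sl y := by rw [hgx]; group
      _ = R.a * (R.sl x * R.sl y) := by rw [← R.a_sl]; group

theorem one_or {x : SL2 K} (h1 : R.sl x ≠ 1) : x ≠ 1 ∧ x ≠ -1 :=
  ⟨fun h => h1 (R.sl_one_iff.2 (Or.inl h)), fun h => h1 (R.sl_one_iff.2 (Or.inr h))⟩

/-- the centraliser of `⟨a, t⟩` is abelian, for `t` of odd order -/
theorem cen_at_comm {t : G} (hta : R.a * t = t * R.a) {k : ℕ} (hk : Odd k) (htk : t ^ k = 1) (ht1 : t ≠ 1) {g g' : G}
    (h1 : R.a * g = g * R.a) (h2 : t * g = g * t) (h1' : R.a * g' = g' * R.a) (h2' : t * g' = g' * t) :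
    g * g' = g' * g := by
  obtain ⟨x, rfl, hx⟩ := R.odd_sl hK hta hk htk
  obtain ⟨hx1, hx2⟩ := R.one_or hK ht1
  obtain ⟨y, hy, hg⟩ := R.cen_odd hK hk hx h1 h2.symm
  obtain ⟨y', hy', hg'⟩ := R.cen_odd hK hk hx h1' h2'.symm
  have h3 : R.sl y * R.sl y' = R.sl y' * R.sl y := by
    rw [← map_mul, sl2_comm_trans hx1 hx2 hy hy', map_mul]
  rcases hg with rfl | rfl <;> rcases hg' with rfl | rfl
  · exact h3
  · calc R.sl y * (R.a * R.sl y') = (R.sl y * R.a) * R.sl y' := by group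
      _ = R.a * (R.sl y * R.sl y') := by rw [← R.a_sl]; group
      _ = _ := by rw [h3]; group
  · calc R.a * R.sl y * R.sl y' = R.a * (R.sl y * R.sl y') := by group
      _ = (R.a * R.sl y') * R.sl y := by rw [h3]; group
      _ = _ := by rw [R.a_sl]; group
  · calc R.a * R.sl y * (R.a * R.sl y') = R.a * (R.sl y * R.a) * R.sl y' := by group
      _ = R.a * R.a * (R.sl y * R.sl y') := by rw [← R.a_sl]; group
      _ = R.a * R.a * (R.sl y' * R.sl y) := by rw [h3]
      _ = R.a * (R.a * R.sl y') * R.sl y := by group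
      _ = _ := by
        conv_lhs => rw [R.a_sl y']
        group

/-- the centraliser of `⟨a, t⟩`, for `t ∈ W₀` of odd order -/
theorem cen_at {t : G} (htW : t ∈ R.W0) {k : ℕ} (hk : Odd k) (htk : t ^ k = 1) (ht1 : t ≠ 1) {g : G}
    (h1 : R.a * g = g * R.a) (h2 : t * g = g * t) : g ∈ R.W0 := by
  have hta : R.a * t = t * R.a := R.W0_comm hK R.a_W0 htW
  have hnt : R.n * t = t * R.n := R.W0_comm hK R.n_W0 htW
  have hn := R.cen_at_comm hK hta hk htk ht1 h1 h2 R.a_n hnt.symm
  obtain ⟨x, rfl, hx⟩ := R.odd_sl hK hta hk htk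
  obtain ⟨hx1, hx2⟩ := R.one_or hK ht1
  obtain ⟨y, hy, hg⟩ := R.cen_odd hK hk hx h1 h2.symm
  obtain ⟨w', hw', hn'⟩ := R.cen_odd hK hk hx R.a_n hnt
  refine ⟨y, ?_, hg⟩
  have hww : w' = ww ∨ w' = -ww := by
    rcases hn' with hn' | hn'
    · rw [← R.sl_ww] at hn'
      exact R.sl_inj hn'.symm
    · exfalso
      rw [← R.sl_ww] at hn'
      apply R.a_not_sl hK (ww * w'⁻¹)
      rw [map_mul, hn', map_inv]; group
  have hwx : ww * x = x * ww := by
    rcases hww with rfl | rfl
    · exact hw'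
    · rw [sl2_neg_mul, sl2_mul_neg] at hw'
      rw [← sl2_neg_neg (ww * x), hw', sl2_neg_neg]
  exact sl2_comm_trans hx1 hx2 hy hwx

end fin

end RG

end Cfsg.Agent.H6.Ree
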