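import Cfsg.Agent.H6_Ree13

/-!
The Ree groups: the order of `W₀`, its odd part.
-/

set_option autoImplicit false
set_option linter.unusedSectionVars false

namespace Cfsg.Agent.H6.Ree

open Cfsg Cfsg.Lie
open scoped Pointwise

local notation "SL2" => Matrix.SpecialLinearGroup (Fin 2)

theorem q_mod (m : ℕ) : ∃ e : ℕ, 3 ^ (2 * m + 1) + 1 = 4 * e ∧ Odd e ∧ (3 ^ (2 * m + 1) + 1) / 4 = e ∧
    3 ^ (2 * m + 1) - 1 = 2 * (2 * e - 1) := by
  have := pow_mod8 m
  exact ⟨(3 ^ (2 * m + 1) + 1) / 4, by omega, Nat.odd_iff.2 (by omega), rfl, by omega⟩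

namespace RG

variable {K : Type*} [Field K] {G : Type*} [Group G] (R : RG K G)

include R

/-- the cyclic torus of order `(q+1)/2` -/
def T1 : Subgroup G := (Subgroup.centralizer ({ww} : Set (SL2 K))).map R.sl

theorem mem_T1 {g : G} : g ∈ R.T1 ↔ ∃ z : SL2 K, z * ww = ww * z ∧ g = R.sl z := by
  constructor
  · rintro ⟨z, hz, rfl⟩
    exact ⟨z, mem_cen_ww.1 hz, rfl⟩
  · rintro ⟨z, hz, rfl⟩
    exact ⟨z, mem_cen_ww.2 hz, rfl⟩

theorem T1_le : R.T1 ≤ R.W0 := by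
  intro g hg
  obtain ⟨z, hz, rfl⟩ := R.mem_T1.1 hg
  exact ⟨z, hz, Or.inl rfl⟩

theorem n_T1 : R.n ∈ R.T1 := R.mem_T1.2 ⟨ww, rfl, R.sl_ww.symm⟩

section fin

variable [Fintype K] {m : ℕ} (hK : Fintype.card K = 3 ^ (2 * m + 1))

include hK

theorem T1_cyclic : IsCyclic R.T1 := by
  obtain ⟨hc, -⟩ := cen_ww hK R.char3
  exact isCyclic_of_surjective (R.sl.subgroupMap (Subgroup.centralizer ({ww} : Set (SL2 K))))
    (R.sl.subgroupMap_surjective _)

theorem card_T1 {e : ℕ} (he : 3 ^ (2 * m + 1) + 1 = 4 * e) : Nat.card R.T1 = 2 * e := by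
  obtain ⟨-, hc⟩ := cen_ww hK R.char3
  let f : Subgroup.centralizer ({ww} : Set (SL2 K)) →* G := R.sl.comp (Subgroup.subtype _)
  have h1 : f.range = R.T1 := by
    ext g
    rw [R.mem_T1]
    constructor
    · rintro ⟨z, rfl⟩
      exact ⟨z, mem_cen_ww.1 z.2, rfl⟩
    · rintro ⟨z, hz, rfl⟩
      exact ⟨⟨z, mem_cen_ww.2 hz⟩, rfl⟩
  have h2 := Subgroup.card_mul_index f.ker
  rw [Subgroup.index_ker, h1, hc, he] at h2
  have h3 : Nat.card f.ker = 2 := by
    rw [Nat.card_eq_two_iff]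
    refine ⟨1, ⟨⟨-1, mem_cen_ww.2 (by rw [sl2_neg_mul, sl2_mul_neg, one_mul, mul_one])⟩, ?_⟩, ?_, ?_⟩
    · rw [MonoidHom.mem_ker]
      exact R.sl_one_iff.2 (Or.inr rfl)
    · intro h
      exact R.one_ne_neg (congrArg (fun z : f.ker => ((z : Subgroup.centralizer ({ww} : Set (SL2 K))) : SL2 K)) h)
    · rw [Set.eq_univ_iff_forall]
      rintro ⟨⟨z, hz⟩, hzk⟩
      rw [MonoidHom.mem_ker] at hzk
      rcases R.sl_one_iff.1 hzk with h | h
      · left
        exact Subtype.ext (Subtype.ext h)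
      · right
        exact Subtype.ext (Subtype.ext h)
  rw [h3] at h2
  omega

theorem a_not_T1 : R.a ∉ R.T1 := by
  intro h
  obtain ⟨z, -, hz⟩ := R.mem_T1.1 h
  exact R.a_not_sl hK z hz.symm

theorem card_W0 : Nat.card R.W0 = 3 ^ (2 * m + 1) + 1 := by
  obtain ⟨e, he, -⟩ := q_mod m
  have h1 : (R.T1.subgroupOf R.W0).index = 2 := by
    rw [Subgroup.index_eq_two_iff]
    refine ⟨⟨R.a, R.a_W0⟩, ?_⟩
    rintro ⟨b, z, hz, rfl | rfl⟩
    · right
      rw [Subgroup.mem_subgroupOf, Subgroup.mem_subgroupOf]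
      have h : R.sl z ∈ R.T1 := R.mem_T1.2 ⟨z, hz, rfl⟩
      refine ⟨h, fun h2 => R.a_not_T1 hK ?_⟩
      exact (Subgroup.mul_mem_cancel_left _ h).1 h2
    · left
      rw [Subgroup.mem_subgroupOf, Subgroup.mem_subgroupOf]
      have h : R.sl z ∈ R.T1 := R.mem_T1.2 ⟨z, hz, rfl⟩
      refine ⟨?_, fun h2 => R.a_not_T1 hK ?_⟩
      · change R.a * R.sl z * R.a ∈ R.T1
        rw [R.a_sl, mul_assoc, R.aa, mul_one]
        exact h
      · exact (Subgroup.mul_mem_cancel_right _ h).1 h2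
  have h2 := Subgroup.card_mul_index (R.T1.subgroupOf R.W0)
  rw [h1, Nat.card_congr (Subgroup.subgroupOfEquivOfLe R.T1_le).toEquiv, R.card_T1 hK he] at h2
  rw [he]; omega

/-- squares of elements of `W₀` -/
theorem W0_sq {y : G} (hy : y ∈ R.W0) : y * y ∈ R.T1 ∧ (y * y) ^ ((3 ^ (2 * m + 1) + 1) / 4) = 1 := by
  obtain ⟨e, he, -, he', -⟩ := q_mod m
  obtain ⟨z, hz, h⟩ := hy
  have h1 : y * y = R.sl z * R.sl z := by
    rcases h with rfl | rfl
    · rfl
    · calc R.a * R.sl z * (R.a * R.sl z) = R.a * (R.sl z * R.a) * R.sl z := by group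
        _ = (R.a * R.a) * (R.sl z * R.sl z) := by rw [← R.a_sl]; group
        _ = _ := by rw [R.aa, one_mul]
  have h2 : R.sl z ∈ R.T1 := R.mem_T1.2 ⟨z, hz, rfl⟩
  rw [h1]
  refine ⟨mul_mem h2 h2, ?_⟩
  rw [← pow_two, ← pow_mul, he', ← R.card_T1 hK he]
  exact congrArg Subtype.val (pow_card_eq_one' (x := (⟨R.sl z, h2⟩ : R.T1)))

/-- the involutions of `W₀` -/
theorem W0_inv {y : G} (hy : y ∈ R.W0) (h : y * y = 1) : y = 1 ∨ y = R.a ∨ y = R.n ∨ y = R.a * R.n := by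
  have key : ∀ z : SL2 K, z * ww = ww * z → R.sl z * R.sl z = 1 → R.sl z = 1 ∨ R.sl z = R.n := by
    intro z hz h
    rw [← map_mul, R.sl_one_iff] at h
    rcases sl2_sq_pm z h with h1 | h1 | h1
    · exact Or.inl (R.sl_one_iff.2 (Or.inl h1))
    · exact Or.inl (R.sl_one_iff.2 (Or.inr h1))
    · right
      obtain ⟨h2, h3⟩ := comm_ww_iff.1 hz
      have h4 : z 0 0 = 0 := by
        rw [h2] at h1
        linear_combination z 0 0 * R.char3 - h1
      have h5 : z 1 1 = 0 := h2.trans h4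
      have hdet : z 0 0 * z 1 1 - z 0 1 * z 1 0 = 1 := by
        have := z.2
        rwa [Matrix.det_fin_two] at this
      rw [h4, h3] at hdet
      have hsq : (z 0 1 - 1) * (z 0 1 + 1) = 0 := by linear_combination hdet
      rw [← R.sl_ww]
      rcases mul_eq_zero.1 hsq with h | h
      · have h6 : z 0 1 = 1 := sub_eq_zero.1 h
        have : z = ww := sl2_ext' (eta_form z) ww_form h4 h6 (by rw [h3, h6]) h5
        rw [this]
      · have h6 : z 0 1 = -1 := eq_neg_of_add_eq_zero_left h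
        have : z = -ww := sl2_ext' (eta_form z) (neg_form ww_form) (by rw [h4, neg_zero]) h6 (by rw [h3, h6])
          (by rw [h5, neg_zero])
        rw [this, R.sl_neg]
  obtain ⟨z, hz, rfl | rfl⟩ := hy
  · rcases key z hz h with h1 | h1
    · exact Or.inl h1
    · exact Or.inr (Or.inr (Or.inl h1))
  · have h2 : R.sl z * R.sl z = 1 := by
      rw [← h]
      calc R.sl z * R.sl z = (R.a * R.a) * (R.sl z * R.sl z) := by rw [R.aa, one_mul]
        _ = R.a * (R.a * R.sl z) * R.sl z := by group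
        _ = _ := by
          conv_lhs => rw [R.a_sl z]
          group
    rcases key z hz h2 with h1 | h1
    · right; left
      rw [h1, mul_one]
    · right; right; right
      rw [h1]

/-- the odd part of `W₀` -/
def A4 : Subgroup G where
  carrier := {x | x ∈ R.W0 ∧ x ^ ((3 ^ (2 * m + 1) + 1) / 4) = 1}
  one_mem' := ⟨one_mem _, one_pow _⟩
  mul_mem' := by
    rintro x y ⟨hx, hx'⟩ ⟨hy, hy'⟩
    exact ⟨mul_mem hx hy, by rw [(show Commute x y from R.W0_comm hK hx hy).mul_pow, hx', hy', one_mul]⟩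
  inv_mem' := by
    rintro x ⟨hx, hx'⟩
    exact ⟨inv_mem hx, by rw [inv_pow, hx', inv_one]⟩

theorem mem_A4 {x : G} : x ∈ R.A4 hK ↔ x ∈ R.W0 ∧ x ^ ((3 ^ (2 * m + 1) + 1) / 4) = 1 := Iff.rfl

theorem A4_le : R.A4 hK ≤ R.T1 := by
  rintro x ⟨⟨z, hz, h⟩, hx⟩
  obtain ⟨e, he, heo, he', -⟩ := q_mod m
  rcases h with rfl | rfl
  · exact R.mem_T1.2 ⟨z, hz, rfl⟩
  · exfalso
    have hc : Commute R.a (R.sl z) := R.a_sl z
    rw [hc.mul_pow, ← map_pow, he'] at hx
    obtain ⟨l, rfl⟩ := heo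
    rw [pow_succ, pow_mul, pow_two, R.aa, one_pow, one_mul] at hx
    apply R.a_not_sl hK (z ^ (2 * l + 1))⁻¹
    rw [map_inv]
    exact (eq_inv_of_mul_eq_one_left hx).symm

theorem A4_cyclic : IsCyclic (R.A4 hK) := by
  have := R.T1_cyclic hK
  exact isCyclic_of_injective (Subgroup.inclusion (R.A4_le hK)) (Subgroup.inclusion_injective _)

theorem card_A4 [Finite G] : Nat.card (R.A4 hK) = (3 ^ (2 * m + 1) + 1) / 4 := by
  obtain ⟨e, he, heo, he', -⟩ := q_mod m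
  have hc := R.T1_cyclic hK
  let _ : CommGroup R.T1 := hc.commGroup
  have h1 := IsCyclic.card_powMonoidHom_ker R.T1 e
  rw [R.card_T1 hK he, Nat.gcd_eq_right (Dvd.intro_left 2 rfl)] at h1
  rw [he', ← h1]
  apply Nat.card_congr
  refine Equiv.ofBijective (fun x => ⟨⟨x.1, R.A4_le hK x.2⟩, ?_⟩) ⟨?_, ?_⟩
  · rw [MonoidHom.mem_ker]
    apply Subtype.ext
    change x.1 ^ e = 1
    have := x.2.2
    rwa [he'] at this
  · intro x y h
    have := congrArg (fun z : (powMonoidHom e : R.T1 →* R.T1).ker => ((z : R.T1) : G)) h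
    exact Subtype.ext this
  · rintro ⟨⟨x, hx⟩, h⟩
    rw [MonoidHom.mem_ker] at h
    have h2 : x ^ e = 1 := congrArg Subtype.val h
    exact ⟨⟨x, R.T1_le hx, by rw [he', h2]⟩, rfl⟩

end fin

end RG

end Cfsg.Agent.H6.Ree
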