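import Cfsg.Agent.H6_Ree14
import Cfsg.Agent.H1_Partition

/-!
The Ree groups: centralisers of the elements of odd order of `W₀`.
-/

set_option autoImplicit false
set_option linter.unusedSectionVars false

namespace Cfsg.Agent.H6.Ree

open Cfsg Cfsg.Lie
open scoped Pointwise

theorem commute_of_coprime {G : Type*} [Group G] {v g : G} {k l : ℕ} (h1 : Commute v (g ^ k)) (h2 : Commute v (g ^ l))
    (hc : Nat.Coprime k l) : Commute v g := by
  have h3 : IsCoprime (k : ℤ) l := Nat.isCoprime_iff_coprime.2 hc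
  obtain ⟨a, b, hab⟩ := h3
  have e : g = (g ^ k) ^ a * (g ^ l) ^ b := by
    rw [← zpow_natCast, ← zpow_natCast, ← zpow_mul, ← zpow_mul, ← zpow_add, mul_comm (k : ℤ) a, mul_comm (l : ℤ) b, hab,
      zpow_one]
  rw [e]
  exact (h1.zpow_right a).mul_right (h2.zpow_right b)

/-- an element normalising a subgroup of order four and exponent two -/
theorem pow_six_comm {G : Type*} [Group G] [Finite G] {P : Subgroup G} (hP : Nat.card P = 4) {g v : G}
    (hg : ∀ x ∈ P, g * x * g⁻¹ ∈ P) (hv : v ∈ P) : Commute v (g ^ 6) := by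
  classical
  by_cases hv1 : v = 1
  · rw [hv1]; exact Commute.one_left _
  have hmem : ∀ i : ℕ, g ^ i * v * (g ^ i)⁻¹ ∈ P := by
    intro i
    induction i with
    | zero => simpa using hv
    | succ i ih =>
      have e : g ^ (i + 1) * v * (g ^ (i + 1))⁻¹ = g * (g ^ i * v * (g ^ i)⁻¹) * g⁻¹ := by
        rw [pow_succ']; group
      rw [e]; exact hg _ ih
  have hne : ∀ i : ℕ, g ^ i * v * (g ^ i)⁻¹ ≠ 1 := by
    intro i h
    apply hv1
    have : v = (g ^ i)⁻¹ * (g ^ i * v * (g ^ i)⁻¹) * g ^ i := by group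
    rw [this, h]; group
  have : Fintype P := Fintype.ofFinite P
  let f : Fin 4 → {x : P // x ≠ 1} := fun i => ⟨⟨g ^ (i : ℕ) * v * (g ^ (i : ℕ))⁻¹, hmem i⟩, fun h =>
    hne i (congrArg Subtype.val h)⟩
  obtain ⟨i, j, hij, hf⟩ := Fintype.exists_ne_map_eq_of_card_lt f (by
    rw [Fintype.card_subtype_compl, Fintype.card_subtype_eq, ← Nat.card_eq_fintype_card, hP, Fintype.card_fin]
    norm_num)
  have hf' : g ^ (i : ℕ) * v * (g ^ (i : ℕ))⁻¹ = g ^ (j : ℕ) * v * (g ^ (j : ℕ))⁻¹ :=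
    congrArg (fun z : {x : P // x ≠ 1} => ((z : P) : G)) hf
  have key : ∀ i j : ℕ, i < j → g ^ i * v * (g ^ i)⁻¹ = g ^ j * v * (g ^ j)⁻¹ → Commute v (g ^ (j - i)) := by
    intro i j hij h
    obtain ⟨d, rfl⟩ := Nat.exists_eq_add_of_lt hij
    have e1 : i + d + 1 - i = d + 1 := by omega
    rw [e1]
    have e2 : g ^ (i + d + 1) = g ^ i * g ^ (d + 1) := by rw [← pow_add]; congr 1
    rw [e2] at h
    have h3 : v = g ^ (d + 1) * v * (g ^ (d + 1))⁻¹ := by
      apply mul_left_cancel (a := g ^ i)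
      apply mul_right_cancel (b := (g ^ i)⁻¹)
      rw [h]; group
    have h4 : g ^ (d + 1) * v = v * g ^ (d + 1) := by
      rw [← mul_inv_eq_iff_eq_mul]; exact h3.symm
    exact h4.symm
  have key2 : ∀ d : ℕ, d ∣ 6 → Commute v (g ^ d) → Commute v (g ^ 6) := by
    rintro d ⟨l, hl⟩ h
    rw [hl, pow_mul]
    exact h.pow_right l
  have hi := i.2
  have hj := j.2
  rcases lt_or_gt_of_ne (fun h => hij (Fin.ext h) : (i : ℕ) ≠ j) with h | h
  · refine key2 ((j : ℕ) - i) ?_ (key _ _ h hf')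
    have : (j : ℕ) - i = 1 ∨ (j : ℕ) - i = 2 ∨ (j : ℕ) - i = 3 := by omega
    rcases this with h | h | h <;> rw [h] <;> decide
  · refine key2 ((i : ℕ) - j) ?_ (key _ _ h hf'.symm)
    have : (i : ℕ) - j = 1 ∨ (i : ℕ) - j = 2 ∨ (i : ℕ) - j = 3 := by omega
    rcases this with h | h | h <;> rw [h] <;> decide

/-- normal `2`-complements in groups of order prime to `3` with small Sylow `2`-subgroups -/
theorem norm_le_cen {G : Type*} [Group G] [Finite G] (h3 : ¬ 3 ∣ Nat.card G) (P : Sylow 2 G) (hP : Nat.card P = 4)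
    (hcomm : ∀ x ∈ P, ∀ y ∈ P, x * y = y * x) :
    Subgroup.normalizer ((P : Subgroup G) : Set G) ≤ Subgroup.centralizer ((P : Subgroup G) : Set G) := by
  have : Fact (Nat.Prime 2) := ⟨Nat.prime_two⟩
  intro g hg
  rw [Subgroup.mem_centralizer_iff]
  intro v hv
  obtain ⟨k, l, hl, hkl⟩ := Nat.exists_eq_two_pow_mul_odd (orderOf_pos g).ne'
  have h1 : (g ^ l) ^ (2 ^ k) = 1 := by rw [← pow_mul, mul_comm, ← hkl, pow_orderOf_eq_one]
  have hp : IsPGroup 2 (Subgroup.zpowers (g ^ l)) := by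
    rw [IsPGroup.iff_card]
    obtain ⟨j, -, hj⟩ := (Nat.dvd_prime_pow Nat.prime_two).1 (orderOf_dvd_of_pow_eq_one h1)
    exact ⟨j, by rw [Nat.card_zpowers, hj]⟩
  have h2 := IsPGroup.inf_normalizer_sylow hp P
  have h4 : g ^ l ∈ Subgroup.zpowers (g ^ l) ⊓ (P : Subgroup G) := by
    rw [← h2]
    exact ⟨Subgroup.mem_zpowers _, pow_mem hg l⟩
  have h5 : Commute v (g ^ l) := hcomm v hv _ h4.2
  have h6 : Commute v (g ^ 6) := pow_six_comm hP (fun x hx => (Subgroup.mem_normalizer_iff.1 hg x).1 hx) hv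
  refine commute_of_coprime h5 h6 ?_
  have h7 : ¬ 3 ∣ l := by
    intro h
    apply h3
    refine (h.trans ?_).trans (orderOf_dvd_natCard g)
    rw [hkl]
    exact Dvd.intro_left _ rfl
  have e : (6 : ℕ) = 2 * 3 := rfl
  rw [e]
  exact Nat.Coprime.mul_right (Nat.coprime_two_right.2 hl) ((Nat.Prime.coprime_iff_not_dvd Nat.prime_three).2 h7).symm

namespace RG

variable {K : Type*} [Field K] {G : Type*} [Group G] (R : RG K G)

include R

/-- the four-group -/
def V : Subgroup G where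
  carrier := {y | y = 1 ∨ y = R.a ∨ y = R.n ∨ y = R.a * R.n}
  one_mem' := Or.inl rfl
  mul_mem' := by
    have h1 : R.a * (R.a * R.n) = R.n := by rw [← mul_assoc, R.aa, one_mul]
    have h2 : R.n * (R.a * R.n) = R.a := by rw [R.a_n, ← mul_assoc, R.nn, one_mul]
    have h3 : R.a * R.n * R.a = R.n := by rw [R.a_n, mul_assoc, R.aa, mul_one]
    have h4 : R.a * R.n * R.n = R.a := by rw [mul_assoc, R.nn, mul_one]
    have h5 : R.a * R.n * (R.a * R.n) = 1 := by rw [mul_assoc, h2, R.aa]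
    rintro _ _ (rfl | rfl | rfl | rfl) (rfl | rfl | rfl | rfl)
    · simp
    · simp
    · simp
    · simp
    · simp
    · simp [R.aa]
    · simp
    · simp [h1]
    · simp
    · simp [← R.a_n]
    · simp [R.nn]
    · simp [h2]
    · simp
    · simp [h3]
    · simp [h4]
    · simp [h5]
  inv_mem' := by
    have h5 : (R.a * R.n)⁻¹ = R.a * R.n := by
      rw [mul_inv_rev, R.n_inv, inv_eq_of_mul_eq_one_left R.aa, R.a_n]
    rintro _ (rfl | rfl | rfl | rfl)
    · simp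
    · simp [inv_eq_of_mul_eq_one_left R.aa]
    · simp [R.n_inv]
    · simp [h5]

theorem mem_V {y : G} : y ∈ R.V ↔ y = 1 ∨ y = R.a ∨ y = R.n ∨ y = R.a * R.n := Iff.rfl

theorem V_sq {y : G} (hy : y ∈ R.V) : y * y = 1 := by
  rcases hy with rfl | rfl | rfl | rfl
  · exact one_mul 1
  · exact R.aa
  · exact R.nn
  · calc R.a * R.n * (R.a * R.n) = R.a * (R.n * R.a) * R.n := by group
      _ = (R.a * R.a) * (R.n * R.n) := by rw [← R.a_n]; group
      _ = 1 := by rw [R.aa, R.nn, one_mul]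

theorem V_comm {x y : G} (hx : x ∈ R.V) (hy : y ∈ R.V) : x * y = y * x :=
  comm_of_sq (R.V_sq hx) (R.V_sq hy) (R.V_sq (mul_mem hx hy))

theorem a_ne_n : R.a ≠ R.n := fun h => R.n_not_mem (by rw [← h]; exact R.hB _)

theorem card_V : Nat.card R.V = 4 := by
  have h1 : Nat.card R.V = [1, R.a, R.n, R.a * R.n].length := by
    apply card_list (s := (R.V : Set G))
    · simp only [List.nodup_cons, List.mem_cons, List.not_mem_nil, or_false, not_or, not_false_eq_true, List.nodup_nil,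
        and_true]
      refine ⟨⟨R.a_ne.symm, R.n_ne.symm, fun h => ?_⟩, ⟨R.a_ne_n, fun h => ?_⟩, fun h => ?_⟩
      · apply R.a_ne_n
        rw [← mul_left_inj R.n, ← h, R.nn]
      · exact R.n_ne (mul_eq_left.1 h.symm)
      · exact R.a_ne (mul_eq_right.1 h.symm)
    · intro y
      simp only [List.mem_cons, List.not_mem_nil, or_false]
      exact R.mem_V
  rw [h1]; rfl

theorem V_le : R.V ≤ R.W0 := by
  rintro _ (rfl | rfl | rfl | rfl)
  · exact one_mem _
  · exact R.a_W0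
  · exact R.n_W0
  · exact mul_mem R.a_W0 R.n_W0

theorem V_not_cyclic : ¬ IsCyclic R.V := by
  intro h
  have h1 := h.exponent_eq_card
  rw [R.card_V] at h1
  have h2 : Monoid.exponent R.V ∣ 2 := Monoid.exponent_dvd_of_forall_pow_eq_one fun x => Subtype.ext (by
    rw [pow_two]; exact R.V_sq x.2)
  rw [h1] at h2
  norm_num at h2

section fin

variable [Fintype K] [Finite G] {m : ℕ} (hK : Fintype.card K = 3 ^ (2 * m + 1))

include hK

/-- elements of order three are conjugate into `U` -/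
theorem conj_U {u : G} (hu : u ^ 3 = 1) : ∃ c : G, c⁻¹ * u * c ∈ R.U := by
  have : Fact (Nat.Prime 3) := ⟨Nat.prime_three⟩
  obtain ⟨S, hS⟩ := R.exists_sylow hK
  have hp : IsPGroup 3 (Subgroup.zpowers u) := by
    rw [IsPGroup.iff_card]
    obtain ⟨j, -, hj⟩ := (Nat.dvd_prime_pow Nat.prime_three).1 (orderOf_dvd_of_pow_eq_one (n := 3 ^ 1) (by rw [pow_one, hu]))
    exact ⟨j, by rw [Nat.card_zpowers, hj]⟩
  obtain ⟨Q, hQ⟩ := hp.exists_le_sylow
  obtain ⟨g, hg⟩ := MulAction.exists_smul_eq G S Q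
  refine ⟨g, ?_⟩
  have h1 : u ∈ (Q : Subgroup G) := hQ (Subgroup.mem_zpowers u)
  rw [← hg] at h1
  have := Subgroup.mem_pointwise_smul_iff_inv_smul_mem.1 (show u ∈ MulAut.conj g • (S : Subgroup G) from h1)
  rw [← hS]
  simpa using this

/-- an element commuting with an element of order three -/
theorem conj_B_of_comm {u x : G} (hu : u ^ 3 = 1) (hu1 : u ≠ 1) (h : x * u = u * x) : ∃ c : G, c⁻¹ * x * c ∈ R.B := by
  obtain ⟨c, hc⟩ := R.conj_U hK hu
  refine ⟨c, R.cen_U hc ?_ ?_⟩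
  · intro h1
    apply hu1
    have e : u = c * (c⁻¹ * u * c) * c⁻¹ := by group
    rw [e, h1]; group
  · calc c⁻¹ * x * c * (c⁻¹ * u * c) = c⁻¹ * (x * u) * c := by group
      _ = c⁻¹ * (u * x) * c := by rw [h]
      _ = _ := by group

theorem orderOf_conj {g x : G} : orderOf (g⁻¹ * x * g) = orderOf x := by
  have := (MulAut.conj g⁻¹).orderOf_eq x
  rw [MulAut.conj_apply, inv_inv] at this
  exact this

/-- the prime divisors of `(q+1)/4` -/
theorem prime_dvd_e {p : ℕ} (hp : p.Prime) (hpe : p ∣ (3 ^ (2 * m + 1) + 1) / 4) : p ≠ 2 ∧ p ≠ 3 ∧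
    ¬ p ∣ 3 ^ (2 * m + 1) - 1 := by
  obtain ⟨e, he, heo, he', hq⟩ := q_mod m
  rw [he'] at hpe
  have h2 : p ≠ 2 := by
    rintro rfl
    obtain ⟨l, hl⟩ := heo
    omega
  refine ⟨h2, ?_, ?_⟩
  · rintro rfl
    have h1 : 3 ∣ 3 ^ (2 * m + 1) + 1 := by rw [he]; exact Dvd.dvd.mul_left hpe 4
    have h3 : 3 ∣ 3 ^ (2 * m + 1) := Dvd.dvd.pow (dvd_refl 3) (by omega)
    have := (Nat.dvd_add_right h3).1 h1
    norm_num at this
  · intro h
    have h1 : p ∣ 3 ^ (2 * m + 1) + 1 := by rw [he]; exact Dvd.dvd.mul_left hpe 4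
    have h3 := Nat.dvd_sub h1 h
    have hpos : 0 < 3 ^ (2 * m + 1) := by positivity
    have e2 : 3 ^ (2 * m + 1) + 1 - (3 ^ (2 * m + 1) - 1) = 2 := by omega
    rw [e2] at h3
    exact h2 ((Nat.prime_dvd_prime_iff_eq hp Nat.prime_two).1 h3)

theorem mem_cen' {t x : G} : x ∈ Subgroup.centralizer ({t} : Set G) ↔ t * x = x * t := by
  rw [Subgroup.mem_centralizer_iff]; simp

theorem cen_not_three {t : G} {p : ℕ} (hp : p.Prime) (ht : orderOf t = p)
    (hpe : p ∣ (3 ^ (2 * m + 1) + 1) / 4) : ¬ 3 ∣ Nat.card (Subgroup.centralizer ({t} : Set G)) := by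
  have h3f : Fact (Nat.Prime 3) := ⟨Nat.prime_three⟩
  obtain ⟨hp2, hp3, hpq⟩ := R.prime_dvd_e hK hp hpe
  intro h
  obtain ⟨u, hu⟩ := exists_prime_orderOf_dvd_card' 3 h
  have hu3 : (u : G) ^ 3 = 1 := by
    rw [← hu, ← Subgroup.orderOf_coe, pow_orderOf_eq_one]
  have hu1 : (u : G) ≠ 1 := by
    intro h1
    rw [← Subgroup.orderOf_coe, h1, orderOf_one] at hu
    norm_num at hu
  obtain ⟨c, hc⟩ := R.conj_B_of_comm hK hu3 hu1 ((R.mem_cen' hK).1 u.2)
  have h4 : p ∣ Nat.card R.B := by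
    rw [← ht, ← R.orderOf_conj hK (g := c) (x := t)]
    have := orderOf_dvd_natCard (⟨c⁻¹ * t * c, hc⟩ : R.B)
    rwa [← Subgroup.orderOf_coe] at this
  rw [R.card_B, R.cardK hK, card_units' hK] at h4
  rcases (Nat.Prime.dvd_mul hp).1 h4 with h5 | h5
  · exact hp3 ((Nat.prime_dvd_prime_iff_eq hp Nat.prime_three).1 (hp.dvd_of_dvd_pow (hp.dvd_of_dvd_pow h5)))
  · exact hpq h5

theorem cen_not_eight {t : G} {p : ℕ} (hp : p.Prime) (ht : orderOf t = p) (hp2 : p ≠ 2) :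
    ¬ 8 ∣ Nat.card (Subgroup.centralizer ({t} : Set G)) := by
  have h2f : Fact (Nat.Prime 2) := ⟨Nat.prime_two⟩
  intro h
  obtain ⟨S', hS'⟩ := Sylow.exists_subgroup_card_pow_prime (G := Subgroup.centralizer ({t} : Set G)) 2 (n := 3)
    (by norm_num; exact h)
  obtain ⟨S₀, hS₀⟩ := R.exists_S hK
  have h1 : Nat.card (S'.map (Subgroup.centralizer ({t} : Set G)).subtype) = 2 ^ (Nat.card G).factorization 2 := by
    rw [← S₀.card_eq_multiplicity, (R.sylow2 hK S₀).1]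
    rw [Nat.card_congr (Subgroup.equivMapOfInjective S' _ Subtype.val_injective).symm.toEquiv, hS']
    norm_num
  obtain ⟨S, hS⟩ : ∃ S : Sylow 2 G, (S : Subgroup G) = S'.map (Subgroup.centralizer ({t} : Set G)).subtype :=
    ⟨Sylow.ofCard _ h1, rfl⟩
  have h4 := (R.sylow2_norm hK S).1
  have h5 : t ∈ (S : Subgroup G) := by
    rw [← h4, Subgroup.mem_centralizer_iff, hS]
    rintro _ ⟨y, -, rfl⟩
    exact ((R.mem_cen' hK).1 y.2).symm
  have h6 := (R.sylow2 hK S).2 t h5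
  have h7 : orderOf t ∣ 2 := orderOf_dvd_of_pow_eq_one (by rw [pow_two, h6])
  rw [ht] at h7
  exact hp2 ((Nat.prime_dvd_prime_iff_eq hp Nat.prime_two).1 h7)

theorem cen_v_t {t : G} (htW : t ∈ R.W0) {p : ℕ} (hpodd : Odd p) (htp : t ^ p = 1) (ht1 : t ≠ 1) {v : G} (hvV : v ∈ R.V)
    (hv1 : v ≠ 1) {x : G} (hxt : t * x = x * t) (hxv' : v * x = x * v) : x ∈ R.W0 := by
  obtain ⟨g, hg⟩ := R.inv_conj_a hK (R.V_sq hvV) hv1
  -- transport
  have tr : ∀ {x y : G}, x * y = y * x → (g⁻¹ * x * g) * (g⁻¹ * y * g) = (g⁻¹ * y * g) * (g⁻¹ * x * g) := by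
    intro x y h
    calc (g⁻¹ * x * g) * (g⁻¹ * y * g) = g⁻¹ * (x * y) * g := by group
      _ = g⁻¹ * (y * x) * g := by rw [h]
      _ = _ := by group
  have tr' : ∀ {x y : G}, (g⁻¹ * x * g) * (g⁻¹ * y * g) = (g⁻¹ * y * g) * (g⁻¹ * x * g) → x * y = y * x := by
    intro x y h
    apply mul_left_cancel (a := g⁻¹)
    apply mul_right_cancel (b := g)
    calc g⁻¹ * (x * y) * g = (g⁻¹ * x * g) * (g⁻¹ * y * g) := by group
      _ = (g⁻¹ * y * g) * (g⁻¹ * x * g) := h
      _ = _ := by group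
  have hvt : v * t = t * v := R.W0_comm hK (R.V_le hvV) htW
  have hva : v * R.a = R.a * v := R.V_comm hvV (Or.inr (Or.inl rfl))
  have hat : R.a * t = t * R.a := R.W0_comm hK R.a_W0 htW
  have k1 : R.a * (g⁻¹ * t * g) = (g⁻¹ * t * g) * R.a := by
    have := tr hvt
    rwa [hg] at this
  have k2 : (g⁻¹ * t * g) ^ p = 1 := by
    have e := conj_pow (a := g⁻¹) (b := t) (i := p)
    rw [inv_inv, htp] at e
    rw [e]; group
  have k3 : g⁻¹ * t * g ≠ 1 := by
    intro h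
    apply ht1
    have e : t = g * (g⁻¹ * t * g) * g⁻¹ := by group
    rw [e, h]; group
  have k4 : R.a * (g⁻¹ * R.a * g) = (g⁻¹ * R.a * g) * R.a := by
    have := tr hva
    rwa [hg] at this
  have k5 : R.a * (g⁻¹ * x * g) = (g⁻¹ * x * g) * R.a := by
    have := tr hxv'
    rwa [hg] at this
  have c1 := R.cen_at_comm hK k1 hpodd k2 k3 k4 (tr hat.symm) k5 (tr hxt)
  exact R.cen_at hK htW hpodd htp ht1 (tr' c1) hxt

/-- centralisers of elements of prime order in the odd part of `W₀` -/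
theorem cen_W0_prime {t : G} {p : ℕ} (hp : p.Prime) (htW : t ∈ R.W0) (ht : orderOf t = p)
    (hpe : p ∣ (3 ^ (2 * m + 1) + 1) / 4) : Subgroup.centralizer {t} ≤ R.W0 := by
  classical
  have h2f : Fact (Nat.Prime 2) := ⟨Nat.prime_two⟩
  obtain ⟨hp2, hp3, hpq⟩ := R.prime_dvd_e hK hp hpe
  have h3 := R.cen_not_three hK hp ht hpe
  have h8 := R.cen_not_eight hK hp ht hp2
  have memC := fun x : G => R.mem_cen' hK (t := t) (x := x)
  have ht1 : t ≠ 1 := by
    rintro rfl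
    rw [orderOf_one] at ht
    exact hp.one_lt.ne ht
  have htp : t ^ p = 1 := by rw [← ht, pow_orderOf_eq_one]
  have hpodd : Odd p := hp.odd_of_ne_two hp2
  generalize hC : Subgroup.centralizer ({t} : Set G) = C at h3 h8 memC
  -- `V` is a Sylow subgroup of `C`
  have hVC : R.V ≤ C := fun x hx => (memC x).2 (R.W0_comm hK htW (R.V_le hx))
  have hV4 : Nat.card (R.V.subgroupOf C) = 4 := by
    rw [Nat.card_congr (Subgroup.subgroupOfEquivOfLe hVC).toEquiv, R.card_V]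
  have hv2 : (Nat.card C).factorization 2 = 2 := by
    have h4 : 2 ^ 2 ∣ Nat.card C := by
      have := Subgroup.card_subgroup_dvd_card (R.V.subgroupOf C)
      rw [hV4] at this
      exact this
    have h5 : ¬ 2 ^ 3 ∣ Nat.card C := h8
    have hne : Nat.card C ≠ 0 := Nat.card_pos.ne'
    rw [Nat.Prime.pow_dvd_iff_le_factorization Nat.prime_two hne] at h4 h5
    omega
  obtain ⟨P, hP⟩ : ∃ P : Sylow 2 C, (P : Subgroup C) = R.V.subgroupOf C :=
    ⟨Sylow.ofCard (R.V.subgroupOf C) (by rw [hV4, hv2]; norm_num), rfl⟩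
  have hPV : ∀ x : C, x ∈ P ↔ (x : G) ∈ R.V := fun x => by
    change x ∈ (P : Subgroup C) ↔ _
    rw [hP]; exact Subgroup.mem_subgroupOf
  have hPc : ∀ x ∈ P, ∀ y ∈ P, x * y = y * x := fun x hx y hy =>
    Subtype.ext (R.V_comm ((hPV x).1 hx) ((hPV y).1 hy))
  have hP4 : Nat.card P = 4 := by
    change Nat.card (P : Subgroup C) = 4
    rw [hP, hV4]
  have hN := norm_le_cen h3 P hP4 hPc
  have hK0 := MonoidHom.ker_transferSylow_isComplement' P hN
  have hodd := MonoidHom.not_dvd_card_ker_transferSylow P hN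
  have hK0n : (MonoidHom.transferSylow P hN).ker.Normal := MonoidHom.normal_ker _
  generalize (MonoidHom.transferSylow P hN).ker = K0 at hK0 hodd hK0n
  -- the complement is in `W₀`
  have hVcomm : IsMulCommutative R.V := ⟨⟨fun x y => Subtype.ext (R.V_comm x.2 y.2)⟩⟩
  have hgen := H1.Partition.generation R.V (K0.map C.subtype) R.V_not_cyclic (by
    intro v hv
    apply Subgroup.mem_normalizer_fintype
    rintro _ ⟨y, hy, rfl⟩
    exact ⟨⟨v, hVC hv⟩ * y * ⟨v, hVC hv⟩⁻¹, hK0n.conj_mem y hy _, rfl⟩) (by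
    rw [R.card_V, Nat.card_congr (Subgroup.equivMapOfInjective K0 C.subtype Subtype.val_injective).symm.toEquiv]
    have e : (4 : ℕ) = 2 ^ 2 := rfl
    rw [e]
    exact Nat.Coprime.pow_left 2 ((Nat.Prime.coprime_iff_not_dvd Nat.prime_two).2 hodd))
  have hle : K0.map C.subtype ≤ R.W0 := by
    rw [← hgen]
    refine iSup₂_le fun v hv => ?_
    rintro x ⟨hx, hxv⟩
    obtain ⟨hvV, hv1⟩ := hv
    have hxt : t * x = x * t := by
      obtain ⟨y, -, rfl⟩ := hx
      exact (memC y).1 y.2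
    have hxv' : v * x = x * v := Subgroup.mem_centralizer_iff.1 hxv v rfl
    exact R.cen_v_t hK htW hpodd htp ht1 hvV hv1 hxt hxv'
  intro x hx
  have h5 : (⟨x, hx⟩ : C) ∈ ((K0 : Set C) * ((P : Subgroup C) : Set C)) := by
    rw [hK0.mul_eq]
    trivial
  obtain ⟨k, hk, v, hv, hkv⟩ := h5
  have h6 : x = (k : G) * (v : G) := (congrArg Subtype.val hkv).symm
  rw [h6]
  exact mul_mem (hle ⟨k, hk, rfl⟩) (R.V_le ((hPV v).1 hv))

/-- centralisers of non-trivial elements in the odd part of `W₀` -/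
theorem cen_A4 {t : G} (ht : t ∈ R.A4 hK) (ht1 : t ≠ 1) {x : G} : t * x = x * t ↔ x ∈ R.W0 := by
  constructor
  · intro hx
    obtain ⟨p, hp, hpt⟩ := Nat.exists_prime_and_dvd (mt orderOf_eq_one_iff.1 ht1)
    have hpe : p ∣ (3 ^ (2 * m + 1) + 1) / 4 := hpt.trans (orderOf_dvd_of_pow_eq_one ht.2)
    have h1 : orderOf (t ^ (orderOf t / p)) = p := by
      rw [orderOf_pow_of_dvd (Nat.div_pos (Nat.le_of_dvd (orderOf_pos t) hpt) hp.pos).ne' (Nat.div_dvd_of_dvd hpt),
        Nat.div_div_self hpt (orderOf_pos t).ne']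
    refine R.cen_W0_prime hK hp (pow_mem ht.1 _) h1 hpe ?_
    rw [Subgroup.mem_centralizer_iff]
    rintro _ rfl
    exact (show Commute t x from hx).pow_left _
  · exact fun hx => R.W0_comm hK ht.1 hx

end fin

end RG

end Cfsg.Agent.H6.Ree
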