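import Cfsg.Agent.H6_Ree15

/-!
The Ree groups: normalisers of the cyclic subgroups of order `(q-1)/2` and `(q+1)/4`.
-/

set_option autoImplicit false
set_option linter.unusedSectionVars false

namespace Cfsg.Agent.H6.Ree

open Cfsg Cfsg.Lie
open scoped Pointwise

local notation "SL2" => Matrix.SpecialLinearGroup (Fin 2)

namespace RG

variable {K : Type*} [Field K] {G : Type*} [Group G] (R : RG K G)

include R

/-! ### the split torus -/

theorem hU_fix {s : Kˣ} (hs1 : s ≠ 1) (hs2 : s ≠ -1) {x : G} (hx : x ∈ R.U) (h : R.h s * x = x * R.h s) : x = 1 := by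
  obtain ⟨t, u, v, rfl⟩ := hx
  obtain ⟨h1, h2, h3⟩ := (R.h_comm_iff s t u v).1 h
  rw [h1.resolve_right hs1, h2.resolve_right (not_or.2 ⟨hs1, hs2⟩), h3.resolve_right hs1, R.w_zero]

/-- fusion in the torus -/
theorem norm_H {s : Kˣ} (hs1 : s ≠ 1) (hs2 : s ≠ -1) {x : G} (h : x * R.h s * x⁻¹ ∈ R.H) :
    ∃ s', (x = R.h s' ∧ x * R.h s * x⁻¹ = R.h s) ∨ (x = R.h s' * R.n ∧ x * R.h s * x⁻¹ = (R.h s)⁻¹) := by
  have key : ∀ {w : G}, w ∈ R.U → w * R.h s * w⁻¹ ∈ R.H → w = 1 := by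
    intro w hw hwh
    apply R.hU_fix hs1 hs2 hw
    have h1 : (w * R.h s * w⁻¹) * (R.h s)⁻¹ ∈ R.U ⊓ R.H := by
      refine ⟨?_, R.H.mul_mem hwh (R.H.inv_mem (R.h_mem s))⟩
      have e : w * R.h s * w⁻¹ * (R.h s)⁻¹ = w * (R.h s * w⁻¹ * (R.h s)⁻¹) := by group
      rw [e]
      exact R.U.mul_mem hw (R.hU s (R.U.inv_mem hw))
    rw [R.U_inf_H, Subgroup.mem_bot] at h1
    have h2 := mul_inv_eq_one.1 h1
    exact (mul_inv_eq_iff_eq_mul.1 h2).symm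
  obtain ⟨s₁, hs₁⟩ := R.mem_H.1 h
  rcases R.cover x with hx | ⟨b, hb, u, hu, rfl⟩
  · obtain ⟨t, u, v, s', rfl⟩ := hx
    have h1 : R.w t u v * R.h s * (R.w t u v)⁻¹ ∈ R.H := by
      have e : R.w t u v * R.h s' * R.h s * (R.w t u v * R.h s')⁻¹ =
        R.w t u v * (R.h s' * R.h s * (R.h s')⁻¹) * (R.w t u v)⁻¹ := by group
      rw [e, ← map_mul, mul_comm s' s, map_mul, mul_assoc (R.h s), mul_inv_cancel, mul_one] at h
      exact h
    have h2 := key (R.w_mem t u v) h1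
    refine ⟨s', Or.inl ⟨by rw [h2, one_mul], ?_⟩⟩
    rw [h2, one_mul, ← map_mul, mul_comm s' s, map_mul, mul_assoc, mul_inv_cancel, mul_one]
  · -- `b n u h_s = h_{s₁} b n u`
    have h1 : (b * (R.h s)⁻¹) * R.n * ((R.h s)⁻¹ * u * R.h s) = (R.h s₁ * b) * R.n * u := by
      have e1 : R.n * R.h s = (R.h s)⁻¹ * R.n := by rw [R.nhc, map_inv]
      calc (b * (R.h s)⁻¹) * R.n * ((R.h s)⁻¹ * u * R.h s) = b * ((R.h s)⁻¹ * R.n) * (R.h s)⁻¹ * u * R.h s := by group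
        _ = b * (R.n * R.h s) * (R.h s)⁻¹ * u * R.h s := by rw [e1]
        _ = (b * R.n * u * R.h s * (b * R.n * u)⁻¹) * (b * R.n * u) := by group
        _ = _ := by rw [hs₁]; group
    have hu' : (R.h s)⁻¹ * u * R.h s ∈ R.U := by
      have := R.hU s⁻¹ hu
      rwa [map_inv, inv_inv] at this
    obtain ⟨h2, h3⟩ := R.big_uniq (mul_mem hb (inv_mem (R.hB s))) hu' (mul_mem (R.hB s₁) hb) hu h1
    have hu1 : u = 1 := by
      apply R.hU_fix hs1 hs2 hu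
      calc R.h s * u = R.h s * ((R.h s)⁻¹ * u * R.h s) := by rw [h3]
        _ = _ := by group
    obtain ⟨t, u', v, s', rfl⟩ := hb
    have h4 : R.w t u' v * (R.h s)⁻¹ * (R.w t u' v)⁻¹ = R.h s₁ := by
      have e : R.w t u' v * (R.h s)⁻¹ * (R.w t u' v)⁻¹ =
        (R.w t u' v * R.h s' * (R.h s)⁻¹) * (R.w t u' v * R.h s')⁻¹ := by
        rw [mul_inv_rev]
        have e2 : R.h s' * (R.h s)⁻¹ = (R.h s)⁻¹ * R.h s' := by rw [← map_inv, ← map_mul, mul_comm, map_mul]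
        calc R.w t u' v * (R.h s)⁻¹ * (R.w t u' v)⁻¹ = R.w t u' v * ((R.h s)⁻¹ * R.h s') * (R.h s')⁻¹ * (R.w t u' v)⁻¹ := by
              group
          _ = _ := by rw [← e2]; group
      rw [e, h2]; group
    have h5 : R.w t u' v * R.h s * (R.w t u' v)⁻¹ ∈ R.H := by
      have e : R.w t u' v * R.h s * (R.w t u' v)⁻¹ = (R.w t u' v * (R.h s)⁻¹ * (R.w t u' v)⁻¹)⁻¹ := by group
      rw [e, h4]
      exact inv_mem (R.h_mem _)
    have h6 := key (R.w_mem t u' v) h5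
    rw [h6, one_mul, inv_one, mul_one] at h4
    refine ⟨s', Or.inr ⟨by rw [h6, one_mul, hu1, mul_one], ?_⟩⟩
    rw [hs₁, h4]

/-- centralisers in the torus -/
theorem cen_H {s : Kˣ} (hs1 : s ≠ 1) (hs2 : s ≠ -1) {x : G} : R.h s * x = x * R.h s ↔ x ∈ R.H := by
  constructor
  · intro h
    have h1 : x * R.h s * x⁻¹ = R.h s := by rw [← h]; group
    obtain ⟨s', ⟨hx, -⟩ | ⟨hx, h2⟩⟩ := R.norm_H hs1 hs2 (x := x) (by rw [h1]; exact R.h_mem s)
    · rw [hx]; exact R.h_mem _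
    · exfalso
      rw [h1, ← map_inv] at h2
      have h3 := R.hinj h2
      have h4 : s ^ 2 = 1 := by rw [pow_two]; nth_rewrite 1 [h3]; rw [inv_mul_cancel]
      have h5 := congrArg Units.val h4
      rw [Units.val_pow_eq_pow_val, Units.val_one] at h5
      rcases sq_eq_one_iff.1 h5 with h6 | h6
      · exact hs1 (Units.ext h6)
      · exact hs2 (Units.ext (by rw [h6]; simp))
  · intro hx
    obtain ⟨s', rfl⟩ := R.mem_H.1 hx
    rw [← map_mul, mul_comm, map_mul]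

section fin

variable [Fintype K] [Finite G] {m : ℕ} (hK : Fintype.card K = 3 ^ (2 * m + 1))

/-- the odd part of the torus -/
def A2 : Subgroup G := (powMonoidHom ((3 ^ (2 * m + 1) - 1) / 2) : Kˣ →* Kˣ).ker.map R.h

omit [Fintype K] [Finite G] in
theorem mem_A2 {x : G} : x ∈ R.A2 (m := m) ↔ ∃ s : Kˣ, s ^ ((3 ^ (2 * m + 1) - 1) / 2) = 1 ∧ x = R.h s := by
  constructor
  · rintro ⟨s, hs, rfl⟩
    exact ⟨s, hs, rfl⟩
  · rintro ⟨s, hs, rfl⟩
    exact ⟨s, hs, rfl⟩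

include hK

theorem A2_pm {x : G} (hx : x ∈ R.A2 (m := m)) (hx1 : x ≠ 1) : ∃ s : Kˣ, s ≠ 1 ∧ s ≠ -1 ∧ x = R.h s := by
  obtain ⟨s, hs, rfl⟩ := R.mem_A2.1 hx
  refine ⟨s, ?_, odd_order_neg hK ((odd_iff hK s).2 hs) R.char3, rfl⟩
  rintro rfl
  exact hx1 (map_one _)

theorem card_A2 : Nat.card (R.A2 (m := m)) = (3 ^ (2 * m + 1) - 1) / 2 := by
  have h1 := card_odd hK
  have h2 := two_half hK
  have h3 : Nat.card (R.A2 (m := m)) = Nat.card {s : Kˣ // Odd (orderOf s)} := by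
    symm
    apply Nat.card_congr
    refine Equiv.ofBijective (fun s => ⟨R.h s.1, R.mem_A2.2 ⟨s.1, (odd_iff hK _).1 s.2, rfl⟩⟩) ⟨?_, ?_⟩
    · intro s s' h
      exact Subtype.ext (R.hinj (congrArg Subtype.val h))
    · rintro ⟨x, hx⟩
      obtain ⟨s, hs, rfl⟩ := R.mem_A2.1 hx
      exact ⟨⟨s, (odd_iff hK _).2 hs⟩, rfl⟩
  rw [h3]
  omega

omit hK in
theorem A2_cyclic : IsCyclic (R.A2 (m := m)) :=
  isCyclic_of_surjective (R.h.subgroupMap (powMonoidHom ((3 ^ (2 * m + 1) - 1) / 2) : Kˣ →* Kˣ).ker)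
    (R.h.subgroupMap_surjective _)

theorem mem_norm_A2 {A₀ : Subgroup G} (h : A₀ ≤ R.A2 (m := m)) (h0 : A₀ ≠ ⊥) {g : G} :
    g ∈ Subgroup.normalizer (A₀ : Set G) ↔ ∃ s, g = R.h s ∨ g = R.h s * R.n := by
  have hAH : ∀ x ∈ A₀, ∃ s, x = R.h s := fun x hx => by
    obtain ⟨s, -, hs⟩ := R.mem_A2.1 (h hx)
    exact ⟨s, hs⟩
  constructor
  · intro hg
    obtain ⟨x, hx, hx1⟩ := (Subgroup.bot_or_exists_ne_one A₀).resolve_left h0
    obtain ⟨s, hs1, hs2, rfl⟩ := R.A2_pm hK (h hx) hx1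
    have h1 := (Subgroup.mem_normalizer_iff.1 hg _).1 hx
    obtain ⟨s₁, hs₁⟩ := hAH _ h1
    obtain ⟨s', ⟨h2, -⟩ | ⟨h2, -⟩⟩ := R.norm_H hs1 hs2 (x := g) (by rw [hs₁]; exact R.h_mem _)
    · exact ⟨s', Or.inl h2⟩
    · exact ⟨s', Or.inr h2⟩
  · rintro ⟨s, rfl | rfl⟩
    · apply Subgroup.mem_normalizer_fintype
      intro x hx
      obtain ⟨s', rfl⟩ := hAH x hx
      rw [← map_mul, mul_comm, map_mul, mul_assoc, mul_inv_cancel, mul_one]
      exact hx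
    · apply Subgroup.mem_normalizer_fintype
      intro x hx
      obtain ⟨s', rfl⟩ := hAH x hx
      have e : R.h s * R.n * R.h s' * (R.h s * R.n)⁻¹ = (R.h s')⁻¹ := by
        rw [mul_inv_rev, R.n_inv]
        calc R.h s * R.n * R.h s' * (R.n * (R.h s)⁻¹) = R.h s * (R.n * R.h s' * R.n⁻¹) * (R.h s)⁻¹ := by
              rw [R.n_inv]; group
          _ = R.h s * R.h s'⁻¹ * (R.h s)⁻¹ := by rw [R.n_inv, R.nhc, mul_assoc (R.h s'⁻¹), R.nn, mul_one]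
          _ = _ := by rw [← map_mul, mul_comm s, map_mul, mul_assoc, mul_inv_cancel, mul_one, map_inv]
      rw [e]
      exact inv_mem hx

theorem card_norm_A2 {A₀ : Subgroup G} (h : A₀ ≤ R.A2 (m := m)) (h0 : A₀ ≠ ⊥) :
    Nat.card (Subgroup.normalizer (A₀ : Set G)) = 2 * (3 ^ (2 * m + 1) - 1) := by
  rw [← card_units' hK, two_mul, ← Nat.card_sum]
  symm
  apply Nat.card_congr
  refine Equiv.ofBijective (Sum.elim (fun s => ⟨R.h s, (R.mem_norm_A2 hK h h0).2 ⟨s, Or.inl rfl⟩⟩)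
    (fun s => ⟨R.h s * R.n, (R.mem_norm_A2 hK h h0).2 ⟨s, Or.inr rfl⟩⟩)) ⟨?_, ?_⟩
  · have hne : ∀ s s', R.h s ≠ R.h s' * R.n := by
      intro s s' h
      apply R.n_not_mem
      have e : R.n = (R.h s')⁻¹ * R.h s := by rw [h]; group
      rw [e]
      exact mul_mem (inv_mem (R.hB _)) (R.hB _)
    rintro (s | s) (s' | s') h
    · exact congrArg Sum.inl (R.hinj (congrArg Subtype.val h))
    · exact absurd (congrArg Subtype.val h) (hne s s')
    · exact absurd (congrArg Subtype.val h).symm (hne s' s)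
    · exact congrArg Sum.inr (R.hinj (mul_right_cancel (congrArg Subtype.val h)))
  · rintro ⟨g, hg⟩
    obtain ⟨s, rfl | rfl⟩ := (R.mem_norm_A2 hK h h0).1 hg
    · exact ⟨Sum.inl s, rfl⟩
    · exact ⟨Sum.inr s, rfl⟩

end fin

end RG

end Cfsg.Agent.H6.Ree
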