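import Cfsg.Agent.H6_Ree16

/-!
The Ree groups: the normaliser of `W₀`.
-/

set_option autoImplicit false
set_option linter.unusedSectionVars false

namespace Cfsg.Agent.H6.Ree

open Cfsg Cfsg.Lie
open scoped Pointwise

local notation "SL2" => Matrix.SpecialLinearGroup (Fin 2)

namespace RG

variable {K : Type*} [Field K] {G : Type*} [Group G] (R : RG K G)

include R

section fin

variable [Fintype K] [Finite G] {m : ℕ} (hK : Fintype.card K = 3 ^ (2 * m + 1))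

include hK

theorem not_dvd_sixteen (M : Subgroup G) : ¬ 16 ∣ Nat.card M := by
  intro h
  have h1 : 16 ∣ Nat.card G := h.trans (Subgroup.card_subgroup_dvd_card M)
  obtain ⟨r, k, hr, hk, e1, e2⟩ := R.two_part hK
  rw [e2, e1] at h1
  have h2 : Odd (r * k) := hr.mul hk
  obtain ⟨l, hl⟩ := h2
  have h3 : 8 * r * k = 8 * (2 * l + 1) := by rw [← hl]; ring
  rw [h3] at h1
  omega

/-- elements of odd order centralising `V` -/
theorem cen_an_odd {t : G} (h1 : R.a * t = t * R.a) (h2 : R.n * t = t * R.n) {k : ℕ} (hk : Odd k) (htk : t ^ k = 1) :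
    t ∈ R.T1 := by
  obtain ⟨x, rfl, hx⟩ := R.odd_sl hK h1 hk htk
  obtain ⟨w', hw', hn'⟩ := R.cen_odd hK hk hx R.a_n h2
  have hww : w' = ww ∨ w' = -ww := by
    rcases hn' with hn' | hn'
    · rw [← R.sl_ww] at hn'
      exact R.sl_inj hn'.symm
    · exfalso
      rw [← R.sl_ww] at hn'
      apply R.a_not_sl hK (ww * w'⁻¹)
      rw [map_mul, hn', map_inv]; group
  have hwx : ww * x = x * ww := by
    rcases hww with rfl | rfl
    · exact hw'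
    · rw [sl2_neg_mul, sl2_mul_neg] at hw'
      rw [← sl2_neg_neg (ww * x), hw', sl2_neg_neg]
  exact R.mem_T1.2 ⟨x, hwx.symm, rfl⟩

theorem mem_A4' {x : G} : x ∈ R.A4 hK ↔ (R.a * x = x * R.a ∧ R.n * x = x * R.n) ∧
    x ^ ((3 ^ (2 * m + 1) + 1) / 4) = 1 := by
  obtain ⟨e, he, heo, he', -⟩ := q_mod m
  constructor
  · intro h
    exact ⟨⟨R.W0_comm hK R.a_W0 h.1, R.W0_comm hK R.n_W0 h.1⟩, h.2⟩
  · rintro ⟨⟨h1, h2⟩, h3⟩
    refine ⟨R.T1_le (R.cen_an_odd hK h1 h2 (by rw [he']; exact heo) h3), h3⟩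

theorem A4_ne (hm : 1 ≤ m) : ∃ t ∈ R.A4 hK, t ≠ 1 := by
  have h1 : 1 < Nat.card (R.A4 hK) := by
    rw [R.card_A4 hK]
    have : 3 ^ 3 ≤ 3 ^ (2 * m + 1) := Nat.pow_le_pow_right (by norm_num) (by omega)
    omega
  have := Finite.one_lt_card_iff_nontrivial.1 h1
  obtain ⟨t, ht⟩ := exists_ne (1 : R.A4 hK)
  exact ⟨t, t.2, fun h => ht (Subtype.ext h)⟩

/-- a `3`-element permuting the involutions of `V` -/
theorem exists_rot : ∃ c : G, c * R.a * c⁻¹ ∈ R.V ∧ c * R.n * c⁻¹ ∈ R.V ∧ c * R.a * c⁻¹ ≠ R.a ∧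
    c * (c * R.a * c⁻¹) * c⁻¹ ≠ R.a ∧ c * (c * R.a * c⁻¹) * c⁻¹ ≠ c * R.a * c⁻¹ := by
  have h2f : Fact (Nat.Prime 2) := ⟨Nat.prime_two⟩
  obtain ⟨S, hS⟩ := R.exists_S hK
  have hnd := R.nodup_S hK hS
  obtain ⟨h8, hsq⟩ := R.sylow2 hK S
  have hcomm : ∀ x ∈ S, ∀ y ∈ S, x * y = y * x := fun x hx y hy =>
    comm_of_sq (hsq x hx) (hsq y hy) (hsq _ (mul_mem hx hy))
  have hmc : IsMulCommutative S := ⟨⟨fun x y => Subtype.ext (hcomm x x.2 y y.2)⟩⟩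
  simp only [Set.mem_insert_iff, Set.mem_singleton_iff] at hS
  have ha : R.a ∈ S := (hS _).2 (by simp)
  have hn : R.n ∈ S := (hS _).2 (by simp)
  have hj : R.j ∈ S := (hS _).2 (by simp)
  obtain ⟨g, hg⟩ := R.inv_conj_a hK R.nn R.n_ne
  obtain ⟨k, hk, hgk⟩ := S.conj_eq_normalizer_conj_of_mem R.n g hn (by rw [hg]; exact ha)
  rw [hg] at hgk
  have hjS : k⁻¹ * R.j * k ∈ S := by
    have := (Subgroup.mem_normalizer_iff.1 (inv_mem hk) R.j).1 hj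
    rwa [inv_inv] at this
  have hdist : R.j ≠ 1 ∧ R.j ≠ R.n := by
    simp only [List.nodup_cons, List.mem_cons, not_or] at hnd
    exact ⟨fun h => hnd.1.2.2.1 h.symm, fun h => hnd.2.2.1.1 h.symm⟩
  -- conjugation by `x₃`
  have ca : R.x3 * R.a * R.x3⁻¹ = R.a := by rw [mul_inv_eq_iff_eq_mul]; exact R.x3_a
  have ca' : R.x3⁻¹ * R.a * R.x3 = R.a := by
    nth_rewrite 1 [← ca]; group
  have cn := R.x3_n
  have cj := R.x3_j
  have cnj := R.x3_nj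
  have cmul : ∀ x y, R.x3 * (x * y) * R.x3⁻¹ = (R.x3 * x * R.x3⁻¹) * (R.x3 * y * R.x3⁻¹) := fun x y => by group
  have cmul' : ∀ x y, R.x3⁻¹ * (x * y) * R.x3 = (R.x3⁻¹ * x * R.x3) * (R.x3⁻¹ * y * R.x3) := fun x y => by group
  have cj' : R.x3⁻¹ * R.j * R.x3 = R.n := by rw [← cn]; group
  have hl : ∃ l, l⁻¹ * R.a * l = R.a ∧ (l⁻¹ * (k⁻¹ * R.j * k) * l = R.n ∨ l⁻¹ * (k⁻¹ * R.j * k) * l = R.a * R.n) := by
    rcases (hS _).1 hjS with h | h | h | h | h | h | h | h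
    · exfalso
      apply hdist.1
      have e : R.j = k * (k⁻¹ * R.j * k) * k⁻¹ := by group
      rw [e, h]; group
    · exfalso
      apply hdist.2
      have e : R.j = k * (k⁻¹ * R.j * k) * k⁻¹ := by group
      rw [e, h, hgk]; group
    · exact ⟨1, by group, Or.inl (by rw [h]; group)⟩
    · exact ⟨R.x3, ca', Or.inl (by rw [h, cj'])⟩
    · exact ⟨R.x3⁻¹, by rw [inv_inv]; exact ca, Or.inl (by rw [h, inv_inv]; exact cnj)⟩
    · exact ⟨1, by group, Or.inr (by rw [h]; group)⟩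
    · exact ⟨R.x3, ca', Or.inr (by rw [h, cmul', ca', cj'])⟩
    · exact ⟨R.x3⁻¹, by rw [inv_inv]; exact ca, Or.inr (by rw [h, inv_inv, cmul, ca, cnj])⟩
  obtain ⟨l, hla, hlj⟩ := hl
  set h := k * l with hh
  have hn' : h⁻¹ * R.n * h = R.a := by
    have e : h⁻¹ * R.n * h = l⁻¹ * (k⁻¹ * R.n * k) * l := by rw [hh]; group
    rw [e, ← hgk, hla]
  have hj' : h⁻¹ * R.j * h = R.n ∨ h⁻¹ * R.j * h = R.a * R.n := by
    have e : h⁻¹ * R.j * h = l⁻¹ * (k⁻¹ * R.j * k) * l := by rw [hh]; group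
    rw [e]; exact hlj
  have hnj' : h⁻¹ * (R.n * R.j) * h = R.a * (h⁻¹ * R.j * h) := by
    have e : h⁻¹ * (R.n * R.j) * h = (h⁻¹ * R.n * h) * (h⁻¹ * R.j * h) := by group
    rw [e, hn']
  have haan : R.a * (R.a * R.n) = R.n := by rw [← mul_assoc, R.aa, one_mul]
  -- the element
  have d1 : (h⁻¹ * R.x3 * h) * R.a * (h⁻¹ * R.x3 * h)⁻¹ = h⁻¹ * R.j * h := by
    rw [← hn']
    have e : (h⁻¹ * R.x3 * h) * (h⁻¹ * R.n * h) * (h⁻¹ * R.x3 * h)⁻¹ = h⁻¹ * (R.x3 * R.n * R.x3⁻¹) * h := by group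
    rw [e, cn]
  have d2 : (h⁻¹ * R.x3 * h) * (h⁻¹ * R.j * h) * (h⁻¹ * R.x3 * h)⁻¹ = R.a * (h⁻¹ * R.j * h) := by
    have e : (h⁻¹ * R.x3 * h) * (h⁻¹ * R.j * h) * (h⁻¹ * R.x3 * h)⁻¹ = h⁻¹ * (R.x3 * R.j * R.x3⁻¹) * h := by group
    rw [e, cj, hnj']
  have hne1 : R.a ≠ R.n := R.a_ne_n
  have hne2 : R.a * R.n ≠ R.a := fun h => R.n_ne (mul_eq_left.1 h)
  have hne3 : R.a * R.n ≠ R.n := fun h => R.a_ne (mul_eq_right.1 h)
  refine ⟨h⁻¹ * R.x3 * h, ?_, ?_, ?_, ?_, ?_⟩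
  · rw [d1]
    rcases hj' with h1 | h1
    · rw [h1]; exact Or.inr (Or.inr (Or.inl rfl))
    · rw [h1]; exact Or.inr (Or.inr (Or.inr rfl))
  · rcases hj' with h1 | h1
    · rw [h1] at d2
      rw [d2]
      exact Or.inr (Or.inr (Or.inr rfl))
    · -- `j ↦ a n`, so `n = a (a n)`
      have e : (h⁻¹ * R.x3 * h) * R.n * (h⁻¹ * R.x3 * h)⁻¹ = ((h⁻¹ * R.x3 * h) * R.a * (h⁻¹ * R.x3 * h)⁻¹) *
          ((h⁻¹ * R.x3 * h) * (h⁻¹ * R.j * h) * (h⁻¹ * R.x3 * h)⁻¹) := by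
        rw [h1]
        have e2 : R.n = R.a * (R.a * R.n) := haan.symm
        conv_lhs => rw [e2]
        group
      rw [e, d1, d2, h1]
      exact mul_mem (Or.inr (Or.inr (Or.inr rfl))) (mul_mem (Or.inr (Or.inl rfl)) (Or.inr (Or.inr (Or.inr rfl))))
  · rw [d1]
    rcases hj' with h1 | h1
    · rw [h1]; exact hne1.symm
    · rw [h1]; exact hne2
  · rw [d1, d2]
    rcases hj' with h1 | h1
    · rw [h1]; exact hne2
    · rw [h1, haan]; exact hne1.symm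
  · rw [d1, d2]
    rcases hj' with h1 | h1
    · rw [h1]; exact hne3
    · rw [h1, haan]; exact hne3.symm

end fin

end RG

end Cfsg.Agent.H6.Ree
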