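import Cfsg.Agent.H6_Ree17

/-!
The Ree groups: the order of the normaliser of `W₀`.
-/

set_option autoImplicit false
set_option linter.unusedSectionVars false

namespace Cfsg.Agent.H6.Ree

open Cfsg Cfsg.Lie
open scoped Pointwise

local notation "SL2" => Matrix.SpecialLinearGroup (Fin 2)

theorem conj_comm {G : Type*} [Group G] {g x y : G} (h : x * y = y * x) :
    (g * x * g⁻¹) * (g * y * g⁻¹) = (g * y * g⁻¹) * (g * x * g⁻¹) := by
  calc (g * x * g⁻¹) * (g * y * g⁻¹) = g * (x * y) * g⁻¹ := by group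
    _ = g * (y * x) * g⁻¹ := by rw [h]
    _ = _ := by group

namespace RG

variable {K : Type*} [Field K] {G : Type*} [Group G] (R : RG K G)

include R

section fin

variable [Fintype K] [Finite G] {m : ℕ} (hm : 1 ≤ m) (hK : Fintype.card K = 3 ^ (2 * m + 1))

include hm hK

/-- elements normalising `A₄` normalise `W₀` -/
theorem norm_W0_of {g : G} (h : ∀ x ∈ R.A4 hK, g * x * g⁻¹ ∈ R.A4 hK) : g ∈ Subgroup.normalizer (R.W0 : Set G) := by
  apply Subgroup.mem_normalizer_fintype
  intro x hx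
  obtain ⟨t, ht, ht1⟩ := R.A4_ne hK hm
  have h1 : g * t * g⁻¹ ≠ 1 := by
    intro h2
    apply ht1
    have e : t = g⁻¹ * (g * t * g⁻¹) * g := by group
    rw [e, h2]; group
  exact (R.cen_A4 hK (h t ht) h1).1 (conj_comm (R.W0_comm hK ht.1 hx))

theorem norm_W0_of_V {g : G} (hg : ∀ x ∈ R.V, g⁻¹ * x * g ∈ R.V) : g ∈ Subgroup.normalizer (R.W0 : Set G) := by
  apply R.norm_W0_of hm hK
  intro x hx
  rw [R.mem_A4' hK]
  have key : ∀ y ∈ R.V, y * (g * x * g⁻¹) = (g * x * g⁻¹) * y := by
    intro y hy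
    have h1 := R.W0_comm hK (R.V_le (hg y hy)) hx.1
    have h2 := conj_comm (g := g) h1
    have e : g * (g⁻¹ * y * g) * g⁻¹ = y := by group
    rwa [e] at h2
  refine ⟨⟨key _ (Or.inr (Or.inl rfl)), key _ (Or.inr (Or.inr (Or.inl rfl)))⟩, ?_⟩
  rw [conj_pow, hx.2]; group

omit hm in
theorem j_not_W0 : R.j ∉ R.W0 := by
  rintro ⟨z, hz, h | h⟩
  · have h1 : jj R.char3 * ww = ww * jj R.char3 := by
      rcases R.sl_inj h with h2 | h2
      · rw [h2, hz]
      · rw [h2, sl2_neg_mul, sl2_mul_neg, hz]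
    have h2 := ww_jj R.char3
    rw [h1] at h2
    have h3 : (1 : SL2 K) = -1 := by
      apply mul_right_cancel (b := ww * jj R.char3)
      rw [one_mul, sl2_neg_mul, one_mul]; exact h2
    exact R.one_ne_neg h3
  · apply R.a_not_sl hK (jj R.char3 * z⁻¹)
    rw [map_mul, map_inv]
    change R.j * (R.sl z)⁻¹ = R.a
    rw [h]; group

omit hm in
/-- the elements centralising `V` -/
theorem cen_V_cases {b : G} (h1 : R.a * b = b * R.a) (h2 : R.n * b = b * R.n) : b ∈ R.W0 ∨ R.j * b ∈ R.W0 := by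
  have key : ∀ z : SL2 K, R.n * R.sl z = R.sl z * R.n → z * ww = ww * z ∨ (jj R.char3 * z) * ww = ww * (jj R.char3 * z) := by
    intro z h
    rw [← R.sl_ww, ← map_mul, ← map_mul] at h
    rcases R.sl_inj h with h3 | h3
    · exact Or.inl h3.symm
    · right
      have h4 : z * ww = -(ww * z) := by rw [h3, sl2_neg_neg]
      calc (jj R.char3 * z) * ww = jj R.char3 * (z * ww) := by rw [mul_assoc]
        _ = -(jj R.char3 * ww * z) := by rw [h4, sl2_mul_neg, mul_assoc]
        _ = ww * (jj R.char3 * z) := by rw [jj_ww, sl2_neg_mul, sl2_neg_neg, mul_assoc]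
  obtain ⟨z, hz | hz⟩ := R.cen_a hK h1
  · rw [hz] at h2
    rcases key z h2 with h3 | h3
    · exact Or.inl ⟨z, h3, Or.inl hz⟩
    · exact Or.inr ⟨_, h3, Or.inl (by rw [hz, map_mul, j])⟩
  · have h4 : R.n * R.sl z = R.sl z * R.n := by
      rw [hz] at h2
      apply mul_left_cancel (a := R.a)
      calc R.a * (R.n * R.sl z) = (R.a * R.n) * R.sl z := by group
        _ = R.n * (R.a * R.sl z) := by rw [R.a_n]; group
        _ = R.a * (R.sl z * R.n) := by rw [h2]; group
    rcases key z h4 with h3 | h3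
    · exact Or.inl ⟨z, h3, Or.inr hz⟩
    · refine Or.inr ⟨_, h3, Or.inr ?_⟩
      rw [hz, map_mul]
      calc R.j * (R.a * R.sl z) = (R.j * R.a) * R.sl z := by group
        _ = R.a * R.j * R.sl z := by rw [← R.a_j]
        _ = _ := by rw [j]; group

theorem card_norm_W0 : Nat.card (Subgroup.normalizer (R.W0 : Set G)) = 6 * (3 ^ (2 * m + 1) + 1) := by
  obtain ⟨e, he, heo, he', -⟩ := q_mod m
  set N := Subgroup.normalizer (R.W0 : Set G) with hN
  have hNW : ∀ g ∈ N, ∀ x ∈ R.W0, g * x * g⁻¹ ∈ R.W0 := fun g hg x hx => (Subgroup.mem_normalizer_iff.1 hg x).1 hx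
  have hinv : ∀ g ∈ N, ∀ x, x = R.a ∨ x = R.n ∨ x = R.a * R.n →
      g * x * g⁻¹ = R.a ∨ g * x * g⁻¹ = R.n ∨ g * x * g⁻¹ = R.a * R.n := by
    intro g hg x hx
    have hxV : x ∈ R.V := Or.inr hx
    have hx1 : x ≠ 1 := by
      rcases hx with rfl | rfl | rfl
      · exact R.a_ne
      · exact R.n_ne
      · intro h
        apply R.a_ne_n
        rw [← mul_left_inj R.n, h, R.nn]
    have h1 : (g * x * g⁻¹) * (g * x * g⁻¹) = 1 := by
      calc (g * x * g⁻¹) * (g * x * g⁻¹) = g * (x * x) * g⁻¹ := by group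
        _ = 1 := by rw [R.V_sq hxV]; group
    rcases R.W0_inv hK (hNW g hg x (R.V_le hxV)) h1 with h2 | h2
    · exfalso
      apply hx1
      have e : x = g⁻¹ * (g * x * g⁻¹) * g := by group
      rw [e, h2]; group
    · exact h2
  have d12 : R.a ≠ R.n := R.a_ne_n
  have d13 : R.a ≠ R.a * R.n := fun h => R.n_ne (mul_eq_left.1 h.symm)
  have d23 : R.n ≠ R.a * R.n := fun h => R.a_ne (mul_eq_right.1 h.symm)
  -- the orbit of `a`
  obtain ⟨c, hc1, hc2, hc3, hc4, hc5⟩ := R.exists_rot hK
  have hcV : c ∈ Subgroup.normalizer (R.V : Set G) := by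
    apply Subgroup.mem_normalizer_fintype
    rintro x (rfl | rfl | rfl | rfl)
    · rw [mul_one, mul_inv_cancel]; exact one_mem R.V
    · exact hc1
    · exact hc2
    · have e : c * (R.a * R.n) * c⁻¹ = (c * R.a * c⁻¹) * (c * R.n * c⁻¹) := by group
      rw [e]
      exact R.V.mul_mem hc1 hc2
  have hcN : c ∈ N := R.norm_W0_of_V hm hK fun x hx => by
    have := (Subgroup.mem_normalizer_iff.1 (inv_mem hcV) x).1 hx
    rwa [inv_inv] at this
  have e1 := card_orb N R.a
  have h3 : Nat.card {y : G // ∃ g ∈ N, y = g * R.a * g⁻¹} = 3 := by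
    have hl : Nat.card {y : G // ∃ g ∈ N, y = g * R.a * g⁻¹} = [R.a, R.n, R.a * R.n].length := by
      apply card_list (s := {y : G | ∃ g ∈ N, y = g * R.a * g⁻¹})
      · simp only [List.nodup_cons, List.mem_cons, List.not_mem_nil, or_false, not_or, not_false_eq_true, List.nodup_nil,
          and_true]
        exact ⟨⟨d12, d13⟩, d23⟩
      · intro y
        simp only [List.mem_cons, List.not_mem_nil, or_false, Set.mem_ofPred_eq]
        constructor
        · rintro ⟨g, hg, rfl⟩
          exact hinv g hg _ (Or.inl rfl)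
        · have h1 := (hinv c hcN _ (Or.inl rfl)).resolve_left hc3
          have h2 := (hinv c hcN _ (Or.inr h1)).resolve_left hc4
          rintro (rfl | rfl | rfl)
          · exact ⟨1, one_mem _, by group⟩
          · rcases h1 with h1 | h1
            · exact ⟨c, hcN, h1.symm⟩
            · rcases h2 with h2 | h2
              · exact ⟨c * c, mul_mem hcN hcN, by rw [← h2]; group⟩
              · exact absurd (h2.trans h1.symm) hc5
          · rcases h1 with h1 | h1
            · rcases h2 with h2 | h2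
              · exact absurd (h2.trans h1.symm) hc5
              · exact ⟨c * c, mul_mem hcN hcN, by rw [← h2]; group⟩
            · exact ⟨c, hcN, h1.symm⟩
    rw [hl]; rfl
  -- the centraliser of `V`
  set M := N ⊓ Subgroup.centralizer {R.a} with hM
  set D := M ⊓ Subgroup.centralizer {R.n} with hD
  have memD : ∀ x, x ∈ D ↔ R.a * x = x * R.a ∧ R.n * x = x * R.n := by
    intro x
    constructor
    · rintro ⟨⟨-, h1⟩, h2⟩
      exact ⟨Subgroup.mem_centralizer_iff.1 h1 _ rfl, Subgroup.mem_centralizer_iff.1 h2 _ rfl⟩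
    · rintro ⟨h1, h2⟩
      have hxN : x ∈ N := by
        apply R.norm_W0_of_V hm hK
        have k1 : x⁻¹ * R.a * x = R.a := by rw [mul_assoc, h1]; group
        have k2 : x⁻¹ * R.n * x = R.n := by rw [mul_assoc, h2]; group
        rintro y (rfl | rfl | rfl | rfl)
        · rw [mul_one, inv_mul_cancel]; exact one_mem R.V
        · rw [k1]; exact Or.inr (Or.inl rfl)
        · rw [k2]; exact Or.inr (Or.inr (Or.inl rfl))
        · have e : x⁻¹ * (R.a * R.n) * x = (x⁻¹ * R.a * x) * (x⁻¹ * R.n * x) := by group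
          rw [e, k1, k2]; exact Or.inr (Or.inr (Or.inr rfl))
      exact ⟨⟨hxN, (R.mem_cen' hK).2 h1⟩, (R.mem_cen' hK).2 h2⟩
  have hWD : R.W0 ≤ D := fun x hx => (memD x).2 ⟨R.W0_comm hK R.a_W0 hx, R.W0_comm hK R.n_W0 hx⟩
  have hjD : R.j ∈ D := (memD _).2 ⟨R.a_j, R.n_j⟩
  have hcardD : Nat.card D = 2 * (3 ^ (2 * m + 1) + 1) := by
    have h1 : (R.W0.subgroupOf D).index = 2 := by
      rw [Subgroup.index_eq_two_iff']
      refine ⟨⟨R.j, hjD⟩, ?_⟩
      rintro ⟨b, hb⟩
      rw [Subgroup.mem_subgroupOf, Subgroup.mem_subgroupOf]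
      change Xor (R.j * b ∈ R.W0) (b ∈ R.W0)
      obtain ⟨hb1, hb2⟩ := (memD b).1 hb
      rcases R.cen_V_cases hK hb1 hb2 with h | h
      · right
        exact ⟨h, fun h2 => R.j_not_W0 hK ((Subgroup.mul_mem_cancel_right _ h).1 h2)⟩
      · left
        exact ⟨h, fun h2 => R.j_not_W0 hK ((Subgroup.mul_mem_cancel_right _ h2).1 h)⟩
    have h2 := Subgroup.card_mul_index (R.W0.subgroupOf D)
    rw [h1, Nat.card_congr (Subgroup.subgroupOfEquivOfLe hWD).toEquiv, R.card_W0 hK] at h2
    omega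
  -- the orbit of `n`
  have e2 := card_orb M R.n
  have h1 : Nat.card {y : G // ∃ g ∈ M, y = g * R.n * g⁻¹} = 1 := by
    have hMa : ∀ g ∈ M, g * R.a * g⁻¹ = R.a := by
      intro g hg
      rw [← Subgroup.mem_centralizer_iff.1 hg.2 R.a rfl]; group
    have hsub : ∀ y, (∃ g ∈ M, y = g * R.n * g⁻¹) → y = R.n ∨ y = R.a * R.n := by
      rintro _ ⟨g, hg, rfl⟩
      refine (hinv g hg.1 _ (Or.inr (Or.inl rfl))).resolve_left fun h => ?_
      apply d12
      have h5 := hMa g hg
      have h6 := h5.trans h.symm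
      exact mul_left_cancel (mul_right_cancel h6)
    by_cases han : ∃ g ∈ M, R.a * R.n = g * R.n * g⁻¹
    · exfalso
      have hl : Nat.card {y : G // ∃ g ∈ M, y = g * R.n * g⁻¹} = [R.n, R.a * R.n].length := by
        apply card_list (s := {y : G | ∃ g ∈ M, y = g * R.n * g⁻¹})
        · simp only [List.nodup_cons, List.mem_cons, List.not_mem_nil, or_false, not_false_eq_true, List.nodup_nil,
            and_true]
          exact d23
        · intro y
          simp only [List.mem_cons, List.not_mem_nil, or_false, Set.mem_ofPred_eq]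
          constructor
          · exact hsub y
          · rintro (rfl | rfl)
            · exact ⟨1, one_mem _, by group⟩
            · exact han
      rw [hl, ← hD, hcardD, he] at e2
      apply R.not_dvd_sixteen hK M
      rw [e2]
      exact ⟨e, by simp; ring⟩
    · have hl : Nat.card {y : G // ∃ g ∈ M, y = g * R.n * g⁻¹} = [R.n].length := by
        apply card_list (s := {y : G | ∃ g ∈ M, y = g * R.n * g⁻¹})
        · simp
        · intro y
          simp only [List.mem_cons, List.not_mem_nil, or_false, Set.mem_ofPred_eq]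
          constructor
          · intro h
            refine (hsub y h).resolve_right fun h2 => han ?_
            rw [← h2]; exact h
          · rintro rfl
            exact ⟨1, one_mem _, by group⟩
      rw [hl]; rfl
  rw [e1, h3, e2, h1, ← hD, hcardD]
  ring

/-- normalisers of the non-trivial subgroups of `A₄` -/
theorem norm_A4 {A₀ : Subgroup G} (h : A₀ ≤ R.A4 hK) (h0 : A₀ ≠ ⊥) :
    Subgroup.normalizer (A₀ : Set G) = Subgroup.normalizer (R.W0 : Set G) := by
  obtain ⟨y, hy, hy1⟩ := (Subgroup.bot_or_exists_ne_one A₀).resolve_left h0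
  apply le_antisymm
  · intro g hg
    apply Subgroup.mem_normalizer_fintype
    intro x hx
    have h1 := (Subgroup.mem_normalizer_iff.1 hg y).1 hy
    have h2 : g * y * g⁻¹ ≠ 1 := by
      intro h3
      apply hy1
      have e : y = g⁻¹ * (g * y * g⁻¹) * g := by group
      rw [e, h3]; group
    exact (R.cen_A4 hK (h h1) h2).1 (conj_comm (R.W0_comm hK (h hy).1 hx))
  · intro g hg
    have hA : ∀ x ∈ R.A4 hK, g * x * g⁻¹ ∈ R.A4 hK := fun x hx =>
      ⟨(Subgroup.mem_normalizer_iff.1 hg x).1 hx.1, by rw [conj_pow, hx.2]; group⟩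
    obtain ⟨⟨c, hc⟩, hcgen⟩ := (R.A4_cyclic hK).exists_generator
    obtain ⟨k, hk⟩ := Subgroup.mem_zpowers_iff.1 (hcgen ⟨g * c * g⁻¹, hA c hc⟩)
    have hk' : g * c * g⁻¹ = c ^ k := (congrArg Subtype.val hk).symm
    apply Subgroup.mem_normalizer_fintype
    intro x hx
    obtain ⟨i, hi⟩ := Subgroup.mem_zpowers_iff.1 (hcgen ⟨x, h hx⟩)
    have hi' : x = c ^ i := (congrArg Subtype.val hi).symm
    have e : g * x * g⁻¹ = x ^ k := by
      rw [hi', ← conj_zpow, hk', ← zpow_mul, ← zpow_mul, mul_comm]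
    rw [e]
    exact zpow_mem hx k

end fin

end RG

end Cfsg.Agent.H6.Ree
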