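import Mathlib

/-!
Centralisers of elements of prime order `p` in linear groups of dimension seven, when `q` has order six modulo `p`.
-/

set_option autoImplicit false
set_option linter.unusedSectionVars false

namespace Cfsg.Agent.H6.Ree

section lin

variable {K : Type*} [Field K] {V : Type*} [AddCommGroup V] [Module K V]
  (x : (Module.End K V)ˣ) {p : ℕ}

theorem range_inf_ker (hx : x ^ p = 1) (hpK : (p : K) ≠ 0) {v : V}
    (h1 : v ∈ LinearMap.range ((x : Module.End K V) - 1)) (h2 : (x : Module.End K V) v = v) : v = 0 := by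
  obtain ⟨w, rfl⟩ := h1
  set v := ((x : Module.End K V) - 1) w with hv
  have hxw : (x : Module.End K V) w = w + v := by
    rw [hv, LinearMap.sub_apply, Module.End.one_apply]; abel
  have key : ∀ k : ℕ, ((x : Module.End K V) ^ k) w = w + (k : K) • v := by
    intro k
    induction k with
    | zero => simp
    | succ k ih =>
      rw [pow_succ', Module.End.mul_apply, ih, map_add, map_smul, hxw, h2]
      push_cast
      rw [add_smul, one_smul]
      abel
  have h3 := key p
  have h4 : (x : Module.End K V) ^ p = 1 := by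
    have := congrArg Units.val hx
    rwa [Units.val_pow_eq_pow_val, Units.val_one] at this
  rw [h4, Module.End.one_apply] at h3
  have h5 : (p : K) • v = 0 := left_eq_add.1 h3
  exact (smul_eq_zero.1 h5).resolve_left hpK

theorem card_stable [Fact p.Prime] [Finite V] (hx : x ^ p = 1) {W : Submodule K V}
    (hW : ∀ w ∈ W, (x : Module.End K V) w ∈ W) (hfix : ∀ w ∈ W, (x : Module.End K V) w = w → w = 0) :
    Nat.card W ≡ 1 [MOD p] := by
  have hp : p ≠ 0 := (Fact.out : p.Prime).ne_zero
  have hG : IsPGroup p (Subgroup.zpowers x) := by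
    rintro ⟨y, k, rfl⟩
    refine ⟨1, Subtype.ext ?_⟩
    change (x ^ k) ^ p ^ 1 = 1
    rw [pow_one, ← zpow_natCast, ← zpow_mul, mul_comm, zpow_mul, zpow_natCast, hx, one_zpow]
  have hst : ∀ g : Subgroup.zpowers x, ∀ w ∈ W, ((g : (Module.End K V)ˣ) : Module.End K V) w ∈ W := by
    rintro ⟨y, hy⟩
    have hy' : y ∈ Submonoid.powers x := by
      obtain ⟨k, rfl⟩ := hy
      refine ⟨(k % (p : ℤ)).toNat, ?_⟩
      have h0 : 0 ≤ k % (p : ℤ) := Int.emod_nonneg _ (by exact_mod_cast hp)
      change x ^ (k % (p : ℤ)).toNat = x ^ k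
      rw [← zpow_natCast, Int.toNat_of_nonneg h0]
      conv_rhs => rw [← Int.emod_add_mul_ediv k p, zpow_add, zpow_mul, zpow_natCast, hx, one_zpow, mul_one]
    obtain ⟨n, rfl⟩ := hy'
    change ∀ w ∈ W, ((x ^ n : (Module.End K V)ˣ) : Module.End K V) w ∈ W
    induction n with
    | zero => intro w hw; simpa using hw
    | succ n ih =>
      intro w hw
      rw [pow_succ, Units.val_mul, Module.End.mul_apply]
      exact ih ⟨n, zpow_natCast x n⟩ _ (hW w hw)
  let S : SubMulAction (Subgroup.zpowers x) V :=
    { carrier := W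
      smul_mem' := fun g w hw => hst g w hw }
  have h1 := hG.card_modEq_card_fixedPoints (α := S)
  have h2 : Nat.card (MulAction.fixedPoints (Subgroup.zpowers x) S) = 1 := by
    rw [Nat.card_eq_one_iff_unique]
    refine ⟨⟨?_⟩, ⟨⟨⟨0, W.zero_mem⟩, ?_⟩⟩⟩
    · rintro ⟨⟨a, ha⟩, ha2⟩ ⟨⟨b, hb⟩, hb2⟩
      have h3 : ∀ (w : V) (hw : w ∈ W), (⟨w, hw⟩ : S) ∈ MulAction.fixedPoints (Subgroup.zpowers x) S → w = 0 := by
        intro w hw h
        apply hfix w hw
        exact congrArg Subtype.val (h ⟨x, Subgroup.mem_zpowers x⟩)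
      apply Subtype.ext
      apply Subtype.ext
      exact (h3 a ha ha2).trans (h3 b hb hb2).symm
    · intro g
      apply Subtype.ext
      exact map_zero ((g : (Module.End K V)ˣ) : Module.End K V)
  rw [h2] at h1
  exact h1

variable [Fact p.Prime] [Finite V] (hx : x ^ p = 1) (hx1 : x ≠ 1) (hpK : (p : K) ≠ 0)
  (hd : ∀ d ≤ 7, Nat.card K ^ d ≡ 1 [MOD p] → d = 0 ∨ d = 6) (h7 : Module.finrank K V = 7)

include hx hpK hd h7

/-- the moved part -/
theorem finrank_stable {W : Submodule K V} (hW : ∀ w ∈ W, (x : Module.End K V) w ∈ W)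
    (hle : W ≤ LinearMap.range ((x : Module.End K V) - 1)) : Module.finrank K W = 0 ∨ Module.finrank K W = 6 := by
  have hfin : Module.Finite K V := Module.finite_of_finrank_pos (by rw [h7]; norm_num)
  apply hd
  · rw [← h7]; exact Submodule.finrank_le W
  · rw [← Module.natCard_eq_pow_finrank (K := K) (V := W)]
    exact card_stable x hx hW fun w hw h => range_inf_ker x hx hpK (hle hw) h

include hx1

theorem finrank_range : Module.finrank K (LinearMap.range ((x : Module.End K V) - 1)) = 6 := by
  have hfin : Module.Finite K V := Module.finite_of_finrank_pos (by rw [h7]; norm_num)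
  rcases finrank_stable x hx hpK hd h7 (W := LinearMap.range ((x : Module.End K V) - 1)) (by
    rintro w ⟨v, rfl⟩
    refine ⟨(x : Module.End K V) v, ?_⟩
    simp) le_rfl with h | h
  · exfalso
    apply hx1
    rw [Submodule.finrank_eq_zero, LinearMap.range_eq_bot, sub_eq_zero] at h
    exact Units.ext h
  · exact h

/-- a group commuting with `x`, of order prime to `q - 1`, is cyclic -/
theorem cyclic_of (A : Subgroup (Module.End K V)ˣ) (hA : ∀ a ∈ A, a * x = x * a)
    (hcop : (Nat.card A).Coprime (Nat.card K - 1)) : IsCyclic A := by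
  classical
  have hfin : Module.Finite K V := Module.finite_of_finrank_pos (by rw [h7]; norm_num)
  have hKf : Finite K := by
    have : Nontrivial V := Module.nontrivial_of_finrank_pos (R := K) (by rw [h7]; norm_num)
    obtain ⟨v, hv⟩ := exists_ne (0 : V)
    exact Finite.of_injective (fun k : K => k • v) fun a b h => by
      have h1 : (a - b) • v = 0 := by rw [sub_smul]; exact sub_eq_zero.2 h
      exact sub_eq_zero.1 ((smul_eq_zero.1 h1).resolve_right hv)
  set R := LinearMap.range ((x : Module.End K V) - 1) with hR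
  have hR6 := finrank_range x hx hx1 hpK hd h7
  let C : Subring (Module.End K V) := Subring.centralizer {(x : Module.End K V)}
  have memC : ∀ c : Module.End K V, c ∈ C ↔ (x : Module.End K V) * c = c * x := fun c => by
    rw [Subring.mem_centralizer_iff]; simp
  have hCR : ∀ c ∈ C, ∀ v ∈ R, c v ∈ R := by
    rintro c hc _ ⟨v, rfl⟩
    refine ⟨c v, ?_⟩
    have h := LinearMap.congr_fun ((memC c).1 hc) v
    rw [Module.End.mul_apply, Module.End.mul_apply] at h
    rw [LinearMap.sub_apply, LinearMap.sub_apply, Module.End.one_apply, Module.End.one_apply, map_sub, h]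
  let r : C →+* Module.End K R :=
    { toFun := fun c => (c : Module.End K V).restrict (hCR c c.2)
      map_one' := by ext v; rfl
      map_mul' := fun c d => by ext v; rfl
      map_zero' := by ext v; rfl
      map_add' := fun c d => by ext v; rfl }
  have hr : ∀ (c : C) (v : R), ((r c v : R) : V) = (c : Module.End K V) v := fun c v => rfl
  -- zero or injective
  have hzi : ∀ c : C, r c = 0 ∨ Function.Injective (r c) := by
    intro c
    have hstab : ∀ w ∈ LinearMap.ker (c : Module.End K V) ⊓ R, (x : Module.End K V) w ∈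
        LinearMap.ker (c : Module.End K V) ⊓ R := by
      rintro w ⟨h1, h2⟩
      refine ⟨?_, hCR _ ((memC _).2 rfl) _ h2⟩
      have h := LinearMap.congr_fun ((memC c).1 c.2) w
      rw [Module.End.mul_apply, Module.End.mul_apply, LinearMap.mem_ker.1 h1, map_zero] at h
      exact LinearMap.mem_ker.2 h.symm
    rcases finrank_stable x hx hpK hd h7 hstab inf_le_right with h | h
    · right
      rw [Submodule.finrank_eq_zero] at h
      rw [← LinearMap.ker_eq_bot, eq_bot_iff]
      intro v hv
      have h1 : (v : V) ∈ LinearMap.ker (c : Module.End K V) ⊓ R :=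
        ⟨LinearMap.mem_ker.2 (congrArg Subtype.val (LinearMap.mem_ker.1 hv)), v.2⟩
      rw [h] at h1
      exact (Submodule.mem_bot K).2 (Subtype.ext ((Submodule.mem_bot K).1 h1))
    · left
      have h1 : LinearMap.ker (c : Module.End K V) ⊓ R = R := by
        apply Submodule.eq_of_le_of_finrank_eq inf_le_right
        rw [h, hR6]
      ext v
      have h2 : (v : V) ∈ LinearMap.ker (c : Module.End K V) ⊓ R := by rw [h1]; exact v.2
      exact LinearMap.mem_ker.1 h2.1
  have hnt : Nontrivial R := Module.nontrivial_of_finrank_pos (R := K) (by rw [hR6]; norm_num)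
  let D : Subring (Module.End K R) := r.range
  have hDdom : IsDomain D := by
    have h1 : NoZeroDivisors D := by
      refine ⟨?_⟩
      rintro ⟨_, c, rfl⟩ ⟨_, d, rfl⟩ h
      have h2 : r c * r d = 0 := congrArg Subtype.val h
      rcases hzi c with h3 | h3
      · exact Or.inl (Subtype.ext h3)
      · right
        apply Subtype.ext
        ext v
        have h4 := LinearMap.congr_fun h2 v
        rw [Module.End.mul_apply] at h4
        have h5 := h3 (h4.trans (map_zero (r c)).symm)
        exact congrArg Subtype.val h5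
    have h2 : Nontrivial D := ⟨0, 1, fun h => by
      have h3 : (0 : Module.End K R) = 1 := congrArg Subtype.val h
      exact zero_ne_one h3⟩
    exact NoZeroDivisors.to_isDomain D
  have hDfin : Finite D := by
    have : Finite (Module.End K R) := Module.finite_of_finite K
    exact inferInstance
  let hF : Field D := (Finite.isDomain_to_isField D).toField
  -- the homomorphism
  let f : A →* D :=
    { toFun := fun a => ⟨r ⟨((a : (Module.End K V)ˣ) : Module.End K V), (memC _).2 (by
        have := congrArg Units.val (hA a a.2)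
        rw [Units.val_mul, Units.val_mul] at this
        exact this.symm)⟩, ⟨_, rfl⟩⟩
      map_one' := by
        apply Subtype.ext
        ext v
        rfl
      map_mul' := fun a b => by
        apply Subtype.ext
        ext v
        rfl }
  have hf : ∀ (a : A) (v : R), (((f a : D) : Module.End K R) v : V) = ((a : (Module.End K V)ˣ) : Module.End K V) v :=
    fun a v => rfl
  have hAfin : Finite A := by
    have : Finite (Module.End K V) := Module.finite_of_finite K
    exact inferInstance
  refine isCyclic_of_injective_ringHom f ?_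
  rw [injective_iff_map_eq_one]
  intro a ha
  -- `a` is trivial on `R`
  have h1 : ∀ v ∈ R, ((a : (Module.End K V)ˣ) : Module.End K V) v = v := by
    intro v hv
    rw [← hf a ⟨v, hv⟩, ha]
    rfl
  -- and on the kernel
  have hker : Module.finrank K (LinearMap.ker ((x : Module.End K V) - 1)) = 1 := by
    have := LinearMap.finrank_range_add_finrank_ker ((x : Module.End K V) - 1)
    rw [h7] at this
    omega
  obtain ⟨w, hw0, hw⟩ := finrank_eq_one_iff'.1 hker
  have haw : ∃ c : K, ((a : (Module.End K V)ˣ) : Module.End K V) w = c • (w : V) := by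
    have h2 : ((a : (Module.End K V)ˣ) : Module.End K V) w ∈ LinearMap.ker ((x : Module.End K V) - 1) := by
      have h3 : (x : Module.End K V) w = w := by
        have := LinearMap.mem_ker.1 w.2
        rw [LinearMap.sub_apply, Module.End.one_apply, sub_eq_zero] at this
        exact this
      rw [LinearMap.mem_ker, LinearMap.sub_apply, Module.End.one_apply, sub_eq_zero]
      have h4 := congrArg Units.val (hA a a.2)
      rw [Units.val_mul, Units.val_mul] at h4
      have h5 := LinearMap.congr_fun h4 (w : V)
      rw [Module.End.mul_apply, Module.End.mul_apply, h3] at h5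
      exact h5.symm
    obtain ⟨c, hc⟩ := hw ⟨_, h2⟩
    exact ⟨c, (congrArg Subtype.val hc).symm⟩
  obtain ⟨c, hc⟩ := haw
  have hw0' : (w : V) ≠ 0 := fun h => hw0 (Subtype.ext h)
  have hpow : ∀ n : ℕ, ((a : (Module.End K V)ˣ) : Module.End K V) ^ n = 1 → c ^ n = 1 := by
    intro n hn
    have key : ∀ n : ℕ, (((a : (Module.End K V)ˣ) : Module.End K V) ^ n) w = c ^ n • (w : V) := by
      intro n
      induction n with
      | zero => simp
      | succ n ih => rw [pow_succ', Module.End.mul_apply, ih, map_smul, hc, smul_smul, pow_succ]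
    have h2 := key n
    rw [hn, Module.End.one_apply] at h2
    have h3 : (c ^ n - 1) • (w : V) = 0 := by rw [sub_smul, one_smul, ← h2, sub_self]
    exact sub_eq_zero.1 ((smul_eq_zero.1 h3).resolve_right hw0')
  have hc1 : c = 1 := by
    have h2 : c ^ Nat.card A = 1 := by
      apply hpow
      have h3 : a ^ Nat.card A = 1 := pow_card_eq_one'
      have h4 : ((a ^ Nat.card A : A) : (Module.End K V)ˣ) = 1 := by rw [h3]; rfl
      rw [Subgroup.coe_pow] at h4
      have h5 := congrArg Units.val h4
      rwa [Units.val_pow_eq_pow_val, Units.val_one] at h5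
    have hc0 : c ≠ 0 := by
      rintro rfl
      rw [zero_pow (Nat.card_pos (α := A)).ne'] at h2
      exact zero_ne_one h2
    have h3 : (Units.mk0 c hc0) ^ Nat.card A = 1 := Units.ext (by rw [Units.val_pow_eq_pow_val, Units.val_mk0, h2]; rfl)
    have h4 : (Units.mk0 c hc0) ^ (Nat.card K - 1) = 1 := by
      rw [← Nat.card_units]
      exact pow_card_eq_one'
    have h5 : orderOf (Units.mk0 c hc0) = 1 :=
      Nat.eq_one_of_dvd_coprimes hcop (orderOf_dvd_of_pow_eq_one h3) (orderOf_dvd_of_pow_eq_one h4)
    have h6 := orderOf_eq_one_iff.1 h5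
    exact congrArg Units.val h6
  subst hc1
  rw [one_smul] at hc
  -- conclusion
  apply Subtype.ext
  apply Units.ext
  have htop : R ⊔ LinearMap.ker ((x : Module.End K V) - 1) = ⊤ := by
    apply Submodule.eq_top_of_finrank_eq
    have h2 := Submodule.finrank_sup_add_finrank_inf_eq R (LinearMap.ker ((x : Module.End K V) - 1))
    have h3 : R ⊓ LinearMap.ker ((x : Module.End K V) - 1) = ⊥ := by
      rw [eq_bot_iff]
      rintro v ⟨hv1, hv2⟩
      have hv3 := LinearMap.mem_ker.1 hv2
      rw [LinearMap.sub_apply, Module.End.one_apply, sub_eq_zero] at hv3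
      exact (Submodule.mem_bot K).2 (range_inf_ker x hx hpK hv1 hv3)
    rw [h3, finrank_bot, add_zero, hR6, hker] at h2
    rw [h2, h7]
  ext v
  have hv : v ∈ R ⊔ LinearMap.ker ((x : Module.End K V) - 1) := by rw [htop]; trivial
  obtain ⟨v₁, hv₁, v₂, hv₂, rfl⟩ := Submodule.mem_sup.1 hv
  obtain ⟨k, hk⟩ := hw ⟨v₂, hv₂⟩
  have hk' : v₂ = k • (w : V) := (congrArg Subtype.val hk).symm
  change ((a : (Module.End K V)ˣ) : Module.End K V) (v₁ + v₂) = v₁ + v₂
  rw [map_add, h1 v₁ hv₁, hk', map_smul, hc]

end lin

end Cfsg.Agent.H6.Ree
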