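import Cfsg.Agent.H6_Ree18
import Cfsg.Agent.H6_Ree9

/-!
The Ree groups: centralisers of elements of prime order dividing `q² - q + 1`.
-/

set_option autoImplicit false
set_option linter.unusedSectionVars false

namespace Cfsg.Agent.H6.Ree

open Cfsg Cfsg.Lie
open scoped Pointwise

theorem conj_into {G : Type*} [Group G] [Finite G] {D : Subgroup G} {l : ℕ} (hl : l.Prime) (hD : ¬ l ∣ D.index) {y : G}
    (hy : orderOf y = l) : ∃ c : G, c⁻¹ * y * c ∈ D := by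
  have hf : Fact l.Prime := ⟨hl⟩
  have hp : IsPGroup l (Subgroup.zpowers y) := by
    rw [IsPGroup.iff_card]
    exact ⟨1, by rw [Nat.card_zpowers, hy, pow_one]⟩
  obtain ⟨⟨g⟩, hg⟩ := hp.nonempty_fixed_point_of_prime_not_dvd_card (G ⧸ D) hD
  have h1 := hg ⟨y, Subgroup.mem_zpowers y⟩
  have h2 : ((y * g : G) : G ⧸ D) = ((g : G) : G ⧸ D) := h1
  refine ⟨g, ?_⟩
  have h3 := QuotientGroup.eq.1 h2.symm
  rw [mul_assoc]; exact h3

section num

/-- the number `q² - q + 1` -/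
def MM (m : ℕ) : ℕ := 3 ^ (2 * m + 1) * (3 ^ (2 * m + 1) - 1) + 1

theorem MM_eq (m : ℕ) : MM m + 3 ^ (2 * m + 1) = (3 ^ (2 * m + 1)) ^ 2 + 1 := by
  have hpos : 0 < 3 ^ (2 * m + 1) := by positivity
  rw [MM]
  obtain ⟨k, hk⟩ : ∃ k, 3 ^ (2 * m + 1) = k + 1 := ⟨3 ^ (2 * m + 1) - 1, by omega⟩
  rw [hk, Nat.add_sub_cancel]; ring

theorem cube_add_one (m : ℕ) : (3 ^ (2 * m + 1)) ^ 3 + 1 = (3 ^ (2 * m + 1) + 1) * MM m := by
  have hpos : 0 < 3 ^ (2 * m + 1) := by positivity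
  rw [MM]
  obtain ⟨k, hk⟩ : ∃ k, 3 ^ (2 * m + 1) = k + 1 := ⟨3 ^ (2 * m + 1) - 1, by omega⟩
  rw [hk, Nat.add_sub_cancel]; ring

variable {m p : ℕ} (hp : p.Prime) (hpM : p ∣ MM m)

include hp hpM

theorem pM_not_q : ¬ p ∣ 3 ^ (2 * m + 1) := by
  intro h
  have h1 : p ∣ 3 ^ (2 * m + 1) * (3 ^ (2 * m + 1) - 1) := h.mul_right _
  have h2 := (Nat.dvd_add_right h1).1 hpM
  exact hp.one_lt.ne' (Nat.dvd_one.1 h2)

theorem pM_not_sub : ¬ p ∣ 3 ^ (2 * m + 1) - 1 := by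
  intro h
  have h1 : p ∣ 3 ^ (2 * m + 1) * (3 ^ (2 * m + 1) - 1) := h.mul_left _
  have h2 := (Nat.dvd_add_right h1).1 hpM
  exact hp.one_lt.ne' (Nat.dvd_one.1 h2)

theorem pM_ne_three : p ≠ 3 := by
  rintro rfl
  exact pM_not_q hp hpM (Dvd.dvd.pow (dvd_refl 3) (by omega))

theorem pM_ne_two : p ≠ 2 := by
  rintro rfl
  have h8 := pow_mod8 m
  apply pM_not_sub hp hpM
  omega

theorem pM_not_add : ¬ p ∣ 3 ^ (2 * m + 1) + 1 := by
  intro h
  -- `M = (q + 1)(q - 2) + 3`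
  have h8 := pow_mod8 m
  have h1 : MM m = (3 ^ (2 * m + 1) + 1) * (3 ^ (2 * m + 1) - 2) + 3 := by
    rw [MM]
    generalize 3 ^ (2 * m + 1) = q at h8
    obtain ⟨k, hk⟩ : ∃ k, q = k + 2 := ⟨q - 2, by omega⟩
    rw [hk, Nat.add_sub_cancel]
    have : k + 2 - 1 = k + 1 := by omega
    rw [this]; ring
  rw [h1] at hpM
  have h2 := (Nat.dvd_add_right (h.mul_right _)).1 hpM
  exact pM_ne_three hp (m := m) (by rw [h1]; exact hpM) ((Nat.prime_dvd_prime_iff_eq hp Nat.prime_three).1 h2)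

/-- `q` has order six modulo `p` -/
theorem pM_order (d : ℕ) (hd : d ≤ 7) (h : (3 ^ (2 * m + 1)) ^ d ≡ 1 [MOD p]) : d = 0 ∨ d = 6 := by
  have hf : Fact p.Prime := ⟨hp⟩
  have h1 : ((3 ^ (2 * m + 1) : ℕ) : ZMod p) ^ 2 = ((3 ^ (2 * m + 1) : ℕ) : ZMod p) - 1 := by
    have h2 : ((MM m + 3 ^ (2 * m + 1) : ℕ) : ZMod p) = (((3 ^ (2 * m + 1)) ^ 2 + 1 : ℕ) : ZMod p) := by rw [MM_eq]
    rw [Nat.cast_add, Nat.cast_add, (ZMod.natCast_eq_zero_iff (MM m) p).2 hpM, zero_add, Nat.cast_pow (3 ^ (2 * m + 1)),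
      Nat.cast_one] at h2
    linear_combination -h2
  have h3 : (((3 ^ (2 * m + 1) : ℕ) : ZMod p)) ^ d = 1 := by
    have := (ZMod.natCast_eq_natCast_iff _ _ _).2 h
    rwa [Nat.cast_pow (3 ^ (2 * m + 1)), Nat.cast_one] at this
  have hq0 : ((3 ^ (2 * m + 1) : ℕ) : ZMod p) ≠ 0 := fun h => pM_not_q hp hpM ((ZMod.natCast_eq_zero_iff _ _).1 h)
  have h3' : (3 : ZMod p) ≠ 0 := by
    intro h
    have : ((3 : ℕ) : ZMod p) = 0 := by exact_mod_cast h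
    exact pM_ne_three hp hpM ((Nat.prime_dvd_prime_iff_eq hp Nat.prime_three).1 ((ZMod.natCast_eq_zero_iff _ _).1 this))
  have h2' : (2 : ZMod p) ≠ 0 := by
    intro h
    have : ((2 : ℕ) : ZMod p) = 0 := by exact_mod_cast h
    exact pM_ne_two hp hpM ((Nat.prime_dvd_prime_iff_eq hp Nat.prime_two).1 ((ZMod.natCast_eq_zero_iff _ _).1 this))
  generalize ((3 ^ (2 * m + 1) : ℕ) : ZMod p) = Q at h1 h3 hq0
  interval_cases d
  · exact Or.inl rfl
  · exfalso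
    rw [pow_one] at h3
    rw [h3] at h1
    apply one_ne_zero (α := ZMod p)
    linear_combination h1
  · exfalso
    -- `Q = 2`, `Q² = 1`: `Q² = Q - 1 = 1`
    have e : Q = 2 := by linear_combination h3 - h1
    rw [e] at h3
    apply h3'
    linear_combination h3
  · exfalso
    apply h2'
    linear_combination (-1 : ZMod p) * h3 + (Q + 1) * h1
  · exfalso
    -- `Q⁴ = -Q`
    have e : Q = -1 := by linear_combination (-1 : ZMod p) * h3 + (Q ^ 2 + Q) * h1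
    rw [e] at h1
    apply h3'
    linear_combination h1
  · exfalso
    -- `Q⁵ = 1 - Q`
    have e : Q = 0 := by linear_combination (-1 : ZMod p) * h3 + (Q ^ 3 + Q ^ 2 - 1) * h1
    exact hq0 e
  · exact Or.inr rfl
  · exfalso
    have e : Q = 1 := by linear_combination h3 - (Q ^ 5 + Q ^ 4 - Q ^ 2 - Q) * h1
    rw [e] at h1
    apply one_ne_zero (α := ZMod p)
    linear_combination h1

end num

end Cfsg.Agent.H6.Ree
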