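import Cfsg.Agent.H6_Ree1

/-!
The Ree groups `²G₂(q)`: the explicit structure on the concrete group.
-/

set_option autoImplicit false
set_option linter.unusedSectionVars false
set_option maxRecDepth 100000

namespace Cfsg.Agent.H6.Ree

open Cfsg Cfsg.Lie Cfsg.Lie.ChevalleyDatum Cfsg.Agent.H6.Chev

section gen

variable {D : ChevalleyDatum} {m : Model D} {F : Type*} [Field F]

/-- rank one data from a pair of orthogonal roots -/
def pairRk {a b : ℕ} (h : Model.Ort F m a b) (ha : a < D.nroots) (hb : b < D.nroots) (φ : F ≃+* F) :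
    SL2.RankOne F (GL D.Idx F) where
  X x := m.X a (φ x) * m.X b x
  Y x := m.X (D.neg a) (φ x) * m.X (D.neg b) x
  X_add x y := by
    rw [map_add, m.X_add, m.X_add]
    exact (merge2 (h.1 _ _).symm).symm
  Y_add x y := by
    rw [map_add, m.X_add, m.X_add]
    exact (merge2 (h.2.2.2 _ _).symm).symm
  n t := m.nn a (φ t) * m.nn b t
  h t := m.hh a (φ t) * m.hh b t
  n_def t := by
    rw [← m.pair_nn h, map_neg, map_inv₀]
  h_def t := by
    rw [← m.pair_hh h, map_neg, map_one]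
  nX t s ht := by
    have h1 := m.nn_X ha (t := φ t) (by simpa using ht) (φ s)
    have h2 := m.nn_X hb (t := t) ht s
    have e1 : φ (-(t ^ 2)⁻¹ * s) = -(φ t ^ 2)⁻¹ * φ s := by
      rw [map_mul, map_neg, map_inv₀, map_pow]
    rw [merge2 (h.comm (m.X_A1 a _) (m.nn_A1 b _)).symm, h1, h2, e1,
      merge2 (h.comm (m.nn_A1 a _) (m.Xn_A1 b _))]
  h_mul s t hs ht := by
    have h1 := (m.rk1 F ha).h_mul (φ s) (φ t) (by simpa using hs) (by simpa using ht)
    have h2 := (m.rk1 F hb).h_mul s t hs ht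
    change m.hh a (φ s) * m.hh a (φ t) = m.hh a (φ s * φ t) at h1
    change m.hh b s * m.hh b t = m.hh b (s * t) at h2
    rw [merge2 (h.comm (m.hh_A1 a _) (m.hh_A1 b _)).symm, h1, h2, map_mul]

/-- restriction of rank one data to a subgroup -/
def restr {G : Type*} [Group G] (R : SL2.RankOne F G) (S : Subgroup G) (hX : ∀ x, R.X x ∈ S) (hY : ∀ x, R.Y x ∈ S) :
    SL2.RankOne F S where
  X x := ⟨R.X x, hX x⟩
  Y x := ⟨R.Y x, hY x⟩
  X_add x y := Subtype.ext (R.X_add x y)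
  Y_add x y := Subtype.ext (R.Y_add x y)
  n t := ⟨R.n t, by rw [R.n_def]; exact mul_mem (mul_mem (hX _) (hY _)) (hX _)⟩
  h t := ⟨R.h t, by
    rw [R.h_def, R.n_def, R.n_def]
    exact mul_mem (mul_mem (mul_mem (hX _) (hY _)) (hX _)) (mul_mem (mul_mem (hX _) (hY _)) (hX _))⟩
  n_def t := Subtype.ext (R.n_def t)
  h_def t := Subtype.ext (R.h_def t)
  nX t s ht := Subtype.ext (R.nX t s ht)
  h_mul s t hs ht := Subtype.ext (R.h_mul s t hs ht)

end gen

section conc

variable {K : Type*} [Field K] [CharP K 3] (φ : K ≃+* K) (hperf : ∀ x : K, ∃ y : K, y ^ 3 = x)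
  (hφ2 : ∀ x : K, φ (φ x) ^ 3 = x) {e : ℕ} (hφ : ∀ x, φ x = x ^ e)

omit [CharP K 3] in
/-- the torus parameters -/
theorem exists_f : ∃ f : Kˣ →* (Fin chevG2.rank → Kˣ), ∀ t, f t = (![Units.map (φ : K →* K) t, t] : Fin 2 → Kˣ) :=
  ⟨{ toFun := fun t => (![Units.map (φ : K →* K) t, t] : Fin 2 → Kˣ)
     map_one' := by
        funext (k : Fin 2)
        fin_cases k
        · exact map_one (Units.map (φ : K →* K))
        · rfl
     map_mul' := fun s t => by
        funext (k : Fin 2)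
        fin_cases k
        · exact map_mul (Units.map (φ : K →* K)) s t
        · rfl }, fun _ => rfl⟩

/-- conjugation of root elements by torus elements -/
theorem conj_X (s : Kˣ) (r : ℕ) (v : List ℤ) (h : (Nat.blt r tabG2.n && allNat tabG2.l fun k => intEq (tabG2.c k r)
      (v.getD k 0)) = true) (y : K) :
      modelG2.hT K (![Units.map (φ : K →* K) s, s] : Fin 2 → Kˣ) * modelG2.X r y *
        (modelG2.hT K (![Units.map (φ : K →* K) s, s] : Fin 2 → Kˣ))⁻¹ =
      modelG2.X r ((φ s) ^ v.getD 0 0 * (s : K) ^ v.getD 1 0 * y) := by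
  have h1 := hT_Xr modelG2 baseG2 v h (![Units.map (φ : K →* K) s, s] : Fin 2 → Kˣ) y
  rw [h1]
  congr 2
  have h2 : ∏ k : Fin 2, (![Units.map (φ : K →* K) s, s] : Fin 2 → Kˣ) k ^ v.getD k 0 =
      (Units.map (φ : K →* K) s) ^ v.getD 0 0 * s ^ v.getD 1 0 := by
    rw [Fin.prod_univ_two]; rfl
  have h3 : ((∏ k : Fin chevG2.rank, ((![Units.map (φ : K →* K) s, s] : Fin 2 → Kˣ) : Fin chevG2.rank → Kˣ) k ^
      v.getD k 0 : Kˣ) : K) =
      (((Units.map (φ : K →* K) s) ^ v.getD 0 0 * s ^ v.getD 1 0 : Kˣ) : K) := congrArg Units.val h2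
  rw [h3, Units.val_mul, Units.val_zpow_eq_zpow_val, Units.val_zpow_eq_zpow_val]
  rfl

include hφ2 in
theorem conj_w (s : Kˣ) (t u v : K) :
    modelG2.hT K (![Units.map (φ : K →* K) s, s] : Fin 2 → Kˣ) * (reeP φ hperf).w t u v *
        (modelG2.hT K (![Units.map (φ : K →* K) s, s] : Fin 2 → Kˣ))⁻¹ =
      (reeP φ hperf).w ((s : K) ^ 2 * (φ s ^ 3)⁻¹ * t) (φ s ^ 3 * (s : K)⁻¹ * u) (s * v) := by
  have hX6 := conj_X φ s 6 [-3, 2] (by decide +kernel)
  have hX7 := conj_X φ s 7 [2, -1] (by decide +kernel)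
  have hX8 := conj_X φ s 8 [-1, 1] (by decide +kernel)
  have hX9 := conj_X φ s 9 [1, 0] (by decide +kernel)
  have hX10 := conj_X φ s 10 [3, -1] (by decide +kernel)
  have hX11 := conj_X φ s 11 [0, 1] (by decide +kernel)
  have hs0 : (s : K) ≠ 0 := s.ne_zero
  have hφs : (φ s : K) ≠ 0 := by simpa using hs0
  set T := modelG2.hT K (![Units.map (φ : K →* K) s, s] : Fin 2 → Kˣ) with hT
  have cj : ∀ a b : GL chevG2.Idx K, T * (a * b) * T⁻¹ = (T * a * T⁻¹) * (T * b * T⁻¹) := by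
    intro a b; group
  unfold ReeSys.w
  change T * (modelG2.X 7 _ * (modelG2.X 6 _ * (modelG2.X 8 _ * (modelG2.X 9 _ * (modelG2.X 10 _ * modelG2.X 11 _))))) *
    T⁻¹ = modelG2.X 7 _ * (modelG2.X 6 _ * (modelG2.X 8 _ * (modelG2.X 9 _ * (modelG2.X 10 _ * modelG2.X 11 _))))
  rw [cj, cj, cj, cj, cj, hX6, hX7, hX8, hX9, hX10, hX11]
  simp only [List.getD_cons_zero, List.getD_cons_succ, zpow_neg, zpow_one, zpow_zero, mul_one, one_mul]
  have z2 : ∀ x : K, x ^ (2 : ℤ) = x ^ 2 := fun x => by norm_cast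
  have z3 : ∀ x : K, x ^ (3 : ℤ) = x ^ 3 := fun x => by norm_cast
  simp only [z2, z3, map_mul, map_pow, map_inv₀, hφ2]
  have e1 : φ s ^ 2 * (s : K)⁻¹ * φ t = φ s ^ 2 * (s : K)⁻¹ * φ t := rfl
  congr 2
  · congr 1; ring
  congr 2
  · field_simp
  congr 2
  · field_simp

section N

omit [CharP K 3] in
theorem nn_mem_N {r : ℕ} (hr : r < chevG2.nroots) : modelG2.nn r (1 : K) ∈ chevG2.monomialSubgroup K :=
  Subgroup.mem_sup_right (Subgroup.subset_closure ⟨r, hr, modelG2.coe_nn r 1⟩)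

theorem orthG2 : Model.Ort K modelG2 8 10 :=
  ort_of modelG2 baseG2 checksG2 (p := 3) (CharP.cast_eq_zero K 3) (by decide +kernel)

theorem w_zero : (reeP φ hperf).w 0 0 0 = 1 := by
  rw [reeP_w0, map_zero, modelG2.X_zero, modelG2.X_zero, modelG2.X_zero, modelG2.X_zero, mul_one, mul_one]

theorem ree_inj {t u v t' u' v' : K} (h : (reeP φ hperf).w t u v = (reeP φ hperf).w t' u' v') :
    t = t' ∧ u = u' ∧ v = v' := by
  obtain ⟨-, hG⟩ := g2_UJ φ hperf 0 (L := [6, 7, 8, 9, 10, 11]) (by decide +kernel)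
  rw [ReeSys.w_eq, ReeSys.w_eq] at h
  obtain ⟨q1, q2, q3, q4, -, -⟩ := hex_inj hG (x := fun r => if r = 6 then t else if r = 7 then φ t else
      if r = 8 then φ u else if r = 9 then φ v else if r = 10 then φ t ^ 3 * t + u else φ t ^ 3 * t ^ 2 + v)
    (y := fun r => if r = 6 then t' else if r = 7 then φ t' else
      if r = 8 then φ u' else if r = 9 then φ v' else if r = 10 then φ t' ^ 3 * t' + u' else φ t' ^ 3 * t' ^ 2 + v') h
  have q1 : t = t' := q1
  have q3 : φ u = φ u' := q3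
  have q4 : φ v = φ v' := q4
  exact ⟨q1, φ.injective q3, φ.injective q4⟩

/-- the element of the Weyl group -/
theorem W1_two {w : Equiv.Perm (Fin chevG2.nroots)} (hw : w ∈ (twG2 φ hperf).W1) :
    w = 1 ∨ w = (twG2 φ hperf).wj 0 := by
  refine (twG2 φ hperf).W1_induction (P := fun w => w = 1 ∨ w = (twG2 φ hperf).wj 0) (Or.inl rfl) ?_ hw
  rintro w - j - (rfl | rfl)
  · right
    rw [one_mul, Subsingleton.elim j 0]
  · left
    rw [Subsingleton.elim j 0, (twG2 φ hperf).wj_sq]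

theorem wj_neg (r : Fin chevG2.nroots) : ((twG2 φ hperf).wj 0 r : ℕ) = chevG2.neg r := by
  have h1 := twdG2.wj_eq modelG2 baseG2 checksG2 0 r
  have h2 : ((twG2 φ hperf).wj 0 r : ℕ) = tabG2.pw (twdG2.Wl 0) r := h1
  rw [h2]
  have hn : chevG2.nroots = 12 := baseG2.nroots
  have h3 : ∀ r < 12, tabG2.pw (twdG2.Wl 0) r = tabG2.ng r := by decide +kernel
  have hr : (r : ℕ) < 12 := by rw [← hn]; exact r.2
  rw [h3 r hr, baseG2.ng_eq hr]

end N

end conc

section main

variable {K : Type*} [Field K] [CharP K 3] [Fintype K] (φ : K ≃+* K) (hperf : ∀ x : K, ∃ y : K, y ^ 3 = x)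
  (hφ2 : ∀ x : K, φ (φ x) ^ 3 = x) {e : ℕ} (hφ : ∀ x, φ x = x ^ e)
  (hodd : (Nat.card K - 1) / 2 % 2 = 1) (hK2 : (Nat.card K - 1) % 2 = 0)
  (P : TwG (twG2 φ hperf)) (hP : P.G1 = twistedG2 K e)

include hφ2 hφ hodd hK2 P hP

theorem exists_RG' : ∃ R : RG K ↥(twistedG2 K e), R.φ = φ ∧
    (∀ x : ↥(twistedG2 K e), (x : GL chevG2.Idx K) ∈ chevG2.posUnipotent K ↔ ∃ t u v, x = R.w t u v) ∧
    (∀ x : ↥(twistedG2 K e), (x : GL chevG2.Idx K) ∈ chevG2.diagonalSubgroup K ↔ ∃ s, x = R.h s) ∧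
    (∀ x : ↥(twistedG2 K e), (x : GL chevG2.Idx K) ∈ chevG2.borelSubgroup K ↔ ∃ t u v s, x = R.w t u v * R.h s) := by
  have hn12 : chevG2.nroots = 12 := baseG2.nroots
  have hr8 : 8 < chevG2.nroots := by omega
  have hr10 : 10 < chevG2.nroots := by omega
  have hn8 : chevG2.neg 8 = 3 := baseG2.ng_eq (by decide)
  have hn10 : chevG2.neg 10 = 1 := baseG2.ng_eq (by decide)
  have ort := orthG2 (K := K)
  have hH0 := g2_H0_le φ hperf hφ2 hφ hodd hK2 P hP
  obtain ⟨f, hf⟩ := exists_f φ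
  have hfG : ∀ s : Kˣ, ((modelG2.hT K).comp f) s ∈ twistedG2 K e := by
    intro s
    rw [← hP]
    apply hH0
    refine ⟨f s, ?_, rfl⟩
    rw [hf]
    exact (g2_Tf φ hperf (b := (![Units.map (φ : K →* K) s, s] : Fin 2 → Kˣ))).2 ⟨(hφ2 _).symm, rfl⟩
  let h : Kˣ →* ↥(twistedG2 K e) := ((modelG2.hT K).comp f).codRestrict (twistedG2 K e) hfG
  have hval : ∀ s, ((h s : ↥(twistedG2 K e)) : GL chevG2.Idx K) =
      modelG2.hT K (![Units.map (φ : K →* K) s, s] : Fin 2 → Kˣ) := fun s => by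
    rw [← hf]; rfl
  let w : K → K → K → ↥(twistedG2 K e) := fun t u v => ⟨(reeP φ hperf).w t u v, reeP_G φ hperf hφ t u v⟩
  -- rank one
  have hX : ∀ x : K, modelG2.X 8 (φ x) * modelG2.X 10 x = (reeP φ hperf).w 0 x 0 := by
    intro x
    rw [reeP_w0, map_zero, modelG2.X_zero, modelG2.X_zero, mul_one, mul_one]
  have hXG : ∀ x : K, modelG2.X 8 (φ x) * modelG2.X 10 x ∈ twistedG2 K e := fun x => by
    rw [hX]; exact reeP_G φ hperf hφ 0 x 0
  have hYG : ∀ x : K, modelG2.X (chevG2.neg 8) (φ x) * modelG2.X (chevG2.neg 10) x ∈ twistedG2 K e := fun x => by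
    have h := reeN_G φ hperf hφ 0 (-x) 0
    unfold ReeSys.w at h
    simp only [map_zero, map_neg, mul_zero, zero_add, reeN, neg_zero, neg_neg, Model.X_zero, one_mul, mul_one] at h
    rw [hn8, hn10]
    exact h
  let R1 := restr (pairRk ort hr8 hr10 φ) (twistedG2 K e) hXG hYG
  obtain ⟨sl, hsl, hsl2⟩ := R1.exists_hom
  have hR1X : ∀ x, R1.X x = w 0 x 0 := fun x => Subtype.ext (hX x)
  have hR1h : ∀ t : Kˣ, R1.h (t : K) = h ((Units.map (φ : K →* K) t) ^ 3 * t) := by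
    intro t
    apply Subtype.ext
    rw [hval]
    change modelG2.hh 8 (φ t) * modelG2.hh 10 (t : K) = _
    have e1 : modelG2.hh 8 (φ t) = modelG2.hT K (fun k => (Units.map (φ : K →* K) t) ^ cor chevG2 8 k) :=
      modelG2.hh_eq_hT (by omega) (Units.map (φ : K →* K) t)
    rw [e1, modelG2.hh_eq_hT (by omega) t, ← map_mul]
    have hc8 : ∀ k : Fin 2, cor chevG2 8 k = (![1, 3] : Fin 2 → ℤ) k := by
      intro k; fin_cases k <;> rfl
    have hc10 : ∀ k : Fin 2, cor chevG2 10 k = (![1, 1] : Fin 2 → ℤ) k := by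
      intro k; fin_cases k <;> rfl
    congr 1
    funext (k : Fin 2)
    change (Units.map (φ : K →* K) t) ^ cor chevG2 8 k * t ^ cor chevG2 10 k =
      (![Units.map (φ : K →* K) ((Units.map (φ : K →* K) t) ^ 3 * t), (Units.map (φ : K →* K) t) ^ 3 * t] : Fin 2 → Kˣ) k
    rw [hc8, hc10]
    fin_cases k
    · apply Units.ext
      change _ = φ ((φ t) ^ 3 * t)
      rw [map_mul, map_pow, hφ2, mul_comm]
      simp [mul_comm]
    · apply Units.ext
      change _ = (φ t) ^ 3 * t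
      simp
  have hslT : ∀ (g : Matrix.SpecialLinearGroup (Fin 2) K) (t : Kˣ),
      (g : Matrix (Fin 2) (Fin 2) K) = !![(t : K), 0; 0, (t : K)⁻¹] → sl g = h ((Units.map (φ : K →* K) t) ^ 3 * t) := by
    intro g t hg
    rw [hsl, hg, R1.f_of_eq rfl, zero_div, R1.X_zero, mul_one, hR1h]
  have hsln : ∀ g : Matrix.SpecialLinearGroup (Fin 2) K,
      (g : Matrix (Fin 2) (Fin 2) K) = !![0, 1; -1, 0] → sl g = R1.n 1 := by
    intro g hg
    rw [hsl, hg, R1.f_of_ne (neg_ne_zero.2 one_ne_zero), zero_div, R1.X_zero, one_mul, mul_one]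
    congr 1
    norm_num
  have hnval : ((R1.n 1 : ↥(twistedG2 K e)) : GL chevG2.Idx K) = modelG2.nn 8 1 * modelG2.nn 10 1 := by
    change modelG2.nn 8 (φ 1) * modelG2.nn 10 1 = _
    rw [map_one]
  have hnN : modelG2.nn 8 (1 : K) * modelG2.nn 10 1 ∈ chevG2.monomialSubgroup K :=
    mul_mem (nn_mem_N hr8) (nn_mem_N hr10)
  have hnG1 : modelG2.nn 8 (1 : K) * modelG2.nn 10 1 ∈ P.G1 := by
    rw [hP, ← hnval]; exact (R1.n 1).2
  have UB : chevG2.posUnipotent K ≤ chevG2.borelSubgroup K := le_sup_left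
  have HB : chevG2.diagonalSubgroup K ≤ chevG2.borelSubgroup K := le_sup_right
  have hN6 : modelG2.N = 6 := by
    have h1 := modelG2.nroots_eq
    omega
  have hwU : ∀ t u v, ((w t u v : ↥(twistedG2 K e)) : GL chevG2.Idx K) ∈ chevG2.posUnipotent K := fun t u v =>
    ((g2_U1 φ hperf hφ hφ2 P ((reeP φ hperf).w t u v)).2 ⟨t, u, v, (word_reeU φ hperf hφ t u v).symm⟩).1
  have hhH : ∀ s, ((h s : ↥(twistedG2 K e)) : GL chevG2.Idx K) ∈ chevG2.diagonalSubgroup K := fun s => by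
    rw [hval]; exact modelG2.hT_mem_H _
  -- `n` acts as `-1`
  have hact : modelG2.Acts (modelG2.nn 8 (1 : K) * modelG2.nn 10 1) ((twG2 φ hperf).wj 0) := by
    obtain ⟨w', hw', hact⟩ := P.N1_acts hnN hnG1
    rcases W1_two φ hperf hw' with rfl | rfl
    · exfalso
      have hH := modelG2.mem_H_of_acts_one hnN hact
      rw [← hnval] at hH
      have e1 := R1.n_def 1
      have e2 : (((R1.X 1)⁻¹ * R1.n 1 * (R1.X 1)⁻¹ : ↥(twistedG2 K e)) : GL chevG2.Idx K) ∈
          chevG2.borelSubgroup K ⊓ chevG2.negUnipotent K := by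
        have hXU : ((R1.X 1 : ↥(twistedG2 K e)) : GL chevG2.Idx K) ∈ chevG2.posUnipotent K := by
          rw [hR1X]
          exact hwU 0 1 0
        refine ⟨?_, ?_⟩
        · change (R1.X 1 : GL chevG2.Idx K)⁻¹ * (R1.n 1 : GL chevG2.Idx K) * (R1.X 1 : GL chevG2.Idx K)⁻¹ ∈ _
          exact mul_mem (mul_mem ((chevG2.borelSubgroup K).inv_mem (UB hXU)) (HB hH))
            ((chevG2.borelSubgroup K).inv_mem (UB hXU))
        · have e3 : (R1.X 1)⁻¹ * R1.n 1 * (R1.X 1)⁻¹ = R1.Y (-1⁻¹) := by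
            rw [e1]; group
          rw [e3]
          change modelG2.X (chevG2.neg 8) (φ (-1⁻¹)) * modelG2.X (chevG2.neg 10) (-1⁻¹) ∈ _
          rw [hn8, hn10]
          exact mul_mem (modelG2.X_mem_neg (by omega) _) (modelG2.X_mem_neg (by omega) _)
      rw [modelG2.B_inf_V, Subgroup.mem_bot] at e2
      have e4 : (R1.X 1)⁻¹ * R1.n 1 * (R1.X 1)⁻¹ = 1 := Subtype.ext e2
      have e5 : R1.Y (-1⁻¹) = 1 := by rw [← e4, e1]; group
      have e6 := R1.nX 1 1 one_ne_zero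
      rw [one_pow, mul_one, inv_one] at e6
      rw [inv_one] at e5
      rw [e5, one_mul] at e6
      have e7 : R1.X 1 = 1 := mul_eq_left.1 e6
      rw [hR1X] at e7
      have e8 : (reeP φ hperf).w 0 1 0 = (reeP φ hperf).w 0 0 0 := by
        rw [w_zero]
        exact congrArg Subtype.val e7
      exact one_ne_zero (ree_inj φ hperf e8).2.1
    · exact hact
  have hwj : ∀ r : Fin chevG2.nroots, ((twG2 φ hperf).wj 0 r : ℕ) = chevG2.neg r := wj_neg φ hperf
  have hwjne : (twG2 φ hperf).wj 0 ≠ 1 := by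
    intro hc
    have h1 := hwj ⟨7, by omega⟩
    rw [hc] at h1
    have h2 : chevG2.neg 7 = 4 := baseG2.ng_eq (by decide)
    change 7 = chevG2.neg 7 at h1
    omega
  have hinj : Function.Injective h := by
    intro s s' hss
    have h1 : modelG2.hT K (![Units.map (φ : K →* K) s, s] : Fin 2 → Kˣ) =
      modelG2.hT K (![Units.map (φ : K →* K) s', s'] : Fin 2 → Kˣ) := by
      rw [← hval, ← hval, hss]
    rw [← hf, ← hf, ← mul_inv_eq_one, ← map_inv, ← map_mul] at h1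
    have h2 := g2_inj h1
    have h3 := congrFun h2 (1 : Fin 2)
    have h4 : (f s * (f s')⁻¹) (1 : Fin 2) = s * s'⁻¹ := by
      rw [hf, hf]; rfl
    exact mul_inv_eq_one.1 (h4.symm.trans h3)
  have hnh : ∀ s, R1.n 1 * h s * (R1.n 1)⁻¹ = (h s)⁻¹ := by
    intro s
    apply Subtype.ext
    change (R1.n 1 : GL chevG2.Idx K) * (h s : GL chevG2.Idx K) * (R1.n 1 : GL chevG2.Idx K)⁻¹ =
      (h s : GL chevG2.Idx K)⁻¹
    rw [hnval, hval]
    obtain ⟨c, hc⟩ := hact
    have hs0 : chevG2.simple 0 = 7 := baseG2.simple_eq (i := 0) (by decide)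
    have hs1 : chevG2.simple 1 = 6 := baseG2.simple_eq (i := 1) (by decide)
    have e0 : ∀ (i : Fin 2) (t : Kˣ), modelG2.hT K (Pi.mulSingle i t) = modelG2.hh (chevG2.simple i) (t : K) :=
      fun i t => modelG2.hT_single i t
    have e1 := e0 0 (Units.map (φ : K →* K) s)
    have e2 := e0 1 s
    have e3 : (![Units.map (φ : K →* K) s, s] : Fin 2 → Kˣ) =
        (Pi.mulSingle (0 : Fin 2) (Units.map (φ : K →* K) s) : Fin 2 → Kˣ) * (Pi.mulSingle (1 : Fin 2) s : Fin 2 → Kˣ) := by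
      funext (k : Fin 2)
      fin_cases k
      · apply Units.ext
        simp [Pi.mulSingle, Function.update]
      · apply Units.ext
        simp [Pi.mulSingle, Function.update]
    have e4 : modelG2.hT K (![Units.map (φ : K →* K) s, s] : Fin 2 → Kˣ) =
        modelG2.hh 7 ((Units.map (φ : K →* K) s : Kˣ) : K) * modelG2.hh 6 (s : K) := by
      rw [e3]
      refine (map_mul _ _ _).trans ?_
      rw [← hs0, ← hs1]
      exact congrArg₂ (· * ·) e1 e2
    have c7 := hc.hh ⟨7, by omega⟩ (Units.map (φ : K →* K) s)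
    have c6 := hc.hh ⟨6, by omega⟩ s
    rw [hwj] at c6 c7
    have hn7 : chevG2.neg 7 = 4 := baseG2.ng_eq (by decide)
    have hn6 : chevG2.neg 6 = 5 := baseG2.ng_eq (by decide)
    have d7 : modelG2.hh (chevG2.neg 7) ((Units.map (φ : K →* K) s : Kˣ) : K) =
        (modelG2.hh 7 ((Units.map (φ : K →* K) s : Kˣ) : K))⁻¹ := by
      rw [hn7, modelG2.hh_eq_hT (by omega), modelG2.hh_eq_hT (by omega), ← map_inv]
      congr 1
      funext (k : Fin 2)
      have q1 : ∀ k : Fin 2, cor chevG2 4 k = (![-1, 0] : Fin 2 → ℤ) k := by intro k; fin_cases k <;> rfl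
      have q2 : ∀ k : Fin 2, cor chevG2 7 k = (![1, 0] : Fin 2 → ℤ) k := by intro k; fin_cases k <;> rfl
      change _ ^ cor chevG2 4 k = (_ ^ cor chevG2 7 k)⁻¹
      rw [q1, q2]
      fin_cases k <;> simp
    have d6 : modelG2.hh (chevG2.neg 6) (s : K) = (modelG2.hh 6 (s : K))⁻¹ := by
      rw [hn6, modelG2.hh_eq_hT (by omega), modelG2.hh_eq_hT (by omega), ← map_inv]
      congr 1
      funext (k : Fin 2)
      have q1 : ∀ k : Fin 2, cor chevG2 5 k = (![0, -1] : Fin 2 → ℤ) k := by intro k; fin_cases k <;> rfl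
      have q2 : ∀ k : Fin 2, cor chevG2 6 k = (![0, 1] : Fin 2 → ℤ) k := by intro k; fin_cases k <;> rfl
      change _ ^ cor chevG2 5 k = (_ ^ cor chevG2 6 k)⁻¹
      rw [q1, q2]
      fin_cases k <;> simp
    have c7' : modelG2.nn 8 (1 : K) * modelG2.nn 10 1 * modelG2.hh 7 ((Units.map (φ : K →* K) s : Kˣ) : K) *
      (modelG2.nn 8 (1 : K) * modelG2.nn 10 1)⁻¹ = (modelG2.hh 7 ((Units.map (φ : K →* K) s : Kˣ) : K))⁻¹ := by
      rw [← d7]; exact c7
    have c6' : modelG2.nn 8 (1 : K) * modelG2.nn 10 1 * modelG2.hh 6 (s : K) *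
      (modelG2.nn 8 (1 : K) * modelG2.nn 10 1)⁻¹ = (modelG2.hh 6 (s : K))⁻¹ := by
      rw [← d6]; exact c6
    have hcomm : modelG2.hh 7 ((Units.map (φ : K →* K) s : Kˣ) : K) * modelG2.hh 6 (s : K) =
        modelG2.hh 6 (s : K) * modelG2.hh 7 ((Units.map (φ : K →* K) s : Kˣ) : K) := by
      rw [modelG2.hh_eq_hT (by omega), modelG2.hh_eq_hT (by omega), ← map_mul, ← map_mul, mul_comm]
    rw [e4]
    set N := modelG2.nn 8 (1 : K) * modelG2.nn 10 1
    calc N * (modelG2.hh 7 ((Units.map (φ : K →* K) s : Kˣ) : K) * modelG2.hh 6 (s : K)) * N⁻¹ =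
        (N * modelG2.hh 7 ((Units.map (φ : K →* K) s : Kˣ) : K) * N⁻¹) * (N * modelG2.hh 6 (s : K) * N⁻¹) := by group
      _ = _ := by rw [c7', c6', ← mul_inv_rev, hcomm]
  have hBN : ∀ x : ↥(twistedG2 K e), (x : GL chevG2.Idx K) ∈ chevG2.borelSubgroup K ↔ ∃ t u v s, x = w t u v * h s := by
    intro x
    constructor
    · intro hx
      have hxP : (x : GL chevG2.Idx K) ∈ P.G1 := by rw [hP]; exact x.2
      obtain ⟨u₁, hu₁, hu₁G, h₁, hh₁, hh₁G, he⟩ := P.mem_B1 hxP hx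
      obtain ⟨t, u, v, hu⟩ := (g2_U1 φ hperf hφ hφ2 P u₁).1 ⟨hu₁, hu₁G⟩
      have hH1 : h₁ ∈ (twG2 φ hperf).H0 := by
        rw [← g2_H φ hperf hφ2 hφ hodd hK2 P hP]; exact ⟨hh₁, hh₁G⟩
      obtain ⟨b, hb, hb'⟩ := hH1
      obtain ⟨b0, b1⟩ := (g2_Tf φ hperf).1 hb
      refine ⟨t, u, v, b (1 : Fin 2), Subtype.ext ?_⟩
      rw [he, hu, word_reeU φ hperf hφ]
      change _ = (reeP φ hperf).w t u v * (h (b (1 : Fin 2)) : GL chevG2.Idx K)
      rw [hval, ← hb']
      congr 2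
      funext (k : Fin 2)
      fin_cases k
      · exact Units.ext b1
      · rfl
    · rintro ⟨t, u, v, s, rfl⟩
      exact mul_mem (UB (hwU t u v)) (HB (hhH s))
  have hHH : ∀ x : ↥(twistedG2 K e), (x : GL chevG2.Idx K) ∈ chevG2.diagonalSubgroup K ↔ ∃ s, x = h s := by
    intro x
    constructor
    · intro hx
      obtain ⟨t, u, v, s, hxe⟩ := (hBN x).1 (HB hx)
      refine ⟨s, ?_⟩
      have h1 : ((w t u v : ↥(twistedG2 K e)) : GL chevG2.Idx K) ∈
          chevG2.posUnipotent K ⊓ chevG2.diagonalSubgroup K := by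
        refine ⟨hwU t u v, ?_⟩
        have h2 : w t u v = x * (h s)⁻¹ := by rw [hxe]; group
        rw [h2]
        exact mul_mem hx ((chevG2.diagonalSubgroup K).inv_mem (hhH s))
      rw [modelG2.U_inf_H, Subgroup.mem_bot] at h1
      have h2 : w t u v = 1 := Subtype.ext h1
      rw [hxe, h2, one_mul]
    · rintro ⟨s, rfl⟩
      exact hhH s
  have hUU : ∀ x : ↥(twistedG2 K e), (x : GL chevG2.Idx K) ∈ chevG2.posUnipotent K ↔ ∃ t u v, x = w t u v := by
    intro x
    constructor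
    · intro hx
      have hxP : (x : GL chevG2.Idx K) ∈ P.G1 := by rw [hP]; exact x.2
      obtain ⟨t, u, v, hu⟩ := (g2_U1 φ hperf hφ hφ2 P x).1 ⟨hx, hxP⟩
      exact ⟨t, u, v, Subtype.ext (hu.trans (word_reeU φ hperf hφ t u v))⟩
    · rintro ⟨t, u, v, rfl⟩
      exact hwU t u v
  have hnB : (((R1.n 1 : ↥(twistedG2 K e)) : GL chevG2.Idx K)) ∉ chevG2.borelSubgroup K := by
    intro hB
    rw [hnval] at hB
    have h1 : modelG2.nn 8 (1 : K) * modelG2.nn 10 1 ∈ chevG2.borelSubgroup K ⊓ chevG2.monomialSubgroup K :=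
      ⟨hB, hnN⟩
    rw [modelG2.B_inf_N] at h1
    exact hwjne (modelG2.acts_unique hact (modelG2.acts_h h1))
  let R : RG K ↥(twistedG2 K e) :=
    { φ := φ
      char3 := by exact_mod_cast CharP.cast_eq_zero K 3
      φ2 := hφ2
      w := w
      h := h
      sl := sl
      wmul := fun t u v t' u' v' => Subtype.ext (reeP_mul φ hperf hφ2 t u v t' u' v')
      winj := fun hw => ree_inj φ hperf (congrArg Subtype.val hw)
      hinj := hinj
      hw := fun s t u v => Subtype.ext (by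
        change (h s : GL chevG2.Idx K) * (reeP φ hperf).w t u v * (h s : GL chevG2.Idx K)⁻¹ = _
        rw [hval]
        exact conj_w φ hperf hφ2 s t u v)
      slU := fun g x hg => by rw [(hsl2 g x).1 hg, hR1X]
      slT := hslT
      n := R1.n 1
      sln := hsln
      nn := by
        have h1 := R1.h_def (-1)
        have h2 := R1.n_neg 1
        rw [h2] at h1
        have h3 := hR1h (-1)
        have h4 : (Units.map (φ : K →* K) (-1)) ^ 3 * (-1 : Kˣ) = 1 := by
          apply Units.ext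
          change (φ (-1)) ^ 3 * (-1) = 1
          rw [map_neg, map_one]
          ring
        rw [h4, map_one, Units.val_neg, Units.val_one, h1, ← mul_inv_rev, inv_eq_one] at h3
        exact h3
      nh := hnh
      wh := by
        intro t u v s hws
        have h1 : ((w t u v : ↥(twistedG2 K e)) : GL chevG2.Idx K) ∈
            chevG2.posUnipotent K ⊓ chevG2.diagonalSubgroup K := by
          refine ⟨hwU t u v, ?_⟩
          rw [hws]; exact hhH s
        rw [modelG2.U_inf_H, Subgroup.mem_bot] at h1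
        have h2 : w t u v = 1 := Subtype.ext h1
        rw [h2, ← map_one h] at hws
        exact (hinj hws).symm
      nB := by
        intro t u v s hc
        apply hnB
        rw [hc]
        exact mul_mem (UB (hwU t u v)) (HB (hhH s))
      cov := by
        intro g
        have hgP : (g : GL chevG2.Idx K) ∈ P.G1 := by rw [hP]; exact g.2
        obtain ⟨u₁, hu₁, hu₁G, n', hn', hn'G, w', hw', hact', u₂, hu₂, hu₂G, he⟩ := P.bruhat hgP
        have hu₂U := modelG2.Uw_le_U w' hu₂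
        rcases W1_two φ hperf hw' with rfl | rfl
        · left
          rw [← hBN]
          have hH := modelG2.mem_H_of_acts_one hn' hact'
          rw [he]
          exact mul_mem (mul_mem (UB hu₁) (HB hH)) (UB hu₂U)
        · right
          have hH := TwG.H_of_acts hnN hn' hact hact'
          have hHP : (modelG2.nn 8 (1 : K) * modelG2.nn 10 1)⁻¹ * n' ∈ P.G1 := mul_mem (P.G1.inv_mem hnG1) hn'G
          obtain ⟨s, hs⟩ := (hHH ⟨(modelG2.nn 8 (1 : K) * modelG2.nn 10 1)⁻¹ * n', hP ▸ hHP⟩).1 hH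
          obtain ⟨t, u, v, ht⟩ := (hUU ⟨u₁, hP ▸ hu₁G⟩).1 hu₁
          obtain ⟨t', u', v', ht'⟩ := (hUU ⟨u₂, hP ▸ hu₂G⟩).1 hu₂U
          refine ⟨t, u, v, s⁻¹, t', u', v', ?_⟩
          rw [← ht, ← ht']
          have e1 : h s⁻¹ * R1.n 1 = R1.n 1 * h s := by
            rw [map_inv, ← hnh s]; group
          rw [mul_assoc (⟨u₁, _⟩ : ↥(twistedG2 K e)), e1, ← hs]
          apply Subtype.ext
          change (g : GL chevG2.Idx K) = u₁ * ((R1.n 1 : GL chevG2.Idx K) *
            ((modelG2.nn 8 (1 : K) * modelG2.nn 10 1)⁻¹ * n')) * u₂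
          rw [he, hnval]
          group
      dis := by
        intro t u v t' u' v' s hc
        have hU1 := hwU t u v
        have h1 : (R1.n 1 : GL chevG2.Idx K) * (w t u v : GL chevG2.Idx K) * (R1.n 1 : GL chevG2.Idx K)⁻¹ ∈
            chevG2.negUnipotent K := by
          rw [modelG2.posUnipotent_eq] at hU1
          rw [modelG2.negUnipotent_eq]
          have h2 := modelG2.map_gen_acts hact (R := fun r => modelG2.N ≤ r) (R' := fun r => r < modelG2.N)
            (fun r hr => by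
              rw [hwj]
              exact (modelG2.ng_lt_iff r).2 hr)
          rw [hnval]
          exact h2 ⟨_, hU1, rfl⟩
        have h2 : (R1.n 1 : GL chevG2.Idx K) * (w t u v : GL chevG2.Idx K) * (R1.n 1 : GL chevG2.Idx K)⁻¹ ∈
            chevG2.borelSubgroup K := by
          have h3 := congrArg Subtype.val hc
          change (R1.n 1 : GL chevG2.Idx K) * (w t u v : GL chevG2.Idx K) * (R1.n 1 : GL chevG2.Idx K)⁻¹ = _ at h3
          rw [h3]
          exact mul_mem (UB (hwU t' u' v')) (HB (hhH s))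
        have h3 : _ ∈ chevG2.borelSubgroup K ⊓ chevG2.negUnipotent K := ⟨h2, h1⟩
        rw [modelG2.B_inf_V, Subgroup.mem_bot] at h3
        have h4 : R1.n 1 * w t u v * (R1.n 1)⁻¹ = 1 := Subtype.ext h3
        have h5 : w t u v = 1 := by
          have : w t u v = (R1.n 1)⁻¹ * (R1.n 1 * w t u v * (R1.n 1)⁻¹) * R1.n 1 := by group
          rw [this, h4]; group
        rw [h5]
        exact Subtype.ext (w_zero φ hperf).symm }
  exact ⟨R, rfl, hUU, hHH, hBN⟩

end main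

theorem pow_mod8 (m : ℕ) : 3 ^ (2 * m + 1) % 8 = 3 := by
  induction m with
  | zero => rfl
  | succ k ih =>
    have : 3 ^ (2 * (k + 1) + 1) = 3 ^ (2 * k + 1) * 9 := by ring
    rw [this, Nat.mul_mod, ih]

/-- the explicit structure on the Ree groups -/
theorem exists_RG {K : Type*} [Field K] [Fintype K] {m : ℕ} (hK : Fintype.card K = 3 ^ (2 * m + 1)) :
    ∃ R : RG K ↥(twistedG2 K (3 ^ m)), (∀ x, R.φ x = x ^ (3 ^ m)) ∧
    (∀ x : ↥(twistedG2 K (3 ^ m)), (x : GL chevG2.Idx K) ∈ chevG2.posUnipotent K ↔ ∃ t u v, x = R.w t u v) ∧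
    (∀ x : ↥(twistedG2 K (3 ^ m)), (x : GL chevG2.Idx K) ∈ chevG2.diagonalSubgroup K ↔ ∃ s, x = R.h s) ∧
    (∀ x : ↥(twistedG2 K (3 ^ m)), (x : GL chevG2.Idx K) ∈ chevG2.borelSubgroup K ↔
      ∃ t u v s, x = R.w t u v * R.h s) := by
  obtain ⟨h3, φ, hperf, hφ, hφ2, P, hP, hc⟩ := exists_pG2 hK
  have hq : Nat.card K = 3 ^ (2 * m + 1) := by rw [Nat.card_eq_fintype_card, hK]
  have ha := pow_mod8 m
  obtain ⟨R, h1, h2⟩ := exists_RG' φ hperf hφ2 hφ (by rw [hq]; omega) (by rw [hq]; omega) P hP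
  exact ⟨R, by rw [h1]; exact hφ, h2⟩

end Cfsg.Agent.H6.Ree
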