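import Cfsg.Agent.H6_Ree7
import Cfsg.Agent.S1073

/-!
The Ree groups: the seven-dimensional representation.
-/

set_option autoImplicit false
set_option linter.unusedSectionVars false
set_option maxRecDepth 100000

namespace Cfsg.Agent.H6.Ree

open Cfsg Cfsg.Lie
open scoped MatrixGroups

/-- the coordinates of the seven-dimensional submodule -/
def e7 : Fin 7 → Fin 2 ⊕ Fin 12 :=
  ![Sum.inl 0, Sum.inr 2, Sum.inr 3, Sum.inr 4, Sum.inr 7, Sum.inr 8, Sum.inr 9]

theorem e7_inj : Function.Injective e7 := by decide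

def shortR : List ℕ := [2, 3, 4, 7, 8, 9]
def longR : List ℕ := [0, 1, 5, 6, 10, 11]

theorem not_e7 : ∀ i : Fin 2 ⊕ Fin 12, (∀ j, e7 j ≠ i) → i = Sum.inl 1 ∨ ∃ u : Fin 12, u.val ∈ longR ∧ i = Sum.inr u := by
  decide

theorem e7_cases : ∀ j : Fin 7, e7 j = Sum.inl 0 ∨ ∃ u : Fin 12, u.val ∈ shortR ∧ e7 j = Sum.inr u := by
  decide

theorem not_both : ∀ u : Fin 12, u.val ∈ longR → u.val ∉ shortR := by decide

theorem chain_check : ∀ r < 12, ∀ s ∈ shortR, ∀ u ∈ longR, ∀ km ∈ chevG2.chainCoeff r s u, (3 : ℤ) ∣ km.2 := by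
  decide +kernel

theorem cartan_check : ∀ r ∈ longR, (3 : ℤ) ∣ (chevG2.cartanSR.getD 0 #[]).getD r 0 := by
  decide +kernel

theorem coroot_check : ∀ s ∈ shortR, ∀ r < 12, s = chevG2.negIdx.getD r 0 → (3 : ℤ) ∣ (chevG2.coroot.getD r #[]).getD 1 0 ∧
    r ∈ shortR := by
  decide +kernel

variable {K : Type*} [Field K]

theorem cast_zero (h3 : (3 : K) = 0) {z : ℤ} (h : (3 : ℤ) ∣ z) : (z : K) = 0 := by
  obtain ⟨c, rfl⟩ := h
  push_cast
  rw [h3, zero_mul]

/-- matrices preserving the submodule -/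
def Z7 (M : Matrix chevG2.Idx chevG2.Idx K) : Prop :=
  ∀ (i : Fin 2 ⊕ Fin 12), (∀ j, e7 j ≠ i) → ∀ j, M i (e7 j) = 0

theorem Z7_one : Z7 (1 : Matrix chevG2.Idx chevG2.Idx K) := by
  intro i hi j
  exact Matrix.one_apply_ne fun h => hi j h.symm

theorem sum7 (f : Fin 2 ⊕ Fin 12 → K) (hf : ∀ i, (∀ j, e7 j ≠ i) → f i = 0) : ∑ i, f i = ∑ j, f (e7 j) := by
  classical
  rw [← Finset.sum_image (s := Finset.univ) (g := e7) (f := f) (fun a _ b _ h => e7_inj h)]
  symm
  apply Finset.sum_subset (Finset.subset_univ _)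
  intro i _ hi
  apply hf
  intro j hj
  exact hi (Finset.mem_image.2 ⟨j, Finset.mem_univ _, hj⟩)

theorem mul7 {M N : Matrix chevG2.Idx chevG2.Idx K} (hN : Z7 N) (i : Fin 2 ⊕ Fin 12) (j : Fin 7) :
    (M * N) i (e7 j) = ∑ k, M i (e7 k) * N (e7 k) (e7 j) := by
  refine Matrix.mul_apply.trans ?_
  exact sum7 (fun k => M i k * N k (e7 j)) (fun k hk => by rw [hN k hk j, mul_zero])

theorem Z7_mul {M N : Matrix chevG2.Idx chevG2.Idx K} (hM : Z7 M) (hN : Z7 N) : Z7 (M * N) := by
  intro i hi j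
  rw [mul7 hN]
  apply Finset.sum_eq_zero
  intro k _
  rw [hM i hi k, zero_mul]

theorem Z7_pow {M : Matrix chevG2.Idx chevG2.Idx K} (hM : Z7 M) (n : ℕ) : Z7 (M ^ n) := by
  induction n with
  | zero => rw [pow_zero]; exact Z7_one
  | succ n ih => rw [pow_succ]; exact Z7_mul ih hM

theorem Z7_x (h3 : (3 : K) = 0) (r : Fin 12) (t : K) : Z7 (chevG2.xMat K r t) := by
  intro i hi j
  have hr : r.val < 12 := r.2
  rcases not_e7 i hi with rfl | ⟨u, hu, rfl⟩
  · rcases e7_cases j with h | ⟨s, hs, h⟩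
    · rw [h]
      change (if (1 : Fin 2) = 0 then (1 : K) else 0) = 0
      rw [if_neg (by decide)]
    · rw [h]
      change (if s = r then (0 : K) else if s.val = chevG2.negIdx.getD r.val 0 then
        (((chevG2.coroot.getD r.val #[]).getD 1 0 : ℤ) : K) * t else 0) = 0
      split_ifs with h1 h2
      · rfl
      · rw [cast_zero h3 (coroot_check _ hs _ hr h2).1, zero_mul]
      · rfl
  · rcases e7_cases j with h | ⟨s, hs, h⟩
    · rw [h]
      change (if u = r then -(((chevG2.cartanSR.getD 0 #[]).getD r.val 0 : ℤ) : K) * t else 0) = 0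
      split_ifs with h1
      · rw [cast_zero h3 (cartan_check _ (h1 ▸ hu)), neg_zero, zero_mul]
      · rfl
    · rw [h]
      have hne : u ≠ s := by
        rintro rfl
        exact not_both u hu hs
      change (if s = r then (if u = r then (1 : K) else 0) else if s.val = chevG2.negIdx.getD r.val 0 then
        (if u = s then (1 : K) else if u = r then -(t ^ 2) else 0) else
        (if u = s then (1 : K) else 0) + ((chevG2.chainCoeff r.val s.val u.val).map fun km => ((km.2 : ℤ) : K) * t ^ km.1).sum) = 0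
      split_ifs with h1 h2 h3' h4
      · exact absurd (h2.trans h1.symm) hne
      · rfl
      · exfalso
        have := (coroot_check _ hs _ hr h3').2
        rw [← h4] at this
        exact not_both u hu this
      · rfl
      · rw [zero_add]
        apply List.sum_eq_zero
        intro x hx
        obtain ⟨km, hkm, rfl⟩ := List.mem_map.1 hx
        rw [cast_zero h3 (chain_check _ hr _ hs _ hu _ hkm), zero_mul]

theorem Z7_group [Finite K] (h3 : (3 : K) = 0) {g : GL chevG2.Idx K} (hg : g ∈ chevG2.group K) :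
    Z7 (g : Matrix chevG2.Idx chevG2.Idx K) := by
  refine Subgroup.closure_induction (p := fun (g : GL chevG2.Idx K) _ => Z7 (g : Matrix chevG2.Idx chevG2.Idx K))
    ?_ ?_ ?_ ?_ hg
  · rintro g ⟨r, t, h⟩
    rw [h]
    exact Z7_x h3 r t
  · exact Z7_one
  · intro x y _ _ hx hy
    exact Z7_mul hx hy
  · intro x _ hx
    have : Finite (GL chevG2.Idx K) := inferInstance
    have h1 : x⁻¹ = x ^ (orderOf x - 1) := by
      rw [inv_eq_iff_mul_eq_one, ← pow_succ']
      have := orderOf_pos x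
      rw [Nat.sub_add_cancel this, pow_orderOf_eq_one]
    rw [h1]
    exact Z7_pow hx _

/-- the representation -/
noncomputable def rho7 [Finite K] (h3 : (3 : K) = 0) (S : Subgroup (GL chevG2.Idx K)) (hS : S ≤ chevG2.group K) :
    S →* GL (Fin 7) K :=
  MonoidHom.toHomUnits
    { toFun := fun g => Matrix.of fun i j => ((g : GL chevG2.Idx K) : Matrix chevG2.Idx chevG2.Idx K) (e7 i) (e7 j)
      map_one' := by
        ext i j
        change (1 : Matrix chevG2.Idx chevG2.Idx K) (e7 i) (e7 j) = _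
        by_cases h : i = j
        · subst h
          rw [Matrix.one_apply_eq]
          exact Matrix.one_apply_eq (α := K) (e7 i : chevG2.Idx)
        · rw [Matrix.one_apply_ne h]
          exact Matrix.one_apply_ne (α := K) (fun h' => h (e7_inj h'))
      map_mul' := fun g g' => by
        ext i j
        rw [Matrix.mul_apply]
        exact mul7 (Z7_group h3 (hS g'.2)) (e7 i) j }

theorem rho7_apply [Finite K] (h3 : (3 : K) = 0) (S : Subgroup (GL chevG2.Idx K)) (hS : S ≤ chevG2.group K) (g : S)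
    (i j : Fin 7) : ((rho7 h3 S hS g : GL (Fin 7) K) : Matrix (Fin 7) (Fin 7) K) i j =
      ((g : GL chevG2.Idx K) : Matrix chevG2.Idx chevG2.Idx K) (e7 i) (e7 j) := rfl

theorem rho7_X (h3 : (3 : K) = 0) [Finite K] {r : ℕ} (hr : r < 12) (t : K) (h : Chev.modelG2.X r t ∈ chevG2.group K)
    (i j : Fin 7) : ((rho7 h3 (chevG2.group K) le_rfl ⟨_, h⟩ : GL (Fin 7) K) : Matrix (Fin 7) (Fin 7) K) i j =
      chevG2.xMat K (⟨r, hr⟩ : Fin 12) t (e7 i) (e7 j) := by
  rw [rho7_apply]
  have h1 : ((Chev.modelG2.X r t : GL chevG2.Idx K) : Matrix chevG2.Idx chevG2.Idx K) = chevG2.xMat K (⟨r, hr⟩ : Fin 12) t := by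
    rw [Chev.Model.coe_X]
    exact dif_pos (show r < chevG2.nroots from hr)
  rw [h1]

/-- the faithful seven-dimensional representation -/
theorem exists_rho {K : Type*} [Field K] [Fintype K] {m : ℕ} (hm : 1 ≤ m) (hK : Fintype.card K = 3 ^ (2 * m + 1)) :
    ∃ ρ : ↥(twistedG2 K (3 ^ m)) →* GL (Fin 7) K, Function.Injective ρ := by
  obtain ⟨hchar, φ, hperf, hφ, hφ2, P, hP, hc⟩ := Chev.exists_pG2 hK
  have h3 : (3 : K) = 0 := by exact_mod_cast CharP.cast_eq_zero K 3
  have hle : twistedG2 K (3 ^ m) ≤ chevG2.group K := by rw [← hP]; exact P.le_G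
  have hsimple := (S1073.result hm hK).1
  let ρ : ↥(twistedG2 K (3 ^ m)) →* GL (Fin 7) K :=
    (rho7 h3 (chevG2.group K) le_rfl).comp (Subgroup.inclusion hle)
  refine ⟨ρ, ?_⟩
  rw [← MonoidHom.ker_eq_bot_iff]
  rcases hsimple.eq_bot_or_eq_top_of_normal ρ.ker inferInstance with h | h
  · exact h
  · exfalso
    have hw := Chev.reeP_G φ hperf hφ 0 0 1
    have hker : (⟨_, hw⟩ : ↥(twistedG2 K (3 ^ m))) ∈ ρ.ker := by rw [h]; trivial
    rw [MonoidHom.mem_ker] at hker
    have e1 : (Chev.reeP φ hperf).w 0 0 1 = Chev.modelG2.X 9 1 * Chev.modelG2.X 11 1 := by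
      rw [Chev.reeP_w0, map_zero, Chev.modelG2.X_zero, Chev.modelG2.X_zero, one_mul, one_mul, map_one]
    have h9 := Chev.modelG2.X_mem_group 9 (1 : K)
    have h11 := Chev.modelG2.X_mem_group 11 (1 : K)
    have h11' := Chev.modelG2.X_mem_group 11 (-1 : K)
    have e2 : rho7 h3 (chevG2.group K) le_rfl ⟨_, h9⟩ * rho7 h3 (chevG2.group K) le_rfl ⟨_, h11⟩ = 1 := by
      rw [← map_mul, ← hker]
      apply congrArg
      exact Subtype.ext e1.symm
    have e3 : rho7 h3 (chevG2.group K) le_rfl ⟨_, h11⟩ * rho7 h3 (chevG2.group K) le_rfl ⟨_, h11'⟩ = 1 := by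
      rw [← map_mul, ← map_one (rho7 h3 (chevG2.group K) le_rfl)]
      apply congrArg
      apply Subtype.ext
      change Chev.modelG2.X 11 1 * Chev.modelG2.X 11 (-1) = 1
      rw [Chev.modelG2.X_neg, mul_inv_cancel]
    have e4 : rho7 h3 (chevG2.group K) le_rfl ⟨_, h9⟩ = rho7 h3 (chevG2.group K) le_rfl ⟨_, h11'⟩ := by
      rw [eq_inv_of_mul_eq_one_left e2, ← eq_inv_of_mul_eq_one_right e3]
    have e5 := congrArg (fun g : GL (Fin 7) K => (g : Matrix (Fin 7) (Fin 7) K) 0 1) e4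
    rw [rho7_X h3 (by norm_num) 1 h9, rho7_X h3 (by norm_num) (-1) h11'] at e5
    have e6 : chevG2.xMat K ((⟨9, by norm_num⟩ : Fin 12)) (1 : K) (e7 0) (e7 1) = ((2 : ℤ) : K) * 1 := rfl
    have e7' : chevG2.xMat K ((⟨11, by norm_num⟩ : Fin 12)) (-1 : K) (e7 0) (e7 1) = 0 := rfl
    rw [e6, e7'] at e5
    have : (1 : K) = 0 := by
      push_cast at e5
      linear_combination h3 - e5
    exact one_ne_zero this

end Cfsg.Agent.H6.Ree
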