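import Cfsg.Agent.H6_Ree19
import Cfsg.Agent.H6_Ree8

/-!
The Ree groups: centralisers of elements of prime order dividing `q² - q + 1`, cyclicity and TI property.
-/

set_option autoImplicit false
set_option linter.unusedSectionVars false

namespace Cfsg.Agent.H6.Ree

open Cfsg Cfsg.Lie
open scoped Pointwise

namespace RG

variable {K : Type*} [Field K] {G : Type*} [Group G] (R : RG K G)

include R

section fin

variable [Fintype K] [Finite G] {m : ℕ} (hK : Fintype.card K = 3 ^ (2 * m + 1))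

include hK

theorem card_G2 : Nat.card G = (3 ^ (2 * m + 1)) ^ 3 * ((3 ^ (2 * m + 1) - 1) * ((3 ^ (2 * m + 1) + 1) * MM m)) := by
  rw [R.card_G' hK, cube_add_one]

theorem index_A2 {l : ℕ} (hl : l.Prime) (hl2 : l ≠ 2) (hlq : l ∣ 3 ^ (2 * m + 1) - 1) :
    ¬ l ∣ (R.A2 (m := m)).index := by
  intro h
  have h1 := Subgroup.card_mul_index (R.A2 (m := m))
  have h8 := pow_mod8 m
  have h2 := two_half hK
  have h3 : (R.A2 (m := m)).index = 2 * ((3 ^ (2 * m + 1)) ^ 3 * ((3 ^ (2 * m + 1) + 1) * MM m)) := by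
    rw [R.card_A2 hK, R.card_G2 hK] at h1
    have hpos : 0 < (3 ^ (2 * m + 1) - 1) / 2 := by omega
    apply Nat.eq_of_mul_eq_mul_left hpos
    rw [h1]
    conv_lhs => rw [← h2]
    ring
  rw [h3] at h
  rcases (Nat.Prime.dvd_mul hl).1 h with h | h
  · exact hl2 ((Nat.prime_dvd_prime_iff_eq hl Nat.prime_two).1 h)
  · rcases (Nat.Prime.dvd_mul hl).1 h with h | h
    · have h4 := hl.dvd_of_dvd_pow h
      have h5 := Nat.dvd_sub h4 hlq
      have e : 3 ^ (2 * m + 1) - (3 ^ (2 * m + 1) - 1) = 1 := by omega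
      rw [e] at h5
      exact hl.one_lt.ne' (Nat.dvd_one.1 h5)
    · rcases (Nat.Prime.dvd_mul hl).1 h with h | h
      · have h5 := Nat.dvd_sub h hlq
        have e : 3 ^ (2 * m + 1) + 1 - (3 ^ (2 * m + 1) - 1) = 2 := by omega
        rw [e] at h5
        exact hl2 ((Nat.prime_dvd_prime_iff_eq hl Nat.prime_two).1 h5)
      · exact pM_not_sub hl h hlq

/-- elements of prime order dividing `q - 1` -/
theorem conj_A2 {l : ℕ} (hl : l.Prime) (hl2 : l ≠ 2) (hlq : l ∣ 3 ^ (2 * m + 1) - 1) {y : G} (hy : orderOf y = l) :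
    ∃ c : G, c⁻¹ * y * c ∈ R.A2 (m := m) := conj_into hl (R.index_A2 hK hl hl2 hlq) hy

theorem index_A4 {l : ℕ} (hl : l.Prime) (hl2 : l ≠ 2) (hlq : l ∣ 3 ^ (2 * m + 1) + 1) :
    ¬ l ∣ (R.A4 hK).index := by
  intro h
  obtain ⟨e, he, heo, he', -⟩ := q_mod m
  have h1 := Subgroup.card_mul_index (R.A4 hK)
  have h8 := pow_mod8 m
  have h3 : (R.A4 hK).index = 4 * ((3 ^ (2 * m + 1)) ^ 3 * ((3 ^ (2 * m + 1) - 1) * MM m)) := by
    rw [R.card_A4 hK, R.card_G2 hK, he'] at h1
    have hpos : 0 < e := by omega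
    apply Nat.eq_of_mul_eq_mul_left hpos
    rw [h1, he]
    ring
  rw [h3] at h
  rcases (Nat.Prime.dvd_mul hl).1 h with h | h
  · have e4 : (4 : ℕ) = 2 ^ 2 := rfl
    rw [e4] at h
    exact hl2 ((Nat.prime_dvd_prime_iff_eq hl Nat.prime_two).1 (hl.dvd_of_dvd_pow h))
  · rcases (Nat.Prime.dvd_mul hl).1 h with h | h
    · have h4 := hl.dvd_of_dvd_pow h
      have h5 := (Nat.dvd_add_right h4).1 hlq
      exact hl.one_lt.ne' (Nat.dvd_one.1 h5)
    · rcases (Nat.Prime.dvd_mul hl).1 h with h | h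
      · have h5 := Nat.dvd_sub hlq h
        have e : 3 ^ (2 * m + 1) + 1 - (3 ^ (2 * m + 1) - 1) = 2 := by omega
        rw [e] at h5
        exact hl2 ((Nat.prime_dvd_prime_iff_eq hl Nat.prime_two).1 h5)
      · exact pM_not_add hl h hlq

/-- elements of prime order dividing `q + 1` -/
theorem conj_A4 {l : ℕ} (hl : l.Prime) (hl2 : l ≠ 2) (hlq : l ∣ 3 ^ (2 * m + 1) + 1) {y : G} (hy : orderOf y = l) :
    ∃ c : G, c⁻¹ * y * c ∈ R.A4 hK := conj_into hl (R.index_A4 hK hl hl2 hlq) hy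

theorem orderOf_dvd_of_mem {D : Subgroup G} {x : G} (hx : x ∈ D) : orderOf x ∣ Nat.card D := by
  have := orderOf_dvd_natCard (⟨x, hx⟩ : D)
  rwa [← Subgroup.orderOf_coe] at this

theorem A4_dvd {x : G} (hx : x ∈ R.W0) : orderOf x ∣ 3 ^ (2 * m + 1) + 1 := by
  rw [← R.card_W0 hK]
  exact R.orderOf_dvd_of_mem hK hx

theorem H_dvd {x : G} (hx : x ∈ R.H) : orderOf x ∣ 3 ^ (2 * m + 1) - 1 := by
  rw [← card_units' hK, ← R.card_H]
  exact R.orderOf_dvd_of_mem hK hx

theorem conj_comm_inv {c x y : G} (h : x * y = y * x) : (c⁻¹ * x * c) * (c⁻¹ * y * c) = (c⁻¹ * y * c) * (c⁻¹ * x * c) := by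
  have := conj_comm (g := c⁻¹) h
  rwa [inv_inv] at this

section M

variable {p : ℕ} (hp : p.Prime) (hpM : p ∣ MM m) {x : G} (hx : orderOf x = p)

include hp hpM hx

/-- prime divisors of the order of the centraliser -/
theorem cenM_prime {l : ℕ} (hl : l.Prime) (h : l ∣ Nat.card (Subgroup.centralizer ({x} : Set G))) :
    ¬ l ∣ (3 ^ (2 * m + 1)) ^ 3 * ((3 ^ (2 * m + 1) - 1) * (3 ^ (2 * m + 1) + 1)) := by
  have hlf : Fact l.Prime := ⟨hl⟩
  obtain ⟨y, hy⟩ := exists_prime_orderOf_dvd_card' l h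
  rw [← Subgroup.orderOf_coe] at hy
  have hyx : x * (y : G) = y * x := (R.mem_cen' hK).1 y.2
  have hy1 : (y : G) ≠ 1 := by
    intro h1
    rw [h1, orderOf_one] at hy
    exact hl.one_lt.ne hy
  have hyl : (y : G) ^ l = 1 := by rw [← hy, pow_orderOf_eq_one]
  have two : l ≠ 2 := by
    rintro rfl
    obtain ⟨c, hc⟩ := R.inv_conj_a hK (z := y) (by rw [← pow_two]; exact hyl) hy1
    have h1 := R.conj_comm_inv hK (c := c) hyx
    rw [hc] at h1
    have h2 := R.orderOf_dvd_of_mem hK ((R.mem_cen' hK).2 h1.symm)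
    rw [R.orderOf_conj hK, hx, R.card_cen_a, R.cardK hK, card_units' hK] at h2
    rcases (Nat.Prime.dvd_mul hp).1 h2 with h3 | h3
    · rcases (Nat.Prime.dvd_mul hp).1 h3 with h3 | h3
      · exact pM_not_q hp hpM h3
      · exact pM_not_sub hp hpM h3
    · exact pM_not_add hp hpM h3
  intro hdvd
  rcases (Nat.Prime.dvd_mul hl).1 hdvd with h3 | h3
  · have hl3 : l = 3 := (Nat.prime_dvd_prime_iff_eq hl Nat.prime_three).1 (hl.dvd_of_dvd_pow (hl.dvd_of_dvd_pow h3))
    subst hl3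
    obtain ⟨c, hc⟩ := R.conj_B_of_comm hK hyl hy1 hyx
    have h2 := R.orderOf_dvd_of_mem hK hc
    rw [R.orderOf_conj hK, hx, R.card_B, R.cardK hK, card_units' hK] at h2
    rcases (Nat.Prime.dvd_mul hp).1 h2 with h3 | h3
    · exact pM_not_q hp hpM (hp.dvd_of_dvd_pow h3)
    · exact pM_not_sub hp hpM h3
  · rcases (Nat.Prime.dvd_mul hl).1 h3 with h3 | h3
    · obtain ⟨c, hc⟩ := R.conj_A2 hK hl two h3 hy
      obtain ⟨s, hs1, hs2, hs⟩ := R.A2_pm hK hc (by
        intro h1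
        apply hy1
        have e : (y : G) = c * (c⁻¹ * y * c) * c⁻¹ := by group
        rw [e, h1]; group)
      have h1 := R.conj_comm_inv hK (c := c) hyx
      rw [hs] at h1
      have h2 := R.H_dvd hK ((R.cen_H hs1 hs2).1 h1.symm)
      rw [R.orderOf_conj hK, hx] at h2
      exact pM_not_sub hp hpM h2
    · obtain ⟨c, hc⟩ := R.conj_A4 hK hl two h3 hy
      have hne : c⁻¹ * y * c ≠ 1 := by
        intro h1
        apply hy1
        have e : (y : G) = c * (c⁻¹ * y * c) * c⁻¹ := by group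
        rw [e, h1]; group
      have h1 := R.conj_comm_inv hK (c := c) hyx
      have h2 := R.A4_dvd hK ((R.cen_A4 hK hc hne).1 h1.symm)
      rw [R.orderOf_conj hK, hx] at h2
      exact pM_not_add hp hpM h2

theorem cenM_coprime : (Nat.card (Subgroup.centralizer ({x} : Set G))).Coprime
    ((3 ^ (2 * m + 1)) ^ 3 * ((3 ^ (2 * m + 1) - 1) * (3 ^ (2 * m + 1) + 1))) :=
  Nat.Coprime.symm (Nat.coprime_of_dvd fun _ hl h1 h2 => R.cenM_prime hK hp hpM hx hl h2 h1)

theorem cenM_card : Nat.card (Subgroup.centralizer ({x} : Set G)) ∣ MM m := by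
  have h1 := Subgroup.card_subgroup_dvd_card (Subgroup.centralizer ({x} : Set G))
  rw [R.card_G2 hK] at h1
  have e : (3 ^ (2 * m + 1)) ^ 3 * ((3 ^ (2 * m + 1) - 1) * ((3 ^ (2 * m + 1) + 1) * MM m)) =
    ((3 ^ (2 * m + 1)) ^ 3 * ((3 ^ (2 * m + 1) - 1) * (3 ^ (2 * m + 1) + 1))) * MM m := by ring
  rw [e] at h1
  exact (R.cenM_coprime hK hp hpM hx).dvd_of_dvd_mul_left h1

/-- the centraliser is cyclic -/
theorem cenM_cyclic (ρ : G →* GL (Fin 7) K) (hρ : Function.Injective ρ) :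
    IsCyclic (Subgroup.centralizer ({x} : Set G)) := by
  have hpf : Fact p.Prime := ⟨hp⟩
  have hch : CharP K 3 := Chev.charP_of_card Nat.prime_three (by omega) hK
  let ψ : G →* (Module.End K (Fin 7 → K))ˣ := (Matrix.GeneralLinearGroup.toLin : GL (Fin 7) K ≃* _).toMonoidHom.comp ρ
  have hψ : Function.Injective ψ := fun a b h => hρ (Matrix.GeneralLinearGroup.toLin.injective h)
  have hxp : x ^ p = 1 := by rw [← hx, pow_orderOf_eq_one]
  have hx1 : x ≠ 1 := by
    rintro rfl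
    rw [orderOf_one] at hx
    exact hp.one_lt.ne hx
  have h1 := cyclic_of (ψ x) (p := p) (by rw [← map_pow, hxp, map_one]) (fun h => hx1 (hψ (h.trans (map_one ψ).symm))) (by
      intro h
      rw [CharP.cast_eq_zero_iff K 3 p] at h
      exact pM_ne_three hp hpM ((Nat.prime_dvd_prime_iff_eq Nat.prime_three hp).1 h).symm) (by
      intro d hd h
      rw [R.cardK hK] at h
      exact pM_order hp hpM d hd h) (by simp) ((Subgroup.centralizer ({x} : Set G)).map ψ) (by
      rintro _ ⟨y, hy, rfl⟩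
      rw [← map_mul, ← map_mul, (R.mem_cen' hK).1 hy]) (by
      rw [Nat.card_congr (Subgroup.equivMapOfInjective _ ψ hψ).symm.toEquiv, R.cardK hK]
      exact (R.cenM_coprime hK hp hpM hx).coprime_dvd_right ⟨(3 ^ (2 * m + 1)) ^ 3 * (3 ^ (2 * m + 1) + 1), by ring⟩)
  exact isCyclic_of_surjective (Subgroup.equivMapOfInjective _ ψ hψ).symm (MulEquiv.surjective _)

end M

variable (ρ : G →* GL (Fin 7) K) (hρ : Function.Injective ρ)

include hρ

/-- the TI property -/
theorem cenM_TI {p : ℕ} (hp : p.Prime) (hpM : p ∣ MM m) {x : G} (hx : orderOf x = p) {y : G}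
    (hy : y ∈ Subgroup.centralizer ({x} : Set G)) (hy1 : y ≠ 1) :
    Subgroup.centralizer ({y} : Set G) = Subgroup.centralizer ({x} : Set G) := by
  have hcyc := R.cenM_cyclic hK hp hpM hx ρ hρ
  have hcomm : ∀ u ∈ Subgroup.centralizer ({x} : Set G), ∀ v ∈ Subgroup.centralizer ({x} : Set G), u * v = v * u := by
    intro u hu v hv
    exact congrArg Subtype.val (hcyc.commGroup.mul_comm ⟨u, hu⟩ ⟨v, hv⟩)
  obtain ⟨l, hl, hly⟩ := Nat.exists_prime_and_dvd (mt orderOf_eq_one_iff.1 hy1)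
  have h1 : orderOf (y ^ (orderOf y / l)) = l := by
    rw [orderOf_pow_of_dvd (Nat.div_pos (Nat.le_of_dvd (orderOf_pos y) hly) hl.pos).ne' (Nat.div_dvd_of_dvd hly),
      Nat.div_div_self hly (orderOf_pos y).ne']
  have hlM : l ∣ MM m := (hly.trans (R.orderOf_dvd_of_mem hK hy)).trans (R.cenM_card hK hp hpM hx)
  have hcyc' := R.cenM_cyclic hK hl hlM h1 ρ hρ
  have hcomm' : ∀ u ∈ Subgroup.centralizer ({y ^ (orderOf y / l)} : Set G),
      ∀ v ∈ Subgroup.centralizer ({y ^ (orderOf y / l)} : Set G), u * v = v * u := by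
    intro u hu v hv
    exact congrArg Subtype.val (hcyc'.commGroup.mul_comm ⟨u, hu⟩ ⟨v, hv⟩)
  have hyx := (R.mem_cen' hK).1 hy
  apply le_antisymm
  · intro z hz
    have hz1 : z ∈ Subgroup.centralizer ({y ^ (orderOf y / l)} : Set G) := by
      rw [R.mem_cen' hK]
      exact (show Commute y z from (R.mem_cen' hK).1 hz).pow_left _
    have hx1 : x ∈ Subgroup.centralizer ({y ^ (orderOf y / l)} : Set G) := by
      rw [R.mem_cen' hK]
      exact (show Commute y x from hyx.symm).pow_left _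
    rw [R.mem_cen' hK]
    exact hcomm' _ hx1 _ hz1
  · intro z hz
    rw [R.mem_cen' hK]
    exact hcomm _ hy _ hz

/-- Sylow subgroups are contained in the centralisers -/
theorem cenM_hall {p : ℕ} (hp : p.Prime) (hpM : p ∣ MM m) {x : G} (hx : orderOf x = p) {l : ℕ} (hl : l.Prime)
    (hlA : l ∣ Nat.card (Subgroup.centralizer ({x} : Set G))) :
    ¬ l ∣ (Subgroup.centralizer ({x} : Set G)).index := by
  have hlf : Fact l.Prime := ⟨hl⟩
  have hlM : l ∣ MM m := hlA.trans (R.cenM_card hK hp hpM hx)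
  -- a Sylow `l`-subgroup `P` meeting the centraliser
  obtain ⟨y, hy⟩ := exists_prime_orderOf_dvd_card' l hlA
  rw [← Subgroup.orderOf_coe] at hy
  have hy1 : (y : G) ≠ 1 := by
    intro h1
    rw [h1, orderOf_one] at hy
    exact hl.one_lt.ne hy
  have hyP : IsPGroup l (Subgroup.zpowers (y : G)) := by
    rw [IsPGroup.iff_card]
    exact ⟨1, by rw [Nat.card_zpowers, hy, pow_one]⟩
  obtain ⟨P, hP⟩ := hyP.exists_le_sylow
  have hyP' : (y : G) ∈ P := hP (Subgroup.mem_zpowers _)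
  -- a central element
  have hnt : Nontrivial P := ⟨⟨⟨y, hyP'⟩, 1, fun h => hy1 (congrArg Subtype.val h)⟩⟩
  have hcen : Nontrivial (Subgroup.center P) := P.isPGroup'.center_nontrivial
  obtain ⟨z, hz⟩ := exists_ne (1 : Subgroup.center P)
  have hz1 : ((z : P) : G) ≠ 1 := fun h => hz (Subtype.ext (Subtype.ext h))
  obtain ⟨l', hl', hlz⟩ := Nat.exists_prime_and_dvd (mt orderOf_eq_one_iff.1 hz1)
  have hll : l' = l := by
    have h1 : orderOf ((z : P) : G) ∣ Nat.card P := R.orderOf_dvd_of_mem hK (z : P).2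
    obtain ⟨k, hk⟩ := IsPGroup.iff_card.1 P.isPGroup'
    change orderOf ((z : P) : G) ∣ Nat.card (P : Subgroup G) at h1
    rw [hk] at h1
    exact (Nat.prime_dvd_prime_iff_eq hl' hl).1 (hl'.dvd_of_dvd_pow (hlz.trans h1))
  subst hll
  set z' := ((z : P) : G) ^ (orderOf ((z : P) : G) / l') with hz'
  have h1 : orderOf z' = l' := by
    rw [hz', orderOf_pow_of_dvd (Nat.div_pos (Nat.le_of_dvd (orderOf_pos _) hlz) hl.pos).ne' (Nat.div_dvd_of_dvd hlz),
      Nat.div_div_self hlz (orderOf_pos _).ne']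
  have hPz : (P : Subgroup G) ≤ Subgroup.centralizer ({z'} : Set G) := by
    intro u hu
    rw [R.mem_cen' hK]
    have h2 := Subgroup.mem_center_iff.1 z.2 ⟨u, hu⟩
    have h3 : u * ((z : P) : G) = ((z : P) : G) * u := congrArg Subtype.val h2
    exact (show Commute ((z : P) : G) u from h3.symm).pow_left _
  have h2 := R.cenM_TI hK ρ hρ hl hlM h1 (hPz hyP') hy1
  have h3 := R.cenM_TI hK ρ hρ hp hpM hx y.2 hy1
  have h4 : (P : Subgroup G) ≤ Subgroup.centralizer ({x} : Set G) := by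
    rw [← h3, h2]; exact hPz
  intro h
  exact P.not_dvd_index (h.trans (Subgroup.index_dvd_of_le h4))

/-- S1156 -/
theorem sylow_cyclic {p : ℕ} [hpf : Fact p.Prime] (hp3 : 3 < p) (P : Sylow p G) : IsCyclic (P : Subgroup G) := by
  have hp := hpf.out
  have key : ∀ D : Subgroup G, IsCyclic D → ¬ p ∣ D.index → IsCyclic (P : Subgroup G) := by
    intro D hD hi
    obtain ⟨⟨g⟩, hg⟩ := P.isPGroup'.nonempty_fixed_point_of_prime_not_dvd_card (G ⧸ D) hi
    have h1 : ∀ x ∈ (P : Subgroup G), g⁻¹ * x * g ∈ D := by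
      intro x hx
      have h2 : ((x * g : G) : G ⧸ D) = ((g : G) : G ⧸ D) := hg ⟨x, hx⟩
      have h3 := QuotientGroup.eq.1 h2.symm
      rw [mul_assoc]; exact h3
    let f : (P : Subgroup G) →* D :=
      { toFun := fun x => ⟨g⁻¹ * x * g, h1 x x.2⟩
        map_one' := Subtype.ext (by
          change g⁻¹ * 1 * g = 1
          group)
        map_mul' := fun x y => Subtype.ext (by
          change g⁻¹ * ((x : G) * y) * g = (g⁻¹ * x * g) * (g⁻¹ * y * g)
          group) }
    refine isCyclic_of_injective f fun x y h => Subtype.ext ?_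
    have h2 : g⁻¹ * (x : G) * g = g⁻¹ * y * g := congrArg Subtype.val h
    exact mul_left_cancel (mul_right_cancel h2)
  by_cases hdvd : p ∣ Nat.card G
  · rw [R.card_G2 hK] at hdvd
    rcases (Nat.Prime.dvd_mul hp).1 hdvd with h | h
    · exfalso
      have := (Nat.prime_dvd_prime_iff_eq hp Nat.prime_three).1 (hp.dvd_of_dvd_pow (hp.dvd_of_dvd_pow h))
      omega
    · rcases (Nat.Prime.dvd_mul hp).1 h with h | h
      · exact key _ R.A2_cyclic (R.index_A2 hK hp (by omega) h)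
      · rcases (Nat.Prime.dvd_mul hp).1 h with h | h
        · exact key _ (R.A4_cyclic hK) (R.index_A4 hK hp (by omega) h)
        · obtain ⟨x, hx⟩ := exists_prime_orderOf_dvd_card' (G := G) p (by
            rw [R.card_G2 hK]
            exact ((h.mul_left _).mul_left _).mul_left _)
          refine key _ (R.cenM_cyclic hK hp h hx ρ hρ) (R.cenM_hall hK ρ hρ hp h hx hp ?_)
          rw [← hx]
          exact R.orderOf_dvd_of_mem hK ((R.mem_cen' hK).2 rfl)
  · have h1 : Nat.card (P : Subgroup G) = 1 := by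
      have h2 : Nat.card (P : Subgroup G) = p ^ (Nat.card G).factorization p := P.card_eq_multiplicity
      rw [h2, Nat.factorization_eq_zero_of_not_dvd hdvd, pow_zero]
    have h3 : Subsingleton (P : Subgroup G) := (Nat.card_eq_one_iff_unique.1 h1).1
    exact isCyclic_of_subsingleton

end fin

end RG

end Cfsg.Agent.H6.Ree
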