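import Mathlib

/-!
Eigenvalues of elements of prime order in `GL₇(q)`.
-/

set_option autoImplicit false
set_option linter.unusedSectionVars false

namespace Cfsg.Agent.H6.Ree

open Polynomial

theorem field_pow_iff {F : Type*} [Field F] {w : F} {p : ℕ} (hp : p ≠ 0) (hw : orderOf w = p) {a b : ℕ} :
    w ^ a = w ^ b ↔ a ≡ b [MOD p] := by
  have hw0 : w ≠ 0 := by
    rintro rfl
    have h := pow_orderOf_eq_one (0 : F)
    rw [hw, zero_pow hp] at h
    exact zero_ne_one h
  have h1 : orderOf (Units.mk0 w hw0) = p := by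
    rw [← hw, ← orderOf_units, Units.val_mk0]
  rw [← h1, ← pow_eq_pow_iff_modEq]
  constructor
  · intro h
    exact Units.ext (by rw [Units.val_pow_eq_pow_val, Units.val_pow_eq_pow_val, Units.val_mk0, h])
  · intro h
    have h2 := congrArg Units.val h
    rwa [Units.val_pow_eq_pow_val, Units.val_pow_eq_pow_val, Units.val_mk0] at h2

section eig

variable {K : Type*} [Field K] [Fintype K] {p : ℕ}

theorem eig_power (hp : p.Prime) (hpK : (p : K) ≠ 0) (hd : ∀ d ≤ 7, Fintype.card K ^ d ≡ 1 [MOD p] → d = 0 ∨ d = 6)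
    (h6 : Fintype.card K ^ 6 ≡ 1 [MOD p])
    (x g : GL (Fin 7) K) (hx : x ^ p = 1) (hx1 : x ≠ 1) {k : ℕ} (hk : g * x * g⁻¹ = x ^ k) (hpk : ¬ p ∣ k) :
    ∃ i < 6, k ≡ Fintype.card K ^ i [MOD p] := by
  classical
  set q := Fintype.card K with hq
  let Om := AlgebraicClosure K
  let φ : GL (Fin 7) K →* GL (Fin 7) Om := Matrix.GeneralLinearGroup.map (algebraMap K Om)
  have hφ : ∀ y : GL (Fin 7) K, ((φ y : GL (Fin 7) Om) : Matrix (Fin 7) (Fin 7) Om) = (y : Matrix (Fin 7) (Fin 7) K).map (algebraMap K Om) :=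
    fun y => rfl
  have hφi : Function.Injective φ := by
    intro y z h
    apply Units.ext
    have h1 := congrArg Units.val h
    rw [hφ, hφ] at h1
    ext i j
    have h2 := congrFun (congrFun h1 i) j
    exact (algebraMap K Om).injective h2
  have hpf : Fact p.Prime := ⟨hp⟩
  have hpOm : (p : Om) ≠ 0 := by
    intro h
    apply hpK
    apply (algebraMap K Om).injective
    rw [map_natCast, map_zero]; exact h
  set N : Matrix (Fin 7) (Fin 7) Om := ((φ x : GL (Fin 7) Om) : Matrix (Fin 7) (Fin 7) Om) with hN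
  have hNp : N ^ p = 1 := by
    have h1 : (φ x) ^ p = 1 := by rw [← map_pow, hx, map_one]
    have h2 := congrArg Units.val h1
    rwa [Units.val_pow_eq_pow_val, Units.val_one] at h2
  have hN1 : N ≠ 1 := by
    intro h
    apply hx1
    apply hφi
    rw [map_one]
    exact Units.ext h
  -- every eigenvalue is a `p`-th root of unity
  have hroot : ∀ z ∈ spectrum Om N, z ^ p = 1 := by
    intro z hz
    have h1 := spectrum.pow_mem_pow N p hz
    rw [hNp] at h1
    have h2 : z ^ p ∈ ({1} : Set Om) := by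
      rw [← spectrum.one_eq (𝕜 := Om) (A := Matrix (Fin 7) (Fin 7) Om)]
      exact h1
    exact h2
  -- there is a non-trivial one
  have hex : ∃ z ∈ spectrum Om N, z ≠ 1 := by
    have h1 : (N - 1) * aeval N (∑ i ∈ Finset.range p, (X : Om[X]) ^ i) = 0 := by
      have h2 : aeval N ((X - 1) * ∑ i ∈ Finset.range p, (X : Om[X]) ^ i) = 0 := by
        rw [mul_comm, geom_sum_mul, map_sub, map_pow, aeval_X, map_one, hNp, sub_self]
      rw [map_mul, map_sub, aeval_X, map_one] at h2
      exact h2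
    have h2 : ¬ IsUnit (aeval N (∑ i ∈ Finset.range p, (X : Om[X]) ^ i)) := by
      intro h
      apply hN1
      have := h.mul_left_eq_zero.1 h1
      exact sub_eq_zero.1 this
    have h3 : (0 : Om) ∈ spectrum Om (aeval N (∑ i ∈ Finset.range p, (X : Om[X]) ^ i)) := by
      rw [spectrum.zero_mem_iff]
      exact h2
    have hne : (spectrum Om N).Nonempty := spectrum.nonempty_of_isAlgClosed_of_finiteDimensional Om N
    rw [spectrum.map_polynomial_aeval_of_nonempty N _ hne] at h3
    obtain ⟨z, hz, hz2⟩ := h3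
    refine ⟨z, hz, ?_⟩
    rintro rfl
    apply hpOm
    have hz3 : eval (1 : Om) (∑ i ∈ Finset.range p, (X : Om[X]) ^ i) = 0 := hz2
    simpa [eval_finsetSum] using hz3
  -- Frobenius
  have hfrob : ∀ z ∈ spectrum Om N, z ^ q ∈ spectrum Om N := by
    intro z hz
    rw [Matrix.mem_spectrum_iff_isRoot_charpoly] at hz ⊢
    have hc : N.charpoly = (x : Matrix (Fin 7) (Fin 7) K).charpoly.map (algebraMap K Om) := by
      rw [hN, hφ, Matrix.charpoly_map]
    rw [hc, IsRoot.def, eval_map_algebraMap] at hz ⊢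
    have h1 : z ^ q = FiniteField.frobeniusAlgHom K Om z := rfl
    rw [h1, aeval_algHom_apply, hz, map_zero]
  have hfrobn : ∀ z ∈ spectrum Om N, ∀ i : ℕ, z ^ q ^ i ∈ spectrum Om N := by
    intro z hz i
    induction i with
    | zero => simpa using hz
    | succ i ih =>
      rw [pow_succ, pow_mul]
      exact hfrob _ ih
  -- conjugation
  have hconj : ∀ z ∈ spectrum Om N, z ^ k ∈ spectrum Om N := by
    intro z hz
    have h1 := spectrum.pow_mem_pow N k hz
    have h2 : N ^ k = ((φ g : GL (Fin 7) Om) : Matrix (Fin 7) (Fin 7) Om) * N *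
        (((φ g)⁻¹ : GL (Fin 7) Om) : Matrix (Fin 7) (Fin 7) Om) := by
      have h3 : (φ x) ^ k = φ g * φ x * (φ g)⁻¹ := by rw [← map_pow, ← hk, map_mul, map_mul, map_inv]
      have h4 := congrArg Units.val h3
      rw [Units.val_pow_eq_pow_val, Units.val_mul, Units.val_mul] at h4
      exact h4
    rw [h2, spectrum.units_conjugate] at h1
    exact h1
  obtain ⟨z, hz, hz1⟩ := hex
  have hord : ∀ z ∈ spectrum Om N, z ≠ 1 → orderOf z = p := fun z hz h => orderOf_eq_prime (hroot z hz) h
  have ho := hord z hz hz1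
  have hzk1 : z ^ k ≠ 1 := by
    intro h
    rw [← orderOf_dvd_iff_pow_eq_one, ho] at h
    exact hpk h
  -- powers of `q`
  have hqinj : ∀ w : Om, orderOf w = p → ∀ i < 6, ∀ j < 6, w ^ q ^ i = w ^ q ^ j → i = j := by
    have key : ∀ w : Om, orderOf w = p → ∀ i j, i ≤ j → j < 6 → w ^ q ^ i = w ^ q ^ j → i = j := by
      intro w hw i j hij hj h
      obtain ⟨d, rfl⟩ := Nat.exists_eq_add_of_le hij
      rw [field_pow_iff hp.ne_zero hw] at h
      have hqp : Nat.Coprime p (q ^ i) := by
        apply Nat.Coprime.pow_right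
        rw [Nat.Prime.coprime_iff_not_dvd hp]
        intro hdvd
        have h7 : q ^ 6 ≡ 0 [MOD p] := (Nat.modEq_zero_iff_dvd).2 (dvd_pow hdvd (by norm_num))
        have h8 := (h7.symm.trans h6)
        have h9 := (Nat.modEq_zero_iff_dvd).1 h8.symm
        exact hp.one_lt.ne' (Nat.dvd_one.1 h9)
      have h2 : 1 ≡ q ^ d [MOD p] := by
        apply Nat.ModEq.cancel_left_of_coprime (c := q ^ i) hqp
        rw [mul_one, ← pow_add]; exact h
      rcases hd d (by omega) h2.symm with h3 | h3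
      · omega
      · omega
    intro w hw i hi j hj h
    rcases le_total i j with h1 | h1
    · exact key w hw i j h1 hj h
    · exact (key w hw j i h1 hi h.symm).symm
  by_contra hcon
  push Not at hcon
  -- `z ^ k` is not in the orbit of `z`
  have hdis : ∀ i < 6, ∀ j < 6, z ^ q ^ i ≠ (z ^ k) ^ q ^ j := by
    intro i hi j hj h
    -- raise to the power `q ^ (6 - j)`
    have h1 : z ^ (q ^ i * q ^ (6 - j)) = z ^ k := by
      have e : z ^ (q ^ i * q ^ (6 - j)) = (z ^ k) ^ (q ^ j * q ^ (6 - j)) := by rw [pow_mul, h, ← pow_mul]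
      rw [e, ← pow_add, show j + (6 - j) = 6 by omega, ← pow_mul]
      rw [field_pow_iff hp.ne_zero ho]
      simpa using (Nat.ModEq.mul_left k h6)
    rw [← pow_add, field_pow_iff hp.ne_zero ho] at h1
    -- reduce the exponent modulo six
    have h2 : q ^ (i + (6 - j)) ≡ q ^ ((i + (6 - j)) % 6) [MOD p] := by
      conv_lhs => rw [← Nat.div_add_mod (i + (6 - j)) 6, pow_add, pow_mul]
      have := (h6.pow ((i + (6 - j)) / 6)).mul_right (q ^ ((i + (6 - j)) % 6))
      simpa using this
    exact hcon _ (Nat.mod_lt _ (by norm_num)) (h1.symm.trans h2)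
  -- count
  have hoz : orderOf (z ^ k) = p := hord _ (hconj z hz) hzk1
  have hcard : (N.charpoly.roots.toFinset).card ≤ 7 := by
    refine (Multiset.toFinset_card_le _).trans ((Polynomial.card_roots' _).trans ?_)
    rw [Matrix.charpoly_natDegree_eq_dim, Fintype.card_fin]
  have hmem : ∀ w ∈ spectrum Om N, w ∈ N.charpoly.roots.toFinset := by
    intro w hw
    rw [Multiset.mem_toFinset, mem_roots (Matrix.charpoly_monic N).ne_zero]
    exact Matrix.mem_spectrum_iff_isRoot_charpoly.1 hw
  let F : Bool × Fin 6 → Om := fun a => if a.1 then z ^ q ^ (a.2 : ℕ) else (z ^ k) ^ q ^ (a.2 : ℕ)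
  have hF : Function.Injective F := by
    rintro ⟨b, i⟩ ⟨b', i'⟩ h
    cases b <;> cases b'
    · have h1 : (z ^ k) ^ q ^ (i : ℕ) = (z ^ k) ^ q ^ (i' : ℕ) := h
      rw [Fin.ext (hqinj _ hoz i i.2 i' i'.2 h1)]
    · exact absurd (show z ^ q ^ (i' : ℕ) = (z ^ k) ^ q ^ (i : ℕ) from Eq.symm h) (hdis i' i'.2 i i.2)
    · exact absurd (show z ^ q ^ (i : ℕ) = (z ^ k) ^ q ^ (i' : ℕ) from h) (hdis i i.2 i' i'.2)
    · have h1 : z ^ q ^ (i : ℕ) = z ^ q ^ (i' : ℕ) := h
      rw [Fin.ext (hqinj _ ho i i.2 i' i'.2 h1)]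
  have h12 : Fintype.card (Bool × Fin 6) ≤ (N.charpoly.roots.toFinset).card := by
    rw [← Fintype.card_coe]
    apply Fintype.card_le_of_injective (fun a => (⟨F a, hmem _ (by
      rcases a with ⟨b, i⟩
      cases b
      · exact hfrobn _ (hconj z hz) i
      · exact hfrobn _ hz i)⟩ : {w // w ∈ N.charpoly.roots.toFinset}))
    intro a a' h
    exact hF (congrArg Subtype.val h)
  simp only [Fintype.card_prod, Fintype.card_bool, Fintype.card_fin] at h12
  omega

end eig

end Cfsg.Agent.H6.Ree
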