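import Cfsg.Agent.H6_Ree20
import Cfsg.Agent.H6_Ree21

/-!
The Ree groups: normalisers of the tori of order dividing `q² - q + 1`.
-/

set_option autoImplicit false
set_option linter.unusedSectionVars false

namespace Cfsg.Agent.H6.Ree

open Cfsg Cfsg.Lie
open scoped Pointwise

namespace RG

variable {K : Type*} [Field K] {G : Type*} [Group G] (R : RG K G)

include R

section fin

variable [Fintype K] [Finite G] {m : ℕ} (hK : Fintype.card K = 3 ^ (2 * m + 1))

include hK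

variable (ρ : G →* GL (Fin 7) K) (hρ : Function.Injective ρ)

include hρ

/-- normalisers of subgroups of the centraliser -/
theorem norm_cenM {p : ℕ} (hp : p.Prime) (hpM : p ∣ MM m) {x : G} (hx : orderOf x = p) {A₀ : Subgroup G}
    (h : A₀ ≤ Subgroup.centralizer ({x} : Set G)) (h0 : A₀ ≠ ⊥) :
    Subgroup.normalizer (A₀ : Set G) = Subgroup.normalizer (Subgroup.centralizer ({x} : Set G) : Set G) := by
  have hcyc := R.cenM_cyclic hK hp hpM hx ρ hρ
  have hcomm : ∀ u ∈ Subgroup.centralizer ({x} : Set G), ∀ v ∈ Subgroup.centralizer ({x} : Set G), u * v = v * u := by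
    intro u hu v hv
    exact congrArg Subtype.val (hcyc.commGroup.mul_comm ⟨u, hu⟩ ⟨v, hv⟩)
  obtain ⟨y, hy, hy1⟩ := (Subgroup.bot_or_exists_ne_one A₀).resolve_left h0
  apply le_antisymm
  · intro g hg
    apply Subgroup.mem_normalizer_fintype
    intro z hz
    have h1 := (Subgroup.mem_normalizer_iff.1 hg y).1 hy
    have h2 : g * y * g⁻¹ ≠ 1 := by
      intro h3
      apply hy1
      have e : y = g⁻¹ * (g * y * g⁻¹) * g := by group
      rw [e, h3]; group
    change g * z * g⁻¹ ∈ Subgroup.centralizer ({x} : Set G)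
    rw [← R.cenM_TI hK ρ hρ hp hpM hx (h h1) h2, R.mem_cen' hK]
    exact conj_comm (hcomm _ (h hy) _ hz)
  · intro g hg
    have hA : ∀ z ∈ Subgroup.centralizer ({x} : Set G), g * z * g⁻¹ ∈ Subgroup.centralizer ({x} : Set G) := fun z hz =>
      (Subgroup.mem_normalizer_iff.1 hg z).1 hz
    obtain ⟨⟨c, hc⟩, hcgen⟩ := hcyc.exists_generator
    obtain ⟨k, hk⟩ := Subgroup.mem_zpowers_iff.1 (hcgen ⟨g * c * g⁻¹, hA c hc⟩)
    have hk' : g * c * g⁻¹ = c ^ k := (congrArg Subtype.val hk).symm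
    apply Subgroup.mem_normalizer_fintype
    intro z hz
    obtain ⟨i, hi⟩ := Subgroup.mem_zpowers_iff.1 (hcgen ⟨z, h hz⟩)
    have hi' : z = c ^ i := (congrArg Subtype.val hi).symm
    have e : g * z * g⁻¹ = z ^ k := by
      rw [hi', ← conj_zpow, hk', ← zpow_mul, ← zpow_mul, mul_comm]
    rw [e]
    exact zpow_mem hz k

/-- the normaliser acts on `x` through powers of `q` -/
theorem norm_power {p : ℕ} (hp : p.Prime) (hpM : p ∣ MM m) {x : G} (hx : orderOf x = p) {g : G}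
    (hg : g ∈ Subgroup.normalizer (Subgroup.centralizer ({x} : Set G) : Set G)) :
    ∃ i < 6, g * x * g⁻¹ = x ^ (3 ^ (2 * m + 1)) ^ i := by
  have hch : CharP K 3 := Chev.charP_of_card Nat.prime_three (by omega) hK
  have hcyc := R.cenM_cyclic hK hp hpM hx ρ hρ
  have hA : ∀ z ∈ Subgroup.centralizer ({x} : Set G), g * z * g⁻¹ ∈ Subgroup.centralizer ({x} : Set G) := fun z hz =>
    (Subgroup.mem_normalizer_iff.1 hg z).1 hz
  obtain ⟨⟨c, hc⟩, hcgen⟩ := hcyc.exists_generator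
  obtain ⟨k, hk⟩ := Subgroup.mem_zpowers_iff.1 (hcgen ⟨g * c * g⁻¹, hA c hc⟩)
  have hk' : g * c * g⁻¹ = c ^ k := (congrArg Subtype.val hk).symm
  obtain ⟨i, hi⟩ := Subgroup.mem_zpowers_iff.1 (hcgen ⟨x, (R.mem_cen' hK).2 rfl⟩)
  have hi' : x = c ^ i := (congrArg Subtype.val hi).symm
  have e : g * x * g⁻¹ = x ^ k := by
    rw [hi', ← conj_zpow, hk', ← zpow_mul, ← zpow_mul, mul_comm]
  have hxp : x ^ p = 1 := by rw [← hx, pow_orderOf_eq_one]
  have hx1 : x ≠ 1 := by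
    rintro rfl
    rw [orderOf_one] at hx
    exact hp.one_lt.ne hx
  have hp0 : (p : ℤ) ≠ 0 := by exact_mod_cast hp.ne_zero
  -- a natural exponent
  have e2 : g * x * g⁻¹ = x ^ (k % (p : ℤ)).toNat := by
    have h0 : 0 ≤ k % (p : ℤ) := Int.emod_nonneg _ hp0
    rw [e, ← zpow_natCast, Int.toNat_of_nonneg h0]
    conv_lhs => rw [← Int.emod_add_mul_ediv k p, zpow_add, zpow_mul, zpow_natCast, hxp, one_zpow, mul_one]
  generalize (k % (p : ℤ)).toNat = l at e2
  have hl : ¬ p ∣ l := by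
    intro h
    rw [← hx, orderOf_dvd_iff_pow_eq_one] at h
    rw [h] at e2
    apply hx1
    have e : x = g⁻¹ * (g * x * g⁻¹) * g := by group
    rw [e, e2]; group
  have hpK : (p : K) ≠ 0 := by
    intro h
    rw [CharP.cast_eq_zero_iff K 3 p] at h
    exact pM_ne_three hp hpM ((Nat.prime_dvd_prime_iff_eq Nat.prime_three hp).1 h).symm
  have h6 : Fintype.card K ^ 6 ≡ 1 [MOD p] := by
    rw [hK]
    have hc := cube_add_one m
    have h1 : (3 ^ (2 * m + 1)) ^ 6 - 1 = ((3 ^ (2 * m + 1)) ^ 3 - 1) * ((3 ^ (2 * m + 1) + 1) * MM m) := by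
      rw [← hc]
      obtain ⟨j, hj⟩ : ∃ j, (3 ^ (2 * m + 1)) ^ 3 = j + 1 := ⟨(3 ^ (2 * m + 1)) ^ 3 - 1, by
        have : 0 < (3 ^ (2 * m + 1)) ^ 3 := by positivity
        omega⟩
      have h2 : (3 ^ (2 * m + 1)) ^ 6 = ((3 ^ (2 * m + 1)) ^ 3) ^ 2 := by ring
      rw [h2, hj, Nat.add_sub_cancel]
      have : (j + 1) ^ 2 = j * (j + 1 + 1) + 1 := by ring
      rw [this, Nat.add_sub_cancel]
    have h2 : p ∣ (3 ^ (2 * m + 1)) ^ 6 - 1 := by
      rw [h1]; exact (hpM.mul_left _).mul_left _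
    have h3 : 1 ≤ (3 ^ (2 * m + 1)) ^ 6 := Nat.one_le_iff_ne_zero.2 (by positivity)
    exact ((Nat.modEq_iff_dvd' h3).2 h2).symm
  obtain ⟨i, hi6, hi⟩ := eig_power hp hpK (by
    intro d hd h
    rw [hK] at h
    exact pM_order hp hpM d hd h) h6 (ρ x) (ρ g) (by rw [← map_pow, hxp, map_one])
    (fun h => hx1 (hρ (h.trans (map_one ρ).symm))) (k := l) (by rw [← map_mul, ← map_inv, ← map_mul, e2, map_pow]) hl
  refine ⟨i, hi6, ?_⟩
  rw [hK] at hi
  rw [e2, pow_eq_pow_iff_modEq, hx]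
  exact hi

/-- the order of the normaliser -/
theorem card_norm_cenM {p : ℕ} (hp : p.Prime) (hpM : p ∣ MM m) {x : G} (hx : orderOf x = p) :
    ∃ n, n ∣ 6 ∧ Nat.card (Subgroup.normalizer (Subgroup.centralizer ({x} : Set G) : Set G)) =
      n * Nat.card (Subgroup.centralizer ({x} : Set G)) := by
  set A := Subgroup.centralizer ({x} : Set G) with hA
  set N := Subgroup.normalizer (A : Set G) with hN
  set q := 3 ^ (2 * m + 1) with hq
  have hAN : A ≤ N := Subgroup.le_normalizer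
  have h6 : ∀ i : ℕ, x ^ q ^ i = x ^ q ^ (i % 6) := by
    have h6 : q ^ 6 ≡ 1 [MOD p] := by
      have hc := cube_add_one m
      have h1 : q ^ 6 - 1 = (q ^ 3 - 1) * ((q + 1) * MM m) := by
        rw [← hc]
        obtain ⟨j, hj⟩ : ∃ j, q ^ 3 = j + 1 := ⟨q ^ 3 - 1, by
          have : 0 < q ^ 3 := by positivity
          omega⟩
        have h2 : q ^ 6 = (q ^ 3) ^ 2 := by ring
        rw [h2, hj, Nat.add_sub_cancel]
        have : (j + 1) ^ 2 = j * (j + 1 + 1) + 1 := by ring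
        rw [this, Nat.add_sub_cancel]
      have h2 : p ∣ q ^ 6 - 1 := by
        rw [h1]; exact (hpM.mul_left _).mul_left _
      have h3 : 1 ≤ q ^ 6 := Nat.one_le_iff_ne_zero.2 (by positivity)
      exact ((Nat.modEq_iff_dvd' h3).2 h2).symm
    intro i
    rw [pow_eq_pow_iff_modEq, hx]
    conv_lhs => rw [← Nat.div_add_mod i 6, pow_add, pow_mul]
    have := (h6.pow (i / 6)).mul_right (q ^ (i % 6))
    simpa using this
  have hconj : ∀ (g : G) (k : ℕ), g * x ^ k * g⁻¹ = (g * x * g⁻¹) ^ k := fun g k => (conj_pow).symm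
  have hadd : ∀ i j : ZMod 6, (∃ g ∈ N, g * x * g⁻¹ = x ^ q ^ i.val) → (∃ g ∈ N, g * x * g⁻¹ = x ^ q ^ j.val) →
      ∃ g ∈ N, g * x * g⁻¹ = x ^ q ^ (i + j).val := by
    rintro i j ⟨g, hg, hgi⟩ ⟨g', hg', hgj⟩
    refine ⟨g * g', mul_mem hg hg', ?_⟩
    have e : g * g' * x * (g * g')⁻¹ = g * (g' * x * g'⁻¹) * g⁻¹ := by group
    rw [e, hgj, hconj, hgi, ← pow_mul, ← pow_add, ZMod.val_add, ← h6]
  let I : AddSubgroup (ZMod 6) :=
    { carrier := {i | ∃ g ∈ N, g * x * g⁻¹ = x ^ q ^ i.val}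
      zero_mem' := ⟨1, one_mem _, by rw [ZMod.val_zero, pow_zero, pow_one]; group⟩
      add_mem' := fun {i j} hi hj => hadd i j hi hj
      neg_mem' := fun {i} hi => by
        have h5 : ∀ i : ZMod 6, -i = i + (i + (i + (i + i))) := by decide
        rw [h5]
        exact hadd _ _ hi (hadd _ _ hi (hadd _ _ hi (hadd _ _ hi hi))) }
  have hI : Nat.card I ∣ 6 := by
    have := AddSubgroup.card_addSubgroup_dvd_card I
    rwa [Nat.card_zmod] at this
  have e1 := card_orb N x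
  have hinf : N ⊓ Subgroup.centralizer {x} = A := inf_eq_right.2 hAN
  rw [hinf] at e1
  refine ⟨Nat.card I, hI, ?_⟩
  rw [e1]
  congr 1
  symm
  apply Nat.card_congr
  refine Equiv.ofBijective (fun i => ⟨x ^ q ^ i.1.val, by
    obtain ⟨g, hg, h⟩ := i.2
    exact ⟨g, hg, h.symm⟩⟩) ⟨?_, ?_⟩
  · rintro ⟨i, hi⟩ ⟨j, hj⟩ h
    have h1 : x ^ q ^ i.val = x ^ q ^ j.val := congrArg Subtype.val h
    rw [pow_eq_pow_iff_modEq, hx] at h1
    have key : ∀ i j : ℕ, i ≤ j → j < 6 → q ^ i ≡ q ^ j [MOD p] → i = j := by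
      intro i j hij hj h
      obtain ⟨d, rfl⟩ := Nat.exists_eq_add_of_le hij
      have hqp : Nat.Coprime p (q ^ i) :=
        Nat.Coprime.pow_right _ ((Nat.Prime.coprime_iff_not_dvd hp).2 (pM_not_q hp hpM))
      have h2 : 1 ≡ q ^ d [MOD p] := by
        apply Nat.ModEq.cancel_left_of_coprime (c := q ^ i) hqp
        rw [mul_one, ← pow_add]; exact h
      rcases pM_order hp hpM d (by omega) h2.symm with h3 | h3
      · omega
      · omega
    have h2 : i.val = j.val := by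
      rcases le_total i.val j.val with h3 | h3
      · exact key _ _ h3 (ZMod.val_lt j) h1
      · exact (key _ _ h3 (ZMod.val_lt i) h1.symm).symm
    exact Subtype.ext (ZMod.val_injective 6 h2)
  · rintro ⟨y, g, hg, rfl⟩
    obtain ⟨i, hi6, hi⟩ := R.norm_power hK ρ hρ hp hpM hx hg
    refine ⟨⟨(i : ZMod 6), g, hg, ?_⟩, ?_⟩
    · rw [ZMod.val_natCast, Nat.mod_eq_of_lt hi6]; exact hi
    · apply Subtype.ext
      change x ^ q ^ (i : ZMod 6).val = _
      rw [ZMod.val_natCast, Nat.mod_eq_of_lt hi6]; exact hi.symm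

end fin

end RG

end Cfsg.Agent.H6.Ree
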