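import Cfsg.Agent.H6_Ree22

/-!
The Ree groups: counting elements.
-/

set_option autoImplicit false
set_option linter.unusedSectionVars false

namespace Cfsg.Agent.H6.Ree

open Cfsg Cfsg.Lie
open scoped Pointwise

/-- the set of conjugates of a set -/
def cj {G : Type*} [Group G] (X : Set G) : Set G := {y | ∃ g : G, ∃ x ∈ X, y = g * x * g⁻¹}

theorem card_cj {G : Type*} [Group G] [Finite G] (N : Subgroup G) (X : Set G)
    (hN : ∀ g ∈ N, ∀ x ∈ X, g * x * g⁻¹ ∈ X) (hTI : ∀ x ∈ X, ∀ g : G, g * x * g⁻¹ ∈ X → g ∈ N) :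
    (cj X).ncard * Nat.card N = Nat.card G * X.ncard := by
  classical
  have hex : ∀ y : cj X, ∃ p : G × X, (y : G) = p.1 * p.2 * p.1⁻¹ := by
    rintro ⟨y, g, x, hx, h⟩
    exact ⟨(g, ⟨x, hx⟩), h⟩
  choose f hf using hex
  change Nat.card (cj X) * Nat.card N = Nat.card G * Nat.card X
  rw [← Nat.card_prod, ← Nat.card_prod]
  apply Nat.card_congr
  refine Equiv.ofBijective (fun a => ((f a.1).1 * a.2, ⟨(a.2 : G)⁻¹ * (f a.1).2 * a.2, ?_⟩)) ⟨?_, ?_⟩
  · have := hN (a.2 : G)⁻¹ (inv_mem a.2.2) _ (f a.1).2.2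
    rwa [inv_inv] at this
  · rintro ⟨y, n⟩ ⟨y', n'⟩ h
    have h1 : (f y).1 * (n : G) = (f y').1 * n' := congrArg Prod.fst h
    have h2 : (n : G)⁻¹ * (f y).2 * n = (n' : G)⁻¹ * (f y').2 * n' := congrArg (fun a : G × X => (a.2 : G)) h
    have h3 : (y : G) = y' := by
      rw [hf y, hf y']
      calc (f y).1 * (f y).2 * (f y).1⁻¹ = ((f y).1 * (n : G)) * ((n : G)⁻¹ * (f y).2 * n) * ((f y).1 * (n : G))⁻¹ := by
            group
        _ = ((f y').1 * (n' : G)) * ((n' : G)⁻¹ * (f y').2 * n') * ((f y').1 * (n' : G))⁻¹ := by rw [h1, h2]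
        _ = _ := by group
    have h4 : y = y' := Subtype.ext h3
    subst h4
    exact Prod.ext rfl (Subtype.ext (mul_left_cancel h1))
  · rintro ⟨g, x, hx⟩
    let y : cj X := ⟨g * x * g⁻¹, g, x, hx, rfl⟩
    have h1 : g * x * g⁻¹ = (f y).1 * (f y).2 * (f y).1⁻¹ := hf y
    have hn : (f y).1⁻¹ * g ∈ N := by
      apply hTI x hx
      have e : (f y).1⁻¹ * g * x * ((f y).1⁻¹ * g)⁻¹ = (f y).1⁻¹ * (g * x * g⁻¹) * (f y).1 := by group
      rw [e, h1]
      have e2 : (f y).1⁻¹ * ((f y).1 * (f y).2 * (f y).1⁻¹) * (f y).1 = (f y).2 := by group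
      rw [e2]
      exact (f y).2.2
    refine ⟨(y, ⟨_, hn⟩), ?_⟩
    apply Prod.ext
    · change (f y).1 * ((f y).1⁻¹ * g) = g
      group
    · apply Subtype.ext
      change ((f y).1⁻¹ * g)⁻¹ * (f y).2 * ((f y).1⁻¹ * g) = x
      calc ((f y).1⁻¹ * g)⁻¹ * (f y).2 * ((f y).1⁻¹ * g) = g⁻¹ * ((f y).1 * (f y).2 * (f y).1⁻¹) * g := by group
        _ = g⁻¹ * (g * x * g⁻¹) * g := by rw [← h1]
        _ = x := by group

theorem cj_of {G : Type*} [Group G] {X : Set G} {c y : G} (h : c⁻¹ * y * c ∈ X) : y ∈ cj X :=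
  ⟨c, _, h, by group⟩

theorem orderOf_cj {G : Type*} [Group G] {g x : G} : orderOf (g * x * g⁻¹) = orderOf x := by
  have := (MulAut.conj g).orderOf_eq x
  rwa [MulAut.conj_apply] at this

namespace RG

variable {K : Type*} [Field K] {G : Type*} [Group G] (R : RG K G)

include R

theorem a_wc (t u v : K) : R.a * R.w t u v = R.w (-t) u (-v) * R.a := by
  have h1 : (-1 : K) ≠ 0 := neg_ne_zero.2 one_ne_zero
  rw [a, R.hwc]
  congr 2
  · simp; norm_num
  · simp; ring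
  · simp

theorem wa_sq (t u v : K) : (R.w t u v * R.a) * (R.w t u v * R.a) = R.w 0 (R.φ t ^ 3 * t - u) (t * (u - R.φ t ^ 3 * t)) := by
  calc (R.w t u v * R.a) * (R.w t u v * R.a) = R.w t u v * (R.a * R.w t u v) * R.a := by group
    _ = R.w t u v * R.w (-t) u (-v) * (R.a * R.a) := by rw [a_wc]; group
    _ = _ := by
      rw [R.aa, mul_one, R.wmul]
      have h3 := R.char3
      congr 1
      · ring
      · rw [map_neg]
        linear_combination u * h3
      · rw [map_neg]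
        linear_combination (R.φ t ^ 3 * t ^ 2) * h3

section fin

variable [Fintype K] [Finite G] {m : ℕ} (hK : Fintype.card K = 3 ^ (2 * m + 1))

include hK

theorem three_not_dvd_units (s : Kˣ) : ¬ 3 ∣ orderOf s := by
  intro h
  have h1 : 3 ∣ Nat.card Kˣ := h.trans (orderOf_dvd_natCard s)
  rw [card_units' hK] at h1
  have h3 : 3 ∣ 3 ^ (2 * m + 1) := Dvd.dvd.pow (dvd_refl 3) (by omega)
  have h2 := Nat.dvd_sub h3 h1
  have hpos : 0 < 3 ^ (2 * m + 1) := by positivity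
  have e : 3 ^ (2 * m + 1) - (3 ^ (2 * m + 1) - 1) = 1 := by omega
  rw [e] at h2
  norm_num at h2

theorem B_three {b : G} (hb : b ∈ R.B) (h : b ^ 3 = 1) : b ∈ R.U := by
  obtain ⟨t, u, v, s, rfl⟩ := hb
  have h2 : ∃ t' u' v', (R.w t u v * R.h s) ^ 3 = R.w t' u' v' * R.h (s ^ 3) := by
    have e : (R.w t u v * R.h s) ^ 3 = R.w t u v * (R.h s * R.w t u v * (R.h s)⁻¹) *
        (R.h (s ^ 2) * R.w t u v * (R.h (s ^ 2))⁻¹) * R.h (s ^ 3) := by
      rw [pow_succ, pow_two, map_pow, map_pow]; group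
    obtain ⟨t', u', v', h'⟩ := R.U.mul_mem (R.U.mul_mem (R.w_mem t u v) (R.hU s (R.w_mem t u v)))
      (R.hU (s ^ 2) (R.w_mem t u v))
    exact ⟨t', u', v', by rw [e, h']⟩
  obtain ⟨t', u', v', h3⟩ := h2
  rw [h] at h3
  have h4 : R.w t' u' v' * R.h (s ^ 3) = R.w 0 0 0 * R.h 1 := by rw [← h3, map_one, mul_one, R.w_zero]
  obtain ⟨-, -, -, h5⟩ := R.wh_uniq h4
  have h6 : orderOf s ∣ 3 := orderOf_dvd_of_pow_eq_one h5
  rcases (Nat.dvd_prime Nat.prime_three).1 h6 with h7 | h7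
  · rw [orderOf_eq_one_iff.1 h7, map_one, mul_one]
    exact R.w_mem _ _ _
  · exact absurd (Dvd.intro_left 1 (by rw [one_mul, h7])) (R.three_not_dvd_units hK s)

/-- the elements of `B` of order divisible by three -/
theorem three_dvd_iff (t u v : K) (s : Kˣ) : 3 ∣ orderOf (R.w t u v * R.h s) ↔
    (s = 1 ∧ ¬ (t = 0 ∧ u = 0 ∧ v = 0)) ∨ (s = -1 ∧ u ≠ R.φ t ^ 3 * t) := by
  have hU : ∀ {x : G}, x ∈ R.U → x ≠ 1 → 3 ∣ orderOf x := by
    intro x hx hx1
    have h1 := R.orderOf_dvd_of_mem hK hx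
    rw [R.card_U, R.cardK hK, ← pow_mul] at h1
    obtain ⟨k, -, hk⟩ := (Nat.dvd_prime_pow Nat.prime_three).1 h1
    rw [hk]
    rcases k with _ | k
    · exfalso
      apply hx1
      rw [pow_zero] at hk
      exact orderOf_eq_one_iff.1 hk
    · exact Dvd.intro_left _ (pow_succ 3 k).symm
  by_cases hs1 : s = 1
  · subst hs1
    have hne : (1 : Kˣ) ≠ -1 := fun h => R.neg_one_ne (by
      have := congrArg Units.val h
      rw [Units.val_neg, Units.val_one] at this
      exact this.symm)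
    rw [map_one, mul_one]
    constructor
    · intro h
      left
      refine ⟨rfl, ?_⟩
      rintro ⟨rfl, rfl, rfl⟩
      rw [R.w_zero, orderOf_one] at h
      norm_num at h
    · rintro (⟨-, h⟩ | ⟨h, -⟩)
      · exact hU (R.w_mem _ _ _) (fun h1 => h (R.w_one_iff.1 h1))
      · exact absurd h hne
  · by_cases hs2 : s = -1
    · subst hs2
      have hsq := R.wa_sq t u v
      have hiff : (R.w t u v * R.a) * (R.w t u v * R.a) = 1 ↔ u = R.φ t ^ 3 * t := by
        rw [hsq, R.w_one_iff]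
        constructor
        · rintro ⟨-, h, -⟩
          exact (sub_eq_zero.1 h).symm
        · rintro rfl
          exact ⟨rfl, sub_self _, by rw [sub_self, mul_zero]⟩
      change 3 ∣ orderOf (R.w t u v * R.a) ↔ _
      constructor
      · intro h
        right
        refine ⟨rfl, fun h1 => ?_⟩
        have h2 := hiff.2 h1
        have h3 : orderOf (R.w t u v * R.a) ∣ 2 := orderOf_dvd_of_pow_eq_one (by rw [pow_two, h2])
        have := h.trans h3
        norm_num at this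
      · rintro (⟨h, -⟩ | ⟨-, h⟩)
        · exact absurd h hs1
        · have h1 : (R.w t u v * R.a) * (R.w t u v * R.a) ≠ 1 := fun h2 => h (hiff.1 h2)
          have h2 : 3 ∣ orderOf ((R.w t u v * R.a) * (R.w t u v * R.a)) := hU (by rw [hsq]; exact R.w_mem _ _ _) h1
          rw [← pow_two] at h2
          exact h2.trans (orderOf_pow_dvd 2)
    · -- conjugate to `h s`
      have hsurj : ∃ x : R.U, (x : G) * (R.h s * (x : G)⁻¹ * (R.h s)⁻¹) = R.w t u v := by
        let f : R.U → R.U := fun x => ⟨(x : G) * (R.h s * (x : G)⁻¹ * (R.h s)⁻¹),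
          R.U.mul_mem x.2 (R.hU s (R.U.inv_mem x.2))⟩
        have hf : Function.Injective f := by
          intro x y h
          have h1 : (x : G) * (R.h s * (x : G)⁻¹ * (R.h s)⁻¹) = (y : G) * (R.h s * (y : G)⁻¹ * (R.h s)⁻¹) :=
            congrArg Subtype.val h
          have h2 : R.h s * ((y : G)⁻¹ * x) = ((y : G)⁻¹ * x) * R.h s := by
            calc R.h s * ((y : G)⁻¹ * x) = (y : G)⁻¹ * ((y : G) * (R.h s * (y : G)⁻¹ * (R.h s)⁻¹)) * R.h s * x := by group
              _ = (y : G)⁻¹ * ((x : G) * (R.h s * (x : G)⁻¹ * (R.h s)⁻¹)) * R.h s * x := by rw [h1]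
              _ = _ := by group
          have h3 := R.hU_fix hs1 hs2 (R.U.mul_mem (R.U.inv_mem y.2) x.2) h2
          exact Subtype.ext (inv_mul_eq_one.1 h3).symm
        obtain ⟨x, hx⟩ := Finite.surjective_of_injective hf ⟨_, R.w_mem t u v⟩
        exact ⟨x, congrArg Subtype.val hx⟩
      obtain ⟨x, hx⟩ := hsurj
      have e : R.w t u v * R.h s = x * R.h s * (x : G)⁻¹ := by rw [← hx]; group
      rw [e, orderOf_cj, orderOf_injective R.h R.hinj]
      constructor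
      · intro h
        exact absurd h (R.three_not_dvd_units hK s)
      · rintro (⟨h, -⟩ | ⟨h, -⟩)
        · exact absurd h hs1
        · exact absurd h hs2

/-- number of elements of `B` of order divisible by three -/
theorem card_X3 : ({b : G | b ∈ R.B ∧ 3 ∣ orderOf b}).ncard =
    ((3 ^ (2 * m + 1)) ^ 3 - 1) + ((3 ^ (2 * m + 1)) ^ 3 - (3 ^ (2 * m + 1)) ^ 2) := by
  classical
  have hne : (1 : Kˣ) ≠ -1 := fun h => R.neg_one_ne (by
    have := congrArg Units.val h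
    rw [Units.val_neg, Units.val_one] at this
    exact this.symm)
  have e : {p : K × K × K // p ≠ 0} ⊕ {p : K × K × K // ¬ p.2.1 = R.φ p.1 ^ 3 * p.1} ≃
      ({b : G | b ∈ R.B ∧ 3 ∣ orderOf b} : Set G) := by
    refine Equiv.ofBijective (Sum.elim
      (fun p => ⟨R.w p.1.1 p.1.2.1 p.1.2.2 * R.h 1, ⟨_, _, _, _, rfl⟩, (R.three_dvd_iff hK _ _ _ _).2
        (Or.inl ⟨rfl, fun h => p.2 (Prod.ext h.1 (Prod.ext h.2.1 h.2.2))⟩)⟩)
      (fun p => ⟨R.w p.1.1 p.1.2.1 p.1.2.2 * R.h (-1), ⟨_, _, _, _, rfl⟩, (R.three_dvd_iff hK _ _ _ _).2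
        (Or.inr ⟨rfl, p.2⟩)⟩)) ⟨?_, ?_⟩
    · rintro (⟨p, hp⟩ | ⟨p, hp⟩) (⟨p', hp'⟩ | ⟨p', hp'⟩) h
      · obtain ⟨h1, h2, h3, -⟩ := R.wh_uniq (congrArg Subtype.val h)
        exact congrArg Sum.inl (Subtype.ext (Prod.ext h1 (Prod.ext h2 h3)))
      · obtain ⟨-, -, -, h4⟩ := R.wh_uniq (congrArg Subtype.val h)
        exact absurd h4 hne
      · obtain ⟨-, -, -, h4⟩ := R.wh_uniq (congrArg Subtype.val h)
        exact absurd h4.symm hne
      · obtain ⟨h1, h2, h3, -⟩ := R.wh_uniq (congrArg Subtype.val h)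
        exact congrArg Sum.inr (Subtype.ext (Prod.ext h1 (Prod.ext h2 h3)))
    · rintro ⟨b, ⟨t, u, v, s, rfl⟩, h⟩
      rcases (R.three_dvd_iff hK _ _ _ _).1 h with ⟨rfl, h1⟩ | ⟨rfl, h1⟩
      · exact ⟨Sum.inl ⟨(t, u, v), fun h2 => h1 ⟨congrArg Prod.fst h2, congrArg (fun p : K × K × K => p.2.1) h2,
          congrArg (fun p : K × K × K => p.2.2) h2⟩⟩, rfl⟩
      · exact ⟨Sum.inr ⟨(t, u, v), h1⟩, rfl⟩
  change Nat.card ({b : G | b ∈ R.B ∧ 3 ∣ orderOf b} : Set G) = _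
  rw [← Nat.card_congr e, Nat.card_sum]
  congr 1
  · rw [Nat.card_eq_fintype_card, Fintype.card_subtype_compl, Fintype.card_subtype_eq, Fintype.card_prod,
      Fintype.card_prod, hK]
    congr 1
    ring
  · rw [Nat.card_eq_fintype_card, Fintype.card_subtype_compl, Fintype.card_prod, Fintype.card_prod, hK]
    have e2 : {p : K × K × K // p.2.1 = R.φ p.1 ^ 3 * p.1} ≃ K × K :=
      { toFun := fun p => (p.1.1, p.1.2.2)
        invFun := fun p => ⟨(p.1, R.φ p.1 ^ 3 * p.1, p.2), rfl⟩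
        left_inv := fun ⟨⟨a, b, c⟩, h⟩ => Subtype.ext (Prod.ext rfl (Prod.ext h.symm rfl))
        right_inv := fun p => rfl }
    rw [Fintype.card_congr e2, Fintype.card_prod, hK]
    congr 1
    · ring
    · ring

end fin

end RG

end Cfsg.Agent.H6.Ree
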