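import Cfsg.Agent.H6_Ree23

/-!
The Ree groups: the classes of elements.
-/

set_option autoImplicit false
set_option linter.unusedSectionVars false

namespace Cfsg.Agent.H6.Ree

open Cfsg Cfsg.Lie
open scoped Pointwise

namespace RG

variable {K : Type*} [Field K] {G : Type*} [Group G] (R : RG K G)

include R

/-- the classes -/
def S2 : Set G := cj {R.a}
def S3 : Set G := cj {b : G | b ∈ R.B ∧ 3 ∣ orderOf b}
def XH : Set G := {x | ∃ s : Kˣ, s ≠ 1 ∧ s ≠ -1 ∧ x = R.h s}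
def SH : Set G := cj R.XH
def XW : Set G := {x | x ∈ R.W0 ∧ x ∉ R.V}
def SW : Set G := cj R.XW
omit R in
def SA (x : G) : Set G := cj {y : G | y ∈ Subgroup.centralizer ({x} : Set G) ∧ y ≠ 1}

section fin

variable [Fintype K] [Finite G] {m : ℕ} (hK : Fintype.card K = 3 ^ (2 * m + 1))

include hK

theorem not_dvd_two {l n : ℕ} (hl : l.Prime) (hl2 : l ≠ 2) (h : l ∣ n) : ¬ n ∣ 2 := fun h2 =>
  hl2 ((Nat.prime_dvd_prime_iff_eq hl Nat.prime_two).1 (h.trans h2))

theorem mem_S2 {y : G} : y ∈ R.S2 ↔ orderOf y = 2 := by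
  have h2f : Fact (Nat.Prime 2) := ⟨Nat.prime_two⟩
  constructor
  · rintro ⟨g, x, hx, rfl⟩
    have hx' : x = R.a := hx
    rw [orderOf_cj, hx', orderOf_eq_prime_iff, pow_two]
    exact ⟨R.aa, R.a_ne⟩
  · intro h
    rw [orderOf_eq_prime_iff, pow_two] at h
    obtain ⟨g, hg⟩ := R.inv_conj_a hK h.1 h.2
    exact cj_of (c := g) hg

theorem mem_S3 {y : G} : y ∈ R.S3 ↔ 3 ∣ orderOf y := by
  constructor
  · rintro ⟨g, x, hx, rfl⟩
    rw [orderOf_cj]
    exact hx.2
  · intro h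
    have h1 : (y ^ (orderOf y / 3)) ^ 3 = 1 := by
      rw [← pow_mul, Nat.div_mul_cancel h, pow_orderOf_eq_one]
    have h2 : y ^ (orderOf y / 3) ≠ 1 := by
      intro h3
      have h4 := orderOf_dvd_of_pow_eq_one h3
      have hpos := orderOf_pos y
      have h5 := Nat.le_of_dvd (Nat.div_pos (Nat.le_of_dvd hpos h) (by norm_num)) h4
      omega
    obtain ⟨c, hc⟩ := R.conj_B_of_comm hK h1 h2 (x := y) ((Commute.refl y).pow_right _)
    exact cj_of (c := c) ⟨hc, by rw [R.orderOf_conj hK]; exact h⟩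

theorem XW_sq {x : G} (hx : x ∈ R.XW) : x * x ∈ R.A4 hK ∧ x * x ≠ 1 := by
  obtain ⟨h1, h2⟩ := R.W0_sq hK hx.1
  exact ⟨⟨R.T1_le h1, h2⟩, fun h => hx.2 (R.W0_inv hK hx.1 h)⟩

theorem cen_XW {x : G} (hx : x ∈ R.XW) {y : G} : x * y = y * x ↔ y ∈ R.W0 := by
  constructor
  · intro h
    obtain ⟨h1, h2⟩ := R.XW_sq hK hx
    rw [← R.cen_A4 hK h1 h2]
    rw [mul_assoc, h, ← mul_assoc, h, mul_assoc]
  · exact fun h => R.W0_comm hK hx.1 h

theorem SH_order {y : G} (hy : y ∈ R.SH) : orderOf y ∣ 3 ^ (2 * m + 1) - 1 ∧ ¬ orderOf y ∣ 2 := by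
  obtain ⟨g, x, ⟨s, hs1, hs2, rfl⟩, rfl⟩ := hy
  rw [orderOf_cj]
  refine ⟨R.H_dvd hK (R.h_mem s), fun h => ?_⟩
  rw [orderOf_injective R.h R.hinj, orderOf_dvd_iff_pow_eq_one] at h
  have h5 := congrArg Units.val h
  rw [Units.val_pow_eq_pow_val, Units.val_one] at h5
  rcases sq_eq_one_iff.1 h5 with h6 | h6
  · exact hs1 (Units.ext h6)
  · exact hs2 (Units.ext (by rw [h6]; simp))

theorem SW_order {y : G} (hy : y ∈ R.SW) : orderOf y ∣ (3 ^ (2 * m + 1) + 1) / 2 ∧ ¬ orderOf y ∣ 2 := by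
  obtain ⟨g, x, hx, rfl⟩ := hy
  rw [orderOf_cj]
  obtain ⟨e, he, heo, he', -⟩ := q_mod m
  constructor
  · have h1 := (R.W0_sq hK hx.1).2
    rw [he'] at h1
    have e2 : (3 ^ (2 * m + 1) + 1) / 2 = 2 * e := by omega
    rw [e2]
    apply orderOf_dvd_of_pow_eq_one
    rw [pow_mul, pow_two, h1]
  · intro h
    rw [orderOf_dvd_iff_pow_eq_one, pow_two] at h
    exact (R.XW_sq hK hx).2 h

/-- the exhaustion -/
theorem cases_all (y : G) : y = 1 ∨ y ∈ R.S2 ∨ y ∈ R.S3 ∨ y ∈ R.SH ∨ y ∈ R.SW ∨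
    ∃ l : ℕ, l.Prime ∧ l ∣ MM m ∧ l ∣ orderOf y := by
  have h2f : Fact (Nat.Prime 2) := ⟨Nat.prime_two⟩
  by_cases hy1 : y = 1
  · exact Or.inl hy1
  by_cases h3 : 3 ∣ orderOf y
  · exact Or.inr (Or.inr (Or.inl ((R.mem_S3 hK).2 h3)))
  by_cases hodd : ∃ l : ℕ, l.Prime ∧ l ≠ 2 ∧ l ∣ orderOf y
  · obtain ⟨l, hl, hl2, hly⟩ := hodd
    have h1 : orderOf (y ^ (orderOf y / l)) = l := by
      rw [orderOf_pow_of_dvd (Nat.div_pos (Nat.le_of_dvd (orderOf_pos y) hly) hl.pos).ne' (Nat.div_dvd_of_dvd hly),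
        Nat.div_div_self hly (orderOf_pos y).ne']
    have hdvd : l ∣ Nat.card G := hly.trans (orderOf_dvd_natCard y)
    have hcomm : (y ^ (orderOf y / l)) * y = y * y ^ (orderOf y / l) := ((Commute.refl y).pow_left _)
    have hne : y ^ (orderOf y / l) ≠ 1 := by
      intro h
      rw [h, orderOf_one] at h1
      exact hl.one_lt.ne h1
    have hnot2 : ∀ c : G, ¬ orderOf (c⁻¹ * y * c) ∣ 2 := by
      intro c h
      rw [R.orderOf_conj hK] at h
      exact R.not_dvd_two hK hl hl2 hly h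
    rw [R.card_G2 hK] at hdvd
    rcases (Nat.Prime.dvd_mul hl).1 hdvd with h | h
    · exfalso
      have hl3 := (Nat.prime_dvd_prime_iff_eq hl Nat.prime_three).1 (hl.dvd_of_dvd_pow (hl.dvd_of_dvd_pow h))
      rw [hl3] at hly
      exact h3 hly
    · rcases (Nat.Prime.dvd_mul hl).1 h with h | h
      · right; right; right; left
        obtain ⟨c, hc⟩ := R.conj_A2 hK hl hl2 h h1
        obtain ⟨s, hs1, hs2, hs⟩ := R.A2_pm hK hc (by
          intro h4
          apply hne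
          have e : y ^ (orderOf y / l) = c * (c⁻¹ * y ^ (orderOf y / l) * c) * c⁻¹ := by group
          rw [e, h4]; group)
        have h5 := R.conj_comm_inv hK (c := c) hcomm
        rw [hs] at h5
        obtain ⟨s', hs'⟩ := R.mem_H.1 ((R.cen_H hs1 hs2).1 h5)
        have h6 := hnot2 c
        rw [hs', orderOf_injective R.h R.hinj] at h6
        refine cj_of (c := c) ⟨s', ?_, ?_, hs'⟩
        · rintro rfl
          rw [orderOf_one] at h6
          norm_num at h6
        · rintro rfl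
          apply h6
          apply orderOf_dvd_of_pow_eq_one
          simp
      · rcases (Nat.Prime.dvd_mul hl).1 h with h | h
        · right; right; right; right; left
          obtain ⟨c, hc⟩ := R.conj_A4 hK hl hl2 h h1
          have hne' : c⁻¹ * y ^ (orderOf y / l) * c ≠ 1 := by
            intro h4
            apply hne
            have e : y ^ (orderOf y / l) = c * (c⁻¹ * y ^ (orderOf y / l) * c) * c⁻¹ := by group
            rw [e, h4]; group
          have h5 := R.conj_comm_inv hK (c := c) hcomm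
          have h6 := (R.cen_A4 hK hc hne').1 h5
          refine cj_of (c := c) ⟨h6, fun h7 => hnot2 c ?_⟩
          apply orderOf_dvd_of_pow_eq_one
          rw [pow_two]; exact R.V_sq h7
        · right; right; right; right; right
          exact ⟨l, hl, h, hly⟩
  · -- two-elements
    push Not at hodd
    right; left
    rw [R.mem_S2 hK]
    have h4 : ∃ k, orderOf y = 2 ^ k := by
      refine ⟨(orderOf y).primeFactorsList.length, Nat.eq_prime_pow_of_unique_prime_dvd (orderOf_pos y).ne' ?_⟩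
      intro l hl hly
      by_contra hl2
      exact hodd l hl hl2 hly
    obtain ⟨k, hk⟩ := h4
    have hp : IsPGroup 2 (Subgroup.zpowers y) := IsPGroup.iff_card.2 ⟨k, by rw [Nat.card_zpowers, hk]⟩
    obtain ⟨Q, hQ⟩ := hp.exists_le_sylow
    have h5 := (R.sylow2 hK Q).2 y (hQ (Subgroup.mem_zpowers y))
    rw [orderOf_eq_prime_iff, pow_two]
    exact ⟨h5, hy1⟩

/-! ### the numbers -/

theorem card_S2 : R.S2.ncard * (3 ^ (2 * m + 1) * (3 ^ (2 * m + 1) - 1) * (3 ^ (2 * m + 1) + 1)) = Nat.card G := by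
  have h := card_cj (Subgroup.centralizer ({R.a} : Set G)) ({R.a} : Set G) (by
    rintro g hg x hx
    have hx' : x = R.a := hx
    have h1 := (R.mem_cen' hK).1 hg
    rw [hx', ← h1]
    change R.a * g * g⁻¹ = R.a
    group) (by
    intro x hx g hg
    have hx' : x = R.a := hx
    have hg' : g * x * g⁻¹ = R.a := hg
    rw [R.mem_cen' hK]
    rw [hx'] at hg'
    exact (mul_inv_eq_iff_eq_mul.1 hg').symm)
  rw [Set.ncard_singleton, mul_one, R.card_cen_a, R.cardK hK, card_units' hK] at h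
  exact h

theorem card_S3 : R.S3.ncard * ((3 ^ (2 * m + 1)) ^ 3 * (3 ^ (2 * m + 1) - 1)) = Nat.card G *
    (((3 ^ (2 * m + 1)) ^ 3 - 1) + ((3 ^ (2 * m + 1)) ^ 3 - (3 ^ (2 * m + 1)) ^ 2)) := by
  rw [← R.card_X3 hK, ← card_units' hK, ← R.cardK hK, ← R.card_B]
  apply card_cj
  · rintro g hg x ⟨hx1, hx2⟩
    exact ⟨mul_mem (mul_mem hg hx1) (inv_mem hg), by rw [orderOf_cj]; exact hx2⟩
  · rintro x ⟨hx1, hx2⟩ g ⟨hg1, hg2⟩
    -- the power of order three
    set u := x ^ (orderOf x / 3) with hu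
    have h1 : u ^ 3 = 1 := by
      rw [hu, ← pow_mul, Nat.div_mul_cancel hx2, pow_orderOf_eq_one]
    have h2 : u ≠ 1 := by
      intro h3
      have h4 := orderOf_dvd_of_pow_eq_one h3
      have hpos := orderOf_pos x
      have h5 := Nat.le_of_dvd (Nat.div_pos (Nat.le_of_dvd hpos hx2) (by norm_num)) h4
      omega
    have h3 : u ∈ R.U := R.B_three hK (pow_mem hx1 _) h1
    have h4 : g * u * g⁻¹ ∈ R.B := by
      rw [hu, ← conj_pow]
      exact pow_mem hg1 _
    exact R.TI h3 h2 h4 (by group)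

theorem card_SH : R.SH.ncard * (2 * (3 ^ (2 * m + 1) - 1)) = Nat.card G * (3 ^ (2 * m + 1) - 3) := by
  classical
  have h8 := pow_mod8 m
  -- the normaliser
  have hcard : 1 < Nat.card (R.A2 (m := m)) ∨ 3 ^ (2 * m + 1) = 3 := by
    rw [R.card_A2 hK]
    rcases m with _ | m
    · right; norm_num
    · left
      have : 3 ^ 3 ≤ 3 ^ (2 * (m + 1) + 1) := Nat.pow_le_pow_right (by norm_num) (by omega)
      omega
  have hX : R.XH.ncard = 3 ^ (2 * m + 1) - 3 := by
    have e : {s : Kˣ // s ∉ ({1, -1} : Finset Kˣ)} ≃ R.XH :=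
      Equiv.ofBijective (fun s => ⟨R.h s.1, s.1, fun h => s.2 (by simp [h]), fun h => s.2 (by simp [h]), rfl⟩)
        ⟨fun s s' h => Subtype.ext (R.hinj (congrArg Subtype.val h)), by
          rintro ⟨x, s, hs1, hs2, rfl⟩
          exact ⟨⟨s, by simp [hs1, hs2]⟩, rfl⟩⟩
    have hne : (1 : Kˣ) ≠ -1 := fun h => R.neg_one_ne (by
      have := congrArg Units.val h
      rw [Units.val_neg, Units.val_one] at this
      exact this.symm)
    change Nat.card R.XH = _
    rw [← Nat.card_congr e, Nat.card_eq_fintype_card, Fintype.card_subtype_compl, Fintype.card_coe,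
      Finset.card_pair hne, ← Nat.card_eq_fintype_card, card_units' hK]
    omega
  rcases hcard with hcard | hcard
  · have hA : R.A2 (m := m) ≠ ⊥ := by
      intro h
      rw [h, Subgroup.card_bot] at hcard
      exact lt_irrefl _ hcard
    rw [← hX, ← R.card_norm_A2 hK le_rfl hA]
    apply card_cj
    · rintro g hg x ⟨s, hs1, hs2, rfl⟩
      obtain ⟨s', rfl | rfl⟩ := (R.mem_norm_A2 hK le_rfl hA).1 hg
      · refine ⟨s, hs1, hs2, ?_⟩
        rw [← map_mul, mul_comm s' s, map_mul, mul_assoc, mul_inv_cancel, mul_one]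
      · refine ⟨s⁻¹, inv_ne_one.2 hs1, fun h => hs2 ?_, ?_⟩
        · rw [← inv_inv s, h]; simp
        · rw [mul_inv_rev, R.n_inv]
          calc R.h s' * R.n * R.h s * (R.n * (R.h s')⁻¹) = R.h s' * (R.n * R.h s) * R.n * (R.h s')⁻¹ := by group
            _ = R.h s' * R.h s⁻¹ * (R.n * R.n) * (R.h s')⁻¹ := by rw [R.nhc]; group
            _ = _ := by rw [R.nn, mul_one, ← map_mul, mul_comm, map_mul, mul_assoc, mul_inv_cancel, mul_one]
    · rintro x ⟨s, hs1, hs2, rfl⟩ g ⟨s₁, -, -, hs₁⟩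
      rw [R.mem_norm_A2 hK le_rfl hA]
      obtain ⟨s', ⟨h, -⟩ | ⟨h, -⟩⟩ := R.norm_H hs1 hs2 (x := g) (by rw [hs₁]; exact R.h_mem _)
      · exact ⟨s', Or.inl h⟩
      · exact ⟨s', Or.inr h⟩
  · have h0 : R.XH = ∅ := by
      rw [← Set.ncard_eq_zero, hX, hcard]
    have h1 : R.SH = ∅ := by
      rw [Set.eq_empty_iff_forall_notMem]
      rintro y ⟨g, x, hx, -⟩
      rw [h0] at hx
      exact hx
    rw [h1, Set.ncard_empty, hcard]
    simp

theorem card_SW (hm : 1 ≤ m) : R.SW.ncard * (6 * (3 ^ (2 * m + 1) + 1)) = Nat.card G * (3 ^ (2 * m + 1) - 3) := by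
  have hX : R.XW.ncard = 3 ^ (2 * m + 1) - 3 := by
    have h1 : R.XW = (R.W0 : Set G) \ (R.V : Set G) := rfl
    have h2 : ((R.V : Set G)).ncard = 4 := R.card_V
    have h3 : ((R.W0 : Set G)).ncard = 3 ^ (2 * m + 1) + 1 := R.card_W0 hK
    rw [h1, Set.ncard_sdiff (show (R.V : Set G) ⊆ R.W0 from R.V_le), h2, h3]
    omega
  rw [← hX, ← R.card_norm_W0 hm hK]
  have hVinv : ∀ {x : G}, x ∈ R.W0 → (x ∉ R.V ↔ x * x ≠ 1) := by
    intro x hx
    constructor
    · intro h h2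
      exact h (R.W0_inv hK hx h2)
    · intro h h2
      exact h (R.V_sq h2)
  apply card_cj
  · rintro g hg x hx
    have h1 := (Subgroup.mem_normalizer_iff.1 hg x).1 hx.1
    refine ⟨h1, ?_⟩
    rw [hVinv h1]
    intro h2
    apply (hVinv hx.1).1 hx.2
    have e : x * x = g⁻¹ * ((g * x * g⁻¹) * (g * x * g⁻¹)) * g := by group
    rw [e, h2]; group
  · rintro x hx g hg
    apply Subgroup.mem_normalizer_fintype
    intro z hz
    exact (R.cen_XW hK hg).1 (conj_comm (R.W0_comm hK hx.1 hz))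

variable (ρ : G →* GL (Fin 7) K) (hρ : Function.Injective ρ)

include hρ

theorem card_SA {p : ℕ} (hp : p.Prime) (hpM : p ∣ MM m) {x : G} (hx : orderOf x = p) :
    ∃ n, n ∣ 6 ∧ Nat.card (Subgroup.normalizer (Subgroup.centralizer ({x} : Set G) : Set G)) =
      n * Nat.card (Subgroup.centralizer ({x} : Set G)) ∧
      (SA x).ncard * (n * Nat.card (Subgroup.centralizer ({x} : Set G))) =
        Nat.card G * (Nat.card (Subgroup.centralizer ({x} : Set G)) - 1) := by
  obtain ⟨n, hn, hN⟩ := R.card_norm_cenM hK ρ hρ hp hpM hx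
  refine ⟨n, hn, hN, ?_⟩
  rw [← hN]
  have hX : ({y : G | y ∈ Subgroup.centralizer ({x} : Set G) ∧ y ≠ 1}).ncard =
      Nat.card (Subgroup.centralizer ({x} : Set G)) - 1 := by
    have h1 : {y : G | y ∈ Subgroup.centralizer ({x} : Set G) ∧ y ≠ 1} =
      (Subgroup.centralizer ({x} : Set G) : Set G) \ {1} := rfl
    rw [h1, Set.ncard_sdiff_singleton_of_mem (one_mem _)]
    rfl
  rw [← hX]
  have hcyc := R.cenM_cyclic hK hp hpM hx ρ hρ
  have hcomm : ∀ u ∈ Subgroup.centralizer ({x} : Set G), ∀ v ∈ Subgroup.centralizer ({x} : Set G), u * v = v * u := by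
    intro u hu v hv
    exact congrArg Subtype.val (hcyc.commGroup.mul_comm ⟨u, hu⟩ ⟨v, hv⟩)
  apply card_cj
  · rintro g hg y ⟨hy, hy1⟩
    refine ⟨(Subgroup.mem_normalizer_iff.1 hg y).1 hy, fun h => hy1 ?_⟩
    have e : y = g⁻¹ * (g * y * g⁻¹) * g := by group
    rw [e, h]; group
  · rintro y ⟨hy, hy1⟩ g ⟨hg1, hg2⟩
    apply Subgroup.mem_normalizer_fintype
    intro z hz
    have h1 := R.cenM_TI hK ρ hρ hp hpM hx hg1 hg2
    change g * z * g⁻¹ ∈ Subgroup.centralizer ({x} : Set G)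
    rw [← h1, R.mem_cen' hK]
    exact conj_comm (hcomm _ hy _ hz)

end fin

end RG

end Cfsg.Agent.H6.Ree
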