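import Cfsg.Agent.H6_Ree24

/-!
The Ree groups: the class equation.
-/

set_option autoImplicit false
set_option linter.unusedSectionVars false

namespace Cfsg.Agent.H6.Ree

open Cfsg Cfsg.Lie
open scoped Pointwise

section arith

theorem arith_base {q M g s2 s3 sh sw : ℕ} (hq : 3 ≤ q) (hM : M = q * (q - 1) + 1)
    (hg : g = q ^ 3 * ((q - 1) * ((q + 1) * M))) (h2 : s2 * (q * (q - 1) * (q + 1)) = g)
    (h3 : s3 * (q ^ 3 * (q - 1)) = g * ((q ^ 3 - 1) + (q ^ 3 - q ^ 2))) (hh : sh * (2 * (q - 1)) = g * (q - 3))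
    (hw : sw * (6 * (q + 1)) = g * (q - 3)) :
    3 * (1 + s2 + s3 + sh + sw) + q * (q - 2) * (q ^ 3 * ((q - 1) * (q + 1))) = 3 * g := by
  obtain ⟨k, rfl⟩ := Nat.exists_eq_add_of_le' hq
  have e1 : k + 3 - 1 = k + 2 := by omega
  have e2 : k + 3 - 2 = k + 1 := by omega
  have e3 : k + 3 - 3 = k := by omega
  have e4 : (k + 3) ^ 3 - 1 = (k + 2) * ((k + 3) ^ 2 + (k + 3) + 1) := by
    have : (k + 3) ^ 3 = (k + 2) * ((k + 3) ^ 2 + (k + 3) + 1) + 1 := by ring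
    omega
  have e5 : (k + 3) ^ 3 - (k + 3) ^ 2 = (k + 3) ^ 2 * (k + 2) := by
    have : (k + 3) ^ 3 = (k + 3) ^ 2 * (k + 2) + (k + 3) ^ 2 := by ring
    omega
  rw [e1, e3] at hh
  rw [e3] at hw
  rw [e1, e4, e5] at h3
  rw [e1] at h2 hg hM
  rw [e1, e2]
  have k2 : s2 = (k + 3) ^ 2 * M := by
    apply Nat.eq_of_mul_eq_mul_right (show 0 < (k + 3) * (k + 2) * (k + 3 + 1) by positivity)
    rw [h2, hg]; ring
  have k3 : s3 = (k + 3 + 1) * M * ((k + 2) * ((k + 3) ^ 2 + (k + 3) + 1) + (k + 3) ^ 2 * (k + 2)) := by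
    apply Nat.eq_of_mul_eq_mul_right (show 0 < (k + 3) ^ 3 * (k + 2) by positivity)
    rw [h3, hg]; ring
  have kh : 2 * sh = (k + 3) ^ 3 * (k + 3 + 1) * M * k := by
    apply Nat.eq_of_mul_eq_mul_right (show 0 < k + 2 by positivity)
    have : 2 * sh * (k + 2) = sh * (2 * (k + 2)) := by ring
    rw [this, hh, hg]; ring
  have kw : 6 * sw = (k + 3) ^ 3 * (k + 2) * M * k := by
    apply Nat.eq_of_mul_eq_mul_right (show 0 < k + 3 + 1 by positivity)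
    have : 6 * sw * (k + 3 + 1) = sw * (6 * (k + 3 + 1)) := by ring
    rw [this, hw, hg]; ring
  have h6 : 6 * (1 + s2 + s3 + sh + sw) + 2 * ((k + 3) * (k + 1) * ((k + 3) ^ 3 * ((k + 2) * (k + 3 + 1)))) = 6 * g := by
    have : 6 * (1 + s2 + s3 + sh + sw) = 6 + 6 * s2 + 6 * s3 + 3 * (2 * sh) + 6 * sw := by ring
    rw [this, kh, kw, k2, k3, hg, hM]
    ring
  omega

theorem arith_low {g A n a : ℕ} (hn : n ≤ 6) (ha : 7 ≤ a) (h : A * (n * a) = g * (a - 1)) : g ≤ 7 * A := by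
  obtain ⟨b, rfl⟩ := Nat.exists_eq_add_of_le' (show 1 ≤ a by omega)
  rw [Nat.add_sub_cancel] at h
  have hb : 6 ≤ b := by omega
  have h1 : A * (n * (b + 1)) ≤ A * (6 * (b + 1)) := Nat.mul_le_mul_left _ (Nat.mul_le_mul_right _ hn)
  have h2 : 6 * (g * (b + 1)) ≤ 7 * (g * b) := by nlinarith [Nat.mul_le_mul_left g hb]
  have h3 : 6 * (g * (b + 1)) ≤ 6 * ((7 * A) * (b + 1)) := by
    calc 6 * (g * (b + 1)) ≤ 7 * (g * b) := h2
      _ = 7 * (A * (n * (b + 1))) := by rw [h]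
      _ ≤ 7 * (A * (6 * (b + 1))) := Nat.mul_le_mul_left _ h1
      _ = 6 * ((7 * A) * (b + 1)) := by ring
  have h4 := Nat.le_of_mul_le_mul_left h3 (by norm_num)
  exact Nat.le_of_mul_le_mul_right h4 (by positivity)

theorem arith_low3 {g A n a : ℕ} (hn : n ≤ 3) (ha : 7 ≤ a) (h : A * (n * a) = g * (a - 1)) : 2 * g ≤ 7 * A := by
  obtain ⟨b, rfl⟩ := Nat.exists_eq_add_of_le' (show 1 ≤ a by omega)
  rw [Nat.add_sub_cancel] at h
  have hb : 6 ≤ b := by omega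
  have h1 : A * (n * (b + 1)) ≤ A * (3 * (b + 1)) := Nat.mul_le_mul_left _ (Nat.mul_le_mul_right _ hn)
  have h2 : 6 * (g * (b + 1)) ≤ 7 * (g * b) := by nlinarith [Nat.mul_le_mul_left g hb]
  have h3 : 3 * ((2 * g) * (b + 1)) ≤ 3 * ((7 * A) * (b + 1)) := by
    calc 3 * ((2 * g) * (b + 1)) = 6 * (g * (b + 1)) := by ring
      _ ≤ 7 * (g * b) := h2
      _ = 7 * (A * (n * (b + 1))) := by rw [h]
      _ ≤ 7 * (A * (3 * (b + 1))) := Nat.mul_le_mul_left _ h1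
      _ = 3 * ((7 * A) * (b + 1)) := by ring
  have h4 := Nat.le_of_mul_le_mul_left h3 (by norm_num)
  exact Nat.le_of_mul_le_mul_right h4 (by positivity)

theorem arith_lt {q M g β : ℕ} (hq : 3 ≤ q) (hM : M = q * (q - 1) + 1)
    (hg : g = q ^ 3 * ((q - 1) * ((q + 1) * M))) (hβ : 3 * β + q * (q - 2) * (q ^ 3 * ((q - 1) * (q + 1))) = 3 * g) :
    2 * g < 3 * β := by
  obtain ⟨k, rfl⟩ := Nat.exists_eq_add_of_le' hq
  have e1 : k + 3 - 1 = k + 2 := by omega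
  have e2 : k + 3 - 2 = k + 1 := by omega
  rw [e1, e2] at hβ
  rw [e1] at hg hM
  have h1 : (k + 3) * (k + 1) * ((k + 3) ^ 3 * ((k + 2) * (k + 3 + 1))) < g := by
    have h2 : g = M * ((k + 3) ^ 3 * ((k + 2) * (k + 3 + 1))) := by rw [hg]; ring
    rw [h2]
    apply Nat.mul_lt_mul_of_pos_right _ (by positivity)
    rw [hM]; nlinarith
  omega

theorem arith_one {q M g β A n : ℕ} (hq : 7 ≤ q) (hM : M = q * (q - 1) + 1)
    (hg : g = q ^ 3 * ((q - 1) * ((q + 1) * M))) (hβ : 3 * β + q * (q - 2) * (q ^ 3 * ((q - 1) * (q + 1))) = 3 * g)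
    (h : A * (n * M) = g * (M - 1)) (hs : β + A = g) : False := by
  obtain ⟨k, rfl⟩ := Nat.exists_eq_add_of_le' hq
  have e1 : k + 7 - 1 = k + 6 := by omega
  have e2 : k + 7 - 2 = k + 5 := by omega
  rw [e1, e2] at hβ
  rw [e1] at hg hM
  have h1 : 3 * A = (k + 7) * (k + 5) * ((k + 7) ^ 3 * ((k + 6) * (k + 7 + 1))) := by omega
  have hMpos : 0 < M := by rw [hM]; positivity
  have e3 : M - 1 = (k + 7) * (k + 6) := by rw [hM, Nat.add_sub_cancel]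
  rw [e3] at h
  have h2 : A * n = (k + 7) ^ 3 * ((k + 6) * (k + 7 + 1)) * ((k + 7) * (k + 6)) := by
    apply Nat.eq_of_mul_eq_mul_right hMpos
    calc A * n * M = A * (n * M) := by ring
      _ = _ := by rw [h, hg]; ring
  have h3 : n * (k + 5) = 3 * (k + 6) := by
    apply Nat.eq_of_mul_eq_mul_right (show 0 < (k + 7) * ((k + 7) ^ 3 * ((k + 6) * (k + 7 + 1))) by positivity)
    calc n * (k + 5) * ((k + 7) * ((k + 7) ^ 3 * ((k + 6) * (k + 7 + 1)))) = n * (3 * A) := by rw [h1]; ring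
      _ = 3 * (A * n) := by ring
      _ = _ := by rw [h2]; ring
  rcases Nat.lt_or_ge n 4 with h4 | h4
  · have : n * (k + 5) ≤ 3 * (k + 5) := Nat.mul_le_mul_right _ (by omega)
    omega
  · have : 4 * (k + 5) ≤ n * (k + 5) := Nat.mul_le_mul_right _ h4
    omega

theorem arith_two {q M g β A₁ A₂ a₁ a₂ : ℕ} (hq : 3 ≤ q) (hM : M = q * (q - 1) + 1)
    (hg : g = q ^ 3 * ((q - 1) * ((q + 1) * M))) (hβ : 3 * β + q * (q - 2) * (q ^ 3 * ((q - 1) * (q + 1))) = 3 * g)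
    (h₁ : A₁ * (6 * a₁) = g * (a₁ - 1)) (h₂ : A₂ * (6 * a₂) = g * (a₂ - 1)) (hs : β + A₁ + A₂ = g) (ha : a₁ * a₂ = M) :
    a₁ + a₂ = 2 * (q + 1) := by
  obtain ⟨k, rfl⟩ := Nat.exists_eq_add_of_le' hq
  have e1 : k + 3 - 1 = k + 2 := by omega
  have e2 : k + 3 - 2 = k + 1 := by omega
  rw [e1, e2] at hβ
  rw [e1] at hg hM
  have hMpos : 0 < M := by rw [hM]; positivity
  have ha₁ : 0 < a₁ := Nat.pos_of_ne_zero (by rintro rfl; rw [zero_mul] at ha; omega)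
  have ha₂ : 0 < a₂ := Nat.pos_of_ne_zero (by rintro rfl; rw [mul_zero] at ha; omega)
  obtain ⟨b₁, rfl⟩ := Nat.exists_eq_add_of_le' ha₁
  obtain ⟨b₂, rfl⟩ := Nat.exists_eq_add_of_le' ha₂
  rw [Nat.add_sub_cancel] at h₁ h₂
  have k1 : 6 * A₁ = (k + 3) ^ 3 * ((k + 2) * (k + 3 + 1)) * ((b₂ + 1) * b₁) := by
    apply Nat.eq_of_mul_eq_mul_right (show 0 < b₁ + 1 by positivity)
    calc 6 * A₁ * (b₁ + 1) = A₁ * (6 * (b₁ + 1)) := by ring
      _ = _ := by rw [h₁, hg, ← ha]; ring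
  have k2 : 6 * A₂ = (k + 3) ^ 3 * ((k + 2) * (k + 3 + 1)) * ((b₁ + 1) * b₂) := by
    apply Nat.eq_of_mul_eq_mul_right (show 0 < b₂ + 1 by positivity)
    calc 6 * A₂ * (b₂ + 1) = A₂ * (6 * (b₂ + 1)) := by ring
      _ = _ := by rw [h₂, hg, ← ha]; ring
  have k3 : 3 * (A₁ + A₂) = (k + 3) * (k + 1) * ((k + 3) ^ 3 * ((k + 2) * (k + 3 + 1))) := by omega
  have k4 : (b₂ + 1) * b₁ + (b₁ + 1) * b₂ = 2 * ((k + 3) * (k + 1)) := by
    apply Nat.eq_of_mul_eq_mul_left (show 0 < (k + 3) ^ 3 * ((k + 2) * (k + 3 + 1)) by positivity)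
    calc (k + 3) ^ 3 * ((k + 2) * (k + 3 + 1)) * ((b₂ + 1) * b₁ + (b₁ + 1) * b₂) = 6 * A₁ + 6 * A₂ := by
          rw [k1, k2]; ring
      _ = 2 * (3 * (A₁ + A₂)) := by ring
      _ = _ := by rw [k3]; ring
  have k5 : (b₁ + 1) * (b₂ + 1) = (k + 3) * (k + 2) + 1 := by rw [ha, hM]
  nlinarith

theorem arith_final {q r a₁ a₂ : ℕ} (hr : r ^ 2 = 3 * q) (hs : a₁ + a₂ = 2 * (q + 1)) (hq : 1 ≤ q)
    (hm : a₁ * a₂ = q * (q - 1) + 1) : (a₁ = q + 1 + r ∧ a₂ + r = q + 1) ∨ (a₂ = q + 1 + r ∧ a₁ + r = q + 1) := by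
  have key : ∀ a₁ a₂ : ℕ, a₁ + a₂ = 2 * (q + 1) → a₁ * a₂ = q * (q - 1) + 1 → a₂ ≤ a₁ →
      a₁ = q + 1 + r ∧ a₂ + r = q + 1 := by
    intro a₁ a₂ hs hm hle
    obtain ⟨d, rfl⟩ : ∃ d, a₁ = q + 1 + d := ⟨a₁ - (q + 1), by omega⟩
    have h2 : a₂ + d = q + 1 := by omega
    obtain ⟨j, rfl⟩ := Nat.exists_eq_add_of_le' hq
    rw [Nat.add_sub_cancel] at hm
    have h3 : d ^ 2 = 3 * (j + 1) := by nlinarith
    have h4 : d = r := by
      rw [← hr] at h3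
      exact Nat.pow_left_injective (n := 2) (by norm_num) h3
    subst h4
    exact ⟨rfl, h2⟩
  rcases le_total a₂ a₁ with h | h
  · exact Or.inl (key a₁ a₂ hs hm h)
  · exact Or.inr (key a₂ a₁ (by omega) (by rw [mul_comm]; exact hm) h)

end arith

end Cfsg.Agent.H6.Ree
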