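import Cfsg.Agent.H6_Ree25

/-!
The Ree groups: the two classes of tori of order `q ± r + 1`.
-/

set_option autoImplicit false
set_option linter.unusedSectionVars false

namespace Cfsg.Agent.H6.Ree

open Cfsg Cfsg.Lie
open scoped Pointwise

namespace RG

variable {K : Type*} [Field K] {G : Type*} [Group G] (R : RG K G)

include R

/-- the known classes -/
def Base : Set G := {1} ∪ R.S2 ∪ R.S3 ∪ R.SH ∪ R.SW

section fin

variable [Fintype K] [Finite G] {m : ℕ} (hm : 1 ≤ m) (hK : Fintype.card K = 3 ^ (2 * m + 1))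

theorem gcd_sub_add {d : ℕ} (h1 : d ∣ 3 ^ (2 * m + 1) - 1) (h2 : d ∣ (3 ^ (2 * m + 1) + 1) / 2) : d ∣ 2 := by
  obtain ⟨e, he, -, -, -⟩ := q_mod m
  have h3 : d ∣ 3 ^ (2 * m + 1) + 1 := h2.trans ⟨2, by omega⟩
  have h4 := Nat.dvd_sub h3 h1
  have e : 3 ^ (2 * m + 1) + 1 - (3 ^ (2 * m + 1) - 1) = 2 := by omega
  rwa [e] at h4

theorem not_three_sub {d : ℕ} (h1 : 3 ∣ d) (h2 : d ∣ 3 ^ (2 * m + 1) - 1) : False := by
  have h := h1.trans h2
  have h3 : 3 ∣ 3 ^ (2 * m + 1) := Dvd.dvd.pow (dvd_refl 3) (by omega)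
  have hpos : 0 < 3 ^ (2 * m + 1) := by positivity
  omega

theorem not_three_add {d : ℕ} (h1 : 3 ∣ d) (h2 : d ∣ (3 ^ (2 * m + 1) + 1) / 2) : False := by
  obtain ⟨e, he, -, -, -⟩ := q_mod m
  have h3 : d ∣ 3 ^ (2 * m + 1) + 1 := h2.trans ⟨2, by omega⟩
  have h := h1.trans h3
  have h3 : 3 ∣ 3 ^ (2 * m + 1) := Dvd.dvd.pow (dvd_refl 3) (by omega)
  omega

include hm hK

theorem card_Base : 3 * R.Base.ncard + 3 ^ (2 * m + 1) * (3 ^ (2 * m + 1) - 2) *
    ((3 ^ (2 * m + 1)) ^ 3 * ((3 ^ (2 * m + 1) - 1) * (3 ^ (2 * m + 1) + 1))) = 3 * Nat.card G := by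
  have hq3 : 3 ≤ 3 ^ (2 * m + 1) := by
    calc 3 = 3 ^ 1 := rfl
      _ ≤ 3 ^ (2 * m + 1) := Nat.pow_le_pow_right (by norm_num) (by omega)
  have h := arith_base hq3 rfl (R.card_G2 hK) (R.card_S2 hK) (R.card_S3 hK) (R.card_SH hK) (R.card_SW hK hm)
  have hc : R.Base.ncard = 1 + R.S2.ncard + R.S3.ncard + R.SH.ncard + R.SW.ncard := by
    have d1 : Disjoint ({1} : Set G) R.S2 := by
      rw [Set.disjoint_singleton_left, R.mem_S2 hK, orderOf_one]
      norm_num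
    have d2 : Disjoint ({1} ∪ R.S2) R.S3 := by
      rw [Set.disjoint_left]
      rintro y (hy | hy) h3
      · have hy' : y = 1 := hy
        rw [R.mem_S3 hK, hy', orderOf_one] at h3
        norm_num at h3
      · rw [R.mem_S2 hK] at hy
        rw [R.mem_S3 hK, hy] at h3
        norm_num at h3
    have d3 : Disjoint ({1} ∪ R.S2 ∪ R.S3) R.SH := by
      rw [Set.disjoint_left]
      rintro y ((hy | hy) | hy) h3
      · have hy' : y = 1 := hy
        obtain ⟨-, h4⟩ := R.SH_order hK h3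
        rw [hy', orderOf_one] at h4
        norm_num at h4
      · obtain ⟨-, h4⟩ := R.SH_order hK h3
        rw [R.mem_S2 hK] at hy
        rw [hy] at h4
        norm_num at h4
      · obtain ⟨h4, -⟩ := R.SH_order hK h3
        exact R.not_three_sub ((R.mem_S3 hK).1 hy) h4
    have d4 : Disjoint ({1} ∪ R.S2 ∪ R.S3 ∪ R.SH) R.SW := by
      rw [Set.disjoint_left]
      rintro y (((hy | hy) | hy) | hy) h3
      · have hy' : y = 1 := hy
        obtain ⟨-, h4⟩ := R.SW_order hK h3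
        rw [hy', orderOf_one] at h4
        norm_num at h4
      · obtain ⟨-, h4⟩ := R.SW_order hK h3
        rw [R.mem_S2 hK] at hy
        rw [hy] at h4
        norm_num at h4
      · obtain ⟨h4, -⟩ := R.SW_order hK h3
        exact R.not_three_add ((R.mem_S3 hK).1 hy) h4
      · obtain ⟨h4, h5⟩ := R.SW_order hK h3
        exact h5 (R.gcd_sub_add (R.SH_order hK hy).1 h4)
    rw [Base, Set.ncard_union_eq d4, Set.ncard_union_eq d3, Set.ncard_union_eq d2, Set.ncard_union_eq d1,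
      Set.ncard_singleton]
  rw [hc]
  exact h

omit hm

theorem Base_disj {y : G} (hy : y ∈ R.Base) {l : ℕ} (hl : l.Prime) (hlM : l ∣ MM m) : ¬ l ∣ orderOf y := by
  intro hly
  rcases hy with (((hy | hy) | hy) | hy) | hy
  · have hy' : y = 1 := hy
    rw [hy', orderOf_one] at hly
    exact hl.one_lt.ne' (Nat.dvd_one.1 hly)
  · rw [R.mem_S2 hK] at hy
    rw [hy] at hly
    exact pM_ne_two hl hlM ((Nat.prime_dvd_prime_iff_eq hl Nat.prime_two).1 hly)
  · -- some element commutes with a `3`-element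
    obtain ⟨g, x, ⟨hxB, -⟩, rfl⟩ := hy
    rw [orderOf_cj] at hly
    have h2 := hly.trans (R.orderOf_dvd_of_mem hK hxB)
    rw [R.card_B, R.cardK hK, card_units' hK] at h2
    rcases (Nat.Prime.dvd_mul hl).1 h2 with h3 | h3
    · exact pM_not_q hl hlM (hl.dvd_of_dvd_pow h3)
    · exact pM_not_sub hl hlM h3
  · exact pM_not_sub hl hlM (hly.trans (R.SH_order hK hy).1)
  · obtain ⟨e, he, -, -, -⟩ := q_mod m
    exact pM_not_add hl hlM ((hly.trans (R.SW_order hK hy).1).trans ⟨2, by omega⟩)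

theorem SA_order {x y : G} (hy : y ∈ SA x) :
    orderOf y ∣ Nat.card (Subgroup.centralizer ({x} : Set G)) ∧ orderOf y ≠ 1 := by
  obtain ⟨g, z, ⟨hz, hz1⟩, rfl⟩ := hy
  rw [orderOf_cj]
  exact ⟨R.orderOf_dvd_of_mem hK hz, mt orderOf_eq_one_iff.1 hz1⟩

theorem Base_disj_SA {p : ℕ} (hp : p.Prime) (hpM : p ∣ MM m) {x : G} (hx : orderOf x = p) : Disjoint R.Base (SA x) := by
  rw [Set.disjoint_left]
  intro y hy hy2
  obtain ⟨h1, h2⟩ := R.SA_order hK hy2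
  obtain ⟨l, hl, hly⟩ := Nat.exists_prime_and_dvd h2
  exact R.Base_disj hK hy hl ((hly.trans h1).trans (R.cenM_card hK hp hpM hx)) hly

theorem SA_disj {x x' : G} (h : (Nat.card (Subgroup.centralizer ({x} : Set G))).Coprime
    (Nat.card (Subgroup.centralizer ({x'} : Set G)))) : Disjoint (SA x) (SA x') := by
  rw [Set.disjoint_left]
  intro y hy hy2
  obtain ⟨h1, h2⟩ := R.SA_order hK hy
  obtain ⟨h3, -⟩ := R.SA_order hK hy2
  exact h2 (Nat.eq_one_of_dvd_coprimes h h1 h3)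

variable (ρ : G →* GL (Fin 7) K) (hρ : Function.Injective ρ)

include hρ

theorem SA_mem {p : ℕ} (hp : p.Prime) (hpM : p ∣ MM m) {x : G} (hx : orderOf x = p) {l : ℕ} (hl : l.Prime)
    (hlA : l ∣ Nat.card (Subgroup.centralizer ({x} : Set G))) {y : G} (hly : l ∣ orderOf y) : y ∈ SA x := by
  have h1 : orderOf (y ^ (orderOf y / l)) = l := by
    rw [orderOf_pow_of_dvd (Nat.div_pos (Nat.le_of_dvd (orderOf_pos y) hly) hl.pos).ne' (Nat.div_dvd_of_dvd hly),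
      Nat.div_div_self hly (orderOf_pos y).ne']
  have hcomm : (y ^ (orderOf y / l)) * y = y * y ^ (orderOf y / l) := ((Commute.refl y).pow_left _)
  have hne : y ^ (orderOf y / l) ≠ 1 := by
    intro h
    rw [h, orderOf_one] at h1
    exact hl.one_lt.ne h1
  obtain ⟨c, hc⟩ := conj_into hl (R.cenM_hall hK ρ hρ hp hpM hx hl hlA) h1
  have hne' : c⁻¹ * y ^ (orderOf y / l) * c ≠ 1 := by
    intro h4
    apply hne
    have e : y ^ (orderOf y / l) = c * (c⁻¹ * y ^ (orderOf y / l) * c) * c⁻¹ := by group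
    rw [e, h4]; group
  refine cj_of (c := c) ⟨?_, ?_⟩
  · rw [← R.cenM_TI hK ρ hρ hp hpM hx hc hne', R.mem_cen' hK]
    exact R.conj_comm_inv hK hcomm
  · intro h
    apply hne'
    have e : c⁻¹ * y ^ (orderOf y / l) * c = (c⁻¹ * y * c) ^ (orderOf y / l) := by
      have := conj_pow (a := c⁻¹) (b := y) (i := orderOf y / l)
      rw [inv_inv] at this
      exact this.symm
    rw [e, h, one_pow]

theorem cenM_ge {p : ℕ} (hp : p.Prime) (hpM : p ∣ MM m) {x : G} (hx : orderOf x = p) :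
    7 ≤ Nat.card (Subgroup.centralizer ({x} : Set G)) := by
  have h1 : p ∣ Nat.card (Subgroup.centralizer ({x} : Set G)) := by
    rw [← hx]
    exact R.orderOf_dvd_of_mem hK ((R.mem_cen' hK).2 rfl)
  have h2 : p ≤ Nat.card (Subgroup.centralizer ({x} : Set G)) := Nat.le_of_dvd Nat.card_pos h1
  have h3 : 7 ≤ p := by
    by_contra h
    push Not at h
    have h4 := hp.two_le
    interval_cases p
    · exact pM_ne_two hp hpM rfl
    · exact pM_ne_three hp hpM rfl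
    · norm_num at hp
    · -- `q ^ 4 ≡ 1 mod 5`
      have h5 : (3 ^ (2 * m + 1)) ^ 4 ≡ 1 [MOD 5] := by
        rw [← pow_mul, mul_comm (2 * m + 1) 4, pow_mul]
        have : 3 ^ 4 ≡ 1 [MOD 5] := by decide
        simpa using this.pow (2 * m + 1)
      rcases pM_order hp hpM 4 (by norm_num) h5 with h6 | h6
      · norm_num at h6
      · norm_num at h6
    · norm_num at hp
  omega

/-- two centralisers with a common prime divisor have the same order -/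
theorem cenM_same {p : ℕ} (hp : p.Prime) (hpM : p ∣ MM m) {x : G} (hx : orderOf x = p)
    {p' : ℕ} (hp' : p'.Prime) (hpM' : p' ∣ MM m) {x' : G} (hx' : orderOf x' = p')
    {l : ℕ} (hl : l.Prime) (h1 : l ∣ Nat.card (Subgroup.centralizer ({x} : Set G)))
    (h2 : l ∣ Nat.card (Subgroup.centralizer ({x'} : Set G))) : p' ∣ Nat.card (Subgroup.centralizer ({x} : Set G)) := by
  have hlf : Fact l.Prime := ⟨hl⟩
  obtain ⟨y, hy⟩ := exists_prime_orderOf_dvd_card' l h2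
  rw [← Subgroup.orderOf_coe] at hy
  have hy1 : (y : G) ≠ 1 := by
    intro h1
    rw [h1, orderOf_one] at hy
    exact hl.one_lt.ne hy
  obtain ⟨c, hc⟩ := conj_into hl (R.cenM_hall hK ρ hρ hp hpM hx hl h1) hy
  have hne : c⁻¹ * y * c ≠ 1 := by
    intro h4
    apply hy1
    have e : (y : G) = c * (c⁻¹ * y * c) * c⁻¹ := by group
    rw [e, h4]; group
  have h3 := R.cenM_TI hK ρ hρ hp hpM hx hc hne
  have h4 : x' * (y : G) = y * x' := (R.mem_cen' hK).1 y.2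
  have h5 : c⁻¹ * x' * c ∈ Subgroup.centralizer ({x} : Set G) := by
    rw [← h3, R.mem_cen' hK]
    exact (R.conj_comm_inv hK h4).symm
  have h6 := R.orderOf_dvd_of_mem hK h5
  rwa [R.orderOf_conj hK, hx'] at h6

/-- if a factor of `M` remains, it has a new prime divisor -/
theorem new_prime {p : ℕ} (hp : p.Prime) (hpM : p ∣ MM m) {x : G} (hx : orderOf x = p) {t l : ℕ}
    (ht : Nat.card (Subgroup.centralizer ({x} : Set G)) * t ∣ MM m) (hl : l.Prime) (hlt : l ∣ t) :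
    ¬ l ∣ Nat.card (Subgroup.centralizer ({x} : Set G)) := by
  intro h
  apply R.cenM_hall hK ρ hρ hp hpM hx hl h
  have h1 := Subgroup.card_mul_index (Subgroup.centralizer ({x} : Set G))
  have h2 : Nat.card (Subgroup.centralizer ({x} : Set G)) * t ∣ Nat.card G := by
    refine ht.trans ?_
    rw [R.card_G2 hK]
    exact ⟨(3 ^ (2 * m + 1)) ^ 3 * ((3 ^ (2 * m + 1) - 1) * (3 ^ (2 * m + 1) + 1)), by ring⟩
  rw [← h1] at h2
  exact hlt.trans (Nat.dvd_of_mul_dvd_mul_left Nat.card_pos h2)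

include hm

/-- the two classes -/
theorem exists_two' : ∃ (x₁ x₂ : G) (p₁ p₂ : ℕ), p₁.Prime ∧ p₁ ∣ MM m ∧ orderOf x₁ = p₁ ∧ p₂.Prime ∧ p₂ ∣ MM m ∧
    orderOf x₂ = p₂ ∧
    Nat.card (Subgroup.centralizer ({x₁} : Set G)) * Nat.card (Subgroup.centralizer ({x₂} : Set G)) = MM m ∧
    Nat.card (Subgroup.centralizer ({x₁} : Set G)) + Nat.card (Subgroup.centralizer ({x₂} : Set G)) =
      2 * (3 ^ (2 * m + 1) + 1) ∧
    Nat.card (Subgroup.normalizer (Subgroup.centralizer ({x₁} : Set G) : Set G)) =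
      6 * Nat.card (Subgroup.centralizer ({x₁} : Set G)) ∧
    Nat.card (Subgroup.normalizer (Subgroup.centralizer ({x₂} : Set G) : Set G)) =
      6 * Nat.card (Subgroup.centralizer ({x₂} : Set G)) := by
  have hq27 : 27 ≤ 3 ^ (2 * m + 1) := by
    calc 27 = 3 ^ 3 := rfl
      _ ≤ 3 ^ (2 * m + 1) := Nat.pow_le_pow_right (by norm_num) (by omega)
  have hcG := R.card_G2 hK
  have hbase := R.card_Base hm hK
  have hlt := arith_lt (by omega) rfl hcG hbase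
  have hM1 : MM m ≠ 1 := by
    rw [MM]
    have : 0 < 3 ^ (2 * m + 1) * (3 ^ (2 * m + 1) - 1) := Nat.mul_pos (by omega) (by omega)
    omega
  have hexp : ∀ {l : ℕ}, l.Prime → l ∣ MM m → ∃ x : G, orderOf x = l := by
    intro l hl h
    have hlf : Fact l.Prime := ⟨hl⟩
    exact exists_prime_orderOf_dvd_card' l (by
      rw [hcG]
      exact ((h.mul_left _).mul_left _).mul_left _)
  have h6 : ∀ n : ℕ, n ∣ 6 → n ≤ 3 ∨ n = 6 := by
    intro n hn
    have h1 := Nat.le_of_dvd (by norm_num) hn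
    interval_cases n
    · left; norm_num
    · left; norm_num
    · left; norm_num
    · left; norm_num
    · norm_num at hn
    · norm_num at hn
    · right; rfl
  -- the first class
  obtain ⟨p₁, hp₁, hpM₁⟩ := Nat.exists_prime_and_dvd hM1
  obtain ⟨x₁, hx₁⟩ := hexp hp₁ hpM₁
  obtain ⟨n₁, hn₁, hN₁, hA₁⟩ := R.card_SA hK ρ hρ hp₁ hpM₁ hx₁
  have hge₁ := R.cenM_ge hK ρ hρ hp₁ hpM₁ hx₁
  have hdisj₁ := R.Base_disj_SA hK hp₁ hpM₁ hx₁
  obtain ⟨t, ht⟩ := R.cenM_card hK hp₁ hpM₁ hx₁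
  have hn₁6 : n₁ ≤ 6 := Nat.le_of_dvd (by norm_num) hn₁
  have ht1 : t ≠ 1 := by
    rintro rfl
    rw [mul_one] at ht
    -- everything is in one class
    have hall : R.Base ∪ SA x₁ = Set.univ := by
      rw [Set.eq_univ_iff_forall]
      intro y
      rcases R.cases_all hK y with h | h | h | h | h | ⟨l, hl, hlM, hly⟩
      · exact Or.inl (Or.inl (Or.inl (Or.inl (Or.inl h))))
      · exact Or.inl (Or.inl (Or.inl (Or.inl (Or.inr h))))
      · exact Or.inl (Or.inl (Or.inl (Or.inr h)))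
      · exact Or.inl (Or.inl (Or.inr h))
      · exact Or.inl (Or.inr h)
      · exact Or.inr (R.SA_mem hK ρ hρ hp₁ hpM₁ hx₁ hl (by rw [← ht]; exact hlM) hly)
    have hsum : R.Base.ncard + (SA x₁).ncard = Nat.card G := by
      rw [← Set.ncard_union_eq hdisj₁, hall, Set.ncard_univ]
    rw [← ht] at hA₁
    exact arith_one (by omega) rfl hcG hbase hA₁ hsum
  -- the second class
  obtain ⟨p₂, hp₂, hpt₂⟩ := Nat.exists_prime_and_dvd ht1
  have hpM₂ : p₂ ∣ MM m := by rw [ht]; exact hpt₂.mul_left _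
  have hp₂a₁ : ¬ p₂ ∣ Nat.card (Subgroup.centralizer ({x₁} : Set G)) :=
    R.new_prime hK ρ hρ hp₁ hpM₁ hx₁ (t := t) (by rw [← ht]) hp₂ hpt₂
  obtain ⟨x₂, hx₂⟩ := hexp hp₂ hpM₂
  obtain ⟨n₂, hn₂, hN₂, hA₂⟩ := R.card_SA hK ρ hρ hp₂ hpM₂ hx₂
  have hge₂ := R.cenM_ge hK ρ hρ hp₂ hpM₂ hx₂
  have hdisj₂ := R.Base_disj_SA hK hp₂ hpM₂ hx₂
  have hn₂6 : n₂ ≤ 6 := Nat.le_of_dvd (by norm_num) hn₂
  have hcop : (Nat.card (Subgroup.centralizer ({x₁} : Set G))).Coprime (Nat.card (Subgroup.centralizer ({x₂} : Set G))) := by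
    apply Nat.coprime_of_dvd
    intro l hl h1 h2
    exact hp₂a₁ (R.cenM_same hK ρ hρ hp₁ hpM₁ hx₁ hp₂ hpM₂ hx₂ hl h1 h2)
  have hdisj₁₂ := R.SA_disj hK hcop
  have hmul : Nat.card (Subgroup.centralizer ({x₁} : Set G)) * Nat.card (Subgroup.centralizer ({x₂} : Set G)) ∣ MM m :=
    hcop.mul_dvd_of_dvd_of_dvd (R.cenM_card hK hp₁ hpM₁ hx₁) (R.cenM_card hK hp₂ hpM₂ hx₂)
  have hdisj3 : Disjoint (R.Base ∪ SA x₁) (SA x₂) := Set.disjoint_union_left.2 ⟨hdisj₂, hdisj₁₂⟩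
  have hlow₁ := arith_low hn₁6 hge₁ hA₁
  have hlow₂ := arith_low hn₂6 hge₂ hA₂
  -- the product
  obtain ⟨t', ht'⟩ := hmul
  have ht'1 : t' = 1 := by
    by_contra hne
    obtain ⟨p₃, hp₃, hpt₃⟩ := Nat.exists_prime_and_dvd hne
    have hpM₃ : p₃ ∣ MM m := by rw [ht']; exact hpt₃.mul_left _
    have h31 : ¬ p₃ ∣ Nat.card (Subgroup.centralizer ({x₁} : Set G)) :=
      R.new_prime hK ρ hρ hp₁ hpM₁ hx₁ (t := t')
        ⟨Nat.card (Subgroup.centralizer ({x₂} : Set G)), by rw [ht']; ring⟩ hp₃ hpt₃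
    have h32 : ¬ p₃ ∣ Nat.card (Subgroup.centralizer ({x₂} : Set G)) :=
      R.new_prime hK ρ hρ hp₂ hpM₂ hx₂ (t := t')
        ⟨Nat.card (Subgroup.centralizer ({x₁} : Set G)), by rw [ht']; ring⟩ hp₃ hpt₃
    obtain ⟨x₃, hx₃⟩ := hexp hp₃ hpM₃
    obtain ⟨n₃, hn₃, hN₃, hA₃⟩ := R.card_SA hK ρ hρ hp₃ hpM₃ hx₃
    have hge₃ := R.cenM_ge hK ρ hρ hp₃ hpM₃ hx₃
    have hdisj₃ := R.Base_disj_SA hK hp₃ hpM₃ hx₃
    have hn₃6 : n₃ ≤ 6 := Nat.le_of_dvd (by norm_num) hn₃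
    have hcop₁ : (Nat.card (Subgroup.centralizer ({x₁} : Set G))).Coprime
        (Nat.card (Subgroup.centralizer ({x₃} : Set G))) := by
      apply Nat.coprime_of_dvd
      intro l hl h1 h2
      exact h31 (R.cenM_same hK ρ hρ hp₁ hpM₁ hx₁ hp₃ hpM₃ hx₃ hl h1 h2)
    have hcop₂ : (Nat.card (Subgroup.centralizer ({x₂} : Set G))).Coprime
        (Nat.card (Subgroup.centralizer ({x₃} : Set G))) := by
      apply Nat.coprime_of_dvd
      intro l hl h1 h2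
      exact h32 (R.cenM_same hK ρ hρ hp₂ hpM₂ hx₂ hp₃ hpM₃ hx₃ hl h1 h2)
    have hdisj4 : Disjoint (R.Base ∪ SA x₁ ∪ SA x₂) (SA x₃) :=
      Set.disjoint_union_left.2 ⟨Set.disjoint_union_left.2 ⟨hdisj₃, R.SA_disj hK hcop₁⟩, R.SA_disj hK hcop₂⟩
    have hlow₃ := arith_low hn₃6 hge₃ hA₃
    have hsum : R.Base.ncard + (SA x₁).ncard + (SA x₂).ncard + (SA x₃).ncard ≤ Nat.card G := by
      rw [← Set.ncard_union_eq hdisj₁, ← Set.ncard_union_eq hdisj3, ← Set.ncard_union_eq hdisj4, ← Set.ncard_univ]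
      exact Set.ncard_le_ncard (Set.subset_univ _)
    omega
  rw [ht'1, mul_one] at ht'
  -- the sum
  have hall : R.Base ∪ SA x₁ ∪ SA x₂ = Set.univ := by
    rw [Set.eq_univ_iff_forall]
    intro y
    rcases R.cases_all hK y with h | h | h | h | h | ⟨l, hl, hlM, hly⟩
    · exact Or.inl (Or.inl (Or.inl (Or.inl (Or.inl (Or.inl h)))))
    · exact Or.inl (Or.inl (Or.inl (Or.inl (Or.inl (Or.inr h)))))
    · exact Or.inl (Or.inl (Or.inl (Or.inl (Or.inr h))))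
    · exact Or.inl (Or.inl (Or.inl (Or.inr h)))
    · exact Or.inl (Or.inl (Or.inr h))
    · rw [ht'] at hlM
      rcases (Nat.Prime.dvd_mul hl).1 hlM with h | h
      · exact Or.inl (Or.inr (R.SA_mem hK ρ hρ hp₁ hpM₁ hx₁ hl h hly))
      · exact Or.inr (R.SA_mem hK ρ hρ hp₂ hpM₂ hx₂ hl h hly)
  have hsum : R.Base.ncard + (SA x₁).ncard + (SA x₂).ncard = Nat.card G := by
    rw [← Set.ncard_union_eq hdisj₁, ← Set.ncard_union_eq hdisj3, hall, Set.ncard_univ]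
  have hn₁' : n₁ = 6 := by
    rcases h6 n₁ hn₁ with h | h
    · exfalso
      have := arith_low3 h hge₁ hA₁
      omega
    · exact h
  have hn₂' : n₂ = 6 := by
    rcases h6 n₂ hn₂ with h | h
    · exfalso
      have := arith_low3 h hge₂ hA₂
      omega
    · exact h
  subst hn₁' hn₂'
  refine ⟨x₁, x₂, p₁, p₂, hp₁, hpM₁, hx₁, hp₂, hpM₂, hx₂, ht'.symm, ?_, hN₁, hN₂⟩
  exact arith_two (by omega) rfl hcG hbase hA₁ hA₂ hsum ht'.symm

/-- S1158 -/
theorem hall_subgroups :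
    ∀ kn ∈ ({((3 ^ (2 * m + 1) - 1) / 2, 2 * (3 ^ (2 * m + 1) - 1)), ((3 ^ (2 * m + 1) + 1) / 4, 6 * (3 ^ (2 * m + 1) + 1)),
        (3 ^ (2 * m + 1) - 3 ^ (m + 1) + 1, 6 * (3 ^ (2 * m + 1) - 3 ^ (m + 1) + 1)),
        (3 ^ (2 * m + 1) + 3 ^ (m + 1) + 1, 6 * (3 ^ (2 * m + 1) + 3 ^ (m + 1) + 1))} : Set (ℕ × ℕ)),
      ∃ A : Subgroup G, IsCyclic A ∧ Nat.card A = kn.1 ∧
        Nat.card (Subgroup.normalizer (A : Set G)) = kn.2 ∧
        ∀ A₀ : Subgroup G, A₀ ≤ A → A₀ ≠ ⊥ →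
          Subgroup.normalizer (A₀ : Set G) = Subgroup.normalizer (A : Set G) := by
  have hq27 : 27 ≤ 3 ^ (2 * m + 1) := by
    calc 27 = 3 ^ 3 := rfl
      _ ≤ 3 ^ (2 * m + 1) := Nat.pow_le_pow_right (by norm_num) (by omega)
  -- the two tori
  obtain ⟨x₁, x₂, p₁, p₂, hp₁, hpM₁, hx₁, hp₂, hpM₂, hx₂, hmul, hadd, hN₁, hN₂⟩ := R.exists_two' hm hK ρ hρ
  have hr : (3 ^ (m + 1)) ^ 2 = 3 * 3 ^ (2 * m + 1) := by
    rw [← pow_mul, ← pow_succ']; congr 1; ring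
  have hfin := arith_final hr hadd (by omega) hmul
  have tor : ∀ (p : ℕ) (x : G), p.Prime → p ∣ MM m → orderOf x = p →
      Nat.card (Subgroup.normalizer (Subgroup.centralizer ({x} : Set G) : Set G)) =
        6 * Nat.card (Subgroup.centralizer ({x} : Set G)) → ∀ k, Nat.card (Subgroup.centralizer ({x} : Set G)) = k →
      ∃ A : Subgroup G, IsCyclic A ∧ Nat.card A = k ∧ Nat.card (Subgroup.normalizer (A : Set G)) = 6 * k ∧
        ∀ A₀ : Subgroup G, A₀ ≤ A → A₀ ≠ ⊥ →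
          Subgroup.normalizer (A₀ : Set G) = Subgroup.normalizer (A : Set G) := by
    intro p x hp hpM hx hN k hk
    exact ⟨_, R.cenM_cyclic hK hp hpM hx ρ hρ, hk, by rw [hN, hk], fun A₀ h h0 => R.norm_cenM hK ρ hρ hp hpM hx h h0⟩
  rintro kn hkn
  simp only [Set.mem_insert_iff, Set.mem_singleton_iff] at hkn
  rcases hkn with rfl | rfl | rfl | rfl
  · have hA : R.A2 (m := m) ≠ ⊥ := by
      intro h
      have h1 := R.card_A2 hK
      rw [h, Subgroup.card_bot] at h1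
      omega
    exact ⟨R.A2 (m := m), R.A2_cyclic, R.card_A2 hK, R.card_norm_A2 hK le_rfl hA, fun A₀ h h0 => by
      ext g
      rw [R.mem_norm_A2 hK h h0, R.mem_norm_A2 hK le_rfl hA]⟩
  · have hA : R.A4 hK ≠ ⊥ := by
      intro h
      obtain ⟨t, ht, ht1⟩ := R.A4_ne hK hm
      rw [h, Subgroup.mem_bot] at ht
      exact ht1 ht
    refine ⟨R.A4 hK, R.A4_cyclic hK, R.card_A4 hK, ?_, fun A₀ h h0 => ?_⟩
    · rw [R.norm_A4 hm hK le_rfl hA, R.card_norm_W0 hm hK]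
    · rw [R.norm_A4 hm hK h h0, R.norm_A4 hm hK le_rfl hA]
  · rcases hfin with ⟨h1, h2⟩ | ⟨h1, h2⟩
    · exact tor p₂ x₂ hp₂ hpM₂ hx₂ hN₂ _ (by
        change _ = 3 ^ (2 * m + 1) - 3 ^ (m + 1) + 1
        omega)
    · exact tor p₁ x₁ hp₁ hpM₁ hx₁ hN₁ _ (by
        change _ = 3 ^ (2 * m + 1) - 3 ^ (m + 1) + 1
        omega)
  · rcases hfin with ⟨h1, h2⟩ | ⟨h1, h2⟩
    · exact tor p₁ x₁ hp₁ hpM₁ hx₁ hN₁ _ (by
        change _ = 3 ^ (2 * m + 1) + 3 ^ (m + 1) + 1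
        omega)
    · exact tor p₂ x₂ hp₂ hpM₂ hx₂ hN₂ _ (by
        change _ = 3 ^ (2 * m + 1) + 3 ^ (m + 1) + 1
        omega)

end fin

end RG

end Cfsg.Agent.H6.Ree
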