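import Cfsg.Agent.H6_Ree26

/-!
The Ree groups: orders of elements.
-/

set_option autoImplicit false
set_option linter.unusedSectionVars false

namespace Cfsg.Agent.H6.Ree

open Cfsg Cfsg.Lie
open scoped Pointwise

theorem exists_order {G : Type*} [Group G] [Finite G] {g : G} {d : ℕ} (h : d ∣ orderOf g) : ∃ g' : G, orderOf g' = d := by
  have hd : d ≠ 0 := by
    rintro rfl
    exact (orderOf_pos g).ne' (zero_dvd_iff.1 h)
  refine ⟨g ^ (orderOf g / d), ?_⟩
  rw [orderOf_pow_of_dvd (Nat.div_pos (Nat.le_of_dvd (orderOf_pos g) h) (Nat.pos_of_ne_zero hd)).ne'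
    (Nat.div_dvd_of_dvd h), Nat.div_div_self h (orderOf_pos g).ne']

theorem exists_order_cyc {G : Type*} [Group G] [Finite G] (D : Subgroup G) (hD : IsCyclic D) {d : ℕ}
    (h : d ∣ Nat.card D) : ∃ g' : G, orderOf g' = d := by
  obtain ⟨c, hc⟩ := IsCyclic.exists_ofOrder_eq_natCard (α := D)
  apply exists_order (g := (c : G))
  rw [Subgroup.orderOf_coe, hc]; exact h

namespace RG

variable {K : Type*} [Field K] {G : Type*} [Group G] (R : RG K G)

include R

section fin

variable [Fintype K] [Finite G] {m : ℕ} (hm : 1 ≤ m) (hK : Fintype.card K = 3 ^ (2 * m + 1))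
  (ρ : G →* GL (Fin 7) K) (hρ : Function.Injective ρ)

include hm hK hρ

/-- S1159 -/
theorem element_orders (d : ℕ) : (∃ g : G, orderOf g = d) ↔
      (d ∣ 6 ∨ d ∣ 9 ∨ d ∣ 3 ^ (2 * m + 1) - 1 ∨ d ∣ (3 ^ (2 * m + 1) + 1) / 2 ∨
        d ∣ 3 ^ (2 * m + 1) - 3 ^ (m + 1) + 1 ∨ d ∣ 3 ^ (2 * m + 1) + 3 ^ (m + 1) + 1) := by
  have hq27 : 27 ≤ 3 ^ (2 * m + 1) := by
    calc 27 = 3 ^ 3 := rfl
      _ ≤ 3 ^ (2 * m + 1) := Nat.pow_le_pow_right (by norm_num) (by omega)
  obtain ⟨x₁, x₂, p₁, p₂, hp₁, hpM₁, hx₁, hp₂, hpM₂, hx₂, hmul, hadd, hN₁, hN₂⟩ := R.exists_two' hm hK ρ hρ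
  have hr : (3 ^ (m + 1)) ^ 2 = 3 * 3 ^ (2 * m + 1) := by
    rw [← pow_mul, ← pow_succ']; congr 1; ring
  have hfin := arith_final hr hadd (by omega) hmul
  constructor
  · rintro ⟨g, rfl⟩
    rcases R.cases_all hK g with h | h | h | h | h | ⟨l, hl, hlM, hly⟩
    · left
      rw [h, orderOf_one]
      exact one_dvd _
    · left
      rw [(R.mem_S2 hK).1 h]
      norm_num
    · obtain ⟨c, b, ⟨⟨t, u, v, s, rfl⟩, hb⟩, rfl⟩ := h
      rw [orderOf_cj]
      rcases (R.three_dvd_iff hK t u v s).1 hb with ⟨rfl, -⟩ | ⟨rfl, -⟩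
      · right; left
        rw [map_one, mul_one]
        apply orderOf_dvd_of_pow_eq_one
        have e : (R.w t u v) ^ 9 = (R.w t u v * R.w t u v * R.w t u v) * (R.w t u v * R.w t u v * R.w t u v) *
          (R.w t u v * R.w t u v * R.w t u v) := by
          simp only [pow_succ, pow_zero, one_mul, mul_assoc]
        rw [e, R.w_cube, R.w_cube, map_zero, R.w_one_iff]
        exact ⟨rfl, rfl, by ring⟩
      · left
        change orderOf (R.w t u v * R.a) ∣ 6
        apply orderOf_dvd_of_pow_eq_one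
        have e : (R.w t u v * R.a) ^ 6 = ((R.w t u v * R.a) * (R.w t u v * R.a)) * ((R.w t u v * R.a) * (R.w t u v * R.a)) *
          ((R.w t u v * R.a) * (R.w t u v * R.a)) := by
          simp only [pow_succ, pow_zero, one_mul, mul_assoc]
        rw [e, R.wa_sq, R.w_cube, map_zero, R.w_one_iff]
        exact ⟨rfl, rfl, by ring⟩
    · right; right; left
      exact (R.SH_order hK h).1
    · right; right; right; left
      exact (R.SW_order hK h).1
    · right; right; right; right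
      rw [← hmul] at hlM
      rcases (Nat.Prime.dvd_mul hl).1 hlM with h | h
      · have h1 := (R.SA_order hK (R.SA_mem hK ρ hρ hp₁ hpM₁ hx₁ hl h hly)).1
        rcases hfin with ⟨h2, h3⟩ | ⟨h2, h3⟩
        · right
          have e : 3 ^ (2 * m + 1) + 3 ^ (m + 1) + 1 = Nat.card (Subgroup.centralizer ({x₁} : Set G)) := by omega
          rw [e]; exact h1
        · left
          have e : 3 ^ (2 * m + 1) - 3 ^ (m + 1) + 1 = Nat.card (Subgroup.centralizer ({x₁} : Set G)) := by omega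
          rw [e]; exact h1
      · have h1 := (R.SA_order hK (R.SA_mem hK ρ hρ hp₂ hpM₂ hx₂ hl h hly)).1
        rcases hfin with ⟨h2, h3⟩ | ⟨h2, h3⟩
        · left
          have e : 3 ^ (2 * m + 1) - 3 ^ (m + 1) + 1 = Nat.card (Subgroup.centralizer ({x₂} : Set G)) := by omega
          rw [e]; exact h1
        · right
          have e : 3 ^ (2 * m + 1) + 3 ^ (m + 1) + 1 = Nat.card (Subgroup.centralizer ({x₂} : Set G)) := by omega
          rw [e]; exact h1
  · have h2f : Fact (Nat.Prime 2) := ⟨Nat.prime_two⟩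
    have h3f : Fact (Nat.Prime 3) := ⟨Nat.prime_three⟩
    rintro (h | h | h | h | h | h)
    · have ha : orderOf R.a = 2 := by
        rw [orderOf_eq_prime_iff, pow_two]
        exact ⟨R.aa, R.a_ne⟩
      have hw : orderOf (R.w 0 1 0) = 3 := by
        rw [orderOf_eq_prime_iff, pow_succ, pow_two, R.w_cube, map_zero, R.w_one_iff, ne_eq, R.w_one_iff]
        refine ⟨⟨rfl, rfl, by ring⟩, ?_⟩
        rintro ⟨-, h, -⟩
        exact one_ne_zero h
      have h6 : orderOf (R.a * R.w 0 1 0) = 6 := by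
        rw [(show Commute R.a (R.w 0 1 0) from R.a_w 1).orderOf_mul_eq_mul_orderOf_of_coprime (by rw [ha, hw]; norm_num),
          ha, hw]
      exact exists_order (g := R.a * R.w 0 1 0) (by rw [h6]; exact h)
    · have h9 : orderOf (R.w 1 0 0) = 3 ^ (1 + 1) := by
        apply orderOf_eq_prime_pow
        · rw [pow_one, pow_succ, pow_two, R.w_cube, R.w_one_iff]
          rintro ⟨-, -, h⟩
          rw [map_one] at h
          norm_num at h
        · have e : (R.w 1 0 0) ^ 3 ^ (1 + 1) = (R.w 1 0 0 * R.w 1 0 0 * R.w 1 0 0) * (R.w 1 0 0 * R.w 1 0 0 * R.w 1 0 0) *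
            (R.w 1 0 0 * R.w 1 0 0 * R.w 1 0 0) := by
            have : 3 ^ (1 + 1) = 9 := rfl
            rw [this]
            simp only [pow_succ, pow_zero, one_mul, mul_assoc]
          rw [e, R.w_cube, R.w_cube, map_zero, R.w_one_iff]
          exact ⟨rfl, rfl, by ring⟩
      exact exists_order (g := R.w 1 0 0) (by rw [h9]; exact h)
    · refine exists_order_cyc R.H ?_ (by rw [R.card_H, card_units' hK]; exact h)
      exact isCyclic_of_surjective R.h.rangeRestrict R.h.rangeRestrict_surjective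
    · obtain ⟨e, he, -, -, -⟩ := q_mod m
      refine exists_order_cyc R.T1 (R.T1_cyclic hK) ?_
      rw [R.card_T1 hK he]
      have : (3 ^ (2 * m + 1) + 1) / 2 = 2 * e := by omega
      rw [← this]; exact h
    · rcases hfin with ⟨h2, h3⟩ | ⟨h2, h3⟩
      · refine exists_order_cyc _ (R.cenM_cyclic hK hp₂ hpM₂ hx₂ ρ hρ) ?_
        have e : 3 ^ (2 * m + 1) - 3 ^ (m + 1) + 1 = Nat.card (Subgroup.centralizer ({x₂} : Set G)) := by omega
        rw [← e]; exact h
      · refine exists_order_cyc _ (R.cenM_cyclic hK hp₁ hpM₁ hx₁ ρ hρ) ?_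
        have e : 3 ^ (2 * m + 1) - 3 ^ (m + 1) + 1 = Nat.card (Subgroup.centralizer ({x₁} : Set G)) := by omega
        rw [← e]; exact h
    · rcases hfin with ⟨h2, h3⟩ | ⟨h2, h3⟩
      · refine exists_order_cyc _ (R.cenM_cyclic hK hp₁ hpM₁ hx₁ ρ hρ) ?_
        have e : 3 ^ (2 * m + 1) + 3 ^ (m + 1) + 1 = Nat.card (Subgroup.centralizer ({x₁} : Set G)) := by omega
        rw [← e]; exact h
      · refine exists_order_cyc _ (R.cenM_cyclic hK hp₂ hpM₂ hx₂ ρ hρ) ?_
        have e : 3 ^ (2 * m + 1) + 3 ^ (m + 1) + 1 = Nat.card (Subgroup.centralizer ({x₂} : Set G)) := by omega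
        rw [← e]; exact h

end fin

end RG

end Cfsg.Agent.H6.Ree
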