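import Cfsg.Agent.H6_Ree27

/-!
The Ree groups: the four classes of tori, packaged.
-/

set_option autoImplicit false
set_option linter.unusedSectionVars false

namespace Cfsg.Agent.H6.Ree

open Cfsg Cfsg.Lie
open scoped Pointwise

/-- a cyclic Hall subgroup `A` all of whose nontrivial elements have centraliser `C` -/
structure Tor {G : Type*} [Group G] (A C : Subgroup G) : Prop where
  cyc : IsCyclic A
  le : A ≤ C
  comm : ∀ x ∈ C, ∀ y ∈ C, x * y = y * x
  cen : ∀ x ∈ A, x ≠ 1 → ∀ y, x * y = y * x ↔ y ∈ C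
  root : ∀ y ∈ C, y ^ Nat.card A = 1 → y ∈ A
  hall : ∀ l : ℕ, l.Prime → l ∣ Nat.card A → ¬ l ∣ A.index
  norm : ∀ A₀ : Subgroup G, A₀ ≤ A → A₀ ≠ ⊥ → Subgroup.normalizer (A₀ : Set G) = Subgroup.normalizer (A : Set G)

theorem pow_card_one {G : Type*} [Group G] [Finite G] {D : Subgroup G} {x : G} (hx : x ∈ D) : x ^ Nat.card D = 1 :=
  orderOf_dvd_iff_pow_eq_one.1 (Subgroup.orderOf_dvd_natCard D hx)

/-- a subgroup of a cyclic group is determined by its order -/
theorem mem_of_pow {G : Type*} [Group G] [Finite G] {A D : Subgroup G} (hA : IsCyclic A) (hD : D ≤ A) {x : G} (hx : x ∈ A)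
    (h : x ^ Nat.card D = 1) : x ∈ D := by
  classical
  have := Fintype.ofFinite G
  have h0 : 0 < Nat.card D := Nat.card_pos
  let S : Set A := {y | y ^ Nat.card D = 1}
  have h1 : S.ncard ≤ Nat.card D := by
    have := IsCyclic.card_pow_eq_one_le (α := A) h0
    rw [Set.ncard_eq_toFinset_card']
    convert this using 2
    ext y; simp [S]
  have h2 : ((D.subgroupOf A : Subgroup A) : Set A) ⊆ S := by
    intro y hy
    have hy' : (y : G) ∈ D := hy
    change y ^ Nat.card D = 1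
    apply Subtype.ext
    exact pow_card_one hy'
  have h3 : ((D.subgroupOf A : Subgroup A) : Set A).ncard = Nat.card D :=
    Nat.card_congr (Subgroup.subgroupOfEquivOfLe hD).toEquiv
  have h4 : ((D.subgroupOf A : Subgroup A) : Set A) = S :=
    Set.eq_of_subset_of_ncard_le h2 (by rw [h3]; exact h1) (Set.toFinite _)
  have h5 : (⟨x, hx⟩ : A) ∈ S := Subtype.ext h
  rw [← h4] at h5
  exact h5

theorem eq_of_card {G : Type*} [Group G] [Finite G] {A D D' : Subgroup G} (hA : IsCyclic A) (hD : D ≤ A) (hD' : D' ≤ A)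
    (h : Nat.card D = Nat.card D') : D = D' := by
  have key : ∀ D D' : Subgroup G, D ≤ A → D' ≤ A → Nat.card D = Nat.card D' → D ≤ D' := by
    intro D D' hD hD' h x hx
    apply mem_of_pow hA hD' (hD hx)
    rw [← h]
    exact pow_card_one hx
  exact le_antisymm (key _ _ hD hD' h) (key _ _ hD' hD h.symm)

namespace Tor

variable {G : Type*} [Group G] [Finite G] {A C : Subgroup G} (h : Tor A C)

include h

theorem conj_mem {y : G} (hy : y ^ Nat.card A = 1) : ∃ c : G, c⁻¹ * y * c ∈ A := by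
  by_cases hy1 : y = 1
  · exact ⟨1, by rw [hy1]; simp⟩
  obtain ⟨l, hl, hly⟩ := Nat.exists_prime_and_dvd (mt orderOf_eq_one_iff.1 hy1)
  have hlA : l ∣ Nat.card A := hly.trans (orderOf_dvd_of_pow_eq_one hy)
  have h1 : orderOf (y ^ (orderOf y / l)) = l := by
    rw [orderOf_pow_of_dvd (Nat.div_pos (Nat.le_of_dvd (orderOf_pos y) hly) hl.pos).ne' (Nat.div_dvd_of_dvd hly),
      Nat.div_div_self hly (orderOf_pos y).ne']
  obtain ⟨c, hc⟩ := conj_into hl (h.hall l hl hlA) h1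
  refine ⟨c, ?_⟩
  have e : c⁻¹ * y ^ (orderOf y / l) * c = (c⁻¹ * y * c) ^ (orderOf y / l) := by
    have := conj_pow (i := orderOf y / l) (a := c⁻¹) (b := y)
    rw [inv_inv] at this
    exact this.symm
  have hne : c⁻¹ * y ^ (orderOf y / l) * c ≠ 1 := by
    intro h0
    have h2 : y ^ (orderOf y / l) = 1 := by
      calc y ^ (orderOf y / l) = c * (c⁻¹ * y ^ (orderOf y / l) * c) * c⁻¹ := by group
        _ = 1 := by rw [h0]; group
    rw [h2, orderOf_one] at h1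
    exact hl.one_lt.ne h1
  apply h.root
  · rw [← h.cen _ hc hne, e]
    exact (Commute.refl _).pow_left _
  · have := conj_pow (i := Nat.card A) (a := c⁻¹) (b := y)
    rw [inv_inv] at this
    rw [this, hy]; group

/-- fusion -/
theorem mem_norm {x g : G} (hx : x ∈ A) (hx1 : x ≠ 1) (hg : g * x * g⁻¹ ∈ A) : g ∈ Subgroup.normalizer (A : Set G) := by
  have h1 : Subgroup.zpowers x ≤ A := by rwa [Subgroup.zpowers_le]
  have h2 : (Subgroup.zpowers x).map (MulAut.conj g).toMonoidHom ≤ A := by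
    rw [MonoidHom.map_zpowers, Subgroup.zpowers_le]; exact hg
  have h3 : (Subgroup.zpowers x).map (MulAut.conj g).toMonoidHom = Subgroup.zpowers x := by
    apply eq_of_card h.cyc h2 h1
    exact Nat.card_congr (Subgroup.equivMapOfInjective _ _ (MulAut.conj g).injective).toEquiv.symm
  rw [← h.norm _ h1 (by rwa [ne_eq, Subgroup.zpowers_eq_bot])]
  apply Subgroup.mem_normalizer_fintype
  intro y hy
  rw [← h3]
  exact ⟨y, hy, rfl⟩

/-- two cyclic subgroups of the same order dividing `#A` are conjugate -/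
theorem conj_cyc {D : Subgroup G} (hD : IsCyclic D) (hd : Nat.card D ∣ Nat.card A) :
    ∃ c : G, D.map (MulAut.conj c⁻¹).toMonoidHom ≤ A := by
  obtain ⟨y, hy⟩ := hD.exists_generator
  have hyA : (y : G) ^ Nat.card A = 1 := by
    obtain ⟨k, hk⟩ := hd
    rw [hk, pow_mul]
    rw [pow_card_one y.2, one_pow]
  obtain ⟨c, hc⟩ := h.conj_mem hyA
  refine ⟨c, ?_⟩
  rintro _ ⟨x, hx, rfl⟩
  obtain ⟨k, hk⟩ := Subgroup.mem_zpowers_iff.1 (hy ⟨x, hx⟩)
  have hx' : x = (y : G) ^ k := (congrArg Subtype.val hk).symm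
  rw [hx', map_zpow]
  apply A.zpow_mem
  change c⁻¹ * y * c⁻¹⁻¹ ∈ A
  rwa [inv_inv]

theorem conj_of_card {D D' : Subgroup G} (hD : IsCyclic D) (hD' : IsCyclic D') (hd : Nat.card D ∣ Nat.card A)
    (hdd : Nat.card D = Nat.card D') : ∃ g : G, D' = D.map (MulAut.conj g).toMonoidHom := by
  obtain ⟨c, hc⟩ := h.conj_cyc hD hd
  obtain ⟨c', hc'⟩ := h.conj_cyc hD' (hdd ▸ hd)
  have h1 : D.map (MulAut.conj c⁻¹).toMonoidHom = D'.map (MulAut.conj c'⁻¹).toMonoidHom := by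
    apply eq_of_card h.cyc hc hc'
    rw [← Nat.card_congr (Subgroup.equivMapOfInjective D _ (MulAut.conj c⁻¹).injective).toEquiv,
      ← Nat.card_congr (Subgroup.equivMapOfInjective D' _ (MulAut.conj c'⁻¹).injective).toEquiv, hdd]
  refine ⟨c' * c⁻¹, ?_⟩
  have h2 : D' = (D'.map (MulAut.conj c'⁻¹).toMonoidHom).map (MulAut.conj c').toMonoidHom := by
    rw [Subgroup.map_map]
    conv_lhs => rw [← Subgroup.map_id D']
    congr 1
    ext x
    simp [mul_assoc]
  rw [h2, ← h1, Subgroup.map_map]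
  congr 1
  ext x
  simp [mul_assoc]

/-- counting elements of a given order -/
theorem count {i : ℕ} (hi : 1 < i) (hiA : i ∣ Nat.card A) :
    Nat.card {g : G // orderOf g = i} * Nat.card (Subgroup.normalizer (A : Set G)) = Nat.card G * Nat.totient i := by
  classical
  have := Fintype.ofFinite G
  have hX : ({x : G | x ∈ A ∧ orderOf x = i}).ncard = Nat.totient i := by
    have h1 := h.cyc.card_orderOf_eq_totient (α := A) (d := i) (by rwa [← Nat.card_eq_fintype_card])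
    rw [← h1]
    have h2 : ({x : G | x ∈ A ∧ orderOf x = i}) = Subtype.val '' {x : A | orderOf x = i} := by
      ext x
      constructor
      · rintro ⟨hx, ho⟩
        exact ⟨⟨x, hx⟩, by rw [Set.mem_ofPred_eq, ← Subgroup.orderOf_coe]; exact ho, rfl⟩
      · rintro ⟨y, hy, rfl⟩
        exact ⟨y.2, by rw [Subgroup.orderOf_coe]; exact hy⟩
    rw [h2, Set.ncard_image_of_injective _ Subtype.val_injective, Set.ncard_eq_toFinset_card']
    congr 1
    ext x; simp
  have hne : ∀ x : G, orderOf x = i → x ≠ 1 := by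
    rintro x hx rfl
    rw [orderOf_one] at hx
    omega
  have h3 : {g : G | orderOf g = i} = cj {x : G | x ∈ A ∧ orderOf x = i} := by
    ext g
    constructor
    · intro hg
      have hg' : orderOf g = i := hg
      obtain ⟨c, hc⟩ := h.conj_mem (y := g) (by rw [← orderOf_dvd_iff_pow_eq_one, hg']; exact hiA)
      apply cj_of (c := c)
      refine ⟨hc, ?_⟩
      have := orderOf_cj (g := c⁻¹) (x := g)
      rw [inv_inv] at this
      rw [this]; exact hg'
    · rintro ⟨c, x, ⟨hx, ho⟩, rfl⟩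
      change orderOf (c * x * c⁻¹) = i
      rw [orderOf_cj]; exact ho
  have h4 := card_cj (Subgroup.normalizer (A : Set G)) {x : G | x ∈ A ∧ orderOf x = i}
    (fun g hg x hx => ⟨(Subgroup.mem_normalizer_iff.1 hg x).1 hx.1, by rw [orderOf_cj]; exact hx.2⟩)
    (fun x hx g hg => h.mem_norm hx.1 (hne x hx.2) hg.1)
  rw [hX, ← h3] at h4
  exact h4

end Tor

namespace RG

variable {K : Type*} [Field K] {G : Type*} [Group G] (R : RG K G)

include R

section fin

variable [Fintype K] [Finite G] {m : ℕ} (hm : 1 ≤ m) (hK : Fintype.card K = 3 ^ (2 * m + 1))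
  (ρ : G →* GL (Fin 7) K) (hρ : Function.Injective ρ)

include hK

theorem tor_A2 : Tor (R.A2 (m := m)) R.H where
  cyc := R.A2_cyclic
  le := by
    intro x hx
    obtain ⟨s, -, rfl⟩ := R.mem_A2.1 hx
    exact R.h_mem s
  comm := by
    rintro x hx y hy
    obtain ⟨s, rfl⟩ := R.mem_H.1 hx
    obtain ⟨t, rfl⟩ := R.mem_H.1 hy
    rw [← map_mul, ← map_mul, mul_comm]
  cen := by
    intro x hx hx1 y
    obtain ⟨s, hs1, hs2, rfl⟩ := R.A2_pm hK hx hx1
    exact R.cen_H hs1 hs2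
  root := by
    intro y hy h
    obtain ⟨s, rfl⟩ := R.mem_H.1 hy
    rw [R.card_A2 hK, ← map_pow, ← map_one R.h] at h
    exact R.mem_A2.2 ⟨s, R.hinj h, rfl⟩
  hall := by
    intro l hl hlA
    rw [R.card_A2 hK] at hlA
    have h2 := two_half hK
    apply R.index_A2 hK hl _ (by rw [← h2]; exact hlA.mul_left 2)
    rintro rfl
    have := half_odd hK
    omega
  norm := by
    intro A₀ h h0
    have hA : R.A2 (m := m) ≠ ⊥ := fun hA => h0 (le_bot_iff.1 (hA ▸ h))
    ext g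
    rw [R.mem_norm_A2 hK h h0, R.mem_norm_A2 hK le_rfl hA]

include hm

theorem tor_A4 : Tor (R.A4 hK) R.W0 where
  cyc := R.A4_cyclic hK
  le := fun x hx => hx.1
  comm := fun x hx y hy => R.W0_comm hK hx hy
  cen := fun x hx hx1 y => R.cen_A4 hK hx hx1
  root := fun y hy h => ⟨hy, by rw [← R.card_A4 hK]; exact h⟩
  hall := by
    intro l hl hlA
    obtain ⟨e, he, heo, he', -⟩ := q_mod m
    rw [R.card_A4 hK, he'] at hlA
    apply R.index_A4 hK hl _ (by rw [he]; exact hlA.mul_left 4)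
    rintro rfl
    exact (Nat.not_even_iff_odd.2 heo) (even_iff_two_dvd.2 hlA)
  norm := by
    intro A₀ h h0
    have hA : R.A4 hK ≠ ⊥ := fun hA => h0 (le_bot_iff.1 (hA ▸ h))
    rw [R.norm_A4 hm hK h h0, R.norm_A4 hm hK le_rfl hA]

include hρ

omit hm in
theorem tor_M {p : ℕ} (hp : p.Prime) (hpM : p ∣ MM m) {x : G} (hx : orderOf x = p) :
    Tor (Subgroup.centralizer ({x} : Set G)) (Subgroup.centralizer ({x} : Set G)) where
  cyc := R.cenM_cyclic hK hp hpM hx ρ hρ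
  le := le_rfl
  comm := by
    intro u hu v hv
    have hcyc := R.cenM_cyclic hK hp hpM hx ρ hρ
    let _ : CommGroup (Subgroup.centralizer ({x} : Set G)) := hcyc.commGroup
    exact congrArg Subtype.val (mul_comm (⟨u, hu⟩ : Subgroup.centralizer ({x} : Set G)) ⟨v, hv⟩)
  cen := by
    intro y hy hy1 z
    rw [← R.mem_cen' hK, R.cenM_TI hK ρ hρ hp hpM hx hy hy1]
  root := fun y hy _ => hy
  hall := fun l hl hlA => R.cenM_hall hK ρ hρ hp hpM hx hl hlA
  norm := fun A₀ h h0 => R.norm_cenM hK ρ hρ hp hpM hx h h0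

/-- the two tori of order `q ± r + 1` -/
theorem exists_tor_M : (∃ A : Subgroup G, Tor A A ∧ Nat.card A = 3 ^ (2 * m + 1) - 3 ^ (m + 1) + 1 ∧
      Nat.card (Subgroup.normalizer (A : Set G)) = 6 * Nat.card A) ∧
    (∃ A : Subgroup G, Tor A A ∧ Nat.card A = 3 ^ (2 * m + 1) + 3 ^ (m + 1) + 1 ∧
      Nat.card (Subgroup.normalizer (A : Set G)) = 6 * Nat.card A) ∧
    MM m = (3 ^ (2 * m + 1) - 3 ^ (m + 1) + 1) * (3 ^ (2 * m + 1) + 3 ^ (m + 1) + 1) := by
  have hq27 : 27 ≤ 3 ^ (2 * m + 1) := by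
    calc 27 = 3 ^ 3 := rfl
      _ ≤ 3 ^ (2 * m + 1) := Nat.pow_le_pow_right (by norm_num) (by omega)
  obtain ⟨x₁, x₂, p₁, p₂, hp₁, hpM₁, hx₁, hp₂, hpM₂, hx₂, hmul, hadd, hN₁, hN₂⟩ := R.exists_two' hm hK ρ hρ
  have hr : (3 ^ (m + 1)) ^ 2 = 3 * 3 ^ (2 * m + 1) := by
    rw [← pow_mul, ← pow_succ']; congr 1; ring
  have hfin := arith_final hr hadd (by omega) hmul
  rcases hfin with ⟨h1, h2⟩ | ⟨h1, h2⟩
  · have e1 : Nat.card (Subgroup.centralizer ({x₁} : Set G)) = 3 ^ (2 * m + 1) + 3 ^ (m + 1) + 1 := by omega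
    have e2 : Nat.card (Subgroup.centralizer ({x₂} : Set G)) = 3 ^ (2 * m + 1) - 3 ^ (m + 1) + 1 := by omega
    refine ⟨⟨_, R.tor_M hK ρ hρ hp₂ hpM₂ hx₂, e2, hN₂⟩, ⟨_, R.tor_M hK ρ hρ hp₁ hpM₁ hx₁, e1, hN₁⟩, ?_⟩
    rw [← hmul, e1, e2, mul_comm]
  · have e1 : Nat.card (Subgroup.centralizer ({x₂} : Set G)) = 3 ^ (2 * m + 1) + 3 ^ (m + 1) + 1 := by omega
    have e2 : Nat.card (Subgroup.centralizer ({x₁} : Set G)) = 3 ^ (2 * m + 1) - 3 ^ (m + 1) + 1 := by omega
    refine ⟨⟨_, R.tor_M hK ρ hρ hp₁ hpM₁ hx₁, e2, hN₁⟩, ⟨_, R.tor_M hK ρ hρ hp₂ hpM₂ hx₂, e1, hN₂⟩, ?_⟩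
    rw [← hmul, e1, e2]

/-- S2358 -/
theorem conj_cyclic {d : ℕ} (hd : d ∣ (3 ^ (2 * m + 1) - 1) / 2 ∨ d ∣ (3 ^ (2 * m + 1) + 1) / 4 ∨
      d ∣ 3 ^ (2 * m + 1) - 3 ^ (m + 1) + 1 ∨ d ∣ 3 ^ (2 * m + 1) + 3 ^ (m + 1) + 1)
    (A B : Subgroup G) (hA : IsCyclic A) (hB : IsCyclic B) (hAd : Nat.card A = d) (hBd : Nat.card B = d) :
    ∃ g : G, B = A.map (MulAut.conj g).toMonoidHom := by
  obtain ⟨⟨A₁, t₁, c₁, -⟩, ⟨A₂, t₂, c₂, -⟩, -⟩ := R.exists_tor_M hm hK ρ hρ
  rcases hd with h | h | h | h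
  · exact (R.tor_A2 hK).conj_of_card hA hB (by rw [hAd, R.card_A2 hK]; exact h) (hAd.trans hBd.symm)
  · exact (R.tor_A4 hm hK).conj_of_card hA hB (by rw [hAd, R.card_A4 hK]; exact h) (hAd.trans hBd.symm)
  · exact t₁.conj_of_card hA hB (by rw [hAd, c₁]; exact h) (hAd.trans hBd.symm)
  · exact t₂.conj_of_card hA hB (by rw [hAd, c₂]; exact h) (hAd.trans hBd.symm)

end fin

end RG

end Cfsg.Agent.H6.Ree
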