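import Cfsg.Agent.H6_Ree28

/-!
The Ree groups: centralisers of cyclic subgroups of order `(q-1)/2` and `(q+1)/4`; counting elements of given order.
-/

set_option autoImplicit false
set_option linter.unusedSectionVars false

namespace Cfsg.Agent.H6.Ree

open Cfsg Cfsg.Lie
open scoped Pointwise

namespace Tor

variable {G : Type*} [Group G] [Finite G] {A C : Subgroup G} (h : Tor A C)

include h

theorem cen_sub {H A₀ : Subgroup G} {g : G} (hH : H = A.map (MulAut.conj g).toMonoidHom) (hA : A₀ ≤ H) (h0 : A₀ ≠ ⊥) :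
    Subgroup.centralizer (A₀ : Set G) = C.map (MulAut.conj g).toMonoidHom := by
  subst hH
  apply le_antisymm
  · intro x hx
    obtain ⟨y, hy, hy1⟩ := (Subgroup.bot_or_exists_ne_one A₀).resolve_left h0
    obtain ⟨a, ha, hay⟩ := hA hy
    have hay' : y = g * a * g⁻¹ := hay.symm
    have h1 := Subgroup.mem_centralizer_iff.1 hx y hy
    have ha1 : a ≠ 1 := by
      rintro rfl
      apply hy1
      rw [hay']; group
    have h2 : a * (g⁻¹ * x * g) = (g⁻¹ * x * g) * a := by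
      calc a * (g⁻¹ * x * g) = g⁻¹ * (y * x) * g := by rw [hay']; group
        _ = g⁻¹ * (x * y) * g := by rw [h1]
        _ = _ := by rw [hay']; group
    refine ⟨g⁻¹ * x * g, (h.cen a ha ha1 _).1 h2, ?_⟩
    change g * (g⁻¹ * x * g) * g⁻¹ = x
    group
  · rintro _ ⟨c, hc, rfl⟩
    rw [Subgroup.mem_centralizer_iff]
    intro y hy
    obtain ⟨a, ha, rfl⟩ := hA hy
    rw [← map_mul, ← map_mul, h.comm a (h.le ha) c hc]

end Tor

namespace RG

variable {K : Type*} [Field K] {G : Type*} [Group G] (R : RG K G)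

include R

section fin

variable [Fintype K] [Finite G] {m : ℕ} (hm : 1 ≤ m) (hK : Fintype.card K = 3 ^ (2 * m + 1))

include hK

include hm

theorem cen_split {H : Subgroup G} (hH : IsCyclic H) (hc : Nat.card H = (3 ^ (2 * m + 1) - 1) / 2) :
      IsCyclic ↥(Subgroup.centralizer (H : Set G)) ∧
        Nat.card ↥(Subgroup.centralizer (H : Set G)) = 3 ^ (2 * m + 1) - 1 ∧
        ∀ A : Subgroup G, A ≤ H → A ≠ ⊥ → Subgroup.centralizer (A : Set G) = Subgroup.centralizer (H : Set G) := by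
  have hq27 : 27 ≤ 3 ^ (2 * m + 1) := by
    calc 27 = 3 ^ 3 := rfl
      _ ≤ 3 ^ (2 * m + 1) := Nat.pow_le_pow_right (by norm_num) (by omega)
  have ht := R.tor_A2 hK
  obtain ⟨g, hg⟩ := ht.conj_of_card ht.cyc hH dvd_rfl ((R.card_A2 hK).trans hc.symm)
  have h0 : H ≠ ⊥ := by
    intro h0
    rw [h0, Subgroup.card_bot] at hc
    omega
  have h1 := ht.cen_sub hg le_rfl h0
  refine ⟨?_, ?_, fun A hA hA0 => (ht.cen_sub hg hA hA0).trans h1.symm⟩
  · rw [h1]
    have hHc : IsCyclic R.H := isCyclic_of_surjective R.h.rangeRestrict R.h.rangeRestrict_surjective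
    exact isCyclic_of_surjective ((MulAut.conj g).toMonoidHom.subgroupMap R.H) ((MulAut.conj g).toMonoidHom.subgroupMap_surjective _)
  · rw [h1, ← Nat.card_congr (Subgroup.equivMapOfInjective _ _ (MulAut.conj g).injective).toEquiv, R.card_H, card_units' hK]

theorem cen_nonsplit {H : Subgroup G} (hH : IsCyclic H) (hc : Nat.card H = (3 ^ (2 * m + 1) + 1) / 4) :
      IsMulCommutative ↥(Subgroup.centralizer (H : Set G)) ∧
        Nat.card ↥(Subgroup.centralizer (H : Set G)) = 3 ^ (2 * m + 1) + 1 ∧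
        (∀ x ∈ Subgroup.centralizer (H : Set G), orderOf x ≠ 4) ∧
        ∀ A : Subgroup G, A ≤ H → A ≠ ⊥ → Subgroup.centralizer (A : Set G) = Subgroup.centralizer (H : Set G) := by
  have hq27 : 27 ≤ 3 ^ (2 * m + 1) := by
    calc 27 = 3 ^ 3 := rfl
      _ ≤ 3 ^ (2 * m + 1) := Nat.pow_le_pow_right (by norm_num) (by omega)
  have ht := R.tor_A4 hm hK
  obtain ⟨g, hg⟩ := ht.conj_of_card ht.cyc hH dvd_rfl ((R.card_A4 hK).trans hc.symm)
  have h0 : H ≠ ⊥ := by
    intro h0
    rw [h0, Subgroup.card_bot] at hc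
    omega
  have h1 := ht.cen_sub hg le_rfl h0
  refine ⟨?_, ?_, ?_, fun A hA hA0 => (ht.cen_sub hg hA hA0).trans h1.symm⟩
  · rw [h1]
    refine ⟨⟨?_⟩⟩
    rintro ⟨_, x, hx, rfl⟩ ⟨_, y, hy, rfl⟩
    apply Subtype.ext
    change MulAut.conj g x * MulAut.conj g y = MulAut.conj g y * MulAut.conj g x
    rw [← map_mul, ← map_mul, R.W0_comm hK hx hy]
  · rw [h1, ← Nat.card_congr (Subgroup.equivMapOfInjective _ _ (MulAut.conj g).injective).toEquiv, R.card_W0 hK]
  · rw [h1]
    rintro _ ⟨y, hy, rfl⟩ h4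
    have h5 : orderOf y = 4 := by
      rw [← h4]
      exact ((MulAut.conj g).orderOf_eq y).symm
    obtain ⟨e, he, heo, he', -⟩ := q_mod m
    have h6 := (R.W0_sq hK hy).2
    rw [he', ← pow_two, ← pow_mul, ← orderOf_dvd_iff_pow_eq_one, h5] at h6
    obtain ⟨k, hk⟩ := heo
    omega

end fin

/-! ### Counting -/

section fin

variable [Fintype K] [Finite G] {m : ℕ} (hK : Fintype.card K = 3 ^ (2 * m + 1))

include hK

theorem card_B' : Nat.card R.B = (3 ^ (2 * m + 1)) ^ 3 * (3 ^ (2 * m + 1) - 1) := by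
  rw [R.card_B, R.cardK hK, card_units' hK]

theorem q_pos : 0 < 3 ^ (2 * m + 1) - 1 := by
  have := pow_mod8 m
  omega

/-- conjugates of a subset of `B` of elements with a nontrivial power in `U` -/
theorem count_B (X : Set G) (hXB : X ⊆ R.B) (i k : ℕ) (hX : X = {b : G | b ∈ R.B ∧ orderOf b = i})
    (hk : ∀ x ∈ X, x ^ k ∈ R.U ∧ x ^ k ≠ 1) (hcov : ∀ g : G, orderOf g = i → ∃ c : G, c⁻¹ * g * c ∈ R.B) :
    Nat.card {g : G // orderOf g = i} = X.ncard * ((3 ^ (2 * m + 1)) ^ 3 + 1) := by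
  have h3 : {g : G | orderOf g = i} = cj X := by
    ext g
    constructor
    · intro hg
      have hg' : orderOf g = i := hg
      obtain ⟨c, hc⟩ := hcov g hg'
      apply cj_of (c := c)
      rw [hX]
      refine ⟨hc, ?_⟩
      have := orderOf_cj (g := c⁻¹) (x := g)
      rw [inv_inv] at this
      rw [this]; exact hg'
    · rintro ⟨c, x, hx, rfl⟩
      rw [hX] at hx
      change orderOf (c * x * c⁻¹) = i
      rw [orderOf_cj]; exact hx.2
  have h4 := card_cj R.B X (by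
    intro g hg x hx
    rw [hX] at hx ⊢
    exact ⟨mul_mem (mul_mem hg hx.1) (inv_mem hg), by rw [orderOf_cj]; exact hx.2⟩) (by
    intro x hx g hg
    obtain ⟨h1, h2⟩ := hk x hx
    obtain ⟨h5, h6⟩ := hk _ hg
    have e : (g * x * g⁻¹) ^ k = g * x ^ k * g⁻¹ := conj_pow
    rw [e] at h5
    exact R.TI h1 h2 (R.U_le_B h5) (by group))
  rw [← h3] at h4
  change Nat.card {g : G // orderOf g = i} * _ = _ at h4
  rw [R.card_B' hK, R.card_G' hK] at h4
  have hq := R.q_pos hK
  have hq0 : 0 < (3 ^ (2 * m + 1)) ^ 3 := pow_pos (pow_pos (by norm_num) _) 3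
  apply Nat.eq_of_mul_eq_mul_right (Nat.mul_pos hq0 hq)
  rw [h4]; ring

theorem orderOf_w (t u v : K) : orderOf (R.w t u v) ∣ 9 := by
  apply orderOf_dvd_of_pow_eq_one
  have e : (R.w t u v) ^ 9 = (R.w t u v * R.w t u v * R.w t u v) * (R.w t u v * R.w t u v * R.w t u v) *
    (R.w t u v * R.w t u v * R.w t u v) := by
    simp only [pow_succ, pow_zero, one_mul, mul_assoc]
  rw [e, R.w_cube, R.w_cube, map_zero, R.w_one_iff]
  exact ⟨rfl, rfl, by ring⟩

theorem w_pow_three (t u v : K) : (R.w t u v) ^ 3 = 1 ↔ t = 0 := by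
  rw [pow_succ, pow_two, R.w_cube, R.w_one_iff]
  constructor
  · rintro ⟨-, -, h⟩
    rw [neg_eq_zero, mul_eq_zero] at h
    rcases h with h | h
    · have := eq_zero_of_pow_eq_zero h
      exact (map_eq_zero R.φ).1 this
    · exact eq_zero_of_pow_eq_zero h
  · rintro rfl
    exact ⟨rfl, rfl, by ring⟩

theorem orderOf_w_three (t u v : K) : orderOf (R.w t u v) = 3 ↔ t = 0 ∧ ¬ (u = 0 ∧ v = 0) := by
  have h3f : Fact (Nat.Prime 3) := ⟨Nat.prime_three⟩
  rw [orderOf_eq_prime_iff, R.w_pow_three hK, ne_eq, R.w_one_iff]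
  constructor
  · rintro ⟨h1, h2⟩
    exact ⟨h1, fun h => h2 ⟨h1, h⟩⟩
  · rintro ⟨h1, h2⟩
    exact ⟨h1, fun h => h2 h.2⟩

theorem orderOf_w_nine (t u v : K) : orderOf (R.w t u v) = 9 ↔ t ≠ 0 := by
  have h1 := R.orderOf_w hK t u v
  rw [← not_iff_not, not_not, ← R.w_pow_three hK t u v, ← orderOf_dvd_iff_pow_eq_one]
  constructor
  · intro h
    have h2 : orderOf (R.w t u v) ∣ 3 ^ 2 := h1
    obtain ⟨k, hk, hk'⟩ := (Nat.dvd_prime_pow Nat.prime_three).1 h2
    rw [hk'] at h ⊢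
    interval_cases k
    · norm_num
    · norm_num
    · norm_num at h
  · intro h h'
    rw [h'] at h
    norm_num at h

end fin

end RG

end Cfsg.Agent.H6.Ree
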