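import Cfsg.Agent.H6_Ree2

/-!
The Ree groups: first consequences of the explicit structure.
-/

set_option autoImplicit false
set_option linter.unusedSectionVars false

namespace Cfsg.Agent.H6.Ree

open Cfsg

namespace RG

variable {K : Type*} [Field K] {G : Type*} [Group G] (R : RG K G)

include R

theorem w_zero : R.w 0 0 0 = 1 := by
  have h := R.wmul 0 0 0 0 0 0
  have e : (0 : K) - 0 ^ 3 * 0 ^ 2 = 0 := by ring
  simp only [map_zero, mul_zero, add_zero, sub_zero, e] at h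
  exact mul_eq_left.1 h

theorem w_one_iff {t u v : K} : R.w t u v = 1 ↔ t = 0 ∧ u = 0 ∧ v = 0 := by
  rw [← R.w_zero]
  exact ⟨R.winj, by rintro ⟨rfl, rfl, rfl⟩; rfl⟩

theorem two_eq : (2 : K) = -1 := by linear_combination R.char3

theorem neg_one_ne : (-1 : K) ≠ 1 := by
  intro h
  have : (1 : K) = 0 := by linear_combination R.char3 + h
  exact one_ne_zero this

theorem w_inv (t u v : K) : (R.w t u v)⁻¹ =
    R.w (-t) (-u - R.φ t ^ 3 * t) (-v - t * u - R.φ t ^ 3 * t ^ 2 - R.φ t ^ 3 * t ^ 2) := by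
  rw [inv_eq_iff_mul_eq_one, R.wmul, R.w_one_iff]
  have e : R.φ (-t) ^ 3 = -(R.φ t) ^ 3 := by rw [map_neg]; ring
  rw [e]
  refine ⟨by ring, by ring, by ring⟩

theorem w_cube (t u v : K) : R.w t u v * R.w t u v * R.w t u v = R.w 0 0 (-(R.φ t ^ 3 * t ^ 2)) := by
  rw [R.wmul, R.wmul]
  have h3 := R.char3
  congr 1
  · linear_combination t * h3
  · linear_combination (u - R.φ t ^ 3 * t) * h3
  · linear_combination (v - t * u) * h3

theorem w_mul0 (u v u' v' : K) : R.w 0 u v * R.w 0 u' v' = R.w 0 (u + u') (v + v') := by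
  rw [R.wmul]
  congr 1
  · ring
  · rw [map_zero]; ring
  · rw [map_zero]; ring

theorem w_mul_uv (t u v : K) : R.w t u v = R.w t 0 0 * R.w 0 u v := by
  rw [R.wmul]
  congr 1
  · ring
  · rw [map_zero]; ring
  · rw [map_zero]; ring

theorem hwc (s : Kˣ) (t u v : K) : R.h s * R.w t u v =
    R.w ((s : K) ^ 2 * (R.φ s ^ 3)⁻¹ * t) (R.φ s ^ 3 * (s : K)⁻¹ * u) (s * v) * R.h s := by
  rw [← R.hw]; group

theorem φs (s : Kˣ) : R.φ s ≠ 0 := by simp

/-! ### The subgroups -/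

/-- the unipotent subgroup -/
def U : Subgroup G where
  carrier := {g | ∃ t u v, g = R.w t u v}
  one_mem' := ⟨0, 0, 0, R.w_zero.symm⟩
  mul_mem' := by
    rintro _ _ ⟨t, u, v, rfl⟩ ⟨t', u', v', rfl⟩
    exact ⟨_, _, _, R.wmul _ _ _ _ _ _⟩
  inv_mem' := by
    rintro _ ⟨t, u, v, rfl⟩
    exact ⟨_, _, _, R.w_inv _ _ _⟩

theorem mem_U {g : G} : g ∈ R.U ↔ ∃ t u v, g = R.w t u v := Iff.rfl

theorem w_mem (t u v : K) : R.w t u v ∈ R.U := ⟨_, _, _, rfl⟩

/-- the torus -/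
def H : Subgroup G := R.h.range

theorem mem_H {g : G} : g ∈ R.H ↔ ∃ s, g = R.h s := by
  constructor
  · rintro ⟨s, rfl⟩; exact ⟨s, rfl⟩
  · rintro ⟨s, rfl⟩; exact ⟨s, rfl⟩

theorem h_mem (s : Kˣ) : R.h s ∈ R.H := ⟨s, rfl⟩

theorem hU (s : Kˣ) {g : G} (hg : g ∈ R.U) : R.h s * g * (R.h s)⁻¹ ∈ R.U := by
  obtain ⟨t, u, v, rfl⟩ := hg
  rw [R.hw]
  exact R.w_mem _ _ _

/-- the Borel subgroup -/
def B : Subgroup G where
  carrier := {g | ∃ t u v s, g = R.w t u v * R.h s}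
  one_mem' := ⟨0, 0, 0, 1, by rw [R.w_zero, map_one, mul_one]⟩
  mul_mem' := by
    rintro _ _ ⟨t, u, v, s, rfl⟩ ⟨t', u', v', s', rfl⟩
    have e : R.w t u v * R.h s * (R.w t' u' v' * R.h s') =
      R.w t u v * (R.h s * R.w t' u' v') * R.h s' := by group
    rw [e, R.hwc, ← mul_assoc, R.wmul, mul_assoc, ← map_mul]
    exact ⟨_, _, _, _, rfl⟩
  inv_mem' := by
    rintro _ ⟨t, u, v, s, rfl⟩
    rw [mul_inv_rev, R.w_inv, ← map_inv, R.hwc]
    exact ⟨_, _, _, _, rfl⟩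

theorem mem_B {g : G} : g ∈ R.B ↔ ∃ t u v s, g = R.w t u v * R.h s := Iff.rfl

theorem U_le_B : R.U ≤ R.B := by
  rintro _ ⟨t, u, v, rfl⟩
  exact ⟨t, u, v, 1, by rw [map_one, mul_one]⟩

theorem H_le_B : R.H ≤ R.B := by
  intro g hg
  obtain ⟨s, rfl⟩ := R.mem_H.1 hg
  exact ⟨0, 0, 0, s, by rw [R.w_zero, one_mul]⟩

theorem wB (t u v : K) : R.w t u v ∈ R.B := R.U_le_B (R.w_mem t u v)

theorem hB (s : Kˣ) : R.h s ∈ R.B := R.H_le_B (R.h_mem s)

theorem n_not_mem : R.n ∉ R.B := by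
  rintro ⟨t, u, v, s, h⟩
  exact R.nB h

theorem U_inf_H : R.U ⊓ R.H = ⊥ := by
  rw [eq_bot_iff]
  rintro g ⟨⟨t, u, v, rfl⟩, hg⟩
  obtain ⟨s, hs⟩ := R.mem_H.1 hg
  have := R.wh hs
  subst this
  rw [hs, map_one]
  exact Subgroup.mem_bot.2 rfl

theorem wh_uniq {t u v t' u' v' : K} {s s' : Kˣ} (h : R.w t u v * R.h s = R.w t' u' v' * R.h s') :
    t = t' ∧ u = u' ∧ v = v' ∧ s = s' := by
  have h1 : (R.w t' u' v')⁻¹ * R.w t u v = R.h (s' * s⁻¹) := by
    rw [map_mul, map_inv, eq_mul_inv_iff_mul_eq, mul_assoc, h]; group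
  have h2 : R.w t' u' v' ≠ R.w t u v → False := by
    intro hne
    have h3 : (R.w t' u' v')⁻¹ * R.w t u v ∈ R.U ⊓ R.H :=
      ⟨R.U.mul_mem (R.U.inv_mem (R.w_mem _ _ _)) (R.w_mem _ _ _), by rw [h1]; exact R.h_mem _⟩
    rw [R.U_inf_H, Subgroup.mem_bot, inv_mul_eq_one] at h3
    exact hne h3
  have h3 : R.w t' u' v' = R.w t u v := by
    by_contra hne
    exact h2 hne
  obtain ⟨rfl, rfl, rfl⟩ := R.winj h3
  exact ⟨rfl, rfl, rfl, R.hinj (mul_left_cancel h)⟩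

theorem n_inv : R.n⁻¹ = R.n := inv_eq_of_mul_eq_one_left R.nn

theorem nhc (s : Kˣ) : R.n * R.h s = R.h s⁻¹ * R.n := by
  rw [map_inv, ← R.nh s]; group

theorem hnc (s : Kˣ) : R.h s * R.n = R.n * R.h s⁻¹ := by
  rw [R.nhc, inv_inv]

/-- `B ∩ n U n = 1` -/
theorem n_conj_B {g : G} (hg : g ∈ R.U) (h : R.n * g * R.n ∈ R.B) : g = 1 := by
  obtain ⟨t, u, v, rfl⟩ := hg
  obtain ⟨t', u', v', s, he⟩ := h
  have h1 : R.n * R.w t u v * R.n⁻¹ = R.w t' u' v' * R.h s := by rw [R.n_inv, he]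
  rw [R.dis h1, R.w_zero]

/-- `B ∩ n B n = H` -/
theorem n_conj_B' {g : G} (hg : g ∈ R.B) (h : R.n * g * R.n ∈ R.B) : g ∈ R.H := by
  obtain ⟨t, u, v, s, rfl⟩ := hg
  have h1 : R.n * R.w t u v * R.n = R.n * (R.w t u v * R.h s) * R.n * R.h s := by
    have e : R.n * (R.w t u v * R.h s) * R.n * R.h s = R.n * R.w t u v * (R.h s * R.n) * R.h s := by group
    rw [e, R.hnc, map_inv]; group
  have h2 : R.n * R.w t u v * R.n ∈ R.B := by
    rw [h1]; exact mul_mem h (R.hB s)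
  rw [R.n_conj_B (R.w_mem t u v) h2, one_mul]
  exact R.h_mem s

theorem n_conj_H {g : G} (hg : g ∈ R.H) : R.n * g * R.n ∈ R.H := by
  obtain ⟨s, rfl⟩ := R.mem_H.1 hg
  rw [R.nhc, mul_assoc, R.nn, mul_one]
  exact R.h_mem _

theorem big_uniq {a b a' b' : G} (ha : a ∈ R.B) (hb : b ∈ R.U) (ha' : a' ∈ R.B) (hb' : b' ∈ R.U)
    (h : a * R.n * b = a' * R.n * b') : a = a' ∧ b = b' := by
  have h1 : R.n * (b * b'⁻¹) * R.n = a⁻¹ * a' := by
    calc R.n * (b * b'⁻¹) * R.n = a⁻¹ * (a * R.n * b) * b'⁻¹ * R.n := by group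
      _ = a⁻¹ * (a' * R.n * b') * b'⁻¹ * R.n := by rw [h]
      _ = a⁻¹ * a' * (R.n * R.n) := by group
      _ = a⁻¹ * a' := by rw [R.nn, mul_one]
  have h2 := R.n_conj_B (mul_mem hb (inv_mem hb')) (by rw [h1]; exact mul_mem (inv_mem ha) ha')
  have h3 : b = b' := mul_inv_eq_one.1 h2
  subst h3
  refine ⟨?_, rfl⟩
  exact mul_right_cancel (mul_right_cancel h)

theorem big_not_B {a b : G} (ha : a ∈ R.B) (hb : b ∈ R.B) : a * R.n * b ∉ R.B := by
  intro h
  apply R.n_not_mem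
  have e : R.n = a⁻¹ * (a * R.n * b) * b⁻¹ := by group
  rw [e]
  exact mul_mem (mul_mem (inv_mem ha) h) (inv_mem hb)

theorem cover (g : G) : g ∈ R.B ∨ ∃ a ∈ R.B, ∃ b ∈ R.U, g = a * R.n * b := by
  rcases R.cov g with ⟨t, u, v, s, h⟩ | ⟨t, u, v, s, t', u', v', h⟩
  · exact Or.inl ⟨t, u, v, s, h⟩
  · exact Or.inr ⟨_, ⟨t, u, v, s, rfl⟩, _, ⟨t', u', v', rfl⟩, h⟩

/-! ### Fixed points of torus elements on `U` -/

theorem φφ (x : K) : R.φ (R.φ x) ^ 3 = x := R.φ2 x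

theorem s1 {s : K} (hs : s ≠ 0) (h : s ^ 2 = R.φ s ^ 3) : s = 1 := by
  have h1 := congrArg R.φ h
  rw [map_pow, map_pow, R.φ2] at h1
  -- φ s ^ 2 = s
  have h2 : s ^ 2 = s * R.φ s := by
    calc s ^ 2 = R.φ s ^ 3 := h
      _ = R.φ s ^ 2 * R.φ s := by ring
      _ = s * R.φ s := by rw [h1]
  have h3 : s = R.φ s := by
    have : s * s = s * R.φ s := by rw [← h2]; ring
    exact mul_left_cancel₀ hs this
  rw [← h3] at h1
  have : s * s = s * 1 := by rw [← pow_two, h1, mul_one]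
  exact mul_left_cancel₀ hs this

theorem s2 {s : K} (hs : s ≠ 0) (h : R.φ s ^ 3 = s) : s = 1 ∨ s = -1 := by
  have h1 := congrArg R.φ h
  rw [map_pow, R.φ2] at h1
  rw [← h1] at h
  have h2 : (s - 1) * (s + 1) = 0 := by
    have : s * (s ^ 2) = s * 1 := by rw [mul_one]; linear_combination h
    have := mul_left_cancel₀ hs this
    linear_combination this
  rcases mul_eq_zero.1 h2 with h3 | h3
  · left; linear_combination h3
  · right; linear_combination h3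

theorem h_comm_iff (s : Kˣ) (t u v : K) : R.h s * R.w t u v = R.w t u v * R.h s ↔
    (t = 0 ∨ s = 1) ∧ (u = 0 ∨ s = 1 ∨ s = -1) ∧ (v = 0 ∨ s = 1) := by
  have hs : (s : K) ≠ 0 := s.ne_zero
  have hφs : R.φ (s : K) ≠ 0 := by simp
  have e1 : ∀ {a : K}, (s : K) = a → ∀ b : Kˣ, (b : K) = a → s = b := fun h b hb => Units.ext (h.trans hb.symm)
  rw [R.hwc]
  constructor
  · intro h
    have h1 := R.winj (mul_right_cancel h)
    obtain ⟨h1, h2, h3⟩ := h1
    refine ⟨?_, ?_, ?_⟩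
    · by_cases ht : t = 0
      · exact Or.inl ht
      · right
        have h4 : (s : K) ^ 2 * (R.φ s ^ 3)⁻¹ = 1 := by
          have : (s : K) ^ 2 * (R.φ s ^ 3)⁻¹ * t = 1 * t := by rw [h1, one_mul]
          exact mul_right_cancel₀ ht this
        have h5 : (s : K) ^ 2 = R.φ s ^ 3 := by field_simp at h4; exact h4
        exact Units.ext (R.s1 hs h5)
    · by_cases hu : u = 0
      · exact Or.inl hu
      · right
        have h4 : R.φ s ^ 3 * (s : K)⁻¹ = 1 := by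
          have : R.φ s ^ 3 * (s : K)⁻¹ * u = 1 * u := by rw [h2, one_mul]
          exact mul_right_cancel₀ hu this
        have h5 : R.φ s ^ 3 = s := by field_simp at h4; exact h4
        rcases R.s2 hs h5 with h6 | h6
        · exact Or.inl (Units.ext h6)
        · exact Or.inr (Units.ext (by rw [h6]; simp))
    · by_cases hv : v = 0
      · exact Or.inl hv
      · right
        have : (s : K) * v = 1 * v := by rw [h3, one_mul]
        exact Units.ext (mul_right_cancel₀ hv this)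
  · rintro ⟨h1, h2, h3⟩
    congr 2
    · rcases h1 with rfl | rfl
      · ring
      · simp
    · rcases h2 with rfl | rfl | rfl
      · ring
      · simp
      · simp
        ring
    · rcases h3 with rfl | rfl
      · ring
      · simp

/-- the involution of the torus -/
def a : G := R.h (-1)

theorem a_def : R.a = R.h (-1) := rfl

theorem aa : R.a * R.a = 1 := by
  rw [a_def, ← map_mul]
  simp

theorem a_ne : R.a ≠ 1 := by
  intro h
  rw [a_def, ← map_one R.h] at h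
  have h1 := congrArg Units.val (R.hinj h)
  rw [Units.val_neg, Units.val_one] at h1
  exact R.neg_one_ne h1

theorem a_comm_iff (t u v : K) : R.a * R.w t u v = R.w t u v * R.a ↔ t = 0 ∧ v = 0 := by
  have h1 : (-1 : Kˣ) ≠ 1 := fun h => R.neg_one_ne (by
    have := congrArg Units.val h
    rwa [Units.val_neg, Units.val_one] at this)
  rw [a_def, R.h_comm_iff]
  simp [h1]

end RG

end Cfsg.Agent.H6.Ree
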