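import Cfsg.Agent.H6_Ree29

/-!
The Ree groups: the numbers of elements of order 2, 3, 6, 9.
-/

set_option autoImplicit false
set_option linter.unusedSectionVars false

namespace Cfsg.Agent.H6.Ree

open Cfsg Cfsg.Lie
open scoped Pointwise

theorem ncard_image {α β : Type*} {f : α → β} (hf : Function.Injective f) (p : α → Prop) {X : Set β}
    (h : ∀ x, x ∈ X ↔ ∃ a, p a ∧ x = f a) : X.ncard = Nat.card {a // p a} := by
  have h1 : X = f '' {a | p a} := by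
    ext x
    rw [h]
    constructor
    · rintro ⟨a, ha, rfl⟩; exact ⟨a, ha, rfl⟩
    · rintro ⟨a, ha, rfl⟩; exact ⟨a, ha, rfl⟩
  rw [h1, Set.ncard_image_of_injective _ hf]
  rfl

namespace RG

variable {K : Type*} [Field K] {G : Type*} [Group G] (R : RG K G)

include R

section fin

variable [Fintype K] [Finite G] {m : ℕ} (hK : Fintype.card K = 3 ^ (2 * m + 1))

include hK

omit [Finite G] R in
theorem card_ne_zero' : Nat.card {t : K // t ≠ 0} = 3 ^ (2 * m + 1) - 1 := by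
  rw [← card_units' hK]
  exact (Nat.card_congr unitsEquivNeZero).symm

theorem count_two : Nat.card {g : G // orderOf g = 2} =
    (3 ^ (2 * m + 1)) ^ 2 * ((3 ^ (2 * m + 1)) ^ 2 - 3 ^ (2 * m + 1) + 1) := by
  have h1 := R.card_S2 hK
  have h2 : R.S2 = {g : G | orderOf g = 2} := Set.ext fun y => R.mem_S2 hK
  rw [h2, R.card_G2 hK] at h1
  change Nat.card {g : G // orderOf g = 2} * _ = _ at h1
  have hq := R.q_pos hK
  have hM : MM m = (3 ^ (2 * m + 1)) ^ 2 - 3 ^ (2 * m + 1) + 1 := by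
    have h3 := MM_eq m
    have h4 : 3 ^ (2 * m + 1) ≤ (3 ^ (2 * m + 1)) ^ 2 := Nat.le_self_pow two_ne_zero _
    omega
  rw [← hM]
  have hq0 : 0 < 3 ^ (2 * m + 1) := pow_pos (by norm_num) _
  apply Nat.eq_of_mul_eq_mul_right (Nat.mul_pos (Nat.mul_pos hq0 hq) (Nat.succ_pos (3 ^ (2 * m + 1))))
  rw [Nat.succ_eq_add_one, h1]; ring

theorem count_three : Nat.card {g : G // orderOf g = 3} =
    ((3 ^ (2 * m + 1)) ^ 2 - 1) * ((3 ^ (2 * m + 1)) ^ 3 + 1) := by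
  have h3f : Fact (Nat.Prime 3) := ⟨Nat.prime_three⟩
  have hmem : ∀ b : G, (b ∈ R.B ∧ orderOf b = 3) ↔ ∃ p : K × K, p ≠ 0 ∧ b = R.w 0 p.1 p.2 := by
    intro b
    constructor
    · rintro ⟨hb, ho⟩
      obtain ⟨t, u, v, rfl⟩ := R.B_three hK hb (by rw [← ho]; exact pow_orderOf_eq_one b)
      obtain ⟨rfl, h⟩ := (R.orderOf_w_three hK t u v).1 ho
      exact ⟨(u, v), fun h0 => h ⟨congrArg Prod.fst h0, congrArg Prod.snd h0⟩, rfl⟩
    · rintro ⟨⟨u, v⟩, h0, rfl⟩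
      exact ⟨R.wB _ _ _, (R.orderOf_w_three hK _ _ _).2 ⟨rfl, fun h => h0 (Prod.ext h.1 h.2)⟩⟩
  have hc : ({b : G | b ∈ R.B ∧ orderOf b = 3}).ncard = (3 ^ (2 * m + 1)) ^ 2 - 1 := by
    rw [ncard_image (X := {b : G | b ∈ R.B ∧ orderOf b = 3}) (f := fun p : K × K => R.w 0 p.1 p.2) (fun p p' h => by
      obtain ⟨-, h1, h2⟩ := R.winj h
      exact Prod.ext h1 h2) (fun p => p ≠ 0) hmem]
    classical
    rw [Nat.card_eq_fintype_card, Fintype.card_subtype_compl, Fintype.card_prod, hK, Fintype.card_subtype_eq, pow_two]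
  rw [R.count_B hK {b : G | b ∈ R.B ∧ orderOf b = 3} (fun b hb => hb.1) 3 1 rfl, hc]
  · rintro x ⟨hx, ho⟩
    obtain ⟨p, hp, rfl⟩ := (hmem x).1 ⟨hx, ho⟩
    rw [pow_one]
    refine ⟨R.w_mem _ _ _, fun h => ?_⟩
    rw [h, orderOf_one] at ho
    norm_num at ho
  · intro g hg
    obtain ⟨c, hc⟩ := R.conj_U hK (u := g) (by rw [← hg]; exact pow_orderOf_eq_one g)
    exact ⟨c, R.U_le_B hc⟩

theorem count_nine : Nat.card {g : G // orderOf g = 9} =
    (3 ^ (2 * m + 1)) ^ 2 * (3 ^ (2 * m + 1) - 1) * ((3 ^ (2 * m + 1)) ^ 3 + 1) := by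
  have hmem : ∀ b : G, (b ∈ R.B ∧ orderOf b = 9) ↔ ∃ p : K × (K × K), p.1 ≠ 0 ∧ b = R.w p.1 p.2.1 p.2.2 := by
    intro b
    constructor
    · rintro ⟨⟨t, u, v, s, rfl⟩, ho⟩
      rcases (R.three_dvd_iff hK t u v s).1 (by rw [ho]; norm_num) with ⟨rfl, -⟩ | ⟨rfl, -⟩
      · rw [map_one, mul_one] at ho ⊢
        exact ⟨(t, (u, v)), (R.orderOf_w_nine hK t u v).1 ho, rfl⟩
      · exfalso
        have h6 : orderOf (R.w t u v * R.h (-1)) ∣ 6 := by
          change orderOf (R.w t u v * R.a) ∣ 6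
          apply orderOf_dvd_of_pow_eq_one
          have e : (R.w t u v * R.a) ^ 6 = ((R.w t u v * R.a) * (R.w t u v * R.a)) * ((R.w t u v * R.a) * (R.w t u v * R.a)) *
            ((R.w t u v * R.a) * (R.w t u v * R.a)) := by
            simp only [pow_succ, pow_zero, one_mul, mul_assoc]
          rw [e, R.wa_sq, R.w_cube, map_zero, R.w_one_iff]
          exact ⟨rfl, rfl, by ring⟩
        rw [ho] at h6
        norm_num at h6
    · rintro ⟨⟨t, u, v⟩, h0, rfl⟩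
      exact ⟨R.wB _ _ _, (R.orderOf_w_nine hK _ _ _).2 h0⟩
  have hc : ({b : G | b ∈ R.B ∧ orderOf b = 9}).ncard = (3 ^ (2 * m + 1)) ^ 2 * (3 ^ (2 * m + 1) - 1) := by
    rw [ncard_image (X := {b : G | b ∈ R.B ∧ orderOf b = 9}) (f := fun p : K × (K × K) => R.w p.1 p.2.1 p.2.2) (fun p p' h => by
      obtain ⟨h0, h1, h2⟩ := R.winj h
      exact Prod.ext h0 (Prod.ext h1 h2)) (fun p => p.1 ≠ 0) hmem]
    rw [Nat.card_congr (Equiv.prodSubtypeFstEquivSubtypeProd (p := fun t : K => t ≠ 0) (β := K × K)), Nat.card_prod,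
      card_ne_zero' hK, Nat.card_prod, R.cardK hK]
    ring
  rw [R.count_B hK {b : G | b ∈ R.B ∧ orderOf b = 9} (fun b hb => hb.1) 9 3 rfl, hc]
  · rintro x ⟨hx, ho⟩
    obtain ⟨p, hp, rfl⟩ := (hmem x).1 ⟨hx, ho⟩
    exact ⟨pow_mem (R.w_mem _ _ _) 3, fun h => hp ((R.w_pow_three hK _ _ _).1 h)⟩
  · intro g hg
    refine R.conj_B_of_comm hK (u := g ^ 3) (x := g) ?_ ?_ ((Commute.refl g).pow_right 3)
    · rw [← pow_mul, ← orderOf_dvd_iff_pow_eq_one, hg]
    · rw [ne_eq, ← orderOf_dvd_iff_pow_eq_one, hg]; norm_num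

theorem count_six : Nat.card {g : G // orderOf g = 6} =
    (3 ^ (2 * m + 1)) ^ 2 * (3 ^ (2 * m + 1) - 1) * ((3 ^ (2 * m + 1)) ^ 3 + 1) := by
  have hne : (1 : Kˣ) ≠ -1 := fun h => R.neg_one_ne (by
    have := congrArg Units.val h
    rw [Units.val_neg, Units.val_one] at this
    exact this.symm)
  have hord : ∀ t u v : K, u ≠ R.φ t ^ 3 * t → orderOf (R.w t u v * R.a) = 6 := by
    intro t u v h
    have h6 : orderOf (R.w t u v * R.a) ∣ 6 := by
      apply orderOf_dvd_of_pow_eq_one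
      have e : (R.w t u v * R.a) ^ 6 = ((R.w t u v * R.a) * (R.w t u v * R.a)) * ((R.w t u v * R.a) * (R.w t u v * R.a)) *
        ((R.w t u v * R.a) * (R.w t u v * R.a)) := by
        simp only [pow_succ, pow_zero, one_mul, mul_assoc]
      rw [e, R.wa_sq, R.w_cube, map_zero, R.w_one_iff]
      exact ⟨rfl, rfl, by ring⟩
    have h2 : ¬ orderOf (R.w t u v * R.a) ∣ 2 := by
      rw [orderOf_dvd_iff_pow_eq_one, pow_two, R.wa_sq, R.w_one_iff]
      rintro ⟨-, h', -⟩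
      exact h (sub_eq_zero.1 h').symm
    have h3 : ¬ orderOf (R.w t u v * R.a) ∣ 3 := by
      rw [orderOf_dvd_iff_pow_eq_one]
      intro h'
      obtain ⟨t', u', v', he⟩ := R.B_three hK (b := R.w t u v * R.a) (mul_mem (R.wB _ _ _) (R.hB _)) h'
      have h4 := (R.wh_uniq (t := t) (u := u) (v := v) (s := -1) (t' := t') (u' := u') (v' := v') (s' := 1) (by
        rw [map_one, mul_one]; exact he)).2.2.2
      exact hne h4.symm
    have h7 := Nat.le_of_dvd (by norm_num) h6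
    interval_cases (orderOf (R.w t u v * R.a)) <;> simp_all
  have hmem : ∀ b : G, (b ∈ R.B ∧ orderOf b = 6) ↔ ∃ p : K × (K × K), p.1 ≠ 0 ∧
      b = R.w p.2.1 (p.1 + R.φ p.2.1 ^ 3 * p.2.1) p.2.2 * R.a := by
    intro b
    constructor
    · rintro ⟨⟨t, u, v, s, rfl⟩, ho⟩
      rcases (R.three_dvd_iff hK t u v s).1 (by rw [ho]; norm_num) with ⟨rfl, -⟩ | ⟨rfl, h⟩
      · exfalso
        rw [map_one, mul_one] at ho
        have h1 := R.orderOf_w hK t u v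
        rw [ho] at h1
        norm_num at h1
      · refine ⟨(u - R.φ t ^ 3 * t, (t, v)), sub_ne_zero.2 h, ?_⟩
        change R.w t u v * R.h (-1) = R.w t (u - R.φ t ^ 3 * t + R.φ t ^ 3 * t) v * R.a
        rw [sub_add_cancel]; rfl
    · rintro ⟨⟨u, t, v⟩, h0, rfl⟩
      refine ⟨mul_mem (R.wB _ _ _) (R.hB _), hord _ _ _ fun h => h0 ?_⟩
      change u = 0
      have h' : u + R.φ t ^ 3 * t = R.φ t ^ 3 * t := h
      linear_combination h'
  have hc : ({b : G | b ∈ R.B ∧ orderOf b = 6}).ncard = (3 ^ (2 * m + 1)) ^ 2 * (3 ^ (2 * m + 1) - 1) := by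
    rw [ncard_image (X := {b : G | b ∈ R.B ∧ orderOf b = 6}) (f := fun p : K × (K × K) => R.w p.2.1 (p.1 + R.φ p.2.1 ^ 3 * p.2.1) p.2.2 * R.a) (fun p p' h => by
      obtain ⟨h0, h1, h2, -⟩ := R.wh_uniq h
      have h3 : p.1 = p'.1 := by
        rw [h0] at h1
        exact add_right_cancel h1
      exact Prod.ext h3 (Prod.ext h0 h2)) (fun p => p.1 ≠ 0) hmem]
    rw [Nat.card_congr (Equiv.prodSubtypeFstEquivSubtypeProd (p := fun t : K => t ≠ 0) (β := K × K)), Nat.card_prod,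
      card_ne_zero' hK, Nat.card_prod, R.cardK hK]
    ring
  rw [R.count_B hK {b : G | b ∈ R.B ∧ orderOf b = 6} (fun b hb => hb.1) 6 2 rfl, hc]
  · rintro x ⟨hx, ho⟩
    obtain ⟨p, hp, rfl⟩ := (hmem x).1 ⟨hx, ho⟩
    constructor
    · rw [pow_two, R.wa_sq]; exact R.w_mem _ _ _
    · rw [ne_eq, ← orderOf_dvd_iff_pow_eq_one, ho]; norm_num
  · intro g hg
    refine R.conj_B_of_comm hK (u := g ^ 2) (x := g) ?_ ?_ ((Commute.refl g).pow_right 2)
    · rw [← pow_mul, ← orderOf_dvd_iff_pow_eq_one, hg]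
    · rw [ne_eq, ← orderOf_dvd_iff_pow_eq_one, hg]; norm_num

end fin

end RG

end Cfsg.Agent.H6.Ree
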