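import Cfsg.Agent.H6_Ree30

/-!
The Ree groups: the numbers of elements of each order.
-/

set_option autoImplicit false
set_option linter.unusedSectionVars false

namespace Cfsg.Agent.H6.Ree

open Cfsg Cfsg.Lie
open scoped Pointwise

theorem ncard_cyclic {G : Type*} [Group G] [Finite G] {A : Subgroup G} (hA : IsCyclic A) {i : ℕ} (hi : i ∣ Nat.card A) :
    ({x : G | x ∈ A ∧ orderOf x = i}).ncard = Nat.totient i := by
  classical
  have := Fintype.ofFinite G
  have h1 := hA.card_orderOf_eq_totient (α := A) (d := i) (by rwa [← Nat.card_eq_fintype_card])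
  rw [← h1]
  have h2 : ({x : G | x ∈ A ∧ orderOf x = i}) = Subtype.val '' {x : A | orderOf x = i} := by
    ext x
    constructor
    · rintro ⟨hx, ho⟩
      exact ⟨⟨x, hx⟩, by rw [Set.mem_ofPred_eq, ← Subgroup.orderOf_coe]; exact ho, rfl⟩
    · rintro ⟨y, hy, rfl⟩
      exact ⟨y.2, by rw [Subgroup.orderOf_coe]; exact hy⟩
  rw [h2, Set.ncard_image_of_injective _ Subtype.val_injective, Set.ncard_eq_toFinset_card']
  congr 1
  ext x; simp

namespace RG

variable {K : Type*} [Field K] {G : Type*} [Group G] (R : RG K G)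

include R

section fin

variable [Fintype K] [Finite G] {m : ℕ} (hm : 1 ≤ m) (hK : Fintype.card K = 3 ^ (2 * m + 1))

include hm hK

theorem count_H {i : ℕ} (hi : 2 < i) (hiq : i ∣ 3 ^ (2 * m + 1) - 1) :
    2 * Nat.card {g : G // orderOf g = i} = Nat.totient i * (3 ^ (2 * m + 1)) ^ 3 * ((3 ^ (2 * m + 1)) ^ 3 + 1) := by
  have hq27 : 27 ≤ 3 ^ (2 * m + 1) := by
    calc 27 = 3 ^ 3 := rfl
      _ ≤ 3 ^ (2 * m + 1) := Nat.pow_le_pow_right (by norm_num) (by omega)
  have hHc : IsCyclic R.H := isCyclic_of_surjective R.h.rangeRestrict R.h.rangeRestrict_surjective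
  have hHcard : Nat.card R.H = 3 ^ (2 * m + 1) - 1 := by rw [R.card_H, card_units' hK]
  have hA0 : R.A2 (m := m) ≠ ⊥ := by
    intro h
    have h1 := R.card_A2 hK
    rw [h, Subgroup.card_bot] at h1
    omega
  have hpm : ∀ s : Kˣ, orderOf (R.h s) = i → s ≠ 1 ∧ s ≠ -1 := by
    intro s hs
    have h2 : ¬ orderOf (R.h s) ∣ 2 := by
      rw [hs]
      intro h
      have := Nat.le_of_dvd (by norm_num) h
      omega
    constructor
    · rintro rfl
      apply h2
      rw [map_one, orderOf_one]; exact one_dvd _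
    · rintro rfl
      apply h2
      apply orderOf_dvd_of_pow_eq_one
      rw [pow_two]; exact R.aa
  have h3 : {g : G | orderOf g = i} = cj {x : G | x ∈ R.H ∧ orderOf x = i} := by
    ext g
    constructor
    · intro hg
      have hg' : orderOf g = i := hg
      rcases R.cases_all hK g with h | h | h | h | h | ⟨l, hl, hlM, hly⟩
      · rw [h, orderOf_one] at hg'; omega
      · rw [(R.mem_S2 hK).1 h] at hg'; omega
      · exfalso
        have h3 := (R.mem_S3 hK).1 h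
        rw [hg'] at h3
        exact R.not_three_sub h3 hiq
      · obtain ⟨c, x, ⟨s, hs1, hs2, rfl⟩, rfl⟩ := h
        refine ⟨c, R.h s, ⟨R.h_mem s, ?_⟩, rfl⟩
        rw [← hg', orderOf_cj]
      · exfalso
        obtain ⟨h1, h2⟩ := R.SW_order hK h
        rw [hg'] at h1 h2
        exact h2 (R.gcd_sub_add hiq h1)
      · exfalso
        rw [hg'] at hly
        exact pM_not_sub hl hlM (hly.trans hiq)
    · rintro ⟨c, x, ⟨hx, ho⟩, rfl⟩
      change orderOf (c * x * c⁻¹) = i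
      rw [orderOf_cj]; exact ho
  have h4 := card_cj (Subgroup.normalizer (R.A2 (m := m) : Set G)) {x : G | x ∈ R.H ∧ orderOf x = i} (by
    rintro g hg x ⟨hx, ho⟩
    obtain ⟨s, hs⟩ := (R.mem_norm_A2 hK le_rfl hA0).1 hg
    refine ⟨?_, by rw [orderOf_cj]; exact ho⟩
    rcases hs with rfl | rfl
    · exact mul_mem (mul_mem (R.h_mem s) hx) (inv_mem (R.h_mem s))
    · have e : R.h s * R.n * x * (R.h s * R.n)⁻¹ = R.h s * (R.n * x * R.n) * (R.h s)⁻¹ := by
        rw [_root_.mul_inv_rev, R.n_inv]; group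
      rw [e]
      exact mul_mem (mul_mem (R.h_mem s) (R.n_conj_H hx)) (inv_mem (R.h_mem s))) (by
    rintro x ⟨hx, ho⟩ g ⟨hg, -⟩
    obtain ⟨s, rfl⟩ := R.mem_H.1 hx
    obtain ⟨h1, h2⟩ := hpm s ho
    obtain ⟨s', h⟩ := R.norm_H h1 h2 hg
    rw [R.mem_norm_A2 hK le_rfl hA0]
    rcases h with ⟨h, -⟩ | ⟨h, -⟩
    · exact ⟨s', Or.inl h⟩
    · exact ⟨s', Or.inr h⟩)
  rw [ncard_cyclic hHc (by rw [hHcard]; exact hiq), ← h3, R.card_norm_A2 hK le_rfl hA0, R.card_G' hK] at h4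
  change Nat.card {g : G // orderOf g = i} * _ = _ at h4
  have hq := R.q_pos hK
  apply Nat.eq_of_mul_eq_mul_right hq
  calc 2 * Nat.card {g : G // orderOf g = i} * (3 ^ (2 * m + 1) - 1) =
      Nat.card {g : G // orderOf g = i} * (2 * (3 ^ (2 * m + 1) - 1)) := by ring
    _ = _ := by rw [h4]; ring

theorem MM_eq' : MM m = (3 ^ (2 * m + 1)) ^ 2 - 3 ^ (2 * m + 1) + 1 := by
  have h3 := MM_eq m
  have h4 : 3 ^ (2 * m + 1) ≤ (3 ^ (2 * m + 1)) ^ 2 := Nat.le_self_pow two_ne_zero _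
  omega

theorem A4_ne_bot : R.A4 hK ≠ ⊥ := by
  intro h
  obtain ⟨t, ht, ht1⟩ := R.A4_ne hK hm
  rw [h, Subgroup.mem_bot] at ht
  exact ht1 ht

theorem count_W {i : ℕ} (hi : 1 < i) (hiq : i ∣ (3 ^ (2 * m + 1) + 1) / 4) :
    6 * Nat.card {g : G // orderOf g = i} =
          Nat.totient i * (3 ^ (2 * m + 1)) ^ 3 * (3 ^ (2 * m + 1) - 1) * ((3 ^ (2 * m + 1)) ^ 2 - 3 ^ (2 * m + 1) + 1) := by
  have h := (R.tor_A4 hm hK).count hi (by rw [R.card_A4 hK]; exact hiq)
  rw [R.norm_A4 hm hK le_rfl (R.A4_ne_bot hm hK), R.card_norm_W0 hm hK, R.card_G2 hK] at h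
  rw [← R.MM_eq' hm hK]
  apply Nat.eq_of_mul_eq_mul_right (Nat.succ_pos (3 ^ (2 * m + 1)))
  rw [Nat.succ_eq_add_one]
  calc 6 * Nat.card {g : G // orderOf g = i} * (3 ^ (2 * m + 1) + 1) =
      Nat.card {g : G // orderOf g = i} * (6 * (3 ^ (2 * m + 1) + 1)) := by ring
    _ = _ := by rw [h]; ring

theorem card_X2i {i : ℕ} (hi : 1 < i) (hiq : i ∣ (3 ^ (2 * m + 1) + 1) / 4) :
    ({x : G | x ∈ R.W0 ∧ orderOf x = 2 * i}).ncard = 3 * Nat.totient i := by
  classical
  have h2f : Fact (Nat.Prime 2) := ⟨Nat.prime_two⟩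
  obtain ⟨e, he, heo, he', -⟩ := q_mod m
  have hio : Odd i := by
    rw [he'] at hiq
    exact Odd.of_dvd_nat heo hiq
  have hVo : ∀ v ∈ R.V, v ≠ 1 → orderOf v = 2 := fun v hv hv1 => by
    rw [orderOf_eq_prime_iff, pow_two]
    exact ⟨R.V_sq hv, hv1⟩
  have hVA : ∀ z ∈ R.V, z ^ e = 1 → z = 1 := by
    intro z hz h
    by_contra h1
    have h2 := orderOf_dvd_of_pow_eq_one h
    rw [hVo z hz h1] at h2
    exact (Nat.not_even_iff_odd.2 heo) (even_iff_two_dvd.2 h2)
  let f : {v : G // v ∈ R.V ∧ v ≠ 1} × {y : G // y ∈ R.A4 hK ∧ orderOf y = i} → G := fun p => p.1 * p.2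
  have hf : Function.Injective f := by
    rintro ⟨⟨v, hv, hv1⟩, ⟨y, hy, hyo⟩⟩ ⟨⟨v', hv', hv1'⟩, ⟨y', hy', hyo'⟩⟩ h
    have h' : v * y = v' * y' := h
    have h1 : v'⁻¹ * v = y' * y⁻¹ := by
      calc v'⁻¹ * v = v'⁻¹ * (v * y) * y⁻¹ := by group
        _ = _ := by rw [h']; group
    have h2 : v'⁻¹ * v = 1 := by
      apply hVA _ (mul_mem (inv_mem hv') hv)
      rw [h1, ← he']
      exact (mul_mem hy' (inv_mem hy)).2
    have h3 : v = v' := by
      calc v = v' * (v'⁻¹ * v) := by group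
        _ = v' := by rw [h2, mul_one]
    subst h3
    have h4 : y = y' := mul_left_cancel h'
    subst h4
    rfl
  have h1 : ({x : G | x ∈ R.W0 ∧ orderOf x = 2 * i}).ncard =
      Nat.card ({v : G // v ∈ R.V ∧ v ≠ 1} × {y : G // y ∈ R.A4 hK ∧ orderOf y = i}) := by
    have h2 : {x : G | x ∈ R.W0 ∧ orderOf x = 2 * i} = Set.range f := by
      ext x
      constructor
      · rintro ⟨hx, ho⟩
        have h2i : x ^ (2 * i) = 1 := by rw [← ho]; exact pow_orderOf_eq_one x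
        have hne : ∀ k, 0 < k → k < 2 * i → x ^ k ≠ 1 := fun k h1 h2 h3 => by
          have := Nat.le_of_dvd h1 (orderOf_dvd_of_pow_eq_one h3)
          omega
        refine ⟨⟨⟨x ^ i, ?_, hne i (by omega) (by omega)⟩, ⟨x ^ (i + 1), ⟨pow_mem hx _, ?_⟩, ?_⟩⟩, ?_⟩
        · exact R.W0_inv hK (pow_mem hx i) (by rw [← pow_add, ← two_mul, h2i])
        · obtain ⟨k, hk⟩ := hiq
          obtain ⟨j, hj⟩ := hio
          rw [hk, ← pow_mul]
          have e1 : (i + 1) * (i * k) = 2 * i * ((j + 1) * k) := by rw [hj]; ring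
          rw [e1, pow_mul, h2i, one_pow]
        · rw [orderOf_pow, ho]
          have h5 : Nat.gcd (2 * i) (i + 1) = 2 := by
            have h6 : Nat.Coprime (i + 1) i := by simp
            rw [Nat.gcd_comm, Nat.Coprime.gcd_mul_right_cancel_right 2 h6.symm]
            obtain ⟨j, hj⟩ := hio
            exact Nat.gcd_eq_right ⟨j + 1, by omega⟩
          rw [h5]; omega
        · change x ^ i * x ^ (i + 1) = x
          rw [← pow_add]
          have e1 : i + (i + 1) = 2 * i + 1 := by ring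
          rw [e1, pow_succ, h2i, one_mul]
      · rintro ⟨⟨⟨v, hv, hv1⟩, ⟨y, hy, hyo⟩⟩, rfl⟩
        refine ⟨mul_mem (R.V_le hv) hy.1, ?_⟩
        change orderOf (v * y) = 2 * i
        rw [(show Commute v y from R.W0_comm hK (R.V_le hv) hy.1).orderOf_mul_eq_mul_orderOf_of_coprime (by
          rw [hVo v hv hv1, hyo]
          exact (Nat.coprime_two_left).2 hio), hVo v hv hv1, hyo]
    rw [h2]
    exact (Nat.card_congr (Equiv.ofInjective f hf)).symm
  rw [h1, Nat.card_prod]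
  congr 1
  · have h2 : Nat.card {v : G // v ∈ R.V ∧ v ≠ 1} = ((R.V : Set G) \ {1}).ncard := rfl
    rw [h2, Set.ncard_sdiff (by
      rw [Set.singleton_subset_iff]; exact one_mem R.V), Set.ncard_singleton]
    have h3 : (R.V : Set G).ncard = 4 := R.card_V
    rw [h3]
  · exact ncard_cyclic (R.A4_cyclic hK) (by rw [R.card_A4 hK]; exact hiq)

theorem count_W2 {i : ℕ} (hi : 1 < i) (hiq : i ∣ (3 ^ (2 * m + 1) + 1) / 4) :
    2 * Nat.card {g : G // orderOf g = 2 * i} =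
          Nat.totient i * (3 ^ (2 * m + 1)) ^ 3 * (3 ^ (2 * m + 1) - 1) * ((3 ^ (2 * m + 1)) ^ 2 - 3 ^ (2 * m + 1) + 1) := by
  have ht := R.tor_A4 hm hK
  have hXW : ∀ x : G, x ∈ R.W0 → orderOf x = 2 * i → x ∈ R.XW := by
    intro x hx ho
    refine ⟨hx, fun hV => ?_⟩
    have h1 := R.V_sq hV
    rw [← pow_two] at h1
    have h2 := Nat.le_of_dvd (by norm_num) (orderOf_dvd_of_pow_eq_one h1)
    omega
  have h3 : {g : G | orderOf g = 2 * i} = cj {x : G | x ∈ R.W0 ∧ orderOf x = 2 * i} := by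
    ext g
    constructor
    · intro hg
      have hg' : orderOf g = 2 * i := hg
      have h2i : g ^ (2 * i) = 1 := by rw [← hg']; exact pow_orderOf_eq_one g
      obtain ⟨c, hc⟩ := ht.conj_mem (y := g ^ 2) (by
        rw [R.card_A4 hK]
        obtain ⟨k, hk⟩ := hiq
        rw [hk, ← pow_mul, ← mul_assoc, pow_mul, h2i, one_pow])
      have e : c⁻¹ * g ^ 2 * c = (c⁻¹ * g * c) ^ 2 := by rw [pow_two, pow_two]; group
      have ho : orderOf (c⁻¹ * g * c) = 2 * i := by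
        have := orderOf_cj (g := c⁻¹) (x := g)
        rw [inv_inv] at this
        rw [this]; exact hg'
      apply cj_of (c := c)
      refine ⟨?_, ho⟩
      rw [e] at hc
      rw [← ht.cen _ hc]
      · exact (Commute.refl _).pow_left 2
      · intro h1
        have h2 := Nat.le_of_dvd (by norm_num) (orderOf_dvd_of_pow_eq_one h1)
        omega
    · rintro ⟨c, x, ⟨hx, ho⟩, rfl⟩
      change orderOf (c * x * c⁻¹) = 2 * i
      rw [orderOf_cj]; exact ho
  have h4 := card_cj (Subgroup.normalizer (R.W0 : Set G)) {x : G | x ∈ R.W0 ∧ orderOf x = 2 * i} (by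
    rintro g hg x ⟨hx, ho⟩
    exact ⟨(Subgroup.mem_normalizer_iff.1 hg x).1 hx, by rw [orderOf_cj]; exact ho⟩) (by
    rintro x ⟨hx, ho⟩ g ⟨hg, ho'⟩
    apply Subgroup.mem_normalizer_fintype
    intro y hy
    change g * y * g⁻¹ ∈ R.W0
    rw [← R.cen_XW hK (hXW _ hg ho')]
    exact conj_comm (R.W0_comm hK hx hy))
  rw [R.card_X2i hm hK hi hiq, ← h3, R.card_norm_W0 hm hK, R.card_G2 hK] at h4
  change Nat.card {g : G // orderOf g = 2 * i} * _ = _ at h4
  rw [← R.MM_eq' hm hK]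
  apply Nat.eq_of_mul_eq_mul_right (Nat.mul_pos (show 0 < 3 by norm_num) (Nat.succ_pos (3 ^ (2 * m + 1))))
  rw [Nat.succ_eq_add_one]
  calc 2 * Nat.card {g : G // orderOf g = 2 * i} * (3 * (3 ^ (2 * m + 1) + 1)) =
      Nat.card {g : G // orderOf g = 2 * i} * (6 * (3 ^ (2 * m + 1) + 1)) := by ring
    _ = _ := by rw [h4]; ring

theorem count_M {A C : Subgroup G} (ht : Tor A C) (hN : Nat.card (Subgroup.normalizer (A : Set G)) = 6 * Nat.card A) {k : ℕ}
    (hk : MM m = Nat.card A * k) {i : ℕ} (hi : 1 < i) (hiq : i ∣ Nat.card A) :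
    6 * Nat.card {g : G // orderOf g = i} =
          Nat.totient i * (3 ^ (2 * m + 1)) ^ 3 * ((3 ^ (2 * m + 1)) ^ 2 - 1) * k := by
  have h := ht.count hi hiq
  rw [hN, R.card_G2 hK, hk] at h
  have h0 : 0 < Nat.card A := Nat.card_pos
  apply Nat.eq_of_mul_eq_mul_right h0
  have e : (3 ^ (2 * m + 1)) ^ 2 - 1 = (3 ^ (2 * m + 1) - 1) * (3 ^ (2 * m + 1) + 1) := by
    obtain ⟨l, hl⟩ : ∃ l, 3 ^ (2 * m + 1) = l + 1 := ⟨3 ^ (2 * m + 1) - 1, by
      have : 0 < 3 ^ (2 * m + 1) := by positivity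
      omega⟩
    rw [hl, Nat.add_sub_cancel]
    have : (l + 1) ^ 2 = l * (l + 1 + 1) + 1 := by ring
    rw [this, Nat.add_sub_cancel]
  rw [e]
  calc 6 * Nat.card {g : G // orderOf g = i} * Nat.card A =
      Nat.card {g : G // orderOf g = i} * (6 * Nat.card A) := by ring
    _ = _ := by rw [h]; ring

end fin

end RG

end Cfsg.Agent.H6.Ree
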