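import Cfsg.Agent.H6_Ree3

/-!
The Ree groups: torus, elements of order three, three-point stabilisers.
-/

set_option autoImplicit false
set_option linter.unusedSectionVars false

namespace Cfsg.Agent.H6.Ree

open Cfsg Cfsg.Lie

/-! ### the unit group -/

section units

variable {K : Type*} [Field K] [Fintype K] {m : ℕ} (hK : Fintype.card K = 3 ^ (2 * m + 1))

include hK

theorem card_units' : Nat.card Kˣ = 3 ^ (2 * m + 1) - 1 := by
  rw [Nat.card_units, Nat.card_eq_fintype_card, hK]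

theorem half_odd : (3 ^ (2 * m + 1) - 1) / 2 % 2 = 1 := by
  have := pow_mod8 m
  omega

theorem two_half : 2 * ((3 ^ (2 * m + 1) - 1) / 2) = 3 ^ (2 * m + 1) - 1 := by
  have := pow_mod8 m
  omega

theorem odd_iff (s : Kˣ) : Odd (orderOf s) ↔ s ^ ((3 ^ (2 * m + 1) - 1) / 2) = 1 := by
  rw [← orderOf_dvd_iff_pow_eq_one]
  constructor
  · intro h
    have h1 : orderOf s ∣ 2 * ((3 ^ (2 * m + 1) - 1) / 2) := by
      rw [two_half hK, ← card_units' hK]
      exact orderOf_dvd_natCard s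
    exact (Nat.Coprime.dvd_mul_left (Nat.coprime_two_right.2 h)).1 h1
  · intro h
    exact (Nat.odd_iff.2 (half_odd hK)).of_dvd_nat h

theorem card_odd : 2 * Nat.card {s : Kˣ // Odd (orderOf s)} = 3 ^ (2 * m + 1) - 1 := by
  have h1 : Nat.card {s : Kˣ // Odd (orderOf s)} = Nat.card {s : Kˣ // s ^ ((3 ^ (2 * m + 1) - 1) / 2) = 1} :=
    Nat.card_congr (Equiv.subtypeEquivRight fun s => odd_iff hK s)
  have h2 := two_half hK
  rw [h1, Chev.card_units_pow, card_units' hK, Nat.gcd_eq_right (Dvd.intro_left 2 h2), h2]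

theorem odd_order_neg {s : Kˣ} (h : Odd (orderOf s)) (hc : (3 : K) = 0) : s ≠ -1 := by
  rintro rfl
  have h1 := (odd_iff hK (-1)).1 h
  have h2 : (-1 : Kˣ) ^ ((3 ^ (2 * m + 1) - 1) / 2) = -1 := Odd.neg_one_pow (Nat.odd_iff.2 (half_odd hK))
  rw [h2] at h1
  have h3 := congrArg Units.val h1
  rw [Units.val_neg, Units.val_one] at h3
  have : (1 : K) = 0 := by linear_combination hc + h3
  exact one_ne_zero this

/-- every unit is `±` an element of odd order -/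
theorem pm_odd (hc : (3 : K) = 0) (s : Kˣ) : Odd (orderOf s) ∨ Odd (orderOf (-s)) := by
  have h1 : (s ^ ((3 ^ (2 * m + 1) - 1) / 2)) ^ 2 = 1 := by
    rw [← pow_mul, mul_comm, two_half hK, ← card_units' hK]
    exact pow_card_eq_one'
  have h2 : s ^ ((3 ^ (2 * m + 1) - 1) / 2) = 1 ∨ s ^ ((3 ^ (2 * m + 1) - 1) / 2) = -1 := by
    have h3 := congrArg Units.val h1
    rw [Units.val_pow_eq_pow_val, Units.val_one] at h3
    rcases sq_eq_one_iff.1 h3 with h4 | h4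
    · exact Or.inl (Units.ext h4)
    · exact Or.inr (Units.ext (by rw [h4]; simp))
  rcases h2 with h2 | h2
  · exact Or.inl ((odd_iff hK s).2 h2)
  · right
    rw [odd_iff hK, Odd.neg_pow (Nat.odd_iff.2 (half_odd hK)), h2, neg_neg]

end units

section rows

variable {K : Type*} [Field K] [Fintype K] {m : ℕ} (hK : Fintype.card K = 3 ^ (2 * m + 1))

include hK

/-- the torus -/
theorem exists_torus : ∃ f : Kˣ ≃* ↥(chevG2.diagonalSubgroup K ⊓ twistedG2 K (3 ^ m)), True := by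
  obtain ⟨R, hφ, hU, hH, hB⟩ := exists_RG hK
  let f : Kˣ →* ↥(chevG2.diagonalSubgroup K ⊓ twistedG2 K (3 ^ m)) :=
    ((twistedG2 K (3 ^ m)).subtype.comp R.h).codRestrict _ (fun s => ⟨(hH _).2 ⟨s, rfl⟩, (R.h s).2⟩)
  refine ⟨MulEquiv.ofBijective f ⟨fun s s' h => ?_, fun x => ?_⟩, trivial⟩
  · have h1 : (R.h s : GL chevG2.Idx K) = R.h s' :=
      congrArg (fun z : ↥(chevG2.diagonalSubgroup K ⊓ twistedG2 K (3 ^ m)) => (z : GL chevG2.Idx K)) h
    exact R.hinj (Subtype.ext h1)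
  · obtain ⟨s, hs⟩ := (hH ⟨x, x.2.2⟩).1 x.2.1
    exact ⟨s, Subtype.ext (congrArg Subtype.val hs).symm⟩

/-- S1150 -/
theorem torus_cyclic : IsCyclic ↥(chevG2.diagonalSubgroup K ⊓ twistedG2 K (3 ^ m)) := by
  obtain ⟨f, -⟩ := exists_torus hK
  exact isCyclic_of_surjective f f.surjective

/-- S1151, first part -/
theorem torus_odd : 2 * Nat.card {h : ↥(chevG2.diagonalSubgroup K ⊓ twistedG2 K (3 ^ m)) // Odd (orderOf h)} =
    3 ^ (2 * m + 1) - 1 := by
  obtain ⟨f, -⟩ := exists_torus hK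
  rw [← card_odd hK]
  congr 1
  symm
  apply Nat.card_congr
  exact Equiv.subtypeEquiv f.toEquiv fun s => by
    change Odd (orderOf s) ↔ Odd (orderOf (f s))
    rw [MulEquiv.orderOf_eq]

/-- S1151, second part -/
theorem torus_fpf (h : GL chevG2.Idx K) (hh : h ∈ chevG2.diagonalSubgroup K ⊓ twistedG2 K (3 ^ m)) (h1 : h ≠ 1)
    (hodd : Odd (orderOf h)) :
    (chevG2.posUnipotent K ⊓ twistedG2 K (3 ^ m)) ⊓ Subgroup.centralizer {h} = ⊥ := by
  obtain ⟨R, hφ, hU, hH, hB⟩ := exists_RG hK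
  rw [eq_bot_iff]
  rintro x ⟨⟨hx1, hx2⟩, hx3⟩
  obtain ⟨s, hs⟩ := (hH ⟨h, hh.2⟩).1 hh.1
  obtain ⟨t, u, v, hw⟩ := (hU ⟨x, hx2⟩).1 hx1
  have hc : h * x = x * h := Subgroup.mem_centralizer_iff.1 hx3 h rfl
  have hs1 : s ≠ 1 := by
    rintro rfl
    rw [map_one] at hs
    exact h1 (congrArg Subtype.val hs)
  have hso : Odd (orderOf s) := by
    have e1 : orderOf h = orderOf s := by
      rw [← orderOf_injective R.h R.hinj s, ← hs]
      exact (orderOf_injective (twistedG2 K (3 ^ m)).subtype Subtype.val_injective ⟨h, hh.2⟩)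
    rwa [e1] at hodd
  have hc' : R.h s * R.w t u v = R.w t u v * R.h s := by
    rw [← hs, ← hw]
    exact Subtype.ext hc
  obtain ⟨c1, c2, c3⟩ := (R.h_comm_iff s t u v).1 hc'
  have hsn := odd_order_neg hK hso R.char3
  have e1 : t = 0 := c1.resolve_right hs1
  have e2 : u = 0 := c2.resolve_right (by rintro (h | h); exacts [hs1 h, hsn h])
  have e3 : v = 0 := c3.resolve_right hs1
  subst e1 e2 e3
  rw [R.w_zero] at hw
  exact Subgroup.mem_bot.2 (congrArg Subtype.val hw)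

/-- S1154 -/
theorem card_order_three : Nat.card {u : ↥(chevG2.posUnipotent K ⊓ twistedG2 K (3 ^ m)) // orderOf u = 3} =
    (3 ^ (2 * m + 1)) ^ 2 - 1 := by
  classical
  obtain ⟨R, hφ, hU, hH, hB⟩ := exists_RG hK
  have h3 : Fact (Nat.Prime 3) := ⟨Nat.prime_three⟩
  -- elements of order three
  have key : ∀ t u v, (orderOf (R.w t u v) = 3 ↔ t = 0 ∧ ¬ (u = 0 ∧ v = 0)) := by
    intro t u v
    rw [orderOf_eq_prime_iff, pow_succ, pow_two, R.w_cube, R.w_one_iff, ne_eq, R.w_one_iff]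
    constructor
    · rintro ⟨⟨-, -, h1⟩, h2⟩
      have ht : t = 0 := by
        by_contra ht
        have hφt : R.φ t ≠ 0 := by simpa using ht
        exact (mul_ne_zero (pow_ne_zero 3 hφt) (pow_ne_zero 2 ht)) (neg_eq_zero.1 h1)
      exact ⟨ht, fun h => h2 ⟨ht, h⟩⟩
    · rintro ⟨rfl, h2⟩
      refine ⟨⟨rfl, rfl, by rw [map_zero]; ring⟩, fun h => h2 h.2⟩
  let e : {u : ↥(chevG2.posUnipotent K ⊓ twistedG2 K (3 ^ m)) // orderOf u = 3} ≃ {p : K × K // p ≠ (0, 0)} := by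
    symm
    refine Equiv.ofBijective (fun p => ⟨⟨(R.w 0 p.1.1 p.1.2 : ↥(twistedG2 K (3 ^ m))),
      ⟨(hU _).2 ⟨_, _, _, rfl⟩, (R.w 0 p.1.1 p.1.2).2⟩⟩, ?_⟩) ⟨?_, ?_⟩
    · rw [← orderOf_injective (chevG2.posUnipotent K ⊓ twistedG2 K (3 ^ m)).subtype Subtype.val_injective]
      change orderOf ((R.w 0 p.1.1 p.1.2 : ↥(twistedG2 K (3 ^ m))) : GL chevG2.Idx K) = 3
      rw [Subgroup.orderOf_coe, key]
      refine ⟨rfl, fun h => p.2 (Prod.ext h.1 h.2)⟩
    · rintro ⟨⟨u, v⟩, h⟩ ⟨⟨u', v'⟩, h'⟩ he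
      have h1 : ((R.w 0 u v : ↥(twistedG2 K (3 ^ m))) : GL chevG2.Idx K) = R.w 0 u' v' :=
        congrArg (fun z : {u : ↥(chevG2.posUnipotent K ⊓ twistedG2 K (3 ^ m)) // orderOf u = 3} => (z.1 : GL chevG2.Idx K)) he
      obtain ⟨-, h2, h3⟩ := R.winj (Subtype.ext h1)
      exact Subtype.ext (Prod.ext h2 h3)
    · rintro ⟨⟨x, hx1, hx2⟩, hx3⟩
      obtain ⟨t, u, v, hw⟩ := (hU ⟨x, hx2⟩).1 hx1
      have h4 : orderOf (R.w t u v) = 3 := by
        rw [← hw]
        rw [← Subgroup.orderOf_coe] at hx3 ⊢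
        exact hx3
      obtain ⟨rfl, h5⟩ := (key t u v).1 h4
      refine ⟨⟨(u, v), fun h => h5 ⟨congrArg Prod.fst h, congrArg Prod.snd h⟩⟩, ?_⟩
      apply Subtype.ext
      apply Subtype.ext
      exact (congrArg Subtype.val hw).symm
  rw [Nat.card_congr e, Nat.card_eq_fintype_card, Fintype.card_subtype_compl, Fintype.card_subtype_eq, Fintype.card_prod,
    hK]
  ring_nf

end rows

end Cfsg.Agent.H6.Ree
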