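import Cfsg.Agent.H6_Ree4

/-!
The Ree groups: orders, Sylow `3`-subgroups, three-point stabilisers.
-/

set_option autoImplicit false
set_option linter.unusedSectionVars false

namespace Cfsg.Agent.H6.Ree

open Cfsg Cfsg.Lie
open scoped Pointwise

namespace RG

variable {K : Type*} [Field K] {G : Type*} [Group G] (R : RG K G)

include R

/-- parametrisation of `U` -/
noncomputable def eU : K × K × K ≃ R.U :=
  Equiv.ofBijective (fun p => ⟨R.w p.1 p.2.1 p.2.2, R.w_mem _ _ _⟩) ⟨fun p p' h => by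
    obtain ⟨h1, h2, h3⟩ := R.winj (congrArg Subtype.val h)
    exact Prod.ext h1 (Prod.ext h2 h3), fun ⟨x, t, u, v, h⟩ => ⟨(t, u, v), Subtype.ext h.symm⟩⟩

noncomputable def eB : (K × K × K) × Kˣ ≃ R.B :=
  Equiv.ofBijective (fun p => ⟨R.w p.1.1 p.1.2.1 p.1.2.2 * R.h p.2, ⟨_, _, _, _, rfl⟩⟩) ⟨fun p p' h => by
    obtain ⟨h1, h2, h3, h4⟩ := R.wh_uniq (congrArg Subtype.val h)
    exact Prod.ext (Prod.ext h1 (Prod.ext h2 h3)) h4, fun ⟨x, t, u, v, s, h⟩ => ⟨((t, u, v), s), Subtype.ext h.symm⟩⟩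

noncomputable def eG : R.B ⊕ (R.B × R.U) ≃ G :=
  Equiv.ofBijective (Sum.elim (fun b => (b : G)) (fun p => (p.1 : G) * R.n * p.2)) ⟨by
    rintro (b | ⟨b, u⟩) (b' | ⟨b', u'⟩) h
    · exact congrArg Sum.inl (Subtype.ext h)
    · exact absurd b.2 (by
        have h : (b : G) = (b' : G) * R.n * u' := h
        rw [h]
        exact R.big_not_B b'.2 (R.U_le_B u'.2))
    · exact absurd b'.2 (by
        have h : (b : G) * R.n * u = (b' : G) := h
        rw [← h]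
        exact R.big_not_B b.2 (R.U_le_B u.2))
    · obtain ⟨h1, h2⟩ := R.big_uniq b.2 u.2 b'.2 u'.2 h
      exact congrArg Sum.inr (Prod.ext (Subtype.ext h1) (Subtype.ext h2)), by
    intro g
    rcases R.cover g with h | ⟨a, ha, b, hb, h⟩
    · exact ⟨Sum.inl ⟨g, h⟩, rfl⟩
    · exact ⟨Sum.inr (⟨a, ha⟩, ⟨b, hb⟩), h.symm⟩⟩

theorem card_U : Nat.card R.U = Nat.card K ^ 3 := by
  rw [← Nat.card_congr R.eU, Nat.card_prod, Nat.card_prod]; ring

theorem card_B : Nat.card R.B = Nat.card K ^ 3 * Nat.card Kˣ := by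
  rw [← Nat.card_congr R.eB, Nat.card_prod, Nat.card_prod, Nat.card_prod]; ring

theorem card_H : Nat.card R.H = Nat.card Kˣ := by
  exact (Nat.card_congr (MonoidHom.ofInjective R.hinj).toEquiv).symm

theorem card_G [Finite G] : Nat.card G = Nat.card K ^ 3 * Nat.card Kˣ * (Nat.card K ^ 3 + 1) := by
  rw [← Nat.card_congr R.eG, Nat.card_sum, Nat.card_prod, card_B, card_U]; ring

theorem B_norm_U {b x : G} (hb : b ∈ R.B) (hx : x ∈ R.U) : b * x * b⁻¹ ∈ R.U := by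
  obtain ⟨t, u, v, s, rfl⟩ := hb
  have e : R.w t u v * R.h s * x * (R.w t u v * R.h s)⁻¹ =
    R.w t u v * (R.h s * x * (R.h s)⁻¹) * (R.w t u v)⁻¹ := by group
  rw [e]
  exact mul_mem (mul_mem (R.w_mem _ _ _) (R.hU s hx)) (inv_mem (R.w_mem _ _ _))

/-- `U` is a TI subgroup with normaliser `B` -/
theorem TI {g x y : G} (hx : x ∈ R.U) (hx1 : x ≠ 1) (hy : y ∈ R.B) (h : x = g⁻¹ * y * g) : g ∈ R.B := by
  rcases R.cover g with hg | ⟨a, ha, b, hb, rfl⟩
  · exact hg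
  · exfalso
    apply hx1
    have h1 : R.n * (b * x * b⁻¹) * R.n = a⁻¹ * y * a := by
      rw [h]
      calc R.n * (b * ((a * R.n * b)⁻¹ * y * (a * R.n * b)) * b⁻¹) * R.n
          = (R.n * R.n⁻¹) * (a⁻¹ * y * a) * (R.n * R.n) := by group
        _ = a⁻¹ * y * a := by rw [mul_inv_cancel, R.nn, one_mul, mul_one]
    have h2 := R.n_conj_B (mul_mem (mul_mem hb hx) (inv_mem hb)) (by
      rw [h1]; exact mul_mem (mul_mem (inv_mem ha) hy) ha)
    have h3 : x = b⁻¹ * (b * x * b⁻¹) * b := by group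
    rw [h3, h2]; group

/-- centralisers of elements of `U` -/
theorem cen_U {g x : G} (hx : x ∈ R.U) (hx1 : x ≠ 1) (h : g * x = x * g) : g ∈ R.B :=
  R.TI hx hx1 (R.U_le_B hx) (by rw [mul_assoc, ← h]; group)

theorem isPGroup_U : IsPGroup 3 R.U := by
  rintro ⟨x, t, u, v, rfl⟩
  refine ⟨2, Subtype.ext ?_⟩
  have h1 : (R.w t u v) ^ 9 = 1 := by
    have e : (R.w t u v) ^ 9 = (R.w t u v * R.w t u v * R.w t u v) * (R.w t u v * R.w t u v * R.w t u v) *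
      (R.w t u v * R.w t u v * R.w t u v) := by
      simp only [pow_succ, pow_zero, one_mul, mul_assoc]
    rw [e, R.w_cube, R.w_cube, map_zero, R.w_one_iff]
    refine ⟨rfl, rfl, by ring⟩
  exact h1

section fin

variable [Fintype K] [Finite G] {m : ℕ} (hK : Fintype.card K = 3 ^ (2 * m + 1))

include hK

theorem cardK : Nat.card K = 3 ^ (2 * m + 1) := by rw [Nat.card_eq_fintype_card, hK]

theorem card_G' : Nat.card G = (3 ^ (2 * m + 1)) ^ 3 * ((3 ^ (2 * m + 1) - 1) * ((3 ^ (2 * m + 1)) ^ 3 + 1)) := by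
  rw [R.card_G, R.cardK hK, card_units' hK, mul_assoc]

theorem coprime_index : ¬ 3 ∣ (3 ^ (2 * m + 1) - 1) * ((3 ^ (2 * m + 1)) ^ 3 + 1) := by
  intro h
  have h1 : 3 ^ (2 * m + 1) = 3 * 3 ^ (2 * m) := by ring
  have hpos : 0 < 3 ^ (2 * m) := by positivity
  rcases (Nat.Prime.dvd_mul Nat.prime_three).1 h with h2 | h2
  · omega
  · have h3 : 3 ∣ (3 ^ (2 * m + 1)) ^ 3 := by
      rw [h1]; exact Dvd.dvd.pow (Dvd.intro _ rfl) (by norm_num)
    have h4 := (Nat.dvd_add_right h3).1 h2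
    norm_num at h4

/-- `U` as a Sylow subgroup -/
theorem exists_sylow : ∃ P : Sylow 3 G, (P : Subgroup G) = R.U := by
  have : Fact (Nat.Prime 3) := ⟨Nat.prime_three⟩
  have h1 : Nat.card R.U = 3 ^ (Nat.card G).factorization 3 := by
    rw [R.card_U, R.cardK hK, R.card_G' hK, Nat.factorization_mul (by positivity) (by
      have h1 : 3 ^ (2 * m + 1) = 3 * 3 ^ (2 * m) := by ring
      have hpos : 0 < 3 ^ (2 * m) := by positivity
      have h2 : 3 ^ (2 * m + 1) - 1 ≠ 0 := by omega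
      positivity), Finsupp.add_apply, Nat.factorization_eq_zero_of_not_dvd (R.coprime_index hK),
      ← pow_mul, Nat.Prime.factorization_pow Nat.prime_three, Finsupp.single_eq_same, add_zero]
  exact ⟨Sylow.ofCard R.U h1, rfl⟩

/-- S1155 -/
theorem sylow_TI (P Q : Sylow 3 G) (hPQ : P ≠ Q) : (P : Subgroup G) ⊓ (Q : Subgroup G) = ⊥ := by
  have : Fact (Nat.Prime 3) := ⟨Nat.prime_three⟩
  obtain ⟨S, hS⟩ := R.exists_sylow hK
  obtain ⟨g, hg⟩ := MulAction.exists_smul_eq G S P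
  obtain ⟨g', hg'⟩ := MulAction.exists_smul_eq G S Q
  by_contra hne
  apply hPQ
  obtain ⟨x, ⟨hxP, hxQ⟩, hx1⟩ := (Subgroup.bot_or_exists_ne_one ((P : Subgroup G) ⊓ (Q : Subgroup G))).resolve_left hne
  have h1 : g⁻¹ * x * g ∈ R.U := by
    rw [← hS]
    rw [← hg] at hxP
    have := Subgroup.mem_pointwise_smul_iff_inv_smul_mem.1 (show x ∈ MulAut.conj g • (S : Subgroup G) from hxP)
    simpa using this
  have h2 : g'⁻¹ * x * g' ∈ R.U := by
    rw [← hS]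
    rw [← hg'] at hxQ
    have := Subgroup.mem_pointwise_smul_iff_inv_smul_mem.1 (show x ∈ MulAut.conj g' • (S : Subgroup G) from hxQ)
    simpa using this
  have h3 : g⁻¹ * x * g ≠ 1 := by
    intro h
    apply hx1
    have e : x = g * (g⁻¹ * x * g) * g⁻¹ := by group
    rw [e, h]; group
  have h4 : g'⁻¹ * g ∈ R.B := R.TI h1 h3 (R.U_le_B h2) (by group)
  have h5 : g' • ((g'⁻¹ * g) • S) = g • S := by rw [smul_smul]; congr 1; group
  have h6 : (g'⁻¹ * g) • S = S := by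
    rw [Sylow.smul_eq_iff_mem_normalizer]
    change g'⁻¹ * g ∈ Subgroup.normalizer ((S : Subgroup G) : Set G)
    rw [hS, Subgroup.mem_normalizer_iff]
    intro y
    refine ⟨fun hy => R.B_norm_U h4 hy, fun hy => ?_⟩
    have := R.B_norm_U (inv_mem h4) hy
    have e : (g'⁻¹ * g)⁻¹ * (g'⁻¹ * g * y * (g'⁻¹ * g)⁻¹) * (g'⁻¹ * g)⁻¹⁻¹ = y := by group
    rwa [e] at this
  rw [← hg, ← hg', ← h5, h6]

end fin

/-! ### Cosets of `B` -/

/-- the base points -/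
theorem mk_eq_iff {g g' : G} : ((g : G ⧸ R.B) = g') ↔ g⁻¹ * g' ∈ R.B := QuotientGroup.eq

theorem two_trans {x y : G ⧸ R.B} (h : x ≠ y) : ∃ g : G, x = (g : G ⧸ R.B) ∧ y = ((g * R.n : G) : G ⧸ R.B) := by
  induction x using QuotientGroup.induction_on with
  | _ g =>
    induction y using QuotientGroup.induction_on with
    | _ g' =>
      rcases R.cover (g⁻¹ * g') with h1 | ⟨a, ha, b, hb, h1⟩
      · exact absurd (R.mk_eq_iff.2 h1) h
      · refine ⟨g * a, ?_, ?_⟩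
        · rw [R.mk_eq_iff]
          have e : g⁻¹ * (g * a) = a := by group
          rwa [e]
        · rw [R.mk_eq_iff]
          have e : g'⁻¹ * (g * a * R.n) = b⁻¹ := by
            have h2 : g' = g * (a * R.n * b) := by rw [← h1]; group
            rw [h2]; group
          rw [e]
          exact inv_mem (R.U_le_B hb)

theorem mem_stab {g x : G} : x ∈ MulAction.stabilizer G (g : G ⧸ R.B) ↔ g⁻¹ * x * g ∈ R.B := by
  rw [MulAction.mem_stabilizer_iff]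
  change ((x * g : G) : G ⧸ R.B) = g ↔ _
  rw [eq_comm, R.mk_eq_iff, mul_assoc]

/-- the two-point stabiliser -/
theorem stab_two {g x : G} : x ∈ MulAction.stabilizer G (g : G ⧸ R.B) ⊓ MulAction.stabilizer G ((g * R.n : G) : G ⧸ R.B) ↔
    g⁻¹ * x * g ∈ R.H := by
  rw [Subgroup.mem_inf, R.mem_stab, R.mem_stab]
  have e : (g * R.n)⁻¹ * x * (g * R.n) = R.n * (g⁻¹ * x * g) * R.n := by
    rw [mul_inv_rev, R.n_inv]; group
  rw [e]
  constructor
  · rintro ⟨h1, h2⟩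
    exact R.n_conj_B' h1 h2
  · intro h
    exact ⟨R.H_le_B h, R.H_le_B (R.n_conj_H h)⟩

theorem third {x y z : G ⧸ R.B} (hxy : x ≠ y) (hxz : x ≠ z) (hyz : y ≠ z) :
    ∃ g : G, ∃ b ∈ R.U, b ≠ 1 ∧ x = (g : G ⧸ R.B) ∧ y = ((g * R.n : G) : G ⧸ R.B) ∧
      z = ((g * b * R.n : G) : G ⧸ R.B) := by
  obtain ⟨g, rfl, rfl⟩ := R.two_trans hxy
  induction z using QuotientGroup.induction_on with
  | _ k =>
    rcases R.cover (g⁻¹ * k) with h1 | ⟨a, ha, c, hc, h1⟩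
    · exact absurd (R.mk_eq_iff.2 h1) hxz
    · obtain ⟨t, u, v, s, rfl⟩ := ha
      have h2 : ((k : G) : G ⧸ R.B) = ((g * R.w t u v * R.n : G) : G ⧸ R.B) := by
        rw [R.mk_eq_iff]
        have h3 : k = g * (R.w t u v * R.h s * R.n * c) := by rw [← h1]; group
        have e : k⁻¹ * (g * R.w t u v * R.n) = c⁻¹ * (R.n⁻¹ * (R.h s)⁻¹ * R.n) := by rw [h3]; group
        rw [e, R.n_inv, ← map_inv]
        exact mul_mem (inv_mem (R.U_le_B hc)) (R.H_le_B (R.n_conj_H (R.h_mem _)))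
      refine ⟨g, R.w t u v, R.w_mem _ _ _, ?_, rfl, rfl, h2⟩
      intro h3
      apply hyz
      rw [h2, h3, mul_one]

theorem stab_three {g b x : G} (hb : b ∈ R.U) : x ∈ MulAction.stabilizer G (g : G ⧸ R.B) ⊓
    MulAction.stabilizer G ((g * R.n : G) : G ⧸ R.B) ⊓ MulAction.stabilizer G ((g * b * R.n : G) : G ⧸ R.B) ↔
    g⁻¹ * x * g ∈ R.H ∧ (g⁻¹ * x * g) * b = b * (g⁻¹ * x * g) := by
  rw [Subgroup.mem_inf, R.stab_two, R.mem_stab]
  set y := g⁻¹ * x * g with hy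
  have e : (g * b * R.n)⁻¹ * x * (g * b * R.n) = R.n * (b⁻¹ * y * b) * R.n := by
    rw [mul_inv_rev, mul_inv_rev, R.n_inv, hy]; group
  rw [e]
  constructor
  · rintro ⟨h1, h2⟩
    refine ⟨h1, ?_⟩
    -- `b⁻¹ y b = (b⁻¹ y b y⁻¹) y`
    obtain ⟨s, hs⟩ := R.mem_H.1 h1
    have h3 : b⁻¹ * (y * b * y⁻¹) ∈ R.U := by
      rw [hs]
      exact mul_mem (inv_mem hb) (R.hU s hb)
    have h4 : R.n * (b⁻¹ * (y * b * y⁻¹)) * R.n ∈ R.B := by
      have e2 : R.n * (b⁻¹ * (y * b * y⁻¹)) * R.n = (R.n * (b⁻¹ * y * b) * R.n) * (R.n⁻¹ * y⁻¹ * R.n) := by group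
      rw [e2, R.n_inv]
      exact mul_mem h2 (R.H_le_B (R.n_conj_H (inv_mem h1)))
    have h5 := R.n_conj_B h3 h4
    calc y * b = b * (b⁻¹ * (y * b * y⁻¹)) * y := by group
      _ = b * y := by rw [h5, mul_one]
  · rintro ⟨h1, h2⟩
    refine ⟨h1, ?_⟩
    have e2 : b⁻¹ * y * b = y := by rw [mul_assoc, h2]; group
    rw [e2]
    exact R.H_le_B (R.n_conj_H h1)

theorem card_three {g b : G} (hb : b ∈ R.U) {t u v : K} (hbw : b = R.w t u v) :
    Nat.card ↥(MulAction.stabilizer G (g : G ⧸ R.B) ⊓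
      MulAction.stabilizer G ((g * R.n : G) : G ⧸ R.B) ⊓ MulAction.stabilizer G ((g * b * R.n : G) : G ⧸ R.B)) =
    Nat.card {s : Kˣ // (t = 0 ∨ s = 1) ∧ (u = 0 ∨ s = 1 ∨ s = -1) ∧ (v = 0 ∨ s = 1)} := by
  symm
  apply Nat.card_congr
  refine Equiv.ofBijective (fun s => ⟨g * R.h s.1 * g⁻¹, (R.stab_three hb).2 ?_⟩) ⟨?_, ?_⟩
  · have e : g⁻¹ * (g * R.h s.1 * g⁻¹) * g = R.h s.1 := by group
    rw [e, hbw]
    exact ⟨R.h_mem _, (R.h_comm_iff _ _ _ _).2 s.2⟩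
  · rintro ⟨s, hs⟩ ⟨s', hs'⟩ h
    have h1 : g * R.h s * g⁻¹ = g * R.h s' * g⁻¹ := congrArg Subtype.val h
    exact Subtype.ext (R.hinj (mul_left_cancel (mul_right_cancel h1)))
  · rintro ⟨x, hx⟩
    obtain ⟨h1, h2⟩ := (R.stab_three hb).1 hx
    obtain ⟨s, hs⟩ := R.mem_H.1 h1
    rw [hs, hbw] at h2
    refine ⟨⟨s, (R.h_comm_iff _ _ _ _).1 h2⟩, Subtype.ext ?_⟩
    change g * R.h s * g⁻¹ = x
    rw [← hs]; group

end RG

end Cfsg.Agent.H6.Ree
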