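import Cfsg.Agent.H6_Ree5

/-!
The Ree groups: the centraliser of an involution.
-/

set_option autoImplicit false
set_option linter.unusedSectionVars false

namespace Cfsg.Agent.H6.Ree

open Cfsg Cfsg.Lie
open scoped Pointwise

local notation "SL2" => Matrix.SpecialLinearGroup (Fin 2)

section sl2

variable {K : Type*} [Field K]

/-- elements of `SL₂` -/
def uu (x : K) : SL2 K := ⟨!![1, x; 0, 1], by simp⟩
def tt (t : Kˣ) : SL2 K := ⟨!![(t : K), 0; 0, (t : K)⁻¹], by simp⟩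
def ww : SL2 K := ⟨!![0, 1; -1, 0], by simp⟩

theorem sl2_forms (g : SL2 K) : (∃ (t : Kˣ) (x : K), g = tt t * uu x) ∨
    (∃ (x : K) (t : Kˣ) (y : K), g = uu x * tt t * ww * uu y) := by
  have hdet : g 0 0 * g 1 1 - g 0 1 * g 1 0 = 1 := by
    have := g.2
    rwa [Matrix.det_fin_two] at this
  by_cases hc : g 1 0 = 0
  · left
    have ha : g 0 0 ≠ 0 := by
      intro h
      rw [h, hc] at hdet
      simp at hdet
    have hd : g 1 1 = (g 0 0)⁻¹ := by
      rw [hc, mul_zero, sub_zero] at hdet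
      exact (inv_eq_of_mul_eq_one_right hdet).symm
    refine ⟨Units.mk0 _ ha, g 0 1 / g 0 0, ?_⟩
    ext i j
    change g i j = (!![g 0 0, 0; 0, (g 0 0)⁻¹] * !![1, g 0 1 / g 0 0; 0, 1] : Matrix (Fin 2) (Fin 2) K) i j
    fin_cases i <;> fin_cases j
    · simp
    · simp
      field_simp
    · simpa using hc
    · simpa using hd
  · right
    have hc' : -(g 1 0)⁻¹ ≠ 0 := neg_ne_zero.2 (inv_ne_zero hc)
    have hb : g 0 1 = (g 0 0 * g 1 1 - 1) / g 1 0 := by
      field_simp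
      linear_combination -hdet
    refine ⟨g 0 0 / g 1 0, Units.mk0 _ hc', g 1 1 / g 1 0, ?_⟩
    ext i j
    change g i j = (!![1, g 0 0 / g 1 0; 0, 1] * !![-(g 1 0)⁻¹, 0; 0, (-(g 1 0)⁻¹)⁻¹] * !![0, 1; -1, 0] *
      !![1, g 1 1 / g 1 0; 0, 1] : Matrix (Fin 2) (Fin 2) K) i j
    fin_cases i <;> fin_cases j
    · simp
      field_simp
    · simp
      rw [hb]
      field_simp
      ring
    · simp
    · simp
      field_simp

end sl2

namespace RG

variable {K : Type*} [Field K] {G : Type*} [Group G] (R : RG K G)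

include R

/-- the torus parameter of `SL₂` -/
def κ : Kˣ →* Kˣ where
  toFun t := (Units.map (R.φ : K →* K) t) ^ 3 * t
  map_one' := by simp
  map_mul' s t := by rw [map_mul, mul_pow]; ac_rfl

theorem κ_def (t : Kˣ) : R.κ t = (Units.map (R.φ : K →* K) t) ^ 3 * t := rfl

theorem κ_one_iff {t : Kˣ} : R.κ t = 1 ↔ t = 1 ∨ t = -1 := by
  constructor
  · intro ht
    have h1 : R.φ t ^ 3 * (t : K) = 1 := congrArg Units.val ht
    have h2 := congrArg R.φ h1
    rw [map_mul, map_pow, R.φ2, map_one] at h2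
    have h5 : (t : K) ^ 2 = 1 := by
      have h3 : R.φ (t : K) ^ 3 * (t : K) ^ 3 = 1 := by rw [← mul_pow, mul_comm, h2, one_pow]
      have h4 : R.φ (t : K) ^ 3 * t * (t : K) ^ 2 = 1 := by rw [← h3]; ring
      rwa [h1, one_mul] at h4
    rcases sq_eq_one_iff.1 h5 with h | h
    · exact Or.inl (Units.ext h)
    · exact Or.inr (Units.ext (by rw [h]; simp))
  · rintro (rfl | rfl)
    · rw [map_one]
    · apply Units.ext
      rw [κ_def]
      simp
      norm_num

theorem sl_uu (x : K) : R.sl (uu x) = R.w 0 x 0 := R.slU _ x rfl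

theorem sl_tt (t : Kˣ) : R.sl (tt t) = R.h (R.κ t) := R.slT _ t rfl

theorem sl_ww : R.sl ww = R.n := R.sln _ rfl

theorem a_h (s : Kˣ) : R.a * R.h s = R.h s * R.a := by
  rw [a_def, ← map_mul, ← map_mul, mul_comm]

theorem a_n : R.a * R.n = R.n * R.a := by
  rw [a_def, R.nhc]
  congr 2

theorem a_w (x : K) : R.a * R.w 0 x 0 = R.w 0 x 0 * R.a := (R.a_comm_iff 0 x 0).2 ⟨rfl, rfl⟩

theorem a_sl (g : SL2 K) : R.a * R.sl g = R.sl g * R.a := by
  have key : ∀ {x y : G}, R.a * x = x * R.a → R.a * y = y * R.a → R.a * (x * y) = x * y * R.a := by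
    intro x y hx hy
    rw [← mul_assoc, hx, mul_assoc, hy, mul_assoc]
  rcases sl2_forms g with ⟨t, x, rfl⟩ | ⟨x, t, y, rfl⟩
  · rw [map_mul, sl_uu, sl_tt]
    exact key (R.a_h _) (R.a_w _)
  · rw [map_mul, map_mul, map_mul, sl_uu, sl_tt, sl_ww, sl_uu]
    exact key (key (key (R.a_w _) (R.a_h _)) R.a_n) (R.a_w _)

theorem sl_one_iff {g : SL2 K} : R.sl g = 1 ↔ g = 1 ∨ g = -1 := by
  constructor
  · intro h
    rcases sl2_forms g with ⟨t, x, rfl⟩ | ⟨x, t, y, rfl⟩
    · rw [map_mul, sl_uu, sl_tt, R.hwc] at h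
      have h1 : R.w ((R.κ t : K) ^ 2 * (R.φ (R.κ t : K) ^ 3)⁻¹ * 0) (R.φ (R.κ t : K) ^ 3 * (R.κ t : K)⁻¹ * x) ((R.κ t : K) * 0) *
        R.h (R.κ t) = R.w 0 0 0 * R.h 1 := by rw [h, map_one, mul_one, R.w_zero]
      obtain ⟨-, h2, -, h4⟩ := R.wh_uniq h1
      have hx : x = 0 := by
        rcases mul_eq_zero.1 h2 with h5 | h5
        · exfalso
          have : R.φ (R.κ t : K) ^ 3 * (R.κ t : K)⁻¹ ≠ 0 := mul_ne_zero (pow_ne_zero 3 (by simp)) (inv_ne_zero (Units.ne_zero _))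
          exact this h5
        · exact h5
      subst hx
      rcases R.κ_one_iff.1 h4 with rfl | rfl
      · left
        ext i j
        change (!![_, 0; 0, _] * !![1, _; 0, 1] : Matrix (Fin 2) (Fin 2) K) i j = _
        fin_cases i <;> fin_cases j <;> simp
      · right
        ext i j
        change (!![_, 0; 0, _] * !![1, _; 0, 1] : Matrix (Fin 2) (Fin 2) K) i j = _
        fin_cases i <;> fin_cases j <;> simp
    · exfalso
      rw [map_mul, map_mul, map_mul, sl_uu, sl_tt, sl_ww, sl_uu] at h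
      apply R.big_not_B (a := R.w 0 x 0 * R.h (R.κ t)) (b := R.w 0 y 0) (mul_mem (R.wB _ _ _) (R.hB _)) (R.wB _ _ _)
      rw [h]
      exact one_mem _
  · rintro (rfl | rfl)
    · exact map_one _
    · have e : (-1 : SL2 K) = tt (-1) := by
        ext i j
        change _ = (!![_, 0; 0, _] : Matrix (Fin 2) (Fin 2) K) i j
        fin_cases i <;> fin_cases j <;> simp
      rw [e, sl_tt, R.κ_one_iff.2 (Or.inr rfl), map_one]

section fin

variable [Fintype K] {m : ℕ} (hK : Fintype.card K = 3 ^ (2 * m + 1))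

include hK

/-- `κ` is onto the elements of odd order -/
theorem κ_surj {s : Kˣ} (hs : Odd (orderOf s)) : ∃ t, R.κ t = s := by
  let O : Subgroup Kˣ := 
    { carrier := {s | s ^ ((3 ^ (2 * m + 1) - 1) / 2) = 1}
      one_mem' := one_pow _
      mul_mem' := fun {a b} ha hb => by
        change (a * b) ^ _ = 1
        rw [mul_pow, ha, hb, one_mul]
      inv_mem' := fun {a} ha => by
        change (a⁻¹) ^ _ = 1
        rw [inv_pow, ha, inv_one] }
  have hO : ∀ s : Kˣ, s ∈ O ↔ Odd (orderOf s) := fun s => (odd_iff hK s).symm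
  let f : O → O := fun t => ⟨R.κ t, by
    change R.κ t ^ _ = 1
    rw [← map_pow, show (t : Kˣ) ^ _ = 1 from t.2, map_one]⟩
  have hf : Function.Injective f := by
    intro t t' h
    have h1 : R.κ ((t : Kˣ) * (t' : Kˣ)⁻¹) = 1 := by
      rw [map_mul, map_inv, mul_inv_eq_one]
      exact congrArg Subtype.val h
    rcases R.κ_one_iff.1 h1 with h2 | h2
    · exact Subtype.ext (mul_inv_eq_one.1 h2)
    · exfalso
      exact odd_order_neg hK ((hO _).1 (O.mul_mem t.2 (O.inv_mem t'.2))) R.char3 h2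
  obtain ⟨t, ht⟩ := Finite.surjective_of_injective hf ⟨s, (hO s).2 hs⟩
  exact ⟨t, congrArg Subtype.val ht⟩

/-- every torus element is in `⟨a⟩ sl(SL₂)` -/
theorem h_form (s : Kˣ) : ∃ g, R.h s = R.sl g ∨ R.h s = R.a * R.sl g := by
  rcases pm_odd hK R.char3 s with h | h
  · obtain ⟨t, ht⟩ := R.κ_surj hK h
    exact ⟨tt t, Or.inl (by rw [sl_tt, ht])⟩
  · obtain ⟨t, ht⟩ := R.κ_surj hK h
    exact ⟨tt t, Or.inr (by rw [sl_tt, ht, a_def, ← map_mul]; congr 1; simp)⟩

theorem cen_a {g : G} (hg : R.a * g = g * R.a) : ∃ x, g = R.sl x ∨ g = R.a * R.sl x := by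
  have step : ∀ u s, ∃ x, R.w 0 u 0 * R.h s = R.sl x ∨ R.w 0 u 0 * R.h s = R.a * R.sl x := by
    intro u s
    obtain ⟨y, hy⟩ := R.h_form hK s
    refine ⟨uu u * y, ?_⟩
    rw [map_mul, sl_uu]
    rcases hy with hy | hy
    · exact Or.inl (by rw [hy])
    · refine Or.inr ?_
      rw [hy, ← mul_assoc, ← R.a_w, mul_assoc]
  rcases R.cov g with ⟨t, u, v, s, rfl⟩ | ⟨t, u, v, s, t', u', v', rfl⟩
  · have h1 : R.a * R.w t u v = R.w t u v * R.a := by
      apply mul_right_cancel (b := R.h s)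
      rw [mul_assoc, hg, mul_assoc, mul_assoc, R.a_h]
    obtain ⟨rfl, rfl⟩ := (R.a_comm_iff _ _ _).1 h1
    exact step u s
  · have h1 : (R.a * (R.w t u v * R.h s) * R.a⁻¹) * R.n * (R.a * R.w t' u' v' * R.a⁻¹) =
        (R.w t u v * R.h s) * R.n * R.w t' u' v' := by
      calc (R.a * (R.w t u v * R.h s) * R.a⁻¹) * R.n * (R.a * R.w t' u' v' * R.a⁻¹) =
          R.a * (R.w t u v * R.h s) * R.a⁻¹ * (R.n * R.a) * R.w t' u' v' * R.a⁻¹ := by group
        _ = R.a * (R.w t u v * R.h s) * R.a⁻¹ * (R.a * R.n) * R.w t' u' v' * R.a⁻¹ := by rw [R.a_n]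
        _ = (R.a * (R.w t u v * R.h s * R.n * R.w t' u' v')) * R.a⁻¹ := by group
        _ = _ := by rw [hg]; group
    have hBa : R.a ∈ R.B := R.hB _
    obtain ⟨h2, h3⟩ := R.big_uniq (mul_mem (mul_mem hBa ⟨_, _, _, _, rfl⟩) (inv_mem hBa))
      (R.B_norm_U hBa (R.w_mem t' u' v')) ⟨_, _, _, _, rfl⟩ (R.w_mem t' u' v') h1
    have h4 : R.a * R.w t u v = R.w t u v * R.a := by
      apply mul_right_cancel (b := R.h s)
      have h5 : R.a * (R.w t u v * R.h s) = R.w t u v * R.h s * R.a := mul_inv_eq_iff_eq_mul.1 h2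
      rw [mul_assoc, h5, mul_assoc, mul_assoc, R.a_h]
    have h5 : R.a * R.w t' u' v' = R.w t' u' v' * R.a := mul_inv_eq_iff_eq_mul.1 h3
    obtain ⟨rfl, rfl⟩ := (R.a_comm_iff _ _ _).1 h4
    obtain ⟨rfl, rfl⟩ := (R.a_comm_iff _ _ _).1 h5
    obtain ⟨x, hx⟩ := step u s
    refine ⟨x * ww * uu u', ?_⟩
    rw [map_mul, map_mul, sl_ww, sl_uu]
    rcases hx with hx | hx
    · exact Or.inl (by rw [hx])
    · exact Or.inr (by rw [hx]; group)

end fin

end RG

end Cfsg.Agent.H6.Ree
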