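import Cfsg.Agent.H6_Ree6

/-!
The Ree groups: the isomorphism type of the centraliser of an involution, Sylow `2`-subgroups.
-/

set_option autoImplicit false
set_option linter.unusedSectionVars false

namespace Cfsg.Agent.H6.Ree

open Cfsg Cfsg.Lie
open scoped Pointwise

local notation "SL2" => Matrix.SpecialLinearGroup (Fin 2)
local notation "PSL2" => Matrix.ProjectiveSpecialLinearGroup (Fin 2)

section psl

variable {K : Type*} [Field K]

theorem scalar_neg : (Matrix.scalar (Fin 2)) (-1 : K) = ((-1 : SL2 K) : Matrix (Fin 2) (Fin 2) K) := by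
  rw [map_neg, map_one]
  rfl

theorem mem_center_sl2 {g : SL2 K} : g ∈ Subgroup.center (SL2 K) ↔ g = 1 ∨ g = -1 := by
  rw [Matrix.SpecialLinearGroup.mem_center_iff]
  constructor
  · rintro ⟨r, hr, h⟩
    rw [Fintype.card_fin] at hr
    rcases sq_eq_one_iff.1 hr with rfl | rfl
    · left
      apply Subtype.ext
      rw [← h]; simp
    · right
      apply Subtype.ext
      rw [← h]; exact scalar_neg
  · rintro (rfl | rfl)
    · exact ⟨1, by simp, by simp⟩
    · exact ⟨-1, by simp, scalar_neg⟩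

/-- `h² = tr(h) h - 1` -/
theorem sl2_sq (g : SL2 K) (i j : Fin 2) : (g * g) i j = (g 0 0 + g 1 1) * g i j - (1 : SL2 K) i j := by
  have hdet : g 0 0 * g 1 1 - g 0 1 * g 1 0 = 1 := by
    have := g.2
    rwa [Matrix.det_fin_two] at this
  have e : (g * g) i j = g i 0 * g 0 j + g i 1 * g 1 j := by
    change ((g : Matrix (Fin 2) (Fin 2) K) * (g : Matrix (Fin 2) (Fin 2) K)) i j = _
    rw [Matrix.mul_apply, Fin.sum_univ_two]
  rw [e]
  fin_cases i <;> fin_cases j
  · simp; linear_combination -hdet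
  · simp; ring
  · simp; ring
  · simp; linear_combination -hdet

theorem sl2_tr_sq (g : SL2 K) : (g * g) 0 0 + (g * g) 1 1 = (g 0 0 + g 1 1) ^ 2 - 2 := by
  rw [sl2_sq, sl2_sq]
  simp
  ring

/-- an element of `SL₂` whose square is `±1` -/
theorem sl2_sq_pm (g : SL2 K) (h : g * g = 1 ∨ g * g = -1) : g = 1 ∨ g = -1 ∨ g 0 0 + g 1 1 = 0 := by
  by_cases ht : g 0 0 + g 1 1 = 0
  · exact Or.inr (Or.inr ht)
  · -- `g` is scalar
    have h1 : ∃ c : K, ∀ i j, g i j = c * (1 : SL2 K) i j := by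
      rcases h with h | h
      · refine ⟨(g 0 0 + g 1 1)⁻¹ * 2, fun i j => ?_⟩
        have h2 := sl2_sq g i j
        rw [h] at h2
        field_simp
        linear_combination -h2
      · refine ⟨0, fun i j => ?_⟩
        have h2 := sl2_sq g i j
        rw [h] at h2
        have h3 : (-1 : SL2 K) i j = -((1 : SL2 K) i j) := rfl
        rw [h3] at h2
        have h4 : (g 0 0 + g 1 1) * g i j = 0 := by linear_combination -h2
        rw [zero_mul]
        exact (mul_eq_zero.1 h4).resolve_left ht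
    obtain ⟨c, hc⟩ := h1
    have h00 : g 0 0 = c := by rw [hc]; simp
    have h11 : g 1 1 = c := by rw [hc]; simp
    have h01 : g 0 1 = 0 := by rw [hc]; simp
    have h10 : g 1 0 = 0 := by rw [hc]; simp
    have hdet : g 0 0 * g 1 1 - g 0 1 * g 1 0 = 1 := by
      have := g.2
      rwa [Matrix.det_fin_two] at this
    rw [h00, h11, h01, mul_comm 0, mul_zero, sub_zero] at hdet
    have h5 : c ^ 2 = 1 := by rw [← hdet]; ring
    rcases sq_eq_one_iff.1 h5 with rfl | rfl
    · left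
      ext i j
      rw [hc, one_mul]
    · right; left
      ext i j
      rw [hc]
      have h3 : (-1 : SL2 K) i j = -((1 : SL2 K) i j) := rfl
      rw [h3]; ring

/-- no elements of order four in `PSL₂` when `2` is not a square -/
theorem sl2_four (h2 : ∀ x : K, x ^ 2 ≠ 2) (g : SL2 K) (h : (g * g) * (g * g) = 1 ∨ (g * g) * (g * g) = -1) :
    g * g = 1 ∨ g * g = -1 := by
  rcases sl2_sq_pm (g * g) h with h1 | h1 | h1
  · exact Or.inl h1
  · exact Or.inr h1
  · exfalso
    rw [sl2_tr_sq] at h1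
    exact h2 _ (sub_eq_zero.1 h1)

end psl

namespace RG

variable {K : Type*} [Field K] {G : Type*} [Group G] (R : RG K G)

include R

section fin

variable [Fintype K] {m : ℕ} (hK : Fintype.card K = 3 ^ (2 * m + 1))

include hK

theorem κ_odd (t : Kˣ) : Odd (orderOf (R.κ t)) := by
  rw [odd_iff hK, ← map_pow, R.κ_one_iff]
  rcases pm_odd hK R.char3 t with h | h
  · exact Or.inl ((odd_iff hK t).1 h)
  · right
    have h1 := (odd_iff hK (-t)).1 h
    rw [Odd.neg_pow (Nat.odd_iff.2 (half_odd hK))] at h1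
    rw [← h1, neg_neg]

theorem a_not_sl (x : SL2 K) : R.sl x ≠ R.a := by
  intro h
  rcases sl2_forms x with ⟨t, x, rfl⟩ | ⟨x, t, y, rfl⟩
  · rw [map_mul, sl_uu, sl_tt, R.hwc, a_def] at h
    have h1 : R.w ((R.κ t : K) ^ 2 * (R.φ (R.κ t : K) ^ 3)⁻¹ * 0) (R.φ (R.κ t : K) ^ 3 * (R.κ t : K)⁻¹ * x) ((R.κ t : K) * 0) *
      R.h (R.κ t) = R.w 0 0 0 * R.h (-1) := by rw [h, R.w_zero, one_mul]
    obtain ⟨-, -, -, h4⟩ := R.wh_uniq h1
    exact odd_order_neg hK (R.κ_odd hK t) R.char3 h4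
  · rw [map_mul, map_mul, map_mul, sl_uu, sl_tt, sl_ww, sl_uu] at h
    apply R.big_not_B (a := R.w 0 x 0 * R.h (R.κ t)) (b := R.w 0 y 0) (mul_mem (R.wB _ _ _) (R.hB _)) (R.wB _ _ _)
    rw [h]
    exact R.hB _

/-- the centraliser of the involution -/
theorem exists_cen_equiv : ∃ e : Multiplicative (ZMod 2) × PSL2 K ≃* ↥(Subgroup.centralizer {R.a}),
    (∀ x : PSL2 K, ((e (1, x) : ↥(Subgroup.centralizer {R.a})) : G) ∈ R.sl.range) ∧
    (∀ z : Multiplicative (ZMod 2), z ≠ 1 → ((e (z, 1) : ↥(Subgroup.centralizer {R.a})) : G) = R.a) ∧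
    (∀ g : SL2 K, ((e (1, (g : PSL2 K)) : ↥(Subgroup.centralizer {R.a})) : G) = R.sl g) := by
  classical
  set C := Subgroup.centralizer {R.a} with hC
  have memC : ∀ g : G, g ∈ C ↔ R.a * g = g * R.a := fun g => by
    rw [hC, Subgroup.mem_centralizer_iff]
    simp
  let a' : C := ⟨R.a, (memC _).2 rfl⟩
  have ha' : a' * a' = 1 := Subtype.ext R.aa
  let z : Multiplicative (ZMod 2) →* C :=
    { toFun := fun x => if x = 1 then 1 else a'
      map_one' := if_pos rfl
      map_mul' := by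
        have h2 : ∀ x : Multiplicative (ZMod 2), x = 1 ∨ x = Multiplicative.ofAdd 1 := by decide
        have h3 : (Multiplicative.ofAdd (1 : ZMod 2)) ≠ 1 := by decide
        have h4 : (Multiplicative.ofAdd (1 : ZMod 2)) * Multiplicative.ofAdd 1 = 1 := by decide
        intro x y
        rcases h2 x with rfl | rfl <;> rcases h2 y with rfl | rfl
        · simp
        · simp [h3]
        · simp [h3]
        · rw [h4, if_pos rfl, if_neg h3, ha'] }
  have hz : ∀ x : Multiplicative (ZMod 2), x ≠ 1 → z x = a' := fun x hx => if_neg hx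
  let sl' : SL2 K →* C := R.sl.codRestrict C fun g => (memC _).2 (R.a_sl g)
  let p : PSL2 K →* C := QuotientGroup.lift (Subgroup.center (SL2 K)) sl' fun x hx => by
    apply Subtype.ext
    exact R.sl_one_iff.2 (mem_center_sl2.1 hx)
  have hp : ∀ g : SL2 K, p (g : PSL2 K) = sl' g := fun g => rfl
  have hcomm : ∀ (x : Multiplicative (ZMod 2)) (y : PSL2 K), Commute (z x) (p y) := by
    intro x y
    induction y using QuotientGroup.induction_on with
    | _ g =>
      rw [hp]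
      change (if x = 1 then 1 else a') * sl' g = sl' g * (if x = 1 then 1 else a')
      split_ifs
      · rw [one_mul, mul_one]
      · exact Subtype.ext (R.a_sl g)
  let F : Multiplicative (ZMod 2) × PSL2 K →* C := MonoidHom.noncommCoprod z p hcomm
  have hF : ∀ x y, F (x, y) = z x * p y := fun x y => rfl
  have hinj : Function.Injective F := by
    rw [injective_iff_map_eq_one]
    rintro ⟨x, y⟩ h
    induction y using QuotientGroup.induction_on with
    | _ g =>
      rw [hF, hp] at h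
      by_cases hx : x = 1
      · subst hx
        rw [map_one, one_mul] at h
        have h1 : R.sl g = 1 := congrArg Subtype.val h
        have h2 : (g : PSL2 K) = 1 := (QuotientGroup.eq_one_iff g).2 (mem_center_sl2.2 (R.sl_one_iff.1 h1))
        rw [h2]; rfl
      · exfalso
        rw [hz _ hx] at h
        have h2 : R.a * R.sl g = 1 := congrArg Subtype.val h
        apply R.a_not_sl hK g
        rw [← mul_right_inj R.a, h2, R.aa]
  have hsurj : Function.Surjective F := by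
    rintro ⟨g, hg⟩
    obtain ⟨x, hx | hx⟩ := R.cen_a hK ((memC g).1 hg)
    · refine ⟨(1, (x : PSL2 K)), ?_⟩
      rw [hF, map_one, one_mul]
      exact Subtype.ext hx.symm
    · refine ⟨(Multiplicative.ofAdd 1, (x : PSL2 K)), ?_⟩
      have h3 : (Multiplicative.ofAdd (1 : ZMod 2)) ≠ 1 := by decide
      rw [hF, hz _ h3]
      exact Subtype.ext hx.symm
  refine ⟨MulEquiv.ofBijective F ⟨hinj, hsurj⟩, ?_, ?_, ?_⟩
  · intro x
    induction x using QuotientGroup.induction_on with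
    | _ g =>
      refine ⟨g, ?_⟩
      change R.sl g = ((z 1 * p (g : PSL2 K) : C) : G)
      rw [map_one, one_mul]
      rfl
  · intro x hx
    change ((z x * p 1 : C) : G) = R.a
    rw [map_one, mul_one, hz _ hx]
  · intro g
    change ((z 1 * p (g : PSL2 K) : C) : G) = R.sl g
    rw [map_one, one_mul]
    rfl

end fin

theorem mem_cen_a {g : G} : g ∈ Subgroup.centralizer {R.a} ↔ R.a * g = g * R.a := by
  rw [Subgroup.mem_centralizer_iff]
  simp

/-- parametrisation of the centraliser of `a` -/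
noncomputable def eC : (K × Kˣ) ⊕ (K × Kˣ × K) ≃ ↥(Subgroup.centralizer {R.a}) :=
  Equiv.ofBijective (Sum.elim (fun p => ⟨R.w 0 p.1 0 * R.h p.2, R.mem_cen_a.2 (by
      rw [← mul_assoc, R.a_w, mul_assoc, R.a_h, mul_assoc])⟩)
    (fun p => ⟨R.w 0 p.1 0 * R.h p.2.1 * R.n * R.w 0 p.2.2 0, R.mem_cen_a.2 (by
      calc R.a * (R.w 0 p.1 0 * R.h p.2.1 * R.n * R.w 0 p.2.2 0) =
          (R.a * R.w 0 p.1 0) * R.h p.2.1 * R.n * R.w 0 p.2.2 0 := by group
        _ = R.w 0 p.1 0 * (R.a * R.h p.2.1) * R.n * R.w 0 p.2.2 0 := by rw [R.a_w]; group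
        _ = R.w 0 p.1 0 * R.h p.2.1 * (R.a * R.n) * R.w 0 p.2.2 0 := by rw [R.a_h]; group
        _ = R.w 0 p.1 0 * R.h p.2.1 * R.n * (R.a * R.w 0 p.2.2 0) := by rw [R.a_n]; group
        _ = _ := by rw [R.a_w]; group)⟩)) ⟨by
    rintro (⟨u, s⟩ | ⟨u, s, v⟩) (⟨u', s'⟩ | ⟨u', s', v'⟩) h
    · obtain ⟨-, h2, -, h4⟩ := R.wh_uniq (congrArg Subtype.val h)
      exact congrArg Sum.inl (Prod.ext h2 h4)
    · exfalso
      have h : R.w 0 u 0 * R.h s = R.w 0 u' 0 * R.h s' * R.n * R.w 0 v' 0 := congrArg Subtype.val h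
      apply R.big_not_B (a := R.w 0 u' 0 * R.h s') (b := R.w 0 v' 0) ⟨_, _, _, _, rfl⟩ (R.wB _ _ _)
      rw [← h]
      exact ⟨_, _, _, _, rfl⟩
    · exfalso
      have h : R.w 0 u 0 * R.h s * R.n * R.w 0 v 0 = R.w 0 u' 0 * R.h s' := congrArg Subtype.val h
      apply R.big_not_B (a := R.w 0 u 0 * R.h s) (b := R.w 0 v 0) ⟨_, _, _, _, rfl⟩ (R.wB _ _ _)
      rw [h]
      exact ⟨_, _, _, _, rfl⟩
    · have h : R.w 0 u 0 * R.h s * R.n * R.w 0 v 0 = R.w 0 u' 0 * R.h s' * R.n * R.w 0 v' 0 := congrArg Subtype.val h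
      obtain ⟨h1, h2⟩ := R.big_uniq ⟨_, _, _, _, rfl⟩ (R.w_mem _ _ _) ⟨_, _, _, _, rfl⟩ (R.w_mem _ _ _) h
      obtain ⟨-, h3, -, h4⟩ := R.wh_uniq h1
      obtain ⟨-, h5, -⟩ := R.winj h2
      exact congrArg Sum.inr (Prod.ext h3 (Prod.ext h4 h5)), by
    rintro ⟨g, hg⟩
    have hg := R.mem_cen_a.1 hg
    rcases R.cov g with ⟨t, u, v, s, rfl⟩ | ⟨t, u, v, s, t', u', v', rfl⟩
    · have h1 : R.a * R.w t u v = R.w t u v * R.a := by
        apply mul_right_cancel (b := R.h s)
        rw [mul_assoc, hg, mul_assoc, mul_assoc, R.a_h]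
      obtain ⟨rfl, rfl⟩ := (R.a_comm_iff _ _ _).1 h1
      exact ⟨Sum.inl (u, s), rfl⟩
    · have h1 : (R.a * (R.w t u v * R.h s) * R.a⁻¹) * R.n * (R.a * R.w t' u' v' * R.a⁻¹) =
          (R.w t u v * R.h s) * R.n * R.w t' u' v' := by
        calc (R.a * (R.w t u v * R.h s) * R.a⁻¹) * R.n * (R.a * R.w t' u' v' * R.a⁻¹) =
            R.a * (R.w t u v * R.h s) * R.a⁻¹ * (R.n * R.a) * R.w t' u' v' * R.a⁻¹ := by group
          _ = R.a * (R.w t u v * R.h s) * R.a⁻¹ * (R.a * R.n) * R.w t' u' v' * R.a⁻¹ := by rw [R.a_n]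
          _ = (R.a * (R.w t u v * R.h s * R.n * R.w t' u' v')) * R.a⁻¹ := by group
          _ = _ := by rw [hg]; group
      have hBa : R.a ∈ R.B := R.hB _
      obtain ⟨h2, h3⟩ := R.big_uniq (mul_mem (mul_mem hBa ⟨_, _, _, _, rfl⟩) (inv_mem hBa))
        (R.B_norm_U hBa (R.w_mem t' u' v')) ⟨_, _, _, _, rfl⟩ (R.w_mem t' u' v') h1
      have h4 : R.a * R.w t u v = R.w t u v * R.a := by
        apply mul_right_cancel (b := R.h s)
        have h5 : R.a * (R.w t u v * R.h s) = R.w t u v * R.h s * R.a := mul_inv_eq_iff_eq_mul.1 h2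
        rw [mul_assoc, h5, mul_assoc, mul_assoc, R.a_h]
      have h5 : R.a * R.w t' u' v' = R.w t' u' v' * R.a := mul_inv_eq_iff_eq_mul.1 h3
      obtain ⟨rfl, rfl⟩ := (R.a_comm_iff _ _ _).1 h4
      obtain ⟨rfl, rfl⟩ := (R.a_comm_iff _ _ _).1 h5
      exact ⟨Sum.inr (u, s, u'), rfl⟩⟩

theorem card_cen_a [Finite K] : Nat.card ↥(Subgroup.centralizer {R.a}) = Nat.card K * Nat.card Kˣ * (Nat.card K + 1) := by
  rw [← Nat.card_congr R.eC, Nat.card_sum, Nat.card_prod, Nat.card_prod, Nat.card_prod]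
  ring

section fin

variable [Fintype K] [Finite G] {m : ℕ} (hK : Fintype.card K = 3 ^ (2 * m + 1))

include hK

theorem two_part : ∃ r k : ℕ, Odd r ∧ Odd k ∧ Nat.card ↥(Subgroup.centralizer {R.a}) = 8 * r ∧
    Nat.card G = Nat.card ↥(Subgroup.centralizer {R.a}) * k := by
  rw [R.card_cen_a, R.card_G, R.cardK hK, card_units' hK]
  have h8 := pow_mod8 m
  set q := 3 ^ (2 * m + 1) with hq
  obtain ⟨j, hj⟩ : ∃ j, q = 8 * j + 3 := ⟨q / 8, by omega⟩
  refine ⟨q * (4 * j + 1) * (2 * j + 1), q ^ 2 * (q ^ 2 - q + 1), ?_, ?_, ?_, ?_⟩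
  · refine Odd.mul (Odd.mul ?_ ?_) ?_
    · exact ⟨4 * j + 1, by rw [hj]; ring⟩
    · exact ⟨2 * j, by ring⟩
    · exact ⟨j, rfl⟩
  · have h1 : Odd q := ⟨4 * j + 1, by rw [hj]; ring⟩
    refine Odd.mul (h1.pow) ?_
    have h2 : q ^ 2 - q + 1 = q * (q - 1) + 1 := by
      rw [Nat.mul_sub, mul_one, pow_two]
    rw [h2]
    refine ⟨q * (4 * j + 1), ?_⟩
    have : q - 1 = 2 * (4 * j + 1) := by omega
    rw [this]; ring
  · have h1 : q - 1 = 2 * (4 * j + 1) := by omega
    have h2 : q + 1 = 4 * (2 * j + 1) := by omega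
    rw [h1, h2]; ring
  · have hle : q ≤ q ^ 2 := by nlinarith
    obtain ⟨d, hd⟩ : ∃ d, q ^ 2 = q + d := ⟨q ^ 2 - q, by omega⟩
    have h1 : q ^ 2 - q + 1 = d + 1 := by omega
    rw [h1]
    have h2 : q ^ 3 + 1 = (q + 1) * (d + 1) := by
      have : q ^ 3 = q * q ^ 2 := by ring
      have h3 : q ^ 3 = q * (q + d) := by rw [this, hd]
      have h4 : q * q = q + d := by rw [← hd]; ring
      nlinarith
    rw [h2]; ring

theorem no_sqrt_two (x : K) : x ^ 2 ≠ 2 := by
  intro h
  have h2 : x ^ 2 = -1 := by rw [h, R.two_eq]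
  have hx : x ≠ 0 := by
    rintro rfl
    rw [zero_pow two_ne_zero] at h2
    exact one_ne_zero (neg_eq_zero.1 h2.symm)
  have h3 := pow_card_eq_one' (x := Units.mk0 x hx)
  rw [card_units' hK, ← two_half hK, pow_mul] at h3
  have h4 : (Units.mk0 x hx) ^ 2 = -1 := Units.ext (by
    rw [Units.val_pow_eq_pow_val, Units.val_mk0, h2]; simp)
  rw [h4, Odd.neg_one_pow (Nat.odd_iff.2 (half_odd hK))] at h3
  have h5 := congrArg Units.val h3
  rw [Units.val_neg, Units.val_one] at h5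
  exact R.neg_one_ne h5

/-- elements of two-power order in the centraliser of `a` are involutions -/
theorem cen_a_two {x : G} (hx : x ∈ Subgroup.centralizer {R.a}) {k : ℕ} (h : x ^ 2 ^ k = 1) : x * x = 1 := by
  -- first the case of order dividing four
  have four : ∀ y : G, y ∈ Subgroup.centralizer {R.a} → (y * y) * (y * y) = 1 → y * y = 1 := by
    intro y hy h4
    obtain ⟨g, hg | hg⟩ := R.cen_a hK (R.mem_cen_a.1 hy)
    · have e : y * y = R.sl (g * g) := by rw [hg, map_mul]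
      rw [e, ← map_mul, R.sl_one_iff] at h4
      rw [e, R.sl_one_iff]
      exact sl2_four (R.no_sqrt_two hK) g h4
    · have e : y * y = R.sl (g * g) := by
        rw [hg, map_mul]
        calc R.a * R.sl g * (R.a * R.sl g) = R.a * (R.sl g * R.a) * R.sl g := by group
          _ = R.a * (R.a * R.sl g) * R.sl g := by rw [R.a_sl]
          _ = (R.a * R.a) * (R.sl g * R.sl g) := by group
          _ = _ := by rw [R.aa, one_mul]
      rw [e, ← map_mul, R.sl_one_iff] at h4
      rw [e, R.sl_one_iff]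
      exact sl2_four (R.no_sqrt_two hK) g h4
  induction k with
  | zero => rw [pow_zero, pow_one] at h; rw [h, one_mul]
  | succ k ih =>
    rcases k with _ | k
    · rw [zero_add, pow_one, pow_two] at h; exact h
    · apply ih
      have h1 := four (x ^ 2 ^ k) (pow_mem hx _) (by
        rw [← pow_add, ← pow_add, ← h]; congr 1; ring)
      rw [← h1, ← pow_add]
      congr 1; ring

/-- Sylow `2`-subgroups of the centraliser are Sylow subgroups -/
theorem exists_sylow2 : ∃ S : Sylow 2 G, (S : Subgroup G) ≤ Subgroup.centralizer {R.a} ∧ Nat.card S = 8 := by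
  have : Fact (Nat.Prime 2) := ⟨Nat.prime_two⟩
  obtain ⟨r, k, hr, hk, h1, h2⟩ := R.two_part hK
  obtain ⟨T⟩ : Nonempty (Sylow 2 ↥(Subgroup.centralizer {R.a})) := inferInstance
  have hf : ∀ {n : ℕ}, Odd n → n.factorization 2 = 0 := fun {n} h => Nat.factorization_eq_zero_of_not_dvd (by
    rw [← even_iff_two_dvd, Nat.not_even_iff_odd]; exact h)
  have hr0 : r ≠ 0 := by rintro rfl; simp at hr
  have hk0 : k ≠ 0 := by rintro rfl; simp at hk
  have h8 : Nat.factorization 8 2 = 3 := by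
    have : (8 : ℕ) = 2 ^ 3 := by norm_num
    rw [this, Nat.Prime.factorization_pow Nat.prime_two, Finsupp.single_eq_same]
  have hT : Nat.card T = 2 ^ 3 := by
    rw [T.card_eq_multiplicity, h1, Nat.factorization_mul (by norm_num) hr0, Finsupp.add_apply, hf hr, h8]
  have hG : (Nat.card G).factorization 2 = 3 := by
    rw [h2, h1, Nat.factorization_mul (by positivity) hk0, Nat.factorization_mul (by norm_num) hr0, Finsupp.add_apply,
      Finsupp.add_apply, hf hr, hf hk, h8]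
  have hM : Nat.card ((T : Subgroup _).map (Subgroup.centralizer {R.a}).subtype) = 2 ^ (Nat.card G).factorization 2 := by
    rw [hG, ← hT]
    exact Nat.card_congr (Subgroup.equivMapOfInjective _ _ Subtype.val_injective).symm.toEquiv
  refine ⟨Sylow.ofCard _ hM, ?_, ?_⟩
  · rintro _ ⟨y, -, rfl⟩
    exact y.2
  · change Nat.card ((T : Subgroup _).map (Subgroup.centralizer {R.a}).subtype) = 8
    rw [hM, hG]; norm_num

/-- S1152, second part -/
theorem sylow2 (S : Sylow 2 G) : Nat.card S = 8 ∧ ∀ x ∈ S, x * x = 1 := by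
  have : Fact (Nat.Prime 2) := ⟨Nat.prime_two⟩
  obtain ⟨S₀, hS, hc⟩ := R.exists_sylow2 hK
  obtain ⟨g, hg⟩ := MulAction.exists_smul_eq G S₀ S
  refine ⟨by rw [S.card_eq_multiplicity, ← S₀.card_eq_multiplicity]; exact hc, fun x hx => ?_⟩
  rw [← hg] at hx
  have h1 : g⁻¹ * x * g ∈ (S₀ : Subgroup G) := by
    have := Subgroup.mem_pointwise_smul_iff_inv_smul_mem.1 (show x ∈ MulAut.conj g • (S₀ : Subgroup G) from hx)
    simpa using this
  obtain ⟨k, hk⟩ := S₀.isPGroup' ⟨_, h1⟩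
  have h2 := R.cen_a_two hK (hS h1) (congrArg Subtype.val hk)
  have e : x * x = g * ((g⁻¹ * x * g) * (g⁻¹ * x * g)) * g⁻¹ := by group
  rw [e, h2]; group

end fin

end RG

end Cfsg.Agent.H6.Ree
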