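import Cfsg.Agent.H6_TwHF4

/-!
Twisted groups: perfectness of `²F₄(q)`.
-/

set_option autoImplicit false
set_option linter.unusedSectionVars false
set_option maxRecDepth 100000

namespace Cfsg.Agent.H6.Chev

open Cfsg Cfsg.Lie Cfsg.Lie.ChevalleyDatum

variable {K : Type*} [Field K] [CharP K 2] (φ : K ≃+* K) (hperf : ∀ x : K, ∃ y : K, y ^ 2 = x)
  (hφ2 : ∀ x : K, φ (φ x) ^ 2 = x) {e : ℕ} (hφ : ∀ x, φ x = x ^ e)

include hφ2 in
theorem f4_gen (hφ : ∀ x, φ x = x ^ e) (P : TwG (twF4 φ hperf)) (hP : P.G1 = twistedF4 K e) :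
    P.G1 ≤ Subgroup.closure {g | ∃ j, (g ∈ (twF4 φ hperf).UJ j ∨ g ∈ (twF4 φ hperf).VJ j) ∧ g ∈ P.G1} := by
  conv_lhs => rw [hP]
  apply modelF4.genSub_le
  intro w hw
  have hwG : modelF4.word w ∈ P.G1 := by rw [hP]; exact modelF4.word_mem_genSub hw
  apply Subgroup.subset_closure
  have hU0 : ∀ (r : ℕ) (x : K), r ∈ [24, 33] → modelF4.X r x ∈ (twF4 φ hperf).UJ 0 := fun r x hr => by
    rw [(f4_UJ φ hperf 0 (L := [24, 33]) (by decide +kernel)).1]
    exact modelF4.X_mem_gen (R := fun r' => r' ∈ [24, 33]) hr _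
  have hU1 : ∀ (r : ℕ) (x : K), r ∈ [25, 27, 28, 30] → modelF4.X r x ∈ (twF4 φ hperf).UJ 1 := fun r x hr => by
    rw [(f4_UJ φ hperf 1 (L := [25, 27, 28, 30]) (by decide +kernel)).1]
    exact modelF4.X_mem_gen (R := fun r' => r' ∈ [25, 27, 28, 30]) hr _
  rcases hw with ⟨t, rfl | rfl⟩ | ⟨t, u, rfl | rfl⟩
  · unfold f4PairWord at hwG ⊢
    rw [Model.word_cons, Model.word_cons, Model.word_nil, mul_one] at hwG ⊢
    exact ⟨0, Or.inl (mul_mem (hU0 33 _ (by decide)) (hU0 24 _ (by decide))), hwG⟩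
  · unfold f4PairWord at hwG ⊢
    rw [Model.word_cons, Model.word_cons, Model.word_nil, mul_one] at hwG ⊢
    exact ⟨0, Or.inr (mul_mem (f4_VJ φ hperf 0 (r := 14) (by decide +kernel) _)
      (f4_VJ φ hperf 0 (r := 23) (by decide +kernel) _)), hwG⟩
  · change modelF4.word (b2ClassWord e 27 25 28 30 t u) ∈ _ at hwG
    change ∃ j, (modelF4.word (b2ClassWord e 27 25 28 30 t u) ∈ _ ∨ modelF4.word (b2ClassWord e 27 25 28 30 t u) ∈ _) ∧
      modelF4.word (b2ClassWord e 27 25 28 30 t u) ∈ _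
    rw [(f4_b2p φ hperf hφ hφ2 t u).2] at hwG ⊢
    exact ⟨1, Or.inl (mul_mem (hU1 25 _ (by decide)) (mul_mem (hU1 27 _ (by decide)) (mul_mem (hU1 28 _ (by decide))
      (hU1 30 _ (by decide))))), hwG⟩
  · change modelF4.word (b2ClassWord e 20 22 19 17 t u) ∈ _ at hwG
    change ∃ j, (modelF4.word (b2ClassWord e 20 22 19 17 t u) ∈ _ ∨ modelF4.word (b2ClassWord e 20 22 19 17 t u) ∈ _) ∧
      modelF4.word (b2ClassWord e 20 22 19 17 t u) ∈ _
    rw [(f4_b2n φ hperf hφ hφ2 t u).2] at hwG ⊢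
    exact ⟨1, Or.inr (mul_mem (f4_VJ φ hperf 1 (r := 22) (by decide +kernel) _)
      (mul_mem (f4_VJ φ hperf 1 (r := 20) (by decide +kernel) _) (mul_mem (f4_VJ φ hperf 1 (r := 19) (by decide +kernel) _)
      (f4_VJ φ hperf 1 (r := 17) (by decide +kernel) _)))), hwG⟩

include hφ2 in
theorem f4_perfect [Fintype K] (hφ : ∀ x, φ x = x ^ e) (hK : 2 < Nat.card K)
    (P : TwG (twF4 φ hperf)) (hP : P.G1 = twistedF4 K e) : commutator ↥P.G1 = ⊤ := by
  have hH := f4_H0_le φ hperf hφ2 hφ P hP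
  -- torus elements
  let b : Kˣ → Kˣ → Fin 4 → Kˣ := fun s t => ![Units.map (φ : K →* K) s, Units.map (φ : K →* K) t, t, s]
  have hb : ∀ s t : Kˣ, modelF4.hT K (b s t) ∈ P.G1 := by
    intro s t
    apply hH
    exact ⟨b s t, (f4_Tf φ hperf (b := b s t)).2 ⟨(hφ2 _).symm, (hφ2 _).symm, rfl, rfl⟩, rfl⟩
  have hX : ∀ (r : ℕ) (v : List ℤ) (h : (Nat.blt r tabF4.n && allNat tabF4.l fun k => intEq (tabF4.c k r)
      (v.getD k 0)) = true) (s t : Kˣ) (y : K),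
      modelF4.hT K (b s t) * modelF4.X r y * (modelF4.hT K (b s t))⁻¹ =
      modelF4.X r ((φ s) ^ v.getD 0 0 * (φ t) ^ v.getD 1 0 * (t : K) ^ v.getD 2 0 * (s : K) ^ v.getD 3 0 * y) := by
    intro r v h s t y
    have h1 := hT_Xr modelF4 baseF4 v h (b s t) y
    rw [h1]
    congr 2
    have h2 : ∏ k : Fin 4, b s t k ^ v.getD k 0 = (Units.map (φ : K →* K) s) ^ v.getD 0 0 *
        (Units.map (φ : K →* K) t) ^ v.getD 1 0 * t ^ v.getD 2 0 * s ^ v.getD 3 0 := by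
      rw [Fin.prod_univ_four]; rfl
    have h3 : ((∏ k : Fin chevF4.rank, (b s t : Fin chevF4.rank → Kˣ) k ^ v.getD k 0 : Kˣ) : K) =
      (((Units.map (φ : K →* K) s) ^ v.getD 0 0 *
        (Units.map (φ : K →* K) t) ^ v.getD 1 0 * t ^ v.getD 2 0 * s ^ v.getD 3 0 : Kˣ) : K) := congrArg Units.val h2
    rw [h3, Units.val_mul, Units.val_mul, Units.val_mul, Units.val_zpow_eq_zpow_val, Units.val_zpow_eq_zpow_val,
      Units.val_zpow_eq_zpow_val, Units.val_zpow_eq_zpow_val]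
    rfl
  have hX33 := hX 33 [2, -1, 0, 0] (by decide +kernel)
  have hX24 := hX 24 [0, 0, -1, 2] (by decide +kernel)
  have hX25 := hX 25 [0, -2, 2, -1] (by decide +kernel)
  have hX28 := hX 28 [-1, 0, 1, -1] (by decide +kernel)
  have hX30 := hX 30 [-2, 2, 0, -1] (by decide +kernel)
  have cj : ∀ h a b : GL chevF4.Idx K, h * (a * b) * h⁻¹ = (h * a * h⁻¹) * (h * b * h⁻¹) := by
    intro h a b; group
  obtain ⟨s, hs⟩ := exists_unit_pow_ne (K := K) (n := 1) (by norm_num) (by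
      rw [← Nat.card_eq_fintype_card]; omega)
  rw [pow_one] at hs
  have hs1 : (s : K) ≠ 1 := fun h => hs (Units.ext h)
  have hs0 : (s : K) ≠ 0 := s.ne_zero
  have hw0 : ∀ x : K, modelF4.X 33 (φ x) * modelF4.X 24 x ∈ P.G1 := by
    intro x
    have h : modelF4.word (f4PairWord e 33 24 x) ∈ twistedF4 K e := f4_word_G (Or.inl ⟨x, Or.inl rfl⟩)
    unfold f4PairWord at h
    rwa [Model.word_cons, Model.word_cons, Model.word_nil, mul_one, ← hφ, ← hP] at h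
  have hwG : ∀ t u, modelF4.X 25 t * (modelF4.X 27 (φ t) * (modelF4.X 28 u * modelF4.X 30 (φ u ^ 2 + φ t ^ 2 * t))) ∈
      P.G1 := fun t u => by
    rw [hP, ← (f4_b2p φ hperf hφ hφ2 t u).2]
    exact f4_word_G (Or.inr ⟨t, u, Or.inl rfl⟩)
  -- the pairs
  have l0 : ∀ x : K, modelF4.X 33 (φ x) * modelF4.X 24 x ∈ ⁅P.G1, P.G1⁆ := by
    apply mem_comm_of_torus (S := P.G1) (u := fun v => modelF4.X 33 (φ v) * modelF4.X 24 v) ?_ hw0 (hb s 1)
      (χ := (s : K) ^ 2) ?_ ?_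
    · intro x y
      rw [map_add, modelF4.X_add, modelF4.X_add]
      exact (merge2 (comF4 (a := 24) (c := 33) (by decide +kernel) _ _)).symm
    · intro x
      change modelF4.hT K (b s 1) * (modelF4.X 33 (φ x) * modelF4.X 24 x) * (modelF4.hT K (b s 1))⁻¹ =
        modelF4.X 33 (φ (s ^ 2 * x)) * modelF4.X 24 (s ^ 2 * x)
      rw [cj, hX33, hX24]
      simp
    · intro h
      have h1 : (s : K) ^ 2 = 1 ^ 2 := by rw [h, one_pow]
      exact hs1 (frobenius_inj K 2 h1)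
  -- layer two
  have l2 : ∀ u : K, modelF4.X 28 u * modelF4.X 30 (φ u ^ 2) ∈ ⁅P.G1, P.G1⁆ := by
    apply mem_comm_of_torus (S := P.G1) (u := fun v => modelF4.X 28 v * modelF4.X 30 (φ v ^ 2)) ?_ ?_ (hb 1 s)
      (χ := (s : K)) ?_ hs1
    · intro x y
      have h1 : φ (x + y) ^ 2 = φ x ^ 2 + φ y ^ 2 := by rw [map_add, CharTwo.add_sq]
      rw [h1, modelF4.X_add, modelF4.X_add]
      exact (merge2 (comF4 (a := 30) (c := 28) (by decide +kernel) _ _)).symm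
    · intro x
      have := hwG 0 x
      rwa [map_zero, modelF4.X_zero, modelF4.X_zero, one_mul, one_mul, mul_zero, add_zero] at this
    · intro x
      change modelF4.hT K (b 1 s) * (modelF4.X 28 x * modelF4.X 30 (φ x ^ 2)) * (modelF4.hT K (b 1 s))⁻¹ =
        modelF4.X 28 (s * x) * modelF4.X 30 (φ (s * x) ^ 2)
      rw [cj, hX28, hX30, map_mul, mul_pow]
      simp
  obtain ⟨eU, hG⟩ := f4_UJ φ hperf 1 (L := [25, 27, 28, 30]) (by decide +kernel)
  have hm : ∀ (r : ℕ) (x : K), r ∈ [27, 28, 30] → modelF4.X r x ∈ modelF4.UL K [27, 28, 30] := fun r x hr =>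
    modelF4.X_mem_gen (R := fun r' => r' ∈ [27, 28, 30]) hr _
  have hform : ∀ t u : K, modelF4.X 27 (φ t) * (modelF4.X 28 u * modelF4.X 30 (φ u ^ 2 + φ t ^ 2 * t)) ∈
      modelF4.UL K [27, 28, 30] := by
    intro t u
    exact mul_mem (hm 27 _ (by decide)) (mul_mem (hm 28 _ (by decide)) (hm 30 _ (by decide)))
  have hall : (twF4 φ hperf).UJ 1 ⊓ P.G1 ≤ ⁅P.G1, P.G1⁆ := by
    refine head_comm hG (by rw [← eU]; exact inf_le_left) inf_le_right ?_ (modelF4.hT_mem_H (b s 1)) (hb s 1) ?_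
      (χ := (s : K)⁻¹) ?_ ?_ ?_
    · rintro g ⟨h1, h2⟩ hgL
      obtain ⟨⟨t, u⟩, rfl⟩ := (f4_UJ1 φ hperf hφ hφ2 g).1 ⟨h1, P.le_fix h2⟩
      change modelF4.word (b2ClassWord e 27 25 28 30 t u) ∈ _ at hgL
      change modelF4.word (b2ClassWord e 27 25 28 30 t u) ∈ _
      rw [(f4_b2p φ hperf hφ hφ2 t u).2] at hgL ⊢
      have h3 := hG.cancel (t := t) (u := 0) (hform t u) hgL (by rw [modelF4.X_zero, one_mul])
      rw [h3.1, map_zero, modelF4.X_zero, modelF4.X_zero, one_mul, one_mul, mul_zero, add_zero]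
      exact l2 u
    · rintro g ⟨h1, h2⟩
      refine ⟨?_, P.G1.mul_mem (P.G1.mul_mem (hb s 1) h2) (P.G1.inv_mem (hb s 1))⟩
      exact (Subgroup.mem_normalizer_iff.1 (modelF4.H_le_normalizer_gen _ (modelF4.hT_mem_H (b s 1))) _).1 h1
    · intro x
      rw [hX25]
      simp
    · intro h
      exact hs1 (inv_eq_one.1 h)
    · intro a
      refine ⟨_, hform a 0, ?_⟩
      rw [← (f4_b2p φ hperf hφ hφ2 a 0).2]
      refine ⟨?_, ?_⟩
      · exact ((f4_UJ1 φ hperf hφ hφ2 _).2 ⟨(a, 0), rfl⟩).1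
      · rw [hP]
        exact f4_word_G (Or.inr ⟨a, 0, Or.inl rfl⟩)
  apply P.perfect_of (f4_gen φ hperf hφ2 hφ P hP)
  intro j u hu huG
  fin_cases j
  · obtain ⟨t, rfl⟩ := (f4_UJ0 φ hperf hφ hφ2 u).1 ⟨hu, P.le_fix huG⟩
    have ew : modelF4.word (f4PairWord e f4p1 f4p4 t) = modelF4.X 33 (φ t) * modelF4.X 24 t := by
      unfold f4PairWord
      rw [Model.word_cons, Model.word_cons, Model.word_nil, mul_one, ← hφ]
      rfl
    rw [ew]
    exact l0 t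
  · exact hall ⟨hu, huG⟩

theorem f4_conn (A : Set (Fin 2)) (h1 : A.Nonempty) (h2 : Aᶜ.Nonempty) :
    ∃ a ∈ A, ∃ b ∈ Aᶜ, twcF4.wj a * twcF4.wj b ≠ twcF4.wj b * twcF4.wj a := by
  obtain ⟨a, ha⟩ := h1
  obtain ⟨b, hb⟩ := h2
  refine ⟨a, ha, b, hb, fun he => ?_⟩
  have hab : a ≠ b := fun h => hb (h ▸ ha)
  have h3 : orderOf (twcF4.wj a * twcF4.wj b) = 8 := by
    have h1 : (allNat 2 fun i => allNat 2 fun j => tabF4.ckOrd (twdF4.Wl i ++ twdF4.Wl j)
      (bif Nat.beq i j then 1 else 8)) = true := by decide +kernel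
    have h1 := allNat_iff (allNat_iff h1 a a.2) b b.2
    have h4 : Nat.beq a b = false := by
      cases h' : Nat.beq a b
      · rfl
      · exact absurd (Fin.ext (Nat.eq_of_beq_eq_true h')) hab
    rw [h4] at h1
    exact twdF4.orderOf_wj modelF4 baseF4 checksF4 a b (by norm_num) h1
  have h5 : (twcF4.wj a * twcF4.wj b) ^ 2 = 1 := by
    rw [sq]
    calc twcF4.wj a * twcF4.wj b * (twcF4.wj a * twcF4.wj b) = twcF4.wj a * twcF4.wj b * (twcF4.wj b * twcF4.wj a) := by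
          rw [he]
      _ = twcF4.wj a * (twcF4.wj b * twcF4.wj b) * twcF4.wj a := by group
      _ = 1 := by rw [twcF4.wj_sq, mul_one, twcF4.wj_sq]
  have h6 := orderOf_le_of_pow_eq_one (by norm_num) h5
  omega

end Cfsg.Agent.H6.Chev
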