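import Mathlib
import Cfsg.Agent.H7_Qt2
import Cfsg.Agent.S0999
import Cfsg.Agent.H9_FieldCongr

set_option autoImplicit false
set_option linter.all false

/-!
Point stabilisers and pair stabilisers of the smallest Mathieu group on the complementary dodecad.
-/

namespace Cfsg.Agent.H7.Lx11

open Cfsg Cfsg.Agent.H7.Golay Cfsg.Agent.H7.Oct Cfsg.Agent.H7.M24 Cfsg.Agent.H7.M24b Cfsg.Agent.H7.M24c Cfsg.Agent.H7.M24d
open Cfsg.Agent.H7.Aff Cfsg.Agent.H7.DodPair
open scoped Pointwise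

/-- stabiliser of a dodecad and a point in it, as permutations -/
def K1 (d : Finset GolayPt) (p : GolayPt) : Subgroup (Equiv.Perm GolayPt) :=
  (M24 ⊓ MulAction.stabilizer (Equiv.Perm GolayPt) d) ⊓ MulAction.stabilizer (Equiv.Perm GolayPt) p

theorem card_K1 {d : Finset GolayPt} (hd : d ∈ dodecads) {p : GolayPt} (hp : p ∈ d) : Nat.card (K1 d p) = 7920 := by
  have h1 := card_eq_orbit_mul (M24 ⊓ MulAction.stabilizer (Equiv.Perm GolayPt) d) p
  have h2 : MulAction.orbit ↥(M24 ⊓ MulAction.stabilizer (Equiv.Perm GolayPt) d) p = (d : Set GolayPt) := by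
    ext y
    constructor
    · rintro ⟨k, rfl⟩
      obtain ⟨k, hk0, hk⟩ := k
      have hk : k • d = d := hk
      show k p ∈ d
      rw [← hk, Finset.mem_smul_finset]
      exact ⟨p, hp, rfl⟩
    · intro hy
      obtain ⟨k, hk1, hk2, hk3⟩ := dodecad_five_trans hd 1 (by norm_num) (fun _ => p) (fun _ => y) (fun _ => hp)
        (fun _ => hy) (fun i j _ => Subsingleton.elim i j) (fun i j _ => Subsingleton.elim i j)
      exact ⟨⟨k, hk1, hk2⟩, hk3 0⟩
  rw [card_stab_dodecad hd, h2, Set.ncard_coe_finset, hd.2] at h1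
  show Nat.card ↥((M24 ⊓ MulAction.stabilizer (Equiv.Perm GolayPt) d) ⊓ MulAction.stabilizer (Equiv.Perm GolayPt) p) = 7920
  omega

theorem not_mem_of_stab {d : Finset GolayPt} {k : Equiv.Perm GolayPt} (hk : k • d = d) {x : GolayPt} (hx : x ∉ d) : k x ∉ d := by
  intro h
  apply hx
  rw [← hk] at h
  obtain ⟨y, hy, h2⟩ := Finset.mem_smul_finset.1 h
  rw [← k.injective h2]
  exact hy

def K2 (d : Finset GolayPt) (p q : GolayPt) : Subgroup (Equiv.Perm GolayPt) :=
  K1 d p ⊓ MulAction.stabilizer (Equiv.Perm GolayPt) q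

theorem compl_card {d : Finset GolayPt} (hd : d ∈ dodecads) : dᶜ.card = 12 := (compl_mem_dod hd).2

theorem card_K2 {d : Finset GolayPt} (hd : d ∈ dodecads) {p q : GolayPt} (hp : p ∈ d) (hq : q ∉ d) : Nat.card (K2 d p q) = 660 := by
  have h1 := card_eq_orbit_mul (K1 d p) q
  have h2 : MulAction.orbit ↥(K1 d p) q = (dᶜ : Finset GolayPt) := by
    ext y
    rw [Finset.mem_coe, Finset.mem_compl]
    constructor
    · rintro ⟨k, rfl⟩
      exact not_mem_of_stab k.2.1.2 hq
    · intro hy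
      obtain ⟨k, hk1, hk2, hk3, hk4⟩ := M11_compl_trans hd hp 1 (by norm_num) (fun _ => q) (fun _ => y) (fun _ => hq)
        (fun _ => hy) (fun i j _ => Subsingleton.elim i j) (fun i j _ => Subsingleton.elim i j)
      exact ⟨⟨k, ⟨hk1, hk2⟩, hk3⟩, hk4 0⟩
  rw [card_K1 hd hp, h2, Set.ncard_coe_finset, compl_card hd] at h1
  show Nat.card ↥(K1 d p ⊓ MulAction.stabilizer (Equiv.Perm GolayPt) q) = 660
  omega

theorem K2_simple {d : Finset GolayPt} (hd : d ∈ dodecads) {p q : GolayPt} (hp : p ∈ d) (hq : q ∉ d) : IsSimpleGroup (K2 d p q) := by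
  have : Fact (Nat.Prime 11) := ⟨by norm_num⟩
  have hq' : q ∈ dᶜ := Finset.mem_compl.2 hq
  have hpq : p ≠ q := fun h => hq (h ▸ hp)
  have hc : (dᶜ.erase q).card = 11 := by rw [Finset.card_erase_of_mem hq', compl_card hd]
  refine chapman_perm (K2 d p q) (fun g hg => hg.1.1.1) (dᶜ.erase q) {p, q} ?_ ?_ ?_
    ?_ 11 5 60 (by norm_num) (by rw [hc]) (by rw [card_K2 hd hp hq])
    (by norm_num) (by rw [Finset.card_pair hpq]; norm_num) (by rw [hc]) (by rw [hc]; norm_num) ?_ (by norm_num)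
  · intro g hg x hx
    rw [Finset.mem_erase, Finset.mem_compl] at hx ⊢
    refine ⟨fun h => hx.1 ?_, not_mem_of_stab hg.1.1.2 hx.2⟩
    have h2 : g q = q := hg.2
    exact g.injective (h.trans h2.symm)
  · intro g hg x hx
    rw [Finset.mem_insert, Finset.mem_singleton] at hx
    rcases hx with rfl | rfl
    · exact hg.1.2
    · exact hg.2
  · rw [Finset.disjoint_left]
    intro x hx hx'
    rw [Finset.mem_insert, Finset.mem_singleton] at hx
    rw [Finset.mem_erase, Finset.mem_compl] at hx'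
    rcases hx with rfl | rfl
    · exact hx'.2 hp
    · exact hx'.1 rfl
  · intro a ha b hb c hc e he hab hce
    rw [Finset.mem_erase, Finset.mem_compl] at ha hb hc he
    obtain ⟨g, hg, h1, h2, h3⟩ := M11_compl_trans hd hp 3 le_rfl ![q, a, b] ![q, c, e]
      (by intro i; fin_cases i; exacts [hq, ha.2, hb.2])
      (by intro i; fin_cases i; exacts [hq, hc.2, he.2])
      (by intro i j hij; fin_cases i <;> fin_cases j <;> simp_all)
      (by intro i j hij; fin_cases i <;> fin_cases j <;> simp_all)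
    exact ⟨g, ⟨⟨⟨hg, h1⟩, h2⟩, h3 0⟩, h3 1, h3 2⟩
  · intro k h1 _ h3
    rw [hc] at h1
    have h4 : k ∣ 10 := by
      have : 11 * k ∣ 11 * 10 := by simpa using h1
      exact Nat.dvd_of_mul_dvd_mul_left (by norm_num) this
    have h5 : k ≤ 10 := Nat.le_of_dvd (by norm_num) h4
    interval_cases k <;> revert h3 h4 <;> decide

theorem K2_equiv {d : Finset GolayPt} (hd : d ∈ dodecads) {p q : GolayPt} (hp : p ∈ d) (hq : q ∉ d) :
    Nonempty (K2 d p q ≃* Matrix.ProjectiveSpecialLinearGroup (Fin 2) (ZMod 11)) := by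
  haveI := K2_simple hd hp hq
  have hc := card_K2 hd hp hq
  have hcyc : ¬ IsCyclic (K2 d p q) := by
    intro h
    letI : CommGroup (K2 d p q) := IsCyclic.commGroup
    have h1 : Nat.Prime (Nat.card (K2 d p q)) := IsSimpleGroup.prime_card
    rw [hc] at h1
    norm_num at h1
  rcases Cfsg.Agent.S0999.result hcyc 11 (by norm_num) (by rw [hc]; norm_num) (by rw [hc]; norm_num) with
    ⟨F, _, _, hF, -, ⟨e⟩⟩ | ⟨m, F, _, _, -, h, -⟩
  · haveI : Fact (Nat.Prime 11) := ⟨by norm_num⟩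
    have r : ZMod 11 ≃+* F := FiniteField.ringEquivOfCardEq (by rw [ZMod.card, hF])
    obtain ⟨m⟩ := Cfsg.Agent.H9.FieldCongr.psl (n := 2) r.symm
    exact ⟨e.trans m⟩
  · exfalso
    have h10 : 2 ^ m = 10 := by omega
    have h5 : 5 ∣ 2 ^ m := by rw [h10]; norm_num
    have := (Nat.Prime.dvd_of_dvd_pow (by norm_num) h5 : 5 ∣ 2)
    norm_num at this

theorem stab_equiv {d : Finset GolayPt} (hd : d ∈ dodecads) {p q : GolayPt} (hp : p ∈ d) (hq : q ∉ d) :
    Nonempty (↥(MulAction.stabilizer M24 d ⊓ MulAction.stabilizer M24 p ⊓ MulAction.stabilizer M24 q) ≃*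
      Matrix.ProjectiveSpecialLinearGroup (Fin 2) (ZMod 11)) := by
  obtain ⟨e⟩ := K2_equiv hd hp hq
  refine ⟨MulEquiv.trans ?_ e⟩
  refine (subEquiv M24 _ (MulAction.stabilizer (Equiv.Perm GolayPt) d ⊓
    MulAction.stabilizer (Equiv.Perm GolayPt) p ⊓ MulAction.stabilizer (Equiv.Perm GolayPt) q) fun _ => Iff.rfl).trans (MulEquiv.subgroupCongr ?_)
  rw [K2, K1]
  ac_rfl


/-! ### pairs -/

/-- restriction of a group of permutations to an invariant finite set -/
def resHom (K : Subgroup (Equiv.Perm GolayPt)) (D : Finset GolayPt) (hD : ∀ g ∈ K, ∀ x ∈ D, g x ∈ D) :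
    K →* Equiv.Perm ↥D where
  toFun k := {
    toFun := fun x => ⟨k.1 x.1, hD k.1 k.2 x.1 x.2⟩
    invFun := fun x => ⟨k.1⁻¹ x.1, hD k.1⁻¹ (inv_mem k.2) x.1 x.2⟩
    left_inv := fun x => Subtype.ext (k.1.symm_apply_apply x.1)
    right_inv := fun x => Subtype.ext (k.1.apply_symm_apply x.1) }
  map_one' := rfl
  map_mul' _ _ := rfl

theorem chkH : (octL.all fun m => !(Nat.beq (Nat.land m 35) 35 && Nat.beq (pc (Nat.land m 28637)) 6) || Nat.beq m 18147) = true := by decide +kernel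

theorem base_oct {o : Finset GolayPt} (ho : o ∈ octads) (h0 : pt 0 ∈ o) (h1 : pt 1 ∈ o) (h5 : pt 5 ∈ o) (h6 : (o ∩ D0).card = 6) :
    o = ofMask 18147 := by
  obtain ⟨m, hm, rfl⟩ := mem_octads_iff'.1 ho
  have h := List.all_eq_true.1 chkH m hm
  have q1 : Nat.land m 35 = 35 := by
    have hs : ofMask 35 ⊆ ofMask m := by
      intro x hx
      rw [mem_ofMask] at hx h0 h1 h5 ⊢
      have hb : ∀ i, i < 24 → ((35 : ℕ).testBit i = true ↔ (i = 0 ∨ i = 1 ∨ i = 5)) := by decide
      rw [hb _ (ix_lt x)] at hx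
      have e0 : ix (pt 0) = 0 := by decide
      have e1 : ix (pt 1) = 1 := by decide
      have e5 : ix (pt 5) = 5 := by decide
      rw [e0] at h0
      rw [e1] at h1
      rw [e5] at h5
      rcases hx with hx | hx | hx <;> rw [hx] <;> assumption
    have h := (ofMask_subset (by norm_num)).1 hs
    rw [Nat.and_comm] at h
    exact h
  have q2 : pc (Nat.land m 28637) = 6 := by
    have : pc (m &&& 28637) = 6 := by rw [← card_ofMask, ofMask_and]; exact h6
    exact this
  rw [q1, q2] at h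
  simp only [Nat.beq_refl, Bool.and_self, Bool.not_true, Bool.false_or] at h
  rw [Nat.eq_of_beq_eq_true h]

theorem oh_mem : ofMask 18147 ∈ octads ∧ pt 0 ∈ ofMask 18147 ∧ pt 1 ∈ ofMask 18147 ∧ pt 5 ∈ ofMask 18147 ∧
    (ofMask 18147 ∩ D0).card = 6 := by
  refine ⟨(ofMask_mem_octads (by norm_num)).2 (by decide +kernel), ?_, ?_, ?_, ?_⟩
  · rw [mem_ofMask]; decide
  · rw [mem_ofMask]; decide
  · rw [mem_ofMask]; decide
  · rw [D0, ← ofMask_and, card_ofMask]; decide

theorem compl_std {d : Finset GolayPt} (hd : d ∈ dodecads) {p q q' : GolayPt} (hp : p ∈ d) (hq : q ∉ d) (hq' : q' ∉ d) (hqq' : q ≠ q') :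
    ∃ k ∈ M24, k • d = D0 ∧ k p = pt 0 ∧ k q = pt 1 ∧ k q' = pt 5 := by
  obtain ⟨g, hg, hgd, hgp⟩ := dodecad_pt_std hd hp
  have hm : ∀ x, x ∉ d → g x ∉ D0 := fun x hx hx' => by
    rw [← hgd, Finset.mem_smul_finset] at hx'
    obtain ⟨y, h1, h2⟩ := hx'
    exact hx (g.injective h2 ▸ h1)
  have n1 : pt 1 ∉ D0 := by rw [D0, mem_ofMask]; decide
  have n5 : pt 5 ∉ D0 := by rw [D0, mem_ofMask]; decide
  have n15 : pt 1 ≠ pt 5 := by decide
  have hg' : g q ≠ g q' := fun h => hqq' (g.injective h)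
  obtain ⟨k, hk, h1, h2, h3⟩ := M11_compl_trans D0_mem pt0_mem 2 (by norm_num) ![g q, g q'] ![pt 1, pt 5]
    (by intro i; fin_cases i; exacts [hm _ hq, hm _ hq'])
    (by intro i; fin_cases i; exacts [n1, n5])
    (by intro i j hij; fin_cases i <;> fin_cases j <;> simp_all)
    (by intro i j hij; fin_cases i <;> fin_cases j <;> simp_all)
  refine ⟨k * g, mul_mem hk hg, ?_, ?_, ?_, ?_⟩
  · rw [mul_smul, hgd, h1]
  · rw [Equiv.Perm.mul_apply, hgp, h2]
  · exact h3 0
  · exact h3 1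

theorem hexad_inv {d : Finset GolayPt} (hd : d ∈ dodecads) {p q q' : GolayPt} (hp : p ∈ d) (hq : q ∉ d) (hq' : q' ∉ d) (hqq' : q ≠ q') :
    ∃ h : Finset GolayPt, p ∈ h ∧ h ⊆ d ∧ h.card = 6 ∧
      ∀ g ∈ M24, g • d = d → g p = p → g • ({q, q'} : Finset GolayPt) = {q, q'} → g • h = h := by
  obtain ⟨k, hk, h1, h2, h3, h4⟩ := compl_std hd hp hq hq' hqq'
  obtain ⟨w1, w2, w3, w4, w5⟩ := oh_mem
  have hd' : k⁻¹ • D0 = d := by rw [← h1, inv_smul_smul]
  refine ⟨k⁻¹ • (ofMask 18147 ∩ D0), ?_, ?_, ?_, ?_⟩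
  · rw [Finset.mem_inv_smul_finset_iff, Equiv.Perm.smul_def, h2]
    exact Finset.mem_inter.2 ⟨w2, pt0_mem⟩
  · rw [← hd']
    exact Finset.smul_finset_subset_smul_finset Finset.inter_subset_right
  · rw [Finset.card_smul_finset, w5]
  · intro g hg g1 g2 g3
    set u := k * g * k⁻¹ with hu
    have hu24 : u ∈ M24 := mul_mem (mul_mem hk hg) (inv_mem hk)
    have u1 : u • D0 = D0 := by rw [hu, mul_smul, mul_smul, hd', g1, h1]
    have u2 : u (pt 0) = pt 0 := by
      rw [hu, Equiv.Perm.mul_apply, Equiv.Perm.mul_apply, ← h2]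
      show k (g (k.symm (k p))) = k p
      rw [Equiv.symm_apply_apply, g2]
    have u3 : u • ({pt 1, pt 5} : Finset GolayPt) = {pt 1, pt 5} := by
      have e : ({pt 1, pt 5} : Finset GolayPt) = k • ({q, q'} : Finset GolayPt) := by
        rw [Finset.smul_finset_insert, Finset.smul_finset_singleton, Equiv.Perm.smul_def, Equiv.Perm.smul_def, h3, h4]
      rw [e, ← mul_smul, hu, inv_mul_cancel_right, mul_smul, g3]
    have huo : u • ofMask 18147 = ofMask 18147 := by
      apply base_oct ((smul_mem_octads_iff hu24).2 w1)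
      · rw [← u2, Finset.mem_smul_finset]; exact ⟨pt 0, w2, rfl⟩
      · have : pt 1 ∈ u • ({pt 1, pt 5} : Finset GolayPt) := by rw [u3]; simp
        exact Finset.smul_finset_subset_smul_finset (by intro x hx; rw [Finset.mem_insert, Finset.mem_singleton] at hx; rcases hx with rfl | rfl; exacts [w3, w4]) this
      · have : pt 5 ∈ u • ({pt 1, pt 5} : Finset GolayPt) := by rw [u3]; simp
        exact Finset.smul_finset_subset_smul_finset (by intro x hx; rw [Finset.mem_insert, Finset.mem_singleton] at hx; rcases hx with rfl | rfl; exacts [w3, w4]) this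
      · have : (u • (ofMask 18147 ∩ D0)).card = 6 := by rw [Finset.card_smul_finset, w5]
        rw [Finset.smul_finset_inter, u1] at this
        exact this
    have : g • k⁻¹ • (ofMask 18147 ∩ D0) = k⁻¹ • u • (ofMask 18147 ∩ D0) := by
      rw [← mul_smul, ← mul_smul, hu]; congr 1; group
    rw [this, Finset.smul_finset_inter, huo, u1]

def K3 (d : Finset GolayPt) (p q q' : GolayPt) : Subgroup (Equiv.Perm GolayPt) :=
  K1 d p ⊓ MulAction.stabilizer (Equiv.Perm GolayPt) ({q, q'} : Finset GolayPt)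

theorem card_K3 {d : Finset GolayPt} (hd : d ∈ dodecads) {p q q' : GolayPt} (hp : p ∈ d) (hq : q ∉ d) (hq' : q' ∉ d) (hqq' : q ≠ q') :
    Nat.card (K3 d p q q') = 120 := by
  have h1 := card_eq_orbit_mul (K1 d p) ({q, q'} : Finset GolayPt)
  have h2 : MulAction.orbit ↥(K1 d p) ({q, q'} : Finset GolayPt) = (dᶜ.powersetCard 2 : Finset (Finset GolayPt)) := by
    ext s
    rw [Finset.mem_coe, Finset.mem_powersetCard]
    constructor
    · rintro ⟨k, rfl⟩
      show k.1 • ({q, q'} : Finset GolayPt) ⊆ dᶜ ∧ (k.1 • ({q, q'} : Finset GolayPt)).card = 2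
      refine ⟨?_, by rw [Finset.card_smul_finset, Finset.card_pair hqq']⟩
      rw [Finset.smul_finset_insert, Finset.smul_finset_singleton]
      intro x hx
      rw [Finset.mem_insert, Finset.mem_singleton] at hx
      rw [Finset.mem_compl]
      rcases hx with rfl | rfl
      · exact not_mem_of_stab k.2.1.2 hq
      · exact not_mem_of_stab k.2.1.2 hq'
    · rintro ⟨hs, hc⟩
      obtain ⟨a, b, hab, rfl⟩ := Finset.card_eq_two.1 hc
      have ha : a ∉ d := Finset.mem_compl.1 (hs (by simp))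
      have hb : b ∉ d := Finset.mem_compl.1 (hs (by simp))
      obtain ⟨k, hk1, hk2, hk3, hk4⟩ := M11_compl_trans hd hp 2 (by norm_num) ![q, q'] ![a, b]
        (by intro i; fin_cases i; exacts [hq, hq'])
        (by intro i; fin_cases i; exacts [ha, hb])
        (by intro i j hij; fin_cases i <;> fin_cases j <;> simp_all)
        (by intro i j hij; fin_cases i <;> fin_cases j <;> simp_all)
      refine ⟨⟨k, ⟨hk1, hk2⟩, hk3⟩, ?_⟩
      show k • ({q, q'} : Finset GolayPt) = _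
      rw [Finset.smul_finset_insert, Finset.smul_finset_singleton]
      exact congrArg₂ (fun x y => ({x, y} : Finset GolayPt)) (hk4 0) (hk4 1)
  rw [card_K1 hd hp, h2, Set.ncard_coe_finset, Finset.card_powersetCard, compl_card hd] at h1
  have h3 : Nat.choose 12 2 = 66 := rfl
  rw [h3] at h1
  show Nat.card ↥(K1 d p ⊓ MulAction.stabilizer (Equiv.Perm GolayPt) ({q, q'} : Finset GolayPt)) = 120
  omega

theorem K3_equiv {d : Finset GolayPt} (hd : d ∈ dodecads) {p q q' : GolayPt} (hp : p ∈ d) (hq : q ∉ d) (hq' : q' ∉ d) (hqq' : q ≠ q') :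
    Nonempty (K3 d p q q' ≃* Equiv.Perm (Fin 5)) := by
  obtain ⟨h, hph, hhd, hhc, hinv⟩ := hexad_inv hd hp hq hq' hqq'
  have hc : (h.erase p).card = 5 := by rw [Finset.card_erase_of_mem hph, hhc]
  have hD : ∀ g ∈ K3 d p q q', ∀ x ∈ h.erase p, g x ∈ h.erase p := by
    intro g hg x hx
    have h1 : g • h = h := hinv g hg.1.1.1 hg.1.1.2 hg.1.2 hg.2
    have h2 : g p = p := hg.1.2
    rw [Finset.mem_erase] at hx ⊢
    refine ⟨fun e => hx.1 (g.injective (e.trans h2.symm)), ?_⟩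
    rw [← h1, Finset.mem_smul_finset]
    exact ⟨x, hx.2, rfl⟩
  have hinj : Function.Injective (resHom (K3 d p q q') (h.erase p) hD) := by
    rw [injective_iff_map_eq_one]
    intro g hg
    apply Subtype.ext
    have e : Fintype.card (Fin 5) = Fintype.card ↥(h.erase p) := by rw [Fintype.card_fin, Fintype.card_coe, hc]
    let E : Fin 5 ≃ ↥(h.erase p) := Fintype.equivOfCardEq e
    refine dodecad_five_fix hd (fun i => (E i).1) (fun i => hhd (Finset.mem_of_mem_erase (E i).2)) ?_ g.2.1.1.1 g.2.1.1.2 ?_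
    · intro i j hij
      exact E.injective (Subtype.ext hij)
    · intro i
      exact congrArg Subtype.val (DFunLike.congr_fun hg (E i))
  have hcard : Nat.card (K3 d p q q') = Nat.card (Equiv.Perm ↥(h.erase p)) := by
    rw [card_K3 hd hp hq hq' hqq', Nat.card_eq_fintype_card, Fintype.card_perm, Fintype.card_coe, hc]
    rfl
  have hbij : Function.Bijective (resHom (K3 d p q q') (h.erase p) hD) :=
    (Nat.bijective_iff_injective_and_card _).2 ⟨hinj, hcard⟩
  let E : ↥(h.erase p) ≃ Fin 5 := Fintype.equivOfCardEq (by rw [Fintype.card_fin, Fintype.card_coe, hc])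
  exact ⟨(MulEquiv.ofBijective _ hbij).trans E.permCongrHom⟩

theorem pair_equiv {d : Finset GolayPt} (hd : d ∈ dodecads) {p q q' : GolayPt} (hp : p ∈ d) (hq : q ∉ d) (hq' : q' ∉ d) (hqq' : q ≠ q') :
    Nonempty (↥(MulAction.stabilizer M24 d ⊓ MulAction.stabilizer M24 p ⊓ MulAction.stabilizer M24 ({q, q'} : Finset GolayPt)) ≃*
      Equiv.Perm (Fin 5)) := by
  obtain ⟨e⟩ := K3_equiv hd hp hq hq' hqq'
  refine ⟨MulEquiv.trans ?_ e⟩
  refine (subEquiv M24 _ (MulAction.stabilizer (Equiv.Perm GolayPt) d ⊓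
    MulAction.stabilizer (Equiv.Perm GolayPt) p ⊓ MulAction.stabilizer (Equiv.Perm GolayPt) ({q, q'} : Finset GolayPt)) fun _ => Iff.rfl).trans (MulEquiv.subgroupCongr ?_)
  rw [K3, K1]
  ac_rfl

end Cfsg.Agent.H7.Lx11
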