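import Mathlib
import Cfsg.Agent.H7_Lx11

set_option autoImplicit false
set_option linter.all false

/-!
`A5` in `PSL(2,11)` as the stabilizer of a point in the 2-transitive action on 11 points of a dodecad complement.
-/

namespace Cfsg.Agent.H7.Lx11

open Cfsg Cfsg.Agent.H7.Golay Cfsg.Agent.H7.Oct Cfsg.Agent.H7.M24 Cfsg.Agent.H7.M24b Cfsg.Agent.H7.M24c Cfsg.Agent.H7.M24d
open Cfsg.Agent.H7.Aff Cfsg.Agent.H7.DodPair
open scoped Pointwise

theorem K2_two {d : Finset GolayPt} (hd : d ∈ dodecads) {p q : GolayPt} (hp : p ∈ d) (hq : q ∉ d) {a b c e : GolayPt}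
    (ha : a ∉ d) (hb : b ∉ d) (hc : c ∉ d) (he : e ∉ d) (ha' : a ≠ q) (hb' : b ≠ q) (hc' : c ≠ q) (he' : e ≠ q)
    (hab : a ≠ b) (hce : c ≠ e) : ∃ g ∈ K2 d p q, g a = c ∧ g b = e := by
  obtain ⟨g, hg, h1, h2, h3⟩ := M11_compl_trans hd hp 3 le_rfl ![q, a, b] ![q, c, e]
      (by intro i; fin_cases i; exacts [hq, ha, hb])
      (by intro i; fin_cases i; exacts [hq, hc, he])
      (by intro i j hij; fin_cases i <;> fin_cases j <;> simp_all)
      (by intro i j hij; fin_cases i <;> fin_cases j <;> simp_all)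
  exact ⟨g, ⟨⟨⟨hg, h1⟩, h2⟩, h3 0⟩, h3 1, h3 2⟩

def K4 (d : Finset GolayPt) (p q q' : GolayPt) : Subgroup (Equiv.Perm GolayPt) :=
  K2 d p q ⊓ MulAction.stabilizer (Equiv.Perm GolayPt) q'

theorem K2_orbit {d : Finset GolayPt} (hd : d ∈ dodecads) {p q q' : GolayPt} (hp : p ∈ d) (hq : q ∉ d) (hq' : q' ∉ d) (hqq' : q' ≠ q) :
    MulAction.orbit ↥(K2 d p q) q' = ((dᶜ).erase q : Finset GolayPt) := by
  ext y
  rw [Finset.mem_coe, Finset.mem_erase, Finset.mem_compl]
  constructor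
  · rintro ⟨k, rfl⟩
    refine ⟨fun h => hqq' ?_, not_mem_of_stab k.2.1.1.2 hq'⟩
    have h2 : k.1 q = q := k.2.2
    exact k.1.injective (Eq.trans h h2.symm)
  · rintro ⟨h1, h2⟩
    obtain ⟨g, hg, h3, h4, h5⟩ := M11_compl_trans hd hp 2 (by norm_num) ![q, q'] ![q, y]
      (by intro i; fin_cases i; exacts [hq, hq'])
      (by intro i; fin_cases i; exacts [hq, h2])
      (by intro i j hij; fin_cases i <;> fin_cases j <;> simp_all)
      (by intro i j hij; fin_cases i <;> fin_cases j <;> simp_all)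
    exact ⟨⟨g, ⟨⟨⟨hg, h3⟩, h4⟩, h5 0⟩⟩, h5 1⟩

theorem card_K4 {d : Finset GolayPt} (hd : d ∈ dodecads) {p q q' : GolayPt} (hp : p ∈ d) (hq : q ∉ d) (hq' : q' ∉ d) (hqq' : q' ≠ q) :
    Nat.card (K4 d p q q') = 60 := by
  have h1 := card_eq_orbit_mul (K2 d p q) q'
  have hc : (dᶜ.erase q).card = 11 := by rw [Finset.card_erase_of_mem (Finset.mem_compl.2 hq), compl_card hd]
  rw [card_K2 hd hp hq, K2_orbit hd hp hq hq' hqq', Set.ncard_coe_finset, hc] at h1
  show Nat.card ↥(K2 d p q ⊓ MulAction.stabilizer (Equiv.Perm GolayPt) q') = 60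
  omega

theorem K4_equiv {d : Finset GolayPt} (hd : d ∈ dodecads) {p q q' : GolayPt} (hp : p ∈ d) (hq : q ∉ d) (hq' : q' ∉ d) (hqq' : q' ≠ q) :
    Nonempty (K4 d p q q' ≃* alternatingGroup (Fin 5)) := by
  obtain ⟨e⟩ := K3_equiv hd hp hq hq' hqq'.symm
  have hle : K4 d p q q' ≤ K3 d p q q' := by
    intro g hg
    refine ⟨hg.1.1, ?_⟩
    have h1 : g q = q := hg.1.2
    have h2 : g q' = q' := hg.2
    show g • ({q, q'} : Finset GolayPt) = {q, q'}
    rw [Finset.smul_finset_insert, Finset.smul_finset_singleton, Equiv.Perm.smul_def, Equiv.Perm.smul_def, h1, h2]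
  let f : K4 d p q q' →* Equiv.Perm (Fin 5) := e.toMonoidHom.comp (Subgroup.inclusion hle)
  have hf : Function.Injective f := e.injective.comp (Subgroup.inclusion_injective hle)
  have hcard : Nat.card f.range = 60 := by
    rw [← card_K4 hd hp hq hq' hqq']
    exact (Nat.card_congr (MonoidHom.ofInjective hf).toEquiv).symm
  have hidx : f.range.index = 2 := by
    have h := f.range.card_mul_index
    have h5 : Nat.card (Equiv.Perm (Fin 5)) = 120 := by
      rw [Nat.card_eq_fintype_card, Fintype.card_perm, Fintype.card_fin]; rfl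
    rw [hcard, h5] at h
    omega
  have hr := Equiv.Perm.eq_alternatingGroup_of_index_eq_two hidx
  exact ⟨(MonoidHom.ofInjective hf).trans (MulEquiv.subgroupCongr hr)⟩

theorem exists_dod : ∃ d ∈ dodecads, ∃ p ∈ d, ∃ q q' : GolayPt, q ∉ d ∧ q' ∉ d ∧ q' ≠ q := by
  refine ⟨D0, D0_mem, pt 0, pt0_mem, pt 1, pt 5, ?_, ?_, ?_⟩
  · rw [D0, mem_ofMask]; decide
  · rw [D0, mem_ofMask]; decide
  · decide

theorem s2542 {F : Type*} [Field F] [Fintype F] (hF : Fintype.card F = 11) :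
    ∃ H : Subgroup (Matrix.ProjectiveSpecialLinearGroup (Fin 2) F), H.index = 11 ∧
      Nonempty (H ≃* alternatingGroup (Fin 5)) ∧
      MulAction.IsMultiplyPretransitive (Matrix.ProjectiveSpecialLinearGroup (Fin 2) F)
        ((Matrix.ProjectiveSpecialLinearGroup (Fin 2) F) ⧸ H) 2 := by
  haveI : Fact (Nat.Prime 11) := ⟨by norm_num⟩
  obtain ⟨d, hd, p, hp, q, q', hq, hq', hqq'⟩ := exists_dod
  obtain ⟨e0⟩ := K2_equiv hd hp hq
  have r : F ≃+* ZMod 11 := FiniteField.ringEquivOfCardEq (by rw [ZMod.card, hF])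
  obtain ⟨m⟩ := Cfsg.Agent.H9.FieldCongr.psl (n := 2) r
  let e : Matrix.ProjectiveSpecialLinearGroup (Fin 2) F ≃* K2 d p q := m.trans e0.symm
  let H' : Subgroup (K2 d p q) := (MulAction.stabilizer (Equiv.Perm GolayPt) q').subgroupOf (K2 d p q)
  let H : Subgroup (Matrix.ProjectiveSpecialLinearGroup (Fin 2) F) := H'.comap e.toMonoidHom
  have hmem : ∀ g, g ∈ H ↔ (e g).1 q' = q' := fun g => Iff.rfl
  have hH'card : Nat.card H' = 60 := by
    rw [← card_K4 hd hp hq hq' hqq']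
    exact card_sub (K2 d p q) H' _ fun g => Iff.rfl
  have eH : H ≃* H' := by
    have : H.map e.toMonoidHom = H' := Subgroup.map_comap_eq_self_of_surjective e.surjective _
    exact (H.equivMapOfInjective e.toMonoidHom e.injective).trans (MulEquiv.subgroupCongr this)
  refine ⟨H, ?_, ?_, ?_⟩
  · have h1 := H.card_mul_index
    rw [Nat.card_congr eH.toEquiv, hH'card, Nat.card_congr e.toEquiv, card_K2 hd hp hq] at h1
    omega
  · obtain ⟨e4⟩ := K4_equiv hd hp hq hq' hqq'
    refine ⟨eH.trans ((subEquiv (K2 d p q) H' (MulAction.stabilizer (Equiv.Perm GolayPt) q') fun g => Iff.rfl).trans e4)⟩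
  · rw [MulAction.is_two_pretransitive_iff]
    have key : ∀ x : Matrix.ProjectiveSpecialLinearGroup (Fin 2) F, (e x).1 q' ∉ d ∧ (e x).1 q' ≠ q := by
      intro x
      refine ⟨not_mem_of_stab (e x).2.1.1.2 hq', fun h => hqq' ?_⟩
      have h2 : (e x).1 q = q := (e x).2.2
      exact (e x).1.injective (h.trans h2.symm)
    have hmk : ∀ x y : Matrix.ProjectiveSpecialLinearGroup (Fin 2) F,
        (QuotientGroup.mk x : (Matrix.ProjectiveSpecialLinearGroup (Fin 2) F) ⧸ H) = QuotientGroup.mk y ↔ (e x).1 q' = (e y).1 q' := by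
      intro x y
      rw [QuotientGroup.eq, hmem, map_mul, map_inv]
      show (((e x)⁻¹ * e y : K2 d p q) : Equiv.Perm GolayPt) q' = q' ↔ _
      rw [Subgroup.coe_mul, Subgroup.coe_inv, Equiv.Perm.mul_apply, Equiv.Perm.inv_eq_iff_eq]
      exact eq_comm
    intro a b c f hab hcf
    induction a using QuotientGroup.induction_on with | H a => ?_
    induction b using QuotientGroup.induction_on with | H b => ?_
    induction c using QuotientGroup.induction_on with | H c => ?_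
    induction f using QuotientGroup.induction_on with | H f => ?_
    obtain ⟨g, hg, h1, h2⟩ := K2_two hd hp hq (key a).1 (key b).1 (key c).1 (key f).1 (key a).2 (key b).2 (key c).2 (key f).2
      (fun h => hab ((hmk a b).2 h)) (fun h => hcf ((hmk c f).2 h))
    have he : ∀ x, (e (e.symm ⟨g, hg⟩ * x)).1 = g * (e x).1 := by
      intro x
      rw [map_mul, MulEquiv.apply_symm_apply]; rfl
    refine ⟨e.symm ⟨g, hg⟩, ?_, ?_⟩
    · show (QuotientGroup.mk (e.symm ⟨g, hg⟩ * a) : (Matrix.ProjectiveSpecialLinearGroup (Fin 2) F) ⧸ H) = _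
      rw [hmk, he, Equiv.Perm.mul_apply]
      exact h1
    · show (QuotientGroup.mk (e.symm ⟨g, hg⟩ * b) : (Matrix.ProjectiveSpecialLinearGroup (Fin 2) F) ⧸ H) = _
      rw [hmk, he, Equiv.Perm.mul_apply]
      exact h2

end Cfsg.Agent.H7.Lx11
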