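import Mathlib

/-! Elements of prime order fixing a uniform partition. -/

namespace H7.Part

open Equiv.Perm

/-- the arithmetic condition -/
def Good (a b r m : ℕ) : Prop := ∃ c ≤ b / r, a * c ≤ m ∧ m ≤ b * (a / r) + c * (a % r)

theorem arith (a b r : ℕ) (ha : 2 ≤ a) (hb : 2 ≤ b) (hr : 2 ≤ r) (hrab : r ≤ a * b) :
    (∀ m, 1 ≤ m → r * m ≤ a * b → Good a b r m) ↔
      (r ≤ a ∧ (a % r = 0 ∨ (b % r = 0 ∧ a % r = 1) ∨
        (a % r ≠ 0 ∧ b % r ≠ 0 ∧ (b % r) * (a % r) < r ∧ (b < r ∨ (b % r + r) * (a % r) ≤ (b % r) * a + r)))) := by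
  obtain ⟨A, hA⟩ : ∃ A, A = a / r := ⟨_, rfl⟩
  obtain ⟨l, hl⟩ : ∃ l, l = a % r := ⟨_, rfl⟩
  obtain ⟨B, hB⟩ : ∃ B, B = b / r := ⟨_, rfl⟩
  obtain ⟨k, hk⟩ : ∃ k, k = b % r := ⟨_, rfl⟩
  have ea : a = r * A + l := by rw [hA, hl]; exact (Nat.div_add_mod a r).symm
  have eb : b = r * B + k := by rw [hB, hk]; exact (Nat.div_add_mod b r).symm
  have hlr : l < r := by rw [hl]; exact Nat.mod_lt _ (by omega)
  have hkr : k < r := by rw [hk]; exact Nat.mod_lt _ (by omega)
  unfold Good
  rw [← hA, ← hl, ← hB, ← hk]
  have eab : a * b = r * (b * A + B * l) + l * k := by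
    calc a * b = (r * A + l) * b := by rw [← ea]
      _ = r * A * b + l * (r * B + k) := by rw [add_mul, ← eb]
      _ = _ := by ring
  constructor
  · intro h
    -- top condition
    have hm0 : 1 ≤ a * b / r := (Nat.one_le_div_iff (by omega)).2 hrab
    have hm1 : r * (a * b / r) ≤ a * b := Nat.mul_div_le _ _
    obtain ⟨c, hc, hc1, hc2⟩ := h _ hm0 hm1
    have h1 : a * b / r ≤ b * A + B * l := hc2.trans (Nat.add_le_add_left (Nat.mul_le_mul_right _ hc) _)
    have h2 : a * b < r * (a * b / r + 1) := by
      have := Nat.lt_mul_div_succ (a * b) (show 0 < r by omega)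
      exact this
    have hlk : l * k < r := by
      have h3 : r * (a * b / r + 1) ≤ r * (b * A + B * l + 1) := Nat.mul_le_mul_left _ (by omega)
      have h4 : r * (b * A + B * l + 1) = r * (b * A + B * l) + r := by ring
      omega
    -- gap condition
    have hgap : 1 ≤ B → l ≤ k * A + 1 := by
      intro hB1
      have h3 : 2 ≤ a * B := by nlinarith
      obtain ⟨c', hc', hc1', hc2'⟩ := h (a * B - 1) (by omega) (by
        calc r * (a * B - 1) ≤ r * (a * B) := Nat.mul_le_mul_left _ (by omega)
          _ = a * (r * B) := by ring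
          _ ≤ a * b := Nat.mul_le_mul_left _ (by omega))
      have h4 : c' < B := by
        by_contra hcon
        have h5 : a * B ≤ a * c' := Nat.mul_le_mul_left _ (by omega)
        omega
      have h5 : c' * l ≤ (B - 1) * l := Nat.mul_le_mul_right _ (by omega)
      obtain ⟨B', rfl⟩ : ∃ B', B = B' + 1 := ⟨B - 1, by omega⟩
      have h6 : a * (B' + 1) = (r * A + l) * (B' + 1) := by rw [← ea]
      have h7 : b * A = (r * (B' + 1) + k) * A := by rw [← eb]
      rw [show B' + 1 - 1 = B' by omega] at h5
      have h8 : (r * A + l) * (B' + 1) = r * (B' + 1) * A + B' * l + l := by ring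
      have h9 : (r * (B' + 1) + k) * A = r * (B' + 1) * A + k * A := by ring
      omega
    have hA1 : 1 ≤ A := by
      by_contra hcon
      have hA0 : A = 0 := by omega
      rw [hA0, mul_zero, zero_add] at ea
      by_cases hB1 : 1 ≤ B
      · have := hgap hB1
        rw [hA0, mul_zero] at this
        omega
      · have hB0 : B = 0 := by omega
        rw [hA0, hB0, mul_zero, zero_mul] at h1
        omega
    refine ⟨?_, ?_⟩
    · calc r = r * 1 := (mul_one r).symm
        _ ≤ r * A := Nat.mul_le_mul_left _ hA1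
        _ ≤ a := by omega
    · by_cases hl0 : l = 0
      · exact Or.inl hl0
      right
      by_cases hk0 : k = 0
      · left
        have hB1 : 1 ≤ B := by
          by_contra hcon
          have : B = 0 := by omega
          rw [this, hk0] at eb
          omega
        have := hgap hB1
        rw [hk0, zero_mul] at this
        exact ⟨hk0, by omega⟩
      · right
        refine ⟨hl0, hk0, by rw [mul_comm]; exact hlk, ?_⟩
        by_cases hB1 : 1 ≤ B
        · right
          have h3 := hgap hB1
          calc (k + r) * l = k * l + r * l := by ring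
            _ ≤ k * l + r * (k * A + 1) := Nat.add_le_add_left (Nat.mul_le_mul_left _ h3) _
            _ = k * (r * A + l) + r := by ring
            _ = k * a + r := by rw [← ea]
        · left
          have hB0 : B = 0 := by omega
          rw [hB0] at eb
          omega
  · rintro ⟨hra, hcase⟩ m hm hrm
    have hA1 : 1 ≤ A := by
      rw [hA]; exact (Nat.one_le_div_iff (by omega)).2 hra
    have hlk : l * k < r := by
      rcases hcase with h | ⟨h, h'⟩ | ⟨_, _, h, _⟩
      · rw [h, zero_mul]; omega
      · rw [h, mul_zero]; omega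
      · rw [mul_comm]; exact h
    have hgap : 1 ≤ B → l ≤ k * A + 1 := by
      intro hB1
      rcases hcase with h | ⟨h, h'⟩ | ⟨_, _, h, h'⟩
      · omega
      · omega
      · rcases h' with h' | h'
        · exfalso
          have : r * 1 ≤ r * B := Nat.mul_le_mul_left _ hB1
          omega
        · have h3 : (k + r) * l = k * l + r * l := by ring
          have h4 : k * a = k * (r * A + l) := by rw [← ea]
          have h5 : k * (r * A + l) = r * (k * A) + k * l := by ring
          have h6 : r * l ≤ r * (k * A + 1) := by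
            have : r * (k * A + 1) = r * (k * A) + r := by ring
            omega
          exact Nat.le_of_mul_le_mul_left h6 (by omega)
    have htop : m ≤ b * A + B * l := by
      by_contra hcon
      have h3 : r * (b * A + B * l + 1) ≤ r * m := Nat.mul_le_mul_left _ (by omega)
      have h4 : r * (b * A + B * l + 1) = r * (b * A + B * l) + r := by ring
      omega
    by_cases hcB : B ≤ m / a
    · refine ⟨B, le_rfl, ?_, htop⟩
      calc a * B ≤ a * (m / a) := Nat.mul_le_mul_left _ hcB
        _ ≤ m := Nat.mul_div_le _ _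
    · refine ⟨m / a, by omega, Nat.mul_div_le _ _, ?_⟩
      obtain ⟨c, hc⟩ : ∃ c, c = m / a := ⟨_, rfl⟩
      rw [← hc] at hcB ⊢
      have h1 : m < a * (c + 1) := by rw [hc]; exact Nat.lt_mul_div_succ m (by omega)
      have h2 := hgap (by omega)
      obtain ⟨d, hd⟩ : ∃ d, B = c + 1 + d := ⟨B - (c + 1), by omega⟩
      have h3 : a * (c + 1) = (r * A + l) * (c + 1) := by rw [← ea]
      have h4 : b * A = (r * (c + 1 + d) + k) * A := by rw [← hd, ← eb]
      have h5 : (r * A + l) * (c + 1) = r * A * (c + 1) + c * l + l := by ring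
      have h6 : (r * (c + 1 + d) + k) * A = r * A * (c + 1) + r * A * d + k * A := by ring
      have h7 : 0 ≤ r * A * d := Nat.zero_le _
      omega

theorem distrib (n A t : ℕ) (h : t ≤ n * A) : ∃ g : Fin n → ℕ, (∀ j, g j ≤ A) ∧ ∑ j, g j = t := by
  induction n generalizing t with
  | zero =>
    refine ⟨fun _ => 0, fun j => j.elim0, ?_⟩
    simp at h ⊢; omega
  | succ n ih =>
    obtain ⟨g, hg1, hg2⟩ := ih (t - min A t) (by
      rcases le_total A t with h1 | h1
      · rw [min_eq_left h1]
        have : (n + 1) * A = n * A + A := by ring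
        omega
      · rw [min_eq_right h1]; omega)
    refine ⟨Fin.cons (min A t) g, ?_, ?_⟩
    · intro j
      refine Fin.cases ?_ ?_ j
      · simp
      · intro i; simpa using hg1 i
    · rw [Fin.sum_univ_succ]
      simp only [Fin.cons_zero, Fin.cons_succ, hg2]
      have := min_le_right A t
      omega

section
variable {α : Type*} [Fintype α] [DecidableEq α] {r : ℕ} [hr : Fact r.Prime]

theorem cycleType_eq {σ : Equiv.Perm α} (h : σ ^ r = 1) : σ.cycleType = Multiset.replicate (σ.support.card / r) r := by
  by_cases h1 : σ = 1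
  · subst h1; simp
  · have ho : orderOf σ = r := orderOf_eq_prime h h1
    obtain ⟨n, hn⟩ := cycleType_prime_order (σ := σ) (by rw [ho]; exact hr.out)
    rw [ho] at hn
    have h2 : σ.support.card = (n + 1) * r := by
      rw [← sum_cycleType, hn, Multiset.sum_replicate, smul_eq_mul]
    rw [h2, Nat.mul_div_cancel _ hr.out.pos, hn]

theorem dvd_support {σ : Equiv.Perm α} (h : σ ^ r = 1) : r ∣ σ.support.card := by
  rw [← sum_cycleType, cycleType_eq h, Multiset.sum_replicate, smul_eq_mul]
  exact Dvd.intro_left _ rfl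

theorem exists_perm (i : ℕ) (h : r * i ≤ Fintype.card α) : ∃ τ : Equiv.Perm α, τ ^ r = 1 ∧ τ.support.card = r * i := by
  obtain ⟨τ, hτ⟩ := (exists_with_cycleType_iff (α := α) (m := Multiset.replicate i r)).2 ⟨by
    rw [Multiset.sum_replicate, smul_eq_mul, mul_comm]; exact h, fun x hx => by
    rw [Multiset.eq_of_mem_replicate hx]; exact hr.out.two_le⟩
  refine ⟨τ, ?_, ?_⟩
  · apply orderOf_dvd_iff_pow_eq_one.1
    rw [← lcm_cycleType, hτ]
    apply Multiset.lcm_dvd.2
    intro x hx
    rw [Multiset.eq_of_mem_replicate hx]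
  · rw [← sum_cycleType, hτ, Multiset.sum_replicate, smul_eq_mul, mul_comm]

theorem conj_of {σ τ : Equiv.Perm α} (h1 : σ ^ r = 1) (h2 : τ ^ r = 1) (h : σ.support.card = τ.support.card) : IsConj σ τ := by
  rw [isConj_iff_cycleType_eq, cycleType_eq h1, cycleType_eq h2, h]

end

/-- necessity -/
theorem nec {α : Type*} [Fintype α] [DecidableEq α] (a b r m : ℕ) [hr : Fact r.Prime] (σ : Equiv.Perm α) (hσ : σ ^ r = 1) (hm : σ.support.card = r * m)
    (f : α → Fin b) (hf : ∀ j : Fin b, Nat.card {x : α // f x = j} = a) (ha : 0 < a)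
    (π : Equiv.Perm (Fin b)) (hπ : ∀ x, f (σ x) = π (f x)) : Good a b r m := by
  classical
  have hr0 := hr.out.pos
  have hsurj : Function.Surjective f := by
    intro j
    have h1 : 0 < Nat.card {x : α // f x = j} := by rw [hf j]; exact ha
    obtain ⟨⟨x, hx⟩⟩ := (Nat.card_pos_iff.1 h1).1
    exact ⟨x, hx⟩
  have hpow : ∀ n : ℕ, ∀ x, f ((σ ^ n) x) = (π ^ n) (f x) := by
    intro n
    induction n with
    | zero => intro x; rfl
    | succ n ih => intro x; rw [pow_succ', pow_succ', mul_apply, mul_apply, hπ, ih]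
  have hπr : π ^ r = 1 := by
    ext j
    obtain ⟨x, rfl⟩ := hsurj j
    rw [← hpow, hσ]; rfl
  obtain ⟨c, hc⟩ := dvd_support hπr
  have hcb : r * c ≤ b := by
    rw [← hc]
    exact (Finset.card_le_univ _).trans (by rw [Fintype.card_fin])
  have hcard : ∀ j, (Finset.univ.filter (fun x => f x = j)).card = a := by
    intro j
    rw [← hf j, Nat.card_eq_fintype_card, Fintype.card_subtype]
  have hsum : σ.support.card = ∑ j : Fin b, (σ.support.filter (fun x => f x = j)).card :=
    Finset.card_eq_sum_card_fiberwise (fun x _ => Finset.mem_coe.2 (Finset.mem_univ _))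
  have hmoved : ∀ j ∈ π.support, (σ.support.filter (fun x => f x = j)).card = a := by
    intro j hj
    rw [← hcard j]
    congr 1
    ext x
    rw [Finset.mem_filter, Finset.mem_filter, mem_support]
    refine ⟨fun h => ⟨Finset.mem_univ _, h.2⟩, fun h => ⟨?_, h.2⟩⟩
    intro h1
    rw [mem_support] at hj
    apply hj
    rw [← h.2, ← hπ, h1]
  have hfixed : ∀ j, j ∉ π.support → (σ.support.filter (fun x => f x = j)).card ≤ r * (a / r) := by
    intro j hj
    rw [notMem_support] at hj
    have hinv : ∀ x, f (σ x) = j ↔ f x = j := by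
      intro x
      rw [hπ]
      constructor
      · intro h; apply π.injective; rw [h, hj]
      · intro h; rw [h, hj]
    let τ : Equiv.Perm {x // f x = j} := σ.subtypePerm hinv
    have hτr : τ ^ r = 1 := by
      rw [subtypePerm_pow]
      ext x
      simp [hσ]
    have h1 := dvd_support hτr
    have h2 : τ.support.card = (σ.support.filter (fun x => f x = j)).card := by
      rw [← Finset.card_map (Function.Embedding.subtype _)]
      congr 1
      ext x
      rw [Finset.mem_map, Finset.mem_filter]
      constructor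
      · rintro ⟨y, hy, rfl⟩
        rw [mem_support] at hy
        refine ⟨?_, y.2⟩
        rw [mem_support]
        intro h3
        exact hy (Subtype.ext h3)
      · rintro ⟨h3, h4⟩
        refine ⟨⟨x, h4⟩, ?_, rfl⟩
        rw [mem_support] at h3 ⊢
        intro h5
        exact h3 (congrArg Subtype.val h5)
    have h3 : τ.support.card ≤ a := by
      refine (Finset.card_le_univ _).trans ?_
      rw [← Nat.card_eq_fintype_card, hf j]
    rw [← h2]
    obtain ⟨i, hi⟩ := h1
    rw [hi] at h3 ⊢
    apply Nat.mul_le_mul_left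
    rw [Nat.le_div_iff_mul_le hr0, mul_comm]
    exact h3
  rw [← Finset.sum_add_sum_compl π.support, Finset.sum_congr rfl hmoved, Finset.sum_const, smul_eq_mul, hc] at hsum
  have h5 : ∑ j ∈ π.supportᶜ, (σ.support.filter (fun x => f x = j)).card ≤ (b - r * c) * (r * (a / r)) := by
    calc ∑ j ∈ π.supportᶜ, (σ.support.filter (fun x => f x = j)).card ≤ ∑ j ∈ π.supportᶜ, r * (a / r) :=
          Finset.sum_le_sum (fun j hj => hfixed j (Finset.mem_compl.1 hj))
      _ = (b - r * c) * (r * (a / r)) := by
          rw [Finset.sum_const, smul_eq_mul, Finset.card_compl, Fintype.card_fin, hc]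
  refine ⟨c, ?_, ?_, ?_⟩
  · rw [Nat.le_div_iff_mul_le hr0, mul_comm]; exact hcb
  · have h6 : r * (a * c) ≤ r * m := by
      calc r * (a * c) = r * c * a := by ring
        _ ≤ r * m := by omega
    exact Nat.le_of_mul_le_mul_left h6 hr0
  · obtain ⟨d, hd⟩ : ∃ d, b = r * c + d := ⟨b - r * c, by omega⟩
    rw [show b - r * c = d by omega] at h5
    have h6 : r * m ≤ r * (b * (a / r) + c * (a % r)) := by
      have h7 : r * m ≤ r * c * a + d * (r * (a / r)) := by omega
      have h8 : a = r * (a / r) + a % r := (Nat.div_add_mod a r).symm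
      calc r * m ≤ r * c * a + d * (r * (a / r)) := h7
        _ = r * c * (r * (a / r) + a % r) + d * (r * (a / r)) := by rw [← h8]
        _ = r * ((r * c + d) * (a / r) + c * (a % r)) := by ring
        _ = _ := by rw [← hd]
    exact Nat.le_of_mul_le_mul_left h6 hr0

end H7.Part
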