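import Cfsg.Agent.H22_Maschke
import Cfsg.Agent.H2_PGroup
import Cfsg.Agent.H7_Part
import Mathlib.GroupTheory.Perm.Centralizer

set_option autoImplicit false
open Cfsg

namespace H7.G162

open Subgroup

/-- a nontrivial normal subgroup of G inside a p-subgroup S which is nontrivial meets Z(S) -/
theorem meets {G : Type*} [Group G] [Finite G] {p : ℕ} [Fact p.Prime] {S N : Subgroup G} (hS : IsPGroup p S) [N.Normal]
    (h : N ⊓ S ≠ ⊥) : N ⊓ (S ⊓ centralizer (S : Set G)) ≠ ⊥ := by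
  have h1 : N.subgroupOf S ≠ ⊥ := by
    intro h2
    apply h
    rw [subgroupOf_eq_bot] at h2
    exact h2.eq_bot
  have h3 := Cfsg.Agent.H2.PGroup.inf_center_ne_bot hS (M := N.subgroupOf S) h1
  intro h4
  apply h3
  rw [eq_bot_iff]
  rintro ⟨x, hxS⟩ ⟨hxN, hxc⟩
  have h5 : x ∈ N ⊓ (S ⊓ centralizer (S : Set G)) := by
    refine ⟨hxN, hxS, ?_⟩
    show x ∈ centralizer (S : Set G)
    rw [mem_centralizer_iff]
    intro y hy
    have h6 := mem_center_iff.1 hxc ⟨y, hy⟩
    exact congrArg Subtype.val h6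
  rw [h4, mem_bot] at h5
  rw [mem_bot]
  exact Subtype.ext h5

theorem invariant_compl {G : Type*} [Group G] [Finite G] {J T Z : Subgroup G} [J.Normal] (hJc : IsMulCommutative J)
    (hJ3 : ∀ a ∈ J, a ^ 3 = 1) (hT : (Nat.card T).Coprime 3) (hZJ : Z ≤ J) (hZT : T ≤ normalizer (Z : Set G)) :
    ∃ W : Subgroup G, W ≤ J ∧ T ≤ normalizer (W : Set G) ∧ W ⊓ Z = ⊥ ∧ W ⊔ Z = J := by
  haveI : Fact (Nat.Prime 3) := ⟨Nat.prime_three⟩
  letI : CommGroup J := { (inferInstance : Group J) with mul_comm := hJc.is_comm.comm }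
  let ρ : T →* MulAut J := (MulAut.conjNormal (H := J)).comp T.subtype
  have hρ : ∀ (t : T) (j : J), ((ρ t j : J) : G) = (t : G) * j * (t : G)⁻¹ := fun t j => MulAut.conjNormal_apply (t : G) j
  obtain ⟨U, h1, h2, h3⟩ := Cfsg.Agent.H22.Maschke.maschke (p := 3) (V := J) (H := T)
    (fun v => Subtype.ext (hJ3 v.1 v.2)) ρ hT (Z.subgroupOf J) (by
      intro t w hw
      rw [mem_subgroupOf] at hw ⊢
      rw [hρ]
      exact (mem_normalizer_iff.1 (hZT t.2) _).1 hw)
  refine ⟨U.map J.subtype, ?_, ?_, ?_, ?_⟩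
  · exact map_subtype_le _
  · intro t ht
    have key : ∀ (s : T) (x : G), x ∈ U.map J.subtype → (s : G) * x * (s : G)⁻¹ ∈ U.map J.subtype := by
      rintro s _ ⟨u, hu, rfl⟩
      exact ⟨ρ s u, h1 s u hu, hρ s u⟩
    rw [mem_normalizer_iff]
    intro x
    constructor
    · exact key ⟨t, ht⟩ x
    · intro hx
      have := key ⟨t⁻¹, T.inv_mem ht⟩ _ hx
      have e : (t⁻¹ : G) * (t * x * t⁻¹) * (t⁻¹)⁻¹ = x := by group
      rwa [e] at this
  · rw [eq_bot_iff]
    rintro _ ⟨⟨u, hu, rfl⟩, hz⟩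
    have : u ∈ U ⊓ Z.subgroupOf J := ⟨hu, hz⟩
    rw [h2, mem_bot] at this
    rw [this]; rfl
  · have h4 : Z = (Z.subgroupOf J).map J.subtype := by
      rw [subgroupOf_map_subtype, inf_eq_left.2 hZJ]
    conv_lhs => rw [h4]
    rw [← Subgroup.map_sup, h3, ← MonoidHom.range_eq_map, range_subtype]

/-- a group with a central element of order 3 and a core-free subgroup of index 9 avoiding it -/
theorem embed {G : Type*} [Group G] [Finite G] (U : Subgroup G) (hU : U.index = 9) (hcore : U.normalCore = ⊥)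
    (z : G) (hz : z ∈ center G) (hz3 : z ^ 3 = 1) (hzU : z ∉ U) (hG : Nat.card G = 162) (τ : Equiv.Perm (Fin 9))
    (hτ : τ.cycleType = {3, 3, 3}) : Nonempty (G ≃* centralizer ({τ} : Set (Equiv.Perm (Fin 9)))) := by
  classical
  haveI : Fact (Nat.Prime 3) := ⟨Nat.prime_three⟩
  have hc : Nat.card (G ⧸ U) = 9 := hU
  haveI : Fintype (G ⧸ U) := Fintype.ofFinite _
  have hc' : Fintype.card (G ⧸ U) = 9 := by rw [← Nat.card_eq_fintype_card]; exact hc
  let e : (G ⧸ U) ≃ Fin 9 := Fintype.equivFinOfCardEq hc'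
  let φ : G →* Equiv.Perm (G ⧸ U) := MulAction.toPermHom G (G ⧸ U)
  have hφ : Function.Injective φ := by
    rw [← MonoidHom.ker_eq_bot_iff]
    have : φ.ker = U.normalCore := (Subgroup.normalCore_eq_ker U).symm
    rw [this, hcore]
  let E : Equiv.Perm (G ⧸ U) ≃* Equiv.Perm (Fin 9) := e.permCongrHom
  let ψ : G →* Equiv.Perm (Fin 9) := E.toMonoidHom.comp φ
  have hψ : Function.Injective ψ := E.injective.comp hφ
  have hct : (ψ z).cycleType = {3, 3, 3} := by
    have h1 : (ψ z) ^ 3 = 1 := by rw [← map_pow, hz3, map_one]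
    rw [H7.Part.cycleType_eq (r := 3) h1]
    have h2 : (ψ z).support = Finset.univ := by
      ext i
      simp only [Equiv.Perm.mem_support, Finset.mem_univ, iff_true]
      intro h3
      have h4 : φ z (e.symm i) = e.symm i := by
        have : e (φ z (e.symm i)) = i := h3
        exact (Equiv.eq_symm_apply e).2 this
      obtain ⟨g, hg⟩ := QuotientGroup.mk_surjective (e.symm i)
      rw [← hg] at h4
      have h5 : ((z * g : G) : G ⧸ U) = (g : G ⧸ U) := h4
      rw [QuotientGroup.eq] at h5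
      apply hzU
      have h6 : (z * g)⁻¹ * g = z⁻¹ := by
        rw [← mem_center_iff.1 hz g, mul_inv_rev, mul_assoc, inv_mul_cancel, mul_one]
      rw [h6] at h5
      exact U.inv_mem_iff.1 h5
    rw [h2, Finset.card_univ, Fintype.card_fin]
    rfl
  obtain ⟨c, hcj⟩ := isConj_iff.1 (Equiv.Perm.isConj_iff_cycleType_eq.2 (hct.trans hτ.symm))
  have hin : ∀ g : G, MulAut.conj c (ψ g) ∈ centralizer ({τ} : Set (Equiv.Perm (Fin 9))) := by
    intro g
    rw [mem_centralizer_singleton_iff, ← hcj]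
    have h7 : ψ g * ψ z = ψ z * ψ g := by rw [← map_mul, ← map_mul, mem_center_iff.1 hz g]
    show c * ψ g * c⁻¹ * (c * ψ z * c⁻¹) = c * ψ z * c⁻¹ * (c * ψ g * c⁻¹)
    calc c * ψ g * c⁻¹ * (c * ψ z * c⁻¹) = c * (ψ g * ψ z) * c⁻¹ := by group
      _ = c * (ψ z * ψ g) * c⁻¹ := by rw [h7]
      _ = _ := by group
  let Φ : G →* centralizer ({τ} : Set (Equiv.Perm (Fin 9))) := ((MulAut.conj c).toMonoidHom.comp ψ).codRestrict _ hin
  have hΦ : Function.Injective Φ := by
    intro a b hab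
    have h8 : MulAut.conj c (ψ a) = MulAut.conj c (ψ b) := congrArg Subtype.val hab
    exact hψ ((MulAut.conj c).injective h8)
  have hcard : Nat.card (centralizer ({τ} : Set (Equiv.Perm (Fin 9)))) = 162 := by
    rw [Equiv.Perm.nat_card_centralizer, hτ]
    decide
  exact ⟨MulEquiv.ofBijective Φ ((Nat.bijective_iff_injective_and_card Φ).2 ⟨hΦ, by rw [hG, hcard]⟩)⟩

end H7.G162
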