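import Cfsg.Statements.S4142
import Cfsg.Agent.H24_Class

set_option autoImplicit false
open Cfsg

namespace Cfsg.Agent.S4142

theorem conj_card {G : Type*} [Group G] [Finite G] (g : G) :
    Nat.card (Subgroup.centralizer ({g} : Set G)) * Nat.card (conjugatesOf g) = Nat.card G := by
  rw [Cfsg.Agent.H24.Class.card_conjugatesOf, Subgroup.card_mul_index]

/-- Let G be a finite group and N a normal subgroup. Then the conjugacy class of every element g outside N is a union of cosets of N (gn is conjugate to g for all n ∈ N) if and only if for every g outside N the centralizer of g in G has the same order as the centralizer of gN in G/N. -/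
theorem result {G : Type*} [Group G] [Finite G] (N : Subgroup G) [N.Normal] :
    (∀ g : G, g ∉ N → ∀ n ∈ N, ∃ x : G, x * g * x⁻¹ = g * n) ↔
      ∀ g : G, g ∉ N → Nat.card (Subgroup.centralizer ({g} : Set G)) =
        Nat.card (Subgroup.centralizer ({(QuotientGroup.mk g : G ⧸ N)} : Set (G ⧸ N))) := by
  classical
  have hset : ∀ g : G, conjugatesOf g ⊆ (QuotientGroup.mk : G → G ⧸ N) ⁻¹' (conjugatesOf (g : G ⧸ N)) := by
    intro g h hgh
    obtain ⟨c, hc⟩ := isConj_iff.1 (show IsConj g h from hgh)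
    change IsConj (g : G ⧸ N) (h : G ⧸ N)
    rw [isConj_iff]
    exact ⟨c, by rw [← hc]; rfl⟩
  have hpre : ∀ g : G, Nat.card ((QuotientGroup.mk : G → G ⧸ N) ⁻¹' (conjugatesOf (g : G ⧸ N))) =
      Nat.card N * Nat.card (conjugatesOf (g : G ⧸ N)) := by
    intro g
    rw [Nat.card_congr (QuotientGroup.preimageMkEquivSubgroupProdSet N (conjugatesOf (g : G ⧸ N))),
      Nat.card_prod]
  have hG : Nat.card G = Nat.card N * Nat.card (G ⧸ N) := by
    rw [← Subgroup.index_eq_card, Subgroup.card_mul_index]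
  have hN0 : 0 < Nat.card N := Nat.card_pos
  have hK0 : ∀ g : G, 0 < Nat.card (conjugatesOf (g : G ⧸ N)) := fun g =>
    Nat.card_pos_iff.2 ⟨⟨⟨_, mem_conjugatesOf_self⟩⟩, inferInstance⟩
  have hC0 : ∀ g : G, 0 < Nat.card (Subgroup.centralizer ({g} : Set G)) := fun g => Nat.card_pos
  have key : ∀ g : G, (Nat.card (Subgroup.centralizer ({g} : Set G)) =
      Nat.card (Subgroup.centralizer ({(g : G ⧸ N)} : Set (G ⧸ N)))) ↔
      Nat.card (conjugatesOf g) = Nat.card ((QuotientGroup.mk : G → G ⧸ N) ⁻¹' (conjugatesOf (g : G ⧸ N))) := by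
    intro g
    rw [hpre]
    have h1 := conj_card g
    have h2 := conj_card (g : G ⧸ N)
    rw [hG, ← h2] at h1
    constructor
    · intro h
      rw [h] at h1
      have h3 : Nat.card (Subgroup.centralizer ({(g : G ⧸ N)} : Set (G ⧸ N))) * Nat.card (conjugatesOf g) =
        Nat.card (Subgroup.centralizer ({(g : G ⧸ N)} : Set (G ⧸ N))) * (Nat.card N * Nat.card (conjugatesOf (g : G ⧸ N))) := by
        rw [h1]; ring
      exact Nat.eq_of_mul_eq_mul_left Nat.card_pos h3
    · intro h
      rw [h] at h1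
      have h3 : (Nat.card N * Nat.card (conjugatesOf (g : G ⧸ N))) * Nat.card (Subgroup.centralizer ({g} : Set G)) =
        (Nat.card N * Nat.card (conjugatesOf (g : G ⧸ N))) * Nat.card (Subgroup.centralizer ({(g : G ⧸ N)} : Set (G ⧸ N))) := by
        rw [mul_comm, h1]; ring
      exact Nat.eq_of_mul_eq_mul_left (Nat.mul_pos hN0 (hK0 g)) h3
  constructor
  · intro h g hg
    refine (key g).2 ?_
    congr 1
    have : conjugatesOf g = (QuotientGroup.mk : G → G ⧸ N) ⁻¹' (conjugatesOf (g : G ⧸ N)) := by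
      apply Set.Subset.antisymm (hset g)
      intro x hx
      obtain ⟨c, hc⟩ := isConj_iff.1 (show IsConj (g : G ⧸ N) (x : G ⧸ N) from hx)
      obtain ⟨c, rfl⟩ := QuotientGroup.mk_surjective c
      have h1 : (c * g * c⁻¹)⁻¹ * x ∈ N := by
        rw [← QuotientGroup.eq]
        exact hc
      have h2 : c⁻¹ * ((c * g * c⁻¹)⁻¹ * x) * c ∈ N := by
        have := (inferInstance : N.Normal).conj_mem _ h1 c⁻¹
        rwa [inv_inv] at this
      obtain ⟨y, hy⟩ := h g hg _ h2
      change IsConj g x
      rw [isConj_iff]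
      refine ⟨c * y, ?_⟩
      have h3 : c * y * g * (c * y)⁻¹ = c * (y * g * y⁻¹) * c⁻¹ := by group
      rw [h3, hy]; group
    rw [this]
  · intro h g hg n hn
    have h1 := (key g).1 (h g hg)
    have h2 : conjugatesOf g = (QuotientGroup.mk : G → G ⧸ N) ⁻¹' (conjugatesOf (g : G ⧸ N)) := by
      apply Set.eq_of_subset_of_ncard_le (hset g) _ (Set.toFinite _)
      rw [← Nat.card_coe_set_eq, ← Nat.card_coe_set_eq, h1]
    have h3 : g * n ∈ conjugatesOf g := by
      rw [h2]
      change IsConj (g : G ⧸ N) ((g * n : G) : G ⧸ N)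
      rw [QuotientGroup.mk_mul, (QuotientGroup.eq_one_iff n).2 hn, mul_one]
    exact isConj_iff.1 (show IsConj g (g * n) from h3)

end Cfsg.Agent.S4142
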