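import Cfsg.Agent.H7_Cam
import Cfsg.Agent.H7_G162
import Cfsg.Agent.S0040
import Cfsg.Agent.S4142
import Cfsg.Agent.H10_FrF7

set_option autoImplicit false
open Cfsg

namespace H7.Cam

open Subgroup

variable {G : Type*} [Group G]

/-- elements of N commuting with a p-element outside N are p-elements -/
theorem comm_pelt [Finite G] {N : Subgroup G} (hc : ∀ g : G, g ∉ N → ∀ n ∈ N, ∃ x : G, x * g * x⁻¹ = g * n)
    {p q : ℕ} (hq : q.Prime) (hpp : p.Prime) (hpq : q ≠ p) {g n : G} {k : ℕ} (hg : orderOf g = p ^ k) (hgN : g ∉ N) (hn : n ∈ N)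
    (hnq : orderOf n = q) (hcm : g * n = n * g) : False := by
  obtain ⟨x, hx⟩ := hc g hgN n hn
  have h1 : orderOf (x * g * x⁻¹) = orderOf g :=
    orderOf_injective (MulAut.conj x).toMonoidHom (MulAut.conj x).injective g
  have hcop : (orderOf g).Coprime (orderOf n) := by
    rw [hg, hnq]
    exact Nat.Coprime.pow_left k ((Nat.coprime_primes hpp hq).2 (Ne.symm hpq))
  have h2 := (show Commute g n from hcm).orderOf_mul_eq_mul_orderOf_of_coprime hcop
  rw [← hx, h1, hnq] at h2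
  have h3 := orderOf_pos g
  have h4 := hq.two_le
  nlinarith

/-- a p-element outside N in the cyclic group of y -/
theorem p_part {N : Subgroup G} [Finite G] [N.Normal] (y : G) (hy : y ∉ N) :
    ∃ p : ℕ, p.Prime ∧ p ∣ N.index ∧ ∃ m k : ℕ, orderOf (y ^ m) = p ^ k ∧ y ^ m ∉ N := by
  have h1 : orderOf ((y : G) : G ⧸ N) ≠ 1 := by
    rw [Ne, orderOf_eq_one_iff, QuotientGroup.eq_one_iff]; exact hy
  obtain ⟨p, hp, hpd⟩ := Nat.exists_prime_and_dvd h1
  obtain ⟨a, b, hb, hab⟩ := Nat.exists_eq_pow_mul_and_not_dvd (orderOf_pos y).ne' p hp.one_lt.ne'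
  refine ⟨p, hp, hpd.trans (orderOf_dvd_natCard _), b, a, ?_, ?_⟩
  · have hb0 : 0 < b := Nat.pos_of_ne_zero (by rintro rfl; exact hb (dvd_zero _))
    rw [orderOf_pow, hab, Nat.gcd_eq_right (Dvd.intro_left _ rfl), Nat.mul_div_cancel _ hb0]
  · intro h
    have h2 : ((y : G) : G ⧸ N) ^ b = 1 := by
      rw [← QuotientGroup.mk_pow]; exact (QuotientGroup.eq_one_iff _).2 h
    exact hb (hpd.trans (orderOf_dvd_of_pow_eq_one h2))

theorem lift_pelt {N : Subgroup G} [Finite G] [N.Normal] {p j : ℕ} (hp : p.Prime) (τ : G ⧸ N) (hτ : orderOf τ = p ^ j) :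
    ∃ g : G, ((g : G) : G ⧸ N) = τ ∧ ∃ k, orderOf g = p ^ k := by
  obtain ⟨y, rfl⟩ := QuotientGroup.mk_surjective τ
  obtain ⟨a, b, hb, hab⟩ := Nat.exists_eq_pow_mul_and_not_dvd (orderOf_pos y).ne' p hp.one_lt.ne'
  have hcop : Nat.Coprime b (p ^ j) := Nat.Coprime.pow_right j ((hp.coprime_iff_not_dvd.2 hb).symm)
  obtain ⟨m, hm0, hm1⟩ := Nat.chineseRemainder hcop 0 1
  refine ⟨y ^ m, ?_, ?_⟩
  · rw [QuotientGroup.mk_pow]
    have h1 : ((y : G) : G ⧸ N) ^ m = ((y : G) : G ⧸ N) ^ 1 := by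
      rw [pow_eq_pow_iff_modEq, hτ]; exact hm1
    rw [h1, pow_one]
  · have h2 : (y ^ m) ^ (p ^ a) = 1 := by
      obtain ⟨c, hc⟩ := (Nat.modEq_zero_iff_dvd.1 hm0)
      rw [← pow_mul, hc]
      have : b * c * p ^ a = orderOf y * c := by rw [hab]; ring
      rw [this, pow_mul, pow_orderOf_eq_one, one_pow]
    obtain ⟨k, _, hk⟩ := (Nat.dvd_prime_pow hp).1 (orderOf_dvd_of_pow_eq_one h2)
    exact ⟨k, hk⟩

/-- the key counting fact -/
theorem lemP [Finite G] {N : Subgroup G} [hN : N.Normal]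
    (hc : ∀ g : G, g ∉ N → ∀ n ∈ N, ∃ x : G, x * g * x⁻¹ = g * n) {p : ℕ} [hp : Fact p.Prime] (hpN : p ∣ Nat.card N)
    {g : G} {k j : ℕ} (hg : orderOf g = p ^ k) (hgN : g ∉ N) (hj : orderOf ((g : G) : G ⧸ N) = p ^ j) :
    p ^ (j + 1) ∣ Nat.card (centralizer ({((g : G) : G ⧸ N)} : Set (G ⧸ N))) := by
  have h1 := (Cfsg.Agent.S4142.result N).1 hc g hgN
  rw [← h1]
  let C := centralizer ({g} : Set G)
  -- card C = card (N ∩ C) * card image
  have h2 : Nat.card C = Nat.card ((N.subgroupOf C)) * Nat.card (C.map (QuotientGroup.mk' N)) := by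
    have e1 := (N.subgroupOf C).card_mul_index
    have e2 : (N.subgroupOf C).index = Nat.card (C.map (QuotientGroup.mk' N)) := by
      have e3 : N.subgroupOf C = ((QuotientGroup.mk' N).comp C.subtype).ker := by
        ext x
        rw [MonoidHom.mem_ker, mem_subgroupOf]
        exact (QuotientGroup.eq_one_iff (x : G)).symm
      rw [e3, Subgroup.index_ker]
      have e4 : ((QuotientGroup.mk' N).comp C.subtype).range = C.map (QuotientGroup.mk' N) := by
        rw [MonoidHom.range_comp, range_subtype]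
      rw [e4]
    rw [← e2, e1]
  show p ^ (j + 1) ∣ Nat.card C
  rw [h2, pow_succ, mul_comm]
  apply mul_dvd_mul
  · -- p divides C_N(g)
    have hzp : IsPGroup p (zpowers g) := IsPGroup.of_card (n := k) (by rw [Nat.card_zpowers, hg])
    obtain ⟨P, hP⟩ := hzp.exists_le_sylow
    obtain ⟨x, hx⟩ := exists_prime_orderOf_dvd_card' p hpN
    have hx' : orderOf (x : G) = p := by rw [Subgroup.orderOf_coe]; exact hx
    have hxp : IsPGroup p (zpowers (x : G)) := IsPGroup.of_card (n := 1) (by rw [Nat.card_zpowers, hx', pow_one])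
    obtain ⟨Q, hQ⟩ := hxp.exists_le_sylow
    obtain ⟨h, hh⟩ := MulAction.exists_smul_eq G Q P
    have hNP : N ⊓ (P : Subgroup G) ≠ ⊥ := by
      intro hb
      have m1 : h * x * h⁻¹ ∈ N ⊓ (P : Subgroup G) := by
        refine ⟨hN.conj_mem x x.2 h, ?_⟩
        show h * x * h⁻¹ ∈ (P : Subgroup G)
        rw [← hh, Sylow.coe_subgroup_smul]
        exact Subgroup.smul_mem_pointwise_smul _ (MulAut.conj h) _ (hQ (mem_zpowers _))
      rw [hb, mem_bot] at m1
      have := conj_eq_one_iff.1 m1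
      rw [this, orderOf_one] at hx'
      exact hp.out.one_lt.ne hx'
    have hmeet := _root_.H7.G162.meets P.isPGroup' hNP
    obtain ⟨z, ⟨hzN, hzP, hzC⟩, hz1⟩ := (N ⊓ ((P : Subgroup G) ⊓ centralizer ((P : Subgroup G) : Set G))).bot_or_exists_ne_one.resolve_left hmeet
    have hzg : z ∈ C := by
      rw [mem_centralizer_singleton_iff]
      exact ((mem_centralizer_iff.1 hzC) g (hP (mem_zpowers g))).symm
    obtain ⟨m, hm⟩ := IsPGroup.iff_orderOf.1 P.isPGroup' ⟨z, hzP⟩
    rw [← Subgroup.orderOf_coe] at hm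
    have hm' : orderOf z = p ^ m := hm
    have hm0 : m ≠ 0 := by
      rintro rfl
      rw [pow_zero, orderOf_eq_one_iff] at hm'
      exact hz1 hm'
    have h5 : p ∣ orderOf z := by rw [hm']; exact dvd_pow_self p hm0
    have h6 : orderOf (⟨⟨z, hzg⟩, hzN⟩ : N.subgroupOf C) = orderOf z := by
      rw [← Subgroup.orderOf_coe, ← Subgroup.orderOf_coe]
    rw [← h6] at h5
    exact h5.trans (orderOf_dvd_natCard _)
  · rw [← hj]
    apply Subgroup.orderOf_dvd_natCard
    exact ⟨g, mem_centralizer_singleton_iff.2 rfl, rfl⟩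

/-- cyclic or generalized quaternion -/
def CQ (X : Type*) [Group X] : Prop := IsCyclic X ∨ ∃ n : ℕ, Nonempty (X ≃* QuaternionGroup (2 ^ n))

theorem CQ.of_equiv {X Y : Type*} [Group X] [Group Y] (e : X ≃* Y) (h : CQ X) : CQ Y := by
  rcases h with h | ⟨n, ⟨f⟩⟩
  · left
    exact isCyclic_of_surjective e e.surjective
  · exact Or.inr ⟨n, ⟨e.symm.trans f⟩⟩

theorem quat_center {n : ℕ} (hn : 1 ≤ n) (z : QuaternionGroup (2 ^ n)) (hz : ∀ x, x * z = z * x) : z ^ 2 = 1 := by
  rcases z with i | i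
  · have h1 := hz (QuaternionGroup.xa 0)
    rw [QuaternionGroup.xa_mul_a, QuaternionGroup.a_mul_xa] at h1
    have h2 : (0 : ZMod (2 * 2 ^ n)) + i = 0 - i := by
      injection h1
    rw [pow_two, QuaternionGroup.a_mul_a]
    have h3 : i + i = 0 := by
      have : i = - i := by rw [zero_add, zero_sub] at h2; exact h2
      nth_rewrite 2 [this]
      exact add_neg_cancel i
    rw [h3]; rfl
  · exfalso
    have h1 := hz (QuaternionGroup.a 1)
    rw [QuaternionGroup.xa_mul_a, QuaternionGroup.a_mul_xa] at h1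
    have h2 : i - 1 = i + 1 := by injection h1
    have h3 : (2 : ZMod (2 * 2 ^ n)) = 0 := by
      have : (i + 1) - (i - 1) = 0 := by rw [h2, sub_self]
      rw [← this]; ring
    have h4 : ((2 : ℕ) : ZMod (2 * 2 ^ n)) = 0 := by exact_mod_cast h3
    rw [ZMod.natCast_eq_zero_iff] at h4
    have h5 := Nat.le_of_dvd (by norm_num) h4
    have h6 : 2 ^ 1 ≤ 2 ^ n := Nat.pow_le_pow_right (by norm_num) hn
    omega

end H7.Cam
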