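import Cfsg.Agent.H7_Cam2

set_option autoImplicit false
open Cfsg

namespace H7.Cam

open Subgroup

variable {G : Type*} [Group G]

theorem not_CQ [Finite G] {N : Subgroup G} [hN : N.Normal]
    (hc : ∀ g : G, g ∉ N → ∀ n ∈ N, ∃ x : G, x * g * x⁻¹ = g * n) {p : ℕ} [hp : Fact p.Prime] (hpN : p ∣ Nat.card N)
    (hpi : p ∣ N.index) (T : Sylow p (G ⧸ N)) : ¬ CQ T := by
  have hpT : p ∣ Nat.card T := T.dvd_card_of_dvd_card hpi
  have key : ∀ τ : G ⧸ N, τ ∈ (T : Subgroup (G ⧸ N)) → orderOf τ ≠ Nat.card T := by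
    intro τ hτ hcard
    obtain ⟨j, hj⟩ := IsPGroup.iff_orderOf.1 T.isPGroup' ⟨τ, hτ⟩
    rw [← Subgroup.orderOf_coe] at hj
    have hj' : orderOf τ = p ^ j := hj
    obtain ⟨g, hg, k, hk⟩ := lift_pelt hp.out τ hj'
    have hgN : g ∉ N := by
      intro h
      rw [← QuotientGroup.eq_one_iff, hg] at h
      rw [h, orderOf_one] at hcard
      rw [← hcard] at hpT
      exact hp.out.one_lt.ne' (Nat.dvd_one.1 hpT)
    have h1 := lemP hc hpN hk hgN (by rw [hg]; exact hj')
    have h2 := h1.trans (Subgroup.card_subgroup_dvd_card _)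
    have h3 := T.pow_dvd_card_of_pow_dvd_card h2
    rw [← hcard, hj'] at h3
    exact absurd ((Nat.pow_dvd_pow_iff_le_right hp.out.one_lt).1 h3) (by omega)
  have hcyc : ¬ IsCyclic T := by
    intro h
    obtain ⟨⟨τ, hτ⟩, hgen⟩ := h.exists_generator
    apply key τ hτ
    have := orderOf_eq_card_of_forall_mem_zpowers hgen
    rw [← Subgroup.orderOf_coe] at this
    exact this
  rintro (h | ⟨n, ⟨e⟩⟩)
  · exact hcyc h
  haveI : NeZero (2 ^ n) := ⟨by positivity⟩
  have hTc : Nat.card T = 2 ^ (n + 2) := by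
    rw [Nat.card_congr e.toEquiv, Nat.card_eq_fintype_card, QuaternionGroup.card]
    ring
  have hp2 : p = 2 := by
    rw [hTc] at hpT
    exact (Nat.prime_dvd_prime_iff_eq hp.out Nat.prime_two).1 (hp.out.dvd_of_dvd_pow hpT)
  subst hp2
  rcases Nat.eq_zero_or_pos n with hn | hn
  · subst hn
    apply hcyc
    haveI : IsCyclic (QuaternionGroup (2 ^ 0)) := QuaternionGroup.quaternionGroup_one_isCyclic
    exact isCyclic_of_surjective e.symm e.symm.surjective
  let t : T := e.symm (QuaternionGroup.a 1)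
  let τ : G ⧸ N := (t : G ⧸ N)
  have hτo : orderOf τ = 2 ^ (n + 1) := by
    have h1 : orderOf t = orderOf (QuaternionGroup.a 1 : QuaternionGroup (2 ^ n)) := e.symm.orderOf_eq _
    rw [QuaternionGroup.orderOf_a_one] at h1
    have h2 : orderOf τ = orderOf t := Subgroup.orderOf_coe t
    rw [h2, h1, pow_succ, mul_comm]
  obtain ⟨g, hg, k, hk⟩ := lift_pelt Nat.prime_two τ hτo
  have hgN : g ∉ N := by
    intro h
    rw [← QuotientGroup.eq_one_iff, hg] at h
    rw [h, orderOf_one] at hτo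
    have : 1 < 2 ^ (n + 1) := Nat.one_lt_pow (by omega) (by norm_num)
    omega
  have h1 := lemP hc hpN hk hgN (by rw [hg]; exact hτo)
  rw [hg] at h1
  set C := centralizer ({τ} : Set (G ⧸ N)) with hC
  have hτC : τ ∈ C := mem_centralizer_singleton_iff.2 rfl
  have hzp : IsPGroup 2 (zpowers (⟨τ, hτC⟩ : C)) := by
    apply IsPGroup.of_card (n := n + 1)
    rw [Nat.card_zpowers, ← Subgroup.orderOf_coe]; exact hτo
  obtain ⟨U₀, hU₀⟩ := hzp.exists_le_sylow
  have hU₀c := U₀.pow_dvd_card_of_pow_dvd_card h1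
  let U : Subgroup (G ⧸ N) := (U₀ : Subgroup C).map C.subtype
  have hUp : IsPGroup 2 U := U₀.isPGroup'.map _
  obtain ⟨R, hR⟩ := hUp.exists_le_sylow
  have hRc : Nat.card R = 2 ^ (n + 2) := by
    rw [← hTc]; exact Nat.card_congr (Sylow.equiv R T).toEquiv
  have hUc : Nat.card U = Nat.card U₀ := Subgroup.card_map_of_injective C.subtype_injective
  have hUR : U = R := by
    apply Subgroup.eq_of_le_of_card_ge hR
    have h2 : Nat.card (R : Subgroup (G ⧸ N)) = 2 ^ (n + 2) := hRc
    rw [h2, hUc]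
    exact Nat.le_of_dvd Nat.card_pos hU₀c
  have hτU : τ ∈ U := ⟨⟨τ, hτC⟩, hU₀ (mem_zpowers _), rfl⟩
  have hτR : τ ∈ (R : Subgroup (G ⧸ N)) := by rw [← hUR]; exact hτU
  let f : R ≃* QuaternionGroup (2 ^ n) := (Sylow.equiv R T).trans e
  have h3 := quat_center hn (f ⟨τ, hτR⟩) (by
    intro x
    obtain ⟨⟨y, hy⟩, rfl⟩ := f.surjective x
    rw [← map_mul, ← map_mul]
    congr 1
    apply Subtype.ext
    show y * τ = τ * y
    have hy' : y ∈ U := by rw [hUR]; exact hy
    obtain ⟨c, _, hc'⟩ := hy'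
    have : y ∈ C := by rw [← hc']; exact c.2
    exact mem_centralizer_singleton_iff.1 this)
  rw [← map_pow] at h3
  have h4 : (⟨τ, hτR⟩ : R) ^ 2 = 1 := f.injective (by rw [h3, map_one])
  have h5 : τ ^ 2 = 1 := congrArg Subtype.val h4
  have h6 := orderOf_dvd_of_pow_eq_one h5
  rw [hτo] at h6
  have h7 := Nat.le_of_dvd (by norm_num) h6
  have h8 : 2 ^ 2 ≤ 2 ^ (n + 1) := Nat.pow_le_pow_right (by norm_num) (by omega)
  omega

theorem CQ_of_coprime [Finite G] {N : Subgroup G} [hN : N.Normal]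
    (hc : ∀ g : G, g ∉ N → ∀ n ∈ N, ∃ x : G, x * g * x⁻¹ = g * n) {s : ℕ} [hp : Fact s.Prime] (hNb : N ≠ ⊥)
    (hs : ¬ s ∣ Nat.card N) (T : Sylow s (G ⧸ N)) : CQ T := by
  obtain ⟨P⟩ : Nonempty (Sylow s G) := inferInstance
  have hPN : (P : Subgroup G) ⊓ N = ⊥ := by
    rw [eq_bot_iff]
    rintro x ⟨hxP, hxN⟩
    obtain ⟨j, hj⟩ := IsPGroup.iff_orderOf.1 P.isPGroup' ⟨x, hxP⟩
    rw [← Subgroup.orderOf_coe] at hj
    have hj' : orderOf x = s ^ j := hj
    rcases Nat.eq_zero_or_pos j with h0 | h0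
    · rw [h0, pow_zero, orderOf_eq_one_iff] at hj'
      exact hj'
    · exfalso
      apply hs
      have h1 : s ∣ orderOf x := by rw [hj']; exact dvd_pow_self s h0.ne'
      exact h1.trans (Subgroup.orderOf_dvd_natCard N hxN)
  let H : Subgroup G := (P : Subgroup G) ⊔ N
  have hPH : (P : Subgroup G) ≤ H := le_sup_left
  have hNH : N ≤ H := le_sup_right
  let K' : Subgroup H := N.subgroupOf H
  let H' : Subgroup H := (P : Subgroup G).subgroupOf H
  have hKc : Nat.card K' = Nat.card N := Nat.card_congr (subgroupOfEquivOfLe hNH).toEquiv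
  have hHc : Nat.card H' = Nat.card (P : Subgroup G) := Nat.card_congr (subgroupOfEquivOfLe hPH).toEquiv
  have hH : Nat.card H = Nat.card N * Nat.card (P : Subgroup G) := by
    have h := Cfsg.Agent.H2.Card.card_sup_mul_card_inf (H := (P : Subgroup G)) (N := N)
      (by rw [Subgroup.normalizer_eq_top]; exact le_top)
    rw [hPN, Subgroup.card_bot, mul_one] at h
    rw [mul_comm]; exact h
  obtain ⟨m, hm⟩ := IsPGroup.iff_card.1 P.isPGroup'
  have hcomp : IsComplement' K' H' := by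
    apply isComplement'_of_coprime
    · rw [hKc, hHc, hH]
    · rw [hKc, hHc, hm]
      exact (Nat.Coprime.pow_left m (hp.out.coprime_iff_not_dvd.2 hs)).symm
  have hKb : K' ≠ ⊥ := by
    intro h
    apply hNb
    rw [← Subgroup.card_eq_one, ← hKc, h, Subgroup.card_bot]
  have hH'p : IsPGroup s H' := P.isPGroup'.of_equiv (subgroupOfEquivOfLe hPH).symm
  let Q : Sylow s H' :=
    { toSubgroup := ⊤
      isPGroup' := hH'p.to_subgroup ⊤
      is_maximal' := fun _ h => top_unique h }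
  have h1 := Cfsg.Agent.S0040.result K' H' hcomp hKb (by
    rintro ⟨h, hhH⟩ hh hh1
    have hhP : h ∈ (P : Subgroup G) := hh
    have hne : h ≠ 1 := fun e => hh1 (Subtype.ext e)
    have hhN : h ∉ N := by
      intro h2
      have : h ∈ (P : Subgroup G) ⊓ N := ⟨hhP, h2⟩
      rw [hPN, mem_bot] at this
      exact hne this
    obtain ⟨j, hj⟩ := IsPGroup.iff_orderOf.1 P.isPGroup' ⟨h, hhP⟩
    rw [← Subgroup.orderOf_coe] at hj
    rw [eq_bot_iff]
    rintro ⟨u, huH⟩ ⟨huN, huc⟩
    have huN' : u ∈ N := huN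
    rw [mem_bot]
    by_contra hu1
    have hu1' : u ≠ 1 := fun e => hu1 (Subtype.ext e)
    have hcm : h * u = u * h := (congrArg Subtype.val (mem_centralizer_singleton_iff.1 huc)).symm
    have ho1 : orderOf u ≠ 1 := fun e => hu1' (orderOf_eq_one_iff.1 e)
    obtain ⟨q, hq, hqd⟩ := Nat.exists_prime_and_dvd ho1
    obtain ⟨c, hc'⟩ := hqd
    have hc0 : c ≠ 0 := by rintro rfl; rw [mul_zero] at hc'; exact (orderOf_pos u).ne' hc'
    have hu' : orderOf (u ^ c) = q := by
      rw [orderOf_pow, hc', Nat.gcd_eq_right (Dvd.intro_left _ rfl), Nat.mul_div_cancel _ (Nat.pos_of_ne_zero hc0)]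
    have hqs : q ≠ s := by
      rintro rfl
      apply hs
      have : q ∣ orderOf u := ⟨c, hc'⟩
      exact this.trans (Subgroup.orderOf_dvd_natCard N huN')
    exact comm_pelt hc hq hp.out hqs hj hhN (N.pow_mem huN' c) hu' ((show Commute h u from hcm).pow_right c)) s Q
  have h2 : CQ (P : Subgroup G) := by
    have e1 : Q ≃* H' := Subgroup.topEquiv
    have e2 : H' ≃* (P : Subgroup G) := subgroupOfEquivOfLe hPH
    exact CQ.of_equiv (e1.trans e2) h1
  let T₀ := P.mapSurjective (QuotientGroup.mk'_surjective N)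
  have hinj : Function.Injective ((QuotientGroup.mk' N).subgroupMap (P : Subgroup G)) := by
    rw [← MonoidHom.ker_eq_bot_iff, eq_bot_iff]
    rintro ⟨x, hx⟩ hk
    have h4 : QuotientGroup.mk' N x = 1 := congrArg Subtype.val hk
    have h5 : x ∈ (P : Subgroup G) ⊓ N := ⟨hx, (QuotientGroup.eq_one_iff x).1 h4⟩
    rw [hPN, mem_bot] at h5
    rw [mem_bot]
    exact Subtype.ext h5
  let e3 : (P : Subgroup G) ≃* ((P : Subgroup G).map (QuotientGroup.mk' N)) :=
    MulEquiv.ofBijective _ ⟨hinj, MonoidHom.subgroupMap_surjective _ _⟩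
  have h3 : CQ T₀ := CQ.of_equiv e3 h2
  exact CQ.of_equiv (Sylow.equiv T₀ T) h3

theorem CQ_of_quot [Finite G] {N K : Subgroup G} [hN : N.Normal] [hK : K.Normal] (hKN : K ≤ N) (hne : ¬ N ≤ K)
    (hc : ∀ g : G, g ∉ N → ∀ n ∈ N, ∃ x : G, x * g * x⁻¹ = g * n) {s : ℕ} [hp : Fact s.Prime]
    (hs : ¬ s ∣ K.relIndex N) (T : Sylow s (G ⧸ N)) : CQ T := by
  let π := QuotientGroup.mk' K
  let N' : Subgroup (G ⧸ K) := N.map π
  haveI hN' : N'.Normal := hN.map π (QuotientGroup.mk'_surjective K)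
  have hc' : ∀ g : G ⧸ K, g ∉ N' → ∀ n ∈ N', ∃ x : G ⧸ K, x * g * x⁻¹ = g * n := by
    intro g hg n hn
    obtain ⟨g, rfl⟩ := QuotientGroup.mk'_surjective K g
    obtain ⟨n, hn, rfl⟩ := hn
    obtain ⟨x, hx⟩ := hc g (fun h => hg ⟨g, h, rfl⟩) n hn
    refine ⟨π x, ?_⟩
    have := congrArg π hx
    simpa only [map_mul, map_inv] using this
  have hcard : Nat.card N' = K.relIndex N := by
    have e3 : K.subgroupOf N = (π.comp N.subtype).ker := by
      ext x
      rw [MonoidHom.mem_ker, mem_subgroupOf]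
      exact (QuotientGroup.eq_one_iff (x : G)).symm
    have e4 : (π.comp N.subtype).range = N.map π := by
      rw [MonoidHom.range_comp, range_subtype]
    show Nat.card N' = (K.subgroupOf N).index
    rw [e3, Subgroup.index_ker, e4]
  have hN'b : N' ≠ ⊥ := by
    intro h
    rw [h, Subgroup.card_bot] at hcard
    exact hne (Subgroup.relIndex_eq_one.1 hcard.symm)
  let T' : Sylow s ((G ⧸ K) ⧸ N') := default
  have h1 := CQ_of_coprime hc' hN'b (by rw [hcard]; exact hs) T'
  let E : (G ⧸ K) ⧸ N' ≃* G ⧸ N := QuotientGroup.quotientQuotientEquivQuotient K N hKN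
  let T₀ := T'.mapSurjective (f := E.toMonoidHom) E.surjective
  have h2 : CQ T₀ := CQ.of_equiv ((T' : Subgroup _).equivMapOfInjective E.toMonoidHom E.injective) h1
  exact CQ.of_equiv (Sylow.equiv T₀ T) h2

theorem main [Finite G] (N : Subgroup G) [hN : N.Normal] (hN1 : N ≠ ⊥)
    (hc : ∀ g : G, g ∉ N → ∀ n ∈ N, ∃ x : G, x * g * x⁻¹ = g * n) :
    (∀ x ∈ N, x ≠ 1 → Subgroup.centralizer ({x} : Set G) ≤ N) ∨ IsPrimePow (Nat.card N) ∨ IsPrimePow N.index := by
  by_contra hcon
  push Not at hcon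
  obtain ⟨⟨x, hxN, hx1, hxC⟩, hnp, hip⟩ := hcon
  obtain ⟨y, hyC, hyN⟩ := Set.not_subset.1 hxC
  obtain ⟨p, hp, hpi, m, k, hk, hmN⟩ := p_part y hyN
  haveI : Fact p.Prime := ⟨hp⟩
  -- p divides card N
  have ho1 : orderOf x ≠ 1 := fun e => hx1 (orderOf_eq_one_iff.1 e)
  obtain ⟨q, hq, hqd⟩ := Nat.exists_prime_and_dvd ho1
  obtain ⟨c, hc'⟩ := hqd
  have hc0 : c ≠ 0 := by rintro rfl; rw [mul_zero] at hc'; exact (orderOf_pos x).ne' hc'
  have hu' : orderOf (x ^ c) = q := by
    rw [orderOf_pow, hc', Nat.gcd_eq_right (Dvd.intro_left _ rfl), Nat.mul_div_cancel _ (Nat.pos_of_ne_zero hc0)]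
  have hcm : y * x = x * y := mem_centralizer_singleton_iff.1 hyC
  have hqp : q = p := by
    by_contra hqp
    exact comm_pelt hc hq hp hqp hk hmN (N.pow_mem hxN c) hu' (((show Commute y x from hcm).pow_left m).pow_right c)
  have hpN : p ∣ Nat.card N := by
    rw [← hqp]
    have : q ∣ orderOf x := ⟨c, hc'⟩
    exact this.trans (Subgroup.orderOf_dvd_natCard N hxN)
  -- another prime dividing the index
  have hi1 : N.index ≠ 0 := Subgroup.index_ne_zero_of_finite
  obtain ⟨a, b, hb, hab⟩ := Nat.exists_eq_pow_mul_and_not_dvd hi1 p hp.one_lt.ne'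
  have hb1 : b ≠ 1 := by
    rintro rfl
    apply hip
    rw [mul_one] at hab
    rw [hab]
    have ha0 : a ≠ 0 := by
      rintro rfl
      rw [pow_zero] at hab
      rw [hab] at hpi
      exact hp.one_lt.ne' (Nat.dvd_one.1 hpi)
    exact hp.isPrimePow.pow ha0
  obtain ⟨s, hs, hsb⟩ := Nat.exists_prime_and_dvd hb1
  haveI : Fact s.Prime := ⟨hs⟩
  have hsi : s ∣ N.index := by rw [hab]; exact Dvd.dvd.mul_left hsb _
  have hsp : s ≠ p := by rintro rfl; exact hb hsb
  by_cases hsN : s ∣ Nat.card N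
  · obtain ⟨K, hKn, hKN, hKc, j, hj⟩ := lemmaA N hc p hpi
    haveI := hKn
    have hne : ¬ N ≤ K := by
      intro h
      have : N = K := le_antisymm h hKN
      rw [← this] at hKc
      exact hp.one_lt.ne' (Nat.eq_one_of_dvd_coprimes hKc hpN dvd_rfl)
    refine not_CQ hc hsN hsi (default : Sylow s (G ⧸ N)) (CQ_of_quot hKN hne hc ?_ default)
    rw [hj]
    intro h
    exact hsp ((Nat.prime_dvd_prime_iff_eq hs hp).1 (hs.dvd_of_dvd_pow h))
  · -- N nilpotent
    obtain ⟨S⟩ : Nonempty (Sylow s G) := inferInstance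
    have hSb : (S : Subgroup G) ≠ ⊥ := by
      intro h
      obtain ⟨g, hgS, hgN⟩ := exists_pelt hsi S
      rw [h, mem_bot] at hgS
      exact hgN (by rw [hgS]; exact N.one_mem)
    have hnil : Group.IsNilpotent N := by
      refine Cfsg.Agent.H10.FrF7.nilp_of_fpf N (S : Subgroup G) hN1 hSb (fun e _ u hu => hN.conj_mem u hu e) ?_
      intro e he he1 u hu hcm'
      by_contra hu1
      obtain ⟨i, hi⟩ := IsPGroup.iff_orderOf.1 S.isPGroup' ⟨e, he⟩
      rw [← Subgroup.orderOf_coe] at hi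
      have hi' : orderOf e = s ^ i := hi
      have heN : e ∉ N := by
        intro h
        have h1 := Subgroup.orderOf_dvd_natCard N h
        rw [hi'] at h1
        rcases Nat.eq_zero_or_pos i with h0 | h0
        · rw [h0, pow_zero, orderOf_eq_one_iff] at hi'
          exact he1 hi'
        · exact hsN ((dvd_pow_self s h0.ne').trans h1)
      have ho1 : orderOf u ≠ 1 := fun e => hu1 (orderOf_eq_one_iff.1 e)
      obtain ⟨r, hr, hrd⟩ := Nat.exists_prime_and_dvd ho1
      obtain ⟨d, hd⟩ := hrd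
      have hd0 : d ≠ 0 := by rintro rfl; rw [mul_zero] at hd; exact (orderOf_pos u).ne' hd
      have hud : orderOf (u ^ d) = r := by
        rw [orderOf_pow, hd, Nat.gcd_eq_right (Dvd.intro_left _ rfl), Nat.mul_div_cancel _ (Nat.pos_of_ne_zero hd0)]
      have hrs : r ≠ s := by
        rintro rfl
        apply hsN
        have : r ∣ orderOf u := ⟨d, hd⟩
        exact this.trans (Subgroup.orderOf_dvd_natCard N hu)
      exact comm_pelt hc hr hs hrs hi' heN (N.pow_mem hu d) hud ((show Commute e u from hcm').pow_right d)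
    -- Sylow p of N
    obtain ⟨Q⟩ : Nonempty (Sylow p N) := inferInstance
    have hQn : (Q : Subgroup N).Normal := Q.normal_of_normalizerCondition Group.normalizerCondition_of_isNilpotent
    haveI hQc : (Q : Subgroup N).Characteristic := Q.characteristic_of_normal hQn
    let K : Subgroup G := (Q : Subgroup N).map N.subtype
    haveI hKn : K.Normal := ConjAct.normal_of_characteristic_of_normal
    have hKN : K ≤ N := map_subtype_le _
    have hrel : K.relIndex N = (Q : Subgroup N).index := by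
      show (K.subgroupOf N).index = _
      congr 1
      exact Subgroup.comap_map_eq_self_of_injective N.subtype_injective _
    have hne : ¬ N ≤ K := by
      intro h
      apply hnp
      have h1 : Nat.card N = Nat.card (Q : Subgroup N) := by
        have : N = K := le_antisymm h hKN
        have h2 : Nat.card K = Nat.card (Q : Subgroup N) := Subgroup.card_map_of_injective N.subtype_injective
        rw [← h2, ← this]
      obtain ⟨i, hi⟩ := IsPGroup.iff_card.1 Q.isPGroup'
      rw [h1, hi]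
      have hi0 : i ≠ 0 := by
        rintro rfl
        rw [pow_zero] at hi
        rw [h1, hi] at hpN
        exact hp.one_lt.ne' (Nat.dvd_one.1 hpN)
      exact hp.isPrimePow.pow hi0
    refine not_CQ hc hpN hpi (default : Sylow p (G ⧸ N)) (CQ_of_quot hKN hne hc ?_ default)
    rw [hrel]
    exact Q.not_dvd_index

end H7.Cam
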