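import Mathlib

/-! The symmetric group `S_{n+1}` as the Coxeter group of type `A_n`. -/

namespace H7.CoxA

section gen

variable {G : Type*} [Group G]

/-- The type `A` braid relations for the first `n` elements. -/
structure Rel (s : ℕ → G) (n : ℕ) : Prop where
  sq : ∀ i < n, s i * s i = 1
  braid : ∀ i, i + 1 < n → s (i + 1) * s i * s (i + 1) = s i * s (i + 1) * s i
  comm : ∀ i j, i + 1 < j → j < n → s i * s j = s j * s i

/-- The coset representatives. -/
def u (s : ℕ → G) (n : ℕ) : ℕ → G
  | 0 => 1
  | j + 1 => s (n - j) * u s n j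

theorem uA {s : ℕ → G} {n : ℕ} (h : Rel s (n + 1)) (i j : ℕ) (hij : i + j < n) :
    s i * u s n j = u s n j * s i := by
  induction j with
  | zero => simp [u]
  | succ j ih =>
    simp only [u]
    rw [← mul_assoc, h.comm i (n - j) (by omega) (by omega), mul_assoc, ih (by omega), mul_assoc]

theorem uC {s : ℕ → G} {n : ℕ} (h : Rel s (n + 1)) (i j : ℕ) (hij : i + j = n) :
    s i * u s n (j + 1) = u s n j := by
  simp only [u]
  have : n - j = i := by omega
  rw [this, ← mul_assoc, h.sq i (by omega), one_mul]

theorem uD {s : ℕ → G} {n : ℕ} (h : Rel s (n + 1)) (i j : ℕ) (hi : i ≤ n) (hj : j ≤ n + 1)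
    (hij : n + 1 < i + j) : s i * u s n j = u s n j * s (i - 1) := by
  induction j with
  | zero => omega
  | succ j ih =>
    by_cases hc : n + 1 < i + j
    · have h1 := ih (by omega) hc
      simp only [u]
      rw [← mul_assoc, ← h.comm (n - j) i (by omega) (by omega), mul_assoc, h1, mul_assoc]
    · have hij' : i + j = n + 1 := by omega
      obtain ⟨i, rfl⟩ : ∃ k, i = k + 1 := ⟨i - 1, by omega⟩
      obtain ⟨j, rfl⟩ : ∃ k, j = k + 1 := ⟨j - 1, by omega⟩
      have h1 := uA h i j (by omega)
      have e1 : n - (j + 1) = i := by omega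
      have e2 : n - j = i + 1 := by omega
      simp only [u, e1, e2, Nat.add_sub_cancel]
      calc s (i + 1) * (s i * (s (i + 1) * u s n j))
          = (s (i + 1) * s i * s (i + 1)) * u s n j := by group
        _ = (s i * s (i + 1) * s i) * u s n j := by rw [h.braid i (by omega)]
        _ = s i * s (i + 1) * (s i * u s n j) := by group
        _ = s i * s (i + 1) * (u s n j * s i) := by rw [h1]
        _ = s i * (s (i + 1) * u s n j) * s i := by group

theorem Rel.mono {s : ℕ → G} {n m : ℕ} (h : Rel s n) (hmn : m ≤ n) : Rel s m :=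
  ⟨fun i hi => h.sq i (by omega), fun i hi => h.braid i (by omega),
    fun i j hi hj => h.comm i j hi (by omega)⟩

/-- The subgroup generated by the first `n` elements. -/
def K (s : ℕ → G) (n : ℕ) : Subgroup G := Subgroup.closure (s '' Set.Iio n)

theorem mem_K {s : ℕ → G} {n i : ℕ} (hi : i < n) : s i ∈ K s n :=
  Subgroup.subset_closure ⟨i, hi, rfl⟩

theorem finite_card (n : ℕ) : ∀ {s : ℕ → G}, Rel s n →
    ((K s n : Set G).Finite ∧ (K s n : Set G).ncard ≤ (n + 1).factorial) := by
  classical
  induction n with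
  | zero =>
    intro s _
    have : K s 0 = ⊥ := by
      unfold K
      have h0 : Set.Iio 0 = (∅ : Set ℕ) := by ext; simp
      rw [h0, Set.image_empty, Subgroup.closure_empty]
    rw [this]
    simp
  | succ n ih =>
    intro s h
    obtain ⟨hf, hc⟩ := ih (h.mono (Nat.le_succ n))
    -- the union of the cosets
    set S : Set G := ⋃ j ∈ Finset.range (n + 2), (fun x => u s n j * x) '' (K s n : Set G) with hS
    have hSf : S.Finite := by
      rw [hS]
      exact Set.Finite.biUnion (Finset.finite_toSet _) (fun j _ => hf.image _)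
    have hSc : S.ncard ≤ (n + 2) * (K s n : Set G).ncard := by
      have h1 : S.ncard ≤ ∑ j ∈ Finset.range (n + 2),
          ((fun x => u s n j * x) '' (K s n : Set G)).ncard := by
        rw [hS]
        exact Finset.set_ncard_biUnion_le _ _
      refine h1.trans ?_
      refine (Finset.sum_le_card_nsmul _ _ (K s n : Set G).ncard ?_).trans ?_
      · intro j _
        exact Set.ncard_image_le hf
      · simp
    have hmem : ∀ j ≤ n + 1, ∀ x ∈ K s n, u s n j * x ∈ S := by
      intro j hj x hx
      rw [hS]
      simp only [Set.mem_iUnion]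
      exact ⟨j, Finset.mem_range.2 (by omega), x, hx, rfl⟩
    have hinv : ∀ i ≤ n, ∀ y ∈ S, s i * y ∈ S := by
      intro i hi y hy
      rw [hS] at hy
      simp only [Set.mem_iUnion] at hy
      obtain ⟨j, hj, x, hx, rfl⟩ := hy
      rw [Finset.mem_range] at hj
      have hx' : x ∈ K s n := hx
      show s i * (u s n j * x) ∈ S
      rw [← mul_assoc]
      rcases lt_trichotomy (i + j) n with h1 | h1 | h1
      · rw [uA h i j h1, mul_assoc]
        exact hmem j (by omega) _ ((K s n).mul_mem (mem_K (by omega)) hx')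
      · have : s i * u s n j = u s n (j + 1) := by
          simp only [u]
          rw [show n - j = i by omega]
        rw [this]
        exact hmem (j + 1) (by omega) _ hx'
      · by_cases h2 : i + j = n + 1
        · obtain ⟨j, rfl⟩ : ∃ k, j = k + 1 := ⟨j - 1, by omega⟩
          rw [uC h i j (by omega)]
          exact hmem j (by omega) _ hx'
        · rw [uD h i j hi (by omega) (by omega), mul_assoc]
          exact hmem j (by omega) _ ((K s n).mul_mem (mem_K (by omega)) hx')
    have hsub : (K s (n + 1) : Set G) ⊆ S := by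
      intro y hy
      have hy' : y ∈ Subgroup.closure (s '' Set.Iio (n + 1)) := hy
      induction hy' using Subgroup.closure_induction_left with
      | one =>
        have := hmem 0 (by omega) 1 (K s n).one_mem
        simpa [u] using this
      | mul_left x hx y hy' ih =>
        obtain ⟨i, hi, rfl⟩ := hx
        exact hinv i (by simpa [Nat.lt_succ_iff] using hi) _ (ih hy')
      | inv_mul_cancel x hx y hy' ih =>
        obtain ⟨i, hi, rfl⟩ := hx
        have hi' : i < n + 1 := hi
        have : (s i)⁻¹ = s i := by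
          rw [inv_eq_iff_mul_eq_one]; exact h.sq i hi'
        rw [this]
        exact hinv i (by omega) _ (ih hy')
    refine ⟨hSf.subset hsub, ?_⟩
    refine (Set.ncard_le_ncard hsub hSf).trans (hSc.trans ?_)
    rw [Nat.factorial_succ (n + 1)]
    exact Nat.mul_le_mul_left _ hc

end gen

open CoxeterSystem

/-- The simple generators extended to `ℕ`. -/
noncomputable def ext (n : ℕ) (i : ℕ) : (CoxeterMatrix.A n).Group :=
  if h : i < n then (CoxeterMatrix.A n).simple ⟨i, h⟩ else 1

theorem rel (n : ℕ) : Rel (ext n) n := by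
  have key := fun i j => (CoxeterMatrix.A n).toCoxeterSystem.simple_mul_simple_pow i j
  have ksq := fun i => (CoxeterMatrix.A n).toCoxeterSystem.simple_mul_simple_self i
  rw [CoxeterMatrix.toCoxeterSystem_simple] at key ksq
  refine ⟨fun i hi => ?_, fun i hi => ?_, fun i j hij hj => ?_⟩
  · simp only [ext, hi, dif_pos]
    exact ksq _
  · have hi' : i < n := by omega
    simp only [ext, hi, hi', dif_pos]
    have h1 := key ⟨i + 1, hi⟩ ⟨i, hi'⟩
    have h2 : (CoxeterMatrix.A n).M ⟨i + 1, hi⟩ ⟨i, hi'⟩ = 3 := by
      simp [CoxeterMatrix.A]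
    rw [h2] at h1
    have sa := ksq ⟨i + 1, hi⟩
    have sb := ksq ⟨i, hi'⟩
    generalize (CoxeterMatrix.A n).simple ⟨i + 1, hi⟩ = a at *
    generalize (CoxeterMatrix.A n).simple ⟨i, hi'⟩ = b at *
    have ia : a⁻¹ = a := by rw [inv_eq_iff_mul_eq_one]; exact sa
    have ib : b⁻¹ = b := by rw [inv_eq_iff_mul_eq_one]; exact sb
    have h3 : a * b * a * b * a * b = 1 := by
      rw [← h1]; simp only [pow_succ, pow_zero, one_mul, mul_assoc]
    have h4 : a * b * a = (b * a * b)⁻¹ := by
      rw [eq_inv_iff_mul_eq_one]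
      simpa only [mul_assoc] using h3
    rw [h4]
    simp only [mul_inv_rev, ia, ib, mul_assoc]
  · have hi' : i < n := by omega
    simp only [ext, hj, hi', dif_pos]
    have h1 := key ⟨i, hi'⟩ ⟨j, hj⟩
    have h2 : (CoxeterMatrix.A n).M ⟨i, hi'⟩ ⟨j, hj⟩ = 2 := by
      have e1 : ¬ ((⟨i, hi'⟩ : Fin n) = ⟨j, hj⟩) := by
        intro h; have := congrArg Fin.val h; simp at this; omega
      have e2 : ¬ (j + 1 = i ∨ i + 1 = j) := by omega
      simp only [CoxeterMatrix.A, Matrix.of_apply, e1, if_false, e2]
    rw [h2] at h1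
    have sa := ksq ⟨i, hi'⟩
    have sb := ksq ⟨j, hj⟩
    generalize (CoxeterMatrix.A n).simple ⟨i, hi'⟩ = a at *
    generalize (CoxeterMatrix.A n).simple ⟨j, hj⟩ = b at *
    have ia : a⁻¹ = a := by rw [inv_eq_iff_mul_eq_one]; exact sa
    have ib : b⁻¹ = b := by rw [inv_eq_iff_mul_eq_one]; exact sb
    have h4 : a * b = (a * b)⁻¹ := by
      rw [eq_inv_iff_mul_eq_one, ← pow_two]; exact h1
    rw [h4, mul_inv_rev, ia, ib]

theorem K_top (n : ℕ) : K (ext n) n = ⊤ := by
  rw [eq_top_iff, ← (CoxeterMatrix.A n).toCoxeterSystem.subgroup_closure_range_simple]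
  apply Subgroup.closure_mono
  rintro _ ⟨i, rfl⟩
  refine ⟨i, i.2, ?_⟩
  simp only [ext, i.2, dif_pos]
  rfl

theorem card_group (n : ℕ) : Finite (CoxeterMatrix.A n).Group ∧
    Nat.card (CoxeterMatrix.A n).Group ≤ (n + 1).factorial := by
  obtain ⟨h1, h2⟩ := finite_card n (rel n)
  rw [K_top] at h1 h2
  refine ⟨Set.finite_univ_iff.1 (by simpa using h1), ?_⟩
  rw [← Set.ncard_univ]
  simpa using h2

theorem liftable (n : ℕ) : (CoxeterMatrix.A n).IsLiftable
    (fun i : Fin n => Equiv.swap i.castSucc i.succ) := by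
  intro i j
  by_cases hij : i = j
  · subst hij
    have : (CoxeterMatrix.A n).M i i = 1 := by simp [CoxeterMatrix.A]
    rw [this]
    simp
  by_cases hb : (j : ℕ) + 1 = i ∨ (i : ℕ) + 1 = j
  · have h3 : (CoxeterMatrix.A n).M i j = 3 := by
      simp only [CoxeterMatrix.A, Matrix.of_apply, hij, if_false, hb, if_true]
    rw [h3]
    rcases hb with hb | hb
    · have h1 : i.castSucc = j.succ := Fin.ext (by simp; omega)
      have h2 : (Equiv.swap i.castSucc i.succ * Equiv.swap j.castSucc j.succ).IsThreeCycle := by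
        rw [h1, Equiv.swap_comm j.castSucc j.succ]
        apply Equiv.Perm.isThreeCycle_swap_mul_swap_same
        · rw [← h1]; exact Fin.ne_of_lt (by simp [Fin.lt_def])
        · exact Fin.ne_of_gt (by simp [Fin.lt_def])
        · intro h; have := congrArg Fin.val h; simp at this; omega
      rw [← h2.orderOf]; exact pow_orderOf_eq_one _
    · have h1 : j.castSucc = i.succ := Fin.ext (by simp; omega)
      have h2 : (Equiv.swap i.castSucc i.succ * Equiv.swap j.castSucc j.succ).IsThreeCycle := by
        rw [h1, Equiv.swap_comm i.castSucc i.succ]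
        apply Equiv.Perm.isThreeCycle_swap_mul_swap_same
        · exact Fin.ne_of_gt (by simp [Fin.lt_def])
        · rw [← h1]; exact Fin.ne_of_lt (by simp [Fin.lt_def])
        · intro h; have := congrArg Fin.val h; simp at this; omega
      rw [← h2.orderOf]; exact pow_orderOf_eq_one _
  · have h3 : (CoxeterMatrix.A n).M i j = 2 := by
      simp only [CoxeterMatrix.A, Matrix.of_apply, hij, if_false, hb]
    rw [h3]
    have hij' : (i : ℕ) ≠ j := fun h => hij (Fin.ext h)
    have hd : Equiv.Perm.Disjoint (Equiv.swap i.castSucc i.succ)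
        (Equiv.swap j.castSucc j.succ) := by
      rw [Equiv.Perm.disjoint_iff_eq_or_eq]
      intro x
      by_cases hx : x = i.castSucc ∨ x = i.succ
      · right
        apply Equiv.swap_apply_of_ne_of_ne
        · rcases hx with rfl | rfl <;> intro h <;> have := congrArg Fin.val h <;> simp at this <;> omega
        · rcases hx with rfl | rfl <;> intro h <;> have := congrArg Fin.val h <;> simp at this <;> omega
      · left
        rw [not_or] at hx
        exact Equiv.swap_apply_of_ne_of_ne hx.1 hx.2
    rw [hd.commute.mul_pow]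
    simp [pow_two]

theorem main (n : ℕ) :
    ∃ cs : CoxeterSystem (CoxeterMatrix.A n) (Equiv.Perm (Fin (n + 1))),
      ∀ i : Fin n, cs.simple i = Equiv.swap i.castSucc i.succ := by
  let φ : (CoxeterMatrix.A n).Group →* Equiv.Perm (Fin (n + 1)) :=
    (CoxeterMatrix.A n).toCoxeterSystem.lift ⟨_, liftable n⟩
  have hφ : ∀ i, φ ((CoxeterMatrix.A n).simple i) = Equiv.swap i.castSucc i.succ := by
    intro i
    exact (CoxeterMatrix.A n).toCoxeterSystem.lift_apply_simple (liftable n) i
  have hsurj : Function.Surjective φ := by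
    rw [← MonoidHom.mrange_eq_top, eq_top_iff, ← Equiv.Perm.mclosure_swap_castSucc_succ,
      Submonoid.closure_le]
    rintro _ ⟨i, rfl⟩
    exact ⟨_, hφ i⟩
  obtain ⟨hfin, hcard⟩ := card_group n
  have hbij : Function.Bijective φ := by
    refine ⟨?_, hsurj⟩
    have h1 : Nat.card (Equiv.Perm (Fin (n + 1))) = (n + 1).factorial := by
      rw [Nat.card_eq_fintype_card, Fintype.card_perm, Fintype.card_fin]
    have h2 : Nat.card (CoxeterMatrix.A n).Group = Nat.card (Equiv.Perm (Fin (n + 1))) := by
      apply le_antisymm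
      · rw [h1]; exact hcard
      · exact Nat.card_le_card_of_surjective φ hsurj
    exact ((Nat.bijective_iff_surjective_and_card φ).2 ⟨hsurj, h2⟩).1
  refine ⟨⟨(MulEquiv.ofBijective φ hbij).symm⟩, fun i => ?_⟩
  exact hφ i

end H7.CoxA
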