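import Mathlib
import Cfsg.Agent.H7_M24c
import Cfsg.Agent.H7_Hex2
import Cfsg.Agent.H5_GL
import Cfsg.Agent.H5_SL

set_option autoImplicit false
set_option linter.all false

/-!
The pointwise stabilizer of three points in `M24` is `PSL(3, 4)`.
-/

namespace Cfsg.Agent.H7.L34

open Cfsg Cfsg.Agent.H7.Golay Cfsg.Agent.H7.Oct Cfsg.Agent.H7.M24 Cfsg.Agent.H7.Hex

def V4 : List (List (Fin 4)) := [[0, 0, 0], [0, 0, 0], [0, 0, 0], [1, 0, 0], [0, 1, 0], [0, 0, 1], [1, 1, 1], [1, 3, 0], [1, 2, 1], [0, 1, 1], [1, 2, 0], [1, 3, 3], [1, 1, 0], [1, 1, 2], [1, 0, 1], [1, 1, 3], [1, 3, 2], [1, 0, 3], [0, 1, 2], [0, 1, 3], [1, 3, 1], [1, 2, 3], [1, 2, 2], [1, 0, 2]]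

def vv (x : ℕ) (k : Fin 3) : Fin 4 := (V4.getD x []).getD k.val 0

def tbl : List (Fin 3 × Fin 3 × Fin 4 × List ℕ) := [
  (0, 1, 1, [0, 1, 2, 3, 12, 5, 9, 10, 16, 6, 7, 22, 4, 18, 14, 19, 8, 17, 13, 15, 21, 20, 11, 23]),
  (0, 1, 2, [0, 1, 2, 3, 7, 5, 22, 4, 15, 11, 12, 9, 10, 21, 14, 8, 19, 17, 20, 16, 18, 13, 6, 23]),
  (0, 1, 3, [0, 1, 2, 3, 10, 5, 11, 12, 19, 22, 4, 6, 7, 20, 14, 16, 15, 17, 21, 8, 13, 18, 9, 23]),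
  (0, 2, 1, [0, 1, 2, 3, 4, 14, 9, 7, 19, 6, 10, 22, 12, 21, 5, 16, 15, 23, 20, 8, 18, 13, 11, 17]),
  (0, 2, 2, [0, 1, 2, 3, 4, 17, 22, 7, 16, 11, 10, 9, 12, 20, 23, 19, 8, 5, 21, 15, 13, 18, 6, 14]),
  (0, 2, 3, [0, 1, 2, 3, 4, 23, 11, 7, 15, 22, 10, 6, 12, 18, 17, 8, 19, 14, 13, 16, 21, 20, 9, 5]),
  (1, 0, 1, [0, 1, 2, 12, 4, 5, 14, 10, 20, 9, 7, 21, 3, 23, 6, 17, 22, 15, 18, 19, 8, 11, 16, 13]),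
  (1, 0, 2, [0, 1, 2, 10, 4, 5, 20, 12, 14, 9, 3, 15, 7, 16, 8, 11, 13, 21, 18, 19, 6, 17, 23, 22]),
  (1, 0, 3, [0, 1, 2, 7, 4, 5, 8, 3, 6, 9, 12, 17, 10, 22, 20, 21, 23, 11, 18, 19, 14, 15, 13, 16]),
  (1, 2, 1, [0, 1, 2, 3, 4, 9, 14, 7, 20, 5, 10, 17, 12, 16, 6, 21, 13, 11, 19, 18, 8, 15, 23, 22]),
  (1, 2, 2, [0, 1, 2, 3, 4, 19, 20, 7, 14, 18, 10, 21, 12, 22, 8, 17, 23, 15, 9, 5, 6, 11, 13, 16]),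
  (1, 2, 3, [0, 1, 2, 3, 4, 18, 8, 7, 6, 19, 10, 15, 12, 23, 20, 11, 22, 21, 5, 9, 14, 17, 16, 13]),
  (2, 0, 1, [0, 1, 2, 14, 4, 5, 12, 20, 10, 9, 8, 16, 6, 15, 3, 13, 11, 23, 18, 19, 7, 22, 21, 17]),
  (2, 0, 2, [0, 1, 2, 23, 4, 5, 15, 16, 21, 9, 22, 20, 13, 12, 17, 6, 7, 14, 18, 19, 11, 8, 10, 3]),
  (2, 0, 3, [0, 1, 2, 17, 4, 5, 13, 11, 22, 9, 21, 7, 15, 6, 23, 12, 20, 3, 18, 19, 16, 10, 8, 14]),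
  (2, 1, 1, [0, 1, 2, 3, 9, 5, 12, 11, 21, 4, 22, 7, 6, 15, 14, 13, 20, 17, 19, 18, 16, 8, 10, 23]),
  (2, 1, 2, [0, 1, 2, 3, 18, 5, 15, 20, 22, 19, 21, 16, 13, 12, 14, 6, 11, 17, 4, 9, 7, 10, 8, 23]),
  (2, 1, 3, [0, 1, 2, 3, 19, 5, 13, 16, 10, 18, 8, 20, 15, 6, 14, 12, 7, 17, 9, 4, 11, 22, 21, 23])]

theorem tbl_isM24 : (tbl.all fun e => isM24 e.2.2.2 && Nat.beq (e.2.2.2.getD 0 0) 0 && Nat.beq (e.2.2.2.getD 1 0) 1 &&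
    Nat.beq (e.2.2.2.getD 2 0) 2) = true := by decide +kernel

/-- the vector `v + a v_j e_i` -/
def tv (i j : Fin 3) (a : Fin 4) (v : Fin 3 → Fin 4) (k : Fin 3) : Fin 4 := if k = i then add4 (v k) (mul4 a (v j)) else v k

theorem tbl_ok : ∀ i j : Fin 3, ∀ a : Fin 4, i ≠ j → a ≠ 0 → ∃ e ∈ tbl, e.1 = i ∧ e.2.1 = j ∧ e.2.2.1 = a ∧
    ∀ x : Fin 24, 3 ≤ x.val → ∃ c : Fin 4, c ≠ 0 ∧ ∀ k, tv i j a (vv x) k = mul4 c (vv (e.2.2.2.getD x 0) k) := by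
  decide +kernel

theorem vv_ne : ∀ x y : Fin 24, 3 ≤ x.val → 3 ≤ y.val → ∀ c : Fin 4, (∀ k, vv x k = mul4 c (vv y k)) → x = y := by
  decide +kernel

theorem vv_frame : vv 3 = ![1, 0, 0] ∧ vv 4 = ![0, 1, 0] ∧ vv 5 = ![0, 0, 1] ∧ vv 6 = ![1, 1, 1] := by decide +kernel

end Cfsg.Agent.H7.L34
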