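import Mathlib
import Cfsg.Agent.H7_L6

set_option autoImplicit false

/-!
Elements of `Co0` from integer matrices, and their action on packed codes.
-/

namespace Cfsg.Agent.H7.L7

open Cfsg Cfsg.Agent.H7.Golay Cfsg.Agent.H7.Oct Cfsg.Agent.H7.L1 Cfsg.Agent.H7.L2 Cfsg.Agent.H7.L3 Cfsg.Agent.H7.L4
  Cfsg.Agent.H7.L5 Cfsg.Agent.H7.L6

/-! ### the linear map with given columns -/

/-- the linear map with columns `c` -/
def lmap (c : GolayPt → GolayPt → ℤ) (x : GolayPt → ℤ) : GolayPt → ℤ := fun i => ∑ p, x p * c p i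

theorem lmap_add (c : GolayPt → GolayPt → ℤ) (x y : GolayPt → ℤ) : lmap c (x + y) = lmap c x + lmap c y := by
  funext i
  simp only [lmap, Pi.add_apply, add_mul, Finset.sum_add_distrib]

theorem lmap_neg (c : GolayPt → GolayPt → ℤ) (x : GolayPt → ℤ) : lmap c (-x) = -lmap c x := by
  funext i
  simp only [lmap, Pi.neg_apply, neg_mul, Finset.sum_neg_distrib]

theorem lmap_zero (c : GolayPt → GolayPt → ℤ) : lmap c 0 = 0 := by
  funext i
  simp [lmap]

theorem dot_lmap (c : GolayPt → GolayPt → ℤ) (hc : ∀ p q, dotInt (c p) (c q) = if p = q then 64 else 0)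
    (x y : GolayPt → ℤ) : dotInt (lmap c x) (lmap c y) = 64 * dotInt x y := by
  have h1 : dotInt (lmap c x) (lmap c y) = ∑ p, ∑ q, x p * y q * dotInt (c p) (c q) := by
    have h2 : ∀ i, lmap c x i * lmap c y i = ∑ p, ∑ q, x p * y q * (c p i * c q i) := by
      intro i
      rw [lmap, lmap, Finset.sum_mul_sum]
      apply Finset.sum_congr rfl
      intro p _
      apply Finset.sum_congr rfl
      intro q _
      ring
    have h3 : dotInt (lmap c x) (lmap c y) = ∑ i, ∑ p, ∑ q, x p * y q * (c p i * c q i) :=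
      Finset.sum_congr rfl fun i _ => h2 i
    rw [h3, Finset.sum_comm]
    apply Finset.sum_congr rfl
    intro p _
    rw [Finset.sum_comm]
    apply Finset.sum_congr rfl
    intro q _
    rw [dotInt, Finset.mul_sum]
  rw [h1, dotInt, Finset.mul_sum]
  apply Finset.sum_congr rfl
  intro p _
  simp only [hc, mul_ite, mul_zero, Finset.sum_ite_eq, Finset.mem_univ, if_true]
  ring

theorem norm_lmap (c : GolayPt → GolayPt → ℤ) (hc : ∀ p q, dotInt (c p) (c q) = if p = q then 64 else 0)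
    (x : GolayPt → ℤ) : sqNorm (lmap c x) = 64 * sqNorm x := by
  rw [← dotInt_self, ← dotInt_self, dot_lmap c hc]

theorem finite_norm (n : ℤ) : {x : leechLattice | sqNorm (x : GolayPt → ℤ) = n}.Finite := by
  have h1 : {x : GolayPt → ℤ | ∀ p, x p ∈ Set.Icc (-n) n}.Finite :=
    Set.Finite.pi' fun _ => Set.finite_Icc _ _
  have h2 : {x : leechLattice | sqNorm (x : GolayPt → ℤ) = n} ⊆ (fun x : leechLattice => (x : GolayPt → ℤ)) ⁻¹'
      {x : GolayPt → ℤ | ∀ p, x p ∈ Set.Icc (-n) n} := by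
    intro x hx p
    have h3 := sq_one (x := (x : GolayPt → ℤ)) p
    rw [hx] at h3
    have h4 : |(x : GolayPt → ℤ) p| ≤ (x : GolayPt → ℤ) p ^ 2 := by
      rw [← sq_abs]
      have := abs_nonneg ((x : GolayPt → ℤ) p)
      rcases eq_or_lt_of_le this with h | h
      · rw [← h]; norm_num
      · nlinarith
    have h5 := abs_le.1 (h4.trans h3)
    exact ⟨h5.1, h5.2⟩
  exact (h1.preimage Subtype.val_injective.injOn).subset h2

/-- elements of `Co0` from linear maps -/
theorem exists_of_lmap (c : GolayPt → GolayPt → ℤ) (hc : ∀ p q, dotInt (c p) (c q) = if p = q then 64 else 0)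
    (hg : ∀ x ∈ genV, ∃ y ∈ leechLattice, lmap c x = (8 : ℤ) • y) :
    ∃ g : Co0, ∀ x : leechLattice, lmap c x = (8 : ℤ) • ((g • x : leechLattice) : GolayPt → ℤ) := by
  let A : AddSubgroup (GolayPt → ℤ) :=
    { carrier := {x | ∃ y ∈ leechLattice, lmap c x = (8 : ℤ) • y}
      zero_mem' := ⟨0, zero_mem _, by rw [lmap_zero, smul_zero]⟩
      add_mem' := by
        rintro x y ⟨a, ha, hxa⟩ ⟨b, hb, hyb⟩
        exact ⟨a + b, add_mem ha hb, by rw [lmap_add, hxa, hyb, smul_add]⟩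
      neg_mem' := by
        rintro x ⟨a, ha, hxa⟩
        exact ⟨-a, neg_mem ha, by rw [lmap_neg, hxa, smul_neg]⟩ }
  have hA : leechLattice ≤ A := leech_le hg
  choose f hf1 hf2 using fun x : leechLattice => hA x.2
  have hinj8 : ∀ a b : GolayPt → ℤ, (8 : ℤ) • a = (8 : ℤ) • b → a = b := by
    intro a b h
    funext p
    have := congrFun h p
    simp only [Pi.smul_apply, smul_eq_mul] at this
    omega
  let F : leechLattice → leechLattice := fun x => ⟨f x, hf1 x⟩
  have hFadd : ∀ x y, F (x + y) = F x + F y := by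
    intro x y
    apply Subtype.ext
    apply hinj8
    show (8 : ℤ) • f (x + y) = (8 : ℤ) • (f x + f y)
    rw [← hf2, smul_add, ← hf2, ← hf2, ← lmap_add]
    rfl
  have hFn : ∀ x : leechLattice, sqNorm (F x : GolayPt → ℤ) = sqNorm (x : GolayPt → ℤ) := by
    intro x
    have h1 := norm_lmap c hc x
    rw [hf2] at h1
    have h2 : sqNorm ((8 : ℤ) • f x) = 64 * sqNorm (f x) := by
      simp only [sqNorm, Pi.smul_apply, smul_eq_mul, Finset.mul_sum]
      apply Finset.sum_congr rfl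
      intro i _
      ring
    rw [h2] at h1
    show sqNorm (f x) = _
    omega
  have hFinj : Function.Injective F := by
    intro x y h
    have h1 : F (x - y) = 0 := by
      have h2 := hFadd (x - y) y
      rw [sub_add_cancel, h] at h2
      have : F (x - y) + F y = 0 + F y := by rw [← h2, zero_add]
      exact add_right_cancel this
    have h2 := hFn (x - y)
    rw [h1] at h2
    have h3 : ((0 : leechLattice) : GolayPt → ℤ) = 0 := rfl
    rw [h3, sqNorm_zero] at h2
    have h4 := sqNorm_eq_zero.1 h2.symm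
    have h5 : x - y = 0 := Subtype.ext h4
    exact sub_eq_zero.1 h5
  have hFsurj : Function.Surjective F := by
    intro y
    let S := {x : leechLattice | sqNorm (x : GolayPt → ℤ) = sqNorm (y : GolayPt → ℤ)}
    have hS : S.Finite := finite_norm _
    have hmaps : Set.MapsTo F S S := by
      intro x hx
      show sqNorm (F x : GolayPt → ℤ) = _
      rw [hFn]; exact hx
    obtain ⟨x, _, hx⟩ := Set.surj_on_of_inj_on_of_ncard_le (s := S) (t := S) (fun x _ => F x) hmaps
      (fun _ _ _ _ h => hFinj h) le_rfl hS y (show y ∈ S from rfl)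
    exact ⟨x, hx.symm⟩
  let E : Equiv.Perm leechLattice := Equiv.ofBijective F ⟨hFinj, hFsurj⟩
  refine ⟨⟨E, fun v w => hFadd v w, fun v => hFn v⟩, fun x => ?_⟩
  exact hf2 x

/-! ### packed version -/

/-- image of a packed vector under the map with columns `c` (and `w` their sum) -/
def act24 (c0 c1 c2 c3 c4 c5 c6 c7 c8 c9 c10 c11 c12 c13 c14 c15 c16 c17 c18 c19 c20 c21 c22 c23 w m : ℕ) : ℕ :=
  Nat.shiftRight (Nat.sub (Nat.add (Nat.add (Nat.mul (Nat.land m 65535) c0) (Nat.add (Nat.mul (Nat.land (Nat.shiftRight m 16) 65535) c1) (Nat.add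
  (Nat.mul (Nat.land (Nat.shiftRight m 32) 65535) c2) (Nat.add (Nat.mul (Nat.land (Nat.shiftRight m 48) 65535)
  c3) (Nat.add (Nat.mul (Nat.land (Nat.shiftRight m 64) 65535) c4) (Nat.add (Nat.mul (Nat.land (Nat.shiftRight m
  80) 65535) c5) (Nat.add (Nat.mul (Nat.land (Nat.shiftRight m 96) 65535) c6) (Nat.add (Nat.mul (Nat.land
  (Nat.shiftRight m 112) 65535) c7) (Nat.add (Nat.mul (Nat.land (Nat.shiftRight m 128) 65535) c8) (Nat.add
  (Nat.mul (Nat.land (Nat.shiftRight m 144) 65535) c9) (Nat.add (Nat.mul (Nat.land (Nat.shiftRight m 160) 65535)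
  c10) (Nat.add (Nat.mul (Nat.land (Nat.shiftRight m 176) 65535) c11) (Nat.add (Nat.mul (Nat.land
  (Nat.shiftRight m 192) 65535) c12) (Nat.add (Nat.mul (Nat.land (Nat.shiftRight m 208) 65535) c13) (Nat.add
  (Nat.mul (Nat.land (Nat.shiftRight m 224) 65535) c14) (Nat.add (Nat.mul (Nat.land (Nat.shiftRight m 240)
  65535) c15) (Nat.add (Nat.mul (Nat.land (Nat.shiftRight m 256) 65535) c16) (Nat.add (Nat.mul (Nat.land
  (Nat.shiftRight m 272) 65535) c17) (Nat.add (Nat.mul (Nat.land (Nat.shiftRight m 288) 65535) c18) (Nat.add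
  (Nat.mul (Nat.land (Nat.shiftRight m 304) 65535) c19) (Nat.add (Nat.mul (Nat.land (Nat.shiftRight m 320)
  65535) c20) (Nat.add (Nat.mul (Nat.land (Nat.shiftRight m 336) 65535) c21) (Nat.add (Nat.mul (Nat.land
  (Nat.shiftRight m 352) 65535) c22) (Nat.mul (Nat.land (Nat.shiftRight m 368) 65535) c23))))))))))))))))))))))))
  961977720519282318450392372934001405174755212218581134793885243713941479124064041783212420963086366449845193934400)
    (Nat.mul 8 (Nat.add w (Nat.mul (tot m)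
  601236075324551449031495233083750878234222007636613209246178277321213424452540026114507763101928979031153246209)))) 3

/-- the exactness test for the image -/
def act24ok (c0 c1 c2 c3 c4 c5 c6 c7 c8 c9 c10 c11 c12 c13 c14 c15 c16 c17 c18 c19 c20 c21 c22 c23 w m : ℕ) : Bool :=
  Nat.beq (Nat.add (Nat.mul 8 (act24 c0 c1 c2 c3 c4 c5 c6 c7 c8 c9 c10 c11 c12 c13 c14 c15 c16 c17 c18 c19 c20 c21 c22 c23 w m))
    (Nat.mul 8 (Nat.add w (Nat.mul (tot m) ones))))
    (Nat.add (Nat.add (Nat.mul (Nat.land m 65535) c0) (Nat.add (Nat.mul (Nat.land (Nat.shiftRight m 16) 65535) c1) (Nat.add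
  (Nat.mul (Nat.land (Nat.shiftRight m 32) 65535) c2) (Nat.add (Nat.mul (Nat.land (Nat.shiftRight m 48) 65535)
  c3) (Nat.add (Nat.mul (Nat.land (Nat.shiftRight m 64) 65535) c4) (Nat.add (Nat.mul (Nat.land (Nat.shiftRight m
  80) 65535) c5) (Nat.add (Nat.mul (Nat.land (Nat.shiftRight m 96) 65535) c6) (Nat.add (Nat.mul (Nat.land
  (Nat.shiftRight m 112) 65535) c7) (Nat.add (Nat.mul (Nat.land (Nat.shiftRight m 128) 65535) c8) (Nat.add
  (Nat.mul (Nat.land (Nat.shiftRight m 144) 65535) c9) (Nat.add (Nat.mul (Nat.land (Nat.shiftRight m 160) 65535)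
  c10) (Nat.add (Nat.mul (Nat.land (Nat.shiftRight m 176) 65535) c11) (Nat.add (Nat.mul (Nat.land
  (Nat.shiftRight m 192) 65535) c12) (Nat.add (Nat.mul (Nat.land (Nat.shiftRight m 208) 65535) c13) (Nat.add
  (Nat.mul (Nat.land (Nat.shiftRight m 224) 65535) c14) (Nat.add (Nat.mul (Nat.land (Nat.shiftRight m 240)
  65535) c15) (Nat.add (Nat.mul (Nat.land (Nat.shiftRight m 256) 65535) c16) (Nat.add (Nat.mul (Nat.land
  (Nat.shiftRight m 272) 65535) c17) (Nat.add (Nat.mul (Nat.land (Nat.shiftRight m 288) 65535) c18) (Nat.add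
  (Nat.mul (Nat.land (Nat.shiftRight m 304) 65535) c19) (Nat.add (Nat.mul (Nat.land (Nat.shiftRight m 320)
  65535) c20) (Nat.add (Nat.mul (Nat.land (Nat.shiftRight m 336) 65535) c21) (Nat.add (Nat.mul (Nat.land
  (Nat.shiftRight m 352) 65535) c22) (Nat.mul (Nat.land (Nat.shiftRight m 368) 65535) c23))))))))))))))))))))))))
    (Nat.mul 1600 ones))

/-- inner product of lanes -/
def ldot (a b : ℕ) : ℕ :=
  Nat.add (Nat.mul (dg a 0) (dg b 0)) (Nat.add (Nat.mul (dg a 1) (dg b 1)) (Nat.add (Nat.mul (dg a 2) (dg b 2))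
  (Nat.add (Nat.mul (dg a 3) (dg b 3)) (Nat.add (Nat.mul (dg a 4) (dg b 4)) (Nat.add (Nat.mul (dg a 5) (dg b 5))
  (Nat.add (Nat.mul (dg a 6) (dg b 6)) (Nat.add (Nat.mul (dg a 7) (dg b 7)) (Nat.add (Nat.mul (dg a 8) (dg b 8))
  (Nat.add (Nat.mul (dg a 9) (dg b 9)) (Nat.add (Nat.mul (dg a 10) (dg b 10)) (Nat.add (Nat.mul (dg a 11) (dg b
  11)) (Nat.add (Nat.mul (dg a 12) (dg b 12)) (Nat.add (Nat.mul (dg a 13) (dg b 13)) (Nat.add (Nat.mul (dg a 14)
  (dg b 14)) (Nat.add (Nat.mul (dg a 15) (dg b 15)) (Nat.add (Nat.mul (dg a 16) (dg b 16)) (Nat.add (Nat.mul (dg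
  a 17) (dg b 17)) (Nat.add (Nat.mul (dg a 18) (dg b 18)) (Nat.add (Nat.mul (dg a 19) (dg b 19)) (Nat.add
  (Nat.mul (dg a 20) (dg b 20)) (Nat.add (Nat.mul (dg a 21) (dg b 21)) (Nat.add (Nat.mul (dg a 22) (dg b 22))
  (Nat.mul (dg a 23) (dg b 23))))))))))))))))))))))))

theorem ldot_eq {x y : GolayPt → ℤ} (hx : Bd x) (hy : Bd y) :
    (ldot (encL x) (encL y) : ℤ) = dotInt x y + 8 * ∑ p, x p + 8 * ∑ p, y p + 1536 := by
  have h1 : ldot (encL x) (encL y) = ∑ i ∈ Finset.range 24, dg (encL x) i * dg (encL y) i := by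
    simp only [Finset.sum_range_succ, Finset.sum_range_zero, zero_add]
    unfold ldot
    simp only [Nat.add_eq, Nat.mul_eq]
    ring
  rw [h1]
  push_cast
  rw [dotInt, sum_pt, sum_pt, sum_pt]
  have h2 : ∀ i ∈ Finset.range 24, (dg (encL x) i : ℤ) * (dg (encL y) i : ℤ) =
      x (pt i) * y (pt i) + 8 * x (pt i) + 8 * y (pt i) + 64 := by
    intro i hi
    rw [dg_enc hx (Finset.mem_range.1 hi), dg_enc hy (Finset.mem_range.1 hi)]
    ring
  rw [Finset.sum_congr rfl h2]
  simp only [Finset.sum_add_distrib, Finset.mul_sum, Finset.sum_const, Finset.card_range]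
  norm_num

/-- gram test: `d` is zero or 64 -/
def gram (a b d : ℕ) : Bool := Nat.beq (Nat.add (ldot a b) 1536) (Nat.add d (Nat.mul 8 (Nat.add (tot a) (tot b))))

theorem gram_spec {a b d : ℕ} (ha : okc a = true) (hb : okc b = true) (h : gram a b d = true) :
    dotInt (dec a) (dec b) = d := by
  obtain ⟨ha1, ha2⟩ := okc_spec ha
  obtain ⟨hb1, hb2⟩ := okc_spec hb
  have h1 := ldot_eq ha2 hb2
  have h2 := tot_enc ha2
  have h3 := tot_enc hb2
  rw [ha1, hb1] at h1
  rw [ha1] at h2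
  rw [hb1] at h3
  have h4 : ldot a b + 1536 = d + 8 * (tot a + tot b) := Nat.eq_of_beq_eq_true h
  have h5 : ((ldot a b + 1536 : ℕ) : ℤ) = ((d + 8 * (tot a + tot b) : ℕ) : ℤ) := by rw [h4]
  push_cast at h5
  omega

theorem lin_zsmul (a : ℤ) (x : GolayPt → ℤ) : lin (a • x) = a * lin x := by
  rw [lin, lin, Finset.mul_sum]
  apply Finset.sum_congr rfl
  intro i _
  rw [Pi.smul_apply, smul_eq_mul]; ring

theorem lin_inj_aux (n : ℕ) (f : ℕ → ℤ) (hf : ∀ i < n, |f i| < 32768) (h : ∑ i ∈ Finset.range n, f i * 65536 ^ i = 0) :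
    ∀ i < n, f i = 0 := by
  induction n generalizing f with
  | zero => intro i hi; omega
  | succ n ih =>
    rw [Finset.sum_range_succ', pow_zero, mul_one] at h
    have h1 : ∑ i ∈ Finset.range n, f (i + 1) * 65536 ^ (i + 1) = 65536 * ∑ i ∈ Finset.range n, f (i + 1) * 65536 ^ i := by
      rw [Finset.mul_sum]
      apply Finset.sum_congr rfl
      intro i _
      ring
    rw [h1] at h
    have h0 := hf 0 (by omega)
    have h2 : f 0 = 0 := by
      rw [abs_lt] at h0
      omega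
    have h3 : ∑ i ∈ Finset.range n, f (i + 1) * 65536 ^ i = 0 := by omega
    have h4 := ih (fun i => f (i + 1)) (fun i hi => hf _ (by omega)) h3
    intro i hi
    cases i with
    | zero => exact h2
    | succ i => exact h4 i (by omega)

theorem lin_inj {x : GolayPt → ℤ} (hx : ∀ p, |x p| < 32768) (h : lin x = 0) : x = 0 := by
  have := lin_inj_aux 24 (fun i => x (pt i)) (fun i _ => hx _) h
  funext p
  have h1 := this (ix p) (ix_lt p)
  simp only [pt_ix] at h1
  exact h1

theorem lin_lmap (c : GolayPt → GolayPt → ℤ) (x : GolayPt → ℤ) : lin (lmap c x) = ∑ i ∈ Finset.range 24, x (pt i) * lin (c (pt i)) := by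
  simp only [lin, lmap]
  simp only [sum_pt, Finset.sum_mul, Finset.mul_sum]
  rw [Finset.sum_comm]
  apply Finset.sum_congr rfl
  intro j _
  apply Finset.sum_congr rfl
  intro i _
  ring

/-- the integer identity behind the packed action -/
theorem act_int (c : GolayPt → GolayPt → ℤ) (hc : ∀ p, Bd (c p)) {x : GolayPt → ℤ} (hx : Bd x) :
    (∑ i ∈ Finset.range 24, (dg (encL x) i : ℤ) * (encL (c (pt i)) : ℤ)) + 1600 * (ones : ℤ) =
      8 * (∑ i ∈ Finset.range 24, (encL (c (pt i)) : ℤ) + (tot (encL x) : ℤ) * ones) + (8 * (z0 : ℤ) + lin (lmap c x)) := by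
  have hz : (z0 : ℤ) = 8 * ones := by
    have : z0 = 8 * ones := by decide +kernel
    rw [this]; push_cast; ring
  have h1 : ∀ i ∈ Finset.range 24, (dg (encL x) i : ℤ) * (encL (c (pt i)) : ℤ) =
      x (pt i) * z0 + x (pt i) * lin (c (pt i)) + 8 * (encL (c (pt i)) : ℤ) := by
    intro i hi
    rw [dg_enc hx (Finset.mem_range.1 hi), enc_cast (fun p => (hc (pt i) p).1)]
    ring
  rw [Finset.sum_congr rfl h1, Finset.sum_add_distrib, Finset.sum_add_distrib, ← lin_lmap, tot_enc hx,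
    ← Finset.sum_mul, ← sum_pt, ← Finset.mul_sum, hz]
  ring


/-- the packed action for a list of columns -/
def actL (cs : List ℕ) (w m : ℕ) : ℕ :=
  act24 (cs.getD 0 0) (cs.getD 1 0) (cs.getD 2 0) (cs.getD 3 0) (cs.getD 4 0) (cs.getD 5 0) (cs.getD 6 0) (cs.getD 7
  0) (cs.getD 8 0) (cs.getD 9 0) (cs.getD 10 0) (cs.getD 11 0) (cs.getD 12 0) (cs.getD 13 0) (cs.getD 14 0)
  (cs.getD 15 0) (cs.getD 16 0) (cs.getD 17 0) (cs.getD 18 0) (cs.getD 19 0) (cs.getD 20 0) (cs.getD 21 0)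
  (cs.getD 22 0) (cs.getD 23 0) w m

/-- the exactness test for a list of columns -/
def actLok (cs : List ℕ) (w m : ℕ) : Bool :=
  act24ok (cs.getD 0 0) (cs.getD 1 0) (cs.getD 2 0) (cs.getD 3 0) (cs.getD 4 0) (cs.getD 5 0) (cs.getD 6 0) (cs.getD 7
  0) (cs.getD 8 0) (cs.getD 9 0) (cs.getD 10 0) (cs.getD 11 0) (cs.getD 12 0) (cs.getD 13 0) (cs.getD 14 0)
  (cs.getD 15 0) (cs.getD 16 0) (cs.getD 17 0) (cs.getD 18 0) (cs.getD 19 0) (cs.getD 20 0) (cs.getD 21 0)
  (cs.getD 22 0) (cs.getD 23 0) w m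

/-- the test for a matrix to define an element of `Co0` -/
def isCo0 (cs : List ℕ) (w : ℕ) : Bool :=
  (((List.range 24).all fun i => okc (cs.getD i 0)) && Nat.beq w cs.sum && Nat.beq cs.length 24) &&
  ((List.range 24).all fun i => (List.range 24).all fun j =>
    gram (cs.getD i 0) (cs.getD j 0) (bif Nat.beq i j then 64 else 0)) &&
  (genC.all fun m => actLok cs w m && (okc (actL cs w m) && isLeech (actL cs w m)))

/-- columns of a list -/
def col (cs : List ℕ) (p : GolayPt) : GolayPt → ℤ := dec (cs.getD (ix p) 0)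

/-- the packed matrix represents the group element -/
def RepM (g : Co0) (cs : List ℕ) : Prop :=
  ∀ x : leechLattice, lmap (col cs) x = (8 : ℤ) • ((g • x : leechLattice) : GolayPt → ℤ)

theorem sum_list (cs : List ℕ) : cs.sum = ∑ i ∈ Finset.range cs.length, cs.getD i 0 := by
  induction cs with
  | nil => simp
  | cons a l ih =>
    rw [List.sum_cons, List.length_cons, Finset.sum_range_succ', ih, add_comm]
    simp

theorem act_sum (cs : List ℕ) (w m : ℕ) :
    actL cs w m = ((∑ i ∈ Finset.range 24, dg m i * cs.getD i 0) + 1600 * ones - 8 * (w + tot m * ones)) / 8 ∧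
      actLok cs w m = Nat.beq (8 * actL cs w m + 8 * (w + tot m * ones))
        ((∑ i ∈ Finset.range 24, dg m i * cs.getD i 0) + 1600 * ones) := by
  have e0 : Nat.land m 65535 = dg m 0 := rfl
  have e1 : Nat.land (Nat.shiftRight m 16) 65535 = dg m 1 := rfl
  have e2 : Nat.land (Nat.shiftRight m 32) 65535 = dg m 2 := rfl
  have e3 : Nat.land (Nat.shiftRight m 48) 65535 = dg m 3 := rfl
  have e4 : Nat.land (Nat.shiftRight m 64) 65535 = dg m 4 := rfl
  have e5 : Nat.land (Nat.shiftRight m 80) 65535 = dg m 5 := rfl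
  have e6 : Nat.land (Nat.shiftRight m 96) 65535 = dg m 6 := rfl
  have e7 : Nat.land (Nat.shiftRight m 112) 65535 = dg m 7 := rfl
  have e8 : Nat.land (Nat.shiftRight m 128) 65535 = dg m 8 := rfl
  have e9 : Nat.land (Nat.shiftRight m 144) 65535 = dg m 9 := rfl
  have e10 : Nat.land (Nat.shiftRight m 160) 65535 = dg m 10 := rfl
  have e11 : Nat.land (Nat.shiftRight m 176) 65535 = dg m 11 := rfl
  have e12 : Nat.land (Nat.shiftRight m 192) 65535 = dg m 12 := rfl
  have e13 : Nat.land (Nat.shiftRight m 208) 65535 = dg m 13 := rfl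
  have e14 : Nat.land (Nat.shiftRight m 224) 65535 = dg m 14 := rfl
  have e15 : Nat.land (Nat.shiftRight m 240) 65535 = dg m 15 := rfl
  have e16 : Nat.land (Nat.shiftRight m 256) 65535 = dg m 16 := rfl
  have e17 : Nat.land (Nat.shiftRight m 272) 65535 = dg m 17 := rfl
  have e18 : Nat.land (Nat.shiftRight m 288) 65535 = dg m 18 := rfl
  have e19 : Nat.land (Nat.shiftRight m 304) 65535 = dg m 19 := rfl
  have e20 : Nat.land (Nat.shiftRight m 320) 65535 = dg m 20 := rfl
  have e21 : Nat.land (Nat.shiftRight m 336) 65535 = dg m 21 := rfl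
  have e22 : Nat.land (Nat.shiftRight m 352) 65535 = dg m 22 := rfl
  have e23 : Nat.land (Nat.shiftRight m 368) 65535 = dg m 23 := rfl
  have hK : (961977720519282318450392372934001405174755212218581134793885243713941479124064041783212420963086366449845193934400 : ℕ) = 1600 * ones := by decide +kernel
  have ho : (601236075324551449031495233083750878234222007636613209246178277321213424452540026114507763101928979031153246209 : ℕ) = ones := rfl
  have h8 : ∀ a : ℕ, Nat.shiftRight a 3 = a / 8 := fun a => Nat.shiftRight_eq_div_pow a 3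
  have hS : ∑ i ∈ Finset.range 24, dg m i * cs.getD i 0 = Nat.add (Nat.mul (dg m 0) (cs.getD 0 0)) (Nat.add (Nat.mul (dg m 1) (cs.getD 1 0)) (Nat.add (Nat.mul (dg m 2) (cs.getD 2 0)) (Nat.add (Nat.mul (dg m 3) (cs.getD 3 0)) (Nat.add (Nat.mul (dg m 4) (cs.getD 4 0)) (Nat.add (Nat.mul (dg m 5) (cs.getD 5 0)) (Nat.add (Nat.mul (dg m 6) (cs.getD 6 0)) (Nat.add (Nat.mul (dg m 7) (cs.getD 7 0)) (Nat.add (Nat.mul (dg m 8) (cs.getD 8 0)) (Nat.add (Nat.mul (dg m 9) (cs.getD 9 0)) (Nat.add (Nat.mul (dg m 10) (cs.getD 10 0)) (Nat.add (Nat.mul (dg m 11) (cs.getD 11 0)) (Nat.add (Nat.mul (dg m 12) (cs.getD 12 0)) (Nat.add (Nat.mul (dg m 13) (cs.getD 13 0)) (Nat.add (Nat.mul (dg m 14) (cs.getD 14 0)) (Nat.add (Nat.mul (dg m 15) (cs.getD 15 0)) (Nat.add (Nat.mul (dg m 16) (cs.getD 16 0)) (Nat.add (Nat.mul (dg m 17) (cs.getD 17 0)) (Nat.add (Nat.mul (dg m 18) (cs.getD 18 0)) (Nat.add (Nat.mul (dg m 19) (cs.getD 19 0)) (Nat.add (Nat.mul (dg m 20) (cs.getD 20 0))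 (Nat.add (Nat.mul (dg m 21) (cs.getD 21 0)) (Nat.add (Nat.mul (dg m 22) (cs.getD 22 0)) (Nat.mul (dg m 23) (cs.getD 23 0)))))))))))))))))))))))) := by
    simp only [Finset.sum_range_succ, Finset.sum_range_zero, zero_add, Nat.add_eq, Nat.mul_eq]
    ring
  rw [hS]
  constructor
  · unfold actL act24
    rw [hK, ho, h8]
    rfl
  · unfold actLok act24ok
    rfl

theorem Bd.abs {x : GolayPt → ℤ} (h : Bd x) (p : GolayPt) : |x p| ≤ 8 := abs_le.2 (h p)

theorem lmap_bound (c : GolayPt → GolayPt → ℤ) (hc : ∀ p, Bd (c p)) {x : GolayPt → ℤ} (hx : Bd x) (i : GolayPt) :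
    |lmap c x i| ≤ 1536 := by
  rw [lmap]
  calc |∑ p, x p * c p i| ≤ ∑ p, |x p * c p i| := Finset.abs_sum_le_sum_abs _ _
    _ ≤ ∑ _p : GolayPt, (64 : ℤ) := by
        apply Finset.sum_le_sum
        intro p _
        rw [abs_mul]
        have h1 := Bd.abs hx p
        have h2 := Bd.abs (hc p) i
        have h3 := abs_nonneg (x p)
        have h4 := abs_nonneg (c p i)
        nlinarith
    _ = 1536 := by
        rw [Finset.sum_const]
        have h8 : (Finset.univ : Finset GolayPt).card = 24 := rfl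
        rw [h8]; norm_num

theorem col_pt (cs : List ℕ) {i : ℕ} (hi : i < 24) : col cs (pt i) = dec (cs.getD i 0) := by
  rw [col, ix_pt i hi]

/-- consequences of the test -/
structure MatOK (cs : List ℕ) (w : ℕ) : Prop where
  okcol : ∀ i < 24, okc (cs.getD i 0) = true
  hw : w = ∑ i ∈ Finset.range 24, cs.getD i 0

theorem MatOK.bd {cs : List ℕ} {w : ℕ} (h : MatOK cs w) (p : GolayPt) : Bd (col cs p) :=
  (okc_spec (h.okcol _ (ix_lt p))).2

theorem MatOK.enc {cs : List ℕ} {w : ℕ} (h : MatOK cs w) {i : ℕ} (hi : i < 24) : encL (col cs (pt i)) = cs.getD i 0 := by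
  rw [col_pt cs hi]
  exact (okc_spec (h.okcol _ hi)).1

theorem MatOK.int {cs : List ℕ} {w : ℕ} (h : MatOK cs w) {x : GolayPt → ℤ} (hx : Bd x) :
    (((∑ i ∈ Finset.range 24, dg (encL x) i * cs.getD i 0) + 1600 * ones : ℕ) : ℤ) =
      8 * ((w : ℤ) + (tot (encL x) : ℤ) * ones) + (8 * (z0 : ℤ) + lin (lmap (col cs) x)) := by
  have h1 := act_int (col cs) h.bd hx
  have h2 : ∀ i ∈ Finset.range 24, (encL (col cs (pt i)) : ℤ) = (cs.getD i 0 : ℤ) := fun i hi => by
    rw [h.enc (Finset.mem_range.1 hi)]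
  have h3 : (w : ℤ) = ∑ i ∈ Finset.range 24, (encL (col cs (pt i)) : ℤ) := by
    rw [Finset.sum_congr rfl h2, h.hw]
    push_cast
    rfl
  have h4 : ((∑ i ∈ Finset.range 24, dg (encL x) i * cs.getD i 0 : ℕ) : ℤ) =
      ∑ i ∈ Finset.range 24, (dg (encL x) i : ℤ) * (encL (col cs (pt i)) : ℤ) := by
    rw [Nat.cast_sum]
    refine Finset.sum_congr rfl fun i hi => ?_
    rw [h2 i hi, Nat.cast_mul]
  have h5 : ((1600 * ones : ℕ) : ℤ) = 1600 * (ones : ℤ) := by rw [Nat.cast_mul]; rfl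
  rw [h3, ← h1, Nat.cast_add, h4, h5]

/-- the action on codes of small vectors whose image is small -/
theorem MatOK.act {cs : List ℕ} {w : ℕ} (h : MatOK cs w) {x y : GolayPt → ℤ} (hx : Bd x) (hy : Bd y)
    (hxy : lmap (col cs) x = (8 : ℤ) • y) : actL cs w (encL x) = encL y := by
  have h1 := h.int hx
  rw [hxy, lin_zsmul] at h1
  have h2 := enc_cast (fun p => (hy p).1)
  have h3 : 8 * (w + tot (encL x) * ones) + 8 * encL y =
      (∑ i ∈ Finset.range 24, dg (encL x) i * cs.getD i 0) + 1600 * ones := by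
    have h4 : ((8 * (w + tot (encL x) * ones) + 8 * encL y : ℕ) : ℤ) =
      (((∑ i ∈ Finset.range 24, dg (encL x) i * cs.getD i 0) + 1600 * ones : ℕ) : ℤ) := by
      rw [h1]
      push_cast
      rw [h2]
      ring
    exact_mod_cast h4
  rw [(act_sum cs w _).1, ← h3]
  omega

/-- the image of a generator, from the exactness test -/
theorem MatOK.of_ok {cs : List ℕ} {w : ℕ} (h : MatOK cs w) {x : GolayPt → ℤ} (hx : Bd x)
    (hok : actLok cs w (encL x) = true) (hr : okc (actL cs w (encL x)) = true) :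
    lmap (col cs) x = (8 : ℤ) • dec (actL cs w (encL x)) := by
  rw [(act_sum cs w _).2] at hok
  have h1 := Nat.eq_of_beq_eq_true hok
  have h2 := h.int hx
  obtain ⟨h3, h4⟩ := okc_spec hr
  have h5 := enc_cast (fun p => (h4 p).1)
  rw [h3] at h5
  set r := actL cs w (encL x) with hrdef
  have h6 : ((8 * r + 8 * (w + tot (encL x) * ones) : ℕ) : ℤ) =
      (((∑ i ∈ Finset.range 24, dg (encL x) i * cs.getD i 0) + 1600 * ones : ℕ) : ℤ) := by rw [h1]
  rw [h2] at h6
  push_cast at h6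
  have h7 : lin (lmap (col cs) x - (8 : ℤ) • dec r) = 0 := by
    rw [lin_sub, lin_zsmul]
    linarith
  have h8 := lin_inj (fun p => ?_) h7
  · exact sub_eq_zero.1 h8
  · rw [Pi.sub_apply, Pi.smul_apply, smul_eq_mul]
    have h9 := lmap_bound (col cs) h.bd hx p
    have h10 := Bd.abs h4 p
    rw [abs_le] at h9 h10
    rw [abs_lt]
    constructor <;> linarith

theorem isCo0_spec {cs : List ℕ} {w : ℕ} (h : isCo0 cs w = true) : MatOK cs w ∧ ∃ g : Co0, RepM g cs := by
  rw [isCo0, Bool.and_eq_true, Bool.and_eq_true, Bool.and_eq_true, Bool.and_eq_true] at h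
  obtain ⟨⟨⟨⟨h1, h2⟩, h3⟩, h4⟩, h5⟩ := h
  have hM : MatOK cs w := by
    refine ⟨fun i hi => List.all_eq_true.1 h1 i (List.mem_range.2 hi), ?_⟩
    rw [Nat.eq_of_beq_eq_true h2, sum_list, Nat.eq_of_beq_eq_true h3]
  refine ⟨hM, exists_of_lmap (col cs) ?_ ?_⟩
  · intro p q
    have h6 := List.all_eq_true.1 (List.all_eq_true.1 h4 (ix p) (List.mem_range.2 (ix_lt p))) (ix q)
      (List.mem_range.2 (ix_lt q))
    have h7 := gram_spec (hM.okcol _ (ix_lt p)) (hM.okcol _ (ix_lt q)) h6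
    rw [col, col, h7]
    by_cases hpq : p = q
    · rw [if_pos hpq, hpq, Nat.beq_refl]
      rfl
    · rw [if_neg hpq]
      have : Nat.beq (ix p) (ix q) = false := by
        cases h8 : Nat.beq (ix p) (ix q)
        · rfl
        · exact absurd (ix_injective (Nat.eq_of_beq_eq_true h8)) hpq
      rw [this]
      rfl
  · intro x hx
    obtain ⟨hx1, hx2⟩ := genV_mem x hx
    have h6 : encL x ∈ genC := by rw [← genC_eq]; exact List.mem_map.2 ⟨x, hx, rfl⟩
    have h7 := List.all_eq_true.1 h5 _ h6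
    rw [Bool.and_eq_true, Bool.and_eq_true] at h7
    exact ⟨_, isLeech_spec h7.2.1 h7.2.2, hM.of_ok hx2 h7.1 h7.2.1⟩

end Cfsg.Agent.H7.L7
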