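import Mathlib
import Cfsg.Agent.H7_M24d
import Cfsg.Agent.H7_Lx11

set_option autoImplicit false
set_option linter.all false

/-!
Explicit generators of the Mathieu groups of degrees twelve and eleven.
-/

namespace Cfsg.Agent.H7.Me12

open Cfsg Cfsg.Agent.H7.Golay Cfsg.Agent.H7.Oct Cfsg.Agent.H7.M24 Cfsg.Agent.H7.M24b Cfsg.Agent.H7.M24c Cfsg.Agent.H7.M24d
open scoped Pointwise

abbrev P := Equiv.Perm (Fin 12)

def bt : Fin 12 → ℕ := ![0, 2, 3, 4, 6, 13, 10, 11, 8, 7, 9, 14]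
def im : Fin 8 → Fin 12 → Fin 12 := ![![0, 1, 2, 4, 5, 3, 7, 8, 6, 10, 11, 9], ![0, 1, 2, 6, 7, 8, 9, 10, 11, 3, 4, 5], ![0, 1, 2, 3, 6, 9, 5, 8, 11, 4, 7, 10], ![0, 1, 2, 3, 7, 11, 10, 5, 6, 8, 9, 4], ![0, 1, 2, 3, 10, 8, 11, 6, 4, 7, 5, 9], ![3, 1, 2, 0, 4, 5, 7, 6, 10, 11, 8, 9], ![1, 0, 2, 3, 4, 5, 9, 10, 11, 6, 7, 8], ![0, 2, 1, 3, 4, 5, 11, 9, 10, 7, 8, 6]]
def el : Fin 8 → List ℕ := ![[0, 22, 2, 3, 6, 16, 13, 9, 10, 14, 11, 8, 1, 4, 7, 23, 18, 17, 5, 19, 20, 15, 12, 21],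
  [0, 1, 2, 3, 10, 18, 11, 4, 14, 6, 7, 9, 12, 8, 13, 23, 5, 20, 16, 17, 19, 15, 22, 21],
  [0, 17, 2, 3, 4, 15, 10, 6, 14, 11, 13, 8, 19, 7, 9, 5, 23, 12, 21, 1, 22, 16, 20, 18],
  [0, 23, 2, 3, 4, 20, 11, 8, 10, 7, 9, 13, 21, 14, 6, 22, 19, 16, 17, 18, 5, 1, 15, 12],
  [0, 16, 2, 3, 4, 22, 9, 11, 6, 13, 14, 10, 18, 8, 7, 20, 12, 21, 1, 23, 15, 19, 5, 17],
  [4, 16, 2, 3, 0, 5, 6, 14, 9, 8, 11, 10, 18, 13, 7, 20, 1, 19, 12, 17, 15, 21, 22, 23],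
  [2, 1, 0, 3, 4, 15, 6, 10, 14, 11, 7, 9, 12, 13, 8, 5, 23, 19, 21, 17, 20, 18, 22, 16],
  [0, 18, 3, 2, 4, 22, 6, 11, 9, 8, 14, 7, 16, 13, 10, 15, 12, 19, 1, 17, 20, 21, 5, 23]]

def gs : P := Equiv.swap (3 : Fin 12) 5 * Equiv.swap (3 : Fin 12) 4 * Equiv.swap (6 : Fin 12) 8 * Equiv.swap (6 : Fin 12) 7 * Equiv.swap (9 : Fin 12) 11 * Equiv.swap (9 : Fin 12) 10
def gt : P := Equiv.swap (3 : Fin 12) 9 * Equiv.swap (3 : Fin 12) 6 * Equiv.swap (4 : Fin 12) 10 * Equiv.swap (4 : Fin 12) 7 * Equiv.swap (5 : Fin 12) 11 * Equiv.swap (5 : Fin 12) 8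
def gu : P := Equiv.swap (4 : Fin 12) 9 * Equiv.swap (4 : Fin 12) 5 * Equiv.swap (4 : Fin 12) 6 * Equiv.swap (7 : Fin 12) 10 * Equiv.swap (7 : Fin 12) 11 * Equiv.swap (7 : Fin 12) 8
def gv : P := Equiv.swap (4 : Fin 12) 11 * Equiv.swap (4 : Fin 12) 5 * Equiv.swap (4 : Fin 12) 7 * Equiv.swap (6 : Fin 12) 8 * Equiv.swap (6 : Fin 12) 9 * Equiv.swap (6 : Fin 12) 10
def gw : P := Equiv.swap (4 : Fin 12) 8 * Equiv.swap (4 : Fin 12) 5 * Equiv.swap (4 : Fin 12) 10 * Equiv.swap (6 : Fin 12) 7 * Equiv.swap (6 : Fin 12) 9 * Equiv.swap (6 : Fin 12) 11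
def gx1 : P := Equiv.swap (0 : Fin 12) 3 * Equiv.swap (6 : Fin 12) 7 * Equiv.swap (8 : Fin 12) 10 * Equiv.swap (9 : Fin 12) 11
def gx2 : P := Equiv.swap (0 : Fin 12) 1 * Equiv.swap (6 : Fin 12) 9 * Equiv.swap (7 : Fin 12) 10 * Equiv.swap (8 : Fin 12) 11
def gx3 : P := Equiv.swap (1 : Fin 12) 2 * Equiv.swap (6 : Fin 12) 11 * Equiv.swap (7 : Fin 12) 9 * Equiv.swap (8 : Fin 12) 10

def gp : Fin 8 → P := ![gs, gt, gu, gv, gw, gx1, gx2, gx3]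

theorem gp_im : ∀ i k, gp i k = im i k := by decide +kernel

theorem el_ok : ∀ i, isM24 (el i) = true := by decide +kernel
theorem el_im : ∀ i, ∀ k : Fin 12, (el i).getD (bt k) 0 = bt (im i k) := by decide +kernel

theorem bt_lt : ∀ k, bt k < 24 := by decide
theorem bt_mem (k : Fin 12) : pt (bt k) ∈ D0 := by
  rw [D0, mem_ofMask, ix_pt _ (bt_lt k)]
  revert k; decide +kernel
theorem bt_inj : ∀ k l, bt k = bt l → k = l := by decide

theorem bf_inj : Function.Injective (fun k : Fin 12 => (⟨pt (bt k), bt_mem k⟩ : ↥D0)) := by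
  intro k l h
  have h1 : pt (bt k) = pt (bt l) := congrArg Subtype.val h
  have h2 := congrArg ix h1
  rw [ix_pt _ (bt_lt k), ix_pt _ (bt_lt l)] at h2
  exact bt_inj k l h2

noncomputable def bE : Fin 12 ≃ ↥D0 := Equiv.ofBijective (fun k : Fin 12 => (⟨pt (bt k), bt_mem k⟩ : ↥D0))
  ((Fintype.bijective_iff_injective_and_card _).2 ⟨bf_inj, by rw [Fintype.card_fin, Fintype.card_coe, D0_mem.2]⟩)

theorem bE_apply (k : Fin 12) : (bE k : GolayPt) = pt (bt k) := rfl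

noncomputable def rho : M12s →* P := (bE.symm.permCongrHom).toMonoidHom.comp (Lx11.resHom M12s D0 M12s_inv)

theorem rho_spec (G : M12s) (k : Fin 12) : pt (bt (rho G k)) = G.1 (pt (bt k)) := by
  have : bE (rho G k) = (Lx11.resHom M12s D0 M12s_inv G) (bE k) := by
    show bE (bE.symm ((Lx11.resHom M12s D0 M12s_inv G) (bE.symm.symm k))) = _
    rw [Equiv.apply_symm_apply, Equiv.symm_symm]
  exact congrArg Subtype.val this

theorem D0_all {p : GolayPt} (hp : p ∈ D0) : ∃ k, pt (bt k) = p := by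
  obtain ⟨k, hk⟩ := bE.surjective ⟨p, hp⟩
  exact ⟨k, congrArg Subtype.val hk⟩

theorem rho_inj : Function.Injective rho := by
  rw [injective_iff_map_eq_one]
  intro G hG
  apply Subtype.ext
  apply fix_nine G.2.1 D0
  · rw [D0_mem.2]; norm_num
  · intro p hp
    obtain ⟨k, rfl⟩ := D0_all hp
    rw [← rho_spec, hG]; rfl

theorem gp_mem (i : Fin 8) : gp i ∈ rho.range := by
  obtain ⟨G, hG, hr⟩ := exists_M24 (el_ok i)
  have h1 : ∀ k, G (pt (bt k)) = pt (bt (im i k)) := by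
    intro k
    rw [hr.apply_pt (bt_lt k), el_im]
  have h2 : G • D0 = D0 := by
    have : G • D0 ⊆ D0 := by
      intro p hp
      obtain ⟨q, hq, rfl⟩ := Finset.mem_smul_finset.1 hp
      obtain ⟨k, rfl⟩ := D0_all hq
      rw [Equiv.Perm.smul_def, h1]
      exact bt_mem _
    exact Finset.eq_of_subset_of_card_le this (by rw [Finset.card_smul_finset])
  refine ⟨⟨G, hG, h2⟩, ?_⟩
  ext1 k
  have h3 := rho_spec ⟨G, hG, h2⟩ k
  rw [h1] at h3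
  rw [gp_im]
  have h4 := congrArg ix h3
  rw [ix_pt _ (bt_lt _), ix_pt _ (bt_lt _)] at h4
  exact bt_inj _ _ h4

theorem card_rho : Nat.card rho.range = 95040 := by
  rw [← Nat.card_congr (MonoidHom.ofInjective rho_inj).toEquiv]
  exact card_M12s

/-! ### lower bounds -/

theorem orb (H : Subgroup P) (b : Fin 12) (g : List (Fin 8)) (hg : ∀ i ∈ g, gp i ∈ H) (rk : Fin 12 → ℕ)
    (R : Finset (Fin 12)) (hR : ∀ y ∈ R, y = b ∨ ∃ i ∈ g, ∃ y' ∈ R, rk y' < rk y ∧ im i y' = y) :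
    (R : Set (Fin 12)) ⊆ MulAction.orbit H b := by
  have h : ∀ n : ℕ, ∀ y ∈ R, rk y = n → y ∈ MulAction.orbit H b := by
    intro n
    induction n using Nat.strong_induction_on with
    | _ n ih =>
      intro y hy hn
      rcases hR y hy with rfl | ⟨i, hi, y', hy', h1, h2⟩
      · exact MulAction.mem_orbit_self _
      · have h3 := ih (rk y') (hn ▸ h1) y' hy' rfl
        obtain ⟨k, hk⟩ := h3
        refine ⟨⟨gp i, hg i hi⟩ * k, ?_⟩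
        have hk' : k.1 b = y' := hk
        show gp i (k.1 b) = y
        rw [hk', gp_im, h2]
  intro y hy
  exact h _ y hy rfl

theorem step (H : Subgroup P) (b : Fin 12) (R : Finset (Fin 12)) (h : (R : Set (Fin 12)) ⊆ MulAction.orbit H b) (n : ℕ)
    (hn : n ≤ Nat.card ↥(H ⊓ MulAction.stabilizer P b)) : R.card * n ≤ Nat.card H := by
  rw [card_eq_orbit_mul H b]
  apply Nat.mul_le_mul _ hn
  rw [← Set.ncard_coe_finset]
  exact Set.ncard_le_ncard h (Set.toFinite _)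

theorem l8 (H : Subgroup P) (hg : ∀ i ∈ ([2, 3, 4] : List (Fin 8)), gp i ∈ H) : 8 ≤ Nat.card H := by
  have h1 := step H 4 ({4, 5, 6, 7, 8, 9, 10, 11} : Finset (Fin 12)) (orb H 4 _ hg ![0, 0, 0, 0, 0, 2, 1, 1, 2, 2, 1, 2] _ (by decide +kernel)) 1
    Nat.card_pos
  exact h1

theorem l72 (H : Subgroup P) (hg : ∀ i ∈ ([0, 1, 2, 3, 4] : List (Fin 8)), gp i ∈ H) : 72 ≤ Nat.card H := by
  have h1 := step H 3 ({3, 4, 5, 6, 7, 8, 9, 10, 11} : Finset (Fin 12)) (orb H 3 _ hg ![0, 0, 0, 0, 1, 2, 1, 2, 3, 2, 2, 2] _ (by decide +kernel)) 8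
    (l8 _ (fun i hi => ⟨hg i (by revert i; decide), by
      show gp i 3 = 3
      rw [gp_im]; revert i; decide⟩))
  exact h1

theorem l720 (H : Subgroup P) (hg : ∀ i ∈ ([0, 1, 2, 3, 4, 5] : List (Fin 8)), gp i ∈ H) : 720 ≤ Nat.card H := by
  have h1 := step H 0 ({0, 3, 4, 5, 6, 7, 8, 9, 10, 11} : Finset (Fin 12)) (orb H 0 _ hg ![0, 0, 0, 1, 2, 3, 2, 3, 4, 3, 3, 3] _ (by decide +kernel)) 72
    (l72 _ (fun i hi => ⟨hg i (by revert i; decide), by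
      show gp i 0 = 0
      rw [gp_im]; revert i; decide⟩))
  exact h1

theorem l7920 (H : Subgroup P) (hg : ∀ i ∈ ([0, 1, 2, 3, 4, 5, 6] : List (Fin 8)), gp i ∈ H) : 7920 ≤ Nat.card H := by
  have h1 := step H 1 ({0, 1, 3, 4, 5, 6, 7, 8, 9, 10, 11} : Finset (Fin 12)) (orb H 1 _ hg ![1, 0, 0, 2, 3, 4, 3, 4, 5, 4, 4, 4] _ (by decide +kernel)) 720
    (l720 _ (fun i hi => ⟨hg i (by revert i; decide), by
      show gp i 1 = 1
      rw [gp_im]; revert i; decide⟩))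
  exact h1

theorem orb12 (H : Subgroup P) (hg : ∀ i ∈ ([0, 1, 2, 3, 4, 5, 6, 7] : List (Fin 8)), gp i ∈ H) :
    ((Finset.univ : Finset (Fin 12)) : Set (Fin 12)) ⊆ MulAction.orbit H 2 :=
  orb H 2 _ hg ![2, 1, 0, 3, 4, 5, 4, 5, 6, 5, 5, 5] _ (by decide +kernel)

theorem l95040 (H : Subgroup P) (hg : ∀ i ∈ ([0, 1, 2, 3, 4, 5, 6, 7] : List (Fin 8)), gp i ∈ H) : 95040 ≤ Nat.card H := by
  have h1 := step H 2 Finset.univ (orb12 H hg) 7920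
    (l7920 _ (fun i hi => ⟨hg i (by revert i; decide), by
      show gp i 2 = 2
      rw [gp_im]; revert i; decide⟩))
  exact h1

end Cfsg.Agent.H7.Me12
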