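import Mathlib
import Cfsg.Agent.H7_Me12

set_option autoImplicit false
set_option linter.all false

namespace Cfsg.Agent.H7.Me12

open Cfsg Cfsg.Agent.H7.Golay Cfsg.Agent.H7.Oct Cfsg.Agent.H7.M24 Cfsg.Agent.H7.M24b Cfsg.Agent.H7.M24c Cfsg.Agent.H7.M24d
open scoped Pointwise

def A12 : Subgroup P := Subgroup.closure {gs, gt, gu, gv, gw, gx1, gx2, gx3}
def A11 : Subgroup P := Subgroup.closure {gs, gt, gu, gv, gw, gx1, gx2}

theorem gp_A12 : ∀ i, gp i ∈ A12 := by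
  intro i
  apply Subgroup.subset_closure
  fin_cases i <;> simp [gp]

theorem gp_A11 : ∀ i ∈ ([0, 1, 2, 3, 4, 5, 6] : List (Fin 8)), gp i ∈ A11 := by
  intro i hi
  apply Subgroup.subset_closure
  have : i = 0 ∨ i = 1 ∨ i = 2 ∨ i = 3 ∨ i = 4 ∨ i = 5 ∨ i = 6 := by simpa using hi
  rcases this with rfl | rfl | rfl | rfl | rfl | rfl | rfl <;> simp [gp]

theorem A12_le : A12 ≤ rho.range := by
  unfold A12
  rw [Subgroup.closure_le]
  intro x hx
  have : x = gs ∨ x = gt ∨ x = gu ∨ x = gv ∨ x = gw ∨ x = gx1 ∨ x = gx2 ∨ x = gx3 := by simpa using hx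
  rcases this with rfl | rfl | rfl | rfl | rfl | rfl | rfl | rfl
  exacts [gp_mem 0, gp_mem 1, gp_mem 2, gp_mem 3, gp_mem 4, gp_mem 5, gp_mem 6, gp_mem 7]

theorem A12_eq : A12 = rho.range := by
  apply Subgroup.eq_of_le_of_card_ge A12_le
  rw [card_rho]
  exact l95040 A12 (fun i _ => gp_A12 i)

theorem card_A12 : Nat.card A12 = 95040 := by rw [A12_eq, card_rho]

theorem A11_le : A11 ≤ A12 ⊓ MulAction.stabilizer P (2 : Fin 12) := by
  unfold A11
  rw [Subgroup.closure_le]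
  intro x hx
  have h2 : ∀ i ∈ ([0, 1, 2, 3, 4, 5, 6] : List (Fin 8)), gp i ∈ A12 ⊓ MulAction.stabilizer P (2 : Fin 12) := by
    intro i hi
    refine ⟨gp_A12 i, ?_⟩
    show gp i 2 = 2
    rw [gp_im]; revert i; decide
  have : x = gs ∨ x = gt ∨ x = gu ∨ x = gv ∨ x = gw ∨ x = gx1 ∨ x = gx2 := by simpa using hx
  rcases this with rfl | rfl | rfl | rfl | rfl | rfl | rfl
  exacts [h2 0 (by decide), h2 1 (by decide), h2 2 (by decide), h2 3 (by decide), h2 4 (by decide), h2 5 (by decide),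
    h2 6 (by decide)]

theorem card_stab2 : Nat.card ↥(A12 ⊓ MulAction.stabilizer P (2 : Fin 12)) = 7920 := by
  have h1 := card_eq_orbit_mul A12 (2 : Fin 12)
  have h2 : MulAction.orbit A12 (2 : Fin 12) = Set.univ := by
    have := orb12 A12 (fun i _ => gp_A12 i)
    rw [Finset.coe_univ] at this
    exact Set.univ_subset_iff.1 this
  rw [h2, Set.ncard_univ, Nat.card_eq_fintype_card (α := Fin 12), Fintype.card_fin, card_A12] at h1
  change 95040 = 12 * Nat.card ↥(A12 ⊓ MulAction.stabilizer P (2 : Fin 12)) at h1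
  omega

theorem A11_eq : A11 = A12 ⊓ MulAction.stabilizer P (2 : Fin 12) := by
  apply Subgroup.eq_of_le_of_card_ge A11_le
  rw [card_stab2]
  exact l7920 A11 gp_A11

theorem main
    (s t u v w x₁ x₂ x₃ : Equiv.Perm (Fin 12))
    (hs : s = gs) (ht : t = gt) (hu : u = gu) (hv : v = gv) (hw : w = gw) (hx₁ : x₁ = gx1) (hx₂ : x₂ = gx2) (hx₃ : x₃ = gx3)
    (M₁₂ M₁₁ : Subgroup (Equiv.Perm (Fin 12))) (hM₁₂ : M₁₂ = Subgroup.closure {s, t, u, v, w, x₁, x₂, x₃})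
    (hM₁₁ : M₁₁ = Subgroup.closure {s, t, u, v, w, x₁, x₂}) :
    MulAction.IsMultiplyPretransitive M₁₂ (Fin 12) 5 ∧ (∀ y : Fin 5 ↪ Fin 12, MulAction.stabilizer M₁₂ y = ⊥) ∧
    Nat.card M₁₂ = 95040 ∧ Nat.card M₁₁ = 7920 ∧
    M₁₁ = M₁₂ ⊓ MulAction.stabilizer (Equiv.Perm (Fin 12)) (2 : Fin 12) := by
  subst hs ht hu hv hw hx₁ hx₂ hx₃
  have e12 : M₁₂ = A12 := hM₁₂
  have e11 : M₁₁ = A11 := hM₁₁
  clear hM₁₂ hM₁₁
  subst e12 e11
  have hβ : Function.Injective (fun k : Fin 12 => pt (bt k)) := fun k l h => bf_inj (Subtype.ext h)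
  refine ⟨?_, ?_, card_A12, ?_, A11_eq⟩
  · constructor
    intro x y
    obtain ⟨G, hG, h⟩ := M12s_trans 5 le_rfl (fun i => pt (bt (x i))) (fun i => pt (bt (y i))) (fun i => bt_mem _)
      (fun i => bt_mem _) (hβ.comp x.injective) (hβ.comp y.injective)
    have hm : rho ⟨G, hG⟩ ∈ A12 := by rw [A12_eq]; exact ⟨_, rfl⟩
    refine ⟨⟨rho ⟨G, hG⟩, hm⟩, ?_⟩
    ext1 i
    show rho ⟨G, hG⟩ (x i) = y i
    apply hβ
    show pt (bt (rho ⟨G, hG⟩ (x i))) = pt (bt (y i))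
    rw [rho_spec]
    exact h i
  · intro y
    rw [eq_bot_iff]
    rintro ⟨g, hg⟩ hgy
    have hgy : ∀ i, g (y i) = y i := fun i => DFunLike.congr_fun (MulAction.mem_stabilizer_iff.1 hgy) i
    rw [A12_eq] at hg
    obtain ⟨G, rfl⟩ := hg
    have h1 : G.1 = 1 := by
      refine dodecad_five_fix D0_mem (fun i => pt (bt (y i))) (fun i => bt_mem _) (hβ.comp y.injective) G.2.1 G.2.2 ?_
      intro i
      have := rho_spec G (y i)
      rw [hgy i] at this
      exact this.symm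
    have h2 : G = 1 := Subtype.ext h1
    rw [Subgroup.mem_bot]
    apply Subtype.ext
    show rho G = 1
    rw [h2, map_one]
  · rw [A11_eq]; exact card_stab2

end Cfsg.Agent.H7.Me12
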