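import Mathlib
import Cfsg.Agent.H7_M24d

set_option autoImplicit false

/-!
The stabiliser of an octad: the action on the octad is alternating, and it splits over the pointwise stabiliser.
-/

namespace Cfsg.Agent.H7.OctadStab

open Cfsg Cfsg.Agent.H7.Golay Cfsg.Agent.H7.Oct Cfsg.Agent.H7.M24 Cfsg.Agent.H7.M24b Cfsg.Agent.H7.M24c
  Cfsg.Agent.H7.M24d
open scoped Pointwise

theorem apply_mem_iff {o : Finset GolayPt} {g : Equiv.Perm GolayPt} (h : g • o = o) (x : GolayPt) :
    g x ∈ o ↔ x ∈ o := by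
  conv_lhs => rw [← h]
  exact Finset.smul_mem_smul_finset_iff g

theorem smul_eq_of_forall {o : Finset GolayPt} {g : Equiv.Perm GolayPt} (h : ∀ x, g x ∈ o ↔ x ∈ o) : g • o = o := by
  ext x
  have h1 := h (g⁻¹ x)
  rw [show g (g⁻¹ x) = x from g.apply_symm_apply x] at h1
  rw [h1, Finset.mem_smul_finset]
  constructor
  · rintro ⟨y, hy, rfl⟩
    show g.symm (g y) ∈ o
    rwa [Equiv.symm_apply_apply]
  · intro hx
    exact ⟨g⁻¹ x, hx, g.apply_symm_apply x⟩

/-- restriction of the set stabiliser to the set -/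
def restr (K : Subgroup (Equiv.Perm GolayPt)) (o : Finset GolayPt) :
    ↥(K ⊓ MulAction.stabilizer (Equiv.Perm GolayPt) o) →* Equiv.Perm ↥o where
  toFun g := g.1.subtypePerm (fun x => apply_mem_iff g.2.2 x)
  map_one' := by ext x; rfl
  map_mul' a b := by ext x; rfl

theorem restr_ker {K : Subgroup (Equiv.Perm GolayPt)} {o : Finset GolayPt}
    (g : ↥(K ⊓ MulAction.stabilizer (Equiv.Perm GolayPt) o)) :
    g ∈ (restr K o).ker ↔ ∀ x ∈ o, g.1 x = x := by
  rw [MonoidHom.mem_ker]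
  constructor
  · intro h x hx
    have := congrArg (fun e : Equiv.Perm ↥o => (e ⟨x, hx⟩).1) h
    exact this
  · intro h
    apply Equiv.ext
    intro x
    exact Subtype.ext (h x.1 x.2)

theorem card_ker_restr {K : Subgroup (Equiv.Perm GolayPt)} {o : Finset GolayPt} :
    Nat.card (restr K o).ker = Nat.card ↥(K ⊓ fixingSubgroup (Equiv.Perm GolayPt) (o : Set GolayPt)) := by
  refine Nat.card_congr ⟨fun g => ⟨g.1.1, g.1.2.1, ?_⟩, fun g => ⟨⟨g.1, g.2.1, ?_⟩, ?_⟩, fun _ => rfl, fun _ => rfl⟩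
  · show g.1.1 ∈ fixingSubgroup (Equiv.Perm GolayPt) (o : Set GolayPt)
    rw [mem_fixingSubgroup_iff]
    exact (restr_ker g.1).1 g.2
  · have h := (mem_fixingSubgroup_iff (Equiv.Perm GolayPt)).1 g.2.2
    refine smul_eq_of_forall fun x => ?_
    constructor
    · intro hx
      have h1 : g.1 (g.1 x) = g.1 x := h _ hx
      rwa [g.1.injective h1] at hx
    · intro hx
      have h1 : g.1 x = x := h _ hx
      rwa [h1]
  · rw [restr_ker]
    exact (mem_fixingSubgroup_iff (Equiv.Perm GolayPt)).1 g.2.2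

theorem range_restr_octad {o : Finset GolayPt} (ho : o ∈ octads) : (restr M24 o).range = alternatingGroup ↥o := by
  have : Nontrivial ↥o := Fintype.one_lt_card_iff_nontrivial.1 (by rw [Fintype.card_coe, ho.2]; norm_num)
  apply Equiv.Perm.eq_alternatingGroup_of_index_eq_two
  have h1 := (restr M24 o).ker.card_mul_index
  rw [Subgroup.index_ker, card_ker_restr, card_fixing_octad ho, card_stab_octad ho] at h1
  have h2 := (restr M24 o).range.card_mul_index
  have h3 : Nat.card (Equiv.Perm ↥o) = 40320 := by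
    rw [Nat.card_perm, Nat.card_eq_fintype_card, Fintype.card_coe, ho.2]
    rfl
  rw [h3] at h2
  have h4 : Nat.card (restr M24 o).range = 20160 := by omega
  rw [h4] at h2
  omega

theorem octad_induces {o : Finset GolayPt} (ho : o ∈ octads) :
    {e : Equiv.Perm ↥o | ∃ g : Equiv.Perm GolayPt, g ∈ M24 ∧ ∃ h : (∀ x, g x ∈ o ↔ x ∈ o), g.subtypePerm h = e} =
      (alternatingGroup ↥o : Set (Equiv.Perm ↥o)) := by
  ext e
  rw [← range_restr_octad ho]
  constructor
  · rintro ⟨g, hg, h, rfl⟩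
    exact ⟨⟨g, hg, smul_eq_of_forall h⟩, rfl⟩
  · rintro ⟨g, rfl⟩
    exact ⟨g.1, g.2.1, fun x => apply_mem_iff g.2.2 x, rfl⟩

theorem card_stab_octad_pt {o : Finset GolayPt} (ho : o ∈ octads) {p : GolayPt} (hp : p ∉ o) :
    Nat.card ↥(M24 ⊓ MulAction.stabilizer (Equiv.Perm GolayPt) o ⊓ MulAction.stabilizer (Equiv.Perm GolayPt) p) =
      20160 := by
  have h1 := card_eq_orbit_mul (M24 ⊓ MulAction.stabilizer (Equiv.Perm GolayPt) o) p
  have h2 : MulAction.orbit ↥(M24 ⊓ MulAction.stabilizer (Equiv.Perm GolayPt) o) p = ((oᶜ : Finset GolayPt) : Set GolayPt) := by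
    ext y
    rw [Finset.mem_coe, Finset.mem_compl]
    constructor
    · rintro ⟨k, rfl⟩
      show ¬ k.1 p ∈ o
      rwa [apply_mem_iff k.2.2]
    · intro hy
      obtain ⟨t, ht, htc⟩ := Finset.exists_subset_card_eq (show 5 ≤ o.card by rw [ho.2]; norm_num)
      let e := (Finset.equivFinOfCardEq htc).symm
      have hinj : Function.Injective (fun i => (e i).1) := fun i j hij => e.injective (Subtype.ext hij)
      obtain ⟨g, hg, hg1, hg2⟩ := six_std _ hinj ho (fun i => ht (e i).2) p hp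
      obtain ⟨k, hk, hk1, hk2⟩ := six_std _ hinj ho (fun i => ht (e i).2) y hy
      have hgk : ∀ i, (k⁻¹ * g) (e i).1 = (e i).1 := fun i => by
        rw [Equiv.Perm.mul_apply, hg1, Equiv.Perm.inv_eq_iff_eq, hk1]
      have hkg : k⁻¹ * g ∈ M24 := mul_mem (inv_mem hk) hg
      refine ⟨⟨k⁻¹ * g, hkg, ?_⟩, ?_⟩
      · apply eq_of_five ((smul_mem_octads_iff hkg).2 ho) ho
        rw [← htc]
        apply Finset.card_le_card
        intro q hq
        have h5 := hgk (e.symm ⟨q, hq⟩)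
        rw [Equiv.apply_symm_apply] at h5
        rw [Finset.mem_inter]
        refine ⟨?_, ht hq⟩
        rw [Finset.mem_smul_finset]
        exact ⟨q, ht hq, h5⟩
      · show (k⁻¹ * g) p = y
        rw [Equiv.Perm.mul_apply, hg2, Equiv.Perm.inv_eq_iff_eq, hk2]
  have h3 : (((oᶜ : Finset GolayPt) : Set GolayPt)).ncard = 16 := by
    rw [Set.ncard_coe_finset, Finset.card_compl, ho.2]
    rfl
  rw [h2, h3, card_stab_octad ho] at h1
  omega

theorem mem_stab_pt {o : Finset GolayPt} {p : GolayPt} {g : Equiv.Perm GolayPt} :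
    g ∈ M24 ⊓ MulAction.stabilizer (Equiv.Perm GolayPt) o ⊓ MulAction.stabilizer (Equiv.Perm GolayPt) p ↔
      (g ∈ M24 ∧ g • o = o) ∧ g p = p := Iff.rfl

theorem fixing_inf {o : Finset GolayPt} (ho : o ∈ octads) {p : GolayPt} (hp : p ∉ o) :
    (M24 ⊓ fixingSubgroup (Equiv.Perm GolayPt) (o : Set GolayPt)) ⊓
      (M24 ⊓ MulAction.stabilizer (Equiv.Perm GolayPt) o ⊓ MulAction.stabilizer (Equiv.Perm GolayPt) p) = ⊥ := by
  rw [eq_bot_iff]
  rintro g ⟨h1, h2⟩
  rw [Subgroup.mem_bot]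
  apply fix_nine h1.1 (insert p o) (by rw [Finset.card_insert_of_notMem hp, ho.2])
  intro q hq
  rcases Finset.mem_insert.1 hq with rfl | hq
  · exact h2.2
  · exact (mem_fixing.1 h1).2 q hq

/-- restriction of the point stabiliser to the octad -/
def toAlt {o : Finset GolayPt} (ho : o ∈ octads) (p : GolayPt) :
    ↥(M24 ⊓ MulAction.stabilizer (Equiv.Perm GolayPt) o ⊓ MulAction.stabilizer (Equiv.Perm GolayPt) p) →*
      alternatingGroup ↥o :=
  ((restr M24 o).comp (Subgroup.inclusion inf_le_left)).codRestrict _ (fun g => by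
      rw [← range_restr_octad ho]; exact ⟨_, rfl⟩)

theorem toAlt_bij {o : Finset GolayPt} (ho : o ∈ octads) {p : GolayPt} (hp : p ∉ o) :
    Function.Bijective (toAlt ho p) := by
  have hinj : Function.Injective (toAlt ho p) := by
    rw [← MonoidHom.ker_eq_bot_iff, eq_bot_iff]
    intro g hg
    have h1 : (restr M24 o) (Subgroup.inclusion inf_le_left g) = 1 := congrArg Subtype.val (MonoidHom.mem_ker.1 hg)
    have h2 := (restr_ker _).1 (MonoidHom.mem_ker.2 h1)
    have h3 : g.1 ∈ (⊥ : Subgroup (Equiv.Perm GolayPt)) := by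
      rw [← fixing_inf ho hp]
      exact ⟨mem_fixing.2 ⟨g.2.1.1, h2⟩, g.2⟩
    rw [Subgroup.mem_bot] at h3 ⊢
    exact Subtype.ext h3
  have : Nontrivial ↥o := Fintype.one_lt_card_iff_nontrivial.1 (by rw [Fintype.card_coe, ho.2]; norm_num)
  refine (Nat.bijective_iff_injective_and_card _).2 ⟨hinj, ?_⟩
  rw [card_stab_octad_pt ho hp, Nat.card_eq_fintype_card, ← mul_right_inj' (two_ne_zero (α := ℕ)),
      two_mul_card_alternatingGroup, Fintype.card_perm, Fintype.card_coe, ho.2]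
  rfl

/-- the point stabiliser in the octad stabiliser is alternating of degree eight -/
theorem stab_pt_alt {o : Finset GolayPt} (ho : o ∈ octads) {p : GolayPt} (hp : p ∉ o) :
    Nonempty (↥(M24 ⊓ MulAction.stabilizer (Equiv.Perm GolayPt) o ⊓ MulAction.stabilizer (Equiv.Perm GolayPt) p) ≃*
      alternatingGroup (Fin 8)) :=
  ⟨(MulEquiv.ofBijective _ (toAlt_bij ho hp)).trans (Equiv.altCongrHom (Finset.equivFinOfCardEq ho.2))⟩

theorem fixing_sup {o : Finset GolayPt} (ho : o ∈ octads) {p : GolayPt} (hp : p ∉ o) :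
    (M24 ⊓ fixingSubgroup (Equiv.Perm GolayPt) (o : Set GolayPt)) ⊔
      (M24 ⊓ MulAction.stabilizer (Equiv.Perm GolayPt) o ⊓ MulAction.stabilizer (Equiv.Perm GolayPt) p) =
        M24 ⊓ MulAction.stabilizer (Equiv.Perm GolayPt) o := by
  have h1 : (M24 ⊓ fixingSubgroup (Equiv.Perm GolayPt) (o : Set GolayPt)) ⊔
      (M24 ⊓ MulAction.stabilizer (Equiv.Perm GolayPt) o ⊓ MulAction.stabilizer (Equiv.Perm GolayPt) p) ≤
        M24 ⊓ MulAction.stabilizer (Equiv.Perm GolayPt) o := by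
    apply sup_le
    · intro g hg
      refine ⟨hg.1, ?_⟩
      have h2 := (mem_fixing.1 hg).2
      refine smul_eq_of_forall fun x => ?_
      constructor
      · intro hx
        have h3 : g (g x) = g x := h2 _ hx
        rwa [g.injective h3] at hx
      · intro hx
        rwa [h2 _ hx]
    · exact inf_le_left
  refine le_antisymm h1 ?_
  intro g hg
  have hg' : restr M24 o ⟨g, hg⟩ ∈ alternatingGroup ↥o := by
    rw [← range_restr_octad ho]; exact ⟨_, rfl⟩
  obtain ⟨a, ha⟩ := (toAlt_bij ho hp).2 ⟨_, hg'⟩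
  have ha' : restr M24 o (Subgroup.inclusion inf_le_left a) = restr M24 o ⟨g, hg⟩ := congrArg Subtype.val ha
  have h2 : ∀ x ∈ o, a.1 x = g x := by
    intro x hx
    exact congrArg (fun e : Equiv.Perm ↥o => (e ⟨x, hx⟩).1) ha'
  have h3 : g = (g * a.1⁻¹) * a.1 := by group
  rw [h3]
  have h4 : g * a.1⁻¹ ∈ M24 ⊓ fixingSubgroup (Equiv.Perm GolayPt) (o : Set GolayPt) := by
    rw [mem_fixing]
    refine ⟨mul_mem hg.1 (inv_mem a.2.1.1), fun x hx => ?_⟩
    have h5 : a.1⁻¹ x ∈ o := by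
      have h6 : a.1⁻¹ • o = o := by
        rw [inv_smul_eq_iff]; exact a.2.1.2.symm
      exact (apply_mem_iff h6 x).2 hx
    rw [Equiv.Perm.mul_apply, ← h2 _ h5]
    exact a.1.apply_symm_apply x
  exact mul_mem (le_sup_left (α := Subgroup (Equiv.Perm GolayPt)) h4)
    (le_sup_right (α := Subgroup (Equiv.Perm GolayPt)) a.2)

end Cfsg.Agent.H7.OctadStab
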