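import Cfsg.Agent.H7_Ord4
import Cfsg.Agent.H1_Hall
import Cfsg.Agent.H1_Nilp
import Cfsg.Agent.H12_CN3
import Cfsg.Agent.H23_PQuat
import Cfsg.Agent.S0144
import Cfsg.Agent.S3779

set_option autoImplicit false
open Cfsg

namespace H7.Ord4

open Subgroup
open scoped commutatorElement

variable {G : Type*} [Group G] [Finite G]

theorem cases4 (ho : ∀ g : G, orderOf g ≤ 4) (g : G) : g ^ 4 = 1 ∨ g ^ 3 = 1 := by
  have h1 := orderOf_pos g
  have h2 := ho g
  have h3 := pow_orderOf_eq_one g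
  generalize orderOf g = n at h1 h2 h3
  interval_cases n
  · left; rw [pow_one] at h3; rw [h3, one_pow]
  · left; rw [show (4 : ℕ) = 2 * 2 by norm_num, pow_mul, h3, one_pow]
  · right; exact h3
  · left; exact h3

theorem nc (ho : ∀ g : G, orderOf g ≤ 4) {a b : G} (ha : a ^ 4 = 1) (hb : b ^ 3 = 1) (hab : a * b = b * a) :
    a = 1 ∨ b = 1 := by
  by_contra hcon
  push Not at hcon
  obtain ⟨ha1, hb1⟩ := hcon
  haveI : Fact (Nat.Prime 3) := ⟨Nat.prime_three⟩
  have h3 : orderOf b = 3 := orderOf_eq_prime hb hb1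
  have h4 : orderOf a ∣ 4 := orderOf_dvd_of_pow_eq_one ha
  have h5 : orderOf a ≠ 1 := fun h => ha1 (orderOf_eq_one_iff.1 h)
  have hcop : (orderOf a).Coprime (orderOf b) := by
    rw [h3]
    exact Nat.Coprime.coprime_dvd_left h4 (by norm_num)
  have h6 := (show Commute a b from hab).orderOf_mul_eq_mul_orderOf_of_coprime hcop
  have h7 := ho (a * b)
  have h8 := orderOf_pos a
  rw [h6, h3] at h7
  omega

theorem two_of_mem {F : Subgroup G} (hF : IsPGroup 2 F) (ho : ∀ g : G, orderOf g ≤ 4) {x : G} (hx : x ∈ F) : x ^ 4 = 1 := by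
  rcases cases4 ho x with h | h
  · exact h
  · obtain ⟨k, hk⟩ := hF ⟨x, hx⟩
    have hk' : x ^ 2 ^ k = 1 := by
      have := congrArg Subtype.val hk
      simpa using this
    have h1 : orderOf x ∣ 3 := orderOf_dvd_of_pow_eq_one h
    have h2 : orderOf x ∣ 2 ^ k := orderOf_dvd_of_pow_eq_one hk'
    have h3 : Nat.Coprime 3 (2 ^ k) := Nat.Coprime.pow_right k (by norm_num)
    have h4 : orderOf x = 1 := Nat.eq_one_of_dvd_coprimes h3 h1 h2
    rw [orderOf_eq_one_iff.1 h4, one_pow]

theorem three_of_mem {F : Subgroup G} (hF : IsPGroup 3 F) (ho : ∀ g : G, orderOf g ≤ 4) {x : G} (hx : x ∈ F) : x ^ 3 = 1 := by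
  rcases cases4 ho x with h | h
  · obtain ⟨k, hk⟩ := hF ⟨x, hx⟩
    have hk' : x ^ 3 ^ k = 1 := by
      have := congrArg Subtype.val hk
      simpa using this
    have h1 : orderOf x ∣ 4 := orderOf_dvd_of_pow_eq_one h
    have h2 : orderOf x ∣ 3 ^ k := orderOf_dvd_of_pow_eq_one hk'
    have h3 : Nat.Coprime 4 (3 ^ k) := Nat.Coprime.pow_right k (by norm_num)
    have h4 : orderOf x = 1 := Nat.eq_one_of_dvd_coprimes h3 h1 h2
    rw [orderOf_eq_one_iff.1 h4, one_pow]
  · exact h

theorem eq_one_of_both {x : G} (h4 : x ^ 4 = 1) (h3 : x ^ 3 = 1) : x = 1 := by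
  have : x ^ 4 = x ^ 3 * x := pow_succ x 3
  rw [h4, h3, one_mul] at this
  exact this.symm

theorem solv (ho : ∀ g : G, orderOf g ≤ 4) : Group.IsSolvable G := by
  have hn : Nat.card G ≠ 0 := Nat.card_pos.ne'
  obtain ⟨a, m, hm, hma⟩ := Nat.exists_eq_pow_mul_and_not_dvd hn 2 (by norm_num)
  have hm0 : m ≠ 0 := by rintro rfl; simp at hm
  obtain ⟨b, k, hk, hkb⟩ := Nat.exists_eq_pow_mul_and_not_dvd hm0 3 (by norm_num)
  have hk1 : k = 1 := by
    by_contra hk1
    obtain ⟨p, hp, hpk⟩ := Nat.exists_prime_and_dvd hk1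
    haveI : Fact p.Prime := ⟨hp⟩
    have hpm : p ∣ m := by rw [hkb]; exact Dvd.dvd.mul_left hpk _
    have hpG : p ∣ Nat.card G := by rw [hma]; exact Dvd.dvd.mul_left hpm _
    obtain ⟨x, hx⟩ := exists_prime_orderOf_dvd_card' p hpG
    have h1 := ho x
    rw [hx] at h1
    have h2 := hp.two_le
    interval_cases p
    · exact hm hpm
    · exact hk hpk
    · norm_num at hp
  rw [hk1, mul_one] at hkb
  exact Cfsg.Agent.S0144.result 2 3 a b Nat.prime_two Nat.prime_three (by rw [hma, hkb])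

/-- an involution acting without fixed points inverts -/
theorem inv_of_fpf {T : Subgroup G} {t : G} (ht : t * t = 1) (hn : ∀ x ∈ T, t * x * t⁻¹ ∈ T)
    (hf : ∀ x ∈ T, t * x = x * t → x = 1) : ∀ y ∈ T, t * y * t⁻¹ = y⁻¹ := by
  have hti : t⁻¹ = t := inv_eq_of_mul_eq_one_left ht
  let f : T → T := fun x => ⟨(x : G)⁻¹ * (t * x * t⁻¹), T.mul_mem (T.inv_mem x.2) (hn x x.2)⟩
  have hinj : Function.Injective f := by
    rintro ⟨x, hx⟩ ⟨y, hy⟩ h
    have h1 : x⁻¹ * (t * x * t⁻¹) = y⁻¹ * (t * y * t⁻¹) := congrArg Subtype.val h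
    have h2 : y * x⁻¹ = t * (y * x⁻¹) * t⁻¹ := by
      have h3 : t * x * t⁻¹ = x * (y⁻¹ * (t * y * t⁻¹)) := by rw [← h1]; group
      have h4 : t * (y * x⁻¹) * t⁻¹ = (t * y * t⁻¹) * (t * x * t⁻¹)⁻¹ := by group
      rw [h4, h3]; group
    have h5 : t * (y * x⁻¹) = (y * x⁻¹) * t := by
      conv_rhs => rw [h2]
      group
    have h6 := hf _ (T.mul_mem hy (T.inv_mem hx)) h5
    exact Subtype.ext (mul_inv_eq_one.1 h6).symm
  intro y hy
  obtain ⟨x, hx⟩ := Finite.surjective_of_injective hinj ⟨y, hy⟩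
  have h1 : (x : G)⁻¹ * (t * x * t⁻¹) = y := congrArg Subtype.val hx
  rw [← h1]
  calc t * ((x : G)⁻¹ * (t * x * t⁻¹)) * t⁻¹ = t * (x : G)⁻¹ * t * x * (t⁻¹ * t⁻¹) := by group
    _ = t * (x : G)⁻¹ * t * x := by rw [hti, ht, mul_one]
    _ = ((x : G)⁻¹ * (t⁻¹ * x * t⁻¹))⁻¹ := by group
    _ = _ := by rw [hti]

/-- case O_3 ≠ 1 -/
theorem caseA (ho : ∀ g : G, orderOf g ≤ 4) (F : Subgroup G) [hFn : F.Normal] (hF : IsPGroup 3 F)
    (hC : centralizer (F : Set G) ≤ F) (u : G) (hu : orderOf u = 4) :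
    IsElementaryAbelian 3 F ∧ ((IsCyclic (G ⧸ F) ∧ F.index = 4) ∨ Nonempty (G ⧸ F ≃* QuaternionGroup 2)) := by
  have hu4 : u ^ 4 = 1 := by rw [← hu]; exact pow_orderOf_eq_one u
  set t : G := u ^ 2 with htd
  have ht : t * t = 1 := by rw [htd, ← pow_add]; exact hu4
  have ht1 : t ≠ 1 := by
    intro h
    have := orderOf_dvd_of_pow_eq_one h
    rw [hu] at this
    norm_num at this
  have hinvF : ∀ s : G, s * s = 1 → s ≠ 1 → ∀ y ∈ F, s * y * s⁻¹ = y⁻¹ := by
    intro s hs hs1
    refine inv_of_fpf hs (fun x hx => hFn.conj_mem x hx s) ?_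
    intro x hx hsx
    have hs4 : s ^ 4 = 1 := by
      rw [show (4 : ℕ) = 2 * 2 by norm_num, pow_mul, pow_two s, hs, one_pow]
    rcases nc ho hs4 (three_of_mem hF ho hx) hsx with h | h
    · exact absurd h hs1
    · exact h
  have hcomm : ∀ x ∈ F, ∀ y ∈ F, x * y = y * x := by
    intro x hx y hy
    have h1 := hinvF t ht ht1 (x * y) (F.mul_mem hx hy)
    have h2 : t * (x * y) * t⁻¹ = (t * x * t⁻¹) * (t * y * t⁻¹) := by group
    rw [h2, hinvF t ht ht1 x hx, hinvF t ht ht1 y hy, ← mul_inv_rev, inv_inj] at h1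
    exact h1.symm
  have hinv2 : ∀ s r : G, s * s = 1 → s ≠ 1 → r * r = 1 → r ≠ 1 → s * r ∈ F := by
    intro s r hs hs1 hr hr1
    apply hC
    rw [mem_centralizer_iff]
    intro x hx
    have h1 := hinvF r hr hr1 x hx
    have h2 := hinvF s hs hs1 x⁻¹ (F.inv_mem hx)
    rw [inv_inv] at h2
    have h3 : s * r * x * (s * r)⁻¹ = x := by
      calc s * r * x * (s * r)⁻¹ = s * (r * x * r⁻¹) * s⁻¹ := by group
        _ = x := by rw [h1, h2]
    exact (mul_inv_eq_iff_eq_mul.1 h3).symm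
  have htF : t ∉ F := by
    intro h
    have h3 := three_of_mem hF ho h
    have h4 : t ^ 4 = 1 := by rw [show (4 : ℕ) = 2 * 2 by norm_num, pow_mul, pow_two t, ht, one_pow]
    exact ht1 (eq_one_of_both h4 h3)
  have h3F : ∀ x : G, x ^ 3 = 1 → x ∈ F := by
    intro x hx
    let π := QuotientGroup.mk' F
    have hk : ∀ g : G, π g = 1 ↔ g ∈ F := fun g => QuotientGroup.eq_one_iff g
    have hs : (x * t * x⁻¹) * (x * t * x⁻¹) = 1 := by
      calc (x * t * x⁻¹) * (x * t * x⁻¹) = x * (t * t) * x⁻¹ := by group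
        _ = 1 := by rw [ht]; group
    have hs1 : x * t * x⁻¹ ≠ 1 := by
      intro h
      exact ht1 (conj_eq_one_iff.1 h)
    have h1 := (hk _).2 (hinv2 _ _ hs hs1 ht ht1)
    have hπt : π t * π t = 1 := by rw [← map_mul, ht, map_one]
    have hcm : Commute (π x) (π t) := by
      rw [map_mul, map_mul, map_mul, map_inv] at h1
      have h2 : π x * π t * (π x)⁻¹ = π t := by
        have := eq_inv_of_mul_eq_one_left h1
        rw [this]; exact inv_eq_of_mul_eq_one_left hπt
      exact mul_inv_eq_iff_eq_mul.1 h2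
    rcases cases4 ho (x * t) with h | h
    · have h2 := congrArg π h
      rw [map_pow, map_mul, map_one, hcm.mul_pow] at h2
      have h3 : π t ^ 4 = 1 := by rw [show (4 : ℕ) = 2 * 2 by norm_num, pow_mul, pow_two (π t), hπt, one_pow]
      have h5 : π x ^ 4 = π x := by
        have : π x ^ 3 = 1 := by rw [← map_pow, hx, map_one]
        rw [pow_succ, this, one_mul]
      rw [h3, mul_one, h5] at h2
      exact (hk x).1 h2
    · exfalso
      have h2 := congrArg π h
      rw [map_pow, map_mul, map_one, hcm.mul_pow] at h2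
      have h3 : π x ^ 3 = 1 := by rw [← map_pow, hx, map_one]
      have h5 : π t ^ 3 = π t := by rw [pow_succ, pow_two, hπt, one_mul]
      rw [h3, one_mul, h5] at h2
      exact htF ((hk t).1 h2)
  refine ⟨⟨⟨⟨fun a b => Subtype.ext (hcomm a a.2 b b.2)⟩⟩, fun a ha => three_of_mem hF ho ha⟩, ?_⟩
  have hQ4 : ∀ q : G ⧸ F, q ^ 4 = 1 := by
    intro q
    obtain ⟨g, rfl⟩ := QuotientGroup.mk_surjective q
    rcases cases4 ho g with h | h
    · rw [← QuotientGroup.mk_pow, h]; rfl
    · rw [(QuotientGroup.eq_one_iff g).2 (h3F g h), one_pow]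
  have hQ : IsPGroup 2 (G ⧸ F) := fun q => ⟨2, hQ4 q⟩
  have huo : orderOf ((u : G) : G ⧸ F) = 4 := by
    have : orderOf ((u : G) : G ⧸ F) = 2 ^ (1 + 1) := by
      apply orderOf_eq_prime_pow
      · rw [pow_one, ← QuotientGroup.mk_pow]
        intro h
        exact htF ((QuotientGroup.eq_one_iff _).1 h)
      · exact hQ4 _
    exact this
  by_cases hcyc : IsCyclic (G ⧸ F)
  · left
    refine ⟨hcyc, ?_⟩
    obtain ⟨g, hg⟩ := hcyc.exists_generator
    have h1 : orderOf g = Nat.card (G ⧸ F) := orderOf_eq_card_of_forall_mem_zpowers hg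
    have h2 : Nat.card (G ⧸ F) ∣ 4 := by rw [← h1]; exact orderOf_dvd_of_pow_eq_one (hQ4 g)
    have h3 : 4 ∣ Nat.card (G ⧸ F) := by rw [← huo]; exact orderOf_dvd_natCard _
    exact Nat.dvd_antisymm h2 h3
  · right
    have huniq : ∀ H K : Subgroup (G ⧸ F), Nat.card H = 2 → Nat.card K = 2 → H = K := by
      have key : ∀ H : Subgroup (G ⧸ F), Nat.card H = 2 → H = zpowers ((t : G) : G ⧸ F) := by
        intro H hH
        haveI : Fact (Nat.Prime 2) := ⟨Nat.prime_two⟩
        obtain ⟨⟨q, hqH⟩, hq⟩ := exists_prime_orderOf_dvd_card' (G := H) 2 (by rw [hH])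
        have hq2 : orderOf q = 2 := by rw [← hq, ← Subgroup.orderOf_coe]
        have hqt : q = ((t : G) : G ⧸ F) := by
          obtain ⟨a, rfl⟩ := QuotientGroup.mk_surjective q
          have haF : a ∉ F := by
            intro h
            rw [(QuotientGroup.eq_one_iff a).2 h, orderOf_one] at hq2
            omega
          have ha4 : a ^ 4 = 1 := by
            rcases cases4 ho a with h | h
            · exact h
            · exact absurd (h3F a h) haF
          have ha2F : a ^ 2 ∈ F := by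
            rw [← QuotientGroup.eq_one_iff, QuotientGroup.mk_pow, ← hq2]
            exact pow_orderOf_eq_one _
          have ha2 : a ^ 2 = 1 := by
            have h5 := three_of_mem hF ho ha2F
            have h6 : (a ^ 2) ^ 4 = 1 := by rw [← pow_mul, mul_comm, pow_mul, ha4, one_pow]
            exact eq_one_of_both h6 h5
          have h7 := hinv2 a t (by rw [← pow_two]; exact ha2) (by rintro rfl; exact haF F.one_mem) ht ht1
          have h8 : ((a : G) : G ⧸ F) * (t : G) = 1 := by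
            rw [← QuotientGroup.mk_mul]; exact (QuotientGroup.eq_one_iff _).2 h7
          have h9 : ((t : G) : G ⧸ F) * (t : G) = 1 := by
            rw [← QuotientGroup.mk_mul, ht]; rfl
          exact mul_right_cancel (h8.trans h9.symm)
        rw [← hqt]
        symm
        apply Subgroup.eq_of_le_of_card_ge
        · rw [zpowers_le]; exact hqH
        · rw [hH, Nat.card_zpowers, hq2]
      intro H K hH hK
      rw [key H hH, key K hK]
    obtain ⟨n, ⟨e⟩⟩ := Cfsg.Agent.H23.PQuat.quaternion_of_unique hQ huniq hcyc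
    have h1 : (QuaternionGroup.a 1 : QuaternionGroup (2 ^ n)) ^ 4 = 1 := by
      have := congrArg e (hQ4 (e.symm (QuaternionGroup.a 1)))
      rw [map_pow, e.apply_symm_apply, map_one] at this
      exact this
    haveI : NeZero (2 ^ n) := ⟨by positivity⟩
    have h2 := orderOf_dvd_of_pow_eq_one h1
    rw [QuaternionGroup.orderOf_a_one] at h2
    have h3 := Nat.le_of_dvd (by norm_num) h2
    have h4 : 2 ^ n ≤ 2 ^ 1 := by omega
    have h5 : n ≤ 1 := (Nat.pow_le_pow_iff_right (by norm_num)).1 h4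
    interval_cases n
    · exfalso
      apply hcyc
      haveI : IsCyclic (QuaternionGroup (2 ^ 0)) := QuaternionGroup.quaternionGroup_one_isCyclic
      exact isCyclic_of_surjective e.symm e.symm.surjective
    · exact ⟨e⟩

/-- a nonabelian group of order 6 -/
theorem s3_of {Q : Type*} [Group Q] [Finite Q] (hQ : Nat.card Q = 6) (a b : Q) (ha : a ≠ 1) (ha3 : a ^ 3 = 1)
    (hb : b ≠ 1) (hb2 : b * b = 1) (hab : b * a * b⁻¹ = a⁻¹) : Nonempty (Q ≃* Equiv.Perm (Fin 3)) := by
  classical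
  let U := zpowers b
  have hbo : orderOf b = 2 := orderOf_eq_prime (by rw [pow_two]; exact hb2) hb
  have hUc : Nat.card U = 2 := by rw [Nat.card_zpowers, hbo]
  have hUi : U.index = 3 := by
    have := U.card_mul_index
    rw [hUc, hQ] at this
    omega
  have hUm : ∀ x ∈ U, x = 1 ∨ x = b := by
    intro x hx
    obtain ⟨k, rfl⟩ := mem_zpowers_iff.1 hx
    rcases Int.even_or_odd' k with ⟨m, rfl | rfl⟩
    · left
      rw [zpow_mul]
      have : b ^ (2 : ℤ) = 1 := by
        rw [show (2 : ℤ) = ((2 : ℕ) : ℤ) by rfl, zpow_natCast, pow_two, hb2]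
      rw [this, one_zpow]
    · right
      rw [zpow_add, zpow_mul, zpow_one]
      have : b ^ (2 : ℤ) = 1 := by
        rw [show (2 : ℤ) = ((2 : ℕ) : ℤ) by rfl, zpow_natCast, pow_two, hb2]
      rw [this, one_zpow, one_mul]
  haveI : Fintype (Q ⧸ U) := Fintype.ofFinite _
  have hc' : Fintype.card (Q ⧸ U) = 3 := by rw [← Nat.card_eq_fintype_card]; exact hUi
  let e : (Q ⧸ U) ≃ Fin 3 := Fintype.equivFinOfCardEq hc'
  let φ : Q →* Equiv.Perm (Q ⧸ U) := MulAction.toPermHom Q (Q ⧸ U)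
  have hφ : Function.Injective φ := by
    rw [← MonoidHom.ker_eq_bot_iff]
    have : φ.ker = U.normalCore := (Subgroup.normalCore_eq_ker U).symm
    rw [this, eq_bot_iff]
    intro x hx
    rw [mem_bot]
    rcases hUm x (normalCore_le U hx) with h | h
    · exact h
    · exfalso
      rw [h] at hx
      have h1 : a * b * a⁻¹ ∈ U.normalCore := (inferInstance : U.normalCore.Normal).conj_mem b hx a
      rcases hUm _ (normalCore_le U h1) with h2 | h2
      · exact hb (conj_eq_one_iff.1 h2)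
      · have h3 : a * b = b * a := mul_inv_eq_iff_eq_mul.1 h2
        have h4 : a⁻¹ = a := by
          rw [← hab, ← h3]; group
        have h5 : a * a = 1 := by
          rw [← h4]
          nth_rewrite 2 [h4]
          exact inv_mul_cancel a
        have h6 : a ^ 3 = a := by rw [pow_succ, pow_two, h5, one_mul]
        rw [h6] at ha3
        exact ha ha3
  let E : Equiv.Perm (Q ⧸ U) ≃* Equiv.Perm (Fin 3) := e.permCongrHom
  have hinj : Function.Injective (E.toMonoidHom.comp φ) := E.injective.comp hφ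
  exact ⟨MulEquiv.ofBijective _ ((Nat.bijective_iff_injective_and_card _).2 ⟨hinj, by
    rw [hQ, Nat.card_perm, Nat.card_eq_fintype_card, Fintype.card_fin]; rfl⟩)⟩

end H7.Ord4
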