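import Cfsg.Agent.H7_Ord4b

set_option autoImplicit false
open Cfsg

namespace H7.Ord4

open Subgroup
open scoped commutatorElement

variable {G : Type*} [Group G] [Finite G]

theorem sylow_three_card (ho : ∀ g : G, orderOf g ≤ 4) (F : Subgroup G) [hFn : F.Normal] (hF : IsPGroup 2 F)
    (hFb : F ≠ ⊥) (R : Sylow 3 G) (h3 : 3 ∣ Nat.card G) : Nat.card R = 3 := by
  haveI : Fact (Nat.Prime 3) := ⟨Nat.prime_three⟩
  haveI : Fact (Nat.Prime 2) := ⟨Nat.prime_two⟩
  haveI : Nontrivial F := (nontrivial_iff_ne_bot F).2 hFb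
  have hcent : Nontrivial (center F) := hF.center_nontrivial
  let V : Subgroup G := (center F).map F.subtype
  have hVn : V.Normal := ConjAct.normal_of_characteristic_of_normal
  have hVF : V ≤ F := map_subtype_le _
  have hVb : V ≠ ⊥ := by
    intro h
    have h1 : center F = ⊥ := by
      apply map_injective F.subtype_injective
      rw [Subgroup.map_bot]; exact h
    exact (nontrivial_iff_ne_bot _).1 hcent h1
  haveI hVc : IsMulCommutative V := by
    refine ⟨⟨?_⟩⟩
    rintro ⟨_, ⟨a, ha, rfl⟩⟩ ⟨_, ⟨b, hb, rfl⟩⟩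
    apply Subtype.ext
    have := mem_center_iff.1 hb a
    show ((a * b : F) : G) = ((b * a : F) : G)
    rw [this]
  have hcyc : IsCyclic (R : Subgroup G) := by
    refine Cfsg.Agent.H12.CN.sylow_cyclic_of_fpf (P := (R : Subgroup G)) (V := V) (p := 3) (by norm_num) R.isPGroup' hVb ?_ ?_
    · rw [normalizer_eq_top]; exact le_top
    · intro e he he1
      rw [eq_bot_iff]
      rintro v ⟨hv, hve⟩
      have h1 : e ^ 3 = 1 := three_of_mem R.isPGroup' ho he
      have h2 : v ^ 4 = 1 := two_of_mem hF ho (hVF hv)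
      have h3 : v * e = e * v := mem_centralizer_singleton_iff.1 hve
      rcases nc ho h2 h1 h3 with h | h
      · rw [mem_bot]; exact h
      · exact absurd h he1
  obtain ⟨g, hg⟩ := hcyc.exists_generator
  have h1 : orderOf g = Nat.card (R : Subgroup G) := orderOf_eq_card_of_forall_mem_zpowers hg
  have h2 : Nat.card (R : Subgroup G) ∣ 3 := by
    rw [← h1]
    apply orderOf_dvd_of_pow_eq_one
    exact Subtype.ext (three_of_mem R.isPGroup' ho g.2)
  have h4 : 3 ∣ Nat.card (R : Subgroup G) := R.dvd_card_of_dvd_card h3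
  exact Nat.dvd_antisymm h2 h4

theorem class_two {F : Type*} [Group F] [Finite F] [Nontrivial F] (α : MulAut F) (h3 : ∀ x, α (α (α x)) = x)
    (hfix : ∀ x, α x = x → x = 1) : (⊤ : Subgroup F).lowerCentralSeries 2 = ⊥ := by
  haveI : Fact (Nat.Prime 3) := ⟨Nat.prime_three⟩
  have ha : orderOf α = 3 := by
    apply orderOf_eq_prime
    · ext x
      exact h3 x
    · intro h
      obtain ⟨x, hx⟩ := exists_ne (1 : F)
      apply hx
      apply hfix
      rw [h]; rfl
  exact (Cfsg.Agent.S3779.result Nat.prime_three α ha hfix).2.1 rfl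

theorem comm_central {F : Type*} [Group F] (h : (⊤ : Subgroup F).lowerCentralSeries 2 = ⊥) (a b c : F) :
    ⁅a, b⁆ * c = c * ⁅a, b⁆ := by
  have h1 : ⁅⁅a, b⁆, c⁆ ∈ (⊤ : Subgroup F).lowerCentralSeries 2 := by
    apply commutator_mem_commutator _ (mem_top c)
    exact commutator_mem_commutator (mem_top a) (mem_top b)
  rw [h, mem_bot] at h1
  exact commutatorElement_eq_one_iff_mul_comm.1 h1

theorem caseB (ho : ∀ g : G, orderOf g ≤ 4) (hsol : Group.IsSolvable G) (F : Subgroup G) [hFn : F.Normal] (hF : IsPGroup 2 F)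
    (hFmax : ∀ N : Subgroup G, N.Normal → IsPGroup 2 N → N ≤ F)
    (hC : centralizer (F : Set G) ≤ F) (u : G) (hu : orderOf u = 4) (r : G) (hr : orderOf r = 3) :
    (IsPGroup 2 ↥F ∧ Monoid.exponent ↥F = 4 ∧ Group.nilpotencyClass ↥F ≤ 2 ∧ F.index = 3) ∨
      (IsElementaryAbelian 2 F ∧ Nonempty (G ⧸ F ≃* Equiv.Perm (Fin 3))) := by
  classical
  haveI f3 : Fact (Nat.Prime 3) := ⟨Nat.prime_three⟩
  haveI f2 : Fact (Nat.Prime 2) := ⟨Nat.prime_two⟩
  have hr3 : r ^ 3 = 1 := by rw [← hr]; exact pow_orderOf_eq_one r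
  have hr1 : r ≠ 1 := by rintro rfl; rw [orderOf_one] at hr; omega
  have hu4 : u ^ 4 = 1 := by rw [← hu]; exact pow_orderOf_eq_one u
  have hrF : r ∉ F := fun h => hr1 (eq_one_of_both (two_of_mem hF ho h) hr3)
  have hFb : F ≠ ⊥ := by
    rintro rfl
    apply hrF
    apply hC
    rw [mem_centralizer_iff]
    intro x hx
    rw [mem_bot.1 hx, one_mul, mul_one]
  haveI : Nontrivial F := (nontrivial_iff_ne_bot F).2 hFb
  have h3G : 3 ∣ Nat.card G := by rw [← hr]; exact orderOf_dvd_natCard r
  -- the automorphism r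
  have hfpf : ∀ s : G, s ^ 3 = 1 → s ≠ 1 → ∀ x ∈ F, s * x = x * s → x = 1 := by
    intro s hs hs1 x hx hsx
    rcases nc ho (two_of_mem hF ho hx) hs hsx.symm with h | h
    · exact h
    · exact absurd h hs1
  let ρ : MulAut F := MulAut.conjNormal (H := F) r
  have hρ : ∀ v : F, ((ρ v : F) : G) = r * v * r⁻¹ := fun v => MulAut.conjNormal_apply r v
  have hρ3 : ∀ v, ρ (ρ (ρ v)) = v := by
    intro v
    apply Subtype.ext
    rw [hρ, hρ, hρ]
    have e3 : r * r * r = 1 := by rw [← hr3, pow_succ, pow_two]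
    calc r * (r * (r * (v : G) * r⁻¹) * r⁻¹) * r⁻¹ = (r * r * r) * v * (r * r * r)⁻¹ := by group
      _ = v := by rw [e3]; group
  have hρf : ∀ v, ρ v = v → v = 1 := by
    intro v hv
    have h1 := congrArg Subtype.val hv
    rw [hρ] at h1
    apply Subtype.ext
    exact hfpf r hr3 hr1 v v.2 (mul_inv_eq_iff_eq_mul.1 h1)
  have hcl := class_two ρ hρ3 hρf
  -- the quotient
  let π := QuotientGroup.mk' F
  have hk : ∀ g : G, π g = 1 ↔ g ∈ F := fun g => QuotientGroup.eq_one_iff g
  have hπs : Function.Surjective π := QuotientGroup.mk'_surjective F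
  haveI : Group.IsSolvable (G ⧸ F) := inferInstance
  let L : Subgroup (G ⧸ F) := pCore 3 (G ⧸ F)
  have hLn : L.Normal := Cfsg.Agent.H1.Nilp.pCore_normal 3
  have hLp : IsPGroup 3 L := Cfsg.Agent.H1.Nilp.pCore_isPGroup 3
  have hpp : pPrimeCore 3 (G ⧸ F) = ⊥ := by
    have hn : (pPrimeCore 3 (G ⧸ F)).Normal := Cfsg.Agent.H1.Nilp.pPrimeCore_normal 3
    have hc := Cfsg.Agent.H1.Nilp.pPrimeCore_coprime (G := G ⧸ F) 3
    have h1 : (pPrimeCore 3 (G ⧸ F)).comap π ≤ F := by
      apply hFmax
      · exact hn.comap π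
      · rintro ⟨g, hg⟩
        refine ⟨2, Subtype.ext ?_⟩
        show g ^ 2 ^ 2 = 1
        rcases cases4 ho g with h | h
        · exact h
        · have h2 : π g = 1 := by
            have h3 : orderOf (π g) ∣ 3 := orderOf_dvd_of_pow_eq_one (by rw [← map_pow, h, map_one])
            have h4 : orderOf (π g) ∣ Nat.card (pPrimeCore 3 (G ⧸ F)) := Subgroup.orderOf_dvd_natCard _ hg
            exact orderOf_eq_one_iff.1 (Nat.eq_one_of_dvd_coprimes hc h4 h3)
          exact two_of_mem hF ho ((hk g).1 h2)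
    rw [eq_bot_iff]
    intro q hq
    obtain ⟨g, rfl⟩ := hπs q
    rw [mem_bot]
    exact (hk g).2 (h1 hq)
  have hCL : centralizer (L : Set (G ⧸ F)) ≤ L := Cfsg.Agent.H1.Hall.centralizer_pCore_le 3 hpp
  have hLb : L ≠ ⊥ := by
    intro h
    rw [h] at hCL
    have h1 : π r ∈ (⊥ : Subgroup (G ⧸ F)) := by
      apply hCL
      rw [mem_centralizer_iff]
      intro x hx
      rw [mem_bot.1 hx, one_mul, mul_one]
    exact hrF ((hk r).1 (mem_bot.1 h1))
  let R : Sylow 3 G := default
  have hRc := fun R : Sylow 3 G => sylow_three_card ho F hF hFb R h3G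
  have hL3 : Nat.card L = 3 := by
    obtain ⟨k, hk3⟩ := IsPGroup.iff_card.1 hLp
    have h1 : 3 ^ k ∣ Nat.card G := by
      rw [← hk3]
      exact (Subgroup.card_subgroup_dvd_card L).trans (Subgroup.card_quotient_dvd_card F)
    have h2 : 3 ^ k ∣ Nat.card R := R.pow_dvd_card_of_pow_dvd_card h1
    rw [hRc] at h2
    have h3 : k ≤ 1 := by
      have := Nat.le_of_dvd (by norm_num) h2
      by_contra h
      have h4 : 3 ^ 2 ≤ 3 ^ k := Nat.pow_le_pow_right (by norm_num) (by omega)
      omega
    interval_cases k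
    · exfalso
      rw [pow_zero] at hk3
      exact hLb (Subgroup.card_eq_one.1 hk3)
    · exact hk3
  -- generator of L
  obtain ⟨⟨l, hlL⟩, hl⟩ := exists_prime_orderOf_dvd_card' (G := L) 3 (by rw [hL3])
  have hl3 : orderOf l = 3 := by rw [← hl, ← Subgroup.orderOf_coe]
  have hlp : l ^ 3 = 1 := by rw [← hl3]; exact pow_orderOf_eq_one l
  have hl1 : l ≠ 1 := by rintro rfl; rw [orderOf_one] at hl3; omega
  have hLz : L = zpowers l := by
    symm
    apply Subgroup.eq_of_le_of_card_ge
    · rw [zpowers_le]; exact hlL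
    · rw [hL3, Nat.card_zpowers, hl3]
  have hmem3 : ∀ {A : Type _} [Group A] (a : A), a ^ 3 = 1 → ∀ x ∈ zpowers a, x = 1 ∨ x = a ∨ x = a⁻¹ := by
    intro A _ a ha x hx
    obtain ⟨k, rfl⟩ := mem_zpowers_iff.1 hx
    have ha3 : a ^ (3 : ℤ) = 1 := by rw [show (3 : ℤ) = ((3 : ℕ) : ℤ) by rfl, zpow_natCast, ha]
    have h1 : k % 3 = 0 ∨ k % 3 = 1 ∨ k % 3 = 2 := by omega
    rcases h1 with h | h | h
    · left
      rw [← Int.emod_add_mul_ediv k 3, h, zero_add, zpow_mul, ha3, one_zpow]
    · right; left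
      rw [← Int.emod_add_mul_ediv k 3, h, zpow_add, zpow_one, zpow_mul, ha3, one_zpow, mul_one]
    · right; right
      rw [← Int.emod_add_mul_ediv k 3, h, zpow_add, zpow_mul, ha3, one_zpow, mul_one]
      rw [eq_inv_iff_mul_eq_one]
      have : a ^ (2 : ℤ) * a = a ^ (3 : ℤ) := by group
      rw [this, ha3]
  have hCl : centralizer ({l} : Set (G ⧸ F)) = L := by
    apply le_antisymm
    · intro x hx
      apply hCL
      rw [mem_centralizer_iff]
      intro y hy
      rw [hLz] at hy
      have h1 : l ∈ centralizer ({x} : Set (G ⧸ F)) := by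
        rw [mem_centralizer_singleton_iff]; exact (mem_centralizer_singleton_iff.1 hx).symm
      have h2 : zpowers l ≤ centralizer ({x} : Set (G ⧸ F)) := by rw [zpowers_le]; exact h1
      exact mem_centralizer_singleton_iff.1 (h2 hy)
    · rw [hLz, zpowers_le, mem_centralizer_singleton_iff]
  have hout : ∀ a : G ⧸ F, a ∉ L → a * l * a⁻¹ = l⁻¹ := by
    intro a ha
    have h1 : a * l * a⁻¹ ∈ zpowers l := by rw [← hLz]; exact hLn.conj_mem l hlL a
    rcases hmem3 l hlp _ h1 with h | h | h
    · exact absurd (conj_eq_one_iff.1 h) hl1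
    · exfalso
      apply ha
      rw [← hCl, mem_centralizer_singleton_iff]
      exact mul_inv_eq_iff_eq_mul.1 h
    · exact h
  by_cases htop : L = ⊤
  · left
    have hidx : F.index = 3 := by
      have : Nat.card (G ⧸ F) = 3 := by
        rw [← hL3, htop, Subgroup.card_top]
      exact this
    refine ⟨hF, ?_, ?_, hidx⟩
    · have huF : u ∈ F := by
        rw [← hk]
        have h1 : (π u) ^ 3 = 1 := by
          have : Nat.card (G ⧸ F) = 3 := hidx
          rw [← this]; exact pow_card_eq_one'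
        have h2 : (π u) ^ 4 = 1 := by rw [← map_pow, hu4, map_one]
        exact eq_one_of_both h2 h1
      apply Nat.dvd_antisymm
      · apply Monoid.exponent_dvd_of_forall_pow_eq_one
        rintro ⟨x, hx⟩
        exact Subtype.ext (two_of_mem hF ho hx)
      · have h1 : orderOf (⟨u, huF⟩ : F) = 4 := by rw [← hu, ← Subgroup.orderOf_coe]
        rw [← h1]
        exact Monoid.order_dvd_exponent _
    · haveI : Group.IsNilpotent F := hF.isNilpotent
      exact Subgroup.lowerCentralSeries_eq_bot_iff_nilpotencyClass_le.1 hcl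
  · right
    obtain ⟨q, hq⟩ : ∃ q : G ⧸ F, q ∉ L := by
      by_contra h
      push Not at h
      exact htop (eq_top_iff.2 fun x _ => h x)
    have hLi : L.index = 2 := by
      rw [Subgroup.index_eq_two_iff]
      refine ⟨q, fun b => ?_⟩
      by_cases hb : b ∈ L
      · right
        refine ⟨hb, fun h => hq ((L.mul_mem_cancel_left hb).1 h)⟩
      · left
        refine ⟨?_, hb⟩
        rw [← hCl, mem_centralizer_singleton_iff]
        have h1 : b * q * l * (b * q)⁻¹ = l := by
          calc b * q * l * (b * q)⁻¹ = b * (q * l * q⁻¹) * b⁻¹ := by group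
            _ = b * l⁻¹ * b⁻¹ := by rw [hout q hq]
            _ = (b * l * b⁻¹)⁻¹ := by group
            _ = l := by rw [hout b hb, inv_inv]
        exact mul_inv_eq_iff_eq_mul.1 h1
    have hQ6 : Nat.card (G ⧸ F) = 6 := by
      have := L.card_mul_index
      rw [hL3, hLi] at this
      omega
    have hsq : ∀ x : G ⧸ F, x ^ 2 ∈ L := fun x => by
      have := Subgroup.pow_index_mem L x
      rwa [hLi] at this
    let K : Subgroup G := L.comap π
    haveI hKn : K.Normal := hLn.comap π
    have hrK : r ∈ K := by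
      show π r ∈ L
      have h1 := L.mul_mem (hsq (π r)) (hsq (π r))
      have h2 : π r ^ 2 * π r ^ 2 = π r := by
        have : (π r) ^ 3 = 1 := by rw [← map_pow, hr3, map_one]
        calc π r ^ 2 * π r ^ 2 = π r ^ 3 * π r := by rw [← pow_add, ← pow_succ]
          _ = π r := by rw [this, one_mul]
      rwa [h2] at h1
    have hrp : IsPGroup 3 (zpowers r) := IsPGroup.of_card (n := 1) (by rw [Nat.card_zpowers, hr]; norm_num)
    obtain ⟨P, hP⟩ := hrp.exists_le_sylow
    have hPr : (P : Subgroup G) = zpowers r := by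
      symm
      apply Subgroup.eq_of_le_of_card_ge hP
      rw [Nat.card_zpowers, hr]; exact (hRc P).le
    have hPK : (P : Subgroup G) ≤ K := by rw [hPr, zpowers_le]; exact hrK
    have hfr := Sylow.normalizer_sup_eq_top' P hPK
    obtain ⟨a, ha⟩ := hπs q
    have haK : a ∉ K := by intro h; apply hq; rw [← ha]; exact h
    have ha' : a ∈ Subgroup.normalizer (P : Set G) ⊔ K := by rw [hfr]; exact mem_top a
    rw [← SetLike.mem_coe, Subgroup.mul_normal] at ha'
    obtain ⟨t, ht, k, hkK, htk⟩ := ha'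
    replace htk : t * k = a := htk
    have htK : t ∉ K := by
      intro h
      apply haK
      rw [← htk]; exact K.mul_mem h hkK
    have ht2K : t ^ 2 ∈ K := by
      show π (t ^ 2) ∈ L
      rw [map_pow]; exact hsq _
    have ht4 : t ^ 4 = 1 := by
      rcases cases4 ho t with h | h
      · exact h
      · exfalso
        apply htK
        have h1 : t = t ^ 3 * (t ^ 2)⁻¹ := by group
        rw [h1, h, one_mul]
        exact K.inv_mem ht2K
    have ht1 : t ≠ 1 := by rintro rfl; exact htK K.one_mem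
    have htr : t * r * t⁻¹ = r⁻¹ := by
      have h1 : t * r * t⁻¹ ∈ zpowers r := by
        rw [← hPr]
        have h2 : r ∈ (P : Subgroup G) := hP (mem_zpowers r)
        exact (mem_normalizer_iff.1 ht r).1 h2
      rcases hmem3 r hr3 _ h1 with h | h | h
      · exact absurd (conj_eq_one_iff.1 h) hr1
      · exfalso
        rcases nc ho ht4 hr3 (mul_inv_eq_iff_eq_mul.1 h) with h2 | h2
        · exact ht1 h2
        · exact hr1 h2
      · exact h
    have ht2 : t * t = 1 := by
      have h1 : t ^ 2 * r * (t ^ 2)⁻¹ = r := by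
        calc t ^ 2 * r * (t ^ 2)⁻¹ = t * (t * r * t⁻¹) * t⁻¹ := by rw [pow_two]; group
          _ = t * r⁻¹ * t⁻¹ := by rw [htr]
          _ = (t * r * t⁻¹)⁻¹ := by group
          _ = r := by rw [htr, inv_inv]
      rcases nc ho (show (t ^ 2) ^ 4 = 1 by rw [← pow_mul, mul_comm, pow_mul, ht4, one_pow]) hr3
        (mul_inv_eq_iff_eq_mul.1 h1) with h2 | h2
      · rw [← pow_two]; exact h2
      · exact absurd h2 hr1
    have hti : t⁻¹ = t := inv_eq_of_mul_eq_one_left ht2
    let τ : MulAut F := MulAut.conjNormal (H := F) t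
    have hτ : ∀ v : F, ((τ v : F) : G) = t * v * t⁻¹ := fun v => MulAut.conjNormal_apply t v
    have hFK : F ≤ K := by
      intro x hx
      show π x ∈ L
      rw [(hk x).2 hx]; exact L.one_mem
    have hexp := exp_two ρ τ hρ3 (by
        intro v
        apply Subtype.ext
        rw [hτ, hτ]
        calc t * (t * (v : G) * t⁻¹) * t⁻¹ = (t * t) * v * (t * t)⁻¹ := by group
          _ = v := by rw [ht2]; group) (by
        intro v
        apply Subtype.ext
        rw [hτ, hρ, hρ, hρ, hτ]
        have e1 : t * r = r * r * t := by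
          have : t * r = r⁻¹ * t := mul_inv_eq_iff_eq_mul.1 htr
          rw [this]
          have h5 : r⁻¹ = r * r := by
            rw [inv_eq_iff_mul_eq_one, ← hr3, pow_succ, pow_two, mul_assoc]
          rw [h5]
        calc t * (r * (v : G) * r⁻¹) * t⁻¹ = (t * r) * v * (t * r)⁻¹ := by group
          _ = (r * r * t) * v * (r * r * t)⁻¹ := by rw [e1]
          _ = _ := by group) hρf (comm_central hcl) (by
        intro v
        apply Subtype.ext
        show (((τ v : F) : G) * (v : G)) ^ 2 = 1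
        rw [hτ, hti]
        have h1 : (t * (v : G)) ^ 4 = 1 := by
          rcases cases4 ho (t * (v : G)) with h | h
          · exact h
          · exfalso
            apply htK
            apply hFK
            rw [← hk]
            have h2 := congrArg π h
            rw [map_pow, map_mul, (hk v).2 v.2, mul_one, map_one] at h2
            have h3 : (π t) ^ 4 = 1 := by rw [← map_pow, ht4, map_one]
            exact eq_one_of_both h3 h2
        calc (t * (v : G) * t * v) ^ 2 = (t * (v : G)) ^ 4 := by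
              rw [show (4 : ℕ) = 2 * 2 by norm_num, pow_mul]
              congr 1
              rw [pow_two]; group
          _ = 1 := h1)
    refine ⟨⟨⟨⟨?_⟩⟩, fun x hx => congrArg Subtype.val (hexp ⟨x, hx⟩)⟩, ?_⟩
    · intro x y
      have h1 := hexp x
      have h2 := hexp y
      have h3 := hexp (x * y)
      have e1 : x⁻¹ = x := by rw [inv_eq_iff_mul_eq_one, ← pow_two]; exact h1
      have e2 : y⁻¹ = y := by rw [inv_eq_iff_mul_eq_one, ← pow_two]; exact h2
      have e3 : (x * y)⁻¹ = x * y := by rw [inv_eq_iff_mul_eq_one, ← pow_two]; exact h3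
      rw [← e3, mul_inv_rev, e1, e2]
    · refine s3_of hQ6 (π r) (π t) (fun h => hrF ((hk r).1 h)) (by rw [← map_pow, hr3, map_one])
        (fun h => htK (hFK ((hk t).1 h))) (by rw [← map_mul, ht2, map_one]) ?_
      rw [← map_mul, ← map_inv, ← map_mul, htr, map_inv]

end H7.Ord4
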