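import Cfsg.Agent.H8_Net

/-!
Group actions from networks: orders and simplicity of groups acting on `Fin n`.
-/

set_option autoImplicit false

namespace Cfsg.Agent.H8.Act

open CE Net

/-! ### Permutations of the letters -/

/-- list of inverse pairs -/
def invPairs (ic : ℕ) : List (List ℕ × List ℕ) :=
  (List.range 16).flatMap fun y => [([y, il ic y], []), ([il ic y, y], [])]

/-- check of the inverse letters -/
noncomputable def invOk (L : List Nt) (n k ic : ℕ) : Bool := eqAll L n k (invPairs ic)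

section
variable {L : List Nt} {n k ic : ℕ}

theorem invOk_sound (hs : sysOk L n = true) (hn : n ≤ 2 ^ k) (hi : invOk L n k ic = true) (y : ℕ) (hy : y < 16) :
    (∀ i, i < n → (net L (il ic y)).pos ((net L y).pos i) = i) ∧
    (∀ i, i < n → (net L y).pos ((net L (il ic y)).pos i) = i) := by
  have h := eqAll_sound hi
  constructor
  · intro i hin
    exact eqW_sound hs hn (h ([y, il ic y], []) (by
      rw [invPairs, List.mem_flatMap]
      exact ⟨y, List.mem_range.2 hy, by simp⟩)) i hin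
  · intro i hin
    exact eqW_sound hs hn (h ([il ic y, y], []) (by
      rw [invPairs, List.mem_flatMap]
      exact ⟨y, List.mem_range.2 hy, by simp⟩)) i hin

/-- the permutations attached to the letters -/
noncomputable def xP (hs : sysOk L n = true) (hn : n ≤ 2 ^ k) (hi : invOk L n k ic = true) (y : ℕ) :
    Equiv.Perm (Fin n) :=
  if hy : y < 16 then
    { toFun := fun i => ⟨(net L (il ic y)).pos i, ((net_mem hs _).2 _).2 i.2⟩
      invFun := fun i => ⟨(net L y).pos i, ((net_mem hs _).2 _).2 i.2⟩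
      left_inv := fun i => Fin.ext ((invOk_sound hs hn hi y hy).2 i i.2)
      right_inv := fun i => Fin.ext ((invOk_sound hs hn hi y hy).1 i i.2) }
  else 1

theorem xP_inv_apply (hs : sysOk L n = true) (hn : n ≤ 2 ^ k) (hi : invOk L n k ic = true) (y : ℕ)
    (hy : y < 16) (i : Fin n) : ((((xP hs hn hi y)⁻¹ : Equiv.Perm (Fin n)) i : Fin n) : ℕ) = (net L y).pos i := by
  unfold xP
  rw [dif_pos hy]
  rfl

/-- compatibility of a homomorphism to permutations with the networks of the letters -/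
def Compat {G : Type*} [Group G] (φ : G →* Equiv.Perm (Fin n)) (x : ℕ → G) (L : List Nt) : Prop :=
  ∀ y, y < 16 → ∀ i : Fin n, ((((φ (x y))⁻¹ : Equiv.Perm (Fin n)) i : Fin n) : ℕ) = (net L y).pos i

theorem compat_ev {G : Type*} [Group G] {φ : G →* Equiv.Perm (Fin n)} {x : ℕ → G} (h : Compat φ x L) :
    ∀ (w : List ℕ), (∀ y ∈ w, y < 16) → ∀ i : Fin n,
      ((((φ (ev x w))⁻¹ : Equiv.Perm (Fin n)) i : Fin n) : ℕ) = tr L w i
  | [], _, i => by simp [tr]
  | y :: w, hw, i => by
    have h1 := h y (hw y (by simp)) i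
    have h2 : ((φ (ev x (y :: w)))⁻¹ : Equiv.Perm (Fin n)) i =
      ((φ (ev x w))⁻¹ : Equiv.Perm (Fin n)) (((φ (x y))⁻¹ : Equiv.Perm (Fin n)) i) := by
      rw [ev_cons, map_mul, mul_inv_rev]; rfl
    rw [h2, compat_ev h w (fun z hz => hw z (by simp [hz])), h1]
    rfl

theorem compat_id (hs : sysOk L n = true) (hn : n ≤ 2 ^ k) (hi : invOk L n k ic = true) :
    Compat (MonoidHom.id (Equiv.Perm (Fin n))) (xP hs hn hi) L := fun y hy i => xP_inv_apply hs hn hi y hy i

/-- relators act trivially -/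
theorem ev_xP_eq (hs : sysOk L n = true) (hn : n ≤ 2 ^ k) (hi : invOk L n k ic = true) {u w : List ℕ}
    (hu : ∀ y ∈ u, y < 16) (hw : ∀ y ∈ w, y < 16)
    (he : eqW L n k u w = true) : ev (xP hs hn hi) u = ev (xP hs hn hi) w := by
  have h1 := compat_ev (compat_id hs hn hi) u hu
  have h2 := compat_ev (compat_id hs hn hi) w hw
  apply inv_injective
  ext i
  have h3 := h1 i
  have h4 := h2 i
  rw [MonoidHom.id_apply] at h3 h4
  rw [h3, h4]
  exact eqW_sound hs hn he i i.2

/-- in a faithful action words acting in the same way are equal -/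
theorem ev_eq_of_inj {G : Type*} [Group G] {φ : G →* Equiv.Perm (Fin n)} {x : ℕ → G} (h : Compat φ x L)
    (hinj : Function.Injective φ) (hs : sysOk L n = true) (hn : n ≤ 2 ^ k) {u w : List ℕ}
    (hu : ∀ y ∈ u, y < 16) (hw : ∀ y ∈ w, y < 16)
    (he : eqW L n k u w = true) : ev x u = ev x w := by
  apply hinj
  apply inv_injective
  ext i
  rw [compat_ev h u hu, compat_ev h w hw]
  exact eqW_sound hs hn he i i.2

end

/-! ### Orders -/

/-- the pointwise stabilizer of a list of points -/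
def stabs {G : Type*} [Group G] {X : Type*} (φ : G →* Equiv.Perm X) : List X → Subgroup G
  | [] => ⊤
  | b :: l => stabs φ l ⊓ (MulAction.stabilizer (Equiv.Perm X) b).comap φ

theorem mem_stabs {G : Type*} [Group G] {X : Type*} (φ : G →* Equiv.Perm X) (l : List X) (g : G) :
    g ∈ stabs φ l ↔ ∀ b ∈ l, φ g b = b := by
  induction l with
  | nil => simp [stabs]
  | cons b l ih =>
    rw [stabs, Subgroup.mem_inf, ih, Subgroup.mem_comap, MulAction.mem_stabilizer_iff]
    simp only [List.mem_cons, forall_eq_or_imp, Equiv.Perm.smul_def]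
    tauto

theorem card_level {G : Type*} [Group G] [Finite G] {X : Type*} (φ : G →* Equiv.Perm X) (l : List X) (b : X)
    (F : Finset X) (hF : ∀ i ∈ F, ∃ g ∈ stabs φ l, φ g b = i) :
    F.card * Nat.card (stabs φ (b :: l)) ≤ Nat.card (stabs φ l) := by
  classical
  choose g hg hgb using hF
  let f : {i // i ∈ F} × (stabs φ (b :: l)) → stabs φ l := fun p =>
    ⟨g p.1.1 p.1.2 * (p.2 : G), (stabs φ l).mul_mem (hg _ _) (Subgroup.mem_inf.1 p.2.2).1⟩
  have hinj : Function.Injective f := by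
    rintro ⟨⟨i, hi⟩, h⟩ ⟨⟨i', hi'⟩, h'⟩ heq
    have h1 : g i hi * (h : G) = g i' hi' * (h' : G) := congrArg Subtype.val heq
    have h2 : i = i' := by
      have h3 : φ (g i hi * (h : G)) b = φ (g i' hi' * (h' : G)) b := by rw [h1]
      rw [map_mul, map_mul, Equiv.Perm.mul_apply, Equiv.Perm.mul_apply,
        (mem_stabs φ _ _).1 h.2 b (by simp), (mem_stabs φ _ _).1 h'.2 b (by simp), hgb, hgb] at h3
      exact h3
    subst h2
    have h4 : (h : G) = (h' : G) := mul_left_cancel h1
    have h5 : h = h' := Subtype.ext h4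
    subst h5
    rfl
  have h1 := Nat.card_le_card_of_injective f hinj
  rw [Nat.card_prod, Nat.card_eq_fintype_card (α := {i // i ∈ F}), Fintype.card_coe] at h1
  exact h1

/-- levels of a stabilizer chain: letters, number of rounds, base point, orbit length -/
structure Lev where
  ys : List ℕ
  r : ℕ
  b : ℕ
  m : ℕ

/-- check of a stabilizer chain (`bs` are the earlier base points) -/
noncomputable def chainB (L : List Nt) (n k : ℕ) (ls : List Lev) : List ℕ → Bool :=
  List.rec (motive := fun _ => List ℕ → Bool) (fun _ => true)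
    (fun l _ ih bs => Bool.rec false (Bool.rec false (Bool.rec false (ih (l.b :: bs)) (reachN L l.ys l.r l.b k l.m))
      (fixP L l.ys bs)) (Nat.blt l.b n)) ls

/-- product of the orbit lengths -/
def prodM (ls : List Lev) : ℕ := (ls.map Lev.m).prod

section
variable {L : List Nt} {n k : ℕ}

theorem chain_sound {G : Type*} [Group G] [Finite G] {φ : G →* Equiv.Perm (Fin n)}
    (hs : sysOk L n = true)
    (hL : ∀ y, ∃ g : G, ∀ i : Fin n, ((((φ g)⁻¹ : Equiv.Perm (Fin n)) i : Fin n) : ℕ) = (net L y).pos i)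
    (ls : List Lev) : ∀ (bs : List ℕ) (bs' : List (Fin n)), bs'.map Fin.val = bs →
    chainB L n k ls bs = true → ∃ bs'' : List (Fin n),
      prodM ls * Nat.card (stabs φ bs'') ≤ Nat.card (stabs φ bs') := by
  induction ls with
  | nil => intro bs bs' _ _; exact ⟨bs', by simp [prodM]⟩
  | cons l ls ih =>
    intro bs bs' hbs h
    have h1 : chainB L n k (l :: ls) bs = Bool.rec false (Bool.rec false (Bool.rec false
      (chainB L n k ls (l.b :: bs)) (reachN L l.ys l.r l.b k l.m)) (fixP L l.ys bs)) (Nat.blt l.b n) := rfl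
    rw [h1] at h
    cases hb1 : Nat.blt l.b n
    · rw [hb1] at h; exact absurd h (by simp)
    rw [hb1] at h
    have h : (Bool.rec false (Bool.rec false
      (chainB L n k ls (l.b :: bs)) (reachN L l.ys l.r l.b k l.m)) (fixP L l.ys bs) : Bool) = true := h
    cases hb2 : fixP L l.ys bs
    · rw [hb2] at h; exact absurd h (by simp)
    rw [hb2] at h
    have h : (Bool.rec false
      (chainB L n k ls (l.b :: bs)) (reachN L l.ys l.r l.b k l.m) : Bool) = true := h
    cases hb3 : reachN L l.ys l.r l.b k l.m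
    · rw [hb3] at h; exact absurd h (by simp)
    rw [hb3] at h
    have h : chainB L n k ls (l.b :: bs) = true := h
    have hbn : l.b < n := blt_eq.1 hb1
    let β : Fin n := ⟨l.b, hbn⟩
    obtain ⟨bs'', hbs''⟩ := ih (l.b :: bs) (β :: bs') (by rw [List.map_cons, hbs]) h
    refine ⟨bs'', ?_⟩
    -- the letters act by elements of the stabilizer
    have hfix := fixP_sound hs hb2
    have hlet : ∀ y ∈ l.ys, ∃ g ∈ stabs φ bs', ∀ i : Fin n,
        ((((φ g)⁻¹ : Equiv.Perm (Fin n)) i : Fin n) : ℕ) = (net L y).pos i := by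
      intro y hy
      obtain ⟨g, hg⟩ := hL y
      refine ⟨g, ?_, hg⟩
      rw [mem_stabs]
      intro b hb
      have h2 : (b : ℕ) ∈ bs := by rw [← hbs]; exact List.mem_map_of_mem hb
      have h3 := hg b
      rw [hfix (b : ℕ) h2 y hy] at h3
      have h4 : ((φ g)⁻¹ : Equiv.Perm (Fin n)) b = b := Fin.ext h3
      rw [Equiv.Perm.inv_eq_iff_eq] at h4
      exact h4.symm
    obtain ⟨F, hF1, hF2⟩ := reachN_sound hs hb3
      (P := fun i => ∃ hi : i < n, ∃ g ∈ stabs φ bs', φ g β = ⟨i, hi⟩)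
      ⟨hbn, 1, one_mem _, by simp [β]⟩ (by
        intro y hy i hP
        obtain ⟨hi, g, hg, hgb⟩ := hP
        obtain ⟨z, hz, hzi⟩ := hlet y hy
        have hin : i < n := ((net_mem hs y).2 i).1 hi
        refine ⟨hin, z * g, mul_mem hz hg, ?_⟩
        rw [map_mul, Equiv.Perm.mul_apply, hgb]
        have h3 := hzi ⟨i, hin⟩
        have h4 : ((φ z)⁻¹ : Equiv.Perm (Fin n)) ⟨i, hin⟩ = ⟨(net L y).pos i, hi⟩ := Fin.ext h3
        rw [Equiv.Perm.inv_eq_iff_eq] at h4
        exact h4.symm)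
    classical
    let F' : Finset (Fin n) := F.attach.map ⟨fun i => ⟨i.1, (hF2 i.1 i.2).1⟩, fun a b hab =>
      Subtype.ext (congrArg Fin.val hab)⟩
    have hF' : F'.card = F.card := by simp [F']
    have h5 := card_level φ bs' β F' (by
      intro i hi
      obtain ⟨j, _, rfl⟩ := Finset.mem_map.1 hi
      obtain ⟨hj, g, hg, hgb⟩ := hF2 j.1 j.2
      exact ⟨g, hg, hgb⟩)
    rw [hF'] at h5
    have h6 : prodM (l :: ls) = l.m * prodM ls := by simp [prodM]
    rw [h6]
    calc l.m * prodM ls * Nat.card (stabs φ bs'') = l.m * (prodM ls * Nat.card (stabs φ bs'')) := by ring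
      _ ≤ l.m * Nat.card (stabs φ (β :: bs')) := Nat.mul_le_mul_left _ hbs''
      _ ≤ F.card * Nat.card (stabs φ (β :: bs')) := Nat.mul_le_mul_right _ hF1
      _ ≤ Nat.card (stabs φ bs') := h5

/-- the order and faithfulness from an upper bound -/
theorem order_eq {G : Type*} [Group G] [Finite G] {φ : G →* Equiv.Perm (Fin n)}
    (hs : sysOk L n = true)
    (hL : ∀ y, ∃ g : G, ∀ i : Fin n, ((((φ g)⁻¹ : Equiv.Perm (Fin n)) i : Fin n) : ℕ) = (net L y).pos i)
    (ls : List Lev) (hc : chainB L n k ls [] = true) (hub : Nat.card G ≤ prodM ls) :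
    Nat.card G = prodM ls ∧ Function.Injective φ := by
  obtain ⟨bs, hbs⟩ := chain_sound hs hL ls [] [] rfl hc
  have h1 : Nat.card (stabs φ ([] : List (Fin n))) = Nat.card G := by
    rw [stabs, Subgroup.card_top]
  rw [h1] at hbs
  have hpos : 0 < Nat.card G := Nat.card_pos
  have hm : 0 < prodM ls := by omega
  have hs1 : 0 < Nat.card (stabs φ bs) := Nat.card_pos
  have h2 : Nat.card (stabs φ bs) ≤ 1 := by
    by_contra hcon
    have : prodM ls * 2 ≤ prodM ls * Nat.card (stabs φ bs) := Nat.mul_le_mul_left _ (by omega)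
    omega
  have h3 : Nat.card (stabs φ bs) = 1 := by omega
  rw [h3, mul_one] at hbs
  refine ⟨le_antisymm hub hbs, ?_⟩
  rw [injective_iff_map_eq_one]
  intro g hg
  have h4 : stabs φ bs = ⊥ := Subgroup.card_eq_one.1 h3
  have h5 : g ∈ stabs φ bs := by rw [mem_stabs]; intro b _; rw [hg]; rfl
  rw [h4] at h5
  exact Subgroup.mem_bot.1 h5

end

/-! ### Simplicity -/

/-- possible sizes of unions of a fixed point with some of the intervals -/
def sums : List ℕ → List ℕ
  | [] => [1]
  | s :: l => sums l ++ (sums l).map (· + s)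

theorem ncard_mem_sums {n : ℕ} (B : Set (Fin n)) (h0 : ∀ h : 0 < n, (⟨0, h⟩ : Fin n) ∈ B) (hn : 0 < n) :
    ∀ (ss : List ℕ) (c : ℕ), c = 1 + ss.sum → c ≤ n →
    (∀ (a s : ℕ) (l : List ℕ), (∃ l', ss = l' ++ s :: l) → a = 1 + l.sum → ((∀ i : Fin n, a ≤ i → (i : ℕ) < a + s → i ∈ B) ∨
      (∀ i : Fin n, a ≤ i → (i : ℕ) < a + s → i ∉ B))) →
    (B ∩ {i | (i : ℕ) < c}).ncard ∈ sums ss := by
  intro ss
  induction ss with
  | nil =>
    intro c hc hcn _
    have : B ∩ {i | (i : ℕ) < c} = {⟨0, hn⟩} := by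
      ext i
      simp only [Set.mem_inter_iff, Set.mem_ofPred_eq, Set.mem_singleton_iff]
      constructor
      · rintro ⟨_, h⟩
        have : (i : ℕ) = 0 := by simp at hc; omega
        exact Fin.ext this
      · rintro rfl
        exact ⟨h0 hn, by simp at hc; simp [hc]⟩
    rw [this, Set.ncard_singleton]
    simp [sums]
  | cons s l ih =>
    intro c hc hcn hint
    have h1 := ih (1 + l.sum) rfl (by simp at hc; omega) (by
      intro a s' l' hl' ha
      obtain ⟨l'', hl''⟩ := hl'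
      exact hint a s' l' ⟨s :: l'', by rw [hl'']; rfl⟩ ha)
    have hc' : c = 1 + l.sum + s := by simp at hc; omega
    have hsplit : B ∩ {i | (i : ℕ) < c} = (B ∩ {i | (i : ℕ) < 1 + l.sum}) ∪
        (B ∩ {i | 1 + l.sum ≤ (i : ℕ) ∧ (i : ℕ) < c}) := by
      ext i
      simp only [Set.mem_inter_iff, Set.mem_ofPred_eq, Set.mem_union]
      constructor
      · rintro ⟨h2, h3⟩
        by_cases h4 : (i : ℕ) < 1 + l.sum
        · exact Or.inl ⟨h2, h4⟩
        · exact Or.inr ⟨h2, by omega, h3⟩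
      · rintro (⟨h2, h3⟩ | ⟨h2, h3, h4⟩)
        · exact ⟨h2, by omega⟩
        · exact ⟨h2, h4⟩
    have hdisj : Disjoint (B ∩ {i | (i : ℕ) < 1 + l.sum}) (B ∩ {i | 1 + l.sum ≤ (i : ℕ) ∧ (i : ℕ) < c}) := by
      rw [Set.disjoint_left]
      rintro i ⟨_, h2⟩ ⟨_, h3, _⟩
      simp only [Set.mem_ofPred_eq] at h2
      omega
    rw [hsplit, Set.ncard_union_eq hdisj (Set.toFinite _) (Set.toFinite _)]
    rcases hint (1 + l.sum) s l ⟨[], rfl⟩ rfl with h2 | h2
    · have h3 : B ∩ {i | 1 + l.sum ≤ (i : ℕ) ∧ (i : ℕ) < c} = {i : Fin n | 1 + l.sum ≤ (i : ℕ) ∧ (i : ℕ) < c} := by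
        ext i
        simp only [Set.mem_inter_iff, Set.mem_ofPred_eq, and_iff_right_iff_imp]
        rintro ⟨h3, h4⟩
        exact h2 i h3 (by omega)
      have h4 : ({i : Fin n | 1 + l.sum ≤ (i : ℕ) ∧ (i : ℕ) < c}).ncard = s := by
        have h5 : {i : Fin n | 1 + l.sum ≤ (i : ℕ) ∧ (i : ℕ) < c} =
            ((Finset.univ.filter fun i : Fin n => 1 + l.sum ≤ (i : ℕ) ∧ (i : ℕ) < c : Finset (Fin n)) :
              Set (Fin n)) := by
          ext i; simp
        rw [h5, Set.ncard_coe_finset]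
        have h6 : (Finset.univ.filter fun i : Fin n => 1 + l.sum ≤ (i : ℕ) ∧ (i : ℕ) < c).map
            Fin.valEmbedding = Finset.Ico (1 + l.sum) c := by
          ext j
          simp only [Finset.mem_map, Finset.mem_filter, Finset.mem_univ, true_and, Fin.valEmbedding_apply,
            Finset.mem_Ico]
          constructor
          · rintro ⟨i, h7, rfl⟩; exact h7
          · intro h7; exact ⟨⟨j, by omega⟩, h7, rfl⟩
        rw [← Finset.card_map Fin.valEmbedding, h6, Nat.card_Ico]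
        omega
      rw [h3, h4, sums, List.mem_append]
      right
      rw [List.mem_map]
      exact ⟨_, h1, rfl⟩
    · have h3 : B ∩ {i | 1 + l.sum ≤ (i : ℕ) ∧ (i : ℕ) < c} = ∅ := by
        ext i
        simp only [Set.mem_inter_iff, Set.mem_ofPred_eq, Set.mem_empty_iff_false, iff_false, not_and]
        intro h3 h4 h5
        exact h2 i h4 (by omega) h3
      rw [h3, Set.ncard_empty, sums, List.mem_append]
      left
      exact h1

/-- the simplicity criterion -/
theorem simple_of {G : Type*} [Group G] [Finite G] {n : ℕ} {φ : G →* Equiv.Perm (Fin n)} (hn : 1 < n)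
    (hinj : Function.Injective φ)
    (htrans : ∀ i : Fin n, ∃ g, φ g ⟨0, by omega⟩ = i)
    (ss : List ℕ) (hss : 1 + ss.sum = n)
    (horb : ∀ (a s : ℕ) (l : List ℕ), (∃ l', ss = l' ++ s :: l) → a = 1 + l.sum → ∃ c : Fin n, ∀ i : Fin n, a ≤ i →
      (i : ℕ) < a + s → ∃ g, φ g ⟨0, by omega⟩ = ⟨0, by omega⟩ ∧ φ g c = i)
    (hsums : ∀ s ∈ sums ss, s ∣ n → s = 1 ∨ s = n)
    (p e : ℕ) (hp : p.Prime) (hpe : p ^ e ∣ n) (hpe1 : ¬ p ^ (e + 1) ∣ Nat.card G)
    (hgen : ∀ M : Subgroup G, M.Normal → (∀ g : G, g ^ p = 1 → g ∈ M) → M = ⊤) : IsSimpleGroup G := by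
  classical
  have hn0 : 0 < n := by omega
  let _inst : MulAction G (Fin n) := MulAction.compHom (Fin n) φ
  have hsm : ∀ (g : G) (i : Fin n), g • i = φ g i := fun g i => rfl
  have hpre : MulAction.IsPretransitive G (Fin n) := by
    constructor
    intro i j
    obtain ⟨g, hg⟩ := htrans i
    obtain ⟨g', hg'⟩ := htrans j
    refine ⟨g' * g⁻¹, ?_⟩
    have h1 : ((φ g)⁻¹ : Equiv.Perm (Fin n)) i = ⟨0, hn0⟩ := by
      rw [Equiv.Perm.inv_eq_iff_eq]; exact hg.symm
    rw [hsm, map_mul, Equiv.Perm.mul_apply, map_inv, h1, hg']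
  have hnt : Nontrivial G := by
    obtain ⟨g, hg⟩ := htrans ⟨1, hn⟩
    refine ⟨⟨g, 1, ?_⟩⟩
    rintro rfl
    rw [map_one, Equiv.Perm.one_apply] at hg
    simp at hg
  refine { toNontrivial := hnt, eq_bot_or_eq_top_of_normal := fun M hM => ?_ }
  by_cases hbot : M = ⊥
  · exact Or.inl hbot
  right
  have hM' := hM
  -- the orbit of `0`
  set z : Fin n := ⟨0, hn0⟩ with hz
  let B : Set (Fin n) := MulAction.orbit M z
  have hB : MulAction.IsBlock G B := MulAction.IsBlock.orbit_of_normal (N := M) z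
  have hzB : z ∈ B := MulAction.mem_orbit_self z
  have hBd : B.ncard ∣ n := by
    have := hB.ncard_dvd_card ⟨z, hzB⟩
    rwa [Nat.card_fin] at this
  -- B is invariant under the stabilizer
  have hinvB : ∀ g : G, φ g z = z → ∀ i, i ∈ B → φ g i ∈ B := by
    intro g hg i hi
    obtain ⟨m, hm⟩ := hi
    have hm' : φ (m : G) z = i := hm
    refine ⟨⟨g * m * g⁻¹, hM.conj_mem _ m.2 g⟩, ?_⟩
    show φ (g * m * g⁻¹) z = φ g i
    rw [map_mul, map_mul, map_inv, Equiv.Perm.mul_apply, Equiv.Perm.mul_apply]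
    have h1 : ((φ g)⁻¹ : Equiv.Perm (Fin n)) z = z := by
      rw [Equiv.Perm.inv_eq_iff_eq]; exact hg.symm
    rw [h1, hm']
  have hB1 : B.ncard = 1 ∨ B.ncard = n := by
    apply hsums _ _ hBd
    have h1 := ncard_mem_sums B (fun _ => hzB) hn0 ss n hss.symm le_rfl (by
      intro a s l hl ha
      obtain ⟨c, hc⟩ := horb a s l hl ha
      by_cases hcB : ∃ i : Fin n, a ≤ i ∧ (i : ℕ) < a + s ∧ i ∈ B
      · left
        obtain ⟨i, hi1, hi2, hiB⟩ := hcB
        obtain ⟨g, hg0, hgc⟩ := hc i hi1 hi2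
        have hcB : c ∈ B := by
          have h2 := hinvB g⁻¹ (by
            rw [map_inv, Equiv.Perm.inv_eq_iff_eq]; exact hg0.symm) i hiB
          have h3 : φ g⁻¹ i = c := by
            rw [map_inv, Equiv.Perm.inv_eq_iff_eq]; exact hgc.symm
          rwa [h3] at h2
        intro j hj1 hj2
        obtain ⟨g', hg0', hgc'⟩ := hc j hj1 hj2
        have h4 := hinvB g' hg0' c hcB
        rwa [hgc'] at h4
      · right
        intro i hi1 hi2 hiB
        exact hcB ⟨i, hi1, hi2, hiB⟩)
    have h2 : B ∩ {i | (i : ℕ) < n} = B := by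
      ext i; simp
    rwa [h2] at h1
  rcases hB1 with hB1 | hB1
  · -- M fixes everything
    exfalso
    apply hbot
    rw [Set.ncard_eq_one] at hB1
    obtain ⟨b, hb⟩ := hB1
    have hbz : b = z := by
      have : z ∈ ({b} : Set (Fin n)) := hb ▸ hzB
      exact this.symm
    rw [eq_bot_iff]
    intro m hm
    rw [Subgroup.mem_bot]
    apply hinj
    rw [map_one]
    ext i
    obtain ⟨g, hg⟩ := htrans i
    have h1 : φ (g⁻¹ * m * g) z ∈ B := ⟨⟨g⁻¹ * m * g, by simpa using hM.conj_mem m hm g⁻¹⟩, rfl⟩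
    rw [hb, hbz] at h1
    have h2 : φ (g⁻¹ * m * g) z = z := h1
    rw [map_mul, map_mul, map_inv, Equiv.Perm.mul_apply, Equiv.Perm.mul_apply, hg,
      Equiv.Perm.inv_eq_iff_eq, hg] at h2
    rw [h2]; rfl
  · -- M is transitive
    have h1 : (MulAction.stabilizer M z).index = n := by
      rw [MulAction.index_stabilizer]; exact hB1
    have h2 : n ∣ Nat.card M := by
      rw [← h1]; exact Subgroup.index_dvd_card _
    have h3 : ¬ p ∣ M.index := by
      intro h4
      apply hpe1
      rw [← M.card_mul_index, pow_succ]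
      exact Nat.mul_dvd_mul (hpe.trans h2) h4
    apply hgen M hM'
    intro g hg
    have h4 : ((g : G ⧸ M)) ^ p = 1 := by
      rw [← QuotientGroup.mk_pow, hg]; rfl
    have h5 : ((g : G ⧸ M)) ^ M.index = 1 := by
      rw [Subgroup.index_eq_card]; exact pow_card_eq_one'
    have h6 : orderOf (g : G ⧸ M) ∣ 1 := by
      have h7 : Nat.Coprime p M.index := (Nat.Prime.coprime_iff_not_dvd hp).2 h3
      rw [← h7]
      exact Nat.dvd_gcd (orderOf_dvd_of_pow_eq_one h4) (orderOf_dvd_of_pow_eq_one h5)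
    have h8 : (g : G ⧸ M) = 1 := by
      rw [← orderOf_eq_one_iff]; exact Nat.dvd_one.1 h6
    exact (QuotientGroup.eq_one_iff g).1 h8

/-! ### Glue for concrete data -/

/-- check of the strong generators: letter `j` is the word `w` in smaller letters -/
noncomputable def sgB (L : List Nt) (n k : ℕ) (sg : List (List ℕ)) : ℕ → Bool :=
  List.rec (motive := fun _ => ℕ → Bool) (fun _ => true)
    (fun w _ ih j => Bool.rec false (Bool.rec false (N (Nat.succ j) ih) (eqW L n k [j] w))
      (w.all fun y => Nat.blt y j)) sg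

section
variable {L : List Nt} {n k ic : ℕ} {G : Type*} [Group G] {x : ℕ → G} {φ : G →* Equiv.Perm (Fin n)}

theorem sgB_sound {sg : List (List ℕ)} : ∀ (j : ℕ), sgB L n k sg j = true → ∀ i (hi : i < sg.length),
    eqW L n k [j + i] sg[i] = true ∧ ∀ y ∈ sg[i], y < j + i := by
  induction sg with
  | nil => intro j _ i hi; simp at hi
  | cons w sg ih =>
    intro j h i hi
    have h1 : sgB L n k (w :: sg) j = Bool.rec false (Bool.rec false (N (Nat.succ j) (sgB L n k sg))
      (eqW L n k [j] w)) (w.all fun y => Nat.blt y j) := rfl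
    rw [h1] at h
    cases hb1 : (w.all fun y => Nat.blt y j)
    · rw [hb1] at h; exact absurd h (by simp)
    rw [hb1] at h
    have h : (Bool.rec false (N (Nat.succ j) (sgB L n k sg)) (eqW L n k [j] w) : Bool) = true := h
    cases hb2 : eqW L n k [j] w
    · rw [hb2] at h; exact absurd h (by simp)
    rw [hb2] at h
    have h : N (Nat.succ j) (sgB L n k sg) = true := h
    rw [N_eq] at h
    cases i with
    | zero =>
      refine ⟨by simpa using hb2, ?_⟩
      intro y hy
      rw [List.all_eq_true] at hb1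
      have := blt_eq.1 (hb1 y (by simpa using hy))
      omega
    | succ i =>
      have h2 := ih (j + 1) h i (by simpa using hi)
      have e : j + 1 + i = j + (i + 1) := by omega
      rw [e] at h2
      simpa using h2

theorem exists_g (hs : sysOk L n = true) (hn : n ≤ 2 ^ k) (hc : Compat φ x L) {sg : List (List ℕ)}
    (hsg : sgB L n k sg 16 = true) (hlen : Nat.ble L.length (16 + sg.length) = true) (y : ℕ) :
    ∃ g : G, ∀ i : Fin n, ((((φ g)⁻¹ : Equiv.Perm (Fin n)) i : Fin n) : ℕ) = (net L y).pos i := by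
  induction y using Nat.strong_induction_on with
  | _ y ih =>
    by_cases hy : y < 16
    · exact ⟨x y, hc y hy⟩
    by_cases hy2 : y < 16 + sg.length
    · obtain ⟨h1, h2⟩ := sgB_sound 16 hsg (y - 16) (by omega)
      have e : 16 + (y - 16) = y := by omega
      rw [e] at h1 h2
      have key : ∀ w : List ℕ, (∀ z ∈ w, z < y) → ∃ g : G, ∀ i : Fin n,
          ((((φ g)⁻¹ : Equiv.Perm (Fin n)) i : Fin n) : ℕ) = tr L w i := by
        intro w
        induction w with
        | nil => intro _; exact ⟨1, fun i => by simp [tr]⟩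
        | cons z w ihw =>
          intro hw
          obtain ⟨g, hg⟩ := ihw (fun z hz => hw z (by simp [hz]))
          obtain ⟨g', hg'⟩ := ih z (hw z (by simp))
          refine ⟨g' * g, fun i => ?_⟩
          have h3 : ((φ (g' * g))⁻¹ : Equiv.Perm (Fin n)) i =
            ((φ g)⁻¹ : Equiv.Perm (Fin n)) (((φ g')⁻¹ : Equiv.Perm (Fin n)) i) := by
            rw [map_mul, mul_inv_rev]; rfl
          rw [h3, hg, hg']
          rfl
      obtain ⟨g, hg⟩ := key _ h2
      refine ⟨g, fun i => ?_⟩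
      rw [hg i]
      exact (eqW_sound hs hn h1 i i.2).symm
    · refine ⟨1, fun i => ?_⟩
      have h3 : net L y = .nil := by
        unfold net
        rw [List.getD_eq_default _ _ (by have := Nat.le_of_ble_eq_true hlen; omega)]
      rw [h3]
      simp [Nt.pos]

/-- transitivity -/
theorem trans_of (hs : sysOk L n = true) (hc : Compat φ x L) {ys : List ℕ} (hys : ∀ y ∈ ys, y < 16) {r : ℕ} (hn0 : 0 < n)
    (h : reachIv L ys r (nat_lit 0) (nat_lit 0) n = true) (i : Fin n) : ∃ g, φ g ⟨0, hn0⟩ = i := by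
  have h1 := reachIv_sound hs (Nat.zero_le n) h (P := fun i => ∃ hi : i < n, ∃ g, φ g ⟨0, hn0⟩ = ⟨i, hi⟩)
    ⟨hn0, 1, by simp⟩ (by
      intro y hy i hP
      obtain ⟨hi, g, hg⟩ := hP
      have hin : i < n := ((net_mem hs y).2 i).1 hi
      refine ⟨hin, x y * g, ?_⟩
      rw [map_mul, Equiv.Perm.mul_apply, hg]
      have h3 := hc y (hys y hy) ⟨i, hin⟩
      have h4 : ((φ (x y))⁻¹ : Equiv.Perm (Fin n)) ⟨i, hin⟩ = ⟨(net L y).pos i, hi⟩ := Fin.ext h3
      rw [Equiv.Perm.inv_eq_iff_eq] at h4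
      exact h4.symm) i (Nat.zero_le _) i.2
  exact h1.2

/-- orbits of the point stabilizer -/
theorem suborb_of (hs : sysOk L n = true) (hc : Compat φ x L) {ys : List ℕ} (hys : ∀ y ∈ ys, y < 16)
    (hfix : fixP L ys [nat_lit 0] = true) {r c a b : ℕ} (hn0 : 0 < n) (hab : a ≤ b) (hcn : c < n)
    (h : reachIv L ys r c a b = true) (i : Fin n) (hia : a ≤ i) (hib : (i : ℕ) < b) :
    ∃ g ∈ Subgroup.closure (x '' {y | y ∈ ys}), φ g ⟨0, hn0⟩ = ⟨0, hn0⟩ ∧ φ g ⟨c, hcn⟩ = i := by
  have hf : ∀ y ∈ ys, φ (x y) ⟨0, hn0⟩ = ⟨0, hn0⟩ := by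
    intro y hy
    have h1 := fixP_sound hs hfix 0 (by simp) y hy
    have h2 := hc y (hys y hy) ⟨0, hn0⟩
    rw [h1] at h2
    have h3 : ((φ (x y))⁻¹ : Equiv.Perm (Fin n)) ⟨0, hn0⟩ = ⟨0, hn0⟩ := Fin.ext h2
    rw [Equiv.Perm.inv_eq_iff_eq] at h3
    exact h3.symm
  have h1 := reachIv_sound hs hab h (P := fun i => ∃ hi : i < n, ∃ g ∈ Subgroup.closure (x '' {y | y ∈ ys}),
      φ g ⟨0, hn0⟩ = ⟨0, hn0⟩ ∧ φ g ⟨c, hcn⟩ = ⟨i, hi⟩)
    ⟨hcn, 1, one_mem _, by simp, by simp⟩ (by
      intro y hy i hP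
      obtain ⟨hi, g, hgm, hg0, hg⟩ := hP
      have hin : i < n := ((net_mem hs y).2 i).1 hi
      refine ⟨hin, x y * g, mul_mem (Subgroup.subset_closure ⟨y, hy, rfl⟩) hgm, ?_, ?_⟩
      · rw [map_mul, Equiv.Perm.mul_apply, hg0, hf y hy]
      rw [map_mul, Equiv.Perm.mul_apply, hg]
      have h3 := hc y (hys y hy) ⟨i, hin⟩
      have h4 : ((φ (x y))⁻¹ : Equiv.Perm (Fin n)) ⟨i, hin⟩ = ⟨(net L y).pos i, hi⟩ := Fin.ext h3
      rw [Equiv.Perm.inv_eq_iff_eq] at h4
      exact h4.symm) i hia hib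
  exact h1.2

/-- data of the suborbits: `(s, r, c)` from the last interval to the first -/
noncomputable def orbB (L : List Nt) (n : ℕ) (ys : List ℕ) (ds : List (ℕ × ℕ × ℕ)) : Bool :=
  match ds with
  | [] => true
  | (s, r, c) :: l => Nat.blt c n && reachIv L ys r c (1 + (l.map Prod.fst).sum) (1 + (l.map Prod.fst).sum + s) &&
      orbB L n ys l

theorem orbB_sound {ys : List ℕ} : ∀ (ds : List (ℕ × ℕ × ℕ)), orbB L n ys ds = true →
    ∀ (a s : ℕ) (l : List ℕ), (∃ l', ds.map Prod.fst = l' ++ s :: l) → a = 1 + l.sum →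
      ∃ r c, c < n ∧ reachIv L ys r c a (a + s) = true
  | [], _, a, s, l, ⟨l', h⟩, _ => by simp at h
  | (s0, r0, c0) :: ds, h, a, s, l, ⟨l', hl⟩, ha => by
    simp only [orbB, Bool.and_eq_true] at h
    obtain ⟨⟨h1, h2⟩, h3⟩ := h
    cases l' with
    | nil =>
      simp only [List.map_cons, List.nil_append, List.cons.injEq] at hl
      obtain ⟨rfl, hl2⟩ := hl
      rw [hl2] at h2
      subst ha
      exact ⟨r0, c0, blt_eq.1 h1, h2⟩
    | cons z l'' =>
      simp only [List.map_cons, List.cons_append, List.cons.injEq] at hl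
      exact orbB_sound ds h3 a s l ⟨l'', hl.2⟩ ha

/-- powers of words -/
def powW (u : List ℕ) : ℕ → List ℕ
  | 0 => []
  | m + 1 => u ++ powW u m

theorem ev_powW (u : List ℕ) (m : ℕ) : ev x (powW u m) = ev x u ^ m := by
  induction m with
  | zero => simp [powW]
  | succ m ih => rw [powW, ev_append, ih, pow_succ']

theorem powW_lt {u : List ℕ} (h : ∀ y ∈ u, y < 16) (m : ℕ) : ∀ y ∈ powW u m, y < 16 := by
  induction m with
  | zero => intro y hy; simp [powW] at hy
  | succ m ih =>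
    intro y hy
    rw [powW, List.mem_append] at hy
    rcases hy with hy | hy
    · exact h y hy
    · exact ih y hy

/-- check that the letters are products of two elements of order dividing `p` -/
noncomputable def pwB (L : List Nt) (n k ic p : ℕ) (ps : List (ℕ × List ℕ)) : Bool :=
  match ps with
  | [] => true
  | (y, u) :: l => Nat.blt y 16 && (u.all fun z => Nat.blt z 16) && eqW L n k (powW u p) [] &&
      eqW L n k (powW (invw ic u ++ [y]) p) [] && pwB L n k ic p l

theorem pwB_sound (hs : sysOk L n = true) (hn : n ≤ 2 ^ k) (hc : Compat φ x L) (hinj : Function.Injective φ)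
    (hic : ∀ y, y < 16 → x (il ic y) = (x y)⁻¹) {p : ℕ} {M : Subgroup G} (hM : ∀ g : G, g ^ p = 1 → g ∈ M) :
    ∀ (ps : List (ℕ × List ℕ)), pwB L n k ic p ps = true → ∀ y ∈ ps.map Prod.fst, x y ∈ M
  | [], _, y, hy => by simp at hy
  | (y0, u) :: l, h, y, hy => by
    simp only [pwB, Bool.and_eq_true, List.all_eq_true] at h
    obtain ⟨⟨⟨⟨h1, h2⟩, h3⟩, h4⟩, h5⟩ := h
    simp only [List.map_cons, List.mem_cons] at hy
    rcases hy with rfl | hy
    · have hu : ∀ z ∈ u, z < 16 := fun z hz => blt_eq.1 (h2 z hz)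
      have hy16 := blt_eq.1 h1
      have hu' : ∀ z ∈ invw ic u ++ [y], z < 16 := by
        intro z hz
        rw [List.mem_append, List.mem_singleton] at hz
        rcases hz with hz | rfl
        · exact invw_lt _ _ z hz
        · exact hy16
      have e1 := ev_eq_of_inj hc hinj hs hn (powW_lt hu p) (by simp) h3
      have e2 := ev_eq_of_inj hc hinj hs hn (powW_lt hu' p) (by simp) h4
      rw [ev_powW, ev_nil] at e1 e2
      have e3 := M.mul_mem (hM _ e1) (hM _ e2)
      rw [ev_append, ev_invw hic u hu, ev_cons, ev_nil, mul_one] at e3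
      simpa using e3
    · exact pwB_sound hs hn hc hinj hic hM l h5 y hy

/-- simplicity from data -/
theorem simple_of_data [Finite G] (hs : sysOk L n = true) (hn : n ≤ 2 ^ k) (hc : Compat φ x L)
    (hinj : Function.Injective φ) (hic : ∀ y, y < 16 → x (il ic y) = (x y)⁻¹) (hn1 : 1 < n)
    {ys zs : List ℕ} (hys : (ys.all fun y => Nat.blt y 16) = true) (hzs : (zs.all fun y => Nat.blt y 16) = true) {r : ℕ}
    (htr : reachIv L ys r (nat_lit 0) (nat_lit 0) n = true)
    (hfix : fixP L zs [nat_lit 0] = true) {ds : List (ℕ × ℕ × ℕ)} (hds : orbB L n zs ds = true)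
    (hsum : 1 + (ds.map Prod.fst).sum = n)
    (hsums : ∀ s ∈ sums (ds.map Prod.fst), s ∣ n → s = 1 ∨ s = n)
    {p e : ℕ} (hp : p.Prime) (hpe : p ^ e ∣ n) (hpe1 : ¬ p ^ (e + 1) ∣ Nat.card G)
    {ps : List (ℕ × List ℕ)} (hps : pwB L n k ic p ps = true)
    (hgen : Subgroup.closure (x '' {y | y ∈ ps.map Prod.fst}) = ⊤) : IsSimpleGroup G := by
  rw [List.all_eq_true] at hys hzs
  have hn0 : 0 < n := by omega
  refine simple_of hn1 hinj (trans_of hs hc (fun y hy => blt_eq.1 (hys y hy)) hn0 htr) (ds.map Prod.fst) hsum ?_ hsums p e hp hpe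
    hpe1 ?_
  · intro a s l hl ha
    obtain ⟨r, c, hcn, hr⟩ := orbB_sound ds hds a s l hl ha
    refine ⟨⟨c, hcn⟩, fun i hi1 hi2 => ?_⟩
    obtain ⟨g, _, hg0, hgc⟩ := suborb_of hs hc (fun y hy => blt_eq.1 (hzs y hy)) hfix hn0 (by omega) hcn hr i hi1 hi2
    exact ⟨g, hg0, hgc⟩
  · intro M _ hM
    rw [← top_le_iff, ← hgen, Subgroup.closure_le]
    rintro _ ⟨y, hy, rfl⟩
    exact pwB_sound hs hn hc hinj hic hM ps hps y hy

end

end Cfsg.Agent.H8.Act
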