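import Cfsg.Agent.H8_Act2

/-!
Orbits on cosets described by intervals of points; closures of letters and their inverses.
-/

set_option autoImplicit false

namespace Cfsg.Agent.H8.Act3

open CE Net Act Cox Act2

section
variable {L : List Nt} {n k : ℕ} {G : Type*} [Group G] {x : ℕ → G} {φ : G →* Equiv.Perm (Fin n)}

/-- a check that every letter of `l'` is a letter of `l` or inverse to one of them -/
def invLet (ic : ℕ) (l l' : List ℕ) : Bool :=
  l'.all fun y => l.contains y || (Nat.blt y 16 && l.contains (il ic y))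

theorem closure_invLet {ic : ℕ} (hic : ∀ y, y < 16 → x (il ic y) = (x y)⁻¹) {l l' : List ℕ}
    (h1 : (l.all fun y => l'.contains y) = true) (h2 : invLet ic l l' = true) :
    Subgroup.closure (x '' {y | y ∈ l}) = Subgroup.closure (x '' {y | y ∈ l'}) := by
  unfold invLet at h2
  rw [List.all_eq_true] at h1 h2
  apply le_antisymm
  · rw [Subgroup.closure_le]
    rintro _ ⟨y, hy, rfl⟩
    have h3 := h1 y hy
    rw [List.contains_iff_mem] at h3
    exact Subgroup.subset_closure ⟨y, h3, rfl⟩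
  · rw [Subgroup.closure_le]
    rintro _ ⟨y, hy, rfl⟩
    have h3 := h2 y hy
    rw [Bool.or_eq_true, Bool.and_eq_true, List.contains_iff_mem, List.contains_iff_mem] at h3
    rcases h3 with h3 | ⟨h3, h4⟩
    · exact Subgroup.subset_closure ⟨y, h3, rfl⟩
    · have h5 : x (il ic y) ∈ Subgroup.closure (x '' {y | y ∈ l}) := Subgroup.subset_closure ⟨_, h4, rfl⟩
      rw [hic y (blt_eq.1 h3)] at h5
      exact (Subgroup.inv_mem_iff _).1 h5

/-- the orbit of a point stabilizer corresponding to an interval of points -/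
theorem orbit_iv (hs : sysOk L n = true) (hc : Compat φ x L) {l : List ℕ} (hl : ∀ y ∈ l, y < 16)
    (hn0 : 0 < n) (htr : ∀ i : Fin n, ∃ g, φ g ⟨0, hn0⟩ = i)
    (hfix : fixP L l [nat_lit 0] = true) {H : Subgroup G} (hHl : H = Subgroup.closure (x '' {y | y ∈ l}))
    (hst : ∀ g, g ∈ H ↔ φ g ⟨0, hn0⟩ = ⟨0, hn0⟩)
    {r c a b : ℕ} (hac : a ≤ c) (hcb : c < b) (hbn : b ≤ n)
    (hr : reachIv L l r c a b = true) (hi : invIv L l a b = true) :
    ∃ q : G ⧸ H, (∀ g : G, (g : G ⧸ H) ∈ MulAction.orbit H q ↔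
        a ≤ ((φ g ⟨0, hn0⟩ : Fin n) : ℕ) ∧ ((φ g ⟨0, hn0⟩ : Fin n) : ℕ) < b) ∧
      (MulAction.orbit H q).ncard = b - a := by
  classical
  have hcn : c < n := by omega
  let z : Fin n := ⟨0, hn0⟩
  let F : G ⧸ H → Fin n := Quotient.lift (fun g => φ g z) (by
    intro a b hab
    have h1 : a⁻¹ * b ∈ H := QuotientGroup.leftRel_apply.1 hab
    have h2 := (hst _).1 h1
    rw [map_mul, map_inv, Equiv.Perm.mul_apply, Equiv.Perm.inv_eq_iff_eq] at h2
    exact h2.symm)
  have hFinj : Function.Injective F := by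
    intro q q' h
    obtain ⟨g, rfl⟩ := QuotientGroup.mk_surjective q
    obtain ⟨g', rfl⟩ := QuotientGroup.mk_surjective q'
    have h1 : φ g z = φ g' z := h
    rw [QuotientGroup.eq, hst, map_mul, map_inv, Equiv.Perm.mul_apply, Equiv.Perm.inv_eq_iff_eq]
    exact h1.symm
  have hFs : ∀ (h : H) (q : G ⧸ H), F (h • q) = φ (h : G) (F q) := by
    intro h q
    obtain ⟨g, rfl⟩ := QuotientGroup.mk_surjective q
    show φ ((h : G) * g) z = φ (h : G) (φ g z)
    rw [map_mul]; rfl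
  obtain ⟨g0, hg0⟩ := htr ⟨c, hcn⟩
  refine ⟨(g0 : G ⧸ H), ?_⟩
  have himg : F '' (MulAction.orbit H (g0 : G ⧸ H)) = {i : Fin n | a ≤ (i : ℕ) ∧ (i : ℕ) < b} := by
    ext i
    constructor
    · rintro ⟨_, ⟨h, rfl⟩, rfl⟩
      show a ≤ ((F (h • (g0 : G ⧸ H)) : Fin n) : ℕ) ∧ ((F (h • (g0 : G ⧸ H)) : Fin n) : ℕ) < b
      rw [hFs]
      have e : F (g0 : G ⧸ H) = ⟨c, hcn⟩ := hg0
      rw [e]
      -- invariance of the interval
      have key : ∀ g ∈ H, ∀ i : Fin n, (a ≤ ((φ g i : Fin n) : ℕ) ∧ ((φ g i : Fin n) : ℕ) < b) ↔ (a ≤ (i : ℕ) ∧ (i : ℕ) < b) := by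
        intro g hg
        rw [hHl] at hg
        induction hg using Subgroup.closure_induction with
        | mem g hg =>
          obtain ⟨y, hy, rfl⟩ := hg
          intro i
          have h1 := invIv_sound hs (by omega) hi y hy (φ (x y) i)
          have h2 := hc y (hl y hy) (φ (x y) i)
          rw [← h2] at h1
          have h3 : ((φ (x y))⁻¹ : Equiv.Perm (Fin n)) (φ (x y) i) = i := by
            rw [Equiv.Perm.inv_eq_iff_eq]
          rw [h3] at h1
          exact h1.symm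
        | one => intro i; simp
        | mul g g' _ _ ih ih' =>
          intro i
          rw [map_mul, Equiv.Perm.mul_apply, ih, ih']
        | inv g _ ih =>
          intro i
          have h1 := ih (φ g⁻¹ i)
          have h3 : φ g (φ g⁻¹ i) = i := by
            rw [← Equiv.Perm.mul_apply, ← map_mul]; simp
          rw [h3] at h1
          exact h1.symm
      exact (key (h : G) h.2 ⟨c, hcn⟩).2 ⟨hac, hcb⟩
    · rintro ⟨h1, h2⟩
      obtain ⟨g, hg, _, hgc⟩ := suborb_of hs hc hl hfix hn0 (by omega : a ≤ b) hcn hr i h1 h2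
      have hg' : g ∈ H := hHl ▸ hg
      refine ⟨(⟨g, hg'⟩ : H) • (g0 : G ⧸ H), ⟨⟨g, hg'⟩, rfl⟩, ?_⟩
      rw [hFs]
      have e : F (g0 : G ⧸ H) = ⟨c, hcn⟩ := hg0
      rw [e]
      exact hgc
  have h1 : (F '' (MulAction.orbit H (g0 : G ⧸ H))).ncard = (MulAction.orbit H (g0 : G ⧸ H)).ncard :=
    Set.ncard_image_of_injective _ hFinj
  constructor
  · intro g
    have h2 : (g : G ⧸ H) ∈ MulAction.orbit H (g0 : G ⧸ H) ↔ F (g : G ⧸ H) ∈ F '' (MulAction.orbit H (g0 : G ⧸ H)) :=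
      (hFinj.mem_set_image).symm
    rw [h2, himg]
    rfl
  rw [← h1, himg]
  have h5 : {i : Fin n | a ≤ (i : ℕ) ∧ (i : ℕ) < b} =
      ((Finset.univ.filter fun i : Fin n => a ≤ (i : ℕ) ∧ (i : ℕ) < b : Finset (Fin n)) :
        Set (Fin n)) := by
    ext i; simp
  rw [h5, Set.ncard_coe_finset]
  have h6 : (Finset.univ.filter fun i : Fin n => a ≤ (i : ℕ) ∧ (i : ℕ) < b).map
      Fin.valEmbedding = Finset.Ico a b := by
    ext j
    simp only [Finset.mem_map, Finset.mem_filter, Finset.mem_univ, true_and, Fin.valEmbedding_apply,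
      Finset.mem_Ico]
    constructor
    · rintro ⟨i, h7, rfl⟩; exact h7
    · intro h7; exact ⟨⟨j, by omega⟩, h7, rfl⟩
  rw [← Finset.card_map Fin.valEmbedding, h6, Nat.card_Ico]

/-- disjoint intervals give different orbits -/
theorem orbit_ne (hn0 : 0 < n) (htr : ∀ i : Fin n, ∃ g, φ g ⟨0, hn0⟩ = i) {H : Subgroup G} {q q' : G ⧸ H} {a b a' b' : ℕ}
    (h : ∀ g : G, (g : G ⧸ H) ∈ MulAction.orbit H q ↔
        a ≤ ((φ g ⟨0, hn0⟩ : Fin n) : ℕ) ∧ ((φ g ⟨0, hn0⟩ : Fin n) : ℕ) < b)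
    (h' : ∀ g : G, (g : G ⧸ H) ∈ MulAction.orbit H q' ↔
        a' ≤ ((φ g ⟨0, hn0⟩ : Fin n) : ℕ) ∧ ((φ g ⟨0, hn0⟩ : Fin n) : ℕ) < b')
    (h1 : a < n) (h2 : a < b) (h3 : ¬ (a' ≤ a ∧ a < b')) : MulAction.orbit H q ≠ MulAction.orbit H q' := by
  intro he
  obtain ⟨g, hg⟩ := htr ⟨a, h1⟩
  have h4 : (g : G ⧸ H) ∈ MulAction.orbit H q := by
    rw [h g, hg]; exact ⟨le_refl a, h2⟩
  rw [he, h' g, hg] at h4
  exact h3 h4

end

end Cfsg.Agent.H8.Act3
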