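import Cfsg.Agent.H8_Act3

/-!
Simplicity from data, with conjugation words.
-/

set_option autoImplicit false

namespace Cfsg.Agent.H8.Act4

open CE Net Act Cox Act2

section
variable {L : List Nt} {n k : ℕ} {G : Type*} [Group G] {x : ℕ → G} {φ : G →* Equiv.Perm (Fin n)} {ic : ℕ}

/-- check that letters are conjugate to known ones: `(y', y, g)` stands for `y' = g⁻¹ y g` -/
noncomputable def cjB (L : List Nt) (n k ic : ℕ) : List (ℕ × ℕ × List ℕ) → List ℕ → Bool
  | [], _ => true
  | (y', y, g) :: l, known => known.contains y && Nat.blt y 16 && Nat.blt y' 16 && (g.all fun z => Nat.blt z 16) &&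
      eqW L n k [y'] (invw ic g ++ (y :: g)) && cjB L n k ic l (y' :: known)

theorem cjB_sound (hs : sysOk L n = true) (hn : n ≤ 2 ^ k) (hc : Compat φ x L) (hinj : Function.Injective φ)
    (hic : ∀ y, y < 16 → x (il ic y) = (x y)⁻¹) {M : Subgroup G} (hM : M.Normal) :
    ∀ (cs : List (ℕ × ℕ × List ℕ)) (known : List ℕ), cjB L n k ic cs known = true → (∀ y ∈ known, x y ∈ M) →
      ∀ y ∈ cs.map Prod.fst ++ known, x y ∈ M
  | [], known, _, hk, y, hy => hk y (by simpa using hy)
  | (y', y0, g) :: l, known, h, hk, y, hy => by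
    simp only [cjB, Bool.and_eq_true, List.all_eq_true] at h
    obtain ⟨⟨⟨⟨⟨h1, h2⟩, h3⟩, h4⟩, h5⟩, h6⟩ := h
    rw [List.contains_iff_mem] at h1
    have hy0 := blt_eq.1 h2
    have hy' := blt_eq.1 h3
    have hg : ∀ z ∈ g, z < 16 := fun z hz => blt_eq.1 (h4 z hz)
    have hw : ∀ z ∈ invw ic g ++ (y0 :: g), z < 16 := by
      intro z hz
      rw [List.mem_append, List.mem_cons] at hz
      rcases hz with hz | rfl | hz
      · exact invw_lt _ _ z hz
      · exact hy0
      · exact hg z hz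
    have e1 := ev_eq_of_inj hc hinj hs hn (u := [y']) (by simpa using hy') hw h5
    rw [ev_cons, ev_nil, mul_one, ev_append, ev_invw hic g hg, ev_cons] at e1
    have e2 : x y' ∈ M := by
      rw [e1, ← mul_assoc]
      have := hM.conj_mem _ (hk y0 h1) (ev x g)⁻¹
      simpa using this
    have ih := cjB_sound hs hn hc hinj hic hM l (y' :: known) h6 (by
      intro z hz
      rw [List.mem_cons] at hz
      rcases hz with rfl | hz
      · exact e2
      · exact hk z hz)
    apply ih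
    simp only [List.map_cons, List.cons_append, List.mem_cons, List.mem_append] at hy ⊢
    tauto

/-- simplicity from data -/
theorem simple_of_data2 [Finite G] (hs : sysOk L n = true) (hn : n ≤ 2 ^ k) (hc : Compat φ x L)
    (hinj : Function.Injective φ) (hic : ∀ y, y < 16 → x (il ic y) = (x y)⁻¹) (hn1 : 1 < n)
    {ys zs : List ℕ} (hys : (ys.all fun y => Nat.blt y 16) = true) (hzs : (zs.all fun y => Nat.blt y 16) = true) {r : ℕ}
    (htr : reachIv L ys r (nat_lit 0) (nat_lit 0) n = true)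
    (hfix : fixP L zs [nat_lit 0] = true) {ds : List (ℕ × ℕ × ℕ)} (hds : orbB L n zs ds = true)
    (hsum : 1 + (ds.map Prod.fst).sum = n)
    (hsums : ∀ s ∈ sums (ds.map Prod.fst), s ∣ n → s = 1 ∨ s = n)
    {p e : ℕ} (hp : p.Prime) (hpe : p ^ e ∣ n) (hpe1 : ¬ p ^ (e + 1) ∣ Nat.card G)
    {ps : List (ℕ × List ℕ)} (hps : pwB L n k ic p ps = true)
    {cs : List (ℕ × ℕ × List ℕ)} (hcs : cjB L n k ic cs (ps.map Prod.fst) = true)
    (hgen : Subgroup.closure (x '' {y | y ∈ cs.map Prod.fst ++ ps.map Prod.fst}) = ⊤) : IsSimpleGroup G := by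
  rw [List.all_eq_true] at hys hzs
  have hn0 : 0 < n := by omega
  refine simple_of hn1 hinj (trans_of hs hc (fun y hy => blt_eq.1 (hys y hy)) hn0 htr) (ds.map Prod.fst) hsum ?_ hsums p e hp hpe
    hpe1 ?_
  · intro a s l hl ha
    obtain ⟨r, c, hcn, hr⟩ := orbB_sound ds hds a s l hl ha
    refine ⟨⟨c, hcn⟩, fun i hi1 hi2 => ?_⟩
    obtain ⟨g, _, hg0, hgc⟩ := suborb_of hs hc (fun y hy => blt_eq.1 (hzs y hy)) hfix hn0 (by omega) hcn hr i hi1 hi2
    exact ⟨g, hg0, hgc⟩
  · intro M hMn hM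
    rw [← top_le_iff, ← hgen, Subgroup.closure_le]
    rintro _ ⟨y, hy, rfl⟩
    exact cjB_sound hs hn hc hinj hic hMn cs _ hcs (fun y hy => pwB_sound hs hn hc hinj hic hM ps hps y hy) y hy

end

end Cfsg.Agent.H8.Act4
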