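import Cfsg.Agent.H8_Act4

/-!
Network actions with the equality checks split into pieces (by pairs of words and by label planes), and with
auxiliary letters standing for words.
-/

set_option autoImplicit false

namespace Cfsg.Agent.H8.Act5

open CE Net Act Cox Act2 Act4

section
variable {L : List Nt} {n k : ℕ}

/-- compare the actions of all the pairs of words on the label planes `b0 ≤ b < b0 + m` -/
noncomputable def eqR (L : List Nt) (n k : ℕ) (ps : List (List ℕ × List ℕ)) (b0 : ℕ) : ℕ → Bool :=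
  Nat.rec (motive := fun _ => Bool) true (fun b ih => N (lab n k (Nat.add b0 b)) fun v =>
    List.rec (motive := fun _ => Bool) ih (fun p _ ih' => runL (nw L p.1) v fun a => runL (nw L p.2) v fun c =>
      Bool.rec false ih' (Nat.beq a c)) ps)

theorem eqR_sound {ps : List (List ℕ × List ℕ)} {b0 : ℕ} (m : ℕ) (h : eqR L n k ps b0 m = true) :
    ∀ p ∈ ps, ∀ b, b < m → apL (nw L p.1) (lab n k (b0 + b)) = apL (nw L p.2) (lab n k (b0 + b)) := by
  induction m with
  | zero => intro p _ b hb; omega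
  | succ m ih =>
    have h1 : eqR L n k ps b0 (m + 1) = N (lab n k (Nat.add b0 m)) fun v =>
      List.rec (motive := fun _ => Bool) (eqR L n k ps b0 m) (fun p _ ih' => runL (nw L p.1) v fun a => runL (nw L p.2) v fun c =>
      Bool.rec false ih' (Nat.beq a c)) ps := rfl
    rw [h1, N_eq] at h
    have key : ∀ (qs : List (List ℕ × List ℕ)) (B : Bool),
        (List.rec (motive := fun _ => Bool) B (fun p _ ih' => runL (nw L p.1) (lab n k (Nat.add b0 m)) fun a =>
          runL (nw L p.2) (lab n k (Nat.add b0 m)) fun c => Bool.rec false ih' (Nat.beq a c)) qs : Bool) = true →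
        B = true ∧ ∀ p ∈ qs, apL (nw L p.1) (lab n k (b0 + m)) = apL (nw L p.2) (lab n k (b0 + m)) := by
      intro qs B
      induction qs with
      | nil => intro hB; exact ⟨hB, fun p hp => by simp at hp⟩
      | cons q qs ihq =>
        intro hB
        have h2 : (runL (nw L q.1) (lab n k (Nat.add b0 m)) fun a => runL (nw L q.2) (lab n k (Nat.add b0 m)) fun c =>
          Bool.rec false (List.rec (motive := fun _ => Bool) B (fun p _ ih' => runL (nw L p.1) (lab n k (Nat.add b0 m)) fun a =>
          runL (nw L p.2) (lab n k (Nat.add b0 m)) fun c => Bool.rec false ih' (Nat.beq a c)) qs : Bool) (Nat.beq a c)) = true := hB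
        rw [runL_eq, runL_eq] at h2
        cases hb : Nat.beq (apL (nw L q.1) (lab n k (Nat.add b0 m))) (apL (nw L q.2) (lab n k (Nat.add b0 m)))
        · rw [hb] at h2; exact absurd h2 (by simp)
        · rw [hb] at h2
          obtain ⟨h3, h4⟩ := ihq h2
          refine ⟨h3, ?_⟩
          intro p hp
          rw [List.mem_cons] at hp
          rcases hp with rfl | hp
          · exact Nat.eq_of_beq_eq_true hb
          · exact h4 p hp
    obtain ⟨h3, h4⟩ := key ps _ h
    intro p hp b hb
    rcases Nat.lt_succ_iff_lt_or_eq.1 hb with hlt | rfl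
    · exact ih h3 p hp b hlt
    · exact h4 p hp

/-- equality on the planes `b0 ≤ b < b1` -/
def PlEq (L : List Nt) (n k : ℕ) (ps : List (List ℕ × List ℕ)) (b0 b1 : ℕ) : Prop :=
  ∀ p ∈ ps, ∀ b, b0 ≤ b → b < b1 → apL (nw L p.1) (lab n k b) = apL (nw L p.2) (lab n k b)

theorem plEq_of {ps : List (List ℕ × List ℕ)} {b0 m : ℕ} (h : eqR L n k ps b0 m = true) : PlEq L n k ps b0 (b0 + m) := by
  intro p hp b h1 h2
  have h3 := eqR_sound m h p hp (b - b0) (by omega)
  have e : b0 + (b - b0) = b := by omega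
  rwa [e] at h3

theorem plEq_trans {ps : List (List ℕ × List ℕ)} {b0 b1 b2 : ℕ} (h : PlEq L n k ps b0 b1) (h' : PlEq L n k ps b1 b2) :
    PlEq L n k ps b0 b2 := by
  intro p hp b h1 h2
  by_cases h3 : b < b1
  · exact h p hp b h1 h3
  · exact h' p hp b (by omega) h2

theorem eqK_of {us ws : List Nt} (j : ℕ) (h : ∀ b, b < j → apL us (lab n k b) = apL ws (lab n k b)) :
    eqK us ws n k j = true := by
  induction j with
  | zero => rfl
  | succ j ih =>
    have h1 : eqK us ws n k (j + 1) = N (lab n k j) fun v => runL us v fun a => runL ws v fun c =>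
      Bool.rec false (eqK us ws n k j) (Nat.beq a c) := rfl
    rw [h1, N_eq, runL_eq, runL_eq, h j (by omega)]
    have h2 : Nat.beq (apL ws (lab n k j)) (apL ws (lab n k j)) = true := Nat.beq_refl _
    rw [h2]
    exact ih (fun b hb => h b (by omega))

theorem eqAll_of {ps : List (List ℕ × List ℕ)} (h : ∀ p ∈ ps, eqW L n k p.1 p.2 = true) : eqAll L n k ps = true := by
  induction ps with
  | nil => rfl
  | cons p0 ps ih =>
    have h1 : eqAll L n k (p0 :: ps) = (Bool.rec false (eqAll L n k ps) (eqW L n k p0.1 p0.2) : Bool) := rfl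
    rw [h1, h p0 (by simp)]
    exact ih (fun p hp => h p (by simp [hp]))

/-- all pairs of the list are equal -/
def Good (L : List Nt) (n k : ℕ) (ps : List (List ℕ × List ℕ)) : Prop := ∀ p ∈ ps, eqW L n k p.1 p.2 = true

theorem good_of_plEq {ps : List (List ℕ × List ℕ)} (h : PlEq L n k ps 0 k) : Good L n k ps := by
  intro p hp
  exact eqK_of k (fun b hb => h p hp b (by omega) hb)

theorem good_of_eqR {ps : List (List ℕ × List ℕ)} (h : eqR L n k ps 0 k = true) : Good L n k ps := by
  have h1 := plEq_of h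
  rw [Nat.zero_add] at h1
  exact good_of_plEq h1

theorem good_append {ps qs : List (List ℕ × List ℕ)} (h : Good L n k ps) (h' : Good L n k qs) : Good L n k (ps ++ qs) := by
  intro p hp
  rw [List.mem_append] at hp
  rcases hp with hp | hp
  · exact h p hp
  · exact h' p hp

/-- sublists -/
theorem good_mono {ps qs : List (List ℕ × List ℕ)} (h : Good L n k qs) (h' : (ps.all fun p => qs.contains p) = true) :
    Good L n k ps := by
  intro p hp
  rw [List.all_eq_true] at h'
  have := h' p hp
  rw [List.contains_iff_mem] at this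
  exact h p this

theorem eqAll_of_good {ps qs : List (List ℕ × List ℕ)} (h : Good L n k qs) (h' : (ps.all fun p => qs.contains p) = true) :
    eqAll L n k ps = true := eqAll_of (good_mono h h')

/-! ### Strong generators -/

/-- the pairs for the strong generators -/
def sgPairs (sg : List (List ℕ)) (j : ℕ) : List (List ℕ × List ℕ) :=
  match sg with
  | [] => []
  | w :: sg => ([j], w) :: sgPairs sg (j + 1)

/-- the letters of the words are smaller -/
def sgLt (sg : List (List ℕ)) (j : ℕ) : Bool :=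
  match sg with
  | [] => true
  | w :: sg => (w.all fun y => Nat.blt y j) && sgLt sg (j + 1)

theorem sgB_of {sg : List (List ℕ)} : ∀ (j : ℕ), Good L n k (sgPairs sg j) → sgLt sg j = true → sgB L n k sg j = true := by
  induction sg with
  | nil => intro j _ _; rfl
  | cons w sg ih =>
    intro j h h'
    rw [sgLt, Bool.and_eq_true] at h'
    have h1 : sgB L n k (w :: sg) j = Bool.rec false (Bool.rec false (N (Nat.succ j) (sgB L n k sg))
      (eqW L n k [j] w)) (w.all fun y => Nat.blt y j) := rfl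
    have h2 : eqW L n k [j] w = true := h ([j], w) (by simp [sgPairs])
    rw [h1, h'.1, h2]
    show N (Nat.succ j) (sgB L n k sg) = true
    rw [N_eq]
    exact ih (j + 1) (fun p hp => h p (by simp [sgPairs, hp])) h'.2

end

/-! ### Elements for all the letters -/

section
variable {L : List Nt} {n k ic : ℕ} {G : Type*} [Group G] {x : ℕ → G} {φ : G →* Equiv.Perm (Fin n)}

/-- compatibility for all letters -/
def CompatX (φ : G →* Equiv.Perm (Fin n)) (X : ℕ → G) (L : List Nt) : Prop :=
  ∀ y, ∀ i : Fin n, ((((φ (X y))⁻¹ : Equiv.Perm (Fin n)) i : Fin n) : ℕ) = (net L y).pos i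

theorem exists_X (hs : sysOk L n = true) (hn : n ≤ 2 ^ k) (hc : Compat φ x L) {sg : List (List ℕ)}
    (hsg : sgB L n k sg 16 = true) (hlen : Nat.ble L.length (16 + sg.length) = true) :
    ∃ X : ℕ → G, (∀ y, y < 16 → X y = x y) ∧ CompatX φ X L := by
  classical
  choose g hg using exists_g hs hn hc hsg hlen
  refine ⟨fun y => if y < 16 then x y else g y, fun y hy => if_pos hy, ?_⟩
  intro y i
  by_cases hy : y < 16
  · simp only [if_pos hy]; exact hc y hy i
  · simp only [if_neg hy]; exact hg y i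

theorem compatX_ev {X : ℕ → G} (h : CompatX φ X L) :
    ∀ (w : List ℕ) (i : Fin n), ((((φ (ev X w))⁻¹ : Equiv.Perm (Fin n)) i : Fin n) : ℕ) = tr L w i
  | [], i => by simp [tr]
  | y :: w, i => by
    have h1 := h y i
    have h2 : ((φ (ev X (y :: w)))⁻¹ : Equiv.Perm (Fin n)) i =
      ((φ (ev X w))⁻¹ : Equiv.Perm (Fin n)) (((φ (X y))⁻¹ : Equiv.Perm (Fin n)) i) := by
      rw [ev_cons, map_mul, mul_inv_rev]; rfl
    rw [h2, compatX_ev h w, h1]
    rfl

theorem evX_eq {X : ℕ → G} (h : CompatX φ X L) (hinj : Function.Injective φ) (hs : sysOk L n = true) (hn : n ≤ 2 ^ k)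
    {u w : List ℕ} (he : eqW L n k u w = true) : ev X u = ev X w := by
  apply hinj
  apply inv_injective
  ext i
  rw [compatX_ev h u, compatX_ev h w]
  exact eqW_sound hs hn he i i.2

/-- expansion of the auxiliary letters -/
def ex1 (sg : List (List ℕ)) (w : List ℕ) : List ℕ :=
  w.flatMap fun y => if y < 16 then [y] else sg.getD (y - 16) []

theorem ev_ex1 {X : ℕ → G} {sg : List (List ℕ)} (hX : ∀ i (hi : i < sg.length), X (16 + i) = ev X sg[i]) :
    ∀ (w : List ℕ), (∀ y ∈ w, y < 16 + sg.length) → ev X (ex1 sg w) = ev X w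
  | [], _ => rfl
  | y :: w, hw => by
    have h1 : ex1 sg (y :: w) = (if y < 16 then [y] else sg.getD (y - 16) []) ++ ex1 sg w := rfl
    rw [h1, ev_append, ev_cons, ev_ex1 hX w (fun z hz => hw z (by simp [hz]))]
    congr 1
    by_cases hy : y < 16
    · rw [if_pos hy]; simp
    · have hy2 := hw y (by simp)
      rw [if_neg hy, List.getD_eq_getElem _ _ (by omega : y - 16 < sg.length)]
      have h2 := hX (y - 16) (by omega)
      have e : 16 + (y - 16) = y := by omega
      rw [e] at h2
      exact h2.symm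

/-- relators given by compressed words -/
theorem relP_of2 (hs : sysOk L n = true) (hn : n ≤ 2 ^ k) (hi : invOk L n k ic = true) {sg : List (List ℕ)}
    (hsg : sgB L n k sg 16 = true) (hlen : Nat.ble L.length (16 + sg.length) = true) {rels crels : List (List ℕ)}
    (hr : Good L n k (crels.map fun w => (w, []))) (he : crels.map (ex1 sg) = rels)
    (hlt : (crels.all fun w => w.all fun y => Nat.blt y (16 + sg.length)) = true) (hlt' : ltOk rels = true) :
    ∀ w ∈ rels, ev (xP hs hn hi) w = 1 := by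
  obtain ⟨X, hX, hXc⟩ := exists_X hs hn (compat_id hs hn hi) hsg hlen
  have hsg' : ∀ i (hi : i < sg.length), X (16 + i) = ev X sg[i] := by
    intro i hi
    have h1 := (sgB_sound 16 hsg i hi).1
    have h2 := evX_eq hXc (fun a b h => h) hs hn h1
    simpa using h2
  intro w hw
  rw [← he, List.mem_map] at hw
  obtain ⟨c, hc, rfl⟩ := hw
  have h1 : ev (xP hs hn hi) (ex1 sg c) = ev X (ex1 sg c) := by
    refine ev_congr (fun y hy => (hX y hy).symm) _ (ltOk_sound hlt' _ ?_)
    rw [← he]; exact List.mem_map_of_mem hc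
  rw [List.all_eq_true] at hlt
  have h2 := hlt c hc
  rw [List.all_eq_true] at h2
  rw [h1, ev_ex1 hsg' c (fun y hy => blt_eq.1 (h2 y hy))]
  have h3 := hr (c, []) (List.mem_map.2 ⟨c, hc, rfl⟩)
  exact evX_eq hXc (fun a b h => h) hs hn h3

/-- the action of a presented group given by networks -/
theorem exists_action2 {α : Type} (R : Set (FreeGroup α)) (lm : List (FreeGroup α)) {L : List Nt} {n k ic : ℕ}
    (hs : sysOk L n = true) (hn : n ≤ 2 ^ k) (hi : invOk L n k ic = true) {rels : List (List ℕ)}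
    (hr : ∀ w ∈ rels, ev (xP hs hn hi) w = 1) (hlt : ltOk rels = true)
    (f : α → Equiv.Perm (Fin n)) (hx : ∀ y, y < 16 → xF f lm y = xP hs hn hi y)
    (lifts : (∀ y, y < 16 → xF f lm (il ic y) = (xF f lm y)⁻¹) → (∀ w ∈ rels, ev (xF f lm) w = 1) →
      ∀ r ∈ R, FreeGroup.lift f r = 1) :
    ∃ φ : PresentedGroup R →* Equiv.Perm (Fin n), Compat φ (xG R lm) L := by
  refine exists_hom R lm hs hn hi f (lifts ?_ ?_) hx
  · intro y hy
    rw [hx _ (il_lt ic y), hx y hy, xP_il hs hn hi y hy]
  · intro w hw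
    rw [ev_congr hx w (ltOk_sound hlt w hw)]
    exact hr w hw

/-- pairs for the products of two elements of order dividing `p`: `(y, u, v)` stands for `y = u v` -/
def pwPairs (p : ℕ) (ps : List (ℕ × ℕ × ℕ)) : List (List ℕ × List ℕ) :=
  ps.flatMap fun t => [([t.1], [t.2.1, t.2.2]), (powW [t.2.1] p, []), (powW [t.2.2] p, [])]

/-- pairs for conjugate letters: `(y', y, g)` stands for `y' = g⁻¹ y g` -/
def cjPairs (ic : ℕ) (cs : List (ℕ × ℕ × List ℕ)) : List (List ℕ × List ℕ) :=
  cs.map fun t => ([t.1], invw ic t.2.2 ++ (t.2.1 :: t.2.2))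

/-- the letters are conjugate to earlier ones -/
def cjOk : List (ℕ × ℕ × List ℕ) → List ℕ → Bool
  | [], _ => true
  | (y', y, g) :: l, known => known.contains y && (g.all fun z => Nat.blt z 16) && cjOk l (y' :: known)

theorem cjX_sound (hs : sysOk L n = true) (hn : n ≤ 2 ^ k) {X : ℕ → G} (hX : CompatX φ X L) (hinj : Function.Injective φ)
    (hic : ∀ y, y < 16 → X (il ic y) = (X y)⁻¹) {M : Subgroup G} (hM : M.Normal) :
    ∀ (cs : List (ℕ × ℕ × List ℕ)) (known : List ℕ), Good L n k (cjPairs ic cs) → cjOk cs known = true →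
      (∀ y ∈ known, X y ∈ M) → ∀ y ∈ cs.map Prod.fst ++ known, X y ∈ M
  | [], known, _, _, hk, y, hy => hk y (by simpa using hy)
  | (y', y0, g) :: l, known, h, h', hk, y, hy => by
    simp only [cjOk, Bool.and_eq_true, List.all_eq_true] at h'
    obtain ⟨⟨h1, h4⟩, h6⟩ := h'
    rw [List.contains_iff_mem] at h1
    have hg : ∀ z ∈ g, z < 16 := fun z hz => blt_eq.1 (h4 z hz)
    have h5 := h ([y'], invw ic g ++ (y0 :: g)) (by simp [cjPairs])
    have e1 := evX_eq hX hinj hs hn h5
    have e3 : ev X (invw ic g) = (ev X g)⁻¹ := ev_invw hic g hg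
    rw [ev_cons, ev_nil, mul_one, ev_append, e3, ev_cons] at e1
    have e2 : X y' ∈ M := by
      rw [e1, ← mul_assoc]
      have := hM.conj_mem _ (hk y0 h1) (ev X g)⁻¹
      simpa using this
    have ih := cjX_sound hs hn hX hinj hic hM l (y' :: known) (fun p hp => h p (by
      simp only [cjPairs, List.map_cons, List.mem_cons]; exact Or.inr hp)) h6 (by
      intro z hz
      rw [List.mem_cons] at hz
      rcases hz with rfl | hz
      · exact e2
      · exact hk z hz)
    apply ih
    simp only [List.map_cons, List.cons_append, List.mem_cons, List.mem_append] at hy ⊢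
    tauto

theorem pwX_sound (hs : sysOk L n = true) (hn : n ≤ 2 ^ k) {X : ℕ → G} (hX : CompatX φ X L) (hinj : Function.Injective φ)
    {p : ℕ} {M : Subgroup G} (hM : ∀ g : G, g ^ p = 1 → g ∈ M) (ps : List (ℕ × ℕ × ℕ)) (h : Good L n k (pwPairs p ps)) :
    ∀ y ∈ ps.map Prod.fst, X y ∈ M := by
  intro y hy
  rw [List.mem_map] at hy
  obtain ⟨⟨y', u, v⟩, ht, rfl⟩ := hy
  have h1 := h ([y'], [u, v]) (by
    rw [pwPairs, List.mem_flatMap]; exact ⟨_, ht, by simp⟩)
  have h2 := h (powW [u] p, []) (by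
    rw [pwPairs, List.mem_flatMap]; exact ⟨_, ht, by simp⟩)
  have h3 := h (powW [v] p, []) (by
    rw [pwPairs, List.mem_flatMap]; exact ⟨_, ht, by simp⟩)
  have e1 := evX_eq hX hinj hs hn h1
  have e2 := evX_eq hX hinj hs hn h2
  have e3 := evX_eq hX hinj hs hn h3
  rw [ev_powW, ev_nil, ev_cons, ev_nil, mul_one] at e2 e3
  simp only [ev_cons, ev_nil, mul_one] at e1
  show X y' ∈ M
  rw [e1]
  exact M.mul_mem (hM _ e2) (hM _ e3)

/-- simplicity from data -/
theorem simple_of_data3 [Finite G] (hs : sysOk L n = true) (hn : n ≤ 2 ^ k) (hc : Compat φ x L)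
    (hinj : Function.Injective φ) (hic : ∀ y, y < 16 → x (il ic y) = (x y)⁻¹) (hn1 : 1 < n)
    {sg : List (List ℕ)} (hsg : sgB L n k sg 16 = true) (hlen : Nat.ble L.length (16 + sg.length) = true)
    {ys zs : List ℕ} (hys : (ys.all fun y => Nat.blt y 16) = true) (hzs : (zs.all fun y => Nat.blt y 16) = true) {r : ℕ}
    (htr : reachIv L ys r (nat_lit 0) (nat_lit 0) n = true)
    (hfix : fixP L zs [nat_lit 0] = true) {ds : List (ℕ × ℕ × ℕ)} (hds : orbB L n zs ds = true)
    (hsum : 1 + (ds.map Prod.fst).sum = n)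
    (hsums : ∀ s ∈ sums (ds.map Prod.fst), s ∣ n → s = 1 ∨ s = n)
    {p e : ℕ} (hp : p.Prime) (hpe : p ^ e ∣ n) (hpe1 : ¬ p ^ (e + 1) ∣ Nat.card G)
    {ps : List (ℕ × ℕ × ℕ)} (hps : Good L n k (pwPairs p ps))
    {cs : List (ℕ × ℕ × List ℕ)} (hcs : Good L n k (cjPairs ic cs)) (hcs' : cjOk cs (ps.map Prod.fst) = true)
    (hlt : ((cs.map Prod.fst ++ ps.map Prod.fst).all fun y => Nat.blt y 16) = true)
    (hgen : Subgroup.closure (x '' {y | y ∈ cs.map Prod.fst ++ ps.map Prod.fst}) = ⊤) : IsSimpleGroup G := by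
  rw [List.all_eq_true] at hys hzs hlt
  have hn0 : 0 < n := by omega
  obtain ⟨X, hX, hXc⟩ := exists_X hs hn hc hsg hlen
  refine simple_of hn1 hinj (trans_of hs hc (fun y hy => blt_eq.1 (hys y hy)) hn0 htr) (ds.map Prod.fst) hsum ?_ hsums p e hp hpe
    hpe1 ?_
  · intro a s l hl ha
    obtain ⟨r, c, hcn, hr⟩ := orbB_sound ds hds a s l hl ha
    refine ⟨⟨c, hcn⟩, fun i hi1 hi2 => ?_⟩
    obtain ⟨g, _, hg0, hgc⟩ := suborb_of hs hc (fun y hy => blt_eq.1 (hzs y hy)) hfix hn0 (by omega) hcn hr i hi1 hi2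
    exact ⟨g, hg0, hgc⟩
  · intro M hMn hM
    rw [← top_le_iff, ← hgen, Subgroup.closure_le]
    rintro _ ⟨y, hy, rfl⟩
    have hy16 := blt_eq.1 (hlt y hy)
    rw [← hX y hy16]
    refine cjX_sound hs hn hXc hinj ?_ hMn cs _ hcs hcs' (fun y hy => pwX_sound hs hn hXc hinj hM ps hps y hy) y hy
    intro y hy
    rw [hX _ (il_lt ic y), hX y hy, hic y hy]

end

end Cfsg.Agent.H8.Act5
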