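import Cfsg.Agent.H8_CS

/-!
Certificates split into several parts.
-/

set_option autoImplicit false

namespace Cfsg.Agent.H8.CS

open CE

section
variable {G : Type*} [Group G] {x : ℕ → G}

theorem bound_of2 {H : Subgroup G} {S : ℕ → ℕ} {ic nN n k tot kk : ℕ} {L : List ℕ} {lets : Wd}
    (hic : ∀ y, y < 16 → x (il ic y) = (x y)⁻¹) (h0 : x 0 = 1) (hL : ∀ s ∈ L, x s ∈ H)
    (hL16 : (L.all fun s => Nat.blt s 16) = true) (hnN0 : Nat.blt 0 nN = true)
    (hnN : Nat.ble nN 1048576 = true) (hk : Nat.ble nN (1 + 2 ^ kk) = true) (hk16 : Nat.blt k 16 = true)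
    (hlets : letsOk ic k lets = true)
    (hS0 : S 0 = 0) (hd : rangeS nN (defC S) kk (nat_lit 1) = true)
    (hi : initC S L nN = true)
    (hprog : (∀ g, g < nN + L.length → VF H x (rho x S) nN S g) → ∀ g, g < tot → VF H x (rho x S) nN S g)
    (hclo : (∀ g, g < tot → VF H x (rho x S) nN S g) → il ic 0 = 0 → lets.Ok ic →
      (∀ y, 1 ≤ y → y ≤ k → y ∈ lets.lets) → nN ≤ 1048576 → Clo H x (rho x S) nN k 0 0 →
      Clo H x (rho x S) nN k nN n) :
    H.relIndex (Subgroup.closure (x '' {y | 1 ≤ y ∧ y ≤ k})) ≤ n ∧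
      H.relIndex (Subgroup.closure (x '' {y | 1 ≤ y ∧ y ≤ k})) ≠ 0 := by
  have hnN' : nN ≤ 1048576 := Nat.le_of_ble_eq_true hnN
  have hnN0' : 0 < nN := blt_eq.1 hnN0
  simp only [letsOk, Bool.and_eq_true, beq_iff_eq, List.all_eq_true] at hlets
  obtain ⟨⟨⟨h1, h2⟩, h3⟩, h4⟩ := hlets
  rw [List.all_eq_true] at hL16
  have hst := start_sound (H := H) (x := x) (S := S) (nN := nN) (L := L) (kk := kk)
    (fun s hs => ⟨blt_eq.1 (hL16 s hs), hL s hs⟩) h0 hnN0' hS0 hd (Nat.le_of_ble_eq_true hk) hi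
  have hf := hprog hst
  have hc := hclo hf h3 (Wd.ok_of_chk h1)
    (fun y hy1 hy2 => by
      rw [h2, List.mem_map]
      exact ⟨y - 1, by rw [List.mem_range]; omega, by omega⟩) hnN'
    (fun _ => ⟨[], by simp, fun u hu => absurd hu (by omega)⟩)
  obtain ⟨L', hL', hcov⟩ := cover_of_clo rho_zero hnN0' hnN' hc (fun y hy1 hy2 => by
    have h5 := h4 (y - 1) (by rw [List.mem_range]; omega)
    have e : y - 1 + 1 = y := by omega
    rw [e] at h5
    exact ⟨il ic y, blt_eq.1 h5.1, Nat.le_of_ble_eq_true h5.2,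
      hic y (lt_of_le_of_lt hy2 (blt_eq.1 hk16))⟩)
  exact relIndex_le_of_cover L' hL' hcov

end

end Cfsg.Agent.H8.CS
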