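import Cfsg.Agent.H8_Act
import Cfsg.Agent.H8_CS
import Cfsg.Prelude.Def_SporCoxeter

/-!
Glue between presented groups and letters.
-/

set_option autoImplicit false

namespace Cfsg.Agent.H8.Cox

open CE Net Act Cfsg.Spor

/-- values of the letters -/
def xF {α K : Type} [Group K] (f : α → K) (lm : List (FreeGroup α)) (y : ℕ) : K :=
  FreeGroup.lift f (lm.getD y 1)

/-- letters in the presented group -/
def xG {α : Type} (R : Set (FreeGroup α)) (lm : List (FreeGroup α)) (y : ℕ) : PresentedGroup R :=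
  PresentedGroup.mk R (lm.getD y 1)

theorem lift_of_eq_mk {α : Type} (R : Set (FreeGroup α)) (r : FreeGroup α) :
    FreeGroup.lift (PresentedGroup.of (rels := R)) r = PresentedGroup.mk R r := by
  have : FreeGroup.lift (PresentedGroup.of (rels := R)) = PresentedGroup.mk R := by
    apply FreeGroup.ext_hom
    intro a
    rw [FreeGroup.lift_apply_of]
    rfl
  rw [this]

theorem xG_eq {α : Type} (R : Set (FreeGroup α)) (lm : List (FreeGroup α)) :
    xG R lm = xF (PresentedGroup.of (rels := R)) lm := by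
  funext y
  unfold xG xF
  rw [lift_of_eq_mk]

theorem lift_of_rel {α : Type} (R : Set (FreeGroup α)) : ∀ r ∈ R, FreeGroup.lift (PresentedGroup.of (rels := R)) r = 1 := by
  intro r hr
  rw [lift_of_eq_mk]
  exact PresentedGroup.mk_eq_one_iff.2 (Subgroup.subset_normalClosure hr)

/-- the Coxeter words -/
def coxW (i j m : ℕ) : List ℕ := powW [i, j] m

theorem ev_coxW {K : Type*} [Group K] (x : ℕ → K) (i j m : ℕ) : ev x (coxW i j m) = (x i * x j) ^ m := by
  rw [coxW, ev_powW]; simp

theorem cox_iff {α K : Type} [DecidableEq α] [Group K] (edges : List (α × ℕ × α)) (f : α → K) :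
    (∀ r ∈ coxRelators edges, FreeGroup.lift f r = 1) ↔
      ∀ a ∈ coxNodes edges, ∀ b ∈ coxNodes edges, (f a * f b) ^ coxLabel edges a b = 1 := by
  constructor
  · intro h a ha b hb
    have := h _ ⟨a, ha, b, hb, rfl⟩
    simpa using this
  · rintro h _ ⟨a, ha, b, hb, rfl⟩
    simpa using h a ha b hb

theorem pow_swap {K : Type*} [Group K] (a b : K) (m : ℕ) (h : (a * b) ^ m = 1) : (b * a) ^ m = 1 := by
  have h1 : b * a = b * (a * b) * b⁻¹ := by group
  rw [h1, conj_pow, h]; simp

/-- a homomorphism to permutations from networks -/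
theorem exists_hom {α : Type} (R : Set (FreeGroup α)) (lm : List (FreeGroup α)) {L : List Nt} {n k ic : ℕ}
    (hs : sysOk L n = true) (hn : n ≤ 2 ^ k) (hi : invOk L n k ic = true) (f : α → Equiv.Perm (Fin n))
    (hf : ∀ r ∈ R, FreeGroup.lift f r = 1) (hx : ∀ y, y < 16 → xF f lm y = xP hs hn hi y) :
    ∃ φ : PresentedGroup R →* Equiv.Perm (Fin n), Compat φ (xG R lm) L := by
  refine ⟨PresentedGroup.toGroup hf, ?_⟩
  intro y hy i
  have h1 : PresentedGroup.toGroup hf (xG R lm y) = xF f lm y := by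
    unfold xG xF
    rfl
  rw [h1, hx y hy]
  exact xP_inv_apply hs hn hi y hy i

theorem xP_eq_one {L : List Nt} {n k ic : ℕ}
    (hs : sysOk L n = true) (hn : n ≤ 2 ^ k) (hi : invOk L n k ic = true) (y : ℕ) (h : net L y = .nil) :
    xP hs hn hi y = 1 := by
  by_cases hy : y < 16
  · apply inv_injective
    ext i
    rw [xP_inv_apply hs hn hi y hy i, h]
    simp [Nt.pos]
  · unfold xP
    rw [dif_neg hy]

theorem xP_il {L : List Nt} {n k ic : ℕ}
    (hs : sysOk L n = true) (hn : n ≤ 2 ^ k) (hi : invOk L n k ic = true) (y : ℕ) (hy : y < 16) :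
    xP hs hn hi (il ic y) = (xP hs hn hi y)⁻¹ := by
  apply inv_injective
  ext i
  rw [xP_inv_apply hs hn hi _ (il_lt ic y) i, inv_inv]
  unfold xP
  rw [dif_pos hy]
  rfl

/-- the letters of a list of words are small -/
def ltOk (rels : List (List ℕ)) : Bool := rels.all fun w => w.all fun y => Nat.blt y 16

theorem ltOk_sound {rels : List (List ℕ)} (h : ltOk rels = true) : ∀ w ∈ rels, ∀ y ∈ w, y < 16 := by
  intro w hw y hy
  unfold ltOk at h
  rw [List.all_eq_true] at h
  have := h w hw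
  rw [List.all_eq_true] at this
  exact blt_eq.1 (this y hy)

theorem relP_of {L : List Nt} {n k ic : ℕ}
    (hs : sysOk L n = true) (hn : n ≤ 2 ^ k) (hi : invOk L n k ic = true) {rels : List (List ℕ)}
    (hr : eqAll L n k (rels.map fun w => (w, [])) = true) (hlt : ltOk rels = true) :
    ∀ w ∈ rels, ev (xP hs hn hi) w = 1 := by
  intro w hw
  have h1 := eqAll_sound hr (w, []) (List.mem_map.2 ⟨w, hw, rfl⟩)
  have h4 := ev_xP_eq hs hn hi (ltOk_sound hlt w hw) (w := []) (by simp) h1
  rw [h4, ev_nil]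

theorem ev_congr {K : Type*} [Group K] {x x' : ℕ → K} (h : ∀ y, y < 16 → x y = x' y) (w : List ℕ)
    (hw : ∀ y ∈ w, y < 16) : ev x w = ev x' w := by
  induction w with
  | nil => rfl
  | cons y w ih => rw [ev_cons, ev_cons, h y (hw y (by simp)), ih (fun z hz => hw z (by simp [hz]))]

/-- the action of a presented group given by networks -/
theorem exists_action {α : Type} (R : Set (FreeGroup α)) (lm : List (FreeGroup α)) {L : List Nt} {n k ic : ℕ}
    (hs : sysOk L n = true) (hn : n ≤ 2 ^ k) (hi : invOk L n k ic = true) {rels : List (List ℕ)}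
    (hr : eqAll L n k (rels.map fun w => (w, [])) = true) (hlt : ltOk rels = true)
    (f : α → Equiv.Perm (Fin n)) (hx : ∀ y, y < 16 → xF f lm y = xP hs hn hi y)
    (lifts : (∀ y, y < 16 → xF f lm (il ic y) = (xF f lm y)⁻¹) → (∀ w ∈ rels, ev (xF f lm) w = 1) →
      ∀ r ∈ R, FreeGroup.lift f r = 1) :
    ∃ φ : PresentedGroup R →* Equiv.Perm (Fin n), Compat φ (xG R lm) L := by
  refine exists_hom R lm hs hn hi f (lifts ?_ ?_) hx
  · intro y hy
    rw [hx _ (il_lt ic y), hx y hy, xP_il hs hn hi y hy]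
  · intro w hw
    rw [ev_congr hx w (ltOk_sound hlt w hw)]
    exact relP_of hs hn hi hr hlt w hw

theorem closure_top {α : Type} (R : Set (FreeGroup α)) (lm : List (FreeGroup α)) (P : ℕ → Prop)
    (h : ∀ a : α, ∃ y, P y ∧ lm.getD y 1 = FreeGroup.of a) :
    Subgroup.closure (xG R lm '' {y | P y}) = ⊤ := by
  rw [← top_le_iff, ← PresentedGroup.closure_range_of R, Subgroup.closure_le]
  rintro _ ⟨a, rfl⟩
  obtain ⟨y, hy, hya⟩ := h a
  apply Subgroup.subset_closure
  refine ⟨y, hy, ?_⟩
  unfold xG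
  rw [hya]
  rfl

/-- images of closures of generators -/
theorem map_closure_gens {α : Type} (R : Set (FreeGroup α)) (lm : List (FreeGroup α)) (S : Set (FreeGroup α)) (P : ℕ → Prop)
    (h1 : ∀ s ∈ S, ∃ y, P y ∧ lm.getD y 1 = s) (h2 : ∀ y, P y → lm.getD y 1 ∈ S) :
    (Subgroup.closure S).map (PresentedGroup.mk R) = Subgroup.closure (xG R lm '' {y | P y}) := by
  rw [MonoidHom.map_closure]
  congr 1
  ext g
  constructor
  · rintro ⟨s, hs, rfl⟩
    obtain ⟨y, hy, rfl⟩ := h1 s hs
    exact ⟨y, hy, rfl⟩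
  · rintro ⟨y, hy, rfl⟩
    exact ⟨_, h2 y hy, rfl⟩

/-- one pair of Coxeter generators -/
def pairOk (rels : List (List ℕ)) (i j m : ℕ) : Bool :=
  rels.contains (coxW i j m) || rels.contains (coxW j i m) || (i == j && m == 1)

theorem pairOk_sound {K : Type*} [Group K] {x : ℕ → K} {rels : List (List ℕ)} (hrels : ∀ w ∈ rels, ev x w = 1)
    {i j m : ℕ} (hi : x i * x i = 1) (h : pairOk rels i j m = true) : (x i * x j) ^ m = 1 := by
  simp only [pairOk, Bool.or_eq_true, List.contains_iff_mem, Bool.and_eq_true, beq_iff_eq] at h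
  rcases h with (h | h) | ⟨rfl, rfl⟩
  · rw [← ev_coxW]; exact hrels _ h
  · exact pow_swap _ _ _ (by rw [← ev_coxW]; exact hrels _ h)
  · simpa using hi

/-- order from a chain of subgroups -/
theorem card_le_of_relIndex {G : Type*} [Group G] {H K : Subgroup G} (h : H ≤ K) {n m : ℕ}
    (h1 : H.relIndex K ≤ n ∧ H.relIndex K ≠ 0) (h2 : Nat.card H ≤ m ∧ Nat.card H ≠ 0) :
    Nat.card K ≤ n * m ∧ Nat.card K ≠ 0 := by
  have h3 : Nat.card H * H.relIndex K = Nat.card K := by
    rw [Subgroup.relIndex, ← Subgroup.card_mul_index (H.subgroupOf K)]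
    congr 1
    exact (Nat.card_congr (Subgroup.subgroupOfEquivOfLe h).toEquiv).symm
  constructor
  · rw [← h3, Nat.mul_comm n m]
    exact Nat.mul_le_mul h2.1 h1.1
  · rw [← h3]
    exact Nat.mul_ne_zero h2.2 h1.2

end Cfsg.Agent.H8.Cox
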