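import Cfsg.Agent.H8_CS

set_option autoImplicit false
set_option maxRecDepth 1000000

namespace Cfsg.Agent.H8.Fi22dT

open CE CS

def ic : ℕ := nat_lit 1985229328

def rels : List (List ℕ) := [[nat_lit 1, nat_lit 2, nat_lit 1, nat_lit 2, nat_lit 1, nat_lit 2],
  [nat_lit 1, nat_lit 3, nat_lit 1, nat_lit 3],
  [nat_lit 1, nat_lit 4, nat_lit 1, nat_lit 4],
  [nat_lit 1, nat_lit 5, nat_lit 1, nat_lit 5],
  [nat_lit 1, nat_lit 6, nat_lit 1, nat_lit 6],
  [nat_lit 1, nat_lit 7, nat_lit 1, nat_lit 7],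
  [nat_lit 2, nat_lit 3, nat_lit 2, nat_lit 3, nat_lit 2, nat_lit 3],
  [nat_lit 2, nat_lit 4, nat_lit 2, nat_lit 4],
  [nat_lit 2, nat_lit 5, nat_lit 2, nat_lit 5],
  [nat_lit 2, nat_lit 6, nat_lit 2, nat_lit 6],
  [nat_lit 2, nat_lit 7, nat_lit 2, nat_lit 7],
  [nat_lit 3, nat_lit 4, nat_lit 3, nat_lit 4, nat_lit 3, nat_lit 4],
  [nat_lit 3, nat_lit 5, nat_lit 3, nat_lit 5],
  [nat_lit 3, nat_lit 6, nat_lit 3, nat_lit 6],
  [nat_lit 3, nat_lit 7, nat_lit 3, nat_lit 7, nat_lit 3, nat_lit 7],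
  [nat_lit 4, nat_lit 5, nat_lit 4, nat_lit 5, nat_lit 4, nat_lit 5],
  [nat_lit 4, nat_lit 6, nat_lit 4, nat_lit 6],
  [nat_lit 4, nat_lit 7, nat_lit 4, nat_lit 7],
  [nat_lit 5, nat_lit 6, nat_lit 5, nat_lit 6, nat_lit 5, nat_lit 6],
  [nat_lit 5, nat_lit 7, nat_lit 5, nat_lit 7],
  [nat_lit 6, nat_lit 7, nat_lit 6, nat_lit 7],
  [nat_lit 1, nat_lit 2, nat_lit 3, nat_lit 4, nat_lit 5, nat_lit 6, nat_lit 7, nat_lit 1, nat_lit 2, nat_lit 3, nat_lit 4, nat_lit 5, nat_lit 6, nat_lit 7, nat_lit 1, nat_lit 2, nat_lit 3, nat_lit 4, nat_lit 5, nat_lit 6, nat_lit 7, nat_lit 1, nat_lit 2, nat_lit 3, nat_lit 4, nat_lit 5, nat_lit 6, nat_lit 7, nat_lit 1, nat_lit 2, nat_lit 3, nat_lit 4, nat_lit 5, nat_lit 6, nat_lit 7, nat_lit 1, nat_lit 2, nat_lit 3, nat_lit 4, nat_lit 5, nat_lit 6, nat_lit 7, nat_lit 1, nat_lit 2, nat_lit 3, nat_lit 4, nat_lit 5, nat_lit 6, nat_lit 7, nat_lit 1, nat_lit 2, nat_lit 3, nat_lit 4, nat_lit 5, nat_lit 6, nat_lit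 7, nat_lit 1, nat_lit 2, nat_lit 3, nat_lit 4, nat_lit 5, nat_lit 6, nat_lit 7]]

def lets : Wd := (.cons (nat_lit 1) (nat_lit 0x100000) (.cons (nat_lit 2) (nat_lit 0x200000) (.cons (nat_lit 3) (nat_lit 0x300000) (.cons (nat_lit 4) (nat_lit 0x400000) (.cons (nat_lit 5) (nat_lit 0x500000) (.cons (nat_lit 6) (nat_lit 0x600000) (.cons (nat_lit 7) (nat_lit 0x700000) .nil)))))))

def L : List ℕ := [nat_lit 1, nat_lit 2, nat_lit 3, nat_lit 4, nat_lit 5, nat_lit 7]

def rt : RS :=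
 (.nd (nat_lit 18)
 (.nd (nat_lit 10)
 (.nd (nat_lit 6)
 (.nd (nat_lit 4)
 (.nd (nat_lit 3)
 (.nd (nat_lit 2)
 (.lf (nat_lit 21) (nat_lit 3) (nat_lit 7) (nat_lit 0x700000) (.cons (nat_lit 6) (nat_lit 0x600000) (.cons (nat_lit 7) (nat_lit 0x700000) (.cons (nat_lit 6) (nat_lit 0x600000) .nil))))
 (.lf (nat_lit 22) (nat_lit 3) (nat_lit 4) (nat_lit 0x400000) (.cons (nat_lit 3) (nat_lit 0x300000) (.cons (nat_lit 2) (nat_lit 0x200000) (.cons (nat_lit 1) (nat_lit 0x100000) (.cons (nat_lit 7) (nat_lit 0x700000) (.cons (nat_lit 6) (nat_lit 0x600000) (.cons (nat_lit 5) (nat_lit 0x500000) (.cons (nat_lit 4) (nat_lit 0x400000) (.cons (nat_lit 3) (nat_lit 0x300000) (.cons (nat_lit 2) (nat_lit 0x200000) (.cons (nat_lit 1) (nat_lit 0x100000) (.cons (nat_lit 7) (nat_lit 0x700000) (.cons (nat_lit 6) (nat_lit 0x600000) (.cons (nat_lit 5) (nat_lit 0x500000) (.cons (nat_lit 4) (nat_lit 0x400000) (.cons (nat_lit 3) (nat_lit 0x300000) (.cons (nat_lit 2)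 (nat_lit 0x200000) (.cons (nat_lit 1) (nat_lit 0x100000) (.cons (nat_lit 7) (nat_lit 0x700000) (.cons (nat_lit 6) (nat_lit 0x600000) (.cons (nat_lit 5) (nat_lit 0x500000) (.cons (nat_lit 4) (nat_lit 0x400000) (.cons (nat_lit 3) (nat_lit 0x300000) (.cons (nat_lit 2) (nat_lit 0x200000) (.cons (nat_lit 1) (nat_lit 0x100000) (.cons (nat_lit 7) (nat_lit 0x700000) (.cons (nat_lit 6) (nat_lit 0x600000) (.cons (nat_lit 5) (nat_lit 0x500000) (.cons (nat_lit 4) (nat_lit 0x400000) (.cons (nat_lit 3) (nat_lit 0x300000) (.cons (nat_lit 2) (nat_lit 0x200000) (.cons (nat_lit 1) (nat_lit 0x100000) (.cons (nat_lit 7) (nat_lit 0x700000) (.cons (nat_lit 6) (nat_lit 0x600000) (.cons (nat_lit 5) (nat_lit 0x500000) (.cons (nat_lit 4) (nat_lit 0x400000) (.cons (nat_lit 3) (nat_lit 0x300000) (.cons (nat_lit 2) (nat_lit 0x200000) (.cons (nat_lit 1) (nat_lit 0x100000) (.cons (nat_lit 7) (nat_lit 0x700000) (.cons (nat_lit 6) (nat_lit 0x600000) (.cons (nat_lit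 5) (nat_lit 0x500000) (.cons (nat_lit 4) (nat_lit 0x400000) (.cons (nat_lit 3) (nat_lit 0x300000) (.cons (nat_lit 2) (nat_lit 0x200000) (.cons (nat_lit 1) (nat_lit 0x100000) (.cons (nat_lit 7) (nat_lit 0x700000) (.cons (nat_lit 6) (nat_lit 0x600000) (.cons (nat_lit 5) (nat_lit 0x500000) (.cons (nat_lit 4) (nat_lit 0x400000) (.cons (nat_lit 3) (nat_lit 0x300000) (.cons (nat_lit 2) (nat_lit 0x200000) (.cons (nat_lit 1) (nat_lit 0x100000) (.cons (nat_lit 7) (nat_lit 0x700000) (.cons (nat_lit 6) (nat_lit 0x600000) (.cons (nat_lit 5) (nat_lit 0x500000) (.cons (nat_lit 4) (nat_lit 0x400000) (.cons (nat_lit 3) (nat_lit 0x300000) (.cons (nat_lit 2) (nat_lit 0x200000) (.cons (nat_lit 1) (nat_lit 0x100000) (.cons (nat_lit 7) (nat_lit 0x700000) (.cons (nat_lit 6) (nat_lit 0x600000) (.cons (nat_lit 5) (nat_lit 0x500000) .nil))))))))))))))))))))))))))))))))))))))))))))))))))))))))))))))))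
 (.lf (nat_lit 2) (nat_lit 2) (nat_lit 1) (nat_lit 0x100000) (.cons (nat_lit 3) (nat_lit 0x300000) (.cons (nat_lit 1) (nat_lit 0x100000) (.cons (nat_lit 3) (nat_lit 0x300000) .nil)))))
 (.nd (nat_lit 5)
 (.lf (nat_lit 13) (nat_lit 1) (nat_lit 5) (nat_lit 0x500000) (.cons (nat_lit 3) (nat_lit 0x300000) (.cons (nat_lit 5) (nat_lit 0x500000) (.cons (nat_lit 3) (nat_lit 0x300000) .nil))))
 (.lf (nat_lit 15) (nat_lit 2) (nat_lit 3) (nat_lit 0x300000) (.cons (nat_lit 7) (nat_lit 0x700000) (.cons (nat_lit 3) (nat_lit 0x300000) (.cons (nat_lit 7) (nat_lit 0x700000) (.cons (nat_lit 3) (nat_lit 0x300000) (.cons (nat_lit 7) (nat_lit 0x700000) .nil))))))))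
 (.nd (nat_lit 8)
 (.nd (nat_lit 7)
 (.lf (nat_lit 12) (nat_lit 2) (nat_lit 3) (nat_lit 0x300000) (.cons (nat_lit 4) (nat_lit 0x400000) (.cons (nat_lit 3) (nat_lit 0x300000) (.cons (nat_lit 4) (nat_lit 0x400000) (.cons (nat_lit 3) (nat_lit 0x300000) (.cons (nat_lit 4) (nat_lit 0x400000) .nil))))))
 (.lf (nat_lit 16) (nat_lit 2) (nat_lit 4) (nat_lit 0x400000) (.cons (nat_lit 5) (nat_lit 0x500000) (.cons (nat_lit 4) (nat_lit 0x400000) (.cons (nat_lit 5) (nat_lit 0x500000) (.cons (nat_lit 4) (nat_lit 0x400000) (.cons (nat_lit 5) (nat_lit 0x500000) .nil)))))))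
 (.nd (nat_lit 9)
 (.lf (nat_lit 5) (nat_lit 2) (nat_lit 1) (nat_lit 0x100000) (.cons (nat_lit 6) (nat_lit 0x600000) (.cons (nat_lit 1) (nat_lit 0x100000) (.cons (nat_lit 6) (nat_lit 0x600000) .nil))))
 (.lf (nat_lit 10) (nat_lit 2) (nat_lit 2) (nat_lit 0x200000) (.cons (nat_lit 6) (nat_lit 0x600000) (.cons (nat_lit 2) (nat_lit 0x200000) (.cons (nat_lit 6) (nat_lit 0x600000) .nil)))))))
 (.nd (nat_lit 14)
 (.nd (nat_lit 12)
 (.nd (nat_lit 11)
 (.lf (nat_lit 14) (nat_lit 2) (nat_lit 3) (nat_lit 0x300000) (.cons (nat_lit 6) (nat_lit 0x600000) (.cons (nat_lit 3) (nat_lit 0x300000) (.cons (nat_lit 6) (nat_lit 0x600000) .nil))))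
 (.lf (nat_lit 17) (nat_lit 2) (nat_lit 4) (nat_lit 0x400000) (.cons (nat_lit 6) (nat_lit 0x600000) (.cons (nat_lit 4) (nat_lit 0x400000) (.cons (nat_lit 6) (nat_lit 0x600000) .nil)))))
 (.nd (nat_lit 13)
 (.lf (nat_lit 21) (nat_lit 1) (nat_lit 7) (nat_lit 0x700000) (.cons (nat_lit 6) (nat_lit 0x600000) (.cons (nat_lit 7) (nat_lit 0x700000) (.cons (nat_lit 6) (nat_lit 0x600000) .nil))))
 (.lf (nat_lit 4) (nat_lit 2) (nat_lit 1) (nat_lit 0x100000) (.cons (nat_lit 5) (nat_lit 0x500000) (.cons (nat_lit 1) (nat_lit 0x100000) (.cons (nat_lit 5) (nat_lit 0x500000) .nil))))))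
 (.nd (nat_lit 16)
 (.nd (nat_lit 15)
 (.lf (nat_lit 9) (nat_lit 2) (nat_lit 2) (nat_lit 0x200000) (.cons (nat_lit 5) (nat_lit 0x500000) (.cons (nat_lit 2) (nat_lit 0x200000) (.cons (nat_lit 5) (nat_lit 0x500000) .nil))))
 (.lf (nat_lit 13) (nat_lit 2) (nat_lit 3) (nat_lit 0x300000) (.cons (nat_lit 5) (nat_lit 0x500000) (.cons (nat_lit 3) (nat_lit 0x300000) (.cons (nat_lit 5) (nat_lit 0x500000) .nil)))))
 (.nd (nat_lit 17)
 (.lf (nat_lit 20) (nat_lit 1) (nat_lit 7) (nat_lit 0x700000) (.cons (nat_lit 5) (nat_lit 0x500000) (.cons (nat_lit 7) (nat_lit 0x700000) (.cons (nat_lit 5) (nat_lit 0x500000) .nil))))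
 (.lf (nat_lit 3) (nat_lit 2) (nat_lit 1) (nat_lit 0x100000) (.cons (nat_lit 4) (nat_lit 0x400000) (.cons (nat_lit 1) (nat_lit 0x100000) (.cons (nat_lit 4) (nat_lit 0x400000) .nil))))))))
 (.nd (nat_lit 26)
 (.nd (nat_lit 22)
 (.nd (nat_lit 20)
 (.nd (nat_lit 19)
 (.lf (nat_lit 8) (nat_lit 2) (nat_lit 2) (nat_lit 0x200000) (.cons (nat_lit 4) (nat_lit 0x400000) (.cons (nat_lit 2) (nat_lit 0x200000) (.cons (nat_lit 4) (nat_lit 0x400000) .nil))))
 (.lf (nat_lit 17) (nat_lit 1) (nat_lit 6) (nat_lit 0x600000) (.cons (nat_lit 4) (nat_lit 0x400000) (.cons (nat_lit 6) (nat_lit 0x600000) (.cons (nat_lit 4) (nat_lit 0x400000) .nil)))))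
 (.nd (nat_lit 21)
 (.lf (nat_lit 18) (nat_lit 1) (nat_lit 7) (nat_lit 0x700000) (.cons (nat_lit 4) (nat_lit 0x400000) (.cons (nat_lit 7) (nat_lit 0x700000) (.cons (nat_lit 4) (nat_lit 0x400000) .nil))))
 (.lf (nat_lit 14) (nat_lit 1) (nat_lit 6) (nat_lit 0x600000) (.cons (nat_lit 3) (nat_lit 0x300000) (.cons (nat_lit 6) (nat_lit 0x600000) (.cons (nat_lit 3) (nat_lit 0x300000) .nil))))))
 (.nd (nat_lit 24)
 (.nd (nat_lit 23)
 (.lf (nat_lit 6) (nat_lit 2) (nat_lit 1) (nat_lit 0x100000) (.cons (nat_lit 7) (nat_lit 0x700000) (.cons (nat_lit 1) (nat_lit 0x100000) (.cons (nat_lit 7) (nat_lit 0x700000) .nil))))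
 (.lf (nat_lit 18) (nat_lit 2) (nat_lit 4) (nat_lit 0x400000) (.cons (nat_lit 7) (nat_lit 0x700000) (.cons (nat_lit 4) (nat_lit 0x400000) (.cons (nat_lit 7) (nat_lit 0x700000) .nil)))))
 (.nd (nat_lit 25)
 (.lf (nat_lit 20) (nat_lit 2) (nat_lit 5) (nat_lit 0x500000) (.cons (nat_lit 7) (nat_lit 0x700000) (.cons (nat_lit 5) (nat_lit 0x500000) (.cons (nat_lit 7) (nat_lit 0x700000) .nil))))
 (.lf (nat_lit 21) (nat_lit 2) (nat_lit 6) (nat_lit 0x600000) (.cons (nat_lit 7) (nat_lit 0x700000) (.cons (nat_lit 6) (nat_lit 0x600000) (.cons (nat_lit 7) (nat_lit 0x700000) .nil)))))))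
 (.nd (nat_lit 32)
 (.nd (nat_lit 28)
 (.nd (nat_lit 27)
 (.lf (nat_lit 11) (nat_lit 2) (nat_lit 2) (nat_lit 0x200000) (.cons (nat_lit 7) (nat_lit 0x700000) (.cons (nat_lit 2) (nat_lit 0x200000) (.cons (nat_lit 7) (nat_lit 0x700000) .nil))))
 (.lf (nat_lit 19) (nat_lit 2) (nat_lit 5) (nat_lit 0x500000) (.cons (nat_lit 6) (nat_lit 0x600000) (.cons (nat_lit 5) (nat_lit 0x500000) (.cons (nat_lit 6) (nat_lit 0x600000) (.cons (nat_lit 5) (nat_lit 0x500000) (.cons (nat_lit 6) (nat_lit 0x600000) .nil)))))))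
 (.nd (nat_lit 30)
 (.nd (nat_lit 29)
 (.lf (nat_lit 16) (nat_lit 1) (nat_lit 5) (nat_lit 0x500000) (.cons (nat_lit 4) (nat_lit 0x400000) (.cons (nat_lit 5) (nat_lit 0x500000) (.cons (nat_lit 4) (nat_lit 0x400000) (.cons (nat_lit 5) (nat_lit 0x500000) (.cons (nat_lit 4) (nat_lit 0x400000) .nil))))))
 (.lf (nat_lit 12) (nat_lit 1) (nat_lit 4) (nat_lit 0x400000) (.cons (nat_lit 3) (nat_lit 0x300000) (.cons (nat_lit 4) (nat_lit 0x400000) (.cons (nat_lit 3) (nat_lit 0x300000) (.cons (nat_lit 4) (nat_lit 0x400000) (.cons (nat_lit 3) (nat_lit 0x300000) .nil)))))))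
 (.nd (nat_lit 31)
 (.lf (nat_lit 9) (nat_lit 1) (nat_lit 5) (nat_lit 0x500000) (.cons (nat_lit 2) (nat_lit 0x200000) (.cons (nat_lit 5) (nat_lit 0x500000) (.cons (nat_lit 2) (nat_lit 0x200000) .nil))))
 (.lf (nat_lit 10) (nat_lit 1) (nat_lit 6) (nat_lit 0x600000) (.cons (nat_lit 2) (nat_lit 0x200000) (.cons (nat_lit 6) (nat_lit 0x600000) (.cons (nat_lit 2) (nat_lit 0x200000) .nil)))))))
 (.nd (nat_lit 37)
 (.nd (nat_lit 34)
 (.nd (nat_lit 33)
 (.lf (nat_lit 7) (nat_lit 1) (nat_lit 3) (nat_lit 0x300000) (.cons (nat_lit 2) (nat_lit 0x200000) (.cons (nat_lit 3) (nat_lit 0x300000) (.cons (nat_lit 2) (nat_lit 0x200000) (.cons (nat_lit 3) (nat_lit 0x300000) (.cons (nat_lit 2) (nat_lit 0x200000) .nil))))))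
 (.lf (nat_lit 7) (nat_lit 2) (nat_lit 2) (nat_lit 0x200000) (.cons (nat_lit 3) (nat_lit 0x300000) (.cons (nat_lit 2) (nat_lit 0x200000) (.cons (nat_lit 3) (nat_lit 0x300000) (.cons (nat_lit 2) (nat_lit 0x200000) (.cons (nat_lit 3) (nat_lit 0x300000) .nil)))))))
 (.nd (nat_lit 35)
 (.lf (nat_lit 15) (nat_lit 1) (nat_lit 7) (nat_lit 0x700000) (.cons (nat_lit 3) (nat_lit 0x300000) (.cons (nat_lit 7) (nat_lit 0x700000) (.cons (nat_lit 3) (nat_lit 0x300000) (.cons (nat_lit 7) (nat_lit 0x700000) (.cons (nat_lit 3) (nat_lit 0x300000) .nil))))))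
 (.nd (nat_lit 36)
 (.lf (nat_lit 19) (nat_lit 1) (nat_lit 6) (nat_lit 0x600000) (.cons (nat_lit 5) (nat_lit 0x500000) (.cons (nat_lit 6) (nat_lit 0x600000) (.cons (nat_lit 5) (nat_lit 0x500000) (.cons (nat_lit 6) (nat_lit 0x600000) (.cons (nat_lit 5) (nat_lit 0x500000) .nil))))))
 (.lf (nat_lit 8) (nat_lit 1) (nat_lit 4) (nat_lit 0x400000) (.cons (nat_lit 2) (nat_lit 0x200000) (.cons (nat_lit 4) (nat_lit 0x400000) (.cons (nat_lit 2) (nat_lit 0x200000) .nil)))))))
 (.nd (nat_lit 41)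
 (.nd (nat_lit 39)
 (.nd (nat_lit 38)
 (.lf (nat_lit 2) (nat_lit 1) (nat_lit 3) (nat_lit 0x300000) (.cons (nat_lit 1) (nat_lit 0x100000) (.cons (nat_lit 3) (nat_lit 0x300000) (.cons (nat_lit 1) (nat_lit 0x100000) .nil))))
 (.lf (nat_lit 3) (nat_lit 1) (nat_lit 4) (nat_lit 0x400000) (.cons (nat_lit 1) (nat_lit 0x100000) (.cons (nat_lit 4) (nat_lit 0x400000) (.cons (nat_lit 1) (nat_lit 0x100000) .nil)))))
 (.nd (nat_lit 40)
 (.lf (nat_lit 4) (nat_lit 1) (nat_lit 5) (nat_lit 0x500000) (.cons (nat_lit 1) (nat_lit 0x100000) (.cons (nat_lit 5) (nat_lit 0x500000) (.cons (nat_lit 1) (nat_lit 0x100000) .nil))))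
 (.lf (nat_lit 5) (nat_lit 1) (nat_lit 6) (nat_lit 0x600000) (.cons (nat_lit 1) (nat_lit 0x100000) (.cons (nat_lit 6) (nat_lit 0x600000) (.cons (nat_lit 1) (nat_lit 0x100000) .nil))))))
 (.nd (nat_lit 43)
 (.nd (nat_lit 42)
 (.lf (nat_lit 1) (nat_lit 1) (nat_lit 2) (nat_lit 0x200000) (.cons (nat_lit 1) (nat_lit 0x100000) (.cons (nat_lit 2) (nat_lit 0x200000) (.cons (nat_lit 1) (nat_lit 0x100000) (.cons (nat_lit 2) (nat_lit 0x200000) (.cons (nat_lit 1) (nat_lit 0x100000) .nil))))))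
 (.lf (nat_lit 11) (nat_lit 1) (nat_lit 7) (nat_lit 0x700000) (.cons (nat_lit 2) (nat_lit 0x200000) (.cons (nat_lit 7) (nat_lit 0x700000) (.cons (nat_lit 2) (nat_lit 0x200000) .nil)))))
 (.nd (nat_lit 44)
 (.lf (nat_lit 1) (nat_lit 2) (nat_lit 1) (nat_lit 0x100000) (.cons (nat_lit 2) (nat_lit 0x200000) (.cons (nat_lit 1) (nat_lit 0x100000) (.cons (nat_lit 2) (nat_lit 0x200000) (.cons (nat_lit 1) (nat_lit 0x100000) (.cons (nat_lit 2) (nat_lit 0x200000) .nil))))))
 (.lf (nat_lit 44) (nat_lit 1) (nat_lit 6) (nat_lit 0x600000) (.cons (nat_lit 7) (nat_lit 0x700000) (.cons (nat_lit 1) (nat_lit 0x100000) (.cons (nat_lit 2) (nat_lit 0x200000) (.cons (nat_lit 3) (nat_lit 0x300000) (.cons (nat_lit 4) (nat_lit 0x400000) (.cons (nat_lit 5) (nat_lit 0x500000) (.cons (nat_lit 6) (nat_lit 0x600000) (.cons (nat_lit 7) (nat_lit 0x700000) (.cons (nat_lit 1) (nat_lit 0x100000) (.cons (nat_lit 2) (nat_lit 0x200000) (.cons (nat_lit 3) (nat_lit 0x300000)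 (.cons (nat_lit 4) (nat_lit 0x400000) (.cons (nat_lit 5) (nat_lit 0x500000) (.cons (nat_lit 6) (nat_lit 0x600000) (.cons (nat_lit 7) (nat_lit 0x700000) (.cons (nat_lit 1) (nat_lit 0x100000) (.cons (nat_lit 2) (nat_lit 0x200000) (.cons (nat_lit 3) (nat_lit 0x300000) (.cons (nat_lit 4) (nat_lit 0x400000) (.cons (nat_lit 5) (nat_lit 0x500000) (.cons (nat_lit 6) (nat_lit 0x600000) (.cons (nat_lit 7) (nat_lit 0x700000) (.cons (nat_lit 1) (nat_lit 0x100000) (.cons (nat_lit 2) (nat_lit 0x200000) (.cons (nat_lit 3) (nat_lit 0x300000) (.cons (nat_lit 4) (nat_lit 0x400000) (.cons (nat_lit 5) (nat_lit 0x500000) (.cons (nat_lit 6) (nat_lit 0x600000) (.cons (nat_lit 7) (nat_lit 0x700000) (.cons (nat_lit 1) (nat_lit 0x100000) (.cons (nat_lit 2) (nat_lit 0x200000) (.cons (nat_lit 3) (nat_lit 0x300000) (.cons (nat_lit 4) (nat_lit 0x400000) (.cons (nat_lit 5) (nat_lit 0x500000) (.cons (nat_lit 6) (nat_lit 0x600000) (.cons (nat_lit 7) (nat_lit 0x700000)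 (.cons (nat_lit 1) (nat_lit 0x100000) (.cons (nat_lit 2) (nat_lit 0x200000) (.cons (nat_lit 3) (nat_lit 0x300000) (.cons (nat_lit 4) (nat_lit 0x400000) (.cons (nat_lit 5) (nat_lit 0x500000) (.cons (nat_lit 6) (nat_lit 0x600000) (.cons (nat_lit 7) (nat_lit 0x700000) (.cons (nat_lit 1) (nat_lit 0x100000) (.cons (nat_lit 2) (nat_lit 0x200000) (.cons (nat_lit 3) (nat_lit 0x300000) (.cons (nat_lit 4) (nat_lit 0x400000) (.cons (nat_lit 5) (nat_lit 0x500000) (.cons (nat_lit 6) (nat_lit 0x600000) (.cons (nat_lit 7) (nat_lit 0x700000) (.cons (nat_lit 1) (nat_lit 0x100000) (.cons (nat_lit 2) (nat_lit 0x200000) (.cons (nat_lit 3) (nat_lit 0x300000) (.cons (nat_lit 4) (nat_lit 0x400000) (.cons (nat_lit 5) (nat_lit 0x500000) (.cons (nat_lit 6) (nat_lit 0x600000) (.cons (nat_lit 7) (nat_lit 0x700000) (.cons (nat_lit 1) (nat_lit 0x100000) (.cons (nat_lit 2) (nat_lit 0x200000) (.cons (nat_lit 3) (nat_lit 0x300000) (.cons (nat_lit 4) (nat_lit 0x400000)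 (.cons (nat_lit 5) (nat_lit 0x500000) .nil))))))))))))))))))))))))))))))))))))))))))))))))))))))))))))))))))))))

def fc : List ℕ := [nat_lit 0x1a40001b0001a7000190001b6000190001b30001b0001b5000170001b20001b0001b10001b0001a50001a0001a3000180001a20001a0001a10001a00019500019000193000190001920001900019100019000185000180001870001800018400018000182000150001810001800017300017000176000170001740001700017200017000171000170001630001400016200016000161000160001550001500015700015000154000150001530001500015100012000144000140001470001400014200011000141000140001340001300013200013000136000130001310001300012500012000127000120001240001200012300012000122000120001140001100011700011000113000110001110000f00010700010000106000100001020000e000101000100000f40000f0000f70000f0000f30000f0000f20000f0000e30000e0000e70000e0000e60000e0000e10000c0000d30000d0000d10000d0000d70000d0000d60000d0000d50000d0000c30000c0000c70000c0000c60000c0000c20000c0000b70000b0000b60000b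0000b50000b0000b10000a0000a70000a0000a20000a0000a60000a0000a50000a0000960000900009500009000094000090000920000900009100008000086000080000850000800008400008000082000060000720000700007600007000075000070000740000700007300007000063000060000660000600006500006000064000060000610000600005300005000056000050000550000500005400005000044000040000460000400004500004000041000040000350000300003700003000036000030000320000300003100003000026000020000270000200002300002000022000020000210000200001700001000014000010000130000100001200001000011000010000070000000000500000000004000000000030000000000200000000001000000001670001b0001660001a000164000190001460001800013700017000135000160001160001500010500014000103000130000f6000120000e5000110000d4000100000c50000f0000b40000e0000b20000d0000a40000c0000930000b0000830000a00007700009000057000080000510000700004700006000042000050000330000400002400003000015000020000060000100000000000]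

noncomputable def S : ℕ → ℕ := facts (nat_lit 0) (nat_lit 0) fc

theorem rt_chk : rt.chk ic (rels ++ rels.map (invw ic)) = true := by decide +kernel

theorem rels_lt : (rels.all fun w => w.all fun y => Nat.blt y 16) = true := by decide +kernel

theorem s0 : S 0 = 0 := by decide +kernel

theorem defs0 : withF (nat_lit 0) (nat_lit 0) fc (fun S => rangeS (nat_lit 28) (defC S) (nat_lit 5) (nat_lit 1)) = true := by decide +kernel

theorem defs : rangeS (nat_lit 28) (defC S) (nat_lit 5) (nat_lit 1) = true := by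
  have h := defs0
  rw [withF_eq] at h
  exact h

theorem ini0 : withF (nat_lit 0) (nat_lit 0) fc (fun S => initC S L (nat_lit 28)) = true := by decide +kernel

theorem ini : initC S L (nat_lit 28) = true := by
  have h := ini0
  rw [withF_eq] at h
  exact h

theorem lets_ok : letsOk ic (nat_lit 7) lets = true := by decide +kernel

def pc0 : List ℕ := [nat_lit 0x9685177274131058595a5b0d0b494a4b09070504030201211c1d1e1f20012622232425022b2a27282903302e2f2c2d043432330639430a0c0f12707a889202981b1a018f198177696312716f6e6d7a7d15110e0b484708373635380531063c3b3a3d43470941403f3e4207084645440a4e505352510e6066656867147981807f1b2c1b8178811b0517161b181b801b1a1b7f1b161a1673161a1b18811a0a1a801a091a7f1a0819167516191c19817981190619801912197f191118146714181b1878180c1879180b157718091876180817136813170517731719177517171774171a177217161413160f1674160e1672160d15115e11151b156b150c156c150b156a150a12691508141058101407146814101166140e1465140d13105c10131d136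6606613211367131513651303120f550f121b1263120c1264120b1262120a12611209110e510e1107115f11101160110f0f5d110d105a1014105910130e0d1012105b10110f0c4c0c0f070f560f100f570f0f0f540f0e0e0b490b0e060e530e140e520e130c500e110d0b480b0d2000000d504e500d2b0d530d2a0d520d1f0d510d1e0c0a440a0c060c4f0c140c4d0c130c4e0c120b093e090b220b4b0b150b4a0b040a470b030a0838080a220a433d430a210a460a150a450a040941091909400918093f09170942091a080709160837081908360818083508170605081a0705310507290737072807360727073507260738072506042f0406050633061906320618063406170631061605042d0405200533051f0532051e0534052404032903041d042e041504300404042c040303022502031c032a0314032b03130328031203270311020120010223022602100224020f0223020e0222020d0121010c011f010b011e010a011d0109011c0108]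

theorem prog0_0 : withF (nat_lit 0) (nat_lit 0) fc (fun S => dedProg S (nat_lit 28) (nat_lit 8) (nat_lit 255) rt (nat_lit 399) (nat_lit 2048) (nat_lit 4) pc0 (nat_lit 34) (nat_lit 155)) = true := by decide +kernel

theorem prog0 : dedProg S (nat_lit 28) (nat_lit 8) (nat_lit 255) rt (nat_lit 399) (nat_lit 2048) (nat_lit 4) pc0 (nat_lit 34) (nat_lit 155) = true := by
  have h := prog0_0
  rw [withF_eq] at h
  exact h

def cc0 : List ℕ := [nat_lit 0x1b98969a97959401991a939a9291900199988f198e8d8c018a188b899288870117859684868382011b1a161981807f017d157e7c7b887a01781814798177760117731675137472017012716f6e6d7a016b15116c6a776901686714101366650163120f64626169015f5e110e60665d015a5958105c0d5b0156550f0c57545d015352510e0b0d50014f4d4c0c0a4e5001094b4a490b484701084645440a4347010941403f3e420701063c3b3a3d433901083736353805070106333234040531012f2e3003042d2c012a2b02032928270126010225242322012101201f1e1d1c01]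

theorem clo0_0 : withF (nat_lit 0) (nat_lit 0) fc (fun S => cloProg S (nat_lit 155) (nat_lit 8) (nat_lit 255) lets (nat_lit 399) (nat_lit 2048) (nat_lit 4) cc0 (nat_lit 0) (nat_lit 0) (nat_lit 28) (nat_lit 28)) = true := by decide +kernel

theorem clo0 : cloProg S (nat_lit 155) (nat_lit 8) (nat_lit 255) lets (nat_lit 399) (nat_lit 2048) (nat_lit 4) cc0 (nat_lit 0) (nat_lit 0) (nat_lit 28) (nat_lit 28) = true := by
  have h := clo0_0
  rw [withF_eq] at h
  exact h

theorem facts_ok {G : Type*} [Group G] {x : ℕ → G} {H : Subgroup G}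
    (hic : ∀ y, y < 16 → x (il ic y) = (x y)⁻¹) (h0 : x 0 = 1) (hrels : ∀ w ∈ rels, ev x w = 1)
    (hst : ∀ g, g < (nat_lit 28) + L.length → VF H x (rho x S) (nat_lit 28) S g) :
    ∀ g, g < (nat_lit 155) → VF H x (rho x S) (nat_lit 28) S g := by
  have hv : rt.Valid x ic := RS.valid_of_chk hic h0 (relsAll_ok hic rels_lt hrels) rt rt_chk
  have hn : (nat_lit 28) ≤ 1048576 := Nat.le_of_ble_eq_true (by decide)
  have g0 : ∀ g, g < (nat_lit 34) → VF H x (rho x S) (nat_lit 28) S g := hst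

  have g1 := dedProg_sound (H := H) (ρ := rho x S) hic hn hv prog0 g0
  exact g1

theorem bound {G : Type*} [Group G] {x : ℕ → G} {H : Subgroup G}
    (hic : ∀ y, y < 16 → x (il ic y) = (x y)⁻¹) (h0 : x 0 = 1) (hrels : ∀ w ∈ rels, ev x w = 1)
    (hL : ∀ s ∈ L, x s ∈ H) :
    H.relIndex (Subgroup.closure (x '' {y | 1 ≤ y ∧ y ≤ 7})) ≤ 28 ∧
      H.relIndex (Subgroup.closure (x '' {y | 1 ≤ y ∧ y ≤ 7})) ≠ 0 :=
  bound_of (k := 7) (n := 28) (kk := 5) hic h0 hL (by decide) (by decide) (by decide) (by decide) (by decide) lets_ok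
    s0 defs ini (facts_ok hic h0 hrels) clo0


end Cfsg.Agent.H8.Fi22dT
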