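import Cfsg.Agent.H8_CS

set_option autoImplicit false
set_option maxRecDepth 1000000

namespace Cfsg.Agent.H8.Fi22eT

open CE CS

def ic : ℕ := nat_lit 106181136

def rels : List (List ℕ) := [[nat_lit 1, nat_lit 2, nat_lit 1, nat_lit 2, nat_lit 1, nat_lit 2],
  [nat_lit 1, nat_lit 3, nat_lit 1, nat_lit 3],
  [nat_lit 1, nat_lit 4, nat_lit 1, nat_lit 4],
  [nat_lit 1, nat_lit 5, nat_lit 1, nat_lit 5],
  [nat_lit 1, nat_lit 6, nat_lit 1, nat_lit 6],
  [nat_lit 2, nat_lit 3, nat_lit 2, nat_lit 3, nat_lit 2, nat_lit 3],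
  [nat_lit 2, nat_lit 4, nat_lit 2, nat_lit 4],
  [nat_lit 2, nat_lit 5, nat_lit 2, nat_lit 5],
  [nat_lit 2, nat_lit 6, nat_lit 2, nat_lit 6],
  [nat_lit 3, nat_lit 4, nat_lit 3, nat_lit 4, nat_lit 3, nat_lit 4],
  [nat_lit 3, nat_lit 5, nat_lit 3, nat_lit 5],
  [nat_lit 3, nat_lit 6, nat_lit 3, nat_lit 6, nat_lit 3, nat_lit 6],
  [nat_lit 4, nat_lit 5, nat_lit 4, nat_lit 5, nat_lit 4, nat_lit 5],
  [nat_lit 4, nat_lit 6, nat_lit 4, nat_lit 6],
  [nat_lit 5, nat_lit 6, nat_lit 5, nat_lit 6]]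

def lets : Wd := (.cons (nat_lit 1) (nat_lit 0x100000) (.cons (nat_lit 2) (nat_lit 0x200000) (.cons (nat_lit 3) (nat_lit 0x300000) (.cons (nat_lit 4) (nat_lit 0x400000) (.cons (nat_lit 5) (nat_lit 0x500000) (.cons (nat_lit 6) (nat_lit 0x600000) .nil))))))

def L : List ℕ := [nat_lit 2, nat_lit 3, nat_lit 4, nat_lit 5, nat_lit 6]

def rt : RS :=
 (.nd (nat_lit 11)
 (.nd (nat_lit 5)
 (.nd (nat_lit 3)
 (.nd (nat_lit 2)
 (.lf (nat_lit 2) (nat_lit 2) (nat_lit 1) (nat_lit 0x100000) (.cons (nat_lit 3) (nat_lit 0x300000) (.cons (nat_lit 1) (nat_lit 0x100000) (.cons (nat_lit 3) (nat_lit 0x300000) .nil))))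
 (.lf (nat_lit 11) (nat_lit 1) (nat_lit 5) (nat_lit 0x500000) (.cons (nat_lit 3) (nat_lit 0x300000) (.cons (nat_lit 5) (nat_lit 0x500000) (.cons (nat_lit 3) (nat_lit 0x300000) .nil)))))
 (.nd (nat_lit 4)
 (.lf (nat_lit 5) (nat_lit 2) (nat_lit 1) (nat_lit 0x100000) (.cons (nat_lit 6) (nat_lit 0x600000) (.cons (nat_lit 1) (nat_lit 0x100000) (.cons (nat_lit 6) (nat_lit 0x600000) .nil))))
 (.lf (nat_lit 9) (nat_lit 2) (nat_lit 2) (nat_lit 0x200000) (.cons (nat_lit 6) (nat_lit 0x600000) (.cons (nat_lit 2) (nat_lit 0x200000) (.cons (nat_lit 6) (nat_lit 0x600000) .nil))))))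
 (.nd (nat_lit 7)
 (.nd (nat_lit 6)
 (.lf (nat_lit 15) (nat_lit 2) (nat_lit 5) (nat_lit 0x500000) (.cons (nat_lit 6) (nat_lit 0x600000) (.cons (nat_lit 5) (nat_lit 0x500000) (.cons (nat_lit 6) (nat_lit 0x600000) .nil))))
 (.lf (nat_lit 14) (nat_lit 2) (nat_lit 4) (nat_lit 0x400000) (.cons (nat_lit 6) (nat_lit 0x600000) (.cons (nat_lit 4) (nat_lit 0x400000) (.cons (nat_lit 6) (nat_lit 0x600000) .nil)))))
 (.nd (nat_lit 9)
 (.nd (nat_lit 8)
 (.lf (nat_lit 1) (nat_lit 1) (nat_lit 2) (nat_lit 0x200000) (.cons (nat_lit 1) (nat_lit 0x100000) (.cons (nat_lit 2) (nat_lit 0x200000) (.cons (nat_lit 1) (nat_lit 0x100000) (.cons (nat_lit 2) (nat_lit 0x200000) (.cons (nat_lit 1) (nat_lit 0x100000) .nil))))))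
 (.lf (nat_lit 2) (nat_lit 1) (nat_lit 3) (nat_lit 0x300000) (.cons (nat_lit 1) (nat_lit 0x100000) (.cons (nat_lit 3) (nat_lit 0x300000) (.cons (nat_lit 1) (nat_lit 0x100000) .nil)))))
 (.nd (nat_lit 10)
 (.lf (nat_lit 5) (nat_lit 1) (nat_lit 6) (nat_lit 0x600000) (.cons (nat_lit 1) (nat_lit 0x100000) (.cons (nat_lit 6) (nat_lit 0x600000) (.cons (nat_lit 1) (nat_lit 0x100000) .nil))))
 (.lf (nat_lit 7) (nat_lit 1) (nat_lit 4) (nat_lit 0x400000) (.cons (nat_lit 2) (nat_lit 0x200000) (.cons (nat_lit 4) (nat_lit 0x400000) (.cons (nat_lit 2) (nat_lit 0x200000) .nil))))))))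
 (.nd (nat_lit 19)
 (.nd (nat_lit 15)
 (.nd (nat_lit 13)
 (.nd (nat_lit 12)
 (.lf (nat_lit 8) (nat_lit 1) (nat_lit 5) (nat_lit 0x500000) (.cons (nat_lit 2) (nat_lit 0x200000) (.cons (nat_lit 5) (nat_lit 0x500000) (.cons (nat_lit 2) (nat_lit 0x200000) .nil))))
 (.lf (nat_lit 9) (nat_lit 1) (nat_lit 6) (nat_lit 0x600000) (.cons (nat_lit 2) (nat_lit 0x200000) (.cons (nat_lit 6) (nat_lit 0x600000) (.cons (nat_lit 2) (nat_lit 0x200000) .nil)))))
 (.nd (nat_lit 14)
 (.lf (nat_lit 6) (nat_lit 2) (nat_lit 2) (nat_lit 0x200000) (.cons (nat_lit 3) (nat_lit 0x300000) (.cons (nat_lit 2) (nat_lit 0x200000) (.cons (nat_lit 3) (nat_lit 0x300000) (.cons (nat_lit 2) (nat_lit 0x200000) (.cons (nat_lit 3) (nat_lit 0x300000) .nil))))))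
 (.lf (nat_lit 10) (nat_lit 2) (nat_lit 3) (nat_lit 0x300000) (.cons (nat_lit 4) (nat_lit 0x400000) (.cons (nat_lit 3) (nat_lit 0x300000) (.cons (nat_lit 4) (nat_lit 0x400000) (.cons (nat_lit 3) (nat_lit 0x300000) (.cons (nat_lit 4) (nat_lit 0x400000) .nil))))))))
 (.nd (nat_lit 17)
 (.nd (nat_lit 16)
 (.lf (nat_lit 12) (nat_lit 2) (nat_lit 3) (nat_lit 0x300000) (.cons (nat_lit 6) (nat_lit 0x600000) (.cons (nat_lit 3) (nat_lit 0x300000) (.cons (nat_lit 6) (nat_lit 0x600000) (.cons (nat_lit 3) (nat_lit 0x300000) (.cons (nat_lit 6) (nat_lit 0x600000) .nil))))))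
 (.lf (nat_lit 10) (nat_lit 1) (nat_lit 4) (nat_lit 0x400000) (.cons (nat_lit 3) (nat_lit 0x300000) (.cons (nat_lit 4) (nat_lit 0x400000) (.cons (nat_lit 3) (nat_lit 0x300000) (.cons (nat_lit 4) (nat_lit 0x400000) (.cons (nat_lit 3) (nat_lit 0x300000) .nil)))))))
 (.nd (nat_lit 18)
 (.lf (nat_lit 12) (nat_lit 1) (nat_lit 6) (nat_lit 0x600000) (.cons (nat_lit 3) (nat_lit 0x300000) (.cons (nat_lit 6) (nat_lit 0x600000) (.cons (nat_lit 3) (nat_lit 0x300000) (.cons (nat_lit 6) (nat_lit 0x600000) (.cons (nat_lit 3) (nat_lit 0x300000) .nil))))))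
 (.lf (nat_lit 6) (nat_lit 1) (nat_lit 3) (nat_lit 0x300000) (.cons (nat_lit 2) (nat_lit 0x200000) (.cons (nat_lit 3) (nat_lit 0x300000) (.cons (nat_lit 2) (nat_lit 0x200000) (.cons (nat_lit 3) (nat_lit 0x300000) (.cons (nat_lit 2) (nat_lit 0x200000) .nil)))))))))
 (.nd (nat_lit 24)
 (.nd (nat_lit 22)
 (.nd (nat_lit 20)
 (.lf (nat_lit 13) (nat_lit 1) (nat_lit 5) (nat_lit 0x500000) (.cons (nat_lit 4) (nat_lit 0x400000) (.cons (nat_lit 5) (nat_lit 0x500000) (.cons (nat_lit 4) (nat_lit 0x400000) (.cons (nat_lit 5) (nat_lit 0x500000) (.cons (nat_lit 4) (nat_lit 0x400000) .nil))))))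
 (.nd (nat_lit 21)
 (.lf (nat_lit 15) (nat_lit 1) (nat_lit 6) (nat_lit 0x600000) (.cons (nat_lit 5) (nat_lit 0x500000) (.cons (nat_lit 6) (nat_lit 0x600000) (.cons (nat_lit 5) (nat_lit 0x500000) .nil))))
 (.lf (nat_lit 3) (nat_lit 1) (nat_lit 4) (nat_lit 0x400000) (.cons (nat_lit 1) (nat_lit 0x100000) (.cons (nat_lit 4) (nat_lit 0x400000) (.cons (nat_lit 1) (nat_lit 0x100000) .nil))))))
 (.nd (nat_lit 23)
 (.lf (nat_lit 3) (nat_lit 2) (nat_lit 1) (nat_lit 0x100000) (.cons (nat_lit 4) (nat_lit 0x400000) (.cons (nat_lit 1) (nat_lit 0x100000) (.cons (nat_lit 4) (nat_lit 0x400000) .nil))))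
 (.lf (nat_lit 7) (nat_lit 2) (nat_lit 2) (nat_lit 0x200000) (.cons (nat_lit 4) (nat_lit 0x400000) (.cons (nat_lit 2) (nat_lit 0x200000) (.cons (nat_lit 4) (nat_lit 0x400000) .nil))))))
 (.nd (nat_lit 27)
 (.nd (nat_lit 25)
 (.lf (nat_lit 14) (nat_lit 1) (nat_lit 6) (nat_lit 0x600000) (.cons (nat_lit 4) (nat_lit 0x400000) (.cons (nat_lit 6) (nat_lit 0x600000) (.cons (nat_lit 4) (nat_lit 0x400000) .nil))))
 (.nd (nat_lit 26)
 (.lf (nat_lit 4) (nat_lit 1) (nat_lit 5) (nat_lit 0x500000) (.cons (nat_lit 1) (nat_lit 0x100000) (.cons (nat_lit 5) (nat_lit 0x500000) (.cons (nat_lit 1) (nat_lit 0x100000) .nil))))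
 (.lf (nat_lit 1) (nat_lit 2) (nat_lit 1) (nat_lit 0x100000) (.cons (nat_lit 2) (nat_lit 0x200000) (.cons (nat_lit 1) (nat_lit 0x100000) (.cons (nat_lit 2) (nat_lit 0x200000) (.cons (nat_lit 1) (nat_lit 0x100000) (.cons (nat_lit 2) (nat_lit 0x200000) .nil))))))))
 (.nd (nat_lit 29)
 (.nd (nat_lit 28)
 (.lf (nat_lit 4) (nat_lit 2) (nat_lit 1) (nat_lit 0x100000) (.cons (nat_lit 5) (nat_lit 0x500000) (.cons (nat_lit 1) (nat_lit 0x100000) (.cons (nat_lit 5) (nat_lit 0x500000) .nil))))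
 (.lf (nat_lit 8) (nat_lit 2) (nat_lit 2) (nat_lit 0x200000) (.cons (nat_lit 5) (nat_lit 0x500000) (.cons (nat_lit 2) (nat_lit 0x200000) (.cons (nat_lit 5) (nat_lit 0x500000) .nil)))))
 (.nd (nat_lit 30)
 (.lf (nat_lit 11) (nat_lit 2) (nat_lit 3) (nat_lit 0x300000) (.cons (nat_lit 5) (nat_lit 0x500000) (.cons (nat_lit 3) (nat_lit 0x300000) (.cons (nat_lit 5) (nat_lit 0x500000) .nil))))
 (.lf (nat_lit 13) (nat_lit 2) (nat_lit 4) (nat_lit 0x400000) (.cons (nat_lit 5) (nat_lit 0x500000) (.cons (nat_lit 4) (nat_lit 0x400000) (.cons (nat_lit 5) (nat_lit 0x500000) (.cons (nat_lit 4) (nat_lit 0x400000) (.cons (nat_lit 5) (nat_lit 0x500000) .nil))))))))))))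

def fc : List ℕ := [nat_lit 0x1a40001a0001a60001a0001a30001a0001a20001a0001a10001a0001930001900019600019000192000190001910001900018600018000182000180001850001800018100018000175000170001740001700017200016000171000170001630001600016500016000164000160001610001400015300015000151000150001550001500015400015000143000140001450001400014400014000142000140001340001300013500013000131000120001240001200012200012000125000120001150001100011600011000112000110001110001000010500010000106000100001020000d0000f20000f0000f60000f0000f50000e0000f30000f0000e20000e0000e60000e0000e40000e0000e30000e0000d50000d0000d30000d0000d60000d0000d10000d0000c30000c0000c60000c0000c50000b0000b30000b0000b60000b0000b40000b0000a60000a0000a5000090000a10000a000096000090000940000900009100009000085000070000840000800008200008000081000080000740000500007200007000071000070000640000600006300006000062000060000610000600005300005000055000050000520000500005100005000043000040000420000400004100004000032000030000350000300003100003000021000020000260000200002500002000024000020000160000100001500001000014000010000130000100000600000000005000000000040000000000300000000002000000001950001a00018400019000173000180001560001700013600016000132000150001260001400011300013000103000120000f4000110000c4000100000c10000f0000b10000e0000a40000d0000a20000c0000920000b0000830000a00007300009000066000080000460000700004500006000036000050000340000400002300003000012000020000010000100000000000]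

noncomputable def S : ℕ → ℕ := facts (nat_lit 0) (nat_lit 0) fc

theorem rt_chk : rt.chk ic (rels ++ rels.map (invw ic)) = true := by decide +kernel

theorem rels_lt : (rels.all fun w => w.all fun y => Nat.blt y 16) = true := by decide +kernel

theorem s0 : S 0 = 0 := by decide +kernel

theorem defs0 : withF (nat_lit 0) (nat_lit 0) fc (fun S => rangeS (nat_lit 27) (defC S) (nat_lit 5) (nat_lit 1)) = true := by decide +kernel

theorem defs : rangeS (nat_lit 27) (defC S) (nat_lit 5) (nat_lit 1) = true := by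
  have h := defs0
  rw [withF_eq] at h
  exact h

theorem ini0 : withF (nat_lit 0) (nat_lit 0) fc (fun S => initC S L (nat_lit 27)) = true := by decide +kernel

theorem ini : initC S L (nat_lit 27) = true := by
  have h := ini0
  rw [withF_eq] at h
  exact h

theorem lets_ok : letsOk ic (nat_lit 6) lets = true := by decide +kernel

def pc0 : List ℕ := [nat_lit 0xd19e664d1e35e0d1435e4d1d35dcd1c35d8d1b32638183238cf53260cf4325ccf23258c17d25cc1131bf6ef3034c713008c6e3004be72e14be62e18b152e10be82e0cb13b44cb0f2d80b052d84b06297cb032a4ec932a48adfbb7ca9a2b80a8b2b84a8a284ab12283ca5c2814a5e2818a5d2810991a244990276c9820256098124424102440955975490d255c902234a752224c8d322608d4225c80f22588468718813211c8181a308171e3200c1e1c7c71e247461e647c81e2070b7a2c7071d107091d0c7151d147081b05f411a4c68a762868e1b086981b006961829d0a184864218305c1182c5896e2459216fc58c16f858a1421a0814444bc140853914044875a1c49112e18b812404b61204386101443510184331010432100c2840e183ac0e103ab0e0c304521031e0cb431d0cb031c0cac31b0a0d3030a3c2a90a142aa0a102a80a0c203480c20e08a821708a0216060900206341a506081a70604101360411a048c10c048810b048410a027c089027809902740950270088]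

theorem prog0_0 : withF (nat_lit 0) (nat_lit 0) fc (fun S => dedProg S (nat_lit 27) (nat_lit 7) (nat_lit 127) rt (nat_lit 399) (nat_lit 2048) (nat_lit 4) pc0 (nat_lit 32) (nat_lit 127)) = true := by decide +kernel

theorem prog0 : dedProg S (nat_lit 27) (nat_lit 7) (nat_lit 127) rt (nat_lit 399) (nat_lit 2048) (nat_lit 4) pc0 (nat_lit 32) (nat_lit 127) = true := by
  have h := prog0_0
  rw [withF_eq] at h
  exact h

def cc0 : List ℕ := [nat_lit 0x7d35fbe7bf407c1a33e7bf603d799931d39012fc7818dfb8096d9af6efd404be7cda4ae80253263cb8b5012d830932b7c094b97895dbe06d5b224ecd8035ab902556c01a7488d1a83c0cfa53a6d01c0654c1b2eac9031e3109030781891a1c516380c2823450c8005fc17c245bd0221e3b14e9c810ef1c096ed80880cd5a3364042b070c57ae021c3045ab15810aa420354a00a64a901824e051a24280101027cf1d386c081]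

theorem clo0_0 : withF (nat_lit 0) (nat_lit 0) fc (fun S => cloProg S (nat_lit 127) (nat_lit 7) (nat_lit 127) lets (nat_lit 399) (nat_lit 2048) (nat_lit 4) cc0 (nat_lit 0) (nat_lit 0) (nat_lit 27) (nat_lit 27)) = true := by decide +kernel

theorem clo0 : cloProg S (nat_lit 127) (nat_lit 7) (nat_lit 127) lets (nat_lit 399) (nat_lit 2048) (nat_lit 4) cc0 (nat_lit 0) (nat_lit 0) (nat_lit 27) (nat_lit 27) = true := by
  have h := clo0_0
  rw [withF_eq] at h
  exact h

theorem facts_ok {G : Type*} [Group G] {x : ℕ → G} {H : Subgroup G}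
    (hic : ∀ y, y < 16 → x (il ic y) = (x y)⁻¹) (h0 : x 0 = 1) (hrels : ∀ w ∈ rels, ev x w = 1)
    (hst : ∀ g, g < (nat_lit 27) + L.length → VF H x (rho x S) (nat_lit 27) S g) :
    ∀ g, g < (nat_lit 127) → VF H x (rho x S) (nat_lit 27) S g := by
  have hv : rt.Valid x ic := RS.valid_of_chk hic h0 (relsAll_ok hic rels_lt hrels) rt rt_chk
  have hn : (nat_lit 27) ≤ 1048576 := Nat.le_of_ble_eq_true (by decide)
  have g0 : ∀ g, g < (nat_lit 32) → VF H x (rho x S) (nat_lit 27) S g := hst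

  have g1 := dedProg_sound (H := H) (ρ := rho x S) hic hn hv prog0 g0
  exact g1

theorem bound {G : Type*} [Group G] {x : ℕ → G} {H : Subgroup G}
    (hic : ∀ y, y < 16 → x (il ic y) = (x y)⁻¹) (h0 : x 0 = 1) (hrels : ∀ w ∈ rels, ev x w = 1)
    (hL : ∀ s ∈ L, x s ∈ H) :
    H.relIndex (Subgroup.closure (x '' {y | 1 ≤ y ∧ y ≤ 6})) ≤ 27 ∧
      H.relIndex (Subgroup.closure (x '' {y | 1 ≤ y ∧ y ≤ 6})) ≠ 0 :=
  bound_of (k := 6) (n := 27) (kk := 5) hic h0 hL (by decide) (by decide) (by decide) (by decide) (by decide) lets_ok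
    s0 defs ini (facts_ok hic h0 hrels) clo0


end Cfsg.Agent.H8.Fi22eT
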