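import Cfsg.Agent.H8_Fi22A
import Cfsg.Agent.H8_Fi22bT
import Cfsg.Agent.H8_Fi22cT
import Cfsg.Agent.H8_Fi22dT
import Cfsg.Agent.H8_Fi22eT
import Cfsg.Agent.H8_Fi22fT
import Cfsg.Agent.H8_Fi22gT
import Cfsg.Agent.H8_Act3
import Cfsg.Prelude.Def_Sporadic

set_option autoImplicit false
set_option maxRecDepth 100000
set_option linter.constructorNameAsVariable false

namespace Cfsg.Agent.H8.Fi22M

open CE Net Act Cox CS Fi22R Act2 Cfsg.Spor

abbrev RR : Set (FreeGroup Fi22.Gen) := coxRelators Fi22.edges ∪ {r | r ∈ Fi22.extra}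

/-- the letters in the presented group -/
noncomputable abbrev x : ℕ → Fi22 := xG RR lm

theorem hic : ∀ y, y < 16 → x (il ic y) = (x y)⁻¹ := by
  have h := (words _ (lift_of_rel RR)).1
  rw [← xG_eq] at h
  exact h

theorem hrels0 : ∀ w ∈ rels, ev x w = 1 := by
  have h := (words _ (lift_of_rel RR)).2
  rw [← xG_eq] at h
  exact h

theorem h0 : x 0 = 1 := by
  unfold x xG
  simp [lm]

theorem sub_rels {rs : List (List ℕ)} (h : (rs.all fun w => rels.contains w) = true) : ∀ w ∈ rs, ev x w = 1 := by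
  intro w hw
  rw [List.all_eq_true] at h
  have := h w hw
  rw [List.contains_iff_mem] at this
  exact hrels0 w this

/-- subgroups generated by lists of letters -/
noncomputable def Hl (l : List ℕ) : Subgroup Fi22 := Subgroup.closure (x '' {y | y ∈ l})

theorem Hl_mono {l l' : List ℕ} (h : (l.all fun y => l'.contains y) = true) : Hl l ≤ Hl l' := by
  apply Subgroup.closure_mono
  apply Set.image_mono
  intro y hy
  rw [List.all_eq_true] at h
  have := h y hy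
  rwa [List.contains_iff_mem] at this

theorem mem_Hl {l : List ℕ} {y : ℕ} (h : l.contains y = true) : x y ∈ Hl l :=
  Subgroup.subset_closure ⟨y, by rwa [List.contains_iff_mem] at h, rfl⟩

theorem Hl_top : Hl [1, 2, 3, 4, 5, 6, 7, 8, 9] = ⊤ := by
  apply closure_top
  intro a
  cases a
  exacts [⟨1, by decide, rfl⟩, ⟨2, by decide, rfl⟩, ⟨3, by decide, rfl⟩, ⟨4, by decide, rfl⟩, ⟨5, by decide, rfl⟩, ⟨6, by decide, rfl⟩, ⟨7, by decide, rfl⟩, ⟨8, by decide, rfl⟩, ⟨9, by decide, rfl⟩]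

theorem hrels : ∀ w ∈ rels, ev x w = 1 := hrels0

theorem b1 : (Hl [2, 3, 4, 5, 6, 7, 8, 9]).relIndex (Hl [1, 2, 3, 4, 5, 6, 7, 8, 9]) ≤ 14080 ∧
    (Hl [2, 3, 4, 5, 6, 7, 8, 9]).relIndex (Hl [1, 2, 3, 4, 5, 6, 7, 8, 9]) ≠ 0 := by
  have h := Fi22bT.bound (x := x) (H := (Hl [2, 3, 4, 5, 6, 7, 8, 9]))
    hic h0 (sub_rels (by decide +kernel)) (by
      intro s hs
      simp only [Fi22bT.L, List.mem_cons, List.not_mem_nil, or_false] at hs
      rcases hs with rfl | rfl | rfl | rfl | rfl | rfl | rfl | rfl <;> exact mem_Hl (by decide))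
  have e : (x '' {y | 1 ≤ y ∧ y ≤ 9}) = x '' {y | y ∈ ([1, 2, 3, 4, 5, 6, 7, 8, 9] : List ℕ)} := by
    congr 1
    ext y
    simp only [Set.mem_ofPred_eq, List.mem_cons, List.not_mem_nil, or_false]
    omega
  rw [e] at h
  exact h

theorem b2 : (Hl [2, 3, 4, 5, 6, 7, 8]).relIndex (Hl [2, 3, 4, 5, 6, 7, 8, 9]) ≤ 3159 ∧
    (Hl [2, 3, 4, 5, 6, 7, 8]).relIndex (Hl [2, 3, 4, 5, 6, 7, 8, 9]) ≠ 0 := by
  have h := Fi22cT.bound (x := ren x [0, 2, 3, 4, 5, 6, 7, 8, 9]) (H := (Hl [2, 3, 4, 5, 6, 7, 8]))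
    (ren_hic hic (by decide +kernel)) h0 (ren_rels hrels (by decide +kernel)) (by
      intro s hs
      simp only [Fi22cT.L, List.mem_cons, List.not_mem_nil, or_false] at hs
      rcases hs with rfl | rfl | rfl | rfl | rfl | rfl | rfl <;> exact mem_Hl (by decide))
  rw [ren_image [0, 2, 3, 4, 5, 6, 7, 8, 9] 8 [2, 3, 4, 5, 6, 7, 8, 9] (by decide) (by decide)] at h
  exact h

theorem b3 : (Hl [2, 3, 4, 5, 6, 8]).relIndex (Hl [2, 3, 4, 5, 6, 7, 8]) ≤ 28 ∧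
    (Hl [2, 3, 4, 5, 6, 8]).relIndex (Hl [2, 3, 4, 5, 6, 7, 8]) ≠ 0 := by
  have h := Fi22dT.bound (x := ren x [0, 2, 3, 4, 5, 6, 7, 8]) (H := (Hl [2, 3, 4, 5, 6, 8]))
    (ren_hic hic (by decide +kernel)) h0 (ren_rels hrels (by decide +kernel)) (by
      intro s hs
      simp only [Fi22dT.L, List.mem_cons, List.not_mem_nil, or_false] at hs
      rcases hs with rfl | rfl | rfl | rfl | rfl | rfl <;> exact mem_Hl (by decide))
  rw [ren_image [0, 2, 3, 4, 5, 6, 7, 8] 7 [2, 3, 4, 5, 6, 7, 8] (by decide) (by decide)] at h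
  exact h

theorem b4 : (Hl [3, 4, 5, 6, 8]).relIndex (Hl [2, 3, 4, 5, 6, 8]) ≤ 27 ∧
    (Hl [3, 4, 5, 6, 8]).relIndex (Hl [2, 3, 4, 5, 6, 8]) ≠ 0 := by
  have h := Fi22eT.bound (x := ren x [0, 2, 3, 4, 5, 6, 8]) (H := (Hl [3, 4, 5, 6, 8]))
    (ren_hic hic (by decide +kernel)) h0 (ren_rels hrels (by decide +kernel)) (by
      intro s hs
      simp only [Fi22eT.L, List.mem_cons, List.not_mem_nil, or_false] at hs
      rcases hs with rfl | rfl | rfl | rfl | rfl <;> exact mem_Hl (by decide))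
  rw [ren_image [0, 2, 3, 4, 5, 6, 8] 6 [2, 3, 4, 5, 6, 8] (by decide) (by decide)] at h
  exact h

theorem b5 : (Hl [3, 4, 5, 6]).relIndex (Hl [3, 4, 5, 6, 8]) ≤ 16 ∧
    (Hl [3, 4, 5, 6]).relIndex (Hl [3, 4, 5, 6, 8]) ≠ 0 := by
  have h := Fi22fT.bound (x := ren x [0, 3, 4, 5, 6, 8]) (H := (Hl [3, 4, 5, 6]))
    (ren_hic hic (by decide +kernel)) h0 (ren_rels hrels (by decide +kernel)) (by
      intro s hs
      simp only [Fi22fT.L, List.mem_cons, List.not_mem_nil, or_false] at hs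
      rcases hs with rfl | rfl | rfl | rfl <;> exact mem_Hl (by decide))
  rw [ren_image [0, 3, 4, 5, 6, 8] 5 [3, 4, 5, 6, 8] (by decide) (by decide)] at h
  exact h

theorem b6 : (⊥ : Subgroup Fi22).relIndex (Hl [3, 4, 5, 6]) ≤ 120 ∧
    (⊥ : Subgroup Fi22).relIndex (Hl [3, 4, 5, 6]) ≠ 0 := by
  have h := Fi22gT.bound (x := ren x [0, 3, 4, 5, 6]) (H := (⊥ : Subgroup Fi22))
    (ren_hic hic (by decide +kernel)) h0 (ren_rels hrels (by decide +kernel)) (by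
      intro s hs
      simp [Fi22gT.L] at hs)
  rw [ren_image [0, 3, 4, 5, 6] 4 [3, 4, 5, 6] (by decide) (by decide)] at h
  exact h

theorem c6 : Nat.card (Hl [3, 4, 5, 6]) ≤ 120 ∧ Nat.card (Hl [3, 4, 5, 6]) ≠ 0 := by
  have h := b6
  rwa [Subgroup.relIndex_bot_left] at h

theorem c5 : Nat.card (Hl [3, 4, 5, 6, 8]) ≤ 16 * (120) ∧ Nat.card (Hl [3, 4, 5, 6, 8]) ≠ 0 :=
  card_le_of_relIndex (Hl_mono (by decide)) b5 c6

theorem c4 : Nat.card (Hl [2, 3, 4, 5, 6, 8]) ≤ 27 * (16 * (120)) ∧ Nat.card (Hl [2, 3, 4, 5, 6, 8]) ≠ 0 :=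
  card_le_of_relIndex (Hl_mono (by decide)) b4 c5

theorem c3 : Nat.card (Hl [2, 3, 4, 5, 6, 7, 8]) ≤ 28 * (27 * (16 * (120))) ∧ Nat.card (Hl [2, 3, 4, 5, 6, 7, 8]) ≠ 0 :=
  card_le_of_relIndex (Hl_mono (by decide)) b3 c4

theorem c2 : Nat.card (Hl [2, 3, 4, 5, 6, 7, 8, 9]) ≤ 3159 * (28 * (27 * (16 * (120)))) ∧ Nat.card (Hl [2, 3, 4, 5, 6, 7, 8, 9]) ≠ 0 :=
  card_le_of_relIndex (Hl_mono (by decide)) b2 c3

theorem c1 : Nat.card (Hl [1, 2, 3, 4, 5, 6, 7, 8, 9]) ≤ 14080 * (3159 * (28 * (27 * (16 * (120))))) ∧ Nat.card (Hl [1, 2, 3, 4, 5, 6, 7, 8, 9]) ≠ 0 :=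
  card_le_of_relIndex (Hl_mono (by decide)) b1 c2

theorem card_le : Nat.card Fi22 ≤ 64561751654400 := by
  have h := c1.1
  rw [Hl_top, Subgroup.card_top] at h
  exact h

instance instFiniteFi22 : Finite Fi22 := by
  have h := c1.2
  rw [Hl_top, Subgroup.card_top] at h
  exact Nat.finite_of_card_ne_zero h

/-! ### The action on 3510 points -/

theorem hn : 3510 ≤ 2 ^ 12 := by decide

/-- images of the letters -/
noncomputable abbrev y (j : ℕ) := xP Fi22A.sys hn Fi22A.inv_ok j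

/-- images of the generators -/
noncomputable def fP : Fi22.Gen → Equiv.Perm (Fin 3510)
  | .a => y 1
  | .b => y 2
  | .c => y 3
  | .d => y 4
  | .e => y 5
  | .f => y 6
  | .g => y 7
  | .h => y 8
  | .i => y 9

theorem relP : ∀ w ∈ rels, ev (xP Fi22A.sys hn Fi22A.inv_ok) w = 1 :=
  relP_of Fi22A.sys hn Fi22A.inv_ok Fi22A.rel_ok (by decide +kernel)

theorem inv10 : y 11 = (y 10)⁻¹ := xP_il Fi22A.sys hn Fi22A.inv_ok 10 (by decide)

theorem yy10 : (y 1 * y 2 * y 3 * y 4 * y 5 * y 8) ^ 5 = y 10 := by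
  have h := relP (powW [1, 2, 3, 4, 5, 8] 5 ++ [11]) (by decide +kernel)
  simp only [ev_powW, ev_append, ev_cons, ev_nil, mul_one] at h
  have h2 : (y 1 * y 2 * y 3 * y 4 * y 5 * y 8) ^ 5 = (y 11)⁻¹ := by
    rw [← mul_eq_one_iff_eq_inv, ← h]
    simp only [mul_assoc]
  rw [h2, inv10, inv_inv]

theorem fP_x (j : ℕ) (hj : j < 16) : xF fP lm j = xP Fi22A.sys hn Fi22A.inv_ok j := by
  interval_cases j
  · rw [xP_eq_one _ _ _ _ rfl]; simp [xF, lm]
  · rw [x1]; rfl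
  · rw [x2]; rfl
  · rw [x3]; rfl
  · rw [x4]; rfl
  · rw [x5]; rfl
  · rw [x6]; rfl
  · rw [x7]; rfl
  · rw [x8]; rfl
  · rw [x9]; rfl
  · rw [x10]; exact yy10
  · rw [x11]; exact (congrArg _ yy10).trans inv10.symm
  all_goals rw [xP_eq_one _ _ _ _ rfl]; simp [xF, lm]

theorem exists_phi : ∃ φ : Fi22 →* Equiv.Perm (Fin 3510), Compat φ x Fi22A.L :=
  exists_action RR lm Fi22A.sys hn Fi22A.inv_ok Fi22A.rel_ok (by decide +kernel) fP fP_x (lifts fP)

/-- the action -/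
noncomputable def phi : Fi22 →* Equiv.Perm (Fin 3510) := exists_phi.choose

theorem compat : Compat phi x Fi22A.L := exists_phi.choose_spec

theorem main : Nat.card Fi22 = 64561751654400 ∧ Function.Injective phi := by
  have h := order_eq (φ := phi) Fi22A.sys
    (exists_g Fi22A.sys hn compat Fi22A.sg_ok (by decide +kernel)) Fi22A.levs Fi22A.chain
    (by rw [Fi22A.prodM_levs]; exact card_le)
  rwa [Fi22A.prodM_levs] at h

theorem simple : IsSimpleGroup Fi22 := by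
  refine simple_of_data (p := 13) (e := 1) Fi22A.sys hn compat main.2 hic (by decide) (by decide) (by decide) Fi22A.trans
    Fi22A.hfix Fi22A.orbs (by decide) (by decide) (by decide) (by decide) ?_ Fi22A.pw_ok ?_
  · rw [main.1]; decide
  · apply closure_top
    intro a
    cases a
    exacts [⟨1, by decide, rfl⟩, ⟨2, by decide, rfl⟩, ⟨3, by decide, rfl⟩, ⟨4, by decide, rfl⟩, ⟨5, by decide, rfl⟩, ⟨6, by decide, rfl⟩, ⟨7, by decide, rfl⟩, ⟨8, by decide, rfl⟩, ⟨9, by decide, rfl⟩]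

theorem isX : Cfsg.IsFi22 Fi22 := ⟨simple, main.1⟩

end Cfsg.Agent.H8.Fi22M
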