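import Cfsg.Agent.H8_Fi23A_L

set_option autoImplicit false
set_option maxRecDepth 1000000

namespace Cfsg.Agent.H8.Fi23A

open CE Net Act Act4 Act5

def c0 : List (List ℕ × List ℕ) := [([0, 0], []), ([1, 1], []), ([2, 2], []), ([3, 3], []), ([4, 4], []), ([5, 5], []), ([6, 6], []), ([7, 7], []), ([8, 8], []), ([9, 9], []), ([10, 10], []), ([11, 0], []), ([0, 11], []), ([12, 0], []), ([0, 12], []), ([13, 0], []), ([0, 13], []), ([14, 0], []), ([0, 14], []), ([15, 0], []), ([0, 15], []), ([1, 2, 1, 2, 1, 2], []), ([1, 3, 1, 3], []), ([1, 4, 1, 4], []), ([1, 5, 1, 5], []), ([1, 6, 1, 6], []), ([1, 7, 1, 7], []), ([1, 8, 1, 8], []), ([1, 9, 1, 9], []), ([1, 10, 1, 10], []), ([2, 3, 2, 3, 2, 3], []), ([2, 4, 2, 4], []), ([2, 5, 2, 5], []), ([2, 6, 2, 6], []), ([2, 7, 2, 7], []), ([2, 8, 2, 8], []), ([2, 9, 2, 9], []),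 ([2, 10, 2, 10], []), ([3, 4, 3, 4, 3, 4], []), ([3, 5, 3, 5], []), ([3, 6, 3, 6], []), ([3, 7, 3, 7], [])]

def c1 : List (List ℕ × List ℕ) := [([3, 8, 3, 8], []), ([3, 9, 3, 9], []), ([3, 10, 3, 10], []), ([4, 5, 4, 5, 4, 5], []), ([4, 6, 4, 6], []), ([4, 7, 4, 7], []), ([4, 8, 4, 8], []), ([4, 9, 4, 9, 4, 9], []), ([4, 10, 4, 10], []), ([5, 6, 5, 6, 5, 6], []), ([5, 7, 5, 7], []), ([5, 8, 5, 8], []), ([5, 9, 5, 9], []), ([5, 10, 5, 10], []), ([6, 7, 6, 7, 6, 7], []), ([6, 8, 6, 8], []), ([6, 9, 6, 9], []), ([6, 10, 6, 10], []), ([7, 8, 7, 8, 7, 8], []), ([7, 9, 7, 9], []), ([7, 10, 7, 10], []), ([8, 9, 8, 9], []), ([8, 10, 8, 10], []), ([9, 10, 9, 10, 9, 10], [])]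

def c2 : List (List ℕ × List ℕ) := [([25, 25, 25, 25, 25, 25, 25, 25, 25, 25], []), ([26, 26, 26, 26, 26, 26, 26, 26, 26], []), ([16], [5, 3, 2, 6, 3, 1, 5]), ([17], [1, 7, 3, 3, 4, 10, 5, 4, 3, 10, 10, 9, 6, 6, 7]), ([18], [10, 10, 5, 10, 3, 4, 6, 7, 9, 4, 1, 7]), ([19], [17, 17, 16, 18, 17, 17, 18, 17, 16, 17, 18, 18, 16, 18]), ([20], [16, 18, 18, 17, 16, 18, 16, 17, 16, 17, 16, 16, 18, 16, 18, 18, 18, 17, 18, 18, 17, 17, 16])]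

def c3 : List (List ℕ × List ℕ) := [([21], [17, 17, 18, 17, 18, 18, 17, 16, 17, 18, 17, 18, 17, 16, 17, 18, 17, 17, 16]), ([22], [21, 19, 20, 19, 21, 19, 19, 20, 20, 21, 19, 21, 21, 20, 20, 20, 20, 19, 19, 19, 21, 19, 19]), ([23], [19, 19, 19, 20, 19, 20, 21, 21, 20, 21, 21, 20, 19, 21, 20, 20, 19, 20, 19, 21, 19, 21, 19, 21, 20, 21, 19]), ([24], [21, 21, 19, 20, 19, 19, 21, 19, 20, 21, 19, 21, 20, 19, 20, 20, 19, 20]), ([25], [4, 3, 2, 4, 5, 6, 4, 9, 10]), ([26], [1, 2, 3, 4, 5, 6, 9])]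

def c4 : List (List ℕ × List ℕ) := [([27], [1, 10, 3, 4, 7, 3, 5, 4, 9, 6, 3, 6, 2, 6, 8, 1, 3, 10, 4, 2, 5, 3, 10, 6, 1, 4, 9]), ([28], [9, 4, 1, 6, 10, 3, 5, 2, 4, 10, 3, 1, 8, 6, 2, 6, 3, 6, 9, 4, 5, 3, 7, 4, 3, 10, 1, 1]), ([1], [27, 28]), ([27, 27, 27, 27, 27, 27, 27, 27, 27, 27, 27, 27, 27, 27, 27, 27, 27, 27, 27, 27, 27, 27, 27], []), ([28, 28, 28, 28, 28, 28, 28, 28, 28, 28, 28, 28, 28, 28, 28, 28, 28, 28, 28, 28, 28, 28, 28], [])]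

def c5 : List (List ℕ × List ℕ) := [([2], [1, 2, 1, 2, 1]), ([3], [2, 3, 2, 3, 2]), ([4], [3, 4, 3, 4, 3]), ([5], [4, 5, 4, 5, 4]), ([6], [5, 6, 5, 6, 5]), ([7], [6, 7, 6, 7, 6]), ([8], [7, 8, 7, 8, 7]), ([9], [4, 9, 4, 9, 4]), ([10], [9, 10, 9, 10, 9])]


end Cfsg.Agent.H8.Fi23A
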