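import Cfsg.Agent.H8_Fi23A_E0
import Cfsg.Agent.H8_Fi23A_E1
import Cfsg.Agent.H8_Fi23R

set_option autoImplicit false
set_option maxRecDepth 1000000

namespace Cfsg.Agent.H8.Fi23A

open CE Net Act Act4 Act5

theorem g0 : Good L (nat_lit 31671) (nat_lit 15) c0 := good_of_eqR e0_0

theorem g1 : Good L (nat_lit 31671) (nat_lit 15) c1 := good_of_eqR e1_0

theorem g2 : Good L (nat_lit 31671) (nat_lit 15) c2 := good_of_eqR e2_0

theorem g3 : Good L (nat_lit 31671) (nat_lit 15) c3 := good_of_eqR e3_0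

theorem g4 : Good L (nat_lit 31671) (nat_lit 15) c4 := good_of_eqR e4_0

theorem g5 : Good L (nat_lit 31671) (nat_lit 15) c5 := good_of_eqR e5_0

/-- all the pairs -/
def allc : List (List ℕ × List ℕ) := c0 ++ (c1 ++ (c2 ++ (c3 ++ (c4 ++ (c5)))))

theorem good : Good L (nat_lit 31671) (nat_lit 15) allc := good_append g0 (good_append g1 (good_append g2 (good_append g3 (good_append g4 (g5)))))

theorem inv_ok : invOk L (nat_lit 31671) (nat_lit 15) Cfsg.Agent.H8.Fi23R.ic = true := eqAll_of_good good (by decide +kernel)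

/-- relators in compressed form -/
def crels : List (List ℕ) := [[1, 2, 1, 2, 1, 2],
  [1, 3, 1, 3],
  [1, 4, 1, 4],
  [1, 5, 1, 5],
  [1, 6, 1, 6],
  [1, 7, 1, 7],
  [1, 8, 1, 8],
  [1, 9, 1, 9],
  [1, 10, 1, 10],
  [2, 3, 2, 3, 2, 3],
  [2, 4, 2, 4],
  [2, 5, 2, 5],
  [2, 6, 2, 6],
  [2, 7, 2, 7],
  [2, 8, 2, 8],
  [2, 9, 2, 9],
  [2, 10, 2, 10],
  [3, 4, 3, 4, 3, 4],
  [3, 5, 3, 5],
  [3, 6, 3, 6],
  [3, 7, 3, 7],
  [3, 8, 3, 8],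
  [3, 9, 3, 9],
  [3, 10, 3, 10],
  [4, 5, 4, 5, 4, 5],
  [4, 6, 4, 6],
  [4, 7, 4, 7],
  [4, 8, 4, 8],
  [4, 9, 4, 9, 4, 9],
  [4, 10, 4, 10],
  [5, 6, 5, 6, 5, 6],
  [5, 7, 5, 7],
  [5, 8, 5, 8],
  [5, 9, 5, 9],
  [5, 10, 5, 10],
  [6, 7, 6, 7, 6, 7],
  [6, 8, 6, 8],
  [6, 9, 6, 9],
  [6, 10, 6, 10],
  [7, 8, 7, 8, 7, 8],
  [7, 9, 7, 9],
  [7, 10, 7, 10],
  [8, 9, 8, 9],
  [8, 10, 8, 10],
  [9, 10, 9, 10, 9, 10],
  [25, 25, 25, 25, 25, 25, 25, 25, 25, 25],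
  [26, 26, 26, 26, 26, 26, 26, 26, 26]]

/-- words of the auxiliary letters -/
def sg : List (List ℕ) := [[5, 3, 2, 6, 3, 1, 5],
  [1, 7, 3, 3, 4, 10, 5, 4, 3, 10, 10, 9, 6, 6, 7],
  [10, 10, 5, 10, 3, 4, 6, 7, 9, 4, 1, 7],
  [17, 17, 16, 18, 17, 17, 18, 17, 16, 17, 18, 18, 16, 18],
  [16, 18, 18, 17, 16, 18, 16, 17, 16, 17, 16, 16, 18, 16, 18, 18, 18, 17, 18, 18, 17, 17, 16],
  [17, 17, 18, 17, 18, 18, 17, 16, 17, 18, 17, 18, 17, 16, 17, 18, 17, 17, 16],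
  [21, 19, 20, 19, 21, 19, 19, 20, 20, 21, 19, 21, 21, 20, 20, 20, 20, 19, 19, 19, 21, 19, 19],
  [19, 19, 19, 20, 19, 20, 21, 21, 20, 21, 21, 20, 19, 21, 20, 20, 19, 20, 19, 21, 19, 21, 19, 21, 20, 21, 19],
  [21, 21, 19, 20, 19, 19, 21, 19, 20, 21, 19, 21, 20, 19, 20, 20, 19, 20],
  [4, 3, 2, 4, 5, 6, 4, 9, 10],
  [1, 2, 3, 4, 5, 6, 9],
  [1, 10, 3, 4, 7, 3, 5, 4, 9, 6, 3, 6, 2, 6, 8, 1, 3, 10, 4, 2, 5, 3, 10, 6, 1, 4, 9],
  [9, 4, 1, 6, 10, 3, 5, 2, 4, 10, 3, 1, 8, 6, 2, 6, 3, 6, 9, 4, 5, 3, 7, 4, 3, 10, 1, 1]]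

theorem crels_good : Good L (nat_lit 31671) (nat_lit 15) (crels.map fun w => (w, [])) := good_mono good (by decide +kernel)

theorem crels_ex : crels.map (ex1 sg) = Cfsg.Agent.H8.Fi23R.rels := by decide +kernel

theorem sg_ok : sgB L (nat_lit 31671) (nat_lit 15) sg 16 = true := sgB_of 16 (good_mono good (by decide +kernel)) (by decide +kernel)

theorem sg_len : Nat.ble L.length (16 + sg.length) = true := by decide +kernel

/-- elements of order `p` -/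
def pws : List (ℕ × ℕ × ℕ) := [(1, 27, 28)]

theorem pw_ok : Good L (nat_lit 31671) (nat_lit 15) (pwPairs 23 pws) := good_mono good (by decide +kernel)

/-- conjugate letters -/
def cjs : List (ℕ × ℕ × List ℕ) := [(2, 1, [2, 1]), (3, 2, [3, 2]), (4, 3, [4, 3]), (5, 4, [5, 4]), (6, 5, [6, 5]), (7, 6, [7, 6]), (8, 7, [8, 7]), (9, 4, [9, 4]), (10, 9, [10, 9])]

theorem cj_ok : Good L (nat_lit 31671) (nat_lit 15) (cjPairs Cfsg.Agent.H8.Fi23R.ic cjs) := good_mono good (by decide +kernel)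

theorem cj_ok' : cjOk cjs (pws.map Prod.fst) = true := by decide +kernel


end Cfsg.Agent.H8.Fi23A
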