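import Cfsg.Agent.H8_Fi23A_N0

set_option autoImplicit false
set_option maxRecDepth 1000000

namespace Cfsg.Agent.H8.Fi23A

open CE Net Act Act4 Act5

def L : List Nt := [.nil, n1, n2, n3, n4, n5, n6, n7, n8, n9, n10, .nil, .nil, .nil, .nil, .nil, n16, n17, n18, n19, n20, n21, n22, n23, n24, n25, n26, n27, n28]

theorem sys : sysOk L (nat_lit 31671) = true := by decide +kernel


end Cfsg.Agent.H8.Fi23A
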