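import Cfsg.Agent.H8_CS

set_option autoImplicit false
set_option maxRecDepth 1000000

namespace Cfsg.Agent.H8.Fi23dT

open CE CS

def ic : ℕ := nat_lit 1985229328

def rels : List (List ℕ) := [[nat_lit 1, nat_lit 2, nat_lit 1, nat_lit 2, nat_lit 1, nat_lit 2],
  [nat_lit 1, nat_lit 3, nat_lit 1, nat_lit 3],
  [nat_lit 1, nat_lit 4, nat_lit 1, nat_lit 4],
  [nat_lit 1, nat_lit 5, nat_lit 1, nat_lit 5],
  [nat_lit 1, nat_lit 6, nat_lit 1, nat_lit 6],
  [nat_lit 1, nat_lit 7, nat_lit 1, nat_lit 7],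
  [nat_lit 2, nat_lit 3, nat_lit 2, nat_lit 3, nat_lit 2, nat_lit 3],
  [nat_lit 2, nat_lit 4, nat_lit 2, nat_lit 4],
  [nat_lit 2, nat_lit 5, nat_lit 2, nat_lit 5],
  [nat_lit 2, nat_lit 6, nat_lit 2, nat_lit 6],
  [nat_lit 2, nat_lit 7, nat_lit 2, nat_lit 7],
  [nat_lit 3, nat_lit 4, nat_lit 3, nat_lit 4, nat_lit 3, nat_lit 4],
  [nat_lit 3, nat_lit 5, nat_lit 3, nat_lit 5],
  [nat_lit 3, nat_lit 6, nat_lit 3, nat_lit 6],
  [nat_lit 3, nat_lit 7, nat_lit 3, nat_lit 7, nat_lit 3, nat_lit 7],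
  [nat_lit 4, nat_lit 5, nat_lit 4, nat_lit 5, nat_lit 4, nat_lit 5],
  [nat_lit 4, nat_lit 6, nat_lit 4, nat_lit 6],
  [nat_lit 4, nat_lit 7, nat_lit 4, nat_lit 7],
  [nat_lit 5, nat_lit 6, nat_lit 5, nat_lit 6, nat_lit 5, nat_lit 6],
  [nat_lit 5, nat_lit 7, nat_lit 5, nat_lit 7],
  [nat_lit 6, nat_lit 7, nat_lit 6, nat_lit 7]]

def lets : Wd := (.cons (nat_lit 1) (nat_lit 0x100000) (.cons (nat_lit 2) (nat_lit 0x200000) (.cons (nat_lit 3) (nat_lit 0x300000) (.cons (nat_lit 4) (nat_lit 0x400000) (.cons (nat_lit 5) (nat_lit 0x500000) (.cons (nat_lit 6) (nat_lit 0x600000) (.cons (nat_lit 7) (nat_lit 0x700000) .nil)))))))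

def L : List ℕ := [nat_lit 1, nat_lit 2, nat_lit 3, nat_lit 4, nat_lit 5, nat_lit 7]

def rt : RS :=
 (.nd (nat_lit 19)
 (.nd (nat_lit 9)
 (.nd (nat_lit 5)
 (.nd (nat_lit 3)
 (.nd (nat_lit 2)
 (.lf (nat_lit 5) (nat_lit 2) (nat_lit 1) (nat_lit 0x100000) (.cons (nat_lit 6) (nat_lit 0x600000) (.cons (nat_lit 1) (nat_lit 0x100000) (.cons (nat_lit 6) (nat_lit 0x600000) .nil))))
 (.lf (nat_lit 10) (nat_lit 2) (nat_lit 2) (nat_lit 0x200000) (.cons (nat_lit 6) (nat_lit 0x600000) (.cons (nat_lit 2) (nat_lit 0x200000) (.cons (nat_lit 6) (nat_lit 0x600000) .nil)))))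
 (.nd (nat_lit 4)
 (.lf (nat_lit 14) (nat_lit 2) (nat_lit 3) (nat_lit 0x300000) (.cons (nat_lit 6) (nat_lit 0x600000) (.cons (nat_lit 3) (nat_lit 0x300000) (.cons (nat_lit 6) (nat_lit 0x600000) .nil))))
 (.lf (nat_lit 17) (nat_lit 2) (nat_lit 4) (nat_lit 0x400000) (.cons (nat_lit 6) (nat_lit 0x600000) (.cons (nat_lit 4) (nat_lit 0x400000) (.cons (nat_lit 6) (nat_lit 0x600000) .nil))))))
 (.nd (nat_lit 7)
 (.nd (nat_lit 6)
 (.lf (nat_lit 4) (nat_lit 2) (nat_lit 1) (nat_lit 0x100000) (.cons (nat_lit 5) (nat_lit 0x500000) (.cons (nat_lit 1) (nat_lit 0x100000) (.cons (nat_lit 5) (nat_lit 0x500000) .nil))))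
 (.lf (nat_lit 9) (nat_lit 2) (nat_lit 2) (nat_lit 0x200000) (.cons (nat_lit 5) (nat_lit 0x500000) (.cons (nat_lit 2) (nat_lit 0x200000) (.cons (nat_lit 5) (nat_lit 0x500000) .nil)))))
 (.nd (nat_lit 8)
 (.lf (nat_lit 13) (nat_lit 2) (nat_lit 3) (nat_lit 0x300000) (.cons (nat_lit 5) (nat_lit 0x500000) (.cons (nat_lit 3) (nat_lit 0x300000) (.cons (nat_lit 5) (nat_lit 0x500000) .nil))))
 (.lf (nat_lit 12) (nat_lit 1) (nat_lit 4) (nat_lit 0x400000) (.cons (nat_lit 3) (nat_lit 0x300000) (.cons (nat_lit 4) (nat_lit 0x400000) (.cons (nat_lit 3) (nat_lit 0x300000) (.cons (nat_lit 4) (nat_lit 0x400000) (.cons (nat_lit 3) (nat_lit 0x300000) .nil)))))))))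
 (.nd (nat_lit 14)
 (.nd (nat_lit 11)
 (.nd (nat_lit 10)
 (.lf (nat_lit 7) (nat_lit 1) (nat_lit 3) (nat_lit 0x300000) (.cons (nat_lit 2) (nat_lit 0x200000) (.cons (nat_lit 3) (nat_lit 0x300000) (.cons (nat_lit 2) (nat_lit 0x200000) (.cons (nat_lit 3) (nat_lit 0x300000) (.cons (nat_lit 2) (nat_lit 0x200000) .nil))))))
 (.lf (nat_lit 15) (nat_lit 2) (nat_lit 3) (nat_lit 0x300000) (.cons (nat_lit 7) (nat_lit 0x700000) (.cons (nat_lit 3) (nat_lit 0x300000) (.cons (nat_lit 7) (nat_lit 0x700000) (.cons (nat_lit 3) (nat_lit 0x300000) (.cons (nat_lit 7) (nat_lit 0x700000) .nil)))))))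
 (.nd (nat_lit 12)
 (.lf (nat_lit 15) (nat_lit 1) (nat_lit 7) (nat_lit 0x700000) (.cons (nat_lit 3) (nat_lit 0x300000) (.cons (nat_lit 7) (nat_lit 0x700000) (.cons (nat_lit 3) (nat_lit 0x300000) (.cons (nat_lit 7) (nat_lit 0x700000) (.cons (nat_lit 3) (nat_lit 0x300000) .nil))))))
 (.nd (nat_lit 13)
 (.lf (nat_lit 3) (nat_lit 1) (nat_lit 4) (nat_lit 0x400000) (.cons (nat_lit 1) (nat_lit 0x100000) (.cons (nat_lit 4) (nat_lit 0x400000) (.cons (nat_lit 1) (nat_lit 0x100000) .nil))))
 (.lf (nat_lit 4) (nat_lit 1) (nat_lit 5) (nat_lit 0x500000) (.cons (nat_lit 1) (nat_lit 0x100000) (.cons (nat_lit 5) (nat_lit 0x500000) (.cons (nat_lit 1) (nat_lit 0x100000) .nil)))))))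
 (.nd (nat_lit 17)
 (.nd (nat_lit 16)
 (.nd (nat_lit 15)
 (.lf (nat_lit 5) (nat_lit 1) (nat_lit 6) (nat_lit 0x600000) (.cons (nat_lit 1) (nat_lit 0x100000) (.cons (nat_lit 6) (nat_lit 0x600000) (.cons (nat_lit 1) (nat_lit 0x100000) .nil))))
 (.lf (nat_lit 6) (nat_lit 1) (nat_lit 7) (nat_lit 0x700000) (.cons (nat_lit 1) (nat_lit 0x100000) (.cons (nat_lit 7) (nat_lit 0x700000) (.cons (nat_lit 1) (nat_lit 0x100000) .nil)))))
 (.lf (nat_lit 3) (nat_lit 2) (nat_lit 1) (nat_lit 0x100000) (.cons (nat_lit 4) (nat_lit 0x400000) (.cons (nat_lit 1) (nat_lit 0x100000) (.cons (nat_lit 4) (nat_lit 0x400000) .nil)))))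
 (.nd (nat_lit 18)
 (.lf (nat_lit 8) (nat_lit 2) (nat_lit 2) (nat_lit 0x200000) (.cons (nat_lit 4) (nat_lit 0x400000) (.cons (nat_lit 2) (nat_lit 0x200000) (.cons (nat_lit 4) (nat_lit 0x400000) .nil))))
 (.lf (nat_lit 17) (nat_lit 1) (nat_lit 6) (nat_lit 0x600000) (.cons (nat_lit 4) (nat_lit 0x400000) (.cons (nat_lit 6) (nat_lit 0x600000) (.cons (nat_lit 4) (nat_lit 0x400000) .nil))))))))
 (.nd (nat_lit 31)
 (.nd (nat_lit 24)
 (.nd (nat_lit 21)
 (.nd (nat_lit 20)
 (.lf (nat_lit 18) (nat_lit 1) (nat_lit 7) (nat_lit 0x700000) (.cons (nat_lit 4) (nat_lit 0x400000) (.cons (nat_lit 7) (nat_lit 0x700000) (.cons (nat_lit 4) (nat_lit 0x400000) .nil))))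
 (.lf (nat_lit 2) (nat_lit 2) (nat_lit 1) (nat_lit 0x100000) (.cons (nat_lit 3) (nat_lit 0x300000) (.cons (nat_lit 1) (nat_lit 0x100000) (.cons (nat_lit 3) (nat_lit 0x300000) .nil)))))
 (.nd (nat_lit 22)
 (.lf (nat_lit 13) (nat_lit 1) (nat_lit 5) (nat_lit 0x500000) (.cons (nat_lit 3) (nat_lit 0x300000) (.cons (nat_lit 5) (nat_lit 0x500000) (.cons (nat_lit 3) (nat_lit 0x300000) .nil))))
 (.nd (nat_lit 23)
 (.lf (nat_lit 8) (nat_lit 1) (nat_lit 4) (nat_lit 0x400000) (.cons (nat_lit 2) (nat_lit 0x200000) (.cons (nat_lit 4) (nat_lit 0x400000) (.cons (nat_lit 2) (nat_lit 0x200000) .nil))))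
 (.lf (nat_lit 2) (nat_lit 1) (nat_lit 3) (nat_lit 0x300000) (.cons (nat_lit 1) (nat_lit 0x100000) (.cons (nat_lit 3) (nat_lit 0x300000) (.cons (nat_lit 1) (nat_lit 0x100000) .nil)))))))
 (.nd (nat_lit 29)
 (.nd (nat_lit 26)
 (.nd (nat_lit 25)
 (.lf (nat_lit 1) (nat_lit 1) (nat_lit 2) (nat_lit 0x200000) (.cons (nat_lit 1) (nat_lit 0x100000) (.cons (nat_lit 2) (nat_lit 0x200000) (.cons (nat_lit 1) (nat_lit 0x100000) (.cons (nat_lit 2) (nat_lit 0x200000) (.cons (nat_lit 1) (nat_lit 0x100000) .nil))))))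
 (.lf (nat_lit 7) (nat_lit 2) (nat_lit 2) (nat_lit 0x200000) (.cons (nat_lit 3) (nat_lit 0x300000) (.cons (nat_lit 2) (nat_lit 0x200000) (.cons (nat_lit 3) (nat_lit 0x300000) (.cons (nat_lit 2) (nat_lit 0x200000) (.cons (nat_lit 3) (nat_lit 0x300000) .nil)))))))
 (.nd (nat_lit 27)
 (.lf (nat_lit 11) (nat_lit 1) (nat_lit 7) (nat_lit 0x700000) (.cons (nat_lit 2) (nat_lit 0x200000) (.cons (nat_lit 7) (nat_lit 0x700000) (.cons (nat_lit 2) (nat_lit 0x200000) .nil))))
 (.nd (nat_lit 28)
 (.lf (nat_lit 19) (nat_lit 1) (nat_lit 6) (nat_lit 0x600000) (.cons (nat_lit 5) (nat_lit 0x500000) (.cons (nat_lit 6) (nat_lit 0x600000) (.cons (nat_lit 5) (nat_lit 0x500000) (.cons (nat_lit 6) (nat_lit 0x600000) (.cons (nat_lit 5) (nat_lit 0x500000) .nil))))))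
 (.lf (nat_lit 1) (nat_lit 2) (nat_lit 1) (nat_lit 0x100000) (.cons (nat_lit 2) (nat_lit 0x200000) (.cons (nat_lit 1) (nat_lit 0x100000) (.cons (nat_lit 2) (nat_lit 0x200000) (.cons (nat_lit 1) (nat_lit 0x100000) (.cons (nat_lit 2) (nat_lit 0x200000) .nil)))))))))
 (.nd (nat_lit 30)
 (.lf (nat_lit 14) (nat_lit 1) (nat_lit 6) (nat_lit 0x600000) (.cons (nat_lit 3) (nat_lit 0x300000) (.cons (nat_lit 6) (nat_lit 0x600000) (.cons (nat_lit 3) (nat_lit 0x300000) .nil))))
 (.lf (nat_lit 6) (nat_lit 2) (nat_lit 1) (nat_lit 0x100000) (.cons (nat_lit 7) (nat_lit 0x700000) (.cons (nat_lit 1) (nat_lit 0x100000) (.cons (nat_lit 7) (nat_lit 0x700000) .nil)))))))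
 (.nd (nat_lit 35)
 (.nd (nat_lit 33)
 (.nd (nat_lit 32)
 (.lf (nat_lit 18) (nat_lit 2) (nat_lit 4) (nat_lit 0x400000) (.cons (nat_lit 7) (nat_lit 0x700000) (.cons (nat_lit 4) (nat_lit 0x400000) (.cons (nat_lit 7) (nat_lit 0x700000) .nil))))
 (.lf (nat_lit 20) (nat_lit 2) (nat_lit 5) (nat_lit 0x500000) (.cons (nat_lit 7) (nat_lit 0x700000) (.cons (nat_lit 5) (nat_lit 0x500000) (.cons (nat_lit 7) (nat_lit 0x700000) .nil)))))
 (.nd (nat_lit 34)
 (.lf (nat_lit 21) (nat_lit 2) (nat_lit 6) (nat_lit 0x600000) (.cons (nat_lit 7) (nat_lit 0x700000) (.cons (nat_lit 6) (nat_lit 0x600000) (.cons (nat_lit 7) (nat_lit 0x700000) .nil))))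
 (.lf (nat_lit 11) (nat_lit 2) (nat_lit 2) (nat_lit 0x200000) (.cons (nat_lit 7) (nat_lit 0x700000) (.cons (nat_lit 2) (nat_lit 0x200000) (.cons (nat_lit 7) (nat_lit 0x700000) .nil))))))
 (.nd (nat_lit 39)
 (.nd (nat_lit 37)
 (.nd (nat_lit 36)
 (.lf (nat_lit 21) (nat_lit 1) (nat_lit 7) (nat_lit 0x700000) (.cons (nat_lit 6) (nat_lit 0x600000) (.cons (nat_lit 7) (nat_lit 0x700000) (.cons (nat_lit 6) (nat_lit 0x600000) .nil))))
 (.lf (nat_lit 20) (nat_lit 1) (nat_lit 7) (nat_lit 0x700000) (.cons (nat_lit 5) (nat_lit 0x500000) (.cons (nat_lit 7) (nat_lit 0x700000) (.cons (nat_lit 5) (nat_lit 0x500000) .nil)))))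
 (.nd (nat_lit 38)
 (.lf (nat_lit 16) (nat_lit 1) (nat_lit 5) (nat_lit 0x500000) (.cons (nat_lit 4) (nat_lit 0x400000) (.cons (nat_lit 5) (nat_lit 0x500000) (.cons (nat_lit 4) (nat_lit 0x400000) (.cons (nat_lit 5) (nat_lit 0x500000) (.cons (nat_lit 4) (nat_lit 0x400000) .nil))))))
 (.lf (nat_lit 9) (nat_lit 1) (nat_lit 5) (nat_lit 0x500000) (.cons (nat_lit 2) (nat_lit 0x200000) (.cons (nat_lit 5) (nat_lit 0x500000) (.cons (nat_lit 2) (nat_lit 0x200000) .nil))))))
 (.nd (nat_lit 41)
 (.nd (nat_lit 40)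
 (.lf (nat_lit 10) (nat_lit 1) (nat_lit 6) (nat_lit 0x600000) (.cons (nat_lit 2) (nat_lit 0x200000) (.cons (nat_lit 6) (nat_lit 0x600000) (.cons (nat_lit 2) (nat_lit 0x200000) .nil))))
 (.lf (nat_lit 12) (nat_lit 2) (nat_lit 3) (nat_lit 0x300000) (.cons (nat_lit 4) (nat_lit 0x400000) (.cons (nat_lit 3) (nat_lit 0x300000) (.cons (nat_lit 4) (nat_lit 0x400000) (.cons (nat_lit 3) (nat_lit 0x300000) (.cons (nat_lit 4) (nat_lit 0x400000) .nil)))))))
 (.nd (nat_lit 42)
 (.lf (nat_lit 16) (nat_lit 2) (nat_lit 4) (nat_lit 0x400000) (.cons (nat_lit 5) (nat_lit 0x500000) (.cons (nat_lit 4) (nat_lit 0x400000) (.cons (nat_lit 5) (nat_lit 0x500000) (.cons (nat_lit 4) (nat_lit 0x400000) (.cons (nat_lit 5) (nat_lit 0x500000) .nil))))))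
 (.lf (nat_lit 19) (nat_lit 2) (nat_lit 5) (nat_lit 0x500000) (.cons (nat_lit 6) (nat_lit 0x600000) (.cons (nat_lit 5) (nat_lit 0x500000) (.cons (nat_lit 6) (nat_lit 0x600000) (.cons (nat_lit 5) (nat_lit 0x500000) (.cons (nat_lit 6) (nat_lit 0x600000) .nil))))))))))))

def fc : List ℕ := [nat_lit 0x37500037000377000370003740003700037300037000372000370003710003700036400036000367000360003630003600036200036000361000360003530003500035700035000356000350003520003500035100035000347000340003420003400034600034000345000340003410003400033600033000335000330003340003300033200032000331000330003230003200032600032000325000320003240003200032100030000313000310003110003100031600031000315000310003140003100030300030000306000300003050003000030400030000302000300002f40002f0002f60002f0002f50002f0002f10002e0002e40002e0002e20002e0002e60002e0002e50002e0002d50002d0002d70002d0002d60002d0002d20002d0002d10002c0002c50002c0002c70002c0002c60002c0002c2000290002b20002b0002b70002b0002b60002b0002b50002a0002b30002b000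2a20002a0002a70002a0002a6000270002a40002a0002a30002a0002950002900029300029000297000290002960002900029100029000283000280002870002800028600028000285000260002720002700027700027000275000270002740002700027300027000263000260002670002600026600024000264000260002570002500025600025000255000230002510002500024300024000247000240002450002400024400024000237000230002340002300023600021000231000230002260002200022500020000224000220002220002200022100022000217000210002140002100021500021000211000210002060001d0002040001e00020200020000201000200001f60001f0001f40001f0001f30001f0001f20001f0001f10001f0001e30001e0001e60001b0001e50001e0001e20001e0001e10001e0001d50001d0001d40001b0001d20001d0001d10001d0001c40001a0001c30001c0001c20001c0001c10001c0001b30001b0001b5000170001b20001b0001b10001b0001a50001a0001a3000180001a20001a0001a10001a000195000190001930001900019200019000191000190001850001800018700018000184000180001820001500018100018000173000170001760001700017400017000172000170001710001700016300014000162000160001610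00160001550001500015700015000154000150001530001500015100012000144000140001470001400014200011000141000140001340001300013200013000136000130001310001300012500012000127000120001240001200012300012000122000120001140001100011700011000113000110001110000f00010700010000106000100001020000e000101000100000f40000f0000f70000f0000f30000f0000f20000f0000e30000e0000e70000e0000e60000e0000e10000c0000d30000d0000d10000d0000d70000d0000d60000d0000d50000d0000c30000c0000c70000c0000c60000c0000c20000c0000b70000b0000b60000b0000b50000b0000b10000a0000a70000a0000a20000a0000a60000a0000a50000a000096000090000950000900009400009000092000090000910000800008600008000085000080000840000800008200006000072000070000760000700007500007000074000070000730000700006300006000066000060000650000600006400006000061000060000530000500005600005000055000050000540000500004400004000046000040000450000400004100004000035000030000370000300003600003000032000030000310000300002600002000027000020000230000200002200002000021000020000170000100001400001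00001300001000012000010000110000100000700000000005000000000040000000000300000000002000000000010000000036600037000355000360003440003500033300034000317000330002f7000320002f2000310002e7000300002d30002f0002c30002e0002b40002d0002840002c0002810002b0002610002a000254000290002520002800024100027000232000260002230002500021200024000203000230001f7000220001d3000210001c7000200001c50001f0001a70001e0001970001d0001960001c0001670001b0001660001a000164000190001460001800013700017000135000160001160001500010500014000103000130000f6000120000e5000110000d4000100000c50000f0000b40000e0000b20000d0000a40000c0000930000b0000830000a00007700009000057000080000510000700004700006000042000050000330000400002400003000015000020000060000100000000000]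

noncomputable def S : ℕ → ℕ := facts (nat_lit 0) (nat_lit 0) fc

theorem rt_chk : rt.chk ic (rels ++ rels.map (invw ic)) = true := by decide +kernel

theorem rels_lt : (rels.all fun w => w.all fun y => Nat.blt y 16) = true := by decide +kernel

theorem s0 : S 0 = 0 := by decide +kernel

theorem defs0 : withF (nat_lit 0) (nat_lit 0) fc (fun S => rangeS (nat_lit 56) (defC S) (nat_lit 6) (nat_lit 1)) = true := by decide +kernel

theorem defs : rangeS (nat_lit 56) (defC S) (nat_lit 6) (nat_lit 1) = true := by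
  have h := defs0
  rw [withF_eq] at h
  exact h

theorem ini0 : withF (nat_lit 0) (nat_lit 0) fc (fun S => initC S L (nat_lit 56)) = true := by decide +kernel

theorem ini : initC S L (nat_lit 56) = true := by
  have h := ini0
  rw [withF_eq] at h
  exact h

theorem lets_ok : letsOk ic (nat_lit 7) lets = true := by decide +kernel

def pc0 : List ℕ := [nat_lit 0x6e36938d86e2a1bcb46e231bcb86e041bcb06e031bcac6e021bca86e011b0d642351b0a46d281b0906d291b01c6d261b0186d251b0146a348e8d06a281ac906a131ac886a121ac8c6a111ac806a101a0ce2a331a02c691c8d47068191a47c681d1a47868151a46c681419c4c662119c48662019c44661f190c4662219c50661e190be042f19028650a19084650919080650b1907c610819078622f800bc620918c220d0818870630a1889c630918898630b18858602e7e8b8600a1841460211841060201841c601f184186022178b5ec2d178205f01178745f03178545cff178505c2c758b05c0800000000000005cfb77bec5c19173f05c1d173f85c1516bdde4f7168945af91684c5af8168485afa16844582b1684058e86fba05825163a85813163a45812148a05811158a1b6281586056ea1583c56e91583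854e81583456eb1585c542669898541815384540f13b80540e1537c540c15388541714b71aadc14894522568094522814b78521314b74521214b6c5210140959e251402450de1406850dd1409c4cdc140984e24650904e1813b644e0f13b604e0d13b5c4e0c13b684e171308d8e23130244cd61306848d41309c4cd5130584a22618884a0b12b484a1d11b444a1512b384a141208572211202448cd1206848cb1209848cc1205846205b080460b000000000000046c860320460810b24461d11b1846141131444211007c442011310441f11308442211304441e10875541d1082c42ba59ae8420810aec421510ae042140e87040210f2dc401f102d44022102d0401e0f871561c0f86c3eb757adc3e290fad83e070fad43e060fad03e050f2b94cae0f028361a0f0843caf0f0803cad0f0883cac0f0783aab0e88036190e87c3aa90e8883aa80e87834190e01038aa0e00c38a90e00838a80e004369d4a274360a0b85836200da7036220da6c361e0d0591e160d0a8309d0d00c349c0d008349b0d00432164885832250ca752a9d0c8a0329c0c844329b0c840301441850302a0c25030230c25430040aa4c3002000000000c24830010b84d08130b8282e8f0b8842e910b87c2e900b8882e8e0b87828130b01c2c900b0182c8e0b0142a113d0442a2a0aa1c2a230aa202a040aa182a030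92142a010a040e8100a0a428840a09022820a01828810a01426103c040260809a08f88209864268309874268109850240f3883c242a091fc2423092002404091f82403091f4240208838da0e088a4227b08890227c0881c1e790881420760804c2075080481c0d080442077080401e0c340301e29079c81e24079cc1e07079c01e060702cca0b070a01c6f0704c1c6e07048186c070401a0b3202c1a09069b0d46c068701a6f068681a6e0689c1a6d06898180a300281828061ac18130000186906048186a0604416092d024160b0599c161d0599816150518c161405020a8080502c145f2c97c141905188141d0518414150497412210497012200496c121f0497812220401c121e0414c102104148102004144101f030141022038149a05038600e53038380e52038340e51038300e540385c0c04258100c0a0313c0c21031380c20031400c1f031340c1e028109204028240a4f0289c0a4e028980a500285808032280c080802128081d0213008150212008140180882020189406460184c06470184806440184406430184004011e004041b011080424011000407010fc0406010f80405008f40223008ec0204008e80203008e40202008e00201]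

theorem prog0_0 : withF (nat_lit 0) (nat_lit 0) fc (fun S => dedProg S (nat_lit 56) (nat_lit 9) (nat_lit 511) rt (nat_lit 399) (nat_lit 2048) (nat_lit 4) pc0 (nat_lit 62) (nat_lit 309)) = true := by decide +kernel

theorem prog0 : dedProg S (nat_lit 56) (nat_lit 9) (nat_lit 511) rt (nat_lit 399) (nat_lit 2048) (nat_lit 4) pc0 (nat_lit 62) (nat_lit 309) = true := by
  have h := prog0_0
  rw [withF_eq] at h
  exact h

def cc0 : List ℕ := [nat_lit 0x998de693298cc25e01968dc6d2e964ae54019449c6c3594c9a4a019248a42351a48e400119c7e3d1d1a47236011946631178d4722c0119c4e25118a8c628011843e1d0d884322c011942a130b178c610011841609071741a100181406062d17c01fe017ebf1fc2c173edfe017cbe1ee2d7b3e856017a3cdeef278bd45401773b5e02977bedd801753a5d02c758a05601733cdcae471b9c4e0170b81d0df7109854016f375b829128a1b6016cb81b0d76d0904e016b351b8d511899a60111349a2d012b3d9c0166b5196cc10891940110325a2c811b1d8c01113143ec461b0982010f2fd7cc8602f578010eb2576ba10ae57001100703eb75b2d56801000000000dafd64ba59ac560010f0695eb7572b558010e8715619552a55001530614ea55729146010ba8564a05127d3c010d8682c194ea7136014c85534984ba912c014a06028954ea4d24010ba3c2c9109a411c01460491a8b452252c014385422884324d0a014220c281009a0902013f8481e803f1f50a013d9e8220e3e208f2013b1d4e8103c034ee01391c41e0c399c0f201379b8da0e05834d801359a4d00c051a8d8010499ccc6505990c60104188c2600517cc60104974b85b2d1780e0103160ae562c97caa010414ca4512a0140e010313c9c50020149a012592898030212490012311c0403229108601210040441200fc7c011e804783b1d0e47001]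

theorem clo0_0 : withF (nat_lit 0) (nat_lit 0) fc (fun S => cloProg S (nat_lit 309) (nat_lit 9) (nat_lit 511) lets (nat_lit 399) (nat_lit 2048) (nat_lit 4) cc0 (nat_lit 0) (nat_lit 0) (nat_lit 56) (nat_lit 56)) = true := by decide +kernel

theorem clo0 : cloProg S (nat_lit 309) (nat_lit 9) (nat_lit 511) lets (nat_lit 399) (nat_lit 2048) (nat_lit 4) cc0 (nat_lit 0) (nat_lit 0) (nat_lit 56) (nat_lit 56) = true := by
  have h := clo0_0
  rw [withF_eq] at h
  exact h

theorem facts_ok {G : Type*} [Group G] {x : ℕ → G} {H : Subgroup G}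
    (hic : ∀ y, y < 16 → x (il ic y) = (x y)⁻¹) (h0 : x 0 = 1) (hrels : ∀ w ∈ rels, ev x w = 1)
    (hst : ∀ g, g < (nat_lit 56) + L.length → VF H x (rho x S) (nat_lit 56) S g) :
    ∀ g, g < (nat_lit 309) → VF H x (rho x S) (nat_lit 56) S g := by
  have hv : rt.Valid x ic := RS.valid_of_chk hic h0 (relsAll_ok hic rels_lt hrels) rt rt_chk
  have hn : (nat_lit 56) ≤ 1048576 := Nat.le_of_ble_eq_true (by decide)
  have g0 : ∀ g, g < (nat_lit 62) → VF H x (rho x S) (nat_lit 56) S g := hst

  have g1 := dedProg_sound (H := H) (ρ := rho x S) hic hn hv prog0 g0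
  exact g1

theorem bound {G : Type*} [Group G] {x : ℕ → G} {H : Subgroup G}
    (hic : ∀ y, y < 16 → x (il ic y) = (x y)⁻¹) (h0 : x 0 = 1) (hrels : ∀ w ∈ rels, ev x w = 1)
    (hL : ∀ s ∈ L, x s ∈ H) :
    H.relIndex (Subgroup.closure (x '' {y | 1 ≤ y ∧ y ≤ 7})) ≤ 56 ∧
      H.relIndex (Subgroup.closure (x '' {y | 1 ≤ y ∧ y ≤ 7})) ≠ 0 :=
  bound_of (k := 7) (n := 56) (kk := 6) hic h0 hL (by decide) (by decide) (by decide) (by decide) (by decide) lets_ok
    s0 defs ini (facts_ok hic h0 hrels) clo0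


end Cfsg.Agent.H8.Fi23dT
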