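import Cfsg.Agent.H8_Fi23A
import Cfsg.Agent.H8_Fi22eT
import Cfsg.Agent.H8_Fi22fT
import Cfsg.Agent.H8_Fi22gT
import Cfsg.Agent.H8_Fi23aT
import Cfsg.Agent.H8_Fi23bT
import Cfsg.Agent.H8_Fi23cT
import Cfsg.Agent.H8_Fi23dT
import Cfsg.Agent.H8_Act5
import Cfsg.Prelude.Def_Sporadic

set_option autoImplicit false
set_option maxRecDepth 100000
set_option linter.constructorNameAsVariable false

namespace Cfsg.Agent.H8.Fi23M

open CE Net Act Cox CS Fi23R Act2 Act3 Act5 Cfsg.Spor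

abbrev RR : Set (FreeGroup Fi23.Gen) := coxRelators Fi23.edges ∪ {r | r ∈ Fi23.extra}

/-- the letters in the presented group -/
noncomputable abbrev x : ℕ → Fi23 := xG RR lm

theorem hic : ∀ y, y < 16 → x (il ic y) = (x y)⁻¹ := by
  have h := (words _ (lift_of_rel RR)).1
  rw [← xG_eq] at h
  exact h

theorem hrels0 : ∀ w ∈ rels, ev x w = 1 := by
  have h := (words _ (lift_of_rel RR)).2
  rw [← xG_eq] at h
  exact h

theorem h0 : x 0 = 1 := by
  unfold x xG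
  simp [lm]

theorem sub_rels {rs : List (List ℕ)} (h : (rs.all fun w => rels.contains w) = true) : ∀ w ∈ rs, ev x w = 1 := by
  intro w hw
  rw [List.all_eq_true] at h
  have := h w hw
  rw [List.contains_iff_mem] at this
  exact hrels0 w this

/-- subgroups generated by lists of letters -/
noncomputable def Hl (l : List ℕ) : Subgroup Fi23 := Subgroup.closure (x '' {y | y ∈ l})

theorem Hl_mono {l l' : List ℕ} (h : (l.all fun y => l'.contains y) = true) : Hl l ≤ Hl l' := by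
  apply Subgroup.closure_mono
  apply Set.image_mono
  intro y hy
  rw [List.all_eq_true] at h
  have := h y hy
  rwa [List.contains_iff_mem] at this

theorem mem_Hl {l : List ℕ} {y : ℕ} (h : l.contains y = true) : x y ∈ Hl l :=
  Subgroup.subset_closure ⟨y, by rwa [List.contains_iff_mem] at h, rfl⟩

theorem Hl_top : Hl [1, 2, 3, 4, 5, 6, 7, 8, 9, 10] = ⊤ := by
  apply closure_top
  intro a
  cases a
  exacts [⟨1, by decide, rfl⟩, ⟨2, by decide, rfl⟩, ⟨3, by decide, rfl⟩, ⟨4, by decide, rfl⟩, ⟨5, by decide, rfl⟩, ⟨6, by decide, rfl⟩, ⟨7, by decide, rfl⟩, ⟨8, by decide, rfl⟩, ⟨9, by decide, rfl⟩, ⟨10, by decide, rfl⟩]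

theorem hrels : ∀ w ∈ rels, ev x w = 1 := hrels0

theorem b1 : (Hl [1, 2, 3, 4, 5, 6, 7, 9, 10]).relIndex (Hl [1, 2, 3, 4, 5, 6, 7, 8, 9, 10]) ≤ 31671 ∧
    (Hl [1, 2, 3, 4, 5, 6, 7, 9, 10]).relIndex (Hl [1, 2, 3, 4, 5, 6, 7, 8, 9, 10]) ≠ 0 := by
  have h := Fi23aT.bound (x := x) (H := (Hl [1, 2, 3, 4, 5, 6, 7, 9, 10]))
    hic h0 (sub_rels (by decide +kernel)) (by
      intro s hs
      simp only [Fi23aT.L, List.mem_cons, List.not_mem_nil, or_false] at hs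
      rcases hs with rfl | rfl | rfl | rfl | rfl | rfl | rfl | rfl | rfl <;> exact mem_Hl (by decide))
  have e : (x '' {y | 1 ≤ y ∧ y ≤ 10}) = x '' {y | y ∈ ([1, 2, 3, 4, 5, 6, 7, 8, 9, 10] : List ℕ)} := by
    congr 1
    ext y
    simp only [Set.mem_ofPred_eq, List.mem_cons, List.not_mem_nil, or_false]
    omega
  rw [e] at h
  exact h

theorem b2 : (Hl [2, 3, 4, 5, 6, 7, 9, 10]).relIndex (Hl [1, 2, 3, 4, 5, 6, 7, 9, 10]) ≤ 14080 ∧
    (Hl [2, 3, 4, 5, 6, 7, 9, 10]).relIndex (Hl [1, 2, 3, 4, 5, 6, 7, 9, 10]) ≠ 0 := by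
  have h := Fi23bT.bound (x := ren x [0, 1, 2, 3, 4, 5, 6, 7, 9, 10]) (H := (Hl [2, 3, 4, 5, 6, 7, 9, 10]))
    (ren_hic hic (by decide +kernel)) h0 (ren_rels hrels (by decide +kernel)) (by
      intro s hs
      simp only [Fi23bT.L, List.mem_cons, List.not_mem_nil, or_false] at hs
      rcases hs with rfl | rfl | rfl | rfl | rfl | rfl | rfl | rfl <;> exact mem_Hl (by decide))
  rw [ren_image [0, 1, 2, 3, 4, 5, 6, 7, 9, 10] 9 [1, 2, 3, 4, 5, 6, 7, 9, 10] (by decide) (by decide)] at h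
  exact h

theorem b3 : (Hl [2, 3, 4, 5, 6, 7, 9]).relIndex (Hl [2, 3, 4, 5, 6, 7, 9, 10]) ≤ 3159 ∧
    (Hl [2, 3, 4, 5, 6, 7, 9]).relIndex (Hl [2, 3, 4, 5, 6, 7, 9, 10]) ≠ 0 := by
  have h := Fi23cT.bound (x := ren x [0, 2, 3, 4, 5, 6, 7, 9, 10]) (H := (Hl [2, 3, 4, 5, 6, 7, 9]))
    (ren_hic hic (by decide +kernel)) h0 (ren_rels hrels (by decide +kernel)) (by
      intro s hs
      simp only [Fi23cT.L, List.mem_cons, List.not_mem_nil, or_false] at hs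
      rcases hs with rfl | rfl | rfl | rfl | rfl | rfl | rfl <;> exact mem_Hl (by decide))
  rw [ren_image [0, 2, 3, 4, 5, 6, 7, 9, 10] 8 [2, 3, 4, 5, 6, 7, 9, 10] (by decide) (by decide)] at h
  exact h

theorem b4 : (Hl [2, 3, 4, 5, 6, 9]).relIndex (Hl [2, 3, 4, 5, 6, 7, 9]) ≤ 56 ∧
    (Hl [2, 3, 4, 5, 6, 9]).relIndex (Hl [2, 3, 4, 5, 6, 7, 9]) ≠ 0 := by
  have h := Fi23dT.bound (x := ren x [0, 2, 3, 4, 5, 6, 7, 9]) (H := (Hl [2, 3, 4, 5, 6, 9]))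
    (ren_hic hic (by decide +kernel)) h0 (ren_rels hrels (by decide +kernel)) (by
      intro s hs
      simp only [Fi23dT.L, List.mem_cons, List.not_mem_nil, or_false] at hs
      rcases hs with rfl | rfl | rfl | rfl | rfl | rfl <;> exact mem_Hl (by decide))
  rw [ren_image [0, 2, 3, 4, 5, 6, 7, 9] 7 [2, 3, 4, 5, 6, 7, 9] (by decide) (by decide)] at h
  exact h

theorem b5 : (Hl [3, 4, 5, 6, 9]).relIndex (Hl [2, 3, 4, 5, 6, 9]) ≤ 27 ∧
    (Hl [3, 4, 5, 6, 9]).relIndex (Hl [2, 3, 4, 5, 6, 9]) ≠ 0 := by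
  have h := Fi22eT.bound (x := ren x [0, 2, 3, 4, 5, 6, 9]) (H := (Hl [3, 4, 5, 6, 9]))
    (ren_hic hic (by decide +kernel)) h0 (ren_rels hrels (by decide +kernel)) (by
      intro s hs
      simp only [Fi22eT.L, List.mem_cons, List.not_mem_nil, or_false] at hs
      rcases hs with rfl | rfl | rfl | rfl | rfl <;> exact mem_Hl (by decide))
  rw [ren_image [0, 2, 3, 4, 5, 6, 9] 6 [2, 3, 4, 5, 6, 9] (by decide) (by decide)] at h
  exact h

theorem b6 : (Hl [3, 4, 5, 6]).relIndex (Hl [3, 4, 5, 6, 9]) ≤ 16 ∧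
    (Hl [3, 4, 5, 6]).relIndex (Hl [3, 4, 5, 6, 9]) ≠ 0 := by
  have h := Fi22fT.bound (x := ren x [0, 3, 4, 5, 6, 9]) (H := (Hl [3, 4, 5, 6]))
    (ren_hic hic (by decide +kernel)) h0 (ren_rels hrels (by decide +kernel)) (by
      intro s hs
      simp only [Fi22fT.L, List.mem_cons, List.not_mem_nil, or_false] at hs
      rcases hs with rfl | rfl | rfl | rfl <;> exact mem_Hl (by decide))
  rw [ren_image [0, 3, 4, 5, 6, 9] 5 [3, 4, 5, 6, 9] (by decide) (by decide)] at h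
  exact h

theorem b7 : (⊥ : Subgroup Fi23).relIndex (Hl [3, 4, 5, 6]) ≤ 120 ∧
    (⊥ : Subgroup Fi23).relIndex (Hl [3, 4, 5, 6]) ≠ 0 := by
  have h := Fi22gT.bound (x := ren x [0, 3, 4, 5, 6]) (H := (⊥ : Subgroup Fi23))
    (ren_hic hic (by decide +kernel)) h0 (ren_rels hrels (by decide +kernel)) (by
      intro s hs
      simp [Fi22gT.L] at hs)
  rw [ren_image [0, 3, 4, 5, 6] 4 [3, 4, 5, 6] (by decide) (by decide)] at h
  exact h

theorem c7 : Nat.card (Hl [3, 4, 5, 6]) ≤ 120 ∧ Nat.card (Hl [3, 4, 5, 6]) ≠ 0 := by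
  have h := b7
  rwa [Subgroup.relIndex_bot_left] at h

theorem c6 : Nat.card (Hl [3, 4, 5, 6, 9]) ≤ 16 * (120) ∧ Nat.card (Hl [3, 4, 5, 6, 9]) ≠ 0 :=
  card_le_of_relIndex (Hl_mono (by decide)) b6 c7

theorem c5 : Nat.card (Hl [2, 3, 4, 5, 6, 9]) ≤ 27 * (16 * (120)) ∧ Nat.card (Hl [2, 3, 4, 5, 6, 9]) ≠ 0 :=
  card_le_of_relIndex (Hl_mono (by decide)) b5 c6

theorem c4 : Nat.card (Hl [2, 3, 4, 5, 6, 7, 9]) ≤ 56 * (27 * (16 * (120))) ∧ Nat.card (Hl [2, 3, 4, 5, 6, 7, 9]) ≠ 0 :=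
  card_le_of_relIndex (Hl_mono (by decide)) b4 c5

theorem c3 : Nat.card (Hl [2, 3, 4, 5, 6, 7, 9, 10]) ≤ 3159 * (56 * (27 * (16 * (120)))) ∧ Nat.card (Hl [2, 3, 4, 5, 6, 7, 9, 10]) ≠ 0 :=
  card_le_of_relIndex (Hl_mono (by decide)) b3 c4

theorem c2 : Nat.card (Hl [1, 2, 3, 4, 5, 6, 7, 9, 10]) ≤ 14080 * (3159 * (56 * (27 * (16 * (120))))) ∧ Nat.card (Hl [1, 2, 3, 4, 5, 6, 7, 9, 10]) ≠ 0 :=
  card_le_of_relIndex (Hl_mono (by decide)) b2 c3

theorem c1 : Nat.card (Hl [1, 2, 3, 4, 5, 6, 7, 8, 9, 10]) ≤ 31671 * (14080 * (3159 * (56 * (27 * (16 * (120)))))) ∧ Nat.card (Hl [1, 2, 3, 4, 5, 6, 7, 8, 9, 10]) ≠ 0 :=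
  card_le_of_relIndex (Hl_mono (by decide)) b1 c2

theorem card_le : Nat.card Fi23 ≤ 4089470473293004800 := by
  have h := c1.1
  rw [Hl_top, Subgroup.card_top] at h
  exact h

instance instFiniteFi23 : Finite Fi23 := by
  have h := c1.2
  rw [Hl_top, Subgroup.card_top] at h
  exact Nat.finite_of_card_ne_zero h

/-! ### The action on 31671 points -/

theorem hn : 31671 ≤ 2 ^ 15 := by decide

/-- images of the letters -/
noncomputable abbrev y (j : ℕ) := xP Fi23A.sys hn Fi23A.inv_ok j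

/-- images of the generators -/
noncomputable def fP : Fi23.Gen → Equiv.Perm (Fin 31671)
  | .a => y 1
  | .b => y 2
  | .c => y 3
  | .d => y 4
  | .e => y 5
  | .f => y 6
  | .g => y 7
  | .j => y 8
  | .h => y 9
  | .i => y 10

theorem relP : ∀ w ∈ rels, ev (xP Fi23A.sys hn Fi23A.inv_ok) w = 1 :=
  relP_of2 Fi23A.sys hn Fi23A.inv_ok Fi23A.sg_ok Fi23A.sg_len Fi23A.crels_good Fi23A.crels_ex (by decide +kernel) (by decide +kernel)

theorem fP_x (j : ℕ) (hj : j < 16) : xF fP lm j = xP Fi23A.sys hn Fi23A.inv_ok j := by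
  interval_cases j
  · rw [xP_eq_one _ _ _ _ rfl]; simp [xF, lm]
  · rw [x1]; rfl
  · rw [x2]; rfl
  · rw [x3]; rfl
  · rw [x4]; rfl
  · rw [x5]; rfl
  · rw [x6]; rfl
  · rw [x7]; rfl
  · rw [x8]; rfl
  · rw [x9]; rfl
  · rw [x10]; rfl
  all_goals rw [xP_eq_one _ _ _ _ rfl]; simp [xF, lm]

theorem exists_phi : ∃ φ : Fi23 →* Equiv.Perm (Fin 31671), Compat φ x Fi23A.L :=
  exists_action2 RR lm Fi23A.sys hn Fi23A.inv_ok relP (by decide +kernel) fP fP_x (lifts fP)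

/-- the action -/
noncomputable def phi : Fi23 →* Equiv.Perm (Fin 31671) := exists_phi.choose

theorem compat : Compat phi x Fi23A.L := exists_phi.choose_spec

theorem main : Nat.card Fi23 = 4089470473293004800 ∧ Function.Injective phi := by
  have h := order_eq (φ := phi) Fi23A.sys
    (exists_g Fi23A.sys hn compat Fi23A.sg_ok Fi23A.sg_len) Fi23A.levs Fi23A.chain
    (by rw [Fi23A.prodM_levs]; exact card_le)
  rwa [Fi23A.prodM_levs] at h

theorem simple : IsSimpleGroup Fi23 := by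
  refine simple_of_data3 (p := 23) (e := 1) Fi23A.sys hn compat main.2 hic (by decide) Fi23A.sg_ok Fi23A.sg_len (by decide) (by decide) Fi23A.trans
    Fi23A.hfix Fi23A.orbs (by decide) (by decide) (by decide) (by decide) ?_ Fi23A.pw_ok Fi23A.cj_ok Fi23A.cj_ok' (by decide) ?_
  · rw [main.1]; decide
  · apply closure_top
    intro a
    cases a
    exacts [⟨1, by decide, rfl⟩, ⟨2, by decide, rfl⟩, ⟨3, by decide, rfl⟩, ⟨4, by decide, rfl⟩, ⟨5, by decide, rfl⟩, ⟨6, by decide, rfl⟩, ⟨7, by decide, rfl⟩, ⟨8, by decide, rfl⟩, ⟨9, by decide, rfl⟩, ⟨10, by decide, rfl⟩]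

theorem isX : Cfsg.IsFi23 Fi23 := ⟨simple, main.1⟩

end Cfsg.Agent.H8.Fi23M
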