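import Cfsg.Agent.H8_Fi23M

set_option autoImplicit false
set_option maxRecDepth 100000
set_option linter.constructorNameAsVariable false

namespace Cfsg.Agent.H8.Fi23M

open CE Net Act Cox CS Fi23R Act2 Act3 Cfsg.Spor

/-- letters fixing the point `0` -/
abbrev l9 : List ℕ := [1, 2, 3, 4, 5, 6, 7, 9, 10]

theorem map_H : (Subgroup.closure ({Fi23.a, Fi23.b, Fi23.c, Fi23.d, Fi23.e, Fi23.f, Fi23.g, Fi23.h, Fi23.i} :
    Set (FreeGroup Fi23.Gen))).map (PresentedGroup.mk RR) = Hl l9 := by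
  apply map_closure_gens
  · intro s hs
    simp only [Set.mem_insert_iff, Set.mem_singleton_iff] at hs
    rcases hs with rfl | rfl | rfl | rfl | rfl | rfl | rfl | rfl | rfl
    exacts [⟨1, by decide, rfl⟩, ⟨2, by decide, rfl⟩, ⟨3, by decide, rfl⟩, ⟨4, by decide, rfl⟩, ⟨5, by decide, rfl⟩,
      ⟨6, by decide, rfl⟩, ⟨7, by decide, rfl⟩, ⟨9, by decide, rfl⟩, ⟨10, by decide, rfl⟩]
  · intro y hy
    simp only [List.mem_cons, List.not_mem_nil, or_false] at hy
    rcases hy with rfl | rfl | rfl | rfl | rfl | rfl | rfl | rfl | rfl <;> simp [lm]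

theorem hn0 : 0 < 31671 := by decide

theorem htr : ∀ i : Fin 31671, ∃ g, phi g ⟨0, hn0⟩ = i :=
  trans_of Fi23A.sys compat (by decide) hn0 Fi23A.trans

theorem H_index : (Hl l9).index = 31671 ∧ ∀ g, g ∈ Hl l9 ↔ phi g ⟨0, hn0⟩ = ⟨0, hn0⟩ := by
  have h := b1
  rw [Hl_top, Subgroup.relIndex_top_right] at h
  exact index_of_fix hn0 htr (fix_closure Fi23A.sys compat (by decide) hn0 Fi23A.hfix) h.1 h.2

theorem S1689 : (Hl l9).index = 31671 ∧ ∃ q₁ q₂ : Fi23 ⧸ Hl l9,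
    (MulAction.orbit (Hl l9) q₁).ncard = 3510 ∧
    (MulAction.orbit (Hl l9) q₂).ncard = 28160 := by
  obtain ⟨q₁, h₁, h₁'⟩ := orbit_iv Fi23A.sys compat (l := l9) (by decide) hn0 htr Fi23A.hfix rfl H_index.2
    (r := 30) (c := 1) (a := 1) (b := 3511) (by decide) (by decide) (by decide) (by decide +kernel) (by decide +kernel)
  obtain ⟨q₂, h₂, h₂'⟩ := orbit_iv Fi23A.sys compat (l := l9) (by decide) hn0 htr Fi23A.hfix rfl H_index.2
    (r := 30) (c := 3511) (a := 3511) (b := 31671) (by decide) (by decide) (by decide) (by decide +kernel) (by decide +kernel)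
  exact ⟨H_index.1, q₁, q₂, h₁', h₂'⟩

end Cfsg.Agent.H8.Fi23M
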