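import Cfsg.Agent.H8_CS

set_option autoImplicit false
set_option maxRecDepth 1000000

namespace Cfsg.Agent.H8.He5T

open CE CS

def ic : ℕ := nat_lit 188606884098576

def rels : List (List ℕ) := [[nat_lit 1, nat_lit 2, nat_lit 1, nat_lit 2, nat_lit 1, nat_lit 2, nat_lit 1, nat_lit 2],
  [nat_lit 1, nat_lit 3, nat_lit 1, nat_lit 3],
  [nat_lit 1, nat_lit 4, nat_lit 1, nat_lit 4],
  [nat_lit 1, nat_lit 5, nat_lit 1, nat_lit 5],
  [nat_lit 2, nat_lit 3, nat_lit 2, nat_lit 3, nat_lit 2, nat_lit 3],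
  [nat_lit 2, nat_lit 4, nat_lit 2, nat_lit 4],
  [nat_lit 2, nat_lit 5, nat_lit 2, nat_lit 5],
  [nat_lit 3, nat_lit 4, nat_lit 3, nat_lit 4, nat_lit 3, nat_lit 4, nat_lit 3, nat_lit 4, nat_lit 3, nat_lit 4, nat_lit 3, nat_lit 4, nat_lit 3, nat_lit 4, nat_lit 3, nat_lit 4, nat_lit 3, nat_lit 4, nat_lit 3, nat_lit 4],
  [nat_lit 3, nat_lit 5, nat_lit 3, nat_lit 5],
  [nat_lit 4, nat_lit 5, nat_lit 4, nat_lit 5, nat_lit 4, nat_lit 5],
  [nat_lit 5, nat_lit 1, nat_lit 2, nat_lit 3, nat_lit 1, nat_lit 2, nat_lit 3, nat_lit 1, nat_lit 2, nat_lit 3],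
  [nat_lit 1, nat_lit 3, nat_lit 4, nat_lit 3, nat_lit 4, nat_lit 3, nat_lit 4, nat_lit 3, nat_lit 4, nat_lit 3, nat_lit 4]]

def lets : Wd := (.cons (nat_lit 1) (nat_lit 0x100000) (.cons (nat_lit 2) (nat_lit 0x200000) (.cons (nat_lit 3) (nat_lit 0x300000) (.cons (nat_lit 4) (nat_lit 0x400000) (.cons (nat_lit 5) (nat_lit 0x500000) .nil)))))

def L : List ℕ := []

def rt : RS :=
 (.nd (nat_lit 8)
 (.nd (nat_lit 2)
 (.lf (nat_lit 6) (nat_lit 1) (nat_lit 4) (nat_lit 0x400000) (.cons (nat_lit 2) (nat_lit 0x200000) (.cons (nat_lit 4) (nat_lit 0x400000) (.cons (nat_lit 2) (nat_lit 0x200000) .nil))))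
 (.nd (nat_lit 5)
 (.nd (nat_lit 3)
 (.lf (nat_lit 11) (nat_lit 9) (nat_lit 3) (nat_lit 0x300000) (.cons (nat_lit 2) (nat_lit 0x200000) (.cons (nat_lit 1) (nat_lit 0x100000) (.cons (nat_lit 3) (nat_lit 0x300000) (.cons (nat_lit 2) (nat_lit 0x200000) (.cons (nat_lit 1) (nat_lit 0x100000) (.cons (nat_lit 3) (nat_lit 0x300000) (.cons (nat_lit 2) (nat_lit 0x200000) (.cons (nat_lit 1) (nat_lit 0x100000) (.cons (nat_lit 5) (nat_lit 0x500000) .nil))))))))))
 (.nd (nat_lit 4)
 (.lf (nat_lit 0) (nat_lit 0) (nat_lit 5) (nat_lit 0x500000) (.cons (nat_lit 0) (nat_lit 0) (.cons (nat_lit 5) (nat_lit 0x500000) .nil)))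
 (.lf (nat_lit 7) (nat_lit 2) (nat_lit 2) (nat_lit 0x200000) (.cons (nat_lit 5) (nat_lit 0x500000) (.cons (nat_lit 2) (nat_lit 0x200000) (.cons (nat_lit 5) (nat_lit 0x500000) .nil))))))
 (.nd (nat_lit 6)
 (.lf (nat_lit 7) (nat_lit 1) (nat_lit 5) (nat_lit 0x500000) (.cons (nat_lit 2) (nat_lit 0x200000) (.cons (nat_lit 5) (nat_lit 0x500000) (.cons (nat_lit 2) (nat_lit 0x200000) .nil))))
 (.nd (nat_lit 7)
 (.lf (nat_lit 4) (nat_lit 1) (nat_lit 5) (nat_lit 0x500000) (.cons (nat_lit 1) (nat_lit 0x100000) (.cons (nat_lit 5) (nat_lit 0x500000) (.cons (nat_lit 1) (nat_lit 0x100000) .nil))))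
 (.lf (nat_lit 11) (nat_lit 0) (nat_lit 5) (nat_lit 0x500000) (.cons (nat_lit 3) (nat_lit 0x300000) (.cons (nat_lit 2) (nat_lit 0x200000) (.cons (nat_lit 1) (nat_lit 0x100000) (.cons (nat_lit 3) (nat_lit 0x300000) (.cons (nat_lit 2) (nat_lit 0x200000) (.cons (nat_lit 1) (nat_lit 0x100000) (.cons (nat_lit 3) (nat_lit 0x300000) (.cons (nat_lit 2) (nat_lit 0x200000) (.cons (nat_lit 1) (nat_lit 0x100000) .nil))))))))))))))
 (.nd (nat_lit 14)
 (.nd (nat_lit 13)
 (.nd (nat_lit 10)
 (.nd (nat_lit 9)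
 (.lf (nat_lit 9) (nat_lit 2) (nat_lit 3) (nat_lit 0x300000) (.cons (nat_lit 5) (nat_lit 0x500000) (.cons (nat_lit 3) (nat_lit 0x300000) (.cons (nat_lit 5) (nat_lit 0x500000) .nil))))
 (.lf (nat_lit 10) (nat_lit 2) (nat_lit 4) (nat_lit 0x400000) (.cons (nat_lit 5) (nat_lit 0x500000) (.cons (nat_lit 4) (nat_lit 0x400000) (.cons (nat_lit 5) (nat_lit 0x500000) (.cons (nat_lit 4) (nat_lit 0x400000) (.cons (nat_lit 5) (nat_lit 0x500000) .nil)))))))
 (.nd (nat_lit 11)
 (.lf (nat_lit 0) (nat_lit 0) (nat_lit 0) (nat_lit 0) (.cons (nat_lit 2) (nat_lit 0x200000) (.cons (nat_lit 0) (nat_lit 0) (.cons (nat_lit 2) (nat_lit 0x200000) .nil))))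
 (.nd (nat_lit 12)
 (.lf (nat_lit 4) (nat_lit 2) (nat_lit 1) (nat_lit 0x100000) (.cons (nat_lit 5) (nat_lit 0x500000) (.cons (nat_lit 1) (nat_lit 0x100000) (.cons (nat_lit 5) (nat_lit 0x500000) .nil))))
 (.lf (nat_lit 24) (nat_lit 1) (nat_lit 0) (nat_lit 0) (.cons (nat_lit 4) (nat_lit 0x400000) (.cons (nat_lit 1) (nat_lit 0x100000) (.cons (nat_lit 3) (nat_lit 0x300000) (.cons (nat_lit 4) (nat_lit 0x400000) (.cons (nat_lit 3) (nat_lit 0x300000) (.cons (nat_lit 4) (nat_lit 0x400000) (.cons (nat_lit 3) (nat_lit 0x300000) (.cons (nat_lit 4) (nat_lit 0x400000) (.cons (nat_lit 3) (nat_lit 0x300000) (.cons (nat_lit 4) (nat_lit 0x400000) (.cons (nat_lit 3) (nat_lit 0x300000) .nil)))))))))))))))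
 (.lf (nat_lit 3) (nat_lit 1) (nat_lit 4) (nat_lit 0x400000) (.cons (nat_lit 1) (nat_lit 0x100000) (.cons (nat_lit 4) (nat_lit 0x400000) (.cons (nat_lit 1) (nat_lit 0x100000) .nil)))))
 (.nd (nat_lit 16)
 (.nd (nat_lit 15)
 (.lf (nat_lit 5) (nat_lit 2) (nat_lit 2) (nat_lit 0x200000) (.cons (nat_lit 3) (nat_lit 0x300000) (.cons (nat_lit 2) (nat_lit 0x200000) (.cons (nat_lit 3) (nat_lit 0x300000) (.cons (nat_lit 2) (nat_lit 0x200000) (.cons (nat_lit 3) (nat_lit 0x300000) .nil))))))
 (.lf (nat_lit 2) (nat_lit 2) (nat_lit 1) (nat_lit 0x100000) (.cons (nat_lit 3) (nat_lit 0x300000) (.cons (nat_lit 1) (nat_lit 0x100000) (.cons (nat_lit 3) (nat_lit 0x300000) .nil)))))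
 (.nd (nat_lit 19)
 (.nd (nat_lit 18)
 (.nd (nat_lit 17)
 (.lf (nat_lit 0) (nat_lit 0) (nat_lit 0) (nat_lit 0) (.cons (nat_lit 1) (nat_lit 0x100000) (.cons (nat_lit 0) (nat_lit 0) (.cons (nat_lit 1) (nat_lit 0x100000) .nil))))
 (.lf (nat_lit 0) (nat_lit 0) (nat_lit 0) (nat_lit 0) (.cons (nat_lit 5) (nat_lit 0x500000) (.cons (nat_lit 0) (nat_lit 0) (.cons (nat_lit 5) (nat_lit 0x500000) .nil)))))
 (.lf (nat_lit 2) (nat_lit 1) (nat_lit 3) (nat_lit 0x300000) (.cons (nat_lit 1) (nat_lit 0x100000) (.cons (nat_lit 3) (nat_lit 0x300000) (.cons (nat_lit 1) (nat_lit 0x100000) .nil)))))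
 (.lf (nat_lit 1) (nat_lit 2) (nat_lit 1) (nat_lit 0x100000) (.cons (nat_lit 2) (nat_lit 0x200000) (.cons (nat_lit 1) (nat_lit 0x100000) (.cons (nat_lit 2) (nat_lit 0x200000) (.cons (nat_lit 1) (nat_lit 0x100000) (.cons (nat_lit 2) (nat_lit 0x200000) (.cons (nat_lit 1) (nat_lit 0x100000) (.cons (nat_lit 2) (nat_lit 0x200000) .nil))))))))))))

def fc : List ℕ := [nat_lit 0x50000e0000f0000000001200000e000280000250004300003f0005d0000600006f30006e0006f10005c0006e40006b0006d1000580006c1000590006b3000690006a500069000691000520006940006800068300067000674000640006610004d0006510004e0006430006200063500062000621000470006240006100061300060000602000430005f1000410005e1000420005d40005c0005b200058000594000560005650005500055400054000531000360005140004f0005020004d0004e40004b0004b50004a0004a4000490004810002c0004640004400045200041000431000280003f40003e0003c40003a0003a500039000394000370003820003600034400033000324000300003050002f0002f40002d0002e20002c0002a40002900028200012000254000240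0023300021000224000200002050001f0001f40001e0001c40001b0001b3000190001a400018000185000170001740001600014400013000133000100005a20006f0005950006e0005730006d0005720006c0005450006b0005430006a000512000690004f2000680004e5000670004c3000660004c20006500049500064000493000630004620006200044200061000425000600004030005f0004020005e0003f20005d0003e20005c0003d30005b0003d10005a0003c2000590003b3000580003b1000570003a2000560003920005500037200054000353000530003520005200034100051000333000500003310004f0003220004e0003130004d0003110004c0003020004b0002f20004a0002d2000490002b3000480002b2000470002a1000460002930004500029100044000275000430002720004200026300041000261000400002510003f0002410003e0002320003d0002210003c0002120003b0002010003a0001f1000390001e3000380001e1000370001d3000360001d1000350001c2000340001b2000330001a10003200019200031000181000300001710002f0001630002e0001610002d0001530002c0001510002b0001420002a000132000290001150002800011100027000102000260000e2000250000d2000240000d1000230000c2000220000c1000210000b2000200000a20001f0000920001e0000820001d0000810001c0000710001b0000620001a000061000190000520001800004200017000032000160000220001500002100014000011000130000050001200000200011000001000100000e50000f0000d40000e0000c30000d0000b40000c0000a50000b0000940000a00008300009000074000080000630000700005400006000045000050000340000400002300003000014000020000030000100000000000]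

noncomputable def S : ℕ → ℕ := facts (nat_lit 0) (nat_lit 0) fc

theorem rt_chk : rt.chk ic (rels ++ rels.map (invw ic)) = true := by decide +kernel

theorem rels_lt : (rels.all fun w => w.all fun y => Nat.blt y 16) = true := by decide +kernel

theorem s0 : S 0 = 0 := by decide +kernel

theorem defs0 : withF (nat_lit 0) (nat_lit 0) fc (fun S => rangeS (nat_lit 112) (defC S) (nat_lit 7) (nat_lit 1)) = true := by decide +kernel

theorem defs : rangeS (nat_lit 112) (defC S) (nat_lit 7) (nat_lit 1) = true := by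
  have h := defs0
  rw [withF_eq] at h
  exact h

theorem ini0 : withF (nat_lit 0) (nat_lit 0) fc (fun S => initC S L (nat_lit 112)) = true := by decide +kernel

theorem ini : initC S L (nat_lit 112) = true := by
  have h := ini0
  rw [withF_eq] at h
  exact h

theorem lets_ok : letsOk ic (nat_lit 5) lets = true := by decide +kernel

def pc0 : List ℕ := [nat_lit 0xfb00312af0f1125ae7c0a3fad88105dac990a9a9b9ea1a2a3a6a9abaa960c6ea76c6da8955b5a6f025c3e24233d5a6f136b9293946e0958576d0f593c22213b576c13a56a6b08a4525391833837546a0752351d1c3451691300000000000068906901679f6566a08f504f6802648c8d8e67094d4c660f4e321a19314c65139d6364089c47488b7e2e2d496307472b15142a466213618a620160975e5f9889454461024342600441405f0f4227111026405e135c875d01583b7a3d5b0e5686590155855605548455013635530f4f82510d4d317533500e4b814e014a804b05497f4a012c2b480f447d460d41267029450e2827430b3e7b3f0d3a793c0d39783a063777390d361d091e380e337634013074320d2f7330062d722f0d2c1503162e0e29712a0112112804240e2501210d2312200c22011f0b20051e0a1f011b081c0d19071b1218061a0117051805160417011302140d10011312]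

theorem prog0_0 : withF (nat_lit 0) (nat_lit 0) fc (fun S => dedProg S (nat_lit 112) (nat_lit 8) (nat_lit 255) rt (nat_lit 399) (nat_lit 2048) (nat_lit 4) pc0 (nat_lit 112) (nat_lit 178)) = true := by decide +kernel

theorem prog0 : dedProg S (nat_lit 112) (nat_lit 8) (nat_lit 255) rt (nat_lit 399) (nat_lit 2048) (nat_lit 4) pc0 (nat_lit 112) (nat_lit 178) = true := by
  have h := prog0_0
  rw [withF_eq] at h
  exact h

theorem facts_ok {G : Type*} [Group G] {x : ℕ → G} {H : Subgroup G}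
    (hic : ∀ y, y < 16 → x (il ic y) = (x y)⁻¹) (h0 : x 0 = 1) (hrels : ∀ w ∈ rels, ev x w = 1)
    (hst : ∀ g, g < (nat_lit 112) + L.length → VF H x (rho x S) (nat_lit 112) S g) :
    ∀ g, g < (nat_lit 178) → VF H x (rho x S) (nat_lit 112) S g := by
  have hv : rt.Valid x ic := RS.valid_of_chk hic h0 (relsAll_ok hic rels_lt hrels) rt rt_chk
  have hn : (nat_lit 112) ≤ 1048576 := Nat.le_of_ble_eq_true (by decide)
  have g0 : ∀ g, g < (nat_lit 112) → VF H x (rho x S) (nat_lit 112) S g := hst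

  have g1 := dedProg_sound (H := H) (ρ := rho x S) hic hn hv prog0 g0
  exact g1

def q0 : Wd := (.cons (nat_lit 3) (nat_lit 0x300000) (.cons (nat_lit 4) (nat_lit 0x400000) (.cons (nat_lit 3) (nat_lit 0x300000) (.cons (nat_lit 4) (nat_lit 0x400000) (.cons (nat_lit 5) (nat_lit 0x500000) (.cons (nat_lit 4) (nat_lit 0x400000) (.cons (nat_lit 3) (nat_lit 0x300000) (.cons (nat_lit 4) (nat_lit 0x400000) (.cons (nat_lit 3) (nat_lit 0x300000) (.cons (nat_lit 4) (nat_lit 0x400000) (.cons (nat_lit 5) (nat_lit 0x500000) (.cons (nat_lit 4) (nat_lit 0x400000) (.cons (nat_lit 3) (nat_lit 0x300000) (.cons (nat_lit 4) (nat_lit 0x400000) (.cons (nat_lit 5) (nat_lit 0x500000) .nil)))))))))))))))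

theorem qr0_0 : withF (nat_lit 0) (nat_lit 0) fc (fun S => wordProg S (nat_lit 178) (nat_lit 8) (nat_lit 255) q0 (nat_lit 0xb10e0d0c0b0a090807060504030201)) = true := by decide +kernel

theorem qr0 : wordProg S (nat_lit 178) (nat_lit 8) (nat_lit 255) q0 (nat_lit 0xb10e0d0c0b0a090807060504030201) = true := by
  have h := qr0_0
  rw [withF_eq] at h
  exact h

theorem word0 {G : Type*} [Group G] {x : ℕ → G} {H : Subgroup G}
    (hic : ∀ y, y < 16 → x (il ic y) = (x y)⁻¹) (h0 : x 0 = 1) (hrels : ∀ w ∈ rels, ev x w = 1)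
    (hL : ∀ s ∈ L, x s ∈ H) : ev x [3, 4, 3, 4, 5, 4, 3, 4, 3, 4, 5, 4, 3, 4, 5] ∈ H :=
  word_of (kk := 7) hic h0 hL (by decide) (by decide) (by decide) (by decide)
    s0 defs ini (facts_ok hic h0 hrels) (u := q0) (by decide +kernel) qr0


end Cfsg.Agent.H8.He5T
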