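import Cfsg.Agent.H8_M11pR

set_option autoImplicit false
set_option maxRecDepth 1000000

namespace Cfsg.Agent.H8.M11pA

open CE Net Act

def n1 : Nt := (.st (nat_lit 8) (nat_lit 0x28)
  (.st (nat_lit 4) (nat_lit 0x204)
  (.st (nat_lit 2) (nat_lit 0x10)
  (.st (nat_lit 1) (nat_lit 0x401)
  (.st (nat_lit 4) (nat_lit 0x4)
  (.st (nat_lit 8) (nat_lit 0x28)
  .nil))))))

def n2 : Nt := (.st (nat_lit 8) (nat_lit 0xa0)
  (.st (nat_lit 4) (nat_lit 0xa00)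
  (.st (nat_lit 2) (nat_lit 0x100)
  (.st (nat_lit 1) (nat_lit 0x104)
  (.st (nat_lit 2) (nat_lit 0x202)
  (.st (nat_lit 4) (nat_lit 0xa04)
  (.st (nat_lit 8) (nat_lit 0xa0)
  .nil)))))))

def n3 : Nt := (.st (nat_lit 8) (nat_lit 0xa0)
  (.st (nat_lit 4) (nat_lit 0xa04)
  (.st (nat_lit 2) (nat_lit 0x102)
  (.st (nat_lit 1) (nat_lit 0x404)
  (.st (nat_lit 2) (nat_lit 0x200)
  (.st (nat_lit 4) (nat_lit 0xa00)
  (.st (nat_lit 8) (nat_lit 0xa0)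
  .nil)))))))

def n4 : Nt := (.st (nat_lit 8) (nat_lit 0x90)
  (.st (nat_lit 4) (nat_lit 0x50e)
  (.st (nat_lit 2) (nat_lit 0x3002)
  (.st (nat_lit 1) (nat_lit 0x1144)
  (.st (nat_lit 2) (nat_lit 0x2002)
  (.st (nat_lit 4) (nat_lit 0x40c)
  (.st (nat_lit 8) (nat_lit 0x92)
  .nil)))))))

def n5 : Nt := (.st (nat_lit 8) (nat_lit 0x92)
  (.st (nat_lit 4) (nat_lit 0xb02)
  (.st (nat_lit 2) (nat_lit 0x120)
  (.st (nat_lit 1) (nat_lit 0x1444)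
  (.st (nat_lit 2) (nat_lit 0x20)
  (.st (nat_lit 4) (nat_lit 0xa00)
  (.st (nat_lit 8) (nat_lit 0x90)
  .nil)))))))

def n16 : Nt := (.st (nat_lit 8) (nat_lit 0x14)
  (.st (nat_lit 4) (nat_lit 0x500)
  (.st (nat_lit 2) (nat_lit 0x1000)
  (.st (nat_lit 1) (nat_lit 0x140)
  (.st (nat_lit 2) (nat_lit 0x20)
  (.st (nat_lit 4) (nat_lit 0x408)
  (.st (nat_lit 8) (nat_lit 0x14)
  .nil)))))))

def n17 : Nt := (.st (nat_lit 8) (nat_lit 0x8a)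
  (.st (nat_lit 4) (nat_lit 0x804)
  (.st (nat_lit 2) (nat_lit 0x110)
  (.st (nat_lit 1) (nat_lit 0x410)
  (.st (nat_lit 4) (nat_lit 0x6)
  (.st (nat_lit 8) (nat_lit 0x8a)
  .nil))))))

def n18 : Nt := (.st (nat_lit 8) (nat_lit 0xf8)
  (.st (nat_lit 4) (nat_lit 0xf00)
  (.st (nat_lit 2) (nat_lit 0x2200)
  (.st (nat_lit 1) (nat_lit 0x4100)
  (.st (nat_lit 2) (nat_lit 0x2200)
  (.st (nat_lit 8) (nat_lit 0xf8)
  .nil))))))

def n19 : Nt := (.st (nat_lit 8) (nat_lit 0xf8)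
  (.st (nat_lit 4) (nat_lit 0xf00)
  (.st (nat_lit 2) (nat_lit 0x300)
  (.st (nat_lit 1) (nat_lit 0x5000)
  (.st (nat_lit 8) (nat_lit 0xf8)
  .nil)))))

def L : List Nt := [.nil, n1, n2, n3, n4, n5, .nil, .nil, .nil, .nil, .nil, .nil, .nil, .nil, .nil, .nil, n16, n17, n18, n19]

theorem sys : sysOk L (nat_lit 11) = true := by decide +kernel

theorem inv_ok : invOk L (nat_lit 11) (nat_lit 4) Cfsg.Agent.H8.M11pR.ic = true := by decide +kernel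

theorem rel_ok : eqAll L (nat_lit 11) (nat_lit 4) (Cfsg.Agent.H8.M11pR.rels.map fun w => (w, [])) = true := by decide +kernel

def sg : List (List ℕ) := [[3, 5, 5, 4, 3, 5, 5, 3, 3, 2, 3],
  [3, 4, 2, 4, 5, 3, 3, 3, 2],
  [16, 16, 16, 17, 16, 17, 17, 16, 17, 16, 17, 17, 17, 16, 16, 16, 17],
  [17, 16, 17, 16, 17, 16, 17, 17, 17, 16, 17, 17, 17]]

theorem sg_ok : sgB L (nat_lit 11) (nat_lit 4) sg 16 = true := by decide +kernel

def levs : List Lev := [⟨[1, 2, 3, 4, 5], 2, 0, 11⟩,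
  ⟨[2, 3, 4, 5], 2, 1, 10⟩,
  ⟨[16, 17], 4, 2, 9⟩,
  ⟨[18, 19], 2, 3, 8⟩]

theorem chain : chainB L (nat_lit 11) (nat_lit 4) levs [] = true := by decide +kernel

theorem prodM_levs : prodM levs = 7920 := by decide +kernel

theorem trans : reachIv L [1, 2, 3, 4, 5] 2 (nat_lit 0) (nat_lit 0) (nat_lit 11) = true := by decide +kernel

theorem hfix : fixP L [2, 3, 4, 5] [nat_lit 0] = true := by decide +kernel

def ods : List (ℕ × ℕ × ℕ) := [(10, 2, 1)]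

theorem orbs : orbB L (nat_lit 11) [2, 3, 4, 5] ods = true := by decide +kernel

def pws : List (ℕ × List ℕ) := [(1, [5, 1, 2, 5]),
  (2, [1, 5, 3]),
  (4, [3, 1])]

theorem pw_ok : pwB L (nat_lit 11) (nat_lit 4) Cfsg.Agent.H8.M11pR.ic 11 pws = true := by decide +kernel


end Cfsg.Agent.H8.M11pA
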