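import Cfsg.Agent.H8_CE

/-!
Permutations of `{0, …, n-1}` given by switching networks acting on bit vectors (natural numbers).
All the checks are a few hundred operations on big natural numbers, so they are fast in the kernel.
-/

set_option autoImplicit false

namespace Cfsg.Agent.H8.Net

open CE (N N_eq ev ev_nil ev_cons ev_append)

/-- switching networks -/
inductive Nt : Type
  | nil : Nt
  | st (s m : ℕ) (t : Nt) : Nt

noncomputable def stg2 (s v t : ℕ) : ℕ := Nat.xor (Nat.xor v t) (Nat.shiftLeft t s)

/-- one stage: swap the bits `i` and `i + s` for all `i` in the mask `m` -/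
noncomputable def stg (s m v : ℕ) : ℕ := stg2 s v (Nat.land (Nat.xor (Nat.shiftRight v s) v) m)

/-- apply a network to a bit vector -/
noncomputable def Nt.ap (t : Nt) : ℕ → ℕ :=
  Nt.rec (motive := fun _ => ℕ → ℕ) (fun v => v) (fun s m _ ih v => ih (stg s m v)) t

/-- position map of a stage -/
def stpos (s m i : ℕ) : ℕ := if m.testBit i then i + s else if s ≤ i ∧ m.testBit (i - s) then i - s else i

/-- position map of a network -/
def Nt.pos : Nt → ℕ → ℕ
  | .nil, i => i
  | .st s m t, i => stpos s m (t.pos i)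

/-- well-formedness of a network -/
def Nt.Ok : Nt → Prop
  | .nil => True
  | .st s m t => m &&& (m <<< s) = 0 ∧ t.Ok

/-- boolean version -/
noncomputable def Nt.okb (t : Nt) : Bool :=
  Nt.rec (motive := fun _ => Bool) true
    (fun s m _ ih => Bool.rec false ih (Nat.beq (Nat.land m (Nat.shiftLeft m s)) (nat_lit 0))) t

theorem Nt.ok_of_okb : ∀ {t : Nt}, t.okb = true → t.Ok
  | .nil, _ => trivial
  | .st s m t, h => by
    have h1 : Nt.okb (.st s m t) = Bool.rec false t.okb
      (Nat.beq (Nat.land m (Nat.shiftLeft m s)) (nat_lit 0)) := rfl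
    rw [h1] at h
    cases hb : Nat.beq (Nat.land m (Nat.shiftLeft m s)) (nat_lit 0)
    · rw [hb] at h; exact absurd h (by simp)
    · rw [hb] at h
      exact ⟨Nat.eq_of_beq_eq_true hb, Nt.ok_of_okb h⟩

theorem stg_testBit {s m : ℕ} (h : m &&& (m <<< s) = 0) (v i : ℕ) :
    (stg s m v).testBit i = v.testBit (stpos s m i) := by
  have e : stg s m v = (v ^^^ (((v >>> s) ^^^ v) &&& m)) ^^^ ((((v >>> s) ^^^ v) &&& m) <<< s) := rfl
  rw [e]
  have hm : ∀ j, m.testBit j = true → s ≤ j → m.testBit (j - s) = false := by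
    intro j hj hs
    have h1 : (m &&& (m <<< s)).testBit j = false := by rw [h]; simp
    rw [Nat.testBit_and, Nat.testBit_shiftLeft, hj] at h1
    simpa [hs] using h1
  rw [Nat.testBit_xor, Nat.testBit_xor, Nat.testBit_and, Nat.testBit_shiftLeft, Nat.testBit_and,
    Nat.testBit_xor, Nat.testBit_xor, Nat.testBit_shiftRight, Nat.testBit_shiftRight]
  unfold stpos
  by_cases h1 : m.testBit i = true
  · rw [if_pos h1, h1]
    by_cases h2 : s ≤ i
    · rw [hm i h1 h2]
      rw [Nat.add_comm s i]
      cases v.testBit (i + s) <;> cases v.testBit i <;> simp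
    · rw [Nat.add_comm s i]
      have : decide (i ≥ s) = false := by simpa using h2
      rw [this]
      cases v.testBit (i + s) <;> cases v.testBit i <;> simp
  · rw [if_neg h1]
    rw [Bool.not_eq_true] at h1
    rw [h1]
    by_cases h2 : s ≤ i
    · have e1 : s + (i - s) = i := by omega
      rw [e1]
      have : decide (i ≥ s) = true := by simpa using h2
      rw [this]
      by_cases h3 : m.testBit (i - s) = true
      · rw [if_pos ⟨h2, h3⟩, h3]
        cases v.testBit (i - s) <;> cases v.testBit i <;> simp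
      · rw [if_neg (fun hh => h3 hh.2)]
        rw [Bool.not_eq_true] at h3
        rw [h3]; simp
    · rw [if_neg (fun hh => h2 hh.1)]
      have : decide (i ≥ s) = false := by simpa using h2
      rw [this]; simp

theorem Nt.ap_testBit : ∀ {t : Nt}, t.Ok → ∀ (v i : ℕ), (t.ap v).testBit i = v.testBit (t.pos i)
  | .nil, _, v, i => rfl
  | .st s m t, h, v, i => by
    have h1 : Nt.ap (.st s m t) v = t.ap (stg s m v) := rfl
    rw [h1, Nt.ap_testBit h.2, stg_testBit h.1]
    rfl

/-! ### Lists of networks -/

/-- apply a list of networks from left to right -/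
noncomputable def apL (us : List Nt) (v : ℕ) : ℕ := us.foldl (fun v t => t.ap v) v

/-- position map of a list of networks -/
def posL : List Nt → ℕ → ℕ
  | [], i => i
  | t :: us, i => t.pos (posL us i)

theorem apL_testBit : ∀ (us : List Nt), (∀ t ∈ us, t.Ok) → ∀ (v i : ℕ),
    (apL us v).testBit i = v.testBit (posL us i)
  | [], _, v, i => rfl
  | t :: us, h, v, i => by
    have h1 : apL (t :: us) v = apL us (t.ap v) := rfl
    rw [h1, apL_testBit us (fun t ht => h t (by simp [ht])), Nt.ap_testBit (h t (by simp))]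
    rfl

noncomputable def runL (us : List Nt) : ℕ → (ℕ → Bool) → Bool :=
  List.rec (motive := fun _ => ℕ → (ℕ → Bool) → Bool) (fun v k => k v)
    (fun t _ ih v k => N (t.ap v) fun v' => ih v' k) us

theorem runL_eq : ∀ (us : List Nt) (v : ℕ) (k : ℕ → Bool), runL us v k = k (apL us v)
  | [], _, _ => rfl
  | t :: us, v, k => by
    have h1 : runL (t :: us) v k = N (t.ap v) fun v' => runL us v' k := rfl
    rw [h1, N_eq, runL_eq us]
    rfl

/-! ### Label planes -/

/-- bit `b` of all the labels `< 2^k` -/
noncomputable def plane (b k : ℕ) : ℕ :=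
  Nat.rec (motive := fun _ => ℕ) (nat_lit 0) (fun k ih =>
    Bool.rec (Nat.lor ih (Nat.shiftLeft ih (Nat.pow (nat_lit 2) k)))
      (Nat.shiftLeft (Nat.sub (Nat.pow (nat_lit 2) (Nat.pow (nat_lit 2) k)) (nat_lit 1)) (Nat.pow (nat_lit 2) k))
      (Nat.beq b k)) k

theorem plane_succ (b k : ℕ) : plane b (k + 1) = if b = k then (2 ^ 2 ^ k - 1) <<< (2 ^ k) else
    plane b k ||| (plane b k <<< (2 ^ k)) := by
  have h1 : plane b (k + 1) = Bool.rec (plane b k ||| (plane b k <<< (2 ^ k)))
    ((2 ^ 2 ^ k - 1) <<< (2 ^ k)) (Nat.beq b k) := rfl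
  rw [h1]
  by_cases h : b = k
  · subst h; simp
  · have : Nat.beq b k = false := by
      rw [Bool.eq_false_iff]; intro hh; exact h (Nat.eq_of_beq_eq_true hh)
    rw [this, if_neg h]

theorem plane_testBit (b k i : ℕ) : (plane b k).testBit i = (decide (i < 2 ^ k) && i.testBit b) := by
  induction k generalizing i with
  | zero =>
    have : plane b 0 = 0 := rfl
    rw [this, Nat.zero_testBit]
    by_cases h : i < 2 ^ 0
    · have : i = 0 := by
        have : (2 : ℕ) ^ 0 = 1 := rfl
        omega
      subst this; simp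
    · rw [decide_eq_false h]; rfl
  | succ k ih =>
    rw [plane_succ]
    have hp : (2 : ℕ) ^ (k + 1) = 2 ^ k + 2 ^ k := by rw [pow_succ]; omega
    split_ifs with hbk
    · subst hbk
      rw [Nat.testBit_shiftLeft, Nat.testBit_two_pow_sub_one]
      by_cases h1 : 2 ^ b ≤ i
      · by_cases h2 : i < 2 ^ (b + 1)
        · have h3 : i.testBit b = true := by
            obtain ⟨j, rfl⟩ := Nat.exists_eq_add_of_le h1
            rw [Nat.testBit_two_pow_add_eq, Nat.testBit_lt_two_pow (by omega)]; rfl
          have h4 : i - 2 ^ b < 2 ^ b := by omega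
          simp [h1, h2, h3, h4]
        · have h4 : ¬ (i - 2 ^ b < 2 ^ b) := by omega
          simp [h2, h4]
      · have h3 : i.testBit b = false := Nat.testBit_lt_two_pow (by omega)
        simp [h1, h3]
    · rw [Nat.testBit_or, Nat.testBit_shiftLeft, ih, ih]
      by_cases h1 : i < 2 ^ k
      · have h2 : ¬ (i ≥ 2 ^ k) := by omega
        have h3 : i < 2 ^ (k + 1) := by omega
        simp [h1, h2, h3]
      · have h2 : i ≥ 2 ^ k := by omega
        simp only [h1, decide_false, Bool.false_and, Bool.false_or, h2, decide_true, Bool.true_and]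
        by_cases h3 : i < 2 ^ (k + 1)
        · have h4 : i - 2 ^ k < 2 ^ k := by omega
          simp only [h3, h4, decide_true, Bool.true_and]
          obtain ⟨j, rfl⟩ := Nat.exists_eq_add_of_le h2
          rw [Nat.add_sub_cancel_left]
          rcases lt_or_gt_of_ne hbk with h5 | h5
          · rw [Nat.testBit_two_pow_add_gt h5]
          · rw [Nat.testBit_lt_two_pow (x := j) (by
              have : (2 : ℕ) ^ k < 2 ^ b := Nat.pow_lt_pow_right (by omega) h5
              omega), Nat.testBit_lt_two_pow (by
              have : (2 : ℕ) ^ (k + 1) ≤ 2 ^ b := Nat.pow_le_pow_right (by omega) h5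
              omega)]
        · have h4 : ¬ (i - 2 ^ k < 2 ^ k) := by omega
          simp [h3, h4]

/-- the bit vector of all positions `< n` -/
noncomputable def ones (n : ℕ) : ℕ := Nat.sub (Nat.pow (nat_lit 2) n) (nat_lit 1)

theorem ones_testBit (n i : ℕ) : (ones n).testBit i = decide (i < n) := by
  have : ones n = 2 ^ n - 1 := rfl
  rw [this, Nat.testBit_two_pow_sub_one]

/-- bit `b` of the labels `< n` -/
noncomputable def lab (n k b : ℕ) : ℕ := Nat.land (plane b k) (ones n)

theorem lab_testBit {n k : ℕ} (hn : n ≤ 2 ^ k) (b i : ℕ) : (lab n k b).testBit i = (decide (i < n) && i.testBit b) := by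
  have : lab n k b = plane b k &&& ones n := rfl
  rw [this, Nat.testBit_and, plane_testBit, ones_testBit]
  by_cases h : i < n
  · have h2 : i < 2 ^ k := by omega
    simp [h, h2]
  · simp [h]

/-- compare the action of two lists of networks on all label planes -/
noncomputable def eqK (us ws : List Nt) (n k : ℕ) (j : ℕ) : Bool :=
  Nat.rec (motive := fun _ => Bool) true (fun b ih =>
    N (lab n k b) fun v => runL us v fun a => runL ws v fun c => Bool.rec false ih (Nat.beq a c)) j

theorem eqK_sound {us ws : List Nt} {n k : ℕ} (j : ℕ) (h : eqK us ws n k j = true) :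
    ∀ b, b < j → apL us (lab n k b) = apL ws (lab n k b) := by
  induction j with
  | zero => intro b hb; omega
  | succ j ih =>
    have h1 : eqK us ws n k (j + 1) = N (lab n k j) fun v => runL us v fun a => runL ws v fun c =>
      Bool.rec false (eqK us ws n k j) (Nat.beq a c) := rfl
    rw [h1, N_eq, runL_eq, runL_eq] at h
    cases hb : Nat.beq (apL us (lab n k j)) (apL ws (lab n k j))
    · rw [hb] at h; exact absurd h (by simp)
    · rw [hb] at h
      intro b hbj
      rcases Nat.lt_succ_iff_lt_or_eq.1 hbj with hlt | rfl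
      · exact ih h b hlt
      · exact Nat.eq_of_beq_eq_true hb

/-- a network list preserving `{0, …, n-1}` -/
def Pres (n : ℕ) (us : List Nt) : Prop := ∀ i, i < n → posL us i < n

theorem eqK_pos {us ws : List Nt} {n k : ℕ} (hn : n ≤ 2 ^ k) (hu : ∀ t ∈ us, t.Ok) (hw : ∀ t ∈ ws, t.Ok)
    (hpu : Pres n us) (hpw : Pres n ws) (h : eqK us ws n k k = true) (i : ℕ) (hi : i < n) :
    posL us i = posL ws i := by
  apply Nat.eq_of_testBit_eq
  intro b
  by_cases hb : b < k
  · have h1 := eqK_sound k h b hb
    have h2 : (apL us (lab n k b)).testBit i = (apL ws (lab n k b)).testBit i := by rw [h1]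
    rw [apL_testBit us hu, apL_testBit ws hw, lab_testBit hn, lab_testBit hn] at h2
    simpa [hpu i hi, hpw i hi] using h2
  · have : (2 : ℕ) ^ k ≤ 2 ^ b := Nat.pow_le_pow_right (by omega) (by omega)
    rw [Nat.testBit_lt_two_pow (by have := hpu i hi; omega), Nat.testBit_lt_two_pow (by have := hpw i hi; omega)]

/-! ### Systems of letters -/

/-- the network of a letter -/
def net (L : List Nt) (y : ℕ) : Nt := L.getD y .nil

/-- the networks of a word, in the order of application to bit vectors -/
def nw (L : List Nt) (w : List ℕ) : List Nt := (w.map (net L)).reverse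

/-- tracing a word -/
def tr (L : List Nt) : List ℕ → ℕ → ℕ
  | [], i => i
  | y :: w, i => tr L w ((net L y).pos i)

theorem posL_append : ∀ (us ws : List Nt) (i : ℕ), posL (us ++ ws) i = posL us (posL ws i)
  | [], _, _ => rfl
  | t :: us, ws, i => by
    show t.pos (posL (us ++ ws) i) = t.pos (posL us (posL ws i))
    rw [posL_append us ws i]

theorem posL_nw (L : List Nt) (w : List ℕ) : ∀ i, posL (nw L w) i = tr L w i := by
  induction w with
  | nil => intro i; rfl
  | cons y w ih =>
    intro i
    have h1 : nw L (y :: w) = nw L w ++ [net L y] := by simp [nw]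
    rw [h1, posL_append, ih]
    rfl

/-- check that all the networks are fine and preserve `{0, …, n-1}` -/
noncomputable def sysOk (L : List Nt) (n : ℕ) : Bool :=
  N (ones n) fun o => List.rec (motive := fun _ => Bool) true
    (fun t _ ih => Bool.rec false (Bool.rec false ih (Nat.beq (t.ap o) o)) t.okb) L

theorem sysOk_sound {L : List Nt} {n : ℕ} (h : sysOk L n = true) :
    ∀ t ∈ L, t.Ok ∧ ∀ i, t.pos i < n ↔ i < n := by
  unfold sysOk at h
  rw [N_eq] at h
  induction L with
  | nil => intro t ht; simp at ht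
  | cons t0 L ih =>
    have h1 : (Bool.rec false (Bool.rec false (List.rec (motive := fun _ => Bool) true
      (fun t _ ih => Bool.rec false (Bool.rec false ih (Nat.beq (t.ap (ones n)) (ones n))) t.okb) L)
      (Nat.beq (t0.ap (ones n)) (ones n))) t0.okb : Bool) = true := h
    cases hb : t0.okb
    · rw [hb] at h1; exact absurd h1 (by simp)
    rw [hb] at h1
    cases hb2 : Nat.beq (t0.ap (ones n)) (ones n)
    · rw [hb2] at h1; exact absurd h1 (by simp)
    rw [hb2] at h1
    intro t ht
    rw [List.mem_cons] at ht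
    rcases ht with rfl | ht
    · have hok := Nt.ok_of_okb hb
      refine ⟨hok, fun i => ?_⟩
      have h2 := Nat.eq_of_beq_eq_true hb2
      have h3 : (t.ap (ones n)).testBit i = (ones n).testBit i := by rw [h2]
      rw [Nt.ap_testBit hok, ones_testBit, ones_testBit] at h3
      simpa using h3
    · exact ih h1 t ht

theorem net_mem {L : List Nt} {n : ℕ} (h : sysOk L n = true) (y : ℕ) :
    (net L y).Ok ∧ ∀ i, (net L y).pos i < n ↔ i < n := by
  unfold net
  by_cases hy : y < L.length
  · rw [List.getD_eq_getElem _ _ hy]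
    exact sysOk_sound h _ (List.getElem_mem _)
  · rw [List.getD_eq_default _ _ (by omega)]
    exact ⟨trivial, fun i => Iff.rfl⟩

theorem nw_ok {L : List Nt} {n : ℕ} (h : sysOk L n = true) (w : List ℕ) : ∀ t ∈ nw L w, t.Ok := by
  intro t ht
  simp only [nw, List.mem_reverse, List.mem_map] at ht
  obtain ⟨y, _, rfl⟩ := ht
  exact (net_mem h y).1

theorem tr_lt {L : List Nt} {n : ℕ} (h : sysOk L n = true) (w : List ℕ) : ∀ i, tr L w i < n ↔ i < n := by
  induction w with
  | nil => intro i; rfl
  | cons y w ih =>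
    intro i
    show tr L w ((net L y).pos i) < n ↔ i < n
    rw [ih, (net_mem h y).2]

/-- check that two words act in the same way -/
noncomputable def eqW (L : List Nt) (n k : ℕ) (u w : List ℕ) : Bool := eqK (nw L u) (nw L w) n k k

theorem eqW_sound {L : List Nt} {n k : ℕ} (h : sysOk L n = true) (hn : n ≤ 2 ^ k) {u w : List ℕ}
    (he : eqW L n k u w = true) (i : ℕ) (hi : i < n) : tr L u i = tr L w i := by
  rw [← posL_nw, ← posL_nw]
  exact eqK_pos hn (nw_ok h u) (nw_ok h w) (fun i hi => by rw [posL_nw]; exact (tr_lt h u i).2 hi)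
    (fun i hi => by rw [posL_nw]; exact (tr_lt h w i).2 hi) he i hi

/-- check a list of pairs of words -/
noncomputable def eqAll (L : List Nt) (n k : ℕ) (ps : List (List ℕ × List ℕ)) : Bool :=
  List.rec (motive := fun _ => Bool) true (fun p _ ih => Bool.rec false ih (eqW L n k p.1 p.2)) ps

theorem eqAll_sound {L : List Nt} {n k : ℕ} {ps : List (List ℕ × List ℕ)} (h : eqAll L n k ps = true) :
    ∀ p ∈ ps, eqW L n k p.1 p.2 = true := by
  induction ps with
  | nil => intro p hp; simp at hp
  | cons p0 ps ih =>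
    have h1 : (Bool.rec false (eqAll L n k ps) (eqW L n k p0.1 p0.2) : Bool) = true := h
    cases hb : eqW L n k p0.1 p0.2
    · rw [hb] at h1; exact absurd h1 (by simp)
    rw [hb] at h1
    intro p hp
    rw [List.mem_cons] at hp
    rcases hp with rfl | hp
    · exact hb
    · exact ih h1 p hp

/-! ### Breadth first search -/

/-- one round of the search with a list of networks -/
noncomputable def round (gs : List Nt) : ℕ → (ℕ → Bool) → Bool :=
  List.rec (motive := fun _ => ℕ → (ℕ → Bool) → Bool) (fun S k => k S)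
    (fun g _ ih S k => N (Nat.lor S (g.ap S)) fun S' => ih S' k) gs

/-- `r` rounds -/
noncomputable def bfs (gs : List Nt) (r : ℕ) : ℕ → (ℕ → Bool) → Bool :=
  Nat.rec (motive := fun _ => ℕ → (ℕ → Bool) → Bool) (fun S k => k S)
    (fun _ ih S k => round gs S fun S' => ih S' k) r

theorem round_sound {gs : List Nt} (hok : ∀ g ∈ gs, g.Ok) {P : ℕ → Prop}
    (hP : ∀ g ∈ gs, ∀ i, P (g.pos i) → P i) : ∀ (S : ℕ) (k : ℕ → Bool), (∀ i, S.testBit i = true → P i) →
    round gs S k = true → ∃ S', (∀ i, S'.testBit i = true → P i) ∧ k S' = true := by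
  induction gs with
  | nil => intro S k hS h; exact ⟨S, hS, h⟩
  | cons g gs ih =>
    intro S k hS h
    have h1 : round (g :: gs) S k = N (Nat.lor S (g.ap S)) fun S' => round gs S' k := rfl
    rw [h1, N_eq] at h
    refine ih (fun g hg => hok g (by simp [hg])) (fun g hg => hP g (by simp [hg])) _ k ?_ h
    intro i hi
    have h2 : (S ||| g.ap S).testBit i = true := hi
    rw [Nat.testBit_or, Nt.ap_testBit (hok g (by simp)), Bool.or_eq_true] at h2
    rcases h2 with h2 | h2
    · exact hS i h2
    · exact hP g (by simp) i (hS _ h2)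

theorem bfs_sound {gs : List Nt} (hok : ∀ g ∈ gs, g.Ok) {P : ℕ → Prop}
    (hP : ∀ g ∈ gs, ∀ i, P (g.pos i) → P i) (r : ℕ) : ∀ (S : ℕ) (k : ℕ → Bool),
    (∀ i, S.testBit i = true → P i) →
    bfs gs r S k = true → ∃ S', (∀ i, S'.testBit i = true → P i) ∧ k S' = true := by
  induction r with
  | zero => intro S k hS h; exact ⟨S, hS, h⟩
  | succ r ih =>
    intro S k hS h
    have h1 : bfs gs (r + 1) S k = round gs S fun S' => bfs gs r S' k := rfl
    rw [h1] at h
    obtain ⟨S', hS', h2⟩ := round_sound hok hP S _ hS h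
    exact ih S' k hS' h2

/-- check that the search from `c` by the letters `ys` reaches exactly the positions `a ≤ i < b` (at least) -/
noncomputable def reachIv (L : List Nt) (ys : List ℕ) (r c a b : ℕ) : Bool :=
  bfs (ys.map (net L)) r (Nat.pow (nat_lit 2) c) fun S =>
    Nat.beq (Nat.land S (Nat.sub (Nat.pow (nat_lit 2) b) (Nat.pow (nat_lit 2) a)))
      (Nat.sub (Nat.pow (nat_lit 2) b) (Nat.pow (nat_lit 2) a))

theorem iv_testBit {a b : ℕ} (h : a ≤ b) (i : ℕ) : (2 ^ b - 2 ^ a).testBit i = decide (a ≤ i ∧ i < b) := by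
  have h1 : 2 ^ b - 2 ^ a = (2 ^ (b - a) - 1) <<< a := by
    rw [Nat.shiftLeft_eq, Nat.sub_mul, one_mul, ← pow_add]
    congr 2
    omega
  rw [h1, Nat.testBit_shiftLeft, Nat.testBit_two_pow_sub_one]
  by_cases h2 : a ≤ i
  · simp only [ge_iff_le, h2, decide_true, Bool.true_and, true_and]
    congr 1
    apply propext
    omega
  · simp [h2]

theorem reachIv_sound {L : List Nt} {n : ℕ} (h : sysOk L n = true) {ys : List ℕ} {r c a b : ℕ}
    (hab : a ≤ b) (hr : reachIv L ys r c a b = true) {P : ℕ → Prop} (hc : P c)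
    (hP : ∀ y ∈ ys, ∀ i, P ((net L y).pos i) → P i) : ∀ i, a ≤ i → i < b → P i := by
  unfold reachIv at hr
  obtain ⟨S, hS, h1⟩ := bfs_sound (gs := ys.map (net L)) (P := P) (fun g hg => by
      rw [List.mem_map] at hg; obtain ⟨y, _, rfl⟩ := hg; exact (net_mem h y).1)
    (fun g hg => by rw [List.mem_map] at hg; obtain ⟨y, hy, rfl⟩ := hg; exact hP y hy) r _ _ (by
      intro i hi
      have h2 : (2 ^ c).testBit i = true := hi
      rw [Nat.testBit_two_pow] at h2
      have : c = i := by simpa using h2
      rw [← this]; exact hc) hr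
  intro i hia hib
  apply hS
  have h2 := Nat.eq_of_beq_eq_true h1
  have h3 : S &&& (2 ^ b - 2 ^ a) = 2 ^ b - 2 ^ a := h2
  have h4 : (S &&& (2 ^ b - 2 ^ a)).testBit i = true := by
    rw [h3, iv_testBit hab]; simp [hia, hib]
  rw [Nat.testBit_and, Bool.and_eq_true] at h4
  exact h4.1

/-- check that the interval `[a, b)` is invariant under the letters `ys` -/
noncomputable def invIv (L : List Nt) (ys : List ℕ) (a b : ℕ) : Bool :=
  N (Nat.sub (Nat.pow (nat_lit 2) b) (Nat.pow (nat_lit 2) a)) fun v =>
    List.rec (motive := fun _ => Bool) true (fun y _ ih => Bool.rec false ih (Nat.beq ((net L y).ap v) v)) ys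

theorem invIv_sound {L : List Nt} {n : ℕ} (h : sysOk L n = true) {ys : List ℕ} {a b : ℕ}
    (hab : a ≤ b) (hr : invIv L ys a b = true) :
    ∀ y ∈ ys, ∀ i, (a ≤ (net L y).pos i ∧ (net L y).pos i < b) ↔ (a ≤ i ∧ i < b) := by
  unfold invIv at hr
  rw [N_eq] at hr
  induction ys with
  | nil => intro y hy; simp at hy
  | cons y0 ys ih =>
    have h1 : (Bool.rec false (List.rec (motive := fun _ => Bool) true (fun y _ ih => Bool.rec false ih
      (Nat.beq ((net L y).ap (2 ^ b - 2 ^ a)) (2 ^ b - 2 ^ a))) ys)
      (Nat.beq ((net L y0).ap (2 ^ b - 2 ^ a)) (2 ^ b - 2 ^ a)) : Bool) = true := hr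
    cases hb : Nat.beq ((net L y0).ap (2 ^ b - 2 ^ a)) (2 ^ b - 2 ^ a)
    · rw [hb] at h1; exact absurd h1 (by simp)
    rw [hb] at h1
    intro y hy
    rw [List.mem_cons] at hy
    rcases hy with rfl | hy
    · intro i
      have h2 := Nat.eq_of_beq_eq_true hb
      have h3 : ((net L y).ap (2 ^ b - 2 ^ a)).testBit i = (2 ^ b - 2 ^ a).testBit i := by rw [h2]
      rw [Nt.ap_testBit (net_mem h y).1, iv_testBit hab, iv_testBit hab] at h3
      exact decide_eq_decide.1 h3
    · exact ih h1 y hy

/-! ### Counting -/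

/-- number of ones among the first `2^k` bits -/
noncomputable def pc (k : ℕ) : ℕ → ℕ :=
  Nat.rec (motive := fun _ => ℕ → ℕ) (fun v => Nat.land v (nat_lit 1))
    (fun k ih v => Nat.add (ih (Nat.land v (Nat.sub (Nat.pow (nat_lit 2) (Nat.pow (nat_lit 2) k)) (nat_lit 1))))
      (ih (Nat.shiftRight v (Nat.pow (nat_lit 2) k)))) k

theorem pc_eq (k : ℕ) : ∀ v, pc k v = ((Finset.range (2 ^ k)).filter fun i => v.testBit i = true).card := by
  induction k with
  | zero =>
    intro v
    have h1 : pc 0 v = v &&& 1 := rfl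
    rw [h1, Nat.and_one_is_mod]
    have h2 : Finset.range (2 ^ 0) = {0} := rfl
    rw [h2, Finset.filter_singleton, Nat.testBit_zero]
    rcases Nat.mod_two_eq_zero_or_one v with h | h <;> simp [h]
  | succ k ih =>
    intro v
    have h1 : pc (k + 1) v = pc k (v &&& (2 ^ 2 ^ k - 1)) + pc k (v >>> (2 ^ k)) := rfl
    rw [h1, ih, ih]
    have h2 : ((Finset.range (2 ^ k)).filter fun i => (v &&& (2 ^ 2 ^ k - 1)).testBit i = true) =
        (Finset.range (2 ^ k)).filter fun i => v.testBit i = true := by
      apply Finset.filter_congr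
      intro i hi
      rw [Finset.mem_range] at hi
      rw [Nat.testBit_and, Nat.testBit_two_pow_sub_one]
      simp [hi]
    rw [h2]
    have h3 : (Finset.range (2 ^ (k + 1))).filter (fun i => v.testBit i = true) =
        ((Finset.range (2 ^ k)).filter fun i => v.testBit i = true) ∪
        (((Finset.range (2 ^ k)).filter fun i => (v >>> (2 ^ k)).testBit i = true).map
          ⟨fun i => 2 ^ k + i, fun a b hab => by simpa using hab⟩) := by
      ext i
      simp only [Finset.mem_filter, Finset.mem_range, Finset.mem_union, Finset.mem_map]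
      have hp : (2 : ℕ) ^ (k + 1) = 2 ^ k + 2 ^ k := by rw [pow_succ]; omega
      constructor
      · rintro ⟨h4, h5⟩
        by_cases h6 : i < 2 ^ k
        · exact Or.inl ⟨h6, h5⟩
        · have e2 : 2 ^ k + (i - 2 ^ k) = i := by omega
          refine Or.inr ⟨i - 2 ^ k, ⟨by omega, ?_⟩, e2⟩
          rw [Nat.testBit_shiftRight, e2]; exact h5
      · rintro (⟨h4, h5⟩ | ⟨j, ⟨h4, h5⟩, h6⟩)
        · exact ⟨by omega, h5⟩
        · have h7 : 2 ^ k + j = i := h6
          subst h7
          rw [Nat.testBit_shiftRight] at h5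
          exact ⟨by omega, h5⟩
    rw [h3, Finset.card_union_of_disjoint, Finset.card_map]
    rw [Finset.disjoint_left]
    intro i hi hi'
    simp only [Finset.mem_filter, Finset.mem_range, Finset.mem_map] at hi hi'
    obtain ⟨j, _, h6⟩ := hi'
    have h7 : 2 ^ k + j = i := h6
    omega

/-- the search from `c` reaches at least `m` positions -/
noncomputable def reachN (L : List Nt) (ys : List ℕ) (r c k m : ℕ) : Bool :=
  bfs (ys.map (net L)) r (Nat.pow (nat_lit 2) c) fun S => Nat.ble m (pc k S)

theorem reachN_sound {L : List Nt} {n : ℕ} (h : sysOk L n = true) {ys : List ℕ} {r c k m : ℕ}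
    (hr : reachN L ys r c k m = true) {P : ℕ → Prop} (hc : P c)
    (hP : ∀ y ∈ ys, ∀ i, P ((net L y).pos i) → P i) : ∃ F : Finset ℕ, m ≤ F.card ∧ ∀ i ∈ F, P i := by
  unfold reachN at hr
  obtain ⟨S, hS, h1⟩ := bfs_sound (gs := ys.map (net L)) (P := P) (fun g hg => by
      rw [List.mem_map] at hg; obtain ⟨y, _, rfl⟩ := hg; exact (net_mem h y).1)
    (fun g hg => by rw [List.mem_map] at hg; obtain ⟨y, hy, rfl⟩ := hg; exact hP y hy) r _ _ (by
      intro i hi
      have h2 : (2 ^ c).testBit i = true := hi
      rw [Nat.testBit_two_pow] at h2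
      have : c = i := by simpa using h2
      rw [← this]; exact hc) hr
  refine ⟨(Finset.range (2 ^ k)).filter fun i => S.testBit i = true, ?_, ?_⟩
  · rw [← pc_eq]; exact Nat.le_of_ble_eq_true h1
  · intro i hi
    rw [Finset.mem_filter] at hi
    exact hS i hi.2

/-- letters fixing positions: for every pair `(ys, c)` all the letters in `ys` fix `c` -/
noncomputable def fixP (L : List Nt) (ys : List ℕ) (cs : List ℕ) : Bool :=
  List.rec (motive := fun _ => Bool) true (fun c _ ih =>
    N (Nat.pow (nat_lit 2) c) fun v => Bool.rec false ih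
      (List.rec (motive := fun _ => Bool) true (fun y _ ih => Bool.rec false ih (Nat.beq ((net L y).ap v) v)) ys)) cs

theorem fixP_sound {L : List Nt} {n : ℕ} (h : sysOk L n = true) {ys cs : List ℕ}
    (hr : fixP L ys cs = true) : ∀ c ∈ cs, ∀ y ∈ ys, (net L y).pos c = c := by
  induction cs with
  | nil => intro c hc; simp at hc
  | cons c0 cs ih =>
    have h1 : fixP L ys (c0 :: cs) = N (Nat.pow (nat_lit 2) c0) fun v => Bool.rec false (fixP L ys cs)
      (List.rec (motive := fun _ => Bool) true
        (fun y _ ih => Bool.rec false ih (Nat.beq ((net L y).ap v) v)) ys) := rfl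
    rw [h1, N_eq] at hr
    generalize hb0 : (List.rec (motive := fun _ => Bool) true
        (fun y _ ih => Bool.rec false ih (Nat.beq ((net L y).ap (Nat.pow (nat_lit 2) c0)) (Nat.pow (nat_lit 2) c0))) ys : Bool)
        = bb at hr
    cases bb
    · exact absurd hr (by simp)
    intro c hc
    rw [List.mem_cons] at hc
    rcases hc with rfl | hc
    · clear hr ih h1
      induction ys with
      | nil => intro y hy; simp at hy
      | cons y0 ys ih =>
        have h2 : (Bool.rec false (List.rec (motive := fun _ => Bool) true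
          (fun y _ ih => Bool.rec false ih (Nat.beq ((net L y).ap (Nat.pow (nat_lit 2) c)) (Nat.pow (nat_lit 2) c))) ys)
          (Nat.beq ((net L y0).ap (Nat.pow (nat_lit 2) c)) (Nat.pow (nat_lit 2) c)) : Bool) = true := hb0
        cases hb : Nat.beq ((net L y0).ap (Nat.pow (nat_lit 2) c)) (Nat.pow (nat_lit 2) c)
        · rw [hb] at h2; exact absurd h2 (by simp)
        rw [hb] at h2
        intro y hy
        rw [List.mem_cons] at hy
        rcases hy with rfl | hy
        · have h3 : (net L y).ap (2 ^ c) = 2 ^ c := Nat.eq_of_beq_eq_true hb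
          -- the preimage of `c`: use injectivity on the singleton
          have h4 : ((net L y).ap (2 ^ c)).testBit c = (2 ^ c : ℕ).testBit c := by rw [h3]
          rw [Nt.ap_testBit (net_mem h y).1, Nat.testBit_two_pow, Nat.testBit_two_pow] at h4
          have h5 : c = (net L y).pos c := by simpa using h4
          exact h5.symm
        · exact ih h2 y hy
    · exact ih hr c hc

end Cfsg.Agent.H8.Net
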