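import Cfsg.Agent.H8_CS2
import Cfsg.Agent.H8_ON1T_P0
import Cfsg.Agent.H8_ON1T_P1
import Cfsg.Agent.H8_ON1T_P2
import Cfsg.Agent.H8_ON1T_P3
import Cfsg.Agent.H8_ON1T_P4
import Cfsg.Agent.H8_ON1T_P5
import Cfsg.Agent.H8_ON1T_P6
import Cfsg.Agent.H8_ON1T_P7
import Cfsg.Agent.H8_ON1T_P8
import Cfsg.Agent.H8_ON1T_P9
import Cfsg.Agent.H8_ON1T_P10
import Cfsg.Agent.H8_ON1T_P11
import Cfsg.Agent.H8_ON1T_P12
import Cfsg.Agent.H8_ON1T_P13
import Cfsg.Agent.H8_ON1T_P14
import Cfsg.Agent.H8_ON1T_P15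
import Cfsg.Agent.H8_ON1T_P16
import Cfsg.Agent.H8_ON1T_P17
import Cfsg.Agent.H8_ON1T_P18
import Cfsg.Agent.H8_ON1T_P19
import Cfsg.Agent.H8_ON1T_P20
import Cfsg.Agent.H8_ON1T_P21
import Cfsg.Agent.H8_ON1T_P22
import Cfsg.Agent.H8_ON1T_P23
import Cfsg.Agent.H8_ON1T_P24
import Cfsg.Agent.H8_ON1T_P25
import Cfsg.Agent.H8_ON1T_P26
import Cfsg.Agent.H8_ON1T_P27
import Cfsg.Agent.H8_ON1T_P28
import Cfsg.Agent.H8_ON1T_P29
import Cfsg.Agent.H8_ON1T_P30
import Cfsg.Agent.H8_ON1T_P31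
import Cfsg.Agent.H8_ON1T_P32
import Cfsg.Agent.H8_ON1T_P33
import Cfsg.Agent.H8_ON1T_P34
import Cfsg.Agent.H8_ON1T_P35
import Cfsg.Agent.H8_ON1T_P36
import Cfsg.Agent.H8_ON1T_P37
import Cfsg.Agent.H8_ON1T_P38
import Cfsg.Agent.H8_ON1T_P39
import Cfsg.Agent.H8_ON1T_P40
import Cfsg.Agent.H8_ON1T_P41
import Cfsg.Agent.H8_ON1T_P42
import Cfsg.Agent.H8_ON1T_P43
import Cfsg.Agent.H8_ON1T_P44
import Cfsg.Agent.H8_ON1T_P45
import Cfsg.Agent.H8_ON1T_P46
import Cfsg.Agent.H8_ON1T_P47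
import Cfsg.Agent.H8_ON1T_C0
import Cfsg.Agent.H8_ON1T_C1
import Cfsg.Agent.H8_ON1T_C2
import Cfsg.Agent.H8_ON1T_C3
import Cfsg.Agent.H8_ON1T_C4
import Cfsg.Agent.H8_ON1T_C5
import Cfsg.Agent.H8_ON1T_C6
import Cfsg.Agent.H8_ON1T_C7
import Cfsg.Agent.H8_ON1T_C8
import Cfsg.Agent.H8_ON1T_C9
import Cfsg.Agent.H8_ON1T_C10
import Cfsg.Agent.H8_ON1T_C11
import Cfsg.Agent.H8_ON1T_C12
import Cfsg.Agent.H8_ON1T_C13
import Cfsg.Agent.H8_ON1T_C14
import Cfsg.Agent.H8_ON1T_C15

set_option autoImplicit false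
set_option maxRecDepth 1000000

namespace Cfsg.Agent.H8.ON1T

open CE CS

theorem facts_ok {G : Type*} [Group G] {x : ℕ → G} {H : Subgroup G}
    (hic : ∀ y, y < 16 → x (il ic y) = (x y)⁻¹) (h0 : x 0 = 1) (hrels : ∀ w ∈ rels, ev x w = 1)
    (hst : ∀ g, g < (nat_lit 193123) + L.length → VF H x (rho x S) (nat_lit 193123) S g) :
    ∀ g, g < (nat_lit 743725) → VF H x (rho x S) (nat_lit 193123) S g := by
  have hv : rt.Valid x ic := RS.valid_of_chk hic h0 (relsAll_ok hic rels_lt hrels) rt rt_chk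
  have hn : (nat_lit 193123) ≤ 1048576 := Nat.le_of_ble_eq_true (by decide)
  have g0 : ∀ g, g < (nat_lit 193129) → VF H x (rho x S) (nat_lit 193123) S g := hst

  have g1 := dedProg_sound (H := H) (ρ := rho x S) hic hn hv prog0 g0
  have g2 := dedProg_sound (H := H) (ρ := rho x S) hic hn hv prog1 g1
  have g3 := dedProg_sound (H := H) (ρ := rho x S) hic hn hv prog2 g2
  have g4 := dedProg_sound (H := H) (ρ := rho x S) hic hn hv prog3 g3
  have g5 := dedProg_sound (H := H) (ρ := rho x S) hic hn hv prog4 g4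
  have g6 := dedProg_sound (H := H) (ρ := rho x S) hic hn hv prog5 g5
  have g7 := dedProg_sound (H := H) (ρ := rho x S) hic hn hv prog6 g6
  have g8 := dedProg_sound (H := H) (ρ := rho x S) hic hn hv prog7 g7
  have g9 := dedProg_sound (H := H) (ρ := rho x S) hic hn hv prog8 g8
  have g10 := dedProg_sound (H := H) (ρ := rho x S) hic hn hv prog9 g9
  have g11 := dedProg_sound (H := H) (ρ := rho x S) hic hn hv prog10 g10
  have g12 := dedProg_sound (H := H) (ρ := rho x S) hic hn hv prog11 g11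
  have g13 := dedProg_sound (H := H) (ρ := rho x S) hic hn hv prog12 g12
  have g14 := dedProg_sound (H := H) (ρ := rho x S) hic hn hv prog13 g13
  have g15 := dedProg_sound (H := H) (ρ := rho x S) hic hn hv prog14 g14
  have g16 := dedProg_sound (H := H) (ρ := rho x S) hic hn hv prog15 g15
  have g17 := dedProg_sound (H := H) (ρ := rho x S) hic hn hv prog16 g16
  have g18 := dedProg_sound (H := H) (ρ := rho x S) hic hn hv prog17 g17
  have g19 := dedProg_sound (H := H) (ρ := rho x S) hic hn hv prog18 g18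
  have g20 := dedProg_sound (H := H) (ρ := rho x S) hic hn hv prog19 g19
  have g21 := dedProg_sound (H := H) (ρ := rho x S) hic hn hv prog20 g20
  have g22 := dedProg_sound (H := H) (ρ := rho x S) hic hn hv prog21 g21
  have g23 := dedProg_sound (H := H) (ρ := rho x S) hic hn hv prog22 g22
  have g24 := dedProg_sound (H := H) (ρ := rho x S) hic hn hv prog23 g23
  have g25 := dedProg_sound (H := H) (ρ := rho x S) hic hn hv prog24 g24
  have g26 := dedProg_sound (H := H) (ρ := rho x S) hic hn hv prog25 g25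
  have g27 := dedProg_sound (H := H) (ρ := rho x S) hic hn hv prog26 g26
  have g28 := dedProg_sound (H := H) (ρ := rho x S) hic hn hv prog27 g27
  have g29 := dedProg_sound (H := H) (ρ := rho x S) hic hn hv prog28 g28
  have g30 := dedProg_sound (H := H) (ρ := rho x S) hic hn hv prog29 g29
  have g31 := dedProg_sound (H := H) (ρ := rho x S) hic hn hv prog30 g30
  have g32 := dedProg_sound (H := H) (ρ := rho x S) hic hn hv prog31 g31
  have g33 := dedProg_sound (H := H) (ρ := rho x S) hic hn hv prog32 g32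
  have g34 := dedProg_sound (H := H) (ρ := rho x S) hic hn hv prog33 g33
  have g35 := dedProg_sound (H := H) (ρ := rho x S) hic hn hv prog34 g34
  have g36 := dedProg_sound (H := H) (ρ := rho x S) hic hn hv prog35 g35
  have g37 := dedProg_sound (H := H) (ρ := rho x S) hic hn hv prog36 g36
  have g38 := dedProg_sound (H := H) (ρ := rho x S) hic hn hv prog37 g37
  have g39 := dedProg_sound (H := H) (ρ := rho x S) hic hn hv prog38 g38
  have g40 := dedProg_sound (H := H) (ρ := rho x S) hic hn hv prog39 g39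
  have g41 := dedProg_sound (H := H) (ρ := rho x S) hic hn hv prog40 g40
  have g42 := dedProg_sound (H := H) (ρ := rho x S) hic hn hv prog41 g41
  have g43 := dedProg_sound (H := H) (ρ := rho x S) hic hn hv prog42 g42
  have g44 := dedProg_sound (H := H) (ρ := rho x S) hic hn hv prog43 g43
  have g45 := dedProg_sound (H := H) (ρ := rho x S) hic hn hv prog44 g44
  have g46 := dedProg_sound (H := H) (ρ := rho x S) hic hn hv prog45 g45
  have g47 := dedProg_sound (H := H) (ρ := rho x S) hic hn hv prog46 g46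
  have g48 := dedProg_sound (H := H) (ρ := rho x S) hic hn hv prog47 g47
  exact g48

theorem bound {G : Type*} [Group G] {x : ℕ → G} {H : Subgroup G}
    (hic : ∀ y, y < 16 → x (il ic y) = (x y)⁻¹) (h0 : x 0 = 1) (hrels : ∀ w ∈ rels, ev x w = 1)
    (hL : ∀ s ∈ L, x s ∈ H) :
    H.relIndex (Subgroup.closure (x '' {y | 1 ≤ y ∧ y ≤ 8})) ≤ 122760 ∧
      H.relIndex (Subgroup.closure (x '' {y | 1 ≤ y ∧ y ≤ 8})) ≠ 0 :=
  bound_of2 (k := 8) (n := 122760) (kk := 18) hic h0 hL (by decide) (by decide) (by decide) (by decide) (by decide) lets_ok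
    s0 defs ini (facts_ok hic h0 hrels) (fun hf hic0 hl hk hn h => cloProg_sound hic h0 hic0 hn hf hl hk clo15 (cloProg_sound hic h0 hic0 hn hf hl hk clo14 (cloProg_sound hic h0 hic0 hn hf hl hk clo13 (cloProg_sound hic h0 hic0 hn hf hl hk clo12 (cloProg_sound hic h0 hic0 hn hf hl hk clo11 (cloProg_sound hic h0 hic0 hn hf hl hk clo10 (cloProg_sound hic h0 hic0 hn hf hl hk clo9 (cloProg_sound hic h0 hic0 hn hf hl hk clo8 (cloProg_sound hic h0 hic0 hn hf hl hk clo7 (cloProg_sound hic h0 hic0 hn hf hl hk clo6 (cloProg_sound hic h0 hic0 hn hf hl hk clo5 (cloProg_sound hic h0 hic0 hn hf hl hk clo4 (cloProg_sound hic h0 hic0 hn hf hl hk clo3 (cloProg_sound hic h0 hic0 hn hf hl hk clo2 (cloProg_sound hic h0 hic0 hn hf hl hk clo1 (cloProg_sound hic h0 hic0 hn hf hl hk clo0 (h)))))))))))))))))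

end Cfsg.Agent.H8.ON1T
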