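import Cfsg.Agent.H8_ONA_G
import Cfsg.Agent.H8_ONA_H

/-! Networks and their checks. -/
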