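import Cfsg.Agent.H8_ONA_L

set_option autoImplicit false
set_option maxRecDepth 1000000

namespace Cfsg.Agent.H8.ONA

open CE Net Act Act4 Act5

def c0 : List (List ℕ × List ℕ) := [([0, 0], []), ([1, 2], []), ([2, 1], []), ([3, 3], []), ([4, 4], []), ([5, 5], []), ([6, 6], []), ([7, 7], []), ([8, 8], []), ([9, 0], []), ([0, 9], []), ([10, 0], []), ([0, 10], []), ([11, 0], []), ([0, 11], []), ([12, 0], []), ([0, 12], []), ([13, 0], []), ([0, 13], []), ([14, 0], [])]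

def c1 : List (List ℕ × List ℕ) := [([0, 14], []), ([15, 0], []), ([0, 15], []), ([3, 4, 3, 4, 3, 4], []), ([3, 5, 3, 5], []), ([3, 6, 3, 6], []), ([3, 7, 3, 7], []), ([3, 8, 3, 8], []), ([4, 5, 4, 5, 4, 5], []), ([4, 6, 4, 6], [])]

def c2 : List (List ℕ × List ℕ) := [([4, 7, 4, 7], []), ([4, 8, 4, 8], []), ([5, 6, 5, 6, 5, 6, 5, 6, 5, 6, 5, 6, 5, 6, 5, 6], []), ([5, 7, 5, 7], []), ([5, 8, 5, 8], []), ([6, 7, 6, 7, 6, 7], [])]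

def c3 : List (List ℕ × List ℕ) := [([6, 8, 6, 8], []), ([7, 8, 7, 8, 7, 8], []), ([3, 8, 2, 2], []), ([3, 8, 6, 5, 6, 5, 6, 5, 6, 5], []), ([5, 2, 6, 2, 6, 5, 6, 1, 6, 1], [])]

def c4 : List (List ℕ × List ℕ) := [([6, 2, 5, 2, 5, 6, 5, 1, 5, 1], []), ([4, 5, 6, 1, 4, 5, 6, 1, 4, 5, 6, 1, 4, 5, 6, 1, 4, 5, 6, 1], [])]

def c5 : List (List ℕ × List ℕ) := [([1, 4, 5, 1, 5, 4, 1, 4, 5, 1, 5], []), ([1, 7, 6, 1, 6, 7, 1, 7, 6, 1, 6], [])]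

def c6 : List (List ℕ × List ℕ) := [([16], [6, 7, 5, 6, 4, 8, 3, 5, 8, 2, 6, 8, 4, 5, 8, 6, 1, 8, 5, 3, 8, 4, 6, 5, 7, 6]), ([17], [16, 16])]

def c7 : List (List ℕ × List ℕ) := [([18], [6, 5, 2, 4, 2, 5, 7, 8, 6, 5, 7, 2, 6, 4, 1, 4, 6, 1, 7, 5, 6, 8, 7, 5, 1, 4, 1, 5, 6]), ([19], [18, 18, 18])]

def c8 : List (List ℕ × List ℕ) := [([20], [4, 3, 5, 1, 4, 6, 1, 7, 8, 3]), ([21], [3, 8, 7, 2, 6, 4, 2, 5, 3, 4, 5]), ([16, 16, 16], []), ([5, 16, 5, 16, 5, 16, 5, 16, 5, 16, 5, 16, 5, 16], [])]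

def c9 : List (List ℕ × List ℕ) := [([5, 16, 5, 16, 5, 17, 5, 16, 5, 17, 5, 16, 5, 17, 5, 16, 5, 16, 5, 17, 5, 16, 5, 17, 5, 16, 5, 17, 5, 16, 5, 16, 5, 17, 5, 16, 5, 17, 5, 16, 5, 17, 5, 16, 5, 16, 5, 17, 5, 16, 5, 17, 5, 16, 5, 17, 5, 16, 5, 16, 5, 17, 5, 16, 5, 17, 5, 16, 5, 17], [])]

def c10 : List (List ℕ × List ℕ) := [([5, 16, 5, 16, 5, 17, 5, 16, 5, 17, 5, 16, 5, 17, 5, 16, 5, 17, 5, 16, 5, 17, 5, 16, 5, 17, 5, 16, 5, 16, 5, 17, 5, 17, 5, 16, 5, 16, 5, 17, 5, 16, 5, 17, 5, 16, 5, 17, 5, 16, 5, 17, 5, 16, 5, 17, 5, 16, 5, 17, 5, 16, 5, 16, 5, 17, 5, 17], [])]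

def c11 : List (List ℕ × List ℕ) := [([18, 18, 18, 18], []), ([5, 18, 5, 18, 5, 18, 5, 18, 5, 18, 5, 18, 5, 18, 5, 18, 5, 18, 5, 18, 5, 18], [])]

def c12 : List (List ℕ × List ℕ) := [([5, 18, 18, 5, 18, 18, 5, 18, 18, 5, 18, 18, 5, 18, 18, 5, 18, 18], []), ([5, 18, 5, 18, 5, 19, 5, 18, 5, 18, 18, 5, 19, 5, 18, 5, 19, 5, 19], []), ([16, 17], [])]

def c13 : List (List ℕ × List ℕ) := [([17, 16], []), ([18, 19], []), ([19, 18], []), ([20, 20, 20, 20, 20, 20, 20, 20, 20, 20, 20], []), ([21, 21, 21, 21, 21, 21, 21, 21, 21, 21, 21], []), ([5], [20, 21])]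

end Cfsg.Agent.H8.ONA
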