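import Cfsg.Agent.H8_ONA_E0
import Cfsg.Agent.H8_ONA_E1
import Cfsg.Agent.H8_ONA_E2
import Cfsg.Agent.H8_ONA_E3
import Cfsg.Agent.H8_ONA_E4
import Cfsg.Agent.H8_ONA_E5
import Cfsg.Agent.H8_ONA_E6
import Cfsg.Agent.H8_ONA_E7
import Cfsg.Agent.H8_ONA_E8
import Cfsg.Agent.H8_ONA_E9
import Cfsg.Agent.H8_ONA_E10
import Cfsg.Agent.H8_ONA_E11
import Cfsg.Agent.H8_ONA_E12
import Cfsg.Agent.H8_ONA_E13
import Cfsg.Agent.H8_ONR

set_option autoImplicit false
set_option maxRecDepth 1000000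

namespace Cfsg.Agent.H8.ONA

open CE Net Act Act4 Act5

theorem g0 : Good L (nat_lit 122760) (nat_lit 17) c0 := good_of_eqR e0_0

theorem g1 : Good L (nat_lit 122760) (nat_lit 17) c1 := good_of_eqR e1_0

theorem g2 : Good L (nat_lit 122760) (nat_lit 17) c2 := good_of_eqR e2_0

theorem g3 : Good L (nat_lit 122760) (nat_lit 17) c3 := good_of_eqR e3_0

theorem g4 : Good L (nat_lit 122760) (nat_lit 17) c4 := good_of_eqR e4_0

theorem g5 : Good L (nat_lit 122760) (nat_lit 17) c5 := good_of_eqR e5_0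

theorem g6 : Good L (nat_lit 122760) (nat_lit 17) c6 := good_of_eqR e6_0

theorem g7 : Good L (nat_lit 122760) (nat_lit 17) c7 := good_of_eqR e7_0

theorem g8 : Good L (nat_lit 122760) (nat_lit 17) c8 := good_of_eqR e8_0

theorem g9 : Good L (nat_lit 122760) (nat_lit 17) c9 := good_of_plEq (plEq_trans (plEq_of e9_0) (plEq_of e9_9))

theorem g10 : Good L (nat_lit 122760) (nat_lit 17) c10 := good_of_plEq (plEq_trans (plEq_of e10_0) (plEq_of e10_9))

theorem g11 : Good L (nat_lit 122760) (nat_lit 17) c11 := good_of_eqR e11_0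

theorem g12 : Good L (nat_lit 122760) (nat_lit 17) c12 := good_of_eqR e12_0

theorem g13 : Good L (nat_lit 122760) (nat_lit 17) c13 := good_of_eqR e13_0

/-- all the pairs -/
def allc : List (List ℕ × List ℕ) := c0 ++ (c1 ++ (c2 ++ (c3 ++ (c4 ++ (c5 ++ (c6 ++ (c7 ++ (c8 ++ (c9 ++ (c10 ++ (c11 ++ (c12 ++ (c13)))))))))))))

theorem good : Good L (nat_lit 122760) (nat_lit 17) allc := good_append g0 (good_append g1 (good_append g2 (good_append g3 (good_append g4 (good_append g5 (good_append g6 (good_append g7 (good_append g8 (good_append g9 (good_append g10 (good_append g11 (good_append g12 (g13)))))))))))))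

theorem inv_ok : invOk L (nat_lit 122760) (nat_lit 17) Cfsg.Agent.H8.ONR.ic = true := eqAll_of_good good (by decide +kernel)

theorem crels_good : Good L (nat_lit 122760) (nat_lit 17) (Cfsg.Agent.H8.ONR.rels.map fun w => (w, [])) := good_mono good (by decide +kernel)

/-- words of the auxiliary letters -/
def sg : List (List ℕ) := [[6, 7, 5, 6, 4, 8, 3, 5, 8, 2, 6, 8, 4, 5, 8, 6, 1, 8, 5, 3, 8, 4, 6, 5, 7, 6],
  [16, 16],
  [6, 5, 2, 4, 2, 5, 7, 8, 6, 5, 7, 2, 6, 4, 1, 4, 6, 1, 7, 5, 6, 8, 7, 5, 1, 4, 1, 5, 6],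
  [18, 18, 18],
  [4, 3, 5, 1, 4, 6, 1, 7, 8, 3],
  [3, 8, 7, 2, 6, 4, 2, 5, 3, 4, 5]]

theorem crels_ex : Cfsg.Agent.H8.ONR.rels.map (ex1 sg) = Cfsg.Agent.H8.ONR.rels := by decide +kernel

theorem sg_ok : sgB L (nat_lit 122760) (nat_lit 17) sg 16 = true := sgB_of 16 (good_mono good (by decide +kernel)) (by decide +kernel)

theorem sg_len : Nat.ble L.length (16 + sg.length) = true := by decide +kernel

/-- elements of order `p` -/
def pws : List (ℕ × ℕ × ℕ) := [(5, 20, 21)]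

theorem pw_ok : Good L (nat_lit 122760) (nat_lit 17) (pwPairs 11 pws) := good_mono good (by decide +kernel)

/-- relators of a subgroup of order 175560 -/
def j1r : List (List ℕ) := [[5, 5],
  [16, 16, 16],
  [5, 16, 5, 16, 5, 16, 5, 16, 5, 16, 5, 16, 5, 16],
  [5, 16, 5, 16, 5, 17, 5, 16, 5, 17, 5, 16, 5, 17, 5, 16, 5, 16, 5, 17, 5, 16, 5, 17, 5, 16, 5, 17, 5, 16, 5, 16, 5, 17, 5, 16, 5, 17, 5, 16, 5, 17, 5, 16, 5, 16, 5, 17, 5, 16, 5, 17, 5, 16, 5, 17, 5, 16, 5, 16, 5, 17, 5, 16, 5, 17, 5, 16, 5, 17],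
  [5, 16, 5, 16, 5, 17, 5, 16, 5, 17, 5, 16, 5, 17, 5, 16, 5, 17, 5, 16, 5, 17, 5, 16, 5, 17, 5, 16, 5, 16, 5, 17, 5, 17, 5, 16, 5, 16, 5, 17, 5, 16, 5, 17, 5, 16, 5, 17, 5, 16, 5, 17, 5, 16, 5, 17, 5, 16, 5, 17, 5, 16, 5, 16, 5, 17, 5, 17],
  [16, 17]]

theorem j1_good : Good L (nat_lit 122760) (nat_lit 17) (j1r.map fun w => (w, [])) := good_mono good (by decide +kernel)

/-- relators of a subgroup of order 7920 -/
def m11r : List (List ℕ) := [[5, 5],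
  [18, 18, 18, 18],
  [5, 18, 5, 18, 5, 18, 5, 18, 5, 18, 5, 18, 5, 18, 5, 18, 5, 18, 5, 18, 5, 18],
  [5, 18, 18, 5, 18, 18, 5, 18, 18, 5, 18, 18, 5, 18, 18, 5, 18, 18],
  [5, 18, 5, 18, 5, 19, 5, 18, 5, 18, 18, 5, 19, 5, 18, 5, 19, 5, 19],
  [18, 19]]

theorem m11_good : Good L (nat_lit 122760) (nat_lit 17) (m11r.map fun w => (w, [])) := good_mono good (by decide +kernel)

end Cfsg.Agent.H8.ONA
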