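import Cfsg.Statements.S0088
import Mathlib
import Cfsg.Agent.H2_Fusion2

set_option autoImplicit false
open Cfsg

namespace Cfsg.Agent.S0088

/-- An abelian Hall subgroup meets G' ∩ Z(G) trivially. -/
theorem result {G : Type*} [Group G] [Finite G] (H : Subgroup G) (hc : IsMulCommutative H) (hHall : Nat.Coprime (Nat.card H) H.index) : H ⊓ commutator G ⊓ Subgroup.center G = ⊥ := by
  rw [eq_bot_iff]
  rintro x ⟨⟨hxH, hxG⟩, hxZ⟩
  letI : CommGroup H := { (inferInstance : Group H) with mul_comm := fun a b => mul_comm' a b }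
  have key : ∀ (k : ℕ) (g₀ : G), g₀⁻¹ * x ^ k * g₀ ∈ H → g₀⁻¹ * x ^ k * g₀ = x ^ k := by
    intro k g₀ _
    have h3 := Subgroup.mem_center_iff.1 (pow_mem hxZ k) g₀
    rw [mul_assoc, ← h3, inv_mul_cancel_left]
  have h4 := MonoidHom.transfer_eq_pow (MonoidHom.id H) x key
  have h5 : MonoidHom.transfer (MonoidHom.id H) x = 1 :=
    Abelianization.commutator_subset_ker (MonoidHom.transfer (MonoidHom.id H)) hxG
  rw [h5] at h4
  have h6 : x ^ H.index = 1 := congrArg Subtype.val h4.symm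
  have h7 : orderOf x ∣ Nat.card H := by
    rw [← Subgroup.orderOf_mk x hxH]; exact orderOf_dvd_natCard _
  have h8 : orderOf x ∣ H.index := orderOf_dvd_of_pow_eq_one h6
  exact Subgroup.mem_bot.2 (orderOf_eq_one_iff.1 (Nat.eq_one_of_dvd_coprimes hHall h7 h8))

end Cfsg.Agent.S0088
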