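import Cfsg.Statements.S0090
import Mathlib
import Cfsg.Agent.H2_Card
import Cfsg.Agent.S0088
import Cfsg.Agent.H1_Coprime2

set_option autoImplicit false
open Cfsg

namespace Cfsg.Agent.S0090

/-- An abelian normal Hall subgroup A splits as the internal direct product of G' ∩ A and Z(G) ∩ A, and [A, G] = G' ∩ A. -/
theorem result {G : Type*} [Group G] [Finite G] (A : Subgroup G) [A.Normal] (hc : IsMulCommutative A) (hHall : Nat.Coprime (Nat.card A) A.index) : ⁅A, (⊤ : Subgroup G)⁆ = commutator G ⊓ A ∧ (commutator G ⊓ A) ⊓ (Subgroup.center G ⊓ A) = ⊥ ∧ (commutator G ⊓ A) ⊔ (Subgroup.center G ⊓ A) = A := by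
  have hcent : (Subgroup.center G ⊓ A) ≤ A := inf_le_right
  have h88 : (commutator G ⊓ A) ⊓ (Subgroup.center G ⊓ A) = ⊥ := by
    rw [eq_bot_iff]
    rintro x ⟨⟨h1, h2⟩, ⟨h3, -⟩⟩
    have := Cfsg.Agent.S0088.result A hc hHall
    rw [← this]
    exact ⟨⟨h2, h1⟩, h3⟩
  obtain ⟨K, hK⟩ := Subgroup.exists_right_complement'_of_coprime (N := A) hHall
  have hKA : K ≤ Subgroup.normalizer (A : Set G) := Subgroup.le_normalizer_of_normal
  have hcardK : Nat.card K = A.index := hK.symm.index_eq_card.symm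
  have hcop : (Nat.card K).Coprime (Nat.card A) := by rw [hcardK]; exact hHall.symm
  have hsolvA : Group.IsSolvable A := by
    have := hc
    open scoped IsMulCommutative in
    infer_instance
  have hdec := Cfsg.Agent.H1.Coprime.commutator_sup_centralizer K A hKA hcop (Or.inr hsolvA)
  have hcz : A ⊓ Subgroup.centralizer (K : Set G) ≤ Subgroup.center G ⊓ A := by
    rintro x ⟨hxA, hxK⟩
    refine ⟨?_, hxA⟩
    change x ∈ Subgroup.center G
    rw [Subgroup.mem_center_iff]
    intro g
    have hg : g ∈ A ⊔ K := by rw [hK.sup_eq_top]; trivial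
    rw [← SetLike.mem_coe, Subgroup.normal_mul] at hg
    obtain ⟨a, ha, k, hk, rfl⟩ := hg
    have e1 : k * x = x * k := (Subgroup.mem_centralizer_iff.1 hxK) k hk
    have e2 : a * x = x * a := congrArg Subtype.val (mul_comm' (⟨a, ha⟩ : A) ⟨x, hxA⟩)
    change a * k * x = x * (a * k)
    rw [mul_assoc, e1, ← mul_assoc, e2, mul_assoc]
  have hAK : ⁅A, K⁆ ≤ commutator G ⊓ A := by
    refine le_inf ?_ (Subgroup.commutator_le_left _ _)
    rw [_root_.commutator_def]
    exact Subgroup.commutator_mono le_top le_top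
  have hAtop : ⁅A, (⊤ : Subgroup G)⁆ ≤ commutator G ⊓ A := by
    refine le_inf ?_ (Subgroup.commutator_le_left _ _)
    rw [_root_.commutator_def]
    exact Subgroup.commutator_mono le_top le_top
  refine ⟨le_antisymm hAtop ?_, h88, le_antisymm (sup_le inf_le_right inf_le_right) ?_⟩
  · rintro x ⟨hxG, hxA⟩
    have hx : x ∈ ⁅A, K⁆ ⊔ (A ⊓ Subgroup.centralizer (K : Set G)) := by rw [hdec]; exact hxA
    rw [Cfsg.Agent.H2.Card.mem_sup_iff (by
      intro u hu
      rw [Subgroup.mem_normalizer_iff]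
      have huA : u ∈ A := Subgroup.commutator_le_left _ _ hu
      have key : ∀ z, z ∈ A → u * z * u⁻¹ = z := by
        intro z hz
        have e2 : u * z = z * u := congrArg Subtype.val (mul_comm' (⟨u, huA⟩ : A) ⟨z, hz⟩)
        rw [e2, mul_inv_cancel_right]
      intro z
      constructor
      · intro hz; rw [key z hz.1]; exact hz
      · intro hz
        have hz2 : z ∈ A := by
          have := mul_mem (mul_mem (inv_mem huA) hz.1) huA
          have e : u⁻¹ * (u * z * u⁻¹) * u = z := by group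
          rwa [e] at this
        rwa [key z hz2] at hz)] at hx
    obtain ⟨u, hu, c, hcc, rfl⟩ := hx
    have huc : u ∈ commutator G ⊓ A := hAK hu
    have h1 : c ∈ (commutator G ⊓ A) ⊓ (Subgroup.center G ⊓ A) := by
      refine ⟨⟨?_, hcc.1⟩, hcz hcc⟩
      have h0 : u⁻¹ * (u * c) ∈ commutator G := mul_mem (inv_mem huc.1) hxG
      rw [inv_mul_cancel_left] at h0
      exact h0
    rw [h88, Subgroup.mem_bot] at h1
    rw [h1, mul_one]
    exact Subgroup.commutator_mono le_rfl le_top hu
  · conv_lhs => rw [← hdec]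
    exact sup_le_sup hAK hcz

end Cfsg.Agent.S0090
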