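import Mathlib
import Cfsg.Prelude.Def_CaseTheorems
import Cfsg.Agent.H2_Fusion4
import Cfsg.Agent.H4_ZStar
import Cfsg.Agent.H4_Iso
import Cfsg.Agent.S0090

/-!
H9_AbAut: abelian Sylow 2-subgroups: central 2-elements of the normalizer, and automorphisms of 2-power
order centralizing a Sylow 2-subgroup (via the Z*-theorem).
-/

set_option autoImplicit false

namespace Cfsg.Agent.H9.AbAut

open Cfsg

universe u

/-- for an abelian Sylow p-subgroup `P`: `O^p(G) (P ∩ C(N(P))) = G` -/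
theorem residual_sup {G : Type*} [Group G] [Finite G] {p : ℕ} [Fact p.Prime] (P : Sylow p G)
    (hP : IsMulCommutative P) :
    Cfsg.pResidual p G ⊔ ((P : Subgroup G) ⊓ Subgroup.centralizer (Subgroup.normalizer (P : Set G) : Set G)) = ⊤ := by
  set N := Subgroup.normalizer (P : Set G) with hN
  have hPN : (P : Subgroup G) ≤ N := Subgroup.le_normalizer
  set A : Subgroup N := (P : Subgroup G).subgroupOf N with hA
  have iA : A.Normal := Subgroup.normal_in_normalizer (H := (P : Subgroup G))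
  have hAc : IsMulCommutative A := by
    rw [isMulCommutative_iff]
    intro a b
    apply Subtype.ext
    apply Subtype.ext
    change (a.1.1 * b.1.1 : G) = b.1.1 * a.1.1
    exact congrArg Subtype.val (mul_comm' (⟨a.1.1, a.2⟩ : (P : Subgroup G)) ⟨b.1.1, b.2⟩)
  have hHall : Nat.Coprime (Nat.card A) A.index := (P.subtype hPN).card_coprime_index
  obtain ⟨h1, h2, h3⟩ := Cfsg.Agent.S0090.result A hAc hHall
  set Z : Subgroup G := (P : Subgroup G) ⊓ Subgroup.centralizer (N : Set G) with hZ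
  have iK := Cfsg.Agent.H2.Fusion.pResidual_normal (G := G) p
  set K := Cfsg.pResidual p G with hK
  have hPK := Cfsg.Agent.H2.Fusion4.inf_pResidual_of_abelian P hP
  have hmapA : ⁅A, (⊤ : Subgroup N)⁆.map N.subtype = ⁅(P : Subgroup G), N⁆ := by
    rw [Subgroup.map_commutator, hA, Subgroup.map_subgroupOf_eq_of_le hPN, ← MonoidHom.range_eq_map,
      Subgroup.range_subtype]
  have hmapZ : (Subgroup.center N ⊓ A).map N.subtype ≤ Z := by
    rintro x ⟨y, ⟨hy1, hy2⟩, rfl⟩
    refine ⟨hy2, ?_⟩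
    change (y : G) ∈ Subgroup.centralizer (N : Set G)
    rw [Subgroup.mem_centralizer_iff]
    intro n hn
    exact congrArg Subtype.val (Subgroup.mem_center_iff.1 hy1 ⟨n, hn⟩)
  have hsup : (P : Subgroup G) ≤ K ⊔ Z := by
    intro x hx
    have h4 : (⟨x, hPN hx⟩ : N) ∈ A := hx
    rw [← h3, ← h1] at h4
    have h5 : x ∈ (⁅A, (⊤ : Subgroup N)⁆ ⊔ (Subgroup.center N ⊓ A)).map N.subtype := ⟨_, h4, rfl⟩
    rw [Subgroup.map_sup, hmapA, ← hPK] at h5
    exact (sup_le_sup inf_le_right hmapZ : _ ≤ K ⊔ Z) h5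
  rw [eq_top_iff, ← Cfsg.Agent.H2.Fusion2.sup_pResidual P]
  exact sup_le hsup le_sup_left

/-- an involution of an abelian Sylow 2-subgroup, centralized by the normalizer, is isolated -/
theorem isolated_of_central {G : Type*} [Group G] [Finite G] (P : Sylow 2 G) (hP : IsMulCommutative P)
    {z : G} (hz : orderOf z = 2) (hzP : z ∈ (P : Subgroup G))
    (hzN : z ∈ Subgroup.centralizer (Subgroup.normalizer (P : Set G) : Set G)) : IsIsolatedInvolution z := by
  rw [← Cfsg.Agent.H4.Iso.isolated_iff_sylow P hz hzP]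
  intro g hg
  haveI := hP
  have hx : g * z * g⁻¹ ∈ (P : Subgroup G) := hg
  obtain ⟨n, hn, h⟩ := P.conj_eq_normalizer_conj_of_mem z g⁻¹ hzP (by rwa [inv_inv])
  rw [inv_inv] at h
  rw [h]
  have h2 := (Subgroup.mem_centralizer_iff.1 hzN) n hn
  rw [mul_assoc, ← h2]; group

variable {G : Type u} [Group G]

theorem conj_inj (hZ : Subgroup.center G = ⊥) : Function.Injective (MulAut.conj (G := G)) := by
  rw [injective_iff_map_eq_one]
  intro g hg
  have : g ∈ Subgroup.center G := by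
    rw [Subgroup.mem_center_iff]
    intro x
    have h1 := DFunLike.congr_fun hg x
    rw [MulAut.conj_apply, MulAut.one_apply] at h1
    calc x * g = g * x * g⁻¹ * g := by rw [h1]
      _ = g * x := by group
  rwa [hZ, Subgroup.mem_bot] at this

theorem mul_conj (α : MulAut G) (g : G) : α * MulAut.conj g * α⁻¹ = MulAut.conj (α g) := by
  ext x
  simp [MulAut.mul_apply]

instance conj_normal : (MulAut.conj (G := G)).range.Normal := by
  refine ⟨?_⟩
  rintro _ ⟨g, rfl⟩ α
  exact ⟨α g, (mul_conj α g).symm⟩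

/-- automorphisms of 2-power order centralizing an abelian Sylow 2-subgroup are inner -/
theorem inner [Finite G] (hZ : Subgroup.center G = ⊥) (hcore : Cfsg.pPrimeCore 2 G = ⊥) (P : Sylow 2 G)
    (hab : IsMulCommutative (P : Subgroup G)) (α : MulAut G) (h2 : ∃ j : ℕ, α ^ (2 ^ j) = 1)
    (hfix : ∀ x ∈ (P : Subgroup G), α x = x) : ∃ g : G, ∀ x : G, α x = g * x * g⁻¹ := by
  classical
  obtain ⟨j, hj⟩ := h2
  have hinj := conj_inj hZ
  set I : Subgroup (MulAut G) := (MulAut.conj (G := G)).range with hI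
  haveI : I.Normal := conj_normal
  suffices hα : α ∈ I by
    obtain ⟨g, hg⟩ := hα
    refine ⟨g, fun x => ?_⟩
    rw [← hg, MulAut.conj_apply]
  by_contra hαI
  set A : Subgroup (MulAut G) := I ⊔ Subgroup.zpowers α with hA
  have hIA : I ≤ A := le_sup_left
  have hαA : α ∈ A := (le_sup_right : _ ≤ A) (Subgroup.mem_zpowers α)
  haveI : Finite (MulAut G) := inferInstance
  -- elements of A, modulo I
  have hdec : ∀ x ∈ A, ∃ i ∈ I, ∃ k : ℤ, x = i * α ^ k := by
    intro x hx
    rw [hA, ← SetLike.mem_coe, Subgroup.normal_mul] at hx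
    obtain ⟨i, hi, a, ha, rfl⟩ := hx
    obtain ⟨k, rfl⟩ := Subgroup.mem_zpowers_iff.1 ha
    exact ⟨i, hi, k, rfl⟩
  have hpow : ∀ x ∈ A, x ^ (2 ^ j) ∈ I := by
    intro x hx
    obtain ⟨i, hi, k, rfl⟩ := hdec x hx
    rw [← QuotientGroup.eq_one_iff, QuotientGroup.mk_pow, QuotientGroup.mk_mul,
      (QuotientGroup.eq_one_iff i).2 hi, one_mul, ← QuotientGroup.mk_pow, ← zpow_natCast, ← zpow_mul,
      mul_comm, zpow_mul, zpow_natCast, hj, one_zpow, QuotientGroup.mk_one]
  have hoddI : ∀ x ∈ A, (orderOf x).Coprime 2 → x ∈ I := by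
    intro x hx ho
    have h1 : (orderOf x).Coprime (2 ^ j) := ho.pow_right j
    obtain ⟨m, hm⟩ := exists_pow_eq_self_of_coprime (h1.symm)
    rw [← hm]
    exact I.pow_mem (hpow x hx) m
  -- the abelian 2-subgroup
  set P' : Subgroup (MulAut G) := (P : Subgroup G).map (MulAut.conj (G := G)) with hP'
  have hP'I : P' ≤ I := by
    rw [hP', hI]; exact Subgroup.map_le_range _ _
  set T0 : Subgroup (MulAut G) := P' ⊔ Subgroup.zpowers α with hT0
  have hcPP : P' ≤ Subgroup.centralizer (P' : Set (MulAut G)) := by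
    rintro _ ⟨x, hx, rfl⟩
    rw [Subgroup.mem_centralizer_iff]
    rintro _ ⟨y, hy, rfl⟩
    rw [← map_mul, ← map_mul]
    congr 1
    exact congrArg Subtype.val (mul_comm' (⟨y, hy⟩ : (P : Subgroup G)) ⟨x, hx⟩)
  have hcαP : Subgroup.zpowers α ≤ Subgroup.centralizer (P' : Set (MulAut G)) := by
    rw [Subgroup.zpowers_le, Subgroup.mem_centralizer_iff]
    rintro _ ⟨y, hy, rfl⟩
    have h1 := mul_conj α y
    rw [hfix y hy] at h1
    calc MulAut.conj y * α = α * MulAut.conj y * α⁻¹ * α := by rw [h1]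
      _ = α * MulAut.conj y := by group
  have hcαα : Subgroup.zpowers α ≤ Subgroup.centralizer (Subgroup.zpowers α : Set (MulAut G)) := by
    rw [Subgroup.zpowers_le, Subgroup.mem_centralizer_iff]
    rintro y hy
    obtain ⟨k, rfl⟩ := Subgroup.mem_zpowers_iff.1 hy
    exact (Commute.refl α).zpow_left k
  have hT0c : T0 ≤ Subgroup.centralizer (T0 : Set (MulAut G)) := by
    have h1 : T0 ≤ Subgroup.centralizer (P' : Set (MulAut G)) := sup_le hcPP hcαP
    have h2 : T0 ≤ Subgroup.centralizer (Subgroup.zpowers α : Set (MulAut G)) :=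
      sup_le (Subgroup.le_centralizer_iff.1 hcαP) hcαα
    exact sup_le (Subgroup.le_centralizer_iff.1 h1) (Subgroup.le_centralizer_iff.1 h2)
  have hP'2 : IsPGroup 2 P' := P.isPGroup'.map _
  have hα2 : IsPGroup 2 (Subgroup.zpowers α) := by
    rw [IsPGroup.iff_orderOf]
    rintro ⟨y, hy⟩
    obtain ⟨k, rfl⟩ := Subgroup.mem_zpowers_iff.1 hy
    have h1 : orderOf (α ^ k) ∣ 2 ^ j := by
      apply orderOf_dvd_of_pow_eq_one
      rw [← zpow_natCast, ← zpow_mul, mul_comm, zpow_mul, zpow_natCast, hj, one_zpow]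
    obtain ⟨m, -, hm⟩ := (Nat.dvd_prime_pow Nat.prime_two).1 h1
    exact ⟨m, by rw [Subgroup.orderOf_mk]; exact hm⟩
  have hT02 : IsPGroup 2 T0 := by
    refine IsPGroup.to_sup_of_normal_left' hP'2 hα2 ?_
    exact hcαP.trans (Subgroup.centralizer_le_normalizer _)
  have hT0A : T0 ≤ A := sup_le (hP'I.trans hIA) le_sup_right
  -- a Sylow 2-subgroup of A
  obtain ⟨T, hT⟩ := (hT02.comap_subtype (K := A)).exists_le_sylow
  have hTmem : ∀ x : A, x ∈ (T : Subgroup A) → (x : MulAut G) ∈ T0 := by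
    intro x hx
    obtain ⟨i, hi, k, hik⟩ := hdec x x.2
    have hαT : (⟨α, hαA⟩ : A) ∈ (T : Subgroup A) := hT (by
      change α ∈ T0
      exact (le_sup_right : _ ≤ T0) (Subgroup.mem_zpowers α))
    have hiA : i ∈ A := hIA hi
    have hiT : (⟨i, hiA⟩ : A) ∈ (T : Subgroup A) := by
      have : (⟨i, hiA⟩ : A) = x * (⟨α, hαA⟩ : A) ^ (-k) := by
        apply Subtype.ext
        rw [Subgroup.coe_mul, Subgroup.coe_zpow, hik]
        simp
      rw [this]
      exact mul_mem hx (Subgroup.zpow_mem _ hαT _)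
    obtain ⟨g, rfl⟩ := hi
    have hQ : IsPGroup 2 (((T : Subgroup A).map A.subtype).comap (MulAut.conj (G := G))) :=
      (T.isPGroup'.map A.subtype).comap_of_injective _ hinj
    have hPQ : (P : Subgroup G) ≤ ((T : Subgroup A).map A.subtype).comap (MulAut.conj (G := G)) := by
      intro y hy
      refine ⟨⟨MulAut.conj y, hIA ⟨y, rfl⟩⟩, hT ?_, rfl⟩
      change MulAut.conj y ∈ T0
      exact (le_sup_left : _ ≤ T0) ⟨y, hy, rfl⟩
    have hPQ' := P.is_maximal' hQ hPQ
    have hg : g ∈ (P : Subgroup G) := by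
      rw [← hPQ']
      exact ⟨_, hiT, rfl⟩
    rw [hik]
    exact mul_mem ((le_sup_left : _ ≤ T0) ⟨g, hg, rfl⟩)
      (Subgroup.zpow_mem _ ((le_sup_right : _ ≤ T0) (Subgroup.mem_zpowers α)) _)
  have hTc : IsMulCommutative (T : Subgroup A) := by
    rw [isMulCommutative_iff]
    intro a b
    apply Subtype.ext
    apply Subtype.ext
    exact Subgroup.mem_centralizer_iff.1 (hT0c (hTmem _ b.2)) _ (hTmem _ a.2)
  -- the central part is not inner
  have hres := residual_sup T hTc
  have hK : Cfsg.pResidual 2 A ≤ I.subgroupOf A := by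
    rw [Cfsg.pResidual, Subgroup.closure_le]
    intro x hx
    change (x : MulAut G) ∈ I
    refine hoddI _ x.2 ?_
    rw [Subgroup.orderOf_coe]
    exact hx
  have hβ : ¬ ((T : Subgroup A) ⊓ Subgroup.centralizer (Subgroup.normalizer (T : Set A) : Set A) ≤ I.subgroupOf A) := by
    intro h
    have h1 : (⊤ : Subgroup A) ≤ I.subgroupOf A := by rw [← hres]; exact sup_le hK h
    exact hαI (h1 (Subgroup.mem_top (⟨α, hαA⟩ : A)))
  obtain ⟨β, hβ1, hβ2⟩ := SetLike.not_le_iff_exists.1 hβ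
  have hβne : β ≠ 1 := by
    rintro rfl; exact hβ2 (one_mem _)
  -- an involution
  obtain ⟨m, hm⟩ := (IsPGroup.iff_orderOf.1 T.isPGroup') ⟨β, hβ1.1⟩
  rw [Subgroup.orderOf_mk] at hm
  have hm0 : m ≠ 0 := by
    rintro rfl
    rw [pow_zero, orderOf_eq_one_iff] at hm
    exact hβne hm
  obtain ⟨m', rfl⟩ := Nat.exists_eq_succ_of_ne_zero hm0
  set z : A := β ^ (2 ^ m') with hz
  have hzo : orderOf z = 2 := by
    rw [hz, orderOf_pow, hm]
    have : Nat.gcd (2 ^ (m' + 1)) (2 ^ m') = 2 ^ m' := Nat.gcd_eq_right (pow_dvd_pow 2 (Nat.le_succ m'))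
    rw [Nat.succ_eq_add_one, this, pow_succ, Nat.mul_div_cancel_left _ (by positivity)]
  have hzZ := Subgroup.pow_mem _ hβ1 (2 ^ m')
  have hiso := isolated_of_central T hTc hzo hzZ.1 hzZ.2
  have hst := Cfsg.Agent.H4.ZStar.zstar hiso
  -- the core of A is trivial
  have hcoreA : oddCore A = ⊥ := by
    haveI hn : (oddCore A).Normal := Cfsg.Agent.H1.Nilp.pPrimeCore_normal 2
    have hcop : (Nat.card (oddCore A)).Coprime 2 := Cfsg.Agent.H11.Cores.pPrimeCore_coprime 2
    set O : Subgroup G := ((oddCore A).map A.subtype).comap (MulAut.conj (G := G)) with hO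
    have hOn : O.Normal := by
      refine ⟨?_⟩
      rintro g ⟨x, hx, hxg⟩ h
      refine ⟨⟨MulAut.conj h, hIA ⟨h, rfl⟩⟩ * x * ⟨MulAut.conj h, hIA ⟨h, rfl⟩⟩⁻¹, hn.conj_mem x hx _, ?_⟩
      rw [map_mul, map_mul, map_inv, hxg, map_mul, map_mul, map_inv]
      rfl
    have hOc : (Nat.card O).Coprime 2 := by
      have h1 : Nat.card O ∣ Nat.card ((oddCore A).map A.subtype) := Subgroup.card_comap_dvd_of_injective _ _ hinj
      have h2 : Nat.card ((oddCore A).map A.subtype) ∣ Nat.card (oddCore A) := Subgroup.card_map_dvd _ _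
      exact Nat.Coprime.coprime_dvd_left (h1.trans h2) hcop
    have hO1 : O ≤ ⊥ := by
      rw [← hcore]
      exact le_sSup ⟨hOn, hOc⟩
    rw [eq_bot_iff]
    intro x hx
    have h1 : (x : MulAut G) ∈ I := by
      refine hoddI _ x.2 ?_
      rw [Subgroup.orderOf_coe]
      refine Nat.Coprime.coprime_dvd_left ?_ hcop
      exact Subgroup.orderOf_dvd_natCard _ hx
    obtain ⟨g, hg⟩ := h1
    have h2 : g ∈ O := ⟨x, hx, hg.symm⟩
    have h3 := Subgroup.mem_bot.1 (hO1 h2)
    rw [h3, map_one] at hg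
    rw [Subgroup.mem_bot]
    exact Subtype.ext hg.symm
  -- z is central
  have hzc : ∀ x : G, (z : MulAut G) x = x := by
    intro x
    have h1 := hst ⟨MulAut.conj x, hIA ⟨x, rfl⟩⟩
    rw [hcoreA, Subgroup.mem_bot] at h1
    have h2 := congrArg Subtype.val h1
    simp only [Subgroup.coe_mul, Subgroup.coe_inv, Subgroup.coe_one] at h2
    rw [mul_conj, ← map_inv, ← map_mul] at h2
    have h3 := hinj (h2.trans (map_one _).symm)
    exact mul_inv_eq_one.1 h3
  have hz1 : z = 1 := by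
    apply Subtype.ext
    ext x
    exact hzc x
  rw [hz1, orderOf_one] at hzo
  exact absurd hzo (by norm_num)

end Cfsg.Agent.H9.AbAut
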