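import Mathlib
import Cfsg.Agent.H9_Small3

set_option autoImplicit false

namespace Cfsg.Agent.H9.CountP

variable {G : Type*} [Group G] [Finite G]

/-- the number of elements of order `p` when the Sylow subgroups have order `p` -/
theorem card_order_p {p : ℕ} [hp : Fact p.Prime] (P : Sylow p G) (hP : Nat.card (P : Subgroup G) = p) :
    Nat.card {g : G // orderOf g = p} = Nat.card (Sylow p G) * (p - 1) := by
  classical
  have hQ : ∀ Q : Sylow p G, Nat.card (Q : Subgroup G) = p := by
    intro Q
    rw [Q.card_eq_multiplicity, ← P.card_eq_multiplicity, hP]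
  have horder : ∀ (Q : Sylow p G) (x : (Q : Subgroup G)), x ≠ 1 → orderOf (x : G) = p := by
    intro Q x hx
    have h0 := orderOf_dvd_natCard x
    rw [hQ Q] at h0
    rw [Subgroup.orderOf_coe]
    rcases (Nat.dvd_prime hp.out).1 h0 with h2 | h2
    · exact absurd (orderOf_eq_one_iff.1 h2) hx
    · exact h2
  have e : (Σ Q : Sylow p G, {x : (Q : Subgroup G) // x ≠ 1}) ≃ {g : G // orderOf g = p} := by
    refine Equiv.ofBijective (fun z => ⟨(z.2.1 : G), horder z.1 z.2.1 z.2.2⟩) ⟨?_, ?_⟩
    · rintro ⟨Q, ⟨⟨x, hxQ⟩, hx⟩⟩ ⟨R, ⟨⟨y, hyR⟩, hy⟩⟩ h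
      have hxy : x = y := congrArg Subtype.val h
      subst hxy
      have h1 : Subgroup.zpowers x = (Q : Subgroup G) :=
        Subgroup.eq_of_le_of_card_ge (Subgroup.zpowers_le.2 hxQ) (by rw [hQ, Nat.card_zpowers, horder Q ⟨x, hxQ⟩ hx])
      have h2 : Subgroup.zpowers x = (R : Subgroup G) :=
        Subgroup.eq_of_le_of_card_ge (Subgroup.zpowers_le.2 hyR) (by rw [hQ, Nat.card_zpowers, horder R ⟨x, hyR⟩ hy])
      have h3 : Q = R := Sylow.ext (h1.symm.trans h2)
      subst h3
      rfl
    · rintro ⟨g, hg⟩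
      let S : Sylow p G := Sylow.ofCard (Subgroup.zpowers g) (by
        rw [Nat.card_zpowers, hg, ← P.card_eq_multiplicity, hP])
      refine ⟨⟨S, ⟨⟨g, Subgroup.mem_zpowers g⟩, ?_⟩⟩, rfl⟩
      intro h
      have : g = 1 := congrArg Subtype.val h
      rw [this, orderOf_one] at hg
      exact hp.out.one_lt.ne hg
  letI : Fintype (Sylow p G) := Fintype.ofFinite _
  rw [← Nat.card_congr e, Nat.card_sigma]
  have h1 : ∀ Q : Sylow p G, Nat.card {x : (Q : Subgroup G) // x ≠ 1} = p - 1 := by
    intro Q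
    letI := Fintype.ofFinite (Q : Subgroup G)
    have h2 := Nat.card_eq_fintype_card (α := (Q : Subgroup G))
    rw [hQ] at h2
    rw [Nat.card_eq_fintype_card, Fintype.card_subtype_compl, Fintype.card_subtype_eq, ← h2]
  simp only [h1, Finset.sum_const, Finset.card_univ, smul_eq_mul]
  rw [Nat.card_eq_fintype_card]

/-- size of a conjugacy class -/
theorem card_carrier (g : G) : Nat.card (ConjClasses.mk g).carrier * Nat.card (Subgroup.centralizer ({g} : Set G)) = Nat.card G := by
  classical
  have h1 := Subgroup.card_mul_index (Subgroup.centralizer ({g} : Set G))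
  have h2 : Nat.card (ConjClasses.mk g).carrier = (Subgroup.centralizer ({g} : Set G)).index := by
    have h3 := MulAction.index_stabilizer (ConjAct G) g
    have h4 : MulAction.orbit (ConjAct G) g = (ConjClasses.mk g).carrier := by
      ext x
      rw [ConjAct.mem_orbit_conjAct, ConjClasses.mem_carrier_iff_mk_eq, ConjClasses.mk_eq_mk_iff_isConj]
    rw [h4] at h3
    change (ConjClasses.mk g).carrier.ncard = _
    rw [← h3, ConjAct.stabilizer_eq_centralizer]
    rfl
  rw [h2, mul_comm]; exact h1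

theorem main {p : ℕ} [hp : Fact p.Prime] (z : G) (hz : orderOf z = p)
    (hC : Subgroup.centralizer ({z} : Set G) = Subgroup.zpowers z) :
    (∃ P : Sylow p G, (P : Subgroup G) = Subgroup.zpowers z) ∧
    (∀ g : G, orderOf g = p → Nat.card (Subgroup.centralizer ({g} : Set G)) = p) ∧
    Nat.card G * Nat.card {c : ConjClasses G // ∃ g : G, ConjClasses.mk g = c ∧ orderOf g = p} = (p - 1) * p * Nat.card (Sylow p G) := by
  classical
  have hzcard : Nat.card (Subgroup.zpowers z) = p := by rw [Nat.card_zpowers, hz]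
  -- P is a Sylow subgroup
  have hPp : IsPGroup p (Subgroup.zpowers z) := IsPGroup.of_card (n := 1) (by rw [hzcard, pow_one])
  obtain ⟨Q, hQ⟩ := hPp.exists_le_sylow
  have hQeq : (Q : Subgroup G) = Subgroup.zpowers z := by
    by_contra hne
    have hlt : Subgroup.zpowers z < (Q : Subgroup G) := lt_of_le_of_ne hQ (Ne.symm hne)
    -- the centre of Q
    have hQn : Nontrivial Q := by
      refine ⟨⟨⟨z, hQ (Subgroup.mem_zpowers z)⟩, 1, ?_⟩⟩
      intro h
      have : z = 1 := congrArg Subtype.val h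
      rw [this, orderOf_one] at hz
      exact hp.out.one_lt.ne hz
    haveI : Nontrivial (Subgroup.center (Q : Subgroup G)) := Q.2.center_nontrivial
    obtain ⟨⟨c, hc⟩, hc1⟩ := exists_ne (1 : Subgroup.center (Q : Subgroup G))
    have hcz : (c : G) ∈ Subgroup.zpowers z := by
      rw [← hC, Subgroup.mem_centralizer_singleton_iff]
      have := Subgroup.mem_center_iff.1 hc ⟨z, hQ (Subgroup.mem_zpowers z)⟩
      exact (congrArg Subtype.val this).symm
    have hcne : (c : G) ≠ 1 := fun h => hc1 (Subtype.ext (Subtype.ext h))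
    have hco : orderOf (c : G) = p := by
      have h0 : orderOf (⟨c, hcz⟩ : Subgroup.zpowers z) ∣ p := by
        have := orderOf_dvd_natCard (⟨c, hcz⟩ : Subgroup.zpowers z)
        rwa [hzcard] at this
      rw [← Subgroup.orderOf_coe] at h0
      rcases (Nat.dvd_prime hp.out).1 h0 with h2 | h2
      · exact absurd (orderOf_eq_one_iff.1 h2) hcne
      · exact h2
    have hzz : Subgroup.zpowers (c : G) = Subgroup.zpowers z :=
      Subgroup.eq_of_le_of_card_ge (Subgroup.zpowers_le.2 hcz) (by rw [hzcard, Nat.card_zpowers, hco])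
    apply absurd hlt
    apply not_lt_of_ge
    intro q hq
    rw [← hC, Subgroup.mem_centralizer_singleton_iff]
    have hzc : z ∈ Subgroup.zpowers (c : G) := by rw [hzz]; exact Subgroup.mem_zpowers z
    obtain ⟨k, hk⟩ := Subgroup.mem_zpowers_iff.1 hzc
    have hqc : Commute q (c : G) := by
      have := Subgroup.mem_center_iff.1 hc ⟨q, hq⟩
      exact congrArg Subtype.val this
    rw [← hk]
    exact hqc.zpow_right k
  have hQcard : Nat.card (Q : Subgroup G) = p := by rw [hQeq, hzcard]
  have hcent : ∀ g : G, orderOf g = p → Nat.card (Subgroup.centralizer ({g} : Set G)) = p := by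
    intro g hg
    -- g is conjugate into zpowers z
    let S : Sylow p G := Sylow.ofCard (Subgroup.zpowers g) (by
      rw [Nat.card_zpowers, hg, ← Q.card_eq_multiplicity, hQcard])
    obtain ⟨x, hx⟩ := MulAction.exists_smul_eq G Q S
    have h1 : g ∈ (S : Subgroup G) := Subgroup.mem_zpowers g
    rw [← hx] at h1
    have h2 : x⁻¹ * g * x ∈ (Q : Subgroup G) := by
      obtain ⟨y, hy, hyg⟩ := h1
      have : x * y * x⁻¹ = g := hyg
      rw [← this]
      have e : x⁻¹ * (x * y * x⁻¹) * x = y := by group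
      rw [e]; exact hy
    rw [hQeq] at h2
    have ho : orderOf (x⁻¹ * g * x) = p := by
      have := MulEquiv.orderOf_eq (MulAut.conj x⁻¹) g
      rw [MulAut.conj_apply, inv_inv] at this
      rw [this, hg]
    have hzz : Subgroup.zpowers (x⁻¹ * g * x) = Subgroup.zpowers z :=
      Subgroup.eq_of_le_of_card_ge (Subgroup.zpowers_le.2 h2) (by rw [hzcard, Nat.card_zpowers, ho])
    have h3 : Subgroup.centralizer ({x⁻¹ * g * x} : Set G) = Subgroup.zpowers z := by
      rw [← hC]
      ext y
      rw [Subgroup.mem_centralizer_singleton_iff, Subgroup.mem_centralizer_singleton_iff]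
      constructor
      · intro hy
        have : z ∈ Subgroup.zpowers (x⁻¹ * g * x) := by rw [hzz]; exact Subgroup.mem_zpowers z
        obtain ⟨k, hk⟩ := Subgroup.mem_zpowers_iff.1 this
        rw [← hk]; exact (show Commute y _ from hy).zpow_right k
      · intro hy
        obtain ⟨k, hk⟩ := Subgroup.mem_zpowers_iff.1 h2
        rw [← hk]; exact (show Commute y _ from hy).zpow_right k
    have h4 : (Subgroup.centralizer ({g} : Set G)).map (MulAut.conj x⁻¹).toMonoidHom = Subgroup.centralizer ({x⁻¹ * g * x} : Set G) := by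
      ext y
      rw [Subgroup.mem_map_equiv, Subgroup.mem_centralizer_singleton_iff, Subgroup.mem_centralizer_singleton_iff]
      have e : (MulAut.conj x⁻¹).symm y = x * y * x⁻¹ := by
        rw [MulEquiv.symm_apply_eq, MulAut.conj_apply]; group
      rw [e]
      constructor
      · intro h
        calc y * (x⁻¹ * g * x) = x⁻¹ * ((x * y * x⁻¹) * g) * x := by group
          _ = x⁻¹ * (g * (x * y * x⁻¹)) * x := by rw [h]
          _ = x⁻¹ * g * x * y := by group
      · intro h
        calc x * y * x⁻¹ * g = x * (y * (x⁻¹ * g * x)) * x⁻¹ := by group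
          _ = x * (x⁻¹ * g * x * y) * x⁻¹ := by rw [h]
          _ = g * (x * y * x⁻¹) := by group
    have h5 : Nat.card ((Subgroup.centralizer ({g} : Set G)).map (MulAut.conj x⁻¹).toMonoidHom) = p := by
      rw [h4, h3, hzcard]
    rw [Subgroup.card_map_of_injective (f := (MulAut.conj x⁻¹).toMonoidHom) (MulAut.conj x⁻¹).injective] at h5
    exact h5
  refine ⟨⟨Q, hQeq⟩, hcent, ?_⟩
  have hcount := card_order_p Q hQcard
  have e : {g : G // orderOf g = p} ≃ Σ c : {c : ConjClasses G // ∃ g : G, ConjClasses.mk g = c ∧ orderOf g = p}, c.1.carrier := by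
    refine ⟨fun g => ⟨⟨ConjClasses.mk g.1, g.1, rfl, g.2⟩, ⟨g.1, ConjClasses.mem_carrier_mk⟩⟩,
      fun z => ⟨z.2.1, ?_⟩, ?_, ?_⟩
    · obtain ⟨⟨c, ⟨g, hgc, hg⟩⟩, ⟨x, hx⟩⟩ := z
      subst hgc
      rw [ConjClasses.mem_carrier_iff_mk_eq, ConjClasses.mk_eq_mk_iff_isConj, isConj_iff] at hx
      obtain ⟨y, hy⟩ := hx
      change orderOf x = p
      have := MulEquiv.orderOf_eq (MulAut.conj y) x
      rw [MulAut.conj_apply, hy, hg] at this
      exact this.symm
    · intro g; rfl
    · rintro ⟨⟨c, ⟨g, hgc, hg⟩⟩, ⟨x, hx⟩⟩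
      have h1 : ConjClasses.mk x = c := (ConjClasses.mem_carrier_iff_mk_eq).1 hx
      subst h1
      rfl
  letI : Fintype {c : ConjClasses G // ∃ g : G, ConjClasses.mk g = c ∧ orderOf g = p} := Fintype.ofFinite _
  have h1 := Nat.card_congr e
  rw [Nat.card_sigma, hcount] at h1
  have h2 : ∀ c : {c : ConjClasses G // ∃ g : G, ConjClasses.mk g = c ∧ orderOf g = p}, Nat.card c.1.carrier * p = Nat.card G := by
    rintro ⟨c, ⟨g, hgc, hg⟩⟩
    subst hgc
    have := card_carrier g
    rwa [hcent g hg] at this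
  have h3 : (∑ c : {c : ConjClasses G // ∃ g : G, ConjClasses.mk g = c ∧ orderOf g = p}, Nat.card c.1.carrier) * p =
      Nat.card G * Nat.card {c : ConjClasses G // ∃ g : G, ConjClasses.mk g = c ∧ orderOf g = p} := by
    rw [Finset.sum_mul]
    simp only [h2, Finset.sum_const, Finset.card_univ, smul_eq_mul]
    rw [Nat.card_eq_fintype_card (α := {c : ConjClasses G // ∃ g : G, ConjClasses.mk g = c ∧ orderOf g = p}), mul_comm]
  rw [← h3, ← h1]; ring

end Cfsg.Agent.H9.CountP
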