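import Cfsg.Agent.H9_MultTrans2

set_option autoImplicit false

namespace Cfsg.Agent.H9.Jordan

open MulAction SubMulAction
open scoped Pointwise

/-- In a `k`-transitive action any injective map on a `k`-set is induced by a group element. -/
theorem exists_of_multTrans {G : Type*} [Group G] {α : Type*} [MulAction G α] {k : ℕ}
    (h : IsMultiplyPretransitive G α k) (s : Finset α) (hs : s.card = k) (f : α → α)
    (hf : Set.InjOn f s) : ∃ g : G, ∀ t ∈ s, g • t = f t := by
  classical
  let e : Fin k ≃ s := (Finset.equivFinOfCardEq hs).symm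
  let x : Fin k ↪ α := ⟨fun i => (e i : α), fun i j hij => e.injective (Subtype.ext hij)⟩
  let y : Fin k ↪ α := ⟨fun i => f (e i), fun i j hij => e.injective (Subtype.ext (hf (e i).2 (e j).2 hij))⟩
  obtain ⟨g, hg⟩ := h.exists_smul_eq x y
  refine ⟨g, fun t ht => ?_⟩
  have := congrArg (fun q : Fin k ↪ α => q (e.symm ⟨t, ht⟩)) hg
  have h2 : g • ((e (e.symm ⟨t, ht⟩) : s) : α) = f (e (e.symm ⟨t, ht⟩)) := this
  simpa using h2

/-- A commuting permutation of a cycle acts on the support as a power. -/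
theorem commute_cycle {α : Type*} [Fintype α] [DecidableEq α] {g c : Equiv.Perm α}
    (hg : g.IsCycle) (hc : c * g = g * c) : ∃ i : ℤ, ∀ a ∈ g.support, c a = (g ^ i) a := by
  obtain ⟨a, ha, hcyc⟩ := hg
  have hca : g (c a) ≠ c a := by
    intro h
    have h1 : c (g a) = g (c a) := congrArg (fun σ : Equiv.Perm α => σ a) hc
    rw [h] at h1
    exact ha (c.injective h1)
  obtain ⟨i, hi⟩ := hcyc hca
  refine ⟨i, fun b hb => ?_⟩
  rw [Equiv.Perm.mem_support] at hb
  obtain ⟨k, rfl⟩ := hcyc hb
  have hcomm : Commute c (g ^ k) := (show Commute c g from hc).zpow_right k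
  have h1 : c ((g ^ k) a) = (g ^ k) (c a) := congrArg (fun σ : Equiv.Perm α => σ a) hcomm
  rw [h1, ← hi, ← Equiv.Perm.mul_apply, ← Equiv.Perm.mul_apply, ← zpow_add, ← zpow_add, add_comm]

/-- Jordan: a primitive group of degree `n` containing a cycle of prime length `p ≤ n - 3`
contains the alternating group. -/
theorem alternatingGroup_le_of_isCycle_mem {α : Type*} [Fintype α] [DecidableEq α]
    (G : Subgroup (Equiv.Perm α)) (hG : MulAction.IsPreprimitive G α) {p : ℕ} (hp : p.Prime)
    (hpn : p + 3 ≤ Fintype.card α) {g : Equiv.Perm α} (hgc : g.IsCycle) (hgp : g.support.card = p)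
    (hg : g ∈ G) : alternatingGroup α ≤ G := by
  classical
  haveI : Fact p.Prime := ⟨hp⟩
  set D : Finset α := g.supportᶜ with hD
  have hDcard : D.card = Fintype.card α - p := by rw [hD, Finset.card_compl, hgp]
  -- multiple transitivity
  have hmt : IsMultiplyPretransitive G α D.card := by
    have h1 := Equiv.Perm.isPretransitive_of_isCycle_mem hgc hg
    have h2 : IsPreprimitive (fixingSubgroup G (g.support : Set α)ᶜ)
        (SubMulAction.ofFixingSubgroup G (g.support : Set α)ᶜ) := by
      apply IsPreprimitive.of_prime_card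
      have : Nat.card (SubMulAction.ofFixingSubgroup G (g.support : Set α)ᶜ) = p := by
        rw [Nat.card_eq_fintype_card, Fintype.card_subtype, ← hgp]
        congr 1
        ext x
        simp [SubMulAction.mem_ofFixingSubgroup_iff]
      rw [this]; exact hp
    obtain ⟨n, hn⟩ : ∃ n, Fintype.card α - p = n + 1 := ⟨Fintype.card α - p - 1, by omega⟩
    have h3 := hG.isMultiplyPreprimitive (s := ((g.support : Set α)ᶜ)) (n := n) (by
      rw [← Finset.coe_compl, Set.ncard_coe_finset, ← hD, hDcard, hn]) (by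
      rw [Nat.card_eq_fintype_card]; have := hp.two_le; omega) h2
    have h4 : IsMultiplyPretransitive G α (n + 2) := h3.isMultiplyPretransitive
    rw [hDcard, hn]
    exact isMultiplyPretransitive_of_le (n := n + 2) (by omega) (by rw [Nat.card_eq_fintype_card]; have := hp.two_le; omega)
  -- H : pointwise stabiliser of D
  let H : Subgroup G := fixingSubgroup G (D : Set α)
  have hH : ∀ h : G, h ∈ H ↔ ∀ t ∈ D, h • t = t := by
    intro h
    rw [mem_fixingSubgroup_iff]
    simp
  have hgH : (⟨g, hg⟩ : G) ∈ H := by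
    rw [hH]
    intro t ht
    rw [hD, Finset.mem_compl, Equiv.Perm.notMem_support] at ht
    exact ht
  let gH : H := ⟨⟨g, hg⟩, hgH⟩
  have hordg : orderOf g = p := by rw [hgc.orderOf, hgp]
  have hordgH : orderOf gH = p := by
    rw [← hordg]
    rw [← Subgroup.orderOf_coe gH, ← Subgroup.orderOf_coe (gH : G)]
  -- card of H
  have hcardH : (Nat.card H).factorization p = 1 := by
    -- embed H in Perm support
    have hmaps : ∀ h : H, ∀ t : α, t ∈ g.support ↔ ((h : G) : Equiv.Perm α) t ∈ g.support := by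
      intro h t
      have hfix := (hH h).1 h.2
      constructor
      · intro ht
        by_contra hcon
        have h1 : ((h : G) : Equiv.Perm α) (((h : G) : Equiv.Perm α) t) = ((h : G) : Equiv.Perm α) t :=
          hfix _ (by rw [hD, Finset.mem_compl]; exact hcon)
        have h2 := ((h : G) : Equiv.Perm α).injective h1
        rw [h2] at hcon
        exact hcon ht
      · intro ht
        by_contra hcon
        have h1 : ((h : G) : Equiv.Perm α) t = t := hfix _ (by rw [hD, Finset.mem_compl]; exact hcon)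
        rw [h1] at ht
        exact hcon ht
    let φ : H →* Equiv.Perm {x // x ∈ g.support} :=
      { toFun := fun h => ((h : G) : Equiv.Perm α).subtypePerm (fun t => (hmaps h t).symm)
        map_one' := by ext; rfl
        map_mul' := fun a b => by ext; rfl }
    have hφ : Function.Injective φ := by
      rw [injective_iff_map_eq_one]
      intro h hh
      apply Subtype.ext
      apply Subtype.ext
      ext t
      by_cases ht : t ∈ g.support
      · have := congrArg (fun σ : Equiv.Perm {x // x ∈ g.support} => ((σ ⟨t, ht⟩ : {x // x ∈ g.support}) : α)) hh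
        exact this
      · exact (hH h).1 h.2 t (by rw [hD, Finset.mem_compl]; exact ht)
    have h1 : Nat.card H ∣ p.factorial := by
      have := Subgroup.card_dvd_of_injective φ hφ
      have hcs : Nat.card {x // x ∈ g.support} = p := by
        rw [Nat.card_eq_fintype_card, Fintype.card_coe, hgp]
      rwa [Nat.card_perm, hcs] at this
    have h2 : p ∣ Nat.card H := by rw [← hordgH]; exact orderOf_dvd_natCard gH
    have h3 : ¬ p ^ 2 ∣ Nat.card H := by
      intro h
      have h4 := h.trans h1
      rw [← Nat.mul_factorial_pred hp.ne_zero, pow_two] at h4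
      have h5 := Nat.dvd_of_mul_dvd_mul_left hp.pos h4
      rw [hp.dvd_factorial] at h5
      have := hp.pos
      omega
    have hne : Nat.card H ≠ 0 := Nat.card_pos.ne'
    apply le_antisymm
    · by_contra hcon
      exact h3 ((hp.pow_dvd_iff_le_factorization hne).2 (by omega))
    · exact (hp.dvd_iff_one_le_factorization hne).1 h2
  -- for each permutation σ preserving D there is u ∈ G normalising ⟨g⟩ and inducing σ on D
  have key : ∀ f : α → α, Set.InjOn f D → (∀ t ∈ D, f t ∈ D) → ∃ u : G, (∀ t ∈ D, u • t = f t) ∧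
      ∃ i : ℤ, (u : Equiv.Perm α) * g * (u : Equiv.Perm α)⁻¹ = g ^ i := by
    intro f hf hfD
    obtain ⟨y, hy⟩ := exists_of_multTrans hmt D rfl f hf
    have hfs : ∀ t ∈ D, ∃ t' ∈ D, f t' = t := by
      intro t ht
      have himg : D.image f = D := Finset.eq_of_subset_of_card_le
        (by intro z hz; rw [Finset.mem_image] at hz; obtain ⟨w, hw, rfl⟩ := hz; exact hfD w hw)
        (by rw [Finset.card_image_of_injOn hf])
      rw [← himg, Finset.mem_image] at ht
      exact ht
    -- conjugate of g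
    have hconj : y * ⟨g, hg⟩ * y⁻¹ ∈ H := by
      rw [hH]
      intro t ht
      obtain ⟨t', ht', rfl⟩ := hfs t ht
      rw [← hy t' ht', mul_smul, mul_smul, inv_smul_smul, (hH _).1 hgH t' ht']
    let g2 : H := ⟨_, hconj⟩
    have hordg2 : orderOf g2 = p := by
      rw [← Subgroup.orderOf_coe g2]
      show orderOf (y * ⟨g, hg⟩ * y⁻¹) = p
      have : y * (⟨g, hg⟩ : G) * y⁻¹ = MulAut.conj y ⟨g, hg⟩ := rfl
      rw [this, MulEquiv.orderOf_eq, ← hordgH, ← Subgroup.orderOf_coe gH]
    let P1 : Sylow p H := Sylow.ofCard (Subgroup.zpowers gH) (by rw [Nat.card_zpowers, hordgH, hcardH, pow_one])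
    let P2 : Sylow p H := Sylow.ofCard (Subgroup.zpowers g2) (by rw [Nat.card_zpowers, hordg2, hcardH, pow_one])
    obtain ⟨h, hh⟩ := MulAction.exists_smul_eq H P2 P1
    have hmem : h * g2 * h⁻¹ ∈ (P1 : Subgroup H) := by
      rw [← hh, Sylow.coe_subgroup_smul]
      exact Subgroup.smul_mem_pointwise_smul _ (MulAut.conj h) _ (Subgroup.mem_zpowers g2)
    obtain ⟨i, hi⟩ := Subgroup.mem_zpowers_iff.1 (show h * g2 * h⁻¹ ∈ Subgroup.zpowers gH from hmem)
    refine ⟨(h : G) * y, ?_, i, ?_⟩
    · intro t ht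
      rw [mul_smul, hy t ht]
      exact (hH _).1 h.2 _ (hfD t ht)
    · have h5 := congrArg (fun z : H => ((z : G) : Equiv.Perm α)) hi
      simp only [Subgroup.coe_zpow, Subgroup.coe_mul, Subgroup.coe_inv, gH, g2] at h5
      rw [h5]
      simp only [Subgroup.coe_mul, mul_inv_rev, mul_assoc]
  -- three points
  obtain ⟨D3, hD3, hD3c⟩ := Finset.exists_subset_card_eq (s := D) (n := 3) (by omega)
  obtain ⟨x, y, z, hxy, hxz, hyz, rfl⟩ := Finset.card_eq_three.1 hD3c
  have hx : x ∈ D := hD3 (by simp)
  have hy : y ∈ D := hD3 (by simp)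
  have hz : z ∈ D := hD3 (by simp)
  have hswapD : ∀ {a b : α}, a ∈ D → b ∈ D → ∀ t ∈ D, Equiv.swap a b t ∈ D := by
    intro a b ha hb t ht
    rw [Equiv.swap_apply_def]
    split_ifs
    · exact hb
    · exact ha
    · exact ht
  obtain ⟨u, hu, i, hui⟩ := key (Equiv.swap x y) (Equiv.injective _).injOn (hswapD hx hy)
  obtain ⟨v, hv, j, hvj⟩ := key (Equiv.swap y z) (Equiv.injective _).injOn (hswapD hy hz)
  have hui' : ∀ t ∈ D, (u⁻¹ : G) • t = Equiv.swap x y t := by
    intro t ht
    rw [inv_smul_eq_iff, hu _ (hswapD hx hy t ht), Equiv.swap_apply_self]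
  have hvi' : ∀ t ∈ D, (v⁻¹ : G) • t = Equiv.swap y z t := by
    intro t ht
    rw [inv_smul_eq_iff, hv _ (hswapD hy hz t ht), Equiv.swap_apply_self]
  -- c = u⁻¹ v⁻¹ u v commutes with g
  let U : Equiv.Perm α := u.1
  let V : Equiv.Perm α := v.1
  change U * g * U⁻¹ = g ^ i at hui
  change V * g * V⁻¹ = g ^ j at hvj
  have hUg : U * g = g ^ i * U := by rw [← hui]; group
  have hVg : V * g = g ^ j * V := by rw [← hvj]; group
  have hUgj : ∀ k : ℤ, U * g ^ k = g ^ (i * k) * U := by
    intro k
    have : U * g ^ k * U⁻¹ = (U * g * U⁻¹) ^ k := by rw [← conj_zpow]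
    rw [hui, ← zpow_mul] at this
    rw [← this]; group
  have hVgj : ∀ k : ℤ, V * g ^ k = g ^ (j * k) * V := by
    intro k
    have : V * g ^ k * V⁻¹ = (V * g * V⁻¹) ^ k := by rw [← conj_zpow]
    rw [hvj, ← zpow_mul] at this
    rw [← this]; group
  have huv : U * V * g = g ^ (i * j) * (U * V) := by
    rw [mul_assoc, hVg, ← mul_assoc, hUgj, mul_assoc]
  have hvu : V * U * g = g ^ (i * j) * (V * U) := by
    rw [mul_assoc, hUg, ← mul_assoc, hVgj, mul_assoc, mul_comm j i]
  have hc : ((V * U)⁻¹ * (U * V)) * g = g * ((V * U)⁻¹ * (U * V)) := by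
    rw [mul_assoc, huv, ← mul_assoc, ← mul_assoc g]
    congr 1
    rw [inv_mul_eq_iff_eq_mul, ← mul_assoc, hvu, mul_assoc, mul_inv_cancel, mul_one]
  obtain ⟨k, hk⟩ := commute_cycle hgc hc
  -- the three-cycle
  have hw : ((V * U)⁻¹ * (U * V)) * (g ^ k)⁻¹ = (Equiv.swap x y * Equiv.swap y z) * (Equiv.swap x y * Equiv.swap y z) := by
    ext t
    by_cases ht : t ∈ D
    · have hgt : (g ^ k)⁻¹ t = t := by
        rw [hD, Finset.mem_compl, Equiv.Perm.notMem_support] at ht
        rw [← zpow_neg]
        exact Equiv.Perm.zpow_apply_eq_self_of_apply_eq_self ht _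
      rw [Equiv.Perm.mul_apply, hgt, mul_inv_rev]
      simp only [Equiv.Perm.mul_apply]
      have e1 : V t = Equiv.swap y z t := hv t ht
      have e1m := hswapD hy hz t ht
      have e2 : U (Equiv.swap y z t) = Equiv.swap x y (Equiv.swap y z t) := hu _ e1m
      have e2m := hswapD hx hy _ e1m
      have e3 : V⁻¹ (Equiv.swap x y (Equiv.swap y z t)) = Equiv.swap y z (Equiv.swap x y (Equiv.swap y z t)) := hvi' _ e2m
      have e3m := hswapD hy hz _ e2m
      have e4 : U⁻¹ (Equiv.swap y z (Equiv.swap x y (Equiv.swap y z t))) = _ := hui' _ e3m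
      rw [e1, e2, e3, e4]
    · have ht' : t ∈ g.support := by
        by_contra hcon
        exact ht (by rw [hD, Finset.mem_compl]; exact hcon)
      have hgt : (g ^ k)⁻¹ t ∈ g.support := by
        rw [← zpow_neg, Equiv.Perm.zpow_apply_mem_support]; exact ht'
      rw [Equiv.Perm.mul_apply, hk _ hgt, ← Equiv.Perm.mul_apply, mul_inv_cancel, Equiv.Perm.one_apply]
      have hne : ∀ a ∈ D, t ≠ a := fun a ha h => ht (h ▸ ha)
      simp only [Equiv.Perm.mul_apply]
      rw [Equiv.swap_apply_of_ne_of_ne (hne y hy) (hne z hz), Equiv.swap_apply_of_ne_of_ne (hne x hx) (hne y hy),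
        Equiv.swap_apply_of_ne_of_ne (hne y hy) (hne z hz), Equiv.swap_apply_of_ne_of_ne (hne x hx) (hne y hy)]
  have h3c : (Equiv.swap x y * Equiv.swap y z).IsThreeCycle := by
    rw [Equiv.swap_comm x y]
    exact Equiv.Perm.isThreeCycle_swap_mul_swap_same (Ne.symm hxy) hyz hxz
  have h3c2 := h3c.isThreeCycle_sq
  refine Equiv.Perm.alternatingGroup_le_of_isPreprimitive_of_isThreeCycle_mem hG h3c2 ?_
  rw [← hw]
  exact G.mul_mem (G.mul_mem (G.inv_mem (G.mul_mem v.2 u.2)) (G.mul_mem u.2 v.2)) (G.inv_mem (G.zpow_mem hg k))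

end Cfsg.Agent.H9.Jordan
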