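import Mathlib.GroupTheory.GroupAction.MultiplePrimitivity
import Mathlib.GroupTheory.GroupAction.Jordan

set_option autoImplicit false

namespace Cfsg.Agent.H9.MultTrans

open MulAction SubMulAction

variable {G : Type*} [Group G] {α : Type*} [MulAction G α]

/-- If `G` is `m`-transitive and the pointwise stabiliser of one set with `m` elements is `k`-transitive on
the complement, then `G` is `(m + k)`-transitive. -/
theorem isMultiplyPretransitive_add {m k : ℕ} (h : IsMultiplyPretransitive G α m)
    (s : Set α) [Finite s] (hs : s.ncard = m)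
    (hk : IsMultiplyPretransitive (fixingSubgroup G s) (ofFixingSubgroup G s) k) :
    IsMultiplyPretransitive G α (m + k) := by
  classical
  have hcard : Nat.card s = m := by rw [Nat.card_coe_set_eq, hs]
  let e : Fin m ≃ s := (Finite.equivFinOfCardEq hcard).symm
  let es : Fin m ↪ α := e.toEmbedding.trans (Function.Embedding.subtype _)
  have key : ∀ x : Fin (m + k) ↪ α, ∃ g : G, ∃ x' : Fin k ↪ ofFixingSubgroup G s,
      (∀ i : Fin m, g • x (Fin.castAdd k i) = es i) ∧
      ∀ i : Fin k, g • x (Fin.natAdd m i) = (x' i : α) := by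
    intro x
    obtain ⟨g, hg⟩ := h.exists_smul_eq ((Fin.castAddEmb k).trans x) es
    have hg' : ∀ i : Fin m, g • x (Fin.castAdd k i) = es i := by
      intro i
      have := congrArg (fun f : Fin m ↪ α => f i) hg
      exact this
    refine ⟨g, ⟨fun i => ⟨g • x (Fin.natAdd m i), ?_⟩, ?_⟩, hg', fun i => rfl⟩
    · rw [mem_ofFixingSubgroup_iff]
      intro hmem
      have h1 : es (e.symm ⟨_, hmem⟩) = g • x (Fin.natAdd m i) := by
        simp [es]
      rw [← hg'] at h1
      have h2 := x.injective (MulAction.injective g h1)
      have h3 := congrArg Fin.val h2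
      have h4 := (e.symm ⟨_, hmem⟩).2
      simp only [Fin.val_castAdd, Fin.val_natAdd] at h3
      omega
    · intro i j hij
      have h1 := congrArg Subtype.val hij
      have h2 := x.injective (MulAction.injective g h1)
      exact Fin.natAdd_injective _ _ h2
  constructor
  intro x y
  obtain ⟨g1, x', hx1, hx2⟩ := key x
  obtain ⟨g2, y', hy1, hy2⟩ := key y
  obtain ⟨t, ht⟩ := hk.exists_smul_eq x' y'
  refine ⟨g2⁻¹ * (t : G) * g1, ?_⟩
  ext i
  change (g2⁻¹ * (t : G) * g1) • x i = y i
  rw [mul_smul, mul_smul, inv_smul_eq_iff]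
  induction i using Fin.addCases with
  | left i =>
    rw [hx1, hy1]
    have := t.2
    rw [mem_fixingSubgroup_iff] at this
    exact this _ (e i).2
  | right i =>
    rw [hx2, hy2]
    have := congrArg (fun f : Fin k ↪ ofFixingSubgroup G s => ((f i : ofFixingSubgroup G s) : α)) ht
    exact this

end Cfsg.Agent.H9.MultTrans
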