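import Cfsg.Agent.H9_MultTrans
import Mathlib

set_option autoImplicit false

namespace Cfsg.Agent.H9.MultTrans2

open MulAction SubMulAction
open scoped Pointwise

variable {G : Type*} [Group G] {α : Type*} [MulAction G α]

/-- `k`-transitivity from transitivity of pointwise stabilisers of all `(k-1)`-subsets. -/
theorem multTrans_of_fixing [Fintype α] {k : ℕ} (hk : 1 ≤ k) (hkn : k < Fintype.card α)
    (h : ∀ t : Finset α, t.card = k - 1 → ∀ x y : α, x ∉ t → y ∉ t →
      ∃ g : G, (∀ z ∈ t, g • z = z) ∧ g • x = y) :
    IsMultiplyPretransitive G α k := by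
  classical
  have h1 : ∀ t : Finset α, t.card ≤ k - 1 → ∀ x y : α, x ∉ t → y ∉ t →
      ∃ g : G, (∀ z ∈ t, g • z = z) ∧ g • x = y := by
    intro t ht x y hx hy
    -- enlarge t avoiding x,y
    obtain ⟨u, hu1, hu2, hu3⟩ := Finset.exists_subsuperset_card_eq (s := t) (t := Finset.univ \ {x, y})
      (n := k - 1) (by
        intro z hz
        simp only [Finset.mem_sdiff, Finset.mem_univ, Finset.mem_insert, Finset.mem_singleton, true_and]
        rintro (rfl | rfl)
        · exact hx hz
        · exact hy hz) ht (by
        have : (Finset.univ \ {x, y} : Finset α).card ≥ Fintype.card α - 2 := by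
          rw [Finset.card_sdiff_of_subset (Finset.subset_univ _), Finset.card_univ]
          have := Finset.card_le_two (a := x) (b := y)
          omega
        omega)
    obtain ⟨g, hg1, hg2⟩ := h u hu3 x y
      (fun hxu => by have := hu2 hxu; simp at this)
      (fun hyu => by have := hu2 hyu; simp at this)
    exact ⟨g, fun z hz => hg1 z (hu1 hz), hg2⟩
  have h2 : ∀ j : ℕ, j ≤ k → IsMultiplyPretransitive G α j := by
    intro j
    induction j with
    | zero => intro _; exact MulAction.is_zero_pretransitive'
    | succ j ih =>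
      intro hj
      have ih' := ih (by omega)
      obtain ⟨t, -, ht⟩ := Finset.exists_subset_card_eq (s := (Finset.univ : Finset α)) (n := j)
        (by rw [Finset.card_univ]; omega)
      refine H9.MultTrans.isMultiplyPretransitive_add (m := j) (k := 1) ih' (t : Set α) (by simp [ht]) ?_
      rw [is_one_pretransitive_iff]
      constructor
      rintro ⟨x, hx⟩ ⟨y, hy⟩
      rw [mem_ofFixingSubgroup_iff] at hx hy
      obtain ⟨g, hg1, hg2⟩ := h1 t (by omega) x y (by simpa using hx) (by simpa using hy)
      refine ⟨⟨g, ?_⟩, Subtype.ext hg2⟩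
      rw [mem_fixingSubgroup_iff]
      intro z hz
      exact hg1 z (by simpa using hz)
  exact h2 k le_rfl

/-- the sum over points of the orders of the stabilisers. -/
theorem sum_card_stabilizer (H : Type*) [Group H] [Finite H] (X : Type*) [Fintype X] [MulAction H X] :
    ∑ x : X, Nat.card (stabilizer H x) = Nat.card (orbitRel.Quotient H X) * Nat.card H := by
  classical
  have e1 : (Σ x : X, stabilizer H x) ≃ (Σ h : H, fixedBy X h) :=
    { toFun := fun p => ⟨p.2.1, p.1, p.2.2⟩
      invFun := fun p => ⟨p.2.1, p.1, p.2.2⟩
      left_inv := fun p => rfl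
      right_inv := fun p => rfl }
  have e2 := MulAction.sigmaFixedByEquivOrbitsProdGroup H X
  have e3 : Nat.card (Σ x : X, stabilizer H x) = Nat.card (orbitRel.Quotient H X × H) :=
    Nat.card_congr (e1.trans e2)
  rw [Nat.card_prod] at e3
  rw [← e3, Nat.card_sigma]

end Cfsg.Agent.H9.MultTrans2
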