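import Mathlib
import Cfsg.Prelude
import Cfsg.Agent.H9_PpU
import Cfsg.Agent.S1285
import Cfsg.Agent.S0205

set_option autoImplicit false

/-! S1936, part B: existence of a strongly embedded subgroup. -/

namespace Cfsg.Agent.H9.Pp

open Subgroup
open scoped Pointwise

universe u

variable {G : Type u} [Group G] [Finite G] {p : ℕ}

theorem solv_top (h : Group.IsSolvable (⊤ : Subgroup G)) : Group.IsSolvable G :=
  Group.isSolvable_of_surjective (f := (Subgroup.topEquiv (G := G)).toMonoidHom) Subgroup.topEquiv.surjective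

theorem MC.even (h : MC p G) : Even (Nat.card G) := by
  by_contra ho
  rw [Nat.not_even_iff_odd] at ho
  exact h.ns (Cfsg.Agent.S0205.result ho)

theorem MC.bot_or_top (h : MC p G) (N : Subgroup G) (hN : N.Normal) : N = ⊥ ∨ N = ⊤ := by
  haveI := h.simp
  exact hN.eq_bot_or_eq_top

theorem MC.cent_ne_top (h : MC p G) {a : G} (ha : a ≠ 1) : centralizer ({a} : Set G) ≠ ⊤ := by
  intro e
  have h1 : a ∈ center G := by
    rw [mem_center_iff]
    intro g
    have : g ∈ centralizer ({a} : Set G) := by rw [e]; trivial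
    exact (mem_centralizer_singleton_iff.mp this)
  rcases h.bot_or_top (center G) inferInstance with h2 | h2
  · rw [h2, mem_bot] at h1; exact ha h1
  · apply h.ns
    apply Group.isSolvable_of_comm
    intro x y
    have : y ∈ center G := by rw [h2]; trivial
    exact mem_center_iff.mp this x

theorem MC.norm_ne_top (h : MC p G) {N : Subgroup G} (h1 : N ≠ ⊥) (h2 : Group.IsSolvable N) :
    normalizer (N : Set G) ≠ ⊤ := by
  intro e
  rcases h.bot_or_top N (normalizer_eq_top_iff.mp e) with h3 | h3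
  · exact h1 h3
  · apply h.ns
    rw [h3] at h2
    exact solv_top h2

theorem MC.syl_comm (h : MC p G) (S : Sylow 2 G) : ∀ x ∈ S, ∀ y ∈ S, x * y = y * x :=
  h.ab _ (h.two S.isPGroup')

theorem MC.syl_ne_bot (h : MC p G) (S : Sylow 2 G) : (S : Subgroup G) ≠ ⊥ := by
  haveI : Fact (Nat.Prime 2) := ⟨Nat.prime_two⟩
  intro e
  have h1 := S.card_eq_multiplicity
  have h2 : 2 ∣ Nat.card G := h.even.two_dvd
  have h3 : 0 < (Nat.card G).factorization 2 := Nat.prime_two.factorization_pos_of_dvd Nat.card_pos.ne' h2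
  rw [e] at h1
  rw [card_bot] at h1
  have := Nat.one_lt_two_pow h3.ne'
  omega

theorem card_sup_dvd {R S : Subgroup G} (h : R ≤ normalizer (S : Set G)) :
    Nat.card (R ⊔ S : Subgroup G) ∣ Nat.card R * Nat.card S := by
  rw [← H1.Basic.relIndex_mul_card (le_sup_right : S ≤ R ⊔ S),
    H1.Basic.relIndex_sup_of_le_normalizer h]
  exact Nat.mul_dvd_mul_right (Subgroup.relIndex_dvd_card _ _) _

theorem MC.cent (h : MC p G) {R S : Subgroup G} (hR : (Nat.card R).Coprime p)
    (hS : (Nat.card S).Coprime p) (hRS : R ≤ normalizer (S : Set G)) :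
    R ≤ centralizer (S : Set G) := by
  have h8 : (Nat.card (R ⊔ S : Subgroup G)).Coprime p :=
    Nat.Coprime.coprime_dvd_left (card_sup_dvd hRS) (Nat.Coprime.mul_left hR hS)
  intro x hx
  rw [mem_centralizer_iff]
  intro y hy
  exact h.ab _ h8 y (mem_sup_right hy) x (mem_sup_left hx)

/-- a `p`-subgroup acting nontrivially on `S` -/
theorem MC.exists_act (h : MC p G) (S : Sylow 2 G) :
    ∃ X : Subgroup G, IsPGroup p X ∧ X ≤ normalizer ((S : Subgroup G) : Set G) ∧
      ¬ X ≤ centralizer ((S : Subgroup G) : Set G) := by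
  haveI : Fact (Nat.Prime 2) := ⟨Nat.prime_two⟩
  haveI : Fact p.Prime := ⟨h.pp⟩
  have h1 : ¬ normalizer ((S : Subgroup G) : Set G) ≤ centralizer ((S : Subgroup G) : Set G) := by
    intro hle
    have h2 := MonoidHom.ker_transferSylow_isComplement' S hle
    rcases h.bot_or_top (MonoidHom.transferSylow S hle).ker inferInstance with h3 | h3
    · rw [h3] at h2
      have h4 : (S : Subgroup G) = ⊤ := by
        have := h2.sup_eq_top
        rwa [bot_sup_eq] at this
      apply h.ns
      have h5 := S.isPGroup'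
      have h6 : Group.IsSolvable (S : Subgroup G) := by
        haveI := h5.isNilpotent
        infer_instance
      rw [h4] at h6
      exact solv_top h6
    · rw [h3] at h2
      have := h2.disjoint
      rw [disjoint_iff, top_inf_eq] at this
      exact h.syl_ne_bot S this
  by_contra hno
  push_neg at hno
  apply h1
  apply H1.Nilp.le_of_sylow_le
  intro r hr
  set N := normalizer ((S : Subgroup G) : Set G) with hN
  obtain ⟨Q⟩ : Nonempty (Sylow r N) := inferInstance
  refine ⟨Q, ?_⟩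
  have hQN : (Q : Subgroup N).map N.subtype ≤ N := map_subtype_le _
  have hQr : IsPGroup r ((Q : Subgroup N).map N.subtype) := Q.isPGroup'.map _
  by_cases hrp : r = p
  · subst hrp
    exact hno _ hQr hQN
  · refine h.cent ?_ (h.two S.isPGroup') hQN
    obtain ⟨k, hk⟩ := IsPGroup.iff_card.mp hQr
    rw [hk]
    exact Nat.Coprime.pow_left _ ((Nat.coprime_primes hr.out h.pp).mpr hrp)

/-- `Ω₁(S)` -/
def om (S : Sylow 2 G) (hS : ∀ x ∈ S, ∀ y ∈ S, x * y = y * x) : Subgroup G where
  carrier := {x | x ∈ S ∧ x ^ 2 = 1}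
  one_mem' := ⟨one_mem _, one_pow _⟩
  mul_mem' := by
    rintro x y ⟨hx, hx2⟩ ⟨hy, hy2⟩
    exact ⟨mul_mem hx hy, by rw [(show Commute x y from hS x hx y hy).mul_pow, hx2, hy2, one_mul]⟩
  inv_mem' := by
    rintro x ⟨hx, hx2⟩
    exact ⟨inv_mem hx, by rw [inv_pow, hx2, inv_one]⟩

theorem mem_om {S : Sylow 2 G} {hS : ∀ x ∈ S, ∀ y ∈ S, x * y = y * x} {x : G} :
    x ∈ om S hS ↔ x ∈ S ∧ x ^ 2 = 1 := Iff.rfl

theorem om_card (h : MC p G) (S : Sylow 2 G) : 2 ^ 3 ≤ Nat.card (om S (h.syl_comm S)) := by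
  haveI : Fact (Nat.Prime 2) := ⟨Nat.prime_two⟩
  haveI : Fact p.Prime := ⟨h.pp⟩
  obtain ⟨X, hX, hXN, hXC⟩ := h.exists_act S
  haveI : IsMulCommutative (S : Subgroup G) :=
    ⟨⟨fun a b => Subtype.ext (h.syl_comm S a a.2 b b.2)⟩⟩
  have hcop : (Nat.card X).Coprime (Nat.card (S : Subgroup G)) := by
    obtain ⟨k, hk⟩ := IsPGroup.iff_card.mp hX
    rw [hk]
    exact ((h.two S.isPGroup').symm.pow_left k)
  obtain ⟨v, hv, hv2, a, ha, hav⟩ : ∃ v ∈ (S : Subgroup G), orderOf v = 2 ∧ ∃ a ∈ X, a * v ≠ v * a := by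
    by_contra hno
    push_neg at hno
    apply hXC
    apply H1.Coprime.abelian_trivial_of_prime_order X (S : Subgroup G) hXN hcop
    intro v hv hvp b hb
    have h1 : orderOf v = 2 := by
      obtain ⟨k, hk⟩ := (IsPGroup.iff_orderOf.mp S.isPGroup') ⟨v, hv⟩
      rw [Subgroup.orderOf_mk] at hk
      rw [hk] at hvp
      have := (Nat.Prime.eq_one_or_self_of_dvd hvp 2 (dvd_pow_self 2 (by rintro rfl; simp at hvp; exact Nat.not_prime_one hvp)))
      rw [hk]; omega
    exact hno v hv h1 b hb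
  -- orbit of v under X
  letI : MulAction X G := MulAction.compHom G ((MulAut.conj : G →* MulAut G).comp X.subtype)
  have hsm : ∀ (x : X) (g : G), x • g = x * g * (x : G)⁻¹ := fun x g => rfl
  have hfin : Finite (MulAction.orbit X v) := inferInstance
  obtain ⟨n, hn⟩ := hX.card_orbit v
  have hsub : MulAction.orbit X v ⊆ (om S (h.syl_comm S) : Set G) := by
    rintro _ ⟨x, rfl⟩
    change x • v ∈ _
    rw [hsm]
    refine ⟨(mem_normalizer_iff.mp (hXN x.2) v).mp hv, ?_⟩
    rw [conj_pow, ← hv2, pow_orderOf_eq_one]; group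
  have hn0 : n ≠ 0 := by
    rintro rfl
    rw [pow_zero, Nat.card_eq_one_iff_unique] at hn
    obtain ⟨hs, -⟩ := hn
    have h1 : (⟨a, ha⟩ : X) • v ∈ MulAction.orbit X v := MulAction.mem_orbit _ _
    have h2 : v ∈ MulAction.orbit X v := MulAction.mem_orbit_self _
    have : (⟨a, ha⟩ : X) • v = v := congrArg Subtype.val (hs.elim ⟨_, h1⟩ ⟨v, h2⟩)
    rw [hsm] at this
    exact hav (mul_inv_eq_iff_eq_mul.mp this)
  have h1 : 5 ≤ Nat.card (om S (h.syl_comm S)) := by
    calc 5 ≤ p := h.p5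
      _ ≤ p ^ n := Nat.le_self_pow hn0 p
      _ = Nat.card (MulAction.orbit X v) := hn.symm
      _ ≤ _ := Nat.card_mono (Set.toFinite _) hsub
  have h2 : IsPGroup 2 (om S (h.syl_comm S)) := by
    intro x
    exact ⟨1, Subtype.ext (by simpa using x.2.2)⟩
  obtain ⟨k, hk⟩ := IsPGroup.iff_card.mp h2
  rw [hk] at h1 ⊢
  have : 3 ≤ k := by
    by_contra hlt
    have : k ≤ 2 := by omega
    have := Nat.pow_le_pow_right (n := 2) (by norm_num) this
    omega
  exact Nat.pow_le_pow_right (by norm_num) this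

/-- the signalizer functor `a ↦ O_p(C(a))` -/
def th (p : ℕ) (a : G) : Subgroup G :=
  (Cfsg.pCore p (centralizer ({a} : Set G))).map (centralizer ({a} : Set G)).subtype

theorem th_norm (p : ℕ) (a : G) {c x : G} (hc : c ∈ centralizer ({a} : Set G)) (hx : x ∈ th p a) :
    c * x * c⁻¹ ∈ th p a := by
  obtain ⟨y, hy, rfl⟩ := hx
  exact ⟨⟨c, hc⟩ * y * ⟨c, hc⟩⁻¹, (H1.Nilp.pCore_normal p).conj_mem _ hy _, rfl⟩

theorem th_pgroup (h : MC p G) (a : G) : IsPGroup p (th p a) := by
  haveI : Fact p.Prime := ⟨h.pp⟩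
  exact (H1.Nilp.pCore_isPGroup p).map _

theorem functor (h : MC p G) (S : Sylow 2 G) :
    Cfsg.IsSolvableSignalizerFunctor 2 (om S (h.syl_comm S)) (th p) := by
  haveI : Fact (Nat.Prime 2) := ⟨Nat.prime_two⟩
  haveI : Fact p.Prime := ⟨h.pp⟩
  refine ⟨⟨?_, ?_, ?_, ?_⟩, ?_⟩
  · intro a ha ha1
    exact map_subtype_le _
  · intro a ha ha1 h2
    obtain ⟨k, hk⟩ := IsPGroup.iff_card.mp (th_pgroup h a)
    rw [hk] at h2
    have := (Nat.prime_dvd_prime_iff_eq Nat.prime_two h.pp).mp (Nat.prime_two.dvd_of_dvd_pow h2)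
    have := h.p5
    omega
  · intro a ha ha1 b hb x hx
    exact th_norm p a (mem_centralizer_singleton_iff.mpr (h.syl_comm S b hb.1 a ha.1)) hx
  · intro a ha ha1 b hb hb1
    set Y := centralizer ({b} : Set G) with hY
    haveI := h.sub Y (h.cent_ne_top hb1)
    have hab : a * b = b * a := h.syl_comm S a ha.1 b hb.1
    have haY : a ∈ Y := mem_centralizer_singleton_iff.mpr hab
    have hac : (Nat.card (zpowers (⟨a, haY⟩ : Y))).Coprime p := by
      rw [Nat.card_zpowers, Subgroup.orderOf_mk, orderOf_eq_prime ha.2 ha1]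
      exact (Nat.coprime_primes Nat.prime_two h.pp).mpr (by have := h.p5; omega)
    obtain ⟨L, hL1, hL2, hL3⟩ := exists_hall_ge (Y := Y) p hac
    have hLab := h.ab' Y L hL2
    have haL : (⟨a, haY⟩ : Y) ∈ L := hL1 (mem_zpowers _)
    have key : (th p a ⊓ Y).subgroupOf Y ≤ Cfsg.pCore p Y := by
      apply psub_le p hLab hL2 hL3
      · have h1 : IsPGroup p (th p a ⊓ Y : Subgroup G) := (th_pgroup h a).to_le inf_le_left
        exact h1.comap_subtype
      · intro l hl
        have hla : (l : G) ∈ centralizer ({a} : Set G) :=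
          mem_centralizer_singleton_iff.mpr (congrArg Subtype.val (hLab l hl _ haL))
        rw [mem_normalizer_iff]
        intro z
        simp only [mem_subgroupOf, mem_inf]
        constructor
        · rintro ⟨h1, h2⟩
          exact ⟨th_norm p a hla h1, (l * z * l⁻¹).2⟩
        · rintro ⟨h1, h2⟩
          refine ⟨?_, z.2⟩
          have := th_norm p a (inv_mem hla) h1
          simpa [mul_assoc] using this
    intro x hx
    exact ⟨⟨x, hx.2⟩, key (mem_subgroupOf.mpr hx), rfl⟩
  · intro a ha ha1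
    haveI := (th_pgroup h a).isNilpotent
    infer_instance

end Cfsg.Agent.H9.Pp
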