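import Mathlib
import Cfsg.Prelude
import Cfsg.Agent.H9_PpB

set_option autoImplicit false

/-! S1936, part C: existence of a strongly embedded subgroup. -/

namespace Cfsg.Agent.H9.Pp

open Subgroup
open scoped Pointwise

universe u

variable {G : Type u} [Group G] [Finite G] {p : ℕ}

theorem le_core {p : ℕ} {Y W : Subgroup G} (hWY : W ≤ Y) (hW : IsPGroup p W)
    (hN : Y ≤ normalizer (W : Set G)) : W ≤ (Cfsg.pCore p Y).map Y.subtype := by
  have h1 : (W.subgroupOf Y).Normal := (Subgroup.normal_subgroupOf_iff_le_normalizer hWY).mpr hN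
  have h2 : W.subgroupOf Y ≤ Cfsg.pCore p Y := H1.Nilp.le_pCore h1 hW.comap_subtype
  intro x hx
  exact ⟨⟨x, hWY hx⟩, h2 (mem_subgroupOf.mpr hx), rfl⟩

theorem th_conj [hp : Fact p.Prime] {a n x : G} (hx : x ∈ th p a) : n * x * n⁻¹ ∈ th p (n * a * n⁻¹) := by
  have h1 : (th p a).map (MulAut.conj n).toMonoidHom ≤ th p (n * a * n⁻¹) := by
    apply le_core
    · rintro _ ⟨y, hy, rfl⟩
      have hy' : y ∈ centralizer ({a} : Set G) := map_subtype_le _ hy
      rw [mem_centralizer_singleton_iff] at hy' ⊢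
      simp only [MulEquiv.coe_toMonoidHom, MulAut.conj_apply]
      have : n * y * n⁻¹ * (n * a * n⁻¹) = n * (y * a) * n⁻¹ := by group
      rw [this, hy']; group
    · exact ((H1.Nilp.pCore_isPGroup p).map _).map _
    · have key : ∀ c ∈ centralizer ({n * a * n⁻¹} : Set G), ∀ z ∈ (th p a).map (MulAut.conj n).toMonoidHom,
          c * z * c⁻¹ ∈ (th p a).map (MulAut.conj n).toMonoidHom := by
        rintro c hc _ ⟨y, hy, rfl⟩
        have hc' : n⁻¹ * c * n ∈ centralizer ({a} : Set G) := by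
          rw [mem_centralizer_singleton_iff] at hc ⊢
          have e1 : n⁻¹ * c * n * a = n⁻¹ * (c * (n * a * n⁻¹)) * n := by group
          rw [e1, hc]; group
        refine ⟨_, th_norm p a hc' hy, ?_⟩
        simp only [MulEquiv.coe_toMonoidHom, MulAut.conj_apply]
        group
      intro c hc
      rw [mem_normalizer_iff]
      intro z
      refine ⟨key c hc z, fun hz => ?_⟩
      have := key c⁻¹ (inv_mem hc) _ hz
      simpa [mul_assoc] using this
  exact h1 ⟨x, hx, rfl⟩

theorem exists_se (h : MC p G) : ∃ H : Subgroup G, Cfsg.IsStronglyEmbedded H := by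
  haveI : Fact (Nat.Prime 2) := ⟨Nat.prime_two⟩
  haveI : Fact p.Prime := ⟨h.pp⟩
  have hp2 : p ≠ 2 := by have := h.p5; omega
  obtain ⟨S⟩ : Nonempty (Sylow 2 G) := inferInstance
  have hSc := h.syl_comm S
  set A := om S hSc with hA
  have hAe : Cfsg.IsElementaryAbelian 2 A :=
    ⟨⟨⟨fun a b => Subtype.ext (hSc a a.2.1 b b.2.1)⟩⟩, fun a ha => ha.2⟩
  obtain ⟨-, X, hX1, hX2, hX3⟩ := Cfsg.Agent.S1285.result 2 A hAe (om_card h S) (th p)
    (functor h S) p (fun a _ _ => th_pgroup h a)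
  set V : Subgroup G := ⨆ a : {a : G // a ∈ A ∧ a ≠ 1}, th p (a : G) with hV
  have hthV : ∀ a ∈ A, a ≠ 1 → th p a ≤ V := fun a ha ha1 =>
    le_iSup (fun a : {a : G // a ∈ A ∧ a ≠ 1} => th p (a : G)) ⟨a, ha, ha1⟩
  have hVX : V ≤ X := iSup_le (fun a => by
    rw [← hX3 a a.2.1 a.2.2]; exact inf_le_left)
  have hVodd : ¬ 2 ∣ Nat.card V := fun hd => hX2 (hd.trans (Subgroup.card_dvd_of_le hVX))
  set N := normalizer ((S : Subgroup G) : Set G) with hN
  have hNV : N ≤ normalizer (V : Set G) := by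
    have key : ∀ n ∈ N, ∀ x ∈ V, n * x * n⁻¹ ∈ V := by
      intro n hn x hx
      have : V ≤ V.comap (MulAut.conj n).toMonoidHom := by
        conv_lhs => rw [hV]
        apply iSup_le
        rintro ⟨a, ha, ha1⟩ y hy
        rw [mem_comap]
        have hna : n * a * n⁻¹ ∈ A := ⟨(mem_normalizer_iff.mp hn a).mp ha.1, by
          rw [conj_pow, ha.2]; group⟩
        have hna1 : n * a * n⁻¹ ≠ 1 := by
          intro e; apply ha1; rwa [conj_eq_one_iff] at e
        exact hthV _ hna hna1 (th_conj hy)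
      exact this hx
    intro n hn
    rw [mem_normalizer_iff]
    intro x
    refine ⟨key n hn x, fun hx => ?_⟩
    have := key n⁻¹ (inv_mem hn) _ hx
    simpa [mul_assoc] using this
  set H := V ⊔ N with hH
  have hSH : (S : Subgroup G) ≤ H := le_normalizer.trans le_sup_right
  have hS1 := h.syl_ne_bot S
  have hVn : H ≤ normalizer (V : Set G) := sup_le le_normalizer hNV
  have hVs : V ≠ ⊤ := by
    intro e
    rw [e, card_top] at hVodd
    exact hVodd h.even.two_dvd
  have hSt : (S : Subgroup G) ≠ ⊤ := by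
    intro e
    apply h.ns
    apply Group.isSolvable_of_comm
    intro x y
    exact hSc x (by change x ∈ (S : Subgroup G); rw [e]; trivial) y (by change y ∈ (S : Subgroup G); rw [e]; trivial)
  have hHt : H ≠ ⊤ := by
    intro e
    by_cases hV0 : V = ⊥
    · have hNt : N = ⊤ := by rw [← e, hH, hV0, bot_sup_eq]
      exact h.norm_ne_top hS1 (h.sub _ hSt) hNt
    · apply h.norm_ne_top hV0 (h.sub _ hVs)
      rw [eq_top_iff, ← e]; exact hVn
  have hCH : ∀ a ∈ A, a ≠ 1 → centralizer ({a} : Set G) ≤ H := by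
    intro a ha ha1
    set Y := centralizer ({a} : Set G) with hY
    haveI := h.sub Y (h.cent_ne_top ha1)
    have hSY : (S : Subgroup G) ≤ Y := fun s hs =>
      mem_centralizer_singleton_iff.mpr (hSc s hs a ha.1)
    have htop := core_sup_normalizer (Y := Y) p hp2 (h.ab' Y) (S.subtype hSY)
    haveI hOn := H1.Nilp.pCore_normal (G := Y) p
    intro g hg
    have hg' : (⟨g, hg⟩ : Y) ∈ Cfsg.pCore p Y ⊔ normalizer (((S.subtype hSY : Sylow 2 Y) : Subgroup Y) : Set Y) := by
      rw [htop]; trivial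
    rw [← SetLike.mem_coe, Subgroup.normal_mul] at hg'
    obtain ⟨x, hx, b, hb, hxb⟩ := hg'
    have e : g = (x : G) * (b : G) := by
      have := congrArg Subtype.val hxb
      simpa using this.symm
    rw [e]
    refine mul_mem (mem_sup_left (hthV a ha ha1 (mem_map_of_mem Y.subtype hx))) (mem_sup_right ?_)
    change (b : G) ∈ normalizer ((S : Subgroup G) : Set G)
    rw [mem_normalizer_iff]
    rw [SetLike.mem_coe, mem_normalizer_iff] at hb
    intro s
    constructor
    · intro hs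
      have := (hb ⟨s, hSY hs⟩).mp (by rw [Sylow.coe_subtype, mem_subgroupOf]; exact hs)
      rw [Sylow.coe_subtype, mem_subgroupOf] at this
      exact this
    · intro hs
      have hsY : s ∈ Y := by
        have h1 := mul_mem (mul_mem (inv_mem b.2) (hSY hs)) b.2
        simpa [mul_assoc] using h1
      have := (hb ⟨s, hsY⟩).mpr (by rw [Sylow.coe_subtype, mem_subgroupOf]; exact hs)
      rw [Sylow.coe_subtype, mem_subgroupOf] at this
      exact this
  -- every involution of H is H-conjugate into S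
  have hconj : ∀ t ∈ H, orderOf t = 2 → ∃ k ∈ H, k⁻¹ * t * k ∈ A ∧ k⁻¹ * t * k ≠ 1 := by
    intro t ht ht2
    have h1 : IsPGroup 2 (zpowers (⟨t, ht⟩ : H)) :=
      H4.Util.zpowers_isPGroup (k := 1) (by rw [Subgroup.orderOf_mk]; simpa using ht2)
    obtain ⟨Q, hQ⟩ := h1.exists_le_sylow
    obtain ⟨k, hk⟩ := MulAction.exists_smul_eq H (S.subtype hSH) Q
    have h2 : (⟨t, ht⟩ : H) ∈ (k • (S.subtype hSH) : Sylow 2 H) := by
      rw [hk]; exact hQ (mem_zpowers _)
    have h3 : k⁻¹ * (⟨t, ht⟩ : H) * k ∈ ((S.subtype hSH : Sylow 2 H) : Subgroup H) := by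
      have h2' : (⟨t, ht⟩ : H) ∈ ((k • (S.subtype hSH) : Sylow 2 H) : Subgroup H) := h2
      rw [Sylow.coe_subgroup_smul, Subgroup.mem_pointwise_smul_iff_inv_smul_mem] at h2'
      simpa [MulAut.smul_def, mul_assoc] using h2'
    rw [Sylow.coe_subtype, mem_subgroupOf] at h3
    have ht1 : t ≠ 1 := by rintro rfl; simp at ht2
    refine ⟨k, k.2, ⟨h3, ?_⟩, ?_⟩
    · have e1 : ((k : G)⁻¹ * t * k) ^ 2 = (k : G)⁻¹ * t ^ 2 * k := by
        rw [pow_two, pow_two]; group
      rw [e1, ← ht2, pow_orderOf_eq_one]; group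
    · intro e1
      apply ht1
      have : t = k * ((k : G)⁻¹ * t * k) * (k : G)⁻¹ := by group
      rw [this, e1]; group
  haveI : IsMulCommutative (S : Subgroup G) :=
    ⟨⟨fun a b => Subtype.ext (hSc a a.2 b b.2)⟩⟩
  refine ⟨H, hHt, ?_, ?_⟩
  · have h1 : 2 ∣ Nat.card (S : Subgroup G) := by
      obtain ⟨k, hk⟩ := IsPGroup.iff_card.mp S.isPGroup'
      rw [hk]
      apply dvd_pow_self
      rintro rfl
      rw [pow_zero] at hk
      exact hS1 (Subgroup.card_eq_one.mp hk)
    exact even_iff_two_dvd.mpr (h1.trans (Subgroup.card_dvd_of_le hSH))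
  · intro g hg
    rw [← Nat.not_even_iff_odd]
    intro hev
    apply hg
    obtain ⟨t, ht⟩ := exists_prime_orderOf_dvd_card' (G := (H ⊓ H.map (MulAut.conj g).toMonoidHom : Subgroup G)) 2 hev.two_dvd
    have ht2 : orderOf (t : G) = 2 := by rw [Subgroup.orderOf_coe]; exact ht
    obtain ⟨htH, htg⟩ := (H4.SE.mem_inf_conj H g t).mp t.2
    have ht2' : orderOf (g⁻¹ * (t : G) * g) = 2 := by
      have := H4.Inv.orderOf_conj g⁻¹ (t : G)
      rw [inv_inv] at this
      rw [this, ht2]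
    obtain ⟨k1, hk1, hA1, hn1⟩ := hconj t htH ht2
    obtain ⟨k2, hk2, hA2, hn2⟩ := hconj _ htg ht2'
    set s1 := k1⁻¹ * (t : G) * k1 with hs1
    set x := k1⁻¹ * g * k2 with hx
    have hs2 : k2⁻¹ * (g⁻¹ * (t : G) * g) * k2 = x⁻¹ * s1 * x := by rw [hx, hs1]; group
    rw [hs2] at hA2
    obtain ⟨n, hn, hnx⟩ := Sylow.conj_eq_normalizer_conj_of_mem S s1 x hA1.1 hA2.1
    have hxn : x * n⁻¹ ∈ centralizer ({s1} : Set G) := by
      rw [mem_centralizer_singleton_iff]
      have e1 : x * n⁻¹ * s1 = x * (n⁻¹ * s1 * n) * n⁻¹ := by group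
      rw [e1, ← hnx]; group
    have hxH : x ∈ H := by
      have := mul_mem (hCH s1 hA1 hn1 hxn) (mem_sup_right (S := V) (T := N) hn)
      rwa [inv_mul_cancel_right] at this
    have : g = k1 * x * k2⁻¹ := by rw [hx]; group
    rw [this]
    exact mul_mem (mul_mem hk1 hxH) (inv_mem hk2)

end Cfsg.Agent.H9.Pp
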