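import Mathlib
import Cfsg.Prelude
import Cfsg.Agent.H9_PpC

set_option autoImplicit false

/-! S1936, part D: two point stabilizers. -/

namespace Cfsg.Agent.H9.Pp

open Subgroup MulAction
open scoped Pointwise

universe u

variable {G : Type u} [Group G] [Finite G] {p : ℕ} {H : Subgroup G}

theorem fixes_commute (hH : Cfsg.IsStronglyEmbedded H) {a b : G} (ha : orderOf a = 2)
    (hab : a * b = b * a) {x : G ⧸ H} (hx : a • x = x) : b • x = x := by
  apply H4.SE.fix_unique hH ha _ hx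
  rw [← mul_smul, hab, mul_smul, hx]

/-- the number of involutions in `H` is at least 2: a pair of commuting involutions at each point -/
theorem exists_four (h : MC p G) (hH : Cfsg.IsStronglyEmbedded H) (x : G ⧸ H) :
    ∃ a b : G, orderOf a = 2 ∧ orderOf b = 2 ∧ a ≠ b ∧ a * b = b * a ∧ a • x = x ∧ b • x = x := by
  haveI : Fact (Nat.Prime 2) := ⟨Nat.prime_two⟩
  obtain ⟨S⟩ : Nonempty (Sylow 2 G) := inferInstance
  have hSc := h.syl_comm S
  have h1 := om_card h S
  obtain ⟨a, ha, ha1⟩ : ∃ a ∈ om S hSc, a ≠ 1 := by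
    by_contra hno
    push_neg at hno
    have : om S hSc = ⊥ := (eq_bot_iff_forall _).mpr hno
    rw [this, card_bot] at h1
    omega
  obtain ⟨b, hb, hb1⟩ : ∃ b ∈ om S hSc, b ∉ zpowers a := by
    by_contra hno
    push_neg at hno
    have h2 : om S hSc ≤ zpowers a := hno
    have h3 := Subgroup.card_le_of_le h2
    rw [Nat.card_zpowers, orderOf_eq_prime ha.2 ha1] at h3
    omega
  have hb2 : b ≠ 1 := by rintro rfl; exact hb1 (one_mem _)
  have hab : a ≠ b := by rintro rfl; exact hb1 (mem_zpowers _)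
  have oa := orderOf_eq_prime ha.2 ha1
  have ob := orderOf_eq_prime hb.2 hb2
  obtain ⟨y, hy⟩ := H4.SE.fix_exists hH oa
  obtain ⟨g, rfl⟩ := MulAction.exists_smul_eq G y x
  have hby := fixes_commute hH oa (hSc a ha.1 b hb.1) hy
  refine ⟨g * a * g⁻¹, g * b * g⁻¹, ?_, ?_, ?_, ?_, ?_, ?_⟩
  · rw [H4.Inv.orderOf_conj, oa]
  · rw [H4.Inv.orderOf_conj, ob]
  · intro e; apply hab; simpa using e
  · have := hSc a ha.1 b hb.1
    have e1 : g * a * g⁻¹ * (g * b * g⁻¹) = g * (a * b) * g⁻¹ := by group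
    rw [e1, this]; group
  · rw [← mul_smul, inv_mul_cancel_right, mul_smul, hy]
  · rw [← mul_smul, inv_mul_cancel_right, mul_smul, hby]

theorem stab_se (h : MC p G) (hH : Cfsg.IsStronglyEmbedded H) (x : G ⧸ H) :
    Cfsg.IsStronglyEmbedded (stabilizer G x) := by
  refine ⟨?_, ?_, ?_⟩
  · intro e
    apply hH.1
    rw [eq_top_iff]
    intro g _
    obtain ⟨k, hk⟩ := QuotientGroup.mk_surjective x
    have h1 : k * g * k⁻¹ ∈ stabilizer G x := by rw [e]; trivial
    rw [mem_stabilizer_iff, ← hk, H4.SE.smul_mk_eq_iff] at h1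
    simpa [mul_assoc] using h1
  · obtain ⟨a, b, ha, -, -, -, hx, -⟩ := exists_four h hH x
    exact H4.SE.even_of_mem ha (mem_stabilizer_iff.mpr hx)
  · intro g hg
    rw [← Nat.not_even_iff_odd]
    intro hev
    haveI : Fact (Nat.Prime 2) := ⟨Nat.prime_two⟩
    obtain ⟨t, ht⟩ := exists_prime_orderOf_dvd_card' (G := (stabilizer G x ⊓ (stabilizer G x).map (MulAut.conj g).toMonoidHom : Subgroup G)) 2 hev.two_dvd
    have ht2 : orderOf (t : G) = 2 := by rw [Subgroup.orderOf_coe]; exact ht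
    obtain ⟨htH, htg⟩ := (H4.SE.mem_inf_conj _ g t).mp t.2
    rw [mem_stabilizer_iff] at htH htg
    apply hg
    rw [mem_stabilizer_iff]
    apply H4.SE.fix_unique hH ht2 _ htH
    have := congrArg (g • ·) htg
    simp only [← mul_smul] at this
    rw [← mul_smul]
    rwa [show g * (g⁻¹ * (t : G) * g) = t * g by group] at this

theorem MC.uniq' (h : MC p G) (hH : Cfsg.IsStronglyEmbedded H) {Y : Subgroup G}
    (hY : Y ≠ ⊤) {a b : G} (ha : a ∈ Y) (hb : b ∈ Y) (oa : orderOf a = 2) (ob : orderOf b = 2)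
    (hab : a ≠ b) (hc : a * b = b * a) {x : G ⧸ H} (hx : a • x = x) : Y ≤ stabilizer G x :=
  h.uniq (stab_se h hH x) hY ha hb oa ob hab hc (mem_stabilizer_iff.mpr hx)

/-- the two point stabilizer -/
abbrev St (x y : G ⧸ H) : Subgroup G := stabilizer G x ⊓ stabilizer G y

theorem mem_St {x y : G ⧸ H} {g : G} : g ∈ St x y ↔ g • x = x ∧ g • y = y := by
  rw [mem_inf, mem_stabilizer_iff, mem_stabilizer_iff]

theorem St_odd (hH : Cfsg.IsStronglyEmbedded H) {x y : G ⧸ H} (hxy : x ≠ y) :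
    Odd (Nat.card (St x y)) := by
  rw [← Nat.not_even_iff_odd]
  intro hev
  haveI : Fact (Nat.Prime 2) := ⟨Nat.prime_two⟩
  obtain ⟨t, ht⟩ := exists_prime_orderOf_dvd_card' (G := St x y) 2 hev.two_dvd
  have ht2 : orderOf (t : G) = 2 := by rw [Subgroup.orderOf_coe]; exact ht
  obtain ⟨h1, h2⟩ := mem_St.mp t.2
  exact hxy (H4.SE.fix_unique hH ht2 h1 h2)

theorem swap_back {u : G} (hu : orderOf u = 2) {x y : G ⧸ H} (hx : u • x = y) : u • y = x := by
  rw [← hx, ← mul_smul, ← pow_two, ← hu, pow_orderOf_eq_one, one_smul]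

/-- conjugacy of swapping involutions under the two point stabilizer -/
theorem swap_conj (hH : Cfsg.IsStronglyEmbedded H) {x y : G ⧸ H} (hxy : x ≠ y) {u v : G}
    (hu : orderOf u = 2) (hv : orderOf v = 2) (hux : u • x = y) (hvx : v • x = y) :
    ∃ d ∈ St x y, d * u * d⁻¹ = v := by
  have huy := swap_back hu hux
  have hvy := swap_back hv hvx
  have hd : v * u ∈ St x y := by
    rw [mem_St, mul_smul, mul_smul, hux, hvy, huy, hvx]; exact ⟨rfl, rfl⟩
  set d := v * u with hdd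
  have hodd : Odd (orderOf d) := by
    have h1 : orderOf d ∣ Nat.card (St x y) := by
      have := orderOf_dvd_natCard (⟨d, hd⟩ : St x y)
      rwa [Subgroup.orderOf_mk] at this
    exact (St_odd hH hxy).of_dvd_nat h1
  obtain ⟨k, hk⟩ := hodd
  have u2 : u * u = 1 := by rw [← pow_two, ← hu, pow_orderOf_eq_one]
  have v2 : v * v = 1 := by rw [← pow_two, ← hv, pow_orderOf_eq_one]
  have ui : u⁻¹ = u := inv_eq_of_mul_eq_one_left u2
  have vi : v⁻¹ = v := inv_eq_of_mul_eq_one_left v2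
  have hinv : u * d⁻¹ * u⁻¹ = d := by rw [hdd, mul_inv_rev, ui, vi]; simp [mul_assoc, u2, ← mul_assoc]
  have hinvn : ∀ n : ℕ, u * (d ^ n)⁻¹ = d ^ n * u := by
    intro n
    have h1 : u * (d⁻¹) ^ n * u⁻¹ = (u * d⁻¹ * u⁻¹) ^ n := (conj_pow).symm
    rw [hinv] at h1
    rw [← inv_pow]
    exact mul_inv_eq_iff_eq_mul.mp h1
  refine ⟨d ^ (k + 1), pow_mem hd _, ?_⟩
  rw [mul_assoc, hinvn, ← mul_assoc, ← pow_add, show k + 1 + (k + 1) = (2 * k + 1) + 1 by ring, ← hk,
    pow_succ, pow_orderOf_eq_one, one_mul, hdd, mul_assoc, u2, mul_one]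

/-- size of a conjugation orbit -/
theorem orb_card (P : Subgroup G) (x : G) :
    ({y | ∃ d ∈ P, d * x * d⁻¹ = y} : Set G).ncard = (centralizer ({x} : Set G)).relIndex P := by
  letI : MulAction P G := MulAction.compHom G ((MulAut.conj : G →* MulAut G).comp P.subtype)
  have hsm : ∀ (a : P) (g : G), a • g = a * g * (a : G)⁻¹ := fun x g => rfl
  have h1 : ({y | ∃ d ∈ P, d * x * d⁻¹ = y} : Set G) = orbit P x := by
    ext y
    constructor
    · rintro ⟨d, hd, rfl⟩; exact ⟨⟨d, hd⟩, rfl⟩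
    · rintro ⟨d, rfl⟩; exact ⟨d, d.2, rfl⟩
  have h2 : stabilizer P x = (centralizer ({x} : Set G)).subgroupOf P := by
    ext a
    rw [mem_stabilizer_iff, hsm, mem_subgroupOf, mem_centralizer_singleton_iff, mul_inv_eq_iff_eq_mul]
  rw [h1, ← MulAction.index_stabilizer, h2]
  rfl

/-- a Sylow subgroup is transitive on a set of prime power size -/
theorem syl_trans {D P₁ : Subgroup G} [hp : Fact p.Prime] (hPD : P₁ ≤ D) (hnd : ¬ p ∣ P₁.relIndex D)
    {X : Set G} {k : ℕ} (hX : X.ncard = p ^ k) (hD : ∀ d ∈ D, ∀ x ∈ X, d * x * d⁻¹ ∈ X)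
    (htr : ∀ x ∈ X, ∀ y ∈ X, ∃ d ∈ D, d * x * d⁻¹ = y) :
    ∀ x ∈ X, ∀ y ∈ X, ∃ d ∈ P₁, d * x * d⁻¹ = y := by
  intro x hx y hy
  have e1 : ({y | ∃ d ∈ D, d * x * d⁻¹ = y} : Set G) = X := by
    ext z
    constructor
    · rintro ⟨d, hd, rfl⟩; exact hD d hd x hx
    · intro hz; exact htr x hx z hz
  have h1 := orb_card D x
  rw [e1, hX] at h1
  have h2 : p ^ k ∣ (centralizer ({x} : Set G)).relIndex P₁ := by
    have h3 : (centralizer ({x} : Set G) ⊓ P₁).relIndex D = (centralizer ({x} : Set G)).relIndex P₁ * P₁.relIndex D := by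
      rw [← Subgroup.relIndex_mul_relIndex (centralizer ({x} : Set G) ⊓ P₁) P₁ D inf_le_right hPD,
        Subgroup.inf_relIndex_right]
    have h4 : (centralizer ({x} : Set G)).relIndex D ∣ (centralizer ({x} : Set G) ⊓ P₁).relIndex D := by
      have h5 := Subgroup.relIndex_mul_relIndex (centralizer ({x} : Set G) ⊓ P₁) (centralizer ({x} : Set G) ⊓ D) D
        (inf_le_inf_left _ hPD) inf_le_right
      rw [Subgroup.inf_relIndex_right] at h5
      exact Dvd.intro_left _ h5
    rw [← h1, h3] at h4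
    exact (Nat.Coprime.pow_left k ((Nat.Prime.coprime_iff_not_dvd hp.out).mpr hnd)).dvd_of_dvd_mul_right h4
  have h3 : ({y | ∃ d ∈ P₁, d * x * d⁻¹ = y} : Set G) ⊆ X := by
    rintro z ⟨d, hd, rfl⟩; exact hD d (hPD hd) x hx
  have h4 : ({y | ∃ d ∈ P₁, d * x * d⁻¹ = y} : Set G) = X := by
    apply Set.eq_of_subset_of_ncard_le h3 _ (Set.toFinite _)
    rw [hX, orb_card P₁ x]
    exact Nat.le_of_dvd (Nat.pos_of_ne_zero
      (Subgroup.FiniteIndex.index_ne_zero (H := (centralizer ({x} : Set G)).subgroupOf P₁))) h2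
  rw [← h4] at hy
  exact hy

theorem swap_norm {x y : G ⧸ H} {u : G} (hu : orderOf u = 2) (hux : u • x = y) :
    zpowers u ≤ normalizer ((St x y : Subgroup G) : Set G) := by
  have huy := swap_back hu hux
  have u2 : u * u = 1 := by rw [← pow_two, ← hu, pow_orderOf_eq_one]
  have ui : u⁻¹ = u := inv_eq_of_mul_eq_one_left u2
  have key : ∀ d ∈ St x y, u * d * u⁻¹ ∈ St x y := by
    intro d hd
    rw [mem_St] at hd ⊢
    rw [ui]
    simp only [mul_smul, hux, huy, hd.1, hd.2, and_self]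
  rw [zpowers_le, mem_normalizer_iff]
  intro d
  refine ⟨key d, fun hd => ?_⟩
  have := key _ hd
  rwa [show u * (u * d * u⁻¹) * u⁻¹ = (u * u) * d * (u * u)⁻¹ by group, u2, one_mul, inv_one, mul_one] at this

theorem MC.coprime_zpowers (h : MC p G) {u : G} (hu : orderOf u = 2) :
    (Nat.card (zpowers u)).Coprime p := by
  rw [Nat.card_zpowers, hu]
  exact (Nat.coprime_primes Nat.prime_two h.pp).mpr (by have := h.p5; omega)

/-- the number of involutions swapping two points is a power of `p` -/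
theorem im_card (h : MC p G) (hH : Cfsg.IsStronglyEmbedded H) {x y : G ⧸ H} (hxy : x ≠ y) :
    ∃ k, ({u | orderOf u = 2 ∧ u • x = y} : Set G).ncard = p ^ k := by
  haveI : Fact p.Prime := ⟨h.pp⟩
  have hcard : ({u | orderOf u = 2 ∧ u • x = y} : Set G).ncard = Nat.card (H4.SE.Im H x y) := rfl
  obtain ⟨u, hu, hux⟩ : ∃ u : G, orderOf u = 2 ∧ u • x = y := by
    have h1 := H4.SE.card_Im hH x y hxy
    have h2 : 0 < Nat.card {t : G // orderOf t = 2 ∧ t ∈ H} := by
      obtain ⟨t, ht, ht2⟩ := H4.SE.exists_invol hH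
      exact Nat.card_pos_iff.mpr ⟨⟨⟨t, ht2, ht⟩⟩, inferInstance⟩
    rw [← h1] at h2
    obtain ⟨⟨u, hu, hux⟩⟩ := (Nat.card_pos_iff.mp h2).1
    exact ⟨u, hu, hux⟩
  have hset : ({u | orderOf u = 2 ∧ u • x = y} : Set G) = {v | ∃ d ∈ St x y, d * u * d⁻¹ = v} := by
    ext v
    constructor
    · rintro ⟨hv, hvx⟩
      exact swap_conj hH hxy hu hv hux hvx
    · rintro ⟨d, hd, rfl⟩
      refine ⟨by rw [H4.Inv.orderOf_conj, hu], ?_⟩
      have h1 := (mem_St.mp (inv_mem hd)).1
      have h2 := (mem_St.mp hd).2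
      rw [mul_smul, mul_smul, h1, hux, h2]
  rw [hset, orb_card]
  set D := St x y with hD
  have hodd := St_odd hH hxy
  have hcop : (Nat.card (zpowers u)).Coprime (Nat.card D) := by
    rw [Nat.card_zpowers, hu]
    exact (Nat.coprime_two_left).mpr hodd
  have hsol : Group.IsSolvable (zpowers u) := Group.isSolvable_of_comm mul_comm'
  have key : ∀ q : ℕ, q.Prime → q ∣ (centralizer ({u} : Set G)).relIndex D → q = p := by
    intro q hq hqd
    by_contra hqp
    haveI : Fact q.Prime := ⟨hq⟩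
    obtain ⟨Q, hQ⟩ := H1.Coprime.invariant_sylow_exists (zpowers u) D (swap_norm hu hux) hcop (Or.inl hsol) q
    have hQq : IsPGroup q ((Q : Subgroup D).map D.subtype) := Q.isPGroup'.map _
    have hQc : (Nat.card ((Q : Subgroup D).map D.subtype)).Coprime p := by
      obtain ⟨k, hk⟩ := IsPGroup.iff_card.mp hQq
      rw [hk]
      exact Nat.Coprime.pow_left _ ((Nat.coprime_primes hq h.pp).mpr hqp)
    have h1 := h.cent (h.coprime_zpowers hu) hQc hQ
    have h2 : (Q : Subgroup D) ≤ (centralizer ({u} : Set G)).subgroupOf D := by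
      intro z hz
      rw [mem_subgroupOf, mem_centralizer_singleton_iff]
      have := h1 (mem_zpowers u)
      rw [mem_centralizer_iff] at this
      exact this z (mem_map_of_mem _ hz)
    have h3 : (centralizer ({u} : Set G)).relIndex D ∣ (Q : Subgroup D).index :=
      Subgroup.index_dvd_of_le h2
    exact Q.not_dvd_index (hqd.trans h3)
  have hne : (centralizer ({u} : Set G)).relIndex D ≠ 0 :=
    Subgroup.FiniteIndex.index_ne_zero (H := (centralizer ({u} : Set G)).subgroupOf D)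
  exact ⟨_, Nat.eq_prime_pow_of_unique_prime_dvd hne (fun {q} hq hqd => key q hq hqd)⟩

theorem if_card (h : MC p G) (hH : Cfsg.IsStronglyEmbedded H) {x y : G ⧸ H} (hxy : x ≠ y) :
    ({u | orderOf u = 2 ∧ u • x = x} : Set G).ncard = ({u | orderOf u = 2 ∧ u • x = y} : Set G).ncard := by
  have h1 := H4.SE.card_Im hH x y hxy
  have h2 := H4.SE.card_If H x
  exact h2.trans h1.symm

/-- Sylow `p`-subgroups of two point stabilizers are transitive -/
theorem P_trans (h : MC p G) (hH : Cfsg.IsStronglyEmbedded H) {x y : G ⧸ H} (hxy : x ≠ y)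
    {P : Subgroup G} (hP : P ≤ St x y) (hnd : ¬ p ∣ P.relIndex (St x y)) :
    (∀ s t : G, orderOf s = 2 → s • x = x → orderOf t = 2 → t • x = x → ∃ g ∈ P, g * s * g⁻¹ = t) ∧
    (∀ s t : G, orderOf s = 2 → s • x = y → orderOf t = 2 → t • x = y → ∃ g ∈ P, g * s * g⁻¹ = t) := by
  haveI : Fact p.Prime := ⟨h.pp⟩
  obtain ⟨k, hk⟩ := im_card h hH hxy
  constructor
  · have := syl_trans hP hnd (X := {u | orderOf u = 2 ∧ u • x = x}) (k := k) (by rw [if_card h hH hxy, hk])
      (by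
        rintro d hd s ⟨hs, hsx⟩
        refine ⟨by rw [H4.Inv.orderOf_conj, hs], ?_⟩
        have h1 := (mem_St.mp (inv_mem hd)).1
        have h2 := (mem_St.mp hd).1
        rw [mul_smul, mul_smul, h1, hsx, h2])
      (by
        rintro s ⟨hs, hsx⟩ t ⟨ht, htx⟩
        obtain ⟨d, h1, h2, h3⟩ := H4.SE.conj_two_point hH hxy hs ht hsx htx
        exact ⟨d, mem_St.mpr ⟨h1, h2⟩, h3⟩)
    intro s t hs hsx ht htx
    exact this s ⟨hs, hsx⟩ t ⟨ht, htx⟩
  · have := syl_trans hP hnd (X := {u | orderOf u = 2 ∧ u • x = y}) (k := k) hk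
      (by
        rintro d hd s ⟨hs, hsx⟩
        refine ⟨by rw [H4.Inv.orderOf_conj, hs], ?_⟩
        have h1 := (mem_St.mp (inv_mem hd)).1
        have h2 := (mem_St.mp hd).2
        rw [mul_smul, mul_smul, h1, hsx, h2])
      (by
        rintro s ⟨hs, hsx⟩ t ⟨ht, htx⟩
        exact swap_conj hH hxy hs ht hsx htx)
    intro s t hs hsx ht htx
    exact this s ⟨hs, hsx⟩ t ⟨ht, htx⟩

/-- swapping involutions normalize the Sylow subgroups -/
theorem swap_norm_P (h : MC p G) (hH : Cfsg.IsStronglyEmbedded H) {x y : G ⧸ H} (hxy : x ≠ y)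
    {P : Subgroup G} (hP : P ≤ St x y) (hPp : IsPGroup p P) (hnd : ¬ p ∣ P.relIndex (St x y)) {u : G}
    (hu : orderOf u = 2) (hux : u • x = y) : u ∈ normalizer (P : Set G) := by
  haveI : Fact p.Prime := ⟨h.pp⟩
  set D := St x y with hD
  have hodd := St_odd hH hxy
  have hcop : (Nat.card (zpowers u)).Coprime (Nat.card D) := by
    rw [Nat.card_zpowers, hu]
    exact (Nat.coprime_two_left).mpr hodd
  have hsol : Group.IsSolvable (zpowers u) := Group.isSolvable_of_comm mul_comm'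
  obtain ⟨Q, hQ⟩ := H1.Coprime.invariant_sylow_exists (zpowers u) D (swap_norm hu hux) hcop (Or.inl hsol) p
  -- P as a Sylow subgroup of D
  have hPD : IsPGroup p (P.subgroupOf D) := hPp.comap_subtype
  set P' : Sylow p D := hPD.toSylow hnd with hP'
  obtain ⟨d, hd⟩ := MulAction.exists_smul_eq D Q P'
  have hPd : ∀ z : G, z ∈ P ↔ (d : G)⁻¹ * z * d ∈ (Q : Subgroup D).map D.subtype := by
    intro z
    constructor
    · intro hz
      have h1 : (⟨z, hP hz⟩ : D) ∈ (P' : Subgroup D) := by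
        change (⟨z, hP hz⟩ : D) ∈ P.subgroupOf D
        exact mem_subgroupOf.mpr hz
      rw [← hd, Sylow.coe_subgroup_smul, Subgroup.mem_pointwise_smul_iff_inv_smul_mem] at h1
      exact ⟨_, h1, by simp [MulAut.smul_def]⟩
    · rintro ⟨w, hw, hwz⟩
      have h1 : d * w * d⁻¹ ∈ (P' : Subgroup D) := by
        rw [← hd, Sylow.coe_subgroup_smul, Subgroup.mem_pointwise_smul_iff_inv_smul_mem]
        have e : (MulAut.conj d)⁻¹ • (d * w * d⁻¹) = w := by
          rw [← map_inv, MulAut.smul_def, MulAut.conj_apply]; group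
        rw [e]; exact hw
      have h2 : ((d * w * d⁻¹ : D) : G) ∈ P := mem_subgroupOf.mp h1
      have h3 : z = ((d * w * d⁻¹ : D) : G) := by
        simp only [Subgroup.coe_mul, Subgroup.coe_inv]
        have hwz' : (w : G) = (d : G)⁻¹ * z * d := hwz
        rw [hwz']; group
      rw [h3]; exact h2
  -- the conjugate involution
  set v := (d : G) * u * (d : G)⁻¹ with hv
  have hv2 : orderOf v = 2 := by rw [hv, H4.Inv.orderOf_conj, hu]
  have hvx : v • x = y := by
    have h1 := (mem_St.mp (inv_mem d.2)).1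
    have h2 := (mem_St.mp d.2).2
    rw [hv, mul_smul, mul_smul, h1, hux, h2]
  have hvP : v ∈ normalizer (P : Set G) := by
    have hu' := hQ (mem_zpowers u)
    rw [mem_normalizer_iff] at hu' ⊢
    intro z
    rw [hPd z, hPd (v * z * v⁻¹), hu']
    have : u * ((d : G)⁻¹ * z * d) * u⁻¹ = (d : G)⁻¹ * (v * z * v⁻¹) * d := by rw [hv]; group
    rw [this]
  obtain ⟨g, hg, hgv⟩ := (P_trans h hH hxy hP hnd).2 v u hv2 hvx hu hux
  rw [← hgv]
  exact mul_mem (mul_mem (le_normalizer hg) hvP) (inv_mem (le_normalizer hg))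

end Cfsg.Agent.H9.Pp
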