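import Mathlib
import Cfsg.Prelude
import Cfsg.Agent.H9_PpD

set_option autoImplicit false

/-! S1936, part F: a Sylow `p`-subgroup fixing exactly two points. -/

namespace Cfsg.Agent.H9.Pp

open Subgroup MulAction
open scoped Pointwise

universe u

variable {G : Type u} [Group G] [Finite G] {p : ℕ} {H : Subgroup G}

theorem exists_ne (hH : Cfsg.IsStronglyEmbedded H) (x : G ⧸ H) : ∃ y : G ⧸ H, x ≠ y := by
  by_contra hno
  push_neg at hno
  apply hH.1
  rw [eq_top_iff]
  intro g _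
  have h1 := (hno (QuotientGroup.mk 1)).symm.trans (hno (QuotientGroup.mk g))
  have := QuotientGroup.eq.mp h1
  simpa using this

theorem exists_max (hH : Cfsg.IsStronglyEmbedded H) (p : ℕ) :
    ∃ (P : Subgroup G) (x y : G ⧸ H), x ≠ y ∧ IsPGroup p P ∧ P ≤ St x y ∧
      ∀ (Q : Subgroup G) (x' y' : G ⧸ H), x' ≠ y' → IsPGroup p Q → Q ≤ St x' y' →
        Nat.card Q ≤ Nat.card P := by
  obtain ⟨y, hy⟩ := exists_ne hH (QuotientGroup.mk 1)
  let α := {t : Subgroup G × (G ⧸ H) × (G ⧸ H) // t.2.1 ≠ t.2.2 ∧ IsPGroup p t.1 ∧ t.1 ≤ St t.2.1 t.2.2}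
  haveI : Nonempty α := ⟨⟨⟨⊥, _, _⟩, hy, IsPGroup.of_bot, bot_le⟩⟩
  obtain ⟨t, ht⟩ := Finite.exists_max (fun t : α => Nat.card t.1.1)
  refine ⟨t.1.1, t.1.2.1, t.1.2.2, t.2.1, t.2.2.1, t.2.2.2, ?_⟩
  intro Q x' y' hne hQ hQs
  exact ht ⟨⟨Q, x', y'⟩, hne, hQ, hQs⟩

theorem max_syl {P : Subgroup G} [hp : Fact p.Prime] (hPp : IsPGroup p P)
    (hmax : ∀ (Q : Subgroup G) (x' y' : G ⧸ H), x' ≠ y' → IsPGroup p Q → Q ≤ St x' y' →
        Nat.card Q ≤ Nat.card P) {x y : G ⧸ H} (hxy : x ≠ y) (hP : P ≤ St x y) :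
    ¬ p ∣ P.relIndex (St x y) := by
  have h1 : IsPGroup p (P.subgroupOf (St x y)) := hPp.comap_subtype
  obtain ⟨Q, hQ⟩ := h1.exists_le_sylow
  have h2 : Nat.card ((Q : Subgroup (St x y)).map (St x y).subtype) ≤ Nat.card P :=
    hmax _ x y hxy (Q.isPGroup'.map _) (map_subtype_le _)
  rw [Subgroup.card_map_of_injective (St x y).subtype_injective] at h2
  have h3 : Nat.card (P.subgroupOf (St x y)) = Nat.card P :=
    Nat.card_congr (Subgroup.subgroupOfEquivOfLe hP).toEquiv
  have h4 : P.subgroupOf (St x y) = Q := Subgroup.eq_of_le_of_card_ge hQ (by rw [h3]; exact h2)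
  intro hd
  apply Q.not_dvd_index
  rw [← h4]
  exact hd

theorem exists_swap (hH : Cfsg.IsStronglyEmbedded H) {x y : G ⧸ H} (hxy : x ≠ y) :
    ∃ u : G, orderOf u = 2 ∧ u • x = y := by
  have h1 := H4.SE.card_Im hH x y hxy
  have h2 : 0 < Nat.card {t : G // orderOf t = 2 ∧ t ∈ H} := by
    obtain ⟨t, ht, ht2⟩ := H4.SE.exists_invol hH
    exact Nat.card_pos_iff.mpr ⟨⟨⟨t, ht2, ht⟩⟩, inferInstance⟩
  rw [← h1] at h2
  obtain ⟨⟨u, hu, hux⟩⟩ := (Nat.card_pos_iff.mp h2).1
  exact ⟨u, hu, hux⟩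

/-- general form of `MC.cent` -/
theorem cent_gen {Y : Type u} [Group Y] [Finite Y]
    (hab : ∀ H : Subgroup Y, (Nat.card H).Coprime p → ∀ x ∈ H, ∀ y ∈ H, x * y = y * x)
    {R S : Subgroup Y} (hR : (Nat.card R).Coprime p)
    (hS : (Nat.card S).Coprime p) (hRS : R ≤ normalizer (S : Set Y)) :
    R ≤ centralizer (S : Set Y) := by
  have h8 : (Nat.card (R ⊔ S : Subgroup Y)).Coprime p :=
    Nat.Coprime.coprime_dvd_left (card_sup_dvd hRS) (Nat.Coprime.mul_left hR hS)
  intro x hx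
  rw [mem_centralizer_iff]
  intro y hy
  exact hab _ h8 y (mem_sup_right hy) x (mem_sup_left hx)

/-- a group in which any two commuting involutions coincide: product of three involutions has even order -/
theorem three_inv {Y : Type u} [Group Y] [Finite Y] [hp : Fact p.Prime] (hp2 : p ≠ 2)
    (hab : ∀ H : Subgroup Y, (Nat.card H).Coprime p → ∀ x ∈ H, ∀ y ∈ H, x * y = y * x)
    (h1 : ∀ a b : Y, orderOf a = 2 → orderOf b = 2 → a * b = b * a → a = b)
    {u v w : Y} (hu : orderOf u = 2) (hv : orderOf v = 2) (hw : orderOf w = 2) :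
    ¬ Odd (orderOf (w * v * u)) := by
  haveI : Fact (Nat.Prime 2) := ⟨Nat.prime_two⟩
  obtain ⟨T⟩ : Nonempty (Sylow 2 Y) := inferInstance
  have hTc : (Nat.card (T : Subgroup Y)).Coprime p := by
    obtain ⟨k, hk⟩ := IsPGroup.iff_card.mp T.isPGroup'
    rw [hk]
    exact Nat.Coprime.pow_left _ ((Nat.coprime_primes Nat.prime_two hp.out).mpr hp2.symm)
  have hTab := hab T hTc
  haveI : IsMulCommutative (T : Subgroup Y) :=
    ⟨⟨fun a b => Subtype.ext (hTab a a.2 b b.2)⟩⟩
  have hle : normalizer ((T : Subgroup Y) : Set Y) ≤ centralizer ((T : Subgroup Y) : Set Y) := by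
    apply H1.Nilp.le_of_sylow_le
    intro r hr
    set N := normalizer ((T : Subgroup Y) : Set Y) with hN
    obtain ⟨Q⟩ : Nonempty (Sylow r N) := inferInstance
    refine ⟨Q, ?_⟩
    have hQN : (Q : Subgroup N).map N.subtype ≤ N := map_subtype_le _
    have hQr : IsPGroup r ((Q : Subgroup N).map N.subtype) := Q.isPGroup'.map _
    obtain ⟨k, hk⟩ := IsPGroup.iff_card.mp hQr
    by_cases hrp : r = p
    · apply H1.Coprime.abelian_trivial_of_prime_order _ (T : Subgroup Y) hQN
      · rw [hk, hrp]; exact (hTc.symm.pow_left k)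
      · intro t ht htp a ha
        have ht2 : orderOf t = 2 := by
          obtain ⟨k, hk⟩ := (IsPGroup.iff_orderOf.mp T.isPGroup') ⟨t, ht⟩
          rw [Subgroup.orderOf_mk] at hk
          rw [hk] at htp
          have := (Nat.Prime.eq_one_or_self_of_dvd htp 2 (dvd_pow_self 2 (by rintro rfl; simp at htp; exact Nat.not_prime_one htp)))
          rw [hk]; omega
        have h2 : a * t * a⁻¹ ∈ (T : Subgroup Y) := (mem_normalizer_iff.mp (hQN ha) t).mp ht
        have h3 := h1 (a * t * a⁻¹) t (by rw [H4.Inv.orderOf_conj, ht2]) ht2 (hTab _ h2 _ ht)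
        exact mul_inv_eq_iff_eq_mul.mp h3
    · refine cent_gen hab ?_ hTc hQN
      rw [hk]
      exact Nat.Coprime.pow_left _ ((Nat.coprime_primes hr.out hp.out).mpr hrp)
  have hcomp := MonoidHom.ker_transferSylow_isComplement' T hle
  set φ := MonoidHom.transferSylow T hle with hφ
  have hker : ¬ 2 ∣ Nat.card φ.ker := by
    rw [← hcomp.index_eq_card]
    exact T.not_dvd_index
  have hinv : ∀ a : Y, orderOf a = 2 → orderOf ((φ a : (T : Subgroup Y)) : Y) = 2 := by
    intro a ha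
    apply orderOf_eq_prime
    · have ha' : a ^ 2 = 1 := by rw [← ha, pow_orderOf_eq_one]
      have : φ a ^ 2 = 1 := by rw [← map_pow, ha', map_one]
      have := congrArg Subtype.val this
      simpa using this
    · intro e
      apply hker
      have h2 : a ∈ φ.ker := Subtype.ext e
      have h5 := orderOf_dvd_natCard (⟨a, h2⟩ : φ.ker)
      rw [Subgroup.orderOf_mk, ha] at h5
      exact h5
  have heq : ∀ a b : Y, orderOf a = 2 → orderOf b = 2 → φ a = φ b := by
    intro a b ha hb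
    apply Subtype.ext
    exact h1 _ _ (hinv a ha) (hinv b hb) (hTab _ (φ a).2 _ (φ b).2)
  intro hodd
  have h2 : φ (w * v * u) = φ u := by
    rw [map_mul, map_mul, heq w u hw hu, heq v u hv hu]
    have hu' : u ^ 2 = 1 := by rw [← hu, pow_orderOf_eq_one]
    have : φ u * φ u = 1 := by rw [← map_mul, ← pow_two, hu', map_one]
    rw [this, one_mul]
  have h3 : orderOf (φ (w * v * u)) ∣ orderOf (w * v * u) := orderOf_map_dvd φ _
  rw [h2, ← Subgroup.orderOf_coe, hinv u hu] at h3
  exact (Nat.not_even_iff_odd.mpr hodd) (even_iff_two_dvd.mpr h3)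

theorem two_points (h : MC p G) (hH : Cfsg.IsStronglyEmbedded H) :
    ∃ (P : Sylow p G) (x y : G ⧸ H), x ≠ y ∧ (P : Subgroup G) ≤ St x y ∧
      ∀ z : G ⧸ H, (P : Subgroup G) ≤ stabilizer G z → z = x ∨ z = y := by
  haveI : Fact p.Prime := ⟨h.pp⟩
  have hp2 : p ≠ 2 := by have := h.p5; omega
  obtain ⟨P, x, y, hxy, hPp, hPxy, hmax⟩ := exists_max hH p
  have hP1 : P ≠ ⊥ := by
    intro e
    obtain ⟨a, b, ha, hb, hab, -, hax, hbx⟩ := exists_four h hH x
    obtain ⟨g, hg, hgab⟩ := (P_trans h hH hxy hPxy (max_syl hPp hmax hxy hPxy)).1 a b ha hax hb hbx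
    rw [e, mem_bot] at hg
    apply hab
    rw [← hgab, hg]; group
  have hPs : Group.IsSolvable P := by
    haveI := hPp.isNilpotent
    infer_instance
  set Y := normalizer (P : Set G) with hYdef
  have hY : Y ≠ ⊤ := h.norm_ne_top hP1 hPs
  have hswap : ∀ w w' : G ⧸ H, w ≠ w' → P ≤ stabilizer G w → P ≤ stabilizer G w' →
      ∃ u ∈ Y, orderOf u = 2 ∧ u • w = w' := by
    intro w w' hww h1 h2
    obtain ⟨u, hu, huw⟩ := exists_swap hH hww
    exact ⟨u, swap_norm_P h hH hww (le_inf h1 h2) hPp (max_syl hPp hmax hww (le_inf h1 h2)) hu huw, hu, huw⟩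
  have sub1 : ∀ t ∈ Y, orderOf t = 2 → ∀ w : G ⧸ H, P ≤ stabilizer G w → t • w ≠ w := by
    intro t ht ht2 w hw htw
    obtain ⟨w', hww, hw'⟩ : ∃ w', w ≠ w' ∧ P ≤ stabilizer G w' := by
      by_cases e : w = x
      · exact ⟨y, by rw [e]; exact hxy, hPxy.trans inf_le_right⟩
      · exact ⟨x, e, hPxy.trans inf_le_left⟩
    obtain ⟨a, b, ha, hb, hab, hc, haw, hbw⟩ := exists_four h hH w
    have htr := (P_trans h hH hww (le_inf hw hw') (max_syl hPp hmax hww (le_inf hw hw'))).1
    have haY : a ∈ Y := by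
      obtain ⟨g, hg, rfl⟩ := htr t a ht2 htw ha haw
      exact mul_mem (mul_mem (le_normalizer hg) ht) (inv_mem (le_normalizer hg))
    have hbY : b ∈ Y := by
      obtain ⟨g, hg, rfl⟩ := htr t b ht2 htw hb hbw
      exact mul_mem (mul_mem (le_normalizer hg) ht) (inv_mem (le_normalizer hg))
    have hYw := h.uniq' hH hY haY hbY ha hb hab hc haw
    obtain ⟨u, huY, -, huw⟩ := hswap w w' hww hw hw'
    have := mem_stabilizer_iff.mp (hYw huY)
    exact hww (this.symm.trans huw)
  have sub2 : ∀ a ∈ Y, ∀ b ∈ Y, orderOf a = 2 → orderOf b = 2 → a * b = b * a → a = b := by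
    intro a ha b hb oa ob hc
    by_contra hab
    obtain ⟨δ, hδ⟩ := H4.SE.fix_exists hH oa
    have hYδ := h.uniq' hH hY ha hb oa ob hab hc hδ
    exact sub1 a ha oa δ (le_normalizer.trans hYδ) hδ
  have no3 : ∀ z : G ⧸ H, P ≤ stabilizer G z → z = x ∨ z = y := by
    intro z hz
    by_contra hno
    push_neg at hno
    obtain ⟨hzx, hzy⟩ := hno
    obtain ⟨u, huY, hu, hux⟩ := hswap x y hxy (hPxy.trans inf_le_left) (hPxy.trans inf_le_right)
    obtain ⟨v, hvY, hv, hvy⟩ := hswap y z hzy.symm (hPxy.trans inf_le_right) hz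
    obtain ⟨w, hwY, hw, hwz⟩ := hswap z x hzx hz (hPxy.trans inf_le_left)
    have hfix : (w * v * u) • x = x := by rw [mul_smul, mul_smul, hux, hvy, hwz]
    have hgY : w * v * u ∈ Y := mul_mem (mul_mem hwY hvY) huY
    have key := three_inv (Y := Y) hp2 (h.ab' Y) (fun a b oa ob hc =>
      Subtype.ext (sub2 a a.2 b b.2 (by rw [Subgroup.orderOf_coe]; exact oa)
        (by rw [Subgroup.orderOf_coe]; exact ob) (congrArg Subtype.val hc)))
      (u := ⟨u, huY⟩) (v := ⟨v, hvY⟩) (w := ⟨w, hwY⟩)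
      (by rw [Subgroup.orderOf_mk]; exact hu) (by rw [Subgroup.orderOf_mk]; exact hv)
      (by rw [Subgroup.orderOf_mk]; exact hw)
    have e1 : (⟨w, hwY⟩ * ⟨v, hvY⟩ * ⟨u, huY⟩ : Y) = ⟨w * v * u, hgY⟩ := rfl
    rw [e1, Subgroup.orderOf_mk, Nat.not_odd_iff_even] at key
    set g := w * v * u with hg
    have hpos := orderOf_pos g
    obtain ⟨k, hk⟩ := key.two_dvd
    have hk0 : k ≠ 0 := by rintro rfl; omega
    have h2 : orderOf (g ^ k) = 2 := by
      rw [orderOf_pow, hk, Nat.gcd_eq_right (Dvd.intro_left 2 rfl), Nat.mul_div_cancel _ (Nat.pos_of_ne_zero hk0)]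
    have h3 : (g ^ k) • x = x := by
      have : g ^ k ∈ stabilizer G x := pow_mem (mem_stabilizer_iff.mpr hfix) k
      exact mem_stabilizer_iff.mp this
    exact sub1 _ (pow_mem hgY k) h2 x (hPxy.trans inf_le_left) h3
  obtain ⟨Q, hQ⟩ := hPp.exists_le_sylow
  by_cases hPQ : P = Q
  · refine ⟨Q, x, y, hxy, ?_, ?_⟩
    · rw [← hPQ]; exact hPxy
    · intro z hz
      rw [← hPQ] at hz
      exact no3 z hz
  · exfalso
    have hlt : P.subgroupOf Q < ⊤ := by
      rw [lt_top_iff_ne_top]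
      intro e
      rw [subgroupOf_eq_top] at e
      exact hPQ (le_antisymm hQ e)
    haveI := Q.isPGroup'.isNilpotent
    have hnc := Group.normalizerCondition_of_isNilpotent (G := (Q : Subgroup G)) (P.subgroupOf Q) hlt
    obtain ⟨g, hg1, hg2⟩ := SetLike.exists_of_lt hnc
    have hgP : (g : G) ∉ P := fun hh => hg2 (mem_subgroupOf.mpr hh)
    have hgN : (g : G) ∈ normalizer (P : Set G) := by
      rw [mem_normalizer_iff] at hg1 ⊢
      intro z
      constructor
      · intro hz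
        exact mem_subgroupOf.mp ((hg1 ⟨z, hQ hz⟩).mp (mem_subgroupOf.mpr hz))
      · intro hz
        have hzQ : z ∈ (Q : Subgroup G) := by
          have := mul_mem (mul_mem (inv_mem g.2) (hQ hz)) g.2
          simpa [mul_assoc] using this
        exact mem_subgroupOf.mp ((hg1 ⟨z, hzQ⟩).mpr (mem_subgroupOf.mpr hz))
    have hperm : ∀ z : G ⧸ H, P ≤ stabilizer G z → P ≤ stabilizer G ((g : G) • z) := by
      intro z hz s hs
      rw [mem_stabilizer_iff]
      have h1 : (g : G)⁻¹ * s * g ∈ P := by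
        have := (mem_normalizer_iff.mp (inv_mem hgN) s).mp hs
        simpa using this
      have h2 := mem_stabilizer_iff.mp (hz h1)
      have := congrArg ((g : G) • ·) h2
      simp only [← mul_smul] at this
      rw [← mul_smul]
      rwa [show (g : G) * ((g : G)⁻¹ * s * g) = s * g by group] at this
    have hgodd : Odd (orderOf (g : G)) := by
      obtain ⟨k, hk⟩ := (IsPGroup.iff_orderOf.mp Q.isPGroup') g
      rw [Subgroup.orderOf_coe, hk]
      exact (h.pp.odd_of_ne_two hp2).pow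
    have hxs := hPxy.trans (inf_le_left : St x y ≤ _)
    have hys := hPxy.trans (inf_le_right : St x y ≤ _)
    have hgx : (g : G) • x = x := by
      rcases no3 _ (hperm x hxs) with e | e
      · exact e
      · exfalso
        have hgy : (g : G) • y = x := by
          rcases no3 _ (hperm y hys) with e' | e'
          · exact e'
          · exfalso
            have : (g : G) • x = (g : G) • y := e.trans e'.symm
            exact hxy (smul_left_cancel _ this)
        obtain ⟨k, hk⟩ := hgodd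
        have h1 : ((g : G) ^ 2) • x = x := by rw [pow_two, mul_smul, e, hgy]
        have h2 : ((g : G) ^ 2) ^ k • x = x :=
          mem_stabilizer_iff.mp (pow_mem (mem_stabilizer_iff.mpr h1) k)
        have h3 : (g : G) ^ (2 * k + 1) • x = y := by
          rw [pow_succ', mul_smul, pow_mul, h2, e]
        rw [← hk, pow_orderOf_eq_one, one_smul] at h3
        exact hxy h3
    have hgy : (g : G) • y = y := by
      rcases no3 _ (hperm y hys) with e | e
      · exfalso
        exact hxy (smul_left_cancel _ (hgx.trans e.symm))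
      · exact e
    have h5 := hmax (P ⊔ zpowers (g : G)) x y hxy
      (Q.isPGroup'.to_le (sup_le hQ (zpowers_le.mpr g.2)))
      (sup_le hPxy (zpowers_le.mpr (mem_St.mpr ⟨hgx, hgy⟩)))
    have h6 := Subgroup.eq_of_le_of_card_ge (le_sup_left : P ≤ P ⊔ zpowers (g : G)) h5
    exact hgP (by rw [h6]; exact mem_sup_right (mem_zpowers _))

end Cfsg.Agent.H9.Pp
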