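import Mathlib
import Cfsg.Prelude
import Cfsg.Agent.H9_PpF
import Cfsg.Agent.H18_ZJF

set_option autoImplicit false

/-! S1936, part H: the ZJ step. -/

namespace Cfsg.Agent.H9.Pp

open Subgroup MulAction
open scoped Pointwise

universe u

variable {G : Type u} [Group G] [Finite G] {p : ℕ} {H : Subgroup G}

theorem not_dvd_rel [hp : Fact p.Prime] (P : Sylow p G) {K : Subgroup G} (hK : (P : Subgroup G) ≤ K) :
    ¬ p ∣ (P : Subgroup G).relIndex K := by
  intro hd
  apply P.not_dvd_index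
  exact hd.trans (Subgroup.relIndex_dvd_index_of_le hK)

theorem ne_bot_of (h : MC p G) (hH : Cfsg.IsStronglyEmbedded H) {P : Sylow p G} {x y : G ⧸ H}
    (hxy : x ≠ y) (hP : (P : Subgroup G) ≤ St x y) : (P : Subgroup G) ≠ ⊥ := by
  haveI : Fact p.Prime := ⟨h.pp⟩
  intro e
  obtain ⟨a, b, ha, hb, hab, -, hax, hbx⟩ := exists_four h hH x
  obtain ⟨g, hg, hgab⟩ := (P_trans h hH hxy hP (not_dvd_rel P hP)).1 a b ha hax hb hbx
  rw [e, mem_bot] at hg
  apply hab
  rw [← hgab, hg]; group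

/-- a four-group in a subgroup of odd index -/
theorem four_conj {M : Type u} [Group M] [Finite M] {N : Subgroup M} (hN : Odd N.index) {a b : M}
    (oa : orderOf a = 2) (ob : orderOf b = 2) (hc : a * b = b * a) :
    ∃ g : M, g⁻¹ * a * g ∈ N ∧ g⁻¹ * b * g ∈ N := by
  haveI : Fact (Nat.Prime 2) := ⟨Nat.prime_two⟩
  have hW : IsPGroup 2 (zpowers a ⊔ zpowers b : Subgroup M) := by
    apply IsPGroup.to_sup_of_normal_right'
    · exact H4.Util.zpowers_isPGroup (k := 1) (by simpa using oa)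
    · exact H4.Util.zpowers_isPGroup (k := 1) (by simpa using ob)
    · rw [zpowers_le]
      apply Subgroup.centralizer_le_normalizer
      rw [mem_centralizer_iff]
      intro z hz
      obtain ⟨k, rfl⟩ := mem_zpowers_iff.mp hz
      have : Commute a b := hc
      exact (this.symm.zpow_left k)
  obtain ⟨z, hz⟩ := hW.nonempty_fixed_point_of_prime_not_dvd_card (M ⧸ N) (by
    rw [← Subgroup.index_eq_card]
    intro hd
    exact (Nat.not_even_iff_odd.mpr hN) (even_iff_two_dvd.mpr hd))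
  induction z using QuotientGroup.induction_on with | H g => ?_
  refine ⟨g, ?_, ?_⟩
  · have h1 := hz ⟨a, mem_sup_left (mem_zpowers a)⟩
    exact (H4.SE.smul_mk_eq_iff N a g).mp h1
  · have h1 := hz ⟨b, mem_sup_right (mem_zpowers b)⟩
    exact (H4.SE.smul_mk_eq_iff N b g).mp h1

theorem odd_core_false (h : MC p G) (hH : Cfsg.IsStronglyEmbedded H) {P : Sylow p G} {x y : G ⧸ H}
    (hxy : x ≠ y) (hP : (P : Subgroup G) ≤ St x y)
    (hzj : Cfsg.pPrimeCore p (stabilizer G x) ⊔
      normalizer (Cfsg.centerThompsonOf p ((P : Subgroup G).subgroupOf (stabilizer G x)) : Set (stabilizer G x)) = ⊤)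
    (hodd : Odd (Nat.card (Cfsg.pPrimeCore p (stabilizer G x)))) : False := by
  haveI : Fact p.Prime := ⟨h.pp⟩
  haveI : Fact (Nat.Prime 2) := ⟨Nat.prime_two⟩
  set M := stabilizer G x with hM
  have hPM : (P : Subgroup G) ≤ M := hP.trans inf_le_left
  have hPb := ne_bot_of h hH hxy hP
  set Z' := Cfsg.centerThompsonOf p ((P : Subgroup G).subgroupOf M) with hZ'
  set Z := Cfsg.centerThompsonOf p (P : Subgroup G) with hZ
  have hZZ : Z'.map M.subtype = Z := by
    rw [hZ', hZ, ← H12.ZJ.ZJJ_p, ← H12.ZJ.ZJJ_p, ← H18.ZJF.ZJJ_map, Subgroup.map_subgroupOf_eq_of_le hPM]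
    intro z _ hz
    exact Subtype.ext hz
  have hZP : Z ≤ P := by
    rw [hZ, ← H12.ZJ.ZJJ_p]; exact H12.ZJ.ZJJ_le _ _
  have hZ1 : Z ≠ ⊥ := by
    rw [hZ, ← H12.ZJ.ZJJ_p]
    exact H18.ZJF.ZJJ_ne_bot (dvd_refl p) P.isPGroup' hPb
  have hZs : Group.IsSolvable Z := by
    haveI := (P.isPGroup'.to_le hZP).isNilpotent
    infer_instance
  set N := normalizer (Z : Set G) with hN
  have hNt : N ≠ ⊤ := h.norm_ne_top hZ1 hZs
  obtain ⟨u, hu, hux⟩ := exists_swap hH hxy
  have huP := swap_norm_P h hH hxy hP P.isPGroup' (not_dvd_rel P hP) hu hux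
  have huN : u ∈ N := by
    rw [hN, hZ, ← H12.ZJ.ZJJ_p]
    exact H12.ZJ.normalizer_le_ZJJ _ _ huP
  set N' := normalizer (Z' : Set M) with hN'
  have hN'N : ∀ g : M, g ∈ N' → (g : G) ∈ N := by
    intro g hg
    have := Subgroup.le_normalizer_map (H := Z') M.subtype (mem_map_of_mem M.subtype hg)
    rw [hZZ] at this
    exact this
  have hN'odd : Odd N'.index := by
    haveI := H1.Nilp.pPrimeCore_normal (G := M) p
    have h1 : N'.index ∣ Nat.card (Cfsg.pPrimeCore p M) := by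
      have h2 : N'.relIndex (Cfsg.pPrimeCore p M) = N'.index := by
        have h3 : N'.relIndex (Cfsg.pPrimeCore p M ⊔ N') = N'.relIndex (Cfsg.pPrimeCore p M) := by
          apply H1.Basic.relIndex_eq_of_factor le_sup_left
          intro l hl
          rw [← SetLike.mem_coe, Subgroup.normal_mul (Cfsg.pPrimeCore p M) N'] at hl
          obtain ⟨x, hx, y, hy, rfl⟩ := Set.mem_mul.mp hl
          exact ⟨x, hx, by simpa using hy⟩
        rw [← h3, hzj, Subgroup.relIndex_top_right]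
      rw [← h2]
      exact Subgroup.relIndex_dvd_card _ _
    exact hodd.of_dvd_nat h1
  obtain ⟨a, b, oa, ob, hab, hc, hax, hbx⟩ := exists_four h hH x
  obtain ⟨g, hga, hgb⟩ := four_conj (M := M) (N := N') hN'odd
    (a := ⟨a, mem_stabilizer_iff.mpr hax⟩) (b := ⟨b, mem_stabilizer_iff.mpr hbx⟩)
    (by rw [Subgroup.orderOf_mk]; exact oa) (by rw [Subgroup.orderOf_mk]; exact ob) (Subtype.ext hc)
  have ha' := hN'N _ hga
  have hb' := hN'N _ hgb
  simp only [Subgroup.coe_mul, Subgroup.coe_inv] at ha' hb'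
  have e1 : ∀ c : G, orderOf c = 2 → orderOf ((g : G)⁻¹ * c * g) = 2 := by
    intro c oc
    have := H4.Inv.orderOf_conj (g : G)⁻¹ c
    rw [inv_inv] at this
    rw [this, oc]
  have hfix : ((g : G)⁻¹ * a * g) • x = x := by
    have : (g : G)⁻¹ * a * g ∈ M := mul_mem (mul_mem (inv_mem g.2) (mem_stabilizer_iff.mpr hax)) g.2
    exact mem_stabilizer_iff.mp this
  have hle := h.uniq' hH hNt ha' hb' (e1 a oa) (e1 b ob)
    (by intro e; apply hab; simpa using e)
    (by
      have e2 : (g : G)⁻¹ * a * g * ((g : G)⁻¹ * b * g) = (g : G)⁻¹ * (a * b) * g := by group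
      rw [e2, hc]; group) hfix
  exact hxy ((mem_stabilizer_iff.mp (hle huN)).symm.trans hux)

end Cfsg.Agent.H9.Pp
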