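import Mathlib
import Cfsg.Prelude
import Cfsg.Agent.H9_PpF
import Cfsg.Agent.H9_PpG

set_option autoImplicit false
set_option linter.all false

/-! S1936, part Q: the final contradiction. -/

namespace Cfsg.Agent.H9.Pp

open Subgroup MulAction
open scoped Pointwise

universe u

variable {G : Type u} [Group G] [Finite G] {p : ℕ} {H : Subgroup G}

/-- a subgroup with no elements of prime order `q ≠ p` is a `p`-group -/
theorem pgroup_of_no {Y : Subgroup G} [hp : Fact p.Prime]
    (hno : ∀ q : ℕ, q.Prime → q ≠ p → ∀ g ∈ Y, orderOf g ≠ q) : IsPGroup p Y := by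
  have hne : Nat.card Y ≠ 0 := Nat.card_pos.ne'
  have h1 : ∀ {q : ℕ}, q.Prime → q ∣ Nat.card Y → q = p := by
    intro q hq hqd
    by_contra hqp
    haveI : Fact q.Prime := ⟨hq⟩
    obtain ⟨g, hg⟩ := exists_prime_orderOf_dvd_card' (G := Y) q hqd
    exact hno q hq hqp g g.2 (by rw [Subgroup.orderOf_coe]; exact hg)
  exact IsPGroup.of_card (Nat.eq_prime_pow_of_unique_prime_dvd hne h1)

theorem final (h : MC p G) (hH : Cfsg.IsStronglyEmbedded H) (P : Sylow p G) {x y : G ⧸ H} (hxy : x ≠ y)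
    (hP : (P : Subgroup G) ≤ St x y)
    (honly : ∀ z : G ⧸ H, (P : Subgroup G) ≤ stabilizer G z → z = x ∨ z = y)
    (A : Subgroup G) (hA : ∀ t, t ∈ A ↔ t = 1 ∨ (orderOf t = 2 ∧ t • x = x))
    (hAc : ∀ s ∈ A, ∀ t ∈ A, s * t = t * s) (hPc : Nat.card P = p) : False := by
  classical
  haveI hpF : Fact p.Prime := ⟨h.pp⟩
  haveI h2F : Fact (Nat.Prime 2) := ⟨Nat.prime_two⟩
  haveI := h.simp
  have hp2 : p ≠ 2 := by have := h.p5; omega
  have hnd : ¬ p ∣ (P : Subgroup G).relIndex (St x y) := by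
    intro hd
    apply P.not_dvd_index
    rw [← Subgroup.relIndex_mul_index hP]
    exact hd.mul_right _
  have hPx : (P : Subgroup G) ≤ stabilizer G x := hP.trans inf_le_left
  have hPy : (P : Subgroup G) ≤ stabilizer G y := hP.trans inf_le_right
  obtain ⟨a, b, oa, ob, hab, habc, hax, hbx⟩ := exists_four h hH x
  have hse := stab_se h hH x
  -- elements of `P`
  have hPz : ∀ g ∈ (P : Subgroup G), g ≠ 1 → zpowers g = (P : Subgroup G) := by
    intro g hg hg1
    have h1 : zpowers g ≤ (P : Subgroup G) := by rwa [zpowers_le]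
    have h2 : orderOf g ∣ p := by
      rw [← hPc]
      have := orderOf_dvd_natCard (⟨g, hg⟩ : (P : Subgroup G))
      rwa [Subgroup.orderOf_mk] at this
    have h3 : orderOf g = p := by
      rcases (Nat.dvd_prime h.pp).1 h2 with h4 | h4
      · exact absurd (orderOf_eq_one_iff.1 h4) hg1
      · exact h4
    exact Subgroup.eq_of_le_of_card_ge h1 (by rw [Nat.card_zpowers, h3]; exact hPc.le)
  -- (1)
  have hcomm : ∀ g ∈ (P : Subgroup G), g ≠ 1 → ∀ s : G, orderOf s = 2 → s • x = x → g * s ≠ s * g := by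
    intro g hg hg1 s hs hsx hgs
    have h1 : ∀ z ∈ (P : Subgroup G), z * s * z⁻¹ = s := by
      intro z hz
      rw [← hPz g hg hg1] at hz
      obtain ⟨k, rfl⟩ := mem_zpowers_iff.mp hz
      have h2 : Commute (g ^ k) s := (show Commute g s from hgs).zpow_left k
      rw [h2.eq]; group
    have h3 : ∀ t : G, orderOf t = 2 → t • x = x → t = s := by
      intro t ht htx
      obtain ⟨z, hz, hzt⟩ := (P_trans h hH hxy hP hnd).1 s t hs hsx ht htx
      rw [← hzt, h1 z hz]
    exact hab ((h3 a oa hax).trans (h3 b ob hbx).symm)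
  obtain ⟨g₀, hg₀, hg₀1⟩ : ∃ g ∈ (P : Subgroup G), g ≠ 1 := by
    by_contra hno
    push_neg at hno
    have h1 : (P : Subgroup G) = ⊥ := (eq_bot_iff_forall _).mpr hno
    have h2 : Nat.card (P : Subgroup G) = p := hPc
    rw [h1, card_bot] at h2
    exact h.pp.one_lt.ne h2
  have haA : a ∈ A := (hA a).2 (Or.inr ⟨oa, hax⟩)
  have hbA : b ∈ A := (hA b).2 (Or.inr ⟨ob, hbx⟩)
  -- `A` is normalized by `M`
  have hAM : ∀ m : G, m • x = x → ∀ t ∈ A, m * t * m⁻¹ ∈ A := by
    intro m hm t ht
    rw [hA] at ht ⊢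
    rcases ht with rfl | ⟨h1, h2⟩
    · left; group
    · right
      refine ⟨by rw [H4.Inv.orderOf_conj, h1], ?_⟩
      have h3 : m⁻¹ • x = x := by rw [inv_smul_eq_iff, hm]
      rw [mul_smul, mul_smul, h3, h2, hm]
  -- (2)
  have hCM : centralizer ({a} : Set G) ≤ stabilizer G x := cent_le hse oa (mem_stabilizer_iff.mpr hax)
  have hCp : (Nat.card (centralizer ({a} : Set G))).Coprime p := by
    by_contra hnc
    have hd : p ∣ Nat.card (centralizer ({a} : Set G)) := by
      rcases (Nat.coprime_or_dvd_of_prime h.pp (Nat.card (centralizer ({a} : Set G)))) with h1 | h1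
      · exact absurd h1.symm hnc
      · exact h1
    obtain ⟨c, hc⟩ := exists_prime_orderOf_dvd_card' (G := centralizer ({a} : Set G)) p hd
    have hcM : (c : G) ∈ stabilizer G x := hCM c.2
    have hcp : orderOf (c : G) = p := by rw [Subgroup.orderOf_coe]; exact hc
    have h1 : IsPGroup p (zpowers (⟨(c : G), hcM⟩ : stabilizer G x)) :=
      IsPGroup.of_card (n := 1) (by rw [Nat.card_zpowers, Subgroup.orderOf_mk, hcp, pow_one])
    obtain ⟨Q, hQ⟩ := h1.exists_le_sylow
    obtain ⟨m, hm⟩ := MulAction.exists_smul_eq (stabilizer G x) Q (P.subtype hPx)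
    have h2 : m * (⟨(c : G), hcM⟩ : stabilizer G x) * m⁻¹ ∈ ((P.subtype hPx : Sylow p (stabilizer G x)) : Subgroup (stabilizer G x)) := by
      rw [← hm, Sylow.coe_subgroup_smul, Subgroup.mem_pointwise_smul_iff_inv_smul_mem]
      have e : (MulAut.conj m)⁻¹ • (m * (⟨(c : G), hcM⟩ : stabilizer G x) * m⁻¹) = ⟨(c : G), hcM⟩ := by
        rw [← map_inv, MulAut.smul_def, MulAut.conj_apply]; group
      rw [e]
      exact hQ (mem_zpowers _)
    have h3 : (m : G) * (c : G) * (m : G)⁻¹ ∈ (P : Subgroup G) := h2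
    have hmx : (m : G) • x = x := m.2
    have h4 : (m : G) * a * (m : G)⁻¹ ∈ A := hAM _ hmx a haA
    have h5 := (hA _).1 h4
    rcases h5 with h5 | ⟨h5, h6⟩
    · have h7 : orderOf ((m : G) * a * (m : G)⁻¹) = 2 := by rw [H4.Inv.orderOf_conj, oa]
      rw [h5, orderOf_one] at h7
      omega
    · refine hcomm _ h3 ?_ _ h5 h6 ?_
      · intro h8
        have h9 : orderOf ((m : G) * (c : G) * (m : G)⁻¹) = p := by rw [H4.Inv.orderOf_conj, hcp]
        rw [h8, orderOf_one] at h9
        exact h.pp.one_lt.ne h9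
      · have h8 : (c : G) * a = a * (c : G) := mem_centralizer_singleton_iff.mp c.2
        calc (m : G) * (c : G) * (m : G)⁻¹ * ((m : G) * a * (m : G)⁻¹) = (m : G) * ((c : G) * a) * (m : G)⁻¹ := by group
          _ = (m : G) * (a * (c : G)) * (m : G)⁻¹ := by rw [h8]
          _ = _ := by group
  have hKa : centralizer (A : Set G) = centralizer ({a} : Set G) := by
    apply le_antisymm
    · exact centralizer_le (by simpa using haA)
    · intro c hc
      rw [mem_centralizer_iff]
      intro t ht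
      have h1 : t ∈ centralizer ({a} : Set G) := mem_centralizer_singleton_iff.mpr (hAc t ht a haA)
      exact h.ab _ hCp t h1 c hc
  set K : Subgroup G := centralizer (A : Set G) with hK
  have hKp : (Nat.card K).Coprime p := by rw [hKa]; exact hCp
  have hKab : ∀ s ∈ K, ∀ t ∈ K, s * t = t * s := h.ab _ hKp
  -- `K` normalized by `M`
  have hKM : ∀ m : G, m • x = x → ∀ k ∈ K, m * k * m⁻¹ ∈ K := by
    intro m hm k hk
    rw [hK, mem_centralizer_iff] at hk ⊢
    intro t ht
    have h3 : m⁻¹ • x = x := by rw [inv_smul_eq_iff, hm]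
    have h4 := hAM _ h3 t ht
    rw [inv_inv] at h4
    have h5 := hk _ h4
    calc t * (m * k * m⁻¹) = m * ((m⁻¹ * t * m) * k) * m⁻¹ := by group
      _ = m * (k * (m⁻¹ * t * m)) * m⁻¹ := by rw [h5]
      _ = m * k * m⁻¹ * t := by group
  -- (3)
  have hA2 : IsPGroup 2 A := by
    intro t
    refine ⟨1, ?_⟩
    apply Subtype.ext
    rcases (hA t.1).1 t.2 with h1 | ⟨h1, -⟩
    · show (t : G) ^ 2 ^ 1 = 1
      rw [h1, one_pow]
    · show (t : G) ^ 2 ^ 1 = 1
      rw [pow_one, ← h1, pow_orderOf_eq_one]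
  have hAp : (Nat.card A).Coprime p := h.two hA2
  have h3 : ∀ g : G, g • x = x → (orderOf g).Coprime p → g ∈ K := by
    intro g hg hgp
    have h1 : zpowers g ≤ normalizer (A : Set G) := by
      rw [zpowers_le, mem_normalizer_iff]
      intro t
      constructor
      · exact fun ht => hAM g hg t ht
      · intro ht
        have h3 : g⁻¹ • x = x := by rw [inv_smul_eq_iff, hg]
        have h4 := hAM _ h3 _ ht
        have h5 : g⁻¹ * (g * t * g⁻¹) * g⁻¹⁻¹ = t := by group
        rwa [h5] at h4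
    exact h.cent (by rw [Nat.card_zpowers]; exact hgp) hAp h1 (mem_zpowers g)
  -- (4)
  set Y : Subgroup G := centralizer ((P : Subgroup G) : Set G) with hY
  have hYfix : ∀ g ∈ Y, ∀ z : G ⧸ H, (P : Subgroup G) ≤ stabilizer G z → (P : Subgroup G) ≤ stabilizer G (g • z) := by
    intro g hg z hz s hs
    rw [mem_stabilizer_iff, ← mul_smul, (mem_centralizer_iff.mp hg) s hs, mul_smul]
    rw [mem_stabilizer_iff.mp (hz hs)]
  have hYinv : ∀ v ∈ Y, orderOf v ≠ 2 := by
    intro v hv ov
    rcases honly _ (hYfix v hv x hPx) with h1 | h1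
    · exact hcomm g₀ hg₀ hg₀1 v ov h1 (mem_centralizer_iff.mp hv g₀ hg₀)
    · have h4 : ∀ w : G, orderOf w = 2 → w • x = y → w = v := by
        intro w ow hw
        obtain ⟨g, hg, hgv⟩ := (P_trans h hH hxy hP hnd).2 v w ov h1 ow hw
        rw [← hgv, (mem_centralizer_iff.mp hv) g hg]
        group
      have h5 := if_card h hH hxy
      have h6 : ({u | orderOf u = 2 ∧ u • x = y} : Set G).ncard ≤ 1 := by
        rw [Set.ncard_le_one (Set.toFinite _)]
        rintro s ⟨hs, hs'⟩ t ⟨ht, ht'⟩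
        rw [h4 s hs hs', h4 t ht ht']
      have h7 : 1 < ({u | orderOf u = 2 ∧ u • x = x} : Set G).ncard := by
        rw [Set.one_lt_ncard (Set.toFinite _)]
        exact ⟨a, ⟨oa, hax⟩, b, ⟨ob, hbx⟩, hab⟩
      omega
  have hYM : ∀ g ∈ Y, g • x = x := by
    intro g hg
    rcases honly _ (hYfix g hg x hPx) with h1 | h1
    · exact h1
    · exfalso
      have h2 : g • y = x := by
        rcases honly _ (hYfix g hg y hPy) with h4 | h4
        · exact h4
        · exfalso
          exact hxy (smul_left_cancel g (h1.trans h4.symm))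
      have h4 : (g * g) • x = x := by rw [mul_smul, h1, h2]
      have h5 : Odd (orderOf g) := by
        rw [← Nat.not_even_iff_odd]
        intro hev
        have h6 : orderOf (g ^ (orderOf g / 2)) = 2 := by
          have h7 := orderOf_pos g
          obtain ⟨k, hk⟩ := hev.two_dvd
          rw [orderOf_pow' _ (by omega), hk]
          have : 2 * k / 2 = k := by omega
          rw [this, Nat.gcd_eq_right (Dvd.intro_left _ rfl)]
          exact Nat.mul_div_cancel _ (by omega)
        exact hYinv _ (pow_mem hg _) h6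
      obtain ⟨k, hk⟩ := h5
      have h6 : g = (g * g) ^ (k + 1) := by
        rw [← pow_two, ← pow_mul]
        have : 2 * (k + 1) = orderOf g + 1 := by omega
        rw [this, pow_succ, pow_orderOf_eq_one, one_mul]
      have h7 : (g * g) ^ (k + 1) ∈ stabilizer G x := pow_mem (mem_stabilizer_iff.mpr h4) _
      rw [← h6, mem_stabilizer_iff] at h7
      exact hxy (h7.symm.trans h1)
  obtain ⟨u, ou, hux⟩ := exists_swap hH hxy
  have huP : u ∈ normalizer ((P : Subgroup G) : Set G) := swap_norm_P h hH hxy hP P.isPGroup' hnd ou hux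
  have huY : ∀ g ∈ Y, u * g * u⁻¹ ∈ Y := by
    intro g hg
    rw [hY, mem_centralizer_iff] at hg ⊢
    intro z hz
    have h1 := (mem_normalizer_iff.mp (inv_mem huP) z).1 hz
    rw [inv_inv] at h1
    have h2 := hg _ h1
    calc z * (u * g * u⁻¹) = u * ((u⁻¹ * z * u) * g) * u⁻¹ := by group
      _ = u * (g * (u⁻¹ * z * u)) * u⁻¹ := by rw [h2]
      _ = u * g * u⁻¹ * z := by group
  have u2 : u * u = 1 := by rw [← pow_two, ← ou, pow_orderOf_eq_one]
  have hcopK : ∀ k ∈ K, (orderOf k).Coprime p := by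
    intro k hk
    have h1 := orderOf_dvd_natCard (⟨k, hk⟩ : K)
    rw [Subgroup.orderOf_mk] at h1
    exact hKp.coprime_dvd_left h1
  have hK0 : Y ⊓ K = ⊥ := by
    by_contra hne
    have hu0 : ∀ k ∈ Y ⊓ K, u * k * u⁻¹ ∈ Y ⊓ K := by
      rintro k ⟨h1, h2⟩
      have h4 := huY k h1
      refine ⟨h4, h3 _ (hYM _ h4) ?_⟩
      rw [H4.Inv.orderOf_conj]
      exact hcopK k h2
    have huN : u ∈ normalizer ((Y ⊓ K : Subgroup G) : Set G) := by
      rw [mem_normalizer_iff]
      intro k
      refine ⟨fun hk => hu0 k hk, fun hk => ?_⟩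
      have := hu0 _ hk
      rwa [show u * (u * k * u⁻¹) * u⁻¹ = (u * u) * k * (u * u)⁻¹ by group, u2, one_mul, inv_one, mul_one] at this
    have hAN : ∀ t ∈ A, t ∈ normalizer ((Y ⊓ K : Subgroup G) : Set G) := by
      intro t ht
      rw [mem_normalizer_iff]
      intro k
      have key : ∀ k ∈ K, t * k * t⁻¹ = k := by
        intro k hk
        rw [(mem_centralizer_iff.mp hk) t ht]; group
      constructor
      · intro hk
        rw [key k hk.2]; exact hk
      · intro hk
        have h1 := key _ hk.2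
        have h2 : t * k * t⁻¹ = k := by
          have h4 : t⁻¹ * (t * (t * k * t⁻¹) * t⁻¹) * t = t⁻¹ * (t * k * t⁻¹) * t := by rw [h1]
          have h5 : t⁻¹ * (t * (t * k * t⁻¹) * t⁻¹) * t = t * k * t⁻¹ := by group
          have h6 : t⁻¹ * (t * k * t⁻¹) * t = k := by group
          rw [h5, h6] at h4
          exact h4
        rw [h2] at hk; exact hk
    have hsol : Group.IsSolvable (Y ⊓ K : Subgroup G) := by
      apply Group.isSolvable_of_comm
      intro s t
      exact Subtype.ext (hKab s s.2.2 t t.2.2)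
    have h1 := h.norm_ne_top hne hsol
    have h2 := h.uniq' hH h1 (hAN a haA) (hAN b hbA) oa ob hab habc hax
    have h4 := mem_stabilizer_iff.mp (h2 huN)
    exact hxy (h4.symm.trans hux)
  have hYp : IsPGroup p Y := by
    apply pgroup_of_no
    intro q hq hqp g hg hgq
    have h1 : g ∈ K := h3 g (hYM g hg) (by rw [hgq]; exact (Nat.coprime_primes hq h.pp).mpr hqp)
    have h2 : g ∈ Y ⊓ K := ⟨hg, h1⟩
    rw [hK0, mem_bot] at h2
    rw [h2, orderOf_one] at hgq
    exact hq.one_lt.ne hgq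
  have hPab : ∀ s ∈ (P : Subgroup G), ∀ t ∈ (P : Subgroup G), s * t = t * s := by
    intro s hs t ht
    rw [← hPz g₀ hg₀ hg₀1] at hs ht
    obtain ⟨i, rfl⟩ := mem_zpowers_iff.mp hs
    obtain ⟨j, rfl⟩ := mem_zpowers_iff.mp ht
    rw [← zpow_add, ← zpow_add, add_comm]
  have hPY : (P : Subgroup G) ≤ Y := by
    intro s hs
    rw [hY, mem_centralizer_iff]
    intro t ht
    exact hPab t ht s hs
  have hYP : Y = (P : Subgroup G) := P.is_maximal' hYp hPY
  -- (5)
  have hN1 : normalizer ((P : Subgroup G) : Set G) ⊓ stabilizer G x = (P : Subgroup G) := by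
    refine P.is_maximal' ?_ (le_inf le_normalizer hPx)
    apply pgroup_of_no
    rintro q hq hqp g ⟨hg, hgx⟩ hgq
    have hgK : g ∈ K := h3 g (mem_stabilizer_iff.mp hgx) (by rw [hgq]; exact (Nat.coprime_primes hq h.pp).mpr hqp)
    have hgY : g ∈ Y := by
      rw [hY, mem_centralizer_iff]
      intro z hz
      have h1 : g * z * g⁻¹ ∈ (P : Subgroup G) := (mem_normalizer_iff.mp hg z).1 hz
      have h2 : g * z * g⁻¹ * z⁻¹ ∈ (P : Subgroup G) := mul_mem h1 (inv_mem hz)
      have h4 : z * g⁻¹ * z⁻¹ ∈ K := hKM z (mem_stabilizer_iff.mp (hPx hz)) _ (inv_mem hgK)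
      have h5 : g * z * g⁻¹ * z⁻¹ ∈ K := by
        have : g * z * g⁻¹ * z⁻¹ = g * (z * g⁻¹ * z⁻¹) := by group
        rw [this]; exact mul_mem hgK h4
      have h6 : g * z * g⁻¹ * z⁻¹ ∈ Y ⊓ K := ⟨hPY h2, h5⟩
      rw [hK0, mem_bot] at h6
      have h7 : g * z = z * g := by
        calc g * z = (g * z * g⁻¹ * z⁻¹) * (z * g) := by group
          _ = z * g := by rw [h6, one_mul]
      exact h7.symm
    have h2 : g ∈ Y ⊓ K := ⟨hgY, hgK⟩
    rw [hK0, mem_bot] at h2
    rw [h2, orderOf_one] at hgq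
    exact hq.one_lt.ne hgq
  have hNfix : ∀ g ∈ normalizer ((P : Subgroup G) : Set G), ∀ z : G ⧸ H,
      (P : Subgroup G) ≤ stabilizer G z → (P : Subgroup G) ≤ stabilizer G (g • z) := by
    intro g hg z hz s hs
    have h1 := (mem_normalizer_iff.mp (inv_mem hg) s).1 hs
    rw [inv_inv] at h1
    have h2 := mem_stabilizer_iff.mp (hz h1)
    rw [mem_stabilizer_iff]
    calc s • g • z = g • ((g⁻¹ * s * g) • z) := by rw [← mul_smul, ← mul_smul]; congr 1; group
      _ = g • z := by rw [h2]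
  have huM : u ∉ (P : Subgroup G) := by
    intro hu
    exact hxy ((mem_stabilizer_iff.mp (hPx hu)).symm.trans hux)
  have hrel : (P : Subgroup G).relIndex (normalizer ((P : Subgroup G) : Set G)) = 2 := by
    rw [relIndex_eq_two_iff_exists_notMem_and']
    refine ⟨u, huP, huM, ?_⟩
    intro g hg
    rcases honly _ (hNfix g hg x hPx) with h1 | h1
    · right
      rw [← hN1]
      exact ⟨hg, mem_stabilizer_iff.mpr h1⟩
    · left
      rw [← hN1]
      refine ⟨mul_mem huP hg, mem_stabilizer_iff.mpr ?_⟩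
      rw [mul_smul, h1]
      exact swap_back ou hux
  have hN : Nat.card (normalizer ((P : Subgroup G) : Set G)) = 2 * p := by
    rw [← H1.Basic.relIndex_mul_card (le_normalizer : (P : Subgroup G) ≤ _), hrel]
    congr 1
  exact count p hp2 h.ab P hPc hYP.le hN

end Cfsg.Agent.H9.Pp
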