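import Mathlib
import Cfsg.Prelude
import Cfsg.Agent.H9_PpH

set_option autoImplicit false

/-! S1936, part R: reduction to a Sylow `p`-subgroup of order `p`. -/

namespace Cfsg.Agent.H9.Pp

open Subgroup MulAction
open scoped Pointwise

universe u

variable {G : Type u} [Group G] [Finite G] {p : ℕ} {H : Subgroup G}

theorem norm_of_relIndex [hp : Fact p.Prime] {P E : Subgroup G} (hP : IsPGroup p P) (hEP : E ≤ P)
    (hE : E.relIndex P = p) : P ≤ normalizer (E : Set G) := by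
  rw [← Subgroup.normal_subgroupOf_iff_le_normalizer hEP]
  apply Subgroup.normal_of_index_eq_minFac_card
  obtain ⟨n, hn⟩ := IsPGroup.iff_card.mp hP
  have hn0 : n ≠ 0 := by
    rintro rfl
    have h1 : E.relIndex P ∣ Nat.card P := Subgroup.relIndex_dvd_card _ _
    rw [hE, hn, pow_zero] at h1
    exact hp.out.one_lt.ne' (Nat.dvd_one.mp h1)
  rw [hn, hp.out.pow_minFac hn0]
  exact hE

/-- centralizers of elements of an orbit of size `p` coincide -/
theorem cent_all [hp : Fact p.Prime] {P : Subgroup G} (hP : IsPGroup p P) {X : Set G}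
    (hX : X.ncard = p) (hstab : ∀ d ∈ P, ∀ x ∈ X, d * x * d⁻¹ ∈ X)
    (htr : ∀ x ∈ X, ∀ y ∈ X, ∃ d ∈ P, d * x * d⁻¹ = y) {a : G} (ha : a ∈ X) :
    (centralizer ({a} : Set G) ⊓ P).relIndex P = p ∧
    ∀ e ∈ P, e * a = a * e → ∀ b ∈ X, e * b = b * e := by
  have h1 : ({y | ∃ d ∈ P, d * a * d⁻¹ = y} : Set G) = X := by
    ext z
    constructor
    · rintro ⟨d, hd, rfl⟩; exact hstab d hd a ha
    · intro hz; exact htr a ha z hz
  have h2 := orb_card P a
  rw [h1, hX] at h2
  have h3 : (centralizer ({a} : Set G) ⊓ P).relIndex P = p := by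
    rw [Subgroup.inf_relIndex_right, ← h2]
  refine ⟨h3, ?_⟩
  intro e he hea b hb
  obtain ⟨d, hd, rfl⟩ := htr a ha b hb
  have hN := norm_of_relIndex hP (inf_le_right : centralizer ({a} : Set G) ⊓ P ≤ P) h3
  have h4 : e ∈ centralizer ({a} : Set G) ⊓ P := ⟨mem_centralizer_singleton_iff.mpr hea, he⟩
  have h5 := (mem_normalizer_iff.mp (hN (inv_mem hd)) e).mp h4
  rw [inv_inv] at h5
  have h6 := mem_centralizer_singleton_iff.mp h5.1
  have e1 : e * (d * a * d⁻¹) = d * (d⁻¹ * e * d * a) * d⁻¹ := by group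
  rw [e1, h6]; group

theorem conj_into [hp : Fact p.Prime] (P : Sylow p G) {M : Subgroup G} (hPM : (P : Subgroup G) ≤ M) {F : Subgroup G}
    (hF : IsPGroup p F) (hFM : F ≤ M) : ∃ m ∈ M, ∀ f ∈ F, m * f * m⁻¹ ∈ P := by
  have h1 : IsPGroup p (F.subgroupOf M) := hF.comap_subtype
  obtain ⟨Q, hQ⟩ := h1.exists_le_sylow
  obtain ⟨m, hm⟩ := MulAction.exists_smul_eq M Q (P.subtype hPM)
  refine ⟨m, m.2, fun f hf => ?_⟩
  have h2 : (⟨f, hFM hf⟩ : M) ∈ (Q : Subgroup M) := hQ (mem_subgroupOf.mpr hf)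
  have h3 : m * (⟨f, hFM hf⟩ : M) * m⁻¹ ∈ ((P.subtype hPM : Sylow p M) : Subgroup M) := by
    rw [← hm, Sylow.coe_subgroup_smul, Subgroup.mem_pointwise_smul_iff_inv_smul_mem]
    have e : (MulAut.conj m)⁻¹ • (m * (⟨f, hFM hf⟩ : M) * m⁻¹) = ⟨f, hFM hf⟩ := by
      rw [← map_inv, MulAut.smul_def, MulAut.conj_apply]; group
    rw [e]; exact h2
  rw [Sylow.coe_subtype, mem_subgroupOf] at h3
  exact h3

theorem card_P (h : MC p G) (hH : Cfsg.IsStronglyEmbedded H) (P : Sylow p G) {x y : G ⧸ H}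
    (hxy : x ≠ y) (hP : (P : Subgroup G) ≤ St x y)
    (honly : ∀ z : G ⧸ H, (P : Subgroup G) ≤ stabilizer G z → z = x ∨ z = y)
    (hm : ({u : G | orderOf u = 2 ∧ u • x = x} : Set G).ncard = p) : Nat.card P = p := by
  haveI : Fact p.Prime := ⟨h.pp⟩
  have hPM : (P : Subgroup G) ≤ stabilizer G x := hP.trans inf_le_left
  have hPy : (P : Subgroup G) ≤ stabilizer G y := hP.trans inf_le_right
  set I := ({u : G | orderOf u = 2 ∧ u • x = x} : Set G) with hI
  set J := ({u : G | orderOf u = 2 ∧ u • x = y} : Set G) with hJ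
  have hmJ : J.ncard = p := by rw [← hm, hI, if_card h hH hxy]
  obtain ⟨htI, htJ⟩ := P_trans h hH hxy hP (not_dvd_rel P hP)
  have hIM : ∀ d ∈ stabilizer G x, ∀ s ∈ I, d * s * d⁻¹ ∈ I := by
    rintro d hd s ⟨hs, hsx⟩
    refine ⟨by rw [H4.Inv.orderOf_conj, hs], ?_⟩
    have h1 := mem_stabilizer_iff.mp (inv_mem hd)
    have h2 := mem_stabilizer_iff.mp hd
    rw [mul_smul, mul_smul, h1, hsx, h2]
  have hI2 : ∀ s ∈ I, ∀ t ∈ I, ∃ d ∈ (P : Subgroup G), d * s * d⁻¹ = t := by
    rintro s ⟨hs, hsx⟩ t ⟨ht, htx⟩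
    exact htI s t hs hsx ht htx
  have hJM : ∀ d ∈ (P : Subgroup G), ∀ s ∈ J, d * s * d⁻¹ ∈ J := by
    rintro d hd s ⟨hs, hsx⟩
    refine ⟨by rw [H4.Inv.orderOf_conj, hs], ?_⟩
    have h1 := mem_stabilizer_iff.mp (hPM (inv_mem hd))
    have h2 := mem_stabilizer_iff.mp (hPy hd)
    rw [mul_smul, mul_smul, h1, hsx, h2]
  have hJ2 : ∀ s ∈ J, ∀ t ∈ J, ∃ d ∈ (P : Subgroup G), d * s * d⁻¹ = t := by
    rintro s ⟨hs, hsx⟩ t ⟨ht, htx⟩
    exact htJ s t hs hsx ht htx
  obtain ⟨a, b, oa, ob, hab, hc, hax, hbx⟩ := exists_four h hH x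
  have haI : a ∈ I := ⟨oa, hax⟩
  have hbI : b ∈ I := ⟨ob, hbx⟩
  obtain ⟨u, hu, hux⟩ := exists_swap hH hxy
  have huJ : u ∈ J := ⟨hu, hux⟩
  have huP := swap_norm_P h hH hxy hP P.isPGroup' (not_dvd_rel P hP) hu hux
  have huM : u ∉ stabilizer G x := by
    intro hh
    exact hxy ((mem_stabilizer_iff.mp hh).symm.trans hux)
  have uu : u * u = 1 := by rw [← pow_two, ← hu, pow_orderOf_eq_one]
  have ui : u⁻¹ = u := inv_eq_of_mul_eq_one_left uu
  obtain ⟨hE, hEall⟩ := cent_all P.isPGroup' hm (fun d hd => hIM d (hPM hd)) hI2 haI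
  set E := centralizer ({a} : Set G) ⊓ (P : Subgroup G) with hEdef
  have hEP : E ≤ P := inf_le_right
  set E' := E.map (MulAut.conj u).toMonoidHom with hE'
  have hE'P : E' ≤ P := by
    rintro _ ⟨e, he, rfl⟩
    exact (mem_normalizer_iff.mp huP e).mp (hEP he)
  have hE'r : E'.relIndex P = p := by
    have h1 := H1.Basic.relIndex_mul_card hEP
    have h2 := H1.Basic.relIndex_mul_card hE'P
    have h3 : Nat.card E' = Nat.card E := Nat.card_congr (E.equivMapOfInjective _ (MulAut.conj u).injective).toEquiv.symm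
    rw [h3, ← h1] at h2
    exact (Nat.eq_of_mul_eq_mul_right Nat.card_pos h2).trans hE
  have hinf : E ⊓ E' = ⊥ := by
    by_contra hne
    have hnt : normalizer ((E ⊓ E' : Subgroup G) : Set G) ≠ ⊤ := by
      apply h.norm_ne_top hne
      haveI := (P.isPGroup'.to_le (inf_le_left.trans hEP : E ⊓ E' ≤ P)).isNilpotent
      infer_instance
    have hcent : ∀ b ∈ I, b ∈ normalizer ((E ⊓ E' : Subgroup G) : Set G) := by
      intro b hb
      apply Subgroup.centralizer_le_normalizer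
      rw [mem_centralizer_iff]
      intro e he
      exact hEall e he.1.2 (mem_centralizer_singleton_iff.mp he.1.1) b hb
    have hle := h.uniq' hH hnt (hcent a haI) (hcent b hbI) oa ob hab hc hax
    apply huM
    apply hle
    have key : ∀ e ∈ E ⊓ E', u * e * u⁻¹ ∈ E ⊓ E' := by
      rintro e ⟨he1, e0, he0, rfl⟩
      refine ⟨?_, ⟨_, he1, rfl⟩⟩
      simp only [MulEquiv.coe_toMonoidHom, MulAut.conj_apply]
      rw [show u * (u * e0 * u⁻¹) * u⁻¹ = (u * u) * e0 * (u * u)⁻¹ by group, uu]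
      simpa using he0
    rw [mem_normalizer_iff]
    intro e
    refine ⟨key e, fun he => ?_⟩
    have := key _ he
    rwa [show u * (u * e * u⁻¹) * u⁻¹ = (u * u) * e * (u * u)⁻¹ by group, uu, one_mul, inv_one, mul_one] at this
  have hcard : Nat.card P ≤ p * p := by
    have h1 := Subgroup.relIndex_inf_le (H := E) (K := E') (L := (P : Subgroup G))
    rw [hinf, hE, hE'r, Subgroup.relIndex_bot_left] at h1
    exact h1
  obtain ⟨n, hn⟩ := IsPGroup.iff_card.mp P.isPGroup'
  have hp1 := h.pp.one_lt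
  have hn2 : n ≤ 2 := by
    by_contra hlt
    have h3 : 3 ≤ n := by omega
    have h4 : p ^ 3 ≤ p ^ n := Nat.pow_le_pow_right h.pp.pos h3
    have h5 : Nat.card (P : Subgroup G) ≤ p * p := hcard
    rw [hn] at h5
    have h6 : p * p < p ^ 3 := by
      rw [pow_succ, pow_two]
      exact (lt_mul_iff_one_lt_right (by positivity)).mpr hp1
    omega
  have hn0 : n ≠ 0 := by
    rintro rfl
    rw [pow_zero] at hn
    exact ne_bot_of h hH hxy hP (Subgroup.card_eq_one.mp hn)
  have hn12 : n = 1 ∨ n = 2 := by omega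
  rcases hn12 with rfl | rfl
  · rw [pow_one] at hn; exact hn
  · exfalso
    have hPc := IsPGroup.commutative_of_card_eq_prime_sq hn
    obtain ⟨hF, -⟩ := cent_all P.isPGroup' hmJ hJM hJ2 huJ
    set F := centralizer ({u} : Set G) ⊓ (P : Subgroup G) with hFdef
    have hFP : F ≤ P := inf_le_right
    have hF1 : F ≠ ⊥ := by
      intro e
      rw [e, Subgroup.relIndex_bot_left, hn] at hF
      have : p ^ 2 = p ^ 1 := by rw [hF, pow_one]
      have := Nat.pow_right_injective h.pp.two_le this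
      omega
    obtain ⟨f, hf, hf1⟩ : ∃ f ∈ F, f ≠ 1 := by
      by_contra hno
      push_neg at hno
      exact hF1 ((eq_bot_iff_forall _).mpr hno)
    obtain ⟨δ, hδ⟩ := H4.SE.fix_exists hH hu
    have hFδ : F ≤ stabilizer G δ := by
      intro g hg
      rw [mem_stabilizer_iff]
      exact fixes_commute hH hu (mem_centralizer_singleton_iff.mp hg.1).symm hδ
    obtain ⟨g, hg⟩ := MulAction.exists_smul_eq G x δ
    -- conjugate F back
    have hF'M : F.map (MulAut.conj g⁻¹).toMonoidHom ≤ stabilizer G x := by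
      rintro _ ⟨e, he, rfl⟩
      rw [mem_stabilizer_iff]
      simp only [MulEquiv.coe_toMonoidHom, MulAut.conj_apply, inv_inv]
      rw [mul_smul, mul_smul, hg, mem_stabilizer_iff.mp (hFδ he), ← hg, inv_smul_smul]
    have hF'p : IsPGroup p (F.map (MulAut.conj g⁻¹).toMonoidHom) := (P.isPGroup'.to_le hFP).map _
    obtain ⟨m, hmM, hmF⟩ := conj_into P hPM hF'p hF'M
    set u' := m * (g⁻¹ * u * g) * m⁻¹ with hu'
    have hu'I : u' ∈ I := by
      apply hIM m hmM
      refine ⟨?_, ?_⟩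
      · have := H4.Inv.orderOf_conj g⁻¹ u
        rw [inv_inv] at this
        rw [this, hu]
      · rw [mul_smul, mul_smul, hg, hδ, ← hg, inv_smul_smul]
    obtain ⟨-, hall⟩ := cent_all P.isPGroup' hm (fun d hd => hIM d (hPM hd)) hI2 hu'I
    have hfc : ∀ c ∈ I, f * (g * (m⁻¹ * c * m) * g⁻¹) = (g * (m⁻¹ * c * m) * g⁻¹) * f := by
      intro c hc'
      have h1 : m * (g⁻¹ * f * g) * m⁻¹ ∈ (P : Subgroup G) := by
        have h0 := hmF _ ⟨f, hf, rfl⟩
        simp only [MulEquiv.coe_toMonoidHom, MulAut.conj_apply, inv_inv] at h0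
        exact h0
      have h2 : m * (g⁻¹ * f * g) * m⁻¹ * u' = u' * (m * (g⁻¹ * f * g) * m⁻¹) := by
        have h3 := mem_centralizer_singleton_iff.mp hf.1
        have e1 : m * (g⁻¹ * f * g) * m⁻¹ * u' = m * (g⁻¹ * (f * u) * g) * m⁻¹ := by rw [hu']; group
        rw [e1, h3, hu']; group
      have h4 := hall _ h1 h2 c hc'
      have e1 : f * (g * (m⁻¹ * c * m) * g⁻¹) = g * (m⁻¹ * (m * (g⁻¹ * f * g) * m⁻¹ * c) * m) * g⁻¹ := by group
      rw [e1, h4]; group
    set a' := g * (m⁻¹ * a * m) * g⁻¹ with ha'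
    set b' := g * (m⁻¹ * b * m) * g⁻¹ with hb'
    have hconj : ∀ c : G, orderOf c = 2 → orderOf (g * (m⁻¹ * c * m) * g⁻¹) = 2 := by
      intro c oc
      rw [H4.Inv.orderOf_conj]
      have := H4.Inv.orderOf_conj m⁻¹ c
      rw [inv_inv] at this
      rw [this, oc]
    have haδ : a' • δ = δ := by
      have h1 := mem_stabilizer_iff.mp (inv_mem hmM)
      have h2 := mem_stabilizer_iff.mp hmM
      rw [ha', ← hg]
      simp only [mul_smul, inv_smul_smul, h2, hax]
      rw [h1]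
    set Y := centralizer ({f} : Set G) with hY
    have hYt : Y ≠ ⊤ := h.cent_ne_top hf1
    have hle := h.uniq' hH hYt (a := a') (b := b')
      (mem_centralizer_singleton_iff.mpr (hfc a haI).symm)
      (mem_centralizer_singleton_iff.mpr (hfc b hbI).symm)
      (hconj a oa) (hconj b ob) (by intro e; apply hab; rw [ha', hb'] at e; simpa using e)
      (by
        have e1 : a' * b' = g * (m⁻¹ * (a * b) * m) * g⁻¹ := by rw [ha', hb']; group
        rw [e1, hc, ha', hb']; group) haδ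
    have hPY : (P : Subgroup G) ≤ Y := by
      intro z hz
      exact mem_centralizer_singleton_iff.mpr (congrArg Subtype.val (hPc ⟨z, hz⟩ ⟨f, hFP hf⟩))
    rcases honly δ (hPY.trans hle) with e | e
    · rw [e, hux] at hδ; exact hxy hδ.symm
    · rw [e] at hδ
      have := swap_back hu hux
      rw [hδ] at this
      exact hxy this.symm

end Cfsg.Agent.H9.Pp
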