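import Mathlib
import Cfsg.Prelude
import Cfsg.Agent.H9_PpR
import Cfsg.Agent.H9_PpE
import Cfsg.Agent.H9_PpN

set_option autoImplicit false

/-! S1936, part S: assembly. -/

namespace Cfsg.Agent.H9.Pp

open Subgroup MulAction
open scoped Pointwise

universe u

variable {G : Type u} [Group G] [Finite G] {p : ℕ} {H : Subgroup G}

theorem exists_A (h : MC p G) (hH : Cfsg.IsStronglyEmbedded H) (P : Sylow p G) {x y : G ⧸ H}
    (hxy : x ≠ y) (hP : (P : Subgroup G) ≤ St x y) :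
    ∃ A : Subgroup G, (∀ t, t ∈ A ↔ t = 1 ∨ (orderOf t = 2 ∧ t • x = x)) ∧
      (∀ s ∈ A, ∀ t ∈ A, s * t = t * s) ∧
      ({u : G | orderOf u = 2 ∧ u • x = x} : Set G).ncard = p := by
  haveI : Fact p.Prime := ⟨h.pp⟩
  haveI : Fact (Nat.Prime 2) := ⟨Nat.prime_two⟩
  have hp2 : p ≠ 2 := by have := h.p5; omega
  set M := stabilizer G x with hM
  have hPM : (P : Subgroup G) ≤ M := hP.trans inf_le_left
  have hMt : M ≠ ⊤ := (stab_se h hH x).1
  haveI := h.sub M hMt
  have hzj := zj_step (H := M) p hp2 (fun S => h.ab' M S (by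
    obtain ⟨k, hk⟩ := IsPGroup.iff_card.mp S.isPGroup'
    rw [hk]
    exact Nat.Coprime.pow_left _ ((Nat.coprime_primes Nat.prime_two h.pp).mpr hp2.symm))) (P.subtype hPM)
  have hev : Even (Nat.card (Cfsg.pPrimeCore p M)) := by
    by_contra hodd
    rw [Nat.not_even_iff_odd] at hodd
    exact odd_core_false h hH hxy hP hzj hodd
  haveI hRn := H1.Nilp.pPrimeCore_normal (G := M) p
  have hRc := H1.Nilp.pPrimeCore_coprime (G := M) p
  set R := (Cfsg.pPrimeCore p M).map M.subtype with hR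
  have hRM : R ≤ M := map_subtype_le _
  have hRc' : (Nat.card R).Coprime p := by
    rwa [hR, Subgroup.card_map_of_injective M.subtype_injective]
  have hRab := h.ab R hRc'
  have hRnorm : ∀ g ∈ M, ∀ r ∈ R, g * r * g⁻¹ ∈ R := by
    rintro g hg _ ⟨r, hr, rfl⟩
    exact ⟨⟨g, hg⟩ * r * ⟨g, hg⟩⁻¹, hRn.conj_mem _ hr _, rfl⟩
  obtain ⟨r, hr⟩ := exists_prime_orderOf_dvd_card' (G := Cfsg.pPrimeCore p M) 2 hev.two_dvd
  have hrR : ((r : M) : G) ∈ R := ⟨r, r.2, rfl⟩
  have hr2 : orderOf ((r : M) : G) = 2 := by rw [Subgroup.orderOf_coe, Subgroup.orderOf_coe, hr]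
  have hrx : ((r : M) : G) • x = x := mem_stabilizer_iff.mp (r : M).2
  have htr := (P_trans h hH hxy hP (not_dvd_rel P hP)).1
  have hall : ∀ t : G, orderOf t = 2 → t • x = x → t ∈ R := by
    intro t ht htx
    obtain ⟨g, hg, rfl⟩ := htr _ t hr2 hrx ht htx
    exact hRnorm g (hPM hg) _ hrR
  let A : Subgroup G :=
    { carrier := {t | t ∈ R ∧ t ^ 2 = 1}
      one_mem' := ⟨one_mem _, one_pow _⟩
      mul_mem' := by
        rintro s t ⟨hs, hs2⟩ ⟨ht, ht2⟩
        exact ⟨mul_mem hs ht, by rw [(show Commute s t from hRab s hs t ht).mul_pow, hs2, ht2, one_mul]⟩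
      inv_mem' := by
        rintro s ⟨hs, hs2⟩
        exact ⟨inv_mem hs, by rw [inv_pow, hs2, inv_one]⟩ }
  have hA : ∀ t, t ∈ A ↔ t = 1 ∨ (orderOf t = 2 ∧ t • x = x) := by
    intro t
    constructor
    · rintro ⟨ht, ht2⟩
      by_cases h1 : t = 1
      · exact Or.inl h1
      · exact Or.inr ⟨orderOf_eq_prime ht2 h1, mem_stabilizer_iff.mp (hRM ht)⟩
    · rintro (rfl | ⟨ht, htx⟩)
      · exact one_mem _
      · exact ⟨hall t ht htx, by rw [← ht, pow_orderOf_eq_one]⟩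
  have hAab : ∀ s ∈ A, ∀ t ∈ A, s * t = t * s := fun s hs t ht => hRab s hs.1 t ht.1
  refine ⟨A, hA, hAab, ?_⟩
  obtain ⟨k, hk⟩ := im_card h hH hxy
  rw [← if_card h hH hxy] at hk
  -- card of A
  have hA2 : IsPGroup 2 A := by
    intro t
    exact ⟨1, Subtype.ext (by simpa using t.2.2)⟩
  obtain ⟨r', hr'⟩ := IsPGroup.iff_card.mp hA2
  have hAset : (A : Set G) = insert 1 ({u : G | orderOf u = 2 ∧ u • x = x} : Set G) := by
    ext t
    rw [SetLike.mem_coe, hA, Set.mem_insert_iff, Set.mem_setOf_eq]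
  have hcardA : Nat.card A = ({u : G | orderOf u = 2 ∧ u • x = x} : Set G).ncard + 1 := by
    have h1 : Nat.card A = (A : Set G).ncard := rfl
    rw [h1, hAset, Set.ncard_insert_of_notMem _ (Set.toFinite _)]
    rintro ⟨h2, -⟩
    simp at h2
  rw [hr', hk] at hcardA
  obtain ⟨a, b, oa, ob, hab, -, hax, hbx⟩ := exists_four h hH x
  have h2 : 2 ≤ ({u : G | orderOf u = 2 ∧ u • x = x} : Set G).ncard := by
    have h3 : ({a, b} : Set G).ncard = 2 := Set.ncard_pair hab
    have h4 : ({a, b} : Set G) ⊆ ({u : G | orderOf u = 2 ∧ u • x = x} : Set G) := by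
      intro z hz
      rcases hz with e | e
      · rw [e]; exact ⟨oa, hax⟩
      · rw [Set.mem_singleton_iff] at e; rw [e]; exact ⟨ob, hbx⟩
    have h5 := Set.ncard_le_ncard h4 (Set.toFinite _)
    omega
  rw [hk] at h2
  have hr2' : 2 ≤ r' := by
    by_contra hlt
    have : r' ≤ 1 := by omega
    have := Nat.pow_le_pow_right (n := 2) (by norm_num) this
    omega
  have hk1 := mers h.pp hp2 hr2' hcardA
  rw [hk, hk1, pow_one]

end Cfsg.Agent.H9.Pp
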