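import Mathlib
import Cfsg.Agent.H9_PrimeAdd3
import Cfsg.Agent.H9_Small3

/-!
# Simple groups with `p + 1` Sylow `p`-subgroups
-/

set_option autoImplicit false

open scoped Pointwise

namespace Cfsg.Agent.H9.PslSylow

theorem faithful {G : Type*} [Group G] [Finite G] [IsSimpleGroup G] {Ω : Type*} [MulAction G Ω] [MulAction.IsPretransitive G Ω]
    [Nontrivial Ω] : FaithfulSMul G Ω := by
  have h1 : (MulAction.toPermHom G Ω).ker = ⊥ := by
    rcases (inferInstance : (MulAction.toPermHom G Ω).ker.Normal).eq_bot_or_eq_top with h | h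
    · exact h
    · exfalso
      obtain ⟨x, y, hxy⟩ := exists_pair_ne Ω
      obtain ⟨g, hg⟩ := MulAction.exists_smul_eq G x y
      have h2 : g ∈ (MulAction.toPermHom G Ω).ker := by rw [h]; trivial
      have h3 := DFunLike.congr_fun (MonoidHom.mem_ker.1 h2) x
      change g • x = x at h3
      exact hxy (h3.symm.trans hg)
  constructor
  intro g g' hgg
  have h2 : g'⁻¹ * g ∈ (MulAction.toPermHom G Ω).ker := by
    rw [MonoidHom.mem_ker]
    ext x
    change (g'⁻¹ * g) • x = x
    rw [mul_smul, hgg x, inv_smul_smul]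
  rw [h1, Subgroup.mem_bot] at h2
  exact (inv_mul_eq_one.1 h2).symm

theorem psl_of_index {G : Type*} [Group G] [Finite G] [IsSimpleGroup G] (hG : ¬ IsMulCommutative G) {p d : ℕ} (hp : p.Prime)
    (hcard : Nat.card G = (p + 1) * p * d) (hd : d < p) (hd2 : d ≠ p - 1) {Ω : Type*} [MulAction G Ω] [MulAction.IsPretransitive G Ω]
    (hΩ : Nat.card Ω = p + 1) :
    2 * d = p - 1 ∧ ∃ (F : Type) (_ : Field F) (_ : Fintype F), Fintype.card F = p ∧
      Nonempty (G ≃* Matrix.ProjectiveSpecialLinearGroup (Fin 2) F) := by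
  haveI : Finite Ω := Nat.finite_of_card_ne_zero (by rw [hΩ]; omega)
  haveI := Fintype.ofFinite Ω
  haveI : Nontrivial Ω := (Finite.one_lt_card_iff_nontrivial).1 (by rw [hΩ]; have := hp.pos; omega)
  haveI : FaithfulSMul G Ω := faithful
  rcases PrimeAdd.main (G := G) (Ω := Ω) hp (by rw [← Nat.card_eq_fintype_card, hΩ]) hcard hd with h | h | ⟨⟨N, hN, hNc⟩, -⟩
  · exact absurd h.1 hd2
  · exact h
  · exfalso
    rcases hN.eq_bot_or_eq_top with h1 | h1
    · rw [h1, Subgroup.card_bot] at hNc
      have := hp.pos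
      omega
    · rw [h1, Subgroup.card_top, hcard] at hNc
      have hd0 : 0 < d := by
        rcases Nat.eq_zero_or_pos d with h | h
        · rw [h, mul_zero] at hcard
          exact absurd hcard Nat.card_pos.ne'
        · exact h
      have h2 : (p + 1) * (p * d) = (p + 1) * 1 := by rw [← mul_assoc, hNc, mul_one]
      have h3 := Nat.eq_of_mul_eq_mul_left (Nat.succ_pos p) h2
      have h4 := Nat.eq_one_of_mul_eq_one_right h3
      have h5 := hp.one_lt
      omega

theorem psl_of_sylow {G : Type*} [Group G] [Finite G] [IsSimpleGroup G] (hG : ¬ IsMulCommutative G) {p d : ℕ} (hp : p.Prime)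
    (hcard : Nat.card G = (p + 1) * p * d) (hd : d < p) (hd2 : d ≠ p - 1) (hn : Nat.card (Sylow p G) = p + 1) :
    2 * d = p - 1 ∧ ∃ (F : Type) (_ : Field F) (_ : Fintype F), Fintype.card F = p ∧
      Nonempty (G ≃* Matrix.ProjectiveSpecialLinearGroup (Fin 2) F) := by
  haveI := Fact.mk hp
  exact psl_of_index hG hp hcard hd hd2 (Ω := Sylow p G) hn

end Cfsg.Agent.H9.PslSylow
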