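import Mathlib
import Cfsg.Agent.H2_PGroup

/-!
# 2-groups with a commutative group of automorphisms regular on the involutions: basics
-/

set_option autoImplicit false

namespace Cfsg.Agent.H9.Suz

open Subgroup

variable {K P : Type*} [Group K] [Group P] [MulDistribMulAction K P]

/-- the hypotheses -/
structure SZ (K P : Type*) [Group K] [Group P] [MulDistribMulAction K P] : Prop where
  fin : Finite P
  pg : IsPGroup 2 P
  comm : ∀ a b : K, a * b = b * a
  two : ∃ x y : P, x ≠ y ∧ x ≠ 1 ∧ x * x = 1 ∧ y ≠ 1 ∧ y * y = 1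
  trans : ∀ x y : P, x ≠ 1 → x * x = 1 → y ≠ 1 → y * y = 1 → ∃ k : K, k • x = y
  free : ∀ (k : K) (x : P), x ≠ 1 → x * x = 1 → k • x = x → k = 1

/-- invariant subgroups -/
def Inv (K : Type*) {P : Type*} [Group K] [Group P] [MulDistribMulAction K P] (H : Subgroup P) : Prop :=
  ∀ (k : K), ∀ x ∈ H, k • x ∈ H

/-- central elements of order at most two -/
def Z1 (P : Type*) [Group P] : Subgroup P where
  carrier := {z | z ∈ Subgroup.center P ∧ z * z = 1}
  one_mem' := ⟨one_mem _, mul_one 1⟩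
  mul_mem' := by
    rintro a b ⟨ha, ha2⟩ ⟨hb, hb2⟩
    refine ⟨mul_mem ha hb, ?_⟩
    have h1 := Subgroup.mem_center_iff.mp ha b
    calc a * b * (a * b) = a * (b * a) * b := by group
      _ = a * (a * b) * b := by rw [h1]
      _ = (a * a) * (b * b) := by group
      _ = 1 := by rw [ha2, hb2, one_mul]
  inv_mem' := by
    rintro a ⟨ha, ha2⟩
    refine ⟨inv_mem ha, ?_⟩
    rw [← mul_inv_rev, ha2, inv_one]

theorem Z1_center {z : P} (hz : z ∈ Z1 P) (x : P) : x * z = z * x := Subgroup.mem_center_iff.mp hz.1 x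

theorem Z1_sq {z : P} (hz : z ∈ Z1 P) : z * z = 1 := hz.2

theorem Z1_inv {z : P} (hz : z ∈ Z1 P) : z⁻¹ = z := inv_eq_of_mul_eq_one_right hz.2

theorem exists_pow_invol [Finite P] (hP : IsPGroup 2 P) {x : P} (hx : x ≠ 1) :
    ∃ j : ℕ, x ^ (2 ^ j) ≠ 1 ∧ x ^ (2 ^ j) * x ^ (2 ^ j) = 1 := by
  haveI : Fact (Nat.Prime 2) := ⟨Nat.prime_two⟩
  obtain ⟨k, hk⟩ := (IsPGroup.iff_orderOf.mp hP) x
  have hk0 : k ≠ 0 := by
    rintro rfl
    rw [pow_zero, orderOf_eq_one_iff] at hk
    exact hx hk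
  obtain ⟨j, rfl⟩ := Nat.exists_eq_succ_of_ne_zero hk0
  refine ⟨j, ?_, ?_⟩
  · intro h
    have h1 := orderOf_dvd_of_pow_eq_one h
    rw [hk] at h1
    have h2 := Nat.le_of_dvd (by positivity) h1
    have h3 : 2 ^ j < 2 ^ (j + 1) := Nat.pow_lt_pow_right (by norm_num) (by omega)
    exact absurd h2 (not_le.2 h3)
  · rw [← pow_two, ← pow_mul, ← pow_succ, ← hk, pow_orderOf_eq_one]

section
variable (h : SZ K P)
include h

theorem SZ.fpf {k : K} (hk : k ≠ 1) {x : P} (hx : x ≠ 1) : k • x ≠ x := by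
  intro he
  haveI := h.fin
  obtain ⟨j, h1, h2⟩ := exists_pow_invol h.pg hx
  exact hk (h.free k _ h1 h2 (by rw [smul_pow', he]))

theorem SZ.exists_invol : ∃ z : P, z ≠ 1 ∧ z * z = 1 := by
  obtain ⟨x, -, -, hx, hx2, -⟩ := h.two
  exact ⟨x, hx, hx2⟩

theorem SZ.nontrivial : Nontrivial P := by
  obtain ⟨z, hz, -⟩ := h.exists_invol
  exact ⟨z, 1, hz⟩

theorem SZ.center {y : P} (hy : y * y = 1) : y ∈ Subgroup.center P := by
  haveI := h.fin
  haveI := h.nontrivial
  haveI : Fact (Nat.Prime 2) := ⟨Nat.prime_two⟩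
  by_cases hy1 : y = 1
  · rw [hy1]; exact one_mem _
  haveI := h.pg.center_nontrivial
  obtain ⟨x, hx1⟩ := exists_ne (1 : Subgroup.center P)
  have hx1' : (x : P) ≠ 1 := fun e => hx1 (Subtype.ext e)
  obtain ⟨j, h1, h2⟩ := exists_pow_invol h.pg hx1'
  obtain ⟨k, hk⟩ := h.trans _ _ h1 h2 hy1 hy
  have hc : ((x : P) ^ 2 ^ j) ∈ Subgroup.center P := pow_mem x.2 _
  rw [Subgroup.mem_center_iff]
  intro g
  have h3 := Subgroup.mem_center_iff.mp hc (k⁻¹ • g)
  have h4 := congrArg (fun t => k • t) h3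
  simp only [smul_mul', smul_inv_smul, hk] at h4
  exact h4

theorem SZ.mem_Z1 {x : P} : x ∈ Z1 P ↔ x * x = 1 := ⟨fun hx => hx.2, fun hx => ⟨h.center hx, hx⟩⟩

theorem SZ.inv_Z1 : Inv K (Z1 P) := by
  intro k x hx
  rw [h.mem_Z1] at hx ⊢
  rw [← smul_mul', hx, smul_one]

theorem SZ.finK : Finite K := by
  haveI := h.fin
  obtain ⟨z, hz, hz2⟩ := h.exists_invol
  apply Finite.of_injective (fun k : K => k • z)
  intro a b hab
  have h1 : (b⁻¹ * a) • z = z := by
    rw [mul_smul]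
    have : a • z = b • z := hab
    rw [this, inv_smul_smul]
  have := h.free _ z hz hz2 h1
  exact (inv_mul_eq_one.1 this).symm

theorem SZ.card_Z1 : Nat.card (Z1 P) = Nat.card K + 1 := by
  classical
  haveI := h.fin
  haveI := h.finK
  obtain ⟨z, hz, hz2⟩ := h.exists_invol
  have hmem : ∀ k : K, k • z ∈ Z1 P := fun k => h.inv_Z1 k z (h.mem_Z1.2 hz2)
  have hne : ∀ k : K, k • z ≠ 1 := by
    intro k hk
    apply hz
    have : k⁻¹ • (k • z) = k⁻¹ • (1 : P) := by rw [hk]
    rwa [inv_smul_smul, smul_one] at this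
  let e : Option K ≃ Z1 P := Equiv.ofBijective (fun o => match o with
    | none => 1
    | some k => ⟨k • z, hmem k⟩) (by
      constructor
      · rintro (_ | a) (_ | b) hab
        · rfl
        · exact absurd (congrArg Subtype.val hab).symm (hne b)
        · exact absurd (congrArg Subtype.val hab) (hne a)
        · have h0 : a • z = b • z := congrArg Subtype.val hab
          have h1 : (b⁻¹ * a) • z = z := by rw [mul_smul, h0, inv_smul_smul]
          have := h.free _ z hz hz2 h1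
          rw [inv_mul_eq_one.1 this]
      · rintro ⟨y, hy⟩
        by_cases hy1 : y = 1
        · exact ⟨none, Subtype.ext hy1.symm⟩
        · obtain ⟨k, hk⟩ := h.trans z y hz hz2 hy1 (Z1_sq hy)
          exact ⟨some k, Subtype.ext hk⟩)
  rw [← Nat.card_congr e, Finite.card_option]

theorem SZ.three_le : 3 ≤ Nat.card K := by
  classical
  haveI := h.fin
  haveI := h.finK
  haveI : Fact (Nat.Prime 2) := ⟨Nat.prime_two⟩
  obtain ⟨x, y, hxy, hx, hx2, hy, hy2⟩ := h.two
  have h1 := h.card_Z1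
  obtain ⟨m, hm⟩ := (IsPGroup.iff_card.mp (h.pg.to_subgroup (Z1 P)))
  have h2 : 2 < Nat.card (Z1 P) := by
    haveI : Fintype (Z1 P) := Fintype.ofFinite _
    rw [Nat.card_eq_fintype_card, Fintype.two_lt_card_iff]
    refine ⟨1, ⟨x, h.mem_Z1.2 hx2⟩, ⟨y, h.mem_Z1.2 hy2⟩, ?_, ?_, ?_⟩
    · exact fun e => hx (congrArg Subtype.val e).symm
    · exact fun e => hy (congrArg Subtype.val e).symm
    · exact fun e => hxy (congrArg Subtype.val e)
  rw [hm] at h1 h2
  have hm2 : 2 ≤ m := by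
    by_contra hlt
    interval_cases m <;> omega
  obtain ⟨m', rfl⟩ := Nat.exists_eq_add_of_le hm2
  rw [pow_add] at h1
  have : 1 ≤ 2 ^ m' := Nat.one_le_two_pow
  omega

theorem SZ.le_of_ne_bot {H : Subgroup P} (hI : Inv K H) (hH : H ≠ ⊥) : Z1 P ≤ H := by
  haveI := h.fin
  obtain ⟨x', hx'⟩ := Subgroup.ne_bot_iff_exists_ne_one.mp hH
  obtain ⟨x, hx, hx1⟩ : ∃ x : P, x ∈ H ∧ x ≠ 1 := ⟨x', x'.2, fun e => hx' (Subtype.ext e)⟩
  obtain ⟨j, h1, h2⟩ := exists_pow_invol h.pg hx1
  intro z hz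
  by_cases hz1 : z = 1
  · rw [hz1]; exact one_mem _
  · obtain ⟨k, hk⟩ := h.trans _ z h1 h2 hz1 (Z1_sq hz)
    rw [← hk]
    exact hI k _ (pow_mem hx _)

/-- freeness on cosets -/
theorem SZ.coset {M : Subgroup P} (hI : Inv K M) {k : K} (hk : k ≠ 1) {x : P} (hx : x⁻¹ * (k • x) ∈ M) : x ∈ M := by
  haveI := h.fin
  have hinj : Function.Injective (fun m : M => (⟨(m : P) * (k • (m : P))⁻¹, mul_mem m.2 (inv_mem (hI k _ m.2))⟩ : M)) := by
    intro m m' hm
    have h1 : (m : P) * (k • (m : P))⁻¹ = (m' : P) * (k • (m' : P))⁻¹ := congrArg Subtype.val hm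
    have h2 : k • ((m' : P)⁻¹ * m) = (m' : P)⁻¹ * m := by
      rw [smul_mul', smul_inv']
      rw [mul_inv_eq_iff_eq_mul] at h1
      generalize k • (m : P) = a at h1 ⊢
      generalize k • (m' : P) = b at h1 ⊢
      rw [h1]
      group
    have h3 : (m' : P)⁻¹ * m = 1 := by
      by_contra h4
      exact h.fpf hk h4 h2
    exact (Subtype.ext (inv_mul_eq_one.1 h3)).symm
  obtain ⟨m, hm⟩ := Finite.injective_iff_surjective.mp hinj ⟨_, hx⟩
  have h1 : (m : P) * (k • (m : P))⁻¹ = x⁻¹ * (k • x) := congrArg Subtype.val hm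
  have h2 : k • (x * (m : P)) = x * m := by
    rw [smul_mul']
    rw [mul_inv_eq_iff_eq_mul] at h1
    conv_rhs => rw [h1]
    group
  have h3 : x * (m : P) = 1 := by
    by_contra h4
    exact h.fpf hk h4 h2
  rw [mul_eq_one_iff_eq_inv.1 h3]
  exact inv_mem m.2

theorem SZ.big {A L : Subgroup P} (hA : Inv K A) (hL : Inv K L) (hAL : A ≤ L) (hne : ¬ L ≤ A) :
    (Nat.card K + 1) * Nat.card A ≤ Nat.card L := by
  classical
  haveI := h.fin
  haveI := h.finK
  obtain ⟨x, hx, hxA⟩ := Set.not_subset.mp hne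
  have hinj : Function.Injective (fun p : Option K × A => (match p.1 with
      | none => ⟨p.2, hAL p.2.2⟩
      | some k => ⟨(k • x) * p.2, mul_mem (hL k x hx) (hAL p.2.2)⟩ : L)) := by
    have hkx : ∀ k : K, k • x ∉ A := by
      intro k hk
      apply hxA
      have := hA k⁻¹ _ hk
      rwa [inv_smul_smul] at this
    rintro ⟨_ | k, a⟩ ⟨_ | l, b⟩ hab
    · have : (a : P) = b := congrArg (fun t : L => (t : P)) hab
      rw [Subtype.ext this]
    · exfalso
      have h1 : (a : P) = (l • x) * b := congrArg (fun t : L => (t : P)) hab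
      apply hkx l
      rw [← mul_inv_eq_iff_eq_mul.2 h1]
      exact mul_mem a.2 (inv_mem b.2)
    · exfalso
      have h1 : (k • x) * (a : P) = b := congrArg (fun t : L => (t : P)) hab
      apply hkx k
      rw [eq_mul_inv_of_mul_eq h1]
      exact mul_mem b.2 (inv_mem a.2)
    · have h1 : (k • x) * (a : P) = (l • x) * b := congrArg (fun t : L => (t : P)) hab
      have h2 : x⁻¹ * ((k⁻¹ * l) • x) ∈ A := by
        have h3 : (k • x)⁻¹ * (l • x) = (a : P) * (b : P)⁻¹ := by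
          rw [eq_mul_inv_iff_mul_eq, mul_assoc, ← h1, inv_mul_cancel_left]
        have h4 := hA k⁻¹ _ (show (k • x)⁻¹ * (l • x) ∈ A by rw [h3]; exact mul_mem a.2 (inv_mem b.2))
        rwa [smul_mul', smul_inv', inv_smul_smul, ← mul_smul] at h4
      have h5 : k⁻¹ * l = 1 := by
        by_contra h6
        exact hxA (h.coset hA h6 h2)
      have h6 : k = l := inv_mul_eq_one.1 h5
      subst h6
      have : (a : P) = b := mul_left_cancel h1
      rw [Subtype.ext this]
  have := Nat.card_le_card_of_injective _ hinj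
  rwa [Nat.card_prod, Finite.card_option] at this

/-- dichotomy -/
theorem SZ.dich {A L H : Subgroup P} (hA : Inv K A) (hL : Inv K L) (hAL : A ≤ L) (hLH : L ≤ H)
    (hc : Nat.card H = (Nat.card K + 1) * Nat.card A) : L = A ∨ L = H := by
  haveI := h.fin
  by_cases hne : L ≤ A
  · exact Or.inl (le_antisymm hne hAL)
  · right
    have h1 := h.big hA hL hAL hne
    exact Subgroup.eq_of_le_of_card_ge hLH (by rw [hc]; exact h1)

end

end Cfsg.Agent.H9.Suz
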