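import Mathlib
import Cfsg.Agent.H9_Suz1
import Cfsg.Agent.H9_ZassF

/-!
# Sections of 2-groups with a free group of automorphisms
-/

set_option autoImplicit false

universe u w

namespace Cfsg.Agent.H9.Suz

open Subgroup

/-- irreducible modules have the smallest possible order -/
theorem irr {V : Type*} [AddCommGroup V] [Finite V] [Nontrivial V] {E : Type*} [Group E] [Finite E]
    (hcomm : ∀ a b : E, a * b = b * a) (f : E →* AddMonoid.End V) (h2 : ∀ v : V, v + v = 0)
    (hfree : ∀ (e : E) (v : V), v ≠ 0 → f e v = v → e = 1) {n : ℕ} (hE : Nat.card E + 1 = 2 ^ n)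
    (hirr : ∀ U : AddSubgroup V, (∀ e, ∀ u ∈ U, f e u ∈ U) → U = ⊥ ∨ U = ⊤) : Nat.card V = 2 ^ n := by
  classical
  let s : Set (AddMonoid.End V) := Set.range f
  let R := Subring.closure s
  have hs : ∀ x ∈ s, ∀ y ∈ s, x * y = y * x := by
    rintro _ ⟨a, rfl⟩ _ ⟨b, rfl⟩
    rw [← map_mul, ← map_mul, hcomm]
  letI : CommRing R := Subring.closureCommRingOfComm hs
  have hfR : ∀ e, f e ∈ R := fun e => Subring.subset_closure ⟨e, rfl⟩
  have hcommR : ∀ r ∈ R, ∀ t ∈ R, r * t = t * r := by
    intro r hr t ht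
    exact congrArg Subtype.val (mul_comm (⟨r, hr⟩ : R) ⟨t, ht⟩)
  obtain ⟨v₀, hv₀⟩ := exists_ne (0 : V)
  -- the orbit subgroup
  have horb : ∀ v : V, v ≠ 0 → ∀ w : V, ∃ r ∈ R, r v = w := by
    intro v hv
    let U : AddSubgroup V :=
      { carrier := {w | ∃ r ∈ R, r v = w}
        add_mem' := by
          rintro _ _ ⟨r, hr, rfl⟩ ⟨r', hr', rfl⟩
          exact ⟨r + r', R.add_mem hr hr', rfl⟩
        zero_mem' := ⟨0, R.zero_mem, rfl⟩
        neg_mem' := by
          rintro _ ⟨r, hr, rfl⟩
          exact ⟨-r, R.neg_mem hr, rfl⟩ }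
    have hU : ∀ e, ∀ u ∈ U, f e u ∈ U := by
      rintro e _ ⟨r, hr, rfl⟩
      exact ⟨f e * r, R.mul_mem (hfR e) hr, rfl⟩
    rcases hirr U hU with h1 | h1
    · exfalso
      have h2 : v ∈ U := ⟨1, R.one_mem, rfl⟩
      rw [h1] at h2
      exact hv h2
    · intro w
      have : w ∈ U := by rw [h1]; trivial
      exact this
  have hzero : ∀ r ∈ R, ∀ v : V, v ≠ 0 → r v = 0 → r = 0 := by
    intro r hr v hv hrv
    ext w
    obtain ⟨t, ht, rfl⟩ := horb v hv w
    have : (r * t) v = (t * r) v := by rw [hcommR r hr t ht]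
    change r (t v) = t (r v) at this
    rw [this, hrv, map_zero]
    rfl
  haveI : Finite R := by
    apply Finite.of_injective (fun r : R => r.1 v₀)
    intro r t hrt
    have h1 : (r.1 - t.1) v₀ = 0 := by
      change r.1 v₀ - t.1 v₀ = 0
      exact sub_eq_zero.2 hrt
    have h2 := hzero (r.1 - t.1) (R.sub_mem r.2 t.2) v₀ hv₀ h1
    exact Subtype.ext (sub_eq_zero.1 h2)
  haveI : Nontrivial R := ⟨0, 1, fun h => hv₀ (by
    have : (0 : AddMonoid.End V) = 1 := congrArg Subtype.val h
    have h2 := DFunLike.congr_fun this v₀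
    exact h2.symm)⟩
  haveI : NoZeroDivisors R := ⟨by
    intro r t hrt
    by_cases ht : t = 0
    · exact Or.inr ht
    · left
      have h1 : t.1 v₀ ≠ 0 := fun h => ht (Subtype.ext (hzero t.1 t.2 v₀ hv₀ h))
      have h2 : r.1 (t.1 v₀) = 0 := by
        have : (r * t : R).1 v₀ = 0 := by rw [hrt]; rfl
        exact this
      exact Subtype.ext (hzero r.1 r.2 _ h1 h2)⟩
  haveI : IsDomain R := NoZeroDivisors.to_isDomain R
  haveI : Fintype R := Fintype.ofFinite R
  -- evaluation
  have hbij : Function.Bijective (fun r : R => r.1 v₀) := by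
    constructor
    · intro r t hrt
      have h1 : (r.1 - t.1) v₀ = 0 := by
        change r.1 v₀ - t.1 v₀ = 0
        exact sub_eq_zero.2 hrt
      have h2 := hzero (r.1 - t.1) (R.sub_mem r.2 t.2) v₀ hv₀ h1
      exact Subtype.ext (sub_eq_zero.1 h2)
    · intro w
      obtain ⟨r, hr, hrw⟩ := horb v₀ hv₀ w
      exact ⟨⟨r, hr⟩, hrw⟩
  have hcard : Nat.card R = Nat.card V := Nat.card_congr (Equiv.ofBijective _ hbij)
  -- characteristic two
  haveI : CharP R 2 := CharTwo.of_one_ne_zero_of_two_eq_zero one_ne_zero (by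
    apply Subtype.ext
    ext v
    change ((2 : R) : AddMonoid.End V) v = 0
    have : ((2 : R) : AddMonoid.End V) = 1 + 1 := by
      rw [← one_add_one_eq_two]; rfl
    rw [this]
    exact h2 v)
  have hpow : ∀ r : R, r ^ (2 ^ n) = r := by
    let T : Subring (AddMonoid.End V) := Subring.map R.subtype (RingHom.eqLocus (iterateFrobenius R 2 n) (RingHom.id R))
    have hT : R ≤ T := by
      refine Subring.closure_le.mpr ?_
      rintro _ ⟨e, rfl⟩
      refine ⟨⟨f e, hfR e⟩, ?_, rfl⟩
      change iterateFrobenius R 2 n ⟨f e, hfR e⟩ = ⟨f e, hfR e⟩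
      rw [iterateFrobenius_def]
      apply Subtype.ext
      change (f e) ^ (2 ^ n) = f e
      rw [← hE, pow_succ, ← map_pow, pow_card_eq_one', map_one, one_mul]
    intro r
    obtain ⟨r', hr', hr2⟩ := hT r.2
    have : r' = r := Subtype.ext hr2
    rw [this] at hr'
    have h3 : iterateFrobenius R 2 n r = r := hr'
    rwa [iterateFrobenius_def] at h3
  have hle : Nat.card R ≤ 2 ^ n := by
    obtain ⟨g, hg⟩ := IsCyclic.exists_generator (α := Rˣ)
    have h1 : orderOf g = Nat.card Rˣ := orderOf_eq_card_of_forall_mem_zpowers hg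
    have h2 : Nat.card Rˣ + 1 = Nat.card R := by
      have h3 : Nat.card R = Nat.card Rˣ + 1 := by
        let F' : Field R := (Finite.isField_of_domain R).toField
        exact @Nat.card_eq_card_units_add_one R F'.toDivisionRing.toDivisionSemiring.toGroupWithZero _
      exact h3.symm
    have h3 : g ^ (2 ^ n - 1) = 1 := by
      have h4 : g ^ (2 ^ n) = g := Units.ext (by rw [Units.val_pow_eq_pow_val]; exact hpow g)
      have h5 : 2 ^ n = (2 ^ n - 1) + 1 := (Nat.sub_add_cancel Nat.one_le_two_pow).symm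
      rw [h5, pow_succ] at h4
      exact mul_eq_right.mp h4
    have hn0 : 0 < 2 ^ n - 1 := by
      have : 0 < Nat.card E := Nat.card_pos
      omega
    have h4 := Nat.le_of_dvd hn0 (orderOf_dvd_of_pow_eq_one h3)
    omega
  have hge : Nat.card E + 1 ≤ Nat.card V := by
    have hinj : Function.Injective (fun o : Option E => (match o with
        | Option.none => 0
        | Option.some e => f e v₀ : V)) := by
      have hne : ∀ e : E, f e v₀ ≠ 0 := by
        intro e he
        apply hv₀
        have : f e⁻¹ (f e v₀) = v₀ := by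
          have := DFunLike.congr_fun (map_mul f e⁻¹ e) v₀
          rw [inv_mul_cancel, map_one] at this
          exact this.symm
        rw [← this, he, map_zero]
      rintro (_ | e) (_ | e') h
      · rfl
      · exact absurd h.symm (hne e')
      · exact absurd h (hne e)
      · have h2 : f e v₀ = f e' v₀ := h
        have h3 : f (e'⁻¹ * e) v₀ = v₀ := by
          rw [map_mul]
          change f e'⁻¹ (f e v₀) = v₀
          rw [h2]
          have := DFunLike.congr_fun (map_mul f e'⁻¹ e') v₀
          rw [inv_mul_cancel, map_one] at this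
          exact this.symm
        have h4 := hfree _ v₀ hv₀ h3
        rw [inv_mul_eq_one.1 h4]
    have := Nat.card_le_card_of_injective _ hinj
    rwa [Finite.card_option] at this
  omega

end Cfsg.Agent.H9.Suz
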