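import Mathlib
import Cfsg.Agent.H9_Suz2

/-!
# Sections of 2-groups with a free group of automorphisms, II
-/

set_option autoImplicit false

universe u w

namespace Cfsg.Agent.H9.Suz

open Subgroup

section quot
variable {K : Type w} {P : Type u} [Group K] [Group P] [MulDistribMulAction K P]

theorem exists_quot (h : SZ K P) {A H : Subgroup P} (hA : Inv K A) (hH : Inv K H)
    (hAH : A ≤ H) (hc : ∀ x ∈ H, ∀ y ∈ H, x⁻¹ * y⁻¹ * x * y ∈ A) :
    ∃ (V : Type u) (_ : AddCommGroup V) (_ : Finite V) (π : P → V) (f : K →* AddMonoid.End V),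
      (∀ x ∈ H, ∀ y ∈ H, π (x * y) = π x + π y) ∧ (∀ x ∈ H, π x = 0 ↔ x ∈ A) ∧ (∀ v, ∃ x ∈ H, π x = v) ∧
      (∀ (k : K), ∀ x ∈ H, f k (π x) = π (k • x)) ∧ Nat.card H = Nat.card V * Nat.card A ∧
      (∀ (e : K) (v : V), v ≠ 0 → f e v = v → e = 1) := by
  classical
  haveI := h.fin
  let N : Subgroup H := A.subgroupOf H
  haveI hN : N.Normal := by
    constructor
    intro n hn g
    rw [mem_subgroupOf] at hn ⊢
    have h1 := hc n n.2 (g : P)⁻¹ (inv_mem g.2)
    have h2 : ((g * n * g⁻¹ : H) : P) = (n : P) * ((n : P)⁻¹ * ((g : P)⁻¹)⁻¹ * n * (g : P)⁻¹) := by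
      simp only [Subgroup.coe_mul, Subgroup.coe_inv]
      group
    rw [h2]
    exact mul_mem hn h1
  letI : CommGroup (H ⧸ N) :=
    { (inferInstance : Group (H ⧸ N)) with
      mul_comm := by
        intro a b
        obtain ⟨x, rfl⟩ := QuotientGroup.mk_surjective a
        obtain ⟨y, rfl⟩ := QuotientGroup.mk_surjective b
        rw [← QuotientGroup.mk_mul, ← QuotientGroup.mk_mul, QuotientGroup.eq, mem_subgroupOf]
        have h1 := hc y y.2 x x.2
        have h2 : (((x * y)⁻¹ * (y * x) : H) : P) = (y : P)⁻¹ * (x : P)⁻¹ * y * x := by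
          simp only [Subgroup.coe_mul, Subgroup.coe_inv]
          group
        rw [h2]
        exact h1 }
  let φ : K → (H →* H) := fun k =>
    { toFun := fun x => ⟨k • (x : P), hH k x x.2⟩
      map_one' := Subtype.ext (smul_one k)
      map_mul' := fun x y => Subtype.ext (smul_mul' k (x : P) (y : P)) }
  have hφN : ∀ k, N ≤ N.comap (φ k) := by
    intro k x hx
    rw [mem_comap, mem_subgroupOf]
    exact hA k _ hx
  let f : K →* AddMonoid.End (Additive (H ⧸ N)) :=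
    { toFun := fun k => MonoidHom.toAdditive (QuotientGroup.map N N (φ k) (hφN k))
      map_one' := by
        ext a
        obtain ⟨x, hx⟩ := QuotientGroup.mk_surjective (Additive.toMul a)
        change Additive.ofMul (QuotientGroup.map N N (φ 1) (hφN 1) (Additive.toMul a)) = a
        rw [← hx, QuotientGroup.map_mk]
        have : φ 1 x = x := Subtype.ext (one_smul K (x : P))
        rw [this, hx]
        rfl
      map_mul' := by
        intro k l
        ext a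
        obtain ⟨x, hx⟩ := QuotientGroup.mk_surjective (Additive.toMul a)
        change Additive.ofMul (QuotientGroup.map N N (φ (k * l)) (hφN _) (Additive.toMul a)) =
          Additive.ofMul (QuotientGroup.map N N (φ k) (hφN _) (QuotientGroup.map N N (φ l) (hφN _) (Additive.toMul a)))
        rw [← hx, QuotientGroup.map_mk, QuotientGroup.map_mk, QuotientGroup.map_mk]
        have : φ (k * l) x = φ k (φ l x) := Subtype.ext (mul_smul k l (x : P))
        rw [this] }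
  let π : P → Additive (H ⧸ N) := fun x => if hx : x ∈ H then Additive.ofMul (QuotientGroup.mk ⟨x, hx⟩) else 0
  have hπ : ∀ x (hx : x ∈ H), π x = Additive.ofMul (QuotientGroup.mk ⟨x, hx⟩) := fun x hx => dif_pos hx
  have hker : ∀ x ∈ H, π x = 0 ↔ x ∈ A := by
    intro x hx
    rw [hπ x hx]
    change (QuotientGroup.mk (⟨x, hx⟩ : H) : H ⧸ N) = 1 ↔ _
    rw [QuotientGroup.eq_one_iff, mem_subgroupOf]
  have hadd : ∀ x ∈ H, ∀ y ∈ H, π (x * y) = π x + π y := by
    intro x hx y hy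
    rw [hπ x hx, hπ y hy, hπ _ (mul_mem hx hy)]
    rfl
  have hsurj : ∀ v, ∃ x ∈ H, π x = v := by
    intro v
    obtain ⟨x, hx⟩ := QuotientGroup.mk_surjective (Additive.toMul v)
    refine ⟨x, x.2, ?_⟩
    rw [hπ x x.2]
    exact hx
  have heq : ∀ (k : K), ∀ x ∈ H, f k (π x) = π (k • x) := by
    intro k x hx
    rw [hπ x hx, hπ _ (hH k x hx)]
    rfl
  refine ⟨Additive (H ⧸ N), inferInstance, inferInstance, π, f, hadd, hker, hsurj, heq, ?_, ?_⟩
  · have h1 := Subgroup.card_eq_card_quotient_mul_card_subgroup N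
    rw [h1, Nat.card_congr (Subgroup.subgroupOfEquivOfLe hAH).toEquiv]
    rfl
  · intro e v hv hev
    obtain ⟨x, hx, rfl⟩ := hsurj v
    by_contra he
    apply hv
    rw [hker x hx]
    apply h.coset hA he
    rw [heq e x hx] at hev
    rw [← hker _ (mul_mem (inv_mem hx) (hH e x hx)), hadd _ (inv_mem hx) _ (hH e x hx), hev, ← hadd _ (inv_mem hx) _ hx,
      inv_mul_cancel, hker _ (one_mem _)]
    exact one_mem _

theorem SZ.card_pow (h : SZ K P) : ∃ n : ℕ, Nat.card K + 1 = 2 ^ n := by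
  haveI := h.fin
  haveI : Fact (Nat.Prime 2) := ⟨Nat.prime_two⟩
  obtain ⟨m, hm⟩ := (IsPGroup.iff_card.mp (h.pg.to_subgroup (Z1 P)))
  exact ⟨m, by rw [← h.card_Z1, hm]⟩

/-- minimal sections have order `q` -/
theorem card_of_minimal (h : SZ K P) {A H : Subgroup P} (hA : Inv K A) (hH : Inv K H)
    (hAH : A ≤ H) (hne : ¬ H ≤ A) (hc : ∀ x ∈ H, ∀ y ∈ H, x⁻¹ * y⁻¹ * x * y ∈ A) (hsq : ∀ x ∈ H, x * x ∈ A)
    (hmin : ∀ L : Subgroup P, Inv K L → A ≤ L → L ≤ H → L = A ∨ L = H) :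
    Nat.card H = (Nat.card K + 1) * Nat.card A := by
  classical
  haveI := h.fin
  haveI := h.finK
  obtain ⟨V, i1, i2, π, f, hadd, hker, hsurj, heq, hcard, hfree⟩ := exists_quot h hA hH hAH hc
  obtain ⟨n, hn⟩ := h.card_pow
  obtain ⟨x₀, hx₀, hx₀A⟩ := Set.not_subset.mp hne
  haveI : Nontrivial V := ⟨π x₀, 0, fun e => hx₀A ((hker x₀ hx₀).1 e)⟩
  have h2 : ∀ v : V, v + v = 0 := by
    intro v
    obtain ⟨x, hx, rfl⟩ := hsurj v
    rw [← hadd x hx x hx, hker _ (mul_mem hx hx)]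
    exact hsq x hx
  have hneg : ∀ x ∈ H, π x⁻¹ = - π x := by
    intro x hx
    rw [eq_neg_iff_add_eq_zero, ← hadd _ (inv_mem hx) _ hx, inv_mul_cancel, hker _ (one_mem _)]
    exact one_mem _
  have h1 := irr (V := V) h.comm f h2 hfree hn (fun U hU => by
    let L : Subgroup P :=
      { carrier := {x | x ∈ H ∧ π x ∈ U}
        one_mem' := ⟨one_mem _, by rw [(hker 1 (one_mem _)).2 (one_mem _)]; exact U.zero_mem⟩
        mul_mem' := by
          rintro x y ⟨hx, hxU⟩ ⟨hy, hyU⟩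
          exact ⟨mul_mem hx hy, by rw [hadd x hx y hy]; exact U.add_mem hxU hyU⟩
        inv_mem' := by
          rintro x ⟨hx, hxU⟩
          exact ⟨inv_mem hx, by rw [hneg x hx]; exact U.neg_mem hxU⟩ }
    rcases hmin L (by
        rintro k x ⟨hx, hxU⟩
        exact ⟨hH k x hx, by rw [← heq k x hx]; exact hU k _ hxU⟩)
      (fun x hx => ⟨hAH hx, by rw [(hker x (hAH hx)).2 hx]; exact U.zero_mem⟩) (fun x hx => hx.1) with h3 | h3
    · left
      rw [eq_bot_iff]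
      intro v hv
      obtain ⟨x, hx, rfl⟩ := hsurj v
      have : x ∈ L := ⟨hx, hv⟩
      rw [h3] at this
      rw [(hker x hx).2 this]
      exact AddSubgroup.zero_mem _
    · right
      rw [eq_top_iff]
      intro v _
      obtain ⟨x, hx, rfl⟩ := hsurj v
      have : x ∈ L := by rw [h3]; exact hx
      exact this.2)
  rw [hcard, h1, hn]

theorem exists_minimal_inv (h : SZ K P) {A H : Subgroup P} (hH : Inv K H)
    (hAH : A ≤ H) (hne : ¬ H ≤ A) : ∃ L : Subgroup P, Inv K L ∧ A ≤ L ∧ L ≤ H ∧ ¬ L ≤ A ∧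
      ∀ L' : Subgroup P, Inv K L' → A ≤ L' → L' ≤ L → L' = A ∨ L' = L := by
  classical
  haveI := h.fin
  have hex : ∃ n : ℕ, ∃ L : Subgroup P, Nat.card L = n ∧ Inv K L ∧ A ≤ L ∧ L ≤ H ∧ ¬ L ≤ A := ⟨_, H, rfl, hH, hAH, le_rfl, hne⟩
  obtain ⟨L, hLn, hL1, hL2, hL3, hL4⟩ := Nat.find_spec hex
  refine ⟨L, hL1, hL2, hL3, hL4, ?_⟩
  intro L' h1 h2 h3
  by_cases h4 : L' ≤ A
  · exact Or.inl (le_antisymm h4 h2)
  · right
    have h5 := Nat.find_min' hex ⟨L', rfl, h1, h2, h3.trans hL3, h4⟩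
    rw [← hLn] at h5
    exact Subgroup.eq_of_le_of_card_ge h3 h5

/-- chief factors -/
theorem exists_chief (h : SZ K P) {N L H : Subgroup P} (hN : Inv K N) (hL : Inv K L) (hH : Inv K H)
    (hNL : N ≤ L) (hne : ¬ L ≤ N) (hLH : L ≤ H) (hNn : ∀ x ∈ N, ∀ g ∈ H, g⁻¹ * x * g ∈ N)
    (hLn : ∀ x ∈ L, ∀ g ∈ H, g⁻¹ * x * g ∈ L) :
    ∃ A : Subgroup P, Inv K A ∧ N ≤ A ∧ A ≤ L ∧ Nat.card A = (Nat.card K + 1) * Nat.card N ∧
      (∀ a ∈ A, ∀ g ∈ H, a⁻¹ * g⁻¹ * a * g ∈ N) ∧ (∀ a ∈ A, a * a ∈ N) := by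
  classical
  haveI := h.fin
  haveI : Fact (Nat.Prime 2) := ⟨Nat.prime_two⟩
  have hconj : ∀ x ∈ N, ∀ g ∈ H, g * x * g⁻¹ ∈ N := by
    intro x hx g hg
    have := hNn x hx g⁻¹ (inv_mem hg)
    rwa [inv_inv] at this
  -- the subgroup of good elements
  let L' : Subgroup P :=
    { carrier := {x | x ∈ L ∧ x * x ∈ N ∧ ∀ g ∈ H, x⁻¹ * g⁻¹ * x * g ∈ N}
      one_mem' := ⟨one_mem _, by rw [mul_one]; exact one_mem _, fun g _ => by simp [one_mem]⟩
      mul_mem' := by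
        rintro x y ⟨hx, hx2, hxg⟩ ⟨hy, hy2, hyg⟩
        refine ⟨mul_mem hx hy, ?_, fun g hg => ?_⟩
        · have h1 : x * y * (x * y) = (x * x) * ((x⁻¹ * y⁻¹⁻¹ * x * y⁻¹) * (y * y)) := by group
          rw [h1]
          exact mul_mem hx2 (mul_mem (hxg y⁻¹ (inv_mem (hLH hy))) hy2)
        · have h1 : (x * y)⁻¹ * g⁻¹ * (x * y) * g = (y⁻¹ * (x⁻¹ * g⁻¹ * x * g) * y) * (y⁻¹ * g⁻¹ * y * g) := by group
          rw [h1]
          exact mul_mem (hNn _ (hxg g hg) y (hLH hy)) (hyg g hg)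
      inv_mem' := by
        rintro x ⟨hx, hx2, hxg⟩
        refine ⟨inv_mem hx, ?_, fun g hg => ?_⟩
        · rw [← mul_inv_rev]
          exact inv_mem hx2
        · have h1 : x⁻¹⁻¹ * g⁻¹ * x⁻¹ * g = x * (x⁻¹ * g⁻¹ * x * g)⁻¹ * x⁻¹ := by group
          rw [h1]
          exact hconj _ (inv_mem (hxg g hg)) x (hLH hx) }
  have hL'inv : Inv K L' := by
    rintro k x ⟨hx, hx2, hxg⟩
    refine ⟨hL k x hx, ?_, fun g hg => ?_⟩
    · rw [← smul_mul']
      exact hN k _ hx2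
    · have h1 := hN k _ (hxg (k⁻¹ • g) (hH k⁻¹ g hg))
      simpa [smul_mul', smul_inv'] using h1
  have hNL' : N ≤ L' := by
    intro x hx
    refine ⟨hNL hx, mul_mem hx hx, fun g hg => ?_⟩
    have h1 : x⁻¹ * g⁻¹ * x * g = x⁻¹ * (g⁻¹ * x * g) := by group
    rw [h1]
    exact mul_mem (inv_mem hx) (hNn x hx g hg)
  have hL'N : ¬ L' ≤ N := by
    intro hle
    -- quotient of H by N
    let Nb : Subgroup H := N.subgroupOf H
    haveI : Nb.Normal := by
      constructor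
      intro n hn g
      rw [mem_subgroupOf] at hn ⊢
      exact hconj _ hn _ g.2
    let Lb : Subgroup H := L.subgroupOf H
    haveI : Lb.Normal := by
      constructor
      intro n hn g
      rw [mem_subgroupOf] at hn ⊢
      have := hLn _ hn (g : P)⁻¹ (inv_mem g.2)
      rwa [inv_inv] at this
    have hQ : IsPGroup 2 (H ⧸ Nb) := (h.pg.to_subgroup H).to_quotient Nb
    have hM : (Lb.map (QuotientGroup.mk' Nb)) ≠ ⊥ := by
      intro hb
      apply hne
      intro x hx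
      have h1 : (QuotientGroup.mk' Nb ⟨x, hLH hx⟩) ∈ Lb.map (QuotientGroup.mk' Nb) :=
        Subgroup.mem_map_of_mem _ (by rw [mem_subgroupOf]; exact hx)
      rw [hb, Subgroup.mem_bot] at h1
      exact (QuotientGroup.eq_one_iff (N := Nb) _).1 h1
    haveI : (Lb.map (QuotientGroup.mk' Nb)).Normal := Subgroup.Normal.map inferInstance _ (QuotientGroup.mk'_surjective _)
    have h2 := Cfsg.Agent.H2.PGroup.inf_center_ne_bot hQ hM
    obtain ⟨y', hy'⟩ := Subgroup.ne_bot_iff_exists_ne_one.mp h2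
    obtain ⟨y, hy, hy1⟩ : ∃ y : H ⧸ Nb, y ∈ Lb.map (QuotientGroup.mk' Nb) ⊓ Subgroup.center _ ∧ y ≠ 1 :=
      ⟨y', y'.2, fun e => hy' (Subtype.ext e)⟩
    obtain ⟨j, hj1, hj2⟩ := exists_pow_invol hQ hy1
    have hy3 := pow_mem hy (2 ^ j)
    generalize y ^ 2 ^ j = z at hj1 hj2 hy3
    obtain ⟨⟨x, hxL, rfl⟩, hxc⟩ := hy3
    rw [SetLike.mem_coe, mem_subgroupOf] at hxL
    have hxN : (x : P) ∉ N := fun hx => hj1 ((QuotientGroup.eq_one_iff (N := Nb) _).2 hx)
    apply hxN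
    apply hle
    refine ⟨hxL, ?_, fun g hg => ?_⟩
    · have h3 : QuotientGroup.mk' Nb (x * x) = 1 := by rw [map_mul]; exact hj2
      exact (QuotientGroup.eq_one_iff (N := Nb) _).1 h3
    · have h3 := Subgroup.mem_center_iff.mp hxc (QuotientGroup.mk' Nb ⟨g, hg⟩)
      have h4 : QuotientGroup.mk' Nb (x⁻¹ * ⟨g, hg⟩⁻¹ * x * ⟨g, hg⟩) = 1 := by
        simp only [map_mul, map_inv]
        rw [mul_assoc, ← h3]
        group
      exact (QuotientGroup.eq_one_iff (N := Nb) _).1 h4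
  obtain ⟨A, hA1, hA2, hA3, hA4, hA5⟩ := exists_minimal_inv h hL'inv hNL' hL'N
  refine ⟨A, hA1, hA2, fun x hx => (hA3 hx).1, ?_, fun a ha g hg => (hA3 ha).2.2 g hg, fun a ha => (hA3 ha).2.1⟩
  exact card_of_minimal h hN hA1 hA2 hA4 (fun x hx y hy => (hA3 hx).2.2 y (hLH (hA3 hy).1)) (fun x hx => (hA3 hx).2.1) hA5

end quot

end Cfsg.Agent.H9.Suz
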