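import Mathlib

/-!
# Chevalley–Warning for quadratic maps over the field with two elements
-/

set_option autoImplicit false

namespace Cfsg.Agent.H9.SuzCW

open MvPolynomial

theorem zmod2 : ∀ a : ZMod 2, a = 0 ∨ a = 1 := by decide

theorem cw_bound {V : Type*} [AddCommGroup V] [Finite V] {W : Type*} [AddCommGroup W] [Finite W]
    (hV2 : ∀ v : V, v + v = 0) (hW2 : ∀ w : W, w + w = 0) (Q : V → W) (γ : V →+ V →+ W)
    (hQ : ∀ x y, Q (x + y) = Q x + Q y + γ x y) (hani : ∀ x, Q x = 0 → x = 0) :
    Nat.card V ≤ Nat.card W ^ 2 := by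
  classical
  haveI : Fact (Nat.Prime 2) := ⟨Nat.prime_two⟩
  letI : Module (ZMod 2) V := AddCommGroup.zmodModule (fun v => by rw [two_nsmul]; exact hV2 v)
  letI : Module (ZMod 2) W := AddCommGroup.zmodModule (fun v => by rw [two_nsmul]; exact hW2 v)
  haveI : Module.Finite (ZMod 2) V := Module.Finite.of_finite
  haveI : Module.Finite (ZMod 2) W := Module.Finite.of_finite
  have hQ0 : Q 0 = 0 := by
    have h1 := hQ 0 0
    rw [add_zero, map_zero, add_zero, hW2] at h1
    exact h1
  have htwo := zmod2
  let B : LinearMap.BilinMap (ZMod 2) V W :=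
    LinearMap.mk₂ (ZMod 2) (fun x y => γ x y) (fun x y z => by rw [map_add, AddMonoidHom.add_apply])
      (fun a x y => by
        rcases htwo a with rfl | rfl
        · rw [zero_smul, zero_smul, map_zero, AddMonoidHom.zero_apply]
        · rw [one_smul, one_smul])
      (fun x y z => by rw [map_add])
      (fun a x y => by
        rcases htwo a with rfl | rfl
        · rw [zero_smul, zero_smul, map_zero]
        · rw [one_smul, one_smul])
  let Q' : QuadraticMap (ZMod 2) V W :=
    { toFun := Q
      toFun_smul := by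
        intro a x
        rcases htwo a with rfl | rfl
        · rw [zero_smul, mul_zero, zero_smul, hQ0]
        · rw [one_smul, mul_one, one_smul]
      exists_companion' := ⟨B, fun x y => hQ x y⟩ }
  obtain ⟨C, hC⟩ := LinearMap.BilinMap.toQuadraticMap_surjective Q'
  have hC' : ∀ x, Q x = C x x := by
    intro x
    have := DFunLike.congr_fun hC x
    rw [LinearMap.BilinMap.toQuadraticMap_apply] at this
    exact this.symm
  let bV := Module.finBasis (ZMod 2) V
  let bW := Module.finBasis (ZMod 2) W
  by_contra hlt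
  rw [not_le] at hlt
  have hcV : Nat.card V = 2 ^ Module.finrank (ZMod 2) V := by
    have := Module.natCard_eq_pow_finrank (K := ZMod 2) (V := V)
    rwa [Nat.card_zmod] at this
  have hcW : Nat.card W = 2 ^ Module.finrank (ZMod 2) W := by
    have := Module.natCard_eq_pow_finrank (K := ZMod 2) (V := W)
    rwa [Nat.card_zmod] at this
  rw [hcV, hcW, ← pow_mul] at hlt
  have hlt' : Module.finrank (ZMod 2) W * 2 < Module.finrank (ZMod 2) V := (Nat.pow_lt_pow_iff_right (by norm_num)).1 hlt
  let f : Fin (Module.finrank (ZMod 2) W) → MvPolynomial (Fin (Module.finrank (ZMod 2) V)) (ZMod 2) := fun i =>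
    ∑ j, ∑ l, MvPolynomial.C (bW.repr (C (bV j) (bV l)) i) * (X j * X l)
  have hf : ∀ i x, eval x (f i) = bW.repr (Q (∑ j, x j • bV j)) i := by
    intro i x
    rw [hC']
    simp only [f, map_sum, map_mul, eval_C, eval_X, LinearMap.sum_apply, map_smul, LinearMap.smul_apply,
      Finsupp.coe_finset_sum, Finset.sum_apply, Finsupp.coe_smul, Pi.smul_apply, smul_eq_mul]
    rw [Finset.sum_comm]
    refine Finset.sum_congr rfl (fun l _ => ?_)
    rw [Finset.mul_sum]
    refine Finset.sum_congr rfl (fun j _ => ?_)
    ring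
  have hdeg : ∑ i, (f i).totalDegree < Fintype.card (Fin (Module.finrank (ZMod 2) V)) := by
    have h1 : ∀ i, (f i).totalDegree ≤ 2 := by
      intro i
      refine totalDegree_finsetSum_le (fun j _ => totalDegree_finsetSum_le (fun l _ => ?_))
      refine (totalDegree_mul _ _).trans ?_
      rw [totalDegree_C, zero_add]
      refine (totalDegree_mul _ _).trans ?_
      rw [totalDegree_X, totalDegree_X]
    calc ∑ i, (f i).totalDegree ≤ ∑ _i : Fin (Module.finrank (ZMod 2) W), 2 := Finset.sum_le_sum (fun i _ => h1 i)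
      _ = Module.finrank (ZMod 2) W * 2 := by simp
      _ < _ := by rw [Fintype.card_fin]; exact hlt'
  have hdvd := char_dvd_card_solutions_of_fintype_sum_lt 2 hdeg
  have hone : Fintype.card { x : Fin (Module.finrank (ZMod 2) V) → ZMod 2 // ∀ i, eval x (f i) = 0 } = 1 := by
    rw [Fintype.card_eq_one_iff]
    refine ⟨⟨0, fun i => ?_⟩, ?_⟩
    · rw [hf]
      simp [hQ0]
    · rintro ⟨x, hx⟩
      apply Subtype.ext
      have h1 : Q (∑ j, x j • bV j) = 0 := by
        apply bW.repr.injective
        ext i
        rw [← hf, hx i, map_zero, Finsupp.zero_apply]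
      have h2 := hani _ h1
      funext j
      exact Fintype.linearIndependent_iff.mp bV.linearIndependent x h2 j
  have h3 : 2 ∣ 1 := by
    rw [← hone]
    convert hdvd
  omega

end Cfsg.Agent.H9.SuzCW
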