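import Mathlib
import Cfsg.Agent.S1140

/-!
# Field lemmas for Suzuki 2-groups
-/

set_option autoImplicit false

namespace Cfsg.Agent.H9.SuzF

section gen
variable {F : Type*} [Field F]

/-- an additive group is not the union of two proper subgroups, for homs -/
theorem two_homs {A : Type*} [AddGroup A] (f g h : A →+ F) (hh : ∀ x, f x = g x ∨ f x = h x) : f = g ∨ f = h := by
  by_contra hc
  push Not at hc
  obtain ⟨h1, h2⟩ := hc
  obtain ⟨x, hx⟩ := DFunLike.ne_iff.mp h1
  obtain ⟨y, hy⟩ := DFunLike.ne_iff.mp h2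
  have hx' := (hh x).resolve_left hx
  have hy' := (hh y).resolve_right hy
  rcases hh (x + y) with h3 | h3
  · rw [map_add, map_add, hy'] at h3
    exact hx (add_right_cancel h3)
  · rw [map_add, map_add, hx'] at h3
    exact hy (add_left_cancel h3)

/-- multiplicity lemma -/
theorem ml (f₁ f₂ g₁ g₂ : F →+* F) (h : ∀ k, f₁ k * f₂ k = g₁ k * g₂ k) :
    (f₁ = g₁ ∧ f₂ = g₂) ∨ (f₁ = g₂ ∧ f₂ = g₁) := by
  have hsum : ∀ k, f₁ k + f₂ k = g₁ k + g₂ k := by
    intro k
    have h1 := h (k + 1)
    simp only [map_add, map_one] at h1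
    have h2 := h k
    linear_combination h1 - h2
  have hor : ∀ k, f₁ k = g₁ k ∨ f₁ k = g₂ k := by
    intro k
    have h1 : (f₁ k - g₁ k) * (f₁ k - g₂ k) = 0 := by
      have h2 := h k
      have h3 := hsum k
      linear_combination (f₁ k) * h3 - h2
    rcases mul_eq_zero.1 h1 with h2 | h2
    · exact Or.inl (sub_eq_zero.1 h2)
    · exact Or.inr (sub_eq_zero.1 h2)
  rcases two_homs (f₁ : F →+ F) (g₁ : F →+ F) (g₂ : F →+ F) hor with h1 | h1
  · left
    have h2 : f₁ = g₁ := RingHom.ext (fun x => DFunLike.congr_fun h1 x)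
    refine ⟨h2, RingHom.ext (fun x => ?_)⟩
    have h3 := hsum x
    rw [h2] at h3
    exact add_left_cancel h3
  · right
    have h2 : f₁ = g₂ := RingHom.ext (fun x => DFunLike.congr_fun h1 x)
    refine ⟨h2, RingHom.ext (fun x => ?_)⟩
    have h3 := hsum x
    rw [h2, add_comm] at h3
    exact add_right_cancel h3

variable [CharP F 2]

theorem add_self (x : F) : x + x = 0 := CharTwo.add_self_eq_zero x

/-- no equivariant alternating form -/
theorem t2 (B : F →+ F →+ F) (halt : ∀ x, B x x = 0)
    (hs : ∀ c x y : F, c ≠ 0 → B (c * x) (c * y) = c * B x y) (hperf : ∀ x : F, ∃ y, y * y = x) : B = 0 := by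
  have hsymm : ∀ x y, B x y = B y x := by
    intro x y
    have h1 := halt (x + y)
    simp only [map_add, AddMonoidHom.add_apply, halt, zero_add, add_zero] at h1
    exact (CharTwo.add_eq_zero.1 h1).symm
  have hinv : ∀ t : F, t ≠ 0 → B t 1 = t * B t⁻¹ 1 := by
    intro t ht
    have h1 := hs t 1 t⁻¹ ht
    rw [mul_one, mul_inv_cancel₀ ht] at h1
    rw [h1, hsymm 1]
  have h1 : ∀ t : F, B (t * t) 1 = 0 := by
    intro t
    by_cases h0 : t = 0
    · rw [h0, mul_zero, map_zero, AddMonoidHom.zero_apply]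
    by_cases h1' : t = 1
    · rw [h1', mul_one, halt]
    have ht1 : 1 + t ≠ 0 := by
      intro h
      exact h1' (CharTwo.add_eq_zero.1 h).symm
    have h2 : t + t * t ≠ 0 := by
      have : t + t * t = t * (1 + t) := by ring
      rw [this]
      exact mul_ne_zero h0 ht1
    have h3 : (t + t * t)⁻¹ = t⁻¹ + (1 + t)⁻¹ := by
      field_simp
      have : (1 : F) + t + t = 1 := by rw [add_assoc, add_self, add_zero]
      rw [this]
    have h4 := hinv _ h2
    have h5 := hinv _ h0
    have h6 := hinv _ ht1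
    have h7 : B (1 + t) 1 = B t 1 := by
      rw [map_add, AddMonoidHom.add_apply, halt, zero_add]
    rw [h3, map_add, AddMonoidHom.add_apply, map_add, AddMonoidHom.add_apply] at h4
    rw [h7] at h6
    have h8 : B t⁻¹ 1 = t⁻¹ * B t 1 := by rw [h5, ← mul_assoc, inv_mul_cancel₀ h0, one_mul]
    have h9 : B (1 + t)⁻¹ 1 = (1 + t)⁻¹ * B t 1 := by rw [h6, ← mul_assoc, inv_mul_cancel₀ ht1, one_mul]
    rw [h8, h9, ← add_mul, ← h3, ← mul_assoc, mul_inv_cancel₀ h2, one_mul] at h4
    have h10 : B t 1 + B (t * t) 1 = B t 1 + 0 := by rw [h4, add_zero]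
    exact add_left_cancel h10
  have h2 : ∀ t : F, B t 1 = 0 := by
    intro t
    obtain ⟨y, rfl⟩ := hperf t
    exact h1 y
  ext x y
  rw [AddMonoidHom.zero_apply, AddMonoidHom.zero_apply]
  by_cases hy : y = 0
  · rw [hy, map_zero]
  · have h3 := hs y (y⁻¹ * x) 1 hy
    rw [← mul_assoc, mul_inv_cancel₀ hy, one_mul, mul_one, h2, mul_zero] at h3
    exact h3

end gen

section fin
variable {F : Type*} [Field F] [Fintype F] [CharP F 2]

theorem perf (x : F) : ∃ y : F, y * y = x := by
  obtain ⟨y, hy⟩ := FiniteField.isSquare_of_char_two (F := F) (CharP.ringChar_of_prime_eq_zero Nat.prime_two (CharP.cast_eq_zero F 2)) x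
  exact ⟨y, hy.symm⟩

instance : Finite (F ≃+* F) := Finite.of_injective (fun σ : F ≃+* F => (σ : F → F)) DFunLike.coe_injective

noncomputable instance : Fintype (F ≃+* F) := Fintype.ofFinite _

/-- the combination map -/
noncomputable def comb : ((F ≃+* F) → F) →+ (F →+ F) where
  toFun c := ∑ σ : F ≃+* F, (AddMonoidHom.mulLeft (c σ)).comp (σ : F →+ F)
  map_zero' := by
    ext x
    simp
  map_add' c d := by
    ext x
    simp [add_mul, Finset.sum_add_distrib]

theorem comb_apply (c : (F ≃+* F) → F) (x : F) : comb c x = ∑ σ : F ≃+* F, c σ * σ x := by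
  simp [comb]

theorem comb_bij : Function.Bijective (comb (F := F)) := by
  classical
  obtain ⟨h1, h2, -⟩ := Cfsg.Agent.S1140.result (F := F)
  constructor
  · rw [injective_iff_map_eq_zero]
    intro c hc
    funext σ
    have h3 := Fintype.linearIndependent_iff.mp h1 c (by
      funext x
      have := DFunLike.congr_fun hc x
      rw [comb_apply] at this
      simpa [Finset.sum_apply] using this) σ
    exact h3
  · intro f
    obtain ⟨s, c, hc⟩ := h2 f
    refine ⟨fun σ => if σ ∈ s then c σ else 0, ?_⟩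
    ext x
    rw [comb_apply, hc x]
    simp [ite_mul, Finset.sum_ite_mem]

/-- coefficient extraction -/
noncomputable def coef : (F →+ F) ≃+ ((F ≃+* F) → F) := (AddEquiv.ofBijective comb comb_bij).symm

theorem coef_spec (f : F →+ F) (x : F) : f x = ∑ σ : F ≃+* F, coef f σ * σ x := by
  have h1 : comb (coef f) = f := (AddEquiv.ofBijective comb comb_bij).apply_symm_apply f
  conv_lhs => rw [← h1]
  rw [comb_apply]

theorem coef_unique (f : F →+ F) (c : (F ≃+* F) → F) (h : ∀ x, f x = ∑ σ : F ≃+* F, c σ * σ x) : coef f = c := by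
  have h1 : comb c = f := by
    ext x
    rw [comb_apply, h x]
  rw [← h1]
  exact (AddEquiv.ofBijective comb comb_bij).symm_apply_apply c

end fin

end Cfsg.Agent.H9.SuzF
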