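import Mathlib
import Cfsg.Agent.H9_SuzField

/-!
# Field lemmas for Suzuki 2-groups, II
-/

set_option autoImplicit false

namespace Cfsg.Agent.H9.SuzF

variable {F : Type*} [Field F] [Fintype F] [CharP F 2]

/-- coefficients of a biadditive map -/
noncomputable def cf (b : F →+ F →+ F) (σ : F ≃+* F) : F →+ F :=
  (Pi.evalAddMonoidHom _ σ).comp ((coef (F := F)).toAddMonoidHom.comp b.flip)

theorem cf_spec (b : F →+ F →+ F) (s t : F) : b s t = ∑ σ : F ≃+* F, cf b σ t * σ s := by
  have h1 := coef_spec (b.flip t) s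
  rw [AddMonoidHom.flip_apply] at h1
  exact h1

theorem cf_unique (b : F →+ F →+ F) (t : F) (c : (F ≃+* F) → F) (h : ∀ s, b s t = ∑ σ : F ≃+* F, c σ * σ s)
    (σ : F ≃+* F) : cf b σ t = c σ := by
  have h1 := coef_unique (b.flip t) c (fun x => by rw [AddMonoidHom.flip_apply]; exact h x)
  exact congrFun h1 σ

theorem cf_equiv (b : F →+ F →+ F) (χ : Fˣ →* Fˣ) 
    (hb : ∀ (k : Fˣ) (s t : F), b (k * s) (χ k * t) = k * b s t) (k : Fˣ) (σ : F ≃+* F) (t : F) :
    σ k * cf b σ (χ k * t) = k * cf b σ t := by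
  have h1 := cf_unique b (χ k * t) (fun σ => k * cf b σ t * (σ k)⁻¹) (fun s => by
    have h2 := hb k ((k : F)⁻¹ * s) t
    rw [← mul_assoc, mul_inv_cancel₀ k.ne_zero, one_mul] at h2
    rw [h2, cf_spec, Finset.mul_sum]
    refine Finset.sum_congr rfl (fun σ _ => ?_)
    rw [map_mul, map_inv₀]
    ring) σ
  rw [h1]
  have h3 : σ (k : F) ≠ 0 := by
    rw [Ne, map_eq_zero_iff _ σ.injective]
    exact k.ne_zero
  field_simp

section
variable (χ : Fˣ →* Fˣ) (hχ : Function.Injective χ)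
include hχ

theorem inj_of_ne {σ : F ≃+* F} {c : F →+ F} (hc : ∀ (k : Fˣ) (t : F), σ k * c (χ k * t) = k * c t)
    (hne : c ≠ 0) : Function.Injective c := by
  rw [injective_iff_map_eq_zero]
  intro t ht
  by_contra ht0
  apply hne
  ext t'
  rw [AddMonoidHom.zero_apply]
  by_cases ht' : t' = 0
  · rw [ht', map_zero]
  · obtain ⟨k, hk⟩ := (Finite.injective_iff_surjective.mp hχ) (Units.mk0 t' ht' * (Units.mk0 t ht0)⁻¹)
    have h1 := hc k t
    rw [ht, mul_zero, hk] at h1
    have h2 : ((Units.mk0 t' ht' * (Units.mk0 t ht0)⁻¹ : Fˣ) : F) * t = t' := by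
      simp [ht0]
    rw [h2] at h1
    rcases mul_eq_zero.1 h1 with h3 | h3
    · rw [map_eq_zero_iff _ σ.injective] at h3
      exact absurd h3 k.ne_zero
    · exact h3

/-- the normalised coefficient is a ring homomorphism -/
theorem exists_hom {σ : F ≃+* F} {c : F →+ F} (hc : ∀ (k : Fˣ) (t : F), σ k * c (χ k * t) = k * c t)
    (hne : c ≠ 0) : ∃ u : F →+* F, ∀ k : Fˣ, u (χ k) * σ k = k := by
  have hinj := inj_of_ne χ hχ hc hne
  have h1 : c 1 ≠ 0 := by
    intro h
    exact one_ne_zero ((injective_iff_map_eq_zero c).mp hinj 1 h)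
  have hsurj := Finite.injective_iff_surjective.mp hχ
  have hval : ∀ k : Fˣ, c (χ k) = k * c 1 * (σ k)⁻¹ := by
    intro k
    have h2 := hc k 1
    rw [mul_one] at h2
    have h3 : σ (k : F) ≠ 0 := by
      rw [Ne, map_eq_zero_iff _ σ.injective]
      exact k.ne_zero
    rw [← h2]
    field_simp
  refine ⟨{ toFun := fun t => c t * (c 1)⁻¹, map_one' := mul_inv_cancel₀ h1, map_zero' := by simp, map_add' := fun x y => by simp [add_mul], map_mul' := ?_ }, ?_⟩
  · intro x y
    by_cases hx : x = 0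
    · simp [hx]
    by_cases hy : y = 0
    · simp [hy]
    obtain ⟨k, hk⟩ := hsurj (Units.mk0 x hx)
    obtain ⟨l, hl⟩ := hsurj (Units.mk0 y hy)
    have e1 : x = χ k := by rw [hk]; rfl
    have e2 : y = χ l := by rw [hl]; rfl
    have e3 : x * y = χ (k * l) := by rw [e1, e2, map_mul]; rfl
    rw [e3, e1, e2, hval, hval, hval, Units.val_mul, map_mul, mul_inv]
    field_simp
  · intro k
    change c (χ k) * (c 1)⁻¹ * σ k = k
    have h3 : σ (k : F) ≠ 0 := by
      rw [Ne, map_eq_zero_iff _ σ.injective]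
      exact k.ne_zero
    rw [hval]
    field_simp

theorem t3 (b : F →+ F →+ F) 
    (hb : ∀ (k : Fˣ) (s t : F), b (k * s) (χ k * t) = k * b s t) (hne : b ≠ 0) :
    ∃ (σ : F ≃+* F) (c : F →+ F), Function.Injective c ∧ (∀ s t, b s t = c t * σ s) ∧
      (∀ (k : Fˣ) (t : F), σ k * c (χ k * t) = k * c t) ∧ c = cf b σ ∧ ∀ τ, τ ≠ σ → cf b τ = 0 := by
  classical
  have huniq : ∀ σ τ : F ≃+* F, cf b σ ≠ 0 → cf b τ ≠ 0 → σ = τ := by
    intro σ τ h1 h2
    obtain ⟨u, hu⟩ := exists_hom χ hχ (fun k t => cf_equiv b χ hb k σ t) h1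
    obtain ⟨w, hw⟩ := exists_hom χ hχ (fun k t => cf_equiv b χ hb k τ t) h2
    let u' : F ≃+* F := RingEquiv.ofBijective u (Finite.injective_iff_bijective.mp u.injective)
    let θ : F →+* F := w.comp (u'.symm : F →+* F)
    have hθ : ∀ k : F, θ k * τ k = RingHom.id F k * (θ.comp (σ : F →+* F)) k := by
      intro k
      by_cases hk : k = 0
      · simp [hk]
      · have h3 := hu (Units.mk0 k hk)
        have h4 := hw (Units.mk0 k hk)
        rw [Units.val_mk0] at h3 h4
        have h5 : u'.symm k = χ (Units.mk0 k hk) * u'.symm (σ k) := by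
          apply u'.injective
          rw [map_mul, RingEquiv.apply_symm_apply, RingEquiv.apply_symm_apply]
          exact h3.symm
        change w (u'.symm k) * τ k = k * w (u'.symm (σ k))
        rw [h5, map_mul]
        calc w (χ (Units.mk0 k hk)) * w (u'.symm (σ k)) * τ k
            = (w (χ (Units.mk0 k hk)) * τ k) * w (u'.symm (σ k)) := by ring
          _ = k * w (u'.symm (σ k)) := by rw [h4]
    rcases ml θ (τ : F →+* F) (RingHom.id F) (θ.comp (σ : F →+* F)) hθ with ⟨h3, h4⟩ | ⟨h3, h4⟩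
    · ext x
      have h5 := DFunLike.congr_fun h4 x
      rw [h3] at h5
      exact h5.symm
    · ext x
      have h5 := DFunLike.congr_fun h4 x
      have h6 := DFunLike.congr_fun h3 x
      have h7 : x = σ x := θ.injective h6
      change τ x = x at h5
      rw [h5, ← h7]
  obtain ⟨σ, hσ⟩ : ∃ σ, cf b σ ≠ 0 := by
    by_contra h
    push Not at h
    apply hne
    ext s t
    rw [cf_spec]
    simp [h]
  refine ⟨σ, cf b σ, inj_of_ne χ hχ (fun k t => cf_equiv b χ hb k σ t) hσ, ?_, fun k t => cf_equiv b χ hb k σ t, rfl, ?_⟩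
  · intro s t
    rw [cf_spec, Finset.sum_eq_single σ]
    · intro τ _ hτ
      have : cf b τ = 0 := by
        by_contra h
        exact hτ (huniq τ σ h hσ)
      rw [this, AddMonoidHom.zero_apply, zero_mul]
    · intro h
      exact absurd (Finset.mem_univ _) h
  · intro τ hτ
    by_contra h
    exact hτ (huniq τ σ h hσ)

end

theorem t4 (σ τ : F ≃+* F) (hσ : σ ≠ RingEquiv.refl F) (hτ : τ ≠ RingEquiv.refl F) (g : F →+ F →+ F)
    (hg : ∀ s t, s * σ (g s t) = t * τ (g s t)) : g = 0 := by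
  by_contra hne
  obtain ⟨s₀, hs₀⟩ := DFunLike.ne_iff.mp hne
  obtain ⟨t₀, ht₀⟩ := DFunLike.ne_iff.mp hs₀
  rw [AddMonoidHom.zero_apply, AddMonoidHom.zero_apply] at ht₀
  have hσ0 : ∀ x : F, x ≠ 0 → σ x ≠ 0 := fun x hx => by rwa [Ne, map_eq_zero_iff _ σ.injective]
  have hτ0 : ∀ x : F, x ≠ 0 → τ x ≠ 0 := fun x hx => by rwa [Ne, map_eq_zero_iff _ τ.injective]
  -- first variable
  have hL : Function.Bijective (g.flip t₀) := by
    rw [← Finite.injective_iff_bijective, injective_iff_map_eq_zero]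
    intro s hs
    rw [AddMonoidHom.flip_apply] at hs
    have h1 := hg (s₀ + s) t₀
    have h2 := hg s₀ t₀
    rw [map_add, AddMonoidHom.add_apply, hs, add_zero, ← h2, add_mul] at h1
    have h3 : s * σ (g s₀ t₀) = 0 := by
      have h4 : s₀ * σ (g s₀ t₀) + s * σ (g s₀ t₀) = s₀ * σ (g s₀ t₀) + 0 := by rw [h1, add_zero]
      exact add_left_cancel h4
    exact (mul_eq_zero.1 h3).resolve_right (hσ0 _ ht₀)
  have hL' : Function.Bijective (g s₀) := by
    rw [← Finite.injective_iff_bijective, injective_iff_map_eq_zero]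
    intro t ht
    have h1 := hg s₀ (t₀ + t)
    have h2 := hg s₀ t₀
    rw [map_add, ht, add_zero, h2, add_mul] at h1
    have h3 : t * τ (g s₀ t₀) = 0 := by
      have h4 : t₀ * τ (g s₀ t₀) + t * τ (g s₀ t₀) = t₀ * τ (g s₀ t₀) + 0 := by rw [← h1, add_zero]
      exact add_left_cancel h4
    exact (mul_eq_zero.1 h3).resolve_right (hτ0 _ ht₀)
  have ht₀0 : t₀ ≠ 0 := by
    rintro rfl
    exact ht₀ (map_zero _)
  have hs₀0 : s₀ ≠ 0 := by
    rintro rfl
    apply ht₀
    rw [map_zero, AddMonoidHom.zero_apply]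
  -- additivity of τ/σ
  have hρ : ∀ x y : F, x ≠ 0 → y ≠ 0 → x + y ≠ 0 → τ (x + y) * (σ (x + y))⁻¹ = τ x * (σ x)⁻¹ + τ y * (σ y)⁻¹ := by
    intro x y hx hy hxy
    obtain ⟨a, ha⟩ := hL.2 x
    obtain ⟨b, hb⟩ := hL.2 y
    rw [AddMonoidHom.flip_apply] at ha hb
    have h1 := hg a t₀
    have h2 := hg b t₀
    have h3 := hg (a + b) t₀
    rw [map_add, AddMonoidHom.add_apply, ha, hb] at h3
    rw [ha] at h1
    rw [hb] at h2
    have e1 : a = t₀ * (τ x * (σ x)⁻¹) := by
      have := hσ0 x hx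
      field_simp
      linear_combination h1
    have e2 : b = t₀ * (τ y * (σ y)⁻¹) := by
      have := hσ0 y hy
      field_simp
      linear_combination h2
    have e3 : a + b = t₀ * (τ (x + y) * (σ (x + y))⁻¹) := by
      have := hσ0 _ hxy
      field_simp
      linear_combination h3
    apply mul_left_cancel₀ ht₀0
    rw [← e3, mul_add, ← e1, ← e2]
  have hρ' : ∀ x y : F, x ≠ 0 → y ≠ 0 → x + y ≠ 0 → σ (x + y) * (τ (x + y))⁻¹ = σ x * (τ x)⁻¹ + σ y * (τ y)⁻¹ := by
    intro x y hx hy hxy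
    obtain ⟨a, ha⟩ := hL'.2 x
    obtain ⟨b, hb⟩ := hL'.2 y
    have h1 := hg s₀ a
    have h2 := hg s₀ b
    have h3 := hg s₀ (a + b)
    rw [map_add, ha, hb] at h3
    rw [ha] at h1
    rw [hb] at h2
    have e1 : a = s₀ * (σ x * (τ x)⁻¹) := by
      have := hτ0 x hx
      field_simp
      linear_combination -h1
    have e2 : b = s₀ * (σ y * (τ y)⁻¹) := by
      have := hτ0 y hy
      field_simp
      linear_combination -h2
    have e3 : a + b = s₀ * (σ (x + y) * (τ (x + y))⁻¹) := by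
      have := hτ0 _ hxy
      field_simp
      linear_combination -h3
    apply mul_left_cancel₀ hs₀0
    rw [← e3, mul_add, ← e1, ← e2]
  -- all elements outside `{0, 1}` are primitive cube roots
  have hroot : ∀ x : F, x ≠ 0 → x ≠ 1 → (τ x * (σ x)⁻¹) * (τ x * (σ x)⁻¹) + τ x * (σ x)⁻¹ + 1 = 0 := by
    intro x hx hx1
    have hx1' : x + 1 ≠ 0 := by
      intro h
      exact hx1 (CharTwo.add_eq_zero.1 h)
    have h1 := hρ x 1 hx one_ne_zero hx1'
    have h2 := hρ' x 1 hx one_ne_zero hx1'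
    rw [map_one, map_one, inv_one, mul_one] at h1 h2
    have a1 := hσ0 x hx
    have a2 := hτ0 x hx
    have a3 := hσ0 _ hx1'
    have a4 := hτ0 _ hx1'
    have h3 : (τ x * (σ x)⁻¹ + 1) * (σ x * (τ x)⁻¹ + 1) = 1 := by
      rw [← h1, ← h2]
      field_simp
    have h4 : σ x * (τ x)⁻¹ = (τ x * (σ x)⁻¹)⁻¹ := by
      rw [mul_inv, inv_inv, mul_comm]
    have hr0 : τ x * (σ x)⁻¹ ≠ 0 := mul_ne_zero a2 (inv_ne_zero a1)
    rw [h4] at h3
    generalize τ x * (σ x)⁻¹ = r at h3 hr0 ⊢
    have h6 : (r + 1) * (r⁻¹ + 1) * r = r := by rw [h3, one_mul]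
    have h7 : (r + 1) * (r⁻¹ + 1) * r = (r + 1) * (1 + r) := by
      field_simp
    rw [h7] at h6
    have h8 : r * r + r + 1 = (r + 1) * (1 + r) - r := by ring
    rw [h8, h6, sub_self]
  obtain ⟨x, hx⟩ : ∃ x, σ x ≠ x := by
    by_contra h
    push Not at h
    exact hσ (RingEquiv.ext h)
  have hx0 : x ≠ 0 := by
    rintro rfl
    exact hx (map_zero _)
  have hx1 : x ≠ 1 := by
    rintro rfl
    exact hx (map_one _)
  have hall : ∀ y : F, y = 0 ∨ y = 1 ∨ y = x ∨ y = x + 1 := by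
    intro y
    by_contra h
    push Not at h
    obtain ⟨hy0, hy1, hy2, hy3⟩ := h
    have h1 : x + y ≠ 0 := fun e => hy2 (CharTwo.add_eq_zero.1 e).symm
    have h2 : x + y ≠ 1 := by
      intro e
      apply hy3
      have : y = x + (x + y) := by rw [← add_assoc, add_self, zero_add]
      rw [this, e]
    have r1 := hroot x hx0 hx1
    have r2 := hroot y hy0 hy1
    have r3 := hroot _ h1 h2
    rw [hρ x y hx0 hy0 h1] at r3
    generalize τ x * (σ x)⁻¹ = r at r1 r3
    generalize τ y * (σ y)⁻¹ = s at r2 r3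
    have h5 : (r + s) * (r + s) + (r + s) + 1 = (r * r + r + 1) + (s * s + s + 1) + (r * s + r * s) - 1 := by ring
    rw [h5, r1, r2, add_self (r * s)] at r3
    simp at r3
  have h1 : σ x = x + 1 := by
    rcases hall (σ x) with h | h | h | h
    · exact absurd h (hσ0 x hx0)
    · rw [← map_one σ] at h
      exact absurd (σ.injective h) hx1
    · exact absurd h hx
    · exact h
  have h2 : τ x = x + 1 := by
    rcases hall (τ x) with h | h | h | h
    · exact absurd h (hτ0 x hx0)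
    · rw [← map_one τ] at h
      exact absurd (τ.injective h) hx1
    · exfalso
      apply hτ
      ext y
      rw [RingEquiv.refl_apply]
      rcases hall y with h' | h' | h' | h'
      · rw [h', map_zero]
      · rw [h', map_one]
      · rw [h', h]
      · rw [h', map_add, h, map_one]
    · exact h
  have h3 := hroot x hx0 hx1
  rw [h1, h2, mul_inv_cancel₀ (by rw [← h1]; exact hσ0 x hx0), mul_one, add_self, zero_add] at h3
  exact one_ne_zero h3

end Cfsg.Agent.H9.SuzF
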