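import Mathlib
import Cfsg.Agent.H9_Suz3
import Cfsg.Agent.H9_SuzCW
import Cfsg.Agent.H9_SuzField2

/-!
# Coordinates on sections
-/

set_option autoImplicit false

universe u w

namespace Cfsg.Agent.H9.Suz

open Subgroup

/-- descent of a biadditive function -/
theorem descend2 {P V V' W : Type*} [Group P] [AddCommGroup V] [AddCommGroup V'] [AddCommGroup W] {H H' : Subgroup P}
    {π : P → V} {π' : P → V'} {β : P → P → W}
    (hs : ∀ v, ∃ x ∈ H, π x = v) (hs' : ∀ v, ∃ x ∈ H', π' x = v)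
    (ha : ∀ x ∈ H, ∀ y ∈ H, π (x * y) = π x + π y) (ha' : ∀ x ∈ H', ∀ y ∈ H', π' (x * y) = π' x + π' y)
    (h1 : ∀ x ∈ H, ∀ y ∈ H, ∀ z ∈ H', β (x * y) z = β x z + β y z)
    (h2 : ∀ x ∈ H, ∀ y ∈ H', ∀ z ∈ H', β x (y * z) = β x y + β x z)
    (hk : ∀ x ∈ H, π x = 0 → ∀ z ∈ H', β x z = 0) (hk' : ∀ y ∈ H', π' y = 0 → ∀ x ∈ H, β x y = 0) :
    ∃ B : V →+ V' →+ W, ∀ x ∈ H, ∀ y ∈ H', B (π x) (π' y) = β x y := by
  classical
  have e0 : ∀ (x : P), x ∈ H → ∀ x' ∈ H, π x = π x' → ∀ z ∈ H', β x z = β x' z := by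
    intro x hx x' hx' he z hz
    have h3 : π (x'⁻¹ * x) = 0 := by
      have h4 := ha x' hx' (x'⁻¹ * x) (mul_mem (inv_mem hx') hx)
      rw [mul_inv_cancel_left, he] at h4
      exact left_eq_add.mp h4
    have h5 := h1 x' hx' (x'⁻¹ * x) (mul_mem (inv_mem hx') hx) z hz
    rw [mul_inv_cancel_left, hk _ (mul_mem (inv_mem hx') hx) h3 z hz, add_zero] at h5
    exact h5
  have e0' : ∀ (y : P), y ∈ H' → ∀ y' ∈ H', π' y = π' y' → ∀ x ∈ H, β x y = β x y' := by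
    intro y hy y' hy' he x hx
    have h3 : π' (y'⁻¹ * y) = 0 := by
      have h4 := ha' y' hy' (y'⁻¹ * y) (mul_mem (inv_mem hy') hy)
      rw [mul_inv_cancel_left, he] at h4
      exact left_eq_add.mp h4
    have h5 := h2 x hx y' hy' (y'⁻¹ * y) (mul_mem (inv_mem hy') hy)
    rw [mul_inv_cancel_left, hk' _ (mul_mem (inv_mem hy') hy) h3 x hx, add_zero] at h5
    exact h5
  choose r hrH hr using hs
  choose r' hrH' hr' using hs'
  let B : V →+ V' →+ W := AddMonoidHom.mk' (fun v => AddMonoidHom.mk' (fun v' => β (r v) (r' v')) (by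
      intro a b
      rw [← h2 _ (hrH v) _ (hrH' a) _ (hrH' b)]
      apply e0' _ (hrH' _) _ (mul_mem (hrH' a) (hrH' b)) _ _ (hrH v)
      rw [hr', ha' _ (hrH' a) _ (hrH' b), hr', hr'])) (by
    intro a b
    ext v'
    change β (r (a + b)) (r' v') = β (r a) (r' v') + β (r b) (r' v')
    rw [← h1 _ (hrH a) _ (hrH b) _ (hrH' v')]
    apply e0 _ (hrH _) _ (mul_mem (hrH a) (hrH b)) _ _ (hrH' v')
    rw [hr, ha _ (hrH a) _ (hrH b), hr, hr])
  refine ⟨B, fun x hx y hy => ?_⟩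
  change β (r (π x)) (r' (π' y)) = β x y
  rw [e0 _ (hrH _) x hx (hr _) _ (hrH' _), e0' _ (hrH' _) y hy (hr' _) _ hx]

section
variable {K : Type w} {P : Type u} [Group K] [Group P] [MulDistribMulAction K P]

/-- a coordinate on a section of order `q` -/
structure Coord (A H : Subgroup P) {F : Type} [Field F] (χ : K →* Fˣ) (v : P → F) : Prop where
  add : ∀ x ∈ H, ∀ y ∈ H, v (x * y) = v x + v y
  ker : ∀ x ∈ H, v x = 0 ↔ x ∈ A
  surj : ∀ c, ∃ x ∈ H, v x = c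
  eqv : ∀ k : K, ∀ x ∈ H, v (k • x) = χ k * v x

theorem Coord.inv {A H : Subgroup P} {F : Type} [Field F] {χ : K →* Fˣ} {v : P → F} (hv : Coord A H χ v) {x : P}
    (hx : x ∈ H) : v x⁻¹ = - v x := by
  have h1 := hv.add _ (inv_mem hx) _ hx
  rw [inv_mul_cancel] at h1
  have h2 := hv.add 1 (one_mem H) 1 (one_mem H)
  rw [one_mul] at h2
  have h3 : v 1 = 0 := left_eq_add.mp h2
  rw [h3] at h1
  exact eq_neg_of_add_eq_zero_left h1.symm

theorem line_aux (h : SZ K P) {A H : Subgroup P} (hA : Inv K A) (hH : Inv K H)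
    (hAH : A ≤ H) (hc : ∀ x ∈ H, ∀ y ∈ H, x⁻¹ * y⁻¹ * x * y ∈ A) (hcard : Nat.card H = (Nat.card K + 1) * Nat.card A) :
    ∃ (F : Type) (_ : Field F) (_ : Fintype F) (χ : K →* Fˣ) (v : P → F), Nat.card F = Nat.card K + 1 ∧
      Function.Bijective χ ∧ Coord A H χ v := by
  classical
  haveI := h.fin
  haveI := h.finK
  obtain ⟨V, i1, i2, π, f, hadd, hker, hsurj, heq, hc2, hfree⟩ := exists_quot h hA hH hAH hc
  have hcV : Nat.card V = Nat.card K + 1 := by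
    have h1 : 0 < Nat.card A := Nat.card_pos
    rw [hc2] at hcard
    exact Nat.eq_of_mul_eq_mul_right h1 hcard
  haveI : Nontrivial V := by
    rw [← Finite.one_lt_card_iff_nontrivial, hcV]
    have := h.three_le
    omega
  obtain ⟨v₀, hv₀⟩ := exists_ne (0 : V)
  obtain ⟨F, hF1, hF2, φ, χ, hχ, -, hφ⟩ := ZassF.exists_field h.comm f hfree (by omega) hv₀
  have hcF : Nat.card F = Nat.card K + 1 := by rw [← hcV]; exact Nat.card_congr φ.toEquiv
  refine ⟨F, hF1, hF2, χ, fun x => φ.symm (π x), hcF, ?_, ?_, ?_, ?_, ?_⟩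
  · rw [Nat.bijective_iff_injective_and_card]
    refine ⟨hχ, ?_⟩
    have := Nat.card_eq_card_units_add_one (α := F)
    omega
  · intro x hx y hy
    rw [hadd x hx y hy, map_add]
  · intro x hx
    rw [map_eq_zero_iff _ φ.symm.injective]
    exact hker x hx
  · intro c
    obtain ⟨x, hx, hxc⟩ := hsurj (φ c)
    exact ⟨x, hx, by rw [hxc, AddEquiv.symm_apply_apply]⟩
  · intro k x hx
    rw [← heq k x hx]
    apply φ.injective
    rw [AddEquiv.apply_symm_apply, ← hφ, AddEquiv.apply_symm_apply]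

theorem exists_coord (h : SZ K P) {A H : Subgroup P} (hA : Inv K A) (hH : Inv K H)
    (hAH : A ≤ H) (hc : ∀ x ∈ H, ∀ y ∈ H, x⁻¹ * y⁻¹ * x * y ∈ A) (hcard : Nat.card H = (Nat.card K + 1) * Nat.card A)
    {F : Type} [Field F] [Fintype F] (hF : Nat.card F = Nat.card K + 1) :
    ∃ (χ : K →* Fˣ) (v : P → F), Function.Bijective χ ∧ Coord A H χ v := by
  obtain ⟨F', i1, i2, χ, v, hcF, hχ, hv⟩ := line_aux h hA hH hAH hc hcard
  have r : F' ≃+* F := FiniteField.ringEquivOfCardEq (by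
    rw [← Nat.card_eq_fintype_card, ← Nat.card_eq_fintype_card, hcF, hF])
  refine ⟨(Units.mapEquiv (r : F' ≃* F)).toMonoidHom.comp χ, fun x => r (v x), ?_, ?_, ?_, ?_, ?_⟩
  · exact (Units.mapEquiv (r : F' ≃* F)).bijective.comp hχ
  · intro x hx y hy
    rw [hv.add x hx y hy, map_add]
  · intro x hx
    rw [map_eq_zero_iff _ r.injective]
    exact hv.ker x hx
  · intro c
    obtain ⟨x, hx, hxc⟩ := hv.surj (r.symm c)
    exact ⟨x, hx, by rw [hxc, RingEquiv.apply_symm_apply]⟩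
  · intro k x hx
    rw [hv.eqv k x hx, map_mul]
    rfl

theorem exists_base (h : SZ K P) : ∃ (F : Type) (_ : Field F) (_ : Fintype F) (_ : CharP F 2) (χ : K →* Fˣ) (ζ : P → F),
    Nat.card F = Nat.card K + 1 ∧ Function.Bijective χ ∧ Coord (⊥ : Subgroup P) (Z1 P) χ ζ := by
  obtain ⟨F, i1, i2, χ, v, hcF, hχ, hv⟩ := line_aux h (A := ⊥) (H := Z1 P) (fun k x hx => by
      rw [Subgroup.mem_bot] at hx ⊢
      rw [hx, smul_one]) h.inv_Z1 bot_le (fun x hx y hy => by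
      rw [Subgroup.mem_bot, mul_assoc]
      have := Z1_center hx y
      have h2 : x⁻¹ * y⁻¹ * (x * y) = (y * x)⁻¹ * (x * y) := by group
      rw [h2, this, inv_mul_cancel]) (by rw [h.card_Z1, Subgroup.card_bot, mul_one])
  have h2 : (1 : F) + 1 = 0 := by
    obtain ⟨x, hx, hx1⟩ := hv.surj 1
    have h3 := hv.add x hx x hx
    rw [Z1_sq hx, hx1] at h3
    rw [← h3]
    exact (hv.ker 1 (one_mem _)).2 (one_mem _)
  haveI : CharP F 2 := CharTwo.of_one_ne_zero_of_two_eq_zero one_ne_zero (by rw [← one_add_one_eq_two]; exact h2)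
  exact ⟨F, i1, i2, inferInstance, χ, v, hcF, hχ, hv⟩

/-- a maximal invariant subgroup -/
theorem exists_max (h : SZ K P) {H : Subgroup P} (hH : Inv K H) (hne : H ≠ ⊥) :
    ∃ M : Subgroup P, Inv K M ∧ M ≤ H ∧ Nat.card H = (Nat.card K + 1) * Nat.card M ∧ (∀ x ∈ H, x * x ∈ M) ∧
      (∀ x ∈ H, ∀ y ∈ H, x⁻¹ * y⁻¹ * x * y ∈ M) := by
  classical
  haveI := h.fin
  haveI : Fact (Nat.Prime 2) := ⟨Nat.prime_two⟩
  let Φ : Subgroup P := Subgroup.closure {y | ∃ x ∈ H, y = x * x}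
  have hΦinv : Inv K Φ := by
    intro k x hx
    refine Subgroup.closure_induction (p := fun y _ => k • y ∈ Φ) ?_ ?_ ?_ ?_ hx
    · rintro _ ⟨y, hy, rfl⟩
      rw [smul_mul']
      exact Subgroup.subset_closure ⟨k • y, hH k y hy, rfl⟩
    · rw [smul_one]; exact one_mem _
    · intro a b _ _ ha hb
      rw [smul_mul']; exact mul_mem ha hb
    · intro a _ ha
      rw [smul_inv']; exact inv_mem ha
  have hΦH : Φ ≤ H := by
    rw [Subgroup.closure_le]
    rintro _ ⟨y, hy, rfl⟩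
    exact mul_mem hy hy
  have hΦne : ¬ H ≤ Φ := by
    intro hle
    obtain ⟨m, hm⟩ := (IsPGroup.iff_card.mp (h.pg.to_subgroup H))
    have hm0 : m ≠ 0 := by
      rintro rfl
      rw [pow_zero] at hm
      exact hne (Subgroup.card_eq_one.mp hm)
    obtain ⟨L, hL⟩ := Sylow.exists_subgroup_card_pow_prime (G := H) 2 (n := m - 1) (by rw [hm]; exact pow_dvd_pow 2 (Nat.sub_le m 1))
    have hidx : L.index = 2 := by
      have h1 := L.card_mul_index
      rw [hL, hm] at h1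
      have h2 : 2 ^ m = 2 ^ (m - 1) * 2 := by rw [← pow_succ]; congr 1; omega
      rw [h2] at h1
      exact Nat.eq_of_mul_eq_mul_left (by positivity) h1
    have hsqL : ∀ x : H, x * x ∈ L := fun x => by
      have := Subgroup.sq_mem_of_index_two hidx x
      rwa [pow_two] at this
    have hle2 : Φ ≤ L.map H.subtype := by
      rw [Subgroup.closure_le]
      rintro _ ⟨y, hy, rfl⟩
      exact ⟨⟨y, hy⟩ * ⟨y, hy⟩, hsqL _, rfl⟩
    have h3 := Subgroup.card_le_of_le (hle.trans hle2)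
    rw [Subgroup.card_map_of_injective H.subtype_injective, hL, hm] at h3
    have h4 : 2 ^ (m - 1) < 2 ^ m := Nat.pow_lt_pow_right (by norm_num) (by omega)
    omega
  -- maximal proper invariant subgroup above
  have hex : ∃ M : Subgroup P, (Inv K M ∧ Φ ≤ M ∧ M ≤ H ∧ ¬ H ≤ M) ∧ ∀ M' : Subgroup P, (Inv K M' ∧ Φ ≤ M' ∧ M' ≤ H ∧ ¬ H ≤ M') → Nat.card M' ≤ Nat.card M := by
    have hfin : (Set.univ : Set (Subgroup P)).Finite := Set.toFinite _
    obtain ⟨M, hM, hmax⟩ := Set.Finite.exists_maximalFor (fun M : Subgroup P => Nat.card M)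
      {M | Inv K M ∧ Φ ≤ M ∧ M ≤ H ∧ ¬ H ≤ M} (hfin.subset (Set.subset_univ _)) ⟨Φ, hΦinv, le_rfl, hΦH, hΦne⟩
    refine ⟨M, hM, fun M' hM' => ?_⟩
    by_contra hlt
    rw [not_le] at hlt
    exact absurd (hmax hM' hlt.le) (not_le.2 hlt)
  obtain ⟨M, ⟨hM1, hM2, hM3, hM4⟩, hmax⟩ := hex
  have hsq : ∀ x ∈ H, x * x ∈ M := fun x hx => hM2 (Subgroup.subset_closure ⟨x, hx, rfl⟩)
  have hcm : ∀ x ∈ H, ∀ y ∈ H, x⁻¹ * y⁻¹ * x * y ∈ M := by
    intro x hx y hy
    have h1 : x⁻¹ * y⁻¹ * x * y = (x⁻¹ * x⁻¹) * ((x * y⁻¹) * (x * y⁻¹)) * (y * y) := by group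
    rw [h1]
    exact mul_mem (mul_mem (hsq _ (inv_mem hx)) (hsq _ (mul_mem hx (inv_mem hy)))) (hsq _ hy)
  refine ⟨M, hM1, hM3, ?_, hsq, hcm⟩
  refine card_of_minimal h hM1 hH hM3 hM4 hcm hsq ?_
  intro L hL1 hL2 hL3
  by_cases hL4 : H ≤ L
  · exact Or.inr (le_antisymm hL3 hL4)
  · left
    have h1 := hmax L ⟨hL1, hM2.trans hL2, hL3, hL4⟩
    exact (Subgroup.eq_of_le_of_card_ge hL2 h1).symm

end

end Cfsg.Agent.H9.Suz
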