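import Mathlib
import Cfsg.Agent.H9_Suz4

/-!
# Suzuki 2-groups: a large commutative invariant subgroup
-/

set_option autoImplicit false

universe u w

namespace Cfsg.Agent.H9.Suz

open Subgroup

/-- descent of an additive function -/
theorem descend1 {P V W : Type*} [Group P] [AddCommGroup V] [AddCommGroup W] {H : Subgroup P}
    {π : P → V} {β : P → W} (hs : ∀ v, ∃ x ∈ H, π x = v)
    (ha : ∀ x ∈ H, ∀ y ∈ H, π (x * y) = π x + π y) 
    (h1 : ∀ x ∈ H, ∀ y ∈ H, β (x * y) = β x + β y) 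
    (hk : ∀ x ∈ H, π x = 0 → β x = 0) :
    ∃ B : V →+ W, ∀ x ∈ H, B (π x) = β x := by
  classical
  have e0 : ∀ (x : P), x ∈ H → ∀ x' ∈ H, π x = π x' → β x = β x' := by
    intro x hx x' hx' he
    have h3 : π (x'⁻¹ * x) = 0 := by
      have h4 := ha x' hx' (x'⁻¹ * x) (mul_mem (inv_mem hx') hx)
      rw [mul_inv_cancel_left, he] at h4
      exact left_eq_add.mp h4
    have h5 := h1 x' hx' (x'⁻¹ * x) (mul_mem (inv_mem hx') hx)
    rw [mul_inv_cancel_left, hk _ (mul_mem (inv_mem hx') hx) h3, add_zero] at h5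
    exact h5
  choose r hrH hr using hs
  refine ⟨AddMonoidHom.mk' (fun v => β (r v)) (fun a b => ?_), fun x hx => e0 _ (hrH _) x hx (hr _)⟩
  rw [← h1 _ (hrH a) _ (hrH b)]
  apply e0 _ (hrH _) _ (mul_mem (hrH a) (hrH b))
  rw [hr, ha _ (hrH a) _ (hrH b), hr, hr]

section field
variable {F : Type*} [Field F] [Fintype F] [CharP F 2] {K : Type*} [Group K]

/-- no equivariant additive family of idempotents -/
theorem t5 (hF : 4 ≤ Nat.card F) (B : F →+ F →+ F) (hid : ∀ s c, B s (B s c) = B s c) (χ χ₀ : K →* Fˣ)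
    (hχ : Function.Bijective χ) (hχ₀ : Function.Bijective χ₀)
    (heq : ∀ (k : K) (s c : F), B (χ k * s) (χ₀ k * c) = χ₀ k * B s c) : B = 0 := by
  classical
  have hcomm : ∀ s t c, B s (B t c) = B t (B s c) := by
    intro s t c
    have h1 := hid (s + t) c
    simp only [map_add, AddMonoidHom.add_apply, hid] at h1
    have h2 : B s (B t c) + B t (B s c) = 0 := by
      have h3 : B s c + B t (B s c) + (B s (B t c) + B t c) = (B s c + B t c) + (B s (B t c) + B t (B s c)) := by abel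
      rw [h3] at h1
      exact left_eq_add.mp h1.symm
    exact CharTwo.add_eq_zero.1 h2
  have hev : ∀ S : Finset F, ∃ c : F, c ≠ 0 ∧ ∀ s ∈ S, B s c = 0 ∨ B s c = c := by
    intro S
    induction S using Finset.induction_on with
    | empty => exact ⟨1, one_ne_zero, fun s hs => absurd hs (Finset.notMem_empty s)⟩
    | insert t S ht ih =>
      obtain ⟨c, hc, hS⟩ := ih
      by_cases h1 : B t c = 0
      · refine ⟨c, hc, fun s hs => ?_⟩
        rcases Finset.mem_insert.1 hs with rfl | hs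
        · exact Or.inl h1
        · exact hS s hs
      · refine ⟨B t c, h1, fun s hs => ?_⟩
        rcases Finset.mem_insert.1 hs with rfl | hs
        · exact Or.inr (hid _ _)
        · rw [hcomm]
          rcases hS s hs with h2 | h2
          · left; rw [h2, map_zero]
          · right; rw [h2]
  obtain ⟨c₀, hc₀, hall⟩ := hev Finset.univ
  have hall' : ∀ s c, B s c = 0 ∨ B s c = c := by
    intro s c
    by_cases hc : c = 0
    · left; rw [hc, map_zero]
    obtain ⟨k, hk⟩ := hχ₀.2 (Units.mk0 c hc * (Units.mk0 c₀ hc₀)⁻¹)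
    have h1 : (χ₀ k : F) * c₀ = c := by
      rw [hk]
      simp [hc₀]
    have h2 := heq k (((χ k)⁻¹ : Fˣ) * s) c₀
    rw [← mul_assoc, Units.mul_inv, one_mul, h1] at h2
    rcases hall (((χ k)⁻¹ : Fˣ) * s) (Finset.mem_univ _) with h3 | h3
    · left; rw [h2, h3, mul_zero]
    · right; rw [h2, h3, h1]
  by_contra hne
  obtain ⟨s₀, hs₀⟩ := DFunLike.ne_iff.mp hne
  obtain ⟨c₁, hc₁⟩ := DFunLike.ne_iff.mp hs₀
  rw [AddMonoidHom.zero_apply, AddMonoidHom.zero_apply] at hc₁
  have hs₀0 : s₀ ≠ 0 := by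
    rintro rfl
    apply hc₁
    rw [map_zero, AddMonoidHom.zero_apply]
  have hc₁0 : c₁ ≠ 0 := by
    rintro rfl
    exact hc₁ (map_zero _)
  have h1 : B s₀ c₁ = c₁ := (hall' s₀ c₁).resolve_left hc₁
  -- identity at every nonzero `s`
  have h2 : ∀ s, s ≠ 0 → ∃ c, c ≠ 0 ∧ B s c = c := by
    intro s hs
    obtain ⟨k, hk⟩ := hχ.2 (Units.mk0 s hs * (Units.mk0 s₀ hs₀0)⁻¹)
    have h3 : (χ k : F) * s₀ = s := by
      rw [hk]
      simp [hs₀0]
    refine ⟨χ₀ k * c₁, mul_ne_zero (Units.ne_zero _) hc₁0, ?_⟩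
    rw [← h3, heq, h1]
  have h3 : ∀ s, s ≠ 0 → ∀ c, B s c = c := by
    intro s hs c
    obtain ⟨d, hd, hd2⟩ := h2 s hs
    by_cases hcd : c = d
    · rw [hcd, hd2]
    by_cases hc : c = 0
    · rw [hc, map_zero]
    rcases hall' s c with h4 | h4
    · exfalso
      rcases hall' s (d + c) with h5 | h5
      · rw [map_add, hd2, h4, add_zero] at h5
        exact hd h5
      · rw [map_add, hd2, h4, add_zero] at h5
        exact hc (left_eq_add.mp h5)
    · exact h4
  obtain ⟨t, ht⟩ : ∃ t : F, t ∉ ({0, 1} : Finset F) := by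
    by_contra hcon
    push Not at hcon
    have h4 : (Finset.univ : Finset F) ⊆ {0, 1} := fun x _ => hcon x
    have h5 := Finset.card_le_card h4
    rw [Finset.card_univ, ← Nat.card_eq_fintype_card] at h5
    have h6 := Finset.card_le_two (a := (0 : F)) (b := 1)
    omega
  simp only [Finset.mem_insert, Finset.mem_singleton, not_or] at ht
  have h4 := h3 (1 + t) (by
    intro e
    exact ht.2 (CharTwo.add_eq_zero.1 e).symm) 1
  rw [map_add, AddMonoidHom.add_apply, h3 1 one_ne_zero, h3 t ht.1] at h4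
  exact one_ne_zero (left_eq_add.mp h4.symm)

end field

section
variable {K : Type w} {P : Type u} [Group K] [Group P] [MulDistribMulAction K P]
variable {F : Type} [Field F] [Fintype F] [CharP F 2] {χ₀ : K →* Fˣ} {ζ : P → F}

theorem Coord.one {A H : Subgroup P} {χ : K →* Fˣ} {v : P → F} (hv : Coord A H χ v) : v 1 = 0 := by
  have h2 := hv.add 1 (one_mem H) 1 (one_mem H)
  rw [one_mul] at h2
  exact left_eq_add.mp h2

/-- alternating equivariant maps vanish -/
theorem gt2 (hχ₀ : Function.Bijective χ₀) {A H : Subgroup P} {v : P → F} (hv : Coord A H χ₀ v) (hH : Inv K H)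
    (b : P → P → F) (h1 : ∀ x ∈ H, ∀ y ∈ H, ∀ z ∈ H, b (x * y) z = b x z + b y z)
    (h2 : ∀ x ∈ H, ∀ y ∈ H, ∀ z ∈ H, b x (y * z) = b x y + b x z)
    (hk : ∀ x ∈ A, x ∈ H → ∀ z ∈ H, b x z = 0) (hk' : ∀ y ∈ A, y ∈ H → ∀ x ∈ H, b x y = 0)
    (halt : ∀ x ∈ H, b x x = 0) (heq : ∀ (k : K), ∀ x ∈ H, ∀ y ∈ H, b (k • x) (k • y) = χ₀ k * b x y) :
    ∀ x ∈ H, ∀ y ∈ H, b x y = 0 := by
  obtain ⟨B, hB⟩ := descend2 (π := v) (π' := v) (β := b) hv.surj hv.surj hv.add hv.add h1 h2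
    (fun x hx h0 z hz => hk x ((hv.ker x hx).1 h0) hx z hz) (fun y hy h0 x hx => hk' y ((hv.ker y hy).1 h0) hy x hx)
  have h3 : B = 0 := by
    refine SuzF.t2 B (fun x => ?_) (fun c x y hc => ?_) SuzF.perf
    · obtain ⟨a, ha, rfl⟩ := hv.surj x
      rw [hB a ha a ha, halt a ha]
    · obtain ⟨a, ha, rfl⟩ := hv.surj x
      obtain ⟨a', ha', rfl⟩ := hv.surj y
      obtain ⟨k, hk⟩ := hχ₀.2 (Units.mk0 c hc)
      have hc' : c = (χ₀ k : F) := by rw [hk]; rfl
      rw [hc', ← hv.eqv k a ha, ← hv.eqv k a' ha', hB _ (hH k a ha) _ (hH k a' ha'), heq k a ha a' ha', hB a ha a' ha']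
  intro x hx y hy
  rw [← hB x hx y hy, h3]
  rfl

end

end Cfsg.Agent.H9.Suz
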