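import Mathlib
import Cfsg.Agent.H9_Suz5

/-!
# Suzuki 2-groups: step I
-/

set_option autoImplicit false

universe u w

namespace Cfsg.Agent.H9.Suz

open Subgroup

section
variable {K : Type w} {P : Type u} [Group K] [Group P] [MulDistribMulAction K P]
variable {F : Type} [Field F] [Fintype F] [CharP F 2] {χ₀ : K →* Fˣ} {ζ : P → F}

/-- commutator -/
def D (x m : P) : P := m⁻¹ * x⁻¹ * m * x

theorem D_smul (k : K) (x m : P) : D (k • x) (k • m) = k • D x m := by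
  simp only [D, smul_mul', smul_inv']

theorem D_conj (x m : P) : x⁻¹ * m * x = m * D x m := by
  simp only [D]; group

theorem D_one_of_comm {x m : P} (hc : x * m = m * x) : D x m = 1 := by
  have : D x m = (x * m)⁻¹ * (m * x) := by simp only [D]; group
  rw [this, hc, inv_mul_cancel]

theorem comm_of_D {x m : P} (hc : D x m = 1) : x * m = m * x := by
  have : D x m = (x * m)⁻¹ * (m * x) := by simp only [D]; group
  rw [this] at hc
  exact inv_mul_eq_one.1 hc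

theorem D_mul_right {x a b : P} (h : (x⁻¹ * a * x) * b = b * (x⁻¹ * a * x)) (h' : a * b = b * a) :
    D x (a * b) = D x a * D x b := by
  have h1 : D x (a * b) = (a * b)⁻¹ * ((x⁻¹ * a * x) * (x⁻¹ * b * x)) := by simp only [D]; group
  have h2 : D x a * D x b = a⁻¹ * ((x⁻¹ * a * x) * b⁻¹) * (x⁻¹ * b * x) := by simp only [D]; group
  have h3 : (x⁻¹ * a * x) * b⁻¹ = b⁻¹ * (x⁻¹ * a * x) := by
    rw [mul_inv_eq_iff_eq_mul, mul_assoc b⁻¹, h, inv_mul_cancel_left]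
  rw [h1, h2, h3, h', mul_inv_rev]
  group

theorem D_mul_left {x y m : P} (h : (D x m) * y = y * (D x m)) (h' : D y m * D x m = D x m * D y m) :
    D (x * y) m = D x m * D y m := by
  have h1 : D (x * y) m = (m⁻¹ * y⁻¹ * m) * (D x m * y) := by simp only [D]; group
  rw [h1, h, ← h']
  simp only [D]; group

section stepI
variable (h : SZ K P) (hχ₀ : Function.Bijective χ₀) (hζ : Coord (⊥ : Subgroup P) (Z1 P) χ₀ ζ)
  (hF : Nat.card F = Nat.card K + 1)
  {M H : Subgroup P} (hM : Inv K M) (hH : Inv K H) (hMH : M ≤ H) (hab : ∀ x ∈ M, ∀ y ∈ M, x * y = y * x)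

include h hM hab in
/-- roots in a homocyclic group -/
theorem root {k : ℕ} (hk1 : ∃ m ∈ M, m ^ (2 ^ k) ≠ 1) (hk2 : ∀ m ∈ M, m ^ (2 ^ (k + 1)) = 1) (j : ℕ) :
    j ≤ k + 1 → ∀ m ∈ M, m ^ (2 ^ j) = 1 → ∃ m' ∈ M, m = m' ^ (2 ^ (k + 1 - j)) := by
  induction j with
  | zero =>
    intro _ m hm h1
    rw [pow_zero, pow_one] at h1
    exact ⟨1, one_mem _, by rw [h1, one_pow]⟩
  | succ j ih =>
    intro hj m hm h1
    have hz : m ^ (2 ^ j) ∈ Z1 P := by
      rw [h.mem_Z1, ← pow_two, ← pow_mul, ← pow_succ]; exact h1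
    obtain ⟨y, hy, hyz⟩ : ∃ y ∈ M, y ^ (2 ^ k) = m ^ (2 ^ j) := by
      by_cases hz1 : m ^ (2 ^ j) = 1
      · exact ⟨1, one_mem _, by rw [hz1, one_pow]⟩
      · obtain ⟨m₀, hm₀, hm₁⟩ := hk1
        obtain ⟨l, hl⟩ := h.trans (m₀ ^ (2 ^ k)) (m ^ (2 ^ j)) hm₁ (by
          rw [← pow_two, ← pow_mul, ← pow_succ]; exact hk2 m₀ hm₀) hz1 (Z1_sq hz)
        exact ⟨l • m₀, hM l _ hm₀, by rw [← smul_pow', hl]⟩
    have hjk : j ≤ k := by omega
    have hc : ∀ a ∈ M, ∀ b ∈ M, Commute a b := fun a ha b hb => hab a ha b hb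
    have h2 : (m * (y ^ (2 ^ (k - j)))⁻¹) ^ (2 ^ j) = 1 := by
      rw [(hc m hm _ (inv_mem (pow_mem hy _))).mul_pow, inv_pow, ← pow_mul, ← pow_add, Nat.sub_add_cancel hjk, hyz, mul_inv_cancel]
    obtain ⟨m', hm', hm2⟩ := ih (by omega) _ (mul_mem hm (inv_mem (pow_mem hy _))) h2
    refine ⟨m' ^ 2 * y, mul_mem (pow_mem hm' _) hy, ?_⟩
    have e1 : k + 1 - (j + 1) = k - j := by omega
    have e2 : k + 1 - j = (k - j) + 1 := by omega
    rw [e1, (hc _ (pow_mem hm' 2) y hy).mul_pow, ← pow_mul]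
    rw [e2, pow_succ, mul_comm (2 ^ (k - j)) 2] at hm2
    rw [← hm2, inv_mul_cancel_right]

variable {χ : K →* Fˣ} {v : P → F}

/-- elements of order at most four -/
def Om (M : Subgroup P) (hab : ∀ x ∈ M, ∀ y ∈ M, x * y = y * x) : Subgroup P where
  carrier := {r | r ∈ M ∧ r * r ∈ Z1 P}
  one_mem' := ⟨one_mem _, by rw [mul_one]; exact one_mem _⟩
  mul_mem' := by
    rintro a b ⟨ha, ha2⟩ ⟨hb, hb2⟩
    refine ⟨mul_mem ha hb, ?_⟩
    have : a * b * (a * b) = (a * a) * (b * b) := by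
      calc a * b * (a * b) = a * (b * a) * b := by group
        _ = a * (a * b) * b := by rw [hab b hb a ha]
        _ = (a * a) * (b * b) := by group
    rw [this]
    exact mul_mem ha2 hb2
  inv_mem' := by
    rintro a ⟨ha, ha2⟩
    refine ⟨inv_mem ha, ?_⟩
    rw [← mul_inv_rev]
    exact inv_mem ha2

theorem coord_Z1_zero (hζ : Coord (⊥ : Subgroup P) (Z1 P) χ₀ ζ) {z : P} (hz : z ∈ Z1 P) (h0 : ζ z = 0) : z = 1 :=
  Subgroup.mem_bot.1 ((hζ.ker z hz).1 h0)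

theorem D_mem {M H : Subgroup P} (hcm : ∀ x ∈ H, ∀ y ∈ H, x⁻¹ * y⁻¹ * x * y ∈ M) {x m : P} (hx : x ∈ H) (hm : m ∈ H) :
    D x m ∈ M := hcm m hm x hx

include h hχ₀ hζ hF hM hH hMH hab in
theorem step1a (hsq : ∀ x ∈ H, x * x ∈ M) (hcm : ∀ x ∈ H, ∀ y ∈ H, x⁻¹ * y⁻¹ * x * y ∈ M)
    (hχ : Function.Bijective χ) (hv : Coord M H χ v)
    {k : ℕ} (hk : 2 ≤ k) (hk1 : ∃ m ∈ M, m ^ (2 ^ k) ≠ 1) (hk2 : ∀ m ∈ M, m ^ (2 ^ (k + 1)) = 1) :
    ∀ x ∈ H, ∀ r ∈ Om M hab, D x r = 1 := by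
  have hZM : Z1 P ≤ M := by
    apply h.le_of_ne_bot hM
    intro hb
    obtain ⟨m, hm, hm1⟩ := hk1
    rw [hb, Subgroup.mem_bot] at hm
    rw [hm, one_pow] at hm1
    exact hm1 rfl
  have hconjM : ∀ x ∈ H, ∀ m ∈ M, x⁻¹ * m * x ∈ M := fun x hx m hm => by
    rw [D_conj]; exact mul_mem hm (D_mem hcm hx (hMH hm))
  have hDr : ∀ x ∈ H, ∀ a ∈ M, ∀ b ∈ M, D x (a * b) = D x a * D x b := fun x hx a ha b hb =>
    D_mul_right (hab _ (hconjM x hx a ha) _ hb) (hab a ha b hb)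
  have hDz : ∀ x z : P, z ∈ Z1 P → D x z = 1 := fun x z hz => D_one_of_comm (Z1_center hz x)
  have hDO : ∀ x ∈ H, ∀ r ∈ Om M hab, D x r ∈ Z1 P := by
    intro x hx r hr
    rw [h.mem_Z1, ← hDr x hx r hr.1 r hr.1]
    exact hDz x _ hr.2
  have hsurj4 : ∀ c : F, ∃ m ∈ M, m * m ∈ Om M hab ∧ ζ (m * m * (m * m)) = c := by
    intro c
    obtain ⟨z, hz, rfl⟩ := hζ.surj c
    obtain ⟨y, hy, hyz⟩ := root h hM hab hk1 hk2 1 (by omega) z (hZM hz) (by rw [pow_one, pow_two]; exact Z1_sq hz)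
    rw [Nat.add_sub_cancel] at hyz
    have e : (y ^ (2 ^ (k - 2))) * (y ^ (2 ^ (k - 2))) * ((y ^ (2 ^ (k - 2))) * (y ^ (2 ^ (k - 2)))) = z := by
      rw [hyz, ← pow_add, ← pow_add]
      congr 1
      have : 2 ^ k = 2 ^ (k - 2) * 2 ^ 2 := by rw [← pow_add]; congr 1; omega
      omega
    refine ⟨y ^ (2 ^ (k - 2)), pow_mem hy _, ⟨mul_mem (pow_mem hy _) (pow_mem hy _), ?_⟩, ?_⟩
    · rw [e]; exact hz
    · rw [e]
  have hρs : ∀ c : F, ∃ r ∈ Om M hab, ζ (r * r) = c := by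
    intro c
    obtain ⟨m, hm, hm2, hm3⟩ := hsurj4 c
    exact ⟨m * m, hm2, hm3⟩
  have hρa : ∀ a ∈ Om M hab, ∀ b ∈ Om M hab, ζ (a * b * (a * b)) = ζ (a * a) + ζ (b * b) := by
    intro a ha b hb
    rw [← hζ.add _ ha.2 _ hb.2]
    congr 1
    calc a * b * (a * b) = a * (b * a) * b := by group
        _ = a * (a * b) * b := by rw [hab b hb.1 a ha.1]
        _ = (a * a) * (b * b) := by group
  obtain ⟨B, hB⟩ := descend2 (H := H) (H' := Om M hab) (π := v) (π' := fun r => ζ (r * r)) (β := fun x r => ζ (D x r))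
    hv.surj hρs hv.add hρa
    (fun x hx y hy r hr => by
      change ζ (D (x * y) r) = ζ (D x r) + ζ (D y r)
      rw [← hζ.add _ (hDO x hx r hr) _ (hDO y hy r hr), D_mul_left]
      · exact (Z1_center (hDO x hx r hr) y).symm
      · exact Z1_center (hDO x hx r hr) _)
    (fun x hx a ha b hb => by
      change ζ (D x (a * b)) = ζ (D x a) + ζ (D x b)
      rw [← hζ.add _ (hDO x hx a ha) _ (hDO x hx b hb), hDr x hx a ha.1 b hb.1])
    (fun x hx h0 r hr => by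
      change ζ (D x r) = 0
      rw [D_one_of_comm (hab x ((hv.ker x hx).1 h0) r hr.1)]
      exact (hζ.ker 1 (one_mem _)).2 (one_mem _))
    (fun r hr h0 x hx => by
      change ζ (D x r) = 0
      rw [hDz x r (h.mem_Z1.2 (coord_Z1_zero hζ hr.2 h0))]
      exact (hζ.ker 1 (one_mem _)).2 (one_mem _))
  have hB0 : B = 0 := by
    refine t5 (by rw [hF]; have := h.three_le; omega) B ?_ χ χ₀ hχ hχ₀ ?_
    · intro s c
      obtain ⟨x, hx, rfl⟩ := hv.surj s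
      obtain ⟨m, hm, hm2, rfl⟩ := hsurj4 c
      have h1 := hB x hx _ hm2
      change B (v x) (ζ (m * m * (m * m))) = ζ (D x (m * m)) at h1
      have hy : D x m ∈ M := D_mem hcm hx (hMH hm)
      have h2 : D x (m * m) = D x m * D x m := hDr x hx m hm m hm
      have h3 : D x m * D x m ∈ Z1 P := by rw [← h2]; exact hDO x hx _ hm2
      have h4 := hB x hx (D x m) ⟨hy, h3⟩
      change B (v x) (ζ (D x m * D x m)) = ζ (D x (D x m)) at h4
      rw [h1, h2, h4]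
      congr 1
      -- x inverts D x m
      have h5 : x⁻¹ * D x m * x = (D x m)⁻¹ := by
        have h6 : (x * x) * m = m * (x * x) := hab _ (hsq x hx) _ hm
        have h7 : x⁻¹ * D x m * x = (x⁻¹ * m⁻¹ * x) * (x⁻¹ * x⁻¹ * (m * (x * x))) := by simp only [D]; group
        have h8 : (D x m)⁻¹ = (x⁻¹ * m⁻¹ * x) * m := by simp only [D]; group
        rw [h7, h8, ← h6]
        group
      have h9 : D x (D x m) = (D x m * D x m)⁻¹ := by
        have : D x (D x m) = (D x m)⁻¹ * (x⁻¹ * D x m * x) := by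
          rw [D_conj]; group
        rw [this, h5, mul_inv_rev]
      rw [h9, Z1_inv h3]
    · intro l s c
      obtain ⟨x, hx, rfl⟩ := hv.surj s
      obtain ⟨r, hr, rfl⟩ := hρs c
      have h1 := hB (l • x) (hH l x hx) (l • r) ⟨hM l r hr.1, by rw [← smul_mul']; exact h.inv_Z1 l _ hr.2⟩
      change B (v (l • x)) (ζ ((l • r) * (l • r))) = ζ (D (l • x) (l • r)) at h1
      have h2 := hB x hx r hr
      change B (v x) (ζ (r * r)) = ζ (D x r) at h2
      rw [hv.eqv l x hx, ← smul_mul', hζ.eqv l _ hr.2, D_smul, hζ.eqv l _ (hDO x hx r hr)] at h1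
      rw [h1, h2]
  intro x hx r hr
  apply coord_Z1_zero hζ (hDO x hx r hr)
  have h2 := hB x hx r hr
  rw [hB0] at h2
  exact h2.symm

end stepI

end

end Cfsg.Agent.H9.Suz
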