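import Mathlib
import Cfsg.Agent.H9_Suz6

/-!
# Suzuki 2-groups: step I, conclusion
-/

set_option autoImplicit false

universe u w

namespace Cfsg.Agent.H9.Suz

open Subgroup

variable {K : Type w} {P : Type u} [Group K] [Group P] [MulDistribMulAction K P]
variable {F : Type} [Field F] [Fintype F] [CharP F 2] {χ₀ : K →* Fˣ} {ζ : P → F}

theorem coord_zero_Z1 (hζ : Coord (⊥ : Subgroup P) (Z1 P) χ₀ ζ) : ζ 1 = 0 := hζ.one

/-- commutators, when central of order two, give an alternating form; if it is `χ₀`-equivariant it vanishes -/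
theorem comm_vanish (hχ₀ : Function.Bijective χ₀) (hζ : Coord (⊥ : Subgroup P) (Z1 P) χ₀ ζ)
    {A H : Subgroup P} (hH : Inv K H) {s : P → F} (hs : Coord A H χ₀ s)
    (hA : ∀ a ∈ A, ∀ x ∈ H, a * x = x * a) (hDZ : ∀ x ∈ H, ∀ y ∈ H, D x y ∈ Z1 P) :
    ∀ x ∈ H, ∀ y ∈ H, x * y = y * x := by
  have hDr : ∀ x ∈ H, ∀ a ∈ H, ∀ b ∈ H, D x (a * b) = D x a * D x b := by
    intro x hx a ha b hb
    have h1 : D x (a * b) = b⁻¹ * D x a * x⁻¹ * b * x := by simp only [D]; group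
    have h2 : b⁻¹ * D x a = D x a * b⁻¹ := Z1_center (hDZ x hx a ha) b⁻¹
    rw [h1, h2]
    simp only [D]; group
  have hDl : ∀ x ∈ H, ∀ y ∈ H, ∀ a ∈ H, D (x * y) a = D x a * D y a := by
    intro x hx y hy a ha
    exact D_mul_left (Z1_center (hDZ x hx a ha) y).symm (Z1_center (hDZ x hx a ha) _)
  have h1 := gt2 hχ₀ hs hH (fun x y => ζ (D x y))
    (fun x hx y hy z hz => by
      change ζ (D (x * y) z) = ζ (D x z) + ζ (D y z)
      rw [hDl x hx y hy z hz, hζ.add _ (hDZ x hx z hz) _ (hDZ y hy z hz)])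
    (fun x hx y hy z hz => by
      change ζ (D x (y * z)) = ζ (D x y) + ζ (D x z)
      rw [hDr x hx y hy z hz, hζ.add _ (hDZ x hx y hy) _ (hDZ x hx z hz)])
    (fun x hx _ z hz => by
      change ζ (D x z) = 0
      rw [D_one_of_comm (hA x hx z hz), hζ.one])
    (fun y hy _ x hx => by
      change ζ (D x y) = 0
      rw [D_one_of_comm (hA y hy x hx).symm, hζ.one])
    (fun x hx => by
      change ζ (D x x) = 0
      rw [D_one_of_comm rfl, hζ.one])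
    (fun k x hx y hy => by
      change ζ (D (k • x) (k • y)) = χ₀ k * ζ (D x y)
      rw [D_smul, hζ.eqv k _ (hDZ x hx y hy)])
  intro x hx y hy
  exact comm_of_D (coord_Z1_zero hζ (hDZ x hx y hy) (h1 x hx y hy))

/-- **Step I**: a large commutative invariant subgroup of index `q` forces commutativity -/
theorem step1 (h : SZ K P) (hχ₀ : Function.Bijective χ₀) (hζ : Coord (⊥ : Subgroup P) (Z1 P) χ₀ ζ)
    (hF : Nat.card F = Nat.card K + 1)
    {M H : Subgroup P} (hM : Inv K M) (hH : Inv K H) (hMH : M ≤ H) (hab : ∀ x ∈ M, ∀ y ∈ M, x * y = y * x)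
    (hcard : Nat.card H = (Nat.card K + 1) * Nat.card M)
    (hsq : ∀ x ∈ H, x * x ∈ M) (hcm : ∀ x ∈ H, ∀ y ∈ H, x⁻¹ * y⁻¹ * x * y ∈ M)
    (h8 : ∃ m ∈ M, m ^ 4 ≠ 1) : ∀ x ∈ H, ∀ y ∈ H, x * y = y * x := by
  classical
  haveI := h.fin
  haveI := h.finK
  obtain ⟨χ, v, hχ, hv⟩ := exists_coord h hM hH hMH hcm hcard hF
  -- exponent
  obtain ⟨k, hk, hk1, hk2⟩ : ∃ k : ℕ, 2 ≤ k ∧ (∃ m ∈ M, m ^ (2 ^ k) ≠ 1) ∧ (∀ m ∈ M, m ^ (2 ^ (k + 1)) = 1) := by
    have hex : ∃ k : ℕ, ∀ m ∈ M, m ^ (2 ^ k) = 1 := by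
      haveI : Fact (Nat.Prime 2) := ⟨Nat.prime_two⟩
      obtain ⟨n, hn⟩ := (IsPGroup.iff_card.mp h.pg)
      exact ⟨n, fun m _ => by rw [← hn]; exact pow_card_eq_one'⟩
    have h1 := Nat.find_spec hex
    have h2 : 3 ≤ Nat.find hex := by
      by_contra hlt
      push Not at hlt
      obtain ⟨m, hm, hm4⟩ := h8
      apply hm4
      have h3 := h1 m hm
      have h4 : 2 ^ Nat.find hex ∣ 4 := (pow_dvd_pow 2 (by omega : Nat.find hex ≤ 2))
      obtain ⟨t, ht⟩ := h4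
      rw [ht, pow_mul, h3, one_pow]
    refine ⟨Nat.find hex - 1, by omega, ?_, ?_⟩
    · have h3 := Nat.find_min hex (m := Nat.find hex - 1) (by omega)
      push Not at h3
      exact h3
    · rw [Nat.sub_add_cancel (by omega)]
      exact h1
  have hD1 := step1a h hχ₀ hζ hF hM hH hMH hab hsq hcm hχ hv hk hk1 hk2
  have hZM : Z1 P ≤ M := by
    apply h.le_of_ne_bot hM
    intro hb
    obtain ⟨m, hm, hm1⟩ := hk1
    rw [hb, Subgroup.mem_bot] at hm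
    rw [hm, one_pow] at hm1
    exact hm1 rfl
  have hconjM : ∀ x ∈ H, ∀ m ∈ M, x⁻¹ * m * x ∈ M := fun x hx m hm => by
    rw [D_conj]; exact mul_mem hm (D_mem hcm hx (hMH hm))
  have hDr : ∀ x ∈ H, ∀ a ∈ M, ∀ b ∈ M, D x (a * b) = D x a * D x b := fun x hx a ha b hb =>
    D_mul_right (hab _ (hconjM x hx a ha) _ hb) (hab a ha b hb)
  have hDz : ∀ x z : P, z ∈ Z1 P → D x z = 1 := fun x z hz => D_one_of_comm (Z1_center hz x)
  have hc : ∀ a ∈ M, ∀ b ∈ M, Commute a b := fun a ha b hb => hab a ha b hb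
  -- (e) commutators with M lie in Z1
  have hDZ : ∀ x ∈ H, ∀ m ∈ M, D x m ∈ Z1 P := by
    intro x hx m hm
    have hy : D x m ∈ M := D_mem hcm hx (hMH hm)
    have h5 : x⁻¹ * D x m * x = (D x m)⁻¹ := by
      have h6 : (x * x) * m = m * (x * x) := hab _ (hsq x hx) _ hm
      have h7 : x⁻¹ * D x m * x = (x⁻¹ * m⁻¹ * x) * (x⁻¹ * x⁻¹ * (m * (x * x))) := by simp only [D]; group
      have h8 : (D x m)⁻¹ = (x⁻¹ * m⁻¹ * x) * m := by simp only [D]; group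
      rw [h7, h8, ← h6]
      group
    generalize D x m = y at hy h5
    rw [h.mem_Z1]
    by_contra hyy
    have hy1 : y ≠ 1 := by
      rintro rfl
      exact hyy (mul_one 1)
    obtain ⟨j, hj1, hj2⟩ := exists_pow_invol h.pg hy1
    have hj0 : j ≠ 0 := by
      rintro rfl
      rw [pow_zero, pow_one] at hj2
      exact hyy hj2
    obtain ⟨i, rfl⟩ := Nat.exists_eq_succ_of_ne_zero hj0
    have hw : y ^ (2 ^ i) ∈ Om M hab := by
      refine ⟨pow_mem hy _, ?_⟩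
      rw [← pow_two, ← pow_mul, ← pow_succ, h.mem_Z1]
      exact hj2
    have h1 := hD1 x hx _ hw
    have h2 : x⁻¹ * y ^ (2 ^ i) * x = y ^ (2 ^ i) := by rw [D_conj, h1, mul_one]
    have h3 : x⁻¹ * y ^ (2 ^ i) * x = (y ^ (2 ^ i))⁻¹ := by
      have h4 : ∀ n : ℕ, x⁻¹ * y ^ n * x = (x⁻¹ * y * x) ^ n := by
        intro n
        induction n with
        | zero => simp
        | succ n ih => rw [pow_succ, pow_succ, ← ih]; group
      rw [h4, h5, inv_pow]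
    rw [h2] at h3
    apply hj1
    rw [pow_succ, pow_mul, pow_two]
    nth_rewrite 1 [h3]
    exact inv_mul_cancel _
  -- (f) the power map on H
  have hpZ : ∀ m ∈ M, m ^ (2 ^ k) ∈ Z1 P := by
    intro m hm
    rw [h.mem_Z1, ← pow_two, ← pow_mul, ← pow_succ]
    exact hk2 m hm
  let s : P → F := fun x => ζ ((x * x) ^ (2 ^ k))
  have hsadd : ∀ x ∈ H, ∀ y ∈ H, s (x * y) = s x + s y := by
    intro x hx y hy
    have hg : x⁻¹ * y * x * y⁻¹ ∈ M := by
      have := hcm x hx y⁻¹ (inv_mem hy)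
      rwa [inv_inv] at this
    have hgD : D x (x⁻¹ * y * x * y⁻¹) ∈ Z1 P := hDZ x hx _ hg
    have h1 : D y⁻¹ (x * x) ∈ Z1 P := hDZ _ (inv_mem hy) _ (hsq x hx)
    have h2 : D y⁻¹ (x * x) = (x⁻¹ * (x⁻¹ * y * x * y⁻¹) * x) * (x⁻¹ * y * x * y⁻¹) := by simp only [D]; group
    rw [D_conj] at h2
    have h3 : (x * y) * (x * y) = (x * x) * (x⁻¹ * y * x * y⁻¹) * (y * y) := by group
    generalize x⁻¹ * y * x * y⁻¹ = g at hg hgD h2 h3
    have hgg : g * g ∈ Z1 P := by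
      have h4 : g * D x g * g = (g * g) * D x g := by
        rw [mul_assoc, ← Z1_center hgD g, ← mul_assoc]
      rw [h2, h4] at h1
      have := mul_mem h1 (inv_mem hgD)
      rwa [mul_inv_cancel_right] at this
    have hg4 : g ^ (2 ^ k) = 1 := by
      have h4 : g ^ 4 = 1 := by
        have : g ^ 4 = (g * g) * (g * g) := by simp only [pow_succ, pow_zero, one_mul, mul_assoc]
        rw [this]; exact Z1_sq hgg
      have h5 : 2 ^ 2 ∣ 2 ^ k := pow_dvd_pow 2 hk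
      obtain ⟨t, ht⟩ := h5
      rw [ht, pow_mul, show (2 : ℕ) ^ 2 = 4 from rfl, h4, one_pow]
    have h4 : ((x * y) * (x * y)) ^ (2 ^ k) = (x * x) ^ (2 ^ k) * (y * y) ^ (2 ^ k) := by
      rw [h3, (hc _ (mul_mem (hsq x hx) hg) _ (hsq y hy)).mul_pow, (hc _ (hsq x hx) _ hg).mul_pow, hg4, mul_one]
    change ζ (((x * y) * (x * y)) ^ (2 ^ k)) = ζ ((x * x) ^ (2 ^ k)) + ζ ((y * y) ^ (2 ^ k))
    rw [h4, hζ.add _ (hpZ _ (hsq x hx)) _ (hpZ _ (hsq y hy))]
  have hseqv : ∀ l : K, ∀ x ∈ H, s (l • x) = χ₀ l * s x := by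
    intro l x hx
    change ζ (((l • x) * (l • x)) ^ (2 ^ k)) = _
    rw [← smul_mul', ← smul_pow', hζ.eqv l _ (hpZ _ (hsq x hx))]
  have hsM : ∀ x ∈ M, s x = 0 := by
    intro x hx
    change ζ ((x * x) ^ (2 ^ k)) = 0
    have : (x * x) ^ (2 ^ k) = 1 := by
      rw [← pow_two, ← pow_mul, mul_comm, ← pow_succ]
      exact hk2 x hx
    rw [this, hζ.one]
  -- s is not zero
  obtain ⟨x₀, hx₀, hx₀M⟩ : ∃ x ∈ H, x ∉ M := by
    by_contra hcon
    push Not at hcon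
    have h1 := Subgroup.card_le_of_le (show H ≤ M from hcon)
    have h2 := h.three_le
    have h3 : 0 < Nat.card M := Nat.card_pos
    rw [hcard] at h1
    nlinarith
  have hne : s x₀ ≠ 0 := by
    intro h0
    have h1 : (x₀ * x₀) ^ (2 ^ k) = 1 := coord_Z1_zero hζ (hpZ _ (hsq x₀ hx₀)) h0
    obtain ⟨m, hm, hm2⟩ := root h hM hab hk1 hk2 k (by omega) _ (hsq x₀ hx₀) h1
    rw [show k + 1 - k = 1 by omega, pow_one, pow_two] at hm2
    -- x₀ m⁻¹ has square in Z1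
    have hx' : x₀ * m⁻¹ ∈ H := mul_mem hx₀ (inv_mem (hMH hm))
    have h2 : (x₀ * m⁻¹) * (x₀ * m⁻¹) = D x₀ m⁻¹ := by
      have e1 : (x₀ * m⁻¹) * (x₀ * m⁻¹) = (x₀ * x₀) * (x₀⁻¹ * m⁻¹ * x₀) * m⁻¹ := by group
      have e2 : D x₀ m⁻¹ * m⁻¹ = m⁻¹ * D x₀ m⁻¹ := (Z1_center (hDZ x₀ hx₀ _ (inv_mem hm)) m⁻¹).symm
      rw [e1, D_conj, hm2, mul_assoc (m * m), mul_assoc m⁻¹, e2]
      group
    have hz : D x₀ m⁻¹ ∈ Z1 P := hDZ x₀ hx₀ _ (inv_mem hm)
    obtain ⟨r, hr, hrz⟩ : ∃ r ∈ M, r * r = D x₀ m⁻¹ := by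
      obtain ⟨y, hy, hyz⟩ := root h hM hab hk1 hk2 1 (by omega) _ (hZM hz) (by rw [pow_one, pow_two]; exact Z1_sq hz)
      rw [Nat.add_sub_cancel] at hyz
      refine ⟨y ^ (2 ^ (k - 1)), pow_mem hy _, ?_⟩
      rw [← pow_add, hyz]
      congr 1
      have : 2 ^ k = 2 ^ (k - 1) * 2 := by rw [← pow_succ]; congr 1; omega
      omega
    have hrO : r ∈ Om M hab := ⟨hr, by rw [hrz]; exact hz⟩
    have h3 := hD1 _ hx' r hrO
    have h4 : (x₀ * m⁻¹ * r) * (x₀ * m⁻¹ * r) = 1 := by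
      have e1 : (x₀ * m⁻¹ * r) * (x₀ * m⁻¹ * r) = ((x₀ * m⁻¹) * (x₀ * m⁻¹)) * ((x₀ * m⁻¹)⁻¹ * r * (x₀ * m⁻¹)) * r := by group
      rw [e1, D_conj, h3, h2, mul_one, mul_assoc, hrz]
      exact Z1_sq hz
    have h5 : x₀ * m⁻¹ * r ∈ M := hZM (h.mem_Z1.2 h4)
    apply hx₀M
    have h6 := mul_mem (mul_mem h5 (inv_mem hr)) hm
    have e2 : x₀ * m⁻¹ * r * r⁻¹ * m = x₀ := by group
    rwa [e2] at h6
  have hscoord : Coord M H χ₀ s := by
    refine ⟨hsadd, fun x hx => ⟨fun h0 => ?_, fun hm => hsM x hm⟩, fun c => ?_, hseqv⟩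
    · by_contra hxM
      have h1 : v x ≠ 0 := fun e => hxM ((hv.ker x hx).1 e)
      have h2 : v x₀ ≠ 0 := fun e => hx₀M ((hv.ker x₀ hx₀).1 e)
      obtain ⟨l, hl⟩ := hχ.2 (Units.mk0 _ h1 * (Units.mk0 _ h2)⁻¹)
      have h3 : (χ l : F) * v x₀ = v x := by
        rw [hl]; simp [h2]
      rw [← hv.eqv l x₀ hx₀] at h3
      have h4 : (l • x₀)⁻¹ * x ∈ M := by
        rw [← hv.ker _ (mul_mem (inv_mem (hH l x₀ hx₀)) hx), hv.add _ (inv_mem (hH l x₀ hx₀)) _ hx, hv.inv (hH l x₀ hx₀), h3, neg_add_cancel]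
      have h5 := hsadd (l • x₀) (hH l x₀ hx₀) _ (mul_mem (inv_mem (hH l x₀ hx₀)) hx)
      rw [mul_inv_cancel_left, h0, hsM _ h4, add_zero, hseqv l x₀ hx₀] at h5
      rcases mul_eq_zero.1 h5.symm with h6 | h6
      · exact Units.ne_zero _ h6
      · exact hne h6
    · by_cases hc0 : c = 0
      · exact ⟨1, one_mem _, by rw [hc0]; exact hsM 1 (one_mem _)⟩
      · obtain ⟨l, hl⟩ := hχ₀.2 (Units.mk0 _ hc0 * (Units.mk0 _ hne)⁻¹)
        refine ⟨l • x₀, hH l x₀ hx₀, ?_⟩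
        rw [hseqv l x₀ hx₀, hl]
        simp [hne]
  -- M is central in H
  have hcent : ∀ x ∈ H, ∀ m ∈ M, D x m = 1 := by
    have hμa : ∀ a ∈ M, ∀ b ∈ M, ζ ((a * b) ^ (2 ^ k)) = ζ (a ^ (2 ^ k)) + ζ (b ^ (2 ^ k)) := by
      intro a ha b hb
      rw [(hc a ha b hb).mul_pow, hζ.add _ (hpZ a ha) _ (hpZ b hb)]
    obtain ⟨B, hB⟩ := descend2 (H := M) (H' := H) (π := fun m => ζ (m ^ (2 ^ k))) (π' := s) (β := fun m x => ζ (D x m))
      (fun c => by
        obtain ⟨x, hx, hxc⟩ := hscoord.surj c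
        exact ⟨x * x, hsq x hx, hxc⟩) hscoord.surj hμa hscoord.add
      (fun a ha b hb x hx => by
        change ζ (D x (a * b)) = ζ (D x a) + ζ (D x b)
        rw [hDr x hx a ha b hb, hζ.add _ (hDZ x hx a ha) _ (hDZ x hx b hb)])
      (fun m hm x hx y hy => by
        change ζ (D (x * y) m) = ζ (D x m) + ζ (D y m)
        rw [D_mul_left (Z1_center (hDZ x hx m hm) y).symm (Z1_center (hDZ x hx m hm) _), hζ.add _ (hDZ x hx m hm) _ (hDZ y hy m hm)])
      (fun m hm h0 x hx => by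
        change ζ (D x m) = 0
        have h1 : m ^ (2 ^ k) = 1 := coord_Z1_zero hζ (hpZ m hm) h0
        obtain ⟨m', hm', hm2⟩ := root h hM hab hk1 hk2 k (by omega) _ hm h1
        rw [show k + 1 - k = 1 by omega, pow_one, pow_two] at hm2
        rw [hm2, hDr x hx m' hm' m' hm', Z1_sq (hDZ x hx m' hm'), hζ.one])
      (fun x hx h0 m hm => by
        change ζ (D x m) = 0
        rw [D_one_of_comm (hab x ((hscoord.ker x hx).1 h0) m hm), hζ.one])
    have hB0 : B = 0 := by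
      refine SuzF.t2 B (fun c => ?_) (fun c a b hc0 => ?_) SuzF.perf
      · obtain ⟨x, hx, rfl⟩ := hscoord.surj c
        have h1 := hB (x * x) (hsq x hx) x hx
        change B (s x) (s x) = ζ (D x (x * x)) at h1
        rw [h1, D_one_of_comm (by rw [mul_assoc]), hζ.one]
      · obtain ⟨x, hx, rfl⟩ := hscoord.surj a
        obtain ⟨y, hy, rfl⟩ := hscoord.surj b
        obtain ⟨l, hl⟩ := hχ₀.2 (Units.mk0 c hc0)
        have hc' : c = (χ₀ l : F) := by rw [hl]; rfl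
        have h1 := hB (x * x) (hsq x hx) y hy
        change B (s x) (s y) = ζ (D y (x * x)) at h1
        have h2 := hB ((l • x) * (l • x)) (hsq _ (hH l x hx)) (l • y) (hH l y hy)
        change B (s (l • x)) (s (l • y)) = ζ (D (l • y) ((l • x) * (l • x))) at h2
        rw [← smul_mul', D_smul, hζ.eqv l _ (hDZ y hy _ (hsq x hx)), hseqv l x hx, hseqv l y hy] at h2
        rw [hc', h2, h1]
    intro x hx m hm
    have h1 := hB m hm x hx
    rw [hB0] at h1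
    exact coord_Z1_zero hζ (hDZ x hx m hm) h1.symm
  -- commutators
  refine comm_vanish hχ₀ hζ hH hscoord (fun a ha x hx => (comm_of_D (hcent x hx a ha)).symm) ?_
  intro x hx y hy
  have hg : D x y ∈ M := D_mem hcm hx hy
  have hgc : ∀ t ∈ H, t * D x y = D x y * t := fun t ht => comm_of_D (hcent t ht _ hg)
  rw [h.mem_Z1]
  have h1 : D (x * x) y = D x y * D x y :=
    D_mul_left (hgc x hx).symm rfl
  rw [← h1]
  exact D_one_of_comm (comm_of_D (hcent y hy _ (hsq x hx))).symm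

end Cfsg.Agent.H9.Suz
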