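import Mathlib
import Cfsg.Agent.H9_Suz7

/-!
# Suzuki 2-groups: step II
-/

set_option autoImplicit false

universe u w

namespace Cfsg.Agent.H9.Suz

open Subgroup

variable {K : Type w} {P : Type u} [Group K] [Group P] [MulDistribMulAction K P]
variable {F : Type} [Field F] [Fintype F] [CharP F 2] {χ₀ : K →* Fˣ} {ζ : P → F}

theorem coord_of {A H : Subgroup P} (hH : Inv K H) {χ : K →* Fˣ} {v : P → F} (hχ : Function.Bijective χ) (hχ₀ : Function.Bijective χ₀)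
    (hv : Coord A H χ v) {s : P → F} (hadd : ∀ x ∈ H, ∀ y ∈ H, s (x * y) = s x + s y) (hsA : ∀ x ∈ A, x ∈ H → s x = 0)
    (heqv : ∀ l : K, ∀ x ∈ H, s (l • x) = χ₀ l * s x) {x₀ : P} (hx₀ : x₀ ∈ H) (hne : s x₀ ≠ 0) : Coord A H χ₀ s := by
  have hx₀M : x₀ ∉ A := fun hm => hne (hsA x₀ hm hx₀)
  refine ⟨hadd, fun x hx => ⟨fun h0 => ?_, fun hm => hsA x hm hx⟩, fun c => ?_, heqv⟩
  · by_contra hxM
    have h1 : v x ≠ 0 := fun e => hxM ((hv.ker x hx).1 e)
    have h2 : v x₀ ≠ 0 := fun e => hx₀M ((hv.ker x₀ hx₀).1 e)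
    obtain ⟨l, hl⟩ := hχ.2 (Units.mk0 _ h1 * (Units.mk0 _ h2)⁻¹)
    have h3 : (χ l : F) * v x₀ = v x := by
      rw [hl]; simp [h2]
    rw [← hv.eqv l x₀ hx₀] at h3
    have h4' : (l • x₀)⁻¹ * x ∈ H := mul_mem (inv_mem (hH l x₀ hx₀)) hx
    have h4 : (l • x₀)⁻¹ * x ∈ A := by
      rw [← hv.ker _ h4', hv.add _ (inv_mem (hH l x₀ hx₀)) _ hx, hv.inv (hH l x₀ hx₀), h3, neg_add_cancel]
    have h5 := hadd (l • x₀) (hH l x₀ hx₀) _ h4'
    rw [mul_inv_cancel_left, h0, hsA _ h4 h4', add_zero, heqv l x₀ hx₀] at h5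
    rcases mul_eq_zero.1 h5.symm with h6 | h6
    · exact Units.ne_zero _ h6
    · exact hne h6
  · by_cases hc0 : c = 0
    · refine ⟨1, one_mem _, ?_⟩
      have h1 := hadd 1 (one_mem _) 1 (one_mem _)
      rw [one_mul] at h1
      rw [hc0]
      exact left_eq_add.mp h1
    · obtain ⟨l, hl⟩ := hχ₀.2 (Units.mk0 _ hc0 * (Units.mk0 _ hne)⁻¹)
      refine ⟨l • x₀, hH l x₀ hx₀, ?_⟩
      rw [heqv l x₀ hx₀, hl]
      simp [hne]

/-- the coordinate given by squaring -/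
theorem alpha_coord (h : SZ K P) (hχ₀ : Function.Bijective χ₀) (hζ : Coord (⊥ : Subgroup P) (Z1 P) χ₀ ζ)
    {A : Subgroup P} (hA : Inv K A) (hab : ∀ x ∈ A, ∀ y ∈ A, x * y = y * x) (hsq : ∀ a ∈ A, a * a ∈ Z1 P)
    (hne : ¬ A ≤ Z1 P) : Coord (Z1 P) A χ₀ (fun a => ζ (a * a)) := by
  obtain ⟨a₀, ha₀, ha₀Z⟩ := Set.not_subset.mp hne
  refine ⟨fun a ha b hb => ?_, fun a ha => ⟨fun h0 => ?_, fun hz => ?_⟩, fun c => ?_, fun k a ha => ?_⟩
  · change ζ (a * b * (a * b)) = ζ (a * a) + ζ (b * b)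
    rw [← hζ.add _ (hsq a ha) _ (hsq b hb)]
    congr 1
    calc a * b * (a * b) = a * (b * a) * b := by group
      _ = a * (a * b) * b := by rw [hab b hb a ha]
      _ = (a * a) * (b * b) := by group
  · exact h.mem_Z1.2 (coord_Z1_zero hζ (hsq a ha) h0)
  · change ζ (a * a) = 0
    rw [Z1_sq hz, hζ.one]
  · obtain ⟨z, hz, hzc⟩ := hζ.surj c
    by_cases hz1 : z = 1
    · refine ⟨1, one_mem _, ?_⟩
      change ζ (1 * 1) = c
      rw [mul_one, ← hzc, hz1]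
    · obtain ⟨l, hl⟩ := h.trans (a₀ * a₀) z (fun e => ha₀Z (h.mem_Z1.2 e)) (Z1_sq (hsq a₀ ha₀)) hz1 (Z1_sq hz)
      refine ⟨l • a₀, hA l a₀ ha₀, ?_⟩
      change ζ ((l • a₀) * (l • a₀)) = c
      rw [← smul_mul', hl, hzc]
  · change ζ ((k • a) * (k • a)) = χ₀ k * ζ (a * a)
    rw [← smul_mul', hζ.eqv k _ (hsq a ha)]

/-- centralizer of `A` in `H` -/
def Cn (H A : Subgroup P) : Subgroup P := H ⊓ Subgroup.centralizer (A : Set P)

theorem mem_Cn {H A : Subgroup P} {x : P} : x ∈ Cn H A ↔ x ∈ H ∧ ∀ a ∈ A, D x a = 1 := by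
  rw [Cn, Subgroup.mem_inf, Subgroup.mem_centralizer_iff]
  refine and_congr_right (fun _ => ⟨fun hx a ha => D_one_of_comm (hx a ha).symm, fun hx a ha => (comm_of_D (hx a ha)).symm⟩)

theorem Cn_inv {H A : Subgroup P} (hH : Inv K H) (hA : Inv K A) : Inv K (Cn H A) := by
  intro k x hx
  rw [mem_Cn] at hx ⊢
  refine ⟨hH k x hx.1, fun a ha => ?_⟩
  have h1 := hx.2 (k⁻¹ • a) (hA k⁻¹ a ha)
  have h2 : D (k • x) a = k • D x (k⁻¹ • a) := by rw [← D_smul, smul_inv_smul]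
  rw [h2, h1, smul_one]

/-- the biadditive map on a line above `A`, in diagonal form -/
theorem diag (h : SZ K P) (hχ₀ : Function.Bijective χ₀) (hζ : Coord (⊥ : Subgroup P) (Z1 P) χ₀ ζ)
    {A M : Subgroup P} (hM : Inv K M) (hA : Inv K A) (hAM : A ≤ M) (hab : ∀ x ∈ A, ∀ y ∈ A, x * y = y * x) (hsq : ∀ a ∈ A, a * a ∈ Z1 P)
    (hne : ¬ A ≤ Z1 P) (hDZ : ∀ x ∈ M, ∀ a ∈ A, D x a ∈ Z1 P) {χ : K →* Fˣ} {v : P → F} (hχ : Function.Bijective χ)
    (hv : Coord A M χ v) (hC : ∃ x ∈ M, ∃ a ∈ A, D x a ≠ 1) :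
    ∃ (σ : F ≃+* F) (c : F →+ F), Function.Injective c ∧ σ ≠ RingEquiv.refl F ∧
      ∀ x ∈ M, ∀ a ∈ A, ζ (D x a) = c (v x) * σ (ζ (a * a)) := by
  classical
  haveI := h.fin
  haveI := h.finK
  have hα := alpha_coord h hχ₀ hζ hA hab hsq hne
  have hDr : ∀ x ∈ M, ∀ a ∈ A, ∀ b ∈ A, D x (a * b) = D x a * D x b := by
    intro x hx a ha b hb
    refine D_mul_right ?_ (hab a ha b hb)
    rw [D_conj]
    calc a * D x a * b = a * (D x a * b) := by group
      _ = a * (b * D x a) := by rw [(Z1_center (hDZ x hx a ha) b)]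
      _ = (a * b) * D x a := by group
      _ = b * (a * D x a) := by rw [hab a ha b hb]; group
  obtain ⟨B, hB⟩ := descend2 (H := A) (H' := M) (π := fun a => ζ (a * a)) (π' := v) (β := fun a x => ζ (D x a))
    hα.surj hv.surj hα.add hv.add
    (fun a ha b hb x hx => by
      change ζ (D x (a * b)) = ζ (D x a) + ζ (D x b)
      rw [hDr x hx a ha b hb, hζ.add _ (hDZ x hx a ha) _ (hDZ x hx b hb)])
    (fun a ha x hx y hy => by
      change ζ (D (x * y) a) = ζ (D x a) + ζ (D y a)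
      rw [D_mul_left (Z1_center (hDZ x hx a ha) y).symm (Z1_center (hDZ x hx a ha) _), hζ.add _ (hDZ x hx a ha) _ (hDZ y hy a ha)])
    (fun a ha h0 x hx => by
      change ζ (D x a) = 0
      rw [D_one_of_comm (Z1_center ((hα.ker a ha).1 h0) x), hζ.one])
    (fun x hx h0 a ha => by
      change ζ (D x a) = 0
      rw [D_one_of_comm (hab x ((hv.ker x hx).1 h0) a ha), hζ.one])
  have hB' : ∀ x ∈ M, ∀ a ∈ A, B (ζ (a * a)) (v x) = ζ (D x a) := fun x hx a ha => hB a ha x hx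
  let e₀ : K ≃* Fˣ := MulEquiv.ofBijective χ₀ hχ₀
  have he₀ : ∀ k : Fˣ, χ₀ (e₀.symm k) = k := fun k => e₀.apply_symm_apply k
  have heq : ∀ (k : Fˣ) (s t : F), B (k * s) ((χ.comp (e₀.symm : Fˣ →* K)) k * t) = k * B s t := by
    intro k s t
    obtain ⟨a, ha, hs⟩ := hα.surj s
    obtain ⟨x, hx, ht⟩ := hv.surj t
    have h1 := hα.eqv (e₀.symm k) a ha
    rw [he₀] at h1
    have h2 := hv.eqv (e₀.symm k) x hx
    change B (k * s) (χ (e₀.symm k) * t) = k * B s t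
    rw [← hs, ← ht]
    change ζ ((e₀.symm k • a) * (e₀.symm k • a)) = k * ζ (a * a) at h1
    change B (k * ζ (a * a)) (χ (e₀.symm k) * v x) = k * B (ζ (a * a)) (v x)
    rw [← h1, ← h2, hB' _ (hM _ x hx) _ (hA _ a ha), hB' x hx a ha, D_smul, hζ.eqv _ _ (hDZ x hx a ha), he₀]
  have hBne : B ≠ 0 := by
    intro h0
    obtain ⟨x, hx, a, ha, hxa⟩ := hC
    apply hxa
    apply coord_Z1_zero hζ (hDZ x hx a ha)
    rw [← hB' x hx a ha, h0]
    rfl
  have hinj : Function.Injective (χ.comp (e₀.symm : Fˣ →* K)) := hχ.1.comp e₀.symm.injective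
  obtain ⟨σ, c, hc1, hc2, hc3, -, -⟩ := SuzF.t3 (χ.comp (e₀.symm : Fˣ →* K)) hinj B heq hBne
  refine ⟨σ, c, hc1, ?_, ?_⟩
  · rintro rfl
    -- a nontrivial unit
    obtain ⟨k, hk⟩ : ∃ k : K, k ≠ 1 := by
      haveI : Nontrivial K := by
        rw [← Finite.one_lt_card_iff_nontrivial]
        have := h.three_le
        omega
      exact exists_ne 1
    have h1 := hc3 (e₀ k) 1
    rw [mul_one, RingEquiv.refl_apply] at h1
    have h2 : c ((χ.comp (e₀.symm : Fˣ →* K)) (e₀ k)) = c 1 := mul_left_cancel₀ (Units.ne_zero _) h1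
    have h3 := hc1 h2
    have h4 : (χ.comp (e₀.symm : Fˣ →* K)) (e₀ k) = 1 := Units.ext h3
    have h5 : (χ.comp (e₀.symm : Fˣ →* K)) (e₀ k) = χ k := by
      change χ (e₀.symm (e₀ k)) = χ k
      rw [MulEquiv.symm_apply_apply]
    rw [h5] at h4
    exact hk (hχ.1 (by rw [h4, map_one]))
  · intro x hx a ha
    rw [← hB' x hx a ha, hc2]

theorem three_cases (h : SZ K P) {A H : Subgroup P} (hA : Inv K A) (hH : Inv K H) (hAH : A ≤ H)
    (hAn : ∀ x ∈ A, ∀ g ∈ H, g⁻¹ * x * g ∈ A) (hc : Nat.card H = (Nat.card K + 1) * Nat.card A) :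
    (∀ x ∈ H, x * x ∈ A) ∧ (∀ x ∈ H, ∀ y ∈ H, x⁻¹ * y⁻¹ * x * y ∈ A) := by
  haveI := h.fin
  have hne : ¬ H ≤ A := by
    intro hle
    have h1 := Subgroup.card_le_of_le hle
    have h2 := h.three_le
    have h3 : 0 < Nat.card A := Nat.card_pos
    rw [hc] at h1
    nlinarith
  obtain ⟨L, hL1, hL2, hL3, hL4, hL5, hL6⟩ := exists_chief h hA hH hH hAH hne le_rfl hAn
    (fun x hx g hg => mul_mem (mul_mem (inv_mem hg) hx) hg)
  have hLH : L = H := Subgroup.eq_of_le_of_card_ge hL3 (by rw [hL4, hc])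
  subst hLH
  exact ⟨hL6, hL5⟩

/-- **Step II**: invariant subgroups of order `q^3` -/
theorem step2 (h : SZ K P) (hχ₀ : Function.Bijective χ₀) (hζ : Coord (⊥ : Subgroup P) (Z1 P) χ₀ ζ)
    (hF : Nat.card F = Nat.card K + 1) {H : Subgroup P} (hH : Inv K H) (hcard : Nat.card H = (Nat.card K + 1) ^ 3)
    (hnab : ¬ ∀ x ∈ H, ∀ y ∈ H, x * y = y * x) : ∀ x ∈ H, x * x ∈ Z1 P := by
  classical
  haveI := h.fin
  have hK3 := h.three_le
  have hZH : Z1 P ≤ H := by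
    apply h.le_of_ne_bot hH
    rintro rfl
    apply hnab
    intro x hx y hy
    rw [Subgroup.mem_bot] at hx hy
    rw [hx, hy]
  have hHZ : ¬ H ≤ Z1 P := by
    intro hle
    apply hnab
    intro x hx y hy
    exact (Z1_center (hle hx) y).symm
  obtain ⟨A, hA, hZA, hAH, hcA, hDA, hsqA⟩ := exists_chief h h.inv_Z1 hH hH hZH hHZ le_rfl
    (fun x hx g hg => by rw [mul_assoc, ← Z1_center hx g, inv_mul_cancel_left]; exact hx)
    (fun x hx g hg => mul_mem (mul_mem (inv_mem hg) hx) hg)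
  rw [h.card_Z1] at hcA
  have hDZ : ∀ x ∈ H, ∀ a ∈ A, D x a ∈ Z1 P := fun x hx a ha => hDA a ha x hx
  have hcHA : Nat.card H = (Nat.card K + 1) * Nat.card A := by rw [hcard, hcA]; ring
  obtain ⟨hsq, hcm⟩ := three_cases h hA hH hAH (fun x hx g hg => by
    rw [D_conj]; exact mul_mem hx (hZA (hDZ g hg x hx))) hcHA
  have hAZ : ¬ A ≤ Z1 P := by
    intro hle
    have h1 := Subgroup.card_le_of_le hle
    rw [hcA, h.card_Z1] at h1
    nlinarith
  have hHA : ¬ H ≤ A := by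
    intro hle
    have h1 := Subgroup.card_le_of_le hle
    have h3 : 0 < Nat.card A := Nat.card_pos
    rw [hcHA] at h1
    nlinarith
  -- squares centralize A
  have hsqC : ∀ x ∈ H, ∀ a ∈ A, D (x * x) a = 1 := by
    intro x hx a ha
    rw [D_mul_left (Z1_center (hDZ x hx a ha) x).symm rfl]
    exact Z1_sq (hDZ x hx a ha)
  by_cases hab : ∀ x ∈ A, ∀ y ∈ A, x * y = y * x
  swap
  · -- A nonabelian
    have hZA' : Cn A A = Z1 P := by
      rcases h.dich h.inv_Z1 (Cn_inv hA hA) (fun z hz => mem_Cn.2 ⟨hZA hz, fun a ha => D_one_of_comm (Z1_center hz a).symm⟩)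
        (inf_le_left) (by rw [hcA, h.card_Z1]) with h1 | h1
      · exact h1
      · exfalso
        apply hab
        intro x hx y hy
        rw [← h1, mem_Cn] at hx
        exact comm_of_D (hx.2 y hy)
    intro x hx
    rw [← hZA', mem_Cn]
    exact ⟨hsq x hx, hsqC x hx⟩
  obtain ⟨χ, v, hχ, hv⟩ := exists_coord h hA hH hAH hcm hcHA hF
  have hα := alpha_coord h hχ₀ hζ hA hab hsqA hAZ
  rcases h.dich hA (Cn_inv hH hA) (fun a ha => mem_Cn.2 ⟨hAH ha, fun b hb => D_one_of_comm (hab a ha b hb)⟩) inf_le_left hcHA with hC | hC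
  · -- centralizer is A
    obtain ⟨σ, c, hc1, -, hc2⟩ := diag h hχ₀ hζ hH hA hAH hab hsqA hAZ hDZ hχ hv (by
      by_contra hcon
      push Not at hcon
      apply hHA
      rw [← hC]
      intro x hx
      exact mem_Cn.2 ⟨hx, fun a ha => hcon x hx a ha⟩)
    intro x hx
    by_cases hxA : x ∈ A
    · exact hsqA x hxA
    · have h1 := hc2 x hx (x * x) (hsq x hx)
      rw [D_one_of_comm (by rw [mul_assoc]), hζ.one] at h1
      have h2 : c (v x) ≠ 0 := by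
        intro h0
        have h3 := hc1 (h0.trans (map_zero c).symm)
        exact hxA ((hv.ker x hx).1 h3)
      have h3 := (mul_eq_zero.1 h1.symm).resolve_left h2
      rw [map_eq_zero_iff _ σ.injective] at h3
      exact (hα.ker _ (hsq x hx)).1 h3
  · -- A is central
    exfalso
    have hcen : ∀ a ∈ A, ∀ x ∈ H, a * x = x * a := by
      intro a ha x hx
      rw [← hC, mem_Cn] at hx
      exact (comm_of_D (hx.2 a ha)).symm
    have hDZ' : ∀ x ∈ H, ∀ y ∈ H, D x y ∈ Z1 P := by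
      intro x hx y hy
      have hg : D x y ∈ A := hcm y hy x hx
      rw [h.mem_Z1]
      have h1 : D (x * x) y = D x y * D x y := D_mul_left (hcen _ hg x hx) rfl
      rw [← h1]
      exact D_one_of_comm (hcen _ (hsq x hx) y hy)
    have hsq2 : ∀ x ∈ H, (x * x) * (x * x) ∈ Z1 P := fun x hx => hsqA _ (hsq x hx)
    let s : P → F := fun x => ζ ((x * x) * (x * x))
    have hsadd : ∀ x ∈ H, ∀ y ∈ H, s (x * y) = s x + s y := by
      intro x hx y hy
      have hg : D y⁻¹ x ∈ Z1 P := hDZ' _ (inv_mem hy) x hx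
      have h3 : (x * y) * (x * y) = (x * x) * (D y⁻¹ x) * (y * y) := by simp only [D]; group
      have h4 : ((x * y) * (x * y)) * ((x * y) * (x * y)) = ((x * x) * (x * x)) * ((y * y) * (y * y)) := by
        rw [h3]
        have e1 : x * x * D y⁻¹ x * (y * y) = (x * x) * (y * y) * D y⁻¹ x := by
          rw [mul_assoc, ← Z1_center hg, ← mul_assoc]
        have e2 : (y * y) * (x * x) = (x * x) * (y * y) := (hcen _ (hsq x hx) _ (mul_mem hy hy)).symm
        rw [e1]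
        calc (x * x) * (y * y) * D y⁻¹ x * ((x * x) * (y * y) * D y⁻¹ x)
            = (x * x) * (y * y) * (D y⁻¹ x * ((x * x) * (y * y))) * D y⁻¹ x := by group
          _ = (x * x) * (y * y) * (((x * x) * (y * y)) * D y⁻¹ x) * D y⁻¹ x := by rw [Z1_center hg ((x * x) * (y * y))]
          _ = (x * x) * ((y * y) * (x * x)) * (y * y) * (D y⁻¹ x * D y⁻¹ x) := by group
          _ = (x * x) * (x * x) * ((y * y) * (y * y)) := by rw [e2, Z1_sq hg]; group
      change ζ (((x * y) * (x * y)) * ((x * y) * (x * y))) = ζ ((x * x) * (x * x)) + ζ ((y * y) * (y * y))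
      rw [h4, hζ.add _ (hsq2 x hx) _ (hsq2 y hy)]
    have hsA : ∀ x ∈ A, x ∈ H → s x = 0 := by
      intro x hx _
      change ζ ((x * x) * (x * x)) = 0
      rw [Z1_sq (hsqA x hx), hζ.one]
    have hseqv : ∀ l : K, ∀ x ∈ H, s (l • x) = χ₀ l * s x := by
      intro l x hx
      change ζ (((l • x) * (l • x)) * ((l • x) * (l • x))) = _
      rw [← smul_mul', ← smul_mul', hζ.eqv l _ (hsq2 x hx)]
    obtain ⟨x₀, hx₀, hx₀A⟩ := Set.not_subset.mp hHA
    have hne : s x₀ ≠ 0 := by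
      intro h0
      have h1 : x₀ * x₀ ∈ Z1 P := h.mem_Z1.2 (coord_Z1_zero hζ (hsq2 x₀ hx₀) h0)
      obtain ⟨a, ha, haa⟩ := hα.surj (ζ (x₀ * x₀))
      have h2 : a * a = x₀ * x₀ := by
        have h3 : ζ ((a * a) * (x₀ * x₀)⁻¹) = 0 := by
          rw [hζ.add _ (hsqA a ha) _ (inv_mem h1), hζ.inv h1]
          change ζ (a * a) = _ at haa
          rw [haa, add_neg_cancel]
        exact mul_inv_eq_one.1 (coord_Z1_zero hζ (mul_mem (hsqA a ha) (inv_mem h1)) h3)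
      have h4 : (x₀ * a⁻¹) * (x₀ * a⁻¹) = 1 := by
        have h5 : a⁻¹ * x₀ = x₀ * a⁻¹ := hcen _ (inv_mem ha) x₀ hx₀
        calc (x₀ * a⁻¹) * (x₀ * a⁻¹) = x₀ * (a⁻¹ * x₀) * a⁻¹ := by group
          _ = (x₀ * x₀) * (a * a)⁻¹ := by rw [h5]; group
          _ = 1 := by rw [h2, mul_inv_cancel]
      have h6 := mul_mem (hZA (h.mem_Z1.2 h4)) ha
      rw [inv_mul_cancel_right] at h6
      exact hx₀A h6
    exact hnab (comm_vanish hχ₀ hζ hH (coord_of hH hχ hχ₀ hv hsadd hsA hseqv hx₀ hne) hcen hDZ')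

end Cfsg.Agent.H9.Suz
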