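import Mathlib
import Cfsg.Agent.H9_Suz8

/-!
# Suzuki 2-groups: step III
-/

set_option autoImplicit false

universe u w

namespace Cfsg.Agent.H9.Suz

open Subgroup

variable {K : Type w} {P : Type u} [Group K] [Group P] [MulDistribMulAction K P]
variable {F : Type} [Field F] [Fintype F] [CharP F 2] {χ₀ : K →* Fˣ} {ζ : P → F}

/-- subgroup generated by the squares -/
def Sq (H : Subgroup P) : Subgroup P := Subgroup.closure {y | ∃ x ∈ H, y = x * x}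

theorem Sq_inv {H : Subgroup P} (hH : Inv K H) : Inv K (Sq H) := by
  intro k x hx
  refine Subgroup.closure_induction (p := fun y _ => k • y ∈ Sq H) ?_ ?_ ?_ ?_ hx
  · rintro _ ⟨y, hy, rfl⟩
    rw [smul_mul']
    exact Subgroup.subset_closure ⟨k • y, hH k y hy, rfl⟩
  · rw [smul_one]; exact one_mem _
  · intro a b _ _ ha hb
    rw [smul_mul']; exact mul_mem ha hb
  · intro a _ ha
    rw [smul_inv']; exact inv_mem ha

theorem Sq_mem {H : Subgroup P} {x : P} (hx : x ∈ H) : x * x ∈ Sq H := Subgroup.subset_closure ⟨x, hx, rfl⟩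

theorem Sq_le {H L : Subgroup P} (hL : ∀ x ∈ H, x * x ∈ L) : Sq H ≤ L := by
  rw [Sq, Subgroup.closure_le]
  rintro _ ⟨y, hy, rfl⟩
  exact hL y hy

theorem Sq_comm {H : Subgroup P} {x y : P} (hx : x ∈ H) (hy : y ∈ H) : x⁻¹ * y⁻¹ * x * y ∈ Sq H := by
  have h1 : x⁻¹ * y⁻¹ * x * y = (x⁻¹ * x⁻¹) * ((x * y⁻¹) * (x * y⁻¹)) * (y * y) := by group
  rw [h1]
  exact mul_mem (mul_mem (Sq_mem (inv_mem hx)) (Sq_mem (mul_mem hx (inv_mem hy)))) (Sq_mem hy)

/-- **Step III**: invariant subgroups of order `q^4` -/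
theorem step3 (h : SZ K P) (hχ₀ : Function.Bijective χ₀) (hζ : Coord (⊥ : Subgroup P) (Z1 P) χ₀ ζ)
    (hF : Nat.card F = Nat.card K + 1) {H : Subgroup P} (hH : Inv K H) (hcard : Nat.card H = (Nat.card K + 1) ^ 4)
    (hM3 : ∀ M : Subgroup P, Inv K M → M ≤ H → Nat.card M = (Nat.card K + 1) ^ 3 → (∀ x ∈ M, ∀ g ∈ H, g⁻¹ * x * g ∈ M) →
      ∀ x ∈ M, x * x ∈ Z1 P) : ∀ x ∈ H, x * x ∈ Z1 P := by
  classical
  haveI := h.fin
  have hK3 := h.three_le
  by_contra hcon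
  push Not at hcon
  obtain ⟨x₁, hx₁, hx₁Z⟩ := hcon
  have hZS : Z1 P ≤ Sq H := by
    apply h.le_of_ne_bot (Sq_inv hH)
    intro hb
    have h1 := Sq_mem hx₁
    rw [hb, Subgroup.mem_bot] at h1
    rw [h1] at hx₁Z
    exact hx₁Z (one_mem _)
  have hSH : Sq H ≤ H := Sq_le (fun x hx => mul_mem hx hx)
  obtain ⟨A, hA, hZA, hAS, hcA, hDA, hsqA⟩ := exists_chief h h.inv_Z1 (Sq_inv hH) hH hZS
    (fun hle => hx₁Z (hle (Sq_mem hx₁))) hSH
    (fun x hx g hg => by rw [mul_assoc, ← Z1_center hx g, inv_mul_cancel_left]; exact hx)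
    (fun x hx g hg => by
      have h1 : g⁻¹ * x * g = x * (x⁻¹ * g⁻¹ * x * g) := by group
      rw [h1]
      exact mul_mem hx (Sq_comm (hSH hx) hg))
  rw [h.card_Z1] at hcA
  have hAH : A ≤ H := hAS.trans hSH
  have hDZ : ∀ x ∈ H, ∀ a ∈ A, D x a ∈ Z1 P := fun x hx a ha => hDA a ha x hx
  have hAn : ∀ x ∈ A, ∀ g ∈ H, g⁻¹ * x * g ∈ A := fun x hx g hg => by
    rw [D_conj]; exact mul_mem hx (hZA (hDZ g hg x hx))
  have hsqC : ∀ x ∈ H, x * x ∈ Cn H A := by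
    intro x hx
    refine mem_Cn.2 ⟨mul_mem hx hx, fun a ha => ?_⟩
    rw [D_mul_left (Z1_center (hDZ x hx a ha) x).symm rfl]
    exact Z1_sq (hDZ x hx a ha)
  have hAC : A ≤ Cn H A := hAS.trans (Sq_le hsqC)
  have hab : ∀ x ∈ A, ∀ y ∈ A, x * y = y * x := fun x hx y hy => comm_of_D ((mem_Cn.1 (hAC hx)).2 y hy)
  have hAZ : ¬ A ≤ Z1 P := by
    intro hle
    have h1 := Subgroup.card_le_of_le hle
    rw [hcA, h.card_Z1] at h1
    nlinarith
  have hα := alpha_coord h hχ₀ hζ hA hab hsqA hAZ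
  have hlift : ∀ z ∈ Z1 P, ∃ a ∈ A, a * a = z := by
    intro z hz
    obtain ⟨a, ha, haa⟩ := hα.surj (ζ z)
    refine ⟨a, ha, ?_⟩
    have h3 : ζ ((a * a) * z⁻¹) = 0 := by
      rw [hζ.add _ (hsqA a ha) _ (inv_mem hz), hζ.inv hz]
      change ζ (a * a) = _ at haa
      rw [haa, add_neg_cancel]
    exact mul_inv_eq_one.1 (coord_Z1_zero hζ (mul_mem (hsqA a ha) (inv_mem hz)) h3)
  have hCA : Cn H A ≤ A := by
    by_contra hne
    obtain ⟨M, hM, hAM, hMC, hcM, hDM, -⟩ := exists_chief h hA (Cn_inv hH hA) hH hAC hne inf_le_left hAn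
      (fun x hx g hg => by
        rw [mem_Cn] at hx ⊢
        refine ⟨mul_mem (mul_mem (inv_mem hg) hx.1) hg, fun a ha => ?_⟩
        have h1 : g * a * g⁻¹ ∈ A := by
          have := hAn a ha g⁻¹ (inv_mem hg)
          rwa [inv_inv] at this
        have h2 := comm_of_D (hx.2 _ h1)
        apply D_one_of_comm
        calc g⁻¹ * x * g * a = g⁻¹ * (x * (g * a * g⁻¹)) * g := by group
          _ = a * (g⁻¹ * x * g) := by rw [h2]; group)
    have hMH : M ≤ H := hMC.trans inf_le_left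
    have h1 := hM3 M hM hMH (by rw [hcM, hcA]; ring) (fun x hx g hg => by
      have e : g⁻¹ * x * g = x * (x⁻¹ * g⁻¹ * x * g) := by group
      rw [e]
      exact mul_mem hx (hAM (hDM x hx g hg)))
    have h2 : M ≤ A := by
      intro x hx
      obtain ⟨a, ha, haa⟩ := hlift _ (h1 x hx)
      have h5 : x * a = a * x := comm_of_D ((mem_Cn.1 (hMC hx)).2 a ha)
      have h5' : a⁻¹ * x = x * a⁻¹ := by
        rw [inv_mul_eq_iff_eq_mul, ← mul_assoc, ← h5, mul_inv_cancel_right]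
      have h4 : (x * a⁻¹) * (x * a⁻¹) = 1 := by
        calc (x * a⁻¹) * (x * a⁻¹) = x * (a⁻¹ * x) * a⁻¹ := by group
          _ = (x * x) * (a * a)⁻¹ := by rw [h5']; group
          _ = 1 := by rw [haa, mul_inv_cancel]
      have h6 := mul_mem (hZA (h.mem_Z1.2 h4)) ha
      rwa [inv_mul_cancel_right] at h6
    have h3 := Subgroup.card_le_of_le h2
    rw [hcM] at h3
    have h4 : 0 < Nat.card A := Nat.card_pos
    nlinarith
  have hsq : ∀ x ∈ H, x * x ∈ A := fun x hx => hCA (hsqC x hx)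
  have hcm : ∀ x ∈ H, ∀ y ∈ H, x⁻¹ * y⁻¹ * x * y ∈ A := fun x hx y hy => (Sq_le hsq) (Sq_comm hx hy)
  have hDr : ∀ x ∈ H, ∀ a ∈ A, ∀ b ∈ A, D x (a * b) = D x a * D x b := by
    intro x hx a ha b hb
    refine D_mul_right ?_ (hab a ha b hb)
    rw [D_conj]
    calc a * D x a * b = a * (D x a * b) := by group
      _ = a * (b * D x a) := by rw [(Z1_center (hDZ x hx a ha) b)]
      _ = (a * b) * D x a := by group
      _ = b * (a * D x a) := by rw [hab a ha b hb]; group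
  -- the endomorphism attached to an element
  have hTex : ∀ x : P, ∃ T : F →+ F, x ∈ H → ∀ a ∈ A, T (ζ (a * a)) = ζ (D x a) := by
    intro x
    by_cases hx : x ∈ H
    · obtain ⟨T, hT⟩ := descend1 (H := A) (π := fun a => ζ (a * a)) (β := fun a => ζ (D x a)) hα.surj hα.add
        (fun a ha b hb => by
          change ζ (D x (a * b)) = ζ (D x a) + ζ (D x b)
          rw [hDr x hx a ha b hb, hζ.add _ (hDZ x hx a ha) _ (hDZ x hx b hb)])
        (fun a ha h0 => by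
          change ζ (D x a) = 0
          rw [D_one_of_comm (Z1_center ((hα.ker a ha).1 h0) x), hζ.one])
      exact ⟨T, fun _ => hT⟩
    · exact ⟨0, fun hx' => absurd hx' hx⟩
  choose T hT using hTex
  have hText : ∀ x ∈ H, ∀ S : F →+ F, (∀ a ∈ A, ζ (D x a) = S (ζ (a * a))) → T x = S := by
    intro x hx S hS
    ext s
    obtain ⟨a, ha, rfl⟩ := hα.surj s
    change T x (ζ (a * a)) = S (ζ (a * a))
    rw [hT x hx a ha, hS a ha]
  have hTadd : ∀ x ∈ H, ∀ y ∈ H, T (x * y) = T x + T y := by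
    intro x hx y hy
    apply hText _ (mul_mem hx hy)
    intro a ha
    rw [AddMonoidHom.add_apply, hT x hx a ha, hT y hy a ha,
      D_mul_left (Z1_center (hDZ x hx a ha) y).symm (Z1_center (hDZ x hx a ha) _), hζ.add _ (hDZ x hx a ha) _ (hDZ y hy a ha)]
  have hTeqv : ∀ (k : K), ∀ x ∈ H, ∀ s, T (k • x) (χ₀ k * s) = χ₀ k * T x s := by
    intro k x hx s
    obtain ⟨a, ha, rfl⟩ := hα.surj s
    change T (k • x) (χ₀ k * ζ (a * a)) = χ₀ k * T x (ζ (a * a))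
    rw [← hζ.eqv k _ (hsqA a ha), smul_mul', hT _ (hH k x hx) _ (hA k a ha), hT x hx a ha, D_smul, hζ.eqv k _ (hDZ x hx a ha)]
  have hT0 : ∀ x ∈ A, T x = 0 := by
    intro x hx
    apply hText x (hAH hx)
    intro a ha
    rw [D_one_of_comm (hab x hx a ha), hζ.one, AddMonoidHom.zero_apply]
  have hcs : ∀ (σ : F ≃+* F) (k : K), ∀ x ∈ H, SuzF.coef (T (k • x)) σ * σ (χ₀ k) = χ₀ k * SuzF.coef (T x) σ := by
    intro σ k x hx
    have h1 := SuzF.coef_unique (T (k • x)) (fun σ => χ₀ k * SuzF.coef (T x) σ * (σ (χ₀ k : F))⁻¹) (fun s => by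
      have h2 := hTeqv k x hx (((χ₀ k)⁻¹ : Fˣ) * s)
      rw [← mul_assoc, Units.mul_inv, one_mul, SuzF.coef_spec (T x), Finset.mul_sum] at h2
      rw [h2]
      refine Finset.sum_congr rfl (fun σ _ => ?_)
      rw [map_mul, Units.val_inv_eq_inv_val, map_inv₀]
      ring)
    have h3 := congrFun h1 σ
    rw [h3]
    have h4 : σ (χ₀ k : F) ≠ 0 := by
      rw [Ne, map_eq_zero_iff _ σ.injective]
      exact Units.ne_zero _
    field_simp
  have hnotle : ∀ M : Subgroup P, Nat.card M = (Nat.card K + 1) ^ 3 → ¬ M ≤ A := by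
    intro M hc hle
    have h1 := Subgroup.card_le_of_le hle
    have h3 : 0 < Nat.card A := Nat.card_pos
    rw [hc, hcA] at h1
    nlinarith
  have hHA : ¬ H ≤ A := by
    intro hle
    have h1 := Subgroup.card_le_of_le hle
    rw [hcard, hcA, ← pow_two] at h1
    have h2 := Nat.pow_lt_pow_right (show 1 < Nat.card K + 1 by omega) (show 2 < 4 by norm_num)
    omega
  have hnormal : ∀ M : Subgroup P, A ≤ M → M ≤ H → ∀ x ∈ M, ∀ g ∈ H, g⁻¹ * x * g ∈ M := by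
    intro M hAM hMH x hx g hg
    have e : g⁻¹ * x * g = x * (x⁻¹ * g⁻¹ * x * g) := by group
    rw [e]
    exact mul_mem hx (hAM (hcm x (hMH hx) g hg))
  -- generic treatment of a line above A
  have hline : ∀ M : Subgroup P, Inv K M → A ≤ M → M ≤ H → Nat.card M = (Nat.card K + 1) ^ 3 →
      ∃ (σ : F ≃+* F) (c : P → F), σ ≠ RingEquiv.refl F ∧ (∀ x ∈ M, ∀ y ∈ M, c (x * y) = c x + c y) ∧
        (∀ x ∈ M, c x = 0 ↔ x ∈ A) ∧ (∀ s, ∃ x ∈ M, c x = s) ∧ ∀ x ∈ M, ∀ a ∈ A, ζ (D x a) = c x * σ (ζ (a * a)) := by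
    intro M hM hAM hMH hcM
    obtain ⟨χ, v, hχ, hv⟩ := exists_coord h hA hM hAM (fun x hx y hy => hcm x (hMH hx) y (hMH hy)) (by rw [hcM, hcA]; ring) hF
    obtain ⟨σ, c, hc1, hc2, hc3⟩ := diag h hχ₀ hζ hM hA hAM hab hsqA hAZ (fun x hx a ha => hDZ x (hMH hx) a ha) hχ hv (by
      by_contra hcon
      push Not at hcon
      exact hnotle M hcM (fun x hx => hCA (mem_Cn.2 ⟨hMH hx, fun a ha => hcon x hx a ha⟩)))
    refine ⟨σ, fun x => c (v x), hc2, fun x hx y hy => ?_, fun x hx => ?_, fun s => ?_, hc3⟩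
    · change c (v (x * y)) = _
      rw [hv.add x hx y hy, map_add]
    · rw [map_eq_zero_iff _ hc1]
      exact hv.ker x hx
    · obtain ⟨t, ht⟩ := (Finite.injective_iff_surjective.mp hc1) s
      obtain ⟨x, hx, hxt⟩ := hv.surj t
      exact ⟨x, hx, by change c (v x) = s; rw [hxt, ht]⟩
  obtain ⟨M₁, hM₁, hAM₁, hM₁H, hcM₁, -, -⟩ := exists_chief h hA hH hH hAH hHA le_rfl hAn
    (fun x hx g hg => mul_mem (mul_mem (inv_mem hg) hx) hg)
  have hcM₁' : Nat.card M₁ = (Nat.card K + 1) ^ 3 := by rw [hcM₁, hcA]; ring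
  obtain ⟨σ, c₁, hσ, hc1a, hc1k, hc1s, hc1⟩ := hline M₁ hM₁ hAM₁ hM₁H hcM₁'
  have hcoef1 : ∀ x ∈ M₁, SuzF.coef (T x) σ = c₁ x := by
    intro x hx
    have h1 := SuzF.coef_unique (T x) (fun τ => if τ = σ then c₁ x else 0) (fun s => by
      obtain ⟨a, ha, rfl⟩ := hα.surj s
      change T x (ζ (a * a)) = _
      rw [hT x (hM₁H hx) a ha, hc1 x hx a ha]
      simp [ite_mul])
    have h2 := congrFun h1 σ
    rw [h2, if_pos rfl]
  -- the complement
  let φ : H →* Multiplicative F :=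
    { toFun := fun x => Multiplicative.ofAdd (SuzF.coef (T x) σ)
      map_one' := by
        rw [Subgroup.coe_one, hT0 1 (one_mem _), map_zero]; rfl
      map_mul' := fun x y => by
        rw [Subgroup.coe_mul, hTadd x x.2 y y.2, map_add]; rfl }
  let M₂ : Subgroup P := φ.ker.map H.subtype
  have hmemM₂ : ∀ x, x ∈ M₂ ↔ x ∈ H ∧ SuzF.coef (T x) σ = 0 := by
    intro x
    constructor
    · rintro ⟨y, hy, rfl⟩
      exact ⟨y.2, hy⟩
    · rintro ⟨hx, hx0⟩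
      exact ⟨⟨x, hx⟩, hx0, rfl⟩
  have hM₂H : M₂ ≤ H := fun x hx => ((hmemM₂ x).1 hx).1
  have hM₂ : Inv K M₂ := by
    intro k x hx
    rw [hmemM₂] at hx ⊢
    refine ⟨hH k x hx.1, ?_⟩
    have h1 := hcs σ k x hx.1
    rw [hx.2, mul_zero] at h1
    refine (mul_eq_zero.1 h1).resolve_right ?_
    rw [map_eq_zero_iff _ σ.injective]
    exact Units.ne_zero _
  have hAM₂ : A ≤ M₂ := by
    intro x hx
    rw [hmemM₂]
    refine ⟨hAH hx, ?_⟩
    rw [hT0 x hx, map_zero]; rfl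
  have hcM₂ : Nat.card M₂ = (Nat.card K + 1) ^ 3 := by
    have h1 : Nat.card M₂ = Nat.card φ.ker := Subgroup.card_map_of_injective H.subtype_injective
    have h2 := φ.ker.card_mul_index
    have hrange : φ.range = ⊤ := by
      rw [MonoidHom.range_eq_top]
      intro s
      obtain ⟨x, hx, hxs⟩ := hc1s (Multiplicative.toAdd s)
      refine ⟨⟨x, hM₁H hx⟩, ?_⟩
      change Multiplicative.ofAdd (SuzF.coef (T x) σ) = s
      rw [hcoef1 x hx, hxs]; rfl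
    rw [Subgroup.index_ker, hrange, Subgroup.card_top, hcard] at h2
    have h3 : Nat.card (Multiplicative F) = Nat.card K + 1 := hF
    rw [h3] at h2
    rw [h1]
    apply Nat.eq_of_mul_eq_mul_right (show 0 < Nat.card K + 1 by omega)
    rw [h2]; ring
  obtain ⟨τ, c₂, hτ, hc2a, hc2k, hc2s, hc2⟩ := hline M₂ hM₂ hAM₂ hM₂H hcM₂
  have hsq1 := hM3 M₁ hM₁ hM₁H hcM₁' (hnormal M₁ hAM₁ hM₁H)
  have hsq2 := hM3 M₂ hM₂ hM₂H hcM₂ (hnormal M₂ hAM₂ hM₂H)
  have hgA : ∀ x ∈ H, ∀ y ∈ H, D y⁻¹ x ∈ A := fun x hx y hy => hcm x hx y⁻¹ (inv_mem hy)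
  have hαz : ∀ a ∈ A, ∀ z ∈ Z1 P, ζ ((a * z) * (a * z)) = ζ (a * a) := by
    intro a ha z hz
    have h1 := hα.add a ha z (hZA hz)
    change ζ ((a * z) * (a * z)) = ζ (a * a) + ζ (z * z) at h1
    rw [h1, Z1_sq hz, hζ.one, add_zero]
  obtain ⟨G, hG⟩ := descend2 (H := M₁) (H' := M₂) (π := c₁) (π' := c₂) (β := fun x y => ζ (D y⁻¹ x * D y⁻¹ x))
    hc1s hc2s hc1a hc2a
    (fun x hx x' hx' y hy => by
      have hxH := hM₁H hx
      have hx'H := hM₁H hx'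
      have hyH := hM₂H hy
      have e1 : D y⁻¹ (x * x') = (x'⁻¹ * D y⁻¹ x * x') * D y⁻¹ x' := by simp only [D]; group
      have hz := hDZ x' hx'H _ (hgA x hxH y hyH)
      change ζ (D y⁻¹ (x * x') * D y⁻¹ (x * x')) = _
      have h1 := hα.add (D y⁻¹ x * D x' (D y⁻¹ x)) (mul_mem (hgA x hxH y hyH) (hZA hz)) (D y⁻¹ x') (hgA x' hx'H y hyH)
      rw [e1, D_conj]
      rw [h1]
      change ζ ((D y⁻¹ x * D x' (D y⁻¹ x)) * (D y⁻¹ x * D x' (D y⁻¹ x))) + ζ (D y⁻¹ x' * D y⁻¹ x') = _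
      rw [hαz _ (hgA x hxH y hyH) _ hz])
    (fun x hx y hy y' hy' => by
      have hxH := hM₁H hx
      have hyH := hM₂H hy
      have hy'H := hM₂H hy'
      have e1 : D (y * y')⁻¹ x = D y⁻¹ x * ((y⁻¹)⁻¹ * D y'⁻¹ x * y⁻¹) := by simp only [D]; group
      have hz := hDZ y⁻¹ (inv_mem hyH) _ (hgA x hxH y' hy'H)
      change ζ (D (y * y')⁻¹ x * D (y * y')⁻¹ x) = _
      have h1 := hα.add (D y⁻¹ x) (hgA x hxH y hyH) (D y'⁻¹ x * D y⁻¹ (D y'⁻¹ x)) (mul_mem (hgA x hxH y' hy'H) (hZA hz))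
      rw [e1, D_conj]
      rw [h1]
      change ζ (D y⁻¹ x * D y⁻¹ x) + ζ ((D y'⁻¹ x * D y⁻¹ (D y'⁻¹ x)) * (D y'⁻¹ x * D y⁻¹ (D y'⁻¹ x))) = _
      rw [hαz _ (hgA x hxH y' hy'H) _ hz])
    (fun x hx h0 y hy => by
      change ζ (D y⁻¹ x * D y⁻¹ x) = 0
      rw [Z1_sq (hDZ _ (inv_mem (hM₂H hy)) x ((hc1k x hx).1 h0)), hζ.one])
    (fun y hy h0 x hx => by
      change ζ (D y⁻¹ x * D y⁻¹ x) = 0
      have e1 : D y⁻¹ x = (D x y⁻¹)⁻¹ := by simp only [D]; group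
      rw [e1, Z1_sq (inv_mem (hDZ x (hM₁H hx) _ (inv_mem ((hc2k y hy).1 h0)))), hζ.one])
  have hG0 : G = 0 := by
    refine SuzF.t4 σ τ hσ hτ G ?_
    intro s t
    obtain ⟨x, hx, rfl⟩ := hc1s s
    obtain ⟨y, hy, rfl⟩ := hc2s t
    have hxH := hM₁H hx
    have hyH := hM₂H hy
    rw [hG x hx y hy]
    have hg := hgA x hxH y hyH
    have e3 : (x * y) * (x * y) = (x * x) * (D y⁻¹ x) * (y * y) := by simp only [D]; group
    have h1 : D (x * y) (D y⁻¹ x) = 1 := by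
      apply D_one_of_comm
      have hz1 := hsq1 x hx
      have hz2 := hsq2 y hy
      have e4 : D y⁻¹ x = (x * x)⁻¹ * ((x * y) * (x * y)) * (y * y)⁻¹ := by rw [e3]; group
      have c1 : (x * y) * (x * x)⁻¹ = (x * x)⁻¹ * (x * y) := Z1_center (inv_mem hz1) _
      have c2 : (x * y) * (y * y)⁻¹ = (y * y)⁻¹ * (x * y) := Z1_center (inv_mem hz2) _
      rw [e4]
      calc (x * y) * ((x * x)⁻¹ * ((x * y) * (x * y)) * (y * y)⁻¹)
          = ((x * y) * (x * x)⁻¹) * ((x * y) * ((x * y) * (y * y)⁻¹)) := by group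
        _ = ((x * x)⁻¹ * (x * y)) * ((x * y) * ((y * y)⁻¹ * (x * y))) := by rw [c1, c2]
        _ = (x * x)⁻¹ * ((x * y) * (x * y)) * (y * y)⁻¹ * (x * y) := by group
    rw [D_mul_left (Z1_center (hDZ x hxH _ hg) y).symm (Z1_center (hDZ x hxH _ hg) _)] at h1
    have h2 : ζ (D x (D y⁻¹ x)) + ζ (D y (D y⁻¹ x)) = 0 := by
      rw [← hζ.add _ (hDZ x hxH _ hg) _ (hDZ y hyH _ hg), h1, hζ.one]
    rw [hc1 x hx _ hg, hc2 y hy _ hg] at h2
    exact CharTwo.add_eq_zero.1 h2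
  -- conclusion
  obtain ⟨x, hx, hxs⟩ := hc1s (SuzF.coef (T x₁) σ)
  have hxH := hM₁H hx
  have hy : x⁻¹ * x₁ ∈ M₂ := by
    rw [hmemM₂]
    refine ⟨mul_mem (inv_mem hxH) hx₁, ?_⟩
    have h1 := hTadd x hxH _ (mul_mem (inv_mem hxH) hx₁)
    rw [mul_inv_cancel_left] at h1
    have h2 : SuzF.coef (T x₁) σ = SuzF.coef (T x) σ + SuzF.coef (T (x⁻¹ * x₁)) σ := by
      rw [h1, map_add]; rfl
    rw [hcoef1 x hx, hxs] at h2
    exact left_eq_add.mp h2
  have hxy : x₁ = x * (x⁻¹ * x₁) := by group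
  generalize x⁻¹ * x₁ = y at hy hxy
  have hyH := hM₂H hy
  have hg := hgA x hxH y hyH
  have h1 := hG x hx y hy
  rw [hG0] at h1
  have h2 : D y⁻¹ x ∈ Z1 P := (hα.ker _ hg).1 h1.symm
  apply hx₁Z
  have e3 : (x * y) * (x * y) = (x * x) * (D y⁻¹ x) * (y * y) := by simp only [D]; group
  rw [hxy, e3]
  exact mul_mem (mul_mem (hsq1 x hx) h2) (hsq2 y hy)

end Cfsg.Agent.H9.Suz
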