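import Mathlib
import Cfsg.Agent.H9_Suz9

/-!
# Suzuki 2-groups: Higman's theorem
-/

set_option autoImplicit false

universe u w

namespace Cfsg.Agent.H9.Suz

open Subgroup

variable {K : Type w} {P : Type u} [Group K] [Group P] [MulDistribMulAction K P]

theorem card_inv (h : SZ K P) {H : Subgroup P} (hH : Inv K H) : ∃ j : ℕ, Nat.card H = (Nat.card K + 1) ^ j := by
  haveI := h.fin
  suffices hs : ∀ n : ℕ, ∀ H : Subgroup P, Inv K H → Nat.card H = n → ∃ j : ℕ, Nat.card H = (Nat.card K + 1) ^ j from hs _ H hH rfl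
  intro n
  induction n using Nat.strong_induction_on with
  | _ n ih =>
    intro H hH hn
    by_cases hb : H = ⊥
    · exact ⟨0, by rw [hb, Subgroup.card_bot, pow_zero]⟩
    · obtain ⟨M, hM, hMH, hc, -, -⟩ := exists_max h hH hb
      have h3 : 0 < Nat.card M := Nat.card_pos
      have hK := h.three_le
      obtain ⟨j, hj⟩ := ih (Nat.card M) (by rw [← hn, hc]; nlinarith) M hM rfl
      exact ⟨j + 1, by rw [hc, hj, pow_succ, mul_comm]⟩

/-- Chevalley–Warning bound -/
theorem card_le_cube (h : SZ K P) {M : Subgroup P} (hM : Inv K M) (hZM : Z1 P ≤ M) (hsq : ∀ x ∈ M, x * x ∈ Z1 P) :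
    Nat.card M ≤ (Nat.card K + 1) ^ 3 := by
  classical
  haveI := h.fin
  obtain ⟨F, i1, i2, i3, χ₀, ζ, hF, hχ₀, hζ⟩ := exists_base h
  have hcm : ∀ x ∈ M, ∀ y ∈ M, x⁻¹ * y⁻¹ * x * y ∈ Z1 P := by
    intro x hx y hy
    have h1 : x⁻¹ * y⁻¹ * x * y = (x⁻¹ * x⁻¹) * ((x * y⁻¹) * (x * y⁻¹)) * (y * y) := by group
    rw [h1]
    exact mul_mem (mul_mem (hsq _ (inv_mem hx)) (hsq _ (mul_mem hx (inv_mem hy)))) (hsq _ hy)
  have hDZ : ∀ x ∈ M, ∀ y ∈ M, D x y ∈ Z1 P := fun x hx y hy => hcm y hy x hx
  obtain ⟨V, j1, j2, π, f, hadd, hker, hsurj, heq, hcard, hfree⟩ := exists_quot h h.inv_Z1 hM hZM hcm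
  have hDr : ∀ x ∈ M, ∀ a ∈ M, ∀ b ∈ M, D x (a * b) = D x a * D x b := by
    intro x hx a ha b hb
    have h1 : D x (a * b) = b⁻¹ * D x a * x⁻¹ * b * x := by simp only [D]; group
    have h2 : b⁻¹ * D x a = D x a * b⁻¹ := Z1_center (hDZ x hx a ha) b⁻¹
    rw [h1, h2]
    simp only [D]; group
  obtain ⟨B, hB⟩ := descend2 (H := M) (H' := M) (π := π) (π' := π) (β := fun x y => ζ (D x y)) hsurj hsurj hadd hadd
    (fun x hx y hy z hz => by
      change ζ (D (x * y) z) = ζ (D x z) + ζ (D y z)
      rw [D_mul_left (Z1_center (hDZ x hx z hz) y).symm (Z1_center (hDZ x hx z hz) _), hζ.add _ (hDZ x hx z hz) _ (hDZ y hy z hz)])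
    (fun x hx y hy z hz => by
      change ζ (D x (y * z)) = ζ (D x y) + ζ (D x z)
      rw [hDr x hx y hy z hz, hζ.add _ (hDZ x hx y hy) _ (hDZ x hx z hz)])
    (fun x hx h0 z hz => by
      change ζ (D x z) = 0
      rw [D_one_of_comm (Z1_center ((hker x hx).1 h0) z).symm, hζ.one])
    (fun y hy h0 x hx => by
      change ζ (D x y) = 0
      rw [D_one_of_comm (Z1_center ((hker y hy).1 h0) x), hζ.one])
  have hqd : ∀ x ∈ M, ∀ y ∈ M, π x = π y → x * x = y * y := by
    intro x hx y hy he
    have h1 : y⁻¹ * x ∈ Z1 P := by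
      rw [← hker _ (mul_mem (inv_mem hy) hx)]
      have h2 := hadd y hy (y⁻¹ * x) (mul_mem (inv_mem hy) hx)
      rw [mul_inv_cancel_left, he] at h2
      exact left_eq_add.mp h2
    have h2 : x = y * (y⁻¹ * x) := by group
    generalize y⁻¹ * x = z at h1 h2
    rw [h2]
    calc y * z * (y * z) = y * (z * y) * z := by group
      _ = y * (y * z) * z := by rw [Z1_center h1 y]
      _ = (y * y) * (z * z) := by group
      _ = y * y := by rw [Z1_sq h1, mul_one]
  choose r hrM hr using hsurj
  have hQ : ∀ x ∈ M, ζ (r (π x) * r (π x)) = ζ (x * x) := by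
    intro x hx
    rw [hqd _ (hrM _) x hx (hr _)]
  have hV2 : ∀ v : V, v + v = 0 := by
    intro v
    rw [← hr v, ← hadd _ (hrM v) _ (hrM v), hker _ (mul_mem (hrM v) (hrM v))]
    exact hsq _ (hrM v)
  have hle := SuzCW.cw_bound (V := V) (W := F) hV2 (fun w => CharTwo.add_self_eq_zero w) (fun v => ζ (r v * r v)) B
    (fun v w => by
      obtain ⟨x, hx, rfl⟩ : ∃ x ∈ M, π x = v := ⟨r v, hrM v, hr v⟩
      obtain ⟨y, hy, rfl⟩ : ∃ x ∈ M, π x = w := ⟨r w, hrM w, hr w⟩
      change ζ (r (π x + π y) * r (π x + π y)) = ζ (r (π x) * r (π x)) + ζ (r (π y) * r (π y)) + B (π x) (π y)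
      rw [← hadd x hx y hy, hQ _ (mul_mem hx hy), hQ x hx, hQ y hy, hB x hx y hy]
      have e1 : (x * y) * (x * y) = (x * x) * (y * y) * (D x y) := by
        have hz := hDZ x hx y hy
        have e2 : y * x = x * y * D x y := by simp only [D]; group
        calc (x * y) * (x * y) = x * (y * x) * y := by group
          _ = x * x * y * (D x y * y) := by rw [e2]; group
          _ = x * x * y * (y * D x y) := by rw [Z1_center hz y]
          _ = (x * x) * (y * y) * D x y := by group
      rw [e1, hζ.add _ (mul_mem (hsq x hx) (hsq y hy)) _ (hDZ x hx y hy), hζ.add _ (hsq x hx) _ (hsq y hy)])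
    (fun v h0 => by
      obtain ⟨x, hx, rfl⟩ : ∃ x ∈ M, π x = v := ⟨r v, hrM v, hr v⟩
      change ζ (r (π x) * r (π x)) = 0 at h0
      rw [hQ x hx] at h0
      rw [hker x hx, h.mem_Z1]
      exact coord_Z1_zero hζ (hsq x hx) h0)
  rw [hcard, h.card_Z1]
  rw [hF] at hle
  calc Nat.card V * (Nat.card K + 1) ≤ (Nat.card K + 1) ^ 2 * (Nat.card K + 1) := Nat.mul_le_mul_right _ hle
    _ = (Nat.card K + 1) ^ 3 := by ring

/-- **Higman**: squares are central involutions -/
theorem claimE (h : SZ K P) : ∀ n : ℕ, ∀ H : Subgroup P, Inv K H → Nat.card H = n →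
    (∀ x ∈ H, ∀ y ∈ H, x * y = y * x) ∨ (∀ x ∈ H, x * x ∈ Z1 P) := by
  classical
  haveI := h.fin
  haveI := h.finK
  obtain ⟨F, i1, i2, i3, χ₀, ζ, hF, hχ₀, hζ⟩ := exists_base h
  have hK3 := h.three_le
  have hq1 : 1 < Nat.card K + 1 := by omega
  intro n
  induction n using Nat.strong_induction_on with
  | _ n ih =>
    intro H hH hn
    by_cases hb : H = ⊥
    · left
      intro x hx y hy
      rw [hb, Subgroup.mem_bot] at hx hy
      rw [hx, hy]
    obtain ⟨M, hM, hMH, hc, hsq, hcm⟩ := exists_max h hH hb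
    have hMpos : 0 < Nat.card M := Nat.card_pos
    have hlt : ∀ L : Subgroup P, Nat.card H = (Nat.card K + 1) * Nat.card L → Nat.card L < n := by
      intro L hL
      have : 0 < Nat.card L := Nat.card_pos
      rw [← hn, hL]
      nlinarith
    -- small commutative subgroups
    have hsmall : ∀ L : Subgroup P, Inv K L → (∀ x ∈ L, ∀ y ∈ L, x * y = y * x) → (∀ m ∈ L, m ^ 4 = 1) →
        Nat.card L ≤ (Nat.card K + 1) ^ 2 := by
      intro L hL hab h4
      have hsqL : ∀ x ∈ L, x * x ∈ Z1 P := by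
        intro x hx
        rw [h.mem_Z1, ← h4 x hx]
        simp only [pow_succ, pow_zero, one_mul, mul_assoc]
      let φ : L →* Z1 P :=
        { toFun := fun x => ⟨x * x, hsqL x x.2⟩
          map_one' := Subtype.ext (mul_one (1 : P))
          map_mul' := fun x y => Subtype.ext (by
            change (x : P) * y * (x * y) = (x * x) * (y * y)
            calc (x : P) * y * (x * y) = x * (y * x) * y := by group
              _ = x * (x * y) * y := by rw [hab y y.2 x x.2]
              _ = (x * x) * (y * y) := by group) }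
      have h1 := φ.ker.card_mul_index
      rw [Subgroup.index_ker] at h1
      have h2 : Nat.card φ.ker ≤ Nat.card (Z1 P) := by
        apply Nat.card_le_card_of_injective (fun x : φ.ker => (⟨((x : L) : P), by
          rw [h.mem_Z1]
          exact congrArg Subtype.val x.2⟩ : Z1 P))
        intro a b hab'
        exact Subtype.ext (Subtype.ext (congrArg (fun t : Z1 P => (t : P)) hab'))
      have h3 : Nat.card φ.range ≤ Nat.card (Z1 P) := Subgroup.card_le_card_group _
      rw [← h1, pow_two, ← h.card_Z1]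
      exact Nat.mul_le_mul h2 h3
    -- reduction to small exponents
    have hfin : ∀ j : ℕ, Nat.card M = (Nat.card K + 1) ^ j → j ≤ 2 →
        (∀ x ∈ H, ∀ y ∈ H, x * y = y * x) ∨ (∀ x ∈ H, x * x ∈ Z1 P) := by
      intro j hj hj2
      interval_cases j
      · right
        rw [pow_zero] at hj
        have hMb : M = ⊥ := Subgroup.card_eq_one.mp hj
        intro x hx
        have := hsq x hx
        rw [hMb, Subgroup.mem_bot] at this
        rw [this]; exact one_mem _
      · right
        rw [pow_one] at hj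
        have hMZ : Z1 P ≤ M := by
          apply h.le_of_ne_bot hM
          rintro rfl
          rw [Subgroup.card_bot] at hj
          omega
        have : M = Z1 P := (Subgroup.eq_of_le_of_card_ge hMZ (by rw [hj, h.card_Z1])).symm
        rw [this] at hsq
        exact hsq
      · by_cases hab : ∀ x ∈ H, ∀ y ∈ H, x * y = y * x
        · exact Or.inl hab
        · exact Or.inr (step2 h hχ₀ hζ hF hH (by rw [hc, hj]; ring) hab)
    obtain ⟨j, hj⟩ := card_inv h hM
    rcases ih (Nat.card M) (hlt M hc) M hM rfl with hMab | hMsq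
    · by_cases h8 : ∃ m ∈ M, m ^ 4 ≠ 1
      · exact Or.inl (step1 h hχ₀ hζ hF hM hH hMH hMab hc hsq hcm h8)
      · push Not at h8
        have h1 := hsmall M hM hMab h8
        rw [hj] at h1
        exact hfin j hj ((Nat.pow_le_pow_iff_right hq1).1 h1)
    · by_cases hMb : M = ⊥
      · exact hfin 0 (by rw [hMb, Subgroup.card_bot, pow_zero]) (by norm_num)
      have hZM : Z1 P ≤ M := h.le_of_ne_bot hM hMb
      have h1 := card_le_cube h hM hZM hMsq
      rw [hj] at h1
      have h2 := (Nat.pow_le_pow_iff_right hq1).1 h1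
      by_cases hj2 : j ≤ 2
      · exact hfin j hj hj2
      have hj3 : j = 3 := by omega
      subst hj3
      by_cases hab : ∀ x ∈ H, ∀ y ∈ H, x * y = y * x
      · exact Or.inl hab
      right
      refine step3 h hχ₀ hζ hF hH (by rw [hc, hj]; ring) ?_
      intro L hL hLH hLc hLn
      have hHL : Nat.card H = (Nat.card K + 1) * Nat.card L := by rw [hc, hj, hLc]
      rcases ih (Nat.card L) (hlt L hHL) L hL rfl with hLab | hLsq
      · exfalso
        obtain ⟨hsqL, hcmL⟩ := three_cases h hL hH hLH hLn hHL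
        have h8 : ∃ m ∈ L, m ^ 4 ≠ 1 := by
          by_contra hcon
          push Not at hcon
          have h3 := hsmall L hL hLab hcon
          rw [hLc] at h3
          have := (Nat.pow_le_pow_iff_right hq1).1 h3
          omega
        exact hab (step1 h hχ₀ hζ hF hL hH hLH hLab hHL hsqL hcmL h8)
      · exact hLsq

/-- summary of Higman's theorem -/
theorem higman (h : SZ K P) (hnab : ∃ x y : P, x * y ≠ y * x) :
    (∀ x : P, x * x ∈ Z1 P) ∧ (∀ x y : P, x⁻¹ * y⁻¹ * x * y ∈ Z1 P) ∧ Subgroup.center P = Z1 P ∧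
      (Nat.card P = (Nat.card K + 1) ^ 2 ∨ Nat.card P = (Nat.card K + 1) ^ 3) := by
  classical
  haveI := h.fin
  have hK3 := h.three_le
  have hq1 : 1 < Nat.card K + 1 := by omega
  have hsq : ∀ x : P, x * x ∈ Z1 P := by
    rcases claimE h _ (⊤ : Subgroup P) (fun _ _ _ => Subgroup.mem_top _) rfl with h1 | h1
    · exfalso
      obtain ⟨x, y, hxy⟩ := hnab
      exact hxy (h1 x (Subgroup.mem_top _) y (Subgroup.mem_top _))
    · exact fun x => h1 x (Subgroup.mem_top _)
  have hcm : ∀ x y : P, x⁻¹ * y⁻¹ * x * y ∈ Z1 P := by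
    intro x y
    have h1 : x⁻¹ * y⁻¹ * x * y = (x⁻¹ * x⁻¹) * ((x * y⁻¹) * (x * y⁻¹)) * (y * y) := by group
    rw [h1]
    exact mul_mem (mul_mem (hsq _) (hsq _)) (hsq _)
  refine ⟨hsq, hcm, ?_, ?_⟩
  · apply le_antisymm _ (fun x hx => hx.1)
    intro x hx
    by_contra hxZ
    obtain ⟨a, b, hab⟩ := hnab
    apply hab
    -- every element is central up to an involution
    have key : ∀ y : P, y ∈ Subgroup.center P := by
      intro y
      by_cases hy : y * y = 1
      · exact h.center hy
      · obtain ⟨k, hk⟩ := h.trans (x * x) (y * y) (fun e => hxZ (h.mem_Z1.2 e)) (Z1_sq (hsq x)) hy (Z1_sq (hsq y))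
        have hkx : k • x ∈ Subgroup.center P := by
          rw [Subgroup.mem_center_iff] at hx ⊢
          intro g
          have h3 := hx (k⁻¹ • g)
          have h4 := congrArg (fun t => k • t) h3
          simp only [smul_mul', smul_inv_smul] at h4
          exact h4
        have hc : (k • x) * y = y * (k • x) := (Subgroup.mem_center_iff.mp hkx y).symm
        have h5 : (y * (k • x)⁻¹) * (y * (k • x)⁻¹) = 1 := by
          have h6 : (k • x)⁻¹ * y = y * (k • x)⁻¹ := by
            rw [inv_mul_eq_iff_eq_mul, ← mul_assoc, hc, mul_inv_cancel_right]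
          rw [smul_mul'] at hk
          calc (y * (k • x)⁻¹) * (y * (k • x)⁻¹) = y * ((k • x)⁻¹ * y) * (k • x)⁻¹ := by group
            _ = (y * y) * ((k • x) * (k • x))⁻¹ := by rw [h6]; group
            _ = 1 := by rw [hk, mul_inv_cancel]
        have h7 := mul_mem (h.center h5) hkx
        rwa [inv_mul_cancel_right] at h7
    exact (Subgroup.mem_center_iff.mp (key a) b).symm
  · have hle := card_le_cube h (M := ⊤) (fun _ _ _ => Subgroup.mem_top _) le_top (fun x _ => hsq x)
    rw [Subgroup.card_top] at hle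
    obtain ⟨j, hj⟩ := card_inv h (H := ⊤) (fun _ _ _ => Subgroup.mem_top _)
    rw [Subgroup.card_top] at hj
    rw [hj] at hle
    have h2 := (Nat.pow_le_pow_iff_right hq1).1 hle
    have h3 : 2 ≤ j := by
      by_contra hlt
      obtain ⟨a, b, hab⟩ := hnab
      have h4 : Nat.card P ≤ Nat.card (Z1 P) := by
        rw [hj, h.card_Z1]
        have : j ≤ 1 := by omega
        calc (Nat.card K + 1) ^ j ≤ (Nat.card K + 1) ^ 1 := Nat.pow_le_pow_right (by omega) this
          _ = _ := pow_one _
      have h5 : Z1 P = ⊤ := Subgroup.eq_top_of_card_eq _ (le_antisymm (Subgroup.card_le_card_group _) h4)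
      apply hab
      have : a ∈ Z1 P := by rw [h5]; trivial
      exact (Z1_center this b).symm
    rw [hj]
    interval_cases j
    · exact Or.inl rfl
    · exact Or.inr rfl

end Cfsg.Agent.H9.Suz
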