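import Mathlib
import Cfsg.Prelude.Def_LieRecognition
import Cfsg.Agent.H9_Suz10

/-!
# Suzuki 2-groups: the predicate
-/

set_option autoImplicit false

namespace Cfsg.Agent.H9.Suz

open Subgroup

theorem of_suzuki {P : Type*} [Group P] (hP : Cfsg.IsSuzukiTwoGroup P) :
    ∃ K : Subgroup (MulAut P), SZ K P ∧ IsCyclic K := by
  obtain ⟨hfin, hpg, -, htwo, K, hK, hreg⟩ := hP
  refine ⟨K, ⟨hfin, hpg, ?_, htwo, ?_, ?_⟩, hK⟩
  · intro a b
    exact IsCyclic.commutative.is_comm.comm a b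
  · intro x y hx hx2 hy hy2
    obtain ⟨k, hk, -⟩ := hreg x y hx hx2 hy hy2
    exact ⟨k, hk⟩
  · intro k x hx hx2 hkx
    obtain ⟨l, hl, hu⟩ := hreg x x hx hx2 hx hx2
    rw [hu k hkx, ← hu 1 rfl]

end Cfsg.Agent.H9.Suz
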