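import Mathlib
import Cfsg.Agent.H17_LLemma
import Cfsg.Agent.H24_Zipper

/-! A subgroup with full normal closure whose proper self-generated overgroups do not generate the group
lies in a unique maximal subgroup (S3947). -/

set_option autoImplicit false
open Cfsg

namespace Cfsg.Agent.HL.Bart
open Cfsg.Agent.H17.Base Cfsg.Agent.H17.LLemma

variable {G : Type*} [Group G]

theorem smul_eq_cj (g : G) (A : Subgroup G) : (by exact (open Pointwise in MulAut.conj g • A)) = cj g A := by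
  ext x
  rw [Cfsg.Agent.H1.Basic.mem_conj, mem_cj]

/-- relative subnormality inside `K` -/
def SN (A K : Subgroup G) : Prop := A ≤ K ∧ (A.subgroupOf K).IsSubnormal

theorem SN.mono {A K L : Subgroup G} (h : SN A L) (hAK : A ≤ K) (hKL : K ≤ L) : SN A K :=
  ⟨hAK, Cfsg.Agent.H1.Subn.subnormal_subgroupOf_mono h.2 hKL⟩

theorem SN.trans {A K L : Subgroup G} (h1 : SN A K) (h2 : SN K L) : SN A L :=
  ⟨h1.1.trans h2.1, Cfsg.Agent.H1.Subn.subnormal_subgroupOf_trans h1.1 h2.1 h1.2 h2.2⟩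

theorem SN.refl (A : Subgroup G) : SN A A :=
  ⟨le_rfl, by rw [Subgroup.subgroupOf_self]; exact Subgroup.IsSubnormal.top⟩

theorem SN.cj {A K : Subgroup G} (h : SN A K) (g : G) : SN (cj g A) (cj g K) := by
  refine ⟨cj_mono h.1, ?_⟩
  have := Cfsg.Agent.H1.Subn.subnormal_subgroupOf_conj h.2 g
  rwa [smul_eq_cj, smul_eq_cj] at this

theorem SN.cj_mem {A K : Subgroup G} (h : SN A K) {g : G} (hg : g ∈ K) : SN (H17.Base.cj g A) K := by
  have := h.cj g
  rwa [cj_eq_of_mem hg] at this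

theorem SN.sup [Finite G] {A B K : Subgroup G} (hA : SN A K) (hB : SN B K) : SN (A ⊔ B) K := by
  refine ⟨sup_le hA.1 hB.1, ?_⟩
  rw [Subgroup.subgroupOf_sup hA.1 hB.1]
  exact Cfsg.Agent.H1.Subn.sup_subnormal hA.2 hB.2

theorem SN.iSup [Finite G] {ι : Type*} (f : ι → Subgroup G) {K : Subgroup G} (h : ∀ i, SN (f i) K) :
    SN (⨆ i, f i) K := by
  have hle : (⨆ i, f i) ≤ K := iSup_le fun i => (h i).1
  refine ⟨hle, ?_⟩
  have h1 : (⨆ i, f i).subgroupOf K = ⨆ i, (f i).subgroupOf K := by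
    apply Subgroup.map_injective K.subtype_injective
    rw [Subgroup.map_subgroupOf_eq_of_le hle, Subgroup.map_iSup]
    exact iSup_congr fun i => (Subgroup.map_subgroupOf_eq_of_le (h i).1).symm
  rw [h1, _root_.iSup]
  apply Cfsg.Agent.H1.Subn.sSup_subnormal
  rintro _ ⟨i, rfl⟩
  exact (h i).2

theorem SN.of_le_Nz {A K : Subgroup G} (hAK : A ≤ K) (h : K ≤ Nz A) : SN A K :=
  ⟨hAK, ((normal_subgroupOf_iff hAK).2 h).isSubnormal⟩

theorem SN.inf {D K X : Subgroup G} (h : SN D K) (hX : X ≤ K) : SN (D ⊓ X) X := by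
  refine ⟨inf_le_right, ?_⟩
  have := Cfsg.Agent.H1.Subn.subnormal_subgroupOf_mono h.2 hX
  rwa [Subgroup.inf_subgroupOf_right]

theorem SN.exists_cj {A K : Subgroup G} (h : SN A K) :
    K ≤ Nz A ∨ ∃ g ∈ K, H17.Base.cj g A ≤ Nz A ∧ H17.Base.cj g A ≠ A := by
  rcases Cfsg.Agent.H1.Subn.exists_conj_le_normalizer h.2 with h1 | ⟨g, hg1, hg2⟩
  · left; exact (normal_subgroupOf_iff h.1).1 h1
  · right
    refine ⟨g, g.2, ?_, ?_⟩
    · intro x hx
      rw [mem_cj] at hx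
      have hxK : x ∈ K := by
        have h2 := K.mul_mem (K.mul_mem g.2 (h.1 hx)) (K.inv_mem g.2)
        have e : (g : G) * ((g : G)⁻¹ * x * g) * (g : G)⁻¹ = x := by group
        rwa [e] at h2
      have h2 := hg1 (show (⟨x, hxK⟩ : K) ∈ _ from by
        rw [Cfsg.Agent.H1.Basic.mem_conj, Subgroup.mem_subgroupOf]; exact hx)
      rw [← Subgroup.subgroupOf_normalizer_eq h.1, Subgroup.mem_subgroupOf] at h2
      exact h2
    · intro h2
      apply hg2
      ext x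
      rw [Cfsg.Agent.H1.Basic.mem_conj, Subgroup.mem_subgroupOf, Subgroup.mem_subgroupOf]
      have : (x : G) ∈ H17.Base.cj (g : G) A ↔ (x : G) ∈ A := by rw [h2]
      rw [← this, mem_cj]
      rfl

/-- a proper subnormal subgroup lies in a proper normal subgroup -/
theorem SN.exists_normal {X H : Subgroup G} (h : SN X H) (hne : X ≠ H) :
    ∃ N : Subgroup G, X ≤ N ∧ N ≤ H ∧ H ≤ Nz N ∧ N ≠ H := by
  rcases h.2.lt_normal with h1 | ⟨K, hK, h1, h2⟩
  · exact absurd (le_antisymm h.1 (Subgroup.subgroupOf_eq_top.1 h1)) hne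
  · refine ⟨K.map H.subtype, ?_, Subgroup.map_subtype_le K, ?_, ?_⟩
    · intro x hx
      exact ⟨⟨x, h.1 hx⟩, h1 (by rw [Subgroup.mem_subgroupOf]; exact hx), rfl⟩
    · rw [← normal_subgroupOf_iff (Subgroup.map_subtype_le K)]
      have : (K.map H.subtype).subgroupOf H = K := by
        rw [Subgroup.subgroupOf]
        exact Subgroup.comap_map_eq_self_of_injective H.subtype_injective K
      rw [this]; exact hK
    · intro h3
      apply h2.ne
      rw [eq_top_iff]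
      intro x _
      have hx : (x : G) ∈ K.map H.subtype := by rw [h3]; exact x.2
      obtain ⟨y, hy, hyx⟩ := hx
      have : y = x := Subtype.ext hyx
      rwa [← this]

/-- `H` is generated by its conjugates of `A` -/
def Gen (A H : Subgroup G) : Prop := A ≤ H ∧ ∀ N : Subgroup G, A ≤ N → N ≤ H → H ≤ Nz N → N = H

theorem Gen.eq_of_SN {A X H : Subgroup G} (h : Gen A H) (hX : SN X H) (hAX : A ≤ X) : X = H := by
  by_contra hne
  obtain ⟨N, h1, h2, h3, h4⟩ := hX.exists_normal hne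
  exact h4 (h.2 N (hAX.trans h1) h2 h3)

theorem Gen.trans {A D X : Subgroup G} (h1 : Gen A D) (h2 : Gen D X) : Gen A X := by
  refine ⟨h1.1.trans h2.1, fun N hAN hNX hN => ?_⟩
  have h3 : SN (N ⊓ D) D := by
    refine SN.of_le_Nz inf_le_right ?_
    exact (le_inf (h2.1.trans hN) Subgroup.le_normalizer).trans (Nz_inf_le N D)
  have h4 := h1.eq_of_SN h3 (le_inf hAN h1.1)
  exact h2.2 N (by rw [← h4]; exact inf_le_left) hNX hN

theorem Gen.cj {A H : Subgroup G} (h : Gen A H) (g : G) : Gen (cj g A) (cj g H) := by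
  refine ⟨cj_mono h.1, fun N hAN hNH hN => ?_⟩
  have h1 := h.2 (H17.Base.cj g⁻¹ N) (cj_le_iff.1 hAN)
    (by rw [cj_le_iff, inv_inv]; exact hNH)
    (by rw [← cj_Nz, ← cj_le_iff]; exact hN)
  rw [← h1, cj_cj_inv]

theorem exists_snc [Finite G] {A K : Subgroup G} (hAK : A ≤ K) : ∃ D, SN D K ∧ Gen A D := by
  classical
  obtain ⟨D, ⟨hD1, hD2⟩, hmin⟩ : ∃ D : Subgroup G, (A ≤ D ∧ SN D K) ∧
      ∀ E : Subgroup G, (A ≤ E ∧ SN E K) → Nat.card D ≤ Nat.card E := by
    have hne : {D : Subgroup G | A ≤ D ∧ SN D K}.Nonempty := ⟨K, hAK, SN.refl K⟩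
    obtain ⟨D, hD, hmin⟩ := Set.exists_min_image _ (fun D : Subgroup G => Nat.card D) (Set.toFinite _) hne
    exact ⟨D, hD, fun E hE => hmin E hE⟩
  refine ⟨D, hD2, hD1, fun N hAN hND hN => ?_⟩
  have h1 : SN N K := (SN.of_le_Nz hND hN).trans hD2
  exact Subgroup.eq_of_le_of_card_ge hND (hmin N ⟨hAN, h1⟩)

/-- the join of the proper subgroups generated by their conjugates of `A` -/
def Y (A : Subgroup G) : Subgroup G := sSup {H : Subgroup G | H ≠ ⊤ ∧ Gen A H}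

theorem le_Y {A H : Subgroup G} (h1 : H ≠ ⊤) (h2 : Gen A H) : H ≤ Y A := le_sSup ⟨h1, h2⟩

theorem Y_le {A K : Subgroup G} (h : ∀ H : Subgroup G, H ≠ ⊤ → Gen A H → H ≤ K) : Y A ≤ K :=
  sSup_le fun _ hH => h _ hH.1 hH.2

theorem Gen.refl (A : Subgroup G) : Gen A A := ⟨le_rfl, fun _ h1 h2 _ => le_antisymm h2 h1⟩

theorem cj_ne_top {H : Subgroup G} (h : H ≠ ⊤) (g : G) : cj g H ≠ ⊤ := by
  intro h1
  apply h
  rw [← cj_inv_cj g H, h1]
  exact cj_eq_of_normal _ inferInstance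

theorem cj_Y_le (g : G) (A : Subgroup G) : cj g (Y A) ≤ Y (cj g A) := by
  rw [cj_le_iff]
  refine Y_le fun H h1 h2 => ?_
  rw [le_cj_iff, inv_inv]
  exact le_Y (cj_ne_top h1 g) (h2.cj g)

theorem cj_Y (g : G) (A : Subgroup G) : cj g (Y A) = Y (cj g A) := by
  apply le_antisymm (cj_Y_le g A)
  have := cj_Y_le g⁻¹ (cj g A)
  rw [cj_inv_cj, cj_le_iff, inv_inv] at this
  exact this

/-- full normal closure -/
def Full (A : Subgroup G) : Prop := ∀ N : Subgroup G, A ≤ N → ⊤ ≤ Nz N → N = ⊤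

theorem Full.mono {A B : Subgroup G} (h : Full A) (hAB : A ≤ B) : Full B :=
  fun N h1 h2 => h N (hAB.trans h1) h2

theorem Full.cj {A : Subgroup G} (h : Full A) (g : G) : Full (cj g A) := by
  intro N h1 h2
  have h3 := mem_Nz_iff_cj.1 (h2 (Subgroup.mem_top g⁻¹))
  exact h N (by rw [← h3, ← cj_le_iff]; exact h1) h2

theorem coatom_cj {M : Subgroup G} (h : IsCoatom M) (g : G) : IsCoatom (cj g M) := by
  refine ⟨cj_ne_top h.1 g, fun K hK => ?_⟩
  by_contra hne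
  have h1 : M < cj g⁻¹ K := by
    refine lt_of_le_of_ne (cj_le_iff.1 hK.le) ?_
    intro h2
    apply hK.ne
    rw [h2, cj_cj_inv]
  exact cj_ne_top hne g⁻¹ (h.2 _ h1)

theorem coatom_eq {M K : Subgroup G} (hM : IsCoatom M) (hK : IsCoatom K) (h : M ≤ K) : M = K := by
  by_contra hne
  exact hK.1 (hM.2 K (lt_of_le_of_ne h hne))

/-- unique maximal overgroup -/
def UM (D : Subgroup G) : Prop := ∃ M, IsCoatom M ∧ D ≤ M ∧ ∀ K, IsCoatom K → D ≤ K → K = M

theorem UM.eq {D K L : Subgroup G} (h : UM D) (hK : IsCoatom K) (hL : IsCoatom L) (h1 : D ≤ K) (h2 : D ≤ L) :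
    K = L := by
  obtain ⟨M, -, -, h3⟩ := h
  rw [h3 K hK h1, h3 L hL h2]

theorem UM.cj {D : Subgroup G} (h : UM D) (g : G) : UM (cj g D) := by
  obtain ⟨M, h1, h2, h3⟩ := h
  refine ⟨H17.Base.cj g M, coatom_cj h1 g, cj_mono h2, fun K hK hDK => ?_⟩
  rw [← h3 (H17.Base.cj g⁻¹ K) (coatom_cj hK _) (cj_le_iff.1 hDK), cj_cj_inv]

end Cfsg.Agent.HL.Bart
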