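import Cfsg.Agent.HL_Bart

set_option autoImplicit false
open Cfsg

namespace Cfsg.Agent.HL.Bart
open Cfsg.Agent.H17.Base Cfsg.Agent.H17.LLemma

variable {G : Type*} [Group G]

/-- `D ≤ X` as soon as `D` is subnormal in some `H ≥ X ≥ A`, `X` generated by conjugates of `A` -/
theorem Gen.le_of_SN {A D X H : Subgroup G} (hX : Gen A X) (hD : SN D H) (hXH : X ≤ H) (hAD : A ≤ D) :
    X ≤ D := by
  have h1 := hD.inf hXH
  have h2 := hX.eq_of_SN h1 (le_inf hAD hX.1)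
  rw [← h2]; exact inf_le_left

theorem Y_SN [Finite G] {A H : Subgroup G} (hAne : A ≠ ⊤) (hH : H ≠ ⊤) (hYH : Y A ≤ H) : SN (Y A) H := by
  have hAY : A ≤ Y A := le_Y hAne (Gen.refl A)
  obtain ⟨D, hD1, hD2⟩ := exists_snc (hAY.trans hYH)
  have hDne : D ≠ ⊤ := fun h => hH (top_le_iff.1 (by rw [← h]; exact hD1.1))
  have h1 : D ≤ Y A := le_Y hDne hD2
  have h2 : Y A ≤ D := Y_le fun X hX1 hX2 => hX2.le_of_SN hD1 ((le_Y hX1 hX2).trans hYH) hD2.1
  rw [le_antisymm h2 h1]; exact hD1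

theorem exists_coatom_ge [Finite G] {H : Subgroup G} (h : H ≠ ⊤) : ∃ M, IsCoatom M ∧ H ≤ M :=
  Cfsg.Agent.H24.Tools.exists_coatom_ge h

theorem SN_top_iff {A : Subgroup G} : SN A ⊤ ↔ A.IsSubnormal := by
  constructor
  · intro h
    have h2 : (⊤ : Subgroup G).IsSubnormal := Subgroup.IsSubnormal.top
    exact Subgroup.IsSubnormal.trans le_top h.2 h2
  · intro h
    exact ⟨le_top, h.subgroupOf⟩

theorem not_subnormal {A : Subgroup G} (hne : A ≠ ⊤) (hf : Full A) : ¬ A.IsSubnormal := by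
  intro h
  obtain ⟨N, h1, -, h3, h4⟩ := (SN_top_iff.2 h).exists_normal hne
  exact h4 (hf N h1 h3)

theorem exists_mx [Finite G] {A : Subgroup G} (hne : A ≠ ⊤) (hf : Full A) (hY : Y A ≠ ⊤) :
    ∃ M, IsCoatom M ∧ Y A ≤ M ∧ ∀ K, IsCoatom K → Y A ≤ K → K = M := by
  have hAY : A ≤ Y A := le_Y hne (Gen.refl A)
  exact Cfsg.Agent.H24.Zipper.zipper (Y A) (fun H h1 h2 => (Y_SN hne h1 h2).2)
    (not_subnormal hY (hf.mono hAY))

/-- induction hypothesis bundle -/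
structure Hyp (A : Subgroup G) : Prop where
  ne : A ≠ ⊤
  full : Full A
  Yne : Y A ≠ ⊤
  num : ¬ UM A
  ih : ∀ D : Subgroup G, Nat.card A < Nat.card D → D ≠ ⊤ → Full D → Y D ≠ ⊤ → UM D

theorem Hyp.cj {A : Subgroup G} (h : Hyp A) (g : G) : Hyp (cj g A) where
  ne := cj_ne_top h.ne g
  full := h.full.cj g
  Yne := by rw [← cj_Y]; exact cj_ne_top h.Yne g
  num := fun h1 => h.num (by have := h1.cj g⁻¹; rwa [cj_inv_cj] at this)
  ih := fun D h1 => h.ih D (by rwa [card_cj] at h1)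

open Classical in
/-- the maximal subgroup over `Y A` -/
noncomputable def mx (A : Subgroup G) : Subgroup G :=
  if h : ∃ M, IsCoatom M ∧ Y A ≤ M ∧ ∀ K, IsCoatom K → Y A ≤ K → K = M then h.choose else ⊤

variable [Finite G] {A : Subgroup G}

theorem Hyp.spec (h : Hyp A) : IsCoatom (mx A) ∧ Y A ≤ mx A ∧ ∀ K, IsCoatom K → Y A ≤ K → K = mx A := by
  have h1 := exists_mx h.ne h.full h.Yne
  unfold mx
  rw [dif_pos h1]
  exact h1.choose_spec

theorem Hyp.le_mx (h : Hyp A) : A ≤ mx A := (le_Y h.ne (Gen.refl A)).trans h.spec.2.1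

theorem Hyp.cj_mx (h : Hyp A) (g : G) : H17.Base.cj g (mx A) = mx (H17.Base.cj g A) := by
  apply (h.cj g).spec.2.2 _ (coatom_cj h.spec.1 g)
  rw [← cj_Y]; exact cj_mono h.spec.2.1

theorem Hyp.Nz_mx (h : Hyp A) : Nz (mx A) ≤ mx A := by
  have h1 : Nz (mx A) ≠ ⊤ := fun h2 => h.spec.1.1 (h.full _ h.le_mx h2.ge)
  obtain ⟨K, hK1, hK2⟩ := exists_coatom_ge h1
  have h3 := coatom_eq h.spec.1 hK1 (Subgroup.le_normalizer.trans hK2)
  rw [← h3] at hK2; exact hK2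

theorem Hyp.Nz_le (h : Hyp A) : Nz A ≤ mx A := by
  intro g hg
  apply h.Nz_mx
  rw [mem_Nz_iff_cj, h.cj_mx, cj_eq_of_mem_Nz hg]

theorem card_lt_of_lt {A B : Subgroup G} (h : A < B) : Nat.card A < Nat.card B := by
  by_contra hn
  exact h.ne (Subgroup.eq_of_le_of_card_ge h.le (not_lt.1 hn))

theorem ne_top_of_le {H K : Subgroup G} (hK : IsCoatom K) (h : H ≤ K) : H ≠ ⊤ :=
  fun h1 => hK.1 (top_le_iff.1 (by rw [← h1]; exact h))

theorem Hyp.sn (h : Hyp A) {K : Subgroup G} (hK : IsCoatom K) (hAK : A ≤ K) (hne : K ≠ mx A) : SN A K := by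
  obtain ⟨D, hD1, hD2⟩ := exists_snc hAK
  by_cases hAD : A = D
  · rw [hAD]; exact hD1
  · exfalso
    have hDne : D ≠ ⊤ := ne_top_of_le hK hD1.1
    have hDY : D ≤ Y A := le_Y hDne hD2
    have hYD : Y D ≤ Y A := Y_le fun X h1 h2 => le_Y h1 (hD2.trans h2)
    have hYD' : Y D ≠ ⊤ := ne_top_of_le h.spec.1 (hYD.trans h.spec.2.1)
    have := h.ih D (card_lt_of_lt (lt_of_le_of_ne hD2.1 hAD)) hDne (h.full.mono hD2.1) hYD'
    exact hne (this.eq hK h.spec.1 hD1.1 (hDY.trans h.spec.2.1))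

theorem Hyp.uniq (h : Hyp A) {K : Subgroup G} (hK : IsCoatom K) (hAK : A ≤ K) (hne : K ≠ mx A) {m : G}
    (hm : m ∈ mx A) (hmK : H17.Base.cj m A ≤ K) : H17.Base.cj m A = A := by
  by_contra hne'
  set T := A ⊔ H17.Base.cj m A with hT
  have hAT : A < T := by
    refine lt_of_le_of_ne le_sup_left fun h1 => hne' ?_
    have h2 : H17.Base.cj m A ≤ A := by
      conv_rhs => rw [h1]
      exact le_sup_right
    exact Subgroup.eq_of_le_of_card_ge h2 (card_cj m A).ge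
  have hmx : mx (H17.Base.cj m A) = mx A := by rw [← h.cj_mx, cj_eq_of_mem hm]
  have hTM : T ≤ mx A := by
    refine sup_le h.le_mx ?_
    rw [← hmx]; exact (h.cj m).le_mx
  have hYT : Y T ≤ mx A := by
    refine Y_le fun H h1 h2 => ?_
    by_contra hHM
    obtain ⟨K', hK'1, hK'2⟩ := exists_coatom_ge h1
    have hne1 : K' ≠ mx A := fun h3 => hHM (by rw [← h3]; exact hK'2)
    have hAH : A ≤ H := hAT.le.trans h2.1
    have hcH : H17.Base.cj m A ≤ H := le_sup_right.trans h2.1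
    have s1 : SN A H := (h.sn hK'1 (hAH.trans hK'2) hne1).mono hAH hK'2
    have s2 : SN (H17.Base.cj m A) H :=
      ((h.cj m).sn hK'1 (hcH.trans hK'2) (by rw [hmx]; exact hne1)).mono hcH hK'2
    have s3 : SN T H := s1.sup s2
    have h4 := h2.eq_of_SN s3 le_rfl
    exact hHM (by rw [← h4]; exact hTM)
  have hUM := h.ih T (card_lt_of_lt hAT) (ne_top_of_le h.spec.1 hTM) (h.full.mono hAT.le)
    (ne_top_of_le h.spec.1 hYT)
  exact hne (hUM.eq hK h.spec.1 (sup_le hAK hmK) hTM)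

theorem Hyp.inf_le (h : Hyp A) {K : Subgroup G} (hK : IsCoatom K) (hAK : A ≤ K) (hne : K ≠ mx A) :
    K ⊓ mx A ≤ Nz A := by
  intro m hm
  rw [mem_Nz_iff_cj]
  apply h.uniq hK hAK hne hm.2
  rw [← cj_eq_of_mem hm.1]; exact cj_mono hAK

theorem Hyp.inj (h : Hyp A) {K : Subgroup G} (hK : IsCoatom K) (hAK : A ≤ K) (hne : K ≠ mx A) {g : G}
    (hg : H17.Base.cj g A ≤ K) (he : mx (H17.Base.cj g A) = mx A) : H17.Base.cj g A = A := by
  apply h.uniq hK hAK hne _ hg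
  apply h.Nz_mx
  rw [mem_Nz_iff_cj, h.cj_mx, he]

theorem Hyp.not_SN (h : Hyp A) : ¬ SN A (mx A) := by
  intro hs
  apply h.num
  apply Cfsg.Agent.H24.Zipper.zipper A _ (not_subnormal h.ne h.full)
  intro H h1 h2
  obtain ⟨K, hK1, hK2⟩ := exists_coatom_ge h1
  by_cases hKM : K = mx A
  · rw [← hKM] at hs
    exact (hs.mono h2 hK2).2
  · exact ((h.sn hK1 (h2.trans hK2) hKM).mono h2 hK2).2

end Cfsg.Agent.HL.Bart
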