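import Cfsg.Agent.HL_Bart2

set_option autoImplicit false
open Cfsg

namespace Cfsg.Agent.HL.Bart
open Cfsg.Agent.H17.Base Cfsg.Agent.H17.LLemma

variable {G : Type*} [Group G]

theorem cj_left_cancel {g : G} {A B : Subgroup G} (h : cj g A = cj g B) : A = B := by
  rw [← cj_inv_cj g A, h, cj_inv_cj]

theorem cj_le_cj_iff {g : G} {A B : Subgroup G} : cj g A ≤ cj g B ↔ A ≤ B := by
  rw [cj_le_iff, cj_inv_cj]

/-- the alternating walk -/
theorem comb [Finite G] (A T V : Subgroup G) (hAT : A ≤ T) (hVT : V ≤ T)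
    (hV : ∀ g : G, cj g A ≤ T → cj g A ≠ A → cj g A ≤ V) (ha : ¬ A ≤ V)
    (hNT : Nz A ≤ Nz T) (hNV : Nz A ≤ Nz V)
    (ht : G) (ht1 : cj ht A ≠ A) (ht2 : cj ht T = T)
    (hv : G) (hv1 : cj hv A ≠ A) (hv2 : cj hv V = V) : False := by
  classical
  set x : G := hv * ht with hx
  -- well-definedness
  have wT : ∀ a b : G, cj a A = cj b A → cj a T = cj b T := by
    intro a b h
    have h1 : b⁻¹ * a ∈ Nz T := hNT (by rw [mem_Nz_iff_cj, cj_mul, h, cj_inv_cj])
    rw [mem_Nz_iff_cj, cj_mul] at h1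
    rw [← cj_cj_inv b (cj a T), h1]
  have wV : ∀ a b : G, cj a A = cj b A → cj a V = cj b V := by
    intro a b h
    have h1 : b⁻¹ * a ∈ Nz V := hNV (by rw [mem_Nz_iff_cj, cj_mul, h, cj_inv_cj])
    rw [mem_Nz_iff_cj, cj_mul] at h1
    rw [← cj_cj_inv b (cj a V), h1]
  -- T_{n+1}
  have hTs : ∀ n : ℕ, cj (x ^ (n + 1)) T = cj (x ^ n * hv) T := by
    intro n
    rw [pow_succ, hx, ← mul_assoc, cj_mul _ ht, ht2]
  have hVs : ∀ n : ℕ, cj (x ^ n * hv) V = cj (x ^ n) V := by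
    intro n
    rw [cj_mul, hv2]
  -- step
  have step : ∀ (g : G) (l : ℕ), cj g A ≤ cj (x ^ (l + 1)) T → cj g A ≠ cj (x ^ l * hv) A →
      cj g A ≤ cj (x ^ l) V := by
    intro g l h1 h2
    rw [hTs] at h1
    rw [le_cj_iff, ← cj_mul] at h1
    have h3 : cj ((x ^ l * hv)⁻¹ * g) A ≠ A := by
      intro h3
      apply h2
      rw [cj_mul] at h3
      rw [← cj_cj_inv (x ^ l * hv) (cj g A), h3]
    have h4 := hV _ h1 h3
    rw [cj_mul, ← le_cj_iff, hVs] at h4
    exact h4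
  have descend : ∀ (g : G) (a d : ℕ), (∀ l, a ≤ l → l ≤ a + d → cj g A ≠ cj (x ^ l * hv) A) →
      cj g A ≤ cj (x ^ (a + d + 1)) T → cj g A ≤ cj (x ^ a) V := by
    intro g a d
    induction d with
    | zero =>
      intro h1 h2
      exact step g a h2 (h1 a le_rfl le_rfl)
    | succ d ih =>
      intro h1 h2
      apply ih (fun l h3 h4 => h1 l h3 (by omega))
      have h5 := step g (a + (d + 1)) h2 (h1 _ (by omega) le_rfl)
      exact h5.trans (cj_mono hVT)
  -- minimal m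
  have hex : ∃ m : ℕ, 0 < m ∧ cj (x ^ m) V = V :=
    ⟨orderOf x, orderOf_pos x, by rw [pow_orderOf_eq_one, cj_one]⟩
  set m := Nat.find hex with hm
  obtain ⟨hm0, hmV⟩ := Nat.find_spec hex
  have hmin : ∀ k, 0 < k → k < m → cj (x ^ k) V ≠ V := fun k h1 h2 h3 => Nat.find_min hex h2 ⟨h1, h3⟩
  have hdiff : ∀ a b : ℕ, a ≤ b → b < m → cj (x ^ a) V = cj (x ^ b) V → a = b := by
    intro a b hab hbm h
    by_contra hne
    have h1 : b = a + (b - a) := by omega
    rw [h1, pow_add, cj_mul] at h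
    exact hmin (b - a) (by omega) (by omega) (cj_left_cancel h).symm
  change 0 < m at hm0
  change cj (x ^ m) V = V at hmV
  by_cases hc : ∀ l, l < m → cj (x ^ m) A ≠ cj (x ^ l * hv) A
  · have h1 := descend (x ^ m) 0 (m - 1) (fun l _ h2 => hc l (by omega))
      (by rw [show 0 + (m - 1) + 1 = m from by omega]; exact cj_mono hAT)
    rw [pow_zero, cj_one, ← hmV] at h1
    rw [hmV] at h1
    apply ha
    have h2 : cj (x ^ m) A ≤ cj (x ^ m) V := by rw [hmV]; exact h1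
    exact cj_le_cj_iff.1 h2
  · push Not at hc
    obtain ⟨l, hl, hlA⟩ := hc
    have h1 := wV _ _ hlA
    rw [hmV, hVs] at h1
    have h0 : l = 0 := by
      by_contra hne
      exact hmin l (by omega) hl h1.symm
    subst h0
    have hm2 : m ≠ 1 := by
      intro hm1
      rw [hm1, pow_one, pow_zero, one_mul, hx, cj_mul] at hlA
      exact ht1 (cj_left_cancel hlA)
    have h2 := wT _ _ hlA
    -- X = C_1
    have h3 : cj x A ≤ cj (x ^ m) T := by
      rw [h2, ← hTs 0, zero_add, pow_one]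
      exact cj_mono hAT
    have h4 := descend x 1 (m - 2) (fun l h5 h6 h7 => by
        have h8 := wV _ _ h7
        rw [hVs] at h8
        have h9 : 1 = l := hdiff 1 l h5 (by omega) (by rw [pow_one]; exact h8)
        subst h9
        rw [pow_one, cj_mul x hv] at h7
        exact hv1 (cj_left_cancel h7).symm)
      (by rw [show 1 + (m - 2) + 1 = m from by omega]; exact h3)
    rw [pow_one] at h4
    exact ha (cj_le_cj_iff.1 h4)

theorem dcl_cj_left (g : G) (A P : Subgroup G) : dcl (cj g A) P = dcl A P := by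
  apply le_antisymm
  · rw [dcl_le_iff]
    intro h hh
    rw [← cj_mul] at hh ⊢
    exact le_dcl hh
  · rw [dcl_le_iff]
    intro h hh
    have e : cj h A = cj (h * g⁻¹) (cj g A) := by rw [← cj_mul]; congr 1; group
    rw [e] at hh ⊢
    exact le_dcl hh

/-- the candidates for `T` -/
def Good (A T : Subgroup G) : Prop :=
  dcl A T = T ∧ (∃ g, cj g A ≤ T) ∧ ∃ K L, IsCoatom K ∧ IsCoatom L ∧ K ≠ L ∧ T ≤ K ∧ T ≤ L

theorem Good.cj_left {A T : Subgroup G} (h : Good A T) (g : G) : Good (cj g A) T := by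
  obtain ⟨h1, ⟨k, h2⟩, h3⟩ := h
  refine ⟨by rw [dcl_cj_left, h1], ⟨k * g⁻¹, ?_⟩, h3⟩
  rw [← cj_mul]
  rwa [show k * g⁻¹ * g = k from by group]

/-- the maximal candidates -/
structure Mx (A T : Subgroup G) : Prop where
  good : Good A T
  max : ∀ S, Good A S → Nat.card S ≤ Nat.card T
  lt : Nat.card A < Nat.card T

theorem Mx.cj_left {A T : Subgroup G} (h : Mx A T) (g : G) : Mx (cj g A) T where
  good := h.good.cj_left g
  max := fun S hS => h.max S (by have := hS.cj_left g⁻¹; rwa [cj_inv_cj] at this)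
  lt := by rw [card_cj]; exact h.lt

variable [Finite G] {A T : Subgroup G}

theorem exists_Mx (h : Hyp A) : ∃ T, Mx A T := by
  classical
  -- a first candidate
  obtain ⟨K, hK, hAK, hne⟩ : ∃ K, IsCoatom K ∧ A ≤ K ∧ K ≠ mx A := by
    by_contra hno
    push Not at hno
    exact h.num ⟨mx A, h.spec.1, h.le_mx, fun K h1 h2 => hno K h1 h2⟩
  have hsn := h.sn hK hAK hne
  rcases hsn.exists_cj with h1 | ⟨x, hx, hx1, hx2⟩
  · exact absurd (coatom_eq hK h.spec.1 (h1.trans h.Nz_le)) hne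
  set T0 := A ⊔ cj x A with hT0
  have hlt : A < T0 := by
    refine lt_of_le_of_ne le_sup_left fun h1 => hx2 ?_
    have h2 : cj x A ≤ A := by
      conv_rhs => rw [h1]
      exact le_sup_right
    exact Subgroup.eq_of_le_of_card_ge h2 (card_cj x A).ge
  have hg0 : Good A T0 := by
    refine ⟨le_antisymm (dcl_le _ _) (sup_le ?_ ?_), ⟨x, le_sup_right⟩, K, mx A, hK, h.spec.1, hne, ?_, ?_⟩
    · have := le_dcl (A := A) (P := T0) (g := 1) (by rw [cj_one]; exact le_sup_left)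
      rwa [cj_one] at this
    · exact le_dcl le_sup_right
    · exact sup_le hAK (hsn.cj_mem hx).1
    · exact sup_le h.le_mx (hx1.trans h.Nz_le)
  obtain ⟨T, hT, hmax⟩ := Set.exists_max_image {T : Subgroup G | Good A T} (fun T : Subgroup G => Nat.card T)
    (Set.toFinite _) ⟨T0, hg0⟩
  exact ⟨T, hT, fun S hS => hmax S hS, lt_of_lt_of_le (card_lt_of_lt hlt) (hmax T0 hg0)⟩

theorem Mx.dcl_eq (hT : Mx A T) {K L : Subgroup G} (hK : IsCoatom K) (hL : IsCoatom L) (hne : K ≠ L)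
    (h1 : T ≤ K) (h2 : T ≤ L) : dcl A (K ⊓ L) = T := by
  have h3 : T ≤ dcl A (K ⊓ L) := by
    conv_lhs => rw [← hT.good.1]
    exact dcl_mono (le_inf h1 h2)
  have h4 : Good A (dcl A (K ⊓ L)) := by
    obtain ⟨-, ⟨g, hg⟩, -⟩ := hT.good
    exact ⟨dcl_dcl _ _, ⟨g, hg.trans h3⟩, K, L, hK, hL, hne, (dcl_le _ _).trans inf_le_left,
      (dcl_le _ _).trans inf_le_right⟩
  exact (Subgroup.eq_of_le_of_card_ge h3 (hT.max _ h4)).symm

theorem Mx.exists_ne (hT : Mx A T) (M : Subgroup G) : ∃ K, IsCoatom K ∧ T ≤ K ∧ K ≠ M := by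
  obtain ⟨-, -, K, L, hK, hL, hne, h1, h2⟩ := hT.good
  by_cases h : K = M
  · exact ⟨L, hL, h2, fun h3 => hne (h.trans h3.symm)⟩
  · exact ⟨K, hK, h1, h⟩

theorem Mx.le_Nz_iff (hT : Mx A T) (h : Hyp A) {g : G} (hg : cj g A ≤ T) :
    T ≤ mx (cj g A) ↔ T ≤ Nz (cj g A) := by
  constructor
  · intro h1
    obtain ⟨K, hK1, hK2, hK3⟩ := hT.exists_ne (mx (cj g A))
    exact (le_inf hK2 h1).trans ((h.cj g).inf_le hK1 (hg.trans hK2) hK3)
  · exact fun h1 => h1.trans (h.cj g).Nz_le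

theorem Mx.inj (hT : Mx A T) (h : Hyp A) {g k : G} (hg : cj g A ≤ T) (hk : cj k A ≤ T)
    (he : mx (cj g A) = mx (cj k A)) : cj g A = cj k A := by
  obtain ⟨K, hK1, hK2, hK3⟩ := hT.exists_ne (mx (cj k A))
  have e : cj g A = cj (g * k⁻¹) (cj k A) := by rw [← cj_mul]; congr 1; group
  rw [e] at he ⊢ hg
  exact (h.cj k).inj hK1 (hk.trans hK2) hK3 (hg.trans hK2) he

theorem Mx.full (hT : Mx A T) (h : Hyp A) : Full T := by
  obtain ⟨-, ⟨g, hg⟩, -⟩ := hT.good
  exact (h.full.cj g).mono hg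

theorem Mx.ne_top (hT : Mx A T) : T ≠ ⊤ := by
  obtain ⟨-, -, K, L, hK, hL, hne, h1, h2⟩ := hT.good
  exact ne_top_of_le hK h1

theorem Mx.not_UM (hT : Mx A T) : ¬ UM T := by
  obtain ⟨-, -, K, L, hK, hL, hne, h1, h2⟩ := hT.good
  exact fun h => hne (h.eq hK hL h1 h2)

theorem Mx.exists_normal (hT : Mx A T) (h : Hyp A) {M : Subgroup G} (hM : IsCoatom M) (hTM : T ≤ M) :
    ∃ g, cj g A ≤ T ∧ T ≤ Nz (cj g A) ∧ mx (cj g A) ≠ M := by
  by_contra hno
  push Not at hno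
  have hYT : Y T ≤ M := by
    refine Y_le fun H h1 h2 => ?_
    by_contra hHM
    obtain ⟨K', hK'1, hK'2⟩ := exists_coatom_ge h1
    have hne1 : K' ≠ M := fun h3 => hHM (by rw [← h3]; exact hK'2)
    have hTK' : T ≤ K' := h2.1.trans hK'2
    have s : ∀ g, cj g A ≤ T → SN (cj g A) H := by
      intro g hg
      refine SN.mono ((h.cj g).sn hK'1 (hg.trans hTK') ?_) (hg.trans h2.1) hK'2
      intro h3
      have h4 : T ≤ mx (cj g A) := by rw [← h3]; exact hTK'
      exact hne1 (by rw [h3]; exact hno g hg ((hT.le_Nz_iff h hg).1 h4))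
    have s2 : SN T H := by
      rw [← hT.good.1, dcl]
      exact SN.iSup _ fun g => s g.1 g.2
    have h4 := h2.eq_of_SN s2 le_rfl
    exact hHM (by rw [← h4]; exact hTM)
  exact hT.not_UM (h.ih T hT.lt hT.ne_top (hT.full h) (ne_top_of_le hM hYT))

theorem final (h : Hyp A) (hT : Mx A T) (hAT : A ≤ T) (hTN : T ≤ Nz A) {K₁ : Subgroup G}
    (hK₁ : IsCoatom K₁) (hNT : Nz T ≤ K₁) (hne : mx A ≠ K₁) : False := by
  set M₀ := mx A with hM₀
  have hTM : T ≤ M₀ := hTN.trans h.Nz_le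
  have hTK : T ≤ K₁ := Subgroup.le_normalizer.trans hNT
  have hTeq : dcl A (M₀ ⊓ K₁) = T := hT.dcl_eq h.spec.1 hK₁ hne hTM hTK
  set V : Subgroup G := ⨆ g : {g : G // cj g A ≤ T ∧ cj g A ≠ A}, cj (g : G) A with hVdef
  have hVT : V ≤ T := iSup_le fun g => g.2.1
  have hV : ∀ g : G, cj g A ≤ T → cj g A ≠ A → cj g A ≤ V := fun g h1 h2 =>
    le_iSup (fun g : {g : G // cj g A ≤ T ∧ cj g A ≠ A} => cj (g : G) A) ⟨g, h1, h2⟩
  have hVle : ∀ N : Subgroup G, (∀ g : G, cj g A ≤ T → cj g A ≠ A → cj g A ≤ N) → V ≤ N := fun N hN =>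
    iSup_le fun g => hN g.1 g.2.1 g.2.2
  have hmxne : ∀ g : G, cj g A ≤ T → cj g A ≠ A → mx (cj g A) ≠ M₀ := by
    intro g h1 h2 h3
    apply h2
    have h4 := hT.inj h (g := g) (k := 1) h1 (by rw [cj_one]; exact hAT) (by rw [cj_one]; exact h3)
    rwa [cj_one] at h4
  have hSNc : ∀ g : G, cj g A ≤ T → cj g A ≠ A → SN (cj g A) M₀ := fun g h1 h2 =>
    (h.cj g).sn h.spec.1 (h1.trans hTM) (hmxne g h1 h2).symm
  have hVM : SN V M₀ := SN.iSup _ fun g => hSNc g.1 g.2.1 g.2.2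
  have ha : ¬ A ≤ V := by
    intro h1
    exact h.not_SN ((SN.of_le_Nz h1 (hVT.trans hTN)).trans hVM)
  have hTAV : T = A ⊔ V := by
    apply le_antisymm _ (sup_le hAT hVT)
    conv_lhs => rw [← hT.good.1]
    rw [dcl_le_iff]
    intro g hg
    by_cases h1 : cj g A = A
    · rw [h1]; exact le_sup_left
    · exact (hV g hg h1).trans le_sup_right
  have hweak : ∀ f : G, cj f T ≤ M₀ ⊓ K₁ → cj f T = T := by
    intro f hf
    have h1 : cj f T ≤ T := by
      conv_rhs => rw [← hTeq]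
      rw [← hT.good.1, cj_dcl]
      exact dcl_mono hf
    exact Subgroup.eq_of_le_of_card_ge h1 (card_cj f T).ge
  have hTSN : SN T (Nz A) := by
    have h1 : SN V (Nz A) := hVM.mono (hVT.trans hTN) h.Nz_le
    have h2 : SN A (Nz A) := SN.of_le_Nz Subgroup.le_normalizer le_rfl
    rw [hTAV]; exact h2.sup h1
  have hNANT : Nz A ≤ Nz T := by
    rcases hTSN.exists_cj with h1 | ⟨g, hg, hg1, hg2⟩
    · exact h1
    · exact absurd (hweak g (le_inf ((hTSN.cj_mem hg).1.trans h.Nz_le) (hg1.trans hNT))) hg2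
  have hTT : dcl A (Nz A) = T := by
    apply le_antisymm
    · conv_rhs => rw [← hTeq]
      exact dcl_mono (le_inf h.Nz_le (hNANT.trans hNT))
    · conv_lhs => rw [← hT.good.1]
      exact dcl_mono hTN
  have hNV : Nz A ≤ Nz V := by
    intro x hx
    have key : ∀ x ∈ Nz A, cj x V ≤ V := by
      intro x hx
      rw [cj_le_iff]
      apply hVle
      intro g h1 h2
      rw [le_cj_iff, inv_inv, ← cj_mul]
      apply hV
      · rw [cj_mul, ← cj_eq_of_mem_Nz (hNANT hx)]; exact cj_mono h1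
      · intro h3
        apply h2
        rw [cj_mul] at h3
        rw [← cj_inv_cj x (cj g A), h3]
        exact cj_eq_of_mem_Nz ((Nz A).inv_mem hx)
    exact mem_Nz_of_cj_le (key x hx)
  -- (b)
  obtain ⟨ht, ht1, ht2⟩ : ∃ ht, cj ht A ≠ A ∧ cj ht T = T := by
    obtain ⟨g, h1, h2, h3⟩ := hT.exists_normal h h.spec.1 hTM
    refine ⟨g, fun h4 => h3 (by rw [h4]), ?_⟩
    have h5 : T ≤ cj g T := by
      conv_rhs => rw [← hTT]
      rw [cj_dcl, cj_Nz]
      conv_lhs => rw [← hT.good.1]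
      exact dcl_mono h2
    exact (Subgroup.eq_of_le_of_card_ge h5 (card_cj g T).le).symm
  -- (c)
  obtain ⟨hv, hv1, hv2⟩ : ∃ hv, cj hv A ≠ A ∧ cj hv V = V := by
    rcases hVM.exists_cj with h1 | ⟨k, hk, hk1, hk2⟩
    · have h2 : ¬ M₀ ≤ Nz A := fun h2 => h.not_SN (SN.of_le_Nz h.le_mx h2)
      obtain ⟨w, hw, hwN⟩ := SetLike.not_le_iff_exists.1 h2
      exact ⟨w, fun h3 => hwN (mem_Nz_iff_cj.2 h3), cj_eq_of_mem_Nz (h1 hw)⟩
    · have h2 : ¬ cj k V ≤ Nz A := by
        intro h2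
        apply hk2
        have h3 : cj k V ≤ V := by
          rw [cj_le_iff]
          apply hVle
          intro g hg1 hg2
          rw [le_cj_iff, inv_inv, ← cj_mul]
          have h4 : cj (k * g) A ≤ T := by
            rw [← hTT]
            apply le_dcl
            rw [cj_mul]
            exact (cj_mono (hV g hg1 hg2)).trans h2
          apply hV _ h4
          intro h5
          apply h.not_SN
          have h6 := (hSNc g hg1 hg2).cj_mem hk
          rw [← cj_mul, h5] at h6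
          exact h6
        exact Subgroup.eq_of_le_of_card_ge h3 (card_cj k V).ge
      obtain ⟨w, hw, hwN⟩ := SetLike.not_le_iff_exists.1 h2
      exact ⟨w, fun h3 => hwN (mem_Nz_iff_cj.2 h3), cj_eq_of_mem_Nz (hk1 hw)⟩
  exact comb A T V hAT hVT hV ha hNANT hNV ht ht1 ht2 hv hv1 hv2

theorem hyp_false (h : Hyp A) : False := by
  obtain ⟨T, hT⟩ := exists_Mx h
  have h1 : Nz T ≠ ⊤ := fun h2 => hT.ne_top (hT.full h T le_rfl h2.ge)
  obtain ⟨K₁, hK₁, hNT⟩ := exists_coatom_ge h1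
  obtain ⟨g, h2, h3, h4⟩ := hT.exists_normal h hK₁ (Subgroup.le_normalizer.trans hNT)
  exact final (h.cj g) (hT.cj_left g) h2 h3 hK₁ hNT h4

theorem main_aux (n : ℕ) : ∀ A : Subgroup G, Nat.card G - Nat.card A = n → A ≠ ⊤ → Full A → Y A ≠ ⊤ → UM A := by
  induction n using Nat.strong_induction_on with
  | _ n ih =>
    intro A hn hne hf hY
    by_contra hU
    refine hyp_false (A := A) ⟨hne, hf, hY, hU, fun D h1 h2 h3 h4 => ?_⟩
    refine ih (Nat.card G - Nat.card D) ?_ D rfl h2 h3 h4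
    have h5 : Nat.card D ≤ Nat.card G := Nat.le_of_dvd Nat.card_pos (Subgroup.card_subgroup_dvd_card D)
    omega

theorem main (A : Subgroup G) (hne : A ≠ ⊤) (hf : Full A) (hY : Y A ≠ ⊤) : UM A :=
  main_aux _ A rfl hne hf hY

end Cfsg.Agent.HL.Bart
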