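import Cfsg.Agent.HL_Bart3

set_option autoImplicit false
open Cfsg

namespace Cfsg.Agent.HL.Bart
open Cfsg.Agent.H17.Base Cfsg.Agent.H17.LLemma

universe u

section
variable {G : Type*} [Group G]

/-- conjugate in their join -/
def R (A B : Subgroup G) : Prop := ∃ g ∈ A ⊔ B, B = cj g A

/-- the subgroup generated by the component of `A` -/
def L (A : Subgroup G) : Subgroup G := sSup {B | Relation.ReflTransGen R A B}

theorem map_cj {G' : Type*} [Group G'] (f : G →* G') (g : G) (A : Subgroup G) :
    (cj g A).map f = cj (f g) (A.map f) := by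
  ext y
  rw [mem_cj]
  constructor
  · rintro ⟨_, ⟨a, ha, rfl⟩, rfl⟩
    exact ⟨a, ha, by simp [mul_assoc]⟩
  · rintro ⟨a, ha, h⟩
    exact ⟨g * a * g⁻¹, ⟨a, ha, by simp⟩, by rw [map_mul, map_mul, map_inv, h]; group⟩

theorem R.map {G' : Type*} [Group G'] (f : G →* G') {A B : Subgroup G} (h : R A B) :
    R (A.map f) (B.map f) := by
  obtain ⟨g, hg, hB⟩ := h
  refine ⟨f g, ?_, ?_⟩
  · rw [← Subgroup.map_sup]; exact Subgroup.mem_map_of_mem f hg
  · rw [hB, map_cj]

theorem rtg_map {G' : Type*} [Group G'] (f : G →* G') {A B : Subgroup G} (h : Relation.ReflTransGen R A B) :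
    Relation.ReflTransGen R (A.map f) (B.map f) := by
  induction h with
  | refl => exact Relation.ReflTransGen.refl
  | tail _ h1 ih => exact ih.tail (h1.map f)

theorem le_L {A B : Subgroup G} (h : Relation.ReflTransGen R A B) : B ≤ L A := le_sSup h

/-- `Full` inside a subgroup -/
theorem Gen.full {A X : Subgroup G} (h : Gen A X) : Full (A.subgroupOf X) := by
  intro N h1 h2
  have hle := Subgroup.map_subtype_le N
  have hN : (N.map X.subtype).subgroupOf X = N := by
    rw [Subgroup.subgroupOf]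
    exact Subgroup.comap_map_eq_self_of_injective X.subtype_injective N
  have h3 := h.2 (N.map X.subtype) (by
    have := Subgroup.map_mono (f := X.subtype) h1
    rwa [Subgroup.map_subgroupOf_eq_of_le h.1] at this) hle (by
    rw [← normal_subgroupOf_iff hle, hN]
    exact Subgroup.normalizer_eq_top_iff.1 (top_le_iff.1 h2))
  rw [← hN, h3, Subgroup.subgroupOf_self]

theorem Full_exists_not_le {A M : Subgroup G} (h : Full A) (hM : M ≠ ⊤) : ∃ g, ¬ cj g A ≤ M := by
  by_contra hno
  push Not at hno
  apply hM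
  have h1 : (⨆ g : G, cj g A) = ⊤ := by
    apply h
    · have := le_iSup (fun g : G => cj g A) 1
      rwa [cj_one] at this
    · intro x _
      rw [mem_Nz_iff_cj]
      have key : ∀ x : G, cj x (⨆ g : G, cj g A) ≤ ⨆ g : G, cj g A := by
        intro x
        rw [cj_le_iff]
        refine iSup_le fun g => ?_
        rw [le_cj_iff, inv_inv, ← cj_mul]
        exact le_iSup (fun g : G => cj g A) (x * g)
      apply le_antisymm (key x)
      rw [le_cj_iff]
      exact key x⁻¹
  rw [eq_top_iff, ← h1]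
  exact iSup_le hno

end

theorem bartels_aux (n : ℕ) : ∀ (G : Type u) [Group G] [Finite G], Nat.card G = n → ∀ A : Subgroup G,
    Full A → L A = ⊤ := by
  induction n using Nat.strong_induction_on with
  | _ n ih =>
    intro G _ _ hn A hf
    by_cases hA : A = ⊤
    · rw [eq_top_iff, ← hA]
      exact le_L Relation.ReflTransGen.refl
    by_cases hY : Y A = ⊤
    · refine top_le_iff.1 (hY.ge.trans (Y_le fun X h1 h2 => ?_))
      have h3 := ih (Nat.card X) (by
        rw [← hn]
        have := card_lt_of_lt (lt_top_iff_ne_top.2 h1)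
        rwa [Subgroup.card_top] at this) X rfl (A.subgroupOf X) h2.full
      have h4 : (L (A.subgroupOf X)).map X.subtype ≤ L A := by
        rw [L, sSup_eq_iSup, Subgroup.map_iSup]
        refine iSup_le fun B => ?_
        rw [Subgroup.map_iSup]
        refine iSup_le fun hB => ?_
        apply le_L
        have := rtg_map X.subtype hB
        rwa [Subgroup.map_subgroupOf_eq_of_le h2.1] at this
      rw [h3] at h4
      rw [← MonoidHom.range_eq_map, Subgroup.range_subtype] at h4
      exact h4
    · obtain ⟨M, h1, h2, h3⟩ := main A hA hf hY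
      obtain ⟨g, hg⟩ := Full_exists_not_le hf h1.1
      have h4 : A ⊔ cj g A = ⊤ := by
        by_contra hne
        obtain ⟨K, hK1, hK2⟩ := exists_coatom_ge hne
        have h5 := h3 K hK1 (le_sup_left.trans hK2)
        exact hg (by rw [← h5]; exact le_sup_right.trans hK2)
      rw [eq_top_iff, ← h4]
      refine sup_le (le_L Relation.ReflTransGen.refl) (le_L (Relation.ReflTransGen.single ⟨g, ?_, rfl⟩))
      rw [h4]; trivial

/-- Bartels' theorem (for subgroups with full normal closure) -/
theorem bartels {G : Type*} [Group G] [Finite G] {A : Subgroup G} (h : Full A) : L A = ⊤ :=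
  bartels_aux _ G rfl A h

/-! ### two involutions -/

theorem dih {G : Type*} [Group G] {x y : G} (hx : x * x = 1) (hy : y * y = 1) {g : G}
    (hg : g ∈ Subgroup.closure ({x, y} : Set G)) : ∃ k : ℤ, g * x * g⁻¹ = (x * y) ^ (2 * k) * x := by
  have hxi : x⁻¹ = x := inv_eq_of_mul_eq_one_left hx
  have hyi : y⁻¹ = y := inv_eq_of_mul_eq_one_left hy
  have hxc : ∀ k : ℤ, x * (x * y) ^ k * x⁻¹ = (x * y) ^ (-k) := by
    intro k
    rw [← conj_zpow, zpow_neg, ← inv_zpow]
    congr 1
    rw [mul_inv_rev, hxi, hyi, ← mul_assoc, hx, one_mul]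
  have key : ∀ g ∈ Subgroup.closure ({x, y} : Set G), ∀ s ∈ ({x, y} : Set G),
      (∃ k : ℤ, g * x * g⁻¹ = (x * y) ^ (2 * k) * x) → ∃ k : ℤ, s * g * x * (s * g)⁻¹ = (x * y) ^ (2 * k) * x := by
    rintro g - s hs ⟨k, hk⟩
    have e : s * g * x * (s * g)⁻¹ = s * (g * x * g⁻¹) * s⁻¹ := by group
    rw [e, hk]
    rcases hs with rfl | hs
    · refine ⟨-k, ?_⟩
      rw [show (2 : ℤ) * -k = -(2 * k) from by ring, ← hxc]
      simp [mul_assoc]
    · have hs' : s = y := hs
      rw [hs']
      refine ⟨-k - 1, ?_⟩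
      have e1 : y = (x * y) ^ (-1 : ℤ) * x := by
        rw [zpow_neg_one, mul_inv_rev, hxi, hyi, mul_assoc, hx, mul_one]
      have e3 : x * (x * y) ^ (2 * k) = (x * y) ^ (-(2 * k)) * x := by
        rw [← hxc]; simp [mul_assoc]
      calc y * ((x * y) ^ (2 * k) * x) * y⁻¹ = y * ((x * y) ^ (2 * k) * x) * y := by rw [hyi]
        _ = ((x * y) ^ (-1 : ℤ) * x) * ((x * y) ^ (2 * k) * x) * ((x * y) ^ (-1 : ℤ) * x) := by rw [← e1]
        _ = (x * y) ^ (-1 : ℤ) * (x * (x * y) ^ (2 * k)) * x * (x * y) ^ (-1 : ℤ) * x := by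
            simp only [mul_assoc]
        _ = (x * y) ^ (-1 : ℤ) * (x * y) ^ (-(2 * k)) * (x * x) * (x * y) ^ (-1 : ℤ) * x := by
            rw [e3]; simp only [mul_assoc]
        _ = (x * y) ^ (2 * (-k - 1)) * x := by
            rw [hx, mul_one, ← zpow_add, ← zpow_add]
            congr 2
            ring
  induction hg using Subgroup.closure_induction_left with
  | one => exact ⟨0, by simp⟩
  | mul_left s hs g hg ih => exact key g hg s hs ih
  | inv_mul_cancel s hs g hg ih =>
    have : s⁻¹ = s := by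
      rcases hs with rfl | hs
      · exact hxi
      · have hs' : s = y := hs
        rw [hs']; exact hyi
    rw [this]
    exact key g hg s hs ih

theorem odd_of_conj {G : Type*} [Group G] {x y : G} (hx : x * x = 1) (hy : y * y = 1) {g : G}
    (hg : g ∈ Subgroup.closure ({x, y} : Set G)) (h : g * x * g⁻¹ = y) : Odd (orderOf (x * y)) := by
  obtain ⟨k, hk⟩ := dih hx hy hg
  have h1 : (x * y) ^ (2 * k + 1) = 1 := by
    rw [zpow_add_one, ← mul_assoc, ← hk, h, hy]
  have h2 := orderOf_dvd_iff_zpow_eq_one.2 h1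
  rw [← Nat.not_even_iff_odd]
  intro h3
  have h4 : (2 : ℤ) ∣ 2 * k + 1 := dvd_trans (by exact_mod_cast h3.two_dvd) h2
  omega

end Cfsg.Agent.HL.Bart
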