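import Mathlib
import Cfsg.Prelude.Def_HallClasses
import Cfsg.Agent.H12_Hall

/-!
Consequences of the odd order theorem (as a hypothesis `FT`): Schur–Zassenhaus conjugacy without
solvability, `D_π` for π-separable groups, `C_π` closed under extensions.
-/

set_option autoImplicit false
open Subgroup Cfsg
open scoped commutatorElement Pointwise

universe u

namespace Cfsg.Agent.HL.FTC

/-- the odd order theorem -/
def FT : Prop := ∀ (H : Type u) [Group H] [Finite H], Odd (Nat.card H) → Group.IsSolvable H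

variable {G : Type u} [Group G] [Finite G] {π : Set ℕ}

theorem solv_or (ft : FT.{u}) {A K : Subgroup G} (h : (Nat.card A).Coprime (Nat.card K)) :
    Group.IsSolvable A ∨ Group.IsSolvable K := by
  rcases Nat.even_or_odd (Nat.card A) with h1 | h1
  · right
    refine ft K ?_
    rcases Nat.even_or_odd (Nat.card K) with h2 | h2
    · exfalso
      have := Nat.dvd_gcd h1.two_dvd h2.two_dvd
      rw [h] at this
      omega
    · exact h2
  · left; exact ft A h1

/-- `n` involves only primes in `π`. -/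
def Pi (π : Set ℕ) (n : ℕ) : Prop := ∀ p : ℕ, p.Prime → p ∣ n → p ∈ π

theorem Pi.dvd {m n : ℕ} (h : Pi π n) (hd : m ∣ n) : Pi π m := fun p hp hm => h p hp (hm.trans hd)

theorem Pi.mul {m n : ℕ} (h : Pi π m) (h' : Pi π n) : Pi π (m * n) := fun p hp hm => by
  rcases (hp.dvd_mul).1 hm with h1 | h1
  · exact h p hp h1
  · exact h' p hp h1

theorem Pi.coprime {m n : ℕ} (h : Pi π m) (h' : Pi πᶜ n) : m.Coprime n :=
  Nat.coprime_of_dvd fun p hp h1 h2 => (h' p hp h2) (h p hp h1)

theorem hall_iff {K : Subgroup G} : IsPiHall π K ↔ Pi π (Nat.card K) ∧ Pi πᶜ K.index :=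
  ⟨fun h => ⟨h.1, fun p hp hd hpi => h.2 p hp hpi hd⟩, fun h => ⟨h.1, fun p hp hpi hd => h.2 p hp hd hpi⟩⟩

theorem card_of_hall {K L : Subgroup G} (hK : IsPiHall π K) (hL : IsPiHall π L) : Nat.card K = Nat.card L := by
  have h1 := hall_iff.1 hK
  have h2 := hall_iff.1 hL
  have e1 := K.card_mul_index
  have e2 := L.card_mul_index
  apply Nat.dvd_antisymm
  · refine (h1.1.coprime h2.2).dvd_of_dvd_mul_right (n := L.index) ?_
    rw [e2, ← e1]; exact dvd_mul_right _ _
  · refine (h2.1.coprime h1.2).dvd_of_dvd_mul_right (n := K.index) ?_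
    rw [e1, ← e2]; exact dvd_mul_right _ _

theorem hall_of_card {K L : Subgroup G} (hK : IsPiHall π K) (h : Nat.card L = Nat.card K) : IsPiHall π L := by
  have h1 := hall_iff.1 hK
  refine hall_iff.2 ⟨h ▸ h1.1, ?_⟩
  have e1 := K.card_mul_index
  have e2 := L.card_mul_index
  rw [h, ← e1] at e2
  rw [Nat.eq_of_mul_eq_mul_left Nat.card_pos e2]
  exact h1.2

/-- the full `D_π` property -/
structure D (π : Set ℕ) (G : Type u) [Group G] : Prop where
  ex : ∃ K : Subgroup G, IsPiHall π K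
  cj : ∀ K L : Subgroup G, IsPiHall π K → IsPiHall π L → ∃ g : G, L = K.map (MulAut.conj g).toMonoidHom
  dom : ∀ U : Subgroup G, Pi π (Nat.card U) → ∃ K : Subgroup G, IsPiHall π K ∧ U ≤ K

theorem hall_map (N : Subgroup G) [N.Normal] {K : Subgroup G} (hK : IsPiHall π K) :
    IsPiHall π (K.map (QuotientGroup.mk' N)) := by
  have h1 := hall_iff.1 hK
  exact hall_iff.2 ⟨h1.1.dvd (Subgroup.card_map_dvd K _), h1.2.dvd (Subgroup.index_map_dvd K (QuotientGroup.mk'_surjective N))⟩

theorem card_comap (N : Subgroup G) [N.Normal] (K : Subgroup (G ⧸ N)) :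
    Nat.card (K.comap (QuotientGroup.mk' N)) = Nat.card K * Nat.card N := by
  have h1 := (K.comap (QuotientGroup.mk' N)).card_mul_index
  have h2 := K.card_mul_index
  rw [Subgroup.index_comap_of_surjective _ (QuotientGroup.mk'_surjective N)] at h1
  have h3 : Nat.card G = Nat.card (G ⧸ N) * Nat.card N := Subgroup.card_eq_card_quotient_mul_card_subgroup N
  rw [h3, ← h2] at h1
  have h4 : 0 < K.index := Nat.pos_of_ne_zero K.index_ne_zero_of_finite
  apply Nat.eq_of_mul_eq_mul_right h4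
  rw [h1]; ring

theorem comap_map (N : Subgroup G) [N.Normal] (K : Subgroup G) :
    (K.map (QuotientGroup.mk' N)).comap (QuotientGroup.mk' N) = K ⊔ N := by
  rw [Subgroup.comap_map_eq, QuotientGroup.ker_mk']

theorem le_of_hall {N K : Subgroup G} [N.Normal] (hN : Pi π (Nat.card N)) (hK : IsPiHall π K) : N ≤ K := by
  have h1 := hall_iff.1 hK
  have h2 : Pi π (Nat.card ↥(K ⊔ N)) := by
    rw [← comap_map N K, card_comap]
    exact (h1.1.dvd (Subgroup.card_map_dvd K _)).mul hN
  have h3 : K.relIndex (K ⊔ N) = 1 := by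
    have h4 : K.relIndex (K ⊔ N) ∣ K.index := Subgroup.relIndex_dvd_index_of_le le_sup_left
    have h5 : K.relIndex (K ⊔ N) ∣ Nat.card ↥(K ⊔ N) := Subgroup.relIndex_dvd_card _ _
    by_contra hne
    obtain ⟨p, hp, hd⟩ := Nat.exists_prime_and_dvd hne
    exact h1.2 p hp (hd.trans h4) (h2 p hp (hd.trans h5))
  exact le_sup_right.trans (Subgroup.relIndex_eq_one.1 h3)

theorem mapconj_eq (g : G) (K : Subgroup G) : K.map (MulAut.conj g).toMonoidHom = MulAut.conj g • K := rfl

theorem hall_conj' {K : Subgroup G} (hK : IsPiHall π K) (g : G) : IsPiHall π (K.map (MulAut.conj g).toMonoidHom) :=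
  hall_of_card hK (Subgroup.card_map_of_injective (MulAut.conj g).injective)

theorem map_conj_mk (N : Subgroup G) [N.Normal] (K : Subgroup G) (g : G) :
    (K.map (MulAut.conj g).toMonoidHom).map (QuotientGroup.mk' N) =
      (K.map (QuotientGroup.mk' N)).map (MulAut.conj (QuotientGroup.mk' N g)).toMonoidHom := by
  ext x
  simp only [Subgroup.mem_map]
  constructor
  · rintro ⟨_, ⟨k, hk, rfl⟩, rfl⟩
    exact ⟨_, ⟨k, hk, rfl⟩, by simp⟩
  · rintro ⟨_, ⟨k, hk, rfl⟩, rfl⟩
    exact ⟨_, ⟨k, hk, rfl⟩, by simp⟩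

theorem sup_of_map_eq (N : Subgroup G) [N.Normal] {K L : Subgroup G}
    (h : K.map (QuotientGroup.mk' N) = L.map (QuotientGroup.mk' N)) : K ⊔ N = L ⊔ N := by
  rw [← comap_map, ← comap_map, h]

theorem D_pi (N : Subgroup G) [N.Normal] (hN : Pi π (Nat.card N)) (h : D π (G ⧸ N)) : D π G where
  ex := by
    obtain ⟨K, hK⟩ := h.ex
    refine ⟨K.comap (QuotientGroup.mk' N), hall_iff.2 ⟨?_, ?_⟩⟩
    · rw [card_comap]; exact (hall_iff.1 hK).1.mul hN
    · rw [Subgroup.index_comap_of_surjective _ (QuotientGroup.mk'_surjective N)]; exact (hall_iff.1 hK).2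
  cj := by
    intro K L hK hL
    obtain ⟨g', hg⟩ := h.cj _ _ (hall_map N hK) (hall_map N hL)
    obtain ⟨g, rfl⟩ := QuotientGroup.mk'_surjective N g'
    refine ⟨g, ?_⟩
    rw [← map_conj_mk] at hg
    have h1 := sup_of_map_eq N hg
    rwa [sup_eq_left.2 (le_of_hall hN hL), sup_eq_left.2 (le_of_hall hN (hall_conj' hK g))] at h1
  dom := by
    intro U hU
    obtain ⟨K, hK, hUK⟩ := h.dom (U.map (QuotientGroup.mk' N)) (hU.dvd (Subgroup.card_map_dvd U _))
    refine ⟨K.comap (QuotientGroup.mk' N), hall_iff.2 ⟨?_, ?_⟩, Subgroup.map_le_iff_le_comap.1 hUK⟩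
    · rw [card_comap]; exact (hall_iff.1 hK).1.mul hN
    · rw [Subgroup.index_comap_of_surjective _ (QuotientGroup.mk'_surjective N)]; exact (hall_iff.1 hK).2

theorem lift_hall (N : Subgroup G) [N.Normal] (hN : Pi πᶜ (Nat.card N)) {K : Subgroup (G ⧸ N)} (hK : IsPiHall π K) :
    ∃ B : Subgroup G, IsPiHall π B ∧ B ⊔ N = K.comap (QuotientGroup.mk' N) := by
  set L := K.comap (QuotientGroup.mk' N) with hL
  have hNL : N ≤ L := fun x hx => by
    rw [hL, Subgroup.mem_comap, (QuotientGroup.eq_one_iff (N := N) x).2 hx |> fun h => (by exact h : QuotientGroup.mk' N x = 1)]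
    exact one_mem _
  have hc : Nat.card L = Nat.card K * Nat.card N := card_comap N K
  have hr : N.relIndex L = Nat.card K := by
    have := H12.Hall.relIndex_mul hNL
    rw [hc] at this
    exact Nat.eq_of_mul_eq_mul_right Nat.card_pos this
  obtain ⟨B, hBL, hBc, hBN, hs⟩ := H1.Coprime.sz_exists hNL (by rw [Subgroup.normalizer_eq_top]; exact le_top)
    (by rw [hr]; exact ((hall_iff.1 hK).1.coprime hN).symm)
  refine ⟨B, hall_iff.2 ⟨by rw [hBc, hr]; exact (hall_iff.1 hK).1, ?_⟩, hs⟩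
  have h1 := B.card_mul_index
  have h3 : Nat.card G = Nat.card (G ⧸ N) * Nat.card N := Subgroup.card_eq_card_quotient_mul_card_subgroup N
  rw [h3, ← K.card_mul_index, hBc, hr, mul_assoc] at h1
  rw [Nat.eq_of_mul_eq_mul_left Nat.card_pos h1]
  exact Pi.mul (hall_iff.1 hK).2 hN

theorem D_pi' (ft : FT.{u}) (N : Subgroup G) [N.Normal] (hN : Pi πᶜ (Nat.card N)) (h : D π (G ⧸ N)) : D π G where
  ex := by
    obtain ⟨K, hK⟩ := h.ex
    obtain ⟨B, hB, -⟩ := lift_hall N hN hK
    exact ⟨B, hB⟩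
  cj := by
    intro K L hK hL
    obtain ⟨g', hg⟩ := h.cj _ _ (hall_map N hK) (hall_map N hL)
    obtain ⟨g, rfl⟩ := QuotientGroup.mk'_surjective N g'
    rw [← map_conj_mk] at hg
    have h1 := sup_of_map_eq N hg
    have hK' := hall_conj' hK g
    obtain ⟨k, -, hk⟩ := H1.Coprime.sz_internal (A := K.map (MulAut.conj g).toMonoidHom) (B := L) (K := N)
      (by rw [Subgroup.normalizer_eq_top]; exact le_top) (le_sup_left.trans h1.le) (card_of_hall hL hK')
      ((hall_iff.1 hK').1.coprime hN) (solv_or ft ((hall_iff.1 hK').1.coprime hN))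
    refine ⟨k * g, ?_⟩
    rw [← hk, mapconj_eq, mapconj_eq, ← mul_smul, ← map_mul]
  dom := by
    intro U hU
    obtain ⟨K, hK, hUK⟩ := h.dom (U.map (QuotientGroup.mk' N)) (hU.dvd (Subgroup.card_map_dvd U _))
    obtain ⟨B, hB, hBN⟩ := lift_hall N hN hK
    have hUB : U ≤ B ⊔ N := by rw [hBN]; exact Subgroup.map_le_iff_le_comap.1 hUK
    have hnn : ∀ X : Subgroup G, X ≤ normalizer (N : Set G) := fun X => by
      rw [Subgroup.normalizer_eq_top]; exact le_top
    have hVN : B ⊓ (U ⊔ N) ⊔ N = U ⊔ N := by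
      apply le_antisymm (sup_le inf_le_right le_sup_right)
      have h2 : U ⊔ N ≤ B ⊔ N := sup_le hUB le_sup_right
      intro x hx
      have hx' := h2 hx
      rw [Subgroup.mem_sup_of_normal_right] at hx'
      obtain ⟨b, hb, n, hn, rfl⟩ := hx'
      refine Subgroup.mul_mem _ (Subgroup.mem_sup_left ⟨hb, ?_⟩) (Subgroup.mem_sup_right hn)
      have := mul_mem hx (inv_mem (Subgroup.mem_sup_right hn : n ∈ U ⊔ N))
      simpa using this
    have hVpi : Pi π (Nat.card ↥(B ⊓ (U ⊔ N))) := (hall_iff.1 hB).1.dvd (Subgroup.card_dvd_of_le inf_le_left)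
    have c1 : Nat.card ↥(U ⊔ N) = Nat.card U * Nat.card N :=
      H1.Coprime.card_sup_of_le_normalizer (hnn U) (H1.Basic.disjoint_of_coprime_card (hU.coprime hN))
    have c2 : Nat.card ↥(B ⊓ (U ⊔ N) ⊔ N) = Nat.card ↥(B ⊓ (U ⊔ N)) * Nat.card N :=
      H1.Coprime.card_sup_of_le_normalizer (hnn _) (H1.Basic.disjoint_of_coprime_card (hVpi.coprime hN))
    have c3 : Nat.card U = Nat.card ↥(B ⊓ (U ⊔ N)) := by
      rw [hVN, c1] at c2
      exact Nat.eq_of_mul_eq_mul_right Nat.card_pos c2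
    obtain ⟨k, -, hk⟩ := H1.Coprime.sz_internal (A := B ⊓ (U ⊔ N)) (B := U) (K := N)
      (hnn _) (by rw [hVN]; exact le_sup_left) c3 (hVpi.coprime hN) (solv_or ft (hVpi.coprime hN))
    refine ⟨B.map (MulAut.conj k).toMonoidHom, hall_conj' hB k, ?_⟩
    rw [← hk, mapconj_eq]
    exact Subgroup.map_mono inf_le_left

theorem D_one (h : Nat.card G = 1) : D π G where
  ex := ⟨⊥, hall_iff.2 ⟨fun p hp hd => absurd (by simpa using hd) hp.one_lt.ne', fun p hp hd => by
    rw [Subgroup.index_bot, h] at hd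
    exact absurd (Nat.dvd_one.1 hd) hp.one_lt.ne'⟩⟩
  cj := fun K L _ _ => ⟨1, by
    have : Subsingleton G := (Nat.card_eq_one_iff_unique.1 h).1
    ext x
    rw [Subsingleton.elim x 1]
    exact iff_of_true (one_mem _) (one_mem _)⟩
  dom := fun U hU => ⟨⊥, hall_iff.2 ⟨fun p hp hd => absurd (by simpa using hd) hp.one_lt.ne', fun p hp hd => by
    rw [Subgroup.index_bot, h] at hd
    exact absurd (Nat.dvd_one.1 hd) hp.one_lt.ne'⟩, fun x _ => by
      have : Subsingleton G := (Nat.card_eq_one_iff_unique.1 h).1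
      rw [Subsingleton.elim x 1]
      exact one_mem _⟩

theorem D_chain (ft : FT.{u}) (n : ℕ) : ∀ (G : Type u) [Group G] [Finite G] (H : Fin (n + 1) → Subgroup G),
    H 0 = ⊥ → H (Fin.last n) = ⊤ → Monotone H → (∀ i, (H i).Normal) →
      (∀ i : Fin n, Pi π ((H i.castSucc).relIndex (H i.succ)) ∨ Pi πᶜ ((H i.castSucc).relIndex (H i.succ))) →
      D π G := by
  induction n with
  | zero =>
    intro G _ _ H h0 h1 _ _ _
    apply D_one
    have : (⊥ : Subgroup G) = ⊤ := by rw [← h0, ← h1]; rfl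
    rw [← Subgroup.card_top (G := G), ← this, Subgroup.card_bot]
  | succ n ih =>
    intro G _ _ H h0 h1 hm hn hs
    set N := H 1 with hN
    haveI : N.Normal := hn 1
    have hc : (H (Fin.castSucc (0 : Fin (n + 1)))).relIndex (H (Fin.succ (0 : Fin (n + 1)))) = Nat.card N := by
      have e1 : (Fin.castSucc (0 : Fin (n + 1))) = 0 := rfl
      have e2 : (Fin.succ (0 : Fin (n + 1))) = 1 := rfl
      rw [e1, e2, h0, Subgroup.relIndex_bot_left]
    have hD : D π (G ⧸ N) := by
      refine ih (G ⧸ N) (fun i => (H i.succ).map (QuotientGroup.mk' N)) ?_ ?_ ?_ ?_ ?_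
      · show (H (Fin.succ 0)).map (QuotientGroup.mk' N) = ⊥
        have e2 : (Fin.succ (0 : Fin (n + 1))) = 1 := rfl
        rw [e2, Subgroup.map_eq_bot_iff, QuotientGroup.ker_mk']
      · show (H (Fin.succ (Fin.last n))).map (QuotientGroup.mk' N) = ⊤
        rw [Fin.succ_last, h1, Subgroup.map_top_of_surjective _ (QuotientGroup.mk'_surjective N)]
      · intro i j hij
        exact Subgroup.map_mono (hm (Fin.succ_le_succ_iff.2 hij))
      · intro i
        exact (hn _).map _ (QuotientGroup.mk'_surjective N)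
      · intro i
        have hd : ((H i.castSucc.succ).map (QuotientGroup.mk' N)).relIndex ((H i.succ.succ).map (QuotientGroup.mk' N)) ∣
            (H i.castSucc.succ).relIndex (H i.succ.succ) :=
          H12.Hall.relIndex_map_dvd' _ (hm (Fin.succ_le_succ_iff.2 i.castSucc_lt_succ.le))
        rcases hs i.succ with h | h
        · exact Or.inl (h.dvd hd)
        · exact Or.inr (h.dvd hd)
    rcases hs 0 with h | h
    · rw [hc] at h; exact D_pi N h hD
    · rw [hc] at h; exact D_pi' ft N h hD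

/-- three step version -/
theorem D_three (ft : FT.{u}) (H M : Subgroup G) [H.Normal] [M.Normal] (hHM : H ≤ M)
    (h1 : Pi π (Nat.card H)) (h2 : Pi πᶜ (H.relIndex M)) (h3 : Pi π M.index) : D π G := by
  haveI : (M.map (QuotientGroup.mk' H)).Normal := Subgroup.Normal.map inferInstance _ (QuotientGroup.mk'_surjective H)
  refine D_pi H h1 (D_pi' ft (M.map (QuotientGroup.mk' H)) ?_ (?_ : D π _))
  · have : Nat.card (M.map (QuotientGroup.mk' H)) ∣ H.relIndex M := by
      have e : ((⊥ : Subgroup (G ⧸ H))).relIndex (M.map (QuotientGroup.mk' H)) ∣ H.relIndex M := by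
        have := H12.Hall.relIndex_map_dvd' (QuotientGroup.mk' H) hHM
        rwa [show H.map (QuotientGroup.mk' H) = ⊥ from by rw [Subgroup.map_eq_bot_iff, QuotientGroup.ker_mk']] at this
      rwa [Subgroup.relIndex_bot_left] at e
    exact h2.dvd this
  · have h4 : Pi π (Nat.card ((G ⧸ H) ⧸ (M.map (QuotientGroup.mk' H)))) := by
      have : Nat.card ((G ⧸ H) ⧸ (M.map (QuotientGroup.mk' H))) = (M.map (QuotientGroup.mk' H)).index := rfl
      rw [this]
      exact h3.dvd (Subgroup.index_map_dvd M (QuotientGroup.mk'_surjective H))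
    have ht : IsPiHall π (⊤ : Subgroup ((G ⧸ H) ⧸ (M.map (QuotientGroup.mk' H)))) :=
      hall_iff.2 ⟨by rw [Subgroup.card_top]; exact h4, fun p hp hd => by
        rw [Subgroup.index_top] at hd
        exact absurd (Nat.dvd_one.1 hd) hp.one_lt.ne'⟩
    have hall : ∀ K, IsPiHall π K → K = (⊤ : Subgroup ((G ⧸ H) ⧸ (M.map (QuotientGroup.mk' H)))) := fun K hK =>
      Subgroup.eq_top_of_card_eq _ (by rw [card_of_hall hK ht, Subgroup.card_top])
    exact ⟨⟨⊤, ht⟩, fun K L hK hL => ⟨1, by rw [hall K hK, hall L hL, Subgroup.map_top_of_surjective _ (MulAut.conj 1).surjective]⟩,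
      fun U _ => ⟨⊤, ht, le_top⟩⟩

end Cfsg.Agent.HL.FTC
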