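import Mathlib
import Cfsg.Agent.HL_Mat24

set_option autoImplicit false

/-! Sylow 2-subgroups of the Mathieu groups are self-normalizing. -/

namespace Cfsg.Agent.HL.Mat

open Cfsg Cfsg.Agent.H7.Golay Cfsg.Agent.H7.Oct Cfsg.Agent.H7.M24 Cfsg.Agent.H14.M24Eng Cfsg.Agent.H14.M24Gen
open scoped Pointwise

theorem mat_norm {M : Subgroup (Equiv.Perm GolayPt)} {as : List (List ℕ)} {es : List (ℕ × List ℕ)}
    (hM : Has M as) (hpc : pcOK as es = true) {m : ℕ} (hm : Odd m) (hcM : Nat.card M = 2 ^ as.length * m)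
    (hcard : Nat.card (gp as) = 2 ^ as.length)
    (hN : ∀ N : Subgroup (Equiv.Perm GolayPt), N ≤ M → St N (gp as) [] → IsPGroup 2 N) (S : Sylow 2 M) :
    Subgroup.normalizer ((S : Subgroup M) : Set M) = (S : Subgroup M) := by
  have hfact : Fact (Nat.Prime 2) := ⟨Nat.prime_two⟩
  obtain ⟨hw, hpg⟩ := pc_spec hM hpc
  have hle : gp as ≤ M := gp_le hM
  have hpg' : IsPGroup 2 ((gp as).subgroupOf M) := by
    have e := Subgroup.subgroupOfEquivOfLe hle
    exact hpg.of_equiv e.symm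
  have hcS : Nat.card ((gp as).subgroupOf M) = 2 ^ as.length := by
    rw [Nat.card_congr (Subgroup.subgroupOfEquivOfLe hle).toEquiv, hcard]
  have hidx : ¬ 2 ∣ ((gp as).subgroupOf M).index := by
    have h1 := ((gp as).subgroupOf M).card_mul_index
    rw [hcS, hcM] at h1
    have h2 : ((gp as).subgroupOf M).index = m := Nat.eq_of_mul_eq_mul_left (by positivity) h1
    rw [h2]
    intro h3
    exact (Nat.not_even_iff_odd.2 hm) (even_iff_two_dvd.2 h3)
  let S0 : Sylow 2 M := hpg'.toSylow hidx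
  have hS0 : (S0 : Subgroup M) = (gp as).subgroupOf M := rfl
  have hpN : IsPGroup 2 (Subgroup.normalizer ((S0 : Subgroup M) : Set M)) := by
    have hN2 := hN ((Subgroup.normalizer ((S0 : Subgroup M) : Set M)).map M.subtype) (by
      rintro _ ⟨x, -, rfl⟩; exact x.2) ⟨?_, ?_, hpg, fun _ _ x hx => by simp at hx⟩
    · intro ⟨g, hg⟩
      obtain ⟨k, hk⟩ := hN2 ⟨(g : Equiv.Perm GolayPt), ⟨g, hg, rfl⟩⟩
      refine ⟨k, Subtype.ext (Subtype.ext ?_)⟩
      have h5 : (g : Equiv.Perm GolayPt) ^ 2 ^ k = 1 := congrArg Subtype.val hk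
      exact h5
    · intro x hx
      exact ⟨⟨x, hle hx⟩, Subgroup.le_normalizer (show (⟨x, hle hx⟩ : M) ∈ (gp as).subgroupOf M from hx), rfl⟩
    · rintro _ ⟨n, hn, rfl⟩ x hx
      have := (Subgroup.mem_normalizer_iff.1 hn ⟨x, hle hx⟩).1 (show (⟨x, hle hx⟩ : M) ∈ (gp as).subgroupOf M from hx)
      exact this
  have h0 : Subgroup.normalizer ((S0 : Subgroup M) : Set M) = (S0 : Subgroup M) := S0.is_maximal' hpN Subgroup.le_normalizer
  obtain ⟨g, hg⟩ := MulAction.exists_smul_eq M S0 S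
  rw [← hg]
  apply le_antisymm _ Subgroup.le_normalizer
  intro x hx
  have h1 : g⁻¹ * x * g ∈ Subgroup.normalizer ((S0 : Subgroup M) : Set M) := by
    rw [Subgroup.mem_normalizer_iff] at hx ⊢
    intro y
    have h2 := hx (g * y * g⁻¹)
    have h3 : ∀ w : M, w ∈ ((g • S0 : Sylow 2 M) : Subgroup M) ↔ g⁻¹ * w * g ∈ (S0 : Subgroup M) := by
      intro w
      rw [Sylow.coe_subgroup_smul, Subgroup.mem_pointwise_smul_iff_inv_smul_mem]
      simp [MulAut.smul_def, ← map_inv]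
    rw [h3, h3] at h2
    have e1 : g⁻¹ * (g * y * g⁻¹) * g = y := by group
    have e2 : g⁻¹ * (x * (g * y * g⁻¹) * x⁻¹) * g = g⁻¹ * x * g * y * (g⁻¹ * x * g)⁻¹ := by group
    rw [e1, e2] at h2
    exact h2
  rw [h0] at h1
  rw [Sylow.coe_subgroup_smul, Subgroup.mem_pointwise_smul_iff_inv_smul_mem]
  simpa [MulAut.smul_def, ← map_inv] using h1

theorem norm_sylow24 (S : Sylow 2 M24) : Subgroup.normalizer ((S : Subgroup M24) : Set M24) = (S : Subgroup M24) :=
  mat_norm hs24 pc24 (m := 239085) (by decide) (by rw [card_M24]; decide +kernel) cd24 norm24 S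

end Cfsg.Agent.HL.Mat
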