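import Mathlib
import Cfsg.Agent.HL_FTC
import Cfsg.Agent.H1_MtB
import Cfsg.Agent.H27_FusGrp
import Cfsg.Agent.S0949
import Cfsg.Agent.S0071
import Cfsg.Agent.H1_Wiel
import Cfsg.Agent.H11_Cores

/-! Metacyclic Sylow 2-subgroup with a cyclic quotient of order > 2 (modulo the odd order theorem). -/

set_option autoImplicit false
set_option linter.unusedSectionVars false
open Subgroup Cfsg
open scoped commutatorElement Pointwise

universe u

namespace Cfsg.Agent.HL.Meta

open HL.FTC

variable {G : Type u} [Group G] [Finite G]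

theorem solv_of_compl (ft : FT.{u}) (S : Sylow 2 G) (h : ∃ N : Subgroup G, N.Normal ∧ N.IsComplement' (S : Subgroup G)) :
    Group.IsSolvable G := by
  obtain ⟨N, hN, hc⟩ := h
  have h1 : Nat.card N = (S : Subgroup G).index := by
    have e1 := hc.card_mul
    have e2 := (S : Subgroup G).card_mul_index
    rw [← e2, mul_comm (Nat.card (S : Subgroup G))] at e1
    exact Nat.eq_of_mul_eq_mul_right Nat.card_pos e1
  have h2 : Odd (Nat.card N) := by
    rw [h1, ← Nat.not_even_iff_odd, even_iff_two_dvd]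
    exact S.not_dvd_index
  refine H1.Wiel.solvable_of_normal_quotient (N := N) (ft N h2) ?_
  let e := hc.symm.QuotientMulEquiv
  haveI : Group.IsNilpotent (S : Subgroup G) := S.isPGroup'.isNilpotent
  have h3 : Group.IsSolvable (S : Subgroup G) := inferInstance
  exact Group.isSolvable_of_isSolvable_injective (f := e.toMonoidHom) e.injective

theorem compl_of_inner (S : Sylow 2 G)
    (h : ∀ P : Subgroup G, (groupFusionSystem (S : Subgroup G)).Hom P = (innerFusionSystem (S : Subgroup G)).Hom P) :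
    ∃ N : Subgroup G, N.Normal ∧ N.IsComplement' (S : Subgroup G) := by
  rw [S0071.result S]
  intro Q hQ g hg hcop
  have hgx : ∀ x ∈ Q, g * x * g⁻¹ ∈ Q := fun x hx => (Subgroup.mem_normalizer_iff.1 hg x).1 hx
  let φ : Q →* G := ((MulAut.conj g).toMonoidHom).comp Q.subtype
  have hφ : φ ∈ (groupFusionSystem (S : Subgroup G)).Hom Q :=
    ⟨hQ, fun x => hQ (hgx x x.2), g, fun x => rfl⟩
  rw [h Q] at hφ
  obtain ⟨-, s, hs, hsx⟩ := hφ
  have hs1 : ∀ x ∈ Q, g * x * g⁻¹ = s * x * s⁻¹ := fun x hx => hsx ⟨x, hx⟩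
  have hpow : ∀ n : ℕ, ∀ x ∈ Q, g ^ n * x * (g ^ n)⁻¹ = s ^ n * x * (s ^ n)⁻¹ ∧ g ^ n * x * (g ^ n)⁻¹ ∈ Q := by
    intro n
    induction n with
    | zero => intro x hx; simpa using hx
    | succ n ih =>
      intro x hx
      obtain ⟨h1, h2⟩ := ih x hx
      have e1 : g ^ (n + 1) * x * (g ^ (n + 1))⁻¹ = g * (g ^ n * x * (g ^ n)⁻¹) * g⁻¹ := by
        rw [pow_succ']; group
      have e2 : s ^ (n + 1) * x * (s ^ (n + 1))⁻¹ = s * (s ^ n * x * (s ^ n)⁻¹) * s⁻¹ := by
        rw [pow_succ']; group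
      refine ⟨?_, ?_⟩
      · rw [e1, e2, ← h1]; exact hs1 _ h2
      · rw [e1]; exact hgx _ h2
  have hso : ∀ x ∈ Q, Commute (s ^ orderOf g) x := by
    intro x hx
    have h1 := (hpow (orderOf g) x hx).1
    rw [pow_orderOf_eq_one] at h1
    simp only [one_mul, inv_one, mul_one] at h1
    show s ^ orderOf g * x = x * s ^ orderOf g
    conv_rhs => rw [h1]
    group
  have hc2 : (orderOf g).Coprime (orderOf s) := by
    obtain ⟨k, hk⟩ := S.isPGroup' ⟨s, hs⟩
    have h2 : s ^ 2 ^ k = 1 := by simpa using congrArg Subtype.val hk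
    exact (hcop.pow_right k).coprime_dvd_right (orderOf_dvd_of_pow_eq_one h2)
  obtain ⟨m, hm⟩ := exists_pow_eq_self_of_coprime hc2
  rw [Subgroup.mem_centralizer_iff]
  intro x hx
  have h3 : Commute s x := by
    rw [← hm]; exact (hso x hx).pow_left m
  have h4 := hs1 x hx
  rw [h3.eq] at h4
  calc x * g = (x * s * s⁻¹) * g := by group
    _ = (g * x * g⁻¹) * g := by rw [← h4]
    _ = g * x := by group

theorem card_le_two {C : Type*} [Group C] [Finite C] (hC : IsCyclic C) (h : ∀ c : C, c ^ 2 = 1) : Nat.card C ≤ 2 := by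
  obtain ⟨g, hg⟩ := hC.exists_generator
  rw [← orderOf_eq_card_of_forall_mem_zpowers hg]
  exact orderOf_le_of_pow_eq_one (by norm_num) (h g)

section quot
variable {S C : Type*} [Group S] [Group C] (f : S →* C) (hf : Function.Surjective f) (hc : ∀ a b : C, a * b = b * a)
include hf hc

theorem dih (m : ℕ) (e : S ≃* DihedralGroup m) (c : C) : c ^ 2 = 1 := by
  obtain ⟨s, rfl⟩ := hf c
  have key : ∀ d : DihedralGroup m, f (e.symm d) ^ 2 = 1 := by
    intro d
    rcases d with i | i
    · have h1 : DihedralGroup.sr (0 : ZMod m) * DihedralGroup.r i * (DihedralGroup.sr 0)⁻¹ = (DihedralGroup.r i)⁻¹ := by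
        simp
      have h2 := congrArg (fun x => f (e.symm x)) h1
      simp only [map_mul, map_inv] at h2
      rw [hc (f (e.symm (DihedralGroup.sr 0)))] at h2
      rw [mul_assoc, mul_inv_cancel, mul_one] at h2
      rw [pow_two]
      nth_rewrite 1 [h2]
      exact inv_mul_cancel _
    · have h1 : (DihedralGroup.sr i) ^ 2 = 1 := by rw [pow_two, DihedralGroup.sr_mul_self]
      have h2 := congrArg (fun x => f (e.symm x)) h1
      simpa using h2
  have := key (e s)
  rwa [e.symm_apply_apply] at this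

theorem quat (m : ℕ) (hm : Even m) (e : S ≃* QuaternionGroup m) (c : C) : c ^ 2 = 1 := by
  obtain ⟨s, rfl⟩ := hf c
  have key0 : ∀ i, f (e.symm (QuaternionGroup.a i)) ^ 2 = 1 := by
    intro i
    have h1 : QuaternionGroup.xa (0 : ZMod (2 * m)) * QuaternionGroup.a i * (QuaternionGroup.xa 0)⁻¹ = (QuaternionGroup.a i)⁻¹ := by
      rw [mul_inv_eq_iff_eq_mul]
      show _ = QuaternionGroup.a (-i) * QuaternionGroup.xa 0
      rw [QuaternionGroup.xa_mul_a, QuaternionGroup.a_mul_xa]
      simp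
    have h2 := congrArg (fun x => f (e.symm x)) h1
    simp only [map_mul, map_inv] at h2
    rw [hc (f (e.symm (QuaternionGroup.xa 0)))] at h2
    rw [mul_assoc, mul_inv_cancel, mul_one] at h2
    rw [pow_two]
    nth_rewrite 1 [h2]
    exact inv_mul_cancel _
  have key : ∀ d : QuaternionGroup m, f (e.symm d) ^ 2 = 1 := by
    intro d
    rcases d with i | i
    · exact key0 i
    · have h1 : (QuaternionGroup.xa i) ^ 2 = QuaternionGroup.a (m : ZMod (2 * m)) := QuaternionGroup.xa_sq i
      have h2 := congrArg (fun x => f (e.symm x)) h1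
      simp only [map_pow] at h2
      rw [h2]
      obtain ⟨j, rfl⟩ := hm
      have h3 : QuaternionGroup.a ((j + j : ℕ) : ZMod (2 * (j + j))) = (QuaternionGroup.a (j : ZMod (2 * (j + j)))) ^ 2 := by
        rw [pow_two, QuaternionGroup.a_mul_a]; push_cast; rfl
      rw [h3, map_pow, map_pow]
      exact key0 _
  have := key (e s)
  rwa [e.symm_apply_apply] at this

theorem semi [Finite S] (hq : IsQuasiDihedral S) (c : C) : c ^ 2 = 1 := by
  obtain ⟨n, hn, hcard, x, y, hx, hy, hxy⟩ := hq
  have hx2 : f x ^ 2 = 1 := by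
    have h2 := congrArg f hxy
    simp only [map_mul, map_inv, map_pow] at h2
    rw [hc (f y), mul_assoc, mul_inv_cancel, mul_one] at h2
    obtain ⟨k, rfl⟩ : ∃ k, n = k + 3 := ⟨n - 3, by omega⟩
    have h4 : f x ^ (2 * (2 ^ (k + 1) - 1)) = 1 := by
      have h5 : 2 ^ (k + 3 - 1) - 1 = 2 * (2 ^ (k + 1) - 1) + 1 := by
        have : 2 ^ (k + 3 - 1) = 2 * 2 ^ (k + 1) := by rw [show k + 3 - 1 = (k + 1) + 1 from rfl, pow_succ]; ring
        have h7 : 0 < 2 ^ (k + 1) := by positivity
        omega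
      rw [h5, pow_succ] at h2
      exact mul_right_cancel (b := f x) (by rw [one_mul]; exact h2.symm)
    have h6 : f x ^ 2 ^ (k + 3) = 1 := by rw [← map_pow, ← hx, pow_orderOf_eq_one, map_one]
    have h8 : orderOf (f x) ∣ Nat.gcd (2 * (2 ^ (k + 1) - 1)) (2 ^ (k + 3)) :=
      Nat.dvd_gcd (orderOf_dvd_of_pow_eq_one h4) (orderOf_dvd_of_pow_eq_one h6)
    have h9 : Nat.gcd (2 * (2 ^ (k + 1) - 1)) (2 ^ (k + 3)) = 2 := by
      have e1 : 2 ^ (k + 3) = 2 * 2 ^ (k + 2) := by rw [pow_succ]; ring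
      rw [e1, Nat.gcd_mul_left]
      have e2 : Nat.gcd (2 ^ (k + 1) - 1) (2 ^ (k + 2)) = 1 := by
        apply Nat.Coprime.pow_right
        rw [Nat.coprime_two_right]
        refine Nat.Even.sub_odd (by exact Nat.one_le_two_pow) ?_ odd_one
        exact (Nat.even_pow.2 ⟨even_two, by omega⟩)
      rw [e2]
    rw [h9] at h8
    exact orderOf_dvd_iff_pow_eq_one.1 h8
  have hy2 : f y ^ 2 = 1 := by rw [← map_pow, ← hy, pow_orderOf_eq_one, map_one]
  have hidx : (Subgroup.zpowers x).index = 2 := by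
    have h1 := (Subgroup.zpowers x).card_mul_index
    rw [Nat.card_zpowers, hx, hcard, pow_succ] at h1
    exact Nat.eq_of_mul_eq_mul_left (by positivity) h1
  have hyx : y ∉ Subgroup.zpowers x := by
    intro hmem
    have h1 : y * x * y⁻¹ = x := by
      obtain ⟨i, rfl⟩ := Subgroup.mem_zpowers_iff.1 hmem
      have : Commute (x ^ i) x := (Commute.refl x).zpow_left i
      rw [this.eq]; group
    rw [h1] at hxy
    have h2 : x ^ (2 ^ (n - 1) - 2) = 1 := by
      obtain ⟨k, rfl⟩ : ∃ k, n = k + 3 := ⟨n - 3, by omega⟩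
      have h7 : 2 ^ (k + 3 - 1) - 1 = (2 ^ (k + 3 - 1) - 2) + 1 := by
        have : 2 ^ (k + 3 - 1) = 4 * 2 ^ k := by rw [show k + 3 - 1 = (k + 1) + 1 from rfl, pow_succ, pow_succ]; ring
        have h7 : 0 < 2 ^ k := by positivity
        omega
      rw [h7, pow_succ] at hxy
      exact mul_right_cancel (b := x) (by rw [one_mul]; exact hxy.symm)
    have h3 := orderOf_dvd_of_pow_eq_one h2
    rw [hx] at h3
    obtain ⟨k, rfl⟩ : ∃ k, n = k + 3 := ⟨n - 3, by omega⟩
    have h4 : 2 ^ (k + 3 - 1) = 4 * 2 ^ k := by rw [show k + 3 - 1 = (k + 1) + 1 from rfl, pow_succ, pow_succ]; ring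
    have h5 : 2 ^ (k + 3) = 8 * 2 ^ k := by rw [pow_add]; ring
    rw [h4, h5] at h3
    have h7 : 0 < 2 ^ k := by positivity
    have h8 := Nat.le_of_dvd (by omega) h3
    omega
  have key : ∀ s ∈ Subgroup.zpowers x, f s ^ 2 = 1 := by
    intro s hs
    obtain ⟨i, rfl⟩ := Subgroup.mem_zpowers_iff.1 hs
    rw [map_zpow, ← zpow_natCast, ← zpow_mul, mul_comm, zpow_mul, zpow_natCast, hx2, one_zpow]
  obtain ⟨s, rfl⟩ := hf c
  by_cases hs : s ∈ Subgroup.zpowers x
  · exact key s hs
  · have h1 : s * y ∈ Subgroup.zpowers x := by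
      rw [Subgroup.mul_mem_iff_of_index_two hidx]
      exact iff_of_false hs hyx
    have h2 := key _ h1
    rw [map_mul] at h2
    have h3 : (f s * f y) ^ 2 = f s ^ 2 * f y ^ 2 := (show Commute (f s) (f y) from hc _ _).mul_pow 2
    rw [h3, hy2, mul_one] at h2
    exact h2

end quot

theorem odd_iff_coprime {n : ℕ} : Odd n ↔ n.Coprime 2 := (Nat.coprime_two_right).symm

theorem homo (ft : FT.{u}) (S : Sylow 2 G) (n : ℕ) (hn : 2 ≤ n)
    (e : (S : Subgroup G) ≃* Multiplicative (ZMod (2 ^ n)) × Multiplicative (ZMod (2 ^ n))) : Group.IsSolvable G := by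
  set K := pPrimeCore 2 G with hK
  have hKodd : Odd (Nat.card K) := odd_iff_coprime.2 (H11.Cores.pPrimeCore_coprime 2)
  refine H1.Wiel.solvable_of_normal_quotient (N := K) (ft K hKodd) ?_
  set f := QuotientGroup.mk' K with hf
  set P := S.mapSurjective (QuotientGroup.mk'_surjective K) with hP
  have hPc : (P : Subgroup (G ⧸ K)) = (S : Subgroup G).map f := rfl
  have hdis : (S : Subgroup G) ⊓ K = ⊥ := H1.Basic.disjoint_of_coprime_card (by
    obtain ⟨k, hk⟩ := IsPGroup.iff_card.1 S.isPGroup'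
    rw [hk]; exact ((Nat.coprime_two_left).2 hKodd).pow_left k)
  have hinj : Function.Injective (f.subgroupMap (S : Subgroup G)) := by
    intro a b hab
    have h1 : f (a : G) = f (b : G) := congrArg Subtype.val hab
    have h2 : f ((a : G)⁻¹ * b) = 1 := by rw [map_mul, map_inv, h1, inv_mul_cancel]
    have h3 : (a : G)⁻¹ * b ∈ (S : Subgroup G) ⊓ K := Subgroup.mem_inf.2
      ⟨Subgroup.mul_mem _ (Subgroup.inv_mem _ a.2) b.2, (QuotientGroup.eq_one_iff _).1 h2⟩
    rw [hdis, Subgroup.mem_bot, inv_mul_eq_one] at h3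
    exact Subtype.ext h3
  let e1 : (S : Subgroup G) ≃* (P : Subgroup (G ⧸ K)) := MulEquiv.ofBijective (f.subgroupMap (S : Subgroup G))
    ⟨hinj, f.subgroupMap_surjective _⟩
  have hO : ∀ N : Subgroup (G ⧸ K), N.Normal → Odd (Nat.card N) → N = ⊥ := by
    intro N hN hNo
    have h1 : N ≤ pPrimeCore 2 (G ⧸ K) := by
      haveI := hN
      exact H11.Cores.le_pPrimeCore 2 (odd_iff_coprime.1 hNo)
    rw [H11.Cores.pPrimeCore_quotient] at h1
    exact le_bot_iff.1 h1
  obtain ⟨hPn, -, hidx⟩ := S0949.result P n hn (e1.symm.trans (e.trans (MulEquiv.prodMultiplicative _ _).symm)) hO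
  refine H1.Wiel.solvable_of_normal_quotient (N := (P : Subgroup (G ⧸ K))) ?_ ?_
  · haveI : Group.IsNilpotent (P : Subgroup (G ⧸ K)) := P.isPGroup'.isNilpotent
    infer_instance
  · have h1 : Nat.card ((G ⧸ K) ⧸ (P : Subgroup (G ⧸ K))) = (P : Subgroup (G ⧸ K)).index := rfl
    apply ft
    rw [h1]
    rcases hidx with h | h <;> rw [h] <;> decide

theorem main (ft : FT.{u}) (S : Sylow 2 G) (N : Subgroup ↥(S : Subgroup G)) [hN : N.Normal] (hNc : IsCyclic N)
    (hQc : IsCyclic (↥(S : Subgroup G) ⧸ N)) (hQ : 2 < Nat.card (↥(S : Subgroup G) ⧸ N)) : Group.IsSolvable G := by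
  have hcomm : ∀ a b : (↥(S : Subgroup G) ⧸ N), a * b = b * a := by
    letI := IsCyclic.commGroup (α := (↥(S : Subgroup G) ⧸ N))
    intro a b
    obtain ⟨g, hg⟩ := hQc.exists_generator
    obtain ⟨i, rfl⟩ := Subgroup.mem_zpowers_iff.1 (hg a)
    obtain ⟨j, rfl⟩ := Subgroup.mem_zpowers_iff.1 (hg b)
    exact (Commute.refl g).zpow_zpow i j
  have hnot : ¬ ∀ c : (↥(S : Subgroup G) ⧸ N), c ^ 2 = 1 := fun h => by
    have := card_le_two hQc h
    omega
  have hsurj := QuotientGroup.mk'_surjective N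
  by_cases hcyc : IsCyclic (S : Subgroup G)
  · refine solv_of_compl ft S ?_
    by_cases h2 : 2 ∣ Nat.card G
    · have hmin : (Nat.card G).minFac = 2 := by
        rw [Nat.minFac_eq_two_iff]; exact h2
      exact ⟨_, inferInstance, hcyc.isComplement' hmin⟩
    · exfalso
      have h1 : Nat.card (S : Subgroup G) = 1 := by
        obtain ⟨k, hk⟩ := IsPGroup.iff_card.1 S.isPGroup'
        rcases Nat.eq_zero_or_pos k with rfl | hk0
        · simpa using hk
        · exact absurd ((dvd_pow_self 2 hk0.ne').trans (hk ▸ Subgroup.card_subgroup_dvd_card _)) h2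
      have h3 : Nat.card (↥(S : Subgroup G) ⧸ N) ∣ Nat.card (S : Subgroup G) := Subgroup.card_quotient_dvd_card N
      rw [h1] at h3
      have := Nat.le_of_dvd one_pos h3
      omega
  · by_cases hh : ∃ n : ℕ, Nonempty ((S : Subgroup G) ≃* Multiplicative (ZMod (2 ^ n)) × Multiplicative (ZMod (2 ^ n)))
    · obtain ⟨n, ⟨e⟩⟩ := hh
      rcases Nat.lt_or_ge n 2 with hn | hn
      · exfalso
        apply hnot
        intro c
        obtain ⟨s, rfl⟩ := hsurj c
        have h1 : s ^ 2 = 1 := by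
          apply e.injective
          rw [map_pow, map_one]
          have : ∀ x : Multiplicative (ZMod (2 ^ n)), x ^ 2 = 1 := by
            intro x
            have h2 : x ^ Nat.card (Multiplicative (ZMod (2 ^ n))) = 1 := pow_card_eq_one'
            have h3 : Nat.card (Multiplicative (ZMod (2 ^ n))) = 2 ^ n := by
              rw [Nat.card_congr Multiplicative.toAdd, Nat.card_zmod]
            rw [h3] at h2
            have h4 : 2 ^ n ∣ 2 := by
              interval_cases n <;> norm_num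
            obtain ⟨r, hr⟩ := h4
            calc x ^ 2 = x ^ (2 ^ n * r) := congrArg (fun i => x ^ i) hr
              _ = 1 := by rw [pow_mul, h2, one_pow]
          exact Prod.ext (this _) (this _)
        rw [← map_pow, h1, map_one]
      · exact homo ft S n hn e
    · by_cases hd : ∃ m : ℕ, Nonempty ((S : Subgroup G) ≃* DihedralGroup m)
      · obtain ⟨m, ⟨e⟩⟩ := hd
        exact absurd (dih _ hsurj hcomm m e) hnot
      by_cases hq : ∃ m : ℕ, Nonempty ((S : Subgroup G) ≃* QuaternionGroup m)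
      · obtain ⟨m, ⟨e⟩⟩ := hq
        rcases Nat.even_or_odd m with hm | hm
        · exact absurd (quat _ hsurj hcomm m hm e) hnot
        · exfalso
          haveI : NeZero m := ⟨by rintro rfl; exact absurd hm (by decide)⟩
          have h1 : Nat.card (S : Subgroup G) = 4 * m := by
            rw [Nat.card_congr e.toEquiv, Nat.card_eq_fintype_card, QuaternionGroup.card]
          obtain ⟨k, hk⟩ := IsPGroup.iff_card.1 S.isPGroup'
          have h2 : m ∣ 2 ^ k := by rw [← hk, h1]; exact dvd_mul_left _ _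
          obtain ⟨i, -, hi⟩ := (Nat.dvd_prime_pow Nat.prime_two).1 h2
          have h3 : m = 1 := by
            rcases Nat.eq_zero_or_pos i with rfl | hi0
            · simpa using hi
            · exfalso
              rw [hi] at hm
              exact (Nat.not_even_iff_odd.2 hm) ((Nat.even_pow).2 ⟨even_two, hi0.ne'⟩)
          subst h3
          haveI := QuaternionGroup.quaternionGroup_one_isCyclic
          exact hcyc (isCyclic_of_surjective e.symm e.symm.surjective)
      by_cases hsd : IsQuasiDihedral (S : Subgroup G)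
      · exact absurd (semi _ hsurj hcomm hsd) hnot
      refine solv_of_compl ft S (compl_of_inner S ?_)
      exact H1.Mt.s5212 S.isPGroup' (H27.Fus.saturated_gfs S) ⟨N, hN, hNc, hQc⟩ hh hd hq hsd

end Cfsg.Agent.HL.Meta
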