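import Cfsg.Agent.HL_SzPart
import Cfsg.Agent.HL_SzModelB

/-! Suzuki groups: nilpotent covers. -/

set_option autoImplicit false
set_option linter.unusedSimpArgs false
open scoped Pointwise MatrixGroups Matrix commutatorElement

namespace Cfsg.Agent.HL.Sz

open Cfsg.Agent.HL.SzAbs Cfsg.Agent.HL.TI

/-- minimal cover -/
def MinCover (G : Type*) [Group G] (𝓐 : Finset (Subgroup G)) : Prop :=
  ((∀ A ∈ 𝓐, A ≠ ⊤) ∧ (∀ g : G, ∃ A ∈ 𝓐, g ∈ A)) ∧
    (∀ 𝓑 : Finset (Subgroup G), (∀ A ∈ 𝓑, A ≠ ⊤) ∧ (∀ g : G, ∃ A ∈ 𝓑, g ∈ A) → 𝓐.card ≤ 𝓑.card) ∧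
      (∀ A ∈ 𝓐, Group.IsNilpotent ↥A)

theorem MinCover.transfer {G H : Type*} [Group G] [Group H] (e : G ≃* H) {𝓐 : Finset (Subgroup H)} (h : MinCover H 𝓐) :
    ∃ 𝓐' : Finset (Subgroup G), MinCover G 𝓐' := by
  classical
  obtain ⟨⟨h1, h2⟩, h3, h4⟩ := h
  refine ⟨𝓐.image (Subgroup.comap e.toMonoidHom), ⟨?_, ?_⟩, ?_, ?_⟩
  · intro A hA
    obtain ⟨B, hB, rfl⟩ := Finset.mem_image.mp hA
    intro h5
    apply h1 B hB
    rw [eq_top_iff]
    intro x _
    have : e.symm x ∈ Subgroup.comap e.toMonoidHom B := by rw [h5]; trivial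
    rw [Subgroup.mem_comap] at this
    change e (e.symm x) ∈ B at this
    rwa [e.apply_symm_apply] at this
  · intro g
    obtain ⟨A, hA, hg⟩ := h2 (e g)
    exact ⟨_, Finset.mem_image_of_mem _ hA, hg⟩
  · rintro 𝓑 ⟨h5, h6⟩
    refine (Finset.card_image_le).trans ?_
    refine (h3 (𝓑.image (Subgroup.comap e.symm.toMonoidHom)) ⟨?_, ?_⟩).trans Finset.card_image_le
    · intro A hA
      obtain ⟨B, hB, rfl⟩ := Finset.mem_image.mp hA
      intro h7
      apply h5 B hB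
      rw [eq_top_iff]
      intro x _
      have : e x ∈ Subgroup.comap e.symm.toMonoidHom B := by rw [h7]; trivial
      rw [Subgroup.mem_comap] at this
      change e.symm (e x) ∈ B at this
      rwa [e.symm_apply_apply] at this
    · intro g
      obtain ⟨A, hA, hg⟩ := h6 (e.symm g)
      exact ⟨_, Finset.mem_image_of_mem _ hA, hg⟩
  · intro A hA
    obtain ⟨B, hB, rfl⟩ := Finset.mem_image.mp hA
    have := h4 B hB
    let f : Subgroup.comap e.toMonoidHom B →* B :=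
      { toFun := fun a => ⟨e a.1, a.2⟩
        map_one' := Subtype.ext (map_one e)
        map_mul' := fun a b => Subtype.ext (map_mul e a.1 b.1) }
    have hf : Function.Injective f := by
      intro a b hab
      exact Subtype.ext (e.injective (congrArg Subtype.val hab))
    exact Subgroup.isNilpotent_of_ker_le_center f (by rw [(MonoidHom.ker_eq_bot_iff f).mpr hf]; exact bot_le)

theorem exists_center {G : Type*} [Group G] (A : Subgroup G) [Group.IsNilpotent A] {a : G} (ha : a ∈ A) (ha1 : a ≠ 1) :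
    ∃ z ∈ A, z ≠ 1 ∧ ∀ b ∈ A, b * z = z * b := by
  have hnt : Nontrivial A := ⟨⟨⟨a, ha⟩, 1, fun h => ha1 (congrArg Subtype.val h)⟩⟩
  have hc : Nontrivial (Subgroup.center A) :=
    (Subgroup.nontrivial_iff_ne_bot _).mpr (Group.IsNilpotent.center_ne_bot A)
  obtain ⟨c, hc1⟩ := exists_ne (1 : Subgroup.center A)
  refine ⟨c.1.1, c.1.2, fun h => hc1 (Subtype.ext (Subtype.ext h)), ?_⟩
  intro b hb
  exact congrArg Subtype.val ((Subgroup.mem_center_iff.mp c.2) ⟨b, hb⟩)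

section

variable {F : Type*} [Field F] {m : ℕ} {θ : F →+* F}

theorem no_cover [Fintype F] (hm : 1 ≤ m) (hF : Fintype.card F = 2 ^ (2 * m + 1)) :
    ¬ ∃ 𝓐 : Finset (Subgroup (Cfsg.Sz F m)), MinCover (Cfsg.Sz F m) 𝓐 := by
  classical
  rintro ⟨𝓐, ⟨h1, h2⟩, h3, h4⟩
  obtain ⟨θ, h, hθ⟩ := exists_theta hF
  haveI : Fintype (Cfsg.Sz F m) := Fintype.ofFinite _
  letI := act hθ
  have H := zd hm hF h hθ
  haveI : Fact (Nat.Prime 2) := ⟨Nat.prime_two⟩
  have hq8 := q_ge hm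
  let u0 : Cfsg.Sz F m := ⟨U θ 0 1, U_mem h hθ _ _⟩
  have hu0 : u0 ≠ 1 := by
    intro hh
    have := congrArg Subtype.val hh
    change U θ 0 1 = 1 at this
    rw [← U_zero θ] at this
    exact one_ne_zero (U_inj this).2
  obtain ⟨k, hk⟩ := exists_unit_ne_one (F := F) hm hF
  let d0 : Cfsg.Sz F m := ⟨D θ k, D_mem h hθ _⟩
  have hd0 : d0 ≠ 1 := by
    intro hh
    have := congrArg Subtype.val hh
    change D θ k = 1 at this
    rw [← D_one θ] at this
    exact hk (D_inj this)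
  -- choose x p with x p • none = p
  have htr : ∀ p : Option (F × F), ∃ x : Cfsg.Sz F m, x • (none : Option (F × F)) = p := by
    intro p
    obtain ⟨x, hx, hxp⟩ := trans_none h hθ p
    exact ⟨⟨x, hx⟩, (act_eq_iff hθ _ _ _).mpr hxp⟩
  choose x hx using htr
  have hcov : ∀ p : Option (F × F), ∃ A ∈ 𝓐, x p * u0 * (x p)⁻¹ ∈ A := fun p => h2 _
  choose f hf using hcov
  obtain ⟨AD, hAD, hdAD⟩ := h2 d0
  -- nilpotent subgroups containing an element of type U
  have keyU : ∀ A ∈ 𝓐, ∀ y : Cfsg.Sz F m, ∀ a ∈ A, a ≠ 1 → y⁻¹ * a * y ∈ Usub h hθ → ∀ b ∈ A, y⁻¹ * b * y ∈ Usub h hθ := by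
    intro A hA y a ha ha1 hay b hb
    have := h4 A hA
    obtain ⟨z, hz, hz1, hzc⟩ := exists_center A ha ha1
    have e1 : y⁻¹ * z * y ∈ Usub h hθ := by
      apply cent_Usub hm hF h hθ _ hay (conj_ne_one ha1)
      rw [mem_cent]
      calc y⁻¹ * z * y * (y⁻¹ * a * y) = y⁻¹ * (z * a) * y := by group
        _ = y⁻¹ * (a * z) * y := by rw [hzc a ha]
        _ = _ := by group
    apply cent_Usub hm hF h hθ _ e1 (conj_ne_one hz1)
    rw [mem_cent]
    calc y⁻¹ * b * y * (y⁻¹ * z * y) = y⁻¹ * (b * z) * y := by group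
      _ = y⁻¹ * (z * b) * y := by rw [hzc b hb]
      _ = _ := by group
  have keyD : ∀ A ∈ 𝓐, ∀ a ∈ A, a ≠ 1 → a ∈ Dsub h hθ → ∀ b ∈ A, b ∈ Dsub h hθ := by
    intro A hA a ha ha1 hay b hb
    have := h4 A hA
    obtain ⟨z, hz, hz1, hzc⟩ := exists_center A ha ha1
    have e1 : z ∈ Dsub h hθ := by
      rw [← cent_Dsub hm hF h hθ _ hay ha1, mem_cent]
      exact (hzc a ha).symm
    rw [← cent_Dsub hm hF h hθ _ e1 hz1, mem_cent]
    exact hzc b hb
  have fixU : ∀ u ∈ Usub h hθ, u • (none : Option (F × F)) = none := by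
    rintro u ⟨a, b, hab⟩
    rw [act_eq_iff hθ, hab, U_none]
  have uniqU : ∀ u ∈ Usub h hθ, u ≠ 1 → ∀ p : Option (F × F), u • p = p → p = none := by
    rintro u ⟨a, b, hab⟩ hu1 p hp
    rcases p with _ | ⟨c, d⟩
    · rfl
    · exfalso
      rw [act_eq_iff hθ, hab, U_some h] at hp
      have h5 := pt_inj θ hp
      simp only [Option.some.injEq, Prod.mk.injEq, add_eq_left] at h5
      obtain ⟨rfl, h6⟩ := h5
      rw [map_zero, zero_mul, add_zero] at h6
      have : b = 0 := by simpa using h6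
      subst this
      rw [U_zero] at hab
      exact hu1 (Subtype.ext hab)
  have fixD : ∀ u ∈ Dsub h hθ, u • (none : Option (F × F)) = none ∧ u • (some (0, 0) : Option (F × F)) = some (0, 0) := by
    intro u hu
    obtain ⟨k, hk⟩ := (mem_Dsub h hθ u).mp hu
    refine ⟨?_, ?_⟩
    · rw [act_eq_iff hθ, hk, D_none]
    · rw [act_eq_iff hθ, hk, D_some h, mul_zero, mul_zero]
  have u_in : ∀ p, (x p)⁻¹ * (x p * u0 * (x p)⁻¹) * x p ∈ Usub h hθ := by
    intro p
    have : (x p)⁻¹ * (x p * u0 * (x p)⁻¹) * x p = u0 := by group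
    rw [this]
    exact ⟨0, 1, rfl⟩
  have u_ne : ∀ p, x p * u0 * (x p)⁻¹ ≠ 1 := by
    intro p hh
    apply hu0
    have : u0 = (x p)⁻¹ * (x p * u0 * (x p)⁻¹) * x p := by group
    rw [this, hh]; group
  -- everything in `f p` is conj into U
  have hfp : ∀ p, ∀ b ∈ f p, (x p)⁻¹ * b * x p ∈ Usub h hθ := fun p b hb =>
    keyU _ (hf p).1 (x p) _ (hf p).2 (u_ne p) (u_in p) b hb
  have hfix_f : ∀ p, ∀ b ∈ f p, b • p = p := by
    intro p b hb
    have h5 := fixU _ (hfp p b hb)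
    rw [mul_smul, mul_smul, hx, inv_smul_eq_iff, hx] at h5
    exact h5
  have huniq_f : ∀ p, ∀ b ∈ f p, b ≠ 1 → ∀ r, b • r = r → r = p := by
    intro p b hb hb1 r hr
    have h5 := uniqU _ (hfp p b hb) (conj_ne_one hb1) ((x p)⁻¹ • r) (by rw [mul_smul, mul_smul, smul_inv_smul, hr])
    rw [inv_smul_eq_iff, hx] at h5
    exact h5
  have hinj : Function.Injective f := by
    intro p r hpr
    have h5 := hfix_f p _ (hf p).2
    have h6 := (hf p).2
    rw [hpr] at h6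
    exact huniq_f r _ h6 (u_ne p) p h5
  let S1 : Finset (Subgroup (Cfsg.Sz F m)) := Finset.univ.image f
  let S2 : Finset (Subgroup (Cfsg.Sz F m)) := 𝓐.filter (fun A => ∃ a ∈ A, a ∈ Fpf (Cfsg.Sz F m) (Option (F × F)))
  have hS1 : S1.card = (2 ^ (2 * m + 1)) ^ 2 + 1 := by
    rw [Finset.card_image_of_injective _ hinj, Finset.card_univ, ← Nat.card_eq_fintype_card, H.cardΩ]
  have hdisj : Disjoint S1 S2 := by
    rw [Finset.disjoint_left]
    intro A hA1 hA2
    obtain ⟨p, -, rfl⟩ := Finset.mem_image.mp hA1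
    obtain ⟨-, a, ha, haf⟩ := Finset.mem_filter.mp hA2
    exact haf p (hfix_f p a ha)
  have hADD : ∀ b ∈ AD, b ∈ Dsub h hθ := keyD AD hAD d0 hdAD hd0 ((mem_Dsub h hθ _).mpr ⟨k, rfl⟩)
  have hAD1 : AD ∉ S1 := by
    intro hh
    obtain ⟨p, -, hp⟩ := Finset.mem_image.mp hh
    have h5 := (hf p).2
    rw [hp] at h5
    have h6 := fixD _ (hADD _ h5)
    have h7 := huniq_f p _ (hf p).2 (u_ne p) _ h6.1
    have h8 := huniq_f p _ (hf p).2 (u_ne p) _ h6.2
    rw [← h7] at h8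
    simp at h8
  have hAD2 : AD ∉ S2 := by
    intro hh
    obtain ⟨-, a, ha, haf⟩ := Finset.mem_filter.mp hh
    exact haf none (fixD a (hADD a ha)).1
  have hle1 : (insert AD (S1 ∪ S2)).card ≤ 𝓐.card := by
    apply Finset.card_le_card
    intro A hA
    rw [Finset.mem_insert, Finset.mem_union] at hA
    rcases hA with rfl | hA | hA
    · exact hAD
    · obtain ⟨p, -, rfl⟩ := Finset.mem_image.mp hA
      exact (hf p).1
    · exact (Finset.mem_filter.mp hA).1
  rw [Finset.card_insert_of_notMem (by rw [Finset.mem_union]; tauto), Finset.card_union_of_disjoint hdisj, hS1] at hle1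
  -- the other cover
  have hle2 := h3 ((Finset.univ.image (fun p : Option (F × F) => MulAction.stabilizer (Cfsg.Sz F m) p)) ∪ S2) ⟨?_, ?_⟩
  · have h5 : ((Finset.univ.image (fun p : Option (F × F) => MulAction.stabilizer (Cfsg.Sz F m) p)) ∪ S2).card ≤
        ((2 ^ (2 * m + 1)) ^ 2 + 1) + S2.card := by
      refine (Finset.card_union_le _ _).trans ?_
      refine Nat.add_le_add_right ?_ _
      refine Finset.card_image_le.trans ?_
      rw [Finset.card_univ, ← Nat.card_eq_fintype_card, H.cardΩ]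
    omega
  · intro A hA
    rw [Finset.mem_union] at hA
    rcases hA with hA | hA
    · obtain ⟨p, -, rfl⟩ := Finset.mem_image.mp hA
      intro htop
      have h5 := H.card_stab p
      rw [htop, Subgroup.card_top, H.cardG] at h5
      have h6 : 0 < (2 ^ (2 * m + 1)) ^ 2 * (2 ^ (2 * m + 1) - 1) := Nat.mul_pos (by positivity) (by omega)
      have h7 : (2 ^ (2 * m + 1)) ^ 2 * (2 ^ (2 * m + 1) - 1) * ((2 ^ (2 * m + 1)) ^ 2 + 1) =
        (2 ^ (2 * m + 1)) ^ 2 * (2 ^ (2 * m + 1) - 1) * (2 ^ (2 * m + 1)) ^ 2 + (2 ^ (2 * m + 1)) ^ 2 * (2 ^ (2 * m + 1) - 1) := by ring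
      rw [h7] at h5
      have : 0 < (2 ^ (2 * m + 1)) ^ 2 * (2 ^ (2 * m + 1) - 1) * (2 ^ (2 * m + 1)) ^ 2 := Nat.mul_pos h6 (by positivity)
      omega
    · exact h1 A (Finset.mem_filter.mp hA).1
  · intro g
    by_cases hg : g ∈ Fpf (Cfsg.Sz F m) (Option (F × F))
    · obtain ⟨A, hA, hgA⟩ := h2 g
      exact ⟨A, Finset.mem_union_right _ (Finset.mem_filter.mpr ⟨hA, g, hgA, hg⟩), hgA⟩
    · simp only [Fpf, Set.mem_ofPred_eq, not_forall, not_not] at hg
      obtain ⟨p, hp⟩ := hg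
      exact ⟨_, Finset.mem_union_left _ (Finset.mem_image_of_mem _ (Finset.mem_univ p)), hp⟩

end

end Cfsg.Agent.HL.Sz
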