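import Cfsg.Agent.HL_SzSubG

/-! Suzuki groups: subfields. -/

set_option autoImplicit false
set_option linter.unusedSimpArgs false
open scoped Pointwise MatrixGroups Matrix commutatorElement

namespace Cfsg.Agent.HL.Sz

open Cfsg.Agent.HL.SzAbs Cfsg.Agent.HL.TI

section

variable {F : Type*} [Field F] {m : ℕ} {θ : F →+* F}

theorem subfield_card [Fintype F] (hF : Fintype.card F = 2 ^ (2 * m + 1)) (K : Subfield F)
    (hK : ∃ k ∈ K, k ≠ 0 ∧ k ≠ 1) : ∃ k : ℕ, 1 ≤ k ∧ Nat.card K = 2 ^ (2 * k + 1) ∧ 2 * k + 1 ∣ 2 * m + 1 := by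
  classical
  haveI : CharP F 2 := by
    obtain ⟨p, hp⟩ := CharP.exists F
    haveI := hp
    obtain ⟨n, hpp, hn⟩ := FiniteField.card F p
    have : p = 2 := by
      have h1 : p ∣ 2 ^ (2 * m + 1) := by rw [← hF, hn]; exact dvd_pow_self _ n.ne_zero
      exact (Nat.prime_dvd_prime_iff_eq hpp Nat.prime_two).mp (hpp.dvd_of_dvd_pow h1)
    subst this; exact hp
  haveI : CharP K 2 := (algebraMap K F).charP (algebraMap K F).injective 2
  haveI : Fintype K := Fintype.ofFinite K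
  obtain ⟨d, _, hd⟩ := FiniteField.card K 2
  have h1 := Module.card_eq_pow_finrank (K := K) (V := F)
  rw [hF, hd, ← pow_mul] at h1
  have h2 := Nat.pow_right_injective (le_refl 2) h1
  have hodd : Odd (d : ℕ) := Odd.of_dvd_nat ⟨m, rfl⟩ ⟨_, h2⟩
  obtain ⟨k, hk⟩ := hodd
  refine ⟨k, ?_, ?_, ?_⟩
  · by_contra h0
    have hk0 : k = 0 := by omega
    obtain ⟨x, hx, hx0, hx1⟩ := hK
    rw [hk, hk0] at hd
    have h3 : ({0, 1, ⟨x, hx⟩} : Finset K).card = 3 := by
      rw [Finset.card_insert_of_notMem, Finset.card_insert_of_notMem, Finset.card_singleton]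
      · simp only [Finset.mem_singleton]
        intro hh
        exact hx1 (congrArg Subtype.val hh).symm
      · simp only [Finset.mem_insert, Finset.mem_singleton]
        rintro (hh | hh)
        · exact zero_ne_one hh
        · exact hx0 (congrArg Subtype.val hh).symm
    have h4 := Finset.card_le_univ ({0, 1, ⟨x, hx⟩} : Finset K)
    rw [h3, hd] at h4
    omega
  · rw [Nat.card_eq_fintype_card, hd, hk]
  · rw [← hk]; exact ⟨_, h2⟩

theorem std_iso [Fintype F] (hm : 1 ≤ m) (hF : Fintype.card F = 2 ^ (2 * m + 1)) (K : Subfield F) {k : ℕ} (hk1 : 1 ≤ k)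
    (hk : Nat.card K = 2 ^ (2 * k + 1)) (hdiv : 2 * k + 1 ∣ 2 * m + 1) {L : Type*} [Field L] [Fintype L]
    (hL : Fintype.card L = 2 ^ (2 * k + 1)) : Nonempty (Std F m K ≃* Cfsg.Sz L k) := by
  haveI : Fintype K := Fintype.ofFinite K
  have h1 : Fintype.card L = Fintype.card K := by rw [hL, ← hk, Nat.card_eq_fintype_card]
  let e : L ≃+* K := FiniteField.ringEquivOfCardEq h1
  let φ : L →+* F := K.subtype.comp e.toRingHom
  have h2 : φ.fieldRange = K := by
    ext x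
    constructor
    · rintro ⟨y, rfl⟩
      exact (e y).2
    · intro hx
      refine ⟨e.symm ⟨x, hx⟩, ?_⟩
      change ((e (e.symm ⟨x, hx⟩) : K) : F) = x
      rw [RingEquiv.apply_symm_apply]
  have h3 := embed hm hF hk1 hL hdiv φ
  rw [h2] at h3
  exact h3

theorem std_top [Fintype F] (hF : Fintype.card F = 2 ^ (2 * m + 1)) (K : Subfield F)
    (hk : Nat.card K = 2 ^ (2 * m + 1)) : Std F m K = ⊤ := by
  have h1 : K = ⊤ := by
    have : ∀ x : F, x ∈ K := by
      have h2 : (K : Set F) = Set.univ := by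
        apply Set.eq_of_subset_of_ncard_le (Set.subset_univ _)
        · rw [Set.ncard_univ, Nat.card_eq_fintype_card, hF, ← hk]; exact le_of_eq rfl
      intro x
      have : x ∈ (K : Set F) := by rw [h2]; trivial
      exact this
    ext x
    exact ⟨fun _ => trivial, fun _ => this x⟩
  rw [h1]
  ext g
  exact ⟨fun _ => trivial, fun _ i j => trivial⟩

/-- subfields of a finite field with the same cardinality agree -/
theorem subfield_eq [Finite F] (K L : Subfield F) (hKL : Nat.card K = Nat.card L) : K = L := by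
  classical
  have key : ∀ K : Subfield F, (K : Set F) = {x : F | x ^ Nat.card K = x} := by
    intro K
    haveI : Fintype K := Fintype.ofFinite K
    have hc1 : 1 < Nat.card K := Finite.one_lt_card
    apply Set.eq_of_subset_of_ncard_le
    · intro x hx
      have := FiniteField.pow_card (⟨x, hx⟩ : K)
      rw [← Nat.card_eq_fintype_card] at this
      exact congrArg Subtype.val this
    · have h1 : {x : F | x ^ Nat.card K = x} ⊆ ((Polynomial.X ^ Nat.card K - Polynomial.X : Polynomial F).roots.toFinset : Set F) := by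
        intro x hx
        rw [Finset.mem_coe, Multiset.mem_toFinset, Polynomial.mem_roots (FiniteField.X_pow_card_sub_X_ne_zero F hc1)]
        simp only [Polynomial.IsRoot.def, Polynomial.eval_sub, Polynomial.eval_pow, Polynomial.eval_X]
        rw [Set.mem_ofPred_eq] at hx
        rw [hx, sub_self]
      have h2 : (K : Set F).ncard = Nat.card K := rfl
      rw [h2]
      refine (Set.ncard_le_ncard h1 (Finset.finite_toSet _)).trans ?_
      rw [Set.ncard_coe_finset]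
      refine (Multiset.toFinset_card_le _).trans ?_
      refine (Polynomial.card_roots' _).trans ?_
      rw [FiniteField.X_pow_card_sub_X_natDegree_eq F hc1]
    · exact Set.toFinite _
  apply SetLike.coe_injective
  rw [key K, key L, hKL]

/-- a perfect subgroup of the Borel subgroup is trivial -/
theorem perfect_borel [Fintype F] (hm : 1 ≤ m) (hF : Fintype.card F = 2 ^ (2 * m + 1)) (h : IsTits θ)
    (hθ : ∀ x, θ x = x ^ (2 ^ (m + 1))) (S : Subgroup (Cfsg.Sz F m)) (hS : ⁅S, S⁆ = S)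
    (hfix : ∀ w ∈ S, w.1 • pt θ none = pt θ none) : S = ⊥ := by
  have h1 : S ≤ Usub h hθ := by
    rw [← hS, Subgroup.commutator_le]
    intro a ha b hb
    obtain ⟨a1, a2, k, hk⟩ := stab_infty hm hF h hθ a.1 a.2 (hfix a ha)
    obtain ⟨b1, b2, l, hl⟩ := stab_infty hm hF h hθ b.1 b.2 (hfix b hb)
    obtain ⟨c, d, hcd⟩ := comm_BB h a1 a2 b1 b2 k l
    refine ⟨c, d, ?_⟩
    rw [← hcd, ← hk, ← hl]; rfl
  have h2 : S ≤ Zsub h hθ := by
    rw [← hS, Subgroup.commutator_le]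
    intro a ha b hb
    obtain ⟨a1, a2, hk⟩ := h1 ha
    obtain ⟨b1, b2, hl⟩ := h1 hb
    obtain ⟨f, hf⟩ := comm_UU h a1 a2 b1 b2
    refine ⟨f, ?_⟩
    rw [← hf, ← hk, ← hl]; rfl
  rw [← le_bot_iff, ← hS, Subgroup.commutator_le]
  intro a ha b hb
  obtain ⟨a1, hk⟩ := h2 ha
  obtain ⟨b1, hl⟩ := h2 hb
  rw [Subgroup.mem_bot]
  apply Subtype.ext
  have := comm_ZZ h a1 b1
  rw [← hk, ← hl] at this
  exact this

/-- a perfect subgroup normalising a cyclic group centralises it -/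
theorem perfect_cyclic {G : Type*} [Group G] (S C : Subgroup G) [IsCyclic C] (hS : ⁅S, S⁆ = S)
    (hn : S ≤ Subgroup.normalizer (C : Set G)) : ∀ s ∈ S, ∀ c ∈ C, s * c = c * s := by
  obtain ⟨⟨g, hgC⟩, hg⟩ := IsCyclic.exists_generator (α := C)
  have hpow : ∀ s ∈ S, ∃ n : ℤ, s * g * s⁻¹ = g ^ n := by
    intro s hs
    have h1 := (Subgroup.mem_normalizer_iff.mp (hn hs) g).mp hgC
    obtain ⟨n, hn⟩ := Subgroup.mem_zpowers_iff.mp (hg ⟨_, h1⟩)
    exact ⟨n, (congrArg Subtype.val hn).symm⟩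
  have hcomm : S ≤ Subgroup.centralizer ({g} : Set G) := by
    rw [← hS, Subgroup.commutator_le]
    intro a ha b hb
    obtain ⟨n, hn⟩ := hpow a⁻¹ (inv_mem ha)
    obtain ⟨k, hk⟩ := hpow b⁻¹ (inv_mem hb)
    have e1 : (a⁻¹ * b⁻¹) * g * (a⁻¹ * b⁻¹)⁻¹ = g ^ (n * k) := by
      have : (a⁻¹ * b⁻¹) * g * (a⁻¹ * b⁻¹)⁻¹ = a⁻¹ * (b⁻¹ * g * b⁻¹⁻¹) * a⁻¹⁻¹ := by group
      rw [this, hk, ← conj_zpow, hn, zpow_mul]
    have e2 : (b⁻¹ * a⁻¹) * g * (b⁻¹ * a⁻¹)⁻¹ = g ^ (n * k) := by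
      have : (b⁻¹ * a⁻¹) * g * (b⁻¹ * a⁻¹)⁻¹ = b⁻¹ * (a⁻¹ * g * a⁻¹⁻¹) * b⁻¹⁻¹ := by group
      rw [this, hn, ← conj_zpow, hk, ← zpow_mul, mul_comm]
    rw [Subgroup.mem_centralizer_singleton_iff]
    have e3 : ⁅a, b⁆ * g * ⁅a, b⁆⁻¹ = g := by
      have : ⁅a, b⁆ * g * ⁅a, b⁆⁻¹ = (b⁻¹ * a⁻¹)⁻¹ * ((a⁻¹ * b⁻¹) * g * (a⁻¹ * b⁻¹)⁻¹) * (b⁻¹ * a⁻¹) := by
        rw [commutatorElement_def]; group
      rw [this, e1, ← e2]; group
    rw [mul_inv_eq_iff_eq_mul] at e3
    exact e3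
  intro s hs c hc
  have h1 := Subgroup.mem_centralizer_singleton_iff.mp (hcomm hs)
  obtain ⟨n, hn⟩ := Subgroup.mem_zpowers_iff.mp (hg ⟨c, hc⟩)
  have h2 : g ^ n = c := congrArg Subtype.val hn
  rw [← h2]
  exact ((show Commute s g from h1).zpow_right n).eq

end

end Cfsg.Agent.HL.Sz
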