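import Cfsg.Agent.HL_SzSubH

/-! Suzuki groups: subfield subgroups up to conjugacy. -/

set_option autoImplicit false
set_option linter.unusedSimpArgs false
open scoped Pointwise MatrixGroups Matrix commutatorElement

namespace Cfsg.Agent.HL.Sz

open Cfsg.Agent.HL.SzAbs Cfsg.Agent.HL.TI

section

variable {F : Type*} [Field F] {m : ℕ} {θ : F →+* F}

/-- a proper perfect subgroup is a conjugate of a subfield subgroup -/
theorem perfect_sub [Fintype F] (hm : 1 ≤ m) (hF : Fintype.card F = 2 ^ (2 * m + 1)) (S : Subgroup (Cfsg.Sz F m))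
    (hS : ⁅S, S⁆ = S) (hS1 : S ≠ ⊥) :
    ∃ (K : Subfield F) (u : Cfsg.Sz F m), (∃ k ∈ K, k ≠ 0 ∧ k ≠ 1) ∧ ∀ x, x ∈ S ↔ u⁻¹ * x * u ∈ Std F m K := by
  obtain ⟨θ, h, hθ⟩ := exists_theta hF
  rcases subgroups hm hF S with ⟨P, hP⟩ | ⟨x, hx1, hxo, hx⟩ | h3
  · exfalso
    obtain ⟨v, hv⟩ := MulAction.exists_smul_eq (Cfsg.Sz F m) (sylU hm hF h hθ) P
    have hv' : (P : Subgroup (Cfsg.Sz F m)) = (Usub h hθ).map (MulAut.conj v).toMonoidHom := by
      rw [← hv, Sylow.coe_subgroup_smul, sylU_coe]; rfl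
    have hmem : ∀ w ∈ S, (v⁻¹ * w * v).1 • pt θ none = pt θ none := by
      intro w hw
      have h1 := hP hw
      rw [hv'] at h1
      have h2 := norm_conj _ v⁻¹ (v⁻¹ * w * v) (by
        have : v⁻¹⁻¹ * (v⁻¹ * w * v) * v⁻¹ = w := by group
        rw [this]; exact h1)
      have h3 : ((Usub h hθ).map (MulAut.conj v).toMonoidHom).map (MulAut.conj v⁻¹).toMonoidHom = Usub h hθ := by
        rw [Subgroup.map_map]
        have : (MulAut.conj v⁻¹).toMonoidHom.comp (MulAut.conj v).toMonoidHom = MonoidHom.id _ := by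
          ext x
          simp [mul_assoc]
        rw [this, Subgroup.map_id]
      rw [h3] at h2
      exact (mem_normalizer_Usub hm hF h hθ _).mp h2
    have hp := perfect_borel hm hF h hθ (S.map (MulAut.conj v⁻¹).toMonoidHom) (by
      rw [← Subgroup.map_commutator, hS]) (by
      rintro _ ⟨w, hw, rfl⟩
      have := hmem w hw
      have e : (MulAut.conj v⁻¹).toMonoidHom w = v⁻¹ * w * v := by
        change v⁻¹ * w * v⁻¹⁻¹ = _
        rw [inv_inv]
      rw [e]; exact this)
    rw [Subgroup.map_eq_bot_iff_of_injective _ (MulAut.conj v⁻¹).injective] at hp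
    exact hS1 hp
  · exfalso
    haveI := (odd_cent hm hF x hx1 hxo).1
    have h1 := perfect_cyclic S (Subgroup.centralizer ({x} : Set (Cfsg.Sz F m))) hS hx
    have h2 : S ≤ Subgroup.centralizer ({x} : Set (Cfsg.Sz F m)) := by
      intro s hs
      rw [Subgroup.mem_centralizer_singleton_iff]
      exact h1 s hs x (Subgroup.mem_centralizer_singleton_iff.mpr rfl)
    apply hS1
    rw [← le_bot_iff, ← hS, Subgroup.commutator_le]
    intro a ha b hb
    have h3 := h1 a ha b (h2 hb)
    rw [Subgroup.mem_bot, commutatorElement_def, h3]; group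
  · exact h3

theorem sub_iso [Fintype F] (hm : 1 ≤ m) (hF : Fintype.card F = 2 ^ (2 * m + 1)) {L : Type*} [Field L] [Fintype L]
    {k : ℕ} (hk : 1 ≤ k) (hL : Fintype.card L = 2 ^ (2 * k + 1)) (S : Subgroup (Cfsg.Sz F m))
    (e : S ≃* Cfsg.Sz L k) :
    ∃ (K : Subfield F) (u : Cfsg.Sz F m), Nat.card K = 2 ^ (2 * k + 1) ∧ ∀ x, x ∈ S ↔ u⁻¹ * x * u ∈ Std F m K := by
  have hperf := perfect hk hL
  have hS : ⁅S, S⁆ = S := by
    have h1 : ⁅(⊤ : Subgroup S), (⊤ : Subgroup S)⁆ = ⊤ := by
      have h2 : (commutator (Cfsg.Sz L k)).map e.symm.toMonoidHom = commutator S := by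
        rw [commutator_def, commutator_def, Subgroup.map_commutator, Subgroup.map_top_of_surjective _ e.symm.surjective]
      have h3 : commutator (Cfsg.Sz L k) = ⊤ := hperf
      rw [h3, Subgroup.map_top_of_surjective _ e.symm.surjective] at h2
      rw [← commutator_def, ← h2]
    have h2 := congrArg (Subgroup.map S.subtype) h1
    rw [Subgroup.map_commutator, ← MonoidHom.range_eq_map, Subgroup.range_subtype] at h2
    exact h2
  have hcardL := card_Sz hk hL
  have hS1 : S ≠ ⊥ := by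
    intro hb
    have h1 : Nat.card S = 1 := by rw [hb]; simp
    rw [Nat.card_congr e.toEquiv, hcardL] at h1
    have h8 := q_ge hk
    have : 1 < (2 ^ (2 * k + 1)) ^ 2 := by nlinarith
    have h9 := Nat.eq_one_of_mul_eq_one_right h1
    have h10 := Nat.eq_one_of_mul_eq_one_right h9
    omega
  obtain ⟨K, u, hK, hu⟩ := perfect_sub hm hF S hS hS1
  refine ⟨K, u, ?_, hu⟩
  obtain ⟨j, hj1, hj, hjd⟩ := subfield_card hF K hK
  haveI : Fintype K := Fintype.ofFinite K
  obtain ⟨e2⟩ := std_iso hm hF K hj1 hj hjd (L := K) (by rw [← Nat.card_eq_fintype_card, hj])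
  have hcard : Nat.card S = Nat.card (Std F m K) := by
    have hmap : S = (Std F m K).map (MulAut.conj u).toMonoidHom := by
      ext x
      rw [hu]
      constructor
      · intro hx
        refine ⟨_, hx, ?_⟩
        change u * (u⁻¹ * x * u) * u⁻¹ = x
        group
      · rintro ⟨y, hy, rfl⟩
        change u⁻¹ * (u * y * u⁻¹) * u ∈ _
        have : u⁻¹ * (u * y * u⁻¹) * u = y := by group
        rw [this]; exact hy
    rw [hmap, Subgroup.card_map_of_injective (MulAut.conj u).injective]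
  have hcardK := card_Sz hj1 (F := K) (by rw [← Nat.card_eq_fintype_card, hj])
  rw [Nat.card_congr e.toEquiv, hcardL, Nat.card_congr e2.toEquiv, hcardK] at hcard
  rw [hj]
  -- monotonicity
  rcases lt_trichotomy k j with hlt | heq | hgt
  · exfalso
    have h1 : 2 ^ (2 * k + 1) < 2 ^ (2 * j + 1) := Nat.pow_lt_pow_right (by omega) (by omega)
    have h8 := q_ge hk
    generalize 2 ^ (2 * k + 1) = a at *
    generalize 2 ^ (2 * j + 1) = b at *
    revert hcard
    apply ne_of_lt
    have : 1 ≤ a := by omega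
    gcongr
  · rw [heq]
  · exfalso
    have h1 : 2 ^ (2 * j + 1) < 2 ^ (2 * k + 1) := Nat.pow_lt_pow_right (by omega) (by omega)
    have h8 := q_ge hj1
    generalize 2 ^ (2 * k + 1) = a at *
    generalize 2 ^ (2 * j + 1) = b at *
    revert hcard
    apply ne_of_gt
    have : 1 ≤ b := by omega
    gcongr

theorem exists_sub [Fintype F] (hm : 1 ≤ m) (hF : Fintype.card F = 2 ^ (2 * m + 1)) {L : Type*} [Field L] [Fintype L]
    {k : ℕ} (hk : 1 ≤ k) (hL : Fintype.card L = 2 ^ (2 * k + 1)) (hdiv : 2 * k + 1 ∣ 2 * m + 1) :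
    ∃ S : Subgroup (Cfsg.Sz F m), Nonempty (S ≃* Cfsg.Sz L k) := by
  haveI h2 : CharP F 2 := by
    obtain ⟨p, hp⟩ := CharP.exists F
    haveI := hp
    obtain ⟨n, hpp, hn⟩ := FiniteField.card F p
    have : p = 2 := by
      have h1 : p ∣ 2 ^ (2 * m + 1) := by rw [← hF, hn]; exact dvd_pow_self _ n.ne_zero
      exact (Nat.prime_dvd_prime_iff_eq hpp Nat.prime_two).mp (hpp.dvd_of_dvd_pow h1)
    subst this; exact hp
  haveI h3 : CharP L 2 := by
    obtain ⟨p, hp⟩ := CharP.exists L
    haveI := hp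
    obtain ⟨n, hpp, hn⟩ := FiniteField.card L p
    have : p = 2 := by
      have h1 : p ∣ 2 ^ (2 * k + 1) := by rw [← hL, hn]; exact dvd_pow_self _ n.ne_zero
      exact (Nat.prime_dvd_prime_iff_eq hpp Nat.prime_two).mp (hpp.dvd_of_dvd_pow h1)
    subst this; exact hp
  letI : Algebra (ZMod 2) F := ZMod.algebra F 2
  letI : Algebra (ZMod 2) L := ZMod.algebra L 2
  have hfF : Module.finrank (ZMod 2) F = 2 * m + 1 := by
    have := Module.card_eq_pow_finrank (K := ZMod 2) (V := F)
    rw [hF, ZMod.card] at this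
    exact (Nat.pow_right_injective (le_refl 2) this).symm
  have hfL : Module.finrank (ZMod 2) L = 2 * k + 1 := by
    have := Module.card_eq_pow_finrank (K := ZMod 2) (V := L)
    rw [hL, ZMod.card] at this
    exact (Nat.pow_right_injective (le_refl 2) this).symm
  have hex : Nonempty (L →ₐ[ZMod 2] F) := by
    apply FiniteField.nonempty_algHom_of_finrank_dvd
    rw [hfF, hfL]; exact hdiv
  obtain ⟨φ⟩ := hex
  exact ⟨_, embed hm hF hk hL hdiv φ.toRingHom⟩

end

end Cfsg.Agent.HL.Sz
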