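import Cfsg.Statements.S0169
import Cfsg.Agent.H3_Clifford2

set_option autoImplicit false
open Cfsg

namespace Cfsg.Agent.S0169

/-- Itô's Theorem on character degrees: the degree of an irreducible complex representation of a finite group divides the index of any abelian normal subgroup. -/
theorem result {G : Type*} [Group G] [Finite G] {V : Type*} [AddCommGroup V] [Module ℂ V] [FiniteDimensional ℂ V] (ρ : Representation ℂ G V) [ρ.IsIrreducible] (H : Subgroup G) [H.Normal] (hH : ∀ a ∈ H, ∀ b ∈ H, a * b = b * a) : Module.finrank ℂ V ∣ H.index := by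
  classical
  have := Fintype.ofFinite G
  have hN : H.Normal := inferInstance
  have hχ : Cfsg.IsIrrCharacter G ρ.character :=
    Cfsg.Agent.H3.CharIrr.isIrr_of_rep ρ inferInstance
  obtain ⟨lam, hlam, hlam0⟩ := Cfsg.Agent.H3.CharMult.exists_constituent_res (H := H) hχ
  have hlam1 : lam 1 = 1 := Cfsg.Agent.H3.CharMult.IsIrr.one_of_comm
    (fun a b => Subtype.ext (hH a a.2 b b.2)) hlam
  set T := Cfsg.Agent.H3.Clifford.inertia hN lam with hT
  have hHT : H ≤ T := Cfsg.Agent.H3.Clifford.le_inertia hN (Cfsg.Agent.H3.CharIrr.IsIrr.isClass hlam)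
  have : Fintype T := Fintype.ofFinite T
  obtain ⟨ψ, hψ, hψind, hψe⟩ := Cfsg.Agent.H3.Clifford.clifford_corr hN hχ hlam hlam0 T rfl hHT
  -- H acts by scalars on ψ
  obtain ⟨n, σ, hσ, hσψ⟩ := hψ
  have hψ : Cfsg.IsIrrCharacter T ψ := ⟨n, σ, hσ, hσψ⟩
  have hHT' : (H.subgroupOf T).Normal := hN.subgroupOf T
  set lam' : H.subgroupOf T → ℂ := fun x => lam ⟨(x : T), Subgroup.mem_subgroupOf.mp x.2⟩ with hlam'
  have hlam'irr : Cfsg.IsIrrCharacter (H.subgroupOf T) lam' :=
    (Cfsg.Agent.H3.CharInd.isIrr_comp_iff (Subgroup.subgroupOfEquivOfLe hHT)).mpr hlam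
  have hres : Cfsg.classInner (fun x : H.subgroupOf T => ψ x) lam' ≠ 0 := by
    have := Cfsg.Agent.H3.Clifford.ci_subgroupOf hHT (fun m : H => ψ ⟨(m : G), hHT m.2⟩) lam
    rw [hψe] at this
    exact fun h => hlam0 (this.symm.trans h)
  have hcl := Cfsg.Agent.H3.Clifford.clifford_invariant hHT' hψ hlam'irr hres (fun g => by
    have h2 : (g : G) ∈ Cfsg.Agent.H3.Clifford.inertia hN lam := g.2
    rw [Cfsg.Agent.H3.Clifford.mem_inertia] at h2
    ext x
    exact congrFun h2 ⟨(x : T), Subgroup.mem_subgroupOf.mp x.2⟩)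
  have hscal : ∀ z ∈ H.subgroupOf T, ∃ c : ℂ, σ z = c • LinearMap.id := by
    intro z hz
    apply (Cfsg.Agent.H3.CharBasic.norm_char_eq_iff σ z).mp
    have h1 := congrFun hcl ⟨z, hz⟩
    have h2 := congrFun hcl 1
    simp only [Pi.smul_apply, smul_eq_mul] at h1 h2
    obtain ⟨f, hf⟩ := Cfsg.Agent.H3.CharInd.IsChar.hom_units_of_one
      (Cfsg.Agent.H3.CharIrr.IsIrr.isCharacter hlam'irr) (show lam' 1 = 1 from hlam1)
    have h3 : ‖lam' ⟨z, hz⟩‖ = 1 := by
      rw [hf]
      apply Cfsg.Agent.H3.CharBasic.norm_eq_one_of_pow (n := Nat.card (H.subgroupOf T))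
        Nat.card_pos.ne'
      rw [← Units.val_pow_eq_pow_val, ← map_pow, pow_card_eq_one', map_one]; rfl
    have h4 : lam' 1 = 1 := hlam1
    rw [h4, mul_one] at h2
    have h5 : ψ ((1 : H.subgroupOf T) : T) = (Module.finrank ℂ (Fin n → ℂ) : ℂ) := by
      rw [← hσψ]
      exact Representation.char_one σ
    rw [hσψ]
    change ‖ψ z‖ = _
    rw [h1, norm_mul, h3, mul_one, ← h2, h5]; simp
  have hdvd := Cfsg.Agent.H3.CharInt.finrank_dvd_index σ hσ (H.subgroupOf T) hscal
  have hdeg : Module.finrank ℂ V = T.index * Module.finrank ℂ (Fin n → ℂ) := by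
    have h1 := congrFun hψind 1
    rw [Cfsg.Agent.H3.CharInd.ind_one, Representation.char_one, ← hσψ, Representation.char_one] at h1
    exact_mod_cast h1.symm
  rw [hdeg, ← Subgroup.relIndex_mul_index hHT, mul_comm T.index]
  exact Nat.mul_dvd_mul_right hdvd _

end Cfsg.Agent.S0169
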