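import Cfsg.Statements.S0186
import Cfsg.Agent.H3_SmallDeg
import Cfsg.Agent.H3_FeitZ

set_option autoImplicit false
open Cfsg

namespace Cfsg.Agent.S0186

open Cfsg.Agent.H3.CharBasic Cfsg.Agent.H3.CharIrr Cfsg.Agent.H3.CharInt Cfsg.Agent.H3.CharCalc
  Cfsg.Agent.H3.CharComplete Cfsg.Agent.H3.CharInd Cfsg.Agent.H3.CharMult Cfsg.Agent.H3.CharQuot

theorem kerTriv {G : Type*} [Group G] [Fintype G] [IsSimpleGroup G] {χ : G → ℂ} (hχ : IsIrrCharacter G χ)
    (hχ1 : χ ≠ fun _ => 1) (g : G) (hg : χ g = χ 1) : g = 1 := by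
  have hn := chKer_normal (IsIrr.isCharacter hχ)
  rcases hn.eq_bot_or_eq_top with h1 | h1
  · have h2 : g ∈ chKer χ (IsIrr.isCharacter hχ) := hg
    rw [h1, Subgroup.mem_bot] at h2
    exact h2
  · exfalso
    have h2 : ∀ x, χ x = χ 1 := fun x => by
      have : x ∈ chKer χ (IsIrr.isCharacter hχ) := by rw [h1]; trivial
      exact this
    have h3 := ci_irr_ne hχ (isIrr_one (G := G)) hχ1
    rw [classInner] at h3
    have h4 := (mul_eq_zero.mp h3).resolve_left (inv_ne_zero (by exact_mod_cast Nat.card_pos.ne'))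
    simp only [map_one, mul_one] at h4
    rw [Finset.sum_congr rfl (fun x _ => h2 x), Finset.sum_const, nsmul_eq_mul, mul_eq_zero] at h4
    rcases h4 with h5 | h5
    · have : (Finset.univ : Finset G).card ≠ 0 := by rw [Finset.card_univ]; exact Fintype.card_ne_zero
      exact this (by exact_mod_cast h5)
    · exact IsIrr.one_ne_zero hχ h5

/-- Let G be a finite simple group of order n and p a prime dividing n. If G has more than n / p^2 conjugacy classes, then every Sylow p-subgroup of G is abelian. -/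
theorem result {G : Type*} [Group G] [Finite G] [IsSimpleGroup G] (p : ℕ) [Fact p.Prime] (hp : p ∣ Nat.card G) (hmany : Nat.card G < p ^ 2 * Nat.card (ConjClasses G)) (P : Sylow p G) (a b : G) (ha : a ∈ P) (hb : b ∈ P) : a * b = b * a := by
  classical
  have hpp : p.Prime := Fact.out
  have := Fintype.ofFinite G
  have := Fintype.ofFinite (IrrCharacter G)
  by_contra hne
  have h2 : p ^ 2 ∣ Nat.card G := by
    obtain ⟨k, hk⟩ := IsPGroup.iff_card.mp P.2
    rcases k with _ | _ | k
    · exfalso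
      rw [pow_zero] at hk
      have h3 := Subgroup.eq_bot_of_card_eq (P : Subgroup G) hk
      have ha' : a ∈ (P : Subgroup G) := ha
      have hb' : b ∈ (P : Subgroup G) := hb
      rw [h3, Subgroup.mem_bot] at ha' hb'
      rw [ha', hb'] at hne
      exact hne rfl
    · exfalso
      rw [zero_add, pow_one] at hk
      have hcyc : IsCyclic P := isCyclic_of_prime_card hk
      have := hcyc.isMulCommutative.is_comm.comm (⟨a, ha⟩ : P) ⟨b, hb⟩
      exact hne (congrArg Subtype.val this)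
    · have h3 := Subgroup.card_subgroup_dvd_card (P : Subgroup G)
      rw [hk] at h3
      exact (pow_dvd_pow p (by omega)).trans h3
  have hdeg : ∀ χ : IrrCharacter G, ∃ d : ℕ, (χ : G → ℂ) 1 = d ∧ 0 < d ∧ (χ ≠ ⟨fun _ => 1, isIrr_one⟩ → p ≤ d) := by
    intro χ
    obtain ⟨d, hd, hd1⟩ := IsIrr.one_eq_nat χ.2
    refine ⟨d, hd1, hd, fun hχ => ?_⟩
    by_contra hlt
    push Not at hlt
    have h3 := Cfsg.Agent.H3.SmallDeg.sylow_small P (IsIrr.isCharacter χ.2) hd1 hlt ha hb
    have h4 := kerTriv χ.2 (fun h => hχ (Subtype.ext h)) _ h3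
    apply hne
    calc a * b = (a * b * a⁻¹ * b⁻¹) * (b * a) := by group
      _ = b * a := by rw [h4, one_mul]
  choose d hd1 hd0 hdp using hdeg
  have hsum : Nat.card G = ∑ χ : IrrCharacter G, d χ ^ 2 := by
    have h3 := sum_sq (G := G)
    have h4 : ((∑ χ : IrrCharacter G, d χ ^ 2 : ℕ) : ℂ) = Nat.card G := by
      rw [← h3]; push_cast
      exact Finset.sum_congr rfl (fun χ _ => by rw [hd1])
    exact_mod_cast h4.symm
  have hK : Nat.card (ConjClasses G) = (Finset.univ : Finset (IrrCharacter G)).card := by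
    rw [← card_irr, Nat.card_eq_fintype_card, Finset.card_univ]
  rw [← Finset.add_sum_erase Finset.univ _ (Finset.mem_univ (⟨fun _ => 1, isIrr_one⟩ : IrrCharacter G))] at hsum
  have h5 : ((Finset.univ : Finset (IrrCharacter G)).card - 1) * p ^ 2 ≤
      ∑ χ ∈ Finset.univ.erase (⟨fun _ => 1, isIrr_one⟩ : IrrCharacter G), d χ ^ 2 := by
    rw [← Finset.card_erase_of_mem (Finset.mem_univ (⟨fun _ => 1, isIrr_one⟩ : IrrCharacter G)), ← smul_eq_mul,
      ← Finset.sum_const]
    exact Finset.sum_le_sum (fun χ hχ => Nat.pow_le_pow_left (hdp χ (Finset.ne_of_mem_erase hχ)) 2)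
  have h6 : 1 ≤ d ⟨fun _ => 1, isIrr_one⟩ ^ 2 := Nat.one_le_pow _ _ (hd0 _)
  rw [← hK] at h5
  obtain ⟨m, hm⟩ := h2
  have hp2 : 0 < p ^ 2 := pow_pos hpp.pos 2
  have h7 : m < Nat.card (ConjClasses G) := by
    by_contra hcon
    push Not at hcon
    have := Nat.mul_le_mul_left (p ^ 2) hcon
    omega
  have h8 : (Nat.card (ConjClasses G) - 1) * p ^ 2 < m * p ^ 2 := by
    have : Nat.card G = m * p ^ 2 := by rw [hm, mul_comm]
    omega
  have h9 := Nat.lt_of_mul_lt_mul_right h8
  omega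

end Cfsg.Agent.S0186
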