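import Cfsg.Statements.S0204
import Mathlib
import Cfsg.Agent.H23_PQuat
import Cfsg.Agent.S0201
import Cfsg.Agent.S0205

set_option autoImplicit false
open Cfsg

namespace Cfsg.Agent.S0204

/-- A non-cyclic finite simple group contains a subgroup which is a Klein four-group; this combines the Odd Order Theorem, Burnside's transfer argument for cyclic Sylow 2-subgroups and the Brauer–Suzuki Theorem. -/
theorem result {G : Type*} [Group G] [Finite G] [IsSimpleGroup G] (hG : ¬ IsCyclic G) : ∃ E : Subgroup G, IsKleinFour E := by
  classical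
  haveI : Fact (Nat.Prime 2) := ⟨Nat.prime_two⟩
  have hnc : ¬ ∀ a b : G, a * b = b * a := by
    intro h
    apply hG
    letI : CommGroup G := { (inferInstance : Group G) with mul_comm := h }
    haveI : IsSimpleGroup G := inferInstance
    exact IsSimpleGroup.isCyclic
  have heven : 2 ∣ Nat.card G := by
    by_contra h2
    have h3 := Cfsg.Agent.S0205.result (G := G) (Nat.odd_iff.2 (by omega))
    exact hnc (IsSimpleGroup.comm_iff_isSolvable.2 h3)
  obtain ⟨P⟩ : Nonempty (Sylow 2 G) := inferInstance
  by_contra hno
  have hab : ∀ A : Subgroup (P : Subgroup G), IsMulCommutative A → (∀ a ∈ A, a ^ 2 = 1) → IsCyclic A := by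
    intro A hA hA2
    by_contra hAc
    -- A has order at least 4
    apply hno
    have hcard : 4 ≤ Nat.card A := by
      by_contra hlt
      push Not at hlt
      apply hAc
      have hp : IsPGroup 2 A := P.isPGroup'.to_subgroup A
      obtain ⟨n, hn⟩ := IsPGroup.iff_card.1 hp
      rcases (show n = 0 ∨ n = 1 ∨ 2 ≤ n by omega) with h | h | h
      · rw [h, pow_zero] at hn
        haveI : Subsingleton A := (Nat.card_eq_one_iff_unique.1 hn).1
        infer_instance
      · rw [h, pow_one] at hn
        exact isCyclic_of_prime_card hn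
      · exfalso
        have : 2 ^ 2 ≤ 2 ^ n := Nat.pow_le_pow_right (by norm_num) h
        omega
    have hp : IsPGroup 2 A := P.isPGroup'.to_subgroup A
    obtain ⟨n, hn⟩ := IsPGroup.iff_card.1 hp
    have hn2 : 2 ≤ n := by
      by_contra h
      have h1 : 2 ^ n ≤ 2 ^ 1 := Nat.pow_le_pow_right (by norm_num) (by omega)
      omega
    obtain ⟨B, hB⟩ := Sylow.exists_subgroup_card_pow_prime (G := A) 2 (n := 2) (by rw [hn]; exact pow_dvd_pow 2 hn2)
    let f : A →* G := (P : Subgroup G).subtype.comp A.subtype
    have hf : Function.Injective f := (P : Subgroup G).subtype_injective.comp A.subtype_injective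
    refine ⟨B.map f, ⟨?_, ?_⟩⟩
    · rw [Subgroup.card_map_of_injective hf, hB]; norm_num
    · have he : ∀ g : B.map f, g ^ 2 = 1 := by
        rintro ⟨_, b, hb, rfl⟩
        apply Subtype.ext
        have := hA2 (b : P) b.2
        change (f b) ^ 2 = 1
        rw [← map_pow]
        have hb2 : b ^ 2 = 1 := Subtype.ext this
        rw [hb2, map_one]
      have h1 : Monoid.exponent (B.map f) ∣ 2 := Monoid.exponent_dvd_of_forall_pow_eq_one he
      rcases (Nat.dvd_prime Nat.prime_two).1 h1 with h2 | h2
      · rw [Monoid.exp_eq_one_iff] at h2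
        have h3 : Nat.card (B.map f) = 4 := by rw [Subgroup.card_map_of_injective hf, hB]; norm_num
        haveI := h2
        rw [Nat.card_of_subsingleton (1 : B.map f)] at h3
        norm_num at h3
      · exact h2
  have hcases : IsCyclic (P : Subgroup G) ∨ ∃ n : ℕ, Nonempty ((P : Subgroup G) ≃* QuaternionGroup (2 ^ (n + 1))) := by
    rcases Cfsg.Agent.H23.PQuat.cyclic_or_quaternion_of_abelian P.isPGroup' hab with hc | ⟨_, n, ⟨e⟩⟩
    · exact Or.inl hc
    · cases n with
      | zero =>
        left
        haveI : IsCyclic (QuaternionGroup (2 ^ 0)) := by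
          rw [pow_zero]
          exact QuaternionGroup.quaternionGroup_one_isCyclic
        exact isCyclic_of_surjective e.symm e.symm.surjective
      | succ n => exact Or.inr ⟨n, ⟨e⟩⟩
  rcases hcases with hc | ⟨n, ⟨e⟩⟩
  · -- cyclic
    have hmin : (Nat.card G).minFac = 2 := (Nat.minFac_eq_two_iff _).2 heven
    have hcomp := hc.isComplement' hmin
    set N := (MonoidHom.transferSylow P (hc.normalizer_le_centralizer hmin)).ker
    have hNn : N.Normal := inferInstance
    rcases hNn.eq_bot_or_eq_top with h1 | h1
    · rw [h1] at hcomp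
      have h2 := Subgroup.isComplement'_bot_left.1 hcomp
      apply hnc
      intro a b
      have ha : a ∈ (P : Subgroup G) := by rw [h2]; trivial
      have hb : b ∈ (P : Subgroup G) := by rw [h2]; trivial
      have := hc.commGroup.mul_comm (⟨a, ha⟩ : P) ⟨b, hb⟩
      exact congrArg Subtype.val this
    · rw [h1] at hcomp
      have h2 := Subgroup.isComplement'_top_left.1 hcomp
      have h3 := P.dvd_card_of_dvd_card heven
      rw [h2, Subgroup.card_bot] at h3
      norm_num at h3
  · have hodd : ∀ N : Subgroup G, N.Normal → Odd (Nat.card N) → N = ⊥ := by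
      intro N hN hNo
      rcases hN.eq_bot_or_eq_top with h1 | h1
      · exact h1
      · exfalso
        rw [h1, Subgroup.card_top] at hNo
        rw [← Nat.not_even_iff_odd, even_iff_two_dvd] at hNo
        exact hNo heven
    have hz := Cfsg.Agent.S0201.result P n e hodd
    rcases (inferInstance : (Subgroup.center G).Normal).eq_bot_or_eq_top with h1 | h1
    · rw [h1, Subgroup.card_bot] at hz
      norm_num at hz
    · apply hnc
      intro a b
      have : b ∈ Subgroup.center G := by rw [h1]; trivial
      exact Subgroup.mem_center_iff.1 this a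

end Cfsg.Agent.S0204
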