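import Cfsg.Statements.S0214
import Mathlib
import Cfsg.Agent.H4_SE2

set_option autoImplicit false
open Cfsg

namespace Cfsg.Agent.S0214

open Cfsg.Agent.H4.SE Cfsg.Agent.H4.SE2 Cfsg.Agent.H4.Util

/-- Let H be a proper subgroup of the finite group G and P a nontrivial Sylow 2-subgroup of H. Then H is strongly embedded in G if and only if N_G(X) ≤ H for every nontrivial subgroup X of P. -/
theorem result {G : Type*} [Group G] [Finite G] (H : Subgroup G) (hH : H ≠ ⊤) (P : Sylow 2 ↥H) (hP : (P : Subgroup ↥H) ≠ ⊥) : Cfsg.IsStronglyEmbedded H ↔ (∀ X : Subgroup ↥H, X ≤ (P : Subgroup ↥H) → X ≠ ⊥ → Subgroup.normalizer ((X.map H.subtype : Subgroup G) : Set G) ≤ H) := by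
  haveI : Fact (Nat.Prime 2) := ⟨Nat.prime_two⟩
  constructor
  · intro hSE X hXP hXne n hn
    set Y : Subgroup G := X.map H.subtype with hY
    have hYH : Y ≤ H := Subgroup.map_subtype_le _
    have hYp : IsPGroup 2 X := P.isPGroup'.to_le hXP
    have h2X : 2 ∣ Nat.card X := by
      obtain ⟨k, hk⟩ := (IsPGroup.iff_card (p := 2)).mp hYp
      rcases Nat.eq_zero_or_pos k with h0 | h0
      · exfalso
        rw [h0, pow_zero, Subgroup.card_eq_one] at hk
        exact hXne hk
      · rw [hk]; exact dvd_pow_self 2 h0.ne'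
    obtain ⟨s, hs⟩ := exists_prime_orderOf_dvd_card' (G := X) 2 h2X
    have hs2 : orderOf ((s : H) : G) = 2 := by
      rw [Subgroup.orderOf_coe, Subgroup.orderOf_coe]; exact hs
    have hsY : ((s : H) : G) ∈ Y := ⟨s, s.2, rfl⟩
    have hinv := Subgroup.inv_mem _ hn
    have h7 : n⁻¹ * ((s : H) : G) * n ∈ Y := by
      have := (Subgroup.mem_normalizer_iff.mp hinv _).mp hsY
      simpa using this
    exact mem_of_invol hSE hs2 (hYH hsY) (hYH h7)
  · intro hN
    have h2H : 2 ∣ Nat.card H := by
      obtain ⟨k, hk⟩ := (IsPGroup.iff_card (p := 2)).mp P.isPGroup'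
      rcases Nat.eq_zero_or_pos k with h0 | h0
      · exfalso
        rw [h0, pow_zero, Subgroup.card_eq_one] at hk
        exact hP hk
      · exact (dvd_pow_self 2 h0.ne').trans (hk ▸ Subgroup.card_subgroup_dvd_card (P : Subgroup H))
    refine ⟨hH, even_iff_two_dvd.mpr h2H, ?_⟩
    intro g hg
    rw [← Nat.not_even_iff_odd]
    intro heven
    obtain ⟨t, ht⟩ := exists_prime_orderOf_dvd_card' (G := ↥(H ⊓ H.map (MulAut.conj g).toMonoidHom)) 2 heven.two_dvd
    have ht2 : orderOf (t : G) = 2 := by rw [Subgroup.orderOf_coe]; exact ht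
    apply hg
    refine mem_of_good (p := 2) (fun X => X ≠ ⊥) ?_ ?_ H P ?_ g _ (Subgroup.zpowers (t : G)) rfl
      (zpowers_isPGroup (k := 1) (by simpa using ht2)) ?_ ?_ ?_
    · intro X Y hXY hX hY
      exact hX (le_bot_iff.mp (hY ▸ hXY))
    · intro X g hX hm
      apply hX
      rw [eq_bot_iff]
      intro x hx
      have : (MulAut.conj g).toMonoidHom x ∈ X.map (MulAut.conj g).toMonoidHom := ⟨x, hx, rfl⟩
      rw [hm, Subgroup.mem_bot] at this
      rw [Subgroup.mem_bot]
      exact (MulAut.conj g).injective (this.trans (map_one _).symm)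
    · intro X hX hXne
      have h1 : X ≤ H := hX.trans (Subgroup.map_subtype_le _)
      have h2 : (X.subgroupOf H).map H.subtype = X := by
        rw [Subgroup.subgroupOf_map_subtype]; exact inf_eq_left.mpr h1
      have h3 := hN (X.subgroupOf H) (by
        intro x hx
        rw [Subgroup.mem_subgroupOf] at hx
        obtain ⟨y, hy, hyx⟩ := hX hx
        rw [← Subtype.ext hyx]
        exact hy) (by
        intro h
        apply hXne
        rw [← h2, h, Subgroup.map_bot])
      rw [h2] at h3
      exact h3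
    · intro h
      rw [Subgroup.zpowers_eq_bot] at h
      rw [h, orderOf_one] at ht2
      norm_num at ht2
    · rw [Subgroup.zpowers_le]; exact t.2.1
    · rw [Subgroup.zpowers_le]; exact t.2.2

end Cfsg.Agent.S0214
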