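import Cfsg.Statements.S0223
import Mathlib

set_option autoImplicit false
open Cfsg

namespace Cfsg.Agent.S0223

/-- Let H be a proper subgroup of even order of the finite group G. Then H is strongly embedded if and only if (i) C_G(t) ≤ H for every involution t of H and (ii) H controls fusion of its involutions: involutions of H conjugate in G are conjugate in H. -/
theorem result {G : Type*} [Group G] [Finite G] (H : Subgroup G) (hH : H ≠ ⊤) (heven : Even (Nat.card H)) : Cfsg.IsStronglyEmbedded H ↔ ((∀ t ∈ H, orderOf t = 2 → Subgroup.centralizer ({t} : Set G) ≤ H) ∧ (∀ t ∈ H, ∀ s ∈ H, orderOf t = 2 → orderOf s = 2 → IsConj t s → ∃ h ∈ H, h * t * h⁻¹ = s)) := by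
  have key : ∀ g t : G, t ∈ (H ⊓ H.map (MulAut.conj g).toMonoidHom) ↔ t ∈ H ∧ g⁻¹ * t * g ∈ H := by
    intro g t
    rw [Subgroup.mem_inf]
    refine and_congr_right fun _ => ?_
    constructor
    · rintro ⟨y, hy, rfl⟩
      simp only [MulEquiv.toMonoidHom_eq_coe, MonoidHom.coe_coe, MulAut.conj_apply]
      have : g⁻¹ * (g * y * g⁻¹) * g = y := by group
      rw [this]; exact hy
    · intro h
      exact ⟨_, h, by simp only [MulEquiv.toMonoidHom_eq_coe, MonoidHom.coe_coe, MulAut.conj_apply]; group⟩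
  have sq : ∀ (g : G), ¬ Odd (Nat.card ↥(H ⊓ H.map (MulAut.conj g).toMonoidHom)) ↔
      ∃ t : G, orderOf t = 2 ∧ t ∈ H ∧ g⁻¹ * t * g ∈ H := by
    intro g
    constructor
    · intro h
      rw [Nat.not_odd_iff_even] at h
      obtain ⟨t, ht⟩ := exists_prime_orderOf_dvd_card' 2 h.two_dvd
      rw [← Subgroup.orderOf_coe] at ht
      exact ⟨t, ht, (key g t).mp t.2⟩
    · rintro ⟨t, ht, h1⟩ hodd
      have h2 := (key g t).mpr h1
      have h3 := orderOf_dvd_natCard (⟨t, h2⟩ : ↥(H ⊓ H.map (MulAut.conj g).toMonoidHom))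
      rw [← Subgroup.orderOf_coe] at h3
      simp only [ht] at h3
      exact absurd (Odd.of_dvd_nat hodd h3) (by decide)
  constructor
  · rintro ⟨-, -, h⟩
    refine ⟨fun t ht ht2 c hc => ?_, fun t ht s hs ht2 hs2 hts => ?_⟩
    · by_contra hcH
      apply (sq c).mpr _ (h c hcH)
      refine ⟨t, ht2, ht, ?_⟩
      rw [Subgroup.mem_centralizer_singleton_iff] at hc
      have : c⁻¹ * t * c = t := by rw [mul_assoc, ← hc]; group
      rw [this]; exact ht
    · obtain ⟨g, hg⟩ := isConj_iff.mp hts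
      refine ⟨g, ?_, hg⟩
      by_contra hgH
      apply (sq g).mpr _ (h g hgH)
      refine ⟨s, hs2, hs, ?_⟩
      have : g⁻¹ * s * g = t := by rw [← hg]; group
      rw [this]; exact ht
  · rintro ⟨h1, h2⟩
    refine ⟨hH, heven, fun g hg => ?_⟩
    by_contra hodd
    obtain ⟨t, ht, htH, htg⟩ := (sq g).mp hodd
    have ho : orderOf (g⁻¹ * t * g) = 2 := by
      have := orderOf_injective (MulAut.conj g⁻¹).toMonoidHom (MulAut.conj g⁻¹).injective t
      simpa [ht] using this
    obtain ⟨k, hk, hk2⟩ := h2 _ htg _ htH ho ht (isConj_iff.mpr ⟨g, by group⟩)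
    apply hg
    have h3 : k * g⁻¹ ∈ Subgroup.centralizer ({t} : Set G) := by
      rw [Subgroup.mem_centralizer_singleton_iff]
      have : (k * g⁻¹) * t * (k * g⁻¹)⁻¹ = t := by
        calc (k * g⁻¹) * t * (k * g⁻¹)⁻¹ = k * (g⁻¹ * t * g) * k⁻¹ := by group
          _ = t := hk2
      exact mul_inv_eq_iff_eq_mul.mp this
    have h4 := h1 t htH ht h3
    have h5 := H.mul_mem (H.inv_mem h4) hk
    have : (k * g⁻¹)⁻¹ * k = g := by group
    rwa [this] at h5

end Cfsg.Agent.S0223
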