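import Cfsg.Statements.S0224
import Mathlib

set_option autoImplicit false
open Cfsg

namespace Cfsg.Agent.S0224

/-- Let H be a proper subgroup of even order of the finite group G. Then H is strongly embedded if and only if each involution of H fixes exactly one point (namely the coset H) in the action of G on the cosets of H. -/
theorem result {G : Type*} [Group G] [Finite G] (H : Subgroup G) (hH : H ≠ ⊤) (heven : Even (Nat.card H)) : Cfsg.IsStronglyEmbedded H ↔ ∀ t ∈ H, orderOf t = 2 → Nat.card {c : G ⧸ H // t • c = c} = 1 := by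
  have key : ∀ g t : G, t ∈ (H ⊓ H.map (MulAut.conj g).toMonoidHom) ↔ t ∈ H ∧ g⁻¹ * t * g ∈ H := by
    intro g t
    rw [Subgroup.mem_inf]
    refine and_congr_right fun _ => ?_
    constructor
    · rintro ⟨y, hy, rfl⟩
      simp only [MulEquiv.toMonoidHom_eq_coe, MonoidHom.coe_coe, MulAut.conj_apply]
      have : g⁻¹ * (g * y * g⁻¹) * g = y := by group
      rw [this]; exact hy
    · intro h
      exact ⟨_, h, by simp only [MulEquiv.toMonoidHom_eq_coe, MonoidHom.coe_coe, MulAut.conj_apply]; group⟩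
  have sq : ∀ (g : G), ¬ Odd (Nat.card ↥(H ⊓ H.map (MulAut.conj g).toMonoidHom)) ↔
      ∃ t : G, orderOf t = 2 ∧ t ∈ H ∧ g⁻¹ * t * g ∈ H := by
    intro g
    constructor
    · intro h
      rw [Nat.not_odd_iff_even] at h
      obtain ⟨t, ht⟩ := exists_prime_orderOf_dvd_card' 2 h.two_dvd
      rw [← Subgroup.orderOf_coe] at ht
      exact ⟨t, ht, (key g t).mp t.2⟩
    · rintro ⟨t, ht, h1⟩ hodd
      have h2 := (key g t).mpr h1
      have h3 := orderOf_dvd_natCard (⟨t, h2⟩ : ↥(H ⊓ H.map (MulAut.conj g).toMonoidHom))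
      rw [← Subgroup.orderOf_coe] at h3
      simp only [ht] at h3
      exact absurd (Odd.of_dvd_nat hodd h3) (by decide)
  have fix : ∀ (t g : G), t • (QuotientGroup.mk g : G ⧸ H) = QuotientGroup.mk g ↔ g⁻¹ * t * g ∈ H := by
    intro t g
    change (QuotientGroup.mk (t * g) : G ⧸ H) = QuotientGroup.mk g ↔ _
    rw [eq_comm, QuotientGroup.eq, mul_assoc]
  constructor
  · rintro ⟨-, -, h⟩ t ht ht2
    rw [Nat.card_eq_one_iff_unique]
    refine ⟨⟨fun c d => ?_⟩, ⟨⟨(QuotientGroup.mk 1 : G ⧸ H), (fix t 1).mpr (by simpa using ht)⟩⟩⟩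
    have all : ∀ c : {c : G ⧸ H // t • c = c}, c.1 = QuotientGroup.mk 1 := by
      rintro ⟨c, hc⟩
      obtain ⟨g, rfl⟩ := QuotientGroup.mk_surjective c
      have hg := (fix t g).mp hc
      have hgH : g ∈ H := by
        by_contra hgH
        exact (sq g).mpr ⟨t, ht2, ht, hg⟩ (h g hgH)
      simp only
      rw [eq_comm, QuotientGroup.eq]
      simpa using hgH
    exact Subtype.ext ((all c).trans (all d).symm)
  · intro h
    refine ⟨hH, heven, fun g hg => ?_⟩
    by_contra hodd
    obtain ⟨t, ht, htH, htg⟩ := (sq g).mp hodd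
    have h1 := h t htH ht
    rw [Nat.card_eq_one_iff_unique] at h1
    have h2 := h1.1.elim ⟨(QuotientGroup.mk 1 : G ⧸ H), (fix t 1).mpr (by simpa using htH)⟩
      ⟨(QuotientGroup.mk g : G ⧸ H), (fix t g).mpr htg⟩
    have h3 := congrArg Subtype.val h2
    simp only at h3
    rw [QuotientGroup.eq] at h3
    exact hg (by simpa using h3)

end Cfsg.Agent.S0224
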