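import Cfsg.Statements.S0340
import Mathlib
import Cfsg.Agent.H9_ZT9
import Cfsg.Agent.H4_S3
import Cfsg.Agent.H9_Feit
import Cfsg.Agent.S0344

set_option autoImplicit false
open Cfsg

namespace Cfsg.Agent.S0340

/-- Classification of Zassenhaus groups, simple case, order-level form: a finite simple Zassenhaus group is
isomorphic to `PSL₂(F)` for some finite field `F` or is simple of Suzuki order. -/
theorem result {G Ω : Type*} [Group G] [Finite G] [MulAction G Ω]
    [Finite Ω] (hZ : Cfsg.IsZassenhausGroup G Ω) [IsSimpleGroup G] :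
    (∃ (F : Type) (_ : Field F) (_ : Fintype F), Nonempty (G ≃* Matrix.ProjectiveSpecialLinearGroup (Fin 2) F)) ∨ Cfsg.IsSuzuki G := by
  classical
  haveI := Fintype.ofFinite Ω
  have hZG := Cfsg.Agent.H9.ZassA.ZG.of_zass hZ
  obtain ⟨g₀, hg₀, a, b, hab, -, -⟩ := hZ.2.2.2.1
  obtain ⟨K, hK⟩ := Cfsg.Agent.H9.ZassA.exists_ker hZG hab
  have h3 := Cfsg.Agent.H9.ZassC.three_le hZ
  by_cases hodd : Odd (Nat.card ↥(MulAction.stabilizer G a ⊓ MulAction.stabilizer G b))
  · have hcase : (∀ k ∈ K, ∀ l ∈ K, k * l = l * k) ∨ (IsPGroup 2 K ∧ ∃ u v : K, u * v ≠ v * u) := by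
      rcases Cfsg.Agent.H9.Feit.feit hZ hab hodd hK with h | h
      · left
        obtain ⟨p, f, hp, -, hc, -⟩ := (Cfsg.Agent.H9.ZassC.Ker.toBig hZG hab hK h h3).elementary
        exact hc
      · exact Or.inr h
    rcases hcase with hc | ⟨hp, u, v, huv⟩
    · left
      rcases Cfsg.Agent.H9.Feit.main hZ hab hK hc with h | ⟨-, F, i1, i2, -, -, h2⟩
      · have hE := Cfsg.Agent.H9.ZassI.S3.card_E h h3 hab
        have hoddΩ : Odd (Fintype.card Ω) := by
          obtain ⟨k, hk⟩ := hodd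
          exact ⟨k + 1, by omega⟩
        obtain ⟨F, hF, hFf, hc', ⟨e⟩⟩ := Cfsg.Agent.H9.ZassI.pgl_two h h3 hoddΩ
        have hev : Even (Fintype.card F) := by
          obtain ⟨k, hk⟩ := hoddΩ
          exact ⟨k, by omega⟩
        haveI := Cfsg.Agent.H4.S3.even_card_charTwo hev
        obtain ⟨e2⟩ := Cfsg.Agent.H4.S3.psl_pgl (F := F)
        exact ⟨F, hF, hFf, ⟨e.trans e2⟩⟩
      · exact ⟨F, i1, i2, h2⟩
    · right
      have h : Cfsg.Agent.H9.ZT.Hyp a b K :=
        ⟨hZ, inferInstance, hab, hK, hp, u, u.2, v, v.2, fun e => huv (Subtype.ext e)⟩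
      exact h.isSuzuki
  · left
    rw [Nat.not_odd_iff_even] at hodd
    obtain ⟨F, i1, i2, -, h⟩ := Cfsg.Agent.S0344.result hZ hab hodd
    exact ⟨F, i1, i2, h⟩

end Cfsg.Agent.S0340
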