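import Cfsg.Statements.S0498
import Cfsg.Agent.H9_PslSylow

set_option autoImplicit false
open Cfsg

namespace Cfsg.Agent.S0498

theorem aux {G : Type*} [Group G] [Finite G] [IsSimpleGroup G] (p d m : ℕ) [Fact p.Prime] (h : Nat.card G = (p + 1) * p * d)
    (hm : m = (p + 1) * d) (hmp : ¬ p ∣ m) (hm0 : m ≠ 0)
    (hall : ∀ x ∈ Nat.divisors m, x % p = 1 → x ≠ 1 → x = p + 1) (hd : d < p) (hd2 : d ≠ p - 1) (hnp : ¬ (Nat.card G).Prime)
    {F : Type*} [Field F] [Fintype F]
    (hF : Fintype.card F = p) : Nonempty (G ≃* Matrix.ProjectiveSpecialLinearGroup (Fin 2) F) := by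
  have hG : ¬ IsMulCommutative G := Cfsg.Agent.H9.Small.not_comm hnp
  obtain ⟨P⟩ : Nonempty (Sylow p G) := inferInstance
  obtain ⟨n, k, hn, hnm, hn1, hn2, -⟩ := Cfsg.Agent.H9.Small.sylow_num hG (p := p) 1 m (by rw [h, hm]; ring) hmp (by omega) P
  have hn' : n = p + 1 := by
    have hmem : n ∈ Nat.divisors m := by rw [Nat.mem_divisors]; exact ⟨hnm, hm0⟩
    exact hall n hmem hn1 hn2
  obtain ⟨-, F', hF', hFf', hFc', ⟨iso⟩⟩ := Cfsg.Agent.H9.PslSylow.psl_of_sylow hG (p := p) (d := d) Fact.out (by rw [h]) hd hd2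
    (by rw [← hn, hn'])
  have r : F' ≃+* F := FiniteField.ringEquivOfCardEq (by rw [hFc', hF])
  obtain ⟨e⟩ := Cfsg.Agent.H9.FieldCongr.psl (n := 2) r
  exact ⟨iso.trans e⟩

/-- A simple group of order 660, respectively 1092, is isomorphic to the projective special linear group of dimension 2
over the field with 11, respectively 13, elements. -/
theorem result {G : Type*} [Group G] [Finite G] [IsSimpleGroup G] (p : ℕ)
    (hp : p = 11 ∨ p = 13) (h : 2 * Nat.card G = p * (p ^ 2 - 1)) {F : Type*} [Field F] [Fintype F]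
    (hF : Fintype.card F = p) : Nonempty (G ≃* Matrix.ProjectiveSpecialLinearGroup (Fin 2) F) := by
  rcases hp with rfl | rfl
  · haveI : Fact (Nat.Prime 11) := ⟨by norm_num⟩
    have h' : Nat.card G = 660 := by omega
    exact aux 11 5 60 (by rw [h']) (by norm_num) (by norm_num) (by norm_num) (by decide +kernel) (by norm_num) (by norm_num)
      (by rw [h']; norm_num) hF
  · haveI : Fact (Nat.Prime 13) := ⟨by norm_num⟩
    have h' : Nat.card G = 1092 := by omega
    exact aux 13 6 84 (by rw [h']) (by norm_num) (by norm_num) (by norm_num) (by decide +kernel) (by norm_num) (by norm_num)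
      (by rw [h']; norm_num) hF

end Cfsg.Agent.S0498
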