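import Cfsg.Statements.S0647
import Mathlib

set_option autoImplicit false
open Cfsg

namespace Cfsg.Agent.S0647

open Subgroup

/-- For a nonempty family of maximal abelian subgroups of a finite group, the intersection of the family is the centre of the subgroup it generates, which is also the full centralizer of that subgroup. -/
theorem result {S : Type*} [Group S] [Finite S] (𝒜 : Set (Subgroup S)) (hne : 𝒜.Nonempty) (hab : ∀ A ∈ 𝒜, IsMulCommutative A) (hmax : ∀ A ∈ 𝒜, ∀ B : Subgroup S, IsMulCommutative B → A ≤ B → B = A) : sInf 𝒜 = sSup 𝒜 ⊓ Subgroup.centralizer ((sSup 𝒜 : Subgroup S) : Set S) ∧ sInf 𝒜 = Subgroup.centralizer ((sSup 𝒜 : Subgroup S) : Set S) := by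
  have key : ∀ A ∈ 𝒜, centralizer (A : Set S) = A := by
    intro A hA
    have hAc : ∀ x ∈ A, ∀ y ∈ A, x * y = y * x := fun x hx y hy =>
      congrArg Subtype.val ((hab A hA).is_comm.comm (⟨x, hx⟩ : A) ⟨y, hy⟩)
    apply le_antisymm
    · intro x hx
      have hcomm : IsMulCommutative (closure ((A : Set S) ∪ {x}) : Subgroup S) := by
        refine ⟨⟨?_⟩⟩
        have := closure_le_centralizer_centralizer ((A : Set S) ∪ {x})
        have hc : ∀ u ∈ ((A : Set S) ∪ {x}), ∀ v ∈ ((A : Set S) ∪ {x}), u * v = v * u := by
          rintro u (hu | hu) v (hv | hv)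
          · exact hAc u hu v hv
          · rw [Set.mem_singleton_iff] at hv; subst hv
            exact (mem_centralizer_iff.1 hx) u hu
          · rw [Set.mem_singleton_iff] at hu; subst hu
            exact ((mem_centralizer_iff.1 hx) v hv).symm
          · rw [Set.mem_singleton_iff] at hv hu; subst hv; subst hu; rfl
        have h1 : closure ((A : Set S) ∪ {x}) ≤ centralizer ((A : Set S) ∪ {x}) := by
          rw [closure_le]
          intro u hu
          rw [SetLike.mem_coe, mem_centralizer_iff]
          exact fun v hv => hc v hv u hu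
        rintro ⟨u, hu⟩ ⟨v, hv⟩
        apply Subtype.ext
        have h2 := this hv
        exact (mem_centralizer_iff.1 h2) u (h1 hu)
      have h2 := hmax A hA _ hcomm (fun y hy => subset_closure (Or.inl hy))
      rw [← h2]
      exact subset_closure (Or.inr rfl)
    · intro x hx
      rw [mem_centralizer_iff]
      exact fun y hy => hAc y hy x hx
  have h1 : sInf 𝒜 = centralizer ((sSup 𝒜 : Subgroup S) : Set S) := by
    apply le_antisymm
    · rw [le_centralizer_iff]
      apply sSup_le
      intro A hA
      rw [le_centralizer_iff, key A hA]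
      exact sInf_le hA
    · apply le_sInf
      intro A hA
      rw [← key A hA]
      exact centralizer_le (SetLike.coe_subset_coe.2 (le_sSup hA))
  obtain ⟨A, hA⟩ := hne
  refine ⟨?_, h1⟩
  rw [← h1]
  symm
  rw [inf_eq_right]
  exact (sInf_le hA).trans (le_sSup hA)

end Cfsg.Agent.S0647
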