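import Cfsg.Statements.S0651
import Mathlib
import Cfsg.Agent.H2_Glaub

set_option autoImplicit false
open Cfsg

namespace Cfsg.Agent.S0651

open Cfsg.Agent.H2.Glaub Subgroup Cfsg

/-- For odd p and D normal in the p-group S, the abelian subgroups of D of largest order satisfy the replacement property: a class-2 normal subgroup B of S with a member containing [B, B] but not B normalizes some such member. -/
theorem result {S : Type*} [Group S] [Finite S] {p : ℕ} [Fact p.Prime] (hS : IsPGroup p S) (hp : p ≠ 2) (D : Subgroup S) [D.Normal] : ∀ (B : Subgroup S) [B.Normal], ⁅⁅B, B⁆, B⁆ = ⊥ → (∃ U ∈ (Set.image (fun A : Subgroup ↥D => A.map D.subtype) (Cfsg.maxAbelianSubgroups ↥D)), ⁅B, B⁆ ≤ U ∧ ¬ B ≤ U) → ∃ A ∈ (Set.image (fun A : Subgroup ↥D => A.map D.subtype) (Cfsg.maxAbelianSubgroups ↥D)), ⁅B, B⁆ ≤ A ∧ ¬ B ≤ A ∧ B ≤ Subgroup.normalizer (A : Set S) := by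
  intro B hBn hB2 hex
  have hDn : D.Normal := inferInstance
  apply family hS hp _ _ _ B hBn hex
  · rintro _ ⟨A, ⟨hA, -⟩, rfl⟩
    refine ⟨⟨?_⟩⟩
    rintro ⟨_, ⟨x, hx, rfl⟩⟩ ⟨_, ⟨y, hy, rfl⟩⟩
    apply Subtype.ext
    have := congrArg (Subtype.val : A → D) (hA.is_comm.comm (⟨x, hx⟩ : A) ⟨y, hy⟩)
    exact congrArg (Subtype.val : D → S) this
  · rintro _ ⟨A, ⟨hA, hAm⟩, rfl⟩ b hc hcard -
    have hle : R (A.map D.subtype) b ≤ D := R_le hDn (map_subtype_le _) b
    refine ⟨(R (A.map D.subtype) b).subgroupOf D, ⟨?_, ?_⟩, map_subgroupOf_eq_of_le hle⟩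
    · refine ⟨⟨fun x y => ?_⟩⟩
      have := hc.is_comm.comm (⟨x.1.1, mem_subgroupOf.1 x.2⟩ : R (A.map D.subtype) b) ⟨y.1.1, mem_subgroupOf.1 y.2⟩
      exact Subtype.ext (Subtype.ext (congrArg (Subtype.val : R (A.map D.subtype) b → S) this))
    · intro B' hB'
      rw [Cfsg.Agent.H2.Card.card_subgroupOf_of_le hle, hcard, card_map_of_injective D.subtype_injective]
      exact hAm B' hB'

end Cfsg.Agent.S0651
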