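import Cfsg.Statements.S0655
import Mathlib
import Cfsg.Agent.H2_ThompFact

set_option autoImplicit false
open Cfsg

namespace Cfsg.Agent.S0655

open Subgroup Cfsg

/-- In a p-group the intersection of all elementary abelian subgroups of largest order is the subgroup generated by the elements of order dividing p in the centre (equivalently the centralizer) of the elementary-version Thompson subgroup. -/
theorem result {S : Type*} [Group S] [Finite S] {p : ℕ} [Fact p.Prime] (hS : IsPGroup p S) : sInf (Cfsg.maxElementaryAbelianSubgroups p S) = Cfsg.omegaCenterThompson p S ∧ Cfsg.omegaCenterThompson p S = Cfsg.omegaOne p (Subgroup.centralizer (Cfsg.thompsonSubgroup p S : Set S)) := by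
  have h1 : omegaOne p (centralizer (thompsonSubgroup p S : Set S)) ≤ sInf (maxElementaryAbelianSubgroups p S) := by
    rw [omegaOne, closure_le]
    rintro x ⟨hx, hxp⟩
    rw [SetLike.mem_coe, mem_sInf]
    intro A hA
    apply Cfsg.Agent.H2.Thompson.mem_of_centralizes (H := ⊤) (p := p) le_top hA.1 (fun B _ hB => hA.2 B hB) (mem_top x) hxp
    exact centralizer_le (SetLike.coe_subset_coe.2 (Cfsg.Agent.H2.Thompson.le_thompson hA)) hx
  have h2 : sInf (maxElementaryAbelianSubgroups p S) ≤ omegaCenterThompson p S := by
    intro x hx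
    obtain ⟨A, hA⟩ := Cfsg.Agent.H2.Thompson.exists_max p S
    have hxA : x ∈ A := (mem_sInf.1 hx) A hA
    apply Cfsg.Agent.H2.ThompFact.mem_omegaOne _ (hA.1.2 x hxA)
    refine mem_inf.2 ⟨Cfsg.Agent.H2.Thompson.le_thompson hA hxA, ?_⟩
    have h3 : thompsonSubgroup p S ≤ centralizer {x} := by
      apply sSup_le
      intro B hB y hy
      rw [mem_centralizer_singleton_iff]
      exact Cfsg.Agent.H2.Quad.comm_of_ea hB.1 hy ((mem_sInf.1 hx) B hB)
    rw [mem_centralizer_iff]
    intro y hy
    exact mem_centralizer_singleton_iff.1 (h3 hy)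
  have h3 : omegaCenterThompson p S ≤ omegaOne p (centralizer (thompsonSubgroup p S : Set S)) :=
    Cfsg.Agent.H2.ThompFact.omegaOne_mono inf_le_right
  exact ⟨le_antisymm h2 (h3.trans h1), le_antisymm h3 (h1.trans h2)⟩

end Cfsg.Agent.S0655
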