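import Cfsg.Statements.S0689
import Cfsg.Agent.H24_Zas31
-- import your own Cfsg.Agent.* helpers here

set_option autoImplicit false
open Cfsg

namespace Cfsg.Agent.S0689

/-- The insoluble sharply doubly transitive groups: a non-solvable linear group over the prime field that is regular on the non-zero vectors of `V` occurs only for `|V| = 11², 29², 59²`, and is `SL(2,5) × C_m` with `m = 1, 7, 29` respectively. -/
theorem result {p : ℕ} [Fact p.Prime] {V : Type*} [AddCommGroup V] [Module (ZMod p) V] [Finite V] (H : Subgroup (V ≃ₗ[ZMod p] V)) (hreg : ∀ v w : V, v ≠ 0 → w ≠ 0 → ∃! h : H, (h : V ≃ₗ[ZMod p] V) v = w) (hsolv : ¬ Group.IsSolvable H) : (Nat.card V = 121 ∧ Nonempty (H ≃* Matrix.SpecialLinearGroup (Fin 2) (ZMod 5))) ∨ (Nat.card V = 841 ∧ Nonempty (H ≃* Matrix.SpecialLinearGroup (Fin 2) (ZMod 5) × Multiplicative (ZMod 7))) ∨ (Nat.card V = 3481 ∧ Nonempty (H ≃* Matrix.SpecialLinearGroup (Fin 2) (ZMod 5) × Multiplicative (ZMod 29))) := by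
  haveI : Finite (V ≃ₗ[ZMod p] V) := Finite.of_injective (fun f : V ≃ₗ[ZMod p] V => (f : V → V))
    (fun f g h => LinearEquiv.ext (fun v => congrFun h v))
  haveI : Nontrivial V := by
    by_contra h
    rw [not_nontrivial_iff_subsingleton] at h
    apply hsolv
    haveI : Subsingleton H := by
      refine ⟨fun a b => Subtype.ext (LinearEquiv.ext (fun v => Subsingleton.elim _ _))⟩
    infer_instance
  refine H24.Zas.reg_main H.subtype H.subtype_injective ?_ ?_ hsolv
  · intro v hv g hg
    obtain ⟨k, -, hk⟩ := hreg v v hv hv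
    rw [hk g hg, hk 1 rfl]
  · intro v w hv hw
    obtain ⟨k, hk, -⟩ := hreg v w hv hw
    exact ⟨k, hk⟩

end Cfsg.Agent.S0689
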