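import Cfsg.Statements.S0693
import Cfsg.Agent.H27_NF2

set_option autoImplicit false
open Cfsg

namespace Cfsg.Agent.S0693

open Cfsg.Agent.H27NF

def gs : List T := [(0, 58, 1, 0), (9, 15, 49, 49)]

def gi : List T := [(0, 1, 58, 0), (49, 44, 10, 9)]

def L : List T :=
  [(1, 0, 0, 1), (0, 58, 1, 0), (9, 15, 49, 49), (58, 0, 0, 58), (15, 50, 49, 10), (10, 10, 9,
   15), (49, 44, 10, 9), (0, 1, 58, 0), (50, 44, 10, 10), (10, 49, 15, 50), (44, 10, 9, 49), (48,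
   20, 46, 45), (49, 50, 49, 44), (44, 9, 10, 49), (49, 49, 50, 44), (10, 15, 49, 50), (20, 11,
   45, 13), (50, 10, 44, 10), (13, 14, 48, 20), (1, 29, 4, 58), (55, 48, 23, 4), (49, 10, 44, 9),
   (15, 49, 50, 10), (11, 39, 13, 14), (10, 9, 10, 15), (14, 46, 20, 11), (29, 58, 58, 55), (48,
   4, 4, 36), (11, 13, 39, 14), (55, 1, 1, 29), (36, 55, 55, 48), (14, 20, 46, 11), (39, 48, 14,
   46), (9, 49, 15, 49), (46, 45, 11, 39), (58, 30, 55, 1), (4, 11, 36, 55), (13, 48, 14, 20), (1,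
   4, 29, 58), (55, 23, 48, 4), (20, 45, 11, 13), (35, 32, 31, 25), (38, 31, 30, 54), (28, 35, 34,
   32), (45, 13, 39, 48), (30, 1, 1, 4), (11, 55, 55, 23), (48, 46, 20, 45), (4, 58, 58, 30), (23,
   4, 4, 11), (45, 39, 13, 48), (32, 24, 25, 28), (31, 21, 54, 29), (35, 31, 32, 25), (28, 34, 35,
   32), (29, 5, 38, 31), (25, 27, 28, 35), (54, 28, 29, 38), (46, 11, 45, 39), (58, 55, 30, 1),
   (4, 36, 11, 55), (39, 14, 48, 46), (24, 27, 28, 34), (21, 28, 29, 5), (31, 24, 25, 27), (34,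
   31, 32, 24), (5, 30, 31, 21), (27, 34, 35, 31), (28, 5, 38, 30), (10, 19, 19, 48), (5, 38, 38,
   53), (30, 21, 54, 28), (27, 35, 34, 31), (28, 38, 5, 30), (24, 28, 27, 34), (31, 25, 24, 27),
   (30, 54, 21, 28), (34, 32, 31, 24), (5, 31, 30, 21), (19, 49, 48, 40), (38, 54, 53, 21), (21,
   29, 28, 5), (40, 11, 10, 19), (21, 6, 5, 38), (25, 16, 42, 34), (18, 19, 45, 41), (25, 28, 27,
   35), (54, 29, 28, 38), (32, 25, 24, 28), (31, 54, 21, 29), (49, 40, 40, 11), (54, 21, 21, 6),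
   (29, 38, 5, 31), (11, 19, 19, 49), (6, 38, 38, 54), (16, 34, 34, 17), (19, 41, 41, 14), (38,
   30, 31, 54), (17, 25, 25, 16), (14, 18, 18, 19), (40, 10, 11, 19), (21, 5, 6, 38), (19, 48, 49,
   40), (38, 53, 54, 21), (34, 43, 17, 25), (41, 40, 14, 18), (25, 42, 16, 34), (18, 45, 19, 41),
   (40, 18, 18, 45), (56, 52, 52, 3), (42, 34, 34, 43), (48, 40, 40, 10), (53, 21, 21, 5), (43,
   25, 25, 42), (45, 41, 41, 40), (52, 3, 3, 7), (34, 17, 43, 25), (41, 14, 40, 18), (7, 56, 56,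
   52), (3, 7, 7, 56)]

def W : List (List ℕ) :=
  [[], [0], [1], [0, 0], [1, 0], [0, 1], [1, 1], [0, 0, 0], [1, 0, 0], [0, 1, 0], [1, 1, 0], [1,
   0, 1], [0, 1, 1], [1, 0, 0, 0], [0, 1, 0, 0], [1, 1, 0, 0], [1, 0, 1, 0], [0, 1, 1, 0], [0, 1,
   0, 1], [1, 1, 0, 1], [1, 0, 1, 1], [0, 1, 0, 0, 0], [1, 1, 0, 0, 0], [1, 0, 1, 0, 0], [0, 1, 1,
   0, 0], [0, 1, 0, 1, 0], [1, 1, 0, 1, 0], [1, 0, 1, 1, 0], [1, 0, 1, 0, 1], [0, 1, 1, 0, 1], [0,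
   1, 0, 1, 1], [1, 1, 0, 1, 1], [1, 0, 1, 0, 0, 0], [0, 1, 1, 0, 0, 0], [0, 1, 0, 1, 0, 0], [1,
   1, 0, 1, 0, 0], [1, 0, 1, 1, 0, 0], [1, 0, 1, 0, 1, 0], [0, 1, 1, 0, 1, 0], [0, 1, 0, 1, 1, 0],
   [1, 1, 0, 1, 1, 0], [1, 1, 0, 1, 0, 1], [1, 0, 1, 1, 0, 1], [1, 0, 1, 0, 1, 1], [0, 1, 0, 1, 0,
   0, 0], [1, 1, 0, 1, 0, 0, 0], [1, 0, 1, 1, 0, 0, 0], [1, 0, 1, 0, 1, 0, 0], [0, 1, 1, 0, 1, 0,
   0], [0, 1, 0, 1, 1, 0, 0], [1, 1, 0, 1, 1, 0, 0], [1, 1, 0, 1, 0, 1, 0], [1, 0, 1, 1, 0, 1, 0],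
   [1, 0, 1, 0, 1, 1, 0], [0, 1, 1, 0, 1, 0, 1], [0, 1, 0, 1, 1, 0, 1], [1, 1, 0, 1, 1, 0, 1], [1,
   1, 0, 1, 0, 1, 1], [1, 0, 1, 0, 1, 0, 0, 0], [0, 1, 1, 0, 1, 0, 0, 0], [0, 1, 0, 1, 1, 0, 0,
   0], [1, 1, 0, 1, 1, 0, 0, 0], [1, 1, 0, 1, 0, 1, 0, 0], [1, 0, 1, 1, 0, 1, 0, 0], [1, 0, 1, 0,
   1, 1, 0, 0], [0, 1, 1, 0, 1, 0, 1, 0], [0, 1, 0, 1, 1, 0, 1, 0], [1, 1, 0, 1, 1, 0, 1, 0], [1,
   1, 0, 1, 0, 1, 1, 0], [1, 0, 1, 1, 0, 1, 0, 1], [1, 0, 1, 0, 1, 1, 0, 1], [0, 1, 1, 0, 1, 0, 1,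
   1], [1, 1, 0, 1, 0, 1, 0, 0, 0], [1, 0, 1, 1, 0, 1, 0, 0, 0], [1, 0, 1, 0, 1, 1, 0, 0, 0], [0,
   1, 1, 0, 1, 0, 1, 0, 0], [0, 1, 0, 1, 1, 0, 1, 0, 0], [1, 1, 0, 1, 1, 0, 1, 0, 0], [1, 1, 0, 1,
   0, 1, 1, 0, 0], [1, 0, 1, 1, 0, 1, 0, 1, 0], [1, 0, 1, 0, 1, 1, 0, 1, 0], [0, 1, 1, 0, 1, 0, 1,
   1, 0], [0, 1, 0, 1, 1, 0, 1, 0, 1], [1, 1, 0, 1, 1, 0, 1, 0, 1], [1, 1, 0, 1, 0, 1, 1, 0, 1],
   [1, 0, 1, 1, 0, 1, 0, 1, 1], [0, 1, 1, 0, 1, 0, 1, 0, 0, 0], [0, 1, 0, 1, 1, 0, 1, 0, 0, 0],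
   [1, 1, 0, 1, 1, 0, 1, 0, 0, 0], [1, 1, 0, 1, 0, 1, 1, 0, 0, 0], [1, 0, 1, 1, 0, 1, 0, 1, 0, 0],
   [1, 0, 1, 0, 1, 1, 0, 1, 0, 0], [0, 1, 1, 0, 1, 0, 1, 1, 0, 0], [0, 1, 0, 1, 1, 0, 1, 0, 1, 0],
   [1, 1, 0, 1, 1, 0, 1, 0, 1, 0], [1, 1, 0, 1, 0, 1, 1, 0, 1, 0], [1, 0, 1, 1, 0, 1, 0, 1, 1, 0],
   [1, 0, 1, 0, 1, 1, 0, 1, 0, 1], [0, 1, 1, 0, 1, 0, 1, 1, 0, 1], [0, 1, 0, 1, 1, 0, 1, 0, 1, 1],
   [1, 0, 1, 1, 0, 1, 0, 1, 0, 0, 0], [1, 0, 1, 0, 1, 1, 0, 1, 0, 0, 0], [0, 1, 0, 1, 1, 0, 1, 0,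
   1, 0, 0], [1, 1, 0, 1, 1, 0, 1, 0, 1, 0, 0], [1, 1, 0, 1, 0, 1, 1, 0, 1, 0, 0], [1, 0, 1, 1, 0,
   1, 0, 1, 1, 0, 0], [0, 1, 1, 0, 1, 0, 1, 1, 0, 1, 0], [0, 1, 0, 1, 1, 0, 1, 0, 1, 1, 0], [1, 1,
   0, 1, 0, 1, 1, 0, 1, 0, 1], [1, 0, 1, 1, 0, 1, 0, 1, 1, 0, 1], [1, 0, 1, 0, 1, 1, 0, 1, 0, 1,
   1], [0, 1, 0, 1, 1, 0, 1, 0, 1, 0, 0, 0], [1, 1, 0, 1, 1, 0, 1, 0, 1, 0, 0, 0], [1, 1, 0, 1, 0,
   1, 1, 0, 1, 0, 0, 0], [0, 1, 0, 1, 1, 0, 1, 0, 1, 1, 0, 0], [1, 0, 1, 1, 0, 1, 0, 1, 1, 0, 1,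
   0], [1, 0, 1, 0, 1, 1, 0, 1, 0, 1, 1, 0], [0, 1, 1, 0, 1, 0, 1, 1, 0, 1, 0, 1], [0, 1, 0, 1, 1,
   0, 1, 0, 1, 1, 0, 1], [1, 1, 0, 1, 0, 1, 1, 0, 1, 0, 1, 1]]

lemma c1 : memT (1, 0, 0, 1) L = true := by decide +kernel
lemma c2 : chkMul 59 gs L = true := by decide +kernel
lemma c3 : chkMul 59 gi L = true := by decide +kernel
lemma c4 : chkBd 59 L = true := by decide +kernel
lemma c5 : nodupT L = true := by decide +kernel
lemma c6 : W.map (ev 59 gs) = L := by decide +kernel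
lemma c7 : chkFix 59 L = true := by decide +kernel
lemma c8 : L.length = 120 := by decide +kernel

lemma e429 : ((4 : ZMod 59)) ^ 29 = 1 := by decide +kernel

lemma e41 : ¬ ((4 : ZMod 59)) = 1 := by decide +kernel


/-- An exceptional sharply doubly transitive group of degree 59^2: the listed matrices generate a subgroup of GL(2,59) of order 3480 acting regularly on the non-zero vectors. -/
theorem result (A : Matrix.GeneralLinearGroup (Fin 2) (ZMod 59)) (B : Matrix.GeneralLinearGroup (Fin 2) (ZMod 59)) (C : Matrix.GeneralLinearGroup (Fin 2) (ZMod 59)) (hA : (A : Matrix (Fin 2) (Fin 2) (ZMod 59)) = !![0, -1; 1, 0]) (hB : (B : Matrix (Fin 2) (Fin 2) (ZMod 59)) = !![9, 15; -10, -10]) (hC : (C : Matrix (Fin 2) (Fin 2) (ZMod 59)) = !![4, 0; 0, 4]) : Nat.card (Subgroup.closure ({A, B, C} : Set (Matrix.GeneralLinearGroup (Fin 2) (ZMod 59)))) = 3480 ∧ ∀ v w : Fin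 2 → ZMod 59, v ≠ 0 → w ≠ 0 → ∃! h : Subgroup.closure ({A, B, C} : Set (Matrix.GeneralLinearGroup (Fin 2) (ZMod 59))), Matrix.mulVec ((h : Matrix.GeneralLinearGroup (Fin 2) (ZMod 59)) : Matrix (Fin 2) (Fin 2) (ZMod 59)) v = w := by
  haveI : Fact (Nat.Prime 59) := ⟨by norm_num⟩
  have eA : (A : Matrix (Fin 2) (Fin 2) (ZMod 59)) = toM 59 (0, 58, 1, 0) := by
    rw [hA]; ext i j; fin_cases i <;> fin_cases j <;> rfl
  have eB : (B : Matrix (Fin 2) (Fin 2) (ZMod 59)) = toM 59 (9, 15, 49, 49) := by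
    rw [hB]; ext i j; fin_cases i <;> fin_cases j <;> rfl
  have iA := inv_eq (gi := (0, 1, 58, 0)) eA (by decide)
  have iB := inv_eq (gi := (49, 44, 10, 9)) eB (by decide)
  have hS : ∀ s ∈ ({A, B} : Set (Matrix.GeneralLinearGroup (Fin 2) (ZMod 59))),
      (∃ t ∈ gs, (s : Matrix (Fin 2) (Fin 2) (ZMod 59)) = toM 59 t) ∧
      (∃ t ∈ gi, ((s⁻¹ : Matrix.GeneralLinearGroup (Fin 2) (ZMod 59)) :
        Matrix (Fin 2) (Fin 2) (ZMod 59)) = toM 59 t) := by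
    intro s hs
    simp only [Set.mem_insert_iff, Set.mem_singleton_iff] at hs
    rcases hs with rfl | rfl
    · exact ⟨⟨_, by simp [gs], eA⟩, ⟨_, by simp [gi], iA⟩⟩
    · exact ⟨⟨_, by simp [gs], eB⟩, ⟨_, by simp [gi], iB⟩⟩
  have hS2 : ∀ t ∈ gs, ∃ s ∈ ({A, B} : Set (Matrix.GeneralLinearGroup (Fin 2) (ZMod 59))),
      (s : Matrix (Fin 2) (Fin 2) (ZMod 59)) = toM 59 t := by
    intro t ht
    simp only [gs, List.mem_cons, List.not_mem_nil, or_false] at ht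
    rcases ht with rfl | rfl
    · exact ⟨A, by simp, eA⟩
    · exact ⟨B, by simp, eB⟩
  set K := Subgroup.closure ({A, B} : Set (Matrix.GeneralLinearGroup (Fin 2) (ZMod 59))) with hK
  have hKc : Nat.card K = 120 :=
    (card_list gs gi L W {A, B} hS hS2 c1 c2 c3 c4 c5 c6).trans c8
  set Z := Subgroup.zpowers C with hZ
  set H := Subgroup.closure ({A, B, C} : Set (Matrix.GeneralLinearGroup (Fin 2) (ZMod 59))) with hH
  have hKH : K ≤ H := Subgroup.closure_mono (by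
    intro x hx
    simp only [Set.mem_insert_iff, Set.mem_singleton_iff] at hx ⊢
    tauto)
  have hZH : Z ≤ H := by
    rw [hZ, Subgroup.zpowers_le]
    exact Subgroup.subset_closure (by simp)
  have hCs : (C : Matrix (Fin 2) (Fin 2) (ZMod 59)) = (4 : ZMod 59) • 1 := by
    rw [hC]; ext i j; fin_cases i <;> fin_cases j <;> simp
  have hCpow : ∀ i : ℕ, ((C ^ i : Matrix.GeneralLinearGroup (Fin 2) (ZMod 59)) :
      Matrix (Fin 2) (Fin 2) (ZMod 59)) = ((4 : ZMod 59) ^ i) • 1 := by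
    intro i
    rw [Units.val_pow_eq_pow_val, hCs, smul_pow, one_pow]
  have hCcomm : ∀ x : Matrix.GeneralLinearGroup (Fin 2) (ZMod 59), C * x = x * C := by
    intro x
    apply Units.ext
    rw [Units.val_mul, Units.val_mul, hCs, Matrix.smul_mul, Matrix.mul_smul, one_mul, mul_one]
  have h429 : ((4 : ZMod 59)) ^ 29 = 1 := e429
  have hC29 : C ^ 29 = 1 := by
    apply Units.ext
    rw [hCpow, h429, one_smul, Units.val_one]
  have hC1 : C ≠ 1 := by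
    intro h
    have h1 : (C : Matrix (Fin 2) (Fin 2) (ZMod 59)) 0 0 = 1 := by
      rw [h]; simp
    rw [hC] at h1
    have h2 : (4 : ZMod 59) = 1 := by simpa using h1
    exact absurd h2 e41
  haveI : Fact (Nat.Prime 29) := ⟨by norm_num⟩
  have hCo : orderOf C = 29 := orderOf_eq_prime hC29 hC1
  have hZc : Nat.card Z = 29 := by rw [hZ, Nat.card_zpowers, hCo]
  -- every element of H is k * C ^ i
  have hfac : ∀ h ∈ H, ∃ k ∈ K, ∃ i : ℕ, i < 29 ∧ h = k * C ^ i := by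
    intro h hh
    have h1 : ∃ k ∈ K, ∃ i : ℕ, h = k * C ^ i := by
      induction hh using Subgroup.closure_induction with
      | mem x hx =>
        simp only [Set.mem_insert_iff, Set.mem_singleton_iff] at hx
        rcases hx with rfl | rfl | rfl
        · exact ⟨x, Subgroup.subset_closure (by simp), 0, by simp⟩
        · exact ⟨x, Subgroup.subset_closure (by simp), 0, by simp⟩
        · exact ⟨1, K.one_mem, 1, by simp⟩
      | one => exact ⟨1, K.one_mem, 0, by simp⟩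
      | mul x y _ _ ihx ihy =>
        obtain ⟨k, hk, i, rfl⟩ := ihx
        obtain ⟨l, hl, j, rfl⟩ := ihy
        refine ⟨k * l, K.mul_mem hk hl, i + j, ?_⟩
        have hcl : Commute C l := hCcomm l
        have : C ^ i * l = l * C ^ i := (hcl.pow_left i).eq
        rw [pow_add, mul_assoc, ← mul_assoc (C ^ i), this]
        simp only [mul_assoc]
      | inv x _ ihx =>
        obtain ⟨k, hk, i, rfl⟩ := ihx
        refine ⟨k⁻¹, K.inv_mem hk, 28 * i, ?_⟩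
        have h2 : (C ^ i)⁻¹ = C ^ (28 * i) := by
          rw [inv_eq_iff_mul_eq_one, ← pow_add]
          have : i + 28 * i = 29 * i := by ring
          rw [this, pow_mul, hC29, one_pow]
        have hcl : Commute C k⁻¹ := hCcomm k⁻¹
        have h3 : C ^ (28 * i) * k⁻¹ = k⁻¹ * C ^ (28 * i) := (hcl.pow_left _).eq
        rw [mul_inv_rev, h2, h3]
    obtain ⟨k, hk, i, rfl⟩ := h1
    refine ⟨k, hk, i % 29, Nat.mod_lt _ (by norm_num), ?_⟩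
    rw [← hCo, pow_mod_orderOf]
  have hcard : Nat.card H = 3480 := by
    have h1 : 120 ∣ Nat.card H := hKc ▸ Subgroup.card_dvd_of_le hKH
    have h2 : 29 ∣ Nat.card H := hZc ▸ Subgroup.card_dvd_of_le hZH
    have h3 : 120 * 29 ∣ Nat.card H := Nat.Coprime.mul_dvd_of_dvd_of_dvd (by norm_num) h1 h2
    have h4 : Nat.card H ≤ Nat.card (K × Fin 29) := by
      let f : K × Fin 29 → H := fun x => ⟨x.1.1 * C ^ (x.2 : ℕ), H.mul_mem (hKH x.1.2)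
        (H.pow_mem (hZH (Subgroup.mem_zpowers C)) _)⟩
      apply Nat.card_le_card_of_surjective f
      rintro ⟨h, hh⟩
      obtain ⟨k, hk, i, hi, rfl⟩ := hfac h hh
      exact ⟨(⟨k, hk⟩, ⟨i, hi⟩), rfl⟩
    rw [Nat.card_prod, hKc, Nat.card_fin] at h4
    have h5 : 0 < Nat.card H := Nat.card_pos
    have := Nat.le_of_dvd h5 h3
    omega
  refine ⟨hcard, regular_of H (by rw [hcard]; norm_num) ?_⟩
  intro h hh v hv hfv
  obtain ⟨k, hk, i, -, rfl⟩ := hfac h hh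
  set μ : ZMod 59 := (4 : ZMod 59) ^ i with hμ
  have h1 : μ • (k : Matrix (Fin 2) (Fin 2) (ZMod 59)).mulVec v = v := by
    rw [Units.val_mul, hCpow, Matrix.mul_smul, mul_one, Matrix.smul_mulVec] at hfv
    exact hfv
  have hμ29 : μ ^ 29 = 1 := by rw [hμ, ← pow_mul, mul_comm, pow_mul, h429, one_pow]
  have hk120 : k ^ 120 = 1 := by
    have : (⟨k, hk⟩ : K) ^ 120 = 1 := by rw [← hKc]; exact pow_card_eq_one'
    exact congrArg Subtype.val this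
  have h2 : ∀ j : ℕ, (μ ^ j) • ((k ^ j : Matrix.GeneralLinearGroup (Fin 2) (ZMod 59)) :
      Matrix (Fin 2) (Fin 2) (ZMod 59)).mulVec v = v := by
    intro j
    induction j with
    | zero => simp
    | succ j ih =>
      rw [pow_succ, pow_succ, Units.val_mul, ← Matrix.mulVec_mulVec, mul_smul,
        ← Matrix.mulVec_smul, h1]
      exact ih
  have h3 : μ ^ 120 • v = v := by
    have := h2 120
    rwa [hk120, Units.val_one, Matrix.one_mulVec] at this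
  have hμ120 : μ ^ 120 = 1 := by
    have h4 : (μ ^ 120 - 1) • v = 0 := by rw [sub_smul, h3, one_smul, sub_self]
    rcases smul_eq_zero.mp h4 with h5 | h5
    · exact sub_eq_zero.mp h5
    · exact absurd h5 hv
  have hμ1 : μ = 1 := by
    have e1 : μ ^ (29 * 29) = 1 := by rw [pow_mul, hμ29, one_pow]
    have e2 : μ ^ (120 * 7 + 1) = μ := by rw [pow_succ, pow_mul, hμ120, one_pow, one_mul]
    exact e2.symm.trans e1
  have h5 : (k : Matrix (Fin 2) (Fin 2) (ZMod 59)).mulVec v = v := by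
    rw [hμ1, one_smul] at h1; exact h1
  obtain ⟨t, ht, hte⟩ := mem_list gs gi L {A, B} hS c1 c2 c3 k hk
  rw [hte] at h5
  have h6 := fix_list L c7 ht v hv h5
  apply Units.ext
  rw [Units.val_mul, hte, h6, toM_one, hCpow, ← hμ, hμ1, one_smul, one_mul, Units.val_one]

end Cfsg.Agent.S0693
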