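import Cfsg.Statements.S0731
import Mathlib
import Cfsg.Agent.H9_Feit

set_option autoImplicit false
open Cfsg

namespace Cfsg.Agent.S0731

open Cfsg.Agent.H9.ZassA Cfsg.Agent.H9.ZassI in
theorem conv3 {G Ω : Type*} [Group G] [MulAction G Ω] (h : S3 G Ω) :
    MulAction.IsMultiplyPretransitive G Ω 3 ∧ ∀ t : Fin 3 ↪ Ω, MulAction.stabilizer G t = ⊥ := by
  constructor
  · constructor
    intro x y
    obtain ⟨g, h0, h1, h2⟩ := h.trans (a := x 0) (b := x 1) (c := x 2) (a' := y 0) (b' := y 1) (c' := y 2)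
      (fun e => absurd (x.injective e) (by decide)) (fun e => absurd (x.injective e) (by decide))
      (fun e => absurd (x.injective e) (by decide)) (fun e => absurd (y.injective e) (by decide))
      (fun e => absurd (y.injective e) (by decide)) (fun e => absurd (y.injective e) (by decide))
    refine ⟨g, ?_⟩
    ext i
    change g • x i = y i
    fin_cases i
    · exact h0
    · exact h1
    · exact h2
  · intro t
    rw [Subgroup.eq_bot_iff_forall]
    intro g hg
    have h0 : ∀ i, g • t i = t i := fun i => DFunLike.congr_fun hg i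
    exact h.sharp g (t 0) (t 1) (t 2) (fun e => absurd (t.injective e) (by decide))
      (fun e => absurd (t.injective e) (by decide)) (fun e => absurd (t.injective e) (by decide)) (h0 0) (h0 1) (h0 2)

/-- A finite Zassenhaus group whose point stabiliser has an abelian regular normal subgroup on the remaining points is sharply triply transitive or isomorphic to `PSL(2, F)` for a finite field `F` of odd characteristic. -/
theorem result {G Ω : Type*} [Group G] [Finite G] [MulAction G Ω] [Finite Ω] (hZ : Cfsg.IsZassenhausGroup G Ω) (x : Ω) (F : Subgroup G) (hFle : F ≤ MulAction.stabilizer G x) (hFn : (F.subgroupOf (MulAction.stabilizer G x)).Normal) (hFab : IsMulCommutative F) (hreg : ∀ y z : Ω, y ≠ x → z ≠ x → ∃! u : F, (u : G) • y = z) : (MulAction.IsMultiplyPretransitive G Ω 3 ∧ ∀ t : Fin 3 ↪ Ω, MulAction.stabilizer G t = ⊥) ∨ ∃ (K : Type) (_ : Field K) (_ : Fintype K), ringChar K ≠ 2 ∧ Nonempty (G ≃* Matrix.ProjectiveSpecialLinearGroup (Fin 2) K) := by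
  classical
  haveI := Fintype.ofFinite Ω
  have hK := Cfsg.Agent.H9.ZassA.Ker.of_result hFle hFn hreg
  obtain ⟨y, hy⟩ : ∃ y : Ω, x ≠ y := by
    obtain ⟨g₀, hg₀, a, b, hab, -, -⟩ := hZ.2.2.2.1
    by_cases hxa : x = a
    · exact ⟨b, by rw [hxa]; exact hab⟩
    · exact ⟨a, hxa⟩
  rcases Cfsg.Agent.H9.Feit.main hZ hy hK (fun k hk l hl => congrArg Subtype.val (hFab.is_comm.comm ⟨k, hk⟩ ⟨l, hl⟩)) with h | ⟨-, K, hK1, hK2, h1, -, h2⟩
  · exact Or.inl (conv3 h)
  · exact Or.inr ⟨K, hK1, hK2, h1, h2⟩

end Cfsg.Agent.S0731
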