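import Cfsg.Statements.S0737
import Mathlib
import Cfsg.Agent.H9_FTc2
import Cfsg.Agent.S0205
import Cfsg.Agent.S0735
import Cfsg.Agent.H9_HomogSub

set_option autoImplicit false
open Cfsg

namespace Cfsg.Agent.S0737

/-- A non-trivial 2-homogeneous permutation group that is not doubly transitive has odd order and degree `p^f ≡ 3 (mod 4)`, and is permutation-isomorphic to a group of semi-affine transformations `x ↦ a φ(x) + b` of the field with `p^f` elements containing all translations. -/
theorem result {α : Type*} [Fintype α] [DecidableEq α] (G : Subgroup (Equiv.Perm α)) (hne : G ≠ ⊥) (h2 : MulAction.IsPretransitive G (Set.powersetCard α 2)) (hn2 : ¬ MulAction.IsMultiplyPretransitive G α 2) : Odd (Nat.card G) ∧ ∃ (p f : ℕ) (_ : Fact p.Prime), p ≠ 2 ∧ Fintype.card α = p ^ f ∧ p ^ f % 4 = 3 ∧ ∃ e : α ≃ GaloisField p f, (∀ g : G, e.symm.trans (((g : Equiv.Perm α)).trans e) ∈ Cfsg.semiaffineGroup (GaloisField p f)) ∧ ∀ b : GaloisField p f, ∃ g : G, ∀ x : α, e ((g : Equiv.Perm α) x) = e x + b := by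
  classical
  have hα : 3 ≤ Fintype.card α := by
    by_contra hlt
    push Not at hlt
    have hG : G = ⊤ := by
      have h1 : (Fintype.card (Equiv.Perm α)) ∣ 2 := by
        rw [Fintype.card_perm]
        interval_cases h : Fintype.card α <;> decide
      have h3 : 2 ≤ Nat.card G := by
        have := (Subgroup.one_lt_card_iff_ne_bot G).2 hne
        omega
      have h4 : Nat.card G ≤ Nat.card (Equiv.Perm α) := Subgroup.card_le_card_group G
      rw [Nat.card_eq_fintype_card (α := Equiv.Perm α)] at h4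
      have h5 := Nat.le_of_dvd (by norm_num) h1
      apply Subgroup.eq_top_of_card_eq
      rw [Nat.card_eq_fintype_card (α := Equiv.Perm α)]
      omega
    apply hn2
    subst hG
    have h6 := Equiv.Perm.isMultiplyPretransitive α 2
    constructor
    intro x y
    obtain ⟨g, hg⟩ := h6.exists_smul_eq x y
    exact ⟨⟨g, Subgroup.mem_top g⟩, hg⟩
  obtain ⟨r1, r2⟩ := Cfsg.Agent.S0735.result G h2 hα
  have hodd : Odd (Nat.card G) := by
    rw [← Nat.not_even_iff_odd]
    exact fun he => hn2 (r1 he)
  have hprim := r2 hne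
  refine ⟨hodd, ?_⟩
  rw [H9.HomogSub.sub_iff] at h2
  have hpair : ∀ a b c d : α, a ≠ b → c ≠ d → ∃ g : G, (g • a = c ∧ g • b = d) ∨ (g • a = d ∧ g • b = c) := by
    intro a b c d hab hcd
    obtain ⟨g, hg⟩ := h2 {a, b} {c, d} (Finset.card_pair hab) (Finset.card_pair hcd)
    refine ⟨g, ?_⟩
    have h1 : g • a ∈ ({c, d} : Finset α) := by rw [← hg]; exact Finset.smul_mem_smul_finset (by simp)
    have h3 : g • b ∈ ({c, d} : Finset α) := by rw [← hg]; exact Finset.smul_mem_smul_finset (by simp)
    have h4 : g • a ≠ g • b := fun h => hab (MulAction.injective g h)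
    simp only [Finset.mem_insert, Finset.mem_singleton] at h1 h3
    rcases h1 with h1 | h1 <;> rcases h3 with h3 | h3
    · exact absurd (h1.trans h3.symm) h4
    · exact Or.inl ⟨h1, h3⟩
    · exact Or.inr ⟨h1, h3⟩
    · exact absurd (h1.trans h3.symm) h4
  haveI : Nontrivial α := Fintype.one_lt_card_iff_nontrivial.1 (by omega)
  haveI : Nontrivial G := (Subgroup.nontrivial_iff_ne_bot G).2 hne
  obtain ⟨p, f, hp, h1, h3, h4, e, h5, h6⟩ := Cfsg.Agent.H9.FTc.kantor (Cfsg.Agent.S0205.result hodd) hodd hprim inferInstance hpair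
  refine ⟨p, f, hp, h1, ?_, h4, e, ?_, h6⟩
  · rw [← Nat.card_eq_fintype_card]; exact h3
  · intro g
    obtain ⟨a, b, φ, h7⟩ := h5 g
    refine ⟨a, b, φ, fun x => ?_⟩
    have := h7 (e.symm x)
    rw [e.apply_symm_apply] at this
    exact this

end Cfsg.Agent.S0737
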