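import Cfsg.Statements.S0979
import Mathlib
import Cfsg.Agent.S0999
import Cfsg.Agent.H5_SmallIso
import Cfsg.Agent.H9_Small

set_option autoImplicit false
open Cfsg

namespace Cfsg.Agent.S0979

/-- No finite simple group has order 5472 = 2^5 * 3^2 * 19. -/
theorem result {G : Type*} [Group G] [Finite G] [IsSimpleGroup G] : Nat.card G ≠ 5472 := by
  intro h
  have hG : ¬ IsMulCommutative G := Cfsg.Agent.H9.Small.not_comm (by rw [h]; norm_num)
  have hG' : ¬ IsCyclic G := by
    intro hc
    apply hG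
    exact ⟨⟨IsCyclic.commGroup.mul_comm⟩⟩
  rcases Cfsg.Agent.S0999.result (G := G) hG' 19 (by norm_num) (by rw [h]; norm_num) (by rw [h]; norm_num) with
    ⟨F, i1, i2, hF, -, ⟨e⟩⟩ | ⟨m, F, i1, i2, hF, hm, -, -⟩
  · have h1 := Cfsg.Agent.H5.SmallIso.card_PSL2 (F := F)
    rw [← Nat.card_congr e.toEquiv, h, hF] at h1
    norm_num at h1
  · have h2 : 2 ^ m = 18 := by omega
    have h3 : m < 5 := by
      by_contra h4
      have := Nat.pow_le_pow_right (n := 2) (by norm_num) (not_lt.mp h4)
      omega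
    interval_cases m <;> omega

end Cfsg.Agent.S0979
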