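import Cfsg.Statements.S0981
import Mathlib
import Cfsg.Agent.S0999
import Cfsg.Agent.H5_SmallIso
import Cfsg.Agent.H9_Small
import Cfsg.Agent.H9_FieldCongr

set_option autoImplicit false
open Cfsg

namespace Cfsg.Agent.S0981

/-- A simple group of order 4080 is isomorphic to the projective special linear group of dimension 2 over the field with 16 elements. -/
theorem result {G : Type*} [Group G] [Finite G] [IsSimpleGroup G] (h : Nat.card G = 4080) {F : Type*} [Field F] [Fintype F] (hF : Fintype.card F = 16) : Nonempty (G ≃* Matrix.ProjectiveSpecialLinearGroup (Fin 2) F) := by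
  have hG : ¬ IsMulCommutative G := Cfsg.Agent.H9.Small.not_comm (by rw [h]; norm_num)
  have hG' : ¬ IsCyclic G := by
    intro hc
    apply hG
    exact ⟨⟨IsCyclic.commGroup.mul_comm⟩⟩
  rcases Cfsg.Agent.S0999.result (G := G) hG' 17 (by norm_num) (by rw [h]; norm_num) (by rw [h]; norm_num) with
    ⟨F', i1, i2, hF', -, ⟨e⟩⟩ | ⟨m, F', i1, i2, hF', hm, -, ⟨e⟩⟩
  · exfalso
    have h1 := Cfsg.Agent.H5.SmallIso.card_PSL2 (F := F')
    rw [← Nat.card_congr e.toEquiv, h, hF'] at h1
    norm_num at h1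
  · have h2 : 2 ^ m = 16 := by omega
    rw [h2] at hF'
    have r : F' ≃+* F := FiniteField.ringEquivOfCardEq (by rw [hF', hF])
    obtain ⟨e'⟩ := Cfsg.Agent.H9.FieldCongr.psl (n := 2) r
    exact ⟨e.trans e'⟩

end Cfsg.Agent.S0981
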