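import Cfsg.Statements.S0982
import Mathlib
import Cfsg.Agent.H9_PslSylow

set_option autoImplicit false
open Cfsg

namespace Cfsg.Agent.S0982

/-- A simple group of order 6072 is isomorphic to the projective special linear group of dimension 2 over the field with 23 elements. -/
theorem result {G : Type*} [Group G] [Finite G] [IsSimpleGroup G] (h : Nat.card G = 6072) {F : Type*} [Field F] [Fintype F] (hF : Fintype.card F = 23) : Nonempty (G ≃* Matrix.ProjectiveSpecialLinearGroup (Fin 2) F) := by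
  haveI : Fact (Nat.Prime 23) := ⟨by norm_num⟩
  have hG : ¬ IsMulCommutative G := Cfsg.Agent.H9.Small.not_comm (by rw [h]; norm_num)
  obtain ⟨P⟩ : Nonempty (Sylow 23 G) := inferInstance
  obtain ⟨n, k, hn, hnm, hn1, hn2, -⟩ := Cfsg.Agent.H9.Small.sylow_num hG (p := 23) 1 264 (by rw [h]; norm_num) (by norm_num) (by norm_num) P
  have hn' : n = 23 + 1 := by
    have hmem : n ∈ Nat.divisors 264 := by rw [Nat.mem_divisors]; exact ⟨hnm, by norm_num⟩
    have hall : ∀ x ∈ Nat.divisors 264, x % 23 = 1 → x ≠ 1 → x = 23 + 1 := by decide +kernel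
    exact hall n hmem hn1 hn2
  obtain ⟨-, F', hF', hFf', hFc', ⟨iso⟩⟩ := Cfsg.Agent.H9.PslSylow.psl_of_sylow hG (p := 23) (d := 11) (by norm_num) (by rw [h]) (by norm_num) (by norm_num)
    (by rw [← hn, hn'])
  have r : F' ≃+* F := FiniteField.ringEquivOfCardEq (by rw [hFc', hF])
  obtain ⟨e⟩ := Cfsg.Agent.H9.FieldCongr.psl (n := 2) r
  exact ⟨iso.trans e⟩

end Cfsg.Agent.S0982
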