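import Cfsg.Statements.S0996
import Mathlib
import Cfsg.Agent.H4_BRmain

set_option autoImplicit false
open Cfsg

namespace Cfsg.Agent.S0996

/-- Let G be a finite perfect group containing an element z of prime order p whose centralizer is the cyclic group it generates, and suppose the number 1 + n * p of Sylow p-subgroups satisfies n < (p + 3) / 2. Then p > 3 and G is isomorphic to the projective special linear group of dimension 2 over the field with p elements, or p - 1 is a power of 2 and G is isomorphic to that group over the field with p - 1 elements. -/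
theorem result {G : Type*} [Group G] [Finite G] (hperf : commutator G = ⊤) (p : ℕ) [Fact p.Prime] (z : G) (hz : orderOf z = p) (hC : Subgroup.centralizer ({z} : Set G) = Subgroup.zpowers z) (hn : 2 * Nat.card (Sylow p G) < (p + 1) * (p + 2)) : (∃ (F : Type) (_ : Field F) (_ : Fintype F), Fintype.card F = p ∧ 3 < p ∧ Nonempty (G ≃* Matrix.ProjectiveSpecialLinearGroup (Fin 2) F)) ∨ (∃ (m : ℕ) (F : Type) (_ : Field F) (_ : Fintype F), Fintype.card F = 2 ^ m ∧ p = 2 ^ m + 1 ∧ 3 < p ∧ Nonempty (G ≃* Matrix.ProjectiveSpecialLinearGroup (Fin 2) F)) := by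
  classical
  have hp : p.Prime := Fact.out
  have hp1 := hp.one_lt
  have hzp : IsPGroup p (Subgroup.zpowers z) := by
    apply IsPGroup.of_card (n := 1)
    rw [Nat.card_zpowers, hz, pow_one]
  obtain ⟨P, hPz⟩ := hzp.exists_le_sylow
  have hzP : z ∈ (P : Subgroup G) := hPz (Subgroup.mem_zpowers z)
  have hz1 : z ≠ 1 := by rintro rfl; rw [orderOf_one] at hz; omega
  have hPeq : (P : Subgroup G) = Subgroup.zpowers z := by
    haveI : Nontrivial (P : Subgroup G) := ⟨⟨⟨z, hzP⟩, 1, fun h => hz1 (congrArg Subtype.val h)⟩⟩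
    haveI := P.2.center_nontrivial
    obtain ⟨c, hc⟩ := exists_ne (1 : Subgroup.center (P : Subgroup G))
    have hcc := Subgroup.mem_center_iff.mp c.2
    have h1 : ((c : (P : Subgroup G)) : G) ∈ Subgroup.zpowers z := by
      rw [← hC, Subgroup.mem_centralizer_singleton_iff]
      exact congrArg Subtype.val (hcc ⟨z, hzP⟩).symm
    have h2 : ((c : (P : Subgroup G)) : G) ≠ 1 := fun h => hc (Subtype.ext (Subtype.ext h))
    have h3 : Subgroup.zpowers ((c : (P : Subgroup G)) : G) = Subgroup.zpowers z := by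
      apply Subgroup.eq_of_le_of_card_ge
      · rw [Subgroup.zpowers_le]; exact h1
      · rw [Nat.card_zpowers, Nat.card_zpowers, hz]
        have h4 : orderOf ((c : (P : Subgroup G)) : G) ∣ p := by
          have h6 := Subgroup.orderOf_dvd_natCard _ h1
          rw [Nat.card_zpowers, hz] at h6; exact h6
        rcases (Nat.dvd_prime hp).mp h4 with h5 | h5
        · exact absurd (orderOf_eq_one_iff.mp h5) h2
        · exact h5.symm.le
    apply le_antisymm _ hPz
    intro x hx
    rw [← hC, Subgroup.mem_centralizer_singleton_iff]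
    have h4 : z ∈ Subgroup.zpowers ((c : (P : Subgroup G)) : G) := by rw [h3]; exact Subgroup.mem_zpowers z
    obtain ⟨k, hk⟩ := Subgroup.mem_zpowers_iff.mp h4
    have h5 : Commute x ((c : (P : Subgroup G)) : G) := congrArg Subtype.val (hcc ⟨x, hx⟩)
    rw [← hk]
    exact (h5.zpow_right k).eq
  have hP : Nat.card (P : Subgroup G) = p := by rw [hPeq, Nat.card_zpowers, hz]
  obtain ⟨n, hn'⟩ : ∃ n, Nat.card (Sylow p G) = 1 + n * p := by
    have h1 := card_sylow_modEq_one p G
    have h2 : 0 < Nat.card (Sylow p G) := Nat.card_pos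
    obtain ⟨w, hw⟩ := (Nat.modEq_iff_dvd' h2).mp h1.symm
    exact ⟨w, by rw [mul_comm w p, ← hw]; omega⟩
  have hAlt : ¬ Cfsg.Agent.H4.BRar.Alt n p := by
    intro h
    have h1 := Cfsg.Agent.H4.BRmain.alt_bound h
    rw [hn'] at hn
    have h2 : (p + 3) * p ≤ 2 * n * p := Nat.mul_le_mul_right p h1
    nlinarith
  have hHp : (Nat.card (Cfsg.pPrimeCore p G)).Coprime p := Cfsg.Agent.H1.Nilp.pPrimeCore_coprime p
  have hbot : Cfsg.pPrimeCore p G ≤ Subgroup.centralizer ((P : Subgroup G) : Set G) →
      Cfsg.pPrimeCore p G = ⊥ := by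
    intro h
    have h1 : Cfsg.pPrimeCore p G ≤ (P : Subgroup G) := by
      refine h.trans ?_
      rw [hPeq]
      refine le_trans (Subgroup.centralizer_le ?_) hC.le
      intro x hx
      rw [Set.mem_singleton_iff.mp hx]
      exact Subgroup.mem_zpowers z
    have h2 := Subgroup.card_dvd_of_le h1
    rw [hP] at h2
    have h3 : Nat.card (Cfsg.pPrimeCore p G) = 1 := Nat.Coprime.eq_one_of_dvd hHp h2
    exact Subgroup.card_eq_one.mp h3
  rcases Cfsg.Agent.H4.BRmain.main hperf hP hn' with h | ⟨hc, h | h⟩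
  · exact absurd h hAlt
  · left
    obtain ⟨F, i1, i2, hF, hp3, ⟨φ⟩⟩ := h
    exact ⟨F, i1, i2, hF, hp3, ⟨((QuotientGroup.quotientMulEquivOfEq (hbot hc)).trans QuotientGroup.quotientBot).symm.trans φ⟩⟩
  · right
    obtain ⟨m, F, i1, i2, hF, hpm, hp3, ⟨φ⟩⟩ := h
    haveI : CharP F 2 := charP_of_card_eq_prime_pow hF
    exact ⟨m, F, i1, i2, hF, hpm, hp3, ⟨(((QuotientGroup.quotientMulEquivOfEq (hbot hc)).trans QuotientGroup.quotientBot).symm.trans φ).trans (Cfsg.Agent.H21.SL2e.equivPSL (F := F))⟩⟩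

end Cfsg.Agent.S0996
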