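import Cfsg.Statements.S1147
import Mathlib
import Cfsg.Agent.H9_ZT9

set_option autoImplicit false
open Cfsg

namespace Cfsg.Agent.S1147

/-- Let a finite simple Zassenhaus group `G` on `Ω` have a normal subgroup `U` of `G_a`, regular on `Ω` minus `a`, which is a non-abelian 2-group. Then `|Ω| = 2^(2n) + 1` with `n` odd, `n > 1`, a two-point stabiliser `G_a ⊓ G_b` is cyclic of order `2^n - 1`, and `U` is isomorphic to the type-A group over a field with `2^n` elements for some field automorphism `φ`. -/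
theorem result {G Ω : Type*} [Group G] [Finite G] [MulAction G Ω] [Finite Ω]
    (hZ : Cfsg.IsZassenhausGroup G Ω) [IsSimpleGroup G] {a b : Ω} (hab : a ≠ b)
    (U : Subgroup G) (hUle : U ≤ MulAction.stabilizer G a)
    (hUn : ∀ h ∈ MulAction.stabilizer G a, ∀ u ∈ U, h * u * h⁻¹ ∈ U)
    (hreg : ∀ c d : Ω, c ≠ a → d ≠ a → ∃! u : U, (u : G) • c = d)
    (hU2 : IsPGroup 2 U) (hUna : ∃ u ∈ U, ∃ v ∈ U, u * v ≠ v * u) :
    ∃ n : ℕ, Odd n ∧ 1 < n ∧ Nat.card Ω = 2 ^ (2 * n) + 1 ∧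
      IsCyclic ↥(MulAction.stabilizer G a ⊓ MulAction.stabilizer G b) ∧
      Nat.card ↥(MulAction.stabilizer G a ⊓ MulAction.stabilizer G b) = 2 ^ n - 1 ∧
      ∃ (F : Type) (_ : Field F) (_ : Fintype F) (φ : F ≃+* F), Fintype.card F = 2 ^ n ∧
        Nonempty (U ≃* Cfsg.suzukiTypeA F (φ : F →+* F)) := by
  classical
  haveI := Fintype.ofFinite Ω
  have hK : Cfsg.Agent.H9.ZassA.Ker U a :=
    ⟨fun k hk => hUle hk, fun g hg k hk => hUn g hg k hk, fun y z hy hz => by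
      obtain ⟨u, hu, -⟩ := hreg y z hy hz
      exact ⟨u, u.2, hu⟩, fun k hk y hy hky => by
      obtain ⟨u, hu, huniq⟩ := hreg y y hy hy
      have h1 := huniq ⟨k, hk⟩ hky
      have h2 := huniq 1 (one_smul G y)
      exact congrArg Subtype.val (h1.trans h2.symm)⟩
  have h : Cfsg.Agent.H9.ZT.Hyp a b U := ⟨hZ, inferInstance, hab, hK, hU2, hUna⟩
  obtain ⟨n, hodd, hn1, hn2, hn3⟩ := h.suzuki
  obtain ⟨F, i1, i2, φ, h1, h2⟩ := h.typeA
  have hE : Nat.card ↥(MulAction.stabilizer G a ⊓ MulAction.stabilizer G b) + 1 = 2 ^ n := hn2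
  refine ⟨n, hodd, hn1, ?_, (Cfsg.Agent.H9.ZassX.simple_inverts hZ hab).1, by omega, F, i1, i2, φ, ?_, h2⟩
  · rw [Nat.card_eq_fintype_card, h.card, hn3, ← pow_mul, mul_comm n 2]
  · rw [h1]; exact hn2

end Cfsg.Agent.S1147
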