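import Cfsg.Statements.S1161
import Mathlib
import Cfsg.Agent.H9_FTc3
import Cfsg.Agent.H9_FTc2
import Cfsg.Agent.S0205

set_option autoImplicit false
open Cfsg

namespace Cfsg.Agent.S1161

open Module Cfsg.Agent.H9.Hup

def f1 (D E : Type*) [Group D]
    [AddCommGroup E] [DistribMulAction D E]
     (q : ℕ) [Module (ZMod q) E] : D →* Module.End (ZMod q) E :=
    { toFun := fun d => 
        { toFun := fun v => d • v
          map_add' := smul_add d
          map_smul' := fun c v => ZMod.map_smul (DistribSMul.toAddMonoidHom E d) c v }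
      map_one' := by ext v; exact one_smul D v
      map_mul' := fun a b => by ext v; exact mul_smul a b v }

theorem aux {D E : Type*} [Group D] [Finite D]
    [AddCommGroup E] [Finite E] [Nontrivial E] [DistribMulAction D E] [FaithfulSMul D E]
    (hodd : Odd (Nat.card D)) {q : ℕ} [Fact q.Prime] [Module (ZMod q) E]
    (htrans : ∀ a b : E, a ≠ 0 → b ≠ 0 → ∃ d : D, d • a = b) :
    IsCyclic ↥(Cfsg.fittingSubgroup D) ∧
      (∀ g ∈ Cfsg.fittingSubgroup D, g ≠ 1 → ∀ a : E, g • a = a → a = 0) ∧
      commutator D ≤ Cfsg.fittingSubgroup D := by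
  classical
  have hsol := Cfsg.Agent.S0205.result hodd
  have hq : q.Prime := Fact.out
  let f₁ : D →* Module.End (ZMod q) E := f1 D E q
  have hf₁ : ∀ d v, f₁ d v = d • v := fun d v => rfl
  have hinj : Function.Injective f₁ := by
    intro a b hab
    apply FaithfulSMul.eq_of_smul_eq_smul (α := E)
    intro v
    exact DFunLike.congr_fun hab v
  have hq2 : q = 2 := by
    have h1 := H9.FTc.card_sub_one_dvd f₁ htrans
    have h2 : Nat.card E = q ^ finrank (ZMod q) E := by
      have := Module.natCard_eq_pow_finrank (K := ZMod q) (V := E)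
      rwa [Nat.card_zmod] at this
    have h3 : 0 < finrank (ZMod q) E := finrank_pos
    by_contra hne
    have h4 : Odd (Nat.card E) := by rw [h2]; exact (hq.odd_of_ne_two hne).pow
    have h5 : Odd (Nat.card E - 1) := Odd.of_dvd_nat hodd h1
    have h6 : 1 ≤ Nat.card E := Nat.card_pos
    obtain ⟨a, ha⟩ := h4
    obtain ⟨b, hb⟩ := h5
    omega
  subst hq2
  obtain ⟨k, hk, ι, f, A, σ, φ, hf, hcf⟩ := exists_cf f₁ hinj htrans
  letI : Module (GaloisField 2 k) E := Module.compHom E ι.toRingHom
  haveI : Finite (GaloisField 2 k) := inferInstance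
  have hfin : finrank (GaloisField 2 k) E = 1 := by
    rcases main hsol hcf with h1 | h1
    · exact h1
    · exfalso
      have h2 : Nat.card E = 2 ^ finrank (ZMod 2) E := by
        have := Module.natCard_eq_pow_finrank (K := ZMod 2) (V := E)
        rwa [Nat.card_zmod] at this
      have h3 : 0 < finrank (ZMod 2) E := finrank_pos
      have h4 : 2 ∣ Nat.card E := h2 ▸ dvd_pow_self 2 (by omega)
      simp only [Set.mem_insert_iff, Set.mem_singleton_iff] at h1
      omega
  have hF := H9.FTc3.fit hodd hsol hcf hfin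
  have hA := H9.FTc3.ker_eq hsol hcf hfin
  rw [hF]
  refine ⟨?_, ?_, ?_⟩
  · haveI : IsCyclic (GaloisField 2 k)ˣ := inferInstance
    exact isCyclic_of_injective φ hcf.φinj
  · intro g hg hg1 a ha
    have h1 : f g a = a := by rw [hf, hf₁]; exact ha
    have h2 := hcf.act ⟨g, hg⟩ a
    rw [show ((⟨g, hg⟩ : A) : D) = g from rfl, h1] at h2
    have h3 : ((φ ⟨g, hg⟩ : GaloisField 2 k) - 1) • a = 0 := by rw [sub_smul, one_smul, ← h2, sub_self]
    rcases smul_eq_zero.1 h3 with h4 | h4
    · exfalso
      apply hg1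
      have h5 : φ ⟨g, hg⟩ = 1 := Units.ext (by rw [Units.val_one]; exact sub_eq_zero.1 h4)
      have h6 := hcf.φinj (h5.trans (map_one φ).symm)
      exact congrArg Subtype.val h6
    · exact h4
  · rw [hA]
    rw [_root_.commutator_def, Subgroup.commutator_le]
    intro x _ y _
    rw [MonoidHom.mem_ker, map_commutatorElement, commutatorElement_eq_one_iff_mul_comm]
    obtain ⟨i, hi⟩ := (FiniteField.bijective_frobeniusAlgEquivOfAlgebraic_pow (ZMod 2) (GaloisField 2 k)).2 (σ x)
    obtain ⟨j, hj⟩ := (FiniteField.bijective_frobeniusAlgEquivOfAlgebraic_pow (ZMod 2) (GaloisField 2 k)).2 (σ y)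
    rw [← hi, ← hj]
    change _ ^ _ * _ ^ _ = _ ^ _ * _ ^ _
    rw [← pow_add, ← pow_add, add_comm]


/-- Let `D` be a finite group of odd order acting faithfully by additive automorphisms on a finite elementary abelian `q`-group `E ≠ 0` (`q` prime), transitively on `E ∖ {0}`. Then the Fitting subgroup `F(D)` is cyclic, its non-identity elements fix only `0`, and `D/F(D)` is abelian (the derived subgroup lies in `F(D)`). -/
theorem result {D E : Type*} [Group D] [Finite D]
    [AddCommGroup E] [Finite E] [Nontrivial E] [DistribMulAction D E] [FaithfulSMul D E]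
    (hodd : Odd (Nat.card D)) {q : ℕ} (hq : q.Prime) (hE : ∀ e : E, q • e = 0)
    (htrans : ∀ a b : E, a ≠ 0 → b ≠ 0 → ∃ d : D, d • a = b) :
    IsCyclic ↥(Cfsg.fittingSubgroup D) ∧
      (∀ g ∈ Cfsg.fittingSubgroup D, g ≠ 1 → ∀ a : E, g • a = a → a = 0) ∧
      commutator D ≤ Cfsg.fittingSubgroup D := by
  haveI := Fact.mk hq
  letI md : Module (ZMod q) E := AddCommGroup.zmodModule hE
  exact aux (q := q) hodd htrans

end Cfsg.Agent.S1161
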