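import Cfsg.Statements.S1167
import Mathlib
import Cfsg.Agent.H9_Feit
import Cfsg.Agent.S0740

set_option autoImplicit false
open Cfsg

namespace Cfsg.Agent.S1167

/-- Let `G` be a finite simple Zassenhaus group on `Ω`, `U` a normal subgroup of `G_a` regular on `Ω` minus `a` which is an abelian 2-group, and `v` an involution with `v • a ≠ a`. Then there is a unique `u₀ ∈ U`, `u₀ ≠ 1`, with `v u₀ v = u₀ v u₀`. -/
theorem result {G Ω : Type*} [Group G] [Finite G] [MulAction G Ω] [Finite Ω]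
    (hZ : Cfsg.IsZassenhausGroup G Ω) [IsSimpleGroup G] {a : Ω}
    (U : Subgroup G) (hUle : U ≤ MulAction.stabilizer G a)
    (hUn : ∀ h ∈ MulAction.stabilizer G a, ∀ u ∈ U, h * u * h⁻¹ ∈ U)
    (hreg : ∀ c d : Ω, c ≠ a → d ≠ a → ∃! u : U, (u : G) • c = d)
    (hU2 : IsPGroup 2 U) (hUab : ∀ u ∈ U, ∀ u' ∈ U, u * u' = u' * u)
    (v : G) (hv1 : v ≠ 1) (hv2 : v * v = 1) (hva : v • a ≠ a) :
    ∃! u₀ : G, u₀ ∈ U ∧ u₀ ≠ 1 ∧ v * u₀ * v = u₀ * v * u₀ := by
  classical
  haveI := Fintype.ofFinite Ω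
  have hZG := Cfsg.Agent.H9.ZassA.ZG.of_zass hZ
  have hn : (U.subgroupOf (MulAction.stabilizer G a)).Normal := by
    constructor
    rintro ⟨u, hu⟩ hu1 ⟨g, hg⟩
    exact hUn g hg u hu1
  have hK := Cfsg.Agent.H9.ZassA.Ker.of_result hUle hn hreg
  have hab : a ≠ v • a := hva.symm
  have h3 := Cfsg.Agent.H9.ZassC.three_le hZ
  have hbig : Fintype.card Ω - 2 ≤ 2 * Nat.card ↥(MulAction.stabilizer G a ⊓ MulAction.stabilizer G (v • a)) := by
    rcases Cfsg.Agent.H9.Feit.main hZ hab hK hUab with h | ⟨h, -⟩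
    · have := h.card_E h3 hab
      omega
    · omega
  obtain ⟨p, f, hp, hpU, -, hcard⟩ := (Cfsg.Agent.H9.ZassC.Ker.toBig hZG hab hK hbig h3).elementary
  have hU2' : ∀ u ∈ U, u * u = 1 := by
    intro u hu
    by_cases hu1 : u = 1
    · rw [hu1, one_mul]
    · haveI : Fact (Nat.Prime 2) := ⟨Nat.prime_two⟩
      obtain ⟨k, hk⟩ := (IsPGroup.iff_orderOf.mp hU2) ⟨u, hu⟩
      rw [Subgroup.orderOf_mk] at hk
      have h1 : orderOf u ∣ p := orderOf_dvd_of_pow_eq_one (hpU u hu)
      rcases (Nat.dvd_prime hp).1 h1 with h2 | h2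
      · exact absurd (orderOf_eq_one_iff.1 h2) hu1
      · have h3 : p = 2 := by
          rw [h2] at hk
          have hk0 : k ≠ 0 := by
            rintro rfl
            rw [pow_zero] at hk
            exact hp.one_lt.ne' hk
          have : 2 ∣ p := by rw [hk]; exact dvd_pow_self 2 hk0
          exact ((Nat.prime_dvd_prime_iff_eq Nat.prime_two hp).1 this).symm
        rw [← pow_two, ← h3]
        exact hpU u hu
  have hv2' : orderOf v = 2 := orderOf_eq_prime (by rw [pow_two, hv2]) hv1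
  have hvb : v • (v • a) = a := by rw [← mul_smul, hv2, one_smul]
  -- odd degree
  have hoddΩ : Odd (Fintype.card Ω) := by
    have h1 := Cfsg.Agent.H9.ZassC.Ker.card hab hK
    haveI : Fact (Nat.Prime 2) := ⟨Nat.prime_two⟩
    obtain ⟨k, hk⟩ := (IsPGroup.iff_card.mp hU2)
    have h4 : k ≠ 0 := by
      rintro rfl
      rw [pow_zero] at hk
      omega
    have h5 : 2 ∣ Nat.card U := by rw [hk]; exact dvd_pow_self 2 h4
    obtain ⟨m, hm⟩ := h5
    exact ⟨m, by omega⟩
  have hfix := ((Cfsg.Agent.S0740.result hZ hab).2.1 v hv2' rfl hvb).1 hoddΩ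
  obtain ⟨c, hc, hcu⟩ : ∃ c : Ω, v • c = c ∧ ∀ c' : Ω, v • c' = c' → c' = c := by
    have h1 := Nat.card_eq_one_iff_unique.mp hfix
    obtain ⟨h2, ⟨c⟩⟩ := h1
    refine ⟨c, c.2, fun c' hc' => ?_⟩
    have := h2.elim ⟨c', hc'⟩ c
    exact congrArg Subtype.val this
  have hca : c ≠ a := by
    rintro rfl
    exact hva hc
  have hcb : c ≠ v • a := by
    intro h
    rw [h, hvb] at hc
    exact hva hc.symm
  obtain ⟨⟨w, hw⟩, hwc, hwu⟩ := hreg c (v • a) hca hva
  change w • c = v • a at hwc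
  have hww : w * w = 1 := hU2' w hw
  have hwb : w • (v • a) = c := by rw [← hwc, ← mul_smul, hww, one_smul]
  have hwa : w • a = a := hUle hw
  have hw1 : w ≠ 1 := by
    rintro rfl
    rw [one_smul] at hwc
    exact hcb hwc
  refine ⟨w, ⟨hw, hw1, ?_⟩, ?_⟩
  · have h1 : (w * v * w)⁻¹ * (v * w * v) = 1 := by
      apply hZG.three _ a (v • a) c hab hcb.symm hca.symm
      · rw [mul_smul, inv_smul_eq_iff]
        simp only [mul_smul, hwa, hwb, hwc, hc, hvb]
      · rw [mul_smul, inv_smul_eq_iff]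
        simp only [mul_smul, hwa, hwb, hwc, hc, hvb]
      · rw [mul_smul, inv_smul_eq_iff]
        simp only [mul_smul, hwa, hwb, hwc, hc, hvb]
    rw [inv_mul_eq_one] at h1
    exact h1.symm
  · rintro u ⟨hu, hu1, hue⟩
    have huu : u * u = 1 := hU2' u hu
    have hua : u • a = a := hUle hu
    have h1 : v • (u • (v • a)) = u • (v • a) := by
      have h2 : (v * u * v) • (v • a) = (u * v * u) • (v • a) := by rw [hue]
      simp only [mul_smul, hvb, hua] at h2
      -- v • a = u • v • u • v • a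
      have h3 : u • (v • a) = u • u • v • u • v • a := by rw [← h2]
      rw [← mul_smul u u, huu, one_smul] at h3
      exact h3.symm
    have h2 := hcu _ h1
    have h3 : u • c = v • a := by rw [← h2, ← mul_smul, huu, one_smul]
    have h4 := hwu ⟨u, hu⟩ h3
    exact congrArg Subtype.val h4

end Cfsg.Agent.S1167
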