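import Cfsg.Statements.S1249
import Mathlib

set_option autoImplicit false
open Cfsg

namespace Cfsg.Agent.S1249

/-- Let P and Q be Sylow p-subgroups of the finite group G both containing the subgroup A. If A is strongly closed in P, then A is strongly closed in Q. -/
theorem result {G : Type*} [Group G] [Finite G] {p : ℕ} [Fact p.Prime] (P Q : Sylow p G) (A : Subgroup G) (hAQ : A ≤ Q) (hA : Cfsg.IsStronglyClosed A (P : Subgroup G)) : Cfsg.IsStronglyClosed A (Q : Subgroup G) := by
  obtain ⟨hAP, hcl⟩ := hA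
  refine ⟨hAQ, fun x hx g hg => ?_⟩
  obtain ⟨a, ha⟩ := MulAction.exists_smul_eq G P Q
  have mem : ∀ y : G, y ∈ Q → a⁻¹ * y * a ∈ (P : Subgroup G) := by
    intro y hy
    rw [← ha] at hy
    change y ∈ ((a • P : Sylow p G) : Subgroup G) at hy
    rw [Sylow.coe_subgroup_smul, Subgroup.mem_pointwise_smul_iff_inv_smul_mem, ← map_inv,
      MulAut.smul_def, MulAut.conj_apply, inv_inv] at hy
    exact hy
  have h1 : ∀ y ∈ A, a⁻¹ * y * a ∈ A := by
    intro y hy
    have := hcl y hy a⁻¹ (by simpa using mem y (hAQ hy))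
    simpa using this
  -- conjugation by a⁻¹ maps A to A, hence A onto A
  have h2 : A.map (MulAut.conj a⁻¹).toMonoidHom = A := by
    apply Subgroup.eq_of_le_of_card_ge
    · rintro _ ⟨y, hy, rfl⟩
      simpa using h1 y hy
    · rw [Subgroup.card_map_of_injective (MulAut.conj a⁻¹).injective]
  have h3 : a⁻¹ * (g * x * g⁻¹) * a ∈ A := by
    have := hcl x hx (a⁻¹ * g) (by
      have := mem _ hg
      simpa [mul_assoc] using this)
    simpa [mul_assoc] using this
  rw [← h2] at h3
  obtain ⟨y, hy, hy2⟩ := h3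
  have h4 : y = g * x * g⁻¹ := by
    simp only [MulEquiv.toMonoidHom_eq_coe, MonoidHom.coe_coe, MulAut.conj_apply, inv_inv] at hy2
    have := congrArg (fun w => a * w * a⁻¹) hy2
    calc y = a * (a⁻¹ * y * a) * a⁻¹ := by group
      _ = a * (a⁻¹ * (g * x * g⁻¹) * a) * a⁻¹ := this
      _ = g * x * g⁻¹ := by group
  rw [← h4]
  exact hy

end Cfsg.Agent.S1249
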