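import Cfsg.Statements.S1250
import Mathlib

set_option autoImplicit false
open Cfsg

namespace Cfsg.Agent.S1250

/-- Let S be a Sylow p-subgroup of the finite group G, A ≤ S strongly closed in S, and N a normal subgroup. Then the image of A in G ⧸ N is strongly closed in the image of S (which is a Sylow p-subgroup of G ⧸ N). -/
theorem result {G : Type*} [Group G] [Finite G] {p : ℕ} [Fact p.Prime] (S : Sylow p G) (A : Subgroup G) (hA : Cfsg.IsStronglyClosed A (S : Subgroup G)) (N : Subgroup G) [N.Normal] : Cfsg.IsStronglyClosed (A.map (QuotientGroup.mk' N)) ((S : Subgroup G).map (QuotientGroup.mk' N)) := by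
  obtain ⟨hAS, hcl⟩ := hA
  refine ⟨Subgroup.map_mono hAS, ?_⟩
  rintro _ ⟨x, hx, rfl⟩ gb hgb
  obtain ⟨g, rfl⟩ := QuotientGroup.mk_surjective gb
  obtain ⟨s, hs, hs2⟩ := hgb
  have hy : g * x * g⁻¹ ∈ (N ⊔ S : Subgroup G) := by
    have h1 : s⁻¹ * (g * x * g⁻¹) ∈ N := by
      rw [← QuotientGroup.eq_one_iff, QuotientGroup.mk_mul, QuotientGroup.mk_inv]
      have h2 : (QuotientGroup.mk s : G ⧸ N) = QuotientGroup.mk (g * x * g⁻¹) := hs2
      rw [h2, inv_mul_cancel]
    have h2 : g * x * g⁻¹ = s * (s⁻¹ * (g * x * g⁻¹)) := by group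
    rw [h2]
    exact Subgroup.mul_mem _ (Subgroup.mem_sup_right hs) (Subgroup.mem_sup_left h1)
  -- Sylow in N ⊔ S
  set M : Subgroup G := N ⊔ S with hM
  have hSM : (S : Subgroup G) ≤ M := le_sup_right
  let y : M := ⟨g * x * g⁻¹, hy⟩
  have hyp : IsPGroup p (Subgroup.zpowers y) := by
    have hxp : IsPGroup p (Subgroup.zpowers x) := S.2.to_le (by rw [Subgroup.zpowers_le]; exact hAS hx)
    obtain ⟨k, hk⟩ := (IsPGroup.iff_card).mp hxp
    apply IsPGroup.of_card (n := k)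
    rw [Nat.card_zpowers] at hk ⊢
    rw [← Subgroup.orderOf_coe, ← hk]
    have := orderOf_injective (MulAut.conj g).toMonoidHom (MulAut.conj g).injective x
    simp only [MulEquiv.toMonoidHom_eq_coe, MonoidHom.coe_coe, MulAut.conj_apply] at this
    exact this
  obtain ⟨Q, hQ⟩ := hyp.exists_le_sylow
  obtain ⟨m, hm⟩ := MulAction.exists_smul_eq M Q (S.subtype hSM)
  have h1 : m * y * m⁻¹ ∈ (S.subtype hSM : Subgroup M) := by
    rw [← hm, Sylow.coe_subgroup_smul]
    refine ⟨y, hQ (Subgroup.mem_zpowers y), ?_⟩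
    simp
  rw [Sylow.coe_subtype, Subgroup.mem_subgroupOf] at h1
  have h2 : (m : G) * (g * x * g⁻¹) * (m : G)⁻¹ ∈ (S : Subgroup G) := h1
  -- write m = s' * n
  have hm2 : (m : G) ∈ (S ⊔ N : Subgroup G) := by rw [sup_comm]; exact m.2
  rw [← SetLike.mem_coe, Subgroup.mul_normal] at hm2
  obtain ⟨s', hs', n, hn, hsn⟩ := hm2
  have hsn' : (m : G) = s' * n := hsn.symm
  have h3 : n * (g * x * g⁻¹) * n⁻¹ ∈ (S : Subgroup G) := by
    have : n * (g * x * g⁻¹) * n⁻¹ = s'⁻¹ * ((m : G) * (g * x * g⁻¹) * (m : G)⁻¹) * s' := by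
      rw [hsn']; group
    rw [this]
    exact S.mul_mem (S.mul_mem (S.inv_mem hs') h2) hs'
  have h4 := hcl x hx (n * g) (by
    have e : n * g * x * (n * g)⁻¹ = n * (g * x * g⁻¹) * n⁻¹ := by group
    rw [e]; exact h3)
  refine ⟨_, h4, ?_⟩
  have hn1 : (QuotientGroup.mk n : G ⧸ N) = 1 := (QuotientGroup.eq_one_iff n).mpr hn
  simp only [QuotientGroup.mk'_apply, QuotientGroup.mk_mul, QuotientGroup.mk_inv, hn1, one_mul]

end Cfsg.Agent.S1250
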