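import Cfsg.Statements.S1251
import Mathlib
import Cfsg.Agent.H4_ZApp

set_option autoImplicit false
open Cfsg

namespace Cfsg.Agent.S1251

open Cfsg.Agent.H4.Inv Cfsg.Agent.H4.Iso

universe u

/-- the inductive statement -/
theorem aux (n : ℕ) : ∀ (G : Type u) [Group G] [Finite G] (T : Sylow 2 G) (A H : Subgroup G) [H.Normal],
    Nat.card A = n → Cfsg.IsStronglyClosed A (T : Subgroup G) → (∀ g : G, ∃ h ∈ H, ∃ a ∈ A, g = h * a) →
    A ⊓ H = ⊥ → (∀ x ∈ H, x ∈ Cfsg.oddCore G → x = 1) → ∀ a ∈ A, ∀ h ∈ H, Commute a h := by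
  induction n using Nat.strong_induction_on with
  | _ n ih =>
  intro G _ _ T A H hHn hcard hA hG hdisj hO
  have hf : Fact (Nat.Prime 2) := ⟨Nat.prime_two⟩
  by_cases hbot : A = ⊥
  · intro a ha h _
    rw [hbot, Subgroup.mem_bot] at ha
    rw [ha]; exact Commute.one_left h
  have hAT := hA.1
  have hAp : IsPGroup 2 A := T.2.to_le hAT
  haveI : Nontrivial A := (Subgroup.nontrivial_iff_ne_bot A).mpr hbot
  have hc := hAp.center_nontrivial
  have hc2 : 2 ∣ Nat.card (Subgroup.center A) := by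
    have h1 : IsPGroup 2 (Subgroup.center A) := hAp.to_subgroup _
    obtain ⟨n, hn0, hn⟩ := (IsPGroup.nontrivial_iff_card h1).mp hc
    rw [hn]; exact dvd_pow_self 2 hn0.ne'
  obtain ⟨w, hw⟩ := exists_prime_orderOf_dvd_card' 2 hc2
  set a : G := ((w : A) : G) with ha
  have haA : a ∈ A := (w : A).2
  have ha2 : orderOf a = 2 := by
    rw [ha, Subgroup.orderOf_coe, Subgroup.orderOf_coe]; exact hw
  have hacomm : ∀ b ∈ A, Commute b a := by
    intro b hb
    have h1 := (Subgroup.mem_center_iff.mp w.2) ⟨b, hb⟩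
    exact congrArg (fun x : A => (x : G)) h1
  -- a is isolated
  have hiso : Cfsg.IsIsolatedInvolution a := by
    refine (isolated_iff_sylow T ha2 (hAT haA)).mp (fun g hg => ?_)
    have h1 : g * a * g⁻¹ ∈ A := hA.2 a haA g hg
    obtain ⟨h, hh, b, hb, rfl⟩ := hG g
    have h2 : b * a * b⁻¹ = a := by rw [(hacomm b hb).eq]; group
    have h3 : h * b * a * (h * b)⁻¹ = h * a * h⁻¹ := by
      calc h * b * a * (h * b)⁻¹ = h * (b * a * b⁻¹) * h⁻¹ := by group
        _ = _ := by rw [h2]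
    rw [h3] at h1 ⊢
    have h4 : h * a * h⁻¹ * a⁻¹ ∈ A ⊓ H := by
      refine ⟨A.mul_mem h1 (A.inv_mem haA), ?_⟩
      have : h * a * h⁻¹ * a⁻¹ = h * (a * h⁻¹ * a⁻¹) := by group
      rw [this]
      exact H.mul_mem hh (hHn.conj_mem _ (H.inv_mem hh) a)
    rw [hdisj, Subgroup.mem_bot] at h4
    exact mul_inv_eq_one.mp h4
  have haH : ∀ h ∈ H, Commute a h := by
    intro h hh
    have h1 := Cfsg.Agent.H4.ZStar.zstar hiso h
    have h2 : a * h * a⁻¹ * h⁻¹ ∈ H := H.mul_mem (hHn.conj_mem h hh a) (H.inv_mem hh)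
    have h3 := hO _ h2 h1
    exact mul_inv_eq_iff_eq_mul.mp (mul_inv_eq_one.mp h3)
  have hac : ∀ g : G, Commute a g := by
    intro g
    obtain ⟨h, hh, b, hb, rfl⟩ := hG g
    exact (haH h hh).mul_right (hacomm b hb).symm
  -- quotient by ⟨a⟩
  let W : Subgroup G := Subgroup.zpowers a
  haveI hWn : W.Normal := by
    refine ⟨fun n hn g => ?_⟩
    obtain ⟨k, rfl⟩ := Subgroup.mem_zpowers_iff.mp hn
    have : g * a ^ k * g⁻¹ = a ^ k := by
      rw [((hac g).zpow_left k).symm.eq]; group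
    rw [this]; exact hn
  have hWA : W ≤ A := by rw [Subgroup.zpowers_le]; exact haA
  have hWcard : Nat.card W = 2 := by rw [Nat.card_zpowers, ha2]
  let π := QuotientGroup.mk' W
  have hπs : Function.Surjective π := QuotientGroup.mk'_surjective W
  have hker : ∀ x, π x = 1 ↔ x ∈ W := fun x => by
    rw [← MonoidHom.mem_ker, QuotientGroup.ker_mk']
  let A' : Subgroup (G ⧸ W) := A.map π
  let H' : Subgroup (G ⧸ W) := H.map π
  haveI hH'n : H'.Normal := hHn.map π hπs
  have hmemA : ∀ x, π x ∈ A' ↔ x ∈ A := by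
    intro x
    constructor
    · rintro ⟨y, hy, hyx⟩
      have h1 : π (y⁻¹ * x) = 1 := by rw [map_mul, map_inv, hyx, inv_mul_cancel]
      have h2 := hWA ((hker _).mp h1)
      have : x = y * (y⁻¹ * x) := by group
      rw [this]; exact A.mul_mem hy h2
    · intro h; exact ⟨x, h, rfl⟩
  let T' : Sylow 2 (G ⧸ W) := T.mapSurjective hπs
  have hT'mem : ∀ x, π x ∈ (T' : Subgroup (G ⧸ W)) ↔ x ∈ (T : Subgroup G) := by
    intro x
    constructor
    · rintro ⟨y, hy, hyx⟩
      have h1 : π (y⁻¹ * x) = 1 := by rw [map_mul, map_inv, hyx, inv_mul_cancel]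
      have h2 := hAT (hWA ((hker _).mp h1))
      have : x = y * (y⁻¹ * x) := by group
      rw [this]; exact (T : Subgroup G).mul_mem hy h2
    · intro h; exact ⟨x, h, rfl⟩
  have hcard' : Nat.card A' < n := by
    have h1 := Subgroup.card_eq_card_quotient_mul_card_subgroup (W.subgroupOf A)
    have h2 : Nat.card A' = Nat.card (A ⧸ W.subgroupOf A) := by
      let f : A →* A' := (π.comp A.subtype).codRestrict A' (fun x => ⟨x, x.2, rfl⟩)
      have hf1 : f.ker = W.subgroupOf A := by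
        ext x
        rw [MonoidHom.mem_ker, Subgroup.mem_subgroupOf, ← hker]
        constructor
        · intro h
          exact congrArg Subtype.val h
        · intro h
          exact Subtype.ext h
      have hf2 : Function.Surjective f := by
        rintro ⟨y, x, hx, rfl⟩
        exact ⟨⟨x, hx⟩, rfl⟩
      rw [← hf1]
      exact (Nat.card_congr (QuotientGroup.quotientKerEquivOfSurjective f hf2).toEquiv).symm
    have h3 : Nat.card (W.subgroupOf A) = 2 := by
      rw [Nat.card_congr (Subgroup.subgroupOfEquivOfLe hWA).toEquiv, hWcard]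
    rw [h3, hcard, ← h2] at h1
    have h4 : 0 < Nat.card A' := Nat.card_pos
    omega
  have hres := ih _ hcard' (G ⧸ W) T' A' H' rfl ⟨?_, ?_⟩ ?_ ?_ ?_
  · intro b hb h hh
    have h1 := hres (π b) ⟨b, hb, rfl⟩ (π h) ⟨h, hh, rfl⟩
    have h2 : π (b * h * b⁻¹ * h⁻¹) = 1 := by
      rw [map_mul, map_mul, map_mul, map_inv, map_inv, h1.eq]; group
    have h3 : b * h * b⁻¹ * h⁻¹ ∈ A ⊓ H := 
      ⟨hWA ((hker _).mp h2), H.mul_mem (hHn.conj_mem h hh b) (H.inv_mem hh)⟩
    rw [hdisj, Subgroup.mem_bot] at h3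
    exact mul_inv_eq_iff_eq_mul.mp (mul_inv_eq_one.mp h3)
  · rintro _ ⟨x, hx, rfl⟩
    exact (hT'mem x).mpr (hAT hx)
  · rintro _ ⟨x, hx, rfl⟩ gb hg
    obtain ⟨g, rfl⟩ := hπs gb
    rw [← map_inv, ← map_mul, ← map_mul] at hg ⊢
    rw [hT'mem] at hg
    rw [hmemA]
    exact hA.2 x hx g hg
  · intro gb
    obtain ⟨g, rfl⟩ := hπs gb
    obtain ⟨h, hh, b, hb, rfl⟩ := hG g
    exact ⟨π h, ⟨h, hh, rfl⟩, π b, ⟨b, hb, rfl⟩, map_mul _ _ _⟩
  · rw [eq_bot_iff]
    rintro _ ⟨⟨x, hx, rfl⟩, h, hh, hhx⟩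
    have h1 : π (x⁻¹ * h) = 1 := by rw [map_mul, map_inv, hhx, inv_mul_cancel]
    have h2 : h ∈ A ⊓ H := by
      refine ⟨?_, hh⟩
      have : h = x * (x⁻¹ * h) := by group
      rw [this]; exact A.mul_mem hx (hWA ((hker _).mp h1))
    rw [hdisj, Subgroup.mem_bot] at h2
    rw [h2, mul_one] at h1
    rw [Subgroup.mem_bot, ← inv_inv x, map_inv, h1, inv_one]
  · rintro _ ⟨x, hx, rfl⟩ hxO
    -- the preimage of O(G/W) in H has odd order
    have hWH : W ⊓ H = ⊥ := by
      rw [eq_bot_iff, ← hdisj]; exact inf_le_inf_right H hWA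
    let R : Subgroup G := (Cfsg.oddCore (G ⧸ W)).comap π ⊓ H
    haveI hRn : R.Normal := inferInstance
    have hRodd : (Nat.card R).Coprime 2 := by
      let f : R →* (Cfsg.oddCore (G ⧸ W)) := (π.comp R.subtype).codRestrict _ (fun x => x.2.1)
      have hf : Function.Injective f := by
        rw [injective_iff_map_eq_one]
        intro y hy
        have h1 : π (y : G) = 1 := congrArg Subtype.val hy
        have h2 : (y : G) ∈ W ⊓ H := ⟨(hker _).mp h1, y.2.2⟩
        rw [hWH, Subgroup.mem_bot] at h2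
        exact Subtype.ext h2
      exact Nat.Coprime.of_dvd_left (Subgroup.card_dvd_of_injective f hf)
        (Cfsg.Agent.H11.Cores.pPrimeCore_coprime 2)
    have hRO : R ≤ Cfsg.oddCore G := Cfsg.Agent.H11.Cores.le_pPrimeCore 2 hRodd
    have hxR : x ∈ R := ⟨hxO, hx⟩
    rw [hO x hx (hRO hxR), map_one]

/-- Let S be a Sylow 2-subgroup of the finite group G and A ≤ S strongly closed in S. If H is a subgroup normalized by A with no nontrivial normal subgroup of odd order and A ∩ H = 1, then A ≤ C_G(H). -/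
theorem result {G : Type*} [Group G] [Finite G] (S : Sylow 2 G) (A : Subgroup G) (hA : Cfsg.IsStronglyClosed A (S : Subgroup G)) (H : Subgroup G) (hAH : A ≤ Subgroup.normalizer (H : Set G)) (hO : Cfsg.oddCore ↥H = ⊥) (hdisj : A ⊓ H = ⊥) : A ≤ Subgroup.centralizer (H : Set G) := by
  have hf : Fact (Nat.Prime 2) := ⟨Nat.prime_two⟩
  set L : Subgroup G := A ⊔ H with hL
  have hHL : H ≤ L := le_sup_right
  have hAL : A ≤ L := le_sup_left
  have hLH : L ≤ Subgroup.normalizer (H : Set G) := sup_le hAH Subgroup.le_normalizer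
  haveI hHn : (H.subgroupOf L).Normal := Subgroup.normal_subgroupOf_of_le_normalizer hLH
  have hAp : IsPGroup 2 (A.subgroupOf L) := (S.2.to_le hA.1).comap_of_injective L.subtype L.subtype_injective
  obtain ⟨T, hT⟩ := hAp.exists_le_sylow
  -- a conjugate of S containing T
  obtain ⟨g, hg⟩ := Cfsg.Agent.H4.Util.exists_conj_le S ((T : Subgroup L).map L.subtype) (T.2.map L.subtype)
  have hgA : ∀ x ∈ A, g * x * g⁻¹ ∈ A := by
    intro x hx
    refine hA.2 x hx g (hg x ⟨⟨x, hAL hx⟩, hT hx, rfl⟩)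
  have hgN : g ∈ Subgroup.normalizer (A : Set G) := Cfsg.Agent.H4.Util.mem_normalizer_of_forall hgA
  have hSC : Cfsg.IsStronglyClosed (A.subgroupOf L) (T : Subgroup L) := by
    refine ⟨hT, ?_⟩
    intro x hx l hl
    have h1 := hg _ ⟨_, hl, rfl⟩
    have h2 : g * ((l * x * l⁻¹ : L) : G) * g⁻¹ = (g * l) * x * (g * l)⁻¹ := by
      simp only [Subgroup.coe_mul, Subgroup.coe_inv]; group
    have h3 : L.subtype (l * x * l⁻¹) = ((l * x * l⁻¹ : L) : G) := rfl
    rw [h3, h2] at h1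
    have h4 := hA.2 (x : G) hx _ h1
    rw [← h2] at h4
    exact (Subgroup.mem_normalizer_iff.mp hgN _).mpr h4
  have hmain := aux _ L T (A.subgroupOf L) (H.subgroupOf L) rfl hSC ?_ ?_ ?_
  · intro a ha
    rw [Subgroup.mem_centralizer_iff]
    intro h hh
    have h1 := hmain ⟨a, hAL ha⟩ ha ⟨h, hHL hh⟩ hh
    exact (congrArg (fun x : L => (x : G)) h1.eq).symm
  · intro x
    have h1 : x ∈ A.subgroupOf L ⊔ H.subgroupOf L := by
      rw [← Subgroup.subgroupOf_sup hAL hHL, ← hL, Subgroup.subgroupOf_self]; trivial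
    rw [Subgroup.mem_sup_of_normal_right] at h1
    obtain ⟨y, hy, w, hw, rfl⟩ := h1
    exact ⟨y * w * y⁻¹, hHn.conj_mem w hw y, y, hy, by group⟩
  · rw [eq_bot_iff]
    rintro x ⟨h1, h2⟩
    have h3 : (x : G) ∈ A ⊓ H := ⟨h1, h2⟩
    rw [hdisj, Subgroup.mem_bot] at h3
    exact Subtype.ext h3
  · intro x hx hxO
    let R : Subgroup L := Cfsg.oddCore L ⊓ H.subgroupOf L
    haveI hRn : R.Normal := inferInstance
    let N : Subgroup H := (R.map L.subtype).subgroupOf H
    have hNn : N.Normal := by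
      refine ⟨fun n hn h => ?_⟩
      obtain ⟨r, hr, hrn⟩ := hn
      refine ⟨⟨h, hHL h.2⟩ * r * (⟨h, hHL h.2⟩)⁻¹, hRn.conj_mem r hr _, ?_⟩
      simp only [Subgroup.coe_subtype, Subgroup.coe_mul, Subgroup.coe_inv] at hrn ⊢
      rw [hrn]
    have hNodd : (Nat.card N).Coprime 2 := by
      have hle : R.map L.subtype ≤ H := by
        rintro _ ⟨r, hr, rfl⟩
        exact hr.2
      have h1 : Nat.card N = Nat.card R := by
        rw [Nat.card_congr (Subgroup.subgroupOfEquivOfLe hle).toEquiv,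
          Subgroup.card_map_of_injective L.subtype_injective]
      rw [h1]
      exact Nat.Coprime.of_dvd_left (Subgroup.card_dvd_of_le inf_le_left)
        (Cfsg.Agent.H11.Cores.pPrimeCore_coprime 2)
    have hNO : N ≤ Cfsg.oddCore H := Cfsg.Agent.H11.Cores.le_pPrimeCore 2 hNodd
    have hxN : (⟨(x : G), hx⟩ : H) ∈ N := ⟨x, ⟨hxO, hx⟩, rfl⟩
    have h2 := hNO hxN
    rw [hO, Subgroup.mem_bot] at h2
    have h3 : (x : G) = 1 := congrArg Subtype.val h2
    exact Subtype.ext h3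

end Cfsg.Agent.S1251
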