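import Cfsg.Statements.S1322
import Mathlib
import Cfsg.Agent.H5_CInv
import Cfsg.Agent.S0205

set_option autoImplicit false
open Cfsg

namespace Cfsg.Agent.S1322

/-- Let G be finite with L_{2'}(G) = E(G), t an involution and L ≤ C_G(t) a component of C_G(t). Then there is a component D of G with: L = D; or L < D and D = ⁅D, ⟨t⟩⁆; or tDt⁻¹ ≠ D and L is the layer of C_{D ⊔ tDt⁻¹}(t). -/
theorem result {G : Type*} [Group G] [Finite G] (hL2 : Cfsg.pLayer 2 G = Cfsg.layer G) (t : G) (ht : orderOf t = 2) (L : Subgroup G) (hLt : L ≤ Subgroup.centralizer ({t} : Set G)) (hL : Cfsg.IsComponent (L.subgroupOf (Subgroup.centralizer ({t} : Set G)))) : ∃ D : Subgroup G, Cfsg.IsComponent D ∧ (L = D ∨ (L < D ∧ D = ⁅D, Subgroup.zpowers t⁆) ∨ (D.map (MulAut.conj t).toMonoidHom ≠ D ∧ L = (Cfsg.layer ↥((D ⊔ D.map (MulAut.conj t).toMonoidHom) ⊓ Subgroup.centralizer ({t} : Set G))).map ((D ⊔ D.map (MulAut.conj t).toMonoidHom) ⊓ Subgroup.centralizer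 ({t} : Set G)).subtype)) := by
  have h2 : 2 ∣ Nat.card L := by
    by_contra h
    have h3 : Odd (Nat.card L) := Nat.not_even_iff_odd.1 (fun h' => h (even_iff_two_dvd.1 h'))
    exact Cfsg.Agent.H11.Components.IsQuasisimple.not_isSolvable
      (Cfsg.Agent.H11.CompOf.isQuasisimple_of ⟨hLt, hL⟩) (Cfsg.Agent.S0205.result h3)
  exact Cfsg.Agent.H5.CInv.main hL2 t ht L ⟨hLt, hL⟩ h2

end Cfsg.Agent.S1322
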