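import Cfsg.Statements.S1323
import Mathlib
import Cfsg.Agent.H11_Components
import Cfsg.Agent.H24_Tools


set_option autoImplicit false
open Cfsg

namespace Cfsg.Agent.S1323
open Subgroup Equiv Equiv.Perm

section

variable {n : ℕ}

/-- even permutations supported in `X` -/
def F (X : Finset (Fin n)) : Subgroup (alternatingGroup (Fin n)) where
  carrier := {g | ∀ x, x ∉ X → (g : Perm (Fin n)) x = x}
  one_mem' := fun x _ => rfl
  mul_mem' := by
    intro a b ha hb x hx
    change (a : Perm (Fin n)) ((b : Perm (Fin n)) x) = x
    rw [hb x hx, ha x hx]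
  inv_mem' := by
    intro a ha x hx
    change (a : Perm (Fin n))⁻¹ x = x
    rw [Perm.inv_eq_iff_eq, ha x hx]

theorem mem_F {X : Finset (Fin n)} {g : alternatingGroup (Fin n)} : g ∈ F X ↔ ∀ x, x ∉ X → (g : Perm (Fin n)) x = x := Iff.rfl

/-- three-cycles -/
theorem exists_cyc {X : Finset (Fin n)} {e x y : Fin n} (he : e ∈ X) (hx : x ∈ X) (hy : y ∈ X) (hex : e ≠ x) (hey : e ≠ y) (hxy : x ≠ y) :
    ∃ c ∈ F X, (c : Perm (Fin n)) e = y ∧ ∀ z, z ≠ e → z ≠ x → z ≠ y → (c : Perm (Fin n)) z = z := by
  have h3 := isThreeCycle_swap_mul_swap_same hex hey hxy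
  refine ⟨⟨swap e x * swap e y, h3.mem_alternatingGroup⟩, ?_, ?_, ?_⟩
  · intro z hz
    change swap e x (swap e y z) = z
    have n1 : z ≠ e := fun h => hz (h ▸ he)
    have n2 : z ≠ x := fun h => hz (h ▸ hx)
    have n3 : z ≠ y := fun h => hz (h ▸ hy)
    rw [swap_apply_of_ne_of_ne n1 n3, swap_apply_of_ne_of_ne n1 n2]
  · change swap e x (swap e y e) = y
    rw [swap_apply_left, swap_apply_of_ne_of_ne hey.symm hxy.symm]
  · intro z h1 h2 h3
    change swap e x (swap e y z) = z
    rw [swap_apply_of_ne_of_ne h1 h3, swap_apply_of_ne_of_ne h1 h2]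

theorem cent {X : Finset (Fin n)} (hX : 4 ≤ X.card) : centralizer (F X : Set (alternatingGroup (Fin n))) = F Xᶜ := by
  ext g
  rw [mem_centralizer_iff, mem_F]
  constructor
  · intro h e he
    rw [Finset.mem_compl, not_not] at he
    by_contra hne
    set f := (g : Perm (Fin n)) e with hf
    have hc : 2 ≤ ((X.erase e).erase f).card := by
      have h1 := Finset.pred_card_le_card_erase (s := X.erase e) (a := f)
      have h2 := Finset.card_erase_of_mem he
      omega
    obtain ⟨x, hx, y, hy, hxy⟩ := Finset.one_lt_card.1 (by omega : 1 < ((X.erase e).erase f).card)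
    rw [Finset.mem_erase, Finset.mem_erase] at hx hy
    obtain ⟨c, hc, hce, hcz⟩ := exists_cyc he hx.2.2 hy.2.2 hx.2.1.symm hy.2.1.symm hxy
    have h1 := h c hc
    have h2 : (c : Perm (Fin n)) ((g : Perm (Fin n)) e) = (g : Perm (Fin n)) ((c : Perm (Fin n)) e) :=
      congrArg (fun z : alternatingGroup (Fin n) => (z : Perm (Fin n)) e) h1
    rw [hce, ← hf, hcz f hne hx.1.symm hy.1.symm, hf] at h2
    exact hy.2.1 ((g : Perm (Fin n)).injective h2).symm
  · intro h c hc
    apply Subtype.ext
    apply Equiv.ext
    intro x
    change (c : Perm (Fin n)) ((g : Perm (Fin n)) x) = (g : Perm (Fin n)) ((c : Perm (Fin n)) x)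
    by_cases hx : x ∈ X
    · have h1 : (g : Perm (Fin n)) x = x := h x (by rw [Finset.mem_compl, not_not]; exact hx)
      have h2 : (c : Perm (Fin n)) x ∈ X := by
        by_contra h3
        have h4 := hc _ h3
        have h5 := (c : Perm (Fin n)).injective h4
        rw [h5] at h3
        exact h3 hx
      rw [h1, h _ (by rw [Finset.mem_compl, not_not]; exact h2)]
    · have h1 : (c : Perm (Fin n)) x = x := hc x hx
      have h2 : (g : Perm (Fin n)) x ∉ X := by
        intro h3
        have h4 := h _ (by rw [Finset.mem_compl, not_not]; exact h3)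
        have h5 := (g : Perm (Fin n)).injective h4
        rw [h5] at h3
        exact hx h3
      rw [h1, hc _ h2]

theorem norm_cent {G : Type*} [Group G] (H : Subgroup G) : normalizer (H : Set G) ≤ normalizer (centralizer (H : Set G) : Set G) := by
  intro g hg
  rw [mem_normalizer_iff]
  intro z
  change z ∈ centralizer (H : Set G) ↔ g * z * g⁻¹ ∈ centralizer (H : Set G)
  rw [mem_centralizer_iff, mem_centralizer_iff]
  constructor
  · intro h x hx
    have h1 : g⁻¹ * x * g ∈ H := by
      rw [mem_normalizer_iff] at hg
      rw [hg]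
      have e : g * (g⁻¹ * x * g) * g⁻¹ = x := by group
      rw [e]; exact hx
    have h2 := h _ h1
    calc x * (g * z * g⁻¹) = g * ((g⁻¹ * x * g) * z) * g⁻¹ := by group
      _ = g * (z * (g⁻¹ * x * g)) * g⁻¹ := by rw [h2]
      _ = _ := by group
  · intro h x hx
    have h1 : g * x * g⁻¹ ∈ H := (mem_normalizer_iff.1 hg x).1 hx
    have h2 := h _ h1
    calc x * z = g⁻¹ * ((g * x * g⁻¹) * (g * z * g⁻¹)) * g := by group
      _ = g⁻¹ * ((g * z * g⁻¹) * (g * x * g⁻¹)) * g := by rw [h2]
      _ = _ := by group

theorem simple {X : Finset (Fin n)} (hX : 5 ≤ X.card) : IsSimpleGroup (F X) ∧ ¬ IsMulCommutative (F X) := by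
  classical
  have hc : 5 ≤ Nat.card {x // x ∈ X} := by
    rw [Nat.card_eq_fintype_card, Fintype.card_coe]; exact hX
  haveI := alternatingGroup.isSimpleGroup (α := {x // x ∈ X}) hc
  let ψ : alternatingGroup {x // x ∈ X} →* F X :=
    { toFun := fun g => ⟨⟨ofSubtype (g : Perm {x // x ∈ X}), by
          rw [mem_alternatingGroup, sign_ofSubtype]
          exact mem_alternatingGroup.1 g.2⟩, fun x hx => ofSubtype_apply_of_not_mem _ hx⟩
      map_one' := by
        apply Subtype.ext; apply Subtype.ext
        exact map_one ofSubtype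
      map_mul' := by
        intro a b
        apply Subtype.ext; apply Subtype.ext
        exact map_mul ofSubtype _ _ }
  have hsurj : Function.Surjective ψ := by
    rintro ⟨⟨g, hg⟩, hgX⟩
    have h1 : ∀ x, x ∈ X ↔ g x ∈ X := by
      intro x
      constructor
      · intro hx
        by_contra h3
        have h4 : g (g x) = g x := hgX _ h3
        have h5 := g.injective h4
        rw [h5] at h3
        exact h3 hx
      · intro h3
        by_contra hx
        have h4 : g x = x := hgX _ hx
        rw [h4] at h3
        exact hx h3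
    have h2 : ∀ x, g x ≠ x → x ∈ X := by
      intro x hx
      by_contra h3
      exact hx (hgX x h3)
    refine ⟨⟨subtypePerm g (fun x => (h1 x).symm), ?_⟩, ?_⟩
    · rw [mem_alternatingGroup]
      have := sign_subtypePerm g (fun x => (h1 x).symm) h2
      convert this.trans (mem_alternatingGroup.1 hg)
    · apply Subtype.ext; apply Subtype.ext
      exact ofSubtype_subtypePerm (fun x => (h1 x).symm) h2
  have hnc : ¬ IsMulCommutative (F X) := by
    intro h
    have h1 : F X ≤ centralizer (F X : Set (alternatingGroup (Fin n))) := by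
      intro a ha
      rw [mem_centralizer_iff]
      intro b hb
      exact congrArg Subtype.val (h.is_comm.comm (⟨b, hb⟩ : F X) ⟨a, ha⟩)
    rw [cent (by omega)] at h1
    obtain ⟨x, hx, y, hy, hxy⟩ := Finset.one_lt_card.1 (by omega : 1 < X.card)
    have hc : 1 ≤ ((X.erase x).erase y).card := by
      have h1 := Finset.pred_card_le_card_erase (s := X.erase x) (a := y)
      have h2 := Finset.card_erase_of_mem hx
      omega
    obtain ⟨z, hz⟩ := Finset.card_pos.1 hc
    rw [Finset.mem_erase, Finset.mem_erase] at hz
    obtain ⟨c, hc, hce, hcz⟩ := exists_cyc hx hy hz.2.2 hxy hz.2.1.symm hz.1.symm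
    have h2 := h1 hc x (by rw [Finset.mem_compl, not_not]; exact hx)
    rw [hce] at h2
    exact hz.2.1 h2
  haveI : Nontrivial (F X) := by
    by_contra h
    rw [not_nontrivial_iff_subsingleton] at h
    exact hnc ⟨⟨fun a b => Subsingleton.elim _ _⟩⟩
  exact ⟨IsSimpleGroup.isSimpleGroup_of_surjective ψ hsurj, hnc⟩

end

/-- For n ≥ 9, the subgroup of the alternating group on Fin n fixing each of the points 0, 1, 2, 3 is a standard subgroup. -/
theorem result (n : ℕ) (h4 : 4 ≤ n) (hn : 9 ≤ n) : Cfsg.IsStandardSubgroup (⨅ i : Fin 4, MulAction.stabilizer ↥(alternatingGroup (Fin n)) (Fin.castLE h4 i : Fin n)) := by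

  classical
  set D : Finset (Fin n) := Finset.univ.image (Fin.castLE h4) with hD
  have hDc : D.card = 4 := by
    rw [hD, Finset.card_image_of_injective _ (Fin.castLE_injective h4)]; rfl
  have hEc : Dᶜ.card = n - 4 := by
    rw [Finset.card_compl, hDc, Fintype.card_fin]
  have hL : (⨅ i : Fin 4, MulAction.stabilizer ↥(alternatingGroup (Fin n)) (Fin.castLE h4 i : Fin n)) = F Dᶜ := by
    ext g
    rw [Subgroup.mem_iInf, mem_F]
    constructor
    · intro h x hx
      rw [Finset.mem_compl, not_not, hD, Finset.mem_image] at hx
      obtain ⟨i, _, rfl⟩ := hx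
      exact h i
    · intro h i
      exact h _ (by rw [Finset.mem_compl, not_not, hD]; exact Finset.mem_image_of_mem _ (Finset.mem_univ i))
  rw [hL]
  have hCL : centralizer (F Dᶜ : Set (alternatingGroup (Fin n))) = F D := by
    rw [cent (by omega), compl_compl]
  have hCK : centralizer (F D : Set (alternatingGroup (Fin n))) = F Dᶜ := cent (by omega)
  have hmap : ∀ (X : Finset (Fin n)) (g x : alternatingGroup (Fin n)), x ∈ (F X).map (MulAut.conj g).toMonoidHom ↔
      g⁻¹ * x * g ∈ F X := fun X g x => H24.Tools.mem_map_conj
  refine ⟨?_, ?_, ?_, ?_⟩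
  · obtain ⟨h1, h2⟩ := simple (X := Dᶜ) (by omega)
    haveI := h1
    exact H11.Components.isQuasisimple_of_isSimpleGroup h2
  · rw [hCL]
    -- four distinct points
    have key : ∀ t ∈ F D, t * t = 1 → t ≠ 1 → ∀ x, (t : Perm (Fin n)) x ≠ x ↔ x ∈ D := by
      intro t ht ht2 ht1
      have hsub : (t : Perm (Fin n)).support ⊆ D := by
        intro x hx
        rw [mem_support] at hx
        by_contra h
        exact hx (ht x h)
      have hpow : (t : Perm (Fin n)) ^ 2 = 1 := by
        rw [pow_two]; exact congrArg Subtype.val ht2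
      have hsign := sign_of_pow_two_eq_one hpow
      rw [mem_alternatingGroup.1 t.2] at hsign
      have hcard : 4 ≤ (t : Perm (Fin n)).support.card := by
        have h5 := cycleType_of_pow_prime_eq_one (p := 2) hpow
        have h6 : (t : Perm (Fin n)).support.card = (t : Perm (Fin n)).cycleType.card * 2 := by
          rw [← sum_cycleType, h5]; simp
        have h7 := sign_of_cycleType (t : Perm (Fin n))
        rw [mem_alternatingGroup.1 t.2, h5, Multiset.sum_replicate, Multiset.card_replicate, smul_eq_mul] at h7
        have h8 : (t : Perm (Fin n)).cycleType.card ≠ 0 := by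
          intro h
          rw [Multiset.card_eq_zero, cycleType_eq_zero] at h
          exact ht1 (Subtype.ext h)
        have h9 : (t : Perm (Fin n)).cycleType.card ≠ 1 := by
          intro h
          rw [h] at h7
          exact absurd h7 (by decide)
        omega
      have heq : (t : Perm (Fin n)).support = D := Finset.eq_of_subset_of_card_le hsub (by omega)
      intro x
      rw [← mem_support, heq]
    refine ⟨?_, ?_⟩
    · -- even order
      rw [even_iff_two_dvd]
      obtain ⟨a, ha, b, hb, hab⟩ := Finset.one_lt_card.1 (by omega : 1 < D.card)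
      have hc2 : 2 ≤ ((D.erase a).erase b).card := by
        have h1 := Finset.pred_card_le_card_erase (s := D.erase a) (a := b)
        have h2 := Finset.card_erase_of_mem ha
        omega
      obtain ⟨c, hc, d, hd, hcd⟩ := Finset.one_lt_card.1 (by omega : 1 < ((D.erase a).erase b).card)
      rw [Finset.mem_erase, Finset.mem_erase] at hc hd
      have hmem : swap a b * swap c d ∈ alternatingGroup (Fin n) := by
        rw [mem_alternatingGroup, map_mul, sign_swap hab, sign_swap hcd]; decide
      let t : F D := ⟨⟨swap a b * swap c d, hmem⟩, by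
        intro z hz
        change swap a b (swap c d z) = z
        have n1 : z ≠ a := fun h => hz (h ▸ ha)
        have n2 : z ≠ b := fun h => hz (h ▸ hb)
        have n3 : z ≠ c := fun h => hz (h ▸ hc.2.2)
        have n4 : z ≠ d := fun h => hz (h ▸ hd.2.2)
        rw [swap_apply_of_ne_of_ne n3 n4, swap_apply_of_ne_of_ne n1 n2]⟩
      have ht : orderOf t = 2 := by
        apply orderOf_eq_prime
        · apply Subtype.ext; apply Subtype.ext
          apply Equiv.ext
          intro z
          change (swap a b * swap c d) ((swap a b * swap c d) z) = z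
          have hcomm : swap a b * swap c d = swap c d * swap a b := by
            have : Disjoint (swap a b) (swap c d) := by
              rw [disjoint_iff_disjoint_support, support_swap hab, support_swap hcd, Finset.disjoint_left]
              intro x hx hx2
              rw [Finset.mem_insert, Finset.mem_singleton] at hx hx2
              rcases hx with rfl | rfl <;> rcases hx2 with h | h
              · exact hc.2.1 h.symm
              · exact hd.2.1 h.symm
              · exact hc.1 h.symm
              · exact hd.1 h.symm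
            exact this.commute
          have : (swap a b * swap c d) * (swap a b * swap c d) = 1 := by
            conv_lhs => rw [hcomm]
            calc swap c d * swap a b * (swap c d * swap a b) = swap c d * swap a b * (swap a b * swap c d) := by rw [hcomm]
              _ = swap c d * (swap a b * swap a b) * swap c d := by group
              _ = 1 := by rw [swap_mul_self, mul_one, swap_mul_self]
          exact congrArg (fun f : Perm (Fin n) => f z) this
        · intro h
          have h1 : (swap a b * swap c d : Perm (Fin n)) a = a := by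
            have := congrArg (fun z : F D => ((z : alternatingGroup (Fin n)) : Perm (Fin n)) a) h
            exact this
          change swap a b (swap c d a) = a at h1
          rw [swap_apply_of_ne_of_ne hc.2.1.symm hd.2.1.symm, swap_apply_left] at h1
          exact hab h1.symm
      rw [← ht]
      exact orderOf_dvd_natCard t
    · intro g hg
      by_contra hodd
      rw [Nat.not_odd_iff_even, even_iff_two_dvd] at hodd
      haveI : Fact (Nat.Prime 2) := ⟨Nat.prime_two⟩
      obtain ⟨t, ht⟩ := exists_prime_orderOf_dvd_card' 2 hodd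
      have ht2 : (t : alternatingGroup (Fin n)) * t = 1 := by
        have := pow_orderOf_eq_one t
        rw [ht, pow_two] at this
        exact congrArg Subtype.val this
      have ht1 : (t : alternatingGroup (Fin n)) ≠ 1 := by
        intro h
        have : t = 1 := Subtype.ext h
        rw [this, orderOf_one] at ht
        omega
      have htD : (t : alternatingGroup (Fin n)) ∈ F D := t.2.1
      have htg : g⁻¹ * (t : alternatingGroup (Fin n)) * g ∈ F D := (hmap D g _).1 t.2.2
      have k1 := key t htD ht2 ht1
      have k2 := key _ htg (by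
        calc g⁻¹ * (t : alternatingGroup (Fin n)) * g * (g⁻¹ * (t : alternatingGroup (Fin n)) * g) = g⁻¹ * ((t : alternatingGroup (Fin n)) * t) * g := by group
          _ = 1 := by rw [ht2]; group) (by
        intro h
        apply ht1
        calc (t : alternatingGroup (Fin n)) = g * (g⁻¹ * t * g) * g⁻¹ := by group
          _ = 1 := by rw [h]; group)
      have hgD : ∀ x, x ∈ D ↔ (g : Perm (Fin n)) x ∈ D := by
        intro x
        refine (k2 x).symm.trans (Iff.trans ?_ (k1 ((g : Perm (Fin n)) x)))
        change (g : Perm (Fin n))⁻¹ (((t : alternatingGroup (Fin n)) : Perm (Fin n)) ((g : Perm (Fin n)) x)) ≠ x ↔ _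
        rw [ne_eq, ne_eq, Perm.inv_eq_iff_eq]
      apply hg
      apply H24.Tools.mem_normalizer
      intro y hy x hx
      change (g : Perm (Fin n)) ((y : Perm (Fin n)) ((g : Perm (Fin n))⁻¹ x)) = x
      have h1 : (g : Perm (Fin n))⁻¹ x ∉ D := by
        rw [hgD]
        have : (g : Perm (Fin n)) ((g : Perm (Fin n))⁻¹ x) = x := Equiv.apply_symm_apply _ _
        rw [this]; exact hx
      rw [hy _ h1]
      exact Equiv.apply_symm_apply _ _
  · intro g _ hcomm
    rw [commutator_comm, commutator_eq_bot_iff_le_centralizer, hCL] at hcomm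
    -- elements of the conjugate move all of g E
    have h1 : ∀ e ∈ Dᶜ, (g : Perm (Fin n)) e ∈ D := by
      intro e he
      by_contra hne
      have hc2 : 2 ≤ (Dᶜ.erase e).card := by
        rw [Finset.card_erase_of_mem he]; omega
      obtain ⟨x, hx, y, hy, hxy⟩ := Finset.one_lt_card.1 (by omega : 1 < (Dᶜ.erase e).card)
      rw [Finset.mem_erase] at hx hy
      obtain ⟨c, hc, hce, _⟩ := exists_cyc he hx.2 hy.2 hx.1.symm hy.1.symm hxy
      have h2 : g * c * g⁻¹ ∈ (F Dᶜ).map (MulAut.conj g).toMonoidHom := ⟨c, hc, rfl⟩
      have h3 := hcomm h2 _ hne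
      change (g : Perm (Fin n)) ((c : Perm (Fin n)) ((g : Perm (Fin n))⁻¹ ((g : Perm (Fin n)) e))) = (g : Perm (Fin n)) e at h3
      have h4 : (g : Perm (Fin n))⁻¹ ((g : Perm (Fin n)) e) = e := Equiv.symm_apply_apply _ _
      rw [h4, hce] at h3
      exact hy.1 ((g : Perm (Fin n)).injective h3)
    have h2 : Dᶜ.card ≤ D.card := by
      apply Finset.card_le_card_of_injOn (fun e => (g : Perm (Fin n)) e)
      · intro e he
        exact h1 e he
      · intro a _ b _ hab
        exact (g : Perm (Fin n)).injective hab
    omega
  · rw [hCL]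
    apply le_antisymm
    · have := norm_cent (F Dᶜ)
      rwa [hCL] at this
    · have := norm_cent (F D)
      rwa [hCK] at this


end Cfsg.Agent.S1323
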