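import Cfsg.Statements.S1339
import Mathlib
import Cfsg.Agent.H18_CharP

set_option autoImplicit false
open Cfsg

namespace Cfsg.Agent.S1339


variable {F : Type*} [Field F] {n : ℕ}

/-- the unipotent radical attached to a matrix `E` -/
def Q (E : Matrix (Fin n) (Fin n) F) : Subgroup (Matrix.SpecialLinearGroup (Fin n) F) where
  carrier := {g | E * ((g : Matrix (Fin n) (Fin n) F) - 1) = 0 ∧ ((g : Matrix (Fin n) (Fin n) F) - 1) * E = 0 ∧
    ∀ X Y : Matrix (Fin n) (Fin n) F, E * X = 0 → Y * E = 0 → Y * ((g : Matrix (Fin n) (Fin n) F) - 1) * X = 0}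
  one_mem' := by
    refine ⟨?_, ?_, ?_⟩
    · simp
    · simp
    · intro X Y _ _; simp
  mul_mem' := by
    rintro g h ⟨g1, g2, g3⟩ ⟨h1, h2, h3⟩
    have key : ((g * h : Matrix.SpecialLinearGroup (Fin n) F) : Matrix (Fin n) (Fin n) F) - 1 =
        ((g : Matrix (Fin n) (Fin n) F) - 1) + ((h : Matrix (Fin n) (Fin n) F) - 1) +
          ((g : Matrix (Fin n) (Fin n) F) - 1) * ((h : Matrix (Fin n) (Fin n) F) - 1) := by
      rw [Matrix.SpecialLinearGroup.coe_mul]; noncomm_ring
    refine ⟨?_, ?_, ?_⟩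
    · rw [key, mul_add, mul_add, ← mul_assoc, g1, h1]; simp
    · rw [key, add_mul, add_mul, mul_assoc, g2, h2]; simp
    · intro X Y hX hY
      rw [key, mul_add, mul_add, add_mul, add_mul, g3 X Y hX hY, h3 X Y hX hY, ← mul_assoc, mul_assoc _ _ X]
      rw [g3 _ Y (by rw [← mul_assoc, h1, zero_mul]) hY]
      simp
  inv_mem' := by
    rintro g ⟨g1, g2, g3⟩
    have hgi : (g : Matrix (Fin n) (Fin n) F) * ((g⁻¹ : Matrix.SpecialLinearGroup (Fin n) F) : Matrix (Fin n) (Fin n) F) = 1 := by
      rw [← Matrix.SpecialLinearGroup.coe_mul, mul_inv_cancel]; rfl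
    have hig : ((g⁻¹ : Matrix.SpecialLinearGroup (Fin n) F) : Matrix (Fin n) (Fin n) F) * (g : Matrix (Fin n) (Fin n) F) = 1 := by
      rw [← Matrix.SpecialLinearGroup.coe_mul, inv_mul_cancel]; rfl
    change E * (((g⁻¹ : Matrix.SpecialLinearGroup (Fin n) F) : Matrix (Fin n) (Fin n) F) - 1) = 0 ∧
      (((g⁻¹ : Matrix.SpecialLinearGroup (Fin n) F) : Matrix (Fin n) (Fin n) F) - 1) * E = 0 ∧
      ∀ X Y : Matrix (Fin n) (Fin n) F, E * X = 0 → Y * E = 0 →
        Y * (((g⁻¹ : Matrix.SpecialLinearGroup (Fin n) F) : Matrix (Fin n) (Fin n) F) - 1) * X = 0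
    generalize ((g⁻¹ : Matrix.SpecialLinearGroup (Fin n) F) : Matrix (Fin n) (Fin n) F) = a at *
    generalize (g : Matrix (Fin n) (Fin n) F) = b at *
    have h1 : E * b = E := by rw [mul_sub, mul_one, sub_eq_zero] at g1; exact g1
    have h2 : b * E = E := by rw [sub_mul, one_mul, sub_eq_zero] at g2; exact g2
    have h3 : E * a = E := by
      calc E * a = (E * b) * a := by rw [h1]
        _ = E := by rw [mul_assoc, hgi, mul_one]
    have h4 : a * E = E := by
      calc a * E = a * (b * E) := by rw [h2]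
        _ = E := by rw [← mul_assoc, hig, one_mul]
    refine ⟨?_, ?_, ?_⟩
    · rw [mul_sub, mul_one, h3, sub_self]
    · rw [sub_mul, one_mul, h4, sub_self]
    · intro X Y hX hY
      have h5 : a - 1 = -(a * (b - 1)) := by rw [mul_sub, hig]; noncomm_ring
      rw [h5, mul_neg, neg_mul, neg_eq_zero, ← mul_assoc]
      exact g3 X (Y * a) hX (by rw [mul_assoc, h4, hY])

theorem mem_Q {E : Matrix (Fin n) (Fin n) F} {g : Matrix.SpecialLinearGroup (Fin n) F} : g ∈ Q E ↔
    E * ((g : Matrix (Fin n) (Fin n) F) - 1) = 0 ∧ ((g : Matrix (Fin n) (Fin n) F) - 1) * E = 0 ∧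
    ∀ X Y : Matrix (Fin n) (Fin n) F, E * X = 0 → Y * E = 0 → Y * ((g : Matrix (Fin n) (Fin n) F) - 1) * X = 0 := Iff.rfl

theorem Q_pow [CharP F 2] {E : Matrix (Fin n) (Fin n) F} {g : Matrix.SpecialLinearGroup (Fin n) F} (hg : g ∈ Q E) : g ^ 4 = 1 := by
  obtain ⟨g1, g2, g3⟩ := mem_Q.1 hg
  apply Subtype.ext
  rw [Matrix.SpecialLinearGroup.coe_pow, Matrix.SpecialLinearGroup.coe_one]
  obtain ⟨M, hM⟩ : ∃ M, (g : Matrix (Fin n) (Fin n) F) = 1 + M := ⟨(g : Matrix (Fin n) (Fin n) F) - 1, by abel⟩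
  rw [hM] at g1 g2 g3 ⊢
  simp only [add_sub_cancel_left] at g1 g2 g3
  have h3 := g3 M M g1 g2
  have h2 : M + M = 0 := by
    ext a b; simp only [Matrix.add_apply, Matrix.zero_apply]; exact CharTwo.add_self_eq_zero _
  have h4 : (1 + M) ^ 2 = 1 + M * M := by
    calc (1 + M) ^ 2 = 1 + (M + M) + M * M := by noncomm_ring
      _ = _ := by rw [h2, add_zero]
  have h5 : M * M + M * M = 0 := by rw [← mul_add, h2, mul_zero]
  calc (1 + M) ^ 4 = ((1 + M) ^ 2) ^ 2 := by rw [← pow_mul]
    _ = 1 + (M * M + M * M) + (M * M * M) * M := by rw [h4]; noncomm_ring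
    _ = 1 := by rw [h5, h3]; simp

theorem conj_mem {E : Matrix (Fin n) (Fin n) F} {g h : Matrix.SpecialLinearGroup (Fin n) F} (hg : g ∈ Q E)
    (hh : (h : Matrix (Fin n) (Fin n) F) * E = E * h) : h * g * h⁻¹ ∈ Q E := by
  obtain ⟨g1, g2, g3⟩ := mem_Q.1 hg
  have hgi : (h : Matrix (Fin n) (Fin n) F) * ((h⁻¹ : Matrix.SpecialLinearGroup (Fin n) F) : Matrix (Fin n) (Fin n) F) = 1 := by
    rw [← Matrix.SpecialLinearGroup.coe_mul, mul_inv_cancel]; rfl
  have hig : ((h⁻¹ : Matrix.SpecialLinearGroup (Fin n) F) : Matrix (Fin n) (Fin n) F) * (h : Matrix (Fin n) (Fin n) F) = 1 := by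
    rw [← Matrix.SpecialLinearGroup.coe_mul, inv_mul_cancel]; rfl
  rw [mem_Q, Matrix.SpecialLinearGroup.coe_mul, Matrix.SpecialLinearGroup.coe_mul]
  generalize ((h⁻¹ : Matrix.SpecialLinearGroup (Fin n) F) : Matrix (Fin n) (Fin n) F) = a at *
  generalize (h : Matrix (Fin n) (Fin n) F) = b at *
  generalize (g : Matrix (Fin n) (Fin n) F) = c at *
  have key : b * c * a - 1 = b * (c - 1) * a := by
    rw [mul_sub, sub_mul, mul_one, hgi]
  have h4 : a * E = E * a := by
    calc a * E = a * E * (b * a) := by rw [hgi, mul_one]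
      _ = a * (E * b) * a := by noncomm_ring
      _ = E * a := by rw [← hh, ← mul_assoc, hig, one_mul]
  rw [key]
  refine ⟨?_, ?_, ?_⟩
  · calc E * (b * (c - 1) * a) = (E * b) * (c - 1) * a := by noncomm_ring
      _ = b * (E * (c - 1)) * a := by rw [← hh]; noncomm_ring
      _ = 0 := by rw [g1]; simp
  · calc b * (c - 1) * a * E = b * (c - 1) * (a * E) := by noncomm_ring
      _ = b * ((c - 1) * E) * a := by rw [h4]; noncomm_ring
      _ = 0 := by rw [g2]; simp
  · intro X Y hX hY
    have := g3 (a * X) (Y * b) (by rw [← mul_assoc, ← h4, mul_assoc, hX, mul_zero]) (by rw [mul_assoc, hh, ← mul_assoc, hY, zero_mul])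
    calc Y * (b * (c - 1) * a) * X = Y * b * (c - 1) * (a * X) := by noncomm_ring
      _ = 0 := this

theorem comm_single {a b : Fin n} {x : Matrix (Fin n) (Fin n) F} (h : x * Matrix.single a b 1 = Matrix.single a b 1 * x) :
    (∀ k, k ≠ a → x k a = 0) ∧ (∀ l, l ≠ b → x b l = 0) ∧ x a a = x b b := by
  have h1 : ∀ k l, (if l = b then x k a else 0) = (if k = a then x b l else 0) := by
    intro k l
    have := congrFun (congrFun h k) l
    by_cases hl : l = b
    · rw [if_pos hl, hl]
      rw [hl, Matrix.mul_single_apply_same, mul_one] at this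
      rw [this]
      by_cases hk : k = a
      · rw [if_pos hk, hk, Matrix.single_mul_apply_same, one_mul]
      · rw [if_neg hk, Matrix.single_mul_apply_of_ne _ _ _ _ _ hk]
    · rw [if_neg hl]
      rw [Matrix.mul_single_apply_of_ne _ _ _ _ _ hl] at this
      rw [this]
      by_cases hk : k = a
      · rw [if_pos hk, hk, Matrix.single_mul_apply_same, one_mul]
      · rw [if_neg hk, Matrix.single_mul_apply_of_ne _ _ _ _ _ hk]
  refine ⟨?_, ?_, ?_⟩
  · intro k hk
    have := h1 k b
    rw [if_pos rfl, if_neg hk] at this; exact this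
  · intro l hl
    have := h1 a l
    rw [if_neg hl, if_pos rfl] at this; exact this.symm
  · have := h1 a b
    rw [if_pos rfl, if_pos rfl] at this; exact this
theorem comm_one_add {x E : Matrix (Fin n) (Fin n) F} (h : (1 + E) * x = x * (1 + E)) : x * E = E * x := by
  rw [add_mul, mul_add, one_mul, mul_one] at h
  exact (add_left_cancel h).symm

/-- Let F be a field with 2 elements, n ≥ 3, and t ∈ SL(n, F) a transvection (t = 1 + E_{ij}, i ≠ j). Then the generalized Fitting subgroup of C(t) is O_2(C(t)). -/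
theorem result {F : Type*} [Field F] [Fintype F] [DecidableEq F] (hF : Fintype.card F = 2) (n : ℕ) (hn : 3 ≤ n) (i j : Fin n) (hij : i ≠ j) (t : Matrix.SpecialLinearGroup (Fin n) F) (ht : (t : Matrix (Fin n) (Fin n) F) = Matrix.transvection i j 1) : Cfsg.generalizedFittingSubgroup ↥(Subgroup.centralizer ({t} : Set (Matrix.SpecialLinearGroup (Fin n) F))) = Cfsg.pCore 2 ↥(Subgroup.centralizer ({t} : Set (Matrix.SpecialLinearGroup (Fin n) F))) := by
  classical
  haveI : Fact (Nat.Prime 2) := ⟨Nat.prime_two⟩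
  haveI : CharP F 2 := charP_of_card_eq_prime hF
  have h01 : ∀ a : F, a ≠ 0 → a = 1 := by
    intro a ha
    have h1 : Fintype.card Fˣ = 1 := by rw [Fintype.card_units, hF]
    have h2 := Fintype.card_le_one_iff.1 h1.le (Units.mk0 a ha) 1
    exact congrArg Units.val h2
  have hkey : ∀ a b : Fin n, Matrix.single i j (1 : F) * Matrix.single a b 1 = if j = a then Matrix.single i b 1 else 0 := by
    intro a b
    by_cases h : j = a
    · subst h; rw [if_pos rfl, Matrix.single_mul_single_same, mul_one]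
    · rw [if_neg h, Matrix.single_mul_single_of_ne _ _ _ _ h]
  set E : Matrix (Fin n) (Fin n) F := Matrix.single i j 1 with hE
  have ht' : (t : Matrix (Fin n) (Fin n) F) = 1 + E := ht
  have hmemL : ∀ g : Matrix.SpecialLinearGroup (Fin n) F, g ∈ Subgroup.centralizer ({t} : Set (Matrix.SpecialLinearGroup (Fin n) F)) ↔
      (g : Matrix (Fin n) (Fin n) F) * E = E * g := by
    intro g
    rw [Subgroup.mem_centralizer_singleton_iff]
    constructor
    · intro h
      have h1 := congrArg (fun y : Matrix.SpecialLinearGroup (Fin n) F => (y : Matrix (Fin n) (Fin n) F)) h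
      simp only [Matrix.SpecialLinearGroup.coe_mul, ht'] at h1
      exact comm_one_add h1.symm
    · intro h
      apply Subtype.ext
      rw [Matrix.SpecialLinearGroup.coe_mul, Matrix.SpecialLinearGroup.coe_mul, ht', mul_add, add_mul, h, mul_one, one_mul]
  have hp : IsPGroup 2 (Q E) := fun g => ⟨2, Subtype.ext (Q_pow g.2)⟩
  have hle : Q E ≤ Subgroup.centralizer ({t} : Set (Matrix.SpecialLinearGroup (Fin n) F)) := by
    intro g hg
    rw [hmemL]
    obtain ⟨g1, g2, -⟩ := mem_Q.1 hg
    rw [mul_sub, mul_one, sub_eq_zero] at g1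
    rw [sub_mul, one_mul, sub_eq_zero] at g2
    rw [g1, g2]
  have hnorm : Subgroup.centralizer ({t} : Set (Matrix.SpecialLinearGroup (Fin n) F)) ≤ Subgroup.normalizer (Q E : Set (Matrix.SpecialLinearGroup (Fin n) F)) := by
    intro h hh
    rw [Subgroup.mem_normalizer_iff]
    have h1 := (hmemL h).1 hh
    have h2 := (hmemL _).1 (inv_mem hh)
    intro g
    constructor
    · intro hg
      exact conj_mem hg h1
    · intro hg
      have := conj_mem hg h2
      simpa [mul_assoc] using this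
  have hOP := Cfsg.Agent.H18.CharP.le_oP hp hle hnorm
  have hij' : j ≠ i := hij.symm
  have hQ1 : ∀ k, k ≠ i → ∀ T : Matrix.SpecialLinearGroup (Fin n) F, (T : Matrix (Fin n) (Fin n) F) = 1 + Matrix.single i k 1 → T ∈ Q E := by
    intro k hk T hT
    rw [mem_Q, hT, add_sub_cancel_left]
    have e1 : (Matrix.single i k 1 : Matrix (Fin n) (Fin n) F) = E * Matrix.single j k 1 := by
      rw [hE, Matrix.single_mul_single_same, mul_one]
    refine ⟨?_, ?_, ?_⟩
    · rw [hE, Matrix.single_mul_single_of_ne _ _ _ _ hij']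
    · rw [hE, Matrix.single_mul_single_of_ne _ _ _ _ hk]
    · intro X Y hX hY
      rw [e1, ← mul_assoc, hY]; simp
  have hQ2 : ∀ k, k ≠ j → ∀ T : Matrix.SpecialLinearGroup (Fin n) F, (T : Matrix (Fin n) (Fin n) F) = 1 + Matrix.single k j 1 → T ∈ Q E := by
    intro k hk T hT
    rw [mem_Q, hT, add_sub_cancel_left]
    have e1 : (Matrix.single k j 1 : Matrix (Fin n) (Fin n) F) = Matrix.single k i 1 * E := by
      rw [hE, Matrix.single_mul_single_same, mul_one]
    refine ⟨?_, ?_, ?_⟩
    · rw [hE, Matrix.single_mul_single_of_ne _ _ _ _ hk.symm]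
    · rw [hE, Matrix.single_mul_single_of_ne _ _ _ _ hij']
    · intro X Y hX hY
      rw [e1, mul_assoc, mul_assoc, hX]; simp
  have hex : ∀ a b : Fin n, a ≠ b → ∃ T : Matrix.SpecialLinearGroup (Fin n) F, (T : Matrix (Fin n) (Fin n) F) = 1 + Matrix.single a b 1 :=
    fun a b hab => ⟨⟨Matrix.transvection a b 1, Matrix.det_transvection_of_ne a b hab 1⟩, rfl⟩
  apply Cfsg.Agent.H18.CharP.hasCharP_iff.1
  apply Cfsg.Agent.H18.CharP.hasCharP_of
  intro x hx hxo hxc
  have hcomm : ∀ a b : Fin n, a ≠ b → (∀ T : Matrix.SpecialLinearGroup (Fin n) F, (T : Matrix (Fin n) (Fin n) F) = 1 + Matrix.single a b 1 → T ∈ Q E) →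
      (x : Matrix (Fin n) (Fin n) F) * Matrix.single a b 1 = Matrix.single a b 1 * (x : Matrix (Fin n) (Fin n) F) := by
    intro a b hab hT
    obtain ⟨T, hT1⟩ := hex a b hab
    have h1 := hxc T (hOP (hT T hT1))
    have h2 := congrArg (fun y : Matrix.SpecialLinearGroup (Fin n) F => (y : Matrix (Fin n) (Fin n) F)) h1
    simp only [Matrix.SpecialLinearGroup.coe_mul, hT1] at h2
    exact comm_one_add h2
  have hA := fun k (hk : k ≠ i) => comm_single (hcomm i k hk.symm (hQ1 k hk))
  have hB := fun k (hk : k ≠ j) => comm_single (hcomm k j hk (hQ2 k hk))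
  have hdiag : ∀ k, (x : Matrix (Fin n) (Fin n) F) k k = (x : Matrix (Fin n) (Fin n) F) i i := by
    intro k
    by_cases hk : k = i
    · rw [hk]
    · exact ((hA k hk).2.2).symm
  have hii : (x : Matrix (Fin n) (Fin n) F) i i = 1 := by
    apply h01
    intro h0
    have hrow : ∀ l, (x : Matrix (Fin n) (Fin n) F) j l = 0 := by
      intro l
      by_cases hl : l = j
      · rw [hl, hdiag, h0]
      · exact (hA j hij').2.1 l hl
    have hdet := Matrix.det_eq_zero_of_row_eq_zero j hrow
    rw [x.2] at hdet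
    exact one_ne_zero hdet
  have hxE : (x : Matrix (Fin n) (Fin n) F) = 1 + (x : Matrix (Fin n) (Fin n) F) i j • E := by
    ext k l
    rw [Matrix.add_apply, Matrix.smul_apply, smul_eq_mul, Matrix.one_apply, hE, Matrix.single_apply]
    by_cases hk : k = i
    · subst hk
      by_cases hl : l = k
      · subst hl
        rw [hii, if_pos rfl, if_neg (fun h => hij' h.2)]; simp
      · rw [if_neg (fun h => hl h.symm)]
        by_cases hlj : l = j
        · subst hlj; simp
        · rw [if_neg (fun h => hlj h.2.symm)]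
          rw [(hB l hlj).1 k (fun h => hl h.symm)]; simp
    · have hs : ¬ (i = k ∧ j = l) := fun h => hk h.1.symm
      rw [if_neg hs, mul_zero, add_zero]
      by_cases hl : l = k
      · rw [hl, hdiag, hii, if_pos rfl]
      · rw [(hA k hk).2.1 l hl, if_neg (fun h => hl h.symm)]
  have hEE : E * E = 0 := by rw [hE, Matrix.single_mul_single_of_ne _ _ _ _ hij']
  have hx2 : x ^ 2 = 1 := by
    apply Subtype.ext
    rw [Matrix.SpecialLinearGroup.coe_pow, Matrix.SpecialLinearGroup.coe_one]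
    generalize (x : Matrix (Fin n) (Fin n) F) i j = c at hxE
    rw [hxE]
    have h2 : c • E + c • E = 0 := by
      rw [← add_smul, CharTwo.add_self_eq_zero, zero_smul]
    have h3 : (c • E) * (c • E) = 0 := by rw [smul_mul_smul_comm, hEE, smul_zero]
    generalize c • E = M at h2 h3
    calc (1 + M) ^ 2 = 1 + (M + M) + M * M := by noncomm_ring
      _ = 1 := by rw [h2, h3]; simp
  have h3 : orderOf x ∣ 2 := orderOf_dvd_of_pow_eq_one hx2
  have h4 : orderOf x = 1 := Nat.eq_one_of_dvd_coprimes hxo dvd_rfl h3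
  exact orderOf_eq_one_iff.1 h4

end Cfsg.Agent.S1339
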