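import Cfsg.Statements.S1340
import Cfsg.Agent.H11_Components
import Cfsg.Agent.H11_Cores
import Cfsg.Agent.S0248
import Cfsg.Agent.S0249

set_option autoImplicit false
open Cfsg

namespace Cfsg.Agent.S1340

open Subgroup Matrix

theorem main {G H : Type*} [Group G] [Finite G] [Group H] (hH : IsQuasisimple H) (f : H →* G)
    (hf : Function.Injective f) (t : G) (hc : ∀ h, f h * t = t * f h)
    (hnorm : ∀ g, g * t = t * g → ∀ h, ∃ h', g * f h * g⁻¹ = f h')
    (h2 : ∃ d : H, orderOf d = 2) :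
    HasComponent (↥(Subgroup.centralizer ({t} : Set G)) ⧸ oddCore ↥(Subgroup.centralizer ({t} : Set G))) := by
  set C := Subgroup.centralizer ({t} : Set G) with hC
  have hfC : ∀ h, f h ∈ C := fun h => Subgroup.mem_centralizer_singleton_iff.2 (hc h)
  let φ : H →* C := f.codRestrict C hfC
  have hφ : Function.Injective φ := fun a b e => hf (congrArg Subtype.val e)
  let ψ : H →* C ⧸ oddCore C := (QuotientGroup.mk' (oddCore C)).comp φ
  refine ⟨ψ.range, ?_, ?_⟩
  · have hn : ψ.range.Normal := by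
      refine ⟨?_⟩
      rintro _ ⟨h, rfl⟩ g
      obtain ⟨g, rfl⟩ := QuotientGroup.mk'_surjective _ g
      obtain ⟨h', hh'⟩ := hnorm g (Subgroup.mem_centralizer_singleton_iff.1 g.2) h
      refine ⟨h', ?_⟩
      show QuotientGroup.mk' (oddCore C) (φ h') = QuotientGroup.mk' (oddCore C) g * QuotientGroup.mk' (oddCore C) (φ h) *
        (QuotientGroup.mk' (oddCore C) g)⁻¹
      rw [← map_inv, ← map_mul, ← map_mul]
      congr 1
      exact Subtype.ext hh'.symm
    exact hn.isSubnormal
  · haveI : Nontrivial ψ.range := by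
      obtain ⟨d, hd⟩ := h2
      refine ⟨⟨⟨ψ d, ⟨d, rfl⟩⟩, 1, fun e => ?_⟩⟩
      have e1 : ψ d = 1 := congrArg Subtype.val e
      have e2 : φ d ∈ oddCore C := (QuotientGroup.eq_one_iff _).1 e1
      have e3 : orderOf (φ d) = 2 := by rw [orderOf_injective φ hφ, hd]
      have e4 : orderOf (φ d) ∣ Nat.card (oddCore C) := Subgroup.orderOf_dvd_natCard _ e2
      have e5 : (Nat.card (oddCore C)).Coprime 2 := H11.Cores.pPrimeCore_coprime 2
      rw [e3] at e4
      exact absurd (Nat.Coprime.coprime_dvd_left e4 e5) (by norm_num)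
    exact H11.Components.IsQuasisimple.of_surjective hH ψ.rangeRestrict ψ.rangeRestrict_surjective

section
variable {F : Type*} [Field F] (m : ℕ)

abbrev MM (F : Type*) (m : ℕ) := Matrix (Fin m ⊕ Fin 1) (Fin m ⊕ Fin 1) F

def blk : Matrix.SpecialLinearGroup (Fin m) F →* MM F m where
  toFun h := Matrix.fromBlocks (h : Matrix (Fin m) (Fin m) F) 0 0 1
  map_one' := by simp
  map_mul' a b := by rw [Matrix.fromBlocks_multiply]; simp

def tt : (MM F m)ˣ where
  val := Matrix.fromBlocks 1 0 0 (-1)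
  inv := Matrix.fromBlocks 1 0 0 (-1)
  val_inv := by rw [Matrix.fromBlocks_multiply]; simp
  inv_val := by rw [Matrix.fromBlocks_multiply]; simp

def uu (B : Matrix (Fin m) (Fin 1) F) : (MM F m)ˣ where
  val := Matrix.fromBlocks 1 B 0 1
  inv := Matrix.fromBlocks 1 (-B) 0 1
  val_inv := by rw [Matrix.fromBlocks_multiply]; simp
  inv_val := by rw [Matrix.fromBlocks_multiply]; simp

variable {m}

theorem cent (h2 : (2 : F) ≠ 0) {g : (MM F m)ˣ} (hg : g * tt m = tt m * g) :
    ∃ A D, (g : MM F m) = Matrix.fromBlocks A 0 0 D := by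
  have h1 := congrArg Units.val hg
  rw [Units.val_mul, Units.val_mul] at h1
  have h3 := (Matrix.fromBlocks_toBlocks (g : MM F m)).symm
  set A := (g : MM F m).toBlocks₁₁
  set B := (g : MM F m).toBlocks₁₂
  set C := (g : MM F m).toBlocks₂₁
  set D := (g : MM F m).toBlocks₂₂
  have h4 : Matrix.fromBlocks A B C D * Matrix.fromBlocks 1 0 0 (-1) =
      Matrix.fromBlocks 1 0 0 (-1) * Matrix.fromBlocks A B C D := by
    rw [← h3]; exact h1
  rw [Matrix.fromBlocks_multiply, Matrix.fromBlocks_multiply] at h4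
  simp only [Matrix.mul_one, Matrix.one_mul, Matrix.mul_zero, Matrix.zero_mul, add_zero, zero_add, Matrix.mul_neg,
    Matrix.neg_mul] at h4
  rw [Matrix.fromBlocks_inj] at h4
  obtain ⟨-, hB, hC, -⟩ := h4
  have hB0 : B = 0 := by
    ext i j
    have h5 := congrFun (congrFun hB i) j
    rw [Matrix.neg_apply] at h5
    have h6 : (2 : F) * B i j = 0 := by linear_combination (-1 : F) * h5
    exact (mul_eq_zero.1 h6).resolve_left h2
  have hC0 : C = 0 := by
    ext i j
    have h5 := congrFun (congrFun hC i) j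
    rw [Matrix.neg_apply] at h5
    have h6 : (2 : F) * C i j = 0 := by linear_combination h5
    exact (mul_eq_zero.1 h6).resolve_left h2
  exact ⟨A, D, by rw [h3, hB0, hC0]⟩

theorem nrm (h2 : (2 : F) ≠ 0) {g : (MM F m)ˣ} (hg : g * tt m = tt m * g) (h : Matrix.SpecialLinearGroup (Fin m) F) :
    ∃ h', g * (blk m).toHomUnits h * g⁻¹ = (blk m).toHomUnits h' := by
  obtain ⟨A, D, hAD⟩ := cent h2 hg
  have hdet : IsUnit (g : MM F m).det := (Matrix.isUnit_iff_isUnit_det _).1 g.isUnit
  rw [hAD, Matrix.det_fromBlocks_zero₂₁] at hdet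
  have hA : IsUnit A.det := isUnit_of_mul_isUnit_left hdet
  refine ⟨⟨A * (h : Matrix (Fin m) (Fin m) F) * A⁻¹, ?_⟩, ?_⟩
  · rw [Matrix.det_conj ((Matrix.isUnit_iff_isUnit_det _).2 hA)]; exact h.2
  · rw [mul_inv_eq_iff_eq_mul]
    apply Units.ext
    rw [Units.val_mul, Units.val_mul, hAD]
    show Matrix.fromBlocks A 0 0 D * Matrix.fromBlocks (h : Matrix (Fin m) (Fin m) F) 0 0 1 =
      Matrix.fromBlocks (A * (h : Matrix (Fin m) (Fin m) F) * A⁻¹) 0 0 1 * Matrix.fromBlocks A 0 0 D
    rw [Matrix.fromBlocks_multiply, Matrix.fromBlocks_multiply]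
    simp only [Matrix.mul_one, Matrix.one_mul, Matrix.mul_zero, Matrix.zero_mul, add_zero, zero_add]
    rw [Matrix.mul_assoc (A * (h : Matrix (Fin m) (Fin m) F)), Matrix.nonsing_inv_mul A hA, Matrix.mul_one]

theorem comm (h : Matrix.SpecialLinearGroup (Fin m) F) : (blk m).toHomUnits h * tt m = tt m * (blk m).toHomUnits h := by
  apply Units.ext
  rw [Units.val_mul, Units.val_mul]
  show Matrix.fromBlocks (h : Matrix (Fin m) (Fin m) F) 0 0 1 * Matrix.fromBlocks 1 0 0 (-1) =
    Matrix.fromBlocks 1 0 0 (-1) * Matrix.fromBlocks (h : Matrix (Fin m) (Fin m) F) 0 0 1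
  rw [Matrix.fromBlocks_multiply, Matrix.fromBlocks_multiply]
  simp

theorem inj : Function.Injective ((blk m).toHomUnits : Matrix.SpecialLinearGroup (Fin m) F →* (MM F m)ˣ) := by
  intro a b hab
  have h1 := congrArg Units.val hab
  have h2 : Matrix.fromBlocks (a : Matrix (Fin m) (Fin m) F) 0 0 1 =
    Matrix.fromBlocks (b : Matrix (Fin m) (Fin m) F) 0 0 (1 : Matrix (Fin 1) (Fin 1) F) := h1
  exact Subtype.ext (Matrix.fromBlocks_inj.1 h2).1

theorem ord (h2 : (2 : F) ≠ 0) : orderOf (tt m : (MM F m)ˣ) = 2 := by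
  apply orderOf_eq_prime
  · apply Units.ext
    rw [pow_two, Units.val_mul]
    show Matrix.fromBlocks 1 0 0 (-1) * Matrix.fromBlocks 1 0 0 (-1) = (1 : MM F m)
    rw [Matrix.fromBlocks_multiply]; simp
  · intro h
    have h1 := congrArg Units.val h
    have h3 : Matrix.fromBlocks 1 0 0 (-1) = (1 : MM F m) := h1
    rw [← Matrix.fromBlocks_one, Matrix.fromBlocks_inj] at h3
    have h4 := congrFun (congrFun h3.2.2.2 0) 0
    simp only [Matrix.neg_apply, Matrix.one_apply_eq] at h4
    apply h2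
    linear_combination (-1 : F) * h4

theorem two_elt (h2 : (2 : F) ≠ 0) (hm : 2 ≤ m) : ∃ d : Matrix.SpecialLinearGroup (Fin m) F, orderOf d = 2 := by
  classical
  let i0 : Fin m := ⟨0, by omega⟩
  let i1 : Fin m := ⟨1, by omega⟩
  have hi : i0 ≠ i1 := by intro h; have := congrArg Fin.val h; simp [i0, i1] at this
  let v : Fin m → F := fun i => (if i = i0 then -1 else 1) * (if i = i1 then -1 else 1)
  have hv : ∀ i, v i * v i = 1 := by
    intro i; simp only [v]; split_ifs <;> ring
  let d : Matrix.SpecialLinearGroup (Fin m) F := ⟨Matrix.diagonal v, by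
    rw [Matrix.det_diagonal, Finset.prod_mul_distrib, Finset.prod_ite_eq', Finset.prod_ite_eq']
    simp⟩
  refine ⟨d, orderOf_eq_prime ?_ ?_⟩
  · apply Subtype.ext
    rw [pow_two]
    show Matrix.diagonal v * Matrix.diagonal v = 1
    rw [Matrix.diagonal_mul_diagonal, ← Matrix.diagonal_one]
    congr 1
    ext i; exact hv i
  · intro h
    have h1 : Matrix.diagonal v = (1 : Matrix (Fin m) (Fin m) F) := congrArg Subtype.val h
    have h3 := congrFun (congrFun h1 i0) i0
    rw [Matrix.diagonal_apply_eq, Matrix.one_apply_eq] at h3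
    simp only [v, if_true, if_neg hi, mul_one] at h3
    apply h2
    linear_combination (-1 : F) * h3

theorem qs [Fintype F] (hm : 2 ≤ m) (h4 : m = 2 → 4 ≤ Nat.card F) : IsQuasisimple (Matrix.SpecialLinearGroup (Fin m) F) := by
  by_cases h3 : 3 ≤ m
  · exact ⟨⟨S0248.result m h3⟩, S0249.result m h3⟩
  · have h5 : m = 2 := by omega
    subst h5
    have hF := h4 rfl
    refine ⟨⟨?_⟩, Matrix.ProjectiveSpecialLinearGroup.rank_two_simple hF⟩
    have hex : ∃ a : F, a ≠ 0 ∧ a ^ 2 ≠ 1 := by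
      obtain ⟨x, hx⟩ : IsCyclic Fˣ := by infer_instance
      refine ⟨x, Units.ne_zero x, fun h ↦ ?_⟩
      have h7 : orderOf x ≤ 2 := orderOf_le_of_pow_eq_one (by norm_num) (Units.ext (by simpa using h))
      have h8 := Nat.card_eq_card_units_add_one F
      rw [← orderOf_eq_card_of_forall_mem_zpowers hx] at h8
      omega
    obtain ⟨a, ha, ha2⟩ := hex
    exact SL2.commutator_eq_top ha ha2

end

/-- Let F be a finite field of odd order and n ≥ 3 with (n, |F|) ≠ (3, 3). Then GL(n, F) has a non-central involution t such that C(t) / O(C(t)) has a component. -/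
theorem result {F : Type*} [Field F] [Fintype F] [DecidableEq F] (hF : Odd (Fintype.card F)) (n : ℕ) (hn : 3 ≤ n) (h33 : ¬ (n = 3 ∧ Fintype.card F = 3)) : ∃ t : Matrix.GeneralLinearGroup (Fin n) F, orderOf t = 2 ∧ t ∉ Subgroup.center (Matrix.GeneralLinearGroup (Fin n) F) ∧ Cfsg.HasComponent (↥(Subgroup.centralizer ({t} : Set (Matrix.GeneralLinearGroup (Fin n) F))) ⧸ Cfsg.oddCore ↥(Subgroup.centralizer ({t} : Set (Matrix.GeneralLinearGroup (Fin n) F)))) := by
  obtain ⟨m, rfl⟩ : ∃ m, n = m + 1 := ⟨n - 1, by omega⟩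
  have h2 : (2 : F) ≠ 0 := by
    intro h
    have h1 : ringChar F = 2 := by
      have h3 : ringChar F ∣ 2 := ringChar.dvd (by exact_mod_cast h)
      have h4 : ringChar F ≠ 1 := CharP.ringChar_ne_one
      exact (Nat.dvd_prime Nat.prime_two).1 h3 |>.resolve_left h4
    have h5 := FiniteField.even_card_of_char_two h1
    rw [Nat.odd_iff] at hF
    omega
  let E : (MM F m)ˣ ≃* Matrix.GeneralLinearGroup (Fin (m + 1)) F :=
    Units.mapEquiv (Matrix.reindexAlgEquiv F F (finSumFinEquiv : Fin m ⊕ Fin 1 ≃ Fin (m + 1))).toMulEquiv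
  have hcard : m = 2 → 4 ≤ Nat.card F := by
    intro hm
    rw [Nat.card_eq_fintype_card]
    have h3 : Fintype.card F ≠ 3 := fun h => h33 ⟨by omega, h⟩
    have h4 : 1 < Fintype.card F := Fintype.one_lt_card
    rw [Nat.odd_iff] at hF
    omega
  refine ⟨E (tt m), ?_, ?_, ?_⟩
  · rw [MulEquiv.orderOf_eq E, ord h2]
  · intro hcen
    have h3 : uu m (fun _ _ => (1 : F)) * tt m = tt m * uu m (fun _ _ => (1 : F)) := by
      apply E.injective
      rw [map_mul, map_mul]
      exact Subgroup.mem_center_iff.1 hcen _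
    obtain ⟨A, D, h4⟩ := cent h2 h3
    have h5 : Matrix.fromBlocks 1 (fun _ _ => (1 : F)) 0 1 = Matrix.fromBlocks A 0 0 D := h4
    have h6 := (Matrix.fromBlocks_inj.1 h5).2.1
    have h7 := congrFun (congrFun h6 ⟨0, by omega⟩) 0
    exact one_ne_zero h7
  · apply main (qs (F := F) (m := m) (by omega) hcard) (E.toMonoidHom.comp (blk m).toHomUnits)
      (E.injective.comp inj)
    · intro h
      show E _ * E _ = E _ * E _
      rw [← map_mul, ← map_mul, comm]
    · intro g hg h
      have h3 : E.symm g * tt m = tt m * E.symm g := by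
        apply E.injective
        rw [map_mul, map_mul, E.apply_symm_apply]
        exact hg
      obtain ⟨h', hh'⟩ := nrm h2 h3 h
      refine ⟨h', ?_⟩
      show g * E _ * g⁻¹ = E _
      rw [← hh', map_mul, map_mul, map_inv, E.apply_symm_apply]
    · exact two_elt h2 (by omega)

end Cfsg.Agent.S1340
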