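import Cfsg.Statements.S1348
import Cfsg.Agent.H12_StdSL

set_option autoImplicit false
open Cfsg

namespace Cfsg.Agent.S1348

section
variable {F : Type*} [Field F] {m : ℕ}

theorem scal (A : Matrix (Fin m) (Fin m) F)
    (h : ∀ s : Matrix.SpecialLinearGroup (Fin m) F, A * (s : Matrix (Fin m) (Fin m) F) = (s : Matrix (Fin m) (Fin m) F) * A) :
    ∃ a : F, A = Matrix.scalar (Fin m) a := by
  have h1 : A ∈ Set.range (Matrix.scalar (Fin m)) := by
    rw [Matrix.mem_range_scalar_iff_commute_transvectionStruct]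
    intro t
    exact (h ⟨t.toMatrix, t.det⟩).symm
  obtain ⟨a, ha⟩ := h1
  exact ⟨a, ha.symm⟩

theorem cent2 (h2 : (2 : F) ≠ 0) (M : S1340.MM F m)
    (hM : M * Matrix.fromBlocks (-1) 0 0 1 = Matrix.fromBlocks (-1) 0 0 1 * M) :
    ∃ A D, M = Matrix.fromBlocks A 0 0 D := by
  have h3 := (Matrix.fromBlocks_toBlocks M).symm
  set A := M.toBlocks₁₁
  set B := M.toBlocks₁₂
  set C := M.toBlocks₂₁
  set D := M.toBlocks₂₂
  have h4 : Matrix.fromBlocks A B C D * Matrix.fromBlocks (-1) 0 0 1 =
      Matrix.fromBlocks (-1) 0 0 1 * Matrix.fromBlocks A B C D := by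
    rw [← h3]; exact hM
  rw [Matrix.fromBlocks_multiply, Matrix.fromBlocks_multiply] at h4
  simp only [Matrix.mul_one, Matrix.one_mul, Matrix.mul_zero, Matrix.zero_mul, add_zero, zero_add, Matrix.mul_neg,
    Matrix.neg_mul] at h4
  rw [Matrix.fromBlocks_inj] at h4
  obtain ⟨-, hB, hC, -⟩ := h4
  have hB0 : B = 0 := by
    ext i j
    have h5 := congrFun (congrFun hB i) j
    rw [Matrix.neg_apply] at h5
    have h6 : (2 : F) * B i j = 0 := by linear_combination h5
    exact (mul_eq_zero.1 h6).resolve_left h2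
  have hC0 : C = 0 := by
    ext i j
    have h5 := congrFun (congrFun hC i) j
    rw [Matrix.neg_apply] at h5
    have h6 : (2 : F) * C i j = 0 := by linear_combination (-1 : F) * h5
    exact (mul_eq_zero.1 h6).resolve_left h2
  exact ⟨A, D, by rw [h3, hB0, hC0]⟩

variable (F m)

abbrev rho : S1340.MM F m ≃ₐ[F] Matrix (Fin (m + 1)) (Fin (m + 1)) F :=
  Matrix.reindexAlgEquiv F F (finSumFinEquiv : Fin m ⊕ Fin 1 ≃ Fin (m + 1))

variable {F m}

theorem rho_det (M : S1340.MM F m) : (rho F m M).det = M.det := Matrix.det_reindexAlgEquiv F F _ M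

def ff : Matrix.SpecialLinearGroup (Fin m) F →* Matrix.SpecialLinearGroup (Fin (m + 1)) F where
  toFun h := ⟨rho F m (Matrix.fromBlocks (h : Matrix (Fin m) (Fin m) F) 0 0 1), by
    rw [rho_det, Matrix.det_fromBlocks_zero₂₁, Matrix.det_one, mul_one]; exact h.2⟩
  map_one' := by
    apply Subtype.ext
    show rho F m (Matrix.fromBlocks 1 0 0 1) = 1
    rw [Matrix.fromBlocks_one, map_one]
  map_mul' a b := by
    apply Subtype.ext
    show rho F m (Matrix.fromBlocks ((a * b : Matrix.SpecialLinearGroup (Fin m) F) : Matrix (Fin m) (Fin m) F) 0 0 1) =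
      rho F m (Matrix.fromBlocks (a : Matrix (Fin m) (Fin m) F) 0 0 1) * rho F m (Matrix.fromBlocks (b : Matrix (Fin m) (Fin m) F) 0 0 1)
    rw [← map_mul, Matrix.fromBlocks_multiply]
    simp

theorem ff_inj : Function.Injective (ff : Matrix.SpecialLinearGroup (Fin m) F →* _) := by
  intro a b hab
  have h1 := (rho F m).injective (congrArg Subtype.val hab)
  exact Subtype.ext (Matrix.fromBlocks_inj.1 h1).1

end

theorem core {F : Type*} [Field F] [Fintype F] (h2 : (2 : F) ≠ 0) (m : ℕ) (hm : 6 ≤ m) (hme : Even m)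
    (t : Matrix.SpecialLinearGroup (Fin (m + 1)) F) (ht : (t : Matrix (Fin (m + 1)) (Fin (m + 1)) F) = rho F m (Matrix.fromBlocks (-1) 0 0 1)) :
    Cfsg.IsStandardSubgroup ((Cfsg.layer ↥(Subgroup.centralizer ({t} : Set (Matrix.SpecialLinearGroup (Fin (m + 1)) F)))).map (Subgroup.centralizer ({t} : Set (Matrix.SpecialLinearGroup (Fin (m + 1)) F))).subtype) := by
  have hcomm : ∀ g : Matrix.SpecialLinearGroup (Fin (m + 1)) F, g * t = t * g →
      ∃ A D, (g : Matrix (Fin (m + 1)) (Fin (m + 1)) F) = rho F m (Matrix.fromBlocks A 0 0 D) ∧ A.det * D.det = 1 := by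
    intro g hg
    have h1 : (g : Matrix (Fin (m + 1)) (Fin (m + 1)) F) * t = t * (g : Matrix (Fin (m + 1)) (Fin (m + 1)) F) := congrArg Subtype.val hg
    obtain ⟨M, hM⟩ := (rho F m).surjective (g : Matrix (Fin (m + 1)) (Fin (m + 1)) F)
    rw [ht, ← hM, ← map_mul, ← map_mul] at h1
    obtain ⟨A, D, hAD⟩ := cent2 h2 M ((rho F m).injective h1)
    refine ⟨A, D, by rw [← hM, hAD], ?_⟩
    have h3 : (g : Matrix (Fin (m + 1)) (Fin (m + 1)) F).det = 1 := g.2
    rw [← hM, rho_det, hAD, Matrix.det_fromBlocks_zero₂₁] at h3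
    exact h3
  have htt : (ff ⟨-1, by rw [Matrix.det_neg, Matrix.det_one, Fintype.card_fin, hme.neg_one_pow, mul_one]⟩ : Matrix.SpecialLinearGroup (Fin (m + 1)) F) = t := by
    apply Subtype.ext
    rw [ht]
    rfl
  have hcK : ∀ z ∈ Subgroup.centralizer ((ff : Matrix.SpecialLinearGroup (Fin m) F →* _).range : Set (Matrix.SpecialLinearGroup (Fin (m + 1)) F)),
      ∃ a D, (z : Matrix (Fin (m + 1)) (Fin (m + 1)) F) = rho F m (Matrix.fromBlocks (Matrix.scalar (Fin m) a) 0 0 D) ∧ a ^ m * D.det = 1 := by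
    intro z hz
    have hz' : ∀ h : Matrix.SpecialLinearGroup (Fin m) F, ff h * z = z * ff h := fun h =>
      Subgroup.mem_centralizer_iff.1 hz _ ⟨h, rfl⟩
    have hzt : z * t = t * z := by rw [← htt]; exact (hz' _).symm
    obtain ⟨A, D, hAD, hdet⟩ := hcomm z hzt
    obtain ⟨a, ha⟩ := scal A (by
      intro s
      have h1 : rho F m (Matrix.fromBlocks (s : Matrix (Fin m) (Fin m) F) 0 0 1) * (z : Matrix (Fin (m + 1)) (Fin (m + 1)) F) =
        (z : Matrix (Fin (m + 1)) (Fin (m + 1)) F) * rho F m (Matrix.fromBlocks (s : Matrix (Fin m) (Fin m) F) 0 0 1) := congrArg Subtype.val (hz' s)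
      rw [hAD, ← map_mul, ← map_mul] at h1
      have h3 := (rho F m).injective h1
      rw [Matrix.fromBlocks_multiply, Matrix.fromBlocks_multiply, Matrix.fromBlocks_inj] at h3
      have h4 := h3.1
      simp only [Matrix.mul_zero, add_zero] at h4
      exact h4.symm)
    refine ⟨a, D, by rw [hAD, ha], ?_⟩
    rw [ha] at hdet
    rw [← hdet]
    congr 1
    rw [Matrix.scalar_apply, Matrix.det_diagonal, Finset.prod_const, Finset.card_univ, Fintype.card_fin]
  have hD1 : ∀ D D' : Matrix (Fin 1) (Fin 1) F, D * D' = D' * D := by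
    intro D D'
    ext i j
    have hi : i = 0 := Subsingleton.elim _ _
    have hj : j = 0 := Subsingleton.elim _ _
    subst hi; subst hj
    simp [Matrix.mul_apply, mul_comm]
  have ht1 : (t : Matrix (Fin (m + 1)) (Fin (m + 1)) F) * t = 1 := by
    rw [ht, ← map_mul, Matrix.fromBlocks_multiply]
    simp
  have htne : t ≠ 1 := by
    intro h
    have h1 : (t : Matrix (Fin (m + 1)) (Fin (m + 1)) F) = 1 := congrArg Subtype.val h
    rw [ht, ← map_one (rho F m)] at h1
    have h3 := (rho F m).injective h1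
    rw [← Matrix.fromBlocks_one, Matrix.fromBlocks_inj] at h3
    have h4 := congrFun (congrFun h3.1 ⟨0, by omega⟩) ⟨0, by omega⟩
    rw [Matrix.neg_apply, Matrix.one_apply_eq] at h4
    apply h2
    linear_combination (-1 : F) * h4
  apply H12.StdSL.abs t (ff : Matrix.SpecialLinearGroup (Fin m) F →* _).range
  · exact H11.Components.IsQuasisimple.of_mulEquiv (S1340.qs (F := F) (m := m) (by omega) (fun h => by omega))
      (MonoidHom.ofInjective ff_inj)
  · rw [Subgroup.mem_centralizer_iff]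
    rintro _ ⟨h, rfl⟩
    apply Subtype.ext
    show rho F m (Matrix.fromBlocks (h : Matrix (Fin m) (Fin m) F) 0 0 1) * (t : Matrix (Fin (m + 1)) (Fin (m + 1)) F) =
      (t : Matrix (Fin (m + 1)) (Fin (m + 1)) F) * rho F m (Matrix.fromBlocks (h : Matrix (Fin m) (Fin m) F) 0 0 1)
    rw [ht, ← map_mul, ← map_mul, Matrix.fromBlocks_multiply, Matrix.fromBlocks_multiply]
    simp
  · intro g hg k hk
    obtain ⟨h, rfl⟩ := hk
    obtain ⟨A, D, hAD, hdet⟩ := hcomm g hg
    have hA : IsUnit A.det := isUnit_iff_exists_inv.2 ⟨_, hdet⟩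
    refine ⟨⟨A * (h : Matrix (Fin m) (Fin m) F) * A⁻¹, ?_⟩, ?_⟩
    · rw [Matrix.det_conj ((Matrix.isUnit_iff_isUnit_det _).2 hA)]; exact h.2
    · rw [eq_mul_inv_iff_mul_eq]
      apply Subtype.ext
      show rho F m (Matrix.fromBlocks (A * (h : Matrix (Fin m) (Fin m) F) * A⁻¹) 0 0 1) * (g : Matrix (Fin (m + 1)) (Fin (m + 1)) F) =
        (g : Matrix (Fin (m + 1)) (Fin (m + 1)) F) * rho F m (Matrix.fromBlocks (h : Matrix (Fin m) (Fin m) F) 0 0 1)
      rw [hAD, ← map_mul, ← map_mul, Matrix.fromBlocks_multiply, Matrix.fromBlocks_multiply]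
      simp only [Matrix.mul_one, Matrix.one_mul, Matrix.mul_zero, Matrix.zero_mul, add_zero, zero_add]
      rw [Matrix.mul_assoc (A * (h : Matrix (Fin m) (Fin m) F)), Matrix.nonsing_inv_mul A hA, Matrix.mul_one]
  · intro z hz w hw
    obtain ⟨a, D, hz1, -⟩ := hcK z hz
    obtain ⟨b, D', hw1, -⟩ := hcK w hw
    apply Subtype.ext
    show (z : Matrix (Fin (m + 1)) (Fin (m + 1)) F) * w = w * z
    rw [hz1, hw1, ← map_mul, ← map_mul, Matrix.fromBlocks_multiply, Matrix.fromBlocks_multiply]
    simp only [Matrix.mul_zero, Matrix.zero_mul, add_zero, zero_add]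
    rw [hD1 D D', ← map_mul, ← map_mul, mul_comm a b]
  · intro z hz hz2
    obtain ⟨a, D, hz1, hdet⟩ := hcK z hz
    have hzz : (z : Matrix (Fin (m + 1)) (Fin (m + 1)) F) * z = 1 := by
      have h1 : z * z = 1 := by rw [← pow_two, ← hz2]; exact pow_orderOf_eq_one z
      exact congrArg Subtype.val h1
    rw [hz1, ← map_mul, Matrix.fromBlocks_multiply, ← map_one (rho F m)] at hzz
    have h3 := (rho F m).injective hzz
    rw [← Matrix.fromBlocks_one, Matrix.fromBlocks_inj] at h3
    have h4 := h3.1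
    simp only [Matrix.mul_zero, add_zero] at h4
    rw [← map_mul] at h4
    have h5 := congrFun (congrFun h4 ⟨0, by omega⟩) ⟨0, by omega⟩
    rw [Matrix.scalar_apply, Matrix.diagonal_apply_eq, Matrix.one_apply_eq] at h5
    have ham : a ^ m = 1 := by
      obtain ⟨r, hr⟩ := hme
      rw [hr, ← two_mul, pow_mul, pow_two, h5, one_pow]
    rw [ham, one_mul, Matrix.det_fin_one] at hdet
    have hDD : D = 1 := by
      ext i j
      have hi : i = 0 := Subsingleton.elim _ _
      have hj : j = 0 := Subsingleton.elim _ _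
      subst hi; subst hj
      rw [hdet, Matrix.one_apply_eq]
    rcases mul_self_eq_one_iff.1 h5 with h6 | h6
    · exfalso
      rw [h6, map_one, hDD, Matrix.fromBlocks_one, map_one] at hz1
      have h7 : z = 1 := Subtype.ext hz1
      rw [h7, orderOf_one] at hz2
      omega
    · apply Subtype.ext
      rw [hz1, ht, h6, hDD, map_neg, map_one]
  · apply orderOf_eq_prime
    · rw [pow_two]; exact Subtype.ext ht1
    · exact htne

/-- Let F be a finite field of odd order, n ≥ 7 odd, and t ∈ SL(n, F) the diagonal matrix with entries −1, …, −1, 1. Then E(C(t)) is a standard subgroup of SL(n, F). -/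
theorem result {F : Type*} [Field F] [Fintype F] [DecidableEq F] (hF : Odd (Fintype.card F)) (n : ℕ) (hn : 7 ≤ n) (hodd : Odd n) (t : Matrix.SpecialLinearGroup (Fin n) F) (ht : (t : Matrix (Fin n) (Fin n) F) = Matrix.diagonal (fun i : Fin n => if (i : ℕ) + 1 = n then (1 : F) else -1)) : Cfsg.IsStandardSubgroup ((Cfsg.layer ↥(Subgroup.centralizer ({t} : Set (Matrix.SpecialLinearGroup (Fin n) F)))).map (Subgroup.centralizer ({t} : Set (Matrix.SpecialLinearGroup (Fin n) F))).subtype) := by
  obtain ⟨m, rfl⟩ : ∃ m, n = m + 1 := ⟨n - 1, by omega⟩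
  have h2 : (2 : F) ≠ 0 := by
    intro h
    have h1 : ringChar F = 2 := by
      have h3 : ringChar F ∣ 2 := ringChar.dvd (by exact_mod_cast h)
      have h4 : ringChar F ≠ 1 := CharP.ringChar_ne_one
      exact (Nat.dvd_prime Nat.prime_two).1 h3 |>.resolve_left h4
    have h5 := FiniteField.even_card_of_char_two h1
    rw [Nat.odd_iff] at hF
    omega
  have hme : Even m := by
    rw [Nat.even_iff]; rw [Nat.odd_iff] at hodd; omega
  apply core h2 m (by omega) hme t
  rw [ht]
  apply (rho F m).symm.injective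
  rw [AlgEquiv.symm_apply_apply]
  ext x y
  show Matrix.diagonal (fun i : Fin (m + 1) => if (i : ℕ) + 1 = m + 1 then (1 : F) else -1) (finSumFinEquiv x) (finSumFinEquiv y) = _
  rcases x with x | x <;> rcases y with y | y
  · rw [Matrix.fromBlocks_apply₁₁]
    by_cases hxy : x = y
    · subst hxy
      rw [Matrix.diagonal_apply_eq, Matrix.neg_apply, Matrix.one_apply_eq]
      have := x.2
      rw [if_neg]
      simp only [finSumFinEquiv_apply_left, Fin.val_castAdd]
      omega
    · rw [Matrix.diagonal_apply_ne, Matrix.neg_apply, Matrix.one_apply_ne hxy, neg_zero]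
      intro e
      exact hxy (Sum.inl.inj (finSumFinEquiv.injective e))
  · rw [Matrix.fromBlocks_apply₁₂, Matrix.diagonal_apply_ne]
    · rfl
    · intro e; exact absurd (finSumFinEquiv.injective e) (by simp)
  · rw [Matrix.fromBlocks_apply₂₁, Matrix.diagonal_apply_ne]
    · rfl
    · intro e; exact absurd (finSumFinEquiv.injective e) (by simp)
  · rw [Matrix.fromBlocks_apply₂₂]
    have hx : x = y := Subsingleton.elim _ _
    subst hx
    rw [Matrix.diagonal_apply_eq, Matrix.one_apply_eq, if_pos]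
    have hx0 : x = 0 := Subsingleton.elim _ _
    subst hx0
    simp

end Cfsg.Agent.S1348
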