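import Cfsg.Statements.S1417
import Cfsg.Agent.H12_BG12c

set_option autoImplicit false
open Cfsg

namespace Cfsg.Agent.S1417


/-- Let G be a minimal simple group of odd order, M a maximal subgroup, p ∈ τ₂(M) and A ≤ M elementary abelian of order p ^ 2. Then (a) M_σ is nilpotent; (b) every Sylow p-subgroup P of M is abelian, and if A ≤ P then the elements of P of order dividing p are exactly those of A and N_G(P) is not contained in M; (c) M normalizes M_σA; (d) M_σ ∩ C_G(A) = 1; (e) M_σ ∩ M* = 1 for every maximal subgroup M* ≠ M containing A; (f) M_σ ∩ C_G(A₁) = 1 for some subgroup A₁ ≤ A of order p. -/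
theorem result {G : Type*} [Group G] [Finite G] (hG : Cfsg.IsMinSimpleOddOrder G)
    (M : Subgroup G) (hM : IsCoatom M) (p : ℕ) [Fact p.Prime] (hp : p ∈ Cfsg.tau2 M) (A : Subgroup G) (hA : (A ≤ M ∧ Cfsg.IsElementaryAbelian p A ∧ Nat.card A = p ^ 2)) :
    Group.IsNilpotent (Cfsg.sigmaCore M) ∧
      (∀ P : Sylow p M, IsMulCommutative (P : Subgroup M) ∧
        (A ≤ (P : Subgroup M).map M.subtype →
          (∀ x ∈ (P : Subgroup M).map M.subtype, x ^ p = 1 ↔ x ∈ A) ∧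
          ¬ Subgroup.normalizer ((((P : Subgroup M).map M.subtype : Subgroup G)) : Set G) ≤ M)) ∧
      M ≤ Subgroup.normalizer ((Cfsg.sigmaCore M ⊔ A : Subgroup G) : Set G) ∧
      Cfsg.sigmaCore M ⊓ Subgroup.centralizer (A : Set G) = ⊥ ∧
      (∀ Mstar : Subgroup G, IsCoatom Mstar → Mstar ≠ M → A ≤ Mstar → Cfsg.sigmaCore M ⊓ Mstar = ⊥) ∧
      ∃ A₁ : Subgroup G, A₁ ≤ A ∧ Nat.card A₁ = p ∧ Cfsg.sigmaCore M ⊓ Subgroup.centralizer (A₁ : Set G) = ⊥ := by
  obtain ⟨hAM, hAe, hAc⟩ := hA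
  obtain ⟨A₀, h⟩ := H12.BG12.exists_exc hG hM hp.2.1 hAM hAe hAc
  obtain ⟨P₀, hAP₀, hP₀⟩ := H13.Syl.exists_isSylIn_ge (p := p) (H := M) h.e2.isPGroup h.le
  obtain ⟨-, -, hfix, A₁, -, hA1, -, hc1, -, -, hf1, -⟩ := h.thm116 hG hP₀ hAP₀
  refine ⟨h.thm113 hG, ?_, H12.BG12.Exc.normal hG h, hfix, ?_, A₁, hA1, hc1, hf1⟩
  · intro P
    have hP := H13.Syl.isSylIn_map_subtype P
    refine ⟨?_, ?_⟩
    · have h1 := H12.BG12.thm125b hG hM hp hP
      refine ⟨⟨fun a b => ?_⟩⟩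
      have h2 := h1.is_comm.comm (⟨_, _, a.2, rfl⟩ : ↥((P : Subgroup M).map M.subtype)) ⟨_, _, b.2, rfl⟩
      have h3 : ((a : M) : G) * ((b : M) : G) = ((b : M) : G) * ((a : M) : G) := congrArg Subtype.val h2
      exact Subtype.ext (Subtype.ext h3)
    · intro hAP
      refine ⟨fun x hx => ⟨fun h1 => (h.thm116 hG hP hAP).1 x hx h1, fun h1 => hAe.2 x h1⟩, ?_⟩
      intro hle
      obtain ⟨g, hg, hgM⟩ := H12.BG11.exists_not_mem h.ns hP h.dvd
      exact hgM (hle hg)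
  · intro H hH hne hAH
    exact H12.BG12.thm125e hG h hH hne hAH

end Cfsg.Agent.S1417
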