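import Cfsg.Statements.S1418
import Cfsg.Agent.H12_BG12c

set_option autoImplicit false
open Cfsg

namespace Cfsg.Agent.S1418


/-- Let G be a minimal simple group of odd order, M a maximal subgroup, E a complement to M_σ in M, p ∈ τ₂(M), and A ≤ E elementary abelian of order p ^ 2. Then A is normal in E and contains every subgroup of E of order p; C_G(A) ≤ M ∩ N_G(A) = E and N_G(A) is not contained in M; and for every subgroup X ≤ A of order p centralizing a non-identity element of M_σ, C_G(X) ≤ M and M is the unique maximal subgroup containing C_G(X). -/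
theorem result {G : Type*} [Group G] [Finite G] (hG : Cfsg.IsMinSimpleOddOrder G)
    (M : Subgroup G) (hM : IsCoatom M) (E : Subgroup G) (hE : Cfsg.IsComplIn E (Cfsg.sigmaCore M) M) (p : ℕ) [Fact p.Prime] (hp : p ∈ Cfsg.tau2 M) (A : Subgroup G) (hA : (A ≤ E ∧ Cfsg.IsElementaryAbelian p A ∧ Nat.card A = p ^ 2)) :
    (E ≤ Subgroup.normalizer (A : Set G) ∧ ∀ X : Subgroup G, X ≤ E → Nat.card X = p → X ≤ A) ∧
      (Subgroup.centralizer (A : Set G) ≤ M ⊓ Subgroup.normalizer (A : Set G) ∧ M ⊓ Subgroup.normalizer (A : Set G) = E ∧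
        ¬ Subgroup.normalizer (A : Set G) ≤ M) ∧
      ∀ X : Subgroup G, X ≤ A → Nat.card X = p → Cfsg.sigmaCore M ⊓ Subgroup.centralizer (X : Set G) ≠ ⊥ → (Subgroup.centralizer (X : Set G) ≤ M ∧ ∀ L : Subgroup G, IsCoatom L → Subgroup.centralizer (X : Set G) ≤ L → L = M) := by
  obtain ⟨hAE, hAe, hAc⟩ := hA
  obtain ⟨A₀, h⟩ := H12.BG12.exists_exc hG hM hp.2.1 (hAE.trans hE.1) hAe hAc
  obtain ⟨h1, h2, h3⟩ := H12.BG12.thm126b hG h hE hAE
  have h4 := H12.BG12.exc_compl_le hG h hE hAE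
  refine ⟨⟨h4, ?_⟩, ⟨?_, h2, h3⟩, ?_⟩
  · intro X hX hXc
    apply H12.BG12.thm126a hG h hE hAE hX
    intro x hx
    have := pow_card_eq_one' (x := (⟨x, hx⟩ : X))
    rw [hXc] at this
    exact congrArg Subtype.val this
  · rw [h2]; exact h1
  · intro X hXA hXc hne
    have hXp : IsPGroup p X := h.e2.isPGroup.to_le hXA
    refine H12.BG12.thm126c hG h ?_ (H12.BG12.ea_le_cent hAe hXA) ?_ hne
    · rintro rfl
      rw [Subgroup.card_bot] at hXc
      exact (Fact.out : p.Prime).one_lt.ne hXc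
    · exact H12.BG7.ne_top_of_isPGroup hG hXp

end Cfsg.Agent.S1418
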