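import Cfsg.Statements.S1420
import Cfsg.Agent.H12_BG12e

set_option autoImplicit false
open Cfsg

namespace Cfsg.Agent.S1420


/-- Let G be a minimal simple group of odd order, M a maximal subgroup and E a complement to M_σ in M. Then every nilpotent subgroup of M whose order involves no prime of σ(M) is abelian; E' is abelian; for p ∈ σ(M) and every noncyclic p-subgroup P of M, N_G(P) ≤ M; and if x ≠ 1 in M has every prime divisor of its order in τ₂(M) and centralizes a non-identity element of M_σ, then C_G(x) ≤ M and M is the unique maximal subgroup containing C_G(x). -/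
theorem result {G : Type*} [Group G] [Finite G] (hG : Cfsg.IsMinSimpleOddOrder G)
    (M : Subgroup G) (hM : IsCoatom M) (E : Subgroup G) (hE : Cfsg.IsComplIn E (Cfsg.sigmaCore M) M) :
    (∀ N : Subgroup G, N ≤ M → Group.IsNilpotent N → (∀ p : ℕ, p.Prime → p ∣ Nat.card N → p ∉ Cfsg.sigma M) → IsMulCommutative N) ∧
      IsMulCommutative ↥⁅E, E⁆ ∧
      (∀ (p : ℕ) (P : Subgroup G), p ∈ Cfsg.sigma M → IsPGroup p P → P ≤ M → ¬ IsCyclic P → Subgroup.normalizer (P : Set G) ≤ M) ∧
      ∀ x ∈ M, x ≠ 1 → (∀ p : ℕ, p.Prime → p ∣ orderOf x → p ∈ Cfsg.tau2 M) → x ∈ Cfsg.sigmaHat M →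
        Subgroup.centralizer ({x} : Set G) ≤ M ∧ ∀ L : Subgroup G, IsCoatom L → Subgroup.centralizer ({x} : Set G) ≤ L → L = M := by
  refine ⟨?_, ?_, ?_, ?_⟩
  · intro N hN hnil hσ
    exact H12.BG12.thm1210a hG hM hN hnil (fun p hp hd => hσ p hp hd)
  · refine H12.BG12.thm1210a hG hM ((Subgroup.commutator_le_self E).trans hE.1)
      (H12.BG12.comm_nilpotent hG hM hE.1 (H12.BG12.compl_sigmaC hG hM hE)) ?_
    exact (H12.BG12.compl_sigmaC hG hM hE).mono (Subgroup.commutator_le_self E)
  · intro p P hσ hP hPM hnc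
    haveI : Fact p.Prime := ⟨(H12.BG10.sigma_spec hσ).1⟩
    exact H12.BG12.thm1210d hG hM hσ hP hPM hnc
  · intro x hx hx1 hxτ hxσ
    obtain ⟨-, y, hy, hy1, hxy⟩ := hxσ
    have h1 : Subgroup.centralizer ({x} : Set G) = Subgroup.centralizer (Subgroup.zpowers x : Set G) :=
      (H12.BG11.centralizer_zpowers x).symm
    rw [h1]
    refine H12.BG12.thm1210e hG hM (by rwa [Subgroup.zpowers_le]) (by rw [Ne, Subgroup.zpowers_eq_bot]; exact hx1) ?_ ?_ ?_
    · exact H12.BG12.nilp_of_comm inferInstance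
    · intro q hq hd
      rw [Nat.card_zpowers] at hd
      exact hxτ q hq hd
    · intro hb
      apply hy1
      have : y ∈ (Cfsg.sigmaCore M ⊓ Subgroup.centralizer (Subgroup.zpowers x : Set G) : Subgroup G) := by
        rw [← h1]
        exact Subgroup.mem_inf.2 ⟨hy, Subgroup.mem_centralizer_singleton_iff.2 hxy.symm⟩
      rw [hb] at this
      exact Subgroup.mem_bot.1 this

end Cfsg.Agent.S1420
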