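import Cfsg.Statements.S1427
import Cfsg.Agent.H12_BG13a

set_option autoImplicit false
open Cfsg

namespace Cfsg.Agent.S1427


/-- Let G be a minimal simple group of odd order, M a maximal subgroup, E a complement to M_σ in M, and S a nontrivial cyclic Sylow subgroup of E (for some prime). Then M_σ ∩ C_G(x) = M_σ ∩ C_G(S) for every non-identity x ∈ S. -/
theorem result {G : Type*} [Group G] [Finite G] (hG : Cfsg.IsMinSimpleOddOrder G)
    (M : Subgroup G) (hM : IsCoatom M) (E : Subgroup G) (hE : Cfsg.IsComplIn E (Cfsg.sigmaCore M) M) (p : ℕ) [Fact p.Prime] (S : Sylow p E) (hS1 : (S : Subgroup E) ≠ ⊥) (hSc : IsCyclic (S : Subgroup E)) :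
    ∀ x ∈ (S : Subgroup E).map E.subtype, x ≠ 1 →
        Cfsg.sigmaCore M ⊓ Subgroup.centralizer ({x} : Set G) = Cfsg.sigmaCore M ⊓ Subgroup.centralizer (((S : Subgroup E).map E.subtype : Subgroup G) : Set G) := by
  intro x hx hx1
  have hS := H13.Syl.isSylIn_map_subtype S
  have hSM : (S : Subgroup E).map E.subtype ≤ M := hS.le.trans hE.1
  have hne : (S : Subgroup E).map E.subtype ≠ ⊥ := by
    rw [Ne, Subgroup.map_eq_bot_iff_of_injective _ E.subtype_injective]
    exact hS1
  have hEh := H12.BG12.compl_hall hG hM hE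
  have hpS : p ∣ Nat.card ((S : Subgroup E).map E.subtype) := by
    obtain ⟨n, hn⟩ := hS.isPGroup.exists_card_eq
    rcases Nat.eq_zero_or_pos n with rfl | hn0
    · rw [pow_zero] at hn
      exact absurd (Subgroup.card_eq_one.1 hn) hne
    · rw [hn]; exact dvd_pow_self p hn0.ne'
  have hpσ : p ∉ sigma M := H12.Hall.pi hEh p Fact.out (hpS.trans (Subgroup.card_dvd_of_le hS.le))
  have hSM' := H12.Hall.sylow_trans hEh hpσ hS
  have hSc' : IsCyclic ((S : Subgroup E).map E.subtype) :=
    isCyclic_of_surjective _ ((S : Subgroup E).equivMapOfInjective E.subtype E.subtype_injective).surjective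
  have hr : PRankLE p 1 M := H12.BG10.pRankLE_of_isSylIn hSM' (H12.BG11.pRankLE_of_cyclic hSc')
  have hpM := hpS.trans (Subgroup.card_dvd_of_le hSM)
  have hτ : p ∈ tau1 M ∨ p ∈ tau3 M := by
    by_cases h : p ∣ Nat.card ↥⁅M, M⁆
    · exact Or.inr ⟨Fact.out, hpσ, h, hr⟩
    · exact Or.inl ⟨Fact.out, hpσ, hpM, h, hr⟩
  apply le_antisymm
  · exact le_inf inf_le_left (H12.BG13.thm133a hG hM hτ hS.isPGroup hSM hx hx1)
  · exact inf_le_inf_left _ (Subgroup.centralizer_le (by
      intro y hy
      rw [Set.mem_singleton_iff] at hy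
      rw [hy]; exact hx))

end Cfsg.Agent.S1427
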