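import Cfsg.Statements.S1532
import Cfsg.Agent.H10_CohI5

set_option autoImplicit false
open Cfsg

namespace Cfsg.Agent.S1532

open Cfsg.Agent.H10.CohI5 Cfsg.Agent.H10.CohI4 Cfsg.Agent.H10.CohI3 Cfsg.Agent.H10.CohI2 Cfsg.Agent.H10.IndSet2 Cfsg.Agent.H10.IndSet7 Cfsg.Agent.H10.Sib2 Cfsg.Agent.H10.Coh4

/-- Let G be a finite group, p an odd prime and P a Sylow p-subgroup that is non-abelian, whose underlying set is a TI-subset of G, with P properly contained in its set normaliser N and C_G(x) ≤ P for every non-identity x ∈ P. Let Z be a nontrivial subgroup of the centre of P normalised by N. Then the set of irreducible characters χ of N with χ z ≠ χ 1 for some z ∈ Z is coherent for the map induced by induction from N to G. -/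
theorem result {G : Type*} [Group G] [Fintype G] (p : ℕ) [Fact p.Prime] (hp : p ≠ 2) (P : Sylow p G) (hna : ¬ IsMulCommutative (P : Subgroup G)) (hTI : Cfsg.IsTISubset ((P : Subgroup G) : Set G)) (hlt : (P : Subgroup G) < Subgroup.normalizer ((P : Subgroup G) : Set G)) (hC : ∀ k ∈ (P : Subgroup G), k ≠ 1 → Subgroup.centralizer ({k} : Set G) ≤ (P : Subgroup G)) [Fintype ↥(Subgroup.normalizer ((P : Subgroup G) : Set G))] (Z : Subgroup G) (hZ1 : Z ≠ ⊥) (hZP : ∀ z ∈ Z, z ∈ (P : Subgroup G) ∧ ∀ y ∈ (P : Subgroup G), z * y = y * z) (hZn : ∀ x ∈ Subgroup.normalizer ((P : Subgroup G) : Set G), ∀ z ∈ Z, x * z * x⁻¹ ∈ Z) : Cfsg.IsCoherent {χ : ↥(Subgroup.normalizer ((P : Subgroup G) : Set G)) → ℂ | Cfsg.IsIrrCharacter ↥(Subgroup.normalizer ((P : Subgroup G) : Set G)) χ ∧ ∃ z : ↥(Subgroup.normalizer ((P : Subgroup G) : Set G)), (z : G) ∈ Z ∧ χ z ≠ χ 1} {1}ᶜ (fun α => Cfsg.indFun (Subgroup.normalizer ((P : Subgroup G) : Set G)) α) := by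
  classical
  have hna' : ¬ ∀ x ∈ (P : Subgroup G), ∀ y ∈ (P : Subgroup G), x * y = y * x := by
    intro h
    exact hna ⟨⟨fun x y => Subtype.ext (h x x.2 y y.2)⟩⟩
  have hP1 : (P : Subgroup G) ≠ ⊥ := by
    intro h
    apply hna'
    intro x hx y hy
    rw [h, Subgroup.mem_bot] at hx hy
    rw [hx, hy]
  have hnil : Group.IsNilpotent (P : Subgroup G) := P.isPGroup'.isNilpotent
  have hp' : p.Prime := Fact.out
  obtain ⟨n, hn⟩ := IsPGroup.iff_card.1 P.isPGroup'
  haveI hKn := normal_sub (P : Subgroup G)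
  have hC' := cent_sub (L := Subgroup.normalizer ((P : Subgroup G) : Set G)) hC
  have hlt' := hlt.le
  have hna2 : ¬ ∀ x ∈ (P : Subgroup G).subgroupOf (Subgroup.normalizer ((P : Subgroup G) : Set G)),
      ∀ y ∈ (P : Subgroup G).subgroupOf (Subgroup.normalizer ((P : Subgroup G) : Set G)), x * y = y * x := by
    intro h
    apply hna'
    intro x hx y hy
    exact congrArg Subtype.val (h ⟨x, hlt' hx⟩ (Subgroup.mem_subgroupOf.2 hx) ⟨y, hlt' hy⟩ (Subgroup.mem_subgroupOf.2 hy))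
  have he := odd_index hC' hna2
  have hcard : Nat.card ((P : Subgroup G).subgroupOf (Subgroup.normalizer ((P : Subgroup G) : Set G))) = p ^ n := by
    rw [← hn]
    exact Nat.card_congr (Subgroup.subgroupOfEquivOfLe hlt').toEquiv
  have hodd : Odd (Nat.card ↥(Subgroup.normalizer ((P : Subgroup G) : Set G))) := by
    rw [← Subgroup.card_mul_index ((P : Subgroup G).subgroupOf (Subgroup.normalizer ((P : Subgroup G) : Set G))), hcard]
    exact (hp'.odd_of_ne_two hp).pow.mul he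
  have hcoh := sibley_odd hodd hlt hP1 hnil (fun h hh h1 => inf_le_right.trans (hC h hh h1)) hTI rfl
  have hZn' : (Z.subgroupOf (Subgroup.normalizer ((P : Subgroup G) : Set G))).Normal :=
    ⟨fun z hz x => Subgroup.mem_subgroupOf.2 (hZn x x.2 z (Subgroup.mem_subgroupOf.1 hz))⟩
  have hZK : Z.subgroupOf (Subgroup.normalizer ((P : Subgroup G) : Set G)) ≤
      (P : Subgroup G).subgroupOf (Subgroup.normalizer ((P : Subgroup G) : Set G)) :=
    fun z hz => Subgroup.mem_subgroupOf.2 (hZP z (Subgroup.mem_subgroupOf.1 hz)).1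
  have hZ1' : Z.subgroupOf (Subgroup.normalizer ((P : Subgroup G) : Set G)) ≠ ⊥ := by
    intro h
    have h1 := Subgroup.map_subgroupOf_eq_of_le (H := Z) (K := Subgroup.normalizer ((P : Subgroup G) : Set G))
      (fun z hz => hlt' (hZP z hz).1)
    rw [h, Subgroup.map_bot] at h1
    exact hZ1 h1.symm
  have hset : {χ : ↥(Subgroup.normalizer ((P : Subgroup G) : Set G)) → ℂ | Cfsg.IsIrrCharacter ↥(Subgroup.normalizer ((P : Subgroup G) : Set G)) χ ∧ ∃ z : ↥(Subgroup.normalizer ((P : Subgroup G) : Set G)), (z : G) ∈ Z ∧ χ z ≠ χ 1} =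
      inducedIrrAbove ((P : Subgroup G).subgroupOf (Subgroup.normalizer ((P : Subgroup G) : Set G))) ⊥ \
        inducedIrrAbove ((P : Subgroup G).subgroupOf (Subgroup.normalizer ((P : Subgroup G) : Set G)))
          (Z.subgroupOf (Subgroup.normalizer ((P : Subgroup G) : Set G))) := by
    rw [xset_eq hKn _ hZn' hZK (fun χ hχ => S_irr hC' hχ.1)]
    rfl
  rw [hset]
  apply coh_mono hcoh Set.diff_subset
  obtain ⟨χ, hχ⟩ := XF_nonempty hKn _ hZ1' hZK
  rw [mem_XF] at hχ
  have hirr := S_irr hC' hχ.1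
  have hirr2 := S_irr hC' (conj_mem_x hχ).1
  refine exists_nz hχ (conj_mem_x hχ) hirr hirr2 (fun h => ?_)
  obtain ⟨⟨θ, hθ, hθ1, -, e⟩, -⟩ := id hχ
  exact irr_ne_conj hodd hirr (by rw [e]; exact ind_ne_one hθ hθ1) h.symm

end Cfsg.Agent.S1532
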