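import Cfsg.Statements.S1533
import Cfsg.Agent.H10_CohI5

set_option autoImplicit false
open Cfsg

namespace Cfsg.Agent.S1533

open Cfsg.Agent.H10.CohI5 Cfsg.Agent.H10.CohI2 Cfsg.Agent.H10.IndSet2

/-- Let G be a finite group, p an odd prime, and P a nontrivial Sylow p-subgroup whose underlying set is a TI-subset of G, with P properly contained in its set normaliser N and C_G(x) ≤ P for every non-identity x ∈ P. Let S be the set of irreducible characters χ of N with χ x ≠ χ 1 for some x ∈ P. Then either S has exactly one member, P is elementary abelian and Nat.card P = [N:P] + 1; or (S, N minus 1, induction to G) is coherent. -/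
theorem result {G : Type*} [Group G] [Fintype G] (p : ℕ) [Fact p.Prime] (hp : p ≠ 2) (P : Sylow p G) (hP1 : (P : Subgroup G) ≠ ⊥) (hTI : Cfsg.IsTISubset ((P : Subgroup G) : Set G)) (hlt : (P : Subgroup G) < Subgroup.normalizer ((P : Subgroup G) : Set G)) (hC : ∀ k ∈ (P : Subgroup G), k ≠ 1 → Subgroup.centralizer ({k} : Set G) ≤ (P : Subgroup G)) [Fintype ↥(Subgroup.normalizer ((P : Subgroup G) : Set G))] : (Nat.card {χ : ↥(Subgroup.normalizer ((P : Subgroup G) : Set G)) → ℂ // Cfsg.IsIrrCharacter ↥(Subgroup.normalizer ((P : Subgroup G) : Set G)) χ ∧ ∃ x : ↥(Subgroup.normalizer ((P : Subgroup G) : Set G)), (x : G) ∈ (P : Subgroup G) ∧ χ x ≠ χ 1} = 1 ∧ Cfsg.IsElementaryAbelian p (P : Subgroup G) ∧ Nat.card (P : Subgroup G) = ((P : Subgroup G).subgroupOf (Subgroup.normalizer ((P : Subgroup G) : Set G))).index + 1) ∨ Cfsg.IsCoherent {χ : ↥(Subgroup.normalizer ((P : Subgroup G) : Set G)) → ℂ | Cfsg.IsIrrCharacter ↥(Subgroup.normalizer ((P : Subgroup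 G) : Set G)) χ ∧ ∃ x : ↥(Subgroup.normalizer ((P : Subgroup G) : Set G)), (x : G) ∈ (P : Subgroup G) ∧ χ x ≠ χ 1} {1}ᶜ (fun α => Cfsg.indFun (Subgroup.normalizer ((P : Subgroup G) : Set G)) α) := by
  classical
  rw [card_S (P : Subgroup G) hlt hC, set_eq' (P : Subgroup G) hlt hC]
  have hnil : Group.IsNilpotent (P : Subgroup G) := P.isPGroup'.isNilpotent
  obtain ⟨n, hn⟩ := IsPGroup.iff_card.1 P.isPGroup'
  have hp' : p.Prime := Fact.out
  rcases ti_main (P : Subgroup G) hP1 hnil hTI hlt hC with ⟨h1, h2, h3, q, hq, hqd, h4⟩ | ⟨⟨m, hm⟩, h⟩ | h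
  · left
    refine ⟨h1, ⟨⟨⟨fun x y => Subtype.ext (h3 x x.2 y y.2)⟩⟩, ?_⟩, h2⟩
    have h5 : q = p := (Nat.prime_dvd_prime_iff_eq hq hp').1 (hq.dvd_of_dvd_pow (by rw [← hn]; exact hqd))
    intro x hx
    have h6 := h4 x hx
    rwa [h5] at h6
  · exfalso
    have h1 : 1 < Nat.card (P : Subgroup G) := (Subgroup.one_lt_card_iff_ne_bot _).2 hP1
    have hm' : Nat.card (P : Subgroup G) = 2 ^ m := hm
    have hn' : Nat.card (P : Subgroup G) = p ^ n := hn
    obtain ⟨q, hq, hqd⟩ := Nat.exists_prime_and_dvd h1.ne'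
    have e1 : q = p := (Nat.prime_dvd_prime_iff_eq hq hp').1 (hq.dvd_of_dvd_pow (by rw [← hn']; exact hqd))
    have e2 : q = 2 := (Nat.prime_dvd_prime_iff_eq hq Nat.prime_two).1 (hq.dvd_of_dvd_pow (by rw [← hm']; exact hqd))
    exact hp (by rw [← e1, e2])
  · right; exact h

end Cfsg.Agent.S1533
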