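import Cfsg.Statements.S1775
import Mathlib
import Cfsg.Agent.H5_BJ
import Cfsg.Agent.H11_FStar
import Cfsg.Agent.H11_PT3
import Cfsg.Agent.S0205

set_option autoImplicit false
open Cfsg

namespace Cfsg.Agent.S1775

/-- Let G be a finite group whose generalized Fitting subgroup is a non-abelian simple group and in which every proper section (every quotient H/N of a proper subgroup H, or of G by a nontrivial normal subgroup) has the B-property. Let x, y be commuting involutions, let D be the intersection of the 2-layer of C_G(x) with C_G(y), and let J be a 2-component of D. Write Q for the quotient of C_G(y) by its largest normal odd-order subgroup. Then (i) the image of J in Q is a component of the centralizer in Q of the image of x; and (ii) for every J-invariant subgroup E of odd order of C_G(x) ∩ C_G(y), the commutator subgroup [J, E] lies in the largest normal odd-order subgroup of C_G(y). -/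
theorem result {G : Type*} [Group G] [Finite G]
    (hF : IsSimpleGroup ↥(Cfsg.generalizedFittingSubgroup G)) (hF' : ¬ IsMulCommutative ↥(Cfsg.generalizedFittingSubgroup G))
    (hsec : ∀ (H : Subgroup G) (N : Subgroup ↥H) [N.Normal], (H ≠ ⊤ ∨ N ≠ ⊥) → Cfsg.HasBProperty (↥H ⧸ N))
    (x y : G) (hx : orderOf x = 2) (hy : orderOf y = 2) (hxy : x * y = y * x)
    (J : Subgroup ↥((Cfsg.pLayer 2 ↥(Subgroup.centralizer ({x} : Set G))).map (Subgroup.centralizer ({x} : Set G)).subtype ⊓ Subgroup.centralizer ({y} : Set G)))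
    (hJ : Cfsg.IsPComponent 2 J) :
    Cfsg.IsComponent
        ((((J.map (Subgroup.subtype _)).subgroupOf (Subgroup.centralizer ({y} : Set G))).map (QuotientGroup.mk' (Cfsg.oddCore ↥(Subgroup.centralizer ({y} : Set G))))).subgroupOf
          (Subgroup.centralizer ({(QuotientGroup.mk' (Cfsg.oddCore ↥(Subgroup.centralizer ({y} : Set G))) ⟨x, Subgroup.mem_centralizer_singleton_iff.mpr hxy⟩ : ↥(Subgroup.centralizer ({y} : Set G)) ⧸ Cfsg.oddCore ↥(Subgroup.centralizer ({y} : Set G)))} : Set _))) ∧
      ∀ E : Subgroup G, E ≤ Subgroup.centralizer ({x} : Set G) ⊓ Subgroup.centralizer ({y} : Set G) → Odd (Nat.card ↥E) →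
        (∀ j ∈ J.map (Subgroup.subtype _), ∀ e ∈ E, j * e * j⁻¹ ∈ E) →
          ⁅J.map (Subgroup.subtype _), E⁆ ≤ (Cfsg.oddCore ↥(Subgroup.centralizer ({y} : Set G))).map (Subgroup.centralizer ({y} : Set G)).subtype := by
  have hFT : ∀ (X : Type _) [Group X] [Finite X], Odd (Nat.card X) → Group.IsSolvable X :=
    fun X _ _ h => Cfsg.Agent.S0205.result h
  have hyC : Subgroup.centralizer ({y} : Set G) ≠ ⊤ := by
    intro h
    have h1 : ∀ g : G, g * y = y * g := fun g =>
      Subgroup.mem_centralizer_singleton_iff.1 (h ▸ Subgroup.mem_top g)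
    have h2 : y ∈ Cfsg.generalizedFittingSubgroup G := by
      apply Cfsg.Agent.H11.FStar.centralizer_generalizedFitting_le
      rw [Subgroup.mem_centralizer_iff]
      intro g _
      exact h1 g
    have h3 : (⟨y, h2⟩ : Cfsg.generalizedFittingSubgroup G) ∈ Subgroup.center (Cfsg.generalizedFittingSubgroup G) := by
      rw [Subgroup.mem_center_iff]
      intro g
      exact Subtype.ext (h1 g)
    rcases hF.eq_bot_or_eq_top_of_normal (Subgroup.center (Cfsg.generalizedFittingSubgroup G)) inferInstance with h4 | h4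
    · rw [h4, Subgroup.mem_bot] at h3
      have h5 : y = 1 := congrArg Subtype.val h3
      rw [h5, orderOf_one] at hy
      omega
    · apply hF'
      refine ⟨⟨fun a b => ?_⟩⟩
      have h5 : b ∈ Subgroup.center (Cfsg.generalizedFittingSubgroup G) := by rw [h4]; exact Subgroup.mem_top b
      exact Subgroup.mem_center_iff.1 h5 a
  have hB := hsec (Subgroup.centralizer ({y} : Set G)) (Cfsg.oddCore ↥(Subgroup.centralizer ({y} : Set G))) (Or.inl hyC)
  haveI : Fact (Nat.Prime 2) := ⟨Nat.prime_two⟩
  have hDn : (((Cfsg.pLayer 2 ↥(Subgroup.centralizer ({x} : Set G))).map (Subgroup.centralizer ({x} : Set G)).subtype ⊓ Subgroup.centralizer ({y} : Set G)).subgroupOf (Subgroup.centralizer ({x} : Set G) ⊓ Subgroup.centralizer ({y} : Set G))).Normal := by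
    constructor
    rintro n hn g
    obtain ⟨⟨m, hm, hmn⟩, hn2⟩ := hn
    have hc := Cfsg.Agent.H11.PT.pLayer_characteristic 2 (C := ↥(Subgroup.centralizer ({x} : Set G)))
    have hnorm : (Cfsg.pLayer 2 ↥(Subgroup.centralizer ({x} : Set G))).Normal := inferInstance
    refine ⟨⟨⟨(g : G), g.2.1⟩ * m * ⟨(g : G), g.2.1⟩⁻¹, hnorm.conj_mem m hm _, ?_⟩, (g * n * g⁻¹).2.2⟩
    change (g : G) * (m : G) * (g : G)⁻¹ = (g : G) * (n : G) * (g : G)⁻¹
    have : (m : G) = n := hmn
    rw [this]
  have hJ2 := (Cfsg.Agent.H11.Bal.relPC_map_subtype hJ).trans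
    (inf_le_inf_right _ (Subgroup.map_subtype_le _)) hDn.isSubnormal
  exact Cfsg.Agent.H5.BJ.aux hFT x y hx hxy hB _ hJ2

end Cfsg.Agent.S1775
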