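import Cfsg.Statements.S1910
import Cfsg.Agent.H13_TE

set_option autoImplicit false
open Cfsg

namespace Cfsg.Agent.S1910

/-- Let Q be a tightly embedded subgroup of a finite group G, g an element outside N_G(Q), T a nontrivial Sylow 2-subgroup of Q^g ∩ N_G(Q), and S a Sylow 2-subgroup of QT containing T. Then T ∩ Q = 1, and N_S(T) is the direct product of T and N_S(T) ∩ Q, with N_S(T) ∩ Q isomorphic to T. -/
theorem result {G : Type*} [Group G] [Finite G] (Q : Subgroup G) (hQ : Cfsg.IsTightlyEmbedded Q)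
    (g : G) (hg : g ∉ Subgroup.normalizer (Q : Set G))
    (T : Subgroup G) (hT1 : T ≠ ⊥) (hT : T ≤ Q.map (MulAut.conj g).toMonoidHom ⊓ Subgroup.normalizer (Q : Set G))
    (hTsyl : IsPGroup 2 T ∧ ¬ 2 ∣ T.relIndex (Q.map (MulAut.conj g).toMonoidHom ⊓ Subgroup.normalizer (Q : Set G)))
    (S : Subgroup G) (hTS : T ≤ S) (hS : S ≤ Q ⊔ T) (hSsyl : IsPGroup 2 S ∧ ¬ 2 ∣ S.relIndex (Q ⊔ T)) :
    T ⊓ Q = ⊥ ∧
      T ⊓ (S ⊓ Subgroup.normalizer (T : Set G) ⊓ Q) = ⊥ ∧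
      ⁅T, S ⊓ Subgroup.normalizer (T : Set G) ⊓ Q⁆ = ⊥ ∧
      T ⊔ (S ⊓ Subgroup.normalizer (T : Set G) ⊓ Q) = S ⊓ Subgroup.normalizer (T : Set G) ∧
      Nonempty (↥(S ⊓ Subgroup.normalizer (T : Set G) ⊓ Q) ≃* T) := by
  have := Fact.mk Nat.prime_two
  have hQt := H13.TE.tight_of Q hQ
  have hTs : H13.Syl.IsSylIn 2 T (H13.Syl.cj g Q ⊓ Subgroup.normalizer (Q : Set G)) := ⟨hT, hTsyl⟩
  have hSs : H13.Syl.IsSylIn 2 S (Q ⊔ T) := ⟨hS, hSsyl⟩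
  have h1 := H13.TE.inf_eq_bot hQt hg hTs
  refine ⟨h1, ?_, ?_, H13.TE.sup_eq hTs hTS hSs, H13.TE.iso hQt hg hT1 hTs hTS hSs⟩
  · rw [eq_bot_iff, ← h1]
    exact inf_le_inf_left _ inf_le_right
  · rw [Subgroup.commutator_eq_bot_iff_le_centralizer]
    intro t ht
    rw [Subgroup.mem_centralizer_iff]
    intro x hx
    obtain ⟨hx1, hxQ⟩ := Subgroup.mem_inf.1 hx
    exact (H13.TE.commutes hQt hg hTs hxQ (Subgroup.mem_inf.1 hx1).2 ht).symm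

end Cfsg.Agent.S1910
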