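import Cfsg.Statements.S1921
import Cfsg.Agent.H11_Bal2

set_option autoImplicit false
open Cfsg

namespace Cfsg.Agent.S1921

open Subgroup Cfsg.Agent.H11.Components Cfsg.Agent.H13.Syl Cfsg.Agent.H11.Bal

/-- Let a be an involution of a finite group H and L a component of H with a L a⁻¹ ≠ L; put M = ⟨L, aLa⁻¹⟩ and let J be the subgroup generated by the elements x · a x a⁻¹ with x ∈ L (the diagonal). Then every element of M outside J·Z(M) generates M together with J. -/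
theorem result {H : Type*} [Group H] [Finite H] (a : H) (ha : orderOf a = 2) (L : Subgroup H) (hL : Cfsg.IsComponent L)
    (hLa : L.map (MulAut.conj a).toMonoidHom ≠ L) (x : H) (hxM : x ∈ L ⊔ L.map (MulAut.conj a).toMonoidHom)
    (hxJ : x ∉ Subgroup.closure {y : H | ∃ l ∈ L, y = l * (a * l * a⁻¹)} ⊔
      ((L ⊔ L.map (MulAut.conj a).toMonoidHom) ⊓ Subgroup.centralizer ((L ⊔ L.map (MulAut.conj a).toMonoidHom : Subgroup H) : Set H))) :
    Subgroup.closure {y : H | ∃ l ∈ L, y = l * (a * l * a⁻¹)} ⊔ Subgroup.zpowers x = L ⊔ L.map (MulAut.conj a).toMonoidHom := by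
  classical
  have hLa' : cj a L ≠ L := hLa
  set L' : Subgroup H := cj a L with hL'
  set J : Subgroup H := closure {y : H | ∃ l ∈ L, y = l * (a * l * a⁻¹)} with hJ
  change x ∈ L ⊔ L' at hxM
  change x ∉ J ⊔ ((L ⊔ L') ⊓ centralizer ((L ⊔ L' : Subgroup H) : Set H)) at hxJ
  change J ⊔ zpowers x = L ⊔ L'
  have hcomm : ⁅L, L'⁆ = ⊥ := commutator_eq_bot_of_ne hL (isComponent_cj hL a) (Ne.symm hLa')
  have hLL' : L ≤ centralizer (L' : Set H) := commutator_eq_bot_iff_le_centralizer.mp hcomm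
  have hL'L : L' ≤ centralizer (L : Set H) := le_centralizer_iff.mp hLL'
  have hcm : ∀ l ∈ L, ∀ m ∈ L', l * m = m * l := fun l hl m hm => mem_centralizer_iff.mp (hL'L hm) l hl
  have hδ : ∀ l ∈ L, l * (a * l * a⁻¹) ∈ J := fun l hl => Subgroup.subset_closure ⟨l, hl, rfl⟩
  have hmem : ∀ l ∈ L, a * l * a⁻¹ ∈ L' := fun l hl => conj_mem_cj hl
  set X : Subgroup H := J ⊔ zpowers x with hX
  have hJX : J ≤ X := le_sup_left
  have hxX : x ∈ X := mem_sup_right (mem_zpowers x)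
  -- decompose x
  obtain ⟨l, hl, m', hm', hlm⟩ := (Cfsg.Agent.H1.Basic.mem_sup_iff_of_le_normalizer
    (hL'L.trans (centralizer_le_normalizer _))).mp hxM
  obtain ⟨m, hm, hmm⟩ := hm'
  have hmm' : a * m * a⁻¹ = m' := hmm
  set c : H := l * m⁻¹ with hc
  have hcL : c ∈ L := mul_mem hl (inv_mem hm)
  have hcx : c * (m * (a * m * a⁻¹)) = x := by rw [hc, hmm', ← hlm]; group
  have hcX : c ∈ X := by
    have : c = x * (m * (a * m * a⁻¹))⁻¹ := by rw [← hcx]; group
    rw [this]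
    exact mul_mem hxX (inv_mem (hJX (hδ m hm)))
  have hcZ : ¬ (⟨c, hcL⟩ : L) ∈ center L := by
    intro hz
    apply hxJ
    rw [← hcx, sup_comm]
    refine mul_mem (mem_sup_left ⟨mem_sup_left hcL, ?_⟩) (mem_sup_right (hδ m hm))
    have h1 : L ⊔ L' ≤ centralizer (zpowers c : Set H) := by
      apply sup_le
      · rw [le_centralizer_iff, zpowers_le, mem_centralizer_iff]
        intro k hk
        exact congrArg Subtype.val (mem_center_iff.mp hz ⟨k, hk⟩)
      · rw [le_centralizer_iff, zpowers_le]; exact hLL' hcL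
    exact zpowers_le.mp (le_centralizer_iff.mp h1)
  -- X ∩ L is normal in L
  have hn : ((X ⊓ L).subgroupOf L).Normal := by
    refine ⟨fun n hn g => ?_⟩
    rw [mem_subgroupOf] at hn ⊢
    refine ⟨?_, L.mul_mem (L.mul_mem g.2 n.2) (L.inv_mem g.2)⟩
    have h1 : (g : H) * (n : H) * (g : H)⁻¹ =
        ((g : H) * (a * g * a⁻¹)) * (n : H) * ((g : H) * (a * g * a⁻¹))⁻¹ := by
      have h2 := hcm n n.2 _ (hmem g g.2)
      calc (g : H) * (n : H) * (g : H)⁻¹
          = (g : H) * ((n : H) * (a * g * a⁻¹)) * (a * g * a⁻¹)⁻¹ * (g : H)⁻¹ := by group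
        _ = (g : H) * ((a * g * a⁻¹) * n) * (a * g * a⁻¹)⁻¹ * (g : H)⁻¹ := by rw [h2]
        _ = _ := by group
    change (g : H) * (n : H) * (g : H)⁻¹ ∈ X
    rw [h1]
    exact X.mul_mem (X.mul_mem (hJX (hδ g g.2)) hn.1) (X.inv_mem (hJX (hδ g g.2)))
  have hLX : L ≤ X := by
    rcases IsQuasisimple.normal_eq_top_or_le_center hL.2 ((X ⊓ L).subgroupOf L) with h | h
    · rw [subgroupOf_eq_top] at h
      exact h.trans inf_le_left
    · exact absurd (h (mem_subgroupOf.mpr ⟨hcX, hcL⟩)) hcZ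
  have hL'X : L' ≤ X := by
    rintro _ ⟨k, hk, rfl⟩
    change a * k * a⁻¹ ∈ X
    have : a * k * a⁻¹ = k⁻¹ * (k * (a * k * a⁻¹)) := by group
    rw [this]
    exact mul_mem (inv_mem (hLX hk)) (hJX (hδ k hk))
  apply le_antisymm
  · apply sup_le _ (zpowers_le.mpr hxM)
    rw [hJ, closure_le]
    rintro _ ⟨k, hk, rfl⟩
    exact mul_mem (mem_sup_left hk) (mem_sup_right (hmem k hk))
  · exact sup_le hLX hL'X

end Cfsg.Agent.S1921
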