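import Cfsg.Statements.S1922
import Cfsg.Agent.H13_ZH

set_option autoImplicit false
open Cfsg

namespace Cfsg.Agent.S1922

/-- Let z be an involution of a finite group G and H a proper subgroup such that z lies in gHg⁻¹ exactly when g ∈ H. Then the following are equivalent: (1) for every conjugate t ≠ z of z commuting with z, the product zt lies in gHg⁻¹ exactly when g ∈ H; (2) z lies in the centre of some Sylow 2-subgroup of G, and for every conjugate t ≠ z of z commuting with z, the centralizer of zt is contained in H. -/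
theorem result {G : Type*} [Group G] [Finite G] (z : G) (hz : orderOf z = 2) (H : Subgroup G) (hH : H ≠ ⊤)
    (h0 : ∀ g : G, z ∈ H.map (MulAut.conj g).toMonoidHom ↔ g ∈ H) :
    (∀ t : G, IsConj z t → t ≠ z → t * z = z * t → ∀ g : G, z * t ∈ H.map (MulAut.conj g).toMonoidHom ↔ g ∈ H) ↔
      ((∃ P : Sylow 2 G, z ∈ (Subgroup.center ↥(P : Subgroup G)).map (P : Subgroup G).subtype) ∧
        ∀ t : G, IsConj z t → t ≠ z → t * z = z * t → Subgroup.centralizer ({z * t} : Set G) ≤ H) := by
  have h0' : ∀ g : G, g⁻¹ * z * g ∈ H ↔ g ∈ H := by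
    intro g; rw [← h0 g]; exact H13.Syl.mem_cj.symm
  have hconv : (∀ t : G, IsConj z t → t ≠ z → t * z = z * t → ∀ g : G, z * t ∈ H.map (MulAut.conj g).toMonoidHom ↔ g ∈ H) ↔
      (∀ t : G, IsConj z t → t ≠ z → t * z = z * t → ∀ g : G, g⁻¹ * (z * t) * g ∈ H ↔ g ∈ H) := by
    refine forall_congr' (fun t => forall_congr' (fun _ => forall_congr' (fun _ => forall_congr' (fun _ =>
      forall_congr' (fun g => ?_)))))
    have : z * t ∈ H.map (MulAut.conj g).toMonoidHom ↔ g⁻¹ * (z * t) * g ∈ H := H13.Syl.mem_cj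
    rw [this]
  rw [hconv]
  have hzz : z * z = 1 := by rw [← pow_two, ← hz, pow_orderOf_eq_one]
  have := Fact.mk Nat.prime_two
  constructor
  · intro hyp
    have h1 := H13.ZH.odd_index hz h0'
    have h2 := H13.ZH.odd_relIndex hz hH h0' hyp
    constructor
    · have hp : IsPGroup 2 (Subgroup.zpowers z) := by
        rw [IsPGroup.iff_card]; exact ⟨1, by rw [Nat.card_zpowers, hz, pow_one]⟩
      obtain ⟨P, hzP, hP⟩ := H13.Syl.exists_isSylIn_ge hp (H := Subgroup.centralizer ({z} : Set G)) (by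
        rw [Subgroup.zpowers_le, Subgroup.mem_centralizer_singleton_iff])
      have hPt : H13.Syl.IsSylIn 2 P ⊤ := by
        refine ⟨le_top, hP.isPGroup, ?_⟩
        rw [Subgroup.relIndex_top_right, ← Subgroup.relIndex_mul_index hP.le, Nat.prime_two.dvd_mul, not_or]
        refine ⟨hP.not_dvd, ?_⟩
        rw [← Subgroup.relIndex_mul_index (H13.ZH.cent_le h0'), ← even_iff_two_dvd, Nat.not_even_iff_odd]
        exact h2.mul h1
      obtain ⟨Q, hQ⟩ := hPt.exists_sylow_top
      refine ⟨Q, ?_⟩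
      rw [hQ]
      refine ⟨⟨z, hzP (Subgroup.mem_zpowers z)⟩, ?_, rfl⟩
      rw [SetLike.mem_coe, Subgroup.mem_center_iff]
      intro g
      exact Subtype.ext (Subgroup.mem_centralizer_singleton_iff.1 (hP.le g.2))
    · intro t ht htz htc c hc
      rw [Subgroup.mem_centralizer_singleton_iff] at hc
      rw [← hyp t ht htz htc]
      have h3 : c⁻¹ * (z * t) * c = z * t := by
        rw [mul_assoc, ← hc]; group
      rw [h3]
      have := (hyp t ht htz htc 1).2 H.one_mem
      simpa using this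
  · rintro ⟨⟨P, hzP⟩, hcen⟩ t ht htz htc g
    obtain ⟨⟨z', hz'P⟩, hzc, hze⟩ := hzP
    have hze' : z' = z := hze
    subst hze'
    have hzcomm : ∀ x ∈ (P : Subgroup G), x * z' = z' * x := by
      intro x hx
      exact congrArg Subtype.val (Subgroup.mem_center_iff.1 hzc ⟨x, hx⟩)
    have hzH : z' ∈ H := H13.ZH.mem_self h0'
    have htt : t * t = 1 := by
      obtain ⟨k, rfl⟩ := isConj_iff.1 ht
      calc k * z' * k⁻¹ * (k * z' * k⁻¹) = k * (z' * z') * k⁻¹ := by group
        _ = 1 := by rw [hzz]; group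
    have hwt : z' * t ∈ H := by
      apply hcen t ht htz htc
      rw [Subgroup.mem_centralizer_singleton_iff]
    have hPH : (P : Subgroup G) ≤ H := by
      intro x hx
      apply H13.ZH.cent_le h0'
      rw [Subgroup.mem_centralizer_singleton_iff]
      exact hzcomm x hx
    have hPHs : H13.Syl.IsSylIn 2 (P : Subgroup G) H := (H13.Syl.isSylIn_sylow_top P).mono hPH le_top
    constructor
    · intro hu
      have hww : (z' * t) * (z' * t) = 1 := by
        calc (z' * t) * (z' * t) = z' * (t * z') * t := by group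
          _ = z' * (z' * t) * t := by rw [htc]
          _ = (z' * z') * (t * t) := by group
          _ = 1 := by rw [hzz, htt, one_mul]
      have hp : IsPGroup 2 (Subgroup.zpowers (g⁻¹ * (z' * t) * g)) := by
        rw [IsPGroup.iff_card]
        have h1 : orderOf (g⁻¹ * (z' * t) * g) ∣ 2 := by
          apply orderOf_dvd_of_pow_eq_one
          calc (g⁻¹ * (z' * t) * g) ^ 2 = g⁻¹ * ((z' * t) * (z' * t)) * g := by rw [pow_two]; group
            _ = 1 := by rw [hww]; group
        obtain ⟨k, _, hk⟩ := (Nat.dvd_prime_pow Nat.prime_two (m := 1)).1 (by simpa using h1)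
        exact ⟨k, by rw [Nat.card_zpowers, hk]⟩
      obtain ⟨x, hx, hxP⟩ := hPHs.exists_conj_le hp (by rwa [Subgroup.zpowers_le])
      have h2 : x * (g⁻¹ * (z' * t) * g) * x⁻¹ ∈ (P : Subgroup G) :=
        hxP (H13.Syl.conj_mem_cj (Subgroup.mem_zpowers _))
      have h3 := hzcomm _ h2
      -- k = g x⁻¹
      have h4 : (g * x⁻¹) * z' * (g * x⁻¹)⁻¹ ∈ Subgroup.centralizer ({z' * t} : Set G) := by
        rw [Subgroup.mem_centralizer_singleton_iff]
        calc g * x⁻¹ * z' * (g * x⁻¹)⁻¹ * (z' * t) = g * x⁻¹ * (z' * (x * (g⁻¹ * (z' * t) * g) * x⁻¹)) * (g * x⁻¹)⁻¹ := by group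
          _ = g * x⁻¹ * (x * (g⁻¹ * (z' * t) * g) * x⁻¹ * z') * (g * x⁻¹)⁻¹ := by rw [h3]
          _ = z' * t * (g * x⁻¹ * z' * (g * x⁻¹)⁻¹) := by group
      have h5 := hcen t ht htz htc h4
      have h6 := (h0' (g * x⁻¹)⁻¹).1 (by rwa [inv_inv])
      have h7 := H.mul_mem (H.inv_mem_iff.1 h6) hx
      rwa [inv_mul_cancel_right] at h7
    · intro hg
      exact H.mul_mem (H.mul_mem (H.inv_mem hg) hwt) hg

end Cfsg.Agent.S1922
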