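import Mathlib
import Cfsg.Statements.S1936
import Cfsg.Agent.H9_PpS
import Cfsg.Agent.H9_PpM
import Cfsg.Agent.H9_PpQ

set_option autoImplicit false
open Cfsg

namespace Cfsg.Agent.S1936

open Cfsg.Agent.H9.Pp

theorem no_mc.{u} (p : ℕ) (G : Type u) [Group G] [Finite G] : ¬ MC p G := by
  intro h
  obtain ⟨H, hH⟩ := exists_se h
  obtain ⟨P, x, y, hxy, hP, honly⟩ := two_points h hH
  obtain ⟨A, hA, hAc, hm⟩ := exists_A h hH P hxy hP
  exact final h hH P hxy hP honly A hA hAc (card_P h hH P hxy hP honly hm)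

/-- Let p be a prime and G a finite group in which every subgroup of order prime to p is abelian of exponent dividing p − 1. Then G is solvable. -/
theorem result {G : Type*} [Group G] [Finite G] (p : ℕ) [Fact p.Prime] (h : ∀ H : Subgroup G, (Nat.card ↥H).Coprime p → IsMulCommutative ↥H ∧ ∀ x ∈ H, x ^ (p - 1) = 1) : Group.IsSolvable G :=
  reduce no_mc p h

end Cfsg.Agent.S1936
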