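import Cfsg.Agent.H16_NR5
import Cfsg.Statements.S2249
-- import your own Cfsg.Agent.* helpers here

set_option autoImplicit false
open Cfsg

namespace Cfsg.Agent.S2249

/-- The normal 2-rank of the general linear group over a finite field of odd order q: for n ≥ 1 and S a Sylow 2-subgroup of GL_n(F), the largest rank of an elementary abelian subgroup of S that is normal in S equals n when q ≡ 1 (mod 4) and ⌊(n + 1)/2⌋ when q ≡ 3 (mod 4). -/
theorem result {F : Type*} [Field F] [Fintype F] {q : ℕ} (hF : Fintype.card F = q) (hodd : Odd q) (n : ℕ) (hn : 1 ≤ n) (S : Sylow 2 (Matrix.GeneralLinearGroup (Fin n) F)) :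
    (q % 4 = 1 → ((∃ E : Subgroup ↥(S : Subgroup (Matrix.GeneralLinearGroup (Fin n) F)), E.Normal ∧ Cfsg.IsElementaryAbelian 2 E ∧ 2 ^ (n) ≤ Nat.card ↥E) ∧
      ∀ E : Subgroup ↥(S : Subgroup (Matrix.GeneralLinearGroup (Fin n) F)), E.Normal → Cfsg.IsElementaryAbelian 2 E → Nat.card ↥E ≤ 2 ^ (n))) ∧
    (q % 4 = 3 → ((∃ E : Subgroup ↥(S : Subgroup (Matrix.GeneralLinearGroup (Fin n) F)), E.Normal ∧ Cfsg.IsElementaryAbelian 2 E ∧ 2 ^ ((n + 1) / 2) ≤ Nat.card ↥E) ∧
      ∀ E : Subgroup ↥(S : Subgroup (Matrix.GeneralLinearGroup (Fin n) F)), E.Normal → Cfsg.IsElementaryAbelian 2 E → Nat.card ↥E ≤ 2 ^ ((n + 1) / 2))) := by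
  classical
  subst hF
  haveI : Fact (Nat.Prime 2) := ⟨Nat.prime_two⟩
  have hq2 : Fintype.card F % 2 = 1 := Nat.odd_iff.1 hodd
  have hq1 : 1 < Fintype.card F := Fintype.one_lt_card
  have h2 : (2 : F) ≠ 0 := by
    intro h
    have hc : ringChar F = 2 := by
      have h1 : ringChar F ∣ 2 := (ringChar.spec F 2).1 (by exact_mod_cast h)
      rcases (Nat.dvd_prime Nat.prime_two).1 h1 with h3 | h3
      · exact absurd h3 (CharP.ringChar_ne_one)
      · exact h3
    have := FiniteField.even_card_iff_char_two.1 hc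
    omega
  let ρ : (S : Subgroup (Matrix.GeneralLinearGroup (Fin n) F)) →* Module.End F (Fin n → F) :=
    (Matrix.toLinAlgEquiv' (R := F) (n := Fin n)).toRingEquiv.toMulEquiv.toMonoidHom.comp
      ((Units.coeHom (Matrix (Fin n) (Fin n) F)).comp (S : Subgroup (Matrix.GeneralLinearGroup (Fin n) F)).subtype)
  have hρ : Function.Injective ρ := by
    intro a b hab
    apply Subtype.ext
    apply Units.ext
    exact (Matrix.toLinAlgEquiv' (R := F) (n := Fin n)).injective hab
  have hfr : Module.finrank F (Fin n → F) = n := by rw [Module.finrank_pi, Fintype.card_fin]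
  refine ⟨fun hq => ⟨?_, ?_⟩, fun hq => ⟨?_, ?_⟩⟩
  · obtain ⟨E, h1, h3, h4⟩ := H16.NR.GLC.lower h2 hq2 0 n 0 n (by ring) (by
      rw [H16.NR.GG_one hq hq1, H16.NR.GG_one hq hq1]
      simp) S
    exact ⟨E, h1, h3, h4.ge⟩
  · rintro E - ⟨hE1, hE2⟩
    obtain ⟨M, hM1, hM2, hM3, hM4⟩ := H16.NR.exists_decomp h2 (fun a b => hE1.is_comm.comm a b) (fun a => Subtype.ext (hE2 a a.2))
      (ρ.comp E.subtype) (hρ.comp Subtype.val_injective)
    refine hM4.trans (Nat.pow_le_pow_right (by norm_num) ?_)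
    haveI hfinΛ : Finite {χ // M χ ≠ ⊥} := WellFoundedGT.finite_ne_bot_of_iSupIndep hM2
    haveI : Fintype {χ // M χ ≠ ⊥} := Fintype.ofFinite _
    rw [Nat.card_eq_fintype_card]
    exact hM2.subtype_ne_bot_le_finrank.trans hfr.le
  · obtain ⟨E, h1, h3, h4⟩ := H16.NR.GLC.lower h2 hq2 1 (n / 2) (n % 2) n (by omega) (by
      rw [H16.NR.GG_three hq, H16.NR.GG_three hq, H16.NR.c_eq hq]
      have h5 : n = n / 2 * 2 + n % 2 := by omega
      simp only [Nat.reduceAdd, Nat.reduceDiv, Nat.factorial_one, padicValNat_one_right, one_mul, mul_one, add_zero]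
      rw [mul_add]
      omega) S
    refine ⟨E, h1, h3, ?_⟩
    rw [h4]
    exact Nat.pow_le_pow_right (by norm_num) (by omega)
  · rintro E hEn ⟨hE1, hE2⟩
    obtain ⟨M, hM1, hM2, hM3, hM4⟩ := H16.NR.exists_decomp h2 (fun a b => hE1.is_comm.comm a b) (fun a => Subtype.ext (hE2 a a.2))
      (ρ.comp E.subtype) (hρ.comp Subtype.val_injective)
    refine hM4.trans (Nat.pow_le_pow_right (by norm_num) ?_)
    have hS : padicValNat 2 (Nat.card (S : Subgroup (Matrix.GeneralLinearGroup (Fin n) F))) = H16.NR.GG (Fintype.card F) (Module.finrank F (Fin n → F)) := by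
      rw [hfr, ← H16.NR.GG_card hq2 n, S.card_eq_multiplicity, padicValNat.prime_pow, Nat.factorization_def _ Nat.prime_two]
    have hk := H16.NR.k_le_one hq E ρ hρ hS M hM1 hM2 hM3
    have := H16.NR.le_half M hM1 hM2 hk
    rwa [hfr] at this

end Cfsg.Agent.S2249
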