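import Cfsg.Agent.H16_NR2
import Cfsg.Statements.S2250
-- import your own Cfsg.Agent.* helpers here

set_option autoImplicit false
open Cfsg

namespace Cfsg.Agent.S2250

/-- The normal 2-rank of the symplectic group over a finite field of odd order: for n ≥ 1 and S a Sylow 2-subgroup of Sp_{2n}(F), the largest rank of an elementary abelian subgroup of S that is normal in S equals n. -/
theorem result {F : Type*} [Field F] [Fintype F] (hF : Odd (Fintype.card F)) (n : ℕ) (hn : 1 ≤ n) (S : Sylow 2 ↥(Matrix.symplecticGroup (Fin n) F)) :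
    ((∃ E : Subgroup ↥(S : Subgroup ↥(Matrix.symplecticGroup (Fin n) F)), E.Normal ∧ Cfsg.IsElementaryAbelian 2 E ∧ 2 ^ (n) ≤ Nat.card ↥E) ∧
      ∀ E : Subgroup ↥(S : Subgroup ↥(Matrix.symplecticGroup (Fin n) F)), E.Normal → Cfsg.IsElementaryAbelian 2 E → Nat.card ↥E ≤ 2 ^ (n)) := by
  classical
  haveI : Fact (Nat.Prime 2) := ⟨Nat.prime_two⟩
  have h2 : (2 : F) ≠ 0 := by
    intro h
    have hc : ringChar F = 2 := by
      have h1 : ringChar F ∣ 2 := (ringChar.spec F 2).1 (by exact_mod_cast h)
      rcases (Nat.dvd_prime Nat.prime_two).1 h1 with h3 | h3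
      · exact absurd h3 (CharP.ringChar_ne_one)
      · exact h3
    have := FiniteField.even_card_iff_char_two.1 hc
    rw [Nat.odd_iff] at hF
    omega
  refine ⟨?_, ?_⟩
  · obtain ⟨E, h1, h3, h4⟩ := H16.NR.lower h2 hF S
    exact ⟨E, h1, h3, h4.ge⟩
  · rintro E - ⟨hE1, hE2⟩
    let ι : E →* (H5.Conc.sympFrm n F).isom := (H5.Conc.spEquiv n F).toMonoidHom.comp
      ((S : Subgroup (Matrix.symplecticGroup (Fin n) F)).subtype.comp E.subtype)
    have hι : Function.Injective ι := (H5.Conc.spEquiv n F).injective.comp (Subtype.val_injective.comp Subtype.val_injective)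
    let j : ((Fin n ⊕ Fin n → F) ≃ₗ[F] (Fin n ⊕ Fin n → F)) →* Module.End F (Fin n ⊕ Fin n → F) :=
      { toFun := fun g => g.toLinearMap, map_one' := rfl, map_mul' := fun _ _ => rfl }
    let ρ : E →* Module.End F (Fin n ⊕ Fin n → F) := j.comp ((H5.Conc.sympFrm n F).isom.subtype.comp ι)
    have hρ : Function.Injective ρ := by
      intro a b hab
      apply hι
      apply Subtype.ext
      apply LinearEquiv.toLinearMap_injective
      exact hab
    refine H16.NR.upper h2 (fun a b => hE1.is_comm.comm a b) (fun a => Subtype.ext (hE2 a a.2)) ρ hρ (H5.Conc.sympFrm n F)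
      (H5.Conc.sympFrm_nondeg n F) (fun a x y => (ι a).2.1 x y) ?_
    rw [Module.finrank_pi, Fintype.card_sum, Fintype.card_fin]
    ring

end Cfsg.Agent.S2250
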