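import Cfsg.Statements.S2258
import Mathlib
import Cfsg.Agent.H5_Sol4

set_option autoImplicit false
open Cfsg

namespace Cfsg.Agent.S2258

open Cfsg.Agent.H5 Cfsg.Agent.H5.SL2 Cfsg.Agent.H5.V4 Cfsg.Agent.H5.Dk Cfsg.Agent.S5893 Cfsg.Agent.H5.Sol Cfsg.Agent.S2257
open scoped Pointwise

variable {F : Type*} [Field F]

theorem card_two (h2 : (2 : F) ≠ 0) (Q : PS F → Prop) : Nat.card {s : S F // Q (π s)} = 2 * Nat.card {y : PS F // Q y} := by
  classical
  let σ : PS F → S F := Function.surjInv π_surj
  have hσ : ∀ y, π (σ y) = y := Function.surjInv_eq π_surj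
  have hneg : ∀ s : S F, π (-s) = π s := fun s => π_eq.mpr (Or.inr rfl)
  have hne : ∀ s : S F, s ≠ -s := by
    intro s h
    have e : ∀ i j, s.1 i j = 0 := by
      intro i j
      have h1 := congrArg (fun t : S F => t.1 i j) h
      have h3 : s.1 i j = - s.1 i j := h1
      have h4 : (2 : F) * s.1 i j = 0 := by linear_combination h3
      exact (mul_eq_zero.mp h4).resolve_left h2
    have := det_eq s
    rw [e, e, e, e] at this
    simp at this
  let f : Bool × {y : PS F // Q y} → {s : S F // Q (π s)} := fun p => ⟨if p.1 then σ p.2 else -σ p.2, by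
    split_ifs
    · rw [hσ]; exact p.2.2
    · rw [hneg, hσ]; exact p.2.2⟩
  have hf : Function.Bijective f := by
    constructor
    · rintro ⟨b, y⟩ ⟨b', y'⟩ h
      have h1 := congrArg Subtype.val h
      have hy : y = y' := by
        apply Subtype.ext
        have h3 := congrArg π h1
        change π (if b then σ y else -σ y) = π (if b' then σ y' else -σ y') at h3
        rw [← hσ y, ← hσ y']
        cases b <;> cases b' <;> simpa [hneg] using h3
      subst hy
      change (if b then σ y else -σ y) = (if b' then σ y else -σ y) at h1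
      cases b <;> cases b'
      · rfl
      · simp at h1; exact absurd h1.symm (hne _)
      · simp at h1; exact absurd h1 (hne _)
      · rfl
    · rintro ⟨s, hs⟩
      have h1 : π (σ (π s)) = π s := hσ _
      rcases π_eq.mp h1 with h | h
      · exact ⟨(true, ⟨π s, hs⟩), Subtype.ext (by change σ (π s) = s; exact h)⟩
      · exact ⟨(false, ⟨π s, hs⟩), Subtype.ext (by change -σ (π s) = s; rw [h, neg_neg])⟩
  rw [← Nat.card_congr (Equiv.ofBijective f hf), Nat.card_prod]
  simp

theorem Sol_eq3 (h2 : (2 : F) ≠ 0) (x : PS F) (P : S F → Prop)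
    (h : ∀ s, Group.IsSolvable (Subgroup.closure ({x, π s} : Set (PS F))) ↔ P s) : 2 * Sol x = Nat.card {s // P s} := by
  unfold Sol
  rw [← card_two h2]
  exact Nat.card_congr (Equiv.subtypeEquivRight h)

/-- trace zero -/
theorem sq_tr0 {s : S F} (h : s.1 0 0 + s.1 1 1 = 0) : π s * π s = 1 := by
  rw [← map_mul, π_eq_one]; exact Or.inr (sq_of_trace_zero h)

theorem cube_tr1 {s : S F} (h : (s.1 0 0 + s.1 1 1) ^ 2 = 1) : π s ^ 3 = 1 := by
  have hd := det_eq s
  have hm : (s.1 0 0 + s.1 1 1 - 1) * (s.1 0 0 + s.1 1 1 + 1) = 0 := by linear_combination h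
  rw [pow_succ, sq, ← map_mul, ← map_mul, π_eq_one]
  rcases mul_eq_zero.mp hm with h1 | h1
  · right
    apply ext2 <;> simp only [mul00, mul01, mul10, mul11, neg00, neg01, neg10, neg11, one00, one01, one10, one11]
    · linear_combination s.1 0 0 * h - (2 * s.1 0 0 + s.1 1 1) * hd - h1
    · linear_combination s.1 0 1 * h - s.1 0 1 * hd
    · linear_combination s.1 1 0 * h - s.1 1 0 * hd
    · linear_combination s.1 1 1 * h - (2 * s.1 1 1 + s.1 0 0) * hd - h1
  · left
    apply ext2 <;> simp only [mul00, mul01, mul10, mul11, one00, one01, one10, one11]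
    · linear_combination s.1 0 0 * h - (2 * s.1 0 0 + s.1 1 1) * hd - h1
    · linear_combination s.1 0 1 * h - s.1 0 1 * hd
    · linear_combination s.1 1 0 * h - s.1 1 0 * hd
    · linear_combination s.1 1 1 * h - (2 * s.1 1 1 + s.1 0 0) * hd - h1

theorem tr0_of_sq (h2 : (2 : F) ≠ 0) {s : S F} (h : π s * π s = 1) : s.1 0 0 + s.1 1 1 = 0 ∨ (s.1 0 1 = 0 ∧ s.1 1 0 = 0 ∧ s.1 0 0 = s.1 1 1) := by
  rw [← map_mul, π_eq_one] at h
  rcases h with h | h
  · right
    by_cases h1 : s = 1
    · rw [h1]; exact ⟨rfl, rfl, rfl⟩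
    · have := SL2Quat.eq_neg_one h2 h h1
      rw [this]
      simp only [neg01, neg10, neg00, neg11, one00, one01, one10, one11]
      simp
  · left; exact trace_zero_of h2 h

theorem card_roots [Fintype F] (h2 : (2 : F) ≠ 0) : Nat.card {τ : F // τ ^ 3 = τ} = 3 ∧ Nat.card {τ : F // τ ^ 2 = 1} = 2 := by
  classical
  have h11 : (1 : F) ≠ -1 := by intro h; apply h2; linear_combination h
  constructor
  · rw [Nat.subtype_card ({0, 1, -1} : Finset F)]
    · rw [Finset.card_insert_of_notMem, Finset.card_insert_of_notMem, Finset.card_singleton]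
      · simpa using h11
      · simp
    · intro x
      simp only [Finset.mem_insert, Finset.mem_singleton]
      constructor
      · rintro (h | h | h) <;> rw [h] <;> ring
      · intro h
        have h1 : x * ((x - 1) * (x + 1)) = 0 := by linear_combination h
        rcases mul_eq_zero.mp h1 with h3 | h3
        · exact Or.inl h3
        · rcases mul_eq_zero.mp h3 with h3 | h3
          · exact Or.inr (Or.inl (sub_eq_zero.mp h3))
          · exact Or.inr (Or.inr (eq_neg_of_add_eq_zero_left h3))
  · rw [Nat.subtype_card ({1, -1} : Finset F)]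
    · rw [Finset.card_insert_of_notMem, Finset.card_singleton]
      simpa using h11
    · intro x
      simp only [Finset.mem_insert, Finset.mem_singleton]
      constructor
      · rintro (h | h) <;> rw [h] <;> ring
      · intro h
        have h1 : (x - 1) * (x + 1) = 0 := by linear_combination h
        rcases mul_eq_zero.mp h1 with h3 | h3
        · exact Or.inl (sub_eq_zero.mp h3)
        · exact Or.inr (eq_neg_of_add_eq_zero_left h3)

theorem card_c2 [Fintype F] (h2 : (2 : F) ≠ 0) {b : F} (hb : b ≠ 0) :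
    Nat.card {s : S F // s.1 1 0 ≠ 0 ∧ ((b * s.1 1 0) ^ 2 = 1 ∧ (s.1 0 0 + s.1 1 1) ^ 3 = s.1 0 0 + s.1 1 1)} = 6 * Fintype.card F := by
  classical
  have h1 : 6 * Fintype.card F = Nat.card ({γ : F // γ ^ 2 = 1} × {τ : F // τ ^ 3 = τ} × F) := by
    rw [Nat.card_prod, Nat.card_prod, (card_roots h2).1, (card_roots h2).2, Nat.card_eq_fintype_card]; ring
  rw [h1]
  apply Nat.card_congr
  have hγ : ∀ γ : {γ : F // γ ^ 2 = 1}, (γ : F) ≠ 0 := by
    rintro ⟨γ, hγ⟩ h0
    change γ = 0 at h0
    rw [h0] at hγ; norm_num at hγ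
  refine Equiv.mk (fun s => (⟨b * s.1.1 1 0, s.2.2.1⟩, ⟨s.1.1 0 0 + s.1.1 1 1, s.2.2.2⟩, s.1.1 0 0))
    (fun x => ⟨⟨!![x.2.2, (x.2.2 * ((x.2.1 : F) - x.2.2) - 1) / ((x.1 : F) / b); (x.1 : F) / b, (x.2.1 : F) - x.2.2], by
      rw [Matrix.det_fin_two_of]
      have := hγ x.1
      field_simp; ring⟩, div_ne_zero (hγ x.1) hb, by
        change (b * ((x.1 : F) / b)) ^ 2 = 1
        rw [mul_div_cancel₀ _ hb]; exact x.1.2, by
        change (x.2.2 + ((x.2.1 : F) - x.2.2)) ^ 3 = x.2.2 + ((x.2.1 : F) - x.2.2)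
        rw [add_sub_cancel]; exact x.2.1.2⟩) ?_ ?_
  · rintro ⟨s, hs0, hs1, hs2⟩
    apply Subtype.ext
    have hd := det_eq s
    have e1 : b * s.1 1 0 / b = s.1 1 0 := mul_div_cancel_left₀ _ hb
    apply ext2
    · rfl
    · change (s.1 0 0 * ((s.1 0 0 + s.1 1 1) - s.1 0 0) - 1) / (b * s.1 1 0 / b) = s.1 0 1
      rw [e1, div_eq_iff hs0]
      linear_combination hd
    · exact e1
    · change (s.1 0 0 + s.1 1 1) - s.1 0 0 = s.1 1 1
      ring
  · rintro ⟨⟨γ, hγ'⟩, ⟨τ, hτ⟩, a⟩
    refine Prod.ext (Subtype.ext ?_) (Prod.ext (Subtype.ext ?_) rfl)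
    · change b * (γ / b) = γ
      exact mul_div_cancel₀ _ hb
    · change a + (τ - a) = τ
      ring

/-- the cases of a proper subgroup containing an element of order `3` -/
theorem case_unip [Fintype F] {p : ℕ} (hp : p.Prime) (hodd : Odd p) (hF : Fintype.card F = 3 ^ p) (h2 : (2 : F) ≠ 0) (h3 : (3 : F) = 0)
    (h4 : 4 ≤ Fintype.card F) (hq3 : Fintype.card F % 3 = 0) {b : F} (hb : b ≠ 0) :
    2 * Sol (π (u b)) = Fintype.card F * (Fintype.card F + 5) := by
  have hx1 : π (u b) ≠ 1 := by
    intro h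
    rw [π_eq_one] at h
    rcases h with h | h
    · rw [← u_zero] at h; exact hb (u_inj h)
    · have := congrArg (fun t : S F => t.1 0 0) h
      simp only [u00, neg00, one00] at this
      apply h2; linear_combination this
  have hxc : π (u b) ^ 3 = 1 := by
    apply cube_tr1
    simp only [u00, u11]
    linear_combination h3
  rw [Sol_eq3 h2 (π (u b)) (fun s => s.1 1 0 = 0 ∨ (s.1 1 0 ≠ 0 ∧ ((b * s.1 1 0) ^ 2 = 1 ∧ (s.1 0 0 + s.1 1 1) ^ 3 = s.1 0 0 + s.1 1 1)))]
  · rw [card_or, card_tri, card_c2 h2 hb]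
    · obtain ⟨k, hk⟩ : ∃ k, Fintype.card F = k + 1 := ⟨Fintype.card F - 1, by omega⟩
      rw [hk, Nat.add_sub_cancel]; ring
    · rintro s h1 ⟨h3, -⟩
      exact h3 h1
  · intro s
    constructor
    · intro hs
      by_cases hs0 : s.1 1 0 = 0
      · exact Or.inl hs0
      right
      refine ⟨hs0, ?_⟩
      have hxM : π (u b) ∈ Subgroup.closure ({π (u b), π s} : Set (PS F)) := Subgroup.subset_closure (by simp)
      have hyM : π s ∈ Subgroup.closure ({π (u b), π s} : Set (PS F)) := Subgroup.subset_closure (by simp)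
      rcases main_list3 hp hodd hF (ne_top_of_solv h4 hs) with ⟨g, hg⟩ | ⟨x0, hx0M, ho, hcd, hall⟩ | hT
      · exfalso
        obtain ⟨t, rfl⟩ := π_surj g
        have h1 : π (t * u b * t⁻¹) ∈ Bb F := by
          have := hg (Subgroup.smul_mem_pointwise_smul _ (MulAut.conj (π t)) _ hxM)
          rw [map_mul, map_mul, map_inv]; exact this
        have h3 : π (t * s * t⁻¹) ∈ Bb F := by
          have := hg (Subgroup.smul_mem_pointwise_smul _ (MulAut.conj (π t)) _ hyM)
          rw [map_mul, map_mul, map_inv]; exact this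
        rw [mem_Bb] at h1
        have h5 : b * (t.1 1 0) ^ 2 = 0 := by
          simp only [mul00, mul10, mul01, mul11, inv00, inv01, inv10, inv11, u00, u01, u10, u11] at h1
          linear_combination -h1
        have ht : t.1 1 0 = 0 := by
          rcases mul_eq_zero.mp h5 with h | h
          · exact absurd h hb
          · exact pow_eq_zero_iff (two_ne_zero) |>.mp h
        have h6 : π t ∈ Bb F := mem_Bb.mpr ht
        have h7 : π s = (π t)⁻¹ * π (t * s * t⁻¹) * π t := by
          rw [map_mul, map_mul, map_inv]; group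
        have h8 : π s ∈ Bb F := by rw [h7]; exact mul_mem (mul_mem (inv_mem h6) h3) h6
        exact hs0 (mem_Bb.mp h8)
      · exfalso
        have h5 : orderOf (π (u b)) = 3 := by
          have : Fact (Nat.Prime 3) := ⟨Nat.prime_three⟩
          exact orderOf_eq_prime hxc hx1
        have h6 : 3 ∣ Nat.card (Subgroup.closure ({π (u b), π s} : Set (PS F))) := by
          rw [← h5, ← Subgroup.orderOf_mk _ hxM]
          exact orderOf_dvd_natCard _
        have h7 := h6.trans hcd
        have h8 : 3 ∣ orderOf x0 := (Nat.Coprime.dvd_of_dvd_mul_left (by norm_num) h7)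
        rcases ho with ho | ho
        · have h9 := (h8.trans ho).trans (Nat.div_dvd_of_dvd (show 2 ∣ Fintype.card F + 1 by
            obtain ⟨k, hk⟩ := hodd
            have := three_pow_mod ⟨k, hk⟩
            rw [← hF] at this
            omega))
          omega
        · have h9 := (h8.trans ho).trans (Nat.div_dvd_of_dvd (show 2 ∣ Fintype.card F - 1 by
            obtain ⟨k, hk⟩ := hodd
            have := three_pow_mod ⟨k, hk⟩
            rw [← hF] at this
            omega))
          omega
      · have ht := hT s hyM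
        have ht2 := hT (u b * s) (by rw [map_mul]; exact mul_mem hxM hyM)
        refine ⟨?_, ht⟩
        simp only [mul00, mul11, u00, u01, u10, u11] at ht2
        set τ := s.1 0 0 + s.1 1 1 with hτ
        set γ := b * s.1 1 0 with hγ
        have hγ0 : γ ≠ 0 := mul_ne_zero hb hs0
        have e1 : (γ + τ) ^ 3 = γ + τ := by rw [hγ, hτ]; linear_combination ht2
        have e2 : γ * (γ ^ 2 - 1) = 0 := by linear_combination e1 - ht - (γ ^ 2 * τ + γ * τ ^ 2) * h3
        rcases mul_eq_zero.mp e2 with h | h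
        · exact absurd h hγ0
        · linear_combination h
    · rintro (h | ⟨hs0, h, ht⟩)
      · apply solv_borel (g := 1)
        · rw [one_mul, inv_one, mul_one]; exact mem_Bb.mpr rfl
        · rw [one_mul, inv_one, mul_one]; exact mem_Bb.mpr h
      · set x := π (u b) with hx
        set y := π s with hy
        have ex : ∀ k : ℕ, (x * y) = π (u b * s) := fun _ => by rw [map_mul]
        -- traces
        set τ := s.1 0 0 + s.1 1 1 with hτ
        set γ := b * s.1 1 0 with hγ
        have htxy : (u b * s).1 0 0 + (u b * s).1 1 1 = τ + γ := by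
          simp only [mul00, mul11, u00, u01, u10, u11]; rw [hτ, hγ]; ring
        have htxy' : (u b * s⁻¹).1 0 0 + (u b * s⁻¹).1 1 1 = τ - γ := by
          simp only [mul00, mul11, u00, u01, u10, u11, inv00, inv10, inv01, inv11]; rw [hτ, hγ]; ring
        have h1 : τ * ((τ + γ) * (τ - γ)) = 0 := by linear_combination ht - τ * h
        rcases mul_eq_zero.mp h1 with h5 | h5
        · -- y is an involution
          have hyy : y * y = 1 := sq_tr0 h5
          have hyx : (y * x) ^ 3 = 1 := by
            have h6 : (x * y) ^ 3 = 1 := by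
              rw [ex 0]; apply cube_tr1; rw [htxy, h5, zero_add]; exact h
            have h7 : (y * x) ^ 3 = y * (x * y) ^ 3 * y⁻¹ := by
              rw [pow_succ, sq, pow_succ, sq]; group
            rw [h7, h6]; group
          apply solv_mono (solv_A4 hyy hxc hyx)
          rw [Subgroup.closure_le]
          rintro z (h | h)
          · rw [h]; exact Subgroup.subset_closure (by simp)
          · rw [h]; exact Subgroup.subset_closure (by simp)
        · have hτ2 : τ ^ 2 = 1 ∨ τ = 0 := by
            have h6 : τ * (τ ^ 2 - 1) = 0 := by linear_combination ht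
            rcases mul_eq_zero.mp h6 with h7 | h7
            · exact Or.inr h7
            · exact Or.inl (by linear_combination h7)
          have hτ3 : τ ^ 2 = 1 := by
            rcases hτ2 with h6 | h6
            · exact h6
            · exfalso
              rw [h6] at h5
              have h7 : γ ^ 2 = 0 := by linear_combination -h5
              rw [h7] at h; exact zero_ne_one h
          have hy3 : y ^ 3 = 1 := cube_tr1 hτ3
          rcases mul_eq_zero.mp h5 with h5 | h5
          · -- xy is an involution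
            have hxy : (x * y) * (x * y) = 1 := by rw [ex 0]; exact sq_tr0 (by rw [htxy]; exact h5)
            have h6 : (x * y * y⁻¹) ^ 3 = 1 := by rw [mul_inv_cancel_right]; exact hxc
            apply solv_mono (solv_A4 hxy (show (y⁻¹) ^ 3 = 1 by rw [inv_pow, hy3, inv_one]) h6)
            rw [Subgroup.closure_le]
            have m1 : x * y ∈ Subgroup.closure ({x * y, y⁻¹} : Set (PS F)) := Subgroup.subset_closure (by simp)
            have m2 : y⁻¹ ∈ Subgroup.closure ({x * y, y⁻¹} : Set (PS F)) := Subgroup.subset_closure (by simp)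
            rintro z (h | h)
            · rw [h]; have := mul_mem m1 m2; rwa [mul_inv_cancel_right] at this
            · rw [h]; have := inv_mem m2; rwa [inv_inv] at this
          · have hxy : (x * y⁻¹) * (x * y⁻¹) = 1 := by
              have : x * y⁻¹ = π (u b * s⁻¹) := by rw [map_mul, map_inv]
              rw [this]; exact sq_tr0 (by rw [htxy']; exact h5)
            have h6 : (x * y⁻¹ * y) ^ 3 = 1 := by rw [inv_mul_cancel_right]; exact hxc
            apply solv_mono (solv_A4 hxy hy3 h6)
            rw [Subgroup.closure_le]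
            have m1 : x * y⁻¹ ∈ Subgroup.closure ({x * y⁻¹, y} : Set (PS F)) := Subgroup.subset_closure (by simp)
            have m2 : y ∈ Subgroup.closure ({x * y⁻¹, y} : Set (PS F)) := Subgroup.subset_closure (by simp)
            rintro z (h | h)
            · rw [h]; have := mul_mem m1 m2; rwa [inv_mul_cancel_right] at this
            · rw [h]; exact m2


theorem card_not {α : Type*} [Finite α] (P : α → Prop) : Nat.card {a // ¬ P a} + Nat.card {a // P a} = Nat.card α := by
  rw [← card_or (fun a => ¬ P a) P (fun a h => h)]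
  apply Nat.card_congr
  exact (Equiv.subtypeUnivEquiv (fun a => (em (P a)).symm))

theorem card_B [Fintype F] (h2 : (2 : F) ≠ 0) (h4 : 4 ≤ Fintype.card F) :
    Nat.card {z : F × F // z.1 ^ 2 + z.2 ^ 2 - 1 ≠ 0 ∧ (z.1 = 0 ∨ z.2 = 0 ∨ (z.1 ^ 2 = 1 ∧ z.2 ^ 2 = 1))} = 2 * Fintype.card F - 1 := by
  classical
  obtain ⟨c3, c2⟩ := card_roots h2
  have e : Nat.card {z : F × F // z.1 ^ 2 + z.2 ^ 2 - 1 ≠ 0 ∧ (z.1 = 0 ∨ z.2 = 0 ∨ (z.1 ^ 2 = 1 ∧ z.2 ^ 2 = 1))} =
      Nat.card {z : F × F // (z.1 = 0 ∧ ¬ z.2 ^ 2 = 1) ∨ ((¬ z.1 ^ 3 = z.1 ∧ z.2 = 0) ∨ (z.1 ^ 2 = 1 ∧ z.2 ^ 2 = 1))} := by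
    apply Nat.card_congr
    apply Equiv.subtypeEquivRight
    rintro ⟨t, v⟩
    simp only
    constructor
    · rintro ⟨h1, h | h | h⟩
      · left
        refine ⟨h, fun h3 => h1 ?_⟩
        rw [h]; linear_combination h3
      · by_cases ht : t = 0
        · left; rw [ht, h]; simp
        · right; left
          refine ⟨fun h3 => h1 ?_, h⟩
          have h5 : t * (t ^ 2 - 1) = 0 := by linear_combination h3
          rw [h]
          linear_combination (mul_eq_zero.mp h5).resolve_left ht
      · exact Or.inr (Or.inr h)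
    · rintro (⟨h, h'⟩ | ⟨h, h'⟩ | ⟨h, h'⟩)
      · refine ⟨fun h3 => h' ?_, Or.inl h⟩
        rw [h] at h3; linear_combination h3
      · refine ⟨fun h3 => h ?_, Or.inr (Or.inl h')⟩
        rw [h'] at h3; linear_combination t * h3
      · refine ⟨?_, Or.inr (Or.inr ⟨h, h'⟩)⟩
        rw [h, h']
        norm_num
  rw [e, card_or, card_or]
  · have e1 : Nat.card {z : F × F // z.1 = 0 ∧ ¬ z.2 ^ 2 = 1} = Nat.card {v : F // ¬ v ^ 2 = 1} := by
      apply Nat.card_congr
      refine Equiv.mk (fun z => ⟨z.1.2, z.2.2⟩) (fun v => ⟨(0, v.1), rfl, v.2⟩) ?_ (fun v => rfl)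
      rintro ⟨⟨t, v⟩, h, h'⟩
      change t = 0 at h
      subst h; rfl
    have e2 : Nat.card {z : F × F // ¬ z.1 ^ 3 = z.1 ∧ z.2 = 0} = Nat.card {v : F // ¬ v ^ 3 = v} := by
      apply Nat.card_congr
      refine Equiv.mk (fun z => ⟨z.1.1, z.2.1⟩) (fun v => ⟨(v.1, 0), v.2, rfl⟩) ?_ (fun v => rfl)
      rintro ⟨⟨t, v⟩, h, h'⟩
      change v = 0 at h'
      subst h'; rfl
    have e3 : Nat.card {z : F × F // z.1 ^ 2 = 1 ∧ z.2 ^ 2 = 1} = 4 := by
      have : Nat.card ({v : F // v ^ 2 = 1} × {v : F // v ^ 2 = 1}) = 4 := by rw [Nat.card_prod, c2]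
      rw [← this]
      apply Nat.card_congr
      exact Equiv.mk (fun z => (⟨z.1.1, z.2.1⟩, ⟨z.1.2, z.2.2⟩)) (fun z => ⟨(z.1.1, z.2.1), z.1.2, z.2.2⟩) (fun z => rfl) (fun z => rfl)
    have n1 := card_not (fun v : F => v ^ 2 = 1)
    have n2 := card_not (fun v : F => v ^ 3 = v)
    rw [Nat.card_eq_fintype_card (α := F)] at n1 n2
    rw [e1, e2, e3]
    omega
  · rintro z ⟨h, h'⟩ ⟨-, h3⟩
    rw [h'] at h3; norm_num at h3
  · rintro z ⟨h, h'⟩ (⟨h3, -⟩ | ⟨h3, -⟩)
    · rw [h] at h3; norm_num at h3
    · rw [h] at h3; norm_num at h3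

theorem card_inv [Fintype F] (hodd : Odd (Fintype.card F)) (h2 : (2 : F) ≠ 0) (h3 : (3 : F) = 0) (h4 : 4 ≤ Fintype.card F) (hq : Fintype.card F % 4 = 3) :
    Nat.card {s : S F // s.1 0 0 + s.1 1 1 = 0 ∨ s.1 0 1 - s.1 1 0 = 0 ∨ (s.1 0 0 = s.1 1 1 ∧ s.1 0 1 = - s.1 1 0) ∨
      ((s.1 0 0 + s.1 1 1) ^ 2 = 1 ∧ (s.1 0 1 - s.1 1 0) ^ 2 = 1)} = 2 * (Fintype.card F * (Fintype.card F + 1)) := by
  classical
  have hns : ¬ IsSquare (-1 : F) := by rw [FiniteField.isSquare_neg_one_iff]; omega
  have key0 : ∀ a b : F, a ^ 2 + b ^ 2 = 0 → a = 0 ∧ b = 0 := by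
    intro a b h
    by_cases hb : b = 0
    · rw [hb] at h
      exact ⟨pow_eq_zero_iff (two_ne_zero) |>.mp (by linear_combination h), hb⟩
    · exfalso
      apply hns
      refine ⟨a / b, ?_⟩
      field_simp
      linear_combination -h
  have e : Nat.card {s : S F // s.1 0 0 + s.1 1 1 = 0 ∨ s.1 0 1 - s.1 1 0 = 0 ∨ (s.1 0 0 = s.1 1 1 ∧ s.1 0 1 = - s.1 1 0) ∨
      ((s.1 0 0 + s.1 1 1) ^ 2 = 1 ∧ (s.1 0 1 - s.1 1 0) ^ 2 = 1)} =
      Nat.card {z : (F × F) × (F × F) // (z.1.1 ^ 2 + z.1.2 ^ 2 = 1 ∧ z.2 = (0, 0)) ∨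
        ((z.1.1 ^ 2 + z.1.2 ^ 2 - 1 ≠ 0 ∧ (z.1.1 = 0 ∨ z.1.2 = 0 ∨ (z.1.1 ^ 2 = 1 ∧ z.1.2 ^ 2 = 1))) ∧
          z.2.1 ^ 2 + z.2.2 ^ 2 = z.1.1 ^ 2 + z.1.2 ^ 2 - 1)} := by
    apply Nat.card_congr
    refine Equiv.mk (fun s => ⟨((s.1.1 0 0 + s.1.1 1 1, s.1.1 0 1 - s.1.1 1 0), (s.1.1 0 0 - s.1.1 1 1, s.1.1 0 1 + s.1.1 1 0)), ?_⟩)
      (fun z => ⟨⟨!![-(z.1.1.1 + z.1.2.1), -(z.1.1.2 + z.1.2.2); z.1.1.2 - z.1.2.2, -(z.1.1.1 - z.1.2.1)], ?_⟩, ?_⟩) ?_ ?_
    · obtain ⟨s, hs⟩ := s
      have hd := det_eq s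
      have hq : (s.1 0 0 - s.1 1 1) ^ 2 + (s.1 0 1 + s.1 1 0) ^ 2 = (s.1 0 0 + s.1 1 1) ^ 2 + (s.1 0 1 - s.1 1 0) ^ 2 - 1 := by
        linear_combination -4 * hd - h3
      by_cases hc : (s.1 0 0 + s.1 1 1) ^ 2 + (s.1 0 1 - s.1 1 0) ^ 2 - 1 = 0
      · left
        rw [hc] at hq
        obtain ⟨h5, h6⟩ := key0 _ _ hq
        exact ⟨by linear_combination hc, Prod.ext h5 h6⟩
      · right
        refine ⟨⟨hc, ?_⟩, hq⟩
        rcases hs with h | h | h | h
        · exact Or.inl h
        · exact Or.inr (Or.inl h)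
        · exfalso
          apply hc
          rw [← hq, h.1, h.2]; ring
        · exact Or.inr (Or.inr h)
    · obtain ⟨⟨⟨t, v⟩, ⟨σ, ρ⟩⟩, hz⟩ := z
      rw [Matrix.det_fin_two_of]
      simp only at hz ⊢
      have hq : σ ^ 2 + ρ ^ 2 = t ^ 2 + v ^ 2 - 1 := by
        rcases hz with ⟨h, h'⟩ | ⟨-, h⟩
        · have h5 : σ = 0 := congrArg Prod.fst h'
          have h6 : ρ = 0 := congrArg Prod.snd h'
          rw [h5, h6]; linear_combination -h
        · exact h
      linear_combination -hq
    · obtain ⟨⟨⟨t, v⟩, ⟨σ, ρ⟩⟩, hz⟩ := z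
      simp only at hz ⊢
      have e00 : (!![-(t + σ), -(v + ρ); v - ρ, -(t - σ)] : Matrix (Fin 2) (Fin 2) F) 0 0 = -(t + σ) := rfl
      have e01 : (!![-(t + σ), -(v + ρ); v - ρ, -(t - σ)] : Matrix (Fin 2) (Fin 2) F) 0 1 = -(v + ρ) := rfl
      have e10 : (!![-(t + σ), -(v + ρ); v - ρ, -(t - σ)] : Matrix (Fin 2) (Fin 2) F) 1 0 = v - ρ := rfl
      have e11 : (!![-(t + σ), -(v + ρ); v - ρ, -(t - σ)] : Matrix (Fin 2) (Fin 2) F) 1 1 = -(t - σ) := rfl
      rw [e00, e01, e10, e11]
      rcases hz with ⟨h, h'⟩ | ⟨⟨-, h | h | ⟨h, h'⟩⟩, -⟩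
      · have h5 : σ = 0 := congrArg Prod.fst h'
        have h6 : ρ = 0 := congrArg Prod.snd h'
        right; right; left
        rw [h5, h6]; constructor <;> ring
      · left; rw [h]; ring
      · right; left; rw [h]; ring
      · right; right; right
        constructor
        · linear_combination h + t ^ 2 * h3
        · linear_combination h' + v ^ 2 * h3
    · rintro ⟨s, hs⟩
      apply Subtype.ext
      apply ext2
      · change -((s.1 0 0 + s.1 1 1) + (s.1 0 0 - s.1 1 1)) = s.1 0 0
        linear_combination -s.1 0 0 * h3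
      · change -((s.1 0 1 - s.1 1 0) + (s.1 0 1 + s.1 1 0)) = s.1 0 1
        linear_combination -s.1 0 1 * h3
      · change (s.1 0 1 - s.1 1 0) - (s.1 0 1 + s.1 1 0) = s.1 1 0
        linear_combination -s.1 1 0 * h3
      · change -((s.1 0 0 + s.1 1 1) - (s.1 0 0 - s.1 1 1)) = s.1 1 1
        linear_combination -s.1 1 1 * h3
    · rintro ⟨⟨⟨t, v⟩, ⟨σ, ρ⟩⟩, hz⟩
      apply Subtype.ext
      refine Prod.ext (Prod.ext ?_ ?_) (Prod.ext ?_ ?_)
      · change -(t + σ) + -(t - σ) = t
        linear_combination -t * h3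
      · change -(v + ρ) - (v - ρ) = v
        linear_combination -v * h3
      · change -(t + σ) - -(t - σ) = σ
        linear_combination -σ * h3
      · change -(v + ρ) + (v - ρ) = ρ
        linear_combination -ρ * h3
  rw [e, card_or]
  · have e1 : Nat.card {z : (F × F) × (F × F) // z.1.1 ^ 2 + z.1.2 ^ 2 = 1 ∧ z.2 = (0, 0)} = Fintype.card F + 1 := by
      rw [← (card_circle hodd (one_ne_zero (α := F))).2 hq]
      apply Nat.card_congr
      refine Equiv.mk (fun z => ⟨z.1.1, z.2.1⟩) (fun z => ⟨(z.1, (0, 0)), z.2, rfl⟩) ?_ (fun z => rfl)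
      rintro ⟨⟨a, b⟩, h, h'⟩
      change b = (0, 0) at h'
      subst h'; rfl
    have e2 : Nat.card {z : (F × F) × (F × F) // (z.1.1 ^ 2 + z.1.2 ^ 2 - 1 ≠ 0 ∧ (z.1.1 = 0 ∨ z.1.2 = 0 ∨ (z.1.1 ^ 2 = 1 ∧ z.1.2 ^ 2 = 1))) ∧
          z.2.1 ^ 2 + z.2.2 ^ 2 = z.1.1 ^ 2 + z.1.2 ^ 2 - 1} = (2 * Fintype.card F - 1) * (Fintype.card F + 1) := by
      rw [← card_B h2 h4]
      have : Nat.card (Σ z : {z : F × F // z.1 ^ 2 + z.2 ^ 2 - 1 ≠ 0 ∧ (z.1 = 0 ∨ z.2 = 0 ∨ (z.1 ^ 2 = 1 ∧ z.2 ^ 2 = 1))},
          {v : F × F // v.1 ^ 2 + v.2 ^ 2 = z.1.1 ^ 2 + z.1.2 ^ 2 - 1}) =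
          Nat.card {z : F × F // z.1 ^ 2 + z.2 ^ 2 - 1 ≠ 0 ∧ (z.1 = 0 ∨ z.2 = 0 ∨ (z.1 ^ 2 = 1 ∧ z.2 ^ 2 = 1))} * (Fintype.card F + 1) := by
        rw [Nat.card_sigma]
        rw [Finset.sum_congr rfl (fun z _ => (card_circle hodd z.2.1).2 hq)]
        rw [Finset.sum_const, Finset.card_univ, smul_eq_mul, Nat.card_eq_fintype_card]
      rw [← this]
      apply Nat.card_congr
      exact Equiv.mk (fun z => ⟨⟨z.1.1, z.2.1⟩, ⟨z.1.2, z.2.2⟩⟩) (fun z => ⟨(z.1.1, z.2.1), z.1.2, z.2.2⟩) (fun z => rfl) (fun z => rfl)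
    rw [e1, e2]
    obtain ⟨k, hk⟩ : ∃ k, Fintype.card F = k + 1 := ⟨Fintype.card F - 1, by omega⟩
    rw [hk, show 2 * (k + 1) - 1 = 2 * k + 1 by omega]; ring
  · rintro z ⟨h, -⟩ ⟨⟨h', -⟩, -⟩
    exact h' (by linear_combination h)


theorem case_invol3 [Fintype F] {p : ℕ} (hp : p.Prime) (hodd : Odd p) (hF : Fintype.card F = 3 ^ p) (hFo : Odd (Fintype.card F)) (h2 : (2 : F) ≠ 0)
    (h3 : (3 : F) = 0) (h4 : 4 ≤ Fintype.card F) (hq : Fintype.card F % 4 = 3) (hg2 : Nat.gcd 2 (Fintype.card F - 1) = 2) :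
    Sol (π (w (1 : Fˣ))) = Fintype.card F * (Fintype.card F + 1) := by
  have hw00 : (w (1 : Fˣ)).1 0 0 = 0 := rfl
  have hw11 : (w (1 : Fˣ)).1 1 1 = 0 := rfl
  have hw10 : (w (1 : Fˣ)).1 1 0 = 1 := by rw [w10, Units.val_one]
  have hw01 : (w (1 : Fˣ)).1 0 1 = -1 := by rw [w01, inv_one, Units.val_one]
  have hxx : π (w (1 : Fˣ)) * π (w (1 : Fˣ)) = 1 := sq_tr0 (by rw [hw00, hw11]; ring)
  have hx1 : π (w (1 : Fˣ)) ≠ 1 := by
    intro h
    rw [π_eq_one] at h
    rcases h with h | h
    · have := congrArg (fun t : S F => t.1 1 0) h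
      simp only [hw10, one10] at this
      exact one_ne_zero this
    · have := congrArg (fun t : S F => t.1 1 0) h
      simp only [hw10, neg10, one10] at this
      apply one_ne_zero (α := F); linear_combination this
  have hmain : 2 * Sol (π (w (1 : Fˣ))) = 2 * (Fintype.card F * (Fintype.card F + 1)) := by
    rw [← card_inv hFo h2 h3 h4 hq]
    apply Sol_eq3 h2
    intro s
    have htr : (w (1 : Fˣ) * s).1 0 0 + (w (1 : Fˣ) * s).1 1 1 = s.1 0 1 - s.1 1 0 := by
      simp only [mul00, mul11, hw00, hw01, hw10, hw11]; ring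
    constructor
    · intro hs
      have hxM : π (w (1 : Fˣ)) ∈ Subgroup.closure ({π (w (1 : Fˣ)), π s} : Set (PS F)) := Subgroup.subset_closure (by simp)
      have hyM : π s ∈ Subgroup.closure ({π (w (1 : Fˣ)), π s} : Set (PS F)) := Subgroup.subset_closure (by simp)
      rcases main_list3 hp hodd hF (ne_top_of_solv h4 hs) with ⟨g, hg⟩ | ⟨x0, hx0M, ho, hcd, hall⟩ | hT
      · exfalso
        have h5 : g * π (w (1 : Fˣ)) * g⁻¹ ∈ Bb F := hg (Subgroup.smul_mem_pointwise_smul _ (MulAut.conj g) _ hxM)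
        have h6 : orderOf (g * π (w (1 : Fˣ)) * g⁻¹) = 2 := by
          have h7 : orderOf (g * π (w (1 : Fˣ)) * g⁻¹) = orderOf (π (w (1 : Fˣ))) := (MulAut.conj g).orderOf_eq _
          rw [h7]
          have : Fact (Nat.Prime 2) := ⟨Nat.prime_two⟩
          exact orderOf_eq_prime (by rw [sq]; exact hxx) hx1
        have h7' : orderOf (g * π (w (1 : Fˣ)) * g⁻¹) ∣ Nat.card (Bb F) := by
          rw [← Subgroup.orderOf_mk _ h5]
          exact orderOf_dvd_natCard _
        have h7 : 2 ∣ Nat.card (Bb F) := (dvd_of_eq h6.symm).trans h7'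
        have h8 := card_Bb (F := F)
        rw [hg2] at h8
        obtain ⟨k, hk⟩ := h7
        rw [hk] at h8
        obtain ⟨j, hj⟩ : ∃ j, Fintype.card F = 4 * j + 3 := ⟨Fintype.card F / 4, by omega⟩
        rw [hj, show 4 * j + 3 - 1 = 4 * j + 2 by omega] at h8
        have h9 : (4 * j + 3) * (4 * j + 2) = 4 * (4 * j * j + 5 * j + 1) + 2 := by ring
        rw [h9] at h8
        omega
      · by_cases hx : π (w (1 : Fˣ)) ∈ Subgroup.zpowers x0
        · -- commute
          have hcomm : π (w (1 : Fˣ)) * π s = π s * π (w (1 : Fˣ)) := by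
            obtain ⟨j, hj⟩ := hx
            have hj' : x0 ^ j = π (w (1 : Fˣ)) := hj
            rcases hall _ hyM with h | ⟨-, h⟩
            · obtain ⟨i, hi⟩ := h
              have hi' : x0 ^ i = π s := hi
              rw [← hj', ← hi', ← zpow_add, ← zpow_add, add_comm]
            · have h5 : π s * π (w (1 : Fˣ)) * (π s)⁻¹ = (π (w (1 : Fˣ)))⁻¹ := by
                rw [← hj', ← conj_zpow, h, inv_zpow]
              rw [inv_eq_of_mul_eq_one_left hxx] at h5
              exact (mul_inv_eq_iff_eq_mul.mp h5).symm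
          rw [← map_mul, ← map_mul, π_eq] at hcomm
          rcases hcomm with h | h
          · right; right; left
            have a1 := congrArg (fun t : S F => t.1 0 0) h
            have a2 := congrArg (fun t : S F => t.1 0 1) h
            simp only [mul00, mul01, hw00, hw01, hw10, hw11] at a1 a2
            exact ⟨by linear_combination a2, by linear_combination -a1⟩
          · left
            have a2 := congrArg (fun t : S F => t.1 0 1) h
            simp only [neg01, mul01, hw00, hw01, hw10, hw11] at a2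
            linear_combination -a2
        · by_cases hy : π s ∈ Subgroup.zpowers x0
          · have h1 : π (w (1 : Fˣ)) * π s ∉ Subgroup.zpowers x0 := by
              intro h
              apply hx
              have := mul_mem h (inv_mem hy)
              rwa [mul_inv_cancel_right] at this
            rcases hall _ (mul_mem hxM hyM) with h | ⟨h, -⟩
            · exact absurd h h1
            · rw [← map_mul] at h
              rcases tr0_of_sq h2 h with h | ⟨h5, h6, -⟩
              · right; left; rw [← htr]; exact h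
              · left
                simp only [mul01, mul10, hw00, hw01, hw10, hw11] at h5 h6
                linear_combination h6 - h5
          · rcases hall _ hyM with h | ⟨h, -⟩
            · exact absurd h hy
            · rcases tr0_of_sq h2 h with h | ⟨h5, h6, h7⟩
              · exact Or.inl h
              · right; right; left
                exact ⟨h7, by rw [h5, h6, neg_zero]⟩
      · have t1 := hT s hyM
        have t2 := hT (w (1 : Fˣ) * s) (by rw [map_mul]; exact mul_mem hxM hyM)
        rw [htr] at t2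
        have m1 : (s.1 0 0 + s.1 1 1) * ((s.1 0 0 + s.1 1 1) ^ 2 - 1) = 0 := by linear_combination t1
        have m2 : (s.1 0 1 - s.1 1 0) * ((s.1 0 1 - s.1 1 0) ^ 2 - 1) = 0 := by linear_combination t2
        rcases mul_eq_zero.mp m1 with m1 | m1
        · exact Or.inl m1
        · rcases mul_eq_zero.mp m2 with m2 | m2
          · exact Or.inr (Or.inl m2)
          · exact Or.inr (Or.inr (Or.inr ⟨by linear_combination m1, by linear_combination m2⟩))
    · rintro (h | h | ⟨h, h'⟩ | ⟨h, h'⟩)
      · exact solv_inv2 hxx (sq_tr0 h)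
      · apply solv_inv2' hxx
        rw [← map_mul]
        exact sq_tr0 (by rw [htr]; exact h)
      · apply solv_norm
        left
        rw [mul_inv_eq_iff_eq_mul, ← map_mul, ← map_mul]
        congr 1
        apply ext2 <;> simp only [mul00, mul01, mul10, mul11, hw00, hw01, hw10, hw11]
        · linear_combination h'
        · linear_combination -h
        · linear_combination -h
        · linear_combination -h'
      · apply solv_A4 hxx (cube_tr1 h)
        rw [← map_mul]
        exact cube_tr1 (by rw [htr]; exact h')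
  omega

theorem case_split3 [Fintype F] {p : ℕ} (hp : p.Prime) (hodd : Odd p) (hF : Fintype.card F = 3 ^ p) (h2 : (2 : F) ≠ 0)
    (h4 : 4 ≤ Fintype.card F) {a : Fˣ} (ha : (a : F) ^ 2 ≠ 1) (ho1 : orderOf (π (d a)) % 2 = 1) (ho3 : ¬ 3 ∣ orderOf (π (d a))) :
    Sol (π (d a)) = Fintype.card F * (Fintype.card F - 1) := by
  have haa : (a : F) * ((a⁻¹ : Fˣ) : F) = 1 := by rw [← Units.val_mul, mul_inv_cancel, Units.val_one]
  have hx1 : π (d a) ≠ 1 := by
    intro h
    rw [π_eq_one] at h
    rcases h with h | h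
    · have := congrArg (fun t : S F => t.1 0 0) h
      simp only [d00, one00] at this
      apply ha; rw [this]; ring
    · have := congrArg (fun t : S F => t.1 0 0) h
      simp only [d00, neg00, one00] at this
      apply ha; rw [this]; ring
  have hne : (a : F) - ((a⁻¹ : Fˣ) : F) ≠ 0 := by
    intro h
    apply ha
    have : (a : F) = ((a⁻¹ : Fˣ) : F) := sub_eq_zero.mp h
    rw [sq]; nth_rewrite 2 [this]; exact haa
  have hpl : (a : F) + ((a⁻¹ : Fˣ) : F) ≠ 0 := by
    intro h
    apply hx1
    exact odd_zp ho1 (Subgroup.mem_zpowers _) (sq_tr0 (by rw [d00, d11]; exact h))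
  have hmain : 2 * Sol (π (d a)) = 2 * (Fintype.card F * (Fintype.card F - 1)) := by
    rw [Sol_eq3 h2 (π (d a)) (fun s => s.1 1 0 = 0 ∨ (s.1 1 0 ≠ 0 ∧ s.1 1 1 = (s.1 0 0)⁻¹))]
    · rw [card_or, card_tri, card_param (fun x _ => x⁻¹)]
      · ring
      · rintro s h1 ⟨h3, -⟩
        exact h3 h1
    · intro s
      constructor
      · intro hs
        by_cases hs0 : s.1 1 0 = 0
        · exact Or.inl hs0
        right
        refine ⟨hs0, ?_⟩
        suffices h : s.1 0 1 = 0 ∨ (s.1 0 0 = 0 ∧ s.1 1 1 = 0) by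
          rcases h with h | ⟨h, h'⟩
          · have hd := det_eq s
            rw [h, zero_mul, sub_zero] at hd
            exact eq_inv_of_mul_eq_one_right hd
          · rw [h, h', inv_zero]
        have hxM : π (d a) ∈ Subgroup.closure ({π (d a), π s} : Set (PS F)) := Subgroup.subset_closure (by simp)
        have hyM : π s ∈ Subgroup.closure ({π (d a), π s} : Set (PS F)) := Subgroup.subset_closure (by simp)
        rcases main_list3 hp hodd hF (ne_top_of_solv h4 hs) with ⟨g, hg⟩ | ⟨x0, hx0M, ho, -, hall⟩ | hT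
        · left
          obtain ⟨t, rfl⟩ := π_surj g
          have h1 : π (t * d a * t⁻¹) ∈ Bb F := by
            have := hg (Subgroup.smul_mem_pointwise_smul _ (MulAut.conj (π t)) _ hxM)
            rw [map_mul, map_mul, map_inv]; exact this
          have h3 : π (t * s * t⁻¹) ∈ Bb F := by
            have := hg (Subgroup.smul_mem_pointwise_smul _ (MulAut.conj (π t)) _ hyM)
            rw [map_mul, map_mul, map_inv]; exact this
          rw [mem_Bb] at h1
          have h5 : t.1 1 0 * t.1 1 1 * ((a : F) - ((a⁻¹ : Fˣ) : F)) = 0 := by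
            simp only [mul00, mul10, mul01, mul11, inv00, inv01, inv10, inv11, d00, d01, d10, d11] at h1
            linear_combination h1
          have ht : t.1 1 0 * t.1 1 1 = 0 := by
            rcases mul_eq_zero.mp h5 with h | h
            · exact h
            · exact absurd h hne
          rcases mul_eq_zero.mp ht with ht | ht
          · exfalso
            have h6 : π t ∈ Bb F := mem_Bb.mpr ht
            have h7 : π s = (π t)⁻¹ * π (t * s * t⁻¹) * π t := by
              rw [map_mul, map_mul, map_inv]; group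
            have h8 : π s ∈ Bb F := by rw [h7]; exact mul_mem (mul_mem (inv_mem h6) h3) h6
            exact hs0 (mem_Bb.mp h8)
          · rw [mem_Bb] at h3
            have ht0 : t.1 1 0 ≠ 0 := by
              intro h
              have := det_eq t
              rw [ht, h, mul_zero, mul_zero, sub_zero] at this
              exact zero_ne_one this
            have h9 : (t.1 1 0) ^ 2 * s.1 0 1 = 0 := by
              simp only [mul00, mul10, mul01, mul11, inv00, inv01, inv10, inv11, ht] at h3
              linear_combination -h3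
            rcases mul_eq_zero.mp h9 with h | h
            · exact absurd (pow_eq_zero_iff (two_ne_zero) |>.mp h) ht0
            · exact h
        · have hx : π (d a) ∈ Subgroup.zpowers x0 := by
            rcases hall _ hxM with h | ⟨h, -⟩
            · exact h
            · exfalso
              exact hx1 (odd_zp ho1 (Subgroup.mem_zpowers _) h)
          have hy : π s * π (d a) * (π s)⁻¹ = π (d a) ∨ π s * π (d a) * (π s)⁻¹ = (π (d a))⁻¹ := by
            obtain ⟨j, hj⟩ := hx
            have hj' : x0 ^ j = π (d a) := hj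
            rcases hall _ hyM with h | ⟨-, h⟩
            · left
              obtain ⟨i, hi⟩ := h
              have hi' : x0 ^ i = π s := hi
              rw [← hj', ← hi', ← zpow_add, ← zpow_neg, ← zpow_add]; congr 1; ring
            · right
              rw [← hj', ← conj_zpow, h, inv_zpow]
          have htc := trace_conj s (d a)
          rcases hy with h | h
          · left
            rw [← map_inv, ← map_mul, ← map_mul, π_eq] at h
            rcases h with h1 | h1
            · rw [mul_inv_eq_iff_eq_mul] at h1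
              have h3 := congrArg (fun t : S F => t.1 0 1) h1
              simp only [mul00, mul10, mul01, mul11, d00, d01, d10, d11] at h3
              have h5 : s.1 0 1 * ((a : F) - ((a⁻¹ : Fˣ) : F)) = 0 := by linear_combination -h3
              rcases mul_eq_zero.mp h5 with h | h
              · exact h
              · exact absurd h hne
            · exfalso
              rw [h1] at htc
              simp only [neg00, neg11, d00, d11] at htc
              have h5 : (2 : F) * ((a : F) + ((a⁻¹ : Fˣ) : F)) = 0 := by linear_combination -htc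
              rcases mul_eq_zero.mp h5 with h | h
              · exact h2 h
              · exact hpl h
          · right
            rw [← map_inv, ← map_inv, ← map_mul, ← map_mul, π_eq] at h
            rcases h with h1 | h1
            · rw [mul_inv_eq_iff_eq_mul, d_inv] at h1
              have h3 := congrArg (fun t : S F => t.1 0 0) h1
              have h5 := congrArg (fun t : S F => t.1 1 1) h1
              simp only [mul00, mul10, mul01, mul11, d00, d01, d10, d11, inv_inv] at h3 h5
              constructor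
              · have h6 : s.1 0 0 * ((a : F) - ((a⁻¹ : Fˣ) : F)) = 0 := by linear_combination h3
                rcases mul_eq_zero.mp h6 with h | h
                · exact h
                · exact absurd h hne
              · have h6 : s.1 1 1 * ((a : F) - ((a⁻¹ : Fˣ) : F)) = 0 := by linear_combination -h5
                rcases mul_eq_zero.mp h6 with h | h
                · exact h
                · exact absurd h hne
            · exfalso
              rw [h1] at htc
              simp only [neg00, neg11, inv00, inv11, d00, d11] at htc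
              have h5 : (2 : F) * ((a : F) + ((a⁻¹ : Fˣ) : F)) = 0 := by linear_combination -htc
              rcases mul_eq_zero.mp h5 with h | h
              · exact h2 h
              · exact hpl h
        · exfalso
          have t1 := hT (d a) hxM
          rw [d00, d11] at t1
          have m1 : ((a : F) + ((a⁻¹ : Fˣ) : F)) * (((a : F) + ((a⁻¹ : Fˣ) : F)) ^ 2 - 1) = 0 := by linear_combination t1
          rcases mul_eq_zero.mp m1 with m1 | m1
          · exact hpl m1
          · have h5 : π (d a) ^ 3 = 1 := cube_tr1 (by rw [d00, d11]; linear_combination m1)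
            have : Fact (Nat.Prime 3) := ⟨Nat.prime_three⟩
            exact ho3 (dvd_of_eq (orderOf_eq_prime h5 hx1).symm)
      · rintro (h | ⟨hs0, h⟩)
        · apply solv_borel (g := 1)
          · rw [one_mul, inv_one, mul_one]; exact mem_Bb.mpr rfl
          · rw [one_mul, inv_one, mul_one]; exact mem_Bb.mpr h
        · by_cases h0 : s.1 0 0 = 0
          · rw [h0, inv_zero] at h
            apply solv_norm
            right
            rw [← map_inv, ← map_inv, ← map_mul, ← map_mul]
            congr 1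
            rw [mul_inv_eq_iff_eq_mul, d_inv]
            apply ext2 <;> simp only [mul00, mul01, mul10, mul11, d00, d01, d10, d11, h0, h, inv_inv] <;> ring
          · have h01 : s.1 0 1 = 0 := by
              have hd := det_eq s
              rw [h, mul_inv_cancel₀ h0] at hd
              have : s.1 0 1 * s.1 1 0 = 0 := by linear_combination -hd
              rcases mul_eq_zero.mp this with h | h
              · exact h
              · exact absurd h hs0
            apply solv_borel (g := π (w (1 : Fˣ)))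
            · rw [← map_inv, ← map_mul, ← map_mul, mem_Bb]
              simp only [mul00, mul10, mul01, mul11, inv00, inv01, inv10, inv11, d00, d01, d10, d11, w00, w01, w10, w11]
              ring
            · rw [← map_inv, ← map_mul, ← map_mul, mem_Bb]
              simp only [mul00, mul10, mul01, mul11, inv00, inv01, inv10, inv11, h01, w00, w01, w10, w11]
              ring
  omega


theorem Bb_odd [Fintype F] (hq : Fintype.card F % 4 = 3) (hg2 : Nat.gcd 2 (Fintype.card F - 1) = 2) : ¬ 2 ∣ Nat.card (Bb F) := by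
  intro h7
  have h8 := card_Bb (F := F)
  rw [hg2] at h8
  obtain ⟨k, hk⟩ := h7
  rw [hk] at h8
  obtain ⟨j, hj⟩ : ∃ j, Fintype.card F = 4 * j + 3 := ⟨Fintype.card F / 4, by omega⟩
  rw [hj, show 4 * j + 3 - 1 = 4 * j + 2 by omega] at h8
  have h9 : (4 * j + 3) * (4 * j + 2) = 4 * (4 * j * j + 5 * j + 1) + 2 := by ring
  rw [h9] at h8
  omega

theorem case_nonsplit3 [Fintype F] {p : ℕ} (hp : p.Prime) (hodd : Odd p) (hF : Fintype.card F = 3 ^ p) (h2 : (2 : F) ≠ 0)
    (h4 : 4 ≤ Fintype.card F) (hq8 : Fintype.card F % 8 = 3) (hq3 : Fintype.card F % 3 = 0) (hg2 : Nat.gcd 2 (Fintype.card F - 1) = 2)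
    (x : PS F) (hx1 : x ≠ 1) (hx2 : orderOf x ≠ 2) (ho : orderOf x ∣ Fintype.card F + 1) : Sol x = Fintype.card F + 1 := by
  classical
  have hsim : IsSimpleGroup (PS F) := Matrix.ProjectiveSpecialLinearGroup.rank_two_simple (by rw [Nat.card_eq_fintype_card]; exact h4)
  have hch : CharP F 3 := by
    obtain ⟨r, hr⟩ := CharP.exists F
    have : Fact r.Prime := ⟨CharP.char_is_prime F r⟩
    obtain ⟨n, hn, hc⟩ := FiniteField.card F r
    have h1 : r ∣ 3 ^ p := by rw [← hF, hc]; exact dvd_pow_self r n.pos.ne'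
    have h2 := (Nat.prime_dvd_prime_iff_eq Fact.out Nat.prime_three).mp (Nat.Prime.dvd_of_dvd_pow Fact.out h1)
    rw [← h2]; exact hr
  have hf3 : Fact (Nat.Prime 3) := ⟨Nat.prime_three⟩
  have hcG := card_PS_mul (F := F)
  rw [hg2] at hcG
  have hk1 : orderOf x ≠ 1 := fun h => hx1 (orderOf_eq_one_iff.mp h)
  have hk0 : orderOf x ≠ 0 := (orderOf_pos x).ne'
  have ho2 : orderOf x ∣ (Fintype.card F + 1) / 2 := by
    have h5 : ¬ 3 ∣ orderOf x := by intro h; have := h.trans ho; omega
    have h6 := order_PS 3 x h5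
    rw [hg2] at h6
    rcases h6 with h | h
    · exact h
    · exfalso
      have h7 : orderOf x ∣ 2 := by
        have h8 : orderOf x ∣ Fintype.card F - 1 := h.trans (Nat.div_dvd_of_dvd (by omega))
        have h9 : Fintype.card F + 1 = (Fintype.card F - 1) + 2 := by omega
        exact (Nat.dvd_add_right h8).mp (h9 ▸ ho)
      rcases (Nat.dvd_prime Nat.prime_two).mp h7 with h | h
      · exact hk1 h
      · exact hx2 h
  obtain ⟨ℓ, hℓ, hlk, hℓ2⟩ : ∃ ℓ : ℕ, ℓ.Prime ∧ ℓ ∣ orderOf x ∧ ℓ ≠ 2 := by
    by_contra hcon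
    push Not at hcon
    have h5 := Nat.eq_prime_pow_of_unique_prime_dvd hk0 (fun {d} hd hdx => hcon d hd hdx)
    set j := (orderOf x).primeFactorsList.length with hj
    have hj1 : j ≠ 0 := by intro h; rw [h, pow_zero] at h5; exact hk1 h5
    have hj2 : j ≠ 1 := by intro h; rw [h, pow_one] at h5; exact hx2 h5
    have h6 : 4 ∣ orderOf x := by
      rw [h5]
      exact (by norm_num : (4 : ℕ) = 2 ^ 2) ▸ pow_dvd_pow 2 (by omega)
    have := h6.trans ho2
    omega
  have : Fact ℓ.Prime := ⟨hℓ⟩
  have hlq := hlk.trans ho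
  have hnot1 : ¬ ℓ ∣ Fintype.card F := by
    intro h
    have := (Nat.dvd_add_right h).mp hlq
    exact hℓ.one_lt.ne' (Nat.dvd_one.mp this)
  have hnot2 : ¬ ℓ ∣ Fintype.card F - 1 := by
    intro h
    have h5 : Fintype.card F + 1 = (Fintype.card F - 1) + 2 := by omega
    have := (Nat.dvd_add_right h).mp (h5 ▸ hlq)
    exact hℓ2 ((Nat.prime_dvd_prime_iff_eq hℓ Nat.prime_two).mp this)
  have hcop : ∀ z : PS F, z ∈ Subgroup.zpowers x → (∃ g : PS F, g * z * g⁻¹ ∈ Bb F) → z = 1 := by
    rintro z hz ⟨g, hg⟩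
    have h5 : orderOf z ∣ Fintype.card F + 1 := (orderOf_dvd_of_mem_zpowers hz).trans ho
    have h6' : orderOf z ∣ Nat.card (Bb F) := by
      have h8 : orderOf (g * z * g⁻¹) = orderOf z := (MulAut.conj g).orderOf_eq z
      rw [← h8, ← Subgroup.orderOf_mk _ hg]
      exact orderOf_dvd_natCard _
    have h6 : orderOf z ∣ Fintype.card F * (Fintype.card F - 1) := by
      have h7 := card_Bb (F := F)
      rw [hg2] at h7
      rw [← h7]; exact h6'.mul_left 2
    by_contra hz1
    obtain ⟨r, hr, hrz⟩ := Nat.exists_prime_and_dvd (fun h => hz1 (orderOf_eq_one_iff.mp h) : orderOf z ≠ 1)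
    have h9 := hrz.trans h5
    rcases (hr.dvd_mul).mp (hrz.trans h6) with h | h
    · have := (Nat.dvd_add_right h).mp h9
      exact hr.one_lt.ne' (Nat.dvd_one.mp this)
    · have h5 : Fintype.card F + 1 = (Fintype.card F - 1) + 2 := by omega
      have := (Nat.dvd_add_right h).mp (h5 ▸ h9)
      have := (Nat.prime_dvd_prime_iff_eq hr Nat.prime_two).mp this
      rw [this] at hrz
      exact Bb_odd (by omega) hg2 (hrz.trans h6')
  set c := x ^ (orderOf x / ℓ) with hc
  have hco : orderOf c = ℓ := by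
    rw [hc, orderOf_pow_of_dvd (Nat.div_pos (Nat.le_of_dvd (by omega) hlk) hℓ.pos).ne' (Nat.div_dvd_of_dvd hlk), Nat.div_div_self hlk hk0]
  have hcx : c ∈ Subgroup.zpowers x := Subgroup.npow_mem_zpowers x _
  obtain ⟨D, ⟨e⟩⟩ := DihPS.exists_dihedral_add (F := F)
  rw [hg2] at e
  obtain ⟨r, hrD, hr, hnr, -⟩ := dih_rot e
  obtain ⟨g, hg⟩ := sylow_cyc (m := Fintype.card F * (Fintype.card F - 1)) hr (by
    have h5 : 2 * ((Fintype.card F + 1) / 2) = Fintype.card F + 1 := by omega
    have h6 : 2 * Nat.card (PS F) = 2 * ((Fintype.card F + 1) / 2 * (Fintype.card F * (Fintype.card F - 1))) := by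
      rw [hcG, ← mul_assoc, h5]; ring
    omega) (by
    intro h
    rcases hℓ.dvd_mul.mp h with h | h
    · exact hnot1 h
    · exact hnot2 h) hco
  set N := Subgroup.normalizer (Subgroup.zpowers c : Set (PS F)) with hN
  have hNtop : N ≠ ⊤ := by
    intro h
    have h4' : (Subgroup.zpowers c).Normal := Subgroup.normalizer_eq_top_iff.mp h
    rcases h4'.eq_bot_or_eq_top with h5 | h5
    · have := congrArg (fun H : Subgroup (PS F) => Nat.card H) h5
      simp only [Nat.card_zpowers, Subgroup.card_bot] at this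
      rw [hco] at this
      exact hℓ.one_lt.ne' this
    · have := congrArg (fun H : Subgroup (PS F) => Nat.card H) h5
      simp only [Nat.card_zpowers, Subgroup.card_top] at this
      have h6 := Nat.le_of_dvd (by omega) hlq
      rw [← this, hco] at hcG
      obtain ⟨j, hj⟩ : ∃ j, Fintype.card F = j + 4 := ⟨Fintype.card F - 4, by omega⟩
      rw [hj, show j + 4 - 1 = j + 3 by omega] at hcG
      rw [hj] at h6
      have h12 : 12 * (j + 4 + 1) ≤ (j + 4) * (j + 3) * (j + 4 + 1) := Nat.mul_le_mul_right _ (by nlinarith)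
      omega
  have hxN : x ∈ N := by
    apply le_norm (M := Subgroup.zpowers x)
    · intro y hy
      exact norm_of (Or.inl (by
        obtain ⟨j, hj⟩ := hy
        have hj' : x ^ j = y := hj
        rw [← hj', ((Commute.refl x).zpow_left j).eq, mul_inv_cancel_right])) hcx
    · exact Subgroup.mem_zpowers x
  have hcN' : c ∈ N := Subgroup.le_normalizer (Subgroup.mem_zpowers c)
  have hxx : x * x ≠ 1 := by
    intro h
    have h5 : orderOf x ∣ 2 := orderOf_dvd_of_pow_eq_one (by rw [sq]; exact h)
    rcases (Nat.dvd_prime Nat.prime_two).mp h5 with h | h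
    · exact hk1 h
    · exact hx2 h
  have hnoTT : ∀ M : Subgroup (PS F), c ∈ M → ¬ TT M := by
    intro M hcM hT
    obtain ⟨s, hs⟩ := π_surj c
    have t1 := hT s (by rw [hs]; exact hcM)
    have m1 : (s.1 0 0 + s.1 1 1) * ((s.1 0 0 + s.1 1 1) ^ 2 - 1) = 0 := by linear_combination t1
    rcases mul_eq_zero.mp m1 with m1 | m1
    · have h5 := sq_tr0 m1
      rw [hs] at h5
      have h6 : orderOf c ∣ 2 := orderOf_dvd_of_pow_eq_one (by rw [sq]; exact h5)
      rw [hco] at h6
      exact hℓ2 ((Nat.prime_dvd_prime_iff_eq hℓ Nat.prime_two).mp h6)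
    · have h5 : π s ^ 3 = 1 := cube_tr1 (by linear_combination m1)
      rw [hs] at h5
      have h6 := orderOf_dvd_of_pow_eq_one h5
      rw [hco] at h6
      have h7 := (Nat.prime_dvd_prime_iff_eq hℓ Nat.prime_three).mp h6
      rw [h7] at hlq
      omega
  rcases main_list3 hp hodd hF hNtop with ⟨g', hg'⟩ | ⟨x0, hx0N, ho0, hcN, hall⟩ | hT
  · exfalso
    apply hx1
    apply hcop x (Subgroup.mem_zpowers x)
    exact ⟨g', hg' (Subgroup.smul_mem_pointwise_smul _ (MulAut.conj g') _ hxN)⟩
  · have hDN : MulAut.conj g⁻¹ • D ≤ N := by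
      apply le_norm
      rintro y ⟨w, hw, rfl⟩
      change g⁻¹ * w * g⁻¹⁻¹ * c * (g⁻¹ * w * g⁻¹⁻¹)⁻¹ ∈ _
      obtain ⟨j, hj⟩ := norm_of (hnr w hw) hg
      have hj' : (g * c * g⁻¹) ^ j = w * (g * c * g⁻¹) * w⁻¹ := hj
      refine ⟨j, ?_⟩
      change c ^ j = _
      have h5 : c ^ j = g⁻¹ * (g * c * g⁻¹) ^ j * g := by rw [conj_zpow]; group
      rw [h5, hj']; group
    have hcD : Nat.card D = 2 * ((Fintype.card F + 1) / 2) := by rw [Nat.card_congr e.toEquiv, DihedralGroup.nat_card]
    have h5 : 2 * ((Fintype.card F + 1) / 2) ∣ Nat.card N := by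
      rw [← hcD, ← card_conj g⁻¹ D]
      exact Subgroup.card_dvd_of_le hDN
    have h6 : (Fintype.card F + 1) / 2 ∣ orderOf x0 := Nat.dvd_of_mul_dvd_mul_left (by norm_num) (h5.trans hcN)
    have h7 : orderOf x0 = (Fintype.card F + 1) / 2 := by
      rcases ho0 with h | h
      · exact Nat.dvd_antisymm h h6
      · have := Nat.le_of_dvd (by omega) (h6.trans h); omega
    have hcN2 : Nat.card N = Fintype.card F + 1 := by
      rw [h7] at hcN
      rw [Nat.dvd_antisymm hcN h5]; omega
    have hx0 : x ∈ Subgroup.zpowers x0 := by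
      rcases hall _ hxN with h | ⟨h, -⟩
      · exact h
      · exact absurd h hxx
    have hchar : ∀ y : PS F, Group.IsSolvable (Subgroup.closure ({x, y} : Set (PS F))) ↔ y ∈ N := by
      intro y
      constructor
      · intro hs
        have hxM : x ∈ Subgroup.closure ({x, y} : Set (PS F)) := Subgroup.subset_closure (by simp)
        have hyM : y ∈ Subgroup.closure ({x, y} : Set (PS F)) := Subgroup.subset_closure (by simp)
        have hyx : y * x * y⁻¹ = x ∨ y * x * y⁻¹ = x⁻¹ := by
          rcases main_list3 hp hodd hF (ne_top_of_solv h4 hs) with ⟨g', hg'⟩ | ⟨z0, hz0M, hoz, -, hallz⟩ | hT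
          · exfalso
            apply hx1
            apply hcop x (Subgroup.mem_zpowers x)
            exact ⟨g', hg' (Subgroup.smul_mem_pointwise_smul _ (MulAut.conj g') _ hxM)⟩
          · have hx : x ∈ Subgroup.zpowers z0 := by
              rcases hallz _ hxM with h | ⟨h, -⟩
              · exact h
              · exact absurd h hxx
            obtain ⟨j, hj⟩ := hx
            have hj' : z0 ^ j = x := hj
            rcases hallz _ hyM with h | ⟨-, h⟩
            · left
              obtain ⟨i, hi⟩ := h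
              have hi' : z0 ^ i = y := hi
              rw [← hj', ← hi', ← zpow_add, ← zpow_neg, ← zpow_add]; congr 1; ring
            · right
              rw [← hj', ← conj_zpow, h, inv_zpow]
          · exact absurd hT (hnoTT _ (by rw [hc]; exact pow_mem hxM _))
        have h8 := norm_of hyx hcx
        apply Subgroup.mem_normalizer_fintype
        rintro z ⟨i, rfl⟩
        change y * c ^ i * y⁻¹ ∈ Subgroup.zpowers c
        rw [← conj_zpow]
        exact Subgroup.zpow_mem _ h8 i
      · intro hy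
        apply solv_norm
        obtain ⟨j, hj⟩ := hx0
        have hj' : x0 ^ j = x := hj
        rcases hall _ hy with h | ⟨-, h⟩
        · left
          obtain ⟨i, hi⟩ := h
          have hi' : x0 ^ i = y := hi
          rw [← hj', ← hi', ← zpow_add, ← zpow_neg, ← zpow_add]; congr 1; ring
        · right
          rw [← hj', ← conj_zpow, h, inv_zpow]
    unfold Sol
    rw [← hcN2]
    exact Nat.card_congr (Equiv.subtypeEquivRight hchar)
  · exact absurd hT (hnoTT _ hcN')

/-- Let G = PSL_2(F) with F a field of order q = 3^p, p an odd prime, and for x ∈ G call the solubilizer of x the set of y ∈ G such that x and y generate a solvable subgroup. Then the solubilizer of an involution has q(q + 1) elements; that of an element of order 3 has q(q + 5)/2 elements; that of an element of order neither 1 nor 2 dividing q − 1 has q(q − 1) elements; and that of an element of order neither 1 nor 2 dividing q + 1 has q + 1 elements. -/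
theorem result (p : ℕ) (hp : p.Prime) (hodd : Odd p) {F : Type*} [Field F] [Fintype F]
    (hF : Fintype.card F = 3 ^ p) (x : Matrix.ProjectiveSpecialLinearGroup (Fin 2) F) :
    (orderOf x = 2 → Nat.card {y : Matrix.ProjectiveSpecialLinearGroup (Fin 2) F // Group.IsSolvable ↥(Subgroup.closure ({x, y} : Set (Matrix.ProjectiveSpecialLinearGroup (Fin 2) F)))} = 3 ^ p * (3 ^ p + 1)) ∧
    (orderOf x = 3 → 2 * Nat.card {y : Matrix.ProjectiveSpecialLinearGroup (Fin 2) F // Group.IsSolvable ↥(Subgroup.closure ({x, y} : Set (Matrix.ProjectiveSpecialLinearGroup (Fin 2) F)))} = 3 ^ p * (3 ^ p + 5)) ∧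
    (x ≠ 1 → orderOf x ≠ 2 → orderOf x ∣ 3 ^ p - 1 → Nat.card {y : Matrix.ProjectiveSpecialLinearGroup (Fin 2) F // Group.IsSolvable ↥(Subgroup.closure ({x, y} : Set (Matrix.ProjectiveSpecialLinearGroup (Fin 2) F)))} = 3 ^ p * (3 ^ p - 1)) ∧
    (x ≠ 1 → orderOf x ≠ 2 → orderOf x ∣ 3 ^ p + 1 → Nat.card {y : Matrix.ProjectiveSpecialLinearGroup (Fin 2) F // Group.IsSolvable ↥(Subgroup.closure ({x, y} : Set (Matrix.ProjectiveSpecialLinearGroup (Fin 2) F)))} = 3 ^ p + 1) := by
  classical
  obtain ⟨hq8, -⟩ := three_pow_mod hodd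
  rw [← hF] at hq8
  have hq3 : Fintype.card F % 3 = 0 := by
    rw [hF, Nat.pow_mod]
    have : p ≠ 0 := hp.ne_zero
    simp [this]
  have h27 : 27 ≤ Fintype.card F := by
    have : 3 ≤ p := by
      obtain ⟨k, hk⟩ := hodd
      have := hp.two_le
      omega
    rw [hF]
    calc 27 = 3 ^ 3 := by norm_num
      _ ≤ 3 ^ p := Nat.pow_le_pow_right (by norm_num) this
  have h4 : 4 ≤ Fintype.card F := by omega
  have hFo : Odd (Fintype.card F) := Nat.odd_iff.mpr (by omega)
  have hch : CharP F 3 := by
    obtain ⟨r, hr⟩ := CharP.exists F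
    have : Fact r.Prime := ⟨CharP.char_is_prime F r⟩
    obtain ⟨n, hn, hc⟩ := FiniteField.card F r
    have h1 : r ∣ 3 ^ p := by rw [← hF, hc]; exact dvd_pow_self r n.pos.ne'
    have h2 := (Nat.prime_dvd_prime_iff_eq Fact.out Nat.prime_three).mp (Nat.Prime.dvd_of_dvd_pow Fact.out h1)
    rw [← h2]; exact hr
  have hf3 : Fact (Nat.Prime 3) := ⟨Nat.prime_three⟩
  have h3 : (3 : F) = 0 := by
    have := CharP.cast_eq_zero F 3
    exact_mod_cast this
  have h2 : (2 : F) ≠ 0 := Dk.odd_two (by omega)
  have hg2 : Nat.gcd 2 (Fintype.card F - 1) = 2 := by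
    rcases DihPS.gcd_cases (F := F) with ⟨-, h2⟩ | ⟨h2, -⟩
    · omega
    · exact h2
  rw [← hF]
  obtain ⟨s, rfl⟩ := π_surj x
  change (_ → Sol (π s) = _) ∧ (_ → 2 * Sol (π s) = _) ∧ (_ → _ → _ → Sol (π s) = _) ∧ (_ → _ → _ → Sol (π s) = _)
  refine ⟨?_, ?_, ?_, ?_⟩
  · intro ho
    have hxx : π s * π s = 1 := by rw [← sq]; exact orderOf_dvd_iff_pow_eq_one.mp (dvd_of_eq ho)
    have hx1 : π s ≠ 1 := by intro h; rw [h, orderOf_one] at ho; norm_num at ho
    have hss : s * s = -1 := by
      rw [← map_mul, π_eq_one] at hxx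
      rcases hxx with h | h
      · exfalso
        apply hx1
        rw [π_eq_one]
        by_cases h1 : s = 1
        · exact Or.inl h1
        · exact Or.inr (SL2Quat.eq_neg_one h2 h h1)
      · exact h
    obtain ⟨g, hg⟩ := conj_w hFo s hss
    rw [hg, map_mul, map_mul, map_inv, Sol_conj]
    exact case_invol3 hp hodd hF hFo h2 h3 h4 (by omega) hg2
  · intro ho
    have hx3 : π s ^ 3 = 1 := orderOf_dvd_iff_pow_eq_one.mp (dvd_of_eq ho)
    have hx1 : π s ≠ 1 := by intro h; rw [h, orderOf_one] at ho; norm_num at ho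
    obtain ⟨s', hs', hs3⟩ : ∃ s' : Cfsg.Agent.H5.SL2.S F, π s' = π s ∧ s' ^ 3 ^ 1 = 1 := by
      rw [← map_pow, π_eq_one] at hx3
      rcases hx3 with h | h
      · exact ⟨s, rfl, by rw [pow_one]; exact h⟩
      · refine ⟨-s, π_eq.mpr (Or.inr rfl), ?_⟩
        rw [pow_one, pow_succ, sq, neg_mul_neg, mul_neg, ← sq, ← pow_succ, h, neg_neg]
    obtain ⟨k, b, hk⟩ := exists_conj_mem (p := 3) ⟨1, hs3⟩
    have hb : b ≠ 0 := by
      rintro rfl
      apply hx1
      rw [← hs', hk, u_zero, mul_one, mul_inv_cancel, map_one]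
    rw [← hs', hk, map_mul, map_mul, map_inv, Sol_conj]
    exact case_unip hp hodd hF h2 h3 h4 hq3 hb
  · intro hx1 hx2 ho
    have hk1 : orderOf (π s) ≠ 1 := fun h => hx1 (orderOf_eq_one_iff.mp h)
    have ho3 : ¬ 3 ∣ orderOf (π s) := by intro h; have := h.trans ho; omega
    have hroot : ∃ lam : F, lam ^ 2 - s.1.trace * lam + 1 = 0 := by
      by_contra hcon
      push Not at hcon
      have h5 := SL2Tor.nonsplit_case hcon
      have h6 : orderOf (π s) ∣ Fintype.card F + 1 := orderOf_dvd_of_pow_eq_one (by rw [← map_pow, h5, map_one])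
      have h9 : Fintype.card F + 1 = (Fintype.card F - 1) + 2 := by omega
      have h7 := (Nat.dvd_add_right ho).mp (h9 ▸ h6)
      rcases (Nat.dvd_prime Nat.prime_two).mp h7 with h | h
      · exact hk1 h
      · exact hx2 h
    obtain ⟨lam, hl⟩ := hroot
    have hne : lam ^ 2 ≠ 1 := by
      intro h
      rw [Matrix.trace_fin_two] at hl
      have h5 : (s.1 0 0 + s.1 1 1) ^ 2 = 1 := by
        have h6 : (s.1 0 0 + s.1 1 1) * lam = 2 := by linear_combination h - hl
        have h7 : ((s.1 0 0 + s.1 1 1) * lam) ^ 2 = 4 := by rw [h6]; norm_num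
        rw [mul_pow, h, mul_one] at h7
        rw [h7]; linear_combination h3
      apply ho3
      have h6 : orderOf (π s) ∣ 3 := orderOf_dvd_of_pow_eq_one (cube_tr1 h5)
      rcases (Nat.dvd_prime Nat.prime_three).mp h6 with h | h
      · exact absurd h hk1
      · rw [h]
    obtain ⟨t, a, ha, rfl⟩ := conj_diag hl hne
    have e1 : orderOf (π (t * d a * t⁻¹)) = orderOf (π (d a)) := by
      rw [map_mul, map_mul, map_inv]
      exact (MulAut.conj (π t)).orderOf_eq (π (d a))
    rw [e1] at ho3
    have hodd' : orderOf (π (d a)) % 2 = 1 := by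
      have h5 : π (d a) ^ ((Fintype.card F - 1) / 2) = 1 := by
        have hdp : ∀ n : ℕ, d a ^ n = d (a ^ n) := by
          intro n
          induction n with
          | zero => rw [pow_zero, pow_zero, d_one]
          | succ n ih => rw [pow_succ, ih, d_mul, ← pow_succ]
        rw [← map_pow, hdp, π_eq_one]
        have h6 : a ^ ((Fintype.card F - 1) / 2) * a ^ ((Fintype.card F - 1) / 2) = 1 := by
          rw [← pow_add, show (Fintype.card F - 1) / 2 + (Fintype.card F - 1) / 2 = Fintype.card F - 1 by omega, ← Fintype.card_units]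
          exact pow_card_eq_one
        set z := a ^ ((Fintype.card F - 1) / 2) with hz
        have h7 : ((z : F) - 1) * ((z : F) + 1) = 0 := by
          have := congrArg (fun u : Fˣ => (u : F)) h6
          simp only [Units.val_mul, Units.val_one] at this
          linear_combination this
        rcases mul_eq_zero.mp h7 with h | h
        · left
          have : z = 1 := Units.ext (sub_eq_zero.mp h)
          rw [this, d_one]
        · right
          have h8 : (z : F) = -1 := eq_neg_of_add_eq_zero_left h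
          have h9 : z = -1 := Units.ext (by rw [h8]; simp)
          rw [h9]
          apply ext2 <;> simp only [d00, d01, d10, d11, neg00, neg01, neg10, neg11, one00, one01, one10, one11] <;> simp
      have h6 := orderOf_dvd_of_pow_eq_one h5
      have h7 : ¬ 2 ∣ orderOf (π (d a)) := by intro h; have := h.trans h6; omega
      omega
    rw [map_mul, map_mul, map_inv, Sol_conj]
    exact case_split3 hp hodd hF h2 h4 ha hodd' ho3
  · intro hx1 hx2 ho
    exact case_nonsplit3 hp hodd hF h2 h4 hq8 hq3 hg2 (π s) hx1 hx2 ho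

end Cfsg.Agent.S2258
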