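import Cfsg.Statements.S2803
import Cfsg.Agent.H17_PRed

set_option autoImplicit false
open Cfsg

namespace Cfsg.Agent.S2803

open Cfsg.Agent.H17.Base Cfsg.Agent.H17.Amalgam
/-- Let L be a finite group and p a prime with C_L(O_p(L)) ≤ O_p(L), T a Sylow p-subgroup, and Y the largest p-reduced normal subgroup of L. Put T_L = C_T(Y) and L_T = N_L(T_L). Then L = L_T · C_L(Y) (elementwise), T_L = O_p(L_T), and Y = Ω₁(Z(T_L)). -/
theorem result {L : Type*} [Group L] [Finite L] {p : ℕ} [Fact p.Prime] (hchar : Subgroup.centralizer (Cfsg.pCore p L : Set L) ≤ Cfsg.pCore p L) (T : Sylow p L) (Y : Subgroup L) (hY : (Cfsg.IsPReducedNormal p Y ∧ ∀ V : Subgroup L, Cfsg.IsPReducedNormal p V → V ≤ Y)) (TL : Subgroup L) (hTL : TL = (T : Subgroup L) ⊓ Subgroup.centralizer (Y : Set L)) : (∀ g : L, ∃ a ∈ Subgroup.normalizer (TL : Set L), ∃ c ∈ Subgroup.centralizer (Y : Set L), g = a * c) ∧ (Cfsg.pCore p ↥(Subgroup.normalizer (TL : Set L))).map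 (Subgroup.normalizer (TL : Set L)).subtype = TL ∧ Y = Cfsg.omegaOne p (TL ⊓ Subgroup.centralizer (TL : Set L)) := by
  have hchar' := charP_top_iff.1 hchar
  obtain ⟨hY1, hY2⟩ := hY
  have hYr := isPReducedNormal_iff_top.1 hY1
  have hTs := isSylowIn_coe T
  have hCn : (⊤ : Subgroup L) ≤ Nz (Cz Y) := hYr.norm.trans (Nz_le_Nz_Cz Y)
  have hTL' : IsSylowIn p TL (Cz Y) := by rw [hTL]; exact hTs.inf_normal le_top hCn
  have hfac : Cz Y ⊔ (⊤ ⊓ Nz TL) = ⊤ := frattini_le hTL' le_top hCn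
  have hTN : (T : Subgroup L) ≤ Nz TL := by
    rw [hTL]
    exact (le_inf Subgroup.le_normalizer (le_top.trans hCn)).trans (Nz_inf_le _ _)
  have hTsN : IsSylowIn p (T : Subgroup L) (Nz TL) := hTs.mono hTN le_top
  have hYT : Y ≤ T := (hYr.le_pCoreOf).trans (pCoreOf_le_sylow hTs)
  have hYTL : Y ≤ TL := by rw [hTL]; exact le_inf hYT (comm_iff.1 hYr.ea.1)
  have hTLY : TL ≤ Cz Y := hTL'.le
  have hYn : Nz TL ≤ Nz Y := le_top.trans hYr.norm
  -- Y has NoP for Nz TL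
  have hNoP : NoP p Y (Nz TL) := by
    apply hYr.noP.congr hYr.norm hYn
    · rw [sup_comm]; rw [← hfac]; exact sup_le_sup_left inf_le_right _
    · exact le_top.trans le_sup_left
  refine ⟨?_, ?_, ?_⟩
  · intro g
    have h1 : g ∈ (⊤ ⊓ Nz TL) ⊔ Cz Y := by rw [sup_comm, hfac]; trivial
    rw [mem_sup_of_le_Nz (le_top.trans hCn)] at h1
    obtain ⟨a, ha, b, hb, h⟩ := h1
    exact ⟨a, ha.2, b, hb, h⟩
  · show Cfsg.pCoreOf p (Nz TL) = TL
    apply le_antisymm
    · rw [hTL]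
      refine le_inf (pCoreOf_le_sylow (hTL ▸ hTsN)) ?_
      have h1 := hNoP.sn_le hYn (SN.of_normal (pCoreOf_le _) (le_Nz_pCoreOf _)) (by
        rw [resOf_eq_bot_iff.2 (pCoreOf_isPGroup (p := p) (Nz TL))]; exact bot_le)
      rwa [hTL] at h1
    · exact le_pCoreOf Subgroup.le_normalizer le_rfl hTL'.isPGroup
  · show Y = OZ p TL
    apply le_antisymm
    · exact le_OZ hYr.ea hYTL (le_Cz_comm.1 hTLY)
    · have hX : IsPRed p (OZ p TL) (Nz TL) := by
        refine ⟨(OZ_le TL).trans Subgroup.le_normalizer, Nz_le_Nz_OZ TL, ea_OZ TL, ?_⟩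
        intro K hK hKn hres
        have h1 : Y ≤ OZ p TL := le_OZ hYr.ea hYTL (le_Cz_comm.1 hTLY)
        have h2 : K ≤ Cz Y := hNoP K hK hKn (hres.trans (Cz_anti h1))
        have h3 := hTsN.inf_normal hK hKn
        rw [← resOf_sup_sylow h3]
        apply sup_le hres
        have h4 : (T : Subgroup L) ⊓ K ≤ TL := by
          rw [hTL]; exact le_inf inf_le_left (inf_le_right.trans h2)
        exact h4.trans (le_Cz_comm.1 (OZ_le_Cz TL))
      have h1 := IsPRed.ncl hchar' hTs hTN le_top hX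
      exact (le_ncl _ _).trans (hY2 _ (isPReducedNormal_iff_top.2 h1))

end Cfsg.Agent.S2803
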