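import Cfsg.Statements.S2804
import Cfsg.Agent.H17_PRed2

set_option autoImplicit false
open Cfsg

namespace Cfsg.Agent.S2804

open Cfsg.Agent.H17.Base Cfsg.Agent.H17.Amalgam
/-- Let L be a finite group and p a prime with C_L(O_p(L)) ≤ O_p(L), V a p-reduced normal subgroup of L and K a subnormal subgroup of L. Then [V, O^p(K)] is contained in K and is a p-reduced normal subgroup of K, where O^p(K) is the subgroup of K generated by its elements of order prime to p. -/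
theorem result {L : Type*} [Group L] [Finite L] {p : ℕ} [Fact p.Prime] (hchar : Subgroup.centralizer (Cfsg.pCore p L : Set L) ≤ Cfsg.pCore p L) (V : Subgroup L) (hV : Cfsg.IsPReducedNormal p V) (K : Subgroup L) (hK : K.IsSubnormal) : ⁅V, (Cfsg.pResidual p ↥K).map K.subtype⁆ ≤ K ∧ Cfsg.IsPReducedNormal p ((⁅V, (Cfsg.pResidual p ↥K).map K.subtype⁆).subgroupOf K) := by
  have hV' := isPReducedNormal_iff_top.1 hV
  have hK' := sn_top_iff.2 hK
  set R := resOf p K with hR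
  show ⁅V, R⁆ ≤ K ∧ Cfsg.IsPReducedNormal p ((⁅V, R⁆ : Subgroup L).subgroupOf K)
  have hVp : V ≤ Nz R := hV'.le_pCoreOf.trans hK'.pCoreOf_le_Nz_resOf
  have hWR : ⁅V, R⁆ ≤ R := commutator_le_right_iff.2 hVp
  have hWV : ⁅V, R⁆ ≤ V := commutator_le_left_iff.2 (le_top.trans hV'.norm)
  have hWK : ⁅V, R⁆ ≤ K := hWR.trans (resOf_le K)
  refine ⟨hWK, ?_⟩
  rw [isPReducedNormal_subgroupOf_iff hWK]
  refine ⟨hWK, (le_inf (le_top.trans hV'.norm) (le_Nz_resOf K)).trans (Nz_commutator_le _ _), ea_mono hV'.ea hWV, ?_⟩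
  intro N hNK hKN hres
  have h1 : ⁅V, resOf p N⁆ ≤ ⁅V, R⁆ := Subgroup.commutator_mono le_rfl (resOf_mono hNK)
  have h2 : ⁅⁅V, resOf p N⁆, resOf p N⁆ = ⊥ := by
    rw [eq_bot_iff]
    refine (Subgroup.commutator_mono h1 le_rfl).trans ?_
    rw [le_bot_iff, commutator_eq_bot_iff_le_Cz']
    exact hres
  rw [comm_resOf_idem hV'.isPGroup (le_top.trans hV'.norm), commutator_eq_bot_iff_le_Cz'] at h2
  have h3 : N ≤ Cz V := hV'.noP.sn_le hV'.norm (hK'.trans (SN.of_normal hNK hKN)) h2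
  exact h3.trans (Cz_anti hWV)

end Cfsg.Agent.S2804
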