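import Cfsg.Statements.S2805
import Cfsg.Agent.H17_PRed2

set_option autoImplicit false
open Cfsg

namespace Cfsg.Agent.S2805

open Cfsg.Agent.H17.Base Cfsg.Agent.H17.Amalgam
open scoped commutatorElement

/-- Kieler, normal case -/
theorem kieler {H : Type*} [Group H] [Finite H] {p : ℕ} [Fact p.Prime] {M T L : Subgroup H} (hM : CharP p M)
    (hT : IsSylowIn p T M) (hLM : L ≤ M) (hLn : M ≤ Nz L) :
    L ⊓ Cz (OZ p T) = L ⊓ Cz (OZ p (T ⊓ L)) := by
  have hT0 : IsSylowIn p (T ⊓ L) L := hT.inf_normal hLM hLn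
  have hLc : CharP p L := (SN.of_normal hLM hLn).charP hM
  have hTL : T ≤ Nz L := hT.le.trans hLn
  have hTT0 : T ≤ Nz (T ⊓ L) := (le_inf Subgroup.le_normalizer hTL).trans (Nz_inf_le _ _)
  apply le_antisymm
  · -- D = C_L(Z)
    set D := L ⊓ Cz (OZ p T) with hD
    have hDL : D ≤ L := inf_le_left
    have hTD : T ≤ Nz D := (le_inf hTL ((Subgroup.le_normalizer.trans (Nz_le_Nz_OZ T)).trans (Nz_le_Nz_Cz _))).trans (Nz_inf_le _ _)
    have hT0D : T ⊓ L ≤ D := le_inf inf_le_right (inf_le_left.trans (le_Cz_comm.1 (OZ_le_Cz T)))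
    have hT0D' : IsSylowIn p (T ⊓ L) D := hT0.mono hT0D hDL
    have hDc : CharP p D := hLc.of_sylow_le hDL hT0 hT0D
    set A := OZ p (Cfsg.pCoreOf p D) with hA
    have hAea : IsElementaryAbelian p A := ea_OZ _
    have hDA : D ≤ Nz A := (le_Nz_pCoreOf D).trans (Nz_le_Nz_OZ _)
    have hTA : T ≤ Nz A := (hTD.trans (Nz_le_Nz_pCoreOf D)).trans (Nz_le_Nz_OZ _)
    have hOD : Cfsg.pCoreOf p D ≤ T ⊓ L := pCoreOf_le_sylow hT0D'
    have hAT0 : A ≤ T ⊓ L := (OZ_le _).trans hOD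
    have hZ0A : OZ p (T ⊓ L) ≤ A := by
      have h1 : OZ p (T ⊓ L) ≤ Cz (Cfsg.pCoreOf p D) := (OZ_le_Cz _).trans (Cz_anti hOD)
      exact le_OZ (ea_OZ _) (fun x hx => hDc ⟨hT0D (OZ_le _ hx), h1 hx⟩) h1
    have hm := relIndex_coprime hT0D'
    obtain ⟨N, n1, n2, n3, n4, n5⟩ := Cfsg.Agent.H17.Norm.exists_norm (V := A) (L := D) (T := T ⊓ L) hAea.1 hDA
    set m := (T ⊓ L).relIndex D with hmdef
    -- E = C_{Z₀}(D); suppose Z₀ not ≤ Cz D
    set Z0 := OZ p (T ⊓ L) with hZ0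
    have hTZ0 : T ≤ Nz Z0 := hTT0.trans (Nz_le_Nz_OZ _)
    have hmain : Z0 ≤ Cz D := by
      by_contra hne
      set E := Z0 ⊓ Cz D with hE
      have hTE : T ≤ Nz E := (le_inf hTZ0 (hTD.trans (Nz_le_Nz_Cz D))).trans (Nz_inf_le _ _)
      -- find x ∈ Z0 \ E with [x,T] ≤ E
      have hx : ∃ x ∈ Z0, x ∉ E ∧ ∀ t ∈ T, t * x * t⁻¹ * x⁻¹ ∈ E := by
        -- consider the p-group T acting: use normalizers: E < Z0, the group Z0 T is a p-group
        by_contra hno
        push Not at hno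
        -- minimal subgroup argument: let B be the subgroup of x ∈ Z0 with [x,T] ≤ E
        have hTp := hT.isPGroup
        have hET : IsPGroup p Z0 := ea_isPGroup (ea_OZ _)
        have hlt : ¬ Z0 ≤ E := fun h => hne (h.trans inf_le_right)
        -- iterated commutator
        have hnil : Group.IsNilpotent T := hTp.isNilpotent
        have hZ0T : Z0 ≤ T := (OZ_le _).trans inf_le_left
        -- lower central series argument
        have key : ∀ W : Subgroup H, W ≤ Z0 → T ≤ Nz W → ¬ W ≤ E → ¬ ⁅W, T⁆ ≤ E := by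
          intro W hW hTW hWE hc
          obtain ⟨w, hw, hwE⟩ := SetLike.not_le_iff_exists.1 hWE
          obtain ⟨t, ht, htE⟩ := hno w (hW hw) hwE
          apply htE
          apply hc
          rw [Subgroup.commutator_comm]
          exact Subgroup.commutator_mem_commutator ht hw
        have key2 : ∀ n : ℕ, ∃ W : Subgroup H, W ≤ Z0 ∧ T ≤ Nz W ∧ ¬ W ≤ E ∧ W ≤ ((⊤ : Subgroup T).lowerCentralSeries n).map T.subtype := by
          intro n
          induction n with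
          | zero => exact ⟨Z0, le_rfl, hTZ0, hlt, by rw [Subgroup.lowerCentralSeries_zero, ← MonoidHom.range_eq_map, T.range_subtype]; exact hZ0T⟩
          | succ n ih =>
            obtain ⟨W, h1, h2, h3, h4⟩ := ih
            refine ⟨⁅W, T⁆, (commutator_le_left_iff.2 h2).trans h1, Subgroup.normalizer_commutator_ge_right _ _, key W h1 h2 h3, ?_⟩
            rw [Subgroup.lowerCentralSeries_succ, Subgroup.map_commutator, ← MonoidHom.range_eq_map, T.range_subtype]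
            exact Subgroup.commutator_mono h4 le_rfl
        obtain ⟨n, hn⟩ := (Subgroup.nilpotent_iff_lowerCentralSeries (G := T)).mp hnil
        obtain ⟨W, h1, h2, h3, h4⟩ := key2 n
        rw [hn, Subgroup.map_bot, le_bot_iff] at h4
        rw [h4] at h3
        exact h3 bot_le
      obtain ⟨x, hxZ, hxE, hxT⟩ := hx
      apply hxE
      refine ⟨hxZ, ?_⟩
      have hZ0C : Z0 ≤ A ⊓ Cz (T ⊓ L) := le_inf hZ0A (OZ_le_Cz _)
      have hxA := hZ0C hxZ
      -- N x * (x^m)⁻¹ is centralized by T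
      have hcomm : N x * (x ^ m)⁻¹ ∈ Cz T := by
        rw [Subgroup.mem_centralizer_iff]
        intro t ht
        set e := t * x * t⁻¹ * x⁻¹ with he
        have heE : e ∈ E := hxT t ht
        have heA : e ∈ A ⊓ Cz (T ⊓ L) := hZ0C heE.1
        have e1 : t * x * t⁻¹ = e * x := by rw [he]; group
        have e2 : t * N x * t⁻¹ = e ^ m * N x := by
          rw [← n5 t (hTD ht) (hTT0 ht) (hTA ht) x hxA, e1, n2 e heA x hxA, n3 e heA heE.2]
        have hex : Commute e x := (Subgroup.mem_centralizer_iff.1 ((comm_iff.1 hAea.1) hxA.1)) e heA.1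
        have e3 : t * x ^ m * t⁻¹ = e ^ m * x ^ m := by
          rw [← conj_pow, e1, hex.mul_pow]
        calc t * (N x * (x ^ m)⁻¹) = (t * N x * t⁻¹) * (t * x ^ m * t⁻¹)⁻¹ * t := by group
          _ = (e ^ m * N x) * (e ^ m * x ^ m)⁻¹ * t := by rw [e2, e3]
          _ = (e ^ m * (N x * (x ^ m)⁻¹) * (e ^ m)⁻¹) * t := by group
          _ = (N x * (x ^ m)⁻¹) * t := by
            have h1 : N x * (x ^ m)⁻¹ ∈ A := mul_mem (n1 x hxA).1 (inv_mem (pow_mem hxA.1 m))
            have h2 := (Subgroup.mem_centralizer_iff.1 ((comm_iff.1 hAea.1) h1)) _ (pow_mem heA.1 m)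
            rw [h2]
            generalize N x * (x ^ m)⁻¹ = w
            group
      have h3 : N x * (x ^ m)⁻¹ ∈ OZ p T := by
        have h1 : N x * (x ^ m)⁻¹ ∈ A := mul_mem (n1 x hxA).1 (inv_mem (pow_mem hxA.1 m))
        exact mem_OZ (hAT0 h1).1 hcomm (hAea.2 _ h1)
      have h4 : N x * (x ^ m)⁻¹ ∈ Cz D := le_Cz_comm.1 (inf_le_right : D ≤ Cz (OZ p T)) h3
      have h5 : x ^ m ∈ Cz D := by
        have e : x ^ m = (N x * (x ^ m)⁻¹)⁻¹ * N x := by group
        rw [e]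
        exact mul_mem (inv_mem h4) (n1 x hxA).2
      exact mem_of_pow_mem (hAea.2 x hxA.1) hm h5
    exact le_inf hDL (le_Cz_comm.1 hmain)
  · -- D' = C_L(Z₀)
    set D := L ⊓ Cz (OZ p (T ⊓ L)) with hD
    have hDL : D ≤ L := inf_le_left
    have hT0D : T ⊓ L ≤ D := le_inf inf_le_right (le_Cz_comm.1 (OZ_le_Cz _))
    have hT0D' : IsSylowIn p (T ⊓ L) D := hT0.mono hT0D hDL
    refine le_inf hDL ?_
    rw [le_Cz_comm]
    intro z hz
    set V := OZ p (Cfsg.pCoreOf p M) with hV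
    have hVea : IsElementaryAbelian p V := ea_OZ _
    have hMV : M ≤ Nz V := (le_Nz_pCoreOf M).trans (Nz_le_Nz_OZ _)
    have hOM : Cfsg.pCoreOf p M ≤ T := pCoreOf_le_sylow hT
    have hZV : OZ p T ≤ V := by
      have h1 : OZ p T ≤ Cz (Cfsg.pCoreOf p M) := (OZ_le_Cz _).trans (Cz_anti hOM)
      exact le_OZ (ea_OZ _) (fun x hx => hM ⟨hT.le (OZ_le _ hx), h1 hx⟩) h1
    have hVM : V ≤ M := (OZ_le _).trans (pCoreOf_le M)
    have hzT0 : z ∈ Cz (T ⊓ L) := Cz_anti inf_le_left (OZ_le_Cz _ hz)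
    obtain ⟨c, hc, hcz⟩ := gaschutz hVea ((hDL.trans hLM).trans hMV) hT0D' (hZV hz) hzT0 (U := V ⊓ L) (by
      intro g hg
      have h1 : g * z * g⁻¹ ∈ V := (Subgroup.mem_normalizer_iff.1 (hMV (hLM (hDL hg))) z).1 (hZV hz)
      refine ⟨V.mul_mem h1 (V.inv_mem (hZV hz)), ?_⟩
      have h2 : z * g⁻¹ * z⁻¹ ∈ L := (Subgroup.mem_normalizer_iff.1 (hLn (hVM (hZV hz))) _).1 (inv_mem (hDL hg))
      have e : g * z * g⁻¹ * z⁻¹ = g * (z * g⁻¹ * z⁻¹) := by group
      rw [e]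
      exact mul_mem (hDL hg) h2)
    have h1 : c * z⁻¹ ∈ OZ p (T ⊓ L) := by
      apply mem_OZ
      · exact ⟨(OZ_le _).trans hOM hcz.1, hcz.2⟩
      · exact mul_mem (Cz_anti hT0D hc.2) (inv_mem hzT0)
      · exact hVea.2 _ hcz.1
    have h2 : c * z⁻¹ ∈ Cz D := le_Cz_comm.1 (inf_le_right : D ≤ Cz (OZ p (T ⊓ L))) h1
    have e : z = (c * z⁻¹)⁻¹ * c := by group
    rw [e]
    exact mul_mem (inv_mem h2) hc.2
/-- Kieler's Lemma: let H be a finite group of characteristic p (C_H(O_p(H)) ≤ O_p(H)), T a Sylow p-subgroup of H and L a subnormal subgroup of H. Then C_L(Ω₁(Z(T))) = C_L(Ω₁(Z(T ∩ L))), Ω₁(Z(·)) denoting the elements of order dividing p in the centre. -/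
theorem result {H : Type*} [Group H] [Finite H] {p : ℕ} [Fact p.Prime] (hH : Subgroup.centralizer (Cfsg.pCore p H : Set H) ≤ Cfsg.pCore p H) (T : Sylow p H) (L : Subgroup H) (hL : L.IsSubnormal) : L ⊓ Subgroup.centralizer ((Cfsg.omegaOne p ((T : Subgroup H) ⊓ Subgroup.centralizer ((T : Subgroup H) : Set H))) : Set H) = L ⊓ Subgroup.centralizer ((Cfsg.omegaOne p (((T : Subgroup H) ⊓ L) ⊓ Subgroup.centralizer ((((T : Subgroup H) ⊓ L) : Subgroup H) : Set H))) : Set H) := by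
  have hH' := charP_top_iff.1 hH
  have hT := isSylowIn_coe T
  have key : ∀ L : Subgroup H, SN ⊤ L → L ⊓ Cz (OZ p (T : Subgroup H)) = L ⊓ Cz (OZ p ((T : Subgroup H) ⊓ L)) := by
    intro L hL
    induction hL with
    | refl => rw [inf_top_eq]
    | step K M a b c ih =>
      have hMc : CharP p M := c.charP hH'
      have hTM : IsSylowIn p ((T : Subgroup H) ⊓ M) M := c.isSylowIn hT
      have h1 := kieler hMc hTM a b
      have e : (T : Subgroup H) ⊓ M ⊓ K = (T : Subgroup H) ⊓ K := by rw [inf_assoc, inf_eq_right.2 a]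
      rw [e] at h1
      rw [← h1]
      have h2 : K ⊓ (M ⊓ Cz (OZ p (T : Subgroup H))) = K ⊓ (M ⊓ Cz (OZ p ((T : Subgroup H) ⊓ M))) := by rw [ih]
      rw [← inf_assoc, ← inf_assoc, inf_eq_left.2 a] at h2
      exact h2
  exact key L (sn_top_iff.2 hL)

end Cfsg.Agent.S2805
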