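import Cfsg.Statements.S3028
import Cfsg.Agent.H17_Base2
import Cfsg.Agent.H1_Subn2
import Cfsg.Agent.H1_Gaschutz
import Cfsg.Agent.H1_Basic
import Cfsg.Agent.H2_Subnormal

set_option autoImplicit false
open Cfsg

namespace Cfsg.Agent.S3028

open Subgroup Cfsg.Agent.H17.Base

section
universe u

theorem sylIn_of_subnormal {G : Type u} [Group G] [Finite G] {p : ℕ} [Fact p.Prime] (S : Sylow p G) {H : Subgroup G}
    (hH : H.IsSubnormal) : Nat.card ↥((S : Subgroup G) ⊓ H) = p ^ (Nat.card H).factorization p := by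
  obtain ⟨Q, hQ⟩ := Cfsg.Agent.H1.Subn.sylow_inf_subnormal p H hH S
  have h1 : Nat.card ↥(Q : Subgroup H) = p ^ (Nat.card H).factorization p := Q.card_eq_multiplicity
  rw [← h1, hQ]
  have h2 : ((S : Subgroup G).subgroupOf H).map H.subtype = (S : Subgroup G) ⊓ H := subgroupOf_map_subtype _ _
  rw [← h2]
  exact card_map_of_injective H.subtype_injective

theorem inf_sup_le {G : Type u} [Group G] [Finite G] {p : ℕ} [Fact p.Prime] (S : Sylow p G) {A K : Subgroup G}
    (hA : A.IsSubnormal) (hK : K.IsSubnormal) (h : A ≤ normalizer (K : Set G)) :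
    (S : Subgroup G) ⊓ (A ⊔ K) = ((S : Subgroup G) ⊓ A) ⊔ ((S : Subgroup G) ⊓ K) := by
  symm
  apply Subgroup.eq_of_le_of_card_ge
  · exact sup_le (inf_le_inf_left _ le_sup_left) (inf_le_inf_left _ le_sup_right)
  · have hAK : (A ⊔ K).IsSubnormal := Cfsg.Agent.H1.Subn.sup_subnormal hA hK
    have c1 := sylIn_of_subnormal S hAK
    have c2 := sylIn_of_subnormal S hA
    have c3 := sylIn_of_subnormal S hK
    have c4 := sylIn_of_subnormal S (hA.inf hK)
    have h1 := Cfsg.Agent.H1.Basic.card_sup_mul_card_inf h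
    have h2 : (S : Subgroup G) ⊓ A ≤ normalizer (((S : Subgroup G) ⊓ K : Subgroup G) : Set G) := by
      refine le_trans ?_ (Nz_inf_le (S : Subgroup G) K)
      exact le_inf (inf_le_left.trans Subgroup.le_normalizer) (inf_le_right.trans h)
    have h3 := Cfsg.Agent.H1.Basic.card_sup_mul_card_inf h2
    have h4 : ((S : Subgroup G) ⊓ A) ⊓ ((S : Subgroup G) ⊓ K) = (S : Subgroup G) ⊓ (A ⊓ K) := by
      rw [← inf_inf_distrib_left]
    rw [h4, c2, c3, c4, ← pow_add] at h3
    have h5 := congrArg (fun n => n.factorization p) h1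
    rw [Nat.factorization_mul Nat.card_pos.ne' Nat.card_pos.ne', Nat.factorization_mul Nat.card_pos.ne' Nat.card_pos.ne'] at h5
    simp only [Finsupp.coe_add, Pi.add_apply] at h5
    rw [← h5, pow_add, ← c1] at h3
    exact (Nat.eq_of_mul_eq_mul_right (pow_pos (Fact.out (p := p.Prime)).pos _) h3).ge

theorem main_aux {p : ℕ} [hp : Fact p.Prime] : ∀ (n : ℕ) (G : Type u) [Group G] [Finite G], Nat.card G = n →
    ∀ (S : Sylow p G) (A B : Subgroup G), A.IsSubnormal → B.IsSubnormal → A ⊔ B = ⊤ →
    ((S : Subgroup G) ⊓ A) ⊔ ((S : Subgroup G) ⊓ B) = S := by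
  intro n
  induction n using Nat.strong_induction_on with
  | _ n IH =>
  intro G _ _ hn S A B hA hB hAB
  by_contra hne
  set X := ((S : Subgroup G) ⊓ A) ⊔ ((S : Subgroup G) ⊓ B) with hX
  have hXS : X ≤ S := sup_le inf_le_left inf_le_left
  -- minimal normal subgroups
  have key : ∀ K : Subgroup G, K.Normal → K ≠ ⊥ → (∀ Y : Subgroup G, Y.Normal → Y ≤ K → Y = ⊥ ∨ Y = K) →
      K ⊓ Cfsg.pResidual p G = ⊥ := by
    intro K hK hK1 hmin
    have hKsub : K.IsSubnormal := hK.isSubnormal
    have hnK : ∀ H : Subgroup G, H ≤ normalizer (K : Set G) := by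
      intro H; rw [Subgroup.normalizer_eq_top]; exact le_top
    -- step a: `S = X ⊔ (K ⊓ S)`
    have hSX : (S : Subgroup G) = X ⊔ ((S : Subgroup G) ⊓ K) := by
      have hcard : Nat.card (G ⧸ K) < n := by
        rw [← hn, ← card_mul_index K]
        have h1 : 1 < Nat.card K := by
          rw [Subgroup.one_lt_card_iff_ne_bot]; exact hK1
        have h2 : 0 < K.index := Nat.pos_of_ne_zero K.index_ne_zero_of_finite
        show K.index < Nat.card K * K.index
        exact lt_mul_left h2 h1
      set S' : Sylow p (G ⧸ K) := S.mapSurjective (QuotientGroup.mk'_surjective K) with hS'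
      have hS'c : (S' : Subgroup (G ⧸ K)) = (S : Subgroup G).map (QuotientGroup.mk' K) := rfl
      have hI := IH _ hcard (G ⧸ K) rfl S' (A.map (QuotientGroup.mk' K)) (B.map (QuotientGroup.mk' K))
        (hA.map (QuotientGroup.mk'_surjective K)) (hB.map (QuotientGroup.mk'_surjective K)) (by
          rw [← Subgroup.map_sup, hAB]
          exact map_top_of_surjective _ (QuotientGroup.mk'_surjective K))
      have hmap : ∀ A : Subgroup G, A.IsSubnormal → (S' : Subgroup (G ⧸ K)) ⊓ A.map (QuotientGroup.mk' K) ≤ ((S : Subgroup G) ⊓ A).map (QuotientGroup.mk' K) := by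
        intro A hA y hy
        obtain ⟨⟨s, hs, hsy⟩, ⟨a, ha, hay⟩⟩ := hy
        -- `s ∈ A K`
        have h1 : a⁻¹ * s ∈ K := by
          rw [← QuotientGroup.eq_one_iff, QuotientGroup.mk_mul, QuotientGroup.mk_inv]
          have : (QuotientGroup.mk s : G ⧸ K) = QuotientGroup.mk a := hsy.trans hay.symm
          rw [this, inv_mul_cancel]
        have h2 : s ∈ (S : Subgroup G) ⊓ (A ⊔ K) := by
          refine ⟨hs, ?_⟩
          have h3 : s = a * (a⁻¹ * s) := by group
          rw [h3]; exact mul_mem_sup ha h1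
        rw [inf_sup_le S hA hKsub (hnK A)] at h2
        have h4 : ((S : Subgroup G) ⊓ A) ⊔ ((S : Subgroup G) ⊓ K) ≤ ((S : Subgroup G) ⊓ A) ⊔ K := sup_le_sup_left inf_le_right _
        obtain ⟨t, ht, k, hk, htk⟩ := (mem_sup_of_normal_right).mp (h4 h2)
        refine ⟨t, ht, ?_⟩
        rw [← hsy, ← htk, map_mul]
        have : QuotientGroup.mk' K k = 1 := (QuotientGroup.eq_one_iff k).mpr hk
        rw [this, mul_one]
      have h5 : (S : Subgroup G).map (QuotientGroup.mk' K) ≤ X.map (QuotientGroup.mk' K) := by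
        rw [← hS'c, ← hI, hX, Subgroup.map_sup]
        exact sup_le_sup (hmap A hA) (hmap B hB)
      apply le_antisymm _ (sup_le hXS inf_le_left)
      intro s hs
      obtain ⟨x, hx, hxs⟩ := h5 ⟨s, hs, rfl⟩
      have h1 : x⁻¹ * s ∈ K := by
        rw [← QuotientGroup.eq_one_iff, QuotientGroup.mk_mul, QuotientGroup.mk_inv]
        have : (QuotientGroup.mk x : G ⧸ K) = QuotientGroup.mk s := hxs
        rw [this, inv_mul_cancel]
      have h3 : s = x * (x⁻¹ * s) := by group
      rw [h3]
      exact mul_mem_sup hx ⟨(S : Subgroup G).mul_mem ((S : Subgroup G).inv_mem (hXS hx)) hs, h1⟩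
    -- step b
    haveI := hK
    have hKn : ∀ A : Subgroup G, A.IsSubnormal → K ≤ normalizer (A : Set G) := fun A hA =>
      Cfsg.Agent.H1.Subn.minimal_normal_le_normalizer hmin hA
    have hcomm : ∀ A : Subgroup G, A.IsSubnormal → ∀ a ∈ A, ∀ k ∈ K, a * k * a⁻¹ * k⁻¹ ∈ K ⊓ A := by
      intro A hA a ha k hk
      refine ⟨K.mul_mem (hK.conj_mem k hk a) (K.inv_mem hk), ?_⟩
      have h1 := (mem_normalizer_iff.mp (hKn A hA hk) a⁻¹).mp (A.inv_mem ha)
      have h2 := A.mul_mem ha h1
      simpa [mul_assoc] using h2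
    set N := (K ⊓ A) ⊔ (K ⊓ B) with hN
    have hNK : N ≤ K := sup_le inf_le_left inf_le_left
    have hNn : N.Normal := by
      rw [← normalizer_eq_top_iff, eq_top_iff, ← hAB]
      apply sup_le
      · apply le_Nz_iff.mpr
        intro a ha m hm
        have h1 : a * m * a⁻¹ * m⁻¹ ∈ N := mem_sup_left (hcomm A hA a ha m (hNK hm))
        have h2 := N.mul_mem h1 hm
        rwa [inv_mul_cancel_right] at h2
      · apply le_Nz_iff.mpr
        intro a ha m hm
        have h1 : a * m * a⁻¹ * m⁻¹ ∈ N := mem_sup_right (hcomm B hB a ha m (hNK hm))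
        have h2 := N.mul_mem h1 hm
        rwa [inv_mul_cancel_right] at h2
    rcases hmin N hNn hNK with h0 | h0
    · -- `K` central
      have hKA : K ⊓ A = ⊥ := by rw [eq_bot_iff, ← h0]; exact le_sup_left
      have hKB : K ⊓ B = ⊥ := by rw [eq_bot_iff, ← h0]; exact le_sup_right
      have hcent : K ≤ center G := by
        have h1 : A ⊔ B ≤ centralizer (K : Set G) := by
          apply sup_le
          · intro a ha
            rw [mem_centralizer_iff]
            intro k hk
            have h2 := hcomm A hA a ha k hk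
            rw [hKA, mem_bot] at h2
            exact (mul_inv_eq_iff_eq_mul.mp (mul_inv_eq_one.mp h2)).symm
          · intro a ha
            rw [mem_centralizer_iff]
            intro k hk
            have h2 := hcomm B hB a ha k hk
            rw [hKB, mem_bot] at h2
            exact (mul_inv_eq_iff_eq_mul.mp (mul_inv_eq_one.mp h2)).symm
        rw [hAB, top_le_iff] at h1
        intro k hk
        rw [mem_center_iff]
        intro g
        have h2 : g ∈ centralizer (K : Set G) := by rw [h1]; trivial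
        exact ((mem_centralizer_iff.mp h2) k hk).symm
      have hnorm : ∀ Y : Subgroup G, Y ≤ K → Y.Normal := by
        intro Y hY
        refine ⟨fun y hy g => ?_⟩
        rw [mem_center_iff.mp (hcent (hY hy)) g, mul_inv_cancel_right]; exact hy
      -- `K ≤ S`
      have hKS : (S : Subgroup G) ⊓ K = K := by
        rcases hmin _ (hnorm _ (inf_le_right : (S : Subgroup G) ⊓ K ≤ K)) inf_le_right with h | h
        · exfalso; rw [h, sup_bot_eq] at hSX; exact hne hSX.symm
        · exact h
      have hKS' : K ≤ S := by rw [← hKS]; exact inf_le_left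
      rw [hKS] at hSX
      have hXK : X ⊓ K = ⊥ := by
        rcases hmin _ (hnorm _ (inf_le_right : X ⊓ K ≤ K)) inf_le_right with h | h
        · exact h
        · exfalso
          have h1 : K ≤ X := by rw [← h]; exact inf_le_left
          rw [sup_eq_left.mpr h1] at hSX
          exact hne hSX.symm
      haveI hKc : IsMulCommutative K := ⟨⟨fun a b => Subtype.ext ((mem_center_iff.mp (hcent b.2)) a)⟩⟩
      have hcop : (Nat.card K).Coprime (S : Subgroup G).index := by
        obtain ⟨k, hk⟩ := IsPGroup.iff_card.mp (S.2.to_le hKS')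
        rw [hk]
        exact Nat.Coprime.pow_left k ((Fact.out (p := p.Prime)).coprime_iff_not_dvd.mpr S.not_dvd_index)
      obtain ⟨H, hH⟩ := Cfsg.Agent.H1.Gaschutz.gaschutz_exists K (S : Subgroup G) hKS' hcop X hXS hXK (by rw [sup_comm]; exact hSX.symm)
      have hHn : H.Normal := by
        constructor
        intro h hh g
        obtain ⟨⟨k, h'⟩, hkh⟩ := hH.2 g
        have hkh : (k : G) * (h' : G) = g := hkh
        rw [← hkh]
        have h1 : (k : G) * h' * h * ((k : G) * h')⁻¹ = h' * h * (h' : G)⁻¹ := by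
          have h2 : (h' * h * (h' : G)⁻¹) * k = (k : G) * (h' * h * (h' : G)⁻¹) := mem_center_iff.mp (hcent k.2) _
          calc (k : G) * h' * h * ((k : G) * h')⁻¹ = (k : G) * (h' * h * (h' : G)⁻¹) * (k : G)⁻¹ := by group
            _ = _ := by rw [← h2, mul_inv_cancel_right]
        rw [h1]
        exact H.mul_mem (H.mul_mem h'.2 hh) (H.inv_mem h'.2)
      have hpq : IsPGroup p (G ⧸ H) := by
        obtain ⟨k, hk⟩ := IsPGroup.iff_card.mp (S.2.to_le hKS')
        apply IsPGroup.of_card (n := k)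
        rw [← hk]
        exact hH.index_eq_card
      have h1 : Cfsg.pResidual p G ≤ H := pResidual_le_of_quotient hpq
      rw [eq_bot_iff, ← hH.disjoint.eq_bot]
      exact inf_le_inf_left _ h1
    · -- `K = (K ∩ A)(K ∩ B)`
      exfalso
      have h1 : K ⊓ A ≤ normalizer ((K ⊓ B : Subgroup G) : Set G) := by
        refine le_trans ?_ (Nz_inf_le K B)
        exact le_inf (inf_le_left.trans Subgroup.le_normalizer) (inf_le_left.trans (hKn B hB))
      have h2 := inf_sup_le S (hKsub.inf hA) (hKsub.inf hB) h1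
      rw [← hN, h0] at h2
      have h3 : (S : Subgroup G) ⊓ K ≤ X := by
        rw [h2]
        exact sup_le_sup (inf_le_inf_left _ inf_le_right) (inf_le_inf_left _ inf_le_right)
      rw [sup_eq_left.mpr h3] at hSX
      exact hne hSX.symm
  -- hence `O^p(G) = 1`
  have hres : Cfsg.pResidual p G = ⊥ := by
    by_contra h
    obtain ⟨K, hK, hK1, hKle, hmin⟩ := Cfsg.Agent.H2.Subnormal.exists_minimal_normal (inferInstance : (Cfsg.pResidual p G).Normal) h
    have := key K hK hK1 hmin
    rw [inf_eq_left.mpr hKle] at this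
    exact hK1 this
  have hGp : IsPGroup p G := by
    have h1 := pResidual_sup_sylow S
    rw [hres, bot_sup_eq] at h1
    intro g
    obtain ⟨k, hk⟩ := S.2 ⟨g, by rw [h1]; trivial⟩
    exact ⟨k, congrArg Subtype.val hk⟩
  have hStop : (S : Subgroup G) = ⊤ := by
    have h1 := pResidual_sup_sylow S
    rwa [hres, bot_sup_eq] at h1
  apply hne
  rw [hX, hStop, top_inf_eq, top_inf_eq, hAB]

end

/-- Let G be a finite group, p a prime, S a Sylow p-subgroup of G and A₁, A₂ subnormal subgroups of G. Then the join of S ∩ A₁ and S ∩ A₂ is a Sylow p-subgroup of the join of A₁ and A₂; equivalently ⟨A₁, A₂⟩ ∩ S = ⟨A₁ ∩ S, A₂ ∩ S⟩. -/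
theorem result {G : Type*} [Group G] [Finite G] {p : ℕ} [Fact p.Prime] (S : Sylow p G) (A₁ A₂ : Subgroup G)
    (h₁ : A₁.IsSubnormal) (h₂ : A₂.IsSubnormal) :
    (A₁ ⊔ A₂) ⊓ (S : Subgroup G) = (A₁ ⊓ (S : Subgroup G)) ⊔ (A₂ ⊓ (S : Subgroup G)) := by
  set H := A₁ ⊔ A₂ with hH
  have hHsub : H.IsSubnormal := Cfsg.Agent.H1.Subn.sup_subnormal h₁ h₂
  obtain ⟨Q, hQ⟩ := Cfsg.Agent.H1.Subn.sylow_inf_subnormal p H hHsub S
  have h1 := main_aux (p := p) _ H rfl Q (A₁.subgroupOf H) (A₂.subgroupOf H) h₁.subgroupOf h₂.subgroupOf (by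
    apply map_injective H.subtype_injective
    rw [Subgroup.map_sup, subgroupOf_map_subtype, subgroupOf_map_subtype, inf_eq_left.mpr le_sup_left, inf_eq_left.mpr le_sup_right,
      ← MonoidHom.range_eq_map, range_subtype])
  have h2 := congrArg (Subgroup.map H.subtype) h1
  rw [Subgroup.map_sup, Subgroup.map_inf _ _ _ H.subtype_injective, Subgroup.map_inf _ _ _ H.subtype_injective, hQ, subgroupOf_map_subtype, subgroupOf_map_subtype,
    subgroupOf_map_subtype, inf_eq_left.mpr (le_sup_left : A₁ ≤ H), inf_eq_left.mpr (le_sup_right : A₂ ≤ H)] at h2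
  rw [inf_comm, ← h2]
  have e1 : (S : Subgroup G) ⊓ H ⊓ A₁ = A₁ ⊓ S := by
    rw [inf_assoc, inf_eq_right.mpr (le_sup_left : A₁ ≤ H), inf_comm]
  have e2 : (S : Subgroup G) ⊓ H ⊓ A₂ = A₂ ⊓ S := by
    rw [inf_assoc, inf_eq_right.mpr (le_sup_right : A₂ ≤ H), inf_comm]
  rw [e1, e2]

end Cfsg.Agent.S3028
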