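import Cfsg.Statements.S2806
import Cfsg.Agent.S2805
import Cfsg.Agent.S3028
import Cfsg.Agent.H17_VIter

set_option autoImplicit false
open Cfsg

namespace Cfsg.Agent.S2806

open Cfsg.Agent.H17.Base Cfsg.Agent.H17.Amalgam

variable {H : Type*} [Group H] [Finite H] {p : ℕ} [Fact p.Prime]

theorem kielerSN {M T : Subgroup H} (hM : CharP p M) (hT : IsSylowIn p T M) :
    ∀ L : Subgroup H, SN M L → L ⊓ Cz (OZ p T) = L ⊓ Cz (OZ p (T ⊓ L)) := by
  intro L hL
  induction hL with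
  | refl => rw [inf_eq_left.2 hT.le]
  | step K M' a b c ih =>
    have hMc : CharP p M' := c.charP hM
    have hTM : IsSylowIn p (T ⊓ M') M' := c.isSylowIn hT
    have h1 := Cfsg.Agent.S2805.kieler hMc hTM a b
    have e : T ⊓ M' ⊓ K = T ⊓ K := by rw [inf_assoc, inf_eq_right.2 a]
    rw [e] at h1
    rw [← h1]
    have h2 : K ⊓ (M' ⊓ Cz (OZ p T)) = K ⊓ (M' ⊓ Cz (OZ p (T ⊓ M'))) := by rw [ih]
    rw [← inf_assoc, ← inf_assoc, inf_eq_left.2 a] at h2
    exact h2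

theorem pEC_le_of_SN {X N T : Subgroup H} (hT : IsSylowIn p T X) (hN : SN X N) (hTN : T ≤ N) :
    Cfsg.pElementClosure p X ≤ N := by
  induction hN with
  | refl => exact pElementClosure_le p X
  | step K M a b c ih =>
    have h1 := ih (hTN.trans a)
    have h2 : Cfsg.pElementClosure p X ≤ Cfsg.pElementClosure p M := by
      unfold Cfsg.pElementClosure
      apply Subgroup.closure_mono
      rintro x ⟨hx, hk⟩
      exact ⟨h1 (mem_pElementClosure hx hk), hk⟩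
    exact h2.trans (pElementClosure_le_of_sylow (hT.mono (hTN.trans a) c.le) hTN b)

theorem ps_eq (L R : Subgroup H) : Cfsg.pointStabilizer p L R = Cfsg.pElementClosure p (L ⊓ Cz (OZ p R)) := rfl

/-- the step -/
theorem E_step (hH : Cfsg.IsOfLocalCharacteristic p H) {M L R : Subgroup H} (hM : SN ⊤ M) (hR : IsSylowIn p R M)
    (hLM : L ≤ M) (hn : M ≤ Nz L) (h0 : R ⊓ L ≠ ⊥) : L ⊓ Cz (OZ p R) = L ⊓ Cz (OZ p (R ⊓ L)) := by
  have hRp := hR.isPGroup
  have hR0 : R ≠ ⊥ := by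
    intro h; apply h0; rw [h, bot_inf_eq]
  have hRLp : IsPGroup p ↥(R ⊓ L) := hRp.to_le inf_le_left
  have c1 : CharP p (Nz (OZ p R)) := charP_iff.1 (hH.2 _ (hRp.to_le (OZ_le R)) (Cfsg.Agent.H17.VIter.OZ_ne_bot hRp hR0))
  have c2 : CharP p (Nz (OZ p (R ⊓ L))) := charP_iff.1 (hH.2 _ (hRLp.to_le (OZ_le _)) (Cfsg.Agent.H17.VIter.OZ_ne_bot hRLp h0))
  have key : ∀ N : Subgroup H, CharP p N → R ≤ N →
      (L ⊓ N) ⊓ Cz (OZ p R) = (L ⊓ N) ⊓ Cz (OZ p (R ⊓ L)) := by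
    intro N hN hRN
    have h1 : SN N (M ⊓ N) := by
      have := hM.inf_right N
      rwa [top_inf_eq] at this
    have h2 : CharP p (M ⊓ N) := h1.charP hN
    have h3 : IsSylowIn p R (M ⊓ N) := hR.mono (le_inf hR.le hRN) inf_le_left
    have h4 : L ⊓ N ≤ M ⊓ N := inf_le_inf_right _ hLM
    have h5 : M ⊓ N ≤ Nz (L ⊓ N) :=
      (le_inf (inf_le_left.trans hn) (inf_le_right.trans Subgroup.le_normalizer)).trans (Nz_inf_le _ _)
    have h6 := Cfsg.Agent.S2805.kieler h2 h3 h4 h5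
    have h7 : R ⊓ (L ⊓ N) = R ⊓ L := by
      rw [← inf_assoc, inf_eq_left.2 (inf_le_left.trans hRN)]
    rwa [h7] at h6
  have hRL : R ≤ Nz (R ⊓ L) := (le_inf Subgroup.le_normalizer (hR.le.trans hn)).trans (Nz_inf_le _ _)
  apply le_antisymm
  · rintro x ⟨hxL, hxC⟩
    have h5 := key _ c1 (Subgroup.le_normalizer.trans (Nz_le_Nz_OZ R))
    have h6 : x ∈ (L ⊓ Nz (OZ p R)) ⊓ Cz (OZ p R) := ⟨⟨hxL, Cz_le_Nz _ hxC⟩, hxC⟩
    rw [h5] at h6
    exact ⟨hxL, h6.2⟩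
  · rintro x ⟨hxL, hxC⟩
    have h5 := key _ c2 (hRL.trans (Nz_le_Nz_OZ _))
    have h6 : x ∈ (L ⊓ Nz (OZ p (R ⊓ L))) ⊓ Cz (OZ p (R ⊓ L)) := ⟨⟨hxL, Cz_le_Nz _ hxC⟩, hxC⟩
    rw [← h5] at h6
    exact ⟨hxL, h6.2⟩

theorem E_key (hH : Cfsg.IsOfLocalCharacteristic p H) {T : Subgroup H} (hT : IsSylowIn p T ⊤) :
    ∀ L : Subgroup H, SN ⊤ L → T ⊓ L ≠ ⊥ → L ⊓ Cz (OZ p (T ⊓ L)) = L ⊓ Cz (OZ p T) := by
  intro L hL
  induction hL with
  | refl => intro _; rw [inf_top_eq]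
  | step K M a b c ih =>
    intro h0
    have hM0 : T ⊓ M ≠ ⊥ := by
      intro h; apply h0
      rw [eq_bot_iff, ← h]
      exact inf_le_inf_left _ a
    have h1 := ih hM0
    have hTM : IsSylowIn p (T ⊓ M) M := c.isSylowIn hT
    have e : T ⊓ M ⊓ K = T ⊓ K := by rw [inf_assoc, inf_eq_right.2 a]
    have h2 := E_step hH c hTM a b (by rw [e]; exact h0)
    rw [e] at h2
    rw [← h2]
    have h3 : K ⊓ (M ⊓ Cz (OZ p (T ⊓ M))) = K ⊓ (M ⊓ Cz (OZ p T)) := by rw [h1]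
    rw [← inf_assoc, ← inf_assoc, inf_eq_left.2 a] at h3
    exact h3

theorem ps_key (hH : Cfsg.IsOfLocalCharacteristic p H) {T L : Subgroup H} (hT : IsSylowIn p T ⊤) (hL : SN ⊤ L) :
    Cfsg.pointStabilizer p L (T ⊓ L) = Cfsg.pElementClosure p (L ⊓ Cz (OZ p T)) := by
  have hTL : IsSylowIn p (T ⊓ L) L := hL.isSylowIn hT
  have hTp := hT.isPGroup
  by_cases h0 : T ⊓ L = ⊥
  · -- L is a p'-group
    have hx1 : ∀ x ∈ L, (∃ k : ℕ, orderOf x = p ^ k) → x = 1 := by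
      rintro x hx ⟨k, hk⟩
      have h1 : IsPGroup p ↥(Subgroup.zpowers x) :=
        IsPGroup.of_card (n := k) (by rw [Nat.card_zpowers, hk])
      have h2 := hTL.card_le h1 (by rw [Subgroup.zpowers_le]; exact hx)
      rw [h0, Subgroup.card_bot, Nat.card_zpowers] at h2
      have h3 : 0 < orderOf x := orderOf_pos x
      exact orderOf_eq_one_iff.mp (by omega)
    rw [ps_eq]
    have hb : ∀ K : Subgroup H, K ≤ L → Cfsg.pElementClosure p K = ⊥ := by
      intro K hK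
      rw [eq_bot_iff]
      unfold Cfsg.pElementClosure
      rw [Subgroup.closure_le]
      rintro x ⟨hx, hk⟩
      exact hx1 x (hK hx) hk
    rw [hb _ inf_le_left, hb _ inf_le_left]
  · rw [ps_eq, E_key hH hT L hL h0]

/-- Let H be a finite group of local characteristic p, T a Sylow p-subgroup, and L₁, L₂ subnormal subgroups of H generating the subgroup L. Then the point stabilizer of L with respect to T ∩ L is generated by the point stabilizers of L₁ and L₂ with respect to T ∩ L₁ and T ∩ L₂ (point stabilizer of X w.r.t. R: the subgroup generated by the p-elements of X centralizing Ω₁(Z(R))). -/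
theorem result {H : Type*} [Group H] [Finite H] {p : ℕ} [Fact p.Prime] (hH : Cfsg.IsOfLocalCharacteristic p H) (T : Sylow p H) (L₁ L₂ : Subgroup H) (h₁ : L₁.IsSubnormal) (h₂ : L₂.IsSubnormal) : Cfsg.pointStabilizer p (L₁ ⊔ L₂) ((T : Subgroup H) ⊓ (L₁ ⊔ L₂)) = Cfsg.pointStabilizer p L₁ ((T : Subgroup H) ⊓ L₁) ⊔ Cfsg.pointStabilizer p L₂ ((T : Subgroup H) ⊓ L₂) := by
  have hT : IsSylowIn p (T : Subgroup H) ⊤ := isSylowIn_coe T
  have s1 : SN ⊤ L₁ := sn_top_iff.2 h₁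
  have s2 : SN ⊤ L₂ := sn_top_iff.2 h₂
  have s3 : SN ⊤ (L₁ ⊔ L₂) := sn_top_iff.2 (Cfsg.Agent.H1.Subn.sup_subnormal h₁ h₂)
  rw [ps_key hH hT s1, ps_key hH hT s2, ps_key hH hT s3]
  set C := Cz (OZ p (T : Subgroup H)) with hC
  set P₁ := Cfsg.pElementClosure p (L₁ ⊓ C) with hP1
  set P₂ := Cfsg.pElementClosure p (L₂ ⊓ C) with hP2
  have hTC : (T : Subgroup H) ≤ C := le_Cz_comm.1 (OZ_le_Cz _)
  have sn1 : SN C P₁ := by
    have h1 := s1.inf_right C
    rw [top_inf_eq] at h1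
    exact h1.trans (SN.of_normal (pElementClosure_le p _) (le_Nz_pElementClosure _))
  have sn2 : SN C P₂ := by
    have h1 := s2.inf_right C
    rw [top_inf_eq] at h1
    exact h1.trans (SN.of_normal (pElementClosure_le p _) (le_Nz_pElementClosure _))
  have sn3 : SN C (P₁ ⊔ P₂) := by
    rw [sn_iff] at sn1 sn2 ⊢
    refine ⟨sup_le sn1.1 sn2.1, ?_⟩
    rw [Subgroup.subgroupOf_sup sn1.1 sn2.1]
    exact Cfsg.Agent.H1.Subn.sup_subnormal sn1.2 sn2.2
  apply le_antisymm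
  · have hle : P₁ ⊔ P₂ ≤ (L₁ ⊔ L₂) ⊓ C := by
      apply sup_le
      · exact (pElementClosure_le p _).trans (inf_le_inf_right _ le_sup_left)
      · exact (pElementClosure_le p _).trans (inf_le_inf_right _ le_sup_right)
    have hsyl : IsSylowIn p ((T : Subgroup H) ⊓ (L₁ ⊔ L₂)) ((L₁ ⊔ L₂) ⊓ C) :=
      (s3.isSylowIn hT).mono (le_inf inf_le_right (inf_le_left.trans hTC)) inf_le_left
    refine pEC_le_of_SN hsyl (sn3.restrict hle inf_le_right) ?_
    rw [inf_comm, Cfsg.Agent.S3028.result T L₁ L₂ h₁ h₂]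
    apply sup_le_sup
    · exact isPGroup_le_pElementClosure (hT.isPGroup.to_le inf_le_right) (inf_le_inf_left _ hTC)
    · exact isPGroup_le_pElementClosure (hT.isPGroup.to_le inf_le_right) (inf_le_inf_left _ hTC)
  · apply sup_le
    · exact pElementClosure_mono (inf_le_inf_right _ le_sup_left)
    · exact pElementClosure_mono (inf_le_inf_right _ le_sup_right)

end Cfsg.Agent.S2806
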