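import Cfsg.Statements.S2810
import Cfsg.Agent.H17_Act

set_option autoImplicit false
open Cfsg

namespace Cfsg.Agent.S2810

open Cfsg.Agent.H17.Base
/-- Let H be a finite group of characteristic p and L a subgroup of H centralizing every factor of some H-invariant chain 1 = A₀ ≤ A₁ ≤ … ≤ Aₙ = O_p(H) of normal subgroups (that is, [A_{i+1}, L] ≤ Aᵢ for each i). Then L ≤ O_p(H). -/
theorem result {H : Type*} [Group H] [Finite H] {p : ℕ} [Fact p.Prime] (hchar : Subgroup.centralizer (Cfsg.pCore p H : Set H) ≤ Cfsg.pCore p H) (L : Subgroup H) (n : ℕ) (A : Fin (n + 1) → Subgroup H) (h0 : A 0 = ⊥) (hn : A (Fin.last n) = Cfsg.pCore p H) (hmono : Monotone A) (hnorm : ∀ i, (A i).Normal) (hcent : ∀ i : Fin n, ⁅A i.succ, L⁆ ≤ A i.castSucc) : L ≤ Cfsg.pCore p H := by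
  -- C = all elements acting trivially on each factor
  set C : Subgroup H := ⨅ i : Fin n, chainStab (A i.succ) (A i.castSucc) with hC
  have hnz : ∀ i, (⊤ : Subgroup H) ≤ Nz (A i) := fun i => normal_iff_top_le_Nz.1 (hnorm i)
  have hLC : L ≤ C := by
    rw [hC]
    apply le_iInf
    intro i
    rw [le_chainStab_iff (le_top.trans (hnz _)), Subgroup.commutator_comm]
    exact hcent i
  have hCn : C.Normal := by
    rw [normal_iff_top_le_Nz]
    intro g _
    rw [mem_Nz_iff_cj]
    ext x
    rw [mem_cj, hC, Subgroup.mem_iInf, Subgroup.mem_iInf]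
    have key : ∀ i : Fin n, g⁻¹ * x * g ∈ chainStab (A i.succ) (A i.castSucc) ↔ x ∈ chainStab (A i.succ) (A i.castSucc) := by
      intro i
      rw [← mem_cj, cj_chainStab, cj_eq_of_normal _ (hnorm _), cj_eq_of_normal _ (hnorm _)]
    simp only [key]
  have hCp : IsPGroup p C := by
    apply isPGroup_of_resOf_eq_bot
    rw [resOf_eq_closure, eq_bot_iff, Subgroup.closure_le]
    rintro x ⟨hx, hxp⟩
    -- x centralizes A i for all i, by induction
    have hpg : ∀ i, IsPGroup p ↥(A i) := fun i =>
      (pCore_isPGroup p H).to_le ((hmono (Fin.le_last i)).trans hn.le)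
    have h1 : ∀ i : Fin (n + 1), x ∈ Cz (A i) := by
      intro i
      induction i using Fin.induction with
      | zero =>
        rw [h0, Subgroup.mem_centralizer_iff]
        intro y hy
        rw [SetLike.mem_coe, Subgroup.mem_bot] at hy
        rw [hy, one_mul, mul_one]
      | succ i ih =>
        rw [hC, Subgroup.mem_iInf] at hx
        exact mem_Cz_of_chainStab_p (hpg _) (hx i) ih hxp
    have h2 := h1 (Fin.last n)
    rw [hn] at h2
    have h3 : x ∈ Cfsg.pCore p H := hchar h2
    have h4 : x ∈ resOf p (Cfsg.pCore p H) := mem_resOf h3 hxp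
    rwa [resOf_eq_bot_iff.2 (pCore_isPGroup p H)] at h4
  exact hLC.trans (le_pCore hCn hCp)

end Cfsg.Agent.S2810
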