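import Cfsg.Statements.S2813
import Cfsg.Agent.H17_Act

set_option autoImplicit false
open Cfsg

namespace Cfsg.Agent.S2813

open Cfsg.Agent.H17.Base
/-- Let K be a subgroup of the finite group H with O_p(K) = 1 and Y a p-subgroup of N_H(K) with [K, Y, Y] = 1. Then [K, Y] = 1. -/
theorem result {H : Type*} [Group H] [Finite H] {p : ℕ} [Fact p.Prime] (K : Subgroup H) (hO : Cfsg.pCore p ↥K = ⊥) (Y : Subgroup H) (hY : IsPGroup p ↥Y) (hYK : Y ≤ Subgroup.normalizer (K : Set H)) (hq : ⁅⁅K, Y⁆, Y⁆ = ⊥) : ⁅K, Y⁆ = ⊥ := by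
  -- [K,Y] centralizes Y, so Y ⊴ Y[K,Y] ⊴ YK
  have h1 : Y ≤ Cz ⁅K, Y⁆ := commutator_eq_bot_iff_le_Cz'.1 hq
  have hKn : K ≤ Nz ⁅K, Y⁆ := Subgroup.normalizer_commutator_ge_left _ _
  have hYn : Y ≤ Nz ⁅K, Y⁆ := Subgroup.normalizer_commutator_ge_right _ _
  have h2 : SN (K ⊔ Y) Y := by
    refine SN.step Y (Y ⊔ ⁅K, Y⁆) le_sup_left ?_ (SN.of_normal ?_ ?_)
    · exact sup_le Subgroup.le_normalizer ((le_Cz_comm.1 h1).trans (Cz_le_Nz Y))
    · exact sup_le le_sup_right ((commutator_le_left_iff.2 hYK).trans le_sup_left)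
    · apply sup_le
      · rw [le_Nz_iff]
        intro k hk x hx
        rw [mem_sup_of_le_Nz hYn] at hx ⊢
        obtain ⟨y, hy, c, hc, rfl⟩ := hx
        refine ⟨y, hy, y⁻¹ * (k * y * k⁻¹ * y⁻¹) * y * (k * c * k⁻¹), ?_, by group⟩
        refine mul_mem ?_ ((Subgroup.mem_normalizer_iff.1 (hKn hk) c).1 hc)
        have h3 : k * y * k⁻¹ * y⁻¹ ∈ ⁅K, Y⁆ := Subgroup.commutator_mem_commutator hk hy
        have h4 := (Subgroup.mem_normalizer_iff.1 (hYn (inv_mem hy)) _).1 h3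
        rwa [inv_inv] at h4
      · exact le_sup_left.trans Subgroup.le_normalizer
  have h3 : Y ≤ Cfsg.pCoreOf p (K ⊔ Y) := h2.le_pCoreOf hY
  have hKKY : K ⊔ Y ≤ Nz K := sup_le Subgroup.le_normalizer hYK
  have h4 : ⁅K, Y⁆ ≤ K ⊓ Cfsg.pCoreOf p (K ⊔ Y) := by
    apply le_inf (commutator_le_left_iff.2 hYK)
    have h5 : K ≤ Nz (Cfsg.pCoreOf p (K ⊔ Y)) := le_sup_left.trans (le_Nz_pCoreOf _)
    exact (Subgroup.commutator_mono le_rfl h3).trans (commutator_le_right_iff.2 h5)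
  rw [← pCoreOf_normal_eq le_sup_left hKKY] at h4
  have h5 : Cfsg.pCoreOf p K = ⊥ := by
    unfold Cfsg.pCoreOf
    rw [hO, Subgroup.map_bot]
  rw [h5] at h4
  exact le_bot_iff.1 h4

end Cfsg.Agent.S2813
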