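import Cfsg.Statements.S2814
import Cfsg.Agent.H17_SNC

set_option autoImplicit false
open Cfsg

namespace Cfsg.Agent.S2814

open Cfsg.Agent.H17.Base in
/-- Let A be a subgroup of the finite group H and K the subnormal closure of A (intersection of the subnormal subgroups containing A). Then K is the normal closure of A inside K and N_H(A) ≤ N_H(K); K = A·O^p(K), O^p(K) being generated by the elements of K of order prime to p; and if A is a p-group, O^p(K) = [O^p(K), A]. -/
theorem result {H : Type*} [Group H] [Finite H] {p : ℕ} [Fact p.Prime] (A : Subgroup H) (K : Subgroup H) (hK : K = Cfsg.subnormalClosure A) : (Subgroup.normalClosure ((A.subgroupOf K : Subgroup ↥K) : Set ↥K)).map K.subtype = K ∧ Subgroup.normalizer (A : Set H) ≤ Subgroup.normalizer (K : Set H) ∧ A ⊔ (Cfsg.pResidual p ↥K).map K.subtype = K ∧ (IsPGroup p ↥A → ⁅(Cfsg.pResidual p ↥K).map K.subtype, A⁆ = (Cfsg.pResidual p ↥K).map K.subtype) := by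
  obtain ⟨hsn, hAK, hmin⟩ := subnormalClosure_facts A
  rw [← hK] at hsn hAK hmin
  have h1 : ncl K A = K := by
    apply le_antisymm (ncl_le hAK Subgroup.le_normalizer)
    apply hmin _ _ (le_ncl _ _)
    exact hsn.trans (SN.of_normal (ncl_le hAK Subgroup.le_normalizer) (le_Nz_ncl _ _))
  have h4 : A ⊔ resOf p K = K := by
    apply le_antisymm (sup_le hAK (resOf_le K))
    apply hmin _ _ le_sup_left
    exact hsn.trans (sn_of_resOf_le le_sup_right (sup_le hAK (resOf_le K)))
  refine ⟨?_, ?_, h4, ?_⟩
  · rw [map_normalClosure_subgroupOf hAK]; exact h1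
  · intro g hg
    have h2 : cj g A = A := cj_eq_of_mem_Nz hg
    have h3 : K ≤ cj g K := by
      apply hmin
      · have := hsn.conj g
        rwa [cj_top] at this
      · conv_lhs => rw [← h2]
        exact cj_mono hAK
    exact mem_Nz_of_le_cj h3
  · intro hA
    change ⁅resOf p K, A⁆ = resOf p K
    set R := resOf p K with hR
    have hAR : A ≤ Nz R := hAK.trans (le_Nz_resOf K)
    apply le_antisymm
    · exact commutator_le_left_iff.2 hAR
    · have h5 : K ≤ Nz (A ⊔ ⁅R, A⁆) := by
        conv_lhs => rw [← h4]
        exact sup_le (le_sup_left.trans Subgroup.le_normalizer) le_Nz_sup_commutator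
      have h6 : K ≤ A ⊔ ⁅R, A⁆ := by
        conv_lhs => rw [← h1]
        exact ncl_le le_sup_left h5
      have h7 : A ⊔ ⁅R, A⁆ = K := by
        apply le_antisymm _ h6
        exact sup_le hAK ((commutator_le_left_iff.2 hAR).trans (resOf_le K))
      apply resOf_le_of_sup _ hA (by rw [sup_comm]; exact h7)
      conv_lhs => rw [← h4]
      exact sup_le (Subgroup.normalizer_commutator_ge_right R A) (Subgroup.normalizer_commutator_ge_left R A)

end Cfsg.Agent.S2814
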