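import Cfsg.Statements.S2816
import Cfsg.Agent.H17_FS

set_option autoImplicit false
open Cfsg

namespace Cfsg.Agent.S2816

open Cfsg.Agent.H17.Base Cfsg.Agent.H17.FS in
theorem le_of_comm_eq {G : Type*} [Group G] {K H X Y : Subgroup G} (h : SN K H) (hX : X ≤ K) (hY : Y ≤ H)
    (hXY : ⁅X, Y⁆ = X) : X ≤ H := by
  induction h with
  | refl => exact hX
  | step H M a b c ih =>
    have h1 := ih (hY.trans a)
    rw [← hXY]
    exact (Subgroup.commutator_mono h1 hY).trans (commutator_le_right_iff.2 b)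

open Cfsg.Agent.H17.Base Cfsg.Agent.H17.FS in
/-- Let H be a finite group and p a prime with O_p(H) = 1, and Y a p-subgroup of H. Then for every subnormal subgroup K of H containing Y, [F*(H), Y] = [F*(K), Y] = [F*(K), Y, Y]; and if Y₀ ≤ Y with [F*(H), Y, Y₀] = 1 then Y₀ = 1 (in particular [F*(H), Y] = 1 forces Y = 1). -/
theorem result {H : Type*} [Group H] [Finite H] {p : ℕ} [Fact p.Prime] (hO : Cfsg.pCore p H = ⊥) (Y : Subgroup H) (hY : IsPGroup p ↥Y) : (∀ K : Subgroup H, K.IsSubnormal → Y ≤ K → ⁅Cfsg.generalizedFittingSubgroup H, Y⁆ = ⁅(Cfsg.generalizedFittingSubgroup ↥K).map K.subtype, Y⁆ ∧ ⁅(Cfsg.generalizedFittingSubgroup ↥K).map K.subtype, Y⁆ = ⁅⁅(Cfsg.generalizedFittingSubgroup ↥K).map K.subtype, Y⁆, Y⁆) ∧ (∀ Y₀ : Subgroup H, Y₀ ≤ Y → ⁅⁅Cfsg.generalizedFittingSubgroup H, Y⁆, Y₀⁆ = ⊥ → Y₀ = ⊥) := by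
  have hT : pCore p ↥(⊤ : Subgroup H) = ⊥ := by
    rw [pCore_eq_bot_iff, pCoreOf_top]; exact hO
  have hg : gfsOf (⊤ : Subgroup H) = generalizedFittingSubgroup H := by
    have := Cfsg.Agent.H11.FStar.map_generalizedFitting_of_normal (⊤ : Subgroup H)
    rw [inf_top_eq] at this
    exact this
  have hgood : Good p (gfsOf (⊤ : Subgroup H)) := by
    apply Good.of_SN hT _ le_rfl
    exact SN.of_normal le_top (Subgroup.le_normalizer.trans (Nz_le_gfsOf _))
  have hYn : ∀ Y : Subgroup H, Y ≤ Nz (gfsOf (⊤ : Subgroup H)) := fun Y =>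
    le_trans (le_top.trans Subgroup.le_normalizer) (Nz_le_gfsOf _)
  rw [← hg]
  have h1 := (thmA hgood hY (hYn Y)).2
  constructor
  · intro K hK hYK
    have hK' : SN (⊤ : Subgroup H) K := sn_top_iff.2 hK
    have h2 : ⁅gfsOf (⊤ : Subgroup H), Y⁆ ≤ K := le_of_comm_eq hK' le_top hYK h1
    have h3 : (generalizedFittingSubgroup ↥K).map K.subtype = gfsOf (⊤ : Subgroup H) ⊓ K := by
      rw [hg]; exact Cfsg.Agent.H11.FStar.map_generalizedFitting_of_isSubnormal hK
    rw [h3]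
    have h4 : ⁅gfsOf (⊤ : Subgroup H), Y⁆ ≤ gfsOf (⊤ : Subgroup H) := commutator_le_left_iff.2 (hYn Y)
    have h5 : ⁅gfsOf (⊤ : Subgroup H), Y⁆ = ⁅gfsOf (⊤ : Subgroup H) ⊓ K, Y⁆ := by
      apply le_antisymm
      · conv_lhs => rw [← h1]
        exact Subgroup.commutator_mono (le_inf h4 h2) le_rfl
      · exact Subgroup.commutator_mono inf_le_left le_rfl
    refine ⟨h5, ?_⟩
    rw [← h5, h1]
  · intro Y₀ hY₀ hc
    have h6 := (thmA hgood (hY.to_le hY₀) (hYn Y₀)).2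
    have h7 : ⁅gfsOf (⊤ : Subgroup H), Y₀⁆ = ⊥ := by
      rw [← h6, eq_bot_iff, ← hc]
      exact Subgroup.commutator_mono (Subgroup.commutator_mono le_rfl hY₀) le_rfl
    have h8 : Y₀ ≤ Cz (gfsOf (⊤ : Subgroup H)) := commutator_eq_bot_iff_le_Cz'.1 h7
    rw [hg] at h8
    have h9 : Y₀ ≤ fittingSubgroup H := h8.trans Cfsg.Agent.H11.FStar.centralizer_generalizedFitting_le_fitting
    have h10 := coprime_fitting (p := p) hO
    obtain ⟨n, hn⟩ := IsPGroup.iff_card.1 (hY.to_le hY₀)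
    have h11 : Nat.card Y₀ ∣ Nat.card ↥(fittingSubgroup H) := Subgroup.card_dvd_of_le h9
    have h12 : Nat.card Y₀ = 1 := by
      have : (Nat.card Y₀).Coprime (Nat.card Y₀) := by
        have h13 := Nat.Coprime.coprime_dvd_left h11 h10
        conv => arg 2; rw [hn]
        exact Nat.Coprime.pow_right n h13
      exact (Nat.coprime_self _).1 this
    exact Subgroup.eq_bot_of_card_eq _ h12

end Cfsg.Agent.S2816
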