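import Cfsg.Statements.S2817
import Cfsg.Agent.H17_FS2
import Cfsg.Agent.H17_Frat

set_option autoImplicit false
open Cfsg

namespace Cfsg.Agent.S2817

open Cfsg.Agent.H17.Base Cfsg.Agent.H17.FS in
/-- Let H be a finite group and p a prime with O_p(H) = 1, Q a p-subgroup of H, L = [F*(H), Q], and F the largest normal subgroup of F*(H) centralized by Q (a normal subgroup of F*(H) centralized by Q and containing every such). Then F = C_{F*(H)}(LQ); L = [L, Q]; L ∩ F ≤ Φ(L); every p-subgroup B of N_H(Q) with [L, B] ≤ F satisfies [L, B] = 1; and C_H(FL) has order prime to p. -/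
theorem result {H : Type*} [Group H] [Finite H] {p : ℕ} [Fact p.Prime] (hO : Cfsg.pCore p H = ⊥) (Q : Subgroup H) (hQ : IsPGroup p ↥Q) (L : Subgroup H) (hL : L = ⁅Cfsg.generalizedFittingSubgroup H, Q⁆) (F : Subgroup H) (hF : F ≤ Cfsg.generalizedFittingSubgroup H ∧ Cfsg.generalizedFittingSubgroup H ≤ Subgroup.normalizer (F : Set H) ∧ Q ≤ Subgroup.centralizer (F : Set H) ∧ ∀ N : Subgroup H, N ≤ Cfsg.generalizedFittingSubgroup H → Cfsg.generalizedFittingSubgroup H ≤ Subgroup.normalizer (N : Set H) → Q ≤ Subgroup.centralizer (N : Set H) → N ≤ F) : F = Cfsg.generalizedFittingSubgroup H ⊓ Subgroup.centralizer ((L ⊔ Q : Subgroup H) : Set H) ∧ ⁅L, Q⁆ = L ∧ L ⊓ F ≤ (frattini ↥L).map L.subtype ∧ (∀ B : Subgroup H, IsPGroup p ↥B → B ≤ Subgroup.normalizer (Q : Set H) → ⁅L, B⁆ ≤ F → ⁅L, B⁆ = ⊥) ∧ (Nat.card ↥(Subgroup.centralizer ((F ⊔ L : Subgroup H) : Set H))).Coprime p := by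
  have hXe : generalizedFittingSubgroup H = FX H := rfl
  rw [hXe] at hL hF ⊢
  obtain ⟨hF1, hF2, hF3, hF4⟩ := hF
  have hXL : FX H ≤ Nz L := by rw [hL]; exact Subgroup.normalizer_commutator_ge_left _ _
  have hLX : L ≤ FX H := by rw [hL]; exact commutator_le_left_iff.2 (le_Nz_FX Q)
  have hLS : SN ⊤ L := sn_FX.trans (SN.of_normal hLX hXL)
  have hQL : Q ≤ Nz L := by rw [hL]; exact Subgroup.normalizer_commutator_ge_right _ _
  have hfac := fac hO sn_FX le_rfl hQ (le_Nz_FX Q)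
  rw [← hL] at hfac
  have e1 : F = FX H ⊓ Subgroup.centralizer ((L ⊔ Q : Subgroup H) : Set H) := by
    apply le_antisymm
    · refine le_inf hF1 ?_
      show F ≤ Cz (L ⊔ Q)
      rw [Cz_sup]
      refine le_inf ?_ (le_Cz_comm.1 hF3)
      rw [← commutator_eq_bot_iff_le_Cz', hL]
      apply three
      · rw [commutator_eq_bot_iff_le_Cz.2 hF3, Subgroup.commutator_bot_left]
      · rw [eq_bot_iff]
        have h1 : ⁅F, FX H⁆ ≤ F := commutator_le_left_iff.2 hF2
        refine (Subgroup.commutator_mono h1 le_rfl).trans ?_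
        rw [commutator_eq_bot_iff_le_Cz'.2 hF3]
    · have hD : Q ≤ Cz (FX H ⊓ Cz (L ⊔ Q)) := by
        rw [le_Cz_comm]
        exact inf_le_right.trans (Cz_anti le_sup_right)
      have hD2 : L ≤ Cz (FX H ⊓ Cz (L ⊔ Q)) := by
        rw [le_Cz_comm]
        exact inf_le_right.trans (Cz_anti le_sup_left)
      refine hF4 _ inf_le_left ?_ hD
      show FX H ≤ Nz (FX H ⊓ Cz (L ⊔ Q))
      conv_lhs => rw [← hfac.1]
      refine sup_le (hD2.trans (Cz_le_Nz _)) ?_
      refine le_trans (le_inf (inf_le_left.trans Subgroup.le_normalizer) ?_) (Nz_inf_le _ _)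
      refine le_trans ?_ (Nz_le_Nz_Cz _)
      exact le_trans (le_inf (inf_le_left.trans hXL) (inf_le_right.trans (Cz_le_Nz _))) (Nz_sup_le _ _)
  have hLF : L ≤ Cz F := by
    rw [le_Cz_comm, e1]
    exact inf_le_right.trans (Cz_anti le_sup_left)
  have hQF : Q ≤ Cz F := hF3
  have hgood : Good p L := good_of hO hLS hLX
  have e3 : L ⊓ F ≤ (frattini ↥L).map L.subtype := by
    have h1 : L ⊓ F ≤ ⁅L, L⁆ := by
      apply le_commutator_of_fixed hgood hQ hfac.2 inf_le_left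
      exact inf_le_right.trans (le_Cz_comm.1 hQF)
    intro x hx
    refine ⟨⟨x, hx.1⟩, center_inf_commutator_le_frattini ⟨?_, ?_⟩, rfl⟩
    · refine Subgroup.mem_center_iff.2 ?_
      rintro ⟨y, hy⟩
      apply Subtype.ext
      exact (Subgroup.mem_centralizer_iff.1 ((le_Cz_comm.1 hLF) hx.2)) y hy
    · show (⟨x, hx.1⟩ : L) ∈ commutator ↥L
      rw [mem_commutator_coe]
      exact h1 hx
  refine ⟨e1, hfac.2, e3, ?_, ?_⟩
  · intro B hB hBQ hBF
    have hBL : B ≤ Nz L := by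
      rw [hL]
      exact le_trans (le_inf (le_Nz_FX B) hBQ) (Nz_commutator_le _ _)
    have h1 := (thmA hgood hB hBL).1
    have h2 : ⁅L, B⁆ ≤ (frattini ↥L).map L.subtype := le_trans (le_inf (commutator_le_left_iff.2 hBL) hBF) e3
    have h3 : (L ⊓ Cz B).subgroupOf L ⊔ frattini ↥L = ⊤ := by
      rw [eq_top_iff, ← Subgroup.map_subtype_le_map_subtype, Subgroup.map_sup, ← MonoidHom.range_eq_map,
        Subgroup.range_subtype, Subgroup.map_subgroupOf_eq_of_le inf_le_left]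
      conv_lhs => rw [← h1]
      rw [sup_comm]
      exact sup_le_sup_left h2 _
    have h4 := frattini_nongenerating h3
    rw [Subgroup.subgroupOf_eq_top] at h4
    exact commutator_eq_bot_iff_le_Cz.2 (h4.trans inf_le_right)
  · rw [Nat.coprime_comm, Nat.Prime.coprime_iff_not_dvd Fact.out]
    intro hd
    obtain ⟨x, hx⟩ := exists_prime_orderOf_dvd_card' p hd
    obtain ⟨Y₀, hY₀⟩ : ∃ Y₀, Y₀ = Subgroup.zpowers (x : H) := ⟨_, rfl⟩
    have hYp : IsPGroup p ↥Y₀ := by
      apply IsPGroup.of_card (n := 1)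
      rw [hY₀, Nat.card_zpowers, Subgroup.orderOf_coe, hx, pow_one]
    have hYle : Y₀ ≤ Cz (F ⊔ L) := by
      rw [hY₀, Subgroup.zpowers_le]; exact x.2
    rw [Cz_sup] at hYle
    have hYF : Y₀ ≤ Cz F := hYle.trans inf_le_left
    have hYL : Y₀ ≤ Cz L := hYle.trans inf_le_right
    have h1 : ⁅FX H, Y₀⁆ ≤ Cz L := by
      rw [← commutator_eq_bot_iff_le_Cz]
      apply three
      · rw [commutator_eq_bot_iff_le_Cz.2 hYL, Subgroup.commutator_bot_left]
      · rw [eq_bot_iff]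
        refine (Subgroup.commutator_mono (commutator_le_left_iff.2 hXL) le_rfl).trans ?_
        rw [commutator_eq_bot_iff_le_Cz'.2 hYL]
    have h2 : SN ⊤ (FX H ⊓ Cz L) := by
      refine sn_FX.trans (SN.of_normal inf_le_left ?_)
      exact le_trans (le_inf Subgroup.le_normalizer (hXL.trans (Nz_le_Nz_Cz _))) (Nz_inf_le _ _)
    have h3 := (fac hO h2 inf_le_left hQ (le_trans (le_inf (le_Nz_FX Q) (hQL.trans (Nz_le_Nz_Cz _))) (Nz_inf_le _ _))).1
    have h4 : FX H ⊓ Cz L ≤ Cz Y₀ := by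
      conv_lhs => rw [← h3]
      apply sup_le
      · refine le_trans (Subgroup.commutator_mono inf_le_left le_rfl) ?_
        rw [← hL]; exact le_Cz_comm.1 hYL
      · refine le_trans ?_ (le_Cz_comm.1 hYF)
        rw [e1]
        show FX H ⊓ Cz L ⊓ Cz Q ≤ FX H ⊓ Cz (L ⊔ Q)
        rw [Cz_sup, inf_assoc]
    have h5 : Y₀ = ⊥ := by
      apply eq_bot_of_comm hO hYp
      rw [commutator_eq_bot_iff_le_Cz]
      exact (le_inf (commutator_le_left_iff.2 (le_Nz_FX Y₀)) h1).trans h4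
    have h6 : orderOf (x : H) = 1 := by
      rw [← Nat.card_zpowers, ← hY₀, h5, Subgroup.card_bot]
    rw [Subgroup.orderOf_coe, hx] at h6
    exact (Fact.out : p.Prime).one_lt.ne' h6

end Cfsg.Agent.S2817
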