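import Cfsg.Statements.S2818
import Cfsg.Agent.H17_Frat

set_option autoImplicit false
open Cfsg

namespace Cfsg.Agent.S2818

open Cfsg.Agent.H17.Base Cfsg.Agent.H17.Amalgam
open scoped commutatorElement
/-- Let P be a finite p-subgroup of a group G and H a subgroup of N_G(P) with [P, H] ≤ Ω₁(Z(P)) (the elements of order dividing p in the centre of P). Then H centralizes the Frattini subgroup of P. -/
theorem result {G : Type*} [Group G] [Finite G] {p : ℕ} [Fact p.Prime] (P : Subgroup G) (hP : IsPGroup p ↥P) (H : Subgroup G) (hH : H ≤ Subgroup.normalizer (P : Set G)) (h : ⁅P, H⁆ ≤ Cfsg.omegaOne p (P ⊓ Subgroup.centralizer (P : Set G))) : ⁅(frattini ↥P).map P.subtype, H⁆ = ⊥ := by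
  rw [commutator_eq_bot_iff_le_Cz]
  have hkey : ∀ h ∈ H, ∀ x ∈ P, ∃ c ∈ OZ p P, h * x * h⁻¹ = c * x := by
    intro h hh x hx
    refine ⟨h * x * h⁻¹ * x⁻¹, ?_, by group⟩
    have h1 := Subgroup.commutator_mem_commutator hh hx
    rw [Subgroup.commutator_comm] at h1
    exact ‹⁅P, H⁆ ≤ Cfsg.omegaOne p (P ⊓ Subgroup.centralizer (P : Set G))› h1
  apply phiOf_le (p := p)
  · rw [Subgroup.commutator_le]
    intro x hx y hy
    rw [Subgroup.mem_centralizer_iff]
    intro h hh
    obtain ⟨c, hc, hcx⟩ := hkey h hh x hx
    obtain ⟨d, hd, hdy⟩ := hkey h hh y hy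
    have hcC := OZ_le_Cz _ hc
    have hdC := OZ_le_Cz _ hd
    rw [Subgroup.mem_centralizer_iff] at hcC hdC
    have e1 : h * ⁅x, y⁆ * h⁻¹ = ⁅c * x, d * y⁆ := by
      rw [← hcx, ← hdy, commutatorElement_def, commutatorElement_def]; group
    have e2 : ⁅c * x, d * y⁆ = ⁅x, y⁆ := by
      have a1 : c * x = x * c := (hcC x hx).symm
      have a2 : c * y = y * c := (hcC y hy).symm
      have a3 : d * x = x * d := (hdC x hx).symm
      have a4 : d * y = y * d := (hdC y hy).symm
      have a5 : c * d = d * c := hdC c (OZ_le _ hc)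
      rw [commutatorElement_def, commutatorElement_def]
      have e3 : c * x * (d * y) = (x * y) * (c * d) := by
        calc c * x * (d * y) = (c * x) * d * y := by group
          _ = x * c * d * y := by rw [a1]
          _ = x * (c * d) * y := by group
          _ = x * (d * c) * y := by rw [a5]
          _ = x * d * (c * y) := by group
          _ = x * d * (y * c) := by rw [a2]
          _ = x * (d * y) * c := by group
          _ = x * (y * d) * c := by rw [a4]
          _ = x * y * (d * c) := by group
          _ = x * y * (c * d) := by rw [a5]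
      have e4 : d * y * (c * x) = (y * x) * (c * d) := by
        calc d * y * (c * x) = (d * y) * c * x := by group
          _ = y * d * c * x := by rw [a4]
          _ = y * (d * c) * x := by group
          _ = y * (c * d) * x := by rw [a5]
          _ = y * c * (d * x) := by group
          _ = y * c * (x * d) := by rw [a3]
          _ = y * (c * x) * d := by group
          _ = y * (x * c) * d := by rw [a1]
          _ = y * x * (c * d) := by group
      calc c * x * (d * y) * (c * x)⁻¹ * (d * y)⁻¹ = (c * x * (d * y)) * (d * y * (c * x))⁻¹ := by group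
        _ = ((x * y) * (c * d)) * ((y * x) * (c * d))⁻¹ := by rw [e3, e4]
        _ = x * y * x⁻¹ * y⁻¹ := by group
    calc h * ⁅x, y⁆ = h * ⁅x, y⁆ * h⁻¹ * h := by group
      _ = ⁅x, y⁆ * h := by rw [e1, e2]
  · intro x hx
    rw [Subgroup.mem_centralizer_iff]
    intro h hh
    obtain ⟨c, hc, hcx⟩ := hkey h hh x hx
    have hcC := OZ_le_Cz _ hc
    rw [Subgroup.mem_centralizer_iff] at hcC
    have hcom : Commute c x := (hcC x hx).symm
    have hcp : c ^ p = 1 := (mem_OZ_iff.1 hc).2.2
    have e1 : h * x ^ p * h⁻¹ = x ^ p := by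
      rw [← conj_pow, hcx, hcom.mul_pow, hcp, one_mul]
    calc h * x ^ p = h * x ^ p * h⁻¹ * h := by group
      _ = x ^ p * h := by rw [e1]

end Cfsg.Agent.S2818
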