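import Cfsg.Statements.S2819
import Cfsg.Agent.H17_Frat

set_option autoImplicit false
open Cfsg

namespace Cfsg.Agent.S2819

open Cfsg.Agent.H17.Base Cfsg.Agent.H17.Amalgam
open scoped commutatorElement

theorem aux {G : Type*} [Group G] [Finite G] {p : ℕ} [Fact p.Prime] {P : Subgroup G} (hP : IsPGroup p ↥P)
    {y : G} (hy : y ∈ Nz P) (hyc : y ∈ Cz ⁅P, P⁆) (hel : ∀ x ∈ P, (y * x * y⁻¹ * x⁻¹) ^ p = 1) :
    ∀ u ∈ phiOf P, y * u * y⁻¹ * u⁻¹ ∈ ⁅P, P⁆ := by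
  have hPn : P ≤ Nz ⁅P, P⁆ := Subgroup.normalizer_commutator_ge_left _ _
  let N : Subgroup G :=
    { carrier := {u | u ∈ P ∧ y * u * y⁻¹ * u⁻¹ ∈ ⁅P, P⁆}
      mul_mem' := by
        rintro u v ⟨hu, hu'⟩ ⟨hv, hv'⟩
        refine ⟨mul_mem hu hv, ?_⟩
        have h1 := (Subgroup.mem_normalizer_iff.1 (hPn hu) _).1 hv'
        have h2 := mul_mem hu' h1
        have e : y * u * y⁻¹ * u⁻¹ * (u * (y * v * y⁻¹ * v⁻¹) * u⁻¹) = y * (u * v) * y⁻¹ * (u * v)⁻¹ := by group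
        rwa [e] at h2
      one_mem' := ⟨one_mem _, by simp [one_mem]⟩
      inv_mem' := by
        rintro u ⟨hu, hu'⟩
        refine ⟨inv_mem hu, ?_⟩
        have h1 := (Subgroup.mem_normalizer_iff.1 (hPn (inv_mem hu)) _).1 (inv_mem hu')
        have e : u⁻¹ * (y * u * y⁻¹ * u⁻¹)⁻¹ * u⁻¹⁻¹ = y * u⁻¹ * y⁻¹ * u⁻¹⁻¹ := by group
        rwa [e] at h1 }
  have h1 : phiOf P ≤ N := by
    apply phiOf_le (p := p)
    · intro x hx
      refine ⟨(commutator_le_left_iff.2 Subgroup.le_normalizer : ⁅P, P⁆ ≤ P) hx, ?_⟩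
      have := (Subgroup.mem_centralizer_iff.1 hyc) x hx
      have e : y * x * y⁻¹ * x⁻¹ = 1 := by rw [← this]; group
      rw [e]; exact one_mem _
    · intro x hx
      refine ⟨pow_mem hx p, ?_⟩
      have hyx : y * x * y⁻¹ ∈ P := (Subgroup.mem_normalizer_iff.1 hy x).1 hx
      have hd : y * x * y⁻¹ * x⁻¹ ∈ P := mul_mem hyx (inv_mem hx)
      have h2 := pow_mul_mem_commutator hd hx p
      have e1 : y * x * y⁻¹ * x⁻¹ * x = y * x * y⁻¹ := by group
      rw [hel x hx, inv_one, mul_one, e1, conj_pow] at h2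
      exact h2
  intro u hu
  exact (h1 hu).2
/-- Let P be a finite p-subgroup of a group G, H a subgroup of N_G(P), and Y a subgroup of H centralizing the derived subgroup P' such that [P, Y] is elementary abelian. Then O^p(⟨Y^H⟩), the subgroup of the normal closure of Y in H generated by its elements of order prime to p, centralizes the Frattini subgroup of P. -/
theorem result {G : Type*} [Group G] [Finite G] {p : ℕ} [Fact p.Prime] (P : Subgroup G) (hP : IsPGroup p ↥P) (H : Subgroup G) (hH : H ≤ Subgroup.normalizer (P : Set G)) (Y : Subgroup G) (hYH : Y ≤ H) (hYc : Y ≤ Subgroup.centralizer ((⁅P, P⁆ : Subgroup G) : Set G)) (hel : Cfsg.IsElementaryAbelian p ⁅P, Y⁆) (NY : Subgroup G) (hNY : NY = (Subgroup.normalClosure ((Y.subgroupOf H : Subgroup ↥H) : Set ↥H)).map H.subtype) : (Cfsg.pResidual p ↥NY).map NY.subtype ≤ Subgroup.centralizer (((frattini ↥P).map P.subtype : Subgroup G) : Set G) := by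
  have hHP' : H ≤ Nz ⁅P, P⁆ := hH.trans ((le_inf le_rfl le_rfl).trans (Nz_commutator_le P P))
  have hHΦ : H ≤ Nz (phiOf P) := hH.trans (Nz_le_Nz_phiOf P)
  have hD : Y ≤ chainStab (phiOf P) ⁅P, P⁆ ⊓ Cz ⁅P, P⁆ := by
    intro y hy
    refine ⟨⟨hHΦ (hYH hy), aux hP (hH (hYH hy)) (hYc hy) ?_⟩, hYc hy⟩
    intro x hx
    apply hel.2
    have h1 := Subgroup.commutator_mem_commutator hy hx
    rwa [Subgroup.commutator_comm] at h1
  have hDn : H ≤ Nz (chainStab (phiOf P) ⁅P, P⁆ ⊓ Cz ⁅P, P⁆) :=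
    (le_inf ((le_inf hHΦ hHP').trans (Nz_inf_le_Nz_chainStab _ _)) (hHP'.trans (Nz_le_Nz_Cz _))).trans (Nz_inf_le _ _)
  have hNYle : NY ≤ chainStab (phiOf P) ⁅P, P⁆ ⊓ Cz ⁅P, P⁆ := by
    rw [hNY, map_normalClosure_subgroupOf hYH]
    exact ncl_le hD hDn
  have hP'p : IsPGroup p ↥(⁅P, P⁆ : Subgroup G) := hP.to_le (commutator_le_left_iff.2 Subgroup.le_normalizer)
  exact resOf_le_Cz_of_chainStab hP'p (hNYle.trans inf_le_left) (hNYle.trans inf_le_right)

end Cfsg.Agent.S2819
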