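import Cfsg.Statements.S2820
import Cfsg.Agent.H17_PRed

set_option autoImplicit false
open Cfsg

namespace Cfsg.Agent.S2820

open Cfsg.Agent.H17.Base
/-- Let A and B be subnormal subgroups of the finite group H with A a p-group and B = O^p(B) (B generated by its elements of order prime to p). Then A normalizes B and B = O^p(AB), the subgroup of ⟨A, B⟩ generated by its elements of order prime to p. -/
theorem result {H : Type*} [Group H] [Finite H] {p : ℕ} [Fact p.Prime] (A B : Subgroup H) (hA : A.IsSubnormal) (hB : B.IsSubnormal) (hAp : IsPGroup p ↥A) (hBres : (Cfsg.pResidual p ↥B).map B.subtype = B) : A ≤ Subgroup.normalizer (B : Set H) ∧ (Cfsg.pResidual p ↥(A ⊔ B)).map (A ⊔ B).subtype = B := by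
  have hA' := sn_top_iff.2 hA
  have hB' := sn_top_iff.2 hB
  have hB2 : resOf p B = B := hBres
  have hAQ : A ≤ Cfsg.pCoreOf p (⊤ : Subgroup H) := hA'.le_pCoreOf hAp
  have h1 := hB'.pCoreOf_le_Nz_resOf (p := p)
  rw [hB2] at h1
  refine ⟨hAQ.trans h1, ?_⟩
  show resOf p (A ⊔ B) = B
  apply le_antisymm
  · have h2 : resOf p (B ⊔ Cfsg.pCoreOf p (⊤ : Subgroup H)) = B := (hB'.sup_pCoreOf_resOf (p := p)).trans hB2
    have h3 : A ⊔ B ≤ B ⊔ Cfsg.pCoreOf p (⊤ : Subgroup H) := sup_le (hAQ.trans le_sup_right) le_sup_left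
    exact (resOf_mono h3).trans h2.le
  · exact hB2.ge.trans (resOf_mono le_sup_right)

end Cfsg.Agent.S2820
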