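import Cfsg.Statements.S2823
import Cfsg.Agent.H17_Gas

set_option autoImplicit false
open Cfsg

namespace Cfsg.Agent.S2823

open Cfsg.Agent.H17.Base Cfsg.Agent.H17.Amalgam
open scoped commutatorElement
/-- Let H be a finite group, p a prime, T a Sylow p-subgroup and L a subgroup of characteristic p containing T; let Z_L be the subgroup generated by the Ω₁(Z(S)) over the Sylow p-subgroups S of L and O^p(L) the subgroup generated by the elements of L of order prime to p. Then Z_L = Ω₁(Z(L))·[Z_L, O^p(L)] and [Z_L, L] = [Z_L, O^p(L)]. -/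
theorem result {H : Type*} [Group H] [Finite H] {p : ℕ} [Fact p.Prime] (T : Sylow p H) (L : Subgroup H) (hTL : (T : Subgroup H) ≤ L) (hL : Subgroup.centralizer (Cfsg.pCore p ↥L : Set ↥L) ≤ Cfsg.pCore p ↥L) : Cfsg.sylowCenterClosure p L = (Cfsg.omegaOne p (L ⊓ Subgroup.centralizer ((L : Subgroup H) : Set H))) ⊔ ⁅Cfsg.sylowCenterClosure p L, (Cfsg.pResidual p ↥L).map L.subtype⁆ ∧ ⁅Cfsg.sylowCenterClosure p L, L⁆ = ⁅Cfsg.sylowCenterClosure p L, (Cfsg.pResidual p ↥L).map L.subtype⁆ := by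
  have hLc := charP_iff.1 hL
  have hT := (isSylowIn_coe T).mono hTL le_top
  set W := Cfsg.sylowCenterClosure p L with hW
  have hWr : IsPRed p W L := isPRed_sylowCenterClosure hLc
  have hWL : W ≤ L := hWr.le
  show W = OZ p L ⊔ ⁅W, resOf p L⁆ ∧ ⁅W, L⁆ = ⁅W, resOf p L⁆
  set U := ⁅W, resOf p L⁆ with hU
  have hLU : L ≤ Nz U := (le_inf hWr.norm (le_Nz_resOf L)).trans (Nz_commutator_le _ _)
  have hUW : U ≤ W := commutator_le_left_iff.2 ((resOf_le L).trans hWr.norm)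
  have hZW : OZ p (T : Subgroup H) ≤ W := OZ_le_sylowCenterClosure hT
  have h1 : ∀ g ∈ L, ∀ z ∈ OZ p (T : Subgroup H), g * z * g⁻¹ * z⁻¹ ∈ U := by
    intro g hg z hz
    have hg' : g ∈ resOf p L ⊔ (T : Subgroup H) := by rw [resOf_sup_sylow hT]; exact hg
    rw [mem_sup_of_le_Nz' (hTL.trans (le_Nz_resOf L))] at hg'
    obtain ⟨a, ha, t, ht, rfl⟩ := hg'
    have h2 := (Subgroup.mem_centralizer_iff.1 (OZ_le_Cz _ hz)) t ht
    have e : a * t * z * (a * t)⁻¹ * z⁻¹ = a * z * a⁻¹ * z⁻¹ := by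
      calc a * t * z * (a * t)⁻¹ * z⁻¹ = a * (t * z) * t⁻¹ * a⁻¹ * z⁻¹ := by group
        _ = _ := by rw [h2]; group
    rw [e, hU, Subgroup.commutator_comm]
    exact Subgroup.commutator_mem_commutator ha (hZW hz)
  have hWZ : W ≤ OZ p (T : Subgroup H) ⊔ U := by
    rw [hW, sylowCenterClosure_eq_ncl hT, ncl_le_iff]
    rintro g hg _ ⟨z, hz, rfl⟩
    show g * z * g⁻¹ ∈ _
    have e : g * z * g⁻¹ = (g * z * g⁻¹ * z⁻¹) * z := by group
    rw [e]
    exact mul_mem ((le_sup_right : U ≤ _) (h1 g hg z hz)) ((le_sup_left : OZ p (T : Subgroup H) ≤ _) hz)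
  refine ⟨?_, ?_⟩
  · apply le_antisymm
    · refine hWZ.trans (sup_le ?_ le_sup_right)
      intro z hz
      obtain ⟨c, hc, hcz⟩ := gaschutz hWr.ea hWr.norm hT (hZW hz) (OZ_le_Cz _ hz) (fun g hg => h1 g hg z hz)
      have hc' : c ∈ OZ p L := mem_OZ (hWL hc.1) hc.2 (hWr.ea.2 c hc.1)
      have e : z = (c * z⁻¹)⁻¹ * c := by group
      rw [e]
      exact mul_mem ((le_sup_right : U ≤ _) (inv_mem hcz)) ((le_sup_left : OZ p L ≤ _) hc')
    · exact sup_le ((OZ_le_OZ_sylow hT).trans hZW) hUW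
  · apply le_antisymm
    · rw [Subgroup.commutator_comm, Subgroup.commutator_le]
      intro g hg w hw
      have hw' := hWZ hw
      have hZU : OZ p (T : Subgroup H) ≤ Nz U := (hZW.trans hWL).trans hLU
      rw [mem_sup_of_le_Nz hZU] at hw'
      obtain ⟨z, hz, u, hu, rfl⟩ := hw'
      have hgu : g * u * g⁻¹ ∈ U := (Subgroup.mem_normalizer_iff.1 (hLU hg) u).1 hu
      have h2 := (Subgroup.mem_normalizer_iff.1 (hZU hz) _).1 (mul_mem hgu (inv_mem hu))
      have h3 := mul_mem (h1 g hg z hz) h2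
      have e : g * z * g⁻¹ * z⁻¹ * (z * (g * u * g⁻¹ * u⁻¹) * z⁻¹) = ⁅g, z * u⁆ := by
        rw [commutatorElement_def]; group
      rwa [e] at h3
    · exact Subgroup.commutator_mono le_rfl (resOf_le L)

end Cfsg.Agent.S2823
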