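import Cfsg.Statements.S2824
import Cfsg.Agent.H17_PRed2

set_option autoImplicit false
open Cfsg

namespace Cfsg.Agent.S2824

open Cfsg.Agent.H17.Base Cfsg.Agent.H17.Amalgam
/-- Let H be a finite group, p a prime, T a Sylow p-subgroup, L and M subgroups of characteristic p containing T, Y_L the largest p-reduced normal subgroup of L and T₀ = C_T(Y_L). If M·C_H(Y_L) = L·C_H(Y_L), then L* := N_M(T₀) has Y_{L*} = Y_L and L·C_H(Y_L) = L*·C_H(Y_L). -/
theorem result {H : Type*} [Group H] [Finite H] {p : ℕ} [Fact p.Prime] (T : Sylow p H) (L M : Subgroup H) (hTL : (T : Subgroup H) ≤ L) (hTM : (T : Subgroup H) ≤ M) (hL : Subgroup.centralizer (Cfsg.pCore p ↥L : Set ↥L) ≤ Cfsg.pCore p ↥L) (hM : Subgroup.centralizer (Cfsg.pCore p ↥M : Set ↥M) ≤ Cfsg.pCore p ↥M) (T₀ : Subgroup H) (hT₀ : T₀ = (T : Subgroup H) ⊓ Subgroup.centralizer (((Cfsg.largestPReducedOf p L) : Subgroup H) : Set H)) (hfac : M ⊔ Subgroup.centralizer (((Cfsg.largestPReducedOf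 p L) : Subgroup H) : Set H) = L ⊔ Subgroup.centralizer (((Cfsg.largestPReducedOf p L) : Subgroup H) : Set H)) (Ls : Subgroup H) (hLs : Ls = M ⊓ Subgroup.normalizer ((T₀ : Subgroup H) : Set H)) : (Cfsg.largestPReducedOf p Ls) = (Cfsg.largestPReducedOf p L) ∧ L ⊔ Subgroup.centralizer (((Cfsg.largestPReducedOf p L) : Subgroup H) : Set H) = Ls ⊔ Subgroup.centralizer (((Cfsg.largestPReducedOf p L) : Subgroup H) : Set H) := by
  have hLc := charP_iff.1 hL
  have hMc := charP_iff.1 hM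
  have hT := isSylowIn_coe T
  have hTL' := hT.mono hTL le_top
  have hTM' := hT.mono hTM le_top
  obtain ⟨f1, f2, f3, f4, f5, f6⟩ := largest_facts hLc hTL' hT₀
  set Y := Cfsg.largestPReducedOf p L with hY
  have hYr : IsPRed p Y L := isPRed_largest L
  have hMn : M ≤ Nz Y := (le_sup_left.trans hfac.le).trans (sup_le hYr.norm (Cz_le_Nz _))
  have hMC : M ≤ Nz (Cz Y) := hMn.trans (Nz_le_Nz_Cz Y)
  have hNoPM : NoP p Y M := hYr.noP.congr hYr.norm hMn (le_sup_left.trans hfac.ge) (le_sup_left.trans hfac.le)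
  have hCM : M ≤ Nz (M ⊓ Cz Y) := (le_inf Subgroup.le_normalizer hMC).trans (Nz_inf_le _ _)
  have hT0M : IsSylowIn p T₀ (M ⊓ Cz Y) := by
    have h1 := hTM'.inf_normal (inf_le_left : M ⊓ Cz Y ≤ M) hCM
    have e : (T : Subgroup H) ⊓ (M ⊓ Cz Y) = T₀ := by rw [hT₀, ← inf_assoc, inf_eq_left.2 hTM]
    rwa [e] at h1
  have hfacM : (M ⊓ Cz Y) ⊔ (M ⊓ Nz T₀) = M := frattini_le hT0M inf_le_left hCM
  have hMLs : M ≤ Ls ⊔ Cz Y := by
    conv_lhs => rw [← hfacM]
    rw [hLs]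
    exact sup_le (inf_le_right.trans le_sup_right) le_sup_left
  have hLsM : Ls ≤ M := by rw [hLs]; exact inf_le_left
  have hfac2 : L ⊔ Cz Y = Ls ⊔ Cz Y := by
    apply le_antisymm
    · exact sup_le ((le_sup_left.trans hfac.ge).trans (sup_le hMLs le_sup_right)) le_sup_right
    · exact sup_le ((hLsM.trans le_sup_left).trans hfac.le) le_sup_right
  have hLsn : Ls ≤ Nz Y := hLsM.trans hMn
  have hNoPLs : NoP p Y Ls := hYr.noP.congr hYr.norm hLsn (le_sup_left.trans hfac2.le) (le_sup_left.trans hfac2.ge)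
  have hTLs : (T : Subgroup H) ≤ Ls := by
    rw [hLs]
    exact le_inf hTM (f2.trans inf_le_right)
  have hTLs' : IsSylowIn p (T : Subgroup H) Ls := hT.mono hTLs le_top
  have hLsc : CharP p Ls := hMc.of_sylow_le hLsM hTM' hTLs
  have hYT : Y ≤ T := (hYr.le_pCoreOf).trans (pCoreOf_le_sylow hTL')
  have hYLs : IsPRed p Y Ls := ⟨hYT.trans hTLs, hLsn, hYr.ea, hNoPLs⟩
  refine ⟨?_, hfac2⟩
  apply le_antisymm _ hYLs.le_largest
  -- O_p(Ls) = T₀
  have hT0Ls : T₀ ≤ Cfsg.pCoreOf p Ls := by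
    apply le_pCoreOf _ _ f1.isPGroup
    · rw [hLs]; exact le_inf (hT0M.le.trans inf_le_left) Subgroup.le_normalizer
    · rw [hLs]; exact inf_le_right
  have hOLs : Cfsg.pCoreOf p Ls ≤ T₀ := by
    rw [hT₀]
    exact le_inf (pCoreOf_le_sylow hTLs') (hNoPLs.pCoreOf_le hLsn)
  have heq : Cfsg.pCoreOf p Ls = T₀ := le_antisymm hOLs hT0Ls
  have h1 := (isPRed_largest (p := p) Ls).le_OZ
  rw [heq, ← f5] at h1
  exact h1

end Cfsg.Agent.S2824
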