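import Cfsg.Statements.S2825
import Cfsg.Agent.H17_YSN

set_option autoImplicit false
open Cfsg

namespace Cfsg.Agent.S2825

open Cfsg.Agent.H17.Base in
/-- Let L be a subnormal subgroup of the finite group H, p a prime, Y_H and Y_L the largest p-reduced normal subgroups. Then Y_H ∩ L = Y_H ∩ Y_L and this subgroup is a p-reduced normal subgroup of L; C_L(Y_L) = C_L(Y_H) = C_L(Y_H ∩ L); and if O^p(H) ≤ L, then [Y_L, L] = 1 if and only if [Y_H, H] = 1. -/
theorem result {H : Type*} [Group H] [Finite H] {p : ℕ} [Fact p.Prime] (L : Subgroup H) (hL : L.IsSubnormal) : Cfsg.largestPReduced p H ⊓ L = Cfsg.largestPReduced p H ⊓ (Cfsg.largestPReducedOf p L) ∧ Cfsg.IsPReducedNormal p ((Cfsg.largestPReduced p H ⊓ L).subgroupOf L) ∧ L ⊓ Subgroup.centralizer ((Cfsg.largestPReducedOf p L : Subgroup H) : Set H) = L ⊓ Subgroup.centralizer (Cfsg.largestPReduced p H : Set H) ∧ L ⊓ Subgroup.centralizer (Cfsg.largestPReduced p H : Set H) = L ⊓ Subgroup.centralizer ((Cfsg.largestPReduced p H ⊓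 L : Subgroup H) : Set H) ∧ (Cfsg.pResidual p H ≤ L → (⁅(Cfsg.largestPReducedOf p L), L⁆ = ⊥ ↔ ⁅Cfsg.largestPReduced p H, (⊤ : Subgroup H)⁆ = ⊥)) := by
  rw [← largestPReducedOf_top]
  have hs : SN ⊤ L := sn_top_iff.2 hL
  have h1 := isPRed_inf_of_SN (p := p) hs
  have h2 := Cz_largest_of_SN (p := p) hs
  have h3 := inf_Cz_largest_of_SN (p := p) hs
  have hYL := isPRed_largest (p := p) L
  have hYH := isPRed_largest (p := p) (⊤ : Subgroup H)
  refine ⟨?_, (isPReducedNormal_subgroupOf_iff inf_le_right).2 h1, h2, h3.symm, ?_⟩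
  · apply le_antisymm (le_inf inf_le_left h1.le_largest)
    exact inf_le_inf_left _ hYL.le
  · intro hres
    rw [commutator_eq_bot_iff_le_Cz', commutator_eq_bot_iff_le_Cz']
    constructor
    · intro h
      have h4 : L ≤ Cz (largestPReducedOf p (⊤ : Subgroup H)) := by
        rw [← inf_eq_left.2 h, h2]; exact inf_le_right
      apply hYH.noP _ le_rfl Subgroup.le_normalizer
      rw [resOf_top]
      exact hres.trans h4
    · intro h
      have h5 : L ≤ L ⊓ Cz (largestPReducedOf p (⊤ : Subgroup H)) := le_inf le_rfl (le_top.trans h)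
      rw [← h2] at h5
      exact h5.trans inf_le_right

end Cfsg.Agent.S2825
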