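import Cfsg.Statements.S2826
import Cfsg.Agent.H17_PRed2

set_option autoImplicit false
open Cfsg

namespace Cfsg.Agent.S2826

open Cfsg.Agent.H17.Base Cfsg.Agent.H17.Amalgam
open scoped commutatorElement
/-- Let H be a finite group of characteristic p, T a Sylow p-subgroup, and V a normal elementary abelian p-subgroup of H containing Ω₁(Z(T)). Then C_H(Ω₁(Z(T))) = C_H([V, O^p(H)] ∩ Ω₁(Z(T))), O^p(H) being generated by the elements of order prime to p. -/
theorem result {H : Type*} [Group H] [Finite H] {p : ℕ} [Fact p.Prime] (hH : Subgroup.centralizer (Cfsg.pCore p H : Set H) ≤ Cfsg.pCore p H) (T : Sylow p H) (V : Subgroup H) [V.Normal] (hV : Cfsg.IsElementaryAbelian p V) (hZV : (Cfsg.omegaOne p ((T : Subgroup H) ⊓ Subgroup.centralizer (((T : Subgroup H) : Subgroup H) : Set H))) ≤ V) : Subgroup.centralizer ((Cfsg.omegaOne p ((T : Subgroup H) ⊓ Subgroup.centralizer (((T : Subgroup H) : Subgroup H) : Set H))) : Set H) = Subgroup.centralizer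 (((⁅V, Cfsg.pResidual p H⁆ ⊓ (Cfsg.omegaOne p ((T : Subgroup H) ⊓ Subgroup.centralizer (((T : Subgroup H) : Subgroup H) : Set H)))) : Subgroup H) : Set H) := by
  have hT := isSylowIn_coe T
  have hVn : (⊤ : Subgroup H) ≤ Nz V := normal_iff_top_le_Nz.1 inferInstance
  have hVT : V ≤ T := hT.le_of_normal (ea_isPGroup hV) le_top hVn
  have hres : resOf p (⊤ : Subgroup H) = Cfsg.pResidual p H := resOf_top
  rw [← hres]
  set U := ⁅V, resOf p (⊤ : Subgroup H)⁆ with hU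
  show Cz (OZ p (T : Subgroup H)) = Cz (U ⊓ OZ p (T : Subgroup H))
  apply le_antisymm (Cz_anti inf_le_right)
  set D := Cz (U ⊓ OZ p (T : Subgroup H)) with hD
  have hTD : (T : Subgroup H) ≤ D := by
    rw [hD]; exact (le_Cz_comm.1 (OZ_le_Cz _)).trans (Cz_anti inf_le_right)
  have hTD' : IsSylowIn p (T : Subgroup H) D := hT.mono hTD le_top
  rw [le_Cz_comm]
  intro z hz
  have hzV : z ∈ V := hZV hz
  obtain ⟨c, hc, hcz⟩ := gaschutz hV (le_top.trans hVn) hTD' hzV (OZ_le_Cz _ hz) (U := U) (by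
    intro g _
    have hg' : g ∈ resOf p (⊤ : Subgroup H) ⊔ (T : Subgroup H) := by rw [resOf_sup_sylow hT]; trivial
    rw [mem_sup_of_le_Nz' (le_top.trans (le_Nz_resOf ⊤))] at hg'
    obtain ⟨a, ha, t, ht, rfl⟩ := hg'
    have h2 := (Subgroup.mem_centralizer_iff.1 (OZ_le_Cz _ hz)) t ht
    have e : a * t * z * (a * t)⁻¹ * z⁻¹ = a * z * a⁻¹ * z⁻¹ := by
      calc a * t * z * (a * t)⁻¹ * z⁻¹ = a * (t * z) * t⁻¹ * a⁻¹ * z⁻¹ := by group
        _ = _ := by rw [h2]; group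
    rw [e, hU, Subgroup.commutator_comm]
    exact Subgroup.commutator_mem_commutator ha hzV)
  have h1 : c * z⁻¹ ∈ OZ p (T : Subgroup H) := by
    apply mem_OZ (hVT (mul_mem hc.1 (inv_mem hzV)))
    · exact mul_mem (Cz_anti hTD hc.2) (inv_mem (OZ_le_Cz _ hz))
    · exact hV.2 _ (mul_mem hc.1 (inv_mem hzV))
  have h2 : c * z⁻¹ ∈ Cz D := le_Cz_comm.1 (le_refl D) ⟨hcz, h1⟩
  have e : z = (c * z⁻¹)⁻¹ * c := by group
  rw [e]
  exact mul_mem (inv_mem h2) hc.2

end Cfsg.Agent.S2826
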