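import Cfsg.Statements.S2830
import Cfsg.Agent.H17_PIrr2

set_option autoImplicit false
open Cfsg

namespace Cfsg.Agent.S2830

open Cfsg.Agent.H17.Base
/-- Let H act by conjugation on the elementary abelian p-subgroup V of a finite group G (H ≤ N(V)), with H p-irreducible and O^p(H) not centralizing V. Then C_H(V) is p-closed and C_T(V) ≤ O_p(H) for every p-subgroup T of H. If in addition O_p(H) centralizes V, then C_T(V) = T ∩ O_p(H) for every p-subgroup T of H, and V is p-reduced for H: O_p(H/C_H(V)) = 1. -/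
theorem result {G : Type*} [Group G] [Finite G] {p : ℕ} [Fact p.Prime] (V H : Subgroup G) (hV : Cfsg.IsElementaryAbelian p V) (hHV : H ≤ Subgroup.normalizer (V : Set G)) (hH : Cfsg.IsPIrreducible p ↥H) (hnc : ¬ (Cfsg.pResidual p ↥H).map H.subtype ≤ Subgroup.centralizer (V : Set G)) [hn : ((Subgroup.centralizer (V : Set G)).subgroupOf H).Normal] : Cfsg.IsPClosed p ↥(H ⊓ Subgroup.centralizer (V : Set G)) ∧ (∀ T : Subgroup G, T ≤ H → IsPGroup p ↥T → T ⊓ Subgroup.centralizer (V : Set G) ≤ Cfsg.pCoreOf p H) ∧ (Cfsg.pCoreOf p H ≤ Subgroup.centralizer (V : Set G) → (∀ T : Subgroup G, T ≤ H → IsPGroup p ↥T → T ⊓ Subgroup.centralizer (V : Set G) = T ⊓ Cfsg.pCoreOf p H) ∧ Cfsg.pCore p (↥H ⧸ (Subgroup.centralizer (V : Set G)).subgroupOf H) = ⊥) := by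
  have hH' := isPIrreducible_iff.1 hH
  have hCn : H ≤ Nz (H ⊓ Cz V) := (le_inf Subgroup.le_normalizer (hHV.trans (Nz_le_Nz_Cz V))).trans (Nz_inf_le _ _)
  have hcl : PCl p (H ⊓ Cz V) := by
    by_contra hcl
    exact hnc ((hH'.2 _ inf_le_left hCn hcl).trans inf_le_right)
  have h2 : ∀ T : Subgroup G, T ≤ H → IsPGroup p ↥T → T ⊓ Subgroup.centralizer (V : Set G) ≤ Cfsg.pCoreOf p H := by
    intro T hT hTp
    exact hcl.le_pCoreOf' inf_le_left hCn (inf_le_inf_right _ hT) (hTp.to_le inf_le_left)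
  refine ⟨isPClosed_iff.2 hcl, h2, ?_⟩
  intro hO
  refine ⟨?_, ?_⟩
  · intro T hT hTp
    exact le_antisymm (le_inf inf_le_left (h2 T hT hTp)) (le_inf inf_le_left (inf_le_right.trans hO))
  · rw [noP_iff_pCore]
    intro K hKH hHK hres
    by_cases hK : PCl p K
    · obtain ⟨T, hT⟩ := exists_isSylowIn p K
      rw [← resOf_sup_sylow hT]
      exact sup_le hres ((hK.le_pCoreOf' hKH hHK hT.le hT.isPGroup).trans hO)
    · exfalso
      apply hnc
      show resOf p H ≤ Cz V
      have h3 := resOf_mono (p := p) (hH'.2 K hKH hHK hK)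
      rw [resOf_resOf] at h3
      exact h3.trans hres

end Cfsg.Agent.S2830
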