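import Cfsg.Statements.S2832
import Cfsg.Agent.H17_PIrr2

set_option autoImplicit false
open Cfsg

namespace Cfsg.Agent.S2832

open Cfsg.Agent.H17.Base
/-- Let H be a finite group with Sylow p-subgroup T such that H is T-minimal (generated by the conjugates of T, with T in exactly one maximal subgroup), and let N be a normal subgroup of H. Then either H/N is a p-group or H/N is minimal over the image of T in the same sense. -/
theorem result {H : Type*} [Group H] [Finite H] {p : ℕ} [Fact p.Prime] (T : Sylow p H) (hmin : Cfsg.IsMinimalOver (T : Subgroup H)) (N : Subgroup H) [N.Normal] : IsPGroup p (H ⧸ N) ∨ Cfsg.IsMinimalOver ((T : Subgroup H).map (QuotientGroup.mk' N)) := by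
  obtain ⟨M, hM⟩ := isMinimalOver_iff_top.1 hmin
  have hs := QuotientGroup.mk'_surjective N
  have htop : (⊤ : Subgroup H).map (QuotientGroup.mk' N) = ⊤ := Subgroup.map_top_of_surjective _ hs
  by_cases h : (T : Subgroup H) ⊔ N = ⊤
  · left
    have h1 : (T : Subgroup H).map (QuotientGroup.mk' N) = ⊤ := map_mk_eq_top_iff.2 h
    have h2 : IsPGroup p ↥((T : Subgroup H).map (QuotientGroup.mk' N)) := T.isPGroup'.map _
    rw [h1] at h2
    exact h2.of_equiv Subgroup.topEquiv
  · right
    have hNM : N ≤ M := le_sup_right.trans (hM.max _ le_sup_left le_top (fun h' => h (top_le_iff.1 h')))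
    rw [isMinimalOver_iff_top]
    refine ⟨M.map (QuotientGroup.mk' N), ?_, ?_, Subgroup.map_mono hM.le, ?_⟩
    · rw [← htop, ← map_ncl, hM.ncl_eq]
    · rw [lt_top_iff_ne_top, Ne, map_mk_eq_top_iff, sup_eq_left.2 hNM]
      exact hM.lt.ne
    · intro X hX _ hXtop
      have e : (X.comap (QuotientGroup.mk' N)).map (QuotientGroup.mk' N) = X :=
        Subgroup.map_comap_eq_self_of_surjective hs X
      rw [← e]
      apply Subgroup.map_mono
      apply hM.max _ (Subgroup.map_le_iff_le_comap.1 hX) le_top
      intro h'
      apply hXtop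
      have := Subgroup.map_mono (f := QuotientGroup.mk' N) h'
      rwa [htop, e] at this

end Cfsg.Agent.S2832
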