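import Cfsg.Statements.S2834
import Cfsg.Agent.H17_LLemma

set_option autoImplicit false
open Cfsg

namespace Cfsg.Agent.S2834

open Cfsg.Agent.H17.Base Cfsg.Agent.H17.LLemma in
/-- The L-Lemma: let H be a finite group with Sylow p-subgroup T such that H is T-minimal (generated by the conjugates of T, T in exactly one maximal subgroup M), and let A ≤ T with A not contained in O_p(H). Then there is a subgroup L of H containing A·O_p(H) such that (a) A·O_p(L) lies in exactly one maximal subgroup L₀ of L, and L₀ = L ∩ gMg⁻¹ for some g ∈ H; (b) L = ⟨A, xAx⁻¹⟩·O_p(L) for every x ∈ L outside L₀. -/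
theorem result {H : Type*} [Group H] [Finite H] {p : ℕ} [Fact p.Prime] (T : Sylow p H) (hmin : Cfsg.IsMinimalOver (T : Subgroup H)) (M : Subgroup H) (hM : IsCoatom M ∧ (T : Subgroup H) ≤ M) (A : Subgroup H) (hAT : A ≤ (T : Subgroup H)) (hA : ¬ A ≤ Cfsg.pCore p H) : ∃ L : Subgroup H, A ⊔ Cfsg.pCore p H ≤ L ∧ ∃ L₀ : Subgroup H, A ⊔ (Cfsg.pCoreOf p L) ≤ L₀ ∧ L₀ < L ∧ (∀ X : Subgroup H, A ⊔ (Cfsg.pCoreOf p L) ≤ X → X < L → X ≤ L₀) ∧ (∃ g : H, L₀ = L ⊓ ((M : Subgroup H).map (MulAut.conj (g : H)).toMonoidHom)) ∧ ∀ x ∈ L, x ∉ L₀ → (A ⊔ ((A : Subgroup H).map (MulAut.conj (x : H)).toMonoidHom)) ⊔ (Cfsg.pCoreOf p L) = L := by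
  obtain ⟨M', hmin'⟩ := isMinimalOver_iff_top.1 hmin
  have := pCore_normal p H
  have hmM := isMinOver_coatom hmin hM.1 hM.2
  have hT : IsSylowIn p (T : Subgroup H) ⊤ := isSylowIn_coe T
  have hA' : IsPGroup p ↥(A ⊔ pCore p H) := by
    apply isPGroup_sup_of_le_Nz (T.isPGroup'.to_le hAT) (pCore_isPGroup p H)
    exact le_Nz_of_normal _ _
  have hA'O : ¬ A ⊔ pCore p H ≤ pCore p H := fun h => hA (le_sup_left.trans h)
  obtain ⟨a, L, haL, h0, hLM, hX, hx⟩ := core hmM hT hA' hA'O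
  have hcO : cj a (pCore p H) = pCore p H := cj_eq_of_normal _ (pCore_normal p H)
  have hOL : pCore p H ≤ L := by
    rw [← hcO]; exact (cj_mono le_sup_right).trans haL
  have hO : pCore p H ≤ pCoreOf p L := by
    exact le_pCoreOf hOL (le_Nz_of_normal _ _) (pCore_isPGroup p H)
  have hAO' : cj a (A ⊔ pCore p H) ⊔ pCoreOf p L = cj a A ⊔ pCoreOf p L := by
    rw [cj_sup, hcO, sup_assoc, sup_eq_right.2 hO]
  have hcL : pCoreOf p (cj a⁻¹ L) = cj a⁻¹ (pCoreOf p L) := pCoreOf_cj _ _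
  have hback : ∀ X : Subgroup H, A ⊔ pCoreOf p (cj a⁻¹ L) ≤ X ↔ cj a A ⊔ pCoreOf p L ≤ cj a X := by
    intro X
    rw [hcL]
    constructor
    · intro h
      have := cj_mono (g := a) h
      rwa [cj_sup, cj_cj_inv] at this
    · intro h
      have := cj_mono (g := a⁻¹) h
      rwa [cj_sup, cj_inv_cj, cj_inv_cj] at this
  refine ⟨cj a⁻¹ L, ?_, cj a⁻¹ (L ⊓ M), ?_, ?_, ?_, ⟨a⁻¹, ?_⟩, ?_⟩
  · rw [← cj_le_iff]; exact haL
  · rw [hback, cj_cj_inv, ← hAO']; exact h0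
  · refine lt_of_le_of_ne (cj_mono inf_le_left) ?_
    intro h
    apply hLM
    have := congrArg (cj a) h
    rw [cj_cj_inv, cj_cj_inv] at this
    rw [← this]; exact inf_le_right
  · intro X h1 h2
    rw [hback, ← hAO'] at h1
    have h3 : cj a X < L := by
      refine lt_of_le_of_ne (by rw [cj_le_iff]; exact h2.le) ?_
      intro h
      apply h2.ne
      rw [← h, cj_inv_cj]
    rw [← cj_le_iff]
    exact hX _ h1 h3
  · exact cj_inf _ _ _
  · intro x hxL hxL0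
    rw [mem_cj, inv_inv] at hxL hxL0
    have h1 := hx (a * x * a⁻¹) hxL (fun h => hxL0 ⟨hxL, h⟩)
    have h2 : cj (a * x * a⁻¹) (cj a (A ⊔ pCore p H)) = cj a (cj x (A ⊔ pCore p H)) := by
      rw [← cj_mul, ← cj_mul]; congr 1; group
    have hcx : cj x (pCore p H) = pCore p H := cj_eq_of_normal _ (pCore_normal p H)
    have h3 : (cj a (A ⊔ pCore p H) ⊔ cj (a * x * a⁻¹) (cj a (A ⊔ pCore p H))) ⊔ pCoreOf p L = cj a (A ⊔ cj x A) ⊔ pCoreOf p L := by
      rw [h2, cj_sup a A, cj_sup x, hcx, cj_sup a (cj x A), hcO, cj_sup a A]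
      apply le_antisymm
      · refine sup_le (sup_le (sup_le ?_ ?_) (sup_le ?_ ?_)) le_sup_right
        · exact le_sup_left.trans le_sup_left
        · exact hO.trans le_sup_right
        · exact le_sup_right.trans le_sup_left
        · exact hO.trans le_sup_right
      · exact sup_le_sup_right (sup_le_sup le_sup_left le_sup_left) _
    rw [h3] at h1
    show (A ⊔ cj x A) ⊔ pCoreOf p (cj a⁻¹ L) = cj a⁻¹ L
    rw [hcL]
    conv_rhs => rw [← h1, cj_sup, cj_inv_cj]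

end Cfsg.Agent.S2834
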