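import Cfsg.Statements.S2835
import Cfsg.Agent.H17_PIrr2

set_option autoImplicit false
open Cfsg

namespace Cfsg.Agent.S2835

open Cfsg.Agent.H17.Base
/-- Let L be a finite group, L₀ a maximal subgroup, T a Sylow p-subgroup of L₀ and Y ≤ T, and suppose L is Y-minimal (generated by the conjugates of Y, with Y in exactly one maximal subgroup, necessarily L₀). Then N_L(T) ≤ L₀, O_p(L) ≤ L₀ and T is a Sylow p-subgroup of L; N_L(L₀) = L₀; L = ⟨Y, gYg⁻¹⟩ for each g ∈ L outside L₀; and if Y is abelian then Y ∩ gYg⁻¹ = C_Y(L) for each such g. -/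
theorem result {L : Type*} [Group L] [Finite L] {p : ℕ} [Fact p.Prime] (L₀ : Subgroup L) (hL₀ : IsCoatom L₀) (T : Sylow p ↥L₀) (Y : Subgroup L) (hYT : Y ≤ (T : Subgroup ↥L₀).map L₀.subtype) (hmin : Cfsg.IsMinimalOver Y) : Subgroup.normalizer (((T : Subgroup ↥L₀).map L₀.subtype : Subgroup L) : Set L) ≤ L₀ ∧ Cfsg.pCore p L ≤ L₀ ∧ (∃ P : Sylow p L, (P : Subgroup L) = (T : Subgroup ↥L₀).map L₀.subtype) ∧ Subgroup.normalizer (L₀ : Set L) = L₀ ∧ (∀ g : L, g ∉ L₀ → Y ⊔ Y.map (MulAut.conj g).toMonoidHom = ⊤) ∧ (IsMulCommutative ↥Y → ∀ g : L, g ∉ L₀ → Y ⊓ Y.map (MulAut.conj g).toMonoidHom = Y ⊓ Subgroup.center L) := by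
  set T' : Subgroup L := (T : Subgroup ↥L₀).map L₀.subtype with hT'
  have hTs : IsSylowIn p T' L₀ := isSylowIn_map T
  have hYL₀ : Y ≤ L₀ := hYT.trans hTs.le
  have hM := isMinOver_coatom hmin hL₀ hYL₀
  have hYp : IsPGroup p Y := hTs.isPGroup.to_le hYT
  have hnY : ∀ N : Subgroup L, Y ≤ N → ⊤ ≤ Nz N → N = ⊤ := by
    intro N hYN hN
    have := ncl_le hYN hN
    rw [hM.ncl_eq] at this
    exact top_le_iff.1 this
  have hmax : ∀ X : Subgroup L, Y ≤ X → X ≠ ⊤ → X ≤ L₀ := fun X h1 h2 => hM.max X h1 le_top (fun h => h2 (top_le_iff.1 h))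
  have hNT : Nz T' ≤ L₀ := by
    apply hmax _ (hYT.trans Subgroup.le_normalizer)
    intro h
    have := hnY T' hYT h.ge
    exact hL₀.1 (top_le_iff.1 (this.ge.trans hTs.le))
  have hTtop : IsSylowIn p T' ⊤ := by
    apply IsSylowIn.of_normalizer hTs le_top
    rw [inf_top_eq]; exact hNT
  have hO : Cfsg.pCore p L ≤ L₀ := by
    have := pCoreOf_le_sylow hTtop
    rw [pCoreOf_top] at this
    exact this.trans hTs.le
  have hNL : Nz L₀ = L₀ := by
    apply le_antisymm _ Subgroup.le_normalizer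
    apply hmax _ (hYL₀.trans Subgroup.le_normalizer)
    intro h
    exact hL₀.1 (hnY L₀ hYL₀ h.ge)
  have hgen : ∀ g : L, g ∉ L₀ → Y ⊔ cj g Y = ⊤ := by
    intro g hg
    by_contra hne
    have h1 := hmax _ le_sup_left hne
    apply hg
    rw [← hNL]
    have h2 : Y ≤ cj g⁻¹ L₀ := by
      rw [← cj_le_iff]; exact le_sup_right.trans h1
    have h3 : cj g⁻¹ L₀ ≤ L₀ := by
      apply hmax _ h2
      intro h4
      apply hL₀.1
      have := cj_top (g : L)
      rw [← h4, cj_cj_inv] at this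
      exact this.trans h4
    rw [cj_le_iff, inv_inv] at h3
    exact mem_Nz_of_le_cj h3
  refine ⟨hNT, hO, ⟨hTtop.toSylowTop, rfl⟩, hNL, hgen, ?_⟩
  intro hYc g hg
  have hYab := comm_iff.1 hYc
  show Y ⊓ cj g Y = Y ⊓ Subgroup.center L
  apply le_antisymm
  · apply le_inf inf_le_left
    have h1 : (⊤ : Subgroup L) ≤ Cz (Y ⊓ cj g Y) := by
      rw [← hgen g hg]
      apply sup_le
      · exact hYab.trans (Cz_anti inf_le_left)
      · have : cj g Y ≤ Cz (cj g Y) := by rw [← cj_Cz]; exact cj_mono hYab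
        exact this.trans (Cz_anti inf_le_right)
    intro x hx
    rw [Subgroup.mem_center_iff]
    intro y
    have := (Subgroup.mem_centralizer_iff.1 (h1 (Subgroup.mem_top y))) x hx
    exact this.symm
  · apply le_inf inf_le_left
    rintro x ⟨hx, hxc⟩
    rw [mem_cj]
    have hxc' : x ∈ Subgroup.center L := hxc
    rw [Subgroup.mem_center_iff] at hxc'
    have e : g⁻¹ * x * g = x := by rw [hxc' g⁻¹]; group
    rw [e]; exact hx

end Cfsg.Agent.S2835
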