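import Cfsg.Statements.S2836
import Cfsg.Agent.H17_YMin
import Cfsg.Agent.H17_Quot

set_option autoImplicit false
open Cfsg

namespace Cfsg.Agent.S2836

open Cfsg.Agent.H17.Base Cfsg.Agent.H17.YMin in
/-- Let L be a finite group, L₀ a maximal subgroup, T a Sylow p-subgroup of L₀, Y ≤ T, and suppose L is Y-minimal. Let D be the intersection of the conjugates of L₀ (the core of L₀). Then D contains O_p(L) and D/O_p(L) is the Frattini subgroup of L/O_p(L), so D is p-closed; and every normal subgroup N of L contained in L₀ is p-closed with N/O_p(N) a nilpotent group of order prime to p. -/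
theorem result {L : Type*} [Group L] [Finite L] {p : ℕ} [Fact p.Prime] (L₀ : Subgroup L) (hL₀ : IsCoatom L₀) (T : Sylow p ↥L₀) (Y : Subgroup L) (hYT : Y ≤ (T : Subgroup ↥L₀).map L₀.subtype) (hmin : Cfsg.IsMinimalOver Y) : (Cfsg.pCore p L ≤ L₀.normalCore ∧ (L₀.normalCore).map (QuotientGroup.mk' (Cfsg.pCore p L)) = frattini (L ⧸ Cfsg.pCore p L) ∧ Cfsg.IsPClosed p ↥(L₀.normalCore)) ∧ ∀ (N : Subgroup L) [N.Normal], N ≤ L₀ → Cfsg.IsPClosed p ↥N ∧ Group.IsNilpotent (↥N ⧸ Cfsg.pCore p ↥N) ∧ (Nat.card (↥N ⧸ Cfsg.pCore p ↥N)).Coprime p := by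
  have h := ym_of (T := (T : Subgroup ↥L₀).map L₀.subtype) (p := p) hL₀ (isSylowIn_map T) hYT hmin
  have hOL : Cfsg.pCore p L ≤ L₀ := h.pCore_le
  have hN2 : ∀ (N : Subgroup L) [N.Normal], N ≤ L₀ → Cfsg.IsPClosed p ↥N ∧ Group.IsNilpotent (↥N ⧸ Cfsg.pCore p ↥N) ∧ (Nat.card (↥N ⧸ Cfsg.pCore p ↥N)).Coprime p := by
    intro N hNn hNL
    have hn : ⊤ ≤ Nz N := le_Nz_of_normal N ⊤
    have hcl := h.pcl hn hNL
    have hO : IsSylowIn p (pCoreOf p N) N := by
      obtain ⟨S, hS⟩ := exists_isSylowIn p N
      rw [← hcl.sylow_eq hS]; exact hS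
    have hOe : (pCoreOf p N).subgroupOf N = pCore p ↥N := by
      unfold pCoreOf
      ext x; simp [Subgroup.mem_subgroupOf]
    refine ⟨isPClosed_iff.2 hcl, ?_, ?_⟩
    · apply (Group.isNilpotent_of_finite_tfae (G := ↥N ⧸ Cfsg.pCore p ↥N)).out 3 0 |>.1
      intro q hq Q
      obtain ⟨S, hS⟩ := exists_isSylowIn q N
      have h1 := h.sylow_sup_normal hn hNL hS
      have h2 : (S.subgroupOf N ⊔ pCore p ↥N).Normal := by
        rw [← hOe, ← Subgroup.subgroupOf_sup hS.le (pCoreOf_le N), normal_subgroupOf_iff (sup_le hS.le (pCoreOf_le N))]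
        exact le_top.trans h1
      have h3 : ((S.subgroupOf N ⊔ pCore p ↥N).map (QuotientGroup.mk' (pCore p ↥N))).Normal :=
        h2.map _ (QuotientGroup.mk'_surjective _)
      rw [Subgroup.map_sup, QuotientGroup.map_mk'_self, sup_bot_eq] at h3
      have h4 : IsSylowIn q (S.subgroupOf N) (⊤ : Subgroup N) := by
        have := isSylowIn_coe hS.toSylow
        rwa [hS.coe_toSylow] at this
      have h5 := h4.map_hom (QuotientGroup.mk' (pCore p ↥N))
      rw [Subgroup.map_top_of_surjective _ (QuotientGroup.mk'_surjective _)] at h5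
      obtain ⟨g, -, hg⟩ := h5.exists_conj (isSylowIn_coe Q)
      rw [cj_eq_of_normal _ h3] at hg
      rw [hg]; exact h3
    · rw [← hOe]
      have h1 : ¬ p ∣ ((pCoreOf p N).subgroupOf N).index := by
        have := hO.toSylow.not_dvd_index
        rwa [hO.coe_toSylow] at this
      have h2 := ((Nat.Prime.coprime_iff_not_dvd Fact.out).2 h1).symm
      have h3 : Nat.card (↥N ⧸ (pCoreOf p N).subgroupOf N) = ((pCoreOf p N).subgroupOf N).index := rfl
      rw [h3]; exact h2
  refine ⟨⟨?_, ?_, ?_⟩, hN2⟩
  · have := pCore_normal p L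
    exact Subgroup.normal_le_normalCore.2 hOL
  · have hOn := pCore_normal p L
    apply le_antisymm
    · unfold frattini Order.radical
      apply le_iInf₂
      intro K hK
      rw [Subgroup.map_le_iff_le_comap]
      have hn : ⊤ ≤ Nz L₀.normalCore := le_Nz_of_normal _ ⊤
      have hKc : IsCoatom (K.comap (QuotientGroup.mk' (pCore p L))) :=
        Subgroup.isCoatom_comap_of_surjective (QuotientGroup.mk'_surjective _) hK
      by_contra hne
      have h1 : L₀.normalCore ⊔ K.comap (QuotientGroup.mk' (pCore p L)) = ⊤ := by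
        apply hKc.2
        refine lt_of_le_of_ne le_sup_right ?_
        intro h2
        rw [h2] at hne
        exact hne le_sup_left
      have h2 := h.eq_top hn (Subgroup.normalCore_le L₀) ?_ h1
      · exact hKc.1 h2
      · have h3 : pCoreOf p L₀.normalCore ≤ pCore p L := by
          rw [← pCoreOf_top]
          apply le_pCoreOf le_top _ (pCoreOf_isPGroup _)
          exact hn.trans (Nz_le_Nz_pCoreOf _)
        apply h3.trans
        have := MonoidHom.ker_le_comap (QuotientGroup.mk' (pCore p L)) K
        rwa [QuotientGroup.ker_mk'] at this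
    · have h1 : (frattini (L ⧸ pCore p L)).comap (QuotientGroup.mk' (pCore p L)) ≤ L₀.normalCore := by
        have : ((frattini (L ⧸ pCore p L)).comap (QuotientGroup.mk' (pCore p L))).Normal := inferInstance
        apply Subgroup.normal_le_normalCore.2
        have h2 : IsCoatom (L₀.map (QuotientGroup.mk' (pCore p L))) := by
          have hcm : (L₀.map (QuotientGroup.mk' (pCore p L))).comap (QuotientGroup.mk' (pCore p L)) = L₀ := by
            rw [Subgroup.comap_map_eq, QuotientGroup.ker_mk', sup_eq_left.2 hOL]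
          refine ⟨fun h => hL₀.1 ?_, fun K hK => ?_⟩
          · rw [← hcm, h, Subgroup.comap_top]
          · have h5 : L₀ < K.comap (QuotientGroup.mk' (pCore p L)) := by
              have := Subgroup.comap_mono (f := QuotientGroup.mk' (pCore p L)) hK.le
              rw [hcm] at this
              refine lt_of_le_of_ne this ?_
              intro h6
              apply hK.ne
              rw [h6, Subgroup.map_comap_eq_self_of_surjective (QuotientGroup.mk'_surjective _)]
            have h6 := hL₀.2 _ h5
            rw [← Subgroup.map_comap_eq_self_of_surjective (QuotientGroup.mk'_surjective (pCore p L)) K, h6, Subgroup.map_top_of_surjective _ (QuotientGroup.mk'_surjective _)]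
        have h3 := Subgroup.comap_mono (f := QuotientGroup.mk' (pCore p L)) (frattini_le_coatom h2)
        rw [Subgroup.comap_map_eq, QuotientGroup.ker_mk', sup_eq_left.2 hOL] at h3
        exact h3
      have h2 := Subgroup.map_mono (f := QuotientGroup.mk' (pCore p L)) h1
      rwa [Subgroup.map_comap_eq_self_of_surjective (QuotientGroup.mk'_surjective _)] at h2
  · exact (hN2 _ (Subgroup.normalCore_le L₀)).1

end Cfsg.Agent.S2836
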