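import Cfsg.Statements.S2837
import Cfsg.Agent.H17_YMin
import Cfsg.Agent.H17_CommN
import Cfsg.Agent.H17_Frat

set_option autoImplicit false
open Cfsg

namespace Cfsg.Agent.S2837

open Cfsg.Agent.H17.Base Cfsg.Agent.H17.YMin in
/-- Let L be a finite group of characteristic p, L₀ a maximal subgroup, Y an elementary abelian p-subgroup of L₀ with L Y-minimal and O_p(L) ≤ N_L(Y). Put A = the normal closure of O_p(L) ∩ Y in L. Then for every g ∈ L outside L₀: Φ(A) = A' = [A ∩ Y, A] = [A ∩ Y, A ∩ gYg⁻¹] ≤ C_Y(L), and Y ∩ gYg⁻¹ = (A ∩ Y) ∩ (A ∩ gYg⁻¹) = C_Y(L) = C_A(L). -/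
theorem result {L : Type*} [Group L] [Finite L] {p : ℕ} [Fact p.Prime] (hchar : Subgroup.centralizer (Cfsg.pCore p L : Set L) ≤ Cfsg.pCore p L) (L₀ : Subgroup L) (hL₀ : IsCoatom L₀) (Y : Subgroup L) (hYL₀ : Y ≤ L₀) (hYel : Cfsg.IsElementaryAbelian p Y) (hmin : Cfsg.IsMinimalOver Y) (hOY : Cfsg.pCore p L ≤ Subgroup.normalizer (Y : Set L)) (A : Subgroup L) (hA : A = Subgroup.normalClosure (((Cfsg.pCore p L ⊓ Y : Subgroup L)) : Set L)) (g : L) (hg : g ∉ L₀) : (frattini ↥A).map A.subtype = ⁅A, A⁆ ∧ ⁅A, A⁆ = ⁅A ⊓ Y, A⁆ ∧ ⁅A ⊓ Y, A⁆ = ⁅A ⊓ Y, A ⊓ Y.map (MulAut.conj g).toMonoidHom⁆ ∧ ⁅A ⊓ Y, A⁆ ≤ Y ⊓ Subgroup.center L ∧ Y ⊓ Y.map (MulAut.conj g).toMonoidHom = Y ⊓ Subgroup.center L ∧ (A ⊓ Y) ⊓ (A ⊓ Y.map (MulAut.conj g).toMonoidHom) = Y ⊓ Subgroup.center L ∧ A ⊓ Subgroup.center L = Y ⊓ Subgroup.center L := by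
  obtain ⟨hYab, hYexp⟩ := ea_iff.1 hYel
  have hYp : IsPGroup p Y := ea_isPGroup hYel
  obtain ⟨T, hYT, hT⟩ := exists_isSylowIn_ge hYp hYL₀
  have h := ym_of (p := p) hL₀ hT hYT hmin
  have hgen := h.gen g hg
  set Q := Cfsg.pCore p L with hQ
  have hQn : Q.Normal := pCore_normal p L
  have hcQ : cj g Q = Q := cj_eq_of_normal _ hQn
  have hQY : Q ≤ Nz Y := hOY
  set Yg := cj g Y with hYg
  have hQYg : Q ≤ Nz Yg := by
    have := cj_mono (g := g) hQY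
    rwa [hcQ, cj_Nz] at this
  have hYgab : Yg ≤ Cz Yg := by
    have := cj_mono (g := g) hYab
    rwa [cj_Cz] at this
  have hYgexp : ∀ a ∈ Yg, a ^ p = 1 := (ea_iff.1 (ea_cj (g := g) hYel)).2
  set B := Q ⊓ Y with hB
  set Bg := Q ⊓ Yg with hBg
  have hcB : cj g B = Bg := by rw [hB, cj_inf, hcQ]
  have aux : ∀ U X : Subgroup L, Q ≤ Nz U → U ≤ Cz U → X ≤ Q → U ≤ Nz ((Q ⊓ U) ⊔ X) := by
    intro U X hU hUU hX u hu
    apply mem_Nz_of_cj_le
    rw [cj_sup]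
    apply sup_le
    · rw [cj_inf, cj_eq_of_normal _ hQn, cj_eq_of_mem hu]; exact le_sup_left
    · intro x hx
      rw [mem_cj] at hx
      obtain ⟨y, hy, rfl⟩ : ∃ y ∈ X, u * y * u⁻¹ = x := ⟨_, hx, by group⟩
      have h1 : u * y * u⁻¹ * y⁻¹ ∈ Q ⊓ U := by
        refine ⟨?_, ?_⟩
        · exact Q.mul_mem (hQn.conj_mem _ (hX hy) u) (Q.inv_mem (hX hy))
        · have h2 : y * u⁻¹ * y⁻¹ ∈ U := by
            have := hU (hX hy)
            exact (Subgroup.mem_normalizer_iff.1 this _).1 (U.inv_mem hu)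
          have h3 := U.mul_mem hu h2
          have e : u * (y * u⁻¹ * y⁻¹) = u * y * u⁻¹ * y⁻¹ := by group
          rw [e] at h3; exact h3
      have h2 := ((Q ⊓ U) ⊔ X).mul_mem ((le_sup_left : Q ⊓ U ≤ (Q ⊓ U) ⊔ X) h1) ((le_sup_right : X ≤ (Q ⊓ U) ⊔ X) hy)
      have e : u * y * u⁻¹ * y⁻¹ * y = u * y * u⁻¹ := by group
      rwa [e] at h2
  have hAB : A = B ⊔ Bg := by
    rw [hA, ← ncl_top]
    apply le_antisymm
    · apply ncl_le le_sup_left
      rw [← hgen]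
      apply sup_le
      · exact aux Y Bg hQY hYab inf_le_left
      · have := aux Yg B hQYg hYgab inf_le_left
        rwa [sup_comm] at this
    · apply sup_le (le_ncl _ _)
      rw [← hcB]
      exact cj_le_ncl (Subgroup.mem_top g)
  have hAQ : A ≤ Q := by rw [hAB]; exact sup_le inf_le_left inf_le_left
  have hAY : A ⊓ Y = B := by
    apply le_antisymm (inf_le_inf_right _ hAQ)
    exact le_inf (by rw [hAB]; exact le_sup_left) inf_le_right
  have hAYg : A ⊓ Yg = Bg := by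
    apply le_antisymm (inf_le_inf_right _ hAQ)
    exact le_inf (by rw [hAB]; exact le_sup_right) inf_le_right
  have hBA : B ≤ A := by rw [hAB]; exact le_sup_left
  have hBgA : Bg ≤ A := by rw [hAB]; exact le_sup_right
  have hD : Y ⊓ Yg = Y ⊓ Subgroup.center L := by
    apply le_antisymm
    · apply le_inf inf_le_left
      rw [← Cz_top, ← hgen, Cz_sup]
      exact inf_le_inf hYab hYgab
    · apply le_inf inf_le_left
      intro x hx
      rw [hYg, mem_cj]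
      have hxc := Subgroup.mem_center_iff.1 hx.2 g⁻¹
      rw [hxc, mul_assoc, inv_mul_cancel, mul_one]
      exact hx.1
  have hZYg : Yg ⊓ Subgroup.center L ≤ Y := by
    intro x hx
    have h1 : x ∈ cj g Y := hx.1
    rw [mem_cj] at h1
    have hxc := Subgroup.mem_center_iff.1 hx.2 g⁻¹
    rwa [hxc, mul_assoc, inv_mul_cancel, mul_one] at h1
  have hBNBg : B ≤ Nz Bg := by
    intro x hx
    have h1 : x ∈ Nz Q := Subgroup.le_normalizer hx.1
    have h2 : x ∈ Nz Yg := hQYg hx.1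
    rw [mem_Nz_iff_cj] at *
    rw [hBg, cj_inf, h1, h2]
  have hBgNB : Bg ≤ Nz B := by
    intro x hx
    have h1 : x ∈ Nz Q := Subgroup.le_normalizer hx.1
    have h2 : x ∈ Nz Y := hQY hx.1
    rw [mem_Nz_iff_cj] at *
    rw [hB, cj_inf, h1, h2]
  have hC : ⁅B, Bg⁆ ≤ Y ⊓ Subgroup.center L := by
    rw [← hD]
    exact le_inf ((commutator_le_left_iff.2 hBgNB).trans inf_le_right) ((commutator_le_right_iff.2 hBNBg).trans inf_le_right)
  have hCn : (⁅B, Bg⁆).Normal := by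
    rw [normal_iff_top_le_Nz]
    exact le_Nz_of_le_center (hC.trans inf_le_right)
  have hBB : ⁅B, B⁆ = ⊥ := commutator_eq_bot_iff_le_Cz.2 ((inf_le_right.trans hYab).trans (Cz_anti inf_le_right))
  have hBgBg : ⁅Bg, Bg⁆ = ⊥ := commutator_eq_bot_iff_le_Cz.2 ((inf_le_right.trans hYgab).trans (Cz_anti inf_le_right))
  have hAA : ⁅A, A⁆ ≤ ⁅B, Bg⁆ := by
    rw [hAB]
    apply sup_comm_le
    · apply comm_sup_le
      · rw [hBB]; exact bot_le
      · exact le_rfl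
    · apply comm_sup_le
      · rw [Subgroup.commutator_comm]
      · rw [hBgBg]; exact bot_le
  have e1 : ⁅A, A⁆ = ⁅B, Bg⁆ := le_antisymm hAA (Subgroup.commutator_mono hBA hBgA)
  have e2 : ⁅B, A⁆ = ⁅B, Bg⁆ := le_antisymm ((Subgroup.commutator_mono hBA le_rfl).trans hAA) (Subgroup.commutator_mono le_rfl hBgA)
  have hAp : IsPGroup p A := (pCore_isPGroup p L).to_le hAQ
  have hBZ : Q ⊓ (Y ⊓ Subgroup.center L) = Y ⊓ Subgroup.center L := by
    rw [inf_eq_right, hQ]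
    apply le_pCore
    · rw [normal_iff_top_le_Nz]
      exact le_Nz_of_le_center inf_le_right
    · exact hYp.to_le inf_le_left
  have e3 : B ⊓ Bg = Y ⊓ Subgroup.center L := by
    rw [hB, hBg, inf_inf_inf_comm, inf_idem, hD, hBZ]
  change phiOf A = ⁅A, A⁆ ∧ ⁅A, A⁆ = ⁅A ⊓ Y, A⁆ ∧ ⁅A ⊓ Y, A⁆ = ⁅A ⊓ Y, A ⊓ Yg⁆ ∧ ⁅A ⊓ Y, A⁆ ≤ Y ⊓ Subgroup.center L ∧ Y ⊓ Yg = Y ⊓ Subgroup.center L ∧ (A ⊓ Y) ⊓ (A ⊓ Yg) = Y ⊓ Subgroup.center L ∧ A ⊓ Subgroup.center L = Y ⊓ Subgroup.center L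
  rw [hAY, hAYg, e2, e1]
  refine ⟨?_, rfl, rfl, hC, hD, e3, ?_⟩
  · apply le_antisymm
    · apply phiOf_le (p := p) e1.le
      intro x hx
      rw [hAB, mem_sup_of_le_Nz hBNBg] at hx
      obtain ⟨b, hb, c, hc, rfl⟩ := hx
      have hb1 : b ^ p = 1 := hYexp b hb.2
      have hc1 : c ^ p = 1 := hYgexp c hc.2
      have h1 : (QuotientGroup.mk' ⁅B, Bg⁆ (b * c)) ^ p = 1 := by
        have hcomm : Commute (QuotientGroup.mk' ⁅B, Bg⁆ b) (QuotientGroup.mk' ⁅B, Bg⁆ c) := by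
          rw [← commutatorElement_eq_one_iff_commute, ← map_commutatorElement]
          exact (QuotientGroup.eq_one_iff _).2 (Subgroup.commutator_mem_commutator hb hc)
        rw [map_mul, hcomm.mul_pow, ← map_pow, ← map_pow, hb1, hc1]; simp
      rw [← map_pow] at h1
      exact (QuotientGroup.eq_one_iff _).1 h1
    · rw [← e1]; exact commutator_le_phiOf hAp
  · apply le_antisymm
    · intro z hz
      refine ⟨?_, hz.2⟩
      have hz1 : z ∈ A := hz.1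
      rw [hAB, mem_sup_of_le_Nz hBNBg] at hz1
      obtain ⟨b, hb, c, hc, hbc⟩ := hz1
      -- c centralizes Y and Yg
      have hzc : z ∈ Subgroup.center L := hz.2
      have hcY : c ∈ Cz Y := by
        have h1 : z ∈ Cz Y := by
          rw [← Cz_top] at hzc; exact Cz_anti le_top hzc
        have h2 : b ∈ Cz Y := hYab hb.2
        have : c = b⁻¹ * z := by rw [hbc]; group
        rw [this]; exact (Cz Y).mul_mem ((Cz Y).inv_mem h2) h1
      have hcc : c ∈ Subgroup.center L := by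
        rw [← Cz_top, ← hgen, Cz_sup]
        exact ⟨hcY, hYgab hc.2⟩
      show z ∈ Y
      rw [hbc]
      exact Y.mul_mem hb.2 (hZYg ⟨hc.2, hcc⟩)
    · refine le_inf ?_ inf_le_right
      rw [← e3]; exact inf_le_left.trans hBA

end Cfsg.Agent.S2837
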