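import Cfsg.Statements.S2839
import Cfsg.Agent.H17_WC

set_option autoImplicit false
open Cfsg

namespace Cfsg.Agent.S2839

open Cfsg.Agent.H17.Base
open scoped commutatorElement
/-- Let Q be a nontrivial p-subgroup of the finite group H that is a weakly closed subgroup, K a subgroup containing Q and N a normal subgroup of H. Then Q is a weakly closed subgroup of K; every H-conjugate of Q contained in K is a K-conjugate of Q; N_K(Q) contains a Sylow p-subgroup of K; N = N_N(Q)·O^p(N); and QN/N is a weakly closed subgroup of H/N. -/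
theorem result {H : Type*} [Group H] [Finite H] {p : ℕ} [Fact p.Prime] (Q : Subgroup H) (hQp : IsPGroup p ↥Q) (hQ1 : Q ≠ ⊥) (hwc : Cfsg.IsWeaklyClosedSubgroup p Q) (K : Subgroup H) (hQK : Q ≤ K) (N' : Subgroup H) [N'.Normal] : Cfsg.IsWeaklyClosedSubgroup p (Q.subgroupOf K) ∧ (∀ g : H, ((Q : Subgroup H).map (MulAut.conj (g : H)).toMonoidHom) ≤ K → ∃ k ∈ K, ((Q : Subgroup H).map (MulAut.conj (g : H)).toMonoidHom) = ((Q : Subgroup H).map (MulAut.conj (k : H)).toMonoidHom)) ∧ Cfsg.IsParabolic p ((Subgroup.normalizer ((Q : Subgroup H) : Set H)).subgroupOf K) ∧ (N' ⊓ Subgroup.normalizer ((Q : Subgroup H) : Set H)) ⊔ (Cfsg.pResidual p ↥N').map N'.subtype = N' ∧ Cfsg.IsWeaklyClosedSubgroup p (Q.map (QuotientGroup.mk' N')) := by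
  have hw := (isWeaklyClosedSubgroup_iff hQp).1 hwc
  refine ⟨?_, ?_, ?_, ?_, ?_⟩
  · rw [isWeaklyClosedSubgroup_subgroupOf_iff hQp hQK]
    exact hw.mono le_top
  · intro g hg
    exact hw.exists_conj hQp le_top hQK (Subgroup.mem_top g) hg
  · obtain ⟨T, hQT, hT⟩ := exists_isSylowIn_ge hQp hQK
    refine ⟨hT.toSylow, ?_⟩
    rw [hT.coe_toSylow]
    exact Subgroup.comap_mono (hw.le_Nz le_top hT.isPGroup hQT)
  · obtain ⟨T, hQT, hT⟩ := exists_isSylowIn_ge hQp (le_top : Q ≤ ⊤)
    have hN' : (⊤ : Subgroup H) ≤ Nz N' := le_Nz_of_normal N' _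
    have h1 := hT.inf_normal (le_top : N' ≤ ⊤) hN'
    show (N' ⊓ Nz Q) ⊔ resOf p N' = N'
    apply le_antisymm (sup_le inf_le_left (resOf_le N'))
    conv_lhs => rw [← resOf_sup_sylow h1]
    apply sup_le le_sup_right
    exact (le_inf inf_le_right (inf_le_left.trans (hw.le_Nz le_top hT.isPGroup hQT))).trans le_sup_left
  · rw [isWeaklyClosedSubgroup_iff (hQp.map _)]
    intro R _ hR hQR
    rintro y ⟨-, hy⟩
    obtain ⟨x, rfl⟩ := QuotientGroup.mk'_surjective N' y
    set K' := R.comap (QuotientGroup.mk' N') with hK'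
    have hQK' : Q ≤ K' := Subgroup.map_le_iff_le_comap.1 hQR
    have hNK' : N' ≤ K' := by
      intro n hn
      rw [hK', Subgroup.mem_comap]
      have : QuotientGroup.mk' N' n = 1 := by
        rw [← MonoidHom.mem_ker, QuotientGroup.ker_mk']; exact hn
      rw [this]; exact one_mem _
    obtain ⟨T, hQT, hT⟩ := exists_isSylowIn_ge hQp hQK'
    have hmap : K'.map (QuotientGroup.mk' N') = R := Subgroup.map_comap_eq_self_of_surjective (QuotientGroup.mk'_surjective N') R
    have hTR : T.map (QuotientGroup.mk' N') = R := by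
      have h2 := hT.map_hom (QuotientGroup.mk' N')
      rw [hmap] at h2
      exact (h2.eq_of_le le_rfl hR h2.le).symm
    have hxK : x ∈ Nz K' := by
      have hy' := cj_eq_of_mem_Nz hy
      apply mem_Nz_of_cj_le
      rw [hK', ← Subgroup.map_le_iff_le_comap, map_cj', hmap, hy']
    obtain ⟨k, hk, hkx⟩ := frattini_arg hT (le_refl (Nz K')) x hxK
    have h3 : k * x ∈ Nz Q := hw T le_top hT.isPGroup hQT ⟨Subgroup.mem_top _, hkx⟩
    -- k = t n
    have hk' : QuotientGroup.mk' N' k ∈ T.map (QuotientGroup.mk' N') := by rw [hTR]; exact hk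
    obtain ⟨t, ht, htk⟩ := hk'
    have htQ : t ∈ Nz Q := hw.le_Nz le_top hT.isPGroup hQT ht
    have h4 : QuotientGroup.mk' N' x = QuotientGroup.mk' N' (t⁻¹ * (k * x)) := by
      rw [map_mul, map_mul, map_inv, htk]; group
    show QuotientGroup.mk' N' x ∈ Nz (Q.map (QuotientGroup.mk' N'))
    rw [h4]
    exact map_le_Nz_map_of_ker_le (le_refl (Nz Q)) ⟨_, mul_mem (inv_mem htQ) h3, rfl⟩

end Cfsg.Agent.S2839
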