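import Cfsg.Statements.S2840
import Cfsg.Agent.H17_WC

set_option autoImplicit false
open Cfsg

namespace Cfsg.Agent.S2840

open Cfsg.Agent.H17.Base
open scoped commutatorElement
/-- Let Q be a nontrivial p-subgroup of the finite group H that is a weakly closed subgroup and K a subgroup containing Q; let K° be the weak closure of Q in K (generated by the H-conjugates of Q inside K). Then K° is generated by the K-conjugates of Q, and K° is the subnormal closure of Q in K. -/
theorem result {H : Type*} [Group H] [Finite H] {p : ℕ} [Fact p.Prime] (Q : Subgroup H) (hQp : IsPGroup p ↥Q) (hQ1 : Q ≠ ⊥) (hwc : Cfsg.IsWeaklyClosedSubgroup p Q) (K : Subgroup H) (hQK : Q ≤ K) (Kc : Subgroup H) (hKc : Kc = Cfsg.weakClosure Q K) : Kc = ⨆ k : ↥K, ((Q : Subgroup H).map (MulAut.conj ((k : H) : H)).toMonoidHom) ∧ Kc = (Cfsg.subnormalClosure (Q.subgroupOf K)).map K.subtype := by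
  have hw := (isWeaklyClosedSubgroup_iff hQp).1 hwc
  have h1 := weakClosure_eq_ncl hw hQp hQK
  refine ⟨by rw [hKc, h1]; rfl, ?_⟩
  rw [hKc, h1]
  apply le_antisymm
  · have key : (ncl K Q).subgroupOf K ≤ Cfsg.subnormalClosure (Q.subgroupOf K) := by
      unfold Cfsg.subnormalClosure
      apply le_sInf
      rintro N ⟨hN1, hN2⟩
      have hQN : Q ≤ N.map K.subtype := by
        have := Subgroup.map_mono (f := K.subtype) hN1
        rwa [Subgroup.map_subgroupOf_eq_of_le hQK] at this
      have hsn : SN K (N.map K.subtype) := by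
        rw [sn_iff]
        refine ⟨Subgroup.map_subtype_le _, ?_⟩
        have e : (N.map K.subtype).subgroupOf K = N := by
          ext x; simp [Subgroup.mem_subgroupOf]
        rw [e]; exact hN2
      have h2 := (hw.mono (le_top : K ≤ ⊤)).ncl_eq_of_sn hQp hsn hQN
      rw [h2]
      have h3 := Subgroup.comap_mono (f := K.subtype) (ncl_le_self hQN)
      have e : (N.map K.subtype).comap K.subtype = N := Subgroup.comap_map_eq_self_of_injective K.subtype_injective N
      rw [e] at h3
      exact h3
    have h2 := Subgroup.map_mono (f := K.subtype) key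
    rwa [Subgroup.map_subgroupOf_eq_of_le (ncl_le_self hQK)] at h2
  · have h2 : Cfsg.subnormalClosure (Q.subgroupOf K) ≤ (ncl K Q).subgroupOf K := by
      apply sInf_le
      refine ⟨Subgroup.comap_mono (le_ncl K Q), ?_⟩
      exact (sn_iff.1 (SN.of_normal (ncl_le_self hQK) (le_Nz_ncl K Q))).2
    have h3 := Subgroup.map_mono (f := K.subtype) h2
    rwa [Subgroup.map_subgroupOf_eq_of_le (ncl_le_self hQK)] at h3

end Cfsg.Agent.S2840
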