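import Cfsg.Statements.S2841
import Cfsg.Agent.H17_WC

set_option autoImplicit false
open Cfsg

namespace Cfsg.Agent.S2841

open Cfsg.Agent.H17.Base
open scoped commutatorElement

theorem first {H : Type*} [Group H] [Finite H] {p : ℕ} [Fact p.Prime] {Q N : Subgroup H} (hw : WCl p Q ⊤)
    (hQp : IsPGroup p Q) (hQN : Q ≤ Nz N) :
    ∀ n ∈ N, ∃ a ∈ N ⊓ Nz Q, ∃ b ∈ ⁅N, Q⁆, n = a * b := by
  intro n hn
  have hNC : N ≤ Nz ⁅N, Q⁆ := Subgroup.normalizer_commutator_ge_left _ _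
  have hQC : Q ≤ Nz ⁅N, Q⁆ := Subgroup.normalizer_commutator_ge_right _ _
  have hCN : ⁅N, Q⁆ ≤ N := commutator_le_left_iff.2 hQN
  have h1 : cj n Q ≤ ⁅N, Q⁆ ⊔ Q := by
    rintro _ ⟨q, hq, rfl⟩
    show n * q * n⁻¹ ∈ _
    have h2 : n * q * n⁻¹ * q⁻¹ ∈ ⁅N, Q⁆ := Subgroup.commutator_mem_commutator hn hq
    have e : n * q * n⁻¹ = (n * q * n⁻¹ * q⁻¹) * q := by group
    rw [e]
    exact mul_mem ((le_sup_left : ⁅N, Q⁆ ≤ _) h2) ((le_sup_right : Q ≤ _) hq)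
  obtain ⟨x, hx, hxe⟩ := hw.exists_conj hQp le_top le_sup_right (Subgroup.mem_top n) h1
  rw [mem_sup_of_le_Nz' hQC] at hx
  obtain ⟨c, hc, q, hq, rfl⟩ := hx
  rw [cj_mul, cj_eq_of_mem hq] at hxe
  -- c⁻¹ n normalizes Q; n = (n c'⁻¹)...
  have h3 : c⁻¹ * n ∈ Nz Q := by
    rw [mem_Nz_iff_cj, cj_mul, hxe, cj_inv_cj]
  refine ⟨c⁻¹ * n, ⟨N.mul_mem (N.inv_mem (hCN hc)) hn, h3⟩, n⁻¹ * c * n, ?_, by group⟩
  have := (Subgroup.mem_normalizer_iff.1 (hNC (inv_mem hn)) c).1 hc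
  rwa [inv_inv] at this
/-- Let Q be a nontrivial p-subgroup of the finite group H that is a weakly closed subgroup and N a normal subgroup of H. Then N = N_N(Q)·[N, Q] and [N, Q] = (Q ∩ [N, Q])·[N, Q, Q]. -/
theorem result {H : Type*} [Group H] [Finite H] {p : ℕ} [Fact p.Prime] (Q : Subgroup H) (hQp : IsPGroup p ↥Q) (hQ1 : Q ≠ ⊥) (hwc : Cfsg.IsWeaklyClosedSubgroup p Q) (N' : Subgroup H) [N'.Normal] : (∀ n : H, n ∈ N' → ∃ a ∈ N' ⊓ Subgroup.normalizer ((Q : Subgroup H) : Set H), ∃ b ∈ ⁅N', Q⁆, n = a * b) ∧ (∀ c : H, c ∈ ⁅N', Q⁆ → ∃ a ∈ Q ⊓ ⁅N', Q⁆, ∃ b ∈ ⁅⁅N', Q⁆, Q⁆, c = a * b) := by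
  have hw := (isWeaklyClosedSubgroup_iff hQp).1 hwc
  have hN' : (⊤ : Subgroup H) ≤ Nz N' := le_Nz_of_normal N' _
  have h1 := first hw hQp (le_top.trans hN' : Q ≤ Nz N')
  refine ⟨fun n hn => h1 n hn, ?_⟩
  set C := ⁅N', Q⁆ with hC
  have hCN : C ≤ N' := commutator_le_left_iff.2 (le_top.trans hN')
  have hNC : N' ≤ Nz C := Subgroup.normalizer_commutator_ge_left _ _
  have hQC : Q ≤ Nz C := Subgroup.normalizer_commutator_ge_right _ _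
  set D := ⁅C, Q⁆ with hD
  have hCD : C ≤ Nz D := Subgroup.normalizer_commutator_ge_left _ _
  have hQD : Q ≤ Nz D := Subgroup.normalizer_commutator_ge_right _ _
  have hDC : D ≤ C := commutator_le_left_iff.2 hQC
  have hmain : C ≤ (Q ⊓ C) ⊔ D := by
    conv_lhs => rw [hC]
    rw [Subgroup.commutator_le]
    intro n hn q hq
    obtain ⟨a, ha, c, hc, rfl⟩ := h1 n hn
    have haN : a ∈ N' := ha.1
    have haQ : a ∈ Nz Q := ha.2
    have e : ⁅a * c, q⁆ = (a * (c * q * c⁻¹ * q⁻¹) * a⁻¹) * (a * q * a⁻¹ * q⁻¹) := by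
      rw [commutatorElement_def]; group
    rw [e]
    have h2 : c * q * c⁻¹ * q⁻¹ ∈ D := Subgroup.commutator_mem_commutator hc hq
    have haD : a ∈ Nz D := by
      have : a ∈ Nz C ⊓ Nz Q := ⟨hNC haN, haQ⟩
      exact (Nz_commutator_le C Q) this
    have h3 : a * (c * q * c⁻¹ * q⁻¹) * a⁻¹ ∈ D := (Subgroup.mem_normalizer_iff.1 haD _).1 h2
    have h4 : a * q * a⁻¹ * q⁻¹ ∈ Q ⊓ C := by
      refine ⟨Q.mul_mem ((Subgroup.mem_normalizer_iff.1 haQ q).1 hq) (Q.inv_mem hq), ?_⟩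
      exact Subgroup.commutator_mem_commutator haN hq
    exact mul_mem ((le_sup_right : D ≤ _) h3) ((le_sup_left : Q ⊓ C ≤ _) h4)
  intro c hc
  have h2 := hmain hc
  rw [mem_sup_of_le_Nz (inf_le_left.trans hQD)] at h2
  exact h2

end Cfsg.Agent.S2841
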