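import Cfsg.Statements.S2842
import Cfsg.Agent.H17_WC

set_option autoImplicit false
open Cfsg

namespace Cfsg.Agent.S2842

open Cfsg.Agent.H17.Base
open scoped commutatorElement

/-- Lemma B: if `D = C_G(O_p(L))` has characteristic `p` then the conclusion holds. -/
theorem lemmaB {G : Type*} [Group G] [Finite G] {p : ℕ} [Fact p.Prime] {Q L : Subgroup G} (hw : WCl p Q ⊤)
    (hQp : IsPGroup p Q) (hCQ : Cz Q ≤ Q) (hQL : Q ≤ L) (hD : CharP p (Cz (pCoreOf p L))) :
    ⁅Q, Cz (pCoreOf p L)⁆ ≤ Q ⊓ pCoreOf p L ∧ IsPGroup p ↥(Cz (pCoreOf p L)) ∧ CharP p L := by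
  set P := pCoreOf p L with hP
  set D := Cz P with hDdef
  have hLP : L ≤ Nz P := le_Nz_pCoreOf L
  have hLD : L ≤ Nz D := hLP.trans (Nz_le_Nz_Cz P)
  have hQD : Q ≤ Nz D := hQL.trans hLD
  -- F = O_p(D L)
  set F := pCoreOf p (D ⊔ L) with hF
  have hDLn : D ⊔ L ≤ Nz D := sup_le Subgroup.le_normalizer hLD
  have hEF : pCoreOf p D ≤ F := pCoreOf_mono_normal le_sup_left hDLn
  have hFQ : F ≤ Nz Q := by
    have h1 : IsPGroup p ↥(Q ⊔ F) := isPGroup_sup_of_le_Nz hQp (pCoreOf_isPGroup _)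
      ((hQL.trans le_sup_right).trans (le_Nz_pCoreOf _))
    exact le_sup_right.trans (hw.le_Nz le_top h1 le_sup_left)
  have hQF : Q ≤ Nz F := (hQL.trans le_sup_right).trans (le_Nz_pCoreOf _)
  have hLFP : F ⊓ L ≤ P := pCoreOf_inf_le le_sup_right
  have hcomm : ⁅F, Q⁆ ≤ P := by
    refine le_trans (le_inf ?_ ?_) hLFP
    · exact commutator_le_left_iff.2 hQF
    · exact (commutator_le_right_iff.2 hFQ).trans hQL
  have hFP : F ≤ Nz P := by
    refine (pCoreOf_le _).trans (sup_le ?_ hLP)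
    exact (Cz_le_Nz P)
  -- [Q, D] centralizes F mod P and P
  set B := ⁅Q, D⁆ with hB
  have hBD : B ≤ D := commutator_le_right_iff.2 hQD
  have hDF : D ≤ Nz F := le_sup_left.trans (le_Nz_pCoreOf _)
  have hBF : B ≤ chainStab F P := by
    rw [le_chainStab_iff (hBD.trans hDF)]
    -- three subgroups lemma modulo P: use that D centralizes P
    -- direct: ⁅⁅Q, D⁆, F⁆ ≤ P
    -- chain stabilizer approach: Q and D act on F / P; Q acts trivially, so does [Q,D]
    have h1 : Q ≤ chainStab F P := by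
      rw [le_chainStab_iff hQF, Subgroup.commutator_comm]; exact hcomm
    have h2 : D ≤ Nz (chainStab F P) :=
      (le_inf hDF (Cz_le_Nz P)).trans (Nz_inf_le_Nz_chainStab _ _)
    have h3 : ⁅Q, D⁆ ≤ chainStab F P := (Subgroup.commutator_mono h1 le_rfl).trans (commutator_le_left_iff.2 h2)
    exact (le_chainStab_iff (hBD.trans hDF)).1 h3
  have hBres : resOf p B ≤ Cz F := resOf_le_Cz_of_chainStab (pCoreOf_isPGroup L) hBF hBD
  have hBp : IsPGroup p B := by
    apply isPGroup_of_resOf_eq_bot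
    rw [resOf_eq_closure, eq_bot_iff, Subgroup.closure_le]
    rintro x ⟨hx, hxp⟩
    rw [SetLike.mem_coe, Subgroup.mem_bot]
    exact hD.eq_one (hBD hx) (Cz_anti hEF (hBres (mem_resOf hx hxp))) hxp
  -- so D normalizes Q
  have hDB : D ≤ Nz B := Subgroup.normalizer_commutator_ge_right _ _
  have hQB : Q ≤ Nz B := Subgroup.normalizer_commutator_ge_left _ _
  have hQBp : IsPGroup p ↥(Q ⊔ B) := isPGroup_sup_of_le_Nz hQp hBp hQB
  have hDQ : D ≤ Nz Q := by
    intro d hd
    rw [mem_Nz_iff_cj]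
    apply hw.eq_of_le le_top hQBp le_sup_left (Subgroup.mem_top d)
    rintro _ ⟨q, hq, rfl⟩
    show d * q * d⁻¹ ∈ _
    have h1 : q * d * q⁻¹ * d⁻¹ ∈ B := Subgroup.commutator_mem_commutator hq hd
    have e : d * q * d⁻¹ = (q * d * q⁻¹ * d⁻¹)⁻¹ * q := by group
    rw [e]
    exact mul_mem ((le_sup_right : B ≤ _) (inv_mem h1)) ((le_sup_left : Q ≤ _) hq)
  -- the normal closure in L of [Q,D] is a p-group
  have hBQ : B ≤ Q := commutator_le_left_iff.2 hDQ
  have hBn : ncl L B ≤ pCoreOf p D := by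
    rw [ncl_le_iff]
    intro l hl
    have hlD : cj l D = D := cj_eq_of_mem_Nz (hLD hl)
    apply le_pCoreOf
    · have := cj_mono (g := l) hBD; rwa [hlD] at this
    · have := cj_mono (g := l) hDB
      rwa [hlD, cj_Nz] at this
    · exact cj_isPGroup hBp
  have hBP : B ≤ P := by
    refine (le_ncl L B).trans ?_
    apply le_pCoreOf (ncl_le_self (hBQ.trans hQL)) (le_Nz_ncl L B)
    exact (pCoreOf_isPGroup (p := p) D).to_le hBn
  have hDp : IsPGroup p D := by
    apply isPGroup_of_resOf_eq_bot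
    rw [resOf_eq_closure, eq_bot_iff, Subgroup.closure_le]
    rintro x ⟨hx, hxp⟩
    rw [SetLike.mem_coe, Subgroup.mem_bot]
    have h1 : x ∈ chainStab Q P := by
      have h2 : D ≤ chainStab Q P := by
        rw [le_chainStab_iff hDQ, Subgroup.commutator_comm]; exact hBP
      exact h2 hx
    have h2 : x ∈ Cz Q := mem_Cz_of_chainStab_p (pCoreOf_isPGroup L) h1 hx hxp
    have h3 : x ∈ resOf p Q := mem_resOf (hCQ h2) hxp
    rwa [resOf_eq_bot_iff.2 hQp, Subgroup.mem_bot] at h3
  refine ⟨le_inf hBQ hBP, hDp, ?_⟩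
  exact le_pCoreOf inf_le_left ((le_inf Subgroup.le_normalizer hLD).trans (Nz_inf_le _ _)) (hDp.to_le inf_le_right)

/-- Case 1 -/
theorem caseA {G : Type*} [Group G] [Finite G] {p : ℕ} [Fact p.Prime] {Q L H : Subgroup G}
    (hQL : Q ≤ L) (hLH : L ≤ H) (hH : CharP p H) : CharP p (H ⊓ Cz (pCoreOf p L)) := by
  set P := pCoreOf p L with hP
  set D := H ⊓ Cz P with hDdef
  have hPH : P ≤ H := (pCoreOf_le L).trans hLH
  set R := pCoreOf p H with hR
  -- p'-elements of D centralizing O_p(D) are trivial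
  have hCR : R ⊓ Cz P ≤ pCoreOf p D := by
    have h1 : R ⊓ Cz P = pCoreOf p H ⊓ D := by
      rw [hDdef, ← inf_assoc, inf_eq_left.2 (pCoreOf_le H)]
    rw [h1]
    exact pCoreOf_inf_le inf_le_left
  have hn : D ≤ Nz (D ⊓ Cz (pCoreOf p D)) :=
    (le_inf Subgroup.le_normalizer ((le_Nz_pCoreOf D).trans (Nz_le_Nz_Cz _))).trans (Nz_inf_le _ _)
  apply le_pCoreOf inf_le_left hn
  apply isPGroup_of_resOf_eq_bot
  rw [resOf_eq_closure, eq_bot_iff, Subgroup.closure_le]
  rintro x ⟨hx, hxp⟩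
  have hxH : x ∈ H := hx.1.1
  have hxP : x ∈ Cz P := hx.1.2
  rw [SetLike.mem_coe, Subgroup.mem_bot]
  -- Thompson A×B
  have h1 : Subgroup.zpowers x ≤ Cz R := by
    apply Cfsg.Agent.H1.Coprime.p_times_q p P (Subgroup.zpowers x) R (pCoreOf_isPGroup L)
    · rw [Nat.card_zpowers]; exact hxp
    · exact pCoreOf_isPGroup H
    · show P ≤ Cz _
      rw [le_Cz_comm, Subgroup.zpowers_le]; exact hxP
    · exact hPH.trans (le_Nz_pCoreOf H)
    · rw [Subgroup.zpowers_le]; exact le_Nz_pCoreOf H hxH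
    · have h2 : Subgroup.zpowers x ≤ Cz (pCoreOf p D) := by rw [Subgroup.zpowers_le]; exact hx.2
      exact le_Cz_comm.1 (h2.trans (Cz_anti hCR))
  have h2 : x ∈ Cz (pCoreOf p H) := h1 (Subgroup.mem_zpowers x)
  exact hH.eq_one hxH h2 hxp
/-- Let Q be a nontrivial p-subgroup of the finite group H that is a weakly closed subgroup with C_H(Q) ≤ Q, and Q ≤ L ≤ H. Suppose H has characteristic p, or more generally that C_H(y) has characteristic p for some nonidentity y ∈ C_{O_p(L)}(Q). Then [Q, C_H(O_p(L))] ≤ Q ∩ O_p(L), C_H(O_p(L)) is a p-group, and L has characteristic p. -/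
theorem result {H : Type*} [Group H] [Finite H] {p : ℕ} [Fact p.Prime] (Q : Subgroup H) (hQp : IsPGroup p ↥Q) (hQ1 : Q ≠ ⊥) (hwc : Cfsg.IsWeaklyClosedSubgroup p Q) (hCQ : Subgroup.centralizer ((Q : Subgroup H) : Set H) ≤ Q) (L : Subgroup H) (hQL : Q ≤ L) (hyp : Subgroup.centralizer (Cfsg.pCore p H : Set H) ≤ Cfsg.pCore p H ∨ ∃ y : H, y ≠ 1 ∧ y ∈ (Cfsg.pCoreOf p L) ⊓ Subgroup.centralizer ((Q : Subgroup H) : Set H) ∧ Subgroup.centralizer (Cfsg.pCore p ↥(Subgroup.centralizer ({y} : Set H)) : Set ↥(Subgroup.centralizer ({y} : Set H))) ≤ Cfsg.pCore p ↥(Subgroup.centralizer ({y} : Set H))) : ⁅Q, Subgroup.centralizer (((Cfsg.pCoreOf p L) : Subgroup H) : Set H)⁆ ≤ Q ⊓ (Cfsg.pCoreOf p L) ∧ IsPGroup p ↥(Subgroup.centralizer (((Cfsg.pCoreOf p L) : Subgroup H) : Set H)) ∧ Subgroup.centralizer (Cfsg.pCore p ↥L : Set ↥L) ≤ Cfsg.pCore p ↥L := by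
  have hw := (isWeaklyClosedSubgroup_iff hQp).1 hwc
  rw [Cfsg.Agent.H17.Base.charP_iff]
  set P := Cfsg.pCoreOf p L with hP
  have hDc : CharP p (Cz P) := by
    rcases hyp with hyp | ⟨y, hy1, hy2, hyc⟩
    · have := caseA hQL le_top (charP_top_iff.1 hyp)
      rwa [top_inf_eq] at this
    · -- H₁ = C_H(y)
      rw [Cfsg.Agent.H17.Base.charP_iff] at hyc
      set H₁ : Subgroup H := Subgroup.centralizer ({y} : Set H) with hH₁
      have hyP : y ∈ P := hy2.1
      have hyQ : y ∈ Cz Q := hy2.2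
      have hH₁e : H₁ = Cz (Subgroup.zpowers y) := (Cz_zpowers y).symm
      have hDH : Cz P ≤ H₁ := by
        rw [hH₁e]; apply Cz_anti; rwa [Subgroup.zpowers_le]
      have hQH : Q ≤ H₁ := by
        rw [hH₁e, le_Cz_comm, Subgroup.zpowers_le]; exact hyQ
      have hLD : L ≤ Nz (Cz P) := (le_Nz_pCoreOf L).trans (Nz_le_Nz_Cz P)
      have hQD : Q ≤ Nz (Cz P) := hQL.trans hLD
      -- L' = Q D inside H₁
      set L' := Q ⊔ Cz P with hL'
      have hL'H : L' ≤ H₁ := sup_le hQH hDH
      have hc1 : CharP p (H₁ ⊓ Cz (Cfsg.pCoreOf p L')) := caseA (le_sup_left : Q ≤ L') hL'H hyc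
      -- Work inside H₁ as a group: need L' char p.
      have hL'c : CharP p L' := by
        -- apply lemma B in the group H₁
        have hwH : WCl p (Q.subgroupOf H₁) ⊤ := by
          rw [← wcl_map_iff H₁.subtype_injective, Subgroup.map_subgroupOf_eq_of_le hQH, map_top_subtype]
          exact hw.mono le_top
        have hCQ' : Cz (Q.subgroupOf H₁) ≤ Q.subgroupOf H₁ := by
          intro x hx
          rw [Subgroup.mem_subgroupOf]
          apply hCQ
          rw [Subgroup.mem_centralizer_iff] at hx ⊢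
          intro q hq
          exact congrArg Subtype.val (hx ⟨q, hQH hq⟩ (Subgroup.mem_subgroupOf.2 hq))
        have e1 : (L'.subgroupOf H₁).map H₁.subtype = L' := Subgroup.map_subgroupOf_eq_of_le hL'H
        have e2 : (Cfsg.pCoreOf p (L'.subgroupOf H₁)).map H₁.subtype = Cfsg.pCoreOf p L' := by
          rw [← pCoreOf_map_of_injective H₁.subtype_injective, e1]
        have e3 : (Cz (Cfsg.pCoreOf p (L'.subgroupOf H₁))).map H₁.subtype = H₁ ⊓ Cz (Cfsg.pCoreOf p L') := by
          rw [← e2]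
          ext x
          constructor
          · rintro ⟨z, hz, rfl⟩
            refine ⟨z.2, ?_⟩
            show (z : H) ∈ Cz _
            rw [Subgroup.mem_centralizer_iff]
            rintro _ ⟨w, hw', rfl⟩
            exact congrArg Subtype.val ((Subgroup.mem_centralizer_iff.1 hz) w hw')
          · rintro ⟨hx1, hx2⟩
            refine ⟨⟨x, hx1⟩, ?_, rfl⟩
            replace hx2 : x ∈ Cz _ := hx2
            rw [Subgroup.mem_centralizer_iff] at hx2
            show (⟨x, hx1⟩ : H₁) ∈ Cz _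
            rw [Subgroup.mem_centralizer_iff]
            intro w hw'
            exact Subtype.ext (hx2 w ⟨w, hw', rfl⟩)
        have hcmap : ∀ X : Subgroup H₁, CharP p (X.map H₁.subtype) → CharP p X := by
          intro X hX x hx
          have h1 : (x : H) ∈ Cfsg.pCoreOf p (X.map H₁.subtype) := by
            apply hX
            refine ⟨⟨x, hx.1, rfl⟩, ?_⟩
            rw [pCoreOf_map_of_injective H₁.subtype_injective]
            show (x : H) ∈ Cz _
            rw [Subgroup.mem_centralizer_iff]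
            rintro _ ⟨w, hw', rfl⟩
            exact congrArg Subtype.val ((Subgroup.mem_centralizer_iff.1 hx.2) w hw')
          rw [pCoreOf_map_of_injective H₁.subtype_injective] at h1
          obtain ⟨z, hz, hzx⟩ := h1
          have : z = x := Subtype.ext hzx
          rwa [← this]
        have hcmap' : ∀ X : Subgroup H₁, CharP p X → CharP p (X.map H₁.subtype) := by
          rintro X hX _ ⟨⟨x, hx, rfl⟩, hx2⟩
          rw [pCoreOf_map_of_injective H₁.subtype_injective]
          refine ⟨x, hX ⟨hx, ?_⟩, rfl⟩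
          rw [pCoreOf_map_of_injective H₁.subtype_injective] at hx2
          replace hx2 : (x : H) ∈ Cz _ := hx2
          rw [Subgroup.mem_centralizer_iff] at hx2
          show x ∈ Cz _
          rw [Subgroup.mem_centralizer_iff]
          intro w hw'
          exact Subtype.ext (hx2 w ⟨w, hw', rfl⟩)
        have h5 : CharP p (Cz (Cfsg.pCoreOf p (L'.subgroupOf H₁))) := by
          apply hcmap; rw [e3]; exact hc1
        have h6 := (lemmaB hwH hQp.comap_subtype hCQ' (Subgroup.comap_mono le_sup_left) h5).2.2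
        have h7 : CharP p ((L'.subgroupOf H₁).map H₁.subtype) := hcmap' _ h6
        rwa [e1] at h7
      have hDn : SN L' (Cz P) := SN.of_normal le_sup_right (sup_le hQD Subgroup.le_normalizer)
      exact hDn.charP hL'c
  exact lemmaB hw hQp hCQ hQL hDc

end Cfsg.Agent.S2842
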