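import Cfsg.Statements.S2843
import Cfsg.Agent.H17_WC

set_option autoImplicit false
open Cfsg

namespace Cfsg.Agent.S2843

open Cfsg.Agent.H17.Base
open scoped commutatorElement
/-- Let Q be a nontrivial large p-subgroup of the finite group H, Q ≤ L ≤ H, and Y a nontrivial p-subgroup of H normalized by L. Let L° be the weak closure of Q in L (generated by the conjugates of Q inside L). Then L° equals the weak closure of Q in L·C_H(Y), and [L°, C_H(Y)] ≤ O_p(L°); in particular C_H(Y) normalizes L°. -/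
theorem result {H : Type*} [Group H] [Finite H] {p : ℕ} [Fact p.Prime] (Q : Subgroup H) (hQp : IsPGroup p ↥Q) (hQ1 : Q ≠ ⊥) (hL : Cfsg.IsLarge Q) (L : Subgroup H) (hQL : Q ≤ L) (Y : Subgroup H) (hYp : IsPGroup p ↥Y) (hY1 : Y ≠ ⊥) (hLY : L ≤ Subgroup.normalizer ((Y : Subgroup H) : Set H)) : Cfsg.weakClosure Q L = Cfsg.weakClosure Q (L ⊔ Subgroup.centralizer ((Y : Subgroup H) : Set H)) ∧ ⁅Cfsg.weakClosure Q L, Subgroup.centralizer ((Y : Subgroup H) : Set H)⁆ ≤ (Cfsg.pCoreOf p (Cfsg.weakClosure Q L)) ∧ Subgroup.centralizer ((Y : Subgroup H) : Set H) ≤ Subgroup.normalizer (((Cfsg.weakClosure Q L) : Subgroup H) : Set H) := by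
  have hw : WCl p Q ⊤ := IsLarge.wcl hL hQ1
  have hCn : ∀ g : H, cj g Q ≤ L → Cz Y ≤ Nz (cj g Q) := by
    intro g hg
    exact IsLarge.Cz_le (IsLarge.cj hL g) (cj_isPGroup hQp) hYp hY1 (hg.trans hLY)
  have hwL := weakClosure_eq_ncl hw hQp hQL
  have hwLC := weakClosure_eq_ncl hw hQp (hQL.trans le_sup_left : Q ≤ L ⊔ Cz Y)
  have hnorm : Cz Y ≤ Nz (ncl L Q) := by
    unfold ncl
    apply le_Nz_iSup
    intro g
    apply hCn
    have := cj_mono (g := (g : H)) hQL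
    rwa [cj_eq_of_mem g.2] at this
  have hconj : ∀ l ∈ L, cj l Q ≤ L := by
    intro l hl
    have := cj_mono (g := l) hQL
    rwa [cj_eq_of_mem hl] at this
  show Cfsg.weakClosure Q L = Cfsg.weakClosure Q (L ⊔ Cz Y) ∧ ⁅Cfsg.weakClosure Q L, Cz Y⁆ ≤ Cfsg.pCoreOf p (Cfsg.weakClosure Q L) ∧ Cz Y ≤ Nz (Cfsg.weakClosure Q L)
  rw [hwL, hwLC]
  refine ⟨?_, ?_, hnorm⟩
  · apply le_antisymm
    · rw [ncl_le_iff]
      intro g hg
      exact cj_le_ncl ((le_sup_left : L ≤ _) hg)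
    · exact ncl_le (le_ncl L Q) (sup_le (le_Nz_ncl L Q) hnorm)
  · -- the commutator is generated by normal p-subgroups of C
    have h1 : ⁅ncl L Q, Cz Y⁆ ≤ Cfsg.pCoreOf p (Cz Y) := by
      rw [Subgroup.commutator_comm]
      have h2 : ncl L Q ≤ Nz (Cz Y) := (ncl_le_self hQL).trans (hLY.trans (Nz_le_Nz_Cz Y))
      have hK : ncl L Q ≤ Nz (Cfsg.pCoreOf p (Cz Y)) := h2.trans (Nz_le_Nz_pCoreOf _)
      rw [Subgroup.commutator_comm, ← le_chainStab_iff h2]
      rw [ncl_le_iff]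
      intro l hl
      have h3 : cj l Q ≤ Nz (Cz Y) := (hconj l hl).trans (hLY.trans (Nz_le_Nz_Cz Y))
      rw [le_chainStab_iff h3]
      have h4 := hCn l (hconj l hl)
      apply le_pCoreOf
      · exact commutator_le_right_iff.2 h3
      · exact Subgroup.normalizer_commutator_ge_right _ _
      · exact (cj_isPGroup hQp (g := l)).to_le (commutator_le_left_iff.2 h4)
    have h2 : ⁅ncl L Q, Cz Y⁆ ≤ ncl L Q := commutator_le_left_iff.2 hnorm
    apply le_pCoreOf h2 (Subgroup.normalizer_commutator_ge_left _ _)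
    exact (pCoreOf_isPGroup (p := p) (Cz Y)).to_le h1

end Cfsg.Agent.S2843
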