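import Cfsg.Statements.S2844
import Cfsg.Agent.H17_Large

set_option autoImplicit false
open Cfsg

namespace Cfsg.Agent.S2844

open Cfsg.Agent.H17.Base
open scoped commutatorElement
/-- Let Q be a nontrivial large p-subgroup of the finite group H and Q• = O_p(N_H(Q)). Then for every g ∈ H outside N_H(Q): C_H(Q) ∩ C_H(gQg⁻¹) = 1, C_H(Q•) ∩ C_H(gQ•g⁻¹) = 1, Z(Q) ∩ Z(gQg⁻¹) = 1 and Z(Q•) ∩ Z(gQ•g⁻¹) = 1; moreover N_H(Q) = N_H(Q•) and Q• is large in H. -/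
theorem result {H : Type*} [Group H] [Finite H] {p : ℕ} [Fact p.Prime] (Q : Subgroup H) (hQp : IsPGroup p ↥Q) (hQ1 : Q ≠ ⊥) (hL : Cfsg.IsLarge Q) (Qb : Subgroup H) (hQb : Qb = Cfsg.largeBullet p Q) : (∀ g : H, g ∉ Subgroup.normalizer ((Q : Subgroup H) : Set H) → Subgroup.centralizer ((Q : Subgroup H) : Set H) ⊓ Subgroup.centralizer ((((Q : Subgroup H).map (MulAut.conj (g : H)).toMonoidHom) : Subgroup H) : Set H) = ⊥ ∧ Subgroup.centralizer ((Qb : Subgroup H) : Set H) ⊓ Subgroup.centralizer ((((Qb : Subgroup H).map (MulAut.conj (g : H)).toMonoidHom) : Subgroup H) : Set H) = ⊥ ∧ (Q ⊓ Subgroup.centralizer ((Q : Subgroup H) : Set H)) ⊓ (((Q : Subgroup H).map (MulAut.conj (g : H)).toMonoidHom) ⊓ Subgroup.centralizer ((((Q : Subgroup H).map (MulAut.conj (g : H)).toMonoidHom) : Subgroup H) : Set H)) = ⊥ ∧ (Qb ⊓ Subgroup.centralizer ((Qb : Subgroup H) : Set H)) ⊓ (((Qb : Subgroup H).map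 (MulAut.conj (g : H)).toMonoidHom) ⊓ Subgroup.centralizer ((((Qb : Subgroup H).map (MulAut.conj (g : H)).toMonoidHom) : Subgroup H) : Set H)) = ⊥) ∧ Subgroup.normalizer ((Q : Subgroup H) : Set H) = Subgroup.normalizer ((Qb : Subgroup H) : Set H) ∧ Cfsg.IsLarge Qb := by
  have hw : WCl p Q ⊤ := IsLarge.wcl hL hQ1
  have hQQb : Q ≤ Qb := by
    rw [hQb]
    exact le_pCoreOf Subgroup.le_normalizer le_rfl hQp
  have hQbp : IsPGroup p Qb := by rw [hQb]; exact pCoreOf_isPGroup _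
  have hN : Nz Q = Nz Qb := by
    apply le_antisymm
    · have h1 : Nz Q ≤ Nz (Cfsg.pCoreOf p (Nz Q)) := le_Nz_pCoreOf _
      have h2 : Cfsg.pCoreOf p (Nz Q) = Qb := hQb.symm
      rwa [h2] at h1
    · exact (le_inf le_top le_rfl).trans (hw Qb le_top hQbp hQQb)
  refine ⟨?_, hN, ?_, ?_⟩
  · intro g hg
    have h1 : Cz Q ⊓ Cz (cj g Q) = ⊥ := large_inf_centralizer hL hQp hQ1 hg
    have h2 : Cz Qb ⊓ Cz (cj g Qb) = ⊥ := by
      rw [eq_bot_iff, ← h1]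
      exact inf_le_inf (Cz_anti hQQb) (Cz_anti (cj_mono hQQb))
    refine ⟨h1, h2, ?_, ?_⟩
    · show (Q ⊓ Cz Q) ⊓ (cj g Q ⊓ Cz (cj g Q)) = ⊥
      rw [eq_bot_iff, ← h1]
      exact inf_le_inf inf_le_right inf_le_right
    · show (Qb ⊓ Cz Qb) ⊓ (cj g Qb ⊓ Cz (cj g Qb)) = ⊥
      rw [eq_bot_iff, ← h2]
      exact inf_le_inf inf_le_right inf_le_right
  · show Cz Qb ≤ Qb
    exact (Cz_anti hQQb).trans (hL.1.trans hQQb)
  · intro U hU hU1
    show Nz U ≤ Nz Qb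
    rw [← hN]
    exact hL.2 U (le_trans hU (Cz_anti hQQb)) hU1

end Cfsg.Agent.S2844
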