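import Cfsg.Statements.S2845
import Cfsg.Agent.H17_Large

set_option autoImplicit false
open Cfsg

namespace Cfsg.Agent.S2845

open Cfsg.Agent.H17.Base
open scoped commutatorElement
/-- Let Q be a nontrivial large p-subgroup of the finite group H. Then for every subgroup L ≥ Q with O_p(L) ≠ 1, C_H(O_p(L)) is a p-group and L has characteristic p, and either the weak closure L° of Q in L equals Q or C_H(L°) = 1; for every subgroup R of H containing a Sylow p-subgroup of H with O_p(R) ≠ 1, C_H(O_p(R)) ≤ O_p(R); and H has parabolic characteristic p. -/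
theorem result {H : Type*} [Group H] [Finite H] {p : ℕ} [Fact p.Prime] (Q : Subgroup H) (hQp : IsPGroup p ↥Q) (hQ1 : Q ≠ ⊥) (hL : Cfsg.IsLarge Q) : (∀ L : Subgroup H, Q ≤ L → Cfsg.pCore p ↥L ≠ ⊥ → IsPGroup p ↥(Subgroup.centralizer (((Cfsg.pCoreOf p L) : Subgroup H) : Set H)) ∧ Subgroup.centralizer (Cfsg.pCore p ↥L : Set ↥L) ≤ Cfsg.pCore p ↥L ∧ (Cfsg.weakClosure Q L = Q ∨ Subgroup.centralizer (((Cfsg.weakClosure Q L) : Subgroup H) : Set H) = ⊥)) ∧ (∀ R : Subgroup H, Cfsg.IsParabolic p R → Cfsg.pCore p ↥R ≠ ⊥ → Subgroup.centralizer (((Cfsg.pCoreOf p R) : Subgroup H) : Set H) ≤ (Cfsg.pCoreOf p R)) ∧ Cfsg.IsOfParabolicCharacteristic p H := by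
  have hw : WCl p Q ⊤ := IsLarge.wcl hL hQ1
  have hne : ∀ L : Subgroup H, Cfsg.pCore p ↥L ≠ ⊥ → Cfsg.pCoreOf p L ≠ ⊥ := by
    intro L h h'
    apply h
    unfold Cfsg.pCoreOf at h'
    rwa [Subgroup.map_eq_bot_iff_of_injective _ L.subtype_injective] at h'
  have hpar : ∀ R : Subgroup H, Cfsg.IsParabolic p R → Cfsg.pCore p ↥R ≠ ⊥ → Subgroup.centralizer (((Cfsg.pCoreOf p R) : Subgroup H) : Set H) ≤ (Cfsg.pCoreOf p R) := by
    rintro R ⟨T, hTR⟩ hR
    exact large_parabolic hL hQp hQ1 (isSylowIn_coe T) hTR (hne R hR)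
  refine ⟨?_, hpar, ?_⟩
  · intro L hQL hO
    obtain ⟨h1, h2⟩ := large_charP hL hQp hQ1 hQL (hne L hO)
    refine ⟨h1, Cfsg.Agent.H17.Base.charP_iff.2 h2, ?_⟩
    rw [weakClosure_eq_ncl hw hQp hQL]
    exact large_ncl_centralizer hL hQp hQ1 hQL
  · intro R hR hR1 hpR
    have h1 : Cfsg.pCoreOf p (Nz R) ≠ ⊥ := by
      intro h'
      apply hR1
      rw [eq_bot_iff, ← h']
      exact le_pCoreOf Subgroup.le_normalizer le_rfl hR
    have h2 := hpar (Nz R) hpR (by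
      intro h'
      apply h1
      show (Cfsg.pCore p ↥(Nz R)).map (Nz R).subtype = ⊥
      have h'' : Cfsg.pCore p ↥(Nz R) = ⊥ := h'
      rw [h'', Subgroup.map_bot])
    show Subgroup.centralizer (Cfsg.pCore p ↥(Nz R) : Set ↥(Nz R)) ≤ Cfsg.pCore p ↥(Nz R)
    rw [Cfsg.Agent.H17.Base.charP_iff]
    exact inf_le_right.trans h2

end Cfsg.Agent.S2845
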