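import Cfsg.Statements.S2846
import Cfsg.Agent.H17_FrakM
import Cfsg.Agent.H17_Large

set_option autoImplicit false
open Cfsg

namespace Cfsg.Agent.S2846

open Cfsg.Agent.H17.Base Cfsg.Agent.H17.FrakM in
/-- Let Q be a nontrivial large p-subgroup of the finite group H, S a Sylow p-subgroup containing Q, and L a subgroup containing S with O_p(L) ≠ 1 and C_H(O_p(L)) ≤ O_p(L). Then there are a subgroup M containing S having the basic property (M ∈ 𝔐_H, writing Y_X for the largest p-reduced normal subgroup of X and 𝓛_H for the set of subgroups X with O_p(X) ≠ 1 and C_H(O_p(X)) ≤ O_p(X): M ∈ 𝓛_H, M·C_H(Y_M) is the only maximal member of 𝓛_H containing M and its largest p-reduced normal subgroup is again Y_M, C_M(Y_M) is p-closed, and the image of C_M(Y_M) in M/O_p(M) lies in the Frattini subgroup of M/O_p(M)) and a subgroup L* with S ≤ L* ≤ M, O_p(L*) ≠ 1, C_H(O_p(L*)) ≤ O_p(L*), such that L·C_H(Y_L) = L*·C_H(Y_L), the weak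 closures of Q in L and in L* agree and lie in that of M, and Y_L = Y_{L*} ≤ Y_M. If moreover Q is not normal in L, then Q is normal in neither L* nor M. -/
theorem result {H : Type*} [Group H] [Finite H] {p : ℕ} [Fact p.Prime] (Q : Subgroup H) (hQp : IsPGroup p ↥Q) (hQ1 : Q ≠ ⊥) (hLg : Cfsg.IsLarge Q) (S : Sylow p H) (hQS : Q ≤ (S : Subgroup H)) (L : Subgroup H) (hSL : (S : Subgroup H) ≤ L) (hL : L ∈ Cfsg.charPSubgroups p H) : ∃ M Ls : Subgroup H, (S : Subgroup H) ≤ M ∧ Cfsg.IsInFrakM p M ∧ (S : Subgroup H) ≤ Ls ∧ Ls ≤ M ∧ Ls ∈ Cfsg.charPSubgroups p H ∧ L ⊔ Subgroup.centralizer (((Cfsg.largestPReducedOf p L) : Subgroup H) : Set H) = Ls ⊔ Subgroup.centralizer (((Cfsg.largestPReducedOf p L) : Subgroup H) : Set H) ∧ Cfsg.weakClosure Q L = Cfsg.weakClosure Q Ls ∧ Cfsg.weakClosure Q Ls ≤ Cfsg.weakClosure Q M ∧ (Cfsg.largestPReducedOf p L) = (Cfsg.largestPReducedOf p Ls) ∧ (Cfsg.largestPReducedOf p Ls) ≤ (Cfsg.largestPReducedOf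 p M) ∧ (¬ L ≤ Subgroup.normalizer ((Q : Subgroup H) : Set H) → ¬ Ls ≤ Subgroup.normalizer ((Q : Subgroup H) : Set H) ∧ ¬ M ≤ Subgroup.normalizer ((Q : Subgroup H) : Set H)) := by
  have hS := isSylowIn_coe S
  have h : Par p (S : Subgroup H) := ⟨hS, fun R hTR hO => large_parabolic hLg hQp hQ1 hS hTR hO⟩
  have hLO : pCoreOf p L ≠ ⊥ := (mem_charPSubgroups_iff.1 hL).1
  obtain ⟨M, Ls, h1, h2, h3, h4, h5, h6, h7, h8⟩ := h.exists_frakM hSL hLO
  have hw := IsLarge.wcl (p := p) hLg hQ1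
  have hQL := hQS.trans hSL
  have hQLs := hQS.trans h3
  have hQM := hQLs.trans h4
  have hYL := isPRed_largest (p := p) L
  have hCQ : Cz (largestPReducedOf p L) ≤ Nz Q :=
    IsLarge.Cz_le hLg hQp hYL.isPGroup (h.Y_ne hSL hLO) (hQL.trans hYL.norm)
  have hncl : ∀ X : Subgroup H, Q ≤ X → X ≤ Nz (Cz (largestPReducedOf p L)) →
      ncl (X ⊔ Cz (largestPReducedOf p L)) Q = ncl X Q := by
    intro X hQX hX
    apply le_antisymm
    · unfold ncl
      apply iSup_le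
      rintro ⟨g, hg⟩
      rw [mem_sup_of_le_Nz hX] at hg
      obtain ⟨a, ha, b, hb, rfl⟩ := hg
      show cj (a * b) Q ≤ _
      rw [cj_mul, cj_eq_of_mem_Nz (hCQ hb)]
      exact cj_le_ncl ha
    · apply ncl_le (le_ncl _ _)
      exact le_sup_left.trans (le_Nz_ncl _ _)
  have hLN : L ≤ Nz (Cz (largestPReducedOf p L)) := hYL.norm.trans (Nz_le_Nz_Cz _)
  have hLsN : Ls ≤ Nz (Cz (largestPReducedOf p L)) := by
    rw [h6]; exact (isPRed_largest Ls).norm.trans (Nz_le_Nz_Cz _)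
  refine ⟨M, Ls, h1, h2, h3, h4, (h.mem h3).2 h5, h8, ?_, ?_, h6, h6 ▸ h7, ?_⟩
  · rw [weakClosure_eq_ncl hw hQp hQL, weakClosure_eq_ncl hw hQp hQLs, ← hncl L hQL hLN, ← hncl Ls hQLs hLsN]
    exact congrArg (fun X => ncl X Q) h8
  · rw [weakClosure_eq_ncl hw hQp hQLs, weakClosure_eq_ncl hw hQp hQM]
    exact ncl_le (le_ncl _ _) (h4.trans (le_Nz_ncl _ _))
  · intro hn
    have h9 : ¬ Ls ≤ Nz Q := by
      intro h10
      apply hn
      exact le_sup_left.trans (h8.le.trans (sup_le h10 hCQ))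
    exact ⟨h9, fun h10 => h9 (h4.trans h10)⟩

end Cfsg.Agent.S2846
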