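import Cfsg.Statements.S2850
import Cfsg.Agent.H17_MFacts

set_option autoImplicit false
open Cfsg

namespace Cfsg.Agent.S2850

open Cfsg.Agent.H17.Base Cfsg.Agent.H17.FrakM in
/-- Standing hypotheses: G a finite group, S a Sylow p-subgroup, Q a nontrivial large p-subgroup of G contained in S (C_G(Q) ≤ Q and N_G(U) ≤ N_G(Q) for all nontrivial U ≤ C_G(Q)), and M a subgroup containing S with the basic property (M ∈ 𝔐_G(S)); Y_M denotes the largest p-reduced normal subgroup of M and M† = M·C_G(Y_M). Suppose Y_M is asymmetric in G. Then N_G(L) ≤ N_G(O_p(M)) ≤ M† for every p-subgroup L containing O_p(M); O_p(M) is a weakly closed subgroup of G; for every subgroup L containing O_p(M), L ∩ M† contains a Sylow p-subgroup of L; and two elements of Y_M conjugate in G are conjugate in M. -/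
theorem result {G : Type*} [Group G] [Finite G] {p : ℕ} [Fact p.Prime] (S : Sylow p G) (Q : Subgroup G) (hQp : IsPGroup p ↥Q) (hQ1 : Q ≠ ⊥) (hQS : Q ≤ (S : Subgroup G)) (hQ : Cfsg.IsLarge Q) (M : Subgroup G) (hSM : (S : Subgroup G) ≤ M) (hM : Cfsg.IsInFrakM p M) (hasym : ¬ Cfsg.IsSymmetricIn (Cfsg.largestPReducedOf p M)) : (∀ L : Subgroup G, IsPGroup p ↥L → (Cfsg.pCoreOf p M) ≤ L → Subgroup.normalizer ((L : Subgroup G) : Set G) ≤ Subgroup.normalizer (((Cfsg.pCoreOf p M) : Subgroup G) : Set G) ∧ Subgroup.normalizer (((Cfsg.pCoreOf p M) : Subgroup G) : Set G) ≤ (M ⊔ Subgroup.centralizer (((Cfsg.largestPReducedOf p M) : Subgroup G) : Set G))) ∧ Cfsg.IsWeaklyClosedSubgroup p (Cfsg.pCoreOf p M) ∧ (∀ L : Subgroup G, (Cfsg.pCoreOf p M) ≤ L → Cfsg.IsParabolic p ((L ⊓ (M ⊔ Subgroup.centralizer (((Cfsg.largestPReducedOf p M) : Subgroup G) : Set G))).subgroupOf L)) ∧ (∀ x ∈ (Cfsg.largestPReducedOf p M), ∀ g : G, g * x * g⁻¹ ∈ (Cfsg.largestPReducedOf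 p M) → ∃ m ∈ M, m * x * m⁻¹ = g * x * g⁻¹) := by
  have hP := Par.of_large (isSylowIn_coe S) hQ hQp hQ1
  have h := MF.of hP hSM hM
  have hOO := pCoreOf_isPGroup (p := p) M
  refine ⟨?_, ?_, ?_, ?_⟩
  · intro L hL hOL
    exact ⟨(h.facts hasym hL hOL).1, h.Nz_O_le⟩
  · rw [isWeaklyClosedSubgroup_iff hOO]
    exact h.wcl_top hasym
  · intro L hOL
    obtain ⟨R, hOR, hR⟩ := exists_isSylowIn_ge hOO hOL
    have h1 := (h.facts hasym hR.isPGroup hOR).2
    refine ⟨hR.toSylow, ?_⟩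
    rw [hR.coe_toSylow]
    intro x hx
    exact ⟨x.2, h1 hx⟩
  · intro x hx g hgx
    set O := pCoreOf p M with hO
    set Y := largestPReducedOf p M with hY
    -- `O` and `O^g` centralize `gxg⁻¹`
    set z := g * x * g⁻¹ with hz
    set C := Cz (Subgroup.zpowers z) with hC
    have hOC : O ≤ C := by
      have h1 : Subgroup.zpowers z ≤ Y := by rw [Subgroup.zpowers_le]; exact hgx
      exact h.O_le_C.trans (Cz_anti h1)
    have hOgC : cj g O ≤ C := by
      have h1 : Subgroup.zpowers z ≤ cj g Y := by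
        rw [Subgroup.zpowers_le, mem_cj, hz]
        have e : g⁻¹ * (g * x * g⁻¹) * g = x := by group
        rw [e]; exact hx
      have h2 := cj_mono (g := g) h.O_le_C
      rw [cj_Cz] at h2
      exact h2.trans (Cz_anti h1)
    obtain ⟨c, hc, hgc⟩ := (h.wcl_top hasym).exists_conj hOO le_top hOC (Subgroup.mem_top g) hOgC
    -- `c⁻¹ g ∈ N(O)`
    have h3 : c⁻¹ * g ∈ Nz O := by
      rw [mem_Nz_iff_cj, cj_mul, hgc, cj_inv_cj]
    have h4 := h.Nz_O_le h3
    obtain ⟨m, hm, d, hd, hmd⟩ := h.mem_dg.1 h4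
    refine ⟨m, hm, ?_⟩
    have h5 : d * x * d⁻¹ = x := by
      have := Subgroup.mem_centralizer_iff.1 hd x hx
      rw [← this]; group
    have h6 : c⁻¹ * z * c = z := by
      have := Subgroup.mem_centralizer_iff.1 hc z (Subgroup.mem_zpowers z)
      rw [mul_assoc, this]; group
    have h7 : m * x * m⁻¹ = (m * d) * x * (m * d)⁻¹ := by
      have e : (m * d) * x * (m * d)⁻¹ = m * (d * x * d⁻¹) * m⁻¹ := by group
      rw [e, h5]
    rw [h7, ← hmd]
    have e : c⁻¹ * g * x * (c⁻¹ * g)⁻¹ = c⁻¹ * (g * x * g⁻¹) * c := by group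
    rw [e]; exact h6

end Cfsg.Agent.S2850
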