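import Cfsg.Statements.S2851
import Cfsg.Agent.H17_QS
import Cfsg.Agent.H17_MFacts

set_option autoImplicit false
open Cfsg

namespace Cfsg.Agent.S2851

open Cfsg.Agent.H17.Base Cfsg.Agent.H17.FrakM Cfsg.Agent.H17.FS in
theorem key_FS {G : Type*} [Group G] [Finite G] {p : ℕ} [Fact p.Prime] {D C F X : Subgroup G}
    [hn : (C.subgroupOf D).Normal] (hred : pCore p (↥D ⧸ C.subgroupOf D) = ⊥)
    (hF : F = ((generalizedFittingSubgroup (↥D ⧸ C.subgroupOf D)).comap (QuotientGroup.mk' (C.subgroupOf D))).map D.subtype)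
    (hFX : F ≤ Nz X) (hXD : X ≤ D) (hX : resOf p X ≤ C) : X ≤ C := by
  have hFD : F ≤ D := by rw [hF]; exact Subgroup.map_subtype_le _
  have hFs : (F.subgroupOf D).map (QuotientGroup.mk' (C.subgroupOf D)) = FX _ := by
    rw [hF]
    have h1 : (((generalizedFittingSubgroup (↥D ⧸ C.subgroupOf D)).comap (QuotientGroup.mk' (C.subgroupOf D))).map D.subtype).subgroupOf D = (generalizedFittingSubgroup (↥D ⧸ C.subgroupOf D)).comap (QuotientGroup.mk' (C.subgroupOf D)) := by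
      unfold Subgroup.subgroupOf
      exact Subgroup.comap_map_eq_self_of_injective D.subtype_injective _
    rw [h1, Subgroup.map_comap_eq_self_of_surjective (QuotientGroup.mk'_surjective _)]
    rfl
  obtain ⟨Xb, hXb⟩ : ∃ Xb, Xb = (X.subgroupOf D).map (QuotientGroup.mk' (C.subgroupOf D)) := ⟨_, rfl⟩
  have hXp : IsPGroup p ↥Xb := by
    apply isPGroup_of_resOf_eq_bot
    rw [hXb, resOf_map, eq_bot_iff, Subgroup.map_le_iff_le_comap]
    intro x hx
    rw [Subgroup.mem_comap, Subgroup.mem_bot, ← MonoidHom.mem_ker, QuotientGroup.ker_mk']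
    apply Subgroup.mem_subgroupOf.2
    apply hX
    have h1 : (resOf p (X.subgroupOf D)).map D.subtype ≤ resOf p X := by
      rw [← resOf_map, Subgroup.map_subgroupOf_eq_of_le hXD]
    exact h1 ⟨x, hx, rfl⟩
  have hFN : FX _ ≤ Nz Xb := by
    rw [← hFs, hXb]
    have h1 : F.subgroupOf D ≤ Nz (X.subgroupOf D) := by
      rw [le_Nz_iff]
      intro a ha x hx
      exact Subgroup.mem_subgroupOf.2 ((le_Nz_iff.1 hFX) a (Subgroup.mem_subgroupOf.1 ha) x (Subgroup.mem_subgroupOf.1 hx))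
    rw [le_Nz_iff]
    rintro _ ⟨a, ha, rfl⟩ _ ⟨x, hx, rfl⟩
    refine ⟨a * x * a⁻¹, (le_Nz_iff.1 h1) a ha x hx, ?_⟩
    rw [map_mul, map_mul, map_inv]
  have h2 : Xb ⊓ FX _ = ⊥ := by
    have h3 : SN ⊤ (Xb ⊓ FX _) := sn_FX.trans (SN.of_normal inf_le_right
      ((le_inf hFN Subgroup.le_normalizer).trans (Nz_inf_le _ _)))
    have h4 := h3.le_pCoreOf (p := p) (hXp.to_le inf_le_left)
    rwa [pCoreOf_top, hred, le_bot_iff] at h4
  have h5 : Xb = ⊥ := by
    apply eq_bot_of_le_Cz hred hXp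
    rw [← commutator_eq_bot_iff_le_Cz', eq_bot_iff, ← h2]
    exact le_inf (commutator_le_right_iff.2 hFN) (commutator_le_left_iff.2 (le_Nz_FX _))
  intro x hx
  have h6 : QuotientGroup.mk' (C.subgroupOf D) ⟨x, hXD hx⟩ ∈ Xb := by
    rw [hXb]; exact ⟨⟨x, hXD hx⟩, Subgroup.mem_subgroupOf.2 hx, rfl⟩
  rw [h5, Subgroup.mem_bot, ← MonoidHom.mem_ker, QuotientGroup.ker_mk'] at h6
  exact Subgroup.mem_subgroupOf.1 h6

open Cfsg.Agent.H17.Base Cfsg.Agent.H17.FrakM in
theorem le_O {G : Type*} [Group G] [Finite G] {p : ℕ} [Fact p.Prime] {S M P : Subgroup G} (h : MF p S M)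
    (hP : IsPGroup p P) (hOP : pCoreOf p M ≤ Nz P) (hc : P ⊓ Nz (pCoreOf p M) ≤ Cz (largestPReducedOf p M)) :
    P ≤ pCoreOf p M := by
  by_contra hne
  have h1 : IsPGroup p ↥(P ⊔ pCoreOf p M) := isPGroup_sup_of_le_Nz' hP (pCoreOf_isPGroup M) hOP
  have h2 : pCoreOf p M < P ⊔ pCoreOf p M :=
    lt_of_le_of_ne le_sup_right (fun e => hne (e ▸ le_sup_left))
  obtain ⟨x, hx1, hx2, hx3⟩ := exists_mem_Nz_notMem h1 h2
  obtain ⟨a, ha, b, hb, rfl⟩ := (mem_sup_of_le_Nz' hOP).1 hx1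
  apply hx3
  have h3 : a ∈ Nz (pCoreOf p M) := by
    have := mul_mem hx2 (inv_mem (Subgroup.le_normalizer hb : b ∈ Nz (pCoreOf p M)))
    rwa [mul_inv_cancel_right] at this
  have h4 := hc ⟨ha, h3⟩
  have h5 : a ∈ pCoreOf p M := by
    rw [← h.inf_C h1 le_sup_right]
    exact ⟨(le_sup_left : P ≤ P ⊔ pCoreOf p M) ha, h4⟩
  exact mul_mem h5 hb

open Cfsg.Agent.H17.Base Cfsg.Agent.H17.FrakM Cfsg.Agent.H17.Amalgam in
/-- Standing hypotheses: G a finite group, S a Sylow p-subgroup, Q a nontrivial large p-subgroup of G contained in S, M a subgroup containing S with the basic property (M ∈ 𝔐_G(S)); Y_M the largest p-reduced normal subgroup of M and M† = M·C_G(Y_M). Let F be the preimage in M† of the generalized Fitting subgroup of M†/C_{M†}(Y_M). If Y_M is asymmetric in G and H is a subgroup of characteristic p containing F, then Y_M ≤ Y_H. -/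
theorem result {G : Type*} [Group G] [Finite G] {p : ℕ} [Fact p.Prime] (S : Sylow p G) (Q : Subgroup G) (hQp : IsPGroup p ↥Q) (hQ1 : Q ≠ ⊥) (hQS : Q ≤ (S : Subgroup G)) (hQ : Cfsg.IsLarge Q) (M : Subgroup G) (hSM : (S : Subgroup G) ≤ M) (hM : Cfsg.IsInFrakM p M) (hasym : ¬ Cfsg.IsSymmetricIn (Cfsg.largestPReducedOf p M)) [hn : ((Subgroup.centralizer (((Cfsg.largestPReducedOf p M) : Subgroup G) : Set G)).subgroupOf (M ⊔ Subgroup.centralizer (((Cfsg.largestPReducedOf p M) : Subgroup G) : Set G))).Normal] (F : Subgroup G) (hF : F = ((Cfsg.generalizedFittingSubgroup (↥(M ⊔ Subgroup.centralizer (((Cfsg.largestPReducedOf p M) : Subgroup G) : Set G)) ⧸ (Subgroup.centralizer (((Cfsg.largestPReducedOf p M) : Subgroup G) : Set G)).subgroupOf (M ⊔ Subgroup.centralizer (((Cfsg.largestPReducedOf p M) : Subgroup G) : Set G)))).comap (QuotientGroup.mk' ((Subgroup.centralizer (((Cfsg.largestPReducedOf p M) : Subgroup G) : Set G)).subgroupOf (M ⊔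 Subgroup.centralizer (((Cfsg.largestPReducedOf p M) : Subgroup G) : Set G))))).map ((M ⊔ Subgroup.centralizer (((Cfsg.largestPReducedOf p M) : Subgroup G) : Set G))).subtype) (H : Subgroup G) (hFH : F ≤ H) (hH : Subgroup.centralizer (Cfsg.pCore p ↥H : Set ↥H) ≤ Cfsg.pCore p ↥H) : (Cfsg.largestPReducedOf p M) ≤ Cfsg.largestPReducedOf p H := by
  have hP := Par.of_large (isSylowIn_coe S) hQ hQp hQ1
  have h := MF.of hP hSM hM
  have hCd : Subgroup.centralizer ((largestPReducedOf p M : Subgroup G) : Set G) ≤ M ⊔ Subgroup.centralizer ((largestPReducedOf p M : Subgroup G) : Set G) := le_sup_right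
  have hred : pCore p (↥(M ⊔ Subgroup.centralizer (((Cfsg.largestPReducedOf p M) : Subgroup G) : Set G)) ⧸ (Subgroup.centralizer (((Cfsg.largestPReducedOf p M) : Subgroup G) : Set G)).subgroupOf (M ⊔ Subgroup.centralizer (((Cfsg.largestPReducedOf p M) : Subgroup G) : Set G))) = ⊥ := by
    rw [pCore_quotient_eq_bot_iff]
    intro K hK hres
    have h1 := (isPRed_dg (p := p) M).noP (K.map (dg p M).subtype) (Subgroup.map_subtype_le _) (by
      rw [Cfsg.Agent.H17.Base.le_Nz_iff]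
      rintro g hg _ ⟨x, hx, rfl⟩
      exact ⟨⟨g, hg⟩ * x * ⟨g, hg⟩⁻¹, hK.conj_mem x hx _, rfl⟩) (by
      rw [resOf_map_of_injective (dg p M).subtype_injective]
      rintro _ ⟨x, hx, rfl⟩
      exact Subgroup.mem_subgroupOf.1 (hres hx))
    intro x hx
    exact Subgroup.mem_subgroupOf.2 (h1 ⟨x, hx, rfl⟩)
  have key : ∀ X : Subgroup G, F ≤ Nz X → X ≤ dg p M → resOf p X ≤ Cz (largestPReducedOf p M) → X ≤ Cz (largestPReducedOf p M) :=
    fun X h1 h2 h3 => key_FS hred hF h1 h2 h3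
  have hCF : Cz (largestPReducedOf p M) ≤ F := by
    rw [hF]
    intro x hx
    refine ⟨⟨x, hCd hx⟩, ?_, rfl⟩
    rw [SetLike.mem_coe, Subgroup.mem_comap]
    have : QuotientGroup.mk' ((Subgroup.centralizer (((Cfsg.largestPReducedOf p M) : Subgroup G) : Set G)).subgroupOf (M ⊔ Subgroup.centralizer (((Cfsg.largestPReducedOf p M) : Subgroup G) : Set G))) ⟨x, hCd hx⟩ = 1 := by
      rw [← MonoidHom.mem_ker, QuotientGroup.ker_mk']
      exact Subgroup.mem_subgroupOf.2 hx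
    rw [this]
    exact one_mem _
  have hFd : F ≤ dg p M := by rw [hF]; exact Subgroup.map_subtype_le _
  have hFY : F ≤ Nz (largestPReducedOf p M) := hFd.trans h.nz.ge
  have hOH : pCoreOf p M ≤ H := (h.O_le_C.trans hCF).trans hFH
  have hch : CharP p H := Cfsg.Agent.H17.Base.charP_iff.1 hH
  -- p-subgroups normal in H
  have hsub : ∀ K : Subgroup G, K ≤ H → H ≤ Nz K → resOf p K ≤ Cz (largestPReducedOf p M) →
      K ⊓ Nz (pCoreOf p M) ≤ Cz (largestPReducedOf p M) := by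
    intro K hKH hHK hres
    have h1 := key (K ⊓ Nz (largestPReducedOf p M)) (by
      exact (le_inf (hFH.trans hHK) (hFY.trans Subgroup.le_normalizer)).trans (Nz_inf_le _ _)) (by
      rw [← h.nz]; exact inf_le_right) ((resOf_mono inf_le_left).trans hres)
    refine le_trans (inf_le_inf_left _ ?_) h1
    rw [h.nz]; exact h.Nz_O_le
  have hPO : pCoreOf p H ≤ pCoreOf p M := by
    apply le_O h (pCoreOf_isPGroup H) (hOH.trans (le_Nz_pCoreOf H))
    apply hsub _ (Cfsg.Agent.H17.Base.pCoreOf_le H) (le_Nz_pCoreOf H)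
    rw [resOf_eq_bot_iff.2 (pCoreOf_isPGroup (p := p) H)]; exact bot_le
  have hYH : largestPReducedOf p M ≤ H := (h.Y_le_O).trans hOH
  have hYC : largestPReducedOf p M ≤ Cz (pCoreOf p H) := le_Cz_comm.1 (hPO.trans h.O_le_C)
  have hYP : largestPReducedOf p M ≤ pCoreOf p H := (le_inf hYH hYC).trans hch
  have hYea := (isPRed_largest (p := p) M).ea
  obtain ⟨T, hOT, hT⟩ := exists_isSylowIn_ge (pCoreOf_isPGroup (p := p) M) hOH
  have h2 : largestPReducedOf p M ≤ OZ p (pCoreOf p H) := Cfsg.Agent.H17.Base.le_OZ hYea hYP hYC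
  have h3 : ncl H (largestPReducedOf p M) ≤ OZ p (pCoreOf p H) :=
    ncl_le h2 ((le_Nz_pCoreOf H).trans (Nz_le_Nz_OZ _))
  have h4 : IsPRed p (ncl H (largestPReducedOf p M)) H := by
    refine ⟨ncl_le_self hYH, le_Nz_ncl _ _, ea_mono (ea_OZ _) h3, ?_⟩
    apply noP_of_sylow hT (le_Nz_ncl _ _) le_rfl _ (le_ncl _ _)
    intro K hKH hHK hres
    have h5 : T ⊓ K ≤ pCoreOf p M := by
      apply le_O h (hT.isPGroup.to_le inf_le_left)
      · exact (le_inf (hOT.trans Subgroup.le_normalizer) ((hOH.trans hHK))).trans (Nz_inf_le _ _)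
      · exact (inf_le_inf_right _ inf_le_right).trans (hsub K hKH hHK (hres.trans (Cz_anti (le_ncl _ _))))
    exact h5.trans h.O_le_C
  exact (le_ncl _ _).trans h4.le_largest

end Cfsg.Agent.S2851
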