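import Cfsg.Statements.S2854
import Cfsg.Agent.H17_FrakH

set_option autoImplicit false
open Cfsg

namespace Cfsg.Agent.S2854

open Cfsg.Agent.H17.Base Cfsg.Agent.H17.FrakM in
/-- Standing hypotheses: G a finite group, S a Sylow p-subgroup, Q a nontrivial large p-subgroup of G contained in S, M a subgroup containing S with the basic property (M ∈ 𝔐_G(S)); Y_M the largest p-reduced normal subgroup of M and M† = M·C_G(Y_M). Suppose Y_M is asymmetric in G, H ∈ ℌ_G(O_p(M)), and H ≤ N_G(gQg⁻¹) for some g ∈ G. Then gQg⁻¹ ≤ O_p(H·gQg⁻¹) ≤ N_G(O_p(M)) ≤ N_G(Y_M) = M†; H is normal in H·gQg⁻¹ with O^p(H) = O^p(H·gQg⁻¹); and H·gQg⁻¹ is p-irreducible. -/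
theorem result {G : Type*} [Group G] [Finite G] {p : ℕ} [Fact p.Prime] (S : Sylow p G) (Q : Subgroup G) (hQp : IsPGroup p ↥Q) (hQ1 : Q ≠ ⊥) (hQS : Q ≤ (S : Subgroup G)) (hQ : Cfsg.IsLarge Q) (M : Subgroup G) (hSM : (S : Subgroup G) ≤ M) (hM : Cfsg.IsInFrakM p M) (hasym : ¬ Cfsg.IsSymmetricIn (Cfsg.largestPReducedOf p M)) (H : Subgroup G) (hH : Cfsg.IsInFrakH p M H) (g : G) (hHQ : H ≤ Subgroup.normalizer ((((Q : Subgroup G).map (MulAut.conj (g : G)).toMonoidHom) : Subgroup G) : Set G)) : ((Q : Subgroup G).map (MulAut.conj (g : G)).toMonoidHom) ≤ Cfsg.pCoreOf p (H ⊔ ((Q : Subgroup G).map (MulAut.conj (g : G)).toMonoidHom)) ∧ Cfsg.pCoreOf p (H ⊔ ((Q : Subgroup G).map (MulAut.conj (g : G)).toMonoidHom)) ≤ Subgroup.normalizer (((Cfsg.pCoreOf p M) : Subgroup G) : Set G) ∧ Subgroup.normalizer (((Cfsg.pCoreOf p M) : Subgroup G) : Set G) ≤ Subgroup.normalizer (((Cfsg.largestPReducedOf p M) : Subgroup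 G) : Set G) ∧ Subgroup.normalizer (((Cfsg.largestPReducedOf p M) : Subgroup G) : Set G) = (M ⊔ Subgroup.centralizer (((Cfsg.largestPReducedOf p M) : Subgroup G) : Set G)) ∧ (H.subgroupOf (H ⊔ ((Q : Subgroup G).map (MulAut.conj (g : G)).toMonoidHom))).Normal ∧ (Cfsg.pResidual p ↥H).map H.subtype = (Cfsg.pResidual p ↥(H ⊔ ((Q : Subgroup G).map (MulAut.conj (g : G)).toMonoidHom))).map (H ⊔ ((Q : Subgroup G).map (MulAut.conj (g : G)).toMonoidHom)).subtype ∧ Cfsg.IsPIrreducible p ↥(H ⊔ ((Q : Subgroup G).map (MulAut.conj (g : G)).toMonoidHom)) := by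
  have hP := Par.of_large (isSylowIn_coe S) hQ hQp hQ1
  have h := MF.of hP hSM hM
  have f := fh_iff.1 hH
  set Qg := cj g Q with hQg
  change Qg ≤ pCoreOf p (H ⊔ Qg) ∧ pCoreOf p (H ⊔ Qg) ≤ Nz (pCoreOf p M) ∧ Nz (pCoreOf p M) ≤ Nz (largestPReducedOf p M) ∧ Nz (largestPReducedOf p M) = dg p M ∧ (H.subgroupOf (H ⊔ Qg)).Normal ∧ resOf p H = resOf p (H ⊔ Qg) ∧ IsPIrreducible p ↥(H ⊔ Qg)
  have hHQg : H ≤ Nz Qg := hHQ
  have hQgp : IsPGroup p Qg := cj_isPGroup hQp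
  set H1 := H ⊔ Qg with hH1
  have h1 : Qg ≤ pCoreOf p H1 := le_pCoreOf le_sup_right (sup_le hHQg Subgroup.le_normalizer) hQgp
  have hOH1 : pCoreOf p M ≤ H1 := f.le.trans le_sup_left
  have h2 := h.pgroup_norm hasym hOH1
  have hHn : H1 ≤ Nz H := by
    apply sup_le Subgroup.le_normalizer
    apply le_Nz_of_forall_cj_le
    intro q hq
    conv_lhs => rw [← f.gen]
    unfold ncl
    show Subgroup.map _ _ ≤ _
    rw [Subgroup.map_iSup]
    apply iSup_le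
    rintro ⟨x, hx⟩
    show cj q (cj x (pCoreOf p M)) ≤ H
    have e : cj q (cj x (pCoreOf p M)) = cj x (cj (x⁻¹ * q * x) (pCoreOf p M)) := by
      rw [← cj_mul, ← cj_mul]; congr 1; group
    have h3 : x⁻¹ * q * x ∈ Qg := by
      have := (Subgroup.mem_normalizer_iff.1 ((Nz Qg).inv_mem (hHQg hx)) q).1 hq
      rwa [inv_inv] at this
    rw [e, cj_eq_of_mem_Nz (h2 (h1 h3))]
    refine (cj_mono f.le).trans ?_
    rw [cj_eq_of_mem hx]
  have hsn : SN H1 H := SN.of_normal le_sup_left hHn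
  refine ⟨h1, h2, h.Nz_O_le.trans h.nz.ge, h.nz, (normal_subgroupOf_iff le_sup_left).2 hHn, ?_, ?_⟩
  · exact hsn.resOf_eq_of_sup hQgp rfl hHQg
  · rw [isPIrreducible_iff]
    apply f.pirr_sup le_sup_left hHn
    apply le_antisymm (sup_le le_sup_left (pCoreOf_le _))
    exact sup_le_sup_left h1 _

end Cfsg.Agent.S2854
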