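import Cfsg.Statements.S2855
import Cfsg.Agent.H17_KFam
import Cfsg.Agent.H17_WCProd

set_option autoImplicit false
open Cfsg

namespace Cfsg.Agent.S2855

open Cfsg.Agent.H17.Base Cfsg.Agent.H17.KFam in
/-- Let H be a finite group, p a prime, and 𝒦 a nonempty set of subgroups of H permuted transitively by conjugation, with R the subgroup generated by the members of 𝒦. Suppose O^p(H) ≤ R, each E ∈ 𝒦 has E·O_p(H) normal in R·O_p(H), and each E ∈ 𝒦 is p-minimal (generated by the conjugates of a Sylow p-subgroup T_E of E, with T_E in exactly one maximal subgroup of E). Then H is p-minimal in the same sense. If instead each E ∈ 𝒦 is strongly p-irreducible, then H is p-irreducible and, for E, K ∈ 𝒦, either O^p(E·O_p(H)) = O^p(K·O_p(H)) or [E, K] ≤ O_p(H). -/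
theorem result {H : Type*} [Group H] [Finite H] {p : ℕ} [Fact p.Prime] (𝒦 : Set (Subgroup H)) (hne : 𝒦.Nonempty) (hinv : ∀ h : H, ∀ E ∈ 𝒦, E.map (MulAut.conj h).toMonoidHom ∈ 𝒦) (htr : ∀ E ∈ 𝒦, ∀ K ∈ 𝒦, ∃ h : H, K = E.map (MulAut.conj h).toMonoidHom) (hres : Cfsg.pResidual p H ≤ sSup 𝒦) (hnorm : ∀ E ∈ 𝒦, sSup 𝒦 ⊔ Cfsg.pCore p H ≤ Subgroup.normalizer ((E ⊔ Cfsg.pCore p H : Subgroup H) : Set H)) : ((∀ E ∈ 𝒦, ∀ T : Sylow p ↥E, Cfsg.IsMinimalOver (T : Subgroup ↥E)) → ∀ T : Sylow p H, Cfsg.IsMinimalOver (T : Subgroup H)) ∧ ((∀ E ∈ 𝒦, Cfsg.IsStronglyPIrreducible p ↥E) → Cfsg.IsPIrreducible p H ∧ ∀ E ∈ 𝒦, ∀ K ∈ 𝒦, (Cfsg.pResidual p ↥(E ⊔ Cfsg.pCore p H)).map (E ⊔ Cfsg.pCore p H).subtype = (Cfsg.pResidual p ↥(K ⊔ Cfsg.pCore p H)).map (K ⊔ Cfsg.pCore p H).subtype ∨ ⁅E, K⁆ ≤ Cfsg.pCore p H) := by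
  have hPn : (pCore p H).Normal := pCore_normal p H
  rw [← resOf_top] at hres
  constructor
  · intro hmin T
    have h1 := partOne (p := p) 𝒦 hne hinv htr hres hnorm (by
      intro E hE T' hT'
      have h2 := hmin E hE hT'.toSylow
      rw [hT'.coe_toSylow] at h2
      exact (isMinimalOver_subgroupOf_iff hT'.le).1 h2) (isSylowIn_coe T)
    exact isMinimalOver_iff_top.2 h1
  · intro hs
    set P := pCore p H with hP
    set f := QuotientGroup.mk' P with hf
    have hfs : Function.Surjective f := QuotientGroup.mk'_surjective P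
    have hker : f.ker = P := QuotientGroup.ker_mk' P
    have hkerp : ∀ x ∈ f.ker, ∃ k : ℕ, x ^ p ^ k = 1 := by
      rw [hker]; exact isPGroup_iff_forall_mem.1 (pCore_isPGroup p H)
    have hmapP : P.map f = ⊥ := by rw [hf, QuotientGroup.map_mk'_self]
    have hEP : ∀ E : Subgroup H, (E ⊔ P).map f = E.map f := by
      intro E; rw [Subgroup.map_sup, hmapP, sup_bot_eq]
    set R := sSup 𝒦 with hR
    have hRn : R.Normal := by
      have h1 : ∀ x : H, cj x R ≤ R := by
        intro x
        show Subgroup.map _ _ ≤ _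
        rw [hR, sSup_eq_iSup', Subgroup.map_iSup]
        apply iSup_le
        rintro ⟨E, hE⟩
        rw [← sSup_eq_iSup']
        exact le_sSup (hinv x E hE)
      rw [normal_iff_top_le_Nz]
      intro x _
      exact mem_Nz_of_cj_le (h1 x)
    have hRm : R.map f = sSup {F | ∃ E ∈ 𝒦, F = E.map f} := by
      apply le_antisymm
      · rw [hR, sSup_eq_iSup', Subgroup.map_iSup]
        apply iSup_le
        rintro ⟨E, hE⟩
        exact le_sSup ⟨E, hE, rfl⟩
      · apply sSup_le
        rintro _ ⟨E, hE, rfl⟩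
        exact Subgroup.map_mono (le_sSup hE)
    have hsn : ∀ E ∈ 𝒦, SN (⊤ : Subgroup H) (E ⊔ P) := by
      intro E hE
      have h1 : SN (⊤ : Subgroup H) (R ⊔ P) := by
        apply SN.of_normal le_top
        have : (R ⊔ P).Normal := inferInstance
        exact le_Nz_of_normal _ _
      exact h1.trans (SN.of_normal (sup_le_sup_right (le_sSup hE) _) (hnorm E hE))
    have key := theoremB (p := p) (Cfsg.Agent.H17.WCProd.pCore_quot_bot (G := H)) {F | ∃ E ∈ 𝒦, F = E.map f}
      (by obtain ⟨E, hE⟩ := hne; exact ⟨_, E, hE, rfl⟩)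
      (by
        rintro _ ⟨E, hE, rfl⟩ _ ⟨K, hK, rfl⟩
        obtain ⟨x, rfl⟩ := htr E hE K hK
        exact ⟨f x, map_cj' _ _ _⟩)
      (by rw [← hRm]; exact hRn.map f hfs)
      (by
        rw [← Subgroup.map_top_of_surjective f hfs, resOf_map, ← hRm]
        exact Subgroup.map_mono hres)
      (by
        rintro _ ⟨E, hE, rfl⟩
        rw [← hRm, ← hEP E]
        exact (Subgroup.map_mono (le_sup_left.trans (hnorm E hE))).trans (Subgroup.le_normalizer_map f))
      (by
        rintro _ ⟨E, hE, rfl⟩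
        have h1 := isStronglyPIrreducible_iff_top.1 (hs E hE)
        have h2 := (spirr_quot (f := f.subgroupMap E) (f.subgroupMap_surjective E) (by
          rintro ⟨x, hx⟩ hxk
          have h3 : x ∈ f.ker := by
            rw [MonoidHom.mem_ker] at hxk ⊢
            exact congrArg Subtype.val hxk
          obtain ⟨k, hk⟩ := hkerp x h3
          exact ⟨k, Subtype.ext hk⟩)).1 h1
        rw [← spirr_map_iff (E.map f).subtype_injective, map_top_subtype] at h2
        exact h2)
    obtain ⟨k1, k2⟩ := key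
    constructor
    · rw [isPIrreducible_iff_top, pirr_quot hfs hkerp]
      exact k1
    · intro E hE K hK
      rcases k2 _ ⟨E, hE, rfl⟩ _ ⟨K, hK, rfl⟩ with h1 | h1
      · left
        show resOf p (E ⊔ P) = resOf p (K ⊔ P)
        rw [← hEP E, ← hEP K, resOf_map, resOf_map] at h1
        have h2 : resOf p (E ⊔ P) ⊔ P = resOf p (K ⊔ P) ⊔ P := by
          have h3 := congrArg (Subgroup.comap f) h1
          rwa [Subgroup.comap_map_eq, Subgroup.comap_map_eq, hker] at h3
        have h3 : ∀ F : Subgroup H, SN (⊤ : Subgroup H) F → resOf p (resOf p F ⊔ P) = resOf p F := by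
          intro F hF
          have h4 : SN (⊤ : Subgroup H) (resOf p F) := hF.trans (SN.of_normal (resOf_le F) (le_Nz_resOf F))
          have h5 := h4.sup_pCoreOf_resOf (p := p)
          rwa [pCoreOf_top, resOf_resOf] at h5
        rw [← h3 _ (hsn E hE), h2, h3 _ (hsn K hK)]
      · right
        rw [← commutator_eq_bot_iff_le_Cz, ← Subgroup.map_commutator, Subgroup.map_eq_bot_iff, hker] at h1
        exact h1

end Cfsg.Agent.S2855
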