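import Cfsg.Statements.S2859
import Cfsg.Agent.H17_WCProd

set_option autoImplicit false
open Cfsg

namespace Cfsg.Agent.S2859

open Cfsg.Agent.H17.Base Cfsg.Agent.H17.WCProd in
/-- Let Q be a nontrivial p-subgroup of the finite group H that is a weakly closed subgroup, H° the weak closure of Q in H (generated by the conjugates of Q) and H_∘ = O^p(H°). Suppose H₁, H₂ are normal subgroups of H° with H° = H₁H₂ and [H₁, H₂] ≤ N_H(Q), and put Kᵢ = O^p of the weak closure of Q in HᵢQ. Then for i = 1, 2: Kᵢ = [Kᵢ, Q] = [Kᵢ, Hᵢ] ≤ Hᵢ′ and Kᵢ is normal in H°; H_∘ = K₁K₂; and [K₁, K₂] ≤ O_p(H°). -/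
theorem result {G : Type*} [Group G] [Finite G] {p : ℕ} [Fact p.Prime] (Q : Subgroup G) (hQp : IsPGroup p ↥Q) (hQ1 : Q ≠ ⊥) (hwc : Cfsg.IsWeaklyClosedSubgroup p Q) (Hc : Subgroup G) (hHc : Hc = Cfsg.weakClosure Q ⊤) (H₁ H₂ : Subgroup G) (hn₁ : H₁ ≤ Hc ∧ Hc ≤ Subgroup.normalizer ((H₁ : Subgroup G) : Set G)) (hn₂ : H₂ ≤ Hc ∧ Hc ≤ Subgroup.normalizer ((H₂ : Subgroup G) : Set G)) (hprod : H₁ ⊔ H₂ = Hc) (hcomm : ⁅H₁, H₂⁆ ≤ Subgroup.normalizer ((Q : Subgroup G) : Set G)) (K₁ K₂ : Subgroup G) (hK₁ : K₁ = ((Cfsg.pResidual p ↥(Cfsg.weakClosure Q (H₁ ⊔ Q))).map ((Cfsg.weakClosure Q (H₁ ⊔ Q))).subtype)) (hK₂ : K₂ = ((Cfsg.pResidual p ↥(Cfsg.weakClosure Q (H₂ ⊔ Q))).map ((Cfsg.weakClosure Q (H₂ ⊔ Q))).subtype)) : (⁅K₁, Q⁆ = K₁ ∧ ⁅K₁, H₁⁆ = K₁ ∧ K₁ ≤ ⁅H₁, H₁⁆ ∧ Hc ≤ Subgroup.normalizer ((K₁ : Subgroup G) : Set G)) ∧ (⁅K₂, Q⁆ =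 K₂ ∧ ⁅K₂, H₂⁆ = K₂ ∧ K₂ ≤ ⁅H₂, H₂⁆ ∧ Hc ≤ Subgroup.normalizer ((K₂ : Subgroup G) : Set G)) ∧ K₁ ⊔ K₂ = ((Cfsg.pResidual p ↥Hc).map (Hc).subtype) ∧ ⁅K₁, K₂⁆ ≤ (Cfsg.pCoreOf p Hc) := by
  have hw : WCl p Q ⊤ := (isWeaklyClosedSubgroup_iff hQp).1 hwc
  rw [weakClosure_eq_ncl hw hQp le_top] at hHc
  have hQH : Q ≤ Hc := hHc ▸ le_ncl ⊤ Q
  have hncl : ncl Hc Q = Hc := by
    have h1 : SN (⊤ : Subgroup G) Hc := by
      rw [hHc]; exact SN.of_normal le_top (le_Nz_ncl ⊤ Q)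
    rw [← hw.ncl_eq_of_sn hQp h1 hQH, ← hHc]
  obtain ⟨h1, n1⟩ := hn₁
  obtain ⟨h2, n2⟩ := hn₂
  have hP := comm_le_core hQp hQH hncl h1 n1 h2 n2 hprod hcomm
  have hP' : ⁅H₂, H₁⁆ ≤ pCoreOf p Hc := by rw [Subgroup.commutator_comm]; exact hP
  rw [weakClosure_eq_ncl hw hQp le_sup_right] at hK₁ hK₂
  obtain ⟨a1, a2, a3, a4, a5, a6, a7⟩ := part hw hQp hQH hncl h1 n1 h2 n2 hprod hP hK₁
  obtain ⟨b1, b2, b3, b4, b5, b6, b7⟩ := part hw hQp hQH hncl h2 n2 h1 n1 (by rw [sup_comm]; exact hprod) hP' hK₂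
  refine ⟨⟨a1, a2, a3, a4⟩, ⟨b1, b2, b3, b4⟩, ?_, ?_⟩
  · apply le_antisymm (sup_le a7 b7)
    have hn : Hc ≤ Nz (K₁ ⊔ K₂) := (le_inf a4 b4).trans (Nz_sup_le _ _)
    have hX : Hc ≤ Nz ((K₁ ⊔ K₂) ⊔ Q) := by
      conv_lhs => rw [← hprod]
      apply sup_le
      · apply le_Nz_of_forall_cj_le
        intro y hy
        rw [cj_sup, cj_eq_of_mem_Nz (hn (h1 hy))]
        exact sup_le le_sup_left ((a6 y hy).trans (sup_le_sup_right le_sup_left _))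
      · apply le_Nz_of_forall_cj_le
        intro y hy
        rw [cj_sup, cj_eq_of_mem_Nz (hn (h2 hy))]
        exact sup_le le_sup_left ((b6 y hy).trans (sup_le_sup_right le_sup_right _))
    have h3 : (K₁ ⊔ K₂) ⊔ Q = Hc := by
      apply le_antisymm (sup_le (sup_le (a5.trans h1) (b5.trans h2)) hQH)
      conv_lhs => rw [← hncl]
      exact ncl_le le_sup_right hX
    exact resOf_le_of_sup hn hQp h3
  · exact (Subgroup.commutator_mono a5 b5).trans hP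

end Cfsg.Agent.S2859
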