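import Cfsg.Statements.S2860
import Cfsg.Agent.H17_Img
import Cfsg.Agent.H17_Large

set_option autoImplicit false
open Cfsg

namespace Cfsg.Agent.S2860

open Cfsg.Agent.H17.Base Cfsg.Agent.H17.FS Cfsg.Agent.H17.Img in
/-- Let Q be a nontrivial large p-subgroup of the finite group H, U a nontrivial elementary abelian p-subgroup of H, and Q ≤ E ≤ N_H(U) with Q not normal in E. Suppose O_p(E/C_E(U)) = 1 and O^p(E)·C_E(U)/C_E(U) is quasisimple. Let E° be the weak closure of Q in E (generated by the conjugates of Q inside E) and E_∘ = O^p(E°). Then O^p(E)·C_E(U) = E_∘·C_E(U); E_∘ is perfect and equals O^p(E_∘); E_∘/C_{E_∘}(U) and E_∘/O_p(E_∘) are quasisimple; and E_∘ = [E_∘, Y] for every p-subgroup Y of E not centralizing U. -/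
theorem result {G : Type*} [Group G] [Finite G] {p : ℕ} [Fact p.Prime] (Q : Subgroup G) (hQp : IsPGroup p ↥Q) (hQ1 : Q ≠ ⊥) (hQ : Cfsg.IsLarge Q) (U : Subgroup G) (hU : Cfsg.IsElementaryAbelian p U) (hU1 : U ≠ ⊥) (E : Subgroup G) (hQE : Q ≤ E) (hEU : E ≤ Subgroup.normalizer ((U : Subgroup G) : Set G)) (hQn : ¬ E ≤ Subgroup.normalizer ((Q : Subgroup G) : Set G)) [hn : ((Subgroup.centralizer ((U : Subgroup G) : Set G)).subgroupOf E).Normal] (hred : Cfsg.pCore p (↥E ⧸ (Subgroup.centralizer ((U : Subgroup G) : Set G)).subgroupOf E) = ⊥) (hqs : Cfsg.IsQuasisimple ↥(((Cfsg.pResidual p ↥E) ⊔ (Subgroup.centralizer ((U : Subgroup G) : Set G)).subgroupOf E).map (QuotientGroup.mk' ((Subgroup.centralizer ((U : Subgroup G) : Set G)).subgroupOf E)))) (Er : Subgroup G) (hEr : Er = ((Cfsg.pResidual p ↥(Cfsg.weakClosure Q E)).map ((Cfsg.weakClosure Q E)).subtype)) [hn2 : ((Subgroup.centralizer ((U : Subgroup G) : Set G)).subgroupOf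 Er).Normal] : ((Cfsg.pResidual p ↥E).map (E).subtype) ⊔ (E ⊓ Subgroup.centralizer ((U : Subgroup G) : Set G)) = Er ⊔ (E ⊓ Subgroup.centralizer ((U : Subgroup G) : Set G)) ∧ ⁅Er, Er⁆ = Er ∧ ((Cfsg.pResidual p ↥Er).map (Er).subtype) = Er ∧ Cfsg.IsQuasisimple (↥Er ⧸ (Subgroup.centralizer ((U : Subgroup G) : Set G)).subgroupOf Er) ∧ Cfsg.IsQuasisimple (↥Er ⧸ Cfsg.pCore p ↥Er) ∧ ∀ Y : Subgroup G, Y ≤ E → IsPGroup p ↥Y → ¬ Y ≤ Subgroup.centralizer ((U : Subgroup G) : Set G) → ⁅Er, Y⁆ = Er := by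
  have hU0 : IsPGroup p U := ea_isPGroup hU
  obtain ⟨C, hC⟩ : ∃ C, C = Cz U := ⟨_, rfl⟩
  obtain ⟨N, hN⟩ : ∃ N, N = ncl E Q := ⟨_, rfl⟩
  have hwN : weakClosure Q E = N := by rw [hN]; exact weakClosure_eq_ncl (IsLarge.wcl hQ hQ1) hQp hQE
  rw [hwN] at hEr
  change Er = resOf p N at hEr
  obtain ⟨f1, f2, f3⟩ := large_comm_facts hQ hQp hQ1 hQE hU0 hU1 hEU
  rw [← hN] at f2 f3
  have hNE : N ≤ E := by rw [hN]; exact ncl_le_self hQE
  have hEN : E ≤ Nz N := by rw [hN]; exact le_Nz_ncl _ _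
  have hQN : Q ≤ N := by rw [hN]; exact le_ncl _ _
  have hErN : Er ≤ N := by rw [hEr]; exact resOf_le N
  have hErE : Er ≤ E := hErN.trans hNE
  have hEEr : E ≤ Nz Er := by rw [hEr]; exact hEN.trans (Nz_le_Nz_resOf N)
  -- Q not in C
  have hQC : ¬ Q ≤ Cz U := by
    intro h
    apply hQn
    have h1 : U ≤ Cz Q := le_Cz_comm.1 h
    exact hEU.trans (hQ.2 U h1 hU1)
  have hcc : (((Subgroup.centralizer ((U : Subgroup G) : Set G))).subgroupOf E).Normal := hn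
  -- quotient
  have hres : im (Cz U) E (resOf p E) = pResidual p _ := by
    rw [im_res le_rfl, im_top, resOf_top]
  have hqs' : IsQuasisimple ↥(pResidual p (↥E ⧸ (Cz U).subgroupOf E)) := by
    have e : pResidual p (↥E ⧸ (Cz U).subgroupOf E) = (((Cfsg.pResidual p ↥E) ⊔ (Subgroup.centralizer ((U : Subgroup G) : Set G)).subgroupOf E).map (QuotientGroup.mk' ((Subgroup.centralizer ((U : Subgroup G) : Set G)).subgroupOf E))) := by
      rw [← hres]
      unfold im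
      rw [resOf_subgroupOf, Subgroup.map_sup]
      have : (Subgroup.map (QuotientGroup.mk' ((Cz U).subgroupOf E)) ((Cz U).subgroupOf E)) = ⊥ := by
        rw [Subgroup.map_eq_bot_iff, QuotientGroup.ker_mk']
      rw [this, sup_bot_eq]
    rw [e]; exact hqs
  have hperf' : ⁅pResidual p (↥E ⧸ (Cz U).subgroupOf E), pResidual p (↥E ⧸ (Cz U).subgroupOf E)⁆ = pResidual p (↥E ⧸ (Cz U).subgroupOf E) := by
    have := hqs'.1
    exact Subgroup.commutator_eq_self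
  have hNn : (im (Cz U) E N).Normal := by
    rw [normal_iff_top_le_Nz, ← im_top (C := Cz U) (E := E)]
    exact im_le_Nz le_rfl hNE hEN
  have hKN : pResidual p (↥E ⧸ (Cz U).subgroupOf E) ≤ im (Cz U) E N := by
    by_contra h
    have h1 := qs_coprime hred hqs' hNn h
    have h2 := eq_bot_of_coprime (im_pgroup hQp) h1 (im_mono hQN)
    exact hQC ((im_eq_bot_iff hQE).1 h2)
  have hEr' : im (Cz U) E Er = pResidual p (↥E ⧸ (Cz U).subgroupOf E) := by
    rw [hEr, im_res hNE]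
    apply le_antisymm
    · rw [← resOf_top]; exact resOf_mono le_top
    · rw [← resOf_top, ← resOf_resOf, resOf_top]; exact resOf_mono hKN
  have hErR : Er ≤ resOf p E := by rw [hEr]; exact resOf_mono hNE
  have g1 : resOf p E ⊔ (E ⊓ Cz U) = Er ⊔ (E ⊓ Cz U) := by
    apply le_antisymm
    · apply sup_le _ le_sup_right
      rw [← im_le_iff ((resOf_le E)) hErE, hres, hEr']
    · exact sup_le_sup_right hErR _
  have g3 : resOf p Er = Er := by rw [hEr]; exact resOf_resOf N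
  -- D = Er'
  have hDE : ⁅Er, Er⁆ ≤ Er := Subgroup.commutator_le_self _
  have hND : N ≤ Nz ⁅Er, Er⁆ := by
    have : N ≤ Nz Er := hNE.trans hEEr
    exact (le_inf this this).trans (Nz_commutator_le _ _)
  have hA : Er ≤ ⁅Er, Er⁆ ⊔ (Er ⊓ Cz U) := by
    have h1 : Er ≤ ⁅Er, Er⁆ ⊔ (E ⊓ Cz U) := by
      rw [← im_le_iff hErE (hDE.trans hErE), im_comm hErE hErE, hEr', hperf']
    intro x hx
    have h2 : E ⊓ Cz U ≤ Nz ⁅Er, Er⁆ := by
      have : E ⊓ Cz U ≤ Nz Er := inf_le_left.trans hEEr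
      exact (le_inf this this).trans (Nz_commutator_le _ _)
    obtain ⟨a, ha, b, hb, rfl⟩ := (mem_sup_of_le_Nz' h2).1 (h1 hx)
    have hb' : b ∈ Er := by
      have := Er.mul_mem (Er.inv_mem (hDE ha)) hx
      rwa [inv_mul_cancel_left] at this
    exact mul_mem ((le_sup_left : ⁅Er, Er⁆ ≤ _) ha) ((le_sup_right : Er ⊓ Cz U ≤ ⁅Er, Er⁆ ⊔ (Er ⊓ Cz U)) ⟨hb', hb.2⟩)
  have hcr : ⁅Er ⊓ Cz U, N⁆ ≤ pCoreOf p N := by
    rw [Subgroup.commutator_comm]
    exact (Subgroup.commutator_mono le_rfl inf_le_right).trans f2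
  have hErn : N ≤ Nz Er := hNE.trans hEEr
  have hB : ⁅Er ⊓ Cz U, N⁆ ≤ ⁅Er, Er⁆ := by
    apply pgroup_le_comm g3 ((pCoreOf_isPGroup N).to_le hcr)
    exact (Subgroup.commutator_mono inf_le_left le_rfl).trans (commutator_le_left_iff.2 hErn)
  have hErD : Er ≤ Nz ⁅Er, Er⁆ := hErN.trans hND
  have hC' : ⁅Er, N⁆ ≤ ⁅Er, Er⁆ := by
    refine (Subgroup.commutator_mono hA le_rfl).trans ?_
    apply sup_comm_le' (hDE.trans hErD) (inf_le_left.trans hErD) hND _ hB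
    exact commutator_le_left_iff.2 hND
  obtain ⟨T, hQT, hT⟩ := exists_isSylowIn_ge hQp hQN
  have g2 : ⁅Er, Er⁆ = Er := by
    apply le_antisymm hDE
    have h1 : Er ≤ Nz (⁅Er, Er⁆ ⊔ T) := by
      intro e he
      apply mem_Nz_of_cj_le
      rw [cj_sup, cj_eq_of_mem_Nz (hErD he)]
      apply sup_le le_sup_left
      intro x hx
      rw [mem_cj] at hx
      have h5 : e * (e⁻¹ * x * e) * e⁻¹ * (e⁻¹ * x * e)⁻¹ ∈ ⁅Er, Er⁆ :=
        hC' (Subgroup.commutator_mem_commutator he (hT.le hx))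
      have h6 := mul_mem ((le_sup_left : ⁅Er, Er⁆ ≤ ⁅Er, Er⁆ ⊔ T) h5) ((le_sup_right : T ≤ ⁅Er, Er⁆ ⊔ T) hx)
      rw [inv_mul_cancel_right] at h6
      have h7 : e * (e⁻¹ * x * e) * e⁻¹ = x := by group
      rwa [h7] at h6
    have h2 : N ≤ Nz (⁅Er, Er⁆ ⊔ T) := by
      conv_lhs => rw [← resOf_sup_sylow hT, ← hEr]
      exact sup_le h1 (le_sup_right.trans Subgroup.le_normalizer)
    have h3 : N = ⁅Er, Er⁆ ⊔ T := by
      apply le_antisymm _ (sup_le (hDE.trans hErN) hT.le)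
      conv_lhs => rw [hN, (IsLarge.wcl (p := p) hQ hQ1).mono (le_top (a := E)) |>.ncl_eq_of_sn hQp (SN.of_normal hNE hEN) hQN]
      exact ncl_le (hQT.trans le_sup_right) h2
    conv_lhs => rw [hEr]
    exact resOf_le_of_sup hND hT.isPGroup h3.symm
  -- quotient by C
  have hOEC : pCoreOf p E ≤ Cz U := by
    rw [← im_eq_bot_iff (Cfsg.Agent.H17.Base.pCoreOf_le E), ← le_bot_iff, ← hred]
    have h1 : (im (Cz U) E (pCoreOf p E)).Normal := by
      rw [normal_iff_top_le_Nz, ← im_top (C := Cz U) (E := E)]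
      exact im_le_Nz le_rfl (Cfsg.Agent.H17.Base.pCoreOf_le E) (le_Nz_pCoreOf E)
    exact Cfsg.Agent.H11.Cores.le_pCore p (im_pgroup (pCoreOf_isPGroup E))
  have hOEr : pCoreOf p Er ≤ Cz U := (pCoreOf_mono_normal hErE hEEr).trans hOEC
  have g4 : IsQuasisimple (↥Er ⧸ (Cz U).subgroupOf Er) := by
    let φ : ↥Er →* (↥E ⧸ (Cz U).subgroupOf E) := (QuotientGroup.mk' ((Cz U).subgroupOf E)).comp (Subgroup.inclusion hErE)
    have hker : (Cz U).subgroupOf Er = φ.ker := by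
      ext x
      rw [MonoidHom.mem_ker]
      show _ ↔ QuotientGroup.mk' ((Cz U).subgroupOf E) (Subgroup.inclusion hErE x) = 1
      rw [← MonoidHom.mem_ker, QuotientGroup.ker_mk']
      rfl
    have hran : φ.range = pResidual p (↥E ⧸ (Cz U).subgroupOf E) := by
      rw [← hEr']
      ext y
      constructor
      · rintro ⟨x, rfl⟩
        exact (mem_im hErE).2 ⟨x, x.2, rfl⟩
      · intro hy
        obtain ⟨x, hx, rfl⟩ := (mem_im hErE).1 hy
        exact ⟨⟨x, hx⟩, rfl⟩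
    have h1 : IsQuasisimple ↥φ.range := by rw [hran]; exact hqs'
    exact Cfsg.Agent.H11.Components.IsQuasisimple.of_mulEquiv h1
      ((QuotientGroup.quotientMulEquivOfEq hker).trans (QuotientGroup.quotientKerEquivRange φ)).symm
  have hperf : Group.IsPerfect ↥Er := Subgroup.isPerfect_iff.mpr g2
  have g5 : IsQuasisimple (↥Er ⧸ pCore p ↥Er) := by
    have hle : pCore p ↥Er ≤ (Cz U).subgroupOf Er := by
      intro x hx
      exact Subgroup.mem_subgroupOf.2 (hOEr ⟨x, hx, rfl⟩)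
    have hnp : (pCore p ↥Er).Normal := inferInstance
    let f : (↥Er ⧸ pCore p ↥Er) →* (↥Er ⧸ (Cz U).subgroupOf Er) :=
      QuotientGroup.map (pCore p ↥Er) ((Cz U).subgroupOf Er) (MonoidHom.id ↥Er) (by rw [Subgroup.comap_id]; exact hle)
    have hf : Function.Surjective f := by
      intro y
      obtain ⟨x, rfl⟩ := QuotientGroup.mk'_surjective _ y
      exact ⟨QuotientGroup.mk' _ x, rfl⟩
    apply Cfsg.Agent.H11.Components.IsQuasisimple.of_central_quotient (Group.IsPerfect.ofSurjective (QuotientGroup.mk'_surjective (pCore p ↥Er))) f hf _ g4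
    intro y hy
    obtain ⟨x, rfl⟩ := QuotientGroup.mk'_surjective _ y
    have hx : x ∈ (Cz U).subgroupOf Er := by
      rw [MonoidHom.mem_ker] at hy
      exact (QuotientGroup.eq_one_iff x).1 hy
    rw [Subgroup.mem_center_iff]
    intro z
    obtain ⟨z, rfl⟩ := QuotientGroup.mk'_surjective _ z
    rw [← map_mul, ← map_mul]
    rw [← div_eq_one, ← map_div, ← MonoidHom.mem_ker, QuotientGroup.ker_mk']
    have h1 : (z : G) * x * (z : G)⁻¹ * (x : G)⁻¹ ∈ pCoreOf p Er := by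
      apply pCoreOf_inf_le hErN
      have h2 : ⁅Er, Er ⊓ Cz U⁆ ≤ pCoreOf p N := by
        rw [Subgroup.commutator_comm]
        exact (Subgroup.commutator_mono le_rfl hErN).trans hcr
      have h3 : (z : G) * x * (z : G)⁻¹ * (x : G)⁻¹ ∈ ⁅Er, Er ⊓ Cz U⁆ :=
        Subgroup.commutator_mem_commutator z.2 ⟨x.2, Subgroup.mem_subgroupOf.1 hx⟩
      refine ⟨h2 h3, ?_⟩
      exact Er.mul_mem (Er.mul_mem (Er.mul_mem z.2 x.2) (Er.inv_mem z.2)) (Er.inv_mem x.2)
    obtain ⟨w, hw, hwe⟩ := h1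
    have : z * x / (x * z) = w := by
      apply Subtype.ext
      show (z : G) * x / ((x : G) * z) = w
      rw [show (w : G) = _ from hwe, div_eq_mul_inv, mul_inv_rev]; group
    rw [this]; exact hw
  refine ⟨g1, g2, g3, g4, g5, ?_⟩
  intro Y hYE hY hYU
  have hY1 : im (Cz U) E Y ≠ ⊥ := fun h => hYU ((im_eq_bot_iff hYE).1 h)
  have h1 := qs_comm hred hqs' (im_pgroup hY) hY1
  have hYEr : Y ≤ Nz Er := hYE.trans hEEr
  have hRE : ⁅Er, Y⁆ ≤ Er := commutator_le_left_iff.2 hYEr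
  have h2 : Er ≤ ⁅Er, Y⁆ ⊔ (Er ⊓ Cz U) := by
    intro x hx
    have h3 : im (Cz U) E Er ≤ im (Cz U) E ⁅Er, Y⁆ := by
      rw [im_comm hErE hYE, hEr', h1]
    obtain ⟨a, ha, hax⟩ := exists_of_im_le hErE (hRE.trans hErE) h3 hx
    have h4 := mul_mem ((le_sup_left : ⁅Er, Y⁆ ≤ ⁅Er, Y⁆ ⊔ (Er ⊓ Cz U)) ha)
      ((le_sup_right : Er ⊓ Cz U ≤ ⁅Er, Y⁆ ⊔ (Er ⊓ Cz U)) ⟨Er.mul_mem (Er.inv_mem (hRE ha)) hx, hax⟩)
    rwa [mul_inv_cancel_left] at h4
  have hErR2 : Er ≤ Nz ⁅Er, Y⁆ := Subgroup.normalizer_commutator_ge_left _ _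
  apply le_antisymm hRE
  have h5 : Er = ⁅Er, Y⁆ ⊔ pCoreOf p Er := by
    have hER : Er ≤ Nz (⁅Er, Y⁆ ⊔ pCoreOf p Er) := (le_inf hErR2 (le_Nz_pCoreOf Er)).trans (Nz_sup_le _ _)
    apply le_antisymm _ (sup_le hRE (Cfsg.Agent.H17.Base.pCoreOf_le Er))
    conv_lhs => rw [← g2]
    refine (Subgroup.commutator_mono h2 le_rfl).trans ?_
    apply sup_comm_le' (hRE.trans hER) (inf_le_left.trans hER) hER
    · exact (commutator_le_left_iff.2 hErR2).trans le_sup_left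
    · refine le_trans ?_ le_sup_right
      have h6 : ⁅Er ⊓ Cz U, Er⁆ ≤ pCoreOf p N := (Subgroup.commutator_mono le_rfl hErN).trans hcr
      have h7 : ⁅Er ⊓ Cz U, Er⁆ ≤ Er := (Subgroup.commutator_mono inf_le_left le_rfl).trans hDE
      exact (le_inf h6 h7).trans (pCoreOf_inf_le hErN)
  conv_lhs => rw [← g3]
  exact resOf_le_of_sup hErR2 (pCoreOf_isPGroup Er) h5.symm

end Cfsg.Agent.S2860
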