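import Cfsg.Statements.S2861
import Cfsg.Agent.H17_FLG

set_option autoImplicit false
open Cfsg

namespace Cfsg.Agent.S2861

open Cfsg.Agent.H17.Base Cfsg.Agent.H17.FL
/-- Standing hypotheses: G a finite group, S a Sylow p-subgroup, Q a nontrivial large p-subgroup of G contained in S, M a subgroup containing S with the basic property (M ∈ 𝔐_G(S)); Y_M the largest p-reduced normal subgroup of M and M† = M·C_G(Y_M). Let L ∈ 𝔏_G(Y_M) (L ∈ 𝔏_G(Y_M): Y_M ≤ L; O_p(L) is the normal closure in L of Y_M ∩ O_p(L) and normalizes Y_M; L is Y_M-minimal of characteristic p with N_L(Y_M) its unique maximal subgroup over Y_M; and L/O_p(L) ≅ SL₂(q) with q = |Y_M : Y_M ∩ O_p(L)|, or p = 2 and L/O_p(L) is a Suzuki group Sz(q) or dihedral of order 2r, r an odd prime) and A = O_p(L). Then Y_M·A/A is the unique nontrivial elementary abelian normal p-subgroup of N_L(Y_M)/A. -/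
theorem result {G : Type*} [Group G] [Finite G] {p : ℕ} [Fact p.Prime] (S : Sylow p G) (Q : Subgroup G) (hQp : IsPGroup p ↥Q) (hQ1 : Q ≠ ⊥) (hQS : Q ≤ (S : Subgroup G)) (hQ : Cfsg.IsLarge Q) (M : Subgroup G) (hSM : (S : Subgroup G) ≤ M) (hM : Cfsg.IsInFrakM p M) (L : Subgroup G) (hL : Cfsg.IsInFrakL p M L) (NL : Subgroup G) (hNL : NL = L ⊓ Subgroup.normalizer (((Cfsg.largestPReducedOf p M) : Subgroup G) : Set G)) [hn : (((Cfsg.pCoreOf p L)).subgroupOf NL).Normal] : let Ybar : Subgroup (↥NL ⧸ ((Cfsg.pCoreOf p L)).subgroupOf NL) := (((Cfsg.largestPReducedOf p M)).subgroupOf NL).map (QuotientGroup.mk' (((Cfsg.pCoreOf p L)).subgroupOf NL)); Ybar ≠ ⊥ ∧ Ybar.Normal ∧ Cfsg.IsElementaryAbelian p Ybar ∧ ∀ (V : Subgroup (↥NL ⧸ ((Cfsg.pCoreOf p L)).subgroupOf NL)), V.Normal → Cfsg.IsElementaryAbelian p V → V ≠ ⊥ → V = Ybar := by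
  have f := LF.of hL
  set Y := largestPReducedOf p M with hY
  intro Ybar
  set φ := QuotientGroup.mk' (pCore p ↥L) with hφ
  have hNLL : NL ≤ L := by rw [hNL]; exact inf_le_left
  have hYN : Y ≤ NL := by rw [hNL]; exact le_inf f.yl Subgroup.le_normalizer
  have hNY : NL ≤ Nz Y := by rw [hNL]; exact inf_le_right
  set N := (pCoreOf p L).subgroupOf NL with hN
  let ψ : ↥NL →* (↥L ⧸ pCore p ↥L) := φ.comp (Subgroup.inclusion hNLL)
  have hker : ∀ x : NL, ψ x = 1 ↔ x ∈ N := by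
    intro x
    rw [hN, Subgroup.mem_subgroupOf]
    exact f.mem_ker (x := Subgroup.inclusion hNLL x)
  let ψ' : (↥NL ⧸ N) →* (↥L ⧸ pCore p ↥L) := QuotientGroup.lift N ψ (fun x hx => (hker x).2 hx)
  have hψ' : ∀ x : NL, ψ' (QuotientGroup.mk' N x) = ψ x := fun x => rfl
  have hinj : Function.Injective ψ' := by
    rw [injective_iff_map_eq_one]
    intro a ha
    obtain ⟨x, rfl⟩ := QuotientGroup.mk'_surjective N a
    rw [hψ', hker] at ha
    exact (QuotientGroup.eq_one_iff x).2 ha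
  have himg : Ybar.map ψ' = (Y.subgroupOf L).map φ := by
    ext k
    constructor
    · rintro ⟨_, ⟨y, hy, rfl⟩, rfl⟩
      exact ⟨Subgroup.inclusion hNLL y, hy, rfl⟩
    · rintro ⟨y, hy, rfl⟩
      exact ⟨_, ⟨⟨y, hYN hy⟩, hy, rfl⟩, rfl⟩
  have hrange : ψ'.range = Nz ((Y.subgroupOf L).map φ) := by
    ext k
    constructor
    · rintro ⟨a, rfl⟩
      obtain ⟨x, rfl⟩ := QuotientGroup.mk'_surjective N a
      rw [hψ']
      exact f.mem_Nz_img.2 (hNY x.2)
    · intro hk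
      obtain ⟨l, rfl⟩ := f.surj k
      have h1 := f.mem_Nz_img.1 hk
      have h2 : (l : G) ∈ NL := by rw [hNL]; exact ⟨l.2, h1⟩
      exact ⟨QuotientGroup.mk' N ⟨l, h2⟩, rfl⟩
  have hnor : Ybar.Normal := by
    have h1 : (Y.subgroupOf NL).Normal := (Subgroup.normal_subgroupOf_iff_le_normalizer hYN).2 hNY
    exact h1.map _ (QuotientGroup.mk'_surjective N)
  refine ⟨?_, hnor, ?_, ?_⟩
  · intro h
    apply f.img_ne
    rw [← himg, h, Subgroup.map_bot]
  · apply ea_map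
    rw [← ea_map_iff NL.subtype_injective, Subgroup.map_subgroupOf_eq_of_le hYN]
    exact f.ea
  · intro V hVn hVe hV1
    apply Subgroup.map_injective hinj
    rw [himg]
    apply f.uq (V.map ψ')
    · rw [← hrange]; rintro _ ⟨v, -, rfl⟩; exact ⟨v, rfl⟩
    · rw [← hrange]
      rintro _ ⟨a, rfl⟩
      rw [Subgroup.mem_normalizer_iff]
      intro k
      constructor
      · rintro ⟨v, hv, rfl⟩
        exact ⟨a * v * a⁻¹, hVn.conj_mem v hv a, by simp⟩
      · rintro ⟨v, hv, hv2⟩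
        refine ⟨a⁻¹ * v * a⁻¹⁻¹, hVn.conj_mem v hv a⁻¹, ?_⟩
        rw [map_mul, map_mul, hv2]
        simp only [map_inv, inv_inv]
        group
    · exact ea_map _ hVe
    · rw [Ne, Subgroup.map_eq_bot_iff_of_injective _ hinj]; exact hV1

end Cfsg.Agent.S2861
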