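import Cfsg.Statements.S2862
import Cfsg.Agent.H17_LMin

set_option autoImplicit false
open Cfsg

namespace Cfsg.Agent.S2862

open Cfsg.Agent.H17.Base Cfsg.Agent.H17.FrakM in
/-- Standing hypotheses: G a finite group, S a Sylow p-subgroup, Q a nontrivial large p-subgroup of G contained in S, M a subgroup containing S with the basic property (M ∈ 𝔐_G(S)); Y_M the largest p-reduced normal subgroup of M and M† = M·C_G(Y_M). Suppose Y_M is char-p-tall and asymmetric in G, H ∈ ℌ_G(O_p(M)), and L is minimal among the subgroups of H containing Y_M with Y_M ≰ O_p(L). Then H = ⟨L, O_p(M)⟩ = ⟨hY_Mh⁻¹, O_p(M)⟩ for every h ∈ L outside N_L(Y_M); L is Y_M-minimal and of characteristic p, with N_L(Y_M) the unique maximal subgroup of L containing Y_M; [V, O^p(L)] ≠ 1 for every noncentral chief factor V/W of H inside O_p(H) (that is, O^p(L) does not act trivially on V/W); and the normal closure of O_p(L) ∩ Y_M in L lies in O_p(H). -/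
theorem result {G : Type*} [Group G] [Finite G] {p : ℕ} [Fact p.Prime] (S : Sylow p G) (Q : Subgroup G) (hQp : IsPGroup p ↥Q) (hQ1 : Q ≠ ⊥) (hQS : Q ≤ (S : Subgroup G)) (hQ : Cfsg.IsLarge Q) (M : Subgroup G) (hSM : (S : Subgroup G) ≤ M) (hM : Cfsg.IsInFrakM p M) (htall : Cfsg.IsCharPTall p (Cfsg.largestPReducedOf p M)) (hasym : ¬ Cfsg.IsSymmetricIn (Cfsg.largestPReducedOf p M)) (H : Subgroup G) (hH : Cfsg.IsInFrakH p M H) (L : Subgroup G) (hLH : L ≤ H) (hYL : (Cfsg.largestPReducedOf p M) ≤ L) (hYO : ¬ (Cfsg.largestPReducedOf p M) ≤ (Cfsg.pCoreOf p L)) (hmin : ∀ L' : Subgroup G, L' ≤ L → (Cfsg.largestPReducedOf p M) ≤ L' → ¬ (Cfsg.largestPReducedOf p M) ≤ (Cfsg.pCoreOf p L') → L' = L) : (L ⊔ (Cfsg.pCoreOf p M) = H ∧ ∀ h ∈ L, h ∉ Subgroup.normalizer (((Cfsg.largestPReducedOf p M) : Subgroup G) : Set G) → (((Cfsg.largestPReducedOf p M) : Subgroup G).map (MulAut.conj (h : G)).toMonoidHom) ⊔ (Cfsg.pCoreOf p M) = H) ∧ (Cfsg.IsMinimalOver (((Cfsg.largestPReducedOf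 p M)).subgroupOf L) ∧ Subgroup.centralizer (Cfsg.pCore p ↥L : Set ↥L) ≤ Cfsg.pCore p ↥L ∧ L ⊓ Subgroup.normalizer (((Cfsg.largestPReducedOf p M) : Subgroup G) : Set G) < L ∧ ∀ X : Subgroup G, (Cfsg.largestPReducedOf p M) ≤ X → X < L → X ≤ L ⊓ Subgroup.normalizer (((Cfsg.largestPReducedOf p M) : Subgroup G) : Set G)) ∧ (∀ V W' : Subgroup G, V ≤ (Cfsg.pCoreOf p H) → H ≤ Subgroup.normalizer ((V : Subgroup G) : Set G) → H ≤ Subgroup.normalizer ((W' : Subgroup G) : Set G) → W' < V → (∀ Z' : Subgroup G, H ≤ Subgroup.normalizer ((Z' : Subgroup G) : Set G) → W' ≤ Z' → Z' ≤ V → Z' = W' ∨ Z' = V) → ¬ ⁅V, H⁆ ≤ W' → ¬ ⁅V, ((Cfsg.pResidual p ↥L).map (L).subtype)⁆ ≤ W') ∧ (Subgroup.normalClosure (((((Cfsg.pCoreOf p L) ⊓ (Cfsg.largestPReducedOf p M)).subgroupOf L : Subgroup ↥L)) : Set ↥L)).map L.subtype ≤ (Cfsg.pCoreOf p H) := by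
  have hP := Par.of_large (isSylowIn_coe S) hQ hQp hQ1
  have h := MF.of hP hSM hM
  have f := fh_iff.1 hH
  have hyo : largestPReducedOf p M ≤ pCoreOf p M := h.Y_le_O
  have hmo := h.lmin hasym f hLH hYL hYO hmin
  have hLO : L ⊔ pCoreOf p M = H := by
    by_contra hne
    have h1 : L ⊔ pCoreOf p M ≤ H := sup_le hLH f.le
    have h2 := f.min _ le_sup_right (lt_of_le_of_ne h1 hne)
    apply hYO
    refine (le_inf h2 hYL).trans ?_
    apply le_pCoreOf inf_le_right _ ((pCoreOf_isPGroup _).to_le inf_le_left)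
    exact (le_inf (le_sup_left.trans (le_Nz_pCoreOf _)) Subgroup.le_normalizer).trans (Nz_inf_le _ _)
  obtain ⟨hN, hgen⟩ := Cfsg.Agent.H17.Zipper.IsMinOver.facts hmo
  have hgen' : ∀ g ∈ L, g ∉ Nz (largestPReducedOf p M) → largestPReducedOf p M ⊔ cj g (largestPReducedOf p M) = L :=
    fun g hg hgN => hgen g hg (fun h => hgN h.2)
  obtain ⟨g, hg, hgL0⟩ := SetLike.not_le_iff_exists.1 hmo.lt.not_ge
  have hg2 := hgen g hg hgL0
  have hYpr := isPRed_largest (p := p) M
  have hPL : pCoreOf p L ≤ L ⊓ Nz (largestPReducedOf p M) := by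
    have hmax : ∀ X : Subgroup G, largestPReducedOf p M ≤ X → X ≤ L → X ≠ L → X ≤ L ⊓ Nz (largestPReducedOf p M) :=
      fun X h1 h2 h3 => hmo.max X h1 h2 (fun h4 => h3 (le_antisymm h2 h4))
    have h1 : largestPReducedOf p M ⊔ pCoreOf p L ≤ L := sup_le hYL (pCoreOf_le L)
    refine le_trans le_sup_right (hmax _ le_sup_left h1 ?_)
    intro h2
    apply hYO
    have h3 : IsPGroup p L := by
      rw [← h2]
      exact isPGroup_sup_of_le_Nz hYpr.isPGroup (pCoreOf_isPGroup L) (hYL.trans (le_Nz_pCoreOf L))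
    rw [pCoreOf_of_isPGroup h3]
    exact hYL
  refine ⟨⟨hLO, ?_⟩, ⟨?_, ?_, hmo.lt, ?_⟩, ?_, ?_⟩
  · intro x hx hxN
    show cj x (largestPReducedOf p M) ⊔ pCoreOf p M = H
    apply le_antisymm
    · apply sup_le _ f.le
      have := cj_mono (g := x) (hYL.trans hLH)
      rwa [cj_eq_of_mem (hLH hx)] at this
    · rw [← hLO]
      apply sup_le _ le_sup_right
      rw [← hgen' x hx hxN]
      exact sup_le (hyo.trans le_sup_right) le_sup_left
  · exact (isMinimalOver_subgroupOf_iff hYL).2 ⟨_, hmo⟩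
  · rw [Cfsg.Agent.H17.Base.charP_iff]
    exact h.lmin_charP hasym f hLH hYL hg hg2
  · intro X hYX hXL
    exact hmo.max X hYX hXL.le (fun h1 => hXL.not_ge h1)
  · intro V W' hVB hHV hHW hWV hirr hnc hres
    change ⁅V, resOf p L⁆ ≤ W' at hres
    set R := ncl H (resOf p L) with hR
    have hLres : resOf p L ⊔ largestPReducedOf p M = L := by
      by_contra hne
      have h1 : resOf p L ⊔ largestPReducedOf p M ≤ L := sup_le (resOf_le L) hYL
      have h2 : largestPReducedOf p M ≤ pCoreOf p (resOf p L ⊔ largestPReducedOf p M) := by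
        by_contra h3
        exact hne (hmin _ h1 le_sup_right h3)
      exact hYO (h2.trans (sn_of_resOf_le (p := p) le_sup_left h1).pCoreOf_le)
    have hRH : R ≤ H := ncl_le ((resOf_le L).trans hLH) Subgroup.le_normalizer
    have hHR : R ⊔ pCoreOf p M = H := by
      apply le_antisymm (sup_le hRH f.le)
      rw [← hLO]
      apply sup_le _ le_sup_right
      rw [← hLres]
      exact sup_le ((le_ncl H _).trans le_sup_left) (hyo.trans le_sup_right)
    have hRV : R ≤ chainStab V W' := by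
      apply ncl_le
      · rw [le_chainStab_iff (((resOf_le L).trans hLH).trans hHV), Subgroup.commutator_comm]
        exact hres
      · exact (le_inf hHV hHW).trans (Nz_inf_le_Nz_chainStab _ _)
    have hVR : ⁅V, R⁆ ≤ W' := by
      rw [Subgroup.commutator_comm, ← le_chainStab_iff (hRH.trans hHV)]
      exact hRV
    have hVH : V ≤ H := hVB.trans (pCoreOf_le H)
    have hVp : IsPGroup p V := (pCoreOf_isPGroup H).to_le hVB
    have hZ1 : ⁅V, H⁆ ⊔ W' ≤ V := sup_le (commutator_le_left_iff.2 hHV) hWV.le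
    have hZ2 : H ≤ Nz (⁅V, H⁆ ⊔ W') :=
      (le_inf ((le_inf hHV Subgroup.le_normalizer).trans (Nz_commutator_le _ _)) hHW).trans (Nz_sup_le _ _)
    rcases hirr _ hZ2 le_sup_right hZ1 with h1 | h1
    · exact hnc (le_sup_left.trans h1.le)
    · -- `V = [V, H] W'`
      set P := pCoreOf p M ⊔ V with hP
      have hPp : IsPGroup p P := isPGroup_sup_of_le_Nz (pCoreOf_isPGroup M) hVp (f.le.trans hHV)
      have hPH : P ≤ H := sup_le f.le hVH
      set C := ⁅V, P⁆ ⊔ W' with hC
      have hPC : P ≤ Nz C := (le_inf (Subgroup.normalizer_commutator_ge_right V P) (hPH.trans hHW)).trans (Nz_sup_le _ _)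
      have hCV : C ≤ V := sup_le (commutator_le_left_iff.2 (hPH.trans hHV)) hWV.le
      have hRC : R ≤ Nz C := by
        rw [← commutator_le_left_iff]
        exact ((Subgroup.commutator_mono hCV le_rfl).trans hVR).trans le_sup_right
      have h2 : ⁅V, H⁆ ≤ C := by
        rw [← hHR]
        apply comm_sup_le' hRC ((le_sup_left : pCoreOf p M ≤ P).trans hPC) ((le_sup_right : V ≤ P).trans hPC)
        · exact hVR.trans le_sup_right
        · exact (Subgroup.commutator_mono le_rfl (le_sup_left : pCoreOf p M ≤ P)).trans le_sup_left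
      have h3 : V ≤ ⁅V, P⁆ ⊔ W' := by
        conv_lhs => rw [← h1]
        exact sup_le h2 le_sup_right
      exact hWV.not_ge (comm_sup_lt hPp le_sup_right (hPH.trans hHW) hWV.le h3)
  · have h1 : pCoreOf p L ⊓ largestPReducedOf p M ≤ L := inf_le_right.trans hYL
    rw [map_normalClosure_subgroupOf h1]
    exact h.lmin_core hasym f hLH hYL hLO hg hg2 (hPL.trans inf_le_right)

end Cfsg.Agent.S2862
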