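import Cfsg.Statements.S2864
import Cfsg.Agent.H17_MFacts
import Cfsg.Agent.H17_Phi

set_option autoImplicit false
open Cfsg

namespace Cfsg.Agent.S2864

open Cfsg.Agent.H17.Base Cfsg.Agent.H17.FrakM in
/-- Standing hypotheses: G a finite group, S a Sylow p-subgroup, Q a nontrivial large p-subgroup of G contained in S, M a subgroup containing S with the basic property (M ∈ 𝔐_G(S)); Y_M the largest p-reduced normal subgroup of M and M† = M·C_G(Y_M). Let I be a nontrivial normal p-subgroup of M and Y ≤ O_p(M†); let L be a subgroup of G containing Y and A a normal p-subgroup of L with I ≤ A ≤ M. If [Y, A] ≤ [I, A], then Y ≤ O_p(L). -/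
theorem result {G : Type*} [Group G] [Finite G] {p : ℕ} [Fact p.Prime] (S : Sylow p G) (Q : Subgroup G) (hQp : IsPGroup p ↥Q) (hQ1 : Q ≠ ⊥) (hQS : Q ≤ (S : Subgroup G)) (hQ : Cfsg.IsLarge Q) (M : Subgroup G) (hSM : (S : Subgroup G) ≤ M) (hM : Cfsg.IsInFrakM p M) (I : Subgroup G) (hI1 : I ≠ ⊥) (hIp : IsPGroup p ↥I) (hIM : I ≤ M ∧ M ≤ Subgroup.normalizer ((I : Subgroup G) : Set G)) (Y : Subgroup G) (hY : Y ≤ (Cfsg.pCoreOf p (M ⊔ Subgroup.centralizer (((Cfsg.largestPReducedOf p M) : Subgroup G) : Set G)))) (L : Subgroup G) (hYL : Y ≤ L) (A : Subgroup G) (hAp : IsPGroup p ↥A) (hAL : A ≤ L ∧ L ≤ Subgroup.normalizer ((A : Subgroup G) : Set G)) (hIA : I ≤ A) (hAM : A ≤ M) (hc : ⁅Y, A⁆ ≤ ⁅I, A⁆) : Y ≤ (Cfsg.pCoreOf p L) := by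
  have hP := Par.of_large (isSylowIn_coe S) hQ hQp hQ1
  have h := MF.of hP hSM hM
  set P := pCoreOf p (dg p M) with hP
  have hYP : Y ≤ P := hY
  obtain ⟨hAL1, hAL2⟩ := hAL
  obtain ⟨hIM1, hIM2⟩ := hIM
  have hLA : L ≤ Nz A := hAL2
  set D := L ⊓ chainStab A (phiOf A) with hD
  have hLD : L ≤ Nz D := by
    refine (le_inf Subgroup.le_normalizer ?_).trans (Nz_inf_le _ _)
    exact (le_inf hLA (hLA.trans (Nz_le_Nz_phiOf A))).trans (Nz_inf_le_Nz_chainStab _ _)
  have hresD : resOf p D ≤ Cz A := resOf_le_Cz_of_phi hAp inf_le_right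
  set C := L ⊓ Cz A with hC
  have hLC : L ≤ Nz C := (le_inf Subgroup.le_normalizer (hLA.trans (Nz_le_Nz_Cz A))).trans (Nz_inf_le _ _)
  have hCd : C ≤ dg p M := by
    refine (inf_le_right.trans (Cz_anti hIA)).trans ?_
    exact (Cz_le_Nz I).trans (h.Nz_le hIp hI1 hIM2)
  have hCP : C ≤ Nz P := hCd.trans (le_Nz_pCoreOf _)
  have hYp : IsPGroup p Y := (pCoreOf_isPGroup _).to_le hYP
  have hW : ⁅Y, C⁆ ≤ P ⊓ C := by
    apply le_inf
    · exact (Subgroup.commutator_mono hYP le_rfl).trans (commutator_le_left_iff.2 hCP)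
    · exact commutator_le_right_iff.2 (hYL.trans hLC)
  set R := pCoreOf p C with hR
  have hWR : P ⊓ C ≤ R := by
    apply le_pCoreOf inf_le_right _ ((pCoreOf_isPGroup _).to_le inf_le_left)
    exact (le_inf hCP Subgroup.le_normalizer).trans (Nz_inf_le _ _)
  have hLR : L ≤ Nz R := hLC.trans (Nz_le_Nz_pCoreOf C)
  have hYR : IsPGroup p ↥(Y ⊔ R) := isPGroup_sup_of_le_Nz hYp (pCoreOf_isPGroup _) (hYL.trans hLR)
  have hCYR : C ≤ Nz (Y ⊔ R) := by
    apply le_Nz_of_forall_cj_le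
    intro c hc
    rw [cj_sup, cj_eq_of_mem_Nz (le_Nz_pCoreOf C hc)]
    apply sup_le _ le_sup_right
    intro y hy
    rw [mem_cj] at hy
    obtain ⟨z, hz, rfl⟩ : ∃ z ∈ Y, c * z * c⁻¹ = y := ⟨_, hy, by group⟩
    have h1 : z⁻¹ * c * z * c⁻¹ ∈ R := by
      have h2 := Subgroup.commutator_mem_commutator (Y.inv_mem hz) hc
      rw [commutatorElement_def, inv_inv] at h2
      exact hWR (hW h2)
    have e : c * z * c⁻¹ = z * (z⁻¹ * c * z * c⁻¹) := by group
    rw [e]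
    exact (Y ⊔ R).mul_mem ((le_sup_left : Y ≤ Y ⊔ R) hz) ((le_sup_right : R ≤ Y ⊔ R) h1)
  set N := C ⊔ Y with hN
  have hYN : Y ⊔ R ≤ N := sup_le le_sup_right ((pCoreOf_le C).trans le_sup_left)
  have hNn : N ≤ Nz (Y ⊔ R) := sup_le hCYR (le_sup_left.trans Subgroup.le_normalizer)
  have h1 : Y ⊔ R ≤ pCoreOf p N := le_pCoreOf hYN hNn hYR
  have hDL : D ≤ L := inf_le_left
  have hND : N ≤ D := by
    apply sup_le
    · exact inf_le_inf_left _ (Cz_le_chainStab _ _)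
    · apply le_inf hYL
      rw [le_chainStab_iff (hYL.trans hLA)]
      exact hc.trans ((Subgroup.commutator_mono hIA le_rfl).trans (commutator_le_phiOf hAp))
  have hsn : SN D N := by
    apply sn_of_resOf_le (p := p) _ hND
    exact (le_inf ((resOf_le D).trans hDL) hresD).trans le_sup_left
  have hsn2 : SN L N := (SN.of_normal hDL hLD).trans hsn
  exact le_sup_left.trans (h1.trans hsn2.pCoreOf_le)

end Cfsg.Agent.S2864
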