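import Cfsg.Statements.S2872
import Cfsg.Agent.H17_TrS
import Cfsg.Agent.H17_PC
import Cfsg.Agent.H1_Nilp

set_option autoImplicit false
open Cfsg

namespace Cfsg.Agent.S2872

/-- Let S be a Sylow 2-subgroup of the finite group G. Then G has a proper normal subgroup of 2-power index (O²(G) ≠ G), or Ω₁(Z(S)) is contained in the Frattini subgroup of S, or N_G(S) acts nontrivially on Ω₁(Z(S)) by conjugation. -/
theorem result {G : Type*} [Group G] [Finite G] (S : Sylow 2 G) : Cfsg.pResidual 2 G ≠ ⊤ ∨ Cfsg.omegaOne 2 ((S : Subgroup G) ⊓ Subgroup.centralizer ((S : Subgroup G) : Set G)) ≤ (frattini ↥(S : Subgroup G)).map (S : Subgroup G).subtype ∨ ∃ g ∈ Subgroup.normalizer ((S : Subgroup G) : Set G), ∃ z ∈ Cfsg.omegaOne 2 ((S : Subgroup G) ⊓ Subgroup.centralizer ((S : Subgroup G) : Set G)), g * z * g⁻¹ ≠ z := by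
  classical
  by_contra hcon
  push Not at hcon
  obtain ⟨hres, hfr, hN⟩ := hcon
  have : Fact (Nat.Prime 2) := ⟨Nat.prime_two⟩
  obtain ⟨z, hz, hzF⟩ := Set.not_subset.mp hfr
  obtain ⟨hzS, hzc, hz2⟩ := Cfsg.Agent.H17.PC.mem_omega_center.mp hz
  have hex : ∃ M' : Subgroup ↥(S : Subgroup G), IsCoatom M' ∧ (⟨z, hzS⟩ : ↥(S : Subgroup G)) ∉ M' := by
    by_contra hcon
    push Not at hcon
    apply hzF
    refine ⟨⟨z, hzS⟩, ?_, rfl⟩
    exact Cfsg.Agent.H1.Nilp.mem_frattini_iff.mpr hcon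
  obtain ⟨M', hM', hzM'⟩ := hex
  obtain ⟨hMn, hMi⟩ := Cfsg.Agent.H1.Nilp.index_eq_of_isCoatom_pgroup S.2 hM'
  obtain ⟨f, hf⟩ := Cfsg.Agent.H17.TrS.exists_hom S hzS
    (fun s hs => Subgroup.mem_centralizer_iff.mp hzc s hs) (by rw [← pow_two]; exact hz2)
    (M'.map (S : Subgroup G).subtype) (Subgroup.map_subtype_le _)
    (by
      rintro s hs _ ⟨m, hm, rfl⟩
      exact ⟨⟨s, hs⟩ * m * ⟨s, hs⟩⁻¹, hMn.conj_mem m hm _, rfl⟩)
    (by
      have h1 : (M'.map (S : Subgroup G).subtype).subgroupOf (S : Subgroup G) = M' := by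
        rw [Subgroup.subgroupOf, Subgroup.comap_map_eq_self_of_injective (S : Subgroup G).subtype_injective]
      rw [Subgroup.relIndex, h1]
      exact hMi)
    (by
      rintro ⟨m, hm, hmz⟩
      apply hzM'
      have : m = ⟨z, hzS⟩ := Subtype.ext hmz
      rwa [← this])
    (fun g hg => hN g hg z hz)
  have h1 : Cfsg.pResidual 2 G ≤ f.ker := by
    unfold Cfsg.pResidual
    rw [Subgroup.closure_le]
    intro g hg
    show f g = 1
    have h2 : f g ^ orderOf g = 1 := by rw [← map_pow, pow_orderOf_eq_one, map_one]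
    rcases Int.units_eq_one_or (f g) with h3 | h3
    · exact h3
    · exfalso
      rw [h3] at h2
      have h4 : Odd (orderOf g) := Nat.coprime_two_right.mp hg
      rw [h4.neg_one_pow] at h2
      exact absurd h2 (by decide)
  rw [hres, top_le_iff] at h1
  have h2 : z ∈ f.ker := by rw [h1]; trivial
  rw [MonoidHom.mem_ker, hf] at h2
  exact absurd h2 (by decide)

end Cfsg.Agent.S2872
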