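import Cfsg.Statements.S2873
import Cfsg.Agent.H17_Base2

set_option autoImplicit false
open Cfsg

namespace Cfsg.Agent.S2873

section aux
variable {G : Type*} [Group G] [Finite G] {r : ℕ} [Fact r.Prime]

open H17.Base Subgroup

theorem dih_conj (hr : r ≠ 2) (i j : ZMod r) : ∃ d : DihedralGroup r, d * DihedralGroup.sr i * d⁻¹ = DihedralGroup.sr j := by
  have h2 : (2 : ZMod r) ≠ 0 := by
    intro h
    have h1 : ((2 : ℕ) : ZMod r) = 0 := by exact_mod_cast h
    rw [ZMod.natCast_eq_zero_iff] at h1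
    exact hr ((Nat.prime_dvd_prime_iff_eq Fact.out Nat.prime_two).1 h1)
  refine ⟨DihedralGroup.r ((i - j) / 2), ?_⟩
  rw [DihedralGroup.inv_r, DihedralGroup.r_mul_sr, DihedralGroup.sr_mul_r]
  congr 1
  field_simp
  ring

theorem dih_invol (hr : r ≠ 2) {d : DihedralGroup r} (h1 : d ≠ 1) (h2 : d * d = 1) : ∃ i, d = DihedralGroup.sr i := by
  cases d with
  | r i =>
    exfalso
    rw [DihedralGroup.r_mul_r, DihedralGroup.one_def] at h2
    have h3 : i + i = 0 := by injection h2
    have h2' : (2 : ZMod r) ≠ 0 := by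
      intro h
      have h1 : ((2 : ℕ) : ZMod r) = 0 := by exact_mod_cast h
      rw [ZMod.natCast_eq_zero_iff] at h1
      exact hr ((Nat.prime_dvd_prime_iff_eq Fact.out Nat.prime_two).1 h1)
    have h4 : i = 0 := by
      have : 2 * i = 0 := by linear_combination h3
      exact (mul_eq_zero.1 this).resolve_left h2'
    apply h1
    rw [h4]; rfl
  | sr i => exact ⟨i, rfl⟩

theorem main (hr : r ≠ 2) (Q : Subgroup G) [Q.Normal] (hQ : IsPGroup 2 Q) (π : G →* DihedralGroup r)
    (hπ : Function.Surjective π) (hker : π.ker = Q) (R : Sylow r G)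
    (hC : Q ⊓ Cz (R : Subgroup G) = ⊥) :
    (Nonempty (↥(Nz (R : Subgroup G)) ≃* DihedralGroup r)) ∧
    ∀ a : G, a ∈ Nz (R : Subgroup G) → orderOf a = 2 → (∀ b : G, orderOf b = 2 → b ∉ Q → ∃ g : G, g * a * g⁻¹ = b) ∧
      Nat.card ↥(Q ⊓ centralizer ({a} : Set G)) ^ 2 = Nat.card Q := by
  classical
  have hrp : r.Prime := Fact.out
  have hcopQR : Q ⊓ (R : Subgroup G) = ⊥ := by
    apply IsPGroup.disjoint_of_ne 2 r (Ne.symm hr) Q (R : Subgroup G) hQ R.2 |>.eq_bot
  -- normalizer meets Q trivially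
  have hNQ : Q ⊓ Nz (R : Subgroup G) = ⊥ := by
    rw [eq_bot_iff, ← hC]
    rintro x ⟨hx, hxN⟩
    refine ⟨hx, mem_centralizer_iff.2 ?_⟩
    intro t ht
    have h1 : x * t * x⁻¹ * t⁻¹ ∈ Q ⊓ (R : Subgroup G) := by
      refine ⟨?_, ?_⟩
      · have : x * t * x⁻¹ * t⁻¹ = x * (t * x⁻¹ * t⁻¹) := by group
        rw [this]
        exact Q.mul_mem hx (Normal.conj_mem inferInstance _ (Q.inv_mem hx) _)
      · exact (R : Subgroup G).mul_mem ((mem_normalizer_iff.1 hxN t).1 ht) ((R : Subgroup G).inv_mem ht)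
    rw [hcopQR, mem_bot, mul_inv_eq_one, mul_inv_eq_iff_eq_mul] at h1
    exact h1.symm
  have hπQ : ∀ x, π x = 1 ↔ x ∈ Q := by intro x; rw [← hker]; rfl
  -- image of R
  have hcardD : Nat.card (DihedralGroup r) = 2 * r := by
    rw [Nat.card_eq_fintype_card, DihedralGroup.card]
  obtain ⟨m, hm⟩ := IsPGroup.iff_card.1 hQ
  have hnd : ¬ r ∣ 2 := fun h => hr ((Nat.prime_dvd_prime_iff_eq hrp Nat.prime_two).1 h)
  have hf2 : (2 : ℕ).factorization r = 0 := Nat.factorization_eq_zero_of_not_dvd hnd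
  have hcardR : Nat.card (R : Subgroup G) = r := by
    have h1 : Nat.card G = 2 * r * 2 ^ m := by
      rw [← hm, ← hcardD, ← hker, ← index_mul_card π.ker, index_ker]
      congr 1
      rw [MonoidHom.range_eq_top.2 hπ, card_top]
    rw [R.card_eq_multiplicity, h1, Nat.factorization_mul (by have := hrp.pos; positivity) (by positivity),
      Nat.factorization_mul (by norm_num) hrp.ne_zero, Nat.factorization_pow]
    simp [hf2, hrp.factorization_self]
  have hcardRm : Nat.card ((R.mapSurjective hπ : Sylow r (DihedralGroup r)) : Subgroup (DihedralGroup r)) = r := by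
    rw [Sylow.card_eq_multiplicity, hcardD, Nat.factorization_mul (by norm_num) hrp.ne_zero]
    simp [hf2, hrp.factorization_self]
  -- all Sylow conj by Q
  have hfr : Nz (R : Subgroup G) ⊔ Q = ⊤ := by
    have h1 : ((R : Subgroup G).map π).index = 2 := by
      have := index_mul_card ((R : Subgroup G).map π)
      rw [Sylow.coe_mapSurjective] at hcardRm
      rw [hcardRm, hcardD] at this
      exact Nat.eq_of_mul_eq_mul_right hrp.pos this
    have h2 : ((R : Subgroup G).map π).Normal := normal_of_index_eq_two h1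
    have h3 : (((R : Subgroup G).map π).comap π).Normal := Normal.comap h2 π
    have h4 := R.normalizer_sup_eq_top' (le_comap_map π _)
    rw [comap_map_eq, hker] at h4
    rw [← h4]
    apply le_antisymm
    · exact sup_le_sup_left le_sup_right _
    · exact sup_le le_sup_left (sup_le (le_normalizer.trans le_sup_left) le_sup_right)
  have hinj : ∀ n ∈ Nz (R : Subgroup G), ∀ m ∈ Nz (R : Subgroup G), π n = π m → n = m := by
    intro n hn m hm h
    have h1 : n * m⁻¹ ∈ Q ⊓ Nz (R : Subgroup G) :=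
      mem_inf.2 ⟨(hπQ _).1 (by rw [map_mul, map_inv, h, mul_inv_cancel]), mul_mem hn (inv_mem hm)⟩
    rw [hNQ, mem_bot, mul_inv_eq_one] at h1
    exact h1
  have hsurj : ∀ d, ∃ n ∈ Nz (R : Subgroup G), π n = d := by
    intro d
    obtain ⟨g, rfl⟩ := hπ d
    have hg : g ∈ Nz (R : Subgroup G) ⊔ Q := by rw [hfr]; trivial
    obtain ⟨n, hn, q, hq, rfl⟩ := mem_sup_of_normal_right.1 hg
    exact ⟨n, hn, by rw [map_mul, (hπQ q).2 hq, mul_one]⟩
  -- claim A
  have hA : ∀ b b' : G, b * b = 1 → b' * b' = 1 → ∀ i j : ZMod r, i ≠ j → π b = DihedralGroup.sr i →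
      π b' = DihedralGroup.sr j → ∃ q ∈ Q, q⁻¹ * b * q ∈ Nz (R : Subgroup G) ∧ q⁻¹ * b' * q ∈ Nz (R : Subgroup G) := by
    intro b b' hb hb' i j hij h1 h2
    set s := b * b' with hs
    have hbi : b⁻¹ = b := inv_eq_of_mul_eq_one_right hb
    have hbi' : b'⁻¹ = b' := inv_eq_of_mul_eq_one_right hb'
    have hsb : b * s * b⁻¹ = s⁻¹ := by
      have e1 : b * s * b⁻¹ = b * b * b' * b⁻¹ := by rw [hs]; group
      rw [e1, hb, one_mul, hs, mul_inv_rev, hbi', hbi]
    have hsb' : b' * s * b'⁻¹ = s⁻¹ := by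
      rw [hs, mul_inv_rev, hbi', hbi]
      have : b' * (b * b') * b' = b' * b * (b' * b') := by group
      rw [this, hb', mul_one]
    have hπs : π s = DihedralGroup.r (j - i) := by
      rw [hs, map_mul, h1, h2, DihedralGroup.sr_mul_sr]
    have hπsr : π s ^ r = 1 := by
      rw [hπs, DihedralGroup.r_pow, DihedralGroup.one_def, CharP.cast_eq_zero, mul_zero]
    have hx : (s ^ 2 ^ m) ^ r = 1 := by
      have h3 : s ^ r ∈ Q := by rw [← hπQ, map_pow, hπsr]
      have h4 : (⟨s ^ r, h3⟩ : Q) ^ 2 ^ m = 1 := by rw [← hm]; exact pow_card_eq_one'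
      rw [← pow_mul, mul_comm, pow_mul]
      exact congrArg Subtype.val h4
    have hx1 : s ^ 2 ^ m ≠ 1 := by
      intro h3
      have h4 : orderOf (π s) ∣ 2 ^ m := by
        apply orderOf_dvd_of_pow_eq_one
        rw [← map_pow, h3, map_one]
      have h5 : orderOf (π s) ∣ r := orderOf_dvd_of_pow_eq_one hπsr
      have h6 : Nat.Coprime r (2 ^ m) := Nat.Coprime.pow_right _ ((Nat.coprime_primes hrp Nat.prime_two).2 hr)
      have h7 := Nat.eq_one_of_dvd_coprimes h6 h5 h4
      rw [orderOf_eq_one_iff, hπs, DihedralGroup.one_def] at h7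
      injection h7 with h8
      exact hij (sub_eq_zero.1 h8).symm
    set x := s ^ 2 ^ m with hxdef
    have hord : orderOf x = r := orderOf_eq_prime hx hx1
    have hPx : IsPGroup r (zpowers x) := IsPGroup.of_card (n := 1) (by rw [Nat.card_zpowers, hord, pow_one])
    obtain ⟨P, hP⟩ := hPx.exists_le_sylow
    obtain ⟨g, hg⟩ := MulAction.exists_smul_eq G R P
    have hPc : (P : Subgroup G) = cj g (R : Subgroup G) := by rw [← hg]; rfl
    have hPx' : zpowers x = (P : Subgroup G) := by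
      apply eq_of_le_of_card_ge hP
      rw [Nat.card_zpowers, hord, hPc, card_cj, hcardR]
    have hg : g ∈ Nz (R : Subgroup G) ⊔ Q := by rw [hfr]; trivial
    rw [sup_comm] at hg
    obtain ⟨q, hq, n, hn, rfl⟩ := mem_sup_of_normal_left.1 hg
    have hPq : zpowers x = cj q (R : Subgroup G) := by
      rw [hPx', hPc, cj_mul, cj_eq_of_mem_Nz hn]
    have hN : ∀ c : G, c * s * c⁻¹ = s⁻¹ → q⁻¹ * c * q ∈ Nz (R : Subgroup G) := by
      intro c hc
      rw [← mem_cj, cj_Nz, ← hPq]
      apply mem_Nz_of_cj_le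
      rw [cj, MonoidHom.map_zpowers, zpowers_le]
      show c * x * c⁻¹ ∈ zpowers x
      have : c * x * c⁻¹ = x⁻¹ := by rw [hxdef, ← conj_pow, hc, inv_pow]
      rw [this]
      exact inv_mem (mem_zpowers x)
    exact ⟨q, hq, hN b hsb, hN b' hsb'⟩
  refine ⟨?_, ?_⟩
  · refine ⟨MulEquiv.ofBijective (π.comp (Nz (R : Subgroup G)).subtype) ⟨?_, ?_⟩⟩
    · intro n m h
      exact Subtype.ext (hinj n n.2 m m.2 h)
    · intro d
      obtain ⟨n, hn, h⟩ := hsurj d
      exact ⟨⟨n, hn⟩, h⟩
  · intro a ha ha2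
    have haa : a * a = 1 := by rw [← sq, ← ha2, pow_orderOf_eq_one]
    have ha1 : a ≠ 1 := by rintro rfl; rw [orderOf_one] at ha2; omega
    have hπa : π a ≠ 1 := by
      intro h
      exact ha1 (hinj a ha 1 (one_mem _) (by rw [h, map_one]))
    obtain ⟨i, hi⟩ := dih_invol hr hπa (by rw [← map_mul, haa, map_one])
    -- second involution
    obtain ⟨a', ha', hj⟩ := hsurj (DihedralGroup.sr (i + 1))
    have haa' : a' * a' = 1 := by
      apply hinj _ (mul_mem ha' ha') _ (one_mem _)
      rw [map_mul, hj, DihedralGroup.sr_mul_self, map_one]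
    have hij : i ≠ i + 1 := by simp
    have hB : ∀ b b' : G, b * b = 1 → b' * b' = 1 → π b = π a → π b' = π a' →
        ∃ q ∈ Q, b = q * a * q⁻¹ ∧ b' = q * a' * q⁻¹ := by
      intro b b' hb hb' h1 h2
      obtain ⟨q, hq, h3, h4⟩ := hA b b' hb hb' i (i + 1) hij (h1.trans hi) (h2.trans hj)
      refine ⟨q, hq, ?_, ?_⟩
      · have := hinj _ h3 a ha (by rw [map_mul, map_mul, map_inv, (hπQ q).2 hq, h1]; group)
        rw [← this]; group
      · have := hinj _ h4 a' ha' (by rw [map_mul, map_mul, map_inv, (hπQ q).2 hq, h2]; group)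
        rw [← this]; group
    refine ⟨?_, ?_⟩
    · intro b hb hbQ
      have hbb : b * b = 1 := by rw [← sq, ← hb, pow_orderOf_eq_one]
      obtain ⟨j, hj'⟩ := dih_invol hr (fun h => hbQ ((hπQ b).1 h)) (by rw [← map_mul, hbb, map_one])
      obtain ⟨d, hd⟩ := dih_conj hr j i
      obtain ⟨g, rfl⟩ := hπ d
      obtain ⟨q, hq, h1, -⟩ := hB (g * b * g⁻¹) a' (by
        have : g * b * g⁻¹ * (g * b * g⁻¹) = g * (b * b) * g⁻¹ := by group
        rw [this, hbb]; group) haa' (by rw [map_mul, map_mul, map_inv, hj', hd, hi]) rfl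
      refine ⟨g⁻¹ * q, ?_⟩
      have : b = g⁻¹ * (g * b * g⁻¹) * g := by group
      rw [this, h1]; group
    · obtain ⟨d, hd⟩ := dih_conj hr i (i + 1)
      obtain ⟨n, hn, rfl⟩ := hsurj d
      have hna : n * a * n⁻¹ = a' := by
        apply hinj _ (mul_mem (mul_mem hn ha) (inv_mem hn)) _ ha'
        rw [map_mul, map_mul, map_inv, hi, hd, hj]
      set K := Q ⊓ centralizer ({a} : Set G) with hK
      set K' := Q ⊓ centralizer ({a'} : Set G) with hK'
      have hKK : Nat.card K = Nat.card K' := by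
        have : K' = cj n K := by
          ext x
          rw [mem_cj, hK, hK', mem_inf, mem_inf]
          have e1 : n⁻¹ * x * n ∈ Q ↔ x ∈ Q := by
            constructor
            · intro h
              have := Normal.conj_mem (inferInstance : Q.Normal) _ h n
              have e : n * (n⁻¹ * x * n) * n⁻¹ = x := by group
              rwa [e] at this
            · intro h
              have := Normal.conj_mem (inferInstance : Q.Normal) _ h n⁻¹
              rwa [inv_inv] at this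
          rw [e1, mem_centralizer_singleton_iff, mem_centralizer_singleton_iff, ← hna]
          constructor
          · rintro ⟨h1, h2⟩
            refine ⟨h1, ?_⟩
            have h3 : n⁻¹ * x * n * a = n⁻¹ * (x * (n * a * n⁻¹)) * n := by group
            have h4 : a * (n⁻¹ * x * n) = n⁻¹ * ((n * a * n⁻¹) * x) * n := by group
            rw [h3, h4, h2]
          · rintro ⟨h1, h2⟩
            refine ⟨h1, ?_⟩
            have h3 : x * (n * a * n⁻¹) = n * (n⁻¹ * x * n * a) * n⁻¹ := by group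
            have h4 : (n * a * n⁻¹) * x = n * (a * (n⁻¹ * x * n)) * n⁻¹ := by group
            rw [h3, h4, h2]
        rw [this, card_cj]
      have hKQ : K ≤ Q := inf_le_left
      have hK'Q : K' ≤ Q := inf_le_left
      have c1 : Nat.card Q = Nat.card (Q ⧸ K.subgroupOf Q) * Nat.card K := by
        rw [card_eq_card_quotient_mul_card_subgroup (K.subgroupOf Q), Nat.card_congr (subgroupOfEquivOfLe hKQ).toEquiv]
      have c2 : Nat.card Q = Nat.card (Q ⧸ K'.subgroupOf Q) * Nat.card K' := by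
        rw [card_eq_card_quotient_mul_card_subgroup (K'.subgroupOf Q), Nat.card_congr (subgroupOfEquivOfLe hK'Q).toEquiv]
      have hmem : ∀ (c : G) (q₁ q₂ : Q), ((q₁ : Q ⧸ (Q ⊓ centralizer ({c} : Set G)).subgroupOf Q)) = q₂ ↔
          (q₁ : G) * c * (q₁ : G)⁻¹ = q₂ * c * (q₂ : G)⁻¹ := by
        intro c q₁ q₂
        rw [QuotientGroup.eq, mem_subgroupOf, mem_inf, mem_centralizer_singleton_iff]
        constructor
        · rintro ⟨-, h⟩
          have h' : (q₁ : G)⁻¹ * q₂ * c = c * ((q₁ : G)⁻¹ * q₂) := h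
          have : (q₁ : G) * c * (q₁ : G)⁻¹ = q₁ * (c * ((q₁ : G)⁻¹ * q₂)) * (q₂ : G)⁻¹ := by group
          rw [this, ← h']; group
        · intro h
          refine ⟨(q₁⁻¹ * q₂).2, ?_⟩
          show (q₁ : G)⁻¹ * q₂ * c = c * ((q₁ : G)⁻¹ * q₂)
          have : (q₁ : G)⁻¹ * q₂ * c = (q₁ : G)⁻¹ * (q₂ * c * (q₂ : G)⁻¹) * q₂ := by group
          rw [this, ← h]; group
      have c3 : Nat.card Q = Nat.card ((Q ⧸ K.subgroupOf Q) × (Q ⧸ K'.subgroupOf Q)) := by
        apply Nat.card_congr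
        refine Equiv.ofBijective (fun q => ((q : Q ⧸ K.subgroupOf Q), (q : Q ⧸ K'.subgroupOf Q))) ⟨?_, ?_⟩
        · intro q₁ q₂ h
          have h1 := (hmem a q₁ q₂).1 (congrArg Prod.fst h)
          have h2 := (hmem a' q₁ q₂).1 (congrArg Prod.snd h)
          have k1 : ∀ c : G, (q₁ : G) * c * (q₁ : G)⁻¹ = q₂ * c * (q₂ : G)⁻¹ → Commute ((q₁ : G)⁻¹ * q₂) c := by
            intro c h
            show (q₁ : G)⁻¹ * q₂ * c = c * ((q₁ : G)⁻¹ * q₂)
            have : (q₁ : G)⁻¹ * q₂ * c = (q₁ : G)⁻¹ * (q₂ * c * (q₂ : G)⁻¹) * q₂ := by group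
            rw [this, ← h]; group
          have k2 : Commute ((q₁ : G)⁻¹ * q₂) (a * a') := (k1 a h1).mul_right (k1 a' h2)
          have k3 : (q₁ : G)⁻¹ * q₂ ∈ Q ⊓ Cz (R : Subgroup G) := by
            refine mem_inf.2 ⟨(q₁⁻¹ * q₂).2, mem_centralizer_iff.2 ?_⟩
            intro t ht
            have ht' : t ^ r = 1 := by
              have h5 : orderOf (⟨t, ht⟩ : (R : Subgroup G)) ∣ r := (_root_.orderOf_dvd_natCard _).trans hcardR.dvd
              exact congrArg Subtype.val (orderOf_dvd_iff_pow_eq_one.1 h5)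
            have hπt : ∃ k : ℕ, π t = π ((a * a') ^ k) := by
              rcases hdt : π t with k | k
              · refine ⟨k.val, ?_⟩
                rw [map_pow, map_mul, hi, hj, DihedralGroup.sr_mul_sr, DihedralGroup.r_pow]
                congr 1
                rw [ZMod.natCast_val, ZMod.cast_id]; ring
              · exfalso
                have h3 : orderOf (π t) ∣ r := orderOf_dvd_of_pow_eq_one (by rw [← map_pow, ht', map_one])
                rw [hdt, DihedralGroup.orderOf_sr] at h3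
                exact hr ((Nat.prime_dvd_prime_iff_eq Nat.prime_two hrp).1 h3).symm
            obtain ⟨k, hk⟩ := hπt
            have h3 := hinj t (le_normalizer ht) _ (pow_mem (mul_mem ha ha') k) hk
            rw [h3]
            exact (k2.pow_right k).eq.symm
          rw [hC, mem_bot, inv_mul_eq_one] at k3
          exact Subtype.ext k3
        · rintro ⟨x, y⟩
          obtain ⟨q₁, rfl⟩ := QuotientGroup.mk_surjective x
          obtain ⟨q₂, rfl⟩ := QuotientGroup.mk_surjective y
          have hsq : ∀ (q c : G), c * c = 1 → q * c * q⁻¹ * (q * c * q⁻¹) = 1 := by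
            intro q c hc
            have : q * c * q⁻¹ * (q * c * q⁻¹) = q * (c * c) * q⁻¹ := by group
            rw [this, hc]; group
          obtain ⟨q, hq, h1, h2⟩ := hB (q₁ * a * (q₁ : G)⁻¹) (q₂ * a' * (q₂ : G)⁻¹) (hsq _ _ haa) (hsq _ _ haa')
            (by rw [map_mul, map_mul, map_inv, (hπQ q₁).2 q₁.2]; group)
            (by rw [map_mul, map_mul, map_inv, (hπQ q₂).2 q₂.2]; group)
          refine ⟨⟨q, hq⟩, Prod.ext ?_ ?_⟩
          · exact (hmem a _ _).2 h1.symm
          · exact (hmem a' _ _).2 h2.symm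
      rw [Nat.card_prod] at c3
      have hpos : 0 < Nat.card (Q ⧸ K.subgroupOf Q) := Nat.card_pos
      have hpos' : 0 < Nat.card (Q ⧸ K'.subgroupOf Q) := Nat.card_pos
      have e1 : Nat.card K = Nat.card (Q ⧸ K'.subgroupOf Q) :=
        Nat.eq_of_mul_eq_mul_left hpos (c1.symm.trans c3)
      have e2 : Nat.card K' = Nat.card (Q ⧸ K.subgroupOf Q) :=
        Nat.eq_of_mul_eq_mul_left hpos' (c2.symm.trans (c3.trans (mul_comm _ _)))
      rw [sq, c3, ← e1, ← e2, hKK]

end aux
/-- Let G be a finite group and r an odd prime such that G ⧸ O₂(G) is dihedral of order 2r, and let R be a Sylow r-subgroup of G with C_{O₂(G)}(R) = 1. Then N_G(R) is dihedral of order 2r; for any involution a of N_G(R), every involution of G outside O₂(G) is conjugate to a; and |C_{O₂(G)}(a)|² = |O₂(G)|. -/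
theorem result {G : Type*} [Group G] [Finite G] {r : ℕ} [Fact r.Prime] (hr : r ≠ 2) [hN : (Cfsg.pCore 2 G).Normal] (hquot : Nonempty (G ⧸ Cfsg.pCore 2 G ≃* DihedralGroup r)) (R : Sylow r G) (hC : Cfsg.pCore 2 G ⊓ Subgroup.centralizer ((R : Subgroup G) : Set G) = ⊥) : Nonempty (↥(Subgroup.normalizer ((R : Subgroup G) : Set G)) ≃* DihedralGroup r) ∧ ∀ a : G, a ∈ Subgroup.normalizer ((R : Subgroup G) : Set G) → orderOf a = 2 → (∀ b : G, orderOf b = 2 → b ∉ Cfsg.pCore 2 G → ∃ g : G, g * a * g⁻¹ = b) ∧ Nat.card ↥(Cfsg.pCore 2 G ⊓ Subgroup.centralizer ({a} : Set G)) ^ 2 = Nat.card ↥(Cfsg.pCore 2 G) := by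
  obtain ⟨e⟩ := hquot
  have := main hr (Cfsg.pCore 2 G) (H17.Base.pCore_isPGroup 2 G) (e.toMonoidHom.comp (QuotientGroup.mk' (Cfsg.pCore 2 G)))
    (e.surjective.comp (QuotientGroup.mk'_surjective _)) (by
      ext x
      rw [MonoidHom.mem_ker]
      show e (QuotientGroup.mk' (Cfsg.pCore 2 G) x) = 1 ↔ _
      rw [EmbeddingLike.map_eq_one_iff, ← MonoidHom.mem_ker, QuotientGroup.ker_mk']) R hC
  exact this

end Cfsg.Agent.S2873
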