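import Cfsg.Statements.S2968
import Cfsg.Agent.H18_Iso

set_option autoImplicit false
open Cfsg

namespace Cfsg.Agent.S2968

open Subgroup Cfsg.Agent.H18.Iso Cfsg.Agent.H13.Syl

/-- Let G be a finite group, p a prime, P a Sylow p-subgroup of G and x ∈ P an element of p-power order which is isolated in G (the only conjugate of x commuting with x is x itself). Then x lies in the centre of P, and the subgroup generated by x is both strongly closed and weakly closed in P with respect to G. -/
theorem result {G : Type*} [Group G] [Finite G] {p : ℕ} [Fact p.Prime] (P : Sylow p G) (x : G) (hxP : x ∈ (P : Subgroup G)) (hx : ∃ k : ℕ, orderOf x = p ^ k) (hiso : Cfsg.IsIsolated x) : x ∈ (P : Subgroup G) ⊓ Subgroup.centralizer ((P : Subgroup G) : Set G) ∧ Cfsg.IsStronglyClosed (Subgroup.zpowers x) (P : Subgroup G) ∧ Cfsg.IsWeaklyClosed (Subgroup.zpowers x) (P : Subgroup G) := by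
  have hc := central_of_isolated hiso P.2 hxP
  have hstrong : Cfsg.IsStronglyClosed (Subgroup.zpowers x) (P : Subgroup G) := by
    refine ⟨zpowers_le.mpr hxP, ?_⟩
    rintro _ ⟨i, rfl⟩ g hg
    simp only at hg ⊢
    set y := g * x ^ i * g⁻¹ with hy
    -- `x` and `g x g⁻¹` centralize `y`
    have h1 : x ∈ centralizer ({y} : Set G) := by
      rw [mem_centralizer_singleton_iff]
      exact (mem_centralizer_singleton_iff.mp (hc hg)).symm
    have h2 : g * x * g⁻¹ ∈ centralizer ({y} : Set G) := by
      rw [mem_centralizer_singleton_iff, hy]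
      have : x * x ^ i = x ^ i * x := (Commute.refl x).zpow_right i
      calc g * x * g⁻¹ * (g * x ^ i * g⁻¹) = g * (x * x ^ i) * g⁻¹ := by group
        _ = g * (x ^ i * x) * g⁻¹ := by rw [this]
        _ = g * x ^ i * g⁻¹ * (g * x * g⁻¹) := by group
    obtain ⟨k, hk, hkx⟩ := exists_conj_in hx hiso h1 h2
    rw [mem_centralizer_singleton_iff] at hk
    have h3 : k * y * k⁻¹ = y := by rw [hk, mul_inv_cancel_right]
    have h4 : k * y * k⁻¹ = x ^ i := by
      have h5 : k * y * k⁻¹ = (k * (g * x * g⁻¹) * k⁻¹) ^ i := by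
        rw [conj_zpow, conj_zpow]
      rw [h5, hkx]
    rw [← h3, h4]
    exact zpow_mem (mem_zpowers x) i
  refine ⟨⟨hxP, ?_⟩, hstrong, zpowers_le.mpr hxP, ?_⟩
  · show x ∈ centralizer ((P : Subgroup G) : Set G)
    rw [mem_centralizer_iff]
    intro y hy
    exact mem_centralizer_singleton_iff.mp (hc hy)
  · intro g hg
    have h1 : g * x * g⁻¹ ∈ (P : Subgroup G) := hg ⟨x, mem_zpowers x, rfl⟩
    have h2 := mem_centralizer_singleton_iff.mp (hc h1)
    have h3 := hiso g h2.symm
    have h4 : (zpowers x).map (MulAut.conj g).toMonoidHom = zpowers (g * x * g⁻¹) := by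
      rw [MonoidHom.map_zpowers]; rfl
    rw [h4, h3]

end Cfsg.Agent.S2968
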