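import Cfsg.Statements.S2971
import Cfsg.Agent.H18_Iso2
import Cfsg.Agent.H11_Cores

set_option autoImplicit false
open Cfsg

namespace Cfsg.Agent.S2971

open Subgroup Cfsg.Agent.H18.Iso Cfsg.Agent.H18.Iso2

/-- Let G be a finite group and p an odd prime such that G has p-rank at most 1 (no elementary abelian subgroup of order p²). If x ∈ G is an isolated element of order p, then x is central modulo the largest normal subgroup of G of order prime to p. -/
theorem result {G : Type*} [Group G] [Finite G] {p : ℕ} [Fact p.Prime] (hp : p ≠ 2) (hrk : Cfsg.PRankLE p 1 G) (x : G) (hx : orderOf x = p) (hiso : Cfsg.IsIsolated x) : Cfsg.InZStar p x := by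
  have hx' : ∃ k : ℕ, orderOf x = p ^ k := ⟨1, by rw [hx, pow_one]⟩
  have hx1 : x ≠ 1 := by
    rintro rfl
    rw [orderOf_one] at hx
    exact (Fact.out (p := p.Prime)).one_lt.ne hx
  have hcyc : ∀ P : Sylow p G, IsCyclic ↥(P : Subgroup G) := by
    intro P
    apply Cfsg.Agent.H18.Cyc.isCyclic_of_rank_one hp P.2
    intro A hA hAp
    have h1 := hrk (A.map (P : Subgroup G).subtype) inferInstance (by
      rintro _ ⟨a, ha, rfl⟩
      rw [← map_pow, hAp a ha, map_one])
    rwa [card_map_of_injective (Subgroup.subtype_injective _)] at h1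
  have hnpc := hasNormalPComplement hx1 hx' hiso hcyc
  obtain ⟨N, hN, hNp, k, hk⟩ := Cfsg.Agent.H2.Basic.npc_iff.mp hnpc
  have h1 : IsPGroup p (G ⧸ N) := IsPGroup.of_card (n := k) (by rw [← hk]; rfl)
  have h2 := central_of_isolated (isolated_quotient hx' hiso N) (h1.to_subgroup ⊤) (mem_top _)
  intro g
  have h3 : (QuotientGroup.mk g : G ⧸ N) ∈ centralizer ({(QuotientGroup.mk x : G ⧸ N)} : Set (G ⧸ N)) := h2 (mem_top _)
  rw [mem_centralizer_singleton_iff] at h3
  have h4 : g * x * g⁻¹ * x⁻¹ ∈ N := by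
    rw [← QuotientGroup.eq_one_iff]
    rw [QuotientGroup.mk_mul, QuotientGroup.mk_mul, QuotientGroup.mk_mul, h3, QuotientGroup.mk_inv, QuotientGroup.mk_inv,
      mul_inv_cancel_right, mul_inv_cancel]
  exact Cfsg.Agent.H11.Cores.le_pPrimeCore (G := G) p (((Fact.out (p := p.Prime)).coprime_iff_not_dvd.mpr hNp).symm) h4

end Cfsg.Agent.S2971
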