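import Cfsg.Statements.S2972
import Cfsg.Agent.H18_Iso2
import Cfsg.Agent.H11_Cores

set_option autoImplicit false
open Cfsg

namespace Cfsg.Agent.S2972

open Subgroup Cfsg.Agent.H18.Iso Cfsg.Agent.H18.Iso2 Cfsg.Agent.H13.Syl
open scoped commutatorElement

section
universe u
variable {G : Type u} [Group G] [Finite G] {p : ℕ} [Fact p.Prime]

/-- if `N` is a central `p`-subgroup and `O_{p'}(G) = 1` then `O_{p'}(G/N) = 1`. -/
theorem pPrimeCore_quotient_central (hO : pPrimeCore p G = ⊥) (N : Subgroup G) [N.Normal] (hN : IsPGroup p ↥N)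
    (hNc : N ≤ center G) : pPrimeCore p (G ⧸ N) = ⊥ := by
  set K := (pPrimeCore p (G ⧸ N)).comap (QuotientGroup.mk' N) with hK
  haveI : K.Normal := inferInstance
  have hNK : N ≤ K := by
    intro n hn
    show QuotientGroup.mk' N n ∈ pPrimeCore p (G ⧸ N)
    have : QuotientGroup.mk' N n = 1 := (QuotientGroup.eq_one_iff n).mpr hn
    rw [this]; exact (pPrimeCore p (G ⧸ N)).one_mem
  -- complement
  set N' := N.subgroupOf K with hN'
  haveI : N'.Normal := inferInstance
  have hN'c : ∀ n ∈ N', ∀ k : ↥K, n * k = k * n := by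
    intro n hn k
    apply Subtype.ext
    exact ((mem_center_iff.mp (hNc hn)) k).symm
  have hidx : N'.index = Nat.card ↥(pPrimeCore p (G ⧸ N)) := by
    have h1 : Nat.card K = Nat.card ↥(QuotientGroup.mk' N).ker * Nat.card ↥(pPrimeCore p (G ⧸ N)) :=
      Cfsg.Agent.H11.Cores.card_comap_of_surjective (QuotientGroup.mk' N) (QuotientGroup.mk'_surjective N) _
    rw [QuotientGroup.ker_mk'] at h1
    have h2 : Nat.card ↥N' * N'.index = Nat.card K := card_mul_index N'
    have h3 : Nat.card ↥N' = Nat.card ↥N := Nat.card_congr (subgroupOfEquivOfLe hNK).toEquiv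
    rw [h3, h1] at h2
    exact Nat.eq_of_mul_eq_mul_left Nat.card_pos h2
  have hcop : Nat.Coprime (Nat.card ↥N') N'.index := by
    rw [hidx]
    have h3 : Nat.card ↥N' = Nat.card ↥N := Nat.card_congr (subgroupOfEquivOfLe hNK).toEquiv
    obtain ⟨k, hk⟩ := IsPGroup.iff_card.mp hN
    rw [h3, hk]
    exact (Nat.Coprime.pow_right k (Cfsg.Agent.H11.Cores.pPrimeCore_coprime (G := G ⧸ N) p)).symm
  obtain ⟨H, hH⟩ := exists_right_complement'_of_coprime hcop
  have hHcard : Nat.card ↥H = N'.index := hH.symm.index_eq_card.symm ▸ rfl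
  have hHn : H.Normal := by
    constructor
    intro h hh k
    obtain ⟨⟨n, h'⟩, hk⟩ := hH.2 k
    have hk : (n : ↥K) * (h' : ↥K) = k := hk
    rw [← hk]
    have h1 : (n : ↥K) * h' * h * ((n : ↥K) * h')⁻¹ = h' * h * (h' : ↥K)⁻¹ := by
      have h2 : (n : ↥K) * (h' * h * (h' : ↥K)⁻¹) = (h' * h * (h' : ↥K)⁻¹) * n := hN'c n n.2 _
      calc (n : ↥K) * h' * h * ((n : ↥K) * h')⁻¹ = (n : ↥K) * (h' * h * (h' : ↥K)⁻¹) * (n : ↥K)⁻¹ := by group
        _ = _ := by rw [h2, mul_inv_cancel_right]
    rw [h1]
    exact H.mul_mem (H.mul_mem h'.2 hh) (H.inv_mem h'.2)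
  have h1 : H ≤ pPrimeCore p ↥K := Cfsg.Agent.H11.Cores.le_pPrimeCore (G := ↥K) p (by
    rw [hHcard, hidx]; exact Cfsg.Agent.H11.Cores.pPrimeCore_coprime (G := G ⧸ N) p)
  have h2 : (pPrimeCore p ↥K).map K.subtype = pPrimeCore p G ⊓ K :=
    Cfsg.Agent.H11.Cores.map_pPrimeCore_of_isSubnormal p (inferInstance : K.Normal).isSubnormal
  rw [hO, bot_inf_eq, map_eq_bot_iff_of_injective _ K.subtype_injective] at h2
  rw [h2] at h1
  have h3 : Nat.card ↥H = 1 := by rw [le_bot_iff.mp h1]; exact card_bot
  rw [hHcard, hidx] at h3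
  exact card_eq_one.mp h3

end

/-- Let G be a finite group, p a prime and x ∈ G an isolated element of order p (the only conjugate of x commuting with x is x) which is not central modulo the largest normal subgroup of order prime to p, while x is central modulo the largest normal subgroup of order prime to p in every proper subgroup containing x, and the image of x is so in every quotient of G by a nontrivial normal subgroup (a minimal counterexample to the Z*_p statement). Then the derived subgroup G' is a non-abelian simple group and G = G'⟨x⟩. -/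
theorem result {G : Type*} [Group G] [Finite G] {p : ℕ} [Fact p.Prime] (x : G) (hx : orderOf x = p) (hiso : Cfsg.IsIsolated x) (hnz : ¬ Cfsg.InZStar p x) (hmin : ∀ (H : Subgroup G) (hxH : x ∈ H), H ≠ ⊤ → Cfsg.InZStar p (⟨x, hxH⟩ : ↥H)) (hquot : ∀ (N : Subgroup G) [N.Normal], N ≠ ⊥ → Cfsg.InZStar p (QuotientGroup.mk x : G ⧸ N)) : IsSimpleGroup ↥(commutator G) ∧ ¬ IsMulCommutative ↥(commutator G) ∧ commutator G ⊔ Subgroup.zpowers x = ⊤ := by
  have hx' : ∃ k : ℕ, orderOf x = p ^ k := ⟨1, by rw [hx, pow_one]⟩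
  -- `O_{p'}(G) = 1`
  have hO : Cfsg.pPrimeCore p G = ⊥ := by
    by_contra hne
    have h1 := hquot (Cfsg.pPrimeCore p G) hne
    apply hnz
    intro g
    have h2 := h1 (QuotientGroup.mk g)
    rw [Cfsg.Agent.H11.Cores.pPrimeCore_quotient, mem_bot] at h2
    rw [← QuotientGroup.eq_one_iff]
    exact h2
  have hnc : x ∉ center G := by
    intro h
    apply hnz
    intro g
    rw [mem_center_iff] at h
    rw [h g, mul_inv_cancel_right, mul_inv_cancel]
    exact one_mem _
  -- small normal subgroups are central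
  have hcent : ∀ N : Subgroup G, N.Normal → N ⊔ zpowers x ≠ ⊤ → ∀ n ∈ N, x * n = n * x := by
    intro N hN hne n hn
    have hxH : x ∈ N ⊔ zpowers x := mem_sup_right (mem_zpowers x)
    have h1 := hmin (N ⊔ zpowers x) hxH hne ⟨n, mem_sup_left hn⟩
    have h2 : n * x * n⁻¹ * x⁻¹ ∈ N := by
      have h3 := hN.conj_mem _ (N.inv_mem hn) x
      have h4 := N.mul_mem hn h3
      simpa [mul_assoc] using h4
    -- the core of `N ⟨x⟩` meets `N` in a subnormal `p'`-subgroup
    set H := N ⊔ zpowers x with hH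
    set A : Subgroup G := (Cfsg.pPrimeCore p ↥H).map H.subtype ⊓ N with hA
    have hAcop : (Nat.card A).Coprime p := by
      apply Nat.Coprime.coprime_dvd_left (card_dvd_of_le (inf_le_left : A ≤ _))
      rw [card_map_of_injective H.subtype_injective]
      exact Cfsg.Agent.H11.Cores.pPrimeCore_coprime (G := ↥H) p
    have hAn : (A.subgroupOf N).Normal := by
      rw [normal_subgroupOf_iff_le_normalizer inf_le_right]
      intro m hm
      rw [mem_normalizer_iff]
      have key : ∀ m ∈ N, ∀ a ∈ A, m * a * m⁻¹ ∈ A := by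
        rintro m hm a ⟨⟨b, hb, rfl⟩, ha⟩
        refine ⟨⟨⟨m, mem_sup_left hm⟩ * b * ⟨m, mem_sup_left hm⟩⁻¹, ?_, rfl⟩, N.mul_mem (N.mul_mem hm ha) (N.inv_mem hm)⟩
        exact (inferInstance : (Cfsg.pPrimeCore p ↥H).Normal).conj_mem _ hb _
      intro a
      refine ⟨key m hm a, fun h => ?_⟩
      have := key m⁻¹ (N.inv_mem hm) _ h
      have h5 : m⁻¹ * (m * a * m⁻¹) * m⁻¹⁻¹ = a := by group
      rwa [h5] at this
    have hAsub : A.IsSubnormal := by
      have h3 : (A.subgroupOf N).IsSubnormal := hAn.isSubnormal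
      exact IsSubnormal.trans inf_le_right h3 hN.isSubnormal
    have h3 := Cfsg.Agent.H11.Cores.le_pPrimeCore_of_isSubnormal p hAsub hAcop
    rw [hO, le_bot_iff] at h3
    have h4 : n * x * n⁻¹ * x⁻¹ ∈ A := ⟨⟨_, h1, rfl⟩, h2⟩
    rw [h3, mem_bot] at h4
    have h5 := mul_inv_eq_one.mp h4
    exact (mul_inv_eq_iff_eq_mul.mp h5).symm
  -- the normal closure of `x` is `G`
  have hncl : normalClosure ({x} : Set G) = ⊤ := by
    by_contra hne
    apply hnc
    have hxM : x ∈ normalClosure ({x} : Set G) := subset_normalClosure (Set.mem_singleton x)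
    have h1 : normalClosure ({x} : Set G) ⊔ zpowers x ≠ ⊤ := by
      rwa [sup_eq_left.mpr (zpowers_le.mpr hxM)]
    have h2 := hcent _ normalClosure_normal h1
    rw [mem_center_iff]
    intro g
    have h3 : g * x * g⁻¹ ∈ normalClosure ({x} : Set G) := normalClosure_normal.conj_mem _ hxM g
    exact mul_inv_eq_iff_eq_mul.mp (hiso g (h2 _ h3))
  have hcenter : ∀ N : Subgroup G, N.Normal → (∀ n ∈ N, x * n = n * x) → N ≤ center G := by
    intro N hN h
    have h1 : normalClosure ({x} : Set G) ≤ centralizer (N : Set G) := by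
      haveI : (centralizer (N : Set G)).Normal := inferInstance
      apply normalClosure_le_normal
      rw [Set.singleton_subset_iff, SetLike.mem_coe, mem_centralizer_iff]
      intro n hn; exact (h n hn).symm
    rw [hncl] at h1
    intro n hn
    rw [mem_center_iff]
    intro g
    exact ((mem_centralizer_iff.mp (h1 (mem_top g))) n hn).symm
  have hsupx : ∀ N : Subgroup G, N.Normal → N ≠ ⊥ → N ⊔ zpowers x = ⊤ := by
    intro N hN hN1
    by_contra hne
    have hNc := hcenter N hN (hcent N hN hne)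
    -- `N` is a `p`-group
    have hNp : IsPGroup p ↥N := by
      -- its `p'`-part is trivial
      rw [IsPGroup.iff_orderOf]
      intro n
      obtain ⟨a, ha, b, hb, hab, -, ⟨k, hak⟩, hbc⟩ := Cfsg.Agent.H2.Basic.exists_p_decomp p (n : G)
      have hbN : b ∈ N := (zpowers_le.mpr n.2) hb
      have hbn : (zpowers b).Normal := ⟨fun z hz g => by
        have h9 := (mem_center_iff.mp (hNc ((zpowers_le.mpr hbN) hz))) g
        rw [h9, mul_inv_cancel_right]; exact hz⟩
      have h1 := Cfsg.Agent.H11.Cores.le_pPrimeCore (G := G) p (N := zpowers b) (by rwa [Nat.card_zpowers])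
      rw [hO, le_bot_iff, zpowers_eq_bot] at h1
      refine ⟨k, ?_⟩
      rw [h1, mul_one] at hab
      rw [← Subgroup.orderOf_coe, ← hab, hak]
    have h1 := pPrimeCore_quotient_central hO N hNp hNc
    have h2 := hquot N hN1
    apply hnc
    rw [mem_center_iff]
    intro g
    have h3 := h2 (QuotientGroup.mk g)
    rw [h1, mem_bot] at h3
    have h4 : g * x * g⁻¹ * x⁻¹ ∈ N := by
      rw [← QuotientGroup.eq_one_iff]; exact h3
    have h5 := (mem_center_iff.mp (hNc h4)) x
    have h6 : Commute x (g * x * g⁻¹) := by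
      have h7 : g * x * g⁻¹ = g * x * g⁻¹ * x⁻¹ * x := by group
      rw [h7]
      exact (Commute.mul_right h5 (Commute.refl x))
    exact mul_inv_eq_iff_eq_mul.mp (hiso g h6)
  have hnormal : ∀ N : Subgroup G, N.Normal → N ≠ ⊥ → commutator G ≤ N := by
    intro N hN hN1
    have h1 := hsupx N hN hN1
    haveI := hN
    have h2 : IsCyclic (G ⧸ N) := by
      refine ⟨QuotientGroup.mk x, fun y => ?_⟩
      obtain ⟨g, rfl⟩ := QuotientGroup.mk_surjective y
      have hg : g ∈ N ⊔ zpowers x := by rw [h1]; trivial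
      obtain ⟨n, hn, z, ⟨i, rfl⟩, rfl⟩ := mem_sup_of_normal_left.mp hg
      refine ⟨i, ?_⟩
      have h5 : (QuotientGroup.mk n : G ⧸ N) = 1 := (QuotientGroup.eq_one_iff n).mpr hn
      simp only
      rw [QuotientGroup.mk_mul, h5, one_mul]; rfl
    haveI : IsMulCommutative (G ⧸ N) := h2.isMulCommutative
    rw [_root_.commutator_def, commutator_le]
    intro a _ b _
    rw [← QuotientGroup.eq_one_iff]
    have : (QuotientGroup.mk ⁅a, b⁆ : G ⧸ N) = ⁅(QuotientGroup.mk a : G ⧸ N), (QuotientGroup.mk b : G ⧸ N)⁆ := rfl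
    rw [this, commutatorElement_eq_one_iff_mul_comm]
    exact mul_comm' _ _
  have hG'1 : commutator G ≠ ⊥ := by
    intro h
    apply hnc
    rw [commutator_eq_bot_iff] at h
    rw [mem_center_iff]
    intro g; exact mul_comm' g x
  obtain ⟨P, hP⟩ := (isPGroup_zpowers hx').exists_le_sylow
  have hxP : x ∈ (P : Subgroup G) := hP (mem_zpowers x)
  have hPx := central_of_isolated hiso P.2 hxP
  -- minimal normal subgroups of `G'`
  have hsimple : ∀ S : Subgroup ↥(commutator G), S.Normal → S = ⊥ ∨ S = ⊤ := by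
    intro S₁ hS₁
    by_contra hcon
    push Not at hcon
    obtain ⟨S, ⟨hSn, hS1, hSS₁⟩, hSmin⟩ := Set.Finite.exists_minimalFor (fun X : Subgroup ↥(commutator G) => X)
      {X : Subgroup ↥(commutator G) | X.Normal ∧ X ≠ ⊥ ∧ X ≤ S₁} (Set.toFinite _) ⟨S₁, hS₁, hcon.1, le_rfl⟩
    set T := S.map (commutator G).subtype with hT
    have hTG' : T ≤ commutator G := map_subtype_le S
    have hG'T : commutator G ≤ normalizer (T : Set G) := by
      rw [← normal_subgroupOf_iff_le_normalizer hTG']
      have : T.subgroupOf (commutator G) = S := by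
        rw [hT, subgroupOf, comap_map_eq_self_of_injective (subtype_injective _)]
      rw [this]; exact hSn
    have hTsub : T.IsSubnormal := by
      have h3 : (T.subgroupOf (commutator G)).IsSubnormal := by
        have h4 : (T.subgroupOf (commutator G)).Normal := by rwa [normal_subgroupOf_iff_le_normalizer hTG']
        exact h4.isSubnormal
      exact IsSubnormal.trans hTG' h3 (inferInstance : (commutator G).Normal).isSubnormal
    have hT1 : T ≠ ⊥ := by
      intro h
      exact hS1 ((map_eq_bot_iff_of_injective _ (subtype_injective _)).mp h)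
    have hsyl1 : IsSylIn p ((P : Subgroup G) ⊓ commutator G) (commutator G) :=
      (isSylIn_sylow_top P).inf_of_le_normalizer le_top (by rw [Subgroup.normalizer_eq_top])
    have hsyl2 : IsSylIn p ((P : Subgroup G) ⊓ commutator G ⊓ T) T := hsyl1.inf_of_le_normalizer hTG' hG'T
    have hPT : (P : Subgroup G) ⊓ commutator G ⊓ T ≠ ⊥ := by
      intro h
      rw [h] at hsyl2
      have h1 := hsyl2.not_dvd
      rw [relIndex_bot_left] at h1
      have h2 := Cfsg.Agent.H11.Cores.le_pPrimeCore_of_isSubnormal p hTsub ((Fact.out (p := p.Prime)).coprime_iff_not_dvd.mpr h1).symm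
      rw [hO, le_bot_iff] at h2
      exact hT1 h2
    obtain ⟨⟨y, hy⟩, hy1⟩ := ne_bot_iff_exists_ne_one.mp hPT
    have hyx : y * x = x * y := mem_centralizer_singleton_iff.mp (hPx hy.1.1)
    -- `T ∩ T^x`
    have hG'Tx : commutator G ≤ normalizer ((Cfsg.Agent.H13.Syl.cj x T : Subgroup G) : Set G) := by
      rw [← cj_normalizer, ← cj_eq_of_normal x (commutator G)]
      exact cj_mono hG'T
    have hR : commutator G ≤ normalizer ((T ⊓ Cfsg.Agent.H13.Syl.cj x T : Subgroup G) : Set G) :=
      le_trans (le_inf hG'T hG'Tx) inf_normalizer_le_normalizer_inf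
    have hle : S ≤ (T ⊓ Cfsg.Agent.H13.Syl.cj x T).subgroupOf (commutator G) := by
      apply hSmin
      · refine ⟨?_, ?_, ?_⟩
        · rwa [normal_subgroupOf_iff_le_normalizer (inf_le_left.trans hTG')]
        · intro h
          apply hy1
          have h3 : (⟨y, hy.1.2⟩ : ↥(commutator G)) ∈ (T ⊓ Cfsg.Agent.H13.Syl.cj x T).subgroupOf (commutator G) := by
            refine ⟨hy.2, ?_⟩
            show y ∈ Cfsg.Agent.H13.Syl.cj x T
            rw [mem_cj]
            have : x⁻¹ * y * x = y := by rw [mul_assoc, hyx, inv_mul_cancel_left]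
            rw [this]; exact hy.2
          rw [h, mem_bot] at h3
          apply Subtype.ext
          have h4 : y = 1 := congrArg Subtype.val h3
          exact h4
        · intro z hz
          have h4 : (z : G) ∈ T := hz.1
          obtain ⟨w, hw, hwz⟩ := h4
          have : w = z := Subtype.ext hwz
          exact hSS₁ (this ▸ hw)
      · intro z hz
        have h4 : (z : G) ∈ T := hz.1
        obtain ⟨w, hw, hwz⟩ := h4
        have : w = z := Subtype.ext hwz
        exact this ▸ hw
    have hTx : T ≤ Cfsg.Agent.H13.Syl.cj x T := by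
      rintro _ ⟨s, hs, rfl⟩
      exact (hle hs).2
    have hTx' : T = Cfsg.Agent.H13.Syl.cj x T := Cfsg.Agent.H11.Cores.eq_of_le_of_card_le hTx (by rw [card_cj])
    have hxT : x ∈ normalizer (T : Set G) := mem_normalizer_iff_cj.mpr hTx'.symm
    have hTn : T.Normal := by
      rw [← normalizer_eq_top_iff, eq_top_iff, ← hsupx (commutator G) inferInstance hG'1]
      exact sup_le hG'T (zpowers_le.mpr hxT)
    have h6 := hnormal T hTn hT1
    apply hcon.2
    rw [eq_top_iff]
    intro z _
    have h4 : (z : G) ∈ T := h6 z.2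
    obtain ⟨w, hw, hwz⟩ := h4
    have : w = z := Subtype.ext hwz
    exact hSS₁ (this ▸ hw)
  have hnt : Nontrivial ↥(commutator G) := (nontrivial_iff_ne_bot _).mpr hG'1
  refine ⟨⟨fun S hS => hsimple S hS⟩, ?_, hsupx _ inferInstance hG'1⟩
  intro hcomm
  -- `G'` is a `p`-group
  have hG'p : IsPGroup p ↥(commutator G) := by
    rw [IsPGroup.iff_orderOf]
    intro n
    obtain ⟨a, ha, b, hb, hab, -, ⟨k, hak⟩, hbc⟩ := Cfsg.Agent.H2.Basic.exists_p_decomp p (n : G)
    have hbN : b ∈ commutator G := (zpowers_le.mpr n.2) hb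
    have hbn : ((zpowers b).subgroupOf (commutator G)).Normal := by
      haveI := hcomm
      exact ⟨fun z hz g => by
        have h9 := mul_comm' g z
        rw [h9, mul_inv_cancel_right]; exact hz⟩
    have hbs : (zpowers b).IsSubnormal :=
      IsSubnormal.trans (zpowers_le.mpr hbN) hbn.isSubnormal (inferInstance : (commutator G).Normal).isSubnormal
    have h1 := Cfsg.Agent.H11.Cores.le_pPrimeCore_of_isSubnormal p hbs (by rwa [Nat.card_zpowers])
    rw [hO, le_bot_iff, zpowers_eq_bot] at h1
    refine ⟨k, ?_⟩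
    rw [h1, mul_one] at hab
    rw [← Subgroup.orderOf_coe, ← hab, hak]
  have hG'P : commutator G ≤ (P : Subgroup G) := by
    have h1 : IsPGroup p ↥((P : Subgroup G) ⊔ commutator G : Subgroup G) :=
      IsPGroup.to_sup_of_normal_right' P.2 hG'p (by rw [Subgroup.normalizer_eq_top]; exact le_top)
    have h2 := P.3 h1 le_sup_left
    rw [← h2]; exact le_sup_right
  have hPtop : (P : Subgroup G) = ⊤ := by
    rw [eq_top_iff, ← hsupx (commutator G) inferInstance hG'1]
    exact sup_le hG'P hP
  apply hnc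
  rw [mem_center_iff]
  intro g
  have : g ∈ (P : Subgroup G) := by rw [hPtop]; trivial
  exact mem_centralizer_singleton_iff.mp (hPx this)

end Cfsg.Agent.S2972
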