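import Cfsg.Statements.S2975
import Cfsg.Agent.H18_Iso
import Cfsg.Agent.H13_Syl
import Cfsg.Agent.H9_SylowConj
import Cfsg.Agent.H11_Cores
import Cfsg.Agent.H2_Card

set_option autoImplicit false
open Cfsg

namespace Cfsg.Agent.S2975

open Subgroup Cfsg.Agent.H13.Syl
open scoped Pointwise

section
variable {G : Type*} [Group G] [Finite G]

theorem pow_comm_mem {x : G} {H K : Subgroup G} (hHK : H ≤ normalizer (K : Set G)) (hxH : x ∈ H)
    (hx : ∀ h ∈ H, x * h * x⁻¹ * h⁻¹ ∈ K) : ∀ r ∈ zpowers x, ∀ h ∈ H, r * h * r⁻¹ * h⁻¹ ∈ K := by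
  intro r hr
  obtain ⟨n, rfl⟩ := mem_powers_iff_mem_zpowers.mpr hr
  clear hr
  show ∀ h ∈ H, x ^ n * h * (x ^ n)⁻¹ * h⁻¹ ∈ K
  induction n with
  | zero => intro h hh; simp
  | succ n ih =>
    intro h hh
    have h1 := (mem_normalizer_iff.mp (hHK hxH) _).mp (ih h hh)
    have h2 := hx h hh
    have h3 := K.mul_mem h1 h2
    have e : x ^ (n + 1) * h * (x ^ (n + 1))⁻¹ * h⁻¹ = x * (x ^ n * h * (x ^ n)⁻¹ * h⁻¹) * x⁻¹ * (x * h * x⁻¹ * h⁻¹) := by
      rw [pow_succ']; group
    rw [e]; exact h3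

theorem inv_sylow {p q : ℕ} [Fact p.Prime] [Fact q.Prime] {x : G} (hxp : IsPGroup p (zpowers x)) {H K : Subgroup G}
    (hxH : x ∈ H) (hKH : K ≤ H) (hHK : H ≤ normalizer (K : Set G)) (hKc : (Nat.card K).Coprime p)
    (hx : ∀ h ∈ H, x * h * x⁻¹ * h⁻¹ ∈ K) : ∃ R, IsSylIn q R H ∧ x ∈ normalizer (R : Set G) := by
  classical
  obtain ⟨R₀, hR₀⟩ := exists_isSylIn (p := q) H
  letI : MulAction G (Subgroup G) := MulAction.compHom (Subgroup G) (MulAut.conj : G →* MulAut G)
  have hsm : ∀ (g : G) (A : Subgroup G), g • A = cj g A := fun g A => rfl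
  set L := R₀ ⊔ K with hL
  have hLH : L ≤ H := sup_le hR₀.le hKH
  have hRK : R₀ ≤ normalizer (K : Set G) := hR₀.le.trans hHK
  have hpow := pow_comm_mem hHK hxH hx
  have hdvd : Nat.card (MulAction.orbit ↥K R₀) ∣ Nat.card K := by
    rw [Nat.card_coe_set_eq, ← MulAction.index_stabilizer]
    exact index_dvd_card _
  obtain ⟨R, hR, hRx⟩ := Cfsg.Agent.H9.SylowConj.exists_fixed hxp (MulAction.orbit ↥K R₀) (by
    rintro r hr _ ⟨k, rfl⟩
    show r • ((k : G) • R₀) ∈ _
    have hrH : r ∈ H := (zpowers_le.mpr hxH) hr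
    -- `cj r R₀`
    have h1 : IsSylIn q (cj r R₀) L := by
      have h2 := hR₀.cj r
      rw [cj_eq_of_mem hrH] at h2
      refine h2.mono ?_ hLH
      rintro _ ⟨s, hs, rfl⟩
      have h3 := hpow r hr s (hR₀.le hs)
      have e : (MulAut.conj r).toMonoidHom s = (r * s * r⁻¹ * s⁻¹) * s := by simp
      rw [e]
      exact L.mul_mem ((le_sup_right : K ≤ L) h3) ((le_sup_left : R₀ ≤ L) hs)
    have h2 : IsSylIn q R₀ L := hR₀.mono le_sup_left hLH
    obtain ⟨l, hl, hlR⟩ := h1.exists_conj_eq h2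
    obtain ⟨k', hk', s, hs, rfl⟩ := (Cfsg.Agent.H2.Card.mem_sup_iff' hRK).mp (show l ∈ K ⊔ R₀ by rw [sup_comm]; exact hl)
    rw [cj_mul, cj_eq_of_mem hs] at hlR
    refine ⟨⟨(r * k * r⁻¹) * k', K.mul_mem ((mem_normalizer_iff.mp (hHK hrH) k).mp k.2) hk'⟩, ?_⟩
    show ((r * k * r⁻¹) * k') • R₀ = r • ((k : G) • R₀)
    rw [hsm, hsm, hsm, cj_mul, hlR, ← cj_mul, ← cj_mul]
    congr 1
    group) (by
      intro h
      have h1 := h.trans hdvd
      have := Nat.Prime.coprime_iff_not_dvd (Fact.out (p := p.Prime)) |>.mp hKc.symm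
      exact this h1)
  obtain ⟨k, rfl⟩ := hR
  refine ⟨cj (k : G) R₀, ?_, ?_⟩
  · have := hR₀.cj (k : G)
    rwa [cj_eq_of_mem (hKH k.2)] at this
  · rw [mem_normalizer_iff_cj]
    exact hRx x (mem_zpowers x)
end

/-- Let G be a finite group, p a prime and x ∈ G an isolated element of order p (the only conjugate of x commuting with x is x) which is not central modulo the largest normal subgroup of order prime to p, while x is central modulo the largest normal subgroup of order prime to p in every proper subgroup containing x, and the image of x is so in every quotient of G by a nontrivial normal subgroup (a minimal counterexample to the Z*_p statement). Then for every prime q, every q-subgroup of G that is normalized by x and maximal among the q-subgroups normalized by x is either trivial or a Sylow q-subgroup of G; and C_G(x) permutes the x-invariant Sylow q-subgroups of G transitively by conjugation. -/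
theorem result {G : Type*} [Group G] [Finite G] {p : ℕ} [Fact p.Prime] (x : G) (hx : orderOf x = p) (hiso : Cfsg.IsIsolated x) (hnz : ¬ Cfsg.InZStar p x) (hmin : ∀ (H : Subgroup G) (hxH : x ∈ H), H ≠ ⊤ → Cfsg.InZStar p (⟨x, hxH⟩ : ↥H)) (hquot : ∀ (N : Subgroup G) [N.Normal], N ≠ ⊥ → Cfsg.InZStar p (QuotientGroup.mk x : G ⧸ N)) (q : ℕ) [Fact q.Prime] : (∀ Q : Subgroup G, IsPGroup q ↥Q → x ∈ Subgroup.normalizer (Q : Set G) → (∀ R : Subgroup G, IsPGroup q ↥R → x ∈ Subgroup.normalizer (R : Set G) → Q ≤ R → R = Q) → Q = ⊥ ∨ ∃ S : Sylow q G, (S : Subgroup G) = Q) ∧ (∀ S₁ S₂ : Sylow q G, x ∈ Subgroup.normalizer ((S₁ : Subgroup G) : Set G) → x ∈ Subgroup.normalizer ((S₂ : Subgroup G) : Set G) → ∃ c ∈ Subgroup.centralizer ({x} : Set G), (S₁ : Subgroup G).map (MulAut.conj c).toMonoidHom = (S₂ : Subgroup G)) := by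
  classical
  have hxp' : ∃ k : ℕ, orderOf x = p ^ k := ⟨1, by rw [pow_one]; exact hx⟩
  have hxp : IsPGroup p ↥(zpowers x) := Cfsg.Agent.H18.Iso.isPGroup_zpowers hxp'
  constructor
  · intro Q hQ hxQ hmax
    by_cases hQ1 : Q = ⊥
    · exact Or.inl hQ1
    right
    by_cases hpq : q = p
    · subst hpq
      -- `x ∈ Q`
      have hsup : IsPGroup q ↥(Q ⊔ zpowers x : Subgroup G) := by
        exact hQ.to_sup_of_normal_left' hxp (zpowers_le.mpr hxQ)
      have hxx : x ∈ normalizer ((Q ⊔ zpowers x : Subgroup G) : Set G) :=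
        le_normalizer ((le_sup_right : zpowers x ≤ Q ⊔ zpowers x) (mem_zpowers x))
      have h1 := hmax _ hsup hxx le_sup_left
      have hxQ : x ∈ Q := by rw [← h1]; exact (le_sup_right : zpowers x ≤ Q ⊔ zpowers x) (mem_zpowers x)
      obtain ⟨S, hS⟩ := hQ.exists_le_sylow
      exact ⟨S, hmax S S.2 (le_normalizer (hS hxQ)) hS⟩
    · -- `q ≠ p`
      have hQc : (Nat.card Q).Coprime p := by
        obtain ⟨n, hn⟩ := IsPGroup.iff_card.mp hQ
        rw [hn]
        exact Nat.Coprime.pow_left _ ((Nat.coprime_primes Fact.out Fact.out).mpr hpq)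
      by_cases hH : normalizer (Q : Set G) = ⊤
      · exfalso
        haveI hQn : Q.Normal := normalizer_eq_top_iff.mp hH
        apply hnz
        have h1 := hquot Q hQ1
        intro g
        have h2 := h1 (QuotientGroup.mk g)
        have h3 : (Cfsg.pPrimeCore p (G ⧸ Q)).comap (QuotientGroup.mk' Q) ≤ Cfsg.pPrimeCore p G := by
          haveI := Cfsg.Agent.H11.Cores.pPrimeCore_characteristic (G := G ⧸ Q) p
          apply Cfsg.Agent.H11.Cores.le_pPrimeCore
          rw [Cfsg.Agent.H11.Cores.card_comap_of_surjective _ (QuotientGroup.mk'_surjective Q), QuotientGroup.ker_mk']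
          exact Nat.Coprime.mul_left hQc (Cfsg.Agent.H11.Cores.pPrimeCore_coprime (G := G ⧸ Q) p)
        exact h3 h2
      · -- the proper subgroup `H = N_G(Q)`
        set H := normalizer (Q : Set G) with hHdef
        have hz := hmin H hxQ hH
        set K := (Cfsg.pPrimeCore p ↥H).map H.subtype with hK
        have hKH : K ≤ H := map_subtype_le _
        have hHK : H ≤ normalizer (K : Set G) :=
          le_normalizer.trans (Cfsg.Agent.H11.Cores.le_normalizer_map_subtype_of_characteristic _ _)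
        have hKc : (Nat.card K).Coprime p := by
          rw [hK, card_map_of_injective (subtype_injective _)]
          exact Cfsg.Agent.H11.Cores.pPrimeCore_coprime p
        obtain ⟨R, hR, hxR⟩ := inv_sylow (q := q) hxp hxQ hKH hHK hKc (by
          intro h hh
          have h1 := hz ⟨h, hh⟩
          have h2 : h * x * h⁻¹ * x⁻¹ ∈ K := ⟨_, h1, rfl⟩
          have h3 := K.inv_mem h2
          have e : (h * x * h⁻¹ * x⁻¹)⁻¹ = x * h * x⁻¹ * h⁻¹ := by group
          rwa [e] at h3)
        have hQR : Q ≤ R := by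
          obtain ⟨h, hh, hle⟩ := hR.exists_conj_le hQ (le_normalizer)
          rwa [cj_eq_of_mem_normalizer hh] at hle
        have hRQ : R = Q := hmax R hR.isPGroup hxR hQR
        have hQS : IsSylIn q Q ⊤ := by
          apply isSylIn_of_isSylIn_normalizer
          rw [top_inf_eq, ← hHdef, ← hRQ, hRQ]
          rwa [hRQ] at hR
        exact hQS.exists_sylow_top
  · intro S₁ S₂ h1 h2
    obtain ⟨h, hh⟩ := MulAction.exists_smul_eq G S₁ S₂
    have hcj : cj h (S₁ : Subgroup G) = (S₂ : Subgroup G) := by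
      rw [← hh]; rfl
    have hx2 : h⁻¹ * x * h⁻¹⁻¹ ∈ normalizer ((S₁ : Subgroup G) : Set G) := by
      rw [← hcj, ← cj_normalizer, mem_cj] at h2
      rwa [inv_inv]
    obtain ⟨k, hk, hkx⟩ := Cfsg.Agent.H18.Iso.exists_conj_in hxp' hiso h1 hx2
    refine ⟨h * k⁻¹, ?_, ?_⟩
    · apply mem_centralizer_singleton_iff.mpr
      have e : x = k * h⁻¹ * x * h * k⁻¹ := by
        conv_lhs => rw [← hkx]
        group
      calc h * k⁻¹ * x = h * k⁻¹ * (k * h⁻¹ * x * h * k⁻¹) := by rw [← e]
        _ = x * (h * k⁻¹) := by group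
    · change cj (h * k⁻¹) (S₁ : Subgroup G) = _
      rw [cj_mul, cj_eq_of_mem_normalizer (inv_mem hk), hcj]

end Cfsg.Agent.S2975
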