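import Mathlib
import Cfsg.Statements.S3017
import Cfsg.Agent.H2_EC5
import Cfsg.Agent.H4_Util

set_option autoImplicit false
open Cfsg

namespace Cfsg.Agent.S3017

open Cfsg.Agent.H2.EC

theorem sylow_of_selfnorm {X : Type*} [Group X] [Finite X] {K : Subgroup X} (hK : IsPGroup 2 K)
    (hN : ∀ x : X, (∀ k ∈ K, x * k * x⁻¹ ∈ K) → x ∈ K) : ∃ P : Sylow 2 X, (P : Subgroup X) = K := by
  obtain ⟨P, hP⟩ := hK.exists_le_sylow
  refine ⟨P, le_antisymm ?_ hP⟩
  by_contra hle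
  have hlt : K.subgroupOf (P : Subgroup X) < ⊤ := by
    rw [lt_top_iff_ne_top]
    intro h
    exact hle (Subgroup.subgroupOf_eq_top.1 h)
  haveI : Group.IsNilpotent ↥(P : Subgroup X) := P.isPGroup'.isNilpotent
  have h1 := Group.normalizerCondition_of_isNilpotent (G := ↥(P : Subgroup X)) _ hlt
  obtain ⟨x, hx, hx'⟩ := SetLike.exists_of_lt h1
  apply hx'
  show (x : X) ∈ K
  apply hN
  intro k hk
  exact (Subgroup.mem_normalizer_iff.1 hx ⟨k, hP hk⟩).1 hk

theorem SS_of_closed {G : Type*} [Group G] [Finite G] (H : Subgroup G) (hH2 : IsPGroup 2 H)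
    (hc : ∀ x ∈ H, ∀ y ∈ H, x * y = y * x) (hcl : Cfsg.IsExtremelyClosed H) : SS H := by
  intro g
  have h0 := hcl g
  set X : Subgroup G := H ⊔ H.map (MulAut.conj g).toMonoidHom with hX
  have hHX : H ≤ X := le_sup_left
  have hgX : ∀ h ∈ H, g * h * g⁻¹ ∈ X := fun h hh => Subgroup.mem_sup_right ⟨h, hh, rfl⟩
  obtain ⟨P, hP⟩ := sylow_of_selfnorm (X := ↥X) (K := H.subgroupOf X)
    (hH2.comap_of_injective X.subtype X.subtype_injective) (fun x hx => by
      have h1 : (x : G) ∈ X ⊓ Subgroup.normalizer (H : Set G) := by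
        refine ⟨x.2, ?_⟩
        apply Cfsg.Agent.H4.Util.mem_normalizer_of_forall
        intro y hy
        exact hx ⟨y, hHX hy⟩ hy
      rw [h0] at h1
      exact h1)
  have hPm : ∀ x : ↥X, x ∈ (P : Subgroup ↥X) ↔ (x : G) ∈ H := fun x => by
    rw [hP]; exact Iff.rfl
  have hPc : Subgroup.normalizer ((P : Subgroup ↥X) : Set ↥X) ≤ Subgroup.centralizer ((P : Subgroup ↥X) : Set ↥X) := by
    intro x hx
    have hxH : (x : G) ∈ H := by
      have h1 : (x : G) ∈ X ⊓ Subgroup.normalizer (H : Set G) := by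
        refine ⟨x.2, ?_⟩
        apply Cfsg.Agent.H4.Util.mem_normalizer_of_forall
        intro y hy
        exact (hPm _).1 ((Subgroup.mem_normalizer_iff.1 hx ⟨y, hHX hy⟩).1 ((hPm _).2 hy))
      rw [h0] at h1
      exact h1
    rw [Subgroup.mem_centralizer_iff]
    intro y hy
    exact Subtype.ext (hc _ ((hPm y).1 hy) _ hxH)
  obtain ⟨K, hK, hKodd, hKn⟩ : ∃ K : Subgroup ↥X, K.IsComplement' (P : Subgroup ↥X) ∧
      ¬ 2 ∣ Nat.card ↥K ∧ K.Normal :=
    ⟨(MonoidHom.transferSylow P hPc).ker, MonoidHom.ker_transferSylow_isComplement' P hPc,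
      MonoidHom.not_dvd_card_ker_transferSylow P hPc, MonoidHom.normal_ker _⟩
  obtain ⟨a, ha⟩ := Cfsg.Agent.H4.Util.exists_conj_le P
    ((H.map (MulAut.conj g).toMonoidHom).subgroupOf X)
    ((hH2.map _).comap_of_injective X.subtype X.subtype_injective)
  obtain ⟨⟨w, k⟩, hwk⟩ := (hK.existsUnique a⁻¹).exists
  have hwk' : (w : ↥X) * (k : ↥X) = a⁻¹ := hwk
  refine ⟨K.map X.subtype, ?_, ?_, ((w : ↥X) : G), ⟨w, w.2, rfl⟩, ?_⟩
  · rw [← Nat.card_congr (K.equivMapOfInjective X.subtype X.subtype_injective).toEquiv]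
    exact Nat.not_even_iff_odd.1 (fun h => hKodd (even_iff_two_dvd.1 h))
  · rintro h hh _ ⟨q, hq, rfl⟩
    exact ⟨⟨h, hHX hh⟩ * q * ⟨h, hHX hh⟩⁻¹, hKn.conj_mem q hq _, rfl⟩
  · intro h hh
    have h1 := ha ⟨g * h * g⁻¹, hgX h hh⟩ ⟨h, hh, rfl⟩
    have h2 : (w : ↥X)⁻¹ * ⟨g * h * g⁻¹, hgX h hh⟩ * (w : ↥X) =
        (k : ↥X) * (a * ⟨g * h * g⁻¹, hgX h hh⟩ * a⁻¹) * (k : ↥X)⁻¹ := by
      have h3 : (w : ↥X) = a⁻¹ * (k : ↥X)⁻¹ := by rw [← hwk']; group
      rw [h3]; group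
    have h3 : (w : ↥X)⁻¹ * ⟨g * h * g⁻¹, hgX h hh⟩ * (w : ↥X) ∈ (P : Subgroup ↥X) := by
      rw [h2]
      exact Subgroup.mul_mem _ (Subgroup.mul_mem _ k.2 h1) (Subgroup.inv_mem _ k.2)
    exact (hPm _).1 h3

/-- Let G be a finite group and H an abelian 2-subgroup of G that is extremely closed (for every g, the subgroup generated by H and g H g⁻¹ meets N_G(H) exactly in H). Then G = N_G(H) O(G), where O(G) is the largest normal subgroup of odd order. For H of order 2 this is Glauberman's Z*-statement. -/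
theorem result {G : Type*} [Group G] [Finite G] (H : Subgroup G) (hH2 : IsPGroup 2 H) (hHab : IsMulCommutative H) (hcl : Cfsg.IsExtremelyClosed H) : Subgroup.normalizer (H : Set G) ⊔ Cfsg.oddCore G = ⊤ := by
  have hc : ∀ x ∈ H, ∀ y ∈ H, x * y = y * x := by
    intro x hx y hy
    have h1 := hHab.is_comm.comm (⟨x, hx⟩ : ↥H) ⟨y, hy⟩
    exact congrArg Subtype.val h1
  exact thmB _ G rfl H hH2 hc (SS_of_closed H hH2 hc hcl)

end Cfsg.Agent.S3017
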