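import Cfsg.Statements.S3210
import Mathlib
import Cfsg.Agent.H19_SL2b
import Cfsg.Agent.H5_GL

set_option autoImplicit false
open Cfsg

namespace Cfsg.Agent.S3210

theorem card_SL2 {F : Type*} [Field F] [Fintype F] :
    Nat.card (Matrix.SpecialLinearGroup (Fin 2) F) = Fintype.card F * (Fintype.card F ^ 2 - 1) := by
  have h := H5.GL.card_SL (F := F) rfl 2 (by norm_num)
  rw [Fin.prod_univ_two] at h
  have hq : 2 ≤ Fintype.card F := Fintype.one_lt_card
  generalize Fintype.card F = q at h hq ⊢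
  obtain ⟨m, rfl⟩ : ∃ m, q = m + 1 := ⟨q - 1, by omega⟩
  have e1 : (m + 1) - 1 = m := by omega
  have e2 : (m + 1) ^ 2 - (m + 1) ^ ((0 : Fin 2) : ℕ) = m * (m + 2) := by
    have : (m + 1) ^ 2 = m * (m + 2) + 1 := by ring
    rw [this]; simp
  have e3 : (m + 1) ^ 2 - (m + 1) ^ ((1 : Fin 2) : ℕ) = m * (m + 1) := by
    have : (m + 1) ^ 2 = m * (m + 1) + (m + 1) := by ring
    rw [this]; simp
  have e4 : (m + 1) ^ 2 - 1 = m * (m + 2) := by
    have : (m + 1) ^ 2 = m * (m + 2) + 1 := by ring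
    rw [this]; simp
  rw [e1, e2, e3] at h
  rw [e4]
  have hm : 0 < m := by omega
  apply Nat.eq_of_mul_eq_mul_left hm
  rw [h]; ring

theorem card_field_eq {F : Type*} [Field F] [Fintype F] {K : Type*} [Field K] [Fintype K]
    (h : Nat.card (Matrix.SpecialLinearGroup (Fin 2) F) = Nat.card (Matrix.SpecialLinearGroup (Fin 2) K)) :
    Fintype.card F = Fintype.card K := by
  rw [card_SL2, card_SL2] at h
  have hq : 2 ≤ Fintype.card F := Fintype.one_lt_card
  have hr : 2 ≤ Fintype.card K := Fintype.one_lt_card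
  set q := Fintype.card F
  set r := Fintype.card K
  have key : ∀ a b : ℕ, 2 ≤ a → a < b → a * (a ^ 2 - 1) < b * (b ^ 2 - 1) := by
    intro a b ha hab
    have h1 : a ^ 2 - 1 ≤ b ^ 2 - 1 := Nat.sub_le_sub_right (Nat.pow_le_pow_left hab.le 2) 1
    have h2 : 0 < b ^ 2 - 1 := by
      have : 2 ^ 2 ≤ b ^ 2 := Nat.pow_le_pow_left (by omega) 2
      omega
    calc a * (a ^ 2 - 1) ≤ a * (b ^ 2 - 1) := Nat.mul_le_mul_left _ h1
      _ < b * (b ^ 2 - 1) := Nat.mul_lt_mul_of_pos_right hab h2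
  rcases lt_trichotomy q r with h1 | h1 | h1
  · have := key q r hq h1; omega
  · exact h1
  · have := key r q hr h1; omega

/-- Let G be a finite group with subgroups L₁ ≅ SL₂(q₁) and L₂ ≅ SL₂(q₂), q₁ and q₂ odd prime powers, which commute elementwise and meet in ⟨j⟩ for an involution j, and suppose L₁L₂ has index 2 in C_G(j). Then every element n of C_G(j) outside L₁L₂ either normalizes both L₁ and L₂, or conjugates L₁ onto L₂; in the second case q₁ = q₂ and there is an element n′ of C_G(j) outside L₁L₂ conjugating L₁ onto L₂ with n′² ∈ ⟨j⟩. -/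
theorem result {G : Type*} [Group G] [Finite G]
    {F₁ : Type*} [Field F₁] [Fintype F₁] {F₂ : Type*} [Field F₂] [Fintype F₂]
    (hF₁ : Odd (Fintype.card F₁)) (hF₂ : Odd (Fintype.card F₂)) (L₁ L₂ : Subgroup G)
    (e₁ : ↥L₁ ≃* Matrix.SpecialLinearGroup (Fin 2) F₁) (e₂ : ↥L₂ ≃* Matrix.SpecialLinearGroup (Fin 2) F₂)
    (hc : ∀ x ∈ L₁, ∀ y ∈ L₂, x * y = y * x) (j : G) (hj : orderOf j = 2) (hm : L₁ ⊓ L₂ = Subgroup.zpowers j)
    (hle : L₁ ⊔ L₂ ≤ Subgroup.centralizer ({j} : Set G)) (hi : (L₁ ⊔ L₂).relIndex (Subgroup.centralizer ({j} : Set G)) = 2) (n : G) (hn : n ∈ Subgroup.centralizer ({j} : Set G)) (hn' : n ∉ L₁ ⊔ L₂) :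
    (L₁.map (MulAut.conj n).toMonoidHom = L₁ ∧ L₂.map (MulAut.conj n).toMonoidHom = L₂) ∨
      (L₁.map (MulAut.conj n).toMonoidHom = L₂ ∧ Fintype.card F₁ = Fintype.card F₂ ∧
        ∃ n' ∈ Subgroup.centralizer ({j} : Set G), n' ∉ L₁ ⊔ L₂ ∧ L₁.map (MulAut.conj n').toMonoidHom = L₂ ∧ n' ^ 2 ∈ Subgroup.zpowers j) := by
  have hjm : j ∈ L₁ ⊓ L₂ := by rw [hm]; exact Subgroup.mem_zpowers j
  rw [Subgroup.mem_inf] at hjm
  have hjj : j * j = 1 := by rw [← sq, ← hj]; exact pow_orderOf_eq_one j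
  have h1 := H19.SL2b.likeIn hF₁ L₁ e₁ hj hjm.1
  have h2 := H19.SL2b.likeIn hF₂ L₂ e₂ hj hjm.2
  have hjmem : ∀ x, x ∈ L₁ → x ∈ L₂ → x = 1 ∨ x = j := by
    intro x hx hy
    have h3 : x ∈ L₁ ⊓ L₂ := Subgroup.mem_inf.2 ⟨hx, hy⟩
    rw [hm, Subgroup.mem_zpowers_iff] at h3
    obtain ⟨k, rfl⟩ := h3
    rcases Int.even_or_odd' k with ⟨m, hm | hm⟩
    · left; rw [hm, zpow_mul, zpow_ofNat, sq, hjj, one_zpow]
    · right; rw [hm, zpow_add, zpow_mul, zpow_ofNat, sq, hjj, one_zpow, one_mul, zpow_one]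
  have hP : H19.SL2b.Pair L₁ L₂ j := ⟨h1, h2, hc, hjmem⟩
  have hnj : n * j * n⁻¹ = j := by
    rw [Subgroup.mem_centralizer_singleton_iff] at hn
    rw [hn]; group
  have hQ := hP.conj hnj
  -- `H` is normalised by `n`
  set H := L₁ ⊔ L₂ with hH
  have hnor : (H.subgroupOf (Subgroup.centralizer ({j} : Set G))).Normal := Subgroup.normal_of_index_eq_two hi
  have hconj : ∀ m ∈ Subgroup.centralizer ({j} : Set G), ∀ x ∈ H, m * x * m⁻¹ ∈ H := by
    intro m hm' x hx
    have := hnor.conj_mem ⟨x, hle hx⟩ (Subgroup.mem_subgroupOf.2 hx) ⟨m, hm'⟩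
    exact Subgroup.mem_subgroupOf.1 this
  have hHM : H = L₁.map (MulAut.conj n).toMonoidHom ⊔ L₂.map (MulAut.conj n).toMonoidHom := by
    rw [← Subgroup.map_sup, ← hH]
    apply le_antisymm
    · intro x hx
      refine ⟨n⁻¹ * x * n, ?_, ?_⟩
      · have := hconj n⁻¹ (inv_mem hn) x hx
        rwa [inv_inv] at this
      · show n * (n⁻¹ * x * n) * n⁻¹ = x
        group
    · rintro _ ⟨x, hx, rfl⟩
      exact hconj n hn x hx
  have hnn : n * n ∈ H := by
    have := Subgroup.mul_self_mem_of_index_two hi ⟨n, hn⟩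
    exact Subgroup.mem_subgroupOf.1 this
  rcases hP.eq_or_swap hQ hHM with h3 | ⟨h3, h4⟩
  · exact Or.inl h3
  · right
    refine ⟨h3, ?_, ?_⟩
    · apply card_field_eq
      rw [← Nat.card_congr e₁.toEquiv, ← Nat.card_congr e₂.toEquiv, ← h3]
      exact (H13.Syl.card_cj n L₁).symm
    · obtain ⟨a, ha, b, hb, hab⟩ := hP.mem_sup.1 hnn
      have h5 : n * a * n⁻¹ ∈ L₂ := by rw [← h3]; exact ⟨a, ha, rfl⟩
      have h6 : n * b * n⁻¹ ∈ L₁ := by rw [← h4]; exact ⟨b, hb, rfl⟩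
      have h7 : (n * a * n⁻¹) * (n * b * n⁻¹) = a * b := by
        calc (n * a * n⁻¹) * (n * b * n⁻¹) = n * (a * b) * n⁻¹ := by group
          _ = n * (n * n) * n⁻¹ := by rw [hab]
          _ = n * n := by group
          _ = a * b := hab
      have h8 : a⁻¹ * (n * b * n⁻¹) = b * (n * a * n⁻¹)⁻¹ := by
        rw [← hc _ h6 _ h5] at h7
        calc a⁻¹ * (n * b * n⁻¹) = a⁻¹ * ((n * b * n⁻¹) * (n * a * n⁻¹)) * (n * a * n⁻¹)⁻¹ := by group
          _ = a⁻¹ * (a * b) * (n * a * n⁻¹)⁻¹ := by rw [h7]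
          _ = _ := by group
      have h9 := hjmem (a⁻¹ * (n * b * n⁻¹)) (mul_mem (inv_mem ha) h6) (by
        rw [h8]; exact mul_mem hb (inv_mem h5))
      set ε := a⁻¹ * (n * b * n⁻¹) with hε
      have hεj : ε ∈ Subgroup.zpowers j := by
        rcases h9 with h | h
        · rw [h]; exact one_mem _
        · rw [h]; exact Subgroup.mem_zpowers j
      have hεc : ∀ x ∈ L₂, ε * x = x * ε := by
        intro x hx
        rcases h9 with h | h
        · rw [h]; group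
        · rw [h]; exact (h2.cj x hx).symm
      have hacj : a ∈ Subgroup.centralizer ({j} : Set G) := hle (Subgroup.mem_sup_left ha)
      refine ⟨n * a⁻¹, mul_mem hn (inv_mem hacj), ?_, ?_, ?_⟩
      · intro h10
        apply hn'
        have : n = (n * a⁻¹) * a := by group
        rw [this]; exact mul_mem h10 (Subgroup.mem_sup_left ha)
      · rw [← h3]
        show H13.Syl.cj (n * a⁻¹) L₁ = H13.Syl.cj n L₁
        rw [H13.Syl.cj_mul, H13.Syl.cj_eq_of_mem (inv_mem ha)]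
      · -- n a⁻¹ n a⁻¹ = n² (n⁻¹ a⁻¹ n) a⁻¹
        have e1 : n⁻¹ * a⁻¹ * n = ε * b⁻¹ := by
          -- from ε = a⁻¹ n b n⁻¹
          have e2 : n⁻¹ * ε * n = ε := by
            rcases h9 with h | h
            · rw [h]; group
            · rw [h]
              calc n⁻¹ * j * n = n⁻¹ * (n * j * n⁻¹) * n := by rw [hnj]
                _ = j := by group
          calc n⁻¹ * a⁻¹ * n = (n⁻¹ * (a⁻¹ * (n * b * n⁻¹)) * n) * b⁻¹ := by group
            _ = ε * b⁻¹ := by rw [← hε, e2]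
        have e3 : (n * a⁻¹) ^ 2 = ε := by
          calc (n * a⁻¹) ^ 2 = (n * n) * (n⁻¹ * a⁻¹ * n) * a⁻¹ := by rw [sq]; group
            _ = (a * b) * (ε * b⁻¹) * a⁻¹ := by rw [e1, hab]
            _ = a * (b * ε) * b⁻¹ * a⁻¹ := by group
            _ = a * (ε * b) * b⁻¹ * a⁻¹ := by rw [hεc b hb]
            _ = a * ε * a⁻¹ := by group
            _ = ε := by
              rcases h9 with h | h
              · rw [h]; group
              · rw [h, h1.cj a ha]; group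
        rw [e3]; exact hεj

end Cfsg.Agent.S3210
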