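import Cfsg.Statements.S3179
import Mathlib
import Cfsg.Agent.H19_SL2
import Cfsg.Agent.S3210
import Cfsg.Agent.S1163
import Cfsg.Agent.S0280
import Cfsg.Agent.H3_Grp

set_option autoImplicit false
open Cfsg

namespace Cfsg.Agent.S3179

open Matrix

theorem card_GL5 : Nat.card (GL (Fin 5) (ZMod 2)) = 9999360 := by
  rw [Matrix.card_GL_field, ZMod.card]
  decide

/-- no element of order nine in `GL(5,2)` -/
theorem no_nine (g : GL (Fin 5) (ZMod 2)) : orderOf g ≠ 9 := by
  classical
  intro hg
  let W : Submodule (ZMod 2) (Fin 5 → ZMod 2) := LinearMap.ker (Matrix.toLin' ((g ^ 3 : GL (Fin 5) (ZMod 2)) : Matrix (Fin 5) (Fin 5) (ZMod 2)) - LinearMap.id)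
  have hW : ∀ v : Fin 5 → ZMod 2, v ∈ W ↔ (g ^ 3) • v = v := by
    intro v
    show v ∈ LinearMap.ker (Matrix.toLin' ((g ^ 3 : GL (Fin 5) (ZMod 2)) : Matrix (Fin 5) (Fin 5) (ZMod 2)) - LinearMap.id) ↔ _
    rw [LinearMap.mem_ker, LinearMap.sub_apply, sub_eq_zero]
    rfl
  have hWtop : W ≠ ⊤ := by
    intro h
    have h1 : g ^ 3 = 1 := by
      apply Units.ext
      apply Matrix.toLin'.injective
      apply LinearMap.ext
      intro v
      have : v ∈ W := by rw [h]; trivial
      have h2 := (hW v).1 this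
      show (g ^ 3) • v = _
      rw [h2]; simp
    have := orderOf_dvd_of_pow_eq_one h1
    rw [hg] at this
    revert this; decide
  -- the action on the complement
  let X := {v : Fin 5 → ZMod 2 // v ∉ W}
  have hstab : ∀ (a : Subgroup.zpowers g) (v : Fin 5 → ZMod 2), v ∉ W → a • v ∉ W := by
    intro a v hv hav
    apply hv
    rw [hW] at hav ⊢
    have hc : g ^ 3 * (a : GL (Fin 5) (ZMod 2)) = (a : GL (Fin 5) (ZMod 2)) * g ^ 3 := by
      obtain ⟨k, hk⟩ := Subgroup.mem_zpowers_iff.1 a.2
      rw [← hk]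
      exact (((Commute.refl g).pow_left 3).zpow_right k).eq
    have h1 : (a : GL (Fin 5) (ZMod 2)) • ((g ^ 3) • v) = (a : GL (Fin 5) (ZMod 2)) • v := by
      rw [smul_smul, ← hc, ← smul_smul]
      exact hav
    exact smul_left_cancel _ h1
  letI act : MulAction (Subgroup.zpowers g) X :=
    { smul := fun a v => ⟨a • (v : Fin 5 → ZMod 2), hstab a v v.2⟩
      one_smul := fun v => Subtype.ext (one_smul _ (v : Fin 5 → ZMod 2))
      mul_smul := fun a b v => Subtype.ext (mul_smul a b (v : Fin 5 → ZMod 2)) }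
  have h9 : 9 ∣ Nat.card X := by
    apply H3.Grp.dvd_card_of_stabilizer (N := Subgroup.zpowers g)
    intro x
    have hbot : MulAction.stabilizer (Subgroup.zpowers g) x = ⊥ := by
      rw [Subgroup.eq_bot_iff_forall]
      rintro ⟨a, ha⟩ hax
      rw [MulAction.mem_stabilizer_iff] at hax
      have hax' : a • (x : Fin 5 → ZMod 2) = x := congrArg Subtype.val hax
      apply Subtype.ext
      show a = 1
      by_contra ha1
      -- some power of a is g^3
      obtain ⟨k, hk⟩ : ∃ k : ℤ, g ^ 3 = a ^ k := by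
        obtain ⟨m, rfl⟩ := Subgroup.mem_zpowers_iff.1 ha
        -- m not divisible by 9; gcd(m, 9) ∣ 3
        have hm : ¬ (9 : ℤ) ∣ m := by
          intro h
          apply ha1
          rw [← orderOf_dvd_iff_zpow_eq_one, hg]
          exact_mod_cast h
        have hgcd : ∃ k l : ℤ, m * k + 9 * l = 3 := by
          have h1 : (Int.gcd m 9 : ℤ) ∣ 3 := by
            have h2 : Int.gcd m 9 ∣ 9 := Int.gcd_dvd_natAbs_right m 9
            have h3 : Int.gcd m 9 ≠ 9 := by
              intro h3
              apply hm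
              have := Int.gcd_dvd_left m 9
              rw [h3] at this; exact_mod_cast this
            have h4 : Int.gcd m 9 ≤ 9 := Nat.le_of_dvd (by norm_num) h2
            generalize Int.gcd m 9 = d at *
            interval_cases d <;> first | (exact absurd rfl h3) | (revert h2; decide) | norm_num
          obtain ⟨r, hr⟩ := h1
          refine ⟨Int.gcdA m 9 * r, Int.gcdB m 9 * r, ?_⟩
          have := Int.gcd_eq_gcd_ab m 9
          calc m * (Int.gcdA m 9 * r) + 9 * (Int.gcdB m 9 * r) = (m * Int.gcdA m 9 + 9 * Int.gcdB m 9) * r := by ring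
            _ = (Int.gcd m 9 : ℤ) * r := by rw [← this]
            _ = 3 := hr.symm
        obtain ⟨k, l, hkl⟩ := hgcd
        refine ⟨k, ?_⟩
        rw [← _root_.zpow_mul]
        have h9' : g ^ (9 : ℤ) = 1 := by
          have := pow_orderOf_eq_one g
          rw [hg] at this; exact_mod_cast this
        have : (3 : ℤ) = m * k + 9 * l := hkl.symm
        calc g ^ 3 = g ^ (3 : ℤ) := by norm_cast
          _ = g ^ (m * k) * (g ^ (9 : ℤ)) ^ l := by rw [this, _root_.zpow_add, _root_.zpow_mul g 9]
          _ = g ^ (m * k) := by rw [h9', _root_.one_zpow, mul_one]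
      have hfix : (g ^ 3) • (x : Fin 5 → ZMod 2) = x := by
        rw [hk]
        have : a ^ k ∈ MulAction.stabilizer (GL (Fin 5) (ZMod 2)) (x : Fin 5 → ZMod 2) :=
          zpow_mem (MulAction.mem_stabilizer_iff.2 hax') k
        exact this
      exact x.2 ((hW x).2 hfix)
    rw [hbot, Subgroup.index_bot, Nat.card_zpowers, hg]
  have hcX : Nat.card X = 32 - Nat.card W := by
    have h1 : Nat.card X = Nat.card (Fin 5 → ZMod 2) - Nat.card W := by
      rw [Nat.card_eq_fintype_card, Nat.card_eq_fintype_card, Nat.card_eq_fintype_card]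
      exact Fintype.card_subtype_compl (fun v => v ∈ W)
    rw [h1]
    congr 1
    rw [Nat.card_fun, Nat.card_zmod, Nat.card_eq_fintype_card, Fintype.card_fin]
    norm_num
  have hcW : Nat.card W = 2 ^ Module.finrank (ZMod 2) W := by
    haveI : Fintype W := Fintype.ofFinite _
    rw [Nat.card_eq_fintype_card, Module.card_eq_pow_finrank (K := ZMod 2), ZMod.card]
  have hlt : Module.finrank (ZMod 2) W < 5 := by
    have h1 := Submodule.finrank_lt hWtop
    rwa [Module.finrank_fin_fun] at h1
  rw [hcX, hcW] at h9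
  generalize Module.finrank (ZMod 2) W = d at *
  interval_cases d <;> revert h9 <;> decide

section
variable {F : Type*} [Field F] [Fintype F]
open H19.SL2

/-- an element of order nine in `SL₂(8)` -/
theorem exists_nine (hF : Fintype.card F = 8) : ∃ x : SpecialLinearGroup (Fin 2) F, orderOf x = 9 := by
  classical
  have hch : ringChar F = 2 := by
    apply FiniteField.even_card_iff_char_two.2
    rw [hF]
  have h2 : (2 : F) = 0 := by
    have := ringChar.Nat.cast_ringChar (R := F)
    rw [hch] at this; exact_mod_cast this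
  -- tau
  obtain ⟨τ, hτ⟩ : ∃ τ : F, τ ^ 3 + τ + 1 = 0 := by
    by_contra hcon
    push Not at hcon
    have hroot : ∀ a : F, a ≠ 0 → a ≠ 1 → a ^ 3 + a ^ 2 + 1 = 0 := by
      intro a ha ha1
      have h7 : a ^ 7 = 1 := by
        have := FiniteField.pow_card_sub_one_eq_one a ha
        rw [hF] at this; exact this
      have h8 : (a - 1) * ((a ^ 3 + a + 1) * (a ^ 3 + a ^ 2 + 1)) = 0 := by
        linear_combination h7 + (a ^ 4 - a ^ 3) * h2
      exact (mul_eq_zero.1 ((mul_eq_zero.1 h8).resolve_left (sub_ne_zero.2 ha1))).resolve_left (hcon a)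
    let P : Polynomial F := Polynomial.X ^ 3 + Polynomial.X ^ 2 + 1
    have hP : P.natDegree = 3 := by
      simp only [P]; compute_degree!
    have hP0 : P ≠ 0 := by
      intro h; rw [h] at hP; simp at hP
    have h3 : (Finset.univ \ {0, 1} : Finset F) ⊆ P.roots.toFinset := by
      intro a ha
      rw [Finset.mem_sdiff, Finset.mem_insert, Finset.mem_singleton, not_or] at ha
      rw [Multiset.mem_toFinset, Polynomial.mem_roots hP0, Polynomial.IsRoot.def]
      simp only [P, Polynomial.eval_add, Polynomial.eval_pow, Polynomial.eval_X, Polynomial.eval_one]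
      exact hroot a ha.2.1 ha.2.2
    have h4 := Finset.card_le_card h3
    have h5 : P.roots.toFinset.card ≤ 3 := by
      calc P.roots.toFinset.card ≤ Multiset.card P.roots := Multiset.toFinset_card_le _
        _ ≤ P.natDegree := Polynomial.card_roots' P
        _ = 3 := hP
    have h6 : (Finset.univ \ {0, 1} : Finset F).card = 6 := by
      rw [Finset.card_sdiff, Finset.inter_univ, Finset.card_univ, hF, Finset.card_pair zero_ne_one]
    omega
  let x : SpecialLinearGroup (Fin 2) F := mk2 0 (-1) 1 τ (by ring)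
  have hx2 : x * x = mk2 (-1) (-τ) τ (τ ^ 2 - 1) (by ring) := by
    obtain ⟨e1, e2, e3, e4⟩ := mk2_ap 0 (-1) 1 τ (by ring)
    obtain ⟨k1, k2, k3, k4⟩ := mk2_ap (-1) (-τ) τ (τ ^ 2 - 1) (by ring)
    rw [ext_iff', mul00, mul01, mul10, mul11]
    simp only [x, e1, e2, e3, e4, k1, k2, k3, k4]
    refine ⟨?_, ?_, ?_, ?_⟩ <;> ring
  have hx3 : x * x * x = mk2 (-τ) (1 - τ ^ 2) (τ ^ 2 - 1) (τ ^ 3 - 2 * τ) (by ring) := by
    rw [hx2]
    obtain ⟨e1, e2, e3, e4⟩ := mk2_ap 0 (-1) 1 τ (by ring)
    obtain ⟨k1, k2, k3, k4⟩ := mk2_ap (-1) (-τ) τ (τ ^ 2 - 1) (by ring)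
    obtain ⟨l1, l2, l3, l4⟩ := mk2_ap (-τ) (1 - τ ^ 2) (τ ^ 2 - 1) (τ ^ 3 - 2 * τ) (by ring)
    rw [ext_iff', mul00, mul01, mul10, mul11]
    simp only [x, e1, e2, e3, e4, k1, k2, k3, k4, l1, l2, l3, l4]
    refine ⟨?_, ?_, ?_, ?_⟩ <;> ring
  set y := x * x * x with hy
  have hyt : y 0 0 + y 1 1 = 1 := by
    rw [hx3]
    obtain ⟨l1, l2, l3, l4⟩ := mk2_ap (-τ) (1 - τ ^ 2) (τ ^ 2 - 1) (τ ^ 3 - 2 * τ) (by ring)
    rw [l1, l4]
    linear_combination hτ - (2 * τ + 1) * h2
  have hy3 : y * y * y = 1 := by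
    have hd := det_eq y
    obtain ⟨f0, f1, f2, f3⟩ := one_ap (F := F)
    have hb : y 1 1 = 1 - y 0 0 := by linear_combination hyt
    have hbc : y 0 1 * y 1 0 = y 0 0 * y 1 1 - 1 := by linear_combination -hd
    rw [hb] at hbc
    rw [ext_iff', f0, f1, f2, f3]
    simp only [mul00, mul01, mul10, mul11]
    rw [hb]
    generalize y 0 0 = a at *
    generalize y 0 1 = b at *
    generalize y 1 0 = c at *
    refine ⟨?_, ?_, ?_, ?_⟩
    · linear_combination (a + 1) * hbc - h2
    · linear_combination b * hbc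
    · linear_combination c * hbc
    · linear_combination (2 - a) * hbc - h2
  have hy1 : y ≠ 1 := by
    intro h
    rw [h] at hyt
    obtain ⟨f0, f1, f2, f3⟩ := one_ap (F := F)
    rw [f0, f3] at hyt
    have : (1 : F) = 0 := by linear_combination h2 - hyt
    exact one_ne_zero this
  refine ⟨x, ?_⟩
  have h9 : x ^ 9 = 1 := by
    calc x ^ 9 = y * y * y := by rw [hy]; simp only [pow_succ, pow_zero, one_mul, mul_assoc]
      _ = 1 := hy3
  have h3 : ¬ x ^ 3 = 1 := by
    intro h
    apply hy1
    rw [hy, ← h]; simp only [pow_succ, pow_zero, one_mul]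
  have := orderOf_eq_prime_pow (p := 3) (n := 1) (x := x) (by simpa using h3) (by simpa using h9)
  simpa using this

end
theorem center_bot (F : Type) [Field F] [Fintype F] {n : ℕ} (hF : Fintype.card F = 2 ^ n) (hn : n ≠ 0) :
    Subgroup.center (SpecialLinearGroup (Fin 2) F) = ⊥ := by
  rw [Subgroup.eq_bot_iff_forall]
  intro g hg
  rw [Matrix.SpecialLinearGroup.mem_center_iff] at hg
  obtain ⟨r, hr, hrg⟩ := hg
  have hch : ringChar F = 2 := by
    apply FiniteField.even_card_iff_char_two.2
    rw [hF]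
    obtain ⟨k, rfl⟩ := Nat.exists_eq_succ_of_ne_zero hn
    rw [pow_succ]; omega
  have h2 : (2 : F) = 0 := by
    have := ringChar.Nat.cast_ringChar (R := F)
    rw [hch] at this; exact_mod_cast this
  rw [Fintype.card_fin] at hr
  have hr1 : r = 1 := by
    have : (r - 1) ^ 2 = 0 := by linear_combination hr + (1 - r) * h2
    exact sub_eq_zero.1 (pow_eq_zero_iff (two_ne_zero)|>.1 this)
  apply Subtype.ext
  rw [← hrg, hr1]
  simp

/-- `PSL₂(2ⁿ) = SL₂(2ⁿ)` -/
noncomputable def quotBot (F : Type) [Field F] [Fintype F] {n : ℕ} (hF : Fintype.card F = 2 ^ n) (hn : n ≠ 0) :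
    SpecialLinearGroup (Fin 2) F ≃* Matrix.ProjectiveSpecialLinearGroup (Fin 2) F :=
  (QuotientGroup.quotientBot (G := SpecialLinearGroup (Fin 2) F)).symm.trans
    (QuotientGroup.quotientMulEquivOfEq (center_bot F hF hn).symm)


/-- Let X be a section of the general linear group GL(5, 2), that is, a quotient of a subgroup of it. If X is isomorphic to PSL(2, 2^n) for some n ≥ 2, to a Suzuki group over the field with 2^(2m+1) elements for some m ≥ 1, or to PSU(3, 2^n) for some n ≥ 2, then X is isomorphic to PSL(2, 4). -/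
theorem result {H : Subgroup (GL (Fin 5) (ZMod 2))}
    {K : Subgroup ↥H} [K.Normal]
    (hX : (∃ (n : ℕ) (F : Type) (_ : Field F) (_ : Fintype F), 2 ≤ n ∧ Fintype.card F = 2 ^ n ∧
        Nonempty (↥H ⧸ K ≃* Matrix.ProjectiveSpecialLinearGroup (Fin 2) F)) ∨
      (∃ (m : ℕ) (F : Type) (_ : Field F) (_ : Fintype F), 1 ≤ m ∧ Fintype.card F = 2 ^ (2 * m + 1) ∧
        Nonempty (↥H ⧸ K ≃* ↥(Cfsg.Lie.Sz F (2 ^ (m + 1))))) ∨
      (∃ (n : ℕ) (F : Type) (_ : Field F) (_ : Fintype F), 2 ≤ n ∧ Fintype.card F = 4 ^ n ∧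
        Nonempty (↥H ⧸ K ≃* Cfsg.PSU 3 F (2 ^ n)))) :
    ∃ (F : Type) (_ : Field F) (_ : Fintype F), Fintype.card F = 4 ∧
      Nonempty (↥H ⧸ K ≃* Matrix.ProjectiveSpecialLinearGroup (Fin 2) F) := by
    classical
    -- the order of the section divides
    have hdvd : Nat.card (↥H ⧸ K) ∣ 9999360 := by
      rw [← card_GL5]
      exact (Subgroup.card_quotient_dvd_card K).trans (Subgroup.card_subgroup_dvd_card H)
    rcases hX with ⟨n, F, _, _, hn, hF, ⟨e⟩⟩ | ⟨m, F, _, _, hm, hF, ⟨e⟩⟩ | ⟨n, F, _, _, hn, hF, ⟨e⟩⟩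
    · have hc : Nat.card (↥H ⧸ K) = 2 ^ n * ((2 ^ n) ^ 2 - 1) := by
        rw [Nat.card_congr e.toEquiv]
        rw [← hF, ← S3210.card_SL2 (F := F)]
        exact Nat.card_congr (quotBot F hF (by omega)).symm.toEquiv
      rw [hc] at hdvd
      have hn10 : n ≤ 10 := by
        have h1 : 2 ^ n ∣ 9999360 := (Dvd.intro _ rfl).trans hdvd
        by_contra hcon
        have h2 : 2 ^ 11 ∣ 2 ^ n := pow_dvd_pow 2 (by omega)
        have := h2.trans h1
        revert this; decide
      have hn23 : n = 2 ∨ n = 3 := by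
        interval_cases n
        · left; rfl
        · right; rfl
        all_goals (exfalso; revert hdvd; norm_num)
      rcases hn23 with rfl | rfl
      · exact ⟨F, inferInstance, inferInstance, by rw [hF]; norm_num, ⟨e⟩⟩
      · exfalso
        obtain ⟨x, hx⟩ := exists_nine (F := F) (by rw [hF]; norm_num)
        have hy : orderOf (e.symm ((quotBot F hF (by omega)) x)) = 9 := by
          rw [MulEquiv.orderOf_eq, MulEquiv.orderOf_eq, hx]
        obtain ⟨h, hh⟩ := QuotientGroup.mk_surjective (e.symm ((quotBot F hF (by omega)) x))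
        rw [← hh] at hy
        have h9 : 9 ∣ orderOf h := by
          rw [← hy]
          exact orderOf_map_dvd (QuotientGroup.mk' K) h
        obtain ⟨k, hk⟩ := h9
        have hk0 : k ≠ 0 := by
          rintro rfl
          exact (orderOf_pos h).ne' hk
        apply no_nine (((h ^ k : ↥H)) : GL (Fin 5) (ZMod 2))
        rw [Subgroup.orderOf_coe, orderOf_pow_of_dvd hk0 (by rw [hk]; exact Dvd.intro_left _ rfl), hk, Nat.mul_div_cancel _ (Nat.pos_of_ne_zero hk0)]
    · exfalso
      have hc := (S1163.result hm hF).1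
      rw [← Nat.card_congr e.toEquiv] at hc
      rw [hc] at hdvd
      have hm2 : m ≤ 2 := by
        have h1 : 2 ^ (2 * m + 1) ∣ 9999360 := by
          refine Dvd.dvd.trans ?_ hdvd
          rw [mul_assoc, pow_two, mul_assoc]
          exact Dvd.intro _ rfl
        have h1 : (2 ^ (2 * m + 1)) ^ 2 ∣ 9999360 := by
          refine Dvd.dvd.trans ?_ hdvd
          rw [mul_assoc]
          exact Dvd.intro _ rfl
        by_contra hcon
        have h2 : 2 ^ 11 ∣ (2 ^ (2 * m + 1)) ^ 2 := by
          rw [← pow_mul]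
          exact pow_dvd_pow 2 (by omega)
        have := h2.trans h1
        revert this; decide
      interval_cases m <;> (revert hdvd; norm_num)
    · exfalso
      have hc := S0280.result (F := F) (q := 2 ^ n) (by rw [hF, ← pow_mul, show 4 = 2 ^ 2 by norm_num, ← pow_mul, mul_comm]) 3 (by norm_num)
      rw [← Nat.card_congr e.toEquiv] at hc
      obtain ⟨N, hN⟩ : ∃ N, N = Nat.card (↥H ⧸ K) := ⟨_, rfl⟩
      rw [← hN] at hc hdvd
      simp only [Finset.prod_range_succ, Finset.prod_range_zero] at hc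
      norm_num at hc
      have hn3 : n ≤ 3 := by
        have h1 : (2 ^ n) ^ 3 ∣ Nat.gcd 3 (2 ^ n + 1) * ((2 ^ n + 1) * N) := by
          rw [hc]
          exact Dvd.intro _ rfl
        have hcop : Nat.Coprime ((2 ^ n) ^ 3) (Nat.gcd 3 (2 ^ n + 1)) := by
          apply Nat.Coprime.pow_left
          apply Nat.Coprime.pow_left
          apply Nat.Coprime.coprime_dvd_right (Nat.gcd_dvd_left _ _)
          norm_num
        have hcop2 : Nat.Coprime ((2 ^ n) ^ 3) (2 ^ n + 1) := by
          apply Nat.Coprime.pow_left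
          simp
        have h2 : (2 ^ n) ^ 3 ∣ N := hcop2.dvd_of_dvd_mul_left (hcop.dvd_of_dvd_mul_left h1)
        have h3 := h2.trans hdvd
        by_contra hcon
        have h2 : 2 ^ 11 ∣ (2 ^ n) ^ 3 := by
          rw [← pow_mul]
          exact pow_dvd_pow 2 (by omega)
        have := h2.trans h3
        revert this; decide
      have : n = 2 ∨ n = 3 := by omega
      rcases this with rfl | rfl
      · norm_num at hc
        have : N = 62400 := by omega
        rw [this] at hdvd
        revert hdvd; norm_num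
      · norm_num at hc
        have : N = 5515776 := by omega
        rw [this] at hdvd
        revert hdvd; norm_num

end Cfsg.Agent.S3179
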