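import Cfsg.Statements.S3331
import Cfsg.Agent.H19_FT14

set_option autoImplicit false
open Cfsg

namespace Cfsg.Agent.S3331


/-- Let G be a finite group containing a subgroup X of order 3 with C_G(X) = X. Then one of the following holds: G has a nilpotent normal subgroup N of order prime to 3 with G/N of order 3 or isomorphic to Sym(3); or G has an elementary abelian normal 2-subgroup N with G/N isomorphic to the alternating group of degree 5; or G is isomorphic to PSL(2,7). -/
theorem result {G : Type*} [Group G] [Finite G]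
    (X : Subgroup G) (hX : Nat.card X = 3) (hC : Subgroup.centralizer (X : Set G) = X) :
    (∃ (N : Subgroup G) (hN : N.Normal), Group.IsNilpotent N ∧ (Nat.card N).Coprime 3 ∧
        (Nat.card (G ⧸ N) = 3 ∨ Nonempty (G ⧸ N ≃* Equiv.Perm (Fin 3)))) ∨
    (∃ (N : Subgroup G) (hN : N.Normal), IsMulCommutative N ∧ (∀ n ∈ N, n ^ 2 = 1) ∧
        Nonempty (G ⧸ N ≃* alternatingGroup (Fin 5))) ∨
    Nonempty (G ≃* Matrix.ProjectiveSpecialLinearGroup (Fin 2) (ZMod 7)) := by
  haveI : Fact (Nat.Prime 3) := ⟨Nat.prime_three⟩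
  haveI : IsCyclic X := isCyclic_of_prime_card hX
  obtain ⟨⟨x, hx⟩, hgen⟩ := exists_zpow_surjective X
  have hz : Subgroup.zpowers x = X := by
    apply le_antisymm
    · rw [Subgroup.zpowers_le]; exact hx
    · intro k hk
      obtain ⟨n, hn⟩ := hgen ⟨k, hk⟩
      exact Subgroup.mem_zpowers_iff.2 ⟨n, congrArg Subtype.val hn⟩
  have hsc : Cfsg.Agent.H19.FT2.SC x := by
    refine ⟨by rw [← Nat.card_zpowers, hz, hX], fun g hg => ?_⟩
    rw [hz, ← hC, Subgroup.mem_centralizer_iff]
    intro k hk
    have hk' : k ∈ Subgroup.zpowers x := by rw [hz]; exact hk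
    obtain ⟨n, rfl⟩ := Subgroup.mem_zpowers_iff.1 hk'
    exact (hg.zpow_right n).eq.symm
  exact Cfsg.Agent.H19.FT14.main _ G rfl x hsc

end Cfsg.Agent.S3331
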