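import Cfsg.Statements.S3374
import Cfsg.Agent.H24_Zas18
import Cfsg.Agent.H24_FrobEx2
-- import your own Cfsg.Agent.* helpers here

set_option autoImplicit false
open Cfsg

namespace Cfsg.Agent.S3374

open Subgroup
open scoped commutatorElement

abbrev SL11 : Type := Matrix.SpecialLinearGroup (Fin 2) (ZMod 11)

def X : SL11 := ⟨!![0, 4; 8, 10], by decide⟩
def Y : SL11 := ⟨!![0, -1; 1, 7], by decide⟩
def Z : SL11 := ⟨!![-1, 0; 0, -1], by decide⟩

theorem X3 : X ^ 3 = 1 := by decide +kernel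
theorem Y5 : Y ^ 5 = 1 := by decide +kernel
theorem Z2 : Z ^ 2 = 1 := by decide +kernel
theorem ZX : Z * X = X * Z := by decide +kernel
theorem ZY : Z * Y = Y * Z := by decide +kernel
theorem XY : (X * Y) ^ 2 = Z := by decide +kernel
theorem Xne : X ≠ 1 := by decide +kernel

def K : Subgroup SL11 := closure {X, Y, Z}

theorem hX : X ∈ K := subset_closure (by simp)
theorem hY : Y ∈ K := subset_closure (by simp)
theorem hZ : Z ∈ K := subset_closure (by simp)

theorem gen : Subgroup.closure ({⟨X, hX⟩, ⟨Y, hY⟩, ⟨Z, hZ⟩} : Set K) = ⊤ := by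
  have h1 := Subgroup.closure_closure_coe_preimage (k := ({X, Y, Z} : Set SL11))
  suffices h2 : ({⟨X, hX⟩, ⟨Y, hY⟩, ⟨Z, hZ⟩} : Set K) = (Subtype.val : K → SL11) ⁻¹' ({X, Y, Z} : Set SL11) by
    rw [h2]; exact h1
  ext w
  simp only [Set.mem_insert_iff, Set.mem_singleton_iff, Set.mem_preimage]
  constructor
  · rintro (h | h | h)
    · left; rw [h]
    · right; left; rw [h]
    · right; right; rw [h]
  · rintro (h | h | h)
    · left; exact Subtype.ext h
    · right; left; exact Subtype.ext h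
    · right; right; exact Subtype.ext h

theorem card_dvd : Nat.card K ∣ 120 := by
  obtain ⟨e⟩ := H24.Zas.pres_SL25
  have hP : Nat.card (PresentedGroup H24.Zas.RR) = 120 := by
    rw [Nat.card_congr e.toEquiv, H24.Zas.card_SL25]
  have hrel : ∀ r ∈ H24.Zas.RR, FreeGroup.lift ![(⟨X, hX⟩ : K), ⟨Y, hY⟩, ⟨Z, hZ⟩] r = 1 := by
    intro r hr
    simp only [H24.Zas.RR, Set.mem_insert_iff, Set.mem_singleton_iff] at hr
    rcases hr with rfl | rfl | rfl | rfl | rfl | rfl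
    · rw [map_pow, FreeGroup.lift_apply_of]; exact Subtype.ext X3
    · rw [map_pow, FreeGroup.lift_apply_of]; exact Subtype.ext Y5
    · rw [map_pow, FreeGroup.lift_apply_of]; exact Subtype.ext Z2
    · simp only [map_mul, map_inv, FreeGroup.lift_apply_of]
      apply Subtype.ext
      change Z⁻¹ * X * Z * X⁻¹ = 1
      rw [mul_assoc Z⁻¹, ← ZX]; group
    · simp only [map_mul, map_inv, FreeGroup.lift_apply_of]
      apply Subtype.ext
      change Z⁻¹ * Y * Z * Y⁻¹ = 1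
      rw [mul_assoc Z⁻¹, ← ZY]; group
    · simp only [map_mul, map_inv, map_pow, FreeGroup.lift_apply_of]
      apply Subtype.ext
      change (X * Y) ^ 2 * Z⁻¹ = 1
      rw [XY, mul_inv_cancel]
  rw [← hP]
  apply Subgroup.card_dvd_of_surjective (PresentedGroup.toGroup hrel)
  rw [← MonoidHom.range_eq_top, eq_top_iff, ← gen, Subgroup.closure_le]
  intro w hw
  simp only [Set.mem_insert_iff, Set.mem_singleton_iff] at hw
  rcases hw with rfl | rfl | rfl
  · exact ⟨PresentedGroup.of 0, by rw [PresentedGroup.toGroup.of]; rfl⟩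
  · exact ⟨PresentedGroup.of 1, by rw [PresentedGroup.toGroup.of]; rfl⟩
  · exact ⟨PresentedGroup.of 2, by rw [PresentedGroup.toGroup.of]; rfl⟩

theorem perfect : commutator K = ⊤ := by
  let q := QuotientGroup.mk' (commutator K)
  have hc : ∀ a b : K, q a * q b = q b * q a := by
    intro a b
    rw [← map_mul, ← map_mul]
    apply QuotientGroup.eq.2
    have : (a * b)⁻¹ * (b * a) = ⁅b⁻¹, a⁻¹⁆ := by rw [commutatorElement_def]; group
    rw [this, _root_.commutator_def]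
    exact commutator_mem_commutator trivial trivial
  have hx3 : (q ⟨X, hX⟩) ^ 3 = 1 := by
    rw [← map_pow]
    have : (⟨X, hX⟩ : K) ^ 3 = 1 := Subtype.ext X3
    rw [this, map_one]
  have hy5 : (q ⟨Y, hY⟩) ^ 5 = 1 := by
    rw [← map_pow]
    have : (⟨Y, hY⟩ : K) ^ 5 = 1 := Subtype.ext Y5
    rw [this, map_one]
  have hz2 : (q ⟨Z, hZ⟩) ^ 2 = 1 := by
    rw [← map_pow]
    have : (⟨Z, hZ⟩ : K) ^ 2 = 1 := Subtype.ext Z2
    rw [this, map_one]
  have hxy : (q ⟨X, hX⟩ * q ⟨Y, hY⟩) ^ 2 = q ⟨Z, hZ⟩ := by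
    rw [← map_mul, ← map_pow]
    have : ((⟨X, hX⟩ : K) * ⟨Y, hY⟩) ^ 2 = ⟨Z, hZ⟩ := Subtype.ext XY
    rw [this]
  have hcom : Commute (q ⟨X, hX⟩) (q ⟨Y, hY⟩) := hc _ _
  have hxy4 : (q ⟨X, hX⟩) ^ 4 * (q ⟨Y, hY⟩) ^ 4 = 1 := by
    rw [← hcom.mul_pow]
    have : (q ⟨X, hX⟩ * q ⟨Y, hY⟩) ^ 4 = ((q ⟨X, hX⟩ * q ⟨Y, hY⟩) ^ 2) ^ 2 := by rw [← pow_mul]
    rw [this, hxy, hz2]
  have hx4 : (q ⟨X, hX⟩) ^ 4 = q ⟨X, hX⟩ := by rw [pow_succ, hx3, one_mul]
  have hy4 : (q ⟨Y, hY⟩) ^ 4 = (q ⟨Y, hY⟩)⁻¹ := by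
    rw [eq_inv_iff_mul_eq_one, ← pow_succ]; exact hy5
  have hxeq : q ⟨X, hX⟩ = q ⟨Y, hY⟩ := by
    rw [hx4, hy4] at hxy4
    exact mul_inv_eq_one.1 hxy4
  have hx1 : q ⟨X, hX⟩ = 1 := by
    rw [← hxeq] at hy5
    have h6 : (q ⟨X, hX⟩) ^ 6 = 1 := by
      have : (q ⟨X, hX⟩) ^ 6 = ((q ⟨X, hX⟩) ^ 3) ^ 2 := by rw [← pow_mul]
      rw [this, hx3, one_pow]
    rw [pow_succ, hy5, one_mul] at h6
    exact h6
  have hy1 : q ⟨Y, hY⟩ = 1 := by rw [← hxeq]; exact hx1
  have hz1 : q ⟨Z, hZ⟩ = 1 := by rw [← hxy, hx1, hy1, one_mul, one_pow]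
  rw [eq_top_iff, ← gen, closure_le]
  intro w hw
  simp only [Set.mem_insert_iff, Set.mem_singleton_iff] at hw
  rcases hw with rfl | rfl | rfl
  · exact (QuotientGroup.eq_one_iff _).1 hx1
  · exact (QuotientGroup.eq_one_iff _).1 hy1
  · exact (QuotientGroup.eq_one_iff _).1 hz1

/-- SL(2,5) occurs as a Frobenius complement: there is a finite group L with a subgroup H isomorphic to SL(2,5) which is a non-trivial proper subgroup meeting each conjugate gHg⁻¹ with g outside H trivially. -/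
theorem result :
    ∃ (L : Type) (_ : Group L) (_ : Finite L) (H : Subgroup L),
      Cfsg.IsFrobeniusComplement H ∧ Nonempty (H ≃* Matrix.SpecialLinearGroup (Fin 2) (ZMod 5)) := by
  haveI : Fact (Nat.Prime 11) := ⟨by norm_num⟩
  haveI : Nontrivial K := ⟨⟨⟨X, hX⟩, 1, fun h => Xne (congrArg Subtype.val h)⟩⟩
  let f : K →* Matrix (Fin 2) (Fin 2) (ZMod 11) :=
    { toFun := fun g => g.1.1
      map_one' := rfl
      map_mul' := fun _ _ => rfl }
  obtain ⟨L, h1, h2, H, h3, ⟨h4⟩, -⟩ := Cfsg.Agent.H24.FrobEx.exists_frob_module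
    (R := Matrix (Fin 2) (Fin 2) (ZMod 11)) (M := Matrix (Fin 2) (Fin 2) (ZMod 11)) (f.toHomUnits) (by
      intro A hA m hm
      rw [MonoidHom.coe_toHomUnits, smul_eq_mul] at hm
      have h5 : (f A - 1) * m = 0 := by rw [sub_mul, one_mul, hm, sub_self]
      have h6 : (f A - 1).det ≠ 0 := by
        intro h0
        apply hA
        have hd : A.1.1 0 0 * A.1.1 1 1 - A.1.1 0 1 * A.1.1 1 0 = 1 := by
          rw [← Matrix.det_fin_two]; exact A.1.2
        have ht : H18.Dickson.tr (A.1 : Cfsg.Agent.H5.SL2.S (ZMod 11)) = 2 := by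
          rw [Matrix.det_fin_two] at h0
          have e1 : (f A - 1) 0 0 = A.1.1 0 0 - 1 := by simp [f]
          have e2 : (f A - 1) 1 1 = A.1.1 1 1 - 1 := by simp [f]
          have e3 : (f A - 1) 0 1 = A.1.1 0 1 := by simp [f]
          have e4 : (f A - 1) 1 0 = A.1.1 1 0 := by simp [f]
          rw [e1, e2, e3, e4] at h0
          rw [H18.Dickson.tr]
          linear_combination hd - h0
        have hn : ((Nat.card K : ℕ) : ZMod 11) ≠ 0 := by
          intro h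
          rw [ZMod.natCast_eq_zero_iff] at h
          have := h.trans card_dvd
          omega
        have hp : (A.1 : Cfsg.Agent.H5.SL2.S (ZMod 11)) ^ (Nat.card K) = 1 := by
          have := pow_card_eq_one' (x := A)
          exact congrArg Subtype.val this
        exact Subtype.ext (H24.Zas.eq_one_of_tr_two ht hn hp)
      have h7 : (f A - 1).adjugate * ((f A - 1) * m) = 0 := by rw [h5, mul_zero]
      rw [← mul_assoc, Matrix.adjugate_mul, smul_mul_assoc, one_mul] at h7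
      exact (smul_eq_zero.mp h7).resolve_left h6)
  obtain ⟨𝕜, _, _, V, _, _, _, ρ, C⟩ := H24.Zas.exists_rep_FC (G := K) ⟨L, h1, h2, H, h3, ⟨h4⟩⟩
  obtain ⟨e⟩ := C.perfect perfect
  exact ⟨L, h1, h2, H, h3, ⟨h4.symm.trans e⟩⟩


end Cfsg.Agent.S3374
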