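import Cfsg.Statements.S3520
import Cfsg.Agent.H20_Affine

set_option autoImplicit false
open Cfsg

namespace Cfsg.Agent.S3520

open MulAction Cfsg.Agent.H20.MinNormal Cfsg.Agent.H20.Basic Cfsg.Agent.H20.Derange Cfsg.Agent.H20.Prim Cfsg.Agent.H20.Affine

/-- Let a finite group G act faithfully and primitively on a finite set Ω with at least two points, suppose G is not almost simple (no non-abelian simple normal subgroup with trivial centralizer), and suppose the derangements of G form exactly two conjugacy classes. Then either Ω has 3 points and G has order 3; or G has a non-trivial abelian normal subgroup N acting regularly, every non-identity element of G fixes at most one point (so, when n > 3, G is a Frobenius group with kernel N), the number n of points is odd and a point stabilizer has order (n − 1)/2; or G is 2-transitive with a non-trivial abelian regular normal subgroup and some non-identity element fixes at least two points (a non-Frobenius 2-transitive affine group). -/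
theorem result {G : Type*} [Group G] [Finite G] {Ω : Type*} [Fintype Ω] [MulAction G Ω] [FaithfulSMul G Ω] (hΩ : 2 ≤ Fintype.card Ω) (hprim : MulAction.IsPreprimitive G Ω) (hnas : ¬ ∃ T : Subgroup G, T.Normal ∧ IsSimpleGroup T ∧ ¬ IsMulCommutative T ∧ Subgroup.centralizer (T : Set G) = ⊥)
    (hκ : Nat.card {c : ConjClasses G // ∃ g : G, ConjClasses.mk g = c ∧ ∀ ω : Ω, g • ω ≠ ω} = 2) (α : Ω) :
    (Fintype.card Ω = 3 ∧ Nat.card G = 3) ∨
    ((∃ N : Subgroup G, N.Normal ∧ N ≠ ⊥ ∧ IsMulCommutative N ∧ ∀ ω : Ω, MulAction.stabilizer N ω = ⊥) ∧ (∀ g : G, g ≠ 1 → Nat.card (MulAction.fixedBy Ω g) ≤ 1) ∧ ¬ 2 ∣ Fintype.card Ω ∧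
        2 * Nat.card (MulAction.stabilizer G α) = Fintype.card Ω - 1) ∨
    ((∃ N : Subgroup G, N.Normal ∧ N ≠ ⊥ ∧ IsMulCommutative N ∧ ∀ ω : Ω, MulAction.stabilizer N ω = ⊥) ∧ MulAction.IsMultiplyPretransitive G Ω 2 ∧ ∃ g : G, g ≠ 1 ∧ 2 ≤ Nat.card (MulAction.fixedBy Ω g)) := by
  classical
  right
  have hΩ' : 2 ≤ Nat.card Ω := by rw [Nat.card_eq_fintype_card]; exact hΩ
  have hne : Nonempty Ω := ⟨α⟩
  have hnt : Nontrivial G := nontrivial_of_transitive (Ω := Ω) (fun x y => hprim.exists_smul_eq x y) hΩ'
  have hfin : Finite (DC G Ω) := finite_DC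
  rcases cases (G := G) (Ω := Ω) (normal_transitive hprim) with ⟨M, hM, hMne, hab, hreg⟩ | h | ⟨M, T, hM, hMne, hF, h⟩
  · have htr := normal_transitive hprim M hM hMne
    have hder : ∀ m ∈ M, m ≠ 1 → Der Ω m := fun m hm hm1 ω hω => hm1 (hreg m hm ω hω)
    obtain ⟨m0, hm0, hm01⟩ : ∃ x ∈ M, x ≠ 1 := by
      by_contra h
      push Not at h
      exact hMne ((Subgroup.eq_bot_iff_forall _).2 h)
    have hN : ∃ N : Subgroup G, N.Normal ∧ N ≠ ⊥ ∧ IsMulCommutative N ∧ ∀ ω : Ω, MulAction.stabilizer N ω = ⊥ := by
      refine ⟨M, hM, hMne, ⟨⟨fun a b => Subtype.ext (hab a a.2 b b.2)⟩⟩, fun ω => ?_⟩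
      rw [Subgroup.eq_bot_iff_forall]
      intro x hx
      exact Subtype.ext (hreg x x.2 ω hx)
    by_cases hfix : ∀ g : G, g ≠ 1 → ∀ a b : Ω, g • a = a → g • b = b → a = b
    · left
      have hcardM : Nat.card M = Nat.card Ω := by
        have h1 := card_stab_mul M (Ω := Ω) (fun x y => htr x y) α
        have h2 : M ⊓ stabilizer G α = ⊥ := by
          rw [Subgroup.eq_bot_iff_forall]
          rintro x ⟨hx1, hx2⟩
          exact hreg x hx1 α hx2
        rw [h2, Subgroup.card_bot, mul_one] at h1
        exact h1.symm
      have hcd := card_der (G := G) (Ω := Ω) (fun x y => hprim.exists_smul_eq x y) hfix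
      -- Der = M^#
      have hDM : ∀ d : G, Der Ω d → d ∈ M := by
        let f : {m : M // m ≠ 1} → {g : G // Der Ω g} := fun x => ⟨(x.1 : G), hder x.1 x.1.2 (fun hx => x.2 (Subtype.ext hx))⟩
        have hf : Function.Injective f := fun x y h => Subtype.ext (Subtype.ext (congrArg (fun z : {g : G // Der Ω g} => z.1) h))
        have hc : Nat.card {m : M // m ≠ 1} = Nat.card M - 1 := by
          have : Fintype M := Fintype.ofFinite M
          rw [Nat.card_eq_fintype_card, Nat.card_eq_fintype_card, Fintype.card_subtype_compl, Fintype.card_subtype_eq]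
        have hsurj := ((Nat.bijective_iff_injective_and_card f).2 ⟨hf, by omega⟩).2
        intro d hd
        obtain ⟨y, hy⟩ := hsurj ⟨d, hd⟩
        have h7 : (y.1 : G) = d := congrArg (fun z : {g : G // Der Ω g} => z.1) hy
        rw [← h7]
        exact y.1.2
      -- class sizes
      have hG : Nat.card G = Nat.card Ω * Nat.card (stabilizer G α) := by
        have h1 := card_stab_mul (⊤ : Subgroup G) (Ω := Ω) (fun x y => by
          obtain ⟨g, hg⟩ := hprim.exists_smul_eq x y
          exact ⟨g, trivial, hg⟩) α
        rw [top_inf_eq, Subgroup.card_top] at h1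
        exact h1.symm
      have hcl : ∀ d : G, Der Ω d → Nat.card {x : G // IsConj d x} = Nat.card (stabilizer G α) := by
        intro d hd
        have h1 := card_class_mul_card_centralizer d
        have h2 := card_centralizer_le hfix d hd
        have h3 : Nat.card M ≤ Nat.card (Subgroup.centralizer ({d} : Set G)) := by
          apply Subgroup.card_le_of_le
          intro m hm
          rw [Subgroup.mem_centralizer_singleton_iff]
          exact hab m hm d (hDM d hd)
        have h4 : Nat.card (Subgroup.centralizer ({d} : Set G)) = Nat.card Ω := by omega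
        rw [h4, hG, mul_comm] at h1
        exact Nat.eq_of_mul_eq_mul_left (by omega) h1
      have h2cl : 2 * Nat.card (MulAction.stabilizer G α) = Nat.card Ω - 1 := by
        -- two classes
        have hκ' : Nat.card (DC G Ω) = 2 := hκ
        have : Fintype (DC G Ω) := Fintype.ofFinite _
        rw [Nat.card_eq_fintype_card, ← Finset.card_univ, Finset.card_eq_two] at hκ'
        obtain ⟨⟨c1, d1, rfl, hd1⟩, ⟨c2, d2, rfl, hd2⟩, hne12, huniv⟩ := hκ'
        have hn12 : ¬ IsConj d1 d2 := by
          intro hc
          exact hne12 (Subtype.ext (ConjClasses.mk_eq_mk_iff_isConj.2 hc))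
        have hall : ∀ x : G, Der Ω x → IsConj d1 x ∨ IsConj d2 x := by
          intro x hx
          have h1 : (⟨ConjClasses.mk x, x, rfl, hx⟩ : DC G Ω) ∈ (Finset.univ : Finset (DC G Ω)) := Finset.mem_univ _
          rw [huniv] at h1
          simp only [Finset.mem_insert, Finset.mem_singleton, Subtype.mk.injEq, ConjClasses.mk_eq_mk_iff_isConj] at h1
          rcases h1 with h1 | h1
          · exact Or.inl h1.symm
          · exact Or.inr h1.symm
        have hconjDer : ∀ d x : G, Der Ω d → IsConj d x → Der Ω x := by
          intro d x hd hx ω hω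
          obtain ⟨c, hc⟩ := isConj_iff.1 hx
          apply hd (c⁻¹ • ω)
          rw [← hc, mul_smul, mul_smul] at hω
          rw [eq_inv_smul_iff, hω]
        have : Fintype G := Fintype.ofFinite G
        have hsum : Nat.card {g : G // Der Ω g} = Nat.card {x : G // IsConj d1 x} + Nat.card {x : G // IsConj d2 x} := by
          rw [Nat.card_eq_fintype_card, Nat.card_eq_fintype_card, Nat.card_eq_fintype_card, Fintype.card_subtype, Fintype.card_subtype, Fintype.card_subtype]
          rw [← Finset.card_union_of_disjoint]
          · congr 1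
            ext x
            simp only [Finset.mem_filter, Finset.mem_univ, true_and, Finset.mem_union]
            constructor
            · exact hall x
            · rintro (h | h)
              · exact hconjDer d1 x hd1 h
              · exact hconjDer d2 x hd2 h
          · rw [Finset.disjoint_left]
            intro x hx1 hx2
            simp only [Finset.mem_filter, Finset.mem_univ, true_and] at hx1 hx2
            exact hn12 (hx1.trans hx2.symm)
        rw [hcl d1 hd1, hcl d2 hd2] at hsum
        omega
      rw [Nat.card_eq_fintype_card (α := Ω)] at h2cl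
      refine ⟨hN, ?_, ?_, h2cl⟩
      · intro g hg
        rw [Finite.card_le_one_iff_subsingleton]
        exact ⟨fun x y => Subtype.ext (hfix g hg x y x.2 y.2)⟩
      · omega
    · right
      push Not at hfix
      obtain ⟨g, hg, a, b, hga, hgb, hab'⟩ := hfix
      refine ⟨hN, two_trans M htr hab ?_, g, hg, ?_⟩
      · obtain ⟨d, hd, hdM⟩ := exists_der_outside M hM htr hreg g hg a b hab' hga hgb
        intro m hm m' hm' h2 h3
        by_contra hc
        have h4 : ∀ m ∈ M, ¬ IsConj d m := by
          intro m hm hc
          obtain ⟨c, hc⟩ := isConj_iff.1 hc.symm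
          exact hdM (hc ▸ hM.conj_mem m hm c)
        have h5 := three_le_card_DC hd (hder m hm h2) (hder m' hm' h3) (h4 m hm) (h4 m' hm') hc
        have h6 : Nat.card (DC G Ω) = 2 := hκ
        omega
      · have : Nontrivial (fixedBy Ω g) := ⟨⟨a, hga⟩, ⟨b, hgb⟩, fun h => hab' (congrArg Subtype.val h)⟩
        exact Finite.one_lt_card
  · exact absurd h hnas
  · exfalso
    obtain ⟨d0, d1, d2, h0, h1', h2, h3, h4, h5⟩ := three_derangements (normal_transitive hprim) M T hM hMne hF h
    have := three_le_card_DC h0 h1' h2 h3 h4 h5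
    have h6 : Nat.card (DC G Ω) = 2 := hκ
    omega

end Cfsg.Agent.S3520
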