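import Cfsg.Statements.S3554
-- import your own Cfsg.Agent.* helpers here

set_option autoImplicit false
open Cfsg

namespace Cfsg.Agent.S3554



/-- Let G act faithfully and transitively on a finite set and suppose G has a non-trivial cyclic normal subgroup. Then some element of G of prime order fixes no point. -/
theorem result {G Ω : Type*} [Group G] [Finite G] [MulAction G Ω] [FaithfulSMul G Ω] [Finite Ω]
    (htrans : MulAction.IsPretransitive G Ω) (C : Subgroup G) (hC : C.Normal) (hC1 : C ≠ ⊥) (hcyc : IsCyclic ↥C) :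
    ∃ g : G, (orderOf g).Prime ∧ ∀ ω : Ω, g • ω ≠ ω := by
  classical
  obtain ⟨γ, hγ⟩ := hcyc.exists_generator
  have hcard : Nat.card C ≠ 1 := by
    intro h
    exact hC1 (Subgroup.card_eq_one.mp h)
  obtain ⟨p, hp, hpd⟩ := Nat.exists_prime_and_dvd hcard
  obtain ⟨m, hm⟩ := hpd
  have hordγ : orderOf γ = Nat.card C := orderOf_eq_card_of_forall_mem_zpowers hγ
  have hCpos : 0 < Nat.card C := Nat.card_pos
  have hmpos : m ≠ 0 := by rintro rfl; omega
  have hord : orderOf (γ ^ m) = p := by
    rw [orderOf_pow, hordγ, hm, Nat.gcd_eq_right (Dvd.intro_left p rfl), Nat.mul_div_cancel _ (Nat.pos_of_ne_zero hmpos)]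
  have hord' : orderOf ((γ ^ m : C) : G) = p := by rw [Subgroup.orderOf_coe, hord]
  refine ⟨((γ ^ m : C) : G), by rw [hord']; exact hp, ?_⟩
  intro ω hω
  have hall : ∀ ω' : Ω, ((γ ^ m : C) : G) • ω' = ω' := by
    intro ω'
    obtain ⟨g, hg⟩ := htrans.exists_smul_eq ω ω'
    -- conj
    have hconj : g⁻¹ * (γ : G) * g ∈ C := by
      have := hC.conj_mem (γ : G) γ.2 g⁻¹
      simpa using this
    obtain ⟨k, hk⟩ := Subgroup.mem_zpowers_iff.mp (hγ ⟨_, hconj⟩)
    have hk' : (γ : G) ^ k = g⁻¹ * (γ : G) * g := by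
      have := congrArg (Subtype.val) hk
      simpa using this
    have h1 : g⁻¹ * ((γ ^ m : C) : G) * g = (((γ ^ m : C) : G)) ^ k := by
      have e1 : g⁻¹ * ((γ ^ m : C) : G) * g = (g⁻¹ * (γ : G) * g) ^ m := by
        have := (conj_pow (a := g⁻¹) (b := (γ : G)) (i := m))
        rw [inv_inv] at this
        rw [this]; simp
      rw [e1, ← hk']
      simp only [SubmonoidClass.coe_pow]
      rw [← zpow_natCast, ← zpow_natCast, ← zpow_mul, ← zpow_mul, mul_comm]
    have h2 : (((γ ^ m : C) : G)) ^ k • ω = ω := by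
      have hmem : ((γ ^ m : C) : G) ∈ MulAction.stabilizer G ω := hω
      exact (MulAction.stabilizer G ω).zpow_mem hmem k
    rw [← h1] at h2
    rw [← hg]
    rw [mul_smul, mul_smul] at h2
    rw [inv_smul_eq_iff] at h2
    exact h2
  have h1 : ((γ ^ m : C) : G) = 1 := by
    apply FaithfulSMul.eq_of_smul_eq_smul (α := Ω)
    intro a; rw [hall a, one_smul]
  rw [h1, orderOf_one] at hord'
  exact hp.one_lt.ne hord'

end Cfsg.Agent.S3554
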