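import Cfsg.Statements.S3556
import Cfsg.Agent.H21_Derange
import Cfsg.Agent.H21_MinNorm

set_option autoImplicit false
open Cfsg

namespace Cfsg.Agent.S3556

open MulAction

theorem trans_of_normal {G Ω : Type*} [Group G] [MulAction G Ω] [FaithfulSMul G Ω]
    (hprim : IsPreprimitive G Ω) (N : Subgroup G) (hN : N.Normal) (hN1 : N ≠ ⊥) : IsPretransitive N Ω := by
  haveI := hprim
  haveI := hN
  refine IsQuasiPreprimitive.isPretransitive_of_normal (G := G) ?_
  intro h
  apply hN1
  rw [eq_bot_iff]
  intro n hn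
  rw [Subgroup.mem_bot]
  apply FaithfulSMul.eq_of_smul_eq_smul (α := Ω)
  intro a
  have : a ∈ fixedPoints N Ω := by rw [h]; trivial
  rw [one_smul]
  exact this ⟨n, hn⟩

/-- a proper subgroup `P` of finite `T` misses a conjugacy class -/
theorem exists_not_conj {T : Type*} [Group T] [Finite T] (P : Subgroup T) (hP : P ≠ ⊤) :
    ∃ d : T, ∀ t : T, t⁻¹ * d * t ∉ P := by
  by_contra hcon
  push Not at hcon
  have hD : H21.Derange.D T (T ⧸ P) = ⊥ := by
    rw [H21.Derange.D, Subgroup.closure_eq_bot_iff]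
    intro d hd
    exfalso
    obtain ⟨t, ht⟩ := hcon d
    apply hd (t : T ⧸ P)
    change ((d * t : T) : T ⧸ P) = (t : T ⧸ P)
    rw [eq_comm, QuotientGroup.eq]
    simpa [mul_assoc] using ht
  have h1 := H21.Derange.D_pretransitive (G := T) (Ω := T ⧸ P)
  rw [hD] at h1
  apply hP
  rw [eq_top_iff]
  intro t _
  obtain ⟨⟨g, hg⟩, hgt⟩ := h1.exists_smul_eq ((1 : T) : T ⧸ P) (t : T ⧸ P)
  rw [Subgroup.mem_bot] at hg
  subst hg
  have : ((1 : T) : T ⧸ P) = (t : T ⧸ P) := by
    rw [← hgt]
    change _ = (1 : T) • ((1 : T) : T ⧸ P)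
    rw [one_smul]
  rw [QuotientGroup.eq] at this
  simpa using this

theorem main {G Ω : Type*} [Group G] [Finite G] [MulAction G Ω] [FaithfulSMul G Ω] [Finite Ω]
    (hprim : MulAction.IsPreprimitive G Ω) (hΩ : 2 ≤ Nat.card Ω) (p : ℕ) (hp : p.Prime)
    (hder : ∀ g : G, (∀ ω : Ω, g • ω ≠ ω) → ∃ k : ℕ, orderOf g = p ^ k) :
    (∃ (N : Subgroup G) (r : ℕ), r.Prime ∧ N.Normal ∧ Cfsg.IsElementaryAbelian r N ∧
      MulAction.IsPretransitive N Ω ∧ ∀ a : Ω, MulAction.stabilizer N a = ⊥) ∨
    (∃ T : Subgroup G, T.Normal ∧ IsSimpleGroup ↥T ∧ ¬ IsMulCommutative ↥T ∧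
      Subgroup.centralizer (T : Set G) = ⊥) := by
  classical
  haveI := hprim
  haveI hntΩ : Nontrivial Ω := by
    rw [← Finite.one_lt_card_iff_nontrivial]; omega
  have htop : (⊤ : Subgroup G) ≠ ⊥ := by
    intro h
    obtain ⟨a, b, hab⟩ := hntΩ
    obtain ⟨g, hg⟩ := exists_smul_eq G a b
    have : g ∈ (⊥ : Subgroup G) := by rw [← h]; trivial
    rw [Subgroup.mem_bot] at this
    rw [this, one_smul] at hg
    exact hab hg
  obtain ⟨N, hN, hN1, -, hmin⟩ := H21.MinNorm.exists_minimal (K := (⊤ : Subgroup G)) inferInstance htop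
  have hNt := trans_of_normal hprim N hN hN1
  rcases H21.MinNorm.structure_weak hN hN1 hmin with hab | ⟨T, hMS, hTs, hTna, hsup, hdisj⟩
  · left
    obtain ⟨r, hr, hrN⟩ := H21.MinNorm.elementary_of_abelian hN hN1 hmin hab
    refine ⟨N, r, hr, hN, ⟨⟨⟨fun x y => Subtype.ext (hab x x.2 y y.2)⟩⟩, hrN⟩, hNt, ?_⟩
    intro a
    rw [eq_bot_iff]
    intro n hn
    rw [Subgroup.mem_bot]
    apply Subtype.ext
    apply FaithfulSMul.eq_of_smul_eq_smul (α := Ω)
    intro b
    obtain ⟨m, hm⟩ := exists_smul_eq N a b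
    have hm' : (m : G) • a = b := hm
    have hn' : (n : G) • a = a := hn
    change (n : G) • b = (1 : G) • b
    rw [one_smul, ← hm', ← mul_smul, hab n n.2 m m.2, mul_smul, hn']
  · right
    -- T is not a p-group
    have hTnp : ¬ IsPGroup p T := by
      intro hpg
      haveI : Fact p.Prime := ⟨hp⟩
      haveI := hTs.toNontrivial
      have hc := hpg.center_nontrivial
      obtain ⟨x, hx, y, hy, hxy⟩ := hTna
      rcases hTs.eq_bot_or_eq_top_of_normal (Subgroup.center T) inferInstance with h | h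
      · rw [Subgroup.nontrivial_iff_ne_bot] at hc
        exact hc h
      · apply hxy
        have : (⟨y, hy⟩ : T) ∈ Subgroup.center T := by rw [h]; trivial
        rw [Subgroup.mem_center_iff] at this
        exact congrArg Subtype.val (this ⟨x, hx⟩)
    -- an element of prime order r ≠ p in T
    have hexr : ∃ (r : ℕ) (t : G), r.Prime ∧ r ≠ p ∧ t ∈ T ∧ orderOf t = r := by
      have h1 : ∃ r : ℕ, r.Prime ∧ r ≠ p ∧ r ∣ Nat.card T := by
        by_contra hcon
        push Not at hcon
        apply hTnp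
        apply IsPGroup.of_card (n := (Nat.card T).factorization p)
        have hne : Nat.card T ≠ 0 := Nat.card_pos.ne'
        have := Nat.eq_prime_pow_of_unique_prime_dvd (n := Nat.card T) (p := p) hne (fun {d} hd hdd => by
          by_contra h; exact hcon d hd h hdd)
        rw [this]; simp [hp.factorization]
      obtain ⟨r, hr, hrp, hrd⟩ := h1
      haveI : Fact r.Prime := ⟨hr⟩
      obtain ⟨t, ht⟩ := exists_prime_orderOf_dvd_card' (G := T) r hrd
      exact ⟨r, t, hr, hrp, t.2, by rw [Subgroup.orderOf_coe, ht]⟩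
    obtain ⟨r, t₀, hr, hrp, ht₀T, ht₀⟩ := hexr
    have hnotpow : ∀ g : G, (∀ ω : Ω, g • ω ≠ ω) → ∀ m : ℕ, orderOf g = m → ¬ r ∣ m := by
      intro g hg m hm hrm
      obtain ⟨k, hk⟩ := hder g hg
      rw [← hm, hk] at hrm
      have := (Nat.prime_dvd_prime_iff_eq hr hp).mp (hr.dvd_of_dvd_pow hrm)
      exact hrp this
    have ht₀1 : t₀ ≠ 1 := by
      rintro rfl
      rw [orderOf_one] at ht₀
      exact hr.one_lt.ne ht₀
    -- T does not act semiregularly
    have hA : ∃ ω : Ω, ∃ t ∈ T, t ≠ 1 ∧ t • ω = ω := by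
      by_contra hcon
      push Not at hcon
      exact hnotpow t₀ (fun ω => hcon ω t₀ ht₀T ht₀1) r ht₀ (dvd_refl r)
    by_cases hall : ∀ g : G, H21.MinNorm.cj g T = T
    · have hNT : N = T := by
        rw [← hsup]
        apply le_antisymm
        · rw [iSup_le_iff]; intro g; rw [hall g]
        · have := le_iSup (fun g => H21.MinNorm.cj g T) 1
          rwa [hall 1] at this
      subst hNT
      refine ⟨N, hN, hTs, ?_, ?_⟩
      · intro hcomm
        obtain ⟨x, hx, y, hy, hxy⟩ := hTna
        apply hxy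
        exact congrArg Subtype.val (hcomm.is_comm.comm (⟨x, hx⟩ : N) ⟨y, hy⟩)
      · by_contra hC
        haveI := hN
        have hCn : (Subgroup.centralizer (N : Set G)).Normal := inferInstance
        have hCt := trans_of_normal hprim _ hCn hC
        obtain ⟨ω, t, htN, ht1, htω⟩ := hA
        apply ht1
        apply FaithfulSMul.eq_of_smul_eq_smul (α := Ω)
        intro b
        obtain ⟨c, hc⟩ := hCt.exists_smul_eq ω b
        have hc' : (c : G) • ω = b := hc
        have hcc := Subgroup.mem_centralizer_iff.mp c.2 t htN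
        rw [one_smul, ← hc', ← mul_smul, hcc, mul_smul, htω]
    · exfalso
      push Not at hall
      obtain ⟨g, hg⟩ := hall
      obtain ⟨hST, hScomm⟩ := hdisj g hg
      set S := H21.MinNorm.cj g T with hS
      -- y of order r in S
      set y := g * t₀ * g⁻¹ with hy
      have hyS : y ∈ S := H21.MinNorm.cj_mem ht₀T
      have hyord : orderOf y = r := by
        have : orderOf (g * t₀ * g⁻¹) = orderOf t₀ := by
          have := orderOf_injective (MulAut.conj g).toMonoidHom (MulEquiv.injective _) t₀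
          simpa using this
        rw [hy, this, ht₀]
      -- elements of N act on T as inner automorphisms of T
      let A : Subgroup G :=
        { carrier := {n | ∃ t ∈ T, ∀ s ∈ T, n * s * n⁻¹ = t * s * t⁻¹}
          mul_mem' := by
            rintro a b ⟨t, ht, hta⟩ ⟨u, hu, hub⟩
            refine ⟨t * u, T.mul_mem ht hu, ?_⟩
            intro s hs
            have h1 := hub s hs
            have h2 := hta (u * s * u⁻¹) (T.mul_mem (T.mul_mem hu hs) (T.inv_mem hu))
            calc a * b * s * (a * b)⁻¹ = a * (b * s * b⁻¹) * a⁻¹ := by group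
              _ = a * (u * s * u⁻¹) * a⁻¹ := by rw [h1]
              _ = t * (u * s * u⁻¹) * t⁻¹ := h2
              _ = t * u * s * (t * u)⁻¹ := by group
          one_mem' := ⟨1, T.one_mem, fun s _ => rfl⟩
          inv_mem' := by
            rintro a ⟨t, ht, hta⟩
            refine ⟨t⁻¹, T.inv_mem ht, ?_⟩
            intro s hs
            have h2 := hta (t⁻¹ * s * t) (T.mul_mem (T.mul_mem (T.inv_mem ht) hs) ht)
            have h3 : a * (t⁻¹ * s * t) * a⁻¹ = s := by rw [h2]; group
            calc a⁻¹ * s * a⁻¹⁻¹ = a⁻¹ * (a * (t⁻¹ * s * t) * a⁻¹) * a := by rw [h3]; group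
              _ = t⁻¹ * s * t⁻¹⁻¹ := by group }
      have hNA : N ≤ A := by
        rw [← hsup, iSup_le_iff]
        intro h x hx
        by_cases he : H21.MinNorm.cj h T = T
        · rw [he] at hx
          exact ⟨x, hx, fun s _ => rfl⟩
        · refine ⟨1, T.one_mem, ?_⟩
          intro s hs
          have := (hdisj h he).2 x hx s hs
          rw [this]; group
      by_cases hcase : ∀ ω : Ω, ∀ t ∈ T, ∃ m ∈ N, m • ω = ω ∧ ∀ s ∈ T, m * s * m⁻¹ = t * s * t⁻¹
      · -- T acts semiregularly
        obtain ⟨ω, t, htT, ht1, htω⟩ := hA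
        let K : Subgroup T := (stabilizer G ω).subgroupOf T
        have hK : K.Normal := by
          constructor
          intro k hk u
          rw [Subgroup.mem_subgroupOf] at hk ⊢
          obtain ⟨m, hmN, hmω, hm⟩ := hcase ω u u.2
          have h1 := hm k k.2
          have h2 : ((u * k * u⁻¹ : T) : G) = m * k * m⁻¹ := h1.symm
          rw [h2]
          exact (stabilizer G ω).mul_mem ((stabilizer G ω).mul_mem hmω hk) ((stabilizer G ω).inv_mem hmω)
        rcases hTs.eq_bot_or_eq_top_of_normal K hK with h | h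
        · have : (⟨t, htT⟩ : T) ∈ K := by rw [Subgroup.mem_subgroupOf]; exact htω
          rw [h, Subgroup.mem_bot] at this
          exact ht1 (congrArg Subtype.val this)
        · -- T fixes everything
          apply ht1
          apply FaithfulSMul.eq_of_smul_eq_smul (α := Ω)
          intro b
          obtain ⟨n, hn⟩ := hNt.exists_smul_eq ω b
          have hn' : (n : G) • ω = b := hn
          have hmem : (n : G)⁻¹ * t * n ∈ T := by
            have := hMS.1.2.2 (n : G)⁻¹ (N.inv_mem n.2) t htT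
            simpa using this
          have : (⟨(n : G)⁻¹ * t * n, hmem⟩ : T) ∈ K := by rw [h]; trivial
          rw [Subgroup.mem_subgroupOf] at this
          have h3 : ((n : G)⁻¹ * t * n) • ω = ω := this
          rw [one_smul, ← hn']
          rw [mul_smul, mul_smul, inv_smul_eq_iff] at h3
          exact h3
      · push Not at hcase
        obtain ⟨ω, t₁, ht₁, hno⟩ := hcase
        let P : Subgroup T :=
          { carrier := {t | ∃ m ∈ N, m • ω = ω ∧ ∀ s ∈ T, m * s * m⁻¹ = t * s * (t : G)⁻¹}
            mul_mem' := by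
              rintro a b ⟨m, hmN, hmω, hm⟩ ⟨n, hnN, hnω, hn⟩
              refine ⟨m * n, N.mul_mem hmN hnN, by rw [mul_smul, hnω, hmω], ?_⟩
              intro s hs
              have h1 := hn s hs
              have h2 := hm ((b : G) * s * (b : G)⁻¹) (T.mul_mem (T.mul_mem b.2 hs) (T.inv_mem b.2))
              calc m * n * s * (m * n)⁻¹ = m * (n * s * n⁻¹) * m⁻¹ := by group
                _ = m * ((b : G) * s * (b : G)⁻¹) * m⁻¹ := by rw [h1]
                _ = (a : G) * ((b : G) * s * (b : G)⁻¹) * (a : G)⁻¹ := h2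
                _ = ((a * b : T) : G) * s * ((a * b : T) : G)⁻¹ := by push_cast; group
            one_mem' := ⟨1, N.one_mem, one_smul _ _, fun s _ => rfl⟩
            inv_mem' := by
              rintro a ⟨m, hmN, hmω, hm⟩
              refine ⟨m⁻¹, N.inv_mem hmN, by rw [inv_smul_eq_iff, hmω], ?_⟩
              intro s hs
              have h2 := hm ((a : G)⁻¹ * s * a) (T.mul_mem (T.mul_mem (T.inv_mem a.2) hs) a.2)
              have h3 : m * ((a : G)⁻¹ * s * a) * m⁻¹ = s := by rw [h2]; group
              calc m⁻¹ * s * m⁻¹⁻¹ = m⁻¹ * (m * ((a : G)⁻¹ * s * a) * m⁻¹) * m := by rw [h3]; group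
                _ = ((a⁻¹ : T) : G) * s * ((a⁻¹ : T) : G)⁻¹ := by push_cast; group }
        have hP : P ≠ ⊤ := by
          intro h
          have : (⟨t₁, ht₁⟩ : T) ∈ P := by rw [h]; trivial
          obtain ⟨m, hmN, hmω, hm⟩ := this
          obtain ⟨s, hs, hs'⟩ := hno m hmN hmω
          exact hs' (hm s hs)
        obtain ⟨d, hd⟩ := exists_not_conj P hP
        have hdy : (d : G) * y = y * d := (hScomm y hyS d d.2).symm
        have hderang : ∀ ω' : Ω, ((d : G) * y) • ω' ≠ ω' := by
          intro ω' hω'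
          obtain ⟨n, hn⟩ := hNt.exists_smul_eq ω ω'
          have hn' : (n : G) • ω = ω' := hn
          obtain ⟨u, hu, hnu⟩ := hNA n.2
          apply hd ⟨u, hu⟩
          have hyN : y ∈ N := hN.conj_mem _ (hMS.1.1 ht₀T) g
          refine ⟨(n : G)⁻¹ * ((d : G) * y) * n, ?_, ?_, ?_⟩
          · exact N.mul_mem (N.mul_mem (N.inv_mem n.2) (N.mul_mem (hMS.1.1 d.2) hyN)) n.2
          · rw [mul_smul, mul_smul, hn', hω', inv_smul_eq_iff, hn']
          · intro s hs
            have h1 : (n : G) * s * (n : G)⁻¹ = u * s * u⁻¹ := hnu s hs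
            have husT : u * s * u⁻¹ ∈ T := T.mul_mem (T.mul_mem hu hs) (T.inv_mem hu)
            have h2 : y * (u * s * u⁻¹) * y⁻¹ = u * s * u⁻¹ := by
              rw [hScomm y hyS _ husT]; group
            set w := (d : G) * (u * s * u⁻¹) * (d : G)⁻¹ with hw
            have hwT : w ∈ T := T.mul_mem (T.mul_mem d.2 husT) (T.inv_mem d.2)
            -- n⁻¹ w n = u⁻¹ w u
            have h3 : (n : G)⁻¹ * w * n = u⁻¹ * w * u := by
              have h4 := hnu (u⁻¹ * w * u) (T.mul_mem (T.mul_mem (T.inv_mem hu) hwT) hu)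
              have h5 : (n : G) * (u⁻¹ * w * u) * (n : G)⁻¹ = w := by rw [h4]; group
              calc (n : G)⁻¹ * w * n = (n : G)⁻¹ * ((n : G) * (u⁻¹ * w * u) * (n : G)⁻¹) * n := by rw [h5]
                _ = u⁻¹ * w * u := by group
            calc (n : G)⁻¹ * ((d : G) * y) * n * s * ((n : G)⁻¹ * ((d : G) * y) * n)⁻¹
                = (n : G)⁻¹ * (d * (y * ((n : G) * s * (n : G)⁻¹) * y⁻¹) * (d : G)⁻¹) * n := by group
              _ = (n : G)⁻¹ * (d * (u * s * u⁻¹) * (d : G)⁻¹) * n := by rw [h1, h2]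
              _ = u⁻¹ * w * u := by rw [← hw, h3]
              _ = u⁻¹ * d * u * s * (u⁻¹ * d * u)⁻¹ := by rw [hw]; group
        obtain ⟨k, hk⟩ := hder _ hderang
        have hpow : ((d : G) * y) ^ (p ^ k) = 1 := by rw [← hk]; exact pow_orderOf_eq_one _
        have hcomm : Commute (d : G) y := hdy
        rw [hcomm.mul_pow] at hpow
        have hyT : y ^ (p ^ k) ∈ S ⊓ T := by
          refine ⟨S.pow_mem hyS _, ?_⟩
          have : y ^ (p ^ k) = ((d : G) ^ (p ^ k))⁻¹ := by
            rw [eq_comm, inv_eq_iff_mul_eq_one]; exact hpow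
          rw [this]
          exact T.inv_mem (T.pow_mem d.2 _)
        rw [hST, Subgroup.mem_bot] at hyT
        have := orderOf_dvd_of_pow_eq_one hyT
        rw [hyord] at this
        exact hrp ((Nat.prime_dvd_prime_iff_eq hr hp).mp (hr.dvd_of_dvd_pow this))

/-- Let G act faithfully and primitively on a finite set with at least two points, and suppose that for some fixed prime p every element of G fixing no point has order a power of p. Then G is of affine type (it has a regular normal subgroup that is an elementary abelian r-group for some prime r) or almost simple (it has a non-abelian simple normal subgroup with trivial centralizer). -/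
theorem result {G Ω : Type*} [Group G] [Finite G] [MulAction G Ω] [FaithfulSMul G Ω] [Finite Ω]
    (hprim : MulAction.IsPreprimitive G Ω) (hΩ : 2 ≤ Nat.card Ω) (p : ℕ) (hp : p.Prime)
    (hder : ∀ g : G, (∀ ω : Ω, g • ω ≠ ω) → ∃ k : ℕ, orderOf g = p ^ k) :
    (∃ (N : Subgroup G) (r : ℕ), r.Prime ∧ N.Normal ∧ Cfsg.IsElementaryAbelian r N ∧
      MulAction.IsPretransitive N Ω ∧ ∀ a : Ω, MulAction.stabilizer N a = ⊥) ∨
    (∃ T : Subgroup G, T.Normal ∧ IsSimpleGroup ↥T ∧ ¬ IsMulCommutative ↥T ∧
      Subgroup.centralizer (T : Set G) = ⊥) := by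
  exact main hprim hΩ p hp hder

end Cfsg.Agent.S3556
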