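import Cfsg.Statements.S3557
import Cfsg.Agent.H21_Prim
import Cfsg.Agent.H2_PGroup

set_option autoImplicit false
open Cfsg

namespace Cfsg.Agent.S3557

open MulAction H21.Prim

theorem pcore {P Ω : Type*} [Group P] [Finite P] [MulAction P Ω] [Finite Ω] (p : ℕ) [hp : Fact p.Prime]
    (hP : IsPGroup p P) (z : P) (hz : z ∈ Subgroup.center P) (x1 x2 : Ω)
    (h1 : (stabilizer P x1).index = p ^ 2) (h2 : (stabilizer P x2).index = p ^ 2) (hz2 : z • x2 ≠ x2) :
    ∃ g : P, (∀ a ∈ orbit P x1, g • a ≠ a ∧ g ^ p • a = a) ∧ ∀ b ∈ orbit P x2, ∃ c : ℤ, g • b = z ^ c • b := by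
  classical
  have hzc : ∀ g : P, g * z = z * g := fun g => Subgroup.mem_center_iff.mp hz g
  have hzn : (Subgroup.zpowers z).Normal := by
    constructor
    rintro _ ⟨k, rfl⟩ g
    refine ⟨k, ?_⟩
    have : Commute g (z ^ k) := (show Commute g z from hzc g).zpow_right k
    change z ^ k = g * z ^ k * g⁻¹
    rw [this.eq]; group
  set M : Subgroup P := stabilizer P x2 ⊔ Subgroup.zpowers z with hM
  have hMmem : ∀ m ∈ M, ∃ c : ℤ, m • x2 = z ^ c • x2 := by
    intro m hm
    rw [hM] at hm
    obtain ⟨s, hs, w, ⟨c, rfl⟩, rfl⟩ := Subgroup.mem_sup_of_normal_right.mp hm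
    refine ⟨c, ?_⟩
    have : Commute s (z ^ c) := (show Commute s z from hzc s).zpow_right c
    change (s * z ^ c) • x2 = _
    rw [this.eq, mul_smul]
    rw [mem_stabilizer_iff.mp hs]
  have hlt : stabilizer P x2 < M := by
    refine lt_of_le_of_ne le_sup_left ?_
    intro h
    apply hz2
    have : z ∈ M := Subgroup.mem_sup_right (Subgroup.mem_zpowers z)
    rw [← h] at this
    exact this
  have hMidx : M.index ∣ p := by
    have h3 : (stabilizer P x2).relIndex M * M.index = p ^ 2 := by
      rw [Subgroup.relIndex_mul_index hlt.le, h2]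
    have h4 : (stabilizer P x2).relIndex M ≠ 1 := by
      intro h
      rw [Subgroup.relIndex_eq_one] at h
      exact absurd h (not_le_of_gt hlt)
    obtain ⟨i, hi, hi'⟩ := (Nat.dvd_prime_pow hp.out).mp (⟨_, h3.symm⟩ : (stabilizer P x2).relIndex M ∣ p ^ 2)
    have hi0 : i ≠ 0 := by
      rintro rfl
      exact h4 (by rw [hi', pow_zero])
    rw [hi'] at h3
    obtain ⟨j, rfl⟩ := Nat.exists_eq_succ_of_ne_zero hi0
    have h5 : p ^ j * M.index = p := by
      have : p * (p ^ j * M.index) = p * p := by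
        rw [Nat.succ_eq_add_one, pow_succ] at h3
        calc p * (p ^ j * M.index) = p ^ j * p * M.index := by ring
          _ = p ^ 2 := h3
          _ = p * p := by ring
      exact Nat.eq_of_mul_eq_mul_left hp.out.pos this
    exact ⟨_, by rw [mul_comm]; exact h5.symm⟩
  have hMn : M.Normal := by
    rcases (Nat.dvd_prime hp.out).mp hMidx with h | h
    · rw [Subgroup.index_eq_one] at h
      rw [h]; infer_instance
    · exact H2.PGroup.normal_of_index_p hP h
  -- action on the first orbit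
  let φ : P →* Equiv.Perm (orbit P x1) := MulAction.toPermHom P (orbit P x1)
  have hφt : ∀ (g : P) (a : orbit P x1), φ g a = g • a := fun g a => rfl
  let N : Subgroup φ.range := M.map φ.rangeRestrict
  haveI hNn : N.Normal := hMn.map _ φ.rangeRestrict_surjective
  have hN : N ≠ ⊥ := by
    intro h
    have h3 : M ≤ stabilizer P x1 := by
      intro m hm
      have h4 : φ.rangeRestrict m ∈ N := ⟨m, hm, rfl⟩
      rw [h, Subgroup.mem_bot] at h4
      have h5 : φ m = 1 := congrArg Subtype.val h4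
      have h6 : φ m ⟨x1, mem_orbit_self x1⟩ = ⟨x1, mem_orbit_self x1⟩ := by rw [h5]; rfl
      exact congrArg Subtype.val h6
    have h4 := Subgroup.index_dvd_of_le h3
    rw [h1] at h4
    have h5 : p ^ 2 ∣ p := h4.trans hMidx
    have h6 := Nat.le_of_dvd hp.out.pos h5
    have h7 := hp.out.two_le
    nlinarith
  have hPr : IsPGroup p φ.range := hP.of_surjective φ.rangeRestrict φ.rangeRestrict_surjective
  have h3 := H2.PGroup.inf_center_ne_bot hPr hN
  -- element of order p
  have hnt : Nontrivial (N ⊓ Subgroup.center φ.range : Subgroup φ.range) := (Subgroup.nontrivial_iff_ne_bot _).mpr h3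
  have hpd : p ∣ Nat.card (N ⊓ Subgroup.center φ.range : Subgroup φ.range) := by
    obtain ⟨n, hn⟩ := (hPr.to_subgroup (N ⊓ Subgroup.center φ.range)).exists_card_eq
    rw [hn]
    apply dvd_pow_self
    rintro rfl
    rw [pow_zero] at hn
    have := Finite.one_lt_card (α := (N ⊓ Subgroup.center φ.range : Subgroup φ.range))
    omega
  obtain ⟨⟨w, hwN, hwc⟩, hwo⟩ := exists_prime_orderOf_dvd_card' p hpd
  have hw1 : w ≠ 1 := by
    rintro rfl
    have : (⟨1, ⟨hwN, hwc⟩⟩ : (N ⊓ Subgroup.center φ.range : Subgroup φ.range)) = 1 := rfl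
    rw [this, orderOf_one] at hwo
    exact hp.out.one_lt.ne hwo
  have hwp : w ^ p = 1 := by
    have h4 := pow_orderOf_eq_one (⟨w, ⟨hwN, hwc⟩⟩ : (N ⊓ Subgroup.center φ.range : Subgroup φ.range))
    rw [hwo] at h4
    exact congrArg Subtype.val h4
  obtain ⟨g, hgM, hgw⟩ := hwN
  have hgw' : φ g = w := congrArg Subtype.val hgw
  refine ⟨g, ?_, ?_⟩
  · intro a ha
    constructor
    · intro hga
      apply hw1
      apply Subtype.ext
      apply Equiv.ext
      rintro ⟨b, hb⟩
      obtain ⟨u, hu⟩ : ∃ u : P, u • a = b := by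
        obtain ⟨u1, rfl⟩ := ha
        obtain ⟨u2, rfl⟩ := hb
        refine ⟨u2 * u1⁻¹, ?_⟩
        change (u2 * u1⁻¹) • (u1 • x1) = u2 • x1
        rw [mul_smul, inv_smul_smul]
      have h5 : φ u * φ g = φ g * φ u := by
        have := Subgroup.mem_center_iff.mp hwc (φ.rangeRestrict u)
        have := congrArg Subtype.val this
        rw [hgw']
        exact this
      rw [← hgw']
      have h6 : φ g (φ u ⟨a, ha⟩) = φ u (φ g ⟨a, ha⟩) := by
        have := congrArg (fun σ : Equiv.Perm (orbit P x1) => σ ⟨a, ha⟩) h5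
        exact this.symm
      have h7 : φ g ⟨a, ha⟩ = ⟨a, ha⟩ := Subtype.ext hga
      have h8 : φ u ⟨a, ha⟩ = ⟨b, hb⟩ := Subtype.ext hu
      rw [h7, h8] at h6
      rw [h6]; rfl
    · have h4 : φ (g ^ p) = 1 := by
        rw [map_pow, hgw']
        have := congrArg Subtype.val hwp
        exact this
      have h5 : φ (g ^ p) ⟨a, ha⟩ = ⟨a, ha⟩ := by rw [h4]; rfl
      exact congrArg Subtype.val h5
  · rintro b ⟨u, rfl⟩
    obtain ⟨c, hc⟩ := hMmem _ (hMn.conj_mem g hgM u⁻¹)
    refine ⟨c, ?_⟩
    change g • u • x2 = z ^ c • u • x2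
    have h4 : Commute u (z ^ c) := (show Commute u z from hzc u).zpow_right c
    rw [← mul_smul (z ^ c) u, ← h4.eq, mul_smul, ← hc, ← mul_smul, ← mul_smul]
    congr 1
    group

theorem central_fix {P Ω : Type*} [Group P] [MulAction P Ω] {z : P} (hz : z ∈ Subgroup.center P) {a : Ω} (ha : z • a = a) :
    ∀ b ∈ orbit P a, z • b = b := by
  rintro _ ⟨g, rfl⟩
  have := Subgroup.mem_center_iff.mp hz g
  change z • g • a = g • a
  rw [← mul_smul, ← this, mul_smul, ha]

theorem main {G Ω : Type*} [Group G] [Finite G] [MulAction G Ω] [FaithfulSMul G Ω] [Finite Ω]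
    (htrans : MulAction.IsPretransitive G Ω) (p : ℕ) (hp : p.Prime) (hcard : Nat.card Ω = 2 * p ^ 2)
    (hcl : ∀ σ : Equiv.Perm Ω, (∀ a b : Ω, ∃ g : G, σ a = g • a ∧ σ b = g • b) → ∃ g : G, ∀ a : Ω, σ a = g • a) :
    ∃ g : G, (orderOf g).Prime ∧ ∀ ω : Ω, g • ω ≠ ω := by
  classical
  haveI : Fact p.Prime := ⟨hp⟩
  obtain ⟨P⟩ : Nonempty (Sylow p G) := inferInstance
  have hPp : IsPGroup p P := P.isPGroup'
  -- orbit sizes
  have hdvd : ∀ (x : Ω) (j : ℕ), p ^ j ∣ Nat.card Ω → p ^ j ∣ (stabilizer P x).index := by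
    intro x j hj
    obtain ⟨a, ha⟩ := (hPp.to_subgroup (stabilizer P x)).exists_card_eq
    have h1 : Nat.card (stabilizer P x) ∣ Nat.card (stabilizer G x) := by
      have h2 : Nat.card (stabilizer P x) = Nat.card ((stabilizer P x).map (P : Subgroup G).subtype) :=
        (Subgroup.card_map_of_injective (P : Subgroup G).subtype_injective).symm
      rw [h2]
      apply Subgroup.card_dvd_of_le
      rintro _ ⟨y, hy, rfl⟩
      exact hy
    have h3 : p ^ (j + a) ∣ Nat.card G := by
      rw [card_eq htrans x, pow_add, ← ha]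
      exact mul_dvd_mul hj h1
    have h4 : p ^ (j + a) ∣ Nat.card P := by
      rw [Sylow.card_eq_multiplicity]
      exact pow_dvd_pow p ((hp.pow_dvd_iff_le_factorization Nat.card_pos.ne').mp h3)
    rw [← Subgroup.index_mul_card (stabilizer P x), ha, pow_add] at h4
    exact Nat.dvd_of_mul_dvd_mul_right (pow_pos hp.pos _) h4
  have hidxpow : ∀ x : Ω, ∃ e, (stabilizer P x).index = p ^ e := fun x => hPp.index _
  have hidxcard : ∀ x : Ω, (stabilizer P x).index = Nat.card (orbit P x) := by
    intro x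
    rw [index_stabilizer, ← Nat.card_coe_set_eq]
  -- P nontrivial
  have hne : Nonempty Ω := by
    apply (Nat.card_pos_iff.mp _).1
    rw [hcard]; have := hp.pos; positivity
  obtain ⟨x0⟩ := hne
  have hPnt : Nontrivial P := by
    have h1 := hdvd x0 1 (by rw [hcard, pow_one]; exact Dvd.intro_left (2 * p) (by ring))
    rw [pow_one] at h1
    by_contra h
    rw [not_nontrivial_iff_subsingleton] at h
    have h2 : stabilizer P x0 = ⊤ := Subsingleton.elim _ _
    rw [h2, Subgroup.index_top] at h1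
    exact hp.one_lt.ne' (Nat.dvd_one.mp h1)
  haveI := hPp.center_nontrivial
  have hpc : p ∣ Nat.card (Subgroup.center P) := by
    obtain ⟨n, hn⟩ := (hPp.to_subgroup (Subgroup.center P)).exists_card_eq
    rw [hn]
    apply dvd_pow_self
    rintro rfl
    rw [pow_zero] at hn
    have := Finite.one_lt_card (α := Subgroup.center P)
    omega
  obtain ⟨⟨z, hz⟩, hzo⟩ := exists_prime_orderOf_dvd_card' p hpc
  have hzo' : orderOf z = p := (Subgroup.orderOf_mk z hz).symm.trans hzo
  have hzG : orderOf (z : G) = p := (Subgroup.orderOf_coe z).trans hzo'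
  have hz1 : (z : G) ≠ 1 := by
    intro h; rw [h, orderOf_one] at hzG; exact hp.one_lt.ne hzG
  by_cases hfpf : ∀ ω : Ω, (z : G) • ω ≠ ω
  · exact ⟨z, by rw [hzG]; exact hp, hfpf⟩
  push Not at hfpf
  obtain ⟨x1, hx1⟩ := hfpf
  have hx1' : z • x1 = x1 := hx1
  have hfix1 := central_fix hz hx1'
  have hlt : Nat.card (orbit P x1) < Nat.card Ω := by
    by_contra hcon
    have h1 : orbit P x1 = Set.univ := by
      apply Set.eq_of_subset_of_ncard_le (Set.subset_univ _) _ (Set.toFinite _)
      rw [Set.ncard_univ, ← Nat.card_coe_set_eq]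
      omega
    apply hz1
    apply FaithfulSMul.eq_of_smul_eq_smul (α := Ω)
    intro b
    rw [one_smul]
    exact hfix1 b (by rw [h1]; trivial)
  have hp2 : p ≠ 2 := by
    rintro rfl
    have h1 := hdvd x1 3 (by rw [hcard]; norm_num)
    rw [hidxcard] at h1
    have h2 := Nat.le_of_dvd (by rw [← hidxcard]; exact Nat.pos_of_ne_zero Subgroup.index_ne_zero_of_finite) h1
    rw [hcard] at hlt
    omega
  have hp3 : 3 ≤ p := by have := hp.two_le; omega
  have horb : ∀ x : Ω, (stabilizer P x).index = p ^ 2 := by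
    intro x
    have h1 := hdvd x 2 (by rw [hcard]; exact Dvd.intro_left _ rfl)
    obtain ⟨e, he⟩ := hidxpow x
    rw [he] at h1 ⊢
    have h2 : 2 ≤ e := (Nat.pow_dvd_pow_iff_le_right hp.one_lt).mp h1
    have h3 : p ^ e ≤ 2 * p ^ 2 := by
      rw [← he, hidxcard, ← hcard]
      exact Nat.card_le_card_of_injective Subtype.val Subtype.val_injective
    have h4 : e < 3 := by
      by_contra h5
      have h6 : p ^ 3 ≤ p ^ e := Nat.pow_le_pow_right hp.pos (by omega)
      have h7 : 2 * p ^ 2 < p ^ 3 := by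
        have : 0 < p ^ 2 := pow_pos hp.pos _
        calc 2 * p ^ 2 < p * p ^ 2 := by nlinarith
          _ = p ^ 3 := by ring
      omega
    have : e = 2 := by omega
    rw [this]
  obtain ⟨x2, hx2⟩ : ∃ x2, x2 ∉ orbit P x1 := by
    by_contra h
    push Not at h
    have h1 : orbit P x1 = Set.univ := Set.eq_univ_iff_forall.mpr h
    have h2 : Nat.card (orbit P x1) = Nat.card Ω := by rw [h1]; simp
    omega
  have hcover : ∀ x, x ∈ orbit P x1 ∨ x ∈ orbit P x2 := by
    have hd : Disjoint (orbit P x1) (orbit P x2) := by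
      rcases orbit.eq_or_disjoint (G := P) x1 x2 with h | h
      · exfalso; apply hx2; rw [h]; exact mem_orbit_self _
      · exact h
    have h1 : (orbit P x1 ∪ orbit P x2).ncard = Nat.card Ω := by
      rw [Set.ncard_union_eq hd (Set.toFinite _) (Set.toFinite _), ← Nat.card_coe_set_eq, ← Nat.card_coe_set_eq,
        ← hidxcard, ← hidxcard, horb, horb, hcard]; ring
    have h2 : orbit P x1 ∪ orbit P x2 = Set.univ := by
      apply Set.eq_of_subset_of_ncard_le (Set.subset_univ _) _ (Set.toFinite _)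
      rw [Set.ncard_univ, h1]
    intro x
    have : x ∈ orbit P x1 ∪ orbit P x2 := by rw [h2]; trivial
    exact this
  have hz2 : z • x2 ≠ x2 := by
    intro h
    have hfix2 := central_fix hz h
    apply hz1
    apply FaithfulSMul.eq_of_smul_eq_smul (α := Ω)
    intro b
    rw [one_smul]
    rcases hcover b with hb | hb
    · exact hfix1 b hb
    · exact hfix2 b hb
  have hz2' : ∀ b ∈ orbit P x2, z • b ≠ b := by
    intro b hb h
    have := central_fix hz h
    apply hz2
    apply this
    exact mem_orbit_symm.mp hb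
  obtain ⟨g, hg1, hg2⟩ := pcore p hPp z hz x1 x2 (horb x1) (horb x2) hz2
  have hsm : ∀ (u : P) (a : Ω), a ∈ orbit P x1 → u • a ∈ orbit P x1 := by
    rintro u _ ⟨v, rfl⟩
    exact ⟨u * v, mul_smul _ _ _⟩
  have hsm' : ∀ (u : P) (a : Ω), a ∉ orbit P x1 → u • a ∉ orbit P x1 := by
    intro u a ha h
    apply ha
    have := hsm u⁻¹ _ h
    rwa [inv_smul_smul] at this
  let σ : Equiv.Perm Ω :=
    { toFun := fun a => if a ∈ orbit P x1 then g • a else z • a
      invFun := fun a => if a ∈ orbit P x1 then g⁻¹ • a else z⁻¹ • a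
      left_inv := by
        intro a
        by_cases ha : a ∈ orbit P x1
        · simp only [if_pos ha, if_pos (hsm g a ha), inv_smul_smul]
        · simp only [if_neg ha, if_neg (hsm' z a ha), inv_smul_smul]
      right_inv := by
        intro a
        by_cases ha : a ∈ orbit P x1
        · simp only [if_pos ha, if_pos (hsm g⁻¹ a ha), smul_inv_smul]
        · simp only [if_neg ha, if_neg (hsm' z⁻¹ a ha), smul_inv_smul] }
  have hσ1 : ∀ a ∈ orbit P x1, σ a = g • a := fun a ha => if_pos ha
  have hσ2 : ∀ a, a ∉ orbit P x1 → σ a = z • a := fun a ha => if_neg ha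
  have hmixed : ∀ a b : Ω, a ∈ orbit P x1 → b ∉ orbit P x1 → ∃ h : P, g • a = h • a ∧ z • b = h • b := by
    intro a b ha hb
    have hb2 : b ∈ orbit P x2 := (hcover b).resolve_left hb
    obtain ⟨c, hc⟩ := hg2 b hb2
    have hzfix : ∀ k : ℤ, z ^ k • a = a := by
      intro k
      have h1 : z ∈ stabilizer P a := hfix1 a ha
      exact (stabilizer P a).zpow_mem h1 k
    have hcomm : Commute g (z ^ (1 - c)) := (show Commute g z from Subgroup.mem_center_iff.mp hz g).zpow_right _
    refine ⟨g * z ^ (1 - c), ?_, ?_⟩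
    · rw [mul_smul, hzfix]
    · rw [hcomm.eq, mul_smul, hc, ← mul_smul, ← zpow_add, sub_add_cancel, zpow_one]
  obtain ⟨h, hh⟩ := hcl σ (by
    intro a b
    by_cases ha : a ∈ orbit P x1
    · by_cases hb : b ∈ orbit P x1
      · exact ⟨g, hσ1 a ha, hσ1 b hb⟩
      · obtain ⟨h, h1, h2⟩ := hmixed a b ha hb
        refine ⟨h, ?_, ?_⟩
        · rw [hσ1 a ha]; exact h1
        · rw [hσ2 b hb]; exact h2
    · by_cases hb : b ∈ orbit P x1
      · obtain ⟨h, h1, h2⟩ := hmixed b a hb ha
        refine ⟨h, ?_, ?_⟩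
        · rw [hσ2 a ha]; exact h2
        · rw [hσ1 b hb]; exact h1
      · exact ⟨z, hσ2 a ha, hσ2 b hb⟩)
  have hhfpf : ∀ ω : Ω, h • ω ≠ ω := by
    intro ω
    rw [← hh ω]
    by_cases ha : ω ∈ orbit P x1
    · rw [hσ1 ω ha]; exact (hg1 ω ha).1
    · rw [hσ2 ω ha]; exact hz2' ω ((hcover ω).resolve_left ha)
  have hhp : h ^ p = 1 := by
    apply FaithfulSMul.eq_of_smul_eq_smul (α := Ω)
    intro ω
    rw [one_smul]
    by_cases ha : ω ∈ orbit P x1
    · have h1 : ∀ n : ℕ, h ^ n • ω = g ^ n • ω := by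
        intro n
        induction n with
        | zero => rw [pow_zero, pow_zero, one_smul, one_smul]
        | succ n ih =>
          rw [pow_succ', mul_smul, ih, ← hh, hσ1 _ (hsm (g ^ n) ω ha), pow_succ', mul_smul]
      rw [h1]
      exact (hg1 ω ha).2
    · have h1 : ∀ n : ℕ, h ^ n • ω = z ^ n • ω := by
        intro n
        induction n with
        | zero => rw [pow_zero, pow_zero, one_smul, one_smul]
        | succ n ih =>
          rw [pow_succ', mul_smul, ih, ← hh, hσ2 _ (hsm' (z ^ n) ω ha), pow_succ', mul_smul]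
      rw [h1]
      have h2 : z ^ p = 1 := orderOf_dvd_iff_pow_eq_one.mp (dvd_of_eq hzo')
      rw [h2, one_smul]
  have hh1 : h ≠ 1 := by
    rintro rfl
    exact hhfpf x0 (one_smul _ _)
  refine ⟨h, ?_, hhfpf⟩
  rw [orderOf_eq_prime hhp hh1]
  exact hp

/-- Let G act faithfully and transitively on a finite set with 2p² points, p a prime, and suppose G is 2-closed: every permutation of the set which, on each ordered pair of points, agrees with some element of G, is itself induced by an element of G. Then some element of G of prime order fixes no point. -/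
theorem result {G Ω : Type*} [Group G] [Finite G] [MulAction G Ω] [FaithfulSMul G Ω] [Finite Ω]
    (htrans : MulAction.IsPretransitive G Ω) (p : ℕ) (hp : p.Prime) (hcard : Nat.card Ω = 2 * p ^ 2)
    (hcl : ∀ σ : Equiv.Perm Ω, (∀ a b : Ω, ∃ g : G, σ a = g • a ∧ σ b = g • b) → ∃ g : G, ∀ a : Ω, σ a = g • a) :
    ∃ g : G, (orderOf g).Prime ∧ ∀ ω : Ω, g • ω ≠ ω := by
  exact main htrans p hp hcard hcl

end Cfsg.Agent.S3557
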