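import Cfsg.Statements.S3634
import Cfsg.Agent.H21_Frob

set_option autoImplicit false
open Cfsg

namespace Cfsg.Agent.S3634

open Subgroup H21.Frob

theorem main {G : Type*} [Group G] [Finite G] (K M : Subgroup G) [K.Normal] [M.Normal] (hKM : K ≤ M)
    (p q r : ℕ) (hp : p.Prime) (hq : q.Prime) (hr : r.Prime) (hpq : p ≠ q) (hpr : p ≠ r) (hqr : q ≠ r)
    (hpK : p ∣ Nat.card ↥K) (hqM : q ∣ K.relIndex M) (hrG : r ∣ M.index) :
    (∃ x : G, orderOf x = p * q) ∨ (∃ x : G, orderOf x = p * r) ∨ (∃ x : G, orderOf x = q * r) := by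
  classical
  by_contra hno
  push Not at hno
  obtain ⟨hno1, hno2, hno3⟩ := hno
  haveI : Fact p.Prime := ⟨hp⟩
  haveI : Fact q.Prime := ⟨hq⟩
  haveI : Fact r.Prime := ⟨hr⟩
  obtain ⟨P⟩ : Nonempty (Sylow p K) := inferInstance
  set P' : Subgroup G := (P : Subgroup K).map K.subtype with hP'
  set N : Subgroup G := normalizer (P' : Set G) with hN
  have hfr : N ⊔ K = ⊤ := Sylow.normalizer_sup_eq_top P
  have hP'p : IsPGroup p P' := P.isPGroup'.map _
  have hpP : P' ≠ ⊥ := by
    intro h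
    have h1 : p ∣ Nat.card P := P.dvd_card_of_dvd_card hpK
    have h2 : Nat.card P' = Nat.card P := Subgroup.card_map_of_injective K.subtype_injective
    rw [h, Subgroup.card_bot] at h2
    rw [← h2] at h1
    exact hp.one_lt.ne' (Nat.dvd_one.mp h1)
  -- V = center of P'
  set V : Subgroup G := P' ⊓ centralizer (P' : Set G) with hV
  have hVab : ∀ a ∈ V, ∀ b ∈ V, a * b = b * a := by
    intro a ha b hb
    exact (mem_centralizer_iff.mp ha.2 b hb.1).symm
  have hNV : N ≤ normalizer (V : Set G) := by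
    intro g hg
    rw [hN, mem_normalizer_iff] at hg
    have h1 : ∀ g : G, (∀ h, h ∈ P' ↔ g * h * g⁻¹ ∈ P') → ∀ v ∈ V, g * v * g⁻¹ ∈ V := by
      intro g hg v hv
      refine Subgroup.mem_inf.mpr ⟨(hg v).mp hv.1, mem_centralizer_iff.mpr ?_⟩
      intro w hw
      have h2 : g⁻¹ * w * g ∈ P' := by
        rw [hg]
        have : g * (g⁻¹ * w * g) * g⁻¹ = w := by group
        rw [this]; exact hw
      have h3 := mem_centralizer_iff.mp hv.2 _ h2
      calc w * (g * v * g⁻¹) = g * ((g⁻¹ * w * g) * v) * g⁻¹ := by group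
        _ = g * (v * (g⁻¹ * w * g)) * g⁻¹ := by rw [h3]
        _ = g * v * g⁻¹ * w := by group
    rw [mem_normalizer_iff]
    intro v
    constructor
    · exact h1 g hg v
    · intro hv
      have h2 := h1 g⁻¹ (fun h => by
        rw [hg (g⁻¹ * h * g⁻¹⁻¹)]
        have : g * (g⁻¹ * h * g⁻¹⁻¹) * g⁻¹ = h := by group
        rw [this]) _ hv
      have : g⁻¹ * (g * v * g⁻¹) * g⁻¹⁻¹ = v := by group
      rwa [this] at h2
  have hVne : V ≠ ⊥ := by
    haveI : Nontrivial P' := (Subgroup.nontrivial_iff_ne_bot _).mpr hpP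
    have h1 := hP'p.center_nontrivial
    obtain ⟨⟨z, hz⟩, hz1⟩ := exists_ne (1 : center P')
    intro h
    apply hz1
    have h2 : (z : G) ∈ V := by
      refine Subgroup.mem_inf.mpr ⟨z.2, mem_centralizer_iff.mpr ?_⟩
      intro w hw
      exact congrArg Subtype.val (mem_center_iff.mp hz ⟨w, hw⟩)
    rw [h, mem_bot] at h2
    exact Subtype.ext (Subtype.ext h2)
  have hVp : IsPGroup p V := hP'p.to_le inf_le_left
  -- Q
  let M' : Subgroup N := M.subgroupOf N
  obtain ⟨Q⟩ : Nonempty (Sylow q M') := inferInstance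
  have hfr2 : normalizer (((Q : Subgroup M').map M'.subtype : Subgroup N) : Set N) ⊔ M' = ⊤ := Sylow.normalizer_sup_eq_top Q
  set Q1 : Subgroup N := (Q : Subgroup M').map M'.subtype with hQ1
  set Q2 : Subgroup G := Q1.map N.subtype with hQ2
  set N2 : Subgroup G := (normalizer (Q1 : Set N)).map N.subtype with hN2
  have htop2 : N2 ⊔ M = ⊤ := by
    have h1 : N ≤ N2 ⊔ M := by
      intro x hx
      have h2 : (⟨x, hx⟩ : N) ∈ normalizer (Q1 : Set N) ⊔ M' := by rw [hfr2]; trivial
      obtain ⟨y, hy, z, hz, hyz⟩ := Subgroup.mem_sup_of_normal_right.mp h2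
      have h3 : x = (y : G) * z := congrArg Subtype.val hyz.symm
      rw [h3]
      exact Subgroup.mul_mem _ (Subgroup.mem_sup_left ⟨y, hy, rfl⟩) (Subgroup.mem_sup_right hz)
    rw [eq_top_iff, ← hfr]
    exact sup_le h1 (hKM.trans le_sup_right)
  have hrN2 : r ∣ Nat.card N2 := by
    have h1 : M.relIndex (N2 ⊔ M) = M.relIndex N2 := Subgroup.relIndex_sup_right _ _
    rw [htop2, relIndex_top_right] at h1
    rw [h1] at hrG
    exact hrG.trans (M.relIndex_dvd_card N2)
  have hqQ : q ∣ Nat.card Q2 := by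
    have h1 : K ⊔ (M ⊓ N) = M := by
      apply le_antisymm
      · exact sup_le hKM inf_le_left
      · intro m hm
        have h2 : m ∈ N ⊔ K := by rw [hfr]; trivial
        obtain ⟨y, hy, z, hz, rfl⟩ := Subgroup.mem_sup_of_normal_right.mp h2
        have hyM : y ∈ M := by
          have := M.mul_mem hm (M.inv_mem (hKM hz))
          simpa using this
        exact Subgroup.mul_mem _ (Subgroup.mem_sup_right ⟨hyM, hy⟩) (Subgroup.mem_sup_left hz)
    have h2 : K.relIndex ((M ⊓ N) ⊔ K) = K.relIndex (M ⊓ N) := Subgroup.relIndex_sup_right _ _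
    rw [sup_comm, h1] at h2
    rw [h2] at hqM
    have h3 : q ∣ Nat.card (M ⊓ N : Subgroup G) := hqM.trans (K.relIndex_dvd_card _)
    have h4 : Nat.card M' = Nat.card (M ⊓ N : Subgroup G) := by
      have h5 : (M ⊓ N : Subgroup G) = M'.map N.subtype := by
        rw [Subgroup.subgroupOf_map_subtype]
      rw [h5]
      exact (Subgroup.card_map_of_injective N.subtype_injective).symm
    rw [← h4] at h3
    have h6 := Q.dvd_card_of_dvd_card h3
    rw [hQ2, Subgroup.card_map_of_injective N.subtype_injective, hQ1, Subgroup.card_map_of_injective M'.subtype_injective]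
    exact h6
  have hQ2q : IsPGroup q Q2 := (Q.isPGroup'.map _).map _
  obtain ⟨⟨y, hyN2⟩, hyr⟩ := exists_prime_orderOf_dvd_card' (G := N2) r hrN2
  have hyr' : orderOf y = r := by rw [← hyr]; exact (Subgroup.orderOf_mk y hyN2).symm
  have hy1 : y ≠ 1 := by
    rintro rfl; rw [orderOf_one] at hyr'; exact hr.one_lt.ne hyr'
  have hyN : y ∈ N := by
    obtain ⟨w, _, rfl⟩ := hyN2; exact w.2
  have hyQ : ∀ u ∈ Q2, y * u * y⁻¹ ∈ Q2 := by
    obtain ⟨w, hw, rfl⟩ := hyN2
    rintro _ ⟨u, hu, rfl⟩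
    exact ⟨w * u * w⁻¹, (mem_normalizer_iff.mp hw u).mp hu, rfl⟩
  have hQ2N : Q2 ≤ N := by
    rintro _ ⟨u, hu, rfl⟩; exact u.2
  have hcop : (Nat.card Q2).Coprime (Nat.card V) := by
    obtain ⟨a, ha⟩ := hQ2q.exists_card_eq
    obtain ⟨b, hb⟩ := hVp.exists_card_eq
    rw [ha, hb]
    exact Nat.Coprime.pow _ _ ((Nat.coprime_primes hq hp).mpr hpq.symm)
  have hord : ∀ {l : ℕ} [hl : Fact l.Prime] {A : Subgroup G} (hA : IsPGroup l A) {a : G} (ha : a ∈ A) (ha1 : a ≠ 1), l ∣ orderOf a := by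
    intro l hl A hA a ha ha1
    obtain ⟨k, hk⟩ := (IsPGroup.iff_orderOf.mp hA) ⟨a, ha⟩
    rw [Subgroup.orderOf_mk] at hk
    rw [hk]
    apply dvd_pow_self
    rintro rfl
    rw [pow_zero, orderOf_eq_one_iff] at hk
    exact ha1 hk
  apply hVne
  apply frob_internal V Q2 hVab (hQ2N.trans hNV) y (hNV hyN) r hr.pos (by rw [← hyr']; exact pow_orderOf_eq_one y) hyQ
  · -- y^i fixed point free on Q2
    intro i hi hir u hu hux
    by_contra hu1
    have h1 : (y ^ i) * u = u * y ^ i := hux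
    have h2 : orderOf (y ^ i) = r := by
      apply orderOf_eq_prime
      · rw [← pow_mul, mul_comm, pow_mul, ← hyr', pow_orderOf_eq_one, one_pow]
      · intro h3
        have h4 := orderOf_dvd_of_pow_eq_one h3
        rw [hyr'] at h4
        exact absurd (Nat.le_of_dvd hi h4) (not_le.mpr hir)
    obtain ⟨z, hz⟩ := exists_orderOf_mul (x := u) (y := y ^ i) h1.symm hq hr hqr (hord hQ2q hu hu1) (by rw [h2])
    exact hno3 z hz
  · intro v hv hyv
    by_contra hv1
    have h1 : v * y = y * v := by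
      calc v * y = (y * v * y⁻¹) * y := by rw [hyv]
        _ = y * v := by group
    obtain ⟨z, hz⟩ := exists_orderOf_mul h1 hp hr hpr (hord hVp hv hv1) (by rw [hyr'])
    exact hno2 z hz
  · intro v hv hyv
    by_contra hv1
    obtain ⟨⟨u, hu⟩, huo⟩ := exists_prime_orderOf_dvd_card' (G := Q2) q hqQ
    have huo' : orderOf u = q := by rw [← huo]; exact (Subgroup.orderOf_mk u hu).symm
    have h1 : v * u = u * v := by
      calc v * u = (u * v * u⁻¹) * u := by rw [hyv u hu]
        _ = u * v := by group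
    obtain ⟨z, hz⟩ := exists_orderOf_mul h1 hp hq hpq (hord hVp hv hv1) (by rw [huo'])
    exact hno1 z hz
  · exact hcop

/-- Let G be a finite group with normal subgroups K ≤ M, and let p, q, r be distinct primes with p dividing the order of K, q dividing the order of M/K and r dividing the order of G/M. Then p, q, r are not pairwise non-adjacent in the prime graph of G: G has an element of order pq, pr or qr. -/
theorem result {G : Type*} [Group G] [Finite G] (K M : Subgroup G) [K.Normal] [M.Normal] (hKM : K ≤ M)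
    (p q r : ℕ) (hp : p.Prime) (hq : q.Prime) (hr : r.Prime) (hpq : p ≠ q) (hpr : p ≠ r) (hqr : q ≠ r)
    (hpK : p ∣ Nat.card ↥K) (hqM : q ∣ Nat.card ↥M / Nat.card ↥K) (hrG : r ∣ Nat.card G / Nat.card ↥M) :
    (∃ x : G, orderOf x = p * q) ∨ (∃ x : G, orderOf x = p * r) ∨ (∃ x : G, orderOf x = q * r) := by
  have h1 : Nat.card M / Nat.card K = K.relIndex M := by
    have h2 := Subgroup.card_mul_index (K.subgroupOf M)
    rw [Nat.card_congr (Subgroup.subgroupOfEquivOfLe hKM).toEquiv] at h2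
    rw [← h2]
    exact Nat.mul_div_cancel_left _ Nat.card_pos
  have h2 : Nat.card G / Nat.card M = M.index := by
    rw [← Subgroup.card_mul_index M]
    exact Nat.mul_div_cancel_left _ Nat.card_pos
  rw [h1] at hqM
  rw [h2] at hrG
  exact main K M hKM p q r hp hq hr hpq hpr hqr hpK hqM hrG

end Cfsg.Agent.S3634
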