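import Cfsg.Statements.S3633
import Cfsg.Agent.H21_Frob
import Cfsg.Agent.H21_MinNorm
import Cfsg.Agent.S3634

set_option autoImplicit false
open Cfsg

namespace Cfsg.Agent.S3633

open Subgroup H21.Frob

theorem chief_factor {G : Type*} [Group G] [Finite G] (L M : Subgroup G) [L.Normal] [M.Normal] (hLM : L < M)
    (hmax : ∀ X : Subgroup G, X.Normal → L ≤ X → X ≤ M → X = L ∨ X = M) (hM : Group.IsSolvable M) :
    ∃ l k : ℕ, l.Prime ∧ L.relIndex M = l ^ k := by
  classical
  set f := QuotientGroup.mk' L with hf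
  set Mb := M.map f with hMb
  have hsurj : Function.Surjective f := QuotientGroup.mk'_surjective L
  have hker : f.ker = L := QuotientGroup.ker_mk' L
  have hMbn : Mb.Normal := (inferInstance : M.Normal).map f hsurj
  have hMb1 : Mb ≠ ⊥ := by
    intro h
    rw [hMb, Subgroup.map_eq_bot_iff, hker] at h
    exact absurd h (not_le_of_gt hLM)
  have hmin : ∀ X : Subgroup (G ⧸ L), X.Normal → X ≤ Mb → X = ⊥ ∨ X = Mb := by
    intro X hX hXM
    have h1 : X.comap f = L ∨ X.comap f = M := by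
      apply hmax _ (hX.comap f)
      · exact hker.symm.le.trans (Subgroup.ker_le_comap f X)
      · intro x hx
        obtain ⟨m, hm, hmx⟩ := hXM hx
        have h2 : m⁻¹ * x ∈ L := by
          rw [← hker, MonoidHom.mem_ker, map_mul, map_inv, hmx, inv_mul_cancel]
        have := M.mul_mem hm (hLM.le h2)
        simpa using this
    have h2 : (X.comap f).map f = X := Subgroup.map_comap_eq_self_of_surjective hsurj X
    rcases h1 with h1 | h1
    · left
      rw [← h2, h1, Subgroup.map_eq_bot_iff, hker]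
    · right
      rw [← h2, h1]
  have hsol : Group.IsSolvable Mb := by
    have hs : Function.Surjective (f.subgroupMap M) := f.subgroupMap_surjective M
    exact solvable_of_surjective hs
  have hab : ∀ x ∈ Mb, ∀ y ∈ Mb, x * y = y * x := by
    have h1 : ⁅Mb, Mb⁆ < Mb := by
      haveI := hsol
      haveI : Nontrivial Mb := (Subgroup.nontrivial_iff_ne_bot _).mpr hMb1
      have h2 := Group.IsSolvable.commutator_lt_top_of_nontrivial Mb
      refine lt_of_le_of_ne (Subgroup.commutator_le_left _ _) ?_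
      intro h3
      apply h2.ne
      rw [eq_top_iff]
      have h4 : (commutator Mb).map Mb.subtype = ⁅Mb, Mb⁆ := by
        rw [_root_.commutator_def, Subgroup.map_commutator, ← MonoidHom.range_eq_map, Subgroup.range_subtype]
      intro x _
      have h5 : (x : G ⧸ L) ∈ (commutator Mb).map Mb.subtype := by
        rw [h4, h3]; exact x.2
      obtain ⟨y, hy, hyx⟩ := h5
      have : y = x := Subtype.ext hyx
      rwa [← this]
    rcases hmin ⁅Mb, Mb⁆ inferInstance h1.le with h2 | h2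
    · rw [Subgroup.commutator_eq_bot_iff_le_centralizer] at h2
      intro x hx y hy
      exact (Subgroup.mem_centralizer_iff.mp (h2 hx) y hy).symm
    · exact absurd h2 h1.ne
  obtain ⟨l, hl, hlx⟩ := H21.MinNorm.elementary_of_abelian hMbn hMb1 hmin hab
  haveI : Fact l.Prime := ⟨hl⟩
  have hlp : IsPGroup l Mb := by
    intro x
    refine ⟨1, ?_⟩
    rw [pow_one]
    exact Subtype.ext (by simpa using hlx x x.2)
  obtain ⟨k, hk⟩ := hlp.exists_card_eq
  refine ⟨l, k, hl, ?_⟩
  rw [← hk, hMb, ← Subgroup.relIndex_ker, hker]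

/-- minimal normal subgroup above `K` with order divisible by some prime in `π`. -/
theorem unique_prime {G : Type*} [Group G] [Finite G] (hG : Group.IsSolvable G) (K : Subgroup G) [hKn : K.Normal]
    (π : Finset ℕ) (hπ : ∀ r ∈ π, r.Prime) (hne : ∃ r ∈ π, r ∣ Nat.card G) (hK : ∀ r ∈ π, ¬ r ∣ Nat.card K) :
    ∃ M : Subgroup G, M.Normal ∧ K ≤ M ∧ ∃ p ∈ π, p ∣ Nat.card M ∧ ∀ q ∈ π, q ∣ Nat.card M → q = p := by
  classical
  have hex : ∃ n : ℕ, ∃ M : Subgroup G, (M.Normal ∧ K ≤ M ∧ ∃ p ∈ π, p ∣ Nat.card M) ∧ Nat.card M = n := by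
    obtain ⟨r, hr, hrG⟩ := hne
    exact ⟨_, ⊤, ⟨inferInstance, le_top, r, hr, by simpa using hrG⟩, rfl⟩
  obtain ⟨M, ⟨hMn, hKM, p, hp, hpM⟩, hMc⟩ := Nat.find_spec hex
  refine ⟨M, hMn, hKM, p, hp, hpM, ?_⟩
  have hMmin : ∀ X : Subgroup G, X.Normal → K ≤ X → X < M → ∀ r ∈ π, ¬ r ∣ Nat.card X := by
    intro X hX hKX hXM r hr hrX
    have h1 := Nat.find_min' hex ⟨X, ⟨hX, hKX, r, hr, hrX⟩, rfl⟩
    rw [← hMc] at h1
    have h2 := Subgroup.eq_of_le_of_card_ge hXM.le h1
    exact hXM.ne h2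
  have hKM' : K < M := lt_of_le_of_ne hKM (by rintro rfl; exact hK p hp hpM)
  -- maximal L
  obtain ⟨L, ⟨hLn, hKL, hLM⟩, hLmax⟩ := (Set.toFinite {L : Subgroup G | L.Normal ∧ K ≤ L ∧ L < M}).exists_maximal
    ⟨K, hKn, le_refl _, hKM'⟩
  have hmax : ∀ X : Subgroup G, X.Normal → L ≤ X → X ≤ M → X = L ∨ X = M := by
    intro X hX hLX hXM
    by_cases h : X = M
    · exact Or.inr h
    · left
      have h1 := hLmax ⟨hX, hKL.trans hLX, lt_of_le_of_ne hXM h⟩ hLX
      exact le_antisymm h1 hLX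
  haveI := hLn
  haveI := hMn
  haveI := hG
  obtain ⟨l, k, hl, hlk⟩ := chief_factor L M hLM hmax inferInstance
  have hall : ∀ q ∈ π, q ∣ Nat.card M → q = l := by
    intro q hq hqM
    have h1 : Nat.card L * L.relIndex M = Nat.card M := by
      have h1 := Subgroup.card_mul_index (L.subgroupOf M)
      rw [Nat.card_congr (Subgroup.subgroupOfEquivOfLe hLM.le).toEquiv] at h1
      exact h1
    rw [← h1] at hqM
    rcases (hπ q hq).dvd_mul.mp hqM with h2 | h2
    · exact absurd h2 (hMmin L hLn hKL hLM q hq)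
    · rw [hlk] at h2
      exact (Nat.prime_dvd_prime_iff_eq (hπ q hq) hl).mp ((hπ q hq).dvd_of_dvd_pow h2)
  intro q hq hqM
  rw [hall q hq hqM, hall p hp hpM]

theorem solv2 {G : Type*} [Group G] [Finite G] (hG : Group.IsSolvable G) (π : Finset ℕ)
    (hπ : ∀ r ∈ π, r.Prime ∧ r ∣ Nat.card G) (hna : ∀ r ∈ π, ∀ s ∈ π, r ≠ s → ¬ ∃ x : G, orderOf x = r * s) :
    π.card ≤ 2 := by
  classical
  by_contra hcon
  push Not at hcon
  have hne : π.Nonempty := by rw [← Finset.card_pos]; omega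
  obtain ⟨a, ha⟩ := hne
  obtain ⟨K, hKn, -, p, hp, hpK, hpu⟩ := unique_prime hG (⊥ : Subgroup G) π (fun r hr => (hπ r hr).1)
    ⟨a, ha, (hπ a ha).2⟩ (by
      intro r hr h
      rw [Subgroup.card_bot] at h
      exact (hπ r hr).1.one_lt.ne' (Nat.dvd_one.mp h))
  haveI := hKn
  have hne2 : (π.erase p).Nonempty := by
    rw [← Finset.card_pos, Finset.card_erase_of_mem hp]; omega
  obtain ⟨b, hb⟩ := hne2
  obtain ⟨M, hMn, hKM, q, hq, hqM, hqu⟩ := unique_prime hG K (π.erase p) (fun r hr => (hπ r (Finset.mem_of_mem_erase hr)).1)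
    ⟨b, hb, (hπ b (Finset.mem_of_mem_erase hb)).2⟩ (by
      intro r hr h
      exact (Finset.ne_of_mem_erase hr) (hpu r (Finset.mem_of_mem_erase hr) h))
  haveI := hMn
  have hne3 : ((π.erase p).erase q).Nonempty := by
    rw [← Finset.card_pos, Finset.card_erase_of_mem hq, Finset.card_erase_of_mem hp]; omega
  obtain ⟨r, hr⟩ := hne3
  have hrq : r ≠ q := Finset.ne_of_mem_erase hr
  have hr' := Finset.mem_of_mem_erase hr
  have hrp : r ≠ p := Finset.ne_of_mem_erase hr'
  have hrπ := Finset.mem_of_mem_erase hr'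
  have hqp : q ≠ p := Finset.ne_of_mem_erase hq
  have hqπ := Finset.mem_of_mem_erase hq
  have hqrel : q ∣ K.relIndex M := by
    have h1 : Nat.card K * K.relIndex M = Nat.card M := by
      have h1 := Subgroup.card_mul_index (K.subgroupOf M)
      rw [Nat.card_congr (Subgroup.subgroupOfEquivOfLe hKM).toEquiv] at h1
      exact h1
    rw [← h1] at hqM
    rcases (hπ q hqπ).1.dvd_mul.mp hqM with h2 | h2
    · exact absurd (hpu q hqπ h2) hqp
    · exact h2
  have hridx : r ∣ M.index := by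
    have h1 := (hπ r hrπ).2
    rw [← Subgroup.card_mul_index M] at h1
    rcases (hπ r hrπ).1.dvd_mul.mp h1 with h2 | h2
    · exact absurd (hqu r hr' h2) hrq
    · exact h2
  rcases S3634.main K M hKM p q r (hπ p hp).1 (hπ q hqπ).1 (hπ r hrπ).1 hqp.symm hrp.symm hrq.symm hpK hqrel hridx with h | h | h
  · exact hna p hp q hqπ hqp.symm h
  · exact hna p hp r hrπ hrp.symm h
  · exact hna q hqπ r hrπ hrq.symm h

theorem sup_solvable {G : Type*} [Group G] [Finite G] (K T : Subgroup G) [K.Normal] (hK : Group.IsSolvable K)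
    (t : ℕ) [Fact t.Prime] (hT : IsPGroup t T) : Group.IsSolvable (K ⊔ T : Subgroup G) := by
  let f : K →* (K ⊔ T : Subgroup G) := Subgroup.inclusion le_sup_left
  have hTb : IsPGroup t (T.map (QuotientGroup.mk' K)) := hT.map _
  haveI : Group.IsNilpotent (T.map (QuotientGroup.mk' K)) := hTb.isNilpotent
  have hmem : ∀ x : (K ⊔ T : Subgroup G), (QuotientGroup.mk' K) x ∈ T.map (QuotientGroup.mk' K) := by
    rintro ⟨x, hx⟩
    obtain ⟨k, hk, s, hs, rfl⟩ := Subgroup.mem_sup_of_normal_left.mp hx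
    refine ⟨s, hs, ?_⟩
    rw [map_mul]
    have : (QuotientGroup.mk' K) k = 1 := by
      rw [← MonoidHom.mem_ker, QuotientGroup.ker_mk']; exact hk
    rw [this, one_mul]
  let g : (K ⊔ T : Subgroup G) →* T.map (QuotientGroup.mk' K) :=
    ((QuotientGroup.mk' K).comp (K ⊔ T : Subgroup G).subtype).codRestrict _ hmem
  apply solvable_of_ker_le_range f g
  intro x hx
  have h1 : (QuotientGroup.mk' K) (x : G) = 1 := congrArg Subtype.val hx
  rw [← MonoidHom.mem_ker, QuotientGroup.ker_mk'] at h1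
  exact ⟨⟨x, h1⟩, rfl⟩

theorem main {G : Type*} [Group G] [Finite G] (ρ : Finset ℕ) (hρ : 3 ≤ ρ.card) (hc : ((∀ r ∈ ρ, r.Prime ∧ r ∣ Nat.card G) ∧ (∀ r ∈ ρ, ∀ s ∈ ρ, r ≠ s → ¬ ∃ x : G, orderOf x = r * s)))
    (K : Subgroup G) [K.Normal] (hK : Group.IsSolvable ↥K) :
    (∀ r ∈ ρ, ∀ s ∈ ρ, r ∣ Nat.card ↥K → s ∣ Nat.card ↥K → r = s) := by
  classical
  intro r hr s hs hrK hsK
  by_contra hrs
  obtain ⟨t, ht⟩ : ((ρ.erase r).erase s).Nonempty := by
    rw [← Finset.card_pos, Finset.card_erase_of_mem (Finset.mem_erase.mpr ⟨Ne.symm hrs, hs⟩), Finset.card_erase_of_mem hr]; omega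
  have hts := Finset.ne_of_mem_erase ht
  have ht' := Finset.mem_of_mem_erase ht
  have htr := Finset.ne_of_mem_erase ht'
  have htρ := Finset.mem_of_mem_erase ht'
  haveI : Fact t.Prime := ⟨(hc.1 t htρ).1⟩
  obtain ⟨T⟩ : Nonempty (Sylow t G) := inferInstance
  have htT : t ∣ Nat.card T := T.dvd_card_of_dvd_card (hc.1 t htρ).2
  have hsol := sup_solvable K T hK t T.isPGroup'
  have h1 := solv2 hsol {r, s, t} (by
    intro u hu
    simp only [Finset.mem_insert, Finset.mem_singleton] at hu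
    rcases hu with rfl | rfl | rfl
    · exact ⟨(hc.1 u hr).1, hrK.trans (Subgroup.card_dvd_of_le le_sup_left)⟩
    · exact ⟨(hc.1 u hs).1, hsK.trans (Subgroup.card_dvd_of_le le_sup_left)⟩
    · exact ⟨(hc.1 u htρ).1, htT.trans (Subgroup.card_dvd_of_le le_sup_right)⟩) (by
    intro u hu v hv huv hx
    have huρ : u ∈ ρ := by
      simp only [Finset.mem_insert, Finset.mem_singleton] at hu
      rcases hu with rfl | rfl | rfl <;> assumption
    have hvρ : v ∈ ρ := by
      simp only [Finset.mem_insert, Finset.mem_singleton] at hv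
      rcases hv with rfl | rfl | rfl <;> assumption
    exact hc.2 u huρ v hvρ huv (exists_orderOf_of_subgroup hx))
  have h2 : ({r, s, t} : Finset ℕ).card = 3 := Finset.card_eq_three.mpr ⟨r, s, t, hrs, htr.symm, hts.symm, rfl⟩
  omega

/-- Let G be a finite group and ρ a set of at least three prime divisors of the order of G that are pairwise non-adjacent in the prime graph (no element of order rs for distinct r, s ∈ ρ). Then at most one prime of ρ divides the order of any given solvable normal subgroup of G; in particular G is not solvable. -/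
theorem result {G : Type*} [Group G] [Finite G] (ρ : Finset ℕ) (hρ : 3 ≤ ρ.card) (hc : ((∀ r ∈ ρ, r.Prime ∧ r ∣ Nat.card G) ∧ (∀ r ∈ ρ, ∀ s ∈ ρ, r ≠ s → ¬ ∃ x : G, orderOf x = r * s)))
    (K : Subgroup G) [K.Normal] (hK : Group.IsSolvable ↥K) :
    (∀ r ∈ ρ, ∀ s ∈ ρ, r ∣ Nat.card ↥K → s ∣ Nat.card ↥K → r = s) ∧ ¬ Group.IsSolvable G := by
  refine ⟨main ρ hρ hc K hK, ?_⟩
  intro hG
  have hT : Group.IsSolvable (⊤ : Subgroup G) := inferInstance
  have h1 := main ρ hρ hc ⊤ hT
  obtain ⟨a, b, ha, hb, hab⟩ := Finset.one_lt_card_iff.mp (by omega : 1 < ρ.card)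
  exact hab (h1 a ha b hb (by simpa using (hc.1 a ha).2) (by simpa using (hc.1 b hb).2))

end Cfsg.Agent.S3633
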