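import Cfsg.Statements.S3770
import Cfsg.Agent.H10_FrF8
import Cfsg.Agent.H9_FrobKer
import Cfsg.Agent.H1_Frob

set_option autoImplicit false
open Cfsg

namespace Cfsg.Agent.S3770

open Cfsg.Agent.H10.FrF5 Cfsg.Agent.H10.FrF7 Cfsg.Agent.H10.FrF8

/-- Let G and V be subgroups of a finite group with G a Frobenius group with complement R of prime order and kernel K, G normalizing V, and V an elementary abelian ℓ-group for a prime ℓ not dividing the order of G. If C_V(R) has order ℓ, then the derived subgroup of K centralizes V. -/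
theorem result {X : Type*} [Group X] [Finite X] (G : Subgroup X) (V : Subgroup X) {ℓ : ℕ} (hℓ : ℓ.Prime) (hV : Cfsg.IsElementaryAbelian ℓ V) (hℓG : ¬ ℓ ∣ Nat.card G) (hGV : G ≤ Subgroup.normalizer (V : Set X)) (R : Subgroup ↥G) (hR : Cfsg.IsFrobeniusComplement R) (hRp : (Nat.card R).Prime) (hCV : Nat.card ↥(V ⊓ Subgroup.centralizer ((R.map G.subtype : Subgroup X) : Set X)) = ℓ) : ⁅Subgroup.closure (Subtype.val '' Cfsg.frobeniusKernel R), Subgroup.closure (Subtype.val '' Cfsg.frobeniusKernel R)⁆ ≤ Subgroup.centralizer (V : Set X) := by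
  obtain ⟨N, hN, hNn, hNc⟩ := Cfsg.Agent.H9.FrobKer.frobenius R hR
  have hdisj : ∀ x, x ∈ N → x ∈ R → x = 1 := by
    intro x h1 h2
    have h3 := hNc.disjoint.le_bot ⟨h1, h2⟩
    exact Subgroup.mem_bot.1 h3
  have hfpf : ∀ e ∈ R, e ≠ 1 → ∀ u ∈ N, e * u = u * e → u = 1 := by
    intro e he he1 u hu h
    exact hdisj u hu (Cfsg.Agent.H1.Frob.centralizer_le hR he he1 h.symm)
  have hN1 : N ≠ ⊥ := by
    rintro rfl
    apply hR.2.1
    rw [eq_top_iff]
    intro g _
    obtain ⟨⟨a, b⟩, hab⟩ := hNc.2 g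
    have h1 : (a : ↥G) = 1 := Subgroup.mem_bot.1 a.2
    rw [← hab]
    show (a : ↥G) * b ∈ R
    rw [h1, one_mul]; exact b.2
  have hnil := nilp_of_fpf N R hN1 hR.1 (fun e _ u hu => hNn.conj_mem u hu e) hfpf
  have hVn : ∀ x ∈ G, ∀ h ∈ V, x * h * x⁻¹ ∈ V := by
    intro x hx h hh
    exact (Subgroup.mem_normalizer_iff.1 (hGV hx) h).1 hh
  letI cg : CommGroup V :=
    { (inferInstance : Group V) with
      mul_comm := fun a b => hV.1.is_comm.comm a b }
  have hRs : (R.map G.subtype).subgroupOf G = R := by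
    ext x
    rw [Subgroup.mem_subgroupOf]
    constructor
    · rintro ⟨y, hy, h⟩
      have : y = x := Subtype.ext h
      rwa [← this]
    · intro h; exact ⟨x, h, rfl⟩
  have hcomm := elem_comm N R hnil (fun e he he1 u hu h => hfpf e he he1 u hu (mul_inv_eq_iff_eq_mul.1 h)) (V := V) hℓ
    (fun x => Subtype.ext (hV.2 x x.2)) (fun h => hℓG (h.trans (Subgroup.card_subgroup_dvd_card N))) (conjAct G V hVn) (by
      have h1 := card_fx_conj hVn (R.map G.subtype) (by rintro _ ⟨y, -, rfl⟩; exact y.2)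
      rw [hRs, hCV] at h1
      exact h1.le)
  have hcl : Subgroup.closure (Subtype.val '' Cfsg.frobeniusKernel R) = N.map G.subtype := by
    rw [← hN]
    have : (Subtype.val '' (N : Set ↥G)) = ((N.map G.subtype : Subgroup X) : Set X) := rfl
    rw [this, Subgroup.closure_eq]
  rw [hcl, Subgroup.commutator_le]
  rintro _ ⟨x, hx, rfl⟩ _ ⟨y, hy, rfl⟩
  rw [Subgroup.mem_centralizer_iff]
  intro v hv
  have hv' : ((y : X) * x)⁻¹ * v * ((y : X) * x) ∈ V := by
    have := hVn _ (G.inv_mem (G.mul_mem y.2 x.2)) v hv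
    rwa [inv_inv] at this
  have h1 := congrArg Subtype.val (hcomm x hx y hy ⟨_, hv'⟩)
  have h2 : (x : X) * (y * (((y : X) * x)⁻¹ * v * ((y : X) * x)) * (y : X)⁻¹) * (x : X)⁻¹ =
    y * (x * (((y : X) * x)⁻¹ * v * ((y : X) * x)) * (x : X)⁻¹) * (y : X)⁻¹ := h1
  have h3 : (y : X) * (x * (((y : X) * x)⁻¹ * v * ((y : X) * x)) * (x : X)⁻¹) * (y : X)⁻¹ = v := by group
  rw [h3] at h2
  show v * ((x : X) * y * (x : X)⁻¹ * (y : X)⁻¹) = ((x : X) * y * (x : X)⁻¹ * (y : X)⁻¹) * v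
  conv_lhs => rw [← h2]
  group

end Cfsg.Agent.S3770
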