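import Cfsg.Statements.S3782
import Cfsg.Agent.H22_Alp3
import Cfsg.Agent.H1_Coprime2
import Cfsg.Agent.H1_Nilp
import Cfsg.Agent.H11_Cores
import Cfsg.Agent.H2_PGroup

set_option autoImplicit false
open Cfsg

namespace Cfsg.Agent.S3782

open Subgroup Cfsg.Agent.H22.Alp
open scoped commutatorElement

variable {G : Type*} [Group G]

theorem pPrimeCore_map [Finite G] (p : ℕ) (α : MulAut G) :
    (pPrimeCore p G).map α.toMonoidHom = pPrimeCore p G := by
  have hn : (pPrimeCore p G).Normal := H1.Nilp.pPrimeCore_normal p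
  have h1 : (pPrimeCore p G).map α.toMonoidHom ≤ pPrimeCore p G := by
    apply H1.Nilp.le_pPrimeCore (Subgroup.Normal.map hn _ α.surjective)
    rw [Subgroup.card_map_of_injective (K := pPrimeCore p G) (f := α.toMonoidHom) α.injective]
    exact H1.Nilp.pPrimeCore_coprime p
  exact H22.FPF.map_eq_of_forall_mem (fun x hx => h1 ⟨x, hx, rfl⟩)

theorem pCore_map [Finite G] (p : ℕ) [Fact p.Prime] (α : MulAut G) :
    (pCore p G).map α.toMonoidHom = pCore p G := by
  have hn : (pCore p G).Normal := H1.Nilp.pCore_normal p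
  have h1 : (pCore p G).map α.toMonoidHom ≤ pCore p G :=
    H1.Nilp.le_pCore (Subgroup.Normal.map hn _ α.surjective) ((H1.Nilp.pCore_isPGroup p).map _)
  exact H22.FPF.map_eq_of_forall_mem (fun x hx => h1 ⟨x, hx, rfl⟩)

theorem isPGroup_of_no_pprime [Finite G] {p : ℕ} (hp : p.Prime) {D : Subgroup G}
    (h : ∀ x ∈ D, (orderOf x).Coprime p → x = 1) : IsPGroup p D := by
  intro g
  set N := Nat.card D with hN
  have hN0 : N ≠ 0 := Nat.card_pos.ne'
  refine ⟨N.factorization p, ?_⟩
  have h1 : (g ^ p ^ N.factorization p) ^ (N / p ^ N.factorization p) = 1 := by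
    rw [← pow_mul, Nat.ordProj_mul_ordCompl_eq_self]
    exact pow_card_eq_one'
  have h2 : (orderOf ((g ^ p ^ N.factorization p : D) : G)).Coprime p := by
    rw [Subgroup.orderOf_coe]
    exact ((Nat.coprime_ordCompl hp hN0).symm).coprime_dvd_left (orderOf_dvd_of_pow_eq_one h1)
  exact Subtype.ext (h _ (g ^ p ^ N.factorization p).2 h2)

/-- the p'-core is trivial: reduction to the p-core -/
theorem derived_le_pCore [Finite G] [Group.IsSolvable G] {p n : ℕ} (hp : p.Prime) (α : MulAut G) (hα : α ^ p = 1)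
    (hc : Nat.card (Fx α) ≤ p ^ n) (hcore : pPrimeCore p G = ⊥) :
    derivedSeries G (((p ^ n) ^ p) ^ 1).factorial ≤ pCore p G := by
  have : Fact p.Prime := ⟨hp⟩
  set P := pCore p G with hP
  have hPp : IsPGroup p P := H1.Nilp.pCore_isPGroup p
  have hPn : P.Normal := H1.Nilp.pCore_normal p
  have hPinv := pCore_map p α
  set K := pw P p ⊔ ⁅P, P⁆ with hK
  have hCn : (⁅P, P⁆ : Subgroup G).Normal := Subgroup.commutator_normal _ _
  have hKn : K.Normal := Subgroup.sup_normal _ _
  have hKinv : K.map α.toMonoidHom = K := by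
    rw [hK, Subgroup.map_sup, pw_inv hPinv, map_commutator_inv hPinv hPinv]
  have hq := card_Fx_quot α K hKinv
  have hsurj := QuotientGroup.mk'_surjective K
  have b2 : Nat.card (P.map (QuotientGroup.mk' K)) ≤ ((p ^ n) ^ p) ^ 1 := by
    refine card_abelian_le hp (QuotientGroup.congr _ _ α hKinv) (quot_pow hKinv hα) _ ?_ (map_quot_inv hKinv hPinv)
      (hq.trans hc) 1 ?_
    · refine ⟨⟨fun a b => Subtype.ext ?_⟩⟩
      obtain ⟨x, hx, hxa⟩ := a.2
      obtain ⟨y, hy, hyb⟩ := b.2
      show (a : G ⧸ K) * b = b * a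
      rw [← hxa, ← hyb, ← map_mul, ← map_mul]
      apply QuotientGroup.eq.mpr
      have h4 : (x * y)⁻¹ * (y * x) = ⁅y⁻¹, x⁻¹⁆ := by
        rw [commutatorElement_def]; group
      rw [h4]
      exact (le_sup_right : ⁅P, P⁆ ≤ K) (Subgroup.commutator_mem_commutator (inv_mem hy) (inv_mem hx))
    · rintro _ ⟨x, hx, rfl⟩
      rw [← map_pow, pow_one]
      exact (QuotientGroup.eq_one_iff _).mpr ((le_sup_left : pw P p ≤ K) (pow_mem_pw hx))
  have hPmn : (P.map (QuotientGroup.mk' K)).Normal := Subgroup.Normal.map hPn _ hsurj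
  have h1 := derivedSeries_le_centralizer (P.map (QuotientGroup.mk' K)) b2
  set D := derivedSeries G (((p ^ n) ^ p) ^ 1).factorial with hD
  have h2 : ⁅D, P⁆ ≤ K := by
    rw [← S3781.map_le_bot_iff, Subgroup.map_commutator, hD, map_derivedSeries_eq hsurj]
    exact Subgroup.commutator_eq_bot_iff_le_centralizer.mpr h1
  have h3 : K ≤ (frattini P).map P.subtype := by
    rw [hK, sup_le_iff]
    constructor
    · apply pw_le
      intro x hx
      exact ⟨⟨x, hx⟩ ^ p, H2.PGroup.pow_mem_frattini hPp _, rfl⟩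
    · rw [Subgroup.commutator_le]
      intro x hx y hy
      refine ⟨⁅(⟨x, hx⟩ : P), (⟨y, hy⟩ : P)⁆, H2.PGroup.commutator_le_frattini hPp ?_, rfl⟩
      exact Subgroup.commutator_mem_commutator (Subgroup.mem_top _) (Subgroup.mem_top _)
  have h4 : IsPGroup p D := by
    apply isPGroup_of_no_pprime hp
    intro x hx hxp
    have h5 : zpowers x ≤ centralizer (P : Set G) := by
      apply H1.Coprime.trivial_on_frattini_quotient (zpowers x) P (Subgroup.le_normalizer_of_normal)
      · rw [Nat.card_zpowers]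
        obtain ⟨k, hk⟩ := IsPGroup.iff_card.mp (hPp.to_subgroup (frattini P))
        rw [hk]
        exact hxp.pow_right k
      · intro a ha k hk
        apply h3
        apply h2
        exact Subgroup.commutator_mem_commutator ((zpowers_le.mpr hx) ha) hk
    have h6 : x ∈ P := H1.Hall.centralizer_pCore_le p hcore (h5 (mem_zpowers x))
    obtain ⟨k, hk⟩ := IsPGroup.iff_orderOf.mp hPp ⟨x, h6⟩
    rw [← Subgroup.orderOf_coe] at hk
    have hk' : orderOf x = p ^ k := hk
    rw [hk'] at hxp
    rcases Nat.eq_zero_or_pos k with rfl | hk0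
    · rw [pow_zero] at hk'
      exact orderOf_eq_one_iff.mp hk'
    · exact absurd ((Nat.Coprime.coprime_dvd_left (dvd_pow_self p hk0.ne') hxp))
        (by rw [Nat.coprime_self]; exact hp.one_lt.ne')
  exact H1.Nilp.le_pCore inferInstance h4

/-- fixed-point-free automorphism on the p'-core -/
theorem lcs_pPrime [Finite G] {p n : ℕ} (hp : p.Prime) (α : MulAut G) (hα : α ^ p = 1) (hc : Nat.card (Fx α) = p ^ n)
    (hG : (Nat.card G).Coprime p) : (⊤ : Subgroup G).lowerCentralSeries (ξ p) = ⊥ := by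
  have hfix : ∀ g : G, α g = g → g = 1 := by
    intro g hg
    have h1 : Nat.card (Fx α) ∣ Nat.card G := Subgroup.card_subgroup_dvd_card _
    rw [hc] at h1
    have h2 : Nat.card (Fx α) = 1 := by
      rw [hc]
      exact Nat.eq_one_of_dvd_coprimes (hG.pow_right n) h1 dvd_rfl
    have h3 : g ∈ Fx α := hg
    rw [Subgroup.card_eq_one.mp h2] at h3
    exact Subgroup.mem_bot.mp h3
  by_cases h1 : α = 1
  · have h2 : ∀ g : G, g = 1 := fun g => hfix g (by rw [h1]; rfl)
    rw [eq_bot_iff]
    intro g _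
    rw [Subgroup.mem_bot]
    exact h2 g
  · have : Fact p.Prime := ⟨hp⟩
    exact S3779.main hp α (orderOf_eq_prime hα h1) hfix _ (fun M h1 h2 => H22.LieGr.hkk_bound hp h1 h2)

theorem main [Finite G] (hG : Group.IsSolvable G) {p n : ℕ} (hp : p.Prime) (α : MulAut G) (hα : α ^ p = 1)
    (hc : Nat.card (Fx α) = p ^ n) :
    derivedSeries G (((((p ^ n) ^ p) ^ 1).factorial + (Bd p ((n + 2) * (ξ p + 1) + 1) (p ^ n) + (ξ p + 1))) + ξ p) = ⊥ := by
  have : Fact p.Prime := ⟨hp⟩
  have hNn : (pPrimeCore p G).Normal := H1.Nilp.pPrimeCore_normal p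
  have hNinv := pPrimeCore_map (G := G) p α
  have hcore : pPrimeCore p (G ⧸ pPrimeCore p G) = ⊥ := H11.Cores.pPrimeCore_quotient p
  have hNcop : (Nat.card (pPrimeCore p G)).Coprime p := H1.Nilp.pPrimeCore_coprime p
  set N := pPrimeCore p G with hN
  -- on the p'-core
  have h1 : N.lowerCentralSeries (ξ p) = ⊥ := by
    have h2 : (H3.Fpf.restr α N hNinv) ^ p = 1 := by
      apply MulEquiv.ext
      intro z
      apply Subtype.ext
      rw [H3.Fpf.restr_pow, hα]
      rfl
    have h3 : ∃ j, Nat.card (Fx (H3.Fpf.restr α N hNinv)) = p ^ j := by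
      have hpg : IsPGroup p (Fx α) := IsPGroup.of_card hc
      let f : Fx (H3.Fpf.restr α N hNinv) →* Fx α :=
        { toFun := fun x => ⟨((x : N) : G), by
            have h1 := x.2
            rw [mem_Fx] at h1 ⊢
            rw [← H3.Fpf.restr_coe α N hNinv, h1]⟩
          map_one' := rfl
          map_mul' := fun _ _ => rfl }
      have hf : Function.Injective f := by
        intro a b hab
        have h2 := congrArg (fun z : Fx α => (z : G)) hab
        exact Subtype.ext (Subtype.ext h2)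
      exact IsPGroup.iff_card.mp (hpg.of_injective f hf)
    obtain ⟨j, hj⟩ := h3
    have h4 := lcs_pPrime hp _ h2 hj hNcop
    rw [← Subgroup.top_subtype_lowerCentralSeries, h4, Subgroup.map_bot]
  -- the quotient
  have hsurj := QuotientGroup.mk'_surjective N
  have hsolv : Group.IsSolvable (G ⧸ N) := Group.isSolvable_of_surjective hsurj
  have hq := (card_Fx_quot α N hNinv).trans hc.le
  have h2 := derived_le_pCore hp (QuotientGroup.congr N N α hNinv) (quot_pow hNinv hα) hq hcore
  have hPinv := pCore_map (G := G ⧸ N) p (QuotientGroup.congr N N α hNinv)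
  set β : MulAut (G ⧸ N) := QuotientGroup.congr N N α hNinv with hβ
  have hβp : β ^ p = 1 := quot_pow hNinv hα
  set P := pCore p (G ⧸ N) with hP
  have h3 : (H3.Fpf.restr β P hPinv) ^ p = 1 := by
    apply MulEquiv.ext
    intro z
    apply Subtype.ext
    rw [H3.Fpf.restr_pow, hβp]
    rfl
  have h4 := alperin_pgroup hp (H1.Nilp.pCore_isPGroup p : IsPGroup p P) (H3.Fpf.restr β P hPinv) h3
    ((card_Fx_restr β P hPinv).trans hq)
  have h5 := derivedSeries_le_map P _ h2 (Bd p ((n + 2) * (ξ p + 1) + 1) (p ^ n) + (ξ p + 1))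
  rw [h4, Subgroup.map_bot, ← map_derivedSeries_eq hsurj, le_bot_iff, S3781.map_le_bot_iff] at h5
  rw [eq_bot_iff, ← h1]
  exact derivedSeries_le_lcs N _ h5 _

theorem result (p : ℕ) (hp : p.Prime) (n : ℕ) : ∃ l : ℕ, ∀ (G : Type) [Group G] [Finite G], Group.IsSolvable G → ∀ α : MulAut G, orderOf α = p → Nat.card {g : G // α g = g} = p ^ n → derivedSeries G l = ⊥ := by
  refine ⟨_, fun G _ _ hG α hα hc => main (n := n) hG hp α (by rw [← hα]; exact pow_orderOf_eq_one α) hc⟩

end Cfsg.Agent.S3782
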