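import Cfsg.Statements.S3796
import Cfsg.Agent.H22_Ward6

set_option autoImplicit false
open Cfsg

namespace Cfsg.Agent.S3796

open Subgroup in
/-- Ward's Theorem: let G be a finite solvable group and A an elementary abelian group of automorphisms of G of order p² (p a prime) with no non-identity common fixed point. Then G has Fitting height at most 2: G has Fitting height at most m when there is a chain of normal subgroups 1 = F₀ ≤ F₁ ≤ ⋯ ≤ F_m = G with each F_{i+1}/F_i nilpotent. -/
theorem aux {G : Type*} [Group G] [Finite G] (hG : Group.IsSolvable G) {p : ℕ} (hp : p.Prime) (A : Subgroup (MulAut G)) (hA : Cfsg.IsElementaryAbelian p A) (hcard : Nat.card A = p ^ 2) (hfpf : ∀ g : G, (∀ a ∈ A, a g = g) → g = 1) :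
    ∃ k l : ℕ, ((⊤ : Subgroup G).lowerCentralSeries k).lowerCentralSeries l = ⊥ := by
  haveI : Fact p.Prime := ⟨hp⟩
  let φ : A →* MulAut G := A.subtype
  let X := G ⋊[φ] A
  haveI : Finite (G ⋊[φ] A) := Finite.of_equiv _ SemidirectProduct.equivProd.symm
  set K : Subgroup (G ⋊[φ] A) := (SemidirectProduct.inl : G →* G ⋊[φ] A).range with hK
  set B : Subgroup (G ⋊[φ] A) := (SemidirectProduct.inr : A →* G ⋊[φ] A).range with hB
  have hKn : K.Normal := by
    rw [hK, SemidirectProduct.range_inl_eq_ker_rightHom]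
    infer_instance
  have hKs : Group.IsSolvable K := Group.isSolvable_of_surjective (f := (SemidirectProduct.inl : G →* G ⋊[φ] A).rangeRestrict)
    (MonoidHom.rangeRestrict_surjective _)
  have hEA : H22.Ward.EA p B := by
    refine ⟨?_, ?_, ?_⟩
    · rintro _ ⟨a, rfl⟩ _ ⟨b, rfl⟩
      rw [← map_mul, ← map_mul]
      congr 1
      exact hA.1.is_comm.comm a b
    · rintro _ ⟨a, rfl⟩
      rw [← map_pow]
      have : a ^ p = 1 := Subtype.ext (hA.2 a a.2)
      rw [this, map_one]
    · rw [← hcard]
      exact (Nat.card_congr (MonoidHom.ofInjective SemidirectProduct.inr_injective).toEquiv).symm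
  have hf : K ⊓ centralizer (B : Set (G ⋊[φ] A)) = ⊥ := by
    rw [eq_bot_iff]
    rintro _ ⟨⟨g, rfl⟩, hg⟩
    have h1 : g = 1 := by
      apply hfpf
      intro a ha
      have h2 := mem_centralizer_iff.mp hg (SemidirectProduct.inr ⟨a, ha⟩) ⟨⟨a, ha⟩, rfl⟩
      have h3 := congrArg SemidirectProduct.left h2
      simp only [SemidirectProduct.mul_left, SemidirectProduct.left_inr, SemidirectProduct.right_inr, SemidirectProduct.left_inl,
        SemidirectProduct.right_inl, one_mul, map_one, mul_one] at h3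
      exact h3
    rw [h1, map_one]; exact one_mem _
  have htop : K ⊔ B = ⊤ := by
    rw [eq_top_iff]
    rintro x -
    have hx : x = SemidirectProduct.inl x.left * SemidirectProduct.inr x.right := (SemidirectProduct.inl_left_mul_inr_right x).symm
    rw [hx]
    exact mul_mem ((le_sup_left : K ≤ K ⊔ B) ⟨_, rfl⟩) ((le_sup_right : B ≤ K ⊔ B) ⟨_, rfl⟩)
  obtain ⟨k, l, hkl⟩ := H22.Ward.main p (Nat.card K) (G ⋊[φ] A) K B hKn hKs hEA hf htop rfl
  refine ⟨k, l, ?_⟩
  have h1 : K = (⊤ : Subgroup G).map (SemidirectProduct.inl : G →* G ⋊[φ] A) := by rw [hK, MonoidHom.range_eq_map]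
  rw [h1, ← Subgroup.map_lowerCentralSeries, ← Subgroup.map_lowerCentralSeries] at hkl
  exact (Subgroup.map_eq_bot_iff_of_injective _ SemidirectProduct.inl_injective).mp hkl

/-- Ward's Theorem: let G be a finite solvable group and A an elementary abelian group of automorphisms of G of order p² (p a prime) with no non-identity common fixed point. Then G has Fitting height at most 2: G has Fitting height at most m when there is a chain of normal subgroups 1 = F₀ ≤ F₁ ≤ ⋯ ≤ F_m = G with each F_{i+1}/F_i nilpotent. -/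
theorem result {G : Type*} [Group G] [Finite G] (hG : Group.IsSolvable G) {p : ℕ} (hp : p.Prime) (A : Subgroup (MulAut G)) (hA : Cfsg.IsElementaryAbelian p A) (hcard : Nat.card A = p ^ 2) (hfpf : ∀ g : G, (∀ a ∈ A, a g = g) → g = 1) : ∃ F : Fin (2 + 1) → Subgroup G, F 0 = ⊥ ∧ F (Fin.last 2) = ⊤ ∧ Monotone F ∧ (∀ i, (F i).Normal) ∧ ∀ i : Fin 2, ∃ k : ℕ, (F i.succ).lowerCentralSeries k ≤ F i.castSucc := by
  obtain ⟨k, l, hkl⟩ := aux hG hp A hA hcard hfpf
  refine ⟨![⊥, (⊤ : Subgroup G).lowerCentralSeries k, ⊤], rfl, rfl, ?_, ?_, ?_⟩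
  · rw [Fin.monotone_iff_le_succ]
    intro i
    fin_cases i
    · exact bot_le
    · exact le_top
  · intro i
    fin_cases i
    · show (⊥ : Subgroup G).Normal; infer_instance
    · show ((⊤ : Subgroup G).lowerCentralSeries k).Normal; infer_instance
    · show (⊤ : Subgroup G).Normal; infer_instance
  · intro i
    fin_cases i
    · exact ⟨l, hkl.le⟩
    · exact ⟨k, le_rfl⟩

end Cfsg.Agent.S3796
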