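import Cfsg.Statements.S3797
import Cfsg.Agent.H22_Inv6
import Cfsg.Agent.H22_PSolv
import Cfsg.Agent.H22_Homocyc

set_option autoImplicit false
open Cfsg

namespace Cfsg.Agent.S3797

open Subgroup

/-- a chain `1 ≤ N ≤ K ≤ G` with `p'`-, `p`-, `p'`-factors gives `p`-length at most one -/
theorem plen_one {G : Type*} [Group G] [Finite G] {p : ℕ} [hp : Fact p.Prime] (N K : Subgroup G) [hN : N.Normal]
    [hK : K.Normal] (hNK : N ≤ K) (h1 : (Nat.card N).Coprime p) (h2 : ∃ m, N.relIndex K = p ^ m)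
    (h3 : K.index.Coprime p) : Cfsg.PLengthLE p 1 G := by
  rw [H22.PSolv.plengthLE_iff]
  refine ⟨fun i => if i = 0 then ⊥ else if i = 1 then N else if i = 2 then K else ⊤, by simp, by simp, ?_, ?_, ?_, ?_⟩
  · intro i
    by_cases h0 : i = 0
    · simp only [h0, if_true]; infer_instance
    by_cases h1 : i = 1
    · simp only [h1]; simpa using hN
    by_cases h2 : i = 2
    · simp only [h2]; simpa using hK
    · simp only [h0, h1, h2, if_false]; infer_instance
  · intro i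
    by_cases h0 : i = 0
    · simp [h0]
    by_cases h1 : i = 1
    · simpa [h1] using hNK
    by_cases h2 : i = 2
    · simp [h2]
    · have h4 : i + 1 ≠ 2 := by omega
      simp [h0, h1, h2]
  · intro i hi
    by_cases h0 : i = 0
    · simpa [h0, relIndex_bot_left] using h1
    by_cases h1 : i = 1
    · rw [h1] at hi; exact absurd hi (by decide)
    by_cases h2 : i = 2
    · simpa [h2, relIndex_top_right] using h3
    · have h4 : i + 1 ≠ 2 := by omega
      simp [h0, h1, h2]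
  · intro i hi
    by_cases h0 : i = 0
    · rw [h0] at hi; exact absurd (by decide) hi
    by_cases h1 : i = 1
    · simpa [h1] using h2
    by_cases h2 : i = 2
    · rw [h2] at hi; exact absurd (by decide) hi
    · have h4 : i + 1 ≠ 2 := by omega
      refine ⟨0, ?_⟩
      simp [h0, h1, h2]

theorem result {G : Type*} [Group G] [Finite G] (hG : Group.IsSolvable G) (heven : Even (Nat.card G)) (S : Sylow 2 G) (htwo : ∃ x y : G, x ∈ (S : Subgroup G) ∧ y ∈ (S : Subgroup G) ∧ x ≠ y ∧ x ≠ 1 ∧ x ^ 2 = 1 ∧ y ≠ 1 ∧ y ^ 2 = 1) (hconj : ∀ x y : G, x ≠ 1 → x ^ 2 = 1 → y ≠ 1 → y ^ 2 = 1 → IsConj x y) : Cfsg.PLengthLE 2 1 G ∧ ((∃ m r : ℕ, Nonempty (↥(S : Subgroup G) ≃* (Fin r → Multiplicative (ZMod (2 ^ m))))) ∨ (¬ IsMulCommutative (S : Subgroup G) ∧ ∃ Y : Subgroup (MulAut ↥(S : Subgroup G)), Group.IsSolvable Y ∧ ∀ x y : ↥(S : Subgroup G), x ≠ 1 → x ^ 2 = 1 → y ≠ 1 → y ^ 2 = 1 → ∃ a ∈ Y, a x = y)) := by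
  classical
  have h2 : Fact (Nat.Prime 2) := ⟨Nat.prime_two⟩
  have hNn : (Cfsg.pPrimeCore 2 G).Normal := H1.Nilp.pPrimeCore_normal 2
  have hNodd : (Nat.card (Cfsg.pPrimeCore 2 G)).Coprime 2 := H1.Nilp.pPrimeCore_coprime 2
  have hcore : Cfsg.pPrimeCore 2 (G ⧸ Cfsg.pPrimeCore 2 G) = ⊥ := H11.Cores.pPrimeCore_quotient 2
  set N := Cfsg.pPrimeCore 2 G with hN
  set π := QuotientGroup.mk' N with hπd
  have hπ : Function.Surjective π := QuotientGroup.mk'_surjective N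
  have hker : π.ker = N := QuotientGroup.ker_mk' N
  -- lifting involutions
  have hlift : ∀ y : G ⧸ N, y ≠ 1 → y ^ 2 = 1 → ∃ g : G, g ≠ 1 ∧ g ^ 2 = 1 ∧ π g = y := by
    intro y hy1 hy2
    obtain ⟨g, rfl⟩ := hπ y
    have h3 : g ^ 2 ∈ N := by
      rw [← hker, MonoidHom.mem_ker, map_pow, hy2]
    have h4 : (g ^ 2) ^ Nat.card N = 1 := by
      have := pow_card_eq_one' (x := (⟨g ^ 2, h3⟩ : N))
      exact congrArg Subtype.val this
    have hodd : Odd (Nat.card N) := Nat.coprime_two_right.mp hNodd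
    have h5 : π (g ^ Nat.card N) = π g := by
      obtain ⟨k, hk⟩ := hodd
      rw [map_pow, hk, pow_succ, pow_mul, hy2, one_pow, one_mul]
    refine ⟨g ^ Nat.card N, ?_, ?_, h5⟩
    · intro h6
      rw [h6, map_one] at h5
      exact hy1 h5.symm
    · rw [← pow_mul, mul_comm, pow_mul, h4]
  have hconj' : ∀ x y : G ⧸ N, x ≠ 1 → x ^ 2 = 1 → y ≠ 1 → y ^ 2 = 1 → IsConj x y := by
    intro x y hx1 hx2 hy1 hy2
    obtain ⟨a, ha1, ha2, rfl⟩ := hlift x hx1 hx2
    obtain ⟨b, hb1, hb2, rfl⟩ := hlift y hy1 hy2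
    exact π.map_isConj (hconj a b ha1 ha2 hb1 hb2)
  have hSN : (S : Subgroup G) ⊓ N = ⊥ := by
    apply H1.Basic.disjoint_of_coprime_card
    obtain ⟨k, hk⟩ := IsPGroup.iff_card.mp S.isPGroup'
    rw [hk]
    exact Nat.Coprime.pow_left k hNodd.symm
  have hinj : ∀ a ∈ (S : Subgroup G), ∀ b ∈ (S : Subgroup G), π a = π b → a = b := by
    intro a ha b hb hab
    have h3 : a * b⁻¹ ∈ (S : Subgroup G) ⊓ N := by
      refine mem_inf.mpr ⟨mul_mem ha (inv_mem hb), ?_⟩
      rw [← hker, MonoidHom.mem_ker, map_mul, map_inv, hab, mul_inv_cancel]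
    rw [hSN, mem_bot] at h3
    exact mul_inv_eq_one.mp h3
  obtain ⟨x0, y0, hx0, hy0, hxy, hx1, hx2, hy1, hy2⟩ := htwo
  have hidx : ¬ 2 ∣ (Cfsg.pCore 2 (G ⧸ N)).index := by
    apply H22.Inv.main_aux (Nat.card (G ⧸ N)) (G ⧸ N) rfl inferInstance hcore hconj'
    refine ⟨π x0, π y0, fun h => hxy (hinj _ hx0 _ hy0 h), fun h => hx1 ?_, by rw [← map_pow, hx2, map_one],
      fun h => hy1 ?_, by rw [← map_pow, hy2, map_one]⟩
    · exact hinj _ hx0 _ (one_mem _) (by rw [h, map_one])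
    · exact hinj _ hy0 _ (one_mem _) (by rw [h, map_one])
  have hQn : (Cfsg.pCore 2 (G ⧸ N)).Normal := H1.Nilp.pCore_normal 2
  have hQp : IsPGroup 2 (Cfsg.pCore 2 (G ⧸ N)) := H1.Nilp.pCore_isPGroup 2
  set Q := Cfsg.pCore 2 (G ⧸ N) with hQ
  refine ⟨?_, ?_⟩
  · -- the 2-length
    have hKn : (Q.comap π).Normal := hQn.comap _
    refine plen_one N (Q.comap π) (H1.Hall.le_comap_mk _ _) hNodd ?_ ?_
    · rw [hπd, H1.Hall.relIndex_comap_mk]
      exact IsPGroup.iff_card.mp hQp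
    · rw [index_comap_of_surjective _ hπ]
      exact ((Nat.prime_two.coprime_iff_not_dvd).mpr hidx).symm
  -- the Sylow subgroup
  have hSmap : (S : Subgroup G).map π = Q := by
    let S' : Sylow 2 (G ⧸ N) := Sylow.mapSurjective hπ S
    let Q' : Sylow 2 (G ⧸ N) := hQp.toSylow hidx
    have hQn' : (Q' : Subgroup (G ⧸ N)).Normal := hQn
    have hu := Sylow.unique_of_normal Q' hQn'
    have h3 : S' = Q' := (hu.uniq S').trans (hu.uniq Q').symm
    have h4 : (S' : Subgroup (G ⧸ N)) = Q' := by rw [h3]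
    exact h4
  let f : (S : Subgroup G) →* Q := (π.comp (S : Subgroup G).subtype).codRestrict Q (by
    rintro ⟨x, hx⟩
    rw [← hSmap]
    exact mem_map_of_mem π hx)
  have hf : ∀ x : (S : Subgroup G), ((f x : Q) : G ⧸ N) = π x := fun x => rfl
  have hfb : Function.Bijective f := by
    constructor
    · rintro ⟨a, ha⟩ ⟨b, hb⟩ hab
      have := congrArg Subtype.val hab
      exact Subtype.ext (hinj a ha b hb this)
    · rintro ⟨q, hq⟩
      have hq' := hq
      rw [← hSmap] at hq'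
      obtain ⟨a, ha, rfl⟩ := hq'
      exact ⟨⟨a, ha⟩, rfl⟩
  let e : (S : Subgroup G) ≃* Q := MulEquiv.ofBijective f hfb
  let Φ : (G ⧸ N) →* MulAut (S : Subgroup G) := (MulAut.congr e.symm).toMonoidHom.comp (MulAut.conjNormal (H := Q))
  have hΦ : ∀ (g : G ⧸ N) (x : (S : Subgroup G)), π (Φ g x : (S : Subgroup G)) = g * π x * g⁻¹ := by
    intro g x
    have h3 : Φ g x = e.symm (MulAut.conjNormal g (e x)) := rfl
    rw [← hf, h3]
    have h4 : f (e.symm (MulAut.conjNormal g (e x))) = MulAut.conjNormal g (e x) := e.apply_symm_apply _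
    rw [h4, MulAut.conjNormal_apply]
    rfl
  have htr : ∀ x y : (S : Subgroup G), x ≠ 1 → x ^ 2 = 1 → y ≠ 1 → y ^ 2 = 1 → ∃ a ∈ Φ.range, a x = y := by
    intro x y hx1 hx2 hy1 hy2
    have hb : ∀ z : (S : Subgroup G), z ≠ 1 → π z ≠ 1 := by
      intro z hz1 h3
      exact hz1 (Subtype.ext (hinj z z.2 1 (one_mem _) (by rw [h3, map_one])))
    have hb2 : ∀ z : (S : Subgroup G), z ^ 2 = 1 → (π z) ^ 2 = 1 := by
      intro z hz
      have h4 := congrArg Subtype.val hz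
      rw [Subgroup.coe_pow, Subgroup.coe_one] at h4
      rw [← map_pow, h4, map_one]
    obtain ⟨g, hg⟩ := isConj_iff.mp (hconj' (π x) (π y) (hb x hx1) (hb2 x hx2) (hb y hy1) (hb2 y hy2))
    refine ⟨Φ g, ⟨g, rfl⟩, Subtype.ext (hinj _ (Φ g x).2 _ y.2 ?_)⟩
    rw [hΦ, hg]
  by_cases hcomm : IsMulCommutative (S : Subgroup G)
  · left
    letI : CommGroup (S : Subgroup G) := { (inferInstance : Group (S : Subgroup G)) with mul_comm := hcomm.is_comm.comm }
    exact H22.Homocyc.homocyclic S.isPGroup' (fun x y hx1 hx2 hy1 hy2 => by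
      obtain ⟨a, -, ha⟩ := htr x y hx1 hx2 hy1 hy2
      exact ⟨a, 1, by rw [pow_one, ha], by rw [ha]; exact hy1⟩)
  · right
    refine ⟨hcomm, Φ.range, ?_, htr⟩
    exact Group.isSolvable_of_surjective Φ.rangeRestrict_surjective

end Cfsg.Agent.S3797
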