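import Cfsg.Statements.S3806
import Mathlib
import Cfsg.Agent.H22_MX5

set_option autoImplicit false
open Cfsg

namespace Cfsg.Agent.S3806

open Subgroup Cfsg Cfsg.Agent.H22.MX

/-- Let p be a prime and S a finite p-group of order pⁿ (n ≥ 2) of maximal nilpotency class n − 1 whose sectional p-rank is exactly k (every section has p-rank at most k, and some section has p-rank k). If p ≥ k + 2 then the order of S is at most p^(2k). -/
theorem result {S : Type*} [Group S] [Finite S] (p : ℕ) [Fact p.Prime] (hS : IsPGroup p S) [Group.IsNilpotent S]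
    (n : ℕ) (hn : 2 ≤ n) (hcard : Nat.card S = p ^ n) (hmax : Group.nilpotencyClass S = n - 1)
    (k : ℕ) (hk : 1 ≤ k) (hsr : Cfsg.SectionalPRankLE p k S ∧ ¬ Cfsg.SectionalPRankLE p (k - 1) S)
    (hpk : k + 2 ≤ p) : Nat.card S ≤ p ^ (2 * k) := by
  have hpp : p.Prime := Fact.out
  by_contra hcon
  push Not at hcon
  rw [hcard] at hcon
  have hkn : 2 * k < n := (Nat.pow_lt_pow_iff_right hpp.one_lt).mp hcon
  have hX : Nat.card (⊤ : Subgroup S) = p ^ n := by rw [Subgroup.card_top, hcard]
  have e : (⊤ : Subgroup S) ≃* S := Subgroup.topEquiv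
  haveI : Group.IsNilpotent (⊤ : Subgroup S) := Group.nilpotent_of_mulEquiv e.symm
  have hc : Group.nilpotencyClass (⊤ : Subgroup S) = n - 1 := by
    rw [← hmax]
    apply le_antisymm
    · exact Group.nilpotencyClass_le_of_surjective e.symm.toMonoidHom e.symm.surjective
    · exact Group.nilpotencyClass_le_of_surjective e.toMonoidHom e.surjective
  have h := MC_of_class (p := p) n hX hc (by omega)
  obtain ⟨N, hN, hr⟩ := h.bound k hk (by omega) hpk
  exact hr (hsr.1 ⊤ N)

end Cfsg.Agent.S3806
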