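import Cfsg.Statements.S3807
import Cfsg.Agent.H2_Card


set_option autoImplicit false
open Cfsg

namespace Cfsg.Agent.S3807

open Subgroup
open scoped commutatorElement

theorem sup_top {S : Type*} [Group S] [Finite S] {p : ℕ} (hp : p.Prime) {A D : Subgroup S} (hA : A.index = p)
    (hD : ¬ D ≤ A) : A ⊔ D = ⊤ := by
  have h1 : (A ⊔ D).index ∣ A.index := index_dvd_of_le le_sup_left
  rw [hA] at h1
  rcases (Nat.dvd_prime hp).1 h1 with h2 | h2
  · exact index_eq_one.1 h2
  · exfalso
    apply hD
    have h3 : A = A ⊔ D := by
      apply Subgroup.eq_of_le_of_card_ge le_sup_left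
      have h4 := A.card_mul_index
      have h5 := (A ⊔ D).card_mul_index
      rw [hA] at h4
      rw [h2] at h5
      exact (Nat.eq_of_mul_eq_mul_right hp.pos (h5.trans h4.symm)).le
    rw [h3]; exact le_sup_right

theorem center_le {S : Type*} [Group S] [Finite S] {p : ℕ} (hp : p.Prime) (hna : ¬ IsMulCommutative S)
    {B : Subgroup S} (hB : IsMulCommutative ↥B) (hBi : B.index = p) : center S ≤ B := by
  by_contra h
  have h1 := sup_top hp hBi h
  have hBB : B ≤ centralizer (B : Set S) := by
    intro a ha
    rw [mem_centralizer_iff]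
    intro b hb
    exact congrArg Subtype.val (hB.1.1 ⟨b, hb⟩ ⟨a, ha⟩)
  have h2 : (⊤ : Subgroup S) ≤ centralizer (B : Set S) := by
    rw [← h1]; exact sup_le hBB (center_le_centralizer _)
  have h3 : B ≤ center S := by
    intro b hb
    rw [mem_center_iff]
    intro g
    exact ((mem_centralizer_iff.1 (h2 (mem_top g))) b hb).symm
  have h4 : center S = ⊤ := by
    rw [eq_top_iff, ← h1]; exact sup_le h3 le_rfl
  apply hna
  refine ⟨⟨fun a b => ?_⟩⟩
  have : b ∈ center S := by rw [h4]; exact mem_top _
  exact mem_center_iff.1 this a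

/-- Let S be a non-abelian finite p-group with an abelian subgroup A of index p. Then [S : Z(S)] = p·#[S,S], and either [S,S] has order p, S/Z(S) is elementary abelian of order p², and S has exactly p + 1 abelian subgroups of index p; or [S,S] has order at least p² and A is the only abelian subgroup of index p in S. -/
theorem result {S : Type*} [Group S] [Finite S] (p : ℕ) [Fact p.Prime] (hS : IsPGroup p S) (hna : ¬ IsMulCommutative S)
    (A : Subgroup S) (hA : IsMulCommutative ↥A) (hAi : A.index = p) :
    (Subgroup.center S).index = p * Nat.card (commutator S) ∧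
      ((Nat.card (commutator S) = p ∧ Cfsg.IsElementaryAbelian p (⊤ : Subgroup (S ⧸ Subgroup.center S)) ∧
          Nat.card (S ⧸ Subgroup.center S) = p ^ 2 ∧
          Nat.card {B : Subgroup S // IsMulCommutative ↥B ∧ B.index = p} = p + 1) ∨
        (p ^ 2 ≤ Nat.card (commutator S) ∧ ∀ B : Subgroup S, IsMulCommutative ↥B → B.index = p → B = A)) := by

  have hp : p.Prime := Fact.out
  have hcA : ∀ a ∈ A, ∀ b ∈ A, a * b = b * a := fun a ha b hb => congrArg Subtype.val (hA.1.1 ⟨a, ha⟩ ⟨b, hb⟩)
  have hAn : A.Normal := by
    obtain ⟨n, hn⟩ := IsPGroup.iff_card.1 hS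
    apply normal_of_index_eq_minFac_card
    rw [hAi, hn]
    have hn0 : n ≠ 0 := by
      rintro rfl
      rw [pow_zero] at hn
      have := A.index_dvd_card
      rw [hn, hAi] at this
      exact hp.one_lt.ne' (Nat.dvd_one.1 this)
    exact (Nat.Prime.pow_minFac hp hn0).symm
  have hZA := center_le hp hna hA hAi
  obtain ⟨x, hx⟩ : ∃ x, x ∉ A := by
    by_contra h
    push Not at h
    have : A = ⊤ := by rw [eq_top_iff]; intro y _; exact h y
    rw [this, index_top] at hAi
    exact hp.one_lt.ne hAi
  have hAx : A ⊔ zpowers x = ⊤ := sup_top hp hAi (by rw [zpowers_le]; exact hx)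
  -- a subgroup containing A and x is everything
  have htop : ∀ D : Subgroup S, A ≤ D → x ∈ D → D = ⊤ := by
    intro D h1 h2
    rw [eq_top_iff, ← hAx]
    exact sup_le h1 (zpowers_le.2 h2)
  let δ : A →* A :=
    { toFun := fun a => ⟨a * (x * (a : S)⁻¹ * x⁻¹), mul_mem a.2 (hAn.conj_mem _ (inv_mem a.2) x)⟩
      map_one' := by apply Subtype.ext; simp
      map_mul' := by
        intro a b
        apply Subtype.ext
        change (a : S) * b * (x * ((a : S) * b)⁻¹ * x⁻¹) = (a * (x * (a : S)⁻¹ * x⁻¹)) * (b * (x * (b : S)⁻¹ * x⁻¹))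
        have h1 : x * ((a : S) * b)⁻¹ * x⁻¹ = (x * (a : S)⁻¹ * x⁻¹) * (x * (b : S)⁻¹ * x⁻¹) := by
          rw [hcA a a.2 b b.2]; group
        rw [h1]
        calc (a : S) * b * ((x * (a : S)⁻¹ * x⁻¹) * (x * (b : S)⁻¹ * x⁻¹)) = a * (b * (x * (a : S)⁻¹ * x⁻¹)) * (x * (b : S)⁻¹ * x⁻¹) := by group
          _ = a * ((x * (a : S)⁻¹ * x⁻¹) * b) * (x * (b : S)⁻¹ * x⁻¹) := by
            rw [hcA b b.2 _ (hAn.conj_mem _ (inv_mem a.2) x)]
          _ = _ := by group }
  have hδ : ∀ a : A, ((δ a : A) : S) = ⁅(a : S), x⁆ := by
    intro a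
    change (a : S) * (x * (a : S)⁻¹ * x⁻¹) = _
    rw [commutatorElement_def]; group
  have hker : δ.ker = (center S).subgroupOf A := by
    ext a
    rw [MonoidHom.mem_ker, mem_subgroupOf]
    constructor
    · intro h
      have h1 : ⁅(a : S), x⁆ = 1 := by rw [← hδ, h]; rfl
      rw [commutatorElement_eq_one_iff_mul_comm] at h1
      have h2 := htop (centralizer {(a : S)}) (fun b hb => mem_centralizer_singleton_iff.2 (hcA b hb a a.2)) (mem_centralizer_singleton_iff.2 h1.symm)
      rw [mem_center_iff]
      intro g
      exact mem_centralizer_singleton_iff.1 (by rw [h2]; exact mem_top g)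
    · intro h
      apply Subtype.ext
      rw [hδ]
      change ⁅(a : S), x⁆ = 1
      rw [commutatorElement_eq_one_iff_mul_comm]
      exact (mem_center_iff.1 h x).symm
  set R : Subgroup S := δ.range.map A.subtype with hR
  have hmemR : ∀ r, r ∈ R ↔ ∃ a ∈ A, ⁅a, x⁆ = r := by
    intro r
    rw [hR, mem_map]
    constructor
    · rintro ⟨_, ⟨a, rfl⟩, rfl⟩
      exact ⟨a, a.2, (hδ a).symm⟩
    · rintro ⟨a, ha, rfl⟩
      exact ⟨δ ⟨a, ha⟩, ⟨_, rfl⟩, hδ ⟨a, ha⟩⟩
  have hRA : R ≤ A := by rw [hR]; exact map_subtype_le _
  have hRn : R.Normal := by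
    rw [← normalizer_eq_top_iff]
    apply htop
    · intro a ha
      rw [mem_normalizer_iff]
      intro r
      constructor
      · intro hr
        have : a * r * a⁻¹ = r := by rw [hcA a ha r (hRA hr)]; group
        rwa [this]
      · intro hr
        have h1 : r = a⁻¹ * (a * r * a⁻¹) * a := by group
        have h2 : a⁻¹ * (a * r * a⁻¹) * a = a * r * a⁻¹ := by
          rw [hcA a⁻¹ (inv_mem ha) _ (hRA hr)]; group
        rw [h1, h2]; exact hr
    · have : ∀ r ∈ R, x * r * x⁻¹ ∈ R := by
        intro r hr
        obtain ⟨a, ha, rfl⟩ := (hmemR r).1 hr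
        apply (hmemR _).2
        refine ⟨x * a * x⁻¹, hAn.conj_mem _ ha x, ?_⟩
        simp only [commutatorElement_def]; group
      have h2 : R.map (MulAut.conj x).toMonoidHom = R := by
        apply Subgroup.eq_of_le_of_card_ge
        · rintro _ ⟨r, hr, rfl⟩
          exact this r hr
        · rw [card_map_of_injective (K := R) (f := (MulAut.conj x).toMonoidHom) (MulAut.conj x).injective]
      rw [mem_normalizer_iff]
      intro r
      constructor
      · exact this r
      · intro hr
        rw [← h2] at hr
        obtain ⟨r', hr', h3⟩ := hr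
        have : r' = r := by
          have h4 : x * r' * x⁻¹ = x * r * x⁻¹ := h3
          simpa using h4
        rwa [← this]
  have hcomm : commutator S = R := by
    apply le_antisymm
    · rw [_root_.commutator_def, commutator_le]
      -- quotient is commutative
      have hq : ∀ g h : S, ⁅g, h⁆ ∈ R ↔ Commute (QuotientGroup.mk' R g) (QuotientGroup.mk' R h) := by
        intro g h
        rw [← QuotientGroup.eq_one_iff (N := R)]
        change QuotientGroup.mk' R ⁅g, h⁆ = 1 ↔ _
        rw [map_commutatorElement, commutatorElement_eq_one_iff_commute]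
      have hcen : ∀ y : S, (∀ a ∈ A, ⁅a, y⁆ ∈ R) → ⁅x, y⁆ ∈ R → ∀ g : S, ⁅g, y⁆ ∈ R := by
        intro y h1 h2 g
        have h3 := htop ((centralizer {QuotientGroup.mk' R y}).comap (QuotientGroup.mk' R)) (fun a ha => by
          rw [mem_comap, mem_centralizer_singleton_iff]; exact (hq a y).1 (h1 a ha))
          (by rw [mem_comap, mem_centralizer_singleton_iff]; exact (hq x y).1 h2)
        have h4 : g ∈ ((centralizer {QuotientGroup.mk' R y}).comap (QuotientGroup.mk' R)) := by rw [h3]; exact mem_top _
        rw [mem_comap, mem_centralizer_singleton_iff] at h4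
        exact (hq g y).2 h4
      have hsym : ∀ g h : S, ⁅g, h⁆ ∈ R → ⁅h, g⁆ ∈ R := fun g h h1 => (hq h g).2 ((hq g h).1 h1).symm
      have hcx : ∀ g : S, ⁅g, x⁆ ∈ R := hcen x (fun a ha => (hmemR _).2 ⟨a, ha, rfl⟩) (by rw [commutatorElement_self]; exact one_mem _)
      have hca : ∀ a ∈ A, ∀ g : S, ⁅g, a⁆ ∈ R := fun a ha => hcen a (fun b hb => by
        rw [(commutatorElement_eq_one_iff_mul_comm).2 (hcA b hb a ha)]; exact one_mem _) (hsym _ _ (hcx a))
      intro g _ h _
      exact hcen h (fun a ha => hsym _ _ (hca a ha h)) (hsym _ _ (hcx h)) g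
    · intro r hr
      obtain ⟨a, ha, rfl⟩ := (hmemR r).1 hr
      exact commutator_mem_commutator (mem_top _) (mem_top _)
  have hcR : Nat.card (commutator S) = Nat.card δ.range := by
    rw [hcomm, hR, card_map_of_injective A.subtype_injective]
  have hcZ : Nat.card δ.ker = Nat.card (center S) := by
    rw [hker]
    exact Nat.card_congr (subgroupOfEquivOfLe hZA).toEquiv
  have hAc : Nat.card A = Nat.card (center S) * Nat.card (commutator S) := by
    rw [← card_mul_index δ.ker, index_ker, hcZ, hcR]
  have hidx : (center S).index = p * Nat.card (commutator S) := by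
    have h1 := (center S).card_mul_index
    have h2 := A.card_mul_index
    rw [hAi, hAc] at h2
    have h3 : 0 < Nat.card (center S) := Nat.card_pos
    apply Nat.eq_of_mul_eq_mul_left h3
    rw [h1, ← h2]; ring
  refine ⟨hidx, ?_⟩
  have hcne : Nat.card (commutator S) ≠ 1 := by
    intro h
    rw [card_eq_one] at h
    apply hna
    refine ⟨⟨fun a b => ?_⟩⟩
    have h1 : ⁅a, b⁆ ∈ commutator S := commutator_mem_commutator (mem_top _) (mem_top _)
    rw [h, mem_bot, commutatorElement_eq_one_iff_mul_comm] at h1
    exact h1
  obtain ⟨k, hk⟩ := IsPGroup.iff_card.1 (hS.to_subgroup (commutator S))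
  rcases (by
    rcases Nat.lt_or_ge k 1 with h | h
    · exact Or.inl (by omega)
    · rcases Nat.lt_or_ge k 2 with h' | h'
      · exact Or.inr (Or.inl (by omega))
      · exact Or.inr (Or.inr h') : k = 0 ∨ k = 1 ∨ 2 ≤ k) with h | h | h
  · rw [h, pow_zero] at hk
    exact absurd hk hcne
  · left
    rw [h, pow_one] at hk
    rw [hk] at hidx
    have hQ : Nat.card (S ⧸ center S) = p ^ 2 := by
      change (center S).index = _
      rw [hidx]; ring
    have hncyc : ¬ IsCyclic (S ⧸ center S) := by
      intro hcyc
      apply hna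
      exact ⟨⟨(commGroupOfCyclicCenterQuotient (QuotientGroup.mk' (center S)) (by rw [QuotientGroup.ker_mk'])).mul_comm⟩⟩
    -- centralizers
    have hC : ∀ s : S, s ∉ center S → IsMulCommutative ↥(centralizer {s}) ∧ (centralizer {s} : Subgroup S).index = p := by
      intro s hs
      have h1 : center S ≤ centralizer {s} := center_le_centralizer _
      have h2 : (centralizer {s} : Subgroup S) ≠ ⊤ := by
        intro h3
        apply hs
        rw [mem_center_iff]
        intro g
        exact mem_centralizer_singleton_iff.1 (by rw [h3]; exact mem_top g)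
      have hsC : s ∈ (centralizer {s} : Subgroup S) := mem_centralizer_singleton_iff.2 rfl
      have h4 : (center S).relIndex (centralizer {s}) * (centralizer {s} : Subgroup S).index = p ^ 2 := by
        rw [relIndex_mul_index h1, hidx]; ring
      obtain ⟨i, hi, hi'⟩ := (Nat.dvd_prime_pow hp).1 (Dvd.intro_left _ h4)
      have hi0 : i ≠ 0 := by
        rintro rfl
        rw [pow_zero] at hi'
        exact h2 (index_eq_one.1 hi')
      have hi2 : i ≠ 2 := by
        rintro rfl
        rw [hi'] at h4
        have h5 : (center S).relIndex (centralizer {s}) = 1 := by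
          have := pow_pos hp.pos 2
          exact Nat.eq_of_mul_eq_mul_right this (by rw [h4, one_mul])
        rw [relIndex_eq_one] at h5
        exact hs (h5 hsC)
      have hi1 : i = 1 := by omega
      rw [hi1, pow_one] at hi'
      refine ⟨?_, hi'⟩
      have h5 : (center S).relIndex (centralizer {s}) = p := by
        rw [hi', pow_two] at h4
        exact Nat.eq_of_mul_eq_mul_right hp.pos h4
      -- C/Z cyclic
      have h6 : center S ⊔ zpowers s = centralizer {s} := by
        apply le_antisymm (sup_le h1 (zpowers_le.2 hsC))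
        have h7 : (center S).relIndex (center S ⊔ zpowers s) ≠ 1 := by
          rw [Ne, relIndex_eq_one]
          intro h8
          exact hs (h8 (mem_sup_right (mem_zpowers s)))
        have h8 : (center S).relIndex (center S ⊔ zpowers s) * (center S ⊔ zpowers s).relIndex (centralizer {s}) = p := by
          rw [relIndex_mul_relIndex _ _ _ le_sup_left (sup_le h1 (zpowers_le.2 hsC)), h5]
        rcases (Nat.dvd_prime hp).1 (Dvd.intro _ h8) with h9 | h9
        · exact absurd h9 h7
        · rw [h9] at h8
          have : (center S ⊔ zpowers s).relIndex (centralizer {s}) = 1 :=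
            Nat.eq_of_mul_eq_mul_left hp.pos (by rw [h8, mul_one])
          exact relIndex_eq_one.1 this
      have h7 : ∀ a ∈ centralizer {s}, (centralizer {s} : Subgroup S) ≤ centralizer {a} := by
        intro a ha
        rw [← h6]
        apply sup_le (center_le_centralizer _)
        rw [zpowers_le, mem_centralizer_singleton_iff]
        exact (mem_centralizer_singleton_iff.1 ha).symm
      refine ⟨⟨fun a b => Subtype.ext ?_⟩⟩
      exact mem_centralizer_singleton_iff.1 (h7 b b.2 a.2)
    refine ⟨hk, ⟨⟨⟨?_⟩⟩, ?_⟩, hQ, ?_⟩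
    · intro a b
      apply Subtype.ext
      exact (IsPGroup.isMulCommutative_of_card_eq_prime_sq hQ).1.1 a b
    · intro a _
      by_cases ha : a = 1
      · rw [ha, one_pow]
      · have h1 : orderOf a ∣ p ^ 2 := by rw [← hQ]; exact orderOf_dvd_natCard a
        obtain ⟨i, hi, hi'⟩ := (Nat.dvd_prime_pow hp).1 h1
        have hi2 : i ≠ 2 := by
          rintro rfl
          exact hncyc (isCyclic_of_orderOf_eq_card a (by rw [hi', hQ]))
        have : orderOf a ∣ p := by
          rw [hi']
          calc p ^ i ∣ p ^ 1 := pow_dvd_pow p (by omega)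
            _ = p := pow_one p
        exact orderOf_dvd_iff_pow_eq_one.1 this
    · -- counting
      classical
      haveI := Fintype.ofFinite S
      let X := {B : Subgroup S // IsMulCommutative ↥B ∧ B.index = p}
      let f : {s : S // s ∉ center S} → X := fun s => ⟨centralizer {(s : S)}, hC s s.2⟩
      have hz : 0 < Nat.card (center S) := Nat.card_pos
      have hSc : Nat.card S = p ^ 2 * Nat.card (center S) := by
        rw [← (center S).card_mul_index, hidx]; ring
      have hfib : ∀ B : X, Nat.card {s : {s : S // s ∉ center S} // f s = B} = (p - 1) * Nat.card (center S) := by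
        intro B
        have hBi := B.2.2
        have hZB : center S ≤ B.1 := center_le hp hna B.2.1 hBi
        have e : {s : {s : S // s ∉ center S} // f s = B} ≃ (((B.1 : Set S) \ (center S : Set S) : Set S)) := by
          refine ⟨fun s => ⟨s.1.1, ?_, s.1.2⟩, fun s => ⟨⟨s.1, s.2.2⟩, ?_⟩, fun s => rfl, fun s => rfl⟩
          · have h1 : centralizer {(s.1.1 : S)} = B.1 := congrArg Subtype.val s.2
            change s.1.1 ∈ B.1
            rw [← h1]; exact mem_centralizer_singleton_iff.2 rfl
          · apply Subtype.ext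
            change centralizer {s.1} = B.1
            symm
            apply Subgroup.eq_of_le_of_card_ge
            · intro b hb
              rw [mem_centralizer_singleton_iff]
              exact congrArg Subtype.val (B.2.1.1.1 ⟨b, hb⟩ ⟨s.1, s.2.1⟩)
            · have h1 := (centralizer {s.1} : Subgroup S).card_mul_index
              have h2 := B.1.card_mul_index
              rw [(hC s.1 s.2.2).2] at h1
              rw [hBi] at h2
              exact (Nat.eq_of_mul_eq_mul_right hp.pos (h1.trans h2.symm)).le
        rw [Nat.card_congr e]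
        rw [Nat.card_coe_set_eq, Set.ncard_sdiff (by exact_mod_cast hZB)]
        have h3 : (B.1 : Set S).ncard = p * Nat.card (center S) := by
          have h2 := B.1.card_mul_index
          rw [hBi, hSc] at h2
          rw [← Nat.card_coe_set_eq]
          change Nat.card B.1 = _
          apply Nat.eq_of_mul_eq_mul_right hp.pos
          rw [h2]; ring
        have h4 : (center S : Set S).ncard = Nat.card (center S) := by
          rw [← Nat.card_coe_set_eq]; rfl
        rw [h3, h4, Nat.sub_mul, one_mul]
      have htot : Nat.card {s : S // s ∉ center S} = Nat.card X * ((p - 1) * Nat.card (center S)) := by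
        rw [← Nat.card_congr (Equiv.sigmaFiberEquiv f), Nat.card_sigma, Finset.sum_congr rfl (fun B _ => hfib B),
          Finset.sum_const, smul_eq_mul, Finset.card_univ, Nat.card_eq_fintype_card (α := X)]
      have htot2 : Nat.card {s : S // s ∉ center S} = (p ^ 2 - 1) * Nat.card (center S) := by
        have e : {s : S // s ∉ center S} ≃ (((⊤ : Subgroup S) : Set S) \ (center S : Set S) : Set S) :=
          ⟨fun s => ⟨s.1, mem_top _, s.2⟩, fun s => ⟨s.1, s.2.2⟩, fun s => rfl, fun s => rfl⟩
        rw [Nat.card_congr e, Nat.card_coe_set_eq, Set.ncard_sdiff (by exact_mod_cast (le_top : center S ≤ ⊤))]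
        have h4 : (center S : Set S).ncard = Nat.card (center S) := by
          rw [← Nat.card_coe_set_eq]; rfl
        have h5 : (((⊤ : Subgroup S) : Set S)).ncard = Nat.card S := by
          rw [coe_top, Set.ncard_univ]
        rw [h4, h5, hSc, Nat.sub_mul, one_mul]
      rw [htot2] at htot
      have h6 : (p ^ 2 - 1) = Nat.card X * (p - 1) := by
        apply Nat.eq_of_mul_eq_mul_right hz
        rw [htot]; ring
      obtain ⟨q, rfl⟩ : ∃ q, p = q + 1 := ⟨p - 1, by have := hp.one_lt; omega⟩
      have hq : 0 < q := by have := hp.one_lt; omega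
      have h7 : (q + 1) ^ 2 - 1 = (q + 2) * q := by
        have : (q + 1) ^ 2 = (q + 2) * q + 1 := by ring
        omega
      rw [h7, Nat.add_sub_cancel] at h6
      exact (Nat.eq_of_mul_eq_mul_right hq h6).symm
  · right
    refine ⟨by rw [hk]; exact Nat.pow_le_pow_right hp.pos h, ?_⟩
    intro B hB hBi
    by_contra hne
    have h1 : ¬ B ≤ A := by
      intro h2
      apply hne
      apply Subgroup.eq_of_le_of_card_ge h2
      have h3 := A.card_mul_index
      have h4 := B.card_mul_index
      rw [hAi] at h3
      rw [hBi] at h4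
      exact (Nat.eq_of_mul_eq_mul_right hp.pos (h3.trans h4.symm)).le
    have h2 := sup_top hp hAi h1
    have h3 : A ⊓ B ≤ center S := by
      intro z hz
      have h4 : (⊤ : Subgroup S) ≤ centralizer {z} := by
        rw [← h2]
        apply sup_le
        · intro a ha
          rw [mem_centralizer_singleton_iff]
          exact hcA a ha z hz.1
        · intro b hb
          rw [mem_centralizer_singleton_iff]
          exact congrArg Subtype.val (hB.1.1 ⟨b, hb⟩ ⟨z, hz.2⟩)
      rw [mem_center_iff]
      intro g
      exact mem_centralizer_singleton_iff.1 (h4 (mem_top g))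
    have h4 : (center S).index ≤ p * p := by
      calc (center S).index ≤ (A ⊓ B).index := Nat.le_of_dvd (Nat.pos_of_ne_zero index_ne_zero_of_finite) (index_dvd_of_le h3)
        _ ≤ A.index * B.index := index_inf_le
        _ = _ := by rw [hAi, hBi]
    rw [hidx, hk] at h4
    have h5 := Nat.le_of_mul_le_mul_left h4 hp.pos
    have h6 : p ^ k ≤ p ^ 1 := by simpa using h5
    have := (Nat.pow_le_pow_iff_right hp.one_lt).1 h6
    omega


end Cfsg.Agent.S3807
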