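import Cfsg.Statements.S3809
import Cfsg.Agent.H19_XspI

set_option autoImplicit false
open Cfsg

namespace Cfsg.Agent.S3809


/-- Let S be a finite p-group with an extraspecial subgroup of index p. Then S has order p^(2+2n) for some n ≥ 1, derived length at most 3, and exponent dividing p³. -/
theorem result {S : Type*} [Group S] [Finite S] (p : ℕ) [Fact p.Prime] (hS : IsPGroup p S) (Q : Subgroup S) (hQ : Cfsg.IsExtraspecial p ↥Q) (hQi : Q.index = p) :
    (∃ n : ℕ, 1 ≤ n ∧ Nat.card S = p ^ (2 + 2 * n)) ∧ derivedSeries S 3 = ⊥ ∧ ∀ x : S, x ^ (p ^ 3) = 1 := by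
  obtain ⟨n, h1, -, h2⟩ := H19.XspI.card_S Q hQ hQi
  exact ⟨⟨n, h1, h2⟩, H19.XspI.main2 hS Q hQ hQi⟩

end Cfsg.Agent.S3809
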