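import Cfsg.Statements.S3811
import Cfsg.Agent.H22_Soft

set_option autoImplicit false
open Cfsg

namespace Cfsg.Agent.S3811

open Subgroup
open scoped commutatorElement

universe u

variable {P : Type u} [Group P] [Finite P] {p : ℕ} [hp : Fact p.Prime]

theorem relIndex_step {A B C : Subgroup P} (hAB : A ≤ B) (hBC : B ≤ C) (hAC : A.relIndex C = p) (hne : ¬ B ≤ A) :
    C ≤ B := by
  have h := relIndex_mul_relIndex _ _ _ hAB hBC
  rw [hAC] at h
  rcases (Nat.dvd_prime hp.out).mp ⟨_, h.symm⟩ with h1 | h1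
  · rw [relIndex_eq_one] at h1
    exact absurd h1 hne
  · rw [h1] at h
    have h3 : B.relIndex C = 1 := Nat.eq_of_mul_eq_mul_left hp.out.pos (by rw [h, mul_one])
    rwa [relIndex_eq_one] at h3

theorem lt_normalizer (hP : IsPGroup p P) {K : Subgroup P} (hK : K ≠ ⊤) : K < normalizer (K : Set P) := by
  have h1 : NormalizerCondition P := by
    have := hP.isNilpotent
    exact Group.normalizerCondition_of_isNilpotent
  exact h1 K (lt_top_iff_ne_top.mpr hK)

theorem conj_mem_subgroupOf {K L : Subgroup P} {k : K} {x : P} (hL : L ≤ K)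
    (hk : (k : P) ∈ normalizer (L : Set P)) (hx : x ∈ L) : (k : P) * x * (k : P)⁻¹ ∈ L :=
  (mem_normalizer_iff.mp hk x).mp hx

theorem map_normalizer_le {K : Subgroup P} (L : Subgroup K) :
    (normalizer (L : Set K)).map K.subtype ≤ normalizer ((L.map K.subtype : Subgroup P) : Set P) := by
  rintro _ ⟨k, hk, rfl⟩
  apply H22.Basic.mem_normalizer_of_cj_le
  rintro _ ⟨_, ⟨l, hl, rfl⟩, rfl⟩
  exact ⟨k * l * k⁻¹, (mem_normalizer_iff.mp hk l).mp hl, rfl⟩

theorem relIndex_map_subtype {K : Subgroup P} (M : Subgroup K) : (M.map K.subtype).relIndex K = M.index := by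
  rw [relIndex, subgroupOf, comap_map_eq_self_of_injective K.subtype_injective]

/-- in `K`, the tower condition -/
theorem tower_sub (hP : IsPGroup p P) {E K : Subgroup P} (hEK : E ≤ K)
    (ih : ∀ L : Subgroup P, E ≤ L → L < K → L.relIndex (normalizer (L : Set P)) = p) (L : Subgroup K)
    (hL : E.subgroupOf K ≤ L) (hLt : L ≠ ⊤) : L.relIndex (normalizer (L : Set K)) = p := by
  have hKp : IsPGroup p K := hP.to_subgroup K
  have h1 := lt_normalizer hKp hLt
  have hEL : E ≤ L.map K.subtype := by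
    intro e he
    exact ⟨⟨e, hEK he⟩, hL (by rw [mem_subgroupOf]; exact he), rfl⟩
  have hLK : L.map K.subtype < K := by
    refine lt_of_le_of_ne (map_subtype_le L) ?_
    intro h
    apply hLt
    apply map_injective K.subtype_injective
    rw [h, ← MonoidHom.range_eq_map, range_subtype]
  have h2 := ih _ hEL hLK
  have h3 : L.map K.subtype ≤ (normalizer (L : Set K)).map K.subtype := map_mono h1.le
  have h4 := relIndex_mul_relIndex _ _ _ h3 (map_normalizer_le L)
  rw [h2, relIndex_map_map_of_injective _ _ K.subtype_injective] at h4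
  rcases (Nat.dvd_prime hp.out).mp ⟨_, h4.symm⟩ with h5 | h5
  · rw [relIndex_eq_one] at h5
    exact absurd h5 (not_le_of_gt h1)
  · exact h5

/-- overgroups form a chain -/
theorem chain (hP : IsPGroup p P) {E : Subgroup P}
    (h : ∀ L : Subgroup P, E ≤ L → L ≠ ⊤ → L.relIndex (normalizer (L : Set P)) = p) (K L : Subgroup P)
    (hK : E ≤ K) (hL : E ≤ L) : K ≤ L ∨ L ≤ K := by
  by_contra hcon
  push Not at hcon
  obtain ⟨h1, h2⟩ := hcon
  set D := K ⊓ L with hD
  have hED : E ≤ D := le_inf hK hL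
  have hDt : D ≠ ⊤ := by
    intro h3
    apply h1
    have : L = ⊤ := top_le_iff.mp (h3 ▸ inf_le_right)
    rw [this]; exact le_top
  have key : ∀ M : Subgroup P, D ≤ M → ¬ M ≤ D → normalizer (D : Set P) ≤ M := by
    intro M hDM hMD
    have h3 : D < M ⊓ normalizer (D : Set P) := by
      refine lt_of_le_of_ne (le_inf hDM le_normalizer) ?_
      intro h4
      have h5 : D.subgroupOf M ≠ ⊤ := by
        intro h6
        rw [subgroupOf_eq_top] at h6
        exact hMD h6
      obtain ⟨y, hy, hyD⟩ := SetLike.exists_of_lt (lt_normalizer (hP.to_subgroup M) h5)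
      apply hyD
      rw [mem_subgroupOf, h4]
      refine ⟨y.2, ?_⟩
      apply H22.Basic.mem_normalizer_of_cj_le
      rintro _ ⟨e, he, rfl⟩
      exact (mem_normalizer_iff.mp hy ⟨e, hDM he⟩).mp he
    exact (relIndex_step h3.le inf_le_right (h D hED hDt) (not_le_of_gt h3)).trans inf_le_left
  have h3 := key K inf_le_left (fun h => h1 (h.trans inf_le_right))
  have h4 := key L inf_le_right (fun h => h2 (h.trans inf_le_left))
  exact absurd (le_inf h3 h4) (not_le_of_gt (lt_normalizer hP hDt))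

theorem setup (hP : IsPGroup p P) {E K : Subgroup P} (hEK : E < K) (hKt : K ≠ ⊤)
    (hE : ∀ x ∈ E, ∀ y ∈ E, x * y = y * x) (hC : centralizer (E : Set P) ≤ E)
    (ih : ∀ L : Subgroup P, E ≤ L → L < K → L.relIndex (normalizer (L : Set P)) = p) :
    ∃ i : ℕ, 1 ≤ i ∧ (E.subgroupOf K).index = p ^ i ∧ (Subgroup.upperCentralSeries K i).index = p ^ 2 ∧
      (∀ M : Subgroup K, E.subgroupOf K ≤ M → M.index = p → Subgroup.upperCentralSeries K i ≤ M) ∧
      Subgroup.upperCentralSeries K (i + 1) = ⊤ := by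
  have hKp : IsPGroup p K := hP.to_subgroup K
  have hEt : E.subgroupOf K ≠ ⊤ := by
    intro h
    rw [subgroupOf_eq_top] at h
    exact absurd h (not_le_of_gt hEK)
  obtain ⟨i, hi⟩ := hKp.index (E.subgroupOf K)
  have hi1 : 1 ≤ i := by
    by_contra h
    have h0 : i = 0 := by omega
    rw [h0, pow_zero, index_eq_one] at hi
    exact hEt hi
  obtain ⟨h, hh, hhK⟩ := SetLike.exists_of_lt (lt_normalizer hP hKt)
  let φ : MulAut K := normalizerMonoidHom K ⟨h, hh⟩
  have hφ : ∀ x : K, ((φ x : K) : P) = h * x * h⁻¹ := fun x => rfl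
  have hT := tower_sub hP hEK.le ih
  refine ⟨i, hi1, hi, ?_⟩
  apply H22.Soft.tower p i hi1 K hKp (E.subgroupOf K) φ _ _ hT hi
  · -- generation
    by_contra hne
    obtain ⟨M, hM, hM'⟩ := (eq_top_or_exists_le_coatom (E.subgroupOf K ⊔ (E.subgroupOf K).map φ.toMonoidHom)).resolve_left hne
    have hMi := H2.PGroup.coatom_index hKp hM
    have hEM : E.subgroupOf K ≤ M := le_sup_left.trans hM'
    have hEM' : E.subgroupOf K ≤ M.comap φ.toMonoidHom := by
      rw [← map_le_iff_le_comap]; exact le_sup_right.trans hM'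
    have hMi' : (M.comap φ.toMonoidHom).index = p := by
      rw [index_comap_of_surjective M (f := φ.toMonoidHom) φ.surjective, hMi]
    have heq : M.comap φ.toMonoidHom = M := by
      have hc : Nat.card (M.comap φ.toMonoidHom) = Nat.card M := by
        have h1 := (M.comap φ.toMonoidHom).card_mul_index
        have h2 := M.card_mul_index
        rw [hMi'] at h1
        rw [hMi] at h2
        exact Nat.eq_of_mul_eq_mul_right hp.out.pos (h1.trans h2.symm)
      have hT' := tower_sub hP hEK.le ih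
      rcases chain hKp hT' _ _ hEM hEM' with h1 | h1
      · exact (H22.Basic.eq_of_le_of_card_le h1 hc.le).symm
      · exact H22.Basic.eq_of_le_of_card_le h1 hc.ge
    set M1 := M.map K.subtype with hM1
    have hM1K : M1 ≤ K := map_subtype_le M
    have hEM1 : E ≤ M1 := by
      intro e he
      exact ⟨⟨e, hEK.le he⟩, hEM (by rw [mem_subgroupOf]; exact he), rfl⟩
    have hM1lt : M1 < K := by
      refine lt_of_le_of_ne hM1K ?_
      intro h1
      apply hM.1
      apply map_injective K.subtype_injective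
      rw [← hM1, h1, ← MonoidHom.range_eq_map, range_subtype]
    have hKN : K ≤ normalizer (M1 : Set P) := by
      have h1 := map_normalizer_le M
      have h2 : normalizer (M : Set K) = ⊤ := by
        have := H2.PGroup.coatom_normal hKp hM
        exact normalizer_eq_top M
      rw [h2, ← MonoidHom.range_eq_map, range_subtype] at h1
      exact h1
    have hN := ih M1 hEM1 hM1lt
    have h1 : normalizer (M1 : Set P) ≤ K := relIndex_step hM1K hKN hN (not_le_of_gt hM1lt)
    apply hhK
    apply h1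
    rw [← inv_mem_iff]
    apply H22.Basic.mem_normalizer_of_cj_le
    rintro _ ⟨_, ⟨m, hm, rfl⟩, rfl⟩
    have h2 : φ.symm m ∈ M := by
      have h3 : φ.symm m ∈ M.comap φ.toMonoidHom := by
        rw [mem_comap]
        show φ (φ.symm m) ∈ M
        have h4 : φ (φ.symm m) = m := φ.apply_symm_apply m
        rw [h4]; exact hm
      rwa [heq] at h3
    refine ⟨φ.symm m, h2, ?_⟩
    have h3 := hφ (φ.symm m)
    have h4 : φ (φ.symm m) = m := φ.apply_symm_apply m
    rw [h4] at h3
    show ((φ.symm m : K) : P) = h⁻¹ * (m : P) * h⁻¹⁻¹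
    rw [h3]; group
  · intro x hx y hy
    exact Subtype.ext (hE x hx y hy)
  · intro x hx
    rw [mem_subgroupOf]
    apply hC
    rw [mem_centralizer_iff]
    intro e he
    exact congrArg Subtype.val (mem_centralizer_iff.mp hx ⟨e, hEK.le he⟩ he)

theorem relIndex_eq (hP : IsPGroup p P) {E : Subgroup P}
    (hE : ∀ x ∈ E, ∀ y ∈ E, x * y = y * x) (hC : centralizer (E : Set P) ≤ E)
    (hN : E.relIndex (normalizer (E : Set P)) = p) : ∀ n : ℕ, ∀ K : Subgroup P, Nat.card K = n → E ≤ K → K ≠ ⊤ →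
      K.relIndex (normalizer (K : Set P)) = p := by
  intro n
  induction n using Nat.strong_induction_on with
  | _ n IH =>
  intro K hKn hEK hKt
  rcases eq_or_lt_of_le hEK with h | hlt
  · rw [← h]; exact hN
  have ih : ∀ L : Subgroup P, E ≤ L → L < K → L.relIndex (normalizer (L : Set P)) = p := by
    intro L hL hLK
    exact IH (Nat.card L) (by rw [← hKn]; exact H22.Basic.card_lt_of_lt hLK) L rfl hL (by
      rintro rfl
      exact absurd le_top (not_le_of_gt hLK))
  have hKp : IsPGroup p K := hP.to_subgroup K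
  obtain ⟨i, hi1, hi, hZi, hZM, -⟩ := setup hP hlt hKt hE hC ih
  -- a maximal subgroup containing E
  have hEt : E.subgroupOf K ≠ ⊤ := by
    intro h
    rw [subgroupOf_eq_top] at h
    exact absurd h (not_le_of_gt hlt)
  obtain ⟨M, hM, hEM⟩ := (eq_top_or_exists_le_coatom (E.subgroupOf K)).resolve_left hEt
  have hMi := H2.PGroup.coatom_index hKp hM
  have hZM' := hZM M hEM hMi
  set M1 := M.map K.subtype with hM1
  have hM1K : M1 ≤ K := map_subtype_le M
  have hEM1 : E ≤ M1 := by
    intro e he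
    exact ⟨⟨e, hEK he⟩, hEM (by rw [mem_subgroupOf]; exact he), rfl⟩
  have hM1lt : M1 < K := by
    refine lt_of_le_of_ne hM1K ?_
    intro h1
    apply hM.1
    apply map_injective K.subtype_injective
    rw [← hM1, h1, ← MonoidHom.range_eq_map, range_subtype]
  have hKN : K ≤ normalizer (M1 : Set P) := by
    have h1 := map_normalizer_le M
    have h2 : normalizer (M : Set K) = ⊤ := by
      have := H2.PGroup.coatom_normal hKp hM
      exact normalizer_eq_top M
    rw [h2, ← MonoidHom.range_eq_map, range_subtype] at h1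
    exact h1
  have hNM1 : normalizer (M1 : Set P) ≤ K := relIndex_step hM1K hKN (ih M1 hEM1 hM1lt) (not_le_of_gt hM1lt)
  set H := normalizer (K : Set P) with hH
  have hKH : K ≤ H := le_normalizer
  have hHp : IsPGroup p H := hP.to_subgroup H
  -- Z in H
  set Z := (Subgroup.upperCentralSeries K i).map K.subtype with hZ
  have hZK : Z ≤ K := map_subtype_le _
  have hZM1 : Z ≤ M1 := map_mono hZM'
  have hHZ : H ≤ normalizer (Z : Set P) := by
    intro g hg
    apply H22.Basic.mem_normalizer_of_cj_le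
    rintro _ ⟨_, ⟨z, hz, rfl⟩, rfl⟩
    have hch : (Subgroup.upperCentralSeries K i).Characteristic := inferInstance
    have h1 := (characteristic_iff_map_eq.mp hch) (normalizerMonoidHom K ⟨g, hg⟩)
    refine ⟨normalizerMonoidHom K ⟨g, hg⟩ z, ?_, rfl⟩
    rw [SetLike.mem_coe, ← h1]
    exact ⟨z, hz, rfl⟩
  have hZrel : Z.relIndex K = p ^ 2 := by
    rw [← hZi, hZ, relIndex_map_subtype]
  have hZlt : Z < K := by
    refine lt_of_le_of_ne hZK ?_
    intro h
    rw [h, relIndex_self] at hZrel
    exact (Nat.one_lt_pow (by norm_num) hp.out.one_lt).ne hZrel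
  have hZn : (Z.subgroupOf H).Normal := by
    rwa [normal_subgroupOf_iff_le_normalizer (hZK.trans hKH)]
  have hKn' : (K.subgroupOf H).Normal := by
    rw [normal_subgroupOf_iff_le_normalizer hKH]
  have hlt' : Z.subgroupOf H < K.subgroupOf H := by
    refine lt_of_le_of_ne (fun x hx => hZK hx) ?_
    intro h
    have h1 := congrArg (Subgroup.map H.subtype) h
    rw [subgroupOf_map_subtype, subgroupOf_map_subtype, inf_eq_left.mpr (hZK.trans hKH), inf_eq_left.mpr hKH] at h1
    exact hZlt.ne h1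
  obtain ⟨Y, hYn, hZY, hYK, hYi, hcomm⟩ := H2.PGroup.exists_normal_relIndex hHp hlt'
  set Y0 := Y.map H.subtype with hY0
  have hY0K : Y0 ≤ K := by
    rintro _ ⟨y, hy, rfl⟩
    exact hYK hy
  have hZY0 : Z ≤ Y0 := by
    intro z hz
    exact ⟨⟨z, hKH (hZK hz)⟩, hZY (by rw [mem_subgroupOf]; exact hz), rfl⟩
  have hY0i : Y0.relIndex K = p := by
    have h1 : (K.subgroupOf H).map H.subtype = K := by rw [subgroupOf_map_subtype, inf_eq_left.mpr hKH]
    have h2 := relIndex_map_map_of_injective Y (K.subgroupOf H) H.subtype_injective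
    rw [h1] at h2
    rw [hY0, h2, hYi]
  have hZY0i : Z.relIndex Y0 = p := by
    have h1 := relIndex_mul_relIndex _ _ _ hZY0 hY0K
    rw [hY0i, hZrel, pow_two] at h1
    exact Nat.eq_of_mul_eq_mul_right hp.out.pos h1
  -- x in M1 \ Z
  have hZM1i : Z.relIndex M1 = p := by
    have h1 := relIndex_mul_relIndex _ _ _ hZM1 hM1K
    have h2 : M1.relIndex K = p := by
      rw [← hMi, hM1, relIndex_map_subtype]
    rw [h2, hZrel, pow_two] at h1
    exact Nat.eq_of_mul_eq_mul_right hp.out.pos h1
  have hZM1lt : Z < M1 := by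
    refine lt_of_le_of_ne hZM1 ?_
    intro h
    rw [h, relIndex_self] at hZM1i
    exact hp.out.one_lt.ne hZM1i
  obtain ⟨x, hxM, hxZ⟩ := SetLike.exists_of_lt hZM1lt
  have hxK : x ∈ K := hM1K hxM
  have hM1gen : M1 ≤ zpowers x ⊔ Z := by
    refine relIndex_step (A := Z) le_sup_right (sup_le (by rwa [zpowers_le]) hZM1) hZM1i ?_
    intro h
    exact hxZ (h (mem_sup_left (mem_zpowers x)))
  -- u normalizes M1 if u x u⁻¹ ∈ x Z
  have hu : ∀ u ∈ H, x⁻¹ * (u * x * u⁻¹) ∈ Z → u ∈ K := by
    intro u hu hux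
    apply hNM1
    apply H22.Basic.mem_normalizer_of_cj_le
    refine (H22.Basic.cj_mono hM1gen).trans ?_
    rw [H22.Basic.cj_sup]
    refine sup_le ?_ ?_
    · rintro _ ⟨y, hy, rfl⟩
      obtain ⟨n, rfl⟩ := hy
      have h1 : u * x * u⁻¹ ∈ M1 := by
        have h2 : u * x * u⁻¹ = x * (x⁻¹ * (u * x * u⁻¹)) := by group
        rw [h2]; exact mul_mem hxM (hZM1 hux)
      show (MulAut.conj u) (x ^ n) ∈ M1
      rw [map_zpow]
      exact zpow_mem h1 n
    · rw [H22.Basic.cj_eq_of_mem_normalizer (hHZ hu)]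
      exact hZM1
  -- the map
  have hf : ∀ g : H, (g : P) * x * (g : P)⁻¹ * x⁻¹ ∈ Y0 := by
    intro g
    have h1 : ⁅(⟨x, hKH hxK⟩ : H), g⁆ ∈ Y := hcomm (commutator_mem_commutator (by rw [mem_subgroupOf]; exact hxK) trivial)
    have h2 := inv_mem h1
    have h3 : (g : P) * x * (g : P)⁻¹ * x⁻¹ = ((⁅(⟨x, hKH hxK⟩ : H), g⁆⁻¹ : H) : P) := by
      rw [commutatorElement_def]
      simp only [Subgroup.coe_mul, Subgroup.coe_inv, mul_inv_rev, inv_inv]
      group
    rw [h3]
    exact ⟨_, h2, rfl⟩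
  let f : H ⧸ (K.subgroupOf H) → Y0 ⧸ (Z.subgroupOf Y0) := fun q => 
    QuotientGroup.mk (⟨(q.out : H) * x * ((q.out : H) : P)⁻¹ * x⁻¹, hf _⟩ : Y0)
  have hfinj : Function.Injective f := by
    intro q1 q2 hq
    have h1 := QuotientGroup.eq.mp hq
    rw [mem_subgroupOf] at h1
    simp only [Subgroup.coe_mul, Subgroup.coe_inv] at h1
    rw [← QuotientGroup.out_eq' q1, ← QuotientGroup.out_eq' q2]
    rw [QuotientGroup.eq, mem_subgroupOf]
    apply hu _ (SetLike.coe_mem _)
    set a : P := ((Quotient.out q1 : H) : P) with ha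
    set b : P := ((Quotient.out q2 : H) : P) with hb
    have haH : a ∈ H := SetLike.coe_mem _
    have h2 : ((a * x * a⁻¹ * x⁻¹)⁻¹ * (b * x * b⁻¹ * x⁻¹)) ∈ Z := h1
    have h3 : x⁻¹ * ((a * x * a⁻¹ * x⁻¹)⁻¹ * (b * x * b⁻¹ * x⁻¹)) * x⁻¹⁻¹ ∈ Z :=
      (mem_normalizer_iff.mp (hHZ (inv_mem (hKH hxK))) _).mp h2
    have h4 : a⁻¹ * (x⁻¹ * ((a * x * a⁻¹ * x⁻¹)⁻¹ * (b * x * b⁻¹ * x⁻¹)) * x⁻¹⁻¹) * a⁻¹⁻¹ ∈ Z :=
      (mem_normalizer_iff.mp (hHZ (inv_mem haH)) _).mp h3
    have h5 : x⁻¹ * ((((Quotient.out q1)⁻¹ * Quotient.out q2 : H) : P) * x * (((Quotient.out q1)⁻¹ * Quotient.out q2 : H) : P)⁻¹)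
        = a⁻¹ * (x⁻¹ * ((a * x * a⁻¹ * x⁻¹)⁻¹ * (b * x * b⁻¹ * x⁻¹)) * x⁻¹⁻¹) * a⁻¹⁻¹ := by
      simp only [Subgroup.coe_mul, Subgroup.coe_inv, ← ha, ← hb]
      group
    rw [h5]; exact h4
  have hle : K.relIndex H ≤ p := by
    have h1 := Nat.card_le_card_of_injective f hfinj
    have h2 : Nat.card (Y0 ⧸ (Z.subgroupOf Y0)) = p := hZY0i
    rw [h2] at h1
    exact h1
  obtain ⟨j, hj⟩ := hHp.index (K.subgroupOf H)
  have hj' : K.relIndex H = p ^ j := hj
  have hj1 : j ≠ 0 := by
    rintro rfl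
    rw [pow_zero, relIndex_eq_one] at hj'
    exact absurd hj' (not_le_of_gt (lt_normalizer hP hKt))
  rw [hj'] at hle ⊢
  have h2 : p ^ j ≤ p ^ 1 := by rwa [pow_one]
  have h3 := (Nat.pow_le_pow_iff_right hp.out.one_lt).mp h2
  have h4 : j = 1 := by omega
  rw [h4, pow_one]

theorem nilpotencyClass_eq {G : Type*} [Group G] [hG : Group.IsNilpotent G] {n : ℕ}
    (h1 : Subgroup.upperCentralSeries G n ≠ ⊤) (h2 : Subgroup.upperCentralSeries G (n + 1) = ⊤) :
    Group.nilpotencyClass G = n + 1 := by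
  apply le_antisymm
  · by_contra hlt
    push Not at hlt
    have : ∃ k, Subgroup.upperCentralSeries G k = ⊤ := ⟨_, h2⟩
    classical
    rw [Group.nilpotencyClass, dif_pos hG] at hlt
    exact Nat.find_min _ hlt h2
  · by_contra hlt
    push Not at hlt
    have h3 := Subgroup.upperCentralSeries_nilpotencyClass (G := G)
    apply h1
    rw [eq_top_iff, ← h3]
    exact Subgroup.upperCentralSeries_mono G (by omega)

/-- Let P be a finite p-group and E an abelian subgroup of P that contains its centralizer, has index p in its normalizer, and has index at least p² in P. Then the subgroups of P containing E are totally ordered by inclusion, each proper one has index p in its normalizer (so they form the normalizer tower of E, with all steps of index p), and the i-th member of the tower above E has nilpotency class i + 1 whenever it is a proper subgroup of P. -/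
theorem result {P : Type*} [Group P] [Finite P] (p : ℕ) [Fact p.Prime] (hP : IsPGroup p P)
    (E : Subgroup P) (hEab : IsMulCommutative ↥E) (hC : Subgroup.centralizer (E : Set P) ≤ E)
    (hN : (E.subgroupOf (Subgroup.normalizer (E : Set P))).index = p) (hidx : p ^ 2 ≤ E.index) :
    (∀ K L : Subgroup P, E ≤ K → E ≤ L → K ≤ L ∨ L ≤ K) ∧
      (∀ K : Subgroup P, E ≤ K → K ≠ ⊤ → (K.subgroupOf (Subgroup.normalizer (K : Set P))).index = p) ∧
      ∀ (i : ℕ) (K : Subgroup P) [Group.IsNilpotent ↥K], E ≤ K → K ≠ ⊤ → K.index * p ^ i = E.index →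
        Group.nilpotencyClass ↥K = i + 1 := by
  have hp : p.Prime := Fact.out
  have hE : ∀ x ∈ E, ∀ y ∈ E, x * y = y * x := fun x hx y hy =>
    congrArg Subtype.val (hEab.is_comm.comm ⟨x, hx⟩ ⟨y, hy⟩)
  have h2 : ∀ K : Subgroup P, E ≤ K → K ≠ ⊤ → K.relIndex (normalizer (K : Set P)) = p :=
    fun K hK hKt => relIndex_eq hP hE hC hN (Nat.card K) K rfl hK hKt
  refine ⟨chain hP h2, h2, ?_⟩
  intro i K hKnil hEK hKt hi
  have hKi := relIndex_mul_index hEK
  have hKi0 : 0 < K.index := Nat.pos_of_ne_zero K.index_ne_zero_of_finite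
  rcases eq_or_lt_of_le hEK with h | hlt
  · have hi0 : i = 0 := by
      rw [h] at hi
      by_contra hne
      have h3 : K.index * 1 < K.index * p ^ i := Nat.mul_lt_mul_of_pos_left (Nat.one_lt_pow hne hp.one_lt) hKi0
      omega
    rw [hi0]
    apply nilpotencyClass_eq
    · rw [Subgroup.upperCentralSeries_zero]
      intro h3
      have h4 : K = ⊥ := by
        have h5 : Nat.card K = 1 := by
          rw [← card_top (G := K), ← h3, card_bot]
        rwa [card_eq_one] at h5
      rw [← h] at h4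
      rw [h4] at hC hidx
      have h5 : (⊤ : Subgroup P) ≤ ⊥ := by
        intro g _
        apply hC
        rw [mem_centralizer_iff]
        intro y hy
        rw [SetLike.mem_coe, mem_bot] at hy
        rw [hy]; simp
      have h6 : (⊥ : Subgroup P) = ⊤ := le_antisymm bot_le h5
      rw [h6, index_top] at hidx
      have := Nat.one_lt_pow (n := 2) (by norm_num) hp.one_lt
      omega
    · rw [zero_add, Subgroup.upperCentralSeries_one, eq_top_iff]
      intro x _
      rw [mem_center_iff]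
      intro g
      exact Subtype.ext (hE g (h ▸ g.2) x (h ▸ x.2))
  · obtain ⟨j, hj1, hj, hZi, -, hZt⟩ := setup hP hlt hKt hE hC (fun L hL hLK => h2 L hL (by
      rintro rfl
      exact absurd le_top (not_le_of_gt hLK)))
    have hij : i = j := by
      have h3 : E.relIndex K = p ^ j := hj
      rw [h3] at hKi
      have h4 : K.index * p ^ i = K.index * p ^ j := by rw [hi, ← hKi, mul_comm]
      exact Nat.pow_right_injective hp.two_le (Nat.eq_of_mul_eq_mul_left hKi0 h4)
    rw [hij]
    apply nilpotencyClass_eq _ hZt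
    intro h3
    rw [h3, index_top] at hZi
    exact (Nat.one_lt_pow (n := 2) (by norm_num) hp.one_lt).ne hZi

end Cfsg.Agent.S3811
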