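import Cfsg.Statements.S3824
import Cfsg.Agent.H23_Kazarin

set_option autoImplicit false
open Cfsg

namespace Cfsg.Agent.S3824

open Subgroup

theorem aux (n : ℕ) : ∀ (G : Type*) [Group G] [Finite G], Nat.card G = n → ∀ A : Subgroup G, IsMulCommutative A →
    (∃ k : ℕ, A.index = 2 ^ k) → Group.IsSolvable G := by
  induction n using Nat.strong_induction_on with
  | _ n ih =>
  intro G _ _ hn A hA hidx
  by_cases hbot : A = ⊥
  · subst hbot
    obtain ⟨k, hk⟩ := hidx
    rw [Subgroup.index_bot] at hk
    have h1 : IsPGroup 2 G := IsPGroup.of_card hk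
    have := Fact.mk Nat.prime_two
    have := h1.isNilpotent
    infer_instance
  · obtain ⟨a, haA, ha1⟩ := (Subgroup.bot_or_exists_ne_one A).resolve_left hbot
    obtain ⟨k, hk⟩ := hidx
    have h1 : A ≤ centralizer ({a} : Set G) := by
      intro b hb
      rw [mem_centralizer_singleton_iff]
      exact congrArg Subtype.val (hA.is_comm.comm (⟨b, hb⟩ : A) ⟨a, haA⟩)
    have h2 : (centralizer ({a} : Set G)).index ∣ 2 ^ k := by rw [← hk]; exact Subgroup.index_dvd_of_le h1
    obtain ⟨j, _, hj⟩ := (Nat.dvd_prime_pow Nat.prime_two).mp h2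
    have hS := H23.Kazarin.kazarin a Nat.prime_two j hj
    set N := normalClosure ({a} : Set G) with hN
    have haN : a ∈ N := subset_normalClosure (Set.mem_singleton a)
    have hNb : N ≠ ⊥ := by
      intro h
      rw [h, Subgroup.mem_bot] at haN
      exact ha1 haN
    have hlt : Nat.card (G ⧸ N) < n := by
      have h3 := Subgroup.card_eq_card_quotient_mul_card_subgroup N
      have h4 : 1 < Nat.card N := (Subgroup.one_lt_card_iff_ne_bot _).mpr hNb
      have h5 : 0 < Nat.card (G ⧸ N) := Nat.card_pos
      rw [← hn, h3]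
      nlinarith
    have hQ : Group.IsSolvable (G ⧸ N) := by
      refine ih _ hlt (G ⧸ N) rfl (A.map (QuotientGroup.mk' N)) ?_ ?_
      · constructor; constructor
        rintro ⟨_, x, hx, rfl⟩ ⟨_, y, hy, rfl⟩
        apply Subtype.ext
        show QuotientGroup.mk' N x * QuotientGroup.mk' N y = QuotientGroup.mk' N y * QuotientGroup.mk' N x
        rw [← map_mul, ← map_mul]
        have : x * y = y * x := congrArg Subtype.val (hA.is_comm.comm (⟨x, hx⟩ : A) ⟨y, hy⟩)
        rw [this]
      · have h3 : (A.map (QuotientGroup.mk' N)).index ∣ 2 ^ k := by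
          rw [← hk]
          exact Subgroup.index_map_dvd _ (QuotientGroup.mk'_surjective N)
        obtain ⟨i, _, hi⟩ := (Nat.dvd_prime_pow Nat.prime_two).mp h3
        exact ⟨i, hi⟩
    exact (Group.isSolvable_iff_subgroup_quotient N).mpr ⟨hS, hQ⟩
  
/-- A finite group with an abelian subgroup of 2-power index is solvable. -/
theorem result {G : Type*} [Group G] [Finite G]
    (A : Subgroup G) (hA : IsMulCommutative A) (hidx : ∃ k : ℕ, A.index = 2 ^ k) : Group.IsSolvable G :=
  aux _ G rfl A hA hidx

end Cfsg.Agent.S3824
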