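import Cfsg.Statements.S3861
import Cfsg.Agent.H22_Real
import Cfsg.Agent.H4_BaerSuzuki

set_option autoImplicit false
open Cfsg

namespace Cfsg.Agent.S3861

open Subgroup H22.Basic

theorem aux (n : ℕ) : ∀ (G : Type*) [Group G] [Finite G], Nat.card G = n →
    (∀ x : G, x ≠ 1 → Odd (orderOf x) → ¬ IsConj x x⁻¹) → ∃ N : Subgroup G, N.Normal ∧ IsPGroup 2 N ∧ ¬ 2 ∣ N.index := by
  induction n using Nat.strong_induction_on with
  | _ n ih =>
  intro G _ _ hn h
  have := Fact.mk Nat.prime_two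
  by_cases h2 : 2 ∣ Nat.card G
  · obtain ⟨t, ht⟩ := exists_prime_orderOf_dvd_card' (G := G) 2 h2
    have ht2 : t ^ 2 = 1 := by rw [← ht, pow_orderOf_eq_one]
    have ht1 : t ≠ 1 := by rintro rfl; rw [orderOf_one] at ht; omega
    obtain ⟨N, hN, hN2, hle⟩ := H4.BaerSuzuki.baer_suzuki (p := 2) (zpowers t) (IsPGroup.of_card (n := 1) (by rw [Nat.card_zpowers, ht, pow_one])) (by
      intro g
      have hmap : (zpowers t).map (MulAut.conj g).toMonoidHom = zpowers (g * t * g⁻¹) := by
        rw [MonoidHom.map_zpowers]; rfl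
      rw [hmap]
      set s := g * t * g⁻¹ with hs
      have hs2 : s ^ 2 = 1 := by rw [hs, conj_pow, ht2, mul_one, mul_inv_cancel]
      set r := t * s with hr
      obtain ⟨a, m, hm, hord⟩ := Nat.exists_eq_pow_mul_and_not_dvd (orderOf_pos r).ne' 2 (by norm_num)
      apply H22.Real.two_group_of_involutions t s ht2 hs2 (k := a)
      rw [← hr, hord]
      have hm1 : m = 1 := by
        by_contra hm1
        have ho : orderOf (r ^ 2 ^ a) = m := by
          rw [orderOf_pow' r (pow_ne_zero _ two_ne_zero), hord, Nat.gcd_mul_right_left, Nat.mul_div_cancel_left _ (pow_pos two_pos _)]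
        apply h (r ^ 2 ^ a)
        · intro h1
          rw [h1, orderOf_one] at ho
          exact hm1 ho.symm
        · rw [ho]; exact Nat.odd_iff.mpr (by omega)
        · rw [isConj_iff]
          refine ⟨t, ?_⟩
          have ht' : t⁻¹ = t := inv_eq_of_mul_eq_one_right (by rw [← sq]; exact ht2)
          have hs' : s⁻¹ = s := inv_eq_of_mul_eq_one_right (by rw [← sq]; exact hs2)
          have h3 : t * r * t⁻¹ = r⁻¹ := by
            rw [hr, mul_inv_rev, hs', ht']
            calc t * (t * s) * t = (t ^ 2) * s * t := by rw [sq]; group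
              _ = s * t := by rw [ht2, one_mul]
          rw [← conj_pow, h3, inv_pow]
      rw [hm1, mul_one])
    have htN : t ∈ N := hle (mem_zpowers t)
    have hNb : N ≠ ⊥ := by
      rintro rfl
      exact ht1 (Subgroup.mem_bot.mp htN)
    have hlt : Nat.card (G ⧸ N) < n := by
      rw [← hn]
      have h3 := Subgroup.card_eq_card_quotient_mul_card_subgroup N
      have h4 : 1 < Nat.card N := (Subgroup.one_lt_card_iff_ne_bot _).mpr hNb
      have h5 : 0 < Nat.card (G ⧸ N) := Nat.card_pos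
      rw [h3]; nlinarith
    obtain ⟨M, hM, hM2, hMi⟩ := ih _ hlt (G ⧸ N) rfl (by
      intro x hx hodd hreal
      obtain ⟨y, hy1, hyo, hyr⟩ := H22.Real.real_lift N hN2 x hx (Nat.coprime_two_right.mpr hodd) hreal
      exact h y hy1 (Nat.coprime_two_right.mp hyo) hyr)
    refine ⟨M.comap (QuotientGroup.mk' N), hM.comap _, ?_, ?_⟩
    · exact hM2.comap_of_ker_isPGroup _ (by rw [QuotientGroup.ker_mk']; exact hN2)
    · rwa [Subgroup.index_comap_of_surjective _ (QuotientGroup.mk'_surjective N)]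
  · exact ⟨⊥, inferInstance, IsPGroup.of_bot, by rwa [Subgroup.index_bot]⟩

/-- A finite group has no nontrivial real element of odd order iff it has a normal Sylow 2-subgroup. -/
theorem result {G : Type*} [Group G] [Finite G] (P : Sylow 2 G) : (∀ x : G, x ≠ 1 → Odd (orderOf x) → ¬ IsConj x x⁻¹) ↔ (P : Subgroup G).Normal := by
  have := Fact.mk Nat.prime_two
  constructor
  · intro h
    obtain ⟨N, hN, hN2, hNi⟩ := aux _ G rfl h
    have h1 : N ≤ P := hN2.le_sylow_of_normal P
    have h2 : N.relIndex (P : Subgroup G) = 1 := by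
      have h3 : N.relIndex (P : Subgroup G) ∣ N.index := Subgroup.relIndex_dvd_index_of_le h1
      obtain ⟨m, hm⟩ := P.isPGroup'.exists_card_eq
      have h4 : N.relIndex (P : Subgroup G) ∣ 2 ^ m := by rw [← hm]; exact Subgroup.relIndex_dvd_card _ _
      obtain ⟨k, _, hk⟩ := (Nat.dvd_prime_pow Nat.prime_two).mp h4
      rw [hk] at h3 ⊢
      rcases Nat.eq_zero_or_pos k with h5 | h5
      · rw [h5, pow_zero]
      · exact absurd ((dvd_pow_self 2 h5.ne').trans h3) hNi
    have h3 : (P : Subgroup G) = N := le_antisymm (Subgroup.relIndex_eq_one.mp h2) h1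
    rw [h3]; exact hN
  · intro hP x hx hodd hreal
    obtain ⟨g, hg⟩ := isConj_iff.mp hreal
    have hm : Odd (P : Subgroup G).index := by
      rw [← Nat.not_even_iff_odd]
      intro he
      exact P.not_dvd_index he.two_dvd
    have hgm : g ^ (P : Subgroup G).index ∈ (P : Subgroup G) := by
      rw [← QuotientGroup.eq_one_iff (N := (P : Subgroup G)), QuotientGroup.mk_pow, Subgroup.index_eq_card]
      exact pow_card_eq_one'
    have key : ∀ j : ℕ, g ^ (2 * j) * x * (g ^ (2 * j))⁻¹ = x := by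
      intro j
      induction j with
      | zero => simp
      | succ j ih =>
        have : g ^ (2 * (j + 1)) = g ^ (2 * j) * g * g := by rw [mul_add, mul_one, pow_add, pow_two, mul_assoc]
        rw [this]
        calc g ^ (2 * j) * g * g * x * (g ^ (2 * j) * g * g)⁻¹ = g ^ (2 * j) * (g * (g * x * g⁻¹) * g⁻¹) * (g ^ (2 * j))⁻¹ := by group
          _ = g ^ (2 * j) * (g * x⁻¹ * g⁻¹) * (g ^ (2 * j))⁻¹ := by rw [hg]
          _ = g ^ (2 * j) * (g * x * g⁻¹)⁻¹ * (g ^ (2 * j))⁻¹ := by group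
          _ = g ^ (2 * j) * x * (g ^ (2 * j))⁻¹ := by rw [hg, inv_inv]
          _ = x := ih
    obtain ⟨j, hj⟩ := hm
    set w := g ^ (P : Subgroup G).index with hw
    have h1 : w * x * w⁻¹ = x⁻¹ := by
      rw [hw, hj, pow_succ]
      calc g ^ (2 * j) * g * x * (g ^ (2 * j) * g)⁻¹ = g ^ (2 * j) * (g * x * g⁻¹) * (g ^ (2 * j))⁻¹ := by group
        _ = (g ^ (2 * j) * x * (g ^ (2 * j))⁻¹)⁻¹ := by rw [hg]; group
        _ = x⁻¹ := by rw [key]
    have h2 : x ^ 2 ∈ (P : Subgroup G) := by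
      have h3 : x ^ 2 = (w * (x * w⁻¹ * x⁻¹))⁻¹ := by
        have : w * (x * w⁻¹ * x⁻¹) = w * x * w⁻¹ * x⁻¹ := by group
        rw [this, h1, ← mul_inv_rev, inv_inv, sq]
      rw [h3]
      exact inv_mem (mul_mem hgm (hP.conj_mem _ (inv_mem hgm) x))
    obtain ⟨k, hk⟩ := P.isPGroup' ⟨x ^ 2, h2⟩
    have h3 : (x ^ 2) ^ 2 ^ k = 1 := congrArg Subtype.val hk
    rw [← pow_mul, ← pow_succ'] at h3
    have h4 : orderOf x ∣ 2 ^ (k + 1) := orderOf_dvd_of_pow_eq_one h3
    have h5 : orderOf x = 1 := Nat.eq_one_of_dvd_coprimes (Nat.Coprime.pow_right (k + 1) (Nat.coprime_two_right.mpr hodd)) dvd_rfl h4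
    exact hx (orderOf_eq_one_iff.mp h5)

end Cfsg.Agent.S3861
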