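import Cfsg.Statements.S3863
import Cfsg.Agent.H22_Basic

set_option autoImplicit false
open Cfsg

namespace Cfsg.Agent.S3863

open Subgroup

theorem exists_two {G : Type*} [Group G] [Finite G] (x : G) (hx : IsConj x x⁻¹) :
    ∃ t : G, (∃ j : ℕ, orderOf t = 2 ^ j) ∧ t * x * t⁻¹ = x⁻¹ := by
  obtain ⟨g, hg⟩ := isConj_iff.mp hx
  obtain ⟨k, m, hm, hcard⟩ := Nat.exists_eq_two_pow_mul_odd (n := orderOf g) (orderOf_pos g).ne'
  refine ⟨g ^ m, ⟨k, ?_⟩, ?_⟩
  · rw [orderOf_pow_of_dvd (by rintro rfl; simp at hm) (by rw [hcard]; exact Dvd.intro_left _ rfl), hcard,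
      Nat.mul_div_cancel _ hm.pos]
  · have key : ∀ n : ℕ, g ^ (2 * n) * x * (g ^ (2 * n))⁻¹ = x := by
      intro n
      induction n with
      | zero => simp
      | succ n ih =>
        have h1 : g ^ (2 * (n + 1)) = g * (g * g ^ (2 * n)) := by
          rw [← pow_succ', ← pow_succ']; congr 1
        rw [h1]
        calc g * (g * g ^ (2 * n)) * x * (g * (g * g ^ (2 * n)))⁻¹
            = g * (g * (g ^ (2 * n) * x * (g ^ (2 * n))⁻¹) * g⁻¹) * g⁻¹ := by group
          _ = g * x⁻¹ * g⁻¹ := by rw [ih, hg]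
          _ = (g * x * g⁻¹)⁻¹ := by group
          _ = x := by rw [hg, inv_inv]
    obtain ⟨n, rfl⟩ := hm
    have h1 : g ^ (2 * n + 1) = g * g ^ (2 * n) := by rw [← pow_succ']
    rw [h1]
    calc g * g ^ (2 * n) * x * (g * g ^ (2 * n))⁻¹ = g * (g ^ (2 * n) * x * (g ^ (2 * n))⁻¹) * g⁻¹ := by group
      _ = x⁻¹ := by rw [key, hg]

theorem eq_one_of_odd {G : Type*} [Group G] [Finite G] (hG : Odd (Nat.card G)) (t : G) (j : ℕ) (h : t ^ 2 ^ j = 1) :
    t = 1 := by
  rw [← orderOf_eq_one_iff]
  have h1 : orderOf t ∣ 2 ^ j := orderOf_dvd_of_pow_eq_one h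
  have h2 : orderOf t ∣ Nat.card G := orderOf_dvd_natCard t
  have h3 : Nat.Coprime (2 ^ j) (Nat.card G) := Nat.Coprime.pow_left _ (Nat.coprime_two_left.mpr hG)
  exact Nat.eq_one_of_dvd_coprimes h3 h1 h2

/-- Let x be an element of the finite group G that is conjugate to its inverse. Then some 2-element conjugates x to its inverse; if the conjugacy class of x has odd size then x ^ 2 = 1; and x lies in, and is conjugate to its inverse inside, every normal subgroup of odd index. -/
theorem result {G : Type*} [Group G] [Finite G] (x : G) (hx : IsConj x x⁻¹) : (∃ t : G, (∃ j : ℕ, orderOf t = 2 ^ j) ∧ t * x * t⁻¹ = x⁻¹) ∧ (Odd (Subgroup.centralizer ({x} : Set G)).index → x ^ 2 = 1) ∧ ∀ (N : Subgroup G) [N.Normal], Odd N.index → ∃ hxN : x ∈ N, IsConj (⟨x, hxN⟩ : N) (⟨x, hxN⟩ : N)⁻¹ := by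
  obtain ⟨t, ⟨j, hj⟩, ht⟩ := exists_two x hx
  refine ⟨⟨t, ⟨j, hj⟩, ht⟩, ?_, ?_⟩
  · intro hodd
    by_contra hne
    have hne' : x ≠ x⁻¹ := by
      intro h
      apply hne
      rw [pow_two]
      nth_rewrite 2 [h]
      exact mul_inv_cancel x
    let D : Subgroup G :=
      { carrier := {g | g * x * g⁻¹ = x ∨ g * x * g⁻¹ = x⁻¹}
        one_mem' := by left; simp
        mul_mem' := by
          intro a b ha hb
          have h1 : a * b * x * (a * b)⁻¹ = a * (b * x * b⁻¹) * a⁻¹ := by group
          have h2 : a * x⁻¹ * a⁻¹ = (a * x * a⁻¹)⁻¹ := by group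
          simp only [Set.mem_ofPred_eq] at ha hb ⊢
          rw [h1]
          rcases hb with hb | hb
          · rw [hb]; exact ha
          · rw [hb, h2]
            rcases ha with ha | ha
            · right; rw [ha]
            · left; rw [ha, inv_inv]
        inv_mem' := by
          intro a ha
          simp only [Set.mem_ofPred_eq] at ha ⊢
          rcases ha with ha | ha
          · left; nth_rewrite 1 [← ha]; group
          · right
            have : a⁻¹ * x * a⁻¹⁻¹ = (a⁻¹ * (x⁻¹) * a)⁻¹ := by group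
            rw [this]
            nth_rewrite 1 [← ha]; group }
    have hCD : centralizer ({x} : Set G) ≤ D := by
      intro g hg
      left
      rw [mem_centralizer_singleton_iff] at hg
      rw [hg]; group
    have h2 : (centralizer ({x} : Set G)).relIndex D = 2 := by
      unfold Subgroup.relIndex
      rw [Subgroup.index_eq_two_iff]
      refine ⟨⟨t, Or.inr ht⟩, ?_⟩
      rintro ⟨b, hb⟩
      rw [mem_subgroupOf, mem_subgroupOf, Subgroup.coe_mul]
      have e1 : b ∈ centralizer ({x} : Set G) ↔ b * x * b⁻¹ = x := by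
        rw [mem_centralizer_singleton_iff, mul_inv_eq_iff_eq_mul]
      have e2 : b * t ∈ centralizer ({x} : Set G) ↔ b * x * b⁻¹ = x⁻¹ := by
        rw [mem_centralizer_singleton_iff]
        have h3 : b * x * b⁻¹ = x⁻¹ ↔ b * (t * x * t⁻¹) * b⁻¹ = x := by
          rw [ht]
          constructor
          · intro h
            have : b * x⁻¹ * b⁻¹ = (b * x * b⁻¹)⁻¹ := by group
            rw [this, h, inv_inv]
          · intro h
            have : b * x * b⁻¹ = (b * x⁻¹ * b⁻¹)⁻¹ := by group
            rw [this, h]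
        rw [h3]
        constructor
        · intro h
          have : b * (t * x * t⁻¹) * b⁻¹ = (b * t * x) * (b * t)⁻¹ := by group
          rw [this, h]; group
        · intro h
          have : b * t * x = (b * (t * x * t⁻¹) * b⁻¹) * (b * t) := by group
          rw [this, h]
      show Xor' (b * t ∈ centralizer ({x} : Set G)) (b ∈ centralizer ({x} : Set G))
      rw [e1, e2]
      rcases hb with hb | hb
      · right; exact ⟨hb, fun h => hne' (hb.symm.trans h)⟩
      · left; exact ⟨hb, fun h => hne' (h.symm.trans hb)⟩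
    have h3 : 2 ∣ (centralizer ({x} : Set G)).index := by
      rw [← h2, ← Subgroup.relIndex_mul_index hCD]
      exact Dvd.intro _ rfl
    exact (Nat.not_even_iff_odd.mpr hodd) (even_iff_two_dvd.mpr h3)
  · intro N _ hN
    have hcard : Odd (Nat.card (G ⧸ N)) := hN
    have htN : t ∈ N := by
      rw [← QuotientGroup.eq_one_iff]
      apply eq_one_of_odd hcard _ j
      rw [← QuotientGroup.mk_pow, ← hj, pow_orderOf_eq_one]; rfl
    have hxN : x ∈ N := by
      rw [← QuotientGroup.eq_one_iff]
      apply eq_one_of_odd hcard _ 1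
      have h1 : (QuotientGroup.mk (t * x * t⁻¹) : G ⧸ N) = QuotientGroup.mk x⁻¹ := by rw [ht]
      rw [QuotientGroup.mk_mul, QuotientGroup.mk_mul, QuotientGroup.mk_inv, (QuotientGroup.eq_one_iff t).mpr htN,
        one_mul, inv_one, mul_one, QuotientGroup.mk_inv] at h1
      rw [pow_one, pow_two]
      nth_rewrite 2 [h1]
      exact mul_inv_cancel _
    refine ⟨hxN, isConj_iff.mpr ⟨⟨t, htN⟩, Subtype.ext ht⟩⟩

end Cfsg.Agent.S3863
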