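import Cfsg.Statements.S3868
import Cfsg.Agent.H22_MinPCl

set_option autoImplicit false
open Cfsg

namespace Cfsg.Agent.S3868

open Subgroup

theorem exists_prime_card_or {G : Type*} [Group G] [Finite G] {p : ℕ} [hp : Fact p.Prime] {P : Subgroup G}
    (hP : IsPGroup p P) (hPb : P ≠ ⊥) (h : ∀ P0 < P, P0 = ⊥) : Nat.card P = p := by
  have hnt : Nontrivial P := (Subgroup.nontrivial_iff_ne_bot P).mpr hPb
  have hdvd : p ∣ Nat.card P := by
    obtain ⟨n, hn⟩ := IsPGroup.iff_card.mp hP
    have h1 : n ≠ 0 := by
      rintro rfl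
      rw [pow_zero, card_eq_one] at hn
      exact hPb hn
    rw [hn]; exact dvd_pow_self p h1
  obtain ⟨y, hy⟩ := exists_prime_orderOf_dvd_card' p hdvd
  have h1 : Nat.card (zpowers (y : G)) = p := by rw [Nat.card_zpowers, orderOf_coe, hy]
  have h2 : zpowers (y : G) ≤ P := by rw [zpowers_le]; exact y.2
  by_cases h3 : zpowers (y : G) = P
  · rw [← h3, h1]
  · have h4 := h _ (lt_of_le_of_ne h2 h3)
    rw [h4, card_bot] at h1
    exact absurd h1 hp.out.one_lt.ne

/-- Structure of the non-simple minimal non-p-closed groups. Call a finite group p-closed when its Sylow p-subgroups are normal, and minimal non-p-closed when it is not p-closed but every proper subgroup and every proper quotient is. If such a group G is not simple, then there is a prime q ≠ p such that G has order p · q^e, where e is the multiplicative order of q modulo p, and G has a normal subgroup A of order q^e that is elementary abelian and is a minimal normal subgroup of G (so G is the semidirect product of A by a group of order p acting irreducibly). -/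
theorem result {G : Type*} [Group G] [Finite G] {p : ℕ} [Fact p.Prime]
    (hnc : ¬ Cfsg.IsPClosed p G) (hsub : ∀ H : Subgroup G, H ≠ ⊤ → Cfsg.IsPClosed p ↥H)
    (hquo : ∀ (N : Subgroup G) [N.Normal], N ≠ ⊥ → Cfsg.IsPClosed p (G ⧸ N)) (hns : ¬ IsSimpleGroup G) :
    ∃ q : ℕ, q.Prime ∧ q ≠ p ∧ Nat.card G = p * q ^ orderOf (q : ZMod p) ∧
      ∃ A : Subgroup G, A.Normal ∧ Nat.card ↥A = q ^ orderOf (q : ZMod p) ∧ Cfsg.IsElementaryAbelian q A ∧
        ∀ B : Subgroup G, B.Normal → B ≤ A → B = ⊥ ∨ B = A := by
  unfold Cfsg.IsPClosed at hnc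
  push Not at hnc
  obtain ⟨P, hPn⟩ := hnc
  have hnt : Nontrivial G := by
    by_contra h
    rw [not_nontrivial_iff_subsingleton] at h
    exact hPn (by rw [Subsingleton.elim (P : Subgroup G) ⊥]; infer_instance)
  obtain ⟨H, hHn, hHb, hHt⟩ : ∃ H : Subgroup G, H.Normal ∧ H ≠ ⊥ ∧ H ≠ ⊤ := by
    by_contra hcon
    push Not at hcon
    apply hns
    exact ⟨fun H hH => by
      by_cases h : H = ⊥
      · exact Or.inl h
      · exact Or.inr (hcon H hH h)⟩
  obtain ⟨N, hNH, hN, hNb, hmin⟩ := H1.Hall.exists_minimal_normal hHn hHb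
  have hNt : N ≠ ⊤ := by
    rintro rfl
    exact hHt (top_le_iff.mp hNH)
  have hPc : Nat.card (P : Subgroup G) = p ^ (Nat.card G).factorization p := P.card_eq_multiplicity
  have hPN : (P : Subgroup G) ⊔ N = ⊤ := by
    by_contra hne
    apply hPn
    have hMn : ((P : Subgroup G) ⊔ N).Normal := by
      have h1 := hquo N hNb (P.mapSurjective (QuotientGroup.mk'_surjective N))
      rw [Sylow.coe_mapSurjective] at h1
      have h2 := h1.comap (QuotientGroup.mk' N)
      rw [comap_map_eq, QuotientGroup.ker_mk'] at h2
      exact h2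
    exact H22.MinPCl.normal_of_le_pclosed (M := (P : Subgroup G) ⊔ N) le_sup_left (hsub _ hne) hPc
  have hNp : (Nat.card N).Coprime p := by
    obtain S : Sylow p N := default
    have hSn : (S : Subgroup N).Normal := hsub N hNt S
    have hSc : (S : Subgroup N).Characteristic := S.characteristic_of_normal hSn
    have h2 : ((S : Subgroup N).map N.subtype).Normal := ConjAct.normal_of_characteristic_of_normal
    rcases hmin _ h2 (map_subtype_le _) with h | h
    · have h3 : (S : Subgroup N) = ⊥ := by
        rw [← (map_injective N.subtype_injective).eq_iff, h, Subgroup.map_bot]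
      have h4 := S.card_eq_multiplicity
      rw [h3, card_bot] at h4
      rw [Nat.coprime_comm, Nat.Prime.coprime_iff_not_dvd Fact.out]
      intro hd
      have h5 : (Nat.card N).factorization p ≠ 0 :=
        (Nat.Prime.factorization_pos_of_dvd Fact.out Nat.card_pos.ne' hd).ne'
      exact (Nat.one_lt_pow h5 (Nat.Prime.one_lt Fact.out)).ne h4
    · exfalso
      have h3 : IsPGroup p N := by
        rw [← h]; exact S.isPGroup'.map N.subtype
      have h4 : N ≤ P := h3.le_sylow_of_normal P
      rw [sup_eq_left.mpr h4] at hPN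
      exact hPn (by rw [hPN]; infer_instance)
  obtain ⟨⟨q, hq, hqp, hNq⟩, hsub0, x, hx, hxc, hxP⟩ :=
    H22.MinPCl.core N P hNb hmin hNp P.isPGroup' hPN hPn hsub
  have hPcen : ¬ (P : Subgroup G) ≤ centralizer (N : Set G) := fun h => hxc (h hx)
  have hC : (P : Subgroup G) ⊓ centralizer (N : Set G) = ⊥ := by
    by_contra hb
    have hCn : ((P : Subgroup G) ⊓ centralizer (N : Set G)).Normal := by
      rw [← normalizer_eq_top_iff, eq_top_iff, ← hPN]
      refine sup_le ?_ ?_
      · intro g hg
        apply H22.Basic.mem_normalizer_of_cj_le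
        rw [H22.Basic.cj_inf, H22.Basic.cj_eq_of_mem hg]
        have h1 : g ∈ normalizer ((centralizer (N : Set G) : Subgroup G) : Set G) := by
          rw [normalizer_eq_top (centralizer (N : Set G))]; trivial
        rw [H22.Basic.cj_eq_of_mem_normalizer h1]
      · intro g hg
        have h1 : g ∈ centralizer (((P : Subgroup G) ⊓ centralizer (N : Set G) : Subgroup G) : Set G) := by
          rw [mem_centralizer_iff]
          intro y hy
          exact (mem_centralizer_iff.mp hy.2 g hg).symm
        exact centralizer_le_normalizer _ h1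
    have h1 := hquo _ hb (P.mapSurjective (QuotientGroup.mk'_surjective ((P : Subgroup G) ⊓ centralizer (N : Set G))))
    rw [Sylow.coe_mapSurjective] at h1
    have h2 := h1.comap (QuotientGroup.mk' ((P : Subgroup G) ⊓ centralizer (N : Set G)))
    rw [comap_map_eq, QuotientGroup.ker_mk', sup_eq_left.mpr inf_le_left] at h2
    exact hPn h2
  have hPp : Nat.card (P : Subgroup G) = p := by
    refine exists_prime_card_or P.isPGroup' ?_ ?_
    · intro h
      exact hPn (by rw [h]; infer_instance)
    · intro P0 h0
      rw [← le_bot_iff, ← hC]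
      exact le_inf h0.le (hsub0 P0 h0)
  obtain ⟨h1, h2⟩ := H22.MinPCl.core_card N P hmin hPp hPN hq hqp hNq hPcen
  exact ⟨q, hq, hqp, h2, N, hN, h1, hNq, hmin⟩

end Cfsg.Agent.S3868
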