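import Cfsg.Statements.S3869
import Cfsg.Agent.H22_MinPCl

set_option autoImplicit false
open Cfsg

namespace Cfsg.Agent.S3869

open Subgroup
open scoped commutatorElement

theorem pclosed_of_not_dvd {H : Type*} [Group H] [Finite H] {p : ℕ} [hp : Fact p.Prime] (h : ¬ p ∣ Nat.card H) :
    Cfsg.IsPClosed p H := by
  intro S
  have h1 := S.card_eq_multiplicity
  rw [Nat.factorization_eq_zero_of_not_dvd h, pow_zero, card_eq_one] at h1
  rw [h1]; infer_instance

theorem pclosed_of_card_dvd {H : Type*} [Group H] [Finite H] {p : ℕ} [hp : Fact p.Prime] (h : Nat.card H ∣ p) :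
    Cfsg.IsPClosed p H := by
  intro S
  have h2 : IsPGroup p H := by
    rcases (Nat.dvd_prime hp.out).mp h with h | h
    · exact IsPGroup.of_card (n := 0) (by rw [h, pow_zero])
    · exact IsPGroup.of_card (n := 1) (by rw [h, pow_one])
  have h3 : (⊤ : Subgroup H) = S := S.is_maximal' (h2.to_subgroup ⊤) le_top
  rw [← h3]; infer_instance

/-- Let p and q be distinct primes and G a finite non-abelian group with a normal elementary abelian q-subgroup A that is a minimal normal subgroup of G and has index p. Then A has order q^e with e the multiplicative order of q modulo p, and G is minimal non-p-closed: its Sylow p-subgroups are not normal, while in every proper subgroup and in every proper quotient of G the Sylow p-subgroups are normal. -/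
theorem result {G : Type*} [Group G] [Finite G] {p q : ℕ} [Fact p.Prime] (hq : q.Prime) (hpq : q ≠ p)
    (hna : ¬ IsMulCommutative G) (A : Subgroup G) [A.Normal] (hA : Cfsg.IsElementaryAbelian q A) (hidx : A.index = p)
    (hmin : ∀ B : Subgroup G, B.Normal → B ≤ A → B = ⊥ ∨ B = A) :
    Nat.card ↥A = q ^ orderOf (q : ZMod p) ∧ ¬ Cfsg.IsPClosed p G ∧ (∀ H : Subgroup G, H ≠ ⊤ → Cfsg.IsPClosed p ↥H) ∧
      ∀ (N : Subgroup G) [N.Normal], N ≠ ⊥ → Cfsg.IsPClosed p (G ⧸ N) := by
  have hp : p.Prime := Fact.out
  have hfq : Fact q.Prime := ⟨hq⟩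
  have hAq : IsPGroup q A := by
    intro a
    exact ⟨1, by rw [pow_one]; exact Subtype.ext (hA.2 a a.2)⟩
  obtain ⟨n, hn⟩ := IsPGroup.iff_card.mp hAq
  have hG : Nat.card G = q ^ n * p := by rw [← hn, ← hidx, A.card_mul_index]
  have hcop : (Nat.card A).Coprime p := by
    rw [hn]; exact Nat.Coprime.pow_left _ ((Nat.coprime_primes hq hp).mpr hpq)
  have hcomm : ∀ x ∈ A, ∀ y ∈ A, x * y = y * x := by
    intro x hx y hy
    exact congrArg Subtype.val (hA.1.is_comm.comm ⟨x, hx⟩ ⟨y, hy⟩)
  -- subgroups of order p
  have hPA : ∀ P : Subgroup G, Nat.card P = p → P ⊔ A = ⊤ := by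
    intro P hP
    have h1 := H1.Coprime.card_sup_of_le_normalizer (A := P) (K := A) (by rw [normalizer_eq_top A]; exact le_top)
      (H22.Basic.inf_eq_bot_of_coprime (by rw [hP]; exact hcop.symm))
    rw [hP, hn, mul_comm, ← hG] at h1
    exact eq_top_of_card_eq _ h1
  have hPnc : ∀ P : Subgroup G, Nat.card P = p → ¬ P ≤ centralizer (A : Set G) := by
    intro P hP hc
    apply hna
    have hPc : IsCyclic P := isCyclic_of_prime_card hP
    have h1 : ∀ x ∈ P, ∀ y ∈ P, x * y = y * x := by
      intro x hx y hy
      exact congrArg Subtype.val (hPc.isMulCommutative.is_comm.comm ⟨x, hx⟩ ⟨y, hy⟩)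
    have h2 : P ⊔ A ≤ center G := by
      have h3 : ∀ T : Subgroup G, P ≤ centralizer (T : Set G) → A ≤ centralizer (T : Set G) → T ≤ center G := by
        intro T h4 h5
        have h6 : (⊤ : Subgroup G) ≤ centralizer (T : Set G) := by
          rw [← hPA P hP]; exact sup_le h4 h5
        intro t ht
        rw [mem_center_iff]
        intro g
        exact (mem_centralizer_iff.mp (h6 (mem_top g)) t ht).symm
      refine sup_le (h3 P ?_ ?_) (h3 A hc ?_)
      · intro x hx
        rw [mem_centralizer_iff]
        intro y hy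
        exact h1 y hy x hx
      · rwa [le_centralizer_iff]
      · intro x hx
        rw [mem_centralizer_iff]
        intro y hy
        exact hcomm y hy x hx
    rw [hPA P hP] at h2
    exact ⟨⟨fun x y => (mem_center_iff.mp (h2 (mem_top y)) x)⟩⟩
  have hnorm : ∀ U : Subgroup G, U ≤ A → ∀ P : Subgroup G, Nat.card P = p → P ≤ normalizer (U : Set G) → U.Normal := by
    intro U hU P hP hPU
    rw [← normalizer_eq_top_iff, eq_top_iff, ← hPA P hP]
    refine sup_le hPU ?_
    intro y hy
    apply H22.Basic.mem_normalizer_of_cj_le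
    rintro _ ⟨u, hu, rfl⟩
    have h1 : y * u = u * y := hcomm y hy u (hU hu)
    show y * u * y⁻¹ ∈ U
    rw [h1]; simpa using hu
  obtain ⟨y, hy⟩ := exists_prime_orderOf_dvd_card' (G := G) p (by rw [hG]; exact dvd_mul_left _ _)
  have hP0 : Nat.card (zpowers y) = p := by rw [Nat.card_zpowers, hy]
  obtain ⟨hc1, -⟩ := H22.MinPCl.core_card A (zpowers y) hmin hP0 (hPA _ hP0) hq hpq hA (hPnc _ hP0)
  refine ⟨hc1, ?_, ?_, ?_⟩
  · intro hcl
    apply hPnc _ hP0
    obtain ⟨S, hS⟩ := (IsPGroup.of_card (p := p) (n := 1) (by rw [hP0, pow_one])).exists_le_sylow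
    have hSn : (S : Subgroup G).Normal := hcl S
    refine hS.trans ?_
    rw [← commutator_eq_bot_iff_le_centralizer, ← le_bot_iff]
    have h1 : (S : Subgroup G) ⊓ A = ⊥ := by
      apply H22.Basic.inf_eq_bot_of_coprime
      obtain ⟨m, hm⟩ := IsPGroup.iff_card.mp S.isPGroup'
      rw [hm]
      exact Nat.Coprime.pow_left _ hcop.symm
    rw [← h1]
    exact commutator_le_inf _ _
  · intro H hH
    by_cases hd : p ∣ Nat.card H
    · intro S
      obtain ⟨z, hz⟩ := exists_prime_orderOf_dvd_card' (G := H) p hd
      have hz1 : Nat.card (zpowers (z : G)) = p := by rw [Nat.card_zpowers, orderOf_coe, hz]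
      have hzH : zpowers (z : G) ≤ H := by rw [zpowers_le]; exact z.2
      have hHA : (H ⊓ A).Normal := by
        apply hnorm _ inf_le_right _ hz1
        intro g hg
        apply H22.Basic.mem_normalizer_of_cj_le
        rw [H22.Basic.cj_inf, H22.Basic.cj_eq_of_mem (hzH hg), H22.Basic.cj_eq_of_mem_normalizer
          (H := A) (by rw [normalizer_eq_top A]; trivial)]
      rcases hmin _ hHA inf_le_right with h | h
      · have h1 : Nat.card H ∣ p := by
          have h2 := H1.Basic.card_map_of_inf_ker_eq_bot (QuotientGroup.mk' A) H (by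
            rw [QuotientGroup.ker_mk']; exact h)
          rw [← h2, ← hidx]
          exact card_subgroup_dvd_card _
        exact pclosed_of_card_dvd h1 S
      · exfalso
        apply hH
        rw [eq_top_iff, ← hPA _ hz1]
        exact sup_le hzH (inf_eq_right.mp h)
    · exact pclosed_of_not_dvd hd
  · intro N hN hNb
    have h1 : (N ⊓ A).Normal := inferInstance
    rcases hmin _ h1 inf_le_right with h | h
    · exfalso
      have h2 : Nat.card N ∣ p := by
        have h2 := H1.Basic.card_map_of_inf_ker_eq_bot (QuotientGroup.mk' A) N (by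
          rw [QuotientGroup.ker_mk']; exact h)
        rw [← h2, ← hidx]
        exact card_subgroup_dvd_card _
      rcases (Nat.dvd_prime hp).mp h2 with h3 | h3
      · rw [card_eq_one] at h3
        exact hNb h3
      · apply hPnc N h3
        rw [← commutator_eq_bot_iff_le_centralizer]
        rw [← le_bot_iff, ← h]
        exact commutator_le_inf N A
    · apply pclosed_of_card_dvd
      have h2 : N.index ∣ A.index := index_dvd_of_le (inf_eq_right.mp h)
      rw [hidx] at h2
      exact h2

end Cfsg.Agent.S3869
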