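import Cfsg.Statements.S3870
import Cfsg.Agent.H22_Basic

set_option autoImplicit false
open Cfsg

namespace Cfsg.Agent.S3870

open Subgroup H22.Basic

/-- Let G be a finite simple group whose Sylow p-subgroups are not normal but such that every proper subgroup of G has a normal Sylow p-subgroup. Then any two distinct Sylow p-subgroups of G intersect trivially, and for every Sylow p-subgroup P the normalizer of every non-identity subgroup of P lies in the normalizer of P. -/
theorem result {G : Type*} [Group G] [Finite G] [IsSimpleGroup G] {p : ℕ} [Fact p.Prime]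
    (hnc : ¬ Cfsg.IsPClosed p G) (hsub : ∀ H : Subgroup G, H ≠ ⊤ → Cfsg.IsPClosed p ↥H) :
    (∀ P Q : Sylow p G, P ≠ Q → (P : Subgroup G) ⊓ (Q : Subgroup G) = ⊥) ∧
      ∀ (P : Sylow p G) (R : Subgroup G), R ≤ P → R ≠ ⊥ →
        Subgroup.normalizer (R : Set G) ≤ Subgroup.normalizer ((P : Subgroup G) : Set G) := by
  have htop : ∀ P : Sylow p G, (P : Subgroup G) ≠ ⊤ := by
    intro P hP
    apply hnc
    intro Q
    have h1 : (Q : Subgroup G) = ⊤ := by
      have hQ : Nat.card (Q : Subgroup G) = Nat.card (P : Subgroup G) := by
        rw [Q.card_eq_multiplicity, P.card_eq_multiplicity]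
      rw [hP, Subgroup.card_top] at hQ
      exact Subgroup.eq_top_of_card_eq _ hQ
    rw [h1]; infer_instance
  have hTI : ∀ P Q : Sylow p G, P ≠ Q → (P : Subgroup G) ⊓ (Q : Subgroup G) = ⊥ := by
    by_contra hcon
    push Not at hcon
    -- choose a pair with maximal intersection
    let S : Set (Sylow p G × Sylow p G) := {x | x.1 ≠ x.2 ∧ (x.1 : Subgroup G) ⊓ (x.2 : Subgroup G) ≠ ⊥}
    have hS : S.Nonempty := by
      obtain ⟨P, Q, h1, h2⟩ := hcon
      exact ⟨(P, Q), h1, h2⟩
    obtain ⟨⟨P, Q⟩, ⟨hPQ, hD⟩, hmax⟩ := Set.exists_max_image S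
      (fun x => Nat.card ((x.1 : Subgroup G) ⊓ (x.2 : Subgroup G) : Subgroup G)) (Set.toFinite _) hS
    simp only at hPQ hD hmax
    set D : Subgroup G := (P : Subgroup G) ⊓ (Q : Subgroup G) with hDdef
    have hDP : D < (P : Subgroup G) := by
      refine lt_of_le_of_ne inf_le_left ?_
      intro h
      apply hPQ
      apply Sylow.ext
      have h1 : (P : Subgroup G) ≤ Q := by rw [← h]; exact inf_le_right
      exact eq_of_le_of_card_le h1 (by rw [Q.card_eq_multiplicity, P.card_eq_multiplicity])
    have hDQ : D < (Q : Subgroup G) := by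
      refine lt_of_le_of_ne inf_le_right ?_
      intro h
      apply hPQ
      apply Sylow.ext
      have h1 : (Q : Subgroup G) ≤ P := by rw [← h]; exact inf_le_left
      exact (eq_of_le_of_card_le h1 (by rw [Q.card_eq_multiplicity, P.card_eq_multiplicity])).symm
    have hN : normalizer (D : Set G) ≠ ⊤ := by
      intro h
      have hn : D.Normal := Subgroup.normalizer_eq_top_iff.mp h
      rcases hn.eq_bot_or_eq_top with h1 | h1
      · exact hD h1
      · exact htop P (top_le_iff.mp (h1 ▸ hDP.le))
    -- normal Sylow of N(D)
    let T : Sylow p (normalizer (D : Set G)) := default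
    have hT := hsub _ hN T
    have hle : ∀ X : Subgroup G, IsPGroup p X → X ≤ normalizer (D : Set G) → X ≤ (T : Subgroup (normalizer (D : Set G))).map (normalizer (D : Set G)).subtype := by
      intro X hX hXN
      have h1 : IsPGroup p (X.subgroupOf (normalizer (D : Set G))) := hX.comap_of_injective _ (Subgroup.subtype_injective _)
      have h2 : X.subgroupOf (normalizer (D : Set G)) ≤ T := by
        obtain ⟨T', hT'⟩ := h1.exists_le_sylow
        have : T' = T := Sylow.ext (by
          have h3 : ((T' ⊔ T : Subgroup (normalizer (D : Set G)))) = T :=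
            T.is_maximal' (IsPGroup.to_sup_of_normal_right T'.isPGroup' T.isPGroup') le_sup_right
          have h4 : (T' : Subgroup (normalizer (D : Set G))) ≤ T := by rw [← h3]; exact le_sup_left
          exact eq_of_le_of_card_le h4 (by rw [T'.card_eq_multiplicity, T.card_eq_multiplicity]))
        rw [← this]; exact hT'
      rw [← map_subtype_subgroupOf hXN]
      exact Subgroup.map_mono h2
    obtain ⟨R, hR⟩ := (T.isPGroup'.map (normalizer (D : Set G)).subtype).exists_le_sylow
    have key : ∀ P' : Sylow p G, D < (P' : Subgroup G) → P' = R := by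
      intro P' hP'
      by_contra hne
      have hPn : IsPGroup p (P' : Subgroup G) := P'.isPGroup'
      -- normalizer of D in P' is bigger
      have h1 : D < (P' : Subgroup G) ⊓ normalizer (D : Set G) := by
        refine lt_of_le_of_ne (le_inf hP'.le le_normalizer) ?_
        intro h
        have hnil := hPn.isNilpotent
        have hnc := (Group.isNilpotent_of_finite_tfae (G := (P' : Subgroup G))).out 0 1 rfl rfl
        have hnc' := hnc.mp hnil
        have h2 : D.subgroupOf (P' : Subgroup G) < ⊤ := by
          rw [lt_top_iff_ne_top]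
          intro h3
          rw [Subgroup.subgroupOf_eq_top] at h3
          exact hP'.not_ge h3
        have h3 := hnc' _ h2
        obtain ⟨⟨y, hyP⟩, hyN, hyD⟩ := SetLike.exists_of_lt h3
        apply hyD
        show y ∈ D
        rw [h]
        refine mem_inf.mpr ⟨hyP, ?_⟩
        rw [mem_normalizer_iff]
        intro z
        rw [mem_normalizer_iff] at hyN
        constructor
        · intro hz
          have hzP := hP'.le hz
          exact (hyN ⟨z, hzP⟩).mp hz
        · intro hz
          have hzP : z ∈ (P' : Subgroup G) := by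
            have := hP'.le hz
            have h5 : z = y⁻¹ * (y * z * y⁻¹) * y := by group
            rw [h5]
            exact mul_mem (mul_mem (inv_mem hyP) this) hyP
          exact (hyN ⟨z, hzP⟩).mpr hz
      have h2 : (P' : Subgroup G) ⊓ normalizer (D : Set G) ≤ (R : Subgroup G) :=
        (hle _ (hPn.to_le inf_le_left) inf_le_right).trans hR
      have h3 : (P' : Subgroup G) ⊓ normalizer (D : Set G) ≤ (P' : Subgroup G) ⊓ (R : Subgroup G) := le_inf inf_le_left h2
      have h4 : (P', R) ∈ S := by
        refine ⟨hne, ?_⟩
        intro h5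
        apply hD
        rw [eq_bot_iff, ← h5]
        exact h1.le.trans h3
      have h5 := hmax _ h4
      have h6 := card_lt_of_lt (h1.trans_le h3)
      exact absurd h5 (not_le.mpr h6)
    exact hPQ ((key P hDP).trans (key Q hDQ).symm)
  refine ⟨hTI, ?_⟩
  intro P R hRP hR g hg
  by_contra hgn
  have hne : g • P ≠ P := by
    intro h
    apply hgn
    rw [mem_normalizer_iff_cj]
    exact congrArg (fun X : Sylow p G => (X : Subgroup G)) h
  have h1 := hTI _ _ hne
  apply hR
  rw [eq_bot_iff, ← h1]
  refine le_inf ?_ hRP
  show R ≤ cj g (P : Subgroup G)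
  rw [← cj_eq_of_mem_normalizer hg]
  exact cj_mono hRP

end Cfsg.Agent.S3870
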